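import Cfsg.Agent.Lib.Comp.CTodd
set_option autoImplicit false
set_option linter.all false
set_option maxRecDepth 100000
universe u
namespace CA.LyTC
open CA.CNet CA.CWord CA.CLevel CA.CSimple CA.CPoint CA.CTodd 
noncomputable section
def r44 : List Word := [[0,0,0,0,0,0,0,0], [2,2,2,2,2], [0,2,0,2,0,2,0,2], [1,1,3,0,0,2], [1,3,0,2,1,3,0,2,1,3,0,2], [20,5], [22,1,5,0], [24,3,5,2], [26,2,5,3], [28,23,21,22,20], [20,20,20,20,20], [28,28,28,28,28], [21,29,20,28], [23,29,22,28], [25,29,24,28], [27,29,26,28], [21,25,20,24,28,28], [21,27,20,26,29,29], [23,25,22,24,28], [23,27,22,26], [25,27,24,26,28], [1,22,0,20,20], [1,24,0,27,21,24,24], [1,26,0,27,21,27,24,22,21], [1,28,0,29,29], [3,22,2,26,20,26,25,23], [3,24,2,24,24,27,21,21], [3,28,2,29], [10,7,21,7,2,1,3,21,7,1,21,0,21,1,20,0,2,2], [10,10], [11,20,10,20,3,25,3], [11,24,10,0,26,20,23,1,3,3], [11,26,10,27,24,3,3], [11,28,10,26,21,24,21], [10,0,0,10,26,29,21,1,2,1,3,3,1],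 [11,2,10,26,26,24,21], [10,0,2,2,0,3,0,10,26,29,21,1,1], [10,22,10,23,10,22,27,0,24,0,0,0], [6,11,3,22,1,11,1,11,1,28,26,20,2,0,3,3,1], [6,6,1,1,1,1], [3,7,2,6], [7,0,6,1,1,1], [6,28,6,28,6,28,6,28,6,28], [6,28,6,29,6,28,1,1]]
namespace T0
noncomputable def A_0 : List (ℕ) := [nat_lit 0x5921be733390e463d1f288625989685c3894627a1e84843950f6832248928241c294551618a7aa2108461f1c48791e607078a2c0b782ea1109353619a7441f0ae82c1d44b02c20b25c2178b242d0bd05f2e49a45a917c5f8151b24743688ee3a31c4d34599a88711c5868a71338ff86929e8d234a0e0589168ce8679688cf33e0dc6f21dd04298920c8e36c91c8122388e623262cb32cd8b62e31685a6138da45833617a4631105d41496c4613460de57b1650184695ac5816084e5e918c6381617646218985854115c578131ae49d26d89c6ab1c949664a06c8f2898a46e22749d6278c302b1818562ac094cb25193d04f3f59164e41385661314b0c928c8a82a30954a47e1488533f21146491ac522451150422349863790ccc36611168431b11846131909f22819506b1390d635c0c1484769328c83218d45093b4ed6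3f9d887e3ad21c3f4200ef2419dc4802020765021405362893445114584684a2510e84c2144982620987922089484a9e64952560942831344d610906c82209878499318f724390b03e3c1902a3c31ce963e92e8e739d10e3e2318c663410244912583e3bb1d47561b10f03f21987e3dc0e47826f9bb07651198a6c41cc916241ad07237c8f43d30e47221a91e4c43120cc259224c7234912c8812103c62a220886200ec44711e03a3ea0e83a60b87c4191a58ce1c219c676170e68350d60282c90a42960785500f0d08e03810d84440e0cb02d0c98dc3711184660e8b68280a201c13b0382c40808ac4309888621b06c4f21204900c0ac82019b0c425418862c1208a0162141fc642180604121a907a3fa0ec3b80b846c0c1320d02510842160587b0180f18303410bc4140f83e80a0de02a1b30543f40c840c1e0e483c0f30246621708081d07501216a0681a40405e41705c80e0cb0581660305c41405080c0890141c40781e80404c81c0710101060681ac0306d01806200c1220581640306081405400815204812c0202100403c0040660080a40101200001b00002400002400,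
  nat_lit 0x3484c11113c33215826c3303504a0d91086442105b0641a98602521a83d43f84643b1308461091301f6250824680698821020fc0a61002c4391008cc0d410011416822c2f01d83208c0b80860e00ac1301182004406c0580900e41801882ad736b5cb8cab40d2273232cd0b48dcd8cbb4ed2873e33aeca77ddc6e83b4dca775ba2edb739de6e93b0dc877e3a8eb26f5c76c33a0dc46e1aa4e8b719b96aa3a4dc26f6300af14e93585aaa8cd44ce168a9334db78a7a74586619a04ea46edc06b33ab1bc705ad4ebc6f9c56c53a71ba6fe2f6cbc6ad1e68eb3b1af485b3ecac6a514689b2d1aa45a13c8aa6255b6bca3aca2575b1acfb525636b8226c9b626208af94ed3d2a9aa6d83508aaaaab645a58933489725c9a08d1a5896266f36295c6c1a7891a298aa62b250d326119fad6b4d14b665a44d3929a152e5264d9c68db9cdaa6d5b6ce436ad92687b92daf64e328ca4449516a828111c2f9978a0c6d0c1660287110616202c3c4093b6d41744603418de9342a10064697f0a74f09987f422cab42ba525755d59ded1353d688cf272cb959e3349a32d58b8cca64cb45ad9cabe43d11c2beafb0f56d0b04c136691084cb2051244a134d415715c88499906c29e248921639736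7724a98e639a14ad43c9af29fb5252a4fd97ad514b12a895b565364b225a9b44dd712d9a6f0b75c19d696c2c18d684a570ae6ccaf2bcb3c98f48db6cd485d21dc87b26576877a22c9a46d2f6bdc3cd7a679afc8f630127c7b43e18127db004f83e210a5e24313e8d93225b26ca28ea823e90c886b0650d43612ecf14c19828ba60d4a6692328fc2c52e2c62f10f166522e8cb2819b88d2df0ea45d93e9c44616d87425ecb2631afee115b17f67bb8cdbe5dd9e0e236f16e674b8696c5b19ce7db3e8fa6431584e35a49cc71b381654d32cc8e03818f054a41d276d33145a6699a88a6239907682ad4505415922de1585be2b22c2d606ed2aeacb561ba4b22aed56469310ab3355208522b0cd76b2294b033711884fb11164,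
  nat_lit 0x441304cf464190488216d90568b5053a33055453af4524494ae6544495362d7a7e5a96cda7e9516a8ad8952585ab2be2585b44d9372b89d91715c0a6e9695c18d296a5658d5e4a56a6b6cdb64c7a14d8f5d136c87a5d176487a229765ed22250c46cfa4bf1ec8c02121ec7c1605b22c027c8bc51a27c8696450c4a812d10c3ecb068f9679302cc164d3047d33452447d2069716312e5e0a5ccd95e1778bc232999539a32cdb5396f2cda7056f5ba2de5c345d3865c2da5386b1a5e9795b56c8b6b1852f421b18dd47097f2e138c57f5dcb8ce215dd6e2e238656e6ee38643b3ed272561c65691e59c6702594e44b324e8a9515a4e829629074a6124d07390ad4ac96f1612df1bad615653766c3565574dd1acd57559234503469204ab2b09206b12b0b026b1184b031091840e3103db3989647c9c2cf942d12ca3242cc78a31cacf42491ca7ac419454830f28e12191ea3da3888167896e8f142116ea6a420e84a695c8e83a915c3eb3a8ff45c0bc8b20a60bc2f92e45c25aa624d91d09b41ab1d0714698ea8d43fca9c4643fccf4a799c4b11b619c2e22d09046f12050411d9203a936cb3481188d310a18b86691b4328369184cd1749185b3174d125b15e4d140495e56940463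2568c24bd1809762a92a07386b9364d7354936a49355032a49445033709443b43709e2658d90cb3f493c4e13f45624e14a45615094a29328cca4a51f88a43b61f84513242422908a48d30c8de32b30cc244586286c32893e64432822427190948135132289284824760fc8eb0ea0fc4013bc982770a68a00918a62692690e48498d10e254a144a23c84984a1064f30898a01eb20cf76498924932149ee781215472781d254725c9d225b25c7c87387487c0f09021bb1dcdd23c0710785109ba6c15109126c1ac4911e89ac47b37cc423908e48f08089644931c4164491084819d18a1b91d83c43e8d243e0bd8d20b20e03743984e45916c8541a20a81481a088c701950881921941341906c46e0a108c33416c45416038c45,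
  nat_lit 0x72d35ce796b9356d73409cb76a396e626813a6d03429cc76e398e6a685b76d0b4e9cd76239ae7a69d336d3bb31cf7263b2ee2765da4ee3aaddc7753b4eda775d76eebbc9db7613bce9b779df4ec3ad1df70e3ace3a759d04e3b02dc76e13a0e8a6e1836dc3729d1749372c8b6e5bd4e92bd1bd4d4abc6dc5795429aa66554548a66db9549862db972d3a6fcba8e02751d54e031edc07053aaeba705746e0b8a9d774d38abb3715bf4e9acb1bf458b2e8f265d9d48f146d1e48533acaa484a5690a289956592284e3451164cb22b11627622aada4551d4ad9b2d5b57523acfa574da6aeac699f44d2c66f358d89489ae318936dabec0457da52af976d3d6c627ac394f553869a849532fda84d1c5095586a34a95569234a92c6915a4d22e50ec68cae492468d62875b625626c2362bd26c1752d83451232a92469422a8ac6553089286b5308b4b6114b4d6a4494b531a96532488548533531ca671394e72671406ce36a9ce72136aa0b6d5924e439299250db24c9a725118c9b0a594545328a02544d16a897c94050517c30b2f8c14a0a868c118d982c2a50d7e8c2980c62331a98ae3368d98ad314d755ce2d4bd4595666c72d30fe2a60aa2bb2b06085e20117e5419a0c3b6053b2c3974d3b2ad9746812e9262682005262fca003112fd3c65d9fc53c2ac9fc94b2ada8694ae65295ad344b41689392b41c516859ca729a159ce18b3b165344c8b1683462d6b299330d6b5f1b308915f11c4be142d1c5f5b32da25f5486da3050f9]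
noncomputable def A : List (List (ℕ)) := [A_0]
noncomputable def K_0 : List (ℕ) := [nat_lit 0x7667a6ada387a1d7f23f5e6427c9f8601827b9776358c6459063de85d5ea5cdfe7ddfd869f07d21758dd25a1b273ddf781666e1646d9dc775d770e7f74dd571e646b59868993575715695f6759aa16439f2876fa3e6f28078de67b5c4789d472de5759e7709e97021c9e699859ba98e936a1a469db36498a665ac6c5aa6dd88651835d1fb5fd815e9f5595d0581cd67dc6671a0571595b16b5e1f15f17b5c18b4c98e559725a9627bd695b9585b5de5416176d4a679467219b6593354d2a54521521356f5bb6c1af785e4715ca511c9539bf6e5a96b9a6625a161d7e4f5975f52f5792e5bd5b55d45501494f9364a520495544b12b4c55548d5249d2653d4b4e9474e13447118479414ed4c535435093f4e53c4c1374b5244a12247d1543d1d4690b46d194251744d0d45911451124410e4310a4210741905411034090140000,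
  nat_lit 0xb3ed1b4ed5b4ad4b5ad0aeaceaf2beae2c8b2accb5e90b66dbb7692a328eb3624ae62288226aeebdade0db1e0e82e09b26cbb064ca3e6b93e3ba729b976dea5a039625a97266b6213a86a0a7a76b6adcaaa36ad2918b6338be35adab0aca8aa2e8d8f2689365f946279c614a9e00a0abfa0e978e26a90640896449b26e91a4593a3088e499de4b9869f956538b2218a61f9be1086e759ce18865ffaa69d83202a9ac6aae65ab65e82a0482206a8ac4a92c2a263a761da7ae12a55a56d5955d9f97cd67a12a3a1a8896e3da967ba06c09d22a95256b1672b0e70732348a23194a57942599e2988567e98262a6a94ace058cab5ab26d91e078ba018aeafabab1aa26792269929858de397e984619ec845f683dd16d1ce7067d]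
noncomputable def K : List (List (ℕ)) := [K_0]
noncomputable def R_0 : List (Rule) := [Rule.mk (nat_lit 1) (nat_lit 63) (Steps.bwd (nat_lit 1) (Steps.bwd (nat_lit 3) (Steps.bwd (nat_lit 2) (Steps.fwd (nat_lit 1024) (Steps.fwd (nat_lit 3072) Steps.nil))))) (nat_lit 6) (nat_lit 4),
  Rule.mk (nat_lit 1) (nat_lit 63) (Steps.bwd (nat_lit 1) (Steps.bwd (nat_lit 4) (Steps.bwd (nat_lit 2) (Steps.fwd (nat_lit 1024) (Steps.fwd (nat_lit 4096) Steps.nil))))) (nat_lit 7) (nat_lit 5),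
  Rule.mk (nat_lit 4) (nat_lit 63) (Steps.bwd (nat_lit 1) (Steps.bwd (nat_lit 1) (Steps.bwd (nat_lit 3) (Steps.fwd (nat_lit 1024) (Steps.fwd (nat_lit 1024) Steps.nil))))) (nat_lit 6) (nat_lit 3),
  Rule.mk (nat_lit 4) (nat_lit 63) (Steps.bwd (nat_lit 2) (Steps.bwd (nat_lit 2) (Steps.bwd (nat_lit 3) (Steps.fwd (nat_lit 2048) (Steps.fwd (nat_lit 2048) Steps.nil))))) (nat_lit 7) (nat_lit 1),
  Rule.mk (nat_lit 3) (nat_lit 52) (Steps.bwd (nat_lit 3) (Steps.bwd (nat_lit 3) (Steps.bwd (nat_lit 3) (Steps.fwd (nat_lit 4096) Steps.nil)))) (nat_lit 2) (nat_lit 0),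
  Rule.mk (nat_lit 3) (nat_lit 63) (Steps.bwd (nat_lit 1) (Steps.bwd (nat_lit 1) (Steps.bwd (nat_lit 4) (Steps.fwd (nat_lit 1024) (Steps.fwd (nat_lit 1024) Steps.nil))))) (nat_lit 7) (nat_lit 4),
  Rule.mk (nat_lit 3) (nat_lit 63) (Steps.bwd (nat_lit 2) (Steps.bwd (nat_lit 2) (Steps.bwd (nat_lit 4) (Steps.fwd (nat_lit 2048) (Steps.fwd (nat_lit 2048) Steps.nil))))) (nat_lit 6) (nat_lit 0),
  Rule.mk (nat_lit 2) (nat_lit 85) (Steps.bwd (nat_lit 2) (Steps.bwd (nat_lit 2) (Steps.bwd (nat_lit 2) (Steps.bwd (nat_lit 2) (Steps.fwd (nat_lit 1024) (Steps.fwd (nat_lit 1024) (Steps.fwd (nat_lit 1024) Steps.nil))))))) (nat_lit 1) (nat_lit 0),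
  Rule.mk (nat_lit 1) (nat_lit 63) (Steps.bwd (nat_lit 1) (Steps.fwd (nat_lit 4096) (Steps.bwd (nat_lit 2) (Steps.bwd (nat_lit 2) (Steps.bwd (nat_lit 4) Steps.nil))))) (nat_lit 6) (nat_lit 4),
  Rule.mk (nat_lit 1) (nat_lit 63) (Steps.bwd (nat_lit 1) (Steps.bwd (nat_lit 3) (Steps.fwd (nat_lit 1024) (Steps.fwd (nat_lit 1024) (Steps.fwd (nat_lit 3072) Steps.nil))))) (nat_lit 6) (nat_lit 4),
  Rule.mk (nat_lit 2) (nat_lit 63) (Steps.bwd (nat_lit 2) (Steps.fwd (nat_lit 3072) (Steps.bwd (nat_lit 1) (Steps.bwd (nat_lit 1) (Steps.bwd (nat_lit 3) Steps.nil))))) (nat_lit 6) (nat_lit 1),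
  Rule.mk (nat_lit 1) (nat_lit 63) (Steps.bwd (nat_lit 1) (Steps.fwd (nat_lit 3072) (Steps.bwd (nat_lit 2) (Steps.bwd (nat_lit 2) (Steps.bwd (nat_lit 3) Steps.nil))))) (nat_lit 7) (nat_lit 5),
  Rule.mk (nat_lit 3) (nat_lit 85) (Steps.bwd (nat_lit 1) (Steps.bwd (nat_lit 3) (Steps.bwd (nat_lit 1) (Steps.bwd (nat_lit 3) (Steps.fwd (nat_lit 2048) (Steps.fwd (nat_lit 4096) (Steps.fwd (nat_lit 2048) Steps.nil))))))) (nat_lit 4) (nat_lit 0),
  Rule.mk (nat_lit 1) (nat_lit 63) (Steps.bwd (nat_lit 4) (Steps.fwd (nat_lit 1024) (Steps.bwd (nat_lit 2) (Steps.bwd (nat_lit 3) (Steps.bwd (nat_lit 1) Steps.nil))))) (nat_lit 7) (nat_lit 0),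
  Rule.mk (nat_lit 1) (nat_lit 63) (Steps.bwd (nat_lit 3) (Steps.bwd (nat_lit 2) (Steps.fwd (nat_lit 1024) (Steps.fwd (nat_lit 3072) (Steps.bwd (nat_lit 1) Steps.nil))))) (nat_lit 6) (nat_lit 5),
  Rule.mk (nat_lit 1) (nat_lit 63) (Steps.bwd (nat_lit 4) (Steps.fwd (nat_lit 1024) (Steps.fwd (nat_lit 1024) (Steps.fwd (nat_lit 4096) (Steps.bwd (nat_lit 1) Steps.nil))))) (nat_lit 7) (nat_lit 0),
  Rule.mk (nat_lit 2) (nat_lit 63) (Steps.bwd (nat_lit 2) (Steps.bwd (nat_lit 4) (Steps.bwd (nat_lit 1) (Steps.bwd (nat_lit 1) (Steps.fwd (nat_lit 4096) Steps.nil))))) (nat_lit 6) (nat_lit 1),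
  Rule.mk (nat_lit 2) (nat_lit 63) (Steps.bwd (nat_lit 2) (Steps.bwd (nat_lit 4) (Steps.bwd (nat_lit 1) (Steps.fwd (nat_lit 2048) (Steps.bwd (nat_lit 3) Steps.nil))))) (nat_lit 6) (nat_lit 1),
  Rule.mk (nat_lit 3) (nat_lit 63) (Steps.bwd (nat_lit 1) (Steps.bwd (nat_lit 1) (Steps.fwd (nat_lit 3072) (Steps.fwd (nat_lit 1024) (Steps.bwd (nat_lit 2) Steps.nil))))) (nat_lit 7) (nat_lit 4),
  Rule.mk (nat_lit 4) (nat_lit 63) (Steps.bwd (nat_lit 1) (Steps.bwd (nat_lit 1) (Steps.fwd (nat_lit 4096) (Steps.fwd (nat_lit 1024) (Steps.bwd (nat_lit 2) Steps.nil))))) (nat_lit 6) (nat_lit 3),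
  Rule.mk (nat_lit 2) (nat_lit 63) (Steps.bwd (nat_lit 4) (Steps.fwd (nat_lit 2048) (Steps.fwd (nat_lit 2048) (Steps.bwd (nat_lit 3) (Steps.fwd (nat_lit 1024) Steps.nil))))) (nat_lit 6) (nat_lit 2),
  Rule.mk (nat_lit 1) (nat_lit 63) (Steps.bwd (nat_lit 4) (Steps.bwd (nat_lit 2) (Steps.fwd (nat_lit 1024) (Steps.bwd (nat_lit 3) (Steps.fwd (nat_lit 2048) Steps.nil))))) (nat_lit 7) (nat_lit 0),
  Rule.mk (nat_lit 2) (nat_lit 63) (Steps.bwd (nat_lit 2) (Steps.bwd (nat_lit 3) (Steps.bwd (nat_lit 1) (Steps.bwd (nat_lit 1) (Steps.fwd (nat_lit 3072) Steps.nil))))) (nat_lit 7) (nat_lit 2),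
  Rule.mk (nat_lit 3) (nat_lit 52) (Steps.bwd (nat_lit 3) (Steps.bwd (nat_lit 3) (Steps.fwd (nat_lit 4096) (Steps.bwd (nat_lit 3) Steps.nil)))) (nat_lit 2) (nat_lit 0),
  Rule.mk (nat_lit 1) (nat_lit 63) (Steps.bwd (nat_lit 1) (Steps.bwd (nat_lit 3) (Steps.bwd (nat_lit 2) (Steps.bwd (nat_lit 2) (Steps.fwd (nat_lit 3072) Steps.nil))))) (nat_lit 6) (nat_lit 4),
  Rule.mk (nat_lit 2) (nat_lit 63) (Steps.bwd (nat_lit 2) (Steps.fwd (nat_lit 3072) (Steps.fwd (nat_lit 2048) (Steps.fwd (nat_lit 2048) (Steps.bwd (nat_lit 3) Steps.nil))))) (nat_lit 6) (nat_lit 1),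
  Rule.mk (nat_lit 4) (nat_lit 85) (Steps.bwd (nat_lit 2) (Steps.bwd (nat_lit 4) (Steps.fwd (nat_lit 1024) (Steps.fwd (nat_lit 3072) (Steps.fwd (nat_lit 1024) (Steps.bwd (nat_lit 4) (Steps.fwd (nat_lit 1024) Steps.nil))))))) (nat_lit 5) (nat_lit 1),
  Rule.mk (nat_lit 2) (nat_lit 63) (Steps.bwd (nat_lit 3) (Steps.fwd (nat_lit 2048) (Steps.bwd (nat_lit 1) (Steps.bwd (nat_lit 4) (Steps.bwd (nat_lit 2) Steps.nil))))) (nat_lit 7) (nat_lit 3),
  Rule.mk (nat_lit 2) (nat_lit 63) (Steps.bwd (nat_lit 3) (Steps.bwd (nat_lit 1) (Steps.fwd (nat_lit 2048) (Steps.bwd (nat_lit 4) (Steps.fwd (nat_lit 1024) Steps.nil))))) (nat_lit 7) (nat_lit 3),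
  Rule.mk (nat_lit 2) (nat_lit 63) (Steps.bwd (nat_lit 4) (Steps.fwd (nat_lit 2048) (Steps.bwd (nat_lit 1) (Steps.bwd (nat_lit 3) (Steps.bwd (nat_lit 2) Steps.nil))))) (nat_lit 6) (nat_lit 2),
  Rule.mk (nat_lit 2) (nat_lit 63) (Steps.bwd (nat_lit 2) (Steps.fwd (nat_lit 3072) (Steps.fwd (nat_lit 2048) (Steps.fwd (nat_lit 2048) (Steps.fwd (nat_lit 4096) Steps.nil))))) (nat_lit 6) (nat_lit 1),
  Rule.mk (nat_lit 3) (nat_lit 63) (Steps.bwd (nat_lit 1) (Steps.bwd (nat_lit 1) (Steps.fwd (nat_lit 3072) (Steps.bwd (nat_lit 2) (Steps.bwd (nat_lit 2) Steps.nil))))) (nat_lit 7) (nat_lit 4),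
  Rule.mk (nat_lit 1) (nat_lit 63) (Steps.bwd (nat_lit 4) (Steps.bwd (nat_lit 2) (Steps.fwd (nat_lit 1024) (Steps.fwd (nat_lit 4096) (Steps.fwd (nat_lit 2048) Steps.nil))))) (nat_lit 7) (nat_lit 0),
  Rule.mk (nat_lit 2) (nat_lit 63) (Steps.bwd (nat_lit 2) (Steps.bwd (nat_lit 3) (Steps.fwd (nat_lit 2048) (Steps.fwd (nat_lit 2048) (Steps.fwd (nat_lit 3072) Steps.nil))))) (nat_lit 7) (nat_lit 2),
  Rule.mk (nat_lit 1) (nat_lit 63) (Steps.bwd (nat_lit 1) (Steps.bwd (nat_lit 4) (Steps.fwd (nat_lit 1024) (Steps.bwd (nat_lit 2) (Steps.fwd (nat_lit 4096) Steps.nil))))) (nat_lit 7) (nat_lit 5),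
  Rule.mk (nat_lit 1) (nat_lit 63) (Steps.bwd (nat_lit 1) (Steps.bwd (nat_lit 4) (Steps.fwd (nat_lit 1024) (Steps.fwd (nat_lit 1024) (Steps.fwd (nat_lit 4096) Steps.nil))))) (nat_lit 7) (nat_lit 5),
  Rule.mk (nat_lit 3) (nat_lit 85) (Steps.bwd (nat_lit 1) (Steps.bwd (nat_lit 3) (Steps.bwd (nat_lit 1) (Steps.bwd (nat_lit 3) (Steps.fwd (nat_lit 2048) (Steps.fwd (nat_lit 4096) (Steps.bwd (nat_lit 1) Steps.nil))))))) (nat_lit 4) (nat_lit 0),
  Rule.mk (nat_lit 1) (nat_lit 63) (Steps.bwd (nat_lit 4) (Steps.fwd (nat_lit 1024) (Steps.fwd (nat_lit 1024) (Steps.bwd (nat_lit 3) (Steps.bwd (nat_lit 1) Steps.nil))))) (nat_lit 7) (nat_lit 0),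
  Rule.mk (nat_lit 1) (nat_lit 63) (Steps.bwd (nat_lit 4) (Steps.bwd (nat_lit 2) (Steps.fwd (nat_lit 1024) (Steps.fwd (nat_lit 4096) (Steps.bwd (nat_lit 1) Steps.nil))))) (nat_lit 7) (nat_lit 0),
  Rule.mk (nat_lit 1) (nat_lit 63) (Steps.bwd (nat_lit 3) (Steps.bwd (nat_lit 2) (Steps.bwd (nat_lit 2) (Steps.fwd (nat_lit 3072) (Steps.bwd (nat_lit 1) Steps.nil))))) (nat_lit 6) (nat_lit 5),
  Rule.mk (nat_lit 1) (nat_lit 63) (Steps.bwd (nat_lit 4) (Steps.fwd (nat_lit 1024) (Steps.bwd (nat_lit 2) (Steps.fwd (nat_lit 4096) (Steps.bwd (nat_lit 1) Steps.nil))))) (nat_lit 7) (nat_lit 0),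
  Rule.mk (nat_lit 4) (nat_lit 63) (Steps.bwd (nat_lit 1) (Steps.bwd (nat_lit 1) (Steps.bwd (nat_lit 3) (Steps.fwd (nat_lit 1024) (Steps.bwd (nat_lit 2) Steps.nil))))) (nat_lit 6) (nat_lit 3),
  Rule.mk (nat_lit 1) (nat_lit 63) (Steps.bwd (nat_lit 1) (Steps.fwd (nat_lit 3072) (Steps.fwd (nat_lit 1024) (Steps.fwd (nat_lit 1024) (Steps.fwd (nat_lit 4096) Steps.nil))))) (nat_lit 7) (nat_lit 5),
  Rule.mk (nat_lit 4) (nat_lit 85) (Steps.bwd (nat_lit 2) (Steps.bwd (nat_lit 4) (Steps.bwd (nat_lit 2) (Steps.fwd (nat_lit 3072) (Steps.fwd (nat_lit 1024) (Steps.fwd (nat_lit 3072) (Steps.bwd (nat_lit 2) Steps.nil))))))) (nat_lit 5) (nat_lit 1),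
  Rule.mk (nat_lit 3) (nat_lit 63) (Steps.bwd (nat_lit 2) (Steps.bwd (nat_lit 2) (Steps.bwd (nat_lit 4) (Steps.fwd (nat_lit 2048) (Steps.bwd (nat_lit 1) Steps.nil))))) (nat_lit 6) (nat_lit 0),
  Rule.mk (nat_lit 1) (nat_lit 63) (Steps.bwd (nat_lit 3) (Steps.bwd (nat_lit 2) (Steps.bwd (nat_lit 2) (Steps.bwd (nat_lit 4) (Steps.fwd (nat_lit 2048) Steps.nil))))) (nat_lit 6) (nat_lit 5),
  Rule.mk (nat_lit 1) (nat_lit 63) (Steps.bwd (nat_lit 3) (Steps.fwd (nat_lit 1024) (Steps.bwd (nat_lit 2) (Steps.fwd (nat_lit 3072) (Steps.bwd (nat_lit 1) Steps.nil))))) (nat_lit 6) (nat_lit 5),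
  Rule.mk (nat_lit 1) (nat_lit 63) (Steps.bwd (nat_lit 1) (Steps.bwd (nat_lit 3) (Steps.fwd (nat_lit 1024) (Steps.bwd (nat_lit 2) (Steps.fwd (nat_lit 3072) Steps.nil))))) (nat_lit 6) (nat_lit 4),
  Rule.mk (nat_lit 3) (nat_lit 63) (Steps.bwd (nat_lit 1) (Steps.fwd (nat_lit 2048) (Steps.bwd (nat_lit 4) (Steps.bwd (nat_lit 2) (Steps.fwd (nat_lit 1024) Steps.nil))))) (nat_lit 7) (nat_lit 4),
  Rule.mk (nat_lit 1) (nat_lit 63) (Steps.bwd (nat_lit 1) (Steps.bwd (nat_lit 4) (Steps.bwd (nat_lit 2) (Steps.bwd (nat_lit 2) (Steps.bwd (nat_lit 3) Steps.nil))))) (nat_lit 7) (nat_lit 5),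
  Rule.mk (nat_lit 4) (nat_lit 52) (Steps.bwd (nat_lit 4) (Steps.bwd (nat_lit 4) (Steps.fwd (nat_lit 3072) (Steps.fwd (nat_lit 3072) Steps.nil)))) (nat_lit 3) (nat_lit 0),
  Rule.mk (nat_lit 2) (nat_lit 63) (Steps.bwd (nat_lit 2) (Steps.fwd (nat_lit 3072) (Steps.bwd (nat_lit 1) (Steps.bwd (nat_lit 1) (Steps.fwd (nat_lit 4096) Steps.nil))))) (nat_lit 6) (nat_lit 1),
  Rule.mk (nat_lit 4) (nat_lit 52) (Steps.bwd (nat_lit 4) (Steps.bwd (nat_lit 4) (Steps.bwd (nat_lit 4) (Steps.fwd (nat_lit 3072) Steps.nil)))) (nat_lit 3) (nat_lit 0),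
  Rule.mk (nat_lit 1) (nat_lit 63) (Steps.bwd (nat_lit 1) (Steps.fwd (nat_lit 3072) (Steps.bwd (nat_lit 2) (Steps.bwd (nat_lit 2) (Steps.fwd (nat_lit 4096) Steps.nil))))) (nat_lit 7) (nat_lit 5),
  Rule.mk (nat_lit 2) (nat_lit 63) (Steps.bwd (nat_lit 2) (Steps.bwd (nat_lit 4) (Steps.bwd (nat_lit 1) (Steps.bwd (nat_lit 1) (Steps.bwd (nat_lit 3) Steps.nil))))) (nat_lit 6) (nat_lit 1),
  Rule.mk (nat_lit 2) (nat_lit 63) (Steps.bwd (nat_lit 2) (Steps.bwd (nat_lit 3) (Steps.fwd (nat_lit 2048) (Steps.bwd (nat_lit 1) (Steps.fwd (nat_lit 3072) Steps.nil))))) (nat_lit 7) (nat_lit 2),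
  Rule.mk (nat_lit 1) (nat_lit 63) (Steps.bwd (nat_lit 1) (Steps.bwd (nat_lit 3) (Steps.bwd (nat_lit 2) (Steps.bwd (nat_lit 2) (Steps.bwd (nat_lit 4) Steps.nil))))) (nat_lit 6) (nat_lit 4),
  Rule.mk (nat_lit 2) (nat_lit 63) (Steps.bwd (nat_lit 2) (Steps.bwd (nat_lit 3) (Steps.bwd (nat_lit 1) (Steps.fwd (nat_lit 2048) (Steps.fwd (nat_lit 3072) Steps.nil))))) (nat_lit 7) (nat_lit 2),
  Rule.mk (nat_lit 3) (nat_lit 52) (Steps.bwd (nat_lit 3) (Steps.bwd (nat_lit 3) (Steps.fwd (nat_lit 4096) (Steps.fwd (nat_lit 4096) Steps.nil)))) (nat_lit 2) (nat_lit 0),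
  Rule.mk (nat_lit 3) (nat_lit 85) (Steps.bwd (nat_lit 1) (Steps.bwd (nat_lit 3) (Steps.fwd (nat_lit 2048) (Steps.bwd (nat_lit 3) (Steps.fwd (nat_lit 2048) (Steps.fwd (nat_lit 4096) (Steps.bwd (nat_lit 1) Steps.nil))))))) (nat_lit 4) (nat_lit 0),
  Rule.mk (nat_lit 4) (nat_lit 63) (Steps.bwd (nat_lit 1) (Steps.bwd (nat_lit 1) (Steps.bwd (nat_lit 3) (Steps.bwd (nat_lit 2) (Steps.bwd (nat_lit 2) Steps.nil))))) (nat_lit 6) (nat_lit 3),
  Rule.mk (nat_lit 4) (nat_lit 129) (Steps.bwd (nat_lit 2) (Steps.bwd (nat_lit 3) (Steps.bwd (nat_lit 1) (Steps.bwd (nat_lit 4) (Steps.bwd (nat_lit 2) (Steps.bwd (nat_lit 3) (Steps.fwd (nat_lit 2048) (Steps.fwd (nat_lit 3072) (Steps.fwd (nat_lit 1024) (Steps.fwd (nat_lit 4096) (Steps.bwd (nat_lit 1) Steps.nil))))))))))) (nat_lit 9) (nat_lit 1),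
  Rule.mk (nat_lit 1) (nat_lit 63) (Steps.bwd (nat_lit 3) (Steps.fwd (nat_lit 1024) (Steps.fwd (nat_lit 1024) (Steps.fwd (nat_lit 3072) (Steps.fwd (nat_lit 2048) Steps.nil))))) (nat_lit 6) (nat_lit 5),
  Rule.mk (nat_lit 1) (nat_lit 63) (Steps.bwd (nat_lit 3) (Steps.fwd (nat_lit 1024) (Steps.fwd (nat_lit 1024) (Steps.bwd (nat_lit 4) (Steps.bwd (nat_lit 1) Steps.nil))))) (nat_lit 6) (nat_lit 5)]
noncomputable def R_1 : List (Rule) := [Rule.mk (nat_lit 1) (nat_lit 63) (Steps.bwd (nat_lit 3) (Steps.fwd (nat_lit 1024) (Steps.fwd (nat_lit 1024) (Steps.fwd (nat_lit 3072) (Steps.bwd (nat_lit 1) Steps.nil))))) (nat_lit 6) (nat_lit 5),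
  Rule.mk (nat_lit 4) (nat_lit 63) (Steps.bwd (nat_lit 1) (Steps.fwd (nat_lit 2048) (Steps.fwd (nat_lit 4096) (Steps.fwd (nat_lit 1024) (Steps.bwd (nat_lit 2) Steps.nil))))) (nat_lit 6) (nat_lit 3),
  Rule.mk (nat_lit 1) (nat_lit 85) (Steps.bwd (nat_lit 3) (Steps.bwd (nat_lit 1) (Steps.bwd (nat_lit 3) (Steps.bwd (nat_lit 1) (Steps.bwd (nat_lit 3) (Steps.fwd (nat_lit 2048) (Steps.fwd (nat_lit 4096) Steps.nil))))))) (nat_lit 4) (nat_lit 1),
  Rule.mk (nat_lit 3) (nat_lit 63) (Steps.bwd (nat_lit 2) (Steps.fwd (nat_lit 1024) (Steps.fwd (nat_lit 3072) (Steps.bwd (nat_lit 1) (Steps.bwd (nat_lit 1) Steps.nil))))) (nat_lit 6) (nat_lit 0),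
  Rule.mk (nat_lit 1) (nat_lit 63) (Steps.bwd (nat_lit 3) (Steps.bwd (nat_lit 2) (Steps.bwd (nat_lit 2) (Steps.fwd (nat_lit 3072) (Steps.fwd (nat_lit 2048) Steps.nil))))) (nat_lit 6) (nat_lit 5),
  Rule.mk (nat_lit 4) (nat_lit 52) (Steps.bwd (nat_lit 4) (Steps.bwd (nat_lit 4) (Steps.fwd (nat_lit 3072) (Steps.bwd (nat_lit 4) Steps.nil)))) (nat_lit 3) (nat_lit 0),
  Rule.mk (nat_lit 1) (nat_lit 63) (Steps.bwd (nat_lit 1) (Steps.bwd (nat_lit 3) (Steps.fwd (nat_lit 1024) (Steps.fwd (nat_lit 1024) (Steps.bwd (nat_lit 4) Steps.nil))))) (nat_lit 6) (nat_lit 4),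
  Rule.mk (nat_lit 1) (nat_lit 63) (Steps.bwd (nat_lit 1) (Steps.fwd (nat_lit 4096) (Steps.fwd (nat_lit 1024) (Steps.fwd (nat_lit 1024) (Steps.bwd (nat_lit 4) Steps.nil))))) (nat_lit 6) (nat_lit 4),
  Rule.mk (nat_lit 1) (nat_lit 63) (Steps.bwd (nat_lit 1) (Steps.bwd (nat_lit 4) (Steps.fwd (nat_lit 1024) (Steps.bwd (nat_lit 2) (Steps.bwd (nat_lit 3) Steps.nil))))) (nat_lit 7) (nat_lit 5),
  Rule.mk (nat_lit 3) (nat_lit 129) (Steps.bwd (nat_lit 1) (Steps.bwd (nat_lit 4) (Steps.fwd (nat_lit 1024) (Steps.bwd (nat_lit 3) (Steps.bwd (nat_lit 1) (Steps.bwd (nat_lit 4) (Steps.fwd (nat_lit 1024) (Steps.fwd (nat_lit 4096) (Steps.bwd (nat_lit 1) (Steps.fwd (nat_lit 3072) (Steps.bwd (nat_lit 2) Steps.nil))))))))))) (nat_lit 9) (nat_lit 3),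
  Rule.mk (nat_lit 2) (nat_lit 63) (Steps.bwd (nat_lit 4) (Steps.bwd (nat_lit 1) (Steps.bwd (nat_lit 1) (Steps.fwd (nat_lit 4096) (Steps.fwd (nat_lit 1024) Steps.nil))))) (nat_lit 6) (nat_lit 2),
  Rule.mk (nat_lit 2) (nat_lit 63) (Steps.bwd (nat_lit 4) (Steps.fwd (nat_lit 2048) (Steps.fwd (nat_lit 2048) (Steps.bwd (nat_lit 3) (Steps.bwd (nat_lit 2) Steps.nil))))) (nat_lit 6) (nat_lit 2),
  Rule.mk (nat_lit 2) (nat_lit 63) (Steps.bwd (nat_lit 4) (Steps.bwd (nat_lit 1) (Steps.bwd (nat_lit 1) (Steps.fwd (nat_lit 4096) (Steps.bwd (nat_lit 2) Steps.nil))))) (nat_lit 6) (nat_lit 2),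
  Rule.mk (nat_lit 2) (nat_lit 63) (Steps.bwd (nat_lit 4) (Steps.bwd (nat_lit 1) (Steps.fwd (nat_lit 2048) (Steps.fwd (nat_lit 4096) (Steps.bwd (nat_lit 2) Steps.nil))))) (nat_lit 6) (nat_lit 2),
  Rule.mk (nat_lit 2) (nat_lit 63) (Steps.bwd (nat_lit 2) (Steps.bwd (nat_lit 4) (Steps.bwd (nat_lit 1) (Steps.fwd (nat_lit 2048) (Steps.fwd (nat_lit 4096) Steps.nil))))) (nat_lit 6) (nat_lit 1),
  Rule.mk (nat_lit 3) (nat_lit 63) (Steps.bwd (nat_lit 2) (Steps.fwd (nat_lit 1024) (Steps.fwd (nat_lit 3072) (Steps.fwd (nat_lit 2048) (Steps.bwd (nat_lit 1) Steps.nil))))) (nat_lit 6) (nat_lit 0),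
  Rule.mk (nat_lit 2) (nat_lit 63) (Steps.bwd (nat_lit 2) (Steps.bwd (nat_lit 4) (Steps.fwd (nat_lit 2048) (Steps.bwd (nat_lit 1) (Steps.fwd (nat_lit 4096) Steps.nil))))) (nat_lit 6) (nat_lit 1),
  Rule.mk (nat_lit 2) (nat_lit 63) (Steps.bwd (nat_lit 2) (Steps.bwd (nat_lit 4) (Steps.fwd (nat_lit 2048) (Steps.fwd (nat_lit 2048) (Steps.fwd (nat_lit 4096) Steps.nil))))) (nat_lit 6) (nat_lit 1),
  Rule.mk (nat_lit 4) (nat_lit 85) (Steps.bwd (nat_lit 2) (Steps.bwd (nat_lit 4) (Steps.bwd (nat_lit 2) (Steps.fwd (nat_lit 3072) (Steps.bwd (nat_lit 2) (Steps.fwd (nat_lit 3072) (Steps.bwd (nat_lit 2) Steps.nil))))))) (nat_lit 5) (nat_lit 1),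
  Rule.mk (nat_lit 3) (nat_lit 63) (Steps.bwd (nat_lit 1) (Steps.fwd (nat_lit 2048) (Steps.bwd (nat_lit 4) (Steps.bwd (nat_lit 2) (Steps.bwd (nat_lit 2) Steps.nil))))) (nat_lit 7) (nat_lit 4),
  Rule.mk (nat_lit 2) (nat_lit 63) (Steps.bwd (nat_lit 3) (Steps.bwd (nat_lit 1) (Steps.bwd (nat_lit 1) (Steps.bwd (nat_lit 4) (Steps.bwd (nat_lit 2) Steps.nil))))) (nat_lit 7) (nat_lit 3),
  Rule.mk (nat_lit 2) (nat_lit 85) (Steps.bwd (nat_lit 4) (Steps.fwd (nat_lit 1024) (Steps.bwd (nat_lit 4) (Steps.fwd (nat_lit 1024) (Steps.fwd (nat_lit 3072) (Steps.fwd (nat_lit 1024) (Steps.bwd (nat_lit 4) Steps.nil))))))) (nat_lit 5) (nat_lit 0),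
  Rule.mk (nat_lit 2) (nat_lit 63) (Steps.bwd (nat_lit 4) (Steps.fwd (nat_lit 2048) (Steps.bwd (nat_lit 1) (Steps.fwd (nat_lit 4096) (Steps.bwd (nat_lit 2) Steps.nil))))) (nat_lit 6) (nat_lit 2),
  Rule.mk (nat_lit 2) (nat_lit 63) (Steps.bwd (nat_lit 3) (Steps.bwd (nat_lit 1) (Steps.fwd (nat_lit 2048) (Steps.fwd (nat_lit 3072) (Steps.bwd (nat_lit 2) Steps.nil))))) (nat_lit 7) (nat_lit 3),
  Rule.mk (nat_lit 2) (nat_lit 63) (Steps.bwd (nat_lit 4) (Steps.fwd (nat_lit 2048) (Steps.fwd (nat_lit 2048) (Steps.fwd (nat_lit 4096) (Steps.bwd (nat_lit 2) Steps.nil))))) (nat_lit 6) (nat_lit 2),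
  Rule.mk (nat_lit 2) (nat_lit 63) (Steps.bwd (nat_lit 3) (Steps.bwd (nat_lit 1) (Steps.bwd (nat_lit 1) (Steps.fwd (nat_lit 3072) (Steps.bwd (nat_lit 2) Steps.nil))))) (nat_lit 7) (nat_lit 3),
  Rule.mk (nat_lit 3) (nat_lit 63) (Steps.bwd (nat_lit 2) (Steps.bwd (nat_lit 2) (Steps.bwd (nat_lit 4) (Steps.bwd (nat_lit 1) (Steps.fwd (nat_lit 2048) Steps.nil))))) (nat_lit 6) (nat_lit 0),
  Rule.mk (nat_lit 2) (nat_lit 63) (Steps.bwd (nat_lit 2) (Steps.fwd (nat_lit 4096) (Steps.bwd (nat_lit 1) (Steps.bwd (nat_lit 1) (Steps.fwd (nat_lit 3072) Steps.nil))))) (nat_lit 7) (nat_lit 2),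
  Rule.mk (nat_lit 1) (nat_lit 63) (Steps.bwd (nat_lit 1) (Steps.fwd (nat_lit 4096) (Steps.bwd (nat_lit 2) (Steps.bwd (nat_lit 2) (Steps.fwd (nat_lit 3072) Steps.nil))))) (nat_lit 6) (nat_lit 4),
  Rule.mk (nat_lit 4) (nat_lit 129) (Steps.bwd (nat_lit 2) (Steps.bwd (nat_lit 3) (Steps.fwd (nat_lit 2048) (Steps.fwd (nat_lit 3072) (Steps.fwd (nat_lit 1024) (Steps.bwd (nat_lit 3) (Steps.fwd (nat_lit 2048) (Steps.fwd (nat_lit 3072) (Steps.fwd (nat_lit 1024) (Steps.bwd (nat_lit 3) (Steps.fwd (nat_lit 2048) Steps.nil))))))))))) (nat_lit 9) (nat_lit 1),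
  Rule.mk (nat_lit 1) (nat_lit 63) (Steps.bwd (nat_lit 3) (Steps.fwd (nat_lit 1024) (Steps.bwd (nat_lit 2) (Steps.fwd (nat_lit 3072) (Steps.fwd (nat_lit 2048) Steps.nil))))) (nat_lit 6) (nat_lit 5),
  Rule.mk (nat_lit 1) (nat_lit 63) (Steps.bwd (nat_lit 3) (Steps.fwd (nat_lit 1024) (Steps.bwd (nat_lit 2) (Steps.bwd (nat_lit 4) (Steps.bwd (nat_lit 1) Steps.nil))))) (nat_lit 6) (nat_lit 5),
  Rule.mk (nat_lit 4) (nat_lit 63) (Steps.bwd (nat_lit 1) (Steps.fwd (nat_lit 2048) (Steps.fwd (nat_lit 4096) (Steps.bwd (nat_lit 2) (Steps.bwd (nat_lit 2) Steps.nil))))) (nat_lit 6) (nat_lit 3),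
  Rule.mk (nat_lit 1) (nat_lit 85) (Steps.bwd (nat_lit 3) (Steps.fwd (nat_lit 2048) (Steps.fwd (nat_lit 4096) (Steps.fwd (nat_lit 2048) (Steps.fwd (nat_lit 4096) (Steps.fwd (nat_lit 2048) (Steps.bwd (nat_lit 3) Steps.nil))))))) (nat_lit 4) (nat_lit 1),
  Rule.mk (nat_lit 1) (nat_lit 63) (Steps.bwd (nat_lit 4) (Steps.bwd (nat_lit 2) (Steps.bwd (nat_lit 2) (Steps.bwd (nat_lit 3) (Steps.bwd (nat_lit 1) Steps.nil))))) (nat_lit 7) (nat_lit 0),
  Rule.mk (nat_lit 3) (nat_lit 85) (Steps.bwd (nat_lit 1) (Steps.fwd (nat_lit 4096) (Steps.fwd (nat_lit 2048) (Steps.fwd (nat_lit 4096) (Steps.fwd (nat_lit 2048) (Steps.bwd (nat_lit 3) (Steps.fwd (nat_lit 2048) Steps.nil))))))) (nat_lit 4) (nat_lit 0),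
  Rule.mk (nat_lit 3) (nat_lit 63) (Steps.bwd (nat_lit 2) (Steps.bwd (nat_lit 2) (Steps.fwd (nat_lit 3072) (Steps.bwd (nat_lit 1) (Steps.bwd (nat_lit 1) Steps.nil))))) (nat_lit 6) (nat_lit 0),
  Rule.mk (nat_lit 3) (nat_lit 52) (Steps.bwd (nat_lit 3) (Steps.fwd (nat_lit 4096) (Steps.fwd (nat_lit 4096) (Steps.bwd (nat_lit 3) Steps.nil)))) (nat_lit 2) (nat_lit 0),
  Rule.mk (nat_lit 4) (nat_lit 52) (Steps.bwd (nat_lit 4) (Steps.fwd (nat_lit 3072) (Steps.fwd (nat_lit 3072) (Steps.fwd (nat_lit 3072) Steps.nil)))) (nat_lit 3) (nat_lit 0),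
  Rule.mk (nat_lit 1) (nat_lit 63) (Steps.bwd (nat_lit 4) (Steps.bwd (nat_lit 2) (Steps.bwd (nat_lit 2) (Steps.fwd (nat_lit 4096) (Steps.bwd (nat_lit 1) Steps.nil))))) (nat_lit 7) (nat_lit 0),
  Rule.mk (nat_lit 3) (nat_lit 63) (Steps.fwd (nat_lit 1024) (Steps.bwd (nat_lit 2) (Steps.fwd (nat_lit 3072) (Steps.bwd (nat_lit 1) (Steps.bwd (nat_lit 1) Steps.nil))))) (nat_lit 6) (nat_lit 0),
  Rule.mk (nat_lit 2) (nat_lit 63) (Steps.bwd (nat_lit 2) (Steps.fwd (nat_lit 3072) (Steps.fwd (nat_lit 2048) (Steps.bwd (nat_lit 1) (Steps.bwd (nat_lit 3) Steps.nil))))) (nat_lit 6) (nat_lit 1),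
  Rule.mk (nat_lit 4) (nat_lit 63) (Steps.bwd (nat_lit 1) (Steps.bwd (nat_lit 1) (Steps.bwd (nat_lit 3) (Steps.bwd (nat_lit 2) (Steps.fwd (nat_lit 1024) Steps.nil))))) (nat_lit 6) (nat_lit 3),
  Rule.mk (nat_lit 3) (nat_lit 52) (Steps.bwd (nat_lit 3) (Steps.fwd (nat_lit 4096) (Steps.bwd (nat_lit 3) (Steps.bwd (nat_lit 3) Steps.nil)))) (nat_lit 2) (nat_lit 0),
  Rule.mk (nat_lit 4) (nat_lit 52) (Steps.bwd (nat_lit 4) (Steps.bwd (nat_lit 4) (Steps.bwd (nat_lit 4) (Steps.bwd (nat_lit 4) Steps.nil)))) (nat_lit 3) (nat_lit 0),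
  Rule.mk (nat_lit 4) (nat_lit 85) (Steps.bwd (nat_lit 2) (Steps.bwd (nat_lit 4) (Steps.fwd (nat_lit 1024) (Steps.fwd (nat_lit 3072) (Steps.bwd (nat_lit 2) (Steps.fwd (nat_lit 3072) (Steps.fwd (nat_lit 1024) Steps.nil))))))) (nat_lit 5) (nat_lit 1),
  Rule.mk (nat_lit 2) (nat_lit 63) (Steps.bwd (nat_lit 3) (Steps.fwd (nat_lit 2048) (Steps.bwd (nat_lit 1) (Steps.fwd (nat_lit 3072) (Steps.bwd (nat_lit 2) Steps.nil))))) (nat_lit 7) (nat_lit 3),
  Rule.mk (nat_lit 2) (nat_lit 63) (Steps.bwd (nat_lit 3) (Steps.fwd (nat_lit 2048) (Steps.fwd (nat_lit 2048) (Steps.fwd (nat_lit 3072) (Steps.bwd (nat_lit 2) Steps.nil))))) (nat_lit 7) (nat_lit 3),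
  Rule.mk (nat_lit 3) (nat_lit 63) (Steps.bwd (nat_lit 2) (Steps.bwd (nat_lit 2) (Steps.bwd (nat_lit 4) (Steps.bwd (nat_lit 1) (Steps.bwd (nat_lit 1) Steps.nil))))) (nat_lit 6) (nat_lit 0),
  Rule.mk (nat_lit 2) (nat_lit 63) (Steps.bwd (nat_lit 2) (Steps.fwd (nat_lit 4096) (Steps.bwd (nat_lit 1) (Steps.fwd (nat_lit 2048) (Steps.fwd (nat_lit 3072) Steps.nil))))) (nat_lit 7) (nat_lit 2),
  Rule.mk (nat_lit 3) (nat_lit 85) (Steps.bwd (nat_lit 1) (Steps.bwd (nat_lit 3) (Steps.fwd (nat_lit 2048) (Steps.fwd (nat_lit 4096) (Steps.bwd (nat_lit 1) (Steps.fwd (nat_lit 4096) (Steps.fwd (nat_lit 2048) Steps.nil))))))) (nat_lit 4) (nat_lit 0),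
  Rule.mk (nat_lit 1) (nat_lit 63) (Steps.bwd (nat_lit 1) (Steps.fwd (nat_lit 4096) (Steps.fwd (nat_lit 1024) (Steps.fwd (nat_lit 1024) (Steps.fwd (nat_lit 3072) Steps.nil))))) (nat_lit 6) (nat_lit 4),
  Rule.mk (nat_lit 4) (nat_lit 129) (Steps.bwd (nat_lit 2) (Steps.bwd (nat_lit 3) (Steps.bwd (nat_lit 1) (Steps.bwd (nat_lit 4) (Steps.fwd (nat_lit 1024) (Steps.bwd (nat_lit 3) (Steps.bwd (nat_lit 1) (Steps.fwd (nat_lit 3072) (Steps.bwd (nat_lit 2) (Steps.fwd (nat_lit 4096) (Steps.bwd (nat_lit 1) Steps.nil))))))))))) (nat_lit 9) (nat_lit 1),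
  Rule.mk (nat_lit 2) (nat_lit 63) (Steps.bwd (nat_lit 4) (Steps.bwd (nat_lit 1) (Steps.fwd (nat_lit 2048) (Steps.fwd (nat_lit 4096) (Steps.fwd (nat_lit 1024) Steps.nil))))) (nat_lit 6) (nat_lit 2),
  Rule.mk (nat_lit 1) (nat_lit 63) (Steps.bwd (nat_lit 1) (Steps.bwd (nat_lit 4) (Steps.bwd (nat_lit 2) (Steps.bwd (nat_lit 2) (Steps.fwd (nat_lit 4096) Steps.nil))))) (nat_lit 7) (nat_lit 5),
  Rule.mk (nat_lit 3) (nat_lit 129) (Steps.bwd (nat_lit 1) (Steps.bwd (nat_lit 4) (Steps.fwd (nat_lit 1024) (Steps.bwd (nat_lit 3) (Steps.bwd (nat_lit 1) (Steps.bwd (nat_lit 4) (Steps.fwd (nat_lit 1024) (Steps.bwd (nat_lit 3) (Steps.bwd (nat_lit 1) (Steps.bwd (nat_lit 4) (Steps.bwd (nat_lit 2) Steps.nil))))))))))) (nat_lit 9) (nat_lit 3),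
  Rule.mk (nat_lit 2) (nat_lit 63) (Steps.bwd (nat_lit 4) (Steps.fwd (nat_lit 2048) (Steps.bwd (nat_lit 1) (Steps.fwd (nat_lit 4096) (Steps.fwd (nat_lit 1024) Steps.nil))))) (nat_lit 6) (nat_lit 2),
  Rule.mk (nat_lit 4) (nat_lit 85) (Steps.bwd (nat_lit 2) (Steps.bwd (nat_lit 4) (Steps.bwd (nat_lit 2) (Steps.bwd (nat_lit 4) (Steps.bwd (nat_lit 2) (Steps.fwd (nat_lit 3072) (Steps.fwd (nat_lit 1024) Steps.nil))))))) (nat_lit 5) (nat_lit 1),
  Rule.mk (nat_lit 4) (nat_lit 63) (Steps.fwd (nat_lit 2048) (Steps.fwd (nat_lit 2048) (Steps.bwd (nat_lit 3) (Steps.bwd (nat_lit 2) (Steps.bwd (nat_lit 2) Steps.nil))))) (nat_lit 6) (nat_lit 3),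
  Rule.mk (nat_lit 2) (nat_lit 63) (Steps.bwd (nat_lit 4) (Steps.fwd (nat_lit 2048) (Steps.fwd (nat_lit 2048) (Steps.fwd (nat_lit 4096) (Steps.fwd (nat_lit 1024) Steps.nil))))) (nat_lit 6) (nat_lit 2),
  Rule.mk (nat_lit 3) (nat_lit 63) (Steps.fwd (nat_lit 2048) (Steps.fwd (nat_lit 2048) (Steps.fwd (nat_lit 3072) (Steps.fwd (nat_lit 1024) (Steps.bwd (nat_lit 2) Steps.nil))))) (nat_lit 7) (nat_lit 4),
  Rule.mk (nat_lit 3) (nat_lit 63) (Steps.bwd (nat_lit 1) (Steps.fwd (nat_lit 2048) (Steps.fwd (nat_lit 3072) (Steps.bwd (nat_lit 2) (Steps.fwd (nat_lit 1024) Steps.nil))))) (nat_lit 7) (nat_lit 4),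
  Rule.mk (nat_lit 3) (nat_lit 63) (Steps.fwd (nat_lit 1024) (Steps.fwd (nat_lit 1024) (Steps.bwd (nat_lit 4) (Steps.bwd (nat_lit 1) (Steps.bwd (nat_lit 1) Steps.nil))))) (nat_lit 6) (nat_lit 0),
  Rule.mk (nat_lit 1) (nat_lit 85) (Steps.bwd (nat_lit 3) (Steps.fwd (nat_lit 2048) (Steps.bwd (nat_lit 3) (Steps.fwd (nat_lit 2048) (Steps.bwd (nat_lit 3) (Steps.bwd (nat_lit 1) (Steps.bwd (nat_lit 3) Steps.nil))))))) (nat_lit 4) (nat_lit 1)]
noncomputable def R_2 : List (Rule) := [Rule.mk (nat_lit 4) (nat_lit 52) (Steps.bwd (nat_lit 4) (Steps.fwd (nat_lit 3072) (Steps.bwd (nat_lit 4) (Steps.bwd (nat_lit 4) Steps.nil)))) (nat_lit 3) (nat_lit 0),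
  Rule.mk (nat_lit 1) (nat_lit 63) (Steps.bwd (nat_lit 4) (Steps.bwd (nat_lit 2) (Steps.fwd (nat_lit 1024) (Steps.bwd (nat_lit 3) (Steps.bwd (nat_lit 1) Steps.nil))))) (nat_lit 7) (nat_lit 0),
  Rule.mk (nat_lit 4) (nat_lit 52) (Steps.bwd (nat_lit 4) (Steps.fwd (nat_lit 3072) (Steps.bwd (nat_lit 4) (Steps.fwd (nat_lit 3072) Steps.nil)))) (nat_lit 3) (nat_lit 0),
  Rule.mk (nat_lit 2) (nat_lit 63) (Steps.bwd (nat_lit 3) (Steps.fwd (nat_lit 2048) (Steps.fwd (nat_lit 2048) (Steps.fwd (nat_lit 3072) (Steps.fwd (nat_lit 1024) Steps.nil))))) (nat_lit 7) (nat_lit 3),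
  Rule.mk (nat_lit 3) (nat_lit 63) (Steps.bwd (nat_lit 2) (Steps.fwd (nat_lit 1024) (Steps.bwd (nat_lit 4) (Steps.bwd (nat_lit 1) (Steps.bwd (nat_lit 1) Steps.nil))))) (nat_lit 6) (nat_lit 0),
  Rule.mk (nat_lit 3) (nat_lit 63) (Steps.bwd (nat_lit 1) (Steps.bwd (nat_lit 1) (Steps.fwd (nat_lit 3072) (Steps.fwd (nat_lit 1024) (Steps.fwd (nat_lit 1024) Steps.nil))))) (nat_lit 7) (nat_lit 4),
  Rule.mk (nat_lit 3) (nat_lit 52) (Steps.bwd (nat_lit 3) (Steps.bwd (nat_lit 3) (Steps.bwd (nat_lit 3) (Steps.bwd (nat_lit 3) Steps.nil)))) (nat_lit 2) (nat_lit 0),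
  Rule.mk (nat_lit 1) (nat_lit 129) (Steps.bwd (nat_lit 4) (Steps.bwd (nat_lit 2) (Steps.bwd (nat_lit 3) (Steps.fwd (nat_lit 2048) (Steps.bwd (nat_lit 4) (Steps.fwd (nat_lit 1024) (Steps.bwd (nat_lit 3) (Steps.bwd (nat_lit 1) (Steps.fwd (nat_lit 3072) (Steps.fwd (nat_lit 1024) (Steps.bwd (nat_lit 3) Steps.nil))))))))))) (nat_lit 9) (nat_lit 0),
  Rule.mk (nat_lit 3) (nat_lit 129) (Steps.fwd (nat_lit 1024) (Steps.bwd (nat_lit 4) (Steps.bwd (nat_lit 1) (Steps.bwd (nat_lit 3) (Steps.fwd (nat_lit 1024) (Steps.bwd (nat_lit 4) (Steps.fwd (nat_lit 2048) (Steps.fwd (nat_lit 4096) (Steps.fwd (nat_lit 1024) (Steps.fwd (nat_lit 3072) (Steps.bwd (nat_lit 1) Steps.nil))))))))))) (nat_lit 8) (nat_lit 0),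
  Rule.mk (nat_lit 3) (nat_lit 85) (Steps.bwd (nat_lit 1) (Steps.bwd (nat_lit 3) (Steps.bwd (nat_lit 1) (Steps.bwd (nat_lit 3) (Steps.bwd (nat_lit 1) (Steps.bwd (nat_lit 3) (Steps.fwd (nat_lit 2048) Steps.nil))))))) (nat_lit 4) (nat_lit 0),
  Rule.mk (nat_lit 4) (nat_lit 63) (Steps.fwd (nat_lit 2048) (Steps.fwd (nat_lit 2048) (Steps.bwd (nat_lit 3) (Steps.fwd (nat_lit 1024) (Steps.fwd (nat_lit 1024) Steps.nil))))) (nat_lit 6) (nat_lit 3),
  Rule.mk (nat_lit 4) (nat_lit 63) (Steps.bwd (nat_lit 2) (Steps.bwd (nat_lit 2) (Steps.bwd (nat_lit 3) (Steps.bwd (nat_lit 1) (Steps.bwd (nat_lit 1) Steps.nil))))) (nat_lit 7) (nat_lit 1),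
  Rule.mk (nat_lit 3) (nat_lit 129) (Steps.fwd (nat_lit 1024) (Steps.fwd (nat_lit 3072) (Steps.fwd (nat_lit 2048) (Steps.bwd (nat_lit 3) (Steps.bwd (nat_lit 2) (Steps.fwd (nat_lit 3072) (Steps.fwd (nat_lit 2048) (Steps.bwd (nat_lit 3) (Steps.fwd (nat_lit 1024) (Steps.bwd (nat_lit 4) (Steps.bwd (nat_lit 1) Steps.nil))))))))))) (nat_lit 8) (nat_lit 0),
  Rule.mk (nat_lit 4) (nat_lit 63) (Steps.fwd (nat_lit 1024) (Steps.bwd (nat_lit 2) (Steps.bwd (nat_lit 3) (Steps.bwd (nat_lit 1) (Steps.bwd (nat_lit 1) Steps.nil))))) (nat_lit 7) (nat_lit 1),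
  Rule.mk (nat_lit 3) (nat_lit 85) (Steps.fwd (nat_lit 2048) (Steps.fwd (nat_lit 4096) (Steps.bwd (nat_lit 1) (Steps.bwd (nat_lit 3) (Steps.bwd (nat_lit 1) (Steps.bwd (nat_lit 3) (Steps.fwd (nat_lit 2048) Steps.nil))))))) (nat_lit 4) (nat_lit 0),
  Rule.mk (nat_lit 4) (nat_lit 63) (Steps.fwd (nat_lit 1024) (Steps.bwd (nat_lit 2) (Steps.bwd (nat_lit 3) (Steps.fwd (nat_lit 2048) (Steps.bwd (nat_lit 1) Steps.nil))))) (nat_lit 7) (nat_lit 1),
  Rule.mk (nat_lit 4) (nat_lit 129) (Steps.bwd (nat_lit 1) (Steps.bwd (nat_lit 3) (Steps.fwd (nat_lit 1024) (Steps.bwd (nat_lit 4) (Steps.bwd (nat_lit 1) (Steps.bwd (nat_lit 3) (Steps.fwd (nat_lit 1024) (Steps.bwd (nat_lit 4) (Steps.bwd (nat_lit 1) (Steps.bwd (nat_lit 3) (Steps.fwd (nat_lit 1024) Steps.nil))))))))))) (nat_lit 8) (nat_lit 2),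
  Rule.mk (nat_lit 3) (nat_lit 129) (Steps.fwd (nat_lit 1024) (Steps.fwd (nat_lit 3072) (Steps.bwd (nat_lit 1) (Steps.bwd (nat_lit 3) (Steps.bwd (nat_lit 2) (Steps.fwd (nat_lit 3072) (Steps.fwd (nat_lit 2048) (Steps.bwd (nat_lit 3) (Steps.fwd (nat_lit 1024) (Steps.bwd (nat_lit 4) (Steps.fwd (nat_lit 2048) Steps.nil))))))))))) (nat_lit 8) (nat_lit 0),
  Rule.mk (nat_lit 2) (nat_lit 85) (Steps.bwd (nat_lit 4) (Steps.bwd (nat_lit 2) (Steps.bwd (nat_lit 4) (Steps.bwd (nat_lit 2) (Steps.fwd (nat_lit 3072) (Steps.bwd (nat_lit 2) (Steps.bwd (nat_lit 4) Steps.nil))))))) (nat_lit 5) (nat_lit 0),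
  Rule.mk (nat_lit 2) (nat_lit 63) (Steps.bwd (nat_lit 3) (Steps.fwd (nat_lit 2048) (Steps.fwd (nat_lit 2048) (Steps.bwd (nat_lit 4) (Steps.bwd (nat_lit 2) Steps.nil))))) (nat_lit 7) (nat_lit 3),
  Rule.mk (nat_lit 3) (nat_lit 52) (Steps.bwd (nat_lit 3) (Steps.fwd (nat_lit 4096) (Steps.bwd (nat_lit 3) (Steps.fwd (nat_lit 4096) Steps.nil)))) (nat_lit 2) (nat_lit 0),
  Rule.mk (nat_lit 1) (nat_lit 63) (Steps.bwd (nat_lit 4) (Steps.fwd (nat_lit 1024) (Steps.bwd (nat_lit 2) (Steps.fwd (nat_lit 4096) (Steps.fwd (nat_lit 2048) Steps.nil))))) (nat_lit 7) (nat_lit 0),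
  Rule.mk (nat_lit 2) (nat_lit 129) (Steps.bwd (nat_lit 3) (Steps.bwd (nat_lit 1) (Steps.fwd (nat_lit 3072) (Steps.fwd (nat_lit 1024) (Steps.fwd (nat_lit 4096) (Steps.fwd (nat_lit 2048) (Steps.fwd (nat_lit 3072) (Steps.fwd (nat_lit 1024) (Steps.fwd (nat_lit 4096) (Steps.fwd (nat_lit 2048) (Steps.bwd (nat_lit 4) Steps.nil))))))))))) (nat_lit 9) (nat_lit 2),
  Rule.mk (nat_lit 2) (nat_lit 63) (Steps.bwd (nat_lit 2) (Steps.bwd (nat_lit 4) (Steps.fwd (nat_lit 2048) (Steps.fwd (nat_lit 2048) (Steps.bwd (nat_lit 3) Steps.nil))))) (nat_lit 6) (nat_lit 1),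
  Rule.mk (nat_lit 2) (nat_lit 129) (Steps.bwd (nat_lit 3) (Steps.bwd (nat_lit 1) (Steps.bwd (nat_lit 4) (Steps.fwd (nat_lit 1024) (Steps.fwd (nat_lit 4096) (Steps.fwd (nat_lit 2048) (Steps.bwd (nat_lit 4) (Steps.fwd (nat_lit 1024) (Steps.bwd (nat_lit 3) (Steps.bwd (nat_lit 1) (Steps.bwd (nat_lit 4) Steps.nil))))))))))) (nat_lit 9) (nat_lit 2),
  Rule.mk (nat_lit 2) (nat_lit 63) (Steps.bwd (nat_lit 2) (Steps.bwd (nat_lit 4) (Steps.fwd (nat_lit 2048) (Steps.bwd (nat_lit 1) (Steps.bwd (nat_lit 3) Steps.nil))))) (nat_lit 6) (nat_lit 1),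
  Rule.mk (nat_lit 4) (nat_lit 63) (Steps.bwd (nat_lit 2) (Steps.fwd (nat_lit 1024) (Steps.bwd (nat_lit 3) (Steps.bwd (nat_lit 1) (Steps.bwd (nat_lit 1) Steps.nil))))) (nat_lit 7) (nat_lit 1),
  Rule.mk (nat_lit 1) (nat_lit 63) (Steps.bwd (nat_lit 3) (Steps.bwd (nat_lit 2) (Steps.fwd (nat_lit 1024) (Steps.fwd (nat_lit 3072) (Steps.fwd (nat_lit 2048) Steps.nil))))) (nat_lit 6) (nat_lit 5),
  Rule.mk (nat_lit 4) (nat_lit 63) (Steps.bwd (nat_lit 2) (Steps.bwd (nat_lit 2) (Steps.fwd (nat_lit 4096) (Steps.fwd (nat_lit 2048) (Steps.bwd (nat_lit 1) Steps.nil))))) (nat_lit 7) (nat_lit 1),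
  Rule.mk (nat_lit 4) (nat_lit 63) (Steps.bwd (nat_lit 2) (Steps.fwd (nat_lit 1024) (Steps.fwd (nat_lit 4096) (Steps.fwd (nat_lit 2048) (Steps.bwd (nat_lit 1) Steps.nil))))) (nat_lit 7) (nat_lit 1),
  Rule.mk (nat_lit 4) (nat_lit 63) (Steps.bwd (nat_lit 2) (Steps.fwd (nat_lit 1024) (Steps.fwd (nat_lit 4096) (Steps.bwd (nat_lit 1) (Steps.fwd (nat_lit 2048) Steps.nil))))) (nat_lit 7) (nat_lit 1),
  Rule.mk (nat_lit 2) (nat_lit 129) (Steps.bwd (nat_lit 3) (Steps.bwd (nat_lit 1) (Steps.bwd (nat_lit 4) (Steps.fwd (nat_lit 1024) (Steps.bwd (nat_lit 3) (Steps.fwd (nat_lit 2048) (Steps.fwd (nat_lit 3072) (Steps.bwd (nat_lit 2) (Steps.fwd (nat_lit 4096) (Steps.fwd (nat_lit 2048) (Steps.bwd (nat_lit 4) Steps.nil))))))))))) (nat_lit 9) (nat_lit 2),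
  Rule.mk (nat_lit 4) (nat_lit 85) (Steps.bwd (nat_lit 2) (Steps.fwd (nat_lit 3072) (Steps.fwd (nat_lit 1024) (Steps.bwd (nat_lit 4) (Steps.bwd (nat_lit 2) (Steps.bwd (nat_lit 4) (Steps.bwd (nat_lit 2) Steps.nil))))))) (nat_lit 5) (nat_lit 1),
  Rule.mk (nat_lit 4) (nat_lit 63) (Steps.bwd (nat_lit 1) (Steps.fwd (nat_lit 2048) (Steps.fwd (nat_lit 4096) (Steps.bwd (nat_lit 2) (Steps.fwd (nat_lit 1024) Steps.nil))))) (nat_lit 6) (nat_lit 3),
  Rule.mk (nat_lit 3) (nat_lit 63) (Steps.bwd (nat_lit 1) (Steps.fwd (nat_lit 2048) (Steps.bwd (nat_lit 4) (Steps.fwd (nat_lit 1024) (Steps.fwd (nat_lit 1024) Steps.nil))))) (nat_lit 7) (nat_lit 4),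
  Rule.mk (nat_lit 2) (nat_lit 63) (Steps.bwd (nat_lit 3) (Steps.bwd (nat_lit 1) (Steps.bwd (nat_lit 1) (Steps.fwd (nat_lit 3072) (Steps.fwd (nat_lit 1024) Steps.nil))))) (nat_lit 7) (nat_lit 3),
  Rule.mk (nat_lit 4) (nat_lit 63) (Steps.fwd (nat_lit 2048) (Steps.fwd (nat_lit 2048) (Steps.fwd (nat_lit 4096) (Steps.fwd (nat_lit 1024) (Steps.bwd (nat_lit 2) Steps.nil))))) (nat_lit 6) (nat_lit 3),
  Rule.mk (nat_lit 3) (nat_lit 63) (Steps.bwd (nat_lit 1) (Steps.fwd (nat_lit 2048) (Steps.fwd (nat_lit 3072) (Steps.fwd (nat_lit 1024) (Steps.fwd (nat_lit 1024) Steps.nil))))) (nat_lit 7) (nat_lit 4),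
  Rule.mk (nat_lit 1) (nat_lit 63) (Steps.bwd (nat_lit 1) (Steps.bwd (nat_lit 3) (Steps.fwd (nat_lit 1024) (Steps.bwd (nat_lit 2) (Steps.bwd (nat_lit 4) Steps.nil))))) (nat_lit 6) (nat_lit 4),
  Rule.mk (nat_lit 3) (nat_lit 63) (Steps.bwd (nat_lit 1) (Steps.bwd (nat_lit 1) (Steps.bwd (nat_lit 4) (Steps.bwd (nat_lit 2) (Steps.fwd (nat_lit 1024) Steps.nil))))) (nat_lit 7) (nat_lit 4),
  Rule.mk (nat_lit 2) (nat_lit 129) (Steps.bwd (nat_lit 3) (Steps.bwd (nat_lit 1) (Steps.fwd (nat_lit 3072) (Steps.bwd (nat_lit 2) (Steps.bwd (nat_lit 3) (Steps.bwd (nat_lit 1) (Steps.fwd (nat_lit 3072) (Steps.bwd (nat_lit 2) (Steps.fwd (nat_lit 4096) (Steps.bwd (nat_lit 1) (Steps.bwd (nat_lit 4) Steps.nil))))))))))) (nat_lit 9) (nat_lit 2),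
  Rule.mk (nat_lit 2) (nat_lit 85) (Steps.bwd (nat_lit 4) (Steps.fwd (nat_lit 1024) (Steps.bwd (nat_lit 4) (Steps.fwd (nat_lit 1024) (Steps.fwd (nat_lit 3072) (Steps.bwd (nat_lit 2) (Steps.bwd (nat_lit 4) Steps.nil))))))) (nat_lit 5) (nat_lit 0),
  Rule.mk (nat_lit 1) (nat_lit 63) (Steps.bwd (nat_lit 4) (Steps.fwd (nat_lit 1024) (Steps.fwd (nat_lit 1024) (Steps.fwd (nat_lit 4096) (Steps.fwd (nat_lit 2048) Steps.nil))))) (nat_lit 7) (nat_lit 0),
  Rule.mk (nat_lit 2) (nat_lit 85) (Steps.bwd (nat_lit 4) (Steps.bwd (nat_lit 2) (Steps.bwd (nat_lit 4) (Steps.fwd (nat_lit 1024) (Steps.fwd (nat_lit 3072) (Steps.bwd (nat_lit 2) (Steps.bwd (nat_lit 4) Steps.nil))))))) (nat_lit 5) (nat_lit 0),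
  Rule.mk (nat_lit 2) (nat_lit 63) (Steps.bwd (nat_lit 3) (Steps.bwd (nat_lit 1) (Steps.fwd (nat_lit 2048) (Steps.bwd (nat_lit 4) (Steps.bwd (nat_lit 2) Steps.nil))))) (nat_lit 7) (nat_lit 3),
  Rule.mk (nat_lit 1) (nat_lit 63) (Steps.bwd (nat_lit 4) (Steps.bwd (nat_lit 2) (Steps.bwd (nat_lit 2) (Steps.fwd (nat_lit 4096) (Steps.fwd (nat_lit 2048) Steps.nil))))) (nat_lit 7) (nat_lit 0),
  Rule.mk (nat_lit 3) (nat_lit 85) (Steps.bwd (nat_lit 1) (Steps.bwd (nat_lit 3) (Steps.fwd (nat_lit 2048) (Steps.bwd (nat_lit 3) (Steps.bwd (nat_lit 1) (Steps.fwd (nat_lit 4096) (Steps.bwd (nat_lit 1) Steps.nil))))))) (nat_lit 4) (nat_lit 0),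
  Rule.mk (nat_lit 2) (nat_lit 129) (Steps.bwd (nat_lit 3) (Steps.bwd (nat_lit 1) (Steps.bwd (nat_lit 4) (Steps.fwd (nat_lit 1024) (Steps.bwd (nat_lit 3) (Steps.fwd (nat_lit 2048) (Steps.bwd (nat_lit 4) (Steps.fwd (nat_lit 1024) (Steps.fwd (nat_lit 4096) (Steps.bwd (nat_lit 1) (Steps.bwd (nat_lit 4) Steps.nil))))))))))) (nat_lit 9) (nat_lit 2),
  Rule.mk (nat_lit 4) (nat_lit 63) (Steps.bwd (nat_lit 2) (Steps.bwd (nat_lit 2) (Steps.bwd (nat_lit 3) (Steps.bwd (nat_lit 1) (Steps.fwd (nat_lit 2048) Steps.nil))))) (nat_lit 7) (nat_lit 1),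
  Rule.mk (nat_lit 2) (nat_lit 129) (Steps.bwd (nat_lit 3) (Steps.fwd (nat_lit 2048) (Steps.fwd (nat_lit 3072) (Steps.bwd (nat_lit 2) (Steps.bwd (nat_lit 3) (Steps.fwd (nat_lit 2048) (Steps.bwd (nat_lit 4) (Steps.fwd (nat_lit 1024) (Steps.fwd (nat_lit 4096) (Steps.fwd (nat_lit 2048) (Steps.bwd (nat_lit 4) Steps.nil))))))))))) (nat_lit 9) (nat_lit 2),
  Rule.mk (nat_lit 2) (nat_lit 129) (Steps.bwd (nat_lit 3) (Steps.fwd (nat_lit 2048) (Steps.fwd (nat_lit 3072) (Steps.fwd (nat_lit 1024) (Steps.bwd (nat_lit 3) (Steps.fwd (nat_lit 2048) (Steps.fwd (nat_lit 3072) (Steps.bwd (nat_lit 2) (Steps.fwd (nat_lit 4096) (Steps.fwd (nat_lit 2048) (Steps.bwd (nat_lit 4) Steps.nil))))))))))) (nat_lit 9) (nat_lit 2)]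
noncomputable def R : List (List (Rule)) := [R_0, R_1, R_2]
def LW : List Word := [[], [0], [1], [2], [3]]
def par : Par := ⟨10, 3, 13, 23, 1023, 8191, 8388607⟩
theorem hpar : par.ok := by decide
theorem hR0_0 : lall (R) (fun l => lall l (ruleOK r44 LW par)) = true := by decide +kernel
theorem hR0 : lall (R) (fun l => lall l (ruleOK r44 LW par)) = true := hR0_0
theorem hR : RulesOK r44 LW par R := rulesOK_of rfl hR0
def cols : List (ℕ × ℕ) := [(1024, 2), (3072, 4)]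
theorem hcols : lall cols (colOK r44 LW par) = true := by decide +kernel
noncomputable def JS0 : List ℕ := [nat_lit 0x38c7c4f79c138004708e18013d6704640b81a38670460f51ee3da708e08b9ea392014e39c316386004e28033842a038f081638670850001c83927a4e10980439a7a8e49c212390050ec9c338422000e21c93ae70840001c53cc790e1079c3000720009c20e390798f79ee3c870ce1068003a2018039c50c3a279cf21c638a0e000f100d00c7202cf11e439472014e900c3c4724e405000398004021c909398788f09ca39208748f21e83ce784e59ca083a278cf09cc3960c780f09cd3980a73cf09e039c7340cee9e33c2740e7839df3c6780e89d0063be780e91d1053b4780ef9d33a408770f01de3a874c0cec9df3bc754ea011d93bc774eb1d501,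
  nat_lit 0x370024e19b6280006e0dd9cc36c4e000dc9f83806d83cdb800374004db130013847e8fb9f636e6d894dc9f7400724db921c03ee0b0dc1b7233e46ec011ba370326e4dd8023846e0641282a3766e060dd1f33e87c4dc111c13e209cdc9b8173d4820f91ba37204794181f53766e85cde1bd0027d4dd8c8260506f4dd8c1f43ec7d4de1bb173ca0b4fa9bd37822724fc9f737c6f404e31c73f07d8df109be002700fa1bd153e20a4f11be37a06000009c00066f480df1e83d2084de8f8000427bc0e1bd1e3e2704009be37a3a774fd1e437c6f404df00002e788de8e1e00367ac0e9ee37c6f46c001eb3d8074df8d01a03a704df8c1ee3e07bce01bf19,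
  nat_lit 0x6d824a0b3586ac04e01af0046b8d61b9ad35e008db1ac113ca824d79ac3535c81c2200b3586c6d42284435a6b090001fa072020d6859fa40c6bcd6829b8086108d71ad0a35e6c0009b335c22709021b035c6a6cd0204035e6b890d81b10026d4d79a1c107e6c4d7998013f80e4d81af323ee804d89b005402808d91b1053666e4039ba364626f10103b3746c4c0d91d640a6f8d8810003667300c9b1100006cc0b8053625e000009c90226c498d9001004740d89700e06e6e4d91b12d00073d0483d3fe6e0d8961ce40e7e4d91b1173ee85cfd1b3364027e8fd9b43660a6e0e400800c6dcac0883337a6f0db15000370044061b629,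
  nat_lit 0x1af0c4178d21a32309e128031aa348846900d05d35468cc0001a537070cd18780034a7e4201a341000694db80e34682000009ff07e68d00d21a5432034d19f84345c93126a544a691d0ca1834868cf8d4217016018d39580f4346b4d61a63d0006a00885434c52000d421236a6983c001a835c6e4d313800352150281a62f34e000d680434c4c01108a3f47a148d39a63c3686a8011a934e226a0d500202869cd0dca1435469cd4d48504286ccd391a0c472138d41a72340e6ac011aa350326a4d58024186a064fe84d3566a0ecd504b094818d41d20b41e838d49a8170006b8019c4352726b8251ab3526682519a0c3546a444d620c0946b8d5111c1420120d59aa38,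
  nat_lit 0x3381cd191a6334460451c07133666924d799e004674cd8c99c33c0090619b194541c0cf19b3b33a1b8369ad3367482916a2c33866c5c0000e01800cce241af0da678ce199a10e08a8ce99c110006acda1aa33a8e0251599f33a8c0183722b33c6744800a180bc138cf0599f342008d199e1942e8a4d099e054001a5139a033c146851406933e678890606934067ced13a2834268014d11ab0106a4d0958634aa898d49a02a000004d18073404c6850ca5143a681140000134685cd0221a138c19cda1a024000688e201c34020000d11a30ac68104001a40c0064d0149a343e1f52721e3426810cd7a2443c688d0811af446874d19a201,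
  nat_lit 0x84d0219c00a6596c00198080104cb2d0003307d82799659000660f41e232cb0000cc0560986595c00001080104cb2a80007c788fa9ff0a865958f107c32e658cd15a3333065c14cc87d14c8a4cc1c19f00c01404197070000043e23432eaa6600099a00e65c551988033e660cb81800332004ce997543328cd35a2432e9e0091109f4d28c8cc197533328c83c19732ca46711c87833065d490fa6546c664cc1d21f13a1eccd199510ca1dc031a0334a0668e12393406653c0019b03c07ccca680033684d059994e00066cde01a3329a00000a2d0be66530cd19b0ec70ccca58704ac2853da814fc9bd1f87533466528d399d004670cd0899b33a008da99a344628c8ce99a35,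
  nat_lit 0x4010370706518cce8973a464cd40003439c7d81e03b326c4738469953260a060d700633264d84c9a3f48a664c9008003282344619241000650d401132482000ca08d1186490400001022038c9301933288fc461925f34e0484b24d4aea384d88c47c64cc92f24548c650c98299b32e008cb1941932a65c011b1328326fc47197328766584608e3346505cd7a49486654ca0b80003c6d4019951a36e90ccb995053342304599632a140000c9b102465868d924233065814d488b11465ccb0519b01402ccc9971933002c061a432eba8ec269a132e760004288600465c2d1d84433a65cec0008547a684cb9ba3b3d2664cb82998088114039975c,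
  nat_lit 0x92d260e815e2b4cb9966e37c66c0119a3306e664cd80233c66044f4a62336660d4cd0ae4c009ccc1599d15e2b8cc9982433466c0099e332221153019b332da678570ad33466490cd99c0026d8cd1a1d815a670cd198204be978cd99a320062151619d336726704188d34a66cc0d381039866db0ce05a3e801ccd9a1c8000004cda30300620340819b203ea798d180f334d6004098123466651c0219d3c276ccc939a54a20fccc338000a0118029986a00066414198180000040204409cd2000cd02c37a65da00199a07e100cbb41a149a100cb3380032e700cb33000004660201da650020001282632ac608cda01b0166780080064,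
  nat_lit 0x38e724580bb4d2650003d19432a3185e993790d21a8728e6216b3084a7e18a650c9bc19c1909d0ca9947700092d600b532ab22680119832c655d8d9277188660ca8519632e9c85e9953f12e91c7d2e55d2b2081a724e2658caba806460250cc997473308d44900232ee803103a2b32ecc0004788e00465d211820734065cd40008b114004cba422c40e670cb9a887400664cb9a9980ca198031973615c9a4ce99c32c7a000cc1fc0c4659a000198168968cb1400033019500196290006645aa6132c5065c000610c46598c2f9f91722d05999732ce666127a5200c65dc85826333a670cb38800330938511967000066053a5532c9a000cc0aa142659bc0019915e948cb269970002812b19655,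
  nat_lit 0xcf27f2409b8ce8500033e9f46a99d4100067c110bd33a520012f9191a4674bd2e80033c07ccec100033c9f16c1174ba970f0ce8d24f86ccce3b99d4bab5d3d19c210020780fa5b3390a064db292530a1cce99c25364a1c6c99c33614024d123e13a672100019d45c8e4cd8780133a1041f19b2942a04c0899a460006711609033482004ce0453b4669a03c00c3446660c0019b132238cc97801004754ed999820f667403198810000dc1c22347c258cc400003321dccc0c00033c020e80357f33a02439a0c32e1c65ccc212418659d938a6e004004cb3f00032e660e783a7d32c0050287632af83013619700265550000020061b0353d8010000b0179941c,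
  nat_lit 0x174fa2b0582400289e8094780d8cb9f43aa6c8d89a80936e0f8e99b1960006c81a8343609c004d91fb0c86c1c13a9b902a6bc14001b106a728d7a70013627cc2f1af7050aa18081ae950006c01a9c935c9c004011ef0ae6ba513aa770046b414000544288d41883235b26030d9a6f35a8c7b02c23613e8e04ca1d0006d00b27392366058032134390a71c1900049a2c9fd260b2596b208821d4380040c017063222050d80002e6cdfc199ca0021f441c803138e0010887b8b420839060024dc0c8e447877416004d70108e0f41d40026c190549acd38080047ad042291228c43d0748d3480180084f3cd1801c030003d211a2cf42043c20000080200914000d01bb378a6c780f51e83d8f10478900068138923248c356e91d4a6948cf44000012028cf4380700c0145f99e86,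
  nat_lit 0x7f4fd8030046f67cff2da23e000de2900037a0088facb9d3786f4748ea376be184018020026ee78001bc3e648d64ce9bb0529e1429ba9c002778209f037536174f905b3b46e874ee03e07a0f0dca08410846fc049b98c002284531bf37134004dd0ff2006e1681529754e6dc60001b9086110dbad0013723e47d9b75a04a74d511b63b0006e01e83e36cb4004012a453c6d9540d9e61ec6d598002a21f6aa1530fd0f61dcea03836b32a894d02136a6a14cf51bb0126d6300080c0166ecda4c00136c180fc1b470378100331b3950006d4299e9366b4004da8600be6cdc0dd8403ea6c814001b40967a0d92d00100417c2f1b294374754fa1b13b,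
  nat_lit 0x27300700d394e0b51639d23920a000e588943e7253400802398034e4ca2cf584744e40280000472c48a1f10c722a8002c6596721195f11a39c024e4460011f2a90e71c7370027244608d38eb41190aa2538c76000e411923471968009c810e220e32d04241687ce28c00038e4508a9c55a0020084088338aaa7400a21a388300003fa181ca2c51d89f1a09a0881c4a90fe03ce61c481536a70f4049389508a44784709070c0c0480b0da79ce153aab09a010019c2a601c720020023834410d1209238270028001c1006a2075d29c0382235159bfa408e118e080237f46018e08020026fa88000010060cd4028250942000df803244b90a72ea26e891119bda00001a0f01bd6d,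
  nat_lit 0x9d4012028e92d1f806e768e88c0003a6388719d15a002008018053a2aa7dc1c1d53a030000009d356cad08c2701b436d391d0b00020b0169d0463a2ad08c0063a056b19639d63aa73dac001d124445ce7948003a24695b9cf280007448eabe39ed0000e912456873ca0e800055aae0e7c111155c611621223a073ebc049d61daa0ce8570003a239c751cf57002744728df39ede29d1606239d0e000e80e54f873934009d01be9e4e72d23d44e174e6ca80039e9f93d1cd4e00200936a7239b5a8f1070593980a0006b26d636a153d9ccac0b28f91e9cc460127491409239956000e688c45272d34009cd01c034e5b813159874ce543800398229109ca4d,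
  nat_lit 0x2cf286d0dc77d14fba4a44c77814009e00800fcef2c9e60e4820ee9a8013be87c379dd70050911121dc870027781a03e3b8ae791132063b666004ee8630c476dc0f9a3e0c076a54009dc0640c4ed2c9e24487f0ec998013b6788119f4532a5c808630c2766ccf6a4043076014002233f6761183706d3bc024ec0200104007cef1d7980027640700d3aee07bd449df3ac0a000ec0640c6759c0009d801c034eb381ee508778ea828003ae190319d570002008ec00d3ab287b4759dd3a876000eb1dd4c89886421f0e0194319d4b20003c0f29d46d5049f0ed0093a96200463a613b474cdc009d501c03ce9ad07d43a780e90c0003a839c741d25a,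
  nat_lit 0x23c41c8389e070]
theorem S0_c : blocks (facts 10 3 13 23 1023 8191 8388607 11 2047 8 255 A R 32) 32 JS0 734 = true := by decide +kernel
theorem S0 : On (Step.{u} r44 LW par A) 734 1246 :=
  steps_of_blocks hpar hR S0_c (by decide +kernel)
theorem D0_c : allB (defOK 10 13 23 1023 8388607 735 A K) 4 2 = true := by decide +kernel
theorem D0 : On (fun r => defOK par.W par.WL par.E par.mW par.mE 735 A K r = true) 256 768 :=
  On.of_allB D0_c
noncomputable def JW0 : List ℕ := [nat_lit 0x6e67735da39c7653d36c639b75b3d43473756f83e437d71976f3a36e272871f6fa6063a93c46802eb3b17483353ce7523ec76871a77a3cd78164673b65e3c27253a62bf7207373b762a63e66a3be67074b7457426ae3d674f33b6c27603e23e16de76d77477673277f3f279374079f3e97833ee7147663fc7127847883a17703fe3ab78c3f43b374c7543f13eb3f674672279573879679a3c775c7a17627a27a97a67787aa3f97af7b178678a78e3fb7907b779879c7a47ac7bb7b27b47b87bc,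
  nat_lit 0x69a7596a13456d27113736d96e92a95c26f65df2a558e37a3785fe3113986e02cd2c85fc30371d65038a6002cb3ac7264be32e72e3b42d72e831568769167869675739e7026da3dc7163973b93e672d3af6883cb64364015c64465d6341734bc5fb5f85f52bd2f06332e62d96267356286106383a463c62c64b64848a31c6611cb12b66e34e34d65632a6aa6ac35e68a65a3c064e68f6c033f75f3d85c638e3da3d135b6dc6f270770f70c6227303bc3bb63072b73c73e7513c83de76b70a77d,
  nat_lit 0x4c518815014d5062fc4ae54118a2fe17e1804d42c023a5f15e32ad1e12f24d82c24dc6156242e356c5f32252d45ef5ec1df2f65eb2b51db2fa17025a1904cb11a11716f5911d13004f71c949712966d31e22167532066246430e2013405606a95663366653160cf64c66931a46c30652c3505286956b76b43706d52152936bf6bc6bb3593623645d329f59e3842de2db65438c61c61e4c232c2d12ee66668567d67a3927007043956e56ca5822a76cd3682075cc3606a26c43436ce3766a76a4,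
  nat_lit 0x60b2bb4c918e48e31867732525853a5802032945c553f53c5723665392052a15d929c5ca53235c5206b92aa5e157636a4ce3484fa34a3276981e569d51669f2b82b757a36e5e92b357e6d72905864de5cf5c026325e58419d5dd1a35d55882613886ea4826196ed37e5b86590912e01602c61632c46f13825b43046f53865b030843460543860360f5f66372f41761826172d361360862f2ec4f54c649231268d32365232833933d29b3903556c86ee7096ff6fc33067e6823331561534b2537,
  nat_lit 0x1d650254320d0ec0f048618c17c47009c43049419e56923c5151e651150c4330924901a443709648c1aa2e461a21c55023e2442222265191ea50f50851d1ee50b50419219440c1192662654c11841014fd1091cc4084894041250c20bf5b328355921f0bc0b94520d31b41b349a52f2805af22e22d5bb28b23855245f0cb0cd4610c80c545a0df4ef4ec1431fd4eb1bf4a21f96b335354f54c54b2135c92974fe35651a6b15e52af26c26b1a95d159a59c47e2dc28f30c43e62163b2f8175186,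
  nat_lit 0x56e24c15b5354e54e24e11b05311ff16911146251e55d22822b25052b1fb1644cc5271f71671ce1051060e51e246a1e856523423725456b2402435701ac19744626e16d25c4d319a4d71a044258d0b558b5bf5a20e00dd10b10c2745a05a42890e60ea08d08e0da0d74f34f00d40d15011032782775a828527c27b5ac27f0fb47642a0940f347242609814a1474aa5494d060d2302ce5e72b115e59912612355467346830a5246936d136c20f2995d72a35963804b51550f60f54b114f4ad149,
  nat_lit 0x44f0b357427242f08b5782702575a72495ab08808508207f43b09a49e1f31381351ba1b91f05125475440ef48510f1124a41d204204040011f5b72874a01dc49c1d812d1d44ba1c605a05559259447b0fd0ff47d0f948111519805204d04a0454560d91c12184550bb13212f5632324e85571b655f1ae21a4510b645d0c74590c14a91444a714113e13b4782101c41c31f452316a4f84661ec24655a4db1a644a26846f0e35bd28d4b917a42243c4b715912011d4742161bd4e61782080e920a,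
  nat_lit 0x41f07307006d06a06706406104f06904706305d41105706f4490a90754214450a344109e44d0af41a08741608141207b40f05941813140b05140704940303f41449905f13d41c13707c07942824e0b00ad42425207757d42c24a0aa0a70a40a1]
theorem W0_c : blocks (rows 10 3 13 23 1023 8191 8388607 12 4095 24 A 1246 480 cols 64) 64 JW0 0 = true := by decide +kernel
theorem W0 : On (Row.{u} r44 LW par A 1246 480 cols) 0 512 :=
  rows_of_blocks hpar (by decide) hcols W0_c (by decide +kernel)
theorem idx : Idx.{u} r44 [[0], [2]] [] 480 :=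
  idx_of_cert hpar hR (K := K) (by decide +kernel) (T := 735) (T' := 768) (by decide) D0
    (subs := []) (by decide +kernel) (T1 := 734) (by decide) (N := 1246) S0
    (by decide) (n' := 512) (by decide) W0 (by decide +kernel) (by decide +kernel)
end T0
namespace T1
noncomputable def A_0 : List (ℕ) := [nat_lit 0x63a788f8cea8175a7830a092e230d4d37860554c295ae244df16fcfb6d9df496f16bc2778b7608db3bc76e6b6d4a36cac3db9a4e52e0d67c79516f870a8c9188a7d8e152a32a217066ea78a73830455d1b6092461a915670514a924940b7a95849fd3b287e02de2b75a5024411bace5271a906e648c4963aeea1b99b99229d29e728ab9f6d7dd7d8616e399e48f28f094352233febfea0b20b544165228925d67978a792ea0a64a65e0ac59012852863bec1284012d0f8ee6cd809145a4d39833a73dd15cd92fb10b6f7167164be03a29e50e50c2f80fb307d87d81473be0851512ce0174bd4d10b0c24835266402fe39d472719426e26e210a62f6bc5b9111e140866916e16811d18502495c7f446bc60e835eac269af256242e8dd0e23a2989053371403d03d28d78d79a0ee746a08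408169d200728004210e32c022d0010a3802a0cb400bd151a21eb82a0fa7c04127927bc12c3e9a0c016a10280b7801403bb4b3d2554bd6166101310c8087818a802465427707705892892394394fbc949d9d0d9ed9ef14616e412b92bbc130a1c258c36020370e050da29d087306d1e06836e12370b45913913a41241e5801a020404f04f79381380c27827980281dcc06009780250ff3c91091420944882237049600484e90400401a03c0a6f007013685881e9c730440820839900ea01978750753077caa900e016271043c478428429cf04e91259e9a8f5eb5eb51e088588328b1c458c52611047e080cb9e0a841043c403c064a00a19e801839fa8b18e4e032850a3072054680500a1c0281c8c1943cb003a23720650253002807880bc19500162c6527f02f40020411c0be0be200a00a50140069c0a055e004c9fca952633808e8a6a8c200a200060d4e3083088033c283a54a54a051461c86f76f7816789008b3cb3d20f62acf02607b48093762453c544e04c16500120e9580e81b90048049c00215ae06010d403000ebc008175c0120c0f00900978000d28877c1c063be3bed04003f102302008018538451429e711f11f09830310859808040d052a11942d640cb8cb840c015440b80ac200818e30a30a3200a80a822cc31a22470ba29801801c514651a05e48e93064d270600b3281700c1c0081809068068694514524554c19a0ce0cea0bf0bf680a817a801c010201802a2016033101d0a28409412c40a40169003006582301a04118118802c074b005252282608ea4148555c04c04c9008008682e02604170170602c0a4d00700c380080b0800c008c00004a900700310008029000401c60020025000,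
  nat_lit 0x70384c21bd1d93c2c1e91d34a92c9aa315045044253e731b49acd1091f162439b21340e222c1071291293886d43a202202627505de12ad4e938e389404a84aa4fad04848be8beb444461393ec5931238af9ad926dcc284283793e932a413a47e0daee7026d789d49433c10cc94c9600da4c8504e261182719eb81ca10903ca41020ee20709f0904881247c843ca35410e23e158458cf9170b0de186a484dc352f862ee61b30a170d463c63c6e03a2f958d58f8b80f86ad615a550e092058705c0560c724725606eadc41a03f558492291c29c68200e42b245dc320383681f3c3882e1c4d21c4809108b781e81dac14c23da01e148b0110922053807ac004138e00e4d054555c3792485328dd117525111bc2ac299b4b719c83ce22675348a77879133c37bb6ba7b8f10b054cd8cd874fe64f54d03ae21f1e0204ed2ed3017239774c3bb428a00e2133680fc238438e4a599f5c1c58e1d2f835d47947bbe7dcfbeda465d1a0491cedae17375f4e034c386778e59c3323321635a303cc9a483ca5a64d292ecc2730d12b783d9f2a8b911fc4dd452486eac0684653efbc65d201aebd46a17e07f03d54bf7c1f82ed50bba51890559593a52a52a695ae28530930906f86d768a41c224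a01239a500bb902c64815491ae13ca10a68eca624ea6422e484c1b20a4498a58ec16c1696534b73af8a4e3cc36691b4496fed494a4a85614deaac52c51c748986d8e62f0798359baabed2d9d5f6be024b24b2785d2dba1f666d04d96dc6f6c66c63927bd9bdb009252096500306d06d58060e3102a024560264d214446c9811e8a429b55b5428f557e93816564a3d424a18c58c524fa702737507d100703b241c4d58425a25a9022027780180ba4008341e1c81c890190221040887202057c42ca735016cb653814aba6a9155154249e51022842c91162b9f3c599d7825bccb42126126124aa4f3d25d8c9cc7058a228994b3944a3d3c7f576ce8c6f84918e1903817be5bce8d17108c647a96cf12a3a298539415118e07b2512f2872588026129c0280f6505462e500840a8584d852b004426da0206e6c07a0984808010881dcd7d20f860412a3057494f951a07b47b52ece4fa2375375803d03e240501ac4056057000e17350593b5418d67404deec8486353be41bbb1aa447eb71edd86ee952298211531534054660ce92b34109527c712e0be506545bd842ae594205e2846829838842d81a5c60e16c90b449b7983a4a297aa9150967226225d6cb68caa6588e28e284c6738023936e18363a29a428db1ce4a1448263a,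
  nat_lit 0x6a439222c3883a087e0086086d21e0f46a3a53b3df15085862c848e45b13e696710bb62ca2a0e86e41b08957bb3ba2df0c2ee2bdd36a4cea77c3a13128336528518525004aa0c944f0ce11bd9bdc01f04b1216a5ca7069c3d3337970a8d599bd025a706f07d08658c3841b003861d4084f52a3da759438ad77a94b1c55e8ee65ea38047743e2be284e00112044e844b83183110df0df36052050436012cc19f042200d80dbc4009be0b9eb9e48423da7044a960ccf4ce1a48848c382d25c5a470de920b6070691c68eb26408a213415c10edcede10104f4310621d74040e5a06ac419c1d21d0e01923b20483c50c7da47484c6bcad808c3c182c61db47f47d86120120f2a8220215f9142c2b8b12057c090f05b2bf4ccc82d9c41caf604826da709f09f119a19a220b60b563fa89ed0ca0a251c09ee1024822607b78743261c3921ed99d387041bde4c838221a5337103854a252427444894abea1aa58041f090e2e108414e67a894c0a10a11808a2638c94ad1c38c86eb613613397ca0e3c630631806205c118532358368d38498c98cf12b12a973690f3ba75dc26ceddade77b6ee94a5a0685bc4dd1cdd9e95e76277a99590a979520b3a15a91ad334b5ae2b3bb3b7d8e5ef29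d9df0c36a4ef2a7c7b50856b1bb0ab5ab5a16a5376e2df2df797018b34de0de14c515b49377b077dd55c8267418a0edee5c05063063380594dc1b55981225540ad2e365c696a171a426124605a8d1102ce2d48030969a4de4185859e59cc15137980e78e7b04ac4d12138872e09d09c221b21b342830e06162156d47a474185701e202b82b861367b6709b051813f13f3014c7fc6080402e56e18521210e2c0aa06c5809c42cf0a545b835835830994f55451c51c206d96069ae968a2718d7524473fef9c69c649c061132afe09da70103cc381369383c9c0301f488d80f86d90373ad54a19c5da25eccc5288951ef65697b4951d249cc0a9004facfacb7676d080a30b7b559ceed8108aceb0e023682cd2cd2cf84560e33e182f01517011a09a0881d8d5da9e46b4a4f28714d6e5d51e82682533269e47661b52858e2b525b9ade2165f27e9b894273d97bca41f8923d2bbacd3082cb2f4dbf5909e0b0ec533b6fc482a42a449464160ac72c71a79879816d4834115b95ba9a7956d6bc4215001c01c588386ea12015650578578c19e9995ccdaf13df9841d682443c97e64648209120a63788d51160fda8a3f7ba41db3f32d176a08f4f54f4b38e3b661e251fa4c0291029373b10aa99db11bd5bd0ac52ca9134b3a62703,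
  nat_lit 0x1ad381a0eab0a880e5400a07090050352002ba1405a1189c5823d503e2c3f58038268c01d7594590bce9860456161f61f08294140a1f84e4b54546f799baa28573e181266f255026f33051434a40514a6204550c2cc2a32bb41091090ca8cfdda204204201c10168472aa29a4c9dda1c4388a6d61c2183d81b347146e8e42c430240940958f5bed262507ac20790e0c78a41808b946b30f2421c4646792a3dd1c7081b8e4180de05a0acd0f8b56687652b3ab3413853851789788b939a6d6a59c7429eaa1160d8845a12be6c468a2d66b1be26e53164d5e369a3e26845a190d714cb461e811cf3f5691389ba173d08d08c62942950138364589514695a4da4d6d34270b14c30463efd10a54829484f38f389b078c7147647638b9cb9c2102188a0160bb80b82572a9e9d416f82ec2417039f5adbd8610e91338e181762fb14b2809de9dab420c2654020636a32f72c423b8b0341322450ab23f2d89221479ed10d0c320ac461ea190e01623140230733481e0d9638c66a70a85b312e79252812d13821447baf1a53e06a26a2688d30d31f129140e20864a199a222c225225024c2fe2e207804114b1002d76d0b5f028516405543a7909909a47e07e06d32978e2b76995b2d32da5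15523490283668814023481e89b88be61ad23ca464f1471475b4ab4aa55b84e86d10df6469a69a59b8b6b0cde18dd16c56c446d7aa75b78bfd8cd14d14554655a46f18385960b78acde99e20a40a40811d6214a3630e4195aa6d3010dc10631a31497c2179c624624497ac6ce1f14bd40da0d70d1d51d4615e15e248548562d8ad8a88243d900923c840710c92162a45345a22c4658a860e1b791b41301303469e0f8e646876209e8ef09fab000de0975122c6e74c287163206e06e1d545545768b2fca2a2b45744922bbca897146212544e0570594004084ac3d03d5a55e55eb09f1fc1a25194347f8a943281280c5c65c64cc607e1d3a13a03318666292d62659644c6218f98f96241094daa92db0c13c96be8161c9f2c0134c01026b4027863b91b11b08410154929a3cd11d241a9eb71f8c56eeeca96f7a4159805beb124554c8edaef6c8678c87c33c3391cade65722663a72a772b84054051dd3ddb1c63d0ca87807805bb418f04d5d2d126ae19ef12d1743819153bc6666151304dfaf69e63b4aaaaaa8837556141d0b3702bf6aa5a261fd92222220446646687aa7aa69c41f728fd5681eeeaeeaa613176420e3bba961ed6e15de828858741d7acd35bb54759d982a8a3a936d14378aa3813055c551257e28825e5,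
  nat_lit 0x6e970a7306b4539ba1829cdceb14e56950a73729053890d815added14f6ee58a7b76a853d9ec829e3a63154639688fb1a1047cb71c0c45b4c0622d9583116c28188495c040248d02012360100912c080485404023c40203ef714ac04b0a55821652a4c4a295971494aabb10a562b5c5ad3aed2d69d6616b4eaacb5a75145ad3a442d67de70cbbeeb465db6d832efb8b19769850cbcb72ca44a45c0aa520d05528f602a88c38158a61a0ac52ec056074582b12da8158a5080ac2eed02cc4138b5d59b1d715e48aa6f88c18e42b3a0e117b9b39b39c28cd98c1466c820a33cb38efc5b1a0542d6c02a16a58150b4a80a9c8dc31af7ed18d7be60c6bdeac635ef1431a962e0ba4b0685d257b02e92b5417495640babab5d21d21b8c020e9a601484c300a3e218020c88871dd9a8bb198b7943bf52aa3ebac651e38f1cb1cab2478e431239ca1491e38c648f842cbbfbbf6269591ad34aef4c9a431034d2acc6be5366b0599cf562ccab4616673c18b3244305cc62d833a338c03019b58180cd180c131c97629a2c0c04d0586026798301334618093291cf30c6034185ac1a0c28c0d06123068a1e64e8413046ea2e1ae0ca00628a94e194547938beefdd146b4a8c306a53598309b0c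c19015a603334eb3b30560339819819cc0460ce98d04ca4ca605fa64ac2fd298c17e99030bf7d578c98c9b00bc649605e322602f18f18178cc2c0e40b560080586004029180205f300542f5602a17860150b9180a87cbc0cc6a5c066350d0331a658198d2240cc688a06634230336c570a2b61b0515b09628ad82a1456bf20a29273812c935a096498c04b24b58259241012dbf045a20ccc00b06558058321802f1006016e32e9c015d1817114b8e20115400c0824006267110b0dac00d06c9a06835e90341ac201a17d89229e808478478c047234682311810118789a0743c2a03a1e0481d0ef140e87748074f8c7b457c8712938bb094a26164a5210a252aa07c4744711b75b760d32c60b11d62f188ece5b25465413462e08c15550330aaa908c5562acede6de6944c15358130a918098540604d30c3a067ab70c39ec1d0a85b5c054854a09b256702606b3013095560984a8a04c251202620304ae0169a56e586b05c2c2302e1600c171e0cc3e4ba2b7f82825829140981489fc60a411ad15b15b438738728984c89663c0d8a00c326692903740cbc319802c18ab0160c3480b1089012530988301da31c401a600100c28009bc0ed32ff0d3e21a31879879b87b43f5a1ea08f005114b78a10a120db0091800603e3003,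
  nat_lit 0x4652087af90c43cca5a8284dcc04f46008c18c1ac0c8594606502e722d79b70cc0c12c678ab8c33c300319e75a40b64cfb1cfdfa96e7e9e2673fa7b1b9fbba2a5356f044e0e93016938f68e383f94e4c5f1c41841835c35ec188640ac1590c5dcac8a52f7a932b50374a68d591591435aaf0e579ae923a03a0313a53a482fd4f8bafd7903c534533951abf51121120b1f95463991040281c95598d80ef8317817810f10f43479611083ca2c8c72c7d45bb5ad2a88c61b5446e1e46237350203d1b92c1e8459403e3dcc20723e68252d7b95fd5fd6afa1cac57c0da580c06f2807911d01d08f8f0c82ac706520d30328c6541943b2386085c614fc9421b2dd6170155a0ca94bf87520dfb29b36b498b46b46e7c83991098bb13d2d2c0947815f2b3933c02595de52de66cada77e3b6e8653b94cabcab90a32da597e4c8d06e8bf2249cab132560d388df2df2f30a90c7176976381930008b6743ae3410731006b510604a049ad223a0703813958ab8699855cfe1a7eaefc76004ff6b10866993f834869fcd3e444013b7157c4bad9590b1248b6c23633458485249a3da689d1629a282314d6e410a6b5b3d4755d081c83a870e4131301408e0c0a27f185bf47889602ff603517698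1a84a0a0d479ea248a51618297eb0c2142cc6114903308941831850139daacd970a143668501d11c281a51ea9eaa1f29d820fc269b264a959c8e54850180d2c32c30e2f6598733918c3a960661d393096b6f45b7bd9f91bde7bc6deec80e12023f689031fb04818f52240c784120115189056da6d8a40973052d69b209bc5967af98cb3d030662cb2ee68a853459037f2c5599ac62ac0eab127119203db3541bb20c9cdd9408d6ecc265b7657b25bb20cc8dd93ee36ecae713761a4a5fc41e202526cab15147d28a88948c544eb56320878409f5bd2106c43324747cde1f2b0430e70e711b62c2b43a55f541d2ad840e982a38dd8e5340dc5f9406e26a90371bb201b889042e45688956afcb1c84f9186734524c82c81b54f698f91a91a61a44203519178d8460690975575568b5bab305b85e5421a93e910d79f40fe1971c27122dc4301fed01d0d4480eb28aaef5d1c7280e868940b0e725a388addb5e8ceaf4af4a25b18178c93e8a8f889e5ed91000e1a573068d2ba63069575d634a63061a57ff28d2bdc90694c70634a678e07033b603818aa41c0ce4a0e066c107058368efad5ac77d5f143bf0a491df83930ef87f1077e1a423be3f6c03f1fa581f8fb980fc7d4607e40ce04020560201022810080d20804046040,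
  nat_lit 0x3df42bf46c925b8f14c166c4ee1789ce24eb56f32936865060970cb50b2f56832cba0666cd1121f642ab8360fb399aab8090a9fd9689ea9e10dc26628cabbd0c656d087062a9ae3b8b2761dc2a828ee0a752770a88e85cbf363e52973224a5fd712516aa89289c19024012cf753bce7732fab29f97c514fb8e8cac10e1c138982441d5a673b3dfa31d9d769ceb8314318122e7367bf735b3edcd8d9ec0a75fe5fe0dc05c00efe1630f7f0e90a16e5388275a75865f9d75f051048e25790a592bb8e354bc36de1e2456d5e254e5924c1438a1e9ddc63ed42899f83f71d8878b03794c9cbe4b42e15d52f68702b29838139881c065820e046a1bcea14b94e835daa749b6553a4de229d13a9c9fcaad83687fa91b41bf28da406106d20690ba83e8f1b753668dba33b06dcffd236ecca7138498585a24b0c2d2201c44e4f6d22749349138971889cae8844f002322720a11139b5b01e4da920f26d04079367103c9b3041e60158794ff8791f9157c04b282c7e024c2020fe8a1a2552586e136a813c9b1209e4d4104f5d0646b40329938f28715681c36765b609383b3207017609663663063fbba24cc1669e6623cde496a8225835c94bd2bad8eb5e1b86900ac0b0df3fc0848b542c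c95144ef04bc8e1cb6457102accae26577d63fc80891fe56818ff4bc0d61a988eb0c82cc2454415922c710c915c518489132b2448e149220c2189121fc6488c12a6ea47b085632bbda66d652a589b428d48116502ce131970d6c80eecbab2de5f872034d791018d2c9553668151d12f4880199184015adc1f26c6b078aa639a4b018c4e96b4711711625c67f512432fe08708d6085284b4b28792f72d78eb8dc59109c42313424321dc501ebd3346186196b45298c2895a2422a1cc284409d8f088b96d1cc68d48e64019073158c239841c404357161088719806438480321be10198e0092189e31a9cf78c1d4ada40ea589107515830485619c41a6a4345f2a03a2fa3908aa9721aaeeaee49d4843114bb2720a5c701a69d88434864861057afc9124121167888fc53c409469a49908a9ecc7c733ee34799f3c26042dd1359d547191cd36ec3a4b1359d25050ce90799c2d23d304bc2f36d142602d351f94c9a92587b23afa85cfccc317ae8a16bd64b265eb22c6085af4ac42c364c21674a510b5e81885cd1b8b1e689a58f13cc2c79a15963cb838a4e5a9a5272ccc2939635949ae928a4dfcdcfc1812d7e093363f051c2df81b714fc056447e050d7ded5ed35695531ab86f2ae18079d59e08ae0c0b45f4e05a754b10f,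
  nat_lit 0x21b145a10c9e2d2519c50d288c286a6a3a2c0461c08e41dc4a1202d2508fb6128084380717990902b942796b17721f2d4b50fa449b6968623536221745ce0fb9b02d5c6d80b38884020f5871bc22a2e57846bacf1aba4db8e7c72dd42e51d57a0f1ca86b74e8f423a73f085e0e175ce6d4fed736930639b43c0dcda0c1865ed04c27a45a25a60eb3a16e18590b6f42c5e380e4118d79b5c5b10d8e2c9be2716bc75e0445a29cb25150d890304745a6b0ba2a2c9c78ad2c547d75ec943b8f34a1dfd8e50e169cfb3732d7d9b9763ecac7adf662a9cfb11fcd7d88f763ec5cb2df62d514fb107847d87071a52ac539f06d19af837eac7c187e53e0d80124b9c2dc966edec4b39ab5a59dc9a92ce32dca38f5ec5ea4a15af5493997aaf086bd497285e954758baaa139f305d4c18495430c252423feb93b857c57c2e42f9864ccbb31a6660f2ec62c29d60f630b8e7ba63473db70e39dec9a3134d81bbf8b345dfdc689c46f74d194f483627ac76d93d7f21cc14d58dc5244a6e271064cebd62e05ded163315fed5ed92e52f68bd207ccfe5a11f32ce2ba82b215d2e6104b9395025cce6b90644625753a9b10cd85c68669c6817e8ac42429082c409754420ae8291685d36880b8935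6fc5796e3e378c0a0443485054e88e413ed9669420163c98e115a352b07f601d2d61278f6de6de6183b6c18c1e91c660e9f4756998a15ebadc9ef5ef5d958474cbac2b061bcad37b52b29d56958c2a34aca9812561ea3dc023458e00e00415484d61ba34e0cdd0e6974e94e8446fb5566004c684ee4e71ce9880e185c5ae6129a1008991a10edc127ac3711c32051571aea9aae5c7946e0507a36f183d5c58988590d0c43574e80996559af4df14d792fd6996ec903a393a59d1d0694e8ec48674761e2799a784cc29d130204e80a10273c308171b836d36d354e1c846e56b24c387082580746921d5637c882482240953ba58421c9102120dcf6cb6ca37f3a140bfa2df9246a2bd84471722562a3a3b640ec389e50404dda89630a34a34433494889b9c7d64c44e671bf810132fd28366bcbdde0ca934b0b672e5a664332d150bf180cd0ae21d51cd38ea8ed09fe05fd6182b1ce7c0c086be061631f014cd6f811dca7c0bc363bcca521b16419c49f200d24f5936127877b54b106dc12d118d1f72ef6a16ae00c3ea35d6be68dc22d360f116a34d9302707192a15628c10351483a8e73d92d92dc24493a30b717113b31d0a597d97de5e25e2b07735c283b96594184445a6b6598c4956905a4ad318d255e788ca1052b213,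
  nat_lit 0x5b559f2425918c580592f328487416bb6229c6dbc8fe361ac7b602bbddba76363c76a9b1ecf5b42d42c4aa1aa16512516ae8928b0d448c04c1135fd68890899c07c7c14c74566463ab111531aae39599eb877b0f62d6c684e244bb291e25cd01b536a3610d293862e85a88913e424744d44c2a1fa1f724b9f22d25d781492f498e8b5a2209d5c7fad2e4eace17afd0b4d3a90641a512a294d29195529e8aaa9b4f75c4d1cb6e252a59713612bb895811dc4c858ae26994f2d7506b66ab3a2456c64b2dfaf3576fca1e34253f40bef4a989321eb593bf3c6b9df9dd716bc9bb4b5d28985af3b8b2d79da116bcfc38b75849a5bacdcc2dd9e6596eb16a8b759f1c9d2f18338ec0f6cef4f53277af6073bcbde3c06bed65b6d5daedb5ae076db51a2b6dc2e3dcddcc3a5620edb2b17c0b95850714ac30c388418184379736e9392786c9ca918a4e50095169660cb3e3d2259f5438ecfa5e4367cd74c65b4766b2b4450d96e4946df053c16f85250ab4446b9bee341c6f2d7cc9235263491a12867e6795c5b341e16c3701631c33d198e19dce6e06b2eaba7fe0b775a1b96e67f878133c842e0c2573751e5b5bab0556dd52ea46ea8c44258e14ba9130d0554d3e8e7069e25b835d629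f525694b1378039b8a9a723688d291b53dc67ab57ce5f96b3416a17f30c35af1661aa12c46d3ce24864f4b1c165796e0ac54a705b1a647758f39249845a925556c4920cc52494dc2f0257fdb4ad70aca564fc552b3081295a7cc5784800e9d960c6cecd2bae7664f953b32da3b1caf07551cab0ca327e5c5bd3dcc2de08839b7c3d247a1ae5297a27e32216d118a3acf85d6ecc9cdd678cd6eb4f55375c4111baecd5d1a8470d8d48ea646a411ae3520f491a87fcd646b4a72465bdb5232c1089196f2348c95c59d0bdab57756b18bbb0e6b5dd2a90aeed7239ba6c65162b62ae6e6bc95b7359c11b9b074b7534b629ffba962842843253eb28729f80acc08b911a5d25d061866d5c59b6decb9f60e6db6de32e77ae74716b6d6cafb8635d7d95a9d216ffd7314f4e418cbfd34735f28e39adf073def70d296b261cc1e17ba5297d4728f1023beb5de614c5f5a15bddfdca457c8b5224734db9a8d1ed6489988ff4bed7fd91c63fecca20aea6cdb342be8f4863c7716abf5b4b56ad453326fc6ae3b716c8a2b0a64517dc92295a8e6793e96b3cdb1ad9e48e94cf2260467952d732530a068155bdc4bb22cd25d513212e9f3a42325bc2cb0c44e2997fa694ccb930a66625d83e6863607607432c32c38b20a718590f60f776,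
  nat_lit 0x2e67506dbb09d562f4727ae54e7ab841132823c0918d55d4672efaba82b0d61e057c314fed4d969d7c63772b2d6abd48c0ee0dcb5a4b01f0a2580d1421117d126ca8cc880349ea56b3f11cbc302225e1e1ceb5d01ac3d980b59ec9fb0cf6621c6ccf0d4eaa661a5b6ea07a90023d9169d1f44aedbfe64a537d0aac2979156064ed35169225aac27a2d56b218c50d0af69c93239bcd338a056839337752a3b999f51407e122ecca6b586af56cca105fa21a9b0514dccf8c66e718298c5624108ca0f8c261078413080210989c83b57d4f066d68a5936358a3c341b8640f5e40a75f01db3b17a50c0c9fa216f9b12cd7d4c5b5aeb3a35af0f0708908a043ceb88f04f01ea65d6634b412d9084714586288542c05764c18e81bf9c742a9166e07ae484b6bd3c25b0d8862c45c4c32c3ce44535381bf351b91010fdc13f13ee26388943c50f7909f61e444fb044257d1b90c109d838d8e075c9eedbe33756941d5c1f422ae0fc963a154ad7009e03d35333ba998c51a0d6624b06b31020359878c1ad4083726d1c47da6f26447a952e090354a05718ac2298c25bb2a3331dd5cec25a875cb173bbc43dc609b2cc25751511822b76a87d1bb55703a91e82d962b4dd0b06a0174e820412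7422e98b73586e6426495b216092590a5d84c84a08da8da4b3d24cb9ba0d2145a77d55cb3beb5d4313b9ab1c5dd2d0facfa647baab05b1ac9090e0f031b4a156e765f9b06d6e5fd0ab70fc135d27e6d71066221bbd6c8cddeb6046eed1271c7afc74e9c7cb24067c58c1d7b22982a5c1ccb410a50b6ae034a670452a634d21534d88dfaed990fd7760ca65a5a5cc1dba1660ef72173ce10c724b9e12e44e0b908eb019341706399e64444cf3f3aeb3223daf8f7a0c7c762c608d5a208f6309d576738a292892653e5189ba9a299912f54d0460197a6a8326cb430cd198d14622d5239aa716532a34b2a6a565957a8b9ef8dc095fb55a6cac4f46ad2feec7ae95b5aaf3aa31d26584cd588e2e0aa6ac1d20490322d9e4562ff16c4b1525f58268db1c0d44cd64ff0f6e5bd8dd221135a2df78895816d510232ba8a138d5fe3e93259169365d6649ba8484fbc51a23bd44192a6ce26494b291a4a60129d7564570b4e52c7747247522ce22a91611d6c005dc456e5be78d133f25ffdf34d22722ec71b4e06390c3221b6a679afaefa0b6cbc033c3b138b12d9e5d8996ee464cbb4e1a65b9438e2abb9a714a7ec38aaed59c557628e2a855b75f26a74cd90e65c84db2e700b4153811d2cb7b9037370a62b5b86f6d8dc34baa6e1,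
  nat_lit 0x70c42c0a98126d2e69cd2d85a8bdcb3c85b35b90b08e9a54dc6d2e47eabb66dbd5150e90f08d1487840e6c653d1aebccbba9ee354e4737d2e7b3ae11bd99d9213b9cddcf52716b07e3b423d99d6109262a4708c74e1b163d05a05569ad3e599086a0a3cba9faad2402ce3ae69cba82f2a648d06d6b18339ac5b5de6f15b29342433a5a614b4fc2f0ed6e29d441f6c835e08f069254420eb225546fbc3a41276b8c6bb8ad230ba2f31f217532dad07f985a5bc09ddf9f90eb92b1a26c948361762cf3cbe9428f41f08d06633d360a44fdacb7e7f5a5bebf638ebb161c1bada2a8cd35853851d679c296261b543a08b4b005d2f95d02738c166cb05a00a6de339937514a37e95967ad8bf4899c28687849582340d5016c249691e72e8eda5fb39ebc34a234b18da0958c663dc56756888d1c0a6572c5fb5b82b946703554b37d6593b114f58cd9cdf460fa6f8207d5d90dc2d788de49415819c654c07620b183b592b69110a0760f86097ebaf475fd39a1ec12c0e14172be828eb244b6fb38304b59b4625b53826be96c5cfada38a65a8bdb5633867c1c98b5d9cb5939f72f7c2ef49dce5da0cb100ba893434144561a0a1c40d050c086828fb43915d561c85d290e44d730722b98c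3915c841c8a80e4a92e84060c4b098919fcec490be258572612553c91d2a92ed8bdcb70d83b5ee18873118cc3d575d52946c87579905af8bb9997c53e1c23158c2795a2e5610c2a0474e159b35172824aebe2134e2243594d3f58ca76c0b653a806a0f4520cd19dc1473374629b9bce6dcb3ab8efc2fc0383b5ba98876556a385138ea85a2d308576478fb9041d84ddb9ec26525a51181aec11c0b75584b3b5fbec6c696d34ee2c939b4271aa5119a6c89a762d2c4959c0e65e1c7aa1386fb1af5cf1045df40373dedddba7a9dc4742af6eeb739116bc05f88db6ab458cb46c236b05ce689f88d9c885621424c87a4126b925d43d8e91a3e64569010c4489d620724f45e3287a5a4305090441716a96445bc4a16b45ece37cb54c26e519124b551328c6abdb10f09021cea8c4d33bc28d51a33dd296b20a94ba645612db432719978925b53e36583d6723d1c2bab9eb9911f0e6438615150d8a881b976da1db5ab50ad40498021efdae31f090286f84b28a205720438a43b86c197108eee8a05190a970dcba382e76a6b0e5c90d0e9f340d720034788fee698879c790428f81b622e5670d1704c9cbad6d4245c4f6730bbc30c8f61bc447a472d08d71309f487bb14699208254ccc312abf95d0529dbccfa3e1b82467c7762,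
  nat_lit 0x72f19168b0b9676604319f7cc489352b72281d488c6171d36f0f6c419c4492234df3b1b2b05c32b6b30b5579102cc3b403063d4f1d19e1b0249fb70754b5d03a326a590a8f702e4a2b674db33238e7ad38873e13dadb7c84c3cf7bf608672ac869b25e4e4a43a8204121a1ecb646475ff418a3b23b31336bb18a94ed6931b6572d9939e75cc9cf91264ed34498f03edb5fa7e13cda05aa8becb86cc2dfe215453e6daebe708649654355ef30dbca75175159c3264deb11d28121a377082048df1711d26ae1071f975c78fc74614d5de5b9c429c44fa0d5aeb5f71e444a11110112af5b0fc1d623d05144a00c7891f75a19c6d6da6b6942b6117fb4eaab167c1551163ee96fa9115e453eb30968d1a5f55be86706b57b3313e08bcdab970a87f4e50a8ae3965b878857609586374e4379b8c01aca2d4350f6f4db6a926ca7f06d224c40f3ba1ddccdae730d82b3a58472c45e88a8753b5cf48c52311aa8e6cf7e1936ed4ebc55dc71a27b254b75da3c9badea1d5180486a209c9680b9ae0a29e8b064776d75ad9597a8157ac6d255dd29cf3e3710d4a58fc5a52c17b86f61648b97126c57a57b0d5dd2736e28979aabf276c538a797d845b61d4d14dc55daea44178858239be15aa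c9efa133710aa36d7a70129fb84a45692a0617867ed37d89b5b2a209b2d65de0548cb74a72db9c132ac69c14c20658365256c8e245e0c96aa4adca2c2c94869b8b7804dd74cbcca8d8b6cb1c7d952644eb528206aa9a298028804a909e0bb5bbcf0e18a79bae2eab069f14c0431061d41881aa10a6a491ccb36be8aaa34f25334bb92d0604c844d17cac1b9f66bdc60d86f60fb1d49f40e32e4c330d1e51bb19c2551147ac9a4641bd61320a7636f32e1cf414b76e0f8ba542dc3e92158233504708d24319aeb7410d658d5cdd292c16a30428dbb973b854911cd2dd5746b60a54b72f46d14bcd0e6fde89b83d850db2aba4155a52cbf0730697823862bab1a3d64d23850e6929cce75c6344a6c8a12286bb0352a6f54d6ff742ea4c4b81061a6ab5030d084230e88ca4a8a24105c5b9ec8247867e539adb40b5e1cde87628821520572f7821a00c186ca2d001da26919d0deb604673415610d5a4c2bce8c989874aabb8ab953ae3115089ee319d1ecf9239b5bb472a85f792058d81660359e7a4a8832d9bb1290de1ce5aad4ce81b985cd5a5b588152dac21afc473a37d03953be84619231ea1989c0f9e8864a2b0d513f939df12d4545b422c4b26f51ce435334d2949c61ab5ead5b79bf52dbd408d55accdb3acf16e7be,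
  nat_lit 0x1e386500f20028009e03c014501e0ca300f1630c328179a58c0b8f2c6104802f0053417855d20bc15b0104060080502f8402417de0c00be305f00a782f8050c028001e01401a900107b7006814180340a1a2ae9fce15730e48abb19b93f8555e9fc29ae6338504b1981438534095e29a0d4902806a6987005bc1aa141a61060cf85030e6ca90343cc39bdca61c2a2a6f70205090167941a01a1059e2ac607b05d50ab03d9c55854600f62a216ec0b250a8813185442c8a0ba1d240b205d405901bbc3a40dd000a00a503710d601b809142b42b500240bb00ad10d205680ec0434180a21a03a600905d180e8049c07402200ba01210600602030004900240cd234a018d0701df301d01d1c77c018407e074204014e282a8a718188098429c0aa814e06238a71238853c53cc52a04c114f29538a788f9853c47ce040060111f020308fa690465cb58e0c40c462d6068103108e88080080a0ac0ac8020295402b06004a54158a52a5ac10c0155096b0cb94b5865d00aa0aa5197008102a829081580a8417e0ce125218e101792920638638a4a4514218e14638c70a305348094228c054514602a4026026140a8634205e096518d145118308e842e8635009631a50ba0ba40c685f882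e8c010174600106719409800a298c00651c2cc48ea19405248ca2693491c2fdc48e2cc94d228a5269018345980212060180a03001568600343802c09940d060ce28a11d5183033a409402dc0ce05e90bf004701780104010055400800090040150801005a8054014406628a704b04b30a28038812c0044016018100b00660000010c0180142068074c04600c181d0aa8894813104a42aad11d025708e82e2855400da04c010e000002200400384130149c0b8018405200c300b00b1c030004c01802c6002002380b0001c00800dc04a000a00300060028003801c0010002000300000008003c792c9da0d944710a36cd4ea64144988ad014e436269c8a9eb67d0b083869ee7afa8f6ed704bb238fd65cd9f68e9c1db9b21b854ebbba890a58545c272145c49ac90eab5899c7ce0dac0a25d8adb68f430d2eaac909b32739dd1272a075f35cb79a72550afcf410b68e4535b0e448926c0445c036ca708a80d8dd27ccca80abc727db0fb9894900ee00becb49d3d184081f510d311e423dd6acca1b9921277b408c7ee0b9837ab4e32c29e14c1f5a40dad47b11100d4088bf9ec539a5f70e796870f3cb42f0a374c40c9857938e31cc5acd271835964be73edc828eea0d55b3a8d1879e062e550d1120a2cd3602edee310c1f,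
  nat_lit 0x9436af5473be50c6584fb2f8107d97d808cabe0bdf61f04e96631af7c14b333e0af5092cd1512bd4998f5ea0c20888061280c9331a1849a8e0c20157861085c030a39da99832c94cc3085266473a6142329b1ce48ef8e78ca726a4654134a5495194e7e98ca6e232f6b7114ee1b3e0dc477086e25ed3b7139f897b57b4c50e50e75ed4442a19943a91110cd08882d1043316830500501c5a00a942d014061fd1fd3850449287f42fcc74660e18923a3385f833c0c1c531460e6bc530785035615611e140dd155846e814ac07a71ba08e98dd0dc5e29804b014c0b471b887d28dc41e8a6e20f4901100d703d1d1a4d78205c7460eea08100e4840807140c40c5001c10ae00e0846807008a4210658c10802250a30a3400887d4028c17dc1468a8a0a345480cb1c9b46580c9c32c0a891965c1822a086397046560b82f8015c118d83e012795f003e8449e0a700fa0b5207d05ab4aa82d4e0c002700b5060305a85bbc2d0050216e16690b705f505b83b942cc2cd00ee01aa0770b36a4a9873d2542ce00d40e410b310b4859886041c80742218063010c06048860cab40c40120062220103102f80ca829a4654ee1eecf2a423b889241dc449053f8a7e112450e689229f33b394f94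95c95d053eece729f18e83b3b6795d9db3cc2dc2dc76cf02a80b712b945b8a1de4ae0a612870e078d801a246c14e9e1c036e953a1b778da01e846dc2d021941682013060505a113981e41e4e44e13ca079010384b84ebc04027a002012e601000158080279801c13e0200220e04f007382793820150435c4e00a8527009e28770772027812601dc12ef0ee10d18770ff0425c440612e0beb09703f78ff1223c914124448800d004901d182484e9c128128c13a026b09d10030298299c40004c80a6012e0530132804804a004c006002607a4013009601e802c00f4730c07a220805f01e7888086c044017ca220398b11003780e60588c73006601d2004c0190ea580f1550c3a8178c554554705e0b1815503814aa8049210a788a0b10128058882182c4f10a33c33c83c43a450429e098214e90a9a89a883a430e526a26a4030067929a8216d5eb01d1085887a442cb1c20ba526f2c72933bf002abca4df80c52678227e010f69e08cf3cf040c9e21e0be910f19e70190023c0c84342064e7ee19e05e48cf1c9b9cfc599ee7e50a939328553198293ca14151c50a58cd28514d482a003bc15005080a802860720b2700a0391c050005e028014601407280060f2901c8328e0e446eb1e5046791b8252c8dc019e09403c304a,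
  nat_lit 0x2b28020b9b80ac0512056008802b76a10b9842bc5cdda8b3a05aa69d09d0396abb519bb1bb0eed53a0876a6427ce80903d9098d4ac8477c20853be289009020ef98e9477cc6b03be37729df31a9ab72b70ec6a6eefadc679556e4c13cddc1ec26eedeca9822a628abcc1a4a9855d054d29ee9836f77cc1a4a9a60dba85340f8e19a04956cd00c73df1df2a0f8ec7423c15eb092ea4a04a7db3c48a614020110a3092baf5045b9d9c48a832c17ca3b883e537b0639948a0dec940167929910821653cb20a104594d96a284052814203890a101c4421e0e2701300c8038809981c41a4216a0d2d30d00b803485b3c1a4050416c936d0b60b3785b24a3d26cdc5493692894530b3724a1843d252914292948a56c79130d22b63a2916702148a600fa454b32d22c89b5705b2e122728ea9138e653658ca41b2e399a996996f0bf5ed1265983a932c655299671467d838a2ce0259bce2a7010714fb0738a9c02b709838a701b851380dc2528614c1370c2805b84a190dc216ee45314d7a299b8c114db1c28a744816c71457b6392819b1e51d3448c74667969e7b1d33c9d8e867529a6d3c219d03168ce8184067525d0d3cd3c85225222b4f24b99a798cc492e92e52c82c8424bd2b053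4dff449a661aa4d34d41554d54951b58e035528da8aa99d91491dc4a6766e24b6fd6fc8b89b7e2c9ccefbedf924956fd2728b7e2d77cef96b9635018945af1a882d72dd2b7503140b7677925badd482ddb6d7cef3731a77adb4b2b12b08b6d9397cac3752a562cf83272deedb3e6f8559f4a7c2cfa544d67cdf05923923437c31c4248c559ac702ab0638951718694542545c19edd4e0c846d7057b8323695c18c3848da0d1030d4920986b8299248b1d0e0ae0a52c71561382b75bdc15248ee0a9246a5673f0a4952b1d24a765f4acbd629d99d9296f16f22764b59f3b2fc059d92de803124a88b79bad05bc940a4950b76a500abbd281bac29411a896eb14e7b7594999bae350a91891888d45dd7a46149a9775b98abbb29e16e6b9f4ca79451a53ee7cb1951948b9fafb3c734731abedf6451cd28ef8e67c114a3b3c8651d48842aca44f6798e712913fe9d489ff427264bb07fd2c82bfe96a9645245105aa590a2d59142b76376224519e4c4ba4ba7679295812e94c94974b21e5320ba12c828611429430414c941e50cfb062862502be0851889410f924a0f82825043e33603601d0f9cd8c87d49a16c074e4d26d6142934c18d49ae9c58e773613a7473a1d3a16e0e6cfb2a85b7450b8b3a2a6b08e8dce8b2866745,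
  nat_lit 0x5f074a3af82526d7a9ebe099705f05c14af825919f01c58a958b6ef4b24ac438b3e01d2c93304b6eb6e59b46320adbcda216dce29eb6efb255b79b42b719840a6d2701f368dc689b46e329440a689b8db85edc651086e36c609b8bd9a5b185160d8c49e66c67b32924924a1ecd0fa0492500124909b7219a2e34294a0168b850070520a8714002918a001b4a38c38c806d09180e305ab07189a461224d270530a879348a4249a414cc4d2d9264331480b648a329b250cced92290502502540a41babc521b55157edaa73083027b6ad5f95b54c20cdaacac2abf6563424c249d959f095092c6258493810b1883eb8e04dd4c7020fa5021076803e810a01f41d8a01a01a807606b803b1ab041d843cc6ac6ac710f0b549ab096981a41a4e25a04e50170b478138ab3809c531a04e012a027069481380ba009c341602e04500170e9506801130390088c006006702201e501100f08438431221c21d010b5f1708705b28438204a21c9a705f15eb7af8cd4093526a1059535076f67fd84d4329be6a0b28b350dec69a874d1329ba6a650dd35f2268a8e74d3937ba6a2ab428ca15e8aafb28288288814314415f64150451049f028805e1164964c0b1cb24ce0ce0c72c991373af3af3d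cf91b44e7cd96e73e19d6b9f162a5cf85b82ebccb414b349b751232d3a48d969a6e2c65065aa244b2d093198e8498a53224cf020497789314ca04998e8e24c61c149e49e54e824f14b298c8493c594849e63268a6142298c84760c6458ae05d2c5694202e40b158e1258b296230863814a5ca599f29f28f2968f4994b89284a59449a52d1e8a888bb6f47a444423d2ed99f09f08ebb6546f5db46332edbe1188f48f4ef843daf7c21900be13e5a864029d2320109019002f30c83e59532d1704f96e9cd7cb4cb43e5a2e257b5170a47a47a845c433822e231951709f5e47a254123d0217095053a84a81ea02548a6612a0137053853bc04518c414e0a880a74448231944a918c15025124b0f2890fa092c1eca496094cc0ae7b3025304c512982b9c94c2a027b254653d91ed10b90b9151500adc2e4150917245440b90dbb026c3e8c15015070fa0a851ba80a382a0045e15013ae0a509b80529b9a426c261c6e6042b098079804c00198084084e00601b0021013501083e08d7cd7ca16c16c835f30269afb7bb8d7c1dde6be604706735e79811baa8c0819cc6043faf0572a3802b92928a8c7b4a5463da627d27d38f6b71289f4dd4a2980f8e37514c41ba83e142dc1f0c0d60d6707c0b7403e0a8b81f0035e0f8018a06b,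
  nat_lit 0x76d6bb41c415ecce20c0fc0fc73887b341c403f18e1ce39e0fc70e707e38a503f1c718facface71c958f38e38781f58c6a8face1cc492492738773681c3d7504e1eef9b5d5494aaea7457d7557dc2baa51cd5d577d0b14bbe2a693ed8aefacf9577ceda9bbe4d245df3ed96e25f6cc8d08d077dbb8943edcacc1f6d1a1e5188d069399393a34149291a2df84edaedaf98776d2b9fb9fa1db52392edaebea5dc2dd13afbaf9a61e61ceebe782d75f74d73afb9fbdd7dd7a0ebe72d0987b9f54c3cef88e58e58aebcebc839635668cc8cca8aa8664e060789019903030cc9e2068c1da9f4613266a3049034c9a4840b552404162532a4909933a484e83e64d9061326cc2199312b53309723d984b3e0cc261a666112b2a3f9f2bc4ac085a256162a12b47f40959f2a4aa8f94a9415b823e54a041f29533cf951fdb2468fee0b44a07a3f8ab411fc2b548fe938947f29212ee05688a48a48afbefbe82920558149164bca49ba8a524fbe2c06a3586032f5b701a50dd80d340ac0648013efbf83df7d200c2e62e67480480708624040f057c5490015a948019d824051ab97c68d5b28ed9e1a354c3851acd22a8d5d79346a33c27f07f03164a6185fc0b24efe0fdef7f0aa933f816395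fbe958cfdefde119d8ca0bf7ddaa5fbcb1cefdf4ac87efbb52dc55cf86ed6e29176b2b2fbb55dd2ddacac14a30a3112b0518595995941462eec0a31f8152b294a69594a52db6db6a1296e25e94b71504a5b8a2cef4ef22e2aaa5571530856382a66cc236bba61253d3308c708984b374b6b9c23db5e929270870903743842b19b19a0e11be1a7086eae38448e705924729be1238abb8bb8848e2580aee240c1770411abb88aae5dc4817056a40a5d78a4c4902b84e4812c5824092b85204a642b844a025c24557ae107d3970a44d4b84cb495c229a105694d05154a68c24e24e729a056794d16540a6994cc53493d01270207893a4e0449cb90a938c8422e449c417232094a58a590c8224106419830b2082b28a5982cc52c96e160b4b76dcfcc1a92dd7c4c96e5ba149c4957a4e4d2392702d9a938be2949c8d414decd205bae6904ecf34869bd9bd3cd2491aa692681f3492a309a4b7f74d03d98a92adfc2d8d6fe6a4aa4a3dbfca1a6dfe141f6ff4490b7fa4a7d9bd9f36928c09d49537afb3eac274de967b66f6c51ae8b62854c34c3458a261b934e5454986e7c94c34d28261d123cbc1b8c45e060ee2f0951697831928bc239925e14486b37b373d1236abacde53db66e86624b64b64b6aa5b157a97a9096cbe0d10e,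
  nat_lit 0x1ab24040821176df0863e228cc6cb9135b67b7131d34be1a4fa50ab27d27d061b121348f5155647a3c6423d23d061aae12db24be48d92d920c375ed61cb93441e09e096866f049397782536bbc11ca14a01ef044d2e78228533c119294245148864a0e4c3250914192932341c8991e8a40da326404e413215418984984e5504c2e06d33d613099e942c42c5067a159033d070799ec2110cf4821d084398c8421c984210efbe108794b084adc2208040790417c9481c81d05f241261e31e33904903bc10025c240e412f2071e5110481e887c86a9e3e47c211aa03378d52b73cf8467c67c233ea07d0b540cf8188467c1a8433e340f19f07180cf85a9867cbe4986eb84bc37242624097c3c90b0d9c5f186b0c364555e1a8f1ac7c4be603c63cad2f910460f88d5c07c46acc55055071ab0e268d582c30aa182cb305304860b296102c02c28a98160a01001080582aa802c0593c16006480b015870121a06856009182b0724cadcadc71c956e41fa8f2bd5b8fd4aadc1c4c56e45219fa8d03914829cc8a434061591a0285c034886800c823408aa31a015938d005c20680565022005011590ca78ac88814564c8162b291c332032030748749cc801b4c64007c50e903e30e301f30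794015e07c028303e00a601f074a00f8718e07c14630b8027105c05c081a82e0a0be0be80b80b5805c00a3c2e0388817003260e20e2380c82fb038822e01c412250e208b28750459803c2d461160c0c08b0ea40458079c22c0ecc11e11e703b005701d853b023c292011e124e0a4092381e807bc2480f4c124028c09209178078270c03c13824a62d0c268268682705ab81389a5e09c14f004e00730272e1889a115504d0b86699b5c329f5a2ebd70c93d4b867d685c399b3ae185324ef0298a5088ba20a62844053008b8298a02014c8ba571645d346f46f1d175c5908bb1bc699d99b846f4ce9e379b8551bd33663903903ccdbd9c266ce40c71d33af3909c051c81c71ce42674c958958799d3bc0cce9e1b4ef0211c778e8aa3bc76881de48998ef0f0ca2cc5ae23c374f79e1842b4f0ec5147862cc83c3b6d13a7ba795cf9cf90e9e582974f3967ba796094170a3045820b882c10b16960b36052944adacd89fc666c64f4aee2503593e48e0c9e9fcf64f75c0b27bae0926dd714bb6eb8525825843ae4a5c1d70949eeb8f8e575c8083364c04151e9f09f0108f488086c93c043e3aa021da4ab82ed294b63976bb4934a5da57050ed272e519419441cbd7da8e5dda1e72eed09aea7682b659c409da1b2d0ed02e4e768,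
  nat_lit 0x83475a94a7a2d495a8d6f16f0756a6697ab55bc1a4fedb556f127e7b784277c9fa1399e51e50e84f3a6a4273b17a13d979909de50c91f6f4a79448f3bca247999a59a4e91e548f48f6693597cac299a6cbcecd3642fb2fb2131d89d89ec8677d56430586b213b133f13f11cec6ed54fc454857e22a434164161ca924e550596385b3eb3e458e1e61e9360d2079949a63cc241141a41a16b0ab091068ab612b719d2aadaada0674410a038038810410a30568569c4284292ab61baf55b21e608506ea807156581ba90050dd43e62acaf141564af0aab2f74c4803c15ccc95e2e37a666057933255e25e244ccbdd426662758bc420e95e221e8083a3230879190c482b86a4642413a3211abc9048d4a82482482357ed511ab6a3c8d62c0a46afda589db370bf6c4ea1fb5b1d4fdb1bd07ed6c07bf6d1f95fb5ee96f66f7457e67e643dd1db15ee9f98b50550487e6736654153d1aa0a9e8a76c76c8a7aa3f61db51f99ce1ce0f47e84cfa3f99d851f9cb868fd099348948884b2a443b633a686910c021489368fa444b22d223631a912760a5bb3b067df5f114ec32786760b5a13b13b699d87df3cec16ea276276cd6f53b652d7b8a7cedce9c276cb5d13b76f479dbb7a32465bd42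ed6caa16f49187b7a7f055bd5951674e74d1654fbeab2a7db85954d296caa74cb3bf71309d39df44e996b2a74dc0ca2aacd907033e56b81c8fb9c0e8212e062aa870337a69ba03db4de82c146f537a937a66c79bd37c40de993cc6f416102c10b02963246082c0299c160024d0b03c35058163202c2694d54754679a548c7cd2a344269677cb54754689df8d47d51c9cc2a8dc15554741059529cc85041723682254914112b029cc9cc7330ce6166826811398cd8a9cc9bd84e6334399b19a1549acd0563216213341ba419a04a9ccd0c6486681622a13213205896dd42c4e71016207e78b139b14589098ad8116094266c04213244be2c0e24b16091256d44893353b539d225b510912d80a6d4440336a2201505d05d088082504404172b53b8b2905da9d082e71306a707e51c484a94e24254c824824709545d520922f94298991c8be14c845f46131ecc593518429968c27b2746145c823093e991862c8a57c57c88b22c5595f1213caf8db8c2d02d0736e36e103d141c0db9b25e6dc4ca1283631608e8292ca0c994a29a29a826591f69328a43c9944aa04cacb4891f91f2b2d1c70a47c9a1523ee7094b27387a5639c1a16e16cee7113a585b85b444ea1f3e275176113af04189d05e215182b8c02017483fa8f430ad,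
  nat_lit 0xbde0d9dda83ecee6f51676f870bde77983e18c725f0ed404ef36a059cc66915a831436d4273116a06ecf82caa351bb56b168226edb5ad4108ad62cf34ddcdd9cb3d8a213769e4f9bb2df81ab835a8b7cc5a00d60e4a3162e0498b1bc24cf4de0a0f75b4237807b41bc56d16c1ec1d15b50e30adab072dc831aaac1ee41160f4130b906280dc8170358a1bdccc500ee22e0063417003184034a6da0c65c8e06300b303194d95252afdc7980ae229b660814d932a8a6d2510536cc0a7cb6602a4daed899828158cc09368660a4d6b301af4198209dc663176d81e6b0340f40f1dac209ca8b68b68827a0536116111e814dcd540a5a2f65c2e3832e248b8b8e60d6922268a4916884a1c89a41a20a996d105a896886f7596a030b8b4598565a66bad2d3061816996728184de5e59c446d37907b59bc8e7b81e44d1e39e7cab134098689a008342710e5855413904390b1584e21b1b0e30e0e86c1570c385db761c055991d11d0e15602440ab1ed723a01e0c6dc0f083da078e0051f1801e02f300f02b8a07815cb01209168570488cf6d14967b613663db051304d93eb4144125c0a200eb05109b382893f0c8209f9c5061f4b1ff1ff310b10b1c7fc294a4fc4fc80a51ff684b87738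9f87fde4fc6dcd1ff040310090090db8804e0805f2f20118538f18c2b8fd4715830a3c6618521620e2955307146d083e236295671ab181a01a306c485a036255031b121649dda30b485829d642cd6092160a5522da2dbcdcc4a968b67aac6b01c609eacb02ca38c0972c05a2c35f35d7968ce314b44d74d3fe0eeb35d9ff39ae9b4aa7ff089b38d04eac2281e7c139b4ba078e0206d20f263693802911911a0e001e5e4460f2e36c37559b656a9a2ece1175ab1767ad5373756ac5d8914918d517666308bb97b2c5d9989aa3ea3ce6632f6fa8f5db5547d24865ee900349357f0a49302352498026901f58c32832877d66d02be3baf885bc5bcc4b0be0116f25838b78153c5bdb40c2de2de76d0c0613681b885b406516da06dc96d07c743681de2c5bc6c18776acef3bb1905ab3870080643882368368159a2367823122888d8125646cb3411fe59a60770ac0d668434a2b02b010c2158224081384560434e2b02b2f15819f30ac060985c030442b221a20c110e78608b81c30534dc182996d0c10695060818a43040ad22e02e1008135f50b81a094d5cd5d06826be235735729af9afa0d5c1d946ae6b4e07635a29f2c3888d68f9506b50e25baabaa4438bb52aeaa824d7549e41a09b527279330993cad48b29ead42b52,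
  nat_lit 0xab7e1d859130ed1d1e3ecf84e1f610768fb04818ce8240a3e215cf09000f6848059302407c5012067470902203914114188809858440402622822862449141c80584de450588322847431621621d1d0afda5886dce2c405c596215f3816c121a48516484364362c5921bb0270120c13813870480a018240033412090580900bab04821c6a091b6b96688d9ada83623263390521ba44c10dd0dce6da6da643746119b68f1b1b5016c84a643c62bf4391b539c4902710cc646a0203095261210f0448c878878187467441073db1883883830e5048813682e409d6d4222e0528d101101641013e4216040604f931ac81c82588c85f2c2351681920920ac8048d5c08c46ed24105b702502db0020afc87b20bcb2bf36d615f90f20afc25da57e0b6f2bf2bd602d95e2816c41cc0b657a526336d815eccda8af498d057af66a36d6d481b684f98db427e04c613e943e440804f99a341bccd1e8be8c6c33482d299a227ba0b513ca144144844f0a2280885141148225814402280a219f7051129b4f6c225c7b28c6d3dc81e49ee1ee1c6c4225e7b836263dcc3a20448078c2270e5f8746744c3933a5838130c0ce89a48674662206f06f29348e08c1bc031c0de4d2806f1c158388530c7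041b6038266e10a69d1819bd4a1ae42e40f5293a2fa9433d0d4a3c10a744b5553a264a255f1a57aafac00557d6008894412e5800e962c00e4bd600f84ab00b34721c21c32cd0828c871bdc56f165e166182c09531d8852de60c56425c82a069ba09679d209e94ef4210a6ec107b01210549f28ab5c6644ed68d612aa56a08a88590859c160454825626693c413ca247842c44144bba20a601c158688280e1c414cf4c20a894e19f44a2859059211282b1e89414272b444c785095a18285130a38a38a844c0ac6226130bd13029c889856830a5613595a0e2bcad02c5856815d02b48b21a1bb0990af90702c2630af6132f93309bdd38631071b332218b41c0974a0e0c6283b80ba0318008b02e04948171faa0c8cc8ca7ea34e33231a76a290d3ac28069ce5008bef1a728030d3931c119092544c712a626390f0c4addc3643dd38d21f7705bbe76b15dc5df22ee1dacc8d6ed65b777db53b5dbba1dad1aceed76ee5a06a0645bbc9fbeddde9616ef40c5ad79ba85034ef2a81ab5d140d37467a57a53cdd16baa6eac8613746ec69ba7a531dedc529e94ef4ef4a77a60a90a939debf140ef42a4c6ec8d6f0a946850549bb1c2a523142ce8d7016748f78b3ab51459d1acd5af5ae746b56a7d6b9bb42b5e35155af67659bd,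
  nat_lit 0x12c281389618e0ce0ce25804e812c26568961f2b84b008602585ca112c2e360319a0bd9bcb7ca5ca5ca82df66f396fb3794b7c18c45be5be0c3d2e55b2e36ab4b9660dc5cb87a72e535f7972831c0b941a4c5ca0c62c3d66f3e1e970a418cb84a18418482e166f09709c1859bc4b4acde62cf38336961c18d028e0c218262c30e502e02e40c388618218218e21810ce19008669e204340d5804d210c01d0086083504e8c3bc20c61ccf52f5271873bb68c3bac85ea4a1dceb2e2a57593384d4142db2bbea09f5dee2aeaef3da138abae39c549152e2a13c632f32f60389979c278259e65e8ee132f4775055ca5b91ddf14a8eef8ae5e218e73e28fb25f14110c4463ec104402758220032811088ce0881305422422605ba1120261089e44e84424740ee5211418a48da2c8506237c403d3dc58df40a3c6f4f697028360b2a40a9607029d2d1ac259637a7b8d09609651b484b14040041012c7b4f09626f184b02138858108e00c13b0042006302105aac10806cc1f4004e01b0fa380d8d02cf6973cc8aa8aa75cf5c22937937ac7b49bd0b8505a826f26f2c168e48c9bc13dc4deb9ed1003da22e79ed1427427507b4a5843da52c5a0ba9620878ce1ea5848ae52c21e2a9619c18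41c41ce6700e04338051393d10ea09f89f8a43a396c20827a30289232c418aa88488488d2a30ee1055855bc0fc7f5c07e3ec703f1f6281f859100fc0fc18760aee1fe5e538ff2f2947f816083fc3fc0c3c0ab8122aedb89150d9048a86c62450b12122922830e0128248c41302461c969231234082091988240a2324625c1828857349706f464b8920182d1bd129d40e206f6070c37a912e81c09508c820b85da49a4488089e243e09f08088270898caf424ca8c810a8375112085389048af96f1458842bd91d61621b6b5e2a475cda8da832f8242211ac580d2048d4225471217cb660145825b09a9c5204da891216d536d083d1af090dd770891286e32c62be212091b8e2c88dd1039038523744f1c0e1a38d13c229c68e64033470a220450453428403d011464af08a00f30450d030228714a570570e08b2b8388315c207146ade57020c62b805d615c100acae0edca3fa76e636e08409db93d38eddf29476e6dc73b71fd41db90ebc9e872c843a396e03710680e58d59472c3a2020c412b0e823b684f11da8db08ed0112476e168464211d84dbc8ec6c60476112523b1b4611d934ac8ede2888c923b078a5e5248eaf2b8879794c5f0bca5c3cc3c42f297c1d7947d9ebca55045e5c3b7e1e02bbb0f30ecc3ec3ec7c3b,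
  nat_lit 0x5b50a1b8139088551ee0404cb15414468aa212145105118050288842442280a204ba8511a90244ed4882422422b523520c71561dad4876ee6a45e57b5212219a9041c420c89845873dc1ac3931b161d61e043c43ed58721f302510eb09c0428643e4f4d21f10d590f8251c87c10dc43a20cb01c0e8588500f34428071c004220b043043200e02198018018e086438c043048287a07a2012110181e8ab2a0f4107807a53b15c5508454ececeea765596d3b23a269d9c5514ec84293da421284c04c21084b8173fe6d3042165c4a12212304b1091ad1013aa424098821209f3d0904f9cd606f6b13e042509f168a44f888de27c0b0b2172ce490b90bbd0e485dc085150421790f112e12e2948abdc6be2c16bb506f65b7c4a8b0efa6118a4529ec9823775d0458a321c6329960f754bc06a305cd04a931daad499229398cadc6ec5cdeb3cadc0d9b1829e514c635923631d08fad8e18e08292bd64be1bb81a6a1ab0dda0e4c810ad9641997d623a79cb90219d7c6f9548a44d49231bfe8a7101a12546e0a92440b306a196f0ab0ca64498804e0ac40260031810093900a018880168da40b66ea21868348cb76760860e52a41554fe1b29d2b11250a7c8d97296474d9131c49143917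04e28821736845f110e1adba5910304e4c6eb84b0419625720ca81510010948832805e304c18e20b33e01132c2e8802a17e318d5ea1bec4738c9403086966f8244cc6eb21870a7904749748c70c6436797d922f84a38ca2055c65348fe32c80b71a4f3278e6a0b288940512445429224a896392681c18893934832c949b1d54bf8128900c862dee7e37c73c418ca3681067893c91cd48844d34c31b630600cc0091c609628a44d2025188f9780df7ca2860aa0ce32d619721834ec90c20a4c92a50a037e003018a30188c5b9cf86eced9e419d3b823af2f690431d3482e690036e28ca1b63d1a8db8d7ac738128632866e126033f792dfd8e8829892e40b4522232d1b88da7993d8d3c56eb2c68a8195b9d18a2a22a0c41a41a78a84ac5454353c22a10dcd15013e520d20d084210690108835867082f020d85b510684f9c835eec282f7c2d7bb3cc53ddc87bdeedd14cf777c25b9f7e215f0d7bc2f86c7157c373e8be16750d7bc73ad9d5b29848eda096756ca7b3abe1999d5b293426d945bdebb813655ef21b285242d94292550650640a493828524094a29219ce5066c00a830671805c338a70670680ce017386706528338deca1686f6631612c81bd8a434deca99c6f65ca937b0b851bd98b1cdec2d106f6258a063,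
  nat_lit 0xa092ca04a022826502152852ca9400fc0ae322d843f13a0c1f89d07333333327431308cce6312c4c256362649064c631f16632129cc7d844284a84a296d96da2128189c5b76a0392d65c749694dae4b516d525b40a4b3b87249b643942816c7070e46bcb87296025a94a78ca38a3960aa134228e09a291b11b202689ac61344d652642490935932209ac31e04d609e526b2702863863b405831c48ba18e82700c72a292292031d13e018e8d8b47a46c1c0a2362173c2a828d905b046c5cf2a3605514f342a8c24024070aa3cd405514b3c2a8048215479a53773cd83059e6aecee0d6079a6ee83cd9a851e6d8e320d5f8c306affaa835914841ad6e1a0d4b85afc69a667e37e33a69a5bbdf8cb914fc633297e376550b9bb2957ae4504ecb482c7655eb43b28b835d96ef9ceca748f7654b783b2c9f85d9524554834810b7db7d55222a986df554d0e9aef6f55374d2aa9be3b154ce4caef6ef6b18e77b41c9beb3ddecf0c6ef719068658c85beb4050e322194f1910ce87997992c33c32bde64c746f32e56e31d070498ebb63cc74a9cc63ae5653c39ba13959e1a1cae02836f0ed8d80a74f34055d509db1db0a2e62e6876c86523b63a6b2195e00b0ca63c378031e39ab25a28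c781c5263c6ac631e0cf125a06794d0433cc16c05620cf01750679a0a033c2d8e19e2e8138317419de3b4b45d0a9dc2e8170917402b78ba1ab405d00c8c2e854e519d2a74a5bbf104a9e614454e2e6f2a79132153cc3b8a9c161254e33a82a79852b20cc2c28c2691930ac82898569e54c29df42616608b30adfa549e6fd337b37eaa8c06782dfa5e026fd63b7b7ea298dbf53f98dfa93c86fd6f63b7ebb5258ec49d0c76c761b7f63b808fb1d9449c5346c762aac63b4800b1daaaacb146adaaaa42e25580dd62ac2cd9561d66cc42e42e759b6aa22cda318d66c3b9ab37110e59b1045acdb6a3166dc092b36f74a59b58742cdb55322a1aa8a7f67f686aa3236b551103daa8fec43187f6c8b022879fd84830fecdb47110506e8882c65c444443cbe2222058911051f61f64444119a8119fb5c466f5452333ee63d540e25ea9681c7dceeac3883905ad00c2a56805d82eea2eca21f77770bb20e145d9ddcb5deb86c777aef43bbbf33dddd1ddd6b6e2ccb5b4144dada0a2c254258682882830ac0ab720a2963d05161ca828156241d2377a0e8ac8d074af5c83aadcc41d0975a0e8a22dadd6694d6f06306b767608a4b3b3a0c5b514ceca3af6761435a8e9bc95c0873ca2a82a881cf143309a09a1c50dc0906f22acb143,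
  nat_lit 0x69a336b36b1da685218dacff6d6d663720a408fb18ded88ac6f6c4b6f6aa77db11c20ea9dfed6708de2d7fb34531569a294de0de1068a55a7345156395695698558165455a4b822ad1ff241c3dd8a0e20e0ac6cc6c88381c56c1c378a60e1bc4cca728626f16f1123fb78a194dbc4ac76c7686f114f7b78b7b41bc58cc6de2cf0663337a233c3199d9e14806cd8a405621621429008e954818718c42240162161c354d8fea9872a6cec3953666e06e03d4dc24bea6d8cd6dc047aa6e04fe5d18b18ba8c50bc346321e47c018d1bddbb490639f286320ece317208421dc1d89020c61c6f4ab404ad7a0619c81bb0ddd4e2093756423426b781cced1f92cbd09c676c78847947e218cc95390ef5dac62e677a43bb5671bb5a35905bc0a862ce5b639d02d520314c612764b7869208da30aa2962249247905b97b4654912433bb1b02143a9d1096159c929651230e042f504d070350be675c85e312642f1896bd997c0862566923127982636636508fb1b10e252058c6caab06364bd231b13f2c6b92f583fe35cd41d4bd1a1b11bb92f46ba097a36854bd55518d701a1c6b86b8c06846621ae47508c623aa02ad0d9e8ea4a6e4750ab2a3a8092c2bc2bda91415ee09e0af5a44857a8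73c2be013815e505b05b4057a42a8419562090a1ec15b1109187b07b3007841dc1ec08700f6049287b12304790f85e3c807501e403d60f211b2c790325c4d6192801d071406485b84324438419246c40c9158786480b40324074a1920e260c96b71a299b8920c48d86914914c2c148a297c17c2122a2c489151629a3f8b1392090bae2c4c085163160f8b14306c589209a2c5668c860582409a1b4684d218302750c0eb34135043091b221848d86694aa9b23672ca91b2c5348dc8d9cb1646d4e064d0e91b2c1848d9301646d1ac44c04c041b7260705641f109807b4907d07c61c943b0c1f0e49e0f8c8cd07c410a43b8ef4a1d997863bc58c2c007ea36001fc08b1aea08abd1116ba82c7073a25758b186e18654654e1b8aa260dc551139b227a5544a7db2fd68af97e4574da2a2b90290f70c8ae8ae73dc0c75a2b9513113c7f5a8aeb8a821d2a27ae2951b5714874ab8a0b242a20597086957b016442600b2010505910960e588498178178e21203ad10901c808487ab00743d4c12e12e70f521f787a9578872c284855e55e51fc1fc4157ac3bcabc3d2055e3f8432f1fc6082994407f1051e3f807ee1fc3285c4a994183d03d0e65067103282a521941ad24a94a95e0e054ae0712a5382c2253ca95db1454a0b062a5,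
  nat_lit 0xa095463c760adfa3b0a9e49e488ec2e783379739cb801ac25ce5c062e731e406206214c792d0418804410c40bb725b00a982ec2ec202e96850bb0bb425a170c02ed2b8817696ee0bb174485d972a82ec0550176174c4ae7617a573a815d85d850ea1504975039f7bb0a5931d84e7cb619618839f08119cfd86312de905f61948acb0c4ce1d20a670909eec5c99ccc2a4ce3c44a673f1bd338e92099c18064cebb12d1add89aca256457636507bb174e75d8d6d2eec67315762e9e9bb1a3545d8d7baa02aca215ee9a64b28ad65594395a6ca0ed5cbda9d034e862618964c2926313a0476a76a429f17259da852a4ed4eede76afc443b50991a1384cb00ac264c6366367099083784cb9604c6dcb1486c4aee72c16083963acbdcb11dcae582c061f91f938b023aa458224543f91230b5b1f974489f5b2245564b1223f2223121410fc81fa47e51dde3f24285042042110990a18868868e42867042143db690a216b08501c964280848214043290d10d2010c7e024343f8e21a457690d19c3032032105628ae32b12b1782c958ad61cac500ba214f2b1110695882e94ac4320c562190248c0c82a25225203208c48190462c0f503358d3931b88c5601846208c52312a518730732c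064398c3c83c870e658078730efc039a0d8a3c83c88836228741b19a8e0d8f80666a0e2e3353dc619aad984cd4289e66a0df03350a8319a925416cc93d2b664c8224a44e812513785138941289c39213dd08a11ee9f01424824907c033ec3e008a79f00e0c0f802b8c89a89b00a144d1854226903d1135654a89a70ae33a8226c5004d3192a114088a264a2466b2505089115fc4312834e47f1aea1438d6d05d3a934560f7201668baa0d251c20a826500250100851a71a744024022ca8c81c700840108042d50900100101009adc40085a420046c8100216b4e250b4a134876429943a084f04e88a2ca2c485b070442d09a4216a1d40a2ca4c687442642c781409098fc358707e0436607ea1f8455625e34ca52f1a79ad32cb6ab7f65b336bb7b1196d2c84cb6dae765b64f6b2da29b996d8cdecb6cb5065b1270b2db7b25235555091a91b083848d715a246955549f8891a4b9048d0b062468d9b80d06cca08c18e31b31b3604f0d9acfd46cc616086ee1b309a78d9823206ce072036702851b3023189a09bac08c00d8046274f023695789b9f0a84dc8c970d6d2b086b1e30c35919420c4530846444eb23204651190a38c09451d808846ea14713a634a845a84e84e9604ed34d13a3696b7db4419bedbeced106f0b6fb,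
  nat_lit 0x86082a2c950a1824a92fad25462849481495197924a960072544e0e92a7c264951421e4a81bc4661291033044e79984c42e5216ce1290510994861614c415d8d85984cc57684416aa2bb202d91040aecce9857628812bb613415d90914aec849040e424c4173f761090250c84a0f9a42440e52125e211fb9fb9087d130c7ee7ee744c3f730830831cfdc23c87ee204303b5d4188114ca44083744aa8202101c1014a478809072c404aaa8aa88101034588093bb1550f85caa84ee61c41c4393b82a309dcf8a04ee68e51c41c419510e220d1c711e86438900a40a860e201b387107096258384c69103650e136b34708044606c00a6036036380281b18704704e06c170c036092781b0e3400d86e8806c37482a22a228dd0dd0cabd111a37465ee1ba06f58dd413a46e8f71e37465b01ba21630dd10c141242e16431038c218223490c024a0860862013c430e1b1895210c02140861024437a51704092921a048f591f7c65c6fb4fb4c28b1ab13ed0f5bdf6a1c0f14020040331aa1827938107c87c890e1140687087008f59a6287ae1c1c3c6aaac8704181c3820c21190e1d483112b041841860fe04f0d062358283012af4184642a0c5751a35a358f5d51aceaf78d683ddc1a2a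359f0471ac10eb3cc00f10439e4a421cf2421d479242501c781e4c1f04f24a18638e34a91c71c140e440b048c4721e64039051c11c858650580c722058439006e71c8468640b0d82605a1d932c0746b87687c51ddc3b3e1f138590ed34ac5660e04ab3270a94e923189c378854e1a6d75e2536963a23a114db1d056c46c444744da3a3a1b1dd08a46698453ee22e1ccd8dea9ea9830e05cb18922d6b60116a88d88ce045a312f22d6c45116a1b09b12b35cd106f4b9b99b97d66967366e5abc3372d5ec13e6af3c18a1829abd0ba0d5f06266af3e232192191cf8828d87c4d3493e226962190e3390c9714e65a65a70a526459968e30ccb4f6e065a140d32d5c5299685298cb4238a3ca4c8308e00f604704d2c238795011c85cb6913f5534889b99a450b8a464270442e4245a1704d290b88c9085c846c09842338a38d9a908c51cc846294903b14a31b21b21c528095829451ab36428d502a95288a35a4d051ad26176c1377349befa5a4c19d86086089138699689c011b84e1a69e27144233042f02d10d10a0bc294a14434a463063063d2933c2a949e70b18e72031873b6521c841b4ed8ed876426ac44acb901a5a39c0c5d10986132056416208621c704190e201f8601cf38d79979c531b3afb1e7231d0f3918e1678,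
  nat_lit 0x2c058c295ea0b00b01333a872b2c029b116021bc0b022c5e580134d2c02bd31603c1aca01e0dc91af06d4327f822aa0808d7457446f0643a47831f23bc1c3835745555a5044eee2827f88141140a5dee021850250278040e6713fc0218a04a0481cc503092a06e214092508a04148e5027dcb08d08d21f58433023403d211a2b6a09008560adb871456dc39663a644d70e06d49910362cc6c1b0a10c5c0206c086403618eb81b0c79e0d864cea8206e119312224c99c56064c0dc52182148037194101b8cb5a0dc018b06e2184037064ac868319c54418c53da3da406310f94318319043e650e0c621a7863062b4fdc314a7c018a61cc4e110629f020314730e18a39100c52c1186286194c58c59018619d00c30210861908a09187f48422984f2112462908c4aac845aa8c984984820845672611041530930868f498476aa0ed62610770d30913501da1dab10501a1876990343b5134c1da034e0f30ee280d00d203b83d1c0341ed001a0f5780d02c8c068375c030de0e14f6f07bfd9ba31bc068d4de0d3266f07f830d18d19dfe0a158ff097907f81a3081ca190826c06d81f8666e1f23336992a742c31c31c866668f03331c87274037b0cccccc83901f8d0ea277802801dbc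1400f9c0a000ec0500a4382805214140ccce1480a00c3f333285222b0829029421481480c3e1a34019a313068c291c34606651a30f32a2b879b04003f5e1e68ae80f30fd600d874103f43f4c08e08e70fd27a787e823988ec52d208e412404723d68238033811c151608e476704714b31b9b703452c111c29604ab14b37338a58a130534091c2846d8514213e2812012204f850dc048094a02414480120223c0906b4246435a61d50e218d69edac6b4754e35a06861ad03908ea93b8c7540c5807207050d01cf201c014300e03410070294d038023781c01a9c6dc0d4228eba8d1be03568de93030134134806a37cf0351b7301a8dd2c0d5d08a506e84625346183a115e91d086c5ce848c4b74216f53a11299dd08a0d0e848c4143ea940a3119a15188f8088c48c4d0a7334108123120cd1188ab84b8484626684a31053411889a1e8c43d4e4bc5e719f10f5117580ee03d407ae1ea0fa60f509c247ab0fcc1481487c3f03e761f81dbf0fc9de187e09a725c1aa7026930b4134970c09abce145f1090af39652579d79debac20505d62b10aeb22b2d79d11088ac4e4a4566264a2b61f18ccf0f8a0a00a08c3e3333e1f139081403f100a0b8ca2725cf533c46395515515118e8de126846f4855056051be501e8dea8a946f,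
  nat_lit 0x6560cc256a84e5a5ec2e0723628bb37a1547998842c072043483bc11a403810d1019a0688684efe2fb421a141718d0bf898685b0989a977c36c26c12ad9ad9a1b069482d82490c6bf559492587488920f260490f76c2488ab1b7e37e2c54dbf18cecdf8e86b2f9537e1689419819905a20cc22f8066517d97c8819851140cc274a0652e74032032404b4190a5ce01c206400b38320aea5c648a602ba720d15d045211484194114060c06406470180456019022a020c8a0408a45ac04502e7822820a082415c8082422f04121280209049410483560823d462676d611ee047888ec6c4238837413643644933a193c99c99d609c4ce71ea2676848880ac99c23e04ce83a21b508b08da8d931184ae0636b038e1b521658da8d78cd90db1635e846e1af03608d7952b46b06b1301416081ac16710d6058186b11d583585f6c0c1a35217d90908bed07125f6f40141c22d111e11e10adde80c3fc42e47a07a06a31bd0207f92290f4091467a023c5aaa11a408f08d9c47846861b71b7391a25ec08d1adc2914d3226911370a5e14109a548c0e484e84e2301470918160108c1229e461165023024231180582c8c0789cba23d4c1e24bd58f13fc087820c563c10d701e020108f01fdb8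7790c163bc3bcf08e1de841b0ef2c2441bc63bc07481de27f20eebe30d704639af8d68a67c65c54be44bf3df21f586e2f13029142004c4c1cb8e261a64754068ab88e6dd33fdb1841b758e9adba294e6dd632636ebfd9db7447dac61396970495084e59452e541c11ce04e0827aa8885382518c1c10554ea06a42814d1497a908a695484b21d156de668ab6f3694ab799454054c8de62a086f31530b7d89d3454dbf5c2a6570a15315248848a940ab5bd862a404c7152150583d8a835bd8ad142a130c52bc2bc44c353d35cb0c7574f530cc2a798659c43d28e619eae130d33267ab7ab3cccbd590ec46656f5684cc7ab2174bd59db41eae6e88f567b0432625869ec3d4b8f6022527b04acf3d842a31ec3ae0c5b45b56a74476916d56780b6a153c5b5e508854854c76942a2129128b10a8265c8542dcd42a3b57a1512b14ed4ed504ac7b6925673a119c2960435858de1ace56b16072c64054053495495531ac4aa53978b1112a9cba095464064aa09e12542511074a16889454ea04a22cec25140623f80f5c10183a0c0b40b470e803d682d02d3c0f0168c568568705a008602d15c3c168b0cc4b84b872c32b86961bfc38b0dbf52586aaaf2c32b7816193906474b096d48584e10a2c26ae786310b08a3445840b872c2,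
  nat_lit 0x3947ba712590e50fac472848e83946c26ddfe10c1b15b1db84277cab23b078591b618d319344777ad864bbd4d23dde8c4353446218184310a02e04110c4118046202f9e3113fe26cdacc09b4d6639ddeb30cd9ad9a7acc6a44d6615e35b35b35457c28ce6cd2b74b9eaad38375f158ab4ab4d5531663aad0b3b4fb922076f0910b3904885057a44146706710911618a48898682445bb8d22062caeee316b6c002e68c5bbba062d3454316339018b7ba78c58ce2dfb4671409008ad19c6c250ce15e4067056c20c2336615b2ce10cd8cd9556156103362b6719b03968cd81e2466df998334562919a19a82adb1b086680c0e3351e4c5f17ba4a63c793d31d31dc17c98e8a414d18263d209531db8d898e9a6b4c74d135865861d3453456d8cd8504d1b141a68d83b9340300e99f62884cd4cd4da826696c51e50499b77104cdb287a66a4caac31264a618932ba402e45a4c98621265245e9325a704999cb718638128c31da9c6160d0730aa1e34a8a803264e544f43d43cf5008261d0f41320b6dafdb546e0ae8268b8841335fa6098b6cb04d170e94e3db145c280122e1014ca00a00740528a3a804791492c92d11e508ac2fb8f25b70ccca63cafdc91e54a81bf7a352dfbc282e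84e84e14a8dc0aa543be6d29b6eaa94cef543c43c2e3bd19d20f0bf1346607fc4d7e33030302f02032d2690c10c11a26c046a136065789b09b2c1a84d843ba06a21367061a02a02b02a90144f8480a5b52b52420298111014c04f335334630199a6d24ccd04af6668458679ad08790f4ccd1e642668c14933540a530530545028a128c14c0d2a4321023030673981980928c0c0514434601301a212980d8a113182f9c98c998b4c61934a633650ebdeca08ceacead4ca4ca53eaa650eec4bedc99417e74a67d531dab6835f565f86faa838e7d51955bea8ffa5f54ed4efaa1b8b18f18f3be43e41863c64c8f90854519319342150c9a89f8631c326ed6b19227748c900c3837037140362009191191806e0bb0c6443588322f86219102f38c88bb3863c63d44f4f94d18f1dd10cc0cc4078466040823ca919803e481681cbc0b40620058058a01d06c10160021c0b00a4e2ba2c4d02915d3014a61082f82f8698617ca18c2fb785f05e892f12f4417a03020bc015385e2b7043e422c41f203640f945f607c9eea83e46a5a382352526726740d4851306a5ff5a348350a7fd25d48268d420408408a35091a61a81a820df0d438ce86a0e91a09b01a805320d40d309750858434cc621b9fbb1137054d867319b04c3929e2849,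
  nat_lit 0x11e4a2010004478400423c528c11e3ef08629f7882387c947df27e280980971ad404aad4a025235901256f86f84404a818e0248a44c10e06360826268f902a1098895444c4898d26204d79312678498a5c575ad2e2649094e5cb8a481e5c6451f2e2c1709714ce0cb8abb38390499caec1d0a57657640a98a9955d8a516aec60639d69d51a4e1810e75540c33a946049d298c84e916ab2749f6973a4db63ac28342529b6dacc21b6dd4a6294a6db3047b6dd290db6e9346fb8270c6986937b4c5de85a60b8d72dc52068b8256114845c1ca40a3d6604a00328f152194b8a88c1d013504b64b6504d050212d8d38896c409e4b60b2125b294492304e84a510ede5282ee17795c128bbbbdb45dc371caa6f88289157928b1b0b157517510c2c2c6857916b439d5599dce85acce75566573a1771b9d39d031045dd0b821b90177c4120bbe209aaceaccf8822d66c41ab3530b2bcc2acdc5df566ef63ab357943e23e2155e652d6af2ab437c47ed1a17a15928fd0ad685e856393f16d6a15a44390ac5d1685613c942b0997a15a0e190ac264a45e86c122f1932be33e32064ed6c6f912fc4aef55123f35410ed14f61168b68a53d88cc6367117b4af08bd646645ec10f22f5025117a0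264115e45e839022f3bb2b6736712d15b398b82d9c83bb7d583670cd0db31b21cf00d90a2671ff0b640d089b21da58d902ceb6c87961109116ade58f852f2c782479622960b60b6392205b0ceb2eb2716c3c358b6245245b15a882d8ea0116b25170b58160c5add3da2d42d4974e16a2ba6a13085a9d3502d4320e16a46248b51de405a80ac62d4e5621694a608b4ba291c8d2986f7cf7a539f39f43deba841ef4e8c6f7b1c817bca6d825805e0d2bd2b4b6fb6fa84ad5200a56a55884012ad450e35824aba3e6255bddad2aeec5775699e3a42a3e6de235fb28f825848323f2f419256220ca0cb4a7d065e64c8326accacc3a0c8ff25065dd8c45ad9a277622d3bbb0bb2ddd88712eed198d22d8cc329d29d1e3308f131987b038cc19841f72d00d560fb8a3305c6406635724394b00cb7c1dc85c692230b39db1de25519277adb471a8dcc4b7e939216bcef8e562a6c95aab8c3b8a3731b0e32b1116dac0751e662413e2231c5dd6a90de42d889325ca435d15b10149698c1a4b5060d45a2306300b20308308310056c605233643ee16718ad9df9859cefd365477e593f93f41df8b39cefcefc55ee77e416d3bf7bb584290efc5cc477ef28f3bf7f84bebbc73ab69e394f00e8ac78e8e533c71261239091cf1c87290afb,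
  nat_lit 0x5048c09deadf45f448d9cd9057d17d143643e8a53246598fa2faed7d11927be8828849e4648c4f24f2719227934004001c9e5b3c64f22e4c27948f593ca19249e46a53000350973074c38b522fa5d31d303160e98516a74c59448b90dd31e00c7ba7ba778031c253b0b918c70c70e2e4638a06f06c718e18c101b0e5d8630f00f318799318c3cc8a148c60ef3234a73188672bffbffa219c6950ffe36a333c0a9119e19e152392390678678d3341f7619e395a8cf06b1e679072433c475719d99d8ccecce0a676676833833b285790a34cec2bd067662aa9bb3152895895a0c541ada62a6b4f315378818ab781223a239a3f154094141fc54472b304870d15267267229a533968fd20a30ce4424e672672f10533970ac99c984256ac86730c02339070419c964a4cd960dcc004fe993f58332aa434b0a21550eb076eea58327f7ac19429160d6ad81ec8ee25ab5ab320ea0e9d6ad101cb5643905ab8693bdf3df1a1a55f04f7d6eed57c57c18ce2be0619c660aaf913ab20457c40cc102395f080dd0a5072b3208391101c1cb4844edc907238e28391df3c1cc33a87743f9a03676ec0fe520487f07f1c8003f92aa650a70fe11e519807f18a14cc041fc42840fe281787f2e7c03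f8800c1fc3bab0fe1fb1b250e5887ec7e844a63f462c210258fd1611c7ea11423ee7b2e1f71f7823a8fbbde8011443ee07e71f71f5611eb5f887d58d023eaf14d1f58a081033f8bc8187c4a40a40a81f105961028e634814878440a397020504309021640c80c80ccdf8df8720343b81018210480c110244044082022027a6110140848808a440404c09509719012ed9080878444040807202b50237499689834c286dd084626e72cf1b73a80055a4b6466185b28309309296c984ae958a6c66136a066e56e5194db729ed420202dca516c6e52d55b7292194abd0e4a48648684392356121824b490cabd04865f0e24318b51218244090d66de48688832436ef28a98a9a1bbcf958dde550a6ef47f2377d53c1bb8dd06ddcddae2a891b63768d1b9bb60e20dda2a416ed67b4958a3f9d9ed9ecc8ff070267b2ad833db1a319ed5d96cf6c74e1d31d35a500e9a05400f143a6c7301d303868e98a81474d1fd8c723e2a639702231cb1a19c09c08ec68c68a98863449578d5858d04798c6922842dc064196d4b708b6418c65b337622d855a096c08c08a44ab582482484653576789228e904900886246244964a1c22091091158998990244528d12202118912aa944844850aaa2425102102409098504484478ca3aa3a711e,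
  nat_lit 0x47d71c1a3e895a51f521588fb0378151423e891b85484a5604238ca1291c278948a8384a4eb444fcb7a23ad0a959d685224eb50f1c46ad48443c91d7a1e2deb10f2221687910c6b4c63748d0da61e21a468ab7ab7a891a5bd7100a03096f43e48b7b10cf5bd1a182de95bb16f47edd12ac9488868862b2517cb6218b0d910c3e648862790c434383e21a254710c3d4287c00d203a03a08d1e1d824ee68e29601f369a3ac110be60118b043e6658258238f98f2047cc0f843e63e4f1f30ff20f999a307cc409ab041ce603b0e7787e073b406439d61fe1cec583585787381d9c39d6144d60b0a61ea1ea3ac2938316149fd6b0a394f58517e30168bcb15f40b4e2fc90ae57d17e7abeab6259a5b942ad8cf6256c1f522b60ddbd5b0d1d8ad9054130a82a6c1f13e920aa0a8cb06394382a5833c154dd2a0a86ecd05439423731ca31f11f11c72813d839426a568a135301186a304d408ce26ad1481350d0809a8dda60b0405037620261bb33360dd81aac6ec478622403e411201f088905c845680a442b4172415a24812bf0731d5f95f84528afcd4c257e3073404115f93e52afd073057e1ac1abf345313e6c808d14ddecb203fb55901fdb6d31bb5969954e9b4c91a55b141c32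469c54508108062362363c200e4b210087d7080438f84023184201a412101e28c690690778a91d42f1af19647578dd162c4c15e33487af19188d78cd2040e8914b3488b069a43aa8c8bdd55c84c452f75575671148b5c1d585e46eac06251791794018816405e527cc16e16e749f1496a4f956b927c352093e2e0149f79f23cfbcfb8cbde7d6d4ef3ec44a79f2a1ca1ca1e7ccba0f3e3f8579f32e4d3d21b38cb8ca0a65c248132e32e199703734cb8a95665c712c32e328399719dc0cb8270c65c3ee348b48b6918245b02c922d330c91652bf2bf4245c583122cde5291642f048b0af7a4595184a5ca5d0a06a065297503624b86a0d40d485a1a81fea5210ff305187fb8a043fca89e89e80ff0a3387f93d303fc5dd41fe4e0f0ff01b807f90c103fc350a1861a860b40b4386a061a0350549c1a802f00d49522b28b28b190594512a4a00f651a411dc85deb28268249619618d74774750b60b4b9d1dd0c82d2ed027433c973a1ba1aef85d0cb0e361c174387143a19e6a9d0e500ae8761cdaf74b7258758714e90e91161ced89b0e4f255873888c57456dae22630e7118715388bd18dc46e414f4718f07a357a33d19cb12181514730eaf4f54557a4ca01250e3b1db48af4502257a18168168c0b9e64655830277eb181,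
  nat_lit 0x28389880fbc4701d1a2393f894219ff84fe51e0e7f28f09069478c494a3c526317fba8f0bf5f4792c05a3c2ff116232e14bfcbfd0cb85fea0be30c717fa1128bfc199e5fe5db00642ed505e0ba08bb41a8e5dacc2e1286606894010a84a04a1e0ee251006365c18941bd884a01a9025003eb11860b188a9e7b982cf3d9170c1a43cf1c611e7ccd30f3c21e079ec5e94368e32474474109223a02c5f1d0996e3090c743d50a944c24d4a34a2330ba515befd289cc25f7214a25fab7dc872297e97ea9328bf5a0cc5fa8872a136982982bcbf4f3065fa94c950b50b81819841d42e92114a47988a48a4829e6360a59d99d85490c6a1a489851d24180be922948b491282928263b6ca0b19b250680932836feca02b367d0131ab6cd98c1566d4a6fb36a1e6d0dc722686e86e14a50a07a1b03850e88e8ac2cc6b443a226cf1d16db68e89a50c1e4d282eaa0e8534a34a403a1a511be1ff58695550934aaa731a555416b6e544955104ceaa8914655456da2aa2b6c73978210adbc1034a74a813042b71982129c7c109b255dfd2a3a6ca541f36584c39b2b392e1361322ce58215673672b60b94e7d9c8a00d970af822806ba514014041ae8a038c1409142800cd014061918a0169958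6531d2618c32a4d16196ca830ca0b4e6f02c32618f61923f317b17b1c8fcbd874420cad2f6a30717b0a9a8bd8c2de5ecfb832f64cf4b3933940c28c38ece54b087dc7dc2d2c52c119829617552612fa589ef6d2c56dba725bd19393304e6f4150537a4de3dbd1b9df67edd6cb3f5f37cf7892a99010f0247e47e1048124511fb1f95b95b950c7f340563f63f718531fa2681945ec7ec1a363f9bb0b1eb0698454454ec1a03ea11546d708a9bbb2b6e409f5b72d6d902aa754814de325ad9a9d378cd6a9bca047cde184b97cd65d8818b2f029829a72cbacba15d95d8ab2eb2e43ef0ed52cbc299165d8e590a7640585363b737f0d5a9bf8c2d2dfcc72f6fe153837f335ac4ac7154cd62a1066b6ef7b35b78b99ac709acd62524075075288c88ca01d4489e0ea693007500d183a88cb407c0848232c4cf119074808c94cb04659a8b460cd4697112b0b354c1419aacf98cd4de2a66a9713b35518219aa94cd0650647a53a4a64193782a0c99859408ddeaa04af609ca5df2dd1e1d875ed77ccaf68717d7b23e86bd8b71b3ef5ce68e48e43d73c4c26b9cd25693c0f8334907441a49a4941d01e086920f0e36413a403c03c144e8a9880f06cae07800d603c048a81e055c86ca6ca563963941b2a9138d942b946ca2a0f365,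
  nat_lit 0x79458edae0b076c60603b72ae57cb9576a5a1dc8cf74c79c772f96895733549dc98e40ee4210c77277270843b959ec12ab4ee655dd1ad6d2f957b6973ddd5faada51a076d2c8cba496721b23375ad91afc92c8cac4fbf26e65df93742958aa8c6ac4dd1034e6ea59a737c98c363b0cdf2df278ec23f5b7cc863dbe5945cdf22a4a6f930d3b7cc8617001b95d801800890c49c2c8648621272431aa0055aa90c2ec7c8650f38bb1254a5d85d884952ec2d0ed0ea0bb19ed45d8ce4f2ecc007337cef07002875f8011d90c009481d0ed0e8a77cd15543a0e6d3450733011039941f4339e0e60fa807302238398aca81ccd0520e64dee6a26a25281b5120b19a89c562d4502c213b635116315a8a049835e34857fb7fb40d219b2db5a049e66d024a2c744a140922c32048fe150248b0d1d01d01895b77b8740ded83a0124a1d01c280e801c187404e4ccd62864139139289238108c2c4910272cd67139023689cb4f384e416942722a6f1391d3809c896b59c8c29c19e1a6a30a01768698dd8434c34d20381a701525221869a7f9034d23441a62ae70d31b559fc43e09df8fe025631de3c1024a5c77ab614fe0fe10ad87f0410608f61fc0b3a8fe0405e7f0efc43f81f55bbf3bf3a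219dfa0ba2978c77e60033bf27fb0a6960c49fe9fe21fd4ff30668669d3fca5de9fec9e5123503733da81aa879401219a246a6512ad6866891a193c335e24619b05030cd609300b8c3353f8e19aa16d0cf50b75108692942c448c296296711211248798692c44834908a61a4d01701b506928e8c349485e1a4a40d0d2453286934fb89044ec8d3e878f69f1a1634f97c2da7c4ec204857c513b13b415f09d9491491502768e9013b6a4789d95a104ecb6c906a91019ef9ef096dc4b8a741885823052ed897200544bb10c225e09c712e858c29742c59a621628a2d0b0b6c3282442c0c612165b0a10b2a3dc858134142c47555b0b17bed8516087aa8b059344580c8d18a91160dd588b126884586f06a2c36b41160cb428b1268e9412747c9a229b24d09dd5268c60d2741d4713a028289d0529e4e826ec14114160120a0a5075ade028228ef1416b670a0b723464ce4d6dc8dc833ad6e42be526189b90f046dc8da0f6e46e283723e521b90a0d2dc8d6cb8536b61a90a9089ad9ad8cae8ae876b63010b5b2bb0dad8af54d6c60625746af6aba2ba262c4de56ae83a8c1e01d412c10ea358e4de483a83a861c21c238ea05bb07500f943a8070f1d40e430ea032244c44c5acf626222e1131488824fa8bb44c60044262f49f,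
  nat_lit 0x73a70b2014c0592b488fa8fa861b086d73ea0d81df512f52fa8b4a924d5a53436c369d694925cb4b0dac41c24214368f0b21b6379d0da466f86d2340c3684fb83c83c849c21e4f5ab0f28118879300683c961cc55830f2326107911b9c3c846443526a0707535043771a839bf0d40500110ca3506ee29a803a98d41a7986a06e4335a37210449b9149d09d106e411ea37228f49b91b23cdc916206e4c2cb11611623098b410459609822c6e6211628f0c5003a30d30d3088fa496244d0ed0aac8f7143b5f782b04242e1ee03c28f70f7200f07b942481d4d1ee2b160f707a087b83b503dc40b01ee0e878f70798c7b88f9cd9247c50f323e30d8b768c8f83cd047c362723e234611f051ac8f9b39447c284923e047791f0ffc08f881c847cb62c2495af82d8ad7883d50f96b5eab0c5af2074ad7902416bdddc8b5e3c2557f57f18c5abfa07855fdd27e1cc957f57c82bf8fc90c89c3862c02c0b029018206b014b458c5e48e74e2e317e1d9301c81c9c7645fa03b21bcc1d91cc48ec8ecc03683686a8a1cad55857a2072d598d5f458c60581ca45797c41abe2bebc39439560581caa0190da80728752436843ce1bc1bc50c40de308798f0837831101bcab6e0de191686f00c3c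37911c2eee81892022025a2387a8d11c721a88e1426447447514c2238c29096dc88e672c4470a14223876c111cfdde88e1d0544747c0aa2a3e142b11f0c2148d0147c1057a3e420111f0325a8f8650c47c0ac423e0851d1f0ab02af4558805928c095602c94ab0a94c55855840c63f75956152a0ab14b1855867302ac0c8795604b190683d4a83483480f5338720d20d2568d0686672b8ad41a096420d0633d069a8868340d8631931938362a8b4c64e660632188f3190d4098cc2e0c765c5e10b9250385c57a3b98398195e9dec4e61250a26f92821cb1dc324a1d603250fad09286cb2c943982dcad6c46fccab037307582242bac3dcc0f75ceb0e86a758ad011b72aa0ab42bdd15a15a05af7bf61d685d596efe744975777e8babbab7dfc5fc32c52fe0b7ed7ec8bf874785fc54a12fe2fd9919577efbf66ca75fb56906fd9dd8b5a55a4877638775692d1906c168db504732b5a37c622d19cc985e5d8847322f2739915949cc97689d89d88a2e1604e762b696bb10b821d8ac0853a9604dbe1b022a673b292c09339160561d0b0273d6d7cc72aabe52f135f2faefaf9865857c9e00ebe4f003646780a44a3c03842bb640f00214c781794376c76b75e5595bef2a19596563b6d0391db501d8eda0eb4eb4a3b63b64193,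
  nat_lit 0x1aa2a3025e1918060d8f2c306608d1832abeabea060c234e306324d1830bd50c18712460c0b5e3062ca722902978b286b38595ce1a2ca4526165189198ba94910be05c6f531bc38171b06c0b9c83a05c6cd302e85ef8177aa840b9169a05de6cab631bcb79b5b143cd8c131e6cbe52f36334479b13410c1016b4609e71c3049a0a1821f148c10cdbc6085e5a55c55ca05977761570bc40ab8ab98f2055d019a2c311570cf1cab8601605a300c18918052b726104601e5a0300330f18079468c03e2920029d8ceb4eb419fc7b92be2ce309ee5ffdd0c0ebc47ff8884bad0c5b5ee5d69cf74f72c75e75f5bad3dca8be1ee5adc4f7277c575a7bdc9ee8dd685b08eb0dc8e75a99f7bad53b21d685b0aeb533ea2c49996ccfb683a67db35f33ef4667ea7ea3bd18cdb5faa195cfd5646a7ea73d7bf53ce41fa8b0929e2ab6d4f14f182ad39f9d3c5cf1f4f6af4da7b77465f0ade39dd16f0ae9295705bc5bc6487ade112c89804b78e9285bc2894ade36521d25d25b0ece9256caaea5ba48b4b1d14e3c8e922de9749af761c79c7a11bce3d306b5ec838f38f2d7b1c7991bc1fc471ee60938f74379c79cb341fce5140fe4d0907f07f78b503fc0e5c1fd62dc01c307f390103f9c9a0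1fc5f0805a4ee117c4e960be1f5905f08310b5f14cc20c5af29063acad7b05920bd871cd5ec815739d40a946c0e64902aeb2381556a640a8d82205559066320d8431731769c7294acc5e9b5462ea5221605a32bd4bd4a168ccadea524acd5292144a94a1598caccad8100656742ba7a719598dbccae534265729a832694d53d04a6bdd64a25d29a64c594da0662bc2b22d9a559187b0ac89bc456428702b2195e15e0eac81c085640e50abc433b2ba5f1175d25b0349f82a516c3a0060a8c998e802d0174055a2ba03a021569d0135a0e80572b72b43a02749e9f154c54f90d2a20421a0c34a74883213a421fc9d299d14e952eb3a7913a6181e9d34f864e98a609db21c89e41215b18e2fcd7901cb4bc83c83d2169f0ae22e228a7c758853e3c80e9f1e8dcf2114c67908a66c3057e9229a24048675fa5396b21157e9e036bf6f8555fa72c8afdafd7c053acb2bf6240b5faa8c389039962a319119518200a01c10063993993840007202001b1e100408677c77c39022ab21681680aaacaac30dd7b35bbe3be3d559e59aef82f063c117862428bc284240b1a2f01bb01783c138bc0f40556c7a1cefc24231e803b60f40d72c7a1f8943d03c4f1e88443ac14223472960c90883baf84458234222e7b211059060620fcd164,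
  nat_lit 0x2f37264979a8ea8bcdebd2184c2f3065517985ebcbcc2f5a981754e4c030b52603cea5301341e98145104c08e475fbdfba6879f95b7eeab694cf4cf7bf297629f946692fcafcaf25990f1bf2a6a1df96cdc56472581afbafa64964c12a4b2b6a1259646692cafa2e0357d1abdeca855f57630afa8f2257d3f1b6be8e51d5f472c9afaa08557d57b9ebeb01915f57ece9989985b63ccc28af23ca1330d84f998b9f1ccc17b2a8a12bc699295e74c8179485e264192bc2f1a4b24b2990c25951572643270096444fe4b234c87bb192c826889657ace4b2458120222c1c6511635b088b1408a310f22c23412f489b297a5299a1b21b290cf02c106c8859c365339c74a74ae7cb3a581709d2bc204e95410c74a91280d411d2885a0e95a4553472e0f9a3290748156db65aa689d821344660d60d3cd14193268a5a9f344dd0589e89e4374092ad4829498c80c7eda21304344f44f2ca6e278e60913c2457206144f36b2a27a599f13cc7e389e9a12bee4d0b24b6684464a86029a17dc44d0ab32668658df34339839a12917cb81483e5a8d38f2cd2cc634e96612e2cb33a0c9b5592cc8b0a96628f7cb33288e59a58c47c12c65a5181c14b1d28a258d38532c651cf963a081cb1ae915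a60dc98ba4ba4910133d12e934c2174a04a0ba451af5d27f311140f029fcdf79efe7812584a84a4604d29b3025f75f8132663a4a9335a4a499bacd89d15266db6f933a1b1c99d1c328f1f71f4715843a386dc2cea4ea21b72048adb8db888126dc68f036e247885298db878026dc6987b6e5fb85b701684564564944588609593ed3caca6318564874b2b293f7574be2354354a46a1aa98e50db776286ded31f19ea477b57b4b7a5bda34664661ef69d684a98a9862332333aa642025531dd9ea98b4b054c79564cdad799e55e54eb5ef3ac7952014bcabbe41e55e6def2a55c479537913ce8c1b5e746ad2f3a304f79d09010ae014a05705718e2a11a315c71770ae38b345700a4c2b82fa47166c868be9ab305f424522fa11b017d02d30be9d5143943950754fa2d3aa08b49d50c1bcea876c498c51274654653b72232a91851946152776e4654cc0a32b9f091945bde8cabdb04652892a32b7219195da168cabe494b15f23baaaf9325357b20be42caf5f24ac6af93aa997c81b8c652652706e329307b07b1cca45616652435032947c21948ff9c9b89b8e544f8ca26e26e73e113714a889b8c3fe40a426e0f6713710ec09b83cde4dc8c0326e1aa3a302301d2f1181a3888c0e83846053fda303de0c29988c0346f460,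
  nat_lit 0x33a42b8876bd5c43d86ae21c6b1580e379ef071c0c80c9501c61c65325566107180c9c38eb5d4adaad290e10e11202870a55a854841c2ad8f0e156d80708d6ac38437d4abe51030df1c7786fce83a381a7c31c0422513c13c101209e208442858278d54f13c243189e191b95b55b5635235243de08a41ef1ef3c314f78a1147bcc83e3de5864c8d8cf783a8e7bcb12e7565896bd52c4ad23ced56b124ae35891b07ac4928c16246d52b1256065dc5dc395849538ac0ac168e8560a0cd05969583513cac111583f112891fb58660ff2c3291143a04b0c3f6f58635222c31a7041d56f4e6a46a4745612161a903aa4d4a59826a4fe3035264a79a9104b4d496f4a6a48ac635292a2950150387e8a8084120aec2a047209504951ca820b5e54100902a045f3150239199091c8b06a6e8263d63d299b99ba18f4b7468e4154f4722d5823941aa11c9908e8e4594a4723374a392e40a09d720c29429475c80fc52e42bbac4c55dda248aef00e40ea52bbc21b560210d63943d0784384330f42678a10ca1090864ff08434275421cea2610dde4f21121067791231b27327326a19385210e06664e64e0a13b2738de2d412c9ce06864e2972b2741920f3d241b06638088331c03419a4312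0cc70850670660c423cf2c194190c700701d06a90cb82682620e0043bc700691438038e91c01c216210e0040d870170683806c42c4238e0306ac701241b88490c65f95f93a434f79d7e57e4d3de93215f92d422fcaf9052112102932908316417d6a420572521056e090891e3484a0a523f056251f91f9e780fae447e3c4423f206182502508594128740c094790184a0804081d412864240940783190990acc58c84e0f00daa321255618f98fa29ecc7c20da63e20e631f50f998fa4920f76063f4f8d31fa7b298f9cfb5dd2eaccee8ee87bab71a63a7b8d22535c6894f82bac71a94d2b8d38d0d9a4f09ae342dce71abf8538d0b641c6a67cce34784518b3c21d9784cb4f08f09413933ac3c218b41e1520a8f09222078476cf3c293f19e15d13301ae89d1e574467477473dd14cfa6e8afd9f7442d2751c51c1df0a8e185a6ca04a38d9e951c51c106928e26952efdaa38d95051c9b72c794dba8eda911936f61cb39f8f244dbdd5ba6dcb51536f48309b77e31cdbd7b3ac4e8115627414138f7e335055051df8ec0a1415770ea0a1e63a63439287987998f963cc25d11e62a6301d887985b523cd0ed01e687120f30f499e0c78863d23ba81e91e928eeaf4887a61ac23d2076e1e95c260f4b6ea47a619543d2f0671e9,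
  nat_lit 0x9a17c08cde8e044d6c3384846a9c296e84e11ad9db9d975e6b6dce635b49261adb0c91975974d4b14b0765d5f86b2e96cbd9744a06cba5b6c5f85f82239169917e26bc4cd735e52d32d344d7ca720d2cd2d20e8696594e63521a585530d2d0196697668aae7b344c4bbb506cd18d476689364b341256ae4097859d44bcc6e2cec312f64f2097ae42c4bcdc4e25ecf0d12f02270978693c4bd474225e664d15833274021990a274cc9e4d60de833233228378d48ccc90c08664200733256b1502870ad5ad5ac81c6ad6d3e056b2a19219215ad1498ad6353056b3477ab58f018d8cd8ce3c106ca363aa619b1d5396a9aa99ec6f54c437563a65535539ea996f5554c6a0faa6349355342e0580cd25ac0627415ad7f81ad6ad6b03cd6b537b4462e5ad88b2af1af92a22e22dd15090a288b1f75c45af1a222c6898feb054e7f57f51a309fd8dfd516c4feabf8345b3094afe1ac2c1d9cf026b038483583e051ac18488d6054086b0384635825a1b9e12d3157c968d1304b4204d25a29de16008968ef104b5130725a90f512d0d3a4969d31e4b4ed2325a92f2939499864bc9c9125efe2992faef24979390e16da7c43ae07231d71d75c300ebc09c875c43d488491d717c80eb88b39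109fc4a88488411fb44243f8a212846499c2884bacc4424567a210501110a268cc95134f4562026c4d231922696185134c94789a27220ee0ee1436877183c23b895e910c60ee06d207700e603b8754f1dc78308ee53d99e99e98f4f6afe17a68c81bce57e8de99e997250f4cf8c87a6357cd7c9de99fa88f4c30c214218630c0be331688618805cf4641867a558c339e29608604e30c1cae1860e748c34163975d75d9298eac694ca3e54a638b965325306731298e5ec94c6ab24a621c5e530eeac828194c73a84a62d10e53168837bcfacd5a25a251380bcb96885de0b448a855a239860bf1cc14c64e60c218218739808011cc18ca0e60669c7302f303980de79cc0f40c9d89d92f324eca630276794131b349d8141c4ec508c2761e9793b422189d972dc3bab9641a25cb313ba0339ef24682e46e4694063f7139193b9d72c4018b961f8f5cb1ca82e5b46984eaf684d1b0a4b68d49f634689d1da355dded1a26b068d3765c00401a4dd8ab45006adaf8031bb84018df2e00d58d721e49e356324882b186fbd58e2ad241c41c326720e6aeb10738f78838e4c241c81cb57179071fbc083872ca41c4c2620e0c86107020ac8395c4a674fcc25715465071ab8a629979dcae240a55715714102871b55c51f18ae28644571,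
  nat_lit 0x9983166930863ce3cd33111e6699824b6267aa0ae3cebec71e649ec8f39983c7986e252983654030a82e0d954132698d40950533e0a829a6754130a52a086ea55043f18b92b92d84245522e4bf28972560deb92eb6a23072c2badbada1cb1d6caf72f72875b75b63b6baab1d6dcc06eb62d8f75b16f73adcc335d6cea990dd0dcc23386e1108c372879211050dc3c3086e7967c372ab3a1b9dadb0dc4fc25606e672b0306a9581b8c6ac0ac6dbf2562706fb230e5a8a408dd07f838b83fc6b7448a34ff1aa027f8380f3fc0df49fe3543a00daa04b5e85ab6a813c7354191bdaa11446d50880245160071032289880081868a2144e4511aa5a28929b114575828a240074511a77a28bc119145791b08840cb5e45e4244595b95791791056ebc855998e05b392f2292799c82bc8fe611a259942f23d1a9791915ebc8aa845e4645292d8eeb9914b0cac8ac8a82c36455093c8605915fc56c8a4b686451217b22885056656659134b3295451a25a3613b91665665a344b32526226242cc876b5664a692b324b6f5995e782ccaef8911177ccd4436475685df28d62b4186c86c86bbe7f025df25b5aef8d62177da88ebbe20ad5df80472efc482977c7e9ebbf13305df4041b6ea0d09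0107e1e8091c304044300a022b41e5e15a18d921c2356887f82b40fabd5a08f1cad123ad56897832b43f3065e2989b2f14c43a624745d31531055da98853a54c4b3524126d312c31a989058b11640c441688b420b20b09159059c12a8acc416106120b38a3d0591058bce9b4d4ff441105027fa51044044882190d44146c7220ba029106265e8831c4c2838031c7143fbe3892f5d1c4d3ed8e271448ae38a0dfc505dae29134c714205138a2c33dc5226447b313262b0899299e19e22264ac0f1328f8d899200744c94ba6266874757f1c243458e15204c70958bd8c091c265228e162f4470cbdba3850b211c303818e123040c21b72e1fe1fda468eb2a18423418c20c2309806120f40308f43618473cf8c235110610a460872418402e10c21221c6115b470fe878d87f6094ab616c1d825824a66cc1262d8315130499b218255a60c12c7e160947b115823db0f551ed0ad26c6e47b28d823d99b3d1eca4928f6ad2547b65711b18929995d95ce24adf68b596fb35acca0bd95ed648caed34e6576fd6b2bb2db195dfe14cae9b4bb5942c75acd5042d64d68688ae2224da4da7061a6d14d687e089b46b484da0c8526d51c0605e044b470dce58118114373c08aa05a045235e38218112c964088d98a0468e11023384e811,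
  nat_lit 0x498643596711261260c2529305577577424c0949d2624d1a930dfce4980e2524c0ea3d2604ea093092c78014910afc2fc0525a004c92c27c46082ce2c4044011bfa201894110082ce8806d18b0ca620090d5100e04f88027b731893d9916d16ce4f6298b27b051513d8a5c09ee7243346522296b49331719ae9124d865c926926a1881e31249859ad24cb8ce9265fef4932420a498112c4b84b9208644e712e486495d15d0816cda16575002126e1a65400c008985a005504c694d80120a38c290514614828c082414c38920a5a268240c8284f1e414577020a04139051b3a48298c4959ae086acdacd3b82566998bd8bcf59b59a236b36b59b1b770d08cdad52dc4e8436b36b28a08a0a0dae07146d6846f36baa719b5cd908c5cb8c53652a012d136a19afcfe14da8da885fe250b36a9fc39b543934da9265c6d45c6f36a35d81b54e584da923846d06d0233536849ecc5dc0da1ff166d06cc89cb9cb29b31b3125a8d98e87487463668052210ccd260160144c8b00a56d76d744028d3aa015ff2100adf6391f7fc21b4bfe05a9ed85922b22ad7fc38173fe0d22dff11454ff879897fc91f33fe48a99942454a6f476229156503c8a92eae456c71322a6f489156503091aed85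94048ceca0ca104ff2ca5b28202a5941019812680ab0932c91849a04c024c84de126808a0938c83bfa44c31fd1fd084aafe90a7b7f47bffbfa14f75fd0d190ebe47f43dd43fa2a2b5fd1548cfa245e35524275aa93e89d54a19daaa43b2e5525cb4aa90cb149b49b5032c730e26d9286936ad1409b4645e4da4d8614c92321360a61c9b04c5c4d825ef26c14981361352c80d25c64d5008126a2635135125249a8e2864a84ae95d05d0107fde20dde638d92112104a6d9083ae82e81a4220184ba04a905d04ab7ae82598d7406a1700c4c108068066a2fc032de82018c882882780648f140319e3e018cf5b00c79456f06f041e5043a4f28f2827bc794f1a43ca11fa87ca8f2a6a1a7942a4c40e1d33a07455a1039a35a81c81c92050945a074d40d038491e81c24ee40e1d32a07455990396d90cec24e35b62a00adb08f3d6d90494b6d29095b66762adb3b312599761cecc380576612213232ec059297616cc0bb076db5d8432344f3d761918abb0db665d82c95aec5989a69287a16637749b316726d98d293acc590976633487b31ad045dd278a6eeb018b7757741693bba7267ddd2301afde17755a06bba63d5ddd257266bd2b8a59a59a84ae2cd225bb1e90b34b3520c299cb2cd9b46166b8704b35ead259b36f02cd,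
  nat_lit 0x54e2dad8ce155385e16a9ca9c42046a172a75ada1538670ea9d1e6a54e2af4aa73bbbd5395660a9cf907828828698dc1419f211dc7051050556756744140dd260a1f5090514ee53adaa6153b9d6a29de9dc54794ee475a56a5d3b98e329dcd1d34eed424a776a1509d99319a85a846772770e6a13264350d3b41a86b31ed4333e56a183f0c6441f99e59e58f07e392983f83f58ecad2ae0fe664907e1e235a20f10ad000d243c40b8a1e21e2802e0f12ad1b660d69569581e2b4680f15597078ad08c3c54c884db0b855325321194299221714c9a9b6a64c2585322ad0ad0a14ca5320a641acf5320de22992d09db31b30cb4236495a1ae912d0ad089ef5685a360b4243985ed5ad0a97bd685d5a0b421ac752f52f306b06f0d4bd1956a5f034952f0d77a97bea3064df556acaacaa2345656919ab2acefd5961198acaf7d431712b28701d596d8429cc9cce97e4e650632731d4a5379e9ccb4704e6529327318cad398cb0a860658e1ad323619618ba8cb0cb1ad4e0dcb32c6ed21964020ccb024c465885b032c4304196092891a9e5908d506c946a46a7054a35110f90a568d4f2c646a4e16c1d52c060e90a48d80132b42983a5214a14b68fd0a44fb8860942942f821499591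0a5dd96af8058b1760d730b180c0c35c58ce1ae2deb0d7536486b8b5bc35c5d881ae9bcd8914de30bb3ba045d85d8e9bc65664de4de3995a6f2886ad15a9bc9bcc0c40c4226da6dae0b136d84ac9b6a1bf4db7ab229d2136c9d4650449820c6645193a957089d49d4c55655672750e611262b7389d414184eaf28a2751e8793aaaa409d49fcc4eb00672ab2ab3401955a8a347e82556864c2ab05911558ef38aaca91455620302ab46779559028caacff56ba47faa9a166521fe9b9acff50b9c7fa7fef3fd1af81fe84884ff46fde35a37f00351bf61968dfad5b00f8637e4c441bf6b710df8da206fe03184c4894d80c45174060fd1e032bf5501922a980c80c396092a06030a9050184c0f80c1ac84060fd16030b04d01886cc80c81a28fa8fd1206978daa6d034c74281a78d940d414d86d1d0351e6181a1f5440d2ea160687d0a4783e861be03e08fa11b087d06d5e3e80b431f480620fa052ac7d094543e87aa91f423c40fa0df1c7d05a16a6c8ce656d56d3a338f41919d19ce3d08cea47b8990a338e23119c42848cf06ce4670a952338f70d19d16d67fe51ac3ff96349ff9ffc0f55b5887fed5ee3ff09209ff9ed85996d304ccaccac47b6651a3e894b99949958cca864a6655d84b32b6b3d994d920cca2706665,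
  nat_lit 0x57314e94e8c168a7572f053ad0fd5cf594e9419ca7415d053a276d29d3b7794e8f6c0a755117642a884a7ab455aa23661efcefccb0b97e666cc83f25f9c2e22fcc3688a5ca5c50d60d6429742e414b95e5ea5d2fec73c97f141acbf99deddecf2fe540997f97d84bf9de0e5fe2d469637bc58b58b545ef45a956f16f1116b2f908b5775444e44e15dd60087139004281a2a21401401153ad3ad1005006e1a680269bb2992e009afd500434c98025d784012778e0089b4a9de9de454e97d6a77be4313be16c29de4da74ef3324a779dc993bc368ea8ca8c60da5455c484be9954e5f44c172fa574ca7b5cbeba6225f554cf2fb120d97d8044cbec4c425f5da072fb2f8cae77c33cbe2580e5f25f0a9572f867c380914be255a25f242212f8e3abb4c71d4914b8ebcd21c748438870b71d4896b8ec44190e08b0487087061f71f73a1c21c350cd0e08b35236b4382320a1c444210e1c69487091504384c17a1c458110e0b110982982e4394c1423aa60aab3450429828b8e4c10be1260a44913062c9e9828ea54c12c43260ad309815698cfaafaa75a650d62d32d3343c569889cc4dab5a60f34ad35c029699f1a0b4c8a845a69784dfa5fa0aa0afd0b566afe4bf4ab345fa3e242f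d17684a70bb448915da2c1241221769f21ebb431445da18a40b6828a4628629cdc432cb18a22e80c50c9bc6280b9c3142da518a22e622a022b88b959ca45c45c856722e28c78c7a08b811d245cd9d022e19221173f71157d6942fdcfdce19c73e5bf75dfa9fb89092fdcf72f7ee6cd83f740011fbadcc6a996b21b7352f2db9db9a14bc7d52d98d990b7355b1db9b028c506a9dac0ac0aa29028d7302aff198170252bfcbfc31375fe5b4caff35b717454bfd70084c6bde6dc026316e012c58b18b18caf7bde1ac62c6043c5631a956ec2d58c7594ac63ba3d632fe0cb18e90c74e2543ba43a418952bf44e917f0d74816983a42eb954e14e10baea70370e167729c06bad4e2f28c9d69d67bca4eb60b5a47b93add74a2daeba697e75d5c0acb505d74c716eba7b0f75d7151baeab291d74a25aeba7b8975d16d43aecbf1dd76091a6563f2382482414d141214eeceed104865a982425684124143e09242874f7214576848914853b42242abf5b214f76a90a4514c8512d3e4289561214e38e99d71c30b20b21dc705760e38318471c0db30c606d953985d9e1b6a5e30db26d206daa73836d53181b6030b0db0f5486da732036c630e1b6f8cd22b22b18bbbab0c8ac8acc08a08a722b398591587b248ac3c5e456a9c220e,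
  nat_lit 0x9705b2f8e12997cbc593465e250650654178aec34bc5bd1c5e2252a2f135c755f9ae082001f546b8ec4935c35c79abd028cd704a046b80ee835c2cb84d78f58cb2c19485960c282cb7da6afc888b87ad7cc4f5622a25f3111080f88888184b546222222f5f911132f9af99c4457e1e2220c2411106129661660c198b31b364598a6c22cc4030b0cbcb30d6c6598c806a02a023b203201e0ce0cccc80c804a046901d293481a8105504d2140876901366b484c2b9a404e54d205ecf690a381b48531a28e0d6d14c74c6535ba63351c531ae760d7874c73ab0a63a587d31cdc99e79e78f372f3c840479e7b17998b9e786114f3c808579e79e0ad1bcf0d8ca0e82f3cc9cb79e8293d8e4149a87871c707543c782982919af41488ede0a555a105294ff8292d8e0dd8a0a4a59705280b08297051c149ef84f3cf7cb06c376d3df81459ef9efc1aa0829c7be114c3df83641efabf14f7e7dc28d53ee88d98d92cfbe13123663bc938489c57bc7bc422746cc23bd13971b27b418d924c4c6cc6c860d88fd91b2528a8d930369e2b7cb8f14f1605da78af0cf3c5486a04308f142cce78ac4e873e73e2b13b138efd189daef6f46b6279ce0b13c63ad56a9d98c4eab50627ade84e74ba2e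7393c455bd25aeadea191d6f4eb18bd6865cc80b90aa19a192285d0cb2764bd4f3ad3acfa193042d0cdc33e75a761770c5eac7f0966297a97aa2598c1d85ead34a2f54c9497a98240bd65d085eaecce9827662d01504365d28090ecd2e8899a97439784ba31d98a6dd2e94a24974a4d84ba59bbe5d247d52e8728997499a2cba1781a5d0d10ca42e08434452139a2039b8d11419e689336134421570fa10ab0108856103842a541d41d410ac58388550c2042a1f632158521b4507d9806d5ac61f6540d0fb159707dab82c3ed71581f6b8610fb01b387da27bc3eccca01f666a60fb56b32b80e5155c15c19054ae0d0e357040e52b8115c27484ae0fecf57056b42b82e595fd9fd88fec69627f67f612b3bfb2172dfd8a68e68e87f61a26bfb19039fd93a1efeca9ec88e54f6c4a44aa953c999c0fe09c926626669ab1330a254999e3204cd076926658b6be38c99a42884cc53a226619541330bbadde8628eef4ef4797e77a73e390ea5de863e0ef4f8cf77a18a2bbd4bf19dea049d685684a9a254d15a12ed19535534ebb4a9a66ce6ce3aa6aa6b436d53489bc322b54d0fd4aa6ad34153463dea9a32c454db2715add9395c5dc5d164f7e90b27bf37d93a8e1d541540ca38ee84550ad612a85ef415403702aa053a6283,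
  nat_lit 0x1d581398df989ce0416ad3020c82781028d78d7a2040a34902037ea810a502182d2830d72940533f4a109c6a502b2e32e2294197c94a05ee665f2f763f9bef1a68e68cefbc37e22f749a797bcd78cbde89085ee616e2f7069617ba4c28bdc2f525eecbe72f74166b0b24d31f7926876fe93428441be124d499b526875149342fe949a1d17a4d3970c5fdef876556f44c2cbb55a64b9732dea395ae5cbd2e72e304539743325cb9325ee5c99417d18661c97bf12e19abe5b0cc3b8e8661ea4c333e8be19876e10ccfaa38666c1717e17e29b128e1a5f827622fc831517e42bc0bf1e2842f90ae11f6857617fc701215c8c950af08a985784510e6868054347356b93080e1cd0fd58e6a86a8734735eb5a39a61ae28218e681c047346b8e39a3aa61cd4c918ed0ed2c43876923a235c21da5e978ed0bfc07680e523b450412f317f113b11e085fd341c2fe05a917f0bd80bfab8896385712b1ce47058e74e22c7604097f3020b4db4da8c087bf86043df430b035c4a6712295337bd8299be58d4cc928b1dd1dc824a7bc847748336f0d384778720c6c2194a71446109e41a41a1294d8a594a24e848312684581d645200a98990024d84800778564d64c2392b2698ef24c82c9c34bd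64c068a1de1de42b00ef2997997a03bc068e1de2b2b0ef41a7877994c03bc41481de836b8a841b290ba0a1506d06c683747c241b4143a0da0d895d906daf40158b41b217420db7da506de7e0837118f41b52c2c464460e232230481d118e3da88c2a45a45a22314b0f11867ab88c33b7c4630b34754bbd302a0ca12ef2ef08a0977946d422c65de36a82ef56d6177844acbbc6b5e5de37d02ef5c02177aeb1d701700f070678c5c075852e04d4257024284b80fca15c01a882e007cb9701135ab80bac55c083832e046b86cc635d944247e38d78d72b1e31e2235d1b9a5b2c78e43a46e631e0550d1b926488dc238246e60f7a372fc411b9a6c7376be6e69b60f1a48b07ac454a586c1e564d60f5f97b07b480b071a6c2272d3672b269b460e60e15a6cac8cd366a2c69bab11e0e31f3a3bcd44d563562dc09ab1231f4c2b2ac4d4515638205ab135129a5c250cd4674186a269683511ce54250e714472124639c07041ce11c40e732592a6d92ca93a93a864b1d42325a4ea8b6dfd5493abf2149d496824e88e3d274b61c93a3b8617117162350b898c88c88e2e2e6c317117158158b89c770e8542e206c91712f331d09d09cbcc205874340413a165f13200d218460460e3492d6e2919706ce4cde3997e279acbe250c65f,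
  nat_lit 0x7f114b2cb2b0a4a594b267266896536454b2c94a6595761f2ca51f0965a1e1cb2cdf34b826f98dd137cfa4961c14df1af226f92fcebd0bd064bf4bf1af4a5fb25652fcd25325274bf0bd725f8c9252fd326097eec854cc46113b225b41d91d408ec95d4d76417073b2494add921f18ec82e4976430253b226621d92fc8b2532528bf293a32b12b11e4e92317275274f92993a113d13ca64e9761527499099c98e85d894b82ac4ac49cbbabba3a0d31c4d06d06892b683612ae7468a0d4c875891d032c3ec3c720161e4a78a381587b9e8686e9e1b1cb4f0a73dac2153c53c158f4e8874f0986ca7863d453c591c29e0c7434f10f8d3a20be31d11d11c2f8e89430e59ae3a22d151d13b140e80e81b414c7a33a0b0e21d009688e80205074073ce63d64051cf1cf2e392321273ce36269a6da638e0aeadc6ddd5ae36db4214a6da72d039091b69c390e42e42855872151fbac92dc85eac4e42ab0572170e3390a1f11648208a75475480823ad684104924208235e1042e30082387184146936dcdb3571a446648d28d274cdc6fa6349d54b1a54c488df8df438ec6fb8af51d091bed3ef8df78a846fb8e9637e988d1be822c8df2425c6fa089c818ee8282235444111a17a08c3841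044818c822c6cc4113ba28c09dd088f8a91677430283ba17171dd0e224ee8eb5e7744f303ba6e219dd395b4e48e4912fe724a3341a809c903fa0e48c71c72486e23927ff21c912abce49d3207252fe539207f31c912c30e48f75672506e66191c50c1bb0c9e0ded94d06f6ca47bcb653cd7a1d3ad966bcd6ca42638ad8ad850a50a3a7628510fe74283b3943a1d0a46cba8529083428fe65a145bf62ea2dfbc6995b5cb7e47625bf0f962dfc57b8f564d0915f15e56b7b3f0c57b5ba22bc855515ed5f08af36b7c57db10e2be2e42e39172322394e4c5cb04422e66107173172b25d8b981a545c96d8ad891172ac4aa3aa3a2366d1d3957e8e990594741637322751d17e868ea001f474d906a3a85b18ec0ec405c4760a07306411d803940ec0ba3076071923b02fb01d8ae72a0820822b9d04181bebe04a424107266a0814e5133c8820fb234100951208487c1040e510820e9894104422b8fb8fa110912d0bce89676ed1ac6225d3e2912d94d2896e98244b1ad1a25ae04112c989e8963e6e44b0a16a25af39512dbb4c89694690b914b0a51a0e0d28d28d927e946a1ca17e72518c8b128d549e9470cc54a378e08bf0e395e39e39038f252e78e92964d2b8f8a4a5b213252440d71f2731b8f8280c9cd15d64e63061273,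
  nat_lit 0x2d17403c96c201e0005279278d493a3c7c9e4ff924f126d72784f6a93c6de1ce349695b79b79125adbcea5414b536f182c1b78bb5cdb0292a6d86d87981dc311b622d44db060e76d88335d23d2391daa91d2c4277c1a473018523d9a3e91e0a5b48e9f430d44fa724b27d28b7a62829f45b0f4fa569327d4c516242628cebd64e498a7d674c54c52da86629ec4e55cd98a89044c53af1e628ac13314b7212b00fb0adcccd2d6e4da14b737ae65b9bd753a4502baf5eb5557af5bcfbd73a6184384108e98e9992d55b8d3a628f71d341940e99760674d60c746ab067334d83059029bd760c8d46b069cb1537d37b936e9bcaf54f548a6f32b5d37a582a9bcc5e14de63c4a6fa746bb0d3ab8c6e9d4af56ed8ba757ab453abacba9d5d8554eaf3e9a75a7a853ac4e312b1854f004c2a580261562bc88b258565f46c2b6f0e6151d76b0ad4c1929aa60b41b41a8a984a63d4c59588f50f5051e428633d4b4261ea3422cf52345100246448d18012c68c6885f1a3461684de0c8d13367468b8009b09c01a7ab09ab7003683c26c26aab7a134c6d12ae184d76d1426c268e126b35b09a8b6e84d45c5426d6ac2135a11f09a39e384d1cf334e34e1c73da71111c65ca69c9af4b4e09c85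a705286d38c5ee69c88e2b4e04024e68e687604741039a3a531cd1cd04f14e68e74a73423192e051cd53a28c6e9d1338ceb61a749883daadaa9a622acc56aa80eca1d7504daadaaadef2d56080e812eb5598d1daacc6a16ccac9d31b1dd098d7d94cc6ad996636a6c4738738355f7c519ce1ce34200e70aed31dc139c76941ce41430e709912738638f39c4075c77049b901def5280eb5c15bf59922d7445b56b83d02b5c37ee5ae53252d730e150810808130840861c4202b4234221082d85a84100ab420678221016089080da208404a6a4209ce4b4234205d3da11d372d084134684633435839a111854d08dc066846b02c9ec9ea1ac24f55478844e93d27e549e93dc24f470d0d507c281c361370e19fabc70e0da0386d5051c33e130e181b3070e07163875c6292f6766d71c8eaab8ce0475c75722c22ab969ac55cb1826ae4a6c86c88ab9381655cab5aaae5bcc95726e0d38337074029b82a924dc128a46e0f38107a41b81b7b09ecdbd6d30478a36fa3849b7d6908dbe0c5c6dea9e7b8bb8b32a7a530ae2e2a1571695a9b8b64361f7b21accc62a04c86c862121643499a32194dd0dd10c87574f6436212b21c5db2aeaae8870112e5abaaba444bd5d09792ae8acd0cd08aba8344d5d3fe3eaea0c892cb2ca22a2,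
  nat_lit 0x3565bd60c621eb159daf5930ce7ac2184bd6215bdeb061e0f5933a37ac7b43214d3791ed0b104f68318b7b44293bda4cdb9ed10752f690daf7b418983da57fb8edabfcad9ad9a8aff71c657f9cb2ebfeead55fe9829aff71a857fc1612bfe4b9d75725cc39492e4d6f49719741740f25ce91092e17a712e13d105e85e88efc4ec617a17a08168bd25e0099dc2f4f04c17a27640bd1fcc05e9e0de2f43e6517a3f9498c1fc983e43f487f275423f93f9294114120fe43e4e7f24d0c3f91a381fc9788665a65925df32c53d53d544cb4091265a0ac543d056a70682b48ddc15bd8260acb025024882b5cc424ea4e957317306844b987b42b4232e62e6043f5731f002b7ea5cc1a462e615d2d73069089ca9ca53693694272863293944b8a9ca25c267367349b3339aab31119ace688c86c244653bba2326639d41088cea624460a10a23479c1119b08a88cea0644628862233a9b8d21d4d4e00ea658e244123a9c7121d4c7d1cea62d6a75353683a98d30dd4d800ec2ec2e71a61a6330bb0b85ac06146c2e22d06174566b0bb001585d38d418a9c637402024ac9390b938c5f8a9c7158380a8ac0a44107262b13a5d158e4308ac8a67c56242962b07ed642042021c42102b8910818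81894c8420e28221071241081031c840105a4202f8a21007449082213c8418586420eb085d55d522beaeab5cf1754aeb0e42d5d53c322ea937897553a5ebaaaf505d5a9452ea88125755d04c66259c37413c313a0b6badd04cc4ee826d8e741ad57ba0d0685d057450ba6ba6e91a5d322e9ae99574574ccb7e2da25d35bf3ae9bc1b174d3ad4ba6e24e6aa71f7b893890d6b9c4883aa2b8271244b638910628105618e2bc2bc771d02950af0af05560579aba82bc571d15e32c3090905790d962bc37851b225b20de10f046f0699837836481bc03570de06b286f16ba0378ba8f1bc71f18de092b07390906886cac3125443332b4c6912b54808886cac744362f6a21998bd10d082088614414438d755ef45aa53eea74cdb0a164a9da9d69a0d4eba922a74b37c9f62a9d9be454eb6c1ea74d11553ab7284fb4fb5afc31e3d3ed3edc4269f655b90cd127db0e293ed90869f65ceea1050b2d0831e2595aafcd4214204341a104285d081eafecd1b4207101a1036674c73392e622638e80f311098e98e61854c72ccc2638a80ed4a298e4562352ac335a961714d4a27836a5a1334e72f43276e7594bd139c7a139ce19739701201d800300f2786807807636ac03846a601d50f900f0960807256b4b1b201e4f1100f39cd807,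
  nat_lit 0x31c143f256a21f9ef1f0fd71a187e92c45804b8aac02c01699aac6eb00b020d804961ac02c00272f60089d14b025804e896c005698e16e16497c70b6d1f2f625c2d2c5ee1725c470b76f461661615dbeecccedeedea89c76f1b973b79eecd2bdeede2ea376f2cb5a56cd5a4b2e6acb36f36e89ab4ae7cd59708e6ae900d72772638eeb933d20256bee4e32d8be1196186687c2c65c65a21f232da45845c98cb6de5465bd7be32ee7c9196f5e11927af443b38c89bb9d1d6e330ec57af7af50c53d78eefa489af5e310e7af93c53d7a633debd284570017a44a14a1285cd952d2842e50943630d4a11da7250b6da928476d2942e5cf4a18e46c93af42e49c9b5324f24f07cc7481493af51e49e91177857844541bc253baa6f06f0a90a1785766fbc25471aa125cb97a02f469721b244b94b90ab2a5ca83942f18972a8f04b95e92a5c9798d51d51cc3b43b475470da4aa3aa1204384b54a8421c5542542086f2a13533c3792a841b2f542175805e0babc3645d540582ea93c539810ba8611c5d52a96f98172c4a51864af425532e292a9370cbd104aa0b97a55470254918e4aa48a4886395246a4f292384d472d4a48f3e252440e7a92069b149080d6a48e4e279f72724e012a2d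c9c58d2e4ea38472715f4391adbb457c5a482be052915f72328af8c8a5f31f32094c99877ccbb33b61b8825322ecd936976618adbb352d02d186ecd321f766d866bb37dd560f60f35f6ef29383d286cb0a7994d8559b2ac2ac61f615646db18a53558c432a6c62395f6311c8a9287d64dd35d32d542e9a11c91ce7ba6b270c250e709c5e17131c6e2e2b65b6e538bb07aa38edb928dd35e1b6e8e37db72c736db9ec884acd98d7b250d33d93d91d435ec8c4a24a277b27e263d91172deca3320f654d847b25446d36536216969b0e62f0b6ea6c5a52d3618b9a9b22cd4f8af86e8b3bbf2c59dc6adf0ee34d28e172b4a64a675c6dc6a6886f75b71b0d24b8d9473dc6aa9a6e3684c377b77aa6275416deeb1faaf7556937bb7bafbbabdd85deb610ef76328f7baf488186b2f5bd20c58de90618af4958ee89dac721dd43712b1cd94558f58e2aa8ac734694691eb1e9d9758f5fc3755afe2bf557f2a0e0e5995fcfd48afe7302d7f5b9aef2835cea6aa6aa8e25356bea29a95f114d4c1aeeec453588e0a9ad95b14d5f110a6b6e705350dd1a9ac913251dd20f2452443bb892233a45f08a48947212444d8192271058adb8815df12148e20ef887105a083882b50dc414a432d764027ac7ac1dbba9495eb1eb10a52f58518c,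
  nat_lit 0x7be51061060310f0b150c3887086180e7139bd0a1c7ebf98db4db41c218aa13d0b8f95e84684cf42f4296da7a118d30c2b5e852358f426c817a11a143d0c8d3de860386f43028680e80e2220c0730ca505dd01c35e180e8144407579aa0388c4b01d5e61ba28cc1d79a6f2ebcf02155e74d8faf37be56218623937d37deaa29be539c4df30bbaf10d37ce7109be2ee74dfa98526f863a537e3dc578ef7aebc78b41ae345a11f0dc2d9168e8e68b48b43ba3c5a32ca1741d16895cd8b458c7c5a604062d2514b81128a172c28674a2e0422515b10b28a67418188184268c0c29f99ef510303642818446840c26896061ef4d03050cc8182595c0c53c229ae9ad2cd54d6bb9f87c1d3598a869ae4b214d75ecfa6bafe4d35d3c1a9ac42448b21d034591f45a2c99b2516516607f08b260e10e13a2cda5b516470dc8b2148c45946b522ca33c1164788c8b3696b3f95365da5da58ed2d0a856971a29b4bbaf349726692ebd334575edc89bafbaf1290dd7a24baebcaef2ef28baf4c675d7c9142ebd9d5f75f47c3bafb8f157f1d092c2ac28a73d77adb8f39e45855ef32e3dded371f71f0ba6b8f7dc6c770ae3e50cf71f7f6aab3bc31d855e19efee8f917f77f65a3ebfb35e1dfda5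7e234457f70743bfbb6e7dfdb91b6fee1685699294159724e094c4830b0422ac520cb1e394a9062299bde8c93a169b1c70b4624e24e3c2d483162aa2a9120cb14694a8ac1258a589a2aa2a8e9630b4570b85724c72238a169c2d10b5294758a2b2542d2c74216a2a9f0b4728485ab992a583ba0ae652c117334d89b998fe7dcce0442e66b9c973295e8b97b976ae35cb952beed4972f8590b978f77dcbac79892d63cb356eac258f9ab42c79259d63ed954b1f6b6958fb967ac7a99c163c8385154b8cc8aa7da54552c53e2aabec91551fc624d24d3c7f5a33e3fa3dd4b2449878f78f7312647bb5c1e56491eeafe28f7bf57c7bc938e3dee58a95d72c68f352f15cb25722e5a3ccf72d5de9b967507dcb25b0ee5a0dd9218494c837b655daa2a7aad52d50f7272905b54b9335aa5aa0d01ed51afb56a8894898d85aa43f3ed52e9836a9650d83cafb341e41e1ebee0f1472541ae83c48d0c1e1068a0f150490791acf83c410841e12a320f071d7078e0e715aa946383ac60dc1dc1c22bce0e99d258a5b838e505c1d71a0e0e2b467070ed12c50f5a9629c8deb155d4458ab4634802c60ad1a400f68d5a49b467bf7da32c99efd5f6c97eb7ea99f7bf532c9c1f8afd5ef9f7eaf983bf53303c3f43f347ae1f8a95b0fc6330,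
  nat_lit 0x5ca325e25e1d7283f1cb94b94b2811216ae5421917287906b945ee25ca1dd82e5464297284952b9562edbf36a15d8bd8b8ace6c5c875acd62b17ac7858bbcb12c5d6a4b5e6b5267b499f12d4d79a16a5ed0eb52456b5a90f24ad4ad2bd6a6c188b5282269126136c892c70a449c6d522522426d69123a08c8941e86448ce24e24791225c6489218924490c5022c8627b4b22159f7a18a575c6a98862b5cb431431084da18b46ec885286234cf4317846a1888b150c6d2cc862442d82b221135293d088862e12443002f2210442110b8e1f07f07d8eb583e4780c1f338e48ea707db15583ef684c1f40c0dabdaba15fed5d94feb24eb57b216dababf96d5d670a85b132359c59c6077ace0e468835cb39072c59c3d50ace216a16729b14b3901d059c8402ace1078558c83cd08453a420f8061907c072c83e108e41e082e20f8397907c1f4083ce0086ce6ced8b9784710544d1de11e10b698f08689a5e123c20eb09e106a18f09698878493a0bc229b19785784ea6c8b4c5e15e16231af0a8ae97852e748b425e11070af0aea41784bbdcbc22fa278d3fc3bc6bc698ff0f3c8f1a520b78d3776bc6cb2b9e35e392f1aeccf78d3a683c6c4f0de3551c571d71c6543ba87dc7264ba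e3a399971cfae9b8e5433dc75d536ea12fdd751404aba8b0a7dd458c052e5578b631294355e55e49d32af1837c3944abd0e2d55eaea62af18c2557837ceabd630855e0da12a1aa198f24f24ea87258d54393a72a1bb32950de3a0a871e815368b32479ddd2e2ce2cdd1e8ce648f4837547a47a091323d14bc51e875338f44263925be3d206211e898e58f4533347a128323d1f9571e976ad7e17e111053f0ad7a64a46fc233097e185d2af642eb54b876070ba832b85d85d095438f861757b110ba3aec85d1fb4c2ec552a17475a10ba3b8485da7f32a653f969be9bd14fea987a7f8fe553fd693e9fe9b214fe6444a7f4c24c984980e276270d261260789c93069395cbaa4c21861260b24f9308df143c1f1061e21e151350f0970787821d52bd321e09ca10f0b24d878830290ac18269bc6fdb060b12183043a141810aa20c22a1d06065908301bd7c181500e0c1a096b06d0484bd2734341341149cda08c97b2f0d68215e234124c05a08871cd0439b06822761b4138fb51691690fea8b431b20e1722d052891696fe08b4fea545a1f3622d48104938ad043ac3ac417d1d66c2e0eb30c98758a2c82c881d617c60eb2c32475a16943ac2b901d603920eb430996c517490c23aee8612114c30ad89e186185e418e2cb20c,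
  nat_lit 0x23a4b8891d120c08e9c120474d3f923a295b91d1898811c84751ac223a6ed811d12e3c8e84c02474940513056d0898339244c04c1c04426084a01304885098153693690260ca041300d3789833dc04c144d6260b94c52d52d0cb0296920d992c4a5c1ac152d64b4a96b0a3d4b51888a5ac28e8a061450e730a35725850e22c3863614268230a4a605851801ec2822c661456f6d352b78438d961892d002b56f1c30ab7d5d315bcff12ade354a56f3ef82b78d23d5bca608adf22ce3219165a3ec8b159ad2b8522ccd68916261548b379c2459bf8922cdfc55132983289a4bb944d44c2676a267298513437f289b83404194a26a48f5135768289a1dad44cf9ca3a33fe33e7b3621f3cb7acf9cb9587ce3a283e728f69f3cb7b8a4a5bd9384523096f36354b7b112e25d888a79534616223ca4311419a58896094c4423106226587b113fd0a5186906ff54ea27fa7fa32922921dfe8d158ff47eea7fa8ab7bfd14c41fe972452e52e43b616e54cb94b92e3865c848f4bbea97229784b914e3e5c8ab472e5540ab65b2734c4cc490aba331d31364e89897562cc4cc4a1d5aa803312da0b9896cc7cc4ab4266256a4931268614af34360399a1b6a80ca54686cb061251253b2c34509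96181c2640c0f03ef607141b303b994d81d479ec0e91f33ca8303b2c1581ca7024fe0ae129c809314e14e1e024a7123f4538362f345694e20230a71941e538cf6329c7b04ca2bd818625ee44f60b52f7b089d73d82bfb1ec086d6f60b5697b01893bd81179c86c5e56436436416b21b78bb10db9de886dafcc436622f0dc210db880886c8ade436086921bba22b39b91b08659cca43243210432191c55339a2e8886543f2432921380e090cc598c8659cce432a66d2198b5710cc5a1886651855b728c572394625cb459ae519c8d128d58e994694a84a3483be519e38928d2885c2c77c4b61ca219b0db0cf288b5e9944944120d2c00a5130b112890d309448fb7ca25c78e5129a836c4e003a6a3217535374269a9160d4d411833e5372684603e3023003d41180f0f08c1d0804601198231a6dc89d20e969b90723a84838b09a41cab1cb1c8907b174c839273e41d50c920f2025b9994d1480dcca24056a5320249af9019458480c210a3ee3ec46531f6a5b18fb2dcbdcba23ec931f1f774c38fb108687f2f18c420b14e21021062c533610842f22c4217958210ab4a1082c280842f33c4208688210bcc15d23481af3220997997994246212d5e65e66322af30cca4a05cbcc3ecc5e644142f3313a9798ac1ebcc90255e6,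
  nat_lit 0x59325fecc68aff6398f7fb7ca7727be552975f2b25f2f952bf36842be58e385f2afabef962a9b7cae4e6be57b85c7659f8db05b0476f9800cb7cb7c4bfd4cc8adf1ee216f8fd6fb7c49075be3dc1a38062c4f711c077b829853dc59311ee2c98ec1f094cb26c2f4d931db06c9a7bdf64d4c6eb2660f35936178a9eb0bd57e985e5b6ec2f0cb53e1af0bedb9185f7870c2fb182617be226f0d7d54af2222a5f55f5645ab02897d4b2c2beb7f6f5f558a6afac40aad54ce151032823881b598440c70ba205778a8fadcc15de47d42ef0a91577977902a4bbcac005de1a164b9397784154bbc68af5debeb1aef37b36fad8c0d7d77d61546beb3b185f5b1816fad4eccccaebeb6d765f5bc1aafaddfe17d6ff6fbeb56f2df5dac8ddfddfcb2826c8e77f77f41f79f795dfddfc29c7624177f94143bfc8fb1dfde352efe2f4a77fad483bfdf20aae6f91b684d5e4be4be433043041ef91e8557c98209be4b627df25b1c2f9247c77c88e6d1ae5601239855911cd4d8a8e6ba2c47347320dd93ead1cd4d8e8e71bed4738e27a398fac11cd46828e644c551a51a60a928d11bf4ae02a356b22a282263a8d083a946a0dd2a356b2651a22651661132dad9a20a44c44c8688044691317b04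898121444c287022688079130a98c89a97ccb2f4be56ef39f152fb77a297d65cf4be6f0ca5f3675d2f99d2a97e45a14bec724a5f91c5b17c8e193feddc5239238e47d91c145ac8e213fe4715677238566c66c448e402ba470981523922b091c64e7c8e4ca2d8166509100e82b994bca14ca4ca0a6626cd33287fae99481a54ca15d166525ac936736622cd9b332fa30a8a6cd7d0f3672d4c9b3bd75cd9afa0885d7d1547c22c25f45f430889e38d7d0444ebe878ec2db3c75d9a56e0cf1c230478e78e508708741e3b2c28f1e0ce078efd62c217eb311fd0eb1fac6704fd647e77eb8ab53f5af991faead4704f56ad5fc37e6d5aaf9a6ad6250c6fc6fc789469b49bf1bf2c4881f466fd22c237eae339bf57186dc6dc433316e256f46f445b8c8b2adc558582b4ac25a6b561319b9de09586ca18ac266e7561a6b42b086fb9584e3deac3601056199322fbafbba7497dda5bd17085f749652fb96dbd7de2e0cbef066c5f71115afbd6a1595eb50cc0f5403ad46073d6a56a34dcad0975a8cae8ad4668656a1d326b50fe555a8de10ad44da256a1f4b8231bf8c7d27d243212cb11f4b7f20fa4a9987d2120a3e936579f4b77c0fa528087d36c6342eb636c68d218ad8e44956c784c9b636ee85b1b340ed8c8e904c456e823a,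
  nat_lit 0x56d144133012209b95f105053088243a64412482e20b014962780a7b35b353602d7b0ecd6cd4b2b92b88b35b157d9aad612cd4569a47047046c6238143f823888e08e0cc1cc1c7238563611c2b03c8e1afe04716703845608159c47504d2a9dd31d4d8848ea8ea71244752e55ece211d57e4f8ea9581c755e4b9c9d540979373ae8238231def373aa08ef25f04694a382383d6d87c1ea4d3a0f4ab58b58883d83d540041eb871ece1f07aac5083db04641ec9cae0f424847fd2e2d3fe3ef51ff1ff3cf3cff8a74c7fcc82676619ff1d320ff958d27fc7f8f3feb4a22a1da505bc2d29b7667dc9b4a9a355a55893ed29d9096956f65c1e6ce15bde0f22dee68956f6a709b7b7b57dbda0836c11d911609608d39ab0451ce582266fac10aec8d082b04a0d7d825bcb1efde3856f380afb79c2c75bcdb6b6de6c5490e28d49b193a6158ad8c86b52c648abd632e468b194cb7cae42c665702ff72b89291b1284ae146365725706f970c6395c7b52610c31b1ed46284f6b2d4a7b54eb4bdad4c11ed56b0a9421e615ac5ac69d0ad628ee9f2d8b58e2425ac4a142d644f296b24ea0b590e63c2f87311904200a1cc79970e651ca8732514c39a70c21cc161a55255242152a944031549d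204aa58474552b4c1782715487190aa510c255323702a948e7954cc3a8aa6611255300c52a94813154d7208e01dbd35c93984ae4b156bb7d213ac66c54b632dd2ab15bc92c0b40b22f26e247793670e3c9a0d659c551aece13018d8729ccc1d90265d4dd4b66cdf68f83a9802ba9c1d0bcee0e99f69f78783b7528c1d7de6d2ddd49296d8dc37536e2cacaaca49b39b486b2a539d5956fcdc05c051aeedc8b3016e5dd80ad321b919b50a5d4dab6dae6d595f56def9b5bab84da99b926d6dbd4eb76de346f74975b7ba3bedbcb69d066c1c114bbe55b0708aa98398552c1c5ae460ebc675f2dfe92f1af1849c778c5bc48fe75e35e222f1a3f8b73b73a88fe5611dcea5842e752c9d73b6d684ab7cc0db5a32a6daedad339d6d6180ab6b6c3e5b5959d6dacc956ac24b6b67545b5c9742dadd25f6d69623b6b8632d854319958c76450c761488635633c31d7b3618e0c950c6abcf8639061c31a4214ad4ad4239e56ac5561dc695ab9eb8ad4675856a90872b505a495a8cdc0ad5214c56b7fe2c00bff339edff9d756ffcabaaf4e3bff73d3dffc33baffd91537fef470bff5854bd3abeb9e9e4f42f4ef4e81db4aa53d3a51bde9c61a0f4e3b657a726d63d3dbbade9eee9b7faef2cbfda5255fedfec2e36ff5f1c97fad7cc,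
  nat_lit 0x9e9416d4b29a7a67a426931d499e99e971e7d5fb27a668893d32ca89e96467cf49760e7a6578a51c85c295ec225caf147225797d1b2bd788995eb3f7caf4c18e5784b88c5532cb62a62a4c01b1515748de04c54ba4862a8016b15415c18a93d5ec54ca2162ab1a3d655651ac6ac696fd7318eb1ab1a55cbd8d0e60ac79b6354803b1aa143d8f58f118f2c78d42963c56e96e9458f602a6c793e5563d3f2fb1e60b258f3088ac9984492e2c22e98c61162fcb089a75e0784c233ae76115f77b0888ac18459048c226a22aab97e096d55589f22aaca69c69c8aab9d62d55d55a275a7b9f55678a3aab4f970660660c05d3d5019819854f54f2106627d3c3313c4219937849b89b834d9b070a6e26e0459d37089b39b82af9af9a26e17fc4f88bfe67dd7dd3affb20317fe7bd6bfec18f5ff84a82ffdc2adb61b6cf70b70a66dbbd725c2d0cbee153e909f89f895834fc2a7d09a913f172189f941424fc5fc5c9f429393f24f9e9f819a14fc6103d5430824465840677c22ae61098c7b081a5c1842aa0cc2052cc610b545cfbcf9ba958b7113e73e698529f3296e554127cd02473e6ffe29f34007cf9a001024e9ec480115af4009ee0b1f3060afcefd033af3aee35160c288a88aa1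8317cd6c18c06a60c9d77b0631f1183295c464261a4a579d57d2b984c295db5474af0f4793e93e493fc9f3980e4f8a5b127c687a68d249f16c224fa751f27c522696d96d3948d78265b6cc9f2dae0ad96db793d78587b2bc2e7575e15e04a6baf035bcbc68abc2bc0b6256248af0b357d7849d12bc255956af62a895695665cccab16c567e552acabc2956c0584ab47bba55a77db2ac5b8f9f997124fcdc31e7ba7b8d70d53ac9ee2da7cf71768e7b8f51a11001e108808848da8443cf54222035e110337236b704419b30220dbcc1110f42bdd7ef4c3d19b161ea1e8263b0a4487a6b95c3d13a321e8cd8f0f50d6e87a6dc7c3d35c98ffc5208d72284b6b93ff3b5c8a3b9ae4090a27ec12313f13f624f89fa00903d5427ec68e13f2213b68b68adfedb14ce32e3276c518f1368c7185b458d06da2c0b06d18d17b68a3db9b45bb9ada244256d159f40a38a59167c479cb3e8f6359f8230acfad5a967c51cab3f66425a0b322cb79e38acca5bd166566a9b326e97d9959d92cc8f18810e78cc5f408911e31fe30f19731478c47093c660d79e341340f1acc4878c9eaba6a5cc6a7aa7aa55b53d4a51a6b424f5b3f4c08146a13d55a5e9eb66214f5b3474415989620a209d1d91048b31882494bc4116ceeced11043da1882,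
  nat_lit 0xa0f5cf2cfcb279683c72e141e7a50a503507973ae83e83c9426e021a0f9b92b80b80a26e4551ae0285217012c45380b8241c054186e02cf4ab31972433d098359e99e1ccf4cf492c267a131e33d3d40d9e8b2e4cf4c49e49f1b3d48a919e98e0ecf4cee612fae31b3bc4bb59ddecc2cee25e767726b533bd08259dcdc0ccee6b2514807671aca8314d64d650a0c6b293356c109acbff2cd6452106b304ec35938179acbff10f51ff8a6e46e487fe7fe62b4bff38691ff9235368617fea6a83ff55cbdff8d392ffd68658079bb1da1da1adb9ed0db3f937cbb435ff0da1c03a2d0e7f896873fc8bc06e714ff1a7367fa19c33fd3fcab0f9c9118d970327fa7d173fd78059fe64614f261292790b6593c93f25c259a34612e129668e0cc584b84a2710c2544fcb74c30967d1f84b5ac4c253cb14bc1e599844ff867967b823cb3cb759c9e5965aa5a90796c2273cb08761e5c5c3cf2d8360796ca243cbc15332ee0a96685abc582b3428c1565d3e0ade4a7056789f82adcf0c156611e0ad0eb65d65d4b5ad5ac89756512cbacbaa19465d52539490e97529d0cbac018a5d5b5492ea80af9756e584baa04b25d51c972eb1885c219b46c6238cbe31231196df188a229be40c62610a2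3130a6118896258c4c293385cdaaf0a5c2cf8538522aa77554e14e1a2b0a690e18536fadc34aca6256cfa36b2a5c0d3e93e879702dc2cfa4fa20b71dd433e92daf9f4b5224fa4f11658e788c5b26d629e296344f116c9e789219b3c532ca9e295e7cf11720e78af0157237221bacbac2434bd80aeb2eb0d2b52b47bacb2a65d62d58a56a568d047046795a28c64ad4743a56a1ce12b502cf95a3de0cad5e0116e6a6977810462bc07eb75e027d8ea6aa68d15b15a7a9ab32354d54d1eccade5353563cfa9a3cd254d08d158a80888234c50211a4f758663152046807da234198f11a627088d55f253dc5f429ef67e6abe9d52d5f55f22756af8f67f57c435f46d655f5e326af8d6df57cd664abeb130daa97f16620d998ca333096b3988417f3599e63b07c2de931c66b36b3197fb59adb05acd8938d66e1406b3137a0a1a9accbfa0d66598f6b32d42b5997f0a810bf9092292252fe2fe547917f0d24c199a5fc2a8a2fe30c817f42988d7696d30a74b6496330b652db5e19bd050c4d78de876bc49a6b5e31ab9af18e54d789a096bc30b835e50c954254257420a122b45509450ca8495ba1ba10a13556f5090cf1a84d5ca8f38f39c10e79cab383ce39479e7227ba7a5e79c69d03ce9ee29e714798f39c19679c5b459e9,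
  nat_lit 0x6b865fdb5c160ec5084d713bee6b87076b5c546958a2a35a80b51a6672a492546bd18aa34cc0751b43b0a8d6284546b391ea3541d551b85ccb4686316173df3b0bb0b8734b3bcdc2eb797e175cd9b0bae61a95f4dabb98ada1dcc5cc05d9ac19373184aab98b1585cc5cdbee620ec4ad107646e183b2dbd91f0a0eeded107638ec83b7275c1d9e5aa0ec9e1f076ac1083bbe02ab32b322f8278957c102a9be0bc47df05e4c2f8274c77c0a0ee0ce9c9457257216726d2855c862a65078ab5a83a83aea8141c8de0a0ed650507333da021141ebf84a0e9b4f507345828398aa141d9ecea0e558a5076182114296958618610a5ac30f7f56182b03303218604712c3022cf618742230c0f931819819aad903446061b11303218bd81916a0c0d736289cb9b62584960ee6e0c857377365b4ab4a45cdcfa2ae6ebc1f7372524b9b6c7193c028889e1d4c2bae4f028e22782bdabdaa09e0f2584f1170a2785d7493c35fbc9e30d0345150e4c34b121543c40b148d65d6a46a46477f5237a6d291b4a5d48cc1a68ec45235de7a918699d48d1f14a471d895234022d985a82d0090092c5e80460930933a0104c8900acc1080535ed402a6d0a012840c33ecc1b7af7f09b304996a841e292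cc2cc1c92366059b29b245983a3a542142216612b493d23d2459f9e9365b822147a442a23d208a09e9408bcf48a3a07a567e53d229261e94392cf4ab2a150f550ea8796d6d4394f225e5ae8f2f32f223b97411cbcd4dbe5e4edd52f2d74597929e34bcd5ab2125ae8377c284e6ba84d2b5d35d0ead5ae9109ad74aa136be6b5d1ac85ae9b254d74dc0f6ba0ef123b23b3aa811d971288ec22154762c45445211d93fd68ec156a47643a4a3b2163d1d87e208eccae447688a64048fbaa228a5c711511b088ab617c451b43a22a4950cb724a2bff8496492937aa49686d324a6d039256787c929363a49540db24acb6592536c194f14f1cda1011a53d2f7029e61c794f02ba8a78da0c53d54024d05253d500a19d495495c25ca4a6143b422292b4f0d4949a98a4a1a6b5251f10a92a8d3d4948794a4b540652588d0a6f446913fe2edd11a3f0588d88d40fc44696342341111af3d088d7a05446b2d1223588471a11a0c66c8d01211c6815af9af911a0460a8d09b9846835f2eb8daf9c286d7c28172be535f380c1af8a710a4ca4ca63f0d36a93290394994992210a4cf67a5268091a9314a71499824e262352691c229349f0949a48cea4c84adb624258590335b1094264284b3929425a0f6daac773a79702133cb3ca1673,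
  nat_lit 0xae48532cb59a996a0c32955066b3ab3a3d41b772aa0f099f5072050a839d23d9d59d3ab92ce9ac1b1921b3a9a0259d59cbecea748b67479acb3a6ce0bd2464997a2f68373a45848c98c913e3464a17a2324b7e5530c8c9bf24464bd226fb542551937db08c97ad7c6493c0e326e3c979b79a582382345e6dfdb6f35efdd79acbaabcd9e37de6d5dc2f34340aa1ea1e80d00e35287b453d43cfd0445e7e8613c13c39fa48d38fd0fd165507e903fb3f478c284734fd22c567e85f033f471051fa212a4fd254e13e72a6d8ef9532cfcca999f7a53892a65163953aa96ca9b9e0a54e85212a73f289537de3ca9bd6a12a92a8af5af5a31887ad10c7bd69558a5384f5aac487adaab53d6a513deb5afc6f5b74c49e39e32de4de4a278edb9b3c7810e9e32d954f1cee3e78efd5d3baa8629dd9dd11b3ceeb23fa774b73173089dd2dc54eecab427770b9f3ba8d049dd93765b74228e4dc9ec526f26e5278278449b96daa4df03df26ed710937b7e249ba51182e42f8894494425a64a2405ca51160f60f509453dca4a29ea7a5111c0d2883682a893b825469dc2df05ccba77239093b97c089dc8e36cee4f32a77151133b978cf9dc9da31854df1276a769b0533b459bb9da5db2a270e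76a3b1f3b551b09da9bb44ed1851e76936953b480059f89f842004fc0ac827e0b2db2da89f8c2e4cfc16e427e2a69f3f106a49f861232ff9e68d849849c696c2453c63c643092ff9d8491b96c24238a612c0f4b0908abd848b6e0c24c844612b853b375f6a59b99b84bb4cdce3c766e6de0337159199b8d70b366466e646433716d419b9425ecdc25a366e9e611914f31657a798d4ae5fc49e695e44f352b9e79983db3cd57cf9e62d984f31728e7998b4b0573a8762d62d708e3169a7504c48c5b056862d2d8831688d3d8b59f1af48cf828ad74c1b3e33e318559f0aabeabe867c73c833e3ffbd9f1cf88cf8f18a61878c62972eb99e31e30ebaee78c78cc0f53c644c0de31855ef1940ce78c17c6bc6607b238db10781f81e56bf6bf4607b073f03e77c981f3d432fb9ea0d9cbbd067aa7a925b53d45b38b3844f55f6be7a958073d4beabbd856045ec5ec25846f60aac127a2bd860e85ec35c3ef62df9d7b0b8cdbd85ef48a025d302f12e9649a974a22b8f4725d5c8bafb52e8774497485ef22f4af7af7b04397bd6d88bde54ba21112f7c59057befb46bde5f705ef22c7af7ccc397befb44a9b5502bedbed2c7547522fb60ec77db71a4abbabb72faabc36b4ad19d5766b6aabb5784d5dde342aee0ed0d70beea6b8,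
  nat_lit 0xb113258588ae57158c762302cdb11be525889d12ec462345622ab8fb119c25588c0ba6c4557054af6c2255c5f522ae5ce9557157081beab8bb1955c6d22aae22e75570af5cf5c855c42f4aae41d3d571eb98310b5a17ae24d33d73d71c935ed12f5c8ea27ae5621bd73d8c1eb9b8dcf5d7e437b17b15bf0bd889a09ec4b202f4027b190143d89162dec46252f62d8907b160e23d8a842613a139111509cd74184e70e7a452a13a2bc309cd74484e8d0842744516139c0d709c66236525217329319159499486e06246d65297963293d1859498c8eca4502a652520832944b99948d0166fc68058e152569a0091acd00d0c46800e6334034014b71a019c11c10e6811c283405e551a028db1c088c9aa36a48351b26c228dd238546d9d9ea3646aa51b73a4c9c49c0e4897d4b271270b27893842fac9c36f824e0467690ca938727849c51f3e4e291472716a2b5f4b5185485a896739009b6a2bcc2b5190985a8ce722d4510d56a2ba09b5163c3c84c849eb7a425690cc803909ade3484c8484b0a42544a9212942026b0c84adcc24258f0b212c607a1fa1f33184bd8e87e89837c0a1eaa26a26658f5133ef01425b44c7c826e83e4331b84610f918dce7c8406d3e420651f21a4bc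f90dec67c8bc0c8a05e02af3af02631cb098bc0bce85e01066af02f23d781be42bc06082a4cbc665265a2a69323109498fbaba223a63d11472a6888bc47445444b2f0a224b4cd113e94e889d30b444d3043cc25111d31688a3fcb80b0e648ff4af0c7fc7fa654e3fdd7151fe7c058ff6ac9926ae3fceac71fe7564b183ab658c9d585ae6c4dc75674ac3ab08249d59d0c0eac2f4c75772247e87e83589c4089fa2c4cefd03b4d7e8b2373f40cda5fa13420fd1520dc22a90119951284bc6a414956d442a9033155485128ea4289593af70cea25a532d12981b12924cca94894889334a4505ca5214b68b69094970d04a4b857a5227a19a4ee2c69e8d2674f44f44ae4a7a1433034089e961c24f40cc427a0e7353d13f1e9e8cf414f47e12da7da7b6512d3d0fc369e59dd9dd45a7abfa6d3d001569f02c4b4f2fd151cd1c89b328e4b81f81e8a3960c551cd74a68e678c9472952a55272e3a54a5499cb8304895295259ea9ea4254dc2a92a42e60953612250f39e2584d84baf0ec24b3b9200eb099dc4584ceaaac2543536133a2c581581639187385605dd06b02e0f058193772c0dfab5606da47217216b58f90b312c92c9e42e3b152177264c1dba91d32d3286573095b4cb726ba65a6585655328e822ce5d4ca95e9a65,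
  nat_lit 0x90e6dd34871930d30cf21d21c2aa190e54c548742fdd9cd921c4b2d90e50054875dec243931c721d36c67619ab65054db24b4e6d8ad8560249b67e35cdb361226d9d84f36d6dee9b69864cdb5863e6d8b36136ceca39b68ed3168030acb40b408be937c22d096b6168476a0b42709a5a0ef612d08e92dd4602863a63a476249f21ba82482c74c74a09223a5d4d6728c8e957d1474aa1c23a6ea111d2b58e8e98637c749270e3a6f1c7206f702903c292c81c81a30a640ca49d7ecb90324e4481e10be40edec920698aebac4c52c802629a0e8610498b07a34c59004262c1d1d3142f9698b0da94c58457a62bd741315ae0898b4845bdbbdb1c65deda290af6cab26b268bdbba77dedddd0ef6e974a89d4bac30ca5d24f152db2974e0454ba89c8a5d8ed7d2ed0d869756d42de6b6a235184b72da98b0d6d5805f09639cc84b6014cbc300aac9844d8c02f7416019421b00ca1157f6a85d396e08d942b1414a14dc8e50a5098c65284aaa19427b18c9eba5097f51284506a9427412ca117ea5aedaec581eaa426bb144735d8ffa9aee4f60d76284f6bb8db146fc6d98c2d66c51b6c82e8db90c646dc77ae36d5d951b661678db8d862c9c6c04ca2360c98098078d8541646c11faa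3611bd1603602191fb012a379cd12c059055603412fb0163d8580e1a2f09a96d574f74eba28ba752ab3d7aeeb2e9c6f5f74e1852bc22dd3dd3a2f0ae9cb0d30d28ba76c37dd3dee8ee9e3b52a365fcb8ed8ed24af47694929ee091da49488ed8576c76b60be3b68b031db53abb3db3d09e759e8dba58f1b67b3c8fb3db3d5b2ed9e9708b089167b42c79fca1649a1db2ba859c10342d3f86a163440d50deb96a86a8517af542abafa3c7550d1699e36668945af1a7a2da306d1697aba8b595d545b71c9a2da027d16d11428b597c745b44aba2c7ea0d16181ba8b1945b458ca4aa2cb8f4d16523a28b28b1f4434585a4730b1d1617a928b2890f458c04e1266035d0fca0958098091282ca4c602a1f7b01092c180aa3c6c04d0835fd8d74afed47997f57f4337abfac6785fd3d47afebe1257f446383daa5fd11322fe889997f97f8e226226257911383018898c08cf91a2269f8e1136005089affa444c73a022603e61136ed38f82f0187c07c0ebc0fd4a1f01a158f80f811a9c7c0cdda46841f05dc60f80f4b87c00f1a3e0c6d01f02b778f80bc047c0acd531c56681542b34ac3c4720acc16825671c422b38d12159a92bcacd8d205662a852b388e31598982cacce799473380eb114b03d88d889dec6c45f1d162257b1,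
  nat_lit 0x12f5338b38c142d9c5d4a4ce2d12db852338cbe099c5250ece2c78cb29b29450dd949e0d2614365277c3b29b348594d243eca5b95b6534365b298343594b4d0b00b00996098044b7abc466012de37009644d166e46459159112ce2c895dd087c4b2326ab59177442c8c599d646e59ab22516a5917154ac8b9495c65ca50b14b14572972950b2b948dd252c9ae52e32872915f7b94a58c1ca457cae48e48815fb620b925fc2dc91c712e49752a7247198392521bdc9271185a738856c19c46dd4ce21abb2bb0f388d8289c42d084e25203e711f3433890fe784784b115e0f6ae11d564308f08e371484784bc423a5f1211cd0fe78c28471cd7423c25a611cc8c708eb0ae2eea1f497717739780bb90504b7c82ee180097703288bb972485dd088f2ee28229772df18bb89bd85dcc00b2ee0f932df2df108056f94230b04f5be13a12df07e116f93a1cb7c4b6d5be20062df30c2d6fa9ed4b7c1f285be82d633f33f052619f9aae0cfc51aa67e32e50e5119f9728ecfc354867e5e76b3f0d13d9fa2610f9af9ae4f119173e6dfea9f3573d2f9af9af9287cd82a9be696261f356f9530e37cd52e23e6c899df3645c37faa46191779c348bc8b9de7245d491b22e992c74f648bd7f3e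45e67849c09c0d7404e031575bd05380ab8e9c08fc64e04e03a3f27028320311a9c10c834e07956c320ed861921914b7b33cc8646da2c3238d9267a884533d33c67117113ccf39f32678b0d333ce7b099e19273e85d429f40a092fa0f32f7d07d783e83ed8f00f00c3269806cb695d06e01de4b300e09138070ec6c0327151da93891f849c4af2f258427192e6938c0b309c414044e2f2e827192d5138c3e3c9c5e5d4d9cf2ee6caafa23cbe0f05e5c6044f2ebdee79730553cba6541e5e32def2e952b77230353b90bba5dc9dc9e94cee4eb8f77268bae1611dca4b84ee49967772b4e4cb5da732915000569c9cc1b4e7e51da726442d3a909f69d2b8db4e9081b9439406299ca0b487486872858e2b9439421639ca1b2702c8972815f8394385bdca1d208e515dc67bfbe06d7757709435d0c75dcf7e7aeeb156577536bebb9ef8ea7ea7ed15a53f2de129f99efacd5aa7e942453fbc2429fbb7bd4fc3646a7f5da6533aed1379d7696906c0975db4828aed5333d76cd5bebb4e7e15da74a3aed7bc25764c69ebb2bb0d31b5c8caec95715765c9bebb19e035d942ae4c7a15153fd0a9adbedbcf42b46aba159cb550abad26856e89f42b26a4a159353487268124d64d424ea8deb9352830c9ac871e4d65d5526a99a6935,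
  nat_lit 0x87f5b55c3dbdaac685ad56d5631a36ab2233b55954b61d84d564ecc6ab554735589e85aadab1227a27a73d4221609e89e90090cc5627a378a13d2bf089e9ea184f4881313969477f77f76dedbfb9ad2a1f08fee44017f77f750f0cacb5fdcbcd8fee34627f77f353fbbf0c1fde4e86fef2b666bf95b69463aa2e56df5452b6d7e795b29054adbdac256db1472b6ea867277273baa3aa285add502a712c2a754c296baa3b085d521cdcea8e323754961761a4db06584a39d2c2e00a96196164e75558e586a2092c2f1829616ac3cb0d55b91c51c493047fc647147108e8374851c445568e27fc8471a486238b56111c51b8ed58dcee6ac6ac59e5b560922d8604d5983ad6ac46e2b565b49e48248144cce8429209202af84901ada563c9240728d9205f04490170ba4812d9f240536a9207cb849058c8e481e4445768c027917916422bc89a5707988f22f2258ff8ff43c8cae1de46ca9af22d86e7917964bc8c5b0de462d9a756e5c88b68636c5b59c1e2da2d8443b16ca3ad8b64cb312f8a2d96b2116d67058b672e345b1462e2d897cc8acba8425f25f2c8d48d2097d158e4be576d25f606712fb042497de11e4bee3f025f1b6192fb52b46d86d92a8836c613303b18db2ce38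6d8770236c26671b627380db01a986d84cc40464687133133311a262884cc8756266b56e13368280998f48c4ce1ecd6968b2387b87b62b413aba1eed2cf0f6c28687b87b3b0a46e861ec7a590f6efcf87b3f9243dc6ea97d166c31bac5448dd2ba846ea102e376708ed68d6869c28db235a35a3a945ad1228244ab6b47ae4b5a23a09ad0da8a44a44a32d16de69129b51c894894511044aa22c201111296638894111444a281022549379129860c896a21b84d6604a88a883543d202ea225c0551150e7a88bc24d4454522f1d2b9d51573aca8aa8a219bd4530e82a2a14e95146bc7c036d455420aa2a94155146569a8ac1e1dfe601a2ff2ff056577f89b3dbfc2e01cb20aff1c6497f9576cbfc9643147cb216e1acdc92c8fdeb964b8644b21479e592809b2c85eee96493454b225fa65924cdf2c85eb09642eb6832175aa49e86da5d64d8a2eb6d88175b38bcbacbad943342032eb4a42175a4d9cbaea11281950e6a84a8425bed423674aa10f50f6350a8466a25424fcb6a1263575091ee9a8487e5c51c51adee29d031465a038a3ae43451c518eb7228c27dd146e9f87be4c519a5ba28eb9111473ef08a38ef2c51a881ef02f00ca214a8b9b85101d2a09b15441441026ca20eb865104868096b14427596ce2f989671,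
  nat_lit 0x70808afb842e1c5c21af6ae10e4c8adb53845cf41c22e79b6f75eccb9eb9e2601dcf3aecdf30973ce32bb9e4b115cf6082ae79b69373d38216d868d1ce0ce0b1a2270452ff382567667644e0968267050dd5382b9049c1ac009aea8416b02b010a11426eac0ac04b5f5602afd9acdb581364fac0a831d6043211f41f40b707706767cb8343e85c1aa112e0e10ceaa6cb834a375c1bd1b6e0d9f0d70725edae96442251b22324bd910a9d2a4026446445090b22258f5910722f190e6447e763224ed059113a50c897ff064499e2b225f991f9d8b44fcefce9bf77e733afbaf9df9c669afcf250e7e76a24bf3a78bdf9e62a0fcf11ee7e67ee2c47c47928ea23ca3f2626288f1f94447bf71e23d3c5711ebca988f7c57c47d664223ef40aa5d7b4ebd0b732de85e822dcebbc37a0a5c8bd0bf385e83e23ef413c477a0688c62c5c82b16414058b2ae4cc58c581c1062c42e431635a298b15556c5897f662c3d5cda2418b2d11aa1f5062b44b442bff5a2318b66a9b688ffc8b4457055a2284a6d13041d84f84e196fc2765becd1b709ea22184f392fc277a90e13ce296976725938b38ae96e9f724e296a2e715218738b57e29c52d07ce2dbec2716975138b36899c592664725f00e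49a488f24d24c6922b1c1493339b6499542124cef2f92626d0c9353288c4cc4cc68668673133136035989bd084c4ca84884883132145189d3310c4ce10d4cd4ccc607a6609c4d333993910d94ccbc01a663844533402c299917d54ccc86fa6697a2d33534390829a1732d4d025f7a6849edd3414db0db114d12f44a6897a333c4bd0a64cc0532f52f4e65029e64bd33c1e5ea0b552f4c42f97a9b924bd26c989b1af889b29b2e6214d9146f26c94e04e0509b24d874d90c7526cb3bbd36541a09b268c507612c09a303b20d184c4a68c68c813134653379a3401cd779c68c2b0a34631181a3188ad3941acc622ceed311311103e1889c1acc44c93e93e731150f5988864a8c44b9d262218703116022cd54d52180a6a8a7df2e019aa49d5cd51f7a26a99f95354cb109aa40c24d532a3943d950520eca846076542c8b32a184929e84ca922c86541243b2a26d319515c54ca8b2ef6548ab832a222ae6a66a44ad7352560849674d49bd926a5c745352c1089a940c6cd4c4d2a6a67493352c4d09a93e51cd4dea22a86a84b7a89f66bd4bd40a805ea2612694977a89f68bd47c34dea46bbef5237077a91b886908dc3dbe46e35908c2991b85f838dc78a0c6e470423708fdf1b881ca8dc6902c6e5be1a371ca5383ad56752d]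
noncomputable def A_1 : List (ℕ) := [nat_lit 0x5b57c909bf42484d30d2434d42c0cc0c75a8e062e78b0304c1981858728724606601a7033089f81956e4c0cab70d9fd5bb2cca7a5b56f6cceab7357655bc6406add97cd56f3606b662cc14d84d838f9e6c0a5ec5ec89b0b663cd8172326c2a2173607d2a9b0a5a7cd8502426c2e34b7f51ac6bfabfa25a349ab6feaf6617f51ac8bfab8d3dfd5242afea5fd37f50e423f097859f82e89cfc180d27e07e032803f07b001f81974423867e1088c3f07f169f813fb8fc14c827e08ba33f33f315421f99478478507e67e6e48f60211f98beb0fce05d67e7624a3f308e49f99f740fccad487e744a9a1f9936d12b3135425989c8e4cc48a2566254f8b31266a8f3d0cc425226629f40b31238bd988f1e0cc544a56623cf3331594b19898496cc4f78bad9ad93d32d6c92712df195b38589ad98a3856cd8d3eb65841d5b3534dad9a65356cd6c36a62b6172115b0590fad835d32a78ab62b41b5b0d12bad8c081d6c573beb6243d15b174c7ad8a47556c344844d65146d133a2d689bed7344e07ada26a682d1278ea68967c4b44cf8bda2471ccd135f85c2eafc64a2c7dbabf1fdcb5f95f887f776f0d7e61722bf22b555f969f0afc8f97d7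e2b312bf1e0051f31f2a83f8f94d0a47c90e863e5d3b71f25b794e1247caa3b23e6de511f2498e8f98ff7c7ccf894f267c445b93e2a7ff3376cf8d73b27c55dc53e279289f18c974f8c808e7c636097b37b26bfd8fe1decdecae2d6f65f5cf7b2583c83c45ecdfe9ef66ca557b32fa9bd9a5c249ed2e32a3d25994b8c027a5ca5c3c6ed2e3a2517e534b86181a5c4f7752e30096972374d4b904254236dc2410d5c3208508d104332cd821367755c55c2a7d20adb5706b0cab83df555c1c1381f548ce704894a3823826c8a9c10a0ace09e6b4705047d38232919c131bcce096d386c8338289421c149608e08a99070469ac8948b941a69f21cd34d35a93a0f8434d07479a6cd4c0d34f90a69b172634d29a61a6aba2a902900f36336213709b161664d89e5214755362d8c99b16e71cd8b60c26c7071d36348059b194834d8e0e0ed9ad982d856cccae4b661b06305bad9a6ed96cd760fb667eb2db35d825bceec0b4b49e4cbb09d725d82638aec296917612e2ebb0b717dd85129296a969984f4b428d2a5a29859860a968c2d14b46eeea5a365552d37a3e96add1143ac50fb7447d55ba5ba2e6bedd154156e824fab746d9ddba1a87708896e96022b7498345ba589b2f09ca057b924e4bdcbc26dee4622ef729ad97b8e369bdcc2655ee384205692988e102b45708,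
  nat_lit 0x3ae7a330548d199cedc3b122ee73b199639d9520dced7b08e762c8173b484839d95a25ceceb862ca75cc5a03ae12f61d714609244475c30483ae08269d7589a8eb8aa1275c2b6f3ae46b19d75de166f134457793fcdbbcbbc6543dde2edd2ef134bf778fb71bbc1c2541abaef26f11778f705bbcc130bf46098eb2b04dd481826ba83c135521e1a3f04eea618272ba3c1395d64769470e57657454a0d86995dc1174aeb5e3257696e12bb510595dc113481608958f98f918232047c116375608d583f0461f4f6728e4c87d1eb5c3e9a6aa1f560530fb3b0387d9d2843e9a5be1f4b6dd0fb3eed87db39343ed70165ceb80cce28102ae06713d705700a676b808cdecdcbae0973457054c26b8136555c1420fae06d825705058a19682d356f41639458ea6d05dd50e82e9b850c34dcd89ca0115373be129b9ec074dcad4da6e3175d3758aaa9ba888b40340246f4a016a52500a288a804a8e28e28a01a258500d61be805021c126810a97c408494f293090227e088109f6f4081116204523ad0222e876fac1e58ba8ba4307c5d29c9e2e9ed59170c8ba4390c5d30b8a2eb055d17490cf8ba9bc1d61d619a8b68b4f587586db8584a5d61d0db2b0d901f586b724ac3aae2324b2489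9b9924ac20c2086498d96b24891299258f9ec926a306495ff1b24e090dd8b04957ff8246b23c122ce8cdb8f049b5c58257eecc12b233e094e8a30498f5f8257210c1297669a24bb1a496014d2ed2ec78059765cbd94e365da6a972ed59a497697a7cbb4929e5d8a8152ed4909976a16628228212f5d410a6b874a2504504118b2821cd71410c78a78a7504bc05a8206729410d060a094964504a4b6b379819692e92d95574963671b296d25d1f8692cc0cf49753afa4ba108525d249a92e5cda6ae53c297329b34b9cb993000f3972e7388197329b44b9e06325ce55d32e66b2a973abf7cb9c289a6f220050a30a2e1d18512c70470221466f0f0a2938c8511d35428bf426145a41f0a2d790851a1b2428b4d8aabaab8d84d84c7aae3505557558beabaac2155d6bac860b5d2c0544ca6d76261d6ba832cb5d4610daec0522d75d0216bb120fb5d6272daed90b9cd5cd462c4e6ae8787f4639ab5c29cd5d2c6e6a4aa674b74b633e3a5855d1d2c82d4e96a82d55173a5ca5b1d2e5c42e964aa874b97f83a5beb15d2d519cfa6fa6398a7ff6be9d3ba1f4de9cefa6ae097d37d310c9d5809f4e3254fa6f4907d37a72be9d3b99f4d5458fa7642b7d3ab03541e0e2eac2a0cf56154caab03511d58490b89aa484e698c7c1921,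
  nat_lit 0x8892b8a2070a2262254b6b11296f28477444bf8b2224d2c3112e288889a627c44bc5162247bd50a63c8d1ef1ef41fa0f79c919045c3deaaca1ef14008f7b3f107bc78e03de7e851ef24630f781e307bcdb563df0f25be187935ee90cb21e6b9dd0f35a1087987964e8c85b61e68a090f377e38791e8143cdf0a21e6f74f0f3104a879b5d4c3cc11146e6bcdd044a1a58228224286cbf2e08acbd90453c6a8225447c1141139c5d38c904437288222734c112ed2d5e0359a3729b701b91b939288dcacdd86e590482c031b951008dcc11a86e40d523724a261b93b06b771d832704ec041067605694b1e11d834a20ec0fa58760450a3b0b2081d841090ec207436dea9ee81d81d42cfc10a207607589cb03a436381d2c10c0e9967db7c903adbeb6dc6df0d3636fb052db7d07aa468a6df6b9836f9b7bdb7c8c9cdbe7aa56df4f9134a34a10a61a50e528d28e13769454aeb4a3e14c74d8d28cb81694637734a14a19a518dc67d115eb3e886b31f41f405b74fa0f0d651ad3e836379f41f428a46c81c7d0118c3e83f281f40ef28fa2ae0a7d0d2a63f23f20ca09f90a575abd67e4d2a83f25d269f9212b8fc823947e52e093f269181f955288d26b8d154b5c66aa5aa523fe5f232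a94d21554b8689aa59e02552b3726782781ccb13c01adb2d85cf033bb278209033c1688f9e0a6a34f0333944aa9a18ccedc026673167333b33aa6fa3b42cce254866726453339b84199cc51ecce628e643314293298a18d1250846284ca8314344398a5352cc501bd46286b2f314a63118918909ffcc48a2526ca431212941893ff34c4a97dc624382a3129fe49891ac3cc48c860624620d60131072db53128c4297c4620b6b03103496188187aca60849461f3ee930f40c81879a6b8c3c335aa0543eb502502432d2813d94940a124aa043984149728145d8d40aa6d8a05254a50265a2a813473a7f1a3989e4d1c840768e557696a21a385402d1d1c6268e1362347165bda3901cad1c5a8668eb93634760f95bc8758cde4de411506f238eb3792307dbc8529d20ca6f219823792e1b5bc9f11cde4d9036f252a32a8a95149994a856a9000b52a26642952a89d4a8969aa541aae52a4524a951ce3d4aa23c6a548fce0d5529606a86a8806035601001aaa1a00d549d016f883540ad01ab18a473d2740c62b628a315c6df18b184ca422290c612681a30a30836cb6f248c24d044611d0b630a9add185378a8c24664c61589be309198af3a8cc21655f2223316989199e7508cc8ccb2a746650e28b8b519abf9c8cce770466,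
  nat_lit 0xc0715e860392dc701cabef7a42c075f74603d00b301e129f80f3af0c0796035e95e906a92f4889e57a49a68b4385e9484b6f4b05597a52c08bd29fa6d07da1a27e8d3853f53e849fa9e484fd5a19a7ea79993f55c0b9fa36215619b1144d8d88d3fd4a6436213641b14ff1cd8a595a6c54b4e36207851b1178bcd88f9e06c53f83362531598f86b2d4c48e14a62b7e95318028298ace914c56750b24b40859d59d515dacea52becd44b3a1e0159d7385acec4e41676c19ab3ab24559d5a032ceacfb03c03c08ad21e0c0d413f78780a2143c03c102881e05343343407800d283c045081e0c10d1141125afe08a2007c450ec0a2283024609708a303b045145a0228442f114606508a1e5a445007ca228c0a6114ae21b1157106864df875c4c38dae280f657133baeb8915d55c504e6ae280f18d7c4a0e03c760301f32c680f80f3ccb407a475603cccc6cc6780f2d86407b31aa98d98ccdbea9e366336c2331dcc8998d6c96cc69e8c6636df3b31b00b598c4a42cc6d7675b25b2335dad9309b16c9d536b64d12e49d22d9254896c88754b651bab51660d4a8b28b2cf294590238a2cd56945a528b150854588744a2cb99051611c2a8b150a845d784c54254275e12a11a2138a34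a860dc2542c2ec2a12737150b8ba8a8585a0542d4af2a120a1950c90ad9304998c98c9879a964c531f32626280f382c98258364c12283261f23d930739cc98876d64c9a933264ea88dfd0ec66fea1e537f37f1b35d5234dfc1f586fefe8137f50f39bf84528dfeadd26fe6b1037f1d031bfc8b12a92a9c5549548566582b5d52332a2a9181db54868eaaa49e94d5255cc2a926507548c2413d73d755a19eba4224f5dc6d07aed42197621ebd343cf5e07a07ae6e0b3d77dd1425cca15af5af49462d7a1c1e6bd63701b7b9af5af466e15c6d6bd1430b5ecca1daf55a14d7b09666bd9216b0db0dbead586d6c96c365117117430dafead86e0788c36dc0361b84b7b0d88bb187045d603e296311761e788ba372445e12cac3cc3c427b61e4425b0f14ae8ae90c3ccacb61e6b30b0f307a5879a954c3d4b8f61e3532a229a9b847992426a6621035307619a983ab0d4da8d46a688a835369f3b51b51b04eda8c4c20d4646a36a328fdb5199a7d4904d463f686a364a6351d63a9a8e98a0d4687ef6a343c3a1fa1fb1a910fc887e87ea37e43f321e092090fe1f4287f140c43fb17521fc4fbd0fe27cd23a82c889f91d3c4fc4f8a63227c913f13e5416513144faf2ae27c819913f242989f8897c4fc44b919222583ed1124889,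
  nat_lit 0x327547d99396a12a11064f2ba73278dc6193c6cbcc9ea0c864ed2489707de834934939f7da49b2bad24261369253c8b3f09a4a7cd0d2426ea6929702b494f999a487458d2509ee9ff84f2a488e89213ebb1909e564384f84f64ddc2786fee13d2df673e984f6ef0c27a48a213eb22109ed1cf84fb552c27ce336b21d8535915902365ac80df2d641526526895909328ac868555644d7c2b21a14a268d0a6aa06390b42b7dbda14e01ad0a27036856682342bcf39a151f56d0af3ea6851344342d501da16d85d26526433842741c99189b64c8d697264dfc193233b5499165a64c9a71f2646f26932a678410d3394daec8074cf0f44a673135d339b5a299e05154cf2165a0e761650750728c768388ec541c57657e325072b08a83aa55741d2167a0e76545075943a83ac39f41d27c1a0ebb0554aa998aa56c01d52b31ae9f59e584facfaacb727d4b84984889f59e66cfacc4127d62cc53eb73299f5c241ca44d6af091b9db84973a9c249ad2971cd689fb8c4d535a5e249adbd26cd6971a26b4b2dd35b3f909ada507cd697e8e6b6af9956d2da4ab6ab6720455b16f4a7a4556d7a48ab65fa555b4fd42ad8d5c756cbf431184e572fd252097e97e9c53cbf4c4d95fa40892fd24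a897e8ac14c1485fa6150afd5713d7e8448abf4628b60a60a560630524cb5828422ac15082760a7d343053910d8848c146e6860a3e341b79f1a44cd3f187c74b093e3b4611f184604f8d98e07c6bf8f3e359f71f19b794f8e1c11182474c8c18c171144608d81a305f699182a6ee8c12c382c50a3058917183224f8c13720c60b12346c9890ad3ec48e4374c15b12351118916ac6c48e3b062469f43120aea9891bb9083e83e115d41f5cd420fa046507c507ae24a41f37a1a0f9a54107d731c83e83cd41f1192a0fb771907d084883c84a841e41e25a220f15095078c8192ac241e40c3a0f35529079005136480270934016598c6bb90066c8a802126640169324e44e436e2e720d53d53c79c88106ce41b4ae7220c15390d5e69c8a9e74079a1aea79a44753d1de6a299c60d14ce4968a68a5139345278efa294b7e348328a5a44545355cea29ac58514c088e8a6365158b84e7ac5ab07562d62b1b06b1570a358a6c273631562cfe06b14f48758b2bb0ac58d935628dc14ff46e0c9ee8f641b81b80c0e8dc213dc6e1c27a370a6e760960dc1b1046e0ff5037006aa1b881080dc08b8c6e300937913c85bc8bc844f25e4367fef21767f790592d92d45e4524aef218a07791686fbc8c2285e440f2af2192d580f80ee649,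
  nat_lit 0xa758586bde8abe2be0768d61edaf8af85d8157c26ef2be0b6a76a68af838f757c5a9953030b896a680e2b534b765a9da9a9cedc7036a69808b5392c75a9b7a2ad4e309f6a7486bbe3be36caddf1aeb6af8d3204e162be3c021df1b8442f8ed39b7c765a270b3c21596b8d8ecb64c1765a88e9b2d7217d96c8c12cb6461299b65e291876d448c49706462461500ce5ac91872b7c8c3a63a461db4d230e5a641972d2d7fd7fa1cb5064ee5a2cac72d1f74b968b03dcb65360e5a9b6472d0f8620807c116dc3e12b721f0516933c107c0b4a03e16f201f04a8f0f801b087c068913d405d61a21a235162fa4868a8d383443d941a225d00d10f07868a1114344be900cc5f4a4ba837717d3cd88bea5b885f40cc52faa33617d1e2acbea755b466d687a33a336ad9d198aaee8cc7219466a900a33335a53b0a8cd00194674ec4a4f3ba3527d2791ee6b5d749f49e9b38a4f33d23d21e93ce71949e7748a4f3dd6d27c004293e9ddf49e60a1a4f3f14d371f8a083cfc4e11c382c3f183059f89ff08fc56c427e28be33f132381f891038fc4385a7e241e53f108e31f88de198118102228c08422060419fb3022d8618118bb6c2cf6041bc43022bca9811e1e0c092f056048472bc3bc38e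269e1dc3f6f0e15cc787235523d2de1dfd58f0f08e778752e53c3d2e25e1da960f0eb5c67878dd4c06c06a1a95d4d101b01a575380d3352af39203561c301ac0cc80d43114068d6ba036531501abc3080d5ae7c06c058966602ca4d1016646c3df2405a320a02c7c970164d0880b46c3c058d63602ccd5d0164aaa80baba4c05a28be02ccd21017140380b8a029fb1fb31618fd911404b6c3f634d49fb04784fda26a07ec420f3f67f571fb10934fda21cec0310e470486a6443b18ae21c7d5510ee0418876bd8443b009a21e1a91685684586a64b343543510d021a8ec974b8186a630643543daa1a9869f0d43c0486a61a108bb0d147387390c346a0d61a87a730d3bf298697f9ec3426e540f40f409ba07b425103d21cc81e46dc5776207d7c8903e4f9a81f0a5040f8f60a07c7b0de5efdc71ed1ecb7e88f673f0c7b31b8e3d94f371ec9a298f62926126223daf6df1ed69c58f68fa712647d0ae1592551f57fcf8fab90647d4832e3eaff978257fce593bfe15c331f2affa6ac77fd64ce6faa5e637d20319be9be8e80d290d6fa3665b7d5ba11be854c4df4620a6fa94a4b7d52f04c42748d4bd4bc49d75ff752f320b297942434bd3a48a5e3e4552f31f4297aac0b4bc64e206e32734ae84708c9cc9dd15a64ec330,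
  nat_lit 0x735556724b26b38db0559c7e83ace61785673fabeb39e19d59d134dace3f02d670ee9c4c84c98c2e26441e313228f90991877408c42643e481322a0609932c244c99f14264b05013267e78992c2904cada8b2316d464f174b75b55b531756da96e2aefadb6a4f615b53a03edaa46116d49e27b6a86f55b523c26da93d8d08308274f64f66abf0db2d3d93d881ce9eca0cc4f64d97a7b14385be449ecf0cf4f60e1427b364913d9e188b0af0c12ec7863ab63c321726c854f0c9f497868900bc34153de19724af0cad867869405c37c37be4d61bcb6510de6bf77e824378f10a1bee8870df5a0f86fb284437dfb9e1bd01550de630d2392390c3811c8811c8e4b0cc472c46b6d0191cc33208e4999847211e92396c8791c9d6c08e5c4c8472e26e249bd0738992729c4dc4d9598e26715c92f63898c011c4ec5e0e26de4f71389f4b898ae19c4d6d5c1ee1ee851b51b287baa7983dc3dc6b641ef05b60f73aa787ba96cd1b021ee128c0f701b107ba32283dc9aa01ee93c30f76480e09db19d921920e244c90aab15fe732443829921a448c906a10648b632b2409119921bf58c915e62666a9e1b33333324f4e842cccccc81af6665b49b331d7f1f712ccc6df06666b77333443b5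9986bcacccbf866667bf25fcac78afe6fe4b184edebbf98c245fcba1bafe6be217f3216e53b53b29d02a1094ed4ec4622a7692e753b32a12a11d4ee3606a76740853b8d872a3a960a3e23e046911f06a28a283c7c5738e3e133d91f0498b8f88dc547c46c3e3e0cf891f152a433e33e085e54c34cf81cc267c188933e762319f50738b98b9874145cc4a092e6496f97314b8419045cd416b2e62e1417303624b98e6a05cc968f2e6a2835bb5bb1e8a1f8d96ec990bb76b766d6d4ee92dda42c76ed6a6fb76a5a55bb24226dda2f4f53d06278bd40f645ec5eb49aa2f4b53ce5428bd231545ede4862f6048717b06258bd1602b9539535195ca9930ee54816072a2bf73f721caa2c92e5536aa72aaff83953adbdca8dd88e5508261e21c97420c20ad72d4b5b082b5ab8415c22420ae4be10610e10823c478413b15420a3c149811e0c21105ae4784785855956351e175968f0a6c3478459123c220bd1e07ea08f04c084781083a3c328251e155caed8aae60dd0dd3aabd959155ebbd8aaeed885573996aabbbebd55eca82aaf2b2177d1782bbe9e019df5df5c632efa17ea77d8270596addf4f010efa2f0777d2ac4bbed8686f0d65c361b1225b0d9863586d868d5e2c35112361aa41b7386586cc322c36535d61a73eab0d,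
  nat_lit 0x2722b993552545545510c2a7ea51551561c728aadc3975c6a2a1a2151589c7a8ac30954549e8e206206d0ef10361990819099c40ca7b6206627a5d81081aeb8440cf6d0206bb4a1035c5788180e1040ef1d49ccd0e1bc71346b43d52b1a1e8c4cd0ed0e7a3168712173439ad86d84ed0f308b6874385343d9825a1eb35ed0f09d06876e02343d42964c98c0750a9cada85a851260542998d1b30550ac687a859324542aef2ea14ca1550a80e9a8588e7d42c40c2a15fec950b56a9980980721fcc00978a60108e73009bf32a144c03068a602d71f3008e659802a134c0296b260202173011c47b5cb5c5b0a5ae2986ed71ab5b6b856a5b5c347120b12d7227db6b8eee1b5c8b815ae352a2d72f4156b908efb5c6a81dae2052c3150290b00d50840a40a2b545aba902837c4814128140a80c1a052bf4102a0f9e814404e40a7866a052c01502965131f0b28679d79d3aca245896506698b297fee5941d96aca3c841651c802b28e4053481cd1b90390311d5c816e24e4036451bc73901a421c805954e41117072015e7b9038a15c821dcc4084087877bf5543bc3bbd64a1de0419158c8773eb5c3b924921dc84930ef7a825c439972e22e23a5fd7110322b88a0fb45042e21f585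7114c48b88aa2f5c44ef82e20c895711140cb892fcc5c47a45ae23de05142429a8a16d2a4500a24a282283cee51420a548a0ca3a450592b5660d140c7c88a10922450190422854ba685aa5d71fcd8a4a9758f754bdfe36a5ccf9752f59a1a9747064fb95e091c11c04d8a8e05b71b714238055391c165d48e0f70f470a5d1a38606126b3000b3593581c1235c6cd658e3a6b2dc57358596c9ac62d0cd66001e6b0e09535960499acb747cd6279426b0b90d3590d05ad98686d2f4342a1a477850d0b66b8682140c3456ca21a080d50d11df086840d7c3456d921a103514b74b6540db1a3206a06ae3810347204386240d9485a0684b05036c69081b288940d0945206993bd035a3ca800522568f68f4148d62b9a3da554d1ed1ec85768f589b3f835a3d01c6d1eb7c268f6928347a0021a3e698afbafba89a69a609ec4d320f1a699a59334cec269a615e1c68aa699004934d344f9a63c62cd31e432698f21ccd566c83c808739e41e436278f20566a790a8e908d11e43fda8f20ff08791064f3c876681e404394f22cd8c79166ec3c887f340dc0d996b96b8f037036a3d481b0a98b8eb606d74d9037132481b24b0c0dc3fa206c6d5d036eaca81b753840d8d93e06d6fc7036b7e6aceace6352d6720fc2b38eb7ecfccace,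
  nat_lit 0x118331036e958818810dbac407118620214f492b18828052c41088a620a1f83102a791882b00b17881268bc8bc0911c5e22b02f51d179178a8b38376c5e612062f1a6d917881288bc4017c5e4b48e2f25a4869d812696996944134b49f024a49d2d3506d96976664b4cb0ae5a4a4212d334cf9696d154b4c13165a5209aaf29048ac748271c3b54852097c90904b14a4820ae12411d51120a176090558e54825f23241139312087e569047ec76a96a951a5354b84f1aa4b182d5263f680d2354ae031aa5e120d5318286a91a67354b893daa5e246d525de67896046bc49d505e25e258b8af1216b47894abc3c490f8a0a98f125de878917b83c48eabde256b4af122f6978517b097e0bd8de105eccb543d4317b78768bd881ac5ede1982f605a117b5aa38bda7ba45ec6da02f637c617b5aa311e11e1d6a9b104b54b54a5fc9806ad50ea056aa10d8b541e4e5aa13382d52d6bd6a92f06b54a3261420d1728ca8cacf8d4660224a32f5b28496a8c897ad4644708a32bd025195b61a8c8a11d4649b94a335441bb0aa22333b2432a896d4d54554475b5aa219a235b36a8aabe15451beaaa2aaf728ed57ab072abcb2426e03aaf92145579a832abde29555f5c70aaf8486338c242e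756120b67b0906305a8c24245248e122ce0509167a88483053c242d92a12309215195183330a8c760ad462dba6a3194a16d0fa8c7850d463c29e055e15378cf0af54478582bc3c2929d66e98f0b19eb78517e0bc2d3fb9e154b9af0b02a67858cf0cf72d31633e33d89bf19e85a68cf292b12b2233cf59319f7f8a8cfb458467aed3e33c8b8919eb2050f859065fd2c8258f1641b7f8e52459059032a82a81d642fed8b201f085908b582c82858564214c74c94c8b312a646533d3214fca990c9f29f27a64a0215321f922991825b4c9570fa6477c0d325763ada25b8d6d16d0796eb684c10db42abbada0689d3c4db688220db4612b2da2925acbccbc712865e51d05ba39978e0d4cbc5ca265eb3d232f1703d978d720cbc250665e9c6632f59ea6a7e078d53f53e4921a9f0dc354f9e078f59553f5c50a9f343754fb2b36a7cf58251e7ac50893d6307e87e9cf5823c67ac7acb1b63d66994935acf594c427ac11283d645781eb081bcf5842887ac70ad53b07e09c29c286b78e150ee4ee4538595731c29c29256deb5670b2ae8385a1051c2d4c40e16b98870b858bae6ae60d77d730ea5ecb535cd280eae6c290d733dc2ab9a3e0b5cce64c1647324139462a1cc9cc96eb0e64a7847322c62e0f89cc8ad46e64baee732,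
  nat_lit 0xaf319cd8be98e6ce6c664c7361abe39b58401cdba9dc2292736f00139b17d41cda7194e6d529d0c4a94196d54a3bcaaa528fed529369c1b6154a79022a538841529e54ca94908c54aa3f5aa55911af2ac89964f644b7a6b221297d9115856ad856451203b2261545915e51ec894b536454ea4b22a4c3b4b34b1a9304e04d2cd2ce254696512b43e21a5af494d2d7b84696c037b4b43e19a5a08d8d2d2aeb6969dc260736f0b03b03933af81c560e60e46074e9bb03a8e6181d1ea3c0e24c1c7addd863d63d42b531eac7977b24c7abd8ba3d656591eafb8a8f5bec7c7aa70963d61ccb7d97d845937db65f62a60afb21ccf7d9196bbeca5155f63dba6fb2eb1f7d912ae78878870bdbc420871e21503af109a7f32c43c41fe85e2100c4f11698478859c83c410e15e20cb0cf10afcc78841a5bc44be3900d00d48321ea2403ad05a01ac53100c24d4806432f40385a2201a71a6eeeeec528377644d0b795ddddc8beeeddc49776ee2c1752fb3bb8bb8b60624058ee2ee21877771510dba385dc52e9eee25f657715893bdbbdb996269bc4f6ef6e25477b76bda3db920906296f6e77ac7b71ae4bdbbd941eddf51ef6f4fe47b74846c88c8886e9a444468b22309179112df8c88b2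316ffc72237e289113c36488d6d2a4449713222e23091171c2488baf32fc6fc5cf3b7e3079cbf152aadf8a6ea955c37e30ce3bf199e85f8be83afc6b54f5a35a22370ad1356ab80b6b46be855a2d76ead136e5568ca142b45ae9f5a31a03ad13610c7f1b0ae750d84e9eeb9cb3615ad51b0d2ba4d841e026c2bf903618bd71b0b0db4d853dcc6c2b9c5ae243d1ae72e709275738f5c4b9c627b27b3ae7290ad7383f54b9c22505ce11b22e73019446c46c604ec4cd11b0cc708db0f2c46d8898236c1e111b603388db0ba846d845223692cf11b01f808d9109846d6218c94b1055d6588331b31b1d6207888b10ff825886a262c42eb216203a1ab1024305885e07ac417605620df9c87a87a86b643d522721ea427e0b4287a1fe243d26a7a1e88f410f5ad8a87a876c43d2b35a1ec9286e4ae49d84972459c5b9233de5aa12e4a6bd77249649b92b6915c94e2a2e49ef0f72583aeb924ad85c958e8ee4ac75080d8688b1db1d757658eb521ac754e513222b1d4062d8ee1a1ac76644af21322673b77c5cc8b440a645e411322e7679913aa6cc8ccf3a6468a15322570999179d7cc895ac264618873223bc986286e4431431229ba189c5490c42ad995c54313100a1891a9f0c47e70862a6e2c314371a18876190c485eb862,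
  nat_lit 0xb946ab34972ee530a477297c48b949b355ca297a6e52eb1d7c57c4c51cbe27481df1170bf07897c4ea83be27b515f1617a2f894d537c4890e37f44811a9a2414d95120cff4ec224487fe1a241b2a1121fe8e8906b4c44841e5a24050a9122d992890de6f448139222427e966113f4d2e52e474fd7a5127ea7eaab58c55a9fab2014fd88d627ecc2213f590dc9fa678a4fd64e827ec04bd3f433469fb6c02bf2b60331321212d82d80b6c76c68b606263db028b3ad81c7d56c16749b606087db020fc2d819b076c0df83a80a800d9b27ab6a0272175016649a80a8012ab5401a292290f500646aa808a42435c5206c2a29110a441ea8a49f84c52429862918b5b1490a458a42e633b83b80efe5dc19722682a7701752bb83b8205d6f1d8ee05cc87703460bb83dfb2e8ee8daea17470bc7ba3325d6160ae8ef3a17469747ba3a0f55d1ad1a6e8ef38509d79c6771bf515e75e715d5dd5d179cee27bceb4665e729daef3aa5e179ceaeba6d7a94babbabb12d1d5c42d93f8a7579f713abd4a0dd5ebb5ceaf7e058fa8fa45f85f827045b0db7e17e03b805520df84b09eb76b74381f5ba6961add6550d6eaf03595475bb3604addc1c6d6ebee3ab74de435bacaac9f9a26832ad1395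95595496a2caaeaab6551092b2a96adeadd0cab44e76552e7632ab4529955001744e5ee7a2768d5513d13acf1536c544e73c1a274021d13c6e3a89ee15b44e5ee5a271e02b45b4585f5da2d52a6a1e468b59f5b4589ab1a2c780ed169e8d68b43b7345c293da2eec82d169944bb24c82dd95d9124393419764d8cbbb2a160dd92641eecab155764f2a9bb28f67dd9361c2eca3ecd76449cb9049045d04c821d60641211f520829d635154821cf8e413039d2091f6d90458134825db85dd9598b76f76e48fbbb762655dbaa332ede11eb76e3a396c475dbddab2edd598f76f470abb7b0935dbca48ac26524af7f292684572d14a4bdfa2526114f29369ec9497764ca4ca2be526402129381af7dd7df7606cd117035830d81b81a4ab7c0d0e01e06a268aad4381ac188c0da2d6606e05bf03702d12d4fe0ec0bc0b1b7d6059675f02cd2d58042c0b6010e05ceba302e80998170d4ac0b9677e05d573659e59c4c372ce5c07967314834b0a59f01d12ce5207967b3664b3b0d2a59f025f2cf074bb1b7e1458ddcc16c6ec6d1731636e9a59a7558ddf58ac6eb283636f1c3b1bb19858dda53ec6ef09d636fc26b1b9a73374b749e69dfccd34f34e77f39a76d444d392858d89934f2df09a79a37cd3a011269ce6d341760cb39b,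
  nat_lit 0x9e06a6ba6baaf0135db1569aeb0c34d7131126b9cd6135d27bc9af050f0e43a6bb4c155cd5cd0d30ae6711a1230ab9c20a95ce7612ae73a905734f47ab9b25b55cc468cae6ae465655a972b92b93afcd5c96762ae4557857842b93bd2d5ca9b44ae57b4f5725653ab92d5255c950102ff1f0e54017f2aa02a0117a550031996141540afc5aa006cb15007652a8144ea5405477aa017411500cf8c5d05d011792e874939cc24ba1f95c5d0ee012e833e417403228ba02f205d0a84f2e80c1297444b1a642640f12d12cb7e58966dc844b423e23ed712d5b038961fc144b4702a259e41312c3f6567f67f0bc833f8d6219fd8308266367f3896b3faf0b99fc97d8cff0be167f1fb3b3f8b2299fc57a0cfec48667fbfe2c2fc2fbb0b217d68df0bed60e85f45ff42fa584217cae4ce4c885f85a5c2fced9217d719f0be3ae985f7263dee0afadc99c9884a8e4cf5b8726693c39316f717a08e4c2c8272694e539339925c985fdcf24f24173293a2bc93c90cbcec29af24fb6b7925f063c949d1de4a4cd4f2430297924a17bc925fc1e492a8cf2497685f04bb52d15d3352ed7c0a9769763b974bb0ba4dc0312ec2f1c976db0a4bb772825dc93bd2ed6e1c95ee52b5b85b812548b289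6e03e06b70e86c5b8b3952dc2f7116e17b90992bdc7bed9d35af750ca97b97382bdc95305ee5e87af72a3b97b8e79abdc99255eebed32f73119a87e87cec46c46d62c97a6311b11b8a6988c2a1ec4701186233ab7cd38588c4716c46344a6234714b11cd54188d5bccc46aba10e49491aaeaaeb67a9575926eaba50df0df42aecfc85575cf12abb066a55d6897aaed1b11574becd46d46c130f3a55d1b51b3a1d9eb1346d36cea3655c651b284068d8bed146c7450a3635d551b3ab968da23853217b6b9905e96cc853c3a641a41532056a9990a287cc83f442642b407320ee6dbbd1756bb9b7ca9dcc5e12ee6ee628417737aa0bb9c0965dcd688d1ac3773bb323b9a2589dcd7c4eee73dc94f8aa4327c27c0640833169f04ac14f8aa4427c316413e141989f09d0a4f837f65631b19ab1ab1a150158c34e562a6d635168ab1aae2158c6c68ac66a855634b6a6b1b0d0f45d580ba2ea2e2558517366e28b8adf545c6c34bbc251717b0a8b9be9145d1dada2e8640d170f5a215215073590a8b63ec0d1c2a2d9b6152ac430a8df4f8545b5542a483261507acd0a90ace358856314c42b0a486158a7d33562856a6a1c2b1f4a2158a60f0ac62ac85644d542b2243e15a97e10ac3a64856be235ca5ca053aeded9729728e724,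
  nat_lit 0xb5b16185c8b70c2745d8611881c30af44493bb83abd249cb5e95e81bd79ea5d7a1c706bd1cd1f5e9498caf45c44d7a54eaabd1cd042c4e6867cc9ce139a2a8a5cd1cd177f8e684b7bbed5b9a3e61dcd2a61ee696086734b036dfcd8189f5e944560761f0b039492581d9c36c0ecd57606734cb0395f636f35e1257e95cd2bf2be142f95f55d64af92cddfc192bf4ae895f6b954afd28c257ec91f2be51c595f9b86d924eaa2c92c90541764859d5b2431e95250ec921449649278bb247ef65921e91ec9215dd649470fb244932b383382124eefc2ce131ce67066d65044e1b19b63414cdb6de966d8210b36cb58d9b5421ecda5a6d66d3415d4e54e4285aa70b3ff74e2a9c96f254e4b642a727fd15392d859c62fa3cb64b60a8c65b1d56d2d862fa29124b652a0e5b23d852d8cdeb96c9c644b6203ba5b139552d978e996ca0f84b65a3ae292d1e103b68e5a676b925a3dd58ad1cfa0768f4ce8b4759c55a3cfaa6d1e5acb45f35a1a2f8683517d179e1a28bc27d145e896ba2f73f9d17aaf6e8be14b745e49a12f66517d14c28be70c945f386698b99014e1ce1a9c6670e17533863ae42d06ce1d6db270cd40338731679c3c1c34e1a012e62cac8b31731682b298b1d76258a6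62cad4531695ad98bc1d7cc5bf98e62e5b8ed64d64d9b16b2241bb591a5b97944d64280b6b22730b593f9b1ac9ec52d64d6ea6b22fc835935a3dac88fc8d656c4dbdf61a35efdefa145af7cec357beb77f5d275efa8d0ef7dadc97bf6dc1bdfb4285efb02bef7d74d57bf2d49bdf5162defa7736bbd3b8c45645674eebce52772770a2293b88b1348424ee0cb5a7753fb13b83bd29dcb46f4ee77a22770659435432cc0589ded0cb4eb20659730832ce65e1961aa80cb02c38658ac2432e87daa24ae83512bdc12892890a079448cd34d34751252162894ea2d4496154a2570c951251f82892888af6d445cae6a22686b4d72288c32894461acea22528e5111c95288d0a25445a2dea22aeb05116931a889758943a2bdaa1ca1cab7d50e4c58552b943a5f42a1cae9050e42562870e7ad4391bdaa197b2c50c50c392428632f61eb5ca1849a350cb1e0a864f8c14311c54a18fe8950c248328628f953e1809aa3f7c6251f51f153428f9d3e147cc270270751f0d2628fc9f2d47c39d4a3f3ac951f5c8828faba99a56751aaeafa025758ad4abaaba89b0d5d4a9f29f285756953abaac0295d503e0aead3035759d669749748e84cba594285d2a4b92e930e8ab208ba419185d23a272e98db7174a883cba4d60c9af148b4d7,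
  nat_lit 0x4044280c90b14043356a023eca5018bc4a809a0414058688a025a449c966d79691690c190b4993985a4a9b59c80969030b4b4a739c5a5372a2d29cf81694e598b4a35d14774762677a3b2c6bd1d9ab7aee854775bc7a3bb7f5d1dd68aa8ed9d53477426fa3baa1851dce79654273d359b39e2a679cf716a4e7b6b78bb4939e74429cf95044e7cdeae73eead339f66109cfc271ce7d118ea7288d52457ba2a232f05d11ca83688e4f1d447542fa23a548511a6c8688ed05d1a08867b4174255a0da08ada6d05ed096830741b413221da0b247da20768330e2b4163145a0d189e63e63db2f331e434698f2a164c79a8c5394531ea4cb98f42c44c79a9b263cd99331ed48a98f3407cc7d5a1263d8ddb569568c6bdab45606d5a0e1ada4dd569282cab46ab555a60542ad21a9f5691a25ab460346053689f029f753815814261ec0a2b01e0519b45a549814caecc0a69876052ff4302a2fdc44d17e684e6771c5fc271e2feabd917ec9eb8bf242545fcd9262fe8c5f17ed7d08bfae5245fd72b1aeab94ec370feaae59b84d72c4006b95af5f5cadbeeae561b3572d550568aaa867c77f41aaa5b62d55555216daaa99540698eaaa418555543f26aa953e1554cb23aaaac34b2cb2c86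f01964cd32c3836591276b2cb25ad9659e18cb27dc16596993b2c8eea9964495ecb2c410659622332ccf599449448f3d69b2c9eb2da4cf5cf5c27827ade9f09f4b9ebc2614f5bae867ad889b3d66fa843b37d39b3c55b0df484546fb5b2937d62219be905c0df4465c6fa876537d36731be9be36768df0acbc6f862edae069be5132cdf2a7486f8176237cade19be173bcdf141206f8cbc837c2ed39be061a8df0cf926f87ae65d95d942d92ec9cf5d7647354a0ae5d9a8f6aec9a22d7656d46bb2f1815d9a9f82ec881a97667912bb2b6455d9bf53d78d789e9096dd75e350eaaf15050d78c7c8abc550875e2a7efaf1af06d78dfa96bc6908d5e2a0a33ef13f2a82a82a04fd414a6546548505b597282877a9414d0e0a0b4c8350513e319554388ca8ca954a0654364360a699535084caa085865427c832a69c719503728ca8c4e0654700f32a20b5bfd105b153c82d0528082a20b8a3490588c0c82cc3e04160e8e20b8a4690594a1482ebb8b64b0e6db25b251db75928a756c94879364a584588a1592c22a2c96bb8f64b694cb254285d92c743ec960ea164b3e2342842835455451d0a10a0e458176b4282e3521404ca50a2cc028508182428a417214116190a30c151598607bf9c302dfcc7baf0c2bd078617464c30,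
  nat_lit 0xa9c42cf0a01d678bfcaa14ee2950a50a0bbe285244b9429ece0a1439628486a855600d42833d6a15744150a2ff3a8517d3d42a83cca1508c66b98466ada3df8a118740308c6c308463d32423425b61195cd908d3aa98461cd542335c9e118f4cad772f643d33d331eb9eb9cf4cf4d52c1682d3d361809e984430f4d72c47a6d7683d322371e98d8a8f4dac207a66d8f3d39fb35134fd94bc5f7493f73c429fb96d5cfd978a27ee898f3f679cd9fb35854fdd81a67eeaddf3f73fd09fbbd21cfdcfe8adf67f4acc151e29fd8ec1cfeb30227f6f4993fa69cb9fd31454fed06a67f65cdf3fb37d09fd5fb24feafd9e7ea9618bf727875fb5fb4889181ad7eee012bf707a25fb1130afdc6bb57ee4f0abf73f465fbb164519d8b1e3aec594f7f62d09e5b1e658b54f2ac5a35c762cf78eb1665d6d8b51996c5a3acd62cba435b46bb22da0972d6d16d13080b68f8bd5b4335bb5b9d6d05b04b68aeac5b40f772da26b19af87e0c9ac9ac35fe4d65adaa6b357f540d69ac18634d6501826b0fc21359af8e9ac8e8a4d64014a6b2008a3ae3ad93ff1d6324a95e6c75dc9ba3ae7d191d6af018eba6d4c75db4423ae708d1d751879629625592cb114bf2588d51864e496228e6cb155f06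58a5c192c45f88962b7d74b1457aa58ab0612c52dcf9628745215c1d321d21d185c30e84689874821443a3879a1d1b6190e855efbaa243a1be8a1d28da10e8bde887436a543a600b6f1f00457952662c01ae85e00cee330065f9380356cac01a4c7e00e1493006ba0c9775d05b69b6945745ecb6ba128975d182c2ae8af47d741c2c2ba12ecf5d1496aae84ef4d7460b399b6d05582d82c17e7c162d2a60b1aa42e18782d4a88c16a903e0b5a03305acdd782ce929c169ce860b3379305a2e8b681680d3d2b401e13da03e586d01734d3dc3b408ba3da01ea2ad01fd9319d19c222e4a33c674671928df9c919cfe8d8ce4df64675588a339eb5519cfa708ce9991c67452a9aa0830314b5e0a8a58a539f719132296b0c514aa9838a53766c529f71a295658b260fd2559659609ef90f8565a0fdab2cbc4459679062cb2e1ad6589314b2c48c959693042cb3f49d659fa4ceeb57027e97753bf4bf4b1fb5fa56336fd29bdb7e982ab3f4bde6c785afd2ab647e91e34bf4b018686a86905fb4aeca1a2eb5d0d2b10a86aafc7435090fa1a670750d17e968699c075830ae8ac1c243d60d60ae68eb055074a022ac135d5d60b57aab059743583480eac19636d60e1216b0615cd582a02e51a5012a020670d405404ce02e027501,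
  nat_lit 0x803599251d28c929a92648352f324333819213590c91ac4227ed6235916b12a01b589a8560606d631e6d6b15507358ddeadac49398d62d4296b1a153b58a01a1ac562dd030b16340358b2125ac59afd83c04b177ec758b94a62c5dfbad62e23d2b17166f58b67382c5de2864063d4b78b78a48fabc57617de2a698ef14b78d78c8bc58f53de2ce9b2f16e01778b6130bc5a1225e2d091d57684916317faca12c0e5d093d326848ba454256ae1a1239e85092f43a84ac05b4256305a1255d350953090c52984a620a0c4a61bbc1530b822e984c4114c35450a6185e0d308eba217a17977ff62eb85e2064c2f1820617876c70bd25ef85e2046c2f0eb9a17a29dd40d14e5b065721c539cf0a29e29c461f14e9c2e8a7341fc1f9e29e66c914f60c88a720c7453bc232d91e8176c8bd8ab645810db22d50ed919fe16c9116fb6480d75b2353b6d923c1d4af1e0c50a8f014f1c7819aca23c51e117838f06b23c784f9b23c22f551e049a98f0a337c7837c923c22114b1d108c21361064420f88a2110443108fde388440684421593e2111b9d1091dcd8844833caadcb2655655570fd2aa7ac88ec5caadacaa5554b852ab6ec19558ee1caadb2c2556d55f2aa516e9554832caad641a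55474869f23a478521d26c298e939a600e183a4d6eb1d261a18e90f78474878203a426ef1d21e450e93ef2474a148c3a4ef2db8c4a65dc65c605cba930d719718261ab8c3d265c61a32e32cf719090ab8c77a4dc65b792e3169104581e295a422c2ad25e39969169077ecb487bc75a415fc2cf296924018b49700d5a459212d2125b96912ea0b49798cc307e52de65871af32f302eb17141bccb5325e62c6baf32e599799800abccb0e45e63f29ef32a65c67d53229dba9933b9d3e0aa6655c7532ee67a99533654cd732ea6676955329c09a9990b7d4cbfc95aadfe4cc0cace27f97f91bfcc60b5fe519dcff3034b7f91a363fcb68a5fe5818eff2d5687f97814a9c3a9ade05e042776f0261a67811bc0bd0b5e04fe1cf022f4c7817270bc08d31de06d092f02ba6f781b4b83c0bbf19e046684fc87f057e47e422f03f20d2f0791cfc8468b7e43e263f22c685f90fe0efc8ed6a7e46984bf22aa3df9078a0fc8b9267e458d619bac6b6f65634b770b1a6bbd4c022c6c9abd6361e60b1b770858dbbd3ac6b72a96362412b1b3ca348330c3a41925a520d20c415c906630c6b42241acf3520d6cd8906f0e24834017241c1bc120e621e906b3c5a9c59e30a05fb056795584b3cbf6d59e9501acf4e111678bb56b3c1e0a59e,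
  nat_lit 0xa2a4cfd51529f23005f455746ea2a9086d156011a8aa41cd8478464ba3ba25e11e11b9b8e3493846e361c239074611e104308e40df8474865c237242e1061021c93080b28d6f82c20c205df861012f3a855784128c8c20be94e1060e2b081b161840b44753d53d5aed29e9cc714f5e9bea7a45599975a9e9c2a94f49ad2a7b1ae253d3870a9ea77bd4f6261aa7ab44553d31c329eaa91e65e65d294457839979972d1d4cb9954b044532f40cb9977d50ccbd1d2265d3a1332f19d09974f124cbdf92a3563542c911aa3acc8d534674cf8e3559a571aa772c8d56de0c6ac671e354ccd31ab474f8d5a77846a91c9a356fa434097d2d6cc99f5df4bc526fa707e17d31a4fbe986d25f4d70aa0fab84f4dd3baaae1ae165692a332b84df435c36af0ae18a77d70c3bbab866e9b5c34dc6ae13b2618f3d50cec820cc76476435723b273ae9d909cb4259276561ae3b208341d918dc0ec9ea5e7649dc53b27372a4439b8a2adcdcd6b76b6773772d739bb9bac589cddf61a8fcb737488439bc4625cdebb54e6e716f73733b49c59c588a60e2c95d271653c238b3577c1110e2cf0907175de738b52969c58b038e2e6ad47174f4f38b31b21da45f88ed0ed1c4a276883173b4510a9da16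1b61b5076884ce3b4b2551da59204ed1ea9e76885303b431729da1d630ed020d6768eeae3ac3ac38c01d60c608eb1c8d6758a1c33ac4d8dd8d04eb287c47587dcf3ac46a81d60c018eb020987584d478a98a96542c54acc3e2a5531b152626a26d1454906aa2a6f64315343e38a954f7c54a22ba2a6d1db15308c73a73a75a7d1d388208e9de9ee11043a7ad371d3a228ce9d7e9674f01ef3a778951d39ada4e9e118a74f5a4a3d03d010441e8160c0f40cb5718243d00c659e841820f416ace7a0f12d3d041871e8569a4f41e2207a03f433d0ad36d555698cdbeb4e153d5a6f81dbf81569b320eb4d991c66ccc88a8066454d38e92199070d4cc8c602664a5b0b32348bd990d8e0cc950056641d23332094b199108d6cc8fda151e0d22a8f33399479478746268ce51eb445a8f525a547a9504a3ccce851e0d23a8f19929478d11ea3ccef051eaaf1a8f55686fe6ab5a7a955e8aad71d5556b2606ab6d10955b54b0aadaaf3556db132ab6b35755b38e942e9c714f34e3b67121a0938e5a2b9c798f14e3cd0b671d571338f582f9c79c284e39750e71c894e5d45d47a1613f51751753019272c65d5310e2eaa1509752cf40ba99c1e5d444a52eaa1631750d534c903146648648287232428479a688c9023d064866ac324,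
  nat_lit 0x6f25d15d41128acbd4345725f0a2b8783515beb8dfc9fc8ce36e3677f21a14bf93f936cae3496fe4fa217f273d63f95f829fca191efe4efa47f21da325aa5a92e392d4d60760674b5b76725aa5aac2ee4a5a96b694b4b5b4f225a8ed212d4d89496a2fa94b5a115d4ac7b9e846845d7374225b4ea11347ba5f92845394342369e2a11b4e4508b933a846b29542295f0a11af17d089740e8455d16deadea86a66f53b7e37aab09dbd6084a2a0c6f5185537a8c385bd6a684dea9ae36f5be4737ab48b5bd5a98adeadf866f56a6756335332e2da98427d6f226a69e01b5342b31a984f14d4d50e96a641e7b531b3c1a98da48d4ca4e742f5272119c52b149cec96a4f5eaa5278144a93bea0549e5404a4e2c4e52742f3293d7abaf26bd4b0755ea6b4638f1d7ac1d22bd6d18f5eb66acaf5a745d7ad462abd6bb9f5eb73b0af5590257acdfb2b226fdd51937e52d087e24dfcdf9a3ba3b8f37f60829bf2d044dfdc9426febb1f37eca419bf3234d40d409cfcea0516af502d515b355540d998aa056483502eec3a818a58540d373ea06b5db5036ae5a813f335409f38accecd8b66766649b0b337320d9994f1cf1d166766c7b33a216599b062eccd80956674249b33a257d99b2042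cced4496671f4578b78b12e5b9009e2d6396f16f16dc0f78b599bbc5a23e9e2cab70b70878b17c4bc59a5a9e2d6060f170bef78b9d323c5b86312c57b04e18b78370c76f6b865f199c31c306952ac0e70c38f63862dc3dc317a02e197c6870cb3a53860ad41c31604ae181ac95305304471a983608d4c1ce52d58a53088c0a983fc894c1b288a60e4ef5308e32a982b0314c03e16a617348ba39ab75cd3b12ee6ae6893a37345874b9a35d1d6c8ae69ca837350e88b9a75785cd25832e694a5373535aab9aa8a7dcd61692e6b0b4b7fd85aebb2c2d7df8611af0b6191385b85a1b1dc2d5dd55db3b0b5e9c385b7fc8c2dab05616dee170b6cf0b4096786b7c8f2159e55786cf2ef216797f29b3c5ff259e4fdb6cf0f35d678c50cb3c856559e5be1ecf281116791b67b72b7275135b9351cadc995096e4ba8db722dd85b91a36dee856e54d23b724707db93f5c2dcaec116e4ca8ab72a694b5b53494cc29a58c3382a3a69a6935bedbe9e9a4c5054d345eca693304534b5a369a66c614d34bafa69a210d34aa535a5da5d5698d2e9be31380b4bc8189a5e2988d2f18af697711634bbaaada5eed8d2b69942bb6bb61443ddb168e68e5176d2b67bb6b8e65db5f12eedb02d576d4544bb6c02451551504bd68a973c7454c385,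
  nat_lit 0xa321ac6a68b68c9b159465244ea3295055195dfc28ca855f4654aa6bac945152ad2abafbe95449af4aa5bcd7c95d2ade6a2956eb0f4ab202ea55309552aab926956e5474ab72a68c64ae1dcadca8a8661a5b72b28cbb9563d65cac631ee56979572b0bc9b95bfe85caae31ae548a8c3241b4e22a22a58bbc64348a8ec5645518e422a8c611150228c8a8619e454aa5022a19239152f7288a83f1245518c8b9eb9e2c634630662e3189515206b8c6b0764635572a31b0b6118cf9248c69266be4be62df25e5cef92f927c017c94d0d60505f2463d2f92f2427c9bb483e4dc63df25e5caf9380267c94ca3dda5da130b6ed0b45576864ca4c915da51522ed249d77690d41bb454d4dda5c042ed2eac97697dee907bef55f9df7a57cef9517df4ea1bef9a215f7dc712fbef94d7deaa0bbef9ee71b01b00e2e8d8052da6c053fc360356183c08d8184566c07f88360ac339b014b34d8046146c1066f36047181b03350cd82b3c26db59e393cacf359a59b0eb3ed45959f5acdacf9fd75679fe2eb3d554359f6687acf6435567c1e26b3e0d1f59f1070acfa4a3567c41a904291cf1076a0d8839be7441c41a699a20c43e1106f99a8833523c41b0ffa20d721340438836de244191a8a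20ecdd1106c4aa40662542daa0b29894d482c4a898262534c8312ada958944658c4b1c2b625739339ab9cb058dce44a6cb8a27395511b9cb9a9dce55814e728b49739531839cb3a11ce59d110eece87710732733a0b12d9d16c48ce825c167459d833a508a99d08292ce90ee5674710333a2e69532573441fab9a68ea4685ae6b54897353250b9b1d475cd55e6ae6947a97348e52b9b252f5cd8b682e6dcc0d736c41d21f6206af4af43d88524aac414a93621620d3a0b1015c9d883eda6c421609620c5629a51d885e612c42b54562096c8b10b080d2658416ba538076115d28b087d765844c4aec21df9361073a4b08b0711ce9ce9c664e75467a716c39d69809cea3f40e74c75e73b230e39d08069ce8cc98e74e54cabe1003395395157e461b4e54eb5c72a0fec39555f39cac31a8e5468d272a630f3957d031ca9149230e30dc75d18687588c35376c61bebfa30cae7ae7a88c3af65461aef0630e3905186e22f8c37582c61cc3b230e9d4d50d50c65e25e23d435f98aa18e1d950d50ca328a861c67a7336a1a9d5150c832ea868917d433deaaa1aa0a150cf9e3a861921be7acb35f3df3d718ef9ea64ab2273e7b6d85f3e3e94f9f45707cf8642be7d1599fc9fc8f4574567878a2b4c82515a8d496c5b456fa23a2b,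
  nat_lit 0x76076093b0154314404ec0a188760ba83bb05d331d82b0d4ec10ce976039e7bb00b811d81401b7aadb0ebd5bf10deadd326f56f54f6697aa9502bd57d165eac286ef54b6697aaca016bc1deacb212f566c457ab6fe7bd5ba16a99dd08a342e8535397425a747be15d0a5c2ee869d11743732cba14de4dd0de3c2e86a5df7438424ba14b8305e25c152d12e1eee0e68d4b88961a5c06c892e0cf9e97096884b80bc3a5c282292e0c6529709aae4fa4d5654f26a904dd355e9f29aa5ab84d53288d8c09356ae109aaa2274d5342626aa05293567e529aa18644d534258399a134a60d08a642684668d3b021a127c34d0903c6684d15034232141a13469cd087214684e88e508744154c3a20cd05d1142d2e885a2355a13a2511a1d121c9ce88e82a744c1683a25ebbdd112906e89144ea648a229d86028a28a28889f1144aa658a219953043a28a459914484818a23b0445115daa28a2de11446cef8a220b2c51189922de2dc385d16e630f62c1c5bdb03a2ddbcd916e44618b730f3c5b9102a2deb91316e83d08b7b20345bdf21e47a4796c7723c764c91e2132d30ae479045523d39a291ea4f0c8f324424798ddf23d814e91e8536c8f5f216479930d23d39a14d09cd74e2ce6aa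312736138739a4a29c1064e69692e736ab5539b86909cdb5e24e6daf227ded78f84f6bc941eb3c65af4dfaed794fd36bd6322b5e4210daf543c2d7ab91f6bd664db5e9f72daf6139ad783b0ab24a2a30ec559207622eac3b03b12b261d865565563876191883b165181d8b2480ec54868762cb403b0811e1d803410ec54830c02a62d52152161b4a90f83f5482de0de0a1521e95aa905784548bd01aa42be3d520600ea911fea5488424aa45e08e37a185d7836f0dbc1bda1de0d79aef0629e17836f2abc18394de0dff0f0630619769830268ac184d2c60c16aef060d7d92002c18abb460c5f61f06276d98314aafc18bc5860c50013062800d1cb40032e1a096d002553a802e3594011ca7a00a25550050942801a24d400f766a46a4635c7dc79e91a919ae6948c47bf55d5d2333506919eed148ce969a4630155235fd4291ab61f48cb60e7505b051932d8250250542b61210e5b00f612d82c7116c100deb60b2305b08aa62d8437ad6c1054a37a82a60f20f23a0aa0aaaa78755a82b22444153ff0a0ac1f310546f5082a12ae415b49520a9e841056039e82a8f0341552745a4da4ae29ed24aa4f69267b0a3215a4b5c86d26b4a1692aca3b493eb75a4a732ed25efd5692f607b499b53d195191a6d4be85465464a7b9,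
  nat_lit 0x7392a3498c311a568568d2ae88aebaeb228fd75955d1dc855d72f41aeb6855d75d65bebae28995d75d89aeb3895575cea12bad438d5977269acbacb59b3d65b1beeb2cea1d59688a96a75565c938ab2d4487597716facb8a92d65ba52a9f1d28b5b4e946a947481ba553691d285a84e94e4cb74abb863a554a1dd2ab690e94490e74ab007ba53a1c1d2ac142e94cc6d5185180d7fa8c20505460f68ea30921c51818a12db39462f802a30b3ef5185b4828c0a095462d1cca30a22c5180d15a8c5811aee6ee4c99e99e7bb9bb96c9addc92c12a4977733a61bb9b0245dcde642ee5d419772aae9bb9a1d55dcc6112ee6a49514d5249b72337754952186a4aa08552578e4a92c3085495faaea4add448fd6ea5b01b75357b58192dd6fc176eb2e82b75b0145bad7b1edd68a1b6eb71ceb75a3055baccf26dd6ea9f6eb4f10b75a361dbad82a8e76a64f60a734db05b054b14582b5336c144ae760afa0ab0585075829aa66c15695c9683b054ce2582a5ba2c14bd1cfde5e821852f42c5697a1a5bc4c845e92de72f48ad417a032b0bd0bf165e90d6a2f47e1497a3f9bcbd1a3e05e8f3442f479a44423cd1e735e694e17674c79a18213cd3d105e6ac760f35316f79a5f473cd5c9b5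e6a210af3539a679a90433d13d131b16e9daf44f4421867a23c823d11af8ef8cef454f0c7a2bf07bd15d211e8b0a1d7e185067b57af16143da9f0a2395985181aac28b2b4e145db3f0a307a18517485bfcba433d7a5d3ae92e917612f86dba474725d23b92ee912fc5749700fba4b8c85d25fe22e91ebcf748f8c9ba4a5913f952c9aea4c2c54b3862fa59bb0252cd34b6966ab994b3396ba59aa2552ce11a6966ea4f4b339a7c1ac1a0b5e60d12abb069f45d83469cdb3c260d362a706a6c97834d82dc1aae3560d60e3f06b0c6145d862ea5dc312c2a6189b04edc4986347abc318511618c2a230c704cf8634c2ac319034e18e088f0c68f50cdacda5a3da3d55d151e8d9c0bf9b47acb82a3da3b751eb80aa8f672e147b580fa3d9021d1ec8119c29c29963ae14898c70a3c8141ab1c2907d4e142b4970a713138525105c290006e15551070ab3a7b851e339c2ad79ae15318570aa955539d96969ce9cc34834e6372d31a6d399ceb29cecb4f4e68989a7370e7d399d71a9ccc69d1aa634239531a51928ec20c699744634832431a322798d1cdc0c68760c6340d8c31a9307450c50bacbe28616af142857c8a152bf10586286295114380aa8a17601450bf692286f061142af858a18a53450a71b22869b17142ec06ba8,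
  nat_lit 0x29479aa04a40d5214ca6a861e635412461aa2db2cd509d0f249248d68d9242da2492189d2e9452489e8b9243d70c925a2224909b1924970a99245cb54922e43e492d7c9249264bb5f9c135afdaf8d3f2d7c29777249b5f41e65afcbb06d7e70516bf7170b5faaa2daf9a7ba704d3d5387544834f81371a7b1228d3c1d4269f52a234f62c21a7d56c0d3ea88c69f54ec34f9b959a7ae73a5de5dd15a32f6897729d54bba95065de82052eec0649779797cbbafec25deb44b2ef2f6697784b64bba902e5de04d23656102813ae544098d7ba04d344302757248139947c099ea4204eb94d0277bec813b415c09b808e2fa509717d17c94738be33803801e2f8c50917cc34c8beaa26c5f443c22f8898317d3ece9ee9f613105e48a7daa4073eccdec9f62dc5cfb1a12a7d995613ed83649f6b402e0de0da2d0306cf64d836da51c1b752ce05b306e8ed78374b44c1b6880e0dd6ec306ec98d83611a63ec3ec25a496c88fb29b967d811a83ec0d561f61f024fb2c0d47d8736f3ec71521f6503af01e81ce8dd40e8add84b5503de1a681e618340ec242a074701d03d933e81e755d40f0a8da07add2d03a371a81ec893867866ba00c33747d6199ef630cdb3b785ebc33bec1e19de313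0cedcc386781d0c33c075619dec1b0ce8dcc5f85f87a37a375480d1b8cc28c25b46f2a6ca37bc60d1bb508a8dd139d46f1e0fa379541d1bcaa2962d09052a8520395495462804aa14a2ca2d12a96d0195434054aa1b3425522f1f2a947a595464d7145da8a1936791cc9b51ea64d1231326cfc919358f20c9b6a2664d60f6326d242d936f58aff97ac650251e75eb5eb2ea3e5c9b7accb0bbd668725eb40f0ef5ab2c57ad2ecfbd689785eb3fe22f59408f7ad008abd6b294deb276183645d449d9776b4ec4ec7574276083393b141969d8539a39a427606c9d3b2e8d89d8cdea4ec7707a7629dc13b2be089d970e1730b871d89dc399506834770e970db8786f75c3bdeb2e1d294370ea827b87a8d55c3bbea6e1ea65f70f7730b87a0a35c3addb5d5eed46b764e285bbc013addadd89f756eca4e2b766c0127412ddd06ad6ecf612b77686a5bbc0282ddb4b3d6eee948b7774a34bba426dd2e14aee96fc0d74b74a17298c54dd2c66bae964b1974b7e08ba5a8355d2df1c2e96f71f74ab705ba5bdc6be93e90464df489846fa43af49a573e92a1b1f4a6994fa519b07d2b7b7be92b015f4b080719b5d048cd8cd0917234a63351a1d19af1cc8cd9695466cadc23348e0b19b18ad469469439ca34a9fe42a5c8d2f902469,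
  nat_lit 0x5b415ce411bee72f1217395767b9cb3f55ce26da6e72e5111a71a65b948d335b72e98a34ccb831a747d08d36752469d220e34d2c5b1a6b78b8d32386469a992634edb8f1a68b4781981953029da8a066064b257032645a819240cda6360664e030328c0c81992b440c955ba06574e1032ff2f81992b5605495b90464aca8bc8c0492b2ba0c95941324ac9c452568bc892b7e47495de52a4ad7461256d56f92b2ab1c95a2f1dfd5179c6a5086e45e1dd622f0ef0d179ce828bc14c445e3f0822f296bd179fd4c8bca9228fe5492db7aa49900e17c8a921b625494cd5aa4db7a152500cea93356d54925472a48b0255262d1ea92ef235498167585d85b9c66c2d147d616a5a139f0d85a6e0ac2ee51f61747c5b0b7d26585ba42ec2d3720a709b8e71b4dc2d8453991372d1449b8a5eb4dcb08426e235b9371f4949b969694dc469826e0620d3715f4e9bb65ae4dd4dd586226ec138d374a7d89ba657d9e3126ede0ad374fb109baff614dd1c84a6edb511374d30b32b32a834c9953d56ccaa59fed81932b11ab995b1d4ccad960a656ff8332b23839952ba74cad75b6656ab4d32b65868a69b7159659635d62cb18b3b65888a6b2c2b9db9da2cb2a4e1658780cb2c44d4d965fcaa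cb1d649659526372c8ac2d49d49a22b2a4d46749088a937307549d7c2aa4ec3055269e61a9370e8549a421aa4ddb19527138ba93528757f29429181f5d0a50774e5288e9529447f854a0fb04a511a445283957a943eb994a05a98a509d6b52853465e85b50d4d1cd50a68a685735737229a4fd094d2e0d8a696eee53485e6a9a574bd4d035c2a69440d7a7a2033ebbeb9e881cf0d441440773ca205be6c63b6881cf494413f62a20b837d103d34288280154405dc9a204f064532780aed53c077949e0531d4f032adb9e893c0c7509e0ab674f00cb6a78448393c2f3149e020a94f05577a785e78d3c2f3d0d2f79e785e7e96de7bce32f3f07d779f0ca3bcf8660de7c3826f3da5cb79f0bc6bcf4f3227eb0e953cd3cd0c3a9e65aacaac4279db0ad3cee5429e7172c4f398b4a79c45a93cc33089e75587a616ee65564682eab2ea535595f02aac3e40d563218eab0d3e1559328eaaca6135565303a5ee9804e6b4c08519a6054fd5342298171554c13ac2a6062325302fd3e98176614c0a325a60a68353027bb298141974c0808b61d3151b0eb0e8d3dd8742675108961d117730eb13318748182c3ae28a61d625830ea22bd874c40ac3aaead35435444299aa1cc3cd51464e0eae35420951aa10c04d5083c46a86244354,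
  nat_lit 0x57b6453abda03955edd19c632c57b5781abdd6a055ed51a0af69baf57b3204abd872955ee939d7fd49c2989a4e2b5c5271b078c14549d7583a4e6b8452760f1e93b0ad749d094aa4ec33852755d92938979ce1c4bc290b25e2c8b92f19515f3444bd22e825e545392f48c3097958544bc09a925e730792f3951097a4ecb5f322ed93b31f2c9dc9d8efa64ed063f276a783b4f0c9d9de324ecc8852775f2893b279749daa1aa4ede021276a50f93ba79329c53c89c02f3db4f3794fa7931d253c9deba9e5f4194f2d98ba795d14d3ca9c1e9e61ed36d96d89bb6b6c0d155b60d1fadb1f6576d86469b6c63a93be8edb2191b6d8f28eb6caf965b62349edb2c21f6d8a686b6c5372df429b994c1385ca6ea6eb7b553783aa521b54dedad6a6f1883537469129bdca414defa10a6ea6075370d74a9bba9205add4950feea49be8bf443a92b2b9d4a2042ea581c27527b023a94c4bdd494d60ea42d65752bf433a93722dd4a161d5670b08bda85850eaa6da2162d25d0b179aa8581d90c2c6120a16137490b1044f858578842c5ed1616136cd0b16f0c8587c85c2c6159638e56878577bcbc2b8e52615e15b70630ad33df8566be8be83e15cb48b0ae38d185728cdc2bc2f8615df7bf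0adcdc38577d0fbe29225df461412fa233457d1842dbe88550df442a9cb3a1551103716c8553155c2ac462a155a3930aa3a618559341c2ab7dc21564c9f0ab114e8554216c2ac4096154b38d0ab4e0d869a702cab4ad129c1295b4e1200ba7031815385a7be9c23fe14e12ac8a709f355382be269c1c254e24e12479d7092b6d2c911c257c96e12db487095156b84a98b9c252842e1369eb4a80bd3a542542d5092a0f7222fc94a87d41254472852a07686950a80f4a8896725405cb52a02f4a95172264a833f0c7288d34cfccfc4df867e640f1e0199fa079ccfd43d867f03ab33f839519fd4d24cfd3e5e67f149033f073219fc4d9880e26cad4c706489b89b11d1209ae26ef045136d4c889b2033c4da7cb626d899d136984a89bb1a4c4da063e26cdf61136cb0389b41353de08f1d04d04cc23cbf84413a9e6a09d738504c6444826c4ae4130955209d554104dde1e82624a341340c63bc3bc32205de1ac3aef05aeb778321e9b091de18086ef02ee27788a97bbc575a1de10f4eef082ea7788ee4bbc2dd166d56e9977124c35ba5ba32d82d81d6e9e2c8b7445625ba15f62dd4daa16e83e1cb755dad5ba77482dd2a4bd6e9efc2b757386abbb9c6a585ce2ea8ee70b0e70e68b9c7c325ce469b6e716ed77397143b9c,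
  nat_lit 0xc1a3d4744222a3a519351cd36fa8e6fa854731412a3afa17865864e8c6c321572e191703b0c8d19b1962c32c0e46194669f0caea198652ceac32b084e195d6bf0caeda18658024c323af2b369d798a2d6e5c75e75ebb1d68e69d7d8e2cebd440875e52233af08311d7b36a0ebca2ce75f114a3af5ba49d79168ce34e358f5271aba8138d7a939c6b41f8e34a85271a6af308021c6a14a0e36055a71b47a238d31779c6d799ce36bb9471a85a938d1883aa5c79b952d52d25d4a965ba154b30c41060952d5096a976de154bba142a5ca4b152c36d2a96b49054bbbf22a5d8c9de4de4db764f2645cd7932d383c99ac64fe44f26d88b7936aa0bc9d3821e4c7698f26300979368f53c9bc8c1e4df85ef270ea47939205c3aa651a1d61d475b50ea13e287573a4215261d50a1d0eb2b4c87587b0c3aa65221d479a10eb40aa8752717c3ae01161d50d4b2d0bf0743560d621aa1ab6cfd0d4cbf138844356621a1acb4210d662da86b520b435ace121ab563d0d57d2086b1a69435c136cb44b432b7a5a1f3672d1096196374b4148325a142472d148219685374cb43249b05305074b345cbc14a5e1e0a60a2647b051f5638286adbadb3e0a518330519251828fbaec14a5b6e0a608bf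051e903828ea87c19c193df7dd6b3066ebd78333129c19b7b160cb4287066c2c78337d10c19bb7760cb62b7065d50b8337de6c19bad145f5d6970ceeb4cfa498c2badc3345d6be91eeb6c29975b812abada794dd6e0f3eeb6930975b34637a8c1d63d41099dea1ea1e804f50da907a82ce7bd41884e3688f51590d7a8ad65bd40c389ea273d0f50f3ca7a858c4bd446d1e7d951d31b493458da9f6346d46d0e8ee2b571b45dac8da49a3c6d50cb63688fdd1b45d2f8daa27846d2538636929c617694e6b8e4a7652752a8d29ee41a94e172e4a7b8f6253d708529ee38e94f402a4a7b834a53bb03d29e802094f3e264a7b8875cadc4094d6e20b26f7106c2893c15c449ba2e230a0f710ec0cb88bef5dc42ffaae214d13711472fb88a4e85c45e692e223f046851f859e3760247e1268a3f2e3171f93c688fc24d747e52baa3f2f6931f9612f8fca55847e417a2256d7d305f12a582f2c03417c17864820bd644105ed72082f4b9c4179122e231705f00a182f2c04417c54420bcb0c905e50648598596907c2cb986216504ff0b2a62d8594d03401a216624c30b3218285982a842c93f9616600cd0b2fecc8591d55c2cc4999f9df9cf127126274289350fd2abb624d1dd91272fee8939355449c484224eda9f126af63893,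
  nat_lit 0x40183574a815ab9ab912a0d5c2a8c6b14b5709f09ab98fd6d5c42686ae9886b571b33daba6886d5c7f462cc3fa2c5730208fe8b30e7f47f4d9546f959fd04804fea2b907f489cc3fa81849fd292a8fea63a07f506ef3fa2fc21fd4573484e2b82af315c32f487e1c5754e362baa35715d31ac8ae70f0c574472a2b94cd315d6caf8ae40784571659a2b9c3cb320e1e6a95a953b87b87ad339c3db0e2e1e99b0bb35b87cab11c3ea646e1f6ecf70fb138387cc821c3c56d2e1f04a581782535695691e096095437a372d8258cc0c12d3932096b00504b02e88257387412dceaa0969be104aa4ef82586d1c12d39068969c917834e473aca7251efc98069c8c6994e5736aa725a51d39583429ca295f4e4ce8ea7282c6d395e0969c8eb0d4e4a2a78c08c05b9dc601de6e301b18b18107758c024162132e302909518045098c06e914601158630152a11808d4d8c05152c603cd9a3016a1cbf8b502bc45a82d69ad4188c9c684b5066c35a8ad342d41191d6a21498b5027eb5a80f252d451ba56a22f5eb50b3f05a827b22d45e996a32f4dd57d7a6ca9cbd3127bde99a8ddac457a75188bd3a373de9cfc32f4e07557a71fc9bd39f585e9cc712f4d1ecf26d26c92759362a7e49b19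1eda2c926c8fc2936934649b27e224d9a55d26d0d4d936693849b43d3e4da438326cda4e95f14753693692271db49498b4bae6d21b60b6935209b4a15deda4d6906d29c72b6934931b4924d6da43ce87cf7cf28f3b849879c79c830687821e703b08f38ae2c79dc2503cebaac1e73f648f3ac0a879e1e203ce2f8f1e738720f3b99985f12fc2e66e66e89c25e6399df489ccc6086e662f877331655b99b8629ccdc7d2e66e1307338772399c3616176fa4b0d90d88be97cf64365fa3a1b21b18f8a8bad86c1e124363778a1b09e470d958ef86c6f2843642ea21b252950d94c4986c7f83ac22c23439d61087c2b0851a258433fc0e8896118516b083c215841a242c2495316118092b08f4ca5845ca82c21773d6121048b097a26bf1bd16bd35e8ad3c6f44b0c10c08bd15586de8d15aef46bf897a2aa43bd150215e8c63bef4591217a37e27bd1b0155e8ac426f44764e9da9dad8ac4ed22a2276a8f793b4a6349da61d9bcd1276dabad3b5bc029da63484ed4e38276865b13b6e4549daa8cf4edb5d2276b12958a58a50c4ac52734f62953cd314a6d918218c53114b629a731314c82058a59386c5332b06294f37b14c6eb98a6b2dac5269e66293306d4754724d4ea382c7351c2c14a8e2c425471b06aa3992a92ce3a8e,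
  nat_lit 0x6ad2404b17adab63e82d5ae3cf6ad34a6356e0ea5ab5c814d5a9e706ad4fa2356d5299c79c782e1ce3c491571e63cf38f0cb60889ce3c83ec71eaa5438f0af29c7a655ee3d128571e222408b9112a2ea005844502682225d4511112184889df84444c1242222ba791109ec088845ca44502662228bb591155eb8d6eaf4b6d157a68f058b155edea0eaf6da1157b1e07abda9a655ed0b2eaf6b4d557b68c9abdb167d5ede9c2af4fe8957a1d6558c0eb32c5ac8383ac3ad6b1cb1ed0eb58d5875ac5103ad45061d603420eb591787590cc03ad63101d6b1670eb43a5075a3ba43ad45154eca286a325142ad82230d4503444a297bab514907628a5191d4516c10a28496d514bde728a358bd4522ce0a2962c151424e4c78c789df6a3c514b31e2e24a9215478e08863c5bf851e29e448f18547c78b4dc23c6964b1e2fb468f16496478a00ae3c5a19b55b7167686686209ab431546da18d716a1626861345b4328da1a1ac818d0d38a9686489534328741a1a705ed0d24846866d329353699943a2016da6a1c76d36d315948a491b4c9b04da64d486d31476b69d30b9b4c9054da74ba96d351b7b69b5b41b4d44c6da656c52082b631fd8d0b8ad8ad960b47c2d2b62bd595b0d110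ad8a0c656cd2a22b6201795b0f7c0ad8821056c7f672b677c515b34a24ad9a74a876ff4369d51b5b4eb4ea4805a74d3e13e0769dac6234e89cb1a750ed0d3b54ce69d6956b4eb4a41a75bf1ed3a6d4169d3673cf84f82584e7c0c6ce5b829f036564f85b1ba7c1991b3e076109f06f57cf8215867c2b28f63f63eda83b1f1a8458f925a2c7cb4b763e6aca9a7158fce22ec7cec8363f4b68b1fa04658fd2126c7cec1563f2d70b1fa887d8fd4895b5aa44d3d7522b6673ef6d48b152ea4697c95236c62a91a6a7d48d5242a45b5915233d67a913335548b2326a469f56cbd4fa53e7967253eb74369f5e9834fb2bc2a7d3e7453edb8ba9f4c8554fb3fcfa7dbc81d3edea368d28d174c746859e4a34336f5f90a8d26f874693c88a346de3d1a285ae8d146554697489a345fb7d1a424428d2da094695be9505b16656f9be2eb7e8ec75bf3c8dadf9ad356fd6f8e68eb7c37b779c9adf955756fc5f86b7e6b515bf42d0adfa0f7d6fb3816b7dad4496ad6a53616b531fed3f89ad5ae5ed6a4ca46b5141735ac5f35ad64d98d6ad76b6b51ae535ad28a5ad4d850d6a7fa76b527c2ad693e186d5669c4f84f8b27527c4bd90fab49f014564f83ee427c2c3193e3da089f06b9e4f8479027c5ad413e0da9c9f199924f8d5c5213,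
  nat_lit 0xc244c0fce44207e4d8903f4fc5691a7e319fc5bba9fa9f96642ad2da7e343253f2058e9fa88854fd4c8fa7ea80853f348a29f8cfcf4fc7e2aa7e6e94d3f205942519506816a3ab40b40b48f1a0599095094e8169aa240b6fe620584a2102d921c8163c0d40b6fc8205c29bd02cb8c281765c75f89d7659730daacb97dc565c7841b2eb721d972f9c2cba81df65d4aeeb2e8f16d972fc1acb9bfcc7a8dfeb5fe6ff6b5cb7f96ad6ad50dff4c2d6ffad15b7f9ac91bfdaf86dff85026ffae57b7fc5f41bfcf50edff1c4a6ff53e0bce29f09f6d4f8a73aa7c619a7ce1a9f1cea14f8668ea7d122c53e8ac5a9f485a94f91f12a7c9e0f53e4e0829f53c914f9f38ab2af9c6bcbb0873e73e72efc5e6daf9cf3237cec1c13e75e7bdf3a1920f9cb2a87cebcb3be746329f3a2192f9cb2acac759538be2cab83b1655ef9ef46c5951811acac48916565902b2b0bcf595bfe52cac50256545f0cb2af30e55679810c0bcc164bde60d18b8342798af91bcc497a1e62314ef30fd4c798be95bcc3d129e610452f30fe4f798bcf83cc2ab91e629e4aea2ea28a7942773a8cf209d45e30cea2ea24b5dbf45ba88b585d45e310ea3190c75145e4ba8e0729d46ba60ea3644f751a7a23a89c329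fd4e18d5d20fc4386ae211c342e2ce1a9ed870d5d273861e769c34dd38e19e31e70ce6b038639e3d625623528ab1067455884900ac42ab1d6218e79a345588d70bac49f80d622b1a2b12fe995894f69ac4360556228642b11575f58921a87e890d3d4912cb2436511721a90a990d3381486af186436918721b12cf90da097486bf416436a48d21b040ac1582029ffc1018e9d878704066c4820a9e14101ebae0820ad904074e78203ff44101113608299dd04132cf8201b8841017106080b88740538c32e2966697150238b88a4565c40c6c2e2a0109710e828b88ead25c47cef2e265f817124d18b8ae10ee0f602cb849075dc2497a6e11c7857089481b847611dc25cac2e12411f709472eb849446dc23839ae12510775d02c5baebae0ad2dd70ee22fa1b75d08aebae4c65dd75bd32eba058f75d648abae5654dd75dbbeebaeb2175d1f86bae746349c4ad39d19d19719b188d7461695ba35f411d19c906e8d616f74675483a349c1dd1ad014e8ceac97467333de5de5b53aef2c8f397966733c2015e5c9a06f2e30d97972349bcb70855e5b6d42f2da5df7971584bcbbbb3d38d38ad2d29c5b52b4e253a1a7135ddc80929c6fc9b4e3730ba71b071d38bee0a9c682e14e27428a7131a4d38b56a11144f5cd5a88a56ad,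
  nat_lit 0xc134b238910591eae86c8f5590647aa57b23da6b991d5d1ac8ed5a5647ab23323abb953893890aee9c473124e222ba8673138831549c53da94e29aa0a715e289388d0a09c49aef4e27fa72714f5b5388c48c9c53dae2da9ed13014f6aaeee7b4b4fb3da62e9bc414f6d3ea27b4ba4f3da682c9ed9f85cf6de03e7b67da13db09849ed84c0c9bc263284e1306de9862d84c95f74264b3b213073c3098dfea84cbe24c264dc3e13306e10993de684c7ec345f3f62d80dfb1a7c66a6d7eca9b5bf630511fb2b446fd981227ecab57bf6300c1fb22f8efd93de97ecab26380d591cd4d8dd9564878aab2a2e4d595b30aac9f3c35646b23ab2a618559571beacab95d564a36dab235335590329cbc84d545e45e4d8e02f22d131791819605445e53e6b2f2a26417950004bc833d85e495092f25108179513bcbca88c85e4750e3eb3a8623b9d422c5cea1482c2ca83a8ab371d4391a8ea097c275038a23a818321d40ae3cea120a075162e53a816531d443c30ea07b9286886898d8434084e21a0c9790d1eb2886861827751a1a06d350d1911c868408b43455b621a5b2050d0608e868ab0f434b2d321a4301e466464f222e12b919b00548c93126465f58523377219195941c8cd3e42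464979f2334e6d9198602c8cc889a466830a7452803a0c2e65d06506267fe830d52f52e7a0c7a2250658d0a832bb994187448a0c39f7506601368329d21418eaefa0caff0d061d99a9d0ecca31136ee3b33b35c74138b4ecc5c1676764643b350c19d990588ecce89e76685103b318841d9d3a1cecd971476610693b3a0b3bb1bb1ac5c1d8de96aec6db537632af4bb19a82ebf08ec7274d763b125bb1dd40dd8db7c4ec6742f7635e943b1978a9d8c7612ec6ab09b5ab5a1a765ad170c2d68c9a17f43b5a41415ad434aed69dcd96b49a07b5ac3045ad25cb6d6ac05d6b521afb5a8d885ad38e86d68ae5ca20572291d2b92a3815c99af016c4572da432b9470415cb5e1cae4bb185730d0b2b9513515cc86a4ae6381e5731b702b99e7116d4f3961f679cd55d82249e737e14f3d472e79e1f513cf55c79e740d6cf3b063a79cd2553cf70899e73517cf3d2f4279f01c73cf3e4e4099f254844f9265eea4113e53f4e9f2a4b0cf92818a7c8b7093e4810f9f264d84f95481a7c97e593e4602b9f2b4d2c43da69a376d356da369ad3ffad55da6d4892d35c08769b6d82b4d7007da6cca42d3621d169b1ba7b4d53655a6cb426d3607dc37103e24db81f8533c0f962bd420503e84a381f8af440fd3f3207d085703e37aa81f,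
  nat_lit 0xb2b34c0acab6f9af9916577cca6147a575f35272af99d5837cd67a2be6b0d25f329a3ef9ac8a17cd6565be6a2065f35f9aef98360ea56a56d3c052b2412a95945d14acc1b0cbc252b3a95a958bc854ac5d10a56f52c52b19f4a95bb1294acc7a0a561aaf52b93b22959d4b6a4cea4a104752657bad219d4c0034ea6a0567528ee43a935b11d49f63cea4c8a075210483a957b39d4d87a8ea47052752b8ea11a5c72ab6ae39a10c3f06b8e6dc45c767212e3939ad71d3a18b8f08675c756d42e388b3571e0e5cb8e9ecf5c785982e3dae8571ded9ce78f6c822a80043db271b9eda7a94f6c31417b6aae13db2ad11ed9e91ef6d32f07b622a2bdb40019ed93bd8f6d6f0b7b639b6a24a24a1661124e8cc892a0a14497d9653e39126d9d4892d5a14499b61224ca6911269cde892b3054494663224a3f311259d168936167be7be755b9df396f0ef9cd61775a4be7c236df3b7d86f9f0a197cefa42be7bc345f3df63af9f06d57cf82f0be7be27df3a9b8ef9dd18b82f82e87468f5760be103705f079982eceabc17b941e0be191305e4c8382f8330c17add560bb662705d6604e52b30659491022cc4c3096621856b30b28759857b6acc2a2b9662dc14b301da9598b2d7acc45341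6623146b3112659109104449ca6b24424419233220a2609104ddc48809d264421231220fafd910723f4883496a880922140c291098744883ea1da01a014266d00578568033ea57091a02c9dad0026a1680427634057a89a01e150d00f60e680c1853402b93da00c6c6d00436753c53c6dada9e109454f0a636a78621b4c8129e06c2d4f18bc2a78636853ca6c629e194a54f2a5d4a789bd053c4ee7a9e0c7914f0360c030a7ce0d80d86271a9eb43614e081b037230d83a0106c065bc36031201b003070d853b506c064a4362dc1112d12c5b70a9535b85b806246dc1a8df6e04a987be5db838c86dc2a5516e170ecb7047055b854942dc2b99f6e17424b705403dd05d036a4ae8093217405b0fba032a05db8ae82559774161e8ba06300dd025c32e81519374144caba0b9185d054b3ee8169097416066a96a961aa5d4b32776a5837d952ce7ada9652bdd4b128a0cf9952ccae1a96b03454b32aaaa5ae05f52ca8e5a964b93dc0dc0b6b9ae0489817025a0bb81325cdd70ae070b97702dba1b81a0b45c0a9db2e0537537033ecab81bbb7dc0db396c4ed9cd5249703b67c0825b3ba80ad9d2bd76cf60acb67a923db3d89a2d9e82db6cee94eb67a957db3dfcc2d9d91c36cec8e86ad6473d59323a578ed8d8c8f09cb647,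
  nat_lit 0x5504df75f72ecbafb8ec9b7dc9977a2c5df72a886fb994457dd1b63bee8d785f735736fba84cb7dcc9a6bee6d22d0e50e11aba870359943832eca1c4a8c4ee06871b48f4394c6da1c948750e2cf2e8722b594392929a1ca177d0e519c2872794d43942e59f5a17342bbe28a85ef34342ece44a173661d0bd2c3685ccc1d42e5d4ba17a14650bca2a685d67d542f0ae7a179f5450ba62202f9310f52e88ce4c47c96a624a2b1310365698970234c4a3222625d58531152e0988ee2f4c467052620bb253102f8a98952e64c48783d795793600abc893235e4571baf2343c4690abc97b175e49921af271b457953e32bc9aa535e4e650af27097d7949812bc9cc5c2c2e6221b27312a6e39898e1915c4e629be37314dc43989c31dcc557d8e62e74b73183b5398b0325cc575dee62e73073138c23989c620830e30ea954e6c38c07e59c6578a8e304f127195e0238c13f09c633a40e31455e71914ad38c20c29c62a518e32c48e97c97cdba74be22d625f163e52f8d6242f424be4c55a5f09e052fa3e5097c17ac4be86e4a5f3ef292f9fde097cf22f4be876225f48284a42415182f20a75f5a396482c932e416cb9520b7a0990538b0c82ab30e416fbe120b786f9058fc748292736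41705cb20abea6905a3411aad5a14d54d5492f26aae07535515599aa9525925906ab568735562061aad5aacd5517946ab3ae935564b79aab01c0d5526086aad1891ca68c0b843460ee2da30d268a1c368c6206b4609ab9a315cd6d18292c68c60a0b4649a1da312912d19248f68c51283464f019a318b884d52f2d62e1495b1754f998b98b8f53ec5c927a62e7ae73171a4f64f4ec5c92c462e4aa1317423318b8891cc5cb64f62e11b0b1711234acc890a9b044860442245c5ec158c8904c56449002422489c11120973c8904fe04489b08224044391210fa88919c124489b07380881726c53035362d1d89b0186b4d8ab81a6c2b79136140429b0a0b04d84e57a6c20d2936283d29b070064d87182b89b8c185766c04e30e12171872f838c0c491c60c606e30fdad718752738c3dcadc61f398e308789718c21538c0ae9dc61c4d0e30e5e822972f3d8bc3231cbdfb96e5f206a72f69f4b97cde09cbc5842e5e72a372f8d28397a9ab9cbe379ae5e452572fb1733978b0a075c75ca2c2d2e616116120cd814ac585cb822c2d2e816173060b092fa45856e142c2e67016173278b0906105866050a633027b2b2a474c0b4bb6604e559302eacb9813991cc0d9612605d1833029d709814697cc0cadaa6060653302a625981,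
  nat_lit 0x8c31f31f30dbbea45a7cccf813e638361f352c08f9823107ccde6e3e632551f31bfc0f98c85e7cc40633e6a1a3d5e55e36a72af086b95785c0cabc350d3740aaf292d75795d21abcc0c455e1adb2af293135795c4aabcab6855e59ebeaf2cc8957956a761f61f6c07b0f8e04187c8284c3e513d61f355ad5a0987ca796c3e5fc161f13d430f88e3187d7e12c3ec2ca61f5f6830f88bbd87c9002ba248034f524032fb0a20c9013cda481020e240443592008a309001202480bec72405ae512021aa49004f5e4811bb024070031202fb08b317d8cfd87a245f65fe12fb4bdad7d9fb0ebec698d5f63a772fb302297d84452bed4b905f66bb1afb1e894220f44c7d51bad3d13ea39e8d6988f44f9c27a332d03d15d221e8b052cf453d587a32bc93d11ad51e884420f4445da7d47d483e33ea516cda438fa89cd47d411a13eaabd11f51fe90faa03e07d47c653ea62d61f554facfa91e5087e8f27b64604723ca0c351e510988f2156b4799801a3cc50111e4fd828f23f704794167a3ca41291e4d3128f287e5479b64323cdab29de688cf6ad6ac5408b563511de992d5a551b6ac9be1b56b2665ab31f8ad5902116ad090eb56a9b55ab4c942d5af51f6ad1c03b569922cf94c91a9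52869d325324ba073666cc95eaae64a7d493245723992a1e14c95f74264a7c913254a8799297954c949326649a0503ead0276166814d93b40c26011798d0276eb6817ec4b40c1309a055382d0305c36819788340899b9a05a8dad023ea56816163340c171477a0e4b05d05c883982e55321f0320b95b1b05c408182e1c014170ef220b8aedd05d60ca82e3f184171efbe0b8cd0705cb4e8b645a73a1e4893169e2c96b4ee38a5a7aac4ad3c6c0969cd342b4e1e435a762482d3af1bd69e069cb4e580d5a7b642ad3a1e1969e78545b93c246959e12d634f099a2cc4493c371c29e1b485cf0a7132785a2cf3c358c89e12d86cf0987ba786291f3c29ab09e169d0cf0ada1ed22d20f03ea0abb4880e55a44f2a6d21d1c56910201b483f21da454f42d22d1df690ef0eb485b42da440f9ad20ab563d8c7631ec88130f60f60d8147b030fe3d8e0f048348f626b387b16d983d807811ec88140f607a287b146a03d8c68f1ec88028f635010c459e96d408ec66a06a01e0535005415a81cc68d5c96a0977735018831a825882d408ec86a013b535026b41a8263ded4117e56a02da5cf61759e7b27b12a0d3d842e79ec2cfecf618bacc0c93d8c9a29ec9e464f64fea27b1411d3d8602d9eca9d84f65703e7b109833d94267bee,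
  nat_lit 0x9f01d459e8b6a2eb2dd516700ba8bac66545c75a6a2ccb155175a67a8b42e4545a8b9508545cc1a311ce5175175d69d713545cd196a2e7944517a801a8ba9f8945cd0dea2e9cb0517421428b8689d45c8694a2f53895174872c588578d21cced690e90e9162487320c20c1d21d554890eec824872bb6243c58a121c579c90f028d48782f82439c4bd21eae8290f338551d99c35ac44c066719c45338ae8f99c5771cce28f92672ab1d33885cd99c9f064ce1672e670b015339388999c51d44ce5ac1e672d60c826e3ceb58b585c5bd33b6d61a7176b127c4b585c81dac3e60ad62badf6b16bf0b584133dac4dfa6d618adcc3cc56217162b2312b15960418accbf93ca262b8104315afe1d8ac4698c56bb2b62b1b65315cf3258ad3ddec567d5062b3ff2315d0c3afba8604c974305ab6a18351e4750a8625cc743156c8a18a3c3d0c184b2861b617430b9caa18bb44d0c50d3e8617ee14315924a18ac944f2d649e71d2b5d59367edac996d6564cfe2eb256cc9592a881ac98eb8564e123eb2672155929609ac99e52d64ce39ab2539c22109ce39ed4e732045008d39e729a9cf790e4e73cc5a73b563139c31c29ce81074e78bb5273ade2539d6e5e9cf52104e77443273ce514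b4a728c87485629ca4b00ce53d442728ba493952e039ca84f6ce55a92e729c959394ee899ca88d54e521d1e728b49139535c2b9d9ae2a844d719024bc8935cf5829aeb3b5cd7284226b9024f35c596d9ae90974d75b0aa6b9525335c804f9ae3af84d74b78e6b9c94b826d2437257254b8f392987ac7acee4a95a472519b1392d5431c9704d0e4b174e7259bf6b92e0ec1c96c75ee4b3d0e9c39e842434f42ac2e13113d1022e9e881354f4586067a0e1853d139249e89b37cf45a0427a1218b3d109869e89a264f43a22e7a0e4548d8722590a391349403f8ce44e188722d0c23917ff59c8bae30e464a0e723214839174069c8a6fb8e46261e722e9703913cd09c8ac8b5c88950ce44e441915722257739132919c894eb8e44315fc0473915b731c88bac2e444a8872264d53912c841c8a421ee4524c5722a985e026140f011b64d8098083724c040b6daed27012f39d80979acc04a790e0236ca301279158097f90c04a2a7e025c017011b655050db251e6b2a1b6cb8411b645284db3620b6d9be0636c8f321b652adadb34e8e6d9c027b6ce01c1b670242db33ec7a03a035538d0194b8a80cd3ed8164a036466d01dc18680cd71940782a2a032e24501dd83a80cf99540756f0a03a7d7d01e110e80cf990d14d1453e6,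
  nat_lit 0x1e3dc84ef1e886e78f52c0570a1e3d6c5cf1f5f8a78fc2c0bc7dc189e3dee88f1f07ef78f57f83c7c3715e3eb84cf1e2fcc78f5a95bc7cb41da0da0d5832d065b2e68334b450211a0f069ad0626816837dd6341b5c09a0ecb90d07470e6836bd5341cdc41a0eb75ed0744c3683885439e4429d4a2429910ae72b88556354428f926214f80510b084188552a1c4298fc221557df10b1aae8859196c42b9e162154a0d10aa8874ea4ea50df275156253a8ca8819644ea1636a7546d053aab5d89d539024ea5894275293b93aaf2549d437304ea8157a753960d3aa4c4aa632626be6b2f7498c98adffc9c9b263566b9317382498cbf8e4c6a7c5262e6af9316158498a98a24c6f98f2637b0a9316174c98a9ca17b14e4f7d21aee539a3f6a9cde5b14e5ca96a7322e353941c229cdb0054e5c720a72eaaf539a43529caf1a54e57b0aa737d265394e4299227b2d3913912f6c9c860e70e73a72272113921f449c84d6c4e43244272062b9391609a9c89d104e467d7a720b6853919f50b0acfa71a93de733e899359f4cc98cfaf0cb67d67d233e9dd859f55c1ecfaf48a67d9e04b3eac2959f46a4ccfae1a15f270d1a55386997197406e1b5e2d70d6bf7386b942dc36c018e1abdc1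70d5c63b86d5429c36bc92e1a2b4f70d7268386dcf19c36fa8372d7d438febea357329d8efaa3f5b7d4ac2ebeaaf15df558732faaa9437d55cc7beab7155f538726faabe1f7d552b0beab7635f55c10928ee08b7097046708b8c25c13928ae0b08577057088b827083dc15edb6e0aeb5d705562ab82bcf4dc13d13ee0a31a17054e83b82b913c7ec7ea8c8a3f4a7571fa6b9124d247eab1363f6be431faec4c8fd95f147e9d5a23f69f551fb4e308fdb0f7c7ed918e3f4fb5161e7da717f2e161f6d8dacfb4f9d47da11a93ed36f11f6d9b04fb639467da75703ed4b579f6b87b8fb5735a7db61e53ed17f31f6bb7392a9db85750edc5bbb76e3179bd909db85fc6edd776876e2f33bb717431dba9c16edca20a76e57d4bb72543ddb92e60edc2ea476e8d83e1561536a530a9972f8542724c2a257461516be30a8d1b150c2c2aaf84615485b30a9c8538556f8ac2aae686156183f0aaf38985551287b7a893aa23bb3aa26fd1b51327eca8954d5d449958ea26d5c9512aee1a8950d8544b403ea26f155512d049a897b72d44aa21aa26a2ca85d5166ad3b301545ab206a2e0861516d304a8b]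
noncomputable def A : List (List (ℕ)) := [A_0, A_1]
noncomputable def K_0 : List (ℕ) := [nat_lit 0x62860a50543e7f31a156aaf0b0645d4453fb5066cc7c2abb81a18450cc2acc01761433c064349a6c42507462c074518f7446c231644e7c96c3719cf07b9526a9162769a695aef25141c3eb69696fb8b15c45b49c4325115104b050f1bf33412011b56e56d56c4af12756b2c119f20c1a018b19c1441742fd46035d1402ca36043038722f2362b622e2bc1a73ab39b1b63af18517e36322d4344a522b1833d42ee72f7992bb2613b82bd4c05188fa2bf3c73a995f4d53e31721a93e28431ab6d66ea2a42572221471ae18964d19e2566585cf69f16120e1393a551226351422115020d11f11c55855755637313236913c15815a13d1093b25214472cb22712c12d16317c10835b4f11872b94f610a11515e17f3b45041115513d93fc3d35501361372c217a35e2be1104fd4fc1424de4fb11211716819a12111a39457157022012956f15125310c10450147f24f22a13150015d13e3173d250b17750a25210611816217b1411a81882ba1aa15610711415713b10b101113102119103105100000,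
  nat_lit 0x3591821b54436086074a04856063b96057b06452d92ce9edaa66c8225d114d94f87246d2ca672516045c2d05455445431385425417536ac8266bc8367568da4fe6885f4bd467769c36680e8271783c263e2c94d24d32623564e085b4df3a47357b33d63ca88063b4ddaa3ac318ca3254e18d48054d35519054c4624ff54b2cd2d856956839256713a5665075655642c52d61671fe59859759629857212e1a619912557657557423b57312b1283955997d84655a03e17513577726fa6f661f6f482563d7016e9b3589262d6d35cc40b8ad41b21f23080b33333a1935295c15c05bf5be1b73861226f96d044f2f7cfe4a28a98815537025176392c433515514810d40152f52e14552d1341351521b05034bc3ed25e47b12a11640040350268c67195c3f7a3d74269347969b4b847e58263c365a31b0d6879107637a62543e929323764a68127c2435ed5ec5eb5ea5e914a1335e810e686b4297e6575d2aad6c9663aba9ee63a80517916924e13f19b16e3184468f63113c139d159b224e44e317d,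
  nat_lit 0x68397a67e82954aaee2cf2d382d66f7f7c43723ce480826f817a1c6826a2a28be1b84b7f4b1aff3e827b36ecca3e637437b1e31f55f14375f05ef5ee1f612f1d536b36abb234ea0514936878a8048062102471d016d15b2403b552051f2ad51e3b32e93b13144e77a5cdc3c631acbb9323999ec70849d73e4446f54706bf7b51759472cc41a21644131f226448ab473b19699c7e990137227d1d15d15d02791305cd16c2905d55d45d33504ba28848811e2342481911cf16420f2e751b51a26451935a224cb27a83c461d9a74e174d7b668d8304f0a121863d16fc7967954337942602b854f7ef2e62e03915e42df456a33c891d23cb5ce75871c23319252752552423210f5231ce1a255e55d55c55b49626555a1243cc1811805f92d430ed1d6676c72385483bf911b0895415f33730d54741047c49b5465c67d74c871b7c8c1e5523b618a921a2dd02345cc28ef3b73fd3103c339e8ff49e8fe4dc3f63547f449f4864e650e8868eb7483f46e8b9f7a32da2dc2db60460360260160035848a,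
  nat_lit 0x7ad9507b4783412cb08916994e5ae62c79c7a6ca9daeba6d5e740ed36c592a2d1a913a9e90ad202929deacd4c32d74937ff7414943aa35c3cf23152aab0b2735186abc79a3d1bbe768097742f31c98a7914d4b1091b9587fd1732af72b16a6af5ab21b3882b033983f6ab1983c53074a6bebcdfbee321aa2c9da8c649bea9d9700cface3be88707181711ac84a80a8494ab848c10861b538656b374e2a7299c0f5a616583ed252b26eb2a3c9cd08bec2052ef2a52a1cceb262823e4a60258346ab2918ba5ba43ea2fe36737921837e2231b122c6ca1af8588572e83b03447a27a13477a079f79e64c4bb760abeb44c192291ad34d807769330990759331255d05c62aab73c80f6cbc5f6a5a5f49176567664e6303c8a454717f5904c313329e5c7cb002de6146133a66113cd3a36104983ae43c7623414eb3dc62a4c17bc6e3ba06fd442adc5132e1be039351572e2c372d41e4246154a4c386bd6186e537a612a99a4aa98a44a97a9614c1e858f58e58d58c14f1b411d57f4b757e22857d126,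
  nat_lit 0x697154b6996b87d874637b7197db0b9579d4c6632c6f0c687e1b8cca1c527ced3f6dd43dd2a7bd88dd3c888ce94cda178d47b7c6fc707b876ca46d01b83bc1c321701fb1235945935924a95911be20657b57a57859557ca02d0b27050d7dc722851d07463484b7993a8b0c3327726dc0941d1c126b5b85b75b64ae5b51b25b48ac9d1c7dc915792869d58339c18b31e262c24280c27620b82c5907ab1fc7aa19d20a7a71e636d2963252814811df62945a2f459ad3073345f731bcbb3827f28d29173064b6c076f23ed19afa3db99f46135f92373aa38b164ef8141e94313857bbc4c29d7aea8e6ff30f2354f92eb6fb2ecc732b52393538db8ce68f44a4f32491a52022c6781b183ac49549239a83439ccf7b6a6c188b48e1b987f7557772f2aa91cdb406484544873647dd398362c98ce21b84c28f04584664be4896915c75287bab9d3272f69963f84bd3d83f985eacaac94073968196be5ae4d72f1778c23408c7a2ed840835ae2790b1365dcd6b1d4dba8286052258177cb4b9a5ac8968,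
  nat_lit 0x96d7d39ef75abc4acf732767915d1c92991c65e6fe24d26c9b4b771ba6e716f1c071a7174f48f53bc7806313128e99dd77d9271de28023d7d9ba378d6194f588545188370e51c7933d0b43c1388e74c8f4787739cf943f449b192b727e1a481683aa1b6476edc50c78872b7826a78f9ffbc2497ab645ec246c685f75d94960eb348f2caad147db6cebd26b474f7c040d95abcaabc8ec41433677ecf465cbb7cd1b1c81b844a21b2c8c6824bcc7d1bde8be73fb413fe73d642ca360f6449cf39f6c563864160dc8b6205c96e07385e2b85689b82b817477f290d2c874064076132a5fb77b3384ce7be6e17496a69167843a08e5b759ea31959c315415af96d54164e242979744d7ea7f07c77ec705c9bb52c72c298af6d74ee7e88e48ae788b80a0ccd3bf3cf1b0218ed3d7cfc857af899c6a8217c1abdbfe7bf7e690f3cecfba926e4c6bc0599799b8ab9a61d753246cb86be44047299e4922b33c48d31ab5b23cbf90bb8ab89a259c8b88707b8767dbc997893e9ab3ecba1a7c533a95bb3588,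
  nat_lit 0xcd465a418559478ade6a41ef14b211c0766b530a9346e5095f85f75f61461e11eb5ff5fd5fc1dd5fa68b2681bb203468aa08775397095d9846d2287628347625d2f3cbcca795b33b1945c559e5c42073ee25f5c32012675634c75625615601cc55f998aaf9799fb9a095d9b140668acb3a2e97bb8ebdf3524c4cb1cc4a37a3e413b377822f0c0687a3ffaaa69e7c4d106941fdcba8668124774835d7bf8b5047aa9f4b9adb4bf803b12a9474bd04b5d636a6836cb21cbdad885dd418dcd16cf2b7da1ad3b9b95f59921d346d9914053f0c1488c66ea24b963e59bcb952ac6596563242f8a9ab047acbe5ab7a6b294371809b2976836f482244ba790276e25bb5fa4224b9e662679a2ab736c54ab380d48fa7fb05cea6a877fa5385521c27a6686664396656644171ff5f31ed47546421a5f2153241259538537d039baa4fd2d974ca03757fc43bc16acbb7690846bb3bd1eaacc6346aaaeae36709aa8894e886c90e3979bd97196a8139375fe967278ace7705e59039a97d4aea75e9f09fd452,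
  nat_lit 0x61798f1d679c472907bcf508a3c7f175b79870dc0a48c28b28a7d630cce691a6f1bb69d8a5230a721bcd42d3208e216b28e5db5da5d829e4da1c41c35aa33c5776cfa74c4e61ea14c0ccd2a198a823a212c1c53f2135403da5c838123c1c21a35bc5bb5ba5b93f330b61692cb48cf894a8952668a19e89008b49e99c589652b40f3e0c9393075238989c621c418d854962b8017034b46f7c42425cd0a115c2704326c9ab7aa356dbd425a98e89b8c003beb36b4cae9b0ab2e8ea51d2e2bce41f925698af86d44287ee380c7940a5ad40c6eeb72a10b49b658b8d3529c42138d21e2a82a619578e42c850cde6b24acc3629b2457cd2aa7866f33df6b9b6262e62fa3a88ac84ccf4ad2ae1ca24a61aa75c496ec7d0625cc71c6c306244fa8846de16624659d59ba8d450c152e4bed1c9a76b9aca5b24d0961bcff82baf14a3423afca20a0e8aab7bd27a1f5bdd24845b1b831cc37de7ca84772c554d0053e1c73dd775b07882622897cae516d3abff8b9c3ac7ea588bf1ea1e75342ff402993868,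
  nat_lit 0x9da8c4d37c8f8f7ae0a66b018c3ae1b4e8e3789586cbebd74538209f64b2bc0953a044ca1bd1d95a85a75a57767737438412b4a2fa3f9fac927fe9f98154d6bf11e0c76842869999b2dbb9c4d5ac8b51bc9ca4274b3c1da90987c0ea8facccabbaac5cafdb3a342a81838589c2ea347e48d289f2ea4592f5839caf5e18875318c5be93f5bd96dabb8b66a26c2fc37490aa87142e37e3c7b75477453d692b7e39048dc8c1974a16d8a5153a99a81875c99eaa7411ae5646d40bd6c179569287a97718bba874d0a3095eaa58deb1a4cfc99bbe94843532f4d8b097856cdca447dae4609b1442682a420a16933b3c8d94edb7cbda8e16bb1c88c9c8dc83828b6dc80b6e65b60ca7914eada9e7867ce79fe43825ab30a1dbc84c96d17372ddafb6327c34559518c09ad5b160b46f83d49942e31b6516553d78ddc8ed153ad31e88f63f8007c634958acad7cc952aa4a62ccbcd8348aa13c9b0f7b1c758d06f84d16e63d5c5d69d76b82fab88d7ae87b2ae74225e62a987979279d48b74a7e27a461c,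
  nat_lit 0x34c98dbc5685bc6abf9619be650c5bad3984969cdaa65cb9669960ce8d0fba69b6976d26cdb9bb99598c9c4983d13a9b1f71f49c39c03039bf1e43045e05df5de5dd3005dc3a121dbb07fbc2c2f9536d2966cac7be234ba4ca1eb9076aa56204c0385227265f37c38a4c596e728a0693926991d673a5ea6f766d28ad1b158b7a43a4124cb54b112fc2757167157132146f2a152b1d2f2b358031371ebf2890c6e91e295d17b3db73bad87b86243ab8f8739054e929a52c419284215217cfdb1f7e544c7e07df33fa479a177ac5ea7d9887f6a7a9065e37129095d6964b93660711b39c97b56710853a2970fbbfa3934fb98975a8994ba3b9812871f26aa962bd5c559c614d1ec5351dc5876e275023f81eb594ea1d88fd8d18fc1c59fc67b44032896585c878c8884f1f19e39c2ca8a0868e70bad7d3e8df757893436720c744ec8326ba8b2a4b99dc611ee898a72a362e5c2d3bd91f457633ce1af2a1890c79b1d42088f1b47cf338fa07ccc6a39ce7cb9e153c8f981dd06b5ba036618f881c,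
  nat_lit 0x89489a6d9a671da71f6b0af63f1652c04b9b8d6d0aba29633dea0da0ba0ac4b2a06dfbbc64fb25ba994685aab9befa86cb47fab60219662378a6aa6938437d343914be66b5b456b8c18b0e4c659fc4a93dd2bad989bb70ac4ccda801b3bb4a5525c97ccc1d1f9b2854859a61a70ad0919bac5cace5810a73b31a78be3c65970ba81fa67547375fa9cab12fbb329f353bb28ac687eb9446997fbd086bb17cedad43a2c6cc46cb79d7340c9f9b0b2fd32a2bd33a2c9a2c0db20a279cc309c02b678e0cd7cb66dc6ef308c8784b7c53fa86d864c39caccc5c7f86ea844cb8a08cf8fbbf9a48ad6a499cdb2b802779bdbc64920adda00a63940a5bc3e66d9661e5c205845834b567f82eaecc8a1cb9dca7b27333e67c875c252093055b25b042b33d3065afc3b684bb18379d270ac56b7428ccb5aedc21467297b91b6f9f29f1c0bbf6ac571db5e9e09d6200baf9db4b6c699df58b6a0d0d678bb57f9d2cd0c9f4a0983b3efbdcc0887c994ad584ece0a8572632d2fac5838b370654d2167aa83c26,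
  nat_lit 0x931adf92fa2a8caa6eb036b75856b68bc7da7e76a7b46b61c1ad0e9b3b4d926d39bf0c81cf6cfc92e924af4b6b3f29acb8d38289da59a01706a649b5871c53c35a40ca9ac0ca2a50c67b639c9bd1cc66ae943ac28d3936bdd4cc81f8b1c289805a329f5a1a8bb4a78bc4738eb5abf7289c1b8a7b5c4a8a5c8cccc8c949825b332e93f8e69f78a3c4fc3fb6472ac34cee1dba57935c779a8bfd8c89ae8c78c2c1fb6c8b6b3f93b3768cb8e789ebd38562851f9c90c517f896ccc9a54d38cec7d22741f842a92d94e30294c32938cafec45a5a7d5bfa917cef9388a21f3c86934b0c6a9b2aceba5d83cbd8912474690b68c60c2ba77b1e409cdd76dd2e8edd188638c1af532b9e237f9d3a0fcd96348cd94fc22d12b928bd44ba4e98e7edbaebba66a1f09f5bfb3839cb67294226e679955764c0195978c9a4323cd5af3c6d6ad301a234a77eb92bb9eb975a2b51322635cb8972b3e31db559739458a48f3bc394427172784d9ebc1284c623af74aac718a59d0c1137786fc4494db996b19f88ba,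
  nat_lit 0x8d57345cb5554f74f23e73bb3ba3a83a73612d52d22d1985c57c9ec3cb9c92a9afbfc822c82d34986c40a4d65398bad2bf534a5a4bf48ee8a6941811c5ac3dc95c27cf5bbb989c96a8aa7ea886749b7b4fb58a71b57bab70c823ac128f93cd23a13a22bbd6a1]
noncomputable def K : List (List (ℕ)) := [K_0]
noncomputable def R_0 : List (Rule) := [Rule.mk (nat_lit 8) (nat_lit 27) (Steps.bwd (nat_lit 5) Steps.nil) (nat_lit 11) (nat_lit 0),
  Rule.mk (nat_lit 14) (nat_lit 57) (Steps.bwd (nat_lit 3) (Steps.bwd (nat_lit 5) (Steps.fwd (nat_lit 12288) Steps.nil))) (nat_lit 17) (nat_lit 0),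
  Rule.mk (nat_lit 12) (nat_lit 57) (Steps.bwd (nat_lit 4) (Steps.bwd (nat_lit 5) (Steps.bwd (nat_lit 3) Steps.nil))) (nat_lit 15) (nat_lit 0),
  Rule.mk (nat_lit 10) (nat_lit 57) (Steps.bwd (nat_lit 2) (Steps.bwd (nat_lit 5) (Steps.bwd (nat_lit 1) Steps.nil))) (nat_lit 13) (nat_lit 0),
  Rule.mk (nat_lit 14) (nat_lit 57) (Steps.bwd (nat_lit 9) (Steps.fwd (nat_lit 57344) (Steps.bwd (nat_lit 10) Steps.nil))) (nat_lit 38) (nat_lit 2),
  Rule.mk (nat_lit 7) (nat_lit 27) (Steps.bwd (nat_lit 6) Steps.nil) (nat_lit 10) (nat_lit 1),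
  Rule.mk (nat_lit 7) (nat_lit 72) (Steps.bwd (nat_lit 2) (Steps.fwd (nat_lit 40960) (Steps.bwd (nat_lit 1) (Steps.bwd (nat_lit 7) Steps.nil)))) (nat_lit 42) (nat_lit 0),
  Rule.mk (nat_lit 6) (nat_lit 27) (Steps.bwd (nat_lit 7) Steps.nil) (nat_lit 10) (nat_lit 0),
  Rule.mk (nat_lit 7) (nat_lit 72) (Steps.bwd (nat_lit 7) (Steps.fwd (nat_lit 32768) (Steps.bwd (nat_lit 7) (Steps.bwd (nat_lit 7) Steps.nil)))) (nat_lit 20) (nat_lit 0),
  Rule.mk (nat_lit 4) (nat_lit 57) (Steps.bwd (nat_lit 13) (Steps.bwd (nat_lit 3) (Steps.bwd (nat_lit 6) Steps.nil))) (nat_lit 16) (nat_lit 0),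
  Rule.mk (nat_lit 14) (nat_lit 57) (Steps.bwd (nat_lit 3) (Steps.fwd (nat_lit 24576) (Steps.bwd (nat_lit 4) Steps.nil))) (nat_lit 17) (nat_lit 0),
  Rule.mk (nat_lit 1) (nat_lit 87) (Steps.bwd (nat_lit 1) (Steps.bwd (nat_lit 3) (Steps.bwd (nat_lit 2) (Steps.bwd (nat_lit 2) (Steps.fwd (nat_lit 12288) Steps.nil))))) (nat_lit 6) (nat_lit 4),
  Rule.mk (nat_lit 13) (nat_lit 57) (Steps.bwd (nat_lit 9) (Steps.bwd (nat_lit 14) (Steps.bwd (nat_lit 10) Steps.nil))) (nat_lit 39) (nat_lit 3),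
  Rule.mk (nat_lit 10) (nat_lit 57) (Steps.bwd (nat_lit 14) (Steps.bwd (nat_lit 9) (Steps.bwd (nat_lit 13) Steps.nil))) (nat_lit 38) (nat_lit 1),
  Rule.mk (nat_lit 14) (nat_lit 57) (Steps.bwd (nat_lit 9) (Steps.bwd (nat_lit 13) (Steps.fwd (nat_lit 36864) Steps.nil))) (nat_lit 38) (nat_lit 2),
  Rule.mk (nat_lit 2) (nat_lit 57) (Steps.bwd (nat_lit 5) (Steps.bwd (nat_lit 1) (Steps.bwd (nat_lit 10) Steps.nil))) (nat_lit 13) (nat_lit 1),
  Rule.mk (nat_lit 3) (nat_lit 57) (Steps.bwd (nat_lit 11) (Steps.bwd (nat_lit 4) (Steps.bwd (nat_lit 6) Steps.nil))) (nat_lit 14) (nat_lit 0),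
  Rule.mk (nat_lit 12) (nat_lit 57) (Steps.bwd (nat_lit 4) (Steps.fwd (nat_lit 24576) (Steps.bwd (nat_lit 3) Steps.nil))) (nat_lit 15) (nat_lit 0),
  Rule.mk (nat_lit 1) (nat_lit 87) (Steps.bwd (nat_lit 1) (Steps.bwd (nat_lit 4) (Steps.bwd (nat_lit 2) (Steps.bwd (nat_lit 2) (Steps.fwd (nat_lit 16384) Steps.nil))))) (nat_lit 7) (nat_lit 5),
  Rule.mk (nat_lit 12) (nat_lit 57) (Steps.fwd (nat_lit 12288) (Steps.fwd (nat_lit 24576) (Steps.bwd (nat_lit 3) Steps.nil))) (nat_lit 15) (nat_lit 0),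
  Rule.mk (nat_lit 1) (nat_lit 57) (Steps.bwd (nat_lit 9) (Steps.bwd (nat_lit 2) (Steps.bwd (nat_lit 6) Steps.nil))) (nat_lit 12) (nat_lit 0),
  Rule.mk (nat_lit 2) (nat_lit 72) (Steps.bwd (nat_lit 9) (Steps.fwd (nat_lit 8192) (Steps.bwd (nat_lit 7) (Steps.bwd (nat_lit 7) Steps.nil)))) (nat_lit 42) (nat_lit 1),
  Rule.mk (nat_lit 2) (nat_lit 87) (Steps.bwd (nat_lit 2) (Steps.fwd (nat_lit 16384) (Steps.bwd (nat_lit 1) (Steps.fwd (nat_lit 8192) (Steps.fwd (nat_lit 12288) Steps.nil))))) (nat_lit 7) (nat_lit 2),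
  Rule.mk (nat_lit 6) (nat_lit 57) (Steps.bwd (nat_lit 1) (Steps.bwd (nat_lit 9) (Steps.bwd (nat_lit 2) Steps.nil))) (nat_lit 12) (nat_lit 3),
  Rule.mk (nat_lit 2) (nat_lit 87) (Steps.bwd (nat_lit 2) (Steps.fwd (nat_lit 12288) (Steps.bwd (nat_lit 1) (Steps.fwd (nat_lit 8192) (Steps.fwd (nat_lit 16384) Steps.nil))))) (nat_lit 6) (nat_lit 1),
  Rule.mk (nat_lit 10) (nat_lit 57) (Steps.bwd (nat_lit 2) (Steps.fwd (nat_lit 24576) (Steps.bwd (nat_lit 1) Steps.nil))) (nat_lit 13) (nat_lit 0),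
  Rule.mk (nat_lit 1) (nat_lit 72) (Steps.fwd (nat_lit 28672) (Steps.bwd (nat_lit 8) (Steps.bwd (nat_lit 2) (Steps.bwd (nat_lit 10) Steps.nil)))) (nat_lit 43) (nat_lit 0),
  Rule.mk (nat_lit 9) (nat_lit 72) (Steps.bwd (nat_lit 1) (Steps.bwd (nat_lit 7) (Steps.fwd (nat_lit 32768) (Steps.fwd (nat_lit 4096) Steps.nil)))) (nat_lit 42) (nat_lit 2),
  Rule.mk (nat_lit 10) (nat_lit 72) (Steps.bwd (nat_lit 1) (Steps.fwd (nat_lit 28672) (Steps.fwd (nat_lit 28672) (Steps.fwd (nat_lit 4096) Steps.nil)))) (nat_lit 43) (nat_lit 4),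
  Rule.mk (nat_lit 1) (nat_lit 117) (Steps.bwd (nat_lit 1) (Steps.bwd (nat_lit 1) (Steps.fwd (nat_lit 8192) (Steps.fwd (nat_lit 8192) (Steps.fwd (nat_lit 8192) (Steps.fwd (nat_lit 8192) (Steps.bwd (nat_lit 1) Steps.nil))))))) (nat_lit 0) (nat_lit 0),
  Rule.mk (nat_lit 14) (nat_lit 57) (Steps.bwd (nat_lit 10) (Steps.fwd (nat_lit 57344) (Steps.bwd (nat_lit 9) Steps.nil))) (nat_lit 39) (nat_lit 1),
  Rule.mk (nat_lit 9) (nat_lit 57) (Steps.bwd (nat_lit 13) (Steps.bwd (nat_lit 10) (Steps.bwd (nat_lit 14) Steps.nil))) (nat_lit 38) (nat_lit 3),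
  Rule.mk (nat_lit 14) (nat_lit 57) (Steps.bwd (nat_lit 10) (Steps.bwd (nat_lit 13) (Steps.fwd (nat_lit 40960) Steps.nil))) (nat_lit 39) (nat_lit 1),
  Rule.mk (nat_lit 9) (nat_lit 57) (Steps.fwd (nat_lit 57344) (Steps.fwd (nat_lit 36864) (Steps.bwd (nat_lit 14) Steps.nil))) (nat_lit 38) (nat_lit 3),
  Rule.mk (nat_lit 10) (nat_lit 57) (Steps.bwd (nat_lit 13) (Steps.bwd (nat_lit 9) (Steps.bwd (nat_lit 14) Steps.nil))) (nat_lit 39) (nat_lit 2),
  Rule.mk (nat_lit 14) (nat_lit 57) (Steps.bwd (nat_lit 9) (Steps.bwd (nat_lit 13) (Steps.bwd (nat_lit 10) Steps.nil))) (nat_lit 38) (nat_lit 2),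
  Rule.mk (nat_lit 10) (nat_lit 57) (Steps.bwd (nat_lit 14) (Steps.fwd (nat_lit 40960) (Steps.bwd (nat_lit 13) Steps.nil))) (nat_lit 38) (nat_lit 1),
  Rule.mk (nat_lit 9) (nat_lit 57) (Steps.bwd (nat_lit 14) (Steps.fwd (nat_lit 36864) (Steps.fwd (nat_lit 57344) Steps.nil))) (nat_lit 39) (nat_lit 0),
  Rule.mk (nat_lit 13) (nat_lit 57) (Steps.bwd (nat_lit 10) (Steps.fwd (nat_lit 53248) (Steps.bwd (nat_lit 9) Steps.nil))) (nat_lit 38) (nat_lit 0),
  Rule.mk (nat_lit 9) (nat_lit 57) (Steps.bwd (nat_lit 14) (Steps.bwd (nat_lit 10) (Steps.bwd (nat_lit 13) Steps.nil))) (nat_lit 39) (nat_lit 0),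
  Rule.mk (nat_lit 9) (nat_lit 57) (Steps.bwd (nat_lit 13) (Steps.bwd (nat_lit 10) (Steps.fwd (nat_lit 53248) Steps.nil))) (nat_lit 38) (nat_lit 3),
  Rule.mk (nat_lit 1) (nat_lit 72) (Steps.bwd (nat_lit 7) (Steps.bwd (nat_lit 7) (Steps.bwd (nat_lit 2) (Steps.bwd (nat_lit 9) Steps.nil)))) (nat_lit 42) (nat_lit 3),
  Rule.mk (nat_lit 1) (nat_lit 57) (Steps.bwd (nat_lit 9) (Steps.fwd (nat_lit 4096) (Steps.bwd (nat_lit 6) Steps.nil))) (nat_lit 12) (nat_lit 0),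
  Rule.mk (nat_lit 8) (nat_lit 72) (Steps.bwd (nat_lit 2) (Steps.bwd (nat_lit 10) (Steps.bwd (nat_lit 1) (Steps.bwd (nat_lit 8) Steps.nil)))) (nat_lit 43) (nat_lit 2),
  Rule.mk (nat_lit 5) (nat_lit 27) (Steps.bwd (nat_lit 8) Steps.nil) (nat_lit 11) (nat_lit 1),
  Rule.mk (nat_lit 8) (nat_lit 72) (Steps.fwd (nat_lit 28672) (Steps.fwd (nat_lit 28672) (Steps.bwd (nat_lit 8) (Steps.bwd (nat_lit 8) Steps.nil)))) (nat_lit 21) (nat_lit 0),
  Rule.mk (nat_lit 1) (nat_lit 72) (Steps.bwd (nat_lit 8) (Steps.bwd (nat_lit 8) (Steps.bwd (nat_lit 2) (Steps.fwd (nat_lit 36864) Steps.nil)))) (nat_lit 43) (nat_lit 0),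
  Rule.mk (nat_lit 2) (nat_lit 72) (Steps.fwd (nat_lit 40960) (Steps.bwd (nat_lit 1) (Steps.fwd (nat_lit 32768) (Steps.bwd (nat_lit 7) Steps.nil)))) (nat_lit 42) (nat_lit 1),
  Rule.mk (nat_lit 1) (nat_lit 57) (Steps.bwd (nat_lit 10) (Steps.bwd (nat_lit 2) (Steps.bwd (nat_lit 5) Steps.nil))) (nat_lit 13) (nat_lit 3),
  Rule.mk (nat_lit 5) (nat_lit 57) (Steps.bwd (nat_lit 1) (Steps.bwd (nat_lit 10) (Steps.fwd (nat_lit 4096) Steps.nil))) (nat_lit 13) (nat_lit 2),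
  Rule.mk (nat_lit 1) (nat_lit 72) (Steps.bwd (nat_lit 8) (Steps.bwd (nat_lit 8) (Steps.fwd (nat_lit 4096) (Steps.fwd (nat_lit 36864) Steps.nil)))) (nat_lit 43) (nat_lit 0),
  Rule.mk (nat_lit 1) (nat_lit 57) (Steps.fwd (nat_lit 36864) (Steps.fwd (nat_lit 4096) (Steps.bwd (nat_lit 5) Steps.nil))) (nat_lit 13) (nat_lit 3),
  Rule.mk (nat_lit 2) (nat_lit 57) (Steps.bwd (nat_lit 6) (Steps.bwd (nat_lit 1) (Steps.fwd (nat_lit 40960) Steps.nil))) (nat_lit 12) (nat_lit 2),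
  Rule.mk (nat_lit 5) (nat_lit 57) (Steps.fwd (nat_lit 8192) (Steps.fwd (nat_lit 36864) (Steps.bwd (nat_lit 2) Steps.nil))) (nat_lit 13) (nat_lit 2),
  Rule.mk (nat_lit 2) (nat_lit 72) (Steps.bwd (nat_lit 10) (Steps.bwd (nat_lit 1) (Steps.bwd (nat_lit 8) (Steps.bwd (nat_lit 8) Steps.nil)))) (nat_lit 43) (nat_lit 3),
  Rule.mk (nat_lit 1) (nat_lit 72) (Steps.bwd (nat_lit 8) (Steps.fwd (nat_lit 28672) (Steps.fwd (nat_lit 4096) (Steps.fwd (nat_lit 36864) Steps.nil)))) (nat_lit 43) (nat_lit 0),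
  Rule.mk (nat_lit 2) (nat_lit 72) (Steps.fwd (nat_lit 40960) (Steps.bwd (nat_lit 1) (Steps.fwd (nat_lit 32768) (Steps.fwd (nat_lit 32768) Steps.nil)))) (nat_lit 42) (nat_lit 1),
  Rule.mk (nat_lit 2) (nat_lit 87) (Steps.bwd (nat_lit 2) (Steps.fwd (nat_lit 16384) (Steps.bwd (nat_lit 1) (Steps.bwd (nat_lit 1) (Steps.bwd (nat_lit 4) Steps.nil))))) (nat_lit 7) (nat_lit 2),
  Rule.mk (nat_lit 2) (nat_lit 87) (Steps.bwd (nat_lit 2) (Steps.bwd (nat_lit 3) (Steps.fwd (nat_lit 8192) (Steps.bwd (nat_lit 1) (Steps.bwd (nat_lit 4) Steps.nil))))) (nat_lit 7) (nat_lit 2),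
  Rule.mk (nat_lit 5) (nat_lit 57) (Steps.bwd (nat_lit 1) (Steps.fwd (nat_lit 36864) (Steps.bwd (nat_lit 2) Steps.nil))) (nat_lit 13) (nat_lit 2),
  Rule.mk (nat_lit 1) (nat_lit 72) (Steps.bwd (nat_lit 8) (Steps.bwd (nat_lit 8) (Steps.bwd (nat_lit 2) (Steps.bwd (nat_lit 10) Steps.nil)))) (nat_lit 43) (nat_lit 0),
  Rule.mk (nat_lit 1) (nat_lit 57) (Steps.bwd (nat_lit 10) (Steps.fwd (nat_lit 4096) (Steps.bwd (nat_lit 5) Steps.nil))) (nat_lit 13) (nat_lit 3),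
  Rule.mk (nat_lit 1) (nat_lit 117) (Steps.bwd (nat_lit 1) (Steps.bwd (nat_lit 1) (Steps.bwd (nat_lit 1) (Steps.bwd (nat_lit 1) (Steps.fwd (nat_lit 8192) (Steps.bwd (nat_lit 1) (Steps.bwd (nat_lit 1) Steps.nil))))))) (nat_lit 0) (nat_lit 0),
  Rule.mk (nat_lit 8) (nat_lit 72) (Steps.bwd (nat_lit 2) (Steps.fwd (nat_lit 36864) (Steps.bwd (nat_lit 1) (Steps.bwd (nat_lit 8) Steps.nil)))) (nat_lit 43) (nat_lit 2)]
noncomputable def R_1 : List (Rule) := [Rule.mk (nat_lit 2) (nat_lit 57) (Steps.bwd (nat_lit 5) (Steps.fwd (nat_lit 8192) (Steps.fwd (nat_lit 36864) Steps.nil))) (nat_lit 13) (nat_lit 1),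
  Rule.mk (nat_lit 2) (nat_lit 117) (Steps.bwd (nat_lit 2) (Steps.fwd (nat_lit 4096) (Steps.bwd (nat_lit 2) (Steps.bwd (nat_lit 2) (Steps.fwd (nat_lit 4096) (Steps.bwd (nat_lit 2) (Steps.bwd (nat_lit 2) Steps.nil))))))) (nat_lit 1) (nat_lit 0),
  Rule.mk (nat_lit 1) (nat_lit 72) (Steps.fwd (nat_lit 32768) (Steps.bwd (nat_lit 7) (Steps.bwd (nat_lit 2) (Steps.bwd (nat_lit 9) Steps.nil)))) (nat_lit 42) (nat_lit 3),
  Rule.mk (nat_lit 6) (nat_lit 57) (Steps.bwd (nat_lit 1) (Steps.fwd (nat_lit 40960) (Steps.bwd (nat_lit 2) Steps.nil))) (nat_lit 12) (nat_lit 3),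
  Rule.mk (nat_lit 1) (nat_lit 117) (Steps.bwd (nat_lit 1) (Steps.fwd (nat_lit 8192) (Steps.bwd (nat_lit 1) (Steps.bwd (nat_lit 1) (Steps.bwd (nat_lit 1) (Steps.bwd (nat_lit 1) (Steps.bwd (nat_lit 1) Steps.nil))))))) (nat_lit 0) (nat_lit 0),
  Rule.mk (nat_lit 7) (nat_lit 72) (Steps.fwd (nat_lit 32768) (Steps.bwd (nat_lit 2) (Steps.bwd (nat_lit 9) (Steps.bwd (nat_lit 1) Steps.nil)))) (nat_lit 42) (nat_lit 4),
  Rule.mk (nat_lit 7) (nat_lit 72) (Steps.bwd (nat_lit 7) (Steps.bwd (nat_lit 7) (Steps.fwd (nat_lit 32768) (Steps.fwd (nat_lit 32768) Steps.nil)))) (nat_lit 20) (nat_lit 0),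
  Rule.mk (nat_lit 1) (nat_lit 72) (Steps.bwd (nat_lit 7) (Steps.bwd (nat_lit 7) (Steps.bwd (nat_lit 2) (Steps.fwd (nat_lit 40960) Steps.nil)))) (nat_lit 42) (nat_lit 3),
  Rule.mk (nat_lit 7) (nat_lit 72) (Steps.bwd (nat_lit 2) (Steps.bwd (nat_lit 9) (Steps.bwd (nat_lit 1) (Steps.bwd (nat_lit 7) Steps.nil)))) (nat_lit 42) (nat_lit 0),
  Rule.mk (nat_lit 2) (nat_lit 117) (Steps.bwd (nat_lit 2) (Steps.bwd (nat_lit 2) (Steps.bwd (nat_lit 2) (Steps.fwd (nat_lit 4096) (Steps.bwd (nat_lit 2) (Steps.bwd (nat_lit 2) (Steps.fwd (nat_lit 4096) Steps.nil))))))) (nat_lit 1) (nat_lit 0),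
  Rule.mk (nat_lit 6) (nat_lit 57) (Steps.fwd (nat_lit 8192) (Steps.fwd (nat_lit 40960) (Steps.bwd (nat_lit 2) Steps.nil))) (nat_lit 12) (nat_lit 3),
  Rule.mk (nat_lit 2) (nat_lit 87) (Steps.bwd (nat_lit 2) (Steps.fwd (nat_lit 12288) (Steps.bwd (nat_lit 1) (Steps.bwd (nat_lit 1) (Steps.bwd (nat_lit 3) Steps.nil))))) (nat_lit 6) (nat_lit 1),
  Rule.mk (nat_lit 2) (nat_lit 87) (Steps.bwd (nat_lit 2) (Steps.bwd (nat_lit 4) (Steps.fwd (nat_lit 8192) (Steps.bwd (nat_lit 1) (Steps.bwd (nat_lit 3) Steps.nil))))) (nat_lit 6) (nat_lit 1),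
  Rule.mk (nat_lit 7) (nat_lit 102) (Steps.bwd (nat_lit 13) (Steps.bwd (nat_lit 2) (Steps.bwd (nat_lit 12) (Steps.bwd (nat_lit 1) (Steps.bwd (nat_lit 12) (Steps.fwd (nat_lit 45056) Steps.nil)))))) (nat_lit 45) (nat_lit 3),
  Rule.mk (nat_lit 13) (nat_lit 57) (Steps.bwd (nat_lit 3) (Steps.bwd (nat_lit 6) (Steps.fwd (nat_lit 12288) Steps.nil))) (nat_lit 16) (nat_lit 1),
  Rule.mk (nat_lit 9) (nat_lit 57) (Steps.bwd (nat_lit 2) (Steps.bwd (nat_lit 6) (Steps.fwd (nat_lit 8192) Steps.nil))) (nat_lit 12) (nat_lit 1),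
  Rule.mk (nat_lit 4) (nat_lit 57) (Steps.bwd (nat_lit 15) (Steps.bwd (nat_lit 3) (Steps.fwd (nat_lit 61440) Steps.nil))) (nat_lit 54) (nat_lit 1),
  Rule.mk (nat_lit 4) (nat_lit 57) (Steps.bwd (nat_lit 15) (Steps.fwd (nat_lit 16384) (Steps.fwd (nat_lit 61440) Steps.nil))) (nat_lit 54) (nat_lit 1),
  Rule.mk (nat_lit 1) (nat_lit 72) (Steps.bwd (nat_lit 15) (Steps.bwd (nat_lit 15) (Steps.fwd (nat_lit 4096) (Steps.fwd (nat_lit 61440) Steps.nil)))) (nat_lit 49) (nat_lit 0),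
  Rule.mk (nat_lit 16) (nat_lit 57) (Steps.bwd (nat_lit 14) (Steps.bwd (nat_lit 15) (Steps.fwd (nat_lit 57344) Steps.nil))) (nat_lit 31) (nat_lit 1),
  Rule.mk (nat_lit 7) (nat_lit 57) (Steps.bwd (nat_lit 15) (Steps.fwd (nat_lit 28672) (Steps.fwd (nat_lit 61440) Steps.nil))) (nat_lit 24) (nat_lit 3),
  Rule.mk (nat_lit 3) (nat_lit 57) (Steps.bwd (nat_lit 15) (Steps.bwd (nat_lit 4) (Steps.bwd (nat_lit 16) Steps.nil))) (nat_lit 55) (nat_lit 0),
  Rule.mk (nat_lit 6) (nat_lit 57) (Steps.bwd (nat_lit 4) (Steps.fwd (nat_lit 57344) (Steps.bwd (nat_lit 3) Steps.nil))) (nat_lit 16) (nat_lit 3),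
  Rule.mk (nat_lit 16) (nat_lit 57) (Steps.bwd (nat_lit 8) (Steps.bwd (nat_lit 15) (Steps.bwd (nat_lit 7) Steps.nil))) (nat_lit 25) (nat_lit 1),
  Rule.mk (nat_lit 4) (nat_lit 57) (Steps.bwd (nat_lit 14) (Steps.fwd (nat_lit 16384) (Steps.bwd (nat_lit 5) Steps.nil))) (nat_lit 17) (nat_lit 3),
  Rule.mk (nat_lit 8) (nat_lit 87) (Steps.bwd (nat_lit 14) (Steps.fwd (nat_lit 32768) (Steps.fwd (nat_lit 57344) (Steps.bwd (nat_lit 16) (Steps.bwd (nat_lit 16) Steps.nil))))) (nat_lit 34) (nat_lit 1),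
  Rule.mk (nat_lit 12) (nat_lit 57) (Steps.bwd (nat_lit 4) (Steps.bwd (nat_lit 5) (Steps.fwd (nat_lit 16384) Steps.nil))) (nat_lit 15) (nat_lit 0),
  Rule.mk (nat_lit 5) (nat_lit 57) (Steps.bwd (nat_lit 4) (Steps.bwd (nat_lit 14) (Steps.fwd (nat_lit 16384) Steps.nil))) (nat_lit 17) (nat_lit 2),
  Rule.mk (nat_lit 15) (nat_lit 57) (Steps.bwd (nat_lit 11) (Steps.bwd (nat_lit 16) (Steps.bwd (nat_lit 12) Steps.nil))) (nat_lit 29) (nat_lit 3),
  Rule.mk (nat_lit 8) (nat_lit 57) (Steps.bwd (nat_lit 16) (Steps.fwd (nat_lit 32768) (Steps.fwd (nat_lit 65536) Steps.nil))) (nat_lit 24) (nat_lit 1),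
  Rule.mk (nat_lit 4) (nat_lit 57) (Steps.bwd (nat_lit 16) (Steps.fwd (nat_lit 16384) (Steps.bwd (nat_lit 15) Steps.nil))) (nat_lit 55) (nat_lit 2),
  Rule.mk (nat_lit 5) (nat_lit 57) (Steps.bwd (nat_lit 3) (Steps.fwd (nat_lit 45056) (Steps.bwd (nat_lit 4) Steps.nil))) (nat_lit 15) (nat_lit 2),
  Rule.mk (nat_lit 10) (nat_lit 72) (Steps.bwd (nat_lit 7) (Steps.bwd (nat_lit 9) (Steps.bwd (nat_lit 16) (Steps.bwd (nat_lit 8) Steps.nil)))) (nat_lit 19) (nat_lit 2),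
  Rule.mk (nat_lit 16) (nat_lit 57) (Steps.bwd (nat_lit 9) (Steps.fwd (nat_lit 65536) (Steps.bwd (nat_lit 10) Steps.nil))) (nat_lit 26) (nat_lit 2),
  Rule.mk (nat_lit 7) (nat_lit 57) (Steps.bwd (nat_lit 15) (Steps.fwd (nat_lit 28672) (Steps.bwd (nat_lit 16) Steps.nil))) (nat_lit 24) (nat_lit 3),
  Rule.mk (nat_lit 10) (nat_lit 57) (Steps.bwd (nat_lit 15) (Steps.bwd (nat_lit 9) (Steps.bwd (nat_lit 16) Steps.nil))) (nat_lit 27) (nat_lit 2),
  Rule.mk (nat_lit 8) (nat_lit 72) (Steps.bwd (nat_lit 9) (Steps.bwd (nat_lit 7) (Steps.bwd (nat_lit 15) (Steps.bwd (nat_lit 10) Steps.nil)))) (nat_lit 18) (nat_lit 3),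
  Rule.mk (nat_lit 10) (nat_lit 57) (Steps.bwd (nat_lit 2) (Steps.bwd (nat_lit 5) (Steps.fwd (nat_lit 8192) Steps.nil))) (nat_lit 13) (nat_lit 0),
  Rule.mk (nat_lit 10) (nat_lit 57) (Steps.bwd (nat_lit 16) (Steps.bwd (nat_lit 9) (Steps.fwd (nat_lit 65536) Steps.nil))) (nat_lit 26) (nat_lit 1),
  Rule.mk (nat_lit 15) (nat_lit 57) (Steps.bwd (nat_lit 8) (Steps.bwd (nat_lit 16) (Steps.fwd (nat_lit 32768) Steps.nil))) (nat_lit 24) (nat_lit 0),
  Rule.mk (nat_lit 13) (nat_lit 57) (Steps.bwd (nat_lit 16) (Steps.fwd (nat_lit 53248) (Steps.bwd (nat_lit 15) Steps.nil))) (nat_lit 31) (nat_lit 0),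
  Rule.mk (nat_lit 15) (nat_lit 57) (Steps.bwd (nat_lit 14) (Steps.bwd (nat_lit 16) (Steps.fwd (nat_lit 57344) Steps.nil))) (nat_lit 30) (nat_lit 0),
  Rule.mk (nat_lit 13) (nat_lit 57) (Steps.fwd (nat_lit 61440) (Steps.bwd (nat_lit 14) (Steps.bwd (nat_lit 15) Steps.nil))) (nat_lit 31) (nat_lit 0),
  Rule.mk (nat_lit 9) (nat_lit 57) (Steps.bwd (nat_lit 16) (Steps.fwd (nat_lit 36864) (Steps.bwd (nat_lit 15) Steps.nil))) (nat_lit 27) (nat_lit 0),
  Rule.mk (nat_lit 15) (nat_lit 57) (Steps.bwd (nat_lit 10) (Steps.bwd (nat_lit 16) (Steps.bwd (nat_lit 9) Steps.nil))) (nat_lit 26) (nat_lit 0),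
  Rule.mk (nat_lit 9) (nat_lit 57) (Steps.bwd (nat_lit 16) (Steps.bwd (nat_lit 10) (Steps.bwd (nat_lit 15) Steps.nil))) (nat_lit 27) (nat_lit 0),
  Rule.mk (nat_lit 14) (nat_lit 57) (Steps.bwd (nat_lit 16) (Steps.fwd (nat_lit 57344) (Steps.bwd (nat_lit 15) Steps.nil))) (nat_lit 30) (nat_lit 1),
  Rule.mk (nat_lit 13) (nat_lit 57) (Steps.bwd (nat_lit 16) (Steps.fwd (nat_lit 53248) (Steps.fwd (nat_lit 65536) Steps.nil))) (nat_lit 31) (nat_lit 0),
  Rule.mk (nat_lit 14) (nat_lit 87) (Steps.bwd (nat_lit 7) (Steps.bwd (nat_lit 13) (Steps.bwd (nat_lit 16) (Steps.fwd (nat_lit 61440) (Steps.fwd (nat_lit 28672) Steps.nil))))) (nat_lit 34) (nat_lit 2),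
  Rule.mk (nat_lit 15) (nat_lit 57) (Steps.bwd (nat_lit 10) (Steps.bwd (nat_lit 16) (Steps.fwd (nat_lit 40960) Steps.nil))) (nat_lit 26) (nat_lit 0),
  Rule.mk (nat_lit 3) (nat_lit 57) (Steps.fwd (nat_lit 61440) (Steps.fwd (nat_lit 12288) (Steps.bwd (nat_lit 15) Steps.nil))) (nat_lit 54) (nat_lit 3),
  Rule.mk (nat_lit 15) (nat_lit 72) (Steps.bwd (nat_lit 2) (Steps.fwd (nat_lit 61440) (Steps.bwd (nat_lit 1) (Steps.bwd (nat_lit 15) Steps.nil)))) (nat_lit 49) (nat_lit 2),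
  Rule.mk (nat_lit 15) (nat_lit 72) (Steps.bwd (nat_lit 15) (Steps.bwd (nat_lit 15) (Steps.bwd (nat_lit 15) (Steps.bwd (nat_lit 15) Steps.nil)))) (nat_lit 22) (nat_lit 0),
  Rule.mk (nat_lit 1) (nat_lit 72) (Steps.fwd (nat_lit 61440) (Steps.fwd (nat_lit 61440) (Steps.bwd (nat_lit 2) (Steps.bwd (nat_lit 15) Steps.nil)))) (nat_lit 48) (nat_lit 3),
  Rule.mk (nat_lit 9) (nat_lit 57) (Steps.bwd (nat_lit 16) (Steps.fwd (nat_lit 36864) (Steps.fwd (nat_lit 65536) Steps.nil))) (nat_lit 27) (nat_lit 0),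
  Rule.mk (nat_lit 13) (nat_lit 57) (Steps.bwd (nat_lit 16) (Steps.bwd (nat_lit 14) (Steps.bwd (nat_lit 15) Steps.nil))) (nat_lit 31) (nat_lit 0),
  Rule.mk (nat_lit 16) (nat_lit 72) (Steps.bwd (nat_lit 16) (Steps.bwd (nat_lit 16) (Steps.bwd (nat_lit 16) (Steps.bwd (nat_lit 16) Steps.nil)))) (nat_lit 23) (nat_lit 0),
  Rule.mk (nat_lit 15) (nat_lit 57) (Steps.bwd (nat_lit 10) (Steps.fwd (nat_lit 61440) (Steps.fwd (nat_lit 40960) Steps.nil))) (nat_lit 26) (nat_lit 0),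
  Rule.mk (nat_lit 13) (nat_lit 57) (Steps.bwd (nat_lit 10) (Steps.bwd (nat_lit 14) (Steps.bwd (nat_lit 9) Steps.nil))) (nat_lit 38) (nat_lit 0),
  Rule.mk (nat_lit 3) (nat_lit 57) (Steps.bwd (nat_lit 16) (Steps.fwd (nat_lit 12288) (Steps.bwd (nat_lit 15) Steps.nil))) (nat_lit 54) (nat_lit 3),
  Rule.mk (nat_lit 6) (nat_lit 57) (Steps.bwd (nat_lit 4) (Steps.bwd (nat_lit 13) (Steps.bwd (nat_lit 3) Steps.nil))) (nat_lit 16) (nat_lit 3),
  Rule.mk (nat_lit 5) (nat_lit 57) (Steps.bwd (nat_lit 4) (Steps.fwd (nat_lit 53248) (Steps.bwd (nat_lit 3) Steps.nil))) (nat_lit 17) (nat_lit 2),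
  Rule.mk (nat_lit 15) (nat_lit 57) (Steps.bwd (nat_lit 4) (Steps.bwd (nat_lit 16) (Steps.fwd (nat_lit 16384) Steps.nil))) (nat_lit 55) (nat_lit 1),
  Rule.mk (nat_lit 8) (nat_lit 57) (Steps.fwd (nat_lit 61440) (Steps.bwd (nat_lit 7) (Steps.bwd (nat_lit 15) Steps.nil))) (nat_lit 24) (nat_lit 1)]
noncomputable def R_2 : List (Rule) := [Rule.mk (nat_lit 7) (nat_lit 57) (Steps.bwd (nat_lit 16) (Steps.fwd (nat_lit 28672) (Steps.bwd (nat_lit 15) Steps.nil))) (nat_lit 25) (nat_lit 0),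
  Rule.mk (nat_lit 3) (nat_lit 57) (Steps.bwd (nat_lit 12) (Steps.fwd (nat_lit 12288) (Steps.bwd (nat_lit 5) Steps.nil))) (nat_lit 15) (nat_lit 3),
  Rule.mk (nat_lit 15) (nat_lit 57) (Steps.bwd (nat_lit 12) (Steps.fwd (nat_lit 61440) (Steps.fwd (nat_lit 49152) Steps.nil))) (nat_lit 28) (nat_lit 0),
  Rule.mk (nat_lit 11) (nat_lit 57) (Steps.bwd (nat_lit 4) (Steps.bwd (nat_lit 6) (Steps.bwd (nat_lit 3) Steps.nil))) (nat_lit 14) (nat_lit 1),
  Rule.mk (nat_lit 11) (nat_lit 57) (Steps.bwd (nat_lit 16) (Steps.bwd (nat_lit 12) (Steps.bwd (nat_lit 15) Steps.nil))) (nat_lit 29) (nat_lit 0),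
  Rule.mk (nat_lit 4) (nat_lit 57) (Steps.bwd (nat_lit 6) (Steps.fwd (nat_lit 16384) (Steps.bwd (nat_lit 11) Steps.nil))) (nat_lit 14) (nat_lit 2),
  Rule.mk (nat_lit 16) (nat_lit 57) (Steps.bwd (nat_lit 3) (Steps.fwd (nat_lit 65536) (Steps.bwd (nat_lit 4) Steps.nil))) (nat_lit 55) (nat_lit 3),
  Rule.mk (nat_lit 15) (nat_lit 57) (Steps.bwd (nat_lit 7) (Steps.fwd (nat_lit 61440) (Steps.bwd (nat_lit 8) Steps.nil))) (nat_lit 25) (nat_lit 3),
  Rule.mk (nat_lit 14) (nat_lit 87) (Steps.bwd (nat_lit 7) (Steps.bwd (nat_lit 13) (Steps.bwd (nat_lit 16) (Steps.bwd (nat_lit 16) (Steps.bwd (nat_lit 8) Steps.nil))))) (nat_lit 34) (nat_lit 2),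
  Rule.mk (nat_lit 15) (nat_lit 57) (Steps.bwd (nat_lit 13) (Steps.fwd (nat_lit 61440) (Steps.bwd (nat_lit 14) Steps.nil))) (nat_lit 31) (nat_lit 3),
  Rule.mk (nat_lit 15) (nat_lit 57) (Steps.bwd (nat_lit 3) (Steps.bwd (nat_lit 16) (Steps.bwd (nat_lit 4) Steps.nil))) (nat_lit 54) (nat_lit 2),
  Rule.mk (nat_lit 10) (nat_lit 57) (Steps.bwd (nat_lit 16) (Steps.bwd (nat_lit 9) (Steps.bwd (nat_lit 15) Steps.nil))) (nat_lit 26) (nat_lit 1),
  Rule.mk (nat_lit 14) (nat_lit 57) (Steps.bwd (nat_lit 10) (Steps.bwd (nat_lit 13) (Steps.bwd (nat_lit 9) Steps.nil))) (nat_lit 39) (nat_lit 1),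
  Rule.mk (nat_lit 14) (nat_lit 57) (Steps.bwd (nat_lit 16) (Steps.bwd (nat_lit 13) (Steps.bwd (nat_lit 15) Steps.nil))) (nat_lit 30) (nat_lit 1),
  Rule.mk (nat_lit 15) (nat_lit 57) (Steps.bwd (nat_lit 10) (Steps.fwd (nat_lit 61440) (Steps.bwd (nat_lit 9) Steps.nil))) (nat_lit 26) (nat_lit 0),
  Rule.mk (nat_lit 9) (nat_lit 57) (Steps.bwd (nat_lit 2) (Steps.fwd (nat_lit 20480) (Steps.fwd (nat_lit 8192) Steps.nil))) (nat_lit 12) (nat_lit 1),
  Rule.mk (nat_lit 2) (nat_lit 72) (Steps.bwd (nat_lit 16) (Steps.bwd (nat_lit 1) (Steps.fwd (nat_lit 65536) (Steps.bwd (nat_lit 15) Steps.nil)))) (nat_lit 49) (nat_lit 3),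
  Rule.mk (nat_lit 15) (nat_lit 72) (Steps.bwd (nat_lit 1) (Steps.bwd (nat_lit 16) (Steps.bwd (nat_lit 16) (Steps.bwd (nat_lit 2) Steps.nil)))) (nat_lit 48) (nat_lit 2),
  Rule.mk (nat_lit 7) (nat_lit 57) (Steps.bwd (nat_lit 16) (Steps.bwd (nat_lit 8) (Steps.bwd (nat_lit 15) Steps.nil))) (nat_lit 25) (nat_lit 0),
  Rule.mk (nat_lit 15) (nat_lit 72) (Steps.bwd (nat_lit 2) (Steps.fwd (nat_lit 61440) (Steps.fwd (nat_lit 8192) (Steps.bwd (nat_lit 15) Steps.nil)))) (nat_lit 49) (nat_lit 2),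
  Rule.mk (nat_lit 1) (nat_lit 72) (Steps.bwd (nat_lit 16) (Steps.bwd (nat_lit 16) (Steps.fwd (nat_lit 4096) (Steps.bwd (nat_lit 15) Steps.nil)))) (nat_lit 48) (nat_lit 3),
  Rule.mk (nat_lit 2) (nat_lit 87) (Steps.bwd (nat_lit 2) (Steps.fwd (nat_lit 12288) (Steps.fwd (nat_lit 8192) (Steps.bwd (nat_lit 1) (Steps.bwd (nat_lit 3) Steps.nil))))) (nat_lit 6) (nat_lit 1),
  Rule.mk (nat_lit 9) (nat_lit 57) (Steps.bwd (nat_lit 15) (Steps.bwd (nat_lit 10) (Steps.fwd (nat_lit 61440) Steps.nil))) (nat_lit 26) (nat_lit 3),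
  Rule.mk (nat_lit 16) (nat_lit 57) (Steps.bwd (nat_lit 10) (Steps.fwd (nat_lit 65536) (Steps.bwd (nat_lit 9) Steps.nil))) (nat_lit 27) (nat_lit 1),
  Rule.mk (nat_lit 8) (nat_lit 72) (Steps.bwd (nat_lit 9) (Steps.fwd (nat_lit 32768) (Steps.bwd (nat_lit 15) (Steps.bwd (nat_lit 10) Steps.nil)))) (nat_lit 18) (nat_lit 3),
  Rule.mk (nat_lit 10) (nat_lit 72) (Steps.bwd (nat_lit 7) (Steps.fwd (nat_lit 40960) (Steps.fwd (nat_lit 61440) (Steps.bwd (nat_lit 8) Steps.nil)))) (nat_lit 19) (nat_lit 2),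
  Rule.mk (nat_lit 8) (nat_lit 57) (Steps.bwd (nat_lit 15) (Steps.bwd (nat_lit 7) (Steps.fwd (nat_lit 61440) Steps.nil))) (nat_lit 25) (nat_lit 2),
  Rule.mk (nat_lit 16) (nat_lit 57) (Steps.bwd (nat_lit 7) (Steps.fwd (nat_lit 65536) (Steps.bwd (nat_lit 8) Steps.nil))) (nat_lit 24) (nat_lit 2),
  Rule.mk (nat_lit 9) (nat_lit 57) (Steps.fwd (nat_lit 61440) (Steps.bwd (nat_lit 10) (Steps.fwd (nat_lit 65536) Steps.nil))) (nat_lit 27) (nat_lit 0),
  Rule.mk (nat_lit 16) (nat_lit 87) (Steps.bwd (nat_lit 8) (Steps.fwd (nat_lit 53248) (Steps.bwd (nat_lit 7) (Steps.fwd (nat_lit 57344) (Steps.bwd (nat_lit 16) Steps.nil))))) (nat_lit 34) (nat_lit 0),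
  Rule.mk (nat_lit 7) (nat_lit 57) (Steps.fwd (nat_lit 65536) (Steps.fwd (nat_lit 28672) (Steps.bwd (nat_lit 16) Steps.nil))) (nat_lit 24) (nat_lit 3),
  Rule.mk (nat_lit 12) (nat_lit 57) (Steps.bwd (nat_lit 15) (Steps.bwd (nat_lit 11) (Steps.fwd (nat_lit 61440) Steps.nil))) (nat_lit 29) (nat_lit 2),
  Rule.mk (nat_lit 16) (nat_lit 57) (Steps.bwd (nat_lit 11) (Steps.bwd (nat_lit 15) (Steps.bwd (nat_lit 12) Steps.nil))) (nat_lit 28) (nat_lit 2),
  Rule.mk (nat_lit 3) (nat_lit 57) (Steps.bwd (nat_lit 16) (Steps.fwd (nat_lit 12288) (Steps.fwd (nat_lit 65536) Steps.nil))) (nat_lit 54) (nat_lit 3),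
  Rule.mk (nat_lit 16) (nat_lit 72) (Steps.bwd (nat_lit 16) (Steps.fwd (nat_lit 61440) (Steps.bwd (nat_lit 16) (Steps.fwd (nat_lit 61440) Steps.nil)))) (nat_lit 23) (nat_lit 0),
  Rule.mk (nat_lit 5) (nat_lit 57) (Steps.bwd (nat_lit 4) (Steps.bwd (nat_lit 14) (Steps.bwd (nat_lit 3) Steps.nil))) (nat_lit 17) (nat_lit 2),
  Rule.mk (nat_lit 16) (nat_lit 57) (Steps.bwd (nat_lit 4) (Steps.fwd (nat_lit 65536) (Steps.fwd (nat_lit 16384) Steps.nil))) (nat_lit 54) (nat_lit 0),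
  Rule.mk (nat_lit 8) (nat_lit 57) (Steps.fwd (nat_lit 61440) (Steps.fwd (nat_lit 32768) (Steps.bwd (nat_lit 15) Steps.nil))) (nat_lit 24) (nat_lit 1),
  Rule.mk (nat_lit 12) (nat_lit 87) (Steps.bwd (nat_lit 7) (Steps.bwd (nat_lit 11) (Steps.fwd (nat_lit 65536) (Steps.fwd (nat_lit 65536) (Steps.fwd (nat_lit 28672) Steps.nil))))) (nat_lit 32) (nat_lit 2),
  Rule.mk (nat_lit 16) (nat_lit 57) (Steps.bwd (nat_lit 13) (Steps.fwd (nat_lit 65536) (Steps.bwd (nat_lit 14) Steps.nil))) (nat_lit 30) (nat_lit 2),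
  Rule.mk (nat_lit 8) (nat_lit 87) (Steps.bwd (nat_lit 13) (Steps.bwd (nat_lit 7) (Steps.fwd (nat_lit 65536) (Steps.fwd (nat_lit 65536) (Steps.bwd (nat_lit 14) Steps.nil))))) (nat_lit 35) (nat_lit 4),
  Rule.mk (nat_lit 14) (nat_lit 57) (Steps.bwd (nat_lit 15) (Steps.fwd (nat_lit 57344) (Steps.fwd (nat_lit 61440) Steps.nil))) (nat_lit 31) (nat_lit 2),
  Rule.mk (nat_lit 4) (nat_lit 57) (Steps.bwd (nat_lit 15) (Steps.bwd (nat_lit 3) (Steps.bwd (nat_lit 16) Steps.nil))) (nat_lit 54) (nat_lit 1),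
  Rule.mk (nat_lit 7) (nat_lit 87) (Steps.bwd (nat_lit 13) (Steps.fwd (nat_lit 61440) (Steps.fwd (nat_lit 61440) (Steps.fwd (nat_lit 28672) (Steps.bwd (nat_lit 14) Steps.nil))))) (nat_lit 34) (nat_lit 3),
  Rule.mk (nat_lit 11) (nat_lit 57) (Steps.bwd (nat_lit 4) (Steps.bwd (nat_lit 6) (Steps.fwd (nat_lit 16384) Steps.nil))) (nat_lit 14) (nat_lit 1),
  Rule.mk (nat_lit 3) (nat_lit 57) (Steps.bwd (nat_lit 12) (Steps.bwd (nat_lit 4) (Steps.fwd (nat_lit 24576) Steps.nil))) (nat_lit 15) (nat_lit 3),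
  Rule.mk (nat_lit 16) (nat_lit 57) (Steps.bwd (nat_lit 12) (Steps.bwd (nat_lit 15) (Steps.fwd (nat_lit 49152) Steps.nil))) (nat_lit 29) (nat_lit 1),
  Rule.mk (nat_lit 2) (nat_lit 87) (Steps.bwd (nat_lit 2) (Steps.bwd (nat_lit 4) (Steps.fwd (nat_lit 8192) (Steps.fwd (nat_lit 8192) (Steps.bwd (nat_lit 3) Steps.nil))))) (nat_lit 6) (nat_lit 1),
  Rule.mk (nat_lit 15) (nat_lit 72) (Steps.bwd (nat_lit 1) (Steps.fwd (nat_lit 61440) (Steps.bwd (nat_lit 16) (Steps.bwd (nat_lit 2) Steps.nil)))) (nat_lit 48) (nat_lit 2),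
  Rule.mk (nat_lit 15) (nat_lit 72) (Steps.bwd (nat_lit 15) (Steps.bwd (nat_lit 2) (Steps.fwd (nat_lit 61440) (Steps.fwd (nat_lit 8192) Steps.nil)))) (nat_lit 49) (nat_lit 1),
  Rule.mk (nat_lit 1) (nat_lit 72) (Steps.bwd (nat_lit 16) (Steps.fwd (nat_lit 61440) (Steps.bwd (nat_lit 2) (Steps.bwd (nat_lit 15) Steps.nil)))) (nat_lit 48) (nat_lit 3),
  Rule.mk (nat_lit 3) (nat_lit 57) (Steps.bwd (nat_lit 12) (Steps.bwd (nat_lit 4) (Steps.bwd (nat_lit 5) Steps.nil))) (nat_lit 15) (nat_lit 3),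
  Rule.mk (nat_lit 15) (nat_lit 57) (Steps.bwd (nat_lit 12) (Steps.fwd (nat_lit 61440) (Steps.bwd (nat_lit 11) Steps.nil))) (nat_lit 28) (nat_lit 0),
  Rule.mk (nat_lit 8) (nat_lit 87) (Steps.bwd (nat_lit 12) (Steps.bwd (nat_lit 7) (Steps.fwd (nat_lit 49152) (Steps.fwd (nat_lit 65536) (Steps.bwd (nat_lit 15) Steps.nil))))) (nat_lit 32) (nat_lit 1),
  Rule.mk (nat_lit 5) (nat_lit 57) (Steps.bwd (nat_lit 3) (Steps.bwd (nat_lit 12) (Steps.bwd (nat_lit 4) Steps.nil))) (nat_lit 15) (nat_lit 2),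
  Rule.mk (nat_lit 8) (nat_lit 87) (Steps.bwd (nat_lit 13) (Steps.fwd (nat_lit 32768) (Steps.bwd (nat_lit 15) (Steps.fwd (nat_lit 65536) (Steps.bwd (nat_lit 14) Steps.nil))))) (nat_lit 35) (nat_lit 4),
  Rule.mk (nat_lit 7) (nat_lit 57) (Steps.bwd (nat_lit 15) (Steps.bwd (nat_lit 8) (Steps.fwd (nat_lit 61440) Steps.nil))) (nat_lit 24) (nat_lit 3),
  Rule.mk (nat_lit 14) (nat_lit 57) (Steps.bwd (nat_lit 15) (Steps.fwd (nat_lit 57344) (Steps.bwd (nat_lit 16) Steps.nil))) (nat_lit 31) (nat_lit 2),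
  Rule.mk (nat_lit 16) (nat_lit 57) (Steps.bwd (nat_lit 13) (Steps.bwd (nat_lit 15) (Steps.bwd (nat_lit 14) Steps.nil))) (nat_lit 30) (nat_lit 2),
  Rule.mk (nat_lit 16) (nat_lit 57) (Steps.bwd (nat_lit 4) (Steps.bwd (nat_lit 15) (Steps.bwd (nat_lit 3) Steps.nil))) (nat_lit 54) (nat_lit 0),
  Rule.mk (nat_lit 10) (nat_lit 72) (Steps.bwd (nat_lit 12) (Steps.bwd (nat_lit 9) (Steps.bwd (nat_lit 11) (Steps.fwd (nat_lit 65536) Steps.nil)))) (nat_lit 36) (nat_lit 1),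
  Rule.mk (nat_lit 7) (nat_lit 72) (Steps.bwd (nat_lit 9) (Steps.bwd (nat_lit 16) (Steps.bwd (nat_lit 8) (Steps.bwd (nat_lit 10) Steps.nil)))) (nat_lit 19) (nat_lit 3),
  Rule.mk (nat_lit 10) (nat_lit 72) (Steps.bwd (nat_lit 11) (Steps.bwd (nat_lit 9) (Steps.bwd (nat_lit 16) (Steps.bwd (nat_lit 12) Steps.nil)))) (nat_lit 37) (nat_lit 3),
  Rule.mk (nat_lit 1) (nat_lit 72) (Steps.fwd (nat_lit 28672) (Steps.bwd (nat_lit 8) (Steps.fwd (nat_lit 4096) (Steps.bwd (nat_lit 10) Steps.nil)))) (nat_lit 43) (nat_lit 0)]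
noncomputable def R_3 : List (Rule) := [Rule.mk (nat_lit 1) (nat_lit 87) (Steps.bwd (nat_lit 1) (Steps.bwd (nat_lit 4) (Steps.fwd (nat_lit 4096) (Steps.bwd (nat_lit 2) (Steps.fwd (nat_lit 16384) Steps.nil))))) (nat_lit 7) (nat_lit 5),
  Rule.mk (nat_lit 15) (nat_lit 72) (Steps.bwd (nat_lit 15) (Steps.fwd (nat_lit 4096) (Steps.bwd (nat_lit 16) (Steps.bwd (nat_lit 1) Steps.nil)))) (nat_lit 49) (nat_lit 1),
  Rule.mk (nat_lit 9) (nat_lit 57) (Steps.bwd (nat_lit 2) (Steps.bwd (nat_lit 6) (Steps.bwd (nat_lit 1) Steps.nil))) (nat_lit 12) (nat_lit 1),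
  Rule.mk (nat_lit 9) (nat_lit 57) (Steps.bwd (nat_lit 2) (Steps.fwd (nat_lit 20480) (Steps.bwd (nat_lit 1) Steps.nil))) (nat_lit 12) (nat_lit 1),
  Rule.mk (nat_lit 15) (nat_lit 72) (Steps.bwd (nat_lit 2) (Steps.bwd (nat_lit 16) (Steps.fwd (nat_lit 8192) (Steps.bwd (nat_lit 15) Steps.nil)))) (nat_lit 49) (nat_lit 2),
  Rule.mk (nat_lit 1) (nat_lit 87) (Steps.bwd (nat_lit 1) (Steps.bwd (nat_lit 3) (Steps.fwd (nat_lit 4096) (Steps.bwd (nat_lit 2) (Steps.bwd (nat_lit 4) Steps.nil))))) (nat_lit 6) (nat_lit 4),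
  Rule.mk (nat_lit 15) (nat_lit 72) (Steps.bwd (nat_lit 15) (Steps.fwd (nat_lit 4096) (Steps.fwd (nat_lit 61440) (Steps.bwd (nat_lit 1) Steps.nil)))) (nat_lit 49) (nat_lit 1),
  Rule.mk (nat_lit 16) (nat_lit 57) (Steps.bwd (nat_lit 8) (Steps.bwd (nat_lit 15) (Steps.fwd (nat_lit 32768) Steps.nil))) (nat_lit 25) (nat_lit 1),
  Rule.mk (nat_lit 7) (nat_lit 57) (Steps.bwd (nat_lit 15) (Steps.bwd (nat_lit 8) (Steps.bwd (nat_lit 16) Steps.nil))) (nat_lit 24) (nat_lit 3),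
  Rule.mk (nat_lit 8) (nat_lit 57) (Steps.bwd (nat_lit 15) (Steps.fwd (nat_lit 32768) (Steps.fwd (nat_lit 61440) Steps.nil))) (nat_lit 25) (nat_lit 2),
  Rule.mk (nat_lit 16) (nat_lit 57) (Steps.bwd (nat_lit 7) (Steps.bwd (nat_lit 15) (Steps.bwd (nat_lit 8) Steps.nil))) (nat_lit 24) (nat_lit 2),
  Rule.mk (nat_lit 1) (nat_lit 57) (Steps.fwd (nat_lit 40960) (Steps.fwd (nat_lit 4096) (Steps.bwd (nat_lit 6) Steps.nil))) (nat_lit 12) (nat_lit 0),
  Rule.mk (nat_lit 15) (nat_lit 57) (Steps.bwd (nat_lit 7) (Steps.bwd (nat_lit 16) (Steps.bwd (nat_lit 8) Steps.nil))) (nat_lit 25) (nat_lit 3),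
  Rule.mk (nat_lit 9) (nat_lit 72) (Steps.bwd (nat_lit 1) (Steps.fwd (nat_lit 32768) (Steps.bwd (nat_lit 7) (Steps.fwd (nat_lit 4096) Steps.nil)))) (nat_lit 42) (nat_lit 2),
  Rule.mk (nat_lit 16) (nat_lit 72) (Steps.bwd (nat_lit 1) (Steps.bwd (nat_lit 15) (Steps.fwd (nat_lit 65536) (Steps.bwd (nat_lit 2) Steps.nil)))) (nat_lit 49) (nat_lit 4),
  Rule.mk (nat_lit 16) (nat_lit 57) (Steps.bwd (nat_lit 10) (Steps.bwd (nat_lit 15) (Steps.bwd (nat_lit 9) Steps.nil))) (nat_lit 27) (nat_lit 1),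
  Rule.mk (nat_lit 16) (nat_lit 72) (Steps.bwd (nat_lit 16) (Steps.fwd (nat_lit 61440) (Steps.fwd (nat_lit 61440) (Steps.bwd (nat_lit 16) Steps.nil)))) (nat_lit 23) (nat_lit 0),
  Rule.mk (nat_lit 1) (nat_lit 72) (Steps.bwd (nat_lit 16) (Steps.fwd (nat_lit 61440) (Steps.fwd (nat_lit 4096) (Steps.fwd (nat_lit 65536) Steps.nil)))) (nat_lit 48) (nat_lit 3),
  Rule.mk (nat_lit 1) (nat_lit 72) (Steps.bwd (nat_lit 7) (Steps.bwd (nat_lit 7) (Steps.fwd (nat_lit 4096) (Steps.bwd (nat_lit 9) Steps.nil)))) (nat_lit 42) (nat_lit 3),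
  Rule.mk (nat_lit 9) (nat_lit 72) (Steps.bwd (nat_lit 1) (Steps.fwd (nat_lit 32768) (Steps.bwd (nat_lit 7) (Steps.bwd (nat_lit 2) Steps.nil)))) (nat_lit 42) (nat_lit 2),
  Rule.mk (nat_lit 1) (nat_lit 117) (Steps.bwd (nat_lit 1) (Steps.fwd (nat_lit 8192) (Steps.bwd (nat_lit 1) (Steps.fwd (nat_lit 8192) (Steps.fwd (nat_lit 8192) (Steps.bwd (nat_lit 1) (Steps.bwd (nat_lit 1) Steps.nil))))))) (nat_lit 0) (nat_lit 0),
  Rule.mk (nat_lit 16) (nat_lit 72) (Steps.fwd (nat_lit 61440) (Steps.fwd (nat_lit 4096) (Steps.fwd (nat_lit 65536) (Steps.bwd (nat_lit 1) Steps.nil)))) (nat_lit 48) (nat_lit 4),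
  Rule.mk (nat_lit 8) (nat_lit 87) (Steps.bwd (nat_lit 13) (Steps.fwd (nat_lit 32768) (Steps.bwd (nat_lit 15) (Steps.bwd (nat_lit 15) (Steps.fwd (nat_lit 53248) Steps.nil))))) (nat_lit 35) (nat_lit 4),
  Rule.mk (nat_lit 10) (nat_lit 57) (Steps.bwd (nat_lit 16) (Steps.fwd (nat_lit 40960) (Steps.bwd (nat_lit 15) Steps.nil))) (nat_lit 26) (nat_lit 1),
  Rule.mk (nat_lit 1) (nat_lit 72) (Steps.bwd (nat_lit 16) (Steps.bwd (nat_lit 16) (Steps.bwd (nat_lit 2) (Steps.bwd (nat_lit 15) Steps.nil)))) (nat_lit 48) (nat_lit 3),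
  Rule.mk (nat_lit 15) (nat_lit 57) (Steps.fwd (nat_lit 40960) (Steps.fwd (nat_lit 61440) (Steps.bwd (nat_lit 10) Steps.nil))) (nat_lit 27) (nat_lit 3),
  Rule.mk (nat_lit 6) (nat_lit 57) (Steps.bwd (nat_lit 1) (Steps.fwd (nat_lit 40960) (Steps.fwd (nat_lit 4096) Steps.nil))) (nat_lit 12) (nat_lit 3),
  Rule.mk (nat_lit 16) (nat_lit 72) (Steps.bwd (nat_lit 1) (Steps.fwd (nat_lit 65536) (Steps.bwd (nat_lit 15) (Steps.bwd (nat_lit 2) Steps.nil)))) (nat_lit 49) (nat_lit 4),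
  Rule.mk (nat_lit 13) (nat_lit 57) (Steps.fwd (nat_lit 65536) (Steps.fwd (nat_lit 53248) (Steps.bwd (nat_lit 16) Steps.nil))) (nat_lit 30) (nat_lit 3),
  Rule.mk (nat_lit 4) (nat_lit 57) (Steps.bwd (nat_lit 13) (Steps.fwd (nat_lit 16384) (Steps.bwd (nat_lit 6) Steps.nil))) (nat_lit 16) (nat_lit 0),
  Rule.mk (nat_lit 2) (nat_lit 72) (Steps.bwd (nat_lit 15) (Steps.fwd (nat_lit 8192) (Steps.fwd (nat_lit 61440) (Steps.bwd (nat_lit 16) Steps.nil)))) (nat_lit 48) (nat_lit 1),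
  Rule.mk (nat_lit 8) (nat_lit 87) (Steps.bwd (nat_lit 13) (Steps.fwd (nat_lit 32768) (Steps.bwd (nat_lit 15) (Steps.bwd (nat_lit 15) (Steps.bwd (nat_lit 14) Steps.nil))))) (nat_lit 35) (nat_lit 4),
  Rule.mk (nat_lit 9) (nat_lit 72) (Steps.bwd (nat_lit 7) (Steps.fwd (nat_lit 65536) (Steps.bwd (nat_lit 10) (Steps.bwd (nat_lit 8) Steps.nil)))) (nat_lit 18) (nat_lit 4),
  Rule.mk (nat_lit 8) (nat_lit 72) (Steps.bwd (nat_lit 10) (Steps.fwd (nat_lit 32768) (Steps.bwd (nat_lit 9) (Steps.bwd (nat_lit 16) Steps.nil)))) (nat_lit 19) (nat_lit 1),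
  Rule.mk (nat_lit 10) (nat_lit 57) (Steps.bwd (nat_lit 13) (Steps.bwd (nat_lit 9) (Steps.fwd (nat_lit 53248) Steps.nil))) (nat_lit 39) (nat_lit 2),
  Rule.mk (nat_lit 9) (nat_lit 57) (Steps.bwd (nat_lit 13) (Steps.fwd (nat_lit 36864) (Steps.bwd (nat_lit 14) Steps.nil))) (nat_lit 38) (nat_lit 3),
  Rule.mk (nat_lit 10) (nat_lit 72) (Steps.bwd (nat_lit 8) (Steps.bwd (nat_lit 9) (Steps.fwd (nat_lit 32768) (Steps.fwd (nat_lit 65536) Steps.nil)))) (nat_lit 18) (nat_lit 2),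
  Rule.mk (nat_lit 14) (nat_lit 87) (Steps.bwd (nat_lit 8) (Steps.fwd (nat_lit 57344) (Steps.bwd (nat_lit 7) (Steps.fwd (nat_lit 65536) (Steps.bwd (nat_lit 15) Steps.nil))))) (nat_lit 35) (nat_lit 3),
  Rule.mk (nat_lit 16) (nat_lit 57) (Steps.bwd (nat_lit 9) (Steps.bwd (nat_lit 15) (Steps.fwd (nat_lit 36864) Steps.nil))) (nat_lit 26) (nat_lit 2),
  Rule.mk (nat_lit 15) (nat_lit 57) (Steps.bwd (nat_lit 9) (Steps.bwd (nat_lit 16) (Steps.bwd (nat_lit 10) Steps.nil))) (nat_lit 27) (nat_lit 3),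
  Rule.mk (nat_lit 14) (nat_lit 87) (Steps.bwd (nat_lit 7) (Steps.fwd (nat_lit 57344) (Steps.bwd (nat_lit 16) (Steps.fwd (nat_lit 61440) (Steps.bwd (nat_lit 8) Steps.nil))))) (nat_lit 34) (nat_lit 2),
  Rule.mk (nat_lit 10) (nat_lit 57) (Steps.bwd (nat_lit 13) (Steps.fwd (nat_lit 40960) (Steps.bwd (nat_lit 14) Steps.nil))) (nat_lit 39) (nat_lit 2),
  Rule.mk (nat_lit 7) (nat_lit 72) (Steps.bwd (nat_lit 9) (Steps.bwd (nat_lit 16) (Steps.fwd (nat_lit 28672) (Steps.bwd (nat_lit 10) Steps.nil)))) (nat_lit 19) (nat_lit 3),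
  Rule.mk (nat_lit 10) (nat_lit 72) (Steps.bwd (nat_lit 8) (Steps.fwd (nat_lit 40960) (Steps.fwd (nat_lit 32768) (Steps.bwd (nat_lit 15) Steps.nil)))) (nat_lit 18) (nat_lit 2),
  Rule.mk (nat_lit 16) (nat_lit 87) (Steps.bwd (nat_lit 8) (Steps.fwd (nat_lit 53248) (Steps.bwd (nat_lit 7) (Steps.bwd (nat_lit 13) (Steps.bwd (nat_lit 16) Steps.nil))))) (nat_lit 34) (nat_lit 0),
  Rule.mk (nat_lit 7) (nat_lit 72) (Steps.fwd (nat_lit 40960) (Steps.bwd (nat_lit 16) (Steps.bwd (nat_lit 8) (Steps.fwd (nat_lit 36864) Steps.nil)))) (nat_lit 19) (nat_lit 3),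
  Rule.mk (nat_lit 1) (nat_lit 72) (Steps.fwd (nat_lit 65536) (Steps.bwd (nat_lit 15) (Steps.fwd (nat_lit 4096) (Steps.bwd (nat_lit 16) Steps.nil)))) (nat_lit 49) (nat_lit 0),
  Rule.mk (nat_lit 7) (nat_lit 72) (Steps.bwd (nat_lit 9) (Steps.fwd (nat_lit 61440) (Steps.fwd (nat_lit 28672) (Steps.bwd (nat_lit 10) Steps.nil)))) (nat_lit 19) (nat_lit 3),
  Rule.mk (nat_lit 10) (nat_lit 57) (Steps.bwd (nat_lit 2) (Steps.fwd (nat_lit 24576) (Steps.fwd (nat_lit 8192) Steps.nil))) (nat_lit 13) (nat_lit 0),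
  Rule.mk (nat_lit 7) (nat_lit 72) (Steps.bwd (nat_lit 2) (Steps.bwd (nat_lit 9) (Steps.fwd (nat_lit 8192) (Steps.bwd (nat_lit 7) Steps.nil)))) (nat_lit 42) (nat_lit 0),
  Rule.mk (nat_lit 8) (nat_lit 57) (Steps.bwd (nat_lit 15) (Steps.bwd (nat_lit 7) (Steps.bwd (nat_lit 16) Steps.nil))) (nat_lit 25) (nat_lit 2),
  Rule.mk (nat_lit 10) (nat_lit 57) (Steps.bwd (nat_lit 15) (Steps.bwd (nat_lit 9) (Steps.fwd (nat_lit 61440) Steps.nil))) (nat_lit 27) (nat_lit 2),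
  Rule.mk (nat_lit 16) (nat_lit 72) (Steps.bwd (nat_lit 2) (Steps.fwd (nat_lit 65536) (Steps.bwd (nat_lit 1) (Steps.fwd (nat_lit 61440) Steps.nil)))) (nat_lit 48) (nat_lit 0),
  Rule.mk (nat_lit 16) (nat_lit 57) (Steps.fwd (nat_lit 40960) (Steps.fwd (nat_lit 65536) (Steps.bwd (nat_lit 10) Steps.nil))) (nat_lit 26) (nat_lit 2),
  Rule.mk (nat_lit 14) (nat_lit 57) (Steps.fwd (nat_lit 40960) (Steps.bwd (nat_lit 13) (Steps.bwd (nat_lit 10) Steps.nil))) (nat_lit 38) (nat_lit 2),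
  Rule.mk (nat_lit 10) (nat_lit 57) (Steps.bwd (nat_lit 16) (Steps.fwd (nat_lit 40960) (Steps.fwd (nat_lit 65536) Steps.nil))) (nat_lit 26) (nat_lit 1),
  Rule.mk (nat_lit 16) (nat_lit 57) (Steps.bwd (nat_lit 9) (Steps.fwd (nat_lit 65536) (Steps.fwd (nat_lit 36864) Steps.nil))) (nat_lit 26) (nat_lit 2),
  Rule.mk (nat_lit 15) (nat_lit 57) (Steps.bwd (nat_lit 9) (Steps.fwd (nat_lit 61440) (Steps.bwd (nat_lit 10) Steps.nil))) (nat_lit 27) (nat_lit 3),
  Rule.mk (nat_lit 1) (nat_lit 72) (Steps.fwd (nat_lit 61440) (Steps.fwd (nat_lit 61440) (Steps.fwd (nat_lit 4096) (Steps.bwd (nat_lit 15) Steps.nil)))) (nat_lit 48) (nat_lit 3),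
  Rule.mk (nat_lit 15) (nat_lit 57) (Steps.bwd (nat_lit 13) (Steps.bwd (nat_lit 16) (Steps.fwd (nat_lit 53248) Steps.nil))) (nat_lit 31) (nat_lit 3),
  Rule.mk (nat_lit 9) (nat_lit 57) (Steps.bwd (nat_lit 13) (Steps.fwd (nat_lit 36864) (Steps.fwd (nat_lit 53248) Steps.nil))) (nat_lit 38) (nat_lit 3),
  Rule.mk (nat_lit 2) (nat_lit 72) (Steps.bwd (nat_lit 16) (Steps.fwd (nat_lit 8192) (Steps.fwd (nat_lit 65536) (Steps.bwd (nat_lit 15) Steps.nil)))) (nat_lit 49) (nat_lit 3),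
  Rule.mk (nat_lit 15) (nat_lit 72) (Steps.bwd (nat_lit 1) (Steps.bwd (nat_lit 16) (Steps.bwd (nat_lit 16) (Steps.fwd (nat_lit 4096) Steps.nil)))) (nat_lit 48) (nat_lit 2),
  Rule.mk (nat_lit 2) (nat_lit 72) (Steps.bwd (nat_lit 16) (Steps.bwd (nat_lit 1) (Steps.fwd (nat_lit 65536) (Steps.fwd (nat_lit 65536) Steps.nil)))) (nat_lit 49) (nat_lit 3)]
noncomputable def R_4 : List (Rule) := [Rule.mk (nat_lit 13) (nat_lit 57) (Steps.fwd (nat_lit 61440) (Steps.fwd (nat_lit 53248) (Steps.bwd (nat_lit 15) Steps.nil))) (nat_lit 31) (nat_lit 0),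
  Rule.mk (nat_lit 14) (nat_lit 87) (Steps.bwd (nat_lit 7) (Steps.bwd (nat_lit 13) (Steps.fwd (nat_lit 61440) (Steps.bwd (nat_lit 16) (Steps.fwd (nat_lit 28672) Steps.nil))))) (nat_lit 34) (nat_lit 2),
  Rule.mk (nat_lit 2) (nat_lit 72) (Steps.bwd (nat_lit 15) (Steps.bwd (nat_lit 1) (Steps.fwd (nat_lit 61440) (Steps.bwd (nat_lit 16) Steps.nil)))) (nat_lit 48) (nat_lit 1),
  Rule.mk (nat_lit 16) (nat_lit 57) (Steps.bwd (nat_lit 7) (Steps.bwd (nat_lit 15) (Steps.fwd (nat_lit 28672) Steps.nil))) (nat_lit 24) (nat_lit 2),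
  Rule.mk (nat_lit 9) (nat_lit 72) (Steps.bwd (nat_lit 7) (Steps.bwd (nat_lit 15) (Steps.fwd (nat_lit 36864) (Steps.bwd (nat_lit 8) Steps.nil)))) (nat_lit 18) (nat_lit 4),
  Rule.mk (nat_lit 7) (nat_lit 72) (Steps.bwd (nat_lit 7) (Steps.bwd (nat_lit 2) (Steps.bwd (nat_lit 9) (Steps.bwd (nat_lit 1) Steps.nil)))) (nat_lit 42) (nat_lit 4),
  Rule.mk (nat_lit 8) (nat_lit 57) (Steps.bwd (nat_lit 16) (Steps.fwd (nat_lit 32768) (Steps.bwd (nat_lit 15) Steps.nil))) (nat_lit 24) (nat_lit 1),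
  Rule.mk (nat_lit 9) (nat_lit 72) (Steps.bwd (nat_lit 16) (Steps.fwd (nat_lit 28672) (Steps.fwd (nat_lit 36864) (Steps.bwd (nat_lit 7) Steps.nil)))) (nat_lit 19) (nat_lit 4),
  Rule.mk (nat_lit 2) (nat_lit 72) (Steps.bwd (nat_lit 16) (Steps.fwd (nat_lit 8192) (Steps.bwd (nat_lit 15) (Steps.fwd (nat_lit 65536) Steps.nil)))) (nat_lit 49) (nat_lit 3),
  Rule.mk (nat_lit 5) (nat_lit 57) (Steps.bwd (nat_lit 1) (Steps.bwd (nat_lit 10) (Steps.bwd (nat_lit 2) Steps.nil))) (nat_lit 13) (nat_lit 2),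
  Rule.mk (nat_lit 2) (nat_lit 72) (Steps.fwd (nat_lit 61440) (Steps.fwd (nat_lit 8192) (Steps.fwd (nat_lit 65536) (Steps.bwd (nat_lit 15) Steps.nil)))) (nat_lit 49) (nat_lit 3),
  Rule.mk (nat_lit 1) (nat_lit 87) (Steps.bwd (nat_lit 1) (Steps.bwd (nat_lit 3) (Steps.fwd (nat_lit 4096) (Steps.fwd (nat_lit 4096) (Steps.fwd (nat_lit 12288) Steps.nil))))) (nat_lit 6) (nat_lit 4),
  Rule.mk (nat_lit 15) (nat_lit 72) (Steps.bwd (nat_lit 15) (Steps.bwd (nat_lit 2) (Steps.bwd (nat_lit 16) (Steps.bwd (nat_lit 1) Steps.nil)))) (nat_lit 49) (nat_lit 1),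
  Rule.mk (nat_lit 8) (nat_lit 72) (Steps.bwd (nat_lit 9) (Steps.bwd (nat_lit 7) (Steps.bwd (nat_lit 15) (Steps.fwd (nat_lit 36864) Steps.nil)))) (nat_lit 18) (nat_lit 3),
  Rule.mk (nat_lit 15) (nat_lit 57) (Steps.fwd (nat_lit 28672) (Steps.bwd (nat_lit 16) (Steps.bwd (nat_lit 7) Steps.nil))) (nat_lit 24) (nat_lit 0),
  Rule.mk (nat_lit 15) (nat_lit 72) (Steps.bwd (nat_lit 15) (Steps.bwd (nat_lit 15) (Steps.bwd (nat_lit 15) (Steps.fwd (nat_lit 65536) Steps.nil)))) (nat_lit 22) (nat_lit 0),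
  Rule.mk (nat_lit 2) (nat_lit 72) (Steps.bwd (nat_lit 15) (Steps.fwd (nat_lit 8192) (Steps.bwd (nat_lit 16) (Steps.bwd (nat_lit 16) Steps.nil)))) (nat_lit 48) (nat_lit 1),
  Rule.mk (nat_lit 8) (nat_lit 87) (Steps.bwd (nat_lit 13) (Steps.bwd (nat_lit 7) (Steps.bwd (nat_lit 15) (Steps.bwd (nat_lit 15) (Steps.fwd (nat_lit 53248) Steps.nil))))) (nat_lit 35) (nat_lit 4),
  Rule.mk (nat_lit 10) (nat_lit 72) (Steps.bwd (nat_lit 8) (Steps.bwd (nat_lit 9) (Steps.fwd (nat_lit 32768) (Steps.bwd (nat_lit 15) Steps.nil)))) (nat_lit 18) (nat_lit 2),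
  Rule.mk (nat_lit 15) (nat_lit 57) (Steps.bwd (nat_lit 9) (Steps.bwd (nat_lit 16) (Steps.fwd (nat_lit 36864) Steps.nil))) (nat_lit 27) (nat_lit 3),
  Rule.mk (nat_lit 10) (nat_lit 57) (Steps.fwd (nat_lit 53248) (Steps.bwd (nat_lit 9) (Steps.bwd (nat_lit 13) Steps.nil))) (nat_lit 38) (nat_lit 1),
  Rule.mk (nat_lit 16) (nat_lit 72) (Steps.fwd (nat_lit 8192) (Steps.bwd (nat_lit 15) (Steps.bwd (nat_lit 15) (Steps.bwd (nat_lit 2) Steps.nil)))) (nat_lit 49) (nat_lit 4),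
  Rule.mk (nat_lit 8) (nat_lit 72) (Steps.bwd (nat_lit 8) (Steps.fwd (nat_lit 28672) (Steps.fwd (nat_lit 28672) (Steps.bwd (nat_lit 8) Steps.nil)))) (nat_lit 21) (nat_lit 0),
  Rule.mk (nat_lit 2) (nat_lit 57) (Steps.bwd (nat_lit 5) (Steps.fwd (nat_lit 8192) (Steps.bwd (nat_lit 10) Steps.nil))) (nat_lit 13) (nat_lit 1),
  Rule.mk (nat_lit 7) (nat_lit 72) (Steps.bwd (nat_lit 2) (Steps.fwd (nat_lit 40960) (Steps.fwd (nat_lit 8192) (Steps.bwd (nat_lit 7) Steps.nil)))) (nat_lit 42) (nat_lit 0),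
  Rule.mk (nat_lit 2) (nat_lit 117) (Steps.bwd (nat_lit 2) (Steps.bwd (nat_lit 2) (Steps.fwd (nat_lit 4096) (Steps.fwd (nat_lit 4096) (Steps.bwd (nat_lit 2) (Steps.bwd (nat_lit 2) (Steps.bwd (nat_lit 2) Steps.nil))))))) (nat_lit 1) (nat_lit 0),
  Rule.mk (nat_lit 16) (nat_lit 57) (Steps.bwd (nat_lit 9) (Steps.bwd (nat_lit 15) (Steps.bwd (nat_lit 10) Steps.nil))) (nat_lit 26) (nat_lit 2),
  Rule.mk (nat_lit 15) (nat_lit 72) (Steps.bwd (nat_lit 1) (Steps.bwd (nat_lit 16) (Steps.fwd (nat_lit 61440) (Steps.bwd (nat_lit 2) Steps.nil)))) (nat_lit 48) (nat_lit 2),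
  Rule.mk (nat_lit 8) (nat_lit 57) (Steps.bwd (nat_lit 16) (Steps.bwd (nat_lit 7) (Steps.bwd (nat_lit 15) Steps.nil))) (nat_lit 24) (nat_lit 1),
  Rule.mk (nat_lit 16) (nat_lit 72) (Steps.bwd (nat_lit 1) (Steps.bwd (nat_lit 15) (Steps.bwd (nat_lit 15) (Steps.bwd (nat_lit 2) Steps.nil)))) (nat_lit 49) (nat_lit 4),
  Rule.mk (nat_lit 14) (nat_lit 57) (Steps.fwd (nat_lit 65536) (Steps.bwd (nat_lit 13) (Steps.bwd (nat_lit 16) Steps.nil))) (nat_lit 31) (nat_lit 2),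
  Rule.mk (nat_lit 16) (nat_lit 72) (Steps.bwd (nat_lit 2) (Steps.bwd (nat_lit 15) (Steps.fwd (nat_lit 8192) (Steps.bwd (nat_lit 16) Steps.nil)))) (nat_lit 48) (nat_lit 0),
  Rule.mk (nat_lit 8) (nat_lit 87) (Steps.bwd (nat_lit 14) (Steps.bwd (nat_lit 7) (Steps.fwd (nat_lit 57344) (Steps.bwd (nat_lit 16) (Steps.bwd (nat_lit 16) Steps.nil))))) (nat_lit 34) (nat_lit 1),
  Rule.mk (nat_lit 16) (nat_lit 57) (Steps.bwd (nat_lit 7) (Steps.fwd (nat_lit 65536) (Steps.fwd (nat_lit 28672) Steps.nil))) (nat_lit 24) (nat_lit 2),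
  Rule.mk (nat_lit 10) (nat_lit 72) (Steps.bwd (nat_lit 7) (Steps.fwd (nat_lit 40960) (Steps.bwd (nat_lit 16) (Steps.bwd (nat_lit 8) Steps.nil)))) (nat_lit 19) (nat_lit 2),
  Rule.mk (nat_lit 13) (nat_lit 87) (Steps.bwd (nat_lit 7) (Steps.fwd (nat_lit 65536) (Steps.fwd (nat_lit 65536) (Steps.fwd (nat_lit 53248) (Steps.bwd (nat_lit 8) Steps.nil))))) (nat_lit 35) (nat_lit 5),
  Rule.mk (nat_lit 8) (nat_lit 57) (Steps.bwd (nat_lit 16) (Steps.bwd (nat_lit 7) (Steps.fwd (nat_lit 65536) Steps.nil))) (nat_lit 24) (nat_lit 1),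
  Rule.mk (nat_lit 15) (nat_lit 72) (Steps.bwd (nat_lit 15) (Steps.bwd (nat_lit 15) (Steps.fwd (nat_lit 65536) (Steps.bwd (nat_lit 15) Steps.nil)))) (nat_lit 22) (nat_lit 0),
  Rule.mk (nat_lit 9) (nat_lit 72) (Steps.fwd (nat_lit 32768) (Steps.fwd (nat_lit 65536) (Steps.bwd (nat_lit 10) (Steps.bwd (nat_lit 8) Steps.nil)))) (nat_lit 18) (nat_lit 4),
  Rule.mk (nat_lit 2) (nat_lit 57) (Steps.fwd (nat_lit 20480) (Steps.fwd (nat_lit 8192) (Steps.bwd (nat_lit 9) Steps.nil))) (nat_lit 12) (nat_lit 2),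
  Rule.mk (nat_lit 1) (nat_lit 72) (Steps.bwd (nat_lit 16) (Steps.fwd (nat_lit 61440) (Steps.bwd (nat_lit 2) (Steps.fwd (nat_lit 65536) Steps.nil)))) (nat_lit 48) (nat_lit 3),
  Rule.mk (nat_lit 2) (nat_lit 72) (Steps.bwd (nat_lit 15) (Steps.bwd (nat_lit 1) (Steps.bwd (nat_lit 16) (Steps.bwd (nat_lit 16) Steps.nil)))) (nat_lit 48) (nat_lit 1),
  Rule.mk (nat_lit 1) (nat_lit 72) (Steps.bwd (nat_lit 15) (Steps.fwd (nat_lit 65536) (Steps.bwd (nat_lit 2) (Steps.bwd (nat_lit 16) Steps.nil)))) (nat_lit 49) (nat_lit 0),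
  Rule.mk (nat_lit 8) (nat_lit 72) (Steps.bwd (nat_lit 2) (Steps.bwd (nat_lit 10) (Steps.fwd (nat_lit 8192) (Steps.bwd (nat_lit 8) Steps.nil)))) (nat_lit 43) (nat_lit 2),
  Rule.mk (nat_lit 8) (nat_lit 72) (Steps.bwd (nat_lit 8) (Steps.fwd (nat_lit 28672) (Steps.bwd (nat_lit 8) (Steps.bwd (nat_lit 8) Steps.nil)))) (nat_lit 21) (nat_lit 0),
  Rule.mk (nat_lit 13) (nat_lit 57) (Steps.bwd (nat_lit 10) (Steps.bwd (nat_lit 14) (Steps.fwd (nat_lit 40960) Steps.nil))) (nat_lit 38) (nat_lit 0),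
  Rule.mk (nat_lit 9) (nat_lit 72) (Steps.fwd (nat_lit 8192) (Steps.bwd (nat_lit 7) (Steps.fwd (nat_lit 32768) (Steps.bwd (nat_lit 2) Steps.nil)))) (nat_lit 42) (nat_lit 2),
  Rule.mk (nat_lit 15) (nat_lit 72) (Steps.bwd (nat_lit 15) (Steps.fwd (nat_lit 4096) (Steps.bwd (nat_lit 16) (Steps.fwd (nat_lit 8192) Steps.nil)))) (nat_lit 49) (nat_lit 1),
  Rule.mk (nat_lit 15) (nat_lit 57) (Steps.bwd (nat_lit 7) (Steps.bwd (nat_lit 16) (Steps.fwd (nat_lit 28672) Steps.nil))) (nat_lit 25) (nat_lit 3),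
  Rule.mk (nat_lit 1) (nat_lit 72) (Steps.bwd (nat_lit 7) (Steps.fwd (nat_lit 32768) (Steps.bwd (nat_lit 2) (Steps.bwd (nat_lit 9) Steps.nil)))) (nat_lit 42) (nat_lit 3),
  Rule.mk (nat_lit 8) (nat_lit 72) (Steps.bwd (nat_lit 2) (Steps.fwd (nat_lit 36864) (Steps.fwd (nat_lit 8192) (Steps.bwd (nat_lit 8) Steps.nil)))) (nat_lit 43) (nat_lit 2),
  Rule.mk (nat_lit 2) (nat_lit 117) (Steps.bwd (nat_lit 2) (Steps.fwd (nat_lit 4096) (Steps.bwd (nat_lit 2) (Steps.fwd (nat_lit 4096) (Steps.bwd (nat_lit 2) (Steps.fwd (nat_lit 4096) (Steps.fwd (nat_lit 4096) Steps.nil))))))) (nat_lit 1) (nat_lit 0),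
  Rule.mk (nat_lit 5) (nat_lit 57) (Steps.fwd (nat_lit 8192) (Steps.bwd (nat_lit 10) (Steps.bwd (nat_lit 2) Steps.nil))) (nat_lit 13) (nat_lit 2),
  Rule.mk (nat_lit 15) (nat_lit 72) (Steps.bwd (nat_lit 2) (Steps.bwd (nat_lit 16) (Steps.bwd (nat_lit 1) (Steps.fwd (nat_lit 65536) Steps.nil)))) (nat_lit 49) (nat_lit 2),
  Rule.mk (nat_lit 2) (nat_lit 117) (Steps.bwd (nat_lit 2) (Steps.bwd (nat_lit 2) (Steps.bwd (nat_lit 2) (Steps.bwd (nat_lit 2) (Steps.fwd (nat_lit 4096) (Steps.fwd (nat_lit 4096) (Steps.bwd (nat_lit 2) Steps.nil))))))) (nat_lit 1) (nat_lit 0),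
  Rule.mk (nat_lit 15) (nat_lit 72) (Steps.fwd (nat_lit 8192) (Steps.bwd (nat_lit 16) (Steps.fwd (nat_lit 61440) (Steps.bwd (nat_lit 2) Steps.nil)))) (nat_lit 48) (nat_lit 2),
  Rule.mk (nat_lit 13) (nat_lit 57) (Steps.bwd (nat_lit 15) (Steps.bwd (nat_lit 14) (Steps.fwd (nat_lit 61440) Steps.nil))) (nat_lit 30) (nat_lit 3),
  Rule.mk (nat_lit 16) (nat_lit 57) (Steps.bwd (nat_lit 13) (Steps.fwd (nat_lit 65536) (Steps.fwd (nat_lit 53248) Steps.nil))) (nat_lit 30) (nat_lit 2),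
  Rule.mk (nat_lit 16) (nat_lit 72) (Steps.bwd (nat_lit 2) (Steps.fwd (nat_lit 65536) (Steps.bwd (nat_lit 1) (Steps.bwd (nat_lit 16) Steps.nil)))) (nat_lit 48) (nat_lit 0),
  Rule.mk (nat_lit 8) (nat_lit 72) (Steps.bwd (nat_lit 8) (Steps.fwd (nat_lit 28672) (Steps.bwd (nat_lit 8) (Steps.fwd (nat_lit 28672) Steps.nil)))) (nat_lit 21) (nat_lit 0),
  Rule.mk (nat_lit 1) (nat_lit 72) (Steps.bwd (nat_lit 8) (Steps.fwd (nat_lit 28672) (Steps.bwd (nat_lit 2) (Steps.bwd (nat_lit 10) Steps.nil)))) (nat_lit 43) (nat_lit 0),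
  Rule.mk (nat_lit 10) (nat_lit 57) (Steps.bwd (nat_lit 15) (Steps.fwd (nat_lit 40960) (Steps.fwd (nat_lit 61440) Steps.nil))) (nat_lit 27) (nat_lit 2),
  Rule.mk (nat_lit 15) (nat_lit 72) (Steps.bwd (nat_lit 15) (Steps.fwd (nat_lit 65536) (Steps.fwd (nat_lit 65536) (Steps.bwd (nat_lit 15) Steps.nil)))) (nat_lit 22) (nat_lit 0),
  Rule.mk (nat_lit 15) (nat_lit 57) (Steps.bwd (nat_lit 9) (Steps.fwd (nat_lit 61440) (Steps.fwd (nat_lit 36864) Steps.nil))) (nat_lit 27) (nat_lit 3)]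
noncomputable def R_5 : List (Rule) := [Rule.mk (nat_lit 2) (nat_lit 72) (Steps.bwd (nat_lit 9) (Steps.bwd (nat_lit 1) (Steps.bwd (nat_lit 7) (Steps.bwd (nat_lit 7) Steps.nil)))) (nat_lit 42) (nat_lit 1),
  Rule.mk (nat_lit 15) (nat_lit 57) (Steps.bwd (nat_lit 14) (Steps.fwd (nat_lit 61440) (Steps.bwd (nat_lit 13) Steps.nil))) (nat_lit 30) (nat_lit 0),
  Rule.mk (nat_lit 16) (nat_lit 57) (Steps.bwd (nat_lit 14) (Steps.fwd (nat_lit 65536) (Steps.fwd (nat_lit 57344) Steps.nil))) (nat_lit 31) (nat_lit 1),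
  Rule.mk (nat_lit 13) (nat_lit 57) (Steps.fwd (nat_lit 65536) (Steps.bwd (nat_lit 14) (Steps.bwd (nat_lit 16) Steps.nil))) (nat_lit 30) (nat_lit 3),
  Rule.mk (nat_lit 1) (nat_lit 72) (Steps.fwd (nat_lit 65536) (Steps.fwd (nat_lit 65536) (Steps.bwd (nat_lit 2) (Steps.bwd (nat_lit 16) Steps.nil)))) (nat_lit 49) (nat_lit 0),
  Rule.mk (nat_lit 16) (nat_lit 72) (Steps.bwd (nat_lit 1) (Steps.bwd (nat_lit 15) (Steps.fwd (nat_lit 65536) (Steps.fwd (nat_lit 4096) Steps.nil)))) (nat_lit 49) (nat_lit 4),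
  Rule.mk (nat_lit 2) (nat_lit 72) (Steps.fwd (nat_lit 65536) (Steps.bwd (nat_lit 1) (Steps.bwd (nat_lit 16) (Steps.bwd (nat_lit 16) Steps.nil)))) (nat_lit 48) (nat_lit 1),
  Rule.mk (nat_lit 16) (nat_lit 57) (Steps.bwd (nat_lit 13) (Steps.bwd (nat_lit 15) (Steps.fwd (nat_lit 53248) Steps.nil))) (nat_lit 30) (nat_lit 2),
  Rule.mk (nat_lit 2) (nat_lit 87) (Steps.bwd (nat_lit 2) (Steps.fwd (nat_lit 16384) (Steps.fwd (nat_lit 8192) (Steps.fwd (nat_lit 8192) (Steps.bwd (nat_lit 4) Steps.nil))))) (nat_lit 7) (nat_lit 2),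
  Rule.mk (nat_lit 2) (nat_lit 72) (Steps.bwd (nat_lit 16) (Steps.fwd (nat_lit 8192) (Steps.bwd (nat_lit 15) (Steps.bwd (nat_lit 15) Steps.nil)))) (nat_lit 49) (nat_lit 3),
  Rule.mk (nat_lit 1) (nat_lit 72) (Steps.fwd (nat_lit 28672) (Steps.bwd (nat_lit 8) (Steps.bwd (nat_lit 2) (Steps.fwd (nat_lit 36864) Steps.nil)))) (nat_lit 43) (nat_lit 0),
  Rule.mk (nat_lit 16) (nat_lit 72) (Steps.bwd (nat_lit 2) (Steps.bwd (nat_lit 15) (Steps.bwd (nat_lit 1) (Steps.fwd (nat_lit 61440) Steps.nil)))) (nat_lit 48) (nat_lit 0),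
  Rule.mk (nat_lit 1) (nat_lit 72) (Steps.bwd (nat_lit 15) (Steps.bwd (nat_lit 15) (Steps.bwd (nat_lit 2) (Steps.bwd (nat_lit 16) Steps.nil)))) (nat_lit 49) (nat_lit 0),
  Rule.mk (nat_lit 16) (nat_lit 72) (Steps.bwd (nat_lit 1) (Steps.fwd (nat_lit 65536) (Steps.fwd (nat_lit 65536) (Steps.bwd (nat_lit 2) Steps.nil)))) (nat_lit 49) (nat_lit 4),
  Rule.mk (nat_lit 1) (nat_lit 117) (Steps.bwd (nat_lit 1) (Steps.bwd (nat_lit 1) (Steps.bwd (nat_lit 1) (Steps.fwd (nat_lit 8192) (Steps.bwd (nat_lit 1) (Steps.fwd (nat_lit 8192) (Steps.fwd (nat_lit 8192) Steps.nil))))))) (nat_lit 0) (nat_lit 0),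
  Rule.mk (nat_lit 2) (nat_lit 57) (Steps.bwd (nat_lit 5) (Steps.bwd (nat_lit 1) (Steps.fwd (nat_lit 36864) Steps.nil))) (nat_lit 13) (nat_lit 1),
  Rule.mk (nat_lit 2) (nat_lit 72) (Steps.bwd (nat_lit 9) (Steps.bwd (nat_lit 1) (Steps.fwd (nat_lit 32768) (Steps.bwd (nat_lit 7) Steps.nil)))) (nat_lit 42) (nat_lit 1),
  Rule.mk (nat_lit 1) (nat_lit 117) (Steps.fwd (nat_lit 8192) (Steps.bwd (nat_lit 1) (Steps.bwd (nat_lit 1) (Steps.bwd (nat_lit 1) (Steps.fwd (nat_lit 8192) (Steps.fwd (nat_lit 8192) (Steps.fwd (nat_lit 8192) Steps.nil))))))) (nat_lit 0) (nat_lit 0),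
  Rule.mk (nat_lit 2) (nat_lit 72) (Steps.fwd (nat_lit 40960) (Steps.bwd (nat_lit 1) (Steps.bwd (nat_lit 7) (Steps.bwd (nat_lit 7) Steps.nil)))) (nat_lit 42) (nat_lit 1),
  Rule.mk (nat_lit 15) (nat_lit 72) (Steps.bwd (nat_lit 2) (Steps.bwd (nat_lit 16) (Steps.fwd (nat_lit 8192) (Steps.fwd (nat_lit 65536) Steps.nil)))) (nat_lit 49) (nat_lit 2),
  Rule.mk (nat_lit 14) (nat_lit 87) (Steps.bwd (nat_lit 7) (Steps.bwd (nat_lit 13) (Steps.bwd (nat_lit 16) (Steps.bwd (nat_lit 16) (Steps.fwd (nat_lit 28672) Steps.nil))))) (nat_lit 34) (nat_lit 2),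
  Rule.mk (nat_lit 8) (nat_lit 72) (Steps.bwd (nat_lit 8) (Steps.fwd (nat_lit 4096) (Steps.fwd (nat_lit 36864) (Steps.fwd (nat_lit 8192) Steps.nil)))) (nat_lit 43) (nat_lit 1),
  Rule.mk (nat_lit 2) (nat_lit 57) (Steps.fwd (nat_lit 24576) (Steps.fwd (nat_lit 8192) (Steps.bwd (nat_lit 10) Steps.nil))) (nat_lit 13) (nat_lit 1),
  Rule.mk (nat_lit 7) (nat_lit 72) (Steps.fwd (nat_lit 32768) (Steps.fwd (nat_lit 32768) (Steps.bwd (nat_lit 7) (Steps.fwd (nat_lit 32768) Steps.nil)))) (nat_lit 20) (nat_lit 0),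
  Rule.mk (nat_lit 2) (nat_lit 72) (Steps.bwd (nat_lit 10) (Steps.fwd (nat_lit 8192) (Steps.fwd (nat_lit 28672) (Steps.bwd (nat_lit 8) Steps.nil)))) (nat_lit 43) (nat_lit 3),
  Rule.mk (nat_lit 7) (nat_lit 72) (Steps.bwd (nat_lit 9) (Steps.fwd (nat_lit 61440) (Steps.bwd (nat_lit 8) (Steps.bwd (nat_lit 10) Steps.nil)))) (nat_lit 19) (nat_lit 3),
  Rule.mk (nat_lit 10) (nat_lit 72) (Steps.bwd (nat_lit 8) (Steps.bwd (nat_lit 9) (Steps.bwd (nat_lit 7) (Steps.bwd (nat_lit 15) Steps.nil)))) (nat_lit 18) (nat_lit 2),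
  Rule.mk (nat_lit 10) (nat_lit 72) (Steps.bwd (nat_lit 1) (Steps.bwd (nat_lit 8) (Steps.fwd (nat_lit 28672) (Steps.bwd (nat_lit 2) Steps.nil)))) (nat_lit 43) (nat_lit 4),
  Rule.mk (nat_lit 8) (nat_lit 72) (Steps.bwd (nat_lit 9) (Steps.fwd (nat_lit 32768) (Steps.bwd (nat_lit 15) (Steps.fwd (nat_lit 36864) Steps.nil)))) (nat_lit 18) (nat_lit 3),
  Rule.mk (nat_lit 16) (nat_lit 72) (Steps.bwd (nat_lit 2) (Steps.bwd (nat_lit 15) (Steps.fwd (nat_lit 8192) (Steps.fwd (nat_lit 61440) Steps.nil)))) (nat_lit 48) (nat_lit 0),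
  Rule.mk (nat_lit 11) (nat_lit 72) (Steps.bwd (nat_lit 9) (Steps.fwd (nat_lit 61440) (Steps.fwd (nat_lit 45056) (Steps.bwd (nat_lit 10) Steps.nil)))) (nat_lit 37) (nat_lit 4),
  Rule.mk (nat_lit 14) (nat_lit 72) (Steps.bwd (nat_lit 12) (Steps.fwd (nat_lit 57344) (Steps.fwd (nat_lit 49152) (Steps.bwd (nat_lit 16) Steps.nil)))) (nat_lit 41) (nat_lit 2),
  Rule.mk (nat_lit 16) (nat_lit 72) (Steps.bwd (nat_lit 12) (Steps.fwd (nat_lit 36864) (Steps.fwd (nat_lit 49152) (Steps.bwd (nat_lit 9) Steps.nil)))) (nat_lit 37) (nat_lit 1),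
  Rule.mk (nat_lit 14) (nat_lit 72) (Steps.bwd (nat_lit 12) (Steps.bwd (nat_lit 13) (Steps.bwd (nat_lit 11) (Steps.fwd (nat_lit 61440) Steps.nil)))) (nat_lit 41) (nat_lit 2),
  Rule.mk (nat_lit 14) (nat_lit 72) (Steps.bwd (nat_lit 11) (Steps.bwd (nat_lit 13) (Steps.fwd (nat_lit 65536) (Steps.bwd (nat_lit 12) Steps.nil)))) (nat_lit 40) (nat_lit 2),
  Rule.mk (nat_lit 10) (nat_lit 57) (Steps.fwd (nat_lit 57344) (Steps.bwd (nat_lit 9) (Steps.bwd (nat_lit 14) Steps.nil))) (nat_lit 39) (nat_lit 2),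
  Rule.mk (nat_lit 12) (nat_lit 102) (Steps.fwd (nat_lit 45056) (Steps.bwd (nat_lit 7) (Steps.bwd (nat_lit 13) (Steps.fwd (nat_lit 4096) (Steps.bwd (nat_lit 12) (Steps.bwd (nat_lit 1) Steps.nil)))))) (nat_lit 45) (nat_lit 1),
  Rule.mk (nat_lit 14) (nat_lit 57) (Steps.bwd (nat_lit 16) (Steps.bwd (nat_lit 13) (Steps.fwd (nat_lit 65536) Steps.nil))) (nat_lit 30) (nat_lit 1),
  Rule.mk (nat_lit 16) (nat_lit 72) (Steps.bwd (nat_lit 16) (Steps.bwd (nat_lit 2) (Steps.bwd (nat_lit 15) (Steps.bwd (nat_lit 1) Steps.nil)))) (nat_lit 48) (nat_lit 4),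
  Rule.mk (nat_lit 9) (nat_lit 57) (Steps.bwd (nat_lit 16) (Steps.bwd (nat_lit 10) (Steps.fwd (nat_lit 65536) Steps.nil))) (nat_lit 27) (nat_lit 0),
  Rule.mk (nat_lit 1) (nat_lit 72) (Steps.bwd (nat_lit 15) (Steps.bwd (nat_lit 15) (Steps.fwd (nat_lit 4096) (Steps.bwd (nat_lit 16) Steps.nil)))) (nat_lit 49) (nat_lit 0),
  Rule.mk (nat_lit 16) (nat_lit 72) (Steps.bwd (nat_lit 16) (Steps.bwd (nat_lit 16) (Steps.bwd (nat_lit 16) (Steps.fwd (nat_lit 61440) Steps.nil)))) (nat_lit 23) (nat_lit 0),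
  Rule.mk (nat_lit 15) (nat_lit 72) (Steps.fwd (nat_lit 8192) (Steps.fwd (nat_lit 61440) (Steps.bwd (nat_lit 16) (Steps.bwd (nat_lit 2) Steps.nil)))) (nat_lit 48) (nat_lit 2),
  Rule.mk (nat_lit 14) (nat_lit 57) (Steps.bwd (nat_lit 15) (Steps.bwd (nat_lit 13) (Steps.bwd (nat_lit 16) Steps.nil))) (nat_lit 31) (nat_lit 2),
  Rule.mk (nat_lit 14) (nat_lit 87) (Steps.bwd (nat_lit 7) (Steps.fwd (nat_lit 57344) (Steps.bwd (nat_lit 16) (Steps.bwd (nat_lit 16) (Steps.fwd (nat_lit 28672) Steps.nil))))) (nat_lit 34) (nat_lit 2),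
  Rule.mk (nat_lit 16) (nat_lit 57) (Steps.bwd (nat_lit 8) (Steps.fwd (nat_lit 65536) (Steps.fwd (nat_lit 32768) Steps.nil))) (nat_lit 25) (nat_lit 1),
  Rule.mk (nat_lit 8) (nat_lit 72) (Steps.bwd (nat_lit 8) (Steps.bwd (nat_lit 2) (Steps.bwd (nat_lit 10) (Steps.bwd (nat_lit 1) Steps.nil)))) (nat_lit 43) (nat_lit 1),
  Rule.mk (nat_lit 9) (nat_lit 72) (Steps.bwd (nat_lit 7) (Steps.fwd (nat_lit 65536) (Steps.fwd (nat_lit 36864) (Steps.bwd (nat_lit 8) Steps.nil)))) (nat_lit 18) (nat_lit 4),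
  Rule.mk (nat_lit 10) (nat_lit 72) (Steps.bwd (nat_lit 7) (Steps.bwd (nat_lit 9) (Steps.fwd (nat_lit 61440) (Steps.bwd (nat_lit 8) Steps.nil)))) (nat_lit 19) (nat_lit 2),
  Rule.mk (nat_lit 7) (nat_lit 72) (Steps.bwd (nat_lit 9) (Steps.bwd (nat_lit 16) (Steps.bwd (nat_lit 8) (Steps.fwd (nat_lit 36864) Steps.nil)))) (nat_lit 19) (nat_lit 3),
  Rule.mk (nat_lit 7) (nat_lit 72) (Steps.bwd (nat_lit 7) (Steps.fwd (nat_lit 32768) (Steps.fwd (nat_lit 32768) (Steps.bwd (nat_lit 7) Steps.nil)))) (nat_lit 20) (nat_lit 0),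
  Rule.mk (nat_lit 9) (nat_lit 72) (Steps.bwd (nat_lit 7) (Steps.bwd (nat_lit 15) (Steps.bwd (nat_lit 10) (Steps.bwd (nat_lit 8) Steps.nil)))) (nat_lit 18) (nat_lit 4),
  Rule.mk (nat_lit 7) (nat_lit 72) (Steps.bwd (nat_lit 7) (Steps.fwd (nat_lit 4096) (Steps.bwd (nat_lit 9) (Steps.bwd (nat_lit 1) Steps.nil)))) (nat_lit 42) (nat_lit 4),
  Rule.mk (nat_lit 16) (nat_lit 57) (Steps.bwd (nat_lit 14) (Steps.fwd (nat_lit 65536) (Steps.bwd (nat_lit 13) Steps.nil))) (nat_lit 31) (nat_lit 1),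
  Rule.mk (nat_lit 13) (nat_lit 57) (Steps.bwd (nat_lit 9) (Steps.fwd (nat_lit 53248) (Steps.bwd (nat_lit 10) Steps.nil))) (nat_lit 39) (nat_lit 3),
  Rule.mk (nat_lit 13) (nat_lit 57) (Steps.bwd (nat_lit 15) (Steps.fwd (nat_lit 53248) (Steps.bwd (nat_lit 16) Steps.nil))) (nat_lit 30) (nat_lit 3),
  Rule.mk (nat_lit 14) (nat_lit 57) (Steps.fwd (nat_lit 65536) (Steps.fwd (nat_lit 57344) (Steps.bwd (nat_lit 16) Steps.nil))) (nat_lit 31) (nat_lit 2),
  Rule.mk (nat_lit 1) (nat_lit 72) (Steps.fwd (nat_lit 32768) (Steps.fwd (nat_lit 32768) (Steps.fwd (nat_lit 4096) (Steps.bwd (nat_lit 9) Steps.nil)))) (nat_lit 42) (nat_lit 3),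
  Rule.mk (nat_lit 1) (nat_lit 117) (Steps.bwd (nat_lit 1) (Steps.fwd (nat_lit 8192) (Steps.fwd (nat_lit 8192) (Steps.fwd (nat_lit 8192) (Steps.bwd (nat_lit 1) (Steps.fwd (nat_lit 8192) (Steps.bwd (nat_lit 1) Steps.nil))))))) (nat_lit 0) (nat_lit 0),
  Rule.mk (nat_lit 9) (nat_lit 57) (Steps.bwd (nat_lit 15) (Steps.bwd (nat_lit 10) (Steps.bwd (nat_lit 16) Steps.nil))) (nat_lit 26) (nat_lit 3),
  Rule.mk (nat_lit 7) (nat_lit 72) (Steps.bwd (nat_lit 2) (Steps.bwd (nat_lit 9) (Steps.fwd (nat_lit 8192) (Steps.fwd (nat_lit 32768) Steps.nil)))) (nat_lit 42) (nat_lit 0),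
  Rule.mk (nat_lit 16) (nat_lit 72) (Steps.bwd (nat_lit 2) (Steps.fwd (nat_lit 65536) (Steps.fwd (nat_lit 8192) (Steps.fwd (nat_lit 61440) Steps.nil)))) (nat_lit 48) (nat_lit 0),
  Rule.mk (nat_lit 2) (nat_lit 87) (Steps.bwd (nat_lit 2) (Steps.fwd (nat_lit 16384) (Steps.bwd (nat_lit 1) (Steps.fwd (nat_lit 8192) (Steps.bwd (nat_lit 4) Steps.nil))))) (nat_lit 7) (nat_lit 2),
  Rule.mk (nat_lit 15) (nat_lit 57) (Steps.bwd (nat_lit 13) (Steps.bwd (nat_lit 16) (Steps.bwd (nat_lit 14) Steps.nil))) (nat_lit 31) (nat_lit 3)]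
noncomputable def R_6 : List (Rule) := [Rule.mk (nat_lit 16) (nat_lit 72) (Steps.bwd (nat_lit 1) (Steps.fwd (nat_lit 65536) (Steps.fwd (nat_lit 65536) (Steps.fwd (nat_lit 4096) Steps.nil)))) (nat_lit 49) (nat_lit 4),
  Rule.mk (nat_lit 8) (nat_lit 57) (Steps.bwd (nat_lit 15) (Steps.fwd (nat_lit 32768) (Steps.bwd (nat_lit 16) Steps.nil))) (nat_lit 25) (nat_lit 2),
  Rule.mk (nat_lit 14) (nat_lit 87) (Steps.bwd (nat_lit 8) (Steps.bwd (nat_lit 13) (Steps.fwd (nat_lit 32768) (Steps.bwd (nat_lit 15) (Steps.bwd (nat_lit 15) Steps.nil))))) (nat_lit 35) (nat_lit 3),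
  Rule.mk (nat_lit 12) (nat_lit 72) (Steps.bwd (nat_lit 9) (Steps.fwd (nat_lit 49152) (Steps.bwd (nat_lit 15) (Steps.bwd (nat_lit 10) Steps.nil)))) (nat_lit 36) (nat_lit 2),
  Rule.mk (nat_lit 9) (nat_lit 57) (Steps.bwd (nat_lit 15) (Steps.fwd (nat_lit 36864) (Steps.bwd (nat_lit 16) Steps.nil))) (nat_lit 26) (nat_lit 3),
  Rule.mk (nat_lit 13) (nat_lit 57) (Steps.bwd (nat_lit 15) (Steps.bwd (nat_lit 14) (Steps.bwd (nat_lit 16) Steps.nil))) (nat_lit 30) (nat_lit 3),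
  Rule.mk (nat_lit 14) (nat_lit 57) (Steps.bwd (nat_lit 15) (Steps.bwd (nat_lit 13) (Steps.fwd (nat_lit 61440) Steps.nil))) (nat_lit 31) (nat_lit 2),
  Rule.mk (nat_lit 7) (nat_lit 72) (Steps.fwd (nat_lit 65536) (Steps.fwd (nat_lit 36864) (Steps.fwd (nat_lit 28672) (Steps.bwd (nat_lit 9) Steps.nil)))) (nat_lit 18) (nat_lit 0),
  Rule.mk (nat_lit 8) (nat_lit 72) (Steps.bwd (nat_lit 9) (Steps.bwd (nat_lit 7) (Steps.fwd (nat_lit 65536) (Steps.fwd (nat_lit 36864) Steps.nil)))) (nat_lit 18) (nat_lit 3),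
  Rule.mk (nat_lit 8) (nat_lit 72) (Steps.bwd (nat_lit 2) (Steps.bwd (nat_lit 10) (Steps.fwd (nat_lit 8192) (Steps.fwd (nat_lit 28672) Steps.nil)))) (nat_lit 43) (nat_lit 2),
  Rule.mk (nat_lit 16) (nat_lit 72) (Steps.bwd (nat_lit 2) (Steps.fwd (nat_lit 65536) (Steps.fwd (nat_lit 8192) (Steps.bwd (nat_lit 16) Steps.nil)))) (nat_lit 48) (nat_lit 0),
  Rule.mk (nat_lit 14) (nat_lit 87) (Steps.bwd (nat_lit 7) (Steps.fwd (nat_lit 57344) (Steps.fwd (nat_lit 61440) (Steps.bwd (nat_lit 16) (Steps.bwd (nat_lit 8) Steps.nil))))) (nat_lit 34) (nat_lit 2),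
  Rule.mk (nat_lit 15) (nat_lit 72) (Steps.bwd (nat_lit 1) (Steps.fwd (nat_lit 61440) (Steps.fwd (nat_lit 61440) (Steps.fwd (nat_lit 4096) Steps.nil)))) (nat_lit 48) (nat_lit 2),
  Rule.mk (nat_lit 8) (nat_lit 72) (Steps.bwd (nat_lit 10) (Steps.bwd (nat_lit 7) (Steps.fwd (nat_lit 40960) (Steps.fwd (nat_lit 61440) Steps.nil)))) (nat_lit 19) (nat_lit 1),
  Rule.mk (nat_lit 7) (nat_lit 57) (Steps.bwd (nat_lit 16) (Steps.bwd (nat_lit 8) (Steps.fwd (nat_lit 65536) Steps.nil))) (nat_lit 25) (nat_lit 0),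
  Rule.mk (nat_lit 12) (nat_lit 57) (Steps.bwd (nat_lit 4) (Steps.fwd (nat_lit 24576) (Steps.fwd (nat_lit 16384) Steps.nil))) (nat_lit 15) (nat_lit 0),
  Rule.mk (nat_lit 8) (nat_lit 87) (Steps.bwd (nat_lit 11) (Steps.bwd (nat_lit 7) (Steps.bwd (nat_lit 16) (Steps.bwd (nat_lit 16) (Steps.bwd (nat_lit 12) Steps.nil))))) (nat_lit 33) (nat_lit 4),
  Rule.mk (nat_lit 6) (nat_lit 57) (Steps.bwd (nat_lit 3) (Steps.bwd (nat_lit 11) (Steps.bwd (nat_lit 4) Steps.nil))) (nat_lit 14) (nat_lit 3),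
  Rule.mk (nat_lit 14) (nat_lit 57) (Steps.bwd (nat_lit 3) (Steps.bwd (nat_lit 5) (Steps.bwd (nat_lit 4) Steps.nil))) (nat_lit 17) (nat_lit 0),
  Rule.mk (nat_lit 7) (nat_lit 87) (Steps.bwd (nat_lit 13) (Steps.fwd (nat_lit 61440) (Steps.bwd (nat_lit 16) (Steps.fwd (nat_lit 28672) (Steps.bwd (nat_lit 14) Steps.nil))))) (nat_lit 34) (nat_lit 3),
  Rule.mk (nat_lit 11) (nat_lit 132) (Steps.bwd (nat_lit 9) (Steps.fwd (nat_lit 28672) (Steps.fwd (nat_lit 4096) (Steps.fwd (nat_lit 57344) (Steps.bwd (nat_lit 1) (Steps.fwd (nat_lit 53248) (Steps.fwd (nat_lit 28672) (Steps.bwd (nat_lit 14) Steps.nil)))))))) (nat_lit 46) (nat_lit 7),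
  Rule.mk (nat_lit 13) (nat_lit 72) (Steps.fwd (nat_lit 65536) (Steps.fwd (nat_lit 45056) (Steps.bwd (nat_lit 14) (Steps.bwd (nat_lit 11) Steps.nil)))) (nat_lit 40) (nat_lit 4),
  Rule.mk (nat_lit 1) (nat_lit 72) (Steps.bwd (nat_lit 15) (Steps.fwd (nat_lit 65536) (Steps.fwd (nat_lit 4096) (Steps.bwd (nat_lit 16) Steps.nil)))) (nat_lit 49) (nat_lit 0),
  Rule.mk (nat_lit 15) (nat_lit 72) (Steps.bwd (nat_lit 15) (Steps.fwd (nat_lit 65536) (Steps.bwd (nat_lit 15) (Steps.fwd (nat_lit 65536) Steps.nil)))) (nat_lit 22) (nat_lit 0),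
  Rule.mk (nat_lit 2) (nat_lit 72) (Steps.bwd (nat_lit 15) (Steps.bwd (nat_lit 1) (Steps.bwd (nat_lit 16) (Steps.fwd (nat_lit 61440) Steps.nil)))) (nat_lit 48) (nat_lit 1),
  Rule.mk (nat_lit 15) (nat_lit 57) (Steps.bwd (nat_lit 8) (Steps.bwd (nat_lit 16) (Steps.bwd (nat_lit 7) Steps.nil))) (nat_lit 24) (nat_lit 0),
  Rule.mk (nat_lit 8) (nat_lit 72) (Steps.bwd (nat_lit 8) (Steps.bwd (nat_lit 8) (Steps.bwd (nat_lit 8) (Steps.bwd (nat_lit 8) Steps.nil)))) (nat_lit 21) (nat_lit 0),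
  Rule.mk (nat_lit 15) (nat_lit 72) (Steps.bwd (nat_lit 15) (Steps.fwd (nat_lit 65536) (Steps.bwd (nat_lit 15) (Steps.bwd (nat_lit 15) Steps.nil)))) (nat_lit 22) (nat_lit 0),
  Rule.mk (nat_lit 9) (nat_lit 57) (Steps.fwd (nat_lit 61440) (Steps.bwd (nat_lit 10) (Steps.bwd (nat_lit 15) Steps.nil))) (nat_lit 27) (nat_lit 0),
  Rule.mk (nat_lit 8) (nat_lit 87) (Steps.bwd (nat_lit 14) (Steps.bwd (nat_lit 7) (Steps.bwd (nat_lit 13) (Steps.bwd (nat_lit 16) (Steps.fwd (nat_lit 61440) Steps.nil))))) (nat_lit 34) (nat_lit 1),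
  Rule.mk (nat_lit 2) (nat_lit 72) (Steps.bwd (nat_lit 9) (Steps.bwd (nat_lit 1) (Steps.fwd (nat_lit 32768) (Steps.fwd (nat_lit 32768) Steps.nil)))) (nat_lit 42) (nat_lit 1),
  Rule.mk (nat_lit 7) (nat_lit 87) (Steps.fwd (nat_lit 57344) (Steps.fwd (nat_lit 61440) (Steps.fwd (nat_lit 61440) (Steps.fwd (nat_lit 28672) (Steps.bwd (nat_lit 14) Steps.nil))))) (nat_lit 34) (nat_lit 3),
  Rule.mk (nat_lit 9) (nat_lit 57) (Steps.bwd (nat_lit 15) (Steps.fwd (nat_lit 36864) (Steps.fwd (nat_lit 61440) Steps.nil))) (nat_lit 26) (nat_lit 3),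
  Rule.mk (nat_lit 10) (nat_lit 57) (Steps.bwd (nat_lit 15) (Steps.fwd (nat_lit 40960) (Steps.bwd (nat_lit 16) Steps.nil))) (nat_lit 27) (nat_lit 2),
  Rule.mk (nat_lit 2) (nat_lit 72) (Steps.bwd (nat_lit 15) (Steps.fwd (nat_lit 8192) (Steps.bwd (nat_lit 16) (Steps.fwd (nat_lit 61440) Steps.nil)))) (nat_lit 48) (nat_lit 1),
  Rule.mk (nat_lit 15) (nat_lit 72) (Steps.bwd (nat_lit 15) (Steps.fwd (nat_lit 4096) (Steps.fwd (nat_lit 61440) (Steps.fwd (nat_lit 8192) Steps.nil)))) (nat_lit 49) (nat_lit 1),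
  Rule.mk (nat_lit 14) (nat_lit 57) (Steps.fwd (nat_lit 40960) (Steps.fwd (nat_lit 57344) (Steps.bwd (nat_lit 10) Steps.nil))) (nat_lit 38) (nat_lit 2),
  Rule.mk (nat_lit 13) (nat_lit 87) (Steps.bwd (nat_lit 7) (Steps.fwd (nat_lit 65536) (Steps.bwd (nat_lit 15) (Steps.fwd (nat_lit 53248) (Steps.bwd (nat_lit 8) Steps.nil))))) (nat_lit 35) (nat_lit 5),
  Rule.mk (nat_lit 15) (nat_lit 57) (Steps.fwd (nat_lit 53248) (Steps.bwd (nat_lit 16) (Steps.bwd (nat_lit 13) Steps.nil))) (nat_lit 30) (nat_lit 0),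
  Rule.mk (nat_lit 15) (nat_lit 57) (Steps.bwd (nat_lit 13) (Steps.fwd (nat_lit 61440) (Steps.fwd (nat_lit 53248) Steps.nil))) (nat_lit 31) (nat_lit 3),
  Rule.mk (nat_lit 1) (nat_lit 72) (Steps.bwd (nat_lit 7) (Steps.fwd (nat_lit 32768) (Steps.fwd (nat_lit 4096) (Steps.bwd (nat_lit 9) Steps.nil)))) (nat_lit 42) (nat_lit 3),
  Rule.mk (nat_lit 2) (nat_lit 57) (Steps.fwd (nat_lit 24576) (Steps.bwd (nat_lit 1) (Steps.fwd (nat_lit 36864) Steps.nil))) (nat_lit 13) (nat_lit 1),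
  Rule.mk (nat_lit 7) (nat_lit 87) (Steps.bwd (nat_lit 13) (Steps.bwd (nat_lit 16) (Steps.fwd (nat_lit 61440) (Steps.fwd (nat_lit 28672) (Steps.bwd (nat_lit 14) Steps.nil))))) (nat_lit 34) (nat_lit 3),
  Rule.mk (nat_lit 13) (nat_lit 57) (Steps.bwd (nat_lit 15) (Steps.fwd (nat_lit 53248) (Steps.fwd (nat_lit 61440) Steps.nil))) (nat_lit 30) (nat_lit 3),
  Rule.mk (nat_lit 10) (nat_lit 72) (Steps.bwd (nat_lit 7) (Steps.bwd (nat_lit 9) (Steps.fwd (nat_lit 61440) (Steps.fwd (nat_lit 28672) Steps.nil)))) (nat_lit 19) (nat_lit 2),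
  Rule.mk (nat_lit 16) (nat_lit 57) (Steps.bwd (nat_lit 10) (Steps.bwd (nat_lit 15) (Steps.fwd (nat_lit 40960) Steps.nil))) (nat_lit 27) (nat_lit 1),
  Rule.mk (nat_lit 1) (nat_lit 72) (Steps.bwd (nat_lit 15) (Steps.fwd (nat_lit 65536) (Steps.bwd (nat_lit 2) (Steps.fwd (nat_lit 61440) Steps.nil)))) (nat_lit 49) (nat_lit 0),
  Rule.mk (nat_lit 2) (nat_lit 72) (Steps.bwd (nat_lit 10) (Steps.fwd (nat_lit 8192) (Steps.bwd (nat_lit 8) (Steps.fwd (nat_lit 28672) Steps.nil)))) (nat_lit 43) (nat_lit 3),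
  Rule.mk (nat_lit 16) (nat_lit 72) (Steps.bwd (nat_lit 16) (Steps.fwd (nat_lit 61440) (Steps.bwd (nat_lit 16) (Steps.bwd (nat_lit 16) Steps.nil)))) (nat_lit 23) (nat_lit 0),
  Rule.mk (nat_lit 8) (nat_lit 87) (Steps.bwd (nat_lit 13) (Steps.bwd (nat_lit 7) (Steps.bwd (nat_lit 15) (Steps.bwd (nat_lit 15) (Steps.bwd (nat_lit 14) Steps.nil))))) (nat_lit 35) (nat_lit 4),
  Rule.mk (nat_lit 10) (nat_lit 72) (Steps.fwd (nat_lit 32768) (Steps.fwd (nat_lit 40960) (Steps.bwd (nat_lit 16) (Steps.bwd (nat_lit 8) Steps.nil)))) (nat_lit 19) (nat_lit 2),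
  Rule.mk (nat_lit 14) (nat_lit 87) (Steps.fwd (nat_lit 32768) (Steps.fwd (nat_lit 57344) (Steps.bwd (nat_lit 16) (Steps.bwd (nat_lit 16) (Steps.bwd (nat_lit 8) Steps.nil))))) (nat_lit 34) (nat_lit 2),
  Rule.mk (nat_lit 13) (nat_lit 57) (Steps.bwd (nat_lit 16) (Steps.bwd (nat_lit 14) (Steps.fwd (nat_lit 65536) Steps.nil))) (nat_lit 31) (nat_lit 0),
  Rule.mk (nat_lit 8) (nat_lit 72) (Steps.bwd (nat_lit 2) (Steps.fwd (nat_lit 36864) (Steps.bwd (nat_lit 1) (Steps.fwd (nat_lit 28672) Steps.nil)))) (nat_lit 43) (nat_lit 2),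
  Rule.mk (nat_lit 8) (nat_lit 72) (Steps.bwd (nat_lit 9) (Steps.fwd (nat_lit 32768) (Steps.fwd (nat_lit 65536) (Steps.bwd (nat_lit 10) Steps.nil)))) (nat_lit 18) (nat_lit 3),
  Rule.mk (nat_lit 8) (nat_lit 72) (Steps.bwd (nat_lit 8) (Steps.bwd (nat_lit 8) (Steps.fwd (nat_lit 28672) (Steps.bwd (nat_lit 8) Steps.nil)))) (nat_lit 21) (nat_lit 0),
  Rule.mk (nat_lit 1) (nat_lit 72) (Steps.bwd (nat_lit 16) (Steps.bwd (nat_lit 16) (Steps.fwd (nat_lit 4096) (Steps.fwd (nat_lit 65536) Steps.nil)))) (nat_lit 48) (nat_lit 3),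
  Rule.mk (nat_lit 1) (nat_lit 117) (Steps.fwd (nat_lit 8192) (Steps.bwd (nat_lit 1) (Steps.bwd (nat_lit 1) (Steps.fwd (nat_lit 8192) (Steps.fwd (nat_lit 8192) (Steps.fwd (nat_lit 8192) (Steps.bwd (nat_lit 1) Steps.nil))))))) (nat_lit 0) (nat_lit 0),
  Rule.mk (nat_lit 6) (nat_lit 57) (Steps.bwd (nat_lit 1) (Steps.bwd (nat_lit 9) (Steps.fwd (nat_lit 4096) Steps.nil))) (nat_lit 12) (nat_lit 3),
  Rule.mk (nat_lit 2) (nat_lit 57) (Steps.bwd (nat_lit 6) (Steps.fwd (nat_lit 8192) (Steps.bwd (nat_lit 9) Steps.nil))) (nat_lit 12) (nat_lit 2),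
  Rule.mk (nat_lit 9) (nat_lit 72) (Steps.bwd (nat_lit 1) (Steps.fwd (nat_lit 32768) (Steps.fwd (nat_lit 32768) (Steps.fwd (nat_lit 4096) Steps.nil)))) (nat_lit 42) (nat_lit 2),
  Rule.mk (nat_lit 16) (nat_lit 72) (Steps.bwd (nat_lit 1) (Steps.fwd (nat_lit 65536) (Steps.bwd (nat_lit 15) (Steps.fwd (nat_lit 4096) Steps.nil)))) (nat_lit 49) (nat_lit 4),
  Rule.mk (nat_lit 1) (nat_lit 117) (Steps.bwd (nat_lit 1) (Steps.fwd (nat_lit 8192) (Steps.fwd (nat_lit 8192) (Steps.fwd (nat_lit 8192) (Steps.bwd (nat_lit 1) (Steps.bwd (nat_lit 1) (Steps.fwd (nat_lit 8192) Steps.nil))))))) (nat_lit 0) (nat_lit 0),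
  Rule.mk (nat_lit 16) (nat_lit 57) (Steps.fwd (nat_lit 40960) (Steps.bwd (nat_lit 15) (Steps.bwd (nat_lit 10) Steps.nil))) (nat_lit 26) (nat_lit 2)]
noncomputable def R_7 : List (Rule) := [Rule.mk (nat_lit 2) (nat_lit 72) (Steps.bwd (nat_lit 16) (Steps.bwd (nat_lit 1) (Steps.bwd (nat_lit 15) (Steps.bwd (nat_lit 15) Steps.nil)))) (nat_lit 49) (nat_lit 3),
  Rule.mk (nat_lit 15) (nat_lit 57) (Steps.bwd (nat_lit 8) (Steps.fwd (nat_lit 61440) (Steps.bwd (nat_lit 7) Steps.nil))) (nat_lit 24) (nat_lit 0),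
  Rule.mk (nat_lit 8) (nat_lit 72) (Steps.bwd (nat_lit 8) (Steps.bwd (nat_lit 2) (Steps.bwd (nat_lit 10) (Steps.fwd (nat_lit 8192) Steps.nil)))) (nat_lit 43) (nat_lit 1),
  Rule.mk (nat_lit 2) (nat_lit 117) (Steps.fwd (nat_lit 4096) (Steps.fwd (nat_lit 4096) (Steps.bwd (nat_lit 2) (Steps.fwd (nat_lit 4096) (Steps.fwd (nat_lit 4096) (Steps.bwd (nat_lit 2) (Steps.bwd (nat_lit 2) Steps.nil))))))) (nat_lit 1) (nat_lit 0),
  Rule.mk (nat_lit 14) (nat_lit 57) (Steps.fwd (nat_lit 61440) (Steps.bwd (nat_lit 13) (Steps.bwd (nat_lit 15) Steps.nil))) (nat_lit 30) (nat_lit 1),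
  Rule.mk (nat_lit 8) (nat_lit 72) (Steps.bwd (nat_lit 10) (Steps.fwd (nat_lit 32768) (Steps.bwd (nat_lit 9) (Steps.fwd (nat_lit 61440) Steps.nil)))) (nat_lit 19) (nat_lit 1),
  Rule.mk (nat_lit 7) (nat_lit 57) (Steps.fwd (nat_lit 65536) (Steps.bwd (nat_lit 8) (Steps.bwd (nat_lit 16) Steps.nil))) (nat_lit 24) (nat_lit 3),
  Rule.mk (nat_lit 10) (nat_lit 57) (Steps.fwd (nat_lit 65536) (Steps.fwd (nat_lit 40960) (Steps.bwd (nat_lit 16) Steps.nil))) (nat_lit 27) (nat_lit 2),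
  Rule.mk (nat_lit 8) (nat_lit 87) (Steps.bwd (nat_lit 14) (Steps.bwd (nat_lit 7) (Steps.bwd (nat_lit 13) (Steps.fwd (nat_lit 61440) (Steps.fwd (nat_lit 61440) Steps.nil))))) (nat_lit 34) (nat_lit 1),
  Rule.mk (nat_lit 10) (nat_lit 72) (Steps.bwd (nat_lit 1) (Steps.bwd (nat_lit 8) (Steps.bwd (nat_lit 8) (Steps.fwd (nat_lit 4096) Steps.nil)))) (nat_lit 43) (nat_lit 4),
  Rule.mk (nat_lit 14) (nat_lit 57) (Steps.bwd (nat_lit 9) (Steps.fwd (nat_lit 57344) (Steps.fwd (nat_lit 36864) Steps.nil))) (nat_lit 38) (nat_lit 2),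
  Rule.mk (nat_lit 2) (nat_lit 57) (Steps.bwd (nat_lit 6) (Steps.bwd (nat_lit 1) (Steps.bwd (nat_lit 9) Steps.nil))) (nat_lit 12) (nat_lit 2),
  Rule.mk (nat_lit 10) (nat_lit 72) (Steps.fwd (nat_lit 8192) (Steps.bwd (nat_lit 8) (Steps.bwd (nat_lit 8) (Steps.bwd (nat_lit 2) Steps.nil)))) (nat_lit 43) (nat_lit 4),
  Rule.mk (nat_lit 9) (nat_lit 57) (Steps.bwd (nat_lit 14) (Steps.bwd (nat_lit 10) (Steps.fwd (nat_lit 57344) Steps.nil))) (nat_lit 39) (nat_lit 0),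
  Rule.mk (nat_lit 2) (nat_lit 72) (Steps.bwd (nat_lit 15) (Steps.bwd (nat_lit 1) (Steps.fwd (nat_lit 61440) (Steps.fwd (nat_lit 61440) Steps.nil)))) (nat_lit 48) (nat_lit 1),
  Rule.mk (nat_lit 10) (nat_lit 72) (Steps.bwd (nat_lit 7) (Steps.bwd (nat_lit 9) (Steps.bwd (nat_lit 16) (Steps.fwd (nat_lit 28672) Steps.nil)))) (nat_lit 19) (nat_lit 2),
  Rule.mk (nat_lit 13) (nat_lit 87) (Steps.bwd (nat_lit 7) (Steps.bwd (nat_lit 15) (Steps.bwd (nat_lit 15) (Steps.fwd (nat_lit 53248) (Steps.bwd (nat_lit 8) Steps.nil))))) (nat_lit 35) (nat_lit 5),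
  Rule.mk (nat_lit 7) (nat_lit 72) (Steps.bwd (nat_lit 9) (Steps.fwd (nat_lit 61440) (Steps.bwd (nat_lit 8) (Steps.fwd (nat_lit 36864) Steps.nil)))) (nat_lit 19) (nat_lit 3),
  Rule.mk (nat_lit 15) (nat_lit 72) (Steps.bwd (nat_lit 2) (Steps.bwd (nat_lit 16) (Steps.bwd (nat_lit 1) (Steps.bwd (nat_lit 15) Steps.nil)))) (nat_lit 49) (nat_lit 2),
  Rule.mk (nat_lit 8) (nat_lit 72) (Steps.bwd (nat_lit 10) (Steps.bwd (nat_lit 7) (Steps.bwd (nat_lit 9) (Steps.bwd (nat_lit 16) Steps.nil)))) (nat_lit 19) (nat_lit 1),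
  Rule.mk (nat_lit 9) (nat_lit 72) (Steps.bwd (nat_lit 1) (Steps.bwd (nat_lit 7) (Steps.bwd (nat_lit 7) (Steps.bwd (nat_lit 2) Steps.nil)))) (nat_lit 42) (nat_lit 2),
  Rule.mk (nat_lit 8) (nat_lit 87) (Steps.bwd (nat_lit 14) (Steps.bwd (nat_lit 7) (Steps.fwd (nat_lit 57344) (Steps.fwd (nat_lit 61440) (Steps.bwd (nat_lit 16) Steps.nil))))) (nat_lit 34) (nat_lit 1),
  Rule.mk (nat_lit 15) (nat_lit 57) (Steps.bwd (nat_lit 8) (Steps.fwd (nat_lit 61440) (Steps.fwd (nat_lit 32768) Steps.nil))) (nat_lit 24) (nat_lit 0),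
  Rule.mk (nat_lit 16) (nat_lit 57) (Steps.bwd (nat_lit 8) (Steps.fwd (nat_lit 65536) (Steps.bwd (nat_lit 7) Steps.nil))) (nat_lit 25) (nat_lit 1),
  Rule.mk (nat_lit 13) (nat_lit 57) (Steps.bwd (nat_lit 10) (Steps.fwd (nat_lit 53248) (Steps.fwd (nat_lit 40960) Steps.nil))) (nat_lit 38) (nat_lit 0),
  Rule.mk (nat_lit 9) (nat_lit 57) (Steps.fwd (nat_lit 53248) (Steps.fwd (nat_lit 36864) (Steps.bwd (nat_lit 13) Steps.nil))) (nat_lit 39) (nat_lit 0),
  Rule.mk (nat_lit 13) (nat_lit 87) (Steps.bwd (nat_lit 7) (Steps.bwd (nat_lit 15) (Steps.fwd (nat_lit 65536) (Steps.fwd (nat_lit 53248) (Steps.bwd (nat_lit 8) Steps.nil))))) (nat_lit 35) (nat_lit 5),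
  Rule.mk (nat_lit 2) (nat_lit 72) (Steps.bwd (nat_lit 10) (Steps.bwd (nat_lit 1) (Steps.fwd (nat_lit 28672) (Steps.bwd (nat_lit 8) Steps.nil)))) (nat_lit 43) (nat_lit 3),
  Rule.mk (nat_lit 8) (nat_lit 87) (Steps.bwd (nat_lit 14) (Steps.fwd (nat_lit 32768) (Steps.fwd (nat_lit 57344) (Steps.fwd (nat_lit 61440) (Steps.fwd (nat_lit 61440) Steps.nil))))) (nat_lit 34) (nat_lit 1),
  Rule.mk (nat_lit 2) (nat_lit 72) (Steps.bwd (nat_lit 15) (Steps.fwd (nat_lit 8192) (Steps.fwd (nat_lit 61440) (Steps.fwd (nat_lit 61440) Steps.nil)))) (nat_lit 48) (nat_lit 1),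
  Rule.mk (nat_lit 10) (nat_lit 72) (Steps.bwd (nat_lit 7) (Steps.fwd (nat_lit 40960) (Steps.bwd (nat_lit 16) (Steps.fwd (nat_lit 28672) Steps.nil)))) (nat_lit 19) (nat_lit 2),
  Rule.mk (nat_lit 13) (nat_lit 87) (Steps.bwd (nat_lit 7) (Steps.fwd (nat_lit 65536) (Steps.fwd (nat_lit 65536) (Steps.bwd (nat_lit 14) (Steps.bwd (nat_lit 8) Steps.nil))))) (nat_lit 35) (nat_lit 5),
  Rule.mk (nat_lit 8) (nat_lit 72) (Steps.bwd (nat_lit 9) (Steps.fwd (nat_lit 32768) (Steps.fwd (nat_lit 65536) (Steps.fwd (nat_lit 36864) Steps.nil)))) (nat_lit 18) (nat_lit 3),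
  Rule.mk (nat_lit 15) (nat_lit 57) (Steps.bwd (nat_lit 7) (Steps.fwd (nat_lit 61440) (Steps.fwd (nat_lit 28672) Steps.nil))) (nat_lit 25) (nat_lit 3),
  Rule.mk (nat_lit 14) (nat_lit 87) (Steps.bwd (nat_lit 7) (Steps.fwd (nat_lit 57344) (Steps.fwd (nat_lit 61440) (Steps.fwd (nat_lit 61440) (Steps.fwd (nat_lit 28672) Steps.nil))))) (nat_lit 34) (nat_lit 2),
  Rule.mk (nat_lit 12) (nat_lit 132) (Steps.bwd (nat_lit 13) (Steps.bwd (nat_lit 7) (Steps.fwd (nat_lit 57344) (Steps.fwd (nat_lit 4096) (Steps.bwd (nat_lit 14) (Steps.bwd (nat_lit 1) (Steps.fwd (nat_lit 32768) (Steps.bwd (nat_lit 10) Steps.nil)))))))) (nat_lit 47) (nat_lit 3),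
  Rule.mk (nat_lit 1) (nat_lit 72) (Steps.bwd (nat_lit 16) (Steps.fwd (nat_lit 61440) (Steps.fwd (nat_lit 4096) (Steps.bwd (nat_lit 15) Steps.nil)))) (nat_lit 48) (nat_lit 3),
  Rule.mk (nat_lit 3) (nat_lit 57) (Steps.bwd (nat_lit 11) (Steps.fwd (nat_lit 12288) (Steps.bwd (nat_lit 6) Steps.nil))) (nat_lit 14) (nat_lit 0),
  Rule.mk (nat_lit 15) (nat_lit 57) (Steps.bwd (nat_lit 11) (Steps.bwd (nat_lit 16) (Steps.fwd (nat_lit 45056) Steps.nil))) (nat_lit 29) (nat_lit 3),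
  Rule.mk (nat_lit 6) (nat_lit 57) (Steps.bwd (nat_lit 4) (Steps.fwd (nat_lit 57344) (Steps.fwd (nat_lit 16384) Steps.nil))) (nat_lit 16) (nat_lit 3),
  Rule.mk (nat_lit 15) (nat_lit 57) (Steps.bwd (nat_lit 4) (Steps.bwd (nat_lit 16) (Steps.bwd (nat_lit 3) Steps.nil))) (nat_lit 55) (nat_lit 1),
  Rule.mk (nat_lit 14) (nat_lit 72) (Steps.bwd (nat_lit 11) (Steps.bwd (nat_lit 13) (Steps.bwd (nat_lit 15) (Steps.bwd (nat_lit 12) Steps.nil)))) (nat_lit 40) (nat_lit 2),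
  Rule.mk (nat_lit 12) (nat_lit 72) (Steps.bwd (nat_lit 13) (Steps.bwd (nat_lit 11) (Steps.bwd (nat_lit 16) (Steps.bwd (nat_lit 14) Steps.nil)))) (nat_lit 41) (nat_lit 3),
  Rule.mk (nat_lit 14) (nat_lit 72) (Steps.bwd (nat_lit 11) (Steps.fwd (nat_lit 57344) (Steps.bwd (nat_lit 15) (Steps.bwd (nat_lit 12) Steps.nil)))) (nat_lit 40) (nat_lit 2),
  Rule.mk (nat_lit 7) (nat_lit 87) (Steps.bwd (nat_lit 11) (Steps.bwd (nat_lit 15) (Steps.bwd (nat_lit 15) (Steps.bwd (nat_lit 8) (Steps.bwd (nat_lit 12) Steps.nil))))) (nat_lit 32) (nat_lit 3),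
  Rule.mk (nat_lit 12) (nat_lit 57) (Steps.bwd (nat_lit 15) (Steps.fwd (nat_lit 49152) (Steps.fwd (nat_lit 61440) Steps.nil))) (nat_lit 29) (nat_lit 2),
  Rule.mk (nat_lit 6) (nat_lit 57) (Steps.fwd (nat_lit 12288) (Steps.fwd (nat_lit 57344) (Steps.bwd (nat_lit 3) Steps.nil))) (nat_lit 16) (nat_lit 3),
  Rule.mk (nat_lit 5) (nat_lit 57) (Steps.fwd (nat_lit 12288) (Steps.fwd (nat_lit 53248) (Steps.bwd (nat_lit 3) Steps.nil))) (nat_lit 17) (nat_lit 2),
  Rule.mk (nat_lit 12) (nat_lit 87) (Steps.bwd (nat_lit 8) (Steps.bwd (nat_lit 11) (Steps.fwd (nat_lit 32768) (Steps.fwd (nat_lit 61440) (Steps.fwd (nat_lit 61440) Steps.nil))))) (nat_lit 33) (nat_lit 3),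
  Rule.mk (nat_lit 7) (nat_lit 87) (Steps.fwd (nat_lit 49152) (Steps.bwd (nat_lit 15) (Steps.bwd (nat_lit 15) (Steps.bwd (nat_lit 8) (Steps.bwd (nat_lit 12) Steps.nil))))) (nat_lit 32) (nat_lit 3),
  Rule.mk (nat_lit 4) (nat_lit 57) (Steps.bwd (nat_lit 14) (Steps.bwd (nat_lit 3) (Steps.bwd (nat_lit 5) Steps.nil))) (nat_lit 17) (nat_lit 3),
  Rule.mk (nat_lit 15) (nat_lit 57) (Steps.bwd (nat_lit 14) (Steps.fwd (nat_lit 61440) (Steps.fwd (nat_lit 57344) Steps.nil))) (nat_lit 30) (nat_lit 0),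
  Rule.mk (nat_lit 8) (nat_lit 87) (Steps.bwd (nat_lit 14) (Steps.bwd (nat_lit 7) (Steps.fwd (nat_lit 57344) (Steps.fwd (nat_lit 61440) (Steps.fwd (nat_lit 61440) Steps.nil))))) (nat_lit 34) (nat_lit 1),
  Rule.mk (nat_lit 2) (nat_lit 72) (Steps.fwd (nat_lit 36864) (Steps.bwd (nat_lit 1) (Steps.bwd (nat_lit 8) (Steps.bwd (nat_lit 8) Steps.nil)))) (nat_lit 43) (nat_lit 3),
  Rule.mk (nat_lit 3) (nat_lit 57) (Steps.bwd (nat_lit 5) (Steps.fwd (nat_lit 12288) (Steps.bwd (nat_lit 14) Steps.nil))) (nat_lit 17) (nat_lit 1),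
  Rule.mk (nat_lit 3) (nat_lit 57) (Steps.bwd (nat_lit 15) (Steps.bwd (nat_lit 4) (Steps.fwd (nat_lit 61440) Steps.nil))) (nat_lit 55) (nat_lit 0),
  Rule.mk (nat_lit 12) (nat_lit 57) (Steps.bwd (nat_lit 16) (Steps.bwd (nat_lit 11) (Steps.bwd (nat_lit 15) Steps.nil))) (nat_lit 28) (nat_lit 1),
  Rule.mk (nat_lit 7) (nat_lit 72) (Steps.bwd (nat_lit 7) (Steps.fwd (nat_lit 32768) (Steps.bwd (nat_lit 7) (Steps.fwd (nat_lit 32768) Steps.nil)))) (nat_lit 20) (nat_lit 0),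
  Rule.mk (nat_lit 3) (nat_lit 57) (Steps.bwd (nat_lit 6) (Steps.bwd (nat_lit 4) (Steps.fwd (nat_lit 57344) Steps.nil))) (nat_lit 16) (nat_lit 2),
  Rule.mk (nat_lit 11) (nat_lit 57) (Steps.bwd (nat_lit 4) (Steps.fwd (nat_lit 20480) (Steps.bwd (nat_lit 3) Steps.nil))) (nat_lit 14) (nat_lit 1),
  Rule.mk (nat_lit 5) (nat_lit 57) (Steps.bwd (nat_lit 4) (Steps.fwd (nat_lit 53248) (Steps.fwd (nat_lit 16384) Steps.nil))) (nat_lit 17) (nat_lit 2),
  Rule.mk (nat_lit 1) (nat_lit 87) (Steps.bwd (nat_lit 4) (Steps.fwd (nat_lit 4096) (Steps.fwd (nat_lit 4096) (Steps.fwd (nat_lit 16384) (Steps.bwd (nat_lit 1) Steps.nil))))) (nat_lit 7) (nat_lit 0),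
  Rule.mk (nat_lit 14) (nat_lit 87) (Steps.bwd (nat_lit 7) (Steps.fwd (nat_lit 57344) (Steps.bwd (nat_lit 16) (Steps.bwd (nat_lit 16) (Steps.bwd (nat_lit 8) Steps.nil))))) (nat_lit 34) (nat_lit 2),
  Rule.mk (nat_lit 7) (nat_lit 87) (Steps.bwd (nat_lit 11) (Steps.bwd (nat_lit 15) (Steps.fwd (nat_lit 65536) (Steps.fwd (nat_lit 28672) (Steps.bwd (nat_lit 12) Steps.nil))))) (nat_lit 32) (nat_lit 3)]
noncomputable def R_8 : List (Rule) := [Rule.mk (nat_lit 13) (nat_lit 57) (Steps.bwd (nat_lit 3) (Steps.bwd (nat_lit 6) (Steps.bwd (nat_lit 4) Steps.nil))) (nat_lit 16) (nat_lit 1),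
  Rule.mk (nat_lit 4) (nat_lit 57) (Steps.bwd (nat_lit 14) (Steps.fwd (nat_lit 16384) (Steps.fwd (nat_lit 24576) Steps.nil))) (nat_lit 17) (nat_lit 3),
  Rule.mk (nat_lit 10) (nat_lit 72) (Steps.fwd (nat_lit 32768) (Steps.bwd (nat_lit 9) (Steps.bwd (nat_lit 16) (Steps.bwd (nat_lit 8) Steps.nil)))) (nat_lit 19) (nat_lit 2),
  Rule.mk (nat_lit 8) (nat_lit 72) (Steps.fwd (nat_lit 28672) (Steps.bwd (nat_lit 2) (Steps.bwd (nat_lit 10) (Steps.fwd (nat_lit 8192) Steps.nil)))) (nat_lit 43) (nat_lit 1),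
  Rule.mk (nat_lit 12) (nat_lit 72) (Steps.bwd (nat_lit 14) (Steps.fwd (nat_lit 49152) (Steps.fwd (nat_lit 57344) (Steps.bwd (nat_lit 15) Steps.nil)))) (nat_lit 40) (nat_lit 1),
  Rule.mk (nat_lit 13) (nat_lit 72) (Steps.bwd (nat_lit 11) (Steps.bwd (nat_lit 16) (Steps.bwd (nat_lit 14) (Steps.bwd (nat_lit 12) Steps.nil)))) (nat_lit 41) (nat_lit 4),
  Rule.mk (nat_lit 7) (nat_lit 87) (Steps.bwd (nat_lit 11) (Steps.fwd (nat_lit 65536) (Steps.fwd (nat_lit 65536) (Steps.bwd (nat_lit 8) (Steps.bwd (nat_lit 12) Steps.nil))))) (nat_lit 32) (nat_lit 3),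
  Rule.mk (nat_lit 16) (nat_lit 57) (Steps.bwd (nat_lit 14) (Steps.bwd (nat_lit 15) (Steps.bwd (nat_lit 13) Steps.nil))) (nat_lit 31) (nat_lit 1),
  Rule.mk (nat_lit 12) (nat_lit 72) (Steps.bwd (nat_lit 14) (Steps.fwd (nat_lit 49152) (Steps.bwd (nat_lit 13) (Steps.fwd (nat_lit 65536) Steps.nil)))) (nat_lit 40) (nat_lit 1),
  Rule.mk (nat_lit 11) (nat_lit 57) (Steps.fwd (nat_lit 65536) (Steps.fwd (nat_lit 45056) (Steps.bwd (nat_lit 16) Steps.nil))) (nat_lit 28) (nat_lit 3),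
  Rule.mk (nat_lit 11) (nat_lit 117) (Steps.bwd (nat_lit 3) (Steps.bwd (nat_lit 11) (Steps.fwd (nat_lit 49152) (Steps.bwd (nat_lit 14) (Steps.bwd (nat_lit 8) (Steps.bwd (nat_lit 8) (Steps.fwd (nat_lit 12288) Steps.nil))))))) (nat_lit 52) (nat_lit 2),
  Rule.mk (nat_lit 16) (nat_lit 57) (Steps.bwd (nat_lit 12) (Steps.bwd (nat_lit 15) (Steps.bwd (nat_lit 11) Steps.nil))) (nat_lit 29) (nat_lit 1),
  Rule.mk (nat_lit 14) (nat_lit 72) (Steps.bwd (nat_lit 12) (Steps.fwd (nat_lit 57344) (Steps.bwd (nat_lit 11) (Steps.bwd (nat_lit 16) Steps.nil)))) (nat_lit 41) (nat_lit 2),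
  Rule.mk (nat_lit 12) (nat_lit 57) (Steps.bwd (nat_lit 16) (Steps.fwd (nat_lit 49152) (Steps.bwd (nat_lit 15) Steps.nil))) (nat_lit 28) (nat_lit 1),
  Rule.mk (nat_lit 11) (nat_lit 57) (Steps.bwd (nat_lit 16) (Steps.fwd (nat_lit 45056) (Steps.bwd (nat_lit 15) Steps.nil))) (nat_lit 29) (nat_lit 0),
  Rule.mk (nat_lit 4) (nat_lit 57) (Steps.bwd (nat_lit 16) (Steps.bwd (nat_lit 3) (Steps.fwd (nat_lit 65536) Steps.nil))) (nat_lit 55) (nat_lit 2),
  Rule.mk (nat_lit 16) (nat_lit 57) (Steps.bwd (nat_lit 4) (Steps.bwd (nat_lit 15) (Steps.fwd (nat_lit 16384) Steps.nil))) (nat_lit 54) (nat_lit 0),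
  Rule.mk (nat_lit 15) (nat_lit 57) (Steps.bwd (nat_lit 4) (Steps.fwd (nat_lit 61440) (Steps.bwd (nat_lit 3) Steps.nil))) (nat_lit 55) (nat_lit 1),
  Rule.mk (nat_lit 2) (nat_lit 87) (Steps.bwd (nat_lit 4) (Steps.fwd (nat_lit 8192) (Steps.fwd (nat_lit 8192) (Steps.bwd (nat_lit 3) (Steps.bwd (nat_lit 2) Steps.nil))))) (nat_lit 6) (nat_lit 2),
  Rule.mk (nat_lit 1) (nat_lit 87) (Steps.bwd (nat_lit 4) (Steps.fwd (nat_lit 4096) (Steps.bwd (nat_lit 2) (Steps.fwd (nat_lit 16384) (Steps.bwd (nat_lit 1) Steps.nil))))) (nat_lit 7) (nat_lit 0),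
  Rule.mk (nat_lit 8) (nat_lit 117) (Steps.bwd (nat_lit 4) (Steps.bwd (nat_lit 11) (Steps.fwd (nat_lit 16384) (Steps.bwd (nat_lit 11) (Steps.bwd (nat_lit 11) (Steps.bwd (nat_lit 14) (Steps.fwd (nat_lit 28672) Steps.nil))))))) (nat_lit 52) (nat_lit 0),
  Rule.mk (nat_lit 15) (nat_lit 72) (Steps.bwd (nat_lit 1) (Steps.fwd (nat_lit 61440) (Steps.fwd (nat_lit 61440) (Steps.bwd (nat_lit 2) Steps.nil)))) (nat_lit 48) (nat_lit 2),
  Rule.mk (nat_lit 1) (nat_lit 87) (Steps.bwd (nat_lit 1) (Steps.bwd (nat_lit 4) (Steps.bwd (nat_lit 2) (Steps.bwd (nat_lit 2) (Steps.bwd (nat_lit 3) Steps.nil))))) (nat_lit 7) (nat_lit 5),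
  Rule.mk (nat_lit 2) (nat_lit 87) (Steps.bwd (nat_lit 2) (Steps.bwd (nat_lit 4) (Steps.bwd (nat_lit 1) (Steps.bwd (nat_lit 1) (Steps.fwd (nat_lit 16384) Steps.nil))))) (nat_lit 6) (nat_lit 1),
  Rule.mk (nat_lit 2) (nat_lit 87) (Steps.bwd (nat_lit 2) (Steps.fwd (nat_lit 12288) (Steps.bwd (nat_lit 1) (Steps.bwd (nat_lit 1) (Steps.fwd (nat_lit 16384) Steps.nil))))) (nat_lit 6) (nat_lit 1),
  Rule.mk (nat_lit 1) (nat_lit 87) (Steps.bwd (nat_lit 1) (Steps.fwd (nat_lit 12288) (Steps.fwd (nat_lit 4096) (Steps.fwd (nat_lit 4096) (Steps.bwd (nat_lit 3) Steps.nil))))) (nat_lit 7) (nat_lit 5),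
  Rule.mk (nat_lit 7) (nat_lit 87) (Steps.bwd (nat_lit 15) (Steps.bwd (nat_lit 15) (Steps.fwd (nat_lit 53248) (Steps.fwd (nat_lit 28672) (Steps.fwd (nat_lit 57344) Steps.nil))))) (nat_lit 35) (nat_lit 0),
  Rule.mk (nat_lit 12) (nat_lit 87) (Steps.bwd (nat_lit 8) (Steps.fwd (nat_lit 49152) (Steps.fwd (nat_lit 32768) (Steps.fwd (nat_lit 61440) (Steps.bwd (nat_lit 16) Steps.nil))))) (nat_lit 33) (nat_lit 3),
  Rule.mk (nat_lit 15) (nat_lit 57) (Steps.bwd (nat_lit 14) (Steps.bwd (nat_lit 16) (Steps.bwd (nat_lit 13) Steps.nil))) (nat_lit 30) (nat_lit 0),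
  Rule.mk (nat_lit 12) (nat_lit 117) (Steps.bwd (nat_lit 3) (Steps.bwd (nat_lit 7) (Steps.bwd (nat_lit 7) (Steps.fwd (nat_lit 57344) (Steps.fwd (nat_lit 45056) (Steps.bwd (nat_lit 12) (Steps.bwd (nat_lit 4) Steps.nil))))))) (nat_lit 53) (nat_lit 7),
  Rule.mk (nat_lit 7) (nat_lit 87) (Steps.fwd (nat_lit 49152) (Steps.fwd (nat_lit 65536) (Steps.fwd (nat_lit 65536) (Steps.bwd (nat_lit 8) (Steps.bwd (nat_lit 12) Steps.nil))))) (nat_lit 32) (nat_lit 3),
  Rule.mk (nat_lit 13) (nat_lit 87) (Steps.bwd (nat_lit 7) (Steps.bwd (nat_lit 15) (Steps.fwd (nat_lit 65536) (Steps.bwd (nat_lit 14) (Steps.bwd (nat_lit 8) Steps.nil))))) (nat_lit 35) (nat_lit 5),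
  Rule.mk (nat_lit 12) (nat_lit 57) (Steps.bwd (nat_lit 16) (Steps.bwd (nat_lit 11) (Steps.fwd (nat_lit 65536) Steps.nil))) (nat_lit 28) (nat_lit 1),
  Rule.mk (nat_lit 4) (nat_lit 57) (Steps.bwd (nat_lit 16) (Steps.bwd (nat_lit 3) (Steps.bwd (nat_lit 15) Steps.nil))) (nat_lit 55) (nat_lit 2),
  Rule.mk (nat_lit 6) (nat_lit 57) (Steps.bwd (nat_lit 3) (Steps.fwd (nat_lit 49152) (Steps.fwd (nat_lit 12288) Steps.nil))) (nat_lit 14) (nat_lit 3),
  Rule.mk (nat_lit 15) (nat_lit 57) (Steps.bwd (nat_lit 3) (Steps.bwd (nat_lit 16) (Steps.fwd (nat_lit 12288) Steps.nil))) (nat_lit 54) (nat_lit 2),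
  Rule.mk (nat_lit 7) (nat_lit 57) (Steps.fwd (nat_lit 61440) (Steps.fwd (nat_lit 28672) (Steps.bwd (nat_lit 15) Steps.nil))) (nat_lit 25) (nat_lit 0),
  Rule.mk (nat_lit 10) (nat_lit 57) (Steps.fwd (nat_lit 61440) (Steps.bwd (nat_lit 9) (Steps.bwd (nat_lit 15) Steps.nil))) (nat_lit 26) (nat_lit 1),
  Rule.mk (nat_lit 16) (nat_lit 57) (Steps.bwd (nat_lit 11) (Steps.fwd (nat_lit 65536) (Steps.bwd (nat_lit 12) Steps.nil))) (nat_lit 28) (nat_lit 2),
  Rule.mk (nat_lit 12) (nat_lit 72) (Steps.fwd (nat_lit 36864) (Steps.bwd (nat_lit 11) (Steps.bwd (nat_lit 9) (Steps.fwd (nat_lit 61440) Steps.nil)))) (nat_lit 37) (nat_lit 2),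
  Rule.mk (nat_lit 0) (nat_lit 102) (Steps.bwd (nat_lit 16) (Steps.bwd (nat_lit 16) (Steps.bwd (nat_lit 12) (Steps.fwd (nat_lit 28672) (Steps.bwd (nat_lit 11) (Steps.bwd (nat_lit 7) Steps.nil)))))) (nat_lit 33) (nat_lit 0),
  Rule.mk (nat_lit 4) (nat_lit 42) (Steps.bwd (nat_lit 0) (Steps.fwd (nat_lit 16384) Steps.nil)) (nat_lit 88) (nat_lit 0),
  Rule.mk (nat_lit 11) (nat_lit 42) (Steps.bwd (nat_lit 0) (Steps.fwd (nat_lit 45056) Steps.nil)) (nat_lit 88) (nat_lit 0),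
  Rule.mk (nat_lit 0) (nat_lit 57) (Steps.fwd (nat_lit 65536) (Steps.fwd (nat_lit 0) (Steps.bwd (nat_lit 16) Steps.nil))) (nat_lit 88) (nat_lit 0),
  Rule.mk (nat_lit 4) (nat_lit 42) (Steps.bwd (nat_lit 0) (Steps.bwd (nat_lit 3) Steps.nil)) (nat_lit 88) (nat_lit 0),
  Rule.mk (nat_lit 13) (nat_lit 42) (Steps.bwd (nat_lit 0) (Steps.fwd (nat_lit 53248) Steps.nil)) (nat_lit 88) (nat_lit 0),
  Rule.mk (nat_lit 0) (nat_lit 57) (Steps.fwd (nat_lit 65536) (Steps.fwd (nat_lit 0) (Steps.fwd (nat_lit 61440) Steps.nil))) (nat_lit 88) (nat_lit 0),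
  Rule.mk (nat_lit 11) (nat_lit 42) (Steps.bwd (nat_lit 0) (Steps.bwd (nat_lit 12) Steps.nil)) (nat_lit 88) (nat_lit 0),
  Rule.mk (nat_lit 13) (nat_lit 42) (Steps.bwd (nat_lit 0) (Steps.bwd (nat_lit 14) Steps.nil)) (nat_lit 88) (nat_lit 0),
  Rule.mk (nat_lit 12) (nat_lit 72) (Steps.bwd (nat_lit 10) (Steps.bwd (nat_lit 11) (Steps.bwd (nat_lit 9) (Steps.bwd (nat_lit 16) Steps.nil)))) (nat_lit 37) (nat_lit 2),
  Rule.mk (nat_lit 3) (nat_lit 57) (Steps.fwd (nat_lit 45056) (Steps.bwd (nat_lit 4) (Steps.fwd (nat_lit 24576) Steps.nil))) (nat_lit 15) (nat_lit 3),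
  Rule.mk (nat_lit 4) (nat_lit 57) (Steps.bwd (nat_lit 6) (Steps.bwd (nat_lit 3) (Steps.fwd (nat_lit 49152) Steps.nil))) (nat_lit 14) (nat_lit 2),
  Rule.mk (nat_lit 4) (nat_lit 57) (Steps.fwd (nat_lit 61440) (Steps.bwd (nat_lit 3) (Steps.fwd (nat_lit 65536) Steps.nil))) (nat_lit 55) (nat_lit 2),
  Rule.mk (nat_lit 3) (nat_lit 57) (Steps.fwd (nat_lit 45056) (Steps.bwd (nat_lit 4) (Steps.bwd (nat_lit 5) Steps.nil))) (nat_lit 15) (nat_lit 3),
  Rule.mk (nat_lit 3) (nat_lit 57) (Steps.bwd (nat_lit 16) (Steps.bwd (nat_lit 4) (Steps.bwd (nat_lit 15) Steps.nil))) (nat_lit 54) (nat_lit 3),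
  Rule.mk (nat_lit 8) (nat_lit 72) (Steps.bwd (nat_lit 9) (Steps.bwd (nat_lit 7) (Steps.fwd (nat_lit 65536) (Steps.bwd (nat_lit 10) Steps.nil)))) (nat_lit 18) (nat_lit 3),
  Rule.mk (nat_lit 7) (nat_lit 72) (Steps.bwd (nat_lit 2) (Steps.fwd (nat_lit 40960) (Steps.bwd (nat_lit 1) (Steps.fwd (nat_lit 32768) Steps.nil)))) (nat_lit 42) (nat_lit 0),
  Rule.mk (nat_lit 9) (nat_lit 72) (Steps.fwd (nat_lit 61440) (Steps.bwd (nat_lit 8) (Steps.bwd (nat_lit 10) (Steps.bwd (nat_lit 7) Steps.nil)))) (nat_lit 19) (nat_lit 4),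
  Rule.mk (nat_lit 11) (nat_lit 57) (Steps.bwd (nat_lit 15) (Steps.fwd (nat_lit 45056) (Steps.fwd (nat_lit 61440) Steps.nil))) (nat_lit 28) (nat_lit 3),
  Rule.mk (nat_lit 12) (nat_lit 72) (Steps.bwd (nat_lit 9) (Steps.bwd (nat_lit 11) (Steps.bwd (nat_lit 15) (Steps.fwd (nat_lit 36864) Steps.nil)))) (nat_lit 36) (nat_lit 2),
  Rule.mk (nat_lit 16) (nat_lit 57) (Steps.bwd (nat_lit 12) (Steps.fwd (nat_lit 65536) (Steps.bwd (nat_lit 11) Steps.nil))) (nat_lit 29) (nat_lit 1),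
  Rule.mk (nat_lit 2) (nat_lit 72) (Steps.fwd (nat_lit 65536) (Steps.fwd (nat_lit 8192) (Steps.fwd (nat_lit 61440) (Steps.bwd (nat_lit 16) Steps.nil)))) (nat_lit 48) (nat_lit 1),
  Rule.mk (nat_lit 11) (nat_lit 72) (Steps.bwd (nat_lit 13) (Steps.bwd (nat_lit 15) (Steps.bwd (nat_lit 12) (Steps.fwd (nat_lit 53248) Steps.nil)))) (nat_lit 40) (nat_lit 3),
  Rule.mk (nat_lit 8) (nat_lit 87) (Steps.bwd (nat_lit 12) (Steps.fwd (nat_lit 32768) (Steps.fwd (nat_lit 49152) (Steps.bwd (nat_lit 15) (Steps.bwd (nat_lit 15) Steps.nil))))) (nat_lit 32) (nat_lit 1)]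
noncomputable def R_9 : List (Rule) := [Rule.mk (nat_lit 11) (nat_lit 87) (Steps.bwd (nat_lit 7) (Steps.fwd (nat_lit 61440) (Steps.bwd (nat_lit 16) (Steps.bwd (nat_lit 12) (Steps.bwd (nat_lit 8) Steps.nil))))) (nat_lit 33) (nat_lit 5),
  Rule.mk (nat_lit 8) (nat_lit 87) (Steps.bwd (nat_lit 11) (Steps.fwd (nat_lit 32768) (Steps.bwd (nat_lit 16) (Steps.bwd (nat_lit 16) (Steps.fwd (nat_lit 45056) Steps.nil))))) (nat_lit 33) (nat_lit 4),
  Rule.mk (nat_lit 14) (nat_lit 132) (Steps.bwd (nat_lit 11) (Steps.fwd (nat_lit 40960) (Steps.fwd (nat_lit 28672) (Steps.fwd (nat_lit 4096) (Steps.fwd (nat_lit 57344) (Steps.bwd (nat_lit 1) (Steps.bwd (nat_lit 14) (Steps.bwd (nat_lit 8) Steps.nil)))))))) (nat_lit 46) (nat_lit 6),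
  Rule.mk (nat_lit 7) (nat_lit 72) (Steps.bwd (nat_lit 9) (Steps.fwd (nat_lit 61440) (Steps.fwd (nat_lit 28672) (Steps.fwd (nat_lit 36864) Steps.nil)))) (nat_lit 19) (nat_lit 3),
  Rule.mk (nat_lit 16) (nat_lit 72) (Steps.bwd (nat_lit 16) (Steps.bwd (nat_lit 16) (Steps.fwd (nat_lit 61440) (Steps.bwd (nat_lit 16) Steps.nil)))) (nat_lit 23) (nat_lit 0),
  Rule.mk (nat_lit 10) (nat_lit 72) (Steps.bwd (nat_lit 1) (Steps.bwd (nat_lit 8) (Steps.bwd (nat_lit 8) (Steps.bwd (nat_lit 2) Steps.nil)))) (nat_lit 43) (nat_lit 4),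
  Rule.mk (nat_lit 16) (nat_lit 72) (Steps.fwd (nat_lit 8192) (Steps.fwd (nat_lit 65536) (Steps.bwd (nat_lit 15) (Steps.bwd (nat_lit 2) Steps.nil)))) (nat_lit 49) (nat_lit 4),
  Rule.mk (nat_lit 9) (nat_lit 72) (Steps.bwd (nat_lit 7) (Steps.fwd (nat_lit 65536) (Steps.bwd (nat_lit 10) (Steps.fwd (nat_lit 28672) Steps.nil)))) (nat_lit 18) (nat_lit 4),
  Rule.mk (nat_lit 13) (nat_lit 87) (Steps.bwd (nat_lit 7) (Steps.fwd (nat_lit 65536) (Steps.fwd (nat_lit 65536) (Steps.fwd (nat_lit 53248) (Steps.fwd (nat_lit 28672) Steps.nil))))) (nat_lit 35) (nat_lit 5),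
  Rule.mk (nat_lit 13) (nat_lit 57) (Steps.fwd (nat_lit 40960) (Steps.bwd (nat_lit 14) (Steps.bwd (nat_lit 10) Steps.nil))) (nat_lit 39) (nat_lit 3),
  Rule.mk (nat_lit 14) (nat_lit 57) (Steps.bwd (nat_lit 16) (Steps.fwd (nat_lit 57344) (Steps.fwd (nat_lit 65536) Steps.nil))) (nat_lit 30) (nat_lit 1),
  Rule.mk (nat_lit 7) (nat_lit 72) (Steps.bwd (nat_lit 2) (Steps.fwd (nat_lit 40960) (Steps.fwd (nat_lit 8192) (Steps.fwd (nat_lit 32768) Steps.nil)))) (nat_lit 42) (nat_lit 0),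
  Rule.mk (nat_lit 16) (nat_lit 72) (Steps.fwd (nat_lit 61440) (Steps.bwd (nat_lit 16) (Steps.bwd (nat_lit 16) (Steps.bwd (nat_lit 16) Steps.nil)))) (nat_lit 23) (nat_lit 0),
  Rule.mk (nat_lit 15) (nat_lit 72) (Steps.bwd (nat_lit 2) (Steps.fwd (nat_lit 61440) (Steps.bwd (nat_lit 1) (Steps.fwd (nat_lit 65536) Steps.nil)))) (nat_lit 49) (nat_lit 2),
  Rule.mk (nat_lit 16) (nat_lit 72) (Steps.bwd (nat_lit 16) (Steps.bwd (nat_lit 16) (Steps.fwd (nat_lit 61440) (Steps.fwd (nat_lit 61440) Steps.nil)))) (nat_lit 23) (nat_lit 0),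
  Rule.mk (nat_lit 1) (nat_lit 117) (Steps.bwd (nat_lit 1) (Steps.fwd (nat_lit 8192) (Steps.bwd (nat_lit 1) (Steps.bwd (nat_lit 1) (Steps.fwd (nat_lit 8192) (Steps.bwd (nat_lit 1) (Steps.fwd (nat_lit 8192) Steps.nil))))))) (nat_lit 0) (nat_lit 0),
  Rule.mk (nat_lit 7) (nat_lit 72) (Steps.bwd (nat_lit 7) (Steps.fwd (nat_lit 4096) (Steps.fwd (nat_lit 40960) (Steps.bwd (nat_lit 1) Steps.nil)))) (nat_lit 42) (nat_lit 4),
  Rule.mk (nat_lit 8) (nat_lit 72) (Steps.fwd (nat_lit 28672) (Steps.fwd (nat_lit 4096) (Steps.fwd (nat_lit 36864) (Steps.bwd (nat_lit 1) Steps.nil)))) (nat_lit 43) (nat_lit 1),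
  Rule.mk (nat_lit 1) (nat_lit 57) (Steps.bwd (nat_lit 9) (Steps.fwd (nat_lit 4096) (Steps.fwd (nat_lit 20480) Steps.nil))) (nat_lit 12) (nat_lit 0),
  Rule.mk (nat_lit 12) (nat_lit 102) (Steps.bwd (nat_lit 12) (Steps.fwd (nat_lit 32768) (Steps.fwd (nat_lit 57344) (Steps.bwd (nat_lit 2) (Steps.bwd (nat_lit 12) (Steps.bwd (nat_lit 1) Steps.nil)))))) (nat_lit 45) (nat_lit 1),
  Rule.mk (nat_lit 8) (nat_lit 87) (Steps.bwd (nat_lit 11) (Steps.bwd (nat_lit 7) (Steps.fwd (nat_lit 61440) (Steps.bwd (nat_lit 16) (Steps.bwd (nat_lit 12) Steps.nil))))) (nat_lit 33) (nat_lit 4),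
  Rule.mk (nat_lit 12) (nat_lit 87) (Steps.bwd (nat_lit 7) (Steps.bwd (nat_lit 11) (Steps.bwd (nat_lit 15) (Steps.bwd (nat_lit 15) (Steps.bwd (nat_lit 8) Steps.nil))))) (nat_lit 32) (nat_lit 2),
  Rule.mk (nat_lit 8) (nat_lit 87) (Steps.bwd (nat_lit 11) (Steps.fwd (nat_lit 32768) (Steps.fwd (nat_lit 61440) (Steps.bwd (nat_lit 16) (Steps.bwd (nat_lit 12) Steps.nil))))) (nat_lit 33) (nat_lit 4),
  Rule.mk (nat_lit 11) (nat_lit 87) (Steps.fwd (nat_lit 32768) (Steps.fwd (nat_lit 61440) (Steps.fwd (nat_lit 61440) (Steps.fwd (nat_lit 45056) (Steps.bwd (nat_lit 8) Steps.nil))))) (nat_lit 33) (nat_lit 5),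
  Rule.mk (nat_lit 1) (nat_lit 72) (Steps.bwd (nat_lit 8) (Steps.fwd (nat_lit 28672) (Steps.bwd (nat_lit 2) (Steps.fwd (nat_lit 36864) Steps.nil)))) (nat_lit 43) (nat_lit 0),
  Rule.mk (nat_lit 8) (nat_lit 72) (Steps.bwd (nat_lit 8) (Steps.bwd (nat_lit 8) (Steps.bwd (nat_lit 8) (Steps.fwd (nat_lit 28672) Steps.nil)))) (nat_lit 21) (nat_lit 0),
  Rule.mk (nat_lit 12) (nat_lit 72) (Steps.bwd (nat_lit 9) (Steps.bwd (nat_lit 11) (Steps.bwd (nat_lit 15) (Steps.bwd (nat_lit 10) Steps.nil)))) (nat_lit 36) (nat_lit 2),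
  Rule.mk (nat_lit 12) (nat_lit 57) (Steps.bwd (nat_lit 15) (Steps.bwd (nat_lit 11) (Steps.bwd (nat_lit 16) Steps.nil))) (nat_lit 29) (nat_lit 2),
  Rule.mk (nat_lit 16) (nat_lit 57) (Steps.bwd (nat_lit 11) (Steps.fwd (nat_lit 65536) (Steps.fwd (nat_lit 45056) Steps.nil))) (nat_lit 28) (nat_lit 2),
  Rule.mk (nat_lit 16) (nat_lit 87) (Steps.bwd (nat_lit 12) (Steps.bwd (nat_lit 8) (Steps.fwd (nat_lit 49152) (Steps.fwd (nat_lit 32768) (Steps.bwd (nat_lit 16) Steps.nil))))) (nat_lit 33) (nat_lit 2),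
  Rule.mk (nat_lit 12) (nat_lit 87) (Steps.bwd (nat_lit 8) (Steps.bwd (nat_lit 11) (Steps.bwd (nat_lit 7) (Steps.bwd (nat_lit 16) (Steps.fwd (nat_lit 61440) Steps.nil))))) (nat_lit 33) (nat_lit 3),
  Rule.mk (nat_lit 9) (nat_lit 72) (Steps.bwd (nat_lit 11) (Steps.bwd (nat_lit 15) (Steps.fwd (nat_lit 36864) (Steps.bwd (nat_lit 12) Steps.nil)))) (nat_lit 36) (nat_lit 3),
  Rule.mk (nat_lit 8) (nat_lit 57) (Steps.fwd (nat_lit 65536) (Steps.bwd (nat_lit 7) (Steps.bwd (nat_lit 16) Steps.nil))) (nat_lit 25) (nat_lit 2),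
  Rule.mk (nat_lit 8) (nat_lit 72) (Steps.bwd (nat_lit 2) (Steps.bwd (nat_lit 10) (Steps.bwd (nat_lit 1) (Steps.fwd (nat_lit 28672) Steps.nil)))) (nat_lit 43) (nat_lit 2),
  Rule.mk (nat_lit 8) (nat_lit 87) (Steps.bwd (nat_lit 13) (Steps.bwd (nat_lit 7) (Steps.fwd (nat_lit 65536) (Steps.fwd (nat_lit 65536) (Steps.fwd (nat_lit 53248) Steps.nil))))) (nat_lit 35) (nat_lit 4),
  Rule.mk (nat_lit 7) (nat_lit 72) (Steps.bwd (nat_lit 7) (Steps.bwd (nat_lit 7) (Steps.fwd (nat_lit 32768) (Steps.bwd (nat_lit 7) Steps.nil)))) (nat_lit 20) (nat_lit 0),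
  Rule.mk (nat_lit 7) (nat_lit 72) (Steps.bwd (nat_lit 7) (Steps.bwd (nat_lit 7) (Steps.bwd (nat_lit 7) (Steps.bwd (nat_lit 7) Steps.nil)))) (nat_lit 20) (nat_lit 0),
  Rule.mk (nat_lit 14) (nat_lit 87) (Steps.fwd (nat_lit 32768) (Steps.fwd (nat_lit 57344) (Steps.fwd (nat_lit 61440) (Steps.fwd (nat_lit 61440) (Steps.bwd (nat_lit 8) Steps.nil))))) (nat_lit 34) (nat_lit 2),
  Rule.mk (nat_lit 7) (nat_lit 72) (Steps.bwd (nat_lit 15) (Steps.bwd (nat_lit 10) (Steps.bwd (nat_lit 8) (Steps.bwd (nat_lit 9) Steps.nil)))) (nat_lit 18) (nat_lit 0),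
  Rule.mk (nat_lit 15) (nat_lit 72) (Steps.bwd (nat_lit 15) (Steps.bwd (nat_lit 15) (Steps.fwd (nat_lit 65536) (Steps.fwd (nat_lit 65536) Steps.nil)))) (nat_lit 22) (nat_lit 0),
  Rule.mk (nat_lit 2) (nat_lit 87) (Steps.bwd (nat_lit 4) (Steps.fwd (nat_lit 8192) (Steps.fwd (nat_lit 8192) (Steps.fwd (nat_lit 16384) (Steps.bwd (nat_lit 2) Steps.nil))))) (nat_lit 6) (nat_lit 2),
  Rule.mk (nat_lit 4) (nat_lit 87) (Steps.fwd (nat_lit 4096) (Steps.fwd (nat_lit 4096) (Steps.bwd (nat_lit 3) (Steps.fwd (nat_lit 8192) (Steps.bwd (nat_lit 1) Steps.nil))))) (nat_lit 7) (nat_lit 1),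
  Rule.mk (nat_lit 1) (nat_lit 117) (Steps.bwd (nat_lit 1) (Steps.bwd (nat_lit 1) (Steps.bwd (nat_lit 1) (Steps.fwd (nat_lit 8192) (Steps.fwd (nat_lit 8192) (Steps.fwd (nat_lit 8192) (Steps.bwd (nat_lit 1) Steps.nil))))))) (nat_lit 0) (nat_lit 0),
  Rule.mk (nat_lit 12) (nat_lit 57) (Steps.fwd (nat_lit 12288) (Steps.bwd (nat_lit 5) (Steps.bwd (nat_lit 3) Steps.nil))) (nat_lit 15) (nat_lit 0),
  Rule.mk (nat_lit 11) (nat_lit 57) (Steps.bwd (nat_lit 16) (Steps.bwd (nat_lit 12) (Steps.fwd (nat_lit 65536) Steps.nil))) (nat_lit 29) (nat_lit 0),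
  Rule.mk (nat_lit 15) (nat_lit 57) (Steps.fwd (nat_lit 45056) (Steps.bwd (nat_lit 16) (Steps.bwd (nat_lit 11) Steps.nil))) (nat_lit 28) (nat_lit 0),
  Rule.mk (nat_lit 1) (nat_lit 72) (Steps.fwd (nat_lit 65536) (Steps.bwd (nat_lit 15) (Steps.fwd (nat_lit 4096) (Steps.fwd (nat_lit 61440) Steps.nil)))) (nat_lit 49) (nat_lit 0),
  Rule.mk (nat_lit 1) (nat_lit 87) (Steps.bwd (nat_lit 1) (Steps.fwd (nat_lit 12288) (Steps.fwd (nat_lit 4096) (Steps.bwd (nat_lit 2) (Steps.fwd (nat_lit 16384) Steps.nil))))) (nat_lit 7) (nat_lit 5),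
  Rule.mk (nat_lit 11) (nat_lit 102) (Steps.bwd (nat_lit 11) (Steps.bwd (nat_lit 2) (Steps.fwd (nat_lit 49152) (Steps.bwd (nat_lit 1) (Steps.bwd (nat_lit 14) (Steps.fwd (nat_lit 28672) Steps.nil)))))) (nat_lit 44) (nat_lit 6),
  Rule.mk (nat_lit 15) (nat_lit 57) (Steps.bwd (nat_lit 12) (Steps.bwd (nat_lit 16) (Steps.bwd (nat_lit 11) Steps.nil))) (nat_lit 28) (nat_lit 0),
  Rule.mk (nat_lit 12) (nat_lit 102) (Steps.bwd (nat_lit 12) (Steps.bwd (nat_lit 7) (Steps.fwd (nat_lit 57344) (Steps.fwd (nat_lit 4096) (Steps.bwd (nat_lit 12) (Steps.fwd (nat_lit 8192) Steps.nil)))))) (nat_lit 45) (nat_lit 1),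
  Rule.mk (nat_lit 11) (nat_lit 72) (Steps.bwd (nat_lit 13) (Steps.bwd (nat_lit 15) (Steps.bwd (nat_lit 12) (Steps.bwd (nat_lit 14) Steps.nil)))) (nat_lit 40) (nat_lit 3),
  Rule.mk (nat_lit 7) (nat_lit 87) (Steps.bwd (nat_lit 16) (Steps.fwd (nat_lit 61440) (Steps.fwd (nat_lit 45056) (Steps.fwd (nat_lit 28672) (Steps.bwd (nat_lit 11) Steps.nil))))) (nat_lit 33) (nat_lit 0),
  Rule.mk (nat_lit 7) (nat_lit 72) (Steps.bwd (nat_lit 7) (Steps.fwd (nat_lit 32768) (Steps.fwd (nat_lit 32768) (Steps.fwd (nat_lit 32768) Steps.nil)))) (nat_lit 20) (nat_lit 0),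
  Rule.mk (nat_lit 7) (nat_lit 87) (Steps.bwd (nat_lit 11) (Steps.fwd (nat_lit 65536) (Steps.bwd (nat_lit 15) (Steps.bwd (nat_lit 8) (Steps.fwd (nat_lit 45056) Steps.nil))))) (nat_lit 32) (nat_lit 3),
  Rule.mk (nat_lit 11) (nat_lit 72) (Steps.bwd (nat_lit 9) (Steps.bwd (nat_lit 16) (Steps.fwd (nat_lit 45056) (Steps.fwd (nat_lit 36864) Steps.nil)))) (nat_lit 37) (nat_lit 4),
  Rule.mk (nat_lit 8) (nat_lit 87) (Steps.bwd (nat_lit 12) (Steps.fwd (nat_lit 32768) (Steps.bwd (nat_lit 11) (Steps.fwd (nat_lit 65536) (Steps.bwd (nat_lit 15) Steps.nil))))) (nat_lit 32) (nat_lit 1),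
  Rule.mk (nat_lit 10) (nat_lit 72) (Steps.bwd (nat_lit 12) (Steps.bwd (nat_lit 9) (Steps.fwd (nat_lit 49152) (Steps.bwd (nat_lit 15) Steps.nil)))) (nat_lit 36) (nat_lit 1),
  Rule.mk (nat_lit 11) (nat_lit 72) (Steps.bwd (nat_lit 9) (Steps.fwd (nat_lit 61440) (Steps.bwd (nat_lit 12) (Steps.bwd (nat_lit 10) Steps.nil)))) (nat_lit 37) (nat_lit 4),
  Rule.mk (nat_lit 12) (nat_lit 57) (Steps.fwd (nat_lit 61440) (Steps.bwd (nat_lit 11) (Steps.bwd (nat_lit 15) Steps.nil))) (nat_lit 28) (nat_lit 1),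
  Rule.mk (nat_lit 11) (nat_lit 102) (Steps.bwd (nat_lit 2) (Steps.bwd (nat_lit 11) (Steps.bwd (nat_lit 1) (Steps.bwd (nat_lit 14) (Steps.fwd (nat_lit 28672) (Steps.bwd (nat_lit 11) Steps.nil)))))) (nat_lit 44) (nat_lit 0),
  Rule.mk (nat_lit 12) (nat_lit 102) (Steps.bwd (nat_lit 12) (Steps.fwd (nat_lit 32768) (Steps.fwd (nat_lit 57344) (Steps.fwd (nat_lit 4096) (Steps.bwd (nat_lit 12) (Steps.bwd (nat_lit 1) Steps.nil)))))) (nat_lit 45) (nat_lit 1),
  Rule.mk (nat_lit 11) (nat_lit 57) (Steps.bwd (nat_lit 15) (Steps.bwd (nat_lit 12) (Steps.fwd (nat_lit 61440) Steps.nil))) (nat_lit 28) (nat_lit 3),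
  Rule.mk (nat_lit 9) (nat_lit 72) (Steps.fwd (nat_lit 61440) (Steps.fwd (nat_lit 45056) (Steps.fwd (nat_lit 36864) (Steps.bwd (nat_lit 11) Steps.nil)))) (nat_lit 37) (nat_lit 0)]
noncomputable def R_10 : List (Rule) := [Rule.mk (nat_lit 3) (nat_lit 57) (Steps.bwd (nat_lit 12) (Steps.fwd (nat_lit 12288) (Steps.fwd (nat_lit 24576) Steps.nil))) (nat_lit 15) (nat_lit 3),
  Rule.mk (nat_lit 12) (nat_lit 102) (Steps.bwd (nat_lit 12) (Steps.bwd (nat_lit 7) (Steps.fwd (nat_lit 57344) (Steps.fwd (nat_lit 4096) (Steps.bwd (nat_lit 12) (Steps.bwd (nat_lit 1) Steps.nil)))))) (nat_lit 45) (nat_lit 1),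
  Rule.mk (nat_lit 4) (nat_lit 57) (Steps.fwd (nat_lit 65536) (Steps.bwd (nat_lit 3) (Steps.fwd (nat_lit 61440) Steps.nil))) (nat_lit 54) (nat_lit 1),
  Rule.mk (nat_lit 12) (nat_lit 57) (Steps.bwd (nat_lit 16) (Steps.fwd (nat_lit 49152) (Steps.fwd (nat_lit 65536) Steps.nil))) (nat_lit 28) (nat_lit 1),
  Rule.mk (nat_lit 6) (nat_lit 57) (Steps.bwd (nat_lit 4) (Steps.bwd (nat_lit 13) (Steps.fwd (nat_lit 16384) Steps.nil))) (nat_lit 16) (nat_lit 3),
  Rule.mk (nat_lit 12) (nat_lit 117) (Steps.bwd (nat_lit 4) (Steps.bwd (nat_lit 12) (Steps.fwd (nat_lit 16384) (Steps.bwd (nat_lit 7) (Steps.fwd (nat_lit 32768) (Steps.bwd (nat_lit 13) (Steps.bwd (nat_lit 12) Steps.nil))))))) (nat_lit 53) (nat_lit 5),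
  Rule.mk (nat_lit 14) (nat_lit 72) (Steps.bwd (nat_lit 11) (Steps.fwd (nat_lit 57344) (Steps.fwd (nat_lit 65536) (Steps.bwd (nat_lit 12) Steps.nil)))) (nat_lit 40) (nat_lit 2),
  Rule.mk (nat_lit 7) (nat_lit 57) (Steps.fwd (nat_lit 61440) (Steps.bwd (nat_lit 8) (Steps.bwd (nat_lit 15) Steps.nil))) (nat_lit 25) (nat_lit 0),
  Rule.mk (nat_lit 4) (nat_lit 57) (Steps.fwd (nat_lit 61440) (Steps.fwd (nat_lit 16384) (Steps.bwd (nat_lit 15) Steps.nil))) (nat_lit 55) (nat_lit 2),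
  Rule.mk (nat_lit 15) (nat_lit 72) (Steps.bwd (nat_lit 12) (Steps.fwd (nat_lit 53248) (Steps.fwd (nat_lit 49152) (Steps.bwd (nat_lit 13) Steps.nil)))) (nat_lit 40) (nat_lit 0),
  Rule.mk (nat_lit 8) (nat_lit 87) (Steps.fwd (nat_lit 57344) (Steps.bwd (nat_lit 7) (Steps.fwd (nat_lit 65536) (Steps.bwd (nat_lit 15) (Steps.bwd (nat_lit 14) Steps.nil))))) (nat_lit 35) (nat_lit 4),
  Rule.mk (nat_lit 11) (nat_lit 87) (Steps.bwd (nat_lit 7) (Steps.bwd (nat_lit 16) (Steps.fwd (nat_lit 61440) (Steps.fwd (nat_lit 45056) (Steps.fwd (nat_lit 28672) Steps.nil))))) (nat_lit 33) (nat_lit 5),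
  Rule.mk (nat_lit 3) (nat_lit 117) (Steps.bwd (nat_lit 7) (Steps.bwd (nat_lit 7) (Steps.fwd (nat_lit 57344) (Steps.bwd (nat_lit 12) (Steps.bwd (nat_lit 12) (Steps.bwd (nat_lit 4) (Steps.fwd (nat_lit 45056) Steps.nil))))))) (nat_lit 53) (nat_lit 0),
  Rule.mk (nat_lit 11) (nat_lit 72) (Steps.bwd (nat_lit 16) (Steps.fwd (nat_lit 53248) (Steps.fwd (nat_lit 45056) (Steps.bwd (nat_lit 13) Steps.nil)))) (nat_lit 41) (nat_lit 0),
  Rule.mk (nat_lit 12) (nat_lit 87) (Steps.bwd (nat_lit 8) (Steps.bwd (nat_lit 11) (Steps.fwd (nat_lit 32768) (Steps.bwd (nat_lit 16) (Steps.bwd (nat_lit 16) Steps.nil))))) (nat_lit 33) (nat_lit 3),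
  Rule.mk (nat_lit 16) (nat_lit 87) (Steps.bwd (nat_lit 8) (Steps.fwd (nat_lit 53248) (Steps.fwd (nat_lit 32768) (Steps.bwd (nat_lit 13) (Steps.bwd (nat_lit 16) Steps.nil))))) (nat_lit 34) (nat_lit 0),
  Rule.mk (nat_lit 4) (nat_lit 57) (Steps.bwd (nat_lit 13) (Steps.bwd (nat_lit 3) (Steps.fwd (nat_lit 20480) Steps.nil))) (nat_lit 16) (nat_lit 0),
  Rule.mk (nat_lit 7) (nat_lit 87) (Steps.bwd (nat_lit 13) (Steps.fwd (nat_lit 61440) (Steps.fwd (nat_lit 61440) (Steps.bwd (nat_lit 8) (Steps.bwd (nat_lit 14) Steps.nil))))) (nat_lit 34) (nat_lit 3),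
  Rule.mk (nat_lit 16) (nat_lit 72) (Steps.bwd (nat_lit 14) (Steps.fwd (nat_lit 45056) (Steps.bwd (nat_lit 13) (Steps.bwd (nat_lit 11) Steps.nil)))) (nat_lit 41) (nat_lit 1),
  Rule.mk (nat_lit 12) (nat_lit 57) (Steps.fwd (nat_lit 65536) (Steps.bwd (nat_lit 11) (Steps.bwd (nat_lit 16) Steps.nil))) (nat_lit 29) (nat_lit 2),
  Rule.mk (nat_lit 13) (nat_lit 57) (Steps.bwd (nat_lit 9) (Steps.fwd (nat_lit 53248) (Steps.fwd (nat_lit 36864) Steps.nil))) (nat_lit 39) (nat_lit 3),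
  Rule.mk (nat_lit 11) (nat_lit 72) (Steps.bwd (nat_lit 9) (Steps.bwd (nat_lit 16) (Steps.bwd (nat_lit 12) (Steps.fwd (nat_lit 36864) Steps.nil)))) (nat_lit 37) (nat_lit 4),
  Rule.mk (nat_lit 10) (nat_lit 72) (Steps.bwd (nat_lit 12) (Steps.bwd (nat_lit 9) (Steps.bwd (nat_lit 11) (Steps.bwd (nat_lit 15) Steps.nil)))) (nat_lit 36) (nat_lit 1),
  Rule.mk (nat_lit 11) (nat_lit 72) (Steps.bwd (nat_lit 9) (Steps.bwd (nat_lit 16) (Steps.bwd (nat_lit 12) (Steps.bwd (nat_lit 10) Steps.nil)))) (nat_lit 37) (nat_lit 4),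
  Rule.mk (nat_lit 14) (nat_lit 57) (Steps.fwd (nat_lit 61440) (Steps.bwd (nat_lit 13) (Steps.fwd (nat_lit 65536) Steps.nil))) (nat_lit 30) (nat_lit 1),
  Rule.mk (nat_lit 9) (nat_lit 57) (Steps.fwd (nat_lit 65536) (Steps.fwd (nat_lit 36864) (Steps.bwd (nat_lit 16) Steps.nil))) (nat_lit 26) (nat_lit 3),
  Rule.mk (nat_lit 7) (nat_lit 87) (Steps.bwd (nat_lit 13) (Steps.bwd (nat_lit 16) (Steps.fwd (nat_lit 61440) (Steps.bwd (nat_lit 8) (Steps.fwd (nat_lit 53248) Steps.nil))))) (nat_lit 34) (nat_lit 3),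
  Rule.mk (nat_lit 7) (nat_lit 57) (Steps.fwd (nat_lit 65536) (Steps.bwd (nat_lit 8) (Steps.fwd (nat_lit 61440) Steps.nil))) (nat_lit 24) (nat_lit 3),
  Rule.mk (nat_lit 13) (nat_lit 87) (Steps.bwd (nat_lit 7) (Steps.fwd (nat_lit 65536) (Steps.bwd (nat_lit 15) (Steps.bwd (nat_lit 14) (Steps.fwd (nat_lit 28672) Steps.nil))))) (nat_lit 35) (nat_lit 5),
  Rule.mk (nat_lit 10) (nat_lit 72) (Steps.fwd (nat_lit 8192) (Steps.bwd (nat_lit 8) (Steps.fwd (nat_lit 28672) (Steps.bwd (nat_lit 2) Steps.nil)))) (nat_lit 43) (nat_lit 4),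
  Rule.mk (nat_lit 8) (nat_lit 72) (Steps.bwd (nat_lit 10) (Steps.bwd (nat_lit 7) (Steps.fwd (nat_lit 40960) (Steps.bwd (nat_lit 16) Steps.nil)))) (nat_lit 19) (nat_lit 1),
  Rule.mk (nat_lit 9) (nat_lit 72) (Steps.fwd (nat_lit 32768) (Steps.fwd (nat_lit 65536) (Steps.fwd (nat_lit 36864) (Steps.bwd (nat_lit 8) Steps.nil)))) (nat_lit 18) (nat_lit 4),
  Rule.mk (nat_lit 15) (nat_lit 57) (Steps.fwd (nat_lit 40960) (Steps.bwd (nat_lit 16) (Steps.bwd (nat_lit 10) Steps.nil))) (nat_lit 27) (nat_lit 3),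
  Rule.mk (nat_lit 15) (nat_lit 72) (Steps.bwd (nat_lit 15) (Steps.fwd (nat_lit 65536) (Steps.fwd (nat_lit 65536) (Steps.fwd (nat_lit 65536) Steps.nil)))) (nat_lit 22) (nat_lit 0),
  Rule.mk (nat_lit 11) (nat_lit 57) (Steps.fwd (nat_lit 61440) (Steps.fwd (nat_lit 45056) (Steps.bwd (nat_lit 15) Steps.nil))) (nat_lit 29) (nat_lit 0),
  Rule.mk (nat_lit 11) (nat_lit 102) (Steps.bwd (nat_lit 1) (Steps.bwd (nat_lit 14) (Steps.bwd (nat_lit 8) (Steps.bwd (nat_lit 11) (Steps.bwd (nat_lit 11) (Steps.fwd (nat_lit 4096) Steps.nil)))))) (nat_lit 44) (nat_lit 2),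
  Rule.mk (nat_lit 10) (nat_lit 57) (Steps.fwd (nat_lit 65536) (Steps.bwd (nat_lit 9) (Steps.bwd (nat_lit 16) Steps.nil))) (nat_lit 27) (nat_lit 2),
  Rule.mk (nat_lit 11) (nat_lit 57) (Steps.bwd (nat_lit 15) (Steps.bwd (nat_lit 12) (Steps.bwd (nat_lit 16) Steps.nil))) (nat_lit 28) (nat_lit 3),
  Rule.mk (nat_lit 13) (nat_lit 72) (Steps.fwd (nat_lit 65536) (Steps.bwd (nat_lit 12) (Steps.bwd (nat_lit 14) (Steps.bwd (nat_lit 11) Steps.nil)))) (nat_lit 40) (nat_lit 4),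
  Rule.mk (nat_lit 3) (nat_lit 57) (Steps.bwd (nat_lit 11) (Steps.bwd (nat_lit 4) (Steps.fwd (nat_lit 20480) Steps.nil))) (nat_lit 14) (nat_lit 0),
  Rule.mk (nat_lit 15) (nat_lit 87) (Steps.bwd (nat_lit 14) (Steps.bwd (nat_lit 8) (Steps.fwd (nat_lit 57344) (Steps.bwd (nat_lit 7) (Steps.fwd (nat_lit 65536) Steps.nil))))) (nat_lit 35) (nat_lit 2),
  Rule.mk (nat_lit 11) (nat_lit 117) (Steps.bwd (nat_lit 14) (Steps.bwd (nat_lit 8) (Steps.fwd (nat_lit 28672) (Steps.fwd (nat_lit 12288) (Steps.fwd (nat_lit 49152) (Steps.bwd (nat_lit 3) (Steps.bwd (nat_lit 11) Steps.nil))))))) (nat_lit 52) (nat_lit 5),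
  Rule.mk (nat_lit 3) (nat_lit 57) (Steps.fwd (nat_lit 61440) (Steps.bwd (nat_lit 4) (Steps.bwd (nat_lit 15) Steps.nil))) (nat_lit 54) (nat_lit 3),
  Rule.mk (nat_lit 12) (nat_lit 72) (Steps.bwd (nat_lit 14) (Steps.fwd (nat_lit 49152) (Steps.fwd (nat_lit 57344) (Steps.fwd (nat_lit 65536) Steps.nil)))) (nat_lit 40) (nat_lit 1),
  Rule.mk (nat_lit 8) (nat_lit 87) (Steps.bwd (nat_lit 14) (Steps.fwd (nat_lit 32768) (Steps.bwd (nat_lit 13) (Steps.bwd (nat_lit 16) (Steps.fwd (nat_lit 61440) Steps.nil))))) (nat_lit 34) (nat_lit 1),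
  Rule.mk (nat_lit 15) (nat_lit 57) (Steps.bwd (nat_lit 3) (Steps.fwd (nat_lit 61440) (Steps.bwd (nat_lit 4) Steps.nil))) (nat_lit 54) (nat_lit 2),
  Rule.mk (nat_lit 8) (nat_lit 87) (Steps.bwd (nat_lit 12) (Steps.bwd (nat_lit 7) (Steps.fwd (nat_lit 49152) (Steps.fwd (nat_lit 65536) (Steps.fwd (nat_lit 65536) Steps.nil))))) (nat_lit 32) (nat_lit 1),
  Rule.mk (nat_lit 14) (nat_lit 87) (Steps.fwd (nat_lit 32768) (Steps.bwd (nat_lit 13) (Steps.bwd (nat_lit 16) (Steps.fwd (nat_lit 61440) (Steps.bwd (nat_lit 8) Steps.nil))))) (nat_lit 34) (nat_lit 2),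
  Rule.mk (nat_lit 2) (nat_lit 57) (Steps.fwd (nat_lit 24576) (Steps.bwd (nat_lit 1) (Steps.bwd (nat_lit 10) Steps.nil))) (nat_lit 13) (nat_lit 1),
  Rule.mk (nat_lit 2) (nat_lit 72) (Steps.fwd (nat_lit 61440) (Steps.bwd (nat_lit 1) (Steps.fwd (nat_lit 65536) (Steps.fwd (nat_lit 65536) Steps.nil)))) (nat_lit 49) (nat_lit 3),
  Rule.mk (nat_lit 1) (nat_lit 57) (Steps.fwd (nat_lit 40960) (Steps.bwd (nat_lit 2) (Steps.fwd (nat_lit 20480) Steps.nil))) (nat_lit 12) (nat_lit 0),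
  Rule.mk (nat_lit 1) (nat_lit 57) (Steps.fwd (nat_lit 36864) (Steps.bwd (nat_lit 2) (Steps.fwd (nat_lit 24576) Steps.nil))) (nat_lit 13) (nat_lit 3),
  Rule.mk (nat_lit 2) (nat_lit 72) (Steps.fwd (nat_lit 65536) (Steps.bwd (nat_lit 1) (Steps.bwd (nat_lit 16) (Steps.fwd (nat_lit 61440) Steps.nil)))) (nat_lit 48) (nat_lit 1),
  Rule.mk (nat_lit 1) (nat_lit 57) (Steps.fwd (nat_lit 40960) (Steps.bwd (nat_lit 2) (Steps.bwd (nat_lit 6) Steps.nil))) (nat_lit 12) (nat_lit 0),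
  Rule.mk (nat_lit 1) (nat_lit 72) (Steps.fwd (nat_lit 61440) (Steps.bwd (nat_lit 16) (Steps.bwd (nat_lit 2) (Steps.bwd (nat_lit 15) Steps.nil)))) (nat_lit 48) (nat_lit 3),
  Rule.mk (nat_lit 6) (nat_lit 57) (Steps.fwd (nat_lit 12288) (Steps.bwd (nat_lit 13) (Steps.bwd (nat_lit 3) Steps.nil))) (nat_lit 16) (nat_lit 3),
  Rule.mk (nat_lit 12) (nat_lit 87) (Steps.bwd (nat_lit 8) (Steps.bwd (nat_lit 11) (Steps.fwd (nat_lit 32768) (Steps.fwd (nat_lit 61440) (Steps.bwd (nat_lit 16) Steps.nil))))) (nat_lit 33) (nat_lit 3),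
  Rule.mk (nat_lit 14) (nat_lit 102) (Steps.bwd (nat_lit 8) (Steps.bwd (nat_lit 11) (Steps.fwd (nat_lit 49152) (Steps.fwd (nat_lit 4096) (Steps.fwd (nat_lit 49152) (Steps.fwd (nat_lit 8192) Steps.nil)))))) (nat_lit 44) (nat_lit 4),
  Rule.mk (nat_lit 4) (nat_lit 57) (Steps.bwd (nat_lit 5) (Steps.fwd (nat_lit 16384) (Steps.bwd (nat_lit 12) Steps.nil))) (nat_lit 15) (nat_lit 1),
  Rule.mk (nat_lit 1) (nat_lit 57) (Steps.bwd (nat_lit 9) (Steps.bwd (nat_lit 2) (Steps.fwd (nat_lit 20480) Steps.nil))) (nat_lit 12) (nat_lit 0),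
  Rule.mk (nat_lit 7) (nat_lit 72) (Steps.bwd (nat_lit 9) (Steps.bwd (nat_lit 16) (Steps.fwd (nat_lit 28672) (Steps.fwd (nat_lit 36864) Steps.nil)))) (nat_lit 19) (nat_lit 3),
  Rule.mk (nat_lit 1) (nat_lit 72) (Steps.fwd (nat_lit 65536) (Steps.bwd (nat_lit 15) (Steps.bwd (nat_lit 2) (Steps.bwd (nat_lit 16) Steps.nil)))) (nat_lit 49) (nat_lit 0),
  Rule.mk (nat_lit 3) (nat_lit 87) (Steps.bwd (nat_lit 2) (Steps.bwd (nat_lit 2) (Steps.fwd (nat_lit 12288) (Steps.fwd (nat_lit 8192) (Steps.bwd (nat_lit 1) Steps.nil))))) (nat_lit 6) (nat_lit 0),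
  Rule.mk (nat_lit 3) (nat_lit 57) (Steps.bwd (nat_lit 15) (Steps.fwd (nat_lit 12288) (Steps.bwd (nat_lit 16) Steps.nil))) (nat_lit 55) (nat_lit 0)]
noncomputable def R_11 : List (Rule) := [Rule.mk (nat_lit 4) (nat_lit 72) (Steps.bwd (nat_lit 4) (Steps.fwd (nat_lit 12288) (Steps.fwd (nat_lit 12288) (Steps.bwd (nat_lit 4) Steps.nil)))) (nat_lit 3) (nat_lit 0),
  Rule.mk (nat_lit 9) (nat_lit 72) (Steps.bwd (nat_lit 7) (Steps.fwd (nat_lit 65536) (Steps.fwd (nat_lit 36864) (Steps.fwd (nat_lit 28672) Steps.nil)))) (nat_lit 18) (nat_lit 4),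
  Rule.mk (nat_lit 14) (nat_lit 57) (Steps.fwd (nat_lit 65536) (Steps.bwd (nat_lit 13) (Steps.fwd (nat_lit 61440) Steps.nil))) (nat_lit 31) (nat_lit 2),
  Rule.mk (nat_lit 14) (nat_lit 57) (Steps.bwd (nat_lit 10) (Steps.fwd (nat_lit 57344) (Steps.fwd (nat_lit 40960) Steps.nil))) (nat_lit 39) (nat_lit 1),
  Rule.mk (nat_lit 12) (nat_lit 72) (Steps.bwd (nat_lit 10) (Steps.fwd (nat_lit 49152) (Steps.bwd (nat_lit 9) (Steps.fwd (nat_lit 61440) Steps.nil)))) (nat_lit 37) (nat_lit 2),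
  Rule.mk (nat_lit 8) (nat_lit 87) (Steps.bwd (nat_lit 13) (Steps.bwd (nat_lit 7) (Steps.fwd (nat_lit 65536) (Steps.bwd (nat_lit 15) (Steps.bwd (nat_lit 14) Steps.nil))))) (nat_lit 35) (nat_lit 4),
  Rule.mk (nat_lit 14) (nat_lit 132) (Steps.bwd (nat_lit 11) (Steps.fwd (nat_lit 40960) (Steps.bwd (nat_lit 8) (Steps.fwd (nat_lit 4096) (Steps.bwd (nat_lit 13) (Steps.bwd (nat_lit 1) (Steps.bwd (nat_lit 14) (Steps.bwd (nat_lit 8) Steps.nil)))))))) (nat_lit 46) (nat_lit 6),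
  Rule.mk (nat_lit 12) (nat_lit 87) (Steps.bwd (nat_lit 8) (Steps.bwd (nat_lit 11) (Steps.bwd (nat_lit 7) (Steps.fwd (nat_lit 61440) (Steps.bwd (nat_lit 16) Steps.nil))))) (nat_lit 33) (nat_lit 3),
  Rule.mk (nat_lit 13) (nat_lit 132) (Steps.fwd (nat_lit 32768) (Steps.fwd (nat_lit 57344) (Steps.bwd (nat_lit 2) (Steps.bwd (nat_lit 14) (Steps.fwd (nat_lit 8192) (Steps.bwd (nat_lit 7) (Steps.bwd (nat_lit 10) (Steps.bwd (nat_lit 12) Steps.nil)))))))) (nat_lit 47) (nat_lit 4),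
  Rule.mk (nat_lit 12) (nat_lit 87) (Steps.bwd (nat_lit 7) (Steps.bwd (nat_lit 11) (Steps.fwd (nat_lit 65536) (Steps.fwd (nat_lit 65536) (Steps.bwd (nat_lit 8) Steps.nil))))) (nat_lit 32) (nat_lit 2),
  Rule.mk (nat_lit 12) (nat_lit 72) (Steps.bwd (nat_lit 9) (Steps.bwd (nat_lit 11) (Steps.fwd (nat_lit 65536) (Steps.bwd (nat_lit 10) Steps.nil)))) (nat_lit 36) (nat_lit 2),
  Rule.mk (nat_lit 4) (nat_lit 57) (Steps.fwd (nat_lit 20480) (Steps.fwd (nat_lit 16384) (Steps.bwd (nat_lit 11) Steps.nil))) (nat_lit 14) (nat_lit 2),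
  Rule.mk (nat_lit 12) (nat_lit 57) (Steps.fwd (nat_lit 65536) (Steps.bwd (nat_lit 11) (Steps.fwd (nat_lit 61440) Steps.nil))) (nat_lit 29) (nat_lit 2),
  Rule.mk (nat_lit 11) (nat_lit 72) (Steps.fwd (nat_lit 61440) (Steps.fwd (nat_lit 53248) (Steps.fwd (nat_lit 45056) (Steps.bwd (nat_lit 13) Steps.nil)))) (nat_lit 41) (nat_lit 0),
  Rule.mk (nat_lit 12) (nat_lit 87) (Steps.fwd (nat_lit 28672) (Steps.bwd (nat_lit 11) (Steps.bwd (nat_lit 7) (Steps.fwd (nat_lit 61440) (Steps.fwd (nat_lit 61440) Steps.nil))))) (nat_lit 33) (nat_lit 3),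
  Rule.mk (nat_lit 11) (nat_lit 57) (Steps.fwd (nat_lit 61440) (Steps.bwd (nat_lit 12) (Steps.fwd (nat_lit 65536) Steps.nil))) (nat_lit 29) (nat_lit 0),
  Rule.mk (nat_lit 4) (nat_lit 57) (Steps.fwd (nat_lit 24576) (Steps.bwd (nat_lit 3) (Steps.bwd (nat_lit 12) Steps.nil))) (nat_lit 15) (nat_lit 1),
  Rule.mk (nat_lit 3) (nat_lit 57) (Steps.bwd (nat_lit 11) (Steps.fwd (nat_lit 12288) (Steps.fwd (nat_lit 20480) Steps.nil))) (nat_lit 14) (nat_lit 0),
  Rule.mk (nat_lit 0) (nat_lit 72) (Steps.bwd (nat_lit 4) (Steps.fwd (nat_lit 24576) (Steps.fwd (nat_lit 16384) (Steps.fwd (nat_lit 45056) Steps.nil)))) (nat_lit 15) (nat_lit 0),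
  Rule.mk (nat_lit 3) (nat_lit 42) (Steps.bwd (nat_lit 0) (Steps.bwd (nat_lit 4) Steps.nil)) (nat_lit 88) (nat_lit 0),
  Rule.mk (nat_lit 0) (nat_lit 57) (Steps.fwd (nat_lit 61440) (Steps.fwd (nat_lit 0) (Steps.fwd (nat_lit 65536) Steps.nil))) (nat_lit 88) (nat_lit 0),
  Rule.mk (nat_lit 3) (nat_lit 57) (Steps.bwd (nat_lit 6) (Steps.bwd (nat_lit 4) (Steps.bwd (nat_lit 13) Steps.nil))) (nat_lit 16) (nat_lit 2),
  Rule.mk (nat_lit 3) (nat_lit 57) (Steps.bwd (nat_lit 5) (Steps.bwd (nat_lit 4) (Steps.bwd (nat_lit 14) Steps.nil))) (nat_lit 17) (nat_lit 1),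
  Rule.mk (nat_lit 4) (nat_lit 57) (Steps.fwd (nat_lit 53248) (Steps.bwd (nat_lit 3) (Steps.bwd (nat_lit 5) Steps.nil))) (nat_lit 17) (nat_lit 3),
  Rule.mk (nat_lit 3) (nat_lit 57) (Steps.fwd (nat_lit 65536) (Steps.bwd (nat_lit 4) (Steps.bwd (nat_lit 16) Steps.nil))) (nat_lit 55) (nat_lit 0),
  Rule.mk (nat_lit 13) (nat_lit 87) (Steps.bwd (nat_lit 16) (Steps.bwd (nat_lit 16) (Steps.fwd (nat_lit 28672) (Steps.bwd (nat_lit 14) (Steps.bwd (nat_lit 7) Steps.nil))))) (nat_lit 34) (nat_lit 4),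
  Rule.mk (nat_lit 12) (nat_lit 57) (Steps.bwd (nat_lit 15) (Steps.fwd (nat_lit 49152) (Steps.bwd (nat_lit 16) Steps.nil))) (nat_lit 29) (nat_lit 2),
  Rule.mk (nat_lit 7) (nat_lit 87) (Steps.bwd (nat_lit 15) (Steps.bwd (nat_lit 15) (Steps.fwd (nat_lit 53248) (Steps.fwd (nat_lit 28672) (Steps.bwd (nat_lit 13) Steps.nil))))) (nat_lit 35) (nat_lit 0),
  Rule.mk (nat_lit 12) (nat_lit 87) (Steps.bwd (nat_lit 7) (Steps.fwd (nat_lit 49152) (Steps.fwd (nat_lit 65536) (Steps.fwd (nat_lit 65536) (Steps.fwd (nat_lit 28672) Steps.nil))))) (nat_lit 32) (nat_lit 2),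
  Rule.mk (nat_lit 13) (nat_lit 72) (Steps.bwd (nat_lit 15) (Steps.fwd (nat_lit 45056) (Steps.bwd (nat_lit 14) (Steps.bwd (nat_lit 11) Steps.nil)))) (nat_lit 40) (nat_lit 4),
  Rule.mk (nat_lit 11) (nat_lit 57) (Steps.bwd (nat_lit 16) (Steps.fwd (nat_lit 45056) (Steps.fwd (nat_lit 65536) Steps.nil))) (nat_lit 29) (nat_lit 0),
  Rule.mk (nat_lit 7) (nat_lit 132) (Steps.fwd (nat_lit 57344) (Steps.bwd (nat_lit 2) (Steps.bwd (nat_lit 14) (Steps.fwd (nat_lit 8192) (Steps.fwd (nat_lit 32768) (Steps.bwd (nat_lit 10) (Steps.bwd (nat_lit 12) (Steps.bwd (nat_lit 13) Steps.nil)))))))) (nat_lit 47) (nat_lit 5),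
  Rule.mk (nat_lit 15) (nat_lit 57) (Steps.bwd (nat_lit 3) (Steps.fwd (nat_lit 61440) (Steps.fwd (nat_lit 12288) Steps.nil))) (nat_lit 54) (nat_lit 2),
  Rule.mk (nat_lit 4) (nat_lit 57) (Steps.bwd (nat_lit 13) (Steps.fwd (nat_lit 16384) (Steps.fwd (nat_lit 20480) Steps.nil))) (nat_lit 16) (nat_lit 0),
  Rule.mk (nat_lit 7) (nat_lit 87) (Steps.bwd (nat_lit 13) (Steps.fwd (nat_lit 61440) (Steps.fwd (nat_lit 61440) (Steps.fwd (nat_lit 28672) (Steps.fwd (nat_lit 53248) Steps.nil))))) (nat_lit 34) (nat_lit 3),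
  Rule.mk (nat_lit 16) (nat_lit 57) (Steps.bwd (nat_lit 3) (Steps.bwd (nat_lit 15) (Steps.bwd (nat_lit 4) Steps.nil))) (nat_lit 55) (nat_lit 3),
  Rule.mk (nat_lit 4) (nat_lit 57) (Steps.fwd (nat_lit 65536) (Steps.fwd (nat_lit 16384) (Steps.bwd (nat_lit 16) Steps.nil))) (nat_lit 54) (nat_lit 1),
  Rule.mk (nat_lit 11) (nat_lit 117) (Steps.bwd (nat_lit 14) (Steps.fwd (nat_lit 28672) (Steps.bwd (nat_lit 8) (Steps.fwd (nat_lit 12288) (Steps.bwd (nat_lit 11) (Steps.fwd (nat_lit 16384) (Steps.fwd (nat_lit 49152) Steps.nil))))))) (nat_lit 52) (nat_lit 5),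
  Rule.mk (nat_lit 8) (nat_lit 117) (Steps.bwd (nat_lit 4) (Steps.fwd (nat_lit 49152) (Steps.bwd (nat_lit 3) (Steps.bwd (nat_lit 11) (Steps.bwd (nat_lit 11) (Steps.bwd (nat_lit 14) (Steps.fwd (nat_lit 28672) Steps.nil))))))) (nat_lit 52) (nat_lit 0),
  Rule.mk (nat_lit 3) (nat_lit 72) (Steps.bwd (nat_lit 3) (Steps.bwd (nat_lit 3) (Steps.bwd (nat_lit 3) (Steps.bwd (nat_lit 3) Steps.nil)))) (nat_lit 2) (nat_lit 0),
  Rule.mk (nat_lit 3) (nat_lit 72) (Steps.bwd (nat_lit 3) (Steps.fwd (nat_lit 16384) (Steps.bwd (nat_lit 3) (Steps.bwd (nat_lit 3) Steps.nil)))) (nat_lit 2) (nat_lit 0),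
  Rule.mk (nat_lit 2) (nat_lit 87) (Steps.bwd (nat_lit 3) (Steps.fwd (nat_lit 8192) (Steps.bwd (nat_lit 1) (Steps.bwd (nat_lit 4) (Steps.bwd (nat_lit 2) Steps.nil))))) (nat_lit 7) (nat_lit 3),
  Rule.mk (nat_lit 1) (nat_lit 57) (Steps.bwd (nat_lit 10) (Steps.bwd (nat_lit 2) (Steps.fwd (nat_lit 24576) Steps.nil))) (nat_lit 13) (nat_lit 3),
  Rule.mk (nat_lit 1) (nat_lit 72) (Steps.fwd (nat_lit 61440) (Steps.fwd (nat_lit 61440) (Steps.bwd (nat_lit 2) (Steps.fwd (nat_lit 65536) Steps.nil)))) (nat_lit 48) (nat_lit 3),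
  Rule.mk (nat_lit 2) (nat_lit 57) (Steps.fwd (nat_lit 20480) (Steps.bwd (nat_lit 1) (Steps.fwd (nat_lit 40960) Steps.nil))) (nat_lit 12) (nat_lit 2),
  Rule.mk (nat_lit 1) (nat_lit 57) (Steps.fwd (nat_lit 36864) (Steps.bwd (nat_lit 2) (Steps.bwd (nat_lit 5) Steps.nil))) (nat_lit 13) (nat_lit 3),
  Rule.mk (nat_lit 3) (nat_lit 87) (Steps.fwd (nat_lit 8192) (Steps.bwd (nat_lit 1) (Steps.bwd (nat_lit 4) (Steps.bwd (nat_lit 2) (Steps.bwd (nat_lit 2) Steps.nil))))) (nat_lit 7) (nat_lit 4),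
  Rule.mk (nat_lit 4) (nat_lit 57) (Steps.fwd (nat_lit 20480) (Steps.bwd (nat_lit 3) (Steps.fwd (nat_lit 49152) Steps.nil))) (nat_lit 14) (nat_lit 2),
  Rule.mk (nat_lit 12) (nat_lit 72) (Steps.fwd (nat_lit 53248) (Steps.fwd (nat_lit 49152) (Steps.bwd (nat_lit 13) (Steps.fwd (nat_lit 65536) Steps.nil)))) (nat_lit 40) (nat_lit 1),
  Rule.mk (nat_lit 11) (nat_lit 57) (Steps.fwd (nat_lit 65536) (Steps.bwd (nat_lit 12) (Steps.bwd (nat_lit 16) Steps.nil))) (nat_lit 28) (nat_lit 3),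
  Rule.mk (nat_lit 2) (nat_lit 57) (Steps.fwd (nat_lit 20480) (Steps.bwd (nat_lit 1) (Steps.bwd (nat_lit 9) Steps.nil))) (nat_lit 12) (nat_lit 2),
  Rule.mk (nat_lit 1) (nat_lit 72) (Steps.fwd (nat_lit 61440) (Steps.bwd (nat_lit 16) (Steps.bwd (nat_lit 2) (Steps.fwd (nat_lit 65536) Steps.nil)))) (nat_lit 48) (nat_lit 3),
  Rule.mk (nat_lit 8) (nat_lit 117) (Steps.bwd (nat_lit 4) (Steps.bwd (nat_lit 11) (Steps.fwd (nat_lit 16384) (Steps.bwd (nat_lit 11) (Steps.fwd (nat_lit 49152) (Steps.fwd (nat_lit 53248) (Steps.bwd (nat_lit 8) Steps.nil))))))) (nat_lit 52) (nat_lit 0),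
  Rule.mk (nat_lit 1) (nat_lit 87) (Steps.fwd (nat_lit 16384) (Steps.bwd (nat_lit 2) (Steps.bwd (nat_lit 2) (Steps.fwd (nat_lit 12288) (Steps.fwd (nat_lit 8192) Steps.nil))))) (nat_lit 6) (nat_lit 5),
  Rule.mk (nat_lit 13) (nat_lit 72) (Steps.bwd (nat_lit 11) (Steps.fwd (nat_lit 61440) (Steps.fwd (nat_lit 53248) (Steps.fwd (nat_lit 45056) Steps.nil)))) (nat_lit 41) (nat_lit 4),
  Rule.mk (nat_lit 3) (nat_lit 57) (Steps.bwd (nat_lit 6) (Steps.fwd (nat_lit 12288) (Steps.bwd (nat_lit 13) Steps.nil))) (nat_lit 16) (nat_lit 2),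
  Rule.mk (nat_lit 16) (nat_lit 57) (Steps.fwd (nat_lit 12288) (Steps.fwd (nat_lit 65536) (Steps.bwd (nat_lit 3) Steps.nil))) (nat_lit 54) (nat_lit 0),
  Rule.mk (nat_lit 16) (nat_lit 72) (Steps.bwd (nat_lit 16) (Steps.fwd (nat_lit 61440) (Steps.fwd (nat_lit 61440) (Steps.fwd (nat_lit 61440) Steps.nil)))) (nat_lit 23) (nat_lit 0),
  Rule.mk (nat_lit 0) (nat_lit 102) (Steps.bwd (nat_lit 3) (Steps.fwd (nat_lit 8192) (Steps.bwd (nat_lit 1) (Steps.fwd (nat_lit 12288) (Steps.fwd (nat_lit 4096) (Steps.fwd (nat_lit 4096) Steps.nil)))))) (nat_lit 7) (nat_lit 3),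
  Rule.mk (nat_lit 6) (nat_lit 42) (Steps.bwd (nat_lit 0) (Steps.fwd (nat_lit 24576) Steps.nil)) (nat_lit 88) (nat_lit 0),
  Rule.mk (nat_lit 8) (nat_lit 42) (Steps.bwd (nat_lit 0) (Steps.bwd (nat_lit 7) Steps.nil)) (nat_lit 88) (nat_lit 0),
  Rule.mk (nat_lit 14) (nat_lit 42) (Steps.bwd (nat_lit 0) (Steps.fwd (nat_lit 57344) Steps.nil)) (nat_lit 88) (nat_lit 0),
  Rule.mk (nat_lit 16) (nat_lit 42) (Steps.bwd (nat_lit 0) (Steps.fwd (nat_lit 65536) Steps.nil)) (nat_lit 88) (nat_lit 0),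
  Rule.mk (nat_lit 0) (nat_lit 87) (Steps.fwd (nat_lit 61440) (Steps.fwd (nat_lit 61440) (Steps.bwd (nat_lit 16) (Steps.fwd (nat_lit 61440) (Steps.fwd (nat_lit 61440) Steps.nil))))) (nat_lit 23) (nat_lit 0)]
noncomputable def R_12 : List (Rule) := [Rule.mk (nat_lit 5) (nat_lit 42) (Steps.bwd (nat_lit 0) (Steps.fwd (nat_lit 20480) Steps.nil)) (nat_lit 88) (nat_lit 0),
  Rule.mk (nat_lit 7) (nat_lit 42) (Steps.bwd (nat_lit 0) (Steps.bwd (nat_lit 8) Steps.nil)) (nat_lit 88) (nat_lit 0),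
  Rule.mk (nat_lit 0) (nat_lit 57) (Steps.bwd (nat_lit 15) (Steps.fwd (nat_lit 0) (Steps.fwd (nat_lit 61440) Steps.nil))) (nat_lit 88) (nat_lit 0),
  Rule.mk (nat_lit 5) (nat_lit 42) (Steps.bwd (nat_lit 0) (Steps.bwd (nat_lit 6) Steps.nil)) (nat_lit 88) (nat_lit 0),
  Rule.mk (nat_lit 7) (nat_lit 42) (Steps.bwd (nat_lit 0) (Steps.fwd (nat_lit 28672) Steps.nil)) (nat_lit 88) (nat_lit 0),
  Rule.mk (nat_lit 14) (nat_lit 42) (Steps.bwd (nat_lit 0) (Steps.bwd (nat_lit 13) Steps.nil)) (nat_lit 88) (nat_lit 0),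
  Rule.mk (nat_lit 15) (nat_lit 42) (Steps.bwd (nat_lit 0) (Steps.fwd (nat_lit 61440) Steps.nil)) (nat_lit 88) (nat_lit 0),
  Rule.mk (nat_lit 6) (nat_lit 57) (Steps.bwd (nat_lit 3) (Steps.bwd (nat_lit 11) (Steps.fwd (nat_lit 12288) Steps.nil))) (nat_lit 14) (nat_lit 3),
  Rule.mk (nat_lit 5) (nat_lit 57) (Steps.fwd (nat_lit 16384) (Steps.bwd (nat_lit 12) (Steps.fwd (nat_lit 12288) Steps.nil))) (nat_lit 15) (nat_lit 2),
  Rule.mk (nat_lit 7) (nat_lit 57) (Steps.fwd (nat_lit 61440) (Steps.bwd (nat_lit 8) (Steps.fwd (nat_lit 65536) Steps.nil))) (nat_lit 25) (nat_lit 0),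
  Rule.mk (nat_lit 11) (nat_lit 132) (Steps.fwd (nat_lit 40960) (Steps.bwd (nat_lit 8) (Steps.bwd (nat_lit 2) (Steps.fwd (nat_lit 57344) (Steps.fwd (nat_lit 8192) (Steps.fwd (nat_lit 53248) (Steps.bwd (nat_lit 8) (Steps.bwd (nat_lit 14) Steps.nil)))))))) (nat_lit 46) (nat_lit 7),
  Rule.mk (nat_lit 4) (nat_lit 72) (Steps.bwd (nat_lit 4) (Steps.bwd (nat_lit 4) (Steps.fwd (nat_lit 12288) (Steps.bwd (nat_lit 4) Steps.nil)))) (nat_lit 3) (nat_lit 0),
  Rule.mk (nat_lit 13) (nat_lit 57) (Steps.fwd (nat_lit 16384) (Steps.fwd (nat_lit 20480) (Steps.bwd (nat_lit 4) Steps.nil))) (nat_lit 16) (nat_lit 1),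
  Rule.mk (nat_lit 3) (nat_lit 57) (Steps.bwd (nat_lit 16) (Steps.bwd (nat_lit 4) (Steps.fwd (nat_lit 65536) Steps.nil))) (nat_lit 54) (nat_lit 3),
  Rule.mk (nat_lit 8) (nat_lit 72) (Steps.fwd (nat_lit 4096) (Steps.bwd (nat_lit 10) (Steps.bwd (nat_lit 1) (Steps.bwd (nat_lit 8) Steps.nil)))) (nat_lit 43) (nat_lit 2),
  Rule.mk (nat_lit 11) (nat_lit 87) (Steps.fwd (nat_lit 32768) (Steps.bwd (nat_lit 16) (Steps.fwd (nat_lit 61440) (Steps.fwd (nat_lit 45056) (Steps.bwd (nat_lit 8) Steps.nil))))) (nat_lit 33) (nat_lit 5),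
  Rule.mk (nat_lit 11) (nat_lit 102) (Steps.bwd (nat_lit 1) (Steps.fwd (nat_lit 53248) (Steps.bwd (nat_lit 8) (Steps.fwd (nat_lit 49152) (Steps.bwd (nat_lit 11) (Steps.bwd (nat_lit 2) Steps.nil)))))) (nat_lit 44) (nat_lit 2),
  Rule.mk (nat_lit 11) (nat_lit 57) (Steps.fwd (nat_lit 61440) (Steps.bwd (nat_lit 12) (Steps.bwd (nat_lit 15) Steps.nil))) (nat_lit 29) (nat_lit 0),
  Rule.mk (nat_lit 11) (nat_lit 102) (Steps.bwd (nat_lit 2) (Steps.bwd (nat_lit 11) (Steps.fwd (nat_lit 8192) (Steps.bwd (nat_lit 14) (Steps.bwd (nat_lit 8) (Steps.bwd (nat_lit 11) Steps.nil)))))) (nat_lit 44) (nat_lit 0),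
  Rule.mk (nat_lit 15) (nat_lit 57) (Steps.fwd (nat_lit 45056) (Steps.fwd (nat_lit 61440) (Steps.bwd (nat_lit 11) Steps.nil))) (nat_lit 28) (nat_lit 0),
  Rule.mk (nat_lit 11) (nat_lit 72) (Steps.bwd (nat_lit 13) (Steps.bwd (nat_lit 15) (Steps.fwd (nat_lit 45056) (Steps.fwd (nat_lit 53248) Steps.nil)))) (nat_lit 40) (nat_lit 3),
  Rule.mk (nat_lit 2) (nat_lit 87) (Steps.bwd (nat_lit 2) (Steps.bwd (nat_lit 4) (Steps.bwd (nat_lit 1) (Steps.bwd (nat_lit 1) (Steps.bwd (nat_lit 3) Steps.nil))))) (nat_lit 6) (nat_lit 1),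
  Rule.mk (nat_lit 9) (nat_lit 72) (Steps.fwd (nat_lit 8192) (Steps.fwd (nat_lit 32768) (Steps.fwd (nat_lit 32768) (Steps.bwd (nat_lit 2) Steps.nil)))) (nat_lit 42) (nat_lit 2),
  Rule.mk (nat_lit 12) (nat_lit 72) (Steps.fwd (nat_lit 40960) (Steps.bwd (nat_lit 11) (Steps.bwd (nat_lit 15) (Steps.bwd (nat_lit 10) Steps.nil)))) (nat_lit 36) (nat_lit 2),
  Rule.mk (nat_lit 14) (nat_lit 132) (Steps.bwd (nat_lit 1) (Steps.fwd (nat_lit 32768) (Steps.fwd (nat_lit 36864) (Steps.fwd (nat_lit 45056) (Steps.bwd (nat_lit 13) (Steps.fwd (nat_lit 32768) (Steps.bwd (nat_lit 13) (Steps.bwd (nat_lit 2) Steps.nil)))))))) (nat_lit 47) (nat_lit 8),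
  Rule.mk (nat_lit 14) (nat_lit 57) (Steps.fwd (nat_lit 36864) (Steps.bwd (nat_lit 13) (Steps.bwd (nat_lit 9) Steps.nil))) (nat_lit 39) (nat_lit 1),
  Rule.mk (nat_lit 14) (nat_lit 87) (Steps.bwd (nat_lit 8) (Steps.fwd (nat_lit 57344) (Steps.fwd (nat_lit 32768) (Steps.bwd (nat_lit 15) (Steps.fwd (nat_lit 65536) Steps.nil))))) (nat_lit 35) (nat_lit 3),
  Rule.mk (nat_lit 15) (nat_lit 72) (Steps.bwd (nat_lit 10) (Steps.bwd (nat_lit 8) (Steps.bwd (nat_lit 9) (Steps.fwd (nat_lit 32768) Steps.nil)))) (nat_lit 18) (nat_lit 1),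
  Rule.mk (nat_lit 12) (nat_lit 72) (Steps.bwd (nat_lit 10) (Steps.bwd (nat_lit 11) (Steps.fwd (nat_lit 40960) (Steps.fwd (nat_lit 61440) Steps.nil)))) (nat_lit 37) (nat_lit 2),
  Rule.mk (nat_lit 14) (nat_lit 87) (Steps.bwd (nat_lit 8) (Steps.fwd (nat_lit 57344) (Steps.fwd (nat_lit 32768) (Steps.bwd (nat_lit 15) (Steps.bwd (nat_lit 15) Steps.nil))))) (nat_lit 35) (nat_lit 3),
  Rule.mk (nat_lit 7) (nat_lit 132) (Steps.bwd (nat_lit 10) (Steps.fwd (nat_lit 45056) (Steps.bwd (nat_lit 13) (Steps.bwd (nat_lit 7) (Steps.bwd (nat_lit 13) (Steps.fwd (nat_lit 4096) (Steps.bwd (nat_lit 14) (Steps.bwd (nat_lit 1) Steps.nil)))))))) (nat_lit 47) (nat_lit 1),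
  Rule.mk (nat_lit 9) (nat_lit 72) (Steps.bwd (nat_lit 11) (Steps.bwd (nat_lit 15) (Steps.bwd (nat_lit 10) (Steps.fwd (nat_lit 45056) Steps.nil)))) (nat_lit 36) (nat_lit 3),
  Rule.mk (nat_lit 16) (nat_lit 57) (Steps.fwd (nat_lit 36864) (Steps.fwd (nat_lit 65536) (Steps.bwd (nat_lit 9) Steps.nil))) (nat_lit 27) (nat_lit 1),
  Rule.mk (nat_lit 14) (nat_lit 57) (Steps.fwd (nat_lit 36864) (Steps.fwd (nat_lit 57344) (Steps.bwd (nat_lit 9) Steps.nil))) (nat_lit 39) (nat_lit 1),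
  Rule.mk (nat_lit 7) (nat_lit 72) (Steps.fwd (nat_lit 65536) (Steps.bwd (nat_lit 10) (Steps.bwd (nat_lit 8) (Steps.bwd (nat_lit 9) Steps.nil)))) (nat_lit 18) (nat_lit 0),
  Rule.mk (nat_lit 8) (nat_lit 87) (Steps.fwd (nat_lit 45056) (Steps.bwd (nat_lit 7) (Steps.bwd (nat_lit 11) (Steps.bwd (nat_lit 15) (Steps.fwd (nat_lit 65536) Steps.nil))))) (nat_lit 32) (nat_lit 1),
  Rule.mk (nat_lit 14) (nat_lit 87) (Steps.bwd (nat_lit 7) (Steps.bwd (nat_lit 13) (Steps.fwd (nat_lit 61440) (Steps.fwd (nat_lit 61440) (Steps.fwd (nat_lit 28672) Steps.nil))))) (nat_lit 34) (nat_lit 2),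
  Rule.mk (nat_lit 11) (nat_lit 72) (Steps.bwd (nat_lit 13) (Steps.fwd (nat_lit 65536) (Steps.fwd (nat_lit 45056) (Steps.bwd (nat_lit 14) Steps.nil)))) (nat_lit 40) (nat_lit 3),
  Rule.mk (nat_lit 0) (nat_lit 102) (Steps.bwd (nat_lit 7) (Steps.fwd (nat_lit 57344) (Steps.fwd (nat_lit 61440) (Steps.bwd (nat_lit 16) (Steps.fwd (nat_lit 28672) (Steps.bwd (nat_lit 14) Steps.nil)))))) (nat_lit 34) (nat_lit 2),
  Rule.mk (nat_lit 2) (nat_lit 42) (Steps.bwd (nat_lit 0) (Steps.fwd (nat_lit 8192) Steps.nil)) (nat_lit 88) (nat_lit 0),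
  Rule.mk (nat_lit 13) (nat_lit 57) (Steps.bwd (nat_lit 9) (Steps.bwd (nat_lit 14) (Steps.fwd (nat_lit 36864) Steps.nil))) (nat_lit 39) (nat_lit 3),
  Rule.mk (nat_lit 7) (nat_lit 57) (Steps.bwd (nat_lit 16) (Steps.fwd (nat_lit 28672) (Steps.fwd (nat_lit 65536) Steps.nil))) (nat_lit 25) (nat_lit 0),
  Rule.mk (nat_lit 8) (nat_lit 72) (Steps.bwd (nat_lit 8) (Steps.fwd (nat_lit 4096) (Steps.fwd (nat_lit 36864) (Steps.bwd (nat_lit 1) Steps.nil)))) (nat_lit 43) (nat_lit 1),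
  Rule.mk (nat_lit 12) (nat_lit 72) (Steps.bwd (nat_lit 10) (Steps.bwd (nat_lit 11) (Steps.bwd (nat_lit 9) (Steps.fwd (nat_lit 61440) Steps.nil)))) (nat_lit 37) (nat_lit 2),
  Rule.mk (nat_lit 1) (nat_lit 72) (Steps.bwd (nat_lit 8) (Steps.fwd (nat_lit 28672) (Steps.fwd (nat_lit 4096) (Steps.bwd (nat_lit 10) Steps.nil)))) (nat_lit 43) (nat_lit 0),
  Rule.mk (nat_lit 16) (nat_lit 72) (Steps.bwd (nat_lit 16) (Steps.fwd (nat_lit 4096) (Steps.bwd (nat_lit 15) (Steps.bwd (nat_lit 1) Steps.nil)))) (nat_lit 48) (nat_lit 4),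
  Rule.mk (nat_lit 1) (nat_lit 72) (Steps.fwd (nat_lit 65536) (Steps.fwd (nat_lit 65536) (Steps.fwd (nat_lit 4096) (Steps.bwd (nat_lit 16) Steps.nil)))) (nat_lit 49) (nat_lit 0),
  Rule.mk (nat_lit 5) (nat_lit 57) (Steps.bwd (nat_lit 1) (Steps.fwd (nat_lit 36864) (Steps.fwd (nat_lit 4096) Steps.nil))) (nat_lit 13) (nat_lit 2),
  Rule.mk (nat_lit 10) (nat_lit 72) (Steps.bwd (nat_lit 7) (Steps.fwd (nat_lit 40960) (Steps.fwd (nat_lit 61440) (Steps.fwd (nat_lit 28672) Steps.nil)))) (nat_lit 19) (nat_lit 2),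
  Rule.mk (nat_lit 3) (nat_lit 87) (Steps.fwd (nat_lit 8192) (Steps.fwd (nat_lit 8192) (Steps.fwd (nat_lit 12288) (Steps.bwd (nat_lit 2) (Steps.bwd (nat_lit 2) Steps.nil))))) (nat_lit 7) (nat_lit 4),
  Rule.mk (nat_lit 11) (nat_lit 57) (Steps.fwd (nat_lit 12288) (Steps.bwd (nat_lit 6) (Steps.bwd (nat_lit 3) Steps.nil))) (nat_lit 14) (nat_lit 1),
  Rule.mk (nat_lit 12) (nat_lit 72) (Steps.fwd (nat_lit 40960) (Steps.bwd (nat_lit 11) (Steps.fwd (nat_lit 65536) (Steps.fwd (nat_lit 36864) Steps.nil)))) (nat_lit 36) (nat_lit 2),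
  Rule.mk (nat_lit 3) (nat_lit 117) (Steps.fwd (nat_lit 40960) (Steps.bwd (nat_lit 11) (Steps.fwd (nat_lit 53248) (Steps.fwd (nat_lit 28672) (Steps.fwd (nat_lit 53248) (Steps.bwd (nat_lit 4) (Steps.bwd (nat_lit 10) Steps.nil))))))) (nat_lit 51) (nat_lit 0),
  Rule.mk (nat_lit 4) (nat_lit 57) (Steps.bwd (nat_lit 14) (Steps.bwd (nat_lit 3) (Steps.fwd (nat_lit 24576) Steps.nil))) (nat_lit 17) (nat_lit 3),
  Rule.mk (nat_lit 4) (nat_lit 57) (Steps.fwd (nat_lit 61440) (Steps.bwd (nat_lit 3) (Steps.bwd (nat_lit 15) Steps.nil))) (nat_lit 55) (nat_lit 2),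
  Rule.mk (nat_lit 4) (nat_lit 87) (Steps.bwd (nat_lit 1) (Steps.bwd (nat_lit 1) (Steps.bwd (nat_lit 3) (Steps.bwd (nat_lit 2) (Steps.fwd (nat_lit 4096) Steps.nil))))) (nat_lit 6) (nat_lit 3),
  Rule.mk (nat_lit 4) (nat_lit 87) (Steps.bwd (nat_lit 2) (Steps.fwd (nat_lit 4096) (Steps.bwd (nat_lit 3) (Steps.bwd (nat_lit 1) (Steps.bwd (nat_lit 1) Steps.nil))))) (nat_lit 7) (nat_lit 1),
  Rule.mk (nat_lit 3) (nat_lit 57) (Steps.fwd (nat_lit 20480) (Steps.bwd (nat_lit 4) (Steps.fwd (nat_lit 57344) Steps.nil))) (nat_lit 16) (nat_lit 2),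
  Rule.mk (nat_lit 3) (nat_lit 57) (Steps.bwd (nat_lit 5) (Steps.bwd (nat_lit 4) (Steps.fwd (nat_lit 53248) Steps.nil))) (nat_lit 17) (nat_lit 1),
  Rule.mk (nat_lit 3) (nat_lit 57) (Steps.fwd (nat_lit 61440) (Steps.bwd (nat_lit 4) (Steps.fwd (nat_lit 65536) Steps.nil))) (nat_lit 54) (nat_lit 3),
  Rule.mk (nat_lit 3) (nat_lit 87) (Steps.bwd (nat_lit 2) (Steps.bwd (nat_lit 2) (Steps.bwd (nat_lit 4) (Steps.fwd (nat_lit 8192) (Steps.fwd (nat_lit 8192) Steps.nil))))) (nat_lit 6) (nat_lit 0),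
  Rule.mk (nat_lit 4) (nat_lit 57) (Steps.fwd (nat_lit 57344) (Steps.bwd (nat_lit 3) (Steps.bwd (nat_lit 6) Steps.nil))) (nat_lit 16) (nat_lit 0),
  Rule.mk (nat_lit 3) (nat_lit 57) (Steps.fwd (nat_lit 20480) (Steps.bwd (nat_lit 4) (Steps.bwd (nat_lit 13) Steps.nil))) (nat_lit 16) (nat_lit 2),
  Rule.mk (nat_lit 3) (nat_lit 57) (Steps.fwd (nat_lit 24576) (Steps.bwd (nat_lit 4) (Steps.fwd (nat_lit 53248) Steps.nil))) (nat_lit 17) (nat_lit 1)]
noncomputable def R_13 : List (Rule) := [Rule.mk (nat_lit 3) (nat_lit 87) (Steps.fwd (nat_lit 4096) (Steps.fwd (nat_lit 4096) (Steps.bwd (nat_lit 4) (Steps.fwd (nat_lit 8192) (Steps.bwd (nat_lit 1) Steps.nil))))) (nat_lit 6) (nat_lit 0),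
  Rule.mk (nat_lit 4) (nat_lit 117) (Steps.fwd (nat_lit 4096) (Steps.fwd (nat_lit 12288) (Steps.fwd (nat_lit 4096) (Steps.bwd (nat_lit 4) (Steps.fwd (nat_lit 4096) (Steps.fwd (nat_lit 12288) (Steps.fwd (nat_lit 4096) Steps.nil))))))) (nat_lit 5) (nat_lit 1),
  Rule.mk (nat_lit 3) (nat_lit 57) (Steps.fwd (nat_lit 24576) (Steps.bwd (nat_lit 4) (Steps.bwd (nat_lit 14) Steps.nil))) (nat_lit 17) (nat_lit 1),
  Rule.mk (nat_lit 4) (nat_lit 57) (Steps.fwd (nat_lit 53248) (Steps.bwd (nat_lit 3) (Steps.fwd (nat_lit 24576) Steps.nil))) (nat_lit 17) (nat_lit 3),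
  Rule.mk (nat_lit 4) (nat_lit 117) (Steps.bwd (nat_lit 2) (Steps.bwd (nat_lit 4) (Steps.bwd (nat_lit 2) (Steps.bwd (nat_lit 4) (Steps.bwd (nat_lit 2) (Steps.bwd (nat_lit 4) (Steps.bwd (nat_lit 2) Steps.nil))))))) (nat_lit 5) (nat_lit 1),
  Rule.mk (nat_lit 4) (nat_lit 87) (Steps.fwd (nat_lit 8192) (Steps.fwd (nat_lit 8192) (Steps.bwd (nat_lit 3) (Steps.bwd (nat_lit 2) (Steps.bwd (nat_lit 2) Steps.nil))))) (nat_lit 6) (nat_lit 3),
  Rule.mk (nat_lit 4) (nat_lit 87) (Steps.fwd (nat_lit 4096) (Steps.fwd (nat_lit 4096) (Steps.bwd (nat_lit 3) (Steps.fwd (nat_lit 8192) (Steps.fwd (nat_lit 8192) Steps.nil))))) (nat_lit 7) (nat_lit 1),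
  Rule.mk (nat_lit 3) (nat_lit 57) (Steps.fwd (nat_lit 65536) (Steps.bwd (nat_lit 4) (Steps.fwd (nat_lit 61440) Steps.nil))) (nat_lit 55) (nat_lit 0),
  Rule.mk (nat_lit 3) (nat_lit 87) (Steps.bwd (nat_lit 2) (Steps.bwd (nat_lit 2) (Steps.bwd (nat_lit 4) (Steps.bwd (nat_lit 1) (Steps.bwd (nat_lit 1) Steps.nil))))) (nat_lit 6) (nat_lit 0),
  Rule.mk (nat_lit 3) (nat_lit 117) (Steps.bwd (nat_lit 1) (Steps.bwd (nat_lit 3) (Steps.fwd (nat_lit 8192) (Steps.fwd (nat_lit 16384) (Steps.bwd (nat_lit 1) (Steps.bwd (nat_lit 3) (Steps.fwd (nat_lit 8192) Steps.nil))))))) (nat_lit 4) (nat_lit 0),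
  Rule.mk (nat_lit 4) (nat_lit 87) (Steps.bwd (nat_lit 1) (Steps.fwd (nat_lit 8192) (Steps.bwd (nat_lit 3) (Steps.fwd (nat_lit 4096) (Steps.fwd (nat_lit 4096) Steps.nil))))) (nat_lit 6) (nat_lit 3),
  Rule.mk (nat_lit 4) (nat_lit 87) (Steps.bwd (nat_lit 2) (Steps.fwd (nat_lit 4096) (Steps.bwd (nat_lit 3) (Steps.bwd (nat_lit 1) (Steps.fwd (nat_lit 8192) Steps.nil))))) (nat_lit 7) (nat_lit 1),
  Rule.mk (nat_lit 4) (nat_lit 87) (Steps.fwd (nat_lit 4096) (Steps.bwd (nat_lit 2) (Steps.bwd (nat_lit 3) (Steps.bwd (nat_lit 1) (Steps.fwd (nat_lit 8192) Steps.nil))))) (nat_lit 7) (nat_lit 1),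
  Rule.mk (nat_lit 3) (nat_lit 117) (Steps.bwd (nat_lit 1) (Steps.bwd (nat_lit 3) (Steps.fwd (nat_lit 8192) (Steps.fwd (nat_lit 16384) (Steps.fwd (nat_lit 8192) (Steps.bwd (nat_lit 3) (Steps.bwd (nat_lit 1) Steps.nil))))))) (nat_lit 4) (nat_lit 0),
  Rule.mk (nat_lit 4) (nat_lit 117) (Steps.bwd (nat_lit 2) (Steps.bwd (nat_lit 4) (Steps.fwd (nat_lit 4096) (Steps.bwd (nat_lit 4) (Steps.bwd (nat_lit 2) (Steps.bwd (nat_lit 4) (Steps.bwd (nat_lit 2) Steps.nil))))))) (nat_lit 5) (nat_lit 1),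
  Rule.mk (nat_lit 4) (nat_lit 117) (Steps.fwd (nat_lit 4096) (Steps.bwd (nat_lit 4) (Steps.bwd (nat_lit 2) (Steps.bwd (nat_lit 4) (Steps.bwd (nat_lit 2) (Steps.fwd (nat_lit 12288) (Steps.fwd (nat_lit 4096) Steps.nil))))))) (nat_lit 5) (nat_lit 1),
  Rule.mk (nat_lit 4) (nat_lit 87) (Steps.fwd (nat_lit 4096) (Steps.fwd (nat_lit 4096) (Steps.bwd (nat_lit 3) (Steps.bwd (nat_lit 1) (Steps.fwd (nat_lit 8192) Steps.nil))))) (nat_lit 7) (nat_lit 1),
  Rule.mk (nat_lit 3) (nat_lit 117) (Steps.fwd (nat_lit 8192) (Steps.fwd (nat_lit 16384) (Steps.fwd (nat_lit 8192) (Steps.fwd (nat_lit 16384) (Steps.fwd (nat_lit 8192) (Steps.bwd (nat_lit 3) (Steps.bwd (nat_lit 1) Steps.nil))))))) (nat_lit 4) (nat_lit 0),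
  Rule.mk (nat_lit 4) (nat_lit 87) (Steps.bwd (nat_lit 1) (Steps.bwd (nat_lit 1) (Steps.bwd (nat_lit 3) (Steps.fwd (nat_lit 4096) (Steps.bwd (nat_lit 2) Steps.nil))))) (nat_lit 6) (nat_lit 3),
  Rule.mk (nat_lit 4) (nat_lit 87) (Steps.fwd (nat_lit 4096) (Steps.fwd (nat_lit 4096) (Steps.bwd (nat_lit 3) (Steps.bwd (nat_lit 1) (Steps.bwd (nat_lit 1) Steps.nil))))) (nat_lit 7) (nat_lit 1),
  Rule.mk (nat_lit 3) (nat_lit 87) (Steps.fwd (nat_lit 8192) (Steps.fwd (nat_lit 8192) (Steps.bwd (nat_lit 4) (Steps.bwd (nat_lit 2) (Steps.bwd (nat_lit 2) Steps.nil))))) (nat_lit 7) (nat_lit 4),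
  Rule.mk (nat_lit 3) (nat_lit 117) (Steps.fwd (nat_lit 8192) (Steps.bwd (nat_lit 3) (Steps.bwd (nat_lit 1) (Steps.fwd (nat_lit 16384) (Steps.fwd (nat_lit 8192) (Steps.bwd (nat_lit 3) (Steps.fwd (nat_lit 8192) Steps.nil))))))) (nat_lit 4) (nat_lit 0),
  Rule.mk (nat_lit 3) (nat_lit 87) (Steps.bwd (nat_lit 2) (Steps.fwd (nat_lit 4096) (Steps.bwd (nat_lit 4) (Steps.bwd (nat_lit 1) (Steps.fwd (nat_lit 8192) Steps.nil))))) (nat_lit 6) (nat_lit 0),
  Rule.mk (nat_lit 4) (nat_lit 117) (Steps.bwd (nat_lit 2) (Steps.fwd (nat_lit 12288) (Steps.fwd (nat_lit 4096) (Steps.bwd (nat_lit 4) (Steps.fwd (nat_lit 4096) (Steps.bwd (nat_lit 4) (Steps.fwd (nat_lit 4096) Steps.nil))))))) (nat_lit 5) (nat_lit 1),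
  Rule.mk (nat_lit 4) (nat_lit 57) (Steps.fwd (nat_lit 65536) (Steps.bwd (nat_lit 3) (Steps.bwd (nat_lit 16) Steps.nil))) (nat_lit 54) (nat_lit 1),
  Rule.mk (nat_lit 4) (nat_lit 87) (Steps.bwd (nat_lit 1) (Steps.fwd (nat_lit 8192) (Steps.bwd (nat_lit 3) (Steps.bwd (nat_lit 2) (Steps.fwd (nat_lit 4096) Steps.nil))))) (nat_lit 6) (nat_lit 3),
  Rule.mk (nat_lit 12) (nat_lit 72) (Steps.bwd (nat_lit 9) (Steps.bwd (nat_lit 11) (Steps.fwd (nat_lit 65536) (Steps.fwd (nat_lit 36864) Steps.nil)))) (nat_lit 36) (nat_lit 2),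
  Rule.mk (nat_lit 12) (nat_lit 87) (Steps.bwd (nat_lit 7) (Steps.bwd (nat_lit 11) (Steps.fwd (nat_lit 65536) (Steps.bwd (nat_lit 15) (Steps.fwd (nat_lit 28672) Steps.nil))))) (nat_lit 32) (nat_lit 2),
  Rule.mk (nat_lit 11) (nat_lit 57) (Steps.fwd (nat_lit 65536) (Steps.bwd (nat_lit 12) (Steps.fwd (nat_lit 61440) Steps.nil))) (nat_lit 28) (nat_lit 3),
  Rule.mk (nat_lit 11) (nat_lit 72) (Steps.bwd (nat_lit 9) (Steps.fwd (nat_lit 61440) (Steps.bwd (nat_lit 12) (Steps.fwd (nat_lit 36864) Steps.nil)))) (nat_lit 37) (nat_lit 4),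
  Rule.mk (nat_lit 12) (nat_lit 87) (Steps.fwd (nat_lit 32768) (Steps.bwd (nat_lit 11) (Steps.bwd (nat_lit 15) (Steps.fwd (nat_lit 65536) (Steps.bwd (nat_lit 8) Steps.nil))))) (nat_lit 32) (nat_lit 2),
  Rule.mk (nat_lit 12) (nat_lit 87) (Steps.fwd (nat_lit 28672) (Steps.bwd (nat_lit 11) (Steps.bwd (nat_lit 7) (Steps.fwd (nat_lit 61440) (Steps.bwd (nat_lit 16) Steps.nil))))) (nat_lit 33) (nat_lit 3),
  Rule.mk (nat_lit 11) (nat_lit 72) (Steps.fwd (nat_lit 40960) (Steps.bwd (nat_lit 16) (Steps.bwd (nat_lit 12) (Steps.bwd (nat_lit 10) Steps.nil)))) (nat_lit 37) (nat_lit 4),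
  Rule.mk (nat_lit 12) (nat_lit 87) (Steps.fwd (nat_lit 32768) (Steps.bwd (nat_lit 11) (Steps.fwd (nat_lit 65536) (Steps.fwd (nat_lit 65536) (Steps.bwd (nat_lit 8) Steps.nil))))) (nat_lit 32) (nat_lit 2),
  Rule.mk (nat_lit 12) (nat_lit 72) (Steps.fwd (nat_lit 36864) (Steps.bwd (nat_lit 11) (Steps.bwd (nat_lit 9) (Steps.bwd (nat_lit 16) Steps.nil)))) (nat_lit 37) (nat_lit 2),
  Rule.mk (nat_lit 11) (nat_lit 87) (Steps.fwd (nat_lit 32768) (Steps.bwd (nat_lit 16) (Steps.bwd (nat_lit 16) (Steps.bwd (nat_lit 12) (Steps.bwd (nat_lit 8) Steps.nil))))) (nat_lit 33) (nat_lit 5),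
  Rule.mk (nat_lit 10) (nat_lit 117) (Steps.bwd (nat_lit 4) (Steps.bwd (nat_lit 9) (Steps.fwd (nat_lit 16384) (Steps.fwd (nat_lit 57344) (Steps.fwd (nat_lit 32768) (Steps.fwd (nat_lit 57344) (Steps.fwd (nat_lit 45056) Steps.nil))))))) (nat_lit 50) (nat_lit 0),
  Rule.mk (nat_lit 14) (nat_lit 57) (Steps.fwd (nat_lit 16384) (Steps.fwd (nat_lit 24576) (Steps.bwd (nat_lit 4) Steps.nil))) (nat_lit 17) (nat_lit 0),
  Rule.mk (nat_lit 10) (nat_lit 57) (Steps.bwd (nat_lit 14) (Steps.fwd (nat_lit 40960) (Steps.fwd (nat_lit 57344) Steps.nil))) (nat_lit 38) (nat_lit 1),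
  Rule.mk (nat_lit 11) (nat_lit 72) (Steps.fwd (nat_lit 40960) (Steps.bwd (nat_lit 16) (Steps.bwd (nat_lit 12) (Steps.fwd (nat_lit 36864) Steps.nil)))) (nat_lit 37) (nat_lit 4),
  Rule.mk (nat_lit 8) (nat_lit 87) (Steps.bwd (nat_lit 12) (Steps.bwd (nat_lit 7) (Steps.bwd (nat_lit 11) (Steps.bwd (nat_lit 15) (Steps.fwd (nat_lit 65536) Steps.nil))))) (nat_lit 32) (nat_lit 1),
  Rule.mk (nat_lit 9) (nat_lit 72) (Steps.fwd (nat_lit 32768) (Steps.bwd (nat_lit 15) (Steps.fwd (nat_lit 36864) (Steps.bwd (nat_lit 8) Steps.nil)))) (nat_lit 18) (nat_lit 4),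
  Rule.mk (nat_lit 12) (nat_lit 132) (Steps.bwd (nat_lit 13) (Steps.bwd (nat_lit 7) (Steps.bwd (nat_lit 13) (Steps.fwd (nat_lit 4096) (Steps.bwd (nat_lit 14) (Steps.bwd (nat_lit 1) (Steps.fwd (nat_lit 32768) (Steps.fwd (nat_lit 36864) Steps.nil)))))))) (nat_lit 47) (nat_lit 3),
  Rule.mk (nat_lit 8) (nat_lit 87) (Steps.fwd (nat_lit 49152) (Steps.bwd (nat_lit 7) (Steps.bwd (nat_lit 16) (Steps.bwd (nat_lit 16) (Steps.bwd (nat_lit 12) Steps.nil))))) (nat_lit 33) (nat_lit 4),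
  Rule.mk (nat_lit 12) (nat_lit 72) (Steps.bwd (nat_lit 13) (Steps.fwd (nat_lit 49152) (Steps.bwd (nat_lit 16) (Steps.fwd (nat_lit 53248) Steps.nil)))) (nat_lit 41) (nat_lit 3),
  Rule.mk (nat_lit 7) (nat_lit 87) (Steps.bwd (nat_lit 13) (Steps.bwd (nat_lit 16) (Steps.bwd (nat_lit 16) (Steps.bwd (nat_lit 8) (Steps.fwd (nat_lit 53248) Steps.nil))))) (nat_lit 34) (nat_lit 3),
  Rule.mk (nat_lit 11) (nat_lit 57) (Steps.bwd (nat_lit 4) (Steps.fwd (nat_lit 20480) (Steps.fwd (nat_lit 16384) Steps.nil))) (nat_lit 14) (nat_lit 1),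
  Rule.mk (nat_lit 11) (nat_lit 72) (Steps.bwd (nat_lit 16) (Steps.bwd (nat_lit 14) (Steps.bwd (nat_lit 12) (Steps.fwd (nat_lit 57344) Steps.nil)))) (nat_lit 41) (nat_lit 0),
  Rule.mk (nat_lit 11) (nat_lit 117) (Steps.bwd (nat_lit 14) (Steps.fwd (nat_lit 28672) (Steps.bwd (nat_lit 8) (Steps.fwd (nat_lit 12288) (Steps.bwd (nat_lit 11) (Steps.bwd (nat_lit 3) (Steps.bwd (nat_lit 11) Steps.nil))))))) (nat_lit 52) (nat_lit 5),
  Rule.mk (nat_lit 14) (nat_lit 117) (Steps.bwd (nat_lit 8) (Steps.bwd (nat_lit 8) (Steps.fwd (nat_lit 12288) (Steps.fwd (nat_lit 49152) (Steps.bwd (nat_lit 3) (Steps.bwd (nat_lit 11) (Steps.bwd (nat_lit 11) Steps.nil))))))) (nat_lit 52) (nat_lit 6),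
  Rule.mk (nat_lit 12) (nat_lit 72) (Steps.fwd (nat_lit 57344) (Steps.bwd (nat_lit 11) (Steps.bwd (nat_lit 16) (Steps.bwd (nat_lit 14) Steps.nil)))) (nat_lit 41) (nat_lit 3),
  Rule.mk (nat_lit 13) (nat_lit 102) (Steps.bwd (nat_lit 2) (Steps.fwd (nat_lit 45056) (Steps.fwd (nat_lit 8192) (Steps.fwd (nat_lit 45056) (Steps.fwd (nat_lit 45056) (Steps.bwd (nat_lit 7) Steps.nil)))))) (nat_lit 45) (nat_lit 4),
  Rule.mk (nat_lit 16) (nat_lit 57) (Steps.fwd (nat_lit 53248) (Steps.fwd (nat_lit 65536) (Steps.bwd (nat_lit 13) Steps.nil))) (nat_lit 31) (nat_lit 1),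
  Rule.mk (nat_lit 2) (nat_lit 72) (Steps.fwd (nat_lit 65536) (Steps.fwd (nat_lit 8192) (Steps.bwd (nat_lit 16) (Steps.bwd (nat_lit 16) Steps.nil)))) (nat_lit 48) (nat_lit 1),
  Rule.mk (nat_lit 14) (nat_lit 87) (Steps.bwd (nat_lit 7) (Steps.bwd (nat_lit 13) (Steps.bwd (nat_lit 16) (Steps.fwd (nat_lit 61440) (Steps.bwd (nat_lit 8) Steps.nil))))) (nat_lit 34) (nat_lit 2),
  Rule.mk (nat_lit 13) (nat_lit 132) (Steps.bwd (nat_lit 7) (Steps.bwd (nat_lit 13) (Steps.fwd (nat_lit 4096) (Steps.bwd (nat_lit 14) (Steps.fwd (nat_lit 8192) (Steps.fwd (nat_lit 32768) (Steps.bwd (nat_lit 10) (Steps.bwd (nat_lit 12) Steps.nil)))))))) (nat_lit 47) (nat_lit 4),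
  Rule.mk (nat_lit 8) (nat_lit 57) (Steps.fwd (nat_lit 65536) (Steps.fwd (nat_lit 32768) (Steps.bwd (nat_lit 16) Steps.nil))) (nat_lit 25) (nat_lit 2),
  Rule.mk (nat_lit 12) (nat_lit 57) (Steps.fwd (nat_lit 65536) (Steps.fwd (nat_lit 49152) (Steps.bwd (nat_lit 16) Steps.nil))) (nat_lit 29) (nat_lit 2),
  Rule.mk (nat_lit 8) (nat_lit 87) (Steps.fwd (nat_lit 45056) (Steps.bwd (nat_lit 7) (Steps.bwd (nat_lit 11) (Steps.bwd (nat_lit 15) (Steps.bwd (nat_lit 15) Steps.nil))))) (nat_lit 32) (nat_lit 1),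
  Rule.mk (nat_lit 7) (nat_lit 87) (Steps.bwd (nat_lit 15) (Steps.bwd (nat_lit 15) (Steps.bwd (nat_lit 14) (Steps.bwd (nat_lit 8) (Steps.bwd (nat_lit 13) Steps.nil))))) (nat_lit 35) (nat_lit 0),
  Rule.mk (nat_lit 10) (nat_lit 72) (Steps.bwd (nat_lit 12) (Steps.bwd (nat_lit 9) (Steps.fwd (nat_lit 49152) (Steps.fwd (nat_lit 65536) Steps.nil)))) (nat_lit 36) (nat_lit 1),
  Rule.mk (nat_lit 3) (nat_lit 57) (Steps.bwd (nat_lit 15) (Steps.fwd (nat_lit 12288) (Steps.fwd (nat_lit 61440) Steps.nil))) (nat_lit 55) (nat_lit 0),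
  Rule.mk (nat_lit 14) (nat_lit 87) (Steps.bwd (nat_lit 8) (Steps.bwd (nat_lit 13) (Steps.bwd (nat_lit 7) (Steps.bwd (nat_lit 15) (Steps.fwd (nat_lit 65536) Steps.nil))))) (nat_lit 35) (nat_lit 3),
  Rule.mk (nat_lit 11) (nat_lit 57) (Steps.fwd (nat_lit 12288) (Steps.fwd (nat_lit 20480) (Steps.bwd (nat_lit 3) Steps.nil))) (nat_lit 14) (nat_lit 1)]
noncomputable def R_14 : List (Rule) := [Rule.mk (nat_lit 12) (nat_lit 72) (Steps.bwd (nat_lit 10) (Steps.fwd (nat_lit 49152) (Steps.fwd (nat_lit 40960) (Steps.fwd (nat_lit 61440) Steps.nil)))) (nat_lit 37) (nat_lit 2),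
  Rule.mk (nat_lit 11) (nat_lit 72) (Steps.bwd (nat_lit 15) (Steps.bwd (nat_lit 10) (Steps.fwd (nat_lit 45056) (Steps.fwd (nat_lit 40960) Steps.nil)))) (nat_lit 36) (nat_lit 4),
  Rule.mk (nat_lit 12) (nat_lit 72) (Steps.bwd (nat_lit 13) (Steps.fwd (nat_lit 49152) (Steps.fwd (nat_lit 61440) (Steps.bwd (nat_lit 14) Steps.nil)))) (nat_lit 41) (nat_lit 3),
  Rule.mk (nat_lit 10) (nat_lit 57) (Steps.fwd (nat_lit 57344) (Steps.fwd (nat_lit 40960) (Steps.bwd (nat_lit 14) Steps.nil))) (nat_lit 39) (nat_lit 2),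
  Rule.mk (nat_lit 12) (nat_lit 57) (Steps.fwd (nat_lit 61440) (Steps.fwd (nat_lit 49152) (Steps.bwd (nat_lit 15) Steps.nil))) (nat_lit 28) (nat_lit 1),
  Rule.mk (nat_lit 2) (nat_lit 72) (Steps.fwd (nat_lit 61440) (Steps.bwd (nat_lit 1) (Steps.bwd (nat_lit 15) (Steps.bwd (nat_lit 15) Steps.nil)))) (nat_lit 49) (nat_lit 3),
  Rule.mk (nat_lit 15) (nat_lit 57) (Steps.bwd (nat_lit 11) (Steps.fwd (nat_lit 61440) (Steps.bwd (nat_lit 12) Steps.nil))) (nat_lit 29) (nat_lit 3),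
  Rule.mk (nat_lit 13) (nat_lit 72) (Steps.bwd (nat_lit 11) (Steps.fwd (nat_lit 61440) (Steps.bwd (nat_lit 14) (Steps.fwd (nat_lit 45056) Steps.nil)))) (nat_lit 41) (nat_lit 4),
  Rule.mk (nat_lit 8) (nat_lit 87) (Steps.bwd (nat_lit 11) (Steps.fwd (nat_lit 32768) (Steps.bwd (nat_lit 16) (Steps.fwd (nat_lit 61440) (Steps.bwd (nat_lit 12) Steps.nil))))) (nat_lit 33) (nat_lit 4),
  Rule.mk (nat_lit 7) (nat_lit 87) (Steps.bwd (nat_lit 16) (Steps.fwd (nat_lit 61440) (Steps.bwd (nat_lit 12) (Steps.bwd (nat_lit 8) (Steps.bwd (nat_lit 11) Steps.nil))))) (nat_lit 33) (nat_lit 0),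
  Rule.mk (nat_lit 5) (nat_lit 57) (Steps.fwd (nat_lit 16384) (Steps.fwd (nat_lit 45056) (Steps.bwd (nat_lit 4) Steps.nil))) (nat_lit 15) (nat_lit 2),
  Rule.mk (nat_lit 13) (nat_lit 102) (Steps.bwd (nat_lit 2) (Steps.bwd (nat_lit 12) (Steps.fwd (nat_lit 8192) (Steps.fwd (nat_lit 45056) (Steps.bwd (nat_lit 12) (Steps.bwd (nat_lit 7) Steps.nil)))))) (nat_lit 45) (nat_lit 4),
  Rule.mk (nat_lit 11) (nat_lit 72) (Steps.bwd (nat_lit 16) (Steps.bwd (nat_lit 14) (Steps.fwd (nat_lit 45056) (Steps.bwd (nat_lit 13) Steps.nil)))) (nat_lit 41) (nat_lit 0),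
  Rule.mk (nat_lit 3) (nat_lit 117) (Steps.bwd (nat_lit 9) (Steps.bwd (nat_lit 11) (Steps.bwd (nat_lit 14) (Steps.bwd (nat_lit 8) (Steps.bwd (nat_lit 14) (Steps.bwd (nat_lit 4) (Steps.fwd (nat_lit 36864) Steps.nil))))))) (nat_lit 51) (nat_lit 0),
  Rule.mk (nat_lit 16) (nat_lit 57) (Steps.fwd (nat_lit 12288) (Steps.bwd (nat_lit 15) (Steps.bwd (nat_lit 3) Steps.nil))) (nat_lit 54) (nat_lit 0),
  Rule.mk (nat_lit 1) (nat_lit 117) (Steps.fwd (nat_lit 16384) (Steps.bwd (nat_lit 1) (Steps.fwd (nat_lit 16384) (Steps.bwd (nat_lit 1) (Steps.bwd (nat_lit 3) (Steps.fwd (nat_lit 8192) (Steps.bwd (nat_lit 3) Steps.nil))))))) (nat_lit 4) (nat_lit 1),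
  Rule.mk (nat_lit 1) (nat_lit 72) (Steps.bwd (nat_lit 15) (Steps.bwd (nat_lit 15) (Steps.bwd (nat_lit 2) (Steps.fwd (nat_lit 61440) Steps.nil)))) (nat_lit 49) (nat_lit 0),
  Rule.mk (nat_lit 10) (nat_lit 57) (Steps.fwd (nat_lit 4096) (Steps.bwd (nat_lit 5) (Steps.bwd (nat_lit 1) Steps.nil))) (nat_lit 13) (nat_lit 0),
  Rule.mk (nat_lit 10) (nat_lit 72) (Steps.bwd (nat_lit 8) (Steps.fwd (nat_lit 40960) (Steps.bwd (nat_lit 7) (Steps.bwd (nat_lit 15) Steps.nil)))) (nat_lit 18) (nat_lit 2),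
  Rule.mk (nat_lit 12) (nat_lit 87) (Steps.bwd (nat_lit 8) (Steps.fwd (nat_lit 49152) (Steps.bwd (nat_lit 7) (Steps.bwd (nat_lit 16) (Steps.bwd (nat_lit 16) Steps.nil))))) (nat_lit 33) (nat_lit 3),
  Rule.mk (nat_lit 4) (nat_lit 57) (Steps.bwd (nat_lit 15) (Steps.fwd (nat_lit 16384) (Steps.bwd (nat_lit 16) Steps.nil))) (nat_lit 54) (nat_lit 1),
  Rule.mk (nat_lit 9) (nat_lit 57) (Steps.fwd (nat_lit 4096) (Steps.bwd (nat_lit 6) (Steps.bwd (nat_lit 1) Steps.nil))) (nat_lit 12) (nat_lit 1),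
  Rule.mk (nat_lit 6) (nat_lit 57) (Steps.fwd (nat_lit 8192) (Steps.bwd (nat_lit 9) (Steps.bwd (nat_lit 2) Steps.nil))) (nat_lit 12) (nat_lit 3),
  Rule.mk (nat_lit 2) (nat_lit 72) (Steps.bwd (nat_lit 9) (Steps.fwd (nat_lit 8192) (Steps.fwd (nat_lit 32768) (Steps.bwd (nat_lit 7) Steps.nil)))) (nat_lit 42) (nat_lit 1),
  Rule.mk (nat_lit 12) (nat_lit 87) (Steps.bwd (nat_lit 8) (Steps.bwd (nat_lit 11) (Steps.fwd (nat_lit 32768) (Steps.bwd (nat_lit 16) (Steps.fwd (nat_lit 61440) Steps.nil))))) (nat_lit 33) (nat_lit 3),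
  Rule.mk (nat_lit 13) (nat_lit 87) (Steps.bwd (nat_lit 7) (Steps.bwd (nat_lit 15) (Steps.bwd (nat_lit 15) (Steps.bwd (nat_lit 14) (Steps.bwd (nat_lit 8) Steps.nil))))) (nat_lit 35) (nat_lit 5),
  Rule.mk (nat_lit 14) (nat_lit 87) (Steps.bwd (nat_lit 7) (Steps.fwd (nat_lit 57344) (Steps.fwd (nat_lit 61440) (Steps.fwd (nat_lit 61440) (Steps.bwd (nat_lit 8) Steps.nil))))) (nat_lit 34) (nat_lit 2),
  Rule.mk (nat_lit 1) (nat_lit 102) (Steps.bwd (nat_lit 12) (Steps.fwd (nat_lit 45056) (Steps.bwd (nat_lit 7) (Steps.bwd (nat_lit 13) (Steps.fwd (nat_lit 4096) (Steps.bwd (nat_lit 12) Steps.nil)))))) (nat_lit 45) (nat_lit 0),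
  Rule.mk (nat_lit 2) (nat_lit 72) (Steps.bwd (nat_lit 9) (Steps.fwd (nat_lit 8192) (Steps.bwd (nat_lit 7) (Steps.fwd (nat_lit 32768) Steps.nil)))) (nat_lit 42) (nat_lit 1),
  Rule.mk (nat_lit 10) (nat_lit 72) (Steps.fwd (nat_lit 8192) (Steps.fwd (nat_lit 28672) (Steps.bwd (nat_lit 8) (Steps.bwd (nat_lit 2) Steps.nil)))) (nat_lit 43) (nat_lit 4),
  Rule.mk (nat_lit 12) (nat_lit 87) (Steps.bwd (nat_lit 7) (Steps.fwd (nat_lit 49152) (Steps.fwd (nat_lit 65536) (Steps.bwd (nat_lit 15) (Steps.bwd (nat_lit 8) Steps.nil))))) (nat_lit 32) (nat_lit 2),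
  Rule.mk (nat_lit 16) (nat_lit 72) (Steps.fwd (nat_lit 4096) (Steps.bwd (nat_lit 15) (Steps.bwd (nat_lit 1) (Steps.bwd (nat_lit 16) Steps.nil)))) (nat_lit 48) (nat_lit 0),
  Rule.mk (nat_lit 16) (nat_lit 57) (Steps.bwd (nat_lit 4) (Steps.fwd (nat_lit 65536) (Steps.bwd (nat_lit 3) Steps.nil))) (nat_lit 54) (nat_lit 0),
  Rule.mk (nat_lit 1) (nat_lit 87) (Steps.bwd (nat_lit 4) (Steps.bwd (nat_lit 2) (Steps.bwd (nat_lit 2) (Steps.fwd (nat_lit 16384) (Steps.bwd (nat_lit 1) Steps.nil))))) (nat_lit 7) (nat_lit 0),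
  Rule.mk (nat_lit 11) (nat_lit 57) (Steps.bwd (nat_lit 15) (Steps.fwd (nat_lit 45056) (Steps.bwd (nat_lit 16) Steps.nil))) (nat_lit 28) (nat_lit 3),
  Rule.mk (nat_lit 8) (nat_lit 132) (Steps.bwd (nat_lit 14) (Steps.bwd (nat_lit 11) (Steps.bwd (nat_lit 9) (Steps.fwd (nat_lit 28672) (Steps.fwd (nat_lit 4096) (Steps.fwd (nat_lit 57344) (Steps.bwd (nat_lit 1) (Steps.bwd (nat_lit 14) Steps.nil)))))))) (nat_lit 46) (nat_lit 5),
  Rule.mk (nat_lit 11) (nat_lit 102) (Steps.fwd (nat_lit 8192) (Steps.bwd (nat_lit 14) (Steps.bwd (nat_lit 8) (Steps.bwd (nat_lit 11) (Steps.fwd (nat_lit 49152) (Steps.bwd (nat_lit 2) Steps.nil)))))) (nat_lit 44) (nat_lit 2),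
  Rule.mk (nat_lit 4) (nat_lit 57) (Steps.bwd (nat_lit 5) (Steps.bwd (nat_lit 3) (Steps.fwd (nat_lit 45056) Steps.nil))) (nat_lit 15) (nat_lit 1),
  Rule.mk (nat_lit 9) (nat_lit 72) (Steps.bwd (nat_lit 16) (Steps.bwd (nat_lit 12) (Steps.bwd (nat_lit 10) (Steps.bwd (nat_lit 11) Steps.nil)))) (nat_lit 37) (nat_lit 0),
  Rule.mk (nat_lit 14) (nat_lit 132) (Steps.bwd (nat_lit 1) (Steps.fwd (nat_lit 32768) (Steps.bwd (nat_lit 10) (Steps.fwd (nat_lit 45056) (Steps.bwd (nat_lit 13) (Steps.bwd (nat_lit 7) (Steps.fwd (nat_lit 57344) (Steps.bwd (nat_lit 2) Steps.nil)))))))) (nat_lit 47) (nat_lit 8),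
  Rule.mk (nat_lit 8) (nat_lit 87) (Steps.bwd (nat_lit 13) (Steps.fwd (nat_lit 32768) (Steps.fwd (nat_lit 65536) (Steps.fwd (nat_lit 65536) (Steps.bwd (nat_lit 14) Steps.nil))))) (nat_lit 35) (nat_lit 4),
  Rule.mk (nat_lit 14) (nat_lit 132) (Steps.bwd (nat_lit 11) (Steps.fwd (nat_lit 40960) (Steps.fwd (nat_lit 28672) (Steps.fwd (nat_lit 4096) (Steps.bwd (nat_lit 13) (Steps.fwd (nat_lit 8192) (Steps.bwd (nat_lit 14) (Steps.bwd (nat_lit 8) Steps.nil)))))))) (nat_lit 46) (nat_lit 6),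
  Rule.mk (nat_lit 12) (nat_lit 87) (Steps.bwd (nat_lit 8) (Steps.bwd (nat_lit 11) (Steps.bwd (nat_lit 7) (Steps.fwd (nat_lit 61440) (Steps.fwd (nat_lit 61440) Steps.nil))))) (nat_lit 33) (nat_lit 3),
  Rule.mk (nat_lit 9) (nat_lit 72) (Steps.bwd (nat_lit 11) (Steps.bwd (nat_lit 15) (Steps.bwd (nat_lit 10) (Steps.bwd (nat_lit 12) Steps.nil)))) (nat_lit 36) (nat_lit 3),
  Rule.mk (nat_lit 2) (nat_lit 87) (Steps.bwd (nat_lit 2) (Steps.fwd (nat_lit 12288) (Steps.fwd (nat_lit 8192) (Steps.fwd (nat_lit 8192) (Steps.bwd (nat_lit 3) Steps.nil))))) (nat_lit 6) (nat_lit 1),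
  Rule.mk (nat_lit 11) (nat_lit 87) (Steps.fwd (nat_lit 65536) (Steps.fwd (nat_lit 65536) (Steps.bwd (nat_lit 8) (Steps.bwd (nat_lit 12) (Steps.bwd (nat_lit 7) Steps.nil))))) (nat_lit 32) (nat_lit 4),
  Rule.mk (nat_lit 12) (nat_lit 87) (Steps.fwd (nat_lit 28672) (Steps.bwd (nat_lit 11) (Steps.bwd (nat_lit 7) (Steps.bwd (nat_lit 16) (Steps.bwd (nat_lit 16) Steps.nil))))) (nat_lit 33) (nat_lit 3),
  Rule.mk (nat_lit 8) (nat_lit 102) (Steps.bwd (nat_lit 11) (Steps.fwd (nat_lit 49152) (Steps.bwd (nat_lit 2) (Steps.bwd (nat_lit 11) (Steps.fwd (nat_lit 8192) (Steps.bwd (nat_lit 14) Steps.nil)))))) (nat_lit 44) (nat_lit 5),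
  Rule.mk (nat_lit 4) (nat_lit 57) (Steps.bwd (nat_lit 5) (Steps.bwd (nat_lit 3) (Steps.bwd (nat_lit 12) Steps.nil))) (nat_lit 15) (nat_lit 1),
  Rule.mk (nat_lit 7) (nat_lit 87) (Steps.bwd (nat_lit 13) (Steps.fwd (nat_lit 61440) (Steps.bwd (nat_lit 16) (Steps.bwd (nat_lit 8) (Steps.fwd (nat_lit 53248) Steps.nil))))) (nat_lit 34) (nat_lit 3),
  Rule.mk (nat_lit 13) (nat_lit 72) (Steps.bwd (nat_lit 11) (Steps.bwd (nat_lit 16) (Steps.fwd (nat_lit 53248) (Steps.bwd (nat_lit 12) Steps.nil)))) (nat_lit 41) (nat_lit 4),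
  Rule.mk (nat_lit 7) (nat_lit 87) (Steps.bwd (nat_lit 11) (Steps.fwd (nat_lit 65536) (Steps.fwd (nat_lit 65536) (Steps.bwd (nat_lit 8) (Steps.fwd (nat_lit 45056) Steps.nil))))) (nat_lit 32) (nat_lit 3),
  Rule.mk (nat_lit 12) (nat_lit 117) (Steps.bwd (nat_lit 12) (Steps.fwd (nat_lit 12288) (Steps.bwd (nat_lit 12) (Steps.fwd (nat_lit 16384) (Steps.fwd (nat_lit 32768) (Steps.bwd (nat_lit 7) (Steps.bwd (nat_lit 13) Steps.nil))))))) (nat_lit 53) (nat_lit 4),
  Rule.mk (nat_lit 12) (nat_lit 72) (Steps.bwd (nat_lit 14) (Steps.bwd (nat_lit 11) (Steps.bwd (nat_lit 13) (Steps.bwd (nat_lit 15) Steps.nil)))) (nat_lit 40) (nat_lit 1),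
  Rule.mk (nat_lit 11) (nat_lit 87) (Steps.bwd (nat_lit 15) (Steps.bwd (nat_lit 15) (Steps.bwd (nat_lit 8) (Steps.bwd (nat_lit 12) (Steps.fwd (nat_lit 32768) Steps.nil))))) (nat_lit 32) (nat_lit 4),
  Rule.mk (nat_lit 7) (nat_lit 87) (Steps.fwd (nat_lit 61440) (Steps.bwd (nat_lit 16) (Steps.fwd (nat_lit 45056) (Steps.bwd (nat_lit 8) (Steps.bwd (nat_lit 11) Steps.nil))))) (nat_lit 33) (nat_lit 0),
  Rule.mk (nat_lit 4) (nat_lit 57) (Steps.fwd (nat_lit 57344) (Steps.fwd (nat_lit 16384) (Steps.bwd (nat_lit 6) Steps.nil))) (nat_lit 16) (nat_lit 0),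
  Rule.mk (nat_lit 2) (nat_lit 102) (Steps.bwd (nat_lit 11) (Steps.bwd (nat_lit 1) (Steps.bwd (nat_lit 14) (Steps.bwd (nat_lit 8) (Steps.bwd (nat_lit 11) (Steps.bwd (nat_lit 11) Steps.nil)))))) (nat_lit 44) (nat_lit 1),
  Rule.mk (nat_lit 3) (nat_lit 72) (Steps.bwd (nat_lit 3) (Steps.bwd (nat_lit 3) (Steps.fwd (nat_lit 16384) (Steps.bwd (nat_lit 3) Steps.nil)))) (nat_lit 2) (nat_lit 0),
  Rule.mk (nat_lit 1) (nat_lit 87) (Steps.bwd (nat_lit 3) (Steps.bwd (nat_lit 2) (Steps.bwd (nat_lit 2) (Steps.fwd (nat_lit 12288) (Steps.bwd (nat_lit 1) Steps.nil))))) (nat_lit 6) (nat_lit 5),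
  Rule.mk (nat_lit 1) (nat_lit 87) (Steps.bwd (nat_lit 1) (Steps.bwd (nat_lit 3) (Steps.fwd (nat_lit 4096) (Steps.fwd (nat_lit 4096) (Steps.bwd (nat_lit 4) Steps.nil))))) (nat_lit 6) (nat_lit 4),
  Rule.mk (nat_lit 4) (nat_lit 57) (Steps.bwd (nat_lit 6) (Steps.bwd (nat_lit 3) (Steps.bwd (nat_lit 11) Steps.nil))) (nat_lit 14) (nat_lit 2),
  Rule.mk (nat_lit 4) (nat_lit 72) (Steps.fwd (nat_lit 12288) (Steps.bwd (nat_lit 4) (Steps.bwd (nat_lit 4) (Steps.bwd (nat_lit 4) Steps.nil)))) (nat_lit 3) (nat_lit 0),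
  Rule.mk (nat_lit 2) (nat_lit 87) (Steps.bwd (nat_lit 4) (Steps.bwd (nat_lit 1) (Steps.fwd (nat_lit 8192) (Steps.fwd (nat_lit 16384) (Steps.fwd (nat_lit 4096) Steps.nil))))) (nat_lit 6) (nat_lit 2)]
noncomputable def R_15 : List (Rule) := [Rule.mk (nat_lit 16) (nat_lit 87) (Steps.bwd (nat_lit 8) (Steps.bwd (nat_lit 14) (Steps.bwd (nat_lit 7) (Steps.bwd (nat_lit 13) (Steps.bwd (nat_lit 16) Steps.nil))))) (nat_lit 34) (nat_lit 0),
  Rule.mk (nat_lit 13) (nat_lit 87) (Steps.bwd (nat_lit 7) (Steps.fwd (nat_lit 65536) (Steps.bwd (nat_lit 15) (Steps.fwd (nat_lit 53248) (Steps.fwd (nat_lit 28672) Steps.nil))))) (nat_lit 35) (nat_lit 5),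
  Rule.mk (nat_lit 16) (nat_lit 72) (Steps.bwd (nat_lit 14) (Steps.bwd (nat_lit 12) (Steps.bwd (nat_lit 13) (Steps.fwd (nat_lit 49152) Steps.nil)))) (nat_lit 41) (nat_lit 1),
  Rule.mk (nat_lit 4) (nat_lit 57) (Steps.bwd (nat_lit 16) (Steps.fwd (nat_lit 16384) (Steps.fwd (nat_lit 65536) Steps.nil))) (nat_lit 55) (nat_lit 2),
  Rule.mk (nat_lit 2) (nat_lit 87) (Steps.bwd (nat_lit 3) (Steps.fwd (nat_lit 8192) (Steps.fwd (nat_lit 8192) (Steps.bwd (nat_lit 4) (Steps.fwd (nat_lit 4096) Steps.nil))))) (nat_lit 7) (nat_lit 3),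
  Rule.mk (nat_lit 11) (nat_lit 117) (Steps.bwd (nat_lit 3) (Steps.bwd (nat_lit 11) (Steps.bwd (nat_lit 11) (Steps.fwd (nat_lit 53248) (Steps.fwd (nat_lit 28672) (Steps.fwd (nat_lit 28672) (Steps.bwd (nat_lit 4) Steps.nil))))))) (nat_lit 52) (nat_lit 2),
  Rule.mk (nat_lit 7) (nat_lit 87) (Steps.fwd (nat_lit 61440) (Steps.fwd (nat_lit 61440) (Steps.bwd (nat_lit 12) (Steps.fwd (nat_lit 28672) (Steps.bwd (nat_lit 11) Steps.nil))))) (nat_lit 33) (nat_lit 0),
  Rule.mk (nat_lit 9) (nat_lit 132) (Steps.fwd (nat_lit 28672) (Steps.bwd (nat_lit 2) (Steps.bwd (nat_lit 13) (Steps.bwd (nat_lit 1) (Steps.fwd (nat_lit 53248) (Steps.bwd (nat_lit 8) (Steps.fwd (nat_lit 53248) (Steps.bwd (nat_lit 11) Steps.nil)))))))) (nat_lit 46) (nat_lit 8),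
  Rule.mk (nat_lit 8) (nat_lit 87) (Steps.bwd (nat_lit 13) (Steps.bwd (nat_lit 7) (Steps.fwd (nat_lit 65536) (Steps.bwd (nat_lit 15) (Steps.fwd (nat_lit 53248) Steps.nil))))) (nat_lit 35) (nat_lit 4),
  Rule.mk (nat_lit 12) (nat_lit 87) (Steps.fwd (nat_lit 32768) (Steps.bwd (nat_lit 11) (Steps.fwd (nat_lit 65536) (Steps.bwd (nat_lit 15) (Steps.bwd (nat_lit 8) Steps.nil))))) (nat_lit 32) (nat_lit 2),
  Rule.mk (nat_lit 4) (nat_lit 117) (Steps.bwd (nat_lit 9) (Steps.bwd (nat_lit 3) (Steps.bwd (nat_lit 13) (Steps.bwd (nat_lit 7) (Steps.bwd (nat_lit 13) (Steps.fwd (nat_lit 45056) (Steps.bwd (nat_lit 10) Steps.nil))))))) (nat_lit 50) (nat_lit 1),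
  Rule.mk (nat_lit 4) (nat_lit 72) (Steps.bwd (nat_lit 4) (Steps.fwd (nat_lit 12288) (Steps.bwd (nat_lit 4) (Steps.fwd (nat_lit 12288) Steps.nil)))) (nat_lit 3) (nat_lit 0),
  Rule.mk (nat_lit 1) (nat_lit 87) (Steps.bwd (nat_lit 4) (Steps.bwd (nat_lit 2) (Steps.fwd (nat_lit 4096) (Steps.fwd (nat_lit 16384) (Steps.bwd (nat_lit 1) Steps.nil))))) (nat_lit 7) (nat_lit 0),
  Rule.mk (nat_lit 8) (nat_lit 117) (Steps.bwd (nat_lit 4) (Steps.bwd (nat_lit 11) (Steps.fwd (nat_lit 16384) (Steps.bwd (nat_lit 11) (Steps.fwd (nat_lit 49152) (Steps.fwd (nat_lit 53248) (Steps.fwd (nat_lit 28672) Steps.nil))))))) (nat_lit 52) (nat_lit 0),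
  Rule.mk (nat_lit 8) (nat_lit 72) (Steps.fwd (nat_lit 28672) (Steps.bwd (nat_lit 8) (Steps.fwd (nat_lit 28672) (Steps.bwd (nat_lit 8) Steps.nil)))) (nat_lit 21) (nat_lit 0),
  Rule.mk (nat_lit 14) (nat_lit 87) (Steps.fwd (nat_lit 32768) (Steps.bwd (nat_lit 13) (Steps.bwd (nat_lit 16) (Steps.bwd (nat_lit 16) (Steps.bwd (nat_lit 8) Steps.nil))))) (nat_lit 34) (nat_lit 2),
  Rule.mk (nat_lit 1) (nat_lit 87) (Steps.bwd (nat_lit 4) (Steps.bwd (nat_lit 2) (Steps.bwd (nat_lit 2) (Steps.bwd (nat_lit 3) (Steps.bwd (nat_lit 1) Steps.nil))))) (nat_lit 7) (nat_lit 0),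
  Rule.mk (nat_lit 14) (nat_lit 102) (Steps.bwd (nat_lit 8) (Steps.bwd (nat_lit 11) (Steps.bwd (nat_lit 11) (Steps.fwd (nat_lit 4096) (Steps.bwd (nat_lit 11) (Steps.fwd (nat_lit 8192) Steps.nil)))))) (nat_lit 44) (nat_lit 4),
  Rule.mk (nat_lit 12) (nat_lit 72) (Steps.bwd (nat_lit 13) (Steps.fwd (nat_lit 49152) (Steps.bwd (nat_lit 16) (Steps.bwd (nat_lit 14) Steps.nil)))) (nat_lit 41) (nat_lit 3),
  Rule.mk (nat_lit 16) (nat_lit 72) (Steps.bwd (nat_lit 12) (Steps.bwd (nat_lit 10) (Steps.bwd (nat_lit 11) (Steps.fwd (nat_lit 40960) Steps.nil)))) (nat_lit 37) (nat_lit 1),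
  Rule.mk (nat_lit 10) (nat_lit 72) (Steps.fwd (nat_lit 32768) (Steps.bwd (nat_lit 9) (Steps.fwd (nat_lit 61440) (Steps.bwd (nat_lit 8) Steps.nil)))) (nat_lit 19) (nat_lit 2),
  Rule.mk (nat_lit 13) (nat_lit 87) (Steps.fwd (nat_lit 32768) (Steps.bwd (nat_lit 15) (Steps.bwd (nat_lit 15) (Steps.bwd (nat_lit 14) (Steps.bwd (nat_lit 8) Steps.nil))))) (nat_lit 35) (nat_lit 5),
  Rule.mk (nat_lit 2) (nat_lit 87) (Steps.bwd (nat_lit 3) (Steps.bwd (nat_lit 1) (Steps.fwd (nat_lit 8192) (Steps.bwd (nat_lit 4) (Steps.bwd (nat_lit 2) Steps.nil))))) (nat_lit 7) (nat_lit 3),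
  Rule.mk (nat_lit 13) (nat_lit 57) (Steps.fwd (nat_lit 61440) (Steps.bwd (nat_lit 14) (Steps.fwd (nat_lit 65536) Steps.nil))) (nat_lit 31) (nat_lit 0),
  Rule.mk (nat_lit 12) (nat_lit 72) (Steps.bwd (nat_lit 13) (Steps.bwd (nat_lit 11) (Steps.fwd (nat_lit 61440) (Steps.bwd (nat_lit 14) Steps.nil)))) (nat_lit 41) (nat_lit 3),
  Rule.mk (nat_lit 2) (nat_lit 72) (Steps.bwd (nat_lit 10) (Steps.bwd (nat_lit 1) (Steps.fwd (nat_lit 28672) (Steps.fwd (nat_lit 28672) Steps.nil)))) (nat_lit 43) (nat_lit 3),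
  Rule.mk (nat_lit 13) (nat_lit 132) (Steps.bwd (nat_lit 7) (Steps.bwd (nat_lit 13) (Steps.bwd (nat_lit 2) (Steps.fwd (nat_lit 53248) (Steps.bwd (nat_lit 1) (Steps.bwd (nat_lit 7) (Steps.bwd (nat_lit 10) (Steps.bwd (nat_lit 12) Steps.nil)))))))) (nat_lit 47) (nat_lit 4),
  Rule.mk (nat_lit 10) (nat_lit 57) (Steps.fwd (nat_lit 53248) (Steps.fwd (nat_lit 40960) (Steps.bwd (nat_lit 13) Steps.nil))) (nat_lit 38) (nat_lit 1),
  Rule.mk (nat_lit 3) (nat_lit 117) (Steps.bwd (nat_lit 13) (Steps.bwd (nat_lit 7) (Steps.bwd (nat_lit 13) (Steps.fwd (nat_lit 45056) (Steps.bwd (nat_lit 10) (Steps.fwd (nat_lit 12288) (Steps.fwd (nat_lit 40960) Steps.nil))))))) (nat_lit 50) (nat_lit 3),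
  Rule.mk (nat_lit 4) (nat_lit 57) (Steps.fwd (nat_lit 24576) (Steps.bwd (nat_lit 3) (Steps.fwd (nat_lit 45056) Steps.nil))) (nat_lit 15) (nat_lit 1),
  Rule.mk (nat_lit 3) (nat_lit 57) (Steps.fwd (nat_lit 49152) (Steps.bwd (nat_lit 4) (Steps.bwd (nat_lit 6) Steps.nil))) (nat_lit 14) (nat_lit 0),
  Rule.mk (nat_lit 4) (nat_lit 87) (Steps.fwd (nat_lit 4096) (Steps.bwd (nat_lit 2) (Steps.bwd (nat_lit 3) (Steps.fwd (nat_lit 8192) (Steps.fwd (nat_lit 8192) Steps.nil))))) (nat_lit 7) (nat_lit 1),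
  Rule.mk (nat_lit 3) (nat_lit 87) (Steps.fwd (nat_lit 8192) (Steps.fwd (nat_lit 8192) (Steps.bwd (nat_lit 4) (Steps.bwd (nat_lit 2) (Steps.fwd (nat_lit 4096) Steps.nil))))) (nat_lit 7) (nat_lit 4),
  Rule.mk (nat_lit 3) (nat_lit 72) (Steps.fwd (nat_lit 16384) (Steps.fwd (nat_lit 16384) (Steps.fwd (nat_lit 16384) (Steps.bwd (nat_lit 3) Steps.nil)))) (nat_lit 2) (nat_lit 0),
  Rule.mk (nat_lit 4) (nat_lit 57) (Steps.fwd (nat_lit 20480) (Steps.bwd (nat_lit 3) (Steps.bwd (nat_lit 11) Steps.nil))) (nat_lit 14) (nat_lit 2),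
  Rule.mk (nat_lit 3) (nat_lit 87) (Steps.bwd (nat_lit 1) (Steps.bwd (nat_lit 1) (Steps.bwd (nat_lit 4) (Steps.bwd (nat_lit 2) (Steps.fwd (nat_lit 4096) Steps.nil))))) (nat_lit 7) (nat_lit 4),
  Rule.mk (nat_lit 8) (nat_lit 87) (Steps.bwd (nat_lit 11) (Steps.bwd (nat_lit 7) (Steps.fwd (nat_lit 61440) (Steps.fwd (nat_lit 61440) (Steps.bwd (nat_lit 12) Steps.nil))))) (nat_lit 33) (nat_lit 4),
  Rule.mk (nat_lit 2) (nat_lit 87) (Steps.bwd (nat_lit 2) (Steps.bwd (nat_lit 3) (Steps.bwd (nat_lit 1) (Steps.fwd (nat_lit 8192) (Steps.fwd (nat_lit 12288) Steps.nil))))) (nat_lit 7) (nat_lit 2),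
  Rule.mk (nat_lit 9) (nat_lit 72) (Steps.bwd (nat_lit 11) (Steps.fwd (nat_lit 65536) (Steps.bwd (nat_lit 10) (Steps.fwd (nat_lit 45056) Steps.nil)))) (nat_lit 36) (nat_lit 3),
  Rule.mk (nat_lit 8) (nat_lit 87) (Steps.bwd (nat_lit 11) (Steps.fwd (nat_lit 32768) (Steps.bwd (nat_lit 16) (Steps.bwd (nat_lit 16) (Steps.bwd (nat_lit 12) Steps.nil))))) (nat_lit 33) (nat_lit 4),
  Rule.mk (nat_lit 2) (nat_lit 87) (Steps.bwd (nat_lit 4) (Steps.fwd (nat_lit 8192) (Steps.bwd (nat_lit 1) (Steps.fwd (nat_lit 16384) (Steps.bwd (nat_lit 2) Steps.nil))))) (nat_lit 6) (nat_lit 2),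
  Rule.mk (nat_lit 10) (nat_lit 117) (Steps.bwd (nat_lit 4) (Steps.bwd (nat_lit 9) (Steps.fwd (nat_lit 16384) (Steps.bwd (nat_lit 13) (Steps.bwd (nat_lit 7) (Steps.bwd (nat_lit 13) (Steps.bwd (nat_lit 12) Steps.nil))))))) (nat_lit 50) (nat_lit 0),
  Rule.mk (nat_lit 13) (nat_lit 57) (Steps.bwd (nat_lit 3) (Steps.fwd (nat_lit 20480) (Steps.fwd (nat_lit 12288) Steps.nil))) (nat_lit 16) (nat_lit 1),
  Rule.mk (nat_lit 12) (nat_lit 117) (Steps.bwd (nat_lit 3) (Steps.fwd (nat_lit 32768) (Steps.bwd (nat_lit 7) (Steps.bwd (nat_lit 13) (Steps.fwd (nat_lit 45056) (Steps.bwd (nat_lit 12) (Steps.bwd (nat_lit 4) Steps.nil))))))) (nat_lit 53) (nat_lit 7),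
  Rule.mk (nat_lit 7) (nat_lit 87) (Steps.bwd (nat_lit 11) (Steps.bwd (nat_lit 15) (Steps.fwd (nat_lit 65536) (Steps.bwd (nat_lit 8) (Steps.bwd (nat_lit 12) Steps.nil))))) (nat_lit 32) (nat_lit 3),
  Rule.mk (nat_lit 7) (nat_lit 87) (Steps.bwd (nat_lit 16) (Steps.fwd (nat_lit 61440) (Steps.fwd (nat_lit 45056) (Steps.bwd (nat_lit 8) (Steps.bwd (nat_lit 11) Steps.nil))))) (nat_lit 33) (nat_lit 0),
  Rule.mk (nat_lit 11) (nat_lit 72) (Steps.fwd (nat_lit 61440) (Steps.bwd (nat_lit 14) (Steps.fwd (nat_lit 45056) (Steps.bwd (nat_lit 13) Steps.nil)))) (nat_lit 41) (nat_lit 0),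
  Rule.mk (nat_lit 10) (nat_lit 72) (Steps.bwd (nat_lit 11) (Steps.fwd (nat_lit 40960) (Steps.fwd (nat_lit 61440) (Steps.bwd (nat_lit 12) Steps.nil)))) (nat_lit 37) (nat_lit 3),
  Rule.mk (nat_lit 12) (nat_lit 72) (Steps.bwd (nat_lit 9) (Steps.fwd (nat_lit 49152) (Steps.fwd (nat_lit 65536) (Steps.bwd (nat_lit 10) Steps.nil)))) (nat_lit 36) (nat_lit 2),
  Rule.mk (nat_lit 10) (nat_lit 72) (Steps.bwd (nat_lit 11) (Steps.bwd (nat_lit 9) (Steps.fwd (nat_lit 61440) (Steps.fwd (nat_lit 45056) Steps.nil)))) (nat_lit 37) (nat_lit 3),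
  Rule.mk (nat_lit 3) (nat_lit 117) (Steps.bwd (nat_lit 9) (Steps.bwd (nat_lit 11) (Steps.fwd (nat_lit 53248) (Steps.fwd (nat_lit 28672) (Steps.fwd (nat_lit 53248) (Steps.fwd (nat_lit 12288) (Steps.bwd (nat_lit 10) Steps.nil))))))) (nat_lit 51) (nat_lit 0),
  Rule.mk (nat_lit 16) (nat_lit 57) (Steps.fwd (nat_lit 16384) (Steps.bwd (nat_lit 15) (Steps.bwd (nat_lit 4) Steps.nil))) (nat_lit 55) (nat_lit 3),
  Rule.mk (nat_lit 8) (nat_lit 72) (Steps.bwd (nat_lit 8) (Steps.bwd (nat_lit 2) (Steps.fwd (nat_lit 36864) (Steps.bwd (nat_lit 1) Steps.nil)))) (nat_lit 43) (nat_lit 1),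
  Rule.mk (nat_lit 15) (nat_lit 87) (Steps.bwd (nat_lit 8) (Steps.fwd (nat_lit 45056) (Steps.fwd (nat_lit 32768) (Steps.fwd (nat_lit 49152) (Steps.fwd (nat_lit 65536) Steps.nil))))) (nat_lit 32) (nat_lit 0),
  Rule.mk (nat_lit 14) (nat_lit 117) (Steps.bwd (nat_lit 8) (Steps.fwd (nat_lit 53248) (Steps.bwd (nat_lit 4) (Steps.fwd (nat_lit 36864) (Steps.bwd (nat_lit 3) (Steps.bwd (nat_lit 9) (Steps.fwd (nat_lit 49152) Steps.nil))))))) (nat_lit 51) (nat_lit 3),
  Rule.mk (nat_lit 11) (nat_lit 72) (Steps.fwd (nat_lit 57344) (Steps.bwd (nat_lit 15) (Steps.fwd (nat_lit 45056) (Steps.bwd (nat_lit 14) Steps.nil)))) (nat_lit 40) (nat_lit 3),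
  Rule.mk (nat_lit 4) (nat_lit 117) (Steps.bwd (nat_lit 9) (Steps.bwd (nat_lit 3) (Steps.bwd (nat_lit 13) (Steps.bwd (nat_lit 7) (Steps.bwd (nat_lit 13) (Steps.bwd (nat_lit 12) (Steps.fwd (nat_lit 36864) Steps.nil))))))) (nat_lit 50) (nat_lit 1),
  Rule.mk (nat_lit 6) (nat_lit 57) (Steps.fwd (nat_lit 16384) (Steps.bwd (nat_lit 11) (Steps.bwd (nat_lit 4) Steps.nil))) (nat_lit 14) (nat_lit 3),
  Rule.mk (nat_lit 10) (nat_lit 72) (Steps.bwd (nat_lit 1) (Steps.fwd (nat_lit 28672) (Steps.bwd (nat_lit 8) (Steps.bwd (nat_lit 2) Steps.nil)))) (nat_lit 43) (nat_lit 4),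
  Rule.mk (nat_lit 10) (nat_lit 117) (Steps.bwd (nat_lit 3) (Steps.bwd (nat_lit 9) (Steps.fwd (nat_lit 49152) (Steps.bwd (nat_lit 14) (Steps.bwd (nat_lit 8) (Steps.bwd (nat_lit 14) (Steps.bwd (nat_lit 4) Steps.nil))))))) (nat_lit 51) (nat_lit 7),
  Rule.mk (nat_lit 4) (nat_lit 87) (Steps.bwd (nat_lit 2) (Steps.fwd (nat_lit 4096) (Steps.fwd (nat_lit 16384) (Steps.fwd (nat_lit 8192) (Steps.bwd (nat_lit 1) Steps.nil))))) (nat_lit 7) (nat_lit 1),
  Rule.mk (nat_lit 2) (nat_lit 87) (Steps.bwd (nat_lit 2) (Steps.fwd (nat_lit 16384) (Steps.fwd (nat_lit 8192) (Steps.bwd (nat_lit 1) (Steps.bwd (nat_lit 4) Steps.nil))))) (nat_lit 7) (nat_lit 2),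
  Rule.mk (nat_lit 16) (nat_lit 57) (Steps.bwd (nat_lit 11) (Steps.bwd (nat_lit 15) (Steps.fwd (nat_lit 45056) Steps.nil))) (nat_lit 28) (nat_lit 2),
  Rule.mk (nat_lit 4) (nat_lit 117) (Steps.bwd (nat_lit 11) (Steps.fwd (nat_lit 16384) (Steps.bwd (nat_lit 11) (Steps.fwd (nat_lit 49152) (Steps.fwd (nat_lit 53248) (Steps.bwd (nat_lit 8) (Steps.bwd (nat_lit 8) Steps.nil))))))) (nat_lit 52) (nat_lit 1)]
noncomputable def R_16 : List (Rule) := [Rule.mk (nat_lit 14) (nat_lit 132) (Steps.bwd (nat_lit 11) (Steps.fwd (nat_lit 40960) (Steps.bwd (nat_lit 8) (Steps.bwd (nat_lit 2) (Steps.fwd (nat_lit 57344) (Steps.bwd (nat_lit 1) (Steps.fwd (nat_lit 53248) (Steps.bwd (nat_lit 8) Steps.nil)))))))) (nat_lit 46) (nat_lit 6),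
  Rule.mk (nat_lit 1) (nat_lit 87) (Steps.bwd (nat_lit 4) (Steps.bwd (nat_lit 2) (Steps.bwd (nat_lit 2) (Steps.fwd (nat_lit 16384) (Steps.fwd (nat_lit 8192) Steps.nil))))) (nat_lit 7) (nat_lit 0),
  Rule.mk (nat_lit 16) (nat_lit 72) (Steps.bwd (nat_lit 2) (Steps.bwd (nat_lit 15) (Steps.bwd (nat_lit 1) (Steps.bwd (nat_lit 16) Steps.nil)))) (nat_lit 48) (nat_lit 0),
  Rule.mk (nat_lit 1) (nat_lit 87) (Steps.bwd (nat_lit 1) (Steps.bwd (nat_lit 3) (Steps.bwd (nat_lit 2) (Steps.fwd (nat_lit 4096) (Steps.bwd (nat_lit 4) Steps.nil))))) (nat_lit 6) (nat_lit 4),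
  Rule.mk (nat_lit 2) (nat_lit 87) (Steps.bwd (nat_lit 3) (Steps.fwd (nat_lit 8192) (Steps.bwd (nat_lit 1) (Steps.fwd (nat_lit 12288) (Steps.bwd (nat_lit 2) Steps.nil))))) (nat_lit 7) (nat_lit 3),
  Rule.mk (nat_lit 16) (nat_lit 72) (Steps.fwd (nat_lit 61440) (Steps.fwd (nat_lit 61440) (Steps.bwd (nat_lit 16) (Steps.bwd (nat_lit 16) Steps.nil)))) (nat_lit 23) (nat_lit 0),
  Rule.mk (nat_lit 9) (nat_lit 72) (Steps.bwd (nat_lit 1) (Steps.fwd (nat_lit 32768) (Steps.fwd (nat_lit 32768) (Steps.bwd (nat_lit 2) Steps.nil)))) (nat_lit 42) (nat_lit 2),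
  Rule.mk (nat_lit 1) (nat_lit 87) (Steps.bwd (nat_lit 1) (Steps.bwd (nat_lit 4) (Steps.bwd (nat_lit 2) (Steps.fwd (nat_lit 4096) (Steps.bwd (nat_lit 3) Steps.nil))))) (nat_lit 7) (nat_lit 5),
  Rule.mk (nat_lit 12) (nat_lit 87) (Steps.bwd (nat_lit 7) (Steps.bwd (nat_lit 11) (Steps.bwd (nat_lit 15) (Steps.fwd (nat_lit 65536) (Steps.fwd (nat_lit 28672) Steps.nil))))) (nat_lit 32) (nat_lit 2),
  Rule.mk (nat_lit 14) (nat_lit 87) (Steps.bwd (nat_lit 7) (Steps.fwd (nat_lit 57344) (Steps.fwd (nat_lit 61440) (Steps.bwd (nat_lit 16) (Steps.fwd (nat_lit 28672) Steps.nil))))) (nat_lit 34) (nat_lit 2),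
  Rule.mk (nat_lit 3) (nat_lit 117) (Steps.bwd (nat_lit 7) (Steps.bwd (nat_lit 7) (Steps.bwd (nat_lit 13) (Steps.bwd (nat_lit 12) (Steps.fwd (nat_lit 45056) (Steps.fwd (nat_lit 12288) (Steps.bwd (nat_lit 12) Steps.nil))))))) (nat_lit 53) (nat_lit 0),
  Rule.mk (nat_lit 14) (nat_lit 72) (Steps.bwd (nat_lit 11) (Steps.fwd (nat_lit 57344) (Steps.fwd (nat_lit 65536) (Steps.fwd (nat_lit 45056) Steps.nil)))) (nat_lit 40) (nat_lit 2),
  Rule.mk (nat_lit 7) (nat_lit 102) (Steps.bwd (nat_lit 13) (Steps.fwd (nat_lit 4096) (Steps.fwd (nat_lit 45056) (Steps.bwd (nat_lit 1) (Steps.bwd (nat_lit 12) (Steps.bwd (nat_lit 12) Steps.nil)))))) (nat_lit 45) (nat_lit 3),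
  Rule.mk (nat_lit 11) (nat_lit 87) (Steps.bwd (nat_lit 15) (Steps.fwd (nat_lit 65536) (Steps.fwd (nat_lit 28672) (Steps.bwd (nat_lit 12) (Steps.bwd (nat_lit 7) Steps.nil))))) (nat_lit 32) (nat_lit 4),
  Rule.mk (nat_lit 12) (nat_lit 87) (Steps.bwd (nat_lit 8) (Steps.fwd (nat_lit 49152) (Steps.bwd (nat_lit 7) (Steps.bwd (nat_lit 16) (Steps.fwd (nat_lit 61440) Steps.nil))))) (nat_lit 33) (nat_lit 3),
  Rule.mk (nat_lit 14) (nat_lit 87) (Steps.bwd (nat_lit 8) (Steps.fwd (nat_lit 57344) (Steps.fwd (nat_lit 32768) (Steps.fwd (nat_lit 65536) (Steps.fwd (nat_lit 65536) Steps.nil))))) (nat_lit 35) (nat_lit 3),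
  Rule.mk (nat_lit 11) (nat_lit 102) (Steps.bwd (nat_lit 1) (Steps.bwd (nat_lit 14) (Steps.bwd (nat_lit 8) (Steps.fwd (nat_lit 49152) (Steps.bwd (nat_lit 11) (Steps.bwd (nat_lit 2) Steps.nil)))))) (nat_lit 44) (nat_lit 2),
  Rule.mk (nat_lit 2) (nat_lit 72) (Steps.bwd (nat_lit 10) (Steps.fwd (nat_lit 8192) (Steps.bwd (nat_lit 8) (Steps.bwd (nat_lit 8) Steps.nil)))) (nat_lit 43) (nat_lit 3),
  Rule.mk (nat_lit 6) (nat_lit 57) (Steps.bwd (nat_lit 3) (Steps.fwd (nat_lit 49152) (Steps.bwd (nat_lit 4) Steps.nil))) (nat_lit 14) (nat_lit 3),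
  Rule.mk (nat_lit 5) (nat_lit 57) (Steps.bwd (nat_lit 3) (Steps.bwd (nat_lit 12) (Steps.fwd (nat_lit 12288) Steps.nil))) (nat_lit 15) (nat_lit 2),
  Rule.mk (nat_lit 15) (nat_lit 72) (Steps.fwd (nat_lit 65536) (Steps.fwd (nat_lit 65536) (Steps.fwd (nat_lit 65536) (Steps.bwd (nat_lit 15) Steps.nil)))) (nat_lit 22) (nat_lit 0),
  Rule.mk (nat_lit 1) (nat_lit 87) (Steps.bwd (nat_lit 3) (Steps.bwd (nat_lit 2) (Steps.bwd (nat_lit 2) (Steps.fwd (nat_lit 12288) (Steps.fwd (nat_lit 8192) Steps.nil))))) (nat_lit 6) (nat_lit 5),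
  Rule.mk (nat_lit 8) (nat_lit 72) (Steps.fwd (nat_lit 28672) (Steps.bwd (nat_lit 2) (Steps.bwd (nat_lit 10) (Steps.bwd (nat_lit 1) Steps.nil)))) (nat_lit 43) (nat_lit 1),
  Rule.mk (nat_lit 2) (nat_lit 72) (Steps.bwd (nat_lit 9) (Steps.bwd (nat_lit 1) (Steps.bwd (nat_lit 7) (Steps.fwd (nat_lit 32768) Steps.nil)))) (nat_lit 42) (nat_lit 1),
  Rule.mk (nat_lit 5) (nat_lit 57) (Steps.fwd (nat_lit 16384) (Steps.bwd (nat_lit 12) (Steps.bwd (nat_lit 4) Steps.nil))) (nat_lit 15) (nat_lit 2),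
  Rule.mk (nat_lit 2) (nat_lit 132) (Steps.bwd (nat_lit 13) (Steps.bwd (nat_lit 1) (Steps.bwd (nat_lit 14) (Steps.bwd (nat_lit 8) (Steps.bwd (nat_lit 14) (Steps.bwd (nat_lit 11) (Steps.fwd (nat_lit 40960) (Steps.bwd (nat_lit 8) Steps.nil)))))))) (nat_lit 46) (nat_lit 1),
  Rule.mk (nat_lit 16) (nat_lit 57) (Steps.fwd (nat_lit 57344) (Steps.bwd (nat_lit 15) (Steps.bwd (nat_lit 14) Steps.nil))) (nat_lit 30) (nat_lit 2),
  Rule.mk (nat_lit 14) (nat_lit 87) (Steps.bwd (nat_lit 8) (Steps.fwd (nat_lit 57344) (Steps.bwd (nat_lit 7) (Steps.bwd (nat_lit 15) (Steps.bwd (nat_lit 15) Steps.nil))))) (nat_lit 35) (nat_lit 3),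
  Rule.mk (nat_lit 7) (nat_lit 132) (Steps.bwd (nat_lit 10) (Steps.fwd (nat_lit 45056) (Steps.fwd (nat_lit 57344) (Steps.fwd (nat_lit 32768) (Steps.fwd (nat_lit 57344) (Steps.fwd (nat_lit 4096) (Steps.bwd (nat_lit 14) (Steps.bwd (nat_lit 1) Steps.nil)))))))) (nat_lit 47) (nat_lit 1),
  Rule.mk (nat_lit 2) (nat_lit 87) (Steps.bwd (nat_lit 4) (Steps.fwd (nat_lit 8192) (Steps.fwd (nat_lit 8192) (Steps.fwd (nat_lit 16384) (Steps.fwd (nat_lit 4096) Steps.nil))))) (nat_lit 6) (nat_lit 2),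
  Rule.mk (nat_lit 4) (nat_lit 87) (Steps.fwd (nat_lit 4096) (Steps.bwd (nat_lit 2) (Steps.fwd (nat_lit 16384) (Steps.bwd (nat_lit 1) (Steps.fwd (nat_lit 8192) Steps.nil))))) (nat_lit 7) (nat_lit 1),
  Rule.mk (nat_lit 3) (nat_lit 117) (Steps.fwd (nat_lit 57344) (Steps.fwd (nat_lit 32768) (Steps.bwd (nat_lit 13) (Steps.bwd (nat_lit 12) (Steps.bwd (nat_lit 10) (Steps.bwd (nat_lit 4) (Steps.bwd (nat_lit 9) Steps.nil))))))) (nat_lit 50) (nat_lit 3),
  Rule.mk (nat_lit 3) (nat_lit 177) (Steps.bwd (nat_lit 1) (Steps.bwd (nat_lit 4) (Steps.bwd (nat_lit 2) (Steps.bwd (nat_lit 3) (Steps.bwd (nat_lit 1) (Steps.bwd (nat_lit 4) (Steps.fwd (nat_lit 4096) (Steps.fwd (nat_lit 16384) (Steps.fwd (nat_lit 8192) (Steps.bwd (nat_lit 4) (Steps.fwd (nat_lit 4096) Steps.nil))))))))))) (nat_lit 9) (nat_lit 3),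
  Rule.mk (nat_lit 10) (nat_lit 72) (Steps.bwd (nat_lit 1) (Steps.fwd (nat_lit 28672) (Steps.fwd (nat_lit 28672) (Steps.bwd (nat_lit 2) Steps.nil)))) (nat_lit 43) (nat_lit 4),
  Rule.mk (nat_lit 4) (nat_lit 87) (Steps.bwd (nat_lit 1) (Steps.bwd (nat_lit 1) (Steps.fwd (nat_lit 16384) (Steps.fwd (nat_lit 4096) (Steps.bwd (nat_lit 2) Steps.nil))))) (nat_lit 6) (nat_lit 3),
  Rule.mk (nat_lit 8) (nat_lit 87) (Steps.bwd (nat_lit 11) (Steps.bwd (nat_lit 7) (Steps.bwd (nat_lit 16) (Steps.fwd (nat_lit 61440) (Steps.bwd (nat_lit 12) Steps.nil))))) (nat_lit 33) (nat_lit 4),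
  Rule.mk (nat_lit 15) (nat_lit 72) (Steps.bwd (nat_lit 10) (Steps.fwd (nat_lit 28672) (Steps.bwd (nat_lit 9) (Steps.fwd (nat_lit 32768) Steps.nil)))) (nat_lit 18) (nat_lit 1),
  Rule.mk (nat_lit 1) (nat_lit 117) (Steps.bwd (nat_lit 1) (Steps.fwd (nat_lit 8192) (Steps.bwd (nat_lit 1) (Steps.fwd (nat_lit 8192) (Steps.fwd (nat_lit 8192) (Steps.fwd (nat_lit 8192) (Steps.fwd (nat_lit 8192) Steps.nil))))))) (nat_lit 0) (nat_lit 0),
  Rule.mk (nat_lit 7) (nat_lit 72) (Steps.fwd (nat_lit 32768) (Steps.bwd (nat_lit 2) (Steps.fwd (nat_lit 40960) (Steps.bwd (nat_lit 1) Steps.nil)))) (nat_lit 42) (nat_lit 4),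
  Rule.mk (nat_lit 16) (nat_lit 72) (Steps.fwd (nat_lit 61440) (Steps.bwd (nat_lit 2) (Steps.fwd (nat_lit 65536) (Steps.bwd (nat_lit 1) Steps.nil)))) (nat_lit 48) (nat_lit 4),
  Rule.mk (nat_lit 2) (nat_lit 72) (Steps.fwd (nat_lit 36864) (Steps.bwd (nat_lit 1) (Steps.fwd (nat_lit 28672) (Steps.bwd (nat_lit 8) Steps.nil)))) (nat_lit 43) (nat_lit 3),
  Rule.mk (nat_lit 12) (nat_lit 72) (Steps.bwd (nat_lit 9) (Steps.fwd (nat_lit 49152) (Steps.fwd (nat_lit 65536) (Steps.fwd (nat_lit 36864) Steps.nil)))) (nat_lit 36) (nat_lit 2),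
  Rule.mk (nat_lit 10) (nat_lit 72) (Steps.fwd (nat_lit 49152) (Steps.bwd (nat_lit 9) (Steps.bwd (nat_lit 16) (Steps.bwd (nat_lit 12) Steps.nil)))) (nat_lit 37) (nat_lit 3),
  Rule.mk (nat_lit 13) (nat_lit 72) (Steps.bwd (nat_lit 11) (Steps.fwd (nat_lit 61440) (Steps.bwd (nat_lit 14) (Steps.bwd (nat_lit 12) Steps.nil)))) (nat_lit 41) (nat_lit 4),
  Rule.mk (nat_lit 3) (nat_lit 117) (Steps.fwd (nat_lit 57344) (Steps.bwd (nat_lit 7) (Steps.bwd (nat_lit 13) (Steps.bwd (nat_lit 12) (Steps.bwd (nat_lit 10) (Steps.bwd (nat_lit 4) (Steps.fwd (nat_lit 40960) Steps.nil))))))) (nat_lit 50) (nat_lit 3),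
  Rule.mk (nat_lit 15) (nat_lit 57) (Steps.bwd (nat_lit 11) (Steps.fwd (nat_lit 61440) (Steps.fwd (nat_lit 45056) Steps.nil))) (nat_lit 29) (nat_lit 3),
  Rule.mk (nat_lit 9) (nat_lit 117) (Steps.bwd (nat_lit 11) (Steps.fwd (nat_lit 53248) (Steps.bwd (nat_lit 8) (Steps.bwd (nat_lit 14) (Steps.fwd (nat_lit 12288) (Steps.fwd (nat_lit 36864) (Steps.bwd (nat_lit 3) Steps.nil))))))) (nat_lit 51) (nat_lit 1),
  Rule.mk (nat_lit 14) (nat_lit 72) (Steps.bwd (nat_lit 11) (Steps.bwd (nat_lit 13) (Steps.bwd (nat_lit 15) (Steps.fwd (nat_lit 45056) Steps.nil)))) (nat_lit 40) (nat_lit 2),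
  Rule.mk (nat_lit 11) (nat_lit 102) (Steps.bwd (nat_lit 11) (Steps.fwd (nat_lit 4096) (Steps.fwd (nat_lit 49152) (Steps.fwd (nat_lit 8192) (Steps.bwd (nat_lit 14) (Steps.bwd (nat_lit 8) Steps.nil)))))) (nat_lit 44) (nat_lit 6),
  Rule.mk (nat_lit 10) (nat_lit 117) (Steps.bwd (nat_lit 3) (Steps.bwd (nat_lit 9) (Steps.bwd (nat_lit 11) (Steps.fwd (nat_lit 53248) (Steps.bwd (nat_lit 8) (Steps.bwd (nat_lit 14) (Steps.fwd (nat_lit 12288) Steps.nil))))))) (nat_lit 51) (nat_lit 7),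
  Rule.mk (nat_lit 7) (nat_lit 72) (Steps.fwd (nat_lit 40960) (Steps.fwd (nat_lit 61440) (Steps.bwd (nat_lit 8) (Steps.bwd (nat_lit 10) Steps.nil)))) (nat_lit 19) (nat_lit 3),
  Rule.mk (nat_lit 11) (nat_lit 87) (Steps.bwd (nat_lit 7) (Steps.fwd (nat_lit 61440) (Steps.bwd (nat_lit 16) (Steps.fwd (nat_lit 45056) (Steps.bwd (nat_lit 8) Steps.nil))))) (nat_lit 33) (nat_lit 5),
  Rule.mk (nat_lit 5) (nat_lit 57) (Steps.bwd (nat_lit 3) (Steps.fwd (nat_lit 45056) (Steps.fwd (nat_lit 12288) Steps.nil))) (nat_lit 15) (nat_lit 2),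
  Rule.mk (nat_lit 16) (nat_lit 57) (Steps.bwd (nat_lit 3) (Steps.fwd (nat_lit 65536) (Steps.fwd (nat_lit 12288) Steps.nil))) (nat_lit 55) (nat_lit 3),
  Rule.mk (nat_lit 3) (nat_lit 72) (Steps.bwd (nat_lit 3) (Steps.fwd (nat_lit 16384) (Steps.bwd (nat_lit 3) (Steps.fwd (nat_lit 16384) Steps.nil)))) (nat_lit 2) (nat_lit 0),
  Rule.mk (nat_lit 11) (nat_lit 117) (Steps.bwd (nat_lit 3) (Steps.fwd (nat_lit 49152) (Steps.bwd (nat_lit 11) (Steps.bwd (nat_lit 14) (Steps.bwd (nat_lit 8) (Steps.bwd (nat_lit 8) (Steps.fwd (nat_lit 12288) Steps.nil))))))) (nat_lit 52) (nat_lit 2),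
  Rule.mk (nat_lit 7) (nat_lit 87) (Steps.fwd (nat_lit 61440) (Steps.bwd (nat_lit 16) (Steps.bwd (nat_lit 12) (Steps.bwd (nat_lit 8) (Steps.bwd (nat_lit 11) Steps.nil))))) (nat_lit 33) (nat_lit 0),
  Rule.mk (nat_lit 12) (nat_lit 117) (Steps.bwd (nat_lit 3) (Steps.bwd (nat_lit 7) (Steps.bwd (nat_lit 7) (Steps.fwd (nat_lit 57344) (Steps.fwd (nat_lit 45056) (Steps.fwd (nat_lit 45056) (Steps.fwd (nat_lit 12288) Steps.nil))))))) (nat_lit 53) (nat_lit 7),
  Rule.mk (nat_lit 10) (nat_lit 117) (Steps.bwd (nat_lit 3) (Steps.bwd (nat_lit 9) (Steps.fwd (nat_lit 49152) (Steps.fwd (nat_lit 53248) (Steps.bwd (nat_lit 8) (Steps.bwd (nat_lit 14) (Steps.bwd (nat_lit 4) Steps.nil))))))) (nat_lit 51) (nat_lit 7),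
  Rule.mk (nat_lit 15) (nat_lit 72) (Steps.bwd (nat_lit 12) (Steps.bwd (nat_lit 14) (Steps.fwd (nat_lit 49152) (Steps.bwd (nat_lit 13) Steps.nil)))) (nat_lit 40) (nat_lit 0),
  Rule.mk (nat_lit 2) (nat_lit 132) (Steps.bwd (nat_lit 13) (Steps.bwd (nat_lit 1) (Steps.bwd (nat_lit 14) (Steps.fwd (nat_lit 28672) (Steps.fwd (nat_lit 53248) (Steps.bwd (nat_lit 11) (Steps.bwd (nat_lit 9) (Steps.bwd (nat_lit 8) Steps.nil)))))))) (nat_lit 46) (nat_lit 1),
  Rule.mk (nat_lit 11) (nat_lit 72) (Steps.bwd (nat_lit 15) (Steps.bwd (nat_lit 10) (Steps.fwd (nat_lit 45056) (Steps.bwd (nat_lit 9) Steps.nil)))) (nat_lit 36) (nat_lit 4),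
  Rule.mk (nat_lit 8) (nat_lit 87) (Steps.bwd (nat_lit 13) (Steps.fwd (nat_lit 32768) (Steps.fwd (nat_lit 65536) (Steps.bwd (nat_lit 15) (Steps.bwd (nat_lit 14) Steps.nil))))) (nat_lit 35) (nat_lit 4),
  Rule.mk (nat_lit 14) (nat_lit 132) (Steps.bwd (nat_lit 11) (Steps.bwd (nat_lit 9) (Steps.bwd (nat_lit 8) (Steps.bwd (nat_lit 2) (Steps.fwd (nat_lit 57344) (Steps.fwd (nat_lit 8192) (Steps.bwd (nat_lit 14) (Steps.bwd (nat_lit 8) Steps.nil)))))))) (nat_lit 46) (nat_lit 6)]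
noncomputable def R_17 : List (Rule) := [Rule.mk (nat_lit 10) (nat_lit 72) (Steps.bwd (nat_lit 11) (Steps.bwd (nat_lit 9) (Steps.fwd (nat_lit 61440) (Steps.bwd (nat_lit 12) Steps.nil)))) (nat_lit 37) (nat_lit 3),
  Rule.mk (nat_lit 10) (nat_lit 57) (Steps.fwd (nat_lit 61440) (Steps.fwd (nat_lit 40960) (Steps.bwd (nat_lit 15) Steps.nil))) (nat_lit 26) (nat_lit 1),
  Rule.mk (nat_lit 11) (nat_lit 72) (Steps.bwd (nat_lit 15) (Steps.bwd (nat_lit 10) (Steps.bwd (nat_lit 12) (Steps.fwd (nat_lit 40960) Steps.nil)))) (nat_lit 36) (nat_lit 4),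
  Rule.mk (nat_lit 5) (nat_lit 57) (Steps.fwd (nat_lit 12288) (Steps.bwd (nat_lit 14) (Steps.bwd (nat_lit 3) Steps.nil))) (nat_lit 17) (nat_lit 2),
  Rule.mk (nat_lit 15) (nat_lit 57) (Steps.fwd (nat_lit 12288) (Steps.fwd (nat_lit 61440) (Steps.bwd (nat_lit 3) Steps.nil))) (nat_lit 55) (nat_lit 1),
  Rule.mk (nat_lit 1) (nat_lit 87) (Steps.bwd (nat_lit 4) (Steps.bwd (nat_lit 2) (Steps.bwd (nat_lit 2) (Steps.bwd (nat_lit 3) (Steps.fwd (nat_lit 8192) Steps.nil))))) (nat_lit 7) (nat_lit 0),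
  Rule.mk (nat_lit 9) (nat_lit 72) (Steps.bwd (nat_lit 1) (Steps.bwd (nat_lit 7) (Steps.fwd (nat_lit 32768) (Steps.bwd (nat_lit 2) Steps.nil)))) (nat_lit 42) (nat_lit 2),
  Rule.mk (nat_lit 3) (nat_lit 87) (Steps.bwd (nat_lit 1) (Steps.fwd (nat_lit 8192) (Steps.bwd (nat_lit 4) (Steps.fwd (nat_lit 4096) (Steps.fwd (nat_lit 4096) Steps.nil))))) (nat_lit 7) (nat_lit 4),
  Rule.mk (nat_lit 1) (nat_lit 57) (Steps.bwd (nat_lit 10) (Steps.fwd (nat_lit 4096) (Steps.fwd (nat_lit 24576) Steps.nil))) (nat_lit 13) (nat_lit 3),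
  Rule.mk (nat_lit 2) (nat_lit 87) (Steps.bwd (nat_lit 2) (Steps.fwd (nat_lit 12288) (Steps.bwd (nat_lit 1) (Steps.fwd (nat_lit 8192) (Steps.bwd (nat_lit 3) Steps.nil))))) (nat_lit 6) (nat_lit 1),
  Rule.mk (nat_lit 11) (nat_lit 102) (Steps.bwd (nat_lit 1) (Steps.fwd (nat_lit 53248) (Steps.bwd (nat_lit 8) (Steps.bwd (nat_lit 11) (Steps.fwd (nat_lit 49152) (Steps.bwd (nat_lit 2) Steps.nil)))))) (nat_lit 44) (nat_lit 2),
  Rule.mk (nat_lit 7) (nat_lit 72) (Steps.fwd (nat_lit 40960) (Steps.bwd (nat_lit 16) (Steps.bwd (nat_lit 8) (Steps.bwd (nat_lit 10) Steps.nil)))) (nat_lit 19) (nat_lit 3),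
  Rule.mk (nat_lit 1) (nat_lit 87) (Steps.bwd (nat_lit 1) (Steps.fwd (nat_lit 12288) (Steps.bwd (nat_lit 2) (Steps.fwd (nat_lit 4096) (Steps.bwd (nat_lit 3) Steps.nil))))) (nat_lit 7) (nat_lit 5),
  Rule.mk (nat_lit 3) (nat_lit 87) (Steps.bwd (nat_lit 1) (Steps.fwd (nat_lit 8192) (Steps.bwd (nat_lit 4) (Steps.fwd (nat_lit 4096) (Steps.bwd (nat_lit 2) Steps.nil))))) (nat_lit 7) (nat_lit 4),
  Rule.mk (nat_lit 10) (nat_lit 72) (Steps.bwd (nat_lit 12) (Steps.fwd (nat_lit 40960) (Steps.fwd (nat_lit 49152) (Steps.fwd (nat_lit 65536) Steps.nil)))) (nat_lit 36) (nat_lit 1),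
  Rule.mk (nat_lit 8) (nat_lit 72) (Steps.fwd (nat_lit 40960) (Steps.fwd (nat_lit 32768) (Steps.fwd (nat_lit 65536) (Steps.bwd (nat_lit 10) Steps.nil)))) (nat_lit 18) (nat_lit 3),
  Rule.mk (nat_lit 12) (nat_lit 117) (Steps.bwd (nat_lit 12) (Steps.bwd (nat_lit 4) (Steps.bwd (nat_lit 12) (Steps.fwd (nat_lit 16384) (Steps.bwd (nat_lit 7) (Steps.bwd (nat_lit 7) (Steps.bwd (nat_lit 13) Steps.nil))))))) (nat_lit 53) (nat_lit 4),
  Rule.mk (nat_lit 4) (nat_lit 72) (Steps.bwd (nat_lit 4) (Steps.fwd (nat_lit 12288) (Steps.fwd (nat_lit 12288) (Steps.fwd (nat_lit 12288) Steps.nil)))) (nat_lit 3) (nat_lit 0),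
  Rule.mk (nat_lit 12) (nat_lit 102) (Steps.fwd (nat_lit 8192) (Steps.fwd (nat_lit 45056) (Steps.fwd (nat_lit 45056) (Steps.fwd (nat_lit 32768) (Steps.bwd (nat_lit 13) (Steps.bwd (nat_lit 2) Steps.nil)))))) (nat_lit 45) (nat_lit 6),
  Rule.mk (nat_lit 2) (nat_lit 87) (Steps.bwd (nat_lit 2) (Steps.bwd (nat_lit 4) (Steps.bwd (nat_lit 1) (Steps.fwd (nat_lit 8192) (Steps.bwd (nat_lit 3) Steps.nil))))) (nat_lit 6) (nat_lit 1),
  Rule.mk (nat_lit 4) (nat_lit 87) (Steps.bwd (nat_lit 2) (Steps.bwd (nat_lit 2) (Steps.bwd (nat_lit 3) (Steps.fwd (nat_lit 8192) (Steps.bwd (nat_lit 1) Steps.nil))))) (nat_lit 7) (nat_lit 1),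
  Rule.mk (nat_lit 11) (nat_lit 87) (Steps.bwd (nat_lit 7) (Steps.bwd (nat_lit 16) (Steps.bwd (nat_lit 16) (Steps.fwd (nat_lit 45056) (Steps.bwd (nat_lit 8) Steps.nil))))) (nat_lit 33) (nat_lit 5),
  Rule.mk (nat_lit 7) (nat_lit 72) (Steps.fwd (nat_lit 32768) (Steps.bwd (nat_lit 7) (Steps.fwd (nat_lit 32768) (Steps.bwd (nat_lit 7) Steps.nil)))) (nat_lit 20) (nat_lit 0),
  Rule.mk (nat_lit 3) (nat_lit 117) (Steps.bwd (nat_lit 7) (Steps.fwd (nat_lit 32768) (Steps.fwd (nat_lit 57344) (Steps.bwd (nat_lit 12) (Steps.fwd (nat_lit 45056) (Steps.fwd (nat_lit 12288) (Steps.bwd (nat_lit 12) Steps.nil))))))) (nat_lit 53) (nat_lit 0),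
  Rule.mk (nat_lit 10) (nat_lit 117) (Steps.bwd (nat_lit 3) (Steps.bwd (nat_lit 9) (Steps.bwd (nat_lit 11) (Steps.bwd (nat_lit 14) (Steps.fwd (nat_lit 28672) (Steps.bwd (nat_lit 14) (Steps.bwd (nat_lit 4) Steps.nil))))))) (nat_lit 51) (nat_lit 7),
  Rule.mk (nat_lit 15) (nat_lit 57) (Steps.fwd (nat_lit 49152) (Steps.fwd (nat_lit 61440) (Steps.bwd (nat_lit 12) Steps.nil))) (nat_lit 29) (nat_lit 3),
  Rule.mk (nat_lit 8) (nat_lit 87) (Steps.bwd (nat_lit 11) (Steps.fwd (nat_lit 32768) (Steps.fwd (nat_lit 61440) (Steps.fwd (nat_lit 61440) (Steps.bwd (nat_lit 12) Steps.nil))))) (nat_lit 33) (nat_lit 4),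
  Rule.mk (nat_lit 3) (nat_lit 117) (Steps.fwd (nat_lit 32768) (Steps.bwd (nat_lit 7) (Steps.fwd (nat_lit 57344) (Steps.fwd (nat_lit 45056) (Steps.bwd (nat_lit 12) (Steps.bwd (nat_lit 4) (Steps.bwd (nat_lit 12) Steps.nil))))))) (nat_lit 53) (nat_lit 0),
  Rule.mk (nat_lit 12) (nat_lit 72) (Steps.bwd (nat_lit 13) (Steps.fwd (nat_lit 49152) (Steps.fwd (nat_lit 61440) (Steps.fwd (nat_lit 53248) Steps.nil)))) (nat_lit 41) (nat_lit 3),
  Rule.mk (nat_lit 11) (nat_lit 72) (Steps.bwd (nat_lit 13) (Steps.bwd (nat_lit 15) (Steps.fwd (nat_lit 45056) (Steps.bwd (nat_lit 14) Steps.nil)))) (nat_lit 40) (nat_lit 3),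
  Rule.mk (nat_lit 1) (nat_lit 102) (Steps.bwd (nat_lit 14) (Steps.fwd (nat_lit 28672) (Steps.fwd (nat_lit 49152) (Steps.bwd (nat_lit 11) (Steps.fwd (nat_lit 4096) (Steps.bwd (nat_lit 11) Steps.nil)))))) (nat_lit 44) (nat_lit 3),
  Rule.mk (nat_lit 3) (nat_lit 87) (Steps.bwd (nat_lit 2) (Steps.fwd (nat_lit 4096) (Steps.bwd (nat_lit 4) (Steps.fwd (nat_lit 8192) (Steps.fwd (nat_lit 8192) Steps.nil))))) (nat_lit 6) (nat_lit 0),
  Rule.mk (nat_lit 3) (nat_lit 117) (Steps.fwd (nat_lit 57344) (Steps.fwd (nat_lit 32768) (Steps.fwd (nat_lit 57344) (Steps.bwd (nat_lit 12) (Steps.bwd (nat_lit 10) (Steps.bwd (nat_lit 4) (Steps.bwd (nat_lit 9) Steps.nil))))))) (nat_lit 50) (nat_lit 3),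
  Rule.mk (nat_lit 7) (nat_lit 102) (Steps.bwd (nat_lit 13) (Steps.bwd (nat_lit 2) (Steps.fwd (nat_lit 45056) (Steps.fwd (nat_lit 8192) (Steps.fwd (nat_lit 45056) (Steps.fwd (nat_lit 45056) Steps.nil)))))) (nat_lit 45) (nat_lit 3),
  Rule.mk (nat_lit 7) (nat_lit 72) (Steps.fwd (nat_lit 32768) (Steps.fwd (nat_lit 32768) (Steps.bwd (nat_lit 7) (Steps.bwd (nat_lit 7) Steps.nil)))) (nat_lit 20) (nat_lit 0),
  Rule.mk (nat_lit 13) (nat_lit 57) (Steps.bwd (nat_lit 3) (Steps.fwd (nat_lit 20480) (Steps.bwd (nat_lit 4) Steps.nil))) (nat_lit 16) (nat_lit 1),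
  Rule.mk (nat_lit 3) (nat_lit 72) (Steps.bwd (nat_lit 3) (Steps.fwd (nat_lit 16384) (Steps.fwd (nat_lit 16384) (Steps.bwd (nat_lit 3) Steps.nil)))) (nat_lit 2) (nat_lit 0),
  Rule.mk (nat_lit 1) (nat_lit 72) (Steps.bwd (nat_lit 8) (Steps.bwd (nat_lit 8) (Steps.fwd (nat_lit 4096) (Steps.bwd (nat_lit 10) Steps.nil)))) (nat_lit 43) (nat_lit 0),
  Rule.mk (nat_lit 12) (nat_lit 87) (Steps.bwd (nat_lit 8) (Steps.fwd (nat_lit 49152) (Steps.bwd (nat_lit 7) (Steps.fwd (nat_lit 61440) (Steps.bwd (nat_lit 16) Steps.nil))))) (nat_lit 33) (nat_lit 3),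
  Rule.mk (nat_lit 16) (nat_lit 87) (Steps.bwd (nat_lit 8) (Steps.fwd (nat_lit 53248) (Steps.bwd (nat_lit 7) (Steps.bwd (nat_lit 13) (Steps.fwd (nat_lit 61440) Steps.nil))))) (nat_lit 34) (nat_lit 0),
  Rule.mk (nat_lit 1) (nat_lit 72) (Steps.fwd (nat_lit 61440) (Steps.bwd (nat_lit 16) (Steps.fwd (nat_lit 4096) (Steps.fwd (nat_lit 65536) Steps.nil)))) (nat_lit 48) (nat_lit 3),
  Rule.mk (nat_lit 2) (nat_lit 72) (Steps.bwd (nat_lit 16) (Steps.bwd (nat_lit 1) (Steps.bwd (nat_lit 15) (Steps.fwd (nat_lit 65536) Steps.nil)))) (nat_lit 49) (nat_lit 3),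
  Rule.mk (nat_lit 9) (nat_lit 72) (Steps.bwd (nat_lit 11) (Steps.fwd (nat_lit 65536) (Steps.fwd (nat_lit 36864) (Steps.bwd (nat_lit 12) Steps.nil)))) (nat_lit 36) (nat_lit 3),
  Rule.mk (nat_lit 1) (nat_lit 87) (Steps.fwd (nat_lit 16384) (Steps.bwd (nat_lit 2) (Steps.fwd (nat_lit 4096) (Steps.fwd (nat_lit 12288) (Steps.bwd (nat_lit 1) Steps.nil))))) (nat_lit 6) (nat_lit 5),
  Rule.mk (nat_lit 8) (nat_lit 72) (Steps.fwd (nat_lit 40960) (Steps.fwd (nat_lit 32768) (Steps.bwd (nat_lit 15) (Steps.fwd (nat_lit 36864) Steps.nil)))) (nat_lit 18) (nat_lit 3),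
  Rule.mk (nat_lit 11) (nat_lit 72) (Steps.bwd (nat_lit 9) (Steps.bwd (nat_lit 16) (Steps.fwd (nat_lit 45056) (Steps.bwd (nat_lit 10) Steps.nil)))) (nat_lit 37) (nat_lit 4),
  Rule.mk (nat_lit 15) (nat_lit 72) (Steps.bwd (nat_lit 10) (Steps.fwd (nat_lit 45056) (Steps.bwd (nat_lit 9) (Steps.bwd (nat_lit 11) Steps.nil)))) (nat_lit 36) (nat_lit 0),
  Rule.mk (nat_lit 1) (nat_lit 72) (Steps.fwd (nat_lit 32768) (Steps.fwd (nat_lit 32768) (Steps.bwd (nat_lit 2) (Steps.bwd (nat_lit 9) Steps.nil)))) (nat_lit 42) (nat_lit 3),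
  Rule.mk (nat_lit 14) (nat_lit 57) (Steps.bwd (nat_lit 3) (Steps.fwd (nat_lit 24576) (Steps.fwd (nat_lit 12288) Steps.nil))) (nat_lit 17) (nat_lit 0),
  Rule.mk (nat_lit 7) (nat_lit 87) (Steps.bwd (nat_lit 11) (Steps.bwd (nat_lit 15) (Steps.fwd (nat_lit 65536) (Steps.bwd (nat_lit 8) (Steps.fwd (nat_lit 45056) Steps.nil))))) (nat_lit 32) (nat_lit 3),
  Rule.mk (nat_lit 14) (nat_lit 72) (Steps.fwd (nat_lit 49152) (Steps.bwd (nat_lit 13) (Steps.fwd (nat_lit 65536) (Steps.bwd (nat_lit 12) Steps.nil)))) (nat_lit 40) (nat_lit 2),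
  Rule.mk (nat_lit 8) (nat_lit 87) (Steps.bwd (nat_lit 14) (Steps.fwd (nat_lit 32768) (Steps.fwd (nat_lit 57344) (Steps.bwd (nat_lit 16) (Steps.fwd (nat_lit 61440) Steps.nil))))) (nat_lit 34) (nat_lit 1),
  Rule.mk (nat_lit 13) (nat_lit 87) (Steps.fwd (nat_lit 32768) (Steps.fwd (nat_lit 65536) (Steps.fwd (nat_lit 65536) (Steps.bwd (nat_lit 14) (Steps.bwd (nat_lit 8) Steps.nil))))) (nat_lit 35) (nat_lit 5),
  Rule.mk (nat_lit 6) (nat_lit 57) (Steps.fwd (nat_lit 16384) (Steps.fwd (nat_lit 49152) (Steps.bwd (nat_lit 4) Steps.nil))) (nat_lit 14) (nat_lit 3),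
  Rule.mk (nat_lit 4) (nat_lit 72) (Steps.bwd (nat_lit 4) (Steps.bwd (nat_lit 4) (Steps.fwd (nat_lit 12288) (Steps.fwd (nat_lit 12288) Steps.nil)))) (nat_lit 3) (nat_lit 0),
  Rule.mk (nat_lit 13) (nat_lit 72) (Steps.bwd (nat_lit 15) (Steps.fwd (nat_lit 45056) (Steps.fwd (nat_lit 53248) (Steps.bwd (nat_lit 11) Steps.nil)))) (nat_lit 40) (nat_lit 4),
  Rule.mk (nat_lit 4) (nat_lit 117) (Steps.bwd (nat_lit 9) (Steps.fwd (nat_lit 16384) (Steps.bwd (nat_lit 13) (Steps.fwd (nat_lit 32768) (Steps.fwd (nat_lit 57344) (Steps.fwd (nat_lit 45056) (Steps.bwd (nat_lit 10) Steps.nil))))))) (nat_lit 50) (nat_lit 1),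
  Rule.mk (nat_lit 12) (nat_lit 72) (Steps.bwd (nat_lit 10) (Steps.fwd (nat_lit 49152) (Steps.bwd (nat_lit 9) (Steps.bwd (nat_lit 16) Steps.nil)))) (nat_lit 37) (nat_lit 2),
  Rule.mk (nat_lit 1) (nat_lit 102) (Steps.bwd (nat_lit 12) (Steps.bwd (nat_lit 12) (Steps.fwd (nat_lit 32768) (Steps.fwd (nat_lit 57344) (Steps.fwd (nat_lit 4096) (Steps.bwd (nat_lit 12) Steps.nil)))))) (nat_lit 45) (nat_lit 0),
  Rule.mk (nat_lit 11) (nat_lit 87) (Steps.bwd (nat_lit 7) (Steps.fwd (nat_lit 61440) (Steps.fwd (nat_lit 61440) (Steps.bwd (nat_lit 12) (Steps.fwd (nat_lit 28672) Steps.nil))))) (nat_lit 33) (nat_lit 5),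
  Rule.mk (nat_lit 3) (nat_lit 117) (Steps.bwd (nat_lit 7) (Steps.bwd (nat_lit 7) (Steps.bwd (nat_lit 13) (Steps.fwd (nat_lit 45056) (Steps.fwd (nat_lit 45056) (Steps.fwd (nat_lit 12288) (Steps.bwd (nat_lit 12) Steps.nil))))))) (nat_lit 53) (nat_lit 0),
  Rule.mk (nat_lit 16) (nat_lit 57) (Steps.bwd (nat_lit 12) (Steps.fwd (nat_lit 65536) (Steps.fwd (nat_lit 49152) Steps.nil))) (nat_lit 29) (nat_lit 1),
  Rule.mk (nat_lit 10) (nat_lit 72) (Steps.bwd (nat_lit 12) (Steps.fwd (nat_lit 40960) (Steps.fwd (nat_lit 49152) (Steps.bwd (nat_lit 15) Steps.nil)))) (nat_lit 36) (nat_lit 1),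
  Rule.mk (nat_lit 8) (nat_lit 72) (Steps.fwd (nat_lit 40960) (Steps.bwd (nat_lit 7) (Steps.bwd (nat_lit 15) (Steps.bwd (nat_lit 10) Steps.nil)))) (nat_lit 18) (nat_lit 3)]
noncomputable def R_18 : List (Rule) := [Rule.mk (nat_lit 12) (nat_lit 72) (Steps.fwd (nat_lit 57344) (Steps.fwd (nat_lit 49152) (Steps.bwd (nat_lit 16) (Steps.bwd (nat_lit 14) Steps.nil)))) (nat_lit 41) (nat_lit 3),
  Rule.mk (nat_lit 13) (nat_lit 72) (Steps.bwd (nat_lit 15) (Steps.bwd (nat_lit 12) (Steps.bwd (nat_lit 14) (Steps.bwd (nat_lit 11) Steps.nil)))) (nat_lit 40) (nat_lit 4),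
  Rule.mk (nat_lit 12) (nat_lit 117) (Steps.fwd (nat_lit 16384) (Steps.bwd (nat_lit 7) (Steps.bwd (nat_lit 7) (Steps.bwd (nat_lit 13) (Steps.bwd (nat_lit 12) (Steps.fwd (nat_lit 45056) (Steps.bwd (nat_lit 4) Steps.nil))))))) (nat_lit 53) (nat_lit 7),
  Rule.mk (nat_lit 8) (nat_lit 87) (Steps.bwd (nat_lit 14) (Steps.fwd (nat_lit 32768) (Steps.bwd (nat_lit 13) (Steps.fwd (nat_lit 61440) (Steps.fwd (nat_lit 61440) Steps.nil))))) (nat_lit 34) (nat_lit 1),
  Rule.mk (nat_lit 15) (nat_lit 87) (Steps.bwd (nat_lit 14) (Steps.fwd (nat_lit 28672) (Steps.bwd (nat_lit 13) (Steps.bwd (nat_lit 7) (Steps.bwd (nat_lit 15) Steps.nil))))) (nat_lit 35) (nat_lit 2),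
  Rule.mk (nat_lit 12) (nat_lit 117) (Steps.bwd (nat_lit 3) (Steps.fwd (nat_lit 32768) (Steps.bwd (nat_lit 7) (Steps.bwd (nat_lit 13) (Steps.bwd (nat_lit 12) (Steps.bwd (nat_lit 12) (Steps.bwd (nat_lit 4) Steps.nil))))))) (nat_lit 53) (nat_lit 7),
  Rule.mk (nat_lit 0) (nat_lit 117) (Steps.bwd (nat_lit 2) (Steps.bwd (nat_lit 12) (Steps.fwd (nat_lit 8192) (Steps.fwd (nat_lit 45056) (Steps.fwd (nat_lit 45056) (Steps.fwd (nat_lit 32768) (Steps.fwd (nat_lit 57344) Steps.nil))))))) (nat_lit 45) (nat_lit 4),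
  Rule.mk (nat_lit 1) (nat_lit 42) (Steps.bwd (nat_lit 0) (Steps.bwd (nat_lit 2) Steps.nil)) (nat_lit 88) (nat_lit 0),
  Rule.mk (nat_lit 0) (nat_lit 57) (Steps.bwd (nat_lit 6) (Steps.bwd (nat_lit 0) (Steps.bwd (nat_lit 5) Steps.nil))) (nat_lit 88) (nat_lit 0),
  Rule.mk (nat_lit 12) (nat_lit 42) (Steps.bwd (nat_lit 0) (Steps.bwd (nat_lit 11) Steps.nil)) (nat_lit 88) (nat_lit 0),
  Rule.mk (nat_lit 13) (nat_lit 87) (Steps.fwd (nat_lit 61440) (Steps.bwd (nat_lit 16) (Steps.bwd (nat_lit 8) (Steps.bwd (nat_lit 14) (Steps.fwd (nat_lit 32768) Steps.nil))))) (nat_lit 34) (nat_lit 4),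
  Rule.mk (nat_lit 4) (nat_lit 117) (Steps.bwd (nat_lit 11) (Steps.fwd (nat_lit 16384) (Steps.bwd (nat_lit 11) (Steps.fwd (nat_lit 49152) (Steps.bwd (nat_lit 14) (Steps.fwd (nat_lit 28672) (Steps.fwd (nat_lit 28672) Steps.nil))))))) (nat_lit 52) (nat_lit 1),
  Rule.mk (nat_lit 14) (nat_lit 57) (Steps.fwd (nat_lit 16384) (Steps.bwd (nat_lit 5) (Steps.bwd (nat_lit 4) Steps.nil))) (nat_lit 17) (nat_lit 0),
  Rule.mk (nat_lit 7) (nat_lit 87) (Steps.bwd (nat_lit 13) (Steps.bwd (nat_lit 16) (Steps.bwd (nat_lit 16) (Steps.fwd (nat_lit 28672) (Steps.bwd (nat_lit 14) Steps.nil))))) (nat_lit 34) (nat_lit 3),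
  Rule.mk (nat_lit 14) (nat_lit 72) (Steps.fwd (nat_lit 49152) (Steps.fwd (nat_lit 57344) (Steps.fwd (nat_lit 65536) (Steps.bwd (nat_lit 12) Steps.nil)))) (nat_lit 40) (nat_lit 2),
  Rule.mk (nat_lit 14) (nat_lit 72) (Steps.bwd (nat_lit 12) (Steps.bwd (nat_lit 13) (Steps.fwd (nat_lit 49152) (Steps.bwd (nat_lit 16) Steps.nil)))) (nat_lit 41) (nat_lit 2),
  Rule.mk (nat_lit 11) (nat_lit 117) (Steps.fwd (nat_lit 49152) (Steps.bwd (nat_lit 14) (Steps.bwd (nat_lit 8) (Steps.fwd (nat_lit 28672) (Steps.fwd (nat_lit 12288) (Steps.fwd (nat_lit 49152) (Steps.bwd (nat_lit 3) Steps.nil))))))) (nat_lit 52) (nat_lit 4),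
  Rule.mk (nat_lit 8) (nat_lit 87) (Steps.bwd (nat_lit 11) (Steps.bwd (nat_lit 7) (Steps.fwd (nat_lit 61440) (Steps.fwd (nat_lit 61440) (Steps.fwd (nat_lit 45056) Steps.nil))))) (nat_lit 33) (nat_lit 4),
  Rule.mk (nat_lit 12) (nat_lit 117) (Steps.bwd (nat_lit 12) (Steps.fwd (nat_lit 12288) (Steps.bwd (nat_lit 12) (Steps.bwd (nat_lit 3) (Steps.fwd (nat_lit 32768) (Steps.bwd (nat_lit 7) (Steps.bwd (nat_lit 13) Steps.nil))))))) (nat_lit 53) (nat_lit 4),
  Rule.mk (nat_lit 3) (nat_lit 117) (Steps.fwd (nat_lit 32768) (Steps.fwd (nat_lit 32768) (Steps.fwd (nat_lit 57344) (Steps.fwd (nat_lit 45056) (Steps.bwd (nat_lit 12) (Steps.fwd (nat_lit 12288) (Steps.bwd (nat_lit 12) Steps.nil))))))) (nat_lit 53) (nat_lit 0),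
  Rule.mk (nat_lit 2) (nat_lit 102) (Steps.bwd (nat_lit 11) (Steps.fwd (nat_lit 8192) (Steps.fwd (nat_lit 53248) (Steps.fwd (nat_lit 28672) (Steps.bwd (nat_lit 11) (Steps.fwd (nat_lit 49152) Steps.nil)))))) (nat_lit 44) (nat_lit 1),
  Rule.mk (nat_lit 15) (nat_lit 72) (Steps.bwd (nat_lit 12) (Steps.fwd (nat_lit 53248) (Steps.bwd (nat_lit 11) (Steps.bwd (nat_lit 13) Steps.nil)))) (nat_lit 40) (nat_lit 0),
  Rule.mk (nat_lit 2) (nat_lit 132) (Steps.bwd (nat_lit 13) (Steps.fwd (nat_lit 8192) (Steps.bwd (nat_lit 14) (Steps.fwd (nat_lit 28672) (Steps.bwd (nat_lit 14) (Steps.fwd (nat_lit 49152) (Steps.bwd (nat_lit 9) (Steps.bwd (nat_lit 8) Steps.nil)))))))) (nat_lit 46) (nat_lit 1),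
  Rule.mk (nat_lit 11) (nat_lit 87) (Steps.bwd (nat_lit 7) (Steps.fwd (nat_lit 61440) (Steps.fwd (nat_lit 61440) (Steps.fwd (nat_lit 45056) (Steps.bwd (nat_lit 8) Steps.nil))))) (nat_lit 33) (nat_lit 5),
  Rule.mk (nat_lit 10) (nat_lit 72) (Steps.fwd (nat_lit 49152) (Steps.fwd (nat_lit 40960) (Steps.fwd (nat_lit 61440) (Steps.bwd (nat_lit 12) Steps.nil)))) (nat_lit 37) (nat_lit 3),
  Rule.mk (nat_lit 4) (nat_lit 57) (Steps.fwd (nat_lit 24576) (Steps.fwd (nat_lit 16384) (Steps.bwd (nat_lit 12) Steps.nil))) (nat_lit 15) (nat_lit 1),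
  Rule.mk (nat_lit 2) (nat_lit 57) (Steps.bwd (nat_lit 6) (Steps.fwd (nat_lit 8192) (Steps.fwd (nat_lit 40960) Steps.nil))) (nat_lit 12) (nat_lit 2),
  Rule.mk (nat_lit 16) (nat_lit 57) (Steps.fwd (nat_lit 16384) (Steps.fwd (nat_lit 65536) (Steps.bwd (nat_lit 4) Steps.nil))) (nat_lit 55) (nat_lit 3),
  Rule.mk (nat_lit 13) (nat_lit 72) (Steps.bwd (nat_lit 11) (Steps.bwd (nat_lit 16) (Steps.fwd (nat_lit 53248) (Steps.fwd (nat_lit 45056) Steps.nil)))) (nat_lit 41) (nat_lit 4),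
  Rule.mk (nat_lit 4) (nat_lit 57) (Steps.bwd (nat_lit 6) (Steps.fwd (nat_lit 16384) (Steps.fwd (nat_lit 49152) Steps.nil))) (nat_lit 14) (nat_lit 2),
  Rule.mk (nat_lit 3) (nat_lit 72) (Steps.bwd (nat_lit 3) (Steps.fwd (nat_lit 16384) (Steps.fwd (nat_lit 16384) (Steps.fwd (nat_lit 16384) Steps.nil)))) (nat_lit 2) (nat_lit 0),
  Rule.mk (nat_lit 11) (nat_lit 117) (Steps.bwd (nat_lit 3) (Steps.bwd (nat_lit 11) (Steps.bwd (nat_lit 11) (Steps.fwd (nat_lit 53248) (Steps.fwd (nat_lit 28672) (Steps.bwd (nat_lit 8) (Steps.bwd (nat_lit 4) Steps.nil))))))) (nat_lit 52) (nat_lit 2),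
  Rule.mk (nat_lit 16) (nat_lit 57) (Steps.bwd (nat_lit 3) (Steps.bwd (nat_lit 15) (Steps.fwd (nat_lit 12288) Steps.nil))) (nat_lit 55) (nat_lit 3),
  Rule.mk (nat_lit 2) (nat_lit 87) (Steps.bwd (nat_lit 3) (Steps.fwd (nat_lit 8192) (Steps.fwd (nat_lit 8192) (Steps.fwd (nat_lit 12288) (Steps.bwd (nat_lit 2) Steps.nil))))) (nat_lit 7) (nat_lit 3),
  Rule.mk (nat_lit 11) (nat_lit 117) (Steps.bwd (nat_lit 3) (Steps.bwd (nat_lit 11) (Steps.fwd (nat_lit 49152) (Steps.bwd (nat_lit 14) (Steps.bwd (nat_lit 8) (Steps.fwd (nat_lit 28672) (Steps.fwd (nat_lit 12288) Steps.nil))))))) (nat_lit 52) (nat_lit 2),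
  Rule.mk (nat_lit 11) (nat_lit 117) (Steps.bwd (nat_lit 3) (Steps.fwd (nat_lit 49152) (Steps.fwd (nat_lit 49152) (Steps.bwd (nat_lit 14) (Steps.bwd (nat_lit 8) (Steps.bwd (nat_lit 8) (Steps.bwd (nat_lit 4) Steps.nil))))))) (nat_lit 52) (nat_lit 2),
  Rule.mk (nat_lit 1) (nat_lit 102) (Steps.bwd (nat_lit 12) (Steps.fwd (nat_lit 45056) (Steps.bwd (nat_lit 7) (Steps.bwd (nat_lit 13) (Steps.fwd (nat_lit 4096) (Steps.fwd (nat_lit 45056) Steps.nil)))))) (nat_lit 45) (nat_lit 0),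
  Rule.mk (nat_lit 12) (nat_lit 72) (Steps.bwd (nat_lit 13) (Steps.bwd (nat_lit 11) (Steps.fwd (nat_lit 61440) (Steps.fwd (nat_lit 53248) Steps.nil)))) (nat_lit 41) (nat_lit 3),
  Rule.mk (nat_lit 7) (nat_lit 87) (Steps.bwd (nat_lit 13) (Steps.bwd (nat_lit 16) (Steps.fwd (nat_lit 61440) (Steps.bwd (nat_lit 8) (Steps.bwd (nat_lit 14) Steps.nil))))) (nat_lit 34) (nat_lit 3),
  Rule.mk (nat_lit 16) (nat_lit 72) (Steps.bwd (nat_lit 1) (Steps.bwd (nat_lit 15) (Steps.bwd (nat_lit 15) (Steps.fwd (nat_lit 4096) Steps.nil)))) (nat_lit 49) (nat_lit 4),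
  Rule.mk (nat_lit 2) (nat_lit 87) (Steps.bwd (nat_lit 4) (Steps.bwd (nat_lit 1) (Steps.fwd (nat_lit 8192) (Steps.fwd (nat_lit 16384) (Steps.bwd (nat_lit 2) Steps.nil))))) (nat_lit 6) (nat_lit 2),
  Rule.mk (nat_lit 2) (nat_lit 102) (Steps.bwd (nat_lit 11) (Steps.bwd (nat_lit 1) (Steps.fwd (nat_lit 53248) (Steps.bwd (nat_lit 8) (Steps.bwd (nat_lit 11) (Steps.bwd (nat_lit 11) Steps.nil)))))) (nat_lit 44) (nat_lit 1),
  Rule.mk (nat_lit 1) (nat_lit 102) (Steps.bwd (nat_lit 12) (Steps.fwd (nat_lit 45056) (Steps.fwd (nat_lit 32768) (Steps.bwd (nat_lit 13) (Steps.fwd (nat_lit 4096) (Steps.fwd (nat_lit 45056) Steps.nil)))))) (nat_lit 45) (nat_lit 0),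
  Rule.mk (nat_lit 8) (nat_lit 117) (Steps.bwd (nat_lit 14) (Steps.fwd (nat_lit 12288) (Steps.bwd (nat_lit 10) (Steps.bwd (nat_lit 3) (Steps.fwd (nat_lit 40960) (Steps.fwd (nat_lit 49152) (Steps.fwd (nat_lit 53248) Steps.nil))))))) (nat_lit 51) (nat_lit 4),
  Rule.mk (nat_lit 12) (nat_lit 102) (Steps.fwd (nat_lit 32768) (Steps.fwd (nat_lit 57344) (Steps.fwd (nat_lit 4096) (Steps.fwd (nat_lit 45056) (Steps.fwd (nat_lit 8192) (Steps.bwd (nat_lit 12) Steps.nil)))))) (nat_lit 45) (nat_lit 2),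
  Rule.mk (nat_lit 11) (nat_lit 72) (Steps.bwd (nat_lit 15) (Steps.bwd (nat_lit 10) (Steps.bwd (nat_lit 12) (Steps.bwd (nat_lit 9) Steps.nil)))) (nat_lit 36) (nat_lit 4),
  Rule.mk (nat_lit 13) (nat_lit 87) (Steps.bwd (nat_lit 7) (Steps.bwd (nat_lit 15) (Steps.fwd (nat_lit 65536) (Steps.fwd (nat_lit 53248) (Steps.fwd (nat_lit 28672) Steps.nil))))) (nat_lit 35) (nat_lit 5),
  Rule.mk (nat_lit 11) (nat_lit 117) (Steps.bwd (nat_lit 14) (Steps.fwd (nat_lit 28672) (Steps.bwd (nat_lit 14) (Steps.bwd (nat_lit 4) (Steps.fwd (nat_lit 36864) (Steps.fwd (nat_lit 16384) (Steps.fwd (nat_lit 40960) Steps.nil))))))) (nat_lit 51) (nat_lit 2),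
  Rule.mk (nat_lit 7) (nat_lit 87) (Steps.bwd (nat_lit 11) (Steps.fwd (nat_lit 65536) (Steps.bwd (nat_lit 15) (Steps.bwd (nat_lit 8) (Steps.bwd (nat_lit 12) Steps.nil))))) (nat_lit 32) (nat_lit 3),
  Rule.mk (nat_lit 11) (nat_lit 87) (Steps.fwd (nat_lit 32768) (Steps.bwd (nat_lit 16) (Steps.bwd (nat_lit 16) (Steps.bwd (nat_lit 12) (Steps.fwd (nat_lit 28672) Steps.nil))))) (nat_lit 33) (nat_lit 5),
  Rule.mk (nat_lit 10) (nat_lit 117) (Steps.bwd (nat_lit 3) (Steps.bwd (nat_lit 9) (Steps.fwd (nat_lit 49152) (Steps.bwd (nat_lit 14) (Steps.fwd (nat_lit 28672) (Steps.bwd (nat_lit 14) (Steps.fwd (nat_lit 12288) Steps.nil))))))) (nat_lit 51) (nat_lit 7),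
  Rule.mk (nat_lit 9) (nat_lit 117) (Steps.bwd (nat_lit 11) (Steps.bwd (nat_lit 14) (Steps.bwd (nat_lit 8) (Steps.bwd (nat_lit 14) (Steps.bwd (nat_lit 4) (Steps.fwd (nat_lit 36864) (Steps.bwd (nat_lit 3) Steps.nil))))))) (nat_lit 51) (nat_lit 1),
  Rule.mk (nat_lit 1) (nat_lit 132) (Steps.bwd (nat_lit 7) (Steps.fwd (nat_lit 36864) (Steps.fwd (nat_lit 45056) (Steps.bwd (nat_lit 13) (Steps.bwd (nat_lit 7) (Steps.bwd (nat_lit 13) (Steps.bwd (nat_lit 2) (Steps.bwd (nat_lit 14) Steps.nil)))))))) (nat_lit 47) (nat_lit 0),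
  Rule.mk (nat_lit 4) (nat_lit 117) (Steps.bwd (nat_lit 9) (Steps.fwd (nat_lit 16384) (Steps.fwd (nat_lit 57344) (Steps.fwd (nat_lit 32768) (Steps.fwd (nat_lit 57344) (Steps.bwd (nat_lit 12) (Steps.bwd (nat_lit 10) Steps.nil))))))) (nat_lit 50) (nat_lit 1),
  Rule.mk (nat_lit 10) (nat_lit 72) (Steps.bwd (nat_lit 12) (Steps.fwd (nat_lit 40960) (Steps.bwd (nat_lit 11) (Steps.fwd (nat_lit 65536) Steps.nil)))) (nat_lit 36) (nat_lit 1),
  Rule.mk (nat_lit 13) (nat_lit 72) (Steps.bwd (nat_lit 11) (Steps.bwd (nat_lit 16) (Steps.bwd (nat_lit 14) (Steps.fwd (nat_lit 45056) Steps.nil)))) (nat_lit 41) (nat_lit 4),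
  Rule.mk (nat_lit 16) (nat_lit 87) (Steps.bwd (nat_lit 16) (Steps.fwd (nat_lit 28672) (Steps.bwd (nat_lit 14) (Steps.bwd (nat_lit 7) (Steps.bwd (nat_lit 13) Steps.nil))))) (nat_lit 34) (nat_lit 5),
  Rule.mk (nat_lit 14) (nat_lit 117) (Steps.bwd (nat_lit 4) (Steps.bwd (nat_lit 10) (Steps.fwd (nat_lit 16384) (Steps.bwd (nat_lit 9) (Steps.fwd (nat_lit 49152) (Steps.bwd (nat_lit 14) (Steps.bwd (nat_lit 8) Steps.nil))))))) (nat_lit 51) (nat_lit 5),
  Rule.mk (nat_lit 2) (nat_lit 102) (Steps.fwd (nat_lit 45056) (Steps.bwd (nat_lit 1) (Steps.fwd (nat_lit 45056) (Steps.bwd (nat_lit 12) (Steps.fwd (nat_lit 32768) (Steps.bwd (nat_lit 13) Steps.nil)))))) (nat_lit 45) (nat_lit 5),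
  Rule.mk (nat_lit 14) (nat_lit 72) (Steps.bwd (nat_lit 12) (Steps.fwd (nat_lit 57344) (Steps.bwd (nat_lit 11) (Steps.fwd (nat_lit 61440) Steps.nil)))) (nat_lit 41) (nat_lit 2),
  Rule.mk (nat_lit 16) (nat_lit 87) (Steps.bwd (nat_lit 12) (Steps.fwd (nat_lit 28672) (Steps.fwd (nat_lit 49152) (Steps.fwd (nat_lit 32768) (Steps.bwd (nat_lit 16) Steps.nil))))) (nat_lit 33) (nat_lit 2),
  Rule.mk (nat_lit 8) (nat_lit 117) (Steps.bwd (nat_lit 4) (Steps.bwd (nat_lit 11) (Steps.fwd (nat_lit 16384) (Steps.fwd (nat_lit 49152) (Steps.bwd (nat_lit 11) (Steps.fwd (nat_lit 53248) (Steps.bwd (nat_lit 8) Steps.nil))))))) (nat_lit 52) (nat_lit 0),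
  Rule.mk (nat_lit 13) (nat_lit 87) (Steps.fwd (nat_lit 32768) (Steps.fwd (nat_lit 65536) (Steps.fwd (nat_lit 65536) (Steps.fwd (nat_lit 53248) (Steps.bwd (nat_lit 8) Steps.nil))))) (nat_lit 35) (nat_lit 5),
  Rule.mk (nat_lit 4) (nat_lit 87) (Steps.bwd (nat_lit 2) (Steps.fwd (nat_lit 4096) (Steps.bwd (nat_lit 3) (Steps.fwd (nat_lit 8192) (Steps.bwd (nat_lit 1) Steps.nil))))) (nat_lit 7) (nat_lit 1)]
noncomputable def R_19 : List (Rule) := [Rule.mk (nat_lit 12) (nat_lit 102) (Steps.fwd (nat_lit 8192) (Steps.bwd (nat_lit 12) (Steps.fwd (nat_lit 45056) (Steps.bwd (nat_lit 7) (Steps.bwd (nat_lit 13) (Steps.bwd (nat_lit 2) Steps.nil)))))) (nat_lit 45) (nat_lit 6),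
  Rule.mk (nat_lit 8) (nat_lit 117) (Steps.bwd (nat_lit 4) (Steps.bwd (nat_lit 11) (Steps.bwd (nat_lit 3) (Steps.bwd (nat_lit 11) (Steps.fwd (nat_lit 49152) (Steps.fwd (nat_lit 53248) (Steps.bwd (nat_lit 8) Steps.nil))))))) (nat_lit 52) (nat_lit 0),
  Rule.mk (nat_lit 3) (nat_lit 57) (Steps.fwd (nat_lit 24576) (Steps.fwd (nat_lit 12288) (Steps.bwd (nat_lit 14) Steps.nil))) (nat_lit 17) (nat_lit 1),
  Rule.mk (nat_lit 12) (nat_lit 72) (Steps.bwd (nat_lit 13) (Steps.bwd (nat_lit 11) (Steps.bwd (nat_lit 16) (Steps.fwd (nat_lit 53248) Steps.nil)))) (nat_lit 41) (nat_lit 3),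
  Rule.mk (nat_lit 11) (nat_lit 102) (Steps.bwd (nat_lit 2) (Steps.bwd (nat_lit 11) (Steps.fwd (nat_lit 8192) (Steps.fwd (nat_lit 53248) (Steps.fwd (nat_lit 28672) (Steps.bwd (nat_lit 11) Steps.nil)))))) (nat_lit 44) (nat_lit 0),
  Rule.mk (nat_lit 13) (nat_lit 72) (Steps.bwd (nat_lit 15) (Steps.bwd (nat_lit 12) (Steps.fwd (nat_lit 53248) (Steps.bwd (nat_lit 11) Steps.nil)))) (nat_lit 40) (nat_lit 4),
  Rule.mk (nat_lit 7) (nat_lit 87) (Steps.bwd (nat_lit 16) (Steps.bwd (nat_lit 16) (Steps.bwd (nat_lit 12) (Steps.bwd (nat_lit 8) (Steps.bwd (nat_lit 11) Steps.nil))))) (nat_lit 33) (nat_lit 0),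
  Rule.mk (nat_lit 11) (nat_lit 102) (Steps.bwd (nat_lit 2) (Steps.bwd (nat_lit 11) (Steps.bwd (nat_lit 1) (Steps.bwd (nat_lit 14) (Steps.bwd (nat_lit 8) (Steps.bwd (nat_lit 11) Steps.nil)))))) (nat_lit 44) (nat_lit 0),
  Rule.mk (nat_lit 2) (nat_lit 72) (Steps.fwd (nat_lit 61440) (Steps.fwd (nat_lit 8192) (Steps.bwd (nat_lit 15) (Steps.fwd (nat_lit 65536) Steps.nil)))) (nat_lit 49) (nat_lit 3),
  Rule.mk (nat_lit 12) (nat_lit 72) (Steps.bwd (nat_lit 10) (Steps.bwd (nat_lit 11) (Steps.fwd (nat_lit 40960) (Steps.bwd (nat_lit 16) Steps.nil)))) (nat_lit 37) (nat_lit 2),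
  Rule.mk (nat_lit 2) (nat_lit 72) (Steps.bwd (nat_lit 10) (Steps.fwd (nat_lit 8192) (Steps.fwd (nat_lit 28672) (Steps.fwd (nat_lit 28672) Steps.nil)))) (nat_lit 43) (nat_lit 3),
  Rule.mk (nat_lit 7) (nat_lit 102) (Steps.fwd (nat_lit 57344) (Steps.bwd (nat_lit 2) (Steps.fwd (nat_lit 45056) (Steps.fwd (nat_lit 8192) (Steps.bwd (nat_lit 12) (Steps.bwd (nat_lit 12) Steps.nil)))))) (nat_lit 45) (nat_lit 3),
  Rule.mk (nat_lit 16) (nat_lit 72) (Steps.fwd (nat_lit 8192) (Steps.fwd (nat_lit 65536) (Steps.fwd (nat_lit 65536) (Steps.bwd (nat_lit 2) Steps.nil)))) (nat_lit 49) (nat_lit 4),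
  Rule.mk (nat_lit 2) (nat_lit 102) (Steps.bwd (nat_lit 12) (Steps.fwd (nat_lit 8192) (Steps.fwd (nat_lit 45056) (Steps.bwd (nat_lit 12) (Steps.fwd (nat_lit 32768) (Steps.bwd (nat_lit 13) Steps.nil)))))) (nat_lit 45) (nat_lit 5),
  Rule.mk (nat_lit 2) (nat_lit 87) (Steps.fwd (nat_lit 12288) (Steps.fwd (nat_lit 8192) (Steps.bwd (nat_lit 1) (Steps.fwd (nat_lit 16384) (Steps.bwd (nat_lit 2) Steps.nil))))) (nat_lit 6) (nat_lit 2),
  Rule.mk (nat_lit 12) (nat_lit 72) (Steps.fwd (nat_lit 40960) (Steps.fwd (nat_lit 49152) (Steps.fwd (nat_lit 65536) (Steps.bwd (nat_lit 10) Steps.nil)))) (nat_lit 36) (nat_lit 2),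
  Rule.mk (nat_lit 11) (nat_lit 72) (Steps.fwd (nat_lit 40960) (Steps.fwd (nat_lit 61440) (Steps.fwd (nat_lit 45056) (Steps.bwd (nat_lit 10) Steps.nil)))) (nat_lit 37) (nat_lit 4),
  Rule.mk (nat_lit 1) (nat_lit 87) (Steps.bwd (nat_lit 3) (Steps.bwd (nat_lit 2) (Steps.fwd (nat_lit 4096) (Steps.fwd (nat_lit 12288) (Steps.fwd (nat_lit 8192) Steps.nil))))) (nat_lit 6) (nat_lit 5),
  Rule.mk (nat_lit 2) (nat_lit 102) (Steps.bwd (nat_lit 11) (Steps.fwd (nat_lit 8192) (Steps.bwd (nat_lit 14) (Steps.fwd (nat_lit 28672) (Steps.fwd (nat_lit 49152) (Steps.bwd (nat_lit 11) Steps.nil)))))) (nat_lit 44) (nat_lit 1),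
  Rule.mk (nat_lit 2) (nat_lit 87) (Steps.bwd (nat_lit 3) (Steps.fwd (nat_lit 8192) (Steps.fwd (nat_lit 8192) (Steps.bwd (nat_lit 4) (Steps.bwd (nat_lit 2) Steps.nil))))) (nat_lit 7) (nat_lit 3),
  Rule.mk (nat_lit 9) (nat_lit 72) (Steps.bwd (nat_lit 16) (Steps.bwd (nat_lit 8) (Steps.fwd (nat_lit 36864) (Steps.fwd (nat_lit 32768) Steps.nil)))) (nat_lit 19) (nat_lit 4),
  Rule.mk (nat_lit 12) (nat_lit 72) (Steps.bwd (nat_lit 14) (Steps.bwd (nat_lit 11) (Steps.bwd (nat_lit 13) (Steps.fwd (nat_lit 65536) Steps.nil)))) (nat_lit 40) (nat_lit 1),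
  Rule.mk (nat_lit 2) (nat_lit 102) (Steps.bwd (nat_lit 11) (Steps.bwd (nat_lit 1) (Steps.bwd (nat_lit 14) (Steps.fwd (nat_lit 28672) (Steps.bwd (nat_lit 11) (Steps.fwd (nat_lit 49152) Steps.nil)))))) (nat_lit 44) (nat_lit 1),
  Rule.mk (nat_lit 2) (nat_lit 117) (Steps.fwd (nat_lit 4096) (Steps.bwd (nat_lit 2) (Steps.bwd (nat_lit 2) (Steps.bwd (nat_lit 2) (Steps.bwd (nat_lit 2) (Steps.bwd (nat_lit 2) (Steps.bwd (nat_lit 2) Steps.nil))))))) (nat_lit 1) (nat_lit 0),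
  Rule.mk (nat_lit 2) (nat_lit 87) (Steps.bwd (nat_lit 2) (Steps.bwd (nat_lit 4) (Steps.fwd (nat_lit 8192) (Steps.fwd (nat_lit 8192) (Steps.fwd (nat_lit 16384) Steps.nil))))) (nat_lit 6) (nat_lit 1),
  Rule.mk (nat_lit 3) (nat_lit 57) (Steps.bwd (nat_lit 6) (Steps.fwd (nat_lit 12288) (Steps.fwd (nat_lit 57344) Steps.nil))) (nat_lit 16) (nat_lit 2),
  Rule.mk (nat_lit 11) (nat_lit 117) (Steps.bwd (nat_lit 11) (Steps.fwd (nat_lit 53248) (Steps.bwd (nat_lit 8) (Steps.bwd (nat_lit 8) (Steps.fwd (nat_lit 12288) (Steps.bwd (nat_lit 11) (Steps.bwd (nat_lit 3) Steps.nil))))))) (nat_lit 52) (nat_lit 4),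
  Rule.mk (nat_lit 8) (nat_lit 102) (Steps.fwd (nat_lit 49152) (Steps.fwd (nat_lit 49152) (Steps.bwd (nat_lit 2) (Steps.fwd (nat_lit 49152) (Steps.bwd (nat_lit 1) (Steps.bwd (nat_lit 14) Steps.nil)))))) (nat_lit 44) (nat_lit 5),
  Rule.mk (nat_lit 11) (nat_lit 87) (Steps.bwd (nat_lit 7) (Steps.fwd (nat_lit 61440) (Steps.fwd (nat_lit 61440) (Steps.fwd (nat_lit 45056) (Steps.fwd (nat_lit 28672) Steps.nil))))) (nat_lit 33) (nat_lit 5),
  Rule.mk (nat_lit 14) (nat_lit 72) (Steps.bwd (nat_lit 12) (Steps.bwd (nat_lit 13) (Steps.fwd (nat_lit 49152) (Steps.fwd (nat_lit 61440) Steps.nil)))) (nat_lit 41) (nat_lit 2),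
  Rule.mk (nat_lit 1) (nat_lit 87) (Steps.bwd (nat_lit 3) (Steps.fwd (nat_lit 4096) (Steps.fwd (nat_lit 4096) (Steps.fwd (nat_lit 12288) (Steps.bwd (nat_lit 1) Steps.nil))))) (nat_lit 6) (nat_lit 5),
  Rule.mk (nat_lit 4) (nat_lit 87) (Steps.fwd (nat_lit 4096) (Steps.bwd (nat_lit 2) (Steps.fwd (nat_lit 16384) (Steps.bwd (nat_lit 1) (Steps.bwd (nat_lit 1) Steps.nil))))) (nat_lit 7) (nat_lit 1),
  Rule.mk (nat_lit 9) (nat_lit 72) (Steps.fwd (nat_lit 61440) (Steps.bwd (nat_lit 8) (Steps.fwd (nat_lit 36864) (Steps.bwd (nat_lit 7) Steps.nil)))) (nat_lit 19) (nat_lit 4),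
  Rule.mk (nat_lit 9) (nat_lit 57) (Steps.bwd (nat_lit 14) (Steps.fwd (nat_lit 36864) (Steps.bwd (nat_lit 13) Steps.nil))) (nat_lit 39) (nat_lit 0),
  Rule.mk (nat_lit 1) (nat_lit 72) (Steps.fwd (nat_lit 32768) (Steps.bwd (nat_lit 7) (Steps.fwd (nat_lit 4096) (Steps.bwd (nat_lit 9) Steps.nil)))) (nat_lit 42) (nat_lit 3),
  Rule.mk (nat_lit 2) (nat_lit 87) (Steps.bwd (nat_lit 3) (Steps.fwd (nat_lit 8192) (Steps.bwd (nat_lit 1) (Steps.fwd (nat_lit 12288) (Steps.fwd (nat_lit 4096) Steps.nil))))) (nat_lit 7) (nat_lit 3),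
  Rule.mk (nat_lit 11) (nat_lit 102) (Steps.fwd (nat_lit 8192) (Steps.bwd (nat_lit 14) (Steps.bwd (nat_lit 8) (Steps.bwd (nat_lit 11) (Steps.bwd (nat_lit 11) (Steps.bwd (nat_lit 2) Steps.nil)))))) (nat_lit 44) (nat_lit 2),
  Rule.mk (nat_lit 3) (nat_lit 87) (Steps.bwd (nat_lit 1) (Steps.bwd (nat_lit 1) (Steps.fwd (nat_lit 12288) (Steps.bwd (nat_lit 2) (Steps.bwd (nat_lit 2) Steps.nil))))) (nat_lit 7) (nat_lit 4),
  Rule.mk (nat_lit 2) (nat_lit 117) (Steps.bwd (nat_lit 4) (Steps.bwd (nat_lit 2) (Steps.fwd (nat_lit 12288) (Steps.bwd (nat_lit 2) (Steps.bwd (nat_lit 4) (Steps.bwd (nat_lit 2) (Steps.fwd (nat_lit 12288) Steps.nil))))))) (nat_lit 5) (nat_lit 0),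
  Rule.mk (nat_lit 10) (nat_lit 72) (Steps.bwd (nat_lit 11) (Steps.fwd (nat_lit 40960) (Steps.bwd (nat_lit 16) (Steps.bwd (nat_lit 12) Steps.nil)))) (nat_lit 37) (nat_lit 3),
  Rule.mk (nat_lit 13) (nat_lit 72) (Steps.bwd (nat_lit 11) (Steps.fwd (nat_lit 61440) (Steps.fwd (nat_lit 53248) (Steps.bwd (nat_lit 12) Steps.nil)))) (nat_lit 41) (nat_lit 4),
  Rule.mk (nat_lit 11) (nat_lit 72) (Steps.bwd (nat_lit 15) (Steps.fwd (nat_lit 36864) (Steps.fwd (nat_lit 45056) (Steps.bwd (nat_lit 9) Steps.nil)))) (nat_lit 36) (nat_lit 4),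
  Rule.mk (nat_lit 8) (nat_lit 87) (Steps.bwd (nat_lit 11) (Steps.fwd (nat_lit 32768) (Steps.fwd (nat_lit 61440) (Steps.bwd (nat_lit 16) (Steps.fwd (nat_lit 45056) Steps.nil))))) (nat_lit 33) (nat_lit 4),
  Rule.mk (nat_lit 2) (nat_lit 132) (Steps.bwd (nat_lit 13) (Steps.bwd (nat_lit 1) (Steps.fwd (nat_lit 53248) (Steps.fwd (nat_lit 28672) (Steps.bwd (nat_lit 14) (Steps.fwd (nat_lit 49152) (Steps.bwd (nat_lit 9) (Steps.fwd (nat_lit 28672) Steps.nil)))))))) (nat_lit 46) (nat_lit 1),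
  Rule.mk (nat_lit 14) (nat_lit 132) (Steps.bwd (nat_lit 1) (Steps.bwd (nat_lit 7) (Steps.fwd (nat_lit 36864) (Steps.bwd (nat_lit 12) (Steps.bwd (nat_lit 13) (Steps.fwd (nat_lit 32768) (Steps.fwd (nat_lit 57344) (Steps.bwd (nat_lit 2) Steps.nil)))))))) (nat_lit 47) (nat_lit 8),
  Rule.mk (nat_lit 13) (nat_lit 57) (Steps.fwd (nat_lit 40960) (Steps.bwd (nat_lit 14) (Steps.fwd (nat_lit 36864) Steps.nil))) (nat_lit 39) (nat_lit 3),
  Rule.mk (nat_lit 8) (nat_lit 87) (Steps.fwd (nat_lit 57344) (Steps.bwd (nat_lit 7) (Steps.bwd (nat_lit 15) (Steps.bwd (nat_lit 15) (Steps.bwd (nat_lit 14) Steps.nil))))) (nat_lit 35) (nat_lit 4),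
  Rule.mk (nat_lit 10) (nat_lit 72) (Steps.bwd (nat_lit 12) (Steps.fwd (nat_lit 40960) (Steps.bwd (nat_lit 11) (Steps.bwd (nat_lit 15) Steps.nil)))) (nat_lit 36) (nat_lit 1),
  Rule.mk (nat_lit 14) (nat_lit 72) (Steps.bwd (nat_lit 12) (Steps.bwd (nat_lit 13) (Steps.bwd (nat_lit 11) (Steps.bwd (nat_lit 16) Steps.nil)))) (nat_lit 41) (nat_lit 2),
  Rule.mk (nat_lit 2) (nat_lit 87) (Steps.bwd (nat_lit 3) (Steps.bwd (nat_lit 1) (Steps.bwd (nat_lit 1) (Steps.fwd (nat_lit 12288) (Steps.bwd (nat_lit 2) Steps.nil))))) (nat_lit 7) (nat_lit 3),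
  Rule.mk (nat_lit 9) (nat_lit 72) (Steps.fwd (nat_lit 8192) (Steps.bwd (nat_lit 7) (Steps.bwd (nat_lit 7) (Steps.bwd (nat_lit 2) Steps.nil)))) (nat_lit 42) (nat_lit 2),
  Rule.mk (nat_lit 7) (nat_lit 87) (Steps.bwd (nat_lit 11) (Steps.fwd (nat_lit 65536) (Steps.bwd (nat_lit 15) (Steps.fwd (nat_lit 28672) (Steps.bwd (nat_lit 12) Steps.nil))))) (nat_lit 32) (nat_lit 3),
  Rule.mk (nat_lit 13) (nat_lit 117) (Steps.bwd (nat_lit 12) (Steps.fwd (nat_lit 36864) (Steps.fwd (nat_lit 12288) (Steps.bwd (nat_lit 9) (Steps.fwd (nat_lit 16384) (Steps.bwd (nat_lit 13) (Steps.fwd (nat_lit 32768) Steps.nil))))))) (nat_lit 50) (nat_lit 6),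
  Rule.mk (nat_lit 11) (nat_lit 72) (Steps.fwd (nat_lit 61440) (Steps.fwd (nat_lit 53248) (Steps.bwd (nat_lit 12) (Steps.bwd (nat_lit 13) Steps.nil)))) (nat_lit 41) (nat_lit 0),
  Rule.mk (nat_lit 15) (nat_lit 57) (Steps.bwd (nat_lit 12) (Steps.bwd (nat_lit 16) (Steps.fwd (nat_lit 49152) Steps.nil))) (nat_lit 28) (nat_lit 0),
  Rule.mk (nat_lit 8) (nat_lit 87) (Steps.bwd (nat_lit 12) (Steps.fwd (nat_lit 32768) (Steps.bwd (nat_lit 11) (Steps.bwd (nat_lit 15) (Steps.bwd (nat_lit 15) Steps.nil))))) (nat_lit 32) (nat_lit 1),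
  Rule.mk (nat_lit 13) (nat_lit 117) (Steps.bwd (nat_lit 12) (Steps.bwd (nat_lit 10) (Steps.bwd (nat_lit 4) (Steps.fwd (nat_lit 40960) (Steps.bwd (nat_lit 3) (Steps.bwd (nat_lit 13) (Steps.fwd (nat_lit 32768) Steps.nil))))))) (nat_lit 50) (nat_lit 6),
  Rule.mk (nat_lit 8) (nat_lit 87) (Steps.bwd (nat_lit 12) (Steps.bwd (nat_lit 7) (Steps.fwd (nat_lit 49152) (Steps.bwd (nat_lit 15) (Steps.fwd (nat_lit 65536) Steps.nil))))) (nat_lit 32) (nat_lit 1),
  Rule.mk (nat_lit 3) (nat_lit 57) (Steps.fwd (nat_lit 65536) (Steps.fwd (nat_lit 12288) (Steps.bwd (nat_lit 16) Steps.nil))) (nat_lit 55) (nat_lit 0),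
  Rule.mk (nat_lit 13) (nat_lit 117) (Steps.bwd (nat_lit 12) (Steps.bwd (nat_lit 12) (Steps.fwd (nat_lit 12288) (Steps.fwd (nat_lit 45056) (Steps.bwd (nat_lit 3) (Steps.bwd (nat_lit 7) (Steps.fwd (nat_lit 32768) Steps.nil))))))) (nat_lit 53) (nat_lit 3),
  Rule.mk (nat_lit 13) (nat_lit 87) (Steps.fwd (nat_lit 61440) (Steps.fwd (nat_lit 61440) (Steps.fwd (nat_lit 28672) (Steps.bwd (nat_lit 14) (Steps.bwd (nat_lit 7) Steps.nil))))) (nat_lit 34) (nat_lit 4),
  Rule.mk (nat_lit 14) (nat_lit 72) (Steps.fwd (nat_lit 49152) (Steps.bwd (nat_lit 13) (Steps.bwd (nat_lit 15) (Steps.bwd (nat_lit 12) Steps.nil)))) (nat_lit 40) (nat_lit 2),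
  Rule.mk (nat_lit 3) (nat_lit 72) (Steps.fwd (nat_lit 16384) (Steps.bwd (nat_lit 3) (Steps.bwd (nat_lit 3) (Steps.fwd (nat_lit 16384) Steps.nil)))) (nat_lit 2) (nat_lit 0),
  Rule.mk (nat_lit 13) (nat_lit 117) (Steps.bwd (nat_lit 12) (Steps.bwd (nat_lit 12) (Steps.fwd (nat_lit 12288) (Steps.bwd (nat_lit 12) (Steps.bwd (nat_lit 3) (Steps.fwd (nat_lit 32768) (Steps.fwd (nat_lit 32768) Steps.nil))))))) (nat_lit 53) (nat_lit 3)]
noncomputable def R_20 : List (Rule) := [Rule.mk (nat_lit 13) (nat_lit 72) (Steps.fwd (nat_lit 49152) (Steps.bwd (nat_lit 16) (Steps.bwd (nat_lit 14) (Steps.fwd (nat_lit 45056) Steps.nil)))) (nat_lit 41) (nat_lit 4),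
  Rule.mk (nat_lit 15) (nat_lit 72) (Steps.fwd (nat_lit 8192) (Steps.bwd (nat_lit 16) (Steps.bwd (nat_lit 16) (Steps.bwd (nat_lit 2) Steps.nil)))) (nat_lit 48) (nat_lit 2),
  Rule.mk (nat_lit 12) (nat_lit 87) (Steps.bwd (nat_lit 7) (Steps.bwd (nat_lit 11) (Steps.bwd (nat_lit 15) (Steps.bwd (nat_lit 15) (Steps.fwd (nat_lit 28672) Steps.nil))))) (nat_lit 32) (nat_lit 2),
  Rule.mk (nat_lit 15) (nat_lit 72) (Steps.bwd (nat_lit 10) (Steps.bwd (nat_lit 8) (Steps.bwd (nat_lit 9) (Steps.bwd (nat_lit 7) Steps.nil)))) (nat_lit 18) (nat_lit 1),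
  Rule.mk (nat_lit 4) (nat_lit 117) (Steps.bwd (nat_lit 10) (Steps.fwd (nat_lit 16384) (Steps.bwd (nat_lit 9) (Steps.bwd (nat_lit 11) (Steps.bwd (nat_lit 14) (Steps.bwd (nat_lit 8) (Steps.fwd (nat_lit 53248) Steps.nil))))))) (nat_lit 51) (nat_lit 6),
  Rule.mk (nat_lit 4) (nat_lit 72) (Steps.fwd (nat_lit 12288) (Steps.fwd (nat_lit 12288) (Steps.bwd (nat_lit 4) (Steps.bwd (nat_lit 4) Steps.nil)))) (nat_lit 3) (nat_lit 0),
  Rule.mk (nat_lit 2) (nat_lit 87) (Steps.fwd (nat_lit 4096) (Steps.fwd (nat_lit 16384) (Steps.bwd (nat_lit 1) (Steps.bwd (nat_lit 1) (Steps.bwd (nat_lit 4) Steps.nil))))) (nat_lit 7) (nat_lit 2),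
  Rule.mk (nat_lit 0) (nat_lit 132) (Steps.bwd (nat_lit 3) (Steps.fwd (nat_lit 8192) (Steps.fwd (nat_lit 16384) (Steps.bwd (nat_lit 1) (Steps.fwd (nat_lit 16384) (Steps.fwd (nat_lit 8192) (Steps.bwd (nat_lit 3) (Steps.bwd (nat_lit 1) Steps.nil)))))))) (nat_lit 4) (nat_lit 1),
  Rule.mk (nat_lit 2) (nat_lit 87) (Steps.bwd (nat_lit 3) (Steps.bwd (nat_lit 1) (Steps.bwd (nat_lit 1) (Steps.bwd (nat_lit 4) (Steps.fwd (nat_lit 4096) Steps.nil))))) (nat_lit 7) (nat_lit 3),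
  Rule.mk (nat_lit 4) (nat_lit 117) (Steps.fwd (nat_lit 36864) (Steps.bwd (nat_lit 3) (Steps.bwd (nat_lit 9) (Steps.bwd (nat_lit 11) (Steps.bwd (nat_lit 14) (Steps.fwd (nat_lit 28672) (Steps.bwd (nat_lit 14) Steps.nil))))))) (nat_lit 51) (nat_lit 6),
  Rule.mk (nat_lit 3) (nat_lit 87) (Steps.bwd (nat_lit 2) (Steps.fwd (nat_lit 4096) (Steps.bwd (nat_lit 4) (Steps.bwd (nat_lit 1) (Steps.bwd (nat_lit 1) Steps.nil))))) (nat_lit 6) (nat_lit 0),
  Rule.mk (nat_lit 4) (nat_lit 57) (Steps.fwd (nat_lit 57344) (Steps.bwd (nat_lit 3) (Steps.fwd (nat_lit 20480) Steps.nil))) (nat_lit 16) (nat_lit 0),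
  Rule.mk (nat_lit 7) (nat_lit 87) (Steps.bwd (nat_lit 11) (Steps.bwd (nat_lit 15) (Steps.bwd (nat_lit 15) (Steps.fwd (nat_lit 28672) (Steps.fwd (nat_lit 45056) Steps.nil))))) (nat_lit 32) (nat_lit 3),
  Rule.mk (nat_lit 7) (nat_lit 87) (Steps.bwd (nat_lit 13) (Steps.bwd (nat_lit 16) (Steps.fwd (nat_lit 61440) (Steps.fwd (nat_lit 28672) (Steps.fwd (nat_lit 53248) Steps.nil))))) (nat_lit 34) (nat_lit 3),
  Rule.mk (nat_lit 2) (nat_lit 132) (Steps.bwd (nat_lit 13) (Steps.fwd (nat_lit 8192) (Steps.bwd (nat_lit 14) (Steps.bwd (nat_lit 8) (Steps.fwd (nat_lit 53248) (Steps.bwd (nat_lit 11) (Steps.bwd (nat_lit 9) (Steps.fwd (nat_lit 28672) Steps.nil)))))))) (nat_lit 46) (nat_lit 1),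
  Rule.mk (nat_lit 15) (nat_lit 72) (Steps.fwd (nat_lit 36864) (Steps.fwd (nat_lit 28672) (Steps.bwd (nat_lit 9) (Steps.bwd (nat_lit 7) Steps.nil)))) (nat_lit 18) (nat_lit 1),
  Rule.mk (nat_lit 13) (nat_lit 87) (Steps.bwd (nat_lit 16) (Steps.bwd (nat_lit 16) (Steps.fwd (nat_lit 28672) (Steps.fwd (nat_lit 53248) (Steps.bwd (nat_lit 7) Steps.nil))))) (nat_lit 34) (nat_lit 4),
  Rule.mk (nat_lit 2) (nat_lit 132) (Steps.bwd (nat_lit 13) (Steps.fwd (nat_lit 8192) (Steps.fwd (nat_lit 53248) (Steps.bwd (nat_lit 8) (Steps.fwd (nat_lit 53248) (Steps.bwd (nat_lit 11) (Steps.bwd (nat_lit 9) (Steps.bwd (nat_lit 8) Steps.nil)))))))) (nat_lit 46) (nat_lit 1),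
  Rule.mk (nat_lit 11) (nat_lit 117) (Steps.bwd (nat_lit 11) (Steps.bwd (nat_lit 14) (Steps.bwd (nat_lit 8) (Steps.bwd (nat_lit 8) (Steps.fwd (nat_lit 12288) (Steps.fwd (nat_lit 49152) (Steps.bwd (nat_lit 3) Steps.nil))))))) (nat_lit 52) (nat_lit 4),
  Rule.mk (nat_lit 8) (nat_lit 87) (Steps.bwd (nat_lit 11) (Steps.fwd (nat_lit 32768) (Steps.fwd (nat_lit 61440) (Steps.fwd (nat_lit 61440) (Steps.fwd (nat_lit 45056) Steps.nil))))) (nat_lit 33) (nat_lit 4),
  Rule.mk (nat_lit 2) (nat_lit 102) (Steps.bwd (nat_lit 11) (Steps.bwd (nat_lit 1) (Steps.fwd (nat_lit 53248) (Steps.fwd (nat_lit 28672) (Steps.bwd (nat_lit 11) (Steps.fwd (nat_lit 49152) Steps.nil)))))) (nat_lit 44) (nat_lit 1),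
  Rule.mk (nat_lit 1) (nat_lit 102) (Steps.bwd (nat_lit 12) (Steps.fwd (nat_lit 45056) (Steps.fwd (nat_lit 32768) (Steps.fwd (nat_lit 57344) (Steps.fwd (nat_lit 4096) (Steps.fwd (nat_lit 45056) Steps.nil)))))) (nat_lit 45) (nat_lit 0),
  Rule.mk (nat_lit 11) (nat_lit 117) (Steps.bwd (nat_lit 14) (Steps.fwd (nat_lit 28672) (Steps.bwd (nat_lit 8) (Steps.bwd (nat_lit 4) (Steps.fwd (nat_lit 49152) (Steps.fwd (nat_lit 16384) (Steps.fwd (nat_lit 49152) Steps.nil))))))) (nat_lit 52) (nat_lit 5),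
  Rule.mk (nat_lit 2) (nat_lit 87) (Steps.bwd (nat_lit 4) (Steps.bwd (nat_lit 1) (Steps.bwd (nat_lit 1) (Steps.bwd (nat_lit 3) (Steps.bwd (nat_lit 2) Steps.nil))))) (nat_lit 6) (nat_lit 2),
  Rule.mk (nat_lit 1) (nat_lit 87) (Steps.bwd (nat_lit 4) (Steps.fwd (nat_lit 4096) (Steps.fwd (nat_lit 4096) (Steps.fwd (nat_lit 16384) (Steps.fwd (nat_lit 8192) Steps.nil))))) (nat_lit 7) (nat_lit 0),
  Rule.mk (nat_lit 15) (nat_lit 87) (Steps.bwd (nat_lit 14) (Steps.bwd (nat_lit 8) (Steps.bwd (nat_lit 13) (Steps.fwd (nat_lit 32768) (Steps.bwd (nat_lit 15) Steps.nil))))) (nat_lit 35) (nat_lit 2),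
  Rule.mk (nat_lit 12) (nat_lit 72) (Steps.fwd (nat_lit 57344) (Steps.bwd (nat_lit 11) (Steps.bwd (nat_lit 16) (Steps.fwd (nat_lit 53248) Steps.nil)))) (nat_lit 41) (nat_lit 3),
  Rule.mk (nat_lit 11) (nat_lit 87) (Steps.bwd (nat_lit 7) (Steps.bwd (nat_lit 16) (Steps.fwd (nat_lit 61440) (Steps.bwd (nat_lit 12) (Steps.fwd (nat_lit 28672) Steps.nil))))) (nat_lit 33) (nat_lit 5),
  Rule.mk (nat_lit 13) (nat_lit 117) (Steps.bwd (nat_lit 7) (Steps.bwd (nat_lit 13) (Steps.fwd (nat_lit 45056) (Steps.bwd (nat_lit 10) (Steps.bwd (nat_lit 4) (Steps.fwd (nat_lit 40960) (Steps.bwd (nat_lit 3) Steps.nil))))))) (nat_lit 50) (nat_lit 4),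
  Rule.mk (nat_lit 7) (nat_lit 117) (Steps.bwd (nat_lit 7) (Steps.fwd (nat_lit 57344) (Steps.bwd (nat_lit 12) (Steps.bwd (nat_lit 12) (Steps.bwd (nat_lit 4) (Steps.fwd (nat_lit 45056) (Steps.bwd (nat_lit 3) Steps.nil))))))) (nat_lit 53) (nat_lit 1),
  Rule.mk (nat_lit 0) (nat_lit 72) (Steps.bwd (nat_lit 4) (Steps.fwd (nat_lit 65536) (Steps.fwd (nat_lit 16384) (Steps.bwd (nat_lit 16) Steps.nil)))) (nat_lit 54) (nat_lit 0),
  Rule.mk (nat_lit 8) (nat_lit 72) (Steps.fwd (nat_lit 40960) (Steps.bwd (nat_lit 7) (Steps.fwd (nat_lit 65536) (Steps.fwd (nat_lit 36864) Steps.nil)))) (nat_lit 18) (nat_lit 3),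
  Rule.mk (nat_lit 13) (nat_lit 57) (Steps.fwd (nat_lit 65536) (Steps.bwd (nat_lit 14) (Steps.fwd (nat_lit 61440) Steps.nil))) (nat_lit 30) (nat_lit 3),
  Rule.mk (nat_lit 15) (nat_lit 57) (Steps.bwd (nat_lit 4) (Steps.fwd (nat_lit 61440) (Steps.fwd (nat_lit 16384) Steps.nil))) (nat_lit 55) (nat_lit 1),
  Rule.mk (nat_lit 4) (nat_lit 117) (Steps.bwd (nat_lit 10) (Steps.fwd (nat_lit 16384) (Steps.bwd (nat_lit 9) (Steps.bwd (nat_lit 11) (Steps.bwd (nat_lit 14) (Steps.bwd (nat_lit 8) (Steps.bwd (nat_lit 14) Steps.nil))))))) (nat_lit 51) (nat_lit 6),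
  Rule.mk (nat_lit 2) (nat_lit 132) (Steps.bwd (nat_lit 13) (Steps.fwd (nat_lit 8192) (Steps.bwd (nat_lit 14) (Steps.bwd (nat_lit 8) (Steps.fwd (nat_lit 53248) (Steps.fwd (nat_lit 49152) (Steps.bwd (nat_lit 9) (Steps.bwd (nat_lit 8) Steps.nil)))))))) (nat_lit 46) (nat_lit 1),
  Rule.mk (nat_lit 11) (nat_lit 117) (Steps.bwd (nat_lit 11) (Steps.bwd (nat_lit 14) (Steps.bwd (nat_lit 8) (Steps.fwd (nat_lit 28672) (Steps.bwd (nat_lit 4) (Steps.fwd (nat_lit 49152) (Steps.fwd (nat_lit 16384) Steps.nil))))))) (nat_lit 52) (nat_lit 4),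
  Rule.mk (nat_lit 12) (nat_lit 117) (Steps.bwd (nat_lit 10) (Steps.bwd (nat_lit 4) (Steps.fwd (nat_lit 40960) (Steps.fwd (nat_lit 16384) (Steps.fwd (nat_lit 57344) (Steps.bwd (nat_lit 7) (Steps.bwd (nat_lit 13) Steps.nil))))))) (nat_lit 50) (nat_lit 7),
  Rule.mk (nat_lit 11) (nat_lit 72) (Steps.fwd (nat_lit 40960) (Steps.fwd (nat_lit 61440) (Steps.bwd (nat_lit 12) (Steps.bwd (nat_lit 10) Steps.nil)))) (nat_lit 37) (nat_lit 4),
  Rule.mk (nat_lit 4) (nat_lit 117) (Steps.bwd (nat_lit 11) (Steps.fwd (nat_lit 16384) (Steps.fwd (nat_lit 49152) (Steps.bwd (nat_lit 11) (Steps.fwd (nat_lit 53248) (Steps.fwd (nat_lit 28672) (Steps.bwd (nat_lit 8) Steps.nil))))))) (nat_lit 52) (nat_lit 1),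
  Rule.mk (nat_lit 3) (nat_lit 72) (Steps.fwd (nat_lit 16384) (Steps.bwd (nat_lit 3) (Steps.fwd (nat_lit 16384) (Steps.bwd (nat_lit 3) Steps.nil)))) (nat_lit 2) (nat_lit 0),
  Rule.mk (nat_lit 10) (nat_lit 72) (Steps.bwd (nat_lit 8) (Steps.fwd (nat_lit 40960) (Steps.bwd (nat_lit 7) (Steps.fwd (nat_lit 65536) Steps.nil)))) (nat_lit 18) (nat_lit 2),
  Rule.mk (nat_lit 11) (nat_lit 132) (Steps.bwd (nat_lit 9) (Steps.bwd (nat_lit 8) (Steps.bwd (nat_lit 2) (Steps.bwd (nat_lit 13) (Steps.fwd (nat_lit 8192) (Steps.fwd (nat_lit 53248) (Steps.fwd (nat_lit 28672) (Steps.bwd (nat_lit 14) Steps.nil)))))))) (nat_lit 46) (nat_lit 7),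
  Rule.mk (nat_lit 4) (nat_lit 117) (Steps.bwd (nat_lit 10) (Steps.fwd (nat_lit 16384) (Steps.fwd (nat_lit 40960) (Steps.bwd (nat_lit 11) (Steps.fwd (nat_lit 53248) (Steps.bwd (nat_lit 8) (Steps.fwd (nat_lit 53248) Steps.nil))))))) (nat_lit 51) (nat_lit 6),
  Rule.mk (nat_lit 2) (nat_lit 102) (Steps.bwd (nat_lit 11) (Steps.bwd (nat_lit 1) (Steps.bwd (nat_lit 14) (Steps.bwd (nat_lit 8) (Steps.bwd (nat_lit 11) (Steps.fwd (nat_lit 49152) Steps.nil)))))) (nat_lit 44) (nat_lit 1),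
  Rule.mk (nat_lit 9) (nat_lit 72) (Steps.fwd (nat_lit 32768) (Steps.bwd (nat_lit 15) (Steps.bwd (nat_lit 10) (Steps.bwd (nat_lit 8) Steps.nil)))) (nat_lit 18) (nat_lit 4),
  Rule.mk (nat_lit 1) (nat_lit 72) (Steps.fwd (nat_lit 28672) (Steps.fwd (nat_lit 28672) (Steps.bwd (nat_lit 2) (Steps.bwd (nat_lit 10) Steps.nil)))) (nat_lit 43) (nat_lit 0),
  Rule.mk (nat_lit 8) (nat_lit 72) (Steps.bwd (nat_lit 10) (Steps.fwd (nat_lit 32768) (Steps.fwd (nat_lit 40960) (Steps.fwd (nat_lit 61440) Steps.nil)))) (nat_lit 19) (nat_lit 1),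
  Rule.mk (nat_lit 9) (nat_lit 117) (Steps.bwd (nat_lit 3) (Steps.bwd (nat_lit 13) (Steps.fwd (nat_lit 32768) (Steps.fwd (nat_lit 57344) (Steps.bwd (nat_lit 12) (Steps.bwd (nat_lit 10) (Steps.bwd (nat_lit 4) Steps.nil))))))) (nat_lit 50) (nat_lit 2),
  Rule.mk (nat_lit 2) (nat_lit 132) (Steps.bwd (nat_lit 14) (Steps.fwd (nat_lit 8192) (Steps.fwd (nat_lit 32768) (Steps.bwd (nat_lit 10) (Steps.bwd (nat_lit 12) (Steps.bwd (nat_lit 13) (Steps.fwd (nat_lit 32768) (Steps.fwd (nat_lit 57344) Steps.nil)))))))) (nat_lit 47) (nat_lit 7),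
  Rule.mk (nat_lit 1) (nat_lit 87) (Steps.bwd (nat_lit 4) (Steps.fwd (nat_lit 4096) (Steps.fwd (nat_lit 4096) (Steps.bwd (nat_lit 3) (Steps.fwd (nat_lit 8192) Steps.nil))))) (nat_lit 7) (nat_lit 0),
  Rule.mk (nat_lit 9) (nat_lit 72) (Steps.fwd (nat_lit 61440) (Steps.fwd (nat_lit 28672) (Steps.bwd (nat_lit 10) (Steps.bwd (nat_lit 7) Steps.nil)))) (nat_lit 19) (nat_lit 4),
  Rule.mk (nat_lit 12) (nat_lit 72) (Steps.bwd (nat_lit 10) (Steps.fwd (nat_lit 49152) (Steps.fwd (nat_lit 40960) (Steps.bwd (nat_lit 16) Steps.nil)))) (nat_lit 37) (nat_lit 2),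
  Rule.mk (nat_lit 14) (nat_lit 72) (Steps.bwd (nat_lit 12) (Steps.fwd (nat_lit 57344) (Steps.fwd (nat_lit 49152) (Steps.fwd (nat_lit 61440) Steps.nil)))) (nat_lit 41) (nat_lit 2),
  Rule.mk (nat_lit 13) (nat_lit 117) (Steps.bwd (nat_lit 12) (Steps.bwd (nat_lit 10) (Steps.bwd (nat_lit 4) (Steps.fwd (nat_lit 40960) (Steps.bwd (nat_lit 3) (Steps.fwd (nat_lit 57344) (Steps.fwd (nat_lit 32768) Steps.nil))))))) (nat_lit 50) (nat_lit 6),
  Rule.mk (nat_lit 12) (nat_lit 117) (Steps.bwd (nat_lit 12) (Steps.fwd (nat_lit 12288) (Steps.fwd (nat_lit 45056) (Steps.bwd (nat_lit 3) (Steps.fwd (nat_lit 32768) (Steps.fwd (nat_lit 32768) (Steps.fwd (nat_lit 57344) Steps.nil))))))) (nat_lit 53) (nat_lit 4),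
  Rule.mk (nat_lit 7) (nat_lit 72) (Steps.fwd (nat_lit 32768) (Steps.fwd (nat_lit 4096) (Steps.bwd (nat_lit 9) (Steps.bwd (nat_lit 1) Steps.nil)))) (nat_lit 42) (nat_lit 4),
  Rule.mk (nat_lit 3) (nat_lit 177) (Steps.bwd (nat_lit 2) (Steps.bwd (nat_lit 4) (Steps.bwd (nat_lit 1) (Steps.bwd (nat_lit 3) (Steps.fwd (nat_lit 4096) (Steps.fwd (nat_lit 12288) (Steps.bwd (nat_lit 1) (Steps.fwd (nat_lit 16384) (Steps.fwd (nat_lit 4096) (Steps.bwd (nat_lit 4) (Steps.bwd (nat_lit 1) Steps.nil))))))))))) (nat_lit 8) (nat_lit 0),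
  Rule.mk (nat_lit 2) (nat_lit 132) (Steps.bwd (nat_lit 13) (Steps.fwd (nat_lit 8192) (Steps.fwd (nat_lit 53248) (Steps.fwd (nat_lit 28672) (Steps.bwd (nat_lit 14) (Steps.bwd (nat_lit 11) (Steps.fwd (nat_lit 40960) (Steps.fwd (nat_lit 28672) Steps.nil)))))))) (nat_lit 46) (nat_lit 1),
  Rule.mk (nat_lit 2) (nat_lit 102) (Steps.bwd (nat_lit 12) (Steps.fwd (nat_lit 8192) (Steps.bwd (nat_lit 12) (Steps.fwd (nat_lit 45056) (Steps.bwd (nat_lit 7) (Steps.bwd (nat_lit 13) Steps.nil)))))) (nat_lit 45) (nat_lit 5),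
  Rule.mk (nat_lit 13) (nat_lit 117) (Steps.bwd (nat_lit 12) (Steps.fwd (nat_lit 36864) (Steps.fwd (nat_lit 12288) (Steps.fwd (nat_lit 40960) (Steps.fwd (nat_lit 16384) (Steps.fwd (nat_lit 57344) (Steps.bwd (nat_lit 7) Steps.nil))))))) (nat_lit 50) (nat_lit 6),
  Rule.mk (nat_lit 12) (nat_lit 117) (Steps.bwd (nat_lit 12) (Steps.fwd (nat_lit 12288) (Steps.fwd (nat_lit 45056) (Steps.fwd (nat_lit 16384) (Steps.bwd (nat_lit 7) (Steps.fwd (nat_lit 32768) (Steps.fwd (nat_lit 57344) Steps.nil))))))) (nat_lit 53) (nat_lit 4),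
  Rule.mk (nat_lit 8) (nat_lit 87) (Steps.fwd (nat_lit 49152) (Steps.fwd (nat_lit 32768) (Steps.bwd (nat_lit 16) (Steps.bwd (nat_lit 16) (Steps.bwd (nat_lit 12) Steps.nil))))) (nat_lit 33) (nat_lit 4),
  Rule.mk (nat_lit 1) (nat_lit 87) (Steps.bwd (nat_lit 3) (Steps.bwd (nat_lit 2) (Steps.fwd (nat_lit 4096) (Steps.fwd (nat_lit 12288) (Steps.bwd (nat_lit 1) Steps.nil))))) (nat_lit 6) (nat_lit 5)]
noncomputable def R_21 : List (Rule) := [Rule.mk (nat_lit 12) (nat_lit 102) (Steps.fwd (nat_lit 45056) (Steps.bwd (nat_lit 7) (Steps.bwd (nat_lit 13) (Steps.bwd (nat_lit 2) (Steps.bwd (nat_lit 12) (Steps.bwd (nat_lit 1) Steps.nil)))))) (nat_lit 45) (nat_lit 1),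
  Rule.mk (nat_lit 11) (nat_lit 102) (Steps.bwd (nat_lit 11) (Steps.bwd (nat_lit 2) (Steps.fwd (nat_lit 49152) (Steps.fwd (nat_lit 8192) (Steps.fwd (nat_lit 53248) (Steps.bwd (nat_lit 8) Steps.nil)))))) (nat_lit 44) (nat_lit 6),
  Rule.mk (nat_lit 2) (nat_lit 102) (Steps.bwd (nat_lit 12) (Steps.fwd (nat_lit 8192) (Steps.bwd (nat_lit 12) (Steps.bwd (nat_lit 12) (Steps.fwd (nat_lit 32768) (Steps.fwd (nat_lit 57344) Steps.nil)))))) (nat_lit 45) (nat_lit 5),
  Rule.mk (nat_lit 4) (nat_lit 72) (Steps.bwd (nat_lit 4) (Steps.fwd (nat_lit 12288) (Steps.bwd (nat_lit 4) (Steps.bwd (nat_lit 4) Steps.nil)))) (nat_lit 3) (nat_lit 0),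
  Rule.mk (nat_lit 7) (nat_lit 72) (Steps.fwd (nat_lit 4096) (Steps.fwd (nat_lit 40960) (Steps.bwd (nat_lit 1) (Steps.bwd (nat_lit 7) Steps.nil)))) (nat_lit 42) (nat_lit 0),
  Rule.mk (nat_lit 13) (nat_lit 72) (Steps.fwd (nat_lit 49152) (Steps.fwd (nat_lit 61440) (Steps.bwd (nat_lit 14) (Steps.bwd (nat_lit 12) Steps.nil)))) (nat_lit 41) (nat_lit 4),
  Rule.mk (nat_lit 8) (nat_lit 102) (Steps.bwd (nat_lit 11) (Steps.fwd (nat_lit 49152) (Steps.fwd (nat_lit 4096) (Steps.bwd (nat_lit 11) (Steps.bwd (nat_lit 1) (Steps.bwd (nat_lit 14) Steps.nil)))))) (nat_lit 44) (nat_lit 5),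
  Rule.mk (nat_lit 11) (nat_lit 117) (Steps.bwd (nat_lit 14) (Steps.bwd (nat_lit 8) (Steps.fwd (nat_lit 53248) (Steps.bwd (nat_lit 4) (Steps.fwd (nat_lit 36864) (Steps.bwd (nat_lit 3) (Steps.bwd (nat_lit 9) Steps.nil))))))) (nat_lit 51) (nat_lit 2),
  Rule.mk (nat_lit 2) (nat_lit 102) (Steps.bwd (nat_lit 12) (Steps.bwd (nat_lit 1) (Steps.fwd (nat_lit 45056) (Steps.fwd (nat_lit 45056) (Steps.fwd (nat_lit 32768) (Steps.bwd (nat_lit 13) Steps.nil)))))) (nat_lit 45) (nat_lit 5),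
  Rule.mk (nat_lit 10) (nat_lit 57) (Steps.bwd (nat_lit 13) (Steps.fwd (nat_lit 40960) (Steps.fwd (nat_lit 53248) Steps.nil))) (nat_lit 39) (nat_lit 2),
  Rule.mk (nat_lit 12) (nat_lit 102) (Steps.fwd (nat_lit 8192) (Steps.bwd (nat_lit 12) (Steps.bwd (nat_lit 12) (Steps.bwd (nat_lit 7) (Steps.bwd (nat_lit 13) (Steps.fwd (nat_lit 4096) Steps.nil)))))) (nat_lit 45) (nat_lit 6),
  Rule.mk (nat_lit 1) (nat_lit 102) (Steps.bwd (nat_lit 12) (Steps.fwd (nat_lit 45056) (Steps.fwd (nat_lit 32768) (Steps.fwd (nat_lit 57344) (Steps.bwd (nat_lit 2) (Steps.bwd (nat_lit 12) Steps.nil)))))) (nat_lit 45) (nat_lit 0),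
  Rule.mk (nat_lit 10) (nat_lit 72) (Steps.fwd (nat_lit 45056) (Steps.bwd (nat_lit 9) (Steps.fwd (nat_lit 49152) (Steps.bwd (nat_lit 15) Steps.nil)))) (nat_lit 36) (nat_lit 1),
  Rule.mk (nat_lit 8) (nat_lit 87) (Steps.bwd (nat_lit 12) (Steps.fwd (nat_lit 32768) (Steps.fwd (nat_lit 49152) (Steps.fwd (nat_lit 65536) (Steps.fwd (nat_lit 65536) Steps.nil))))) (nat_lit 32) (nat_lit 1),
  Rule.mk (nat_lit 13) (nat_lit 117) (Steps.bwd (nat_lit 12) (Steps.fwd (nat_lit 45056) (Steps.bwd (nat_lit 4) (Steps.fwd (nat_lit 45056) (Steps.fwd (nat_lit 16384) (Steps.fwd (nat_lit 32768) (Steps.bwd (nat_lit 7) Steps.nil))))))) (nat_lit 53) (nat_lit 3),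
  Rule.mk (nat_lit 10) (nat_lit 57) (Steps.bwd (nat_lit 14) (Steps.bwd (nat_lit 9) (Steps.fwd (nat_lit 57344) Steps.nil))) (nat_lit 38) (nat_lit 1),
  Rule.mk (nat_lit 13) (nat_lit 72) (Steps.fwd (nat_lit 49152) (Steps.bwd (nat_lit 16) (Steps.bwd (nat_lit 14) (Steps.bwd (nat_lit 12) Steps.nil)))) (nat_lit 41) (nat_lit 4),
  Rule.mk (nat_lit 8) (nat_lit 87) (Steps.bwd (nat_lit 13) (Steps.fwd (nat_lit 32768) (Steps.fwd (nat_lit 65536) (Steps.fwd (nat_lit 65536) (Steps.fwd (nat_lit 53248) Steps.nil))))) (nat_lit 35) (nat_lit 4),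
  Rule.mk (nat_lit 8) (nat_lit 72) (Steps.fwd (nat_lit 4096) (Steps.bwd (nat_lit 10) (Steps.fwd (nat_lit 8192) (Steps.bwd (nat_lit 8) Steps.nil)))) (nat_lit 43) (nat_lit 2),
  Rule.mk (nat_lit 7) (nat_lit 72) (Steps.fwd (nat_lit 32768) (Steps.fwd (nat_lit 32768) (Steps.fwd (nat_lit 32768) (Steps.bwd (nat_lit 7) Steps.nil)))) (nat_lit 20) (nat_lit 0),
  Rule.mk (nat_lit 7) (nat_lit 87) (Steps.fwd (nat_lit 57344) (Steps.bwd (nat_lit 16) (Steps.bwd (nat_lit 16) (Steps.bwd (nat_lit 8) (Steps.bwd (nat_lit 14) Steps.nil))))) (nat_lit 34) (nat_lit 3),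
  Rule.mk (nat_lit 1) (nat_lit 117) (Steps.bwd (nat_lit 3) (Steps.fwd (nat_lit 8192) (Steps.bwd (nat_lit 3) (Steps.bwd (nat_lit 1) (Steps.bwd (nat_lit 3) (Steps.bwd (nat_lit 1) (Steps.bwd (nat_lit 3) Steps.nil))))))) (nat_lit 4) (nat_lit 1),
  Rule.mk (nat_lit 7) (nat_lit 72) (Steps.fwd (nat_lit 65536) (Steps.fwd (nat_lit 36864) (Steps.bwd (nat_lit 8) (Steps.bwd (nat_lit 9) Steps.nil)))) (nat_lit 18) (nat_lit 0),
  Rule.mk (nat_lit 1) (nat_lit 132) (Steps.bwd (nat_lit 7) (Steps.fwd (nat_lit 36864) (Steps.bwd (nat_lit 12) (Steps.fwd (nat_lit 57344) (Steps.fwd (nat_lit 32768) (Steps.fwd (nat_lit 57344) (Steps.bwd (nat_lit 2) (Steps.bwd (nat_lit 14) Steps.nil)))))))) (nat_lit 47) (nat_lit 0),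
  Rule.mk (nat_lit 4) (nat_lit 117) (Steps.bwd (nat_lit 10) (Steps.fwd (nat_lit 16384) (Steps.bwd (nat_lit 9) (Steps.fwd (nat_lit 49152) (Steps.fwd (nat_lit 53248) (Steps.bwd (nat_lit 8) (Steps.fwd (nat_lit 53248) Steps.nil))))))) (nat_lit 51) (nat_lit 6),
  Rule.mk (nat_lit 11) (nat_lit 87) (Steps.fwd (nat_lit 32768) (Steps.fwd (nat_lit 61440) (Steps.bwd (nat_lit 16) (Steps.bwd (nat_lit 12) (Steps.bwd (nat_lit 8) Steps.nil))))) (nat_lit 33) (nat_lit 5),
  Rule.mk (nat_lit 4) (nat_lit 87) (Steps.fwd (nat_lit 8192) (Steps.fwd (nat_lit 8192) (Steps.fwd (nat_lit 16384) (Steps.bwd (nat_lit 2) (Steps.bwd (nat_lit 2) Steps.nil))))) (nat_lit 6) (nat_lit 3),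
  Rule.mk (nat_lit 15) (nat_lit 72) (Steps.bwd (nat_lit 10) (Steps.fwd (nat_lit 28672) (Steps.fwd (nat_lit 40960) (Steps.bwd (nat_lit 7) Steps.nil)))) (nat_lit 18) (nat_lit 1),
  Rule.mk (nat_lit 7) (nat_lit 87) (Steps.bwd (nat_lit 13) (Steps.bwd (nat_lit 16) (Steps.bwd (nat_lit 16) (Steps.bwd (nat_lit 8) (Steps.bwd (nat_lit 14) Steps.nil))))) (nat_lit 34) (nat_lit 3),
  Rule.mk (nat_lit 14) (nat_lit 132) (Steps.fwd (nat_lit 49152) (Steps.fwd (nat_lit 40960) (Steps.bwd (nat_lit 8) (Steps.fwd (nat_lit 4096) (Steps.fwd (nat_lit 57344) (Steps.bwd (nat_lit 1) (Steps.fwd (nat_lit 53248) (Steps.bwd (nat_lit 8) Steps.nil)))))))) (nat_lit 46) (nat_lit 6),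
  Rule.mk (nat_lit 8) (nat_lit 87) (Steps.bwd (nat_lit 14) (Steps.fwd (nat_lit 32768) (Steps.bwd (nat_lit 13) (Steps.fwd (nat_lit 61440) (Steps.bwd (nat_lit 16) Steps.nil))))) (nat_lit 34) (nat_lit 1),
  Rule.mk (nat_lit 12) (nat_lit 87) (Steps.fwd (nat_lit 32768) (Steps.bwd (nat_lit 11) (Steps.bwd (nat_lit 15) (Steps.bwd (nat_lit 15) (Steps.bwd (nat_lit 8) Steps.nil))))) (nat_lit 32) (nat_lit 2),
  Rule.mk (nat_lit 13) (nat_lit 87) (Steps.bwd (nat_lit 7) (Steps.fwd (nat_lit 65536) (Steps.bwd (nat_lit 15) (Steps.bwd (nat_lit 14) (Steps.bwd (nat_lit 8) Steps.nil))))) (nat_lit 35) (nat_lit 5),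
  Rule.mk (nat_lit 3) (nat_lit 117) (Steps.bwd (nat_lit 7) (Steps.bwd (nat_lit 7) (Steps.bwd (nat_lit 13) (Steps.bwd (nat_lit 12) (Steps.bwd (nat_lit 12) (Steps.bwd (nat_lit 4) (Steps.bwd (nat_lit 12) Steps.nil))))))) (nat_lit 53) (nat_lit 0),
  Rule.mk (nat_lit 1) (nat_lit 132) (Steps.bwd (nat_lit 7) (Steps.fwd (nat_lit 36864) (Steps.fwd (nat_lit 45056) (Steps.bwd (nat_lit 13) (Steps.fwd (nat_lit 32768) (Steps.bwd (nat_lit 13) (Steps.bwd (nat_lit 2) (Steps.fwd (nat_lit 53248) Steps.nil)))))))) (nat_lit 47) (nat_lit 0),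
  Rule.mk (nat_lit 12) (nat_lit 87) (Steps.fwd (nat_lit 32768) (Steps.fwd (nat_lit 49152) (Steps.fwd (nat_lit 65536) (Steps.bwd (nat_lit 15) (Steps.bwd (nat_lit 8) Steps.nil))))) (nat_lit 32) (nat_lit 2),
  Rule.mk (nat_lit 16) (nat_lit 57) (Steps.bwd (nat_lit 10) (Steps.fwd (nat_lit 65536) (Steps.fwd (nat_lit 40960) Steps.nil))) (nat_lit 27) (nat_lit 1),
  Rule.mk (nat_lit 2) (nat_lit 102) (Steps.bwd (nat_lit 11) (Steps.fwd (nat_lit 8192) (Steps.bwd (nat_lit 14) (Steps.bwd (nat_lit 8) (Steps.fwd (nat_lit 49152) (Steps.bwd (nat_lit 11) Steps.nil)))))) (nat_lit 44) (nat_lit 1),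
  Rule.mk (nat_lit 11) (nat_lit 72) (Steps.bwd (nat_lit 13) (Steps.fwd (nat_lit 65536) (Steps.bwd (nat_lit 12) (Steps.fwd (nat_lit 53248) Steps.nil)))) (nat_lit 40) (nat_lit 3),
  Rule.mk (nat_lit 7) (nat_lit 87) (Steps.bwd (nat_lit 13) (Steps.bwd (nat_lit 16) (Steps.bwd (nat_lit 16) (Steps.fwd (nat_lit 28672) (Steps.fwd (nat_lit 53248) Steps.nil))))) (nat_lit 34) (nat_lit 3),
  Rule.mk (nat_lit 12) (nat_lit 102) (Steps.bwd (nat_lit 12) (Steps.bwd (nat_lit 7) (Steps.bwd (nat_lit 13) (Steps.fwd (nat_lit 4096) (Steps.bwd (nat_lit 12) (Steps.fwd (nat_lit 8192) Steps.nil)))))) (nat_lit 45) (nat_lit 1),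
  Rule.mk (nat_lit 13) (nat_lit 72) (Steps.bwd (nat_lit 15) (Steps.bwd (nat_lit 12) (Steps.fwd (nat_lit 53248) (Steps.fwd (nat_lit 49152) Steps.nil)))) (nat_lit 40) (nat_lit 4),
  Rule.mk (nat_lit 4) (nat_lit 117) (Steps.bwd (nat_lit 9) (Steps.bwd (nat_lit 3) (Steps.fwd (nat_lit 57344) (Steps.fwd (nat_lit 32768) (Steps.bwd (nat_lit 13) (Steps.bwd (nat_lit 12) (Steps.bwd (nat_lit 10) Steps.nil))))))) (nat_lit 50) (nat_lit 1),
  Rule.mk (nat_lit 12) (nat_lit 117) (Steps.bwd (nat_lit 3) (Steps.fwd (nat_lit 32768) (Steps.bwd (nat_lit 7) (Steps.fwd (nat_lit 57344) (Steps.bwd (nat_lit 12) (Steps.bwd (nat_lit 12) (Steps.bwd (nat_lit 4) Steps.nil))))))) (nat_lit 53) (nat_lit 7),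
  Rule.mk (nat_lit 4) (nat_lit 117) (Steps.bwd (nat_lit 11) (Steps.fwd (nat_lit 16384) (Steps.fwd (nat_lit 49152) (Steps.bwd (nat_lit 11) (Steps.fwd (nat_lit 53248) (Steps.bwd (nat_lit 8) (Steps.bwd (nat_lit 8) Steps.nil))))))) (nat_lit 52) (nat_lit 1),
  Rule.mk (nat_lit 2) (nat_lit 87) (Steps.fwd (nat_lit 4096) (Steps.fwd (nat_lit 16384) (Steps.bwd (nat_lit 1) (Steps.fwd (nat_lit 8192) (Steps.bwd (nat_lit 4) Steps.nil))))) (nat_lit 7) (nat_lit 2),
  Rule.mk (nat_lit 4) (nat_lit 72) (Steps.bwd (nat_lit 4) (Steps.bwd (nat_lit 4) (Steps.bwd (nat_lit 4) (Steps.fwd (nat_lit 12288) Steps.nil)))) (nat_lit 3) (nat_lit 0),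
  Rule.mk (nat_lit 1) (nat_lit 177) (Steps.bwd (nat_lit 4) (Steps.bwd (nat_lit 2) (Steps.fwd (nat_lit 16384) (Steps.bwd (nat_lit 1) (Steps.bwd (nat_lit 4) (Steps.bwd (nat_lit 2) (Steps.fwd (nat_lit 16384) (Steps.bwd (nat_lit 1) (Steps.fwd (nat_lit 12288) (Steps.bwd (nat_lit 2) (Steps.fwd (nat_lit 16384) Steps.nil))))))))))) (nat_lit 9) (nat_lit 0),
  Rule.mk (nat_lit 4) (nat_lit 87) (Steps.bwd (nat_lit 1) (Steps.bwd (nat_lit 1) (Steps.fwd (nat_lit 16384) (Steps.fwd (nat_lit 4096) (Steps.fwd (nat_lit 4096) Steps.nil))))) (nat_lit 6) (nat_lit 3),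
  Rule.mk (nat_lit 3) (nat_lit 87) (Steps.bwd (nat_lit 1) (Steps.bwd (nat_lit 1) (Steps.bwd (nat_lit 4) (Steps.bwd (nat_lit 2) (Steps.bwd (nat_lit 2) Steps.nil))))) (nat_lit 7) (nat_lit 4),
  Rule.mk (nat_lit 8) (nat_lit 117) (Steps.bwd (nat_lit 4) (Steps.fwd (nat_lit 49152) (Steps.bwd (nat_lit 3) (Steps.fwd (nat_lit 49152) (Steps.bwd (nat_lit 11) (Steps.bwd (nat_lit 14) (Steps.bwd (nat_lit 8) Steps.nil))))))) (nat_lit 52) (nat_lit 0),
  Rule.mk (nat_lit 3) (nat_lit 117) (Steps.bwd (nat_lit 7) (Steps.fwd (nat_lit 32768) (Steps.bwd (nat_lit 13) (Steps.fwd (nat_lit 45056) (Steps.bwd (nat_lit 12) (Steps.bwd (nat_lit 4) (Steps.bwd (nat_lit 12) Steps.nil))))))) (nat_lit 53) (nat_lit 0),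
  Rule.mk (nat_lit 13) (nat_lit 57) (Steps.fwd (nat_lit 16384) (Steps.bwd (nat_lit 6) (Steps.bwd (nat_lit 4) Steps.nil))) (nat_lit 16) (nat_lit 1),
  Rule.mk (nat_lit 15) (nat_lit 72) (Steps.fwd (nat_lit 4096) (Steps.bwd (nat_lit 16) (Steps.fwd (nat_lit 8192) (Steps.bwd (nat_lit 15) Steps.nil)))) (nat_lit 49) (nat_lit 2),
  Rule.mk (nat_lit 7) (nat_lit 87) (Steps.bwd (nat_lit 15) (Steps.bwd (nat_lit 15) (Steps.fwd (nat_lit 53248) (Steps.bwd (nat_lit 8) (Steps.bwd (nat_lit 13) Steps.nil))))) (nat_lit 35) (nat_lit 0),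
  Rule.mk (nat_lit 12) (nat_lit 87) (Steps.bwd (nat_lit 7) (Steps.fwd (nat_lit 49152) (Steps.bwd (nat_lit 15) (Steps.bwd (nat_lit 15) (Steps.bwd (nat_lit 8) Steps.nil))))) (nat_lit 32) (nat_lit 2),
  Rule.mk (nat_lit 2) (nat_lit 102) (Steps.fwd (nat_lit 45056) (Steps.bwd (nat_lit 1) (Steps.fwd (nat_lit 45056) (Steps.bwd (nat_lit 12) (Steps.bwd (nat_lit 7) (Steps.bwd (nat_lit 13) Steps.nil)))))) (nat_lit 45) (nat_lit 5),
  Rule.mk (nat_lit 1) (nat_lit 102) (Steps.bwd (nat_lit 12) (Steps.bwd (nat_lit 12) (Steps.bwd (nat_lit 7) (Steps.fwd (nat_lit 57344) (Steps.bwd (nat_lit 2) (Steps.bwd (nat_lit 12) Steps.nil)))))) (nat_lit 45) (nat_lit 0),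
  Rule.mk (nat_lit 4) (nat_lit 117) (Steps.bwd (nat_lit 12) (Steps.fwd (nat_lit 16384) (Steps.bwd (nat_lit 7) (Steps.fwd (nat_lit 32768) (Steps.bwd (nat_lit 13) (Steps.bwd (nat_lit 12) (Steps.bwd (nat_lit 12) Steps.nil))))))) (nat_lit 53) (nat_lit 6),
  Rule.mk (nat_lit 12) (nat_lit 117) (Steps.bwd (nat_lit 12) (Steps.bwd (nat_lit 4) (Steps.bwd (nat_lit 12) (Steps.fwd (nat_lit 16384) (Steps.fwd (nat_lit 32768) (Steps.fwd (nat_lit 32768) (Steps.bwd (nat_lit 13) Steps.nil))))))) (nat_lit 53) (nat_lit 4),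
  Rule.mk (nat_lit 13) (nat_lit 117) (Steps.bwd (nat_lit 12) (Steps.bwd (nat_lit 12) (Steps.bwd (nat_lit 4) (Steps.bwd (nat_lit 12) (Steps.fwd (nat_lit 16384) (Steps.fwd (nat_lit 32768) (Steps.bwd (nat_lit 7) Steps.nil))))))) (nat_lit 53) (nat_lit 3),
  Rule.mk (nat_lit 4) (nat_lit 72) (Steps.bwd (nat_lit 4) (Steps.bwd (nat_lit 4) (Steps.bwd (nat_lit 4) (Steps.bwd (nat_lit 4) Steps.nil)))) (nat_lit 3) (nat_lit 0),
  Rule.mk (nat_lit 2) (nat_lit 87) (Steps.bwd (nat_lit 4) (Steps.bwd (nat_lit 1) (Steps.bwd (nat_lit 1) (Steps.fwd (nat_lit 16384) (Steps.fwd (nat_lit 4096) Steps.nil))))) (nat_lit 6) (nat_lit 2),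
  Rule.mk (nat_lit 8) (nat_lit 87) (Steps.bwd (nat_lit 12) (Steps.bwd (nat_lit 7) (Steps.fwd (nat_lit 49152) (Steps.bwd (nat_lit 15) (Steps.bwd (nat_lit 15) Steps.nil))))) (nat_lit 32) (nat_lit 1)]
noncomputable def R_22 : List (Rule) := [Rule.mk (nat_lit 9) (nat_lit 72) (Steps.bwd (nat_lit 16) (Steps.bwd (nat_lit 8) (Steps.bwd (nat_lit 10) (Steps.fwd (nat_lit 32768) Steps.nil)))) (nat_lit 19) (nat_lit 4),
  Rule.mk (nat_lit 9) (nat_lit 72) (Steps.bwd (nat_lit 11) (Steps.fwd (nat_lit 65536) (Steps.fwd (nat_lit 36864) (Steps.fwd (nat_lit 45056) Steps.nil)))) (nat_lit 36) (nat_lit 3),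
  Rule.mk (nat_lit 11) (nat_lit 102) (Steps.bwd (nat_lit 11) (Steps.fwd (nat_lit 4096) (Steps.fwd (nat_lit 49152) (Steps.fwd (nat_lit 8192) (Steps.bwd (nat_lit 14) (Steps.fwd (nat_lit 28672) Steps.nil)))))) (nat_lit 44) (nat_lit 6),
  Rule.mk (nat_lit 10) (nat_lit 117) (Steps.bwd (nat_lit 3) (Steps.fwd (nat_lit 40960) (Steps.fwd (nat_lit 49152) (Steps.bwd (nat_lit 14) (Steps.bwd (nat_lit 8) (Steps.fwd (nat_lit 53248) (Steps.fwd (nat_lit 12288) Steps.nil))))))) (nat_lit 51) (nat_lit 7),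
  Rule.mk (nat_lit 14) (nat_lit 117) (Steps.fwd (nat_lit 28672) (Steps.fwd (nat_lit 28672) (Steps.fwd (nat_lit 12288) (Steps.bwd (nat_lit 11) (Steps.bwd (nat_lit 3) (Steps.bwd (nat_lit 11) (Steps.fwd (nat_lit 49152) Steps.nil))))))) (nat_lit 52) (nat_lit 6),
  Rule.mk (nat_lit 16) (nat_lit 57) (Steps.fwd (nat_lit 32768) (Steps.fwd (nat_lit 65536) (Steps.bwd (nat_lit 8) Steps.nil))) (nat_lit 24) (nat_lit 2),
  Rule.mk (nat_lit 10) (nat_lit 72) (Steps.bwd (nat_lit 11) (Steps.fwd (nat_lit 40960) (Steps.bwd (nat_lit 16) (Steps.fwd (nat_lit 45056) Steps.nil)))) (nat_lit 37) (nat_lit 3),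
  Rule.mk (nat_lit 14) (nat_lit 87) (Steps.bwd (nat_lit 7) (Steps.bwd (nat_lit 13) (Steps.fwd (nat_lit 61440) (Steps.fwd (nat_lit 61440) (Steps.bwd (nat_lit 8) Steps.nil))))) (nat_lit 34) (nat_lit 2),
  Rule.mk (nat_lit 4) (nat_lit 117) (Steps.bwd (nat_lit 9) (Steps.fwd (nat_lit 16384) (Steps.bwd (nat_lit 13) (Steps.bwd (nat_lit 7) (Steps.fwd (nat_lit 57344) (Steps.fwd (nat_lit 45056) (Steps.bwd (nat_lit 10) Steps.nil))))))) (nat_lit 50) (nat_lit 1),
  Rule.mk (nat_lit 3) (nat_lit 117) (Steps.bwd (nat_lit 9) (Steps.bwd (nat_lit 11) (Steps.fwd (nat_lit 53248) (Steps.fwd (nat_lit 28672) (Steps.bwd (nat_lit 14) (Steps.fwd (nat_lit 12288) (Steps.fwd (nat_lit 36864) Steps.nil))))))) (nat_lit 51) (nat_lit 0),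
  Rule.mk (nat_lit 11) (nat_lit 117) (Steps.fwd (nat_lit 53248) (Steps.bwd (nat_lit 8) (Steps.bwd (nat_lit 8) (Steps.fwd (nat_lit 12288) (Steps.bwd (nat_lit 11) (Steps.bwd (nat_lit 3) (Steps.fwd (nat_lit 49152) Steps.nil))))))) (nat_lit 52) (nat_lit 5),
  Rule.mk (nat_lit 12) (nat_lit 72) (Steps.bwd (nat_lit 14) (Steps.bwd (nat_lit 11) (Steps.fwd (nat_lit 57344) (Steps.fwd (nat_lit 65536) Steps.nil)))) (nat_lit 40) (nat_lit 1),
  Rule.mk (nat_lit 7) (nat_lit 87) (Steps.bwd (nat_lit 11) (Steps.bwd (nat_lit 15) (Steps.bwd (nat_lit 15) (Steps.fwd (nat_lit 28672) (Steps.bwd (nat_lit 12) Steps.nil))))) (nat_lit 32) (nat_lit 3),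
  Rule.mk (nat_lit 4) (nat_lit 57) (Steps.bwd (nat_lit 5) (Steps.fwd (nat_lit 16384) (Steps.fwd (nat_lit 45056) Steps.nil))) (nat_lit 15) (nat_lit 1),
  Rule.mk (nat_lit 10) (nat_lit 117) (Steps.bwd (nat_lit 3) (Steps.fwd (nat_lit 40960) (Steps.bwd (nat_lit 11) (Steps.fwd (nat_lit 53248) (Steps.fwd (nat_lit 28672) (Steps.bwd (nat_lit 14) (Steps.bwd (nat_lit 4) Steps.nil))))))) (nat_lit 51) (nat_lit 7),
  Rule.mk (nat_lit 12) (nat_lit 87) (Steps.bwd (nat_lit 8) (Steps.fwd (nat_lit 49152) (Steps.fwd (nat_lit 32768) (Steps.bwd (nat_lit 16) (Steps.fwd (nat_lit 61440) Steps.nil))))) (nat_lit 33) (nat_lit 3),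
  Rule.mk (nat_lit 4) (nat_lit 117) (Steps.fwd (nat_lit 40960) (Steps.fwd (nat_lit 16384) (Steps.fwd (nat_lit 57344) (Steps.bwd (nat_lit 7) (Steps.bwd (nat_lit 13) (Steps.fwd (nat_lit 45056) (Steps.bwd (nat_lit 10) Steps.nil))))))) (nat_lit 50) (nat_lit 1),
  Rule.mk (nat_lit 12) (nat_lit 117) (Steps.bwd (nat_lit 3) (Steps.bwd (nat_lit 7) (Steps.fwd (nat_lit 32768) (Steps.fwd (nat_lit 57344) (Steps.bwd (nat_lit 12) (Steps.bwd (nat_lit 12) (Steps.bwd (nat_lit 4) Steps.nil))))))) (nat_lit 53) (nat_lit 7),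
  Rule.mk (nat_lit 10) (nat_lit 117) (Steps.bwd (nat_lit 3) (Steps.fwd (nat_lit 40960) (Steps.fwd (nat_lit 49152) (Steps.bwd (nat_lit 14) (Steps.fwd (nat_lit 28672) (Steps.fwd (nat_lit 53248) (Steps.fwd (nat_lit 12288) Steps.nil))))))) (nat_lit 51) (nat_lit 7),
  Rule.mk (nat_lit 14) (nat_lit 87) (Steps.fwd (nat_lit 28672) (Steps.bwd (nat_lit 13) (Steps.bwd (nat_lit 7) (Steps.bwd (nat_lit 15) (Steps.bwd (nat_lit 15) Steps.nil))))) (nat_lit 35) (nat_lit 3),
  Rule.mk (nat_lit 1) (nat_lit 72) (Steps.fwd (nat_lit 28672) (Steps.fwd (nat_lit 28672) (Steps.fwd (nat_lit 4096) (Steps.bwd (nat_lit 10) Steps.nil)))) (nat_lit 43) (nat_lit 0),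
  Rule.mk (nat_lit 1) (nat_lit 87) (Steps.bwd (nat_lit 1) (Steps.fwd (nat_lit 12288) (Steps.bwd (nat_lit 2) (Steps.fwd (nat_lit 4096) (Steps.fwd (nat_lit 16384) Steps.nil))))) (nat_lit 7) (nat_lit 5),
  Rule.mk (nat_lit 16) (nat_lit 57) (Steps.fwd (nat_lit 28672) (Steps.bwd (nat_lit 15) (Steps.bwd (nat_lit 7) Steps.nil))) (nat_lit 25) (nat_lit 1),
  Rule.mk (nat_lit 10) (nat_lit 72) (Steps.bwd (nat_lit 11) (Steps.bwd (nat_lit 9) (Steps.bwd (nat_lit 16) (Steps.fwd (nat_lit 45056) Steps.nil)))) (nat_lit 37) (nat_lit 3),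
  Rule.mk (nat_lit 14) (nat_lit 72) (Steps.bwd (nat_lit 11) (Steps.bwd (nat_lit 13) (Steps.fwd (nat_lit 65536) (Steps.fwd (nat_lit 45056) Steps.nil)))) (nat_lit 40) (nat_lit 2),
  Rule.mk (nat_lit 7) (nat_lit 132) (Steps.bwd (nat_lit 13) (Steps.bwd (nat_lit 2) (Steps.fwd (nat_lit 53248) (Steps.fwd (nat_lit 8192) (Steps.bwd (nat_lit 7) (Steps.fwd (nat_lit 36864) (Steps.fwd (nat_lit 45056) (Steps.bwd (nat_lit 13) Steps.nil)))))))) (nat_lit 47) (nat_lit 5),
  Rule.mk (nat_lit 1) (nat_lit 102) (Steps.bwd (nat_lit 12) (Steps.fwd (nat_lit 45056) (Steps.bwd (nat_lit 7) (Steps.bwd (nat_lit 13) (Steps.bwd (nat_lit 2) (Steps.fwd (nat_lit 45056) Steps.nil)))))) (nat_lit 45) (nat_lit 0),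
  Rule.mk (nat_lit 10) (nat_lit 72) (Steps.fwd (nat_lit 28672) (Steps.fwd (nat_lit 40960) (Steps.fwd (nat_lit 32768) (Steps.bwd (nat_lit 15) Steps.nil)))) (nat_lit 18) (nat_lit 2),
  Rule.mk (nat_lit 16) (nat_lit 57) (Steps.fwd (nat_lit 49152) (Steps.bwd (nat_lit 15) (Steps.bwd (nat_lit 12) Steps.nil))) (nat_lit 28) (nat_lit 2),
  Rule.mk (nat_lit 2) (nat_lit 87) (Steps.bwd (nat_lit 3) (Steps.bwd (nat_lit 1) (Steps.fwd (nat_lit 8192) (Steps.bwd (nat_lit 4) (Steps.fwd (nat_lit 4096) Steps.nil))))) (nat_lit 7) (nat_lit 3),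
  Rule.mk (nat_lit 11) (nat_lit 102) (Steps.bwd (nat_lit 1) (Steps.bwd (nat_lit 14) (Steps.fwd (nat_lit 28672) (Steps.bwd (nat_lit 11) (Steps.bwd (nat_lit 11) (Steps.bwd (nat_lit 2) Steps.nil)))))) (nat_lit 44) (nat_lit 2),
  Rule.mk (nat_lit 13) (nat_lit 87) (Steps.bwd (nat_lit 16) (Steps.bwd (nat_lit 16) (Steps.bwd (nat_lit 8) (Steps.fwd (nat_lit 53248) (Steps.bwd (nat_lit 7) Steps.nil))))) (nat_lit 34) (nat_lit 4),
  Rule.mk (nat_lit 1) (nat_lit 87) (Steps.bwd (nat_lit 3) (Steps.bwd (nat_lit 2) (Steps.bwd (nat_lit 2) (Steps.bwd (nat_lit 4) (Steps.bwd (nat_lit 1) Steps.nil))))) (nat_lit 6) (nat_lit 5),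
  Rule.mk (nat_lit 8) (nat_lit 72) (Steps.fwd (nat_lit 28672) (Steps.fwd (nat_lit 28672) (Steps.fwd (nat_lit 28672) (Steps.bwd (nat_lit 8) Steps.nil)))) (nat_lit 21) (nat_lit 0),
  Rule.mk (nat_lit 16) (nat_lit 57) (Steps.fwd (nat_lit 28672) (Steps.fwd (nat_lit 65536) (Steps.bwd (nat_lit 7) Steps.nil))) (nat_lit 25) (nat_lit 1),
  Rule.mk (nat_lit 9) (nat_lit 72) (Steps.bwd (nat_lit 16) (Steps.fwd (nat_lit 28672) (Steps.bwd (nat_lit 10) (Steps.bwd (nat_lit 7) Steps.nil)))) (nat_lit 19) (nat_lit 4),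
  Rule.mk (nat_lit 2) (nat_lit 102) (Steps.bwd (nat_lit 11) (Steps.fwd (nat_lit 8192) (Steps.bwd (nat_lit 14) (Steps.fwd (nat_lit 28672) (Steps.bwd (nat_lit 11) (Steps.fwd (nat_lit 49152) Steps.nil)))))) (nat_lit 44) (nat_lit 1),
  Rule.mk (nat_lit 4) (nat_lit 177) (Steps.bwd (nat_lit 2) (Steps.fwd (nat_lit 16384) (Steps.bwd (nat_lit 1) (Steps.bwd (nat_lit 4) (Steps.bwd (nat_lit 2) (Steps.bwd (nat_lit 3) (Steps.fwd (nat_lit 8192) (Steps.fwd (nat_lit 12288) (Steps.bwd (nat_lit 2) (Steps.bwd (nat_lit 3) (Steps.bwd (nat_lit 1) Steps.nil))))))))))) (nat_lit 9) (nat_lit 1),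
  Rule.mk (nat_lit 12) (nat_lit 102) (Steps.bwd (nat_lit 7) (Steps.bwd (nat_lit 13) (Steps.bwd (nat_lit 2) (Steps.fwd (nat_lit 45056) (Steps.fwd (nat_lit 8192) (Steps.bwd (nat_lit 12) Steps.nil)))))) (nat_lit 45) (nat_lit 2),
  Rule.mk (nat_lit 11) (nat_lit 117) (Steps.bwd (nat_lit 14) (Steps.bwd (nat_lit 8) (Steps.fwd (nat_lit 53248) (Steps.bwd (nat_lit 4) (Steps.fwd (nat_lit 36864) (Steps.bwd (nat_lit 3) (Steps.fwd (nat_lit 40960) Steps.nil))))))) (nat_lit 51) (nat_lit 2),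
  Rule.mk (nat_lit 3) (nat_lit 57) (Steps.bwd (nat_lit 5) (Steps.fwd (nat_lit 12288) (Steps.fwd (nat_lit 53248) Steps.nil))) (nat_lit 17) (nat_lit 1),
  Rule.mk (nat_lit 10) (nat_lit 72) (Steps.fwd (nat_lit 8192) (Steps.fwd (nat_lit 28672) (Steps.fwd (nat_lit 28672) (Steps.bwd (nat_lit 2) Steps.nil)))) (nat_lit 43) (nat_lit 4),
  Rule.mk (nat_lit 8) (nat_lit 117) (Steps.bwd (nat_lit 14) (Steps.fwd (nat_lit 12288) (Steps.fwd (nat_lit 36864) (Steps.bwd (nat_lit 3) (Steps.bwd (nat_lit 9) (Steps.fwd (nat_lit 49152) (Steps.bwd (nat_lit 14) Steps.nil))))))) (nat_lit 51) (nat_lit 4),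
  Rule.mk (nat_lit 14) (nat_lit 87) (Steps.bwd (nat_lit 8) (Steps.bwd (nat_lit 13) (Steps.fwd (nat_lit 32768) (Steps.fwd (nat_lit 65536) (Steps.bwd (nat_lit 15) Steps.nil))))) (nat_lit 35) (nat_lit 3),
  Rule.mk (nat_lit 9) (nat_lit 57) (Steps.fwd (nat_lit 65536) (Steps.bwd (nat_lit 10) (Steps.bwd (nat_lit 16) Steps.nil))) (nat_lit 26) (nat_lit 3),
  Rule.mk (nat_lit 10) (nat_lit 72) (Steps.fwd (nat_lit 28672) (Steps.bwd (nat_lit 9) (Steps.bwd (nat_lit 7) (Steps.bwd (nat_lit 15) Steps.nil)))) (nat_lit 18) (nat_lit 2),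
  Rule.mk (nat_lit 13) (nat_lit 117) (Steps.fwd (nat_lit 45056) (Steps.fwd (nat_lit 45056) (Steps.bwd (nat_lit 4) (Steps.fwd (nat_lit 45056) (Steps.fwd (nat_lit 16384) (Steps.bwd (nat_lit 7) (Steps.bwd (nat_lit 7) Steps.nil))))))) (nat_lit 53) (nat_lit 3),
  Rule.mk (nat_lit 12) (nat_lit 87) (Steps.bwd (nat_lit 7) (Steps.fwd (nat_lit 49152) (Steps.fwd (nat_lit 65536) (Steps.bwd (nat_lit 15) (Steps.fwd (nat_lit 28672) Steps.nil))))) (nat_lit 32) (nat_lit 2),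
  Rule.mk (nat_lit 7) (nat_lit 117) (Steps.bwd (nat_lit 7) (Steps.fwd (nat_lit 57344) (Steps.fwd (nat_lit 45056) (Steps.bwd (nat_lit 12) (Steps.bwd (nat_lit 4) (Steps.fwd (nat_lit 45056) (Steps.fwd (nat_lit 16384) Steps.nil))))))) (nat_lit 53) (nat_lit 1),
  Rule.mk (nat_lit 9) (nat_lit 72) (Steps.fwd (nat_lit 61440) (Steps.bwd (nat_lit 12) (Steps.fwd (nat_lit 36864) (Steps.bwd (nat_lit 11) Steps.nil)))) (nat_lit 37) (nat_lit 0),
  Rule.mk (nat_lit 7) (nat_lit 87) (Steps.bwd (nat_lit 15) (Steps.bwd (nat_lit 15) (Steps.bwd (nat_lit 14) (Steps.fwd (nat_lit 28672) (Steps.bwd (nat_lit 13) Steps.nil))))) (nat_lit 35) (nat_lit 0),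
  Rule.mk (nat_lit 3) (nat_lit 87) (Steps.bwd (nat_lit 2) (Steps.bwd (nat_lit 2) (Steps.fwd (nat_lit 12288) (Steps.bwd (nat_lit 1) (Steps.fwd (nat_lit 8192) Steps.nil))))) (nat_lit 6) (nat_lit 0),
  Rule.mk (nat_lit 2) (nat_lit 87) (Steps.bwd (nat_lit 2) (Steps.bwd (nat_lit 3) (Steps.bwd (nat_lit 1) (Steps.bwd (nat_lit 1) (Steps.fwd (nat_lit 12288) Steps.nil))))) (nat_lit 7) (nat_lit 2),
  Rule.mk (nat_lit 3) (nat_lit 87) (Steps.fwd (nat_lit 8192) (Steps.fwd (nat_lit 8192) (Steps.bwd (nat_lit 4) (Steps.fwd (nat_lit 4096) (Steps.bwd (nat_lit 2) Steps.nil))))) (nat_lit 7) (nat_lit 4),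
  Rule.mk (nat_lit 11) (nat_lit 117) (Steps.bwd (nat_lit 3) (Steps.bwd (nat_lit 11) (Steps.bwd (nat_lit 11) (Steps.fwd (nat_lit 53248) (Steps.fwd (nat_lit 28672) (Steps.bwd (nat_lit 8) (Steps.fwd (nat_lit 12288) Steps.nil))))))) (nat_lit 52) (nat_lit 2),
  Rule.mk (nat_lit 4) (nat_lit 117) (Steps.bwd (nat_lit 9) (Steps.fwd (nat_lit 16384) (Steps.bwd (nat_lit 13) (Steps.bwd (nat_lit 7) (Steps.bwd (nat_lit 13) (Steps.bwd (nat_lit 12) (Steps.fwd (nat_lit 36864) Steps.nil))))))) (nat_lit 50) (nat_lit 1),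
  Rule.mk (nat_lit 1) (nat_lit 102) (Steps.bwd (nat_lit 12) (Steps.fwd (nat_lit 45056) (Steps.fwd (nat_lit 32768) (Steps.bwd (nat_lit 13) (Steps.bwd (nat_lit 2) (Steps.bwd (nat_lit 12) Steps.nil)))))) (nat_lit 45) (nat_lit 0),
  Rule.mk (nat_lit 4) (nat_lit 87) (Steps.fwd (nat_lit 4096) (Steps.bwd (nat_lit 2) (Steps.fwd (nat_lit 16384) (Steps.fwd (nat_lit 8192) (Steps.bwd (nat_lit 1) Steps.nil))))) (nat_lit 7) (nat_lit 1),
  Rule.mk (nat_lit 10) (nat_lit 117) (Steps.bwd (nat_lit 3) (Steps.fwd (nat_lit 40960) (Steps.bwd (nat_lit 11) (Steps.fwd (nat_lit 53248) (Steps.bwd (nat_lit 8) (Steps.fwd (nat_lit 53248) (Steps.fwd (nat_lit 12288) Steps.nil))))))) (nat_lit 51) (nat_lit 7),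
  Rule.mk (nat_lit 4) (nat_lit 117) (Steps.bwd (nat_lit 9) (Steps.fwd (nat_lit 16384) (Steps.bwd (nat_lit 13) (Steps.fwd (nat_lit 32768) (Steps.fwd (nat_lit 57344) (Steps.fwd (nat_lit 45056) (Steps.fwd (nat_lit 36864) Steps.nil))))))) (nat_lit 50) (nat_lit 1),
  Rule.mk (nat_lit 11) (nat_lit 102) (Steps.fwd (nat_lit 8192) (Steps.fwd (nat_lit 53248) (Steps.bwd (nat_lit 8) (Steps.bwd (nat_lit 11) (Steps.fwd (nat_lit 49152) (Steps.bwd (nat_lit 2) Steps.nil)))))) (nat_lit 44) (nat_lit 2),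
  Rule.mk (nat_lit 12) (nat_lit 102) (Steps.bwd (nat_lit 12) (Steps.fwd (nat_lit 32768) (Steps.fwd (nat_lit 57344) (Steps.bwd (nat_lit 2) (Steps.fwd (nat_lit 45056) (Steps.bwd (nat_lit 1) Steps.nil)))))) (nat_lit 45) (nat_lit 1),
  Rule.mk (nat_lit 4) (nat_lit 87) (Steps.fwd (nat_lit 4096) (Steps.bwd (nat_lit 2) (Steps.bwd (nat_lit 3) (Steps.bwd (nat_lit 1) (Steps.bwd (nat_lit 1) Steps.nil))))) (nat_lit 7) (nat_lit 1),
  Rule.mk (nat_lit 8) (nat_lit 87) (Steps.bwd (nat_lit 14) (Steps.fwd (nat_lit 32768) (Steps.fwd (nat_lit 57344) (Steps.fwd (nat_lit 61440) (Steps.bwd (nat_lit 16) Steps.nil))))) (nat_lit 34) (nat_lit 1)]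
noncomputable def R_23 : List (Rule) := [Rule.mk (nat_lit 3) (nat_lit 72) (Steps.bwd (nat_lit 3) (Steps.bwd (nat_lit 3) (Steps.fwd (nat_lit 16384) (Steps.fwd (nat_lit 16384) Steps.nil)))) (nat_lit 2) (nat_lit 0),
  Rule.mk (nat_lit 10) (nat_lit 117) (Steps.bwd (nat_lit 3) (Steps.fwd (nat_lit 40960) (Steps.bwd (nat_lit 11) (Steps.bwd (nat_lit 14) (Steps.fwd (nat_lit 28672) (Steps.bwd (nat_lit 14) (Steps.bwd (nat_lit 4) Steps.nil))))))) (nat_lit 51) (nat_lit 7),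
  Rule.mk (nat_lit 9) (nat_lit 72) (Steps.fwd (nat_lit 61440) (Steps.bwd (nat_lit 12) (Steps.bwd (nat_lit 10) (Steps.bwd (nat_lit 11) Steps.nil)))) (nat_lit 37) (nat_lit 0),
  Rule.mk (nat_lit 13) (nat_lit 57) (Steps.fwd (nat_lit 40960) (Steps.fwd (nat_lit 53248) (Steps.bwd (nat_lit 10) Steps.nil))) (nat_lit 39) (nat_lit 3),
  Rule.mk (nat_lit 15) (nat_lit 57) (Steps.fwd (nat_lit 12288) (Steps.bwd (nat_lit 16) (Steps.bwd (nat_lit 3) Steps.nil))) (nat_lit 55) (nat_lit 1),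
  Rule.mk (nat_lit 7) (nat_lit 117) (Steps.bwd (nat_lit 13) (Steps.bwd (nat_lit 12) (Steps.fwd (nat_lit 45056) (Steps.bwd (nat_lit 4) (Steps.fwd (nat_lit 45056) (Steps.bwd (nat_lit 3) (Steps.bwd (nat_lit 7) Steps.nil))))))) (nat_lit 53) (nat_lit 2),
  Rule.mk (nat_lit 12) (nat_lit 102) (Steps.bwd (nat_lit 7) (Steps.fwd (nat_lit 57344) (Steps.bwd (nat_lit 2) (Steps.bwd (nat_lit 12) (Steps.bwd (nat_lit 1) (Steps.bwd (nat_lit 12) Steps.nil)))))) (nat_lit 45) (nat_lit 2),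
  Rule.mk (nat_lit 11) (nat_lit 72) (Steps.bwd (nat_lit 16) (Steps.fwd (nat_lit 53248) (Steps.bwd (nat_lit 12) (Steps.bwd (nat_lit 13) Steps.nil)))) (nat_lit 41) (nat_lit 0),
  Rule.mk (nat_lit 3) (nat_lit 117) (Steps.fwd (nat_lit 49152) (Steps.fwd (nat_lit 49152) (Steps.bwd (nat_lit 14) (Steps.fwd (nat_lit 28672) (Steps.bwd (nat_lit 8) (Steps.fwd (nat_lit 12288) (Steps.bwd (nat_lit 11) Steps.nil))))))) (nat_lit 52) (nat_lit 3),
  Rule.mk (nat_lit 2) (nat_lit 87) (Steps.bwd (nat_lit 4) (Steps.bwd (nat_lit 1) (Steps.bwd (nat_lit 1) (Steps.fwd (nat_lit 16384) (Steps.bwd (nat_lit 2) Steps.nil))))) (nat_lit 6) (nat_lit 2),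
  Rule.mk (nat_lit 11) (nat_lit 102) (Steps.bwd (nat_lit 1) (Steps.fwd (nat_lit 53248) (Steps.bwd (nat_lit 8) (Steps.bwd (nat_lit 11) (Steps.bwd (nat_lit 11) (Steps.bwd (nat_lit 2) Steps.nil)))))) (nat_lit 44) (nat_lit 2),
  Rule.mk (nat_lit 9) (nat_lit 117) (Steps.bwd (nat_lit 11) (Steps.bwd (nat_lit 14) (Steps.bwd (nat_lit 8) (Steps.bwd (nat_lit 14) (Steps.fwd (nat_lit 12288) (Steps.bwd (nat_lit 10) (Steps.bwd (nat_lit 3) Steps.nil))))))) (nat_lit 51) (nat_lit 1),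
  Rule.mk (nat_lit 10) (nat_lit 57) (Steps.fwd (nat_lit 4096) (Steps.fwd (nat_lit 24576) (Steps.bwd (nat_lit 1) Steps.nil))) (nat_lit 13) (nat_lit 0),
  Rule.mk (nat_lit 7) (nat_lit 87) (Steps.bwd (nat_lit 11) (Steps.bwd (nat_lit 15) (Steps.bwd (nat_lit 15) (Steps.bwd (nat_lit 8) (Steps.fwd (nat_lit 45056) Steps.nil))))) (nat_lit 32) (nat_lit 3),
  Rule.mk (nat_lit 2) (nat_lit 102) (Steps.bwd (nat_lit 11) (Steps.fwd (nat_lit 8192) (Steps.fwd (nat_lit 53248) (Steps.bwd (nat_lit 8) (Steps.bwd (nat_lit 11) (Steps.fwd (nat_lit 49152) Steps.nil)))))) (nat_lit 44) (nat_lit 1),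
  Rule.mk (nat_lit 2) (nat_lit 132) (Steps.bwd (nat_lit 13) (Steps.fwd (nat_lit 8192) (Steps.fwd (nat_lit 53248) (Steps.bwd (nat_lit 8) (Steps.bwd (nat_lit 14) (Steps.bwd (nat_lit 11) (Steps.fwd (nat_lit 40960) (Steps.bwd (nat_lit 8) Steps.nil)))))))) (nat_lit 46) (nat_lit 1),
  Rule.mk (nat_lit 8) (nat_lit 117) (Steps.fwd (nat_lit 53248) (Steps.fwd (nat_lit 12288) (Steps.bwd (nat_lit 10) (Steps.bwd (nat_lit 3) (Steps.bwd (nat_lit 9) (Steps.bwd (nat_lit 11) (Steps.fwd (nat_lit 53248) Steps.nil))))))) (nat_lit 51) (nat_lit 4),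
  Rule.mk (nat_lit 12) (nat_lit 102) (Steps.bwd (nat_lit 1) (Steps.bwd (nat_lit 12) (Steps.fwd (nat_lit 45056) (Steps.fwd (nat_lit 32768) (Steps.fwd (nat_lit 57344) (Steps.fwd (nat_lit 4096) Steps.nil)))))) (nat_lit 45) (nat_lit 6),
  Rule.mk (nat_lit 10) (nat_lit 117) (Steps.fwd (nat_lit 12288) (Steps.bwd (nat_lit 9) (Steps.bwd (nat_lit 3) (Steps.bwd (nat_lit 13) (Steps.fwd (nat_lit 32768) (Steps.fwd (nat_lit 57344) (Steps.bwd (nat_lit 12) Steps.nil))))))) (nat_lit 50) (nat_lit 0),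
  Rule.mk (nat_lit 14) (nat_lit 87) (Steps.bwd (nat_lit 8) (Steps.bwd (nat_lit 13) (Steps.bwd (nat_lit 7) (Steps.fwd (nat_lit 65536) (Steps.fwd (nat_lit 65536) Steps.nil))))) (nat_lit 35) (nat_lit 3),
  Rule.mk (nat_lit 1) (nat_lit 87) (Steps.bwd (nat_lit 4) (Steps.bwd (nat_lit 2) (Steps.fwd (nat_lit 4096) (Steps.bwd (nat_lit 3) (Steps.bwd (nat_lit 1) Steps.nil))))) (nat_lit 7) (nat_lit 0),
  Rule.mk (nat_lit 14) (nat_lit 57) (Steps.fwd (nat_lit 61440) (Steps.fwd (nat_lit 57344) (Steps.bwd (nat_lit 15) Steps.nil))) (nat_lit 30) (nat_lit 1),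
  Rule.mk (nat_lit 14) (nat_lit 117) (Steps.bwd (nat_lit 8) (Steps.fwd (nat_lit 53248) (Steps.fwd (nat_lit 12288) (Steps.bwd (nat_lit 10) (Steps.bwd (nat_lit 3) (Steps.bwd (nat_lit 9) (Steps.fwd (nat_lit 49152) Steps.nil))))))) (nat_lit 51) (nat_lit 3),
  Rule.mk (nat_lit 14) (nat_lit 117) (Steps.bwd (nat_lit 8) (Steps.bwd (nat_lit 8) (Steps.fwd (nat_lit 12288) (Steps.bwd (nat_lit 11) (Steps.fwd (nat_lit 16384) (Steps.fwd (nat_lit 49152) (Steps.bwd (nat_lit 11) Steps.nil))))))) (nat_lit 52) (nat_lit 6),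
  Rule.mk (nat_lit 11) (nat_lit 87) (Steps.bwd (nat_lit 15) (Steps.fwd (nat_lit 65536) (Steps.fwd (nat_lit 28672) (Steps.fwd (nat_lit 45056) (Steps.bwd (nat_lit 7) Steps.nil))))) (nat_lit 32) (nat_lit 4),
  Rule.mk (nat_lit 11) (nat_lit 117) (Steps.fwd (nat_lit 53248) (Steps.fwd (nat_lit 28672) (Steps.bwd (nat_lit 8) (Steps.fwd (nat_lit 12288) (Steps.bwd (nat_lit 11) (Steps.fwd (nat_lit 16384) (Steps.bwd (nat_lit 11) Steps.nil))))))) (nat_lit 52) (nat_lit 5),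
  Rule.mk (nat_lit 7) (nat_lit 87) (Steps.fwd (nat_lit 65536) (Steps.fwd (nat_lit 65536) (Steps.fwd (nat_lit 53248) (Steps.bwd (nat_lit 8) (Steps.bwd (nat_lit 13) Steps.nil))))) (nat_lit 35) (nat_lit 0),
  Rule.mk (nat_lit 8) (nat_lit 72) (Steps.fwd (nat_lit 36864) (Steps.bwd (nat_lit 7) (Steps.fwd (nat_lit 40960) (Steps.fwd (nat_lit 61440) Steps.nil)))) (nat_lit 19) (nat_lit 1),
  Rule.mk (nat_lit 11) (nat_lit 117) (Steps.bwd (nat_lit 14) (Steps.bwd (nat_lit 8) (Steps.fwd (nat_lit 28672) (Steps.fwd (nat_lit 12288) (Steps.bwd (nat_lit 11) (Steps.bwd (nat_lit 3) (Steps.bwd (nat_lit 11) Steps.nil))))))) (nat_lit 52) (nat_lit 5),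
  Rule.mk (nat_lit 14) (nat_lit 72) (Steps.bwd (nat_lit 11) (Steps.fwd (nat_lit 57344) (Steps.bwd (nat_lit 15) (Steps.fwd (nat_lit 45056) Steps.nil)))) (nat_lit 40) (nat_lit 2),
  Rule.mk (nat_lit 10) (nat_lit 72) (Steps.bwd (nat_lit 11) (Steps.fwd (nat_lit 40960) (Steps.fwd (nat_lit 61440) (Steps.fwd (nat_lit 45056) Steps.nil)))) (nat_lit 37) (nat_lit 3),
  Rule.mk (nat_lit 4) (nat_lit 117) (Steps.bwd (nat_lit 10) (Steps.bwd (nat_lit 3) (Steps.fwd (nat_lit 40960) (Steps.bwd (nat_lit 11) (Steps.fwd (nat_lit 53248) (Steps.bwd (nat_lit 8) (Steps.bwd (nat_lit 14) Steps.nil))))))) (nat_lit 51) (nat_lit 6),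
  Rule.mk (nat_lit 2) (nat_lit 87) (Steps.fwd (nat_lit 4096) (Steps.bwd (nat_lit 3) (Steps.fwd (nat_lit 8192) (Steps.bwd (nat_lit 1) (Steps.bwd (nat_lit 4) Steps.nil))))) (nat_lit 7) (nat_lit 2),
  Rule.mk (nat_lit 7) (nat_lit 72) (Steps.bwd (nat_lit 2) (Steps.bwd (nat_lit 9) (Steps.bwd (nat_lit 1) (Steps.fwd (nat_lit 32768) Steps.nil)))) (nat_lit 42) (nat_lit 0),
  Rule.mk (nat_lit 2) (nat_lit 117) (Steps.bwd (nat_lit 2) (Steps.bwd (nat_lit 2) (Steps.fwd (nat_lit 4096) (Steps.fwd (nat_lit 4096) (Steps.fwd (nat_lit 4096) (Steps.bwd (nat_lit 2) (Steps.bwd (nat_lit 2) Steps.nil))))))) (nat_lit 1) (nat_lit 0),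
  Rule.mk (nat_lit 11) (nat_lit 117) (Steps.bwd (nat_lit 14) (Steps.fwd (nat_lit 28672) (Steps.fwd (nat_lit 53248) (Steps.fwd (nat_lit 12288) (Steps.bwd (nat_lit 10) (Steps.fwd (nat_lit 16384) (Steps.bwd (nat_lit 9) Steps.nil))))))) (nat_lit 51) (nat_lit 2),
  Rule.mk (nat_lit 15) (nat_lit 72) (Steps.bwd (nat_lit 10) (Steps.bwd (nat_lit 12) (Steps.bwd (nat_lit 9) (Steps.fwd (nat_lit 49152) Steps.nil)))) (nat_lit 36) (nat_lit 0),
  Rule.mk (nat_lit 8) (nat_lit 117) (Steps.bwd (nat_lit 14) (Steps.fwd (nat_lit 12288) (Steps.fwd (nat_lit 36864) (Steps.bwd (nat_lit 3) (Steps.fwd (nat_lit 40960) (Steps.fwd (nat_lit 49152) (Steps.bwd (nat_lit 14) Steps.nil))))))) (nat_lit 51) (nat_lit 4),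
  Rule.mk (nat_lit 2) (nat_lit 87) (Steps.fwd (nat_lit 16384) (Steps.bwd (nat_lit 1) (Steps.fwd (nat_lit 8192) (Steps.bwd (nat_lit 4) (Steps.bwd (nat_lit 2) Steps.nil))))) (nat_lit 7) (nat_lit 3),
  Rule.mk (nat_lit 14) (nat_lit 132) (Steps.bwd (nat_lit 11) (Steps.fwd (nat_lit 40960) (Steps.bwd (nat_lit 8) (Steps.bwd (nat_lit 2) (Steps.bwd (nat_lit 13) (Steps.bwd (nat_lit 1) (Steps.bwd (nat_lit 14) (Steps.fwd (nat_lit 28672) Steps.nil)))))))) (nat_lit 46) (nat_lit 6),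
  Rule.mk (nat_lit 4) (nat_lit 117) (Steps.bwd (nat_lit 10) (Steps.fwd (nat_lit 16384) (Steps.fwd (nat_lit 40960) (Steps.bwd (nat_lit 11) (Steps.bwd (nat_lit 14) (Steps.fwd (nat_lit 28672) (Steps.bwd (nat_lit 14) Steps.nil))))))) (nat_lit 51) (nat_lit 6),
  Rule.mk (nat_lit 3) (nat_lit 117) (Steps.fwd (nat_lit 32768) (Steps.bwd (nat_lit 7) (Steps.bwd (nat_lit 13) (Steps.bwd (nat_lit 12) (Steps.fwd (nat_lit 45056) (Steps.bwd (nat_lit 4) (Steps.bwd (nat_lit 12) Steps.nil))))))) (nat_lit 53) (nat_lit 0),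
  Rule.mk (nat_lit 2) (nat_lit 72) (Steps.fwd (nat_lit 61440) (Steps.bwd (nat_lit 1) (Steps.fwd (nat_lit 65536) (Steps.bwd (nat_lit 15) Steps.nil)))) (nat_lit 49) (nat_lit 3),
  Rule.mk (nat_lit 7) (nat_lit 117) (Steps.fwd (nat_lit 57344) (Steps.fwd (nat_lit 45056) (Steps.bwd (nat_lit 10) (Steps.bwd (nat_lit 4) (Steps.bwd (nat_lit 9) (Steps.fwd (nat_lit 16384) (Steps.bwd (nat_lit 13) Steps.nil))))))) (nat_lit 50) (nat_lit 5),
  Rule.mk (nat_lit 8) (nat_lit 87) (Steps.bwd (nat_lit 12) (Steps.bwd (nat_lit 7) (Steps.bwd (nat_lit 11) (Steps.bwd (nat_lit 15) (Steps.bwd (nat_lit 15) Steps.nil))))) (nat_lit 32) (nat_lit 1),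
  Rule.mk (nat_lit 13) (nat_lit 117) (Steps.bwd (nat_lit 12) (Steps.bwd (nat_lit 10) (Steps.fwd (nat_lit 12288) (Steps.bwd (nat_lit 9) (Steps.fwd (nat_lit 16384) (Steps.fwd (nat_lit 57344) (Steps.fwd (nat_lit 32768) Steps.nil))))))) (nat_lit 50) (nat_lit 6),
  Rule.mk (nat_lit 11) (nat_lit 117) (Steps.bwd (nat_lit 14) (Steps.fwd (nat_lit 28672) (Steps.bwd (nat_lit 8) (Steps.fwd (nat_lit 12288) (Steps.fwd (nat_lit 49152) (Steps.bwd (nat_lit 3) (Steps.fwd (nat_lit 49152) Steps.nil))))))) (nat_lit 52) (nat_lit 5),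
  Rule.mk (nat_lit 1) (nat_lit 87) (Steps.bwd (nat_lit 4) (Steps.bwd (nat_lit 2) (Steps.fwd (nat_lit 4096) (Steps.fwd (nat_lit 16384) (Steps.fwd (nat_lit 8192) Steps.nil))))) (nat_lit 7) (nat_lit 0),
  Rule.mk (nat_lit 1) (nat_lit 87) (Steps.bwd (nat_lit 1) (Steps.fwd (nat_lit 16384) (Steps.bwd (nat_lit 2) (Steps.bwd (nat_lit 2) (Steps.bwd (nat_lit 4) Steps.nil))))) (nat_lit 6) (nat_lit 4),
  Rule.mk (nat_lit 16) (nat_lit 72) (Steps.bwd (nat_lit 8) (Steps.bwd (nat_lit 10) (Steps.fwd (nat_lit 32768) (Steps.fwd (nat_lit 40960) Steps.nil)))) (nat_lit 19) (nat_lit 0),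
  Rule.mk (nat_lit 8) (nat_lit 72) (Steps.bwd (nat_lit 8) (Steps.fwd (nat_lit 28672) (Steps.fwd (nat_lit 28672) (Steps.fwd (nat_lit 28672) Steps.nil)))) (nat_lit 21) (nat_lit 0),
  Rule.mk (nat_lit 14) (nat_lit 102) (Steps.bwd (nat_lit 8) (Steps.bwd (nat_lit 11) (Steps.fwd (nat_lit 49152) (Steps.bwd (nat_lit 2) (Steps.fwd (nat_lit 49152) (Steps.bwd (nat_lit 1) Steps.nil)))))) (nat_lit 44) (nat_lit 4),
  Rule.mk (nat_lit 11) (nat_lit 117) (Steps.bwd (nat_lit 3) (Steps.bwd (nat_lit 11) (Steps.fwd (nat_lit 49152) (Steps.fwd (nat_lit 53248) (Steps.bwd (nat_lit 8) (Steps.fwd (nat_lit 28672) (Steps.bwd (nat_lit 4) Steps.nil))))))) (nat_lit 52) (nat_lit 2),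
  Rule.mk (nat_lit 9) (nat_lit 72) (Steps.bwd (nat_lit 11) (Steps.fwd (nat_lit 65536) (Steps.bwd (nat_lit 10) (Steps.bwd (nat_lit 12) Steps.nil)))) (nat_lit 36) (nat_lit 3),
  Rule.mk (nat_lit 16) (nat_lit 72) (Steps.bwd (nat_lit 12) (Steps.bwd (nat_lit 10) (Steps.fwd (nat_lit 49152) (Steps.bwd (nat_lit 9) Steps.nil)))) (nat_lit 37) (nat_lit 1),
  Rule.mk (nat_lit 3) (nat_lit 117) (Steps.fwd (nat_lit 49152) (Steps.bwd (nat_lit 11) (Steps.fwd (nat_lit 53248) (Steps.bwd (nat_lit 8) (Steps.bwd (nat_lit 8) (Steps.bwd (nat_lit 4) (Steps.fwd (nat_lit 49152) Steps.nil))))))) (nat_lit 52) (nat_lit 3),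
  Rule.mk (nat_lit 11) (nat_lit 117) (Steps.bwd (nat_lit 14) (Steps.bwd (nat_lit 8) (Steps.bwd (nat_lit 14) (Steps.bwd (nat_lit 4) (Steps.fwd (nat_lit 36864) (Steps.fwd (nat_lit 16384) (Steps.bwd (nat_lit 9) Steps.nil))))))) (nat_lit 51) (nat_lit 2),
  Rule.mk (nat_lit 2) (nat_lit 102) (Steps.fwd (nat_lit 49152) (Steps.fwd (nat_lit 8192) (Steps.bwd (nat_lit 14) (Steps.bwd (nat_lit 8) (Steps.fwd (nat_lit 49152) (Steps.bwd (nat_lit 11) Steps.nil)))))) (nat_lit 44) (nat_lit 1),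
  Rule.mk (nat_lit 16) (nat_lit 57) (Steps.fwd (nat_lit 49152) (Steps.fwd (nat_lit 65536) (Steps.bwd (nat_lit 12) Steps.nil))) (nat_lit 28) (nat_lit 2),
  Rule.mk (nat_lit 7) (nat_lit 87) (Steps.bwd (nat_lit 13) (Steps.fwd (nat_lit 61440) (Steps.bwd (nat_lit 16) (Steps.bwd (nat_lit 8) (Steps.bwd (nat_lit 14) Steps.nil))))) (nat_lit 34) (nat_lit 3),
  Rule.mk (nat_lit 3) (nat_lit 117) (Steps.bwd (nat_lit 13) (Steps.bwd (nat_lit 7) (Steps.bwd (nat_lit 13) (Steps.fwd (nat_lit 45056) (Steps.fwd (nat_lit 36864) (Steps.bwd (nat_lit 4) (Steps.fwd (nat_lit 40960) Steps.nil))))))) (nat_lit 50) (nat_lit 3),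
  Rule.mk (nat_lit 14) (nat_lit 117) (Steps.fwd (nat_lit 28672) (Steps.bwd (nat_lit 8) (Steps.bwd (nat_lit 4) (Steps.bwd (nat_lit 11) (Steps.bwd (nat_lit 3) (Steps.fwd (nat_lit 49152) (Steps.bwd (nat_lit 11) Steps.nil))))))) (nat_lit 52) (nat_lit 6),
  Rule.mk (nat_lit 8) (nat_lit 87) (Steps.bwd (nat_lit 12) (Steps.fwd (nat_lit 32768) (Steps.fwd (nat_lit 49152) (Steps.bwd (nat_lit 15) (Steps.fwd (nat_lit 65536) Steps.nil))))) (nat_lit 32) (nat_lit 1),
  Rule.mk (nat_lit 2) (nat_lit 102) (Steps.bwd (nat_lit 12) (Steps.bwd (nat_lit 1) (Steps.fwd (nat_lit 45056) (Steps.bwd (nat_lit 12) (Steps.fwd (nat_lit 32768) (Steps.fwd (nat_lit 57344) Steps.nil)))))) (nat_lit 45) (nat_lit 5)]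
noncomputable def R_24 : List (Rule) := [Rule.mk (nat_lit 12) (nat_lit 117) (Steps.bwd (nat_lit 12) (Steps.bwd (nat_lit 4) (Steps.fwd (nat_lit 45056) (Steps.bwd (nat_lit 3) (Steps.fwd (nat_lit 32768) (Steps.fwd (nat_lit 32768) (Steps.bwd (nat_lit 13) Steps.nil))))))) (nat_lit 53) (nat_lit 4),
  Rule.mk (nat_lit 13) (nat_lit 117) (Steps.bwd (nat_lit 12) (Steps.fwd (nat_lit 45056) (Steps.fwd (nat_lit 12288) (Steps.bwd (nat_lit 12) (Steps.bwd (nat_lit 3) (Steps.bwd (nat_lit 7) (Steps.fwd (nat_lit 32768) Steps.nil))))))) (nat_lit 53) (nat_lit 3),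
  Rule.mk (nat_lit 8) (nat_lit 87) (Steps.fwd (nat_lit 49152) (Steps.bwd (nat_lit 7) (Steps.bwd (nat_lit 16) (Steps.fwd (nat_lit 61440) (Steps.bwd (nat_lit 12) Steps.nil))))) (nat_lit 33) (nat_lit 4),
  Rule.mk (nat_lit 14) (nat_lit 132) (Steps.bwd (nat_lit 8) (Steps.bwd (nat_lit 14) (Steps.fwd (nat_lit 49152) (Steps.bwd (nat_lit 9) (Steps.bwd (nat_lit 8) (Steps.bwd (nat_lit 2) (Steps.fwd (nat_lit 57344) (Steps.bwd (nat_lit 1) Steps.nil)))))))) (nat_lit 46) (nat_lit 4),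
  Rule.mk (nat_lit 1) (nat_lit 132) (Steps.fwd (nat_lit 53248) (Steps.bwd (nat_lit 8) (Steps.bwd (nat_lit 14) (Steps.fwd (nat_lit 49152) (Steps.bwd (nat_lit 9) (Steps.fwd (nat_lit 28672) (Steps.fwd (nat_lit 4096) (Steps.fwd (nat_lit 57344) Steps.nil)))))))) (nat_lit 46) (nat_lit 3),
  Rule.mk (nat_lit 4) (nat_lit 87) (Steps.bwd (nat_lit 1) (Steps.bwd (nat_lit 1) (Steps.fwd (nat_lit 16384) (Steps.bwd (nat_lit 2) (Steps.bwd (nat_lit 2) Steps.nil))))) (nat_lit 6) (nat_lit 3),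
  Rule.mk (nat_lit 12) (nat_lit 117) (Steps.bwd (nat_lit 10) (Steps.bwd (nat_lit 4) (Steps.bwd (nat_lit 9) (Steps.bwd (nat_lit 3) (Steps.fwd (nat_lit 57344) (Steps.fwd (nat_lit 32768) (Steps.bwd (nat_lit 13) Steps.nil))))))) (nat_lit 50) (nat_lit 7),
  Rule.mk (nat_lit 4) (nat_lit 117) (Steps.bwd (nat_lit 10) (Steps.bwd (nat_lit 3) (Steps.fwd (nat_lit 40960) (Steps.fwd (nat_lit 49152) (Steps.bwd (nat_lit 14) (Steps.fwd (nat_lit 28672) (Steps.bwd (nat_lit 14) Steps.nil))))))) (nat_lit 51) (nat_lit 6),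
  Rule.mk (nat_lit 8) (nat_lit 87) (Steps.bwd (nat_lit 11) (Steps.fwd (nat_lit 32768) (Steps.bwd (nat_lit 16) (Steps.fwd (nat_lit 61440) (Steps.fwd (nat_lit 45056) Steps.nil))))) (nat_lit 33) (nat_lit 4),
  Rule.mk (nat_lit 10) (nat_lit 117) (Steps.bwd (nat_lit 4) (Steps.bwd (nat_lit 9) (Steps.bwd (nat_lit 3) (Steps.bwd (nat_lit 13) (Steps.fwd (nat_lit 32768) (Steps.bwd (nat_lit 13) (Steps.bwd (nat_lit 12) Steps.nil))))))) (nat_lit 50) (nat_lit 0),
  Rule.mk (nat_lit 12) (nat_lit 102) (Steps.bwd (nat_lit 1) (Steps.fwd (nat_lit 45056) (Steps.bwd (nat_lit 12) (Steps.bwd (nat_lit 7) (Steps.bwd (nat_lit 13) (Steps.bwd (nat_lit 2) Steps.nil)))))) (nat_lit 45) (nat_lit 6),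
  Rule.mk (nat_lit 7) (nat_lit 132) (Steps.bwd (nat_lit 10) (Steps.bwd (nat_lit 12) (Steps.bwd (nat_lit 13) (Steps.fwd (nat_lit 32768) (Steps.fwd (nat_lit 57344) (Steps.bwd (nat_lit 2) (Steps.fwd (nat_lit 53248) (Steps.bwd (nat_lit 1) Steps.nil)))))))) (nat_lit 47) (nat_lit 1),
  Rule.mk (nat_lit 14) (nat_lit 132) (Steps.bwd (nat_lit 11) (Steps.fwd (nat_lit 40960) (Steps.fwd (nat_lit 28672) (Steps.bwd (nat_lit 2) (Steps.bwd (nat_lit 13) (Steps.bwd (nat_lit 1) (Steps.bwd (nat_lit 14) (Steps.fwd (nat_lit 28672) Steps.nil)))))))) (nat_lit 46) (nat_lit 6),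
  Rule.mk (nat_lit 13) (nat_lit 117) (Steps.bwd (nat_lit 12) (Steps.bwd (nat_lit 10) (Steps.fwd (nat_lit 12288) (Steps.bwd (nat_lit 9) (Steps.fwd (nat_lit 16384) (Steps.fwd (nat_lit 57344) (Steps.bwd (nat_lit 7) Steps.nil))))))) (nat_lit 50) (nat_lit 6),
  Rule.mk (nat_lit 3) (nat_lit 57) (Steps.fwd (nat_lit 20480) (Steps.fwd (nat_lit 12288) (Steps.bwd (nat_lit 13) Steps.nil))) (nat_lit 16) (nat_lit 2),
  Rule.mk (nat_lit 3) (nat_lit 117) (Steps.bwd (nat_lit 13) (Steps.fwd (nat_lit 32768) (Steps.fwd (nat_lit 57344) (Steps.fwd (nat_lit 45056) (Steps.fwd (nat_lit 36864) (Steps.bwd (nat_lit 4) (Steps.fwd (nat_lit 40960) Steps.nil))))))) (nat_lit 50) (nat_lit 3),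
  Rule.mk (nat_lit 1) (nat_lit 102) (Steps.bwd (nat_lit 14) (Steps.fwd (nat_lit 28672) (Steps.fwd (nat_lit 49152) (Steps.bwd (nat_lit 11) (Steps.bwd (nat_lit 2) (Steps.bwd (nat_lit 11) Steps.nil)))))) (nat_lit 44) (nat_lit 3),
  Rule.mk (nat_lit 12) (nat_lit 117) (Steps.bwd (nat_lit 10) (Steps.fwd (nat_lit 12288) (Steps.fwd (nat_lit 40960) (Steps.bwd (nat_lit 3) (Steps.fwd (nat_lit 57344) (Steps.bwd (nat_lit 7) (Steps.bwd (nat_lit 13) Steps.nil))))))) (nat_lit 50) (nat_lit 7),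
  Rule.mk (nat_lit 7) (nat_lit 132) (Steps.bwd (nat_lit 10) (Steps.bwd (nat_lit 12) (Steps.fwd (nat_lit 57344) (Steps.fwd (nat_lit 32768) (Steps.bwd (nat_lit 13) (Steps.bwd (nat_lit 2) (Steps.fwd (nat_lit 53248) (Steps.fwd (nat_lit 8192) Steps.nil)))))))) (nat_lit 47) (nat_lit 1),
  Rule.mk (nat_lit 15) (nat_lit 57) (Steps.fwd (nat_lit 16384) (Steps.bwd (nat_lit 16) (Steps.fwd (nat_lit 12288) Steps.nil))) (nat_lit 54) (nat_lit 2),
  Rule.mk (nat_lit 1) (nat_lit 87) (Steps.bwd (nat_lit 1) (Steps.fwd (nat_lit 16384) (Steps.fwd (nat_lit 4096) (Steps.bwd (nat_lit 2) (Steps.fwd (nat_lit 12288) Steps.nil))))) (nat_lit 6) (nat_lit 4),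
  Rule.mk (nat_lit 8) (nat_lit 72) (Steps.fwd (nat_lit 28672) (Steps.bwd (nat_lit 8) (Steps.bwd (nat_lit 8) (Steps.bwd (nat_lit 8) Steps.nil)))) (nat_lit 21) (nat_lit 0),
  Rule.mk (nat_lit 1) (nat_lit 87) (Steps.fwd (nat_lit 16384) (Steps.bwd (nat_lit 2) (Steps.bwd (nat_lit 2) (Steps.fwd (nat_lit 12288) (Steps.bwd (nat_lit 1) Steps.nil))))) (nat_lit 6) (nat_lit 5),
  Rule.mk (nat_lit 3) (nat_lit 117) (Steps.bwd (nat_lit 9) (Steps.bwd (nat_lit 11) (Steps.fwd (nat_lit 53248) (Steps.fwd (nat_lit 28672) (Steps.fwd (nat_lit 53248) (Steps.bwd (nat_lit 4) (Steps.bwd (nat_lit 10) Steps.nil))))))) (nat_lit 51) (nat_lit 0),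
  Rule.mk (nat_lit 1) (nat_lit 102) (Steps.bwd (nat_lit 14) (Steps.bwd (nat_lit 8) (Steps.bwd (nat_lit 11) (Steps.fwd (nat_lit 49152) (Steps.fwd (nat_lit 4096) (Steps.fwd (nat_lit 49152) Steps.nil)))))) (nat_lit 44) (nat_lit 3),
  Rule.mk (nat_lit 8) (nat_lit 72) (Steps.bwd (nat_lit 10) (Steps.bwd (nat_lit 7) (Steps.bwd (nat_lit 9) (Steps.fwd (nat_lit 61440) Steps.nil)))) (nat_lit 19) (nat_lit 1),
  Rule.mk (nat_lit 7) (nat_lit 132) (Steps.bwd (nat_lit 10) (Steps.fwd (nat_lit 45056) (Steps.bwd (nat_lit 13) (Steps.fwd (nat_lit 32768) (Steps.fwd (nat_lit 57344) (Steps.bwd (nat_lit 2) (Steps.fwd (nat_lit 53248) (Steps.bwd (nat_lit 1) Steps.nil)))))))) (nat_lit 47) (nat_lit 1),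
  Rule.mk (nat_lit 11) (nat_lit 87) (Steps.bwd (nat_lit 7) (Steps.fwd (nat_lit 61440) (Steps.fwd (nat_lit 61440) (Steps.bwd (nat_lit 12) (Steps.bwd (nat_lit 8) Steps.nil))))) (nat_lit 33) (nat_lit 5),
  Rule.mk (nat_lit 15) (nat_lit 57) (Steps.fwd (nat_lit 57344) (Steps.fwd (nat_lit 61440) (Steps.bwd (nat_lit 14) Steps.nil))) (nat_lit 31) (nat_lit 3),
  Rule.mk (nat_lit 8) (nat_lit 87) (Steps.fwd (nat_lit 45056) (Steps.bwd (nat_lit 7) (Steps.fwd (nat_lit 49152) (Steps.bwd (nat_lit 15) (Steps.bwd (nat_lit 15) Steps.nil))))) (nat_lit 32) (nat_lit 1),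
  Rule.mk (nat_lit 11) (nat_lit 117) (Steps.bwd (nat_lit 14) (Steps.fwd (nat_lit 28672) (Steps.bwd (nat_lit 14) (Steps.bwd (nat_lit 4) (Steps.fwd (nat_lit 36864) (Steps.fwd (nat_lit 16384) (Steps.bwd (nat_lit 9) Steps.nil))))))) (nat_lit 51) (nat_lit 2),
  Rule.mk (nat_lit 11) (nat_lit 117) (Steps.bwd (nat_lit 3) (Steps.bwd (nat_lit 11) (Steps.fwd (nat_lit 49152) (Steps.bwd (nat_lit 14) (Steps.fwd (nat_lit 28672) (Steps.bwd (nat_lit 8) (Steps.fwd (nat_lit 12288) Steps.nil))))))) (nat_lit 52) (nat_lit 2),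
  Rule.mk (nat_lit 12) (nat_lit 72) (Steps.bwd (nat_lit 14) (Steps.fwd (nat_lit 49152) (Steps.bwd (nat_lit 13) (Steps.bwd (nat_lit 15) Steps.nil)))) (nat_lit 40) (nat_lit 1),
  Rule.mk (nat_lit 1) (nat_lit 102) (Steps.bwd (nat_lit 14) (Steps.bwd (nat_lit 8) (Steps.fwd (nat_lit 49152) (Steps.fwd (nat_lit 49152) (Steps.bwd (nat_lit 2) (Steps.fwd (nat_lit 49152) Steps.nil)))))) (nat_lit 44) (nat_lit 3),
  Rule.mk (nat_lit 2) (nat_lit 132) (Steps.bwd (nat_lit 13) (Steps.bwd (nat_lit 1) (Steps.fwd (nat_lit 53248) (Steps.fwd (nat_lit 28672) (Steps.fwd (nat_lit 53248) (Steps.fwd (nat_lit 49152) (Steps.bwd (nat_lit 9) (Steps.bwd (nat_lit 8) Steps.nil)))))))) (nat_lit 46) (nat_lit 1),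
  Rule.mk (nat_lit 8) (nat_lit 72) (Steps.fwd (nat_lit 4096) (Steps.fwd (nat_lit 36864) (Steps.bwd (nat_lit 1) (Steps.bwd (nat_lit 8) Steps.nil)))) (nat_lit 43) (nat_lit 2),
  Rule.mk (nat_lit 2) (nat_lit 87) (Steps.bwd (nat_lit 2) (Steps.bwd (nat_lit 4) (Steps.fwd (nat_lit 8192) (Steps.bwd (nat_lit 1) (Steps.fwd (nat_lit 16384) Steps.nil))))) (nat_lit 6) (nat_lit 1),
  Rule.mk (nat_lit 4) (nat_lit 87) (Steps.fwd (nat_lit 8192) (Steps.bwd (nat_lit 1) (Steps.fwd (nat_lit 16384) (Steps.bwd (nat_lit 2) (Steps.bwd (nat_lit 2) Steps.nil))))) (nat_lit 6) (nat_lit 3),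
  Rule.mk (nat_lit 12) (nat_lit 102) (Steps.bwd (nat_lit 1) (Steps.fwd (nat_lit 45056) (Steps.bwd (nat_lit 12) (Steps.fwd (nat_lit 32768) (Steps.fwd (nat_lit 57344) (Steps.bwd (nat_lit 2) Steps.nil)))))) (nat_lit 45) (nat_lit 6),
  Rule.mk (nat_lit 13) (nat_lit 117) (Steps.bwd (nat_lit 12) (Steps.bwd (nat_lit 10) (Steps.fwd (nat_lit 12288) (Steps.fwd (nat_lit 40960) (Steps.bwd (nat_lit 3) (Steps.fwd (nat_lit 57344) (Steps.bwd (nat_lit 7) Steps.nil))))))) (nat_lit 50) (nat_lit 6),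
  Rule.mk (nat_lit 15) (nat_lit 87) (Steps.bwd (nat_lit 8) (Steps.fwd (nat_lit 45056) (Steps.fwd (nat_lit 32768) (Steps.fwd (nat_lit 49152) (Steps.bwd (nat_lit 15) Steps.nil))))) (nat_lit 32) (nat_lit 0),
  Rule.mk (nat_lit 4) (nat_lit 117) (Steps.bwd (nat_lit 11) (Steps.bwd (nat_lit 3) (Steps.bwd (nat_lit 11) (Steps.bwd (nat_lit 11) (Steps.bwd (nat_lit 14) (Steps.bwd (nat_lit 8) (Steps.bwd (nat_lit 8) Steps.nil))))))) (nat_lit 52) (nat_lit 1),
  Rule.mk (nat_lit 14) (nat_lit 117) (Steps.bwd (nat_lit 8) (Steps.fwd (nat_lit 53248) (Steps.bwd (nat_lit 4) (Steps.fwd (nat_lit 36864) (Steps.fwd (nat_lit 16384) (Steps.fwd (nat_lit 40960) (Steps.bwd (nat_lit 11) Steps.nil))))))) (nat_lit 51) (nat_lit 3),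
  Rule.mk (nat_lit 1) (nat_lit 72) (Steps.fwd (nat_lit 65536) (Steps.bwd (nat_lit 15) (Steps.bwd (nat_lit 2) (Steps.fwd (nat_lit 61440) Steps.nil)))) (nat_lit 49) (nat_lit 0),
  Rule.mk (nat_lit 12) (nat_lit 102) (Steps.fwd (nat_lit 8192) (Steps.bwd (nat_lit 12) (Steps.bwd (nat_lit 12) (Steps.fwd (nat_lit 32768) (Steps.bwd (nat_lit 13) (Steps.bwd (nat_lit 2) Steps.nil)))))) (nat_lit 45) (nat_lit 6),
  Rule.mk (nat_lit 12) (nat_lit 102) (Steps.bwd (nat_lit 12) (Steps.bwd (nat_lit 7) (Steps.bwd (nat_lit 13) (Steps.bwd (nat_lit 2) (Steps.bwd (nat_lit 12) (Steps.bwd (nat_lit 1) Steps.nil)))))) (nat_lit 45) (nat_lit 1),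
  Rule.mk (nat_lit 10) (nat_lit 117) (Steps.bwd (nat_lit 4) (Steps.fwd (nat_lit 40960) (Steps.bwd (nat_lit 3) (Steps.fwd (nat_lit 57344) (Steps.fwd (nat_lit 32768) (Steps.fwd (nat_lit 57344) (Steps.bwd (nat_lit 12) Steps.nil))))))) (nat_lit 50) (nat_lit 0),
  Rule.mk (nat_lit 2) (nat_lit 102) (Steps.bwd (nat_lit 11) (Steps.bwd (nat_lit 1) (Steps.bwd (nat_lit 14) (Steps.bwd (nat_lit 8) (Steps.fwd (nat_lit 49152) (Steps.bwd (nat_lit 11) Steps.nil)))))) (nat_lit 44) (nat_lit 1),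
  Rule.mk (nat_lit 11) (nat_lit 117) (Steps.bwd (nat_lit 14) (Steps.bwd (nat_lit 8) (Steps.fwd (nat_lit 53248) (Steps.fwd (nat_lit 12288) (Steps.bwd (nat_lit 10) (Steps.bwd (nat_lit 3) (Steps.bwd (nat_lit 9) Steps.nil))))))) (nat_lit 51) (nat_lit 2),
  Rule.mk (nat_lit 3) (nat_lit 117) (Steps.bwd (nat_lit 7) (Steps.bwd (nat_lit 7) (Steps.bwd (nat_lit 13) (Steps.fwd (nat_lit 45056) (Steps.bwd (nat_lit 12) (Steps.bwd (nat_lit 4) (Steps.fwd (nat_lit 45056) Steps.nil))))))) (nat_lit 53) (nat_lit 0),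
  Rule.mk (nat_lit 12) (nat_lit 102) (Steps.bwd (nat_lit 1) (Steps.bwd (nat_lit 12) (Steps.fwd (nat_lit 45056) (Steps.bwd (nat_lit 7) (Steps.bwd (nat_lit 13) (Steps.bwd (nat_lit 2) Steps.nil)))))) (nat_lit 45) (nat_lit 6),
  Rule.mk (nat_lit 4) (nat_lit 117) (Steps.bwd (nat_lit 12) (Steps.fwd (nat_lit 16384) (Steps.bwd (nat_lit 7) (Steps.bwd (nat_lit 7) (Steps.bwd (nat_lit 13) (Steps.bwd (nat_lit 12) (Steps.bwd (nat_lit 12) Steps.nil))))))) (nat_lit 53) (nat_lit 6),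
  Rule.mk (nat_lit 7) (nat_lit 72) (Steps.fwd (nat_lit 40960) (Steps.fwd (nat_lit 61440) (Steps.fwd (nat_lit 28672) (Steps.bwd (nat_lit 10) Steps.nil)))) (nat_lit 19) (nat_lit 3),
  Rule.mk (nat_lit 14) (nat_lit 117) (Steps.bwd (nat_lit 4) (Steps.fwd (nat_lit 36864) (Steps.bwd (nat_lit 3) (Steps.bwd (nat_lit 9) (Steps.fwd (nat_lit 49152) (Steps.bwd (nat_lit 14) (Steps.bwd (nat_lit 8) Steps.nil))))))) (nat_lit 51) (nat_lit 5),
  Rule.mk (nat_lit 2) (nat_lit 102) (Steps.fwd (nat_lit 45056) (Steps.bwd (nat_lit 1) (Steps.fwd (nat_lit 45056) (Steps.fwd (nat_lit 45056) (Steps.fwd (nat_lit 32768) (Steps.fwd (nat_lit 57344) Steps.nil)))))) (nat_lit 45) (nat_lit 5),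
  Rule.mk (nat_lit 8) (nat_lit 87) (Steps.bwd (nat_lit 11) (Steps.bwd (nat_lit 7) (Steps.fwd (nat_lit 61440) (Steps.bwd (nat_lit 16) (Steps.fwd (nat_lit 45056) Steps.nil))))) (nat_lit 33) (nat_lit 4),
  Rule.mk (nat_lit 12) (nat_lit 72) (Steps.fwd (nat_lit 57344) (Steps.fwd (nat_lit 49152) (Steps.fwd (nat_lit 61440) (Steps.bwd (nat_lit 14) Steps.nil)))) (nat_lit 41) (nat_lit 3),
  Rule.mk (nat_lit 8) (nat_lit 87) (Steps.bwd (nat_lit 12) (Steps.fwd (nat_lit 32768) (Steps.bwd (nat_lit 11) (Steps.fwd (nat_lit 65536) (Steps.fwd (nat_lit 65536) Steps.nil))))) (nat_lit 32) (nat_lit 1),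
  Rule.mk (nat_lit 2) (nat_lit 102) (Steps.bwd (nat_lit 11) (Steps.fwd (nat_lit 8192) (Steps.bwd (nat_lit 14) (Steps.bwd (nat_lit 8) (Steps.bwd (nat_lit 11) (Steps.bwd (nat_lit 11) Steps.nil)))))) (nat_lit 44) (nat_lit 1),
  Rule.mk (nat_lit 7) (nat_lit 72) (Steps.fwd (nat_lit 65536) (Steps.bwd (nat_lit 10) (Steps.fwd (nat_lit 28672) (Steps.bwd (nat_lit 9) Steps.nil)))) (nat_lit 18) (nat_lit 0),
  Rule.mk (nat_lit 11) (nat_lit 87) (Steps.bwd (nat_lit 15) (Steps.bwd (nat_lit 15) (Steps.fwd (nat_lit 28672) (Steps.fwd (nat_lit 45056) (Steps.bwd (nat_lit 7) Steps.nil))))) (nat_lit 32) (nat_lit 4),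
  Rule.mk (nat_lit 14) (nat_lit 72) (Steps.fwd (nat_lit 45056) (Steps.bwd (nat_lit 13) (Steps.fwd (nat_lit 49152) (Steps.fwd (nat_lit 61440) Steps.nil)))) (nat_lit 41) (nat_lit 2),
  Rule.mk (nat_lit 1) (nat_lit 87) (Steps.bwd (nat_lit 4) (Steps.fwd (nat_lit 4096) (Steps.fwd (nat_lit 4096) (Steps.bwd (nat_lit 3) (Steps.bwd (nat_lit 1) Steps.nil))))) (nat_lit 7) (nat_lit 0),
  Rule.mk (nat_lit 12) (nat_lit 117) (Steps.bwd (nat_lit 10) (Steps.fwd (nat_lit 12288) (Steps.bwd (nat_lit 9) (Steps.bwd (nat_lit 3) (Steps.bwd (nat_lit 13) (Steps.bwd (nat_lit 7) (Steps.fwd (nat_lit 57344) Steps.nil))))))) (nat_lit 50) (nat_lit 7)]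
noncomputable def R_25 : List (Rule) := [Rule.mk (nat_lit 9) (nat_lit 72) (Steps.fwd (nat_lit 49152) (Steps.fwd (nat_lit 65536) (Steps.fwd (nat_lit 36864) (Steps.bwd (nat_lit 12) Steps.nil)))) (nat_lit 36) (nat_lit 3),
  Rule.mk (nat_lit 13) (nat_lit 72) (Steps.fwd (nat_lit 49152) (Steps.fwd (nat_lit 61440) (Steps.fwd (nat_lit 53248) (Steps.bwd (nat_lit 12) Steps.nil)))) (nat_lit 41) (nat_lit 4),
  Rule.mk (nat_lit 8) (nat_lit 87) (Steps.fwd (nat_lit 49152) (Steps.fwd (nat_lit 32768) (Steps.fwd (nat_lit 61440) (Steps.fwd (nat_lit 61440) (Steps.bwd (nat_lit 12) Steps.nil))))) (nat_lit 33) (nat_lit 4),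
  Rule.mk (nat_lit 8) (nat_lit 72) (Steps.bwd (nat_lit 8) (Steps.fwd (nat_lit 4096) (Steps.bwd (nat_lit 10) (Steps.bwd (nat_lit 1) Steps.nil)))) (nat_lit 43) (nat_lit 1),
  Rule.mk (nat_lit 8) (nat_lit 87) (Steps.bwd (nat_lit 13) (Steps.fwd (nat_lit 32768) (Steps.bwd (nat_lit 15) (Steps.fwd (nat_lit 65536) (Steps.fwd (nat_lit 53248) Steps.nil))))) (nat_lit 35) (nat_lit 4),
  Rule.mk (nat_lit 8) (nat_lit 87) (Steps.bwd (nat_lit 11) (Steps.bwd (nat_lit 7) (Steps.bwd (nat_lit 16) (Steps.fwd (nat_lit 61440) (Steps.fwd (nat_lit 45056) Steps.nil))))) (nat_lit 33) (nat_lit 4),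
  Rule.mk (nat_lit 2) (nat_lit 87) (Steps.bwd (nat_lit 4) (Steps.bwd (nat_lit 1) (Steps.fwd (nat_lit 8192) (Steps.bwd (nat_lit 3) (Steps.bwd (nat_lit 2) Steps.nil))))) (nat_lit 6) (nat_lit 2),
  Rule.mk (nat_lit 12) (nat_lit 102) (Steps.bwd (nat_lit 12) (Steps.bwd (nat_lit 7) (Steps.fwd (nat_lit 57344) (Steps.bwd (nat_lit 2) (Steps.bwd (nat_lit 12) (Steps.bwd (nat_lit 1) Steps.nil)))))) (nat_lit 45) (nat_lit 1),
  Rule.mk (nat_lit 14) (nat_lit 72) (Steps.fwd (nat_lit 49152) (Steps.fwd (nat_lit 57344) (Steps.bwd (nat_lit 15) (Steps.bwd (nat_lit 12) Steps.nil)))) (nat_lit 40) (nat_lit 2),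
  Rule.mk (nat_lit 8) (nat_lit 87) (Steps.bwd (nat_lit 11) (Steps.bwd (nat_lit 7) (Steps.bwd (nat_lit 16) (Steps.bwd (nat_lit 16) (Steps.fwd (nat_lit 45056) Steps.nil))))) (nat_lit 33) (nat_lit 4),
  Rule.mk (nat_lit 2) (nat_lit 87) (Steps.fwd (nat_lit 16384) (Steps.fwd (nat_lit 8192) (Steps.fwd (nat_lit 8192) (Steps.bwd (nat_lit 4) (Steps.bwd (nat_lit 2) Steps.nil))))) (nat_lit 7) (nat_lit 3),
  Rule.mk (nat_lit 12) (nat_lit 102) (Steps.fwd (nat_lit 8192) (Steps.bwd (nat_lit 12) (Steps.fwd (nat_lit 45056) (Steps.bwd (nat_lit 7) (Steps.fwd (nat_lit 57344) (Steps.bwd (nat_lit 2) Steps.nil)))))) (nat_lit 45) (nat_lit 6),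
  Rule.mk (nat_lit 2) (nat_lit 102) (Steps.bwd (nat_lit 12) (Steps.bwd (nat_lit 1) (Steps.bwd (nat_lit 12) (Steps.fwd (nat_lit 45056) (Steps.bwd (nat_lit 7) (Steps.fwd (nat_lit 57344) Steps.nil)))))) (nat_lit 45) (nat_lit 5),
  Rule.mk (nat_lit 11) (nat_lit 72) (Steps.fwd (nat_lit 65536) (Steps.bwd (nat_lit 10) (Steps.bwd (nat_lit 12) (Steps.fwd (nat_lit 40960) Steps.nil)))) (nat_lit 36) (nat_lit 4),
  Rule.mk (nat_lit 7) (nat_lit 87) (Steps.bwd (nat_lit 13) (Steps.fwd (nat_lit 61440) (Steps.fwd (nat_lit 61440) (Steps.bwd (nat_lit 8) (Steps.fwd (nat_lit 53248) Steps.nil))))) (nat_lit 34) (nat_lit 3),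
  Rule.mk (nat_lit 14) (nat_lit 87) (Steps.fwd (nat_lit 28672) (Steps.fwd (nat_lit 57344) (Steps.bwd (nat_lit 7) (Steps.bwd (nat_lit 15) (Steps.bwd (nat_lit 15) Steps.nil))))) (nat_lit 35) (nat_lit 3),
  Rule.mk (nat_lit 9) (nat_lit 72) (Steps.fwd (nat_lit 8192) (Steps.fwd (nat_lit 32768) (Steps.bwd (nat_lit 7) (Steps.bwd (nat_lit 2) Steps.nil)))) (nat_lit 42) (nat_lit 2),
  Rule.mk (nat_lit 16) (nat_lit 72) (Steps.fwd (nat_lit 8192) (Steps.bwd (nat_lit 15) (Steps.fwd (nat_lit 65536) (Steps.bwd (nat_lit 2) Steps.nil)))) (nat_lit 49) (nat_lit 4),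
  Rule.mk (nat_lit 14) (nat_lit 132) (Steps.fwd (nat_lit 8192) (Steps.fwd (nat_lit 32768) (Steps.bwd (nat_lit 10) (Steps.fwd (nat_lit 45056) (Steps.fwd (nat_lit 57344) (Steps.fwd (nat_lit 32768) (Steps.bwd (nat_lit 13) (Steps.bwd (nat_lit 2) Steps.nil)))))))) (nat_lit 47) (nat_lit 8),
  Rule.mk (nat_lit 2) (nat_lit 177) (Steps.bwd (nat_lit 4) (Steps.fwd (nat_lit 8192) (Steps.bwd (nat_lit 3) (Steps.fwd (nat_lit 4096) (Steps.fwd (nat_lit 12288) (Steps.bwd (nat_lit 1) (Steps.fwd (nat_lit 16384) (Steps.fwd (nat_lit 4096) (Steps.bwd (nat_lit 4) (Steps.fwd (nat_lit 8192) (Steps.bwd (nat_lit 3) Steps.nil))))))))))) (nat_lit 8) (nat_lit 1),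
  Rule.mk (nat_lit 15) (nat_lit 87) (Steps.bwd (nat_lit 15) (Steps.fwd (nat_lit 53248) (Steps.fwd (nat_lit 28672) (Steps.bwd (nat_lit 13) (Steps.bwd (nat_lit 7) Steps.nil))))) (nat_lit 35) (nat_lit 1),
  Rule.mk (nat_lit 13) (nat_lit 102) (Steps.fwd (nat_lit 4096) (Steps.bwd (nat_lit 12) (Steps.fwd (nat_lit 8192) (Steps.fwd (nat_lit 45056) (Steps.bwd (nat_lit 12) (Steps.bwd (nat_lit 7) Steps.nil)))))) (nat_lit 45) (nat_lit 4),
  Rule.mk (nat_lit 1) (nat_lit 72) (Steps.bwd (nat_lit 16) (Steps.bwd (nat_lit 16) (Steps.bwd (nat_lit 2) (Steps.fwd (nat_lit 65536) Steps.nil)))) (nat_lit 48) (nat_lit 3),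
  Rule.mk (nat_lit 2) (nat_lit 132) (Steps.bwd (nat_lit 14) (Steps.fwd (nat_lit 8192) (Steps.fwd (nat_lit 32768) (Steps.bwd (nat_lit 10) (Steps.bwd (nat_lit 12) (Steps.fwd (nat_lit 57344) (Steps.bwd (nat_lit 7) (Steps.fwd (nat_lit 57344) Steps.nil)))))))) (nat_lit 47) (nat_lit 7),
  Rule.mk (nat_lit 2) (nat_lit 87) (Steps.fwd (nat_lit 12288) (Steps.bwd (nat_lit 1) (Steps.fwd (nat_lit 8192) (Steps.bwd (nat_lit 3) (Steps.bwd (nat_lit 2) Steps.nil))))) (nat_lit 6) (nat_lit 2),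
  Rule.mk (nat_lit 12) (nat_lit 102) (Steps.fwd (nat_lit 8192) (Steps.fwd (nat_lit 45056) (Steps.fwd (nat_lit 45056) (Steps.bwd (nat_lit 7) (Steps.fwd (nat_lit 57344) (Steps.bwd (nat_lit 2) Steps.nil)))))) (nat_lit 45) (nat_lit 6),
  Rule.mk (nat_lit 13) (nat_lit 117) (Steps.bwd (nat_lit 12) (Steps.bwd (nat_lit 10) (Steps.bwd (nat_lit 4) (Steps.bwd (nat_lit 9) (Steps.bwd (nat_lit 3) (Steps.fwd (nat_lit 57344) (Steps.fwd (nat_lit 32768) Steps.nil))))))) (nat_lit 50) (nat_lit 6),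
  Rule.mk (nat_lit 2) (nat_lit 132) (Steps.fwd (nat_lit 53248) (Steps.bwd (nat_lit 1) (Steps.fwd (nat_lit 32768) (Steps.bwd (nat_lit 10) (Steps.bwd (nat_lit 12) (Steps.fwd (nat_lit 57344) (Steps.fwd (nat_lit 32768) (Steps.bwd (nat_lit 13) Steps.nil)))))))) (nat_lit 47) (nat_lit 7),
  Rule.mk (nat_lit 3) (nat_lit 87) (Steps.fwd (nat_lit 8192) (Steps.bwd (nat_lit 1) (Steps.bwd (nat_lit 4) (Steps.fwd (nat_lit 4096) (Steps.bwd (nat_lit 2) Steps.nil))))) (nat_lit 7) (nat_lit 4),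
  Rule.mk (nat_lit 8) (nat_lit 87) (Steps.bwd (nat_lit 12) (Steps.bwd (nat_lit 7) (Steps.bwd (nat_lit 11) (Steps.fwd (nat_lit 65536) (Steps.bwd (nat_lit 15) Steps.nil))))) (nat_lit 32) (nat_lit 1),
  Rule.mk (nat_lit 12) (nat_lit 102) (Steps.bwd (nat_lit 12) (Steps.bwd (nat_lit 7) (Steps.bwd (nat_lit 13) (Steps.bwd (nat_lit 2) (Steps.fwd (nat_lit 45056) (Steps.bwd (nat_lit 1) Steps.nil)))))) (nat_lit 45) (nat_lit 1),
  Rule.mk (nat_lit 14) (nat_lit 87) (Steps.bwd (nat_lit 7) (Steps.fwd (nat_lit 57344) (Steps.bwd (nat_lit 16) (Steps.fwd (nat_lit 61440) (Steps.fwd (nat_lit 28672) Steps.nil))))) (nat_lit 34) (nat_lit 2),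
  Rule.mk (nat_lit 12) (nat_lit 117) (Steps.bwd (nat_lit 3) (Steps.bwd (nat_lit 7) (Steps.bwd (nat_lit 7) (Steps.bwd (nat_lit 13) (Steps.bwd (nat_lit 12) (Steps.fwd (nat_lit 45056) (Steps.fwd (nat_lit 12288) Steps.nil))))))) (nat_lit 53) (nat_lit 7),
  Rule.mk (nat_lit 8) (nat_lit 87) (Steps.fwd (nat_lit 49152) (Steps.bwd (nat_lit 7) (Steps.fwd (nat_lit 61440) (Steps.bwd (nat_lit 16) (Steps.bwd (nat_lit 12) Steps.nil))))) (nat_lit 33) (nat_lit 4),
  Rule.mk (nat_lit 12) (nat_lit 117) (Steps.bwd (nat_lit 4) (Steps.bwd (nat_lit 12) (Steps.fwd (nat_lit 16384) (Steps.bwd (nat_lit 7) (Steps.bwd (nat_lit 7) (Steps.bwd (nat_lit 13) (Steps.bwd (nat_lit 12) Steps.nil))))))) (nat_lit 53) (nat_lit 5),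
  Rule.mk (nat_lit 7) (nat_lit 72) (Steps.bwd (nat_lit 15) (Steps.bwd (nat_lit 10) (Steps.bwd (nat_lit 8) (Steps.fwd (nat_lit 40960) Steps.nil)))) (nat_lit 18) (nat_lit 0),
  Rule.mk (nat_lit 8) (nat_lit 87) (Steps.fwd (nat_lit 53248) (Steps.bwd (nat_lit 7) (Steps.bwd (nat_lit 13) (Steps.fwd (nat_lit 61440) (Steps.bwd (nat_lit 16) Steps.nil))))) (nat_lit 34) (nat_lit 1),
  Rule.mk (nat_lit 11) (nat_lit 72) (Steps.fwd (nat_lit 40960) (Steps.bwd (nat_lit 16) (Steps.fwd (nat_lit 45056) (Steps.bwd (nat_lit 10) Steps.nil)))) (nat_lit 37) (nat_lit 4),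
  Rule.mk (nat_lit 4) (nat_lit 117) (Steps.bwd (nat_lit 9) (Steps.bwd (nat_lit 3) (Steps.bwd (nat_lit 13) (Steps.fwd (nat_lit 32768) (Steps.bwd (nat_lit 13) (Steps.bwd (nat_lit 12) (Steps.bwd (nat_lit 10) Steps.nil))))))) (nat_lit 50) (nat_lit 1),
  Rule.mk (nat_lit 9) (nat_lit 72) (Steps.bwd (nat_lit 11) (Steps.bwd (nat_lit 15) (Steps.fwd (nat_lit 36864) (Steps.fwd (nat_lit 45056) Steps.nil)))) (nat_lit 36) (nat_lit 3),
  Rule.mk (nat_lit 3) (nat_lit 117) (Steps.fwd (nat_lit 57344) (Steps.fwd (nat_lit 32768) (Steps.fwd (nat_lit 57344) (Steps.bwd (nat_lit 12) (Steps.bwd (nat_lit 10) (Steps.fwd (nat_lit 12288) (Steps.bwd (nat_lit 9) Steps.nil))))))) (nat_lit 50) (nat_lit 3),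
  Rule.mk (nat_lit 7) (nat_lit 117) (Steps.bwd (nat_lit 13) (Steps.fwd (nat_lit 45056) (Steps.bwd (nat_lit 10) (Steps.fwd (nat_lit 12288) (Steps.bwd (nat_lit 9) (Steps.bwd (nat_lit 3) (Steps.bwd (nat_lit 13) Steps.nil))))))) (nat_lit 50) (nat_lit 5),
  Rule.mk (nat_lit 1) (nat_lit 102) (Steps.bwd (nat_lit 14) (Steps.bwd (nat_lit 8) (Steps.bwd (nat_lit 11) (Steps.bwd (nat_lit 11) (Steps.bwd (nat_lit 2) (Steps.bwd (nat_lit 11) Steps.nil)))))) (nat_lit 44) (nat_lit 3),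
  Rule.mk (nat_lit 4) (nat_lit 87) (Steps.bwd (nat_lit 1) (Steps.bwd (nat_lit 1) (Steps.bwd (nat_lit 3) (Steps.fwd (nat_lit 4096) (Steps.fwd (nat_lit 4096) Steps.nil))))) (nat_lit 6) (nat_lit 3),
  Rule.mk (nat_lit 0) (nat_lit 72) (Steps.fwd (nat_lit 24576) (Steps.fwd (nat_lit 12288) (Steps.bwd (nat_lit 14) (Steps.fwd (nat_lit 16384) Steps.nil)))) (nat_lit 17) (nat_lit 1),
  Rule.mk (nat_lit 9) (nat_lit 132) (Steps.bwd (nat_lit 8) (Steps.fwd (nat_lit 4096) (Steps.bwd (nat_lit 13) (Steps.fwd (nat_lit 8192) (Steps.bwd (nat_lit 14) (Steps.bwd (nat_lit 8) (Steps.bwd (nat_lit 14) (Steps.bwd (nat_lit 11) Steps.nil)))))))) (nat_lit 46) (nat_lit 8),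
  Rule.mk (nat_lit 4) (nat_lit 87) (Steps.bwd (nat_lit 2) (Steps.fwd (nat_lit 4096) (Steps.fwd (nat_lit 16384) (Steps.fwd (nat_lit 8192) (Steps.fwd (nat_lit 8192) Steps.nil))))) (nat_lit 7) (nat_lit 1),
  Rule.mk (nat_lit 2) (nat_lit 117) (Steps.bwd (nat_lit 2) (Steps.fwd (nat_lit 4096) (Steps.fwd (nat_lit 4096) (Steps.bwd (nat_lit 2) (Steps.bwd (nat_lit 2) (Steps.bwd (nat_lit 2) (Steps.fwd (nat_lit 4096) Steps.nil))))))) (nat_lit 1) (nat_lit 0),
  Rule.mk (nat_lit 11) (nat_lit 87) (Steps.bwd (nat_lit 15) (Steps.bwd (nat_lit 15) (Steps.fwd (nat_lit 28672) (Steps.bwd (nat_lit 12) (Steps.bwd (nat_lit 7) Steps.nil))))) (nat_lit 32) (nat_lit 4),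
  Rule.mk (nat_lit 13) (nat_lit 87) (Steps.fwd (nat_lit 61440) (Steps.bwd (nat_lit 16) (Steps.bwd (nat_lit 8) (Steps.fwd (nat_lit 53248) (Steps.bwd (nat_lit 7) Steps.nil))))) (nat_lit 34) (nat_lit 4),
  Rule.mk (nat_lit 10) (nat_lit 117) (Steps.bwd (nat_lit 4) (Steps.bwd (nat_lit 9) (Steps.fwd (nat_lit 16384) (Steps.bwd (nat_lit 13) (Steps.bwd (nat_lit 7) (Steps.bwd (nat_lit 13) (Steps.fwd (nat_lit 45056) Steps.nil))))))) (nat_lit 50) (nat_lit 0),
  Rule.mk (nat_lit 8) (nat_lit 72) (Steps.bwd (nat_lit 2) (Steps.fwd (nat_lit 36864) (Steps.fwd (nat_lit 8192) (Steps.fwd (nat_lit 28672) Steps.nil)))) (nat_lit 43) (nat_lit 2),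
  Rule.mk (nat_lit 1) (nat_lit 87) (Steps.bwd (nat_lit 3) (Steps.fwd (nat_lit 4096) (Steps.fwd (nat_lit 4096) (Steps.fwd (nat_lit 12288) (Steps.fwd (nat_lit 8192) Steps.nil))))) (nat_lit 6) (nat_lit 5),
  Rule.mk (nat_lit 9) (nat_lit 117) (Steps.bwd (nat_lit 3) (Steps.fwd (nat_lit 57344) (Steps.fwd (nat_lit 32768) (Steps.fwd (nat_lit 57344) (Steps.bwd (nat_lit 12) (Steps.bwd (nat_lit 10) (Steps.bwd (nat_lit 4) Steps.nil))))))) (nat_lit 50) (nat_lit 2),
  Rule.mk (nat_lit 12) (nat_lit 117) (Steps.bwd (nat_lit 3) (Steps.fwd (nat_lit 32768) (Steps.fwd (nat_lit 32768) (Steps.bwd (nat_lit 13) (Steps.fwd (nat_lit 45056) (Steps.bwd (nat_lit 12) (Steps.fwd (nat_lit 12288) Steps.nil))))))) (nat_lit 53) (nat_lit 7),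
  Rule.mk (nat_lit 7) (nat_lit 72) (Steps.bwd (nat_lit 7) (Steps.bwd (nat_lit 2) (Steps.bwd (nat_lit 9) (Steps.fwd (nat_lit 8192) Steps.nil)))) (nat_lit 42) (nat_lit 4),
  Rule.mk (nat_lit 2) (nat_lit 132) (Steps.bwd (nat_lit 14) (Steps.bwd (nat_lit 1) (Steps.bwd (nat_lit 7) (Steps.fwd (nat_lit 36864) (Steps.bwd (nat_lit 12) (Steps.bwd (nat_lit 13) (Steps.bwd (nat_lit 7) (Steps.fwd (nat_lit 57344) Steps.nil)))))))) (nat_lit 47) (nat_lit 7),
  Rule.mk (nat_lit 12) (nat_lit 102) (Steps.bwd (nat_lit 1) (Steps.fwd (nat_lit 45056) (Steps.bwd (nat_lit 12) (Steps.bwd (nat_lit 7) (Steps.fwd (nat_lit 57344) (Steps.bwd (nat_lit 2) Steps.nil)))))) (nat_lit 45) (nat_lit 6),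
  Rule.mk (nat_lit 12) (nat_lit 72) (Steps.fwd (nat_lit 40960) (Steps.fwd (nat_lit 49152) (Steps.bwd (nat_lit 15) (Steps.bwd (nat_lit 10) Steps.nil)))) (nat_lit 36) (nat_lit 2),
  Rule.mk (nat_lit 15) (nat_lit 72) (Steps.bwd (nat_lit 12) (Steps.bwd (nat_lit 14) (Steps.fwd (nat_lit 49152) (Steps.fwd (nat_lit 57344) Steps.nil)))) (nat_lit 40) (nat_lit 0),
  Rule.mk (nat_lit 13) (nat_lit 117) (Steps.bwd (nat_lit 12) (Steps.bwd (nat_lit 10) (Steps.fwd (nat_lit 12288) (Steps.fwd (nat_lit 40960) (Steps.bwd (nat_lit 3) (Steps.fwd (nat_lit 57344) (Steps.fwd (nat_lit 32768) Steps.nil))))))) (nat_lit 50) (nat_lit 6),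
  Rule.mk (nat_lit 11) (nat_lit 72) (Steps.bwd (nat_lit 16) (Steps.bwd (nat_lit 14) (Steps.bwd (nat_lit 12) (Steps.bwd (nat_lit 13) Steps.nil)))) (nat_lit 41) (nat_lit 0),
  Rule.mk (nat_lit 3) (nat_lit 87) (Steps.bwd (nat_lit 2) (Steps.fwd (nat_lit 4096) (Steps.bwd (nat_lit 4) (Steps.fwd (nat_lit 8192) (Steps.bwd (nat_lit 1) Steps.nil))))) (nat_lit 6) (nat_lit 0),
  Rule.mk (nat_lit 11) (nat_lit 102) (Steps.bwd (nat_lit 2) (Steps.bwd (nat_lit 11) (Steps.fwd (nat_lit 8192) (Steps.fwd (nat_lit 53248) (Steps.bwd (nat_lit 8) (Steps.bwd (nat_lit 11) Steps.nil)))))) (nat_lit 44) (nat_lit 0)]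
noncomputable def R_26 : List (Rule) := [Rule.mk (nat_lit 13) (nat_lit 117) (Steps.fwd (nat_lit 32768) (Steps.fwd (nat_lit 57344) (Steps.fwd (nat_lit 45056) (Steps.bwd (nat_lit 10) (Steps.fwd (nat_lit 12288) (Steps.bwd (nat_lit 9) (Steps.bwd (nat_lit 3) Steps.nil))))))) (nat_lit 50) (nat_lit 4),
  Rule.mk (nat_lit 12) (nat_lit 117) (Steps.bwd (nat_lit 12) (Steps.fwd (nat_lit 12288) (Steps.bwd (nat_lit 12) (Steps.bwd (nat_lit 3) (Steps.bwd (nat_lit 7) (Steps.fwd (nat_lit 32768) (Steps.bwd (nat_lit 13) Steps.nil))))))) (nat_lit 53) (nat_lit 4),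
  Rule.mk (nat_lit 14) (nat_lit 132) (Steps.bwd (nat_lit 1) (Steps.fwd (nat_lit 32768) (Steps.fwd (nat_lit 36864) (Steps.bwd (nat_lit 12) (Steps.fwd (nat_lit 57344) (Steps.fwd (nat_lit 32768) (Steps.bwd (nat_lit 13) (Steps.bwd (nat_lit 2) Steps.nil)))))))) (nat_lit 47) (nat_lit 8),
  Rule.mk (nat_lit 15) (nat_lit 72) (Steps.bwd (nat_lit 1) (Steps.bwd (nat_lit 16) (Steps.fwd (nat_lit 61440) (Steps.fwd (nat_lit 4096) Steps.nil)))) (nat_lit 48) (nat_lit 2),
  Rule.mk (nat_lit 3) (nat_lit 87) (Steps.bwd (nat_lit 1) (Steps.fwd (nat_lit 8192) (Steps.fwd (nat_lit 12288) (Steps.fwd (nat_lit 4096) (Steps.bwd (nat_lit 2) Steps.nil))))) (nat_lit 7) (nat_lit 4),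
  Rule.mk (nat_lit 2) (nat_lit 117) (Steps.bwd (nat_lit 4) (Steps.fwd (nat_lit 4096) (Steps.fwd (nat_lit 12288) (Steps.bwd (nat_lit 2) (Steps.bwd (nat_lit 4) (Steps.bwd (nat_lit 2) (Steps.fwd (nat_lit 12288) Steps.nil))))))) (nat_lit 5) (nat_lit 0),
  Rule.mk (nat_lit 15) (nat_lit 57) (Steps.fwd (nat_lit 32768) (Steps.fwd (nat_lit 61440) (Steps.bwd (nat_lit 8) Steps.nil))) (nat_lit 25) (nat_lit 3),
  Rule.mk (nat_lit 4) (nat_lit 117) (Steps.bwd (nat_lit 12) (Steps.fwd (nat_lit 16384) (Steps.bwd (nat_lit 7) (Steps.bwd (nat_lit 7) (Steps.fwd (nat_lit 57344) (Steps.fwd (nat_lit 45056) (Steps.bwd (nat_lit 12) Steps.nil))))))) (nat_lit 53) (nat_lit 6),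
  Rule.mk (nat_lit 12) (nat_lit 117) (Steps.bwd (nat_lit 12) (Steps.bwd (nat_lit 4) (Steps.bwd (nat_lit 12) (Steps.fwd (nat_lit 16384) (Steps.bwd (nat_lit 7) (Steps.fwd (nat_lit 32768) (Steps.bwd (nat_lit 13) Steps.nil))))))) (nat_lit 53) (nat_lit 4),
  Rule.mk (nat_lit 13) (nat_lit 117) (Steps.bwd (nat_lit 12) (Steps.fwd (nat_lit 45056) (Steps.bwd (nat_lit 4) (Steps.fwd (nat_lit 45056) (Steps.fwd (nat_lit 16384) (Steps.bwd (nat_lit 7) (Steps.bwd (nat_lit 7) Steps.nil))))))) (nat_lit 53) (nat_lit 3),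
  Rule.mk (nat_lit 14) (nat_lit 102) (Steps.bwd (nat_lit 8) (Steps.fwd (nat_lit 49152) (Steps.fwd (nat_lit 49152) (Steps.bwd (nat_lit 2) (Steps.fwd (nat_lit 49152) (Steps.bwd (nat_lit 1) Steps.nil)))))) (nat_lit 44) (nat_lit 4),
  Rule.mk (nat_lit 9) (nat_lit 117) (Steps.bwd (nat_lit 3) (Steps.bwd (nat_lit 13) (Steps.fwd (nat_lit 32768) (Steps.bwd (nat_lit 13) (Steps.fwd (nat_lit 45056) (Steps.bwd (nat_lit 10) (Steps.fwd (nat_lit 12288) Steps.nil))))))) (nat_lit 50) (nat_lit 2),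
  Rule.mk (nat_lit 11) (nat_lit 117) (Steps.bwd (nat_lit 14) (Steps.bwd (nat_lit 8) (Steps.bwd (nat_lit 14) (Steps.fwd (nat_lit 12288) (Steps.fwd (nat_lit 36864) (Steps.fwd (nat_lit 16384) (Steps.bwd (nat_lit 9) Steps.nil))))))) (nat_lit 51) (nat_lit 2),
  Rule.mk (nat_lit 2) (nat_lit 132) (Steps.bwd (nat_lit 14) (Steps.bwd (nat_lit 1) (Steps.bwd (nat_lit 7) (Steps.fwd (nat_lit 36864) (Steps.bwd (nat_lit 12) (Steps.bwd (nat_lit 13) (Steps.bwd (nat_lit 7) (Steps.bwd (nat_lit 13) Steps.nil)))))))) (nat_lit 47) (nat_lit 7),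
  Rule.mk (nat_lit 13) (nat_lit 132) (Steps.bwd (nat_lit 7) (Steps.bwd (nat_lit 13) (Steps.bwd (nat_lit 2) (Steps.bwd (nat_lit 14) (Steps.bwd (nat_lit 1) (Steps.fwd (nat_lit 32768) (Steps.fwd (nat_lit 36864) (Steps.bwd (nat_lit 12) Steps.nil)))))))) (nat_lit 47) (nat_lit 4),
  Rule.mk (nat_lit 9) (nat_lit 57) (Steps.fwd (nat_lit 53248) (Steps.bwd (nat_lit 10) (Steps.bwd (nat_lit 13) Steps.nil))) (nat_lit 39) (nat_lit 0),
  Rule.mk (nat_lit 3) (nat_lit 117) (Steps.bwd (nat_lit 9) (Steps.bwd (nat_lit 11) (Steps.bwd (nat_lit 14) (Steps.bwd (nat_lit 8) (Steps.bwd (nat_lit 14) (Steps.fwd (nat_lit 12288) (Steps.bwd (nat_lit 10) Steps.nil))))))) (nat_lit 51) (nat_lit 0),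
  Rule.mk (nat_lit 7) (nat_lit 132) (Steps.bwd (nat_lit 10) (Steps.fwd (nat_lit 45056) (Steps.bwd (nat_lit 13) (Steps.fwd (nat_lit 32768) (Steps.fwd (nat_lit 57344) (Steps.fwd (nat_lit 4096) (Steps.fwd (nat_lit 53248) (Steps.bwd (nat_lit 1) Steps.nil)))))))) (nat_lit 47) (nat_lit 1),
  Rule.mk (nat_lit 1) (nat_lit 102) (Steps.bwd (nat_lit 12) (Steps.fwd (nat_lit 45056) (Steps.bwd (nat_lit 7) (Steps.fwd (nat_lit 57344) (Steps.fwd (nat_lit 4096) (Steps.fwd (nat_lit 45056) Steps.nil)))))) (nat_lit 45) (nat_lit 0),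
  Rule.mk (nat_lit 12) (nat_lit 102) (Steps.bwd (nat_lit 7) (Steps.fwd (nat_lit 57344) (Steps.bwd (nat_lit 2) (Steps.bwd (nat_lit 12) (Steps.fwd (nat_lit 8192) (Steps.fwd (nat_lit 45056) Steps.nil)))))) (nat_lit 45) (nat_lit 2),
  Rule.mk (nat_lit 7) (nat_lit 87) (Steps.bwd (nat_lit 11) (Steps.fwd (nat_lit 65536) (Steps.fwd (nat_lit 65536) (Steps.fwd (nat_lit 28672) (Steps.bwd (nat_lit 12) Steps.nil))))) (nat_lit 32) (nat_lit 3),
  Rule.mk (nat_lit 10) (nat_lit 117) (Steps.bwd (nat_lit 3) (Steps.bwd (nat_lit 9) (Steps.bwd (nat_lit 11) (Steps.fwd (nat_lit 53248) (Steps.fwd (nat_lit 28672) (Steps.bwd (nat_lit 14) (Steps.fwd (nat_lit 12288) Steps.nil))))))) (nat_lit 51) (nat_lit 7),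
  Rule.mk (nat_lit 11) (nat_lit 117) (Steps.bwd (nat_lit 11) (Steps.fwd (nat_lit 53248) (Steps.fwd (nat_lit 28672) (Steps.bwd (nat_lit 8) (Steps.bwd (nat_lit 4) (Steps.bwd (nat_lit 11) (Steps.bwd (nat_lit 3) Steps.nil))))))) (nat_lit 52) (nat_lit 4),
  Rule.mk (nat_lit 4) (nat_lit 117) (Steps.bwd (nat_lit 11) (Steps.bwd (nat_lit 3) (Steps.fwd (nat_lit 49152) (Steps.bwd (nat_lit 11) (Steps.fwd (nat_lit 53248) (Steps.fwd (nat_lit 28672) (Steps.fwd (nat_lit 28672) Steps.nil))))))) (nat_lit 52) (nat_lit 1),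
  Rule.mk (nat_lit 4) (nat_lit 72) (Steps.fwd (nat_lit 12288) (Steps.fwd (nat_lit 12288) (Steps.fwd (nat_lit 12288) (Steps.bwd (nat_lit 4) Steps.nil)))) (nat_lit 3) (nat_lit 0),
  Rule.mk (nat_lit 12) (nat_lit 117) (Steps.fwd (nat_lit 45056) (Steps.bwd (nat_lit 4) (Steps.fwd (nat_lit 45056) (Steps.fwd (nat_lit 16384) (Steps.fwd (nat_lit 32768) (Steps.bwd (nat_lit 7) (Steps.bwd (nat_lit 13) Steps.nil))))))) (nat_lit 53) (nat_lit 4),
  Rule.mk (nat_lit 7) (nat_lit 102) (Steps.bwd (nat_lit 13) (Steps.bwd (nat_lit 2) (Steps.bwd (nat_lit 12) (Steps.fwd (nat_lit 8192) (Steps.fwd (nat_lit 45056) (Steps.fwd (nat_lit 45056) Steps.nil)))))) (nat_lit 45) (nat_lit 3),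
  Rule.mk (nat_lit 11) (nat_lit 87) (Steps.fwd (nat_lit 65536) (Steps.bwd (nat_lit 15) (Steps.bwd (nat_lit 8) (Steps.fwd (nat_lit 45056) (Steps.bwd (nat_lit 7) Steps.nil))))) (nat_lit 32) (nat_lit 4),
  Rule.mk (nat_lit 12) (nat_lit 102) (Steps.fwd (nat_lit 32768) (Steps.fwd (nat_lit 57344) (Steps.bwd (nat_lit 2) (Steps.bwd (nat_lit 12) (Steps.bwd (nat_lit 1) (Steps.bwd (nat_lit 12) Steps.nil)))))) (nat_lit 45) (nat_lit 2),
  Rule.mk (nat_lit 4) (nat_lit 87) (Steps.bwd (nat_lit 2) (Steps.bwd (nat_lit 2) (Steps.fwd (nat_lit 16384) (Steps.fwd (nat_lit 8192) (Steps.fwd (nat_lit 8192) Steps.nil))))) (nat_lit 7) (nat_lit 1),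
  Rule.mk (nat_lit 13) (nat_lit 132) (Steps.bwd (nat_lit 2) (Steps.fwd (nat_lit 53248) (Steps.bwd (nat_lit 1) (Steps.fwd (nat_lit 32768) (Steps.fwd (nat_lit 36864) (Steps.bwd (nat_lit 12) (Steps.bwd (nat_lit 13) (Steps.bwd (nat_lit 7) Steps.nil)))))))) (nat_lit 47) (nat_lit 6),
  Rule.mk (nat_lit 1) (nat_lit 102) (Steps.bwd (nat_lit 14) (Steps.bwd (nat_lit 8) (Steps.bwd (nat_lit 11) (Steps.bwd (nat_lit 11) (Steps.fwd (nat_lit 4096) (Steps.bwd (nat_lit 11) Steps.nil)))))) (nat_lit 44) (nat_lit 3),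
  Rule.mk (nat_lit 1) (nat_lit 117) (Steps.fwd (nat_lit 8192) (Steps.fwd (nat_lit 8192) (Steps.fwd (nat_lit 8192) (Steps.fwd (nat_lit 8192) (Steps.fwd (nat_lit 8192) (Steps.fwd (nat_lit 8192) (Steps.bwd (nat_lit 1) Steps.nil))))))) (nat_lit 0) (nat_lit 0),
  Rule.mk (nat_lit 14) (nat_lit 117) (Steps.bwd (nat_lit 8) (Steps.fwd (nat_lit 28672) (Steps.fwd (nat_lit 12288) (Steps.fwd (nat_lit 49152) (Steps.bwd (nat_lit 3) (Steps.fwd (nat_lit 49152) (Steps.bwd (nat_lit 11) Steps.nil))))))) (nat_lit 52) (nat_lit 6),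
  Rule.mk (nat_lit 9) (nat_lit 117) (Steps.bwd (nat_lit 3) (Steps.bwd (nat_lit 13) (Steps.fwd (nat_lit 32768) (Steps.bwd (nat_lit 13) (Steps.fwd (nat_lit 45056) (Steps.fwd (nat_lit 36864) (Steps.bwd (nat_lit 4) Steps.nil))))))) (nat_lit 50) (nat_lit 2),
  Rule.mk (nat_lit 1) (nat_lit 102) (Steps.bwd (nat_lit 14) (Steps.fwd (nat_lit 28672) (Steps.fwd (nat_lit 49152) (Steps.bwd (nat_lit 11) (Steps.bwd (nat_lit 2) (Steps.fwd (nat_lit 49152) Steps.nil)))))) (nat_lit 44) (nat_lit 3),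
  Rule.mk (nat_lit 2) (nat_lit 102) (Steps.bwd (nat_lit 11) (Steps.bwd (nat_lit 1) (Steps.fwd (nat_lit 53248) (Steps.fwd (nat_lit 28672) (Steps.fwd (nat_lit 49152) (Steps.bwd (nat_lit 11) Steps.nil)))))) (nat_lit 44) (nat_lit 1),
  Rule.mk (nat_lit 10) (nat_lit 117) (Steps.bwd (nat_lit 4) (Steps.bwd (nat_lit 9) (Steps.bwd (nat_lit 3) (Steps.fwd (nat_lit 57344) (Steps.fwd (nat_lit 32768) (Steps.fwd (nat_lit 57344) (Steps.bwd (nat_lit 12) Steps.nil))))))) (nat_lit 50) (nat_lit 0),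
  Rule.mk (nat_lit 8) (nat_lit 117) (Steps.bwd (nat_lit 4) (Steps.bwd (nat_lit 11) (Steps.bwd (nat_lit 3) (Steps.bwd (nat_lit 11) (Steps.fwd (nat_lit 49152) (Steps.fwd (nat_lit 53248) (Steps.fwd (nat_lit 28672) Steps.nil))))))) (nat_lit 52) (nat_lit 0),
  Rule.mk (nat_lit 1) (nat_lit 177) (Steps.bwd (nat_lit 4) (Steps.fwd (nat_lit 4096) (Steps.fwd (nat_lit 16384) (Steps.bwd (nat_lit 1) (Steps.bwd (nat_lit 4) (Steps.bwd (nat_lit 2) (Steps.bwd (nat_lit 3) (Steps.bwd (nat_lit 1) (Steps.fwd (nat_lit 12288) (Steps.bwd (nat_lit 2) (Steps.bwd (nat_lit 3) Steps.nil))))))))))) (nat_lit 9) (nat_lit 0),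
  Rule.mk (nat_lit 11) (nat_lit 87) (Steps.fwd (nat_lit 32768) (Steps.bwd (nat_lit 16) (Steps.bwd (nat_lit 16) (Steps.fwd (nat_lit 45056) (Steps.bwd (nat_lit 8) Steps.nil))))) (nat_lit 33) (nat_lit 5),
  Rule.mk (nat_lit 3) (nat_lit 117) (Steps.fwd (nat_lit 57344) (Steps.fwd (nat_lit 32768) (Steps.bwd (nat_lit 13) (Steps.fwd (nat_lit 45056) (Steps.bwd (nat_lit 10) (Steps.fwd (nat_lit 12288) (Steps.bwd (nat_lit 9) Steps.nil))))))) (nat_lit 50) (nat_lit 3),
  Rule.mk (nat_lit 12) (nat_lit 117) (Steps.bwd (nat_lit 3) (Steps.bwd (nat_lit 7) (Steps.bwd (nat_lit 7) (Steps.fwd (nat_lit 57344) (Steps.bwd (nat_lit 12) (Steps.bwd (nat_lit 12) (Steps.bwd (nat_lit 4) Steps.nil))))))) (nat_lit 53) (nat_lit 7),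
  Rule.mk (nat_lit 11) (nat_lit 102) (Steps.bwd (nat_lit 2) (Steps.fwd (nat_lit 49152) (Steps.bwd (nat_lit 1) (Steps.fwd (nat_lit 53248) (Steps.bwd (nat_lit 8) (Steps.fwd (nat_lit 49152) Steps.nil)))))) (nat_lit 44) (nat_lit 0),
  Rule.mk (nat_lit 2) (nat_lit 117) (Steps.bwd (nat_lit 2) (Steps.fwd (nat_lit 4096) (Steps.fwd (nat_lit 4096) (Steps.bwd (nat_lit 2) (Steps.bwd (nat_lit 2) (Steps.bwd (nat_lit 2) (Steps.bwd (nat_lit 2) Steps.nil))))))) (nat_lit 1) (nat_lit 0),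
  Rule.mk (nat_lit 14) (nat_lit 132) (Steps.fwd (nat_lit 8192) (Steps.bwd (nat_lit 7) (Steps.fwd (nat_lit 36864) (Steps.fwd (nat_lit 45056) (Steps.bwd (nat_lit 13) (Steps.fwd (nat_lit 32768) (Steps.fwd (nat_lit 57344) (Steps.bwd (nat_lit 2) Steps.nil)))))))) (nat_lit 47) (nat_lit 8),
  Rule.mk (nat_lit 1) (nat_lit 117) (Steps.bwd (nat_lit 3) (Steps.bwd (nat_lit 1) (Steps.bwd (nat_lit 3) (Steps.fwd (nat_lit 8192) (Steps.fwd (nat_lit 16384) (Steps.bwd (nat_lit 1) (Steps.bwd (nat_lit 3) Steps.nil))))))) (nat_lit 4) (nat_lit 1),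
  Rule.mk (nat_lit 8) (nat_lit 117) (Steps.bwd (nat_lit 14) (Steps.bwd (nat_lit 4) (Steps.bwd (nat_lit 10) (Steps.bwd (nat_lit 3) (Steps.fwd (nat_lit 40960) (Steps.bwd (nat_lit 11) (Steps.bwd (nat_lit 14) Steps.nil))))))) (nat_lit 51) (nat_lit 4),
  Rule.mk (nat_lit 13) (nat_lit 87) (Steps.fwd (nat_lit 32768) (Steps.bwd (nat_lit 15) (Steps.fwd (nat_lit 65536) (Steps.bwd (nat_lit 14) (Steps.bwd (nat_lit 8) Steps.nil))))) (nat_lit 35) (nat_lit 5),
  Rule.mk (nat_lit 4) (nat_lit 117) (Steps.bwd (nat_lit 11) (Steps.bwd (nat_lit 3) (Steps.bwd (nat_lit 11) (Steps.bwd (nat_lit 11) (Steps.fwd (nat_lit 53248) (Steps.fwd (nat_lit 28672) (Steps.bwd (nat_lit 8) Steps.nil))))))) (nat_lit 52) (nat_lit 1),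
  Rule.mk (nat_lit 2) (nat_lit 72) (Steps.fwd (nat_lit 36864) (Steps.fwd (nat_lit 8192) (Steps.bwd (nat_lit 8) (Steps.bwd (nat_lit 8) Steps.nil)))) (nat_lit 43) (nat_lit 3),
  Rule.mk (nat_lit 14) (nat_lit 87) (Steps.fwd (nat_lit 32768) (Steps.bwd (nat_lit 13) (Steps.fwd (nat_lit 61440) (Steps.fwd (nat_lit 61440) (Steps.bwd (nat_lit 8) Steps.nil))))) (nat_lit 34) (nat_lit 2),
  Rule.mk (nat_lit 4) (nat_lit 117) (Steps.bwd (nat_lit 9) (Steps.fwd (nat_lit 16384) (Steps.fwd (nat_lit 57344) (Steps.fwd (nat_lit 32768) (Steps.fwd (nat_lit 57344) (Steps.bwd (nat_lit 12) (Steps.fwd (nat_lit 36864) Steps.nil))))))) (nat_lit 50) (nat_lit 1),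
  Rule.mk (nat_lit 3) (nat_lit 117) (Steps.bwd (nat_lit 9) (Steps.fwd (nat_lit 49152) (Steps.bwd (nat_lit 14) (Steps.fwd (nat_lit 28672) (Steps.fwd (nat_lit 53248) (Steps.fwd (nat_lit 12288) (Steps.bwd (nat_lit 10) Steps.nil))))))) (nat_lit 51) (nat_lit 0),
  Rule.mk (nat_lit 3) (nat_lit 87) (Steps.bwd (nat_lit 1) (Steps.bwd (nat_lit 1) (Steps.fwd (nat_lit 12288) (Steps.bwd (nat_lit 2) (Steps.fwd (nat_lit 4096) Steps.nil))))) (nat_lit 7) (nat_lit 4),
  Rule.mk (nat_lit 1) (nat_lit 117) (Steps.bwd (nat_lit 1) (Steps.bwd (nat_lit 1) (Steps.bwd (nat_lit 1) (Steps.bwd (nat_lit 1) (Steps.fwd (nat_lit 8192) (Steps.fwd (nat_lit 8192) (Steps.fwd (nat_lit 8192) Steps.nil))))))) (nat_lit 0) (nat_lit 0),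
  Rule.mk (nat_lit 9) (nat_lit 117) (Steps.fwd (nat_lit 16384) (Steps.fwd (nat_lit 57344) (Steps.bwd (nat_lit 7) (Steps.bwd (nat_lit 13) (Steps.fwd (nat_lit 45056) (Steps.fwd (nat_lit 36864) (Steps.bwd (nat_lit 4) Steps.nil))))))) (nat_lit 50) (nat_lit 2),
  Rule.mk (nat_lit 8) (nat_lit 87) (Steps.bwd (nat_lit 12) (Steps.fwd (nat_lit 32768) (Steps.fwd (nat_lit 49152) (Steps.fwd (nat_lit 65536) (Steps.bwd (nat_lit 15) Steps.nil))))) (nat_lit 32) (nat_lit 1),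
  Rule.mk (nat_lit 2) (nat_lit 102) (Steps.bwd (nat_lit 12) (Steps.fwd (nat_lit 8192) (Steps.fwd (nat_lit 45056) (Steps.fwd (nat_lit 45056) (Steps.bwd (nat_lit 7) (Steps.fwd (nat_lit 57344) Steps.nil)))))) (nat_lit 45) (nat_lit 5),
  Rule.mk (nat_lit 12) (nat_lit 102) (Steps.bwd (nat_lit 12) (Steps.fwd (nat_lit 32768) (Steps.fwd (nat_lit 57344) (Steps.fwd (nat_lit 4096) (Steps.fwd (nat_lit 45056) (Steps.fwd (nat_lit 8192) Steps.nil)))))) (nat_lit 45) (nat_lit 1),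
  Rule.mk (nat_lit 1) (nat_lit 102) (Steps.bwd (nat_lit 12) (Steps.bwd (nat_lit 12) (Steps.fwd (nat_lit 32768) (Steps.bwd (nat_lit 13) (Steps.fwd (nat_lit 4096) (Steps.fwd (nat_lit 45056) Steps.nil)))))) (nat_lit 45) (nat_lit 0),
  Rule.mk (nat_lit 4) (nat_lit 87) (Steps.bwd (nat_lit 2) (Steps.bwd (nat_lit 2) (Steps.bwd (nat_lit 3) (Steps.fwd (nat_lit 8192) (Steps.fwd (nat_lit 8192) Steps.nil))))) (nat_lit 7) (nat_lit 1),
  Rule.mk (nat_lit 8) (nat_lit 117) (Steps.bwd (nat_lit 4) (Steps.fwd (nat_lit 49152) (Steps.fwd (nat_lit 16384) (Steps.bwd (nat_lit 11) (Steps.fwd (nat_lit 49152) (Steps.bwd (nat_lit 14) (Steps.fwd (nat_lit 28672) Steps.nil))))))) (nat_lit 52) (nat_lit 0),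
  Rule.mk (nat_lit 7) (nat_lit 132) (Steps.bwd (nat_lit 13) (Steps.bwd (nat_lit 2) (Steps.bwd (nat_lit 14) (Steps.bwd (nat_lit 1) (Steps.fwd (nat_lit 32768) (Steps.bwd (nat_lit 10) (Steps.bwd (nat_lit 12) (Steps.bwd (nat_lit 13) Steps.nil)))))))) (nat_lit 47) (nat_lit 5)]
noncomputable def R_27 : List (Rule) := [Rule.mk (nat_lit 14) (nat_lit 132) (Steps.bwd (nat_lit 1) (Steps.bwd (nat_lit 7) (Steps.fwd (nat_lit 36864) (Steps.fwd (nat_lit 45056) (Steps.bwd (nat_lit 13) (Steps.bwd (nat_lit 7) (Steps.bwd (nat_lit 13) (Steps.bwd (nat_lit 2) Steps.nil)))))))) (nat_lit 47) (nat_lit 8),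
  Rule.mk (nat_lit 8) (nat_lit 72) (Steps.bwd (nat_lit 10) (Steps.fwd (nat_lit 32768) (Steps.fwd (nat_lit 40960) (Steps.bwd (nat_lit 16) Steps.nil)))) (nat_lit 19) (nat_lit 1),
  Rule.mk (nat_lit 15) (nat_lit 57) (Steps.fwd (nat_lit 16384) (Steps.bwd (nat_lit 16) (Steps.bwd (nat_lit 4) Steps.nil))) (nat_lit 54) (nat_lit 2),
  Rule.mk (nat_lit 12) (nat_lit 117) (Steps.fwd (nat_lit 16384) (Steps.bwd (nat_lit 7) (Steps.fwd (nat_lit 32768) (Steps.fwd (nat_lit 57344) (Steps.fwd (nat_lit 45056) (Steps.fwd (nat_lit 45056) (Steps.bwd (nat_lit 4) Steps.nil))))))) (nat_lit 53) (nat_lit 7),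
  Rule.mk (nat_lit 10) (nat_lit 132) (Steps.bwd (nat_lit 12) (Steps.bwd (nat_lit 13) (Steps.bwd (nat_lit 7) (Steps.fwd (nat_lit 57344) (Steps.fwd (nat_lit 4096) (Steps.fwd (nat_lit 53248) (Steps.fwd (nat_lit 8192) (Steps.fwd (nat_lit 32768) Steps.nil)))))))) (nat_lit 47) (nat_lit 2),
  Rule.mk (nat_lit 4) (nat_lit 117) (Steps.bwd (nat_lit 9) (Steps.fwd (nat_lit 16384) (Steps.bwd (nat_lit 13) (Steps.bwd (nat_lit 7) (Steps.bwd (nat_lit 13) (Steps.bwd (nat_lit 12) (Steps.bwd (nat_lit 10) Steps.nil))))))) (nat_lit 50) (nat_lit 1),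
  Rule.mk (nat_lit 4) (nat_lit 117) (Steps.bwd (nat_lit 2) (Steps.bwd (nat_lit 4) (Steps.fwd (nat_lit 4096) (Steps.fwd (nat_lit 12288) (Steps.fwd (nat_lit 4096) (Steps.bwd (nat_lit 4) (Steps.bwd (nat_lit 2) Steps.nil))))))) (nat_lit 5) (nat_lit 1),
  Rule.mk (nat_lit 3) (nat_lit 117) (Steps.bwd (nat_lit 9) (Steps.fwd (nat_lit 49152) (Steps.fwd (nat_lit 53248) (Steps.bwd (nat_lit 8) (Steps.bwd (nat_lit 14) (Steps.bwd (nat_lit 4) (Steps.bwd (nat_lit 10) Steps.nil))))))) (nat_lit 51) (nat_lit 0),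
  Rule.mk (nat_lit 7) (nat_lit 87) (Steps.bwd (nat_lit 11) (Steps.bwd (nat_lit 15) (Steps.fwd (nat_lit 65536) (Steps.fwd (nat_lit 28672) (Steps.fwd (nat_lit 45056) Steps.nil))))) (nat_lit 32) (nat_lit 3),
  Rule.mk (nat_lit 2) (nat_lit 102) (Steps.bwd (nat_lit 12) (Steps.fwd (nat_lit 8192) (Steps.bwd (nat_lit 12) (Steps.bwd (nat_lit 12) (Steps.bwd (nat_lit 7) (Steps.bwd (nat_lit 13) Steps.nil)))))) (nat_lit 45) (nat_lit 5),
  Rule.mk (nat_lit 13) (nat_lit 117) (Steps.bwd (nat_lit 12) (Steps.fwd (nat_lit 36864) (Steps.bwd (nat_lit 4) (Steps.bwd (nat_lit 9) (Steps.fwd (nat_lit 16384) (Steps.fwd (nat_lit 57344) (Steps.fwd (nat_lit 32768) Steps.nil))))))) (nat_lit 50) (nat_lit 6),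
  Rule.mk (nat_lit 9) (nat_lit 117) (Steps.bwd (nat_lit 11) (Steps.bwd (nat_lit 14) (Steps.bwd (nat_lit 8) (Steps.fwd (nat_lit 53248) (Steps.bwd (nat_lit 4) (Steps.fwd (nat_lit 36864) (Steps.fwd (nat_lit 16384) Steps.nil))))))) (nat_lit 51) (nat_lit 1),
  Rule.mk (nat_lit 12) (nat_lit 117) (Steps.fwd (nat_lit 36864) (Steps.bwd (nat_lit 4) (Steps.bwd (nat_lit 9) (Steps.fwd (nat_lit 16384) (Steps.bwd (nat_lit 13) (Steps.fwd (nat_lit 32768) (Steps.bwd (nat_lit 13) Steps.nil))))))) (nat_lit 50) (nat_lit 7),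
  Rule.mk (nat_lit 2) (nat_lit 102) (Steps.bwd (nat_lit 12) (Steps.bwd (nat_lit 1) (Steps.bwd (nat_lit 12) (Steps.bwd (nat_lit 12) (Steps.fwd (nat_lit 32768) (Steps.fwd (nat_lit 57344) Steps.nil)))))) (nat_lit 45) (nat_lit 5),
  Rule.mk (nat_lit 12) (nat_lit 102) (Steps.bwd (nat_lit 12) (Steps.fwd (nat_lit 32768) (Steps.bwd (nat_lit 13) (Steps.bwd (nat_lit 2) (Steps.fwd (nat_lit 45056) (Steps.fwd (nat_lit 8192) Steps.nil)))))) (nat_lit 45) (nat_lit 1),
  Rule.mk (nat_lit 2) (nat_lit 102) (Steps.bwd (nat_lit 12) (Steps.fwd (nat_lit 8192) (Steps.fwd (nat_lit 45056) (Steps.bwd (nat_lit 12) (Steps.bwd (nat_lit 7) (Steps.fwd (nat_lit 57344) Steps.nil)))))) (nat_lit 45) (nat_lit 5),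
  Rule.mk (nat_lit 13) (nat_lit 87) (Steps.bwd (nat_lit 7) (Steps.bwd (nat_lit 15) (Steps.bwd (nat_lit 15) (Steps.bwd (nat_lit 14) (Steps.fwd (nat_lit 28672) Steps.nil))))) (nat_lit 35) (nat_lit 5),
  Rule.mk (nat_lit 2) (nat_lit 102) (Steps.fwd (nat_lit 45056) (Steps.fwd (nat_lit 8192) (Steps.fwd (nat_lit 45056) (Steps.bwd (nat_lit 12) (Steps.fwd (nat_lit 32768) (Steps.bwd (nat_lit 13) Steps.nil)))))) (nat_lit 45) (nat_lit 5),
  Rule.mk (nat_lit 1) (nat_lit 132) (Steps.bwd (nat_lit 14) (Steps.fwd (nat_lit 28672) (Steps.bwd (nat_lit 14) (Steps.bwd (nat_lit 11) (Steps.bwd (nat_lit 9) (Steps.bwd (nat_lit 8) (Steps.bwd (nat_lit 2) (Steps.bwd (nat_lit 13) Steps.nil)))))))) (nat_lit 46) (nat_lit 3),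
  Rule.mk (nat_lit 11) (nat_lit 102) (Steps.bwd (nat_lit 1) (Steps.bwd (nat_lit 14) (Steps.fwd (nat_lit 28672) (Steps.fwd (nat_lit 49152) (Steps.fwd (nat_lit 49152) (Steps.bwd (nat_lit 2) Steps.nil)))))) (nat_lit 44) (nat_lit 2),
  Rule.mk (nat_lit 3) (nat_lit 117) (Steps.bwd (nat_lit 1) (Steps.bwd (nat_lit 3) (Steps.fwd (nat_lit 8192) (Steps.bwd (nat_lit 3) (Steps.bwd (nat_lit 1) (Steps.fwd (nat_lit 16384) (Steps.fwd (nat_lit 8192) Steps.nil))))))) (nat_lit 4) (nat_lit 0),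
  Rule.mk (nat_lit 1) (nat_lit 87) (Steps.bwd (nat_lit 3) (Steps.bwd (nat_lit 2) (Steps.bwd (nat_lit 2) (Steps.bwd (nat_lit 4) (Steps.fwd (nat_lit 8192) Steps.nil))))) (nat_lit 6) (nat_lit 5),
  Rule.mk (nat_lit 11) (nat_lit 102) (Steps.bwd (nat_lit 11) (Steps.fwd (nat_lit 4096) (Steps.bwd (nat_lit 11) (Steps.bwd (nat_lit 1) (Steps.bwd (nat_lit 14) (Steps.bwd (nat_lit 8) Steps.nil)))))) (nat_lit 44) (nat_lit 6),
  Rule.mk (nat_lit 2) (nat_lit 102) (Steps.bwd (nat_lit 11) (Steps.bwd (nat_lit 1) (Steps.fwd (nat_lit 53248) (Steps.fwd (nat_lit 28672) (Steps.bwd (nat_lit 11) (Steps.bwd (nat_lit 11) Steps.nil)))))) (nat_lit 44) (nat_lit 1),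
  Rule.mk (nat_lit 3) (nat_lit 117) (Steps.bwd (nat_lit 11) (Steps.fwd (nat_lit 49152) (Steps.bwd (nat_lit 14) (Steps.fwd (nat_lit 28672) (Steps.fwd (nat_lit 28672) (Steps.fwd (nat_lit 12288) (Steps.fwd (nat_lit 49152) Steps.nil))))))) (nat_lit 52) (nat_lit 3),
  Rule.mk (nat_lit 8) (nat_lit 102) (Steps.bwd (nat_lit 11) (Steps.bwd (nat_lit 11) (Steps.bwd (nat_lit 2) (Steps.bwd (nat_lit 11) (Steps.fwd (nat_lit 8192) (Steps.fwd (nat_lit 53248) Steps.nil)))))) (nat_lit 44) (nat_lit 5),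
  Rule.mk (nat_lit 13) (nat_lit 87) (Steps.fwd (nat_lit 32768) (Steps.bwd (nat_lit 15) (Steps.bwd (nat_lit 15) (Steps.fwd (nat_lit 53248) (Steps.bwd (nat_lit 8) Steps.nil))))) (nat_lit 35) (nat_lit 5),
  Rule.mk (nat_lit 9) (nat_lit 117) (Steps.bwd (nat_lit 3) (Steps.fwd (nat_lit 57344) (Steps.fwd (nat_lit 32768) (Steps.bwd (nat_lit 13) (Steps.fwd (nat_lit 45056) (Steps.fwd (nat_lit 36864) (Steps.bwd (nat_lit 4) Steps.nil))))))) (nat_lit 50) (nat_lit 2),
  Rule.mk (nat_lit 12) (nat_lit 117) (Steps.fwd (nat_lit 16384) (Steps.fwd (nat_lit 32768) (Steps.fwd (nat_lit 32768) (Steps.bwd (nat_lit 13) (Steps.fwd (nat_lit 45056) (Steps.bwd (nat_lit 12) (Steps.bwd (nat_lit 4) Steps.nil))))))) (nat_lit 53) (nat_lit 7),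
  Rule.mk (nat_lit 11) (nat_lit 117) (Steps.bwd (nat_lit 14) (Steps.bwd (nat_lit 8) (Steps.bwd (nat_lit 14) (Steps.fwd (nat_lit 12288) (Steps.fwd (nat_lit 36864) (Steps.bwd (nat_lit 3) (Steps.bwd (nat_lit 9) Steps.nil))))))) (nat_lit 51) (nat_lit 2),
  Rule.mk (nat_lit 1) (nat_lit 132) (Steps.bwd (nat_lit 14) (Steps.bwd (nat_lit 8) (Steps.bwd (nat_lit 14) (Steps.fwd (nat_lit 49152) (Steps.fwd (nat_lit 40960) (Steps.fwd (nat_lit 28672) (Steps.bwd (nat_lit 2) (Steps.fwd (nat_lit 57344) Steps.nil)))))))) (nat_lit 46) (nat_lit 3),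
  Rule.mk (nat_lit 14) (nat_lit 132) (Steps.bwd (nat_lit 8) (Steps.fwd (nat_lit 53248) (Steps.fwd (nat_lit 49152) (Steps.fwd (nat_lit 40960) (Steps.bwd (nat_lit 8) (Steps.fwd (nat_lit 4096) (Steps.bwd (nat_lit 13) (Steps.fwd (nat_lit 8192) Steps.nil)))))))) (nat_lit 46) (nat_lit 4),
  Rule.mk (nat_lit 1) (nat_lit 132) (Steps.fwd (nat_lit 53248) (Steps.bwd (nat_lit 8) (Steps.bwd (nat_lit 14) (Steps.fwd (nat_lit 49152) (Steps.fwd (nat_lit 40960) (Steps.fwd (nat_lit 28672) (Steps.bwd (nat_lit 2) (Steps.fwd (nat_lit 57344) Steps.nil)))))))) (nat_lit 46) (nat_lit 3),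
  Rule.mk (nat_lit 1) (nat_lit 132) (Steps.bwd (nat_lit 14) (Steps.bwd (nat_lit 8) (Steps.fwd (nat_lit 53248) (Steps.fwd (nat_lit 49152) (Steps.bwd (nat_lit 9) (Steps.fwd (nat_lit 28672) (Steps.bwd (nat_lit 2) (Steps.bwd (nat_lit 13) Steps.nil)))))))) (nat_lit 46) (nat_lit 3),
  Rule.mk (nat_lit 11) (nat_lit 102) (Steps.bwd (nat_lit 1) (Steps.bwd (nat_lit 14) (Steps.bwd (nat_lit 8) (Steps.bwd (nat_lit 11) (Steps.fwd (nat_lit 49152) (Steps.fwd (nat_lit 4096) Steps.nil)))))) (nat_lit 44) (nat_lit 2),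
  Rule.mk (nat_lit 1) (nat_lit 72) (Steps.bwd (nat_lit 7) (Steps.bwd (nat_lit 7) (Steps.fwd (nat_lit 4096) (Steps.fwd (nat_lit 40960) Steps.nil)))) (nat_lit 42) (nat_lit 3),
  Rule.mk (nat_lit 11) (nat_lit 87) (Steps.bwd (nat_lit 7) (Steps.fwd (nat_lit 61440) (Steps.bwd (nat_lit 16) (Steps.bwd (nat_lit 12) (Steps.fwd (nat_lit 28672) Steps.nil))))) (nat_lit 33) (nat_lit 5),
  Rule.mk (nat_lit 1) (nat_lit 87) (Steps.bwd (nat_lit 1) (Steps.fwd (nat_lit 12288) (Steps.bwd (nat_lit 2) (Steps.bwd (nat_lit 2) (Steps.bwd (nat_lit 3) Steps.nil))))) (nat_lit 7) (nat_lit 5),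
  Rule.mk (nat_lit 13) (nat_lit 132) (Steps.bwd (nat_lit 1) (Steps.fwd (nat_lit 53248) (Steps.bwd (nat_lit 8) (Steps.bwd (nat_lit 14) (Steps.bwd (nat_lit 11) (Steps.bwd (nat_lit 9) (Steps.fwd (nat_lit 28672) (Steps.bwd (nat_lit 2) Steps.nil)))))))) (nat_lit 46) (nat_lit 2),
  Rule.mk (nat_lit 2) (nat_lit 177) (Steps.bwd (nat_lit 3) (Steps.bwd (nat_lit 1) (Steps.fwd (nat_lit 12288) (Steps.bwd (nat_lit 2) (Steps.bwd (nat_lit 3) (Steps.fwd (nat_lit 8192) (Steps.bwd (nat_lit 4) (Steps.bwd (nat_lit 2) (Steps.fwd (nat_lit 16384) (Steps.fwd (nat_lit 8192) (Steps.bwd (nat_lit 4) Steps.nil))))))))))) (nat_lit 9) (nat_lit 2),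
  Rule.mk (nat_lit 12) (nat_lit 102) (Steps.fwd (nat_lit 32768) (Steps.fwd (nat_lit 57344) (Steps.fwd (nat_lit 4096) (Steps.bwd (nat_lit 12) (Steps.bwd (nat_lit 1) (Steps.bwd (nat_lit 12) Steps.nil)))))) (nat_lit 45) (nat_lit 2),
  Rule.mk (nat_lit 11) (nat_lit 72) (Steps.bwd (nat_lit 15) (Steps.fwd (nat_lit 36864) (Steps.bwd (nat_lit 12) (Steps.bwd (nat_lit 9) Steps.nil)))) (nat_lit 36) (nat_lit 4),
  Rule.mk (nat_lit 12) (nat_lit 87) (Steps.bwd (nat_lit 7) (Steps.bwd (nat_lit 11) (Steps.fwd (nat_lit 65536) (Steps.bwd (nat_lit 15) (Steps.bwd (nat_lit 8) Steps.nil))))) (nat_lit 32) (nat_lit 2),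
  Rule.mk (nat_lit 9) (nat_lit 72) (Steps.bwd (nat_lit 16) (Steps.fwd (nat_lit 45056) (Steps.bwd (nat_lit 10) (Steps.bwd (nat_lit 11) Steps.nil)))) (nat_lit 37) (nat_lit 0),
  Rule.mk (nat_lit 4) (nat_lit 117) (Steps.bwd (nat_lit 9) (Steps.fwd (nat_lit 16384) (Steps.fwd (nat_lit 57344) (Steps.bwd (nat_lit 7) (Steps.fwd (nat_lit 57344) (Steps.bwd (nat_lit 12) (Steps.fwd (nat_lit 36864) Steps.nil))))))) (nat_lit 50) (nat_lit 1),
  Rule.mk (nat_lit 8) (nat_lit 87) (Steps.fwd (nat_lit 49152) (Steps.fwd (nat_lit 32768) (Steps.bwd (nat_lit 16) (Steps.fwd (nat_lit 61440) (Steps.bwd (nat_lit 12) Steps.nil))))) (nat_lit 33) (nat_lit 4),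
  Rule.mk (nat_lit 14) (nat_lit 87) (Steps.bwd (nat_lit 8) (Steps.bwd (nat_lit 13) (Steps.bwd (nat_lit 7) (Steps.bwd (nat_lit 15) (Steps.bwd (nat_lit 15) Steps.nil))))) (nat_lit 35) (nat_lit 3),
  Rule.mk (nat_lit 3) (nat_lit 87) (Steps.bwd (nat_lit 1) (Steps.fwd (nat_lit 8192) (Steps.bwd (nat_lit 4) (Steps.bwd (nat_lit 2) (Steps.fwd (nat_lit 4096) Steps.nil))))) (nat_lit 7) (nat_lit 4),
  Rule.mk (nat_lit 11) (nat_lit 117) (Steps.bwd (nat_lit 3) (Steps.fwd (nat_lit 49152) (Steps.bwd (nat_lit 11) (Steps.fwd (nat_lit 53248) (Steps.bwd (nat_lit 8) (Steps.fwd (nat_lit 28672) (Steps.bwd (nat_lit 4) Steps.nil))))))) (nat_lit 52) (nat_lit 2),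
  Rule.mk (nat_lit 10) (nat_lit 117) (Steps.bwd (nat_lit 3) (Steps.bwd (nat_lit 9) (Steps.fwd (nat_lit 49152) (Steps.bwd (nat_lit 14) (Steps.fwd (nat_lit 28672) (Steps.bwd (nat_lit 14) (Steps.bwd (nat_lit 4) Steps.nil))))))) (nat_lit 51) (nat_lit 7),
  Rule.mk (nat_lit 7) (nat_lit 132) (Steps.bwd (nat_lit 10) (Steps.bwd (nat_lit 12) (Steps.bwd (nat_lit 13) (Steps.fwd (nat_lit 32768) (Steps.bwd (nat_lit 13) (Steps.fwd (nat_lit 4096) (Steps.fwd (nat_lit 53248) (Steps.fwd (nat_lit 8192) Steps.nil)))))))) (nat_lit 47) (nat_lit 1),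
  Rule.mk (nat_lit 13) (nat_lit 102) (Steps.fwd (nat_lit 4096) (Steps.fwd (nat_lit 45056) (Steps.fwd (nat_lit 8192) (Steps.bwd (nat_lit 12) (Steps.fwd (nat_lit 45056) (Steps.bwd (nat_lit 7) Steps.nil)))))) (nat_lit 45) (nat_lit 4),
  Rule.mk (nat_lit 16) (nat_lit 72) (Steps.bwd (nat_lit 12) (Steps.fwd (nat_lit 36864) (Steps.bwd (nat_lit 11) (Steps.fwd (nat_lit 40960) Steps.nil)))) (nat_lit 37) (nat_lit 1),
  Rule.mk (nat_lit 2) (nat_lit 102) (Steps.bwd (nat_lit 12) (Steps.bwd (nat_lit 1) (Steps.bwd (nat_lit 12) (Steps.bwd (nat_lit 12) (Steps.bwd (nat_lit 7) (Steps.bwd (nat_lit 13) Steps.nil)))))) (nat_lit 45) (nat_lit 5),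
  Rule.mk (nat_lit 3) (nat_lit 117) (Steps.bwd (nat_lit 11) (Steps.bwd (nat_lit 11) (Steps.fwd (nat_lit 53248) (Steps.bwd (nat_lit 8) (Steps.fwd (nat_lit 28672) (Steps.bwd (nat_lit 4) (Steps.fwd (nat_lit 49152) Steps.nil))))))) (nat_lit 52) (nat_lit 3),
  Rule.mk (nat_lit 3) (nat_lit 87) (Steps.bwd (nat_lit 1) (Steps.fwd (nat_lit 8192) (Steps.bwd (nat_lit 4) (Steps.bwd (nat_lit 2) (Steps.bwd (nat_lit 2) Steps.nil))))) (nat_lit 7) (nat_lit 4),
  Rule.mk (nat_lit 11) (nat_lit 102) (Steps.bwd (nat_lit 1) (Steps.fwd (nat_lit 53248) (Steps.fwd (nat_lit 28672) (Steps.bwd (nat_lit 11) (Steps.bwd (nat_lit 11) (Steps.bwd (nat_lit 2) Steps.nil)))))) (nat_lit 44) (nat_lit 2),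
  Rule.mk (nat_lit 12) (nat_lit 102) (Steps.bwd (nat_lit 1) (Steps.fwd (nat_lit 45056) (Steps.fwd (nat_lit 45056) (Steps.bwd (nat_lit 7) (Steps.fwd (nat_lit 57344) (Steps.fwd (nat_lit 4096) Steps.nil)))))) (nat_lit 45) (nat_lit 6),
  Rule.mk (nat_lit 11) (nat_lit 102) (Steps.bwd (nat_lit 11) (Steps.bwd (nat_lit 2) (Steps.bwd (nat_lit 11) (Steps.fwd (nat_lit 8192) (Steps.fwd (nat_lit 53248) (Steps.bwd (nat_lit 8) Steps.nil)))))) (nat_lit 44) (nat_lit 6),
  Rule.mk (nat_lit 11) (nat_lit 87) (Steps.bwd (nat_lit 7) (Steps.bwd (nat_lit 16) (Steps.fwd (nat_lit 61440) (Steps.fwd (nat_lit 45056) (Steps.bwd (nat_lit 8) Steps.nil))))) (nat_lit 33) (nat_lit 5),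
  Rule.mk (nat_lit 12) (nat_lit 132) (Steps.bwd (nat_lit 13) (Steps.bwd (nat_lit 7) (Steps.bwd (nat_lit 13) (Steps.fwd (nat_lit 4096) (Steps.bwd (nat_lit 14) (Steps.fwd (nat_lit 8192) (Steps.fwd (nat_lit 32768) (Steps.bwd (nat_lit 10) Steps.nil)))))))) (nat_lit 47) (nat_lit 3),
  Rule.mk (nat_lit 4) (nat_lit 117) (Steps.fwd (nat_lit 40960) (Steps.bwd (nat_lit 3) (Steps.fwd (nat_lit 57344) (Steps.fwd (nat_lit 32768) (Steps.fwd (nat_lit 57344) (Steps.bwd (nat_lit 12) (Steps.bwd (nat_lit 10) Steps.nil))))))) (nat_lit 50) (nat_lit 1),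
  Rule.mk (nat_lit 4) (nat_lit 117) (Steps.bwd (nat_lit 9) (Steps.fwd (nat_lit 16384) (Steps.fwd (nat_lit 57344) (Steps.fwd (nat_lit 32768) (Steps.bwd (nat_lit 13) (Steps.fwd (nat_lit 45056) (Steps.bwd (nat_lit 10) Steps.nil))))))) (nat_lit 50) (nat_lit 1),
  Rule.mk (nat_lit 2) (nat_lit 72) (Steps.fwd (nat_lit 61440) (Steps.bwd (nat_lit 1) (Steps.bwd (nat_lit 15) (Steps.fwd (nat_lit 65536) Steps.nil)))) (nat_lit 49) (nat_lit 3)]
noncomputable def R_28 : List (Rule) := [Rule.mk (nat_lit 2) (nat_lit 87) (Steps.fwd (nat_lit 12288) (Steps.fwd (nat_lit 8192) (Steps.fwd (nat_lit 8192) (Steps.fwd (nat_lit 16384) (Steps.bwd (nat_lit 2) Steps.nil))))) (nat_lit 6) (nat_lit 2),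
  Rule.mk (nat_lit 7) (nat_lit 117) (Steps.bwd (nat_lit 7) (Steps.fwd (nat_lit 57344) (Steps.bwd (nat_lit 12) (Steps.fwd (nat_lit 45056) (Steps.bwd (nat_lit 4) (Steps.bwd (nat_lit 12) (Steps.bwd (nat_lit 3) Steps.nil))))))) (nat_lit 53) (nat_lit 1),
  Rule.mk (nat_lit 2) (nat_lit 102) (Steps.bwd (nat_lit 12) (Steps.bwd (nat_lit 1) (Steps.bwd (nat_lit 12) (Steps.fwd (nat_lit 45056) (Steps.fwd (nat_lit 32768) (Steps.bwd (nat_lit 13) Steps.nil)))))) (nat_lit 45) (nat_lit 5),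
  Rule.mk (nat_lit 2) (nat_lit 102) (Steps.fwd (nat_lit 49152) (Steps.bwd (nat_lit 1) (Steps.fwd (nat_lit 53248) (Steps.fwd (nat_lit 28672) (Steps.bwd (nat_lit 11) (Steps.bwd (nat_lit 11) Steps.nil)))))) (nat_lit 44) (nat_lit 1),
  Rule.mk (nat_lit 9) (nat_lit 72) (Steps.bwd (nat_lit 16) (Steps.bwd (nat_lit 8) (Steps.fwd (nat_lit 36864) (Steps.bwd (nat_lit 7) Steps.nil)))) (nat_lit 19) (nat_lit 4),
  Rule.mk (nat_lit 4) (nat_lit 117) (Steps.bwd (nat_lit 10) (Steps.bwd (nat_lit 3) (Steps.fwd (nat_lit 40960) (Steps.bwd (nat_lit 11) (Steps.fwd (nat_lit 53248) (Steps.bwd (nat_lit 8) (Steps.fwd (nat_lit 53248) Steps.nil))))))) (nat_lit 51) (nat_lit 6),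
  Rule.mk (nat_lit 2) (nat_lit 102) (Steps.fwd (nat_lit 49152) (Steps.bwd (nat_lit 1) (Steps.bwd (nat_lit 14) (Steps.fwd (nat_lit 28672) (Steps.bwd (nat_lit 11) (Steps.bwd (nat_lit 11) Steps.nil)))))) (nat_lit 44) (nat_lit 1),
  Rule.mk (nat_lit 11) (nat_lit 72) (Steps.bwd (nat_lit 13) (Steps.fwd (nat_lit 65536) (Steps.fwd (nat_lit 45056) (Steps.fwd (nat_lit 53248) Steps.nil)))) (nat_lit 40) (nat_lit 3),
  Rule.mk (nat_lit 13) (nat_lit 57) (Steps.fwd (nat_lit 36864) (Steps.fwd (nat_lit 53248) (Steps.bwd (nat_lit 9) Steps.nil))) (nat_lit 38) (nat_lit 0),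
  Rule.mk (nat_lit 1) (nat_lit 117) (Steps.bwd (nat_lit 3) (Steps.bwd (nat_lit 1) (Steps.fwd (nat_lit 16384) (Steps.fwd (nat_lit 8192) (Steps.fwd (nat_lit 16384) (Steps.fwd (nat_lit 8192) (Steps.fwd (nat_lit 16384) Steps.nil))))))) (nat_lit 4) (nat_lit 1),
  Rule.mk (nat_lit 1) (nat_lit 87) (Steps.bwd (nat_lit 1) (Steps.bwd (nat_lit 3) (Steps.bwd (nat_lit 2) (Steps.fwd (nat_lit 4096) (Steps.fwd (nat_lit 12288) Steps.nil))))) (nat_lit 6) (nat_lit 4),
  Rule.mk (nat_lit 1) (nat_lit 87) (Steps.bwd (nat_lit 3) (Steps.bwd (nat_lit 2) (Steps.fwd (nat_lit 4096) (Steps.bwd (nat_lit 4) (Steps.fwd (nat_lit 8192) Steps.nil))))) (nat_lit 6) (nat_lit 5),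
  Rule.mk (nat_lit 4) (nat_lit 117) (Steps.bwd (nat_lit 9) (Steps.fwd (nat_lit 16384) (Steps.bwd (nat_lit 13) (Steps.bwd (nat_lit 7) (Steps.fwd (nat_lit 57344) (Steps.bwd (nat_lit 12) (Steps.bwd (nat_lit 10) Steps.nil))))))) (nat_lit 50) (nat_lit 1),
  Rule.mk (nat_lit 2) (nat_lit 102) (Steps.bwd (nat_lit 12) (Steps.bwd (nat_lit 1) (Steps.fwd (nat_lit 45056) (Steps.bwd (nat_lit 12) (Steps.fwd (nat_lit 32768) (Steps.bwd (nat_lit 13) Steps.nil)))))) (nat_lit 45) (nat_lit 5),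
  Rule.mk (nat_lit 12) (nat_lit 102) (Steps.bwd (nat_lit 12) (Steps.bwd (nat_lit 7) (Steps.bwd (nat_lit 13) (Steps.fwd (nat_lit 4096) (Steps.bwd (nat_lit 12) (Steps.bwd (nat_lit 1) Steps.nil)))))) (nat_lit 45) (nat_lit 1),
  Rule.mk (nat_lit 1) (nat_lit 102) (Steps.bwd (nat_lit 12) (Steps.bwd (nat_lit 12) (Steps.bwd (nat_lit 7) (Steps.fwd (nat_lit 57344) (Steps.bwd (nat_lit 2) (Steps.fwd (nat_lit 45056) Steps.nil)))))) (nat_lit 45) (nat_lit 0),
  Rule.mk (nat_lit 7) (nat_lit 117) (Steps.bwd (nat_lit 7) (Steps.bwd (nat_lit 13) (Steps.fwd (nat_lit 45056) (Steps.fwd (nat_lit 45056) (Steps.fwd (nat_lit 12288) (Steps.fwd (nat_lit 45056) (Steps.fwd (nat_lit 16384) Steps.nil))))))) (nat_lit 53) (nat_lit 1),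
  Rule.mk (nat_lit 13) (nat_lit 72) (Steps.fwd (nat_lit 65536) (Steps.bwd (nat_lit 12) (Steps.bwd (nat_lit 14) (Steps.fwd (nat_lit 49152) Steps.nil)))) (nat_lit 40) (nat_lit 4),
  Rule.mk (nat_lit 4) (nat_lit 117) (Steps.bwd (nat_lit 12) (Steps.fwd (nat_lit 16384) (Steps.fwd (nat_lit 32768) (Steps.bwd (nat_lit 7) (Steps.fwd (nat_lit 57344) (Steps.bwd (nat_lit 12) (Steps.fwd (nat_lit 45056) Steps.nil))))))) (nat_lit 53) (nat_lit 6),
  Rule.mk (nat_lit 7) (nat_lit 72) (Steps.fwd (nat_lit 32768) (Steps.fwd (nat_lit 4096) (Steps.fwd (nat_lit 40960) (Steps.bwd (nat_lit 1) Steps.nil)))) (nat_lit 42) (nat_lit 4),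
  Rule.mk (nat_lit 12) (nat_lit 117) (Steps.bwd (nat_lit 10) (Steps.bwd (nat_lit 4) (Steps.fwd (nat_lit 40960) (Steps.bwd (nat_lit 3) (Steps.fwd (nat_lit 57344) (Steps.fwd (nat_lit 32768) (Steps.bwd (nat_lit 13) Steps.nil))))))) (nat_lit 50) (nat_lit 7),
  Rule.mk (nat_lit 4) (nat_lit 117) (Steps.bwd (nat_lit 9) (Steps.fwd (nat_lit 16384) (Steps.fwd (nat_lit 57344) (Steps.bwd (nat_lit 7) (Steps.fwd (nat_lit 57344) (Steps.bwd (nat_lit 12) (Steps.bwd (nat_lit 10) Steps.nil))))))) (nat_lit 50) (nat_lit 1),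
  Rule.mk (nat_lit 12) (nat_lit 102) (Steps.bwd (nat_lit 12) (Steps.fwd (nat_lit 32768) (Steps.fwd (nat_lit 57344) (Steps.fwd (nat_lit 4096) (Steps.bwd (nat_lit 12) (Steps.fwd (nat_lit 8192) Steps.nil)))))) (nat_lit 45) (nat_lit 1),
  Rule.mk (nat_lit 2) (nat_lit 102) (Steps.bwd (nat_lit 12) (Steps.fwd (nat_lit 8192) (Steps.bwd (nat_lit 12) (Steps.bwd (nat_lit 12) (Steps.bwd (nat_lit 7) (Steps.fwd (nat_lit 57344) Steps.nil)))))) (nat_lit 45) (nat_lit 5),
  Rule.mk (nat_lit 7) (nat_lit 117) (Steps.bwd (nat_lit 7) (Steps.fwd (nat_lit 57344) (Steps.fwd (nat_lit 45056) (Steps.bwd (nat_lit 12) (Steps.fwd (nat_lit 12288) (Steps.bwd (nat_lit 12) (Steps.bwd (nat_lit 3) Steps.nil))))))) (nat_lit 53) (nat_lit 1),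
  Rule.mk (nat_lit 10) (nat_lit 72) (Steps.fwd (nat_lit 32768) (Steps.fwd (nat_lit 40960) (Steps.fwd (nat_lit 61440) (Steps.bwd (nat_lit 8) Steps.nil)))) (nat_lit 19) (nat_lit 2),
  Rule.mk (nat_lit 13) (nat_lit 117) (Steps.bwd (nat_lit 12) (Steps.bwd (nat_lit 10) (Steps.fwd (nat_lit 12288) (Steps.fwd (nat_lit 40960) (Steps.fwd (nat_lit 16384) (Steps.bwd (nat_lit 13) (Steps.bwd (nat_lit 7) Steps.nil))))))) (nat_lit 50) (nat_lit 6),
  Rule.mk (nat_lit 7) (nat_lit 72) (Steps.bwd (nat_lit 7) (Steps.bwd (nat_lit 7) (Steps.bwd (nat_lit 7) (Steps.fwd (nat_lit 32768) Steps.nil)))) (nat_lit 20) (nat_lit 0),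
  Rule.mk (nat_lit 13) (nat_lit 87) (Steps.bwd (nat_lit 16) (Steps.bwd (nat_lit 16) (Steps.bwd (nat_lit 8) (Steps.bwd (nat_lit 14) (Steps.bwd (nat_lit 7) Steps.nil))))) (nat_lit 34) (nat_lit 4),
  Rule.mk (nat_lit 7) (nat_lit 117) (Steps.bwd (nat_lit 13) (Steps.fwd (nat_lit 45056) (Steps.fwd (nat_lit 36864) (Steps.bwd (nat_lit 4) (Steps.fwd (nat_lit 40960) (Steps.bwd (nat_lit 3) (Steps.bwd (nat_lit 13) Steps.nil))))))) (nat_lit 50) (nat_lit 5),
  Rule.mk (nat_lit 3) (nat_lit 117) (Steps.bwd (nat_lit 13) (Steps.bwd (nat_lit 7) (Steps.bwd (nat_lit 13) (Steps.bwd (nat_lit 12) (Steps.bwd (nat_lit 10) (Steps.fwd (nat_lit 12288) (Steps.fwd (nat_lit 40960) Steps.nil))))))) (nat_lit 50) (nat_lit 3),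
  Rule.mk (nat_lit 11) (nat_lit 117) (Steps.fwd (nat_lit 53248) (Steps.bwd (nat_lit 8) (Steps.fwd (nat_lit 28672) (Steps.bwd (nat_lit 4) (Steps.bwd (nat_lit 11) (Steps.fwd (nat_lit 16384) (Steps.bwd (nat_lit 11) Steps.nil))))))) (nat_lit 52) (nat_lit 5),
  Rule.mk (nat_lit 14) (nat_lit 117) (Steps.fwd (nat_lit 28672) (Steps.fwd (nat_lit 28672) (Steps.bwd (nat_lit 4) (Steps.fwd (nat_lit 49152) (Steps.bwd (nat_lit 3) (Steps.bwd (nat_lit 11) (Steps.bwd (nat_lit 11) Steps.nil))))))) (nat_lit 52) (nat_lit 6),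
  Rule.mk (nat_lit 8) (nat_lit 87) (Steps.bwd (nat_lit 14) (Steps.bwd (nat_lit 7) (Steps.fwd (nat_lit 57344) (Steps.bwd (nat_lit 16) (Steps.fwd (nat_lit 61440) Steps.nil))))) (nat_lit 34) (nat_lit 1),
  Rule.mk (nat_lit 2) (nat_lit 132) (Steps.bwd (nat_lit 14) (Steps.fwd (nat_lit 8192) (Steps.fwd (nat_lit 32768) (Steps.bwd (nat_lit 10) (Steps.bwd (nat_lit 12) (Steps.bwd (nat_lit 13) (Steps.bwd (nat_lit 7) (Steps.fwd (nat_lit 57344) Steps.nil)))))))) (nat_lit 47) (nat_lit 7),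
  Rule.mk (nat_lit 4) (nat_lit 87) (Steps.bwd (nat_lit 2) (Steps.bwd (nat_lit 2) (Steps.fwd (nat_lit 16384) (Steps.fwd (nat_lit 8192) (Steps.bwd (nat_lit 1) Steps.nil))))) (nat_lit 7) (nat_lit 1),
  Rule.mk (nat_lit 11) (nat_lit 102) (Steps.bwd (nat_lit 2) (Steps.fwd (nat_lit 49152) (Steps.fwd (nat_lit 8192) (Steps.bwd (nat_lit 14) (Steps.fwd (nat_lit 28672) (Steps.bwd (nat_lit 11) Steps.nil)))))) (nat_lit 44) (nat_lit 0),
  Rule.mk (nat_lit 13) (nat_lit 72) (Steps.fwd (nat_lit 65536) (Steps.bwd (nat_lit 12) (Steps.fwd (nat_lit 53248) (Steps.bwd (nat_lit 11) Steps.nil)))) (nat_lit 40) (nat_lit 4),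
  Rule.mk (nat_lit 15) (nat_lit 57) (Steps.fwd (nat_lit 28672) (Steps.fwd (nat_lit 61440) (Steps.bwd (nat_lit 7) Steps.nil))) (nat_lit 24) (nat_lit 0),
  Rule.mk (nat_lit 13) (nat_lit 87) (Steps.bwd (nat_lit 16) (Steps.fwd (nat_lit 61440) (Steps.fwd (nat_lit 28672) (Steps.fwd (nat_lit 53248) (Steps.bwd (nat_lit 7) Steps.nil))))) (nat_lit 34) (nat_lit 4),
  Rule.mk (nat_lit 10) (nat_lit 132) (Steps.bwd (nat_lit 12) (Steps.bwd (nat_lit 13) (Steps.bwd (nat_lit 7) (Steps.bwd (nat_lit 13) (Steps.bwd (nat_lit 2) (Steps.bwd (nat_lit 14) (Steps.fwd (nat_lit 8192) (Steps.bwd (nat_lit 7) Steps.nil)))))))) (nat_lit 47) (nat_lit 2),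
  Rule.mk (nat_lit 11) (nat_lit 117) (Steps.bwd (nat_lit 14) (Steps.fwd (nat_lit 28672) (Steps.bwd (nat_lit 8) (Steps.fwd (nat_lit 12288) (Steps.fwd (nat_lit 49152) (Steps.fwd (nat_lit 16384) (Steps.fwd (nat_lit 49152) Steps.nil))))))) (nat_lit 52) (nat_lit 5),
  Rule.mk (nat_lit 2) (nat_lit 102) (Steps.bwd (nat_lit 11) (Steps.bwd (nat_lit 1) (Steps.fwd (nat_lit 53248) (Steps.bwd (nat_lit 8) (Steps.fwd (nat_lit 49152) (Steps.bwd (nat_lit 11) Steps.nil)))))) (nat_lit 44) (nat_lit 1),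
  Rule.mk (nat_lit 2) (nat_lit 87) (Steps.bwd (nat_lit 2) (Steps.fwd (nat_lit 12288) (Steps.fwd (nat_lit 8192) (Steps.bwd (nat_lit 1) (Steps.fwd (nat_lit 16384) Steps.nil))))) (nat_lit 6) (nat_lit 1),
  Rule.mk (nat_lit 8) (nat_lit 87) (Steps.bwd (nat_lit 14) (Steps.bwd (nat_lit 7) (Steps.bwd (nat_lit 13) (Steps.bwd (nat_lit 16) (Steps.bwd (nat_lit 16) Steps.nil))))) (nat_lit 34) (nat_lit 1),
  Rule.mk (nat_lit 8) (nat_lit 117) (Steps.fwd (nat_lit 12288) (Steps.fwd (nat_lit 49152) (Steps.fwd (nat_lit 16384) (Steps.fwd (nat_lit 49152) (Steps.fwd (nat_lit 49152) (Steps.fwd (nat_lit 53248) (Steps.bwd (nat_lit 8) Steps.nil))))))) (nat_lit 52) (nat_lit 0),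
  Rule.mk (nat_lit 9) (nat_lit 132) (Steps.bwd (nat_lit 8) (Steps.bwd (nat_lit 2) (Steps.bwd (nat_lit 13) (Steps.fwd (nat_lit 8192) (Steps.fwd (nat_lit 53248) (Steps.fwd (nat_lit 28672) (Steps.bwd (nat_lit 14) (Steps.fwd (nat_lit 49152) Steps.nil)))))))) (nat_lit 46) (nat_lit 8),
  Rule.mk (nat_lit 11) (nat_lit 117) (Steps.bwd (nat_lit 14) (Steps.fwd (nat_lit 28672) (Steps.bwd (nat_lit 8) (Steps.fwd (nat_lit 12288) (Steps.bwd (nat_lit 11) (Steps.bwd (nat_lit 3) (Steps.fwd (nat_lit 49152) Steps.nil))))))) (nat_lit 52) (nat_lit 5),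
  Rule.mk (nat_lit 11) (nat_lit 117) (Steps.bwd (nat_lit 14) (Steps.fwd (nat_lit 28672) (Steps.bwd (nat_lit 8) (Steps.bwd (nat_lit 4) (Steps.fwd (nat_lit 49152) (Steps.bwd (nat_lit 3) (Steps.bwd (nat_lit 11) Steps.nil))))))) (nat_lit 52) (nat_lit 5),
  Rule.mk (nat_lit 11) (nat_lit 117) (Steps.bwd (nat_lit 14) (Steps.bwd (nat_lit 8) (Steps.fwd (nat_lit 53248) (Steps.bwd (nat_lit 4) (Steps.bwd (nat_lit 10) (Steps.fwd (nat_lit 16384) (Steps.bwd (nat_lit 9) Steps.nil))))))) (nat_lit 51) (nat_lit 2),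
  Rule.mk (nat_lit 2) (nat_lit 102) (Steps.fwd (nat_lit 49152) (Steps.bwd (nat_lit 1) (Steps.fwd (nat_lit 53248) (Steps.bwd (nat_lit 8) (Steps.fwd (nat_lit 49152) (Steps.bwd (nat_lit 11) Steps.nil)))))) (nat_lit 44) (nat_lit 1),
  Rule.mk (nat_lit 13) (nat_lit 117) (Steps.bwd (nat_lit 7) (Steps.bwd (nat_lit 13) (Steps.bwd (nat_lit 12) (Steps.fwd (nat_lit 36864) (Steps.bwd (nat_lit 4) (Steps.fwd (nat_lit 40960) (Steps.bwd (nat_lit 3) Steps.nil))))))) (nat_lit 50) (nat_lit 4),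
  Rule.mk (nat_lit 7) (nat_lit 117) (Steps.bwd (nat_lit 13) (Steps.fwd (nat_lit 45056) (Steps.bwd (nat_lit 10) (Steps.bwd (nat_lit 4) (Steps.bwd (nat_lit 9) (Steps.fwd (nat_lit 16384) (Steps.fwd (nat_lit 57344) Steps.nil))))))) (nat_lit 50) (nat_lit 5),
  Rule.mk (nat_lit 14) (nat_lit 132) (Steps.bwd (nat_lit 11) (Steps.bwd (nat_lit 9) (Steps.fwd (nat_lit 28672) (Steps.bwd (nat_lit 2) (Steps.bwd (nat_lit 13) (Steps.bwd (nat_lit 1) (Steps.fwd (nat_lit 53248) (Steps.bwd (nat_lit 8) Steps.nil)))))))) (nat_lit 46) (nat_lit 6),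
  Rule.mk (nat_lit 4) (nat_lit 117) (Steps.bwd (nat_lit 10) (Steps.fwd (nat_lit 16384) (Steps.bwd (nat_lit 9) (Steps.bwd (nat_lit 11) (Steps.fwd (nat_lit 53248) (Steps.bwd (nat_lit 8) (Steps.bwd (nat_lit 14) Steps.nil))))))) (nat_lit 51) (nat_lit 6),
  Rule.mk (nat_lit 2) (nat_lit 132) (Steps.bwd (nat_lit 13) (Steps.bwd (nat_lit 1) (Steps.bwd (nat_lit 14) (Steps.fwd (nat_lit 28672) (Steps.fwd (nat_lit 53248) (Steps.fwd (nat_lit 49152) (Steps.bwd (nat_lit 9) (Steps.bwd (nat_lit 8) Steps.nil)))))))) (nat_lit 46) (nat_lit 1),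
  Rule.mk (nat_lit 15) (nat_lit 87) (Steps.bwd (nat_lit 15) (Steps.bwd (nat_lit 8) (Steps.fwd (nat_lit 45056) (Steps.bwd (nat_lit 7) (Steps.bwd (nat_lit 11) Steps.nil))))) (nat_lit 32) (nat_lit 5),
  Rule.mk (nat_lit 3) (nat_lit 177) (Steps.fwd (nat_lit 8192) (Steps.bwd (nat_lit 4) (Steps.bwd (nat_lit 2) (Steps.bwd (nat_lit 3) (Steps.bwd (nat_lit 1) (Steps.fwd (nat_lit 12288) (Steps.fwd (nat_lit 4096) (Steps.fwd (nat_lit 16384) (Steps.bwd (nat_lit 1) (Steps.bwd (nat_lit 4) (Steps.bwd (nat_lit 2) Steps.nil))))))))))) (nat_lit 9) (nat_lit 3),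
  Rule.mk (nat_lit 2) (nat_lit 132) (Steps.bwd (nat_lit 13) (Steps.bwd (nat_lit 1) (Steps.bwd (nat_lit 14) (Steps.bwd (nat_lit 8) (Steps.bwd (nat_lit 14) (Steps.bwd (nat_lit 11) (Steps.bwd (nat_lit 9) (Steps.bwd (nat_lit 8) Steps.nil)))))))) (nat_lit 46) (nat_lit 1),
  Rule.mk (nat_lit 13) (nat_lit 117) (Steps.bwd (nat_lit 7) (Steps.fwd (nat_lit 57344) (Steps.bwd (nat_lit 12) (Steps.bwd (nat_lit 10) (Steps.bwd (nat_lit 4) (Steps.bwd (nat_lit 9) (Steps.bwd (nat_lit 3) Steps.nil))))))) (nat_lit 50) (nat_lit 4),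
  Rule.mk (nat_lit 11) (nat_lit 72) (Steps.bwd (nat_lit 15) (Steps.fwd (nat_lit 36864) (Steps.fwd (nat_lit 45056) (Steps.fwd (nat_lit 40960) Steps.nil)))) (nat_lit 36) (nat_lit 4),
  Rule.mk (nat_lit 14) (nat_lit 132) (Steps.bwd (nat_lit 1) (Steps.bwd (nat_lit 7) (Steps.fwd (nat_lit 36864) (Steps.bwd (nat_lit 12) (Steps.fwd (nat_lit 57344) (Steps.bwd (nat_lit 7) (Steps.bwd (nat_lit 13) (Steps.fwd (nat_lit 4096) Steps.nil)))))))) (nat_lit 47) (nat_lit 8),
  Rule.mk (nat_lit 13) (nat_lit 117) (Steps.bwd (nat_lit 7) (Steps.bwd (nat_lit 13) (Steps.bwd (nat_lit 12) (Steps.fwd (nat_lit 36864) (Steps.fwd (nat_lit 12288) (Steps.bwd (nat_lit 9) (Steps.fwd (nat_lit 16384) Steps.nil))))))) (nat_lit 50) (nat_lit 4),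
  Rule.mk (nat_lit 12) (nat_lit 117) (Steps.bwd (nat_lit 12) (Steps.fwd (nat_lit 12288) (Steps.bwd (nat_lit 12) (Steps.bwd (nat_lit 3) (Steps.fwd (nat_lit 32768) (Steps.fwd (nat_lit 32768) (Steps.fwd (nat_lit 57344) Steps.nil))))))) (nat_lit 53) (nat_lit 4)]
noncomputable def R_29 : List (Rule) := [Rule.mk (nat_lit 3) (nat_lit 117) (Steps.fwd (nat_lit 40960) (Steps.bwd (nat_lit 11) (Steps.fwd (nat_lit 53248) (Steps.fwd (nat_lit 28672) (Steps.fwd (nat_lit 53248) (Steps.fwd (nat_lit 12288) (Steps.bwd (nat_lit 10) Steps.nil))))))) (nat_lit 51) (nat_lit 0),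
  Rule.mk (nat_lit 9) (nat_lit 72) (Steps.bwd (nat_lit 16) (Steps.bwd (nat_lit 12) (Steps.fwd (nat_lit 36864) (Steps.fwd (nat_lit 49152) Steps.nil)))) (nat_lit 37) (nat_lit 0),
  Rule.mk (nat_lit 8) (nat_lit 72) (Steps.fwd (nat_lit 36864) (Steps.fwd (nat_lit 32768) (Steps.bwd (nat_lit 9) (Steps.bwd (nat_lit 16) Steps.nil)))) (nat_lit 19) (nat_lit 1),
  Rule.mk (nat_lit 3) (nat_lit 117) (Steps.fwd (nat_lit 8192) (Steps.fwd (nat_lit 16384) (Steps.fwd (nat_lit 8192) (Steps.bwd (nat_lit 3) (Steps.fwd (nat_lit 8192) (Steps.fwd (nat_lit 16384) (Steps.bwd (nat_lit 1) Steps.nil))))))) (nat_lit 4) (nat_lit 0),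
  Rule.mk (nat_lit 14) (nat_lit 117) (Steps.bwd (nat_lit 8) (Steps.bwd (nat_lit 14) (Steps.bwd (nat_lit 4) (Steps.fwd (nat_lit 36864) (Steps.bwd (nat_lit 3) (Steps.bwd (nat_lit 9) (Steps.bwd (nat_lit 11) Steps.nil))))))) (nat_lit 51) (nat_lit 3),
  Rule.mk (nat_lit 1) (nat_lit 102) (Steps.bwd (nat_lit 14) (Steps.bwd (nat_lit 8) (Steps.bwd (nat_lit 11) (Steps.bwd (nat_lit 11) (Steps.fwd (nat_lit 4096) (Steps.fwd (nat_lit 49152) Steps.nil)))))) (nat_lit 44) (nat_lit 3),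
  Rule.mk (nat_lit 14) (nat_lit 102) (Steps.bwd (nat_lit 8) (Steps.bwd (nat_lit 11) (Steps.fwd (nat_lit 49152) (Steps.bwd (nat_lit 2) (Steps.fwd (nat_lit 49152) (Steps.fwd (nat_lit 8192) Steps.nil)))))) (nat_lit 44) (nat_lit 4),
  Rule.mk (nat_lit 11) (nat_lit 117) (Steps.bwd (nat_lit 3) (Steps.fwd (nat_lit 49152) (Steps.bwd (nat_lit 11) (Steps.fwd (nat_lit 53248) (Steps.fwd (nat_lit 28672) (Steps.fwd (nat_lit 28672) (Steps.bwd (nat_lit 4) Steps.nil))))))) (nat_lit 52) (nat_lit 2),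
  Rule.mk (nat_lit 14) (nat_lit 117) (Steps.fwd (nat_lit 28672) (Steps.fwd (nat_lit 28672) (Steps.bwd (nat_lit 4) (Steps.fwd (nat_lit 49152) (Steps.fwd (nat_lit 16384) (Steps.fwd (nat_lit 49152) (Steps.bwd (nat_lit 11) Steps.nil))))))) (nat_lit 52) (nat_lit 6),
  Rule.mk (nat_lit 4) (nat_lit 117) (Steps.fwd (nat_lit 49152) (Steps.fwd (nat_lit 16384) (Steps.fwd (nat_lit 49152) (Steps.bwd (nat_lit 11) (Steps.fwd (nat_lit 53248) (Steps.bwd (nat_lit 8) (Steps.bwd (nat_lit 8) Steps.nil))))))) (nat_lit 52) (nat_lit 1),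
  Rule.mk (nat_lit 2) (nat_lit 132) (Steps.fwd (nat_lit 57344) (Steps.fwd (nat_lit 8192) (Steps.bwd (nat_lit 14) (Steps.fwd (nat_lit 28672) (Steps.fwd (nat_lit 53248) (Steps.bwd (nat_lit 11) (Steps.bwd (nat_lit 9) (Steps.bwd (nat_lit 8) Steps.nil)))))))) (nat_lit 46) (nat_lit 1),
  Rule.mk (nat_lit 4) (nat_lit 117) (Steps.bwd (nat_lit 12) (Steps.bwd (nat_lit 3) (Steps.fwd (nat_lit 32768) (Steps.fwd (nat_lit 32768) (Steps.fwd (nat_lit 57344) (Steps.bwd (nat_lit 12) (Steps.fwd (nat_lit 45056) Steps.nil))))))) (nat_lit 53) (nat_lit 6),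
  Rule.mk (nat_lit 2) (nat_lit 72) (Steps.fwd (nat_lit 36864) (Steps.fwd (nat_lit 8192) (Steps.fwd (nat_lit 28672) (Steps.bwd (nat_lit 8) Steps.nil)))) (nat_lit 43) (nat_lit 3),
  Rule.mk (nat_lit 11) (nat_lit 117) (Steps.bwd (nat_lit 14) (Steps.bwd (nat_lit 8) (Steps.fwd (nat_lit 53248) (Steps.bwd (nat_lit 4) (Steps.bwd (nat_lit 10) (Steps.bwd (nat_lit 3) (Steps.fwd (nat_lit 40960) Steps.nil))))))) (nat_lit 51) (nat_lit 2),
  Rule.mk (nat_lit 14) (nat_lit 117) (Steps.bwd (nat_lit 4) (Steps.fwd (nat_lit 36864) (Steps.bwd (nat_lit 3) (Steps.bwd (nat_lit 9) (Steps.bwd (nat_lit 11) (Steps.fwd (nat_lit 53248) (Steps.bwd (nat_lit 8) Steps.nil))))))) (nat_lit 51) (nat_lit 5),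
  Rule.mk (nat_lit 1) (nat_lit 177) (Steps.bwd (nat_lit 4) (Steps.bwd (nat_lit 2) (Steps.bwd (nat_lit 3) (Steps.fwd (nat_lit 8192) (Steps.fwd (nat_lit 12288) (Steps.fwd (nat_lit 4096) (Steps.fwd (nat_lit 16384) (Steps.bwd (nat_lit 1) (Steps.bwd (nat_lit 4) (Steps.bwd (nat_lit 2) (Steps.bwd (nat_lit 3) Steps.nil))))))))))) (nat_lit 9) (nat_lit 0),
  Rule.mk (nat_lit 1) (nat_lit 102) (Steps.bwd (nat_lit 14) (Steps.fwd (nat_lit 28672) (Steps.fwd (nat_lit 49152) (Steps.fwd (nat_lit 49152) (Steps.bwd (nat_lit 2) (Steps.bwd (nat_lit 11) Steps.nil)))))) (nat_lit 44) (nat_lit 3),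
  Rule.mk (nat_lit 11) (nat_lit 117) (Steps.bwd (nat_lit 14) (Steps.fwd (nat_lit 28672) (Steps.fwd (nat_lit 28672) (Steps.bwd (nat_lit 4) (Steps.bwd (nat_lit 11) (Steps.fwd (nat_lit 16384) (Steps.fwd (nat_lit 49152) Steps.nil))))))) (nat_lit 52) (nat_lit 5),
  Rule.mk (nat_lit 11) (nat_lit 117) (Steps.bwd (nat_lit 3) (Steps.bwd (nat_lit 11) (Steps.bwd (nat_lit 11) (Steps.fwd (nat_lit 53248) (Steps.bwd (nat_lit 8) (Steps.bwd (nat_lit 8) (Steps.bwd (nat_lit 4) Steps.nil))))))) (nat_lit 52) (nat_lit 2),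
  Rule.mk (nat_lit 11) (nat_lit 102) (Steps.bwd (nat_lit 2) (Steps.fwd (nat_lit 49152) (Steps.bwd (nat_lit 1) (Steps.bwd (nat_lit 14) (Steps.bwd (nat_lit 8) (Steps.bwd (nat_lit 11) Steps.nil)))))) (nat_lit 44) (nat_lit 0),
  Rule.mk (nat_lit 12) (nat_lit 72) (Steps.fwd (nat_lit 36864) (Steps.bwd (nat_lit 11) (Steps.fwd (nat_lit 40960) (Steps.bwd (nat_lit 16) Steps.nil)))) (nat_lit 37) (nat_lit 2),
  Rule.mk (nat_lit 2) (nat_lit 132) (Steps.fwd (nat_lit 57344) (Steps.fwd (nat_lit 8192) (Steps.bwd (nat_lit 14) (Steps.bwd (nat_lit 8) (Steps.bwd (nat_lit 14) (Steps.fwd (nat_lit 49152) (Steps.bwd (nat_lit 9) (Steps.bwd (nat_lit 8) Steps.nil)))))))) (nat_lit 46) (nat_lit 1),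
  Rule.mk (nat_lit 13) (nat_lit 117) (Steps.bwd (nat_lit 7) (Steps.fwd (nat_lit 57344) (Steps.fwd (nat_lit 45056) (Steps.fwd (nat_lit 36864) (Steps.fwd (nat_lit 12288) (Steps.fwd (nat_lit 40960) (Steps.bwd (nat_lit 3) Steps.nil))))))) (nat_lit 50) (nat_lit 4),
  Rule.mk (nat_lit 11) (nat_lit 102) (Steps.bwd (nat_lit 11) (Steps.fwd (nat_lit 4096) (Steps.bwd (nat_lit 11) (Steps.fwd (nat_lit 8192) (Steps.fwd (nat_lit 53248) (Steps.bwd (nat_lit 8) Steps.nil)))))) (nat_lit 44) (nat_lit 6),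
  Rule.mk (nat_lit 4) (nat_lit 117) (Steps.bwd (nat_lit 12) (Steps.bwd (nat_lit 3) (Steps.bwd (nat_lit 7) (Steps.bwd (nat_lit 7) (Steps.bwd (nat_lit 13) (Steps.bwd (nat_lit 12) (Steps.fwd (nat_lit 45056) Steps.nil))))))) (nat_lit 53) (nat_lit 6),
  Rule.mk (nat_lit 11) (nat_lit 117) (Steps.bwd (nat_lit 14) (Steps.bwd (nat_lit 8) (Steps.fwd (nat_lit 28672) (Steps.fwd (nat_lit 12288) (Steps.fwd (nat_lit 49152) (Steps.fwd (nat_lit 16384) (Steps.bwd (nat_lit 11) Steps.nil))))))) (nat_lit 52) (nat_lit 5),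
  Rule.mk (nat_lit 11) (nat_lit 132) (Steps.bwd (nat_lit 9) (Steps.bwd (nat_lit 8) (Steps.bwd (nat_lit 2) (Steps.bwd (nat_lit 13) (Steps.bwd (nat_lit 1) (Steps.fwd (nat_lit 53248) (Steps.fwd (nat_lit 28672) (Steps.fwd (nat_lit 53248) Steps.nil)))))))) (nat_lit 46) (nat_lit 7),
  Rule.mk (nat_lit 11) (nat_lit 102) (Steps.fwd (nat_lit 4096) (Steps.bwd (nat_lit 11) (Steps.fwd (nat_lit 8192) (Steps.bwd (nat_lit 14) (Steps.bwd (nat_lit 8) (Steps.bwd (nat_lit 11) Steps.nil)))))) (nat_lit 44) (nat_lit 0),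
  Rule.mk (nat_lit 3) (nat_lit 117) (Steps.fwd (nat_lit 49152) (Steps.fwd (nat_lit 49152) (Steps.bwd (nat_lit 14) (Steps.fwd (nat_lit 28672) (Steps.bwd (nat_lit 8) (Steps.bwd (nat_lit 4) (Steps.bwd (nat_lit 11) Steps.nil))))))) (nat_lit 52) (nat_lit 3),
  Rule.mk (nat_lit 4) (nat_lit 117) (Steps.bwd (nat_lit 10) (Steps.fwd (nat_lit 16384) (Steps.fwd (nat_lit 40960) (Steps.bwd (nat_lit 11) (Steps.fwd (nat_lit 53248) (Steps.bwd (nat_lit 8) (Steps.bwd (nat_lit 14) Steps.nil))))))) (nat_lit 51) (nat_lit 6),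
  Rule.mk (nat_lit 11) (nat_lit 117) (Steps.bwd (nat_lit 14) (Steps.bwd (nat_lit 8) (Steps.fwd (nat_lit 53248) (Steps.bwd (nat_lit 4) (Steps.fwd (nat_lit 36864) (Steps.fwd (nat_lit 16384) (Steps.bwd (nat_lit 9) Steps.nil))))))) (nat_lit 51) (nat_lit 2),
  Rule.mk (nat_lit 7) (nat_lit 117) (Steps.bwd (nat_lit 13) (Steps.fwd (nat_lit 45056) (Steps.bwd (nat_lit 10) (Steps.bwd (nat_lit 4) (Steps.bwd (nat_lit 9) (Steps.bwd (nat_lit 3) (Steps.fwd (nat_lit 57344) Steps.nil))))))) (nat_lit 50) (nat_lit 5),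
  Rule.mk (nat_lit 2) (nat_lit 177) (Steps.bwd (nat_lit 3) (Steps.fwd (nat_lit 8192) (Steps.fwd (nat_lit 12288) (Steps.fwd (nat_lit 4096) (Steps.fwd (nat_lit 16384) (Steps.fwd (nat_lit 8192) (Steps.bwd (nat_lit 4) (Steps.fwd (nat_lit 4096) (Steps.fwd (nat_lit 16384) (Steps.fwd (nat_lit 8192) (Steps.bwd (nat_lit 4) Steps.nil))))))))))) (nat_lit 9) (nat_lit 2),
  Rule.mk (nat_lit 9) (nat_lit 117) (Steps.bwd (nat_lit 3) (Steps.bwd (nat_lit 13) (Steps.fwd (nat_lit 32768) (Steps.bwd (nat_lit 13) (Steps.bwd (nat_lit 12) (Steps.fwd (nat_lit 36864) (Steps.bwd (nat_lit 4) Steps.nil))))))) (nat_lit 50) (nat_lit 2),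
  Rule.mk (nat_lit 7) (nat_lit 72) (Steps.bwd (nat_lit 15) (Steps.fwd (nat_lit 36864) (Steps.bwd (nat_lit 8) (Steps.bwd (nat_lit 9) Steps.nil)))) (nat_lit 18) (nat_lit 0),
  Rule.mk (nat_lit 11) (nat_lit 117) (Steps.bwd (nat_lit 14) (Steps.bwd (nat_lit 8) (Steps.bwd (nat_lit 14) (Steps.fwd (nat_lit 12288) (Steps.bwd (nat_lit 10) (Steps.fwd (nat_lit 16384) (Steps.fwd (nat_lit 40960) Steps.nil))))))) (nat_lit 51) (nat_lit 2),
  Rule.mk (nat_lit 2) (nat_lit 87) (Steps.fwd (nat_lit 4096) (Steps.bwd (nat_lit 4) (Steps.bwd (nat_lit 1) (Steps.fwd (nat_lit 8192) (Steps.bwd (nat_lit 3) Steps.nil))))) (nat_lit 6) (nat_lit 1),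
  Rule.mk (nat_lit 13) (nat_lit 117) (Steps.bwd (nat_lit 7) (Steps.bwd (nat_lit 13) (Steps.fwd (nat_lit 45056) (Steps.fwd (nat_lit 36864) (Steps.bwd (nat_lit 4) (Steps.fwd (nat_lit 40960) (Steps.bwd (nat_lit 3) Steps.nil))))))) (nat_lit 50) (nat_lit 4),
  Rule.mk (nat_lit 4) (nat_lit 117) (Steps.bwd (nat_lit 2) (Steps.bwd (nat_lit 4) (Steps.bwd (nat_lit 2) (Steps.fwd (nat_lit 12288) (Steps.fwd (nat_lit 4096) (Steps.bwd (nat_lit 4) (Steps.bwd (nat_lit 2) Steps.nil))))))) (nat_lit 5) (nat_lit 1),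
  Rule.mk (nat_lit 12) (nat_lit 87) (Steps.bwd (nat_lit 7) (Steps.fwd (nat_lit 49152) (Steps.bwd (nat_lit 15) (Steps.fwd (nat_lit 65536) (Steps.fwd (nat_lit 28672) Steps.nil))))) (nat_lit 32) (nat_lit 2),
  Rule.mk (nat_lit 3) (nat_lit 117) (Steps.bwd (nat_lit 7) (Steps.bwd (nat_lit 7) (Steps.fwd (nat_lit 57344) (Steps.bwd (nat_lit 12) (Steps.fwd (nat_lit 45056) (Steps.fwd (nat_lit 12288) (Steps.bwd (nat_lit 12) Steps.nil))))))) (nat_lit 53) (nat_lit 0),
  Rule.mk (nat_lit 3) (nat_lit 117) (Steps.bwd (nat_lit 9) (Steps.bwd (nat_lit 11) (Steps.bwd (nat_lit 14) (Steps.fwd (nat_lit 28672) (Steps.fwd (nat_lit 53248) (Steps.bwd (nat_lit 4) (Steps.fwd (nat_lit 36864) Steps.nil))))))) (nat_lit 51) (nat_lit 0),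
  Rule.mk (nat_lit 16) (nat_lit 57) (Steps.fwd (nat_lit 32768) (Steps.bwd (nat_lit 15) (Steps.bwd (nat_lit 8) Steps.nil))) (nat_lit 24) (nat_lit 2),
  Rule.mk (nat_lit 14) (nat_lit 87) (Steps.fwd (nat_lit 32768) (Steps.fwd (nat_lit 57344) (Steps.bwd (nat_lit 16) (Steps.fwd (nat_lit 61440) (Steps.bwd (nat_lit 8) Steps.nil))))) (nat_lit 34) (nat_lit 2),
  Rule.mk (nat_lit 4) (nat_lit 117) (Steps.bwd (nat_lit 9) (Steps.bwd (nat_lit 3) (Steps.fwd (nat_lit 57344) (Steps.fwd (nat_lit 32768) (Steps.fwd (nat_lit 57344) (Steps.fwd (nat_lit 45056) (Steps.bwd (nat_lit 10) Steps.nil))))))) (nat_lit 50) (nat_lit 1),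
  Rule.mk (nat_lit 14) (nat_lit 132) (Steps.bwd (nat_lit 1) (Steps.bwd (nat_lit 7) (Steps.bwd (nat_lit 10) (Steps.bwd (nat_lit 12) (Steps.fwd (nat_lit 57344) (Steps.bwd (nat_lit 7) (Steps.fwd (nat_lit 57344) (Steps.bwd (nat_lit 2) Steps.nil)))))))) (nat_lit 47) (nat_lit 8),
  Rule.mk (nat_lit 7) (nat_lit 87) (Steps.fwd (nat_lit 57344) (Steps.fwd (nat_lit 61440) (Steps.fwd (nat_lit 61440) (Steps.bwd (nat_lit 8) (Steps.bwd (nat_lit 14) Steps.nil))))) (nat_lit 34) (nat_lit 3),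
  Rule.mk (nat_lit 8) (nat_lit 87) (Steps.bwd (nat_lit 13) (Steps.bwd (nat_lit 7) (Steps.bwd (nat_lit 15) (Steps.fwd (nat_lit 65536) (Steps.bwd (nat_lit 14) Steps.nil))))) (nat_lit 35) (nat_lit 4),
  Rule.mk (nat_lit 15) (nat_lit 87) (Steps.bwd (nat_lit 8) (Steps.bwd (nat_lit 12) (Steps.bwd (nat_lit 7) (Steps.bwd (nat_lit 11) (Steps.bwd (nat_lit 15) Steps.nil))))) (nat_lit 32) (nat_lit 0),
  Rule.mk (nat_lit 10) (nat_lit 117) (Steps.bwd (nat_lit 4) (Steps.fwd (nat_lit 40960) (Steps.bwd (nat_lit 3) (Steps.fwd (nat_lit 57344) (Steps.bwd (nat_lit 7) (Steps.bwd (nat_lit 13) (Steps.fwd (nat_lit 45056) Steps.nil))))))) (nat_lit 50) (nat_lit 0),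
  Rule.mk (nat_lit 1) (nat_lit 102) (Steps.bwd (nat_lit 14) (Steps.fwd (nat_lit 28672) (Steps.bwd (nat_lit 11) (Steps.bwd (nat_lit 11) (Steps.fwd (nat_lit 4096) (Steps.bwd (nat_lit 11) Steps.nil)))))) (nat_lit 44) (nat_lit 3),
  Rule.mk (nat_lit 11) (nat_lit 117) (Steps.bwd (nat_lit 14) (Steps.fwd (nat_lit 28672) (Steps.fwd (nat_lit 53248) (Steps.fwd (nat_lit 12288) (Steps.bwd (nat_lit 10) (Steps.fwd (nat_lit 16384) (Steps.fwd (nat_lit 40960) Steps.nil))))))) (nat_lit 51) (nat_lit 2),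
  Rule.mk (nat_lit 3) (nat_lit 117) (Steps.fwd (nat_lit 32768) (Steps.bwd (nat_lit 7) (Steps.fwd (nat_lit 57344) (Steps.fwd (nat_lit 45056) (Steps.fwd (nat_lit 45056) (Steps.bwd (nat_lit 4) (Steps.bwd (nat_lit 12) Steps.nil))))))) (nat_lit 53) (nat_lit 0),
  Rule.mk (nat_lit 10) (nat_lit 117) (Steps.bwd (nat_lit 4) (Steps.fwd (nat_lit 40960) (Steps.fwd (nat_lit 16384) (Steps.fwd (nat_lit 57344) (Steps.bwd (nat_lit 7) (Steps.fwd (nat_lit 57344) (Steps.fwd (nat_lit 45056) Steps.nil))))))) (nat_lit 50) (nat_lit 0),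
  Rule.mk (nat_lit 12) (nat_lit 117) (Steps.bwd (nat_lit 4) (Steps.fwd (nat_lit 45056) (Steps.fwd (nat_lit 16384) (Steps.fwd (nat_lit 32768) (Steps.bwd (nat_lit 7) (Steps.fwd (nat_lit 57344) (Steps.fwd (nat_lit 45056) Steps.nil))))))) (nat_lit 53) (nat_lit 5),
  Rule.mk (nat_lit 1) (nat_lit 102) (Steps.fwd (nat_lit 45056) (Steps.bwd (nat_lit 12) (Steps.bwd (nat_lit 7) (Steps.bwd (nat_lit 13) (Steps.fwd (nat_lit 4096) (Steps.bwd (nat_lit 12) Steps.nil)))))) (nat_lit 45) (nat_lit 0),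
  Rule.mk (nat_lit 11) (nat_lit 102) (Steps.bwd (nat_lit 1) (Steps.bwd (nat_lit 14) (Steps.fwd (nat_lit 28672) (Steps.bwd (nat_lit 11) (Steps.fwd (nat_lit 49152) (Steps.fwd (nat_lit 4096) Steps.nil)))))) (nat_lit 44) (nat_lit 2),
  Rule.mk (nat_lit 16) (nat_lit 57) (Steps.fwd (nat_lit 45056) (Steps.fwd (nat_lit 65536) (Steps.bwd (nat_lit 11) Steps.nil))) (nat_lit 29) (nat_lit 1),
  Rule.mk (nat_lit 8) (nat_lit 102) (Steps.bwd (nat_lit 11) (Steps.fwd (nat_lit 49152) (Steps.fwd (nat_lit 4096) (Steps.fwd (nat_lit 49152) (Steps.fwd (nat_lit 8192) (Steps.bwd (nat_lit 14) Steps.nil)))))) (nat_lit 44) (nat_lit 5),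
  Rule.mk (nat_lit 11) (nat_lit 102) (Steps.bwd (nat_lit 11) (Steps.fwd (nat_lit 4096) (Steps.bwd (nat_lit 11) (Steps.bwd (nat_lit 1) (Steps.bwd (nat_lit 14) (Steps.fwd (nat_lit 28672) Steps.nil)))))) (nat_lit 44) (nat_lit 6),
  Rule.mk (nat_lit 2) (nat_lit 102) (Steps.bwd (nat_lit 11) (Steps.fwd (nat_lit 8192) (Steps.bwd (nat_lit 14) (Steps.fwd (nat_lit 28672) (Steps.bwd (nat_lit 11) (Steps.bwd (nat_lit 11) Steps.nil)))))) (nat_lit 44) (nat_lit 1),
  Rule.mk (nat_lit 3) (nat_lit 177) (Steps.fwd (nat_lit 4096) (Steps.bwd (nat_lit 4) (Steps.fwd (nat_lit 8192) (Steps.fwd (nat_lit 16384) (Steps.fwd (nat_lit 4096) (Steps.bwd (nat_lit 4) (Steps.fwd (nat_lit 8192) (Steps.bwd (nat_lit 3) (Steps.bwd (nat_lit 2) (Steps.bwd (nat_lit 4) (Steps.fwd (nat_lit 8192) Steps.nil))))))))))) (nat_lit 8) (nat_lit 0),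
  Rule.mk (nat_lit 7) (nat_lit 72) (Steps.fwd (nat_lit 32768) (Steps.bwd (nat_lit 7) (Steps.bwd (nat_lit 7) (Steps.bwd (nat_lit 7) Steps.nil)))) (nat_lit 20) (nat_lit 0),
  Rule.mk (nat_lit 3) (nat_lit 87) (Steps.bwd (nat_lit 2) (Steps.fwd (nat_lit 4096) (Steps.fwd (nat_lit 12288) (Steps.bwd (nat_lit 1) (Steps.bwd (nat_lit 1) Steps.nil))))) (nat_lit 6) (nat_lit 0)]
noncomputable def R_30 : List (Rule) := [Rule.mk (nat_lit 14) (nat_lit 132) (Steps.bwd (nat_lit 1) (Steps.fwd (nat_lit 32768) (Steps.bwd (nat_lit 10) (Steps.fwd (nat_lit 45056) (Steps.bwd (nat_lit 13) (Steps.bwd (nat_lit 7) (Steps.bwd (nat_lit 13) (Steps.fwd (nat_lit 4096) Steps.nil)))))))) (nat_lit 47) (nat_lit 8),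
  Rule.mk (nat_lit 2) (nat_lit 87) (Steps.fwd (nat_lit 4096) (Steps.fwd (nat_lit 12288) (Steps.fwd (nat_lit 8192) (Steps.fwd (nat_lit 8192) (Steps.bwd (nat_lit 3) Steps.nil))))) (nat_lit 6) (nat_lit 1),
  Rule.mk (nat_lit 13) (nat_lit 72) (Steps.fwd (nat_lit 49152) (Steps.fwd (nat_lit 61440) (Steps.bwd (nat_lit 14) (Steps.fwd (nat_lit 45056) Steps.nil)))) (nat_lit 41) (nat_lit 4),
  Rule.mk (nat_lit 7) (nat_lit 132) (Steps.bwd (nat_lit 10) (Steps.fwd (nat_lit 45056) (Steps.bwd (nat_lit 13) (Steps.fwd (nat_lit 32768) (Steps.fwd (nat_lit 57344) (Steps.bwd (nat_lit 2) (Steps.bwd (nat_lit 14) (Steps.fwd (nat_lit 8192) Steps.nil)))))))) (nat_lit 47) (nat_lit 1),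
  Rule.mk (nat_lit 1) (nat_lit 87) (Steps.bwd (nat_lit 3) (Steps.fwd (nat_lit 4096) (Steps.bwd (nat_lit 2) (Steps.bwd (nat_lit 4) (Steps.bwd (nat_lit 1) Steps.nil))))) (nat_lit 6) (nat_lit 5),
  Rule.mk (nat_lit 10) (nat_lit 117) (Steps.bwd (nat_lit 3) (Steps.fwd (nat_lit 40960) (Steps.bwd (nat_lit 11) (Steps.fwd (nat_lit 53248) (Steps.fwd (nat_lit 28672) (Steps.fwd (nat_lit 53248) (Steps.fwd (nat_lit 12288) Steps.nil))))))) (nat_lit 51) (nat_lit 7),
  Rule.mk (nat_lit 8) (nat_lit 132) (Steps.bwd (nat_lit 14) (Steps.bwd (nat_lit 11) (Steps.fwd (nat_lit 40960) (Steps.bwd (nat_lit 8) (Steps.bwd (nat_lit 2) (Steps.fwd (nat_lit 57344) (Steps.bwd (nat_lit 1) (Steps.bwd (nat_lit 14) Steps.nil)))))))) (nat_lit 46) (nat_lit 5),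
  Rule.mk (nat_lit 3) (nat_lit 117) (Steps.bwd (nat_lit 9) (Steps.bwd (nat_lit 11) (Steps.bwd (nat_lit 14) (Steps.fwd (nat_lit 28672) (Steps.fwd (nat_lit 53248) (Steps.bwd (nat_lit 4) (Steps.bwd (nat_lit 10) Steps.nil))))))) (nat_lit 51) (nat_lit 0),
  Rule.mk (nat_lit 13) (nat_lit 132) (Steps.fwd (nat_lit 32768) (Steps.bwd (nat_lit 13) (Steps.fwd (nat_lit 4096) (Steps.fwd (nat_lit 53248) (Steps.fwd (nat_lit 8192) (Steps.fwd (nat_lit 32768) (Steps.bwd (nat_lit 10) (Steps.bwd (nat_lit 12) Steps.nil)))))))) (nat_lit 47) (nat_lit 4),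
  Rule.mk (nat_lit 13) (nat_lit 102) (Steps.bwd (nat_lit 2) (Steps.fwd (nat_lit 45056) (Steps.fwd (nat_lit 8192) (Steps.bwd (nat_lit 12) (Steps.bwd (nat_lit 12) (Steps.bwd (nat_lit 7) Steps.nil)))))) (nat_lit 45) (nat_lit 4),
  Rule.mk (nat_lit 3) (nat_lit 177) (Steps.bwd (nat_lit 2) (Steps.bwd (nat_lit 4) (Steps.bwd (nat_lit 1) (Steps.bwd (nat_lit 3) (Steps.fwd (nat_lit 4096) (Steps.bwd (nat_lit 4) (Steps.bwd (nat_lit 1) (Steps.bwd (nat_lit 3) (Steps.bwd (nat_lit 2) (Steps.bwd (nat_lit 4) (Steps.fwd (nat_lit 8192) Steps.nil))))))))))) (nat_lit 8) (nat_lit 0),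
  Rule.mk (nat_lit 4) (nat_lit 117) (Steps.bwd (nat_lit 2) (Steps.bwd (nat_lit 4) (Steps.fwd (nat_lit 4096) (Steps.fwd (nat_lit 12288) (Steps.bwd (nat_lit 2) (Steps.bwd (nat_lit 4) (Steps.fwd (nat_lit 4096) Steps.nil))))))) (nat_lit 5) (nat_lit 1),
  Rule.mk (nat_lit 3) (nat_lit 177) (Steps.bwd (nat_lit 2) (Steps.bwd (nat_lit 4) (Steps.bwd (nat_lit 1) (Steps.bwd (nat_lit 3) (Steps.bwd (nat_lit 2) (Steps.bwd (nat_lit 4) (Steps.bwd (nat_lit 1) (Steps.fwd (nat_lit 16384) (Steps.bwd (nat_lit 2) (Steps.bwd (nat_lit 4) (Steps.bwd (nat_lit 1) Steps.nil))))))))))) (nat_lit 8) (nat_lit 0),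
  Rule.mk (nat_lit 1) (nat_lit 117) (Steps.fwd (nat_lit 16384) (Steps.bwd (nat_lit 1) (Steps.bwd (nat_lit 3) (Steps.fwd (nat_lit 8192) (Steps.fwd (nat_lit 16384) (Steps.bwd (nat_lit 1) (Steps.bwd (nat_lit 3) Steps.nil))))))) (nat_lit 4) (nat_lit 1),
  Rule.mk (nat_lit 2) (nat_lit 87) (Steps.bwd (nat_lit 3) (Steps.bwd (nat_lit 1) (Steps.bwd (nat_lit 1) (Steps.bwd (nat_lit 4) (Steps.bwd (nat_lit 2) Steps.nil))))) (nat_lit 7) (nat_lit 3),
  Rule.mk (nat_lit 9) (nat_lit 117) (Steps.bwd (nat_lit 3) (Steps.bwd (nat_lit 13) (Steps.fwd (nat_lit 32768) (Steps.fwd (nat_lit 57344) (Steps.bwd (nat_lit 12) (Steps.fwd (nat_lit 36864) (Steps.fwd (nat_lit 12288) Steps.nil))))))) (nat_lit 50) (nat_lit 2),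
  Rule.mk (nat_lit 10) (nat_lit 117) (Steps.bwd (nat_lit 3) (Steps.fwd (nat_lit 40960) (Steps.fwd (nat_lit 49152) (Steps.bwd (nat_lit 14) (Steps.bwd (nat_lit 8) (Steps.fwd (nat_lit 53248) (Steps.bwd (nat_lit 4) Steps.nil))))))) (nat_lit 51) (nat_lit 7),
  Rule.mk (nat_lit 12) (nat_lit 117) (Steps.bwd (nat_lit 3) (Steps.bwd (nat_lit 7) (Steps.bwd (nat_lit 7) (Steps.fwd (nat_lit 57344) (Steps.fwd (nat_lit 45056) (Steps.fwd (nat_lit 45056) (Steps.bwd (nat_lit 4) Steps.nil))))))) (nat_lit 53) (nat_lit 7),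
  Rule.mk (nat_lit 3) (nat_lit 117) (Steps.bwd (nat_lit 13) (Steps.fwd (nat_lit 32768) (Steps.bwd (nat_lit 13) (Steps.fwd (nat_lit 45056) (Steps.fwd (nat_lit 36864) (Steps.fwd (nat_lit 12288) (Steps.fwd (nat_lit 40960) Steps.nil))))))) (nat_lit 50) (nat_lit 3),
  Rule.mk (nat_lit 1) (nat_lit 87) (Steps.bwd (nat_lit 1) (Steps.bwd (nat_lit 3) (Steps.bwd (nat_lit 2) (Steps.bwd (nat_lit 2) (Steps.bwd (nat_lit 4) Steps.nil))))) (nat_lit 6) (nat_lit 4),
  Rule.mk (nat_lit 14) (nat_lit 87) (Steps.fwd (nat_lit 32768) (Steps.fwd (nat_lit 57344) (Steps.fwd (nat_lit 61440) (Steps.bwd (nat_lit 16) (Steps.bwd (nat_lit 8) Steps.nil))))) (nat_lit 34) (nat_lit 2),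
  Rule.mk (nat_lit 2) (nat_lit 132) (Steps.fwd (nat_lit 57344) (Steps.bwd (nat_lit 1) (Steps.fwd (nat_lit 53248) (Steps.fwd (nat_lit 28672) (Steps.fwd (nat_lit 53248) (Steps.bwd (nat_lit 11) (Steps.bwd (nat_lit 9) (Steps.bwd (nat_lit 8) Steps.nil)))))))) (nat_lit 46) (nat_lit 1),
  Rule.mk (nat_lit 2) (nat_lit 102) (Steps.bwd (nat_lit 11) (Steps.fwd (nat_lit 8192) (Steps.fwd (nat_lit 53248) (Steps.bwd (nat_lit 8) (Steps.fwd (nat_lit 49152) (Steps.bwd (nat_lit 11) Steps.nil)))))) (nat_lit 44) (nat_lit 1),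
  Rule.mk (nat_lit 3) (nat_lit 87) (Steps.bwd (nat_lit 2) (Steps.fwd (nat_lit 4096) (Steps.fwd (nat_lit 12288) (Steps.bwd (nat_lit 1) (Steps.fwd (nat_lit 8192) Steps.nil))))) (nat_lit 6) (nat_lit 0),
  Rule.mk (nat_lit 11) (nat_lit 117) (Steps.fwd (nat_lit 49152) (Steps.fwd (nat_lit 53248) (Steps.fwd (nat_lit 28672) (Steps.fwd (nat_lit 28672) (Steps.fwd (nat_lit 12288) (Steps.bwd (nat_lit 11) (Steps.bwd (nat_lit 3) Steps.nil))))))) (nat_lit 52) (nat_lit 4),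
  Rule.mk (nat_lit 4) (nat_lit 117) (Steps.bwd (nat_lit 11) (Steps.bwd (nat_lit 3) (Steps.bwd (nat_lit 11) (Steps.bwd (nat_lit 11) (Steps.bwd (nat_lit 14) (Steps.fwd (nat_lit 28672) (Steps.bwd (nat_lit 8) Steps.nil))))))) (nat_lit 52) (nat_lit 1),
  Rule.mk (nat_lit 2) (nat_lit 132) (Steps.bwd (nat_lit 13) (Steps.fwd (nat_lit 8192) (Steps.bwd (nat_lit 14) (Steps.bwd (nat_lit 8) (Steps.bwd (nat_lit 14) (Steps.fwd (nat_lit 49152) (Steps.bwd (nat_lit 9) (Steps.fwd (nat_lit 28672) Steps.nil)))))))) (nat_lit 46) (nat_lit 1),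
  Rule.mk (nat_lit 16) (nat_lit 87) (Steps.bwd (nat_lit 8) (Steps.bwd (nat_lit 14) (Steps.bwd (nat_lit 7) (Steps.fwd (nat_lit 57344) (Steps.bwd (nat_lit 16) Steps.nil))))) (nat_lit 34) (nat_lit 0),
  Rule.mk (nat_lit 13) (nat_lit 117) (Steps.bwd (nat_lit 12) (Steps.bwd (nat_lit 10) (Steps.fwd (nat_lit 12288) (Steps.bwd (nat_lit 9) (Steps.bwd (nat_lit 3) (Steps.bwd (nat_lit 13) (Steps.bwd (nat_lit 7) Steps.nil))))))) (nat_lit 50) (nat_lit 6),
  Rule.mk (nat_lit 8) (nat_lit 87) (Steps.bwd (nat_lit 13) (Steps.bwd (nat_lit 7) (Steps.bwd (nat_lit 15) (Steps.fwd (nat_lit 65536) (Steps.fwd (nat_lit 53248) Steps.nil))))) (nat_lit 35) (nat_lit 4),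
  Rule.mk (nat_lit 2) (nat_lit 132) (Steps.bwd (nat_lit 14) (Steps.bwd (nat_lit 1) (Steps.fwd (nat_lit 32768) (Steps.bwd (nat_lit 10) (Steps.fwd (nat_lit 45056) (Steps.bwd (nat_lit 13) (Steps.bwd (nat_lit 7) (Steps.bwd (nat_lit 13) Steps.nil)))))))) (nat_lit 47) (nat_lit 7),
  Rule.mk (nat_lit 2) (nat_lit 102) (Steps.bwd (nat_lit 11) (Steps.fwd (nat_lit 8192) (Steps.bwd (nat_lit 14) (Steps.bwd (nat_lit 8) (Steps.bwd (nat_lit 11) (Steps.fwd (nat_lit 49152) Steps.nil)))))) (nat_lit 44) (nat_lit 1),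
  Rule.mk (nat_lit 2) (nat_lit 87) (Steps.fwd (nat_lit 12288) (Steps.bwd (nat_lit 1) (Steps.bwd (nat_lit 1) (Steps.fwd (nat_lit 16384) (Steps.bwd (nat_lit 2) Steps.nil))))) (nat_lit 6) (nat_lit 2),
  Rule.mk (nat_lit 11) (nat_lit 102) (Steps.fwd (nat_lit 8192) (Steps.fwd (nat_lit 53248) (Steps.fwd (nat_lit 28672) (Steps.fwd (nat_lit 49152) (Steps.bwd (nat_lit 11) (Steps.bwd (nat_lit 2) Steps.nil)))))) (nat_lit 44) (nat_lit 2),
  Rule.mk (nat_lit 3) (nat_lit 117) (Steps.bwd (nat_lit 7) (Steps.bwd (nat_lit 7) (Steps.fwd (nat_lit 57344) (Steps.fwd (nat_lit 45056) (Steps.fwd (nat_lit 45056) (Steps.bwd (nat_lit 4) (Steps.fwd (nat_lit 45056) Steps.nil))))))) (nat_lit 53) (nat_lit 0),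
  Rule.mk (nat_lit 11) (nat_lit 72) (Steps.bwd (nat_lit 13) (Steps.fwd (nat_lit 65536) (Steps.bwd (nat_lit 12) (Steps.bwd (nat_lit 14) Steps.nil)))) (nat_lit 40) (nat_lit 3),
  Rule.mk (nat_lit 12) (nat_lit 72) (Steps.fwd (nat_lit 40960) (Steps.bwd (nat_lit 11) (Steps.fwd (nat_lit 65536) (Steps.bwd (nat_lit 10) Steps.nil)))) (nat_lit 36) (nat_lit 2),
  Rule.mk (nat_lit 2) (nat_lit 87) (Steps.fwd (nat_lit 4096) (Steps.bwd (nat_lit 3) (Steps.fwd (nat_lit 8192) (Steps.bwd (nat_lit 1) (Steps.fwd (nat_lit 12288) Steps.nil))))) (nat_lit 7) (nat_lit 2),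
  Rule.mk (nat_lit 13) (nat_lit 117) (Steps.bwd (nat_lit 12) (Steps.bwd (nat_lit 12) (Steps.bwd (nat_lit 4) (Steps.bwd (nat_lit 12) (Steps.bwd (nat_lit 3) (Steps.fwd (nat_lit 32768) (Steps.fwd (nat_lit 32768) Steps.nil))))))) (nat_lit 53) (nat_lit 3),
  Rule.mk (nat_lit 11) (nat_lit 117) (Steps.bwd (nat_lit 11) (Steps.bwd (nat_lit 14) (Steps.bwd (nat_lit 8) (Steps.fwd (nat_lit 28672) (Steps.fwd (nat_lit 12288) (Steps.bwd (nat_lit 11) (Steps.fwd (nat_lit 16384) Steps.nil))))))) (nat_lit 52) (nat_lit 4),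
  Rule.mk (nat_lit 4) (nat_lit 117) (Steps.bwd (nat_lit 12) (Steps.fwd (nat_lit 16384) (Steps.bwd (nat_lit 7) (Steps.fwd (nat_lit 32768) (Steps.bwd (nat_lit 13) (Steps.fwd (nat_lit 45056) (Steps.bwd (nat_lit 12) Steps.nil))))))) (nat_lit 53) (nat_lit 6),
  Rule.mk (nat_lit 12) (nat_lit 102) (Steps.bwd (nat_lit 1) (Steps.bwd (nat_lit 12) (Steps.fwd (nat_lit 45056) (Steps.fwd (nat_lit 32768) (Steps.bwd (nat_lit 13) (Steps.bwd (nat_lit 2) Steps.nil)))))) (nat_lit 45) (nat_lit 6),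
  Rule.mk (nat_lit 13) (nat_lit 132) (Steps.fwd (nat_lit 32768) (Steps.bwd (nat_lit 13) (Steps.bwd (nat_lit 2) (Steps.fwd (nat_lit 53248) (Steps.bwd (nat_lit 1) (Steps.fwd (nat_lit 32768) (Steps.bwd (nat_lit 10) (Steps.bwd (nat_lit 12) Steps.nil)))))))) (nat_lit 47) (nat_lit 4),
  Rule.mk (nat_lit 4) (nat_lit 117) (Steps.fwd (nat_lit 49152) (Steps.bwd (nat_lit 3) (Steps.bwd (nat_lit 11) (Steps.fwd (nat_lit 49152) (Steps.bwd (nat_lit 14) (Steps.bwd (nat_lit 8) (Steps.bwd (nat_lit 8) Steps.nil))))))) (nat_lit 52) (nat_lit 1),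
  Rule.mk (nat_lit 4) (nat_lit 117) (Steps.bwd (nat_lit 2) (Steps.bwd (nat_lit 4) (Steps.bwd (nat_lit 2) (Steps.fwd (nat_lit 12288) (Steps.bwd (nat_lit 2) (Steps.fwd (nat_lit 12288) (Steps.bwd (nat_lit 2) Steps.nil))))))) (nat_lit 5) (nat_lit 1),
  Rule.mk (nat_lit 8) (nat_lit 132) (Steps.bwd (nat_lit 2) (Steps.fwd (nat_lit 57344) (Steps.bwd (nat_lit 1) (Steps.bwd (nat_lit 14) (Steps.fwd (nat_lit 28672) (Steps.fwd (nat_lit 53248) (Steps.fwd (nat_lit 49152) (Steps.bwd (nat_lit 9) Steps.nil)))))))) (nat_lit 46) (nat_lit 0),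
  Rule.mk (nat_lit 11) (nat_lit 87) (Steps.fwd (nat_lit 32768) (Steps.fwd (nat_lit 61440) (Steps.fwd (nat_lit 61440) (Steps.bwd (nat_lit 12) (Steps.bwd (nat_lit 8) Steps.nil))))) (nat_lit 33) (nat_lit 5),
  Rule.mk (nat_lit 3) (nat_lit 117) (Steps.bwd (nat_lit 7) (Steps.fwd (nat_lit 32768) (Steps.bwd (nat_lit 13) (Steps.bwd (nat_lit 12) (Steps.fwd (nat_lit 45056) (Steps.fwd (nat_lit 12288) (Steps.bwd (nat_lit 12) Steps.nil))))))) (nat_lit 53) (nat_lit 0),
  Rule.mk (nat_lit 12) (nat_lit 102) (Steps.fwd (nat_lit 8192) (Steps.bwd (nat_lit 12) (Steps.fwd (nat_lit 45056) (Steps.fwd (nat_lit 32768) (Steps.bwd (nat_lit 13) (Steps.bwd (nat_lit 2) Steps.nil)))))) (nat_lit 45) (nat_lit 6),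
  Rule.mk (nat_lit 8) (nat_lit 117) (Steps.fwd (nat_lit 53248) (Steps.bwd (nat_lit 4) (Steps.fwd (nat_lit 36864) (Steps.fwd (nat_lit 16384) (Steps.bwd (nat_lit 9) (Steps.fwd (nat_lit 49152) (Steps.bwd (nat_lit 14) Steps.nil))))))) (nat_lit 51) (nat_lit 4),
  Rule.mk (nat_lit 12) (nat_lit 72) (Steps.fwd (nat_lit 57344) (Steps.bwd (nat_lit 11) (Steps.fwd (nat_lit 61440) (Steps.bwd (nat_lit 14) Steps.nil)))) (nat_lit 41) (nat_lit 3),
  Rule.mk (nat_lit 2) (nat_lit 87) (Steps.bwd (nat_lit 3) (Steps.bwd (nat_lit 1) (Steps.bwd (nat_lit 1) (Steps.fwd (nat_lit 12288) (Steps.fwd (nat_lit 4096) Steps.nil))))) (nat_lit 7) (nat_lit 3),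
  Rule.mk (nat_lit 9) (nat_lit 117) (Steps.bwd (nat_lit 3) (Steps.fwd (nat_lit 57344) (Steps.fwd (nat_lit 32768) (Steps.bwd (nat_lit 13) (Steps.bwd (nat_lit 12) (Steps.bwd (nat_lit 10) (Steps.bwd (nat_lit 4) Steps.nil))))))) (nat_lit 50) (nat_lit 2),
  Rule.mk (nat_lit 10) (nat_lit 117) (Steps.bwd (nat_lit 3) (Steps.fwd (nat_lit 40960) (Steps.fwd (nat_lit 49152) (Steps.bwd (nat_lit 14) (Steps.fwd (nat_lit 28672) (Steps.bwd (nat_lit 14) (Steps.bwd (nat_lit 4) Steps.nil))))))) (nat_lit 51) (nat_lit 7),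
  Rule.mk (nat_lit 12) (nat_lit 117) (Steps.bwd (nat_lit 3) (Steps.bwd (nat_lit 7) (Steps.fwd (nat_lit 32768) (Steps.bwd (nat_lit 13) (Steps.fwd (nat_lit 45056) (Steps.fwd (nat_lit 45056) (Steps.fwd (nat_lit 12288) Steps.nil))))))) (nat_lit 53) (nat_lit 7),
  Rule.mk (nat_lit 8) (nat_lit 87) (Steps.fwd (nat_lit 49152) (Steps.bwd (nat_lit 7) (Steps.fwd (nat_lit 61440) (Steps.fwd (nat_lit 61440) (Steps.bwd (nat_lit 12) Steps.nil))))) (nat_lit 33) (nat_lit 4),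
  Rule.mk (nat_lit 8) (nat_lit 87) (Steps.fwd (nat_lit 49152) (Steps.bwd (nat_lit 7) (Steps.bwd (nat_lit 16) (Steps.fwd (nat_lit 61440) (Steps.fwd (nat_lit 45056) Steps.nil))))) (nat_lit 33) (nat_lit 4),
  Rule.mk (nat_lit 4) (nat_lit 87) (Steps.bwd (nat_lit 2) (Steps.fwd (nat_lit 4096) (Steps.bwd (nat_lit 3) (Steps.fwd (nat_lit 8192) (Steps.fwd (nat_lit 8192) Steps.nil))))) (nat_lit 7) (nat_lit 1),
  Rule.mk (nat_lit 4) (nat_lit 72) (Steps.fwd (nat_lit 12288) (Steps.bwd (nat_lit 4) (Steps.fwd (nat_lit 12288) (Steps.bwd (nat_lit 4) Steps.nil)))) (nat_lit 3) (nat_lit 0),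
  Rule.mk (nat_lit 8) (nat_lit 72) (Steps.fwd (nat_lit 36864) (Steps.bwd (nat_lit 7) (Steps.fwd (nat_lit 40960) (Steps.bwd (nat_lit 16) Steps.nil)))) (nat_lit 19) (nat_lit 1),
  Rule.mk (nat_lit 1) (nat_lit 132) (Steps.bwd (nat_lit 14) (Steps.fwd (nat_lit 28672) (Steps.bwd (nat_lit 14) (Steps.fwd (nat_lit 49152) (Steps.bwd (nat_lit 9) (Steps.bwd (nat_lit 8) (Steps.bwd (nat_lit 2) (Steps.fwd (nat_lit 57344) Steps.nil)))))))) (nat_lit 46) (nat_lit 3),
  Rule.mk (nat_lit 1) (nat_lit 72) (Steps.bwd (nat_lit 7) (Steps.fwd (nat_lit 32768) (Steps.fwd (nat_lit 4096) (Steps.fwd (nat_lit 40960) Steps.nil)))) (nat_lit 42) (nat_lit 3),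
  Rule.mk (nat_lit 12) (nat_lit 102) (Steps.fwd (nat_lit 45056) (Steps.fwd (nat_lit 32768) (Steps.fwd (nat_lit 57344) (Steps.bwd (nat_lit 2) (Steps.fwd (nat_lit 45056) (Steps.bwd (nat_lit 1) Steps.nil)))))) (nat_lit 45) (nat_lit 1),
  Rule.mk (nat_lit 3) (nat_lit 117) (Steps.bwd (nat_lit 13) (Steps.fwd (nat_lit 32768) (Steps.fwd (nat_lit 57344) (Steps.bwd (nat_lit 12) (Steps.fwd (nat_lit 36864) (Steps.fwd (nat_lit 12288) (Steps.bwd (nat_lit 9) Steps.nil))))))) (nat_lit 50) (nat_lit 3)]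
noncomputable def R_31 : List (Rule) := [Rule.mk (nat_lit 1) (nat_lit 102) (Steps.bwd (nat_lit 12) (Steps.bwd (nat_lit 12) (Steps.fwd (nat_lit 32768) (Steps.bwd (nat_lit 13) (Steps.fwd (nat_lit 4096) (Steps.bwd (nat_lit 12) Steps.nil)))))) (nat_lit 45) (nat_lit 0),
  Rule.mk (nat_lit 14) (nat_lit 117) (Steps.bwd (nat_lit 4) (Steps.bwd (nat_lit 10) (Steps.bwd (nat_lit 3) (Steps.fwd (nat_lit 40960) (Steps.bwd (nat_lit 11) (Steps.bwd (nat_lit 14) (Steps.fwd (nat_lit 28672) Steps.nil))))))) (nat_lit 51) (nat_lit 5),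
  Rule.mk (nat_lit 1) (nat_lit 87) (Steps.bwd (nat_lit 1) (Steps.fwd (nat_lit 16384) (Steps.bwd (nat_lit 2) (Steps.fwd (nat_lit 4096) (Steps.bwd (nat_lit 4) Steps.nil))))) (nat_lit 6) (nat_lit 4),
  Rule.mk (nat_lit 14) (nat_lit 132) (Steps.bwd (nat_lit 1) (Steps.fwd (nat_lit 32768) (Steps.bwd (nat_lit 10) (Steps.bwd (nat_lit 12) (Steps.fwd (nat_lit 57344) (Steps.bwd (nat_lit 7) (Steps.fwd (nat_lit 57344) (Steps.fwd (nat_lit 4096) Steps.nil)))))))) (nat_lit 47) (nat_lit 8),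
  Rule.mk (nat_lit 3) (nat_lit 177) (Steps.bwd (nat_lit 1) (Steps.bwd (nat_lit 4) (Steps.bwd (nat_lit 2) (Steps.fwd (nat_lit 16384) (Steps.bwd (nat_lit 1) (Steps.bwd (nat_lit 4) (Steps.fwd (nat_lit 4096) (Steps.bwd (nat_lit 3) (Steps.bwd (nat_lit 1) (Steps.fwd (nat_lit 12288) (Steps.fwd (nat_lit 4096) Steps.nil))))))))))) (nat_lit 9) (nat_lit 3),
  Rule.mk (nat_lit 8) (nat_lit 102) (Steps.fwd (nat_lit 49152) (Steps.fwd (nat_lit 49152) (Steps.bwd (nat_lit 2) (Steps.bwd (nat_lit 11) (Steps.bwd (nat_lit 1) (Steps.bwd (nat_lit 14) Steps.nil)))))) (nat_lit 44) (nat_lit 5),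
  Rule.mk (nat_lit 14) (nat_lit 102) (Steps.fwd (nat_lit 28672) (Steps.fwd (nat_lit 49152) (Steps.fwd (nat_lit 49152) (Steps.fwd (nat_lit 4096) (Steps.fwd (nat_lit 49152) (Steps.bwd (nat_lit 1) Steps.nil)))))) (nat_lit 44) (nat_lit 4),
  Rule.mk (nat_lit 14) (nat_lit 117) (Steps.bwd (nat_lit 4) (Steps.fwd (nat_lit 36864) (Steps.bwd (nat_lit 3) (Steps.bwd (nat_lit 9) (Steps.bwd (nat_lit 11) (Steps.bwd (nat_lit 14) (Steps.fwd (nat_lit 28672) Steps.nil))))))) (nat_lit 51) (nat_lit 5),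
  Rule.mk (nat_lit 8) (nat_lit 117) (Steps.bwd (nat_lit 4) (Steps.fwd (nat_lit 49152) (Steps.fwd (nat_lit 16384) (Steps.bwd (nat_lit 11) (Steps.fwd (nat_lit 49152) (Steps.fwd (nat_lit 53248) (Steps.bwd (nat_lit 8) Steps.nil))))))) (nat_lit 52) (nat_lit 0),
  Rule.mk (nat_lit 1) (nat_lit 177) (Steps.bwd (nat_lit 4) (Steps.fwd (nat_lit 4096) (Steps.fwd (nat_lit 16384) (Steps.fwd (nat_lit 8192) (Steps.bwd (nat_lit 4) (Steps.fwd (nat_lit 4096) (Steps.bwd (nat_lit 3) (Steps.bwd (nat_lit 1) (Steps.bwd (nat_lit 4) (Steps.bwd (nat_lit 2) (Steps.fwd (nat_lit 16384) Steps.nil))))))))))) (nat_lit 9) (nat_lit 0),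
  Rule.mk (nat_lit 8) (nat_lit 72) (Steps.fwd (nat_lit 28672) (Steps.bwd (nat_lit 2) (Steps.fwd (nat_lit 36864) (Steps.bwd (nat_lit 1) Steps.nil)))) (nat_lit 43) (nat_lit 1),
  Rule.mk (nat_lit 8) (nat_lit 87) (Steps.fwd (nat_lit 45056) (Steps.fwd (nat_lit 32768) (Steps.bwd (nat_lit 11) (Steps.bwd (nat_lit 15) (Steps.bwd (nat_lit 15) Steps.nil))))) (nat_lit 32) (nat_lit 1),
  Rule.mk (nat_lit 8) (nat_lit 117) (Steps.bwd (nat_lit 8) (Steps.bwd (nat_lit 4) (Steps.bwd (nat_lit 11) (Steps.fwd (nat_lit 16384) (Steps.bwd (nat_lit 11) (Steps.bwd (nat_lit 11) (Steps.fwd (nat_lit 53248) Steps.nil))))))) (nat_lit 52) (nat_lit 7),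
  Rule.mk (nat_lit 9) (nat_lit 132) (Steps.bwd (nat_lit 8) (Steps.fwd (nat_lit 4096) (Steps.bwd (nat_lit 13) (Steps.bwd (nat_lit 1) (Steps.bwd (nat_lit 14) (Steps.fwd (nat_lit 28672) (Steps.fwd (nat_lit 53248) (Steps.bwd (nat_lit 11) Steps.nil)))))))) (nat_lit 46) (nat_lit 8),
  Rule.mk (nat_lit 11) (nat_lit 117) (Steps.bwd (nat_lit 14) (Steps.fwd (nat_lit 28672) (Steps.bwd (nat_lit 14) (Steps.fwd (nat_lit 12288) (Steps.fwd (nat_lit 36864) (Steps.fwd (nat_lit 16384) (Steps.fwd (nat_lit 40960) Steps.nil))))))) (nat_lit 51) (nat_lit 2),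
  Rule.mk (nat_lit 4) (nat_lit 117) (Steps.bwd (nat_lit 12) (Steps.bwd (nat_lit 3) (Steps.fwd (nat_lit 32768) (Steps.fwd (nat_lit 32768) (Steps.bwd (nat_lit 13) (Steps.bwd (nat_lit 12) (Steps.fwd (nat_lit 45056) Steps.nil))))))) (nat_lit 53) (nat_lit 6),
  Rule.mk (nat_lit 11) (nat_lit 117) (Steps.bwd (nat_lit 3) (Steps.bwd (nat_lit 11) (Steps.bwd (nat_lit 11) (Steps.fwd (nat_lit 53248) (Steps.bwd (nat_lit 8) (Steps.fwd (nat_lit 28672) (Steps.bwd (nat_lit 4) Steps.nil))))))) (nat_lit 52) (nat_lit 2),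
  Rule.mk (nat_lit 2) (nat_lit 117) (Steps.fwd (nat_lit 12288) (Steps.bwd (nat_lit 2) (Steps.fwd (nat_lit 12288) (Steps.fwd (nat_lit 4096) (Steps.bwd (nat_lit 4) (Steps.bwd (nat_lit 2) (Steps.bwd (nat_lit 4) Steps.nil))))))) (nat_lit 5) (nat_lit 0),
  Rule.mk (nat_lit 2) (nat_lit 102) (Steps.bwd (nat_lit 11) (Steps.bwd (nat_lit 1) (Steps.bwd (nat_lit 14) (Steps.fwd (nat_lit 28672) (Steps.fwd (nat_lit 49152) (Steps.bwd (nat_lit 11) Steps.nil)))))) (nat_lit 44) (nat_lit 1),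
  Rule.mk (nat_lit 11) (nat_lit 117) (Steps.bwd (nat_lit 14) (Steps.bwd (nat_lit 8) (Steps.bwd (nat_lit 14) (Steps.fwd (nat_lit 12288) (Steps.bwd (nat_lit 10) (Steps.bwd (nat_lit 3) (Steps.bwd (nat_lit 9) Steps.nil))))))) (nat_lit 51) (nat_lit 2),
  Rule.mk (nat_lit 7) (nat_lit 87) (Steps.fwd (nat_lit 57344) (Steps.fwd (nat_lit 61440) (Steps.bwd (nat_lit 16) (Steps.fwd (nat_lit 28672) (Steps.bwd (nat_lit 14) Steps.nil))))) (nat_lit 34) (nat_lit 3),
  Rule.mk (nat_lit 3) (nat_lit 117) (Steps.bwd (nat_lit 9) (Steps.fwd (nat_lit 49152) (Steps.bwd (nat_lit 14) (Steps.bwd (nat_lit 8) (Steps.bwd (nat_lit 14) (Steps.fwd (nat_lit 12288) (Steps.bwd (nat_lit 10) Steps.nil))))))) (nat_lit 51) (nat_lit 0),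
  Rule.mk (nat_lit 4) (nat_lit 87) (Steps.fwd (nat_lit 8192) (Steps.fwd (nat_lit 8192) (Steps.bwd (nat_lit 3) (Steps.fwd (nat_lit 4096) (Steps.bwd (nat_lit 2) Steps.nil))))) (nat_lit 6) (nat_lit 3),
  Rule.mk (nat_lit 3) (nat_lit 87) (Steps.fwd (nat_lit 8192) (Steps.bwd (nat_lit 1) (Steps.fwd (nat_lit 12288) (Steps.fwd (nat_lit 4096) (Steps.bwd (nat_lit 2) Steps.nil))))) (nat_lit 7) (nat_lit 4),
  Rule.mk (nat_lit 11) (nat_lit 117) (Steps.bwd (nat_lit 14) (Steps.bwd (nat_lit 8) (Steps.bwd (nat_lit 14) (Steps.fwd (nat_lit 12288) (Steps.fwd (nat_lit 36864) (Steps.bwd (nat_lit 3) (Steps.fwd (nat_lit 40960) Steps.nil))))))) (nat_lit 51) (nat_lit 2),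
  Rule.mk (nat_lit 9) (nat_lit 57) (Steps.fwd (nat_lit 53248) (Steps.bwd (nat_lit 10) (Steps.fwd (nat_lit 57344) Steps.nil))) (nat_lit 39) (nat_lit 0),
  Rule.mk (nat_lit 9) (nat_lit 117) (Steps.bwd (nat_lit 11) (Steps.bwd (nat_lit 14) (Steps.fwd (nat_lit 28672) (Steps.fwd (nat_lit 53248) (Steps.fwd (nat_lit 12288) (Steps.fwd (nat_lit 36864) (Steps.bwd (nat_lit 3) Steps.nil))))))) (nat_lit 51) (nat_lit 1),
  Rule.mk (nat_lit 15) (nat_lit 57) (Steps.fwd (nat_lit 36864) (Steps.fwd (nat_lit 61440) (Steps.bwd (nat_lit 9) Steps.nil))) (nat_lit 26) (nat_lit 0),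
  Rule.mk (nat_lit 7) (nat_lit 72) (Steps.bwd (nat_lit 15) (Steps.fwd (nat_lit 36864) (Steps.fwd (nat_lit 28672) (Steps.fwd (nat_lit 40960) Steps.nil)))) (nat_lit 18) (nat_lit 0),
  Rule.mk (nat_lit 16) (nat_lit 72) (Steps.bwd (nat_lit 16) (Steps.bwd (nat_lit 2) (Steps.fwd (nat_lit 65536) (Steps.fwd (nat_lit 8192) Steps.nil)))) (nat_lit 48) (nat_lit 4),
  Rule.mk (nat_lit 2) (nat_lit 72) (Steps.bwd (nat_lit 16) (Steps.fwd (nat_lit 8192) (Steps.fwd (nat_lit 65536) (Steps.fwd (nat_lit 65536) Steps.nil)))) (nat_lit 49) (nat_lit 3),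
  Rule.mk (nat_lit 13) (nat_lit 87) (Steps.fwd (nat_lit 32768) (Steps.fwd (nat_lit 65536) (Steps.bwd (nat_lit 15) (Steps.fwd (nat_lit 53248) (Steps.bwd (nat_lit 8) Steps.nil))))) (nat_lit 35) (nat_lit 5),
  Rule.mk (nat_lit 12) (nat_lit 87) (Steps.fwd (nat_lit 32768) (Steps.fwd (nat_lit 49152) (Steps.bwd (nat_lit 15) (Steps.bwd (nat_lit 15) (Steps.bwd (nat_lit 8) Steps.nil))))) (nat_lit 32) (nat_lit 2),
  Rule.mk (nat_lit 2) (nat_lit 102) (Steps.bwd (nat_lit 12) (Steps.fwd (nat_lit 8192) (Steps.fwd (nat_lit 45056) (Steps.fwd (nat_lit 45056) (Steps.fwd (nat_lit 32768) (Steps.fwd (nat_lit 57344) Steps.nil)))))) (nat_lit 45) (nat_lit 5),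
  Rule.mk (nat_lit 8) (nat_lit 87) (Steps.bwd (nat_lit 14) (Steps.fwd (nat_lit 32768) (Steps.bwd (nat_lit 13) (Steps.bwd (nat_lit 16) (Steps.bwd (nat_lit 16) Steps.nil))))) (nat_lit 34) (nat_lit 1),
  Rule.mk (nat_lit 2) (nat_lit 117) (Steps.bwd (nat_lit 2) (Steps.fwd (nat_lit 4096) (Steps.bwd (nat_lit 2) (Steps.fwd (nat_lit 4096) (Steps.bwd (nat_lit 2) (Steps.bwd (nat_lit 2) (Steps.fwd (nat_lit 4096) Steps.nil))))))) (nat_lit 1) (nat_lit 0),
  Rule.mk (nat_lit 2) (nat_lit 87) (Steps.bwd (nat_lit 3) (Steps.fwd (nat_lit 8192) (Steps.fwd (nat_lit 8192) (Steps.fwd (nat_lit 12288) (Steps.fwd (nat_lit 4096) Steps.nil))))) (nat_lit 7) (nat_lit 3),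
  Rule.mk (nat_lit 9) (nat_lit 117) (Steps.bwd (nat_lit 3) (Steps.fwd (nat_lit 57344) (Steps.bwd (nat_lit 7) (Steps.bwd (nat_lit 13) (Steps.fwd (nat_lit 45056) (Steps.bwd (nat_lit 10) (Steps.fwd (nat_lit 12288) Steps.nil))))))) (nat_lit 50) (nat_lit 2),
  Rule.mk (nat_lit 10) (nat_lit 117) (Steps.bwd (nat_lit 3) (Steps.bwd (nat_lit 9) (Steps.fwd (nat_lit 49152) (Steps.fwd (nat_lit 53248) (Steps.bwd (nat_lit 8) (Steps.fwd (nat_lit 53248) (Steps.bwd (nat_lit 4) Steps.nil))))))) (nat_lit 51) (nat_lit 7),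
  Rule.mk (nat_lit 14) (nat_lit 87) (Steps.fwd (nat_lit 32768) (Steps.bwd (nat_lit 13) (Steps.fwd (nat_lit 61440) (Steps.bwd (nat_lit 16) (Steps.bwd (nat_lit 8) Steps.nil))))) (nat_lit 34) (nat_lit 2),
  Rule.mk (nat_lit 14) (nat_lit 117) (Steps.bwd (nat_lit 4) (Steps.bwd (nat_lit 10) (Steps.bwd (nat_lit 3) (Steps.fwd (nat_lit 40960) (Steps.fwd (nat_lit 49152) (Steps.fwd (nat_lit 53248) (Steps.fwd (nat_lit 28672) Steps.nil))))))) (nat_lit 51) (nat_lit 5),
  Rule.mk (nat_lit 8) (nat_lit 117) (Steps.bwd (nat_lit 4) (Steps.fwd (nat_lit 49152) (Steps.bwd (nat_lit 3) (Steps.fwd (nat_lit 49152) (Steps.fwd (nat_lit 49152) (Steps.bwd (nat_lit 14) (Steps.bwd (nat_lit 8) Steps.nil))))))) (nat_lit 52) (nat_lit 0),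
  Rule.mk (nat_lit 8) (nat_lit 87) (Steps.fwd (nat_lit 57344) (Steps.fwd (nat_lit 32768) (Steps.fwd (nat_lit 65536) (Steps.fwd (nat_lit 65536) (Steps.bwd (nat_lit 14) Steps.nil))))) (nat_lit 35) (nat_lit 4),
  Rule.mk (nat_lit 4) (nat_lit 117) (Steps.bwd (nat_lit 10) (Steps.bwd (nat_lit 3) (Steps.bwd (nat_lit 9) (Steps.fwd (nat_lit 49152) (Steps.bwd (nat_lit 14) (Steps.bwd (nat_lit 8) (Steps.bwd (nat_lit 14) Steps.nil))))))) (nat_lit 51) (nat_lit 6),
  Rule.mk (nat_lit 2) (nat_lit 87) (Steps.bwd (nat_lit 2) (Steps.fwd (nat_lit 12288) (Steps.fwd (nat_lit 8192) (Steps.fwd (nat_lit 8192) (Steps.fwd (nat_lit 16384) Steps.nil))))) (nat_lit 6) (nat_lit 1),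
  Rule.mk (nat_lit 11) (nat_lit 102) (Steps.bwd (nat_lit 2) (Steps.bwd (nat_lit 11) (Steps.bwd (nat_lit 1) (Steps.fwd (nat_lit 53248) (Steps.bwd (nat_lit 8) (Steps.fwd (nat_lit 49152) Steps.nil)))))) (nat_lit 44) (nat_lit 0),
  Rule.mk (nat_lit 13) (nat_lit 102) (Steps.bwd (nat_lit 2) (Steps.fwd (nat_lit 45056) (Steps.fwd (nat_lit 8192) (Steps.bwd (nat_lit 12) (Steps.fwd (nat_lit 45056) (Steps.fwd (nat_lit 32768) Steps.nil)))))) (nat_lit 45) (nat_lit 4),
  Rule.mk (nat_lit 8) (nat_lit 132) (Steps.bwd (nat_lit 2) (Steps.bwd (nat_lit 13) (Steps.bwd (nat_lit 1) (Steps.bwd (nat_lit 14) (Steps.bwd (nat_lit 8) (Steps.bwd (nat_lit 14) (Steps.bwd (nat_lit 11) (Steps.bwd (nat_lit 9) Steps.nil)))))))) (nat_lit 46) (nat_lit 0),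
  Rule.mk (nat_lit 4) (nat_lit 117) (Steps.fwd (nat_lit 49152) (Steps.bwd (nat_lit 3) (Steps.fwd (nat_lit 49152) (Steps.bwd (nat_lit 11) (Steps.fwd (nat_lit 53248) (Steps.fwd (nat_lit 28672) (Steps.bwd (nat_lit 8) Steps.nil))))))) (nat_lit 52) (nat_lit 1),
  Rule.mk (nat_lit 4) (nat_lit 117) (Steps.bwd (nat_lit 12) (Steps.fwd (nat_lit 16384) (Steps.bwd (nat_lit 7) (Steps.bwd (nat_lit 7) (Steps.bwd (nat_lit 13) (Steps.fwd (nat_lit 45056) (Steps.fwd (nat_lit 45056) Steps.nil))))))) (nat_lit 53) (nat_lit 6),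
  Rule.mk (nat_lit 14) (nat_lit 132) (Steps.bwd (nat_lit 1) (Steps.fwd (nat_lit 32768) (Steps.bwd (nat_lit 10) (Steps.bwd (nat_lit 12) (Steps.bwd (nat_lit 13) (Steps.bwd (nat_lit 7) (Steps.bwd (nat_lit 13) (Steps.fwd (nat_lit 4096) Steps.nil)))))))) (nat_lit 47) (nat_lit 8),
  Rule.mk (nat_lit 11) (nat_lit 72) (Steps.fwd (nat_lit 65536) (Steps.bwd (nat_lit 10) (Steps.fwd (nat_lit 45056) (Steps.bwd (nat_lit 9) Steps.nil)))) (nat_lit 36) (nat_lit 4),
  Rule.mk (nat_lit 1) (nat_lit 102) (Steps.bwd (nat_lit 14) (Steps.bwd (nat_lit 8) (Steps.bwd (nat_lit 11) (Steps.fwd (nat_lit 49152) (Steps.fwd (nat_lit 4096) (Steps.bwd (nat_lit 11) Steps.nil)))))) (nat_lit 44) (nat_lit 3),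
  Rule.mk (nat_lit 3) (nat_lit 117) (Steps.bwd (nat_lit 13) (Steps.fwd (nat_lit 32768) (Steps.fwd (nat_lit 57344) (Steps.bwd (nat_lit 12) (Steps.bwd (nat_lit 10) (Steps.fwd (nat_lit 12288) (Steps.bwd (nat_lit 9) Steps.nil))))))) (nat_lit 50) (nat_lit 3),
  Rule.mk (nat_lit 14) (nat_lit 132) (Steps.bwd (nat_lit 1) (Steps.bwd (nat_lit 7) (Steps.fwd (nat_lit 36864) (Steps.fwd (nat_lit 45056) (Steps.fwd (nat_lit 57344) (Steps.bwd (nat_lit 7) (Steps.bwd (nat_lit 13) (Steps.bwd (nat_lit 2) Steps.nil)))))))) (nat_lit 47) (nat_lit 8),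
  Rule.mk (nat_lit 16) (nat_lit 57) (Steps.fwd (nat_lit 57344) (Steps.fwd (nat_lit 65536) (Steps.bwd (nat_lit 14) Steps.nil))) (nat_lit 30) (nat_lit 2),
  Rule.mk (nat_lit 11) (nat_lit 72) (Steps.fwd (nat_lit 57344) (Steps.fwd (nat_lit 65536) (Steps.fwd (nat_lit 45056) (Steps.bwd (nat_lit 14) Steps.nil)))) (nat_lit 40) (nat_lit 3),
  Rule.mk (nat_lit 1) (nat_lit 177) (Steps.bwd (nat_lit 4) (Steps.fwd (nat_lit 4096) (Steps.bwd (nat_lit 3) (Steps.bwd (nat_lit 1) (Steps.fwd (nat_lit 12288) (Steps.fwd (nat_lit 4096) (Steps.bwd (nat_lit 3) (Steps.fwd (nat_lit 8192) (Steps.fwd (nat_lit 12288) (Steps.bwd (nat_lit 2) (Steps.bwd (nat_lit 3) Steps.nil))))))))))) (nat_lit 9) (nat_lit 0),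
  Rule.mk (nat_lit 9) (nat_lit 117) (Steps.bwd (nat_lit 3) (Steps.fwd (nat_lit 57344) (Steps.fwd (nat_lit 32768) (Steps.fwd (nat_lit 57344) (Steps.fwd (nat_lit 45056) (Steps.bwd (nat_lit 10) (Steps.fwd (nat_lit 12288) Steps.nil))))))) (nat_lit 50) (nat_lit 2),
  Rule.mk (nat_lit 10) (nat_lit 117) (Steps.bwd (nat_lit 3) (Steps.fwd (nat_lit 40960) (Steps.bwd (nat_lit 11) (Steps.fwd (nat_lit 53248) (Steps.bwd (nat_lit 8) (Steps.bwd (nat_lit 14) (Steps.fwd (nat_lit 12288) Steps.nil))))))) (nat_lit 51) (nat_lit 7),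
  Rule.mk (nat_lit 7) (nat_lit 72) (Steps.fwd (nat_lit 40960) (Steps.bwd (nat_lit 16) (Steps.fwd (nat_lit 28672) (Steps.bwd (nat_lit 10) Steps.nil)))) (nat_lit 19) (nat_lit 3),
  Rule.mk (nat_lit 1) (nat_lit 117) (Steps.bwd (nat_lit 3) (Steps.fwd (nat_lit 8192) (Steps.bwd (nat_lit 3) (Steps.fwd (nat_lit 8192) (Steps.fwd (nat_lit 16384) (Steps.fwd (nat_lit 8192) (Steps.fwd (nat_lit 16384) Steps.nil))))))) (nat_lit 4) (nat_lit 1),
  Rule.mk (nat_lit 7) (nat_lit 132) (Steps.bwd (nat_lit 10) (Steps.bwd (nat_lit 12) (Steps.bwd (nat_lit 13) (Steps.fwd (nat_lit 32768) (Steps.bwd (nat_lit 13) (Steps.fwd (nat_lit 4096) (Steps.bwd (nat_lit 14) (Steps.fwd (nat_lit 8192) Steps.nil)))))))) (nat_lit 47) (nat_lit 1),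
  Rule.mk (nat_lit 12) (nat_lit 117) (Steps.bwd (nat_lit 12) (Steps.bwd (nat_lit 4) (Steps.fwd (nat_lit 45056) (Steps.fwd (nat_lit 16384) (Steps.fwd (nat_lit 32768) (Steps.bwd (nat_lit 7) (Steps.fwd (nat_lit 57344) Steps.nil))))))) (nat_lit 53) (nat_lit 4)]
noncomputable def R_32 : List (Rule) := [Rule.mk (nat_lit 1) (nat_lit 132) (Steps.bwd (nat_lit 7) (Steps.fwd (nat_lit 36864) (Steps.fwd (nat_lit 45056) (Steps.bwd (nat_lit 13) (Steps.bwd (nat_lit 7) (Steps.bwd (nat_lit 13) (Steps.fwd (nat_lit 4096) (Steps.bwd (nat_lit 14) Steps.nil)))))))) (nat_lit 47) (nat_lit 0),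
  Rule.mk (nat_lit 4) (nat_lit 177) (Steps.bwd (nat_lit 1) (Steps.bwd (nat_lit 3) (Steps.fwd (nat_lit 4096) (Steps.bwd (nat_lit 4) (Steps.fwd (nat_lit 8192) (Steps.bwd (nat_lit 3) (Steps.bwd (nat_lit 2) (Steps.bwd (nat_lit 4) (Steps.bwd (nat_lit 1) (Steps.fwd (nat_lit 16384) (Steps.fwd (nat_lit 4096) Steps.nil))))))))))) (nat_lit 8) (nat_lit 2),
  Rule.mk (nat_lit 9) (nat_lit 117) (Steps.bwd (nat_lit 3) (Steps.bwd (nat_lit 13) (Steps.bwd (nat_lit 7) (Steps.bwd (nat_lit 13) (Steps.bwd (nat_lit 12) (Steps.bwd (nat_lit 10) (Steps.bwd (nat_lit 4) Steps.nil))))))) (nat_lit 50) (nat_lit 2),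
  Rule.mk (nat_lit 7) (nat_lit 117) (Steps.fwd (nat_lit 32768) (Steps.fwd (nat_lit 57344) (Steps.fwd (nat_lit 45056) (Steps.fwd (nat_lit 45056) (Steps.bwd (nat_lit 4) (Steps.fwd (nat_lit 45056) (Steps.bwd (nat_lit 3) Steps.nil))))))) (nat_lit 53) (nat_lit 1),
  Rule.mk (nat_lit 14) (nat_lit 87) (Steps.bwd (nat_lit 7) (Steps.bwd (nat_lit 13) (Steps.fwd (nat_lit 61440) (Steps.bwd (nat_lit 16) (Steps.bwd (nat_lit 8) Steps.nil))))) (nat_lit 34) (nat_lit 2),
  Rule.mk (nat_lit 14) (nat_lit 132) (Steps.bwd (nat_lit 11) (Steps.fwd (nat_lit 40960) (Steps.bwd (nat_lit 8) (Steps.bwd (nat_lit 2) (Steps.bwd (nat_lit 13) (Steps.fwd (nat_lit 8192) (Steps.fwd (nat_lit 53248) (Steps.bwd (nat_lit 8) Steps.nil)))))))) (nat_lit 46) (nat_lit 6),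
  Rule.mk (nat_lit 1) (nat_lit 102) (Steps.bwd (nat_lit 14) (Steps.bwd (nat_lit 8) (Steps.fwd (nat_lit 49152) (Steps.fwd (nat_lit 49152) (Steps.bwd (nat_lit 2) (Steps.bwd (nat_lit 11) Steps.nil)))))) (nat_lit 44) (nat_lit 3),
  Rule.mk (nat_lit 14) (nat_lit 117) (Steps.fwd (nat_lit 28672) (Steps.fwd (nat_lit 28672) (Steps.fwd (nat_lit 12288) (Steps.bwd (nat_lit 11) (Steps.fwd (nat_lit 16384) (Steps.bwd (nat_lit 11) (Steps.bwd (nat_lit 11) Steps.nil))))))) (nat_lit 52) (nat_lit 6),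
  Rule.mk (nat_lit 1) (nat_lit 132) (Steps.bwd (nat_lit 7) (Steps.bwd (nat_lit 10) (Steps.bwd (nat_lit 12) (Steps.bwd (nat_lit 13) (Steps.fwd (nat_lit 32768) (Steps.bwd (nat_lit 13) (Steps.bwd (nat_lit 2) (Steps.bwd (nat_lit 14) Steps.nil)))))))) (nat_lit 47) (nat_lit 0),
  Rule.mk (nat_lit 1) (nat_lit 117) (Steps.fwd (nat_lit 8192) (Steps.bwd (nat_lit 1) (Steps.bwd (nat_lit 1) (Steps.bwd (nat_lit 1) (Steps.fwd (nat_lit 8192) (Steps.bwd (nat_lit 1) (Steps.bwd (nat_lit 1) Steps.nil))))))) (nat_lit 0) (nat_lit 0),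
  Rule.mk (nat_lit 11) (nat_lit 72) (Steps.fwd (nat_lit 61440) (Steps.bwd (nat_lit 14) (Steps.bwd (nat_lit 12) (Steps.bwd (nat_lit 13) Steps.nil)))) (nat_lit 41) (nat_lit 0),
  Rule.mk (nat_lit 4) (nat_lit 117) (Steps.bwd (nat_lit 11) (Steps.bwd (nat_lit 3) (Steps.bwd (nat_lit 11) (Steps.fwd (nat_lit 49152) (Steps.fwd (nat_lit 53248) (Steps.bwd (nat_lit 8) (Steps.bwd (nat_lit 8) Steps.nil))))))) (nat_lit 52) (nat_lit 1),
  Rule.mk (nat_lit 9) (nat_lit 57) (Steps.fwd (nat_lit 4096) (Steps.fwd (nat_lit 20480) (Steps.bwd (nat_lit 1) Steps.nil))) (nat_lit 12) (nat_lit 1),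
  Rule.mk (nat_lit 8) (nat_lit 72) (Steps.fwd (nat_lit 40960) (Steps.bwd (nat_lit 7) (Steps.fwd (nat_lit 65536) (Steps.bwd (nat_lit 10) Steps.nil)))) (nat_lit 18) (nat_lit 3),
  Rule.mk (nat_lit 1) (nat_lit 102) (Steps.fwd (nat_lit 45056) (Steps.bwd (nat_lit 12) (Steps.fwd (nat_lit 32768) (Steps.fwd (nat_lit 57344) (Steps.bwd (nat_lit 2) (Steps.bwd (nat_lit 12) Steps.nil)))))) (nat_lit 45) (nat_lit 0),
  Rule.mk (nat_lit 12) (nat_lit 102) (Steps.bwd (nat_lit 7) (Steps.fwd (nat_lit 57344) (Steps.bwd (nat_lit 2) (Steps.bwd (nat_lit 12) (Steps.fwd (nat_lit 8192) (Steps.bwd (nat_lit 12) Steps.nil)))))) (nat_lit 45) (nat_lit 2),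
  Rule.mk (nat_lit 4) (nat_lit 87) (Steps.bwd (nat_lit 1) (Steps.fwd (nat_lit 8192) (Steps.fwd (nat_lit 16384) (Steps.bwd (nat_lit 2) (Steps.bwd (nat_lit 2) Steps.nil))))) (nat_lit 6) (nat_lit 3),
  Rule.mk (nat_lit 10) (nat_lit 117) (Steps.bwd (nat_lit 3) (Steps.bwd (nat_lit 9) (Steps.bwd (nat_lit 11) (Steps.fwd (nat_lit 53248) (Steps.bwd (nat_lit 8) (Steps.fwd (nat_lit 53248) (Steps.bwd (nat_lit 4) Steps.nil))))))) (nat_lit 51) (nat_lit 7),
  Rule.mk (nat_lit 13) (nat_lit 117) (Steps.bwd (nat_lit 12) (Steps.bwd (nat_lit 10) (Steps.fwd (nat_lit 12288) (Steps.bwd (nat_lit 9) (Steps.fwd (nat_lit 16384) (Steps.bwd (nat_lit 13) (Steps.bwd (nat_lit 7) Steps.nil))))))) (nat_lit 50) (nat_lit 6),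
  Rule.mk (nat_lit 4) (nat_lit 117) (Steps.bwd (nat_lit 12) (Steps.fwd (nat_lit 16384) (Steps.fwd (nat_lit 32768) (Steps.fwd (nat_lit 32768) (Steps.bwd (nat_lit 13) (Steps.bwd (nat_lit 12) (Steps.fwd (nat_lit 45056) Steps.nil))))))) (nat_lit 53) (nat_lit 6),
  Rule.mk (nat_lit 16) (nat_lit 72) (Steps.bwd (nat_lit 12) (Steps.bwd (nat_lit 10) (Steps.bwd (nat_lit 11) (Steps.bwd (nat_lit 9) Steps.nil)))) (nat_lit 37) (nat_lit 1),
  Rule.mk (nat_lit 1) (nat_lit 87) (Steps.bwd (nat_lit 1) (Steps.bwd (nat_lit 4) (Steps.bwd (nat_lit 2) (Steps.fwd (nat_lit 4096) (Steps.fwd (nat_lit 16384) Steps.nil))))) (nat_lit 7) (nat_lit 5),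
  Rule.mk (nat_lit 13) (nat_lit 132) (Steps.bwd (nat_lit 1) (Steps.bwd (nat_lit 14) (Steps.fwd (nat_lit 28672) (Steps.bwd (nat_lit 14) (Steps.bwd (nat_lit 11) (Steps.fwd (nat_lit 40960) (Steps.fwd (nat_lit 28672) (Steps.fwd (nat_lit 4096) Steps.nil)))))))) (nat_lit 46) (nat_lit 2),
  Rule.mk (nat_lit 14) (nat_lit 87) (Steps.bwd (nat_lit 8) (Steps.bwd (nat_lit 13) (Steps.fwd (nat_lit 32768) (Steps.bwd (nat_lit 15) (Steps.fwd (nat_lit 65536) Steps.nil))))) (nat_lit 35) (nat_lit 3),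
  Rule.mk (nat_lit 2) (nat_lit 102) (Steps.bwd (nat_lit 12) (Steps.bwd (nat_lit 1) (Steps.fwd (nat_lit 45056) (Steps.fwd (nat_lit 45056) (Steps.bwd (nat_lit 7) (Steps.bwd (nat_lit 13) Steps.nil)))))) (nat_lit 45) (nat_lit 5),
  Rule.mk (nat_lit 14) (nat_lit 132) (Steps.fwd (nat_lit 8192) (Steps.bwd (nat_lit 7) (Steps.bwd (nat_lit 10) (Steps.fwd (nat_lit 45056) (Steps.fwd (nat_lit 57344) (Steps.bwd (nat_lit 7) (Steps.bwd (nat_lit 13) (Steps.bwd (nat_lit 2) Steps.nil)))))))) (nat_lit 47) (nat_lit 8),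
  Rule.mk (nat_lit 4) (nat_lit 117) (Steps.bwd (nat_lit 9) (Steps.bwd (nat_lit 3) (Steps.bwd (nat_lit 13) (Steps.fwd (nat_lit 32768) (Steps.fwd (nat_lit 57344) (Steps.bwd (nat_lit 12) (Steps.fwd (nat_lit 36864) Steps.nil))))))) (nat_lit 50) (nat_lit 1),
  Rule.mk (nat_lit 4) (nat_lit 117) (Steps.fwd (nat_lit 4096) (Steps.bwd (nat_lit 4) (Steps.fwd (nat_lit 4096) (Steps.bwd (nat_lit 4) (Steps.bwd (nat_lit 2) (Steps.fwd (nat_lit 12288) (Steps.fwd (nat_lit 4096) Steps.nil))))))) (nat_lit 5) (nat_lit 1),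
  Rule.mk (nat_lit 12) (nat_lit 102) (Steps.bwd (nat_lit 12) (Steps.bwd (nat_lit 7) (Steps.fwd (nat_lit 57344) (Steps.bwd (nat_lit 2) (Steps.bwd (nat_lit 12) (Steps.fwd (nat_lit 8192) Steps.nil)))))) (nat_lit 45) (nat_lit 1),
  Rule.mk (nat_lit 1) (nat_lit 102) (Steps.bwd (nat_lit 12) (Steps.fwd (nat_lit 45056) (Steps.bwd (nat_lit 7) (Steps.fwd (nat_lit 57344) (Steps.fwd (nat_lit 4096) (Steps.bwd (nat_lit 12) Steps.nil)))))) (nat_lit 45) (nat_lit 0),
  Rule.mk (nat_lit 4) (nat_lit 117) (Steps.bwd (nat_lit 12) (Steps.bwd (nat_lit 3) (Steps.fwd (nat_lit 32768) (Steps.bwd (nat_lit 7) (Steps.bwd (nat_lit 13) (Steps.fwd (nat_lit 45056) (Steps.fwd (nat_lit 45056) Steps.nil))))))) (nat_lit 53) (nat_lit 6),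
  Rule.mk (nat_lit 4) (nat_lit 117) (Steps.bwd (nat_lit 11) (Steps.bwd (nat_lit 3) (Steps.fwd (nat_lit 49152) (Steps.bwd (nat_lit 11) (Steps.fwd (nat_lit 53248) (Steps.bwd (nat_lit 8) (Steps.bwd (nat_lit 8) Steps.nil))))))) (nat_lit 52) (nat_lit 1),
  Rule.mk (nat_lit 1) (nat_lit 87) (Steps.fwd (nat_lit 8192) (Steps.fwd (nat_lit 16384) (Steps.bwd (nat_lit 2) (Steps.bwd (nat_lit 2) (Steps.bwd (nat_lit 4) Steps.nil))))) (nat_lit 6) (nat_lit 4),
  Rule.mk (nat_lit 10) (nat_lit 132) (Steps.fwd (nat_lit 45056) (Steps.fwd (nat_lit 57344) (Steps.bwd (nat_lit 7) (Steps.bwd (nat_lit 13) (Steps.bwd (nat_lit 2) (Steps.fwd (nat_lit 53248) (Steps.fwd (nat_lit 8192) (Steps.fwd (nat_lit 32768) Steps.nil)))))))) (nat_lit 47) (nat_lit 2),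
  Rule.mk (nat_lit 2) (nat_lit 132) (Steps.bwd (nat_lit 13) (Steps.fwd (nat_lit 8192) (Steps.bwd (nat_lit 14) (Steps.fwd (nat_lit 28672) (Steps.fwd (nat_lit 53248) (Steps.bwd (nat_lit 11) (Steps.fwd (nat_lit 40960) (Steps.bwd (nat_lit 8) Steps.nil)))))))) (nat_lit 46) (nat_lit 1),
  Rule.mk (nat_lit 4) (nat_lit 87) (Steps.fwd (nat_lit 8192) (Steps.bwd (nat_lit 1) (Steps.bwd (nat_lit 3) (Steps.bwd (nat_lit 2) (Steps.bwd (nat_lit 2) Steps.nil))))) (nat_lit 6) (nat_lit 3),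
  Rule.mk (nat_lit 2) (nat_lit 132) (Steps.bwd (nat_lit 13) (Steps.bwd (nat_lit 1) (Steps.bwd (nat_lit 14) (Steps.fwd (nat_lit 28672) (Steps.bwd (nat_lit 14) (Steps.bwd (nat_lit 11) (Steps.bwd (nat_lit 9) (Steps.bwd (nat_lit 8) Steps.nil)))))))) (nat_lit 46) (nat_lit 1),
  Rule.mk (nat_lit 4) (nat_lit 177) (Steps.fwd (nat_lit 8192) (Steps.fwd (nat_lit 16384) (Steps.bwd (nat_lit 2) (Steps.fwd (nat_lit 12288) (Steps.fwd (nat_lit 8192) (Steps.bwd (nat_lit 3) (Steps.bwd (nat_lit 2) (Steps.fwd (nat_lit 12288) (Steps.fwd (nat_lit 8192) (Steps.bwd (nat_lit 3) (Steps.bwd (nat_lit 2) Steps.nil))))))))))) (nat_lit 8) (nat_lit 2),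
  Rule.mk (nat_lit 3) (nat_lit 117) (Steps.bwd (nat_lit 9) (Steps.bwd (nat_lit 11) (Steps.fwd (nat_lit 53248) (Steps.bwd (nat_lit 8) (Steps.bwd (nat_lit 14) (Steps.bwd (nat_lit 4) (Steps.fwd (nat_lit 36864) Steps.nil))))))) (nat_lit 51) (nat_lit 0),
  Rule.mk (nat_lit 4) (nat_lit 87) (Steps.bwd (nat_lit 2) (Steps.bwd (nat_lit 2) (Steps.bwd (nat_lit 3) (Steps.bwd (nat_lit 1) (Steps.fwd (nat_lit 8192) Steps.nil))))) (nat_lit 7) (nat_lit 1),
  Rule.mk (nat_lit 13) (nat_lit 102) (Steps.bwd (nat_lit 2) (Steps.fwd (nat_lit 45056) (Steps.bwd (nat_lit 1) (Steps.bwd (nat_lit 12) (Steps.bwd (nat_lit 12) (Steps.fwd (nat_lit 32768) Steps.nil)))))) (nat_lit 45) (nat_lit 4),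
  Rule.mk (nat_lit 4) (nat_lit 117) (Steps.bwd (nat_lit 11) (Steps.bwd (nat_lit 3) (Steps.bwd (nat_lit 11) (Steps.fwd (nat_lit 49152) (Steps.bwd (nat_lit 14) (Steps.bwd (nat_lit 8) (Steps.fwd (nat_lit 28672) Steps.nil))))))) (nat_lit 52) (nat_lit 1),
  Rule.mk (nat_lit 11) (nat_lit 102) (Steps.bwd (nat_lit 2) (Steps.fwd (nat_lit 49152) (Steps.bwd (nat_lit 1) (Steps.bwd (nat_lit 14) (Steps.fwd (nat_lit 28672) (Steps.fwd (nat_lit 49152) Steps.nil)))))) (nat_lit 44) (nat_lit 0),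
  Rule.mk (nat_lit 9) (nat_lit 132) (Steps.bwd (nat_lit 8) (Steps.bwd (nat_lit 2) (Steps.bwd (nat_lit 13) (Steps.bwd (nat_lit 1) (Steps.fwd (nat_lit 53248) (Steps.bwd (nat_lit 8) (Steps.fwd (nat_lit 53248) (Steps.bwd (nat_lit 11) Steps.nil)))))))) (nat_lit 46) (nat_lit 8),
  Rule.mk (nat_lit 3) (nat_lit 117) (Steps.bwd (nat_lit 13) (Steps.fwd (nat_lit 32768) (Steps.bwd (nat_lit 13) (Steps.bwd (nat_lit 12) (Steps.bwd (nat_lit 10) (Steps.fwd (nat_lit 12288) (Steps.bwd (nat_lit 9) Steps.nil))))))) (nat_lit 50) (nat_lit 3),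
  Rule.mk (nat_lit 9) (nat_lit 117) (Steps.bwd (nat_lit 11) (Steps.bwd (nat_lit 14) (Steps.bwd (nat_lit 8) (Steps.bwd (nat_lit 14) (Steps.fwd (nat_lit 12288) (Steps.fwd (nat_lit 36864) (Steps.bwd (nat_lit 3) Steps.nil))))))) (nat_lit 51) (nat_lit 1),
  Rule.mk (nat_lit 4) (nat_lit 117) (Steps.bwd (nat_lit 12) (Steps.bwd (nat_lit 3) (Steps.fwd (nat_lit 32768) (Steps.bwd (nat_lit 7) (Steps.fwd (nat_lit 57344) (Steps.bwd (nat_lit 12) (Steps.fwd (nat_lit 45056) Steps.nil))))))) (nat_lit 53) (nat_lit 6),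
  Rule.mk (nat_lit 2) (nat_lit 117) (Steps.bwd (nat_lit 4) (Steps.bwd (nat_lit 2) (Steps.bwd (nat_lit 4) (Steps.bwd (nat_lit 2) (Steps.fwd (nat_lit 12288) (Steps.bwd (nat_lit 2) (Steps.bwd (nat_lit 4) Steps.nil))))))) (nat_lit 5) (nat_lit 0),
  Rule.mk (nat_lit 8) (nat_lit 117) (Steps.bwd (nat_lit 4) (Steps.bwd (nat_lit 11) (Steps.fwd (nat_lit 16384) (Steps.fwd (nat_lit 49152) (Steps.fwd (nat_lit 49152) (Steps.fwd (nat_lit 53248) (Steps.bwd (nat_lit 8) Steps.nil))))))) (nat_lit 52) (nat_lit 0),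
  Rule.mk (nat_lit 10) (nat_lit 117) (Steps.bwd (nat_lit 4) (Steps.bwd (nat_lit 9) (Steps.fwd (nat_lit 16384) (Steps.bwd (nat_lit 13) (Steps.bwd (nat_lit 7) (Steps.fwd (nat_lit 57344) (Steps.bwd (nat_lit 12) Steps.nil))))))) (nat_lit 50) (nat_lit 0),
  Rule.mk (nat_lit 8) (nat_lit 117) (Steps.bwd (nat_lit 4) (Steps.bwd (nat_lit 11) (Steps.bwd (nat_lit 3) (Steps.bwd (nat_lit 11) (Steps.bwd (nat_lit 11) (Steps.fwd (nat_lit 53248) (Steps.bwd (nat_lit 8) Steps.nil))))))) (nat_lit 52) (nat_lit 0),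
  Rule.mk (nat_lit 8) (nat_lit 117) (Steps.bwd (nat_lit 14) (Steps.bwd (nat_lit 4) (Steps.fwd (nat_lit 36864) (Steps.fwd (nat_lit 16384) (Steps.bwd (nat_lit 9) (Steps.fwd (nat_lit 49152) (Steps.bwd (nat_lit 14) Steps.nil))))))) (nat_lit 51) (nat_lit 4),
  Rule.mk (nat_lit 9) (nat_lit 57) (Steps.fwd (nat_lit 57344) (Steps.bwd (nat_lit 10) (Steps.bwd (nat_lit 14) Steps.nil))) (nat_lit 38) (nat_lit 3),
  Rule.mk (nat_lit 1) (nat_lit 132) (Steps.bwd (nat_lit 7) (Steps.bwd (nat_lit 10) (Steps.fwd (nat_lit 45056) (Steps.bwd (nat_lit 13) (Steps.fwd (nat_lit 32768) (Steps.fwd (nat_lit 57344) (Steps.fwd (nat_lit 4096) (Steps.bwd (nat_lit 14) Steps.nil)))))))) (nat_lit 47) (nat_lit 0),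
  Rule.mk (nat_lit 7) (nat_lit 132) (Steps.bwd (nat_lit 10) (Steps.bwd (nat_lit 12) (Steps.bwd (nat_lit 13) (Steps.fwd (nat_lit 32768) (Steps.fwd (nat_lit 57344) (Steps.fwd (nat_lit 4096) (Steps.fwd (nat_lit 53248) (Steps.fwd (nat_lit 8192) Steps.nil)))))))) (nat_lit 47) (nat_lit 1),
  Rule.mk (nat_lit 11) (nat_lit 102) (Steps.bwd (nat_lit 11) (Steps.bwd (nat_lit 2) (Steps.bwd (nat_lit 11) (Steps.fwd (nat_lit 8192) (Steps.bwd (nat_lit 14) (Steps.fwd (nat_lit 28672) Steps.nil)))))) (nat_lit 44) (nat_lit 6),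
  Rule.mk (nat_lit 4) (nat_lit 117) (Steps.bwd (nat_lit 11) (Steps.bwd (nat_lit 3) (Steps.fwd (nat_lit 49152) (Steps.bwd (nat_lit 11) (Steps.bwd (nat_lit 14) (Steps.bwd (nat_lit 8) (Steps.bwd (nat_lit 8) Steps.nil))))))) (nat_lit 52) (nat_lit 1),
  Rule.mk (nat_lit 11) (nat_lit 102) (Steps.bwd (nat_lit 11) (Steps.fwd (nat_lit 4096) (Steps.bwd (nat_lit 11) (Steps.fwd (nat_lit 8192) (Steps.fwd (nat_lit 53248) (Steps.fwd (nat_lit 28672) Steps.nil)))))) (nat_lit 44) (nat_lit 6),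
  Rule.mk (nat_lit 4) (nat_lit 117) (Steps.bwd (nat_lit 12) (Steps.bwd (nat_lit 3) (Steps.fwd (nat_lit 32768) (Steps.bwd (nat_lit 7) (Steps.fwd (nat_lit 57344) (Steps.fwd (nat_lit 45056) (Steps.bwd (nat_lit 12) Steps.nil))))))) (nat_lit 53) (nat_lit 6),
  Rule.mk (nat_lit 12) (nat_lit 102) (Steps.bwd (nat_lit 12) (Steps.fwd (nat_lit 32768) (Steps.fwd (nat_lit 57344) (Steps.bwd (nat_lit 2) (Steps.bwd (nat_lit 12) (Steps.fwd (nat_lit 8192) Steps.nil)))))) (nat_lit 45) (nat_lit 1),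
  Rule.mk (nat_lit 7) (nat_lit 87) (Steps.bwd (nat_lit 13) (Steps.fwd (nat_lit 61440) (Steps.bwd (nat_lit 16) (Steps.fwd (nat_lit 28672) (Steps.fwd (nat_lit 53248) Steps.nil))))) (nat_lit 34) (nat_lit 3),
  Rule.mk (nat_lit 7) (nat_lit 117) (Steps.bwd (nat_lit 13) (Steps.bwd (nat_lit 12) (Steps.bwd (nat_lit 12) (Steps.bwd (nat_lit 4) (Steps.bwd (nat_lit 12) (Steps.bwd (nat_lit 3) (Steps.fwd (nat_lit 32768) Steps.nil))))))) (nat_lit 53) (nat_lit 2),
  Rule.mk (nat_lit 4) (nat_lit 177) (Steps.bwd (nat_lit 2) (Steps.fwd (nat_lit 16384) (Steps.bwd (nat_lit 1) (Steps.bwd (nat_lit 4) (Steps.fwd (nat_lit 4096) (Steps.bwd (nat_lit 3) (Steps.bwd (nat_lit 1) (Steps.bwd (nat_lit 4) (Steps.bwd (nat_lit 2) (Steps.fwd (nat_lit 16384) (Steps.fwd (nat_lit 8192) Steps.nil))))))))))) (nat_lit 9) (nat_lit 1),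
  Rule.mk (nat_lit 14) (nat_lit 117) (Steps.bwd (nat_lit 8) (Steps.bwd (nat_lit 14) (Steps.bwd (nat_lit 4) (Steps.fwd (nat_lit 36864) (Steps.fwd (nat_lit 16384) (Steps.bwd (nat_lit 9) (Steps.bwd (nat_lit 11) Steps.nil))))))) (nat_lit 51) (nat_lit 3)]
noncomputable def R_33 : List (Rule) := [Rule.mk (nat_lit 11) (nat_lit 117) (Steps.bwd (nat_lit 3) (Steps.fwd (nat_lit 49152) (Steps.bwd (nat_lit 11) (Steps.bwd (nat_lit 14) (Steps.bwd (nat_lit 8) (Steps.bwd (nat_lit 8) (Steps.bwd (nat_lit 4) Steps.nil))))))) (nat_lit 52) (nat_lit 2),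
  Rule.mk (nat_lit 4) (nat_lit 87) (Steps.bwd (nat_lit 2) (Steps.bwd (nat_lit 2) (Steps.fwd (nat_lit 16384) (Steps.bwd (nat_lit 1) (Steps.bwd (nat_lit 1) Steps.nil))))) (nat_lit 7) (nat_lit 1),
  Rule.mk (nat_lit 13) (nat_lit 132) (Steps.bwd (nat_lit 2) (Steps.fwd (nat_lit 53248) (Steps.bwd (nat_lit 1) (Steps.fwd (nat_lit 32768) (Steps.bwd (nat_lit 10) (Steps.bwd (nat_lit 12) (Steps.fwd (nat_lit 57344) (Steps.bwd (nat_lit 7) Steps.nil)))))))) (nat_lit 47) (nat_lit 6),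
  Rule.mk (nat_lit 11) (nat_lit 117) (Steps.bwd (nat_lit 14) (Steps.fwd (nat_lit 28672) (Steps.fwd (nat_lit 53248) (Steps.bwd (nat_lit 4) (Steps.fwd (nat_lit 36864) (Steps.bwd (nat_lit 3) (Steps.bwd (nat_lit 9) Steps.nil))))))) (nat_lit 51) (nat_lit 2),
  Rule.mk (nat_lit 11) (nat_lit 72) (Steps.fwd (nat_lit 65536) (Steps.bwd (nat_lit 10) (Steps.bwd (nat_lit 12) (Steps.bwd (nat_lit 9) Steps.nil)))) (nat_lit 36) (nat_lit 4),
  Rule.mk (nat_lit 8) (nat_lit 87) (Steps.fwd (nat_lit 57344) (Steps.bwd (nat_lit 7) (Steps.fwd (nat_lit 65536) (Steps.fwd (nat_lit 65536) (Steps.bwd (nat_lit 14) Steps.nil))))) (nat_lit 35) (nat_lit 4),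
  Rule.mk (nat_lit 13) (nat_lit 117) (Steps.bwd (nat_lit 7) (Steps.bwd (nat_lit 13) (Steps.fwd (nat_lit 45056) (Steps.fwd (nat_lit 36864) (Steps.fwd (nat_lit 12288) (Steps.bwd (nat_lit 9) (Steps.fwd (nat_lit 16384) Steps.nil))))))) (nat_lit 50) (nat_lit 4),
  Rule.mk (nat_lit 7) (nat_lit 102) (Steps.bwd (nat_lit 13) (Steps.bwd (nat_lit 2) (Steps.bwd (nat_lit 12) (Steps.bwd (nat_lit 1) (Steps.fwd (nat_lit 45056) (Steps.bwd (nat_lit 12) Steps.nil)))))) (nat_lit 45) (nat_lit 3),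
  Rule.mk (nat_lit 7) (nat_lit 72) (Steps.fwd (nat_lit 4096) (Steps.fwd (nat_lit 40960) (Steps.fwd (nat_lit 8192) (Steps.bwd (nat_lit 7) Steps.nil)))) (nat_lit 42) (nat_lit 0),
  Rule.mk (nat_lit 13) (nat_lit 117) (Steps.bwd (nat_lit 7) (Steps.fwd (nat_lit 57344) (Steps.bwd (nat_lit 12) (Steps.fwd (nat_lit 36864) (Steps.fwd (nat_lit 12288) (Steps.bwd (nat_lit 9) (Steps.bwd (nat_lit 3) Steps.nil))))))) (nat_lit 50) (nat_lit 4),
  Rule.mk (nat_lit 2) (nat_lit 87) (Steps.bwd (nat_lit 2) (Steps.bwd (nat_lit 3) (Steps.bwd (nat_lit 1) (Steps.fwd (nat_lit 8192) (Steps.bwd (nat_lit 4) Steps.nil))))) (nat_lit 7) (nat_lit 2),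
  Rule.mk (nat_lit 11) (nat_lit 87) (Steps.fwd (nat_lit 65536) (Steps.fwd (nat_lit 65536) (Steps.fwd (nat_lit 28672) (Steps.fwd (nat_lit 45056) (Steps.bwd (nat_lit 7) Steps.nil))))) (nat_lit 32) (nat_lit 4),
  Rule.mk (nat_lit 1) (nat_lit 87) (Steps.fwd (nat_lit 12288) (Steps.fwd (nat_lit 4096) (Steps.bwd (nat_lit 2) (Steps.fwd (nat_lit 16384) (Steps.bwd (nat_lit 1) Steps.nil))))) (nat_lit 7) (nat_lit 0),
  Rule.mk (nat_lit 13) (nat_lit 132) (Steps.bwd (nat_lit 1) (Steps.bwd (nat_lit 14) (Steps.bwd (nat_lit 8) (Steps.bwd (nat_lit 14) (Steps.fwd (nat_lit 49152) (Steps.bwd (nat_lit 9) (Steps.fwd (nat_lit 28672) (Steps.bwd (nat_lit 2) Steps.nil)))))))) (nat_lit 46) (nat_lit 2),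
  Rule.mk (nat_lit 8) (nat_lit 132) (Steps.fwd (nat_lit 4096) (Steps.fwd (nat_lit 57344) (Steps.fwd (nat_lit 8192) (Steps.bwd (nat_lit 14) (Steps.bwd (nat_lit 8) (Steps.fwd (nat_lit 53248) (Steps.bwd (nat_lit 11) (Steps.bwd (nat_lit 9) Steps.nil)))))))) (nat_lit 46) (nat_lit 0),
  Rule.mk (nat_lit 10) (nat_lit 117) (Steps.bwd (nat_lit 4) (Steps.fwd (nat_lit 40960) (Steps.fwd (nat_lit 16384) (Steps.fwd (nat_lit 57344) (Steps.bwd (nat_lit 7) (Steps.bwd (nat_lit 13) (Steps.bwd (nat_lit 12) Steps.nil))))))) (nat_lit 50) (nat_lit 0),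
  Rule.mk (nat_lit 12) (nat_lit 87) (Steps.fwd (nat_lit 28672) (Steps.fwd (nat_lit 49152) (Steps.bwd (nat_lit 7) (Steps.bwd (nat_lit 16) (Steps.fwd (nat_lit 61440) Steps.nil))))) (nat_lit 33) (nat_lit 3),
  Rule.mk (nat_lit 13) (nat_lit 57) (Steps.fwd (nat_lit 36864) (Steps.bwd (nat_lit 14) (Steps.bwd (nat_lit 9) Steps.nil))) (nat_lit 38) (nat_lit 0),
  Rule.mk (nat_lit 1) (nat_lit 102) (Steps.fwd (nat_lit 45056) (Steps.fwd (nat_lit 45056) (Steps.bwd (nat_lit 7) (Steps.fwd (nat_lit 57344) (Steps.bwd (nat_lit 2) (Steps.bwd (nat_lit 12) Steps.nil)))))) (nat_lit 45) (nat_lit 0),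
  Rule.mk (nat_lit 3) (nat_lit 87) (Steps.bwd (nat_lit 1) (Steps.fwd (nat_lit 8192) (Steps.fwd (nat_lit 12288) (Steps.bwd (nat_lit 2) (Steps.bwd (nat_lit 2) Steps.nil))))) (nat_lit 7) (nat_lit 4),
  Rule.mk (nat_lit 1) (nat_lit 117) (Steps.bwd (nat_lit 3) (Steps.bwd (nat_lit 1) (Steps.fwd (nat_lit 16384) (Steps.bwd (nat_lit 1) (Steps.bwd (nat_lit 3) (Steps.fwd (nat_lit 8192) (Steps.fwd (nat_lit 16384) Steps.nil))))))) (nat_lit 4) (nat_lit 1),
  Rule.mk (nat_lit 4) (nat_lit 177) (Steps.bwd (nat_lit 2) (Steps.fwd (nat_lit 16384) (Steps.fwd (nat_lit 8192) (Steps.fwd (nat_lit 12288) (Steps.bwd (nat_lit 2) (Steps.fwd (nat_lit 16384) (Steps.fwd (nat_lit 8192) (Steps.fwd (nat_lit 12288) (Steps.bwd (nat_lit 2) (Steps.fwd (nat_lit 16384) (Steps.bwd (nat_lit 1) Steps.nil))))))))))) (nat_lit 9) (nat_lit 1),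
  Rule.mk (nat_lit 11) (nat_lit 117) (Steps.bwd (nat_lit 11) (Steps.fwd (nat_lit 53248) (Steps.fwd (nat_lit 28672) (Steps.fwd (nat_lit 28672) (Steps.fwd (nat_lit 12288) (Steps.fwd (nat_lit 49152) (Steps.bwd (nat_lit 3) Steps.nil))))))) (nat_lit 52) (nat_lit 4),
  Rule.mk (nat_lit 2) (nat_lit 87) (Steps.fwd (nat_lit 4096) (Steps.bwd (nat_lit 3) (Steps.bwd (nat_lit 1) (Steps.fwd (nat_lit 8192) (Steps.bwd (nat_lit 4) Steps.nil))))) (nat_lit 7) (nat_lit 2),
  Rule.mk (nat_lit 13) (nat_lit 117) (Steps.bwd (nat_lit 12) (Steps.fwd (nat_lit 36864) (Steps.bwd (nat_lit 4) (Steps.fwd (nat_lit 40960) (Steps.bwd (nat_lit 3) (Steps.bwd (nat_lit 13) (Steps.bwd (nat_lit 7) Steps.nil))))))) (nat_lit 50) (nat_lit 6),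
  Rule.mk (nat_lit 2) (nat_lit 102) (Steps.bwd (nat_lit 11) (Steps.fwd (nat_lit 8192) (Steps.fwd (nat_lit 53248) (Steps.bwd (nat_lit 8) (Steps.bwd (nat_lit 11) (Steps.bwd (nat_lit 11) Steps.nil)))))) (nat_lit 44) (nat_lit 1),
  Rule.mk (nat_lit 14) (nat_lit 132) (Steps.bwd (nat_lit 1) (Steps.fwd (nat_lit 32768) (Steps.fwd (nat_lit 36864) (Steps.fwd (nat_lit 45056) (Steps.fwd (nat_lit 57344) (Steps.bwd (nat_lit 7) (Steps.bwd (nat_lit 13) (Steps.fwd (nat_lit 4096) Steps.nil)))))))) (nat_lit 47) (nat_lit 8),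
  Rule.mk (nat_lit 2) (nat_lit 72) (Steps.bwd (nat_lit 10) (Steps.bwd (nat_lit 1) (Steps.bwd (nat_lit 8) (Steps.fwd (nat_lit 28672) Steps.nil)))) (nat_lit 43) (nat_lit 3),
  Rule.mk (nat_lit 13) (nat_lit 132) (Steps.bwd (nat_lit 1) (Steps.bwd (nat_lit 14) (Steps.fwd (nat_lit 28672) (Steps.bwd (nat_lit 14) (Steps.fwd (nat_lit 49152) (Steps.bwd (nat_lit 9) (Steps.fwd (nat_lit 28672) (Steps.bwd (nat_lit 2) Steps.nil)))))))) (nat_lit 46) (nat_lit 2),
  Rule.mk (nat_lit 2) (nat_lit 102) (Steps.bwd (nat_lit 12) (Steps.bwd (nat_lit 1) (Steps.fwd (nat_lit 45056) (Steps.fwd (nat_lit 45056) (Steps.bwd (nat_lit 7) (Steps.fwd (nat_lit 57344) Steps.nil)))))) (nat_lit 45) (nat_lit 5),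
  Rule.mk (nat_lit 4) (nat_lit 117) (Steps.bwd (nat_lit 9) (Steps.bwd (nat_lit 3) (Steps.fwd (nat_lit 57344) (Steps.bwd (nat_lit 7) (Steps.fwd (nat_lit 57344) (Steps.bwd (nat_lit 12) (Steps.fwd (nat_lit 36864) Steps.nil))))))) (nat_lit 50) (nat_lit 1),
  Rule.mk (nat_lit 2) (nat_lit 132) (Steps.bwd (nat_lit 13) (Steps.bwd (nat_lit 1) (Steps.bwd (nat_lit 14) (Steps.bwd (nat_lit 8) (Steps.fwd (nat_lit 53248) (Steps.fwd (nat_lit 49152) (Steps.fwd (nat_lit 40960) (Steps.fwd (nat_lit 28672) Steps.nil)))))))) (nat_lit 46) (nat_lit 1),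
  Rule.mk (nat_lit 2) (nat_lit 132) (Steps.bwd (nat_lit 14) (Steps.bwd (nat_lit 1) (Steps.fwd (nat_lit 32768) (Steps.bwd (nat_lit 10) (Steps.bwd (nat_lit 12) (Steps.bwd (nat_lit 13) (Steps.bwd (nat_lit 7) (Steps.bwd (nat_lit 13) Steps.nil)))))))) (nat_lit 47) (nat_lit 7),
  Rule.mk (nat_lit 1) (nat_lit 87) (Steps.bwd (nat_lit 3) (Steps.fwd (nat_lit 4096) (Steps.bwd (nat_lit 2) (Steps.fwd (nat_lit 12288) (Steps.fwd (nat_lit 8192) Steps.nil))))) (nat_lit 6) (nat_lit 5),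
  Rule.mk (nat_lit 11) (nat_lit 117) (Steps.bwd (nat_lit 3) (Steps.fwd (nat_lit 49152) (Steps.bwd (nat_lit 11) (Steps.bwd (nat_lit 14) (Steps.fwd (nat_lit 28672) (Steps.fwd (nat_lit 28672) (Steps.bwd (nat_lit 4) Steps.nil))))))) (nat_lit 52) (nat_lit 2),
  Rule.mk (nat_lit 1) (nat_lit 87) (Steps.fwd (nat_lit 16384) (Steps.fwd (nat_lit 4096) (Steps.fwd (nat_lit 4096) (Steps.fwd (nat_lit 12288) (Steps.bwd (nat_lit 1) Steps.nil))))) (nat_lit 6) (nat_lit 5),
  Rule.mk (nat_lit 3) (nat_lit 87) (Steps.bwd (nat_lit 1) (Steps.bwd (nat_lit 1) (Steps.fwd (nat_lit 12288) (Steps.fwd (nat_lit 4096) (Steps.fwd (nat_lit 4096) Steps.nil))))) (nat_lit 7) (nat_lit 4),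
  Rule.mk (nat_lit 12) (nat_lit 102) (Steps.bwd (nat_lit 1) (Steps.fwd (nat_lit 45056) (Steps.bwd (nat_lit 12) (Steps.bwd (nat_lit 7) (Steps.fwd (nat_lit 57344) (Steps.fwd (nat_lit 4096) Steps.nil)))))) (nat_lit 45) (nat_lit 6),
  Rule.mk (nat_lit 14) (nat_lit 117) (Steps.bwd (nat_lit 4) (Steps.fwd (nat_lit 36864) (Steps.bwd (nat_lit 3) (Steps.fwd (nat_lit 40960) (Steps.fwd (nat_lit 49152) (Steps.bwd (nat_lit 14) (Steps.bwd (nat_lit 8) Steps.nil))))))) (nat_lit 51) (nat_lit 5),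
  Rule.mk (nat_lit 12) (nat_lit 102) (Steps.fwd (nat_lit 32768) (Steps.fwd (nat_lit 57344) (Steps.fwd (nat_lit 4096) (Steps.bwd (nat_lit 12) (Steps.fwd (nat_lit 8192) (Steps.bwd (nat_lit 12) Steps.nil)))))) (nat_lit 45) (nat_lit 2),
  Rule.mk (nat_lit 2) (nat_lit 102) (Steps.bwd (nat_lit 12) (Steps.bwd (nat_lit 1) (Steps.bwd (nat_lit 12) (Steps.fwd (nat_lit 45056) (Steps.fwd (nat_lit 32768) (Steps.fwd (nat_lit 57344) Steps.nil)))))) (nat_lit 45) (nat_lit 5),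
  Rule.mk (nat_lit 4) (nat_lit 117) (Steps.bwd (nat_lit 12) (Steps.fwd (nat_lit 16384) (Steps.bwd (nat_lit 7) (Steps.bwd (nat_lit 7) (Steps.bwd (nat_lit 13) (Steps.fwd (nat_lit 45056) (Steps.bwd (nat_lit 12) Steps.nil))))))) (nat_lit 53) (nat_lit 6),
  Rule.mk (nat_lit 2) (nat_lit 132) (Steps.bwd (nat_lit 14) (Steps.bwd (nat_lit 1) (Steps.bwd (nat_lit 7) (Steps.bwd (nat_lit 10) (Steps.bwd (nat_lit 12) (Steps.bwd (nat_lit 13) (Steps.bwd (nat_lit 7) (Steps.fwd (nat_lit 57344) Steps.nil)))))))) (nat_lit 47) (nat_lit 7),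
  Rule.mk (nat_lit 4) (nat_lit 117) (Steps.bwd (nat_lit 12) (Steps.bwd (nat_lit 3) (Steps.fwd (nat_lit 32768) (Steps.fwd (nat_lit 32768) (Steps.fwd (nat_lit 57344) (Steps.fwd (nat_lit 45056) (Steps.fwd (nat_lit 45056) Steps.nil))))))) (nat_lit 53) (nat_lit 6),
  Rule.mk (nat_lit 2) (nat_lit 132) (Steps.bwd (nat_lit 13) (Steps.fwd (nat_lit 8192) (Steps.fwd (nat_lit 53248) (Steps.bwd (nat_lit 8) (Steps.fwd (nat_lit 53248) (Steps.bwd (nat_lit 11) (Steps.fwd (nat_lit 40960) (Steps.fwd (nat_lit 28672) Steps.nil)))))))) (nat_lit 46) (nat_lit 1),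
  Rule.mk (nat_lit 7) (nat_lit 87) (Steps.bwd (nat_lit 15) (Steps.bwd (nat_lit 15) (Steps.bwd (nat_lit 14) (Steps.bwd (nat_lit 8) (Steps.fwd (nat_lit 57344) Steps.nil))))) (nat_lit 35) (nat_lit 0),
  Rule.mk (nat_lit 8) (nat_lit 117) (Steps.bwd (nat_lit 14) (Steps.bwd (nat_lit 4) (Steps.fwd (nat_lit 36864) (Steps.fwd (nat_lit 16384) (Steps.fwd (nat_lit 40960) (Steps.fwd (nat_lit 49152) (Steps.fwd (nat_lit 53248) Steps.nil))))))) (nat_lit 51) (nat_lit 4),
  Rule.mk (nat_lit 2) (nat_lit 132) (Steps.bwd (nat_lit 14) (Steps.fwd (nat_lit 8192) (Steps.fwd (nat_lit 32768) (Steps.bwd (nat_lit 10) (Steps.bwd (nat_lit 12) (Steps.bwd (nat_lit 13) (Steps.bwd (nat_lit 7) (Steps.bwd (nat_lit 13) Steps.nil)))))))) (nat_lit 47) (nat_lit 7),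
  Rule.mk (nat_lit 4) (nat_lit 177) (Steps.bwd (nat_lit 2) (Steps.bwd (nat_lit 3) (Steps.bwd (nat_lit 1) (Steps.fwd (nat_lit 12288) (Steps.bwd (nat_lit 2) (Steps.fwd (nat_lit 16384) (Steps.fwd (nat_lit 8192) (Steps.bwd (nat_lit 4) (Steps.fwd (nat_lit 4096) (Steps.bwd (nat_lit 3) (Steps.fwd (nat_lit 8192) Steps.nil))))))))))) (nat_lit 9) (nat_lit 1),
  Rule.mk (nat_lit 13) (nat_lit 117) (Steps.bwd (nat_lit 12) (Steps.bwd (nat_lit 10) (Steps.bwd (nat_lit 4) (Steps.fwd (nat_lit 40960) (Steps.bwd (nat_lit 3) (Steps.fwd (nat_lit 57344) (Steps.bwd (nat_lit 7) Steps.nil))))))) (nat_lit 50) (nat_lit 6),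
  Rule.mk (nat_lit 3) (nat_lit 117) (Steps.bwd (nat_lit 7) (Steps.fwd (nat_lit 32768) (Steps.bwd (nat_lit 13) (Steps.bwd (nat_lit 12) (Steps.fwd (nat_lit 45056) (Steps.fwd (nat_lit 12288) (Steps.fwd (nat_lit 45056) Steps.nil))))))) (nat_lit 53) (nat_lit 0),
  Rule.mk (nat_lit 2) (nat_lit 177) (Steps.bwd (nat_lit 4) (Steps.fwd (nat_lit 8192) (Steps.fwd (nat_lit 16384) (Steps.fwd (nat_lit 4096) (Steps.bwd (nat_lit 4) (Steps.fwd (nat_lit 8192) (Steps.fwd (nat_lit 16384) (Steps.fwd (nat_lit 4096) (Steps.fwd (nat_lit 12288) (Steps.fwd (nat_lit 8192) (Steps.bwd (nat_lit 3) Steps.nil))))))))))) (nat_lit 8) (nat_lit 1),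
  Rule.mk (nat_lit 3) (nat_lit 57) (Steps.fwd (nat_lit 49152) (Steps.fwd (nat_lit 12288) (Steps.bwd (nat_lit 6) Steps.nil))) (nat_lit 14) (nat_lit 0),
  Rule.mk (nat_lit 8) (nat_lit 87) (Steps.fwd (nat_lit 49152) (Steps.bwd (nat_lit 7) (Steps.bwd (nat_lit 16) (Steps.bwd (nat_lit 16) (Steps.fwd (nat_lit 45056) Steps.nil))))) (nat_lit 33) (nat_lit 4),
  Rule.mk (nat_lit 3) (nat_lit 87) (Steps.bwd (nat_lit 2) (Steps.bwd (nat_lit 2) (Steps.fwd (nat_lit 12288) (Steps.fwd (nat_lit 8192) (Steps.fwd (nat_lit 8192) Steps.nil))))) (nat_lit 6) (nat_lit 0),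
  Rule.mk (nat_lit 11) (nat_lit 102) (Steps.bwd (nat_lit 2) (Steps.fwd (nat_lit 49152) (Steps.fwd (nat_lit 8192) (Steps.fwd (nat_lit 53248) (Steps.fwd (nat_lit 28672) (Steps.bwd (nat_lit 11) Steps.nil)))))) (nat_lit 44) (nat_lit 0),
  Rule.mk (nat_lit 11) (nat_lit 102) (Steps.fwd (nat_lit 8192) (Steps.fwd (nat_lit 53248) (Steps.bwd (nat_lit 8) (Steps.fwd (nat_lit 49152) (Steps.fwd (nat_lit 49152) (Steps.bwd (nat_lit 2) Steps.nil)))))) (nat_lit 44) (nat_lit 2),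
  Rule.mk (nat_lit 13) (nat_lit 117) (Steps.bwd (nat_lit 7) (Steps.bwd (nat_lit 13) (Steps.bwd (nat_lit 12) (Steps.bwd (nat_lit 10) (Steps.bwd (nat_lit 4) (Steps.bwd (nat_lit 9) (Steps.bwd (nat_lit 3) Steps.nil))))))) (nat_lit 50) (nat_lit 4),
  Rule.mk (nat_lit 7) (nat_lit 117) (Steps.bwd (nat_lit 7) (Steps.bwd (nat_lit 13) (Steps.bwd (nat_lit 12) (Steps.fwd (nat_lit 45056) (Steps.fwd (nat_lit 12288) (Steps.bwd (nat_lit 12) (Steps.fwd (nat_lit 16384) Steps.nil))))))) (nat_lit 53) (nat_lit 1),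
  Rule.mk (nat_lit 1) (nat_lit 87) (Steps.bwd (nat_lit 1) (Steps.bwd (nat_lit 4) (Steps.fwd (nat_lit 4096) (Steps.fwd (nat_lit 4096) (Steps.fwd (nat_lit 16384) Steps.nil))))) (nat_lit 7) (nat_lit 5),
  Rule.mk (nat_lit 9) (nat_lit 117) (Steps.fwd (nat_lit 49152) (Steps.fwd (nat_lit 53248) (Steps.fwd (nat_lit 28672) (Steps.fwd (nat_lit 53248) (Steps.bwd (nat_lit 4) (Steps.bwd (nat_lit 10) (Steps.bwd (nat_lit 3) Steps.nil))))))) (nat_lit 51) (nat_lit 1),
  Rule.mk (nat_lit 14) (nat_lit 87) (Steps.bwd (nat_lit 8) (Steps.bwd (nat_lit 13) (Steps.bwd (nat_lit 7) (Steps.fwd (nat_lit 65536) (Steps.bwd (nat_lit 15) Steps.nil))))) (nat_lit 35) (nat_lit 3),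
  Rule.mk (nat_lit 1) (nat_lit 132) (Steps.fwd (nat_lit 32768) (Steps.bwd (nat_lit 10) (Steps.fwd (nat_lit 45056) (Steps.fwd (nat_lit 57344) (Steps.fwd (nat_lit 32768) (Steps.bwd (nat_lit 13) (Steps.fwd (nat_lit 4096) (Steps.bwd (nat_lit 14) Steps.nil)))))))) (nat_lit 47) (nat_lit 0),
  Rule.mk (nat_lit 7) (nat_lit 87) (Steps.fwd (nat_lit 57344) (Steps.bwd (nat_lit 16) (Steps.bwd (nat_lit 16) (Steps.fwd (nat_lit 28672) (Steps.bwd (nat_lit 14) Steps.nil))))) (nat_lit 34) (nat_lit 3)]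
noncomputable def R_34 : List (Rule) := [Rule.mk (nat_lit 12) (nat_lit 102) (Steps.bwd (nat_lit 7) (Steps.fwd (nat_lit 57344) (Steps.fwd (nat_lit 4096) (Steps.fwd (nat_lit 45056) (Steps.bwd (nat_lit 1) (Steps.bwd (nat_lit 12) Steps.nil)))))) (nat_lit 45) (nat_lit 2),
  Rule.mk (nat_lit 2) (nat_lit 102) (Steps.bwd (nat_lit 11) (Steps.bwd (nat_lit 1) (Steps.fwd (nat_lit 53248) (Steps.bwd (nat_lit 8) (Steps.bwd (nat_lit 11) (Steps.fwd (nat_lit 49152) Steps.nil)))))) (nat_lit 44) (nat_lit 1),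
  Rule.mk (nat_lit 3) (nat_lit 117) (Steps.bwd (nat_lit 13) (Steps.fwd (nat_lit 32768) (Steps.bwd (nat_lit 13) (Steps.bwd (nat_lit 12) (Steps.bwd (nat_lit 10) (Steps.bwd (nat_lit 4) (Steps.bwd (nat_lit 9) Steps.nil))))))) (nat_lit 50) (nat_lit 3),
  Rule.mk (nat_lit 1) (nat_lit 102) (Steps.bwd (nat_lit 14) (Steps.bwd (nat_lit 8) (Steps.fwd (nat_lit 49152) (Steps.bwd (nat_lit 11) (Steps.fwd (nat_lit 4096) (Steps.bwd (nat_lit 11) Steps.nil)))))) (nat_lit 44) (nat_lit 3),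
  Rule.mk (nat_lit 14) (nat_lit 87) (Steps.bwd (nat_lit 8) (Steps.fwd (nat_lit 57344) (Steps.bwd (nat_lit 7) (Steps.fwd (nat_lit 65536) (Steps.fwd (nat_lit 65536) Steps.nil))))) (nat_lit 35) (nat_lit 3),
  Rule.mk (nat_lit 4) (nat_lit 87) (Steps.bwd (nat_lit 2) (Steps.bwd (nat_lit 2) (Steps.bwd (nat_lit 3) (Steps.bwd (nat_lit 1) (Steps.bwd (nat_lit 1) Steps.nil))))) (nat_lit 7) (nat_lit 1),
  Rule.mk (nat_lit 1) (nat_lit 102) (Steps.bwd (nat_lit 12) (Steps.bwd (nat_lit 12) (Steps.bwd (nat_lit 7) (Steps.bwd (nat_lit 13) (Steps.fwd (nat_lit 4096) (Steps.fwd (nat_lit 45056) Steps.nil)))))) (nat_lit 45) (nat_lit 0),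
  Rule.mk (nat_lit 12) (nat_lit 117) (Steps.bwd (nat_lit 12) (Steps.fwd (nat_lit 12288) (Steps.bwd (nat_lit 12) (Steps.bwd (nat_lit 3) (Steps.fwd (nat_lit 32768) (Steps.bwd (nat_lit 7) (Steps.fwd (nat_lit 57344) Steps.nil))))))) (nat_lit 53) (nat_lit 4),
  Rule.mk (nat_lit 13) (nat_lit 117) (Steps.bwd (nat_lit 12) (Steps.bwd (nat_lit 12) (Steps.bwd (nat_lit 4) (Steps.fwd (nat_lit 45056) (Steps.fwd (nat_lit 16384) (Steps.bwd (nat_lit 7) (Steps.bwd (nat_lit 7) Steps.nil))))))) (nat_lit 53) (nat_lit 3),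
  Rule.mk (nat_lit 12) (nat_lit 102) (Steps.bwd (nat_lit 1) (Steps.bwd (nat_lit 12) (Steps.bwd (nat_lit 12) (Steps.bwd (nat_lit 7) (Steps.bwd (nat_lit 13) (Steps.bwd (nat_lit 2) Steps.nil)))))) (nat_lit 45) (nat_lit 6),
  Rule.mk (nat_lit 0) (nat_lit 87) (Steps.bwd (nat_lit 16) (Steps.bwd (nat_lit 12) (Steps.bwd (nat_lit 10) (Steps.bwd (nat_lit 11) (Steps.fwd (nat_lit 40960) Steps.nil))))) (nat_lit 37) (nat_lit 0),
  Rule.mk (nat_lit 10) (nat_lit 42) (Steps.bwd (nat_lit 0) (Steps.fwd (nat_lit 40960) Steps.nil)) (nat_lit 88) (nat_lit 0),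
  Rule.mk (nat_lit 15) (nat_lit 42) (Steps.bwd (nat_lit 0) (Steps.bwd (nat_lit 16) Steps.nil)) (nat_lit 88) (nat_lit 0),
  Rule.mk (nat_lit 8) (nat_lit 87) (Steps.bwd (nat_lit 14) (Steps.bwd (nat_lit 7) (Steps.bwd (nat_lit 13) (Steps.fwd (nat_lit 61440) (Steps.bwd (nat_lit 16) Steps.nil))))) (nat_lit 34) (nat_lit 1),
  Rule.mk (nat_lit 12) (nat_lit 87) (Steps.fwd (nat_lit 32768) (Steps.fwd (nat_lit 49152) (Steps.fwd (nat_lit 65536) (Steps.fwd (nat_lit 65536) (Steps.bwd (nat_lit 8) Steps.nil))))) (nat_lit 32) (nat_lit 2),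
  Rule.mk (nat_lit 4) (nat_lit 117) (Steps.fwd (nat_lit 49152) (Steps.bwd (nat_lit 3) (Steps.bwd (nat_lit 11) (Steps.bwd (nat_lit 11) (Steps.fwd (nat_lit 53248) (Steps.fwd (nat_lit 28672) (Steps.bwd (nat_lit 8) Steps.nil))))))) (nat_lit 52) (nat_lit 1),
  Rule.mk (nat_lit 1) (nat_lit 132) (Steps.bwd (nat_lit 7) (Steps.bwd (nat_lit 10) (Steps.bwd (nat_lit 12) (Steps.bwd (nat_lit 13) (Steps.fwd (nat_lit 32768) (Steps.fwd (nat_lit 57344) (Steps.bwd (nat_lit 2) (Steps.bwd (nat_lit 14) Steps.nil)))))))) (nat_lit 47) (nat_lit 0),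
  Rule.mk (nat_lit 2) (nat_lit 87) (Steps.bwd (nat_lit 4) (Steps.fwd (nat_lit 8192) (Steps.fwd (nat_lit 8192) (Steps.bwd (nat_lit 3) (Steps.fwd (nat_lit 4096) Steps.nil))))) (nat_lit 6) (nat_lit 2),
  Rule.mk (nat_lit 14) (nat_lit 117) (Steps.bwd (nat_lit 4) (Steps.fwd (nat_lit 36864) (Steps.bwd (nat_lit 3) (Steps.fwd (nat_lit 40960) (Steps.bwd (nat_lit 11) (Steps.bwd (nat_lit 14) (Steps.fwd (nat_lit 28672) Steps.nil))))))) (nat_lit 51) (nat_lit 5),
  Rule.mk (nat_lit 4) (nat_lit 117) (Steps.bwd (nat_lit 12) (Steps.bwd (nat_lit 3) (Steps.bwd (nat_lit 7) (Steps.bwd (nat_lit 7) (Steps.bwd (nat_lit 13) (Steps.fwd (nat_lit 45056) (Steps.fwd (nat_lit 45056) Steps.nil))))))) (nat_lit 53) (nat_lit 6),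
  Rule.mk (nat_lit 13) (nat_lit 117) (Steps.bwd (nat_lit 12) (Steps.bwd (nat_lit 12) (Steps.bwd (nat_lit 4) (Steps.bwd (nat_lit 12) (Steps.bwd (nat_lit 3) (Steps.bwd (nat_lit 7) (Steps.bwd (nat_lit 7) Steps.nil))))))) (nat_lit 53) (nat_lit 3),
  Rule.mk (nat_lit 11) (nat_lit 102) (Steps.fwd (nat_lit 49152) (Steps.bwd (nat_lit 2) (Steps.bwd (nat_lit 11) (Steps.bwd (nat_lit 1) (Steps.bwd (nat_lit 14) (Steps.bwd (nat_lit 8) Steps.nil)))))) (nat_lit 44) (nat_lit 6),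
  Rule.mk (nat_lit 2) (nat_lit 102) (Steps.bwd (nat_lit 12) (Steps.bwd (nat_lit 1) (Steps.fwd (nat_lit 45056) (Steps.bwd (nat_lit 12) (Steps.bwd (nat_lit 7) (Steps.fwd (nat_lit 57344) Steps.nil)))))) (nat_lit 45) (nat_lit 5),
  Rule.mk (nat_lit 13) (nat_lit 117) (Steps.bwd (nat_lit 12) (Steps.bwd (nat_lit 12) (Steps.bwd (nat_lit 4) (Steps.bwd (nat_lit 12) (Steps.bwd (nat_lit 3) (Steps.fwd (nat_lit 32768) (Steps.bwd (nat_lit 7) Steps.nil))))))) (nat_lit 53) (nat_lit 3),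
  Rule.mk (nat_lit 12) (nat_lit 117) (Steps.bwd (nat_lit 3) (Steps.fwd (nat_lit 32768) (Steps.fwd (nat_lit 32768) (Steps.fwd (nat_lit 57344) (Steps.bwd (nat_lit 12) (Steps.bwd (nat_lit 12) (Steps.bwd (nat_lit 4) Steps.nil))))))) (nat_lit 53) (nat_lit 7),
  Rule.mk (nat_lit 10) (nat_lit 72) (Steps.fwd (nat_lit 49152) (Steps.bwd (nat_lit 9) (Steps.fwd (nat_lit 61440) (Steps.bwd (nat_lit 12) Steps.nil)))) (nat_lit 37) (nat_lit 3),
  Rule.mk (nat_lit 8) (nat_lit 87) (Steps.bwd (nat_lit 13) (Steps.fwd (nat_lit 32768) (Steps.fwd (nat_lit 65536) (Steps.bwd (nat_lit 15) (Steps.fwd (nat_lit 53248) Steps.nil))))) (nat_lit 35) (nat_lit 4),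
  Rule.mk (nat_lit 1) (nat_lit 102) (Steps.bwd (nat_lit 14) (Steps.fwd (nat_lit 28672) (Steps.bwd (nat_lit 11) (Steps.fwd (nat_lit 49152) (Steps.fwd (nat_lit 4096) (Steps.bwd (nat_lit 11) Steps.nil)))))) (nat_lit 44) (nat_lit 3),
  Rule.mk (nat_lit 1) (nat_lit 117) (Steps.fwd (nat_lit 8192) (Steps.fwd (nat_lit 8192) (Steps.fwd (nat_lit 8192) (Steps.bwd (nat_lit 1) (Steps.fwd (nat_lit 8192) (Steps.fwd (nat_lit 8192) (Steps.bwd (nat_lit 1) Steps.nil))))))) (nat_lit 0) (nat_lit 0),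
  Rule.mk (nat_lit 11) (nat_lit 102) (Steps.bwd (nat_lit 1) (Steps.bwd (nat_lit 14) (Steps.bwd (nat_lit 8) (Steps.fwd (nat_lit 49152) (Steps.fwd (nat_lit 49152) (Steps.bwd (nat_lit 2) Steps.nil)))))) (nat_lit 44) (nat_lit 2),
  Rule.mk (nat_lit 3) (nat_lit 117) (Steps.bwd (nat_lit 1) (Steps.bwd (nat_lit 3) (Steps.bwd (nat_lit 1) (Steps.bwd (nat_lit 3) (Steps.fwd (nat_lit 8192) (Steps.fwd (nat_lit 16384) (Steps.bwd (nat_lit 1) Steps.nil))))))) (nat_lit 4) (nat_lit 0),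
  Rule.mk (nat_lit 3) (nat_lit 87) (Steps.bwd (nat_lit 1) (Steps.bwd (nat_lit 1) (Steps.bwd (nat_lit 4) (Steps.fwd (nat_lit 4096) (Steps.bwd (nat_lit 2) Steps.nil))))) (nat_lit 7) (nat_lit 4),
  Rule.mk (nat_lit 4) (nat_lit 117) (Steps.bwd (nat_lit 2) (Steps.bwd (nat_lit 4) (Steps.bwd (nat_lit 2) (Steps.bwd (nat_lit 4) (Steps.fwd (nat_lit 4096) (Steps.bwd (nat_lit 4) (Steps.bwd (nat_lit 2) Steps.nil))))))) (nat_lit 5) (nat_lit 1),
  Rule.mk (nat_lit 11) (nat_lit 117) (Steps.bwd (nat_lit 14) (Steps.bwd (nat_lit 8) (Steps.bwd (nat_lit 8) (Steps.fwd (nat_lit 12288) (Steps.bwd (nat_lit 11) (Steps.fwd (nat_lit 16384) (Steps.bwd (nat_lit 11) Steps.nil))))))) (nat_lit 52) (nat_lit 5),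
  Rule.mk (nat_lit 11) (nat_lit 117) (Steps.bwd (nat_lit 11) (Steps.fwd (nat_lit 53248) (Steps.bwd (nat_lit 8) (Steps.fwd (nat_lit 28672) (Steps.bwd (nat_lit 4) (Steps.fwd (nat_lit 49152) (Steps.fwd (nat_lit 16384) Steps.nil))))))) (nat_lit 52) (nat_lit 4),
  Rule.mk (nat_lit 4) (nat_lit 117) (Steps.bwd (nat_lit 11) (Steps.bwd (nat_lit 3) (Steps.bwd (nat_lit 11) (Steps.fwd (nat_lit 49152) (Steps.bwd (nat_lit 14) (Steps.fwd (nat_lit 28672) (Steps.bwd (nat_lit 8) Steps.nil))))))) (nat_lit 52) (nat_lit 1),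
  Rule.mk (nat_lit 1) (nat_lit 87) (Steps.bwd (nat_lit 3) (Steps.fwd (nat_lit 4096) (Steps.fwd (nat_lit 4096) (Steps.bwd (nat_lit 4) (Steps.fwd (nat_lit 8192) Steps.nil))))) (nat_lit 6) (nat_lit 5),
  Rule.mk (nat_lit 2) (nat_lit 87) (Steps.bwd (nat_lit 3) (Steps.bwd (nat_lit 1) (Steps.fwd (nat_lit 8192) (Steps.fwd (nat_lit 12288) (Steps.bwd (nat_lit 2) Steps.nil))))) (nat_lit 7) (nat_lit 3),
  Rule.mk (nat_lit 12) (nat_lit 102) (Steps.bwd (nat_lit 12) (Steps.fwd (nat_lit 32768) (Steps.bwd (nat_lit 13) (Steps.bwd (nat_lit 2) (Steps.fwd (nat_lit 45056) (Steps.bwd (nat_lit 1) Steps.nil)))))) (nat_lit 45) (nat_lit 1),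
  Rule.mk (nat_lit 12) (nat_lit 117) (Steps.bwd (nat_lit 12) (Steps.bwd (nat_lit 4) (Steps.bwd (nat_lit 12) (Steps.bwd (nat_lit 3) (Steps.fwd (nat_lit 32768) (Steps.fwd (nat_lit 32768) (Steps.bwd (nat_lit 13) Steps.nil))))))) (nat_lit 53) (nat_lit 4),
  Rule.mk (nat_lit 7) (nat_lit 102) (Steps.bwd (nat_lit 13) (Steps.fwd (nat_lit 4096) (Steps.bwd (nat_lit 12) (Steps.bwd (nat_lit 1) (Steps.bwd (nat_lit 12) (Steps.bwd (nat_lit 12) Steps.nil)))))) (nat_lit 45) (nat_lit 3),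
  Rule.mk (nat_lit 11) (nat_lit 117) (Steps.bwd (nat_lit 11) (Steps.fwd (nat_lit 53248) (Steps.bwd (nat_lit 8) (Steps.fwd (nat_lit 28672) (Steps.fwd (nat_lit 12288) (Steps.fwd (nat_lit 49152) (Steps.fwd (nat_lit 16384) Steps.nil))))))) (nat_lit 52) (nat_lit 4),
  Rule.mk (nat_lit 3) (nat_lit 117) (Steps.bwd (nat_lit 11) (Steps.bwd (nat_lit 11) (Steps.fwd (nat_lit 53248) (Steps.fwd (nat_lit 28672) (Steps.fwd (nat_lit 28672) (Steps.bwd (nat_lit 4) (Steps.bwd (nat_lit 11) Steps.nil))))))) (nat_lit 52) (nat_lit 3),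
  Rule.mk (nat_lit 1) (nat_lit 87) (Steps.bwd (nat_lit 1) (Steps.fwd (nat_lit 12288) (Steps.fwd (nat_lit 4096) (Steps.bwd (nat_lit 2) (Steps.bwd (nat_lit 3) Steps.nil))))) (nat_lit 7) (nat_lit 5),
  Rule.mk (nat_lit 10) (nat_lit 72) (Steps.bwd (nat_lit 8) (Steps.bwd (nat_lit 9) (Steps.bwd (nat_lit 7) (Steps.fwd (nat_lit 65536) Steps.nil)))) (nat_lit 18) (nat_lit 2),
  Rule.mk (nat_lit 14) (nat_lit 87) (Steps.bwd (nat_lit 8) (Steps.bwd (nat_lit 13) (Steps.fwd (nat_lit 32768) (Steps.fwd (nat_lit 65536) (Steps.fwd (nat_lit 65536) Steps.nil))))) (nat_lit 35) (nat_lit 3),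
  Rule.mk (nat_lit 12) (nat_lit 117) (Steps.fwd (nat_lit 16384) (Steps.fwd (nat_lit 32768) (Steps.fwd (nat_lit 32768) (Steps.bwd (nat_lit 13) (Steps.fwd (nat_lit 45056) (Steps.fwd (nat_lit 45056) (Steps.bwd (nat_lit 4) Steps.nil))))))) (nat_lit 53) (nat_lit 7),
  Rule.mk (nat_lit 2) (nat_lit 132) (Steps.bwd (nat_lit 14) (Steps.bwd (nat_lit 1) (Steps.bwd (nat_lit 7) (Steps.fwd (nat_lit 36864) (Steps.bwd (nat_lit 12) (Steps.fwd (nat_lit 57344) (Steps.bwd (nat_lit 7) (Steps.fwd (nat_lit 57344) Steps.nil)))))))) (nat_lit 47) (nat_lit 7),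
  Rule.mk (nat_lit 2) (nat_lit 87) (Steps.fwd (nat_lit 16384) (Steps.fwd (nat_lit 8192) (Steps.fwd (nat_lit 8192) (Steps.fwd (nat_lit 12288) (Steps.bwd (nat_lit 2) Steps.nil))))) (nat_lit 7) (nat_lit 3),
  Rule.mk (nat_lit 9) (nat_lit 117) (Steps.bwd (nat_lit 3) (Steps.bwd (nat_lit 13) (Steps.bwd (nat_lit 7) (Steps.bwd (nat_lit 13) (Steps.fwd (nat_lit 45056) (Steps.bwd (nat_lit 10) (Steps.bwd (nat_lit 4) Steps.nil))))))) (nat_lit 50) (nat_lit 2),
  Rule.mk (nat_lit 12) (nat_lit 102) (Steps.bwd (nat_lit 1) (Steps.fwd (nat_lit 45056) (Steps.bwd (nat_lit 12) (Steps.bwd (nat_lit 7) (Steps.bwd (nat_lit 13) (Steps.fwd (nat_lit 4096) Steps.nil)))))) (nat_lit 45) (nat_lit 6),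
  Rule.mk (nat_lit 11) (nat_lit 72) (Steps.fwd (nat_lit 40960) (Steps.fwd (nat_lit 61440) (Steps.bwd (nat_lit 12) (Steps.fwd (nat_lit 36864) Steps.nil)))) (nat_lit 37) (nat_lit 4),
  Rule.mk (nat_lit 7) (nat_lit 102) (Steps.bwd (nat_lit 13) (Steps.bwd (nat_lit 2) (Steps.bwd (nat_lit 12) (Steps.fwd (nat_lit 8192) (Steps.bwd (nat_lit 12) (Steps.bwd (nat_lit 12) Steps.nil)))))) (nat_lit 45) (nat_lit 3),
  Rule.mk (nat_lit 2) (nat_lit 72) (Steps.fwd (nat_lit 40960) (Steps.fwd (nat_lit 8192) (Steps.fwd (nat_lit 32768) (Steps.bwd (nat_lit 7) Steps.nil)))) (nat_lit 42) (nat_lit 1),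
  Rule.mk (nat_lit 13) (nat_lit 102) (Steps.bwd (nat_lit 2) (Steps.fwd (nat_lit 45056) (Steps.bwd (nat_lit 1) (Steps.fwd (nat_lit 45056) (Steps.bwd (nat_lit 12) (Steps.fwd (nat_lit 32768) Steps.nil)))))) (nat_lit 45) (nat_lit 4),
  Rule.mk (nat_lit 2) (nat_lit 132) (Steps.bwd (nat_lit 13) (Steps.fwd (nat_lit 8192) (Steps.bwd (nat_lit 14) (Steps.bwd (nat_lit 8) (Steps.bwd (nat_lit 14) (Steps.fwd (nat_lit 49152) (Steps.fwd (nat_lit 40960) (Steps.bwd (nat_lit 8) Steps.nil)))))))) (nat_lit 46) (nat_lit 1),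
  Rule.mk (nat_lit 2) (nat_lit 132) (Steps.bwd (nat_lit 14) (Steps.fwd (nat_lit 8192) (Steps.fwd (nat_lit 32768) (Steps.bwd (nat_lit 10) (Steps.bwd (nat_lit 12) (Steps.bwd (nat_lit 13) (Steps.fwd (nat_lit 32768) (Steps.bwd (nat_lit 13) Steps.nil)))))))) (nat_lit 47) (nat_lit 7),
  Rule.mk (nat_lit 3) (nat_lit 87) (Steps.bwd (nat_lit 2) (Steps.bwd (nat_lit 2) (Steps.fwd (nat_lit 12288) (Steps.bwd (nat_lit 1) (Steps.bwd (nat_lit 1) Steps.nil))))) (nat_lit 6) (nat_lit 0),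
  Rule.mk (nat_lit 13) (nat_lit 102) (Steps.bwd (nat_lit 2) (Steps.fwd (nat_lit 45056) (Steps.bwd (nat_lit 1) (Steps.fwd (nat_lit 45056) (Steps.fwd (nat_lit 45056) (Steps.fwd (nat_lit 32768) Steps.nil)))))) (nat_lit 45) (nat_lit 4),
  Rule.mk (nat_lit 12) (nat_lit 87) (Steps.bwd (nat_lit 8) (Steps.fwd (nat_lit 49152) (Steps.fwd (nat_lit 32768) (Steps.fwd (nat_lit 61440) (Steps.fwd (nat_lit 61440) Steps.nil))))) (nat_lit 33) (nat_lit 3),
  Rule.mk (nat_lit 13) (nat_lit 117) (Steps.bwd (nat_lit 12) (Steps.bwd (nat_lit 10) (Steps.bwd (nat_lit 4) (Steps.fwd (nat_lit 40960) (Steps.bwd (nat_lit 3) (Steps.bwd (nat_lit 13) (Steps.bwd (nat_lit 7) Steps.nil))))))) (nat_lit 50) (nat_lit 6),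
  Rule.mk (nat_lit 11) (nat_lit 117) (Steps.bwd (nat_lit 14) (Steps.bwd (nat_lit 8) (Steps.bwd (nat_lit 14) (Steps.fwd (nat_lit 12288) (Steps.bwd (nat_lit 10) (Steps.bwd (nat_lit 3) (Steps.fwd (nat_lit 40960) Steps.nil))))))) (nat_lit 51) (nat_lit 2),
  Rule.mk (nat_lit 13) (nat_lit 87) (Steps.fwd (nat_lit 61440) (Steps.bwd (nat_lit 16) (Steps.fwd (nat_lit 28672) (Steps.fwd (nat_lit 53248) (Steps.bwd (nat_lit 7) Steps.nil))))) (nat_lit 34) (nat_lit 4),
  Rule.mk (nat_lit 2) (nat_lit 132) (Steps.bwd (nat_lit 13) (Steps.bwd (nat_lit 1) (Steps.bwd (nat_lit 14) (Steps.bwd (nat_lit 8) (Steps.bwd (nat_lit 14) (Steps.fwd (nat_lit 49152) (Steps.fwd (nat_lit 40960) (Steps.bwd (nat_lit 8) Steps.nil)))))))) (nat_lit 46) (nat_lit 1)]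
noncomputable def R_35 : List (Rule) := [Rule.mk (nat_lit 9) (nat_lit 117) (Steps.bwd (nat_lit 3) (Steps.bwd (nat_lit 13) (Steps.fwd (nat_lit 32768) (Steps.bwd (nat_lit 13) (Steps.bwd (nat_lit 12) (Steps.bwd (nat_lit 10) (Steps.bwd (nat_lit 4) Steps.nil))))))) (nat_lit 50) (nat_lit 2),
  Rule.mk (nat_lit 12) (nat_lit 87) (Steps.bwd (nat_lit 7) (Steps.fwd (nat_lit 49152) (Steps.fwd (nat_lit 65536) (Steps.fwd (nat_lit 65536) (Steps.bwd (nat_lit 8) Steps.nil))))) (nat_lit 32) (nat_lit 2),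
  Rule.mk (nat_lit 3) (nat_lit 117) (Steps.bwd (nat_lit 7) (Steps.fwd (nat_lit 32768) (Steps.bwd (nat_lit 13) (Steps.bwd (nat_lit 12) (Steps.fwd (nat_lit 45056) (Steps.bwd (nat_lit 4) (Steps.bwd (nat_lit 12) Steps.nil))))))) (nat_lit 53) (nat_lit 0),
  Rule.mk (nat_lit 2) (nat_lit 102) (Steps.bwd (nat_lit 12) (Steps.bwd (nat_lit 1) (Steps.fwd (nat_lit 45056) (Steps.bwd (nat_lit 12) (Steps.bwd (nat_lit 7) (Steps.bwd (nat_lit 13) Steps.nil)))))) (nat_lit 45) (nat_lit 5),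
  Rule.mk (nat_lit 2) (nat_lit 87) (Steps.fwd (nat_lit 12288) (Steps.bwd (nat_lit 1) (Steps.fwd (nat_lit 8192) (Steps.fwd (nat_lit 16384) (Steps.bwd (nat_lit 2) Steps.nil))))) (nat_lit 6) (nat_lit 2),
  Rule.mk (nat_lit 11) (nat_lit 117) (Steps.bwd (nat_lit 14) (Steps.bwd (nat_lit 8) (Steps.bwd (nat_lit 8) (Steps.fwd (nat_lit 12288) (Steps.fwd (nat_lit 49152) (Steps.fwd (nat_lit 16384) (Steps.bwd (nat_lit 11) Steps.nil))))))) (nat_lit 52) (nat_lit 5),
  Rule.mk (nat_lit 13) (nat_lit 117) (Steps.bwd (nat_lit 7) (Steps.fwd (nat_lit 57344) (Steps.bwd (nat_lit 12) (Steps.fwd (nat_lit 36864) (Steps.fwd (nat_lit 12288) (Steps.fwd (nat_lit 40960) (Steps.bwd (nat_lit 3) Steps.nil))))))) (nat_lit 50) (nat_lit 4),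
  Rule.mk (nat_lit 7) (nat_lit 117) (Steps.bwd (nat_lit 7) (Steps.fwd (nat_lit 57344) (Steps.bwd (nat_lit 12) (Steps.bwd (nat_lit 12) (Steps.bwd (nat_lit 4) (Steps.bwd (nat_lit 12) (Steps.fwd (nat_lit 16384) Steps.nil))))))) (nat_lit 53) (nat_lit 1),
  Rule.mk (nat_lit 1) (nat_lit 132) (Steps.bwd (nat_lit 7) (Steps.bwd (nat_lit 10) (Steps.bwd (nat_lit 12) (Steps.bwd (nat_lit 13) (Steps.fwd (nat_lit 32768) (Steps.bwd (nat_lit 13) (Steps.fwd (nat_lit 4096) (Steps.bwd (nat_lit 14) Steps.nil)))))))) (nat_lit 47) (nat_lit 0),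
  Rule.mk (nat_lit 8) (nat_lit 72) (Steps.fwd (nat_lit 4096) (Steps.bwd (nat_lit 10) (Steps.bwd (nat_lit 1) (Steps.fwd (nat_lit 28672) Steps.nil)))) (nat_lit 43) (nat_lit 2),
  Rule.mk (nat_lit 12) (nat_lit 102) (Steps.bwd (nat_lit 1) (Steps.fwd (nat_lit 45056) (Steps.fwd (nat_lit 45056) (Steps.bwd (nat_lit 7) (Steps.bwd (nat_lit 13) (Steps.bwd (nat_lit 2) Steps.nil)))))) (nat_lit 45) (nat_lit 6),
  Rule.mk (nat_lit 4) (nat_lit 117) (Steps.bwd (nat_lit 2) (Steps.bwd (nat_lit 4) (Steps.bwd (nat_lit 2) (Steps.fwd (nat_lit 12288) (Steps.fwd (nat_lit 4096) (Steps.bwd (nat_lit 4) (Steps.fwd (nat_lit 4096) Steps.nil))))))) (nat_lit 5) (nat_lit 1),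
  Rule.mk (nat_lit 12) (nat_lit 102) (Steps.bwd (nat_lit 12) (Steps.fwd (nat_lit 32768) (Steps.bwd (nat_lit 13) (Steps.fwd (nat_lit 4096) (Steps.fwd (nat_lit 45056) (Steps.bwd (nat_lit 1) Steps.nil)))))) (nat_lit 45) (nat_lit 1),
  Rule.mk (nat_lit 7) (nat_lit 132) (Steps.fwd (nat_lit 57344) (Steps.bwd (nat_lit 2) (Steps.bwd (nat_lit 14) (Steps.fwd (nat_lit 8192) (Steps.fwd (nat_lit 32768) (Steps.bwd (nat_lit 10) (Steps.fwd (nat_lit 45056) (Steps.bwd (nat_lit 13) Steps.nil)))))))) (nat_lit 47) (nat_lit 5),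
  Rule.mk (nat_lit 1) (nat_lit 132) (Steps.bwd (nat_lit 7) (Steps.bwd (nat_lit 10) (Steps.bwd (nat_lit 12) (Steps.bwd (nat_lit 13) (Steps.bwd (nat_lit 7) (Steps.fwd (nat_lit 57344) (Steps.bwd (nat_lit 2) (Steps.bwd (nat_lit 14) Steps.nil)))))))) (nat_lit 47) (nat_lit 0),
  Rule.mk (nat_lit 16) (nat_lit 87) (Steps.bwd (nat_lit 8) (Steps.bwd (nat_lit 14) (Steps.fwd (nat_lit 32768) (Steps.bwd (nat_lit 13) (Steps.fwd (nat_lit 61440) Steps.nil))))) (nat_lit 34) (nat_lit 0),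
  Rule.mk (nat_lit 2) (nat_lit 72) (Steps.fwd (nat_lit 65536) (Steps.bwd (nat_lit 1) (Steps.fwd (nat_lit 61440) (Steps.bwd (nat_lit 16) Steps.nil)))) (nat_lit 48) (nat_lit 1),
  Rule.mk (nat_lit 7) (nat_lit 72) (Steps.fwd (nat_lit 32768) (Steps.bwd (nat_lit 2) (Steps.bwd (nat_lit 9) (Steps.fwd (nat_lit 8192) Steps.nil)))) (nat_lit 42) (nat_lit 4),
  Rule.mk (nat_lit 15) (nat_lit 87) (Steps.bwd (nat_lit 14) (Steps.fwd (nat_lit 28672) (Steps.bwd (nat_lit 13) (Steps.fwd (nat_lit 32768) (Steps.fwd (nat_lit 65536) Steps.nil))))) (nat_lit 35) (nat_lit 2),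
  Rule.mk (nat_lit 11) (nat_lit 117) (Steps.bwd (nat_lit 14) (Steps.fwd (nat_lit 28672) (Steps.fwd (nat_lit 28672) (Steps.fwd (nat_lit 12288) (Steps.bwd (nat_lit 11) (Steps.bwd (nat_lit 3) (Steps.bwd (nat_lit 11) Steps.nil))))))) (nat_lit 52) (nat_lit 5),
  Rule.mk (nat_lit 1) (nat_lit 132) (Steps.bwd (nat_lit 14) (Steps.fwd (nat_lit 28672) (Steps.bwd (nat_lit 14) (Steps.fwd (nat_lit 49152) (Steps.bwd (nat_lit 9) (Steps.fwd (nat_lit 28672) (Steps.fwd (nat_lit 4096) (Steps.bwd (nat_lit 13) Steps.nil)))))))) (nat_lit 46) (nat_lit 3),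
  Rule.mk (nat_lit 14) (nat_lit 117) (Steps.bwd (nat_lit 8) (Steps.fwd (nat_lit 28672) (Steps.fwd (nat_lit 12288) (Steps.fwd (nat_lit 49152) (Steps.bwd (nat_lit 3) (Steps.fwd (nat_lit 49152) (Steps.fwd (nat_lit 49152) Steps.nil))))))) (nat_lit 52) (nat_lit 6),
  Rule.mk (nat_lit 4) (nat_lit 117) (Steps.bwd (nat_lit 10) (Steps.bwd (nat_lit 3) (Steps.bwd (nat_lit 9) (Steps.fwd (nat_lit 49152) (Steps.fwd (nat_lit 53248) (Steps.fwd (nat_lit 28672) (Steps.bwd (nat_lit 14) Steps.nil))))))) (nat_lit 51) (nat_lit 6),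
  Rule.mk (nat_lit 10) (nat_lit 72) (Steps.fwd (nat_lit 8192) (Steps.bwd (nat_lit 8) (Steps.bwd (nat_lit 8) (Steps.fwd (nat_lit 4096) Steps.nil)))) (nat_lit 43) (nat_lit 4),
  Rule.mk (nat_lit 2) (nat_lit 177) (Steps.bwd (nat_lit 3) (Steps.bwd (nat_lit 1) (Steps.bwd (nat_lit 4) (Steps.bwd (nat_lit 2) (Steps.fwd (nat_lit 16384) (Steps.fwd (nat_lit 8192) (Steps.fwd (nat_lit 12288) (Steps.bwd (nat_lit 2) (Steps.bwd (nat_lit 3) (Steps.bwd (nat_lit 1) (Steps.bwd (nat_lit 4) Steps.nil))))))))))) (nat_lit 9) (nat_lit 2),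
  Rule.mk (nat_lit 8) (nat_lit 117) (Steps.bwd (nat_lit 14) (Steps.fwd (nat_lit 12288) (Steps.fwd (nat_lit 36864) (Steps.fwd (nat_lit 16384) (Steps.fwd (nat_lit 40960) (Steps.fwd (nat_lit 49152) (Steps.bwd (nat_lit 14) Steps.nil))))))) (nat_lit 51) (nat_lit 4),
  Rule.mk (nat_lit 1) (nat_lit 132) (Steps.bwd (nat_lit 14) (Steps.bwd (nat_lit 8) (Steps.bwd (nat_lit 14) (Steps.bwd (nat_lit 11) (Steps.bwd (nat_lit 9) (Steps.bwd (nat_lit 8) (Steps.fwd (nat_lit 4096) (Steps.fwd (nat_lit 57344) Steps.nil)))))))) (nat_lit 46) (nat_lit 3),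
  Rule.mk (nat_lit 4) (nat_lit 117) (Steps.bwd (nat_lit 9) (Steps.bwd (nat_lit 3) (Steps.bwd (nat_lit 13) (Steps.fwd (nat_lit 32768) (Steps.bwd (nat_lit 13) (Steps.fwd (nat_lit 45056) (Steps.bwd (nat_lit 10) Steps.nil))))))) (nat_lit 50) (nat_lit 1),
  Rule.mk (nat_lit 3) (nat_lit 117) (Steps.bwd (nat_lit 9) (Steps.fwd (nat_lit 49152) (Steps.bwd (nat_lit 14) (Steps.fwd (nat_lit 28672) (Steps.bwd (nat_lit 14) (Steps.bwd (nat_lit 4) (Steps.bwd (nat_lit 10) Steps.nil))))))) (nat_lit 51) (nat_lit 0),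
  Rule.mk (nat_lit 10) (nat_lit 117) (Steps.bwd (nat_lit 4) (Steps.bwd (nat_lit 9) (Steps.bwd (nat_lit 3) (Steps.fwd (nat_lit 57344) (Steps.bwd (nat_lit 7) (Steps.fwd (nat_lit 57344) (Steps.fwd (nat_lit 45056) Steps.nil))))))) (nat_lit 50) (nat_lit 0),
  Rule.mk (nat_lit 14) (nat_lit 132) (Steps.bwd (nat_lit 1) (Steps.fwd (nat_lit 32768) (Steps.bwd (nat_lit 10) (Steps.bwd (nat_lit 12) (Steps.bwd (nat_lit 13) (Steps.bwd (nat_lit 7) (Steps.fwd (nat_lit 57344) (Steps.bwd (nat_lit 2) Steps.nil)))))))) (nat_lit 47) (nat_lit 8),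
  Rule.mk (nat_lit 2) (nat_lit 132) (Steps.bwd (nat_lit 13) (Steps.fwd (nat_lit 8192) (Steps.bwd (nat_lit 14) (Steps.bwd (nat_lit 8) (Steps.bwd (nat_lit 14) (Steps.bwd (nat_lit 11) (Steps.bwd (nat_lit 9) (Steps.bwd (nat_lit 8) Steps.nil)))))))) (nat_lit 46) (nat_lit 1),
  Rule.mk (nat_lit 11) (nat_lit 117) (Steps.bwd (nat_lit 14) (Steps.bwd (nat_lit 8) (Steps.fwd (nat_lit 53248) (Steps.fwd (nat_lit 12288) (Steps.bwd (nat_lit 10) (Steps.fwd (nat_lit 16384) (Steps.fwd (nat_lit 40960) Steps.nil))))))) (nat_lit 51) (nat_lit 2),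
  Rule.mk (nat_lit 1) (nat_lit 102) (Steps.fwd (nat_lit 53248) (Steps.bwd (nat_lit 8) (Steps.fwd (nat_lit 49152) (Steps.fwd (nat_lit 49152) (Steps.fwd (nat_lit 4096) (Steps.bwd (nat_lit 11) Steps.nil)))))) (nat_lit 44) (nat_lit 3),
  Rule.mk (nat_lit 15) (nat_lit 72) (Steps.bwd (nat_lit 1) (Steps.fwd (nat_lit 61440) (Steps.bwd (nat_lit 16) (Steps.fwd (nat_lit 4096) Steps.nil)))) (nat_lit 48) (nat_lit 2),
  Rule.mk (nat_lit 4) (nat_lit 87) (Steps.bwd (nat_lit 1) (Steps.fwd (nat_lit 8192) (Steps.bwd (nat_lit 3) (Steps.fwd (nat_lit 4096) (Steps.bwd (nat_lit 2) Steps.nil))))) (nat_lit 6) (nat_lit 3),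
  Rule.mk (nat_lit 7) (nat_lit 117) (Steps.fwd (nat_lit 32768) (Steps.bwd (nat_lit 13) (Steps.fwd (nat_lit 45056) (Steps.fwd (nat_lit 45056) (Steps.bwd (nat_lit 4) (Steps.bwd (nat_lit 12) (Steps.bwd (nat_lit 3) Steps.nil))))))) (nat_lit 53) (nat_lit 1),
  Rule.mk (nat_lit 10) (nat_lit 117) (Steps.fwd (nat_lit 16384) (Steps.bwd (nat_lit 9) (Steps.fwd (nat_lit 49152) (Steps.bwd (nat_lit 14) (Steps.fwd (nat_lit 28672) (Steps.fwd (nat_lit 53248) (Steps.bwd (nat_lit 4) Steps.nil))))))) (nat_lit 51) (nat_lit 7),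
  Rule.mk (nat_lit 14) (nat_lit 102) (Steps.fwd (nat_lit 28672) (Steps.fwd (nat_lit 49152) (Steps.bwd (nat_lit 11) (Steps.bwd (nat_lit 2) (Steps.fwd (nat_lit 49152) (Steps.bwd (nat_lit 1) Steps.nil)))))) (nat_lit 44) (nat_lit 4),
  Rule.mk (nat_lit 1) (nat_lit 102) (Steps.bwd (nat_lit 14) (Steps.bwd (nat_lit 8) (Steps.fwd (nat_lit 49152) (Steps.bwd (nat_lit 11) (Steps.fwd (nat_lit 4096) (Steps.fwd (nat_lit 49152) Steps.nil)))))) (nat_lit 44) (nat_lit 3),
  Rule.mk (nat_lit 4) (nat_lit 87) (Steps.fwd (nat_lit 4096) (Steps.fwd (nat_lit 4096) (Steps.fwd (nat_lit 16384) (Steps.bwd (nat_lit 1) (Steps.bwd (nat_lit 1) Steps.nil))))) (nat_lit 7) (nat_lit 1),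
  Rule.mk (nat_lit 8) (nat_lit 117) (Steps.bwd (nat_lit 4) (Steps.bwd (nat_lit 11) (Steps.bwd (nat_lit 3) (Steps.bwd (nat_lit 11) (Steps.fwd (nat_lit 49152) (Steps.bwd (nat_lit 14) (Steps.bwd (nat_lit 8) Steps.nil))))))) (nat_lit 52) (nat_lit 0),
  Rule.mk (nat_lit 14) (nat_lit 132) (Steps.bwd (nat_lit 11) (Steps.bwd (nat_lit 9) (Steps.fwd (nat_lit 28672) (Steps.bwd (nat_lit 2) (Steps.fwd (nat_lit 57344) (Steps.fwd (nat_lit 8192) (Steps.fwd (nat_lit 53248) (Steps.bwd (nat_lit 8) Steps.nil)))))))) (nat_lit 46) (nat_lit 6),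
  Rule.mk (nat_lit 1) (nat_lit 102) (Steps.bwd (nat_lit 14) (Steps.fwd (nat_lit 28672) (Steps.fwd (nat_lit 49152) (Steps.fwd (nat_lit 49152) (Steps.fwd (nat_lit 4096) (Steps.fwd (nat_lit 49152) Steps.nil)))))) (nat_lit 44) (nat_lit 3),
  Rule.mk (nat_lit 4) (nat_lit 117) (Steps.bwd (nat_lit 10) (Steps.fwd (nat_lit 16384) (Steps.bwd (nat_lit 9) (Steps.fwd (nat_lit 49152) (Steps.fwd (nat_lit 53248) (Steps.fwd (nat_lit 28672) (Steps.bwd (nat_lit 14) Steps.nil))))))) (nat_lit 51) (nat_lit 6),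
  Rule.mk (nat_lit 9) (nat_lit 117) (Steps.bwd (nat_lit 3) (Steps.fwd (nat_lit 57344) (Steps.bwd (nat_lit 7) (Steps.bwd (nat_lit 13) (Steps.fwd (nat_lit 45056) (Steps.fwd (nat_lit 36864) (Steps.bwd (nat_lit 4) Steps.nil))))))) (nat_lit 50) (nat_lit 2),
  Rule.mk (nat_lit 8) (nat_lit 132) (Steps.bwd (nat_lit 14) (Steps.fwd (nat_lit 49152) (Steps.fwd (nat_lit 40960) (Steps.bwd (nat_lit 8) (Steps.fwd (nat_lit 4096) (Steps.fwd (nat_lit 57344) (Steps.bwd (nat_lit 1) (Steps.bwd (nat_lit 14) Steps.nil)))))))) (nat_lit 46) (nat_lit 5),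
  Rule.mk (nat_lit 3) (nat_lit 117) (Steps.fwd (nat_lit 40960) (Steps.bwd (nat_lit 11) (Steps.fwd (nat_lit 53248) (Steps.bwd (nat_lit 8) (Steps.fwd (nat_lit 53248) (Steps.bwd (nat_lit 4) (Steps.bwd (nat_lit 10) Steps.nil))))))) (nat_lit 51) (nat_lit 0),
  Rule.mk (nat_lit 2) (nat_lit 132) (Steps.bwd (nat_lit 13) (Steps.bwd (nat_lit 1) (Steps.fwd (nat_lit 53248) (Steps.bwd (nat_lit 8) (Steps.bwd (nat_lit 14) (Steps.bwd (nat_lit 11) (Steps.bwd (nat_lit 9) (Steps.bwd (nat_lit 8) Steps.nil)))))))) (nat_lit 46) (nat_lit 1),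
  Rule.mk (nat_lit 4) (nat_lit 117) (Steps.bwd (nat_lit 2) (Steps.fwd (nat_lit 12288) (Steps.bwd (nat_lit 2) (Steps.bwd (nat_lit 4) (Steps.fwd (nat_lit 4096) (Steps.bwd (nat_lit 4) (Steps.bwd (nat_lit 2) Steps.nil))))))) (nat_lit 5) (nat_lit 1),
  Rule.mk (nat_lit 7) (nat_lit 117) (Steps.bwd (nat_lit 13) (Steps.bwd (nat_lit 12) (Steps.bwd (nat_lit 10) (Steps.bwd (nat_lit 4) (Steps.fwd (nat_lit 40960) (Steps.bwd (nat_lit 3) (Steps.fwd (nat_lit 57344) Steps.nil))))))) (nat_lit 50) (nat_lit 5),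
  Rule.mk (nat_lit 3) (nat_lit 117) (Steps.bwd (nat_lit 13) (Steps.fwd (nat_lit 32768) (Steps.fwd (nat_lit 57344) (Steps.bwd (nat_lit 12) (Steps.bwd (nat_lit 10) (Steps.fwd (nat_lit 12288) (Steps.fwd (nat_lit 40960) Steps.nil))))))) (nat_lit 50) (nat_lit 3),
  Rule.mk (nat_lit 10) (nat_lit 117) (Steps.bwd (nat_lit 4) (Steps.bwd (nat_lit 9) (Steps.fwd (nat_lit 16384) (Steps.fwd (nat_lit 57344) (Steps.fwd (nat_lit 32768) (Steps.fwd (nat_lit 57344) (Steps.bwd (nat_lit 12) Steps.nil))))))) (nat_lit 50) (nat_lit 0),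
  Rule.mk (nat_lit 8) (nat_lit 117) (Steps.bwd (nat_lit 4) (Steps.fwd (nat_lit 49152) (Steps.fwd (nat_lit 16384) (Steps.bwd (nat_lit 11) (Steps.bwd (nat_lit 11) (Steps.fwd (nat_lit 53248) (Steps.fwd (nat_lit 28672) Steps.nil))))))) (nat_lit 52) (nat_lit 0),
  Rule.mk (nat_lit 14) (nat_lit 132) (Steps.fwd (nat_lit 49152) (Steps.fwd (nat_lit 40960) (Steps.bwd (nat_lit 8) (Steps.bwd (nat_lit 2) (Steps.fwd (nat_lit 57344) (Steps.bwd (nat_lit 1) (Steps.fwd (nat_lit 53248) (Steps.bwd (nat_lit 8) Steps.nil)))))))) (nat_lit 46) (nat_lit 6),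
  Rule.mk (nat_lit 13) (nat_lit 102) (Steps.bwd (nat_lit 2) (Steps.fwd (nat_lit 45056) (Steps.fwd (nat_lit 8192) (Steps.bwd (nat_lit 12) (Steps.fwd (nat_lit 45056) (Steps.bwd (nat_lit 7) Steps.nil)))))) (nat_lit 45) (nat_lit 4),
  Rule.mk (nat_lit 3) (nat_lit 117) (Steps.bwd (nat_lit 13) (Steps.fwd (nat_lit 32768) (Steps.bwd (nat_lit 13) (Steps.fwd (nat_lit 45056) (Steps.fwd (nat_lit 36864) (Steps.fwd (nat_lit 12288) (Steps.bwd (nat_lit 9) Steps.nil))))))) (nat_lit 50) (nat_lit 3),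
  Rule.mk (nat_lit 2) (nat_lit 132) (Steps.bwd (nat_lit 13) (Steps.bwd (nat_lit 1) (Steps.bwd (nat_lit 14) (Steps.fwd (nat_lit 28672) (Steps.fwd (nat_lit 53248) (Steps.fwd (nat_lit 49152) (Steps.bwd (nat_lit 9) (Steps.fwd (nat_lit 28672) Steps.nil)))))))) (nat_lit 46) (nat_lit 1),
  Rule.mk (nat_lit 12) (nat_lit 132) (Steps.bwd (nat_lit 13) (Steps.fwd (nat_lit 32768) (Steps.bwd (nat_lit 13) (Steps.fwd (nat_lit 4096) (Steps.bwd (nat_lit 14) (Steps.fwd (nat_lit 8192) (Steps.bwd (nat_lit 7) (Steps.bwd (nat_lit 10) Steps.nil)))))))) (nat_lit 47) (nat_lit 3),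
  Rule.mk (nat_lit 7) (nat_lit 117) (Steps.bwd (nat_lit 13) (Steps.bwd (nat_lit 12) (Steps.fwd (nat_lit 45056) (Steps.fwd (nat_lit 12288) (Steps.fwd (nat_lit 45056) (Steps.bwd (nat_lit 3) (Steps.bwd (nat_lit 7) Steps.nil))))))) (nat_lit 53) (nat_lit 2),
  Rule.mk (nat_lit 2) (nat_lit 132) (Steps.bwd (nat_lit 13) (Steps.fwd (nat_lit 8192) (Steps.bwd (nat_lit 14) (Steps.fwd (nat_lit 28672) (Steps.bwd (nat_lit 14) (Steps.fwd (nat_lit 49152) (Steps.bwd (nat_lit 9) (Steps.fwd (nat_lit 28672) Steps.nil)))))))) (nat_lit 46) (nat_lit 1),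
  Rule.mk (nat_lit 14) (nat_lit 87) (Steps.bwd (nat_lit 8) (Steps.fwd (nat_lit 57344) (Steps.fwd (nat_lit 32768) (Steps.fwd (nat_lit 65536) (Steps.bwd (nat_lit 15) Steps.nil))))) (nat_lit 35) (nat_lit 3),
  Rule.mk (nat_lit 9) (nat_lit 132) (Steps.bwd (nat_lit 8) (Steps.bwd (nat_lit 2) (Steps.fwd (nat_lit 57344) (Steps.bwd (nat_lit 1) (Steps.bwd (nat_lit 14) (Steps.bwd (nat_lit 8) (Steps.bwd (nat_lit 14) (Steps.bwd (nat_lit 11) Steps.nil)))))))) (nat_lit 46) (nat_lit 8),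
  Rule.mk (nat_lit 2) (nat_lit 87) (Steps.bwd (nat_lit 2) (Steps.fwd (nat_lit 16384) (Steps.bwd (nat_lit 1) (Steps.bwd (nat_lit 1) (Steps.fwd (nat_lit 12288) Steps.nil))))) (nat_lit 7) (nat_lit 2)]
noncomputable def R_36 : List (Rule) := [Rule.mk (nat_lit 11) (nat_lit 117) (Steps.fwd (nat_lit 53248) (Steps.fwd (nat_lit 28672) (Steps.bwd (nat_lit 8) (Steps.fwd (nat_lit 12288) (Steps.fwd (nat_lit 49152) (Steps.bwd (nat_lit 3) (Steps.bwd (nat_lit 11) Steps.nil))))))) (nat_lit 52) (nat_lit 5),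
  Rule.mk (nat_lit 2) (nat_lit 87) (Steps.bwd (nat_lit 2) (Steps.bwd (nat_lit 3) (Steps.fwd (nat_lit 8192) (Steps.bwd (nat_lit 1) (Steps.fwd (nat_lit 12288) Steps.nil))))) (nat_lit 7) (nat_lit 2),
  Rule.mk (nat_lit 13) (nat_lit 117) (Steps.bwd (nat_lit 12) (Steps.bwd (nat_lit 12) (Steps.bwd (nat_lit 4) (Steps.fwd (nat_lit 45056) (Steps.fwd (nat_lit 16384) (Steps.fwd (nat_lit 32768) (Steps.bwd (nat_lit 7) Steps.nil))))))) (nat_lit 53) (nat_lit 3),
  Rule.mk (nat_lit 8) (nat_lit 72) (Steps.fwd (nat_lit 28672) (Steps.fwd (nat_lit 4096) (Steps.bwd (nat_lit 10) (Steps.bwd (nat_lit 1) Steps.nil)))) (nat_lit 43) (nat_lit 1),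
  Rule.mk (nat_lit 1) (nat_lit 87) (Steps.bwd (nat_lit 3) (Steps.fwd (nat_lit 4096) (Steps.bwd (nat_lit 2) (Steps.fwd (nat_lit 12288) (Steps.bwd (nat_lit 1) Steps.nil))))) (nat_lit 6) (nat_lit 5),
  Rule.mk (nat_lit 14) (nat_lit 102) (Steps.bwd (nat_lit 8) (Steps.fwd (nat_lit 49152) (Steps.bwd (nat_lit 11) (Steps.bwd (nat_lit 2) (Steps.bwd (nat_lit 11) (Steps.bwd (nat_lit 1) Steps.nil)))))) (nat_lit 44) (nat_lit 4),
  Rule.mk (nat_lit 12) (nat_lit 87) (Steps.bwd (nat_lit 8) (Steps.fwd (nat_lit 49152) (Steps.fwd (nat_lit 32768) (Steps.bwd (nat_lit 16) (Steps.bwd (nat_lit 16) Steps.nil))))) (nat_lit 33) (nat_lit 3),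
  Rule.mk (nat_lit 1) (nat_lit 132) (Steps.bwd (nat_lit 7) (Steps.fwd (nat_lit 36864) (Steps.fwd (nat_lit 45056) (Steps.bwd (nat_lit 13) (Steps.fwd (nat_lit 32768) (Steps.bwd (nat_lit 13) (Steps.bwd (nat_lit 2) (Steps.bwd (nat_lit 14) Steps.nil)))))))) (nat_lit 47) (nat_lit 0),
  Rule.mk (nat_lit 3) (nat_lit 72) (Steps.bwd (nat_lit 3) (Steps.bwd (nat_lit 3) (Steps.bwd (nat_lit 3) (Steps.fwd (nat_lit 16384) Steps.nil)))) (nat_lit 2) (nat_lit 0),
  Rule.mk (nat_lit 10) (nat_lit 117) (Steps.bwd (nat_lit 3) (Steps.fwd (nat_lit 40960) (Steps.bwd (nat_lit 11) (Steps.fwd (nat_lit 53248) (Steps.bwd (nat_lit 8) (Steps.bwd (nat_lit 14) (Steps.bwd (nat_lit 4) Steps.nil))))))) (nat_lit 51) (nat_lit 7),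
  Rule.mk (nat_lit 12) (nat_lit 102) (Steps.fwd (nat_lit 8192) (Steps.bwd (nat_lit 12) (Steps.bwd (nat_lit 12) (Steps.bwd (nat_lit 7) (Steps.bwd (nat_lit 13) (Steps.bwd (nat_lit 2) Steps.nil)))))) (nat_lit 45) (nat_lit 6),
  Rule.mk (nat_lit 2) (nat_lit 132) (Steps.bwd (nat_lit 13) (Steps.bwd (nat_lit 1) (Steps.fwd (nat_lit 53248) (Steps.fwd (nat_lit 28672) (Steps.bwd (nat_lit 14) (Steps.fwd (nat_lit 49152) (Steps.fwd (nat_lit 40960) (Steps.bwd (nat_lit 8) Steps.nil)))))))) (nat_lit 46) (nat_lit 1),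
  Rule.mk (nat_lit 9) (nat_lit 117) (Steps.bwd (nat_lit 3) (Steps.fwd (nat_lit 57344) (Steps.bwd (nat_lit 7) (Steps.fwd (nat_lit 57344) (Steps.fwd (nat_lit 45056) (Steps.bwd (nat_lit 10) (Steps.bwd (nat_lit 4) Steps.nil))))))) (nat_lit 50) (nat_lit 2),
  Rule.mk (nat_lit 12) (nat_lit 117) (Steps.bwd (nat_lit 3) (Steps.bwd (nat_lit 7) (Steps.fwd (nat_lit 32768) (Steps.fwd (nat_lit 57344) (Steps.bwd (nat_lit 12) (Steps.bwd (nat_lit 12) (Steps.fwd (nat_lit 12288) Steps.nil))))))) (nat_lit 53) (nat_lit 7),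
  Rule.mk (nat_lit 2) (nat_lit 132) (Steps.bwd (nat_lit 13) (Steps.fwd (nat_lit 8192) (Steps.bwd (nat_lit 14) (Steps.fwd (nat_lit 28672) (Steps.bwd (nat_lit 14) (Steps.bwd (nat_lit 11) (Steps.fwd (nat_lit 40960) (Steps.bwd (nat_lit 8) Steps.nil)))))))) (nat_lit 46) (nat_lit 1),
  Rule.mk (nat_lit 3) (nat_lit 117) (Steps.bwd (nat_lit 9) (Steps.fwd (nat_lit 49152) (Steps.fwd (nat_lit 53248) (Steps.fwd (nat_lit 28672) (Steps.bwd (nat_lit 14) (Steps.fwd (nat_lit 12288) (Steps.fwd (nat_lit 36864) Steps.nil))))))) (nat_lit 51) (nat_lit 0),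
  Rule.mk (nat_lit 10) (nat_lit 117) (Steps.bwd (nat_lit 4) (Steps.fwd (nat_lit 40960) (Steps.bwd (nat_lit 3) (Steps.bwd (nat_lit 13) (Steps.bwd (nat_lit 7) (Steps.bwd (nat_lit 13) (Steps.fwd (nat_lit 45056) Steps.nil))))))) (nat_lit 50) (nat_lit 0),
  Rule.mk (nat_lit 9) (nat_lit 132) (Steps.bwd (nat_lit 8) (Steps.bwd (nat_lit 2) (Steps.fwd (nat_lit 57344) (Steps.fwd (nat_lit 8192) (Steps.fwd (nat_lit 53248) (Steps.fwd (nat_lit 28672) (Steps.bwd (nat_lit 14) (Steps.bwd (nat_lit 11) Steps.nil)))))))) (nat_lit 46) (nat_lit 8),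
  Rule.mk (nat_lit 3) (nat_lit 117) (Steps.bwd (nat_lit 11) (Steps.bwd (nat_lit 11) (Steps.bwd (nat_lit 14) (Steps.fwd (nat_lit 28672) (Steps.bwd (nat_lit 8) (Steps.fwd (nat_lit 12288) (Steps.bwd (nat_lit 11) Steps.nil))))))) (nat_lit 52) (nat_lit 3),
  Rule.mk (nat_lit 7) (nat_lit 117) (Steps.fwd (nat_lit 32768) (Steps.fwd (nat_lit 57344) (Steps.fwd (nat_lit 45056) (Steps.fwd (nat_lit 45056) (Steps.bwd (nat_lit 4) (Steps.bwd (nat_lit 12) (Steps.bwd (nat_lit 3) Steps.nil))))))) (nat_lit 53) (nat_lit 1),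
  Rule.mk (nat_lit 7) (nat_lit 72) (Steps.bwd (nat_lit 7) (Steps.bwd (nat_lit 2) (Steps.fwd (nat_lit 40960) (Steps.bwd (nat_lit 1) Steps.nil)))) (nat_lit 42) (nat_lit 4),
  Rule.mk (nat_lit 12) (nat_lit 117) (Steps.bwd (nat_lit 12) (Steps.fwd (nat_lit 12288) (Steps.bwd (nat_lit 12) (Steps.fwd (nat_lit 16384) (Steps.bwd (nat_lit 7) (Steps.bwd (nat_lit 7) (Steps.bwd (nat_lit 13) Steps.nil))))))) (nat_lit 53) (nat_lit 4),
  Rule.mk (nat_lit 1) (nat_lit 102) (Steps.bwd (nat_lit 12) (Steps.fwd (nat_lit 45056) (Steps.bwd (nat_lit 7) (Steps.fwd (nat_lit 57344) (Steps.bwd (nat_lit 2) (Steps.bwd (nat_lit 12) Steps.nil)))))) (nat_lit 45) (nat_lit 0),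
  Rule.mk (nat_lit 7) (nat_lit 87) (Steps.bwd (nat_lit 11) (Steps.fwd (nat_lit 65536) (Steps.bwd (nat_lit 15) (Steps.fwd (nat_lit 28672) (Steps.fwd (nat_lit 45056) Steps.nil))))) (nat_lit 32) (nat_lit 3),
  Rule.mk (nat_lit 4) (nat_lit 117) (Steps.bwd (nat_lit 12) (Steps.bwd (nat_lit 3) (Steps.bwd (nat_lit 7) (Steps.fwd (nat_lit 32768) (Steps.bwd (nat_lit 13) (Steps.bwd (nat_lit 12) (Steps.bwd (nat_lit 12) Steps.nil))))))) (nat_lit 53) (nat_lit 6),
  Rule.mk (nat_lit 9) (nat_lit 117) (Steps.bwd (nat_lit 3) (Steps.fwd (nat_lit 57344) (Steps.fwd (nat_lit 32768) (Steps.fwd (nat_lit 57344) (Steps.bwd (nat_lit 12) (Steps.fwd (nat_lit 36864) (Steps.bwd (nat_lit 4) Steps.nil))))))) (nat_lit 50) (nat_lit 2),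
  Rule.mk (nat_lit 1) (nat_lit 87) (Steps.bwd (nat_lit 1) (Steps.bwd (nat_lit 3) (Steps.fwd (nat_lit 4096) (Steps.bwd (nat_lit 2) (Steps.fwd (nat_lit 12288) Steps.nil))))) (nat_lit 6) (nat_lit 4),
  Rule.mk (nat_lit 8) (nat_lit 132) (Steps.bwd (nat_lit 2) (Steps.bwd (nat_lit 13) (Steps.fwd (nat_lit 8192) (Steps.fwd (nat_lit 53248) (Steps.bwd (nat_lit 8) (Steps.bwd (nat_lit 14) (Steps.bwd (nat_lit 11) (Steps.bwd (nat_lit 9) Steps.nil)))))))) (nat_lit 46) (nat_lit 0),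
  Rule.mk (nat_lit 14) (nat_lit 132) (Steps.bwd (nat_lit 11) (Steps.bwd (nat_lit 9) (Steps.bwd (nat_lit 8) (Steps.fwd (nat_lit 4096) (Steps.bwd (nat_lit 13) (Steps.fwd (nat_lit 8192) (Steps.bwd (nat_lit 14) (Steps.bwd (nat_lit 8) Steps.nil)))))))) (nat_lit 46) (nat_lit 6),
  Rule.mk (nat_lit 1) (nat_lit 102) (Steps.fwd (nat_lit 53248) (Steps.fwd (nat_lit 28672) (Steps.bwd (nat_lit 11) (Steps.fwd (nat_lit 49152) (Steps.bwd (nat_lit 2) (Steps.bwd (nat_lit 11) Steps.nil)))))) (nat_lit 44) (nat_lit 3),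
  Rule.mk (nat_lit 14) (nat_lit 117) (Steps.fwd (nat_lit 28672) (Steps.bwd (nat_lit 14) (Steps.fwd (nat_lit 12288) (Steps.bwd (nat_lit 10) (Steps.fwd (nat_lit 16384) (Steps.fwd (nat_lit 40960) (Steps.fwd (nat_lit 49152) Steps.nil))))))) (nat_lit 51) (nat_lit 3),
  Rule.mk (nat_lit 15) (nat_lit 87) (Steps.bwd (nat_lit 14) (Steps.bwd (nat_lit 8) (Steps.bwd (nat_lit 13) (Steps.bwd (nat_lit 7) (Steps.bwd (nat_lit 15) Steps.nil))))) (nat_lit 35) (nat_lit 2),
  Rule.mk (nat_lit 1) (nat_lit 117) (Steps.bwd (nat_lit 3) (Steps.bwd (nat_lit 1) (Steps.fwd (nat_lit 16384) (Steps.fwd (nat_lit 8192) (Steps.bwd (nat_lit 3) (Steps.fwd (nat_lit 8192) (Steps.bwd (nat_lit 3) Steps.nil))))))) (nat_lit 4) (nat_lit 1),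
  Rule.mk (nat_lit 1) (nat_lit 177) (Steps.bwd (nat_lit 3) (Steps.bwd (nat_lit 2) (Steps.fwd (nat_lit 12288) (Steps.fwd (nat_lit 8192) (Steps.fwd (nat_lit 16384) (Steps.bwd (nat_lit 2) (Steps.fwd (nat_lit 12288) (Steps.fwd (nat_lit 8192) (Steps.bwd (nat_lit 3) (Steps.fwd (nat_lit 4096) (Steps.bwd (nat_lit 4) Steps.nil))))))))))) (nat_lit 8) (nat_lit 3),
  Rule.mk (nat_lit 1) (nat_lit 102) (Steps.bwd (nat_lit 12) (Steps.bwd (nat_lit 12) (Steps.bwd (nat_lit 7) (Steps.fwd (nat_lit 57344) (Steps.fwd (nat_lit 4096) (Steps.bwd (nat_lit 12) Steps.nil)))))) (nat_lit 45) (nat_lit 0),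
  Rule.mk (nat_lit 13) (nat_lit 102) (Steps.bwd (nat_lit 2) (Steps.fwd (nat_lit 45056) (Steps.fwd (nat_lit 8192) (Steps.fwd (nat_lit 45056) (Steps.bwd (nat_lit 12) (Steps.bwd (nat_lit 7) Steps.nil)))))) (nat_lit 45) (nat_lit 4),
  Rule.mk (nat_lit 1) (nat_lit 87) (Steps.fwd (nat_lit 8192) (Steps.bwd (nat_lit 4) (Steps.bwd (nat_lit 2) (Steps.fwd (nat_lit 4096) (Steps.bwd (nat_lit 3) Steps.nil))))) (nat_lit 7) (nat_lit 5),
  Rule.mk (nat_lit 13) (nat_lit 117) (Steps.fwd (nat_lit 45056) (Steps.bwd (nat_lit 12) (Steps.fwd (nat_lit 12288) (Steps.bwd (nat_lit 12) (Steps.bwd (nat_lit 3) (Steps.bwd (nat_lit 7) (Steps.fwd (nat_lit 32768) Steps.nil))))))) (nat_lit 53) (nat_lit 3),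
  Rule.mk (nat_lit 12) (nat_lit 102) (Steps.fwd (nat_lit 32768) (Steps.bwd (nat_lit 13) (Steps.bwd (nat_lit 2) (Steps.fwd (nat_lit 45056) (Steps.bwd (nat_lit 1) (Steps.fwd (nat_lit 45056) Steps.nil)))))) (nat_lit 45) (nat_lit 2),
  Rule.mk (nat_lit 14) (nat_lit 117) (Steps.bwd (nat_lit 8) (Steps.bwd (nat_lit 14) (Steps.bwd (nat_lit 4) (Steps.fwd (nat_lit 36864) (Steps.fwd (nat_lit 16384) (Steps.bwd (nat_lit 9) (Steps.fwd (nat_lit 49152) Steps.nil))))))) (nat_lit 51) (nat_lit 3),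
  Rule.mk (nat_lit 10) (nat_lit 72) (Steps.bwd (nat_lit 1) (Steps.bwd (nat_lit 8) (Steps.fwd (nat_lit 28672) (Steps.fwd (nat_lit 4096) Steps.nil)))) (nat_lit 43) (nat_lit 4),
  Rule.mk (nat_lit 14) (nat_lit 132) (Steps.bwd (nat_lit 1) (Steps.fwd (nat_lit 32768) (Steps.bwd (nat_lit 10) (Steps.bwd (nat_lit 12) (Steps.bwd (nat_lit 13) (Steps.bwd (nat_lit 7) (Steps.fwd (nat_lit 57344) (Steps.fwd (nat_lit 4096) Steps.nil)))))))) (nat_lit 47) (nat_lit 8),
  Rule.mk (nat_lit 4) (nat_lit 117) (Steps.bwd (nat_lit 10) (Steps.fwd (nat_lit 16384) (Steps.fwd (nat_lit 40960) (Steps.fwd (nat_lit 49152) (Steps.bwd (nat_lit 14) (Steps.fwd (nat_lit 28672) (Steps.bwd (nat_lit 14) Steps.nil))))))) (nat_lit 51) (nat_lit 6),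
  Rule.mk (nat_lit 11) (nat_lit 102) (Steps.bwd (nat_lit 11) (Steps.fwd (nat_lit 4096) (Steps.bwd (nat_lit 11) (Steps.fwd (nat_lit 8192) (Steps.bwd (nat_lit 14) (Steps.fwd (nat_lit 28672) Steps.nil)))))) (nat_lit 44) (nat_lit 6),
  Rule.mk (nat_lit 2) (nat_lit 102) (Steps.bwd (nat_lit 11) (Steps.fwd (nat_lit 8192) (Steps.fwd (nat_lit 53248) (Steps.fwd (nat_lit 28672) (Steps.bwd (nat_lit 11) (Steps.bwd (nat_lit 11) Steps.nil)))))) (nat_lit 44) (nat_lit 1),
  Rule.mk (nat_lit 12) (nat_lit 102) (Steps.bwd (nat_lit 12) (Steps.fwd (nat_lit 32768) (Steps.bwd (nat_lit 13) (Steps.bwd (nat_lit 2) (Steps.bwd (nat_lit 12) (Steps.bwd (nat_lit 1) Steps.nil)))))) (nat_lit 45) (nat_lit 1),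
  Rule.mk (nat_lit 2) (nat_lit 132) (Steps.bwd (nat_lit 13) (Steps.fwd (nat_lit 8192) (Steps.fwd (nat_lit 53248) (Steps.fwd (nat_lit 28672) (Steps.bwd (nat_lit 14) (Steps.fwd (nat_lit 49152) (Steps.bwd (nat_lit 9) (Steps.fwd (nat_lit 28672) Steps.nil)))))))) (nat_lit 46) (nat_lit 1),
  Rule.mk (nat_lit 12) (nat_lit 132) (Steps.bwd (nat_lit 13) (Steps.fwd (nat_lit 32768) (Steps.bwd (nat_lit 13) (Steps.bwd (nat_lit 2) (Steps.bwd (nat_lit 14) (Steps.bwd (nat_lit 1) (Steps.fwd (nat_lit 32768) (Steps.bwd (nat_lit 10) Steps.nil)))))))) (nat_lit 47) (nat_lit 3),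
  Rule.mk (nat_lit 16) (nat_lit 87) (Steps.bwd (nat_lit 8) (Steps.bwd (nat_lit 14) (Steps.fwd (nat_lit 32768) (Steps.fwd (nat_lit 57344) (Steps.bwd (nat_lit 16) Steps.nil))))) (nat_lit 34) (nat_lit 0),
  Rule.mk (nat_lit 13) (nat_lit 132) (Steps.bwd (nat_lit 1) (Steps.fwd (nat_lit 53248) (Steps.fwd (nat_lit 28672) (Steps.fwd (nat_lit 53248) (Steps.fwd (nat_lit 49152) (Steps.fwd (nat_lit 40960) (Steps.fwd (nat_lit 28672) (Steps.bwd (nat_lit 2) Steps.nil)))))))) (nat_lit 46) (nat_lit 2),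
  Rule.mk (nat_lit 3) (nat_lit 117) (Steps.bwd (nat_lit 13) (Steps.fwd (nat_lit 32768) (Steps.bwd (nat_lit 13) (Steps.bwd (nat_lit 12) (Steps.bwd (nat_lit 10) (Steps.bwd (nat_lit 4) (Steps.fwd (nat_lit 40960) Steps.nil))))))) (nat_lit 50) (nat_lit 3),
  Rule.mk (nat_lit 10) (nat_lit 72) (Steps.fwd (nat_lit 45056) (Steps.fwd (nat_lit 40960) (Steps.bwd (nat_lit 11) (Steps.bwd (nat_lit 15) Steps.nil)))) (nat_lit 36) (nat_lit 1),
  Rule.mk (nat_lit 13) (nat_lit 72) (Steps.fwd (nat_lit 49152) (Steps.bwd (nat_lit 16) (Steps.fwd (nat_lit 53248) (Steps.bwd (nat_lit 12) Steps.nil)))) (nat_lit 41) (nat_lit 4),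
  Rule.mk (nat_lit 4) (nat_lit 117) (Steps.fwd (nat_lit 4096) (Steps.fwd (nat_lit 12288) (Steps.bwd (nat_lit 2) (Steps.bwd (nat_lit 4) (Steps.bwd (nat_lit 2) (Steps.bwd (nat_lit 4) (Steps.bwd (nat_lit 2) Steps.nil))))))) (nat_lit 5) (nat_lit 1),
  Rule.mk (nat_lit 1) (nat_lit 87) (Steps.bwd (nat_lit 4) (Steps.fwd (nat_lit 4096) (Steps.bwd (nat_lit 2) (Steps.bwd (nat_lit 3) (Steps.fwd (nat_lit 8192) Steps.nil))))) (nat_lit 7) (nat_lit 0),
  Rule.mk (nat_lit 8) (nat_lit 117) (Steps.bwd (nat_lit 4) (Steps.bwd (nat_lit 11) (Steps.bwd (nat_lit 3) (Steps.fwd (nat_lit 49152) (Steps.bwd (nat_lit 11) (Steps.bwd (nat_lit 14) (Steps.bwd (nat_lit 8) Steps.nil))))))) (nat_lit 52) (nat_lit 0),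
  Rule.mk (nat_lit 14) (nat_lit 132) (Steps.bwd (nat_lit 8) (Steps.fwd (nat_lit 53248) (Steps.bwd (nat_lit 11) (Steps.fwd (nat_lit 40960) (Steps.fwd (nat_lit 28672) (Steps.bwd (nat_lit 2) (Steps.fwd (nat_lit 57344) (Steps.bwd (nat_lit 1) Steps.nil)))))))) (nat_lit 46) (nat_lit 4),
  Rule.mk (nat_lit 2) (nat_lit 132) (Steps.bwd (nat_lit 13) (Steps.bwd (nat_lit 1) (Steps.fwd (nat_lit 53248) (Steps.bwd (nat_lit 8) (Steps.bwd (nat_lit 14) (Steps.bwd (nat_lit 11) (Steps.fwd (nat_lit 40960) (Steps.bwd (nat_lit 8) Steps.nil)))))))) (nat_lit 46) (nat_lit 1),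
  Rule.mk (nat_lit 12) (nat_lit 102) (Steps.fwd (nat_lit 8192) (Steps.fwd (nat_lit 45056) (Steps.bwd (nat_lit 12) (Steps.fwd (nat_lit 32768) (Steps.fwd (nat_lit 57344) (Steps.bwd (nat_lit 2) Steps.nil)))))) (nat_lit 45) (nat_lit 6),
  Rule.mk (nat_lit 4) (nat_lit 117) (Steps.bwd (nat_lit 2) (Steps.fwd (nat_lit 12288) (Steps.bwd (nat_lit 2) (Steps.bwd (nat_lit 4) (Steps.fwd (nat_lit 4096) (Steps.fwd (nat_lit 12288) (Steps.bwd (nat_lit 2) Steps.nil))))))) (nat_lit 5) (nat_lit 1),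
  Rule.mk (nat_lit 2) (nat_lit 132) (Steps.bwd (nat_lit 14) (Steps.bwd (nat_lit 1) (Steps.fwd (nat_lit 32768) (Steps.fwd (nat_lit 36864) (Steps.fwd (nat_lit 45056) (Steps.fwd (nat_lit 57344) (Steps.bwd (nat_lit 7) (Steps.fwd (nat_lit 57344) Steps.nil)))))))) (nat_lit 47) (nat_lit 7),
  Rule.mk (nat_lit 3) (nat_lit 87) (Steps.bwd (nat_lit 1) (Steps.bwd (nat_lit 1) (Steps.bwd (nat_lit 4) (Steps.fwd (nat_lit 4096) (Steps.fwd (nat_lit 4096) Steps.nil))))) (nat_lit 7) (nat_lit 4),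
  Rule.mk (nat_lit 14) (nat_lit 132) (Steps.bwd (nat_lit 1) (Steps.fwd (nat_lit 32768) (Steps.bwd (nat_lit 10) (Steps.bwd (nat_lit 12) (Steps.fwd (nat_lit 57344) (Steps.bwd (nat_lit 7) (Steps.bwd (nat_lit 13) (Steps.bwd (nat_lit 2) Steps.nil)))))))) (nat_lit 47) (nat_lit 8),
  Rule.mk (nat_lit 4) (nat_lit 177) (Steps.bwd (nat_lit 1) (Steps.bwd (nat_lit 3) (Steps.bwd (nat_lit 2) (Steps.bwd (nat_lit 4) (Steps.fwd (nat_lit 8192) (Steps.bwd (nat_lit 3) (Steps.bwd (nat_lit 2) (Steps.bwd (nat_lit 4) (Steps.bwd (nat_lit 1) (Steps.bwd (nat_lit 3) (Steps.fwd (nat_lit 4096) Steps.nil))))))))))) (nat_lit 8) (nat_lit 2)]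
noncomputable def R_37 : List (Rule) := [Rule.mk (nat_lit 8) (nat_lit 117) (Steps.fwd (nat_lit 28672) (Steps.fwd (nat_lit 12288) (Steps.bwd (nat_lit 11) (Steps.fwd (nat_lit 16384) (Steps.fwd (nat_lit 49152) (Steps.fwd (nat_lit 49152) (Steps.bwd (nat_lit 14) Steps.nil))))))) (nat_lit 52) (nat_lit 7),
  Rule.mk (nat_lit 1) (nat_lit 117) (Steps.bwd (nat_lit 3) (Steps.bwd (nat_lit 1) (Steps.fwd (nat_lit 16384) (Steps.fwd (nat_lit 8192) (Steps.bwd (nat_lit 3) (Steps.bwd (nat_lit 1) (Steps.fwd (nat_lit 16384) Steps.nil))))))) (nat_lit 4) (nat_lit 1),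
  Rule.mk (nat_lit 2) (nat_lit 177) (Steps.bwd (nat_lit 3) (Steps.bwd (nat_lit 1) (Steps.bwd (nat_lit 4) (Steps.fwd (nat_lit 4096) (Steps.fwd (nat_lit 16384) (Steps.fwd (nat_lit 8192) (Steps.fwd (nat_lit 12288) (Steps.bwd (nat_lit 2) (Steps.bwd (nat_lit 3) (Steps.bwd (nat_lit 1) (Steps.fwd (nat_lit 12288) Steps.nil))))))))))) (nat_lit 9) (nat_lit 2),
  Rule.mk (nat_lit 11) (nat_lit 117) (Steps.bwd (nat_lit 11) (Steps.fwd (nat_lit 53248) (Steps.bwd (nat_lit 8) (Steps.fwd (nat_lit 28672) (Steps.fwd (nat_lit 12288) (Steps.fwd (nat_lit 49152) (Steps.bwd (nat_lit 3) Steps.nil))))))) (nat_lit 52) (nat_lit 4),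
  Rule.mk (nat_lit 10) (nat_lit 117) (Steps.bwd (nat_lit 3) (Steps.bwd (nat_lit 9) (Steps.fwd (nat_lit 49152) (Steps.bwd (nat_lit 14) (Steps.bwd (nat_lit 8) (Steps.bwd (nat_lit 14) (Steps.fwd (nat_lit 12288) Steps.nil))))))) (nat_lit 51) (nat_lit 7),
  Rule.mk (nat_lit 4) (nat_lit 117) (Steps.bwd (nat_lit 9) (Steps.bwd (nat_lit 3) (Steps.bwd (nat_lit 13) (Steps.bwd (nat_lit 7) (Steps.fwd (nat_lit 57344) (Steps.fwd (nat_lit 45056) (Steps.fwd (nat_lit 36864) Steps.nil))))))) (nat_lit 50) (nat_lit 1),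
  Rule.mk (nat_lit 11) (nat_lit 72) (Steps.bwd (nat_lit 9) (Steps.fwd (nat_lit 61440) (Steps.fwd (nat_lit 45056) (Steps.fwd (nat_lit 36864) Steps.nil)))) (nat_lit 37) (nat_lit 4),
  Rule.mk (nat_lit 4) (nat_lit 117) (Steps.bwd (nat_lit 9) (Steps.bwd (nat_lit 3) (Steps.fwd (nat_lit 57344) (Steps.fwd (nat_lit 32768) (Steps.bwd (nat_lit 13) (Steps.bwd (nat_lit 12) (Steps.fwd (nat_lit 36864) Steps.nil))))))) (nat_lit 50) (nat_lit 1),
  Rule.mk (nat_lit 12) (nat_lit 102) (Steps.bwd (nat_lit 12) (Steps.fwd (nat_lit 32768) (Steps.fwd (nat_lit 57344) (Steps.bwd (nat_lit 2) (Steps.fwd (nat_lit 45056) (Steps.fwd (nat_lit 8192) Steps.nil)))))) (nat_lit 45) (nat_lit 1),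
  Rule.mk (nat_lit 10) (nat_lit 117) (Steps.bwd (nat_lit 3) (Steps.bwd (nat_lit 9) (Steps.fwd (nat_lit 49152) (Steps.bwd (nat_lit 14) (Steps.bwd (nat_lit 8) (Steps.fwd (nat_lit 53248) (Steps.bwd (nat_lit 4) Steps.nil))))))) (nat_lit 51) (nat_lit 7),
  Rule.mk (nat_lit 8) (nat_lit 117) (Steps.bwd (nat_lit 14) (Steps.bwd (nat_lit 4) (Steps.bwd (nat_lit 10) (Steps.bwd (nat_lit 3) (Steps.fwd (nat_lit 40960) (Steps.fwd (nat_lit 49152) (Steps.bwd (nat_lit 14) Steps.nil))))))) (nat_lit 51) (nat_lit 4),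
  Rule.mk (nat_lit 9) (nat_lit 117) (Steps.bwd (nat_lit 3) (Steps.bwd (nat_lit 13) (Steps.bwd (nat_lit 7) (Steps.fwd (nat_lit 57344) (Steps.fwd (nat_lit 45056) (Steps.fwd (nat_lit 36864) (Steps.bwd (nat_lit 4) Steps.nil))))))) (nat_lit 50) (nat_lit 2),
  Rule.mk (nat_lit 4) (nat_lit 117) (Steps.bwd (nat_lit 11) (Steps.fwd (nat_lit 16384) (Steps.fwd (nat_lit 49152) (Steps.bwd (nat_lit 11) (Steps.bwd (nat_lit 14) (Steps.fwd (nat_lit 28672) (Steps.fwd (nat_lit 28672) Steps.nil))))))) (nat_lit 52) (nat_lit 1),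
  Rule.mk (nat_lit 2) (nat_lit 87) (Steps.bwd (nat_lit 2) (Steps.bwd (nat_lit 3) (Steps.bwd (nat_lit 1) (Steps.bwd (nat_lit 1) (Steps.bwd (nat_lit 4) Steps.nil))))) (nat_lit 7) (nat_lit 2),
  Rule.mk (nat_lit 1) (nat_lit 177) (Steps.bwd (nat_lit 4) (Steps.bwd (nat_lit 2) (Steps.fwd (nat_lit 16384) (Steps.bwd (nat_lit 1) (Steps.fwd (nat_lit 12288) (Steps.fwd (nat_lit 4096) (Steps.fwd (nat_lit 16384) (Steps.fwd (nat_lit 8192) (Steps.fwd (nat_lit 12288) (Steps.bwd (nat_lit 2) (Steps.bwd (nat_lit 3) Steps.nil))))))))))) (nat_lit 9) (nat_lit 0),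
  Rule.mk (nat_lit 2) (nat_lit 132) (Steps.bwd (nat_lit 14) (Steps.fwd (nat_lit 8192) (Steps.bwd (nat_lit 7) (Steps.bwd (nat_lit 10) (Steps.bwd (nat_lit 12) (Steps.fwd (nat_lit 57344) (Steps.bwd (nat_lit 7) (Steps.bwd (nat_lit 13) Steps.nil)))))))) (nat_lit 47) (nat_lit 7),
  Rule.mk (nat_lit 9) (nat_lit 117) (Steps.bwd (nat_lit 3) (Steps.fwd (nat_lit 57344) (Steps.bwd (nat_lit 7) (Steps.bwd (nat_lit 13) (Steps.bwd (nat_lit 12) (Steps.fwd (nat_lit 36864) (Steps.bwd (nat_lit 4) Steps.nil))))))) (nat_lit 50) (nat_lit 2),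
  Rule.mk (nat_lit 11) (nat_lit 117) (Steps.fwd (nat_lit 53248) (Steps.bwd (nat_lit 8) (Steps.bwd (nat_lit 14) (Steps.bwd (nat_lit 4) (Steps.bwd (nat_lit 10) (Steps.bwd (nat_lit 3) (Steps.fwd (nat_lit 40960) Steps.nil))))))) (nat_lit 51) (nat_lit 2),
  Rule.mk (nat_lit 14) (nat_lit 117) (Steps.bwd (nat_lit 4) (Steps.fwd (nat_lit 36864) (Steps.bwd (nat_lit 3) (Steps.fwd (nat_lit 40960) (Steps.bwd (nat_lit 11) (Steps.fwd (nat_lit 53248) (Steps.fwd (nat_lit 28672) Steps.nil))))))) (nat_lit 51) (nat_lit 5),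
  Rule.mk (nat_lit 7) (nat_lit 87) (Steps.fwd (nat_lit 57344) (Steps.bwd (nat_lit 16) (Steps.fwd (nat_lit 61440) (Steps.fwd (nat_lit 28672) (Steps.bwd (nat_lit 14) Steps.nil))))) (nat_lit 34) (nat_lit 3),
  Rule.mk (nat_lit 12) (nat_lit 117) (Steps.bwd (nat_lit 10) (Steps.bwd (nat_lit 4) (Steps.bwd (nat_lit 9) (Steps.bwd (nat_lit 3) (Steps.bwd (nat_lit 13) (Steps.bwd (nat_lit 7) (Steps.bwd (nat_lit 13) Steps.nil))))))) (nat_lit 50) (nat_lit 7),
  Rule.mk (nat_lit 9) (nat_lit 117) (Steps.fwd (nat_lit 16384) (Steps.fwd (nat_lit 57344) (Steps.fwd (nat_lit 32768) (Steps.fwd (nat_lit 57344) (Steps.bwd (nat_lit 12) (Steps.fwd (nat_lit 36864) (Steps.bwd (nat_lit 4) Steps.nil))))))) (nat_lit 50) (nat_lit 2),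
  Rule.mk (nat_lit 4) (nat_lit 117) (Steps.bwd (nat_lit 12) (Steps.fwd (nat_lit 16384) (Steps.bwd (nat_lit 7) (Steps.fwd (nat_lit 32768) (Steps.bwd (nat_lit 13) (Steps.bwd (nat_lit 12) (Steps.fwd (nat_lit 45056) Steps.nil))))))) (nat_lit 53) (nat_lit 6),
  Rule.mk (nat_lit 2) (nat_lit 87) (Steps.bwd (nat_lit 2) (Steps.bwd (nat_lit 3) (Steps.fwd (nat_lit 8192) (Steps.fwd (nat_lit 8192) (Steps.bwd (nat_lit 4) Steps.nil))))) (nat_lit 7) (nat_lit 2),
  Rule.mk (nat_lit 2) (nat_lit 132) (Steps.bwd (nat_lit 13) (Steps.bwd (nat_lit 1) (Steps.fwd (nat_lit 53248) (Steps.fwd (nat_lit 28672) (Steps.fwd (nat_lit 53248) (Steps.fwd (nat_lit 49152) (Steps.bwd (nat_lit 9) (Steps.fwd (nat_lit 28672) Steps.nil)))))))) (nat_lit 46) (nat_lit 1),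
  Rule.mk (nat_lit 13) (nat_lit 117) (Steps.bwd (nat_lit 12) (Steps.bwd (nat_lit 10) (Steps.bwd (nat_lit 4) (Steps.fwd (nat_lit 40960) (Steps.fwd (nat_lit 16384) (Steps.fwd (nat_lit 57344) (Steps.bwd (nat_lit 7) Steps.nil))))))) (nat_lit 50) (nat_lit 6),
  Rule.mk (nat_lit 4) (nat_lit 117) (Steps.bwd (nat_lit 9) (Steps.bwd (nat_lit 3) (Steps.fwd (nat_lit 57344) (Steps.fwd (nat_lit 32768) (Steps.fwd (nat_lit 57344) (Steps.bwd (nat_lit 12) (Steps.fwd (nat_lit 36864) Steps.nil))))))) (nat_lit 50) (nat_lit 1),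
  Rule.mk (nat_lit 11) (nat_lit 102) (Steps.bwd (nat_lit 11) (Steps.bwd (nat_lit 2) (Steps.fwd (nat_lit 49152) (Steps.fwd (nat_lit 8192) (Steps.fwd (nat_lit 53248) (Steps.fwd (nat_lit 28672) Steps.nil)))))) (nat_lit 44) (nat_lit 6),
  Rule.mk (nat_lit 11) (nat_lit 87) (Steps.bwd (nat_lit 7) (Steps.bwd (nat_lit 16) (Steps.fwd (nat_lit 61440) (Steps.bwd (nat_lit 12) (Steps.bwd (nat_lit 8) Steps.nil))))) (nat_lit 33) (nat_lit 5),
  Rule.mk (nat_lit 9) (nat_lit 72) (Steps.fwd (nat_lit 49152) (Steps.bwd (nat_lit 15) (Steps.fwd (nat_lit 36864) (Steps.bwd (nat_lit 12) Steps.nil)))) (nat_lit 36) (nat_lit 3),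
  Rule.mk (nat_lit 13) (nat_lit 117) (Steps.bwd (nat_lit 12) (Steps.bwd (nat_lit 10) (Steps.bwd (nat_lit 4) (Steps.fwd (nat_lit 40960) (Steps.fwd (nat_lit 16384) (Steps.fwd (nat_lit 57344) (Steps.fwd (nat_lit 32768) Steps.nil))))))) (nat_lit 50) (nat_lit 6),
  Rule.mk (nat_lit 3) (nat_lit 117) (Steps.fwd (nat_lit 40960) (Steps.bwd (nat_lit 11) (Steps.bwd (nat_lit 14) (Steps.fwd (nat_lit 28672) (Steps.fwd (nat_lit 53248) (Steps.fwd (nat_lit 12288) (Steps.bwd (nat_lit 10) Steps.nil))))))) (nat_lit 51) (nat_lit 0),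
  Rule.mk (nat_lit 1) (nat_lit 87) (Steps.fwd (nat_lit 8192) (Steps.bwd (nat_lit 3) (Steps.bwd (nat_lit 2) (Steps.bwd (nat_lit 2) (Steps.bwd (nat_lit 4) Steps.nil))))) (nat_lit 6) (nat_lit 4),
  Rule.mk (nat_lit 12) (nat_lit 117) (Steps.bwd (nat_lit 10) (Steps.fwd (nat_lit 12288) (Steps.fwd (nat_lit 40960) (Steps.bwd (nat_lit 3) (Steps.fwd (nat_lit 57344) (Steps.bwd (nat_lit 7) (Steps.fwd (nat_lit 57344) Steps.nil))))))) (nat_lit 50) (nat_lit 7),
  Rule.mk (nat_lit 1) (nat_lit 87) (Steps.bwd (nat_lit 3) (Steps.fwd (nat_lit 4096) (Steps.bwd (nat_lit 2) (Steps.bwd (nat_lit 4) (Steps.fwd (nat_lit 8192) Steps.nil))))) (nat_lit 6) (nat_lit 5),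
  Rule.mk (nat_lit 9) (nat_lit 117) (Steps.bwd (nat_lit 3) (Steps.fwd (nat_lit 57344) (Steps.fwd (nat_lit 32768) (Steps.bwd (nat_lit 13) (Steps.fwd (nat_lit 45056) (Steps.bwd (nat_lit 10) (Steps.bwd (nat_lit 4) Steps.nil))))))) (nat_lit 50) (nat_lit 2),
  Rule.mk (nat_lit 4) (nat_lit 117) (Steps.bwd (nat_lit 10) (Steps.bwd (nat_lit 3) (Steps.bwd (nat_lit 9) (Steps.fwd (nat_lit 49152) (Steps.fwd (nat_lit 53248) (Steps.bwd (nat_lit 8) (Steps.bwd (nat_lit 14) Steps.nil))))))) (nat_lit 51) (nat_lit 6),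
  Rule.mk (nat_lit 7) (nat_lit 72) (Steps.bwd (nat_lit 15) (Steps.fwd (nat_lit 36864) (Steps.fwd (nat_lit 28672) (Steps.bwd (nat_lit 9) Steps.nil)))) (nat_lit 18) (nat_lit 0),
  Rule.mk (nat_lit 2) (nat_lit 87) (Steps.bwd (nat_lit 3) (Steps.fwd (nat_lit 8192) (Steps.bwd (nat_lit 1) (Steps.bwd (nat_lit 4) (Steps.fwd (nat_lit 4096) Steps.nil))))) (nat_lit 7) (nat_lit 3),
  Rule.mk (nat_lit 11) (nat_lit 117) (Steps.bwd (nat_lit 3) (Steps.bwd (nat_lit 11) (Steps.fwd (nat_lit 49152) (Steps.fwd (nat_lit 53248) (Steps.bwd (nat_lit 8) (Steps.bwd (nat_lit 8) (Steps.bwd (nat_lit 4) Steps.nil))))))) (nat_lit 52) (nat_lit 2),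
  Rule.mk (nat_lit 7) (nat_lit 132) (Steps.bwd (nat_lit 10) (Steps.fwd (nat_lit 45056) (Steps.bwd (nat_lit 13) (Steps.fwd (nat_lit 32768) (Steps.bwd (nat_lit 13) (Steps.bwd (nat_lit 2) (Steps.bwd (nat_lit 14) (Steps.fwd (nat_lit 8192) Steps.nil)))))))) (nat_lit 47) (nat_lit 1),
  Rule.mk (nat_lit 7) (nat_lit 132) (Steps.bwd (nat_lit 10) (Steps.bwd (nat_lit 12) (Steps.fwd (nat_lit 57344) (Steps.bwd (nat_lit 7) (Steps.fwd (nat_lit 57344) (Steps.bwd (nat_lit 2) (Steps.bwd (nat_lit 14) (Steps.bwd (nat_lit 1) Steps.nil)))))))) (nat_lit 47) (nat_lit 1),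
  Rule.mk (nat_lit 2) (nat_lit 102) (Steps.bwd (nat_lit 11) (Steps.bwd (nat_lit 1) (Steps.fwd (nat_lit 53248) (Steps.fwd (nat_lit 28672) (Steps.fwd (nat_lit 49152) (Steps.fwd (nat_lit 49152) Steps.nil)))))) (nat_lit 44) (nat_lit 1),
  Rule.mk (nat_lit 12) (nat_lit 117) (Steps.bwd (nat_lit 10) (Steps.bwd (nat_lit 4) (Steps.fwd (nat_lit 40960) (Steps.fwd (nat_lit 16384) (Steps.fwd (nat_lit 57344) (Steps.fwd (nat_lit 32768) (Steps.bwd (nat_lit 13) Steps.nil))))))) (nat_lit 50) (nat_lit 7),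
  Rule.mk (nat_lit 11) (nat_lit 102) (Steps.bwd (nat_lit 2) (Steps.bwd (nat_lit 11) (Steps.fwd (nat_lit 8192) (Steps.bwd (nat_lit 14) (Steps.bwd (nat_lit 8) (Steps.fwd (nat_lit 49152) Steps.nil)))))) (nat_lit 44) (nat_lit 0),
  Rule.mk (nat_lit 13) (nat_lit 117) (Steps.bwd (nat_lit 12) (Steps.bwd (nat_lit 12) (Steps.bwd (nat_lit 4) (Steps.bwd (nat_lit 12) (Steps.fwd (nat_lit 16384) (Steps.fwd (nat_lit 32768) (Steps.fwd (nat_lit 32768) Steps.nil))))))) (nat_lit 53) (nat_lit 3),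
  Rule.mk (nat_lit 1) (nat_lit 87) (Steps.bwd (nat_lit 4) (Steps.bwd (nat_lit 2) (Steps.fwd (nat_lit 4096) (Steps.bwd (nat_lit 3) (Steps.fwd (nat_lit 8192) Steps.nil))))) (nat_lit 7) (nat_lit 0),
  Rule.mk (nat_lit 14) (nat_lit 117) (Steps.bwd (nat_lit 4) (Steps.bwd (nat_lit 10) (Steps.bwd (nat_lit 3) (Steps.bwd (nat_lit 9) (Steps.fwd (nat_lit 49152) (Steps.bwd (nat_lit 14) (Steps.bwd (nat_lit 8) Steps.nil))))))) (nat_lit 51) (nat_lit 5),
  Rule.mk (nat_lit 11) (nat_lit 117) (Steps.bwd (nat_lit 3) (Steps.fwd (nat_lit 49152) (Steps.bwd (nat_lit 11) (Steps.bwd (nat_lit 14) (Steps.fwd (nat_lit 28672) (Steps.bwd (nat_lit 8) (Steps.bwd (nat_lit 4) Steps.nil))))))) (nat_lit 52) (nat_lit 2),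
  Rule.mk (nat_lit 12) (nat_lit 117) (Steps.bwd (nat_lit 3) (Steps.fwd (nat_lit 32768) (Steps.fwd (nat_lit 32768) (Steps.fwd (nat_lit 57344) (Steps.fwd (nat_lit 45056) (Steps.bwd (nat_lit 12) (Steps.bwd (nat_lit 4) Steps.nil))))))) (nat_lit 53) (nat_lit 7),
  Rule.mk (nat_lit 2) (nat_lit 102) (Steps.fwd (nat_lit 45056) (Steps.fwd (nat_lit 8192) (Steps.bwd (nat_lit 12) (Steps.fwd (nat_lit 45056) (Steps.bwd (nat_lit 7) (Steps.bwd (nat_lit 13) Steps.nil)))))) (nat_lit 45) (nat_lit 5),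
  Rule.mk (nat_lit 10) (nat_lit 117) (Steps.bwd (nat_lit 4) (Steps.bwd (nat_lit 9) (Steps.bwd (nat_lit 3) (Steps.fwd (nat_lit 57344) (Steps.fwd (nat_lit 32768) (Steps.bwd (nat_lit 13) (Steps.bwd (nat_lit 12) Steps.nil))))))) (nat_lit 50) (nat_lit 0),
  Rule.mk (nat_lit 13) (nat_lit 72) (Steps.fwd (nat_lit 65536) (Steps.fwd (nat_lit 45056) (Steps.fwd (nat_lit 53248) (Steps.bwd (nat_lit 11) Steps.nil)))) (nat_lit 40) (nat_lit 4),
  Rule.mk (nat_lit 11) (nat_lit 102) (Steps.bwd (nat_lit 2) (Steps.fwd (nat_lit 49152) (Steps.fwd (nat_lit 8192) (Steps.fwd (nat_lit 53248) (Steps.bwd (nat_lit 8) (Steps.bwd (nat_lit 11) Steps.nil)))))) (nat_lit 44) (nat_lit 0),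
  Rule.mk (nat_lit 14) (nat_lit 102) (Steps.fwd (nat_lit 28672) (Steps.fwd (nat_lit 49152) (Steps.fwd (nat_lit 49152) (Steps.bwd (nat_lit 2) (Steps.bwd (nat_lit 11) (Steps.bwd (nat_lit 1) Steps.nil)))))) (nat_lit 44) (nat_lit 4),
  Rule.mk (nat_lit 11) (nat_lit 117) (Steps.bwd (nat_lit 14) (Steps.bwd (nat_lit 8) (Steps.fwd (nat_lit 53248) (Steps.fwd (nat_lit 12288) (Steps.bwd (nat_lit 10) (Steps.fwd (nat_lit 16384) (Steps.bwd (nat_lit 9) Steps.nil))))))) (nat_lit 51) (nat_lit 2),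
  Rule.mk (nat_lit 1) (nat_lit 132) (Steps.bwd (nat_lit 14) (Steps.bwd (nat_lit 8) (Steps.fwd (nat_lit 53248) (Steps.fwd (nat_lit 49152) (Steps.bwd (nat_lit 9) (Steps.bwd (nat_lit 8) (Steps.bwd (nat_lit 2) (Steps.fwd (nat_lit 57344) Steps.nil)))))))) (nat_lit 46) (nat_lit 3),
  Rule.mk (nat_lit 9) (nat_lit 72) (Steps.bwd (nat_lit 7) (Steps.bwd (nat_lit 15) (Steps.fwd (nat_lit 36864) (Steps.fwd (nat_lit 28672) Steps.nil)))) (nat_lit 18) (nat_lit 4),
  Rule.mk (nat_lit 3) (nat_lit 117) (Steps.bwd (nat_lit 7) (Steps.fwd (nat_lit 32768) (Steps.fwd (nat_lit 57344) (Steps.bwd (nat_lit 12) (Steps.fwd (nat_lit 45056) (Steps.fwd (nat_lit 12288) (Steps.fwd (nat_lit 45056) Steps.nil))))))) (nat_lit 53) (nat_lit 0),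
  Rule.mk (nat_lit 2) (nat_lit 87) (Steps.fwd (nat_lit 4096) (Steps.bwd (nat_lit 4) (Steps.fwd (nat_lit 8192) (Steps.bwd (nat_lit 1) (Steps.bwd (nat_lit 3) Steps.nil))))) (nat_lit 6) (nat_lit 1),
  Rule.mk (nat_lit 9) (nat_lit 117) (Steps.bwd (nat_lit 11) (Steps.fwd (nat_lit 53248) (Steps.bwd (nat_lit 8) (Steps.fwd (nat_lit 53248) (Steps.fwd (nat_lit 12288) (Steps.fwd (nat_lit 36864) (Steps.bwd (nat_lit 3) Steps.nil))))))) (nat_lit 51) (nat_lit 1),
  Rule.mk (nat_lit 1) (nat_lit 102) (Steps.bwd (nat_lit 12) (Steps.fwd (nat_lit 45056) (Steps.bwd (nat_lit 7) (Steps.fwd (nat_lit 57344) (Steps.bwd (nat_lit 2) (Steps.fwd (nat_lit 45056) Steps.nil)))))) (nat_lit 45) (nat_lit 0),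
  Rule.mk (nat_lit 1) (nat_lit 87) (Steps.bwd (nat_lit 1) (Steps.bwd (nat_lit 4) (Steps.fwd (nat_lit 4096) (Steps.bwd (nat_lit 2) (Steps.bwd (nat_lit 3) Steps.nil))))) (nat_lit 7) (nat_lit 5),
  Rule.mk (nat_lit 4) (nat_lit 87) (Steps.bwd (nat_lit 2) (Steps.fwd (nat_lit 4096) (Steps.fwd (nat_lit 16384) (Steps.bwd (nat_lit 1) (Steps.bwd (nat_lit 1) Steps.nil))))) (nat_lit 7) (nat_lit 1)]
noncomputable def R_38 : List (Rule) := [Rule.mk (nat_lit 12) (nat_lit 72) (Steps.bwd (nat_lit 14) (Steps.bwd (nat_lit 11) (Steps.fwd (nat_lit 57344) (Steps.bwd (nat_lit 15) Steps.nil)))) (nat_lit 40) (nat_lit 1),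
  Rule.mk (nat_lit 11) (nat_lit 117) (Steps.bwd (nat_lit 14) (Steps.bwd (nat_lit 8) (Steps.fwd (nat_lit 28672) (Steps.bwd (nat_lit 4) (Steps.bwd (nat_lit 11) (Steps.bwd (nat_lit 3) (Steps.bwd (nat_lit 11) Steps.nil))))))) (nat_lit 52) (nat_lit 5),
  Rule.mk (nat_lit 1) (nat_lit 102) (Steps.fwd (nat_lit 53248) (Steps.bwd (nat_lit 8) (Steps.bwd (nat_lit 11) (Steps.fwd (nat_lit 49152) (Steps.fwd (nat_lit 4096) (Steps.bwd (nat_lit 11) Steps.nil)))))) (nat_lit 44) (nat_lit 3),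
  Rule.mk (nat_lit 9) (nat_lit 72) (Steps.bwd (nat_lit 1) (Steps.bwd (nat_lit 7) (Steps.bwd (nat_lit 7) (Steps.fwd (nat_lit 4096) Steps.nil)))) (nat_lit 42) (nat_lit 2),
  Rule.mk (nat_lit 14) (nat_lit 132) (Steps.bwd (nat_lit 1) (Steps.bwd (nat_lit 7) (Steps.bwd (nat_lit 10) (Steps.fwd (nat_lit 45056) (Steps.bwd (nat_lit 13) (Steps.fwd (nat_lit 32768) (Steps.fwd (nat_lit 57344) (Steps.fwd (nat_lit 4096) Steps.nil)))))))) (nat_lit 47) (nat_lit 8),
  Rule.mk (nat_lit 9) (nat_lit 117) (Steps.fwd (nat_lit 49152) (Steps.bwd (nat_lit 14) (Steps.bwd (nat_lit 8) (Steps.fwd (nat_lit 53248) (Steps.fwd (nat_lit 12288) (Steps.fwd (nat_lit 36864) (Steps.bwd (nat_lit 3) Steps.nil))))))) (nat_lit 51) (nat_lit 1),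
  Rule.mk (nat_lit 16) (nat_lit 72) (Steps.bwd (nat_lit 14) (Steps.fwd (nat_lit 45056) (Steps.fwd (nat_lit 57344) (Steps.bwd (nat_lit 11) Steps.nil)))) (nat_lit 41) (nat_lit 1),
  Rule.mk (nat_lit 4) (nat_lit 117) (Steps.fwd (nat_lit 36864) (Steps.bwd (nat_lit 3) (Steps.fwd (nat_lit 40960) (Steps.fwd (nat_lit 49152) (Steps.bwd (nat_lit 14) (Steps.fwd (nat_lit 28672) (Steps.bwd (nat_lit 14) Steps.nil))))))) (nat_lit 51) (nat_lit 6),
  Rule.mk (nat_lit 1) (nat_lit 132) (Steps.bwd (nat_lit 7) (Steps.bwd (nat_lit 10) (Steps.fwd (nat_lit 45056) (Steps.bwd (nat_lit 13) (Steps.fwd (nat_lit 32768) (Steps.bwd (nat_lit 13) (Steps.bwd (nat_lit 2) (Steps.bwd (nat_lit 14) Steps.nil)))))))) (nat_lit 47) (nat_lit 0),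
  Rule.mk (nat_lit 10) (nat_lit 72) (Steps.bwd (nat_lit 1) (Steps.fwd (nat_lit 28672) (Steps.bwd (nat_lit 8) (Steps.fwd (nat_lit 4096) Steps.nil)))) (nat_lit 43) (nat_lit 4),
  Rule.mk (nat_lit 11) (nat_lit 102) (Steps.bwd (nat_lit 1) (Steps.fwd (nat_lit 53248) (Steps.bwd (nat_lit 8) (Steps.fwd (nat_lit 49152) (Steps.fwd (nat_lit 49152) (Steps.bwd (nat_lit 2) Steps.nil)))))) (nat_lit 44) (nat_lit 2),
  Rule.mk (nat_lit 3) (nat_lit 117) (Steps.bwd (nat_lit 1) (Steps.bwd (nat_lit 3) (Steps.bwd (nat_lit 1) (Steps.bwd (nat_lit 3) (Steps.fwd (nat_lit 8192) (Steps.fwd (nat_lit 16384) (Steps.fwd (nat_lit 8192) Steps.nil))))))) (nat_lit 4) (nat_lit 0),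
  Rule.mk (nat_lit 4) (nat_lit 177) (Steps.bwd (nat_lit 1) (Steps.bwd (nat_lit 3) (Steps.fwd (nat_lit 4096) (Steps.fwd (nat_lit 12288) (Steps.bwd (nat_lit 1) (Steps.bwd (nat_lit 3) (Steps.fwd (nat_lit 4096) (Steps.bwd (nat_lit 4) (Steps.bwd (nat_lit 1) (Steps.fwd (nat_lit 16384) (Steps.bwd (nat_lit 2) Steps.nil))))))))))) (nat_lit 8) (nat_lit 2),
  Rule.mk (nat_lit 13) (nat_lit 132) (Steps.bwd (nat_lit 1) (Steps.bwd (nat_lit 14) (Steps.bwd (nat_lit 8) (Steps.bwd (nat_lit 14) (Steps.fwd (nat_lit 49152) (Steps.fwd (nat_lit 40960) (Steps.bwd (nat_lit 8) (Steps.bwd (nat_lit 2) Steps.nil)))))))) (nat_lit 46) (nat_lit 2),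
  Rule.mk (nat_lit 7) (nat_lit 87) (Steps.fwd (nat_lit 65536) (Steps.fwd (nat_lit 65536) (Steps.bwd (nat_lit 14) (Steps.bwd (nat_lit 8) (Steps.bwd (nat_lit 13) Steps.nil))))) (nat_lit 35) (nat_lit 0),
  Rule.mk (nat_lit 3) (nat_lit 117) (Steps.bwd (nat_lit 7) (Steps.bwd (nat_lit 7) (Steps.fwd (nat_lit 57344) (Steps.fwd (nat_lit 45056) (Steps.fwd (nat_lit 45056) (Steps.fwd (nat_lit 12288) (Steps.fwd (nat_lit 45056) Steps.nil))))))) (nat_lit 53) (nat_lit 0),
  Rule.mk (nat_lit 9) (nat_lit 117) (Steps.bwd (nat_lit 3) (Steps.bwd (nat_lit 13) (Steps.fwd (nat_lit 32768) (Steps.fwd (nat_lit 57344) (Steps.fwd (nat_lit 45056) (Steps.bwd (nat_lit 10) (Steps.fwd (nat_lit 12288) Steps.nil))))))) (nat_lit 50) (nat_lit 2),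
  Rule.mk (nat_lit 10) (nat_lit 117) (Steps.bwd (nat_lit 3) (Steps.fwd (nat_lit 40960) (Steps.fwd (nat_lit 49152) (Steps.fwd (nat_lit 53248) (Steps.bwd (nat_lit 8) (Steps.bwd (nat_lit 14) (Steps.fwd (nat_lit 12288) Steps.nil))))))) (nat_lit 51) (nat_lit 7),
  Rule.mk (nat_lit 12) (nat_lit 117) (Steps.bwd (nat_lit 3) (Steps.fwd (nat_lit 32768) (Steps.bwd (nat_lit 7) (Steps.fwd (nat_lit 57344) (Steps.fwd (nat_lit 45056) (Steps.bwd (nat_lit 12) (Steps.fwd (nat_lit 12288) Steps.nil))))))) (nat_lit 53) (nat_lit 7),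
  Rule.mk (nat_lit 10) (nat_lit 117) (Steps.bwd (nat_lit 3) (Steps.bwd (nat_lit 9) (Steps.bwd (nat_lit 11) (Steps.fwd (nat_lit 53248) (Steps.fwd (nat_lit 28672) (Steps.fwd (nat_lit 53248) (Steps.fwd (nat_lit 12288) Steps.nil))))))) (nat_lit 51) (nat_lit 7),
  Rule.mk (nat_lit 14) (nat_lit 117) (Steps.fwd (nat_lit 28672) (Steps.bwd (nat_lit 14) (Steps.bwd (nat_lit 4) (Steps.bwd (nat_lit 10) (Steps.bwd (nat_lit 3) (Steps.bwd (nat_lit 9) (Steps.bwd (nat_lit 11) Steps.nil))))))) (nat_lit 51) (nat_lit 3),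
  Rule.mk (nat_lit 2) (nat_lit 102) (Steps.bwd (nat_lit 11) (Steps.bwd (nat_lit 1) (Steps.bwd (nat_lit 14) (Steps.fwd (nat_lit 28672) (Steps.bwd (nat_lit 11) (Steps.bwd (nat_lit 11) Steps.nil)))))) (nat_lit 44) (nat_lit 1),
  Rule.mk (nat_lit 1) (nat_lit 102) (Steps.bwd (nat_lit 12) (Steps.bwd (nat_lit 12) (Steps.bwd (nat_lit 7) (Steps.bwd (nat_lit 13) (Steps.bwd (nat_lit 2) (Steps.bwd (nat_lit 12) Steps.nil)))))) (nat_lit 45) (nat_lit 0),
  Rule.mk (nat_lit 13) (nat_lit 117) (Steps.bwd (nat_lit 12) (Steps.bwd (nat_lit 10) (Steps.fwd (nat_lit 12288) (Steps.fwd (nat_lit 40960) (Steps.fwd (nat_lit 16384) (Steps.fwd (nat_lit 57344) (Steps.fwd (nat_lit 32768) Steps.nil))))))) (nat_lit 50) (nat_lit 6),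
  Rule.mk (nat_lit 1) (nat_lit 132) (Steps.fwd (nat_lit 32768) (Steps.fwd (nat_lit 36864) (Steps.fwd (nat_lit 45056) (Steps.bwd (nat_lit 13) (Steps.bwd (nat_lit 7) (Steps.bwd (nat_lit 13) (Steps.bwd (nat_lit 2) (Steps.bwd (nat_lit 14) Steps.nil)))))))) (nat_lit 47) (nat_lit 0),
  Rule.mk (nat_lit 2) (nat_lit 117) (Steps.bwd (nat_lit 4) (Steps.fwd (nat_lit 4096) (Steps.fwd (nat_lit 12288) (Steps.fwd (nat_lit 4096) (Steps.fwd (nat_lit 12288) (Steps.fwd (nat_lit 4096) (Steps.bwd (nat_lit 4) Steps.nil))))))) (nat_lit 5) (nat_lit 0),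
  Rule.mk (nat_lit 10) (nat_lit 117) (Steps.bwd (nat_lit 4) (Steps.fwd (nat_lit 40960) (Steps.fwd (nat_lit 16384) (Steps.bwd (nat_lit 13) (Steps.fwd (nat_lit 32768) (Steps.fwd (nat_lit 57344) (Steps.bwd (nat_lit 12) Steps.nil))))))) (nat_lit 50) (nat_lit 0),
  Rule.mk (nat_lit 14) (nat_lit 117) (Steps.fwd (nat_lit 12288) (Steps.bwd (nat_lit 10) (Steps.bwd (nat_lit 3) (Steps.bwd (nat_lit 9) (Steps.fwd (nat_lit 49152) (Steps.bwd (nat_lit 14) (Steps.bwd (nat_lit 8) Steps.nil))))))) (nat_lit 51) (nat_lit 5),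
  Rule.mk (nat_lit 7) (nat_lit 132) (Steps.bwd (nat_lit 10) (Steps.bwd (nat_lit 12) (Steps.bwd (nat_lit 13) (Steps.bwd (nat_lit 7) (Steps.fwd (nat_lit 57344) (Steps.bwd (nat_lit 2) (Steps.fwd (nat_lit 53248) (Steps.fwd (nat_lit 8192) Steps.nil)))))))) (nat_lit 47) (nat_lit 1),
  Rule.mk (nat_lit 1) (nat_lit 87) (Steps.fwd (nat_lit 8192) (Steps.bwd (nat_lit 3) (Steps.fwd (nat_lit 4096) (Steps.bwd (nat_lit 2) (Steps.bwd (nat_lit 4) Steps.nil))))) (nat_lit 6) (nat_lit 4),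
  Rule.mk (nat_lit 2) (nat_lit 132) (Steps.fwd (nat_lit 57344) (Steps.fwd (nat_lit 8192) (Steps.fwd (nat_lit 53248) (Steps.fwd (nat_lit 28672) (Steps.bwd (nat_lit 14) (Steps.fwd (nat_lit 49152) (Steps.bwd (nat_lit 9) (Steps.bwd (nat_lit 8) Steps.nil)))))))) (nat_lit 46) (nat_lit 1),
  Rule.mk (nat_lit 3) (nat_lit 177) (Steps.bwd (nat_lit 2) (Steps.fwd (nat_lit 12288) (Steps.fwd (nat_lit 8192) (Steps.bwd (nat_lit 3) (Steps.bwd (nat_lit 2) (Steps.fwd (nat_lit 12288) (Steps.bwd (nat_lit 1) (Steps.bwd (nat_lit 3) (Steps.bwd (nat_lit 2) (Steps.bwd (nat_lit 4) (Steps.bwd (nat_lit 1) Steps.nil))))))))))) (nat_lit 8) (nat_lit 0),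
  Rule.mk (nat_lit 8) (nat_lit 117) (Steps.bwd (nat_lit 14) (Steps.bwd (nat_lit 4) (Steps.bwd (nat_lit 10) (Steps.fwd (nat_lit 16384) (Steps.bwd (nat_lit 9) (Steps.fwd (nat_lit 49152) (Steps.fwd (nat_lit 53248) Steps.nil))))))) (nat_lit 51) (nat_lit 4),
  Rule.mk (nat_lit 15) (nat_lit 57) (Steps.fwd (nat_lit 32768) (Steps.bwd (nat_lit 16) (Steps.bwd (nat_lit 8) Steps.nil))) (nat_lit 25) (nat_lit 3),
  Rule.mk (nat_lit 11) (nat_lit 117) (Steps.bwd (nat_lit 3) (Steps.fwd (nat_lit 49152) (Steps.fwd (nat_lit 49152) (Steps.bwd (nat_lit 14) (Steps.fwd (nat_lit 28672) (Steps.bwd (nat_lit 8) (Steps.bwd (nat_lit 4) Steps.nil))))))) (nat_lit 52) (nat_lit 2),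
  Rule.mk (nat_lit 11) (nat_lit 102) (Steps.bwd (nat_lit 11) (Steps.bwd (nat_lit 2) (Steps.bwd (nat_lit 11) (Steps.bwd (nat_lit 1) (Steps.fwd (nat_lit 53248) (Steps.fwd (nat_lit 28672) Steps.nil)))))) (nat_lit 44) (nat_lit 6),
  Rule.mk (nat_lit 2) (nat_lit 87) (Steps.fwd (nat_lit 16384) (Steps.fwd (nat_lit 8192) (Steps.fwd (nat_lit 8192) (Steps.bwd (nat_lit 4) (Steps.fwd (nat_lit 4096) Steps.nil))))) (nat_lit 7) (nat_lit 3),
  Rule.mk (nat_lit 2) (nat_lit 132) (Steps.bwd (nat_lit 13) (Steps.fwd (nat_lit 8192) (Steps.bwd (nat_lit 14) (Steps.fwd (nat_lit 28672) (Steps.fwd (nat_lit 53248) (Steps.bwd (nat_lit 11) (Steps.bwd (nat_lit 9) (Steps.bwd (nat_lit 8) Steps.nil)))))))) (nat_lit 46) (nat_lit 1),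
  Rule.mk (nat_lit 2) (nat_lit 87) (Steps.fwd (nat_lit 12288) (Steps.fwd (nat_lit 8192) (Steps.bwd (nat_lit 1) (Steps.bwd (nat_lit 3) (Steps.bwd (nat_lit 2) Steps.nil))))) (nat_lit 6) (nat_lit 2),
  Rule.mk (nat_lit 3) (nat_lit 87) (Steps.bwd (nat_lit 1) (Steps.fwd (nat_lit 8192) (Steps.fwd (nat_lit 12288) (Steps.bwd (nat_lit 2) (Steps.fwd (nat_lit 4096) Steps.nil))))) (nat_lit 7) (nat_lit 4),
  Rule.mk (nat_lit 13) (nat_lit 87) (Steps.bwd (nat_lit 7) (Steps.bwd (nat_lit 15) (Steps.fwd (nat_lit 65536) (Steps.bwd (nat_lit 14) (Steps.fwd (nat_lit 28672) Steps.nil))))) (nat_lit 35) (nat_lit 5),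
  Rule.mk (nat_lit 3) (nat_lit 87) (Steps.bwd (nat_lit 2) (Steps.bwd (nat_lit 2) (Steps.bwd (nat_lit 4) (Steps.bwd (nat_lit 1) (Steps.fwd (nat_lit 8192) Steps.nil))))) (nat_lit 6) (nat_lit 0),
  Rule.mk (nat_lit 2) (nat_lit 87) (Steps.bwd (nat_lit 2) (Steps.bwd (nat_lit 3) (Steps.fwd (nat_lit 8192) (Steps.fwd (nat_lit 8192) (Steps.fwd (nat_lit 12288) Steps.nil))))) (nat_lit 7) (nat_lit 2),
  Rule.mk (nat_lit 12) (nat_lit 102) (Steps.fwd (nat_lit 8192) (Steps.bwd (nat_lit 12) (Steps.fwd (nat_lit 45056) (Steps.fwd (nat_lit 32768) (Steps.fwd (nat_lit 57344) (Steps.bwd (nat_lit 2) Steps.nil)))))) (nat_lit 45) (nat_lit 6),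
  Rule.mk (nat_lit 11) (nat_lit 102) (Steps.fwd (nat_lit 8192) (Steps.bwd (nat_lit 14) (Steps.fwd (nat_lit 28672) (Steps.bwd (nat_lit 11) (Steps.bwd (nat_lit 11) (Steps.bwd (nat_lit 2) Steps.nil)))))) (nat_lit 44) (nat_lit 2),
  Rule.mk (nat_lit 12) (nat_lit 102) (Steps.fwd (nat_lit 8192) (Steps.fwd (nat_lit 45056) (Steps.bwd (nat_lit 12) (Steps.bwd (nat_lit 7) (Steps.bwd (nat_lit 13) (Steps.bwd (nat_lit 2) Steps.nil)))))) (nat_lit 45) (nat_lit 6),
  Rule.mk (nat_lit 2) (nat_lit 87) (Steps.bwd (nat_lit 3) (Steps.bwd (nat_lit 1) (Steps.fwd (nat_lit 8192) (Steps.fwd (nat_lit 12288) (Steps.fwd (nat_lit 4096) Steps.nil))))) (nat_lit 7) (nat_lit 3),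
  Rule.mk (nat_lit 3) (nat_lit 177) (Steps.bwd (nat_lit 2) (Steps.fwd (nat_lit 12288) (Steps.fwd (nat_lit 8192) (Steps.fwd (nat_lit 16384) (Steps.fwd (nat_lit 4096) (Steps.bwd (nat_lit 4) (Steps.bwd (nat_lit 1) (Steps.fwd (nat_lit 16384) (Steps.fwd (nat_lit 4096) (Steps.fwd (nat_lit 12288) (Steps.bwd (nat_lit 1) Steps.nil))))))))))) (nat_lit 8) (nat_lit 0),
  Rule.mk (nat_lit 12) (nat_lit 117) (Steps.bwd (nat_lit 3) (Steps.bwd (nat_lit 7) (Steps.bwd (nat_lit 7) (Steps.fwd (nat_lit 57344) (Steps.fwd (nat_lit 45056) (Steps.bwd (nat_lit 12) (Steps.fwd (nat_lit 12288) Steps.nil))))))) (nat_lit 53) (nat_lit 7),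
  Rule.mk (nat_lit 7) (nat_lit 102) (Steps.fwd (nat_lit 57344) (Steps.bwd (nat_lit 2) (Steps.bwd (nat_lit 12) (Steps.fwd (nat_lit 8192) (Steps.bwd (nat_lit 12) (Steps.bwd (nat_lit 12) Steps.nil)))))) (nat_lit 45) (nat_lit 3),
  Rule.mk (nat_lit 8) (nat_lit 117) (Steps.bwd (nat_lit 14) (Steps.bwd (nat_lit 4) (Steps.bwd (nat_lit 10) (Steps.fwd (nat_lit 16384) (Steps.bwd (nat_lit 9) (Steps.fwd (nat_lit 49152) (Steps.bwd (nat_lit 14) Steps.nil))))))) (nat_lit 51) (nat_lit 4),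
  Rule.mk (nat_lit 2) (nat_lit 177) (Steps.fwd (nat_lit 12288) (Steps.fwd (nat_lit 8192) (Steps.fwd (nat_lit 16384) (Steps.bwd (nat_lit 2) (Steps.bwd (nat_lit 4) (Steps.bwd (nat_lit 1) (Steps.fwd (nat_lit 16384) (Steps.fwd (nat_lit 4096) (Steps.fwd (nat_lit 12288) (Steps.fwd (nat_lit 8192) (Steps.bwd (nat_lit 3) Steps.nil))))))))))) (nat_lit 8) (nat_lit 1),
  Rule.mk (nat_lit 4) (nat_lit 117) (Steps.bwd (nat_lit 10) (Steps.bwd (nat_lit 3) (Steps.fwd (nat_lit 40960) (Steps.bwd (nat_lit 11) (Steps.fwd (nat_lit 53248) (Steps.fwd (nat_lit 28672) (Steps.fwd (nat_lit 53248) Steps.nil))))))) (nat_lit 51) (nat_lit 6),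
  Rule.mk (nat_lit 4) (nat_lit 117) (Steps.bwd (nat_lit 12) (Steps.bwd (nat_lit 3) (Steps.fwd (nat_lit 32768) (Steps.bwd (nat_lit 7) (Steps.bwd (nat_lit 13) (Steps.bwd (nat_lit 12) (Steps.bwd (nat_lit 12) Steps.nil))))))) (nat_lit 53) (nat_lit 6),
  Rule.mk (nat_lit 3) (nat_lit 87) (Steps.bwd (nat_lit 2) (Steps.bwd (nat_lit 2) (Steps.bwd (nat_lit 4) (Steps.fwd (nat_lit 8192) (Steps.bwd (nat_lit 1) Steps.nil))))) (nat_lit 6) (nat_lit 0),
  Rule.mk (nat_lit 13) (nat_lit 117) (Steps.bwd (nat_lit 7) (Steps.bwd (nat_lit 13) (Steps.fwd (nat_lit 45056) (Steps.fwd (nat_lit 36864) (Steps.bwd (nat_lit 4) (Steps.bwd (nat_lit 9) (Steps.bwd (nat_lit 3) Steps.nil))))))) (nat_lit 50) (nat_lit 4),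
  Rule.mk (nat_lit 4) (nat_lit 117) (Steps.bwd (nat_lit 11) (Steps.fwd (nat_lit 16384) (Steps.bwd (nat_lit 11) (Steps.fwd (nat_lit 49152) (Steps.fwd (nat_lit 53248) (Steps.bwd (nat_lit 8) (Steps.fwd (nat_lit 28672) Steps.nil))))))) (nat_lit 52) (nat_lit 1),
  Rule.mk (nat_lit 14) (nat_lit 132) (Steps.bwd (nat_lit 11) (Steps.fwd (nat_lit 40960) (Steps.fwd (nat_lit 28672) (Steps.fwd (nat_lit 4096) (Steps.bwd (nat_lit 13) (Steps.bwd (nat_lit 1) (Steps.fwd (nat_lit 53248) (Steps.bwd (nat_lit 8) Steps.nil)))))))) (nat_lit 46) (nat_lit 6),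
  Rule.mk (nat_lit 8) (nat_lit 87) (Steps.bwd (nat_lit 12) (Steps.fwd (nat_lit 32768) (Steps.bwd (nat_lit 11) (Steps.bwd (nat_lit 15) (Steps.fwd (nat_lit 65536) Steps.nil))))) (nat_lit 32) (nat_lit 1),
  Rule.mk (nat_lit 2) (nat_lit 102) (Steps.bwd (nat_lit 12) (Steps.fwd (nat_lit 8192) (Steps.bwd (nat_lit 12) (Steps.fwd (nat_lit 45056) (Steps.bwd (nat_lit 7) (Steps.fwd (nat_lit 57344) Steps.nil)))))) (nat_lit 45) (nat_lit 5),
  Rule.mk (nat_lit 3) (nat_lit 177) (Steps.fwd (nat_lit 8192) (Steps.bwd (nat_lit 4) (Steps.bwd (nat_lit 2) (Steps.fwd (nat_lit 16384) (Steps.fwd (nat_lit 8192) (Steps.bwd (nat_lit 4) (Steps.bwd (nat_lit 2) (Steps.fwd (nat_lit 16384) (Steps.fwd (nat_lit 8192) (Steps.fwd (nat_lit 12288) (Steps.bwd (nat_lit 2) Steps.nil))))))))))) (nat_lit 9) (nat_lit 3),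
  Rule.mk (nat_lit 13) (nat_lit 102) (Steps.bwd (nat_lit 2) (Steps.bwd (nat_lit 12) (Steps.fwd (nat_lit 8192) (Steps.bwd (nat_lit 12) (Steps.bwd (nat_lit 12) (Steps.bwd (nat_lit 7) Steps.nil)))))) (nat_lit 45) (nat_lit 4),
  Rule.mk (nat_lit 3) (nat_lit 177) (Steps.bwd (nat_lit 2) (Steps.fwd (nat_lit 12288) (Steps.fwd (nat_lit 8192) (Steps.bwd (nat_lit 3) (Steps.bwd (nat_lit 2) (Steps.fwd (nat_lit 12288) (Steps.fwd (nat_lit 8192) (Steps.bwd (nat_lit 3) (Steps.bwd (nat_lit 2) (Steps.bwd (nat_lit 4) (Steps.fwd (nat_lit 8192) Steps.nil))))))))))) (nat_lit 8) (nat_lit 0),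
  Rule.mk (nat_lit 4) (nat_lit 177) (Steps.bwd (nat_lit 2) (Steps.bwd (nat_lit 3) (Steps.fwd (nat_lit 8192) (Steps.bwd (nat_lit 4) (Steps.fwd (nat_lit 4096) (Steps.bwd (nat_lit 3) (Steps.fwd (nat_lit 8192) (Steps.fwd (nat_lit 12288) (Steps.bwd (nat_lit 2) (Steps.bwd (nat_lit 3) (Steps.fwd (nat_lit 8192) Steps.nil))))))))))) (nat_lit 9) (nat_lit 1)]
noncomputable def R_39 : List (Rule) := [Rule.mk (nat_lit 13) (nat_lit 132) (Steps.bwd (nat_lit 1) (Steps.bwd (nat_lit 14) (Steps.bwd (nat_lit 8) (Steps.fwd (nat_lit 53248) (Steps.bwd (nat_lit 11) (Steps.bwd (nat_lit 9) (Steps.bwd (nat_lit 8) (Steps.bwd (nat_lit 2) Steps.nil)))))))) (nat_lit 46) (nat_lit 2),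
  Rule.mk (nat_lit 10) (nat_lit 117) (Steps.bwd (nat_lit 3) (Steps.bwd (nat_lit 9) (Steps.bwd (nat_lit 11) (Steps.bwd (nat_lit 14) (Steps.bwd (nat_lit 8) (Steps.fwd (nat_lit 53248) (Steps.bwd (nat_lit 4) Steps.nil))))))) (nat_lit 51) (nat_lit 7),
  Rule.mk (nat_lit 9) (nat_lit 72) (Steps.bwd (nat_lit 16) (Steps.bwd (nat_lit 12) (Steps.fwd (nat_lit 36864) (Steps.bwd (nat_lit 11) Steps.nil)))) (nat_lit 37) (nat_lit 0),
  Rule.mk (nat_lit 4) (nat_lit 87) (Steps.bwd (nat_lit 2) (Steps.fwd (nat_lit 4096) (Steps.fwd (nat_lit 16384) (Steps.bwd (nat_lit 1) (Steps.fwd (nat_lit 8192) Steps.nil))))) (nat_lit 7) (nat_lit 1),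
  Rule.mk (nat_lit 1) (nat_lit 102) (Steps.bwd (nat_lit 14) (Steps.bwd (nat_lit 8) (Steps.bwd (nat_lit 11) (Steps.fwd (nat_lit 49152) (Steps.bwd (nat_lit 2) (Steps.fwd (nat_lit 49152) Steps.nil)))))) (nat_lit 44) (nat_lit 3),
  Rule.mk (nat_lit 1) (nat_lit 132) (Steps.fwd (nat_lit 53248) (Steps.bwd (nat_lit 8) (Steps.fwd (nat_lit 53248) (Steps.fwd (nat_lit 49152) (Steps.bwd (nat_lit 9) (Steps.bwd (nat_lit 8) (Steps.bwd (nat_lit 2) (Steps.bwd (nat_lit 13) Steps.nil)))))))) (nat_lit 46) (nat_lit 3),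
  Rule.mk (nat_lit 3) (nat_lit 117) (Steps.bwd (nat_lit 1) (Steps.bwd (nat_lit 3) (Steps.fwd (nat_lit 8192) (Steps.fwd (nat_lit 16384) (Steps.fwd (nat_lit 8192) (Steps.fwd (nat_lit 16384) (Steps.bwd (nat_lit 1) Steps.nil))))))) (nat_lit 4) (nat_lit 0),
  Rule.mk (nat_lit 11) (nat_lit 87) (Steps.fwd (nat_lit 65536) (Steps.fwd (nat_lit 65536) (Steps.bwd (nat_lit 8) (Steps.fwd (nat_lit 45056) (Steps.bwd (nat_lit 7) Steps.nil))))) (nat_lit 32) (nat_lit 4),
  Rule.mk (nat_lit 12) (nat_lit 102) (Steps.bwd (nat_lit 12) (Steps.bwd (nat_lit 7) (Steps.fwd (nat_lit 57344) (Steps.bwd (nat_lit 2) (Steps.fwd (nat_lit 45056) (Steps.bwd (nat_lit 1) Steps.nil)))))) (nat_lit 45) (nat_lit 1),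
  Rule.mk (nat_lit 14) (nat_lit 132) (Steps.bwd (nat_lit 11) (Steps.bwd (nat_lit 9) (Steps.bwd (nat_lit 8) (Steps.fwd (nat_lit 4096) (Steps.bwd (nat_lit 13) (Steps.fwd (nat_lit 8192) (Steps.fwd (nat_lit 53248) (Steps.fwd (nat_lit 28672) Steps.nil)))))))) (nat_lit 46) (nat_lit 6),
  Rule.mk (nat_lit 13) (nat_lit 87) (Steps.fwd (nat_lit 32768) (Steps.fwd (nat_lit 65536) (Steps.bwd (nat_lit 15) (Steps.bwd (nat_lit 14) (Steps.bwd (nat_lit 8) Steps.nil))))) (nat_lit 35) (nat_lit 5),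
  Rule.mk (nat_lit 4) (nat_lit 117) (Steps.bwd (nat_lit 10) (Steps.fwd (nat_lit 16384) (Steps.bwd (nat_lit 9) (Steps.bwd (nat_lit 11) (Steps.fwd (nat_lit 53248) (Steps.fwd (nat_lit 28672) (Steps.bwd (nat_lit 14) Steps.nil))))))) (nat_lit 51) (nat_lit 6),
  Rule.mk (nat_lit 9) (nat_lit 117) (Steps.fwd (nat_lit 16384) (Steps.bwd (nat_lit 13) (Steps.bwd (nat_lit 7) (Steps.bwd (nat_lit 13) (Steps.fwd (nat_lit 45056) (Steps.bwd (nat_lit 10) (Steps.bwd (nat_lit 4) Steps.nil))))))) (nat_lit 50) (nat_lit 2),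
  Rule.mk (nat_lit 3) (nat_lit 117) (Steps.bwd (nat_lit 9) (Steps.fwd (nat_lit 49152) (Steps.bwd (nat_lit 14) (Steps.fwd (nat_lit 28672) (Steps.bwd (nat_lit 14) (Steps.fwd (nat_lit 12288) (Steps.bwd (nat_lit 10) Steps.nil))))))) (nat_lit 51) (nat_lit 0),
  Rule.mk (nat_lit 14) (nat_lit 87) (Steps.bwd (nat_lit 8) (Steps.fwd (nat_lit 57344) (Steps.bwd (nat_lit 7) (Steps.bwd (nat_lit 15) (Steps.fwd (nat_lit 65536) Steps.nil))))) (nat_lit 35) (nat_lit 3),
  Rule.mk (nat_lit 2) (nat_lit 102) (Steps.bwd (nat_lit 12) (Steps.fwd (nat_lit 8192) (Steps.bwd (nat_lit 12) (Steps.fwd (nat_lit 45056) (Steps.fwd (nat_lit 32768) (Steps.fwd (nat_lit 57344) Steps.nil)))))) (nat_lit 45) (nat_lit 5),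
  Rule.mk (nat_lit 2) (nat_lit 87) (Steps.fwd (nat_lit 16384) (Steps.bwd (nat_lit 1) (Steps.fwd (nat_lit 8192) (Steps.fwd (nat_lit 12288) (Steps.bwd (nat_lit 2) Steps.nil))))) (nat_lit 7) (nat_lit 3),
  Rule.mk (nat_lit 13) (nat_lit 132) (Steps.fwd (nat_lit 8192) (Steps.bwd (nat_lit 14) (Steps.bwd (nat_lit 8) (Steps.bwd (nat_lit 14) (Steps.fwd (nat_lit 49152) (Steps.fwd (nat_lit 40960) (Steps.fwd (nat_lit 28672) (Steps.bwd (nat_lit 2) Steps.nil)))))))) (nat_lit 46) (nat_lit 2),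
  Rule.mk (nat_lit 12) (nat_lit 87) (Steps.bwd (nat_lit 7) (Steps.bwd (nat_lit 11) (Steps.bwd (nat_lit 15) (Steps.fwd (nat_lit 65536) (Steps.bwd (nat_lit 8) Steps.nil))))) (nat_lit 32) (nat_lit 2),
  Rule.mk (nat_lit 1) (nat_lit 102) (Steps.fwd (nat_lit 45056) (Steps.bwd (nat_lit 12) (Steps.fwd (nat_lit 32768) (Steps.bwd (nat_lit 13) (Steps.bwd (nat_lit 2) (Steps.bwd (nat_lit 12) Steps.nil)))))) (nat_lit 45) (nat_lit 0),
  Rule.mk (nat_lit 7) (nat_lit 87) (Steps.bwd (nat_lit 16) (Steps.bwd (nat_lit 16) (Steps.bwd (nat_lit 12) (Steps.fwd (nat_lit 28672) (Steps.bwd (nat_lit 11) Steps.nil))))) (nat_lit 33) (nat_lit 0),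
  Rule.mk (nat_lit 9) (nat_lit 132) (Steps.fwd (nat_lit 28672) (Steps.fwd (nat_lit 4096) (Steps.fwd (nat_lit 57344) (Steps.bwd (nat_lit 1) (Steps.bwd (nat_lit 14) (Steps.bwd (nat_lit 8) (Steps.fwd (nat_lit 53248) (Steps.bwd (nat_lit 11) Steps.nil)))))))) (nat_lit 46) (nat_lit 8),
  Rule.mk (nat_lit 4) (nat_lit 117) (Steps.bwd (nat_lit 9) (Steps.fwd (nat_lit 16384) (Steps.fwd (nat_lit 57344) (Steps.bwd (nat_lit 7) (Steps.bwd (nat_lit 13) (Steps.fwd (nat_lit 45056) (Steps.bwd (nat_lit 10) Steps.nil))))))) (nat_lit 50) (nat_lit 1),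
  Rule.mk (nat_lit 4) (nat_lit 87) (Steps.bwd (nat_lit 1) (Steps.bwd (nat_lit 1) (Steps.fwd (nat_lit 16384) (Steps.bwd (nat_lit 2) (Steps.fwd (nat_lit 4096) Steps.nil))))) (nat_lit 6) (nat_lit 3),
  Rule.mk (nat_lit 9) (nat_lit 117) (Steps.bwd (nat_lit 3) (Steps.fwd (nat_lit 57344) (Steps.fwd (nat_lit 32768) (Steps.fwd (nat_lit 57344) (Steps.fwd (nat_lit 45056) (Steps.fwd (nat_lit 36864) (Steps.bwd (nat_lit 4) Steps.nil))))))) (nat_lit 50) (nat_lit 2),
  Rule.mk (nat_lit 11) (nat_lit 117) (Steps.bwd (nat_lit 3) (Steps.fwd (nat_lit 49152) (Steps.fwd (nat_lit 49152) (Steps.fwd (nat_lit 53248) (Steps.fwd (nat_lit 28672) (Steps.fwd (nat_lit 28672) (Steps.bwd (nat_lit 4) Steps.nil))))))) (nat_lit 52) (nat_lit 2),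
  Rule.mk (nat_lit 4) (nat_lit 117) (Steps.bwd (nat_lit 11) (Steps.bwd (nat_lit 3) (Steps.bwd (nat_lit 11) (Steps.bwd (nat_lit 11) (Steps.bwd (nat_lit 14) (Steps.fwd (nat_lit 28672) (Steps.fwd (nat_lit 28672) Steps.nil))))))) (nat_lit 52) (nat_lit 1),
  Rule.mk (nat_lit 13) (nat_lit 132) (Steps.bwd (nat_lit 2) (Steps.bwd (nat_lit 14) (Steps.fwd (nat_lit 8192) (Steps.bwd (nat_lit 7) (Steps.bwd (nat_lit 10) (Steps.bwd (nat_lit 12) (Steps.fwd (nat_lit 57344) (Steps.fwd (nat_lit 32768) Steps.nil)))))))) (nat_lit 47) (nat_lit 6),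
  Rule.mk (nat_lit 15) (nat_lit 57) (Steps.fwd (nat_lit 53248) (Steps.fwd (nat_lit 61440) (Steps.bwd (nat_lit 13) Steps.nil))) (nat_lit 30) (nat_lit 0),
  Rule.mk (nat_lit 12) (nat_lit 117) (Steps.fwd (nat_lit 36864) (Steps.bwd (nat_lit 4) (Steps.fwd (nat_lit 40960) (Steps.fwd (nat_lit 16384) (Steps.fwd (nat_lit 57344) (Steps.fwd (nat_lit 32768) (Steps.bwd (nat_lit 13) Steps.nil))))))) (nat_lit 50) (nat_lit 7),
  Rule.mk (nat_lit 3) (nat_lit 87) (Steps.fwd (nat_lit 8192) (Steps.bwd (nat_lit 1) (Steps.fwd (nat_lit 12288) (Steps.bwd (nat_lit 2) (Steps.fwd (nat_lit 4096) Steps.nil))))) (nat_lit 7) (nat_lit 4),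
  Rule.mk (nat_lit 1) (nat_lit 177) (Steps.bwd (nat_lit 3) (Steps.bwd (nat_lit 2) (Steps.fwd (nat_lit 12288) (Steps.bwd (nat_lit 1) (Steps.bwd (nat_lit 3) (Steps.bwd (nat_lit 2) (Steps.bwd (nat_lit 4) (Steps.bwd (nat_lit 1) (Steps.bwd (nat_lit 3) (Steps.fwd (nat_lit 4096) (Steps.fwd (nat_lit 12288) Steps.nil))))))))))) (nat_lit 8) (nat_lit 3),
  Rule.mk (nat_lit 7) (nat_lit 117) (Steps.bwd (nat_lit 7) (Steps.fwd (nat_lit 57344) (Steps.fwd (nat_lit 45056) (Steps.fwd (nat_lit 45056) (Steps.fwd (nat_lit 12288) (Steps.bwd (nat_lit 12) (Steps.fwd (nat_lit 16384) Steps.nil))))))) (nat_lit 53) (nat_lit 1),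
  Rule.mk (nat_lit 13) (nat_lit 132) (Steps.bwd (nat_lit 1) (Steps.fwd (nat_lit 53248) (Steps.bwd (nat_lit 8) (Steps.fwd (nat_lit 53248) (Steps.fwd (nat_lit 49152) (Steps.fwd (nat_lit 40960) (Steps.bwd (nat_lit 8) (Steps.fwd (nat_lit 4096) Steps.nil)))))))) (nat_lit 46) (nat_lit 2),
  Rule.mk (nat_lit 7) (nat_lit 132) (Steps.bwd (nat_lit 13) (Steps.bwd (nat_lit 2) (Steps.bwd (nat_lit 14) (Steps.bwd (nat_lit 1) (Steps.fwd (nat_lit 32768) (Steps.bwd (nat_lit 10) (Steps.bwd (nat_lit 12) (Steps.fwd (nat_lit 57344) Steps.nil)))))))) (nat_lit 47) (nat_lit 5),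
  Rule.mk (nat_lit 2) (nat_lit 72) (Steps.fwd (nat_lit 40960) (Steps.fwd (nat_lit 8192) (Steps.bwd (nat_lit 7) (Steps.bwd (nat_lit 7) Steps.nil)))) (nat_lit 42) (nat_lit 1),
  Rule.mk (nat_lit 13) (nat_lit 132) (Steps.bwd (nat_lit 2) (Steps.fwd (nat_lit 53248) (Steps.fwd (nat_lit 8192) (Steps.fwd (nat_lit 32768) (Steps.fwd (nat_lit 36864) (Steps.bwd (nat_lit 12) (Steps.fwd (nat_lit 57344) (Steps.bwd (nat_lit 7) Steps.nil)))))))) (nat_lit 47) (nat_lit 6),
  Rule.mk (nat_lit 1) (nat_lit 72) (Steps.bwd (nat_lit 7) (Steps.fwd (nat_lit 32768) (Steps.bwd (nat_lit 2) (Steps.fwd (nat_lit 40960) Steps.nil)))) (nat_lit 42) (nat_lit 3),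
  Rule.mk (nat_lit 13) (nat_lit 132) (Steps.bwd (nat_lit 7) (Steps.bwd (nat_lit 13) (Steps.fwd (nat_lit 4096) (Steps.fwd (nat_lit 53248) (Steps.fwd (nat_lit 8192) (Steps.bwd (nat_lit 7) (Steps.bwd (nat_lit 10) (Steps.fwd (nat_lit 45056) Steps.nil)))))))) (nat_lit 47) (nat_lit 4),
  Rule.mk (nat_lit 10) (nat_lit 117) (Steps.bwd (nat_lit 4) (Steps.fwd (nat_lit 40960) (Steps.fwd (nat_lit 16384) (Steps.bwd (nat_lit 13) (Steps.fwd (nat_lit 32768) (Steps.bwd (nat_lit 13) (Steps.fwd (nat_lit 45056) Steps.nil))))))) (nat_lit 50) (nat_lit 0),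
  Rule.mk (nat_lit 8) (nat_lit 132) (Steps.bwd (nat_lit 14) (Steps.fwd (nat_lit 49152) (Steps.bwd (nat_lit 9) (Steps.fwd (nat_lit 28672) (Steps.fwd (nat_lit 4096) (Steps.bwd (nat_lit 13) (Steps.fwd (nat_lit 8192) (Steps.bwd (nat_lit 14) Steps.nil)))))))) (nat_lit 46) (nat_lit 5),
  Rule.mk (nat_lit 11) (nat_lit 102) (Steps.fwd (nat_lit 49152) (Steps.fwd (nat_lit 4096) (Steps.bwd (nat_lit 11) (Steps.fwd (nat_lit 8192) (Steps.bwd (nat_lit 14) (Steps.bwd (nat_lit 8) Steps.nil)))))) (nat_lit 44) (nat_lit 6),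
  Rule.mk (nat_lit 4) (nat_lit 117) (Steps.fwd (nat_lit 49152) (Steps.fwd (nat_lit 16384) (Steps.fwd (nat_lit 49152) (Steps.bwd (nat_lit 11) (Steps.fwd (nat_lit 53248) (Steps.fwd (nat_lit 28672) (Steps.bwd (nat_lit 8) Steps.nil))))))) (nat_lit 52) (nat_lit 1),
  Rule.mk (nat_lit 4) (nat_lit 117) (Steps.bwd (nat_lit 2) (Steps.fwd (nat_lit 12288) (Steps.bwd (nat_lit 2) (Steps.fwd (nat_lit 12288) (Steps.bwd (nat_lit 2) (Steps.fwd (nat_lit 12288) (Steps.bwd (nat_lit 2) Steps.nil))))))) (nat_lit 5) (nat_lit 1),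
  Rule.mk (nat_lit 13) (nat_lit 132) (Steps.bwd (nat_lit 2) (Steps.bwd (nat_lit 14) (Steps.fwd (nat_lit 8192) (Steps.bwd (nat_lit 7) (Steps.bwd (nat_lit 10) (Steps.fwd (nat_lit 45056) (Steps.fwd (nat_lit 57344) (Steps.fwd (nat_lit 32768) Steps.nil)))))))) (nat_lit 47) (nat_lit 6),
  Rule.mk (nat_lit 3) (nat_lit 177) (Steps.bwd (nat_lit 2) (Steps.fwd (nat_lit 12288) (Steps.fwd (nat_lit 8192) (Steps.fwd (nat_lit 16384) (Steps.fwd (nat_lit 4096) (Steps.bwd (nat_lit 4) (Steps.fwd (nat_lit 8192) (Steps.fwd (nat_lit 16384) (Steps.fwd (nat_lit 4096) (Steps.bwd (nat_lit 4) (Steps.bwd (nat_lit 1) Steps.nil))))))))))) (nat_lit 8) (nat_lit 0),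
  Rule.mk (nat_lit 7) (nat_lit 117) (Steps.fwd (nat_lit 32768) (Steps.bwd (nat_lit 13) (Steps.bwd (nat_lit 12) (Steps.fwd (nat_lit 45056) (Steps.fwd (nat_lit 12288) (Steps.fwd (nat_lit 45056) (Steps.bwd (nat_lit 3) Steps.nil))))))) (nat_lit 53) (nat_lit 1),
  Rule.mk (nat_lit 12) (nat_lit 117) (Steps.fwd (nat_lit 16384) (Steps.fwd (nat_lit 32768) (Steps.fwd (nat_lit 32768) (Steps.bwd (nat_lit 13) (Steps.fwd (nat_lit 45056) (Steps.bwd (nat_lit 12) (Steps.fwd (nat_lit 12288) Steps.nil))))))) (nat_lit 53) (nat_lit 7),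
  Rule.mk (nat_lit 2) (nat_lit 87) (Steps.bwd (nat_lit 4) (Steps.fwd (nat_lit 8192) (Steps.bwd (nat_lit 1) (Steps.bwd (nat_lit 3) (Steps.bwd (nat_lit 2) Steps.nil))))) (nat_lit 6) (nat_lit 2),
  Rule.mk (nat_lit 4) (nat_lit 117) (Steps.bwd (nat_lit 10) (Steps.fwd (nat_lit 16384) (Steps.bwd (nat_lit 9) (Steps.fwd (nat_lit 49152) (Steps.bwd (nat_lit 14) (Steps.bwd (nat_lit 8) (Steps.fwd (nat_lit 53248) Steps.nil))))))) (nat_lit 51) (nat_lit 6),
  Rule.mk (nat_lit 10) (nat_lit 117) (Steps.bwd (nat_lit 4) (Steps.bwd (nat_lit 9) (Steps.fwd (nat_lit 16384) (Steps.bwd (nat_lit 13) (Steps.fwd (nat_lit 32768) (Steps.fwd (nat_lit 57344) (Steps.fwd (nat_lit 45056) Steps.nil))))))) (nat_lit 50) (nat_lit 0),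
  Rule.mk (nat_lit 9) (nat_lit 72) (Steps.bwd (nat_lit 7) (Steps.bwd (nat_lit 15) (Steps.bwd (nat_lit 10) (Steps.fwd (nat_lit 28672) Steps.nil)))) (nat_lit 18) (nat_lit 4),
  Rule.mk (nat_lit 13) (nat_lit 132) (Steps.bwd (nat_lit 7) (Steps.bwd (nat_lit 13) (Steps.fwd (nat_lit 4096) (Steps.bwd (nat_lit 14) (Steps.bwd (nat_lit 1) (Steps.bwd (nat_lit 7) (Steps.bwd (nat_lit 10) (Steps.fwd (nat_lit 45056) Steps.nil)))))))) (nat_lit 47) (nat_lit 4),
  Rule.mk (nat_lit 16) (nat_lit 57) (Steps.fwd (nat_lit 53248) (Steps.bwd (nat_lit 15) (Steps.bwd (nat_lit 13) Steps.nil))) (nat_lit 31) (nat_lit 1),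
  Rule.mk (nat_lit 2) (nat_lit 102) (Steps.fwd (nat_lit 45056) (Steps.fwd (nat_lit 8192) (Steps.fwd (nat_lit 45056) (Steps.bwd (nat_lit 12) (Steps.bwd (nat_lit 7) (Steps.bwd (nat_lit 13) Steps.nil)))))) (nat_lit 45) (nat_lit 5),
  Rule.mk (nat_lit 15) (nat_lit 72) (Steps.bwd (nat_lit 12) (Steps.fwd (nat_lit 53248) (Steps.bwd (nat_lit 11) (Steps.fwd (nat_lit 57344) Steps.nil)))) (nat_lit 40) (nat_lit 0),
  Rule.mk (nat_lit 12) (nat_lit 102) (Steps.bwd (nat_lit 12) (Steps.bwd (nat_lit 7) (Steps.bwd (nat_lit 13) (Steps.fwd (nat_lit 4096) (Steps.fwd (nat_lit 45056) (Steps.bwd (nat_lit 1) Steps.nil)))))) (nat_lit 45) (nat_lit 1),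
  Rule.mk (nat_lit 11) (nat_lit 87) (Steps.bwd (nat_lit 15) (Steps.fwd (nat_lit 65536) (Steps.fwd (nat_lit 28672) (Steps.fwd (nat_lit 45056) (Steps.fwd (nat_lit 32768) Steps.nil))))) (nat_lit 32) (nat_lit 4),
  Rule.mk (nat_lit 4) (nat_lit 117) (Steps.bwd (nat_lit 11) (Steps.fwd (nat_lit 16384) (Steps.fwd (nat_lit 49152) (Steps.fwd (nat_lit 49152) (Steps.bwd (nat_lit 14) (Steps.fwd (nat_lit 28672) (Steps.bwd (nat_lit 8) Steps.nil))))))) (nat_lit 52) (nat_lit 1),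
  Rule.mk (nat_lit 8) (nat_lit 87) (Steps.fwd (nat_lit 57344) (Steps.fwd (nat_lit 32768) (Steps.bwd (nat_lit 15) (Steps.bwd (nat_lit 15) (Steps.bwd (nat_lit 14) Steps.nil))))) (nat_lit 35) (nat_lit 4),
  Rule.mk (nat_lit 14) (nat_lit 117) (Steps.bwd (nat_lit 4) (Steps.bwd (nat_lit 10) (Steps.fwd (nat_lit 16384) (Steps.bwd (nat_lit 9) (Steps.bwd (nat_lit 11) (Steps.fwd (nat_lit 53248) (Steps.fwd (nat_lit 28672) Steps.nil))))))) (nat_lit 51) (nat_lit 5),
  Rule.mk (nat_lit 1) (nat_lit 132) (Steps.bwd (nat_lit 14) (Steps.bwd (nat_lit 8) (Steps.bwd (nat_lit 14) (Steps.bwd (nat_lit 11) (Steps.bwd (nat_lit 9) (Steps.bwd (nat_lit 8) (Steps.bwd (nat_lit 2) (Steps.bwd (nat_lit 13) Steps.nil)))))))) (nat_lit 46) (nat_lit 3),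
  Rule.mk (nat_lit 11) (nat_lit 102) (Steps.bwd (nat_lit 1) (Steps.bwd (nat_lit 14) (Steps.bwd (nat_lit 8) (Steps.bwd (nat_lit 11) (Steps.fwd (nat_lit 49152) (Steps.bwd (nat_lit 2) Steps.nil)))))) (nat_lit 44) (nat_lit 2),
  Rule.mk (nat_lit 4) (nat_lit 117) (Steps.bwd (nat_lit 10) (Steps.bwd (nat_lit 3) (Steps.fwd (nat_lit 40960) (Steps.fwd (nat_lit 49152) (Steps.bwd (nat_lit 14) (Steps.fwd (nat_lit 28672) (Steps.fwd (nat_lit 53248) Steps.nil))))))) (nat_lit 51) (nat_lit 6)]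
noncomputable def R_40 : List (Rule) := [Rule.mk (nat_lit 11) (nat_lit 102) (Steps.fwd (nat_lit 8192) (Steps.bwd (nat_lit 14) (Steps.fwd (nat_lit 28672) (Steps.fwd (nat_lit 49152) (Steps.bwd (nat_lit 11) (Steps.fwd (nat_lit 4096) Steps.nil)))))) (nat_lit 44) (nat_lit 2),
  Rule.mk (nat_lit 4) (nat_lit 117) (Steps.bwd (nat_lit 11) (Steps.bwd (nat_lit 3) (Steps.bwd (nat_lit 11) (Steps.bwd (nat_lit 11) (Steps.fwd (nat_lit 53248) (Steps.bwd (nat_lit 8) (Steps.fwd (nat_lit 28672) Steps.nil))))))) (nat_lit 52) (nat_lit 1),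
  Rule.mk (nat_lit 1) (nat_lit 87) (Steps.fwd (nat_lit 8192) (Steps.fwd (nat_lit 16384) (Steps.bwd (nat_lit 2) (Steps.fwd (nat_lit 4096) (Steps.bwd (nat_lit 4) Steps.nil))))) (nat_lit 6) (nat_lit 4),
  Rule.mk (nat_lit 1) (nat_lit 102) (Steps.bwd (nat_lit 12) (Steps.bwd (nat_lit 12) (Steps.fwd (nat_lit 32768) (Steps.fwd (nat_lit 57344) (Steps.bwd (nat_lit 2) (Steps.bwd (nat_lit 12) Steps.nil)))))) (nat_lit 45) (nat_lit 0),
  Rule.mk (nat_lit 12) (nat_lit 102) (Steps.bwd (nat_lit 7) (Steps.bwd (nat_lit 13) (Steps.fwd (nat_lit 4096) (Steps.bwd (nat_lit 12) (Steps.fwd (nat_lit 8192) (Steps.bwd (nat_lit 12) Steps.nil)))))) (nat_lit 45) (nat_lit 2),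
  Rule.mk (nat_lit 2) (nat_lit 102) (Steps.bwd (nat_lit 12) (Steps.fwd (nat_lit 8192) (Steps.fwd (nat_lit 45056) (Steps.fwd (nat_lit 45056) (Steps.fwd (nat_lit 32768) (Steps.bwd (nat_lit 13) Steps.nil)))))) (nat_lit 45) (nat_lit 5),
  Rule.mk (nat_lit 15) (nat_lit 57) (Steps.fwd (nat_lit 57344) (Steps.bwd (nat_lit 16) (Steps.bwd (nat_lit 14) Steps.nil))) (nat_lit 31) (nat_lit 3),
  Rule.mk (nat_lit 2) (nat_lit 102) (Steps.bwd (nat_lit 12) (Steps.bwd (nat_lit 1) (Steps.fwd (nat_lit 45056) (Steps.fwd (nat_lit 45056) (Steps.fwd (nat_lit 32768) (Steps.fwd (nat_lit 57344) Steps.nil)))))) (nat_lit 45) (nat_lit 5),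
  Rule.mk (nat_lit 12) (nat_lit 117) (Steps.bwd (nat_lit 12) (Steps.fwd (nat_lit 12288) (Steps.fwd (nat_lit 45056) (Steps.fwd (nat_lit 16384) (Steps.fwd (nat_lit 32768) (Steps.bwd (nat_lit 7) (Steps.bwd (nat_lit 13) Steps.nil))))))) (nat_lit 53) (nat_lit 4),
  Rule.mk (nat_lit 10) (nat_lit 72) (Steps.fwd (nat_lit 49152) (Steps.fwd (nat_lit 40960) (Steps.bwd (nat_lit 16) (Steps.bwd (nat_lit 12) Steps.nil)))) (nat_lit 37) (nat_lit 3),
  Rule.mk (nat_lit 12) (nat_lit 117) (Steps.fwd (nat_lit 12288) (Steps.bwd (nat_lit 12) (Steps.fwd (nat_lit 16384) (Steps.fwd (nat_lit 32768) (Steps.bwd (nat_lit 7) (Steps.bwd (nat_lit 13) (Steps.bwd (nat_lit 12) Steps.nil))))))) (nat_lit 53) (nat_lit 5),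
  Rule.mk (nat_lit 3) (nat_lit 117) (Steps.bwd (nat_lit 13) (Steps.fwd (nat_lit 32768) (Steps.fwd (nat_lit 57344) (Steps.fwd (nat_lit 45056) (Steps.bwd (nat_lit 10) (Steps.bwd (nat_lit 4) (Steps.fwd (nat_lit 40960) Steps.nil))))))) (nat_lit 50) (nat_lit 3),
  Rule.mk (nat_lit 2) (nat_lit 132) (Steps.bwd (nat_lit 13) (Steps.fwd (nat_lit 8192) (Steps.fwd (nat_lit 53248) (Steps.bwd (nat_lit 8) (Steps.bwd (nat_lit 14) (Steps.fwd (nat_lit 49152) (Steps.fwd (nat_lit 40960) (Steps.bwd (nat_lit 8) Steps.nil)))))))) (nat_lit 46) (nat_lit 1),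
  Rule.mk (nat_lit 14) (nat_lit 117) (Steps.bwd (nat_lit 4) (Steps.bwd (nat_lit 10) (Steps.fwd (nat_lit 16384) (Steps.fwd (nat_lit 40960) (Steps.fwd (nat_lit 49152) (Steps.fwd (nat_lit 53248) (Steps.bwd (nat_lit 8) Steps.nil))))))) (nat_lit 51) (nat_lit 5),
  Rule.mk (nat_lit 11) (nat_lit 117) (Steps.bwd (nat_lit 14) (Steps.bwd (nat_lit 8) (Steps.bwd (nat_lit 8) (Steps.bwd (nat_lit 4) (Steps.fwd (nat_lit 49152) (Steps.bwd (nat_lit 3) (Steps.fwd (nat_lit 49152) Steps.nil))))))) (nat_lit 52) (nat_lit 5),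
  Rule.mk (nat_lit 1) (nat_lit 102) (Steps.bwd (nat_lit 14) (Steps.bwd (nat_lit 8) (Steps.fwd (nat_lit 49152) (Steps.fwd (nat_lit 49152) (Steps.fwd (nat_lit 4096) (Steps.fwd (nat_lit 49152) Steps.nil)))))) (nat_lit 44) (nat_lit 3),
  Rule.mk (nat_lit 9) (nat_lit 117) (Steps.bwd (nat_lit 3) (Steps.bwd (nat_lit 13) (Steps.bwd (nat_lit 7) (Steps.fwd (nat_lit 57344) (Steps.bwd (nat_lit 12) (Steps.bwd (nat_lit 10) (Steps.bwd (nat_lit 4) Steps.nil))))))) (nat_lit 50) (nat_lit 2),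
  Rule.mk (nat_lit 13) (nat_lit 117) (Steps.bwd (nat_lit 12) (Steps.bwd (nat_lit 10) (Steps.bwd (nat_lit 4) (Steps.bwd (nat_lit 9) (Steps.bwd (nat_lit 3) (Steps.bwd (nat_lit 13) (Steps.bwd (nat_lit 7) Steps.nil))))))) (nat_lit 50) (nat_lit 6),
  Rule.mk (nat_lit 12) (nat_lit 117) (Steps.bwd (nat_lit 12) (Steps.fwd (nat_lit 12288) (Steps.bwd (nat_lit 12) (Steps.bwd (nat_lit 3) (Steps.fwd (nat_lit 32768) (Steps.fwd (nat_lit 32768) (Steps.bwd (nat_lit 13) Steps.nil))))))) (nat_lit 53) (nat_lit 4),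
  Rule.mk (nat_lit 1) (nat_lit 117) (Steps.fwd (nat_lit 8192) (Steps.fwd (nat_lit 8192) (Steps.fwd (nat_lit 8192) (Steps.bwd (nat_lit 1) (Steps.bwd (nat_lit 1) (Steps.bwd (nat_lit 1) (Steps.bwd (nat_lit 1) Steps.nil))))))) (nat_lit 0) (nat_lit 0),
  Rule.mk (nat_lit 4) (nat_lit 87) (Steps.bwd (nat_lit 1) (Steps.fwd (nat_lit 8192) (Steps.fwd (nat_lit 16384) (Steps.fwd (nat_lit 4096) (Steps.bwd (nat_lit 2) Steps.nil))))) (nat_lit 6) (nat_lit 3),
  Rule.mk (nat_lit 12) (nat_lit 117) (Steps.bwd (nat_lit 10) (Steps.bwd (nat_lit 4) (Steps.bwd (nat_lit 9) (Steps.fwd (nat_lit 16384) (Steps.fwd (nat_lit 57344) (Steps.fwd (nat_lit 32768) (Steps.fwd (nat_lit 57344) Steps.nil))))))) (nat_lit 50) (nat_lit 7),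
  Rule.mk (nat_lit 11) (nat_lit 102) (Steps.bwd (nat_lit 11) (Steps.bwd (nat_lit 2) (Steps.bwd (nat_lit 11) (Steps.fwd (nat_lit 8192) (Steps.bwd (nat_lit 14) (Steps.bwd (nat_lit 8) Steps.nil)))))) (nat_lit 44) (nat_lit 6),
  Rule.mk (nat_lit 2) (nat_lit 132) (Steps.bwd (nat_lit 13) (Steps.bwd (nat_lit 1) (Steps.bwd (nat_lit 14) (Steps.bwd (nat_lit 8) (Steps.fwd (nat_lit 53248) (Steps.fwd (nat_lit 49152) (Steps.fwd (nat_lit 40960) (Steps.bwd (nat_lit 8) Steps.nil)))))))) (nat_lit 46) (nat_lit 1),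
  Rule.mk (nat_lit 13) (nat_lit 117) (Steps.bwd (nat_lit 12) (Steps.fwd (nat_lit 45056) (Steps.fwd (nat_lit 12288) (Steps.bwd (nat_lit 12) (Steps.bwd (nat_lit 3) (Steps.bwd (nat_lit 7) (Steps.bwd (nat_lit 7) Steps.nil))))))) (nat_lit 53) (nat_lit 3),
  Rule.mk (nat_lit 7) (nat_lit 117) (Steps.bwd (nat_lit 13) (Steps.bwd (nat_lit 12) (Steps.bwd (nat_lit 12) (Steps.bwd (nat_lit 4) (Steps.fwd (nat_lit 45056) (Steps.fwd (nat_lit 16384) (Steps.bwd (nat_lit 7) Steps.nil))))))) (nat_lit 53) (nat_lit 2),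
  Rule.mk (nat_lit 13) (nat_lit 102) (Steps.bwd (nat_lit 2) (Steps.bwd (nat_lit 12) (Steps.fwd (nat_lit 8192) (Steps.bwd (nat_lit 12) (Steps.fwd (nat_lit 45056) (Steps.fwd (nat_lit 32768) Steps.nil)))))) (nat_lit 45) (nat_lit 4),
  Rule.mk (nat_lit 8) (nat_lit 132) (Steps.bwd (nat_lit 2) (Steps.bwd (nat_lit 13) (Steps.fwd (nat_lit 8192) (Steps.fwd (nat_lit 53248) (Steps.bwd (nat_lit 8) (Steps.bwd (nat_lit 14) (Steps.fwd (nat_lit 49152) (Steps.bwd (nat_lit 9) Steps.nil)))))))) (nat_lit 46) (nat_lit 0),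
  Rule.mk (nat_lit 3) (nat_lit 87) (Steps.bwd (nat_lit 1) (Steps.bwd (nat_lit 1) (Steps.fwd (nat_lit 12288) (Steps.fwd (nat_lit 4096) (Steps.bwd (nat_lit 2) Steps.nil))))) (nat_lit 7) (nat_lit 4),
  Rule.mk (nat_lit 4) (nat_lit 117) (Steps.bwd (nat_lit 12) (Steps.fwd (nat_lit 16384) (Steps.bwd (nat_lit 7) (Steps.fwd (nat_lit 32768) (Steps.fwd (nat_lit 57344) (Steps.fwd (nat_lit 45056) (Steps.bwd (nat_lit 12) Steps.nil))))))) (nat_lit 53) (nat_lit 6),
  Rule.mk (nat_lit 10) (nat_lit 117) (Steps.fwd (nat_lit 16384) (Steps.bwd (nat_lit 9) (Steps.bwd (nat_lit 11) (Steps.bwd (nat_lit 14) (Steps.bwd (nat_lit 8) (Steps.bwd (nat_lit 14) (Steps.bwd (nat_lit 4) Steps.nil))))))) (nat_lit 51) (nat_lit 7),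
  Rule.mk (nat_lit 2) (nat_lit 102) (Steps.bwd (nat_lit 12) (Steps.fwd (nat_lit 8192) (Steps.fwd (nat_lit 45056) (Steps.bwd (nat_lit 12) (Steps.fwd (nat_lit 32768) (Steps.fwd (nat_lit 57344) Steps.nil)))))) (nat_lit 45) (nat_lit 5),
  Rule.mk (nat_lit 13) (nat_lit 117) (Steps.bwd (nat_lit 12) (Steps.fwd (nat_lit 36864) (Steps.bwd (nat_lit 4) (Steps.bwd (nat_lit 9) (Steps.fwd (nat_lit 16384) (Steps.fwd (nat_lit 57344) (Steps.bwd (nat_lit 7) Steps.nil))))))) (nat_lit 50) (nat_lit 6),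
  Rule.mk (nat_lit 4) (nat_lit 117) (Steps.bwd (nat_lit 12) (Steps.bwd (nat_lit 3) (Steps.fwd (nat_lit 32768) (Steps.fwd (nat_lit 32768) (Steps.fwd (nat_lit 57344) (Steps.bwd (nat_lit 12) (Steps.bwd (nat_lit 12) Steps.nil))))))) (nat_lit 53) (nat_lit 6),
  Rule.mk (nat_lit 10) (nat_lit 117) (Steps.fwd (nat_lit 16384) (Steps.fwd (nat_lit 40960) (Steps.bwd (nat_lit 11) (Steps.bwd (nat_lit 14) (Steps.fwd (nat_lit 28672) (Steps.fwd (nat_lit 53248) (Steps.bwd (nat_lit 4) Steps.nil))))))) (nat_lit 51) (nat_lit 7),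
  Rule.mk (nat_lit 13) (nat_lit 87) (Steps.bwd (nat_lit 7) (Steps.bwd (nat_lit 15) (Steps.bwd (nat_lit 15) (Steps.fwd (nat_lit 53248) (Steps.fwd (nat_lit 28672) Steps.nil))))) (nat_lit 35) (nat_lit 5),
  Rule.mk (nat_lit 12) (nat_lit 117) (Steps.bwd (nat_lit 12) (Steps.bwd (nat_lit 4) (Steps.fwd (nat_lit 45056) (Steps.bwd (nat_lit 3) (Steps.bwd (nat_lit 7) (Steps.bwd (nat_lit 7) (Steps.bwd (nat_lit 13) Steps.nil))))))) (nat_lit 53) (nat_lit 4),
  Rule.mk (nat_lit 1) (nat_lit 132) (Steps.bwd (nat_lit 14) (Steps.bwd (nat_lit 8) (Steps.bwd (nat_lit 14) (Steps.fwd (nat_lit 49152) (Steps.bwd (nat_lit 9) (Steps.bwd (nat_lit 8) (Steps.bwd (nat_lit 2) (Steps.bwd (nat_lit 13) Steps.nil)))))))) (nat_lit 46) (nat_lit 3),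
  Rule.mk (nat_lit 7) (nat_lit 87) (Steps.bwd (nat_lit 15) (Steps.fwd (nat_lit 65536) (Steps.bwd (nat_lit 14) (Steps.bwd (nat_lit 8) (Steps.bwd (nat_lit 13) Steps.nil))))) (nat_lit 35) (nat_lit 0),
  Rule.mk (nat_lit 13) (nat_lit 102) (Steps.fwd (nat_lit 4096) (Steps.bwd (nat_lit 12) (Steps.fwd (nat_lit 8192) (Steps.bwd (nat_lit 12) (Steps.bwd (nat_lit 12) (Steps.bwd (nat_lit 7) Steps.nil)))))) (nat_lit 45) (nat_lit 4),
  Rule.mk (nat_lit 12) (nat_lit 117) (Steps.bwd (nat_lit 12) (Steps.bwd (nat_lit 4) (Steps.bwd (nat_lit 12) (Steps.bwd (nat_lit 3) (Steps.bwd (nat_lit 7) (Steps.fwd (nat_lit 32768) (Steps.fwd (nat_lit 57344) Steps.nil))))))) (nat_lit 53) (nat_lit 4),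
  Rule.mk (nat_lit 7) (nat_lit 87) (Steps.fwd (nat_lit 49152) (Steps.fwd (nat_lit 65536) (Steps.bwd (nat_lit 15) (Steps.bwd (nat_lit 8) (Steps.bwd (nat_lit 12) Steps.nil))))) (nat_lit 32) (nat_lit 3),
  Rule.mk (nat_lit 1) (nat_lit 87) (Steps.fwd (nat_lit 16384) (Steps.fwd (nat_lit 4096) (Steps.bwd (nat_lit 2) (Steps.bwd (nat_lit 4) (Steps.bwd (nat_lit 1) Steps.nil))))) (nat_lit 6) (nat_lit 5),
  Rule.mk (nat_lit 1) (nat_lit 87) (Steps.bwd (nat_lit 1) (Steps.fwd (nat_lit 16384) (Steps.fwd (nat_lit 4096) (Steps.fwd (nat_lit 4096) (Steps.bwd (nat_lit 4) Steps.nil))))) (nat_lit 6) (nat_lit 4),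
  Rule.mk (nat_lit 2) (nat_lit 87) (Steps.bwd (nat_lit 4) (Steps.bwd (nat_lit 1) (Steps.fwd (nat_lit 8192) (Steps.bwd (nat_lit 3) (Steps.fwd (nat_lit 4096) Steps.nil))))) (nat_lit 6) (nat_lit 2),
  Rule.mk (nat_lit 8) (nat_lit 117) (Steps.bwd (nat_lit 4) (Steps.fwd (nat_lit 49152) (Steps.bwd (nat_lit 3) (Steps.bwd (nat_lit 11) (Steps.bwd (nat_lit 11) (Steps.bwd (nat_lit 14) (Steps.bwd (nat_lit 8) Steps.nil))))))) (nat_lit 52) (nat_lit 0),
  Rule.mk (nat_lit 11) (nat_lit 117) (Steps.bwd (nat_lit 3) (Steps.fwd (nat_lit 49152) (Steps.fwd (nat_lit 49152) (Steps.fwd (nat_lit 53248) (Steps.bwd (nat_lit 8) (Steps.bwd (nat_lit 8) (Steps.bwd (nat_lit 4) Steps.nil))))))) (nat_lit 52) (nat_lit 2),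
  Rule.mk (nat_lit 7) (nat_lit 132) (Steps.bwd (nat_lit 10) (Steps.bwd (nat_lit 12) (Steps.bwd (nat_lit 13) (Steps.bwd (nat_lit 7) (Steps.bwd (nat_lit 13) (Steps.fwd (nat_lit 4096) (Steps.fwd (nat_lit 53248) (Steps.bwd (nat_lit 1) Steps.nil)))))))) (nat_lit 47) (nat_lit 1),
  Rule.mk (nat_lit 13) (nat_lit 117) (Steps.bwd (nat_lit 12) (Steps.bwd (nat_lit 12) (Steps.fwd (nat_lit 12288) (Steps.bwd (nat_lit 12) (Steps.fwd (nat_lit 16384) (Steps.bwd (nat_lit 7) (Steps.bwd (nat_lit 7) Steps.nil))))))) (nat_lit 53) (nat_lit 3),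
  Rule.mk (nat_lit 11) (nat_lit 117) (Steps.bwd (nat_lit 14) (Steps.bwd (nat_lit 8) (Steps.fwd (nat_lit 28672) (Steps.bwd (nat_lit 4) (Steps.bwd (nat_lit 11) (Steps.fwd (nat_lit 16384) (Steps.fwd (nat_lit 49152) Steps.nil))))))) (nat_lit 52) (nat_lit 5),
  Rule.mk (nat_lit 1) (nat_lit 132) (Steps.bwd (nat_lit 14) (Steps.bwd (nat_lit 8) (Steps.fwd (nat_lit 53248) (Steps.bwd (nat_lit 11) (Steps.fwd (nat_lit 40960) (Steps.bwd (nat_lit 8) (Steps.fwd (nat_lit 4096) (Steps.bwd (nat_lit 13) Steps.nil)))))))) (nat_lit 46) (nat_lit 3),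
  Rule.mk (nat_lit 13) (nat_lit 117) (Steps.bwd (nat_lit 12) (Steps.bwd (nat_lit 12) (Steps.fwd (nat_lit 12288) (Steps.bwd (nat_lit 12) (Steps.fwd (nat_lit 16384) (Steps.fwd (nat_lit 32768) (Steps.bwd (nat_lit 7) Steps.nil))))))) (nat_lit 53) (nat_lit 3),
  Rule.mk (nat_lit 11) (nat_lit 102) (Steps.bwd (nat_lit 11) (Steps.bwd (nat_lit 2) (Steps.fwd (nat_lit 49152) (Steps.fwd (nat_lit 8192) (Steps.bwd (nat_lit 14) (Steps.fwd (nat_lit 28672) Steps.nil)))))) (nat_lit 44) (nat_lit 6),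
  Rule.mk (nat_lit 2) (nat_lit 102) (Steps.bwd (nat_lit 11) (Steps.fwd (nat_lit 8192) (Steps.fwd (nat_lit 53248) (Steps.fwd (nat_lit 28672) (Steps.fwd (nat_lit 49152) (Steps.bwd (nat_lit 11) Steps.nil)))))) (nat_lit 44) (nat_lit 1),
  Rule.mk (nat_lit 12) (nat_lit 117) (Steps.bwd (nat_lit 4) (Steps.bwd (nat_lit 12) (Steps.bwd (nat_lit 3) (Steps.bwd (nat_lit 7) (Steps.fwd (nat_lit 32768) (Steps.bwd (nat_lit 13) (Steps.bwd (nat_lit 12) Steps.nil))))))) (nat_lit 53) (nat_lit 5),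
  Rule.mk (nat_lit 11) (nat_lit 117) (Steps.bwd (nat_lit 11) (Steps.fwd (nat_lit 53248) (Steps.bwd (nat_lit 8) (Steps.fwd (nat_lit 28672) (Steps.bwd (nat_lit 4) (Steps.fwd (nat_lit 49152) (Steps.bwd (nat_lit 3) Steps.nil))))))) (nat_lit 52) (nat_lit 4),
  Rule.mk (nat_lit 8) (nat_lit 72) (Steps.bwd (nat_lit 8) (Steps.fwd (nat_lit 4096) (Steps.bwd (nat_lit 10) (Steps.fwd (nat_lit 8192) Steps.nil)))) (nat_lit 43) (nat_lit 1),
  Rule.mk (nat_lit 9) (nat_lit 132) (Steps.bwd (nat_lit 8) (Steps.fwd (nat_lit 4096) (Steps.fwd (nat_lit 57344) (Steps.fwd (nat_lit 8192) (Steps.bwd (nat_lit 14) (Steps.bwd (nat_lit 8) (Steps.bwd (nat_lit 14) (Steps.fwd (nat_lit 49152) Steps.nil)))))))) (nat_lit 46) (nat_lit 8),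
  Rule.mk (nat_lit 3) (nat_lit 117) (Steps.bwd (nat_lit 13) (Steps.bwd (nat_lit 7) (Steps.bwd (nat_lit 13) (Steps.bwd (nat_lit 12) (Steps.bwd (nat_lit 10) (Steps.fwd (nat_lit 12288) (Steps.bwd (nat_lit 9) Steps.nil))))))) (nat_lit 50) (nat_lit 3),
  Rule.mk (nat_lit 16) (nat_lit 87) (Steps.bwd (nat_lit 16) (Steps.bwd (nat_lit 8) (Steps.bwd (nat_lit 14) (Steps.bwd (nat_lit 7) (Steps.bwd (nat_lit 13) Steps.nil))))) (nat_lit 34) (nat_lit 5),
  Rule.mk (nat_lit 9) (nat_lit 117) (Steps.bwd (nat_lit 3) (Steps.bwd (nat_lit 13) (Steps.fwd (nat_lit 32768) (Steps.bwd (nat_lit 13) (Steps.fwd (nat_lit 45056) (Steps.bwd (nat_lit 10) (Steps.bwd (nat_lit 4) Steps.nil))))))) (nat_lit 50) (nat_lit 2),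
  Rule.mk (nat_lit 13) (nat_lit 117) (Steps.bwd (nat_lit 12) (Steps.bwd (nat_lit 12) (Steps.bwd (nat_lit 4) (Steps.fwd (nat_lit 45056) (Steps.bwd (nat_lit 3) (Steps.bwd (nat_lit 7) (Steps.bwd (nat_lit 7) Steps.nil))))))) (nat_lit 53) (nat_lit 3),
  Rule.mk (nat_lit 11) (nat_lit 102) (Steps.bwd (nat_lit 11) (Steps.fwd (nat_lit 4096) (Steps.bwd (nat_lit 11) (Steps.fwd (nat_lit 8192) (Steps.bwd (nat_lit 14) (Steps.bwd (nat_lit 8) Steps.nil)))))) (nat_lit 44) (nat_lit 6),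
  Rule.mk (nat_lit 4) (nat_lit 117) (Steps.bwd (nat_lit 11) (Steps.bwd (nat_lit 3) (Steps.fwd (nat_lit 49152) (Steps.fwd (nat_lit 49152) (Steps.bwd (nat_lit 14) (Steps.fwd (nat_lit 28672) (Steps.fwd (nat_lit 28672) Steps.nil))))))) (nat_lit 52) (nat_lit 1)]
noncomputable def R_41 : List (Rule) := [Rule.mk (nat_lit 13) (nat_lit 102) (Steps.bwd (nat_lit 2) (Steps.bwd (nat_lit 12) (Steps.fwd (nat_lit 8192) (Steps.fwd (nat_lit 45056) (Steps.bwd (nat_lit 12) (Steps.fwd (nat_lit 32768) Steps.nil)))))) (nat_lit 45) (nat_lit 4),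
  Rule.mk (nat_lit 4) (nat_lit 177) (Steps.bwd (nat_lit 1) (Steps.bwd (nat_lit 3) (Steps.bwd (nat_lit 2) (Steps.fwd (nat_lit 12288) (Steps.fwd (nat_lit 8192) (Steps.fwd (nat_lit 16384) (Steps.bwd (nat_lit 2) (Steps.bwd (nat_lit 4) (Steps.bwd (nat_lit 1) (Steps.fwd (nat_lit 16384) (Steps.bwd (nat_lit 2) Steps.nil))))))))))) (nat_lit 8) (nat_lit 2),
  Rule.mk (nat_lit 14) (nat_lit 117) (Steps.bwd (nat_lit 4) (Steps.fwd (nat_lit 36864) (Steps.fwd (nat_lit 16384) (Steps.bwd (nat_lit 9) (Steps.fwd (nat_lit 49152) (Steps.bwd (nat_lit 14) (Steps.bwd (nat_lit 8) Steps.nil))))))) (nat_lit 51) (nat_lit 5),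
  Rule.mk (nat_lit 13) (nat_lit 102) (Steps.bwd (nat_lit 2) (Steps.fwd (nat_lit 45056) (Steps.fwd (nat_lit 8192) (Steps.fwd (nat_lit 45056) (Steps.bwd (nat_lit 12) (Steps.fwd (nat_lit 32768) Steps.nil)))))) (nat_lit 45) (nat_lit 4),
  Rule.mk (nat_lit 9) (nat_lit 117) (Steps.bwd (nat_lit 11) (Steps.bwd (nat_lit 14) (Steps.bwd (nat_lit 8) (Steps.fwd (nat_lit 53248) (Steps.bwd (nat_lit 4) (Steps.bwd (nat_lit 10) (Steps.bwd (nat_lit 3) Steps.nil))))))) (nat_lit 51) (nat_lit 1),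
  Rule.mk (nat_lit 11) (nat_lit 117) (Steps.bwd (nat_lit 11) (Steps.bwd (nat_lit 14) (Steps.bwd (nat_lit 8) (Steps.bwd (nat_lit 8) (Steps.bwd (nat_lit 4) (Steps.fwd (nat_lit 49152) (Steps.bwd (nat_lit 3) Steps.nil))))))) (nat_lit 52) (nat_lit 4),
  Rule.mk (nat_lit 1) (nat_lit 102) (Steps.bwd (nat_lit 14) (Steps.bwd (nat_lit 8) (Steps.fwd (nat_lit 49152) (Steps.bwd (nat_lit 11) (Steps.bwd (nat_lit 2) (Steps.bwd (nat_lit 11) Steps.nil)))))) (nat_lit 44) (nat_lit 3),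
  Rule.mk (nat_lit 11) (nat_lit 102) (Steps.bwd (nat_lit 11) (Steps.fwd (nat_lit 4096) (Steps.fwd (nat_lit 49152) (Steps.fwd (nat_lit 8192) (Steps.fwd (nat_lit 53248) (Steps.bwd (nat_lit 8) Steps.nil)))))) (nat_lit 44) (nat_lit 6),
  Rule.mk (nat_lit 3) (nat_lit 117) (Steps.bwd (nat_lit 7) (Steps.bwd (nat_lit 7) (Steps.fwd (nat_lit 57344) (Steps.bwd (nat_lit 12) (Steps.fwd (nat_lit 45056) (Steps.bwd (nat_lit 4) (Steps.fwd (nat_lit 45056) Steps.nil))))))) (nat_lit 53) (nat_lit 0),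
  Rule.mk (nat_lit 2) (nat_lit 177) (Steps.bwd (nat_lit 4) (Steps.fwd (nat_lit 8192) (Steps.bwd (nat_lit 3) (Steps.bwd (nat_lit 2) (Steps.fwd (nat_lit 12288) (Steps.bwd (nat_lit 1) (Steps.fwd (nat_lit 16384) (Steps.fwd (nat_lit 4096) (Steps.bwd (nat_lit 4) (Steps.bwd (nat_lit 1) (Steps.bwd (nat_lit 3) Steps.nil))))))))))) (nat_lit 8) (nat_lit 1),
  Rule.mk (nat_lit 13) (nat_lit 102) (Steps.bwd (nat_lit 2) (Steps.bwd (nat_lit 12) (Steps.fwd (nat_lit 8192) (Steps.bwd (nat_lit 12) (Steps.fwd (nat_lit 45056) (Steps.bwd (nat_lit 7) Steps.nil)))))) (nat_lit 45) (nat_lit 4),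
  Rule.mk (nat_lit 8) (nat_lit 132) (Steps.bwd (nat_lit 2) (Steps.fwd (nat_lit 57344) (Steps.bwd (nat_lit 1) (Steps.bwd (nat_lit 14) (Steps.bwd (nat_lit 8) (Steps.fwd (nat_lit 53248) (Steps.bwd (nat_lit 11) (Steps.bwd (nat_lit 9) Steps.nil)))))))) (nat_lit 46) (nat_lit 0),
  Rule.mk (nat_lit 8) (nat_lit 102) (Steps.bwd (nat_lit 11) (Steps.bwd (nat_lit 11) (Steps.bwd (nat_lit 2) (Steps.bwd (nat_lit 11) (Steps.bwd (nat_lit 1) (Steps.fwd (nat_lit 53248) Steps.nil)))))) (nat_lit 44) (nat_lit 5),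
  Rule.mk (nat_lit 12) (nat_lit 117) (Steps.bwd (nat_lit 3) (Steps.fwd (nat_lit 32768) (Steps.fwd (nat_lit 32768) (Steps.bwd (nat_lit 13) (Steps.fwd (nat_lit 45056) (Steps.fwd (nat_lit 45056) (Steps.bwd (nat_lit 4) Steps.nil))))))) (nat_lit 53) (nat_lit 7),
  Rule.mk (nat_lit 2) (nat_lit 102) (Steps.bwd (nat_lit 12) (Steps.bwd (nat_lit 1) (Steps.bwd (nat_lit 12) (Steps.bwd (nat_lit 12) (Steps.bwd (nat_lit 7) (Steps.fwd (nat_lit 57344) Steps.nil)))))) (nat_lit 45) (nat_lit 5),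
  Rule.mk (nat_lit 2) (nat_lit 177) (Steps.bwd (nat_lit 3) (Steps.bwd (nat_lit 1) (Steps.bwd (nat_lit 4) (Steps.bwd (nat_lit 2) (Steps.bwd (nat_lit 3) (Steps.fwd (nat_lit 8192) (Steps.bwd (nat_lit 4) (Steps.fwd (nat_lit 4096) (Steps.bwd (nat_lit 3) (Steps.fwd (nat_lit 8192) (Steps.bwd (nat_lit 4) Steps.nil))))))))))) (nat_lit 9) (nat_lit 2),
  Rule.mk (nat_lit 11) (nat_lit 117) (Steps.bwd (nat_lit 14) (Steps.fwd (nat_lit 28672) (Steps.bwd (nat_lit 8) (Steps.fwd (nat_lit 12288) (Steps.fwd (nat_lit 49152) (Steps.bwd (nat_lit 3) (Steps.bwd (nat_lit 11) Steps.nil))))))) (nat_lit 52) (nat_lit 5),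
  Rule.mk (nat_lit 1) (nat_lit 132) (Steps.bwd (nat_lit 14) (Steps.fwd (nat_lit 28672) (Steps.fwd (nat_lit 53248) (Steps.bwd (nat_lit 11) (Steps.fwd (nat_lit 40960) (Steps.fwd (nat_lit 28672) (Steps.bwd (nat_lit 2) (Steps.fwd (nat_lit 57344) Steps.nil)))))))) (nat_lit 46) (nat_lit 3),
  Rule.mk (nat_lit 14) (nat_lit 117) (Steps.bwd (nat_lit 4) (Steps.bwd (nat_lit 10) (Steps.bwd (nat_lit 3) (Steps.fwd (nat_lit 40960) (Steps.bwd (nat_lit 11) (Steps.fwd (nat_lit 53248) (Steps.bwd (nat_lit 8) Steps.nil))))))) (nat_lit 51) (nat_lit 5),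
  Rule.mk (nat_lit 13) (nat_lit 117) (Steps.bwd (nat_lit 12) (Steps.fwd (nat_lit 36864) (Steps.fwd (nat_lit 12288) (Steps.fwd (nat_lit 40960) (Steps.bwd (nat_lit 3) (Steps.fwd (nat_lit 57344) (Steps.bwd (nat_lit 7) Steps.nil))))))) (nat_lit 50) (nat_lit 6),
  Rule.mk (nat_lit 10) (nat_lit 132) (Steps.bwd (nat_lit 12) (Steps.bwd (nat_lit 13) (Steps.fwd (nat_lit 32768) (Steps.fwd (nat_lit 57344) (Steps.fwd (nat_lit 4096) (Steps.fwd (nat_lit 53248) (Steps.fwd (nat_lit 8192) (Steps.bwd (nat_lit 7) Steps.nil)))))))) (nat_lit 47) (nat_lit 2),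
  Rule.mk (nat_lit 7) (nat_lit 132) (Steps.bwd (nat_lit 10) (Steps.bwd (nat_lit 12) (Steps.fwd (nat_lit 57344) (Steps.fwd (nat_lit 32768) (Steps.fwd (nat_lit 57344) (Steps.bwd (nat_lit 2) (Steps.bwd (nat_lit 14) (Steps.fwd (nat_lit 8192) Steps.nil)))))))) (nat_lit 47) (nat_lit 1),
  Rule.mk (nat_lit 13) (nat_lit 117) (Steps.bwd (nat_lit 12) (Steps.fwd (nat_lit 36864) (Steps.bwd (nat_lit 4) (Steps.fwd (nat_lit 40960) (Steps.bwd (nat_lit 3) (Steps.bwd (nat_lit 13) (Steps.fwd (nat_lit 32768) Steps.nil))))))) (nat_lit 50) (nat_lit 6),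
  Rule.mk (nat_lit 4) (nat_lit 117) (Steps.bwd (nat_lit 10) (Steps.fwd (nat_lit 16384) (Steps.bwd (nat_lit 9) (Steps.bwd (nat_lit 11) (Steps.bwd (nat_lit 14) (Steps.fwd (nat_lit 28672) (Steps.fwd (nat_lit 53248) Steps.nil))))))) (nat_lit 51) (nat_lit 6),
  Rule.mk (nat_lit 9) (nat_lit 72) (Steps.fwd (nat_lit 8192) (Steps.fwd (nat_lit 32768) (Steps.bwd (nat_lit 7) (Steps.fwd (nat_lit 4096) Steps.nil)))) (nat_lit 42) (nat_lit 2),
  Rule.mk (nat_lit 1) (nat_lit 117) (Steps.bwd (nat_lit 3) (Steps.fwd (nat_lit 8192) (Steps.fwd (nat_lit 16384) (Steps.fwd (nat_lit 8192) (Steps.bwd (nat_lit 3) (Steps.bwd (nat_lit 1) (Steps.fwd (nat_lit 16384) Steps.nil))))))) (nat_lit 4) (nat_lit 1),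
  Rule.mk (nat_lit 11) (nat_lit 117) (Steps.bwd (nat_lit 3) (Steps.fwd (nat_lit 49152) (Steps.bwd (nat_lit 11) (Steps.bwd (nat_lit 14) (Steps.bwd (nat_lit 8) (Steps.fwd (nat_lit 28672) (Steps.fwd (nat_lit 12288) Steps.nil))))))) (nat_lit 52) (nat_lit 2),
  Rule.mk (nat_lit 7) (nat_lit 87) (Steps.fwd (nat_lit 49152) (Steps.fwd (nat_lit 65536) (Steps.bwd (nat_lit 15) (Steps.fwd (nat_lit 28672) (Steps.bwd (nat_lit 12) Steps.nil))))) (nat_lit 32) (nat_lit 3),
  Rule.mk (nat_lit 12) (nat_lit 72) (Steps.bwd (nat_lit 9) (Steps.fwd (nat_lit 49152) (Steps.bwd (nat_lit 15) (Steps.fwd (nat_lit 36864) Steps.nil)))) (nat_lit 36) (nat_lit 2),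
  Rule.mk (nat_lit 4) (nat_lit 87) (Steps.fwd (nat_lit 8192) (Steps.bwd (nat_lit 1) (Steps.fwd (nat_lit 16384) (Steps.fwd (nat_lit 4096) (Steps.bwd (nat_lit 2) Steps.nil))))) (nat_lit 6) (nat_lit 3),
  Rule.mk (nat_lit 7) (nat_lit 87) (Steps.fwd (nat_lit 61440) (Steps.fwd (nat_lit 61440) (Steps.fwd (nat_lit 45056) (Steps.fwd (nat_lit 28672) (Steps.bwd (nat_lit 11) Steps.nil))))) (nat_lit 33) (nat_lit 0),
  Rule.mk (nat_lit 9) (nat_lit 132) (Steps.fwd (nat_lit 28672) (Steps.bwd (nat_lit 2) (Steps.bwd (nat_lit 13) (Steps.fwd (nat_lit 8192) (Steps.fwd (nat_lit 53248) (Steps.bwd (nat_lit 8) (Steps.bwd (nat_lit 14) (Steps.fwd (nat_lit 49152) Steps.nil)))))))) (nat_lit 46) (nat_lit 8),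
  Rule.mk (nat_lit 1) (nat_lit 87) (Steps.bwd (nat_lit 1) (Steps.fwd (nat_lit 16384) (Steps.fwd (nat_lit 4096) (Steps.fwd (nat_lit 4096) (Steps.fwd (nat_lit 12288) Steps.nil))))) (nat_lit 6) (nat_lit 4),
  Rule.mk (nat_lit 12) (nat_lit 102) (Steps.bwd (nat_lit 1) (Steps.fwd (nat_lit 45056) (Steps.bwd (nat_lit 12) (Steps.fwd (nat_lit 32768) (Steps.fwd (nat_lit 57344) (Steps.fwd (nat_lit 4096) Steps.nil)))))) (nat_lit 45) (nat_lit 6),
  Rule.mk (nat_lit 1) (nat_lit 102) (Steps.fwd (nat_lit 53248) (Steps.bwd (nat_lit 8) (Steps.fwd (nat_lit 49152) (Steps.bwd (nat_lit 11) (Steps.fwd (nat_lit 4096) (Steps.bwd (nat_lit 11) Steps.nil)))))) (nat_lit 44) (nat_lit 3),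
  Rule.mk (nat_lit 4) (nat_lit 117) (Steps.bwd (nat_lit 11) (Steps.fwd (nat_lit 16384) (Steps.bwd (nat_lit 11) (Steps.fwd (nat_lit 49152) (Steps.bwd (nat_lit 14) (Steps.fwd (nat_lit 28672) (Steps.bwd (nat_lit 8) Steps.nil))))))) (nat_lit 52) (nat_lit 1),
  Rule.mk (nat_lit 14) (nat_lit 132) (Steps.bwd (nat_lit 11) (Steps.bwd (nat_lit 9) (Steps.bwd (nat_lit 8) (Steps.fwd (nat_lit 4096) (Steps.fwd (nat_lit 57344) (Steps.bwd (nat_lit 1) (Steps.fwd (nat_lit 53248) (Steps.fwd (nat_lit 28672) Steps.nil)))))))) (nat_lit 46) (nat_lit 6),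
  Rule.mk (nat_lit 11) (nat_lit 102) (Steps.bwd (nat_lit 2) (Steps.fwd (nat_lit 49152) (Steps.fwd (nat_lit 8192) (Steps.bwd (nat_lit 14) (Steps.bwd (nat_lit 8) (Steps.fwd (nat_lit 49152) Steps.nil)))))) (nat_lit 44) (nat_lit 0),
  Rule.mk (nat_lit 2) (nat_lit 132) (Steps.bwd (nat_lit 13) (Steps.fwd (nat_lit 8192) (Steps.fwd (nat_lit 53248) (Steps.fwd (nat_lit 28672) (Steps.fwd (nat_lit 53248) (Steps.fwd (nat_lit 49152) (Steps.fwd (nat_lit 40960) (Steps.bwd (nat_lit 8) Steps.nil)))))))) (nat_lit 46) (nat_lit 1),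
  Rule.mk (nat_lit 4) (nat_lit 87) (Steps.bwd (nat_lit 1) (Steps.fwd (nat_lit 8192) (Steps.bwd (nat_lit 3) (Steps.bwd (nat_lit 2) (Steps.bwd (nat_lit 2) Steps.nil))))) (nat_lit 6) (nat_lit 3),
  Rule.mk (nat_lit 2) (nat_lit 87) (Steps.fwd (nat_lit 16384) (Steps.fwd (nat_lit 8192) (Steps.bwd (nat_lit 1) (Steps.bwd (nat_lit 4) (Steps.bwd (nat_lit 2) Steps.nil))))) (nat_lit 7) (nat_lit 3),
  Rule.mk (nat_lit 14) (nat_lit 132) (Steps.fwd (nat_lit 8192) (Steps.fwd (nat_lit 32768) (Steps.fwd (nat_lit 36864) (Steps.fwd (nat_lit 45056) (Steps.bwd (nat_lit 13) (Steps.bwd (nat_lit 7) (Steps.fwd (nat_lit 57344) (Steps.bwd (nat_lit 2) Steps.nil)))))))) (nat_lit 47) (nat_lit 8),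
  Rule.mk (nat_lit 11) (nat_lit 117) (Steps.bwd (nat_lit 14) (Steps.bwd (nat_lit 8) (Steps.fwd (nat_lit 53248) (Steps.bwd (nat_lit 4) (Steps.bwd (nat_lit 10) (Steps.fwd (nat_lit 16384) (Steps.fwd (nat_lit 40960) Steps.nil))))))) (nat_lit 51) (nat_lit 2),
  Rule.mk (nat_lit 1) (nat_lit 132) (Steps.bwd (nat_lit 14) (Steps.bwd (nat_lit 8) (Steps.fwd (nat_lit 53248) (Steps.fwd (nat_lit 49152) (Steps.bwd (nat_lit 9) (Steps.bwd (nat_lit 8) (Steps.fwd (nat_lit 4096) (Steps.fwd (nat_lit 57344) Steps.nil)))))))) (nat_lit 46) (nat_lit 3),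
  Rule.mk (nat_lit 13) (nat_lit 132) (Steps.bwd (nat_lit 2) (Steps.bwd (nat_lit 14) (Steps.fwd (nat_lit 8192) (Steps.bwd (nat_lit 7) (Steps.bwd (nat_lit 10) (Steps.bwd (nat_lit 12) (Steps.bwd (nat_lit 13) (Steps.bwd (nat_lit 7) Steps.nil)))))))) (nat_lit 47) (nat_lit 6),
  Rule.mk (nat_lit 14) (nat_lit 132) (Steps.fwd (nat_lit 49152) (Steps.fwd (nat_lit 40960) (Steps.bwd (nat_lit 8) (Steps.fwd (nat_lit 4096) (Steps.bwd (nat_lit 13) (Steps.fwd (nat_lit 8192) (Steps.bwd (nat_lit 14) (Steps.bwd (nat_lit 8) Steps.nil)))))))) (nat_lit 46) (nat_lit 6),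
  Rule.mk (nat_lit 12) (nat_lit 132) (Steps.bwd (nat_lit 13) (Steps.fwd (nat_lit 32768) (Steps.fwd (nat_lit 57344) (Steps.fwd (nat_lit 4096) (Steps.fwd (nat_lit 53248) (Steps.fwd (nat_lit 8192) (Steps.fwd (nat_lit 32768) (Steps.bwd (nat_lit 10) Steps.nil)))))))) (nat_lit 47) (nat_lit 3),
  Rule.mk (nat_lit 11) (nat_lit 87) (Steps.fwd (nat_lit 32768) (Steps.fwd (nat_lit 61440) (Steps.bwd (nat_lit 16) (Steps.fwd (nat_lit 45056) (Steps.bwd (nat_lit 8) Steps.nil))))) (nat_lit 33) (nat_lit 5),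
  Rule.mk (nat_lit 14) (nat_lit 117) (Steps.bwd (nat_lit 4) (Steps.fwd (nat_lit 36864) (Steps.fwd (nat_lit 16384) (Steps.fwd (nat_lit 40960) (Steps.fwd (nat_lit 49152) (Steps.bwd (nat_lit 14) (Steps.bwd (nat_lit 8) Steps.nil))))))) (nat_lit 51) (nat_lit 5),
  Rule.mk (nat_lit 16) (nat_lit 72) (Steps.bwd (nat_lit 8) (Steps.fwd (nat_lit 36864) (Steps.bwd (nat_lit 7) (Steps.bwd (nat_lit 9) Steps.nil)))) (nat_lit 19) (nat_lit 0),
  Rule.mk (nat_lit 12) (nat_lit 102) (Steps.bwd (nat_lit 7) (Steps.bwd (nat_lit 13) (Steps.bwd (nat_lit 2) (Steps.bwd (nat_lit 12) (Steps.bwd (nat_lit 1) (Steps.bwd (nat_lit 12) Steps.nil)))))) (nat_lit 45) (nat_lit 2),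
  Rule.mk (nat_lit 4) (nat_lit 117) (Steps.bwd (nat_lit 2) (Steps.bwd (nat_lit 4) (Steps.fwd (nat_lit 4096) (Steps.bwd (nat_lit 4) (Steps.bwd (nat_lit 2) (Steps.fwd (nat_lit 12288) (Steps.fwd (nat_lit 4096) Steps.nil))))))) (nat_lit 5) (nat_lit 1),
  Rule.mk (nat_lit 1) (nat_lit 132) (Steps.bwd (nat_lit 14) (Steps.bwd (nat_lit 8) (Steps.fwd (nat_lit 53248) (Steps.fwd (nat_lit 49152) (Steps.bwd (nat_lit 9) (Steps.bwd (nat_lit 8) (Steps.fwd (nat_lit 4096) (Steps.bwd (nat_lit 13) Steps.nil)))))))) (nat_lit 46) (nat_lit 3),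
  Rule.mk (nat_lit 13) (nat_lit 102) (Steps.bwd (nat_lit 2) (Steps.fwd (nat_lit 45056) (Steps.fwd (nat_lit 8192) (Steps.bwd (nat_lit 12) (Steps.bwd (nat_lit 12) (Steps.fwd (nat_lit 32768) Steps.nil)))))) (nat_lit 45) (nat_lit 4),
  Rule.mk (nat_lit 12) (nat_lit 117) (Steps.bwd (nat_lit 10) (Steps.fwd (nat_lit 12288) (Steps.bwd (nat_lit 9) (Steps.fwd (nat_lit 16384) (Steps.fwd (nat_lit 57344) (Steps.fwd (nat_lit 32768) (Steps.bwd (nat_lit 13) Steps.nil))))))) (nat_lit 50) (nat_lit 7),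
  Rule.mk (nat_lit 1) (nat_lit 102) (Steps.bwd (nat_lit 12) (Steps.bwd (nat_lit 12) (Steps.bwd (nat_lit 7) (Steps.bwd (nat_lit 13) (Steps.fwd (nat_lit 4096) (Steps.bwd (nat_lit 12) Steps.nil)))))) (nat_lit 45) (nat_lit 0),
  Rule.mk (nat_lit 14) (nat_lit 102) (Steps.bwd (nat_lit 8) (Steps.bwd (nat_lit 11) (Steps.bwd (nat_lit 11) (Steps.bwd (nat_lit 2) (Steps.bwd (nat_lit 11) (Steps.fwd (nat_lit 8192) Steps.nil)))))) (nat_lit 44) (nat_lit 4),
  Rule.mk (nat_lit 2) (nat_lit 132) (Steps.bwd (nat_lit 13) (Steps.bwd (nat_lit 1) (Steps.fwd (nat_lit 53248) (Steps.fwd (nat_lit 28672) (Steps.bwd (nat_lit 14) (Steps.bwd (nat_lit 11) (Steps.bwd (nat_lit 9) (Steps.bwd (nat_lit 8) Steps.nil)))))))) (nat_lit 46) (nat_lit 1),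
  Rule.mk (nat_lit 4) (nat_lit 87) (Steps.bwd (nat_lit 1) (Steps.bwd (nat_lit 1) (Steps.bwd (nat_lit 3) (Steps.bwd (nat_lit 2) (Steps.bwd (nat_lit 2) Steps.nil))))) (nat_lit 6) (nat_lit 3),
  Rule.mk (nat_lit 14) (nat_lit 102) (Steps.bwd (nat_lit 8) (Steps.fwd (nat_lit 49152) (Steps.bwd (nat_lit 11) (Steps.fwd (nat_lit 4096) (Steps.bwd (nat_lit 11) (Steps.bwd (nat_lit 1) Steps.nil)))))) (nat_lit 44) (nat_lit 4),
  Rule.mk (nat_lit 12) (nat_lit 102) (Steps.fwd (nat_lit 8192) (Steps.fwd (nat_lit 45056) (Steps.bwd (nat_lit 12) (Steps.bwd (nat_lit 7) (Steps.fwd (nat_lit 57344) (Steps.bwd (nat_lit 2) Steps.nil)))))) (nat_lit 45) (nat_lit 6),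
  Rule.mk (nat_lit 4) (nat_lit 117) (Steps.fwd (nat_lit 4096) (Steps.bwd (nat_lit 4) (Steps.fwd (nat_lit 4096) (Steps.fwd (nat_lit 12288) (Steps.fwd (nat_lit 4096) (Steps.fwd (nat_lit 12288) (Steps.bwd (nat_lit 2) Steps.nil))))))) (nat_lit 5) (nat_lit 1),
  Rule.mk (nat_lit 7) (nat_lit 102) (Steps.bwd (nat_lit 13) (Steps.fwd (nat_lit 4096) (Steps.bwd (nat_lit 12) (Steps.fwd (nat_lit 8192) (Steps.bwd (nat_lit 12) (Steps.bwd (nat_lit 12) Steps.nil)))))) (nat_lit 45) (nat_lit 3),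
  Rule.mk (nat_lit 13) (nat_lit 117) (Steps.bwd (nat_lit 12) (Steps.bwd (nat_lit 10) (Steps.fwd (nat_lit 12288) (Steps.bwd (nat_lit 9) (Steps.bwd (nat_lit 3) (Steps.bwd (nat_lit 13) (Steps.fwd (nat_lit 32768) Steps.nil))))))) (nat_lit 50) (nat_lit 6)]
noncomputable def R_42 : List (Rule) := [Rule.mk (nat_lit 8) (nat_lit 117) (Steps.fwd (nat_lit 53248) (Steps.bwd (nat_lit 4) (Steps.fwd (nat_lit 36864) (Steps.bwd (nat_lit 3) (Steps.bwd (nat_lit 9) (Steps.bwd (nat_lit 11) (Steps.bwd (nat_lit 14) Steps.nil))))))) (nat_lit 51) (nat_lit 4),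
  Rule.mk (nat_lit 8) (nat_lit 117) (Steps.bwd (nat_lit 14) (Steps.fwd (nat_lit 12288) (Steps.bwd (nat_lit 10) (Steps.bwd (nat_lit 3) (Steps.bwd (nat_lit 9) (Steps.bwd (nat_lit 11) (Steps.fwd (nat_lit 53248) Steps.nil))))))) (nat_lit 51) (nat_lit 4),
  Rule.mk (nat_lit 1) (nat_lit 87) (Steps.fwd (nat_lit 8192) (Steps.fwd (nat_lit 12288) (Steps.fwd (nat_lit 4096) (Steps.bwd (nat_lit 2) (Steps.bwd (nat_lit 3) Steps.nil))))) (nat_lit 7) (nat_lit 5),
  Rule.mk (nat_lit 11) (nat_lit 102) (Steps.bwd (nat_lit 2) (Steps.bwd (nat_lit 11) (Steps.bwd (nat_lit 1) (Steps.fwd (nat_lit 53248) (Steps.fwd (nat_lit 28672) (Steps.bwd (nat_lit 11) Steps.nil)))))) (nat_lit 44) (nat_lit 0),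
  Rule.mk (nat_lit 4) (nat_lit 117) (Steps.bwd (nat_lit 2) (Steps.bwd (nat_lit 4) (Steps.bwd (nat_lit 2) (Steps.fwd (nat_lit 12288) (Steps.bwd (nat_lit 2) (Steps.bwd (nat_lit 4) (Steps.fwd (nat_lit 4096) Steps.nil))))))) (nat_lit 5) (nat_lit 1),
  Rule.mk (nat_lit 11) (nat_lit 117) (Steps.bwd (nat_lit 3) (Steps.fwd (nat_lit 49152) (Steps.fwd (nat_lit 49152) (Steps.bwd (nat_lit 14) (Steps.bwd (nat_lit 8) (Steps.fwd (nat_lit 28672) (Steps.bwd (nat_lit 4) Steps.nil))))))) (nat_lit 52) (nat_lit 2),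
  Rule.mk (nat_lit 15) (nat_lit 72) (Steps.bwd (nat_lit 2) (Steps.fwd (nat_lit 61440) (Steps.fwd (nat_lit 8192) (Steps.fwd (nat_lit 65536) Steps.nil)))) (nat_lit 49) (nat_lit 2),
  Rule.mk (nat_lit 12) (nat_lit 102) (Steps.bwd (nat_lit 1) (Steps.bwd (nat_lit 12) (Steps.bwd (nat_lit 12) (Steps.fwd (nat_lit 32768) (Steps.fwd (nat_lit 57344) (Steps.bwd (nat_lit 2) Steps.nil)))))) (nat_lit 45) (nat_lit 6),
  Rule.mk (nat_lit 4) (nat_lit 117) (Steps.bwd (nat_lit 12) (Steps.bwd (nat_lit 3) (Steps.fwd (nat_lit 32768) (Steps.fwd (nat_lit 32768) (Steps.bwd (nat_lit 13) (Steps.fwd (nat_lit 45056) (Steps.bwd (nat_lit 12) Steps.nil))))))) (nat_lit 53) (nat_lit 6),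
  Rule.mk (nat_lit 15) (nat_lit 87) (Steps.bwd (nat_lit 8) (Steps.fwd (nat_lit 45056) (Steps.bwd (nat_lit 7) (Steps.fwd (nat_lit 49152) (Steps.bwd (nat_lit 15) Steps.nil))))) (nat_lit 32) (nat_lit 0),
  Rule.mk (nat_lit 1) (nat_lit 132) (Steps.fwd (nat_lit 32768) (Steps.bwd (nat_lit 10) (Steps.bwd (nat_lit 12) (Steps.bwd (nat_lit 13) (Steps.fwd (nat_lit 32768) (Steps.bwd (nat_lit 13) (Steps.bwd (nat_lit 2) (Steps.bwd (nat_lit 14) Steps.nil)))))))) (nat_lit 47) (nat_lit 0),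
  Rule.mk (nat_lit 10) (nat_lit 117) (Steps.bwd (nat_lit 3) (Steps.fwd (nat_lit 40960) (Steps.bwd (nat_lit 11) (Steps.bwd (nat_lit 14) (Steps.fwd (nat_lit 28672) (Steps.fwd (nat_lit 53248) (Steps.fwd (nat_lit 12288) Steps.nil))))))) (nat_lit 51) (nat_lit 7),
  Rule.mk (nat_lit 13) (nat_lit 117) (Steps.fwd (nat_lit 32768) (Steps.bwd (nat_lit 13) (Steps.bwd (nat_lit 12) (Steps.bwd (nat_lit 10) (Steps.bwd (nat_lit 4) (Steps.fwd (nat_lit 40960) (Steps.bwd (nat_lit 3) Steps.nil))))))) (nat_lit 50) (nat_lit 4),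
  Rule.mk (nat_lit 12) (nat_lit 102) (Steps.bwd (nat_lit 1) (Steps.bwd (nat_lit 12) (Steps.fwd (nat_lit 45056) (Steps.fwd (nat_lit 32768) (Steps.fwd (nat_lit 57344) (Steps.bwd (nat_lit 2) Steps.nil)))))) (nat_lit 45) (nat_lit 6),
  Rule.mk (nat_lit 13) (nat_lit 132) (Steps.bwd (nat_lit 1) (Steps.fwd (nat_lit 53248) (Steps.bwd (nat_lit 8) (Steps.bwd (nat_lit 14) (Steps.bwd (nat_lit 11) (Steps.bwd (nat_lit 9) (Steps.bwd (nat_lit 8) (Steps.bwd (nat_lit 2) Steps.nil)))))))) (nat_lit 46) (nat_lit 2),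
  Rule.mk (nat_lit 9) (nat_lit 117) (Steps.bwd (nat_lit 3) (Steps.bwd (nat_lit 13) (Steps.fwd (nat_lit 32768) (Steps.fwd (nat_lit 57344) (Steps.bwd (nat_lit 12) (Steps.fwd (nat_lit 36864) (Steps.bwd (nat_lit 4) Steps.nil))))))) (nat_lit 50) (nat_lit 2),
  Rule.mk (nat_lit 12) (nat_lit 102) (Steps.bwd (nat_lit 7) (Steps.fwd (nat_lit 57344) (Steps.fwd (nat_lit 4096) (Steps.bwd (nat_lit 12) (Steps.bwd (nat_lit 1) (Steps.bwd (nat_lit 12) Steps.nil)))))) (nat_lit 45) (nat_lit 2),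
  Rule.mk (nat_lit 12) (nat_lit 102) (Steps.bwd (nat_lit 12) (Steps.bwd (nat_lit 7) (Steps.bwd (nat_lit 13) (Steps.bwd (nat_lit 2) (Steps.fwd (nat_lit 45056) (Steps.fwd (nat_lit 8192) Steps.nil)))))) (nat_lit 45) (nat_lit 1),
  Rule.mk (nat_lit 2) (nat_lit 132) (Steps.bwd (nat_lit 14) (Steps.fwd (nat_lit 8192) (Steps.bwd (nat_lit 7) (Steps.bwd (nat_lit 10) (Steps.bwd (nat_lit 12) (Steps.bwd (nat_lit 13) (Steps.fwd (nat_lit 32768) (Steps.bwd (nat_lit 13) Steps.nil)))))))) (nat_lit 47) (nat_lit 7),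
  Rule.mk (nat_lit 12) (nat_lit 102) (Steps.bwd (nat_lit 12) (Steps.fwd (nat_lit 32768) (Steps.bwd (nat_lit 13) (Steps.bwd (nat_lit 2) (Steps.bwd (nat_lit 12) (Steps.fwd (nat_lit 8192) Steps.nil)))))) (nat_lit 45) (nat_lit 1),
  Rule.mk (nat_lit 10) (nat_lit 117) (Steps.fwd (nat_lit 16384) (Steps.bwd (nat_lit 9) (Steps.bwd (nat_lit 11) (Steps.fwd (nat_lit 53248) (Steps.fwd (nat_lit 28672) (Steps.fwd (nat_lit 53248) (Steps.bwd (nat_lit 4) Steps.nil))))))) (nat_lit 51) (nat_lit 7),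
  Rule.mk (nat_lit 1) (nat_lit 102) (Steps.bwd (nat_lit 14) (Steps.bwd (nat_lit 8) (Steps.bwd (nat_lit 11) (Steps.bwd (nat_lit 11) (Steps.bwd (nat_lit 2) (Steps.fwd (nat_lit 49152) Steps.nil)))))) (nat_lit 44) (nat_lit 3),
  Rule.mk (nat_lit 11) (nat_lit 87) (Steps.bwd (nat_lit 7) (Steps.bwd (nat_lit 16) (Steps.bwd (nat_lit 16) (Steps.bwd (nat_lit 12) (Steps.bwd (nat_lit 8) Steps.nil))))) (nat_lit 33) (nat_lit 5),
  Rule.mk (nat_lit 3) (nat_lit 117) (Steps.bwd (nat_lit 7) (Steps.fwd (nat_lit 32768) (Steps.fwd (nat_lit 57344) (Steps.bwd (nat_lit 12) (Steps.bwd (nat_lit 12) (Steps.bwd (nat_lit 4) (Steps.bwd (nat_lit 12) Steps.nil))))))) (nat_lit 53) (nat_lit 0),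
  Rule.mk (nat_lit 1) (nat_lit 87) (Steps.bwd (nat_lit 4) (Steps.fwd (nat_lit 4096) (Steps.bwd (nat_lit 2) (Steps.bwd (nat_lit 3) (Steps.bwd (nat_lit 1) Steps.nil))))) (nat_lit 7) (nat_lit 0),
  Rule.mk (nat_lit 3) (nat_lit 87) (Steps.bwd (nat_lit 2) (Steps.fwd (nat_lit 4096) (Steps.fwd (nat_lit 12288) (Steps.fwd (nat_lit 8192) (Steps.fwd (nat_lit 8192) Steps.nil))))) (nat_lit 6) (nat_lit 0),
  Rule.mk (nat_lit 13) (nat_lit 102) (Steps.bwd (nat_lit 2) (Steps.bwd (nat_lit 12) (Steps.fwd (nat_lit 8192) (Steps.fwd (nat_lit 45056) (Steps.fwd (nat_lit 45056) (Steps.fwd (nat_lit 32768) Steps.nil)))))) (nat_lit 45) (nat_lit 4),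
  Rule.mk (nat_lit 2) (nat_lit 117) (Steps.bwd (nat_lit 2) (Steps.fwd (nat_lit 4096) (Steps.fwd (nat_lit 4096) (Steps.bwd (nat_lit 2) (Steps.bwd (nat_lit 2) (Steps.fwd (nat_lit 4096) (Steps.fwd (nat_lit 4096) Steps.nil))))))) (nat_lit 1) (nat_lit 0),
  Rule.mk (nat_lit 12) (nat_lit 117) (Steps.bwd (nat_lit 3) (Steps.fwd (nat_lit 32768) (Steps.fwd (nat_lit 32768) (Steps.fwd (nat_lit 57344) (Steps.bwd (nat_lit 12) (Steps.fwd (nat_lit 45056) (Steps.fwd (nat_lit 12288) Steps.nil))))))) (nat_lit 53) (nat_lit 7),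
  Rule.mk (nat_lit 7) (nat_lit 102) (Steps.fwd (nat_lit 57344) (Steps.fwd (nat_lit 4096) (Steps.bwd (nat_lit 12) (Steps.bwd (nat_lit 1) (Steps.bwd (nat_lit 12) (Steps.bwd (nat_lit 12) Steps.nil)))))) (nat_lit 45) (nat_lit 3),
  Rule.mk (nat_lit 2) (nat_lit 117) (Steps.bwd (nat_lit 4) (Steps.fwd (nat_lit 4096) (Steps.fwd (nat_lit 12288) (Steps.bwd (nat_lit 2) (Steps.bwd (nat_lit 4) (Steps.fwd (nat_lit 4096) (Steps.fwd (nat_lit 12288) Steps.nil))))))) (nat_lit 5) (nat_lit 0),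
  Rule.mk (nat_lit 13) (nat_lit 117) (Steps.fwd (nat_lit 32768) (Steps.bwd (nat_lit 13) (Steps.bwd (nat_lit 12) (Steps.fwd (nat_lit 36864) (Steps.fwd (nat_lit 12288) (Steps.fwd (nat_lit 40960) (Steps.fwd (nat_lit 16384) Steps.nil))))))) (nat_lit 50) (nat_lit 4),
  Rule.mk (nat_lit 2) (nat_lit 132) (Steps.bwd (nat_lit 13) (Steps.fwd (nat_lit 8192) (Steps.bwd (nat_lit 14) (Steps.bwd (nat_lit 8) (Steps.fwd (nat_lit 53248) (Steps.bwd (nat_lit 11) (Steps.bwd (nat_lit 9) (Steps.bwd (nat_lit 8) Steps.nil)))))))) (nat_lit 46) (nat_lit 1),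
  Rule.mk (nat_lit 14) (nat_lit 132) (Steps.bwd (nat_lit 1) (Steps.bwd (nat_lit 7) (Steps.fwd (nat_lit 36864) (Steps.fwd (nat_lit 45056) (Steps.fwd (nat_lit 57344) (Steps.bwd (nat_lit 7) (Steps.fwd (nat_lit 57344) (Steps.bwd (nat_lit 2) Steps.nil)))))))) (nat_lit 47) (nat_lit 8),
  Rule.mk (nat_lit 3) (nat_lit 117) (Steps.bwd (nat_lit 9) (Steps.fwd (nat_lit 49152) (Steps.bwd (nat_lit 14) (Steps.fwd (nat_lit 28672) (Steps.bwd (nat_lit 14) (Steps.bwd (nat_lit 4) (Steps.fwd (nat_lit 36864) Steps.nil))))))) (nat_lit 51) (nat_lit 0),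
  Rule.mk (nat_lit 9) (nat_lit 117) (Steps.bwd (nat_lit 3) (Steps.fwd (nat_lit 57344) (Steps.bwd (nat_lit 7) (Steps.bwd (nat_lit 13) (Steps.bwd (nat_lit 12) (Steps.bwd (nat_lit 10) (Steps.fwd (nat_lit 12288) Steps.nil))))))) (nat_lit 50) (nat_lit 2),
  Rule.mk (nat_lit 14) (nat_lit 132) (Steps.fwd (nat_lit 49152) (Steps.bwd (nat_lit 9) (Steps.fwd (nat_lit 28672) (Steps.fwd (nat_lit 4096) (Steps.bwd (nat_lit 13) (Steps.bwd (nat_lit 1) (Steps.bwd (nat_lit 14) (Steps.bwd (nat_lit 8) Steps.nil)))))))) (nat_lit 46) (nat_lit 6),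
  Rule.mk (nat_lit 12) (nat_lit 117) (Steps.fwd (nat_lit 36864) (Steps.fwd (nat_lit 12288) (Steps.bwd (nat_lit 9) (Steps.fwd (nat_lit 16384) (Steps.fwd (nat_lit 57344) (Steps.fwd (nat_lit 32768) (Steps.bwd (nat_lit 13) Steps.nil))))))) (nat_lit 50) (nat_lit 7),
  Rule.mk (nat_lit 10) (nat_lit 117) (Steps.bwd (nat_lit 4) (Steps.bwd (nat_lit 9) (Steps.bwd (nat_lit 3) (Steps.bwd (nat_lit 13) (Steps.bwd (nat_lit 7) (Steps.bwd (nat_lit 13) (Steps.bwd (nat_lit 12) Steps.nil))))))) (nat_lit 50) (nat_lit 0),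
  Rule.mk (nat_lit 2) (nat_lit 177) (Steps.bwd (nat_lit 4) (Steps.bwd (nat_lit 1) (Steps.fwd (nat_lit 16384) (Steps.bwd (nat_lit 2) (Steps.bwd (nat_lit 4) (Steps.fwd (nat_lit 8192) (Steps.bwd (nat_lit 3) (Steps.bwd (nat_lit 2) (Steps.fwd (nat_lit 12288) (Steps.fwd (nat_lit 8192) (Steps.bwd (nat_lit 3) Steps.nil))))))))))) (nat_lit 8) (nat_lit 1),
  Rule.mk (nat_lit 12) (nat_lit 87) (Steps.bwd (nat_lit 8) (Steps.bwd (nat_lit 11) (Steps.bwd (nat_lit 7) (Steps.bwd (nat_lit 16) (Steps.bwd (nat_lit 16) Steps.nil))))) (nat_lit 33) (nat_lit 3),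
  Rule.mk (nat_lit 1) (nat_lit 102) (Steps.fwd (nat_lit 45056) (Steps.fwd (nat_lit 45056) (Steps.bwd (nat_lit 7) (Steps.bwd (nat_lit 13) (Steps.bwd (nat_lit 2) (Steps.bwd (nat_lit 12) Steps.nil)))))) (nat_lit 45) (nat_lit 0),
  Rule.mk (nat_lit 12) (nat_lit 117) (Steps.bwd (nat_lit 12) (Steps.fwd (nat_lit 12288) (Steps.fwd (nat_lit 45056) (Steps.bwd (nat_lit 3) (Steps.fwd (nat_lit 32768) (Steps.fwd (nat_lit 32768) (Steps.bwd (nat_lit 13) Steps.nil))))))) (nat_lit 53) (nat_lit 4),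
  Rule.mk (nat_lit 3) (nat_lit 117) (Steps.fwd (nat_lit 32768) (Steps.fwd (nat_lit 32768) (Steps.fwd (nat_lit 57344) (Steps.bwd (nat_lit 12) (Steps.fwd (nat_lit 45056) (Steps.bwd (nat_lit 4) (Steps.bwd (nat_lit 12) Steps.nil))))))) (nat_lit 53) (nat_lit 0),
  Rule.mk (nat_lit 9) (nat_lit 132) (Steps.bwd (nat_lit 8) (Steps.fwd (nat_lit 4096) (Steps.bwd (nat_lit 13) (Steps.bwd (nat_lit 1) (Steps.bwd (nat_lit 14) (Steps.bwd (nat_lit 8) (Steps.fwd (nat_lit 53248) (Steps.bwd (nat_lit 11) Steps.nil)))))))) (nat_lit 46) (nat_lit 8),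
  Rule.mk (nat_lit 7) (nat_lit 87) (Steps.bwd (nat_lit 11) (Steps.fwd (nat_lit 65536) (Steps.fwd (nat_lit 65536) (Steps.fwd (nat_lit 28672) (Steps.fwd (nat_lit 45056) Steps.nil))))) (nat_lit 32) (nat_lit 3),
  Rule.mk (nat_lit 2) (nat_lit 132) (Steps.bwd (nat_lit 14) (Steps.fwd (nat_lit 8192) (Steps.bwd (nat_lit 7) (Steps.fwd (nat_lit 36864) (Steps.fwd (nat_lit 45056) (Steps.fwd (nat_lit 57344) (Steps.bwd (nat_lit 7) (Steps.fwd (nat_lit 57344) Steps.nil)))))))) (nat_lit 47) (nat_lit 7),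
  Rule.mk (nat_lit 1) (nat_lit 102) (Steps.bwd (nat_lit 14) (Steps.fwd (nat_lit 28672) (Steps.fwd (nat_lit 49152) (Steps.fwd (nat_lit 49152) (Steps.bwd (nat_lit 2) (Steps.fwd (nat_lit 49152) Steps.nil)))))) (nat_lit 44) (nat_lit 3),
  Rule.mk (nat_lit 11) (nat_lit 117) (Steps.bwd (nat_lit 14) (Steps.fwd (nat_lit 28672) (Steps.fwd (nat_lit 53248) (Steps.bwd (nat_lit 4) (Steps.fwd (nat_lit 36864) (Steps.fwd (nat_lit 16384) (Steps.fwd (nat_lit 40960) Steps.nil))))))) (nat_lit 51) (nat_lit 2),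
  Rule.mk (nat_lit 13) (nat_lit 132) (Steps.fwd (nat_lit 8192) (Steps.fwd (nat_lit 53248) (Steps.fwd (nat_lit 28672) (Steps.fwd (nat_lit 53248) (Steps.bwd (nat_lit 11) (Steps.fwd (nat_lit 40960) (Steps.fwd (nat_lit 28672) (Steps.bwd (nat_lit 2) Steps.nil)))))))) (nat_lit 46) (nat_lit 2),
  Rule.mk (nat_lit 12) (nat_lit 117) (Steps.bwd (nat_lit 10) (Steps.fwd (nat_lit 12288) (Steps.bwd (nat_lit 9) (Steps.bwd (nat_lit 3) (Steps.bwd (nat_lit 13) (Steps.fwd (nat_lit 32768) (Steps.bwd (nat_lit 13) Steps.nil))))))) (nat_lit 50) (nat_lit 7),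
  Rule.mk (nat_lit 11) (nat_lit 102) (Steps.bwd (nat_lit 2) (Steps.bwd (nat_lit 11) (Steps.bwd (nat_lit 1) (Steps.fwd (nat_lit 53248) (Steps.bwd (nat_lit 8) (Steps.bwd (nat_lit 11) Steps.nil)))))) (nat_lit 44) (nat_lit 0),
  Rule.mk (nat_lit 13) (nat_lit 132) (Steps.bwd (nat_lit 2) (Steps.fwd (nat_lit 53248) (Steps.bwd (nat_lit 1) (Steps.fwd (nat_lit 32768) (Steps.bwd (nat_lit 10) (Steps.fwd (nat_lit 45056) (Steps.bwd (nat_lit 13) (Steps.fwd (nat_lit 32768) Steps.nil)))))))) (nat_lit 47) (nat_lit 6),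
  Rule.mk (nat_lit 7) (nat_lit 87) (Steps.fwd (nat_lit 65536) (Steps.bwd (nat_lit 15) (Steps.bwd (nat_lit 14) (Steps.fwd (nat_lit 28672) (Steps.bwd (nat_lit 13) Steps.nil))))) (nat_lit 35) (nat_lit 0),
  Rule.mk (nat_lit 4) (nat_lit 117) (Steps.bwd (nat_lit 2) (Steps.fwd (nat_lit 12288) (Steps.bwd (nat_lit 2) (Steps.fwd (nat_lit 12288) (Steps.fwd (nat_lit 4096) (Steps.fwd (nat_lit 12288) (Steps.bwd (nat_lit 2) Steps.nil))))))) (nat_lit 5) (nat_lit 1),
  Rule.mk (nat_lit 11) (nat_lit 117) (Steps.bwd (nat_lit 14) (Steps.bwd (nat_lit 8) (Steps.fwd (nat_lit 28672) (Steps.fwd (nat_lit 12288) (Steps.bwd (nat_lit 11) (Steps.fwd (nat_lit 16384) (Steps.fwd (nat_lit 49152) Steps.nil))))))) (nat_lit 52) (nat_lit 5),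
  Rule.mk (nat_lit 1) (nat_lit 102) (Steps.bwd (nat_lit 12) (Steps.fwd (nat_lit 45056) (Steps.fwd (nat_lit 32768) (Steps.fwd (nat_lit 57344) (Steps.bwd (nat_lit 2) (Steps.fwd (nat_lit 45056) Steps.nil)))))) (nat_lit 45) (nat_lit 0),
  Rule.mk (nat_lit 12) (nat_lit 117) (Steps.bwd (nat_lit 12) (Steps.bwd (nat_lit 4) (Steps.fwd (nat_lit 45056) (Steps.bwd (nat_lit 3) (Steps.fwd (nat_lit 32768) (Steps.fwd (nat_lit 32768) (Steps.fwd (nat_lit 57344) Steps.nil))))))) (nat_lit 53) (nat_lit 4),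
  Rule.mk (nat_lit 2) (nat_lit 117) (Steps.bwd (nat_lit 4) (Steps.bwd (nat_lit 2) (Steps.fwd (nat_lit 12288) (Steps.fwd (nat_lit 4096) (Steps.fwd (nat_lit 12288) (Steps.bwd (nat_lit 2) (Steps.bwd (nat_lit 4) Steps.nil))))))) (nat_lit 5) (nat_lit 0),
  Rule.mk (nat_lit 14) (nat_lit 132) (Steps.bwd (nat_lit 1) (Steps.bwd (nat_lit 7) (Steps.bwd (nat_lit 10) (Steps.bwd (nat_lit 12) (Steps.bwd (nat_lit 13) (Steps.bwd (nat_lit 7) (Steps.bwd (nat_lit 13) (Steps.bwd (nat_lit 2) Steps.nil)))))))) (nat_lit 47) (nat_lit 8),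
  Rule.mk (nat_lit 2) (nat_lit 87) (Steps.fwd (nat_lit 4096) (Steps.fwd (nat_lit 12288) (Steps.bwd (nat_lit 1) (Steps.fwd (nat_lit 8192) (Steps.bwd (nat_lit 3) Steps.nil))))) (nat_lit 6) (nat_lit 1),
  Rule.mk (nat_lit 13) (nat_lit 117) (Steps.bwd (nat_lit 12) (Steps.bwd (nat_lit 10) (Steps.fwd (nat_lit 12288) (Steps.bwd (nat_lit 9) (Steps.bwd (nat_lit 3) (Steps.fwd (nat_lit 57344) (Steps.fwd (nat_lit 32768) Steps.nil))))))) (nat_lit 50) (nat_lit 6),
  Rule.mk (nat_lit 2) (nat_lit 132) (Steps.bwd (nat_lit 14) (Steps.bwd (nat_lit 1) (Steps.fwd (nat_lit 32768) (Steps.bwd (nat_lit 10) (Steps.fwd (nat_lit 45056) (Steps.fwd (nat_lit 57344) (Steps.fwd (nat_lit 32768) (Steps.bwd (nat_lit 13) Steps.nil)))))))) (nat_lit 47) (nat_lit 7),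
  Rule.mk (nat_lit 8) (nat_lit 117) (Steps.bwd (nat_lit 14) (Steps.bwd (nat_lit 4) (Steps.bwd (nat_lit 10) (Steps.bwd (nat_lit 3) (Steps.bwd (nat_lit 9) (Steps.fwd (nat_lit 49152) (Steps.fwd (nat_lit 53248) Steps.nil))))))) (nat_lit 51) (nat_lit 4)]
noncomputable def R_43 : List (Rule) := [Rule.mk (nat_lit 11) (nat_lit 117) (Steps.bwd (nat_lit 14) (Steps.bwd (nat_lit 8) (Steps.fwd (nat_lit 53248) (Steps.bwd (nat_lit 4) (Steps.bwd (nat_lit 10) (Steps.bwd (nat_lit 3) (Steps.bwd (nat_lit 9) Steps.nil))))))) (nat_lit 51) (nat_lit 2),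
  Rule.mk (nat_lit 9) (nat_lit 117) (Steps.bwd (nat_lit 3) (Steps.fwd (nat_lit 57344) (Steps.bwd (nat_lit 7) (Steps.fwd (nat_lit 57344) (Steps.bwd (nat_lit 12) (Steps.fwd (nat_lit 36864) (Steps.fwd (nat_lit 12288) Steps.nil))))))) (nat_lit 50) (nat_lit 2),
  Rule.mk (nat_lit 11) (nat_lit 117) (Steps.bwd (nat_lit 3) (Steps.fwd (nat_lit 49152) (Steps.fwd (nat_lit 49152) (Steps.fwd (nat_lit 53248) (Steps.bwd (nat_lit 8) (Steps.bwd (nat_lit 8) (Steps.fwd (nat_lit 12288) Steps.nil))))))) (nat_lit 52) (nat_lit 2),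
  Rule.mk (nat_lit 16) (nat_lit 72) (Steps.bwd (nat_lit 8) (Steps.fwd (nat_lit 36864) (Steps.fwd (nat_lit 32768) (Steps.fwd (nat_lit 40960) Steps.nil)))) (nat_lit 19) (nat_lit 0),
  Rule.mk (nat_lit 9) (nat_lit 132) (Steps.bwd (nat_lit 8) (Steps.bwd (nat_lit 2) (Steps.fwd (nat_lit 57344) (Steps.fwd (nat_lit 8192) (Steps.bwd (nat_lit 14) (Steps.bwd (nat_lit 8) (Steps.bwd (nat_lit 14) (Steps.fwd (nat_lit 49152) Steps.nil)))))))) (nat_lit 46) (nat_lit 8),
  Rule.mk (nat_lit 3) (nat_lit 117) (Steps.fwd (nat_lit 57344) (Steps.bwd (nat_lit 7) (Steps.bwd (nat_lit 13) (Steps.fwd (nat_lit 45056) (Steps.fwd (nat_lit 36864) (Steps.fwd (nat_lit 12288) (Steps.bwd (nat_lit 9) Steps.nil))))))) (nat_lit 50) (nat_lit 3),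
  Rule.mk (nat_lit 14) (nat_lit 132) (Steps.bwd (nat_lit 1) (Steps.fwd (nat_lit 32768) (Steps.fwd (nat_lit 36864) (Steps.bwd (nat_lit 12) (Steps.bwd (nat_lit 13) (Steps.fwd (nat_lit 32768) (Steps.bwd (nat_lit 13) (Steps.fwd (nat_lit 4096) Steps.nil)))))))) (nat_lit 47) (nat_lit 8),
  Rule.mk (nat_lit 2) (nat_lit 117) (Steps.fwd (nat_lit 12288) (Steps.bwd (nat_lit 2) (Steps.bwd (nat_lit 4) (Steps.fwd (nat_lit 4096) (Steps.fwd (nat_lit 12288) (Steps.fwd (nat_lit 4096) (Steps.bwd (nat_lit 4) Steps.nil))))))) (nat_lit 5) (nat_lit 0),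
  Rule.mk (nat_lit 1) (nat_lit 102) (Steps.bwd (nat_lit 12) (Steps.bwd (nat_lit 12) (Steps.fwd (nat_lit 32768) (Steps.fwd (nat_lit 57344) (Steps.bwd (nat_lit 2) (Steps.fwd (nat_lit 45056) Steps.nil)))))) (nat_lit 45) (nat_lit 0),
  Rule.mk (nat_lit 10) (nat_lit 132) (Steps.bwd (nat_lit 12) (Steps.bwd (nat_lit 13) (Steps.fwd (nat_lit 32768) (Steps.fwd (nat_lit 57344) (Steps.bwd (nat_lit 2) (Steps.fwd (nat_lit 53248) (Steps.bwd (nat_lit 1) (Steps.bwd (nat_lit 7) Steps.nil)))))))) (nat_lit 47) (nat_lit 2),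
  Rule.mk (nat_lit 2) (nat_lit 87) (Steps.bwd (nat_lit 4) (Steps.fwd (nat_lit 8192) (Steps.bwd (nat_lit 1) (Steps.bwd (nat_lit 3) (Steps.fwd (nat_lit 4096) Steps.nil))))) (nat_lit 6) (nat_lit 2),
  Rule.mk (nat_lit 12) (nat_lit 102) (Steps.bwd (nat_lit 1) (Steps.bwd (nat_lit 12) (Steps.bwd (nat_lit 12) (Steps.bwd (nat_lit 7) (Steps.fwd (nat_lit 57344) (Steps.fwd (nat_lit 4096) Steps.nil)))))) (nat_lit 45) (nat_lit 6),
  Rule.mk (nat_lit 14) (nat_lit 132) (Steps.bwd (nat_lit 1) (Steps.bwd (nat_lit 7) (Steps.fwd (nat_lit 36864) (Steps.fwd (nat_lit 45056) (Steps.fwd (nat_lit 57344) (Steps.fwd (nat_lit 32768) (Steps.fwd (nat_lit 57344) (Steps.fwd (nat_lit 4096) Steps.nil)))))))) (nat_lit 47) (nat_lit 8),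
  Rule.mk (nat_lit 9) (nat_lit 117) (Steps.bwd (nat_lit 3) (Steps.bwd (nat_lit 13) (Steps.fwd (nat_lit 32768) (Steps.bwd (nat_lit 13) (Steps.bwd (nat_lit 12) (Steps.fwd (nat_lit 36864) (Steps.fwd (nat_lit 12288) Steps.nil))))))) (nat_lit 50) (nat_lit 2),
  Rule.mk (nat_lit 2) (nat_lit 132) (Steps.bwd (nat_lit 13) (Steps.bwd (nat_lit 1) (Steps.bwd (nat_lit 14) (Steps.bwd (nat_lit 8) (Steps.bwd (nat_lit 14) (Steps.fwd (nat_lit 49152) (Steps.bwd (nat_lit 9) (Steps.bwd (nat_lit 8) Steps.nil)))))))) (nat_lit 46) (nat_lit 1),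
  Rule.mk (nat_lit 14) (nat_lit 132) (Steps.fwd (nat_lit 8192) (Steps.bwd (nat_lit 7) (Steps.bwd (nat_lit 10) (Steps.bwd (nat_lit 12) (Steps.fwd (nat_lit 57344) (Steps.bwd (nat_lit 7) (Steps.bwd (nat_lit 13) (Steps.bwd (nat_lit 2) Steps.nil)))))))) (nat_lit 47) (nat_lit 8),
  Rule.mk (nat_lit 1) (nat_lit 132) (Steps.bwd (nat_lit 14) (Steps.bwd (nat_lit 8) (Steps.bwd (nat_lit 14) (Steps.bwd (nat_lit 11) (Steps.fwd (nat_lit 40960) (Steps.fwd (nat_lit 28672) (Steps.fwd (nat_lit 4096) (Steps.bwd (nat_lit 13) Steps.nil)))))))) (nat_lit 46) (nat_lit 3),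
  Rule.mk (nat_lit 12) (nat_lit 117) (Steps.bwd (nat_lit 10) (Steps.bwd (nat_lit 4) (Steps.fwd (nat_lit 40960) (Steps.fwd (nat_lit 16384) (Steps.bwd (nat_lit 13) (Steps.fwd (nat_lit 32768) (Steps.fwd (nat_lit 57344) Steps.nil))))))) (nat_lit 50) (nat_lit 7),
  Rule.mk (nat_lit 14) (nat_lit 117) (Steps.fwd (nat_lit 28672) (Steps.bwd (nat_lit 14) (Steps.fwd (nat_lit 12288) (Steps.fwd (nat_lit 36864) (Steps.fwd (nat_lit 16384) (Steps.fwd (nat_lit 40960) (Steps.bwd (nat_lit 11) Steps.nil))))))) (nat_lit 51) (nat_lit 3),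
  Rule.mk (nat_lit 8) (nat_lit 117) (Steps.bwd (nat_lit 4) (Steps.bwd (nat_lit 11) (Steps.bwd (nat_lit 3) (Steps.fwd (nat_lit 49152) (Steps.fwd (nat_lit 49152) (Steps.fwd (nat_lit 53248) (Steps.fwd (nat_lit 28672) Steps.nil))))))) (nat_lit 52) (nat_lit 0),
  Rule.mk (nat_lit 1) (nat_lit 102) (Steps.fwd (nat_lit 53248) (Steps.bwd (nat_lit 8) (Steps.bwd (nat_lit 11) (Steps.bwd (nat_lit 11) (Steps.fwd (nat_lit 4096) (Steps.bwd (nat_lit 11) Steps.nil)))))) (nat_lit 44) (nat_lit 3),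
  Rule.mk (nat_lit 10) (nat_lit 72) (Steps.bwd (nat_lit 8) (Steps.fwd (nat_lit 40960) (Steps.fwd (nat_lit 32768) (Steps.fwd (nat_lit 65536) Steps.nil)))) (nat_lit 18) (nat_lit 2),
  Rule.mk (nat_lit 16) (nat_lit 72) (Steps.bwd (nat_lit 8) (Steps.bwd (nat_lit 10) (Steps.bwd (nat_lit 7) (Steps.bwd (nat_lit 9) Steps.nil)))) (nat_lit 19) (nat_lit 0),
  Rule.mk (nat_lit 14) (nat_lit 102) (Steps.bwd (nat_lit 8) (Steps.fwd (nat_lit 49152) (Steps.bwd (nat_lit 11) (Steps.fwd (nat_lit 4096) (Steps.bwd (nat_lit 11) (Steps.fwd (nat_lit 8192) Steps.nil)))))) (nat_lit 44) (nat_lit 4),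
  Rule.mk (nat_lit 7) (nat_lit 87) (Steps.fwd (nat_lit 65536) (Steps.bwd (nat_lit 15) (Steps.bwd (nat_lit 14) (Steps.bwd (nat_lit 8) (Steps.bwd (nat_lit 13) Steps.nil))))) (nat_lit 35) (nat_lit 0),
  Rule.mk (nat_lit 1) (nat_lit 132) (Steps.fwd (nat_lit 53248) (Steps.fwd (nat_lit 28672) (Steps.fwd (nat_lit 53248) (Steps.fwd (nat_lit 49152) (Steps.fwd (nat_lit 40960) (Steps.fwd (nat_lit 28672) (Steps.bwd (nat_lit 2) (Steps.bwd (nat_lit 13) Steps.nil)))))))) (nat_lit 46) (nat_lit 3),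
  Rule.mk (nat_lit 11) (nat_lit 102) (Steps.bwd (nat_lit 1) (Steps.fwd (nat_lit 53248) (Steps.fwd (nat_lit 28672) (Steps.bwd (nat_lit 11) (Steps.bwd (nat_lit 11) (Steps.fwd (nat_lit 4096) Steps.nil)))))) (nat_lit 44) (nat_lit 2),
  Rule.mk (nat_lit 3) (nat_lit 117) (Steps.bwd (nat_lit 1) (Steps.fwd (nat_lit 16384) (Steps.bwd (nat_lit 1) (Steps.fwd (nat_lit 16384) (Steps.fwd (nat_lit 8192) (Steps.fwd (nat_lit 16384) (Steps.bwd (nat_lit 1) Steps.nil))))))) (nat_lit 4) (nat_lit 0),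
  Rule.mk (nat_lit 1) (nat_lit 117) (Steps.bwd (nat_lit 3) (Steps.bwd (nat_lit 1) (Steps.fwd (nat_lit 16384) (Steps.fwd (nat_lit 8192) (Steps.fwd (nat_lit 16384) (Steps.bwd (nat_lit 1) (Steps.bwd (nat_lit 3) Steps.nil))))))) (nat_lit 4) (nat_lit 1),
  Rule.mk (nat_lit 12) (nat_lit 117) (Steps.bwd (nat_lit 3) (Steps.fwd (nat_lit 32768) (Steps.bwd (nat_lit 7) (Steps.fwd (nat_lit 57344) (Steps.bwd (nat_lit 12) (Steps.bwd (nat_lit 12) (Steps.fwd (nat_lit 12288) Steps.nil))))))) (nat_lit 53) (nat_lit 7),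
  Rule.mk (nat_lit 15) (nat_lit 57) (Steps.fwd (nat_lit 49152) (Steps.bwd (nat_lit 16) (Steps.bwd (nat_lit 12) Steps.nil))) (nat_lit 29) (nat_lit 3),
  Rule.mk (nat_lit 4) (nat_lit 117) (Steps.fwd (nat_lit 45056) (Steps.bwd (nat_lit 3) (Steps.bwd (nat_lit 7) (Steps.fwd (nat_lit 32768) (Steps.bwd (nat_lit 13) (Steps.fwd (nat_lit 45056) (Steps.bwd (nat_lit 12) Steps.nil))))))) (nat_lit 53) (nat_lit 6),
  Rule.mk (nat_lit 2) (nat_lit 132) (Steps.bwd (nat_lit 14) (Steps.bwd (nat_lit 1) (Steps.bwd (nat_lit 7) (Steps.fwd (nat_lit 36864) (Steps.bwd (nat_lit 12) (Steps.bwd (nat_lit 13) (Steps.fwd (nat_lit 32768) (Steps.fwd (nat_lit 57344) Steps.nil)))))))) (nat_lit 47) (nat_lit 7),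
  Rule.mk (nat_lit 10) (nat_lit 117) (Steps.bwd (nat_lit 3) (Steps.fwd (nat_lit 40960) (Steps.bwd (nat_lit 11) (Steps.bwd (nat_lit 14) (Steps.bwd (nat_lit 8) (Steps.fwd (nat_lit 53248) (Steps.fwd (nat_lit 12288) Steps.nil))))))) (nat_lit 51) (nat_lit 7),
  Rule.mk (nat_lit 12) (nat_lit 117) (Steps.fwd (nat_lit 16384) (Steps.fwd (nat_lit 32768) (Steps.bwd (nat_lit 7) (Steps.fwd (nat_lit 57344) (Steps.bwd (nat_lit 12) (Steps.fwd (nat_lit 45056) (Steps.bwd (nat_lit 4) Steps.nil))))))) (nat_lit 53) (nat_lit 7),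
  Rule.mk (nat_lit 8) (nat_lit 117) (Steps.bwd (nat_lit 4) (Steps.bwd (nat_lit 11) (Steps.fwd (nat_lit 16384) (Steps.bwd (nat_lit 11) (Steps.fwd (nat_lit 49152) (Steps.bwd (nat_lit 14) (Steps.bwd (nat_lit 8) Steps.nil))))))) (nat_lit 52) (nat_lit 0),
  Rule.mk (nat_lit 14) (nat_lit 117) (Steps.bwd (nat_lit 8) (Steps.bwd (nat_lit 8) (Steps.fwd (nat_lit 12288) (Steps.bwd (nat_lit 11) (Steps.bwd (nat_lit 3) (Steps.bwd (nat_lit 11) (Steps.fwd (nat_lit 49152) Steps.nil))))))) (nat_lit 52) (nat_lit 6),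
  Rule.mk (nat_lit 1) (nat_lit 132) (Steps.bwd (nat_lit 7) (Steps.fwd (nat_lit 36864) (Steps.fwd (nat_lit 45056) (Steps.fwd (nat_lit 57344) (Steps.fwd (nat_lit 32768) (Steps.fwd (nat_lit 57344) (Steps.fwd (nat_lit 4096) (Steps.bwd (nat_lit 14) Steps.nil)))))))) (nat_lit 47) (nat_lit 0),
  Rule.mk (nat_lit 2) (nat_lit 132) (Steps.bwd (nat_lit 14) (Steps.fwd (nat_lit 8192) (Steps.bwd (nat_lit 7) (Steps.bwd (nat_lit 10) (Steps.bwd (nat_lit 12) (Steps.bwd (nat_lit 13) (Steps.bwd (nat_lit 7) (Steps.fwd (nat_lit 57344) Steps.nil)))))))) (nat_lit 47) (nat_lit 7),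
  Rule.mk (nat_lit 13) (nat_lit 132) (Steps.fwd (nat_lit 8192) (Steps.bwd (nat_lit 14) (Steps.bwd (nat_lit 8) (Steps.fwd (nat_lit 53248) (Steps.fwd (nat_lit 49152) (Steps.fwd (nat_lit 40960) (Steps.bwd (nat_lit 8) (Steps.bwd (nat_lit 2) Steps.nil)))))))) (nat_lit 46) (nat_lit 2),
  Rule.mk (nat_lit 3) (nat_lit 177) (Steps.bwd (nat_lit 1) (Steps.bwd (nat_lit 4) (Steps.bwd (nat_lit 2) (Steps.fwd (nat_lit 16384) (Steps.bwd (nat_lit 1) (Steps.bwd (nat_lit 4) (Steps.bwd (nat_lit 2) (Steps.fwd (nat_lit 16384) (Steps.bwd (nat_lit 1) (Steps.fwd (nat_lit 12288) (Steps.bwd (nat_lit 2) Steps.nil))))))))))) (nat_lit 9) (nat_lit 3),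
  Rule.mk (nat_lit 11) (nat_lit 117) (Steps.bwd (nat_lit 11) (Steps.bwd (nat_lit 14) (Steps.bwd (nat_lit 8) (Steps.bwd (nat_lit 8) (Steps.bwd (nat_lit 4) (Steps.bwd (nat_lit 11) (Steps.bwd (nat_lit 3) Steps.nil))))))) (nat_lit 52) (nat_lit 4),
  Rule.mk (nat_lit 7) (nat_lit 117) (Steps.bwd (nat_lit 7) (Steps.bwd (nat_lit 13) (Steps.fwd (nat_lit 45056) (Steps.fwd (nat_lit 45056) (Steps.fwd (nat_lit 12288) (Steps.fwd (nat_lit 45056) (Steps.bwd (nat_lit 3) Steps.nil))))))) (nat_lit 53) (nat_lit 1),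
  Rule.mk (nat_lit 12) (nat_lit 102) (Steps.bwd (nat_lit 12) (Steps.fwd (nat_lit 32768) (Steps.fwd (nat_lit 57344) (Steps.fwd (nat_lit 4096) (Steps.fwd (nat_lit 45056) (Steps.bwd (nat_lit 1) Steps.nil)))))) (nat_lit 45) (nat_lit 1),
  Rule.mk (nat_lit 10) (nat_lit 117) (Steps.bwd (nat_lit 4) (Steps.fwd (nat_lit 40960) (Steps.bwd (nat_lit 3) (Steps.fwd (nat_lit 57344) (Steps.bwd (nat_lit 7) (Steps.bwd (nat_lit 13) (Steps.bwd (nat_lit 12) Steps.nil))))))) (nat_lit 50) (nat_lit 0),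
  Rule.mk (nat_lit 14) (nat_lit 117) (Steps.bwd (nat_lit 4) (Steps.fwd (nat_lit 36864) (Steps.fwd (nat_lit 16384) (Steps.bwd (nat_lit 9) (Steps.bwd (nat_lit 11) (Steps.bwd (nat_lit 14) (Steps.fwd (nat_lit 28672) Steps.nil))))))) (nat_lit 51) (nat_lit 5),
  Rule.mk (nat_lit 8) (nat_lit 87) (Steps.fwd (nat_lit 57344) (Steps.fwd (nat_lit 32768) (Steps.fwd (nat_lit 65536) (Steps.bwd (nat_lit 15) (Steps.bwd (nat_lit 14) Steps.nil))))) (nat_lit 35) (nat_lit 4),
  Rule.mk (nat_lit 14) (nat_lit 132) (Steps.bwd (nat_lit 1) (Steps.bwd (nat_lit 7) (Steps.bwd (nat_lit 10) (Steps.fwd (nat_lit 45056) (Steps.bwd (nat_lit 13) (Steps.bwd (nat_lit 7) (Steps.bwd (nat_lit 13) (Steps.bwd (nat_lit 2) Steps.nil)))))))) (nat_lit 47) (nat_lit 8),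
  Rule.mk (nat_lit 2) (nat_lit 132) (Steps.bwd (nat_lit 14) (Steps.fwd (nat_lit 8192) (Steps.bwd (nat_lit 7) (Steps.fwd (nat_lit 36864) (Steps.bwd (nat_lit 12) (Steps.bwd (nat_lit 13) (Steps.fwd (nat_lit 32768) (Steps.fwd (nat_lit 57344) Steps.nil)))))))) (nat_lit 47) (nat_lit 7),
  Rule.mk (nat_lit 4) (nat_lit 87) (Steps.fwd (nat_lit 8192) (Steps.bwd (nat_lit 1) (Steps.bwd (nat_lit 3) (Steps.fwd (nat_lit 4096) (Steps.bwd (nat_lit 2) Steps.nil))))) (nat_lit 6) (nat_lit 3),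
  Rule.mk (nat_lit 2) (nat_lit 132) (Steps.bwd (nat_lit 14) (Steps.bwd (nat_lit 1) (Steps.fwd (nat_lit 32768) (Steps.fwd (nat_lit 36864) (Steps.bwd (nat_lit 12) (Steps.bwd (nat_lit 13) (Steps.fwd (nat_lit 32768) (Steps.bwd (nat_lit 13) Steps.nil)))))))) (nat_lit 47) (nat_lit 7),
  Rule.mk (nat_lit 12) (nat_lit 102) (Steps.bwd (nat_lit 1) (Steps.fwd (nat_lit 45056) (Steps.fwd (nat_lit 45056) (Steps.fwd (nat_lit 32768) (Steps.bwd (nat_lit 13) (Steps.bwd (nat_lit 2) Steps.nil)))))) (nat_lit 45) (nat_lit 6),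
  Rule.mk (nat_lit 12) (nat_lit 102) (Steps.bwd (nat_lit 1) (Steps.bwd (nat_lit 12) (Steps.bwd (nat_lit 12) (Steps.bwd (nat_lit 7) (Steps.fwd (nat_lit 57344) (Steps.bwd (nat_lit 2) Steps.nil)))))) (nat_lit 45) (nat_lit 6),
  Rule.mk (nat_lit 11) (nat_lit 117) (Steps.bwd (nat_lit 14) (Steps.bwd (nat_lit 8) (Steps.bwd (nat_lit 14) (Steps.bwd (nat_lit 4) (Steps.bwd (nat_lit 10) (Steps.fwd (nat_lit 16384) (Steps.bwd (nat_lit 9) Steps.nil))))))) (nat_lit 51) (nat_lit 2),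
  Rule.mk (nat_lit 8) (nat_lit 132) (Steps.bwd (nat_lit 14) (Steps.bwd (nat_lit 11) (Steps.fwd (nat_lit 40960) (Steps.fwd (nat_lit 28672) (Steps.fwd (nat_lit 4096) (Steps.bwd (nat_lit 13) (Steps.bwd (nat_lit 1) (Steps.bwd (nat_lit 14) Steps.nil)))))))) (nat_lit 46) (nat_lit 5),
  Rule.mk (nat_lit 4) (nat_lit 117) (Steps.fwd (nat_lit 49152) (Steps.bwd (nat_lit 3) (Steps.fwd (nat_lit 49152) (Steps.bwd (nat_lit 11) (Steps.bwd (nat_lit 14) (Steps.bwd (nat_lit 8) (Steps.bwd (nat_lit 8) Steps.nil))))))) (nat_lit 52) (nat_lit 1),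
  Rule.mk (nat_lit 11) (nat_lit 102) (Steps.bwd (nat_lit 2) (Steps.bwd (nat_lit 11) (Steps.bwd (nat_lit 1) (Steps.fwd (nat_lit 53248) (Steps.fwd (nat_lit 28672) (Steps.fwd (nat_lit 49152) Steps.nil)))))) (nat_lit 44) (nat_lit 0),
  Rule.mk (nat_lit 8) (nat_lit 132) (Steps.bwd (nat_lit 2) (Steps.bwd (nat_lit 13) (Steps.fwd (nat_lit 8192) (Steps.fwd (nat_lit 53248) (Steps.bwd (nat_lit 8) (Steps.fwd (nat_lit 53248) (Steps.fwd (nat_lit 49152) (Steps.bwd (nat_lit 9) Steps.nil)))))))) (nat_lit 46) (nat_lit 0),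
  Rule.mk (nat_lit 4) (nat_lit 177) (Steps.fwd (nat_lit 4096) (Steps.fwd (nat_lit 16384) (Steps.bwd (nat_lit 1) (Steps.bwd (nat_lit 4) (Steps.bwd (nat_lit 2) (Steps.fwd (nat_lit 16384) (Steps.fwd (nat_lit 8192) (Steps.fwd (nat_lit 12288) (Steps.fwd (nat_lit 4096) (Steps.fwd (nat_lit 16384) (Steps.bwd (nat_lit 1) Steps.nil))))))))))) (nat_lit 9) (nat_lit 1),
  Rule.mk (nat_lit 9) (nat_lit 117) (Steps.bwd (nat_lit 3) (Steps.fwd (nat_lit 57344) (Steps.bwd (nat_lit 7) (Steps.fwd (nat_lit 57344) (Steps.bwd (nat_lit 12) (Steps.bwd (nat_lit 10) (Steps.bwd (nat_lit 4) Steps.nil))))))) (nat_lit 50) (nat_lit 2),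
  Rule.mk (nat_lit 11) (nat_lit 117) (Steps.bwd (nat_lit 11) (Steps.bwd (nat_lit 14) (Steps.fwd (nat_lit 28672) (Steps.fwd (nat_lit 28672) (Steps.fwd (nat_lit 12288) (Steps.bwd (nat_lit 11) (Steps.fwd (nat_lit 16384) Steps.nil))))))) (nat_lit 52) (nat_lit 4),
  Rule.mk (nat_lit 2) (nat_lit 177) (Steps.bwd (nat_lit 3) (Steps.fwd (nat_lit 8192) (Steps.bwd (nat_lit 4) (Steps.bwd (nat_lit 2) (Steps.fwd (nat_lit 16384) (Steps.fwd (nat_lit 8192) (Steps.fwd (nat_lit 12288) (Steps.fwd (nat_lit 4096) (Steps.bwd (nat_lit 3) (Steps.bwd (nat_lit 1) (Steps.fwd (nat_lit 12288) Steps.nil))))))))))) (nat_lit 9) (nat_lit 2),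
  Rule.mk (nat_lit 12) (nat_lit 102) (Steps.bwd (nat_lit 12) (Steps.bwd (nat_lit 7) (Steps.bwd (nat_lit 13) (Steps.bwd (nat_lit 2) (Steps.bwd (nat_lit 12) (Steps.fwd (nat_lit 8192) Steps.nil)))))) (nat_lit 45) (nat_lit 1),
  Rule.mk (nat_lit 7) (nat_lit 117) (Steps.fwd (nat_lit 57344) (Steps.fwd (nat_lit 45056) (Steps.fwd (nat_lit 36864) (Steps.bwd (nat_lit 4) (Steps.bwd (nat_lit 9) (Steps.bwd (nat_lit 3) (Steps.bwd (nat_lit 13) Steps.nil))))))) (nat_lit 50) (nat_lit 5)]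
noncomputable def R_44 : List (Rule) := [Rule.mk (nat_lit 1) (nat_lit 117) (Steps.bwd (nat_lit 3) (Steps.bwd (nat_lit 1) (Steps.bwd (nat_lit 3) (Steps.fwd (nat_lit 8192) (Steps.bwd (nat_lit 3) (Steps.fwd (nat_lit 8192) (Steps.bwd (nat_lit 3) Steps.nil))))))) (nat_lit 4) (nat_lit 1),
  Rule.mk (nat_lit 11) (nat_lit 117) (Steps.bwd (nat_lit 11) (Steps.fwd (nat_lit 53248) (Steps.bwd (nat_lit 8) (Steps.bwd (nat_lit 8) (Steps.fwd (nat_lit 12288) (Steps.fwd (nat_lit 49152) (Steps.fwd (nat_lit 16384) Steps.nil))))))) (nat_lit 52) (nat_lit 4),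
  Rule.mk (nat_lit 12) (nat_lit 117) (Steps.fwd (nat_lit 16384) (Steps.bwd (nat_lit 7) (Steps.fwd (nat_lit 32768) (Steps.bwd (nat_lit 13) (Steps.fwd (nat_lit 45056) (Steps.fwd (nat_lit 45056) (Steps.bwd (nat_lit 4) Steps.nil))))))) (nat_lit 53) (nat_lit 7),
  Rule.mk (nat_lit 2) (nat_lit 72) (Steps.bwd (nat_lit 9) (Steps.fwd (nat_lit 8192) (Steps.fwd (nat_lit 32768) (Steps.fwd (nat_lit 32768) Steps.nil)))) (nat_lit 42) (nat_lit 1),
  Rule.mk (nat_lit 4) (nat_lit 117) (Steps.bwd (nat_lit 9) (Steps.fwd (nat_lit 16384) (Steps.bwd (nat_lit 13) (Steps.fwd (nat_lit 32768) (Steps.fwd (nat_lit 57344) (Steps.bwd (nat_lit 12) (Steps.bwd (nat_lit 10) Steps.nil))))))) (nat_lit 50) (nat_lit 1),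
  Rule.mk (nat_lit 3) (nat_lit 117) (Steps.bwd (nat_lit 9) (Steps.bwd (nat_lit 11) (Steps.bwd (nat_lit 14) (Steps.fwd (nat_lit 28672) (Steps.bwd (nat_lit 14) (Steps.fwd (nat_lit 12288) (Steps.bwd (nat_lit 10) Steps.nil))))))) (nat_lit 51) (nat_lit 0),
  Rule.mk (nat_lit 7) (nat_lit 132) (Steps.bwd (nat_lit 10) (Steps.fwd (nat_lit 45056) (Steps.bwd (nat_lit 13) (Steps.bwd (nat_lit 7) (Steps.fwd (nat_lit 57344) (Steps.fwd (nat_lit 4096) (Steps.bwd (nat_lit 14) (Steps.bwd (nat_lit 1) Steps.nil)))))))) (nat_lit 47) (nat_lit 1),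
  Rule.mk (nat_lit 11) (nat_lit 87) (Steps.bwd (nat_lit 7) (Steps.fwd (nat_lit 61440) (Steps.bwd (nat_lit 16) (Steps.fwd (nat_lit 45056) (Steps.fwd (nat_lit 28672) Steps.nil))))) (nat_lit 33) (nat_lit 5),
  Rule.mk (nat_lit 12) (nat_lit 102) (Steps.bwd (nat_lit 7) (Steps.bwd (nat_lit 13) (Steps.fwd (nat_lit 4096) (Steps.bwd (nat_lit 12) (Steps.bwd (nat_lit 1) (Steps.bwd (nat_lit 12) Steps.nil)))))) (nat_lit 45) (nat_lit 2),
  Rule.mk (nat_lit 13) (nat_lit 117) (Steps.bwd (nat_lit 7) (Steps.bwd (nat_lit 13) (Steps.bwd (nat_lit 12) (Steps.bwd (nat_lit 10) (Steps.fwd (nat_lit 12288) (Steps.fwd (nat_lit 40960) (Steps.bwd (nat_lit 3) Steps.nil))))))) (nat_lit 50) (nat_lit 4),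
  Rule.mk (nat_lit 3) (nat_lit 117) (Steps.bwd (nat_lit 7) (Steps.fwd (nat_lit 32768) (Steps.fwd (nat_lit 57344) (Steps.bwd (nat_lit 12) (Steps.fwd (nat_lit 45056) (Steps.bwd (nat_lit 4) (Steps.fwd (nat_lit 45056) Steps.nil))))))) (nat_lit 53) (nat_lit 0),
  Rule.mk (nat_lit 1) (nat_lit 132) (Steps.bwd (nat_lit 14) (Steps.fwd (nat_lit 28672) (Steps.bwd (nat_lit 14) (Steps.fwd (nat_lit 49152) (Steps.fwd (nat_lit 40960) (Steps.fwd (nat_lit 28672) (Steps.bwd (nat_lit 2) (Steps.bwd (nat_lit 13) Steps.nil)))))))) (nat_lit 46) (nat_lit 3),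
  Rule.mk (nat_lit 3) (nat_lit 117) (Steps.fwd (nat_lit 32768) (Steps.fwd (nat_lit 32768) (Steps.bwd (nat_lit 13) (Steps.bwd (nat_lit 12) (Steps.bwd (nat_lit 12) (Steps.fwd (nat_lit 12288) (Steps.bwd (nat_lit 12) Steps.nil))))))) (nat_lit 53) (nat_lit 0),
  Rule.mk (nat_lit 12) (nat_lit 102) (Steps.bwd (nat_lit 1) (Steps.bwd (nat_lit 12) (Steps.bwd (nat_lit 12) (Steps.fwd (nat_lit 32768) (Steps.fwd (nat_lit 57344) (Steps.fwd (nat_lit 4096) Steps.nil)))))) (nat_lit 45) (nat_lit 6),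
  Rule.mk (nat_lit 14) (nat_lit 132) (Steps.bwd (nat_lit 1) (Steps.fwd (nat_lit 32768) (Steps.bwd (nat_lit 10) (Steps.fwd (nat_lit 45056) (Steps.bwd (nat_lit 13) (Steps.bwd (nat_lit 7) (Steps.bwd (nat_lit 13) (Steps.bwd (nat_lit 2) Steps.nil)))))))) (nat_lit 47) (nat_lit 8),
  Rule.mk (nat_lit 7) (nat_lit 87) (Steps.fwd (nat_lit 57344) (Steps.bwd (nat_lit 16) (Steps.fwd (nat_lit 61440) (Steps.bwd (nat_lit 8) (Steps.bwd (nat_lit 14) Steps.nil))))) (nat_lit 34) (nat_lit 3),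
  Rule.mk (nat_lit 11) (nat_lit 117) (Steps.bwd (nat_lit 3) (Steps.bwd (nat_lit 11) (Steps.fwd (nat_lit 49152) (Steps.bwd (nat_lit 14) (Steps.fwd (nat_lit 28672) (Steps.bwd (nat_lit 8) (Steps.bwd (nat_lit 4) Steps.nil))))))) (nat_lit 52) (nat_lit 2),
  Rule.mk (nat_lit 8) (nat_lit 117) (Steps.bwd (nat_lit 14) (Steps.fwd (nat_lit 12288) (Steps.bwd (nat_lit 10) (Steps.bwd (nat_lit 3) (Steps.fwd (nat_lit 40960) (Steps.bwd (nat_lit 11) (Steps.fwd (nat_lit 53248) Steps.nil))))))) (nat_lit 51) (nat_lit 4),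
  Rule.mk (nat_lit 11) (nat_lit 117) (Steps.bwd (nat_lit 3) (Steps.fwd (nat_lit 49152) (Steps.fwd (nat_lit 49152) (Steps.bwd (nat_lit 14) (Steps.fwd (nat_lit 28672) (Steps.fwd (nat_lit 28672) (Steps.fwd (nat_lit 12288) Steps.nil))))))) (nat_lit 52) (nat_lit 2),
  Rule.mk (nat_lit 1) (nat_lit 177) (Steps.bwd (nat_lit 3) (Steps.bwd (nat_lit 2) (Steps.fwd (nat_lit 12288) (Steps.bwd (nat_lit 1) (Steps.fwd (nat_lit 16384) (Steps.bwd (nat_lit 2) (Steps.bwd (nat_lit 4) (Steps.fwd (nat_lit 8192) (Steps.bwd (nat_lit 3) (Steps.fwd (nat_lit 4096) (Steps.bwd (nat_lit 4) Steps.nil))))))))))) (nat_lit 8) (nat_lit 3),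
  Rule.mk (nat_lit 2) (nat_lit 177) (Steps.bwd (nat_lit 3) (Steps.fwd (nat_lit 8192) (Steps.fwd (nat_lit 12288) (Steps.fwd (nat_lit 4096) (Steps.fwd (nat_lit 16384) (Steps.fwd (nat_lit 8192) (Steps.fwd (nat_lit 12288) (Steps.fwd (nat_lit 4096) (Steps.bwd (nat_lit 3) (Steps.bwd (nat_lit 1) (Steps.bwd (nat_lit 4) Steps.nil))))))))))) (nat_lit 9) (nat_lit 2),
  Rule.mk (nat_lit 4) (nat_lit 117) (Steps.bwd (nat_lit 11) (Steps.fwd (nat_lit 16384) (Steps.fwd (nat_lit 49152) (Steps.fwd (nat_lit 49152) (Steps.fwd (nat_lit 53248) (Steps.bwd (nat_lit 8) (Steps.bwd (nat_lit 8) Steps.nil))))))) (nat_lit 52) (nat_lit 1),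
  Rule.mk (nat_lit 2) (nat_lit 177) (Steps.fwd (nat_lit 16384) (Steps.bwd (nat_lit 1) (Steps.fwd (nat_lit 12288) (Steps.bwd (nat_lit 2) (Steps.fwd (nat_lit 16384) (Steps.fwd (nat_lit 8192) (Steps.fwd (nat_lit 12288) (Steps.bwd (nat_lit 2) (Steps.bwd (nat_lit 3) (Steps.bwd (nat_lit 1) (Steps.bwd (nat_lit 4) Steps.nil))))))))))) (nat_lit 9) (nat_lit 2),
  Rule.mk (nat_lit 8) (nat_lit 117) (Steps.bwd (nat_lit 4) (Steps.fwd (nat_lit 49152) (Steps.bwd (nat_lit 3) (Steps.bwd (nat_lit 11) (Steps.fwd (nat_lit 49152) (Steps.bwd (nat_lit 14) (Steps.bwd (nat_lit 8) Steps.nil))))))) (nat_lit 52) (nat_lit 0),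
  Rule.mk (nat_lit 13) (nat_lit 132) (Steps.bwd (nat_lit 1) (Steps.bwd (nat_lit 14) (Steps.fwd (nat_lit 28672) (Steps.fwd (nat_lit 53248) (Steps.bwd (nat_lit 11) (Steps.bwd (nat_lit 9) (Steps.fwd (nat_lit 28672) (Steps.bwd (nat_lit 2) Steps.nil)))))))) (nat_lit 46) (nat_lit 2),
  Rule.mk (nat_lit 14) (nat_lit 132) (Steps.bwd (nat_lit 1) (Steps.fwd (nat_lit 32768) (Steps.fwd (nat_lit 36864) (Steps.fwd (nat_lit 45056) (Steps.fwd (nat_lit 57344) (Steps.bwd (nat_lit 7) (Steps.bwd (nat_lit 13) (Steps.bwd (nat_lit 2) Steps.nil)))))))) (nat_lit 47) (nat_lit 8),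
  Rule.mk (nat_lit 11) (nat_lit 102) (Steps.bwd (nat_lit 2) (Steps.fwd (nat_lit 49152) (Steps.bwd (nat_lit 1) (Steps.fwd (nat_lit 53248) (Steps.bwd (nat_lit 8) (Steps.bwd (nat_lit 11) Steps.nil)))))) (nat_lit 44) (nat_lit 0),
  Rule.mk (nat_lit 8) (nat_lit 132) (Steps.bwd (nat_lit 2) (Steps.bwd (nat_lit 13) (Steps.bwd (nat_lit 1) (Steps.fwd (nat_lit 53248) (Steps.bwd (nat_lit 8) (Steps.bwd (nat_lit 14) (Steps.fwd (nat_lit 49152) (Steps.fwd (nat_lit 40960) Steps.nil)))))))) (nat_lit 46) (nat_lit 0),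
  Rule.mk (nat_lit 12) (nat_lit 117) (Steps.bwd (nat_lit 12) (Steps.bwd (nat_lit 4) (Steps.fwd (nat_lit 45056) (Steps.fwd (nat_lit 16384) (Steps.bwd (nat_lit 7) (Steps.fwd (nat_lit 32768) (Steps.fwd (nat_lit 57344) Steps.nil))))))) (nat_lit 53) (nat_lit 4),
  Rule.mk (nat_lit 1) (nat_lit 102) (Steps.bwd (nat_lit 12) (Steps.fwd (nat_lit 45056) (Steps.bwd (nat_lit 7) (Steps.bwd (nat_lit 13) (Steps.bwd (nat_lit 2) (Steps.bwd (nat_lit 12) Steps.nil)))))) (nat_lit 45) (nat_lit 0),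
  Rule.mk (nat_lit 11) (nat_lit 102) (Steps.fwd (nat_lit 8192) (Steps.bwd (nat_lit 14) (Steps.fwd (nat_lit 28672) (Steps.fwd (nat_lit 49152) (Steps.bwd (nat_lit 11) (Steps.bwd (nat_lit 2) Steps.nil)))))) (nat_lit 44) (nat_lit 2),
  Rule.mk (nat_lit 12) (nat_lit 117) (Steps.bwd (nat_lit 12) (Steps.fwd (nat_lit 12288) (Steps.fwd (nat_lit 45056) (Steps.fwd (nat_lit 16384) (Steps.bwd (nat_lit 7) (Steps.fwd (nat_lit 32768) (Steps.bwd (nat_lit 13) Steps.nil))))))) (nat_lit 53) (nat_lit 4),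
  Rule.mk (nat_lit 11) (nat_lit 102) (Steps.bwd (nat_lit 1) (Steps.bwd (nat_lit 14) (Steps.bwd (nat_lit 8) (Steps.fwd (nat_lit 49152) (Steps.fwd (nat_lit 49152) (Steps.fwd (nat_lit 4096) Steps.nil)))))) (nat_lit 44) (nat_lit 2),
  Rule.mk (nat_lit 14) (nat_lit 117) (Steps.fwd (nat_lit 28672) (Steps.fwd (nat_lit 53248) (Steps.fwd (nat_lit 12288) (Steps.bwd (nat_lit 10) (Steps.fwd (nat_lit 16384) (Steps.bwd (nat_lit 9) (Steps.bwd (nat_lit 11) Steps.nil))))))) (nat_lit 51) (nat_lit 3),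
  Rule.mk (nat_lit 7) (nat_lit 117) (Steps.bwd (nat_lit 7) (Steps.bwd (nat_lit 13) (Steps.fwd (nat_lit 45056) (Steps.fwd (nat_lit 45056) (Steps.fwd (nat_lit 12288) (Steps.bwd (nat_lit 12) (Steps.bwd (nat_lit 3) Steps.nil))))))) (nat_lit 53) (nat_lit 1),
  Rule.mk (nat_lit 13) (nat_lit 132) (Steps.bwd (nat_lit 2) (Steps.fwd (nat_lit 53248) (Steps.fwd (nat_lit 8192) (Steps.bwd (nat_lit 7) (Steps.bwd (nat_lit 10) (Steps.bwd (nat_lit 12) (Steps.fwd (nat_lit 57344) (Steps.bwd (nat_lit 7) Steps.nil)))))))) (nat_lit 47) (nat_lit 6),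
  Rule.mk (nat_lit 8) (nat_lit 117) (Steps.fwd (nat_lit 53248) (Steps.fwd (nat_lit 12288) (Steps.bwd (nat_lit 10) (Steps.fwd (nat_lit 16384) (Steps.bwd (nat_lit 9) (Steps.fwd (nat_lit 49152) (Steps.bwd (nat_lit 14) Steps.nil))))))) (nat_lit 51) (nat_lit 4),
  Rule.mk (nat_lit 2) (nat_lit 87) (Steps.bwd (nat_lit 2) (Steps.fwd (nat_lit 16384) (Steps.fwd (nat_lit 8192) (Steps.fwd (nat_lit 8192) (Steps.fwd (nat_lit 12288) Steps.nil))))) (nat_lit 7) (nat_lit 2),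
  Rule.mk (nat_lit 10) (nat_lit 117) (Steps.bwd (nat_lit 3) (Steps.bwd (nat_lit 9) (Steps.fwd (nat_lit 49152) (Steps.fwd (nat_lit 53248) (Steps.bwd (nat_lit 8) (Steps.bwd (nat_lit 14) (Steps.fwd (nat_lit 12288) Steps.nil))))))) (nat_lit 51) (nat_lit 7),
  Rule.mk (nat_lit 8) (nat_lit 72) (Steps.fwd (nat_lit 40960) (Steps.fwd (nat_lit 32768) (Steps.bwd (nat_lit 15) (Steps.bwd (nat_lit 10) Steps.nil)))) (nat_lit 18) (nat_lit 3),
  Rule.mk (nat_lit 11) (nat_lit 102) (Steps.bwd (nat_lit 2) (Steps.fwd (nat_lit 49152) (Steps.bwd (nat_lit 1) (Steps.bwd (nat_lit 14) (Steps.fwd (nat_lit 28672) (Steps.bwd (nat_lit 11) Steps.nil)))))) (nat_lit 44) (nat_lit 0),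
  Rule.mk (nat_lit 14) (nat_lit 117) (Steps.fwd (nat_lit 28672) (Steps.bwd (nat_lit 14) (Steps.fwd (nat_lit 12288) (Steps.bwd (nat_lit 10) (Steps.fwd (nat_lit 16384) (Steps.fwd (nat_lit 40960) (Steps.bwd (nat_lit 11) Steps.nil))))))) (nat_lit 51) (nat_lit 3),
  Rule.mk (nat_lit 15) (nat_lit 72) (Steps.fwd (nat_lit 8192) (Steps.fwd (nat_lit 61440) (Steps.fwd (nat_lit 61440) (Steps.bwd (nat_lit 2) Steps.nil)))) (nat_lit 48) (nat_lit 2),
  Rule.mk (nat_lit 3) (nat_lit 87) (Steps.fwd (nat_lit 8192) (Steps.bwd (nat_lit 1) (Steps.fwd (nat_lit 12288) (Steps.bwd (nat_lit 2) (Steps.bwd (nat_lit 2) Steps.nil))))) (nat_lit 7) (nat_lit 4),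
  Rule.mk (nat_lit 14) (nat_lit 132) (Steps.fwd (nat_lit 8192) (Steps.fwd (nat_lit 32768) (Steps.fwd (nat_lit 36864) (Steps.bwd (nat_lit 12) (Steps.bwd (nat_lit 13) (Steps.fwd (nat_lit 32768) (Steps.fwd (nat_lit 57344) (Steps.bwd (nat_lit 2) Steps.nil)))))))) (nat_lit 47) (nat_lit 8),
  Rule.mk (nat_lit 9) (nat_lit 117) (Steps.bwd (nat_lit 3) (Steps.fwd (nat_lit 57344) (Steps.fwd (nat_lit 32768) (Steps.fwd (nat_lit 57344) (Steps.bwd (nat_lit 12) (Steps.fwd (nat_lit 36864) (Steps.fwd (nat_lit 12288) Steps.nil))))))) (nat_lit 50) (nat_lit 2),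
  Rule.mk (nat_lit 15) (nat_lit 57) (Steps.fwd (nat_lit 16384) (Steps.fwd (nat_lit 61440) (Steps.bwd (nat_lit 4) Steps.nil))) (nat_lit 54) (nat_lit 2),
  Rule.mk (nat_lit 9) (nat_lit 117) (Steps.bwd (nat_lit 3) (Steps.bwd (nat_lit 13) (Steps.bwd (nat_lit 7) (Steps.bwd (nat_lit 13) (Steps.fwd (nat_lit 45056) (Steps.fwd (nat_lit 36864) (Steps.bwd (nat_lit 4) Steps.nil))))))) (nat_lit 50) (nat_lit 2),
  Rule.mk (nat_lit 10) (nat_lit 117) (Steps.fwd (nat_lit 16384) (Steps.bwd (nat_lit 9) (Steps.fwd (nat_lit 49152) (Steps.bwd (nat_lit 14) (Steps.bwd (nat_lit 8) (Steps.bwd (nat_lit 14) (Steps.bwd (nat_lit 4) Steps.nil))))))) (nat_lit 51) (nat_lit 7),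
  Rule.mk (nat_lit 1) (nat_lit 87) (Steps.bwd (nat_lit 4) (Steps.fwd (nat_lit 4096) (Steps.bwd (nat_lit 2) (Steps.fwd (nat_lit 16384) (Steps.fwd (nat_lit 8192) Steps.nil))))) (nat_lit 7) (nat_lit 0),
  Rule.mk (nat_lit 8) (nat_lit 117) (Steps.bwd (nat_lit 4) (Steps.fwd (nat_lit 49152) (Steps.fwd (nat_lit 16384) (Steps.bwd (nat_lit 11) (Steps.bwd (nat_lit 11) (Steps.bwd (nat_lit 14) (Steps.bwd (nat_lit 8) Steps.nil))))))) (nat_lit 52) (nat_lit 0),
  Rule.mk (nat_lit 12) (nat_lit 87) (Steps.fwd (nat_lit 32768) (Steps.fwd (nat_lit 49152) (Steps.bwd (nat_lit 15) (Steps.fwd (nat_lit 65536) (Steps.bwd (nat_lit 8) Steps.nil))))) (nat_lit 32) (nat_lit 2),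
  Rule.mk (nat_lit 2) (nat_lit 132) (Steps.bwd (nat_lit 14) (Steps.bwd (nat_lit 1) (Steps.fwd (nat_lit 32768) (Steps.bwd (nat_lit 10) (Steps.bwd (nat_lit 12) (Steps.fwd (nat_lit 57344) (Steps.fwd (nat_lit 32768) (Steps.bwd (nat_lit 13) Steps.nil)))))))) (nat_lit 47) (nat_lit 7),
  Rule.mk (nat_lit 14) (nat_lit 117) (Steps.bwd (nat_lit 8) (Steps.fwd (nat_lit 53248) (Steps.fwd (nat_lit 12288) (Steps.fwd (nat_lit 36864) (Steps.bwd (nat_lit 3) (Steps.bwd (nat_lit 9) (Steps.bwd (nat_lit 11) Steps.nil))))))) (nat_lit 51) (nat_lit 3),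
  Rule.mk (nat_lit 14) (nat_lit 132) (Steps.fwd (nat_lit 8192) (Steps.fwd (nat_lit 32768) (Steps.fwd (nat_lit 36864) (Steps.fwd (nat_lit 45056) (Steps.fwd (nat_lit 57344) (Steps.fwd (nat_lit 32768) (Steps.fwd (nat_lit 57344) (Steps.bwd (nat_lit 2) Steps.nil)))))))) (nat_lit 47) (nat_lit 8),
  Rule.mk (nat_lit 13) (nat_lit 117) (Steps.bwd (nat_lit 12) (Steps.fwd (nat_lit 36864) (Steps.fwd (nat_lit 12288) (Steps.bwd (nat_lit 9) (Steps.fwd (nat_lit 16384) (Steps.fwd (nat_lit 57344) (Steps.fwd (nat_lit 32768) Steps.nil))))))) (nat_lit 50) (nat_lit 6),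
  Rule.mk (nat_lit 4) (nat_lit 117) (Steps.bwd (nat_lit 12) (Steps.bwd (nat_lit 3) (Steps.fwd (nat_lit 32768) (Steps.fwd (nat_lit 32768) (Steps.bwd (nat_lit 13) (Steps.fwd (nat_lit 45056) (Steps.fwd (nat_lit 45056) Steps.nil))))))) (nat_lit 53) (nat_lit 6),
  Rule.mk (nat_lit 10) (nat_lit 132) (Steps.bwd (nat_lit 12) (Steps.bwd (nat_lit 13) (Steps.bwd (nat_lit 7) (Steps.fwd (nat_lit 57344) (Steps.fwd (nat_lit 4096) (Steps.fwd (nat_lit 53248) (Steps.fwd (nat_lit 8192) (Steps.bwd (nat_lit 7) Steps.nil)))))))) (nat_lit 47) (nat_lit 2),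
  Rule.mk (nat_lit 11) (nat_lit 102) (Steps.bwd (nat_lit 11) (Steps.bwd (nat_lit 2) (Steps.fwd (nat_lit 49152) (Steps.fwd (nat_lit 8192) (Steps.bwd (nat_lit 14) (Steps.bwd (nat_lit 8) Steps.nil)))))) (nat_lit 44) (nat_lit 6),
  Rule.mk (nat_lit 13) (nat_lit 102) (Steps.bwd (nat_lit 2) (Steps.bwd (nat_lit 12) (Steps.bwd (nat_lit 1) (Steps.bwd (nat_lit 12) (Steps.fwd (nat_lit 45056) (Steps.bwd (nat_lit 7) Steps.nil)))))) (nat_lit 45) (nat_lit 4),
  Rule.mk (nat_lit 8) (nat_lit 132) (Steps.bwd (nat_lit 2) (Steps.fwd (nat_lit 57344) (Steps.bwd (nat_lit 1) (Steps.bwd (nat_lit 14) (Steps.bwd (nat_lit 8) (Steps.bwd (nat_lit 14) (Steps.fwd (nat_lit 49152) (Steps.bwd (nat_lit 9) Steps.nil)))))))) (nat_lit 46) (nat_lit 0),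
  Rule.mk (nat_lit 10) (nat_lit 117) (Steps.bwd (nat_lit 3) (Steps.bwd (nat_lit 9) (Steps.bwd (nat_lit 11) (Steps.bwd (nat_lit 14) (Steps.fwd (nat_lit 28672) (Steps.fwd (nat_lit 53248) (Steps.bwd (nat_lit 4) Steps.nil))))))) (nat_lit 51) (nat_lit 7),
  Rule.mk (nat_lit 4) (nat_lit 117) (Steps.bwd (nat_lit 9) (Steps.bwd (nat_lit 3) (Steps.bwd (nat_lit 13) (Steps.bwd (nat_lit 7) (Steps.fwd (nat_lit 57344) (Steps.fwd (nat_lit 45056) (Steps.bwd (nat_lit 10) Steps.nil))))))) (nat_lit 50) (nat_lit 1),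
  Rule.mk (nat_lit 4) (nat_lit 117) (Steps.bwd (nat_lit 2) (Steps.fwd (nat_lit 12288) (Steps.bwd (nat_lit 2) (Steps.fwd (nat_lit 12288) (Steps.bwd (nat_lit 2) (Steps.fwd (nat_lit 12288) (Steps.fwd (nat_lit 4096) Steps.nil))))))) (nat_lit 5) (nat_lit 1)]
noncomputable def R_45 : List (Rule) := [Rule.mk (nat_lit 3) (nat_lit 177) (Steps.bwd (nat_lit 2) (Steps.fwd (nat_lit 12288) (Steps.bwd (nat_lit 1) (Steps.bwd (nat_lit 3) (Steps.bwd (nat_lit 2) (Steps.bwd (nat_lit 4) (Steps.bwd (nat_lit 1) (Steps.fwd (nat_lit 16384) (Steps.bwd (nat_lit 2) (Steps.fwd (nat_lit 12288) (Steps.fwd (nat_lit 8192) Steps.nil))))))))))) (nat_lit 8) (nat_lit 0),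
  Rule.mk (nat_lit 3) (nat_lit 117) (Steps.bwd (nat_lit 7) (Steps.fwd (nat_lit 32768) (Steps.fwd (nat_lit 57344) (Steps.bwd (nat_lit 12) (Steps.bwd (nat_lit 12) (Steps.fwd (nat_lit 12288) (Steps.fwd (nat_lit 45056) Steps.nil))))))) (nat_lit 53) (nat_lit 0),
  Rule.mk (nat_lit 13) (nat_lit 72) (Steps.bwd (nat_lit 15) (Steps.fwd (nat_lit 45056) (Steps.bwd (nat_lit 14) (Steps.fwd (nat_lit 49152) Steps.nil)))) (nat_lit 40) (nat_lit 4),
  Rule.mk (nat_lit 13) (nat_lit 132) (Steps.bwd (nat_lit 1) (Steps.fwd (nat_lit 53248) (Steps.bwd (nat_lit 8) (Steps.bwd (nat_lit 14) (Steps.fwd (nat_lit 49152) (Steps.bwd (nat_lit 9) (Steps.fwd (nat_lit 28672) (Steps.fwd (nat_lit 4096) Steps.nil)))))))) (nat_lit 46) (nat_lit 2),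
  Rule.mk (nat_lit 16) (nat_lit 72) (Steps.bwd (nat_lit 8) (Steps.fwd (nat_lit 36864) (Steps.fwd (nat_lit 32768) (Steps.bwd (nat_lit 9) Steps.nil)))) (nat_lit 19) (nat_lit 0),
  Rule.mk (nat_lit 9) (nat_lit 132) (Steps.bwd (nat_lit 8) (Steps.fwd (nat_lit 4096) (Steps.fwd (nat_lit 57344) (Steps.bwd (nat_lit 1) (Steps.bwd (nat_lit 14) (Steps.fwd (nat_lit 28672) (Steps.fwd (nat_lit 53248) (Steps.bwd (nat_lit 11) Steps.nil)))))))) (nat_lit 46) (nat_lit 8),
  Rule.mk (nat_lit 10) (nat_lit 117) (Steps.bwd (nat_lit 4) (Steps.fwd (nat_lit 40960) (Steps.bwd (nat_lit 3) (Steps.fwd (nat_lit 57344) (Steps.bwd (nat_lit 7) (Steps.fwd (nat_lit 57344) (Steps.fwd (nat_lit 45056) Steps.nil))))))) (nat_lit 50) (nat_lit 0),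
  Rule.mk (nat_lit 8) (nat_lit 117) (Steps.bwd (nat_lit 4) (Steps.bwd (nat_lit 11) (Steps.fwd (nat_lit 16384) (Steps.bwd (nat_lit 11) (Steps.bwd (nat_lit 11) (Steps.fwd (nat_lit 53248) (Steps.bwd (nat_lit 8) Steps.nil))))))) (nat_lit 52) (nat_lit 0),
  Rule.mk (nat_lit 2) (nat_lit 177) (Steps.bwd (nat_lit 4) (Steps.fwd (nat_lit 8192) (Steps.bwd (nat_lit 3) (Steps.bwd (nat_lit 2) (Steps.fwd (nat_lit 12288) (Steps.bwd (nat_lit 1) (Steps.fwd (nat_lit 16384) (Steps.fwd (nat_lit 4096) (Steps.fwd (nat_lit 12288) (Steps.bwd (nat_lit 1) (Steps.fwd (nat_lit 16384) Steps.nil))))))))))) (nat_lit 8) (nat_lit 1),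
  Rule.mk (nat_lit 13) (nat_lit 132) (Steps.fwd (nat_lit 8192) (Steps.fwd (nat_lit 53248) (Steps.bwd (nat_lit 8) (Steps.fwd (nat_lit 53248) (Steps.bwd (nat_lit 11) (Steps.fwd (nat_lit 40960) (Steps.bwd (nat_lit 8) (Steps.bwd (nat_lit 2) Steps.nil)))))))) (nat_lit 46) (nat_lit 2),
  Rule.mk (nat_lit 14) (nat_lit 132) (Steps.fwd (nat_lit 8192) (Steps.fwd (nat_lit 32768) (Steps.bwd (nat_lit 10) (Steps.fwd (nat_lit 45056) (Steps.bwd (nat_lit 13) (Steps.fwd (nat_lit 32768) (Steps.bwd (nat_lit 13) (Steps.bwd (nat_lit 2) Steps.nil)))))))) (nat_lit 47) (nat_lit 8),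
  Rule.mk (nat_lit 11) (nat_lit 102) (Steps.bwd (nat_lit 2) (Steps.bwd (nat_lit 11) (Steps.bwd (nat_lit 1) (Steps.bwd (nat_lit 14) (Steps.bwd (nat_lit 8) (Steps.fwd (nat_lit 49152) Steps.nil)))))) (nat_lit 44) (nat_lit 0),
  Rule.mk (nat_lit 7) (nat_lit 87) (Steps.fwd (nat_lit 65536) (Steps.bwd (nat_lit 15) (Steps.fwd (nat_lit 53248) (Steps.bwd (nat_lit 8) (Steps.bwd (nat_lit 13) Steps.nil))))) (nat_lit 35) (nat_lit 0),
  Rule.mk (nat_lit 3) (nat_lit 117) (Steps.bwd (nat_lit 11) (Steps.bwd (nat_lit 11) (Steps.bwd (nat_lit 14) (Steps.fwd (nat_lit 28672) (Steps.bwd (nat_lit 8) (Steps.fwd (nat_lit 12288) (Steps.fwd (nat_lit 49152) Steps.nil))))))) (nat_lit 52) (nat_lit 3),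
  Rule.mk (nat_lit 12) (nat_lit 117) (Steps.bwd (nat_lit 10) (Steps.bwd (nat_lit 4) (Steps.fwd (nat_lit 40960) (Steps.bwd (nat_lit 3) (Steps.fwd (nat_lit 57344) (Steps.bwd (nat_lit 7) (Steps.bwd (nat_lit 13) Steps.nil))))))) (nat_lit 50) (nat_lit 7),
  Rule.mk (nat_lit 8) (nat_lit 102) (Steps.bwd (nat_lit 11) (Steps.fwd (nat_lit 49152) (Steps.bwd (nat_lit 2) (Steps.fwd (nat_lit 49152) (Steps.bwd (nat_lit 1) (Steps.fwd (nat_lit 53248) Steps.nil)))))) (nat_lit 44) (nat_lit 5),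
  Rule.mk (nat_lit 1) (nat_lit 102) (Steps.bwd (nat_lit 14) (Steps.fwd (nat_lit 28672) (Steps.bwd (nat_lit 11) (Steps.bwd (nat_lit 11) (Steps.bwd (nat_lit 2) (Steps.fwd (nat_lit 49152) Steps.nil)))))) (nat_lit 44) (nat_lit 3),
  Rule.mk (nat_lit 10) (nat_lit 117) (Steps.bwd (nat_lit 3) (Steps.fwd (nat_lit 40960) (Steps.bwd (nat_lit 11) (Steps.fwd (nat_lit 53248) (Steps.fwd (nat_lit 28672) (Steps.bwd (nat_lit 14) (Steps.fwd (nat_lit 12288) Steps.nil))))))) (nat_lit 51) (nat_lit 7),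
  Rule.mk (nat_lit 9) (nat_lit 117) (Steps.bwd (nat_lit 3) (Steps.fwd (nat_lit 57344) (Steps.fwd (nat_lit 32768) (Steps.bwd (nat_lit 13) (Steps.bwd (nat_lit 12) (Steps.fwd (nat_lit 36864) (Steps.bwd (nat_lit 4) Steps.nil))))))) (nat_lit 50) (nat_lit 2),
  Rule.mk (nat_lit 12) (nat_lit 117) (Steps.bwd (nat_lit 3) (Steps.bwd (nat_lit 7) (Steps.bwd (nat_lit 7) (Steps.bwd (nat_lit 13) (Steps.fwd (nat_lit 45056) (Steps.bwd (nat_lit 12) (Steps.bwd (nat_lit 4) Steps.nil))))))) (nat_lit 53) (nat_lit 7),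
  Rule.mk (nat_lit 2) (nat_lit 102) (Steps.bwd (nat_lit 11) (Steps.fwd (nat_lit 8192) (Steps.fwd (nat_lit 53248) (Steps.fwd (nat_lit 28672) (Steps.fwd (nat_lit 49152) (Steps.fwd (nat_lit 49152) Steps.nil)))))) (nat_lit 44) (nat_lit 1),
  Rule.mk (nat_lit 2) (nat_lit 117) (Steps.bwd (nat_lit 4) (Steps.fwd (nat_lit 4096) (Steps.fwd (nat_lit 12288) (Steps.bwd (nat_lit 2) (Steps.bwd (nat_lit 4) (Steps.fwd (nat_lit 4096) (Steps.bwd (nat_lit 4) Steps.nil))))))) (nat_lit 5) (nat_lit 0),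
  Rule.mk (nat_lit 2) (nat_lit 102) (Steps.bwd (nat_lit 12) (Steps.fwd (nat_lit 8192) (Steps.fwd (nat_lit 45056) (Steps.bwd (nat_lit 12) (Steps.bwd (nat_lit 7) (Steps.bwd (nat_lit 13) Steps.nil)))))) (nat_lit 45) (nat_lit 5),
  Rule.mk (nat_lit 4) (nat_lit 117) (Steps.bwd (nat_lit 12) (Steps.fwd (nat_lit 16384) (Steps.fwd (nat_lit 32768) (Steps.fwd (nat_lit 32768) (Steps.fwd (nat_lit 57344) (Steps.fwd (nat_lit 45056) (Steps.bwd (nat_lit 12) Steps.nil))))))) (nat_lit 53) (nat_lit 6),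
  Rule.mk (nat_lit 14) (nat_lit 117) (Steps.bwd (nat_lit 8) (Steps.bwd (nat_lit 14) (Steps.fwd (nat_lit 12288) (Steps.bwd (nat_lit 10) (Steps.fwd (nat_lit 16384) (Steps.bwd (nat_lit 9) (Steps.bwd (nat_lit 11) Steps.nil))))))) (nat_lit 51) (nat_lit 3),
  Rule.mk (nat_lit 3) (nat_lit 117) (Steps.fwd (nat_lit 49152) (Steps.bwd (nat_lit 11) (Steps.fwd (nat_lit 53248) (Steps.fwd (nat_lit 28672) (Steps.fwd (nat_lit 28672) (Steps.fwd (nat_lit 12288) (Steps.bwd (nat_lit 11) Steps.nil))))))) (nat_lit 52) (nat_lit 3),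
  Rule.mk (nat_lit 12) (nat_lit 117) (Steps.bwd (nat_lit 3) (Steps.fwd (nat_lit 32768) (Steps.fwd (nat_lit 32768) (Steps.fwd (nat_lit 57344) (Steps.fwd (nat_lit 45056) (Steps.fwd (nat_lit 45056) (Steps.fwd (nat_lit 12288) Steps.nil))))))) (nat_lit 53) (nat_lit 7),
  Rule.mk (nat_lit 7) (nat_lit 87) (Steps.fwd (nat_lit 49152) (Steps.bwd (nat_lit 15) (Steps.bwd (nat_lit 15) (Steps.fwd (nat_lit 28672) (Steps.bwd (nat_lit 12) Steps.nil))))) (nat_lit 32) (nat_lit 3),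
  Rule.mk (nat_lit 9) (nat_lit 72) (Steps.bwd (nat_lit 16) (Steps.fwd (nat_lit 45056) (Steps.fwd (nat_lit 36864) (Steps.bwd (nat_lit 11) Steps.nil)))) (nat_lit 37) (nat_lit 0),
  Rule.mk (nat_lit 7) (nat_lit 132) (Steps.bwd (nat_lit 10) (Steps.fwd (nat_lit 45056) (Steps.bwd (nat_lit 13) (Steps.bwd (nat_lit 7) (Steps.bwd (nat_lit 13) (Steps.bwd (nat_lit 2) (Steps.bwd (nat_lit 14) (Steps.bwd (nat_lit 1) Steps.nil)))))))) (nat_lit 47) (nat_lit 1),
  Rule.mk (nat_lit 13) (nat_lit 132) (Steps.bwd (nat_lit 1) (Steps.bwd (nat_lit 14) (Steps.fwd (nat_lit 28672) (Steps.bwd (nat_lit 14) (Steps.bwd (nat_lit 11) (Steps.bwd (nat_lit 9) (Steps.bwd (nat_lit 8) (Steps.bwd (nat_lit 2) Steps.nil)))))))) (nat_lit 46) (nat_lit 2),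
  Rule.mk (nat_lit 7) (nat_lit 102) (Steps.bwd (nat_lit 13) (Steps.bwd (nat_lit 2) (Steps.bwd (nat_lit 12) (Steps.fwd (nat_lit 8192) (Steps.bwd (nat_lit 12) (Steps.fwd (nat_lit 45056) Steps.nil)))))) (nat_lit 45) (nat_lit 3),
  Rule.mk (nat_lit 2) (nat_lit 117) (Steps.bwd (nat_lit 4) (Steps.bwd (nat_lit 2) (Steps.fwd (nat_lit 12288) (Steps.bwd (nat_lit 2) (Steps.bwd (nat_lit 4) (Steps.bwd (nat_lit 2) (Steps.bwd (nat_lit 4) Steps.nil))))))) (nat_lit 5) (nat_lit 0),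
  Rule.mk (nat_lit 14) (nat_lit 117) (Steps.bwd (nat_lit 4) (Steps.bwd (nat_lit 10) (Steps.bwd (nat_lit 3) (Steps.fwd (nat_lit 40960) (Steps.fwd (nat_lit 49152) (Steps.bwd (nat_lit 14) (Steps.fwd (nat_lit 28672) Steps.nil))))))) (nat_lit 51) (nat_lit 5),
  Rule.mk (nat_lit 8) (nat_lit 117) (Steps.fwd (nat_lit 53248) (Steps.fwd (nat_lit 12288) (Steps.bwd (nat_lit 10) (Steps.bwd (nat_lit 3) (Steps.bwd (nat_lit 9) (Steps.fwd (nat_lit 49152) (Steps.bwd (nat_lit 14) Steps.nil))))))) (nat_lit 51) (nat_lit 4),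
  Rule.mk (nat_lit 14) (nat_lit 102) (Steps.bwd (nat_lit 8) (Steps.bwd (nat_lit 11) (Steps.bwd (nat_lit 11) (Steps.fwd (nat_lit 4096) (Steps.bwd (nat_lit 11) (Steps.bwd (nat_lit 1) Steps.nil)))))) (nat_lit 44) (nat_lit 4),
  Rule.mk (nat_lit 9) (nat_lit 132) (Steps.bwd (nat_lit 8) (Steps.bwd (nat_lit 2) (Steps.fwd (nat_lit 57344) (Steps.bwd (nat_lit 1) (Steps.bwd (nat_lit 14) (Steps.fwd (nat_lit 28672) (Steps.bwd (nat_lit 14) (Steps.bwd (nat_lit 11) Steps.nil)))))))) (nat_lit 46) (nat_lit 8),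
  Rule.mk (nat_lit 3) (nat_lit 117) (Steps.bwd (nat_lit 13) (Steps.fwd (nat_lit 32768) (Steps.fwd (nat_lit 57344) (Steps.fwd (nat_lit 45056) (Steps.bwd (nat_lit 10) (Steps.bwd (nat_lit 4) (Steps.bwd (nat_lit 9) Steps.nil))))))) (nat_lit 50) (nat_lit 3),
  Rule.mk (nat_lit 12) (nat_lit 117) (Steps.bwd (nat_lit 3) (Steps.bwd (nat_lit 7) (Steps.fwd (nat_lit 32768) (Steps.fwd (nat_lit 57344) (Steps.bwd (nat_lit 12) (Steps.fwd (nat_lit 45056) (Steps.bwd (nat_lit 4) Steps.nil))))))) (nat_lit 53) (nat_lit 7),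
  Rule.mk (nat_lit 13) (nat_lit 132) (Steps.fwd (nat_lit 8192) (Steps.fwd (nat_lit 53248) (Steps.fwd (nat_lit 28672) (Steps.bwd (nat_lit 14) (Steps.fwd (nat_lit 49152) (Steps.bwd (nat_lit 9) (Steps.fwd (nat_lit 28672) (Steps.bwd (nat_lit 2) Steps.nil)))))))) (nat_lit 46) (nat_lit 2),
  Rule.mk (nat_lit 3) (nat_lit 117) (Steps.bwd (nat_lit 7) (Steps.fwd (nat_lit 32768) (Steps.bwd (nat_lit 13) (Steps.fwd (nat_lit 45056) (Steps.fwd (nat_lit 45056) (Steps.fwd (nat_lit 12288) (Steps.bwd (nat_lit 12) Steps.nil))))))) (nat_lit 53) (nat_lit 0),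
  Rule.mk (nat_lit 1) (nat_lit 87) (Steps.fwd (nat_lit 12288) (Steps.bwd (nat_lit 2) (Steps.fwd (nat_lit 4096) (Steps.fwd (nat_lit 16384) (Steps.bwd (nat_lit 1) Steps.nil))))) (nat_lit 7) (nat_lit 0),
  Rule.mk (nat_lit 1) (nat_lit 102) (Steps.fwd (nat_lit 53248) (Steps.fwd (nat_lit 28672) (Steps.fwd (nat_lit 49152) (Steps.fwd (nat_lit 49152) (Steps.bwd (nat_lit 2) (Steps.bwd (nat_lit 11) Steps.nil)))))) (nat_lit 44) (nat_lit 3),
  Rule.mk (nat_lit 7) (nat_lit 132) (Steps.bwd (nat_lit 10) (Steps.bwd (nat_lit 12) (Steps.fwd (nat_lit 57344) (Steps.fwd (nat_lit 32768) (Steps.fwd (nat_lit 57344) (Steps.fwd (nat_lit 4096) (Steps.bwd (nat_lit 14) (Steps.fwd (nat_lit 8192) Steps.nil)))))))) (nat_lit 47) (nat_lit 1),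
  Rule.mk (nat_lit 11) (nat_lit 102) (Steps.bwd (nat_lit 2) (Steps.fwd (nat_lit 49152) (Steps.fwd (nat_lit 8192) (Steps.fwd (nat_lit 53248) (Steps.bwd (nat_lit 8) (Steps.fwd (nat_lit 49152) Steps.nil)))))) (nat_lit 44) (nat_lit 0),
  Rule.mk (nat_lit 2) (nat_lit 177) (Steps.bwd (nat_lit 3) (Steps.bwd (nat_lit 1) (Steps.bwd (nat_lit 4) (Steps.fwd (nat_lit 4096) (Steps.bwd (nat_lit 3) (Steps.fwd (nat_lit 8192) (Steps.bwd (nat_lit 4) (Steps.bwd (nat_lit 2) (Steps.fwd (nat_lit 16384) (Steps.fwd (nat_lit 8192) (Steps.bwd (nat_lit 4) Steps.nil))))))))))) (nat_lit 9) (nat_lit 2),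
  Rule.mk (nat_lit 13) (nat_lit 132) (Steps.bwd (nat_lit 1) (Steps.bwd (nat_lit 14) (Steps.bwd (nat_lit 8) (Steps.bwd (nat_lit 14) (Steps.fwd (nat_lit 49152) (Steps.bwd (nat_lit 9) (Steps.bwd (nat_lit 8) (Steps.bwd (nat_lit 2) Steps.nil)))))))) (nat_lit 46) (nat_lit 2),
  Rule.mk (nat_lit 7) (nat_lit 102) (Steps.bwd (nat_lit 13) (Steps.fwd (nat_lit 4096) (Steps.bwd (nat_lit 12) (Steps.fwd (nat_lit 8192) (Steps.bwd (nat_lit 12) (Steps.fwd (nat_lit 45056) Steps.nil)))))) (nat_lit 45) (nat_lit 3),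
  Rule.mk (nat_lit 2) (nat_lit 132) (Steps.bwd (nat_lit 14) (Steps.bwd (nat_lit 1) (Steps.fwd (nat_lit 32768) (Steps.bwd (nat_lit 10) (Steps.bwd (nat_lit 12) (Steps.fwd (nat_lit 57344) (Steps.bwd (nat_lit 7) (Steps.bwd (nat_lit 13) Steps.nil)))))))) (nat_lit 47) (nat_lit 7),
  Rule.mk (nat_lit 3) (nat_lit 117) (Steps.bwd (nat_lit 13) (Steps.fwd (nat_lit 32768) (Steps.bwd (nat_lit 13) (Steps.fwd (nat_lit 45056) (Steps.bwd (nat_lit 10) (Steps.fwd (nat_lit 12288) (Steps.bwd (nat_lit 9) Steps.nil))))))) (nat_lit 50) (nat_lit 3),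
  Rule.mk (nat_lit 7) (nat_lit 117) (Steps.bwd (nat_lit 13) (Steps.fwd (nat_lit 45056) (Steps.bwd (nat_lit 12) (Steps.fwd (nat_lit 12288) (Steps.fwd (nat_lit 45056) (Steps.bwd (nat_lit 3) (Steps.bwd (nat_lit 7) Steps.nil))))))) (nat_lit 53) (nat_lit 2),
  Rule.mk (nat_lit 9) (nat_lit 72) (Steps.bwd (nat_lit 16) (Steps.bwd (nat_lit 8) (Steps.bwd (nat_lit 10) (Steps.bwd (nat_lit 7) Steps.nil)))) (nat_lit 19) (nat_lit 4),
  Rule.mk (nat_lit 2) (nat_lit 117) (Steps.bwd (nat_lit 2) (Steps.bwd (nat_lit 2) (Steps.bwd (nat_lit 2) (Steps.bwd (nat_lit 2) (Steps.fwd (nat_lit 4096) (Steps.bwd (nat_lit 2) (Steps.fwd (nat_lit 4096) Steps.nil))))))) (nat_lit 1) (nat_lit 0),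
  Rule.mk (nat_lit 8) (nat_lit 132) (Steps.fwd (nat_lit 4096) (Steps.bwd (nat_lit 13) (Steps.bwd (nat_lit 1) (Steps.bwd (nat_lit 14) (Steps.bwd (nat_lit 8) (Steps.fwd (nat_lit 53248) (Steps.bwd (nat_lit 11) (Steps.bwd (nat_lit 9) Steps.nil)))))))) (nat_lit 46) (nat_lit 0),
  Rule.mk (nat_lit 14) (nat_lit 117) (Steps.bwd (nat_lit 4) (Steps.fwd (nat_lit 36864) (Steps.fwd (nat_lit 16384) (Steps.bwd (nat_lit 9) (Steps.fwd (nat_lit 49152) (Steps.bwd (nat_lit 14) (Steps.fwd (nat_lit 28672) Steps.nil))))))) (nat_lit 51) (nat_lit 5),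
  Rule.mk (nat_lit 7) (nat_lit 117) (Steps.bwd (nat_lit 7) (Steps.fwd (nat_lit 57344) (Steps.fwd (nat_lit 45056) (Steps.fwd (nat_lit 45056) (Steps.fwd (nat_lit 12288) (Steps.bwd (nat_lit 12) (Steps.bwd (nat_lit 3) Steps.nil))))))) (nat_lit 53) (nat_lit 1),
  Rule.mk (nat_lit 1) (nat_lit 87) (Steps.bwd (nat_lit 1) (Steps.fwd (nat_lit 16384) (Steps.fwd (nat_lit 4096) (Steps.bwd (nat_lit 2) (Steps.bwd (nat_lit 4) Steps.nil))))) (nat_lit 6) (nat_lit 4),
  Rule.mk (nat_lit 14) (nat_lit 132) (Steps.bwd (nat_lit 8) (Steps.fwd (nat_lit 53248) (Steps.bwd (nat_lit 11) (Steps.bwd (nat_lit 9) (Steps.bwd (nat_lit 8) (Steps.bwd (nat_lit 2) (Steps.bwd (nat_lit 13) (Steps.fwd (nat_lit 8192) Steps.nil)))))))) (nat_lit 46) (nat_lit 4),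
  Rule.mk (nat_lit 4) (nat_lit 87) (Steps.bwd (nat_lit 1) (Steps.fwd (nat_lit 8192) (Steps.fwd (nat_lit 16384) (Steps.bwd (nat_lit 2) (Steps.fwd (nat_lit 4096) Steps.nil))))) (nat_lit 6) (nat_lit 3),
  Rule.mk (nat_lit 12) (nat_lit 102) (Steps.bwd (nat_lit 1) (Steps.bwd (nat_lit 12) (Steps.bwd (nat_lit 12) (Steps.fwd (nat_lit 32768) (Steps.bwd (nat_lit 13) (Steps.bwd (nat_lit 2) Steps.nil)))))) (nat_lit 45) (nat_lit 6),
  Rule.mk (nat_lit 7) (nat_lit 102) (Steps.fwd (nat_lit 57344) (Steps.bwd (nat_lit 2) (Steps.fwd (nat_lit 45056) (Steps.bwd (nat_lit 1) (Steps.bwd (nat_lit 12) (Steps.bwd (nat_lit 12) Steps.nil)))))) (nat_lit 45) (nat_lit 3),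
  Rule.mk (nat_lit 12) (nat_lit 102) (Steps.bwd (nat_lit 7) (Steps.bwd (nat_lit 13) (Steps.fwd (nat_lit 4096) (Steps.fwd (nat_lit 45056) (Steps.bwd (nat_lit 1) (Steps.bwd (nat_lit 12) Steps.nil)))))) (nat_lit 45) (nat_lit 2),
  Rule.mk (nat_lit 3) (nat_lit 117) (Steps.bwd (nat_lit 13) (Steps.bwd (nat_lit 7) (Steps.bwd (nat_lit 13) (Steps.bwd (nat_lit 12) (Steps.fwd (nat_lit 36864) (Steps.bwd (nat_lit 4) (Steps.bwd (nat_lit 9) Steps.nil))))))) (nat_lit 50) (nat_lit 3),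
  Rule.mk (nat_lit 13) (nat_lit 102) (Steps.bwd (nat_lit 2) (Steps.fwd (nat_lit 45056) (Steps.bwd (nat_lit 1) (Steps.fwd (nat_lit 45056) (Steps.bwd (nat_lit 12) (Steps.bwd (nat_lit 7) Steps.nil)))))) (nat_lit 45) (nat_lit 4)]
noncomputable def R_46 : List (Rule) := [Rule.mk (nat_lit 3) (nat_lit 87) (Steps.bwd (nat_lit 2) (Steps.fwd (nat_lit 4096) (Steps.fwd (nat_lit 12288) (Steps.fwd (nat_lit 8192) (Steps.bwd (nat_lit 1) Steps.nil))))) (nat_lit 6) (nat_lit 0),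
  Rule.mk (nat_lit 9) (nat_lit 117) (Steps.bwd (nat_lit 3) (Steps.bwd (nat_lit 13) (Steps.bwd (nat_lit 7) (Steps.bwd (nat_lit 13) (Steps.bwd (nat_lit 12) (Steps.fwd (nat_lit 36864) (Steps.fwd (nat_lit 12288) Steps.nil))))))) (nat_lit 50) (nat_lit 2),
  Rule.mk (nat_lit 4) (nat_lit 117) (Steps.bwd (nat_lit 9) (Steps.bwd (nat_lit 3) (Steps.fwd (nat_lit 57344) (Steps.fwd (nat_lit 32768) (Steps.bwd (nat_lit 13) (Steps.fwd (nat_lit 45056) (Steps.bwd (nat_lit 10) Steps.nil))))))) (nat_lit 50) (nat_lit 1),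
  Rule.mk (nat_lit 15) (nat_lit 87) (Steps.bwd (nat_lit 14) (Steps.fwd (nat_lit 28672) (Steps.fwd (nat_lit 57344) (Steps.bwd (nat_lit 7) (Steps.bwd (nat_lit 15) Steps.nil))))) (nat_lit 35) (nat_lit 2),
  Rule.mk (nat_lit 2) (nat_lit 132) (Steps.bwd (nat_lit 14) (Steps.bwd (nat_lit 1) (Steps.fwd (nat_lit 32768) (Steps.bwd (nat_lit 10) (Steps.bwd (nat_lit 12) (Steps.fwd (nat_lit 57344) (Steps.bwd (nat_lit 7) (Steps.fwd (nat_lit 57344) Steps.nil)))))))) (nat_lit 47) (nat_lit 7),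
  Rule.mk (nat_lit 4) (nat_lit 117) (Steps.bwd (nat_lit 2) (Steps.bwd (nat_lit 4) (Steps.fwd (nat_lit 4096) (Steps.bwd (nat_lit 4) (Steps.fwd (nat_lit 4096) (Steps.bwd (nat_lit 4) (Steps.bwd (nat_lit 2) Steps.nil))))))) (nat_lit 5) (nat_lit 1),
  Rule.mk (nat_lit 13) (nat_lit 102) (Steps.bwd (nat_lit 2) (Steps.fwd (nat_lit 45056) (Steps.bwd (nat_lit 1) (Steps.fwd (nat_lit 45056) (Steps.fwd (nat_lit 45056) (Steps.bwd (nat_lit 7) Steps.nil)))))) (nat_lit 45) (nat_lit 4),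
  Rule.mk (nat_lit 12) (nat_lit 117) (Steps.fwd (nat_lit 36864) (Steps.fwd (nat_lit 12288) (Steps.bwd (nat_lit 9) (Steps.bwd (nat_lit 3) (Steps.bwd (nat_lit 13) (Steps.bwd (nat_lit 7) (Steps.bwd (nat_lit 13) Steps.nil))))))) (nat_lit 50) (nat_lit 7),
  Rule.mk (nat_lit 2) (nat_lit 132) (Steps.bwd (nat_lit 14) (Steps.bwd (nat_lit 1) (Steps.bwd (nat_lit 7) (Steps.bwd (nat_lit 10) (Steps.bwd (nat_lit 12) (Steps.fwd (nat_lit 57344) (Steps.bwd (nat_lit 7) (Steps.fwd (nat_lit 57344) Steps.nil)))))))) (nat_lit 47) (nat_lit 7),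
  Rule.mk (nat_lit 9) (nat_lit 117) (Steps.bwd (nat_lit 3) (Steps.bwd (nat_lit 13) (Steps.fwd (nat_lit 32768) (Steps.fwd (nat_lit 57344) (Steps.bwd (nat_lit 12) (Steps.bwd (nat_lit 10) (Steps.fwd (nat_lit 12288) Steps.nil))))))) (nat_lit 50) (nat_lit 2),
  Rule.mk (nat_lit 10) (nat_lit 117) (Steps.bwd (nat_lit 3) (Steps.bwd (nat_lit 9) (Steps.bwd (nat_lit 11) (Steps.bwd (nat_lit 14) (Steps.fwd (nat_lit 28672) (Steps.fwd (nat_lit 53248) (Steps.fwd (nat_lit 12288) Steps.nil))))))) (nat_lit 51) (nat_lit 7),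
  Rule.mk (nat_lit 12) (nat_lit 102) (Steps.fwd (nat_lit 32768) (Steps.fwd (nat_lit 57344) (Steps.bwd (nat_lit 2) (Steps.bwd (nat_lit 12) (Steps.fwd (nat_lit 8192) (Steps.bwd (nat_lit 12) Steps.nil)))))) (nat_lit 45) (nat_lit 2),
  Rule.mk (nat_lit 12) (nat_lit 117) (Steps.bwd (nat_lit 12) (Steps.fwd (nat_lit 12288) (Steps.bwd (nat_lit 12) (Steps.fwd (nat_lit 16384) (Steps.bwd (nat_lit 7) (Steps.fwd (nat_lit 32768) (Steps.fwd (nat_lit 57344) Steps.nil))))))) (nat_lit 53) (nat_lit 4),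
  Rule.mk (nat_lit 13) (nat_lit 117) (Steps.bwd (nat_lit 12) (Steps.fwd (nat_lit 45056) (Steps.fwd (nat_lit 12288) (Steps.fwd (nat_lit 45056) (Steps.bwd (nat_lit 3) (Steps.bwd (nat_lit 7) (Steps.bwd (nat_lit 7) Steps.nil))))))) (nat_lit 53) (nat_lit 3),
  Rule.mk (nat_lit 10) (nat_lit 117) (Steps.fwd (nat_lit 12288) (Steps.fwd (nat_lit 40960) (Steps.fwd (nat_lit 16384) (Steps.bwd (nat_lit 13) (Steps.fwd (nat_lit 32768) (Steps.fwd (nat_lit 57344) (Steps.bwd (nat_lit 12) Steps.nil))))))) (nat_lit 50) (nat_lit 0),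
  Rule.mk (nat_lit 7) (nat_lit 132) (Steps.bwd (nat_lit 10) (Steps.fwd (nat_lit 45056) (Steps.fwd (nat_lit 57344) (Steps.fwd (nat_lit 32768) (Steps.fwd (nat_lit 57344) (Steps.bwd (nat_lit 2) (Steps.fwd (nat_lit 53248) (Steps.bwd (nat_lit 1) Steps.nil)))))))) (nat_lit 47) (nat_lit 1),
  Rule.mk (nat_lit 10) (nat_lit 117) (Steps.bwd (nat_lit 4) (Steps.bwd (nat_lit 9) (Steps.bwd (nat_lit 3) (Steps.fwd (nat_lit 57344) (Steps.fwd (nat_lit 32768) (Steps.bwd (nat_lit 13) (Steps.fwd (nat_lit 45056) Steps.nil))))))) (nat_lit 50) (nat_lit 0),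
  Rule.mk (nat_lit 2) (nat_lit 177) (Steps.bwd (nat_lit 4) (Steps.bwd (nat_lit 1) (Steps.bwd (nat_lit 3) (Steps.bwd (nat_lit 2) (Steps.bwd (nat_lit 4) (Steps.bwd (nat_lit 1) (Steps.bwd (nat_lit 3) (Steps.fwd (nat_lit 4096) (Steps.bwd (nat_lit 4) (Steps.fwd (nat_lit 8192) (Steps.fwd (nat_lit 16384) Steps.nil))))))))))) (nat_lit 8) (nat_lit 1),
  Rule.mk (nat_lit 13) (nat_lit 132) (Steps.fwd (nat_lit 8192) (Steps.bwd (nat_lit 14) (Steps.fwd (nat_lit 28672) (Steps.bwd (nat_lit 14) (Steps.fwd (nat_lit 49152) (Steps.bwd (nat_lit 9) (Steps.fwd (nat_lit 28672) (Steps.bwd (nat_lit 2) Steps.nil)))))))) (nat_lit 46) (nat_lit 2),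
  Rule.mk (nat_lit 10) (nat_lit 117) (Steps.bwd (nat_lit 4) (Steps.fwd (nat_lit 40960) (Steps.fwd (nat_lit 16384) (Steps.bwd (nat_lit 13) (Steps.bwd (nat_lit 7) (Steps.fwd (nat_lit 57344) (Steps.bwd (nat_lit 12) Steps.nil))))))) (nat_lit 50) (nat_lit 0),
  Rule.mk (nat_lit 8) (nat_lit 72) (Steps.bwd (nat_lit 8) (Steps.bwd (nat_lit 8) (Steps.fwd (nat_lit 28672) (Steps.fwd (nat_lit 28672) Steps.nil)))) (nat_lit 21) (nat_lit 0),
  Rule.mk (nat_lit 13) (nat_lit 102) (Steps.bwd (nat_lit 2) (Steps.bwd (nat_lit 12) (Steps.fwd (nat_lit 8192) (Steps.fwd (nat_lit 45056) (Steps.fwd (nat_lit 45056) (Steps.bwd (nat_lit 7) Steps.nil)))))) (nat_lit 45) (nat_lit 4),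
  Rule.mk (nat_lit 12) (nat_lit 117) (Steps.fwd (nat_lit 36864) (Steps.fwd (nat_lit 12288) (Steps.fwd (nat_lit 40960) (Steps.fwd (nat_lit 16384) (Steps.bwd (nat_lit 13) (Steps.bwd (nat_lit 7) (Steps.bwd (nat_lit 13) Steps.nil))))))) (nat_lit 50) (nat_lit 7),
  Rule.mk (nat_lit 8) (nat_lit 117) (Steps.bwd (nat_lit 14) (Steps.fwd (nat_lit 12288) (Steps.bwd (nat_lit 10) (Steps.fwd (nat_lit 16384) (Steps.fwd (nat_lit 40960) (Steps.fwd (nat_lit 49152) (Steps.bwd (nat_lit 14) Steps.nil))))))) (nat_lit 51) (nat_lit 4),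
  Rule.mk (nat_lit 2) (nat_lit 132) (Steps.bwd (nat_lit 14) (Steps.fwd (nat_lit 8192) (Steps.fwd (nat_lit 32768) (Steps.fwd (nat_lit 36864) (Steps.fwd (nat_lit 45056) (Steps.fwd (nat_lit 57344) (Steps.bwd (nat_lit 7) (Steps.fwd (nat_lit 57344) Steps.nil)))))))) (nat_lit 47) (nat_lit 7),
  Rule.mk (nat_lit 13) (nat_lit 132) (Steps.bwd (nat_lit 1) (Steps.bwd (nat_lit 14) (Steps.bwd (nat_lit 8) (Steps.bwd (nat_lit 14) (Steps.bwd (nat_lit 11) (Steps.bwd (nat_lit 9) (Steps.bwd (nat_lit 8) (Steps.bwd (nat_lit 2) Steps.nil)))))))) (nat_lit 46) (nat_lit 2),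
  Rule.mk (nat_lit 1) (nat_lit 132) (Steps.fwd (nat_lit 53248) (Steps.fwd (nat_lit 28672) (Steps.fwd (nat_lit 53248) (Steps.fwd (nat_lit 49152) (Steps.bwd (nat_lit 9) (Steps.bwd (nat_lit 8) (Steps.bwd (nat_lit 2) (Steps.bwd (nat_lit 13) Steps.nil)))))))) (nat_lit 46) (nat_lit 3),
  Rule.mk (nat_lit 13) (nat_lit 132) (Steps.bwd (nat_lit 1) (Steps.bwd (nat_lit 14) (Steps.fwd (nat_lit 28672) (Steps.bwd (nat_lit 14) (Steps.fwd (nat_lit 49152) (Steps.bwd (nat_lit 9) (Steps.bwd (nat_lit 8) (Steps.bwd (nat_lit 2) Steps.nil)))))))) (nat_lit 46) (nat_lit 2),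
  Rule.mk (nat_lit 14) (nat_lit 132) (Steps.bwd (nat_lit 1) (Steps.fwd (nat_lit 32768) (Steps.fwd (nat_lit 36864) (Steps.fwd (nat_lit 45056) (Steps.bwd (nat_lit 13) (Steps.bwd (nat_lit 7) (Steps.fwd (nat_lit 57344) (Steps.bwd (nat_lit 2) Steps.nil)))))))) (nat_lit 47) (nat_lit 8),
  Rule.mk (nat_lit 4) (nat_lit 177) (Steps.bwd (nat_lit 1) (Steps.fwd (nat_lit 16384) (Steps.fwd (nat_lit 4096) (Steps.bwd (nat_lit 4) (Steps.bwd (nat_lit 1) (Steps.bwd (nat_lit 3) (Steps.fwd (nat_lit 4096) (Steps.fwd (nat_lit 12288) (Steps.bwd (nat_lit 1) (Steps.bwd (nat_lit 3) (Steps.bwd (nat_lit 2) Steps.nil))))))))))) (nat_lit 8) (nat_lit 2),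
  Rule.mk (nat_lit 11) (nat_lit 117) (Steps.bwd (nat_lit 3) (Steps.bwd (nat_lit 11) (Steps.fwd (nat_lit 49152) (Steps.fwd (nat_lit 53248) (Steps.fwd (nat_lit 28672) (Steps.bwd (nat_lit 8) (Steps.bwd (nat_lit 4) Steps.nil))))))) (nat_lit 52) (nat_lit 2),
  Rule.mk (nat_lit 8) (nat_lit 117) (Steps.bwd (nat_lit 4) (Steps.fwd (nat_lit 49152) (Steps.fwd (nat_lit 16384) (Steps.bwd (nat_lit 11) (Steps.fwd (nat_lit 49152) (Steps.bwd (nat_lit 14) (Steps.bwd (nat_lit 8) Steps.nil))))))) (nat_lit 52) (nat_lit 0),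
  Rule.mk (nat_lit 11) (nat_lit 102) (Steps.bwd (nat_lit 1) (Steps.bwd (nat_lit 14) (Steps.fwd (nat_lit 28672) (Steps.bwd (nat_lit 11) (Steps.bwd (nat_lit 11) (Steps.fwd (nat_lit 4096) Steps.nil)))))) (nat_lit 44) (nat_lit 2),
  Rule.mk (nat_lit 7) (nat_lit 132) (Steps.bwd (nat_lit 10) (Steps.bwd (nat_lit 12) (Steps.fwd (nat_lit 57344) (Steps.bwd (nat_lit 7) (Steps.fwd (nat_lit 57344) (Steps.bwd (nat_lit 2) (Steps.fwd (nat_lit 53248) (Steps.bwd (nat_lit 1) Steps.nil)))))))) (nat_lit 47) (nat_lit 1),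
  Rule.mk (nat_lit 9) (nat_lit 72) (Steps.fwd (nat_lit 61440) (Steps.fwd (nat_lit 28672) (Steps.fwd (nat_lit 36864) (Steps.bwd (nat_lit 7) Steps.nil)))) (nat_lit 19) (nat_lit 4),
  Rule.mk (nat_lit 13) (nat_lit 117) (Steps.bwd (nat_lit 12) (Steps.bwd (nat_lit 10) (Steps.fwd (nat_lit 12288) (Steps.fwd (nat_lit 40960) (Steps.fwd (nat_lit 16384) (Steps.fwd (nat_lit 57344) (Steps.bwd (nat_lit 7) Steps.nil))))))) (nat_lit 50) (nat_lit 6),
  Rule.mk (nat_lit 4) (nat_lit 117) (Steps.bwd (nat_lit 12) (Steps.bwd (nat_lit 3) (Steps.fwd (nat_lit 32768) (Steps.fwd (nat_lit 32768) (Steps.fwd (nat_lit 57344) (Steps.fwd (nat_lit 45056) (Steps.bwd (nat_lit 12) Steps.nil))))))) (nat_lit 53) (nat_lit 6),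
  Rule.mk (nat_lit 10) (nat_lit 117) (Steps.fwd (nat_lit 16384) (Steps.bwd (nat_lit 9) (Steps.bwd (nat_lit 11) (Steps.fwd (nat_lit 53248) (Steps.bwd (nat_lit 8) (Steps.fwd (nat_lit 53248) (Steps.bwd (nat_lit 4) Steps.nil))))))) (nat_lit 51) (nat_lit 7),
  Rule.mk (nat_lit 11) (nat_lit 117) (Steps.fwd (nat_lit 16384) (Steps.fwd (nat_lit 49152) (Steps.bwd (nat_lit 11) (Steps.fwd (nat_lit 53248) (Steps.bwd (nat_lit 8) (Steps.bwd (nat_lit 8) (Steps.bwd (nat_lit 4) Steps.nil))))))) (nat_lit 52) (nat_lit 2),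
  Rule.mk (nat_lit 8) (nat_lit 117) (Steps.bwd (nat_lit 4) (Steps.fwd (nat_lit 49152) (Steps.fwd (nat_lit 16384) (Steps.fwd (nat_lit 49152) (Steps.bwd (nat_lit 11) (Steps.bwd (nat_lit 14) (Steps.fwd (nat_lit 28672) Steps.nil))))))) (nat_lit 52) (nat_lit 0),
  Rule.mk (nat_lit 14) (nat_lit 117) (Steps.bwd (nat_lit 4) (Steps.bwd (nat_lit 10) (Steps.bwd (nat_lit 3) (Steps.fwd (nat_lit 40960) (Steps.bwd (nat_lit 11) (Steps.bwd (nat_lit 14) (Steps.bwd (nat_lit 8) Steps.nil))))))) (nat_lit 51) (nat_lit 5),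
  Rule.mk (nat_lit 2) (nat_lit 132) (Steps.bwd (nat_lit 13) (Steps.fwd (nat_lit 8192) (Steps.fwd (nat_lit 53248) (Steps.bwd (nat_lit 8) (Steps.bwd (nat_lit 14) (Steps.bwd (nat_lit 11) (Steps.bwd (nat_lit 9) (Steps.fwd (nat_lit 28672) Steps.nil)))))))) (nat_lit 46) (nat_lit 1),
  Rule.mk (nat_lit 2) (nat_lit 117) (Steps.bwd (nat_lit 2) (Steps.fwd (nat_lit 4096) (Steps.fwd (nat_lit 4096) (Steps.fwd (nat_lit 4096) (Steps.bwd (nat_lit 2) (Steps.bwd (nat_lit 2) (Steps.bwd (nat_lit 2) Steps.nil))))))) (nat_lit 1) (nat_lit 0),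
  Rule.mk (nat_lit 13) (nat_lit 132) (Steps.bwd (nat_lit 2) (Steps.fwd (nat_lit 53248) (Steps.fwd (nat_lit 8192) (Steps.fwd (nat_lit 32768) (Steps.fwd (nat_lit 36864) (Steps.fwd (nat_lit 45056) (Steps.bwd (nat_lit 13) (Steps.fwd (nat_lit 32768) Steps.nil)))))))) (nat_lit 47) (nat_lit 6),
  Rule.mk (nat_lit 7) (nat_lit 72) (Steps.fwd (nat_lit 4096) (Steps.bwd (nat_lit 9) (Steps.fwd (nat_lit 8192) (Steps.bwd (nat_lit 7) Steps.nil)))) (nat_lit 42) (nat_lit 0),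
  Rule.mk (nat_lit 12) (nat_lit 102) (Steps.bwd (nat_lit 7) (Steps.fwd (nat_lit 57344) (Steps.fwd (nat_lit 4096) (Steps.bwd (nat_lit 12) (Steps.fwd (nat_lit 8192) (Steps.bwd (nat_lit 12) Steps.nil)))))) (nat_lit 45) (nat_lit 2),
  Rule.mk (nat_lit 13) (nat_lit 117) (Steps.bwd (nat_lit 7) (Steps.fwd (nat_lit 57344) (Steps.bwd (nat_lit 12) (Steps.bwd (nat_lit 10) (Steps.fwd (nat_lit 12288) (Steps.fwd (nat_lit 40960) (Steps.bwd (nat_lit 3) Steps.nil))))))) (nat_lit 50) (nat_lit 4),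
  Rule.mk (nat_lit 1) (nat_lit 102) (Steps.bwd (nat_lit 14) (Steps.fwd (nat_lit 28672) (Steps.fwd (nat_lit 49152) (Steps.bwd (nat_lit 11) (Steps.fwd (nat_lit 4096) (Steps.fwd (nat_lit 49152) Steps.nil)))))) (nat_lit 44) (nat_lit 3),
  Rule.mk (nat_lit 2) (nat_lit 132) (Steps.bwd (nat_lit 14) (Steps.bwd (nat_lit 1) (Steps.bwd (nat_lit 7) (Steps.fwd (nat_lit 36864) (Steps.bwd (nat_lit 12) (Steps.fwd (nat_lit 57344) (Steps.fwd (nat_lit 32768) (Steps.fwd (nat_lit 57344) Steps.nil)))))))) (nat_lit 47) (nat_lit 7),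
  Rule.mk (nat_lit 13) (nat_lit 132) (Steps.bwd (nat_lit 1) (Steps.fwd (nat_lit 53248) (Steps.bwd (nat_lit 8) (Steps.fwd (nat_lit 53248) (Steps.bwd (nat_lit 11) (Steps.fwd (nat_lit 40960) (Steps.fwd (nat_lit 28672) (Steps.bwd (nat_lit 2) Steps.nil)))))))) (nat_lit 46) (nat_lit 2),
  Rule.mk (nat_lit 1) (nat_lit 87) (Steps.bwd (nat_lit 1) (Steps.fwd (nat_lit 16384) (Steps.bwd (nat_lit 2) (Steps.bwd (nat_lit 2) (Steps.fwd (nat_lit 12288) Steps.nil))))) (nat_lit 6) (nat_lit 4),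
  Rule.mk (nat_lit 9) (nat_lit 132) (Steps.bwd (nat_lit 8) (Steps.fwd (nat_lit 4096) (Steps.fwd (nat_lit 57344) (Steps.bwd (nat_lit 1) (Steps.fwd (nat_lit 53248) (Steps.bwd (nat_lit 8) (Steps.bwd (nat_lit 14) (Steps.fwd (nat_lit 49152) Steps.nil)))))))) (nat_lit 46) (nat_lit 8),
  Rule.mk (nat_lit 11) (nat_lit 102) (Steps.bwd (nat_lit 1) (Steps.bwd (nat_lit 14) (Steps.fwd (nat_lit 28672) (Steps.bwd (nat_lit 11) (Steps.fwd (nat_lit 49152) (Steps.bwd (nat_lit 2) Steps.nil)))))) (nat_lit 44) (nat_lit 2),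
  Rule.mk (nat_lit 9) (nat_lit 132) (Steps.bwd (nat_lit 8) (Steps.bwd (nat_lit 2) (Steps.fwd (nat_lit 57344) (Steps.bwd (nat_lit 1) (Steps.bwd (nat_lit 14) (Steps.bwd (nat_lit 8) (Steps.fwd (nat_lit 53248) (Steps.bwd (nat_lit 11) Steps.nil)))))))) (nat_lit 46) (nat_lit 8),
  Rule.mk (nat_lit 3) (nat_lit 87) (Steps.fwd (nat_lit 4096) (Steps.bwd (nat_lit 2) (Steps.fwd (nat_lit 12288) (Steps.fwd (nat_lit 8192) (Steps.bwd (nat_lit 1) Steps.nil))))) (nat_lit 6) (nat_lit 0),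
  Rule.mk (nat_lit 1) (nat_lit 117) (Steps.bwd (nat_lit 1) (Steps.fwd (nat_lit 8192) (Steps.fwd (nat_lit 8192) (Steps.bwd (nat_lit 1) (Steps.fwd (nat_lit 8192) (Steps.fwd (nat_lit 8192) (Steps.bwd (nat_lit 1) Steps.nil))))))) (nat_lit 0) (nat_lit 0),
  Rule.mk (nat_lit 11) (nat_lit 117) (Steps.bwd (nat_lit 3) (Steps.bwd (nat_lit 11) (Steps.fwd (nat_lit 49152) (Steps.bwd (nat_lit 14) (Steps.bwd (nat_lit 8) (Steps.fwd (nat_lit 28672) (Steps.bwd (nat_lit 4) Steps.nil))))))) (nat_lit 52) (nat_lit 2),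
  Rule.mk (nat_lit 11) (nat_lit 117) (Steps.bwd (nat_lit 14) (Steps.fwd (nat_lit 28672) (Steps.fwd (nat_lit 28672) (Steps.fwd (nat_lit 12288) (Steps.fwd (nat_lit 49152) (Steps.fwd (nat_lit 16384) (Steps.fwd (nat_lit 49152) Steps.nil))))))) (nat_lit 52) (nat_lit 5),
  Rule.mk (nat_lit 1) (nat_lit 117) (Steps.bwd (nat_lit 1) (Steps.fwd (nat_lit 8192) (Steps.bwd (nat_lit 1) (Steps.fwd (nat_lit 8192) (Steps.bwd (nat_lit 1) (Steps.fwd (nat_lit 8192) (Steps.fwd (nat_lit 8192) Steps.nil))))))) (nat_lit 0) (nat_lit 0),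
  Rule.mk (nat_lit 11) (nat_lit 102) (Steps.fwd (nat_lit 4096) (Steps.fwd (nat_lit 49152) (Steps.bwd (nat_lit 1) (Steps.fwd (nat_lit 53248) (Steps.bwd (nat_lit 8) (Steps.bwd (nat_lit 11) Steps.nil)))))) (nat_lit 44) (nat_lit 0),
  Rule.mk (nat_lit 1) (nat_lit 117) (Steps.fwd (nat_lit 16384) (Steps.fwd (nat_lit 8192) (Steps.bwd (nat_lit 3) (Steps.fwd (nat_lit 8192) (Steps.fwd (nat_lit 16384) (Steps.fwd (nat_lit 8192) (Steps.bwd (nat_lit 3) Steps.nil))))))) (nat_lit 4) (nat_lit 1),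
  Rule.mk (nat_lit 4) (nat_lit 117) (Steps.bwd (nat_lit 9) (Steps.fwd (nat_lit 16384) (Steps.bwd (nat_lit 13) (Steps.fwd (nat_lit 32768) (Steps.bwd (nat_lit 13) (Steps.fwd (nat_lit 45056) (Steps.bwd (nat_lit 10) Steps.nil))))))) (nat_lit 50) (nat_lit 1),
  Rule.mk (nat_lit 14) (nat_lit 117) (Steps.bwd (nat_lit 4) (Steps.bwd (nat_lit 10) (Steps.fwd (nat_lit 16384) (Steps.fwd (nat_lit 40960) (Steps.fwd (nat_lit 49152) (Steps.bwd (nat_lit 14) (Steps.bwd (nat_lit 8) Steps.nil))))))) (nat_lit 51) (nat_lit 5),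
  Rule.mk (nat_lit 7) (nat_lit 87) (Steps.fwd (nat_lit 57344) (Steps.fwd (nat_lit 61440) (Steps.bwd (nat_lit 16) (Steps.bwd (nat_lit 8) (Steps.bwd (nat_lit 14) Steps.nil))))) (nat_lit 34) (nat_lit 3)]
noncomputable def R_47 : List (Rule) := [Rule.mk (nat_lit 13) (nat_lit 117) (Steps.bwd (nat_lit 12) (Steps.fwd (nat_lit 36864) (Steps.bwd (nat_lit 4) (Steps.bwd (nat_lit 9) (Steps.bwd (nat_lit 3) (Steps.bwd (nat_lit 13) (Steps.bwd (nat_lit 7) Steps.nil))))))) (nat_lit 50) (nat_lit 6),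
  Rule.mk (nat_lit 7) (nat_lit 117) (Steps.fwd (nat_lit 57344) (Steps.fwd (nat_lit 45056) (Steps.bwd (nat_lit 10) (Steps.fwd (nat_lit 12288) (Steps.fwd (nat_lit 40960) (Steps.bwd (nat_lit 3) (Steps.bwd (nat_lit 13) Steps.nil))))))) (nat_lit 50) (nat_lit 5),
  Rule.mk (nat_lit 7) (nat_lit 132) (Steps.bwd (nat_lit 10) (Steps.bwd (nat_lit 12) (Steps.fwd (nat_lit 57344) (Steps.bwd (nat_lit 7) (Steps.bwd (nat_lit 13) (Steps.fwd (nat_lit 4096) (Steps.bwd (nat_lit 14) (Steps.fwd (nat_lit 8192) Steps.nil)))))))) (nat_lit 47) (nat_lit 1),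
  Rule.mk (nat_lit 3) (nat_lit 117) (Steps.bwd (nat_lit 11) (Steps.bwd (nat_lit 11) (Steps.fwd (nat_lit 53248) (Steps.fwd (nat_lit 28672) (Steps.fwd (nat_lit 28672) (Steps.fwd (nat_lit 12288) (Steps.bwd (nat_lit 11) Steps.nil))))))) (nat_lit 52) (nat_lit 3),
  Rule.mk (nat_lit 9) (nat_lit 117) (Steps.fwd (nat_lit 16384) (Steps.bwd (nat_lit 13) (Steps.bwd (nat_lit 7) (Steps.fwd (nat_lit 57344) (Steps.bwd (nat_lit 12) (Steps.fwd (nat_lit 36864) (Steps.bwd (nat_lit 4) Steps.nil))))))) (nat_lit 50) (nat_lit 2),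
  Rule.mk (nat_lit 1) (nat_lit 117) (Steps.bwd (nat_lit 3) (Steps.fwd (nat_lit 8192) (Steps.fwd (nat_lit 16384) (Steps.bwd (nat_lit 1) (Steps.fwd (nat_lit 16384) (Steps.fwd (nat_lit 8192) (Steps.bwd (nat_lit 3) Steps.nil))))))) (nat_lit 4) (nat_lit 1),
  Rule.mk (nat_lit 12) (nat_lit 117) (Steps.bwd (nat_lit 3) (Steps.bwd (nat_lit 7) (Steps.bwd (nat_lit 7) (Steps.bwd (nat_lit 13) (Steps.bwd (nat_lit 12) (Steps.bwd (nat_lit 12) (Steps.bwd (nat_lit 4) Steps.nil))))))) (nat_lit 53) (nat_lit 7),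
  Rule.mk (nat_lit 7) (nat_lit 87) (Steps.fwd (nat_lit 49152) (Steps.bwd (nat_lit 15) (Steps.fwd (nat_lit 65536) (Steps.fwd (nat_lit 28672) (Steps.bwd (nat_lit 12) Steps.nil))))) (nat_lit 32) (nat_lit 3),
  Rule.mk (nat_lit 16) (nat_lit 72) (Steps.bwd (nat_lit 12) (Steps.fwd (nat_lit 36864) (Steps.fwd (nat_lit 49152) (Steps.fwd (nat_lit 40960) Steps.nil)))) (nat_lit 37) (nat_lit 1),
  Rule.mk (nat_lit 13) (nat_lit 117) (Steps.bwd (nat_lit 12) (Steps.fwd (nat_lit 36864) (Steps.bwd (nat_lit 4) (Steps.bwd (nat_lit 9) (Steps.fwd (nat_lit 16384) (Steps.bwd (nat_lit 13) (Steps.bwd (nat_lit 7) Steps.nil))))))) (nat_lit 50) (nat_lit 6),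
  Rule.mk (nat_lit 7) (nat_lit 132) (Steps.fwd (nat_lit 57344) (Steps.bwd (nat_lit 2) (Steps.fwd (nat_lit 53248) (Steps.fwd (nat_lit 8192) (Steps.fwd (nat_lit 32768) (Steps.bwd (nat_lit 10) (Steps.fwd (nat_lit 45056) (Steps.bwd (nat_lit 13) Steps.nil)))))))) (nat_lit 47) (nat_lit 5),
  Rule.mk (nat_lit 13) (nat_lit 102) (Steps.bwd (nat_lit 2) (Steps.bwd (nat_lit 12) (Steps.bwd (nat_lit 1) (Steps.bwd (nat_lit 12) (Steps.fwd (nat_lit 45056) (Steps.fwd (nat_lit 32768) Steps.nil)))))) (nat_lit 45) (nat_lit 4),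
  Rule.mk (nat_lit 13) (nat_lit 117) (Steps.bwd (nat_lit 12) (Steps.bwd (nat_lit 10) (Steps.fwd (nat_lit 12288) (Steps.fwd (nat_lit 40960) (Steps.fwd (nat_lit 16384) (Steps.bwd (nat_lit 13) (Steps.fwd (nat_lit 32768) Steps.nil))))))) (nat_lit 50) (nat_lit 6),
  Rule.mk (nat_lit 7) (nat_lit 132) (Steps.bwd (nat_lit 10) (Steps.fwd (nat_lit 45056) (Steps.fwd (nat_lit 57344) (Steps.fwd (nat_lit 32768) (Steps.bwd (nat_lit 13) (Steps.bwd (nat_lit 2) (Steps.bwd (nat_lit 14) (Steps.fwd (nat_lit 8192) Steps.nil)))))))) (nat_lit 47) (nat_lit 1),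
  Rule.mk (nat_lit 3) (nat_lit 117) (Steps.bwd (nat_lit 7) (Steps.bwd (nat_lit 7) (Steps.fwd (nat_lit 57344) (Steps.bwd (nat_lit 12) (Steps.fwd (nat_lit 45056) (Steps.bwd (nat_lit 4) (Steps.bwd (nat_lit 12) Steps.nil))))))) (nat_lit 53) (nat_lit 0),
  Rule.mk (nat_lit 1) (nat_lit 87) (Steps.fwd (nat_lit 8192) (Steps.bwd (nat_lit 4) (Steps.bwd (nat_lit 2) (Steps.bwd (nat_lit 2) (Steps.bwd (nat_lit 3) Steps.nil))))) (nat_lit 7) (nat_lit 5),
  Rule.mk (nat_lit 9) (nat_lit 72) (Steps.fwd (nat_lit 49152) (Steps.fwd (nat_lit 65536) (Steps.bwd (nat_lit 10) (Steps.bwd (nat_lit 12) Steps.nil)))) (nat_lit 36) (nat_lit 3),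
  Rule.mk (nat_lit 1) (nat_lit 102) (Steps.fwd (nat_lit 45056) (Steps.bwd (nat_lit 12) (Steps.bwd (nat_lit 7) (Steps.fwd (nat_lit 57344) (Steps.fwd (nat_lit 4096) (Steps.bwd (nat_lit 12) Steps.nil)))))) (nat_lit 45) (nat_lit 0),
  Rule.mk (nat_lit 16) (nat_lit 87) (Steps.bwd (nat_lit 12) (Steps.bwd (nat_lit 8) (Steps.fwd (nat_lit 49152) (Steps.bwd (nat_lit 7) (Steps.fwd (nat_lit 61440) Steps.nil))))) (nat_lit 33) (nat_lit 2),
  Rule.mk (nat_lit 4) (nat_lit 117) (Steps.bwd (nat_lit 12) (Steps.fwd (nat_lit 16384) (Steps.fwd (nat_lit 32768) (Steps.fwd (nat_lit 32768) (Steps.bwd (nat_lit 13) (Steps.bwd (nat_lit 12) (Steps.bwd (nat_lit 12) Steps.nil))))))) (nat_lit 53) (nat_lit 6),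
  Rule.mk (nat_lit 2) (nat_lit 117) (Steps.bwd (nat_lit 4) (Steps.bwd (nat_lit 2) (Steps.bwd (nat_lit 4) (Steps.bwd (nat_lit 2) (Steps.fwd (nat_lit 12288) (Steps.bwd (nat_lit 2) (Steps.fwd (nat_lit 12288) Steps.nil))))))) (nat_lit 5) (nat_lit 0),
  Rule.mk (nat_lit 10) (nat_lit 117) (Steps.bwd (nat_lit 4) (Steps.fwd (nat_lit 40960) (Steps.fwd (nat_lit 16384) (Steps.fwd (nat_lit 57344) (Steps.bwd (nat_lit 7) (Steps.bwd (nat_lit 13) (Steps.fwd (nat_lit 45056) Steps.nil))))))) (nat_lit 50) (nat_lit 0),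
  Rule.mk (nat_lit 1) (nat_lit 177) (Steps.bwd (nat_lit 4) (Steps.bwd (nat_lit 2) (Steps.bwd (nat_lit 3) (Steps.fwd (nat_lit 8192) (Steps.bwd (nat_lit 4) (Steps.bwd (nat_lit 2) (Steps.fwd (nat_lit 16384) (Steps.fwd (nat_lit 8192) (Steps.bwd (nat_lit 4) (Steps.fwd (nat_lit 4096) (Steps.bwd (nat_lit 3) Steps.nil))))))))))) (nat_lit 9) (nat_lit 0),
  Rule.mk (nat_lit 14) (nat_lit 102) (Steps.fwd (nat_lit 28672) (Steps.fwd (nat_lit 49152) (Steps.fwd (nat_lit 49152) (Steps.bwd (nat_lit 2) (Steps.fwd (nat_lit 49152) (Steps.bwd (nat_lit 1) Steps.nil)))))) (nat_lit 44) (nat_lit 4),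
  Rule.mk (nat_lit 13) (nat_lit 132) (Steps.bwd (nat_lit 1) (Steps.bwd (nat_lit 14) (Steps.fwd (nat_lit 28672) (Steps.fwd (nat_lit 53248) (Steps.bwd (nat_lit 11) (Steps.fwd (nat_lit 40960) (Steps.fwd (nat_lit 28672) (Steps.fwd (nat_lit 4096) Steps.nil)))))))) (nat_lit 46) (nat_lit 2),
  Rule.mk (nat_lit 14) (nat_lit 132) (Steps.bwd (nat_lit 1) (Steps.fwd (nat_lit 32768) (Steps.fwd (nat_lit 36864) (Steps.bwd (nat_lit 12) (Steps.fwd (nat_lit 57344) (Steps.bwd (nat_lit 7) (Steps.fwd (nat_lit 57344) (Steps.bwd (nat_lit 2) Steps.nil)))))))) (nat_lit 47) (nat_lit 8),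
  Rule.mk (nat_lit 12) (nat_lit 102) (Steps.bwd (nat_lit 12) (Steps.bwd (nat_lit 7) (Steps.bwd (nat_lit 13) (Steps.fwd (nat_lit 4096) (Steps.fwd (nat_lit 45056) (Steps.fwd (nat_lit 8192) Steps.nil)))))) (nat_lit 45) (nat_lit 1),
  Rule.mk (nat_lit 13) (nat_lit 117) (Steps.bwd (nat_lit 12) (Steps.fwd (nat_lit 36864) (Steps.bwd (nat_lit 4) (Steps.fwd (nat_lit 40960) (Steps.bwd (nat_lit 3) (Steps.fwd (nat_lit 57344) (Steps.bwd (nat_lit 7) Steps.nil))))))) (nat_lit 50) (nat_lit 6),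
  Rule.mk (nat_lit 8) (nat_lit 117) (Steps.fwd (nat_lit 53248) (Steps.bwd (nat_lit 4) (Steps.fwd (nat_lit 36864) (Steps.fwd (nat_lit 16384) (Steps.fwd (nat_lit 40960) (Steps.bwd (nat_lit 11) (Steps.bwd (nat_lit 14) Steps.nil))))))) (nat_lit 51) (nat_lit 4),
  Rule.mk (nat_lit 2) (nat_lit 117) (Steps.bwd (nat_lit 4) (Steps.fwd (nat_lit 4096) (Steps.fwd (nat_lit 12288) (Steps.fwd (nat_lit 4096) (Steps.bwd (nat_lit 4) (Steps.fwd (nat_lit 4096) (Steps.bwd (nat_lit 4) Steps.nil))))))) (nat_lit 5) (nat_lit 0),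
  Rule.mk (nat_lit 8) (nat_lit 72) (Steps.bwd (nat_lit 8) (Steps.bwd (nat_lit 2) (Steps.fwd (nat_lit 36864) (Steps.fwd (nat_lit 8192) Steps.nil)))) (nat_lit 43) (nat_lit 1),
  Rule.mk (nat_lit 9) (nat_lit 132) (Steps.bwd (nat_lit 8) (Steps.bwd (nat_lit 2) (Steps.fwd (nat_lit 57344) (Steps.fwd (nat_lit 8192) (Steps.bwd (nat_lit 14) (Steps.fwd (nat_lit 28672) (Steps.fwd (nat_lit 53248) (Steps.bwd (nat_lit 11) Steps.nil)))))))) (nat_lit 46) (nat_lit 8),
  Rule.mk (nat_lit 11) (nat_lit 117) (Steps.bwd (nat_lit 11) (Steps.bwd (nat_lit 14) (Steps.fwd (nat_lit 28672) (Steps.bwd (nat_lit 8) (Steps.bwd (nat_lit 4) (Steps.bwd (nat_lit 11) (Steps.fwd (nat_lit 16384) Steps.nil))))))) (nat_lit 52) (nat_lit 4),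
  Rule.mk (nat_lit 13) (nat_lit 132) (Steps.fwd (nat_lit 8192) (Steps.bwd (nat_lit 14) (Steps.bwd (nat_lit 8) (Steps.bwd (nat_lit 14) (Steps.fwd (nat_lit 49152) (Steps.bwd (nat_lit 9) (Steps.bwd (nat_lit 8) (Steps.bwd (nat_lit 2) Steps.nil)))))))) (nat_lit 46) (nat_lit 2),
  Rule.mk (nat_lit 9) (nat_lit 117) (Steps.bwd (nat_lit 11) (Steps.fwd (nat_lit 53248) (Steps.bwd (nat_lit 8) (Steps.bwd (nat_lit 14) (Steps.fwd (nat_lit 12288) (Steps.bwd (nat_lit 10) (Steps.fwd (nat_lit 16384) Steps.nil))))))) (nat_lit 51) (nat_lit 1),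
  Rule.mk (nat_lit 11) (nat_lit 117) (Steps.bwd (nat_lit 11) (Steps.fwd (nat_lit 53248) (Steps.bwd (nat_lit 8) (Steps.bwd (nat_lit 8) (Steps.bwd (nat_lit 4) (Steps.fwd (nat_lit 49152) (Steps.fwd (nat_lit 16384) Steps.nil))))))) (nat_lit 52) (nat_lit 4),
  Rule.mk (nat_lit 1) (nat_lit 132) (Steps.bwd (nat_lit 14) (Steps.bwd (nat_lit 8) (Steps.fwd (nat_lit 53248) (Steps.bwd (nat_lit 11) (Steps.fwd (nat_lit 40960) (Steps.fwd (nat_lit 28672) (Steps.fwd (nat_lit 4096) (Steps.bwd (nat_lit 13) Steps.nil)))))))) (nat_lit 46) (nat_lit 3),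
  Rule.mk (nat_lit 4) (nat_lit 117) (Steps.bwd (nat_lit 10) (Steps.fwd (nat_lit 16384) (Steps.bwd (nat_lit 9) (Steps.fwd (nat_lit 49152) (Steps.fwd (nat_lit 53248) (Steps.fwd (nat_lit 28672) (Steps.fwd (nat_lit 53248) Steps.nil))))))) (nat_lit 51) (nat_lit 6),
  Rule.mk (nat_lit 7) (nat_lit 132) (Steps.bwd (nat_lit 10) (Steps.bwd (nat_lit 12) (Steps.fwd (nat_lit 57344) (Steps.fwd (nat_lit 32768) (Steps.fwd (nat_lit 57344) (Steps.bwd (nat_lit 2) (Steps.fwd (nat_lit 53248) (Steps.fwd (nat_lit 8192) Steps.nil)))))))) (nat_lit 47) (nat_lit 1),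
  Rule.mk (nat_lit 13) (nat_lit 132) (Steps.bwd (nat_lit 7) (Steps.bwd (nat_lit 13) (Steps.bwd (nat_lit 2) (Steps.bwd (nat_lit 14) (Steps.bwd (nat_lit 1) (Steps.fwd (nat_lit 32768) (Steps.bwd (nat_lit 10) (Steps.fwd (nat_lit 45056) Steps.nil)))))))) (nat_lit 47) (nat_lit 4),
  Rule.mk (nat_lit 7) (nat_lit 117) (Steps.bwd (nat_lit 13) (Steps.bwd (nat_lit 12) (Steps.bwd (nat_lit 12) (Steps.bwd (nat_lit 4) (Steps.fwd (nat_lit 45056) (Steps.bwd (nat_lit 3) (Steps.bwd (nat_lit 7) Steps.nil))))))) (nat_lit 53) (nat_lit 2),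
  Rule.mk (nat_lit 1) (nat_lit 117) (Steps.bwd (nat_lit 3) (Steps.fwd (nat_lit 8192) (Steps.fwd (nat_lit 16384) (Steps.bwd (nat_lit 1) (Steps.bwd (nat_lit 3) (Steps.bwd (nat_lit 1) (Steps.fwd (nat_lit 16384) Steps.nil))))))) (nat_lit 4) (nat_lit 1),
  Rule.mk (nat_lit 11) (nat_lit 117) (Steps.bwd (nat_lit 3) (Steps.fwd (nat_lit 49152) (Steps.fwd (nat_lit 49152) (Steps.bwd (nat_lit 14) (Steps.fwd (nat_lit 28672) (Steps.fwd (nat_lit 28672) (Steps.bwd (nat_lit 4) Steps.nil))))))) (nat_lit 52) (nat_lit 2),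
  Rule.mk (nat_lit 13) (nat_lit 117) (Steps.bwd (nat_lit 12) (Steps.fwd (nat_lit 36864) (Steps.bwd (nat_lit 4) (Steps.fwd (nat_lit 40960) (Steps.fwd (nat_lit 16384) (Steps.bwd (nat_lit 13) (Steps.fwd (nat_lit 32768) Steps.nil))))))) (nat_lit 50) (nat_lit 6),
  Rule.mk (nat_lit 1) (nat_lit 177) (Steps.bwd (nat_lit 3) (Steps.bwd (nat_lit 2) (Steps.fwd (nat_lit 12288) (Steps.fwd (nat_lit 8192) (Steps.bwd (nat_lit 3) (Steps.bwd (nat_lit 2) (Steps.fwd (nat_lit 12288) (Steps.bwd (nat_lit 1) (Steps.bwd (nat_lit 3) (Steps.bwd (nat_lit 2) (Steps.bwd (nat_lit 4) Steps.nil))))))))))) (nat_lit 8) (nat_lit 3),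
  Rule.mk (nat_lit 14) (nat_lit 132) (Steps.bwd (nat_lit 8) (Steps.fwd (nat_lit 53248) (Steps.bwd (nat_lit 11) (Steps.bwd (nat_lit 9) (Steps.bwd (nat_lit 8) (Steps.bwd (nat_lit 2) (Steps.bwd (nat_lit 13) (Steps.bwd (nat_lit 1) Steps.nil)))))))) (nat_lit 46) (nat_lit 4),
  Rule.mk (nat_lit 3) (nat_lit 117) (Steps.bwd (nat_lit 13) (Steps.fwd (nat_lit 32768) (Steps.fwd (nat_lit 57344) (Steps.fwd (nat_lit 45056) (Steps.bwd (nat_lit 10) (Steps.fwd (nat_lit 12288) (Steps.bwd (nat_lit 9) Steps.nil))))))) (nat_lit 50) (nat_lit 3),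
  Rule.mk (nat_lit 13) (nat_lit 132) (Steps.bwd (nat_lit 1) (Steps.fwd (nat_lit 53248) (Steps.fwd (nat_lit 28672) (Steps.bwd (nat_lit 14) (Steps.bwd (nat_lit 11) (Steps.bwd (nat_lit 9) (Steps.bwd (nat_lit 8) (Steps.fwd (nat_lit 4096) Steps.nil)))))))) (nat_lit 46) (nat_lit 2),
  Rule.mk (nat_lit 1) (nat_lit 177) (Steps.bwd (nat_lit 3) (Steps.bwd (nat_lit 2) (Steps.bwd (nat_lit 4) (Steps.fwd (nat_lit 8192) (Steps.fwd (nat_lit 16384) (Steps.bwd (nat_lit 2) (Steps.bwd (nat_lit 4) (Steps.bwd (nat_lit 1) (Steps.bwd (nat_lit 3) (Steps.fwd (nat_lit 4096) (Steps.fwd (nat_lit 12288) Steps.nil))))))))))) (nat_lit 8) (nat_lit 3),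
  Rule.mk (nat_lit 2) (nat_lit 102) (Steps.fwd (nat_lit 49152) (Steps.fwd (nat_lit 8192) (Steps.fwd (nat_lit 53248) (Steps.fwd (nat_lit 28672) (Steps.fwd (nat_lit 49152) (Steps.bwd (nat_lit 11) Steps.nil)))))) (nat_lit 44) (nat_lit 1),
  Rule.mk (nat_lit 2) (nat_lit 132) (Steps.bwd (nat_lit 14) (Steps.fwd (nat_lit 8192) (Steps.bwd (nat_lit 7) (Steps.fwd (nat_lit 36864) (Steps.bwd (nat_lit 12) (Steps.bwd (nat_lit 13) (Steps.bwd (nat_lit 7) (Steps.bwd (nat_lit 13) Steps.nil)))))))) (nat_lit 47) (nat_lit 7),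
  Rule.mk (nat_lit 7) (nat_lit 102) (Steps.bwd (nat_lit 13) (Steps.fwd (nat_lit 4096) (Steps.bwd (nat_lit 12) (Steps.bwd (nat_lit 1) (Steps.bwd (nat_lit 12) (Steps.fwd (nat_lit 45056) Steps.nil)))))) (nat_lit 45) (nat_lit 3),
  Rule.mk (nat_lit 2) (nat_lit 132) (Steps.bwd (nat_lit 13) (Steps.fwd (nat_lit 8192) (Steps.bwd (nat_lit 14) (Steps.bwd (nat_lit 8) (Steps.bwd (nat_lit 14) (Steps.bwd (nat_lit 11) (Steps.bwd (nat_lit 9) (Steps.fwd (nat_lit 28672) Steps.nil)))))))) (nat_lit 46) (nat_lit 1),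
  Rule.mk (nat_lit 12) (nat_lit 132) (Steps.bwd (nat_lit 13) (Steps.bwd (nat_lit 7) (Steps.bwd (nat_lit 13) (Steps.bwd (nat_lit 2) (Steps.bwd (nat_lit 14) (Steps.fwd (nat_lit 8192) (Steps.fwd (nat_lit 32768) (Steps.fwd (nat_lit 36864) Steps.nil)))))))) (nat_lit 47) (nat_lit 3),
  Rule.mk (nat_lit 9) (nat_lit 132) (Steps.bwd (nat_lit 8) (Steps.bwd (nat_lit 2) (Steps.bwd (nat_lit 13) (Steps.fwd (nat_lit 8192) (Steps.fwd (nat_lit 53248) (Steps.fwd (nat_lit 28672) (Steps.bwd (nat_lit 14) (Steps.bwd (nat_lit 11) Steps.nil)))))))) (nat_lit 46) (nat_lit 8),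
  Rule.mk (nat_lit 1) (nat_lit 132) (Steps.fwd (nat_lit 32768) (Steps.bwd (nat_lit 10) (Steps.bwd (nat_lit 12) (Steps.bwd (nat_lit 13) (Steps.bwd (nat_lit 7) (Steps.bwd (nat_lit 13) (Steps.bwd (nat_lit 2) (Steps.bwd (nat_lit 14) Steps.nil)))))))) (nat_lit 47) (nat_lit 0),
  Rule.mk (nat_lit 16) (nat_lit 72) (Steps.bwd (nat_lit 12) (Steps.fwd (nat_lit 36864) (Steps.bwd (nat_lit 11) (Steps.bwd (nat_lit 9) Steps.nil)))) (nat_lit 37) (nat_lit 1),
  Rule.mk (nat_lit 8) (nat_lit 117) (Steps.bwd (nat_lit 4) (Steps.fwd (nat_lit 49152) (Steps.bwd (nat_lit 3) (Steps.bwd (nat_lit 11) (Steps.fwd (nat_lit 49152) (Steps.fwd (nat_lit 53248) (Steps.bwd (nat_lit 8) Steps.nil))))))) (nat_lit 52) (nat_lit 0),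
  Rule.mk (nat_lit 14) (nat_lit 117) (Steps.fwd (nat_lit 12288) (Steps.bwd (nat_lit 10) (Steps.bwd (nat_lit 3) (Steps.bwd (nat_lit 9) (Steps.fwd (nat_lit 49152) (Steps.fwd (nat_lit 53248) (Steps.bwd (nat_lit 8) Steps.nil))))))) (nat_lit 51) (nat_lit 5),
  Rule.mk (nat_lit 2) (nat_lit 132) (Steps.bwd (nat_lit 14) (Steps.bwd (nat_lit 1) (Steps.bwd (nat_lit 7) (Steps.bwd (nat_lit 10) (Steps.bwd (nat_lit 12) (Steps.fwd (nat_lit 57344) (Steps.bwd (nat_lit 7) (Steps.bwd (nat_lit 13) Steps.nil)))))))) (nat_lit 47) (nat_lit 7),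
  Rule.mk (nat_lit 3) (nat_lit 117) (Steps.bwd (nat_lit 13) (Steps.bwd (nat_lit 7) (Steps.bwd (nat_lit 13) (Steps.bwd (nat_lit 12) (Steps.fwd (nat_lit 36864) (Steps.bwd (nat_lit 4) (Steps.fwd (nat_lit 40960) Steps.nil))))))) (nat_lit 50) (nat_lit 3),
  Rule.mk (nat_lit 2) (nat_lit 132) (Steps.bwd (nat_lit 13) (Steps.bwd (nat_lit 1) (Steps.bwd (nat_lit 14) (Steps.bwd (nat_lit 8) (Steps.fwd (nat_lit 53248) (Steps.bwd (nat_lit 11) (Steps.fwd (nat_lit 40960) (Steps.bwd (nat_lit 8) Steps.nil)))))))) (nat_lit 46) (nat_lit 1),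
  Rule.mk (nat_lit 1) (nat_lit 177) (Steps.bwd (nat_lit 4) (Steps.bwd (nat_lit 2) (Steps.bwd (nat_lit 3) (Steps.fwd (nat_lit 8192) (Steps.bwd (nat_lit 4) (Steps.bwd (nat_lit 2) (Steps.bwd (nat_lit 3) (Steps.fwd (nat_lit 8192) (Steps.bwd (nat_lit 4) (Steps.bwd (nat_lit 2) (Steps.bwd (nat_lit 3) Steps.nil))))))))))) (nat_lit 9) (nat_lit 0),
  Rule.mk (nat_lit 1) (nat_lit 87) (Steps.bwd (nat_lit 3) (Steps.bwd (nat_lit 2) (Steps.fwd (nat_lit 4096) (Steps.bwd (nat_lit 4) (Steps.bwd (nat_lit 1) Steps.nil))))) (nat_lit 6) (nat_lit 5)]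
noncomputable def R_48 : List (Rule) := [Rule.mk (nat_lit 9) (nat_lit 132) (Steps.bwd (nat_lit 8) (Steps.fwd (nat_lit 4096) (Steps.fwd (nat_lit 57344) (Steps.bwd (nat_lit 1) (Steps.fwd (nat_lit 53248) (Steps.fwd (nat_lit 28672) (Steps.bwd (nat_lit 14) (Steps.fwd (nat_lit 49152) Steps.nil)))))))) (nat_lit 46) (nat_lit 8),
  Rule.mk (nat_lit 3) (nat_lit 117) (Steps.bwd (nat_lit 13) (Steps.fwd (nat_lit 32768) (Steps.fwd (nat_lit 57344) (Steps.fwd (nat_lit 45056) (Steps.fwd (nat_lit 36864) (Steps.bwd (nat_lit 4) (Steps.bwd (nat_lit 9) Steps.nil))))))) (nat_lit 50) (nat_lit 3),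
  Rule.mk (nat_lit 11) (nat_lit 117) (Steps.bwd (nat_lit 3) (Steps.fwd (nat_lit 49152) (Steps.fwd (nat_lit 49152) (Steps.bwd (nat_lit 14) (Steps.bwd (nat_lit 8) (Steps.fwd (nat_lit 28672) (Steps.fwd (nat_lit 12288) Steps.nil))))))) (nat_lit 52) (nat_lit 2),
  Rule.mk (nat_lit 9) (nat_lit 117) (Steps.bwd (nat_lit 11) (Steps.bwd (nat_lit 14) (Steps.bwd (nat_lit 8) (Steps.fwd (nat_lit 53248) (Steps.fwd (nat_lit 12288) (Steps.bwd (nat_lit 10) (Steps.bwd (nat_lit 3) Steps.nil))))))) (nat_lit 51) (nat_lit 1),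
  Rule.mk (nat_lit 2) (nat_lit 132) (Steps.bwd (nat_lit 13) (Steps.bwd (nat_lit 1) (Steps.fwd (nat_lit 53248) (Steps.bwd (nat_lit 8) (Steps.fwd (nat_lit 53248) (Steps.fwd (nat_lit 49152) (Steps.fwd (nat_lit 40960) (Steps.bwd (nat_lit 8) Steps.nil)))))))) (nat_lit 46) (nat_lit 1),
  Rule.mk (nat_lit 1) (nat_lit 102) (Steps.bwd (nat_lit 14) (Steps.fwd (nat_lit 28672) (Steps.bwd (nat_lit 11) (Steps.fwd (nat_lit 49152) (Steps.fwd (nat_lit 4096) (Steps.fwd (nat_lit 49152) Steps.nil)))))) (nat_lit 44) (nat_lit 3),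
  Rule.mk (nat_lit 2) (nat_lit 132) (Steps.bwd (nat_lit 14) (Steps.fwd (nat_lit 8192) (Steps.bwd (nat_lit 7) (Steps.fwd (nat_lit 36864) (Steps.bwd (nat_lit 12) (Steps.fwd (nat_lit 57344) (Steps.fwd (nat_lit 32768) (Steps.bwd (nat_lit 13) Steps.nil)))))))) (nat_lit 47) (nat_lit 7),
  Rule.mk (nat_lit 1) (nat_lit 102) (Steps.bwd (nat_lit 14) (Steps.fwd (nat_lit 28672) (Steps.bwd (nat_lit 11) (Steps.fwd (nat_lit 49152) (Steps.bwd (nat_lit 2) (Steps.fwd (nat_lit 49152) Steps.nil)))))) (nat_lit 44) (nat_lit 3),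
  Rule.mk (nat_lit 4) (nat_lit 87) (Steps.fwd (nat_lit 4096) (Steps.fwd (nat_lit 4096) (Steps.fwd (nat_lit 16384) (Steps.fwd (nat_lit 8192) (Steps.bwd (nat_lit 1) Steps.nil))))) (nat_lit 7) (nat_lit 1),
  Rule.mk (nat_lit 14) (nat_lit 132) (Steps.bwd (nat_lit 1) (Steps.bwd (nat_lit 7) (Steps.bwd (nat_lit 10) (Steps.fwd (nat_lit 45056) (Steps.fwd (nat_lit 57344) (Steps.bwd (nat_lit 7) (Steps.fwd (nat_lit 57344) (Steps.bwd (nat_lit 2) Steps.nil)))))))) (nat_lit 47) (nat_lit 8),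
  Rule.mk (nat_lit 2) (nat_lit 132) (Steps.bwd (nat_lit 13) (Steps.fwd (nat_lit 8192) (Steps.bwd (nat_lit 14) (Steps.fwd (nat_lit 28672) (Steps.bwd (nat_lit 14) (Steps.bwd (nat_lit 11) (Steps.bwd (nat_lit 9) (Steps.bwd (nat_lit 8) Steps.nil)))))))) (nat_lit 46) (nat_lit 1),
  Rule.mk (nat_lit 4) (nat_lit 117) (Steps.bwd (nat_lit 10) (Steps.bwd (nat_lit 3) (Steps.fwd (nat_lit 40960) (Steps.fwd (nat_lit 49152) (Steps.bwd (nat_lit 14) (Steps.bwd (nat_lit 8) (Steps.bwd (nat_lit 14) Steps.nil))))))) (nat_lit 51) (nat_lit 6),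
  Rule.mk (nat_lit 11) (nat_lit 102) (Steps.bwd (nat_lit 11) (Steps.fwd (nat_lit 4096) (Steps.fwd (nat_lit 49152) (Steps.fwd (nat_lit 8192) (Steps.fwd (nat_lit 53248) (Steps.fwd (nat_lit 28672) Steps.nil)))))) (nat_lit 44) (nat_lit 6),
  Rule.mk (nat_lit 12) (nat_lit 102) (Steps.bwd (nat_lit 7) (Steps.bwd (nat_lit 13) (Steps.bwd (nat_lit 2) (Steps.bwd (nat_lit 12) (Steps.bwd (nat_lit 1) (Steps.fwd (nat_lit 45056) Steps.nil)))))) (nat_lit 45) (nat_lit 2),
  Rule.mk (nat_lit 4) (nat_lit 117) (Steps.bwd (nat_lit 9) (Steps.fwd (nat_lit 16384) (Steps.bwd (nat_lit 13) (Steps.bwd (nat_lit 7) (Steps.bwd (nat_lit 13) (Steps.fwd (nat_lit 45056) (Steps.bwd (nat_lit 10) Steps.nil))))))) (nat_lit 50) (nat_lit 1),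
  Rule.mk (nat_lit 10) (nat_lit 117) (Steps.fwd (nat_lit 16384) (Steps.bwd (nat_lit 9) (Steps.bwd (nat_lit 11) (Steps.fwd (nat_lit 53248) (Steps.bwd (nat_lit 8) (Steps.bwd (nat_lit 14) (Steps.bwd (nat_lit 4) Steps.nil))))))) (nat_lit 51) (nat_lit 7),
  Rule.mk (nat_lit 1) (nat_lit 102) (Steps.fwd (nat_lit 53248) (Steps.fwd (nat_lit 28672) (Steps.bwd (nat_lit 11) (Steps.fwd (nat_lit 49152) (Steps.fwd (nat_lit 4096) (Steps.bwd (nat_lit 11) Steps.nil)))))) (nat_lit 44) (nat_lit 3),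
  Rule.mk (nat_lit 1) (nat_lit 117) (Steps.bwd (nat_lit 3) (Steps.fwd (nat_lit 8192) (Steps.fwd (nat_lit 16384) (Steps.bwd (nat_lit 1) (Steps.fwd (nat_lit 16384) (Steps.fwd (nat_lit 8192) (Steps.fwd (nat_lit 16384) Steps.nil))))))) (nat_lit 4) (nat_lit 1),
  Rule.mk (nat_lit 2) (nat_lit 177) (Steps.bwd (nat_lit 3) (Steps.fwd (nat_lit 8192) (Steps.fwd (nat_lit 12288) (Steps.bwd (nat_lit 2) (Steps.fwd (nat_lit 16384) (Steps.fwd (nat_lit 8192) (Steps.fwd (nat_lit 12288) (Steps.bwd (nat_lit 2) (Steps.fwd (nat_lit 16384) (Steps.bwd (nat_lit 1) (Steps.bwd (nat_lit 4) Steps.nil))))))))))) (nat_lit 9) (nat_lit 2),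
  Rule.mk (nat_lit 14) (nat_lit 117) (Steps.fwd (nat_lit 12288) (Steps.fwd (nat_lit 36864) (Steps.bwd (nat_lit 3) (Steps.bwd (nat_lit 9) (Steps.fwd (nat_lit 49152) (Steps.bwd (nat_lit 14) (Steps.bwd (nat_lit 8) Steps.nil))))))) (nat_lit 51) (nat_lit 5),
  Rule.mk (nat_lit 4) (nat_lit 117) (Steps.bwd (nat_lit 9) (Steps.bwd (nat_lit 3) (Steps.fwd (nat_lit 57344) (Steps.bwd (nat_lit 7) (Steps.fwd (nat_lit 57344) (Steps.bwd (nat_lit 12) (Steps.bwd (nat_lit 10) Steps.nil))))))) (nat_lit 50) (nat_lit 1),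
  Rule.mk (nat_lit 3) (nat_lit 117) (Steps.bwd (nat_lit 9) (Steps.fwd (nat_lit 49152) (Steps.bwd (nat_lit 14) (Steps.fwd (nat_lit 28672) (Steps.fwd (nat_lit 53248) (Steps.bwd (nat_lit 4) (Steps.bwd (nat_lit 10) Steps.nil))))))) (nat_lit 51) (nat_lit 0),
  Rule.mk (nat_lit 1) (nat_lit 117) (Steps.fwd (nat_lit 16384) (Steps.fwd (nat_lit 8192) (Steps.bwd (nat_lit 3) (Steps.fwd (nat_lit 8192) (Steps.bwd (nat_lit 3) (Steps.fwd (nat_lit 8192) (Steps.bwd (nat_lit 3) Steps.nil))))))) (nat_lit 4) (nat_lit 1),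
  Rule.mk (nat_lit 3) (nat_lit 117) (Steps.fwd (nat_lit 8192) (Steps.fwd (nat_lit 16384) (Steps.fwd (nat_lit 8192) (Steps.bwd (nat_lit 3) (Steps.bwd (nat_lit 1) (Steps.bwd (nat_lit 3) (Steps.bwd (nat_lit 1) Steps.nil))))))) (nat_lit 4) (nat_lit 0),
  Rule.mk (nat_lit 10) (nat_lit 117) (Steps.bwd (nat_lit 3) (Steps.bwd (nat_lit 9) (Steps.bwd (nat_lit 11) (Steps.bwd (nat_lit 14) (Steps.bwd (nat_lit 8) (Steps.bwd (nat_lit 14) (Steps.fwd (nat_lit 12288) Steps.nil))))))) (nat_lit 51) (nat_lit 7),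
  Rule.mk (nat_lit 11) (nat_lit 117) (Steps.bwd (nat_lit 14) (Steps.bwd (nat_lit 8) (Steps.bwd (nat_lit 14) (Steps.bwd (nat_lit 4) (Steps.fwd (nat_lit 36864) (Steps.bwd (nat_lit 3) (Steps.bwd (nat_lit 9) Steps.nil))))))) (nat_lit 51) (nat_lit 2),
  Rule.mk (nat_lit 13) (nat_lit 132) (Steps.bwd (nat_lit 1) (Steps.fwd (nat_lit 53248) (Steps.fwd (nat_lit 28672) (Steps.fwd (nat_lit 53248) (Steps.fwd (nat_lit 49152) (Steps.fwd (nat_lit 40960) (Steps.bwd (nat_lit 8) (Steps.bwd (nat_lit 2) Steps.nil)))))))) (nat_lit 46) (nat_lit 2),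
  Rule.mk (nat_lit 3) (nat_lit 57) (Steps.fwd (nat_lit 45056) (Steps.fwd (nat_lit 12288) (Steps.bwd (nat_lit 5) Steps.nil))) (nat_lit 15) (nat_lit 3),
  Rule.mk (nat_lit 10) (nat_lit 117) (Steps.bwd (nat_lit 3) (Steps.fwd (nat_lit 40960) (Steps.bwd (nat_lit 11) (Steps.fwd (nat_lit 53248) (Steps.fwd (nat_lit 28672) (Steps.fwd (nat_lit 53248) (Steps.bwd (nat_lit 4) Steps.nil))))))) (nat_lit 51) (nat_lit 7),
  Rule.mk (nat_lit 7) (nat_lit 132) (Steps.bwd (nat_lit 13) (Steps.bwd (nat_lit 2) (Steps.bwd (nat_lit 14) (Steps.fwd (nat_lit 8192) (Steps.fwd (nat_lit 32768) (Steps.bwd (nat_lit 10) (Steps.bwd (nat_lit 12) (Steps.bwd (nat_lit 13) Steps.nil)))))))) (nat_lit 47) (nat_lit 5),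
  Rule.mk (nat_lit 1) (nat_lit 132) (Steps.fwd (nat_lit 53248) (Steps.fwd (nat_lit 28672) (Steps.fwd (nat_lit 53248) (Steps.fwd (nat_lit 49152) (Steps.fwd (nat_lit 40960) (Steps.bwd (nat_lit 8) (Steps.bwd (nat_lit 2) (Steps.bwd (nat_lit 13) Steps.nil)))))))) (nat_lit 46) (nat_lit 3),
  Rule.mk (nat_lit 12) (nat_lit 102) (Steps.bwd (nat_lit 12) (Steps.fwd (nat_lit 32768) (Steps.bwd (nat_lit 13) (Steps.fwd (nat_lit 4096) (Steps.fwd (nat_lit 45056) (Steps.fwd (nat_lit 8192) Steps.nil)))))) (nat_lit 45) (nat_lit 1),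
  Rule.mk (nat_lit 13) (nat_lit 117) (Steps.bwd (nat_lit 12) (Steps.fwd (nat_lit 36864) (Steps.bwd (nat_lit 4) (Steps.fwd (nat_lit 40960) (Steps.bwd (nat_lit 3) (Steps.fwd (nat_lit 57344) (Steps.fwd (nat_lit 32768) Steps.nil))))))) (nat_lit 50) (nat_lit 6),
  Rule.mk (nat_lit 7) (nat_lit 132) (Steps.bwd (nat_lit 10) (Steps.fwd (nat_lit 45056) (Steps.bwd (nat_lit 13) (Steps.fwd (nat_lit 32768) (Steps.fwd (nat_lit 57344) (Steps.fwd (nat_lit 4096) (Steps.bwd (nat_lit 14) (Steps.fwd (nat_lit 8192) Steps.nil)))))))) (nat_lit 47) (nat_lit 1),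
  Rule.mk (nat_lit 3) (nat_lit 117) (Steps.bwd (nat_lit 13) (Steps.fwd (nat_lit 32768) (Steps.bwd (nat_lit 13) (Steps.fwd (nat_lit 45056) (Steps.bwd (nat_lit 10) (Steps.bwd (nat_lit 4) (Steps.bwd (nat_lit 9) Steps.nil))))))) (nat_lit 50) (nat_lit 3),
  Rule.mk (nat_lit 14) (nat_lit 117) (Steps.bwd (nat_lit 8) (Steps.fwd (nat_lit 53248) (Steps.fwd (nat_lit 12288) (Steps.fwd (nat_lit 36864) (Steps.fwd (nat_lit 16384) (Steps.fwd (nat_lit 40960) (Steps.bwd (nat_lit 11) Steps.nil))))))) (nat_lit 51) (nat_lit 3),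
  Rule.mk (nat_lit 3) (nat_lit 117) (Steps.bwd (nat_lit 13) (Steps.bwd (nat_lit 7) (Steps.bwd (nat_lit 13) (Steps.bwd (nat_lit 12) (Steps.bwd (nat_lit 10) (Steps.bwd (nat_lit 4) (Steps.bwd (nat_lit 9) Steps.nil))))))) (nat_lit 50) (nat_lit 3),
  Rule.mk (nat_lit 13) (nat_lit 132) (Steps.bwd (nat_lit 1) (Steps.fwd (nat_lit 53248) (Steps.fwd (nat_lit 28672) (Steps.fwd (nat_lit 53248) (Steps.fwd (nat_lit 49152) (Steps.fwd (nat_lit 40960) (Steps.fwd (nat_lit 28672) (Steps.fwd (nat_lit 4096) Steps.nil)))))))) (nat_lit 46) (nat_lit 2),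
  Rule.mk (nat_lit 3) (nat_lit 177) (Steps.bwd (nat_lit 1) (Steps.bwd (nat_lit 4) (Steps.bwd (nat_lit 2) (Steps.fwd (nat_lit 16384) (Steps.bwd (nat_lit 1) (Steps.bwd (nat_lit 4) (Steps.fwd (nat_lit 4096) (Steps.fwd (nat_lit 16384) (Steps.fwd (nat_lit 8192) (Steps.bwd (nat_lit 4) (Steps.fwd (nat_lit 4096) Steps.nil))))))))))) (nat_lit 9) (nat_lit 3),
  Rule.mk (nat_lit 4) (nat_lit 117) (Steps.bwd (nat_lit 10) (Steps.fwd (nat_lit 16384) (Steps.fwd (nat_lit 40960) (Steps.fwd (nat_lit 49152) (Steps.fwd (nat_lit 53248) (Steps.fwd (nat_lit 28672) (Steps.bwd (nat_lit 14) Steps.nil))))))) (nat_lit 51) (nat_lit 6),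
  Rule.mk (nat_lit 7) (nat_lit 102) (Steps.bwd (nat_lit 13) (Steps.bwd (nat_lit 2) (Steps.bwd (nat_lit 12) (Steps.bwd (nat_lit 1) (Steps.fwd (nat_lit 45056) (Steps.fwd (nat_lit 45056) Steps.nil)))))) (nat_lit 45) (nat_lit 3),
  Rule.mk (nat_lit 13) (nat_lit 102) (Steps.bwd (nat_lit 2) (Steps.bwd (nat_lit 12) (Steps.bwd (nat_lit 1) (Steps.bwd (nat_lit 12) (Steps.bwd (nat_lit 12) (Steps.fwd (nat_lit 32768) Steps.nil)))))) (nat_lit 45) (nat_lit 4),
  Rule.mk (nat_lit 12) (nat_lit 117) (Steps.bwd (nat_lit 3) (Steps.fwd (nat_lit 32768) (Steps.bwd (nat_lit 7) (Steps.fwd (nat_lit 57344) (Steps.bwd (nat_lit 12) (Steps.fwd (nat_lit 45056) (Steps.fwd (nat_lit 12288) Steps.nil))))))) (nat_lit 53) (nat_lit 7),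
  Rule.mk (nat_lit 16) (nat_lit 72) (Steps.bwd (nat_lit 14) (Steps.fwd (nat_lit 45056) (Steps.bwd (nat_lit 13) (Steps.fwd (nat_lit 49152) Steps.nil)))) (nat_lit 41) (nat_lit 1),
  Rule.mk (nat_lit 13) (nat_lit 102) (Steps.bwd (nat_lit 2) (Steps.fwd (nat_lit 45056) (Steps.bwd (nat_lit 1) (Steps.bwd (nat_lit 12) (Steps.bwd (nat_lit 12) (Steps.bwd (nat_lit 7) Steps.nil)))))) (nat_lit 45) (nat_lit 4),
  Rule.mk (nat_lit 16) (nat_lit 72) (Steps.bwd (nat_lit 8) (Steps.fwd (nat_lit 36864) (Steps.bwd (nat_lit 7) (Steps.fwd (nat_lit 40960) Steps.nil)))) (nat_lit 19) (nat_lit 0),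
  Rule.mk (nat_lit 9) (nat_lit 132) (Steps.bwd (nat_lit 8) (Steps.bwd (nat_lit 2) (Steps.bwd (nat_lit 13) (Steps.bwd (nat_lit 1) (Steps.fwd (nat_lit 53248) (Steps.fwd (nat_lit 28672) (Steps.fwd (nat_lit 53248) (Steps.bwd (nat_lit 11) Steps.nil)))))))) (nat_lit 46) (nat_lit 8),
  Rule.mk (nat_lit 11) (nat_lit 117) (Steps.bwd (nat_lit 14) (Steps.fwd (nat_lit 28672) (Steps.fwd (nat_lit 53248) (Steps.fwd (nat_lit 12288) (Steps.fwd (nat_lit 36864) (Steps.fwd (nat_lit 16384) (Steps.fwd (nat_lit 40960) Steps.nil))))))) (nat_lit 51) (nat_lit 2),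
  Rule.mk (nat_lit 10) (nat_lit 117) (Steps.bwd (nat_lit 3) (Steps.fwd (nat_lit 40960) (Steps.fwd (nat_lit 49152) (Steps.fwd (nat_lit 53248) (Steps.fwd (nat_lit 28672) (Steps.fwd (nat_lit 53248) (Steps.bwd (nat_lit 4) Steps.nil))))))) (nat_lit 51) (nat_lit 7),
  Rule.mk (nat_lit 1) (nat_lit 177) (Steps.bwd (nat_lit 3) (Steps.fwd (nat_lit 4096) (Steps.bwd (nat_lit 4) (Steps.bwd (nat_lit 1) (Steps.fwd (nat_lit 16384) (Steps.fwd (nat_lit 4096) (Steps.bwd (nat_lit 4) (Steps.fwd (nat_lit 8192) (Steps.bwd (nat_lit 3) (Steps.bwd (nat_lit 2) (Steps.bwd (nat_lit 4) Steps.nil))))))))))) (nat_lit 8) (nat_lit 3),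
  Rule.mk (nat_lit 14) (nat_lit 132) (Steps.fwd (nat_lit 28672) (Steps.bwd (nat_lit 14) (Steps.fwd (nat_lit 49152) (Steps.bwd (nat_lit 9) (Steps.fwd (nat_lit 28672) (Steps.bwd (nat_lit 2) (Steps.fwd (nat_lit 57344) (Steps.bwd (nat_lit 1) Steps.nil)))))))) (nat_lit 46) (nat_lit 4),
  Rule.mk (nat_lit 11) (nat_lit 117) (Steps.bwd (nat_lit 3) (Steps.fwd (nat_lit 49152) (Steps.bwd (nat_lit 11) (Steps.bwd (nat_lit 14) (Steps.fwd (nat_lit 28672) (Steps.bwd (nat_lit 8) (Steps.fwd (nat_lit 12288) Steps.nil))))))) (nat_lit 52) (nat_lit 2),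
  Rule.mk (nat_lit 2) (nat_lit 132) (Steps.bwd (nat_lit 13) (Steps.fwd (nat_lit 8192) (Steps.bwd (nat_lit 14) (Steps.fwd (nat_lit 28672) (Steps.fwd (nat_lit 53248) (Steps.bwd (nat_lit 11) (Steps.bwd (nat_lit 9) (Steps.fwd (nat_lit 28672) Steps.nil)))))))) (nat_lit 46) (nat_lit 1),
  Rule.mk (nat_lit 2) (nat_lit 87) (Steps.fwd (nat_lit 16384) (Steps.fwd (nat_lit 8192) (Steps.bwd (nat_lit 1) (Steps.fwd (nat_lit 12288) (Steps.bwd (nat_lit 2) Steps.nil))))) (nat_lit 7) (nat_lit 3),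
  Rule.mk (nat_lit 11) (nat_lit 102) (Steps.bwd (nat_lit 2) (Steps.bwd (nat_lit 11) (Steps.fwd (nat_lit 8192) (Steps.bwd (nat_lit 14) (Steps.fwd (nat_lit 28672) (Steps.fwd (nat_lit 49152) Steps.nil)))))) (nat_lit 44) (nat_lit 0),
  Rule.mk (nat_lit 14) (nat_lit 117) (Steps.bwd (nat_lit 8) (Steps.bwd (nat_lit 14) (Steps.bwd (nat_lit 4) (Steps.bwd (nat_lit 10) (Steps.bwd (nat_lit 3) (Steps.fwd (nat_lit 40960) (Steps.bwd (nat_lit 11) Steps.nil))))))) (nat_lit 51) (nat_lit 3),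
  Rule.mk (nat_lit 12) (nat_lit 102) (Steps.bwd (nat_lit 12) (Steps.bwd (nat_lit 7) (Steps.fwd (nat_lit 57344) (Steps.fwd (nat_lit 4096) (Steps.fwd (nat_lit 45056) (Steps.bwd (nat_lit 1) Steps.nil)))))) (nat_lit 45) (nat_lit 1),
  Rule.mk (nat_lit 3) (nat_lit 117) (Steps.fwd (nat_lit 32768) (Steps.bwd (nat_lit 7) (Steps.fwd (nat_lit 57344) (Steps.bwd (nat_lit 12) (Steps.fwd (nat_lit 45056) (Steps.fwd (nat_lit 12288) (Steps.bwd (nat_lit 12) Steps.nil))))))) (nat_lit 53) (nat_lit 0),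
  Rule.mk (nat_lit 4) (nat_lit 177) (Steps.bwd (nat_lit 2) (Steps.bwd (nat_lit 3) (Steps.bwd (nat_lit 1) (Steps.bwd (nat_lit 4) (Steps.fwd (nat_lit 4096) (Steps.bwd (nat_lit 3) (Steps.bwd (nat_lit 1) (Steps.fwd (nat_lit 12288) (Steps.fwd (nat_lit 4096) (Steps.bwd (nat_lit 3) (Steps.fwd (nat_lit 8192) Steps.nil))))))))))) (nat_lit 9) (nat_lit 1),
  Rule.mk (nat_lit 11) (nat_lit 102) (Steps.bwd (nat_lit 2) (Steps.fwd (nat_lit 49152) (Steps.fwd (nat_lit 8192) (Steps.bwd (nat_lit 14) (Steps.bwd (nat_lit 8) (Steps.bwd (nat_lit 11) Steps.nil)))))) (nat_lit 44) (nat_lit 0),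
  Rule.mk (nat_lit 8) (nat_lit 132) (Steps.bwd (nat_lit 2) (Steps.bwd (nat_lit 13) (Steps.fwd (nat_lit 8192) (Steps.bwd (nat_lit 14) (Steps.bwd (nat_lit 8) (Steps.bwd (nat_lit 14) (Steps.fwd (nat_lit 49152) (Steps.bwd (nat_lit 9) Steps.nil)))))))) (nat_lit 46) (nat_lit 0),
  Rule.mk (nat_lit 3) (nat_lit 72) (Steps.fwd (nat_lit 16384) (Steps.bwd (nat_lit 3) (Steps.bwd (nat_lit 3) (Steps.bwd (nat_lit 3) Steps.nil)))) (nat_lit 2) (nat_lit 0),
  Rule.mk (nat_lit 16) (nat_lit 57) (Steps.fwd (nat_lit 45056) (Steps.bwd (nat_lit 15) (Steps.bwd (nat_lit 11) Steps.nil))) (nat_lit 29) (nat_lit 1),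
  Rule.mk (nat_lit 9) (nat_lit 132) (Steps.bwd (nat_lit 8) (Steps.bwd (nat_lit 2) (Steps.fwd (nat_lit 57344) (Steps.fwd (nat_lit 8192) (Steps.fwd (nat_lit 53248) (Steps.fwd (nat_lit 28672) (Steps.fwd (nat_lit 53248) (Steps.fwd (nat_lit 49152) Steps.nil)))))))) (nat_lit 46) (nat_lit 8)]
noncomputable def R_49 : List (Rule) := [Rule.mk (nat_lit 11) (nat_lit 117) (Steps.bwd (nat_lit 14) (Steps.fwd (nat_lit 28672) (Steps.bwd (nat_lit 8) (Steps.bwd (nat_lit 4) (Steps.fwd (nat_lit 49152) (Steps.bwd (nat_lit 3) (Steps.fwd (nat_lit 49152) Steps.nil))))))) (nat_lit 52) (nat_lit 5),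
  Rule.mk (nat_lit 1) (nat_lit 132) (Steps.bwd (nat_lit 14) (Steps.fwd (nat_lit 28672) (Steps.fwd (nat_lit 53248) (Steps.bwd (nat_lit 11) (Steps.bwd (nat_lit 9) (Steps.fwd (nat_lit 28672) (Steps.bwd (nat_lit 2) (Steps.fwd (nat_lit 57344) Steps.nil)))))))) (nat_lit 46) (nat_lit 3),
  Rule.mk (nat_lit 8) (nat_lit 132) (Steps.bwd (nat_lit 2) (Steps.fwd (nat_lit 57344) (Steps.fwd (nat_lit 8192) (Steps.bwd (nat_lit 14) (Steps.bwd (nat_lit 8) (Steps.fwd (nat_lit 53248) (Steps.fwd (nat_lit 49152) (Steps.bwd (nat_lit 9) Steps.nil)))))))) (nat_lit 46) (nat_lit 0),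
  Rule.mk (nat_lit 9) (nat_lit 117) (Steps.bwd (nat_lit 3) (Steps.fwd (nat_lit 57344) (Steps.fwd (nat_lit 32768) (Steps.fwd (nat_lit 57344) (Steps.bwd (nat_lit 12) (Steps.bwd (nat_lit 10) (Steps.fwd (nat_lit 12288) Steps.nil))))))) (nat_lit 50) (nat_lit 2),
  Rule.mk (nat_lit 1) (nat_lit 177) (Steps.bwd (nat_lit 3) (Steps.fwd (nat_lit 4096) (Steps.fwd (nat_lit 12288) (Steps.fwd (nat_lit 8192) (Steps.fwd (nat_lit 16384) (Steps.bwd (nat_lit 2) (Steps.fwd (nat_lit 12288) (Steps.fwd (nat_lit 8192) (Steps.bwd (nat_lit 3) (Steps.fwd (nat_lit 4096) (Steps.fwd (nat_lit 12288) Steps.nil))))))))))) (nat_lit 8) (nat_lit 3),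
  Rule.mk (nat_lit 11) (nat_lit 87) (Steps.fwd (nat_lit 65536) (Steps.bwd (nat_lit 15) (Steps.fwd (nat_lit 28672) (Steps.bwd (nat_lit 12) (Steps.bwd (nat_lit 7) Steps.nil))))) (nat_lit 32) (nat_lit 4),
  Rule.mk (nat_lit 13) (nat_lit 87) (Steps.bwd (nat_lit 16) (Steps.fwd (nat_lit 61440) (Steps.bwd (nat_lit 8) (Steps.bwd (nat_lit 14) (Steps.bwd (nat_lit 7) Steps.nil))))) (nat_lit 34) (nat_lit 4),
  Rule.mk (nat_lit 10) (nat_lit 132) (Steps.fwd (nat_lit 45056) (Steps.bwd (nat_lit 13) (Steps.bwd (nat_lit 7) (Steps.fwd (nat_lit 57344) (Steps.fwd (nat_lit 4096) (Steps.fwd (nat_lit 53248) (Steps.bwd (nat_lit 1) (Steps.bwd (nat_lit 7) Steps.nil)))))))) (nat_lit 47) (nat_lit 2),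
  Rule.mk (nat_lit 3) (nat_lit 177) (Steps.bwd (nat_lit 1) (Steps.fwd (nat_lit 12288) (Steps.bwd (nat_lit 2) (Steps.bwd (nat_lit 3) (Steps.fwd (nat_lit 8192) (Steps.bwd (nat_lit 4) (Steps.bwd (nat_lit 2) (Steps.bwd (nat_lit 3) (Steps.bwd (nat_lit 1) (Steps.fwd (nat_lit 12288) (Steps.bwd (nat_lit 2) Steps.nil))))))))))) (nat_lit 9) (nat_lit 3),
  Rule.mk (nat_lit 14) (nat_lit 117) (Steps.bwd (nat_lit 4) (Steps.fwd (nat_lit 36864) (Steps.bwd (nat_lit 3) (Steps.fwd (nat_lit 40960) (Steps.fwd (nat_lit 49152) (Steps.fwd (nat_lit 53248) (Steps.bwd (nat_lit 8) Steps.nil))))))) (nat_lit 51) (nat_lit 5),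
  Rule.mk (nat_lit 2) (nat_lit 102) (Steps.bwd (nat_lit 11) (Steps.bwd (nat_lit 1) (Steps.fwd (nat_lit 53248) (Steps.bwd (nat_lit 8) (Steps.fwd (nat_lit 49152) (Steps.fwd (nat_lit 49152) Steps.nil)))))) (nat_lit 44) (nat_lit 1),
  Rule.mk (nat_lit 4) (nat_lit 117) (Steps.bwd (nat_lit 11) (Steps.fwd (nat_lit 16384) (Steps.fwd (nat_lit 49152) (Steps.fwd (nat_lit 49152) (Steps.fwd (nat_lit 53248) (Steps.bwd (nat_lit 8) (Steps.fwd (nat_lit 28672) Steps.nil))))))) (nat_lit 52) (nat_lit 1),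
  Rule.mk (nat_lit 2) (nat_lit 177) (Steps.bwd (nat_lit 3) (Steps.bwd (nat_lit 1) (Steps.fwd (nat_lit 12288) (Steps.bwd (nat_lit 2) (Steps.fwd (nat_lit 16384) (Steps.bwd (nat_lit 1) (Steps.fwd (nat_lit 12288) (Steps.fwd (nat_lit 4096) (Steps.bwd (nat_lit 3) (Steps.fwd (nat_lit 8192) (Steps.bwd (nat_lit 4) Steps.nil))))))))))) (nat_lit 9) (nat_lit 2),
  Rule.mk (nat_lit 13) (nat_lit 102) (Steps.bwd (nat_lit 2) (Steps.fwd (nat_lit 45056) (Steps.bwd (nat_lit 1) (Steps.bwd (nat_lit 12) (Steps.fwd (nat_lit 45056) (Steps.bwd (nat_lit 7) Steps.nil)))))) (nat_lit 45) (nat_lit 4),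
  Rule.mk (nat_lit 2) (nat_lit 132) (Steps.bwd (nat_lit 14) (Steps.fwd (nat_lit 8192) (Steps.fwd (nat_lit 32768) (Steps.fwd (nat_lit 36864) (Steps.fwd (nat_lit 45056) (Steps.fwd (nat_lit 57344) (Steps.fwd (nat_lit 32768) (Steps.fwd (nat_lit 57344) Steps.nil)))))))) (nat_lit 47) (nat_lit 7),
  Rule.mk (nat_lit 2) (nat_lit 87) (Steps.fwd (nat_lit 12288) (Steps.fwd (nat_lit 8192) (Steps.fwd (nat_lit 8192) (Steps.bwd (nat_lit 3) (Steps.bwd (nat_lit 2) Steps.nil))))) (nat_lit 6) (nat_lit 2),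
  Rule.mk (nat_lit 14) (nat_lit 132) (Steps.bwd (nat_lit 1) (Steps.bwd (nat_lit 7) (Steps.bwd (nat_lit 10) (Steps.bwd (nat_lit 12) (Steps.bwd (nat_lit 13) (Steps.bwd (nat_lit 7) (Steps.fwd (nat_lit 57344) (Steps.bwd (nat_lit 2) Steps.nil)))))))) (nat_lit 47) (nat_lit 8),
  Rule.mk (nat_lit 11) (nat_lit 72) (Steps.fwd (nat_lit 57344) (Steps.bwd (nat_lit 15) (Steps.bwd (nat_lit 12) (Steps.bwd (nat_lit 14) Steps.nil)))) (nat_lit 40) (nat_lit 3),
  Rule.mk (nat_lit 13) (nat_lit 132) (Steps.bwd (nat_lit 7) (Steps.fwd (nat_lit 57344) (Steps.bwd (nat_lit 2) (Steps.fwd (nat_lit 53248) (Steps.fwd (nat_lit 8192) (Steps.bwd (nat_lit 7) (Steps.fwd (nat_lit 36864) (Steps.fwd (nat_lit 45056) Steps.nil)))))))) (nat_lit 47) (nat_lit 4),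
  Rule.mk (nat_lit 1) (nat_lit 102) (Steps.bwd (nat_lit 14) (Steps.bwd (nat_lit 8) (Steps.bwd (nat_lit 11) (Steps.fwd (nat_lit 49152) (Steps.bwd (nat_lit 2) (Steps.bwd (nat_lit 11) Steps.nil)))))) (nat_lit 44) (nat_lit 3),
  Rule.mk (nat_lit 2) (nat_lit 132) (Steps.bwd (nat_lit 14) (Steps.fwd (nat_lit 8192) (Steps.bwd (nat_lit 7) (Steps.fwd (nat_lit 36864) (Steps.fwd (nat_lit 45056) (Steps.bwd (nat_lit 13) (Steps.fwd (nat_lit 32768) (Steps.fwd (nat_lit 57344) Steps.nil)))))))) (nat_lit 47) (nat_lit 7),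
  Rule.mk (nat_lit 13) (nat_lit 132) (Steps.bwd (nat_lit 1) (Steps.bwd (nat_lit 14) (Steps.fwd (nat_lit 28672) (Steps.fwd (nat_lit 53248) (Steps.fwd (nat_lit 49152) (Steps.bwd (nat_lit 9) (Steps.fwd (nat_lit 28672) (Steps.bwd (nat_lit 2) Steps.nil)))))))) (nat_lit 46) (nat_lit 2),
  Rule.mk (nat_lit 7) (nat_lit 117) (Steps.bwd (nat_lit 13) (Steps.bwd (nat_lit 12) (Steps.bwd (nat_lit 10) (Steps.fwd (nat_lit 12288) (Steps.fwd (nat_lit 40960) (Steps.fwd (nat_lit 16384) (Steps.bwd (nat_lit 13) Steps.nil))))))) (nat_lit 50) (nat_lit 5),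
  Rule.mk (nat_lit 2) (nat_lit 102) (Steps.bwd (nat_lit 11) (Steps.fwd (nat_lit 8192) (Steps.bwd (nat_lit 14) (Steps.fwd (nat_lit 28672) (Steps.fwd (nat_lit 49152) (Steps.fwd (nat_lit 49152) Steps.nil)))))) (nat_lit 44) (nat_lit 1),
  Rule.mk (nat_lit 3) (nat_lit 117) (Steps.fwd (nat_lit 57344) (Steps.fwd (nat_lit 32768) (Steps.fwd (nat_lit 57344) (Steps.bwd (nat_lit 12) (Steps.fwd (nat_lit 36864) (Steps.fwd (nat_lit 12288) (Steps.bwd (nat_lit 9) Steps.nil))))))) (nat_lit 50) (nat_lit 3),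
  Rule.mk (nat_lit 8) (nat_lit 132) (Steps.fwd (nat_lit 4096) (Steps.fwd (nat_lit 57344) (Steps.fwd (nat_lit 8192) (Steps.fwd (nat_lit 53248) (Steps.bwd (nat_lit 8) (Steps.fwd (nat_lit 53248) (Steps.fwd (nat_lit 49152) (Steps.bwd (nat_lit 9) Steps.nil)))))))) (nat_lit 46) (nat_lit 0),
  Rule.mk (nat_lit 13) (nat_lit 117) (Steps.bwd (nat_lit 7) (Steps.bwd (nat_lit 13) (Steps.bwd (nat_lit 12) (Steps.bwd (nat_lit 10) (Steps.fwd (nat_lit 12288) (Steps.fwd (nat_lit 40960) (Steps.fwd (nat_lit 16384) Steps.nil))))))) (nat_lit 50) (nat_lit 4),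
  Rule.mk (nat_lit 7) (nat_lit 102) (Steps.bwd (nat_lit 13) (Steps.fwd (nat_lit 4096) (Steps.bwd (nat_lit 12) (Steps.fwd (nat_lit 8192) (Steps.fwd (nat_lit 45056) (Steps.bwd (nat_lit 12) Steps.nil)))))) (nat_lit 45) (nat_lit 3),
  Rule.mk (nat_lit 1) (nat_lit 132) (Steps.bwd (nat_lit 7) (Steps.bwd (nat_lit 10) (Steps.bwd (nat_lit 12) (Steps.fwd (nat_lit 57344) (Steps.bwd (nat_lit 7) (Steps.bwd (nat_lit 13) (Steps.fwd (nat_lit 4096) (Steps.bwd (nat_lit 14) Steps.nil)))))))) (nat_lit 47) (nat_lit 0),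
  Rule.mk (nat_lit 11) (nat_lit 102) (Steps.bwd (nat_lit 1) (Steps.bwd (nat_lit 14) (Steps.bwd (nat_lit 8) (Steps.bwd (nat_lit 11) (Steps.bwd (nat_lit 11) (Steps.bwd (nat_lit 2) Steps.nil)))))) (nat_lit 44) (nat_lit 2),
  Rule.mk (nat_lit 2) (nat_lit 102) (Steps.bwd (nat_lit 11) (Steps.fwd (nat_lit 8192) (Steps.bwd (nat_lit 14) (Steps.bwd (nat_lit 8) (Steps.fwd (nat_lit 49152) (Steps.fwd (nat_lit 49152) Steps.nil)))))) (nat_lit 44) (nat_lit 1),
  Rule.mk (nat_lit 3) (nat_lit 117) (Steps.bwd (nat_lit 11) (Steps.bwd (nat_lit 11) (Steps.bwd (nat_lit 14) (Steps.fwd (nat_lit 28672) (Steps.bwd (nat_lit 8) (Steps.bwd (nat_lit 4) (Steps.fwd (nat_lit 49152) Steps.nil))))))) (nat_lit 52) (nat_lit 3),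
  Rule.mk (nat_lit 4) (nat_lit 117) (Steps.bwd (nat_lit 11) (Steps.fwd (nat_lit 16384) (Steps.bwd (nat_lit 11) (Steps.bwd (nat_lit 11) (Steps.bwd (nat_lit 14) (Steps.bwd (nat_lit 8) (Steps.bwd (nat_lit 8) Steps.nil))))))) (nat_lit 52) (nat_lit 1),
  Rule.mk (nat_lit 2) (nat_lit 117) (Steps.bwd (nat_lit 2) (Steps.bwd (nat_lit 2) (Steps.fwd (nat_lit 4096) (Steps.bwd (nat_lit 2) (Steps.bwd (nat_lit 2) (Steps.bwd (nat_lit 2) (Steps.fwd (nat_lit 4096) Steps.nil))))))) (nat_lit 1) (nat_lit 0),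
  Rule.mk (nat_lit 3) (nat_lit 117) (Steps.bwd (nat_lit 9) (Steps.bwd (nat_lit 11) (Steps.fwd (nat_lit 53248) (Steps.fwd (nat_lit 28672) (Steps.fwd (nat_lit 53248) (Steps.fwd (nat_lit 12288) (Steps.fwd (nat_lit 36864) Steps.nil))))))) (nat_lit 51) (nat_lit 0),
  Rule.mk (nat_lit 13) (nat_lit 102) (Steps.bwd (nat_lit 2) (Steps.bwd (nat_lit 12) (Steps.fwd (nat_lit 8192) (Steps.bwd (nat_lit 12) (Steps.bwd (nat_lit 12) (Steps.fwd (nat_lit 32768) Steps.nil)))))) (nat_lit 45) (nat_lit 4),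
  Rule.mk (nat_lit 12) (nat_lit 117) (Steps.bwd (nat_lit 3) (Steps.fwd (nat_lit 32768) (Steps.fwd (nat_lit 32768) (Steps.bwd (nat_lit 13) (Steps.bwd (nat_lit 12) (Steps.fwd (nat_lit 45056) (Steps.bwd (nat_lit 4) Steps.nil))))))) (nat_lit 53) (nat_lit 7),
  Rule.mk (nat_lit 16) (nat_lit 72) (Steps.bwd (nat_lit 16) (Steps.bwd (nat_lit 2) (Steps.bwd (nat_lit 15) (Steps.fwd (nat_lit 8192) Steps.nil)))) (nat_lit 48) (nat_lit 4),
  Rule.mk (nat_lit 2) (nat_lit 117) (Steps.fwd (nat_lit 4096) (Steps.fwd (nat_lit 4096) (Steps.fwd (nat_lit 4096) (Steps.fwd (nat_lit 4096) (Steps.bwd (nat_lit 2) (Steps.bwd (nat_lit 2) (Steps.bwd (nat_lit 2) Steps.nil))))))) (nat_lit 1) (nat_lit 0),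
  Rule.mk (nat_lit 1) (nat_lit 102) (Steps.bwd (nat_lit 14) (Steps.fwd (nat_lit 28672) (Steps.bwd (nat_lit 11) (Steps.bwd (nat_lit 11) (Steps.bwd (nat_lit 2) (Steps.bwd (nat_lit 11) Steps.nil)))))) (nat_lit 44) (nat_lit 3),
  Rule.mk (nat_lit 11) (nat_lit 117) (Steps.bwd (nat_lit 14) (Steps.fwd (nat_lit 28672) (Steps.fwd (nat_lit 28672) (Steps.fwd (nat_lit 12288) (Steps.bwd (nat_lit 11) (Steps.bwd (nat_lit 3) (Steps.fwd (nat_lit 49152) Steps.nil))))))) (nat_lit 52) (nat_lit 5),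
  Rule.mk (nat_lit 8) (nat_lit 117) (Steps.fwd (nat_lit 28672) (Steps.fwd (nat_lit 12288) (Steps.fwd (nat_lit 49152) (Steps.fwd (nat_lit 16384) (Steps.fwd (nat_lit 49152) (Steps.fwd (nat_lit 49152) (Steps.bwd (nat_lit 14) Steps.nil))))))) (nat_lit 52) (nat_lit 7),
  Rule.mk (nat_lit 4) (nat_lit 117) (Steps.bwd (nat_lit 9) (Steps.fwd (nat_lit 16384) (Steps.fwd (nat_lit 57344) (Steps.fwd (nat_lit 32768) (Steps.fwd (nat_lit 57344) (Steps.fwd (nat_lit 45056) (Steps.bwd (nat_lit 10) Steps.nil))))))) (nat_lit 50) (nat_lit 1),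
  Rule.mk (nat_lit 3) (nat_lit 117) (Steps.bwd (nat_lit 9) (Steps.fwd (nat_lit 49152) (Steps.bwd (nat_lit 14) (Steps.bwd (nat_lit 8) (Steps.fwd (nat_lit 53248) (Steps.bwd (nat_lit 4) (Steps.bwd (nat_lit 10) Steps.nil))))))) (nat_lit 51) (nat_lit 0),
  Rule.mk (nat_lit 11) (nat_lit 132) (Steps.bwd (nat_lit 9) (Steps.fwd (nat_lit 28672) (Steps.fwd (nat_lit 4096) (Steps.bwd (nat_lit 13) (Steps.fwd (nat_lit 8192) (Steps.fwd (nat_lit 53248) (Steps.fwd (nat_lit 28672) (Steps.fwd (nat_lit 53248) Steps.nil)))))))) (nat_lit 46) (nat_lit 7),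
  Rule.mk (nat_lit 7) (nat_lit 117) (Steps.fwd (nat_lit 32768) (Steps.fwd (nat_lit 57344) (Steps.bwd (nat_lit 12) (Steps.fwd (nat_lit 45056) (Steps.bwd (nat_lit 4) (Steps.bwd (nat_lit 12) (Steps.bwd (nat_lit 3) Steps.nil))))))) (nat_lit 53) (nat_lit 1),
  Rule.mk (nat_lit 10) (nat_lit 117) (Steps.bwd (nat_lit 3) (Steps.fwd (nat_lit 40960) (Steps.fwd (nat_lit 49152) (Steps.fwd (nat_lit 53248) (Steps.bwd (nat_lit 8) (Steps.fwd (nat_lit 53248) (Steps.bwd (nat_lit 4) Steps.nil))))))) (nat_lit 51) (nat_lit 7),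
  Rule.mk (nat_lit 9) (nat_lit 117) (Steps.bwd (nat_lit 3) (Steps.fwd (nat_lit 57344) (Steps.fwd (nat_lit 32768) (Steps.bwd (nat_lit 13) (Steps.fwd (nat_lit 45056) (Steps.bwd (nat_lit 10) (Steps.fwd (nat_lit 12288) Steps.nil))))))) (nat_lit 50) (nat_lit 2),
  Rule.mk (nat_lit 7) (nat_lit 87) (Steps.fwd (nat_lit 61440) (Steps.fwd (nat_lit 61440) (Steps.bwd (nat_lit 12) (Steps.bwd (nat_lit 8) (Steps.bwd (nat_lit 11) Steps.nil))))) (nat_lit 33) (nat_lit 0),
  Rule.mk (nat_lit 7) (nat_lit 72) (Steps.bwd (nat_lit 7) (Steps.bwd (nat_lit 2) (Steps.fwd (nat_lit 40960) (Steps.fwd (nat_lit 8192) Steps.nil)))) (nat_lit 42) (nat_lit 4),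
  Rule.mk (nat_lit 2) (nat_lit 87) (Steps.fwd (nat_lit 12288) (Steps.bwd (nat_lit 1) (Steps.bwd (nat_lit 1) (Steps.bwd (nat_lit 3) (Steps.bwd (nat_lit 2) Steps.nil))))) (nat_lit 6) (nat_lit 2),
  Rule.mk (nat_lit 1) (nat_lit 102) (Steps.bwd (nat_lit 12) (Steps.fwd (nat_lit 45056) (Steps.fwd (nat_lit 32768) (Steps.bwd (nat_lit 13) (Steps.bwd (nat_lit 2) (Steps.fwd (nat_lit 45056) Steps.nil)))))) (nat_lit 45) (nat_lit 0),
  Rule.mk (nat_lit 11) (nat_lit 102) (Steps.bwd (nat_lit 1) (Steps.fwd (nat_lit 53248) (Steps.fwd (nat_lit 28672) (Steps.bwd (nat_lit 11) (Steps.fwd (nat_lit 49152) (Steps.fwd (nat_lit 4096) Steps.nil)))))) (nat_lit 44) (nat_lit 2),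
  Rule.mk (nat_lit 13) (nat_lit 132) (Steps.bwd (nat_lit 1) (Steps.fwd (nat_lit 53248) (Steps.fwd (nat_lit 28672) (Steps.fwd (nat_lit 53248) (Steps.bwd (nat_lit 11) (Steps.fwd (nat_lit 40960) (Steps.fwd (nat_lit 28672) (Steps.bwd (nat_lit 2) Steps.nil)))))))) (nat_lit 46) (nat_lit 2),
  Rule.mk (nat_lit 14) (nat_lit 132) (Steps.bwd (nat_lit 1) (Steps.bwd (nat_lit 7) (Steps.fwd (nat_lit 36864) (Steps.bwd (nat_lit 12) (Steps.bwd (nat_lit 13) (Steps.bwd (nat_lit 7) (Steps.bwd (nat_lit 13) (Steps.fwd (nat_lit 4096) Steps.nil)))))))) (nat_lit 47) (nat_lit 8),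
  Rule.mk (nat_lit 8) (nat_lit 117) (Steps.bwd (nat_lit 14) (Steps.bwd (nat_lit 4) (Steps.bwd (nat_lit 10) (Steps.fwd (nat_lit 16384) (Steps.fwd (nat_lit 40960) (Steps.fwd (nat_lit 49152) (Steps.bwd (nat_lit 14) Steps.nil))))))) (nat_lit 51) (nat_lit 4),
  Rule.mk (nat_lit 9) (nat_lit 117) (Steps.bwd (nat_lit 3) (Steps.fwd (nat_lit 57344) (Steps.fwd (nat_lit 32768) (Steps.bwd (nat_lit 13) (Steps.bwd (nat_lit 12) (Steps.fwd (nat_lit 36864) (Steps.fwd (nat_lit 12288) Steps.nil))))))) (nat_lit 50) (nat_lit 2),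
  Rule.mk (nat_lit 12) (nat_lit 117) (Steps.bwd (nat_lit 3) (Steps.fwd (nat_lit 32768) (Steps.bwd (nat_lit 7) (Steps.bwd (nat_lit 13) (Steps.fwd (nat_lit 45056) (Steps.fwd (nat_lit 45056) (Steps.fwd (nat_lit 12288) Steps.nil))))))) (nat_lit 53) (nat_lit 7),
  Rule.mk (nat_lit 11) (nat_lit 117) (Steps.bwd (nat_lit 3) (Steps.bwd (nat_lit 11) (Steps.fwd (nat_lit 49152) (Steps.fwd (nat_lit 53248) (Steps.bwd (nat_lit 8) (Steps.bwd (nat_lit 8) (Steps.fwd (nat_lit 12288) Steps.nil))))))) (nat_lit 52) (nat_lit 2),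
  Rule.mk (nat_lit 7) (nat_lit 87) (Steps.bwd (nat_lit 16) (Steps.fwd (nat_lit 61440) (Steps.bwd (nat_lit 12) (Steps.fwd (nat_lit 28672) (Steps.bwd (nat_lit 11) Steps.nil))))) (nat_lit 33) (nat_lit 0),
  Rule.mk (nat_lit 13) (nat_lit 87) (Steps.bwd (nat_lit 7) (Steps.fwd (nat_lit 65536) (Steps.fwd (nat_lit 65536) (Steps.bwd (nat_lit 14) (Steps.fwd (nat_lit 28672) Steps.nil))))) (nat_lit 35) (nat_lit 5),
  Rule.mk (nat_lit 3) (nat_lit 117) (Steps.bwd (nat_lit 7) (Steps.fwd (nat_lit 32768) (Steps.fwd (nat_lit 57344) (Steps.bwd (nat_lit 12) (Steps.bwd (nat_lit 12) (Steps.fwd (nat_lit 12288) (Steps.bwd (nat_lit 12) Steps.nil))))))) (nat_lit 53) (nat_lit 0),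
  Rule.mk (nat_lit 8) (nat_lit 117) (Steps.bwd (nat_lit 8) (Steps.fwd (nat_lit 12288) (Steps.fwd (nat_lit 49152) (Steps.bwd (nat_lit 3) (Steps.fwd (nat_lit 49152) (Steps.bwd (nat_lit 11) (Steps.bwd (nat_lit 14) Steps.nil))))))) (nat_lit 52) (nat_lit 7),
  Rule.mk (nat_lit 3) (nat_lit 117) (Steps.bwd (nat_lit 13) (Steps.bwd (nat_lit 7) (Steps.fwd (nat_lit 57344) (Steps.bwd (nat_lit 12) (Steps.bwd (nat_lit 10) (Steps.fwd (nat_lit 12288) (Steps.bwd (nat_lit 9) Steps.nil))))))) (nat_lit 50) (nat_lit 3)]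
noncomputable def R_50 : List (Rule) := [Rule.mk (nat_lit 4) (nat_lit 117) (Steps.bwd (nat_lit 12) (Steps.bwd (nat_lit 3) (Steps.bwd (nat_lit 7) (Steps.fwd (nat_lit 32768) (Steps.bwd (nat_lit 13) (Steps.fwd (nat_lit 45056) (Steps.bwd (nat_lit 12) Steps.nil))))))) (nat_lit 53) (nat_lit 6),
  Rule.mk (nat_lit 2) (nat_lit 117) (Steps.bwd (nat_lit 4) (Steps.bwd (nat_lit 2) (Steps.fwd (nat_lit 12288) (Steps.bwd (nat_lit 2) (Steps.fwd (nat_lit 12288) (Steps.bwd (nat_lit 2) (Steps.bwd (nat_lit 4) Steps.nil))))))) (nat_lit 5) (nat_lit 0),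
  Rule.mk (nat_lit 12) (nat_lit 87) (Steps.bwd (nat_lit 8) (Steps.fwd (nat_lit 49152) (Steps.bwd (nat_lit 7) (Steps.fwd (nat_lit 61440) (Steps.fwd (nat_lit 61440) Steps.nil))))) (nat_lit 33) (nat_lit 3),
  Rule.mk (nat_lit 14) (nat_lit 102) (Steps.bwd (nat_lit 8) (Steps.fwd (nat_lit 49152) (Steps.fwd (nat_lit 49152) (Steps.bwd (nat_lit 2) (Steps.bwd (nat_lit 11) (Steps.bwd (nat_lit 1) Steps.nil)))))) (nat_lit 44) (nat_lit 4),
  Rule.mk (nat_lit 13) (nat_lit 117) (Steps.bwd (nat_lit 12) (Steps.bwd (nat_lit 12) (Steps.bwd (nat_lit 4) (Steps.fwd (nat_lit 45056) (Steps.bwd (nat_lit 3) (Steps.fwd (nat_lit 32768) (Steps.fwd (nat_lit 32768) Steps.nil))))))) (nat_lit 53) (nat_lit 3),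
  Rule.mk (nat_lit 11) (nat_lit 117) (Steps.bwd (nat_lit 14) (Steps.bwd (nat_lit 8) (Steps.fwd (nat_lit 53248) (Steps.fwd (nat_lit 12288) (Steps.fwd (nat_lit 36864) (Steps.bwd (nat_lit 3) (Steps.fwd (nat_lit 40960) Steps.nil))))))) (nat_lit 51) (nat_lit 2),
  Rule.mk (nat_lit 2) (nat_lit 132) (Steps.bwd (nat_lit 14) (Steps.fwd (nat_lit 8192) (Steps.bwd (nat_lit 7) (Steps.bwd (nat_lit 10) (Steps.fwd (nat_lit 45056) (Steps.bwd (nat_lit 13) (Steps.fwd (nat_lit 32768) (Steps.fwd (nat_lit 57344) Steps.nil)))))))) (nat_lit 47) (nat_lit 7),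
  Rule.mk (nat_lit 13) (nat_lit 132) (Steps.bwd (nat_lit 1) (Steps.fwd (nat_lit 53248) (Steps.fwd (nat_lit 28672) (Steps.fwd (nat_lit 53248) (Steps.bwd (nat_lit 11) (Steps.fwd (nat_lit 40960) (Steps.bwd (nat_lit 8) (Steps.bwd (nat_lit 2) Steps.nil)))))))) (nat_lit 46) (nat_lit 2),
  Rule.mk (nat_lit 8) (nat_lit 102) (Steps.bwd (nat_lit 11) (Steps.bwd (nat_lit 11) (Steps.bwd (nat_lit 2) (Steps.fwd (nat_lit 49152) (Steps.bwd (nat_lit 1) (Steps.fwd (nat_lit 53248) Steps.nil)))))) (nat_lit 44) (nat_lit 5),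
  Rule.mk (nat_lit 4) (nat_lit 117) (Steps.bwd (nat_lit 11) (Steps.fwd (nat_lit 16384) (Steps.fwd (nat_lit 49152) (Steps.bwd (nat_lit 11) (Steps.bwd (nat_lit 14) (Steps.bwd (nat_lit 8) (Steps.fwd (nat_lit 28672) Steps.nil))))))) (nat_lit 52) (nat_lit 1),
  Rule.mk (nat_lit 9) (nat_lit 117) (Steps.fwd (nat_lit 16384) (Steps.fwd (nat_lit 57344) (Steps.bwd (nat_lit 7) (Steps.bwd (nat_lit 13) (Steps.bwd (nat_lit 12) (Steps.bwd (nat_lit 10) (Steps.bwd (nat_lit 4) Steps.nil))))))) (nat_lit 50) (nat_lit 2),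
  Rule.mk (nat_lit 1) (nat_lit 132) (Steps.bwd (nat_lit 7) (Steps.bwd (nat_lit 10) (Steps.fwd (nat_lit 45056) (Steps.bwd (nat_lit 13) (Steps.bwd (nat_lit 7) (Steps.fwd (nat_lit 57344) (Steps.bwd (nat_lit 2) (Steps.fwd (nat_lit 53248) Steps.nil)))))))) (nat_lit 47) (nat_lit 0),
  Rule.mk (nat_lit 3) (nat_lit 177) (Steps.bwd (nat_lit 2) (Steps.bwd (nat_lit 4) (Steps.fwd (nat_lit 8192) (Steps.bwd (nat_lit 3) (Steps.bwd (nat_lit 2) (Steps.fwd (nat_lit 12288) (Steps.fwd (nat_lit 8192) (Steps.bwd (nat_lit 3) (Steps.fwd (nat_lit 4096) (Steps.bwd (nat_lit 4) (Steps.bwd (nat_lit 1) Steps.nil))))))))))) (nat_lit 8) (nat_lit 0),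
  Rule.mk (nat_lit 7) (nat_lit 117) (Steps.bwd (nat_lit 13) (Steps.bwd (nat_lit 12) (Steps.fwd (nat_lit 36864) (Steps.bwd (nat_lit 4) (Steps.fwd (nat_lit 40960) (Steps.bwd (nat_lit 3) (Steps.bwd (nat_lit 13) Steps.nil))))))) (nat_lit 50) (nat_lit 5),
  Rule.mk (nat_lit 1) (nat_lit 117) (Steps.bwd (nat_lit 3) (Steps.fwd (nat_lit 8192) (Steps.bwd (nat_lit 3) (Steps.bwd (nat_lit 1) (Steps.bwd (nat_lit 3) (Steps.fwd (nat_lit 8192) (Steps.bwd (nat_lit 3) Steps.nil))))))) (nat_lit 4) (nat_lit 1),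
  Rule.mk (nat_lit 2) (nat_lit 177) (Steps.bwd (nat_lit 3) (Steps.fwd (nat_lit 8192) (Steps.bwd (nat_lit 4) (Steps.fwd (nat_lit 4096) (Steps.bwd (nat_lit 3) (Steps.bwd (nat_lit 1) (Steps.bwd (nat_lit 4) (Steps.fwd (nat_lit 4096) (Steps.bwd (nat_lit 3) (Steps.fwd (nat_lit 8192) (Steps.bwd (nat_lit 4) Steps.nil))))))))))) (nat_lit 9) (nat_lit 2),
  Rule.mk (nat_lit 3) (nat_lit 117) (Steps.bwd (nat_lit 11) (Steps.fwd (nat_lit 49152) (Steps.fwd (nat_lit 53248) (Steps.bwd (nat_lit 8) (Steps.bwd (nat_lit 8) (Steps.fwd (nat_lit 12288) (Steps.fwd (nat_lit 49152) Steps.nil))))))) (nat_lit 52) (nat_lit 3),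
  Rule.mk (nat_lit 12) (nat_lit 117) (Steps.bwd (nat_lit 3) (Steps.bwd (nat_lit 7) (Steps.fwd (nat_lit 32768) (Steps.bwd (nat_lit 13) (Steps.fwd (nat_lit 45056) (Steps.bwd (nat_lit 12) (Steps.bwd (nat_lit 4) Steps.nil))))))) (nat_lit 53) (nat_lit 7),
  Rule.mk (nat_lit 2) (nat_lit 102) (Steps.bwd (nat_lit 11) (Steps.fwd (nat_lit 8192) (Steps.fwd (nat_lit 53248) (Steps.bwd (nat_lit 8) (Steps.fwd (nat_lit 49152) (Steps.fwd (nat_lit 49152) Steps.nil)))))) (nat_lit 44) (nat_lit 1),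
  Rule.mk (nat_lit 1) (nat_lit 87) (Steps.fwd (nat_lit 16384) (Steps.bwd (nat_lit 2) (Steps.bwd (nat_lit 2) (Steps.bwd (nat_lit 4) (Steps.bwd (nat_lit 1) Steps.nil))))) (nat_lit 6) (nat_lit 5),
  Rule.mk (nat_lit 12) (nat_lit 117) (Steps.bwd (nat_lit 3) (Steps.bwd (nat_lit 7) (Steps.fwd (nat_lit 32768) (Steps.bwd (nat_lit 13) (Steps.bwd (nat_lit 12) (Steps.fwd (nat_lit 45056) (Steps.bwd (nat_lit 4) Steps.nil))))))) (nat_lit 53) (nat_lit 7),
  Rule.mk (nat_lit 4) (nat_lit 117) (Steps.bwd (nat_lit 12) (Steps.fwd (nat_lit 16384) (Steps.fwd (nat_lit 32768) (Steps.fwd (nat_lit 32768) (Steps.fwd (nat_lit 57344) (Steps.bwd (nat_lit 12) (Steps.fwd (nat_lit 45056) Steps.nil))))))) (nat_lit 53) (nat_lit 6),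
  Rule.mk (nat_lit 3) (nat_lit 177) (Steps.bwd (nat_lit 2) (Steps.fwd (nat_lit 12288) (Steps.bwd (nat_lit 1) (Steps.fwd (nat_lit 16384) (Steps.fwd (nat_lit 4096) (Steps.fwd (nat_lit 12288) (Steps.fwd (nat_lit 8192) (Steps.bwd (nat_lit 3) (Steps.bwd (nat_lit 2) (Steps.bwd (nat_lit 4) (Steps.bwd (nat_lit 1) Steps.nil))))))))))) (nat_lit 8) (nat_lit 0),
  Rule.mk (nat_lit 13) (nat_lit 117) (Steps.bwd (nat_lit 7) (Steps.fwd (nat_lit 57344) (Steps.bwd (nat_lit 12) (Steps.bwd (nat_lit 10) (Steps.bwd (nat_lit 4) (Steps.fwd (nat_lit 40960) (Steps.bwd (nat_lit 3) Steps.nil))))))) (nat_lit 50) (nat_lit 4),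
  Rule.mk (nat_lit 1) (nat_lit 117) (Steps.fwd (nat_lit 16384) (Steps.fwd (nat_lit 8192) (Steps.fwd (nat_lit 16384) (Steps.bwd (nat_lit 1) (Steps.fwd (nat_lit 16384) (Steps.bwd (nat_lit 1) (Steps.bwd (nat_lit 3) Steps.nil))))))) (nat_lit 4) (nat_lit 1),
  Rule.mk (nat_lit 13) (nat_lit 102) (Steps.bwd (nat_lit 2) (Steps.bwd (nat_lit 12) (Steps.bwd (nat_lit 1) (Steps.bwd (nat_lit 12) (Steps.bwd (nat_lit 12) (Steps.bwd (nat_lit 7) Steps.nil)))))) (nat_lit 45) (nat_lit 4),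
  Rule.mk (nat_lit 8) (nat_lit 132) (Steps.bwd (nat_lit 2) (Steps.bwd (nat_lit 13) (Steps.fwd (nat_lit 8192) (Steps.fwd (nat_lit 53248) (Steps.fwd (nat_lit 28672) (Steps.bwd (nat_lit 14) (Steps.fwd (nat_lit 49152) (Steps.fwd (nat_lit 40960) Steps.nil)))))))) (nat_lit 46) (nat_lit 0),
  Rule.mk (nat_lit 11) (nat_lit 117) (Steps.bwd (nat_lit 14) (Steps.fwd (nat_lit 28672) (Steps.bwd (nat_lit 14) (Steps.bwd (nat_lit 4) (Steps.bwd (nat_lit 10) (Steps.fwd (nat_lit 16384) (Steps.bwd (nat_lit 9) Steps.nil))))))) (nat_lit 51) (nat_lit 2),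
  Rule.mk (nat_lit 2) (nat_lit 132) (Steps.bwd (nat_lit 14) (Steps.fwd (nat_lit 8192) (Steps.fwd (nat_lit 32768) (Steps.bwd (nat_lit 10) (Steps.bwd (nat_lit 12) (Steps.fwd (nat_lit 57344) (Steps.fwd (nat_lit 32768) (Steps.fwd (nat_lit 57344) Steps.nil)))))))) (nat_lit 47) (nat_lit 7),
  Rule.mk (nat_lit 12) (nat_lit 117) (Steps.bwd (nat_lit 3) (Steps.fwd (nat_lit 32768) (Steps.fwd (nat_lit 32768) (Steps.fwd (nat_lit 57344) (Steps.bwd (nat_lit 12) (Steps.fwd (nat_lit 45056) (Steps.bwd (nat_lit 4) Steps.nil))))))) (nat_lit 53) (nat_lit 7),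
  Rule.mk (nat_lit 12) (nat_lit 102) (Steps.bwd (nat_lit 12) (Steps.bwd (nat_lit 7) (Steps.fwd (nat_lit 57344) (Steps.bwd (nat_lit 2) (Steps.fwd (nat_lit 45056) (Steps.fwd (nat_lit 8192) Steps.nil)))))) (nat_lit 45) (nat_lit 1),
  Rule.mk (nat_lit 4) (nat_lit 117) (Steps.bwd (nat_lit 12) (Steps.bwd (nat_lit 3) (Steps.fwd (nat_lit 32768) (Steps.bwd (nat_lit 7) (Steps.fwd (nat_lit 57344) (Steps.bwd (nat_lit 12) (Steps.bwd (nat_lit 12) Steps.nil))))))) (nat_lit 53) (nat_lit 6),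
  Rule.mk (nat_lit 7) (nat_lit 132) (Steps.bwd (nat_lit 10) (Steps.fwd (nat_lit 45056) (Steps.fwd (nat_lit 57344) (Steps.fwd (nat_lit 32768) (Steps.fwd (nat_lit 57344) (Steps.bwd (nat_lit 2) (Steps.bwd (nat_lit 14) (Steps.bwd (nat_lit 1) Steps.nil)))))))) (nat_lit 47) (nat_lit 1),
  Rule.mk (nat_lit 12) (nat_lit 117) (Steps.fwd (nat_lit 45056) (Steps.bwd (nat_lit 4) (Steps.bwd (nat_lit 12) (Steps.bwd (nat_lit 3) (Steps.bwd (nat_lit 7) (Steps.fwd (nat_lit 32768) (Steps.bwd (nat_lit 13) Steps.nil))))))) (nat_lit 53) (nat_lit 4),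
  Rule.mk (nat_lit 11) (nat_lit 102) (Steps.bwd (nat_lit 2) (Steps.fwd (nat_lit 49152) (Steps.bwd (nat_lit 1) (Steps.bwd (nat_lit 14) (Steps.bwd (nat_lit 8) (Steps.fwd (nat_lit 49152) Steps.nil)))))) (nat_lit 44) (nat_lit 0),
  Rule.mk (nat_lit 3) (nat_lit 117) (Steps.bwd (nat_lit 11) (Steps.bwd (nat_lit 11) (Steps.bwd (nat_lit 14) (Steps.bwd (nat_lit 8) (Steps.bwd (nat_lit 8) (Steps.fwd (nat_lit 12288) (Steps.bwd (nat_lit 11) Steps.nil))))))) (nat_lit 52) (nat_lit 3),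
  Rule.mk (nat_lit 7) (nat_lit 132) (Steps.bwd (nat_lit 10) (Steps.bwd (nat_lit 12) (Steps.fwd (nat_lit 57344) (Steps.bwd (nat_lit 7) (Steps.fwd (nat_lit 57344) (Steps.bwd (nat_lit 2) (Steps.fwd (nat_lit 53248) (Steps.fwd (nat_lit 8192) Steps.nil)))))))) (nat_lit 47) (nat_lit 1),
  Rule.mk (nat_lit 3) (nat_lit 117) (Steps.bwd (nat_lit 9) (Steps.fwd (nat_lit 49152) (Steps.bwd (nat_lit 14) (Steps.fwd (nat_lit 28672) (Steps.bwd (nat_lit 14) (Steps.fwd (nat_lit 12288) (Steps.fwd (nat_lit 36864) Steps.nil))))))) (nat_lit 51) (nat_lit 0),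
  Rule.mk (nat_lit 12) (nat_lit 117) (Steps.bwd (nat_lit 3) (Steps.bwd (nat_lit 7) (Steps.bwd (nat_lit 7) (Steps.bwd (nat_lit 13) (Steps.fwd (nat_lit 45056) (Steps.fwd (nat_lit 45056) (Steps.bwd (nat_lit 4) Steps.nil))))))) (nat_lit 53) (nat_lit 7),
  Rule.mk (nat_lit 7) (nat_lit 87) (Steps.fwd (nat_lit 49152) (Steps.bwd (nat_lit 15) (Steps.fwd (nat_lit 65536) (Steps.bwd (nat_lit 8) (Steps.bwd (nat_lit 12) Steps.nil))))) (nat_lit 32) (nat_lit 3),
  Rule.mk (nat_lit 11) (nat_lit 117) (Steps.bwd (nat_lit 3) (Steps.fwd (nat_lit 49152) (Steps.bwd (nat_lit 11) (Steps.fwd (nat_lit 53248) (Steps.bwd (nat_lit 8) (Steps.bwd (nat_lit 8) (Steps.fwd (nat_lit 12288) Steps.nil))))))) (nat_lit 52) (nat_lit 2),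
  Rule.mk (nat_lit 3) (nat_lit 117) (Steps.bwd (nat_lit 13) (Steps.fwd (nat_lit 32768) (Steps.fwd (nat_lit 57344) (Steps.fwd (nat_lit 45056) (Steps.bwd (nat_lit 10) (Steps.fwd (nat_lit 12288) (Steps.fwd (nat_lit 40960) Steps.nil))))))) (nat_lit 50) (nat_lit 3),
  Rule.mk (nat_lit 2) (nat_lit 132) (Steps.bwd (nat_lit 13) (Steps.fwd (nat_lit 8192) (Steps.fwd (nat_lit 53248) (Steps.bwd (nat_lit 8) (Steps.bwd (nat_lit 14) (Steps.fwd (nat_lit 49152) (Steps.fwd (nat_lit 40960) (Steps.fwd (nat_lit 28672) Steps.nil)))))))) (nat_lit 46) (nat_lit 1),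
  Rule.mk (nat_lit 4) (nat_lit 117) (Steps.bwd (nat_lit 11) (Steps.fwd (nat_lit 16384) (Steps.fwd (nat_lit 49152) (Steps.bwd (nat_lit 11) (Steps.fwd (nat_lit 53248) (Steps.fwd (nat_lit 28672) (Steps.fwd (nat_lit 28672) Steps.nil))))))) (nat_lit 52) (nat_lit 1),
  Rule.mk (nat_lit 1) (nat_lit 102) (Steps.bwd (nat_lit 12) (Steps.bwd (nat_lit 12) (Steps.bwd (nat_lit 7) (Steps.bwd (nat_lit 13) (Steps.bwd (nat_lit 2) (Steps.fwd (nat_lit 45056) Steps.nil)))))) (nat_lit 45) (nat_lit 0),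
  Rule.mk (nat_lit 7) (nat_lit 132) (Steps.bwd (nat_lit 10) (Steps.fwd (nat_lit 45056) (Steps.bwd (nat_lit 13) (Steps.fwd (nat_lit 32768) (Steps.bwd (nat_lit 13) (Steps.fwd (nat_lit 4096) (Steps.fwd (nat_lit 53248) (Steps.bwd (nat_lit 1) Steps.nil)))))))) (nat_lit 47) (nat_lit 1),
  Rule.mk (nat_lit 3) (nat_lit 117) (Steps.bwd (nat_lit 7) (Steps.bwd (nat_lit 7) (Steps.bwd (nat_lit 13) (Steps.fwd (nat_lit 45056) (Steps.fwd (nat_lit 45056) (Steps.bwd (nat_lit 4) (Steps.fwd (nat_lit 45056) Steps.nil))))))) (nat_lit 53) (nat_lit 0),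
  Rule.mk (nat_lit 13) (nat_lit 132) (Steps.bwd (nat_lit 7) (Steps.bwd (nat_lit 13) (Steps.fwd (nat_lit 4096) (Steps.bwd (nat_lit 14) (Steps.bwd (nat_lit 1) (Steps.bwd (nat_lit 7) (Steps.fwd (nat_lit 36864) (Steps.fwd (nat_lit 45056) Steps.nil)))))))) (nat_lit 47) (nat_lit 4),
  Rule.mk (nat_lit 1) (nat_lit 132) (Steps.fwd (nat_lit 53248) (Steps.bwd (nat_lit 8) (Steps.bwd (nat_lit 14) (Steps.bwd (nat_lit 11) (Steps.fwd (nat_lit 40960) (Steps.fwd (nat_lit 28672) (Steps.bwd (nat_lit 2) (Steps.bwd (nat_lit 13) Steps.nil)))))))) (nat_lit 46) (nat_lit 3),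
  Rule.mk (nat_lit 4) (nat_lit 117) (Steps.bwd (nat_lit 10) (Steps.bwd (nat_lit 3) (Steps.fwd (nat_lit 40960) (Steps.bwd (nat_lit 11) (Steps.fwd (nat_lit 53248) (Steps.fwd (nat_lit 28672) (Steps.bwd (nat_lit 14) Steps.nil))))))) (nat_lit 51) (nat_lit 6),
  Rule.mk (nat_lit 3) (nat_lit 117) (Steps.bwd (nat_lit 7) (Steps.bwd (nat_lit 7) (Steps.fwd (nat_lit 57344) (Steps.fwd (nat_lit 45056) (Steps.bwd (nat_lit 12) (Steps.bwd (nat_lit 4) (Steps.bwd (nat_lit 12) Steps.nil))))))) (nat_lit 53) (nat_lit 0),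
  Rule.mk (nat_lit 1) (nat_lit 117) (Steps.fwd (nat_lit 16384) (Steps.bwd (nat_lit 1) (Steps.fwd (nat_lit 16384) (Steps.fwd (nat_lit 8192) (Steps.fwd (nat_lit 16384) (Steps.bwd (nat_lit 1) (Steps.bwd (nat_lit 3) Steps.nil))))))) (nat_lit 4) (nat_lit 1),
  Rule.mk (nat_lit 13) (nat_lit 117) (Steps.bwd (nat_lit 12) (Steps.fwd (nat_lit 36864) (Steps.fwd (nat_lit 12288) (Steps.fwd (nat_lit 40960) (Steps.bwd (nat_lit 3) (Steps.fwd (nat_lit 57344) (Steps.fwd (nat_lit 32768) Steps.nil))))))) (nat_lit 50) (nat_lit 6),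
  Rule.mk (nat_lit 12) (nat_lit 117) (Steps.bwd (nat_lit 12) (Steps.bwd (nat_lit 4) (Steps.fwd (nat_lit 45056) (Steps.fwd (nat_lit 16384) (Steps.bwd (nat_lit 7) (Steps.bwd (nat_lit 7) (Steps.fwd (nat_lit 57344) Steps.nil))))))) (nat_lit 53) (nat_lit 4),
  Rule.mk (nat_lit 10) (nat_lit 132) (Steps.bwd (nat_lit 12) (Steps.fwd (nat_lit 57344) (Steps.bwd (nat_lit 7) (Steps.fwd (nat_lit 57344) (Steps.bwd (nat_lit 2) (Steps.fwd (nat_lit 53248) (Steps.bwd (nat_lit 1) (Steps.bwd (nat_lit 7) Steps.nil)))))))) (nat_lit 47) (nat_lit 2),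
  Rule.mk (nat_lit 9) (nat_lit 117) (Steps.bwd (nat_lit 3) (Steps.fwd (nat_lit 57344) (Steps.fwd (nat_lit 32768) (Steps.bwd (nat_lit 13) (Steps.bwd (nat_lit 12) (Steps.bwd (nat_lit 10) (Steps.fwd (nat_lit 12288) Steps.nil))))))) (nat_lit 50) (nat_lit 2),
  Rule.mk (nat_lit 11) (nat_lit 102) (Steps.bwd (nat_lit 1) (Steps.fwd (nat_lit 53248) (Steps.fwd (nat_lit 28672) (Steps.fwd (nat_lit 49152) (Steps.fwd (nat_lit 49152) (Steps.fwd (nat_lit 4096) Steps.nil)))))) (nat_lit 44) (nat_lit 2),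
  Rule.mk (nat_lit 13) (nat_lit 132) (Steps.bwd (nat_lit 1) (Steps.fwd (nat_lit 53248) (Steps.fwd (nat_lit 28672) (Steps.bwd (nat_lit 14) (Steps.bwd (nat_lit 11) (Steps.fwd (nat_lit 40960) (Steps.bwd (nat_lit 8) (Steps.bwd (nat_lit 2) Steps.nil)))))))) (nat_lit 46) (nat_lit 2),
  Rule.mk (nat_lit 11) (nat_lit 102) (Steps.bwd (nat_lit 1) (Steps.fwd (nat_lit 53248) (Steps.bwd (nat_lit 8) (Steps.bwd (nat_lit 11) (Steps.fwd (nat_lit 49152) (Steps.fwd (nat_lit 4096) Steps.nil)))))) (nat_lit 44) (nat_lit 2),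
  Rule.mk (nat_lit 12) (nat_lit 102) (Steps.bwd (nat_lit 1) (Steps.bwd (nat_lit 12) (Steps.fwd (nat_lit 45056) (Steps.bwd (nat_lit 7) (Steps.fwd (nat_lit 57344) (Steps.fwd (nat_lit 4096) Steps.nil)))))) (nat_lit 45) (nat_lit 6),
  Rule.mk (nat_lit 3) (nat_lit 117) (Steps.bwd (nat_lit 7) (Steps.fwd (nat_lit 32768) (Steps.fwd (nat_lit 57344) (Steps.bwd (nat_lit 12) (Steps.fwd (nat_lit 45056) (Steps.bwd (nat_lit 4) (Steps.bwd (nat_lit 12) Steps.nil))))))) (nat_lit 53) (nat_lit 0),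
  Rule.mk (nat_lit 10) (nat_lit 117) (Steps.bwd (nat_lit 3) (Steps.bwd (nat_lit 9) (Steps.fwd (nat_lit 49152) (Steps.fwd (nat_lit 53248) (Steps.fwd (nat_lit 28672) (Steps.bwd (nat_lit 14) (Steps.fwd (nat_lit 12288) Steps.nil))))))) (nat_lit 51) (nat_lit 7),
  Rule.mk (nat_lit 11) (nat_lit 102) (Steps.fwd (nat_lit 4096) (Steps.bwd (nat_lit 11) (Steps.bwd (nat_lit 1) (Steps.bwd (nat_lit 14) (Steps.bwd (nat_lit 8) (Steps.bwd (nat_lit 11) Steps.nil)))))) (nat_lit 44) (nat_lit 0),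
  Rule.mk (nat_lit 12) (nat_lit 117) (Steps.bwd (nat_lit 3) (Steps.fwd (nat_lit 32768) (Steps.fwd (nat_lit 32768) (Steps.fwd (nat_lit 57344) (Steps.bwd (nat_lit 12) (Steps.bwd (nat_lit 12) (Steps.fwd (nat_lit 12288) Steps.nil))))))) (nat_lit 53) (nat_lit 7)]
noncomputable def R_51 : List (Rule) := [Rule.mk (nat_lit 12) (nat_lit 117) (Steps.bwd (nat_lit 4) (Steps.fwd (nat_lit 45056) (Steps.fwd (nat_lit 16384) (Steps.bwd (nat_lit 7) (Steps.fwd (nat_lit 32768) (Steps.fwd (nat_lit 57344) (Steps.bwd (nat_lit 12) Steps.nil))))))) (nat_lit 53) (nat_lit 5),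
  Rule.mk (nat_lit 3) (nat_lit 117) (Steps.bwd (nat_lit 13) (Steps.fwd (nat_lit 32768) (Steps.bwd (nat_lit 13) (Steps.bwd (nat_lit 12) (Steps.fwd (nat_lit 36864) (Steps.fwd (nat_lit 12288) (Steps.fwd (nat_lit 40960) Steps.nil))))))) (nat_lit 50) (nat_lit 3),
  Rule.mk (nat_lit 12) (nat_lit 102) (Steps.bwd (nat_lit 1) (Steps.fwd (nat_lit 45056) (Steps.fwd (nat_lit 45056) (Steps.fwd (nat_lit 32768) (Steps.fwd (nat_lit 57344) (Steps.bwd (nat_lit 2) Steps.nil)))))) (nat_lit 45) (nat_lit 6),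
  Rule.mk (nat_lit 7) (nat_lit 132) (Steps.bwd (nat_lit 10) (Steps.fwd (nat_lit 45056) (Steps.fwd (nat_lit 57344) (Steps.fwd (nat_lit 32768) (Steps.bwd (nat_lit 13) (Steps.fwd (nat_lit 4096) (Steps.fwd (nat_lit 53248) (Steps.fwd (nat_lit 8192) Steps.nil)))))))) (nat_lit 47) (nat_lit 1),
  Rule.mk (nat_lit 9) (nat_lit 117) (Steps.bwd (nat_lit 3) (Steps.fwd (nat_lit 57344) (Steps.fwd (nat_lit 32768) (Steps.fwd (nat_lit 57344) (Steps.fwd (nat_lit 45056) (Steps.fwd (nat_lit 36864) (Steps.fwd (nat_lit 12288) Steps.nil))))))) (nat_lit 50) (nat_lit 2),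
  Rule.mk (nat_lit 11) (nat_lit 117) (Steps.bwd (nat_lit 14) (Steps.fwd (nat_lit 28672) (Steps.bwd (nat_lit 8) (Steps.fwd (nat_lit 12288) (Steps.bwd (nat_lit 11) (Steps.fwd (nat_lit 16384) (Steps.bwd (nat_lit 11) Steps.nil))))))) (nat_lit 52) (nat_lit 5),
  Rule.mk (nat_lit 4) (nat_lit 117) (Steps.bwd (nat_lit 9) (Steps.fwd (nat_lit 16384) (Steps.bwd (nat_lit 13) (Steps.fwd (nat_lit 32768) (Steps.fwd (nat_lit 57344) (Steps.bwd (nat_lit 12) (Steps.fwd (nat_lit 36864) Steps.nil))))))) (nat_lit 50) (nat_lit 1),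
  Rule.mk (nat_lit 11) (nat_lit 117) (Steps.bwd (nat_lit 3) (Steps.bwd (nat_lit 11) (Steps.fwd (nat_lit 49152) (Steps.bwd (nat_lit 14) (Steps.bwd (nat_lit 8) (Steps.bwd (nat_lit 8) (Steps.bwd (nat_lit 4) Steps.nil))))))) (nat_lit 52) (nat_lit 2),
  Rule.mk (nat_lit 2) (nat_lit 132) (Steps.bwd (nat_lit 13) (Steps.fwd (nat_lit 8192) (Steps.fwd (nat_lit 53248) (Steps.bwd (nat_lit 8) (Steps.fwd (nat_lit 53248) (Steps.fwd (nat_lit 49152) (Steps.bwd (nat_lit 9) (Steps.bwd (nat_lit 8) Steps.nil)))))))) (nat_lit 46) (nat_lit 1),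
  Rule.mk (nat_lit 3) (nat_lit 87) (Steps.fwd (nat_lit 8192) (Steps.fwd (nat_lit 8192) (Steps.fwd (nat_lit 12288) (Steps.fwd (nat_lit 4096) (Steps.bwd (nat_lit 2) Steps.nil))))) (nat_lit 7) (nat_lit 4),
  Rule.mk (nat_lit 14) (nat_lit 132) (Steps.fwd (nat_lit 8192) (Steps.bwd (nat_lit 7) (Steps.bwd (nat_lit 10) (Steps.bwd (nat_lit 12) (Steps.bwd (nat_lit 13) (Steps.bwd (nat_lit 7) (Steps.fwd (nat_lit 57344) (Steps.bwd (nat_lit 2) Steps.nil)))))))) (nat_lit 47) (nat_lit 8),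
  Rule.mk (nat_lit 1) (nat_lit 117) (Steps.bwd (nat_lit 3) (Steps.fwd (nat_lit 8192) (Steps.bwd (nat_lit 3) (Steps.fwd (nat_lit 8192) (Steps.fwd (nat_lit 16384) (Steps.bwd (nat_lit 1) (Steps.bwd (nat_lit 3) Steps.nil))))))) (nat_lit 4) (nat_lit 1),
  Rule.mk (nat_lit 2) (nat_lit 132) (Steps.bwd (nat_lit 13) (Steps.fwd (nat_lit 8192) (Steps.bwd (nat_lit 14) (Steps.fwd (nat_lit 28672) (Steps.fwd (nat_lit 53248) (Steps.fwd (nat_lit 49152) (Steps.bwd (nat_lit 9) (Steps.bwd (nat_lit 8) Steps.nil)))))))) (nat_lit 46) (nat_lit 1),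
  Rule.mk (nat_lit 14) (nat_lit 132) (Steps.bwd (nat_lit 1) (Steps.bwd (nat_lit 7) (Steps.fwd (nat_lit 36864) (Steps.fwd (nat_lit 45056) (Steps.fwd (nat_lit 57344) (Steps.fwd (nat_lit 32768) (Steps.bwd (nat_lit 13) (Steps.bwd (nat_lit 2) Steps.nil)))))))) (nat_lit 47) (nat_lit 8),
  Rule.mk (nat_lit 3) (nat_lit 177) (Steps.bwd (nat_lit 1) (Steps.fwd (nat_lit 12288) (Steps.fwd (nat_lit 4096) (Steps.fwd (nat_lit 16384) (Steps.bwd (nat_lit 1) (Steps.bwd (nat_lit 4) (Steps.bwd (nat_lit 2) (Steps.fwd (nat_lit 16384) (Steps.fwd (nat_lit 8192) (Steps.fwd (nat_lit 12288) (Steps.fwd (nat_lit 4096) Steps.nil))))))))))) (nat_lit 9) (nat_lit 3),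
  Rule.mk (nat_lit 10) (nat_lit 132) (Steps.bwd (nat_lit 12) (Steps.fwd (nat_lit 57344) (Steps.fwd (nat_lit 32768) (Steps.bwd (nat_lit 13) (Steps.fwd (nat_lit 4096) (Steps.fwd (nat_lit 53248) (Steps.bwd (nat_lit 1) (Steps.fwd (nat_lit 32768) Steps.nil)))))))) (nat_lit 47) (nat_lit 2),
  Rule.mk (nat_lit 11) (nat_lit 117) (Steps.bwd (nat_lit 11) (Steps.bwd (nat_lit 14) (Steps.fwd (nat_lit 28672) (Steps.bwd (nat_lit 8) (Steps.bwd (nat_lit 4) (Steps.fwd (nat_lit 49152) (Steps.bwd (nat_lit 3) Steps.nil))))))) (nat_lit 52) (nat_lit 4),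
  Rule.mk (nat_lit 4) (nat_lit 117) (Steps.bwd (nat_lit 11) (Steps.fwd (nat_lit 16384) (Steps.bwd (nat_lit 11) (Steps.bwd (nat_lit 11) (Steps.bwd (nat_lit 14) (Steps.fwd (nat_lit 28672) (Steps.bwd (nat_lit 8) Steps.nil))))))) (nat_lit 52) (nat_lit 1),
  Rule.mk (nat_lit 9) (nat_lit 117) (Steps.fwd (nat_lit 16384) (Steps.fwd (nat_lit 57344) (Steps.bwd (nat_lit 7) (Steps.fwd (nat_lit 57344) (Steps.fwd (nat_lit 45056) (Steps.bwd (nat_lit 10) (Steps.bwd (nat_lit 4) Steps.nil))))))) (nat_lit 50) (nat_lit 2),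
  Rule.mk (nat_lit 10) (nat_lit 117) (Steps.bwd (nat_lit 4) (Steps.fwd (nat_lit 40960) (Steps.bwd (nat_lit 3) (Steps.bwd (nat_lit 13) (Steps.fwd (nat_lit 32768) (Steps.bwd (nat_lit 13) (Steps.fwd (nat_lit 45056) Steps.nil))))))) (nat_lit 50) (nat_lit 0),
  Rule.mk (nat_lit 9) (nat_lit 117) (Steps.bwd (nat_lit 11) (Steps.fwd (nat_lit 53248) (Steps.fwd (nat_lit 28672) (Steps.fwd (nat_lit 53248) (Steps.fwd (nat_lit 12288) (Steps.bwd (nat_lit 10) (Steps.fwd (nat_lit 16384) Steps.nil))))))) (nat_lit 51) (nat_lit 1),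
  Rule.mk (nat_lit 11) (nat_lit 117) (Steps.bwd (nat_lit 11) (Steps.fwd (nat_lit 53248) (Steps.fwd (nat_lit 28672) (Steps.bwd (nat_lit 8) (Steps.bwd (nat_lit 4) (Steps.bwd (nat_lit 11) (Steps.fwd (nat_lit 16384) Steps.nil))))))) (nat_lit 52) (nat_lit 4),
  Rule.mk (nat_lit 1) (nat_lit 87) (Steps.bwd (nat_lit 3) (Steps.fwd (nat_lit 4096) (Steps.fwd (nat_lit 4096) (Steps.bwd (nat_lit 4) (Steps.bwd (nat_lit 1) Steps.nil))))) (nat_lit 6) (nat_lit 5),
  Rule.mk (nat_lit 2) (nat_lit 117) (Steps.bwd (nat_lit 4) (Steps.bwd (nat_lit 2) (Steps.bwd (nat_lit 4) (Steps.fwd (nat_lit 4096) (Steps.fwd (nat_lit 12288) (Steps.bwd (nat_lit 2) (Steps.fwd (nat_lit 12288) Steps.nil))))))) (nat_lit 5) (nat_lit 0),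
  Rule.mk (nat_lit 8) (nat_lit 117) (Steps.bwd (nat_lit 4) (Steps.fwd (nat_lit 49152) (Steps.bwd (nat_lit 3) (Steps.fwd (nat_lit 49152) (Steps.bwd (nat_lit 11) (Steps.bwd (nat_lit 14) (Steps.fwd (nat_lit 28672) Steps.nil))))))) (nat_lit 52) (nat_lit 0),
  Rule.mk (nat_lit 13) (nat_lit 132) (Steps.bwd (nat_lit 1) (Steps.fwd (nat_lit 53248) (Steps.fwd (nat_lit 28672) (Steps.bwd (nat_lit 14) (Steps.fwd (nat_lit 49152) (Steps.fwd (nat_lit 40960) (Steps.bwd (nat_lit 8) (Steps.bwd (nat_lit 2) Steps.nil)))))))) (nat_lit 46) (nat_lit 2),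
  Rule.mk (nat_lit 4) (nat_lit 117) (Steps.bwd (nat_lit 11) (Steps.bwd (nat_lit 3) (Steps.fwd (nat_lit 49152) (Steps.bwd (nat_lit 11) (Steps.bwd (nat_lit 14) (Steps.fwd (nat_lit 28672) (Steps.bwd (nat_lit 8) Steps.nil))))))) (nat_lit 52) (nat_lit 1),
  Rule.mk (nat_lit 11) (nat_lit 102) (Steps.bwd (nat_lit 1) (Steps.fwd (nat_lit 53248) (Steps.fwd (nat_lit 28672) (Steps.bwd (nat_lit 11) (Steps.fwd (nat_lit 49152) (Steps.bwd (nat_lit 2) Steps.nil)))))) (nat_lit 44) (nat_lit 2),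
  Rule.mk (nat_lit 3) (nat_lit 117) (Steps.bwd (nat_lit 1) (Steps.bwd (nat_lit 3) (Steps.bwd (nat_lit 1) (Steps.bwd (nat_lit 3) (Steps.bwd (nat_lit 1) (Steps.bwd (nat_lit 3) (Steps.fwd (nat_lit 8192) Steps.nil))))))) (nat_lit 4) (nat_lit 0),
  Rule.mk (nat_lit 14) (nat_lit 132) (Steps.bwd (nat_lit 1) (Steps.bwd (nat_lit 7) (Steps.fwd (nat_lit 36864) (Steps.fwd (nat_lit 45056) (Steps.fwd (nat_lit 57344) (Steps.fwd (nat_lit 32768) (Steps.fwd (nat_lit 57344) (Steps.bwd (nat_lit 2) Steps.nil)))))))) (nat_lit 47) (nat_lit 8),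
  Rule.mk (nat_lit 4) (nat_lit 177) (Steps.bwd (nat_lit 1) (Steps.bwd (nat_lit 3) (Steps.fwd (nat_lit 4096) (Steps.fwd (nat_lit 12288) (Steps.bwd (nat_lit 1) (Steps.fwd (nat_lit 16384) (Steps.bwd (nat_lit 2) (Steps.bwd (nat_lit 4) (Steps.fwd (nat_lit 8192) (Steps.bwd (nat_lit 3) (Steps.bwd (nat_lit 2) Steps.nil))))))))))) (nat_lit 8) (nat_lit 2),
  Rule.mk (nat_lit 2) (nat_lit 177) (Steps.bwd (nat_lit 3) (Steps.fwd (nat_lit 8192) (Steps.bwd (nat_lit 4) (Steps.fwd (nat_lit 4096) (Steps.fwd (nat_lit 16384) (Steps.fwd (nat_lit 8192) (Steps.bwd (nat_lit 4) (Steps.bwd (nat_lit 2) (Steps.fwd (nat_lit 16384) (Steps.fwd (nat_lit 8192) (Steps.bwd (nat_lit 4) Steps.nil))))))))))) (nat_lit 9) (nat_lit 2),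
  Rule.mk (nat_lit 1) (nat_lit 177) (Steps.bwd (nat_lit 4) (Steps.fwd (nat_lit 4096) (Steps.bwd (nat_lit 3) (Steps.fwd (nat_lit 8192) (Steps.fwd (nat_lit 12288) (Steps.bwd (nat_lit 2) (Steps.bwd (nat_lit 3) (Steps.fwd (nat_lit 8192) (Steps.fwd (nat_lit 12288) (Steps.fwd (nat_lit 4096) (Steps.bwd (nat_lit 3) Steps.nil))))))))))) (nat_lit 9) (nat_lit 0),
  Rule.mk (nat_lit 14) (nat_lit 102) (Steps.fwd (nat_lit 28672) (Steps.bwd (nat_lit 11) (Steps.fwd (nat_lit 49152) (Steps.fwd (nat_lit 4096) (Steps.fwd (nat_lit 49152) (Steps.bwd (nat_lit 1) Steps.nil)))))) (nat_lit 44) (nat_lit 4),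
  Rule.mk (nat_lit 3) (nat_lit 117) (Steps.fwd (nat_lit 8192) (Steps.fwd (nat_lit 16384) (Steps.bwd (nat_lit 1) (Steps.fwd (nat_lit 16384) (Steps.fwd (nat_lit 8192) (Steps.bwd (nat_lit 3) (Steps.bwd (nat_lit 1) Steps.nil))))))) (nat_lit 4) (nat_lit 0),
  Rule.mk (nat_lit 7) (nat_lit 132) (Steps.bwd (nat_lit 10) (Steps.bwd (nat_lit 12) (Steps.fwd (nat_lit 57344) (Steps.fwd (nat_lit 32768) (Steps.fwd (nat_lit 57344) (Steps.bwd (nat_lit 2) (Steps.bwd (nat_lit 14) (Steps.bwd (nat_lit 1) Steps.nil)))))))) (nat_lit 47) (nat_lit 1),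
  Rule.mk (nat_lit 10) (nat_lit 117) (Steps.bwd (nat_lit 4) (Steps.bwd (nat_lit 9) (Steps.fwd (nat_lit 16384) (Steps.bwd (nat_lit 13) (Steps.fwd (nat_lit 32768) (Steps.fwd (nat_lit 57344) (Steps.bwd (nat_lit 12) Steps.nil))))))) (nat_lit 50) (nat_lit 0),
  Rule.mk (nat_lit 8) (nat_lit 117) (Steps.bwd (nat_lit 4) (Steps.bwd (nat_lit 11) (Steps.bwd (nat_lit 3) (Steps.bwd (nat_lit 11) (Steps.bwd (nat_lit 11) (Steps.bwd (nat_lit 14) (Steps.fwd (nat_lit 28672) Steps.nil))))))) (nat_lit 52) (nat_lit 0),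
  Rule.mk (nat_lit 2) (nat_lit 132) (Steps.bwd (nat_lit 14) (Steps.fwd (nat_lit 8192) (Steps.fwd (nat_lit 32768) (Steps.bwd (nat_lit 10) (Steps.fwd (nat_lit 45056) (Steps.bwd (nat_lit 13) (Steps.fwd (nat_lit 32768) (Steps.fwd (nat_lit 57344) Steps.nil)))))))) (nat_lit 47) (nat_lit 7),
  Rule.mk (nat_lit 4) (nat_lit 117) (Steps.bwd (nat_lit 10) (Steps.fwd (nat_lit 16384) (Steps.fwd (nat_lit 40960) (Steps.fwd (nat_lit 49152) (Steps.bwd (nat_lit 14) (Steps.bwd (nat_lit 8) (Steps.bwd (nat_lit 14) Steps.nil))))))) (nat_lit 51) (nat_lit 6),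
  Rule.mk (nat_lit 2) (nat_lit 87) (Steps.fwd (nat_lit 4096) (Steps.bwd (nat_lit 3) (Steps.fwd (nat_lit 8192) (Steps.fwd (nat_lit 8192) (Steps.bwd (nat_lit 4) Steps.nil))))) (nat_lit 7) (nat_lit 2),
  Rule.mk (nat_lit 3) (nat_lit 117) (Steps.fwd (nat_lit 57344) (Steps.fwd (nat_lit 32768) (Steps.bwd (nat_lit 13) (Steps.bwd (nat_lit 12) (Steps.fwd (nat_lit 36864) (Steps.fwd (nat_lit 12288) (Steps.bwd (nat_lit 9) Steps.nil))))))) (nat_lit 50) (nat_lit 3),
  Rule.mk (nat_lit 12) (nat_lit 117) (Steps.bwd (nat_lit 3) (Steps.fwd (nat_lit 32768) (Steps.bwd (nat_lit 7) (Steps.fwd (nat_lit 57344) (Steps.fwd (nat_lit 45056) (Steps.fwd (nat_lit 45056) (Steps.fwd (nat_lit 12288) Steps.nil))))))) (nat_lit 53) (nat_lit 7),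
  Rule.mk (nat_lit 12) (nat_lit 117) (Steps.bwd (nat_lit 4) (Steps.bwd (nat_lit 12) (Steps.fwd (nat_lit 16384) (Steps.fwd (nat_lit 32768) (Steps.bwd (nat_lit 7) (Steps.fwd (nat_lit 57344) (Steps.bwd (nat_lit 12) Steps.nil))))))) (nat_lit 53) (nat_lit 5),
  Rule.mk (nat_lit 3) (nat_lit 117) (Steps.bwd (nat_lit 7) (Steps.fwd (nat_lit 32768) (Steps.fwd (nat_lit 57344) (Steps.bwd (nat_lit 12) (Steps.bwd (nat_lit 12) (Steps.bwd (nat_lit 4) (Steps.fwd (nat_lit 45056) Steps.nil))))))) (nat_lit 53) (nat_lit 0),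
  Rule.mk (nat_lit 11) (nat_lit 117) (Steps.bwd (nat_lit 14) (Steps.fwd (nat_lit 28672) (Steps.fwd (nat_lit 28672) (Steps.fwd (nat_lit 12288) (Steps.fwd (nat_lit 49152) (Steps.bwd (nat_lit 3) (Steps.fwd (nat_lit 49152) Steps.nil))))))) (nat_lit 52) (nat_lit 5),
  Rule.mk (nat_lit 2) (nat_lit 132) (Steps.bwd (nat_lit 14) (Steps.fwd (nat_lit 8192) (Steps.bwd (nat_lit 7) (Steps.bwd (nat_lit 10) (Steps.bwd (nat_lit 12) (Steps.bwd (nat_lit 13) (Steps.fwd (nat_lit 32768) (Steps.fwd (nat_lit 57344) Steps.nil)))))))) (nat_lit 47) (nat_lit 7),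
  Rule.mk (nat_lit 9) (nat_lit 117) (Steps.bwd (nat_lit 11) (Steps.fwd (nat_lit 53248) (Steps.fwd (nat_lit 28672) (Steps.fwd (nat_lit 53248) (Steps.bwd (nat_lit 4) (Steps.bwd (nat_lit 10) (Steps.bwd (nat_lit 3) Steps.nil))))))) (nat_lit 51) (nat_lit 1),
  Rule.mk (nat_lit 9) (nat_lit 117) (Steps.bwd (nat_lit 3) (Steps.fwd (nat_lit 57344) (Steps.bwd (nat_lit 7) (Steps.fwd (nat_lit 57344) (Steps.fwd (nat_lit 45056) (Steps.bwd (nat_lit 10) (Steps.fwd (nat_lit 12288) Steps.nil))))))) (nat_lit 50) (nat_lit 2),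
  Rule.mk (nat_lit 11) (nat_lit 117) (Steps.bwd (nat_lit 14) (Steps.bwd (nat_lit 8) (Steps.bwd (nat_lit 8) (Steps.bwd (nat_lit 4) (Steps.fwd (nat_lit 49152) (Steps.bwd (nat_lit 3) (Steps.bwd (nat_lit 11) Steps.nil))))))) (nat_lit 52) (nat_lit 5),
  Rule.mk (nat_lit 11) (nat_lit 117) (Steps.bwd (nat_lit 14) (Steps.fwd (nat_lit 28672) (Steps.fwd (nat_lit 53248) (Steps.bwd (nat_lit 4) (Steps.bwd (nat_lit 10) (Steps.bwd (nat_lit 3) (Steps.bwd (nat_lit 9) Steps.nil))))))) (nat_lit 51) (nat_lit 2),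
  Rule.mk (nat_lit 11) (nat_lit 102) (Steps.fwd (nat_lit 4096) (Steps.bwd (nat_lit 11) (Steps.bwd (nat_lit 1) (Steps.bwd (nat_lit 14) (Steps.fwd (nat_lit 28672) (Steps.bwd (nat_lit 11) Steps.nil)))))) (nat_lit 44) (nat_lit 0),
  Rule.mk (nat_lit 9) (nat_lit 132) (Steps.bwd (nat_lit 8) (Steps.bwd (nat_lit 2) (Steps.bwd (nat_lit 13) (Steps.bwd (nat_lit 1) (Steps.fwd (nat_lit 53248) (Steps.fwd (nat_lit 28672) (Steps.bwd (nat_lit 14) (Steps.bwd (nat_lit 11) Steps.nil)))))))) (nat_lit 46) (nat_lit 8),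
  Rule.mk (nat_lit 7) (nat_lit 132) (Steps.bwd (nat_lit 10) (Steps.bwd (nat_lit 12) (Steps.fwd (nat_lit 57344) (Steps.bwd (nat_lit 7) (Steps.fwd (nat_lit 57344) (Steps.fwd (nat_lit 4096) (Steps.bwd (nat_lit 14) (Steps.bwd (nat_lit 1) Steps.nil)))))))) (nat_lit 47) (nat_lit 1),
  Rule.mk (nat_lit 2) (nat_lit 117) (Steps.bwd (nat_lit 2) (Steps.fwd (nat_lit 4096) (Steps.bwd (nat_lit 2) (Steps.bwd (nat_lit 2) (Steps.bwd (nat_lit 2) (Steps.fwd (nat_lit 4096) (Steps.fwd (nat_lit 4096) Steps.nil))))))) (nat_lit 1) (nat_lit 0),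
  Rule.mk (nat_lit 12) (nat_lit 102) (Steps.fwd (nat_lit 8192) (Steps.fwd (nat_lit 45056) (Steps.fwd (nat_lit 45056) (Steps.fwd (nat_lit 32768) (Steps.fwd (nat_lit 57344) (Steps.bwd (nat_lit 2) Steps.nil)))))) (nat_lit 45) (nat_lit 6),
  Rule.mk (nat_lit 14) (nat_lit 132) (Steps.bwd (nat_lit 1) (Steps.fwd (nat_lit 32768) (Steps.fwd (nat_lit 36864) (Steps.fwd (nat_lit 45056) (Steps.bwd (nat_lit 13) (Steps.fwd (nat_lit 32768) (Steps.fwd (nat_lit 57344) (Steps.bwd (nat_lit 2) Steps.nil)))))))) (nat_lit 47) (nat_lit 8),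
  Rule.mk (nat_lit 1) (nat_lit 132) (Steps.fwd (nat_lit 32768) (Steps.bwd (nat_lit 10) (Steps.fwd (nat_lit 45056) (Steps.bwd (nat_lit 13) (Steps.fwd (nat_lit 32768) (Steps.bwd (nat_lit 13) (Steps.bwd (nat_lit 2) (Steps.bwd (nat_lit 14) Steps.nil)))))))) (nat_lit 47) (nat_lit 0),
  Rule.mk (nat_lit 14) (nat_lit 117) (Steps.fwd (nat_lit 28672) (Steps.fwd (nat_lit 28672) (Steps.fwd (nat_lit 12288) (Steps.fwd (nat_lit 49152) (Steps.bwd (nat_lit 3) (Steps.bwd (nat_lit 11) (Steps.bwd (nat_lit 11) Steps.nil))))))) (nat_lit 52) (nat_lit 6),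
  Rule.mk (nat_lit 2) (nat_lit 132) (Steps.bwd (nat_lit 14) (Steps.fwd (nat_lit 8192) (Steps.bwd (nat_lit 7) (Steps.fwd (nat_lit 36864) (Steps.bwd (nat_lit 12) (Steps.fwd (nat_lit 57344) (Steps.bwd (nat_lit 7) (Steps.bwd (nat_lit 13) Steps.nil)))))))) (nat_lit 47) (nat_lit 7),
  Rule.mk (nat_lit 14) (nat_lit 117) (Steps.bwd (nat_lit 4) (Steps.fwd (nat_lit 36864) (Steps.fwd (nat_lit 16384) (Steps.bwd (nat_lit 9) (Steps.bwd (nat_lit 11) (Steps.bwd (nat_lit 14) (Steps.bwd (nat_lit 8) Steps.nil))))))) (nat_lit 51) (nat_lit 5),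
  Rule.mk (nat_lit 10) (nat_lit 117) (Steps.bwd (nat_lit 4) (Steps.bwd (nat_lit 9) (Steps.fwd (nat_lit 16384) (Steps.bwd (nat_lit 13) (Steps.bwd (nat_lit 7) (Steps.fwd (nat_lit 57344) (Steps.fwd (nat_lit 45056) Steps.nil))))))) (nat_lit 50) (nat_lit 0),
  Rule.mk (nat_lit 15) (nat_lit 87) (Steps.bwd (nat_lit 8) (Steps.bwd (nat_lit 12) (Steps.fwd (nat_lit 32768) (Steps.bwd (nat_lit 11) (Steps.bwd (nat_lit 15) Steps.nil))))) (nat_lit 32) (nat_lit 0),
  Rule.mk (nat_lit 2) (nat_lit 132) (Steps.bwd (nat_lit 13) (Steps.fwd (nat_lit 8192) (Steps.bwd (nat_lit 14) (Steps.fwd (nat_lit 28672) (Steps.fwd (nat_lit 53248) (Steps.fwd (nat_lit 49152) (Steps.fwd (nat_lit 40960) (Steps.bwd (nat_lit 8) Steps.nil)))))))) (nat_lit 46) (nat_lit 1)]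
noncomputable def R_52 : List (Rule) := [Rule.mk (nat_lit 4) (nat_lit 117) (Steps.fwd (nat_lit 49152) (Steps.bwd (nat_lit 3) (Steps.bwd (nat_lit 11) (Steps.bwd (nat_lit 11) (Steps.bwd (nat_lit 14) (Steps.bwd (nat_lit 8) (Steps.bwd (nat_lit 8) Steps.nil))))))) (nat_lit 52) (nat_lit 1),
  Rule.mk (nat_lit 2) (nat_lit 177) (Steps.bwd (nat_lit 4) (Steps.fwd (nat_lit 8192) (Steps.bwd (nat_lit 3) (Steps.bwd (nat_lit 2) (Steps.fwd (nat_lit 12288) (Steps.fwd (nat_lit 8192) (Steps.fwd (nat_lit 16384) (Steps.fwd (nat_lit 4096) (Steps.bwd (nat_lit 4) (Steps.fwd (nat_lit 8192) (Steps.bwd (nat_lit 3) Steps.nil))))))))))) (nat_lit 8) (nat_lit 1),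
  Rule.mk (nat_lit 7) (nat_lit 132) (Steps.bwd (nat_lit 10) (Steps.fwd (nat_lit 45056) (Steps.bwd (nat_lit 13) (Steps.bwd (nat_lit 7) (Steps.fwd (nat_lit 57344) (Steps.bwd (nat_lit 2) (Steps.bwd (nat_lit 14) (Steps.fwd (nat_lit 8192) Steps.nil)))))))) (nat_lit 47) (nat_lit 1),
  Rule.mk (nat_lit 1) (nat_lit 117) (Steps.bwd (nat_lit 3) (Steps.fwd (nat_lit 8192) (Steps.fwd (nat_lit 16384) (Steps.fwd (nat_lit 8192) (Steps.fwd (nat_lit 16384) (Steps.bwd (nat_lit 1) (Steps.fwd (nat_lit 16384) Steps.nil))))))) (nat_lit 4) (nat_lit 1),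
  Rule.mk (nat_lit 3) (nat_lit 117) (Steps.bwd (nat_lit 13) (Steps.bwd (nat_lit 7) (Steps.bwd (nat_lit 13) (Steps.fwd (nat_lit 45056) (Steps.fwd (nat_lit 36864) (Steps.bwd (nat_lit 4) (Steps.bwd (nat_lit 9) Steps.nil))))))) (nat_lit 50) (nat_lit 3),
  Rule.mk (nat_lit 2) (nat_lit 132) (Steps.bwd (nat_lit 13) (Steps.bwd (nat_lit 1) (Steps.bwd (nat_lit 14) (Steps.bwd (nat_lit 8) (Steps.bwd (nat_lit 14) (Steps.fwd (nat_lit 49152) (Steps.fwd (nat_lit 40960) (Steps.fwd (nat_lit 28672) Steps.nil)))))))) (nat_lit 46) (nat_lit 1),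
  Rule.mk (nat_lit 12) (nat_lit 102) (Steps.fwd (nat_lit 8192) (Steps.fwd (nat_lit 45056) (Steps.bwd (nat_lit 12) (Steps.fwd (nat_lit 32768) (Steps.bwd (nat_lit 13) (Steps.bwd (nat_lit 2) Steps.nil)))))) (nat_lit 45) (nat_lit 6),
  Rule.mk (nat_lit 12) (nat_lit 117) (Steps.bwd (nat_lit 3) (Steps.bwd (nat_lit 7) (Steps.bwd (nat_lit 7) (Steps.fwd (nat_lit 57344) (Steps.bwd (nat_lit 12) (Steps.fwd (nat_lit 45056) (Steps.fwd (nat_lit 12288) Steps.nil))))))) (nat_lit 53) (nat_lit 7),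
  Rule.mk (nat_lit 7) (nat_lit 102) (Steps.bwd (nat_lit 13) (Steps.bwd (nat_lit 2) (Steps.fwd (nat_lit 45056) (Steps.bwd (nat_lit 1) (Steps.bwd (nat_lit 12) (Steps.bwd (nat_lit 12) Steps.nil)))))) (nat_lit 45) (nat_lit 3),
  Rule.mk (nat_lit 3) (nat_lit 117) (Steps.bwd (nat_lit 1) (Steps.bwd (nat_lit 3) (Steps.bwd (nat_lit 1) (Steps.fwd (nat_lit 16384) (Steps.bwd (nat_lit 1) (Steps.fwd (nat_lit 16384) (Steps.bwd (nat_lit 1) Steps.nil))))))) (nat_lit 4) (nat_lit 0),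
  Rule.mk (nat_lit 13) (nat_lit 132) (Steps.bwd (nat_lit 1) (Steps.fwd (nat_lit 53248) (Steps.fwd (nat_lit 28672) (Steps.fwd (nat_lit 53248) (Steps.bwd (nat_lit 11) (Steps.fwd (nat_lit 40960) (Steps.fwd (nat_lit 28672) (Steps.fwd (nat_lit 4096) Steps.nil)))))))) (nat_lit 46) (nat_lit 2),
  Rule.mk (nat_lit 7) (nat_lit 87) (Steps.fwd (nat_lit 65536) (Steps.fwd (nat_lit 65536) (Steps.bwd (nat_lit 14) (Steps.fwd (nat_lit 28672) (Steps.bwd (nat_lit 13) Steps.nil))))) (nat_lit 35) (nat_lit 0),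
  Rule.mk (nat_lit 14) (nat_lit 102) (Steps.bwd (nat_lit 8) (Steps.fwd (nat_lit 49152) (Steps.fwd (nat_lit 49152) (Steps.bwd (nat_lit 2) (Steps.bwd (nat_lit 11) (Steps.fwd (nat_lit 8192) Steps.nil)))))) (nat_lit 44) (nat_lit 4),
  Rule.mk (nat_lit 11) (nat_lit 132) (Steps.fwd (nat_lit 40960) (Steps.fwd (nat_lit 28672) (Steps.bwd (nat_lit 2) (Steps.bwd (nat_lit 13) (Steps.bwd (nat_lit 1) (Steps.bwd (nat_lit 14) (Steps.bwd (nat_lit 8) (Steps.bwd (nat_lit 14) Steps.nil)))))))) (nat_lit 46) (nat_lit 7),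
  Rule.mk (nat_lit 3) (nat_lit 117) (Steps.bwd (nat_lit 11) (Steps.bwd (nat_lit 11) (Steps.bwd (nat_lit 14) (Steps.bwd (nat_lit 8) (Steps.fwd (nat_lit 28672) (Steps.fwd (nat_lit 12288) (Steps.bwd (nat_lit 11) Steps.nil))))))) (nat_lit 52) (nat_lit 3),
  Rule.mk (nat_lit 7) (nat_lit 132) (Steps.bwd (nat_lit 10) (Steps.bwd (nat_lit 12) (Steps.bwd (nat_lit 13) (Steps.fwd (nat_lit 32768) (Steps.bwd (nat_lit 13) (Steps.bwd (nat_lit 2) (Steps.fwd (nat_lit 53248) (Steps.fwd (nat_lit 8192) Steps.nil)))))))) (nat_lit 47) (nat_lit 1),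
  Rule.mk (nat_lit 10) (nat_lit 117) (Steps.bwd (nat_lit 4) (Steps.fwd (nat_lit 40960) (Steps.fwd (nat_lit 16384) (Steps.fwd (nat_lit 57344) (Steps.fwd (nat_lit 32768) (Steps.fwd (nat_lit 57344) (Steps.bwd (nat_lit 12) Steps.nil))))))) (nat_lit 50) (nat_lit 0),
  Rule.mk (nat_lit 8) (nat_lit 117) (Steps.bwd (nat_lit 4) (Steps.bwd (nat_lit 11) (Steps.bwd (nat_lit 3) (Steps.bwd (nat_lit 11) (Steps.fwd (nat_lit 49152) (Steps.bwd (nat_lit 14) (Steps.fwd (nat_lit 28672) Steps.nil))))))) (nat_lit 52) (nat_lit 0),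
  Rule.mk (nat_lit 3) (nat_lit 117) (Steps.bwd (nat_lit 13) (Steps.bwd (nat_lit 7) (Steps.fwd (nat_lit 57344) (Steps.fwd (nat_lit 45056) (Steps.bwd (nat_lit 10) (Steps.bwd (nat_lit 4) (Steps.fwd (nat_lit 40960) Steps.nil))))))) (nat_lit 50) (nat_lit 3),
  Rule.mk (nat_lit 1) (nat_lit 87) (Steps.fwd (nat_lit 8192) (Steps.fwd (nat_lit 12288) (Steps.bwd (nat_lit 2) (Steps.bwd (nat_lit 2) (Steps.bwd (nat_lit 3) Steps.nil))))) (nat_lit 7) (nat_lit 5),
  Rule.mk (nat_lit 2) (nat_lit 87) (Steps.fwd (nat_lit 4096) (Steps.fwd (nat_lit 12288) (Steps.fwd (nat_lit 8192) (Steps.bwd (nat_lit 1) (Steps.bwd (nat_lit 3) Steps.nil))))) (nat_lit 6) (nat_lit 1),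
  Rule.mk (nat_lit 13) (nat_lit 117) (Steps.fwd (nat_lit 32768) (Steps.bwd (nat_lit 13) (Steps.fwd (nat_lit 45056) (Steps.bwd (nat_lit 10) (Steps.fwd (nat_lit 12288) (Steps.bwd (nat_lit 9) (Steps.bwd (nat_lit 3) Steps.nil))))))) (nat_lit 50) (nat_lit 4),
  Rule.mk (nat_lit 11) (nat_lit 117) (Steps.bwd (nat_lit 11) (Steps.bwd (nat_lit 14) (Steps.fwd (nat_lit 28672) (Steps.bwd (nat_lit 8) (Steps.fwd (nat_lit 12288) (Steps.fwd (nat_lit 49152) (Steps.fwd (nat_lit 16384) Steps.nil))))))) (nat_lit 52) (nat_lit 4),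
  Rule.mk (nat_lit 14) (nat_lit 132) (Steps.bwd (nat_lit 1) (Steps.fwd (nat_lit 32768) (Steps.fwd (nat_lit 36864) (Steps.bwd (nat_lit 12) (Steps.fwd (nat_lit 57344) (Steps.fwd (nat_lit 32768) (Steps.fwd (nat_lit 57344) (Steps.bwd (nat_lit 2) Steps.nil)))))))) (nat_lit 47) (nat_lit 8),
  Rule.mk (nat_lit 3) (nat_lit 117) (Steps.bwd (nat_lit 13) (Steps.fwd (nat_lit 32768) (Steps.bwd (nat_lit 13) (Steps.bwd (nat_lit 12) (Steps.fwd (nat_lit 36864) (Steps.fwd (nat_lit 12288) (Steps.bwd (nat_lit 9) Steps.nil))))))) (nat_lit 50) (nat_lit 3),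
  Rule.mk (nat_lit 2) (nat_lit 132) (Steps.bwd (nat_lit 13) (Steps.bwd (nat_lit 1) (Steps.bwd (nat_lit 14) (Steps.fwd (nat_lit 28672) (Steps.fwd (nat_lit 53248) (Steps.bwd (nat_lit 11) (Steps.bwd (nat_lit 9) (Steps.fwd (nat_lit 28672) Steps.nil)))))))) (nat_lit 46) (nat_lit 1),
  Rule.mk (nat_lit 9) (nat_lit 117) (Steps.fwd (nat_lit 49152) (Steps.fwd (nat_lit 53248) (Steps.bwd (nat_lit 8) (Steps.bwd (nat_lit 14) (Steps.fwd (nat_lit 12288) (Steps.fwd (nat_lit 36864) (Steps.bwd (nat_lit 3) Steps.nil))))))) (nat_lit 51) (nat_lit 1),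
  Rule.mk (nat_lit 11) (nat_lit 87) (Steps.bwd (nat_lit 7) (Steps.bwd (nat_lit 16) (Steps.bwd (nat_lit 16) (Steps.fwd (nat_lit 45056) (Steps.fwd (nat_lit 28672) Steps.nil))))) (nat_lit 33) (nat_lit 5),
  Rule.mk (nat_lit 12) (nat_lit 102) (Steps.bwd (nat_lit 7) (Steps.fwd (nat_lit 57344) (Steps.bwd (nat_lit 2) (Steps.fwd (nat_lit 45056) (Steps.fwd (nat_lit 8192) (Steps.fwd (nat_lit 45056) Steps.nil)))))) (nat_lit 45) (nat_lit 2),
  Rule.mk (nat_lit 3) (nat_lit 117) (Steps.bwd (nat_lit 7) (Steps.bwd (nat_lit 7) (Steps.bwd (nat_lit 13) (Steps.fwd (nat_lit 45056) (Steps.bwd (nat_lit 12) (Steps.fwd (nat_lit 12288) (Steps.fwd (nat_lit 45056) Steps.nil))))))) (nat_lit 53) (nat_lit 0),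
  Rule.mk (nat_lit 1) (nat_lit 117) (Steps.bwd (nat_lit 3) (Steps.fwd (nat_lit 8192) (Steps.bwd (nat_lit 3) (Steps.fwd (nat_lit 8192) (Steps.bwd (nat_lit 3) (Steps.bwd (nat_lit 1) (Steps.bwd (nat_lit 3) Steps.nil))))))) (nat_lit 4) (nat_lit 1),
  Rule.mk (nat_lit 8) (nat_lit 117) (Steps.bwd (nat_lit 4) (Steps.fwd (nat_lit 49152) (Steps.bwd (nat_lit 3) (Steps.fwd (nat_lit 49152) (Steps.fwd (nat_lit 49152) (Steps.bwd (nat_lit 14) (Steps.fwd (nat_lit 28672) Steps.nil))))))) (nat_lit 52) (nat_lit 0),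
  Rule.mk (nat_lit 11) (nat_lit 117) (Steps.bwd (nat_lit 14) (Steps.fwd (nat_lit 28672) (Steps.fwd (nat_lit 28672) (Steps.bwd (nat_lit 4) (Steps.bwd (nat_lit 11) (Steps.fwd (nat_lit 16384) (Steps.bwd (nat_lit 11) Steps.nil))))))) (nat_lit 52) (nat_lit 5),
  Rule.mk (nat_lit 8) (nat_lit 132) (Steps.bwd (nat_lit 14) (Steps.bwd (nat_lit 11) (Steps.bwd (nat_lit 9) (Steps.bwd (nat_lit 8) (Steps.bwd (nat_lit 2) (Steps.bwd (nat_lit 13) (Steps.fwd (nat_lit 8192) (Steps.bwd (nat_lit 14) Steps.nil)))))))) (nat_lit 46) (nat_lit 5),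
  Rule.mk (nat_lit 4) (nat_lit 117) (Steps.fwd (nat_lit 4096) (Steps.bwd (nat_lit 4) (Steps.fwd (nat_lit 4096) (Steps.fwd (nat_lit 12288) (Steps.bwd (nat_lit 2) (Steps.fwd (nat_lit 12288) (Steps.bwd (nat_lit 2) Steps.nil))))))) (nat_lit 5) (nat_lit 1),
  Rule.mk (nat_lit 1) (nat_lit 177) (Steps.bwd (nat_lit 3) (Steps.fwd (nat_lit 4096) (Steps.fwd (nat_lit 12288) (Steps.fwd (nat_lit 8192) (Steps.bwd (nat_lit 3) (Steps.bwd (nat_lit 2) (Steps.bwd (nat_lit 4) (Steps.bwd (nat_lit 1) (Steps.bwd (nat_lit 3) (Steps.bwd (nat_lit 2) (Steps.bwd (nat_lit 4) Steps.nil))))))))))) (nat_lit 8) (nat_lit 3),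
  Rule.mk (nat_lit 7) (nat_lit 132) (Steps.fwd (nat_lit 36864) (Steps.bwd (nat_lit 12) (Steps.fwd (nat_lit 57344) (Steps.bwd (nat_lit 7) (Steps.bwd (nat_lit 13) (Steps.fwd (nat_lit 4096) (Steps.bwd (nat_lit 14) (Steps.bwd (nat_lit 1) Steps.nil)))))))) (nat_lit 47) (nat_lit 1),
  Rule.mk (nat_lit 11) (nat_lit 117) (Steps.bwd (nat_lit 14) (Steps.bwd (nat_lit 8) (Steps.bwd (nat_lit 8) (Steps.fwd (nat_lit 12288) (Steps.fwd (nat_lit 49152) (Steps.bwd (nat_lit 3) (Steps.bwd (nat_lit 11) Steps.nil))))))) (nat_lit 52) (nat_lit 5),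
  Rule.mk (nat_lit 1) (nat_lit 102) (Steps.fwd (nat_lit 53248) (Steps.bwd (nat_lit 8) (Steps.bwd (nat_lit 11) (Steps.bwd (nat_lit 11) (Steps.bwd (nat_lit 2) (Steps.bwd (nat_lit 11) Steps.nil)))))) (nat_lit 44) (nat_lit 3),
  Rule.mk (nat_lit 7) (nat_lit 72) (Steps.bwd (nat_lit 7) (Steps.fwd (nat_lit 4096) (Steps.bwd (nat_lit 9) (Steps.fwd (nat_lit 8192) Steps.nil)))) (nat_lit 42) (nat_lit 4),
  Rule.mk (nat_lit 11) (nat_lit 102) (Steps.fwd (nat_lit 8192) (Steps.bwd (nat_lit 14) (Steps.bwd (nat_lit 8) (Steps.fwd (nat_lit 49152) (Steps.fwd (nat_lit 49152) (Steps.bwd (nat_lit 2) Steps.nil)))))) (nat_lit 44) (nat_lit 2),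
  Rule.mk (nat_lit 13) (nat_lit 117) (Steps.bwd (nat_lit 12) (Steps.fwd (nat_lit 45056) (Steps.bwd (nat_lit 4) (Steps.fwd (nat_lit 45056) (Steps.bwd (nat_lit 3) (Steps.bwd (nat_lit 7) (Steps.bwd (nat_lit 7) Steps.nil))))))) (nat_lit 53) (nat_lit 3),
  Rule.mk (nat_lit 7) (nat_lit 132) (Steps.bwd (nat_lit 10) (Steps.fwd (nat_lit 45056) (Steps.bwd (nat_lit 13) (Steps.bwd (nat_lit 7) (Steps.fwd (nat_lit 57344) (Steps.fwd (nat_lit 4096) (Steps.fwd (nat_lit 53248) (Steps.fwd (nat_lit 8192) Steps.nil)))))))) (nat_lit 47) (nat_lit 1),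
  Rule.mk (nat_lit 2) (nat_lit 87) (Steps.bwd (nat_lit 4) (Steps.fwd (nat_lit 8192) (Steps.bwd (nat_lit 1) (Steps.fwd (nat_lit 16384) (Steps.fwd (nat_lit 4096) Steps.nil))))) (nat_lit 6) (nat_lit 2),
  Rule.mk (nat_lit 1) (nat_lit 177) (Steps.bwd (nat_lit 4) (Steps.fwd (nat_lit 4096) (Steps.bwd (nat_lit 3) (Steps.fwd (nat_lit 8192) (Steps.bwd (nat_lit 4) (Steps.fwd (nat_lit 4096) (Steps.fwd (nat_lit 16384) (Steps.bwd (nat_lit 1) (Steps.fwd (nat_lit 12288) (Steps.bwd (nat_lit 2) (Steps.bwd (nat_lit 3) Steps.nil))))))))))) (nat_lit 9) (nat_lit 0),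
  Rule.mk (nat_lit 14) (nat_lit 102) (Steps.bwd (nat_lit 8) (Steps.fwd (nat_lit 49152) (Steps.fwd (nat_lit 49152) (Steps.fwd (nat_lit 4096) (Steps.fwd (nat_lit 49152) (Steps.bwd (nat_lit 1) Steps.nil)))))) (nat_lit 44) (nat_lit 4),
  Rule.mk (nat_lit 11) (nat_lit 117) (Steps.bwd (nat_lit 14) (Steps.fwd (nat_lit 28672) (Steps.fwd (nat_lit 53248) (Steps.fwd (nat_lit 12288) (Steps.bwd (nat_lit 10) (Steps.bwd (nat_lit 3) (Steps.bwd (nat_lit 9) Steps.nil))))))) (nat_lit 51) (nat_lit 2),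
  Rule.mk (nat_lit 13) (nat_lit 117) (Steps.bwd (nat_lit 7) (Steps.fwd (nat_lit 57344) (Steps.bwd (nat_lit 12) (Steps.bwd (nat_lit 10) (Steps.fwd (nat_lit 12288) (Steps.fwd (nat_lit 40960) (Steps.fwd (nat_lit 16384) Steps.nil))))))) (nat_lit 50) (nat_lit 4),
  Rule.mk (nat_lit 3) (nat_lit 117) (Steps.bwd (nat_lit 1) (Steps.bwd (nat_lit 3) (Steps.fwd (nat_lit 8192) (Steps.bwd (nat_lit 3) (Steps.fwd (nat_lit 8192) (Steps.fwd (nat_lit 16384) (Steps.fwd (nat_lit 8192) Steps.nil))))))) (nat_lit 4) (nat_lit 0),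
  Rule.mk (nat_lit 14) (nat_lit 132) (Steps.bwd (nat_lit 1) (Steps.bwd (nat_lit 7) (Steps.fwd (nat_lit 36864) (Steps.bwd (nat_lit 12) (Steps.fwd (nat_lit 57344) (Steps.bwd (nat_lit 7) (Steps.bwd (nat_lit 13) (Steps.bwd (nat_lit 2) Steps.nil)))))))) (nat_lit 47) (nat_lit 8),
  Rule.mk (nat_lit 8) (nat_lit 132) (Steps.bwd (nat_lit 2) (Steps.bwd (nat_lit 13) (Steps.fwd (nat_lit 8192) (Steps.bwd (nat_lit 14) (Steps.fwd (nat_lit 28672) (Steps.bwd (nat_lit 14) (Steps.fwd (nat_lit 49152) (Steps.bwd (nat_lit 9) Steps.nil)))))))) (nat_lit 46) (nat_lit 0),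
  Rule.mk (nat_lit 11) (nat_lit 102) (Steps.bwd (nat_lit 11) (Steps.bwd (nat_lit 2) (Steps.fwd (nat_lit 49152) (Steps.bwd (nat_lit 1) (Steps.bwd (nat_lit 14) (Steps.bwd (nat_lit 8) Steps.nil)))))) (nat_lit 44) (nat_lit 6),
  Rule.mk (nat_lit 11) (nat_lit 102) (Steps.bwd (nat_lit 11) (Steps.bwd (nat_lit 2) (Steps.bwd (nat_lit 11) (Steps.fwd (nat_lit 8192) (Steps.fwd (nat_lit 53248) (Steps.fwd (nat_lit 28672) Steps.nil)))))) (nat_lit 44) (nat_lit 6),
  Rule.mk (nat_lit 7) (nat_lit 132) (Steps.bwd (nat_lit 10) (Steps.fwd (nat_lit 45056) (Steps.fwd (nat_lit 57344) (Steps.fwd (nat_lit 32768) (Steps.fwd (nat_lit 57344) (Steps.bwd (nat_lit 2) (Steps.fwd (nat_lit 53248) (Steps.fwd (nat_lit 8192) Steps.nil)))))))) (nat_lit 47) (nat_lit 1),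
  Rule.mk (nat_lit 4) (nat_lit 117) (Steps.bwd (nat_lit 9) (Steps.fwd (nat_lit 16384) (Steps.bwd (nat_lit 13) (Steps.bwd (nat_lit 7) (Steps.bwd (nat_lit 13) (Steps.fwd (nat_lit 45056) (Steps.fwd (nat_lit 36864) Steps.nil))))))) (nat_lit 50) (nat_lit 1),
  Rule.mk (nat_lit 9) (nat_lit 117) (Steps.bwd (nat_lit 3) (Steps.fwd (nat_lit 57344) (Steps.bwd (nat_lit 7) (Steps.bwd (nat_lit 13) (Steps.fwd (nat_lit 45056) (Steps.bwd (nat_lit 10) (Steps.bwd (nat_lit 4) Steps.nil))))))) (nat_lit 50) (nat_lit 2),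
  Rule.mk (nat_lit 8) (nat_lit 87) (Steps.fwd (nat_lit 49152) (Steps.fwd (nat_lit 32768) (Steps.fwd (nat_lit 61440) (Steps.bwd (nat_lit 16) (Steps.bwd (nat_lit 12) Steps.nil))))) (nat_lit 33) (nat_lit 4),
  Rule.mk (nat_lit 12) (nat_lit 87) (Steps.bwd (nat_lit 7) (Steps.fwd (nat_lit 49152) (Steps.bwd (nat_lit 15) (Steps.fwd (nat_lit 65536) (Steps.bwd (nat_lit 8) Steps.nil))))) (nat_lit 32) (nat_lit 2),
  Rule.mk (nat_lit 3) (nat_lit 117) (Steps.bwd (nat_lit 7) (Steps.fwd (nat_lit 32768) (Steps.bwd (nat_lit 13) (Steps.fwd (nat_lit 45056) (Steps.fwd (nat_lit 45056) (Steps.bwd (nat_lit 4) (Steps.bwd (nat_lit 12) Steps.nil))))))) (nat_lit 53) (nat_lit 0),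
  Rule.mk (nat_lit 1) (nat_lit 87) (Steps.fwd (nat_lit 8192) (Steps.fwd (nat_lit 12288) (Steps.bwd (nat_lit 2) (Steps.fwd (nat_lit 4096) (Steps.bwd (nat_lit 3) Steps.nil))))) (nat_lit 7) (nat_lit 5),
  Rule.mk (nat_lit 4) (nat_lit 117) (Steps.fwd (nat_lit 36864) (Steps.bwd (nat_lit 3) (Steps.fwd (nat_lit 40960) (Steps.fwd (nat_lit 49152) (Steps.fwd (nat_lit 53248) (Steps.fwd (nat_lit 28672) (Steps.bwd (nat_lit 14) Steps.nil))))))) (nat_lit 51) (nat_lit 6),
  Rule.mk (nat_lit 2) (nat_lit 87) (Steps.bwd (nat_lit 4) (Steps.bwd (nat_lit 1) (Steps.bwd (nat_lit 1) (Steps.bwd (nat_lit 3) (Steps.fwd (nat_lit 4096) Steps.nil))))) (nat_lit 6) (nat_lit 2),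
  Rule.mk (nat_lit 14) (nat_lit 132) (Steps.fwd (nat_lit 8192) (Steps.bwd (nat_lit 7) (Steps.bwd (nat_lit 10) (Steps.bwd (nat_lit 12) (Steps.bwd (nat_lit 13) (Steps.fwd (nat_lit 32768) (Steps.bwd (nat_lit 13) (Steps.bwd (nat_lit 2) Steps.nil)))))))) (nat_lit 47) (nat_lit 8),
  Rule.mk (nat_lit 2) (nat_lit 117) (Steps.bwd (nat_lit 2) (Steps.fwd (nat_lit 4096) (Steps.bwd (nat_lit 2) (Steps.fwd (nat_lit 4096) (Steps.bwd (nat_lit 2) (Steps.fwd (nat_lit 4096) (Steps.bwd (nat_lit 2) Steps.nil))))))) (nat_lit 1) (nat_lit 0)]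
noncomputable def R_53 : List (Rule) := [Rule.mk (nat_lit 14) (nat_lit 132) (Steps.bwd (nat_lit 1) (Steps.fwd (nat_lit 32768) (Steps.fwd (nat_lit 36864) (Steps.fwd (nat_lit 45056) (Steps.fwd (nat_lit 57344) (Steps.fwd (nat_lit 32768) (Steps.fwd (nat_lit 57344) (Steps.bwd (nat_lit 2) Steps.nil)))))))) (nat_lit 47) (nat_lit 8),
  Rule.mk (nat_lit 4) (nat_lit 117) (Steps.bwd (nat_lit 2) (Steps.fwd (nat_lit 12288) (Steps.fwd (nat_lit 4096) (Steps.fwd (nat_lit 12288) (Steps.bwd (nat_lit 2) (Steps.bwd (nat_lit 4) (Steps.bwd (nat_lit 2) Steps.nil))))))) (nat_lit 5) (nat_lit 1),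
  Rule.mk (nat_lit 2) (nat_lit 132) (Steps.bwd (nat_lit 13) (Steps.bwd (nat_lit 1) (Steps.fwd (nat_lit 53248) (Steps.fwd (nat_lit 28672) (Steps.fwd (nat_lit 53248) (Steps.bwd (nat_lit 11) (Steps.bwd (nat_lit 9) (Steps.bwd (nat_lit 8) Steps.nil)))))))) (nat_lit 46) (nat_lit 1),
  Rule.mk (nat_lit 14) (nat_lit 132) (Steps.fwd (nat_lit 8192) (Steps.fwd (nat_lit 32768) (Steps.bwd (nat_lit 10) (Steps.bwd (nat_lit 12) (Steps.fwd (nat_lit 57344) (Steps.bwd (nat_lit 7) (Steps.bwd (nat_lit 13) (Steps.bwd (nat_lit 2) Steps.nil)))))))) (nat_lit 47) (nat_lit 8),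
  Rule.mk (nat_lit 11) (nat_lit 117) (Steps.bwd (nat_lit 14) (Steps.fwd (nat_lit 28672) (Steps.fwd (nat_lit 53248) (Steps.fwd (nat_lit 12288) (Steps.fwd (nat_lit 36864) (Steps.bwd (nat_lit 3) (Steps.bwd (nat_lit 9) Steps.nil))))))) (nat_lit 51) (nat_lit 2),
  Rule.mk (nat_lit 2) (nat_lit 132) (Steps.bwd (nat_lit 14) (Steps.fwd (nat_lit 8192) (Steps.fwd (nat_lit 32768) (Steps.bwd (nat_lit 10) (Steps.fwd (nat_lit 45056) (Steps.fwd (nat_lit 57344) (Steps.fwd (nat_lit 32768) (Steps.fwd (nat_lit 57344) Steps.nil)))))))) (nat_lit 47) (nat_lit 7),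
  Rule.mk (nat_lit 9) (nat_lit 117) (Steps.fwd (nat_lit 49152) (Steps.fwd (nat_lit 53248) (Steps.fwd (nat_lit 28672) (Steps.bwd (nat_lit 14) (Steps.bwd (nat_lit 4) (Steps.bwd (nat_lit 10) (Steps.bwd (nat_lit 3) Steps.nil))))))) (nat_lit 51) (nat_lit 1),
  Rule.mk (nat_lit 7) (nat_lit 117) (Steps.bwd (nat_lit 7) (Steps.fwd (nat_lit 57344) (Steps.fwd (nat_lit 45056) (Steps.fwd (nat_lit 45056) (Steps.bwd (nat_lit 4) (Steps.fwd (nat_lit 45056) (Steps.bwd (nat_lit 3) Steps.nil))))))) (nat_lit 53) (nat_lit 1),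
  Rule.mk (nat_lit 2) (nat_lit 132) (Steps.bwd (nat_lit 13) (Steps.fwd (nat_lit 8192) (Steps.bwd (nat_lit 14) (Steps.bwd (nat_lit 8) (Steps.bwd (nat_lit 14) (Steps.fwd (nat_lit 49152) (Steps.fwd (nat_lit 40960) (Steps.fwd (nat_lit 28672) Steps.nil)))))))) (nat_lit 46) (nat_lit 1),
  Rule.mk (nat_lit 14) (nat_lit 132) (Steps.fwd (nat_lit 8192) (Steps.bwd (nat_lit 7) (Steps.bwd (nat_lit 10) (Steps.bwd (nat_lit 12) (Steps.bwd (nat_lit 13) (Steps.fwd (nat_lit 32768) (Steps.fwd (nat_lit 57344) (Steps.bwd (nat_lit 2) Steps.nil)))))))) (nat_lit 47) (nat_lit 8),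
  Rule.mk (nat_lit 2) (nat_lit 117) (Steps.bwd (nat_lit 4) (Steps.fwd (nat_lit 4096) (Steps.bwd (nat_lit 4) (Steps.fwd (nat_lit 4096) (Steps.fwd (nat_lit 12288) (Steps.fwd (nat_lit 4096) (Steps.bwd (nat_lit 4) Steps.nil))))))) (nat_lit 5) (nat_lit 0),
  Rule.mk (nat_lit 1) (nat_lit 177) (Steps.bwd (nat_lit 4) (Steps.fwd (nat_lit 4096) (Steps.fwd (nat_lit 16384) (Steps.fwd (nat_lit 8192) (Steps.fwd (nat_lit 12288) (Steps.fwd (nat_lit 4096) (Steps.fwd (nat_lit 16384) (Steps.fwd (nat_lit 8192) (Steps.bwd (nat_lit 4) (Steps.bwd (nat_lit 2) (Steps.bwd (nat_lit 3) Steps.nil))))))))))) (nat_lit 9) (nat_lit 0),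
  Rule.mk (nat_lit 16) (nat_lit 72) (Steps.bwd (nat_lit 16) (Steps.fwd (nat_lit 4096) (Steps.fwd (nat_lit 65536) (Steps.bwd (nat_lit 1) Steps.nil)))) (nat_lit 48) (nat_lit 4),
  Rule.mk (nat_lit 14) (nat_lit 102) (Steps.fwd (nat_lit 28672) (Steps.bwd (nat_lit 11) (Steps.bwd (nat_lit 11) (Steps.fwd (nat_lit 4096) (Steps.fwd (nat_lit 49152) (Steps.bwd (nat_lit 1) Steps.nil)))))) (nat_lit 44) (nat_lit 4),
  Rule.mk (nat_lit 1) (nat_lit 132) (Steps.bwd (nat_lit 14) (Steps.fwd (nat_lit 28672) (Steps.fwd (nat_lit 53248) (Steps.fwd (nat_lit 49152) (Steps.bwd (nat_lit 9) (Steps.fwd (nat_lit 28672) (Steps.bwd (nat_lit 2) (Steps.bwd (nat_lit 13) Steps.nil)))))))) (nat_lit 46) (nat_lit 3),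
  Rule.mk (nat_lit 12) (nat_lit 117) (Steps.bwd (nat_lit 3) (Steps.bwd (nat_lit 7) (Steps.fwd (nat_lit 32768) (Steps.fwd (nat_lit 57344) (Steps.fwd (nat_lit 45056) (Steps.bwd (nat_lit 12) (Steps.bwd (nat_lit 4) Steps.nil))))))) (nat_lit 53) (nat_lit 7),
  Rule.mk (nat_lit 12) (nat_lit 102) (Steps.fwd (nat_lit 32768) (Steps.fwd (nat_lit 57344) (Steps.fwd (nat_lit 4096) (Steps.fwd (nat_lit 45056) (Steps.bwd (nat_lit 1) (Steps.bwd (nat_lit 12) Steps.nil)))))) (nat_lit 45) (nat_lit 2),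
  Rule.mk (nat_lit 4) (nat_lit 117) (Steps.bwd (nat_lit 2) (Steps.bwd (nat_lit 4) (Steps.bwd (nat_lit 2) (Steps.fwd (nat_lit 12288) (Steps.fwd (nat_lit 4096) (Steps.fwd (nat_lit 12288) (Steps.fwd (nat_lit 4096) Steps.nil))))))) (nat_lit 5) (nat_lit 1),
  Rule.mk (nat_lit 13) (nat_lit 132) (Steps.bwd (nat_lit 2) (Steps.fwd (nat_lit 53248) (Steps.bwd (nat_lit 1) (Steps.bwd (nat_lit 7) (Steps.fwd (nat_lit 36864) (Steps.fwd (nat_lit 45056) (Steps.bwd (nat_lit 13) (Steps.bwd (nat_lit 7) Steps.nil)))))))) (nat_lit 47) (nat_lit 6),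
  Rule.mk (nat_lit 12) (nat_lit 117) (Steps.bwd (nat_lit 3) (Steps.fwd (nat_lit 32768) (Steps.fwd (nat_lit 32768) (Steps.bwd (nat_lit 13) (Steps.fwd (nat_lit 45056) (Steps.bwd (nat_lit 12) (Steps.bwd (nat_lit 4) Steps.nil))))))) (nat_lit 53) (nat_lit 7),
  Rule.mk (nat_lit 2) (nat_lit 132) (Steps.bwd (nat_lit 13) (Steps.fwd (nat_lit 8192) (Steps.fwd (nat_lit 53248) (Steps.bwd (nat_lit 8) (Steps.fwd (nat_lit 53248) (Steps.bwd (nat_lit 11) (Steps.fwd (nat_lit 40960) (Steps.bwd (nat_lit 8) Steps.nil)))))))) (nat_lit 46) (nat_lit 1),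
  Rule.mk (nat_lit 13) (nat_lit 117) (Steps.fwd (nat_lit 32768) (Steps.bwd (nat_lit 13) (Steps.bwd (nat_lit 12) (Steps.bwd (nat_lit 10) (Steps.fwd (nat_lit 12288) (Steps.fwd (nat_lit 40960) (Steps.bwd (nat_lit 3) Steps.nil))))))) (nat_lit 50) (nat_lit 4),
  Rule.mk (nat_lit 11) (nat_lit 117) (Steps.bwd (nat_lit 11) (Steps.bwd (nat_lit 14) (Steps.fwd (nat_lit 28672) (Steps.bwd (nat_lit 8) (Steps.fwd (nat_lit 12288) (Steps.fwd (nat_lit 49152) (Steps.bwd (nat_lit 3) Steps.nil))))))) (nat_lit 52) (nat_lit 4),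
  Rule.mk (nat_lit 4) (nat_lit 117) (Steps.bwd (nat_lit 11) (Steps.bwd (nat_lit 3) (Steps.fwd (nat_lit 49152) (Steps.bwd (nat_lit 11) (Steps.fwd (nat_lit 53248) (Steps.bwd (nat_lit 8) (Steps.fwd (nat_lit 28672) Steps.nil))))))) (nat_lit 52) (nat_lit 1),
  Rule.mk (nat_lit 11) (nat_lit 117) (Steps.bwd (nat_lit 14) (Steps.bwd (nat_lit 8) (Steps.fwd (nat_lit 53248) (Steps.fwd (nat_lit 12288) (Steps.fwd (nat_lit 36864) (Steps.fwd (nat_lit 16384) (Steps.fwd (nat_lit 40960) Steps.nil))))))) (nat_lit 51) (nat_lit 2),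
  Rule.mk (nat_lit 14) (nat_lit 117) (Steps.bwd (nat_lit 4) (Steps.bwd (nat_lit 10) (Steps.fwd (nat_lit 16384) (Steps.fwd (nat_lit 40960) (Steps.bwd (nat_lit 11) (Steps.bwd (nat_lit 14) (Steps.bwd (nat_lit 8) Steps.nil))))))) (nat_lit 51) (nat_lit 5),
  Rule.mk (nat_lit 1) (nat_lit 132) (Steps.fwd (nat_lit 32768) (Steps.bwd (nat_lit 10) (Steps.fwd (nat_lit 45056) (Steps.bwd (nat_lit 13) (Steps.bwd (nat_lit 7) (Steps.fwd (nat_lit 57344) (Steps.fwd (nat_lit 4096) (Steps.bwd (nat_lit 14) Steps.nil)))))))) (nat_lit 47) (nat_lit 0),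
  Rule.mk (nat_lit 13) (nat_lit 132) (Steps.bwd (nat_lit 1) (Steps.bwd (nat_lit 14) (Steps.bwd (nat_lit 8) (Steps.bwd (nat_lit 14) (Steps.bwd (nat_lit 11) (Steps.fwd (nat_lit 40960) (Steps.bwd (nat_lit 8) (Steps.bwd (nat_lit 2) Steps.nil)))))))) (nat_lit 46) (nat_lit 2),
  Rule.mk (nat_lit 3) (nat_lit 117) (Steps.bwd (nat_lit 9) (Steps.bwd (nat_lit 11) (Steps.fwd (nat_lit 53248) (Steps.bwd (nat_lit 8) (Steps.fwd (nat_lit 53248) (Steps.bwd (nat_lit 4) (Steps.bwd (nat_lit 10) Steps.nil))))))) (nat_lit 51) (nat_lit 0),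
  Rule.mk (nat_lit 10) (nat_lit 117) (Steps.fwd (nat_lit 16384) (Steps.fwd (nat_lit 40960) (Steps.bwd (nat_lit 11) (Steps.bwd (nat_lit 14) (Steps.bwd (nat_lit 8) (Steps.fwd (nat_lit 53248) (Steps.bwd (nat_lit 4) Steps.nil))))))) (nat_lit 51) (nat_lit 7),
  Rule.mk (nat_lit 10) (nat_lit 117) (Steps.bwd (nat_lit 3) (Steps.fwd (nat_lit 40960) (Steps.bwd (nat_lit 11) (Steps.bwd (nat_lit 14) (Steps.bwd (nat_lit 8) (Steps.bwd (nat_lit 14) (Steps.bwd (nat_lit 4) Steps.nil))))))) (nat_lit 51) (nat_lit 7),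
  Rule.mk (nat_lit 15) (nat_lit 87) (Steps.bwd (nat_lit 14) (Steps.bwd (nat_lit 8) (Steps.fwd (nat_lit 57344) (Steps.bwd (nat_lit 7) (Steps.bwd (nat_lit 15) Steps.nil))))) (nat_lit 35) (nat_lit 2),
  Rule.mk (nat_lit 1) (nat_lit 132) (Steps.bwd (nat_lit 14) (Steps.bwd (nat_lit 8) (Steps.bwd (nat_lit 14) (Steps.bwd (nat_lit 11) (Steps.fwd (nat_lit 40960) (Steps.fwd (nat_lit 28672) (Steps.bwd (nat_lit 2) (Steps.fwd (nat_lit 57344) Steps.nil)))))))) (nat_lit 46) (nat_lit 3),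
  Rule.mk (nat_lit 8) (nat_lit 117) (Steps.bwd (nat_lit 4) (Steps.fwd (nat_lit 49152) (Steps.bwd (nat_lit 3) (Steps.bwd (nat_lit 11) (Steps.fwd (nat_lit 49152) (Steps.fwd (nat_lit 53248) (Steps.fwd (nat_lit 28672) Steps.nil))))))) (nat_lit 52) (nat_lit 0),
  Rule.mk (nat_lit 14) (nat_lit 117) (Steps.bwd (nat_lit 4) (Steps.bwd (nat_lit 10) (Steps.fwd (nat_lit 16384) (Steps.fwd (nat_lit 40960) (Steps.fwd (nat_lit 49152) (Steps.bwd (nat_lit 14) (Steps.fwd (nat_lit 28672) Steps.nil))))))) (nat_lit 51) (nat_lit 5),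
  Rule.mk (nat_lit 9) (nat_lit 132) (Steps.bwd (nat_lit 8) (Steps.bwd (nat_lit 2) (Steps.bwd (nat_lit 13) (Steps.bwd (nat_lit 1) (Steps.bwd (nat_lit 14) (Steps.fwd (nat_lit 28672) (Steps.fwd (nat_lit 53248) (Steps.bwd (nat_lit 11) Steps.nil)))))))) (nat_lit 46) (nat_lit 8),
  Rule.mk (nat_lit 4) (nat_lit 117) (Steps.fwd (nat_lit 36864) (Steps.fwd (nat_lit 16384) (Steps.bwd (nat_lit 9) (Steps.fwd (nat_lit 49152) (Steps.fwd (nat_lit 53248) (Steps.bwd (nat_lit 8) (Steps.bwd (nat_lit 14) Steps.nil))))))) (nat_lit 51) (nat_lit 6),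
  Rule.mk (nat_lit 1) (nat_lit 132) (Steps.fwd (nat_lit 32768) (Steps.bwd (nat_lit 10) (Steps.bwd (nat_lit 12) (Steps.fwd (nat_lit 57344) (Steps.fwd (nat_lit 32768) (Steps.fwd (nat_lit 57344) (Steps.bwd (nat_lit 2) (Steps.bwd (nat_lit 14) Steps.nil)))))))) (nat_lit 47) (nat_lit 0),
  Rule.mk (nat_lit 9) (nat_lit 132) (Steps.bwd (nat_lit 8) (Steps.bwd (nat_lit 2) (Steps.fwd (nat_lit 57344) (Steps.bwd (nat_lit 1) (Steps.bwd (nat_lit 14) (Steps.bwd (nat_lit 8) (Steps.bwd (nat_lit 14) (Steps.fwd (nat_lit 49152) Steps.nil)))))))) (nat_lit 46) (nat_lit 8),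
  Rule.mk (nat_lit 11) (nat_lit 102) (Steps.bwd (nat_lit 1) (Steps.fwd (nat_lit 53248) (Steps.fwd (nat_lit 28672) (Steps.fwd (nat_lit 49152) (Steps.bwd (nat_lit 11) (Steps.fwd (nat_lit 4096) Steps.nil)))))) (nat_lit 44) (nat_lit 2),
  Rule.mk (nat_lit 13) (nat_lit 132) (Steps.bwd (nat_lit 1) (Steps.fwd (nat_lit 53248) (Steps.fwd (nat_lit 28672) (Steps.fwd (nat_lit 53248) (Steps.fwd (nat_lit 49152) (Steps.bwd (nat_lit 9) (Steps.fwd (nat_lit 28672) (Steps.fwd (nat_lit 4096) Steps.nil)))))))) (nat_lit 46) (nat_lit 2),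
  Rule.mk (nat_lit 2) (nat_lit 132) (Steps.bwd (nat_lit 14) (Steps.fwd (nat_lit 8192) (Steps.fwd (nat_lit 32768) (Steps.bwd (nat_lit 10) (Steps.fwd (nat_lit 45056) (Steps.bwd (nat_lit 13) (Steps.bwd (nat_lit 7) (Steps.bwd (nat_lit 13) Steps.nil)))))))) (nat_lit 47) (nat_lit 7),
  Rule.mk (nat_lit 13) (nat_lit 117) (Steps.fwd (nat_lit 32768) (Steps.fwd (nat_lit 57344) (Steps.fwd (nat_lit 45056) (Steps.fwd (nat_lit 36864) (Steps.fwd (nat_lit 12288) (Steps.fwd (nat_lit 40960) (Steps.bwd (nat_lit 3) Steps.nil))))))) (nat_lit 50) (nat_lit 4),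
  Rule.mk (nat_lit 3) (nat_lit 117) (Steps.bwd (nat_lit 7) (Steps.bwd (nat_lit 7) (Steps.bwd (nat_lit 13) (Steps.bwd (nat_lit 12) (Steps.bwd (nat_lit 12) (Steps.bwd (nat_lit 4) (Steps.fwd (nat_lit 45056) Steps.nil))))))) (nat_lit 53) (nat_lit 0),
  Rule.mk (nat_lit 11) (nat_lit 117) (Steps.bwd (nat_lit 14) (Steps.fwd (nat_lit 28672) (Steps.fwd (nat_lit 53248) (Steps.bwd (nat_lit 4) (Steps.bwd (nat_lit 10) (Steps.fwd (nat_lit 16384) (Steps.bwd (nat_lit 9) Steps.nil))))))) (nat_lit 51) (nat_lit 2),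
  Rule.mk (nat_lit 2) (nat_lit 132) (Steps.bwd (nat_lit 14) (Steps.fwd (nat_lit 8192) (Steps.fwd (nat_lit 32768) (Steps.fwd (nat_lit 36864) (Steps.bwd (nat_lit 12) (Steps.bwd (nat_lit 13) (Steps.bwd (nat_lit 7) (Steps.bwd (nat_lit 13) Steps.nil)))))))) (nat_lit 47) (nat_lit 7),
  Rule.mk (nat_lit 11) (nat_lit 102) (Steps.bwd (nat_lit 2) (Steps.fwd (nat_lit 49152) (Steps.bwd (nat_lit 1) (Steps.fwd (nat_lit 53248) (Steps.fwd (nat_lit 28672) (Steps.fwd (nat_lit 49152) Steps.nil)))))) (nat_lit 44) (nat_lit 0),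
  Rule.mk (nat_lit 13) (nat_lit 132) (Steps.bwd (nat_lit 2) (Steps.bwd (nat_lit 14) (Steps.fwd (nat_lit 8192) (Steps.fwd (nat_lit 32768) (Steps.fwd (nat_lit 36864) (Steps.fwd (nat_lit 45056) (Steps.bwd (nat_lit 13) (Steps.fwd (nat_lit 32768) Steps.nil)))))))) (nat_lit 47) (nat_lit 6),
  Rule.mk (nat_lit 10) (nat_lit 117) (Steps.bwd (nat_lit 4) (Steps.bwd (nat_lit 9) (Steps.fwd (nat_lit 16384) (Steps.fwd (nat_lit 57344) (Steps.bwd (nat_lit 7) (Steps.fwd (nat_lit 57344) (Steps.bwd (nat_lit 12) Steps.nil))))))) (nat_lit 50) (nat_lit 0),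
  Rule.mk (nat_lit 14) (nat_lit 117) (Steps.bwd (nat_lit 4) (Steps.bwd (nat_lit 10) (Steps.fwd (nat_lit 16384) (Steps.fwd (nat_lit 40960) (Steps.bwd (nat_lit 11) (Steps.fwd (nat_lit 53248) (Steps.bwd (nat_lit 8) Steps.nil))))))) (nat_lit 51) (nat_lit 5),
  Rule.mk (nat_lit 8) (nat_lit 117) (Steps.bwd (nat_lit 4) (Steps.fwd (nat_lit 49152) (Steps.bwd (nat_lit 3) (Steps.fwd (nat_lit 49152) (Steps.fwd (nat_lit 49152) (Steps.fwd (nat_lit 53248) (Steps.bwd (nat_lit 8) Steps.nil))))))) (nat_lit 52) (nat_lit 0),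
  Rule.mk (nat_lit 8) (nat_lit 117) (Steps.bwd (nat_lit 8) (Steps.fwd (nat_lit 12288) (Steps.bwd (nat_lit 11) (Steps.fwd (nat_lit 16384) (Steps.fwd (nat_lit 49152) (Steps.bwd (nat_lit 11) (Steps.bwd (nat_lit 14) Steps.nil))))))) (nat_lit 52) (nat_lit 7),
  Rule.mk (nat_lit 1) (nat_lit 102) (Steps.bwd (nat_lit 12) (Steps.bwd (nat_lit 12) (Steps.fwd (nat_lit 32768) (Steps.fwd (nat_lit 57344) (Steps.fwd (nat_lit 4096) (Steps.fwd (nat_lit 45056) Steps.nil)))))) (nat_lit 45) (nat_lit 0),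
  Rule.mk (nat_lit 12) (nat_lit 117) (Steps.bwd (nat_lit 12) (Steps.fwd (nat_lit 12288) (Steps.bwd (nat_lit 12) (Steps.bwd (nat_lit 3) (Steps.bwd (nat_lit 7) (Steps.bwd (nat_lit 7) (Steps.bwd (nat_lit 13) Steps.nil))))))) (nat_lit 53) (nat_lit 4),
  Rule.mk (nat_lit 13) (nat_lit 117) (Steps.bwd (nat_lit 12) (Steps.bwd (nat_lit 12) (Steps.fwd (nat_lit 12288) (Steps.bwd (nat_lit 12) (Steps.bwd (nat_lit 3) (Steps.fwd (nat_lit 32768) (Steps.bwd (nat_lit 7) Steps.nil))))))) (nat_lit 53) (nat_lit 3),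
  Rule.mk (nat_lit 7) (nat_lit 132) (Steps.bwd (nat_lit 10) (Steps.bwd (nat_lit 12) (Steps.bwd (nat_lit 13) (Steps.fwd (nat_lit 32768) (Steps.fwd (nat_lit 57344) (Steps.bwd (nat_lit 2) (Steps.bwd (nat_lit 14) (Steps.bwd (nat_lit 1) Steps.nil)))))))) (nat_lit 47) (nat_lit 1),
  Rule.mk (nat_lit 14) (nat_lit 117) (Steps.bwd (nat_lit 8) (Steps.fwd (nat_lit 53248) (Steps.bwd (nat_lit 4) (Steps.bwd (nat_lit 10) (Steps.bwd (nat_lit 3) (Steps.fwd (nat_lit 40960) (Steps.bwd (nat_lit 11) Steps.nil))))))) (nat_lit 51) (nat_lit 3),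
  Rule.mk (nat_lit 11) (nat_lit 117) (Steps.fwd (nat_lit 53248) (Steps.fwd (nat_lit 28672) (Steps.bwd (nat_lit 8) (Steps.bwd (nat_lit 4) (Steps.bwd (nat_lit 11) (Steps.bwd (nat_lit 3) (Steps.bwd (nat_lit 11) Steps.nil))))))) (nat_lit 52) (nat_lit 5),
  Rule.mk (nat_lit 1) (nat_lit 117) (Steps.bwd (nat_lit 3) (Steps.fwd (nat_lit 8192) (Steps.bwd (nat_lit 3) (Steps.fwd (nat_lit 8192) (Steps.bwd (nat_lit 3) (Steps.fwd (nat_lit 8192) (Steps.bwd (nat_lit 3) Steps.nil))))))) (nat_lit 4) (nat_lit 1),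
  Rule.mk (nat_lit 10) (nat_lit 117) (Steps.bwd (nat_lit 3) (Steps.fwd (nat_lit 40960) (Steps.bwd (nat_lit 11) (Steps.fwd (nat_lit 53248) (Steps.bwd (nat_lit 8) (Steps.fwd (nat_lit 53248) (Steps.bwd (nat_lit 4) Steps.nil))))))) (nat_lit 51) (nat_lit 7),
  Rule.mk (nat_lit 2) (nat_lit 132) (Steps.bwd (nat_lit 14) (Steps.bwd (nat_lit 1) (Steps.bwd (nat_lit 7) (Steps.bwd (nat_lit 10) (Steps.fwd (nat_lit 45056) (Steps.bwd (nat_lit 13) (Steps.bwd (nat_lit 7) (Steps.bwd (nat_lit 13) Steps.nil)))))))) (nat_lit 47) (nat_lit 7),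
  Rule.mk (nat_lit 11) (nat_lit 102) (Steps.bwd (nat_lit 1) (Steps.fwd (nat_lit 53248) (Steps.fwd (nat_lit 28672) (Steps.fwd (nat_lit 49152) (Steps.bwd (nat_lit 11) (Steps.bwd (nat_lit 2) Steps.nil)))))) (nat_lit 44) (nat_lit 2),
  Rule.mk (nat_lit 12) (nat_lit 102) (Steps.bwd (nat_lit 1) (Steps.fwd (nat_lit 45056) (Steps.bwd (nat_lit 12) (Steps.fwd (nat_lit 32768) (Steps.bwd (nat_lit 13) (Steps.bwd (nat_lit 2) Steps.nil)))))) (nat_lit 45) (nat_lit 6),
  Rule.mk (nat_lit 3) (nat_lit 117) (Steps.bwd (nat_lit 13) (Steps.fwd (nat_lit 32768) (Steps.fwd (nat_lit 57344) (Steps.bwd (nat_lit 12) (Steps.fwd (nat_lit 36864) (Steps.bwd (nat_lit 4) (Steps.fwd (nat_lit 40960) Steps.nil))))))) (nat_lit 50) (nat_lit 3)]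
noncomputable def R_54 : List (Rule) := [Rule.mk (nat_lit 14) (nat_lit 132) (Steps.bwd (nat_lit 1) (Steps.fwd (nat_lit 32768) (Steps.fwd (nat_lit 36864) (Steps.bwd (nat_lit 12) (Steps.bwd (nat_lit 13) (Steps.bwd (nat_lit 7) (Steps.fwd (nat_lit 57344) (Steps.bwd (nat_lit 2) Steps.nil)))))))) (nat_lit 47) (nat_lit 8),
  Rule.mk (nat_lit 4) (nat_lit 117) (Steps.bwd (nat_lit 10) (Steps.fwd (nat_lit 16384) (Steps.fwd (nat_lit 40960) (Steps.bwd (nat_lit 11) (Steps.bwd (nat_lit 14) (Steps.fwd (nat_lit 28672) (Steps.fwd (nat_lit 53248) Steps.nil))))))) (nat_lit 51) (nat_lit 6),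
  Rule.mk (nat_lit 7) (nat_lit 132) (Steps.bwd (nat_lit 10) (Steps.fwd (nat_lit 45056) (Steps.bwd (nat_lit 13) (Steps.fwd (nat_lit 32768) (Steps.fwd (nat_lit 57344) (Steps.fwd (nat_lit 4096) (Steps.fwd (nat_lit 53248) (Steps.fwd (nat_lit 8192) Steps.nil)))))))) (nat_lit 47) (nat_lit 1),
  Rule.mk (nat_lit 3) (nat_lit 117) (Steps.bwd (nat_lit 9) (Steps.fwd (nat_lit 49152) (Steps.fwd (nat_lit 53248) (Steps.bwd (nat_lit 8) (Steps.bwd (nat_lit 14) (Steps.fwd (nat_lit 12288) (Steps.bwd (nat_lit 10) Steps.nil))))))) (nat_lit 51) (nat_lit 0),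
  Rule.mk (nat_lit 8) (nat_lit 117) (Steps.bwd (nat_lit 4) (Steps.bwd (nat_lit 11) (Steps.bwd (nat_lit 3) (Steps.bwd (nat_lit 11) (Steps.bwd (nat_lit 11) (Steps.fwd (nat_lit 53248) (Steps.fwd (nat_lit 28672) Steps.nil))))))) (nat_lit 52) (nat_lit 0),
  Rule.mk (nat_lit 2) (nat_lit 177) (Steps.bwd (nat_lit 4) (Steps.bwd (nat_lit 1) (Steps.fwd (nat_lit 16384) (Steps.bwd (nat_lit 2) (Steps.fwd (nat_lit 12288) (Steps.fwd (nat_lit 8192) (Steps.bwd (nat_lit 3) (Steps.bwd (nat_lit 2) (Steps.bwd (nat_lit 4) (Steps.bwd (nat_lit 1) (Steps.bwd (nat_lit 3) Steps.nil))))))))))) (nat_lit 8) (nat_lit 1),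
  Rule.mk (nat_lit 10) (nat_lit 117) (Steps.bwd (nat_lit 4) (Steps.fwd (nat_lit 40960) (Steps.fwd (nat_lit 16384) (Steps.fwd (nat_lit 57344) (Steps.fwd (nat_lit 32768) (Steps.bwd (nat_lit 13) (Steps.fwd (nat_lit 45056) Steps.nil))))))) (nat_lit 50) (nat_lit 0),
  Rule.mk (nat_lit 14) (nat_lit 117) (Steps.bwd (nat_lit 8) (Steps.fwd (nat_lit 28672) (Steps.bwd (nat_lit 4) (Steps.bwd (nat_lit 11) (Steps.bwd (nat_lit 3) (Steps.fwd (nat_lit 49152) (Steps.bwd (nat_lit 11) Steps.nil))))))) (nat_lit 52) (nat_lit 6),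
  Rule.mk (nat_lit 9) (nat_lit 132) (Steps.bwd (nat_lit 8) (Steps.fwd (nat_lit 4096) (Steps.fwd (nat_lit 57344) (Steps.bwd (nat_lit 1) (Steps.fwd (nat_lit 53248) (Steps.bwd (nat_lit 8) (Steps.fwd (nat_lit 53248) (Steps.bwd (nat_lit 11) Steps.nil)))))))) (nat_lit 46) (nat_lit 8),
  Rule.mk (nat_lit 11) (nat_lit 117) (Steps.bwd (nat_lit 3) (Steps.fwd (nat_lit 49152) (Steps.bwd (nat_lit 11) (Steps.fwd (nat_lit 53248) (Steps.fwd (nat_lit 28672) (Steps.bwd (nat_lit 8) (Steps.fwd (nat_lit 12288) Steps.nil))))))) (nat_lit 52) (nat_lit 2),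
  Rule.mk (nat_lit 1) (nat_lit 102) (Steps.bwd (nat_lit 14) (Steps.fwd (nat_lit 28672) (Steps.bwd (nat_lit 11) (Steps.fwd (nat_lit 49152) (Steps.bwd (nat_lit 2) (Steps.bwd (nat_lit 11) Steps.nil)))))) (nat_lit 44) (nat_lit 3),
  Rule.mk (nat_lit 11) (nat_lit 117) (Steps.bwd (nat_lit 14) (Steps.fwd (nat_lit 28672) (Steps.fwd (nat_lit 53248) (Steps.fwd (nat_lit 12288) (Steps.bwd (nat_lit 10) (Steps.bwd (nat_lit 3) (Steps.fwd (nat_lit 40960) Steps.nil))))))) (nat_lit 51) (nat_lit 2),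
  Rule.mk (nat_lit 13) (nat_lit 132) (Steps.fwd (nat_lit 8192) (Steps.bwd (nat_lit 14) (Steps.bwd (nat_lit 8) (Steps.fwd (nat_lit 53248) (Steps.bwd (nat_lit 11) (Steps.fwd (nat_lit 40960) (Steps.bwd (nat_lit 8) (Steps.bwd (nat_lit 2) Steps.nil)))))))) (nat_lit 46) (nat_lit 2),
  Rule.mk (nat_lit 9) (nat_lit 132) (Steps.bwd (nat_lit 8) (Steps.fwd (nat_lit 4096) (Steps.fwd (nat_lit 57344) (Steps.bwd (nat_lit 1) (Steps.bwd (nat_lit 14) (Steps.bwd (nat_lit 8) (Steps.bwd (nat_lit 14) (Steps.fwd (nat_lit 49152) Steps.nil)))))))) (nat_lit 46) (nat_lit 8),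
  Rule.mk (nat_lit 3) (nat_lit 117) (Steps.fwd (nat_lit 57344) (Steps.fwd (nat_lit 32768) (Steps.fwd (nat_lit 57344) (Steps.fwd (nat_lit 45056) (Steps.bwd (nat_lit 10) (Steps.fwd (nat_lit 12288) (Steps.bwd (nat_lit 9) Steps.nil))))))) (nat_lit 50) (nat_lit 3),
  Rule.mk (nat_lit 11) (nat_lit 117) (Steps.bwd (nat_lit 3) (Steps.bwd (nat_lit 11) (Steps.bwd (nat_lit 11) (Steps.bwd (nat_lit 14) (Steps.fwd (nat_lit 28672) (Steps.bwd (nat_lit 8) (Steps.fwd (nat_lit 12288) Steps.nil))))))) (nat_lit 52) (nat_lit 2),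
  Rule.mk (nat_lit 10) (nat_lit 117) (Steps.bwd (nat_lit 4) (Steps.fwd (nat_lit 40960) (Steps.bwd (nat_lit 3) (Steps.bwd (nat_lit 13) (Steps.fwd (nat_lit 32768) (Steps.bwd (nat_lit 13) (Steps.bwd (nat_lit 12) Steps.nil))))))) (nat_lit 50) (nat_lit 0),
  Rule.mk (nat_lit 8) (nat_lit 117) (Steps.bwd (nat_lit 4) (Steps.fwd (nat_lit 49152) (Steps.fwd (nat_lit 16384) (Steps.fwd (nat_lit 49152) (Steps.fwd (nat_lit 49152) (Steps.bwd (nat_lit 14) (Steps.bwd (nat_lit 8) Steps.nil))))))) (nat_lit 52) (nat_lit 0),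
  Rule.mk (nat_lit 8) (nat_lit 132) (Steps.bwd (nat_lit 14) (Steps.fwd (nat_lit 49152) (Steps.fwd (nat_lit 40960) (Steps.bwd (nat_lit 8) (Steps.bwd (nat_lit 2) (Steps.fwd (nat_lit 57344) (Steps.fwd (nat_lit 8192) (Steps.bwd (nat_lit 14) Steps.nil)))))))) (nat_lit 46) (nat_lit 5),
  Rule.mk (nat_lit 12) (nat_lit 102) (Steps.bwd (nat_lit 1) (Steps.bwd (nat_lit 12) (Steps.fwd (nat_lit 45056) (Steps.bwd (nat_lit 7) (Steps.fwd (nat_lit 57344) (Steps.bwd (nat_lit 2) Steps.nil)))))) (nat_lit 45) (nat_lit 6),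
  Rule.mk (nat_lit 7) (nat_lit 87) (Steps.bwd (nat_lit 15) (Steps.fwd (nat_lit 65536) (Steps.fwd (nat_lit 53248) (Steps.bwd (nat_lit 8) (Steps.bwd (nat_lit 13) Steps.nil))))) (nat_lit 35) (nat_lit 0),
  Rule.mk (nat_lit 13) (nat_lit 87) (Steps.fwd (nat_lit 61440) (Steps.fwd (nat_lit 61440) (Steps.fwd (nat_lit 28672) (Steps.fwd (nat_lit 53248) (Steps.bwd (nat_lit 7) Steps.nil))))) (nat_lit 34) (nat_lit 4),
  Rule.mk (nat_lit 8) (nat_lit 117) (Steps.bwd (nat_lit 4) (Steps.fwd (nat_lit 49152) (Steps.bwd (nat_lit 3) (Steps.fwd (nat_lit 49152) (Steps.bwd (nat_lit 11) (Steps.fwd (nat_lit 53248) (Steps.fwd (nat_lit 28672) Steps.nil))))))) (nat_lit 52) (nat_lit 0),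
  Rule.mk (nat_lit 2) (nat_lit 117) (Steps.bwd (nat_lit 4) (Steps.fwd (nat_lit 4096) (Steps.fwd (nat_lit 12288) (Steps.bwd (nat_lit 2) (Steps.fwd (nat_lit 12288) (Steps.bwd (nat_lit 2) (Steps.bwd (nat_lit 4) Steps.nil))))))) (nat_lit 5) (nat_lit 0),
  Rule.mk (nat_lit 8) (nat_lit 117) (Steps.bwd (nat_lit 4) (Steps.bwd (nat_lit 11) (Steps.fwd (nat_lit 16384) (Steps.bwd (nat_lit 11) (Steps.fwd (nat_lit 49152) (Steps.bwd (nat_lit 14) (Steps.fwd (nat_lit 28672) Steps.nil))))))) (nat_lit 52) (nat_lit 0),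
  Rule.mk (nat_lit 2) (nat_lit 132) (Steps.bwd (nat_lit 14) (Steps.fwd (nat_lit 8192) (Steps.fwd (nat_lit 32768) (Steps.bwd (nat_lit 10) (Steps.bwd (nat_lit 12) (Steps.fwd (nat_lit 57344) (Steps.fwd (nat_lit 32768) (Steps.bwd (nat_lit 13) Steps.nil)))))))) (nat_lit 47) (nat_lit 7),
  Rule.mk (nat_lit 11) (nat_lit 102) (Steps.fwd (nat_lit 8192) (Steps.fwd (nat_lit 53248) (Steps.bwd (nat_lit 8) (Steps.fwd (nat_lit 49152) (Steps.bwd (nat_lit 11) (Steps.bwd (nat_lit 2) Steps.nil)))))) (nat_lit 44) (nat_lit 2),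
  Rule.mk (nat_lit 4) (nat_lit 117) (Steps.bwd (nat_lit 11) (Steps.fwd (nat_lit 16384) (Steps.bwd (nat_lit 11) (Steps.fwd (nat_lit 49152) (Steps.bwd (nat_lit 14) (Steps.bwd (nat_lit 8) (Steps.fwd (nat_lit 28672) Steps.nil))))))) (nat_lit 52) (nat_lit 1),
  Rule.mk (nat_lit 1) (nat_lit 177) (Steps.bwd (nat_lit 4) (Steps.bwd (nat_lit 2) (Steps.bwd (nat_lit 3) (Steps.fwd (nat_lit 8192) (Steps.bwd (nat_lit 4) (Steps.bwd (nat_lit 2) (Steps.fwd (nat_lit 16384) (Steps.fwd (nat_lit 8192) (Steps.fwd (nat_lit 12288) (Steps.bwd (nat_lit 2) (Steps.bwd (nat_lit 3) Steps.nil))))))))))) (nat_lit 9) (nat_lit 0),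
  Rule.mk (nat_lit 14) (nat_lit 102) (Steps.bwd (nat_lit 8) (Steps.bwd (nat_lit 11) (Steps.fwd (nat_lit 49152) (Steps.fwd (nat_lit 4096) (Steps.bwd (nat_lit 11) (Steps.bwd (nat_lit 1) Steps.nil)))))) (nat_lit 44) (nat_lit 4),
  Rule.mk (nat_lit 11) (nat_lit 102) (Steps.bwd (nat_lit 11) (Steps.bwd (nat_lit 2) (Steps.fwd (nat_lit 49152) (Steps.bwd (nat_lit 1) (Steps.fwd (nat_lit 53248) (Steps.bwd (nat_lit 8) Steps.nil)))))) (nat_lit 44) (nat_lit 6),
  Rule.mk (nat_lit 4) (nat_lit 117) (Steps.bwd (nat_lit 11) (Steps.fwd (nat_lit 16384) (Steps.bwd (nat_lit 11) (Steps.fwd (nat_lit 49152) (Steps.fwd (nat_lit 53248) (Steps.fwd (nat_lit 28672) (Steps.bwd (nat_lit 8) Steps.nil))))))) (nat_lit 52) (nat_lit 1),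
  Rule.mk (nat_lit 14) (nat_lit 132) (Steps.bwd (nat_lit 1) (Steps.fwd (nat_lit 32768) (Steps.bwd (nat_lit 10) (Steps.bwd (nat_lit 12) (Steps.bwd (nat_lit 13) (Steps.fwd (nat_lit 32768) (Steps.bwd (nat_lit 13) (Steps.bwd (nat_lit 2) Steps.nil)))))))) (nat_lit 47) (nat_lit 8),
  Rule.mk (nat_lit 10) (nat_lit 117) (Steps.fwd (nat_lit 16384) (Steps.bwd (nat_lit 9) (Steps.fwd (nat_lit 49152) (Steps.fwd (nat_lit 53248) (Steps.fwd (nat_lit 28672) (Steps.fwd (nat_lit 53248) (Steps.bwd (nat_lit 4) Steps.nil))))))) (nat_lit 51) (nat_lit 7),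
  Rule.mk (nat_lit 4) (nat_lit 117) (Steps.bwd (nat_lit 10) (Steps.fwd (nat_lit 16384) (Steps.bwd (nat_lit 9) (Steps.bwd (nat_lit 11) (Steps.fwd (nat_lit 53248) (Steps.bwd (nat_lit 8) (Steps.fwd (nat_lit 53248) Steps.nil))))))) (nat_lit 51) (nat_lit 6),
  Rule.mk (nat_lit 3) (nat_lit 117) (Steps.bwd (nat_lit 13) (Steps.bwd (nat_lit 7) (Steps.bwd (nat_lit 13) (Steps.bwd (nat_lit 12) (Steps.fwd (nat_lit 36864) (Steps.fwd (nat_lit 12288) (Steps.fwd (nat_lit 40960) Steps.nil))))))) (nat_lit 50) (nat_lit 3),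
  Rule.mk (nat_lit 13) (nat_lit 132) (Steps.bwd (nat_lit 2) (Steps.bwd (nat_lit 14) (Steps.bwd (nat_lit 1) (Steps.fwd (nat_lit 32768) (Steps.bwd (nat_lit 10) (Steps.fwd (nat_lit 45056) (Steps.bwd (nat_lit 13) (Steps.bwd (nat_lit 7) Steps.nil)))))))) (nat_lit 47) (nat_lit 6),
  Rule.mk (nat_lit 1) (nat_lit 132) (Steps.fwd (nat_lit 53248) (Steps.bwd (nat_lit 8) (Steps.bwd (nat_lit 14) (Steps.bwd (nat_lit 11) (Steps.bwd (nat_lit 9) (Steps.fwd (nat_lit 28672) (Steps.bwd (nat_lit 2) (Steps.bwd (nat_lit 13) Steps.nil)))))))) (nat_lit 46) (nat_lit 3),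
  Rule.mk (nat_lit 9) (nat_lit 117) (Steps.bwd (nat_lit 3) (Steps.bwd (nat_lit 13) (Steps.bwd (nat_lit 7) (Steps.bwd (nat_lit 13) (Steps.bwd (nat_lit 12) (Steps.fwd (nat_lit 36864) (Steps.bwd (nat_lit 4) Steps.nil))))))) (nat_lit 50) (nat_lit 2),
  Rule.mk (nat_lit 11) (nat_lit 102) (Steps.bwd (nat_lit 2) (Steps.fwd (nat_lit 49152) (Steps.fwd (nat_lit 8192) (Steps.bwd (nat_lit 14) (Steps.fwd (nat_lit 28672) (Steps.fwd (nat_lit 49152) Steps.nil)))))) (nat_lit 44) (nat_lit 0),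
  Rule.mk (nat_lit 11) (nat_lit 117) (Steps.bwd (nat_lit 3) (Steps.bwd (nat_lit 11) (Steps.bwd (nat_lit 11) (Steps.bwd (nat_lit 14) (Steps.bwd (nat_lit 8) (Steps.bwd (nat_lit 8) (Steps.fwd (nat_lit 12288) Steps.nil))))))) (nat_lit 52) (nat_lit 2),
  Rule.mk (nat_lit 12) (nat_lit 117) (Steps.bwd (nat_lit 3) (Steps.bwd (nat_lit 7) (Steps.fwd (nat_lit 32768) (Steps.fwd (nat_lit 57344) (Steps.bwd (nat_lit 12) (Steps.fwd (nat_lit 45056) (Steps.fwd (nat_lit 12288) Steps.nil))))))) (nat_lit 53) (nat_lit 7),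
  Rule.mk (nat_lit 4) (nat_lit 117) (Steps.bwd (nat_lit 9) (Steps.fwd (nat_lit 16384) (Steps.fwd (nat_lit 57344) (Steps.fwd (nat_lit 32768) (Steps.bwd (nat_lit 13) (Steps.bwd (nat_lit 12) (Steps.bwd (nat_lit 10) Steps.nil))))))) (nat_lit 50) (nat_lit 1),
  Rule.mk (nat_lit 11) (nat_lit 132) (Steps.bwd (nat_lit 9) (Steps.bwd (nat_lit 8) (Steps.bwd (nat_lit 2) (Steps.fwd (nat_lit 57344) (Steps.bwd (nat_lit 1) (Steps.bwd (nat_lit 14) (Steps.fwd (nat_lit 28672) (Steps.fwd (nat_lit 53248) Steps.nil)))))))) (nat_lit 46) (nat_lit 7),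
  Rule.mk (nat_lit 3) (nat_lit 117) (Steps.bwd (nat_lit 13) (Steps.fwd (nat_lit 32768) (Steps.fwd (nat_lit 57344) (Steps.bwd (nat_lit 12) (Steps.bwd (nat_lit 10) (Steps.bwd (nat_lit 4) (Steps.fwd (nat_lit 40960) Steps.nil))))))) (nat_lit 50) (nat_lit 3),
  Rule.mk (nat_lit 14) (nat_lit 117) (Steps.bwd (nat_lit 4) (Steps.fwd (nat_lit 36864) (Steps.bwd (nat_lit 3) (Steps.bwd (nat_lit 9) (Steps.bwd (nat_lit 11) (Steps.bwd (nat_lit 14) (Steps.bwd (nat_lit 8) Steps.nil))))))) (nat_lit 51) (nat_lit 5),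
  Rule.mk (nat_lit 8) (nat_lit 117) (Steps.bwd (nat_lit 4) (Steps.bwd (nat_lit 11) (Steps.fwd (nat_lit 16384) (Steps.fwd (nat_lit 49152) (Steps.bwd (nat_lit 11) (Steps.bwd (nat_lit 14) (Steps.bwd (nat_lit 8) Steps.nil))))))) (nat_lit 52) (nat_lit 0),
  Rule.mk (nat_lit 14) (nat_lit 117) (Steps.bwd (nat_lit 4) (Steps.bwd (nat_lit 10) (Steps.bwd (nat_lit 3) (Steps.bwd (nat_lit 9) (Steps.bwd (nat_lit 11) (Steps.bwd (nat_lit 14) (Steps.fwd (nat_lit 28672) Steps.nil))))))) (nat_lit 51) (nat_lit 5),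
  Rule.mk (nat_lit 11) (nat_lit 102) (Steps.bwd (nat_lit 2) (Steps.bwd (nat_lit 11) (Steps.fwd (nat_lit 8192) (Steps.fwd (nat_lit 53248) (Steps.fwd (nat_lit 28672) (Steps.fwd (nat_lit 49152) Steps.nil)))))) (nat_lit 44) (nat_lit 0),
  Rule.mk (nat_lit 13) (nat_lit 132) (Steps.bwd (nat_lit 2) (Steps.bwd (nat_lit 14) (Steps.fwd (nat_lit 8192) (Steps.fwd (nat_lit 32768) (Steps.fwd (nat_lit 36864) (Steps.bwd (nat_lit 12) (Steps.fwd (nat_lit 57344) (Steps.fwd (nat_lit 32768) Steps.nil)))))))) (nat_lit 47) (nat_lit 6),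
  Rule.mk (nat_lit 13) (nat_lit 117) (Steps.bwd (nat_lit 7) (Steps.fwd (nat_lit 57344) (Steps.bwd (nat_lit 12) (Steps.bwd (nat_lit 10) (Steps.fwd (nat_lit 12288) (Steps.bwd (nat_lit 9) (Steps.fwd (nat_lit 16384) Steps.nil))))))) (nat_lit 50) (nat_lit 4),
  Rule.mk (nat_lit 3) (nat_lit 117) (Steps.bwd (nat_lit 7) (Steps.fwd (nat_lit 32768) (Steps.fwd (nat_lit 57344) (Steps.fwd (nat_lit 45056) (Steps.fwd (nat_lit 45056) (Steps.fwd (nat_lit 12288) (Steps.fwd (nat_lit 45056) Steps.nil))))))) (nat_lit 53) (nat_lit 0),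
  Rule.mk (nat_lit 1) (nat_lit 87) (Steps.bwd (nat_lit 1) (Steps.bwd (nat_lit 4) (Steps.fwd (nat_lit 4096) (Steps.fwd (nat_lit 4096) (Steps.bwd (nat_lit 3) Steps.nil))))) (nat_lit 7) (nat_lit 5),
  Rule.mk (nat_lit 9) (nat_lit 117) (Steps.fwd (nat_lit 49152) (Steps.bwd (nat_lit 14) (Steps.fwd (nat_lit 28672) (Steps.bwd (nat_lit 14) (Steps.fwd (nat_lit 12288) (Steps.fwd (nat_lit 36864) (Steps.bwd (nat_lit 3) Steps.nil))))))) (nat_lit 51) (nat_lit 1),
  Rule.mk (nat_lit 3) (nat_lit 117) (Steps.bwd (nat_lit 1) (Steps.fwd (nat_lit 16384) (Steps.fwd (nat_lit 8192) (Steps.bwd (nat_lit 3) (Steps.fwd (nat_lit 8192) (Steps.fwd (nat_lit 16384) (Steps.bwd (nat_lit 1) Steps.nil))))))) (nat_lit 4) (nat_lit 0),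
  Rule.mk (nat_lit 2) (nat_lit 132) (Steps.bwd (nat_lit 13) (Steps.fwd (nat_lit 8192) (Steps.fwd (nat_lit 53248) (Steps.fwd (nat_lit 28672) (Steps.bwd (nat_lit 14) (Steps.fwd (nat_lit 49152) (Steps.bwd (nat_lit 9) (Steps.bwd (nat_lit 8) Steps.nil)))))))) (nat_lit 46) (nat_lit 1),
  Rule.mk (nat_lit 3) (nat_lit 117) (Steps.bwd (nat_lit 13) (Steps.fwd (nat_lit 32768) (Steps.bwd (nat_lit 13) (Steps.bwd (nat_lit 12) (Steps.fwd (nat_lit 36864) (Steps.bwd (nat_lit 4) (Steps.fwd (nat_lit 40960) Steps.nil))))))) (nat_lit 50) (nat_lit 3),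
  Rule.mk (nat_lit 2) (nat_lit 132) (Steps.bwd (nat_lit 13) (Steps.bwd (nat_lit 1) (Steps.fwd (nat_lit 53248) (Steps.fwd (nat_lit 28672) (Steps.fwd (nat_lit 53248) (Steps.bwd (nat_lit 11) (Steps.fwd (nat_lit 40960) (Steps.fwd (nat_lit 28672) Steps.nil)))))))) (nat_lit 46) (nat_lit 1),
  Rule.mk (nat_lit 14) (nat_lit 132) (Steps.bwd (nat_lit 1) (Steps.bwd (nat_lit 7) (Steps.bwd (nat_lit 10) (Steps.fwd (nat_lit 45056) (Steps.fwd (nat_lit 57344) (Steps.bwd (nat_lit 7) (Steps.bwd (nat_lit 13) (Steps.bwd (nat_lit 2) Steps.nil)))))))) (nat_lit 47) (nat_lit 8),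
  Rule.mk (nat_lit 12) (nat_lit 102) (Steps.fwd (nat_lit 32768) (Steps.bwd (nat_lit 13) (Steps.fwd (nat_lit 4096) (Steps.bwd (nat_lit 12) (Steps.bwd (nat_lit 1) (Steps.bwd (nat_lit 12) Steps.nil)))))) (nat_lit 45) (nat_lit 2),
  Rule.mk (nat_lit 2) (nat_lit 102) (Steps.fwd (nat_lit 45056) (Steps.bwd (nat_lit 1) (Steps.bwd (nat_lit 12) (Steps.bwd (nat_lit 12) (Steps.bwd (nat_lit 7) (Steps.bwd (nat_lit 13) Steps.nil)))))) (nat_lit 45) (nat_lit 5),
  Rule.mk (nat_lit 11) (nat_lit 117) (Steps.bwd (nat_lit 14) (Steps.bwd (nat_lit 8) (Steps.fwd (nat_lit 53248) (Steps.fwd (nat_lit 12288) (Steps.bwd (nat_lit 10) (Steps.bwd (nat_lit 3) (Steps.fwd (nat_lit 40960) Steps.nil))))))) (nat_lit 51) (nat_lit 2),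
  Rule.mk (nat_lit 8) (nat_lit 132) (Steps.fwd (nat_lit 4096) (Steps.fwd (nat_lit 57344) (Steps.fwd (nat_lit 8192) (Steps.fwd (nat_lit 53248) (Steps.fwd (nat_lit 28672) (Steps.bwd (nat_lit 14) (Steps.bwd (nat_lit 11) (Steps.bwd (nat_lit 9) Steps.nil)))))))) (nat_lit 46) (nat_lit 0),
  Rule.mk (nat_lit 12) (nat_lit 87) (Steps.bwd (nat_lit 7) (Steps.fwd (nat_lit 49152) (Steps.bwd (nat_lit 15) (Steps.bwd (nat_lit 15) (Steps.fwd (nat_lit 28672) Steps.nil))))) (nat_lit 32) (nat_lit 2)]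
noncomputable def R_55 : List (Rule) := [Rule.mk (nat_lit 3) (nat_lit 117) (Steps.bwd (nat_lit 11) (Steps.fwd (nat_lit 49152) (Steps.bwd (nat_lit 14) (Steps.fwd (nat_lit 28672) (Steps.fwd (nat_lit 28672) (Steps.bwd (nat_lit 4) (Steps.bwd (nat_lit 11) Steps.nil))))))) (nat_lit 52) (nat_lit 3),
  Rule.mk (nat_lit 4) (nat_lit 177) (Steps.bwd (nat_lit 2) (Steps.fwd (nat_lit 16384) (Steps.bwd (nat_lit 1) (Steps.fwd (nat_lit 12288) (Steps.bwd (nat_lit 2) (Steps.bwd (nat_lit 3) (Steps.bwd (nat_lit 1) (Steps.fwd (nat_lit 12288) (Steps.bwd (nat_lit 2) (Steps.bwd (nat_lit 3) (Steps.bwd (nat_lit 1) Steps.nil))))))))))) (nat_lit 9) (nat_lit 1),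
  Rule.mk (nat_lit 9) (nat_lit 117) (Steps.bwd (nat_lit 3) (Steps.bwd (nat_lit 13) (Steps.bwd (nat_lit 7) (Steps.fwd (nat_lit 57344) (Steps.bwd (nat_lit 12) (Steps.fwd (nat_lit 36864) (Steps.bwd (nat_lit 4) Steps.nil))))))) (nat_lit 50) (nat_lit 2),
  Rule.mk (nat_lit 7) (nat_lit 132) (Steps.bwd (nat_lit 10) (Steps.bwd (nat_lit 12) (Steps.bwd (nat_lit 13) (Steps.bwd (nat_lit 7) (Steps.fwd (nat_lit 57344) (Steps.bwd (nat_lit 2) (Steps.fwd (nat_lit 53248) (Steps.bwd (nat_lit 1) Steps.nil)))))))) (nat_lit 47) (nat_lit 1),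
  Rule.mk (nat_lit 3) (nat_lit 117) (Steps.bwd (nat_lit 9) (Steps.bwd (nat_lit 11) (Steps.bwd (nat_lit 14) (Steps.bwd (nat_lit 8) (Steps.bwd (nat_lit 14) (Steps.bwd (nat_lit 4) (Steps.bwd (nat_lit 10) Steps.nil))))))) (nat_lit 51) (nat_lit 0),
  Rule.mk (nat_lit 11) (nat_lit 132) (Steps.bwd (nat_lit 9) (Steps.fwd (nat_lit 28672) (Steps.bwd (nat_lit 2) (Steps.bwd (nat_lit 13) (Steps.fwd (nat_lit 8192) (Steps.bwd (nat_lit 14) (Steps.bwd (nat_lit 8) (Steps.fwd (nat_lit 53248) Steps.nil)))))))) (nat_lit 46) (nat_lit 7),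
  Rule.mk (nat_lit 3) (nat_lit 117) (Steps.fwd (nat_lit 49152) (Steps.bwd (nat_lit 11) (Steps.fwd (nat_lit 53248) (Steps.fwd (nat_lit 28672) (Steps.bwd (nat_lit 8) (Steps.bwd (nat_lit 4) (Steps.bwd (nat_lit 11) Steps.nil))))))) (nat_lit 52) (nat_lit 3),
  Rule.mk (nat_lit 14) (nat_lit 132) (Steps.bwd (nat_lit 1) (Steps.bwd (nat_lit 7) (Steps.fwd (nat_lit 36864) (Steps.bwd (nat_lit 12) (Steps.fwd (nat_lit 57344) (Steps.fwd (nat_lit 32768) (Steps.fwd (nat_lit 57344) (Steps.bwd (nat_lit 2) Steps.nil)))))))) (nat_lit 47) (nat_lit 8),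
  Rule.mk (nat_lit 8) (nat_lit 132) (Steps.bwd (nat_lit 2) (Steps.fwd (nat_lit 57344) (Steps.fwd (nat_lit 8192) (Steps.fwd (nat_lit 53248) (Steps.bwd (nat_lit 8) (Steps.fwd (nat_lit 53248) (Steps.bwd (nat_lit 11) (Steps.bwd (nat_lit 9) Steps.nil)))))))) (nat_lit 46) (nat_lit 0),
  Rule.mk (nat_lit 3) (nat_lit 177) (Steps.bwd (nat_lit 2) (Steps.bwd (nat_lit 4) (Steps.bwd (nat_lit 1) (Steps.bwd (nat_lit 3) (Steps.bwd (nat_lit 2) (Steps.bwd (nat_lit 4) (Steps.fwd (nat_lit 8192) (Steps.fwd (nat_lit 16384) (Steps.bwd (nat_lit 2) (Steps.bwd (nat_lit 4) (Steps.bwd (nat_lit 1) Steps.nil))))))))))) (nat_lit 8) (nat_lit 0),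
  Rule.mk (nat_lit 4) (nat_lit 177) (Steps.bwd (nat_lit 2) (Steps.fwd (nat_lit 16384) (Steps.bwd (nat_lit 1) (Steps.fwd (nat_lit 12288) (Steps.fwd (nat_lit 4096) (Steps.bwd (nat_lit 3) (Steps.fwd (nat_lit 8192) (Steps.bwd (nat_lit 4) (Steps.fwd (nat_lit 4096) (Steps.bwd (nat_lit 3) (Steps.bwd (nat_lit 1) Steps.nil))))))))))) (nat_lit 9) (nat_lit 1),
  Rule.mk (nat_lit 16) (nat_lit 72) (Steps.bwd (nat_lit 8) (Steps.bwd (nat_lit 10) (Steps.fwd (nat_lit 32768) (Steps.bwd (nat_lit 9) Steps.nil)))) (nat_lit 19) (nat_lit 0),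
  Rule.mk (nat_lit 14) (nat_lit 102) (Steps.bwd (nat_lit 8) (Steps.fwd (nat_lit 49152) (Steps.bwd (nat_lit 11) (Steps.fwd (nat_lit 4096) (Steps.fwd (nat_lit 49152) (Steps.bwd (nat_lit 1) Steps.nil)))))) (nat_lit 44) (nat_lit 4),
  Rule.mk (nat_lit 9) (nat_lit 132) (Steps.bwd (nat_lit 8) (Steps.bwd (nat_lit 2) (Steps.fwd (nat_lit 57344) (Steps.fwd (nat_lit 8192) (Steps.bwd (nat_lit 14) (Steps.fwd (nat_lit 28672) (Steps.fwd (nat_lit 53248) (Steps.fwd (nat_lit 49152) Steps.nil)))))))) (nat_lit 46) (nat_lit 8),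
  Rule.mk (nat_lit 3) (nat_lit 117) (Steps.fwd (nat_lit 57344) (Steps.bwd (nat_lit 7) (Steps.bwd (nat_lit 13) (Steps.bwd (nat_lit 12) (Steps.bwd (nat_lit 10) (Steps.bwd (nat_lit 4) (Steps.bwd (nat_lit 9) Steps.nil))))))) (nat_lit 50) (nat_lit 3),
  Rule.mk (nat_lit 11) (nat_lit 117) (Steps.bwd (nat_lit 3) (Steps.bwd (nat_lit 11) (Steps.bwd (nat_lit 11) (Steps.bwd (nat_lit 14) (Steps.bwd (nat_lit 8) (Steps.bwd (nat_lit 8) (Steps.bwd (nat_lit 4) Steps.nil))))))) (nat_lit 52) (nat_lit 2),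
  Rule.mk (nat_lit 2) (nat_lit 132) (Steps.bwd (nat_lit 14) (Steps.bwd (nat_lit 1) (Steps.bwd (nat_lit 7) (Steps.fwd (nat_lit 36864) (Steps.bwd (nat_lit 12) (Steps.bwd (nat_lit 13) (Steps.fwd (nat_lit 32768) (Steps.bwd (nat_lit 13) Steps.nil)))))))) (nat_lit 47) (nat_lit 7),
  Rule.mk (nat_lit 13) (nat_lit 132) (Steps.bwd (nat_lit 1) (Steps.fwd (nat_lit 53248) (Steps.fwd (nat_lit 28672) (Steps.bwd (nat_lit 14) (Steps.fwd (nat_lit 49152) (Steps.bwd (nat_lit 9) (Steps.bwd (nat_lit 8) (Steps.bwd (nat_lit 2) Steps.nil)))))))) (nat_lit 46) (nat_lit 2),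
  Rule.mk (nat_lit 11) (nat_lit 117) (Steps.bwd (nat_lit 14) (Steps.fwd (nat_lit 28672) (Steps.fwd (nat_lit 53248) (Steps.bwd (nat_lit 4) (Steps.fwd (nat_lit 36864) (Steps.fwd (nat_lit 16384) (Steps.bwd (nat_lit 9) Steps.nil))))))) (nat_lit 51) (nat_lit 2),
  Rule.mk (nat_lit 2) (nat_lit 132) (Steps.bwd (nat_lit 14) (Steps.fwd (nat_lit 8192) (Steps.fwd (nat_lit 32768) (Steps.bwd (nat_lit 10) (Steps.fwd (nat_lit 45056) (Steps.fwd (nat_lit 57344) (Steps.bwd (nat_lit 7) (Steps.fwd (nat_lit 57344) Steps.nil)))))))) (nat_lit 47) (nat_lit 7),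
  Rule.mk (nat_lit 4) (nat_lit 177) (Steps.bwd (nat_lit 2) (Steps.fwd (nat_lit 16384) (Steps.bwd (nat_lit 1) (Steps.bwd (nat_lit 4) (Steps.fwd (nat_lit 4096) (Steps.bwd (nat_lit 3) (Steps.bwd (nat_lit 1) (Steps.bwd (nat_lit 4) (Steps.fwd (nat_lit 4096) (Steps.bwd (nat_lit 3) (Steps.fwd (nat_lit 8192) Steps.nil))))))))))) (nat_lit 9) (nat_lit 1),
  Rule.mk (nat_lit 11) (nat_lit 102) (Steps.bwd (nat_lit 2) (Steps.fwd (nat_lit 49152) (Steps.fwd (nat_lit 8192) (Steps.fwd (nat_lit 53248) (Steps.fwd (nat_lit 28672) (Steps.fwd (nat_lit 49152) Steps.nil)))))) (nat_lit 44) (nat_lit 0),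
  Rule.mk (nat_lit 13) (nat_lit 132) (Steps.bwd (nat_lit 2) (Steps.fwd (nat_lit 53248) (Steps.bwd (nat_lit 1) (Steps.bwd (nat_lit 7) (Steps.fwd (nat_lit 36864) (Steps.fwd (nat_lit 45056) (Steps.fwd (nat_lit 57344) (Steps.fwd (nat_lit 32768) Steps.nil)))))))) (nat_lit 47) (nat_lit 6),
  Rule.mk (nat_lit 2) (nat_lit 132) (Steps.bwd (nat_lit 13) (Steps.fwd (nat_lit 8192) (Steps.fwd (nat_lit 53248) (Steps.fwd (nat_lit 28672) (Steps.fwd (nat_lit 53248) (Steps.bwd (nat_lit 11) (Steps.bwd (nat_lit 9) (Steps.fwd (nat_lit 28672) Steps.nil)))))))) (nat_lit 46) (nat_lit 1),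
  Rule.mk (nat_lit 7) (nat_lit 102) (Steps.bwd (nat_lit 13) (Steps.fwd (nat_lit 4096) (Steps.bwd (nat_lit 12) (Steps.fwd (nat_lit 8192) (Steps.fwd (nat_lit 45056) (Steps.fwd (nat_lit 45056) Steps.nil)))))) (nat_lit 45) (nat_lit 3),
  Rule.mk (nat_lit 3) (nat_lit 117) (Steps.bwd (nat_lit 13) (Steps.bwd (nat_lit 7) (Steps.fwd (nat_lit 57344) (Steps.bwd (nat_lit 12) (Steps.bwd (nat_lit 10) (Steps.bwd (nat_lit 4) (Steps.fwd (nat_lit 40960) Steps.nil))))))) (nat_lit 50) (nat_lit 3),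
  Rule.mk (nat_lit 9) (nat_lit 117) (Steps.fwd (nat_lit 49152) (Steps.bwd (nat_lit 14) (Steps.bwd (nat_lit 8) (Steps.fwd (nat_lit 53248) (Steps.fwd (nat_lit 12288) (Steps.bwd (nat_lit 10) (Steps.bwd (nat_lit 3) Steps.nil))))))) (nat_lit 51) (nat_lit 1),
  Rule.mk (nat_lit 11) (nat_lit 117) (Steps.bwd (nat_lit 3) (Steps.fwd (nat_lit 49152) (Steps.fwd (nat_lit 49152) (Steps.fwd (nat_lit 53248) (Steps.fwd (nat_lit 28672) (Steps.bwd (nat_lit 8) (Steps.fwd (nat_lit 12288) Steps.nil))))))) (nat_lit 52) (nat_lit 2),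
  Rule.mk (nat_lit 16) (nat_lit 72) (Steps.bwd (nat_lit 14) (Steps.fwd (nat_lit 45056) (Steps.fwd (nat_lit 57344) (Steps.fwd (nat_lit 49152) Steps.nil)))) (nat_lit 41) (nat_lit 1),
  Rule.mk (nat_lit 4) (nat_lit 117) (Steps.fwd (nat_lit 4096) (Steps.bwd (nat_lit 4) (Steps.bwd (nat_lit 2) (Steps.fwd (nat_lit 12288) (Steps.bwd (nat_lit 2) (Steps.bwd (nat_lit 4) (Steps.bwd (nat_lit 2) Steps.nil))))))) (nat_lit 5) (nat_lit 1),
  Rule.mk (nat_lit 13) (nat_lit 132) (Steps.bwd (nat_lit 1) (Steps.bwd (nat_lit 14) (Steps.fwd (nat_lit 28672) (Steps.fwd (nat_lit 53248) (Steps.fwd (nat_lit 49152) (Steps.fwd (nat_lit 40960) (Steps.bwd (nat_lit 8) (Steps.bwd (nat_lit 2) Steps.nil)))))))) (nat_lit 46) (nat_lit 2),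
  Rule.mk (nat_lit 7) (nat_lit 102) (Steps.bwd (nat_lit 13) (Steps.bwd (nat_lit 2) (Steps.bwd (nat_lit 12) (Steps.bwd (nat_lit 1) (Steps.bwd (nat_lit 12) (Steps.bwd (nat_lit 12) Steps.nil)))))) (nat_lit 45) (nat_lit 3),
  Rule.mk (nat_lit 11) (nat_lit 102) (Steps.bwd (nat_lit 2) (Steps.fwd (nat_lit 49152) (Steps.bwd (nat_lit 1) (Steps.fwd (nat_lit 53248) (Steps.fwd (nat_lit 28672) (Steps.bwd (nat_lit 11) Steps.nil)))))) (nat_lit 44) (nat_lit 0),
  Rule.mk (nat_lit 8) (nat_lit 132) (Steps.bwd (nat_lit 2) (Steps.bwd (nat_lit 13) (Steps.fwd (nat_lit 8192) (Steps.bwd (nat_lit 14) (Steps.fwd (nat_lit 28672) (Steps.fwd (nat_lit 53248) (Steps.bwd (nat_lit 11) (Steps.bwd (nat_lit 9) Steps.nil)))))))) (nat_lit 46) (nat_lit 0),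
  Rule.mk (nat_lit 11) (nat_lit 117) (Steps.bwd (nat_lit 14) (Steps.fwd (nat_lit 28672) (Steps.bwd (nat_lit 14) (Steps.fwd (nat_lit 12288) (Steps.bwd (nat_lit 10) (Steps.bwd (nat_lit 3) (Steps.fwd (nat_lit 40960) Steps.nil))))))) (nat_lit 51) (nat_lit 2),
  Rule.mk (nat_lit 12) (nat_lit 117) (Steps.fwd (nat_lit 36864) (Steps.fwd (nat_lit 12288) (Steps.bwd (nat_lit 9) (Steps.fwd (nat_lit 16384) (Steps.fwd (nat_lit 57344) (Steps.bwd (nat_lit 7) (Steps.bwd (nat_lit 13) Steps.nil))))))) (nat_lit 50) (nat_lit 7),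
  Rule.mk (nat_lit 3) (nat_lit 117) (Steps.bwd (nat_lit 13) (Steps.fwd (nat_lit 32768) (Steps.fwd (nat_lit 57344) (Steps.bwd (nat_lit 12) (Steps.bwd (nat_lit 10) (Steps.bwd (nat_lit 4) (Steps.bwd (nat_lit 9) Steps.nil))))))) (nat_lit 50) (nat_lit 3),
  Rule.mk (nat_lit 2) (nat_lit 132) (Steps.bwd (nat_lit 13) (Steps.fwd (nat_lit 8192) (Steps.fwd (nat_lit 53248) (Steps.bwd (nat_lit 8) (Steps.bwd (nat_lit 14) (Steps.bwd (nat_lit 11) (Steps.bwd (nat_lit 9) (Steps.bwd (nat_lit 8) Steps.nil)))))))) (nat_lit 46) (nat_lit 1),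
  Rule.mk (nat_lit 12) (nat_lit 132) (Steps.bwd (nat_lit 13) (Steps.fwd (nat_lit 32768) (Steps.fwd (nat_lit 57344) (Steps.bwd (nat_lit 2) (Steps.bwd (nat_lit 14) (Steps.fwd (nat_lit 8192) (Steps.bwd (nat_lit 7) (Steps.bwd (nat_lit 10) Steps.nil)))))))) (nat_lit 47) (nat_lit 3),
  Rule.mk (nat_lit 1) (nat_lit 102) (Steps.bwd (nat_lit 14) (Steps.fwd (nat_lit 28672) (Steps.bwd (nat_lit 11) (Steps.bwd (nat_lit 11) (Steps.fwd (nat_lit 4096) (Steps.fwd (nat_lit 49152) Steps.nil)))))) (nat_lit 44) (nat_lit 3),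
  Rule.mk (nat_lit 8) (nat_lit 117) (Steps.bwd (nat_lit 14) (Steps.bwd (nat_lit 4) (Steps.fwd (nat_lit 36864) (Steps.bwd (nat_lit 3) (Steps.fwd (nat_lit 40960) (Steps.bwd (nat_lit 11) (Steps.bwd (nat_lit 14) Steps.nil))))))) (nat_lit 51) (nat_lit 4),
  Rule.mk (nat_lit 11) (nat_lit 117) (Steps.bwd (nat_lit 14) (Steps.fwd (nat_lit 28672) (Steps.bwd (nat_lit 14) (Steps.fwd (nat_lit 12288) (Steps.fwd (nat_lit 36864) (Steps.bwd (nat_lit 3) (Steps.bwd (nat_lit 9) Steps.nil))))))) (nat_lit 51) (nat_lit 2),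
  Rule.mk (nat_lit 1) (nat_lit 132) (Steps.bwd (nat_lit 14) (Steps.fwd (nat_lit 28672) (Steps.bwd (nat_lit 14) (Steps.fwd (nat_lit 49152) (Steps.fwd (nat_lit 40960) (Steps.bwd (nat_lit 8) (Steps.bwd (nat_lit 2) (Steps.fwd (nat_lit 57344) Steps.nil)))))))) (nat_lit 46) (nat_lit 3),
  Rule.mk (nat_lit 2) (nat_lit 132) (Steps.bwd (nat_lit 14) (Steps.bwd (nat_lit 1) (Steps.bwd (nat_lit 7) (Steps.fwd (nat_lit 36864) (Steps.fwd (nat_lit 45056) (Steps.fwd (nat_lit 57344) (Steps.fwd (nat_lit 32768) (Steps.fwd (nat_lit 57344) Steps.nil)))))))) (nat_lit 47) (nat_lit 7),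
  Rule.mk (nat_lit 2) (nat_lit 132) (Steps.bwd (nat_lit 13) (Steps.fwd (nat_lit 8192) (Steps.fwd (nat_lit 53248) (Steps.fwd (nat_lit 28672) (Steps.bwd (nat_lit 14) (Steps.fwd (nat_lit 49152) (Steps.fwd (nat_lit 40960) (Steps.bwd (nat_lit 8) Steps.nil)))))))) (nat_lit 46) (nat_lit 1),
  Rule.mk (nat_lit 14) (nat_lit 132) (Steps.bwd (nat_lit 1) (Steps.fwd (nat_lit 32768) (Steps.bwd (nat_lit 10) (Steps.fwd (nat_lit 45056) (Steps.fwd (nat_lit 57344) (Steps.bwd (nat_lit 7) (Steps.bwd (nat_lit 13) (Steps.bwd (nat_lit 2) Steps.nil)))))))) (nat_lit 47) (nat_lit 8),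
  Rule.mk (nat_lit 3) (nat_lit 117) (Steps.bwd (nat_lit 13) (Steps.bwd (nat_lit 7) (Steps.bwd (nat_lit 13) (Steps.fwd (nat_lit 45056) (Steps.bwd (nat_lit 10) (Steps.fwd (nat_lit 12288) (Steps.bwd (nat_lit 9) Steps.nil))))))) (nat_lit 50) (nat_lit 3),
  Rule.mk (nat_lit 2) (nat_lit 132) (Steps.bwd (nat_lit 13) (Steps.fwd (nat_lit 8192) (Steps.bwd (nat_lit 14) (Steps.fwd (nat_lit 28672) (Steps.bwd (nat_lit 14) (Steps.bwd (nat_lit 11) (Steps.fwd (nat_lit 40960) (Steps.fwd (nat_lit 28672) Steps.nil)))))))) (nat_lit 46) (nat_lit 1),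
  Rule.mk (nat_lit 9) (nat_lit 117) (Steps.bwd (nat_lit 3) (Steps.fwd (nat_lit 57344) (Steps.bwd (nat_lit 7) (Steps.bwd (nat_lit 13) (Steps.bwd (nat_lit 12) (Steps.bwd (nat_lit 10) (Steps.bwd (nat_lit 4) Steps.nil))))))) (nat_lit 50) (nat_lit 2),
  Rule.mk (nat_lit 11) (nat_lit 102) (Steps.fwd (nat_lit 4096) (Steps.fwd (nat_lit 49152) (Steps.fwd (nat_lit 8192) (Steps.bwd (nat_lit 14) (Steps.bwd (nat_lit 8) (Steps.bwd (nat_lit 11) Steps.nil)))))) (nat_lit 44) (nat_lit 0),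
  Rule.mk (nat_lit 12) (nat_lit 117) (Steps.bwd (nat_lit 3) (Steps.fwd (nat_lit 32768) (Steps.bwd (nat_lit 7) (Steps.fwd (nat_lit 57344) (Steps.bwd (nat_lit 12) (Steps.fwd (nat_lit 45056) (Steps.bwd (nat_lit 4) Steps.nil))))))) (nat_lit 53) (nat_lit 7),
  Rule.mk (nat_lit 1) (nat_lit 177) (Steps.bwd (nat_lit 3) (Steps.bwd (nat_lit 2) (Steps.bwd (nat_lit 4) (Steps.fwd (nat_lit 8192) (Steps.fwd (nat_lit 16384) (Steps.bwd (nat_lit 2) (Steps.bwd (nat_lit 4) (Steps.bwd (nat_lit 1) (Steps.bwd (nat_lit 3) (Steps.bwd (nat_lit 2) (Steps.fwd (nat_lit 12288) Steps.nil))))))))))) (nat_lit 8) (nat_lit 3),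
  Rule.mk (nat_lit 2) (nat_lit 102) (Steps.bwd (nat_lit 12) (Steps.fwd (nat_lit 8192) (Steps.bwd (nat_lit 12) (Steps.fwd (nat_lit 45056) (Steps.fwd (nat_lit 32768) (Steps.bwd (nat_lit 13) Steps.nil)))))) (nat_lit 45) (nat_lit 5),
  Rule.mk (nat_lit 3) (nat_lit 117) (Steps.bwd (nat_lit 7) (Steps.fwd (nat_lit 32768) (Steps.bwd (nat_lit 13) (Steps.bwd (nat_lit 12) (Steps.bwd (nat_lit 12) (Steps.fwd (nat_lit 12288) (Steps.fwd (nat_lit 45056) Steps.nil))))))) (nat_lit 53) (nat_lit 0),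
  Rule.mk (nat_lit 11) (nat_lit 117) (Steps.bwd (nat_lit 14) (Steps.fwd (nat_lit 28672) (Steps.bwd (nat_lit 14) (Steps.bwd (nat_lit 4) (Steps.bwd (nat_lit 10) (Steps.bwd (nat_lit 3) (Steps.fwd (nat_lit 40960) Steps.nil))))))) (nat_lit 51) (nat_lit 2),
  Rule.mk (nat_lit 2) (nat_lit 132) (Steps.bwd (nat_lit 13) (Steps.fwd (nat_lit 8192) (Steps.bwd (nat_lit 14) (Steps.bwd (nat_lit 8) (Steps.bwd (nat_lit 14) (Steps.bwd (nat_lit 11) (Steps.fwd (nat_lit 40960) (Steps.bwd (nat_lit 8) Steps.nil)))))))) (nat_lit 46) (nat_lit 1),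
  Rule.mk (nat_lit 11) (nat_lit 102) (Steps.bwd (nat_lit 11) (Steps.fwd (nat_lit 4096) (Steps.fwd (nat_lit 49152) (Steps.bwd (nat_lit 1) (Steps.fwd (nat_lit 53248) (Steps.bwd (nat_lit 8) Steps.nil)))))) (nat_lit 44) (nat_lit 6),
  Rule.mk (nat_lit 9) (nat_lit 117) (Steps.bwd (nat_lit 11) (Steps.fwd (nat_lit 53248) (Steps.bwd (nat_lit 8) (Steps.bwd (nat_lit 14) (Steps.bwd (nat_lit 4) (Steps.fwd (nat_lit 36864) (Steps.bwd (nat_lit 3) Steps.nil))))))) (nat_lit 51) (nat_lit 1),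
  Rule.mk (nat_lit 8) (nat_lit 132) (Steps.bwd (nat_lit 2) (Steps.fwd (nat_lit 57344) (Steps.fwd (nat_lit 8192) (Steps.fwd (nat_lit 53248) (Steps.fwd (nat_lit 28672) (Steps.fwd (nat_lit 53248) (Steps.bwd (nat_lit 11) (Steps.bwd (nat_lit 9) Steps.nil)))))))) (nat_lit 46) (nat_lit 0),
  Rule.mk (nat_lit 9) (nat_lit 132) (Steps.bwd (nat_lit 8) (Steps.fwd (nat_lit 4096) (Steps.bwd (nat_lit 13) (Steps.fwd (nat_lit 8192) (Steps.bwd (nat_lit 14) (Steps.fwd (nat_lit 28672) (Steps.bwd (nat_lit 14) (Steps.bwd (nat_lit 11) Steps.nil)))))))) (nat_lit 46) (nat_lit 8),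
  Rule.mk (nat_lit 3) (nat_lit 117) (Steps.bwd (nat_lit 13) (Steps.bwd (nat_lit 7) (Steps.fwd (nat_lit 57344) (Steps.fwd (nat_lit 45056) (Steps.bwd (nat_lit 10) (Steps.bwd (nat_lit 4) (Steps.bwd (nat_lit 9) Steps.nil))))))) (nat_lit 50) (nat_lit 3),
  Rule.mk (nat_lit 11) (nat_lit 117) (Steps.bwd (nat_lit 3) (Steps.fwd (nat_lit 49152) (Steps.bwd (nat_lit 11) (Steps.fwd (nat_lit 53248) (Steps.bwd (nat_lit 8) (Steps.bwd (nat_lit 8) (Steps.bwd (nat_lit 4) Steps.nil))))))) (nat_lit 52) (nat_lit 2),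
  Rule.mk (nat_lit 12) (nat_lit 117) (Steps.bwd (nat_lit 3) (Steps.bwd (nat_lit 7) (Steps.bwd (nat_lit 7) (Steps.bwd (nat_lit 13) (Steps.fwd (nat_lit 45056) (Steps.bwd (nat_lit 12) (Steps.fwd (nat_lit 12288) Steps.nil))))))) (nat_lit 53) (nat_lit 7),
  Rule.mk (nat_lit 9) (nat_lit 132) (Steps.bwd (nat_lit 8) (Steps.fwd (nat_lit 4096) (Steps.fwd (nat_lit 57344) (Steps.fwd (nat_lit 8192) (Steps.fwd (nat_lit 53248) (Steps.bwd (nat_lit 8) (Steps.fwd (nat_lit 53248) (Steps.bwd (nat_lit 11) Steps.nil)))))))) (nat_lit 46) (nat_lit 8)]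
noncomputable def R_56 : List (Rule) := [Rule.mk (nat_lit 3) (nat_lit 117) (Steps.bwd (nat_lit 13) (Steps.bwd (nat_lit 7) (Steps.fwd (nat_lit 57344) (Steps.bwd (nat_lit 12) (Steps.bwd (nat_lit 10) (Steps.bwd (nat_lit 4) (Steps.bwd (nat_lit 9) Steps.nil))))))) (nat_lit 50) (nat_lit 3),
  Rule.mk (nat_lit 11) (nat_lit 102) (Steps.fwd (nat_lit 8192) (Steps.fwd (nat_lit 53248) (Steps.bwd (nat_lit 8) (Steps.bwd (nat_lit 11) (Steps.bwd (nat_lit 11) (Steps.bwd (nat_lit 2) Steps.nil)))))) (nat_lit 44) (nat_lit 2),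
  Rule.mk (nat_lit 13) (nat_lit 117) (Steps.bwd (nat_lit 12) (Steps.bwd (nat_lit 10) (Steps.fwd (nat_lit 12288) (Steps.bwd (nat_lit 9) (Steps.fwd (nat_lit 16384) (Steps.bwd (nat_lit 13) (Steps.fwd (nat_lit 32768) Steps.nil))))))) (nat_lit 50) (nat_lit 6),
  Rule.mk (nat_lit 11) (nat_lit 117) (Steps.fwd (nat_lit 16384) (Steps.bwd (nat_lit 11) (Steps.bwd (nat_lit 11) (Steps.fwd (nat_lit 53248) (Steps.bwd (nat_lit 8) (Steps.bwd (nat_lit 8) (Steps.bwd (nat_lit 4) Steps.nil))))))) (nat_lit 52) (nat_lit 2),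
  Rule.mk (nat_lit 4) (nat_lit 87) (Steps.bwd (nat_lit 2) (Steps.bwd (nat_lit 2) (Steps.fwd (nat_lit 16384) (Steps.bwd (nat_lit 1) (Steps.fwd (nat_lit 8192) Steps.nil))))) (nat_lit 7) (nat_lit 1),
  Rule.mk (nat_lit 11) (nat_lit 117) (Steps.bwd (nat_lit 14) (Steps.bwd (nat_lit 8) (Steps.bwd (nat_lit 14) (Steps.bwd (nat_lit 4) (Steps.bwd (nat_lit 10) (Steps.fwd (nat_lit 16384) (Steps.fwd (nat_lit 40960) Steps.nil))))))) (nat_lit 51) (nat_lit 2),
  Rule.mk (nat_lit 2) (nat_lit 132) (Steps.bwd (nat_lit 14) (Steps.bwd (nat_lit 1) (Steps.fwd (nat_lit 32768) (Steps.bwd (nat_lit 10) (Steps.bwd (nat_lit 12) (Steps.bwd (nat_lit 13) (Steps.bwd (nat_lit 7) (Steps.fwd (nat_lit 57344) Steps.nil)))))))) (nat_lit 47) (nat_lit 7),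
  Rule.mk (nat_lit 13) (nat_lit 132) (Steps.bwd (nat_lit 1) (Steps.bwd (nat_lit 14) (Steps.bwd (nat_lit 8) (Steps.bwd (nat_lit 14) (Steps.fwd (nat_lit 49152) (Steps.fwd (nat_lit 40960) (Steps.fwd (nat_lit 28672) (Steps.bwd (nat_lit 2) Steps.nil)))))))) (nat_lit 46) (nat_lit 2),
  Rule.mk (nat_lit 7) (nat_lit 132) (Steps.bwd (nat_lit 10) (Steps.bwd (nat_lit 12) (Steps.bwd (nat_lit 13) (Steps.bwd (nat_lit 7) (Steps.bwd (nat_lit 13) (Steps.fwd (nat_lit 4096) (Steps.bwd (nat_lit 14) (Steps.bwd (nat_lit 1) Steps.nil)))))))) (nat_lit 47) (nat_lit 1),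
  Rule.mk (nat_lit 4) (nat_lit 117) (Steps.fwd (nat_lit 4096) (Steps.fwd (nat_lit 12288) (Steps.bwd (nat_lit 2) (Steps.fwd (nat_lit 12288) (Steps.bwd (nat_lit 2) (Steps.bwd (nat_lit 4) (Steps.bwd (nat_lit 2) Steps.nil))))))) (nat_lit 5) (nat_lit 1),
  Rule.mk (nat_lit 10) (nat_lit 117) (Steps.bwd (nat_lit 4) (Steps.bwd (nat_lit 9) (Steps.fwd (nat_lit 16384) (Steps.bwd (nat_lit 13) (Steps.fwd (nat_lit 32768) (Steps.bwd (nat_lit 13) (Steps.fwd (nat_lit 45056) Steps.nil))))))) (nat_lit 50) (nat_lit 0),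
  Rule.mk (nat_lit 3) (nat_lit 117) (Steps.bwd (nat_lit 9) (Steps.bwd (nat_lit 11) (Steps.bwd (nat_lit 14) (Steps.bwd (nat_lit 8) (Steps.fwd (nat_lit 53248) (Steps.bwd (nat_lit 4) (Steps.fwd (nat_lit 36864) Steps.nil))))))) (nat_lit 51) (nat_lit 0),
  Rule.mk (nat_lit 10) (nat_lit 117) (Steps.bwd (nat_lit 4) (Steps.fwd (nat_lit 40960) (Steps.fwd (nat_lit 16384) (Steps.bwd (nat_lit 13) (Steps.fwd (nat_lit 32768) (Steps.bwd (nat_lit 13) (Steps.bwd (nat_lit 12) Steps.nil))))))) (nat_lit 50) (nat_lit 0),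
  Rule.mk (nat_lit 12) (nat_lit 117) (Steps.bwd (nat_lit 4) (Steps.fwd (nat_lit 45056) (Steps.fwd (nat_lit 16384) (Steps.fwd (nat_lit 32768) (Steps.fwd (nat_lit 32768) (Steps.fwd (nat_lit 57344) (Steps.fwd (nat_lit 45056) Steps.nil))))))) (nat_lit 53) (nat_lit 5),
  Rule.mk (nat_lit 4) (nat_lit 117) (Steps.fwd (nat_lit 36864) (Steps.bwd (nat_lit 3) (Steps.bwd (nat_lit 9) (Steps.bwd (nat_lit 11) (Steps.bwd (nat_lit 14) (Steps.bwd (nat_lit 8) (Steps.bwd (nat_lit 14) Steps.nil))))))) (nat_lit 51) (nat_lit 6),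
  Rule.mk (nat_lit 1) (nat_lit 132) (Steps.fwd (nat_lit 32768) (Steps.bwd (nat_lit 10) (Steps.bwd (nat_lit 12) (Steps.bwd (nat_lit 13) (Steps.bwd (nat_lit 7) (Steps.fwd (nat_lit 57344) (Steps.bwd (nat_lit 2) (Steps.bwd (nat_lit 14) Steps.nil)))))))) (nat_lit 47) (nat_lit 0),
  Rule.mk (nat_lit 15) (nat_lit 87) (Steps.bwd (nat_lit 14) (Steps.bwd (nat_lit 8) (Steps.fwd (nat_lit 57344) (Steps.fwd (nat_lit 32768) (Steps.bwd (nat_lit 15) Steps.nil))))) (nat_lit 35) (nat_lit 2),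
  Rule.mk (nat_lit 14) (nat_lit 117) (Steps.bwd (nat_lit 4) (Steps.bwd (nat_lit 10) (Steps.fwd (nat_lit 16384) (Steps.fwd (nat_lit 40960) (Steps.fwd (nat_lit 49152) (Steps.fwd (nat_lit 53248) (Steps.fwd (nat_lit 28672) Steps.nil))))))) (nat_lit 51) (nat_lit 5),
  Rule.mk (nat_lit 8) (nat_lit 87) (Steps.fwd (nat_lit 57344) (Steps.fwd (nat_lit 32768) (Steps.bwd (nat_lit 15) (Steps.fwd (nat_lit 65536) (Steps.bwd (nat_lit 14) Steps.nil))))) (nat_lit 35) (nat_lit 4),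
  Rule.mk (nat_lit 13) (nat_lit 132) (Steps.bwd (nat_lit 2) (Steps.bwd (nat_lit 14) (Steps.bwd (nat_lit 1) (Steps.bwd (nat_lit 7) (Steps.bwd (nat_lit 10) (Steps.bwd (nat_lit 12) (Steps.fwd (nat_lit 57344) (Steps.fwd (nat_lit 32768) Steps.nil)))))))) (nat_lit 47) (nat_lit 6),
  Rule.mk (nat_lit 4) (nat_lit 177) (Steps.bwd (nat_lit 2) (Steps.fwd (nat_lit 16384) (Steps.bwd (nat_lit 1) (Steps.bwd (nat_lit 4) (Steps.bwd (nat_lit 2) (Steps.bwd (nat_lit 3) (Steps.bwd (nat_lit 1) (Steps.bwd (nat_lit 4) (Steps.fwd (nat_lit 4096) (Steps.fwd (nat_lit 16384) (Steps.bwd (nat_lit 1) Steps.nil))))))))))) (nat_lit 9) (nat_lit 1),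
  Rule.mk (nat_lit 1) (nat_lit 132) (Steps.bwd (nat_lit 14) (Steps.fwd (nat_lit 28672) (Steps.bwd (nat_lit 14) (Steps.fwd (nat_lit 49152) (Steps.bwd (nat_lit 9) (Steps.fwd (nat_lit 28672) (Steps.bwd (nat_lit 2) (Steps.fwd (nat_lit 57344) Steps.nil)))))))) (nat_lit 46) (nat_lit 3),
  Rule.mk (nat_lit 13) (nat_lit 132) (Steps.bwd (nat_lit 1) (Steps.fwd (nat_lit 53248) (Steps.fwd (nat_lit 28672) (Steps.bwd (nat_lit 14) (Steps.bwd (nat_lit 11) (Steps.bwd (nat_lit 9) (Steps.bwd (nat_lit 8) (Steps.bwd (nat_lit 2) Steps.nil)))))))) (nat_lit 46) (nat_lit 2),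
  Rule.mk (nat_lit 1) (nat_lit 132) (Steps.fwd (nat_lit 53248) (Steps.fwd (nat_lit 28672) (Steps.bwd (nat_lit 14) (Steps.bwd (nat_lit 11) (Steps.bwd (nat_lit 9) (Steps.fwd (nat_lit 28672) (Steps.bwd (nat_lit 2) (Steps.bwd (nat_lit 13) Steps.nil)))))))) (nat_lit 46) (nat_lit 3),
  Rule.mk (nat_lit 11) (nat_lit 117) (Steps.bwd (nat_lit 3) (Steps.bwd (nat_lit 11) (Steps.fwd (nat_lit 49152) (Steps.bwd (nat_lit 14) (Steps.fwd (nat_lit 28672) (Steps.fwd (nat_lit 28672) (Steps.bwd (nat_lit 4) Steps.nil))))))) (nat_lit 52) (nat_lit 2),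
  Rule.mk (nat_lit 12) (nat_lit 117) (Steps.bwd (nat_lit 3) (Steps.fwd (nat_lit 32768) (Steps.fwd (nat_lit 32768) (Steps.fwd (nat_lit 57344) (Steps.fwd (nat_lit 45056) (Steps.fwd (nat_lit 45056) (Steps.bwd (nat_lit 4) Steps.nil))))))) (nat_lit 53) (nat_lit 7),
  Rule.mk (nat_lit 10) (nat_lit 117) (Steps.bwd (nat_lit 3) (Steps.bwd (nat_lit 9) (Steps.bwd (nat_lit 11) (Steps.fwd (nat_lit 53248) (Steps.bwd (nat_lit 8) (Steps.bwd (nat_lit 14) (Steps.bwd (nat_lit 4) Steps.nil))))))) (nat_lit 51) (nat_lit 7),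
  Rule.mk (nat_lit 12) (nat_lit 117) (Steps.bwd (nat_lit 3) (Steps.fwd (nat_lit 32768) (Steps.fwd (nat_lit 32768) (Steps.bwd (nat_lit 13) (Steps.bwd (nat_lit 12) (Steps.fwd (nat_lit 45056) (Steps.fwd (nat_lit 12288) Steps.nil))))))) (nat_lit 53) (nat_lit 7),
  Rule.mk (nat_lit 1) (nat_lit 102) (Steps.bwd (nat_lit 14) (Steps.bwd (nat_lit 8) (Steps.fwd (nat_lit 49152) (Steps.bwd (nat_lit 11) (Steps.bwd (nat_lit 2) (Steps.fwd (nat_lit 49152) Steps.nil)))))) (nat_lit 44) (nat_lit 3),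
  Rule.mk (nat_lit 2) (nat_lit 132) (Steps.bwd (nat_lit 14) (Steps.bwd (nat_lit 1) (Steps.bwd (nat_lit 7) (Steps.fwd (nat_lit 36864) (Steps.fwd (nat_lit 45056) (Steps.bwd (nat_lit 13) (Steps.bwd (nat_lit 7) (Steps.bwd (nat_lit 13) Steps.nil)))))))) (nat_lit 47) (nat_lit 7),
  Rule.mk (nat_lit 11) (nat_lit 117) (Steps.bwd (nat_lit 14) (Steps.fwd (nat_lit 28672) (Steps.bwd (nat_lit 14) (Steps.bwd (nat_lit 4) (Steps.fwd (nat_lit 36864) (Steps.bwd (nat_lit 3) (Steps.bwd (nat_lit 9) Steps.nil))))))) (nat_lit 51) (nat_lit 2),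
  Rule.mk (nat_lit 2) (nat_lit 117) (Steps.bwd (nat_lit 4) (Steps.fwd (nat_lit 4096) (Steps.fwd (nat_lit 12288) (Steps.bwd (nat_lit 2) (Steps.bwd (nat_lit 4) (Steps.bwd (nat_lit 2) (Steps.bwd (nat_lit 4) Steps.nil))))))) (nat_lit 5) (nat_lit 0),
  Rule.mk (nat_lit 3) (nat_lit 117) (Steps.bwd (nat_lit 13) (Steps.bwd (nat_lit 7) (Steps.bwd (nat_lit 13) (Steps.fwd (nat_lit 45056) (Steps.fwd (nat_lit 36864) (Steps.fwd (nat_lit 12288) (Steps.bwd (nat_lit 9) Steps.nil))))))) (nat_lit 50) (nat_lit 3),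
  Rule.mk (nat_lit 2) (nat_lit 132) (Steps.bwd (nat_lit 13) (Steps.fwd (nat_lit 8192) (Steps.bwd (nat_lit 14) (Steps.fwd (nat_lit 28672) (Steps.bwd (nat_lit 14) (Steps.bwd (nat_lit 11) (Steps.bwd (nat_lit 9) (Steps.fwd (nat_lit 28672) Steps.nil)))))))) (nat_lit 46) (nat_lit 1),
  Rule.mk (nat_lit 2) (nat_lit 117) (Steps.bwd (nat_lit 2) (Steps.fwd (nat_lit 4096) (Steps.fwd (nat_lit 4096) (Steps.fwd (nat_lit 4096) (Steps.bwd (nat_lit 2) (Steps.fwd (nat_lit 4096) (Steps.bwd (nat_lit 2) Steps.nil))))))) (nat_lit 1) (nat_lit 0),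
  Rule.mk (nat_lit 12) (nat_lit 102) (Steps.bwd (nat_lit 1) (Steps.bwd (nat_lit 12) (Steps.fwd (nat_lit 45056) (Steps.fwd (nat_lit 32768) (Steps.bwd (nat_lit 13) (Steps.fwd (nat_lit 4096) Steps.nil)))))) (nat_lit 45) (nat_lit 6),
  Rule.mk (nat_lit 12) (nat_lit 102) (Steps.fwd (nat_lit 32768) (Steps.bwd (nat_lit 13) (Steps.fwd (nat_lit 4096) (Steps.fwd (nat_lit 45056) (Steps.fwd (nat_lit 8192) (Steps.bwd (nat_lit 12) Steps.nil)))))) (nat_lit 45) (nat_lit 2),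
  Rule.mk (nat_lit 8) (nat_lit 132) (Steps.bwd (nat_lit 2) (Steps.bwd (nat_lit 13) (Steps.bwd (nat_lit 1) (Steps.fwd (nat_lit 53248) (Steps.fwd (nat_lit 28672) (Steps.fwd (nat_lit 53248) (Steps.bwd (nat_lit 11) (Steps.bwd (nat_lit 9) Steps.nil)))))))) (nat_lit 46) (nat_lit 0),
  Rule.mk (nat_lit 7) (nat_lit 132) (Steps.bwd (nat_lit 10) (Steps.bwd (nat_lit 12) (Steps.bwd (nat_lit 13) (Steps.fwd (nat_lit 32768) (Steps.bwd (nat_lit 13) (Steps.fwd (nat_lit 4096) (Steps.fwd (nat_lit 53248) (Steps.bwd (nat_lit 1) Steps.nil)))))))) (nat_lit 47) (nat_lit 1),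
  Rule.mk (nat_lit 3) (nat_lit 117) (Steps.bwd (nat_lit 9) (Steps.bwd (nat_lit 11) (Steps.bwd (nat_lit 14) (Steps.fwd (nat_lit 28672) (Steps.bwd (nat_lit 14) (Steps.bwd (nat_lit 4) (Steps.bwd (nat_lit 10) Steps.nil))))))) (nat_lit 51) (nat_lit 0),
  Rule.mk (nat_lit 2) (nat_lit 132) (Steps.bwd (nat_lit 13) (Steps.bwd (nat_lit 1) (Steps.fwd (nat_lit 53248) (Steps.fwd (nat_lit 28672) (Steps.fwd (nat_lit 53248) (Steps.fwd (nat_lit 49152) (Steps.fwd (nat_lit 40960) (Steps.bwd (nat_lit 8) Steps.nil)))))))) (nat_lit 46) (nat_lit 1),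
  Rule.mk (nat_lit 14) (nat_lit 132) (Steps.bwd (nat_lit 1) (Steps.fwd (nat_lit 32768) (Steps.fwd (nat_lit 36864) (Steps.bwd (nat_lit 12) (Steps.bwd (nat_lit 13) (Steps.fwd (nat_lit 32768) (Steps.bwd (nat_lit 13) (Steps.bwd (nat_lit 2) Steps.nil)))))))) (nat_lit 47) (nat_lit 8),
  Rule.mk (nat_lit 11) (nat_lit 102) (Steps.fwd (nat_lit 4096) (Steps.fwd (nat_lit 49152) (Steps.fwd (nat_lit 8192) (Steps.bwd (nat_lit 14) (Steps.fwd (nat_lit 28672) (Steps.bwd (nat_lit 11) Steps.nil)))))) (nat_lit 44) (nat_lit 0),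
  Rule.mk (nat_lit 14) (nat_lit 117) (Steps.bwd (nat_lit 4) (Steps.fwd (nat_lit 36864) (Steps.fwd (nat_lit 16384) (Steps.bwd (nat_lit 9) (Steps.fwd (nat_lit 49152) (Steps.fwd (nat_lit 53248) (Steps.bwd (nat_lit 8) Steps.nil))))))) (nat_lit 51) (nat_lit 5),
  Rule.mk (nat_lit 8) (nat_lit 117) (Steps.bwd (nat_lit 4) (Steps.fwd (nat_lit 49152) (Steps.bwd (nat_lit 3) (Steps.bwd (nat_lit 11) (Steps.bwd (nat_lit 11) (Steps.fwd (nat_lit 53248) (Steps.fwd (nat_lit 28672) Steps.nil))))))) (nat_lit 52) (nat_lit 0),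
  Rule.mk (nat_lit 14) (nat_lit 117) (Steps.fwd (nat_lit 12288) (Steps.bwd (nat_lit 10) (Steps.bwd (nat_lit 3) (Steps.fwd (nat_lit 40960) (Steps.fwd (nat_lit 49152) (Steps.fwd (nat_lit 53248) (Steps.bwd (nat_lit 8) Steps.nil))))))) (nat_lit 51) (nat_lit 5),
  Rule.mk (nat_lit 4) (nat_lit 117) (Steps.bwd (nat_lit 11) (Steps.fwd (nat_lit 16384) (Steps.fwd (nat_lit 49152) (Steps.fwd (nat_lit 49152) (Steps.bwd (nat_lit 14) (Steps.bwd (nat_lit 8) (Steps.bwd (nat_lit 8) Steps.nil))))))) (nat_lit 52) (nat_lit 1),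
  Rule.mk (nat_lit 3) (nat_lit 117) (Steps.bwd (nat_lit 13) (Steps.bwd (nat_lit 7) (Steps.bwd (nat_lit 13) (Steps.bwd (nat_lit 12) (Steps.bwd (nat_lit 10) (Steps.bwd (nat_lit 4) (Steps.fwd (nat_lit 40960) Steps.nil))))))) (nat_lit 50) (nat_lit 3),
  Rule.mk (nat_lit 2) (nat_lit 132) (Steps.bwd (nat_lit 13) (Steps.fwd (nat_lit 8192) (Steps.bwd (nat_lit 14) (Steps.fwd (nat_lit 28672) (Steps.bwd (nat_lit 14) (Steps.fwd (nat_lit 49152) (Steps.fwd (nat_lit 40960) (Steps.fwd (nat_lit 28672) Steps.nil)))))))) (nat_lit 46) (nat_lit 1),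
  Rule.mk (nat_lit 13) (nat_lit 132) (Steps.bwd (nat_lit 2) (Steps.fwd (nat_lit 53248) (Steps.bwd (nat_lit 1) (Steps.bwd (nat_lit 7) (Steps.bwd (nat_lit 10) (Steps.bwd (nat_lit 12) (Steps.fwd (nat_lit 57344) (Steps.bwd (nat_lit 7) Steps.nil)))))))) (nat_lit 47) (nat_lit 6),
  Rule.mk (nat_lit 4) (nat_lit 177) (Steps.bwd (nat_lit 2) (Steps.fwd (nat_lit 16384) (Steps.fwd (nat_lit 8192) (Steps.fwd (nat_lit 12288) (Steps.bwd (nat_lit 2) (Steps.bwd (nat_lit 3) (Steps.fwd (nat_lit 8192) (Steps.bwd (nat_lit 4) (Steps.bwd (nat_lit 2) (Steps.bwd (nat_lit 3) (Steps.bwd (nat_lit 1) Steps.nil))))))))))) (nat_lit 9) (nat_lit 1),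
  Rule.mk (nat_lit 11) (nat_lit 117) (Steps.fwd (nat_lit 16384) (Steps.fwd (nat_lit 49152) (Steps.fwd (nat_lit 49152) (Steps.bwd (nat_lit 14) (Steps.fwd (nat_lit 28672) (Steps.bwd (nat_lit 8) (Steps.bwd (nat_lit 4) Steps.nil))))))) (nat_lit 52) (nat_lit 2),
  Rule.mk (nat_lit 4) (nat_lit 117) (Steps.bwd (nat_lit 10) (Steps.bwd (nat_lit 3) (Steps.bwd (nat_lit 9) (Steps.bwd (nat_lit 11) (Steps.fwd (nat_lit 53248) (Steps.fwd (nat_lit 28672) (Steps.fwd (nat_lit 53248) Steps.nil))))))) (nat_lit 51) (nat_lit 6),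
  Rule.mk (nat_lit 7) (nat_lit 132) (Steps.bwd (nat_lit 10) (Steps.bwd (nat_lit 12) (Steps.fwd (nat_lit 57344) (Steps.fwd (nat_lit 32768) (Steps.fwd (nat_lit 57344) (Steps.bwd (nat_lit 2) (Steps.fwd (nat_lit 53248) (Steps.bwd (nat_lit 1) Steps.nil)))))))) (nat_lit 47) (nat_lit 1),
  Rule.mk (nat_lit 3) (nat_lit 117) (Steps.bwd (nat_lit 9) (Steps.fwd (nat_lit 49152) (Steps.fwd (nat_lit 53248) (Steps.bwd (nat_lit 8) (Steps.fwd (nat_lit 53248) (Steps.fwd (nat_lit 12288) (Steps.bwd (nat_lit 10) Steps.nil))))))) (nat_lit 51) (nat_lit 0),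
  Rule.mk (nat_lit 10) (nat_lit 117) (Steps.bwd (nat_lit 3) (Steps.fwd (nat_lit 40960) (Steps.bwd (nat_lit 11) (Steps.bwd (nat_lit 14) (Steps.bwd (nat_lit 8) (Steps.fwd (nat_lit 53248) (Steps.bwd (nat_lit 4) Steps.nil))))))) (nat_lit 51) (nat_lit 7),
  Rule.mk (nat_lit 3) (nat_lit 117) (Steps.bwd (nat_lit 7) (Steps.bwd (nat_lit 7) (Steps.bwd (nat_lit 13) (Steps.fwd (nat_lit 45056) (Steps.fwd (nat_lit 45056) (Steps.bwd (nat_lit 4) (Steps.bwd (nat_lit 12) Steps.nil))))))) (nat_lit 53) (nat_lit 0),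
  Rule.mk (nat_lit 3) (nat_lit 72) (Steps.fwd (nat_lit 16384) (Steps.fwd (nat_lit 16384) (Steps.bwd (nat_lit 3) (Steps.bwd (nat_lit 3) Steps.nil)))) (nat_lit 2) (nat_lit 0),
  Rule.mk (nat_lit 1) (nat_lit 87) (Steps.fwd (nat_lit 8192) (Steps.fwd (nat_lit 12288) (Steps.fwd (nat_lit 4096) (Steps.fwd (nat_lit 4096) (Steps.bwd (nat_lit 3) Steps.nil))))) (nat_lit 7) (nat_lit 5),
  Rule.mk (nat_lit 9) (nat_lit 117) (Steps.fwd (nat_lit 49152) (Steps.bwd (nat_lit 14) (Steps.fwd (nat_lit 28672) (Steps.fwd (nat_lit 53248) (Steps.fwd (nat_lit 12288) (Steps.bwd (nat_lit 10) (Steps.bwd (nat_lit 3) Steps.nil))))))) (nat_lit 51) (nat_lit 1),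
  Rule.mk (nat_lit 8) (nat_lit 117) (Steps.bwd (nat_lit 14) (Steps.bwd (nat_lit 4) (Steps.bwd (nat_lit 10) (Steps.bwd (nat_lit 3) (Steps.bwd (nat_lit 9) (Steps.fwd (nat_lit 49152) (Steps.bwd (nat_lit 14) Steps.nil))))))) (nat_lit 51) (nat_lit 4),
  Rule.mk (nat_lit 11) (nat_lit 117) (Steps.bwd (nat_lit 14) (Steps.bwd (nat_lit 8) (Steps.bwd (nat_lit 8) (Steps.fwd (nat_lit 12288) (Steps.fwd (nat_lit 49152) (Steps.bwd (nat_lit 3) (Steps.fwd (nat_lit 49152) Steps.nil))))))) (nat_lit 52) (nat_lit 5),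
  Rule.mk (nat_lit 13) (nat_lit 132) (Steps.bwd (nat_lit 1) (Steps.fwd (nat_lit 53248) (Steps.bwd (nat_lit 8) (Steps.bwd (nat_lit 14) (Steps.fwd (nat_lit 49152) (Steps.bwd (nat_lit 9) (Steps.bwd (nat_lit 8) (Steps.bwd (nat_lit 2) Steps.nil)))))))) (nat_lit 46) (nat_lit 2),
  Rule.mk (nat_lit 11) (nat_lit 102) (Steps.bwd (nat_lit 2) (Steps.bwd (nat_lit 11) (Steps.bwd (nat_lit 1) (Steps.bwd (nat_lit 14) (Steps.fwd (nat_lit 28672) (Steps.fwd (nat_lit 49152) Steps.nil)))))) (nat_lit 44) (nat_lit 0)]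
noncomputable def R_57 : List (Rule) := [Rule.mk (nat_lit 11) (nat_lit 102) (Steps.fwd (nat_lit 4096) (Steps.bwd (nat_lit 11) (Steps.fwd (nat_lit 8192) (Steps.fwd (nat_lit 53248) (Steps.fwd (nat_lit 28672) (Steps.bwd (nat_lit 11) Steps.nil)))))) (nat_lit 44) (nat_lit 0),
  Rule.mk (nat_lit 12) (nat_lit 117) (Steps.fwd (nat_lit 36864) (Steps.bwd (nat_lit 4) (Steps.fwd (nat_lit 40960) (Steps.bwd (nat_lit 3) (Steps.fwd (nat_lit 57344) (Steps.bwd (nat_lit 7) (Steps.bwd (nat_lit 13) Steps.nil))))))) (nat_lit 50) (nat_lit 7),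
  Rule.mk (nat_lit 1) (nat_lit 132) (Steps.bwd (nat_lit 14) (Steps.fwd (nat_lit 28672) (Steps.fwd (nat_lit 53248) (Steps.bwd (nat_lit 11) (Steps.fwd (nat_lit 40960) (Steps.bwd (nat_lit 8) (Steps.bwd (nat_lit 2) (Steps.bwd (nat_lit 13) Steps.nil)))))))) (nat_lit 46) (nat_lit 3),
  Rule.mk (nat_lit 2) (nat_lit 132) (Steps.bwd (nat_lit 13) (Steps.fwd (nat_lit 8192) (Steps.fwd (nat_lit 53248) (Steps.fwd (nat_lit 28672) (Steps.fwd (nat_lit 53248) (Steps.bwd (nat_lit 11) (Steps.fwd (nat_lit 40960) (Steps.bwd (nat_lit 8) Steps.nil)))))))) (nat_lit 46) (nat_lit 1),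
  Rule.mk (nat_lit 14) (nat_lit 132) (Steps.fwd (nat_lit 8192) (Steps.fwd (nat_lit 32768) (Steps.fwd (nat_lit 36864) (Steps.bwd (nat_lit 12) (Steps.bwd (nat_lit 13) (Steps.fwd (nat_lit 32768) (Steps.bwd (nat_lit 13) (Steps.bwd (nat_lit 2) Steps.nil)))))))) (nat_lit 47) (nat_lit 8),
  Rule.mk (nat_lit 1) (nat_lit 117) (Steps.bwd (nat_lit 3) (Steps.fwd (nat_lit 8192) (Steps.fwd (nat_lit 16384) (Steps.fwd (nat_lit 8192) (Steps.bwd (nat_lit 3) (Steps.bwd (nat_lit 1) (Steps.bwd (nat_lit 3) Steps.nil))))))) (nat_lit 4) (nat_lit 1),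
  Rule.mk (nat_lit 10) (nat_lit 117) (Steps.bwd (nat_lit 3) (Steps.bwd (nat_lit 9) (Steps.bwd (nat_lit 11) (Steps.bwd (nat_lit 14) (Steps.bwd (nat_lit 8) (Steps.fwd (nat_lit 53248) (Steps.fwd (nat_lit 12288) Steps.nil))))))) (nat_lit 51) (nat_lit 7),
  Rule.mk (nat_lit 12) (nat_lit 117) (Steps.bwd (nat_lit 3) (Steps.bwd (nat_lit 7) (Steps.fwd (nat_lit 32768) (Steps.bwd (nat_lit 13) (Steps.fwd (nat_lit 45056) (Steps.bwd (nat_lit 12) (Steps.fwd (nat_lit 12288) Steps.nil))))))) (nat_lit 53) (nat_lit 7),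
  Rule.mk (nat_lit 9) (nat_lit 117) (Steps.bwd (nat_lit 3) (Steps.bwd (nat_lit 13) (Steps.bwd (nat_lit 7) (Steps.fwd (nat_lit 57344) (Steps.fwd (nat_lit 45056) (Steps.fwd (nat_lit 36864) (Steps.fwd (nat_lit 12288) Steps.nil))))))) (nat_lit 50) (nat_lit 2),
  Rule.mk (nat_lit 12) (nat_lit 117) (Steps.bwd (nat_lit 3) (Steps.bwd (nat_lit 7) (Steps.fwd (nat_lit 32768) (Steps.bwd (nat_lit 13) (Steps.bwd (nat_lit 12) (Steps.fwd (nat_lit 45056) (Steps.fwd (nat_lit 12288) Steps.nil))))))) (nat_lit 53) (nat_lit 7),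
  Rule.mk (nat_lit 2) (nat_lit 132) (Steps.bwd (nat_lit 14) (Steps.bwd (nat_lit 1) (Steps.bwd (nat_lit 7) (Steps.fwd (nat_lit 36864) (Steps.fwd (nat_lit 45056) (Steps.bwd (nat_lit 13) (Steps.fwd (nat_lit 32768) (Steps.bwd (nat_lit 13) Steps.nil)))))))) (nat_lit 47) (nat_lit 7),
  Rule.mk (nat_lit 13) (nat_lit 132) (Steps.bwd (nat_lit 1) (Steps.fwd (nat_lit 53248) (Steps.fwd (nat_lit 28672) (Steps.fwd (nat_lit 53248) (Steps.fwd (nat_lit 49152) (Steps.bwd (nat_lit 9) (Steps.fwd (nat_lit 28672) (Steps.bwd (nat_lit 2) Steps.nil)))))))) (nat_lit 46) (nat_lit 2),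
  Rule.mk (nat_lit 1) (nat_lit 102) (Steps.fwd (nat_lit 45056) (Steps.bwd (nat_lit 12) (Steps.fwd (nat_lit 32768) (Steps.fwd (nat_lit 57344) (Steps.fwd (nat_lit 4096) (Steps.bwd (nat_lit 12) Steps.nil)))))) (nat_lit 45) (nat_lit 0),
  Rule.mk (nat_lit 3) (nat_lit 117) (Steps.fwd (nat_lit 32768) (Steps.fwd (nat_lit 32768) (Steps.bwd (nat_lit 13) (Steps.bwd (nat_lit 12) (Steps.fwd (nat_lit 45056) (Steps.bwd (nat_lit 4) (Steps.bwd (nat_lit 12) Steps.nil))))))) (nat_lit 53) (nat_lit 0),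
  Rule.mk (nat_lit 8) (nat_lit 117) (Steps.bwd (nat_lit 14) (Steps.fwd (nat_lit 12288) (Steps.fwd (nat_lit 36864) (Steps.bwd (nat_lit 3) (Steps.fwd (nat_lit 40960) (Steps.fwd (nat_lit 49152) (Steps.fwd (nat_lit 53248) Steps.nil))))))) (nat_lit 51) (nat_lit 4),
  Rule.mk (nat_lit 11) (nat_lit 117) (Steps.bwd (nat_lit 14) (Steps.bwd (nat_lit 8) (Steps.fwd (nat_lit 28672) (Steps.bwd (nat_lit 4) (Steps.bwd (nat_lit 11) (Steps.bwd (nat_lit 3) (Steps.fwd (nat_lit 49152) Steps.nil))))))) (nat_lit 52) (nat_lit 5),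
  Rule.mk (nat_lit 2) (nat_lit 132) (Steps.bwd (nat_lit 14) (Steps.bwd (nat_lit 1) (Steps.bwd (nat_lit 7) (Steps.bwd (nat_lit 10) (Steps.fwd (nat_lit 45056) (Steps.bwd (nat_lit 13) (Steps.bwd (nat_lit 7) (Steps.fwd (nat_lit 57344) Steps.nil)))))))) (nat_lit 47) (nat_lit 7),
  Rule.mk (nat_lit 13) (nat_lit 132) (Steps.fwd (nat_lit 8192) (Steps.fwd (nat_lit 53248) (Steps.bwd (nat_lit 8) (Steps.fwd (nat_lit 53248) (Steps.fwd (nat_lit 49152) (Steps.bwd (nat_lit 9) (Steps.fwd (nat_lit 28672) (Steps.bwd (nat_lit 2) Steps.nil)))))))) (nat_lit 46) (nat_lit 2),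
  Rule.mk (nat_lit 7) (nat_lit 117) (Steps.bwd (nat_lit 13) (Steps.fwd (nat_lit 45056) (Steps.bwd (nat_lit 10) (Steps.bwd (nat_lit 4) (Steps.fwd (nat_lit 40960) (Steps.bwd (nat_lit 3) (Steps.fwd (nat_lit 57344) Steps.nil))))))) (nat_lit 50) (nat_lit 5),
  Rule.mk (nat_lit 11) (nat_lit 117) (Steps.bwd (nat_lit 14) (Steps.bwd (nat_lit 8) (Steps.fwd (nat_lit 28672) (Steps.fwd (nat_lit 12288) (Steps.bwd (nat_lit 11) (Steps.bwd (nat_lit 3) (Steps.fwd (nat_lit 49152) Steps.nil))))))) (nat_lit 52) (nat_lit 5),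
  Rule.mk (nat_lit 1) (nat_lit 102) (Steps.fwd (nat_lit 53248) (Steps.fwd (nat_lit 28672) (Steps.bwd (nat_lit 11) (Steps.bwd (nat_lit 11) (Steps.bwd (nat_lit 2) (Steps.bwd (nat_lit 11) Steps.nil)))))) (nat_lit 44) (nat_lit 3),
  Rule.mk (nat_lit 12) (nat_lit 117) (Steps.bwd (nat_lit 10) (Steps.fwd (nat_lit 12288) (Steps.bwd (nat_lit 9) (Steps.fwd (nat_lit 16384) (Steps.bwd (nat_lit 13) (Steps.bwd (nat_lit 7) (Steps.bwd (nat_lit 13) Steps.nil))))))) (nat_lit 50) (nat_lit 7),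
  Rule.mk (nat_lit 2) (nat_lit 132) (Steps.bwd (nat_lit 14) (Steps.bwd (nat_lit 1) (Steps.fwd (nat_lit 32768) (Steps.bwd (nat_lit 10) (Steps.fwd (nat_lit 45056) (Steps.fwd (nat_lit 57344) (Steps.fwd (nat_lit 32768) (Steps.fwd (nat_lit 57344) Steps.nil)))))))) (nat_lit 47) (nat_lit 7),
  Rule.mk (nat_lit 8) (nat_lit 87) (Steps.bwd (nat_lit 12) (Steps.bwd (nat_lit 7) (Steps.bwd (nat_lit 11) (Steps.fwd (nat_lit 65536) (Steps.fwd (nat_lit 65536) Steps.nil))))) (nat_lit 32) (nat_lit 1),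
  Rule.mk (nat_lit 13) (nat_lit 117) (Steps.bwd (nat_lit 12) (Steps.bwd (nat_lit 10) (Steps.bwd (nat_lit 4) (Steps.bwd (nat_lit 9) (Steps.fwd (nat_lit 16384) (Steps.fwd (nat_lit 57344) (Steps.fwd (nat_lit 32768) Steps.nil))))))) (nat_lit 50) (nat_lit 6),
  Rule.mk (nat_lit 4) (nat_lit 117) (Steps.bwd (nat_lit 12) (Steps.bwd (nat_lit 3) (Steps.bwd (nat_lit 7) (Steps.fwd (nat_lit 32768) (Steps.fwd (nat_lit 57344) (Steps.bwd (nat_lit 12) (Steps.bwd (nat_lit 12) Steps.nil))))))) (nat_lit 53) (nat_lit 6),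
  Rule.mk (nat_lit 10) (nat_lit 117) (Steps.bwd (nat_lit 3) (Steps.fwd (nat_lit 40960) (Steps.fwd (nat_lit 49152) (Steps.bwd (nat_lit 14) (Steps.bwd (nat_lit 8) (Steps.bwd (nat_lit 14) (Steps.bwd (nat_lit 4) Steps.nil))))))) (nat_lit 51) (nat_lit 7),
  Rule.mk (nat_lit 7) (nat_lit 132) (Steps.bwd (nat_lit 10) (Steps.fwd (nat_lit 45056) (Steps.fwd (nat_lit 57344) (Steps.fwd (nat_lit 32768) (Steps.fwd (nat_lit 57344) (Steps.bwd (nat_lit 2) (Steps.bwd (nat_lit 14) (Steps.fwd (nat_lit 8192) Steps.nil)))))))) (nat_lit 47) (nat_lit 1),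
  Rule.mk (nat_lit 10) (nat_lit 117) (Steps.fwd (nat_lit 16384) (Steps.fwd (nat_lit 40960) (Steps.fwd (nat_lit 49152) (Steps.bwd (nat_lit 14) (Steps.fwd (nat_lit 28672) (Steps.fwd (nat_lit 53248) (Steps.bwd (nat_lit 4) Steps.nil))))))) (nat_lit 51) (nat_lit 7),
  Rule.mk (nat_lit 12) (nat_lit 117) (Steps.bwd (nat_lit 3) (Steps.fwd (nat_lit 32768) (Steps.bwd (nat_lit 7) (Steps.bwd (nat_lit 13) (Steps.fwd (nat_lit 45056) (Steps.fwd (nat_lit 45056) (Steps.bwd (nat_lit 4) Steps.nil))))))) (nat_lit 53) (nat_lit 7),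
  Rule.mk (nat_lit 11) (nat_lit 102) (Steps.bwd (nat_lit 11) (Steps.fwd (nat_lit 4096) (Steps.bwd (nat_lit 11) (Steps.bwd (nat_lit 1) (Steps.fwd (nat_lit 53248) (Steps.bwd (nat_lit 8) Steps.nil)))))) (nat_lit 44) (nat_lit 6),
  Rule.mk (nat_lit 3) (nat_lit 87) (Steps.bwd (nat_lit 1) (Steps.fwd (nat_lit 8192) (Steps.fwd (nat_lit 12288) (Steps.fwd (nat_lit 4096) (Steps.fwd (nat_lit 4096) Steps.nil))))) (nat_lit 7) (nat_lit 4),
  Rule.mk (nat_lit 11) (nat_lit 102) (Steps.bwd (nat_lit 1) (Steps.fwd (nat_lit 53248) (Steps.bwd (nat_lit 8) (Steps.fwd (nat_lit 49152) (Steps.fwd (nat_lit 49152) (Steps.fwd (nat_lit 4096) Steps.nil)))))) (nat_lit 44) (nat_lit 2),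
  Rule.mk (nat_lit 13) (nat_lit 132) (Steps.bwd (nat_lit 1) (Steps.fwd (nat_lit 53248) (Steps.bwd (nat_lit 8) (Steps.fwd (nat_lit 53248) (Steps.bwd (nat_lit 11) (Steps.bwd (nat_lit 9) (Steps.fwd (nat_lit 28672) (Steps.bwd (nat_lit 2) Steps.nil)))))))) (nat_lit 46) (nat_lit 2),
  Rule.mk (nat_lit 14) (nat_lit 132) (Steps.bwd (nat_lit 1) (Steps.bwd (nat_lit 7) (Steps.fwd (nat_lit 36864) (Steps.bwd (nat_lit 12) (Steps.fwd (nat_lit 57344) (Steps.bwd (nat_lit 7) (Steps.fwd (nat_lit 57344) (Steps.fwd (nat_lit 4096) Steps.nil)))))))) (nat_lit 47) (nat_lit 8),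
  Rule.mk (nat_lit 10) (nat_lit 117) (Steps.bwd (nat_lit 3) (Steps.bwd (nat_lit 9) (Steps.bwd (nat_lit 11) (Steps.fwd (nat_lit 53248) (Steps.fwd (nat_lit 28672) (Steps.fwd (nat_lit 53248) (Steps.bwd (nat_lit 4) Steps.nil))))))) (nat_lit 51) (nat_lit 7),
  Rule.mk (nat_lit 7) (nat_lit 132) (Steps.bwd (nat_lit 10) (Steps.bwd (nat_lit 12) (Steps.fwd (nat_lit 57344) (Steps.fwd (nat_lit 32768) (Steps.fwd (nat_lit 57344) (Steps.fwd (nat_lit 4096) (Steps.fwd (nat_lit 53248) (Steps.bwd (nat_lit 1) Steps.nil)))))))) (nat_lit 47) (nat_lit 1),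
  Rule.mk (nat_lit 10) (nat_lit 117) (Steps.bwd (nat_lit 4) (Steps.bwd (nat_lit 9) (Steps.fwd (nat_lit 16384) (Steps.fwd (nat_lit 57344) (Steps.fwd (nat_lit 32768) (Steps.bwd (nat_lit 13) (Steps.bwd (nat_lit 12) Steps.nil))))))) (nat_lit 50) (nat_lit 0),
  Rule.mk (nat_lit 14) (nat_lit 117) (Steps.bwd (nat_lit 4) (Steps.bwd (nat_lit 10) (Steps.bwd (nat_lit 3) (Steps.fwd (nat_lit 40960) (Steps.fwd (nat_lit 49152) (Steps.bwd (nat_lit 14) (Steps.bwd (nat_lit 8) Steps.nil))))))) (nat_lit 51) (nat_lit 5),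
  Rule.mk (nat_lit 8) (nat_lit 87) (Steps.fwd (nat_lit 57344) (Steps.bwd (nat_lit 7) (Steps.bwd (nat_lit 15) (Steps.fwd (nat_lit 65536) (Steps.bwd (nat_lit 14) Steps.nil))))) (nat_lit 35) (nat_lit 4),
  Rule.mk (nat_lit 10) (nat_lit 117) (Steps.bwd (nat_lit 4) (Steps.fwd (nat_lit 40960) (Steps.bwd (nat_lit 3) (Steps.bwd (nat_lit 13) (Steps.bwd (nat_lit 7) (Steps.fwd (nat_lit 57344) (Steps.fwd (nat_lit 45056) Steps.nil))))))) (nat_lit 50) (nat_lit 0),
  Rule.mk (nat_lit 14) (nat_lit 117) (Steps.bwd (nat_lit 4) (Steps.bwd (nat_lit 10) (Steps.bwd (nat_lit 3) (Steps.bwd (nat_lit 9) (Steps.bwd (nat_lit 11) (Steps.fwd (nat_lit 53248) (Steps.bwd (nat_lit 8) Steps.nil))))))) (nat_lit 51) (nat_lit 5),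
  Rule.mk (nat_lit 4) (nat_lit 117) (Steps.bwd (nat_lit 9) (Steps.bwd (nat_lit 3) (Steps.fwd (nat_lit 57344) (Steps.bwd (nat_lit 7) (Steps.fwd (nat_lit 57344) (Steps.fwd (nat_lit 45056) (Steps.fwd (nat_lit 36864) Steps.nil))))))) (nat_lit 50) (nat_lit 1),
  Rule.mk (nat_lit 3) (nat_lit 177) (Steps.bwd (nat_lit 2) (Steps.bwd (nat_lit 4) (Steps.fwd (nat_lit 8192) (Steps.fwd (nat_lit 16384) (Steps.bwd (nat_lit 2) (Steps.bwd (nat_lit 4) (Steps.bwd (nat_lit 1) (Steps.fwd (nat_lit 16384) (Steps.bwd (nat_lit 2) (Steps.fwd (nat_lit 12288) (Steps.fwd (nat_lit 8192) Steps.nil))))))))))) (nat_lit 8) (nat_lit 0),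
  Rule.mk (nat_lit 13) (nat_lit 117) (Steps.fwd (nat_lit 32768) (Steps.bwd (nat_lit 13) (Steps.bwd (nat_lit 12) (Steps.fwd (nat_lit 36864) (Steps.bwd (nat_lit 4) (Steps.fwd (nat_lit 40960) (Steps.bwd (nat_lit 3) Steps.nil))))))) (nat_lit 50) (nat_lit 4),
  Rule.mk (nat_lit 10) (nat_lit 117) (Steps.bwd (nat_lit 4) (Steps.fwd (nat_lit 40960) (Steps.fwd (nat_lit 16384) (Steps.fwd (nat_lit 57344) (Steps.fwd (nat_lit 32768) (Steps.bwd (nat_lit 13) (Steps.bwd (nat_lit 12) Steps.nil))))))) (nat_lit 50) (nat_lit 0),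
  Rule.mk (nat_lit 11) (nat_lit 102) (Steps.bwd (nat_lit 1) (Steps.bwd (nat_lit 14) (Steps.fwd (nat_lit 28672) (Steps.fwd (nat_lit 49152) (Steps.bwd (nat_lit 11) (Steps.fwd (nat_lit 4096) Steps.nil)))))) (nat_lit 44) (nat_lit 2),
  Rule.mk (nat_lit 11) (nat_lit 117) (Steps.bwd (nat_lit 14) (Steps.bwd (nat_lit 8) (Steps.bwd (nat_lit 8) (Steps.fwd (nat_lit 12288) (Steps.bwd (nat_lit 11) (Steps.bwd (nat_lit 3) (Steps.bwd (nat_lit 11) Steps.nil))))))) (nat_lit 52) (nat_lit 5),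
  Rule.mk (nat_lit 9) (nat_lit 117) (Steps.bwd (nat_lit 3) (Steps.bwd (nat_lit 13) (Steps.bwd (nat_lit 7) (Steps.fwd (nat_lit 57344) (Steps.fwd (nat_lit 45056) (Steps.bwd (nat_lit 10) (Steps.bwd (nat_lit 4) Steps.nil))))))) (nat_lit 50) (nat_lit 2),
  Rule.mk (nat_lit 10) (nat_lit 117) (Steps.bwd (nat_lit 3) (Steps.fwd (nat_lit 40960) (Steps.bwd (nat_lit 11) (Steps.bwd (nat_lit 14) (Steps.fwd (nat_lit 28672) (Steps.fwd (nat_lit 53248) (Steps.bwd (nat_lit 4) Steps.nil))))))) (nat_lit 51) (nat_lit 7),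
  Rule.mk (nat_lit 11) (nat_lit 117) (Steps.bwd (nat_lit 3) (Steps.bwd (nat_lit 11) (Steps.fwd (nat_lit 49152) (Steps.fwd (nat_lit 53248) (Steps.fwd (nat_lit 28672) (Steps.fwd (nat_lit 28672) (Steps.bwd (nat_lit 4) Steps.nil))))))) (nat_lit 52) (nat_lit 2),
  Rule.mk (nat_lit 13) (nat_lit 132) (Steps.bwd (nat_lit 1) (Steps.fwd (nat_lit 53248) (Steps.bwd (nat_lit 8) (Steps.fwd (nat_lit 53248) (Steps.fwd (nat_lit 49152) (Steps.fwd (nat_lit 40960) (Steps.bwd (nat_lit 8) (Steps.bwd (nat_lit 2) Steps.nil)))))))) (nat_lit 46) (nat_lit 2),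
  Rule.mk (nat_lit 14) (nat_lit 132) (Steps.bwd (nat_lit 1) (Steps.bwd (nat_lit 7) (Steps.bwd (nat_lit 10) (Steps.fwd (nat_lit 45056) (Steps.bwd (nat_lit 13) (Steps.bwd (nat_lit 7) (Steps.fwd (nat_lit 57344) (Steps.fwd (nat_lit 4096) Steps.nil)))))))) (nat_lit 47) (nat_lit 8),
  Rule.mk (nat_lit 3) (nat_lit 177) (Steps.bwd (nat_lit 2) (Steps.bwd (nat_lit 4) (Steps.bwd (nat_lit 1) (Steps.fwd (nat_lit 16384) (Steps.bwd (nat_lit 2) (Steps.bwd (nat_lit 4) (Steps.fwd (nat_lit 8192) (Steps.bwd (nat_lit 3) (Steps.bwd (nat_lit 2) (Steps.fwd (nat_lit 12288) (Steps.fwd (nat_lit 8192) Steps.nil))))))))))) (nat_lit 8) (nat_lit 0),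
  Rule.mk (nat_lit 13) (nat_lit 117) (Steps.fwd (nat_lit 32768) (Steps.bwd (nat_lit 13) (Steps.fwd (nat_lit 45056) (Steps.fwd (nat_lit 36864) (Steps.fwd (nat_lit 12288) (Steps.fwd (nat_lit 40960) (Steps.bwd (nat_lit 3) Steps.nil))))))) (nat_lit 50) (nat_lit 4),
  Rule.mk (nat_lit 3) (nat_lit 117) (Steps.bwd (nat_lit 7) (Steps.bwd (nat_lit 7) (Steps.fwd (nat_lit 57344) (Steps.fwd (nat_lit 45056) (Steps.bwd (nat_lit 12) (Steps.fwd (nat_lit 12288) (Steps.bwd (nat_lit 12) Steps.nil))))))) (nat_lit 53) (nat_lit 0),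
  Rule.mk (nat_lit 1) (nat_lit 117) (Steps.fwd (nat_lit 16384) (Steps.bwd (nat_lit 1) (Steps.fwd (nat_lit 16384) (Steps.fwd (nat_lit 8192) (Steps.bwd (nat_lit 3) (Steps.bwd (nat_lit 1) (Steps.bwd (nat_lit 3) Steps.nil))))))) (nat_lit 4) (nat_lit 1),
  Rule.mk (nat_lit 9) (nat_lit 117) (Steps.fwd (nat_lit 49152) (Steps.bwd (nat_lit 14) (Steps.bwd (nat_lit 8) (Steps.bwd (nat_lit 14) (Steps.fwd (nat_lit 12288) (Steps.fwd (nat_lit 36864) (Steps.bwd (nat_lit 3) Steps.nil))))))) (nat_lit 51) (nat_lit 1),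
  Rule.mk (nat_lit 4) (nat_lit 117) (Steps.fwd (nat_lit 49152) (Steps.fwd (nat_lit 16384) (Steps.bwd (nat_lit 11) (Steps.bwd (nat_lit 11) (Steps.fwd (nat_lit 53248) (Steps.fwd (nat_lit 28672) (Steps.bwd (nat_lit 8) Steps.nil))))))) (nat_lit 52) (nat_lit 1),
  Rule.mk (nat_lit 10) (nat_lit 117) (Steps.bwd (nat_lit 3) (Steps.fwd (nat_lit 40960) (Steps.fwd (nat_lit 49152) (Steps.bwd (nat_lit 14) (Steps.bwd (nat_lit 8) (Steps.bwd (nat_lit 14) (Steps.fwd (nat_lit 12288) Steps.nil))))))) (nat_lit 51) (nat_lit 7),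
  Rule.mk (nat_lit 11) (nat_lit 117) (Steps.bwd (nat_lit 14) (Steps.fwd (nat_lit 28672) (Steps.bwd (nat_lit 14) (Steps.fwd (nat_lit 12288) (Steps.fwd (nat_lit 36864) (Steps.fwd (nat_lit 16384) (Steps.bwd (nat_lit 9) Steps.nil))))))) (nat_lit 51) (nat_lit 2),
  Rule.mk (nat_lit 13) (nat_lit 132) (Steps.bwd (nat_lit 1) (Steps.bwd (nat_lit 14) (Steps.bwd (nat_lit 8) (Steps.fwd (nat_lit 53248) (Steps.fwd (nat_lit 49152) (Steps.fwd (nat_lit 40960) (Steps.bwd (nat_lit 8) (Steps.bwd (nat_lit 2) Steps.nil)))))))) (nat_lit 46) (nat_lit 2),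
  Rule.mk (nat_lit 10) (nat_lit 117) (Steps.bwd (nat_lit 3) (Steps.fwd (nat_lit 40960) (Steps.bwd (nat_lit 11) (Steps.bwd (nat_lit 14) (Steps.bwd (nat_lit 8) (Steps.bwd (nat_lit 14) (Steps.fwd (nat_lit 12288) Steps.nil))))))) (nat_lit 51) (nat_lit 7),
  Rule.mk (nat_lit 3) (nat_lit 117) (Steps.bwd (nat_lit 13) (Steps.bwd (nat_lit 7) (Steps.fwd (nat_lit 57344) (Steps.fwd (nat_lit 45056) (Steps.fwd (nat_lit 36864) (Steps.fwd (nat_lit 12288) (Steps.bwd (nat_lit 9) Steps.nil))))))) (nat_lit 50) (nat_lit 3)]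
noncomputable def R_58 : List (Rule) := [Rule.mk (nat_lit 2) (nat_lit 132) (Steps.bwd (nat_lit 13) (Steps.fwd (nat_lit 8192) (Steps.fwd (nat_lit 53248) (Steps.bwd (nat_lit 8) (Steps.bwd (nat_lit 14) (Steps.fwd (nat_lit 49152) (Steps.bwd (nat_lit 9) (Steps.fwd (nat_lit 28672) Steps.nil)))))))) (nat_lit 46) (nat_lit 1),
  Rule.mk (nat_lit 14) (nat_lit 132) (Steps.bwd (nat_lit 1) (Steps.bwd (nat_lit 7) (Steps.bwd (nat_lit 10) (Steps.bwd (nat_lit 12) (Steps.fwd (nat_lit 57344) (Steps.fwd (nat_lit 32768) (Steps.bwd (nat_lit 13) (Steps.bwd (nat_lit 2) Steps.nil)))))))) (nat_lit 47) (nat_lit 8),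
  Rule.mk (nat_lit 13) (nat_lit 132) (Steps.fwd (nat_lit 8192) (Steps.bwd (nat_lit 14) (Steps.bwd (nat_lit 8) (Steps.fwd (nat_lit 53248) (Steps.fwd (nat_lit 49152) (Steps.fwd (nat_lit 40960) (Steps.fwd (nat_lit 28672) (Steps.bwd (nat_lit 2) Steps.nil)))))))) (nat_lit 46) (nat_lit 2),
  Rule.mk (nat_lit 12) (nat_lit 102) (Steps.bwd (nat_lit 1) (Steps.bwd (nat_lit 12) (Steps.bwd (nat_lit 12) (Steps.bwd (nat_lit 7) (Steps.bwd (nat_lit 13) (Steps.fwd (nat_lit 4096) Steps.nil)))))) (nat_lit 45) (nat_lit 6),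
  Rule.mk (nat_lit 13) (nat_lit 132) (Steps.bwd (nat_lit 1) (Steps.bwd (nat_lit 14) (Steps.bwd (nat_lit 8) (Steps.fwd (nat_lit 53248) (Steps.bwd (nat_lit 11) (Steps.fwd (nat_lit 40960) (Steps.fwd (nat_lit 28672) (Steps.bwd (nat_lit 2) Steps.nil)))))))) (nat_lit 46) (nat_lit 2),
  Rule.mk (nat_lit 14) (nat_lit 132) (Steps.bwd (nat_lit 1) (Steps.bwd (nat_lit 7) (Steps.fwd (nat_lit 36864) (Steps.fwd (nat_lit 45056) (Steps.bwd (nat_lit 13) (Steps.fwd (nat_lit 32768) (Steps.fwd (nat_lit 57344) (Steps.bwd (nat_lit 2) Steps.nil)))))))) (nat_lit 47) (nat_lit 8),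
  Rule.mk (nat_lit 7) (nat_lit 117) (Steps.bwd (nat_lit 7) (Steps.fwd (nat_lit 57344) (Steps.fwd (nat_lit 45056) (Steps.bwd (nat_lit 12) (Steps.fwd (nat_lit 12288) (Steps.fwd (nat_lit 45056) (Steps.fwd (nat_lit 16384) Steps.nil))))))) (nat_lit 53) (nat_lit 1),
  Rule.mk (nat_lit 1) (nat_lit 132) (Steps.bwd (nat_lit 7) (Steps.fwd (nat_lit 36864) (Steps.fwd (nat_lit 45056) (Steps.fwd (nat_lit 57344) (Steps.fwd (nat_lit 32768) (Steps.bwd (nat_lit 13) (Steps.bwd (nat_lit 2) (Steps.bwd (nat_lit 14) Steps.nil)))))))) (nat_lit 47) (nat_lit 0),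
  Rule.mk (nat_lit 3) (nat_lit 87) (Steps.fwd (nat_lit 4096) (Steps.fwd (nat_lit 4096) (Steps.fwd (nat_lit 12288) (Steps.fwd (nat_lit 8192) (Steps.bwd (nat_lit 1) Steps.nil))))) (nat_lit 6) (nat_lit 0),
  Rule.mk (nat_lit 1) (nat_lit 117) (Steps.bwd (nat_lit 3) (Steps.bwd (nat_lit 1) (Steps.fwd (nat_lit 16384) (Steps.fwd (nat_lit 8192) (Steps.bwd (nat_lit 3) (Steps.fwd (nat_lit 8192) (Steps.fwd (nat_lit 16384) Steps.nil))))))) (nat_lit 4) (nat_lit 1),
  Rule.mk (nat_lit 4) (nat_lit 117) (Steps.bwd (nat_lit 10) (Steps.fwd (nat_lit 16384) (Steps.bwd (nat_lit 9) (Steps.bwd (nat_lit 11) (Steps.fwd (nat_lit 53248) (Steps.fwd (nat_lit 28672) (Steps.fwd (nat_lit 53248) Steps.nil))))))) (nat_lit 51) (nat_lit 6),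
  Rule.mk (nat_lit 9) (nat_lit 117) (Steps.bwd (nat_lit 3) (Steps.bwd (nat_lit 13) (Steps.fwd (nat_lit 32768) (Steps.fwd (nat_lit 57344) (Steps.fwd (nat_lit 45056) (Steps.fwd (nat_lit 36864) (Steps.bwd (nat_lit 4) Steps.nil))))))) (nat_lit 50) (nat_lit 2),
  Rule.mk (nat_lit 9) (nat_lit 132) (Steps.bwd (nat_lit 8) (Steps.bwd (nat_lit 2) (Steps.fwd (nat_lit 57344) (Steps.bwd (nat_lit 1) (Steps.fwd (nat_lit 53248) (Steps.bwd (nat_lit 8) (Steps.fwd (nat_lit 53248) (Steps.bwd (nat_lit 11) Steps.nil)))))))) (nat_lit 46) (nat_lit 8),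
  Rule.mk (nat_lit 3) (nat_lit 117) (Steps.fwd (nat_lit 57344) (Steps.fwd (nat_lit 32768) (Steps.fwd (nat_lit 57344) (Steps.bwd (nat_lit 12) (Steps.fwd (nat_lit 36864) (Steps.bwd (nat_lit 4) (Steps.bwd (nat_lit 9) Steps.nil))))))) (nat_lit 50) (nat_lit 3),
  Rule.mk (nat_lit 11) (nat_lit 117) (Steps.bwd (nat_lit 3) (Steps.fwd (nat_lit 49152) (Steps.fwd (nat_lit 49152) (Steps.fwd (nat_lit 53248) (Steps.fwd (nat_lit 28672) (Steps.bwd (nat_lit 8) (Steps.bwd (nat_lit 4) Steps.nil))))))) (nat_lit 52) (nat_lit 2),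
  Rule.mk (nat_lit 9) (nat_lit 132) (Steps.bwd (nat_lit 8) (Steps.bwd (nat_lit 2) (Steps.bwd (nat_lit 13) (Steps.bwd (nat_lit 1) (Steps.fwd (nat_lit 53248) (Steps.fwd (nat_lit 28672) (Steps.bwd (nat_lit 14) (Steps.fwd (nat_lit 49152) Steps.nil)))))))) (nat_lit 46) (nat_lit 8),
  Rule.mk (nat_lit 11) (nat_lit 117) (Steps.bwd (nat_lit 3) (Steps.fwd (nat_lit 49152) (Steps.fwd (nat_lit 49152) (Steps.bwd (nat_lit 14) (Steps.bwd (nat_lit 8) (Steps.bwd (nat_lit 8) (Steps.fwd (nat_lit 12288) Steps.nil))))))) (nat_lit 52) (nat_lit 2),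
  Rule.mk (nat_lit 10) (nat_lit 117) (Steps.bwd (nat_lit 3) (Steps.bwd (nat_lit 9) (Steps.bwd (nat_lit 11) (Steps.bwd (nat_lit 14) (Steps.bwd (nat_lit 8) (Steps.bwd (nat_lit 14) (Steps.bwd (nat_lit 4) Steps.nil))))))) (nat_lit 51) (nat_lit 7),
  Rule.mk (nat_lit 11) (nat_lit 117) (Steps.bwd (nat_lit 3) (Steps.bwd (nat_lit 11) (Steps.fwd (nat_lit 49152) (Steps.bwd (nat_lit 14) (Steps.fwd (nat_lit 28672) (Steps.fwd (nat_lit 28672) (Steps.fwd (nat_lit 12288) Steps.nil))))))) (nat_lit 52) (nat_lit 2),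
  Rule.mk (nat_lit 13) (nat_lit 117) (Steps.bwd (nat_lit 12) (Steps.bwd (nat_lit 10) (Steps.fwd (nat_lit 12288) (Steps.bwd (nat_lit 9) (Steps.bwd (nat_lit 3) (Steps.fwd (nat_lit 57344) (Steps.bwd (nat_lit 7) Steps.nil))))))) (nat_lit 50) (nat_lit 6),
  Rule.mk (nat_lit 9) (nat_lit 117) (Steps.bwd (nat_lit 3) (Steps.fwd (nat_lit 57344) (Steps.bwd (nat_lit 7) (Steps.fwd (nat_lit 57344) (Steps.bwd (nat_lit 12) (Steps.fwd (nat_lit 36864) (Steps.bwd (nat_lit 4) Steps.nil))))))) (nat_lit 50) (nat_lit 2),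
  Rule.mk (nat_lit 12) (nat_lit 117) (Steps.bwd (nat_lit 3) (Steps.bwd (nat_lit 7) (Steps.bwd (nat_lit 7) (Steps.bwd (nat_lit 13) (Steps.bwd (nat_lit 12) (Steps.fwd (nat_lit 45056) (Steps.bwd (nat_lit 4) Steps.nil))))))) (nat_lit 53) (nat_lit 7),
  Rule.mk (nat_lit 12) (nat_lit 102) (Steps.bwd (nat_lit 12) (Steps.fwd (nat_lit 32768) (Steps.bwd (nat_lit 13) (Steps.fwd (nat_lit 4096) (Steps.bwd (nat_lit 12) (Steps.bwd (nat_lit 1) Steps.nil)))))) (nat_lit 45) (nat_lit 1),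
  Rule.mk (nat_lit 10) (nat_lit 132) (Steps.bwd (nat_lit 12) (Steps.bwd (nat_lit 13) (Steps.bwd (nat_lit 7) (Steps.bwd (nat_lit 13) (Steps.bwd (nat_lit 2) (Steps.fwd (nat_lit 53248) (Steps.bwd (nat_lit 1) (Steps.bwd (nat_lit 7) Steps.nil)))))))) (nat_lit 47) (nat_lit 2),
  Rule.mk (nat_lit 14) (nat_lit 132) (Steps.bwd (nat_lit 1) (Steps.fwd (nat_lit 32768) (Steps.bwd (nat_lit 10) (Steps.bwd (nat_lit 12) (Steps.bwd (nat_lit 13) (Steps.fwd (nat_lit 32768) (Steps.bwd (nat_lit 13) (Steps.fwd (nat_lit 4096) Steps.nil)))))))) (nat_lit 47) (nat_lit 8),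
  Rule.mk (nat_lit 10) (nat_lit 117) (Steps.bwd (nat_lit 4) (Steps.bwd (nat_lit 9) (Steps.fwd (nat_lit 16384) (Steps.fwd (nat_lit 57344) (Steps.bwd (nat_lit 7) (Steps.bwd (nat_lit 13) (Steps.fwd (nat_lit 45056) Steps.nil))))))) (nat_lit 50) (nat_lit 0),
  Rule.mk (nat_lit 14) (nat_lit 117) (Steps.bwd (nat_lit 4) (Steps.bwd (nat_lit 10) (Steps.bwd (nat_lit 3) (Steps.bwd (nat_lit 9) (Steps.bwd (nat_lit 11) (Steps.fwd (nat_lit 53248) (Steps.fwd (nat_lit 28672) Steps.nil))))))) (nat_lit 51) (nat_lit 5),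
  Rule.mk (nat_lit 11) (nat_lit 117) (Steps.bwd (nat_lit 14) (Steps.bwd (nat_lit 8) (Steps.bwd (nat_lit 14) (Steps.fwd (nat_lit 12288) (Steps.bwd (nat_lit 10) (Steps.fwd (nat_lit 16384) (Steps.bwd (nat_lit 9) Steps.nil))))))) (nat_lit 51) (nat_lit 2),
  Rule.mk (nat_lit 2) (nat_lit 132) (Steps.bwd (nat_lit 14) (Steps.fwd (nat_lit 8192) (Steps.bwd (nat_lit 7) (Steps.fwd (nat_lit 36864) (Steps.fwd (nat_lit 45056) (Steps.bwd (nat_lit 13) (Steps.fwd (nat_lit 32768) (Steps.bwd (nat_lit 13) Steps.nil)))))))) (nat_lit 47) (nat_lit 7),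
  Rule.mk (nat_lit 13) (nat_lit 132) (Steps.fwd (nat_lit 8192) (Steps.fwd (nat_lit 53248) (Steps.fwd (nat_lit 28672) (Steps.bwd (nat_lit 14) (Steps.fwd (nat_lit 49152) (Steps.fwd (nat_lit 40960) (Steps.bwd (nat_lit 8) (Steps.bwd (nat_lit 2) Steps.nil)))))))) (nat_lit 46) (nat_lit 2),
  Rule.mk (nat_lit 4) (nat_lit 117) (Steps.bwd (nat_lit 12) (Steps.fwd (nat_lit 16384) (Steps.fwd (nat_lit 32768) (Steps.fwd (nat_lit 32768) (Steps.fwd (nat_lit 57344) (Steps.bwd (nat_lit 12) (Steps.bwd (nat_lit 12) Steps.nil))))))) (nat_lit 53) (nat_lit 6),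
  Rule.mk (nat_lit 10) (nat_lit 117) (Steps.fwd (nat_lit 16384) (Steps.fwd (nat_lit 40960) (Steps.fwd (nat_lit 49152) (Steps.fwd (nat_lit 53248) (Steps.fwd (nat_lit 28672) (Steps.bwd (nat_lit 14) (Steps.bwd (nat_lit 4) Steps.nil))))))) (nat_lit 51) (nat_lit 7),
  Rule.mk (nat_lit 4) (nat_lit 117) (Steps.bwd (nat_lit 9) (Steps.bwd (nat_lit 3) (Steps.fwd (nat_lit 57344) (Steps.fwd (nat_lit 32768) (Steps.fwd (nat_lit 57344) (Steps.bwd (nat_lit 12) (Steps.bwd (nat_lit 10) Steps.nil))))))) (nat_lit 50) (nat_lit 1),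
  Rule.mk (nat_lit 3) (nat_lit 117) (Steps.bwd (nat_lit 9) (Steps.bwd (nat_lit 11) (Steps.fwd (nat_lit 53248) (Steps.fwd (nat_lit 28672) (Steps.bwd (nat_lit 14) (Steps.bwd (nat_lit 4) (Steps.bwd (nat_lit 10) Steps.nil))))))) (nat_lit 51) (nat_lit 0),
  Rule.mk (nat_lit 10) (nat_lit 117) (Steps.fwd (nat_lit 16384) (Steps.fwd (nat_lit 40960) (Steps.fwd (nat_lit 49152) (Steps.fwd (nat_lit 53248) (Steps.fwd (nat_lit 28672) (Steps.fwd (nat_lit 53248) (Steps.bwd (nat_lit 4) Steps.nil))))))) (nat_lit 51) (nat_lit 7),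
  Rule.mk (nat_lit 9) (nat_lit 132) (Steps.bwd (nat_lit 8) (Steps.fwd (nat_lit 4096) (Steps.bwd (nat_lit 13) (Steps.fwd (nat_lit 8192) (Steps.fwd (nat_lit 53248) (Steps.fwd (nat_lit 28672) (Steps.fwd (nat_lit 53248) (Steps.bwd (nat_lit 11) Steps.nil)))))))) (nat_lit 46) (nat_lit 8),
  Rule.mk (nat_lit 3) (nat_lit 117) (Steps.fwd (nat_lit 57344) (Steps.fwd (nat_lit 32768) (Steps.fwd (nat_lit 57344) (Steps.fwd (nat_lit 45056) (Steps.bwd (nat_lit 10) (Steps.bwd (nat_lit 4) (Steps.bwd (nat_lit 9) Steps.nil))))))) (nat_lit 50) (nat_lit 3),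
  Rule.mk (nat_lit 11) (nat_lit 117) (Steps.bwd (nat_lit 3) (Steps.fwd (nat_lit 49152) (Steps.bwd (nat_lit 11) (Steps.fwd (nat_lit 53248) (Steps.fwd (nat_lit 28672) (Steps.bwd (nat_lit 8) (Steps.bwd (nat_lit 4) Steps.nil))))))) (nat_lit 52) (nat_lit 2),
  Rule.mk (nat_lit 1) (nat_lit 132) (Steps.fwd (nat_lit 32768) (Steps.fwd (nat_lit 36864) (Steps.fwd (nat_lit 45056) (Steps.fwd (nat_lit 57344) (Steps.bwd (nat_lit 7) (Steps.fwd (nat_lit 57344) (Steps.fwd (nat_lit 4096) (Steps.bwd (nat_lit 14) Steps.nil)))))))) (nat_lit 47) (nat_lit 0),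
  Rule.mk (nat_lit 4) (nat_lit 117) (Steps.bwd (nat_lit 9) (Steps.bwd (nat_lit 3) (Steps.bwd (nat_lit 13) (Steps.bwd (nat_lit 7) (Steps.fwd (nat_lit 57344) (Steps.bwd (nat_lit 12) (Steps.fwd (nat_lit 36864) Steps.nil))))))) (nat_lit 50) (nat_lit 1),
  Rule.mk (nat_lit 3) (nat_lit 117) (Steps.bwd (nat_lit 9) (Steps.bwd (nat_lit 11) (Steps.bwd (nat_lit 14) (Steps.bwd (nat_lit 8) (Steps.fwd (nat_lit 53248) (Steps.bwd (nat_lit 4) (Steps.bwd (nat_lit 10) Steps.nil))))))) (nat_lit 51) (nat_lit 0),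
  Rule.mk (nat_lit 10) (nat_lit 117) (Steps.bwd (nat_lit 3) (Steps.bwd (nat_lit 9) (Steps.fwd (nat_lit 49152) (Steps.fwd (nat_lit 53248) (Steps.fwd (nat_lit 28672) (Steps.bwd (nat_lit 14) (Steps.bwd (nat_lit 4) Steps.nil))))))) (nat_lit 51) (nat_lit 7),
  Rule.mk (nat_lit 3) (nat_lit 117) (Steps.bwd (nat_lit 9) (Steps.fwd (nat_lit 49152) (Steps.fwd (nat_lit 53248) (Steps.fwd (nat_lit 28672) (Steps.fwd (nat_lit 53248) (Steps.bwd (nat_lit 4) (Steps.bwd (nat_lit 10) Steps.nil))))))) (nat_lit 51) (nat_lit 0),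
  Rule.mk (nat_lit 4) (nat_lit 117) (Steps.bwd (nat_lit 11) (Steps.bwd (nat_lit 3) (Steps.bwd (nat_lit 11) (Steps.fwd (nat_lit 49152) (Steps.fwd (nat_lit 53248) (Steps.fwd (nat_lit 28672) (Steps.bwd (nat_lit 8) Steps.nil))))))) (nat_lit 52) (nat_lit 1),
  Rule.mk (nat_lit 2) (nat_lit 87) (Steps.fwd (nat_lit 4096) (Steps.bwd (nat_lit 3) (Steps.bwd (nat_lit 1) (Steps.bwd (nat_lit 1) (Steps.bwd (nat_lit 4) Steps.nil))))) (nat_lit 7) (nat_lit 2),
  Rule.mk (nat_lit 3) (nat_lit 117) (Steps.bwd (nat_lit 7) (Steps.fwd (nat_lit 32768) (Steps.fwd (nat_lit 57344) (Steps.fwd (nat_lit 45056) (Steps.fwd (nat_lit 45056) (Steps.bwd (nat_lit 4) (Steps.bwd (nat_lit 12) Steps.nil))))))) (nat_lit 53) (nat_lit 0),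
  Rule.mk (nat_lit 1) (nat_lit 87) (Steps.fwd (nat_lit 8192) (Steps.bwd (nat_lit 4) (Steps.fwd (nat_lit 4096) (Steps.fwd (nat_lit 4096) (Steps.bwd (nat_lit 3) Steps.nil))))) (nat_lit 7) (nat_lit 5),
  Rule.mk (nat_lit 13) (nat_lit 132) (Steps.bwd (nat_lit 1) (Steps.bwd (nat_lit 14) (Steps.fwd (nat_lit 28672) (Steps.bwd (nat_lit 14) (Steps.bwd (nat_lit 11) (Steps.fwd (nat_lit 40960) (Steps.bwd (nat_lit 8) (Steps.fwd (nat_lit 4096) Steps.nil)))))))) (nat_lit 46) (nat_lit 2),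
  Rule.mk (nat_lit 14) (nat_lit 132) (Steps.bwd (nat_lit 1) (Steps.bwd (nat_lit 7) (Steps.bwd (nat_lit 10) (Steps.fwd (nat_lit 45056) (Steps.bwd (nat_lit 13) (Steps.fwd (nat_lit 32768) (Steps.fwd (nat_lit 57344) (Steps.bwd (nat_lit 2) Steps.nil)))))))) (nat_lit 47) (nat_lit 8),
  Rule.mk (nat_lit 3) (nat_lit 117) (Steps.bwd (nat_lit 13) (Steps.bwd (nat_lit 7) (Steps.fwd (nat_lit 57344) (Steps.fwd (nat_lit 45056) (Steps.bwd (nat_lit 10) (Steps.fwd (nat_lit 12288) (Steps.bwd (nat_lit 9) Steps.nil))))))) (nat_lit 50) (nat_lit 3),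
  Rule.mk (nat_lit 2) (nat_lit 132) (Steps.bwd (nat_lit 13) (Steps.bwd (nat_lit 1) (Steps.bwd (nat_lit 14) (Steps.fwd (nat_lit 28672) (Steps.bwd (nat_lit 14) (Steps.fwd (nat_lit 49152) (Steps.bwd (nat_lit 9) (Steps.fwd (nat_lit 28672) Steps.nil)))))))) (nat_lit 46) (nat_lit 1),
  Rule.mk (nat_lit 14) (nat_lit 132) (Steps.fwd (nat_lit 8192) (Steps.fwd (nat_lit 32768) (Steps.bwd (nat_lit 10) (Steps.fwd (nat_lit 45056) (Steps.bwd (nat_lit 13) (Steps.bwd (nat_lit 7) (Steps.fwd (nat_lit 57344) (Steps.bwd (nat_lit 2) Steps.nil)))))))) (nat_lit 47) (nat_lit 8),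
  Rule.mk (nat_lit 2) (nat_lit 132) (Steps.bwd (nat_lit 13) (Steps.fwd (nat_lit 8192) (Steps.bwd (nat_lit 14) (Steps.bwd (nat_lit 8) (Steps.bwd (nat_lit 14) (Steps.fwd (nat_lit 49152) (Steps.bwd (nat_lit 9) (Steps.bwd (nat_lit 8) Steps.nil)))))))) (nat_lit 46) (nat_lit 1),
  Rule.mk (nat_lit 4) (nat_lit 87) (Steps.fwd (nat_lit 8192) (Steps.fwd (nat_lit 8192) (Steps.fwd (nat_lit 16384) (Steps.fwd (nat_lit 4096) (Steps.bwd (nat_lit 2) Steps.nil))))) (nat_lit 6) (nat_lit 3),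
  Rule.mk (nat_lit 14) (nat_lit 132) (Steps.fwd (nat_lit 8192) (Steps.fwd (nat_lit 32768) (Steps.bwd (nat_lit 10) (Steps.fwd (nat_lit 45056) (Steps.fwd (nat_lit 57344) (Steps.fwd (nat_lit 32768) (Steps.fwd (nat_lit 57344) (Steps.bwd (nat_lit 2) Steps.nil)))))))) (nat_lit 47) (nat_lit 8),
  Rule.mk (nat_lit 13) (nat_lit 102) (Steps.bwd (nat_lit 2) (Steps.fwd (nat_lit 45056) (Steps.fwd (nat_lit 8192) (Steps.fwd (nat_lit 45056) (Steps.fwd (nat_lit 45056) (Steps.fwd (nat_lit 32768) Steps.nil)))))) (nat_lit 45) (nat_lit 4),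
  Rule.mk (nat_lit 7) (nat_lit 132) (Steps.bwd (nat_lit 10) (Steps.fwd (nat_lit 45056) (Steps.fwd (nat_lit 57344) (Steps.bwd (nat_lit 7) (Steps.bwd (nat_lit 13) (Steps.fwd (nat_lit 4096) (Steps.bwd (nat_lit 14) (Steps.bwd (nat_lit 1) Steps.nil)))))))) (nat_lit 47) (nat_lit 1),
  Rule.mk (nat_lit 3) (nat_lit 117) (Steps.bwd (nat_lit 9) (Steps.bwd (nat_lit 11) (Steps.bwd (nat_lit 14) (Steps.bwd (nat_lit 8) (Steps.fwd (nat_lit 53248) (Steps.fwd (nat_lit 12288) (Steps.bwd (nat_lit 10) Steps.nil))))))) (nat_lit 51) (nat_lit 0),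
  Rule.mk (nat_lit 13) (nat_lit 132) (Steps.bwd (nat_lit 1) (Steps.fwd (nat_lit 53248) (Steps.fwd (nat_lit 28672) (Steps.bwd (nat_lit 14) (Steps.bwd (nat_lit 11) (Steps.bwd (nat_lit 9) (Steps.fwd (nat_lit 28672) (Steps.fwd (nat_lit 4096) Steps.nil)))))))) (nat_lit 46) (nat_lit 2),
  Rule.mk (nat_lit 2) (nat_lit 132) (Steps.bwd (nat_lit 14) (Steps.bwd (nat_lit 1) (Steps.bwd (nat_lit 7) (Steps.bwd (nat_lit 10) (Steps.fwd (nat_lit 45056) (Steps.bwd (nat_lit 13) (Steps.fwd (nat_lit 32768) (Steps.bwd (nat_lit 13) Steps.nil)))))))) (nat_lit 47) (nat_lit 7),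
  Rule.mk (nat_lit 13) (nat_lit 132) (Steps.bwd (nat_lit 1) (Steps.bwd (nat_lit 14) (Steps.fwd (nat_lit 28672) (Steps.fwd (nat_lit 53248) (Steps.fwd (nat_lit 49152) (Steps.bwd (nat_lit 9) (Steps.bwd (nat_lit 8) (Steps.bwd (nat_lit 2) Steps.nil)))))))) (nat_lit 46) (nat_lit 2),
  Rule.mk (nat_lit 3) (nat_lit 117) (Steps.bwd (nat_lit 13) (Steps.bwd (nat_lit 7) (Steps.fwd (nat_lit 57344) (Steps.fwd (nat_lit 45056) (Steps.fwd (nat_lit 36864) (Steps.bwd (nat_lit 4) (Steps.bwd (nat_lit 9) Steps.nil))))))) (nat_lit 50) (nat_lit 3),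
  Rule.mk (nat_lit 2) (nat_lit 132) (Steps.bwd (nat_lit 13) (Steps.fwd (nat_lit 8192) (Steps.bwd (nat_lit 14) (Steps.bwd (nat_lit 8) (Steps.fwd (nat_lit 53248) (Steps.bwd (nat_lit 11) (Steps.fwd (nat_lit 40960) (Steps.fwd (nat_lit 28672) Steps.nil)))))))) (nat_lit 46) (nat_lit 1),
  Rule.mk (nat_lit 14) (nat_lit 132) (Steps.fwd (nat_lit 8192) (Steps.bwd (nat_lit 7) (Steps.fwd (nat_lit 36864) (Steps.fwd (nat_lit 45056) (Steps.fwd (nat_lit 57344) (Steps.bwd (nat_lit 7) (Steps.bwd (nat_lit 13) (Steps.bwd (nat_lit 2) Steps.nil)))))))) (nat_lit 47) (nat_lit 8)]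
noncomputable def R_59 : List (Rule) := [Rule.mk (nat_lit 4) (nat_lit 117) (Steps.bwd (nat_lit 12) (Steps.fwd (nat_lit 16384) (Steps.bwd (nat_lit 7) (Steps.bwd (nat_lit 7) (Steps.fwd (nat_lit 57344) (Steps.fwd (nat_lit 45056) (Steps.fwd (nat_lit 45056) Steps.nil))))))) (nat_lit 53) (nat_lit 6),
  Rule.mk (nat_lit 10) (nat_lit 117) (Steps.fwd (nat_lit 16384) (Steps.fwd (nat_lit 40960) (Steps.fwd (nat_lit 49152) (Steps.bwd (nat_lit 14) (Steps.bwd (nat_lit 8) (Steps.fwd (nat_lit 53248) (Steps.bwd (nat_lit 4) Steps.nil))))))) (nat_lit 51) (nat_lit 7),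
  Rule.mk (nat_lit 11) (nat_lit 102) (Steps.bwd (nat_lit 11) (Steps.fwd (nat_lit 4096) (Steps.fwd (nat_lit 49152) (Steps.bwd (nat_lit 1) (Steps.fwd (nat_lit 53248) (Steps.fwd (nat_lit 28672) Steps.nil)))))) (nat_lit 44) (nat_lit 6),
  Rule.mk (nat_lit 4) (nat_lit 117) (Steps.bwd (nat_lit 11) (Steps.bwd (nat_lit 3) (Steps.fwd (nat_lit 49152) (Steps.bwd (nat_lit 11) (Steps.bwd (nat_lit 14) (Steps.fwd (nat_lit 28672) (Steps.fwd (nat_lit 28672) Steps.nil))))))) (nat_lit 52) (nat_lit 1),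
  Rule.mk (nat_lit 3) (nat_lit 117) (Steps.bwd (nat_lit 7) (Steps.fwd (nat_lit 32768) (Steps.fwd (nat_lit 57344) (Steps.fwd (nat_lit 45056) (Steps.fwd (nat_lit 45056) (Steps.fwd (nat_lit 12288) (Steps.bwd (nat_lit 12) Steps.nil))))))) (nat_lit 53) (nat_lit 0),
  Rule.mk (nat_lit 13) (nat_lit 132) (Steps.bwd (nat_lit 1) (Steps.bwd (nat_lit 14) (Steps.bwd (nat_lit 8) (Steps.bwd (nat_lit 14) (Steps.bwd (nat_lit 11) (Steps.fwd (nat_lit 40960) (Steps.fwd (nat_lit 28672) (Steps.bwd (nat_lit 2) Steps.nil)))))))) (nat_lit 46) (nat_lit 2),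
  Rule.mk (nat_lit 4) (nat_lit 117) (Steps.bwd (nat_lit 10) (Steps.bwd (nat_lit 3) (Steps.bwd (nat_lit 9) (Steps.bwd (nat_lit 11) (Steps.fwd (nat_lit 53248) (Steps.bwd (nat_lit 8) (Steps.bwd (nat_lit 14) Steps.nil))))))) (nat_lit 51) (nat_lit 6),
  Rule.mk (nat_lit 11) (nat_lit 102) (Steps.bwd (nat_lit 1) (Steps.bwd (nat_lit 14) (Steps.bwd (nat_lit 8) (Steps.fwd (nat_lit 49152) (Steps.bwd (nat_lit 11) (Steps.fwd (nat_lit 4096) Steps.nil)))))) (nat_lit 44) (nat_lit 2),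
  Rule.mk (nat_lit 13) (nat_lit 132) (Steps.bwd (nat_lit 1) (Steps.bwd (nat_lit 14) (Steps.bwd (nat_lit 8) (Steps.fwd (nat_lit 53248) (Steps.fwd (nat_lit 49152) (Steps.fwd (nat_lit 40960) (Steps.fwd (nat_lit 28672) (Steps.fwd (nat_lit 4096) Steps.nil)))))))) (nat_lit 46) (nat_lit 2),
  Rule.mk (nat_lit 14) (nat_lit 132) (Steps.bwd (nat_lit 1) (Steps.bwd (nat_lit 7) (Steps.fwd (nat_lit 36864) (Steps.fwd (nat_lit 45056) (Steps.bwd (nat_lit 13) (Steps.bwd (nat_lit 7) (Steps.bwd (nat_lit 13) (Steps.fwd (nat_lit 4096) Steps.nil)))))))) (nat_lit 47) (nat_lit 8),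
  Rule.mk (nat_lit 2) (nat_lit 102) (Steps.bwd (nat_lit 12) (Steps.bwd (nat_lit 1) (Steps.bwd (nat_lit 12) (Steps.bwd (nat_lit 12) (Steps.fwd (nat_lit 32768) (Steps.bwd (nat_lit 13) Steps.nil)))))) (nat_lit 45) (nat_lit 5),
  Rule.mk (nat_lit 1) (nat_lit 102) (Steps.bwd (nat_lit 12) (Steps.bwd (nat_lit 12) (Steps.fwd (nat_lit 32768) (Steps.bwd (nat_lit 13) (Steps.bwd (nat_lit 2) (Steps.bwd (nat_lit 12) Steps.nil)))))) (nat_lit 45) (nat_lit 0),
  Rule.mk (nat_lit 13) (nat_lit 117) (Steps.bwd (nat_lit 12) (Steps.fwd (nat_lit 36864) (Steps.bwd (nat_lit 4) (Steps.bwd (nat_lit 9) (Steps.fwd (nat_lit 16384) (Steps.bwd (nat_lit 13) (Steps.fwd (nat_lit 32768) Steps.nil))))))) (nat_lit 50) (nat_lit 6),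
  Rule.mk (nat_lit 4) (nat_lit 117) (Steps.bwd (nat_lit 12) (Steps.fwd (nat_lit 16384) (Steps.bwd (nat_lit 7) (Steps.fwd (nat_lit 32768) (Steps.fwd (nat_lit 57344) (Steps.bwd (nat_lit 12) (Steps.fwd (nat_lit 45056) Steps.nil))))))) (nat_lit 53) (nat_lit 6),
  Rule.mk (nat_lit 10) (nat_lit 117) (Steps.fwd (nat_lit 16384) (Steps.bwd (nat_lit 9) (Steps.bwd (nat_lit 11) (Steps.bwd (nat_lit 14) (Steps.bwd (nat_lit 8) (Steps.fwd (nat_lit 53248) (Steps.bwd (nat_lit 4) Steps.nil))))))) (nat_lit 51) (nat_lit 7),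
  Rule.mk (nat_lit 11) (nat_lit 117) (Steps.bwd (nat_lit 3) (Steps.bwd (nat_lit 11) (Steps.bwd (nat_lit 11) (Steps.bwd (nat_lit 14) (Steps.bwd (nat_lit 8) (Steps.fwd (nat_lit 28672) (Steps.bwd (nat_lit 4) Steps.nil))))))) (nat_lit 52) (nat_lit 2),
  Rule.mk (nat_lit 12) (nat_lit 117) (Steps.bwd (nat_lit 3) (Steps.bwd (nat_lit 7) (Steps.bwd (nat_lit 7) (Steps.bwd (nat_lit 13) (Steps.fwd (nat_lit 45056) (Steps.fwd (nat_lit 45056) (Steps.fwd (nat_lit 12288) Steps.nil))))))) (nat_lit 53) (nat_lit 7),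
  Rule.mk (nat_lit 4) (nat_lit 117) (Steps.bwd (nat_lit 12) (Steps.bwd (nat_lit 3) (Steps.fwd (nat_lit 32768) (Steps.bwd (nat_lit 7) (Steps.bwd (nat_lit 13) (Steps.fwd (nat_lit 45056) (Steps.bwd (nat_lit 12) Steps.nil))))))) (nat_lit 53) (nat_lit 6),
  Rule.mk (nat_lit 10) (nat_lit 117) (Steps.bwd (nat_lit 3) (Steps.fwd (nat_lit 40960) (Steps.fwd (nat_lit 49152) (Steps.bwd (nat_lit 14) (Steps.fwd (nat_lit 28672) (Steps.fwd (nat_lit 53248) (Steps.bwd (nat_lit 4) Steps.nil))))))) (nat_lit 51) (nat_lit 7),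
  Rule.mk (nat_lit 7) (nat_lit 132) (Steps.bwd (nat_lit 10) (Steps.fwd (nat_lit 45056) (Steps.fwd (nat_lit 57344) (Steps.fwd (nat_lit 32768) (Steps.bwd (nat_lit 13) (Steps.bwd (nat_lit 2) (Steps.bwd (nat_lit 14) (Steps.bwd (nat_lit 1) Steps.nil)))))))) (nat_lit 47) (nat_lit 1),
  Rule.mk (nat_lit 10) (nat_lit 117) (Steps.bwd (nat_lit 4) (Steps.fwd (nat_lit 40960) (Steps.fwd (nat_lit 16384) (Steps.bwd (nat_lit 13) (Steps.bwd (nat_lit 7) (Steps.fwd (nat_lit 57344) (Steps.fwd (nat_lit 45056) Steps.nil))))))) (nat_lit 50) (nat_lit 0),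
  Rule.mk (nat_lit 14) (nat_lit 117) (Steps.bwd (nat_lit 4) (Steps.fwd (nat_lit 36864) (Steps.bwd (nat_lit 3) (Steps.bwd (nat_lit 9) (Steps.fwd (nat_lit 49152) (Steps.bwd (nat_lit 14) (Steps.fwd (nat_lit 28672) Steps.nil))))))) (nat_lit 51) (nat_lit 5),
  Rule.mk (nat_lit 8) (nat_lit 117) (Steps.bwd (nat_lit 4) (Steps.fwd (nat_lit 49152) (Steps.fwd (nat_lit 16384) (Steps.bwd (nat_lit 11) (Steps.fwd (nat_lit 49152) (Steps.fwd (nat_lit 53248) (Steps.fwd (nat_lit 28672) Steps.nil))))))) (nat_lit 52) (nat_lit 0)]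
noncomputable def R : List (List (Rule)) := [R_0, R_1, R_2, R_3, R_4, R_5, R_6, R_7, R_8, R_9, R_10, R_11, R_12, R_13, R_14, R_15, R_16, R_17, R_18, R_19, R_20, R_21, R_22, R_23, R_24, R_25, R_26, R_27, R_28, R_29, R_30, R_31, R_32, R_33, R_34, R_35, R_36, R_37, R_38, R_39, R_40, R_41, R_42, R_43, R_44, R_45, R_46, R_47, R_48, R_49, R_50, R_51, R_52, R_53, R_54, R_55, R_56, R_57, R_58, R_59]
def LW : List Word := [[], [0], [1], [2], [3], [4], [5], [20], [21], [22], [23], [24], [25], [26], [27], [28], [29], [0], [1], [2], [3]]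
def par : Par := ⟨12, 5, 17, 29, 4095, 131071, 536870911⟩
theorem hpar : par.ok := by decide
theorem hR0_0 : lall (ltake (R) 21) (fun l => lall l (ruleOK r44 LW par)) = true := by decide +kernel
theorem hR0_1 : lall (ltake (ldrop (R) 21) 19) (fun l => lall l (ruleOK r44 LW par)) = true := by decide +kernel
theorem hR0_2 : lall (ldrop (ldrop (R) 21) 19) (fun l => lall l (ruleOK r44 LW par)) = true := by decide +kernel
theorem hR0 : lall (R) (fun l => lall l (ruleOK r44 LW par)) = true := (lall_split 21 hR0_0 (lall_split 19 hR0_1 hR0_2))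
theorem hR : RulesOK r44 LW par R := rulesOK_of rfl hR0
def cols : List (ℕ × ℕ) := [(4096, 2), (12288, 4), (20480, 6), (28672, 8), (36864, 10), (45056, 12), (53248, 14), (61440, 16)]
theorem hcols : lall cols (colOK r44 LW par) = true := by decide +kernel
noncomputable def JS0 : List ℕ := [nat_lit 0x180000c5e1898030318000000010022313005c62c801218b431300580090c5c189602a000062c801a014002231306250088c5a18b231586258c4a01300000030625009000d18b031280440018c4f189402031240040008006189201a31486270c4800f18943124624007000c000031200340000c4e001e01600186248c4700a18a031386258c48188e01800000008c4700b0004313862380500000080004000c0040c46009188a010000002000000070004311001c6220030000000431100140020c47188800800086230c44003000231146220010c44001,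
  nat_lit 0x2d0002000c0030c5a02c18ca000462d0080c59001000231a4008815800318d2006862c0150c57008000000080020120002001e315808c6390c6018aa05200080048c5500d18b8316c62a0120001000631500a062b8c5618a601c00006350c5302700400030629813000000143148094006000018a401a000000e0c5d02418c631486288118000002e314409000b800018a2046000062c8024022000c3144628010800000043140080001002418a003e00086288c6318cc00200048c5001e0002007400d0c4f01d004800886300c4e01c00000014010801c01b000a005862680d0c62000600100048c4d019,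
  nat_lit 0x641800701818e2000000e0020001a31e46380210c93001600001040000168000000231fc6370200001001000200080218009003a007863681f8006004231b00f00008c6d004e07c0110636800118d607a31a80b40000008000004431a40f0021802f18fc323463481d804518f800ac0210c6903a001200ec0000c78039004a00180020001038000000e40200c780370000002000063900360360030000463201a8c630060002319000a81a0c88007400046310198c6102d000000231fc6338c6003200000098637018800202d18c00014000001703018ee31c0000000202f0002000c62f002002e,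
  nat_lit 0x190c321c64182a0001000e32081640018c8519040b032040b40000c82000a0ae00040358c80056190401cc63f82a8068190231fc1506400078190031fc14c63f000018fc0a431f803a8c7e0511942000463f028005c000031f813c0000040ca500dc01c802b0c7f18fa09c01580268c9c194631f413402c0c9a0092015463e8260001194c006c0d80000040001c09600100010c88004e00740100c7b04a002c002401c0c7a02c0012004c6480c79049006231f400001a8001008007431e80010c77048001600280008c7604718ea01000000198c7c001008c31e40008019003432440100c74045000800dc639822002d18e6000063b0218000006,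
  nat_lit 0x40230648037800600e6323c1b80008c91191e03e01c86488c8e06d0002332c647036000000d800101ac0380c8e191a0d4000065f8c8d06900d632386468350000197632341a40020c8e191a0d032300b40030c8e19180ce32940000c8c066000005a018c646000219160ca000402000a8cc619140c800006460c89063000232306448310001004632240ac0018011198432241846440040000191200341800008c89190e0be00180028c8605e0004001c64302e8000001198a321864282e00030000321016c0000168000000e01c003f8c8305a,
  nat_lit 0x14e328c2146788ca619460fe00040030ca20840142004c65104180030022328420800080b31944102000005980100800152328864f83f800d000a32781f80000001193a0fa00046780c9d07c0006004064e83d80a1002432701e80010032007232701e400400a119360f0327c6740c9a0771966000864d02a0cb6006c000400182980021932000065a83b0001000632d465a03a8000000200001cc00080ab000232581d000000a900000e6029064d8c95072000032906550110018194432540008c940711926010325c0498c9307000043368649037800c00ea32441b80010c97192203e331864b8c9006d,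
  nat_lit 0x119ec00ac65b04a0000011232dc24c0450cc7005432d42480000cb61968088000465c0cf1196812200086628cb407b000c009865983680020164007c65983a0cc3003e32c82400018024196411a02c40160cb108f00ae009465801f0002014232c023865e00a1195e0ee00040028caf08d19e4007065703d0001013032b81b00000d04197e11803040050cad08b000600106560058015195c32ac13c0160cb71956040031c0100caa08a000800786548050001008007e0134658001419501120010005000b194e012030c00d8ca6088194a010000065300ab087000232986520430ca3006,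
  nat_lit 0x8a0150298672804b19920fe01f80268cc80a500a0339c6638520001001a331821003a0001198e331828c0030003198a144000067f0cf90a1007c00006620500000000233742100018d00198610400000200000cc3008013e000c67a8d2f00fc33042786600168001000033042740018015199232fc268036803e197c13832f40200000168011197a32f026c0010cbe197e32f026865d804000002d0000014402b0cba09900a034280000460000198402d42600050cb9197012e00040040cb802700ce000465c802c197012c32f00150cb7050000032e00180060095,
  nat_lit 0x21000433702e802a000019b6172000000f801e00c633f82e0002800119b4004014866d0cd90b7000005a000466d0cff19f633602d866e8d2019b015e000c0350cd70b50132027c66b05a00020148016066b059801500b033541f00340cf919a810a347c0298cd619a81640000000805419a816200040168ce619ea33502c007a0d1819a815e024804c0cd30ae000000c01406698cd207d0004000066885680000080002023c687805019a0158000c6a58cd00ab1a200414667855000002d1a18021402a8cd5199c152341c00a8ccd0a8000400246660050088010800100030ccc0a700f8001866584e0cca008,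
  nat_lit 0x33b0020001004000002d19dc049c675065000001da33a43240778cea19d20b033a00b400000400001aa2339c3240778ce819ce19033980b40000cfc024c339831c0150007000c01f4673063000119d000dc6730628118015a3394310000000119ca11e00040170ce50c3000000b008a8ce50c2005200040000d1219ca182000403e807200e21800000059802401019d400446720ce30bf00000100000007000f19c417c0008002007f19c417a000000c0ce708119d6001067083f8ce219c233802f0007000319be0ae35940000cde084000401000000108ce70bb,
  nat_lit 0x15c6b38d020bb0006039c68086f00011a4c01a837400000561ac819200bc0008d0019fe1b802ac6a38cfe0db000402b001706d00931b32352c67e86c8006017633f01dc0558d4319f61b000000b40008002017c030c67d06b80ac1a9c33e408c001806e19f204e01a86928cf807a0000023409a00b60d6000200080360d250044008c67b86a806b01a8012067b06a0002013c34bc04386980ce00ee01cc67a869000200ea01c867a068809d00e433cc1b0001804119e60f604906a88cf20d00094026467881f00f700160004678867801119e40008678067000100060020334699800119de02033b80040008cf41a54198000c0058ced0cb,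
  nat_lit 0x1b7e351c68987380241a4635b00018d130e6001e00380008d120e51a2205a00000698d170e4004c344468801080000002344008000080051a2011a34746a50d100e30004022c687810000002d005605400b98d0e0e2010435d868680f80001a1c343009c0010005000c3430384685804000002d0002030c062816d1a141c0003469a80a31a141a203046a68d0908e0000000c6840338003000a008c68403c8d481b10341c1c004901411a0c0de02746c88d0506e0000343c682854001a1a10341423400f00041a0813000040010d03031024234106818640d0202d000034a00a10d020df,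
  nat_lit 0x50000349c140001804000102d1a98054c00e0d250f500b0003c0090d2402c000401986970d230491aee353000001a800000800c4352069085c800102d00c0348c69007a00000004347c3cc001005c1a3e0c400000200010d20002e34783c809f80031a3a1e200000200000d3b00b234703c000080051a380080004020000813b1a7201283bc0080d1a000036c83b86bf00f00006346868c87680071a3a347868c0760d1702d0000010000068c0d7601cc1d6000468d0d150ea0002050468a8158d17000200080b78d150e91a2801000080100d140e8,
  nat_lit 0xe34f069d83200021a7a34ec0ac00000431a9c1c800c46a1000c000234e840869c80400000022002840469d0d39000234e02486ab0071000234e040002a0003000234dc3440000d38009e01442540008dd1002234d825000001751a6e12605b86a880481a6a1fe00000008d34018000234dc0b98d340fe1a9e033869a07e8002000a34cc3f0001818b01ea02bc3ec0000005008801c00146d00d3100d018804406980120188022034bc3e802d00581a5c1f200100b98d2e0781a8a05fc69683b8d9b1b9c34b03e000000041b3605000100690d2b07b02d636086950390001021602ec3dc0000d9802dc1ec01700010d28066,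
  nat_lit 0x6a8800a1a9a19035300b4000016800202a005446a5816000702a435280100000168dd71a9400046a48870000008000005c06a4031817b1a9235203206a3816800002b637b06a38868158010c02146d98d4710c00023520700810410b0000000c03180710d9000800686a28440d44008000001886a80850d6a020606bc6a188480021a8806b06a108400170314350441c0000040001000400186a00830d3f0080004061069f80a8004004004b869f882803f025a34f841069e80400001a7c35100d80008d3e000634f040c0038d3f1a7613600006a00d3b062,
  nat_lit 0xd5f02d000002b00b4019f116000200106af0080d5d0010000028c05408a80a31bca35700340a401461ab622800086e80d5a02b0006357008b8d5a105031404606ac8440d58008000005a00006ac8d57107000004486ab87d0113030a35606ab8898d5602d000237f86ab00a8002009a37946ab0708d55008000005a01180238d560000355044800000300000052354c11001800851c08354c4446a9802d0086354844001900831aca35482440008002005635442cc0010d52002005540c00008003001621e35a40008d4f0351a9c00c00046aa0110034,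
  nat_lit 0x385c0c40e16001235cc49000180041aea35c848c6c280071ae224435c002000001680000004394470c8d6f1210002080c6e38d6f1201ae800046b783d8e3d000235b82600000e3b000c23e38906b700001ada23c0004005001d1ada0ea00000050d6e11d000e38387008d6c11c000005b86b581e017a000000046b584881e21c1635ac46c00000031ad402a0010020000000800002f804a842801280271b16014c6da80c61ace234004870c0e001acc18a00086b38df81aca232000402009a8e18000e359036400000031ac6126000c0d681631ac60e836a80028000118000005a00106b201221ac222e38546ec8d60068,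
  nat_lit 0x168dac000200086c30960d870004055c6c3095805c00ca07886c2895002b1cbe36101900a98029000023000040b400f0001006636084a46c900311b0224a00006c0801a128000200106c98033127000005a000c00900141afc05800080b40010d7f001435f44986c58d811af80c800300058d7b0ca000200bc6bd874000102d0004000c6bd0338d8f1af635e4494001016802a1b0e36106bc03c80011af235dc1b000900131aec20e00086bc0d760881aea01000000b4000800e001e35d02640008004006435d03086bd0d881ae61e8000c6bc0d7302b,
  nat_lit 0x3008000205a378010d8e4e1b3826c000c00301bd1b360803740044018c1b3423200000688003135019a045c6dc001b003801e06cc89a0003010a06206cc09980001bd602140f006a8004000a365c2440de8212000c36582cc0418d971b2a23a03f00730d95005030e37bc6ca08a00d301c6364c18800100821b2402a000803400831b2426408b86e20d911311b2001001980000d900c30002010000800201e61b1e26036e872c8d8e05500000010033000b12f000400200398d8d0371be039346c609702140398362c2600028db200c400004b4000000805f013836240f000001a21b1003005c46da0000010,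
  nat_lit 0x3af00bd04f8262000600106da0a301511b6a36cc060000825f02ee0480514000024d00d628809440780db1143000236c86d80a101b2036e052c6d80a0800201f036bc03408f011c1b5c280000c73500eb1b5c27e03cc0758dad13e0000046c00f81101231bec36b023406500c11b560f4001405f0daa031000205a001804380b91b5227a36c005080b81b50278003c0070da70c8045c37b86d30340da502d0000369808206e80021cf802446d209d8081011c368c06800080051b461c63a1008f0da213a1b9e08bc00009c80001bda04b010909c00c800b6014c6d500211b4236804dc00380021b3e0cc02a40000d9e0c3,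
  nat_lit 0xdd20000373019800081680020412372c1b87458e9b1b9424a380c7490dcb0008372855474901481b92110372002004180851bea3720528000824b1d1c371c3640a201ff1b8c0d20568004012e1b8c2a8002471f812f1b8a276012405d80001cd02a6023802d8de8000000840118dce152003a0000720015514b02b039040008dd21511c3a000008f8a80122000205480a889e80dc000038f00aa89901470002000009084880d2014400046df0de51bc636f453c0a30e8100e836f053800000a601ca37d05340520000011c36ec5306f480001bf202bc52c05880001b74074c5280000002036e37e42c400100031cbe39ac6dc0a48dc0027a36e038c75f0e4a1b6e290000c0bc0db60de000206f40990e29147,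
  nat_lit 0x31df807e86f0878016704263a806f0032823203ec377c01410a01f71bbc2803b980000dde004000405a000c0a28ddd06f03e639486ee037016e0284376c17800300031c4a376c5640e20eb51bb40da00100b400000400020002036006a8ac00000081bb6002c6eb04080001bae375441c0000ea81d4e375431400180051baa0d037500b4001001703822ae00000b47518ea40010374855802e80641ba8374444c00100031ba00b0373c0b4000004000100b437a46e70780002042c085c6e70610e131d4037343d000080181b9a1d0084005d8dcc015,
  nat_lit 0x37206f073d8df5162000037d80b10df4161000037d86fa07200011d2e05846fa0b00004039e06d46fa0af81b2036a37cc18800000400001d8c3b2c27c00d0001000c37c457873f01801be000837dc02e0000041000005a382c0bc80141bdc2ba00100070ded00d047a004c6f6002817c002637ac3e80000e5f028a126397400100031bd423837b40030deb1bd22b809f00010de80db027a06286f407400001cf0379c46c73b818d1bd0379c56c6f30168000008000004a80c08de515a1c9c00006f2833000102d000c05206f203781411cae378c41c0010168000008,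
  nat_lit 0x601b870580a80251de23a8c0550e0b16d000a3a6871f8e0a0611d2202a870484e0e0800803ea3a580000b6000000043a100348b58002000638180407028008e811c1000187028b50001000638102307488065037e38105a47020ea5037c380c4400c200631d48380c34800080021c042d00008020001000e00be380459c7500e7c1c0011800840af0dff081000800047050dff02f1bfc05a382402e8000041000405a38300ba8dfc166000c05d46fd836017b1d0237e84940db81e204da3a200008dfa165000001000047628238046c3a182b00000e04003c2c83a800de0df81bec2c637d80008df505d,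
  nat_lit 0x403bc02340568950e751ca000000d400000400900368009c7108ba8004030a38ac7100ba0ec71c54387c41070f004000102d000601300258e1d1261d42061c70e04d80000080006004070f8e1b1731c4c388870d0668e190080000010387075f81d51c302e438b80ea0e1711400060afc70b00a800601520b9470b0b8801403483aa870a8b80ea61d5238504887098040000000602980d800281741d2a3848444740814a1c2227202880bd8e1009b000238440b4016a170000005a000c002800a1c1c2de05b40058e0d16e1c1805a00e80b18e0c0e8,
  nat_lit 0x25600080028e3c17d01aa000800005d0004040c3d6071d8610e8b02243d3871d08880d5060438e42e807a03081c702f0005c7ad8e3717c015406180000e381c7204e871b8bd800401ce03247390bd00c10002000c0900008e3802362f2000000681b3178001c0b540018e331201cec00007190280004008000405a000073b811f1e8418a38c000101dc1c5e0e83a7c04d0ed41c5c058038805201301c5a00e0a587290000031000402900a7007709a0000000c05209a80031e32039c71508880a101d038a43280000e5b1d742ee00080020e2800e062004307138bb00011eb80aa847c0000315013e28809b476a0e311c4a29800040030e24050,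
  nat_lit 0x861cf2079c72a08c8000000a394c1981520f6304f40004528782827a00000ee000000202770bb00063cb81390ef31ca0306038810201e11c9e1d839380b408d0004000a393833c061817f1c9e39343fc001017501843ca44a80008ec2019c30400000b880ca09f02e23cc40760e4a181000400100740e4911c0196033072408500c501d0391c36c0018f2d1ec4391c244000819c03241c800000f280e218003be0004722810827a0002391023c000027c1dcc0f005d400080041c861243b1c75e0000125000209f0787017411e000007740c601b027b019639e80610e4017f1dca3dc80600e3f17e1e580b241308000100000204b809a02c0000008,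
  nat_lit 0x473480041cce2a20000020000006800ca39983c003600b51cce399856c73281680011d34399405400180a1017802d47328c60e64008000205a000c74c8e9a1cc631602707db0f0f1cc431400000b4165826e01e6398462405b00f31cc00c400000780e5f0150000010000010902241e3031003c40000e5d0c30000010001400300081cb82e400140b41080f0f1eba396c4fc7b283581cb430e07a01b18e591861ee00d8c72c09f00eb1f2c395c61400080051cac1e600047b28f6a1cac2be00101550e5511b04d2395872a8320002055009a472a8c20000008,
  nat_lit 0x39f0020000016800003a639ec3cc0e78f121cf61f200147e50e7a0150176000004b8b3000000043ab805d0cb000101683cec190029004c808000490ca8000016608dc7af8fd31941cf0000473b0c983891cec39d46480000168001046e0a387e80e741910002000c73a05e0232015839cc64000182871ce60220000055822f08101423a7404b8e720ff000400100fc0e710ce04b007d873806d800200800083aa80448e6f0b31e723a547370460085010839b463c00001682e91ef000087360c700b7000439ac1e8001000800001663de020474f006e00d439a46340008e6a1cd007801800320e67018,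
  nat_lit 0x11500a81d4c000067c0008ef8029800e85d000001680030008055c0e88e9319e00043cfc02f834800103fe3c982380000ef3028633a082000380041d20128054c1bc8e901d1e2bc09480000e8e0c3000601000040b400301551e6c3a306707a20e8b00003cbc43812703721d1419208240030000118000205a022075500661d1007a001400480651d0e33605407960e8619a1d0a05a00007ce0004135011202280b8016e00a63a84742021013b027204fc74189b00031d46048c741096000005b601840d80a9015300043a04664772815500063a0066002f8e801cfe1e600047e80222044232e000c7400f431cfc20a0e007a10e7d104,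
  nat_lit 0x18002a3ab85200028fd41e1c0de00ec00000011aa00043d6c7be8eb91a9000001000140850fcf02d03aa865010f0f131d520520cfc0b30ea81a80140058475385d80000370005469c00080021d4c0f004147b28ea508e00023f300d98d3821400023a902347d20ea41d460f6000475201e81e783d386980000168003045808ac1730ea105a000006d80c88d28005000e3a8038c04781641d3e0400e5079a8e9e1481e1a3c387ed0e9e1a41d48009c1c28e9d1a3047a3fb874e0b601b007343a6c618050039a1d343443cbc7f20e991a10000010000001f01500298022c6800010e981d2e03e07447948e96027,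
  nat_lit 0x280171dec3b185d41d18ef71d8a19a02a00558ec40cb1d8601003400a60ec31ae06ce053076103d000000023b040c4000816814900060010760048800b1e4a3afc47400001680021ece031875f04c836001863af446c0ac0ef31d7802a0e587750ebd1d780c23aec0200010ee61d7605600000a901ff00d1e3800080028eba1ad1d7201007041c601db1d722560a601aa01da1d7033800240e90eb70ba02dc05b075b0d6008f03563ad45f00f700000004354000c0d701e303d007a000879d02a51570000010003c12e000900143ac46ac05580ae1d6004600040040eaf180,
  nat_lit 0x20504083b7c17802e0f041dbe040001404b8ede08a1dda0a5c0000b4000120183eb8270000016834a0696020476d83280021db63b685dc09a00801db200a0008002000b01e40e3c6d000080031db407e86cc000016800301940d1403d8ed61b21e4641301af0ed60d2000c03bc1ae8ed51b106ba0d6c76a03800c606863b4c23800180ea071c2f200007b802101e181a80cb47b601d51da2360001c06a8ed001f01d207c076784c02cb1ebe3b380c47bd83b6030a3b386bc11b00c01e063b3468c05e833803063b306701528f3a1d962d8066c0c00eca1a2019e03747648be00031eea05ec1a90a50002075e0ccc05c03b0000008,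
  nat_lit 0x38f891df019a3bdc0201ae0f83000206407f80f980001bb00003f0c7e201e403ca3e080f98dd029807b0404c77a0dc800500183bcc1b81ac03591de410208c87cb8ef1107000205a09181228f9b1de006600387c20f9a1dde37000100028eee0681dda05a00000b40008eed000c08306e00000168001200e0f647750db823b069e3ba446c7c602271dd43ba45c4774004000002d1ef43e101118ee718903e4088c7730a000021ee23b941880000168f75046a00107720db01eb00003b8c0100018168f501eee3b886d400180081dc211c08081008ee0168,
  nat_lit 0x3982341e24188000002d805c1eb20bf40b5804b1c400220028000020800002d0006001c0e10f0f1c307dc3ecc787064011904883c347087860168005002e00707860e0800f01160ad078583c902905643c281e014d02af1e1211c3e0c1590f080f8000e08308340f0812a00223c2c8150f0713f000001006648108001081000203cc078802800001ec408870000100071e0604600f001e8f020e4021e04307808a4000200f603c45e40008f1c04c02f006d80fb01f71f1606cc1b58eff1bf000800187800efe1be00be3ea01b30efd01d1e8609087d20efc1bd06e004000000de000100800ea04101048efa132020008b01040ef9173,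
  nat_lit 0x100043e947958df041a1f503ca86ec1c68004000c3ca81200e600061e521103ca0020001804000105480a7470000001f107142ae3fa80428f2513e00020204792064814a1eee3c903e879f01451e461ce000c7dd8f22015000e00407e70f2206100f43cfc79084403df04c03c8027078f804000302d000e3e6c1f00f1e13f03280f1478e8c3037c20d03c7019000403dc1e361e600087e583b606ea2e000000e281e010a03843e3c0378f191b0000600180378f181c6038e3cb878b8368002049609283740000268061238a09a07de024d1e2a0e841741fa0fba1e282bc00080038f13066,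
  nat_lit 0x1600607a204b82fc05643d0c6080010168000008000a00fc7a88f4115a04c80a648578f4015d00d841c879f831000104ea019c70800000402660002001479e8be803601003cf01987f0026d1e7c000073c0008009000c11000000b400380081e90010479c8cf00791f6a3ce073800002671e8600c07341328f380000398000002000282a01e823cd42f883000351e682ee04f001a8f331cb05d23cf879908a004300623cc43e400082581faa3cc4370028005100c03cc07287e90f8400002a000000b40a28f8108a200087970e481130648000009c0008391071c39000001ca105d1c7,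
  nat_lit 0x8007001600547540000f5d1f3206c001808f81211eb606e095824281241eb43a8074c0920f5901f00523df47ac013800202d0000010001012d010e1eac2b404507c9010e1eaa2ba0004020002033001303d5074c00381171eea3d4c1247f880971ea40cc0000020001047120663d442f882090321ea0228000c176902a1ea03620d288150f4f06700000103e2823502f71e9c3a4409417a0f4d0e700080b087a600a800908e4404c1600f4c1d10198033c12d0f4b1d0204840487a509882ba057a3d244107a40040002019e3dd47000000f480880078001c036806b1e8c2060a081588f45064,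
  nat_lit 0x42b21903ddc7bb0c7007200023dd4764000903c1f3602a01c403b800300083dd076c7b980400002078032476816e82421ee43b203d807b8f711ae218e401c7b80390006047c3dbc0f800181ba069240384a800081e003bc3f6c26800001681df20e4400c7b60b781b404783dac760241023a1ed43ae3da40b4001804000102d037807847b40f670c503683ebc0028f66040028204280010f650f21ff400007b2033000302d000000147cf014000500143d881e009b01dd1ec20d80d740ee8f6005e000005a42840bb8037006a3d7c758815003a1ebc04a00140160f5d142,
  nat_lit 0x402000201201f9e3e3862c004837906f03e3401c15303751f18034000002000182a102aa3e2c5680ab8fd51f141ce0008020002000800723e244340a68f951f101e8010001e8f870550000010421425b02871f0c3a400101418f8502b001212e014582881f0a3c0422c1c28389050c3e10554836905b050e3e0c77c01882851f041383e0402000002bf21fc26a0af015c80561f003bc001c03100561efe24c08cc7c88f7e139008801207be832041600aa3df032881b81a9000008200000b47f1041308200fe07bd0ee800407e63de40a07c680621ef00d400007ce90f803601623e740010f771dc,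
  nat_lit 0xc22d10bb1f4e3d4000401800180091f4c3d210601108fa51e808a440a47d202d8ffd082a3e9079c003115c1f463cc000c7fe10a320543ca0e1826805090a2a146028a8fa200003c800140e610b308983e8476c1dc111d223c144c7d00f1818421b83e7c78810d84491f3c1963e74020002100c1f3a0203e70004002004000202d000a00200b88f9a130215c3fac7cc87a005c00be3e603cc008016c1f2e1920004003800b002c3aa00007cb9004036000c05501c18f95037050644f084c8f941d407120e087c980f8fc601d03e48260001016800000800080ab00dd0f900be20fa0d200dc0f8f1e1,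
  nat_lit 0x611e025b852000204b8408015c000117122423f210e87e0800f1f7c33000240050fbd1f8091e00307de0f7044000143eec3cc0d28fbc1f741920f2824580021f7039c12200008080001086a0e1885d0fb000002d090c44ec21581a31f6c3ea007000e8fb5054049e06887da0fa0004033e3ecc7cc0000040000085c10bc23a84361f2090044d421390101f623e200180088fb00581f5e05a00041e604341f00000004c0078f783cc08483eb415889784241f583dc43c88780fab0f3000e00187d502a8000008000208ac22c90eb1f523da147c895841a1f503d8089820e0fab1f503d600000010fa70bb,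
  nat_lit 0x229212b08a5002b1fb00b410000158fd7176092c00ac7eb0fa002c00563f548080008030fd600023f508048ad8fd41fa63240000020001802808bc13447e9100000100109263f507e883f800100043f4029001100041f9e0b600047ed8fcf011000e00781fa82561f9e3fe3f38020001813f1f9e0ae00000f3801703605a60b581fe8fcc1c108ec45dc2448fcb095040444ac7e503e000309123f2420400b84831f9023a000089a913408902de43ac1f4025402683f1c7f8248100a1f8c3d2444009a0fc51fd000004bc7e20fe012c097600007ec0000040007001006b47e10fd0fc1008,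
  nat_lit 0x80030049009c3fac85c2ae804120003fa885801480501fd40ba00180298fe91e60000107c15202051b3083a45f87f88fef000a00187f410a843122880bc80b80fe7214008401001d501701fcc42600ac0b80fe521205e840f07f2108841602de3f8c7a00038fe71fc642005b00020fe220f00003f8c0b0107000000023f84600000000102c03f8483400002261fc24180088012003a22b2000c0000fe120b00003f88001905000022a03f805d80168fe100023f8081825b84b8005e3f808240010feb1fbe4100000020000800709dc139c7ef103803822a212d87ee9030007093c01247ee902800002d21200004000102e20402e045e800088c0001229612c0162101800002d,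
  nat_lit 0x4dc21004008884105820a20020bc0008043806a00d6135c8800008088203419a000c8000fff1f71ffc00200000200008003094a00e401910f80000008148c83c0f50004000c126823b047720423fec87800001684a5232813342670ffa121007040487fc8bb051e099e3fe087400204cf1fee0b20014005000700483fdc60c24a050900aa01447fb10e003600703fd416028d91711fe83343fcc0b4803803e096c11d07f990c8004000a11c87f903a000002d0008000400d88e80000081ff414508c90000000443600047f78475232618a11bc21e000a000e3fb4868000002d000a3fb08582600434086a11cc7f610c847d225210c425f8fec218000246b48b20feb0c5,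
  nat_lit 0x380fb081000a91a800000bcc84017880000a8846e14f000010c223501da000081911b0050000203b48d4027000005464680a98004004a23322ce00001a70fc82690000106421420c10c1000842bc8c80218001231204a00008c01588003008445e40840011170041000245640880001169093000440748b001c800122b006e00008a81110002000a407401d901a229226844d80008002228012210540001138003041e0a9483c001104501cc33a000483401882260000083426b9129084200e40188901090001200a00446080011004223000405a000c0021003222,
  nat_lit 0x43c887e8318207008e0b6816e90370cb206c01000000b400080692098071c81a92002b7206c001481a91f8027217c40d03f00000040445068e116c0000790000206643d887b91f000306a440c48f4013109a206016a001816982d220602d242f481780002410478140c00e902e23b000005a1410282905a205a21c001405b902c177047e02e08158a002ce017040a8188000000800020d60a480f008c8002205240a052800f0021204e1f0000820390a1042647400048a102131c200000100004002001d204847200000b42011142226e408c8e01fa03f02044280413c13c90210f9,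
  nat_lit 0x3a087c41307600a50153209633441280b40008168001209641241b086c0143209020e000c006904819a208e05a00080b4000004104901fe421c822922000021a404f482204c8429006241148220d69043008000005a00088b6002d208413200200171041062000205a423c82190400640000410481f8c10000026c40fc46c09a8139208040fc56c81f016800000800000398844903d0be01bc000081e833000102d009203381b3911b08b04644227103c24300040010170044e20764840008020002903c218c0b8081d0ed80d92078002881e9039241,
  nat_lit 0x121f04104198618859818d20ca1e8438410490641820000010001820702d920c617c45fc16c1062114030606fc83088d800002d00000fac1f4053117a084c418082f89b03f2000a000882f0bf1171000041741980010168007047c0fd082e12290da06ea416c6d4903917820b424a0fb41bb0001118000208b411703f7217c1d200000b411682330ae8461482b8d90001000441583a811b844420aa150001417211fa0ace42847fc0008006001a1100918000000604b0214001c0a8803c20a429407a40f3906420a248a00dc01a9050166059e00dc82782f000002d000c10dc8bc104e11704a60e908bd904d15b,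
  nat_lit 0xc00e801621002320008020000000603460824934002819a033041f862c2238254221a41f49300fc026a20f800800000b40028020003841ec4b40f281f620fe41e856c0cd001c20f23b041e00b4000816820a02aa000c83b87a801a20f6001483b09985da000041d40100020168008001243bc83a0b501c8041641cc1a4846020b20e449641d810590710770826082c83802f0001001242e09282cd8410081e0540837924800a21d805348370308244048a053883692410be029c41b0788205014c20d613841a8020000843003ea050891c000118723f206c001800390c820d0346046c871906716c,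
  nat_lit 0x24f11db02bc426495c855805f0352426884c92b1098008000005a0000002016302ca425c95400200af098016182b71097254000001002400020007212c2e40008003109511421d20fa884a07381910c34424c94c02c91cc056600045c0000830523a40a84948000114c229a44bc9441811148000c001c0bd017b21204a018502631189211e28c0a941ee83d9211c42c449814a108d03c05540f6084606d800104c809800f000001fe03f00960bcc90f040f211429405c48d4119321121b2111c2219192211049e0010111108706e03e843fc8430409194081a4214178002004000202d0434059000d908324e001a463000d908218b0828096400c1081133,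
  nat_lit 0x1400002312210b4842b80008428000215c05f882800110b52172164085612f000002d000202e40b6016f21564aa00500bf90aa25d016e42c885512e0000215642a461400010ab215244e00040b390af21524b600040200b2808c21501b0000000110a709300040024853874000002d010e431085f10a625a000e01cc03910a511300f001cc8520eb90a302d000205a092c865001121444b202980520010214222e106494310a621402b605a4008109f1d800d6003884f0eb909d02d000242780ab10f1058c4b000000b4001109d000c426c6e084d016800002d,
  nat_lit 0x21820100000020000026800b44300568134026d2182430044c85f81680000080000080810010be0f008ee000085f002000002d0580459c2680000217a4c6000000204cf1c70002008801310bc11e0996027c85d86d90c822440000104000016850a23ae42e885c9310000088e42e40c400001680052176090841c00001690b70002176c984000004023d216e00040000e90001217842e88599300002000a42c817400790b321644420000001800d216417e000885b0021000842c887085881680c00182060000210b125f000c00108580b710af02d,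
  nat_lit 0x412590d602b0008442005580af21ac3fe435402000010d60998078001086d90e121a81fc009487090d31660936008886902f00000080004124c90490d115a0020482086807d000100824004354867846000021a04338204001007e219c1d0000002000280070016433499403e047d21a043305c4006000a21963c44328020000804006d001c43243e000110ce21901260000020001027704f4431c2f88660279218c2280004020241000c218a1b0000086310c4081000411c486207d00000080006431400390c32640110022800390c2123,
  nat_lit 0x81a8035205980b285970a604d600000d381a6089e0b509a81bb046002c443b06a4970857f02c243ac7e80c8016321d43c443a402000180400000cb209e813c91582690cb24b7435a10e710306f414b029590e62680008107435810e5267243a1a948720c3846f25f8438c6b022b86b021c4344162035610e117c23e8156400003b800007fc155c700001000021be0cc00000b40010000000643784b08f303f5000008200000b41fb92c204b0438486e054800021b8436c3a8001025922f018801a9933000021b609780d800110db000a436477012b025121b84360638000016800023d0107486b91c04110496436086b8b890d6008,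
  nat_lit 0x37a06f8441432c88200406c20000441030c000004000a001811942e01103277000e0a98231085026905cc00000d400080403402450002000189902232320001c00113b130f21fc00043340000040005230e04f095190fc275234e154035410fb100093e118095090fa129091404e087c936811a06ca43e01b822c06a321ee23a07f087c000121ee4e84a8033486170b064a1c87b939800007be43d89c88f986c30d8817c800010f6271253c00000dc81a81b7036200280030000270253c4c6400010f426f0002175898b93705d3254e00048790e085cb000243c49b400080030a6817382e690d00000002172c9b0003016421de3cc182c2990000032,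
  nat_lit 0x3089c4f8000c88b11141c2222605a00040202e392d6001444489ec0001117001244443c0002111222220c8000088991111770000444c8ff911127a000000048888c0000022260e6c8888b000020006444432c888004000002d000010d821a839b221e4f24b2c229910f083086810c8887925922f244c44389b400080411ce06e6102488693c0002242c102088605f042c06de442c72c000041003702ae485c90d910d22141ca00080019109058221005a0000020000920b081a441c3ac00080030706441c4341f511eb220c1e8000890e910602b00041b1021811060d3,
  nat_lit 0x10c4e4c00318845f28b0002000031309c8624260418d48938b00000233049c4893145000100004498804000804000103180590a2400001af0364510072c0f09123142000400c000089191ad236450e00082eb01b9228601540e09121286030606048901428005000c44808400e901cb223e5084b9c00081c6283000217f42fe113b260038a000800014087140e541cb839591b82238504000c10c111b23d0322464088d1408001083a00fc01f140014a071e44645e0217123e22304fe4460000111717c088e11200000320000085048f49c80ab9116222a4da00001c892c70d0a054c88a93f038d222c44540c400004510df01c14901111527d089a0000000911523f,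
  nat_lit 0x9940653227e5264504000113f08400000100004931846525ce44f8650001866c227c10e0680336113d00b0000010000493b0444088044f0a4836a819b22765220004002913b1930004009031302b0001033611102ac00011c9042c17407a00f591d6000644e0a4034f06a10da0000489b947913602d000048c898c066028e0000000889a82792300c9219289890004000c44d4a348e50023227811b489a14611330080006010469800211320780c5e0028898925930f226244c02142338006225e31e002089801ba073000e00200b704712e6260618ac00211f80000082262000400205c800002d,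
  nat_lit 0x1cc03a005922e00004a740000040066000245b8a700000168055000400040318c7000000800c045bc0008002229a536126c8a7114c023001245408a60c00000229a452c2a0000801222960481364002914b20f0002000c8a5033800022a20048a68006114e0010452428c94f114c22904da4520002914716826ce45248a3936800200020138a6417c914a22924518a608b10003228a52a0000000914411b000000089b2114429700021b6c8a21390056000245101e090b9144228610a0000001048a08e00000bd88a105a82f90004000c8a114b127b00004504a5431d914100020f00000000866d294,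
  nat_lit 0x8003000822d406e1c44385116d22d253e00000b400104f4258a45a06dc8d804f722ce1ce00040b495f80d722cc34400008d711650f3235c0c848b28738001257a4590054001000524bc13e88b211011630080c7e00048b1808116200100041dd037480a80070a3a18fc37b1161220073049742bf876122c01d2457c02000092aa09f6078101c8af0001001203d822425f929124e4457470400404bb080e45703440dd926f22b61b01458202115a11d00024a38949047e29e00000ac415809a847008e812148ac0a0800b00bc017c8ab92d850e0a624a408ab11c017902fa455403498b848422a80c401a4000007808e,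
  nat_lit 0x4172c0d2117e15a020e002c002117e094001a478c8bf117d15e07aa00008be033000202d000445f48e9917b19722fc46008e9117a2a207c804848bc86500010cf845e4260000917b22fa45e45383b4931d01f645e035000181a70a3845e00dc000010d034626a4748001117822ee21200200021176070033a00108ba82f000003320458a848fb800022e80cc00040b400200ed22e60f047d4078917205e000001000008bc13a209f002445c48b810411ba000045bc874000043301ba1ec0000001116e06400001b8427407b1209000245b408c006116d22d805200089cf06b2041854000008b604ff03c,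
  nat_lit 0x40b41a2119a232a0c8001000811940f3002800448c982a800002d000816cc1d8119209923ea0ec08c88a0000a076046401880010168005026447c48c792285ae0240463836000a811c231a23a00000200028007001846309942d281ba0044462c2688f9002023142084624020000804018a23e046203d0001012e230e0c60000020001832e066046183ac0960395230a23600080200018004023e461044019691eb23061e8005409591820550ba24ca88ef1182113000600108c082c0119021646007088bf8168000008,
  nat_lit 0x58046c23542ec088400011aa2a8000247a8111944800504ee09cc8d48d480c4051c46a04c48d3804017f0000469ca6400003a902f005f8a9c35591a6234a54c1b7800011a40970000000836e15280000d56468c8f4a0f12d42348000405e91a32a424b809ac05d91a21d500000020000000829d1f000084b3c8d00f30002041209441ac000924526f0546000010402e709324844880000919d092089c00048ce06d800024ec05d470019e033d2338466c7408cd00400010c464668054001833c067c4d7c8cd0e89199008000000101a089a8005004446888cc00b0340081a00a08cb84c8003008,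
  nat_lit 0x158000141c0150e5e1cac00100562b20766000402e0d5039a000000ec0d402b8001057a0af04a402c00000f1e5665064395000300ac5640ae4392800202e02540eac000816d2b10e4c00000b481a9234000046f014012c800203104fb0311018000100824420008002827e237253a06149f0827c23703f446dc02000082b105601ac414a158000002d281a1c780060001236a55e001400091b40830000000c00494400050a2046ccab8002931f236444600000b40028007017009a08d8956827224d809988d8156026d24d046bc1a81598263235c404000406811f32ab235c000c92e02be250611b88d695511ef04d009a423691ac2a90e1a1a8823711ab209,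
  nat_lit 0x6540a908ef0650000066a16f07f000091de2890511c8ee95f929f001000248ee0900000000a0a5819b15f000200060a9c8ed8a60000008240c16141df11da2bd00040ef48ec87402a0077a4760af094b8001000600108ec00b93a3004a475c19814a12b7253e475c0dc3de82b323ac11e001015891d503e00021ea001095d929927e81edc183929c23a85741cd49fd83072536474cae416a82af23a438447440b40000030000002e0520ae000c0297239e02250841db80002486200060c00112f0076a56e061800085882b40304000021b95b0589283a000402984883b10764000002615a804e00004fd4ad039b000000a406a0150000872f2b4,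
  nat_lit 0x958829d18504dc4ad400091f31200002159c9b1053d28a20c9c970001d2c90000159495a02e856427cc1b308f911f12c823e005a000400302df0e1e501038b06cb23e058e00000b400202df25ac1e588f7963000202d000047c00841138007000a49408f696285720ae04cfc8f60c702d609b047acb102b0800023d8288000c000135f2c326b412d491f8122000234c0340093012100005840004018001032e23cc424047c96191e50570002479c8f282f832e01f647901f0000000223c8116000825b00f923c8582000015782b32a6055a00208f18a18001000447887cc923132700002a000080b400202a523c05801df415111df16c,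
  nat_lit 0x51a00042cf8f9828b0000139002809e013700005a4007400082f12d00000499809c16882f4000000647e4047800005ea5a00bd0179013f00040814b3c09f8001040a1400a7409e000001100021ed4184813d2ce040400003da8c387b500000020903153800600041f00a2c0b100050002516cb3400002b10b085981e7094f81f2240052c00281ba129f23fe5964a8494f81f223fc2ba01d403991fd295000207b88fe074000501004a7c94e91fc2ca2530079c0f891fb06123f401000080b400181f803e847e43441b3129b23f00ce01e80f891f7125098a131800191f70612566000c8fb09111f5008000209c094a8076079,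
  nat_lit 0x927f0000027c2dc00600362460001000096e800000802721dd0017002f24565b84eb0006922a0560fb8009891489c922b005a48a0b6c40f0025244e54c01a8000122a006e0a98b680190000254423e06b400f822613902cc005c01916c8397073000b80008ef829c005c00002700000030000055a0240ae0157800f00565b20b742c4000e05b0046002401d00500050074006815c0950000053c5b20a7c00081272d809da001c10b96b939e000c0a78b58911000122d00740000b50106800200765aa00ec000915121f00005a84ad00000135243c5a60a4000105a1210,
  nat_lit 0x3560608491c3780020360248e55c0bfc1ae12460020000010000c2d305a3278249142b094f13c0248835020c017e12432e2253a001092197082fe0004490800801900002482402001402000181680b301624a8491f8cc0394265448f84e41a9834b247a3dc0d181a4123c0f300d20c5891d8318000006000a002091d03e8025004048e4640000804000124ac00607e4000125602e244a029405412361e700004a3091a8f30000008000000d802083ee07ce0fa42dd014e2e00070000891983c02ce25fc48c82382c002c724625be0b1c00012311c5001015f016282c62de,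
  nat_lit 0x30080ba4173c208925d0d20006497892e03786470824496c3e0183041024b41024f8020712591070000000892c8458002063a4964164000125a10a2174000492d03a706de496027892b81692580fb6495c50c02d0004001215089ab83a424ae5cc00109f487ad069000617cc9688460002257049ac474000025a00b0016001492a125924a65824ad000c92522120340496092885e0081003049401f80cc8015249e0b60210009924e0ad0000493c06f1728000000c4934b90003019a00644934b04002000e049c11c000802000001680040bec4f201fb124a0e0061817e82d883f424925c600201f9924808a,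
  nat_lit 0xc1800001772b302e64b4000103042b20a7c00041830d513e200000c10bb403480010c5815e0bb0035000029205d6522019e081829a00004ba89de000000cc42003e000094dc10825d20c6400000822d8000249c09a7841000000100004a2ca6c03f000000040eb8936974000000040260b5c003136f06a449b058c1d7035324d63cc025c94b8000291000000e801c80ed01c234c0f18002000a00ec01d41ea12692e7269a0d049340f483d007a6499c1f41ce937524cc00600080b40010380077411c0004934000f09300000df496988e832924c649881fc931800524c20ae0c94000926005b034e000492f856800502d,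
  nat_lit 0x1cd839907280004be81c7838d000036a000498301d72f90000074404d809000000044a5494997480002602073cbe00e482f926c04a48bdc001929325223cc127840e94cd00004a44bd80000021299c1f987d801000a100f801f41ac12ac251e5ea008405d128e057003413f89470c9832900101814ad018f800008965dc16043178001016238202dc05d8000015e3ec02b400003fa0c285e84dac00000a52f3253e00042c3033e2ec052c0000314175942b0c1a002414c159060b00100a60bb494b800100805e40000947009f2bb007c000004b80612f10144000001e8a2003d007e000002c14a800007223f00e3c00002952f0000405ec1a394d909e85de0a4c00092d32ee,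
  nat_lit 0x701d492b5193016e0e9c95a05b8000008010a003041494fe25665c6212400312b22e226460000030185000000103e4000002f984806000020064a5095b000000346100054030806020a107e0dd400006f14f5000e19a01e040d14f329ea002c24403b00043072574000cc18039800230500e20004c10039800022a10320010036981806d00065fc019c001181006500026024ac400011694e9102a0000036006830003940010bfc0e500032fe038e0008bf40e280012fc260a00008b4a7200002532002425413042fb10c654b81ca80020b3,
  nat_lit 0x88024900000f6000441c883626b624600000b441b0004000c0f8496613c800907c64b2c2d400593c82594168000433c93490ba0000212844d831951d25924b2084449e0002258e0ae1fd800012c60ad00020102268a8d12c51870fe42120962031840500000028210000004054800044b08a70000816800125c81a04341146b310000000d026a054330f0000002000001592c21f007744af495e187082700004aec59800000012a1a61a000895e03b4257461800000b440f081f00e201cc95c9568004017a4ae07cc001001d26481ac821e043a08820d50c2c0000004059423a00101d692b62ae,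
  nat_lit 0x804000125dc101c838000002010b0126007413392e407200044b9497181f00000cbc4d7808c25384a81256000897118d92e102d0002030017f98d092a2b362394a8e025a26da099097018c80010008098c96f86700030080174001c00312de0b30c0e54ac96e90788612a564b7019c12f884725b610200040b4001885610b4205cc600010855108c521819400088532a4c1d0000001c0211157050e4ddc00012d60bf00000324022028331700e4548041d000025aa62c0000980844a086000c001400012d43150000002400218a001208344f740a5800025a662620c000013203120334000041893e004a00004b441f30803028a622001400a92da1fc,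
  nat_lit 0xfea22f431792fd1d40002523497e0188003089e18c097e09e92fb02d03ec18a031212fb2a2050a4e6097d16d8421083a4be44f8001084a03e819800000b40d09344033c000497b992000000800062238a9f084832300041a6034319100012ab6228809c00008350c446422210000800225e26404bc400092f00a100004bc401b06c000227302068977945000000800020008a9f08d6112e20b401a92ee31f04be00c097683d8001000c4bb40c4a4c0694096a001897698f12ec02d008a4bb000084b9501072e010897598e83242770010897518e000200864ba407c0130005000c4ba473c257800725d0174016400292e717c,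
  nat_lit 0x1829b44c641b024614e02630118086037e931732a10c41bf498b0838003295857ac9c60b8800202d000001000782370485262617c193cadf885a26240ca505025013113290a96215c98800786dd10b04c3c1880070736261c05608ec003800c22105c80828001066800002d000e000cbf4005800230526140004c10004000032826e60804ad207100004000cc9c000823527024dfcc98312959d121e1cb898294e94d70b7a51d8396130432500084c1831d13032640da41cb098104413760e544c04488980004000100084c0073097f80300012a4c241c9b9082800002d,
  nat_lit 0x68416a442810a139503f64cc0424001000600144cbc59c9ce9392265c11852000fc932d10700084e74996815883500000008c48000800005ce2680cb0174139b04404cac384002021e265419a4ca40200018004265218800009c4821803c03e014cc4c413280370432086c4c313271d40006261c99301f000002d00065518afe132532b2b1422b8b06932415b264605a00149b193230240ffe02e899100a8002008000005a00380098007264036c19802478007263e4982260000131e004000e05a001402000686ea0e0a4c706c431d86fd26360f053b8381131a24b,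
  nat_lit 0x16b02d380040f505620cf4a5980032a7e5b21698001065833c0b4c00043d099d85a600001e8cce83d2154100080c2018399c85bd0f62000c32b061c3380f5a000843b99b87b5000221e0cd83d980000d8252221dc44b089712022500000941f3350a3252e0000141e3340000001807d99980002afe05ec1af941b3322b12001800001a800000800124e0c0af133e26509f413d80ad933d33107ee056c99e091133b00801b821e4000198000201b05218a7f197800102d20244b9400000a5014e4b800080028200266e65c20949cd133606703084e6099a9950001281850d41f999680072a9814f429e13341db0698207041213331d0272c556c9990f11331008,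
  nat_lit 0x2a465470001863a0f2468c1710001063e2220db6000431e05586db000018c8cf8a7500010bb06801b8c00005db1fb0baa000c193001e0f840080aae9a2894100040c8cd0c4a18001063867424a400003252a8064619c800105d30ba267219d000094e8344078a000032299f0647000419c4b64b19000113ae686276800009f12d62c7a0000b1000042c4a00204e29a1163c1396000cb1209aa34129c40008a618fc09e0000226e0b5cb190000136a67e578c00109720ab101200044b816c092b000057f8cf8aa707bf000616fca5f9a087c0000456d8cf03df000111986801b2400008ca33f10cc000c2dc1080864000452e4b6043100010b6467c112800005af2d1,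
  nat_lit 0x39200000de41561f5000008fe3402be0261cb0980002af6002c46c9a8068f00021b80a0c34580000dc03e60d8c00006861f82a22004844000010c4c52e41b01a788ce00001590cecaa400032baa42057a000108ef28313de00045070f996690000594ca444f7000313ea0008b2f966e2cda69c278c4f6800213c25934d3446700010f9a15627c000016592d82b6a000c43d82b087e000421e0aac442000110bc67621fc00008792d610882114001867c0cf469820c43d100020e021bf8d2cacd00010e08444213c000152b33e0dfc0010467095e0dc400044209a506e0000019ac7cc41f879d00081e80a909a4882a00061898d202e000020f3a556209c00086f833b0a8e000036819f95540dba001031d0827347,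
  nat_lit 0x5a1442380012b126b6211000015a325c009c02400000fe082310420004044808b35a2c5e00009d69110277047a0008aa907042ef0bac00042cd19d9637008258a48d43f880400bae6b20d6401f94ec3360b2200f806114885c900281cd8d0c3f10011102a00fca49003810306b056a03e0001010282054d5c4f2000513fe291451a800813e469e214800084d7297c191c00108453562b5a000047f10805180a2e0004aa788503550dc6000038e19d071c000254f41444f7000014745b058f4000064f0560c9e197400187cc2bda6a8207800107cd2102b2c00043e6855881b00001f28b60abe000007f06740fe4a9d8001120422e0d4ca9e000013441562400001957e00321c8c00106f33522b4023fc00107d20fa06a223fc00087d7210,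
  nat_lit 0x79f06b04f2cd9c3d0835827940a80000a3713c906a000204881aa00280ba0614514c9e4193000500064f1c08c185830f278c0400c4018793c51a80a300c58000953144e06060000614000808703d41160000041808a366010c09d09e080514271160223c0000d813ea0cb4098c13094df0cda01e8d9404900140e32678142c00194b908b80af8d903f280012a5c5e4215cb32045c00045658a3ca58843f00025660d8ca5a80000f924b81f18003045735d0d3418883090001074c6c45474000143525c074a0004acb86133610bd20000acb04295950d081a0800107b436007542118348000111146be1160000158e25c2cc0000421d843a35e2ba400002189ae94f8137e2120001167035c,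
  nat_lit 0x71400113e6078134000189f296f89e000104f9020400209a013440a6c14c035c02c46e405940bf83532dbc2a6854a8002371283c268800094c637013c00000a6283c0001000429f802cb31040a00006de000813602822d1000001007e80010005083a4f70db80fe14c8083a4f6cdb400001680000942531820f01f836c29c4109821286ce2aee51d019b93d936b000800149ec07181d703aa4f5c5200000005021406c00201bb93f627ac254254008a13d50ba081004489ea0c301d002264f4c6849f793f127a41940004ad0096102846d400000b400300070012031c9e81b482e1279e00001b51b400e801ce4f382bca2b831200021fa0004094812b27b85960000a30030d00d,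
  nat_lit 0xa00000106b410000000201ad014f000600109ff1be000327fa0000517035537b2d6e000c9fe11d824e27fa4fec3d00000002000c11c0000b5393fa2722dde091412593fa35e000809249fc8bb800102d00020514b2c9bd0000028a00d0de40a28001000e4fd85304cd818727ea00800184cf966a0150000002526c1bc80000b70000001415219f800605861c3836706d72b9005e09f89bc01d00fbe1f800bb93f037702fe59b09f78f113ee0080862000c9f701d33760542088000102f8259044000041f015d842f000050800009f593ec375000a27944f18520039e4fa4dd0000800813cc57000109f4000213086e6533000493e730e,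
  nat_lit 0xa0c803b0ea0008544023182e5282e30650580b4000816956805e400d4a0a9c0941500065058a0a071150d0068504c1b4a1f815428260de594c0a8941220e000850f0a08837000002ee0934e000bc818a2a9c0000ba0000037b0af268606ac4e01417004a5038dfc0c7802c281a0d050300b40ce89bc07d6503073c50783e729b6502c6701f883eb28146fc099411b14090ba0a9a5364a0405009b207ce501c9fc0091408000a501c8fc1191408280c046000400194050bb0002072439f941d03d000008c00ad812026104aa501ca019be8000280850082d4003825704b65008a60002016800002d,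
  nat_lit 0x1204b450bc598525828e285c5be0a68147142d284008650fca160360481291850ac19c02a828c28540bc00040030250294a51209580000168005290653941779428389294e1578178142738804900bbca131c3800104960bdca511c30000049013e4e14125000528483d251f00029423003051a07b0001160154c0a74000461cad9155f000054c0008116022b088000208cc123065800002d03745bdc000141d18a000011e813a1c204812b8c18c4a0e941c183283605a0004a0e800228367060744a9a941a0e400040eb8a0d00f941a000055d49f0127948e28345064e081729419283012e0008171941803e,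
  nat_lit 0x39515ea0b7651286e0a25000b10fc5124e4cb23087b2890190511c0b400187550fe426a00083aa8890018000028b034d9c90a3e11082334a221c895ec14fe5978a218e780072cb6232ca2108808c3023e5104b0031e011f28803dc5854467143f0ca11122338a1f06496372c7600081dc38a8aab000223a00083b481110d8e042c3698115390000229c407f9c7800014de030c2905208a43148a2a143f40002287271c2be43f4800128705961218a1c14372bc0000560037d06fe38d0b4016880480000000250d8e30001800c289a50d86c023f047d00d650d4cb0001143600ba716000002004585a305220a5ca199c5000c291e50c817cb080290286261c27a01499430069,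
  nat_lit 0x60394a320f30001117c06b40d60c40002000e11c0a31923167210d011c8a310de87c908e4518436c002886608dc5184e6000084682a9406c000043f88bf39700100024b13145f1a30fa45898a2f03201832928517432845d07c728b80aa000c2fe017b02f4264000400586443430cd8272cb6d0a5828b44400030475170d14b251647fc2fd8a5714ac516041443b0a5828ae1101ef452a145610428aa010000800608e31350000122c1821cb154706241aa4a29895800a11005750a2909508712df01a9ca288ce08bd019c5140e5434e95d0289e1741714351144e17c11ba1a88a26879800202d00001d0005d050874012145a2005a144b394,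
  nat_lit 0x315f428f44240574b03147905c028a1b28a3c001800102d0002558c510107800008bc5ce4474001147628ea16a0030a3b14740b40002003c00a03e8000001e03fc210a3b147328e40ac000800014710b90000002000400114700a4001e2010a381c38003005251bc04400295e40d7600a4a379cd971d0d9851e0a370ba0009004a51b4220a36004000006f2197c4d41b99503000251ac40032f146b28d423a000433084932b6000657bcaee065c28d273451a0020241888e000023000000b400d946d0d800010a330e48001000451947cc3fa08d80d085198a329cc946402d,
  nat_lit 0x605a0004002800c0f1c7400000001953e2a6000a003c00a14911202d48233c548149012c10482a44a4783304e20f4a15b808a948f39f00105890469948e0d3132a264c46a148d33113385a84a46065948b00803a8272054716bd00024400000020000163f103410200280058397291049c0d301ca148706606a40e3ca430480001132822f445b9cf00002dba23680f04c788b92d265210e74003154207f8520cb2cb888a182ec4520826424d0897290201a1b1c4a414800242e745d80a3f88a0778119651f846c257833c28fa02a51f8000046628fa17e119428900000980000000c2881c9000311922328b4803ec28f6738000000288150a6,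
  nat_lit 0x234023f14ae23b08f800002709d309af0320000079800014ac14f22e6c5c60b493a5000400103ff967b2b1e09800000b4ad314d6019c29c8a549b480042ea852a02d0000816967516f029dca5392c85fa2c4029d8a5308b80042ea25294320a52016800202d000618fcb080ace170e3c00008b0702860b522b20004b06889714e237000000b431d86401448240443808710002527ce901990004293c286000ca9116913a300020024bc6173e29f26920000a4e878704724a4001c21802552be0526ce88a7f8269293474253e82fa949905c000405a00000205780b270f08525c56800388302c9252581943c78782292a1f42bf83be94942bc,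
  nat_lit 0x1075e19201bc00003b00cc051055801c28004298023801d8ae90002297e2b8196000194be044000005a0004b3387422ba00ca0000b33155a11b2cca0020a5e14bb27a000252f4a5d8158010297a0004a5d82414ba008000000c000000094b901800020e641ff0009297275a000439c09db29727581d000c594b82d22cb800b001514b9297075652dc0b400100032f7c2de85a40b47163252dcea824994b8000002000000b4000097f2df025c4a5a9d48b4916f455e420b8002000610b0a5a9d403ed000652d47e0217957a29682d8106821014b32a608fc10aca5909f0001000455902ac00117382d745688e9c000841f083847a56e400094af056,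
  nat_lit 0x30c42536c7cc0000010027404fc7a8008014e2ade0daca6d1ca00032f8c5364760a6c016800216c02b5056895c409280a88ed4000004036806d415840a494d63b40002535800514d53b32c06051ca6a12e8002026c2d5c7e4000004036606ca04b800294d23b2025c0010a688d40004028404a017d1bb157829a20000ec400001680062fb65ffcbee0353299c760049c1b614cd05d02760db4a66113800201ec0938cdc0000006051a57dc1dc1d7800600165328b9007a03bb29925c20a641dc14c8193000204d42ea81de2a2c75c0000020a86846b05242ac4a63171953a2f0a5314520003029929881bc13e4b57800102600040ecc316062d19c,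
  nat_lit 0x804000329de1030a768d486a50d4c102ca760b994eb0082cc62b80a75833000004f453a830c016800200000004a751de800129f2566c1e114ea3bc0d481958b2c94e93bb004c0000a7497700002c9a184437782e629ea7742978a74000029ce530000055f14e720c03760000a73856800000814725dac00094e610629ca010000016f0a251bc000e539400094e43ac2e1253a0a7203d800029ca538c23c0028a5c29c60500000ac186c93b90000010000002c849a2b040e68ee002b01440004000ca701db94df000055f01c59db091829c053784e40010008002000a537422c311000729b84020c1c00294db0b7,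
  nat_lit 0x4098813206f81cfcf2800001686682cf4191c32295073c9000c0e94a8300500012ad218fcb3b08902db859ec2e11e40000022c04702d605a83c7034a55a01c40313062018f8a821e317340cb22354b8a95033c5062a2030a8111200070016540480418f063a2a00324000c020006000400067882b8ca7f00020780002548457596d800000ec587471ca8f9726125253ecf0c004000a29f40b200043c385f50be20362c605ab8b5811d40008f083c388cd11a200045c400000400010df02008b6788e6292000018fc2ed1c2065d0cc41068a7a94f437f0bc41798355000329e678253c80b41f402cf2f905ef00001e00001000412b82569df8000000459f002c002041129de0140ac815b00003be,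
  nat_lit 0x407a655bc09f0b252b000060f4c1eb83db0c926c800081e8958002fa7aa0004ae603a00cb000005a57300c880002a3c3140000ab403641c82ace0d90a8f151d3d400085a84a8e818805c303a00002b800005be0b5c066cf4c0c582fe000400182a7951b3d2033c2c8ca8d0ec151902d06202dd4c0609b02a327a21acc35c95181e9183026c0a8b9d08b2a1360545864000280092a2a15a00044d68b690d1c0258f4000009ab164a2ec4f3c4d517f30852109c216064f2a2679c2b405b009342e5a5448f34465180f11ca5c94a88934800600145448a881e605471036543c1fcc3009032a1c7422ea4480150d0a413422400a86142815a00002740b6455184dd09ca1924a858000056e796021400600000b4,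
  nat_lit 0x96902ba058c2fd00042a7a0004f74000181300967b80be824b07c61478221c43f80022a767b61d783ae8762000254e8554a9c804000107880fd81ec1aa968100020018a9c0268570001854dc3102e097d030d00000f68000884b126a07e02fc00003530cb8762210842186e92a6841205283749533176000c1484a9902c8514000000102140010181030a1444f64001000103007b000001ac03af1f7171c1598059803a2a5c3060008c01952d0582a5805a050428d80012f8000000c00000af187a0442af455e40a900002a527ae000c189845003100000c8018f0839625000e549c22c1db00072a4c32613a8000152506016a4138800216f8005073c199836700223d6,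
  nat_lit 0xb3a00005e4c8dcb44801a305476258e000002ef33705e2003025696b01980000128cf8c25180012e180ac12a400001950ae2d8c00002539ac85d30002187c7e0b4880000c3e61c186800005c72340b840000b5885707f300005a4484025400002b38678052400016283370002003c118026f3e22c4c00002c199b967800001234b5825480000aee46a621cc3f00012fb61148f840610000136e6861fc00008a6b359017400005331d897c600025c58158be1000001ca6781c0c22680011598297cf802de80002fde66e2b2c0008300233164600002bb1ef8b2f00045dc8cdc598000112da0a259b000009463de,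
  nat_lit 0x5462b30c09827b00007cc00080c688a4107c3ec00040c6089d2ec805c00000b40c78bfa0f865b84ab89f282390ce655c0e1c11506732ade4ba0000000956e011000201019bc000956d222310c55b4ab60c7800204d408cc2d0000016800217fe30d0ab50b7956902d00045e58082156925b02140418ab401580010082f265dd8ab38460002121c5598204000004000212f21ef4ab2878090c0f7855903e8c3c86b52ac84da2618bb9156308c30de065c0cc156315f2ee01b40ab10078028005455840541508000164050630f4619800006e00a74f90b8e8001168c42027d400089742d9,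
  nat_lit 0x562c000958a2012d7615602ac854c000253a0000020000051d0aaa154cb4a1f715890000561c210000004000012642ce459c15863ed0002000812d0a9f18541464ac31f6158900125614fac00002a7125c76206980cf01a200025610b20ac181680002b08006483c00008942b04424225800c15822d200005618342889428e2b060000ac09008002008000005a143424604fd2afe058000055006962afc2320000018000823715880960328ad380d40ad20004003157c3ea0468008cc1300072af67d2015402980012bb0584013400008c000002d009c22604c087c32af07d015c004a809b2aee76655dc33c067d2aec7ce00004a90951397,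
  nat_lit 0x78c0de4ad105e00050014568400c00300ca312838a00000a5190f07e0290626400004100020890026c04d1b980012d0a13742d19fc000007c01ad47dc21c96b6000856701b796452b367ee0318062039106e25668fd8c838ba32c885664fd41df036e2b30190565c0b4001159d0ac00f8000cb9f17562b2c2be3330c6c8bcd2b2a3080034baa15940fa0004000c3b095941362e6c1d0cac98020005196862c0ac994c15950eea564839c3a107472b2202a00005a400a73f416900008ac805596320004563ca9860380022b1c27c00041e786e32e3c15ec2be99053f300003014c7a835231818061db4ac6958c3f200001e543b7158c3f10f3263244ac80003f0000056345a089553ef,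
  nat_lit 0xaf78000000c635c53c1a6000400002f605ec894847d0630015c00080003fe000456e400295b7103002e56f8adb1ca80232b7c56d43280000c1b2b6a178306000015b51f80000599804a18aa319c7fa008800095b42bc00020f1003392500003202005c4601e288dc11be238c00000012b647f826a461302fe2b6476c0000b8d95b102805f6001400415b13b300041a6c34e09123fb000000e8adf1fd0007001c1b343c887920f4256bcfe449d188d2fce56b85443a20745134456b43c040788da2b5865260ac4cf95ab00f1832267cad507d08e311c056a439c47288e42b50056012c02180010770120010000002f00020b4c00f0fd000085a109bc326000004780960600b3457cc0aa95a33cc,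
  nat_lit 0x204d90a32145101800184d9131e0ac000824c828e2e5000213540ad9d1800008d6119c18c26a15d12b9a573100c00000012b9e57304ac00083fa2b982ec0004b6004082d585731014b4704bb2b967d6142828795cc2b963820000b6304062ef2572d010003800a2b963e621acc4600000aec38215cc0000b4a2bc0e0e00002ba8080577000223cc3848a2864d000023c4054be7800002a42a00550ae280010a3e03600000b428e181c1434607400012100012b8627d4e8c3c18bf207be1e94ae09a4800402fc0614ae0201987507b03254c8a00004020002002402f16f03bf02dc1d985db0b9e306a5e7841795be401001005a4237020504081d24adea00017613d456f0ffc002805c015661a0010aea80ec38b,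
  nat_lit 0x15e802d03041f840000088001021c641cc84990a40e0000010043061c0c8d184e1ed8af2a06850a0f6c5790228ca287b32bc629000000b40840c350ff41ff8af112a96c40a6c5b84af0a060006302e578004400807b72f422030c6b8a502bc08162acc6170c6e14a2577d028272046508c8611caef204800417a02934aee81504dc149e577022027789a02bb6196576802000100032d4057684ecc1383db2bb21861e40bdb0d0d2bb22b20004c5015d809807be0004001043a2bb08102d685dc84d42bae80e13e427a84f42bae0a6000c00216c62bac34600000b4bce16b008e00020aea8d9051302ca0018aea1ec84340004574c3f0b5f80062ba41505c1cc1a8001308,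
  nat_lit 0xc1bb0375419000c0004004961c418000001000240ba03fc08005804b7020d04172c000a45bd4b6795ff1862c280fd0aff05017d7080c57f4e8c1ff84122bf830400000b4000006119c80b0105c02f807b0e640030afd20b1654001857e400800100092bf009e104013f968d000600007c400505421992000c66cb24816f00003f00008bbd017702e282a000436302a808500001b0866608e82aa02f057c8b8461a81752be209e33380b995f041400060010af7a0980010a7214b42c1209000002d030e06106688d3b2bda3920010cbb95ec05900021388b2196421eb1a4265d869515eb00005bd10442ab97760da21330af52080005000c333869415e940f,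
  nat_lit 0x5a180008256021a15781930b9e06582d2008a9686421039a000012f83891148245c1e4210025404a60014000168441f2d0604485a298d2000083c000007d8c3c3be15220010003961827415320fa8b0b81003ed07d458586a036c00f92c2a1bc000c07c06c72ab00045b5cc4c90700000080002000c4b4896419e465d8628161241d07c63130b0883d000407ea58440f800018fe2ea404630e8c3f987407ea5841070001800d2c1e0b05b48b6a160e1d72c1a05a0000020b071917186a6470b06171812514f4582c080000800603402c80000003028e41b000a5b3416e82db2c1230622d845d18dc0dc45820e50b03816800132e0008c4a000502e705cc0e845628cbe184058190682180bd32c0a0400f985229604180,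
  nat_lit 0x74032342fa4b1b13000030d9c58d87a41b186c32c6a32000000b40018b2e13e427b4b1a12b8a4106be58ccb48000022d046441c000400396321e9068632b8b1882d800607085abc798000856d0dce56200344a689c9336a58bc7fcc218b83336e58b87406530cad195858b45c010f18da2c583c432a0655162b09c2c5401000044b0984610a00005d24b1500c09580e9c5f38b140d1800904822288b1393399041372589861c2f6831f2c4a54c1df4c2d16241a211382278b1184b893f136e588860800000032d4c54a00005160313087168c2e8819505622c408465d202de05b72c3e84408d82d705b42c3c3aa00184f30a7a31a,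
  nat_lit 0x1126829c8b6f2160000126a26c00b4a15986630e40d50b26a1500010c48188cb260db8000015a268409280d86fa0002592c01000097d10b225f690a4000016860f0c1c1884000964919e0002290cbe404044280000183c204062242731ae09f013c8003000862a4b23a13061f1876591811000000080002db05b5c0f0002800b33b8591104852719ed2c865d6001c13e08e631a1b14627c0000dd800004e209d40c400001680002e1009ac13614f840a07ee5ee8b1f0b380052c8058f417c120023d2c782cc09dc36a963b06c07fc1b58b1d06c17b40d9c58e4474c9318442fbe58e48c800080022fba58e1094000016800230f2648c5f59637424,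
  nat_lit 0x100042d4a159c26f16684310000087c43f0d8b29e04400004b338081666001000226204c582970430210042808d16654302ccc000400216642601b5c3160b32000035b000659940a107cd0fa62ac0b31a17969715423154b3117b8104318c29b0b308f516a118a659810b800003c52cc010400000b40000002314c1e60008b53965e0620000010651c05e965e2cba1e40044000165c004001e05a2348004172c233000010ecbd5012814b0e4c00008040a9805100060540ba014c8001100046a02d83df8002051c0a2cf843e28001052c6781f04000004e0b431ce00083e211a8432000224342acb91800012104681f540b50001000424d0cc90c4c42d,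
  nat_lit 0x27e04f4b400148a6d31c233c858f000200025a010e800180062cfe004086026106bc00004ec000043017ea0d9c5fad0e4003000930c221a42be83692cfa870636c06d00db2cf886e15d41b4967b4360ab80d90b3d1f596f12de859e50d42bb83642cf0446000042b0d3207e10ac2280b3b9bf08d430de59d828008d01172cea476226844c96740ca000c048809181202ce8868225c43801202ce613459c80200001678024671659ccb3916710ab06d60008b381530112000659bc4f8b5800012cdc136000408816f7320030800000880d27024486604303e208de323461ac000966c432023c000cb359118002344666acc34930000000800020010b36000c2cd27dc3180b361668221,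
  nat_lit 0x2d2c05a000400218f915c42b8460519712d2c88000000b40010a73175e655cb4aa1f800002d2d2a0008ba716940e231705d38b498468bc92d2a5a4c23800300082d242d00cbc000090623412320124000140974800060010000047d35f0c401cb8000800343e00020ca43d58c30000064e1ca8688ba183232f3e5a305380da889d106a5a2c858000056e10645a289182b6968c00021f88cd00dfa34765a290f400080022fc811c1f94b4480002a600005f98caf968843c07245d5cb4414a8004093e5a1c054001001c07124b800000fa981309381d607d80fe88f415760010002968543b003000bcb4217201e12da05a0c64800000400031190620c46a16821ab1926354c46c1681383,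
  nat_lit 0x21e10bc900280000f52116c3d83d4000100065aac2f463680042d541680000024004905421698c31a2589200a585fb032516a944a000608f0b5406180012d5234f4d021978000000431982ac00116e62d4c1a008d408696a544918c434000e899e82d4a8905f4c00000072d4888e17d4c5980010f30008000c40780e901d888c0008c3b88ec445000220382f8a220000101635e0e004069a2f2d3e5ac0008cf0169e1bc2d3a00c2040003169d28419ec0018b4e0360000195c0a20b9b94019bf30640000000a2180002d361ce9108000169b2d320ba5a6800098302d324642020001169920e19e20000b4c0370000100c5f8025fa208805100c2624b4c169725f,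
  nat_lit 0x19dc2e5805867707d6151400096c64550a0a057c00096c518b000227f452481fa0a8a8a8000c00296c40a113fa0000b6195400030000643c14470217140000168000047818db3274352c0aca2988ee117a5c34b600a080072e105afc3e80020030d32000023502ac4688000341e3f0683c005800600008a4233869106fa2d760004d4c09a800100001b6000cb5d8b630df25ae5020b7f813130665ae057000001f82e582378a1c1a108e3116417103ea85822d6e8a2001c2c096b60b40000266849e87d54501332038806f800144f050009f400011e8000098c09e8048b9a824604882d68b592270007338c2edc0e216b144d0a602cdccab96b00ff0a6c2d68b57998000000800041ebcc88899844c,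
  nat_lit 0x2e78c838508aef15e00714b71162800200065b84084000800812925f5ca60000000831f00230c60004800e09f808e811c1a772dbe8b25d1c36c16de3eb331c17e82fd85400b4037cc000a2c00000080002010c0250df1457000001060482e2180030c45b686acc7609140e825b64f4cc7518602db0300607033796d70bb00121cf4b6b06f0000001051c0a4000005b800105420a74b5c66b8ad1171a6170b6991004ed0014003428896d216d0c5416802ce873d2da28ac1bb43a118592da02e8186839d96cf13100d6615cb6708216cd008000605a24c8d118003085031c062000114207511a7400041b86a40d4700000bc000400c001a087,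
  nat_lit 0x2364830f809000912f81dd43ba08be33625bf0fb06f09a8411bc5bed19414d8bd32df48c806480c896f943510440fc40018de000007e20fd437800000400010b6016c4347a31800000807f263081f603f92dea5bd11884b780002de601400040c982970ab616ec707097046105380b0000200022de48c0302840216f109010140000001976800435826b0073a0e8907ec8be000c6ae052a0fcc50000083af05b73e3000005a0008486893501345bb03800d601b02e1c5bad17800200892e285bac8c80dd00ad2dd45880000020004000f12926420b748561a661bb4255cb7422e970512ae5b9c4e82c8829d0000828000ccb20af00a5814a0b74801245c00042bc84b608e62ffa8b60004578808145a,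
  nat_lit 0x4c9c8197033060f11b00000964067a72c1ac0c3006822e2435e0c0c34206812e223300000b89171018500005c48c16971014e000e26c833e9710151000a67006be98c046b0000002ccd99cb8006000e0630b8723505380ab45c34888343056a2e180f869c02b5170b06f17441590b850fc99770ac85c2424c3380b2019bc5c247700018b682e10130061466e970708f00045c240d181a20d7c5c1d12c0bd017b0cac5c186f85b30bb332525c1511c00000062fdc17a8b8282680072e0e5c14208355060600023d00fd0001800107628d20000c19863a395075e0eb8bca00082e048d0197834f000c000a5c0519c1f8891e00045c01198c27891900025bfc968b7f0168004001,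
  nat_lit 0x19642ec05cac2386b800dd2e54508042006e972906c0000010658c6b61a781c225ca11c84cf8e311db05c9c7b0caf9aa12e4c85c014870717250a1000400c020c6da172447132742708b9182785b90f185c88c200008c4e139823bd1c017d9732000400044ac6259720000012e000800297d92e3e8de00f467d171e0d0030833e8b8e81f00012e420048b8ea3719b00b761938b8f171d455000a0008b8e033031800005c6c140001004000002d00040c443d0171902c062405240a617180f200020c38b8c00817170012f8e001800397174412e3000000831c9000002d0008000c183010546d,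
  nat_lit 0x1850092000a000d1e000080290bca4020be400100001902e946cfcd9f17454770b2637e4ba203f87a40f4c5d0c15c04400812e8415a001c0b4000868c0cd48ec245c5f98d622e800f2622033f173f2100c4e1890b9f125800e13b65cf42143fe0d612e781b0680c6af973b32a12342460b9d092800131081a3cbb8c4805d6310800100cc00181681c632ea0000b880018ae51afa6a205f9a3a800000042b8402c0fb00010b381674c3f8cd800002d335a319076d0a072e648e82370cbe97311ce11882304b980a182dc05ba5cbc1a80020d75173207c11cc00880002e5c69000000268011359000c001c02d972c16a,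
  nat_lit 0x6510fb05d7c20400180402941cfa000cbaf241000a00065d742a873f00012eb84fe6468bae175b0c9000000182320e7b481000c620c6f788082eb41cc5d640b400001680011cb016f024d240185508b83c0cbab8b10e561df03c3cbab23f845d360a5d551f82cf1a022ea816a0010da102490cc00005dc800295c09e01cc437e822182be05885d4d1f4c7a8c271bbc6b10ba923e00012ea63bccba892897500080002264035b86b206485d411ec04080862e9e50236fc7720f052e9e8f400080b416402c70be417c0003974f2e9c8f26bc872e0f022e9a3082e8473f0e7f2e98132047c4f0174b3292f8e3800ba508a0006006000861b411b17c82b7,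
  nat_lit 0x7a000428147231b0c48b00ca0018bfc031800530700c20010bf8bc4000348a00bc0008c1402e000130400e20010c14037000300b491201b0001182178600026505e180002440002000007c03a28ca334925e1521c000004c145a1d140f78c88044041a62842e88349000a5db92181a300012eda326036c000976c0b7000405a0000001189f385000a17c43f10c652ed490a60941a4034934925da5210000048f114661c824a85d131369061954002800008600000100014249186e06a85d9865024303532eca35000043560656476001231183ee97641080c06181cbb19080c210fb05d881a470887d82ec249639583ec176020f,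
  nat_lit 0x2f303d14265020904160e51244004037e01b65e58eec33680d92f2a7d608f406e979422300060c94d91002d490000005a00001c6038b08bc11602e02649985097e5e448341908e9e2f2015e0e00dae178f08306f23d18bc705a08ce09765e38b10000894d129213c923c0000b3605420ba6b906160c1d30245e3029c001000404bc5e2c740bc500400000080038004800700c82f1291c39fcd74814b2f107a6019cbcb97870a800343ca4bc881880c80192005063504885f41d1e39440041ec8002076803d523400083b7134a61a07141c9000008404d009ac08b00034520ca6044800105e0001071e070802c37f81110000006001c002800314043a00d92811148c,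
  nat_lit 0x5a18e473804e0000222e00000b400003b2076662e026c05c03b70452608cbd70b0022707260fa0bd6a4b0003305409643b700e11db000405a00000aa9b2d04b02a205386f59b9f37445ea925412889fe19ec3dacbd48c88e78145628b4dae17a827702886d6cbd392e8a90375a5e98b4800001687cc1d5a3d98bd291c05a936ae5e9018864a1bac2f4602a0004002864f107135e3bc472e97a22c100123948bd08f4864e10425e8029008501032f3e6de00100200008008099189a000464cc3c03d900000c00004bce00e534f22f246e78c4d49400000008121875831287da00105100a28144c6c8408e17994931c8c046cbcc0410243073e2734c838000492,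
  nat_lit 0x17d101d293800687c917c808630966f30be3a4d97c600603082a300001b7800003ae2ba12683031b6a00045f1517437280002f8805200006709abc0dca932338023718b600025f0ceacbe101680002f8662dc2231f7800013f65f041ecd3997c2000a5f04c8000118f20c06087810ea4c00000fda17dc0f03fe19601ee65efc7702ff1b2837965ef8a7c21f0f192f7a11a113c68697bc06d0002640830218d0007024e66246661b8937823dd0bdda4b8655197e5ee80a43030ab72f7217600041e0012838b305618a830497b82fa07760ee4bdb9e2011c02305ed86d468206042f6a4da048430217b412506b65ed000315300010c48180c08a0110266,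
  nat_lit 0x80410a3c326000001f067730d2fe06fe0bf111a01dd37a65f8526cbf0003000432cc1ef8e8c3a98aba157600008e000001ed12ba2584e9c39609c113841ac835807142fba94620a84fc0f63379a5f7128835e8f012fb6942627c64917da224073e2b44beca3206aa0e1e5f6064800283cd036800b00169a923522940001033b82cf48d00060f38c18a3217d600000484f8c08f86d40002000127c001015b2fa65ac14240ac97d249e2fa200c057400000022fa276612786428d252fa293a048476e9be32fa03d4016476c17cf0a100002b6c68784493ac15b03230648029a00004ac000401800097cc2f9a0160a60c25800007d000200681ee82613bf,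
  nat_lit 0x6400000027026d04dc6e40bfe80003d904ae0674000006800216342cd80cd8708000077e26140f01e0056214f4704ce0a17f94aa145c6d8c7510f922ff071233342d217f71e61d6a3f24bfba24800005a40b3cda28f4e3e905b06244df61c0f2fec9520dc8d7297f50a506cc3e34bfa001800002f02e00e54c1e0003000e5fcd2a0000004000431980a0014185341ed1d9821e80000c300010f9a66cc66800000402e805cc001c00417ee4a738063c582eb17ed4a600040018bf607e000000832802eccd458f132fd68e41b8c6510ca42fd440c01e077b8fb82fd23d812bcdd68f102fd075812e465097e71e70b9c3c38bf31ff9815302e0008002871e0d7494a0008020867b3340217c44705124a4,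
  nat_lit 0x1000085019adc160868bd2c4000038a12bc77c2de836380720008001833818154b0349264c00f318142090b0a6574c098e7022f0cd66048820412037b302266c001000618280de11fe68000038008302095e19a433382820018603c78c3918004000c6038414007000c301a110603002058e838f000055000003929ba51d7e95c1c7c72f180a1ce33f023e0c0490400051d6c60208741bc05d50b6e0004c30000801437d83a787428b264ad0000602ce0f95d80141d72340cc02a3d188735fe6010084db98c4c30060f609b0683980206d000005a6208ca31b7e384e70382d818014ac0f2233d0c0001403ee00020000350881869e0d9e2c6800398002ffe9560fb4dc917fe0b5,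
  nat_lit 0x32a414dc460298877b201860b92dc1cb0f7c305a41860b401800019721efc14c16f4701182c08b0a181434c15a0a1b861c703904000982b08930540100008006037c06f63ebc76c000182a30580c000103989c1b1e1c346440798284b6001420444059827099000213e86259b661be4228c45103554b506a0329ce06982638809f63dbce2398251ec0e583e58e2398240bf00020ca019688d0016802d4c8625a000006e66384e84001182330445f0608401800088091e36701ca600000326064601a20106940efa0f2a1e58e20181f4b3000005a26205838b0c169e000c90800004b5004a0a58658c920000000600284d4259000110680e44048000082e07121080e1011a838630325d0001c4149818087,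
  nat_lit 0xc831c2330801f2240c7e7183f0150a940c18001037842c04940000e8c00119da048e88a000418503042f900001fd86541c007f7204260e87dcc1c80098612054407cc1c9e6000007662db0cfc7f3183900041120c1c1cd183700808a035a0c1b814044437be60d850849985fb306c15c00001940e512f331d02d645ae983532016d217e0c1a1541837306c60d4158c7e8000306a10800100200021c3901aa6190c1a25c8ddd066e60cc1a4c57825030642cc33c8c73983122101a46180c1804085c6364e33fcc1825c000030640014a680000e0c306047a711cc188003306052c00042900523005,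
  nat_lit 0x616800018db10c22188304c6d076713966a1c00020f1858000217a43351df80000bc81cccfe82ab055900000140004ca20ec61aae6d952fc000043b0f2e1cb80b821d0aa31548042c054800130a697c10d80011852057000210a021281cd3f8000664d83c5013530a297a25b4e42813230a09780000020c9f044134be25acc278ca04031f2461382ec2c406e70010001c4ac1ae800004c23540dfc00000a702041b202901b4036e000e0008c8b25d800002b66aa46a58a9a29202b42418d1a9bdf07040e10c24a5d0149312640c4e3e18481fe30de7210e3e1847477084e2584c2310907511f1061142f03a187d130883d00db01b418431fc00006240c40186c16302c63d04e3b98421eb07e83e08e13184132601e60438e3718423980dac10482081841278,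
  nat_lit 0x700831c400044191588008000604cc3d7a64894f30e200080fd8a6821430e00000054c818d7c16cc0004f9c13d0b64000070e00080f601ef35c21ff83b5264000103d607b40f918c34c70000635c1418b5b4c603d410ac2128001000c61a93145a9813f34c861a500c2d20fb4394a61a47045a28989385261a0348c3418670004251d3103c5894130cc0f80e681c8986524b12822500c32136800131e80a2930c3cd07a1384661909ec142838d30c600a07c8828986202b095814840000bb800014922df4cc50ba0a491f360468c4780b903b86181308426073838e67260c2fa54838c070e617815cca3041b30ba02400040e3046535bc3f804c5a608c1a1ba210fc008985c4c0038670904bd844030b612c0000004185a0c3,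
  nat_lit 0x2ccccb30120004000062241980000168003031206183110db800115dc34403cf07974cf00002c440fc80381cd165a0aa01531b2320f862153380c298db39906210df41eb1b88398e6210fc816f99f500000bc00043828703370899a000078e992703c385a41d8c40a4d988000600022e68c40814000100126204b9016186f731007d600001661880059000605a00000200000003005800d00fd01364cc000622587da13e00020de41bec2983ef094f392c61ed32c13b059d397061e93284498f7630f20da000408b8765107158c41d483518783cc31723dccc3b83f81e41f8a61d82f00ae815f30ea0b81a5839498740ad,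
  nat_lit 0xd4300063b40af019a8000086456210b80000ab12b615186c0400099961001934000069e0d51abe00062a50dbd06c89ab000212b4bac4d88000095e56612c05498001135e28e2a3400009b02b110e201f00008000050e9a40a208179093312473062d4e7018912bc31f44244c488209890001000400c09604c01096211c623d0144171c7404b4623927c1cc836a311a3240000464065126c18101a6cc47154000002d06f6655c844988d29f05b04194c461759891211062306405118ed93838623d1ac06718c6212e421cc479f4826c38346238294210105f311a0060228046800001100046c583de00914d100022ccc40905db4d0,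
  nat_lit 0xc6c71218b4464319e23a8c5998401790bca17a00008d8000100f232548dc000007a351244c01d8d7518b0083000066e023f803d007e667c04526c048713281e143c210b5315e9ae644485a18af035315c00c2d5c5aa8b56315e0a66d647e910b3315c346691413f98ad05211cc0e3cc56050198120b862ac3d000080591a7a097812d892000002d00b22eb40ce819b31520b421dc46f038a31509ac0000c5418aa177000e00007759529c3c0470000000326a8000001046a072000083f198a346a0000a1400101c9039472a00040f7887f11f000007b01f204f81ec1688627c2ec7db826e313c1bc00004229a5603ac08b93504cb8b9e17382e7484f989d4d3,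
  nat_lit 0x67d4cfb0513019a000137400000300003196633904c000011132020b200000b400084b3012a024c09301104dc0000240c4dd9c2090312084344c6310684881418047808e8c343a2c631936c1380f8e392863151acc9787a1000058800040001a660641fd23eb4281000010800020444cf39fa000331846305368c8706bc318046824e485018bf1bc317c00c183432680000210000203c407012846a1bc062f013cc76907a39f06378000a6c8001399a63a42600000b6500cc2502ea4000000131724c02eace611010317275807707ce18b805d323c73a80000d7000002a81d387cb1fd99123a1a62d80d4c5a8030001006,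
  nat_lit 0x5a131c60004171a5c093835a86389388da21ade31c241000002bc18e0059000005a0000cad81ff134290065680fe90ef31bc52e00048771a6f01fa9c2647c86398dd03531b800c000464b84a111fc325d38000005fa0bf80d085bc64a86fc21b0435cc6d26f833e06726365050cd6800731b244400d400398d806f392a6360c6b93698db000663581b839b000007106900df8001000000a0e66001400001380010152001859000000a606f45ae00b4c6f1d3131a29bc6348018000851907140fa2850e9218d331a498c034800398d11f835620028c680550fbb31a0633ca984e20007319c12e046400298cd0b9,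
  nat_lit 0x602001dc18fe03d31fa05a4294c7e80000850ece1d8ceae18fc161342e2da088818fb44f0d9835cce0798fb4e90224385088718fa4e8000064e0c9b87500000c161315234778000200986b2130865b000104f363e4310c9b800731ec43c4c8ca738048000c63d4ea210cf4e6380e63d00018288f6c31e600000281ab9107212c00090b022f1d22212600042fcc8d9094000085c000411982c211da6ec05fba72800032ea442ceac992f26904541194eac90e831da9c83c60261000008200046d08d7505ab0b4c6be0004537006c1b5682400000b45358a9100100004c748548e5831d863a0028000003000631d063a904c00209951444288000849d1ad411789c6000435681571bc,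
  nat_lit 0x1ad035d46bd1b6736cc62670404fd09f932242be000c352069d322213227a04fb99100fa366a6ce0c8787c8137027075fcc87a7886a00d4244b0c8727806f23a9e75f4c870b1990e00600020100004c870cdf3851e7c00340000318000000800247a400284e6321610400047a38f5a21cc16a13bc001000016769dc3d106f287970f306d0451399b632129da000c1aa82e6321029c006050599b4320e3aa696417119063300002641cc840059b321cd871887e79d38214a7290c82a760000003c64100280000040000395e2a340102319902006000005a64b4e5d0f731dde00053ac1951c8400006404dcc0001b7337a636753a84a400e031fe9c4000406e98fe059,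
  nat_lit 0x1e83aa24294eae192c4f404ea3cdc79c192b3b3145642a8ead192a46b375c6e9c0008fc842f15e400001b00008f3415d83b0148888a9927035324c00c00040000af71a5458a25f004d00011ce326602680000fa000132484514ca52480000000a0f683cc0039a0e32421780f681ee19200a40ee40f84c8f80183eb07c264782b400000403d51dfe3c786e600004b10000653c6e590500be210a646d1f8002191d32341041c007e39d8a323450e6468018e1c8b5c136c00006dc0008abb157a26cd3cc0000ab9374e26a25343a69d782214645d3c8384107d322c86c0f78e5599152ae000817f01e4221000202d,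
  nat_lit 0xdd40aae22cc65148343d51d7c219a6514c800001ae70e242c613f84128f060c7c0000e0c0001162153e190431da7e994200636ae2b840000001079a0e1035927e000533606d453ec001000d165e326064e22b0001002024b02ad8d9800002d0010002458a0d44327c9f40fe83138624327a8fe0638335193c0af13621480c9d841000202d00000dec29a1c6d2ce0fee200c295100017a27350c9ca7c86b3377e6ee057f99384f8003200707a199370bd326e3d14c9b23f0b0a1a7e64d53dc000810106ec2c893d8000197b11dc7b803f4d12840b39482f248ab19334f5003464d88ab193244f376a7588c98a3f000000022868ad8001804070b0cf40000104000016867915f00014003992d424,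
  nat_lit 0x3a7a401480d995b32b4a066564020cd287ac32b446865640180011c5d3a6e749433c0008d0b1a1e3fdd408cd107a832ae74c3428eea195611832aa0026664ccb800032aca0200007b319962081e8c73bc3c3800732b06554caa28007451f3a4600caaa7407492020655089c0008000008c027d3fc001195432a65f066443cf995249e32a200c001001c003a078000666088009c28002019e26d836006080763b804520ca7279015e09c645808af994d4df01963774ca61120a8d00000008ac400186f520fa6e8c34c00106f835be11a000002000191581e1a3c38ca40d586f6118a651c08049b88ff000025c000070b1bfb0ea,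
  nat_lit 0xc5018a40008124393ca162ae00001ab823737c20000de7111075f00002b58d0c56980000ec446a29c80000acc340159c0af815e08661ce4000cdd9a850f5e000401f0a0c419000114d6014014400191ba3c0266ad42453500021eb45b26eb4000913a33c14ca00005221a199c1000045a0130001016a339446e0f0991b43380a1000042b1879a334a5d2012c00000353440000002011b9ef800300800026fa05cc0b932a0000005a2c58340844400024c46e1c5869b1c00002fa00084d39a6501761fb541c000876e0f1c07554180000f100aaa55c336c66e918c32be000810b195e5051ae86fc8199995d1b016300cd019b995c50404ea43c8ed0995c46b000274ec21b04371ec000034646801ae5441,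
  nat_lit 0x6a8c85f00010fc04301208000171000233443b8077110bc51100020164da0827251000000100158001000533201e42c544e7198f0c30000015cd3a022005300a808d811c066d36121998cc728783e3205830d061a998d50e0e2c1c64673998c27412ba3034cc58148002033c0f841ec000004088f142800a8016998950d03326624016198832003f80808cc380880010010e10007403599d001c333202e018041c0017029a5e0290c0001af90ab37bc004441c19d9092000029c9430045000e1ee03f02e880019a5e2a8179c00007df19b9d30000075208dce9a80011f6266e3efc0000fb30511ab6049c000012317a26ae15440008ad533e,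
  nat_lit 0x460e9c6c20b862e00005e48bcc03c044208806ce11eb3c706689454633107f3b9878d8cd092b8b30045868d8cd02060326064e2c90ccf9900b2b16466678ffc7ae87e2333a5501b346979e32333a06e67848e2999c2eb10681648cce19b19df0fc86674a040000169aab1cbc73ac8e9999c51435504174ccd9ff90830fc06668798cd61e2b33345d66a1cec8999b13a33ca1f70ccd857000002d0d4e2c348e7199a0e20af04720ccc81f0001340447c08f403b53e9000006805f51dbb246034016688db11c9332e426666cf11999605b0b044714cca8fe00fa339a1f508e291c7332c665544ccda87f1332e50200000588bec34f476667988e39996190114674647920d931b2a366ceab0002512,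
  nat_lit 0x203684598e140009a31230288400000d984ca0a6036a229445880043374a3404dc00219b91430bac6ccc0000520002026819342ac000813521a6528000009b04be0f3026070fccda8bb19e3105c66d4a040019cd01af06d64a1c0000af0345003403f4d0b9e6023d266cd4640c083d8239e479ccd928c05ae3c9266c46402e111e733603f80004e4b83922f3034a0678001000837d6018ccd7a8b83a3338a66b87388a08065335a40406640cd009200009ac000c2f4009208d000001022788479db121e066a86ac69a0b38166066a4c54d879094335005229882db99a72913574769476b80063350669d4581268231347a6698834cfa87eb334a15c126024a8000329,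
  nat_lit 0x19d8008000269907ca1aba47f0008362cceb91e9a621b16675820c37f082233aa104000000400080bd33a80fc206037c99d336f33fe2090ce98570bf0000000048d8002048f17f677c000805e0d5c0bee7f00000045808733f04c035f464c1e2c17a62964ce7a8e80bc01962f5052c19ce08936f207140098014339aa3844d452c9bfd33982e8004000919cb0cd339401000380b44939e0e001889200000b4d26800434c605384f0dc18000042c678196c00088c2337367a00005f29d302b9049a0004b5c00000080090000014c2dc02704310002670146c00200b901760d2000c0dc042f085,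
  nat_lit 0x1a3b10e467c0a04d4a083233e415c47cc41899f20110000002000019f9ac90b7067a3500dfe8944000667c4cf82918a8c1dc2489ccf7a6583e63bd667b823c34d9e8f33da06200008b489553960aee6cc49111e8d33d880415d0ef399eb52200007690e1b818883436cc002c2dc3888000001aa426d9400099eb48d0028000c33c0506037000405a00000b4daf86780004003548033b8001001a24a678c00217e8008000660a002000117e00050002608000c00016a067136b4000400128f80000ce643fc9840b6817e33b6150000802019da00a0000010001038205de04e809d801e99d951e,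
  nat_lit 0x3ad67660d0007c850e248867fc0ac0009c213b2200a3db4ecf078805160004c784e309b4051600014a80000008284050467ec7f4d07923f33f46de697444599fc281000005c00b588795291f902224cfd8f31aa5247a67ed1240be9a5a110e67ecb04314109133f4422189891899f9190086e48e8cfc0fe000200002ff4ce85fe910823ea0000cfc8883349ea50000425611f03cfea4e000013201521a53626000ccfc19f644f362e7500cfa84184b910fc67d02b8861887d33e802212c0d61033310ba497043e19f4526095874f0cf98479a28244667c912404c1a701076486490c19f333e4a4a000014f8138397053a1420ecc1e1e250249c891799f252434783d047138e2633e2a1c000009b815a084,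
  nat_lit 0x2d008a68d09311a1953034e87b40d0c175800000837f6713c52e00002bd000246c079509a94f30b64193892d1ecc342a74402b8d24127624b46850fa4d17125a34260b6000469a1e800682a5e0000e9004c011800126850d088128bff17f62fdc000a6580033ae473dc6418bed3d0000475c47480bf720300023a68e7b824852e000005a3220643884d248e68313e8d5f0869341615c02040428dc424e67b00d05a968c7a10ce6828aa0000118e08b061a7a288f7880f101c0034d059a0952c059c3794f5e1a0803735760a40d0381381db219e68181b4d2b924b340a892000c41f9c6b085000201005580101a123d727b6cf5d12473406a5638a4f0990ca340417c78408649a01114,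
  nat_lit 0x104131a2f2e407ae2074d172321af4104a68b50d473b90c210fc68b5310ddd868434581d40000d161a2b0de00000101f6c3ee870a00023a400046b71b3201a00002800382062047e08f87bac9389a27533346049c4d130c810f50cd06898164d600889344c15c013048f1ca2254649c8d132698b41110e6894044592923e24e068946c0d3b1ee034485d668fc9389a2500001890de5127a3478a646e803158000190000068b4ee202f802d1f3468882280061a2534421bc3d9c43e9a21281000011302299d4a150e29a4dbe29884490a8e0000e980000169bcd21de78dc9341a1e514005400987c99a1d3881fd021dcd0e0f3000002d000207d80fd85db12d,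
  nat_lit 0x3234e490345068e7122a243141bc20ee61dc86a11a49538093612745e8800900143a70d2429b872e10ae31d46391a470b61b1236207761a4653602de31e87571a4527a14c249e4d2211e87f92490690c9c87ef0d3b348410400000b417207de0fcc7c14d209630cc51988224cd201b68003348268fc3a80049a41347c1bc6f0832b1a3e3ff22dc2318d1e80880020c98737447c3739d85111a68f14d41ce0399347658819283289a3a0d036024a0cd1ca2480001d1231802cf29a0000006000019183249cb86410cc87c0c93e9a362133774192cd1a9089a3724fe68d0640d23127b346615a22107050e0900002c600045c8122f3c885300000189831505b09002e28de606cf149429c4e119a304b3,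
  nat_lit 0x1400d961b3269885683910d9334c22362718f959a6001513547ca8004000013d104a0edc00004d800324040ee11140011eda08f65f200045559ca507e000047cc54780a0bd73a026968be0de7860f34b210c6c509521a5849b34ae00c0028d2e1a572020a2a2fa85f6101220704c009521a5753b358e22f8d2b8570527206640d897f12a234ae92a49f045e1a562a835927c70d2b175800135886b04208000000800116f200e47c00000b7b118e3f80004d2908b635808ca1d7c3b080003080002352c0181a58254423fc95e1aaa02b80af01a7a9d000037c0091c5aa29c9d9f0d044ae0f899a4e402377e4a50d2682d8697252869302b4002016800002d,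
  nat_lit 0x178c5019f4a34f2a880e743021a7807f396236bcd3b90886363e9069d8a14d9f12c834ea15a00003b407690c481888d5453092b4266c4c789641a7554300040df0fb91049153000201009b0d891f63263c7d0cd39aa1037438f47bdc9111a7250d375e1498377800112920861bbc000125800105562cf437586e000001e803d416888e1b23257e69b926cd36803000100b201d44f309de1afaa8207e0e8c1f3b257869b128802b0bfd3ebc7ce4d35aa01cb113f869a8facdef0d9f34d40a86f846d19a691f4000005a00003a50750193636f14fc3a39f2b2392471c5f11d1134cea7c7bbc222844336e8000cd341a6653d38d8223cfaa930c256869954f04f58d9834c815e2230f981a642eb061009f800026d0000008,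
  nat_lit 0x4f2088f000093600000204488e051b9c373cd499000adf1ba27da0d492181d011b9a6a44ffc000003000035206a501100000b7a04c06c9c9899ae1549038a07040001f5800104446c08208000026a001606200040b4ed28ad50bb2176c10e80000002a90000001788ba24141124d922a39a933eba6a20084d499f5c351001e000853a11c00aae1550e658a5f4a0000229bc4b189640060a0e000053603e030d00086a18d42a4f05173eaa6a106f0d418031c650fd20010006a20800014d4108420eaa30a6c3c9a40bce0080012560d66707c321800017000027ae48b4863e545000049d03f487e44e1000200c0220002800101a00006e688b7025848f15fc7380fa51a7a213,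
  nat_lit 0x13c607de85ea8b8800002d1e224a28fa61aaf1b721804c20d570bb87b90f746ab45005ec0de735581ce10a4e1c000000a00021ec03421251b8000001eb825c3d6800400020d295342a88001000c38b046e88e154c388e355c00002800020f3440c0edd80b0000113e2900d57a1607a80f4c00047b83cc8b5e00000c600080098b4508b0002003c450005800000181cd904cd511f77353e74c6f08e861a9e041353a002409893a9f38353a1a800186e29c5a00b0008000c5c684b800100835406a6800004db09be408152c26d9d090c5218a8d4ca53800b35346a615281df8628352e300007cd4d9a960de000635c0ec9872b373,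
  nat_lit 0xe27800b000e0aa000038f091233e000001000042068a0c3d8042cd5540001bcb16b47080000d631ac900b0000250c20415d8ed5226444bce5b80032ca39762114001044000100800000004fcf9acd0160000000c0010840554357e00c00000b40001f9b359000ed54cd5e800831f3a1400047dc5e39e35000023000000b4f278e87094c12880002a9000000ae7a68597aa8805700066aecd5d156083910746ae554018f07c735702846b00fc91ab733638d2000c000001000014926ad82d000001680020e907454523017000102d0c4818ac4751dae15fa2ce8d592a787431840307cfa79ab154e,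
  nat_lit 0x41b0d680514d718d8000124e849d4dc89d9800024b0454ce6e0b1927537166b849700fa02c335c047611ec1619adf1850e9205f80001b7800036726cdc16400001680012496493c778818553f00004834f9d9b7f46b249249202d99ada53503e06fbcd6c81382bb0a5a6b601b46341e1b17027558294052705740005560000004000321904910fa69b7e2070000010001016f017935a84ce7d70d969ad31f83c8e05e8d6916d8be702f46b448ec197817535a012e6e0c9999ad002637064cc8d6807e80001b843a700c62ab9dfc1a6a777000020380023822157835286ab1f2e2a8955800090ba0314888000085c09821fc00066b40d659408000008,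
  nat_lit 0x12581b5000025c0000db21b610ea00000020d7e0c980001e3c1d8c44881c455b1e361b200010209c480b3627d80000b1800212de3cd4f3f09fd55a000205a002068b881d35ee8cc344cef6081c35ec3702158f50081d35eaa546bd00b40000fe612c440218e0e3600002bb000005a21a043486280c4a6bc51d0e79089135e039c7784e7a9aef00e000007f017717c04351dc47984d7727480321e143c40d768f509601e4c3ca8d7605f800200106bac0445c7880f000a6bac740283000335d41966ba402079e80000a1442000000018f302ab000602100429c1911c0004109481506b51d5084600040000f2c0c0e67a3c147819efd000600140a29ae4559,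
  nat_lit 0x4c505a136342861ef82ce9b1906a22664f9c1f0000013d00000020004009017c44400000038501009000038167028be00001b14362a2ee001c51483dc44200060100004ec692c824ec340c6830f2b08a0abc00000b4ec59fdb0f9a1f1cd87aa9128525e44bd09ba1b0e55d12a2207840d9b0d45d36d00c30d862a512d226e26c2c60054d1ff43614176161c96f1b09291000405a000002095f9fef26d86c1c2f8e0f07c30f7a6c187841ec8810360a01e7b64ff69b040e7000205a00041478f7020e00000a74fed88e829c276008d0d80aae064900023128d20118027200000242094d7f8000291,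
  nat_lit 0x25904c7c9909b370be14a04c04d9b0068774107c6cd4014d9c939e36681f235046a19b33015000c213800002c800319721f703ec8a9b1ff000411802310b861c448ac00044d0801700223025590000016811502302118d970cd800910946cb4760d9601680000d421030080ef9000800040162134001800106036ce4ec49fd8de31bc032acef71b2956300041ee03dc8e9b16da2dc8d942b1048a365000383e81b27561109a26504cb0cac364c51879687088b7916da6c94e7c422897816dc6c9099004407cc36461386c88020da28ad9000215c000c5b09d951c580ee476c0010b993b2a2db49bf2b000013b2a361c1fe950000002d3a64042408205a0363aabe381c576859d363840a32602ce9b1b4e2,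
  nat_lit 0x3c60000369e12e00003ad07580f1417e05540ab811002220024da72b48abb1aac00006f00000040ba53d163928f379b4c56816342c645e01b4b36d132826486271b4a567174079b0da487e06f418986d202a00000b6c368e1bc0000020002000016d6538000000400186ef3b70148000400288181c53a707e8c9b18e1107d26d092ac00103e5368216a1bb4e159b400b4000020307a6141f27b46e85598102820000066cfcd787170001367c65200041cd01ec2ab00007068f3b037800000026cf06000001baa375207ed240dd492ee36768fc000050f1b3a082000005a00001a012d9261067a4e8cd9c2b28000008,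
  nat_lit 0x302d00020106de89ef93da36ca8547485013136136c857a6da4315062f36c621c43dc9ea1b6211b000017286d88dbf1050b98173cf330d7526824f54db0ab985c916fe6d807a028a9cc836be32072789e89b5e36f03360928daf800236bcae40000dae800300026d755c4e4b209040fc70acdae006000100007098a15944240d26f200eda017048e6d715c013c828107d20920dad9099c28143c6f7cdad2b79c3840fa4ff0de280014d90e22206c0eb000004900047b9c59d0bcc03acadc00047be84e646400001294254a3b0f7d226417702ef05070a106d555b40011b560c2e6d5098007b861636a67fe0f8030c1b521e6000000040a80a8f151829f4da92b6000112a42e445ab8b5316a86d495acdc787a83a286d49298000000236a21c6253400b1b5236a2ad4054c0011b502db,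
  nat_lit 0x3011c27c000c0068f3f1b7f0c51eb20ffc5d59b7e11900021010e388d5401600000101669022137f27e86df06509ae13fb40f46dec7ac26a873a26fe6de8c98dbe93f136f23500004020029839140ec6de13281c68f3a36ee000499c41c9df636ec5886de49f61b7507a000005a465f061816b004c00841e51b743a2030e1dcc24c849836e64d26eb45a013e636e4ade6dd89f39b7152216f83ca4db8009000518904f681898600000234421a55d475a8107000010c000402000320233aee19d4e64000e36d8ae804042ed000d36d62e6787c65a800b36d435a6da402000086610a3246140580000041ce21e7480b49b31b6736e26804d889ee9b663d3,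
  nat_lit 0x51def37383d20fbc55b1b9b3a115542ab0dcd00901610002001c00800000080020028753c2dcf2305f60be430b85c88b92372eafa13445d90c9013e027c8f0f9b9657c002230ec21e043d16d82f40dcaabd80ea235634fc5f80b8f3728af474045e69b934f71958786cdc90571cdf0c1c00083369590d0015ca0aa00010000455042631d86ea88f2000209a199c000060e0c12296000000200020f0a7eac6b72bc80060a8c15281e000007841e067621e046500c2f000c00055e0000004000507807198e321b8957710b282d8e319b8814d3e143d6c1d99b871a31e0c3c20e309b86075012e0ec8dc29ca8c2807646e107b82f80000370809e001402000180053ce623315d80011b8327100d200040030090312,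
  nat_lit 0x2d03c2417105d20bd376c4aa2940fbea012376a50e35b105e14313768b0e12c0a171bb31e700067fa082a0b041602318000905c144c38042b20004a16a0b81eb81c20000a150d18586375e0027038e0781f200006ebd05a04a9585000044889ac11dd3610d7214b82981bce015a50a0dd6ac21d17284a6eb0890e64142737568e2000000783da1e4835a8ba8002800613882fdc8d01baa52d19c60dd80cc819617366ea560cf9a933b23426ea160800009fd175291a27f46bc0c2f374eade78c46249ba607f374c2af4dd282d89b7188c6e902100008041d7500ce0008003ac09bb5000200142e40000168003001a743c0379bb4580000400206b50e29cc33c3e2f0855b1b9e57f0798784455b1b9d57e,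
  nat_lit 0x84441ba6f3423011e9304379812641809161bcb11d00000100000880110228867271634fd5910714ee6f256302c2a0d73790aa03b247668a7537903d6708d06a9bc70e300061f0c818031a0d90002000035682c405841ce407aac586ab05d47a70695110214e26f1962881910ff14e06f1496cf739ffd37882806f28a229bc325303f84bd4de22320000008062251910661bc30f2093a4bc8de1048000024142aa4e00906824d00023ee00000040000006006c8320018fd591cd3e8c33643da1bbe58900001fdc2e205c30dcab1000000040000d543b200c07fc8ddf1bbb210000e0044ddd03791ea001a6ee4884897000d37701f078080f280002bb,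
  nat_lit 0x2cf8cec1c444f88356824a5910b407030df3007000101706f941640020005040c02e0df2ac81be402d13dc4b889709be41633ee051e4a351be3587395c532d07a1be232004344254df082e9d0b41e46f80ffc0000dc328044224d846e08b9a1736316862e146537beb1e74290779bde4a103fe4240dee8459dc5108e6f7002ceaa946037b609e00e8003000058e000005a001d03010ee21da6f64f94e2310f137b085c00788779bd725d28882a80deb0088000241e74b480411282213a9a6f54f3049b9f9837a842409a0a2c9bd33a1152e5154de9009000602d000801041d083d200d37a016648fc91ea00c379e5f4443053e9bce1f9,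
  nat_lit 0x15e85228dfc82d9c04422e6fe4890e3a148a37f26ce7060606928c19020001658000010b386a31fd654e39148737eea9400000b41090d671e160008968000816800102640f3d09d83be594000004c1022883812e22406fc93dc0009bf437e2502359d0861bf10150000010000497e12fb40d27158a48ea994fe0a060164e34147c37e0b2622984c49bef47140724a1042c9bef35b00022164df707d0001000400a4df71031ddb10e049a8df6ac38001002c0314df68c20027226844d8df68f500113f708408df61f9002d212a6fac174e5e947337d60040018003822721402d1c5a31beb59200004410e3b05d910340ea4750132800031e00000027188e2e800005c,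
  nat_lit 0x74ac9621c1247e00000da0e08841000302d079200000020be000307ba0f641e6ace000207be145c1e000083db07ba20e70750991c1500047034e062cd9cec2942702c20c00000400013a44859492e204f41b684bce092cd000008021d84cfce901505293a7020e20565a0622936701d664ea32120291c7019660e73149a380a85c0010e031c042d2078a85481eb00001080000525c1eaacb9c0200600000020a846d3800007e000208806cf1110000043c81c883ce6f949137fc5c27004a489bfd3eb00300064dfe847000200346ff083855b930526066ff058c28b9495291c6fed61ce03211a37f43ce084508c9bfa1e9,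
  nat_lit 0x2d00024df89c3950339a67d0000058513413b126f44b4c4611e2d385414e0014e1e88a8385220a70a00200001d67000816e4d08e8a9c270ab0810102ce1305d02b505667094280000800538481e6000000105312d900044abc022ace80000a60743c648002000538420a281ece209c200a000100014e0f85c80010a58546ce77a780410081e850ce0f106852a428670749c80001c1d383810400000b4e1d1c3700ce3f940009211ca7408280500002cc000005480a9c83ce81a13d383044800041b68b9a23607460e70714800113d000005a00043180bd13e720ca000031404271a50c5c2f348ec9c13297,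
  nat_lit 0x477434e11a00002d2000042e6119d68ce2200300001dcc83d43d6ad1000000100022ad4fd108504d0000800003105588b1b24b24960e201e2a023163e81488e69c3f5a10ff024305b61c3e49f3a7885a8e1e91202ea05cc70f10d40001ea00b943b4298c2a69c3b07042c475f4e1d1108001000670e41b88cb2165161270e48140002094387043a2c34aa094d5387085875e10ae94cd386eb3074b0a699c3642e082a468c3cc07990002b400eb10c4879a00002100000a680799597386600c1981085940e000017e000032b8e183fc649a9086acf865311364c349871c3159e3a4a532ce1817082d227b670bc13c00080ce423816800000999c742ee,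
  nat_lit 0x1c4e0f2ce3cfb983c938c2b522f788339c6011838be002022c0002067059e73cca9f9d0d5a8000000080441a1800408f2286847c00104773b7886bce8403165a739ba54ace831d05000e0014e2da82905d20b813c0e2d0d80477176413c4e2ca9a875a09de716026000107770f0a18874c45c09d7c00008ee00081440e051fa654f85c221a039b60a300a381425a6000275210d195323b3a778000014202bd0c400020000f0417587783ddc2fe089f113a0004b4a7510ea100003080004016c02d160000139ec8100e8c000005d00c219200000031c4d20c000c3bcc17f199800202d000675290d69d4e47f0004010802203c000108d0278441c22214e938900001318ea32176388e9ee0014e241c46082,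
  nat_lit 0x4435a38b460e8a0800343565410a5f91d00010004548400c2d70001435e497168c0002160033621e71dc018efea1ac38ee4480494a891c7620100003a74599ad68b313efe71d483000283cb38e8104000c0198f1f222000471e49a09c28000000c1284e10004007100dc7e98e38ad6002c3d7e71c075ce3781680041884341c55c00001680013ac28740eaf8445140828156ac000006e086c2c801c8e3f150f38d69bc2bd857a150d38d46fa7650a871c69083000229e1065851324700007b3c28d04ce5aa14ea41bce338de1c66006226485240010b60e20427200045e0964944d0000344000471483b71e9,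
  nat_lit 0x919d0c1804f4097adb0000242284404285e51200159a2b40e4b2da950041282f7891b1c955b43fc85648a9f1c9424e287a4d249c39c9312025784ae50e59c9218a2008401ce48862000501ac03647f000184c20980000c00028584bc000a00006f000000400040f982c345879c8d5b300b801645871c8c391060c0c1ce458fc0d693e20722819025c12ff136c00040583e409b700002ee00000e601cb136ab64000c0049c870ad000c42390ff9dcc25b000a050409f0ab8000160e0bb8c347309e2d000077c000002017f9d203a440c3819683283904b620694004800824c672056c084514cb4170720018435f20b638fe11071f802000c8003000a2f800150d7012d3a6a74dc19382db5af,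
  nat_lit 0x11678a0af9111f22403370e592de068116c08704e58a0c000213703360e5804c8ef919ac72bc0145300f15395c5787b744dc89dc208a4118a959cae5bb3c0c87a8e56912000705cc01800308ed55ba000605a000508b104113b00728e83adc9d273a4c09cc44c08a2141672a96e0988931340f872a496c00306b40d7072a08e035086c1394e01a79543b89ca60620ff41aece528158000000672e02380029e76103272904989cd9eba39464b81d9c3f61ca20643bee5760aa71ca23880048863caa61ca12870d5a547ca8f1ca0441100e552ce4f9c3891920d22c6c0008c2000116381b4ca500000b1c3e442f827049c89c9c4a1123a5518e4d970800b0b90726800800284db3b5c2022e9c8868ee93fd43bd4e6d80005b7,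
  nat_lit 0x19968444034fc78ba916342c78597a207399ab840d4c1a88bda3998b8278b8abd9ccb2e1130c44fce650278b04160a732505000000051a4491a002870a0d9a3990582744c6dc1cc707f0ace4090e630018d112044731421000000cf01a607c00000b40008ced1ae440d866c0000168ce919bc29205209cc15c03eb02908e600bb0b61148072fc5087018a3c397c4040004000047a3e462a4d6fc2390de24264267c0000061ce5426200000029f1700c000424089aa9588002000075f0ebd10480030014802ce5ca161ec025dc83bce5c1f909743dbe72dc89c7438426396c550001c408834d3ac056a0ebbadf00033c6a78d83461eb33d68b7a00083410cbc120639a00000471cb40b7,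
  nat_lit 0x20a4739d40140c48f5506940002b9000043788677034891e00003781e64227129048e4000800205a4739d71ce7300400043b5a48e8e1416b21ac28c841ec00001d0001001c53d4a548a980000080018739000981e1013200b0e712e3002c005c73843f0002816800600060d2c47c002800009ba0c8093000000030970004001910f824a3930c4005e00008c300000008455420000112c806c6b8a000412182312f900004af85ee801800939b0735cbe0e6b0030001000e2bc1710000000a3d68048002028600a608c00000101bf837d86f60000488000000186f70deab86000c1b201cc333000208c4116a162238,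
  nat_lit 0x2e701ca800058e000205a7e7ce8300003b6a89c0f09ae7838f0c9c00300081d0519102ca47c08fc14613a08b9c2624b24a2493a0676631908c095b53a043d81a3512115a73a0217e79b11231d001e706e65170e7f9ff9f7d0000049c1e00000001163a1ee00040f701e75cd42882ee400099481f90f8200000ac0008bde1a6a3c1cf9b8a1b40fab9800009e306422f903200634e7c0fd8013185073dc8d04b3217f39ec37873d40182eb0b7f2a6c552847f80015cb036a1d9c3bd00000012b9400080ec035d2ee00000a14447a05f20702f8c07b2e4891a3f8407640009cf13e6e62200000b400091230f881f080eba9f80000f5c1eb12690649124417e73b52982539f7739d8a947a84f621ceb1a8,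
  nat_lit 0x506200c28034001804000102d0e181c349d21d21136260a8654a939d2012c26348aecae91d1f0f22262574ce8f00d208a26067474240ff50339066656ac000aea00033a4e0de41bc15673b2609f174c00100651b782e285c312b800100ca2f1c4930f5000000c81ac828402e87593d6818140009d185d244900014e8b8850007005e1f94f3412d800002d136c00001820c522518306c2d0ae88000000601ec2140008aae155676808580000e5d2bc8562891872e15df3ac406b0a1309790c34744574000080060fda7440db4e8988793a1ea9401c4174000046400000dcc8fb96b836f001a00381c31d0d377194e5429104875e3a1873e4510ab09eab3a163a0026c04f1d0a1043a1201000005d21d4b192,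
  nat_lit 0x71c74fce9f05e0c57000074f42b400300400000080002001c00b84981643ade05b40b61d3a5d9001400440b59d3919c03060604e9c0550047008674dc688a43053e3a6c0c600040b41c884023bf877e81fe80020000bb00034a3512a7000265600000b400083aa074e48c48e0000006100be2ee09c40689d303673a600398e978351e4640b60aa859404a52a74000575c000016800100128760a46899800002d00080014f8d85f23a568e8031c0631d2a00e006217c4e9490e80013a54335175909782c03db67cc8e942ea80010fae749c7a416089553a4c7421f2c3e402bc23f80000cf40001f5420d023000000039d2400e,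
  nat_lit 0x295592ae61ed954400215592af085102fc00000080dc01b400001f800006ce0b7e5987948265000b00080c68fef1d525dd2aa44db45bb9d512ac05f42d98ea802a000302d3a9e00045bc03d800016ea0c5130c5ba8d221a4855040020aaa1bd4496000cea62ee1f5e279487180011610314438a000448800000400010daa47a10a5a1c35db00007b34f6586ba3ef0da00000ea31948000000221b41bc00112123a8a424000078e8cc71a51f5200040021d440bd24207514ea1857000118f875f00b905920b0416117680bc03953a8414452b8ef61d4108500000008ea00370002211a75007a425f146f3a7e6de0004001147f3a7e96e421c25f1d3e082,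
  nat_lit 0x2215f249e32282f985e03adebc8124c2f09d6e0590002010000809b0ba81a7c34f408e1d6d5e30570564c08e1d6c5e22324765ceb5861811b057a000004000101680073bf075a42e8015001f3ad03587da84951d6718200042db82100426087ebc200045b28c7730d00002d9849d85b8b6824645a6cf368003000e759178049f95e50012758ca7c17f80093ac413079d4b4aa2ad3ac497079a4a94a2543ac2bbe27650e313813ac075879951551d5f1e717104dfceaf050800418e075740440010b82412a1454af80008b0a161234400005c114100c90002000cead05e04fe3ab67564a140000a5216fc3ee1728ef383043ab0bbc00005b79d573873ab0001c1821d571eb,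
  nat_lit 0x400ca4c9d891d83b1005a000cec4201e20f3fc20004ec3871d0dec84dc84e2f50ac200000004cf0000835a098a132805c00b61580bd20000fd49e2208a06b0130c2628fbc0002000c4b91d835e8063a34644b89d8258700001d1c35a06b71f78bce7a3829600011180000002000000605e5444000a0020ebf05a000102d1d7000180008290007000600003282749f8a000016a000810b9249294000005a001068916b319a825604aa1d785e606142544ebb9040eaf060c75d8cd80001e892a8c41c7a20b599e8d3aeabca80f02a31d742c4000013b4eb9818800002d000048d10c291e23cf475248dc84180013ae292000083558ca314fc6180004356049a201,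
  nat_lit 0x44287a12cc10fe220118216742cc8598ced1af78b5c2314860cb2e1da21f51bb60014ed11da120507584750ed002a1fc24604767c1a862203a7000844600000b40000b53169a2d2100b1d48d8f006a000003c00086e23b4a9c4000100783a62f8165e825016482ca3c403534eccaf70db63f6e26e4b289d985ed3e888be4ecba7b809e2cb476582080000040000098e85087439f3c0ef21e017b058fa0a53b2804e00c48e29d930d03f3e8bccec9039031e2bba7645124000800606867645194f8722b63b2215e00206631d900b4000000c00003af834539717540010001800a5eb000256f91110db5441000033fc93e95d95bc2b8c5ad88a49d8b40f00100c909219d8a03d,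
  nat_lit 0x42d86529dc108d0c948c14ee00139f772d0876fc1e800588a142dc31881d811b023c001200017d82122241448a4e8112821c20008bea7f804f48b4f00065d21fdc400800246441c086fc00098400013d587aa43a800004ba0ff65ae12f0206840f215a3264edbafa03c30010003464c1db63ab1e4c1d983b11db55f3046408bc24a9db45f21134396ced98cd1db202d00080bc46d58de73f08be2000c179a1a70b700040bcc6458c9129200100040ed782983ba001c003ced709302f213c876b4e545811fd03b5830c2d8c4ea9dab2db1e322780ed506509d913a876a42e400104ac3c9007c00010ef96d040407ea49045870126024600097c05a087a000020b82d743d200001e8,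
  nat_lit 0x5108017002a7778c80eef00143bba14227c400007c900a0f8c162c0001691ffd3ef21de800091f8675001a1de48d4f971f2d001809e0b8800504f02f0009c013400105100000083e4e1008eea800e000698e0b84005000d000449e0054eea00011f9463c003000003b9dd9112c00010d80048001071867800000248053201071a81a4f64800257e09de000400182b04dd0000000c8d8ee5800009e25e07b18564128509ca7b080009dca5f805a60c9c00002e80013b92198c828000000146280c8000118a1e7d3b8cbee5938ee380073b8c64000040180008c05132426a000060294c139718044f4518e1dc34cb0068771cb429dc218e,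
  nat_lit 0x496092c926542dc3bac7829dfb602146659f8925124600180044efd3008824104642690c5a1e63bf2c00012802588dd11b677e17fcf5e11f53bee15e3a988fb1df60b500020030efa85a000612ee225445508ab2bc64fbd7f800084893f688880000243104a1ef3d867b102450a2719a2335cef92fe8818103a2e8466b1df11b212262444b3196b63be0bf87dbcb5996b43bde94c5810b2ea3323bdc64c7bb82989ded0ea10ac216cef6010084c2d6277ac228817232e3bd427423404671de9291000000089e714a00021662813d7ec00010e6401828085028a255fa1e103bb081e8af80c600018ef32fc8b2e05e67798ef2ac62010000c779138820980063bc6286174c0009de21f30c587c3800005b8003081617593ec001040e0cee6f200003de83f8322,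
  nat_lit 0x50060006002000418186fe0f700000c141f695883020fa83ad500089222c3e785182825496173c261480ab8b0f1e120571b44586cf0880180060342106c15800107181d9423000000b4f2595412a848ca4f0730492712932585cf06a20851129888accf061f3a01a2928782c79c0cda2b13c1444e2394473000008400003c5c74b8f9030c1d7a21b443597722f127f44f043040307099a002000901690670781d81c438016706707818f68285047c05a00004538204050b3d04000000d01d00000b9c0ac415b30306e0000020a8730000000819ec06200200b4f76a39a0c1618200028000098a0bfd814262812e1896532cbaf9780205e0005810000016800214642e905d4102f603000228c456b84b3499,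
  nat_lit 0x3f848e8cf1903f833024a478c4a1509892303c600b600004fd964660f260e0360001000616d82928f17b070bc6178e2928f17106805d149478b48f4f2380d6000093c00040200020005283489e512e931a1fae78ad834728a1d91fd685b0f1523907710cf685acf14990000245247e6839000000400063f5c8ef85f48be2416029b4f13b060fc714dc7898b100000f0e1e263c450ad8fb260b19fc83cd1b91e251590d861b14b769e2423243c43ce0f118468cc12dd878881e83ab23623c428923d2822600010ba000802149638835106212c000c045843a1e90004022c53085e00010106213c9b0000008314ca66678a11c41e1b1fb10308d98f0d0de1e190060564000000183f739d,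
  nat_lit 0x10102792c044001800510a28034f25a819e4a008000405a0000020f35821909e42cdc7e921842474792184d17e95202e26791c75100417153c8c0e40000020001943800d401ac03826380000010bcc333400020a00013c86001c1f11581e4100004fe00002d189be3c8092c16900001e402010008010000437617a73f3e1b850a70b9461200001ba45fa9ee06ea1fb026e105587893c7a6e8450c00080073c782988e707d486913c7600e000c5c085880b120210044b08800111ce23900c62479f223e4614307a51236445c78e58409519289251078e0e0c5ba8cf924de78dc8fc34706dc3c6c1c67f091d39e350fc000600c00001ac035920108bc8e80b7f1e3330c,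
  nat_lit 0x2aa026e1c920a400000004f9c1f39615000825080671e815eb0006250842e04bd2b7000481487e00360001409424a48986d107c801427980b04f4000a33cbe3d200240019e5e07d001400005159759095177083640018888002000e10b01e01c0037f00022723c6c5dc000017c0006000807b30a000002d3e224d6c9b3800b3caec1279e40059e563ff0002000cf2a8089f0f085024c40009e550713ca80100000001042430d00100024f298f99e5300081cb90f48fb0000228c4d844d48a12201193a000c66408f8c9d00042f0381852f00011a22600841400004d800014e8200d1685398a7214ec7934f2612f9e4b02d,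
  nat_lit 0x11556174089420584103cfe11a82f50279e7e07200082244f3e81880022a4e8cb0c03204c43f000254903df875000046523a418745dc00053cf4004207c0011e790b72082415c8af8000000a4ac001475921d222da45b187000216e3107e20a90171cf800313e08225045150000202d000001000040600d081b362ae055a89023ce6c365b70b6ea0543ce4c347a3825c0000000216ccf3930ca12b001279c816c2da00053ce23f800001d090c11da035ac6b61f236180000000c29d9c900011f243bf9194839f61710fe85bd0b8866b000443859d9211066c000265a00000b40010cbb263a19a98580008a8214fe043ca80000016a123003e79a80001e68369001200c12ec00180081cc,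
  nat_lit 0x2d963798f4c96b934746fc7a60460f4b80080013d460f152684d889aa1a68034c0011e966220082013c0011e9562126547a54f4a0f98001001009a01540008003270c4cacf499f600d11ab47a482dc002800700fe01f8042903d3d24c4001dcb741e9143614e03a74f48100800102a80364d980000151029e716048c0019e8e210002a7a44f4683e117700307a307e4b7d001d3d1620e7a2c000011c343113429a0000171000141468b2c5dc00304e909c87e90f4680183d10c3e282400a1e875500004002455a8ab81c1000005a7a14000000400940515878003800a1d347a1031c417882d3d06272831d0c31e8209700020100008447004727c,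
  nat_lit 0x49e27987ad119000000020cb039e87ac00300443d6603e00100b432a8e790000418000462b81330264324c839b13800018a82fac8b0a33162618a85ca896b0a063d5ec4a00047430e893d5c0585584b9d1ead0c40002002000c004837f464000400103a285b93a906f811d0f551c69ea90002458c9b0919000908e67aa017c8ac9fd53d4e0dc86851338cd4000285400041bd8394131ec480000f9f237742c420a0000004000800506e62140000002898901800145de047da08407cc7d3905c9ea16233ee0284cf5007e846b141e7a7c6009b1062400043581a2431200010f412bc18a00000d0800246cc18a57140008eb11bd67420000b650e3a380,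
  nat_lit 0x19fad3f5857635f86c100011ce0de40000003035800127d83e0d1660aba15648ad58ac002000027e43f24fa9175800000068860008f65065318b62260004002029d078000000150e09440000424c7e908480be000000086747b140010de844f8347468f1eff62a052e89f12469ff63d88b58001500c138a0c967b0d8a46f421d60c927b084b4f60816800044003f28454437a08715443f6c7bb244c3d80c500a44146179b3d7e9788048bcd9ebe0830000010001055684a21c7402c60dcbcc1ebc2f71a4c5474bcb1ebb1ec40125b14b639eba598401a5e54f5ca170aa727b67ae028445424860d9200056908ed86c500000f00000bc886c75973d6a00c8024bc79eb52e1,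
  nat_lit 0x8b54814170e18641c143581eec631026604e02a6054b3dd60b4001c38f206f3dd476c4cc03da1ee94e240921d9cf7419b11360b4a16904448d813dd0c6081b125e24763dce9702b68a0717c43dcc3d88120bd897b23dcab304cad23817bc3dc875881092391ee31e73f5632d400009700001b6887303c7878e431632cd8bc0aa815e0a4c029cf7d800162e0184027c000057800111923ea88af112f0134c5a00004658c3b0e2a48e23246ba9edd1cc3db800c001102f07a62a30004197453d92e000012484bf80103d587ac288e5114f6ca69065c2f5c7b60b903a9a4643dae4483048bcc9ed646400047eccfd682c8df705980000060006000144f60b318b0000227b43d807889dc3f207e5000e82400009fd84ba48d,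
  nat_lit 0x109d942148650a1c00093b9470030342fc00013b812160ba4ed102986c50d1c000cf82b1989700faa0028f820c6a32600107c0ccc03ef80063e04088001c015802f1f9000401000000b421f84930fa020a4f7f8c8891a1e3e9174bed9efe20041046230bee9efd38841125c1cb821efc5df27065f64bec1efb26041065f68f7d21700000f9c207820504197d83df25c205484101ef800b15cc35fcf7b827881c10407bd904c627000001004667c2400000050510002071804099f800700161ca9170a03e0d607bcd8c807800ef01f42a54f7914e93aa27568e0c5491ef1102179c36e85499ef00e143022a4cf778f121d615227bb8270f76804000102d,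
  nat_lit 0x3b752441f240a51d7c91f4f918fe830030047c881f4741156b3e421080011236a0674e2000400a82591128000014602fc970f9aa4813e3c86c7c88bff1f1d2e1161c5594f8e10084ab0d2a7c6c88c0000040001437429c44a82aa000000819383e507c80dff3e3015842f46828d073e2e47e2dec6831f160bb034037e8f8a948918b42682974000004800041a033810e231a889647a6000003800105a1262232600042d10ce941900008025159a0985a019d2871867997a049067c3d8d06490e2e2f4c7c38834711a4823e1a15e2658bd19f0c4f7001029c0f85841134217e821cc000128800427748e1ca5d0bce1f200064ee8aef8a41546,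
  nat_lit 0x7d38fa79f3f336232e23cc30e061a2cd47cfd8ecfa3982630467cf8e211b994b0295c7cf5608fa498213e7885c411c80690101f503ddc000a67013f0188030d12f000063a00021a6d0390f7663912b802f405d1f3949f033c11fcf9c2388001000c7cdc805064a0c73e6c6100004595953e2bb0a76001800400413e6a3a25604c0c181b41887cd140d1ba003e007e7ccc41401d003e3e642087cc402000001681a3100e06b80d39f306380a6c5e08c091f2f42c27845e7d2499f2e46b3e666040f96a171f804418883400580050fb0c6e8fb0ae5030d0000012000835706af41660c117f000091ba2376046000063a11183430d568184351980b306e602cf9431b15311d4e561125e9f274462b483a6520b96603e4c7d23b1cc039f25212,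
  nat_lit 0x4b093c4c219f5a4cb411693dcfac83907de47aa7d600f84a81110180c000005800004801806188120c2b694d247a47d598fc56024f23eaa3d232b8b8c1f5405b183c60e8fa9842113c00060000084b1f209111c0000cfa92b51f7400067d44df80059f513ea02d844e40011f4f25c000003a81190018f8319260000798000a0a724bc498116531e80000080e321c5800200053e96a1c023511f80001bc00000103884950134927f87d257f100d92953e90052827c9fd1f471a802ac8e50fa305d800402665030a500000040001239681180cf31e000700d201d8fa19db22ee00ee7d0873809800783e822ec7d3403c1f401f4,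
  nat_lit 0x6d118613ee885c4ca879a9f732a8000605a06a046388c600005960001171112915563aa4e9528525123ee03b80068fba185a3ede31c0b30c2c1f6e1ae16b06164fb683d000011ee4228ac40091f703ed804a82752869f6b06a000005a88f923e172d49247da991435200053ed47da4e0d04d25093ed01f8000c34fa40007c00027f94b6d96ba15f00000d041e007b834300167d9cfb2a3fa0964a087d913dcffb0f223ec650200001d0837827c41289404fb10f397a01e3e7d847980000168690055c7f2c000b22000002d00040ce819a032f0572c86000450f035e06acc84000059e8a4011bac8223e047d0c70190e620478c1f5b640,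
  nat_lit 0xe00005c58278001008000632909c791d3527000432885c38b840f0000223706b90aba09a244241e083b98793f14c9a0d9c17782ed3f1289e7e30c3c1f88083087e3ce4fc385a000302d0002890452984ff09fc89759300000d45113849289d9b258d41308e61352ad18723f08a5a82f9295a40c2a327e0d928596a3992c1e7e091acfc298703f0285c4d047989f802a8417a61c0fc00fa20bd30de7e006a0000003000505647fa815c001035916a60200000ae3157408dcc92413084e80113efe61a4fbe32401b600147df4fbda27a0b730d07de820c2af0f3c3ef21680004828903414a8295d91c0000e5d076a06c2b7856e940e4a5a9468fbba9683b647ee9468c311f76646163e9294c301f75260,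
  nat_lit 0x187d411f8199436400121222fb80f800043e7881106900001f4047aa2107ce2fa27e913dc10382080b0e8258c4b9fa4495109660a0c151fa359807f00d4000014a8000112a5afc71fb28889231267e8526cfd00030be21bfe0004238002057a12ae634c6750ceb2cde59a994c0018555076c0ec994800105892c1a9199408000858613fe3f5c91800005841f640f45945045988b3f340827e6400500983003f3404a7e74c459f991f40038000022e8c3841500000010618001801a0dcc207020c3280000008415863e8c4418863f2ac9e006c0061f953f287067e5cc421f931a8000005a002400a82c211d088600005c9a23864e171e000101f203c209,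
  nat_lit 0x3f8601000049b3154613500001f403ea1cb935f26bc5598fe0880223729ee9100fe0051800900167efc84071395aa3f7c0d21f712809fbd1662a1e5440fde0b423e02f4e7eec19c7db8fb93f7431e9124bd41fb905e40421fc40008108001109e934c828000084f262854a2060b1c9fb60af11c4958cfda8418fae1e647ed02d1031183b4a687ed177c001215842ac3cc000401807a800300020520014000077b2b807c280a400000680064a5c0bec17c11d0004155c26f807bad500013f5a3e200500008cde19ba1d45082993b1eea96550a30857129aca800006800f53429e5d03e787931faa2d6116c5bb8fd48e61fa8006,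
  nat_lit 0x56f0adb3fbe49656dc6659fde20e4390332cfee83b82f105de7f7019c07e80f93fb61020008c07a5e343083d40004c0798d73ffa17e0000c071fe205d3016962cfef1fd83d9090400a0febaa50000000a7f583f10c59985319c7f592747a5a46830207f550310b4191c31967f5177cff925864b0a7f4cc810b098ca3fa43ce7f592c19fd13ff0888110c000007800000060c7c0a000308ff431e65a50b6086c656106000080000c2884132f6234c01080026550634008400087a0118004200005f00000fc5004888a47007a59fc92f83f9000c91e80000004035000432443f407e70ef001a915cc0021443f8c5948b3074187ed3f8a246480c3f69fc409c,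
  nat_lit 0x200c9528ffd057800302d00004e3120d938242b271450992b2183931e87fe09503051ff70006310861faad0049009424b4c791ff65ff05d40bad2561ff553647628ecd2d59ff437d1cd639bcff985780033fe87fc8a04280953149507fc8a1c27d95634b4e7fc42fc0000e5a030c05600000200000300187e1920bf87341fee2e41ee86398ff680100000894107420da198e2b2490491400022780020018004050d16332d86cb4000459ba22b16762875964000030b01c226a00240068a1819d44ea873f87b13fd0cb0878d0a71fe71ce02e4807cff30bb05ed0bd27f94164000098014303de870d0e3800133b0000002000002408951350010002c4739fe114a130025f853a1fe0657,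
  nat_lit 0x87c05f5817302f04d509ab000166140c007a000021a8000000c4d58be0004817e030a062500a0e898c34b5690100c6a013660061c0044008201217140940619008865a010008000805a000063f93482f845284a4c0000ec800029f845848ab24c9500260a4be4ab3a5c54018cbe219c9bc13734b88802d97800ca00d320c802913d0cd173a401215e90b12e02008083104420a100385a000406089288838001017d1154634000002030600020014404d0020ca017b2022800c390180901140041140004018000a2831ae83af0803b2e800018c61f34e5c63017a64a86824c00081d97520790000024000082f20010001473f87d60fae0f19970000049209260500bc000300091ce03e20bbc9ffb65b,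
  nat_lit 0x13721b5680c8044026a0b1000234448401aa800009700000d401a915721b5200880bce9901700080010080006825014c14f145322cd45a3333800216ec1bf416d85f0001292085643e8000149031e25628b3108520290230000152901406f0001008000293c8ca7126d666000059f0b3e854e44c000400210128020a31179e25a80022150004457a84d818301ad66500063394890246f2be00048aed30a8cd123e000224e10848d1000044f225916b40c90195403e9420018007201e20140b6816100ea0a0c690c4a0c6818b00011db0000010816400080080628cc800084b9150c2aa207200e38208663000225c02ec8126024ecc40000319020f3b1,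
  nat_lit 0x20000cbf400700022fc409a00048b40048000328425c84a8000800b66d09440030000030055c0f54002004400088eb085691a811c003800008443e026e84e409cb0008cd82fe8a8b8bc2000642c25fc6008bbf00047f68a90cd70bbc00020382edc00000022b100061c7c61b23ad175e2ecd9ac00100c940be981c81e24594c5000001000046e2a57b109860301c7a03d66a42e685d01c6a03c567407c000101e100800000800001078449a03b007000000c000495ca1031920004001c90895ae4072baa21447eb8dbd40708a481acbd2255b10980001854001889f25722320cbc000a40a447e28e440007b804d0cd204c0acf95a2406a7664b44c9825f24068cd02a252f8a0330a1,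
  nat_lit 0x12c9996a40d21e28ffccb62068090000231ec4f08bf314100000102d5c5ab254e00068198a6c58d000340caa940008cb1195a09342be000416c02d75c4000098912a588d995f4c3a65312c58005001081899cc000a0c749785318913b390000051a17582ea85dc671000000c000005302880180f561ea053b0e384ada194d02f33817cb4b085244329205d66f0dd8105820d205c15e000e002d02d80207b80ca281683100000030002000c4a58e5c20b10280000104001524725091fb45bd4b28002141c3464894104924593970000088000494993a148c60540000949a41008d1fa812a800100fa01f23988323205266e282e289832320511b840a005a0018004009800422e,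
  nat_lit 0x5e2479e82181a8004a17b410a0b204c4002000302b0b9817385a3000067800001ef05d58baa175a7da0ac8159a5004b5e55cca4b20826770b121714b73956329bc5251040b3b012d46e62e945d220806751ac64a2d03f972232b243281f8b84002000a40fa402174c4d0a07c0b7174c932d03d8c90bbd2484000429000097a5228086b87b000009eb13dc5765e052c0a5fa498e81e10240079232291481dc6a45dd9566291281d85cd201120f40ea110358093fa0740cb40e60100020020003016a4f524560000040000016800600023b850a208715d526d437d8924206e4601dc25400a82206d0c52bd057a4cb7a06c18b46ee57e4afba06b6744b109430aef206a239,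
  nat_lit 0x3e94858a0a14f70f3a484d050041244e24c027300002cca0a0413e00002b44e691ac000457635dc59200000ca00063a485932e280021d2090542900008e911d2a0060000745a37f0841d10667d04c17c2097006000a21c03368bc80024c4047dc48489081f528f19a04000995b1c563f83454bd4a62f4cd6666504ab4018003182315c62b209467f32b64e9132da0930941570990d32ca09218b14325585048862000000849f647208e491d10002b1a2f58bbc933200003d80004755213908f0cfc00006ef04583dc470669d8d431a822076878504633e8410060c0c05045b3e0002000887006c833da3390002000c5f0000a4062aa65550cb7196c67a000084101a70d6b1cd480855451718bfa3230986c84aa087679,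
  nat_lit 0x5a00050a103a307341e5d90c005958e2b18316062f0b534174d140e4c7481a42348c9a0517920b9689197847c48f5992932582d3905c3440d9f1b34006400c20b754e16ac2d3505b0418e8545dc82d42d000115174a6c54fd26312080012394006da1c00025184a6c1380000004000016102bc06c323c9e420b01bc415e00c4bc4001000508c0f422598000061800115429785304098365900002a8535612921d5105a82e402da5a8000882b1055b4321af336482a81fd057267741524222e68abca0a8084000231d093a91317622f64391c9dea0a7685462e6880cd6a0a66840936127435404720f7e1f383d420a66830916123c0008005414a80800040b40010fac0f0a2e40e180008b3d166a10046c8002800b33544cfc90aa0a2682,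
  nat_lit 0x110ba6ad4d568360a590fb19e033c4835cd6c70d95b64d5283582f8042a6a841aa1d0878ccf020d40f9000083501c3a16204b21d2510134680001c5c692c95c8ea8e30237e470534720d221341b69a8d06883fa1df33b683402948b699d4419e15a0000cb90e501fc32e45f80738a689419c89c28b0d2619d7419a1b8834534f269d4198d0828b4518a5452ad2955052c800068c0008004c52a9558003001a2ff41ac001000f002c38a00040089286093000000303d388380111d2c83187a4617a410418a14a47bc815a0c405c2480903d061942a36c1ade830800d15c902f418215a0020662927f41928c093f0166000119f42580000002011800046220b583905f68ee51ddc3b883cc800168b,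
  nat_lit 0x41e805a0014137026d06147a6000c0b400000419ae1e4630a001d003c0faa67fd078b490320330a66c907801b83ec083c56c1077871097c1b5a83b823510719f941daaca85e0cfba0ec07a06603a092d016712f6c905000034880021a6a34d1a400008e9c159c7b8000074f0b491a71d385b8cb368a3727cc1a34197a0e868f18560030006832e41ce6ee30f51a3a46206628398b74095032e41ca1108390020003a45e0f461ec07a80030c9745945760010020000a27044e803e190c32300002bc0000314490023091d516d82dc506f000113e427dcd50a26d68e469056d935926b141baa1c9aaccf299e841b894c2e8d357a0db0fc43d0679d06d09d000300803a423b934b20d9016,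
  nat_lit 0x211507e50878000008436214f10eb0c030002843da6c1580004421c1bc002110e0c03128000a0102b90d67273321c64c94000210c69a00001d383a52309699447410411202242000c004508534c0e9948ee4300b29941a00248425a5d15f1adc283200450840002442ad2c1d5c79188b00026841da541e506f100228419030348872100228414f9d29882fb000c00013c511da71a4dbc845403e0007694000c010242c17d00030e3076a003800020a000507660050b64002035005ac2f2000c16ba1681440004227c4560798001113a1b8871c81891f411d61d803b220fb69347f4985907d057800521ca83e42d00018890269a4d30cbc6250c4f00000f6000110c99e5384001200281de26a041ec6fe226cccca0f516e,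
  nat_lit 0x94d9a3d301f28245049284b5a8c18225e0425810e0eb51cca39b193a2a3854600026a21c4e02e00001980002466029e853c8f451ed22005a84000890612102a2505c0000a6907300082b08654109c24042f29093b500c6600ec84d10931028bcf179484947d0cd28bc84248404000896c23e9413000020605e60a1081e4e7c9c001f6000800162e0909134f9838244e4ac05f3a12169e016202dc0f2a3b242400761a4c34c0785423ebc48e081ee80003a6000605a0004cef8f56078486a81e534e80002f9c5f3d0aaa3599de4da8689d08da9a83d707ac9bcd08d0ea236f344c846559411e25ac423011e8d34ad221172eb000001000001e20118022c08c0f103e6a44000062d2000800282bc23706721078000154000243683f147e3042069c,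
  nat_lit 0x23173664429c85410ab4956d5400100032148050000233808d418852fd2d52001400523824f2c44a0d868eda24944b7047321476a80b28164432f05830b1223090a33538e36260e4c0898024d211c68515a982e505c70e141c310a220f236f22188b3d0a1ab7889011268508a140050ed422468bfd194004227f264470a00100200008b091610314862b2e500001732597c0f05cc93f034ba6a71382213d6a528c409bc13819b84278c8c8d58d9d2701343484ed73817982f2128a84e93a09afa6db343084e59a03d4a65c427085c5a08886a1372a8000205a8608d36a18a048a091109b35200060012868c187a13505a47fe0f8109a013106907c284cc164001a1334d8258014b92da80b901743228000a6983ec43960000798001000a068e0d252b8000800a18ea1a000000038ac01cc,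
  nat_lit 0x8d691aca1620540dde89f50b08a10000008000039107a6237d0be484c5fa035ca15f587000e1ac50af0088ec72ec20004290000a6bd1d848b400008bf18b22bb3092611d33c06a942b6a06890c30b06aa42b42e603dc07e226a42b23a00f4c343a15813142ae01011a4238047600128560000a1576af0d4e1aa90ab232008d011c000805460fa3ab000050200041e303c7182290200010f121aa0200e7a00010a9001000402d052445e800001280000de80ac815a2337368067748bb357244b42f085400030fb11f60853dab43ed87d94c523965235214e6ac0e642e8c650a14d02c00f001fc61b23a2313a96f4000b5586f92b0a000002c000249420e24b4ceec8360f1a488885c90a52da00004294048c09121490b0,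
  nat_lit 0x263b514a00d000031d21650310c7309d813a84708001800c42fad7018903118004001685f1adcb6296c4000800290bda1182380afc002000217b800121a4472054591be21a000043487bb02b90d225265788c6823d518d285e1ad8b5da607113422592bb275c42eed6a04e8626250742ec4f66858920a50642ea1e03340925a17417730669d650b981205724a0685c83e846988d742e202a000c9a719102c309678780001252d2be24e7c741b5a0001269a49f12efb5980004a563fd9a1c000000800015724d207c11b20d3542d63f63dd93a7216a49e42d200c001c621248e492821686110c180000ad00043609202a5f14b24528806635900011b0a34446880e5e6b1000005a360d2160005000c003037021646b02bc6566c556a163205,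
  nat_lit 0x9c026f5328e50eca1d21986bd4d76578c33c867c1546865daf076fa402022600dc01b21966bb052618cd1408aa1432ad74001049b258f43289e20991264219308327fa40550c905a0005335264f128a120d432473890f46e61134432252e24c4a1fa19023d000200c001c309a18f21211489d650c703e916234b8863416d142a2880000468000002034319774e149c350c59da0002200a66bd0c51032302335c862479d137915d43105a416780a1000005b000027508b201456990002861d0c302c80010cdc19bc35001b800002d0cd819ac5c21146000600150c225f000100100029b388a3198b362c6bf4388b5c800022868d802dc0028006230e8604f3079c996743000062f34bb0a17f0ad,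
  nat_lit 0x2000c21982f545ea27dc2d0686d1b04700102027a286cc479188964a2c9286c9a10bbf1b5b2d0086c511c3908722436007800245cc005c15700000100014861a7c12b742c88a2b817a007ad803c686e5245522d03ba400280026bf494400080008f4229e17568f810d59510006174e86a82ac6ff0dfc435230e93f8770a1a81ac1dd292490d392e0c841dbc86981900040e7d251c86989ed140928e434a396215487da1a40e70004000c0a385a08002a0a0004460001084e109e965062c958000102d1da6002800717e14340d7c54089d4940a433e25839f8ce8a19e0660000001c190177000702d000005a000cbb4176736ac8c28e240008d911b2800800006a50b55396,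
  nat_lit 0xcb52731aee43a073019a80050010439e21c9808964a1ce00f455e6ba90e687393074f7e8730af05d88ba1000a20e52f47d40ba70000ace872d0e5000104f4ab81ee918492eb30c0502927280016c517443fc80000570005187a30e8a5f940349c83fcdb10002117e17307e8000ca49a5d46c300041f6c3eba46800111e023e51900000c38174c716523895d21c149e27f66b750e00de21bf00643e06bd895ba1bf4370e7e45050df100800007be8bbc3be29a000100600028c6918e01e000010ce245c12c434177b4d3286e904800380084d3286e4719196a73d437035c1b2cca521b7031000815d5144015c3860004380882225d44ca00023804dba23296c2,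
  nat_lit 0x2c000300022ee00002f31a8e1bc0b9e17308c3256525b64b750f53660d9129dc12a114ca7df43d2d4a3b252c91b0943d09d24238c8112f443cebbc1040648129843cc17e87a0d8321e542e00020074b208fca21036384bcd0f221ba1e83606878cb847e292f043c48e217e8300a1e14640002589018e348000016c42d8cbe0b0f88b31146226c00621e143bed9687fc70826f3003a00850ef2b488e84fb06c2d3e99afd43bad9406293e7a1dc08300060604bfc991a141000401000000b443f08d70028006d0eca12017f295e4b84d7b21d86c909be94253e4a1d74e9498063c896921d64300c028ae0d79a1d52600b06000000326062908980137636400030668135041f26ad143a9359b1c001032e18fe91a8a78000240d481c0c0043008818dd1fec3fcc965a1d16c6,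
  nat_lit 0x220f50028818ffc000a4fd48920f814948349b27440a8303d20d94a2040fa44189ff510187390252aac88080ac0030030001007c598c97111b16da261c880127d104a7f843fe9428dd0d9121fe2e1485e2f5d0fe805936c261287f11910fe01af43f644605b40baa221020087edb58000000643f409e00091cb9bd84882196432e80016d525844afc33422ea13200001b500011323326a6d89172064245d2263db4c00095bc27689a846ea899b6d200004c3878a01b44f62c840014004001c43eada287d002000081682cc059640f4678800169e01801fd86ad8000040000058f498412ef00040005b4000000f001e224313f8676a6ab3326981497f21ef6cf4b4a5ba0b73a8084fca87b9b390f81b0f43da10600107678ed54fd69e088ff8d4e6cd,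
  nat_lit 0x42e78fb7192e82e00002e5986439245fc1add2c328392e449b4c49aa2226df46a41e413bf17204da424d1110b6f000b001806680ce222047409ac137910f835052c0a5400040ac0010dd21a6e34d4caa2763024cdba00045b0242650ec5e5137a08926dc000288700278f5338d02d405a400006f000113525b4cb6a8ba26db000005a269d35e9b92502c888910c36d0cf1001a004510ba4e8616006400dd10b1300008001e885479c016803544281420014304802a004e36009a400205e345e40880004018000a44148860fc8849108000030817ac4ee52ee1262449e0715107b6c85fc17b05414a841b31441cdb027246b796c64ca85589106b6b8be01224244c5f5a20c2570ba218ccd99280644163da41e083d9b3044148583ce0cbb931644128188ab45208a4744107e48df4d96a20742e,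
  nat_lit 0x3e10665812d0252512d120aa101dd28e698a11200f6262e4dc088fc79c00526de447c3cc27004e080011cc4ad80020000a38800047723dcc15c00400141bdc37c8dd596d2447651a508cccb18e82da688e8e6c1d983b92ee25b4511cb728d83497e6b84b6622380a749869fa0b6722376e4125a24bcb66a236265290a5b3511a8f12234008001600382580358047008c0000dbc000127b020a3e600000b400280122bc65771890002016a26b476a9b852f6222e0002dc6000119f993d5cd0c249d5cc7c1b902e745c052f5222c6e2453c6e2c24e0499211888ac00000126e1002e36540cb819a4454abe11e02392229550445225011140350dd61baa889c1640030168b76165644dc89ea7a726fc3268000b70000002d,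
  nat_lit 0x214042c45e2603400012000000e7a1d04d5e9bcc3018dd221cc52e000500185300a6ea25b6610b402ab8810225a2e914ec537112c957102c29b2896002d25894c144ae7d605c1144906900047020008013002a254646a12e5229800146125c4d38024cc26900001348405080b42209a6196c32306471f66001000398ee230e4625129b740b5c3090894821c533184444a211612f4b06a250002203e60fd127827a6794e2a2044406a28f449ea2a17ac2f50003449cbbc097c004800a449a7e463940f2224c2d2037200002f383585e80006001c09119280000676678281000000013440006094059c11b8002452a17981a462a8135026e3d092300bb6181c8919b9c003800826e663cd122b7302511c2263c112207fa2822ea69c19121867000303c606a57580000f261e50482c8bc05185fa,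
  nat_lit 0x255a48de2d4c197a2796e5322c64653ff832b44f0dd693ac001800a44eedc832f45bd032b44ec5840b80195227509c44e80105c7d28a000001500083e2c7058e0a46b0004a08019415c2271000000247e40059630181c89c1ba857c0afa44de0aca15524e226e0a006422db51368648bbb00000ce008000000061ab62c8001032d033700500002f88d388258bea35b66b684a5a2693fe06020018003a26815e227097084a3a267119107c210513300d0e18128489941406b428742e300000db400013564c36aea9e80b78042d000c0030652226366705fe6ef4a41a2623981280532d130874000714fa31688980000168001085298292a10dc000002d,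
  nat_lit 0x8a540b450b0000000a2a0000c1c109b21f881b200081bf155120f00020df8528112800006ee8dd841c1c0a29145203d218c4002a28f07e149a001514702b92ba00008a342100028040b8011e01efd14617d000930fe1ef5145ac087a40f768a286d4780037145122cc68891d7228808531dc1ee514384985d906700ce40020dc046906420009388c3a0ef2000007800081d683ac14882d2000418e831f16c00009220c391bc8b87066e8a042942ea033345000ae0010005a27f0ad00020010aad011e2a0000005a0010b399672390c3c7dbb8001928631aa9348e811cf87aa16d2724c57700006ed00003cb0aa995556ec,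
  nat_lit 0xe01e0e1c38386000400140ad5158b7996532c9a0add1581ed00f301ee8c2d15798e155a056c8ab81ec0000168da70d16000832875f140c04bc000101c0010c232fa2098c06c000a4d149aa1f4000061017a101018424e84e77259d045c0891154379000600148a9c13c67211161398000d0a850885700aec00082f811002260464000457517489ca000052a000016d236b0ae674e0b6816e882719b83130626a2a26f1259605580aaa2a13bb144448a1150157000300108a7c00921d2629453c8283118624229d223000428b091204010001ff4123519f229c6f004ea5d8d3a88e94453602628b0de228a245341624f68cf61bc6453248c94f48aa9153453037a486c98a229703200020a9c1cb8f98006070e0e4d177a2966ef,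
  nat_lit 0x118a9bff459a58818689eaa2cc12e0434a3691658d70c2837f68b281b400012bc26448ec9f7cbd3947928fc56e146b22c96c6515a703cdfc22c82bd0eb26fe11638e5a2f837ec8b184509a428d3458a2360000d6a89f338035a6a14c0018d3c45889cc40293be17931d808b0c868a02279d37e68b090887f2917b4c448b0501cd59000a00100f86a0048c00000c300060b0454d091d1531ddc00041609a187791ddc000016c00080054b08014000001800022bb0580096002d357913d1d823b0d15cb7b25274a4c34a915c37a8b001d8e8adc9c8da90ec8456c50293807e09518000262a97c4a8b800014800048b3d16700dc1c6838b9bd0000a2ce27b8043408634e0000008,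
  nat_lit 0x171915208ba06080008041a29127e1c200008f2870f0e0c0000204000193d0e0247a6794022804320c0411517237d8001000a03f1171990255a28a060493e11c1545c6df40a201468e294e3ea13917137c99f350d40c7419022e16f84b3a3b50e0822e014e1faa4f70e0722df0b101ea18809eb22de246042408340010408d031aaa000000c00212db215e355da6400198a547085c80008c5284ae6c3000212c825b83000001edc082504cc5011ca15748b60004023f45aea469768e5a8c7845ac38c034406a22d5027000092984b782b8ae746d811003a68c3b184e8b51bdc7d78fb0161a2c248e28ab545a6a2625c0002000818648b492c53200ab215808b44ecc2e785e5185a8b407b011e8c2e185e8b3d1ac00001680000452178864a1bb74ef,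
  nat_lit 0x4b2b951b205e6ec0000b2aa86d5ad1704593118085e000d2c908c002b4000000880507e000001f800090604718014000001882c1c2f45fa1b60010ab4273828625058a0912ce6ff186803d0000048000120d041b407a8ee000002d326864d8700005745f2d74559463f005b45f08fe001802c22f720c2120000000416b000501b04428884127b24f24fbdbf800200d12eb85d800f43a8910624f849fca1f977d45e80001bf400597202e8a9e5d179892283633885df0bbda2f23250db44260c95a7a845e2df88c2cbcf177f45e03be5ac4b9f279345de4908bb802000100400004ece9e140d8b4a1690151e8bb07780040c1b15208bac99cdb5249f45d454c9d6454722e917c,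
  nat_lit 0x1db22989375232013b19f09fa149c231f17d4644714d18f02817a94b1200088d000000400010fd297d06ad003800000802f205f000380002394bea4c2093201a40338000125400381fc03f67002a0c00300052c0000806f00de86c242a48560000e98000016878d4c7242a4e2423135ed21364254e24231244f1f0e6a51188a7b881310188c40a040000b8119a2444c26138095f52be8000040fb800d4800120020b26234800416fe5a7ccfc3d987b7000014800003e487ba3e30f8a6a2cd46230a46e0f5c4b80d45a30917223845955184194a5182bfc8c1c72d39c9a88460c2289d64b28a3050e7000c8c1d182129a6db083a106c81580003ad,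
  nat_lit 0x68d8a16270a4676e1059554ac233a0231d009c2119c8542474000011342181762509162c001800108621122e0e0000b3f0bb13fa2c5a217c42f0d773acc94f4000b83085c17d4000008400018101a222fb0a78b2f800f466e8ccc058e1e942628508cc8d793b51426284e8cc47483f4942646601f44b8c970a32f2533464456c8ae80002980000a52933b915c705465a00c8e7c8a90000090000000c119a97be29005489c111981c62465615a00006651649097aa5e332058e0000066000220a927f24fd13169795c0c000082c106001c2094e2ea32704f000853b4a47947d4be43ce4b27b81000329c89dc81f800114ea4af00fa0004a7314f901200004bbc8320fe086510c82354968232250b05c03b60a09a321074,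
  nat_lit 0x1f7a982c770a3571d001c42cc9323235624822063fa11aa8f10fda4c888d504891a980400061186346068d1b9a795496600008d0001004000002d06b81fe84cc89cb469ec8c2400d6e28a634948d394343e31b6038b48d350b124e9951329e8d31030c421d05390e8d2cfc03f59c57469470e43bcd22a3493ff000400c2f194ab1c8246900001c2c10123b728f0a5c54c91c80468ee148d314b2a3463084df0000c0021124533691f4431383000202d00082aa8a9a10d3219659e8457b7f0003155e4aa548512d8002155c4a8c998032800010d696d5c240062342468004c2a994af233f00e25d250d919f0fa00032cb0a23409000000426ec25d84bb4a19a33c5fc,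
  nat_lit 0x3844b44a37337e01b447691b91ca9afe35ee8dc4a987039cac46e00c800451b9236f1851b08361d1b70798edd1dae8db4154a84150d39528db49d000000423da39be7468e8c1d1648900005c440000040001039c8f841c00830000038e07c00691d11cc12d125a2cd7623687101aa85a8d501a5ce1afc8d9dc3c99b1d16536c74494c4236670e1b28364935da36520d2c0c51b0e4f23642970c9459dd1b184127bd2d5000089b40f601e9000250812293de800006e00001f5c3e824e262c1e9268c4aeda6b623888d7dc347e0a6b346bc00a62a4e4c235d02b18f431ec55b890b0004e18260896626f52b7a8e64000381800149748e9c0f19b98000497892ec7dc005801021e23fad1aca0517f03a46710132623586eb,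
  nat_lit 0x247228e40aec99a9716471e0208e3800400010b64d48a8dcef513b84ab8e2a57b4cf228422fae00115851de98501e2a9914001a050ac31c7a64640010048614322a64500008b880b72f9c5f4c00007080004c2ca8c0c8b38a0e1d1f44a184b86238763f2bb6532cb88170c470cb9447bce6223855224bd6a6a51c2108800300108e0c1708ee11dd470450a46808d1a381003000094ad296830252a4a5225413d015881dee0005c4d27f8da000000009c4800129a22d7a3bd98e4000a9a14bc21140000e5d237e0bb39728df00070ee846f6dde04b879e0b7a46f405e2ae458791f046f27ea8de00b40010fd21b0a26a0004a3ca75039750c85be4e59a3760532df474894cca3751cf4baca65ce58a374110,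
  nat_lit 0x222be076486790cf439f11d6b8c8e7b475800047711e004c0ce306314af790e21cf48eac78c7ab8999133a268d1d512b176a2ed02acd1d48d683c607948ea04c455a0ab6474e2088e98020000003000322da0cf412c0000add1cb00349544ed18ef21de855251d1b880ec9365aa72c8e2a6f44744e2e48cd50ba9d22e5e5ca91d0b670dd5203e47f91d00b127cd295aa7151cfa3f8f84538c8e788311d21cdf473a1062b90b6e239c0b40008010026a1890003008012e8898025100b30cc8f34007a39c4734e2c6cacd919cda47326bc40788faa398024473c73611cb8a025fe537a8e5839cc6c971c472a4a6000d4430ef54450004631932605e00013186402005000018c14a0a3f8a1d8b67a3912d7,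
  nat_lit 0x13959d0f479204c4780e86a3c8208001a8f291e39010c46000e00108e7165f2cbc2b91c803770000000c10800006a2272f0574ce6787d3160db1188a311d1e238f86de18ce3a813de8e481c8e8f0dc79420a8433a0c8f08c551e59d0647821fa304873023c018000028f051df86f000226a84d613b710cb71d0002010921c30a00020000dc89da52d686100002e3800000200008be91c7092383049be0000248443684553180df727f2a939533a6c00000e368ee11db800005b0e3c17f40018288003298e59853f3178f4980004394c1cd03971c866c40004e7b29dc0052e340000e7a8616687476200200241970331073000843908228e661cca4268f9c00a00014da0b1a003800024d8000008,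
  nat_lit 0x2006449cc71400080301dc68840000017063822547d274ad1f1a9107793a508f888442d811fc47c250a18b032323e01fc000a2da4924a0c8001496c92e86949af83b648b0000517431528a900001c600005230a4830d0e4c3b3d5482a562c6853c11edb928b66074a9144bb423da7244e1463b8c7a176747b267a04654a6a95423e08f60eb538527be3a388f5c57891e976654068f589892d21de84b3c2dc0cf61dcc2c5c0009c8c0dc81b81a285a04000b91007b00f800007380008006210a3938728a8042d08e4200000021c7e086001418a12e2964f2f9292251e89e30c1b49108f4064881223d0000625c24680020002031000041fcc239f1844d089e5fb0000ab3a5d55100000038c000922a244ae12000027604e9128,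
  nat_lit 0x40068014008e5e20958000016800c14ae96482d1240072d06e0168d1ff8a185cd0b468ff87d039ba4c047fa66c0000018621037f00080ae99b8ea280020fd49b619b95018c650000e580008c6519b2552878c12ffb95800121e60f8c1f296f000028e20dd8218c63941c1db015e82bc0d9147ece54001801c07171b208fd52145248ddf47e82860000018000072f1afa0fa93bced88c2e18580018005a3f23dd0b105dfce9ca3f12740104a8811f801023f53a728fbc6a000280004c6c4f8359035c06bc00024e80014bbea7eb4f5a4f0c9e4a4e40de8e520010904274420ac4155ca000195022d34a07064f33880023a6631c965c0009d300d5ae4e00311f523e849b47ce00c217c4308001031,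
  nat_lit 0x3a4b6483c3e6000c78a951d111a4063a943f70000192000048743f59a19c10380c5eb0316a41b4100cfc1261259241a12d0c4e189920c8640cf40c56906070920b816800222dc05ac0b18d480000080bb61778510873f0002962a4392cd073e00007ce000000426124c262b6c0b6016e7310010002c00f122c516a5fcd2093980e901d2490448080010376490446c000541f13ac0344d8c4fd0b3d8249047e0a6c14f000172f000005a000c33294ff29e825a00080b40080003000050293182bd0c96244c0020006a40a451005600a802d87464812bfe60114588746481041a001800524070b400001df00b296c000102d0008002870817582e805d0ceb6278462300060030bca288c24041dfc3bcb97000200167534ea7805a6db,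
  nat_lit 0x1a6e0028007183d4876ad00f146a0a8f048744e84a20c22a4390e4006a60e921c0c0000527c82d245a400c1018009181f639c000402d16c42d9c00085225280dc00000210000001c4dd09af874411b14bf2e6e006d3739e6655ba79ccf4b29954866e6c4f754ab9a06341290c8644695184a31e46c5d21893b81ff54aaa649218220a7b22ca46c55217ac113d5527c90b8e1cc169b13485a44e9ad0a3d1e783d469b7c78e8000735000254ccbab1dbd498e12e089d39a000027a831907bca99124b00005ae00000b4bdf1131225274492140fa903c3a26909c0a03781245484c404000019909f7135065c566cc0988f100029b21f9c2de08f20000258000433a86760bfa0b782bd399800018fc18c8b301fa24a10eb41d4c32104944842e641fbc3f984924840412284424aa41f028,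
  nat_lit 0x439d536a4574e24df6aa4122b02a245b3b5091547d000095e335925290e28125b2b92595026304c849e4e7400014959a1d03625364a60f2c9acb35a0914cee82fe05f954c6aa2922927586f62a9e768d228a160cd103a0071d2281f9026037ceaa212279d624c13b4091390b9379aa86489a7fe000872199db16c00000101c58633009b00cc912ca4922a005e48941760000001a44900a00120100005229245407e012037a8b6c0040488ee720164022a44637e035800e92228558018008491102e82e0003f48865b61e25224a44227f1ede00e12208d08069007a9100608b678038487e1923a3462800003eb00002a743b48c5b2e9153438c80000fd8000008,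
  nat_lit 0x40d5aa9e4b6c00000300000208041c11038c1a78378691c00dc28004ff48de25c9a00ee1a46e565000005a0004b9a985030bc0f993bc0000d281ec23ee5ccc002246b06f017e00092350428000008000261206978d2c10603400000b978f1e199ec725b6d55d1c71237a46f8004800b48cee7c0014ab70efe444000855ac65382b80020db295302142c4000a001e9190e445a810810084918dcf477b800c001a9188499428803d48c26fc0214020246005253f0919922f89c907e007a917868477b803b48ba3043acc01aa45c05500004608adb2a094d1c324836239e278724fe00056a400097b72f726f9ceee2ae93c029445cec00001691671df23be1548a458484,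
  nat_lit 0xd4c760924687e0d7e559c92302ec5b70b70491601400001a38341074201d403c060f74449e43ce40558001038000005a00040000132015ae862fa551224870000e849a5d563a4860af310e544924285a0000034c068983c50485a9000025c000089a26830ea226a322c2f980044904b1092040202ef0dd64e3600057d80010f621ebe44353c8297c2482e82000539b0fc224388dc000076405eb00d0a8014f4000247d15c0002002000c004a47c04f1bee206d23d85ba6943d927b1ca7b952f1bf40001d0000015331bf24d85d2d463128a00ee0000f90001157b0dbe01f45e8000957b19f60f69e6cc190cea19c6000c003a47673f19b42c8c40ba47524809fa204923a0f12473008,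
  nat_lit 0x4b7c2b2421ea53438b04afd254ba60ce1106a971cf0124a80b64d727809253a3f000200b84504ccf1e763cea5c88022ba5800100b456c144e0fa11f404755d28000016805a1e8a3d08d3324a455f4e7a699d2518fa00071e8a92887cc001800a1e8e6f25face37800002800002dfc5bd8cfb29ec7670eccba494fb307860fc7168e3016ec927dd20005a657493c5c821d443c249d08b082e105524e0058d6716e6926c1800000cf119dcab34e0c5fe0ba2173c572949c8001747000005a0004716007b010022e00000b471d80ed1c8a7ab95379525492cd60401551a24954e24d4cab5d24a02a0b7516f2924ccd8002a6532de4512026c04a94411b18363c0003a3000037d2a0389838ccd19a23639d14df3196a55a492409d02a0053d491e1c665b9516248e0fd,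
  nat_lit 0xc700218042c7ec8b544cf29319d4894b24ff03b42d4933c24c575128de67acb5e16c14988392157c2b3a4c302526344c792610bb00022ff493041a8cb016cf49800b251aca350c5c18b0000170000109700968956459f0b415f4000225c0a4313103f5000007880ee802003e000c004156b15280ce219bc5e28bc41dc092f1d40e27903020647a21305896d4976e9e39d07f8161f290492e884cb2c29d1290692e5510b2d14814970424a0c497fa4b707e2c8c520525b0f40007497c00ecac40000040e47510801f926300012920c6c190806080003d3000208a4045008c2de000001f403d16624f521e8a3ac010a4b555ec92c1d393c22a65495e04c00e9483a4ae0251e1e78252568bb1c59258692b07cc18818e10000188000866b8f5e2b74e9a00012df87f2060,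
  nat_lit 0x79f000020b8c2012a024c0010001959c002004000217ac3aa52af83fa22fc27944f13ab000102d0ad893e406a89c639d093790c45eb2a893c8878f126ea8a141a54246a9d59324dc1ed4bc6a06cf1b24db49d24d872b159224da3204ef8ac8d26c9ff9ab52a669360aa0003277b4ef42a95d5400100326fe4e020000cec0008cbf1ad006c000065ea932044197e754d56224d341204cc0974f1824d21c64ee8ac692688d70003001a51ecccb81aa034cea80008006856a1db274e00040068b3d26e0000001cb9e843000d533c63dc19e033809bc9335d4cb3684da499840251d0b6780040570bce30cc00024d8000008185c6608cc19c5f000091c00049ac9a493b9a54e00009a8934b086,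
  nat_lit 0x14bd55e1e5e49fc8d69408f2ea4fd25d355e557927e0f30000012a024c20800001680010e841d10ae40cd800002d0e78363d5a2a4f829f49f8795927bab280000010000001898d8f8000a0018037127aa328000276606000bf01a55e751149420000008000002d013c63a14a697ca000236412d4000000300f000004340b217de478021e04615a0aa0824ca93bdd607720ee74ff893b93a13b41f16507693b59a135aa83a49d87fe001c469a4eb1e6017a02f800002e00011a7c0330ec4008aa2454cc3fcd3da88d149d2eae035527e009911ac93a140cace959911a8939db901312b1e11a69399c701fb0be611a093943852720040000006,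
  nat_lit 0x3b087670ed4465d5ab93404a32ebc6048cd69e7a4a30824a5fcf3c25171ae2794ad9d28b224800500833f83fbc00011180022ce459d0f5597462e8e3fb9d74000942e5194509d4f9038675c000059bc844908a4c62cdc10b821318d8389aacfcf0d251175b13b8276ce95251017255a279ccf38a50f1e10228045d28700696d53a4e94343a15681e6c4a181ce00046b58fba2c4c1f383e4baa00001ad26544ef94528d671c6235e000000044a14eb40004018000811911440c0000008c8121192022e21584358ebb55664ca5283bac800300083540e4625063694c5221340002c7000002d1f8a4ec944d2b534a0816c98b8f32250347e1a967225281139000400501d0897000094473b8250a80c000000414443ea4ad38f2fa4ff277,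
  nat_lit 0x129d2b8a4a682a094cc0045f60b560ba497d03b798ee0004ec8029407a80f6000008e00049fb8fa81f52ec600014ad9b1001f2e001f983a40744176c7a3d297bb127a93d2294b90d87d09e724a5a448950860ca52c4141da03b4929598409684c0600000840000002013203c0a780051e192b5663689b213cd279cae28b6e16694a52ec200000200008d9801de0259550000004274d2b8e7e74fdfa808020c0001d80000888e4a9e95213180000eda033277c3b5c8bb9f564df21d48f17a52375f0024949529127125323d08948415076e1d3d4a4043a79589a4251f202000212f025f14ef1f6000005a22ec00f25223d0294755392969e7e4a3815e947ce9ba51b4f7000000c00003b085d9413,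
  nat_lit 0x255000808f200080021428b950000000cc24002000d092e1261884001800d0a8a0f00008004051710700003594772a7c03f5240392a5b63a7603f427f88806a54a625001449e8808254909408e842b1409254812c0a1200180000fe800008a229f135e1cd427260005d9d2e91dba39a84e48000312800222e03dd4c610fb000122de45a8285817000002d52d66948bcc97974a84c120e5d48014614a829706aa0d5329854a808604298a2fa53f1e70002468c8d20c744d000002d342b3006800300144fe129e9fd800035a21e90c68d689c7800001c80010d8e1a2b0dd2989cf859c767660006ac58f4093612ffceca0008ea793635c5000275349b085e000036243fc0e0000325374a6c3ee9564ad4a53558e,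
  nat_lit 0x5488fff000e002d2b6b031e5655f86c912b60df19b2336a6c792b587f9a52364c6c852b52110e62361e6c412b4a238ef82f6895a00c8e282aaa4ace0300001414282a4131ff02db85b52a4e0012002d2b33b68c1e184400512b28ad099b001c95900154b600124ac62806c0c007a56202b0006a53d50f8fbd046eed80008aa11f5258845ae095800095412e36ed600000b4aa11a9027ba4b592af22d95192a344b592ae8f60fcf1fa2957097400592d54ab63cc9d093a20cc1000e000cd62a71876a000097b079a82b8487356aaa14d761d2651689565da53081a22534c4b5d2ac14e9abb351c6a3c9692557660001c1210bd792d44aac482481c8ce119b25a29555da0cc796f7515e9551b90b579d1e515c954c994bd492d04aa411011d0968255109c,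
  nat_lit 0x1d4221cd2c38a180030014961c2f000a00034b0c15a1f60cd727e71d5879d12c33872949316c62e12c2a6f00071e1096102d00020040000093a2c683dc25084a327427e553730a110000ee400086cf0ab722200029e68f1a1c2800a4afe0000324000800233d8a3012bf3b8a57d02d000067a13cb13915eb0006001c006925e141295f1494002a8bc37ba5b600000b40001ea3584472a43721b62b633b62a0652bc8f5936b1f2695e152833786734aee0403be077d2576148001c3bd52ba86f000500127198adda7f000102d3428b06cfc6aafa00047342ad0e261c5a0002000998800129f53940a8a47803b80001313276b15ad9c5a76f000062581a2034037331285bd0b7a975a335466b0d8aa56e76e,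
  nat_lit 0x26784cf4916276b4b487324c989910c104b4622e96880b4000800a04200680000004000274b4e9c0c09ca4508800322200049678250972800002d0ad82ed05d60b39000a0005dec000132a141cef4a40c7c305b704fa0a100013bc970c52004c8498e800127004664c5898d00000d400002cd4bdb96f8007e9685de04da8002000e7bec7338dcb4b2ceee36d86d8a70b14c80b6c16d25957761e6e80947dd8aa600025b426cd377000006f00045ae8a8f0aa64cd00025aed5b79513502000042ec49d893f4472d70afc52c80e6258f006000000259052d80000414000832980ac01561024376c0833ba80032b707c24a7410303dd07a813653449f6810f0962ddd0002259054e6670c43ba58a773109821c92c4800167e034c06240c3a58858c,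
  nat_lit 0x1bd072512e0a50a7553e589700b840000040003090240d147d85f0002090c40853218db8001090c2b983e87e19a59363a6c78b93a9dd10a60009e0424481ec03e0000491821c896100000780004002a8e758542651754000022f4e987524ea63c0022e169463b819b25b72140c500cd12db04200021e3aaf18cedbbf80010081a48348c0010009579a599d6241ab631d42d181153bf0f1a57425e4800080380041438288051b2bfd5b600069dd946f0d211a407d2000860991e012ec39a00053b80c0414649e600006082a90036182645bd468170f261496b5df55998ace000400149b8a5ac77c065e0cc92d59ff9e5a26dc96a8aa00038c164e5206200140b42c603e1000236aa4741f1000020f00000b801f120d82df0b8043f060a25a56ef,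
  nat_lit 0x45c0067572700000102e5c6c884ef09d09770a4827684e74bb6350000000325da2911d8ea21800005b800316b42d641f00010b5d169620200045ad8f2b0d800002d70c95883a7693e86975420c00825d64ba81040000020036a6480ca400009d800000327834f000000a14397000000025a2000d42812be2f8000201057514508df11bdeae352e6b1d8bb25676ad64e5025cc58d1eb87fbcf9c25cb2f72ad072a0ef925ca1ea4e627a38f4625c95df4eb87cd52e421700034b90971c79800004cf098413206e00000008002583499781f8000ac130eb45700000f7c963c1fc00220064b17a5c22e8,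
  nat_lit 0x9e5c000077016c000600005ce0b99783173600212fc05503e2000c97dc6b058d25f74bec1401d38000a5f527f180c00152fa09f0004180a48f03a5b3d800002d51468070fb29f614be4c120f605890b144be25ee9e35656ac5a4be0b322ff8eed9f5f4bdeb0e0004e9c2b9a0050000ae7846a08c1d3933ce00046893a0a9d600003420000a860ec31e955023b112f519d8b0a578c97a44612f4000800021b09a20e84001800d4bce5aea25476aa5e658e4bca0024940000000606b00109a088698378000161272d0c3f10a6518172600000021588001273637a06268c4f21a0000b040c438ed21e38f0470993590000056,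
  nat_lit 0xa742fe05f8a6141e100060030004153471a0002475d3cd85b9452000498487e058b80044c220a4002000126100ca00042c4077f8ef857e000005a00187040f39540a385941928314c1cf0e2c38707a60d20200021ab05652e6857133546648cca9fc03efa9831e183558efa3cb47de9305bc2a66c3ef098292853c7ac764c124482310657a608471000a0100008f8282840120000010a3ecac6959e2b3a0005b24d6693070000550000400299fa33f2530000000187100b3a1e00010050a6010040d2a0f9d30006200000080000aeeceb49f1b0e1a43e7d3059180084bfc30800bc00025fd01500101a140188ab80000081be40000192282f40a8a018349068b784,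
  nat_lit 0x2000b0fce3d40000abca7de0122af8b3fd658949a3f927fd0fe8a697069e154d316bc686d40daa98b4002834d0aa498b1e313dcac9f3cfc3c95315ada80070da43e793150e9805c00ae66393148bf00004fbc653530c02c80570008000c0039928001291e5a9878723280003a082d68cccdc89b9734145250effa02b3f3698b001006cd4c4af16000c0038012583466113123c5005200a0ab2d31186280680000000c04000187d3152e56c00080180000008002000a987c1f939427244c3c50a00243dba61d003000c2e6130e85a0002000a2a8464c003153b00020ae0004ae41ea33e047b38f5729f30f68f1200009b415382bb2b8e78f4f200b944c32728001029f0b944c3025a985c0b400029ee4d820fc00080028e0207dc0fd53e6a6167883b6a73913e626152cb,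
  nat_lit 0x108820e8ded4c9662a365c6f5a64a1801d604874004800824203b60010347868d11dc6d43fa0ea91d754fa60001e5000090a7214c9a080e2a040000306242a1110a2b29e3334a45808b2141d4c8af26429ca211440283899102e033c0498092c990cf6554517b053a0990917815e02c44c82300aa054e726401480016505931f86f12421c4c38a400008300001b06ad5cd7629e54b11b0e36fcde5010802185ef131ebc908995122b4a14468ed5595c98f1e4420f841d1bcc54b96892cb04c76f2008c4c099cf93c3298e9e3c2328464580c7ea931cb8610473f5498e021c81a97b44c6e0164fa4f11a63604f244a48a131a85b945f338498d06480008be85002aa694dd04274d78f1c00005e68bcf0144fc09f8c00019d800002d0004001c03200634c604aa000c7cf8df3464,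
  nat_lit 0x7600e929a524cb3813338578dd73bf299993dc8f306b500000fc0004bde94fb29f267ad59006b279a000005a347c00800110030998ddc08ef95732ae85fdd3310ca0dc81b8a599533093a0a1f2fea99802293be16634cbe290648d555265e00a0004001d5d69535544458f0b1cbcc8001000a43581f8b2e8005000086a000828105000a040009e6146220f45a86a24400090c2a6a54e83a480001260001324c6494a450e451c90f2e0000a9485360a6e54e31c81b4036b535a285c50c26566312d686728ce417cd4caa55a51a8be526540281a1c5ead32982a00032f9699487d154e0006000086a994468e80025a90004348ccde9afa56d450e4a1e84387960002348cb56ab032fbcf2a00000b468d10d8038a06f93269e497e02ff6536c6f6a64c4a7,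
  nat_lit 0x526484e95b7a67e320526aadb933e9ff869f0d56336c66e0d6c1df07fe533ebcf886659b299f13894711ff84cf628665d4a6b267a20200024cf05e505fa1f6000005aa74166d2c303b4a99e1e7946f1ff34cee274a378ff9267747e063869995f41eea3fe099ddb609f69ca53fe099d97d946e1fef4cea4ba791cb8fa6742a8000005a000007c142437951b27fad3392b280031f305d38fd69735562299c9e74996043e4ce21040004020000a6713c0c2f23e4d337800018f0002a4b909429294cdcf3899b40b54962ce84cda0a8000800013d727ac2523c7078f1524531e4970e9f1fe34cd8f369e08e1b266b0295252b3913350a400050abc9c595dd800027000020c84a02991214d,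
  nat_lit 0x14180e821d00641c872a69a5432d6c5ad0872a6994b700042f5134c057ab0200009a6093909407a60004087010e9690466000252c15730bd07a50da818d031a926e4d2a980499c934269401a0000002d349828135e2a5c00186f09368007000607c000069d1be50998f4834f030380020ba248a181000093fa7ae0c0800003d000091c90c02b8a00008e315242b8532e85888f5031a062c4985345bd18c061810498134502415225362497d344932a688008027e05040a499e13dee30100009c700012a2ead4d02fad303c16f440000a8f29ad18069e6547154a92d623709a142c03d68002237e9a1074c003108b24329a0c62c90c92154d0418619c000000040f5a56e00008821ad2133019b1e854ae924040868110d44a6807a05222b2a4d45a67f5de,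
  nat_lit 0x4db403a135b05c857a25a4195432a000400064a78798bd58002253a3cc05068a101430f540005584957a3bf276fd5c800018333832b019407134983328cea918f5c1f214d649a621a8f931f224d627102f4901f2cd04d608829ad8d621f1d4d5e64030c0f8fa6ae42e001000a801783e003e00006d5cc38000a6ac3fd47f455a4150f4d6af526d5000000052a60004059c0b09b564d05258856d68b26a94b84f727f94ff126a8599276ab60cff3a6a74e84d4e7f70feea6a666852acb4493528f3a9531144001800289580020cb618fcb5ca08940e1bce37887b61e3d4d46f50a07100f201d4d4493a19716982d264d422c64a9d693201f4d40bec374100d269f05d1594807534f1138236047e9a740454b329ff000004200045b8185c26e639a170c2de8e7156b63eb54b6269b7a7,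
  nat_lit 0x32244ba478c26d24e900080ef936880892815c00826956695aa077e9b45ec0aea185525800ee1368146090935a40ef53678d492ad076a9b384113668040002168e2d2c2ed05d77af00020ec01d783ea34766be00000b42fa278e5712108020e0c7c01ee9b29eb89eb14750f509f2c00180074d92f5a002c003a6c80f100083014603a96752d0309943bbd6000334726a48d4a81055600004300c6008940412000268dd5d2bb5800002d5704ae18d2106064d86aa4000000326c200a0016010000c0060875385000001003bc078a6bf000200287c81d1009201169af873c0078c4220ee9af41d407d00fc4d780ac7768838a6bb05218e431bd35d0c39f27531e9ae49701f811094d703441fa83f4a6b7097,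
  nat_lit 0x7001c9bb8140000016a6f00010001c06586a57b90002394c26f04dc0b76f7000008b99bb72ba83bb087c6c9a8e62756adc86f30de74dd4f6e1f603eea0a14e8c0aa9036a6e97b61e18295c52c948d41b081ad3743da8e3231aa7734fa426e77b4258e7294e4f26e63bb4e06819d372a1b0f2a5ae29b9022c6a60ddc4dc6016aded03126e23eb25dc4f41370a0a0a5a14bc9b80c200000baa51b272c4abc6b500022eb1efe3de400014080011ab2a12c535bd9800051a4a3443a853a8a780d40010936da0804ac09569ef9371a6da3990944010936c8e126d802d0000a8dd46681f000002d000000055c1955612e825cd40ebd900021f1c400807c00000021d4c2a1c5470e4e7b10004001540508fd4da60983e3447ba6d20c3,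
  nat_lit 0x22a967dd900da0274340002552d466065800002d55960010000270802c0ae01d480009b3800505b80b6c17c0022921338cbac000863803b74f040f481e73df800118ecb07cc7d15405d50252001000509034e062aa31bc0348e3e4e04f7c391948da7011e24e0001080c409300000a200041b2009384e000102d51bca390002800f5232a45c720a6fd7bd221024f449d0e3e4df83925af8f820e414df640a4fb872126fa02611f0a44937c904000002d000e1a6834c8d1b7bc00087a883a013617c0000600087f1bdd80015330a66402c000052e20568321e493f88f651df09bcdee8ffd1f5923ac3bdd3793cc195a4f1a0e441c7a6f104d2ffe54ec77a26f017e205085d949726ef12c,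
  nat_lit 0x24ffa1cd4ee4000803000600129c9400803b00714e48446ab60002000007c52fa6f440000a18004535a8774a202aa637a4f8e00080e218c6399401d4036be300002a3c6039474974951727a04f449ecad982fec7c847b60f6d09ca9c7df140e18445087c0010003114309d49c79f100161b1c363413a138ebe185ab4f7e9c700c8000873a0e784c48f6400007390502c3a10e42202760000e00286e8a71a7c223224de839407264e3295235b46b4a71805b0000305460a2468c1e2bd20000ec40008168cea4022803cfa5ac094e2af823090612954431309c513e80fb93a4274a9c4cdf49ff978e4e2415e9ea0d7aa711083000e000538804100021eae45cc1998a280005380b8a550991e22e8c6a6df007afa963405600096094b0202a00024ba7770beb80002a8,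
  nat_lit 0x4fb16fd99b74e86798463d648a74221227e44fe53a085e06140c2e9d007a0af29c514e7e0b600080b400018d515062a085470ac670758b844088a791b7309a9cf5d6073d20f05baab74939e0c8816b5ab4830d39dacc93b63e9ab52539d235a92f3e509ce479c743ad474e7044e8250ad9a7372a81d4e3a940008ec80011d102cac147be5800022cc4d100108b3ab9b2c187a2cc0d9dec24b6363149598434e68f9427bd0618e781ce656f561c27337c91d1e7d0c0b08164276682e93993e41931037806f4ca627316471354609cad5a73057e24a07c753978f48e865a789cb8e841449d364e5a1482799059a72c07d2fda82d13958c80b6e16e69ca82100008040d2d0cf2000d3948240ce70cf40009394023a727008,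
  nat_lit 0x6002000492f9be3278653c000d6ea2caa22fa2c0493ea75c7d1036ea508d1c97114eb680a2d7c5aea75a43515fa49e93ac9840af015e22c244b60001000c9d65f40000016a89b5c00842d071275824252a26308c6327574b83a727e716bca75646b257463113aa82e81885aee9d50974ece14914ea63cc0000858a9d1067254e42bccacac86135026a8eaa80017cf2ece50e40000f98000000867a007c0051c9b3e78260826084c519d89d3df393a7016861a05240a515dfabf105c40001f340010c321b420bb01713e6000033446504d99616ac2f338e9d2d1dd47b9c574e940fe65f563da7490a505b866b93a40fe86140c329d1c1f53a39c5a4e8c32064fcde8a74536f0004464078b912800615949d3c02ea744446,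
  nat_lit 0x33d68892d51305fa0f9102c000046000000090b7614800248541aec3d0a7a48bada7757d63d5c7a6cbad27743f152b27a18bad27731e1218a5d6d3b9031172b2e9e9dc4054a2818ec00043b20000020000a82f11c843fc8803ea80000b6eaa345902dba88f5c189db5240da99b5641f49db13c05cc88a00000150000474f288e46400069dad3b50fb889229a69da4e996aead624ed00829d9c0040002947529400a24246808d00000017e0000b8994e32ff0787d51408ba7d40e8aabe0bffa0c54300b8053b23c8000110cea1fc4fc9b755668fa69d8c000039529423aa5e08001276238d573600053b083c0001000c49a8d200f541ea6aba9f48000000620e832600181b4a75f00a551a438086f80001b8,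
  nat_lit 0x1df841c49e4c1e0de721254f2449600253c9279120f28ec51d13c80fcadaf5c669e3c5a0fe5a1204f1c118b87d087278d125000005a000c0008bf3080000001002653d100d40002fba71e4068800027f0002a6e80693ee00001dc0656c73077208ad115462b55f120d44f0cfb616ccd8721164f0ab30002000081d07da561051e168f86010bfeb7d0000beca8bf41360000d9d3c1a78200000047975492800230e17b0a48c00083b800141fc892d50c0ac80005b242f51dad3be800aa5241f29df51c400a80070002006000435f09db31f404fdf6000006bd13b6b44c0023eb895a00060024b98a77a44a0002000907d8d1952f0008b5516f5aa1c4e9,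
  nat_lit 0x72e4f519ea620209ebdf8ce01900c4f5c39c15c543327ad1421bc226300019d880002b4e410482196db5e756e474c5697ad313cb80001f88000898d205cad18f2ebf0800002d131081056f82e474f50a28acfcfdcae4c4f4eb0e005c00d1fe64f4c640175cd9927a51e720647f913d21ff824004869e8c798001ae481a203444d8f3f00002365c6c944a9094d36200027f8165a84416205c7a9e804613cf800800000651b0a3540001840005027e050cb0000201163cea4b80000020004800d5c5a810d3cd2392a7d596c6f493cca182a7444fa81053cc3342a6e40809e5cffc00009bd13802144ead5762e2f4f2cfbe668cc5998af4f2afbc4238847a794210,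
  nat_lit 0x442c8801cc9519261e00006b7fcfac2d9f0b16fd000096ff200f59c624600050b01fe25ab420a00016fe2dc70cd4f8c0020010b07961150ea3d600054892913137287cab4893e2de23e7ab7b50ada7c47e7049e09354bfa2315d88856d3e1bf30bef17c42f78e7f27c27e52d64855d3e08c980000060000188141300c10ba21725e18d572ecb2c829efdf9000180094f7c0cc4310b1da7bd0c4000c9ef95162a2b205000006640d09d71395a485dbe4c6c9c3c16042c100002da80025cbc89b55130ac80015ab04f909f0093800002d5cb6ae80b1aa7b725a000833053db03427b502d21d46ec80000018000197eb2fcb6000001680022b64b24065c0200001397a7e6032ba09000002d,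
  nat_lit 0x200140039990434e445cdc5bf6000059de6f64e7c9b98003000e157c9efa7e40895aaa7fecb3a27e33314fc401000000b4000984627cc4f8cc3e3f580001a9c3518e10cc52eb042f09f7d2f0ddc9bb242f09f793c02aaa1744fba41800016ae8b8d0ce6080b260d619a7a38fa69b4d4f27dc7ea593e39614f800080012b22d3edbf49d9e35369f687a4add15bf4fb217819c833ba7d80a43ae26a6d3eb82b9474352c9f5800ccfc9a934faa3f8000499487a001024922d303bb27d442c53ce39243ba27d33f03ede1dc13e900880050ec06db055c0010e1e53ba38cc3c535880010a50149c63b86ff35f000005a2d445a90cf00bd09f38ab4003000351129f3481546205eb4f986ce4b21449a7cb336,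
  nat_lit 0x153210041fc9f119a859524e189c3a1aa16880001fd800117eb2fdcb9045a1bf0000102d00089ffd4d2287f07429ff9fd419b033521fc3dcd3fe8eb289008603dd93fe1db1d331ee49fec09807500ee4ff40d400055502aa1038efe8a3017162cfd35869fe800304934ff2fe6127824b04924ff080e00095cb0d221a38a0758fd46c28e2591267556521a854feefe41ba83761a895c540010006a7f665b30fe67fceb628d30d349fd55e82851401357a9fd05882492b2c403e9fcd1fc8972030000014800093f993ee27e054ad5c995247f100029fc8b40167e5a2000005a001816582e8370082590dc9d6b4fdefe034286828b7e1cecb2113f73f7a8ae0c18345068b150c4fdafdc55295cb8f442bb49fb1154b78976959f275a53f5bf685a637f4759d3f50901dea5ace9fa401015f82ba3c3a00006f400292422af202a000ce8f2b7f024,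
  nat_lit 0x7980f2d353e7574eaf2dcd503aff806600ce28d7437ebb4d0dda81c7fb0498091071508d55036a80af0c2e3104b50345d0ad210dca8194711f804fa140c05b8b5f4384271c0020828000019231a0b64064ac5f05d600044784e382eb00000300008dd0a1e005d80360004dd08d94138817c00009d18c23157315ab4a8000a8113f200021a38adf9c900000d1e2ab83103490c2a21a60008004281118f2581d6d49471501eff4000001800010ce2904096433c611a810000612200094060ca62db2230005400083b800157244d5c41fbfc80000be40049fe0a6590231924a02058000229c9500e16800040ea95f7379140e4d54f029e045b5886c863a28067f7000e002c638a8051be42d2baf463928041d52bde31b9401998126213a0272cd7600007e5,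
  nat_lit 0xd732da65c141c09612564640bbc141b87929f2147a28fc90e000017f00040174eac2035420a4865e5d64e2837506a3f0001541aa8342db0028002541991d800100107f00fd8e37a8e90ac45bc907a192543e64c84000c0105ca151400000c80012a8945c28d2cbe1976e2ed4ad660040008ce706fe8364ffd17622f8320e626d417a82e8000ee81dc0000a82d4de0002a0b9772233e5efeacd1f4c00000080b061618658005988e50563f817b8b0d2e8441ac6f28de5a8980000ffe0008f5d8aeb062073c0004f5d85eb39753ca79a8b9b97af2f5a4a3c000bff1eb522cc856894700002ea00001730fe699f85cf0018002c85e10b84386a0958a0e10ae5f4388a0914d8eb39d655ba8a08d2dce1c1f29504447a0114e9f28214f70000a08541014080000080002a96cb8217037fd00003cad52c8fc9450,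
  nat_lit 0x600c000400385400a74581d6cd9cd9808000000095c5990f41a6a96601c004183d40188a854de8a7850a2e90a41053ba85022326ac4d680008208001595c7aecf5f1ee4429273802a7c03000002d5958b824f3f9e83509a2242d5d6d91ec650988bcac09783a84b0e316927b114250a418372b56a1243780200000000a25c00089bb898112f657f6014000816982b5c2e009142621eb508c8624dc8e8b1d173cf4a11509059b8a94152ca111664ae72e455dfca10d1047a92dbf3d76a1099a16d31eba50827fe0f50000a84126c0006a330af608d711ac11d81ebc02000207c00f747c000083e855c20242f5d0ea2ae954f42a28547283d80307de6428ace283c2e92dd879b941da38a9503f5aa0e8fac001004000002d,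
  nat_lit 0xc5c98f8207c00040b3416583780000008ba7173400587b90f76a1b04c83d887b650d6262a1a8020003016800051e266551d81e9088d11182e0867404fa0003018b67912884fa0000bbc000458111ef09f9016000058128dc21d160ab70ce8aae2350cca190e314fe8495000ea18c4b0f8692d70010a1888e4000000450c218600001c59e7d299e53454b207ac80a070e72d4e5d2087410c1238001a86080906d20d3c1a7000550be86800f4023000350bc3bea17402000128d4438612289e8bf397e95e34a1713c402128654406a16d13d468a1c150b49ee00104a609502c0025c137c2718498092e0001c380008a3d5370a6dce0cc8fadce437aa15cecc880a0b35e26a1590c07532e5250aa44e1aa087828541e6,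
  nat_lit 0x8a7f393a142000053f9c103b10be417cce4ca88842a0010031806128871b7017002f54431949940327aa21472cc0a2daa51080c4402880705a40b4c4e0171606210000f360000702862306b1c0a38d0004288219c5b5a0009440828aeed5102a2009fc30a800450fe34400100ff82022d9000005a0004309060f301701c0000a4892730f70c201839112a87b4b756e4888d43d23f035f06ba00045b09c8129200001e800001bc11122ae06f0659143b84329084438a1d80d543a8032a9941e800002b4000a0f923be4781077392000041f25c5203507b994a5dc6852543936b2b694430a1c50d8402aeda50e055c0cc510c286f3eb,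
  nat_lit 0x58a0d1698a91b6e0012060001816a8a50000817430c3ebaa8000000ae000cf8e998140d2b7b53000012e7940603971f2c000ae2935ba81514e54dc111c212a0018000867f05b0a28205cbaf1bb45fa2aadd44fc0b067d59261a8406000011e31d4e00080009368000014a02ac27c38d071d0e5000020540010004533a1e984ab91146330002a26d6b42d6736e654816f400000035168214000c4960dba1b82a261150a8007ad0f6459f4b409e115131028a6603d11b4c41de47b8b9fa897813084ca4a911f289644f124e517944a85a000200800000e5c1cc1d8125b5222003000580100c6489e54fac09000b0014a24c00c8e4429b00140000b091a01c315dbe3b706120003811596c781041b083a0004e16002880d0001018000829f4b4f1e495f6c80fa0400018a7e26a20aa4155092480f000429bc5372c34441,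
  nat_lit 0x60297c528c30b5043e232146105a000140fc0c800516a4121e00023f600000010a990110004010a36c6a196d23614001400011ee81c216242c0ca6194836ae6d7545ec0daee041c0be0945e0e90e625bb0a2eca556fc2f80517428003c178328b90623738858d45c15e02f00018000022b9ea804800000014140000293c008c7f4004000980002e2000604f16db9c473a42fc0000809e9ced38c039c5db0000000a027a26a0028ff99bc72ee0a2c4eb409e1af036aea2c04b0020a18f3de4a2bc4641ea1eec515c034000c00400002e705d810a0b9565100001f4000236d4b9ca07a34e269c8d45968581a0000256c0298850db32e6e6498c8fa9c25153032b2ed5498842515017a84cc421a8a7082,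
  nat_lit 0x4a4a4d98001142c3e90680d0f199c334964c4092a9256000504c000452a0a51036000050b01061cb84e409ca734d20ca4153304562d46e41282090c86182c30528db1ab28d24e7c9d1a8da4a60a4c562546c811800004ae648471400b80150000448000458d2d9a040a0405be00000b195b3e0a614984120b19000800296faa2813686080d46ac11823e5622080d46a1c18bd8194eb440c0d80040000a8609c841129db038807140000b98000265c4df82520759237251c4a340000ae000302820500ccc990582100044530abca3200015422a5c42dc000098f13168ec452899fabe557cc001000528cc82036d078980b2816a048ca32dbec00007c00f7c0c01efd4e6ad08308265d0db5a8ca81f3b1e6be50371c18382ea3260789a101f103e86cd113928c881d0c3018643152271518ecbc17f82ff960a518c9205080c072f8f518a52ea39578928c447e,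
  nat_lit 0x23e4c6cc4dd593c25e10002a48c01405b80000f8e1f1104caa5154b39eeb89976115a851f5054a8295058831215e554147cae7802704c80cbc9b828f83e80f921f483f491c051eeb9c25c84b4956851ec93a2ff0005000d51ea882aead5d611bd51e864023f4ab2a8f305d238c56854791690002001000663648eb0ce469900047d115ed232000124122eece2c0e799283b5432a0a67a8ee829000e00300d11c1951db0506b8c17602eb05f0a3b0c5861990c02178a3ac2508338cfc1a00a3a8530df99c1951d2034b224e0aa8e80500000b5d492603e99b0336622f8460863a0c9ca39e09cc6e0c23183ca39867cf3f1e7c4522a3951b9713a28f4520a3905c8da89b5351c600ab88d14728e2114522ebeb947095e0002001,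
  nat_lit 0xdf01bf523050a68e0fdca917012000aadc95b881200030d00042c08c0002a2854520c0a89d51308353ce477a8de8a91482f1086208841020d0522616ca7b10b920bd5224a6c40c55b6afe352226fa19f5161291023d0004a441487940985b5a8e4e480000830000006272274a800000c0001198a74ad72115f2e3d369a6f1d485ae08cc14576a42821cac0a2b752128c8b4fcf522908435000407b4a6907500015294311c7dc8999c5304f809fd483000003d905c00140032ab218aaa414dfd482016800112ee484c90b1f8028da51a60b4000058a0b224ac410c4bf800c0014a41c098813311baa40a0b062595892b06313d480ad601e33014a4005b95558c5051fe384a3f80b55be11102218854cae0800082b,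
  nat_lit 0x6384888aa13f1710004385471e902552e0002384044bb43800002d16ae2d60a1d2de700040025498419800000153626c2800020a0001539eb79079800000304a30956000006000082652aaa55354bc00002620dd21b409901b483611348a9bc37129298320002001549402daa10541ea49c2b439307210000b1c00000b5735a3450dbca4957cca7917170db8a49044d49181686db4684a8440000a080010008024d3880000002258604a002418e831f524040c00143da0ad70f3000634b8694ae68000027404f00480b816c30ac0157060a8c131822a4760c40040846296a2a5c54e175052390605d3044a9d9c2e9ea46d1183d61fbb52347424ed0fdba91907e,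
  nat_lit 0x6167c97216d8002022604585f0000004078d57708d3d19b1fd73faa7bc54a6c1baa0f604aa5306b80001b6336fe016b86472a8e590000ade00004d10ccf33e06680cdc00000c000112baaa14a941b775e22ae74810c1b000024c249820d4a0d16132c2440154a30c19ee92b5c56a4806a94521c5512333c803a9445f30010ae414a182c14e52010a5087094a08168005277843b887b29a00002ac44ee51d818c831d000274c2b441938000010000005a5384aa5154b3ecaa4f1dc15358906281c504d49da539f703ee67d9549d1b695553ecaa4e42a01e6836900004a6000435406a306d86d400000b413a298d5cf21ba150faa21526d068001149b293505900082d705b10ad21f6,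
  nat_lit 0x41f0ce5000311800002ea45d5841000002d000417dc2fb065e3cf000205a85291efa3de55e823d14b441d0009001c5aa5582a9676385d88616860a29662f72968bd24608a9655de2ca46740609a96446b24c030454b1a17169f1822a58889cfd98c0b52c23cc000009d86743fa0272b794ce4132758ba4df54b041c9c0d59a8214042713c552bec7617a82f285f313d24f194af41c06650cc23094613295d472174c2eb157d295c1ec33c03084612295b3ac19fa4f054ad02e8c1e1844a5642840008c3c186c30b1771133000002d260ec15d185230c52ae58ca88031a063352ac94c317c632302f52aa62a000d4aaa9540ea0a9e86754a98720aa66058a5482ecf03183c52a201400102d20db116c,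
  nat_lit 0x41084210420800101680003ff47fe56d92209ff93fe266486ef29861f118e0aff86ea29855f3530805a00240038e172d054c64b983398674000307a000d6371fd617c22f78dab2aa57e7000437c468e98680010d30362818000012de0d3e7f41a595a989bf137c0a6c150297e82f09cca89893099713e38a5f51ec0b9817609fca8a519aa97c83c0b241431514a33452f6a9ca8f9199297a47e3c946b394bc841000455d08b94b6c000803000135d86160e571ce8332000033942e68259aed45bac1454baa090ae44656a5d02603d5b05052e65d60010e8212f7380000033d959a85b8cf50c1617e82ff800a0020a5c60ec5e08bc218467f154b81b499df3f94a5bc830f04184a52dc50200080002ba42bc,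
  nat_lit 0x1d470a8214f458f29a45d4534605a001cccfaec13a8d08a00108cb1ad641306560cb4a4d1498416400100004220f7a1da6000072c00000071732d20002d1aa944b08c011849b9912b533d08633e0bd1092e1256a6761097cd17e32256a67046467a0d04533612004a42588000449000800082599528845104e0008619554881d00020c83234411000018500022d7d554109000027044cf4be45b78b6e53285f0a64c01800100098745e447a0000100090952a64a1046c305a90946a644eec4e804a453200c00018d2e829e05320a5ccff1e7d8400000aa94d7302b3699109cb46d7a78a7414ec2a0107c9ac8607a3e30000c1f9023607cc0f07c5800003a0002a7947c10f871510000010a78c00080041bbc377d51d298a83e34a8a92828e29897a4,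
  nat_lit 0x20000387ca957932ee00ac00000f9c0009b435ce275942afc26000046f04d7d65d4de0030554000010ecacc21e94661162a884000c258e0f000200145f0000000305f4562000c404ad1e5a388fe106800000020f4000025b1522062096a57fc8cb919829b541659628db94da17083b6469aa6cd1900008bfb19d80144b649c9adb60c9019185fd800184a00000100004a9b21aa072f0920000020a9b92db25b062e96f529ae84827a8320863f29ad45d0bb65204b7ca9ac27426285be14d58a4000518b8a6a80282ab10f321ee43cd7a10cdb000308e00051a2205a40b235521180001f3f3e7a815066c856057e0af816289b393660004a6a14d3bf985dd0bc0a6980c83c98fb2534a0880000ea51b89164,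
  nat_lit 0x2329044acbcc000082d45be7c6b574d84a515361ab31000129d77d91bc400114eb2710b550004a7548080010dde5bb893cd6aa811e0234294613d0c4000500060dbc1b729f501dea75213899019ed2a7e0b6d4e9c0893605ac80b594e92038a4f05aea744428a21088300000ee000185d142c5a3539e00c0018018037000200082f800095df8e4a1738aba843894100011c9aba78c1c031384d00001a8c34f9c904b6096e85f90be29ca54059f0c2c94e491213792836a720c2164a2fd000001c600007331d4a07b577c0004001a9c666846da8e08d5f29c66212eccb6d94e2a710fb73b16a7100940001371538643ab315276a37f53865eeb38d245237c53847e4677d0e9a36753824c0b2f11be29c042e,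
  nat_lit 0x7ea0004003800953e8b9caf7c456800853e664000017429a284406900c12d0f60e17000284487f55ee800010a00023860bd38e19470000038645d6c290e190044a7b93885ef002253da43a000c52f8e1828fc22c000852e913317bca04000452d0e4528e273c000052b9bbe0a129e6ad211d1a9e903553d000c001402a001b20f0008000c15102a560190a228dcec00000000474e00040c19f0a2db0000060c28d0be2b784742a78d0d9691a39f53c45c22a8d10f0002020000005a0008911921f24d68a0000558508dc24a000071b5626802996932d8932921e148128f0a776140001800461068d894ee254885443dea76c7a477930ae53b402448791b0a9d91fc,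
  nat_lit 0x16ab2d58000074c00040b41f42d0631f4bb3987da3c2541d0ae020002380080014a83592950da3d24796a830bdc208221e61fca82d664975a3076166a82977c75f21c1437ea82498154823c7541085c4ee52a0946e00820008b68014802400025be215c01f000006c00028f0c01facbaae645c8a8100d55018031b5c118200002b4000aafc38b07158c63ae43319e6dcd1ce120d56570ac000039d9a8d5cd55f4c48d2399d57320e8b7d50042a83844366a7fcb9150423bb53fc5c20018001001233c0002ae515cb005948f5c8e32f4382800185417e0521069d870400010220004a47147032ea518c37ec298000001c004070e274000d001c2fb95c729f82c800060ff14fb82c29f602d174c0fd800026d0000008,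
  nat_lit 0x2a3636e4a8aca040002a2b545800210f80008bc45eec13d449c0000168bbe3e948cbd86b2a282572fecc47551382e9bf836d8a898b480008040001033a09cc8dc000138a3464126b49188c2a23072000aa9800efa1da25b000043fc206177000002d000219898980e4c1ca2371c6e40f477ae0000198860983daafc1756a8780980ef0bac543aaa000200622a1c21d37582e9550d8f9800321f452500d00010008000216683a92a9a51f59ad0b442c80012a1836b28cb1195ad782aa216442cc000a0a00015464194409400000b93b42c1e02dc3442af60c7c19011e9aa14859180eaeb1883aa134de03963f3985e2a1247f28e28f4550885a8000294c54c43382af1858,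
  nat_lit 0x152d9b93548e15c0008018001122045aa5cf8b9f97463cd2b8a21740008331066406c000090f970a04b243a8b4d89e2a4385c0046a91d2022a4218e5a86901152083d00ba47a0a900bac6098c1a5ca4513800092b93105ef451380002cc000015be0f481e6bfcabae57562b34b05addc4af883c000142d8ee0348a5608ac20001794181a83bc00006d80023af48020bb8000800863c0004001951c2b78ebc0218a8dc17165b863b00000b60008307061322200002a7854d83d8d756094a8d138969a312b54660d40424450aa323360000002104420980020b75482aaf400098400025a62c4d411c93d0001182a10541cc0000c1500e844ab4b9891aa2c4f7,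
  nat_lit 0x1aba4660a341458289b15a54c70ce3e447c7a3fb62bea989118df9195e63109099530abf806c54de6eb5530160979e484aa97c8481fb315a54bc74223211bcaa5d0122f46902152e04200070062dceb8843ef87e6039a0006198367874627ce071c000432800222d845a098b01ca864000217542ed062000660ec036c06b80d60104a95e18c8b693f22a2883cd52b43113f04350a9550d88bf807f54a882659c10462cd022a82b2d5e1b15054a90c2003d52b2a530255aa690615290fa17892f1ca944cd800006c7090a72eacf05e70bc627504eb113eb14b54a10c0abc18b4a4654828a93cec8772306a549c1c8b5392092a4d1a8000400cc1a9697933721d0b2cd65c000085f00021cb83bb05660d400001cb824080c2b423e4610dd56db14354930bcb5252062a48083,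
  nat_lit 0x600043a783ef9cb800043a2aa088041a92aef472e904400d2a8054fb0d43a68a18123f247c911153e434aa824888a9ec20d5459bca54f450200080b4000078b101e0301e2468ca139626690fd53c255185162f08e5d1ccaa772551280c65521e317454ec40e71b5219b17354eabecba2521e2a7442e44666f0953996900002ca4592c9758f5b1eb90d0127c16580080000abd8b281e80cd619a800151783012e5700081c600040187b402bf00028280148169800030800040b0816027d80010586333861800002c12e746f20b0d8b32a6909854dc90bd53403d2a8562caa99cbacc2b98582850509c00094e800000800020d6556a833f6170aaa00001aa83b3164,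
  nat_lit 0x10e421daa9a1f3000205a30640bc01771bae377d259a46455330dab6a587aa26861ecaa6035c08ba45b552e040aa698cd2a960fc5674918554a89d042d0868aa50a44000800800143be50d9190000048219100c012056ef25df28b810cc2182a9186c566a916d54823f2a936324aa3d3dc001804000102d5a4a37386e8a4a548acaa3573d54da3b044c2c3a154628a2df64b9892a922aaa8b3b4003a0094174aa8a5983666c621229aa8946b5518c6295440f3ab2c48a2aa1c97459d0b732d905afca899a1748a2aa1e1ac01b00095510aa1882400eaa89550a04aaa2d227aa841f40042aa2154190100000085bd29705227244c5504c9eaa21225aa811a8000aaa21851ab0027a,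
  nat_lit 0xd6e92dd407e00041fdc27895c000005c82234447a2382e62c0c93618ddaab67b40b946018e1faab52e855b8920155a170942348faaacc80400a8d1d2320562002c03411382b6000c004077f95b000057d024f97930fed65957ce24f4d1e026f04ea19d433a08020ffe137c000c3a0029000013a8b64275800009be6b2b6eccd7142b2854021800600028730002b858e0fa5f837f6b8e0491c39000000809ce0004006985000002d004c002027188e800700803c800840000de0000008000e000c03f85c800202d56845c706f50dec28da00180000ef02de27889577c388eec2ff2b4ac8e22bd3120891b15504380079283a506cdf3226d37faaa7e1bc26c22db553c000800ec3702fd05feaa755415a0a4695538286aa7d8d02a9b06a,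
  nat_lit 0x8b39942e255035cc0e9c3c8885410c7c88a94945c55ab0f0ab50296852c0a5aab521dcb38a60c4c40b7c556990c001e0036ab4824000000a555c87f40000001108221060009af9705a6004c02b9a8000adaad102c7a00002400010c092a7c54f5d340008c08129406e16880000169e9c3d3600240072acb2af01a0ab8924baaca4de0306c6f5564a3f1c76492cab202d4007aac9558e10400147a481731280b10ad240001d8800102d29389854a47012e0006a220f800968002000a048a1d8345812b00024426bb8094800006c00020c8c030006214e000013dc046808e0b156d2c71155f01aaabd006001004b09f322100035578046a1d40010030000001,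
  nat_lit 0x17742eec000818800128d66388a8830b000028d6637500e901946918ec3874951129f1c54abc1f245190a33207640c40042af055ded0caccd0e9aaee2112a1c8aa157683f14674976abb015ce3da4bb55d602433cce4aaaea08456dc6d4c8cb80001e100020acc1571ede608691508c9c3e800001c003987f08ef0b3158c092cd573a73107b20f42e20a2daae687c199887290e4aae5146233052d18f4aae418d003e00a58f62ae31d507dc92bd57100c1a8f323a408c001a351d96204e0008c38444901f000241e3ff0800000006e00022ef081182c000000858ca95b932632974c9cb99556e43d800700120c34ccf264d5cc8ab6e1e81b81a333468b98d56d1bb97282e4a5e08b0faad95b03d0ac064a94aad833111183a7556b8822ad6008,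
  nat_lit 0x1026204b86610cc4196510852b574c8e831b88371d175ab0c88310d264dd89fab0b567577ac8655850718197642eac242282a22bbc642eac24df47c68f8b000030e000986514512120002747c1bc222000058241f4cae0bfd0bae28fe9359582a3003793b048299582016142e4a5ec841581af12b6b45baac08198d80218d5602120ac45589009a00100029580c412e194a58aec15802cc80025b5abe4a1d400000e10e3a934037c91d019028ea4ab8000c408000008000207b40f7078f255910000004c080af014a7a625e0c8c2afa01f5e3a5a0557c8ec87833230abe023c000000155ee07c00080b400024b1637085f1031163d13be27861fd258b1f84cc4bbfd57ac3f052930c8619957a0cdaaf302d,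
  nat_lit 0x2e0168d00020ba2c740ab000084b8f521d080000324002000288d565400048c000f800088c054e58e0e692b240003116029159aa4f8564689eac99919ab220af001a001027b801000300100ca01a0a82ae555ca800022280018000010c15a44c80548be25d4e57c4001a5102b2055800090517482e8d00026100004de6844c4e20000097412d97c0926125cba8596f2eab5b80ac66224ce49ea01ef23dc8cb4127e5631110bcd11d5a0f92cbcb6f958bc43920b2414b6a093bab165ff5b7449e958a841800724f4ac50208d8e0a8c00000ae0008b1d982d482c2a1e21800030f8379eb3b0f64e5e2ff460ae6589588c42ae9b65aabd31588019af663398bd2d5878cd80050336b45d5870762b0d02d,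
  nat_lit 0xafcc470afc01b8000000200095d0051e06000020b4cd468c90aa1151e001c006125425d2ad0e2555ceabed28646108c22305a5685128b1c92d6307125ca4b9d5a0b5e92a0253e70e15a00b105642f60acfc83011f023c567c15c0b5816680013eb000230a09332dd916e09de000054d8a894c300d601b41f2896112c64a4959dc49979c1f3602ac04c2b3a89257b4b78159c9088b6d251aace01f891b1226566e3203588a252eea4d70bbf80018008013d122c1dd19c31ad2e905d040013f100030ff2b11442f0dee38e237662400010f0f1786213442423a80011d2837c06f78ead88f000005a3c3470c0e1a4204acc62385c380065662acc0ab16661cde565e39cacfd2822b2e3671b9ac8fd59690404d1099eacb07cc00030fb1f8832486c968e0003051,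
  nat_lit 0xb4f90f9a25044a8ad8cdb95bf327956c41c640691292b6118003f094ed5b0054062d0c5ead7c028bc9982e0006040000162d13a51e60000010000406f815602a6866000006f98325c401c4add99382b5a27a56be94cd5aca3f2bf34490ad613dc2532cbd17820004564c772ce100005d600089960a98152f13400049961b360230c8200007cf8e002bb2658293852792c441d6c4e95a9c4c8ba64a56ad490d8248a52256a240200100b400008c106de050aff0004801117f09198eb4ab4f89818aa7b4595824673ad0ad3a21c2642bed01ec427cd762b4d8970da86840d051d67569855e73d896592ca569641a223d78aab4a23d3b0275955a485a8c6e3056ad202d00008029007859cd6f09260896,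
  nat_lit 0x2b357aa0aa4bfab06538ee000628427d9f150000008000d66c0a633e2e70c0008b3aa09a08c0002043408884080002baa5690298aaf955e56f4a44ae319492b792115d8c66315bc02e05c4481caddc1f4e73a55156ec00635b4f97ab750840b0035606ad00013880002b0904c32cb25966894000023404663330a9c00180060be956e514058906a58d5356e288e00140b4000950f5b2c1d9dc9828e044f08a06224b479fe0000313e542983d99e733ccc60c00044f00000a90b0704bf098030bebd962755e602fb1f423e819402b6c89c1da63d38b14315556d6fc62f140082b6c56d441249a585d2b690265708ca015b42a82b6e4a86ad9c50c319863756cc66c0008020000016abd6427284018a6ab6489b,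
  nat_lit 0x20040007043208755cd83a85b00b58ae6861d953aed8573214041bc836ab98097002abb555cb8319cd145c8ca955cba5c2c2b47008df55cb20611c746be93a95ca85f820e6544ae501740000004039e06200200b42f40c8b00029b4000472284da075862e00007f4ad310441fcc4af42b4ab8f1c13f2655b55c70daa2872adcae348389ca956c57180dc32142b3ab8b0930414bb195c508e8fe431e200007300000042f9631ce8a059512b8858d1b083638ab62b8742c5836c8c120f2b864300e061c192af2b850bf2ac8ca795c2050800a014e24e049c95f000059b629a821852d0a5f14c26628ad680060001144087ced400032c4,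
  nat_lit 0x27840002bb94ee000a194c32a89db163000200c00040042bc541900000020614a3b000d0c845ba8c7b18f70aacaed1fb004888870aa8aecc770b4a168d0ab0aec88c973393180ab4aec54c025fac6257605d60000020000008525946c953132ce98a900fa15d460c0b41168630840004540003630a7920c3318683ded14e0008f7409c301a00027848bb6861807d3da22b4c56d2baa8a6394a4428882987f575314a62e8c3eaba84360c7219115d38c98e5a5a180004730000003000023602b0504c683126c2976bacd75a14bf57491482af97472e9128827e598c92ba38a339b61c80393aba249d586c7f0cfe12ba15992b0896192bf2ba046b0e421c915cf82eac164af8ae789746f1160f573a022078400a80001bc,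
  nat_lit 0x182cd081670fcefc00102ce115c7f479e10c4abd31ce5ebacbd15e92a802c8126caf4480881f1465203000000bc000ac79326064cca9495252030bcc00000422bdd57b870614752d62bce00b35fc85e55e69f590122bcaaf310d40000b6d34e01482d9c31b80000ae00027628f17ac9c1eb0000b9b896616bb0c0325064997412bc88ae00180034db89335578e81e26484c61333578c4b269c8de99332578a25a01bc0360e62578915aaf6099a2bc316e578405a00085351f534cdeb5922b000007b161b87f41ec923c9f1540342f985f12bc052814c25a8d32e0bde17ac32b95dfc5580be16886208981876a0ed2aefa2a90ea17ef199432b55deac68c9d193032955de21814121958aeec79c6648caa577414281342ae0000291,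
  nat_lit 0x400831f663e4fabaed22260000a2dc3211a8b3ffac1ac00081d853435c200003c4001836006b6bffe2d8001035f06c01560990000838201c60b000000201c205bc2b1e56416072bea8b505f60c1009b2be91eb001804dd5f4005000344264c3098490077b800043b4076b830c02669e80014000a21129bb168000189a9f5e5d78758c7f17f999093222ca94000c59847b0af86e692fd23f40000dc600040041e53408e0540000002830e709001278699deaf892e72b4855f045903350668af7c890017803457bc4023fec4d82bdd060025404a55ee18400025e840c1c09c000310616c62d801dbc589ea73d527b84f3f0007000616015ed45816380b02af640984fd858457b043a78342bf2bd7336000400c0011617af522180430846d08dc8af,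
  nat_lit 0x1efe3a28743d1262c0e8bc173ecd311da2c0d156085010ad1d7ac0c15b1a628ea96058cd2c0a02d00000106b18f34947b28f40004800c3793c927840000a1c0002dbd1a5a605d9f8a7a9cac43b6c0c8ac42c068bb5b844edd8099586580b0506e08f4999162b0ab0122e83068c0a000e00256018580ff2163a2c7d6010af091a1236b0040684b1096858000a00000489ad080fd8904106020d88361062499800034000015d3096899852e7f4a20000300d6c5130a25f8ab64ae862784c40990c510fa99e9b57f91720b090f42bfb05412c2257d5fd10100011b7c04200f00000f3705ec096b4984839133225c7968fa61e9657f1170b04d990a5e46638afdcf2417b22996462901d5fb0d5ad1f425487855fa91f8ff83e84afd03907f8240457e630010904ab2bf20de,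
  nat_lit 0x5c6a07044d46ee088110fc6f59166a4944c20b0a974162cb35d4c4e9845614b22ac2e4c1eb0a03f57e13351584e1f8055d304ac260bb448e3a780088017000003200080712c3d5876033c6660cd05c3f18000040e1811e023224600000b40e101da58ba98256111202fbc6694b0853dd63a1da55840502000525799203064524e2fc9d030bc00029b400000180001465659872e11ec23a8a4624e25c08b82302e5838a642d8ced526764e42cee10a0ac1b8be3e167c558fcac1a3b62c5a851560c9b3980a63ecb06050c0029bf2582e43a69c4e98ac1605900022ea874580a939021383bdc00224f811e023e000d04c00017b5261c01c6fa9388a719676075e45b200008bd0002520ca430b607b3000060887761a19820603079cd1da2c0f410,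
  nat_lit 0x602d204e3ff8003000124800000100b2416710e600020924244871000009000007f248c7aea021d318a368c6d2903264fe989d620c6201e403cab1e59b6ac404fa292292c161fa3f2c434c4ab0f820d6371df9587a502000c8fe93b50cc599c126cd930a38147c47fd61e4618de1000c001c8c52c3b0711d1c3a5c8ffac3a0e15872010000082ba12860f20b2480c91518eb587073494b99c933e03638b0de30916332716162b0d86b49921b1b586a110ba48c73ac34104586601000016199abf322000c03043e287c1407680e83774608004036857508880010037253425000000b4343821658d2985d6172e02c334c2ab0b40997e3b35758580d402d8cd42c2b202,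
  nat_lit 0x1188a10d22bfaa0c000cb95972c08b000470ad6b98058001385857555d40002dc815e6324217442d09e82e505ca80c62c5f8cc06ae85758ee018b58bc8a8256c489019158ba0e8000c006ac5c0c3000805a34b8c4d98a04e3275f4000c6583a8150600000f0002016a02c00829707b0b800302dc5e900b3015f780000800080b781718ca000205bcd56002000002ce6c60e580b49efc468e60d0c18182f5900b152324003800c2c9a3eeca17818258a651a03b007b19d460f4b6f40c1ac528c80d7293f4c19182e5b780609628c6388711f5c2c0c0c0ac5018c589e010001019212ae128000405a0000071820e08601c6b6f97159e084b5896c1626463023703fcb20d9bcac4b1f50636c99162501306b74976b12450d626263058903e818e8ce5ac471f3,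
  nat_lit 0x409f013e4000d63fc692f4b0000001c5400028b431b0a36183bc0020b44617e56144800018b422f0c5ffe3440010b4449ce2d8000459f12a32a500002d0579b0be0b3e2ed2ce9163c2c778d058ec05a000113b344c4fc4c17cef1897857701da03a05d69dce2b02000633c0000040002300a52e8e311c5f5bea15bd690c670001297652f47680000c2b185a67e6e08a0810225f086f0d3292c7187217e45fc0bbc97606736b1c2334578a5a658de16a5508f03ac6e28100022e285c401a640700003ebcde78258908121258c16360d180851e3e3c7963589322655f7ab1a85b086309e858d24b80014b172c6823b298e58b96338c29a122c56b198154af2b15a0004192431cadb80000ad,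
  nat_lit 0x279831b0000378000002018b25354bae9a2164d327802d0014b26964ca2eb0ba3392b26038cc20a685592e114bf319e62c9614817629158f19b38b309636ad72ba16e5bbe27dc00046c80002aa0833592485590a9a1539fd8aa9125418b200017d8000ae1c682eb89857c0000c064a762303048a8e19c1592252ebf199e2ac900af592899f16478419ba63c04b238a04003000311140cde36025b04ba000050a000079fae8b138826fcc7b8fb98d72c12584cc0b0d321a8c350c00146b08861a823508000896800002d000053446a08d40252000c001075e031659ea25d00632c878d542ac78c172d0e2312ea031564346a092e1258b7000622c858d31822031d642271009c0190b20c808001006a00da08ac0f4000870c0e144721e940002e8829922ee3dc461c0c3629684ee80042c807e7,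
  nat_lit 0x201680020084c789f6d98aa3a064b670fca7e00008df0006774cf9f94f813d000467948a5114463500027e8d8fe13804500000c7f128b0d29ddc3bbea1c943b30c62f5ab2c6379688269759600febf6134facaf0a536ea9a7d6571b780015e7ebd041810ac8b241650cd7d2d78085595b1ba4c1583f285e448c890c0412cac8dc000cb954042acab15f3d60c7280412caa42a261065b165caca906521b601fd65414a80015fb890485e40002fda196a52856740038008594c19e323c648802b594a84400097080b180b561699568000816ae954f0c6c68abe15822b9494e5651c6dad510b00b8e8f0fb3c23c30b28a36871223ed59420504f7cce92ca000e5faacf5964f82a2ca44d1ab2787d00028d7a00b22305e4d67c80012d6,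
  nat_lit 0x30bd69b2c30ca03140359a91d0b754aeb2cd302600026e1166903519ae62a2b3447cc002ae8f673e7644d279a468e700068e0d992a898512ec3883df4730002664a2fc8c3400005aa344e6678a21010a02071ca00200028d121a20b3351211c20892111a343d6664720d881b341f8c3f3accb00c099e13698d12cca8e3220e8469664822000518160281c240008b055db250c044b08958e259a20150002800015c05942c1872c0e5a005cb331a00acc68e10b42324801c2ccc6800b3162102e78b411696b310ed860333fc59869c466d0be02cc25505fce9acd6608a197bc4d52b300874004acc1597e404000c9c993cb278639d86300011390666e9fe49e79880000177e33700d85e00bc7310eccbd20025456780b2f23809c89be867e89aad65d8d919ac2f6eb2e838cc3526aa5972274000165cacb82e2,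
  nat_lit 0x5f60d2f5a182cf16686016d0bd6781ffa2b53d2ab3bcb480000c4f18aa31a466d8bd986c35c06b7cebbb3e04012000a3bc002899107600ea85202e3e29d91dc0010cca8e4803ae77e000ccc9323d366000466382152ba80016164616106400019942c167f46648f0fb1fc445a00256742ce78ed34e4cd5d366ace63da6000d08d6728d71e3f4d9ab3901e8000262859c607c000c0b43cb8793258ec3c52a700018ec24aece740002710003191849d0fbda83b3c2e2c6c58d475800219c687992220cd800119c6bcb88c20ba000002d19c057d580330072bf8791966e4752dea106279fd66d96092574d84b3688497fa341659b2422b375365acd80ad01dc6da800080180022f625ec99329d03214000262fcfae884d109f1d2000400008f8150,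
  nat_lit 0x2cbac13cea121bd3a8079e968747b004d5a409a7c0302d17689cb4363d49681d665a180fe315062b2d0b07d5f9c9c0168502d88394df8b4247f00028168000012cb460ae0043addf1f424c2c976114200031e80270f49b4c63d9abc307cc80008f30000240093591442a70af215e0f0c1e86688c9bf16823982ea961bc62a9344ad0319e663c8a90f382d0258c0a9a98b968081400185a06b400094cbdb44059fe0a800916812cfe05900064f5893a92725a2f00a012c02200001e8000020883d787b80f7c27b9770c79082218123028d9a9b4349029b9167dc7893ce3b74d03933facfa770494acc34f332cf94c4001cb3e967c07514084dc4b3dc229808b43659ec290005167c2cf52e2000404b409a946a62486b44d6cc7800015a2a09985dd82916bc367491e136dacf34aa02520039679acf23f0,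
  nat_lit 0x5fb875ec74d8e9c5a52a1c63953912d280ea10bc217169380500025fc4d3dd0caa19443d4cbde3e400093f51b390a4001d6f20d834ccc89ed692c7c085431f2b4901400000040000100e3f6d8d68c4080a5c56502400013000004afa58c8e012bd060b5a409b40014000ad1f0355a3c00c18212bb18311ec40000868001006b1858baa806c00001693ca2818bf7138a2d1b3a95a4ad17568d071800247f47688c86119029368a600051fdad6010a00008f8105700c0d981b3262e568b9ce9b65655e7a0d68b1f88e881d0a75c168a8b902715fa89c3168a0f08c6218beb44c03c84b9d6d5a242280cb4b212d1111b48cc593800010100016138d0e536534294d449c14b27c7b800061369b3536b26e36db,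
  nat_lit 0x13e4e199c354d9c3e3000093e925a3684314976b8000900000000146310de00090b2460049ed13d740f42e396a147f8b1316a212616e7ad418fe166007140e42d4052a5a7e05a115c87811bb18b4000130000085b21334949c62a32380000b600018e5c2d609890a201448d09b2011f82b4f23f400388732c225834eb70fbe5a771f8bd19419af445a7494c16217758d575a724e800048c12114316262d5728000017b02f8b61ce797c5086c000006a000169b886d1ef00103b3d69a82b086c1dc2b4d01540009d9525fc02400013320d6d3330b0a1608000ad4811b359a00004600000168ed019043201394ad2f4845a8e9ca56971b38ec34914b4b45d800202ce0f6e2ae0004bbc93e6044250071547140c7f18f831ed3922d2b8fb14962934e910e7919ee33e4dfcad2a8fa,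
  nat_lit 0x940d3258720a410fe6a22c03ba002c00716615ac3206c04930883f607ea59816b035e9642610e936d6afa279e7f49b2b5788f45c8a4d75aba1065908b232d5c0b4000601000040b4dcd17a261c0cf7925228644eaab56a301840b4a64ea29d4d6ac889143167f697892f0ad581ab1dda00416ac2d5738303a41cc93a92d5670830d661956aa8752d684ea0b5504e81f32dc85aa65c4002031305390a6e64c0000ae492f404b2f341394180898f000320400111822305690051d1db0001b3c24fd0ba2877000133c126004bcd688000a301460085bcf54000016a2f666d67ae53a22d4b2af17a82f6cc2c2d4a4f11840307cc2c2d494b717c29d0d6a411e8ed84b9eb51d3dc00084f965fa5a8c9e12fef1419202000027c0b753e3,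
  nat_lit 0xdab8bb3000093c000002185e28f6699c9de56bea8682af38f87ba96be274140a4d709ddd6bd9d61ca64da2b5e879d6c5a7755af27fe8e34fb0ad782a80002745191ca320cc638ea4c2498200034a943fad55d82f000257e5b50071800083f19a529f6000004800014e829da10c9a2d6fe04815ae45302c6423b84805ae257a1c0437ead7029508ec11f96b78740a34146ab5b83e40040a305ada0560044c9d00010a40002819d3bb193118b031589f8000316b32ec9414f182701938326a35c16b53df2d69000000247dc8a98006391235b96b40fd20084008bc716b38d6ae4b01e835d96b31242d65008000e2e7045611300044150cb509b81b0800002d,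
  nat_lit 0x204a09750b20000024c4df47dc09530f161e0b669240b061248248ab6651fc08f01215b309ee002c078ad970b43ccc36986d1b042000478400040200018bb22a6a79fcf40332833c8bf924200012f0e63fc4e349c50ca000117706e545311b98000176a324c5905da93815b7803816c8c3f33d1677c1ac80722d90907216642b8072ad8f393000a03956c70b7130001cab63475d6c60168d9e26da0000b5c00281698ef3600849c34e869c000120c0000004b59051c0000064000172fb4f522c0147241436c13d60070b6313c2ad8645f1b20bcf0e3aa7225b0a908cf112a19ef85b085580875a482d834e209907bc56c11b3ad924efcb60415000202b50cf80200000dae2eb7201,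
  nat_lit 0x8bd117cc5609889313699cb6e2438005847b62bea5c9a8327025b6f21a46988d991b642f0b6d968583ba7015b6a5c2bb75380adb4471114688956d998400040904c67d8cf0ae915d4709ccc9c86000306ba0d5052cb8d000202d0000cd64f98943f288040b23890ef9f6252c27e158bb2ebb5b5ebf20d64004000906e0b6b8724422884a5b5a2ec097412f2dac1f32e6c0000002834f17400080d30b9906c08f20b50167400014b800014f2c170a18adb300c721628fc524b50f4f4cb6a0ba806080c74e089e996d3c52ae0569eeb6988901df24e55b4a402000c6c306613844098c2e0afdb44b33ac00596d24851387001000316d1c848018002ab6890d86c2000c5b4201600040b5a75291632ee0008964a65b58132ec000445c0000168002025c054c62194ca4ef,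
  nat_lit 0x8820260800122137da1310000033800210fe1314fd0000887d2ffcd8600001fc03fb2015dc67e956e7a4f06964fa0b7386f16e6803000700600061274508152800100a8015d88a3113148c982000029e053911c01a827804f5a7fa4f94b7253518a8b51d5b90942b7313e4adc72e107569f196e310084735f94b71504c002800226544dac21d8442dc4000121250c870a0e1926624cb00a78001910005600bc0a70000184000066ac31d814a6515ba802b195b139e5b809e40018005adbf2e4015252216df1572fb81efab6f402c00016aa5f4c088605996f1c56265e357c6b0b25d5b7921e3bf5378252968a2b6ec65188aa5b05b74a9400184562db900a0002002c24588a5763,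
  nat_lit 0xac129cadf005d07600f656f79540fb863220000cc0001a79427044e00a7333ba9170000244448702df04c4b8c982548b0eaf4cfad341936b26c64d647956f6347800a001a58448f22deb15546948d4090612095bd473e3ec47368e6f5bd322a68199829d9d5bd04906150ece2de709c5bcc01000186ba933d2f3000601000040070b4c1486bccc96c059d914000000182ce852000d307a60e858d0b180c72b78a44d8ba9833131c18e56f0b64b2e93ce618d96f00f60209041c18dd6ef9d609870c6cb778ffcaa89a272af855f8c7618b921c2000a448aab127424e64c24000c3f06d12a2e4c2800001e800008f8112822704c847500140035a4d18e931d4b76a4443fbb3735bb24243aad0e7add80a5260e63296eb82e0af715e6b75864028105055baa3f813402638002069,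
  nat_lit 0x4fa2606970614880005c26b85002c01e8cef000276200099399a850b5e82400040b400100053a1a743d1d823b44fa2b822475938a7d66a96d525703a49000002d00020f681ee0c1000a001c2965702c848a8314bab8110d88cd0a5a5c06326000488b25374e18d649ae735ba2fd323810c82180b5b3d38000a46c887a50c6626000511c0022e1e3f168cc4e1c32820c53234000c082a4fc3af07a98318001010206f68c8000408218e0419000003fd87ba3b010206c20d8c1fa83f61a6cb7ee465009900a600a9ffd6fd05b0549305ab7e51f88caa5425bf04e40ef41f12df70ae000405a00009492fe001816a22d4826f04e06a9cb7d4ee825db54f4ff69fe16fa12a8f0d672e609cc132df39182a1a94e129dadf23b32a0a9825a5b2df13f0,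
  nat_lit 0x83680005c445e6000494c945328aa447e494000318637883de00040012e1f33b5c3c00221c44b0af56450c7e5570f492000010422078c38ae1d8423ac4d8a54f635805c3cb87648c09480e601c80000b2c00023025f761863318663a18a243e489c90a33300d941b2ccacae1c92263a2a09970da38982f5044000119000083fd4bbe5ae000596926d9651422e570cc6683fc5e64bcc570c24832ce3a3474ccf3f034e5c32b86248400221d24a0c0d3570c3e18001000c00901ac0002e18606241c00141c003831a8eb85a4808180d4e5c2a2863e886a3ae14059000246e06b68b20000236c46f4d0c00eae166adeb849378a97b4aa5c2216ac5613eb80040004c395870097291f0000013c35406a95dd46b96478001ae104fb6b83d178a7935525c1c0461a711a5ae0d020,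
  nat_lit 0x1124ca97237725148419083692b0006926529ca45a1a7687e000924ba6f44c6c98c4680000a4920b680610f4c00024924e702b9dfe523d0213042ebb74297a39d69eab8de4a87c316c3441e889171b472063f305a1eb83d62e354043c5290714222e344a869ba96753042e3311c69bed615acdae3292969e697fda77ae314071a68d14971801e26255080b8bc11000099730e201c499cdaf080010008b8b80a113d971c5c5a0b2b8b400004c1098412308818e0b46b3b6ed138c24ae2d5c59250b8ac0b58b835925c56aa000000b4dff25904bf6d63d7151c4a7f33088b8a4aa0000079e26f4ca5523c3cd28355c5000660fd3ffae270ad000800041ab320a5408c8189ccbc017841ac6042c0008007927216e43500870000383000a0000de4318c2f22bbd00874930002006,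
  nat_lit 0x1000a97185b0000000203e453400083e835c35cbab9724c400080f401d603b065c00007cd22182f8bd45ab200014a161e64e84000232000000f2109448317480700812b940aa0000007712145a201d080989ef13e80d081a0b5105c9f26029dc53d1fb2526e8ddd120a23f5c9d25ec219430ae4d54a16c0d1c572607206f00f8ab92ca4400281692d7102a00040c400090da21b8262551800035576bcabd48fc10a60cc806720ce1a83ae4792e0c666b9cd741aeb446cb919b4026908bd116ed415722a7c10f060faa15d72223f87b350aab90c830000960a16b82d64058273000026384c69a76a5024cf2c187e991b422324460b9064b483a993315e20021720ae4092c3d4ca595428ae3f5df34dc89f5427ae3e3ac3840a13971e850a4e06cf29c7931a8002124,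
  nat_lit 0x1bf0c46d73987e00050fba0a5c14eabf0002042a08586c123300003f2e15341ecc70a2b65ce0050c2a1aefae6f5500fd8a2197370fa000b5cdeb9b41640008168aa715566d2d0912a6f663c74b973647e854b487c90e121cae6b2636146d7657350718b7c455cb9a4081736287f5cd035022457aa000207b0fa28e8087f073b0000ee0000d7ab1933645eda58cac0a200e7326400097aa9de30e9ab5400043b187610f7c62e00003b787c91350ed249c49369d235cc483c1f7943bae612120002b9c448910708a1619e49a8e902e603c500a8a1d172f97088d2484eb97802cc4028705cba7d6000436f08114b74754609060a8e8a031e00043500c80000006a2a0000c0021b0e03221de000800400800ab,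
  nat_lit 0x720ca868000059000201d8cfc8bc800000ec2050bc803b24855d1a4184fe1affae8c27250ea62d5745841000015b01574d9856d00010006156ba9857d80000020004bc6c2600b8f2e863baa27944eae873f25d2ad7e17430f3a668315cba14b4800380220eb420324d40008047227045105d000001680460ffa5b840000ea000100d08b7c7d9c9a000000ca71581bd74735f05cfe0fe4fa923a2e7e0bc5d02a25573e82d98a650b6b9f0dbce0a9c1629e2000868cbf394ed000230c092812680001a200040d0419e10900011b461c0d1100000da320980060d700018007139227306d3ae769330dfc1f343e60da65cea17037d09edae740fd,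
  nat_lit 0x2460c9b706f78170001032a066d866297000002d46069ba57c807371c64505975549c27d03c769b5936aaea99370416bbb941928c15d50afe563d8c8208e5d4e618c809460aea652214a0a2b575285e1dbd5180ba90048f2636165d463f8000400110de33e000000c0011756809f413019e01640002d4800002d00a800d575228bb5d3cb80bab9b092e9d06a0038ba8174e02c84d409aac4e09da8eb20002f140004dc3a528623c243c48726ce936000007d40fc81fb1d7af426e1005280001cc0000010bad1441b5f96c16ba5ca6c70d000a5d2eba5917470b36095d2a300654d246ae9414800005fd8d0a17722edcdf022804518000000a20000005fd0f2b62de054c07c84b0001026,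
  nat_lit 0x185a1c215f7e1ebd764c9f00474646d27984e2ec870b2efacdf871daec7246352238e1763019000103a299cd15e9e5f2130000075178a8852f02504c40cc737022b045aa38176249e826c2312c429b1daec31d65d8ca37d761013321b51bebb047d000baec35d800b2000512706ce0d9a6169172334393c00008a09af3332f2686070e4ed100a2004786a039409a8d751b2bafa4e8725316d2856baf5310002aebd5d78a94bafd46baebb0fd6428a35d75d0d4197d5186bae42ec0052eba5d705c40014e7593392674bc51bf032b08b9000001a00047808220043480e0000f831cea036480499814672eb40372b4cbacc000890d3ac231ac3edb142eb218e641aa33575883d0ded4dbabac1124792196928c85fa4bf506ec1bde000a4e400081680036902d3652009d0876c,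
  nat_lit 0x646edb34ddf9c3a201c4025772ca42ee535764ce97724a39513377e4cd97718c204925ee44ce177112233c262dabb8403c8ec13365dc02800000f200d304764ed488b9114296669b47aa576fca3138727086a9576f14b308d35466a9176e95e9e313d4ebb700140010168f0b25ce0000a040009f1f40a6c82896c0001f1e40a66f752009db13bb30e670641af83635db128a0018005aed700206b6060c0be817e00008e40010c0382c1057660f936a1e3c94400000101584003000033fe544493b836a06dcc26caed552a0ba553279f4d41b2e36e38cba0d4faed39432aac5568bf01b32353e6a797694a1323a41b27889768c848bd12a06bb412843c733ae5d9e55c00140042ece0021adc73fd76682783603c3cbb302dc000980d2ff8c8c59178d6c39f728224484899a81350a073c0e980070016d28584faecb940304e86610c826d06aa249987202eca93f,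
  nat_lit 0x898233298a0f5223493272bc0252d786a5075dfe3e82218a3e2efe336000c146c1d21c2000100100040fa8ba19740257613f1ec400083e6016c06c001404800960f2aca25aea2efa94a07cc4f209f913f45df2f1e040d3742ef84360a309b9577b8c999324dc4bbd8fad93329145dec0d461b8f54aef5336000000c00083b187660575faa80b0019aefa5224bbce525931290f5de49eec73d05f2ef12815fcc1eec0010d625e1353000000ac0018d99353506a000848108fb61d00023660d4e20d80001b264dc4b5c6ca1521407c20c57758ff8008001447984162eea5035dd201000013642faa1cc4d8c7f79a11000101c646a7ec800019800002ed4bfe043e08875f1,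
  nat_lit 0x100010a4714a697800000b4b1736986d36a4ed78d1d496363064a4dd78ca2f00095e34bc603a994f29395e2e3507e2cf67af162e20000a4a5498b18d629d29c5280a4d807601027e20f66af1594d6538a4d578a217182b5260bc4cffd3d9a12a5e24022bc6486f90e3000057a000d895aa365424a84dbb7335d94c0004413d88b805800120a24c902dc000104f005e7f438f471e1b15686e7df4f622f0d5050f221e3d495af0c5306526a4ad78583d00000080000002844e11db2670016226072623a64926d541784c59005269d2bc20ab85600abc5e0e7d6000c01845084b7000232004b411c00001fc00020f5c917a9645f30c0c00001ee80b9397037806e40000a8000002d,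
  nat_lit 0x164ceab715212a4155245ff655800017000f7c16e185c17faf9a2cee001d79baf368ed1f823e0c7c4a04651d0846979acaa91893fd0a47579a1ed0ffb30a0bccc000a1f000d0016bcc807d79ba9535e620f4c815b5b2f302eb0004591404380882bfd2a80004b22966b0200000c8d54548fb96426532ca6c05e80bf6c22bcb654cf74294d5e58a44c4c1b4daf2b0a5000c00097950f41ee8528ebca46417e8a11f6d10843000000012cfb2a40019794a9485d600020020004af795ee5ede08599198b40951000057ccc3b20c86650cc63ad09c431050bb2bc90d14e75a23161aa1769791a30091c12303a642ebaf22625000418582ed2f210740000c56c898912f61e10224b919339357256646f48e1a9405e412a0ca994a12f1f1f400685671007825802ac0548ff60cab172e00000044a780051f9e2e50041855275b403e296852d8000622,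
  nat_lit 0x48c85a88b4a000227800000b4000006b1696100bd81b6d2f504f7618484ad7a78573287436000011c400187d92f220f80000004000358b015e26ad639b1329675e967b41f5db69af4a0726390a5b57a4a24966904b40001278000017104b872e05c5342874a0e9200025600010ad2159c90185640008ad104c409696880000168030000a001891d2f43609000800c40158c2e1c10000010cb51bbfa96952cabd0593c59800075e82bd00e0cb20963f6d64bcfdc217a229625e7c350d1c9b582f3d13a0000635caf395e60f74bb20000018000303631a6826093c12711f82c18002d79e2f3a9571656a57179c8418001001,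
  nat_lit 0xbdc36fc5ede06200000197d2213100064460000ff6a7225f8cf48d2802c2000008d000200200c48070000001498d0cfc000897e42a6a4d90b330bc5ed32b417f82ffaf68281000200c0018afd327664ea5820014b26097c192000005a02ec034806a5312bd907240bea9605ec605000557b2af623675ee4dbb57b0835279d3e4ebd8080800302af2b0407c0e18002afbb31d6512001015498f806f00060abc57513e00010084814c14c3e2a1de69c8a4314bcaf5b95965d6ac994c436e55eb4ad00a95b722f590fc2cecdb817ac054278e3e3abd5cb885508668177864e800084b1b50000000140399c88001246848d8da73a6800002d,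
  nat_lit 0x325e2a4abe30844058325f5f1614864f4a962f8a07d433e54a57c49b7800002d000c23f9a59003755311fccabc00000c0000022c5964b768bd011864f6000073800024b6352658811cd21416392c702c9987b21645f06a704938b6ca7de4a3a2d045a6af8291911fc3b658f1a9a65f0248054314d42f800b52a4885817bf84100003b8c80504d4ee2212d43eea1154d22f7e5664868d608720b27f6e16bdf65710082acf559aa6817be28a00d85f30a6897bda74b4236dfca6617bd334168a5340bde4e1d487a1585ef03cc385d08a04cf09903e4c7c8800195b0e442a40867800035e00027be4f7d10cd12f0000900c93501b2405562ca6657ba0ac926a2a6ea6597b9b610e1934a4bdc84b8390a98e5ee235cbe354cb2f7007a,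
  nat_lit 0x33ee3924000a1a80013686ce7009400019f11c845ac6cfc410881d3cb279614d02fa695f6a38847db9bafa5297671ea7297d223f00005fba92f06f000096df2dc05b6e578000164b2526762001c0018a3803765e2000402108c32be06b20d59b8e2f9f63b6558df2d59ea9c35f3c4eec3a93f4b6a05f3a5ee85c54dda9ba5f3850e63cd3b7372c5f3617ece01bf9a9bf5f34b04ce114df2f9925d000405a000c48d891c49981fca574001126824de7f81acc000926724dac4544b400001695280010002d4da2f9463a5f36dc897c9a7ba08d42fcbe482b98580ecb0000aa0000c006962f06f0004002c0930460001001c243824c0000006016414c0038a98af8d212,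
  nat_lit 0x17ea375a5f8a0e42edd460afc40310012005d09d353b13e627bd7e24b204b00966599526cafc3963000401000000b40013748539eae619af8c8800153c8a7954f716d81f2000086bd49115db7515f9201ad7df10481f60480bef40998998b545f7828400408e62fbb059243a004000188c301b000405a206400100082d625ad0d1fb30e9621e783cd840d80012c210340000004892800100608e01cecb1e8001000b2c2171053800004130008223806eafcf122ad558b204b00003424c8494b378af80020558c02d3c41f8800139a45a98694000001100202ae0aa4152a4755f5c1ca000daddafad16e1698d6f17d60342fab02d000a2d505a98ab8000001,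
  nat_lit 0x83da6f1eca284000018fc00003f56698e0a19acc0883f9000600006f00000040008229a357c6a88d56364436c57eecb525e34876ca3d7ee265013b027400000d4000004000700100c58d479b8d696a46197ed4b4a7e86c6a46117ec919348f2304bf600840e891865fae13077a48c22fd608f642ac85d7ea9758000000620b4f8c004a0946e726b5496f2fe65fa92d004c0096820b013abf4e59c188009f5fa432620a04f880004da00000101b6c36e012f000322a000002000000e201be03825980d137595f9a9c4bf65bb12fcc06a41007e797e58f980001ce60170e2c1ab835b1fc85729a8c1f9c5f952cad749bfda9f25f923600010005afc8000495c017c3c0a9ed5f8ed845bc0b78afc612e,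
  nat_lit 0x170199201a05c2162c30aaffb13d15e6184030a2ffa13c00061a4d7fc82c2ff802d000201008b095227e43f32d428000cb686130bfe5fe00000be80002dac5b70730c06a5e15fe804c00050692ff3025678c978d7f90a19a270000086c1a0b11d5fe50520000002338543d2b041100b3c196c000c95d181c232000000800060410970112800002d00001af980400e016f4290215002faff85430bfb23a0081aa185fd62846c08d7fafea1f300023ae097309a80001d66655812d8e4b7e2702aae09bc0afe896b64b6ad1947228e65fcec8ccde95dd377e5420bf994348f61ad45422bf94e2003d80810f46bf9161d7f8aa0f5fc685ca0a11022fe22a8002000200020000422,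
  nat_lit 0x303254aca93152530192e301320278adfb0181eb6830a92180b8d433a26f6ac0585200063017602a5c4000c0200001e53260a26a79410ee229b4fe8dc2d809bd03288522a9ff5b85b0124eb6464a96552fb7af6022b9cc159bde37ae6020cd0c05551fb00f42e6736deb18071ffa7e24416c034044ae8042200082ee00000b5251a63e30d4000466c00001680026350ac24c341fa800119221060e58b67a4be012a024c0d82a29600f2e031a863429b25362c01a5bc8b8351d3f54dbf18029348113022088058022b79b1c5464c00c8499c8379f600442277a93f6300100323bea8658000fe000502d5128dc7110d86ad0d6ac138000cb706b8047600002d4000b06054baaa6d52a304c8a7,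
  nat_lit 0x422c1d9bf21f871134225d81aafc81152ce6434844b88966068fea230dac588f3629ec0cc758004006a60640b2001c00485b90bd13ee00090480f381e6000204e84958b800000310002271444608892e00c5c04f9cba0bb7008c00040001ce639c92e6c0b400233ca4198832c9a1302c972009296e9bee2c48686a4d09815cb8b0376092c0a90d47c999af6f1893798151098009116422ad814abf199f6c80c0a000c00201680000010000101c20281e335f57c091443d50000219000206500c787a823e0000035c06d0c133ae6f84c0881518142a5360423e80059811b020059000486fdad611e5646094400000ee80d807d60b03f680012d48d7b1aea0004540000b29550aaa14d42fb7296e5c5c6a3ac000016b2935704a015b8a301a89b,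
  nat_lit 0x9b4220e570c620891b2822fb6ac8c4e1b05197b13b4c14400709c160a073490e11d089c1609ef7c4419c1809c0609c2e6841137e89bd609a2e222fdbc089bd60992f4c12c020003016a91f6bec8b39165000131b000005a0004b8d21cd458a6560000df41f6180d161e2c48b40b3452d1c5a284e7b0469790018ccc0afc9a122d122739822cbc26c24d869a2c4e830444744af0943c4e4b0436211e8627418210fa000129f05a88b609c4c63c824c9eb000001694f91d9c3b1c85500006ba00040020cbd1c1e15a82b45efc000800913b47fe0b400bc897700000010463406800a001865dc788b03c79409227f4ccca303b1be06460cac1e3303a092240c5390a72b0390ce0000935846203f24d732e6000079800089d3703093b40058006976000027390fd96c9975,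
  nat_lit 0x3c88028005460da37a000c0000b6f132897026858d00d431a8acca425604b0000330a18d988104af00013080001835b49d693c214c4294c1800411e631f064d1730335cc1a66080d2b40c681cc1a26040008b0b17fa02200000185819733000250a23b8475000008400000010737a2e96c133000019b0407be3606c18e5fc00001680011cdc30f061a48221f04a945d38baa1757700ec18596c7330e61680cb129128b06097e6c7a9b4d4c6b05f0bd697aaa5582f23f22dc449ec1742d0000045803d807ac80c22b106932e800081941ff1ce900026527794e7480000240008cefd5c821a6435887e8e734be80033114dadc465316e97c00046220c55ae28001310c114d11000018824500028620d122b0542d61ebe89e18298433052006,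
  nat_lit 0xc6b2532808d844cc38bb11768c2200393890f8d610e3e6812102380000820006724905db77267b0004723cf7a958800002d000c00a8e5ba21b61060b46340c6b308200e3d9895b58409040002479890344f5b33000148648864694000354f28625629be13afb79760fc8fec20955bb07d47e08fc11e4bdb80001c6000059ecbdc012967d62380004ca4cc304fa000001e0010b86abb748be917920304ff98600065c3c01422280022e1a6804be40009708093a3e000019c2a27e0121f5c3eb183a0fdb0eb44e6c1cc8d18522a8e60e4936c1c401800097d14052803c81800017cf30fcb3a44618eb8009000c001d837b199f493e5468840d6b06e615,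
  nat_lit 0x1951979d2f42c2990dd033a6d8614a1163f89570b0a4193349c69318519f5a00d4518c288180e469c8c6b0697544d909ab0001320000063e8c7f4be23e6e63c85d15e547328d74c1e9841709ac282638e1f373c6f6ec27c604e1ca6cf4da0c27847026084c3348cc2764a47c9a8de61380880000000811e024602c002188a1124081000200c000443cb1a6366000026504c9a098d1b1a42001c00829b645829839306260a656ec25e6355529bb633b067595ebb2b6612d318ca711d1a39f4e7c42cd84aae9169e0c7cc55cc5c10b7612931696e530126066566c24cef41ce039b2166c24a38c47108e42138c24662824f04a161203760004e1720d9716ab1c8eb133471d6f31200012eca5da6ffae1ec63b0c799881f0c277c4ec1fee000315c00000b400080073df87fb44b000001680093daa7b4d011b08a1d6,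
  nat_lit 0x6ac03e047bf09d700041cc00040b4001808a06e00dcd8a445d000201103ef04e6be58001010ad9c0010020b0c52ea22e045bea02a617d330022495d917e2280451d85eccbb7fd4eced76985e05ea08e405cc2ec2d45ef27d16f2e9df9ae68001996000832a465730e502d800900114ca800307d40fb87df90b73ffeeb80008b6cb7da09b21361931a69800002d0016283048e0919616c152cef503fb5ea616aacedbcdbfc30b40e3181c24c185987217106e22c2c822900b35e6616227444c4487b0b000a0000675ce529a593f132026408e5e27574eb0d72d857cca1a8939f680698571748029403ec2b421d9dd201d61585c20014004b0ab0020004d9dd1da35c62380002235419908c0c2512084e8001a003d55cec2a664d1d3322c17acd93dbada8eb61513244f549e9b3b758c0a399473b0a7991,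
  nat_lit 0x33cc43b40008738df08001000a0f0ca10daa800033600025fb9a7e395c69b62098622cce000002d2fda745daa4388e61b416c618d44c30d9000074ec4f958d30d847e02425e9c0008720001045a2e001378db8000045c3f0092811709e113b63eb0beb2b1561ab3360bcd8980aa71222003186b30d499a401659f000530d561a726e45dd4aeb0d22124324ac498689d0b409561ec3407f5187ab11619e320863134ab0ce1fc6266ac3986721b17d2561cc33402d885269261987d600bc7e496760002ce8002c4ee33c10000bc400004828a9d125ac8265f047fa83a3686ac15864ab91c674e34a5458644718cb619629a358638ae00025104c3180c98652b03618a1b6000c00109d726c0000481198912022ca2d31d6762881999,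
  nat_lit 0x20c307361b3c10a6c809b1f114a99f000005ac55d497a8c4518cc3e9e7819a02cf05a4c3e4f65a8b38ae61f01c64921360b0f702038109d0d87b07e000000020fc01f5041099e0000c939c7224e04898477d88b3d683ee0004c3d159ab0f859e079a0fa0000801985407d40000dbc001804722fc0f94efc00100452312d86000401f0048464000000fcb811fd003b0036c3c159730ed66f07a4d88539c30ec0c52e02e29dc5030eb0492c40a2d187500d1f915630c3a4240002816930419aa33380004a380012028333066691d00000081dea3bc5224381d0ec81d8835e30e599d360e148d8c530e41590016002835cb0e31d420fa1aed8710138be90d78c3840f80011b6844105ac000072209b5027,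
  nat_lit 0x58c4755ae311809408040fe9c68311714c33fe959536bb11612c3524e0bd5ad31151192cb0a52588a002000009b0810c1640000168002622625d826c2a9800100141a8a68800001680080d48c8dc49d310f7e32f7624f58872711235127ac4347d0f3d0935621840478a4f16990400007a600007c0990130d1f0e42d5274096962153009908331866412dec4241302f09cab12dac42025034d8a5812d6c41c4ec0010aae155e37606eb38080000f701eec04832082ea000267662381750000010000005a0ba441ab80541da9650dc1b1029a1624ae2e1880aa831454e9cc4001a8565340061fe0b2ac491a4291e67645360efe850d0a224a248a580029a0488c82e4944114a000275a241000000052bc,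
  nat_lit 0xc5615beb135367633ce3c189a02a313956f4c4cc7d0001162635604bbc8b24d3800116c22da1c922b44346000058a419189a96242eec5ddcbbca3d2001ac4c98984d3318e574aa5a94b3b12f89b06120c2da1ab12e3d305f8c65dc74312d45e629eadcd8962a5313156e2c4ac6a088238e5625417600000b4fb6a77751f0a58189492bb15156f6adb98942ef95606f52e385893930360656d6c4990b98c738df624a7fe9d5cdd531242d200164700f0d837800000100000c387f6085030a0006c4853bc03589a52f225e50001142b5993adeb4b1a9b80920001348000c6848d0815082a1825904ad9a300044515ac71a0a30c0002342d96318680000aa8155904c8a3142d28629dc588d22a88a0303e0b78172b1195b5,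
  nat_lit 0x4831c8d391062a217e569d2f42b9762a0758c72d5cb314f3ff004e0188ddd077b00024801374907877d00004f4000404d009d14d4ca543becd600002c92007c0d894e12a0000cc5318a5a6a1bd55724c52800991da98b62927d6000ccf6261e10a00029ad4e472ba80002e165c30649358b7b946b6a32d8a339219e723cace24de631459ab34de56ccadb28c962893545ca8b94ab886286298ddf52c2a6f9628431462015ce38fe62821e4c5155c3b14006600000f24aaf955c1d461f858b41e2b432347c68d8000a510c144ee600000080001bc24f165ace3dd8d380080012c4f26a413f804162763c4c4e8020000361d6460200d31803000594666a0fc6bd80012a44120af7c66b32db000135000005118d0e1af89c6288537d31361ce,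
  nat_lit 0x416081e102cbacb16e9af07bce4b18b6843b170576cc5b0b84dfc2bb662d60166fed4da316a3eb00189ff4c4ac0680020d801d88a280f580010d84e539adfbd200000d74cd4c3a835b05bf0002326c77800280080020008c5909f3041000300137227ee9b26800158200046a0cd43399f59b4a9ce6b80009e6644126714cdf1fc29ad00001c418ec81e1137671aa5ed4bb315e4a248c886ad36da6da62bae18001c01823d162b88ca75a14ba315b0872896e1fd8ad112338221f8c56464c000027e634621686fda54986b064a000054000001683292e42d18d5d0b1562400014c55d8aa84108c663bc0000cd8001330108641ee000800007f9329002800641ad31521ea,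
  nat_lit 0xc05180c6695a84350668ccc62a6cc4e609d1631241055f0b0231881f4522c58098c382c8006152a021c898001800c07ee110cc6000000400001ca8395513f381e25cd364d681ace8ba61750a3f1480b1839b100120b8416d03c76504e25d8c13f39dc7473e80c98c0a32b2cc5288c600b850bc28fa62fe8e256e14a0317e20100007f54c2f001b66d6baa0000cec0000169c9d4faee549c9f317b3c963f4af198bd0d427d3380cc5e4b88000b341732c8fa155921854baa9321382a1ca6bcb36000019a03995594cd2f15007098266000005600041120227045aa5c00000b41a4834a2e86e4d98ba1b4b176577cc5cc20c001b17362e4104114c284025c00022be45500c2818200004700004573a66304b025e00005749150135,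
  nat_lit 0xc284051100b00040aad8f110080010a12464c2dc000050905727f4141c54b0a976e624ee49db31a39b6696c5de8bbdabf26344c74d5b55f7b1a147e63c8e59d8d027baaa947a2c67ca04001826870147a0dacc001016800063bc0b711d81120ae415d607340e713ae6339148c7855ffabfd57d4c66d4518f7ac0f5824af9d8cd1da0d1a3202e57d8cca5c021872bcc660175ab1abe4632e4ba91a11e3b1961e6000805a0004018000b4c7699001600009d7b4153fa308e022c04210cd27504e8d8c94da898967b6af7d8c8a98355c57b8c6415958e5b954631e0e4001c6deb2ac464000030ad989ab744798b1319438825483282905f3cda0e86153a0000208000a5ce6d62cd8c54c12b000002d,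
  nat_lit 0x219586a322200001bcc30787f10898a0f141ca5458e14db97b82f6ce6298e089b008b2f72b0318e009026904c2e99a18df9311ce15bb4b0318df08cb4105814c6f4198000016800405d20bbc608000830a2132d465d3400001682070394c7b1605b1b91dd0114b0258dc2713584580ec6dc50d8fab97f636c0d44f189e531b51f3000801074341ac000133b00020d78e6e9ce0250c36800000b590b2c337306b0098d886bb2005846e611cbc31b05681a4ed5f55ff31af7080038c6c58d707531b357fac6b43f4c8b3974635830089ed5fd31ab0a827724ef98d5005000500600b0393c00002800040a1045887940ee384b,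
  nat_lit 0xa71ce3e31e0202000800e401a89492cb408803e80008fb90bd01f40000460000016b1f75088a10d61731dc6454560b0b18ed87531e5734cc7683f004fac2863b2176b08ce39b1d82e20000d8adb172098f011dfe3cf8783000082800040f0c2018f0c1f600020f0820388d519b000005a0f0c1d9b2415848c74dae81a035a35844c7491fd8ee399c63a29ee0e90226b1d00ae1d98000000380a800301724e609c4209000202d1058d759703ae355be4b7a160e31cd9ba32f231781eb03bd077c71958e64dcb1df7332e6ad60db1cb60900a8c74dcca31ca3b3639cb06d60c31c95871d269e8d60ab1c832064a2e6458e38f3800017226cc504d9998dd20000522000908ba008400c8011c338dcd9b8,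
  nat_lit 0x86090c1a1d943f8ea6d2372e616d9a53f4a7db1fd9bf726e3938728ac2429f0c7f26f8993132929f653e58fd9d68c611298253d8fd2018210041e25258fc8998cd121ba2fa98fc02480000016620732c00020a00026c68b8ad2223a894418e7992a4ae066cd673326f4000b6335c54b89db23a51000018e4ce040d822f82d505ae15c8bf931f39bc07ce0f98226a85b63e53760bd592b39bf63e24f4c7d162131f00830100020d8f785a095107ac0001638000016b26e73a2a15942ab1ed4eb001ac7b961eb1ec4e964e60d501ab31eb1636b7eb1adcdbb1ea59863dab0e98f4a17086d65d2cba000126f03e801bc10d4383000014900040314574b33c52e43e48630870643d0002031c080034008daac000000b406203b464a4b0dd8f22e035b5586ac78cd9c1a62c3263c441002e1cd731e121d,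
  nat_lit 0x323073d6c8642bd90eac6c6430106010402332170b410a410140001d8800002d6518a20d4422c6a642ac120378070ac67642885810b8218048464263d4d1cdcfaac666424b0ec859632321142e644ee7859081ff800002d00004f754a8ab3080e261a4c390b6b90a000a00319074e11a4c039cc83422c00093ee018202f4e6000000413ed4d049a31c3e00014f4349e6e80dce8000287000482652ecb8184f60002793cf2690400006e1c9d50508de9851e0a481d05afcae346be4c81a7051379c076bf2b8cdaf8b2054113bd677b4cfc97026408ae4086810b8cdd64067f6c8cc004800a6404038000daa9833a3f4000464c0c1d900800137be0dbce2c000045d08c8826002c0079d4b70d6ea397332e5a4894b8bdb2631fe9c0,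
  nat_lit 0x12520a30000042800132ee12a506c000358f51523ee65c800380083360c8ccddca978c2b6b26c8c8b08097b5926462138c8c0020001092e0798cf784f4000004000a4674b050cea322e4b16c048868ceab22d5df6b4ad6899160f3b59633a2c8ac9742e805d204a80954000a53800251461205234000999833388c80020be8098112fec8a146524821b61924c89d51064a8c92644c3d2d851b07b22505c05480a799120c80eda01c20020054000b4d269ac8265658000b222644600342084e28f421e902d3c5a880009c4000630399dc15da412000430345fe8bf802e000205acdf059c8137647eb1cd90ec1e17fe082c1061639321c279136ce30990d80019c305b0c9d1637b21a47f,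
  nat_lit 0x186878d16064000000c00019fe0d471923cf003c00001d8800002d01e800e992a2ca6649ad740ddc751aca364984f42621557b24b0af000c35840211798889112600007cc001006b007c00ec449ac4000102d1214cd696762a8a7316e8cd64eb2479ca64acb28d6502c9e648ca28d8dd6682c9b648a7e456f5c442aa764884c0e1c8d5b898f66d2265000041e0000349a46fc422b3140d71392d7380e932757430c90934878604330946c9057059a82aa2648094201cd64ab23f1931208a8ad91f232181d2a8a00053680008850109435d045ece400000082a88b305647b23b0f24214b23d91d03300030000cb18e98254a20b4b8a990d5dc8469000138e000012a1481291a04a592c2a9008cf38c095c1470001069,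
  nat_lit 0x81a2034b188e33600041f780ae0156e3400000b407100e36590b311935aff8eca7276c9a88f59693a4464d29ee0004020613a5056f701cf839f924f000339cdd64dc9125200001e000055c9baf76c246c0d5d6124f9cd0000ae401bd830067a0cf0d99db34934f69a6c992730d912e0b5970c98d04817932b85974c9894c070937fd64c23b2cb25d1d32600726542b2d992fa24800102d000402104960d970de93960004042916e0fb226600000b404403d309acb2d992dbf19788720ac9680999622cb264b2aa012f025f32581f332ca8a38eb61cb0000075a000407b1bb71f98d6600000b59382cbc745eb2bd92a86bb2bf5958c95038cae538fd64a61c801c425bb252291,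
  nat_lit 0x891c017202f42044ea80006e0adc186efb93091a673aea799de87e7650f074001c4d9b2861e6000a23344fb1ca8004662612f0a5000095aa36407bf4fff84219d4000e002cab39563650620456a56b6ad6c6ddcca0a74c65f155c2ac0ca045d0727955f6500208c9fc020280845e000093c00002c4031f044037606f02ee333559a8c9f5255a96ae285c54e96593e2390da55768aedd93da5c36b05686ad0193d20636ba5dbae95993c99036bd74aac9e0ffc00192c60d6ecd259a386a467ec308e74800117f925984b3c9c0ce880030002d6bc5438a8361500004b0c9611d0029e312486e9337a66e50e8c9d27413ff0c40188ec9ccdf40011c7664e4168000076936696cd0706001c004039e38ecc9c673d938016998233022814001119000002d,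
  nat_lit 0x4ff09f87482ca94bdc9670008654aca9177cd383a3f654685c95dd2a232a22a8000a4b2ce080fc800202d00005b50b6b0ef746b31886304d9eb29f53540ccde1967c329e5300d7a1ae194e89712cb746eca701e8c4b3a7c65365d6002c0020baf499ea49c306060865370e005d00b785a36534558e0a9a48b2991ce05e83e4d94c0f983c4660cea3920d241700072b8d0096d42e9674060009435b64bb4d740400059a073a1df90000550001144abaa476a48549bdc251d9da000647888e6822404300850f7ecec800251287269b0c00099ad336232600014499df5575729c98a4216800c651f3b02e7c007328e03c0000cc8028883004df470cda4ce509dd70144000675cacc32a0000002a000db842ee06d5050e0049b29e014d3ac00080a3b3290a1c1435cedaaeb372,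
  nat_lit 0x30f384c08a1214210c9e74a00083d094d800ac22c00043cf8f1a10a042a488c9dd8f68695ecafa4903ca1b2e359299a595e9d6800c17963d6195e2018b91715ce2c595db3a0b644dfecae80109241b626572120d8d9b1a15fe2bf08ec078d00009e1000400c000076195160841d20d1a06cf1f960002df03c54b76800001800048ee0caa99523f268d800051de1f7839200008edda1a86223b532a4173c2e5335009567288f4a80046564cac678019d800765605c80ed8002b2af0b7000000c00009a613490573d20e6340de0000655b3be00000380075020007a02d4d8083b600008fe00041bd8f0d1d6c55c424883b49de000004b00934ee83791e16578d0bb22ae5a06caa59544ee000270241d383a88a8800100867166b904fd8a00245648b1953ceda28a5db6b041608b2a658d,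
  nat_lit 0x7f6d13b997865ba3be8baccbc32dc09c65b60100010c7f068738000041ce89bd89a828840ca664ccca0f6b048c0910001cf2b6d25e3adbace55b6e700052dacee039e8f26697c000405db0e27e5394c72940002da000123f647f8900cf200000083ea6000800439ab379ed15c629b2d39e326ea09ec13e22e665a4ee0e3e9c26b2d10e3000228a0e4b001901120247d45bc02f5c709065519684f10a2b145e28ccac632cf6f8154c2a90ac3958b659c6b4d0f16f0ae2b6c38cb344312529f51329ecb306353353a783294cb2e4a4b9b81da00081c800019c20a9b082000205a000ca979e180416ccc00099c706590bac90000041a001d45c40000d5d4df088c338b0006002d96214b8a2424b4cb0c8f4ead125a6584106b3d492d32c1082,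
  nat_lit 0x11ac33b30bac06fd97d4b398fd3b70ccb597c9dd800a037ccbe021c98781bb65ee004340844500002d200044a6094a9ed53fd2cff167c000b7941c6e38d846138080002efa1ee44d4f9f0009001ca5a54e5ac6257e8cbce4e99f13b0c7670e9cd9793cf16176ef0afd1978b84233957e4cbc03f5c082bf265de27413a427332ee0de04a4dd140012710002206840b4143407000170f2d13c5dc000234d46a01ee6d84db139dc45168a24cc332ea9e81b02d999d59998265d274409b4347198665d08a40ab4cc232e73a10500660597303f00030014cb94210ed591db39b60009705bcc2955000200495752918000435000054e4a9e17c000900209b05194a32805cc0b95970cf382580516e171b1a32e06eb263632fc65f32df9e652f8330065eb2de276,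
  nat_lit 0xb59960d3a9b663600056204d087e0004e00009d800214e82c2c22a0453b409004d3de000ca749a2a1e900044cbc00f8f80001140c282c15c00005d30ac26662138428036d66e8b47d2cd2ed753f6ed1c79bb3119ee0b1a1474110022106ae10a430db3109ed0c04d435326a7b74d783cd5987cf634af7556b1694b50f33661d2da0b38cbe3b431e66cc35fb4006916d1e68cc301d09fc8f2e66160084fac797330a0c300001d603adba9708f6cb24539a9b28c56b5e0008f019e4a5882a0c00051482db06c70000148001000537936f2a4bd46e38dc39eb000600395f1007f662802427a8001000d580aebad69e4e58001000e26982d888b800002d0014af795f03aff58cee7bd0c1b3019e94690860d980271115e7036cbfc8740021c1d384096ecf919df993b286e88fd11e384622384468bf78001558000001000003fe07c40f8b2cc2bb861502356678b5c00e1b2fb676,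
  nat_lit 0x11f823483df07bcccd56205c48b8e6cb2ccd077c0d981b53446ccce7d07809a226664196ccc40206ff0dfd014400045cc00000400002eda704004f075b62a5e06bbad3222214745600067ccf93a9e700003f800049ef13e54e94f760000c30985e4136fa0e1f1148a52d0010ccad9954f92bc0752e95cd994a9a96133f50cca0234e779cec664e25c8de1d8a33261ae73f0b60d99283d17fd5a72cc90bac0019fff692a03400046450c894a1625a0000e29a401720ca5c3220646869a67dc95d92b533215732d56d8117762d346640804099c1322d777616cc7e7c463722fd4b9acc795f816bad7a663a424dc59d84b31c2116e26737d98d85237cc3f32cc68a159faad75663215ad2f1a5d000a001016580a900df9f0,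
  nat_lit 0x201c468002064136e2c100008d08c5a3dd000006080009acb358e88a0000f510c550a41cac39559a68fd8fc94bbecd312799a5803000466b8b321758009b34a000654c00000b4000007571968d78d411b600711f5e0fd01f93349668f3f2cd5d9ac0011668d3f02fcc00a334547e000400259a20570ced5610782960400029a81dd04c7960580019843e6ca71400000c00040a6014bd419a330003207240d10943d280027610b359473a19800159b2b1b03680002cfd38942aee094ce2333c02300146e4999d86f00000086aa81958329800011900040289196a5855988762a7dc00080a428e33ec000004f87f72d6668ccd1c00380126a500f841efb3369f5,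
  nat_lit 0xc3369cc1c5038c045a00013fe00041bb83730f8e746da23871708b33fc0000243848933f1e3a3c6ca3700014e9075451b40001c3800108d60fdc1e283c3498000005aa3fdd081a610000cd9cf240011ff3256a4ac05d400007c60fa804037d816882cb3d5c26ec002b3659fd3fe887f8800000166c8a66697400233630576ac2320da720001038000005a0004d2f9a8e3dea321a7f00001a5c1378708315c62cacd766be9780000d3b88c44761fd03fa56220fdf1fb897c99af4fdb4677708eb81620b35d50d4b46b0ad619335c4b81fb8ed09669335b1ec286c8c8166ab35a0bf1194b10961eb359260352cb0b99ac02e80d95876cd5cffc72c0e5f66ac022cdc5be222344464001a7e8bce3891446200144acd4119da00081746bacb5000031ac,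
  nat_lit 0xb45ba55000e00219c50d58b4b169c4ddd9c4a53371a6e38ce2038c00080080011a0a3fc513c2a71a030000d465a8d1c58d042d96bd55b300005001ece16808e291b23168cce10fc0e2a8b4867060ba4dbc5a333823ff05b800059c13b786900213e80422e9b032d4c0000fc0004060e2d0610a001c4199860226000000102090fe00016986d300208000340a09c65dc00000b4000982e23fe2afcc3c00001688331068d1e1db733784fa7018b76d9bb841b4d04c54cdd8a04000044c72ce02ed70c109821100006de0004342343f08f8a0c000033b1c630606878ebbcd451a8b05900b059b950022f845f4ed999b88ea0eaa4412cdc01edc02add266de0f4cdcd6e8336e449,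
  nat_lit 0xa7e81e103c1677a03719d3443800b066ece942080013b2f00e02140010000203802425c08939c931fc33e50b2540014393b2d391259f9c79acab00034103f6c7f180002810004358895c2d311eb000235780241c200001ac04ace81c0040009712e30c59ce98d8069529e30bd9ce2f9aa7d54f6d44d9cdc56b39a02d02d405b0000048000026507811121025f9a7265493edcb72a985b7cce628192cda6df5bf4ce5c580c6f98db771ece582f5a9a2dfa672a8fc84c56fc3394083000295216a8a7406a9a42600012a619eb3973a9e7538d96339219958a6dc919c88b619ac3356ce402807f78ff4671e54c75e4d94b38e13e36246c359c682a80036bfc6f080ba017814f940a00089c99f7b2b0c5610c8cd020000008,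
  nat_lit 0x17c0bfc8b7e10f2d31971533c1a0c6b4cb4e969bae296780aa4e041e4dae2e777ccefd438f839f0b59aecef89d0c672b7e677a0408985dddb3bc18001b8b3519dd85d82be05b8cee8b887478ae2000016e000c0228ae80730004011c584083800002d1e6a21eda5dae1e676cd74cefddd9b3b54f7274899d99da05a00037412e47c42800086541d8c10001fe83fe3ac5416000024b04442bb0ca43b11b4da64f583299c99d8a933b585b52b8559d80d821bc7188b8599d7a9833b87756ceb81c9b9aae13675a8920009367a2a5553c4c6102aa05378e00029b3880e84eb09c612c0008044808567562c69a8409433aa1e6000a00359d51090f8659cecea400c00129fe286101a00000420f820d8341401fc08fb92f726030e819cb3a7a09,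
  nat_lit 0xdf1785eb9159ef20937761c1c5c619eea3d003267c2b9119ee29800e901b8cf6c4b929f3bdb67b406200240b5a508a13141e1ec03d90004a1000026c1870491b1c4e38900004003017800002d00027b69e07b9e63fe2f700000f6c3bfd14402c66ef0ddfabf116d218759e9c9706c80d946760f2c861b67a4a8625b076602f905f0cf449784ac8b6b6a5c18699e827c06461bf4d2159e7a7886380c36cf3820c0020008679a16827f052d00031f70dd02950001008000002d0004296853204503cf000205a6678b8436b04c94b8a971733c8a0f11482211a66ae31678e3ba7b41de333c621d05d20ba19e282c80046b564f3c8e791cb31061192838000948a1e7a26a0000804100c044290a0ea01d22a7654f8b565714b3c2a0d,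
  nat_lit 0x61c4c38233a3eb8cfec90403500633eaccfea7980022cee3eaacfe45cc2363a813eaacfe01859fb8040001771c1c0437e8b9d7280000010b3a402e80600000498000cb9b36dd2e48b99da0446200022e5e3488f70000970d2e113ec312c626000a00209520e68b3f1a132e64bf3db700b642b3673a99f85091f5e70d6ea019f793d1ccf5232cfb91f8f9f1ccd67da104001802058913f20012000cb6e165000100e8731cd0a1a165c627b5e84400033f8177c0c001b8c2eb70406260c505b633e94004a6eb370d661ac977d4cfa20e1c462e5a77d4b9419f3b04a30a54a8a96167fb3e61ed08cc1195c4bb3e51ec4146ed1567eb3e4668461ab8e19f182e93e559f6cf8828529aa6a667c25a401ec27a8001285200a1e4800005680001be27b04c8a0790346,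
  nat_lit 0x1ab8356f16b430488f013ce682eeb22dc85d897585d02d058901ab4ae7f682a106dc1d34fb4140ae00080100008b7436f357e0afc9850bcee418743000040b4d03a3434032913de0bb411a1773e0b9ad7352e7a6820c12d7e56922d225a52d03d435ab12e77681c85ce5b5693b40d3ff6dfe9a59a061540da81b560004ef800000300016ed2d6c8061a66853c694299fd7c02692681342c68696e3bc0c6810824d56d737b40707a4868f02da0317580043ee06e380140018d4f1390230000002036098724de229dda019492c7e17f229d5a012b38069016cd0043a8c288a6d68001c8db78539b3ff1a8000e29a59ff06f0004008079a21e0439929f000142a000557627b33f3c7e7cc18929ea14,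
  nat_lit 0x686600c00089518c3d3960000d365e2eb7362f9cba3189c2dbb7515ec4ba65a18a51129a6f5ef0e9e1cb4303bc2ea691d9364342f465718aba55a172508f105a80d0b422c34f2ded68587d65ab4b57a48131fe00028740010f972c665dc00000b4418883212aa000470c00001680016eca8e05e5121091528d5104a9d0e0000326a0616148c99ac3c684a0502ed16a0b4242086af0ba3da118fa11ee27b6d088cd800180402a268dcd1b414b119f00014360000e8881f503e83dce5f0cf818733a122d7dc6c2e8b683f418e1bd8543c6a5d12d078ec835b8008683cd075175caf2e87683835076245f60be614ac295c59b8000a1a00062d90e4998680026ae6d5d41800008b631e9832418b00e001c303900031a0cb418a19,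
  nat_lit 0x28285b48a08b9976f78deea894640800700188be1a27d1206f37320e64d17c344e8c224768bd517b344d174689801000084f909df13b83e1d53ea3a2a2300020ebc1da8a087bb00005dd4004a0c97740e14d488a298b21164ad12688863c8a8d1510a58124a2c4e68914428ba11733ceb7932b561a23b679623190232015b5ad54688d44000285c2b5a35aacd1149006ac0d4f5aa6d110df473a0e6f68869ee0004bbb9f5861b6e368ead1d57a1f00005dc5000805870109a8d33155d2d5c4db8d106879ad589d717463981b0034406933a9c75dceb9ab615d52d0fdc6019fa0a7546ed0f92406ae35d75d50d0f513dc692ea5687815e2dcd6a8343b4f7045c302c0011d19b87370c0004190f509453000030a00087d71eef08b0002240c4868c9800016b82d89191b11a6cf686a93cd6c574eb43449b,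
  nat_lit 0x23b72f465e71905dea1723000e0028007001068d54522a21b1d34694f7002662b40008de00023150997d614ac2332674500004021546a9222e3c000a798c55304c2e3a00045cc00000400014706e964d381719a270000e725cee81299f333ea810932a229a1daad1853e40020ed168c016860bce47800107b34e87204000018800000107e44e4921580073190314c53d345d21c68b805a3b1ceaf80013be1864d7480000de00000083abc7654003000768b2356b7b5761b8c368b03d68588fb2b4570e434b0696da2b0a438f55fbef18da2b2ccb5835e7abaf9a2aaefb94d61dabaf9a2a2c13a425d74d14c79dc5e2ebc68a44bab210d3c00012810002505c37086eb4d66d4fc3dc9b30a26,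
  nat_lit 0x543ca8534881ac48b6541da4392e03e52bf0d2189fca163708690a344e4d5054b4840ca520045608aa00013d900062e1c5c20a7e14ff45800088ad115e30d000273d918205b80002e022680fe87c48f8b000c003d70b18d568fee2c2688a10942568fc1e0ebdd4901dc268fa132e688c68b47c3296dfa5089a3d87d11da23ae0014494000878e290204850c4a1780021870f2030b400089f3abf349000005f0001acc334903d2000965b3a650bc0002ef9908da22000059749bccccd310a62068e43f6da91383b47123468e000c00001fa042d20041e268ac1fbb9d4470c00044c8000004000258b8b80d65c2383a2a0002b155590a461499,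
  nat_lit 0x5520aa2800432a0010000557e8a82a2833f66800a9595242ada00068bccfab9b41a7835000001de00030d50a3d4f2b156c33200041aac28e851324700020d381a7860c12f00001aa03669cb86a3042e08746dd8db2693d1044004a689e0d693abbc044446d08e06938758a60d2be349b2d239f65a40b46a1cb00041ccd35da6c80001ce0002d26800f801e0472d68000000a0ce719cc25a004dba915e92d8a898160db497a2e31c88831deb2be2692c7a2414482a2098412ed2568b4a62ac2077d0d250c31bef2c156926a444d149a634920a40006ed55a488f4281e581ed2400492b7ac12691e3f87314e6180001e80002735d516944800011fe2400360cef182e29f6d23031d249225f415ed22c778b3e967569140a445cc8b8b489187,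
  nat_lit 0xd36c7dc36ae3abc2d99a6151ab4c200182fd45bcb4c1257132e26608208b7b6980768d879b0d8b7b697e7108d0cc408b78697c7e0628481e8b78697a8d600140b40000008bcb32880004180000abce31d222a0000c9d993833f5bc4f4d53bfb7af2f5a64d5a5c51a00080012e490bc7b4b736918b0e8acbc634b649625104a3da5a857800002d00007540b530c546440994d4f029183ee07d4e81de64b4b3a33353e81ed03ea7615fb0f321a5951912b8783ed2c409800234b1696004ae5e978eb4af1437236bc75a570fa000501cca874a500018168001016836302a9b58d6b18d62e8c400000400b72be057a9bcf17993b488fb1a55518016169a2bc55a54a9834c15e2ad2a1595541af15694e11ed2ad788b4a6449,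
  nat_lit 0xbae7372edc2c7a80003cae5cb4b9651ac002800854687ad8f5c833d69b89264629b84000220f190c70ec00083b962837280000360001065723047e8000432a1f2e00b00000e681cf900b58e4ee8d359279b8d2f2369aa06ad35001812e025804a8d48000096e80014d26f3e4e2548200006d543cc959002326874d12bd0579fb4d18a50cb4d6253b6b4d04652c24bce1a6797238755e76d338b84f52aa1e699a7d66200c3e34cc43537ea6fd9a65a0995d511aa2358755073d0000a860004fd28b6716cc416d1c3b59fa3700007f015b11688417082c4adda64196194e2578d31c09c000098e132c8265ae8dd61baa14680002600000a70127a24f3c51732c80004d824dbc429380b11d46e8699c5bd34c3a36,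
  nat_lit 0x3818b21b4fb2d66a9a9f0da7d11a34f9006000a73f1d592bb2547aee99c61d1e84830b4e0000a1400106424cec6b2000431e9f46144000018e425584f863e0c803f048bdb4f4a3c7188e329a7990806c13a08d3c81a45f6868569e25be2f60607b4f006c182e4cc0997bb904070001512c000812e03581083a81bc729b25ad00008ef009708c1118a00064243cf276a0000826000881c2b9574b40a9414f0e49a3b000279ccf3c9fdd470000010841cc191395372a2323db320c8a3b609741a7451d06770ceceb4c86fb4e731b0f2cecc12e734e6a3922d645c5a728b734e402d000000cd62000000013080000d3881a11c736dee436daccd1c00007308e608208000016800242547060e0da092191,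
  nat_lit 0x40158b6e39700080029ac82d172ff6d45e904011269b33f85ff1a8b312904b3006d4543c4cef17fc6a28188334006c00035a9000400200080039853365ee23579c00080090c680760754000000b01aa21400348e582c16a1e22216c8161b50e052086a0b01a8696d8004008000405ab8b40fb81ee05dcd57d3eab50ba405b6e1a85ae50c7e785cd42a8fdb9d003400180041a84b1c1f6c5e3ac18de9335086c938f8f2f17bb35074e92090bdc57b9b5061ea37f8be617bab5054e86db8be1de9135043203172bdc9a81a1711ba7a40d40828400114cd384801a0000e3d8c6e11538f8c178faa1f564fb446b8001d1f14cb2c9a46ac001278067c0d00000483001211ad000016a000070091a9003]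
theorem S0_c : blocks (facts 12 5 17 29 4095 131071 536870911 15 32767 12 4095 A R 32) 32 JS0 3396 = true := by decide +kernel
theorem S0 : On (Step.{u} r44 LW par A) 3396 16196 :=
  steps_of_blocks hpar hR S0_c (by decide +kernel)
noncomputable def JS1 : List ℕ := [nat_lit 0x7648e31fd01d439240000cd8000b534408882f82fd85f631b6bb00000005a5573870b860035ce827c9635ec719cc23531a4604f66de0ac8b98a638ae60da985229790703e7d68eca1a946a5ee5652b557c00004140000399157cb078e653180e11def6a727000348852b8cc899960000092000556d2c3d52329c8e3140002ada3dfe624d089dff2cbb791eb3d97ccb5299d00c5a18a171435284de76f6f725ea435270bd71c4be55a9305794785f2ed4942d505620346a4816800002681cc04646b56d6b400011a00011ef812cc12d054a0ab415c3a3874935213130a9e15502ac13ca6a4062c00b8004800b6a3e1e432609eb351e0c3000091892331ff216eb3f85501b0787f730d878f9d2d8001a43101824600000090004004e9a81cbe821e04360865c98bba25388a71a908001802b070ad4800218f9362d0004d47401c002f14e,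
  nat_lit 0x61fc0068f7bcc4626ac4c93163b2a4678d542924567baf851ae8cf9aa7ac4382d621c8ce9aa7372000343d08ce5aa6932b74e286cd530489aa5804000043cac429d7e8a08000006000006e8d4580c01b874168578c5618b06a9146c9940d9015f6140c27fdaa3d24396949f28a41aa32060b513d9ed514ffcc3721fa6a8855000005e50bd22b8178e57dc00014080002828875cafc9b9b7bb3d9456204c9800232515302a5c4c9800126400000100000002091a132322a001c791bafe3bd67615a9ed23b84875d07629a9e1561be93b0ed4ec7d06cc1d856a744040001390091301a03b6001400528b86a7280419e9b6c8daa6a70a88df0545ab5372111e28a2c5a9b1b78000006,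
  nat_lit 0x16833f223844995c2b77d6adb49ad9588cb98a721fcd5b246066f0ce121ecd5ad2e041b18aa21f4d5a87b0cd099a721f6d5a57d800510c36ad03cc0000864189f3144d70ce6886490cd42427c10f829f344f74000a930439978133f6e2b53da0001a4b08dc11ac93d80005e20004004400b972d4550a3000040049daf3b4639a000000497d62fb23aa003800a1722451eef61e01aa6175803b283f73561a4a0f441e85ab0108b6516c9ed57c170655881f6abc0fad8bc399b55d1fc0000995d1bf9fd10386eaa0000aec0000169e0b4aca95a51b8b55a19146f441ac8399fa16ab2b9c8e890c0a1836ab040c1351662a36f6aae3d8e691cd29f9e6aac6402bad0c0355505d6eac7e71aaa1ff8008468ad54c04473a379d000001a00085698d39020,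
  nat_lit 0x7f6383600001100001f6b5596a998e0bad0b9c2642089c4df29be272b49be5ac4d291186230e1cb0393afd24df0d6229443fa9ce642b69be1ac39569d04747a8541ac3310800622f6d6147cc227844d0f52186c00093bb9bf7ba0d8c4000218000210a484a830c405800009f487b0fa21e6d7010a0200100070812134ae131047b6080982adcdac0d2803af19b4d6008048baa1126afe0c0000c018000237f25744a40e791be2b7700000200005b76284738b00000e941d20c936ea6dd2216c1a6000d0024d5ea0bc84510841822304ce4580176af2bdcbac585d37830024d5e13e0c7b03510020d5dd241e9fb6790022d5da7e1e1c991e0028d5d4df440c80156ae88fc20e1abab5730b400006680a6c14da477480a668c8a911533db07cb80005278001103ad979b2e0504080e101293800018941010826206c19e000058e,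
  nat_lit 0x7ec486190c444740bfdad3b8c19696b68020dad314b830205fed6948f480282fd6b4850200090cca16639700000035b4b2e6c196001a3441cdc39b93d842da5ad126da1953db65e0cbc20b676b429a687bc1008208116ed6807b45a70b5316c6d67d66041f88b56b3c14245305b0359d2d200000103548b4f96a326c24d6dd56ba1600014ac000832d39a61150000003024b939713d00180064f4420e51a163410d1d3599a550caadc65430b0e050ea68f9acc52a24ef7acabb49e989a3a6b2f22e21292339a376b2c92003c407ab595082000a01fc2991b335c7605ebb04933124b00052fc65207650ecc00029bcdd847968f84000052e0000383b7cf0030006002dac80fd807a6b22d63cef8243800e6b1c936d63401838086070c18146c28b98df00014a600003fe925833e,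
  nat_lit 0x46688ce9ebc6b8848c48c5e00b5c303c1226f139ae100c35e034bc6990d3380070006883044dd3000000276d7885130a1da5f711a5b30b5fa26e478c8e2000152d80921c64000422dd4c238800007d60008f1323ad47588db28740009e252cc05970a72d2f0000491828480f1af280ba0176d6e8e60bdf276137e4d6e6975d25b9496b70048001c7a9b5b7015005a00a1bc500009f400001f003e40f5a1ea94b8da583dc8000003000083451cb16603246c143fa5b30061a0c42d6ce96c752014b029ee238b9297fb6b65384a8e57dea58b76b86c84ef835b1a5a0c361879ad820980040000150429e52c882a1ae809f011a00002e30002344c117a320000201020b11d8816102e425e84d182da16d00034b07e28fc700000310000f1790b50072e72000c00305920b250600d6a695c89e3ac97d9eea1c17f35a865f,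
  nat_lit 0x3bb8bb85af08c022c560b0d7802ecc2c05fa0bf0af4cbae0000a66000474f8917922e2eab2b0000542f952f38b2a541cdc39d1c41074a0e8920435dda6552387bb8f7815e52bd46301aee532137026f09b397dab0536bb725ae8d9ee82f855f04d7693acee89dd35db0d764818b3e16864806d7602fd02130f8609cd75ceb1dee304d6bac7feb9a5458b5d52a80000002086010e800110a1dd8727800000c0001444a1b903729c3c387b4c6000127f82e105c6b86753c76f379242687301ae851f8ee4245c48acc50b5cf492126824ac496b5ce6686ff076a9ae6a17000a6dbed7307980011d99387e70edc0412b800109181224e21091aa5c000076b9c3e95f4206400c6d00da12b7254a8d7269888a19cae002a0061ae44503c48529c7e95e27b5c7a6171847f21df8b5c61be3b48f14152a35c518d,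
  nat_lit 0xb08d6dd3a0d6bfc52e001c23635fd20c000e8ded1c10e8f4d10004010197cbb3830f0626c0d1f0db03700014da0008f6d31a17c382820004f6cb03a60720120000020f6ca64b12f616a1afb856000c0028168dafb13a1bcc0b50d7d5529dc305a86be81c85ca02d035f30bb000005a000c4c3098a05f833600080b5c90bec758c672786d68da85f8ed7c29b090c1ce14eecde1c6d3afc66bdf4d62ac455b15f85f30d7b9f8c0cca41a6bda01cdcb5832b5ec05431a06345af59010004359452e8a5e133a09481058208d3500032670126c5de8b07a690004253444f88a015554d00005dbe0a6113500007b48f6a80c2c884a32ae0d36ba6da5f82c17daf3533b71b6206be417c735e55527474ca19771aee46bc85365b04ad295a66bc6988607d20735e2023,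
  nat_lit 0x4ed842b305634120002a9315283d06174000005aed79201bb5f4c960ce815db6187ea00100b0415e36172c100080100001102ae9d1cc75b6577800027100000c409885c608f5062026c24cd8997afa40cfe1a05b09d3797810cf2002c006361250e5574f1b1b0881180030014d84060032f86656c1e5220001b5e95f64760c6c18cc0000f980025f2af7f18ce2a3054689a0533f53700017bf4a80dea23a6800002d5f24f1b14b8239b6c141c057c8003800c002ed8255753bc3b3f6c101c6003400ab6070fc52788e61b03054000102d78c2faa8ea580020385f22fbccea50001117000005a00084c385840b0c7508b18000898238f670800004c29c810bb0b6216adcf435ff4bc,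
  nat_lit 0x3e1a3880d8dc24000004f309ea0060f5c1e980012f8000000c00014af0e7104b5946fa39f3636331dc1d9eeb79b190ecb892615ad8c5595e7db0a26c600e45851855362f03e08f22bc40000e6000000806380c6cebd80019660004a2d145cbd3160e4af0000545928ab9a2000005aa2c182a2c1f0024d8a41692e9800f6c5001c0028008b6270597b98b50400082200021e6eab58dca0a5514a94e6000447888e94ed67c74f8f1ce00001e664abc95a8f60f33204618b8008b62339407da95ac008b6220385e189a4000836211172b9e88000063620a72558ef2e8007b61f0ec7024003db0f0ebb61d02d0008b045f6e31cd4270f3dc80a53880034566205c40b0e9da70,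
  nat_lit 0x5000e12a9d178a6800400181e4c99307100030008132c5e0001000a0f280c80004004136317c0000001836a06480030aa6d9382bc002935c098ab881285b860000010000405a0000031835d5210bfb9487b6dfa7700c40d801e8862c394ad92a9d83639bbc46bcd9244cdc52235f6c901e21e15086b64709074400c6838e000116200022b9c57416550de0dc25f018ae1a7500001b7db83a9076224a4e93f5cb608d211a0d9107640a28de06c861a042ec70f364208f36463871b2081f00040e480b681f9d101288756c000163000012ec711a91a4ba5c679a4742d88a30e21b63ea7457acfcf595732013886d8f65d9caabc283892710db1e230173e3982baf4e20363b0b0037e07040fb363a24e4fbaf520e20b63918b05a89858e1e363802c,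
  nat_lit 0x2f8a0b5a96b670500000106c08d8594e329c8d9bd1c90ff8004001cd9b8818e3cb0f07640d9b458ce8394db29c2d9b0eb0004000b6cd63ce3f88a6fb66a3ff000885dd0bd23eb5a2e4cc51408be000005c000200fc259095c22fb4f60000022a6111350086a3c14e429ca7d44c37186db666a7a782cc15d7503e0c6ccaaa4e37df90323661b6d990ec8110022761b6d98cc99e7baea56cc4052a7dd86c366108a7624c361b3009d000402d3114622cfeaba011d2200069e400001680001aea35c8a279faa9e227c64f849f7a80a6cb94f04f09084bae17c02d96dae9c61b0d16cb48fceb85867b6590837370a531b2c140934d00c2d9880029e9800302d2968a7953b39d19000243427f85020000018,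
  nat_lit 0x1a0c342000002400021ee036481400000f5a6824039bb2bd713cac1705b962f486d17500e9b1f65b68a4f709c413adb4485702696d120000ec400081680035072fb210af04ec0b254fe0008125824a7440db1895c000824a04906f5d0ac00028347960b3aec3881605916e3c0039b4236838990006003db410c99fc704cada0413c2c982666d008260004003bcac3702a8c000937caeb011f422bc45611bfa7e00021afc36437390d6e42869f40002045371e0789be1c3d10bf000082400085ec0bd30ea0002448088e811000030ca091530ca7814f528c4519012eb678a7c001a3fc499f025c6cee4381530bdc825a6cec27a6e08dca02596cea27826d012db6741d86ce605ae37949600022340ae86968d310000151,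
  nat_lit 0x71780049b5503bba8e0020daa4360000800a1a54348e2edc2b80013383ed43a0c00001e000317622ed473f81e80023d56c455ee713d8001349c25917100001e91224e00a7aa44c9822a6d448fe001411536a123d00002748192b6f46423dbc0a5c00000900011be437b41483dd8000709ae13802c4de89c4158c5048003800c6d3b50a3898ce239c9302a6065b4e5421411200a0008005369b454009a0129b4d0021148329eda6414000018ca0a04dee880154198c878ea0000a0400128e574c6299c534ab000012d7e5b04a040fb000002d21761b40003800b09e058c1b4a54103082fdada4c0a136625be6d246ce6519e153691336000c58d4b1f163f0b3000005a000113131fa70843a2c9518661a81,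
  nat_lit 0x3df25a24a2a434eb7e40a38db1e84c26c83da07ba7fe56e685206d8d51289a08b384270846146db62c2f000a3d747b49ba9b6c458042767a4c28f36c320d1384146db6127b83d507bc0008e980011e2d3c56e6c85b58088a88000207240e13d0a230f162000113e1d781357714ee2c1c8838d5fc4daf935ddc5333e6504fc0db5ea4929687c3ac4ddb5e2063aca7e00c4d1b5dacc3aaa626cdae90b800006210c4020eb09907f9033000750e7c5081980020f10008b14d1591e8b754048a8913d4300035966f70962f3da77f3ee7aa528001281f1d6040cc8172b70001589ea0995d40003dc32f88826206440f36b23a6071cbf51b5880836b000133de3554002000238305ac386c00ab6af14a1c9e0049b571e20e560020dab41e03bf80116d5841e354000636ab20e,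
  nat_lit 0x871d5e591c2b85318f43e247c180010e00838dd4cf21932b00005c6000189d39344643e5e7cc8f9b36e056f42f8fca1b6f8f481265f26db782f025daa376dba14847d97ea36dc07d53a2c55db6d8019e21755e00100001988e5d1c0e3830001004800230c41d5dbd32ca800175582ac055798c0000426a5c2cb868781dd23ba0a8a4332066915e2db5aa304a1891f123a5da590938196daaec4837dd6a0af06da85d22900522b6d34a100040025b690010853109cdb450d4eb38ae86da04464bdc9ae38c5212e0001be0001146b28e0415482a1b551f023e02a2c000a8680a7614d52040001e4b114e3ee85150a23208701edb3206161d801400262b89b6590e00081396211042336caa8a6d9205a000d1368309060c62e000426d8006419,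
  nat_lit 0x3bf524607e8000128800133e65a3c0fd8c4000026ecf21cc68cfaacac00e4dc2800380086dfb520011402085111f2adbf2295bf08f966df6004dc5407c36fa06003e821c1b7c8c9000035ecf2782dcd7a23d24a646d50dab271a6df0dda00189d997956dee59698b939ea7196dec1323e39ca036f529513f61f8000004680001f22df44094003000f62e4dbe401e3f3945aadbcea3cc5a9f091142df94d6eb6f2a8e27506730f9936f198a0002aff57488d286ba74342ba4574000129b2c1e584c000071800622a64534f9824b85bbe5b2aa34002a38d77868ad87c4026000438ec71c1114001964a2c885f2000854d06b20570002448089200180004c42431ccccf9d9f3e6dce5ae0009b73b6e62bb34befcb9b7288c36e4001,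
  nat_lit 0x857e01e0b78145f88bf4ad754a800335fae9cdd3887dd0fb64899b7000112f01bf437bcb04000a61c44aa326000130d38330b74c3246946898d1100140031b8c41d8cf819f8c941c5a8c5b6e2f5282740490891d18b4dc59ae863138847106dc5537828c0c5a6e2816a0010cef25fc10a00026739bbf83f52f128b719eabb87a930000f228dd900719cc6efa001400710cd1462dc453d5d9329ce6094e0844c4b710a9274766751327a5141458dc3e3111c5195c1310261db87157858e6f7ee0edb86a4804940934dc302d01f48a71000093c00005180a2d0571462e0e400016900021c92467c7450a9c15353d40004726923e9a2000005a3910d411a846e0c4c429b18cdb1856e0a00e09cd483b704004294cbaf9b8184800011722e1918f1b1dd5458e42a888000167330eaf4b96502d1ca91269a008c0100002209,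
  nat_lit 0x947558f021400007380e7904473625280a4f3e23587ac6f1b9c54e178d1a7431586299f4e6e6f5360024336230a7d48a7c1b9b34013007488f2fd8dcb735a9a0060dce58dbb7340947c1a9d19f1237331b61e76c9d1fc1b7320f22164c6bdb988020004108e41c847e88f7a9900120049318129125204a3db9854c0ea31d3e6604cd6372f39a0d1826d44e289c46e5c31819891d4a3ac4c34dcb6a5c42389e72516dcb04c85a41a193436dcac5c432719a5334edca85d000ea6166e5219adca0020002816800018a6e2486e3b1c8c7426140f540d100015ac000005a000050b06be033ef96e34994a38d71d90b835b91d4b05e40bc624c170937222ad774eb849b909b3b7b45c1edc8050c002ae006e3e0d41ab835a371e1f37ac8a3acad480001dc,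
  nat_lit 0x47e07a6b7570230be817ddbab014a9981f74dd542a05538fb76ea81bc0001f9537e04e2172e1af9c06bfcb708c0000001550000411842319d8a88b09cb00067b8cd211a3f342cf2a0008d1a9f9b6fca25a0004f70a63c008c406000061e0c39030e24e68c8d953aa875526cd5504b74d8ea76dacf9ddb31a3679b0c749ba654f88454ff0b1498e8b74b63f03e0c73dba52910b666398dd242f004a809b6e900b83494693b747285057ac719ba3001863e51d8dd147f01cc02e5000215a000455f1de46ff019fc2d6d4f000015780b84ec5c3f88ff11fced118df3f916e8553a4b4d716143708ba116c6903741a110530c709ba025088cb6386dcfcb84487b1bd6e7c0042171471b73d4640b48a7ddb9e18400091e8ae40c301060a6fb616f6254001147448689eccd0d1a173a5,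
  nat_lit 0x71a0c7f1bba2a500ca63f4ddcc229dc6bfc86ee42901b6036d800105c4cbce48800003e800100de3a602ac1ed83e472a2398cfa4376f38c00deee35fe1b76e15e4cac9e11f56376d6741f3ecac18f9b76c0073e3ac7bdbb580d14f1523cdda8141ed110d3219c001066418bb7b900067467951d9e800206374ec9f397b440336358c3e400055200024d36bbcdfb797400017a24a2591140003cee49be57000340078ab2157a2af8e3f3763aa301ea03d8e3eb7623f1328403e9bb094aa12136e4dd8072cb0496116ebe578bdfd6258284051200026a80009d241d140ac9acc000016a39a37f86ff56ec800088e0000122d8ab219f4340ff96029ac6daa20320003000ab80964b4e0ec40b375aaa134bc69807dd37594c437b4a6747deb758326,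
  nat_lit 0x19488008ffa5bc822093db3236de3caa000185400a841f413c40010bc47ade0c625e04d69f15530ede36a6422a2b1e6f184242f11f0cb78b0bc3a5e7ff5bc50f40cc322ca0338068000244a0006f71487b10fa0ab856000083c3878436ea223a9c00009f300b9a1745048000016974c2e9cb4ec982378589b05640ad1bc2014ad972600de0c3f000313026f041bc0010cc5bd3d480a2c0241400008f21550ee81dcf89fb13ab54c23e8d8103b1075a7e889f737808c700100034fd213ed6efe814b7818ec9f0927dcddf95e067b8cf52612ddf4121bbe0040000281e02f81105b18b6800020200004fb930275624ac31573aae5186954a00000b4fb830267f92c7f9bbc16300bc5e7cc8018ff37772925d1eba3951eb77636d0526ee45fe5b775315,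
  nat_lit 0xbd79c7f1be28e65ed130ea7213376a61d256b7acaab0d0a19f87e337ab44f001492adbd504125003e1a000406000231ba77404b9097006da8680006c6e9960344b5ae47c32aa80012a9845725760001474ac7d16451ceb9dcaca3a407dbcde95d1d8dd33946732fb75bd2554bc3581d0b761bd181c24f96020b75dbd1096953152f0de84161bd00169cf0226c00000080001c4f226c5ac84f1ef5297268fef270001d20962740388f4c0010960b0437c68ef40008beba1d479e0000240000000b128c25211e6909800a128a090c12286d34932e3e00d4b7c508d2de66aa0312006600e0103420ba3516f3154e3f7519e37970bc71b4b331bcb02e16213890de547a113eae606f280b69be9730b7931fc00020104f489e4941c4988fdb5bc951fb8383fc4c10dff33791277,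
  nat_lit 0x38b32480df255416b8ae696f900d40000bab9fc4018752ecf4d6f6248f79e8f504fcb8000aaf000269560113229644ac8f19d19f95440000005a694d925324b649edf10380ff7a01a53aca769be1aaeb10d622eaa25be11e9a212649adf043a82f323416f8004051a94eb37bf1801242c92dbdf05403460684def4a446848d0b00003780000021df0323e802ac91dbddd571d556546c915bdd1f81407539edee4175bdeb2446f704ba0019da89cf22db000805aeabcc4a24377988449c89694a66f6d55a55c8aa495472946ded5751175255e54bc5299bda2c81c0038085279bd981ebe0760005275bd912d1cde2948dec45b88a8114e6f603aedebc0b5434aede00000040004bda1c651abee4d9772aedeaac,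
  nat_lit 0xfd3b2726fcc188e1b8286000005b00026eb88be918073dd0480000dd6146f036088e110025904b500007cc0008a68b3ca5aec2a60004a6833c428da8c60000020a649e7b0db41b6dbef8d5890718281d99bef3d207890ed0df743a9ddc07646fb815000243b037db0de000c448d5b0080a27906a800050d4000835d3f4a8ef51e1069f0d3b5660001c18382f2f806b8df60007ae0e6fae53aa3c547a3f136fac0548fd591e3f126faa4ca448092db7d40882260b829be989137d2008000020388bd917a47cafc3991aae3cab2715ee2b84018b33000312487fcf3880000570000e348f379660940720d01ade27035706a4df3aac41bd3a3328080d3c1a8b7cdab05aeeb602049ae716f98fc601402fab86e6f96c42794d36137ca1ce,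
  nat_lit 0x456c8af38031f30098511501592ce25a01c9800055b800113cc1dd438dba6800002d13d6a6e4d6b9ada70007ca53a5e0bb28c6ffe9d2f24d89f40016ffcbbef90d94537fd42e28acca21bfe05087070e24dfec0440023f954ede7e3cf2d9990003509020bc41814f000262286e38e5c0001b583c821486d611ae349640086178c3037f73f32fba0021bfbb7f639d37026168c2f37f535b46f4ca1194037f415a59f06b28d6637f32387816c9f9bf90a03ef964f8dfc439c00317ae2a24aea0015ed3b8d04130000010000467aba1724d25f5aad80000cf8105a20b972042a0856107220f165bb82a04bedfb2ad411a90a914b22980c29b7ebab42f5623ec480b12b6fd4d7c083944932746fd20e8207141d3fe96fd04726ac4d5b37e701a,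
  nat_lit 0x305c6e54cf5ca03f7872f0e15b400102dc13c2293c3309eb000105c22b6c31730b000002d01d203a9cc232a87038e44037d872381b208703acaa9c0d0fa000211127c31a59aaa3554cd0c5d81d5e0001110c3494af41cf00001122ccedc7f06a088e18508f0cfa4bc3080f8e05eaec3921f4751d0e0595108b932a4702a42452c594f38140122356ca71c099b7800028b2f9a8208000016800211e023c501e9458424000223bc3db87b63f0000023b816a9c3a3ff334a51aca3480080016e03aae92c925932a5254988de380dab921f46b34d673b4f2372e031bd847a08c671fce02c8342f905f970144e452202a080004da000001014e8a87951013c400002b00003e4f716419213185d10ba006e00dd194ec06a700d5707f60c379870700ab18f07194938041f4,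
  nat_lit 0xace9d2711d9707886e8ba9880b83b2e433b5028dc1d045a910658ee0e4009e37b2c9707009ef13158a38372230002008803881b000000400f0812dc1cc09e5a9ca400000bf683c1660b0024000024800171facd35c9709097444bf400003ae2bd73e30ea21eb83ee89170ae415d5c18d608069018e00140042eb02398e0c2b00087811a705e05009808e5b82e550232c4735c168a13a3c747ae0b0cd800107a70234044408b056f0ad47412afc00089b4017e3b400005658eea33f0f48045c08a8d3f000a0021c14d5f2ea51608e0a02d0001894a1290e5c5cb955e80013b1eeb20804006002523d0e098704e31ba3a704a42034f06e1b8242375d584791c1183c11ed23cae088b7c3e107c070420ce18cca5580000a4,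
  nat_lit 0x2a8a1ce60c000003f22a7ccb5d5102a1e80d0e6d5c2b2ea00a301442fe1c2a89e385402d000a2de8df4868d2be0006210443611b800212c8a8d023800085610dc454600004b009610d812c2fabc42c384f43c7332216dc2723f0007070ee1342d000009e10ad6006fe14dc23ba827c000016d0000394011b2398f5c5eb83ab573522fd4eb838a7709558a0020050809e0702e1261f84df205c01d203b1c2415c85570abc0e15c23d62384602d000401000000b5f49b2da65b2cb61c2228a3c6a7d64a995885384347251a0a9dd53a38420bf70ad02adc208f380003644a81d502a03c20733b0675c63bb9ac65a0cb4dc202b614d829b453aca74bc535638e0feb0c0c2b2c3830106e153aaa6f707cde4e3d59a5154a2a8e53b5e25383dac2,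
  nat_lit 0x253d1982aa973ef000053d9f1208a94f0278c4f0920e2dbf7deae1ce56823f38e826aee1c9378004adb87de6e1c60540053ef170e0106b7c149fb86f2810002fb8954393ca64908e42fd8c76b16177ba271dcc0386eac780c427904f13c8f5c8ee1b5be96ce30522980eb99c3642a0005000e52f5d72b86ba683becc0e581d23de70d4e166e3522abf8970d237ce9e84e1b97a70d01a8001d7422e807f78ecd4ba01d02ac6000674645ec8bd33bb2ac800051e3345e68c0f02d3c80002e393a2426ab8ddc4a81d748a6cbd5c3231dbbf969a2c5758adb8636467556d0d997a3862388778ca90551d38615df6084aa0d54038602604c20cbc5c2f9c3adc5526ae178798000206940d821490d94040c6d000673024b570681d300029d20011515a04b10ec902000d513bf6203ac4e8000951439c4020,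
  nat_lit 0x21dba2df4e2447a9748a5fa2dfee24160896196ff711e70e099cb7c388e2d2377ac2000018469db53b720004838001a3ef1a6c34e4f3f28c00025c6254a4a933290001584efccd8449cf0000584efcd49b4328ae2f81f0e220461c438008002094a12ac17de44bc8b3abcf08d1d3b886ac97b6507bdeb280010004e21693c9b5253f71084e40024104906220e4a7e9514e4bbad60002f2823646be800004400002d8ca029e74216933c2a905559344388ae424293b88082a7af6d3920cf2a5f70fe9d654120b12a6170fc9d23d52036aa5f70fabbcf2b20e03edf70f8b30001954daa5f70f6b04ef8952eb87a42e0004fe78e6281b0000373a6e7c007800e0028004ab20e73bac426e0ecc5805aa9b0005372b95107415352a6eaa60000a69bc0162e4c5d554e0000242,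
  nat_lit 0x4e90405c80938ae3fb658cea31c5681900037fa89280c4c189618c0004ff55748ae8f80285940005ce20a0d244c05c0001fe8aa950a44366e70812e38e857248d951b438a92f5001000411e3254871507a22c3458723214f40e29eb2dedc2beb4f3ae298f30aa5a79f714a4244028805b8a407e37985531c51942872e17a8e28864050220ce00020643c8d2f3800004400063ee9f0125db13d00043f047e68f2943300025291d898e7045000003ed904c8ab94a11e6eeba4b573b56810ae379c4e5653dbc4dc2d280b058007001ae26df4186f113b1cda39ad691027971354420a09c6e38db71329bc4fcc138b8980ae000801000080b40001b095c3c5e64ac38a95996446aebc49f99c7d2e00e2549c4affa5f35dec5c05c4a275bed8473897b4b8138932777798ed78b813892388,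
  nat_lit 0x262195638ca1802b3ab4909f913f30000160000489c113915a62b545240003d147a2c0c0857086990d4429c0031c6438c756d42cacd099aeb35a718cc70261c4c132a6718a970339114ea29b71882c6b7619cc335b7186b0e2681739ae7171848d66add95138c11e73804b9bdc6012e800133c416c05dc00019e7325a1ee6794dcdb08a810ad7e99aab8be77219b2a1d5f51a85b717aa3016a573538bc3a14284cd35c5d80900004edc7b70f6b293be6a5454a03d343a68866a0e2e9e19e7fc2095754c4b9146a28e717359cf3c5732b8b8436041acd21c5b8059fdb0d0800086b030a061300024fe000cc7798ee34e2cb45dc000125ea0cfcc3a0004c7689067f80000ae998ef96bac313e367c59e47bf1b5e0841adc58d66aef760c0b73497092e520d2e2c26312a12ff18030000c006b8afacc,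
  nat_lit 0x9ab18f400000ae000067298f72d119b84ba1d8c38e536d23bc477dc7207503b00766e38c0800038e4671c4014206469980001ce0002f6395f7c26857daf63c6fcd69800046ce094812788ac422300e69309a809b0135ee37d471cf4000b0018004dc6f20497544086e9f5c6e86982df1358e370335c6d80400015352ccc442818713245274699c3fb87ee00055a4a6914d113800002996ba2c9be000008d000016282c680d06092960b3f149c3bd60628e49dc6b568b32e8298c84c18238d505a608a0c15c6a1b3934a0606e34c50c000030471a43e800082e598ac503409f41413f7626b55a000042e9305210a0000173430902205cf0c6a547cffe92492488a1bdc67d67ac6c58c0fdf59b1b8ce2632c187e99955b2af719aaba38b8e07ae7c719864cb77d9b238cb0ea,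
  nat_lit 0x48021002298d16300028df854680d0a0a00008df50b056fbdac7f3696ed2de00077204e406b7908aa1165ac8bf211e6393e72015ba0004006b8ff00278880925c7f209946028ba91808c211857cc4000ab7036506ce57ead0353170001adb392a72600000dd800150eeaa598798d8c750cd02d31656d000050eea1e54c2a988ad950e8f7080008970de71bcc00001c80003d352b222c846408cab2de35e40901c7b56c0e643fd86bcc11fb8f59070014287811e38f4ad74c2457b811f38f3ad671e405a97f506b80000180002a10541f3f20535c835eb5400028414e669cd053a00bb5fa5082ae0906783cd0792e3bd60d4c229774e88f3bdc771f29d091cae396dc769d9898342a47f7dc760f62851624c7f81c759f815882b127f81c751f3a7c63fbee3a489c002221442ee23035346a2891e127a2500c718001ad4,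
  nat_lit 0x1354b9617240030000c5758c520b2ee6d5a10be6e21e95d00009d27b47774aa2c5c168b3d000115cced1095228ba5ca00002ba800c09aba4c68e8e944588215c35426a7dc8e573801e290251fd722b0da436ef175c8dbc38db14368f171c8d4c0a94035f6e464d9c012802372300a80018002b9170590000ef21201ab1363d277e42d705abae62d0e991dfa28b8574b82e40000572800004baa22c5c7896825c72be0b1d78021ac78aa0006b9000180043a9e9921325200123ff5c60009c899af735e8f760004001025738b0000000c5c5a3b00087466e43c7cc0020b6c16e07460008f5f9eb822c865a0005309be654e887e20001309188d311836e69c0d3ab4d2659905f19c2390bae216dacb81c851723b52830ce4248914cdb39f721032681a903739070b715ce1dbc3b812641d623aa13098002ae100088df9a3333a26742e43c029d70000332da65cd1caa3c758d,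
  nat_lit 0xf4ad73380000af00001f60e8eac423c7e1f443e748b07d7204c4095a6530e972791f0250dd2d9b248378e4edc91d9f8030727f06edc9d45d1ed247b888b91183939316597a97660c23938040235708819e9393711917b6cf3dc9b00d01af6170e4d430c0048168ff81f2e3e50ec000010e6000005a0006056c04b5d6e75fd4fdfc4a80e28b646a9d9d16cc0006b50bfb00d7395e000440a20888bc000102577d47e14000035000024887cd464c6918d240be617e5c9644300044d68f639c958c514ce3ba6e4a8310ba7800400026188f3c1209818781ad55d35980013c230c29ac800004e00023e54f96d7492872765245eabac000a6a57f468bcd17a3dad37555d4000148c17a00143cb675b8a86878e0f1e8ac172eaa05000c0035c9257484bf4a847590135b923a6117440038007b9221ca4efea264135b9210ce,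
  nat_lit 0x2013358e56c7380002ed472b40d4000cce61bdf53fafe29a9fb3d95b635e00008ce59bde53f6b5256a446580012b2c5654acb000134600006728d5581b19c77d9819400000ee00010a841944590000053d019c04414e5818bfe450d4fc89ca9b45a38b4714a181f90b95240f361e8a1d140395125924ee49eca9b39501c328cc51adca7834394e02d000a85b056b00229737eb2c4ad6c780013c2000251bd107a20a10415de0000a35a3825328a659238a351a3173a614d9cf9419772955dc333c66815e128e851e19f2b949aed42cab6cd6cfc1ca7290744154d120a23f728e618c3e19d3b946211103ec3c9ca283f2d8a5eb8e5101f57a833dd7286320b8558633942084000cf3296239c580050cdc19e06487490f3b1e6e43b48788002aec048c09101260001162,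
  nat_lit 0x7f2a379dcbc09280040060008465d1402a0c7e408322bd4001bb75693ed279d5b2548002232e8b008cb800255b000246551d009a8000231e70d00608c9227b5204fd9213633485b8ee5caabce2b9ac9358cc399cb8a4229bd7f14b965cb82c611ed824ee5bd540d54b0e472dc2ece5b973a396d06a000600c000ce3c191a78d50a2961057a000245808b051600002af200020fb01f58ddb29e000086cd0d88221c74322c646106fc20f6abcb6f9cb457981497e6e0098013c06072cf1388e81f05ae5072cc558ec6d735396555072cab9a1cb203500010083540f2bdfe6000113345268a5958a80005e20004ebf9a1934c154b67d20004723a33e1c8e0006bc80000e4a354026a39213dea7be51c30c0a0a6adb472bd5e21d383a4a04757e6afd172e395d8be472cfde1723395c981,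
  nat_lit 0xe6500201220e0300002f0000c38989db0b50002001d0a1162a2c484b000000b400415fb0dba1b857f09e783cf8e642be838683e373ecb4b92b4b98faf916de2da86ab0d53731cd3c031c06506d21aa4e6366a834886964ad6e6301d0000a7d64a2c0280001067a2a008419de2e045bfa1ba7314cfe002816b21ba73120e8f0850d9b988090746c653400002e0002762a374cc72c20777b85056be000099605d0815bc4b0000016bba024cc58d8d071bbc082c1039cc257b930d7b96d961f2380050016e60ebd8580b2f07bac002000539828e82bea7735cc0a71131a38cce600094164bf9d72fe0d4000d80f1b1944400020348cff85d01ab045008a9cbe84a80d3045008a5cbe122b36b1bdae5ec2890fa0deb72f43f2003000839790d8,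
  nat_lit 0xde1a0bc7362138e6c002074b195a000274c8b70cab8000041000205aef3ccc68a1a03f007c8a1db9adafd32b0c531a0e143e73587d00fb1ce100ee735640d024d8bd143a73547e42d820ff143a73524c050c8a1cb9a80a10014003dcd396908e41528000112400181e701dee6f5cdf00fb152b52a00080f81ca15bcab799725ae8bafc00020798508005800003cc66e15d40f5199174a8e6895f9d0486a87342a44004c00ab9a0211000c002dccf84211df000400280d46f4196200003fa001505413ca77cc7280d230df01bde491cf2f2a83afb00084eac9d4850e0a187780000050009c4fd0706efc9df880000020000299453597c0e101c1000140063998a241638005c009b9977be764e00500093996276358c16142c539951d0,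
  nat_lit 0x10b861725ce9802d2c523fcac000001b2c3802c1e022403fae6e5cd62908523b9cd9982298a8418abbd453998e7315e80f881ef4be0bba5a26b9cbaff2afefe0201b39ca1604060f70a12b39c937d7f28d1b5ce423f3c0168d6e71c20ccd8a6b1738c15c09e0fd5833a06760005471a03355f695ce8dc00012b000216de324022da13800116e62fbce480000b733f4c72c1c4438904b20962e70537d4d82b7f4190e700ba1233a0cb737e10e1fac7a139be08b2ca08329cde80580020018e6f013c22820c57376826924999eace36958c80132a2288450ef41cdc00002afe5450b369f0980019097546299400020a000000103a80cfc005996344e48309cdbab0b3ae5adeb58505fb9b68c2799e99c1ee5b9b5048111ca075ee539b40475c68c80d05eb9b309a73e8599905eb9b2248,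
  nat_lit 0x29156816602c21d1dd57074473d760e4f089e03d3a73d463a0009826b63479f066d1ab0bc9f7b6000003a007782b9771458c8475f03a3f220f4e7a2c197442e8f32e2f3b49a6907f73cf60a3dec3e107bf73cd608002c291852573ca8dc2180d59107673c847803b828f052373c61d61bc883cb9e2295333641e9cf08158000006000821c8381025800208c408b01158a80151868dac0c00096772cec91a000096abc0530d2cf47498b28965273b908421c183a32057c16e76e12c003800973b40cce9816ee2d286846cfd8d2b0001b023a387454d290000320000441e9f241a535270002276c4e909d31b7000041d0e4b80690727e7aabf157b2c7b5928e755e180073ce679ca66ed44da8a173a960213bc27504df5140e74e2989652c9073a486cf801646b9d141400085475cec00d0000008,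
  nat_lit 0xb479e09f813a2273521da329740f624a0850ad3a0655000168ca1d0282ca4cf629c78f0cd819af30d0000a12919300000002619ccd719ad3835622000897d8bd716ee2de10fc0009b9237346e64c32d880000190632087dcdc7a3f908f811e8006000d5094e802c3c79c17872f067241423b9ffb0e005e7ab8f57b9fe0cf1fdaa13142339fd21614067ff8ffeb9fc15c161aae25422b9fb0d4463a8535cfd19818213050e7e4060001800741fa84110bd9a731e0f61a0005358420586bab41df1b96da2e6961839d9252a8ef59d502e17f839f7b0b4b18bfc8b5e96ba82d30599cfb585000b4936973606a416573eb612ec7002e805c60a4e7d2c215c028ff51fce7cc6b5cf9004000006c60d8937c1dd836506d30591e38155725c4000aa60abbb04125c200046a40000040002001603e496fa31800173dc4208ad33828000008,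
  nat_lit 0x3b0d064e0c95db58ba8174ee896c59338364d6a4ed329d122758b276014b7dd6fb3a233ed791b0ccda65ba222f77508d401a64ba215de45aed37615aba2044179aad321d0fa170f275be2e878284d169a2c743a5a40000c933d1b6158a960ec5262810c021ebf5dd0e3843b845faee86d528ac11ce27434040600d7ea3a1913a0014ac55d0c06f0006213042703ce06340c751d800014c00008cde0a6014a4e780000cd910da21a875466f0d3c7f92a104e241c4b51546c5cd879b0b742962a0039d0abfc809d6139917ba8a9517900c9010ba13b14538902cd37f283559068089d09589bcea4046e8450d9e2e9e82742009e54b500f3a0f0604b308079d071118ca53752000000c0008c90373e4440000648236620e1920a1bc000834000002d000211302282ccc1b8,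
  nat_lit 0x10000e002dd208aa030d0612320dd200af0c341866e8fc3c5e79828200006ce000c00688642d767a8cf4f80db01ad63400080048c43188a1156314000800701483a6c7644720000001012600d8005a98e531ed8fa156b45c62d8e8ea38076ab5b76b18c5c1d1caa9025611725e11d1c26240c083e8e8dc3f1f8bb16a746c2748c8804d000004400042ca4595809b0ef00022cb58040558000013802845f05978c4605f2e8c859c42902f6746236a2d5c17b3a301f981740be1d1788380013cba155c2ae0d500a981539dad58c8b2b27dcc225d1780117cd0e8bac60e9522bd602cb7edd16d658b7c581096f5d162a23b5e82dee8ac844591416d74540ae26596f9ba29003045cb7d5d141b78002750ae91c09fbeaf81f61320264bd082824098ac5c000bf627ec60c00000f373b57413,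
  nat_lit 0x80c102860802eb000440eeabda9b3aa90002b320008dfe9bfc16a42d2c5a5313800134caf5f9b59bd7705bf63e00007b8048b04437fe70147490a8174b47ae7d54c9a99327730e965685dbcbb7a1500e9610dc121824174ae9425df03d03a5619200026844ce520c800037e4ee6d04ded429151b960578000336000337d6915426c04d402c363c0008df60d0c18b02f3895c0009352209014853f80001bea7e30fc5d3a002b805476481f9c06a00d5749f63ae94da7bb50985730725d2738819c43404c2a18273a4d0b6519eb9917be3a4c2972c24c2cdd2585780cd01a0e9282d03108c1c183a000c9800000168003583eb86c7aa8f525a82edfa4e00012c1e609ac2998551cd00013cdc70245490a8d7af000005a1abdd7a2a13543ade4dbb53f2674896388464d73170b116e22f1d21d8d8bbc17825de863fba42798,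
  nat_lit 0x1df0b31e29f253c9d3d5931de63bd10c5dd3c87929555d1ae9e001000116f7260428e051e17672ec764a0004b7c9415054e0a89dbc00005300a5a6ca1eccb799b264598dd79f5d224f5d16e9d5fccd45c1ce74e8078f68a1883a731bb11f823f40000050001000c0258ff5238e4378fa89e71d920000008000ca5de02c308c444c8891d38591963c4f0d01e14f6ba6f56183dcf64caf515e974dca384428bf1a9ea74da246e9b002000007d7767c1e583c78098011d6443ea5fbdaa493652efe1d35d90a79c1bb8efd46eeba6aa1d0006011078c6dc0a5f000205e00000b400102f305e83051161b0180010a3e1499d9887a11ed00005d750c727443ac2eb401180238b6816c60fd9d325903e8b26d00325d3b83f074c6a920bd819083f674c441a00101fa3a6147e383a0fc9d30041178f0a3e14781730003389,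
  nat_lit 0x86860d164a547340001250539e21447e5ea1824b752a7300028adb024b75282be41f81253a930fa4108091dd49129800337986f4080400121a543fe8320000c6082f305ec44d48994166b2a1bb43761a05340d4660ea3eca4486890a391681d1d4735f0bfa180275e1039ba8d9aa31528f991963a8c17e026604d465e3a8b67400020029d450023f5d56eaadd9a5e000164600064fecf8aa72e01b00044fecb1c170029800024fd8b179cd3b28000037006bd88c13f529f668355fc411b8648ea16c9d5b9950329faea1127d153b52e750686c4e3d74c3a820020004b601d40a32231d6a54ea00180d47aa1d74fe447053df7580032340002002000867510ce129212aa0900008ce8775e21400006719085044,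
  nat_lit 0x1800b625108ec29959a0002001ca48d10d0170001000ea7554e6950000002d0016d579aafa38646960565d585998f24143c0bf00aabaafb320198eb49d570f4a3e302a4eab429010b29cc539e00051b800285260a52d2f00888115070d66200120872ca98432c3720bf40b8b300006ae922173f1a2f200760009116a22e0870002147828b5978000573a50e12355cfa651754c762ea9400400210411a44f04e4100000ccd4994ed0098066723ce0150ead510429117546d56fc09bc4416d5ae2baf5aa73aa2b2e24c0495092c23c6754280a3c8078d8f19413aea81058066c228753e10e731d880ba9e2e11a88a41dd4e805bd12867aea710511c723844702bde80008fa8f715e1306c40001db00047950d959e373b0007c65824f75d96800324a501653d20ab2b2c000448688ff91e7b2b,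
  nat_lit 0xe196c32d1b9b78d4eb740383ad0b3d1498f0f0c1400f001e6eb3ecf205c115222a003e1d671a611393745044c07b3acd219020203e9d66028000108d611bcbe0003b0e305580aa46bebacbb3b7f40fe746c0baca3881a6434b46973ac96680004f6493369c5800009c2137846029008db77669e59922c26c84ceeb1ece9ec7b1378490029c005800e758d6720028003bb148440aa2e0bcbac5b3861b4c365898b1877588bfe0968129c26375869bcfc398543ac247e2d385e7dd60841a2c64cc4eb002d062bbd8b05f2000588450b02f600000b2000464983d507a230145fe8b7905e966e0000099009703c19220f4c1ed06947a20eaf1b39d658396848251b5d5da7d000c01b82eb1d5d14b80a105aaeae48318bb1468757016800009e917813430a881534a3d953f10a4ee5c001d9b02e205c62461690345f6c4cefa400059a8004001a04c80978b4639b,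
  nat_lit 0x11c322215b84ebb04c927ea47f48faebac5c4beab1136228eba85d0a9d425975d2262eba0020000820304087420001fc41b0a1f027704ee60c7800900203524ecb9f675ddc8121d735a08d765a4cf5bcaf91732408eeb96d002a1b5b66b70c16d023bae482b36065d68bac3ae304083c68109d7103309aa433800081f9567c10850da0000c740011ed73db8d0709a4934a5a412940004f4c833e0674d3200003e207cb06059fa9c3cd849b0717da2fadd6ed9f8f853c0e8d69d6e0a880050918c311d6d93d89a65566c30dd6d0ad418288c6c301d6c8c4aae66178eb6009124cb0c075ae1f434d92cbbad62bc090eff29c02bfb900080029d6b59f1710346068cc923bad52ea256a4915d6a0c9868e77008e48000acc8ba81a9c0000284000bad31a7030d461992c000002d,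
  nat_lit 0x7b0d2659f093e0c8f20f648cac761368c96aa07c956f761027a32f0657156e760e25a000d57d9571760d68a0a7cab93b05068760805a02b805897597b84f7009360ee8000568818283028ee000033080008b7d9c0227624ec852400096fb8406f7b47714b080007b5a9af0e2ded63bab0cfa538c06880d375fefa09cda135312484c4ebf99780022bd684baebf53c026184c175f8418001155d2bbd4440006aae143115c2396001c0045d7d029a87a446a553dd7c863c28a08fc121dd7c5a1c1132a9cebdcb019423d6875ec1566038aa6baf50aa0900120dd7a1d1a4722a8eebcc689890954475e41370238aa23af10b97e70d1a40000010000361e6c515e89ddbf395aeab5da04928615b8aebbed082a8ae0084b2c461d770edb1bb6238c46e12ebaed6fc,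
  nat_lit 0x2ab2d5c9a9215240426000013c827404b823c9190897912c84c22af455c80008b900061b9022b0458196100a0009dec06f30dd04bf0b2800086e21a3e43906cc00001686de06720ce8bec3b2064506500cb81bf037f763e94e17c1b0397d5763c8ba0de81bebb1d0fc07e20fd5d8e00500002e147d1c3ce00dc36800000a8000c3af097912f4b855915c2df68bd69600083ae102420403434686026904cd6940004102820446d4c2c5728000075a3fd61928e78101820246ce09441259276103e20690af9580762d692357d1ed8d5d257a5a30ac13b15b4857b2ab55f218f37798e3c85d8a5a38bf117d6ec4c1f86b0158176240ae0008006bb1105b000240c88198c9800046809af818119f9b0f29da53a06138c2200056721f5c45c08b769a4c3e8000b8797b62f540000a04001a5ad6874eddc1ff84bd62e000496b96012c017a36b4200052d4a88d80d,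
  nat_lit 0x768405a00041d1988b02400000e7c5600abbba10c2c1850c2882e505c2ed027a00030805767e42493dc4003b3e003254c1ff5d9e856800283c6d8a9dcf0af80012fda5e5c0140000d931b8a562004c001000a76746fa4b0c9503b390821e645f60becbeb00004cc000381a983543a62000674c000004000025d04b9d53d28feb4d09baed3807497dd081aecd5e2866e8c8019048d59dcfbb34b4c0a0254c01fe84037667050a2dc4318864081aecc9cb0000800a76620082844203bb300c30000727015b95b403080580000a140008d421a7a9343566021387a5cccee5dd96ba3b4d16c2f0fb5dcb3b2c2b90ae415b0201bb2b259142028302013b2a5f31308fa9c2013b2939306700cedd940643b2702d,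
  nat_lit 0x4dd509107560e81d8976bf6a2a35146a9d8776bc412f044ec43b5d36700087621dae0a11d7d3b00ed6ccd8000981f2ffc0821acc0000168a0614103151ae7a8d176b36a08579603410276b076637e1186a8ce76ae3d88ae5f8a9f3776ac17e679607fbb551e7000005a000cf0a9e16492ab0810900011e98380870093a40009e99897aaec8eb00003efb3f90576fbe4f4928c6395e6ee86d43b50b4f3b9e77206d43b4f4cb7996f321da70970d9f1b48ed3434000507ed769806200013d41f4e0fb47c40ee01d922126424c84de2a0000b4e000a0020004bcbf6d52f14d0c4002111121de27e04fcb5a00032f4c5e9d2bfb541b340004443c886204571a00026240c4680fb170000005a6af4d4107e5768947221a83f3bb431d7,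
  nat_lit 0x1a03c1695450ccfddbe0c8ad926c0ed89e216bb7b3b45170b365b16bb7a20657d2c33d865bb791ec827510b1b14bb785982ca8c846214bb775f63946d8a5dbb02eb0bc884eedd489c0003b7576e85a400040b4000a69d5a6eb47ca841504a7300007310e6289dc13b0ddc9a614ebb1cb63930db1999bb71b540a2d10d2268b03f6082c305db85a9a8936084c015b123b6f8a53bbd107ddb704394d26c3eedb422ced5b32b76d88e305adb10bb6b3eb0002002df21092f11574b80000004899549a001c8cf91a236b6882e0b79db4ab63c4f04340871ede85e805b0eda2106023afd76ef2ac4158682dd76cf6a48aa448608e605b4ed999d410082dc76ca86cf00416a3b64413000000230504c400011fd3050f184000142800109ca97d1317898a8860000138cc161828539,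
  nat_lit 0xee640b43e11d2e0000828000d9c0b2b3442e74d5f819ce4b5a000510953af3215617cef581325ac800121ccf5e522a812d026500e00014eaa9d13be6c44b510a9c95387728df8498c5e58bca2350ee4e74c3dd2ea72c4cee48944cc79aba2c4eee4426828b0002001cee425e8001000d771e196ee3802038806100c2ac889f6c155b2ac400023fc00014cd299655844cc00000080013a1c53510640002a602abe7f47431f7d2fed5fd6c2fd85e3b89b585d0cc079a0a800c7712ee216e5e63152650d4c8059a5bb87aff233e4730e68bef03a3aee1ad5cc0a181361b0ee152f0d559aa86c6cee10df48ea443677068fcf82db1b3b824f7000462fd1c6a61383505850b095ab000131890a8506400018c05b30324630d5f5027204fac2cd858bb7f56d6556ca690fd9d193a28edfad554baa97053ad10d5b19bb7d83a,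
  nat_lit 0x1157a2e6476138280000081565036c5660ad300100040eebbbb5b5e06fc0df4eedbbb42c52e4e96c4eecbbb30e25110fcf5dd909725b03bb2eec4260d5b9dd9776011ea0ecee83baf031000649b0aecbc16b5d0002c4621dc1ea07b5c7d0000156faae1686cad86d71888aae854b255400083bad77596b6426084b1ce539c2131825fbbab9681d910bac6768cea77549a8b460f4b9e8c3a3ceea6415fab9ed07e32eea0eec3ec87d3774e86c0014006bba61933a287465dd282791e33324ee9018025e84b77746610f3900eb000004400086ef88e201d40760006aa7555091100022a2200d81cc000a1b517a254600020d036303850414ef4ccc7198a773a7ec54f8e7b1d08773822e9b8cd0119fe77361ca00203e2bb9a1d8,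
  nat_lit 0x419f8920ef4c1c9814b68b77a489200007018e053e346a48d1882910567e4608c8000251800000147018e021d9b3b3408ced98006192c45bc3ae475f3223601cef3ed9481830975274a4e2172bbceb645440a879806bbcdad637cec029de602c01f55d86ef2c1a1de5016800127067fb0ff8af9147e68fbed8c00012541738708f9e4baa0ebb05b40b59211bbc8b6241aa9fdd68f4250418c700dde3db0beb6322c9091de32a218d531acef141f9de2817577880b630bc618bbc336f4daa8b640019f5bc812f9a5f3d0d6c21800016c00011770afe97e6e753c025804d58716be000d2e513ae27622e9579c0012edb3822704ce8537c00015dbd0b30c110e680005db81d30e5d76c016077c0ef85dde2548e1e02d8eeec6412e2409281220004c30b97a0e900000fa0001f8f9cc03e36346f5447618000298,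
  nat_lit 0x3f609bacd1813f32133f569a8e074b58f7bda47752ef3bef8b82400481c905c0c8818c8a59df72fe92a583e09761df698aa266817eefb0080ab5156e77d61f800212ec3bea0de00010ed5973a8334f365e4cbb8e4c00024cb6a043d807ab800153029ee72300001758000001685e4e49274000b36d25e68bcc8b930bf6ef96d9e15805fd77c81162e383003be3471855617f1df12098002008000005af8f5056a0ac652cef81e793c7384f8a7d1275def94da0dd361e6c2ddef1c1a6566d30ef74392115c49a77b81f885bdb4a3bdb0bb7e26b495ded1710003816c986d30a2eb02f4727600092fb20a04144d7520900009d7a3af657d111c00025f94ed626a97d5ab7356f77ac06eff65098b28a77aa3a884a5b463bd40d0,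
  nat_lit 0x19fc2fd031167e11078acc159769a88bdde05d49282a3f98ff5917b3c0a2af434487690eb3c094de11cc238a0273c084b72c948bd1e0391e9b4336666acc9f7800040500005ccc9f697c17312e8c7f980001d98002000eb91161222e57af0002002d249841852e000005a00281f685ed11a8f00490086690c5119cf0013780028168c0611962330a01940607f6000a3b41d983b578cc00040dd71e2e3e07ee0000b140001ada07f2b9a5d1497c27f76e7c22b9dfdbe09ffa153c030de073bfa27940120010004bbf94f1490e927c4553bf827a07b022bddfb8418410081e2bcc00123700021ada35bce841d0b6564a280386db4000126304c6d60cac1a5926da800009bf937525ac88e000c004800d1144efccba83fd180e1140efc927c2f2089c77e25c8f355e6a3bf004f,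
  nat_lit 0x12bb2582c769b733c299b726e47d74f569eac78501607710ee844ec784e18a766cec736e5784c2fd0b21491b2d2784a258482626f36e47848232726db633c230c300048c5d74aa0c8000008568aad35a2b2aff4eb28a851513c21b6c80d8a02913a11af236299a1e104f9430f5dfa9989e0fa3d2e855d0899a1e0f0e322f74cc6f0741ec00522b578380dace6932e3c1b03127a44f4cf559eb2000618228004fb00020324608859400086d800200608a48d829b0139587b49d14000802c7fc8a8d1425a161b6b000000bde7b906002b2ec706e8d9e9b4145d0f05536de0a800d2cbb100de0a0c89b0e36230c098213c1347245530cb1820bc123ac000093153872a4e30f16d44e309481293436a000a414d43833900020c107690d580002230004afed3b8276c5ac686c50d85b4800167f2d441a87ac5a7b8,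
  nat_lit 0xe878a365c6c91fc180210b896dc3e13206cf11adb92e81c11215a42996d61707788af0c3f522a43da419f240b481a3c44b012af4f3742ecbc434375bb2fb8de2105b800202d0006fd9dc2e241e42242480008d6c218142fad5ac95800086850d08b230f3c0000169ad6431086194fb3c3d88e8684a7e5e1e2713dfe3a6cf0ed540aa429f87874286755d4f83c3921d6440a7dde1c1010004406080a904e234b8f37fcc0001664000114924687c2602c39807383df8dd9ce58bc3578a3cfaaafd64c2c967f2af0d1fb9af0b763686072b1e199fe9d44476072b5e190629f98236646ede18a01be5d00100035e180791ca23940f0bc3c4002bf7a5bc20fc0010dfb92122b886f513a61e3800043000008b1585130bb67e457ab80e170c376630af0ae904f54180226144a40946bc2ab6d,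
  nat_lit 0x6e4c651be5528e00029a00008aa6154a476940848296bd78c40036057bc6139a474710b51a33c6013258d0bb76056bc5f17478bc01006a9023000000b0006a6110ec21cf40890a800094c1ac56896eb424d18000a98387cec1a53cc000245348aa06c20b441b36dd7aca26f1eae15f278b36e2f3487d706590cac5ad0b59bc58a32413e8281c4c978a78aeb8099d8bc33c560261f403e95e2a90423582f0cf15087400000400005d34dad5b5b403420040e481c164100014c40ca61945937800032600002e94633a320ba27f5c929d2543c4f7ba7afd154d25524a7789c8c0017821c25df789a0e818b8bdcbc4c0663fbe84bde25861800057faf204108132a9c2486e90e12bb1cef00036e00440ff59cec000094c00040059ae0691cd7d585a30b87f636de00000063c7e10a,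
  nat_lit 0x3f2c6e84f1fd0d970db74278fc8e2f270205bc7d3eb539d0b15e3e21a9edb662cf1ecc207e8046e000257650b02360000010000205a5254342bd241db43b6de3c51abceb5d9ebb110323c776384cb70e1d032bc7640c00fa818de3a92e8b6e858a000c01400014d52f8826a5359177c35766cadd6c39b0000b7500045349703873a8b60002534a1c72c78b7400000105351176001178deec60028005bc6e1f82f72f1bde368798008000c17c82f825e30e5614c97b12f980004d900020069e37413c0160000010006000e8b5e27e4f22c0a6bc69b734aae30bc61705d30ba213dde345b91d593ab613d1e339e98144029013dde333d2075c79d0f19438deb604f478c835000142753c6300a,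
  nat_lit 0x4577830c000216e0c0418200003080006bb4ccaf196079d517400096ac27a13aea1ac0006199bf482f0c20c000176943060045d98480c86d10d7221af25ab25020c36748b67a21f3cbc952734e1a9c49a5111042212f2520662454488221ef24d2dc6b38d6a792415ebcdc884bc910b4000aa8088210b3e096f6f2464cba90a6106ae0d51fc40000b78000229ac539bf867f0efaa0000d9f196702314d229b811082224a491085e46dbbac015e88d396262c4d66e9ef23214012f80057918f22d14a062374e791414a4631a22bc890a44f0cdd29e4402baf326e98f21c0481d903b44268421483f0001600008af2340000410000330114e8f591eb07e5ac90fdf9fac988e000005e000925da4be019c0340c1042a953b16ec00060d741af4f7687c000128a82150432ec694412874255745edd9dba0bc807e6,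
  nat_lit 0x65c0cb0c904e30056f2f5bbf3cb9980417082f16d934cd79712004f7001a3cbc6ef8f2dee041edbd1a6ef4f2daa1d67729bb5be4f2d462a11c36318b0af2d17894a7b76679661e29b8e0d0a6d46f04ad58000dc000036706d87960e2c272170004ce0db690fc91f9662c00054b718f01f00000cdf97028093382667085bd0b72174437af2badfcc749f49430e86f1e568d91a8961bcab59e561b6c4f655acf2ac3f50bda17e79541f86058c0c3ca9148001485d1e54005000184a31528014381bfc7841e0005240c913f212bfe00012dc0009f1e4272df59435286db7e00001b643708c282a9e85c2df4bbd177b0d7e0fa01f6bca3b7c11ec23dccde119a79456f64ae12b8919e79421b811cd2d3919c794031a0e7c8f39198793e80e85988ccbc9e04413f0f3200d12c6f864eb64c5778000b7a,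
  nat_lit 0x6b9be68038dc0db833cd7b870020dc4d8d0b21f79ac7fc16e02db34be79aa26c0414ba8975579a825888e5c80b79579a61e4f355bcabcd206679c6de5de68848000000801527ec93ef27df4c940002d800000858264c9938a9c42b26110000108000e099a0164b480cfc19cc195b8600048fdd66d8f1c29e00028fee2a1326a1d500008fe4ff209a9a42348ee07526e17972f2c58f9e64dc280094c509c98b1d3cc8b843fc67ed8d7f163a798e3acdc05fa43cc6336000617202dea6fa217c42f0860dc1800264cd16e91ff89e8001895912a930c07580006570cada02311c2e104cbefe28c1b3ff78b28f30ac9cb73c1a45d630b195afab6479837048a758feb1856f0cf3019d530db784797e55c7775a69bcbe0604c289d51e5ea09abc5138400008ec0010b74137ed860005ef62cfc38b,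
  nat_lit 0x20080004084010aa55903280632e300008016002a8be8318b01800012d0d4f614b18ad1f212ca996a081a1f06f54dedde78ab605d953b4a76601f1c476f68f3c2e2e029b98e8cf2cded9bcb71f79df71506e4011801979e0f3b9350617b1b36470f3b4ba5fb8b7b379d886c7d49a6b3ceb22479dcdebde750011f816f62f3a5190311371979d086a000c018001acda809073be251165eaf5000421d843ea0ee5bc94f600061b9b52c0360000a5f54c0025acd6808844e089cb50580de78dde71dc4a62383546684cccbce21f5407a0318064bce19817dd70be1e700e73e33455af37cd9d3112bd779bc2ec254d5eabcdd1424c52af0de6e1010005002204300d8002000f1e5c088173cd7f16700000920000406ca2d446a90e516071677b880000f3b158a2b1738d,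
  nat_lit 0x1e543c79e8929110091e32f444171e888f1f7a2032000012b68ad515a297f9ad10d6a1af50a085f80008d90f151e2e864d0c080000ac00048891113b585898ace8210ca17eb930002acf548fa601204d18a00011112221148853caced48ea91c001e0054be117c3036006f91a5bd0ab925c48daf14132822467a8d09e84dc89e4c5314a151e841e61816303ef41c1fcef8218b7a0c4225d28ba73d050a424ba4985e8214288de11b8f40c640811833900060880000020bddc41562c05f50be917ce2ee40002e4000116ab1102220d61230102edf71e0004b5742e575070ba019a40796b92d71024c31b06396e60f3fae38b54087e10fe5be4004bcfe79fb71b025e04b1eb669ad14619243cfc957855eeaa2381372e6e5af3ed66cf471e8f4f2cdf05e7d2ff9ce339ccdca9e7c8b11c5238a0def5e7c05ebf7c6f7ef3dd1f9527b4e279ec9ee0001e7b3cf5281,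
  nat_lit 0x439486e00020b71ec9078400098400013020b26564da7ff81fc62200009369273298a50ba280a4b1494285050b107820ed1f6cf4b196162730d4715ac38000600107a56a9111a5ac029cb0014003de9554b06920d2224b0660bd2947418123039e9401402047ab0f49c09411c0fb17a4c3e8001cbef0fae0a4000005a000018a42d661c4eafd872c261b980632157856700014905c48b88ccbb80004b70002dab80053d221e56412ccbbdcb8000357d00ed4dfa7b36ac3c2c78418f72ff97a3f72c04f009f9c1c5feef47a6a84c288d811ad1075e8ea6c82377cce3179e8e09d8cb219669a99e8d896000002d1ef832f465e0001b9500085e4217528a132d00065e40b36901480e00045e453bd00680012440488c09000014a529462ae5e355c6ba7a5594600078dbd14b947a6e05ddf56bd1330c,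
  nat_lit 0xb4004801066ec338dea6275a9f3356a3371ea58b18dc71b92338dea52ef916c19bcf5250b85548cdc7a905a4198499243e90bd000068548a205e300002140000d35257a8d38857e09c00f07ab573669aa35e36a56d48f51476da3f38f78abed40dea2044922583dae1e62eebd436fc34d6cea14dba9b47a84594fa71b93371b7a82f7c91f523fb71a7a804ec1c3db5545c27a7e13490f96bdb69d7a7c2e81d1e2ebbd3d0cd8a4ada6de9e0823d3b008000a05a0005569430b5592c110f1084f704817340001568ba9784887f673d8e781b7885caea4d3bb8fc07a71732b769879374261f2095412d3d3768d5b5ae6d92d0025d04b2f4da21034f093d4c683ee1e9abf1a7b31f70f4d154063f8c7e7a662ecf4cc7ddbd321f44b4e3edde9882c8000001,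
  nat_lit 0xd491902405c4009b1aa5748ae89693b0627ad3740a610a8e95174800f5a2cc81d53dc447aef59cc3147a30617acca446ec8e443d65211548ec169eb2052000a5324f58c15d477b05a7ac40b659314d2bd611fc2af855e924180031af38be92180010bc2487839800043d1700a47f0000342000ce4c1c9444500041f082a997c8001531464d00480002932525e1090b497563d595a9423aad4deac1d8b7ae7038f55c041eab00080022a382c4e0d4000404e2a0846748cc86fe0dfb73e00180060abd43f87f74cce15932b34dbc4a893d54b9e2a2c9bfd13b227907360e60a873d53b9d125e24d8aec15d71808301488a3d52b9c020a56fdf470c042226f545de4ed32a636dda5439ea8516000051c0a390e6f1cd9358b5e8863c9180001010000248c479993a3037,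
  nat_lit 0x2089f88ea11d2fbe0b92429e853ef61ae893ad32ef5070f61504916622c8506af6114d48c741207b0603e901d41a3d8202746cca0d5ec084c000a3e92f6000c400019e34e42148679a21c000028100045d5201d2f1148100025d3cca1401627400005d30f7816b97522808104820a3d7b87e4e3af7b824ebd7a25a45428958f9ebd791133e507cb5ebc064173d3e80f5dc709ebb0168000008851aa0dcb8000017dd2a9e552400009f00012e0a63ac17400017054620b3a5c0147aa3272fa05f29eb8b7d0008001e596da5097c77ae1742beb85fb0bf12f8ef5bd9b148a9cf72f88f5b911c43b975b2f68000c0dd21aa4364802900c000c0c0002001e923cc8a191076c00020056324aa5102e,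
  nat_lit 0x9161b1b7b483fa111cd8ebda305725b66c61ed102da732363cf684dbcfb3149b294668280012fe00043ea68050ec69da16cc44b8ee9c00199da5218b1e5909332a090174c0008fa7c15f46400027d4cbd420c80008285051104cfa8aca7416882d9426b5bc7b3774a12b5937b2f5305a60a9bfbbd9aba4612e6dbcdb5a1055980f6669e15131fcc3fa0a921524bd98543047808c0116385c7b2e55e202a17646787b2c4f427c5c2fbd950b50006f655eca0410001825eca057252bf7258000061dcc3c451119b00000020004f739ee503c7f80fefc2bd858085cb19c5ec84a2c16882ce82e551fbd8f3c542a2cb7d92a38587b1cceb03e1a1ab5ad7b1ab829c6db4c3d8c2e45ec6e151ec5957284d709af62802dece38507b1209eb2b16573d88414000286b8590013eba3,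
  nat_lit 0x42fbc5fc2f1abad000296812d12db40300000010624cc49185730acf6fca6dbbc97752ef0f6f9178e1c459b7b7a1c63960c083dbc029309e6149edd87e0c072ee8f6e852178529b57b721bc00012d483121f056df0b9800116b404a088610e9f1014b3557487780005d60001195832accce199a22f245caeac0001c7850c80306f8800600138a22beb123e1f527b69754a2e946ba9195efa7d51ed9c5483094b286c4cd893db20e0241e4cdcfa8bdb1326891d0551ed807198753caef6bc0814089f4d7b5c350480cfa6bdad0a856ba7d25ed6005128c096e00000a0001844b3392107420c84b6096b752000822294366a1a8520004222142f2466b440000224a47a37b224e1108a1a9a6c665aca4cd913da7ba850deb61d2f51b1b7b4cc8e0044d8f3da51e9,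
  nat_lit 0x10ba21740a329cf0000288217b04d47e8065d0cac1951eee9e2873f0e6853edeee21b80060012f76c00903a40257bb4828c2fd02820533b9852546f13fc30001768000056d161129ff6502b66021c65800004f400046de3f42014000072ece5e9c0000a001260cc8a8bdd59a8046e11b84af3ec37ba9766391870a0e137ba62381920327bdd210a6220b0cd24f1a790000c9e0010f6996352c6225484a80c9034db764000cf66c16442fafc6c651cd600023d9ea1c9038a074353000277b4ef301e00003234646012cf64c16042e2c0c0f349e673cd8f732ec504c1313005cf73dc4a3dcbbb08a86cd6d9ac46af7b9511d0449b693dc93675f88e249ee40a135186bd6f71c16400000063a86b9a00315722e162b4c544a085767aa7286c8edddae7af1c000575e158c91f98be704cbc6c000dd70000008,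
  nat_lit 0x2c125b20ba914168268aef00002fb158b88c386587a10f3e31e6cc5a2b2b7117bf4e9c111899e005e00bedc41efcbfab38e5ae4b5b9c623df84845feb1b81efb9043dfb7182f7d87d1aa6b61c7bea66c001d290426932ca06adf8233b2ec86a2c417c8309b990001776000456a17362ee0000002f88c116000107e84d824dc00014280001ac024d4ef9fa78de31bbd0dbd509a7017bdd77465188b2115d33caf7b557cbfaa02e7bd804a1dac3b9bdeb208000e0699ef50f99a376b16d629fa60d6501440006ee40018f92095a1060209040f10c377000087c89e5a3ca20296edc11594d1000a0030733976a033ef79eed9807338f0d32f829ef340c0f901cda067def2996921c11fc0689ef22953de302d000217ca060195c39e273e00002f7a5d859f80580008004001143f468a210842224bfbb5,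
  nat_lit 0x63f758472228444c22e445bde100021fb41fa9a400008e6c16247b800005c68b8b33f1faa6be8d7ead3c81b66329f0ade0856967a49958001000b7c292463e34b992a74691717bdf09b5e45fe724ae49d32b8000a24000220c236037854ca7780000041499850ea105ce5658c4a25315ba2b89f085dfb25969bc00280072a16609ef83ee5191fae74608313edf074490bd451bec129f069e6182b306ef8301fcda144fe7c1617899418243e0a057307660f1f048018bce2056436c00100e04f309da0000a14001000b135201e403b05260a5777c000400289fc13f665a0000006b39c67342b4003d61428b242ec04f409f3e046f208f04e11f01a50c0262760f808008bf493a57c0209e000d5b3456945d28bb0086be18bbd000519a99cc8f8000000834dd03f8d1309a6000355cdaec4d080001e6,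
  nat_lit 0x2b0e958f1cd302e000005ab0a4e989d348e44f8d0725f1cb9007c6604c0019f19be320258a26e3fdf188a1c1846e8ef8c01a8e75afb77c5e0b2001c0b4002837406e22d1d2b4877e69d000225608f8920020ec41f083fde2800014f4287cc35f9b9c53000093c0000020e2a2b1b0c6e18c4317873a0e76f8a65a8942127f536ef8a0c7414723b88e28f89c7520b738f37c4cacb0b51c76be252eb4c6898d4dfa85e97d6efae00005e200057d6496a13ac05f0a70000816ec2db9e9307286be000934c05be03c000001016902d611ee15002a08002800d7c417866dccdba0f997c3e996170914c0f967c3cd850761fdebe1d12e0fe23e69f0e03d173c1f2cf86c0c453e0a7e117c22e4000a050000008,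
  nat_lit 0x14ec19c3e5213a00081cd039700a00036a7ca69cccc000800a183c0c000000051a884760016004d27117207c9d10cd4e23202c082e3ef934afe01d3a4856f86d6df263960c1e61166d61f258962b1b80d84e6df2511cbec336aef9241981ecad84000086c000c01b2d84073000400d87ee8e28001006e3f1c2140003e4a350041c00c01da3e441140014fa71f2180a80048bced1bda3723febc80006d16a3bd403a5f60004d168e3d02e800168a6904d7ec0002c303170576bebd8a23ede0cd46d6e14abe3ebc7001c73f559442b74a8e9121f1ecb8a4ce2e1c681950b0ddd1bb4f8f2f18a94a4477c7601671ece523e3a20147e49111f1ca0980001b9c37480c400081680023a827508c83158bb34,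
  nat_lit 0x92dd47f23987cdea6c28a51cc3e6e23d41de8e61f36841a3a24730f9b0a04003970c427e72e0b8df71800106f00043cdc9ae84314f6000231b9fd6cfb00005f9a141850a3a0034c06960d5841abe67bcc417e23d847b94172788f99a5d8dac418441547a99f32b37c2809052ec9a0f6be643e63ed6878d0539ea47cc6a17124c0cc01977cc42fa7b10f51be6101a000207f035b16b81b1efcde0780003e8d0c3857607f028f051f7f24000502400000400014ce616682ce0dba54122b305f25e580004ce670c4be133aa67a25d24bb537bc4587cb7794000a0bdc4577cb579267fd318c5247cb252e000c3c63edf0ac0a6287fc001078b269c6d5880c00019647e2c0fc6594004800d09d413b419b3e563dd0a86152c5ee83357caa2240d241a203367ca88baa45019bbe5354a,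
  nat_lit 0x6d9053100031bb7db0811102320f838ea71e4000a7e42c173f8bd260e71c780000e20000d239247359e2b3dd73fd398002501e98998a33f9214bf7a4000540a34a348c77a20001408a8162d103e407a00f0028c7d0c7566d6d5efa1077d0ac88002c00c3e8405883246c11f418e13e8202d00080cf00273480002426284b532c9af2bd00002b63e06615165290000b6300098f7ad907620cc64e2e9c5c3d2af9faf3df64995e3cd4b5c9f3ecd480c45abe6d60dacbe7c6fc03c29ff90caa1967cf66b8ae10f441e917cf41a60010f479e907cf24c8125c24ead6d7cf02e8fde96b63e771047cec0100000020d819b041ee2508c2733eee09d40006f3a06b95e23614000104800000db26ce22a037498941653efa003c008be72bcd4d36c0dd81a45728552f9c51ee136a65c4cc2b37d1c9be7081d,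
  nat_lit 0x3798b3d800b0025150e426421d7d557b3075cd33834206826611f54d440a191d4507ee425421b7d50da8a864ede9dbe7d4e19e06d0ed7c2127d4c31a46bd5cd9dea7d4a845114cef7bea43300007086cf0e2cb754587ac00091de41992f6a79e0001f51a12e8af694a9bf55ec0014003229d8625419867171c789061212839cfa86f5d1dcc3a98831106553d9bc97d40d4e5b00b4a969310b62154de53e9fbd68cf2b52228a23473f61072df4f5ea95a281ee6f15f4e9609583353cfa70e84bd41a587d360b81b2c3683e9a28542bc6ef5f4c8c8252e377cfa602b4001803000306c1133d7d62faf76c49ca1ed8001035a317a01600041ae04660b70000fb8df72a09835a1e28a76d019a01f402efa4ef50dbc95702ac27a6108fbe928cd147e28ed030205d7d237a6119ca74c0ef423afa41ae8a7b14f232e0fa3c58809601317d1c4e4002e133be8d082,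
  nat_lit 0x8376dfcfb1ce843ac94977d8c1485f5cbeabec51e83592dbe1f62001aa646c9efb0c7f0001004000002d00041acc3590d375922cc400043ca879413469abad700000fb61f825a23ed880610117d7c40afdd5cc4bebd1ce40848125f5e012c0178f68faec150129825d7d7466c243635380013308a2eb93000000c000113be987530e38c57f8a2a7599ec64800013c04bb895790b721722442f744f097ac000003e0000ac6158a02535107c4486610cb56d28bf1f5a5ee3f1b239f0349cfb44627d66e201ed9fba1904320e70e1f595ed9f713ee507ace1bbeb136909567f45f5827b800b56a4fabc208000405b20540140004020000b84872c0ea555a95778000708b1d5e43d42d94a770852291da1b78a8d1ed5c0efabeabbda,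
  nat_lit 0x4aee1d70fb37dc83d842ac7d8bee3227000e3e15f7100880008136859d41d09607450e8c2d505ab000019e0004002cd411a8387aae7313130c0bb4b0002002127333a18b1a0f101e542c2be20000001e1a08be23fb000b16885ba01eb7dba426b40c0f43edc1fd7eaa078df6d82b80026ac293780d8000b5637f140301db03b7a4a65a86ccf5c41bed9be16ac05020a03a7d6638cfb618c121fa43e4a091bf9f6b9f40718709cea25c423ed66958624efcdc403ed549d1746e63e3c23ed41ea85e6e5d5c3fbed35df67d12045c403ed25f68616e1f1f688f392f070fcfb4089c00542877d9e3ccb22985830ac4d5a8608b03875e00037c080bcb03875d00017be0008933c0c40ec68a0000493546e902400003804430158c0bb24e648c891a2e8d8e46fb2ae44007c2158b6cc3222d9b7017d937bc79d9b7f3ec8522,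
  nat_lit 0x25976b8750640000042b83130025f07791c220ba01721f805f3c4fb79152421a40800a7e00fbfef9a151b72f8ff6fbf86c113a22724d9efbf4e05714ae677396fbf038952e2a5b7df625d1149ce3befa1ae80bae71df7c83d26688fecfbe00c441d0839015002a80001bf80021036206538fc820001674ebf20e4800034968d0c188cf61843baf28fe2fbd0f44ff01fe9736f1fbdf79cf89fd9737efbc884a224b9bd7de24229c69527bef00a45fd6e6e9f7782dc0427370fbb82b47f62a541dbb01ce039048a09120002f9400116fc091a32600048cc09a038b00005bdcd631fd16f82e9c1d31fcfc085810efbaa9021611fab233c3ab47580fb97dd37c8caa5b08329d80d23abc7dc3ee8be386fa98fe4241a551f16fb9de804cc099513282b65f73212087410ea38847d9bee5aae,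
  nat_lit 0x20fc849181239427ad7edf8fdf5c3053418094412cacaf6becfc7ae2c8f2c87964c2b821703b2a07e3b3b2a14c8b1916a05200a3d44fbf1cbea43771c31f8da1b3f61343efc68008310359a7e32403037dafa3f18223000000882d5222002567fd0ca0e21000050b00047dd10da1c409e400027dcdacc3f9f00900000107dc50d911b723c688cc90fbf13be9523016342c73f1223f8a9e487df88aa53f980b18fc402ec00640f67e1e0150bcd82600004350000be359a8b07c6148ab4004400aa67d3114560df86df4119122d245a0ac13f0c3770c38625cc4a15857e169305284a6894cc2aeafc28b28bf8921d2430fc25b910ca19392afefc22454c5895792af0fc1c6b485205920b20fc1a5e8fa9957f7e0a3c416202c73f040cb7e06010000d65e2e2171f4b86170b45b5899,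
  nat_lit 0x109bb136c5f200049b8000e44400004da83b4809136f3e327c81340c3d48cc0fce6fbc0068c1763d3197df9c07038487097197df9ba622b7756f0fcd83a8c4e98a27e6a1c8a5ad4cfbf340bb2b6e56d9f9986f38ac71530dd800026b000306c2995d32f366338d21dd83b9df7000206c20d9d266997000106b51980068000035863d61880d6859b8b350c5018ac002000c20ab16dcd663f2ebed8c9b08b8d66bf2d437180108adf96043899317fcfcac64db103622349e00003c80010c1c183a188c3133d080014724b1c006083baf1f3ede6e1cdc239f67e517d88e391ab0c79836ae7c1f93c620cda841ee7c9f9324837516ef0e489f9294b8ccc73e2fc911fa064303c7e469ee4104822bf220b4000635f86c0171f59500040cd419c22d346e0002fcb805480b60be,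
  nat_lit 0x15533818fd60874b97172c7eae66c4fd09f800000c400024bc863a409391369faafc8000078f0f1a10c4bc018f83222f6e39ec73fbf54ab81f063dcdfa98fa00081ed8fd487cc0030f7d300041d1451608963c2c7a000129c00041a177085b75908aba83970726bfb81068000627000311c982339b7041b0c80000b63419701a88e0c11046088c83dac983ccee8004001a3219fa65f88f7b1916fd2cb856760c877e940c0000001800016632cca030676130517f12fc2000212c0011e17405480acbfc41e063b0002786579b189f19600007844f071661e12685a003c008c2c23c5cfd1152237f268430dafd0e6049f741677e849c460d4f16bf4117630da61d1fa010e96403c4cfcfccd918eabe4500aaf49cba0c89190e0002fc0002103d00ae016cbae4bf800326d89ae95ad4613454,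
  nat_lit 0x4fec90f521f3f750e5000a4cf1fba0cd3f7302d1cb039740000fe80002f6c5ee126a4103d259322f5b64d4c5611bb0fdc6fd8b3c8009002499894faa9f21bb2fdc2fd60ba4173265088286ea3f6fbf42fcc37846ecbf6e70816b02d6dfb6811802a1ba8fdb03f46780cfa7ed6300bcad797b78b69b80004dfc0019f228c5b1b81fc0c0280023e44c581aa281700013e41014837f10180003e3267e8b370939f1f62aec55197b3445866afd9ad20fb3b9dc90a2847dfb2aea80088c269c8d0923f649f183a85a5d0913f632c12bec84a9fb11d0b53f424afd841f8f8b21257ec00aea48108e3f5f0034caa8465faf04242ca56ce0000084000264c4ca2ad8c7362d12e3b5c80a8d0f251ee93ddafd72fcd2ae99160008002400616e57eb6a905e5227444eb7eb53026928d25bf59550,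
  nat_lit 0x42bafe5c01796262c50dbf5fc95fe9a3a8f72dbe9b7e3f917704db4d6fdae247587f20bf80ebc1dabf8f0293454b675fc717100000060000bf047329cbafc18ba6b91199bc82f3f427e880005fe0001363f0a45e102fd671c8821afec0000c8418f6b6c5c68c019804877d0efcd751aeb7f137f4179c425884539410f41cb3bf8899b139e5e64bcb3f8730c18e0e3e1fc30f48aec15defe14a1497e39647f0802510a5cafbf8336f1e91045e08a8f64098e1318000ceb99dc0b95003c000582000127144818902070800002d1f563eb07e797487efe9f4dd5607e8eb37efc41a3a992bd93f67efb7f20024e1d3f7c0823ece8dea1ce95df00030a800b0018bfaf2bc800028b00010dec38ae71561e596de2dc4577afe00008def1f6431dcdccc3c1e543d850bf9773ae085c16fde2fdc6f18d071a067ce9fbbaea394c6e84dd117afbf7640f,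
  nat_lit 0xaa8b9657f5e0a90fb1d3e3fae06a20ea8219fd699b00012e3e25844ad1a5c80020ea301214824b64b051058b7a16f100058065c6d5e52dc200025d25bb4b7780004130006d32414282898baaf68e2f4e010002210842008df0d4800169981f783eec22800069887c50c88eaa1d53405a5c18b8414482896fe970055f91bec84defe9119a1faa93d84dcfe8ee55fd101680043bc43f9c7f5130f3e1a21300755f700033dc829e053a418fc0000047b9d32224a910600027b7995c00d00003dbc32c2034f6f8008001e552caa52cf65cd51acd901b5f87f3b7fe96f11d4a3ac7f38798639db793f9b0bc84fa68a5fcd02ba3876dfafe6404989836ff7f3015a001c0200021a0a3418006000d2e122813800002157636426603e6934e00002ad056610a0ab0002c00826e95feabfe1abd3f93bfe,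
  nat_lit 0x403f123eff30d9c00008f17f9643a23b6267337a1be01b8c0005c380027fa0c13d68e86e47010002011831189a80000086ad5c12c021afb28fc8f199e323b92733aff1f01602dc8189244e681fe32a945477b0526c2448bfc536e49502fb45f33fc43d909bc4b49fe1811c40c911cff083f0fc81f8e929716e164137b700075623b947738f6e000233600000b4000801122c240c2ca00003fbf902e00a00407388e743424682dd07bfbd7e728aa97b52f23a0d7f78fca4ed903ea07e699cfeef000ae515c42fb2fee97045b20b617f729424d40d93bfb808b84b6e829fdb8010cad81f2fed904c0000041232245c6eb00008fd00000080004189164a42da38303e400043130923124285800003148dad2d10c4c7429074bfb03b6,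
  nat_lit 0x75e4ebf8f2d7fd2246ffa00200018d151a263cb1d34001016800008e0ab180602361956277c4efdc2a3d2d756aff9702e2c0bc967882eac5ff22a92fdf9276f09dd58bfe31ab1e1257fd548bfe236d8b1b2215ff087e9772755cff8060218e3ab07fbe2740002454c55d08a733ee68da2eb45e6e0f199e0918003c0a247825100008fe8a091288000015c001421a3ebc7d604a2e04800129e28e4206d8a3b61700000994135a4867cb2194b4c19c044cf10c8ff630209419284647c2189feba3a0de389690299feb4c0bfd610c6ff547d000039a89144f42620d9632e140a2a000002c0010c3c8d64b74c28c97780010c39019c0d800041063dec08830f4f2515d82b9a8bec28940497fa180f04a60c2a90182b42485fe7e0312a624f2146a0243fce1dd50e2a1ca058bfcd3b6,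
  nat_lit 0x5a2b17386b700013cc493435a800003f00001ab6356926a2e6bdc48b0200300084004c0e91f10d10e6e16468006dca0bc2023964480043529234c00964380022e618dc2b1055d80001349448b0d96207fff2f414d0b20bffe0882c305879ffe8823ffc0082fc85f8840d88166ea600030340019d31733920a49ec0011d311126224056800088d80a661ec00009459290118129effec01645728ae83cf1ffbbfe307286123cd9ffb174807d1e6effd464c001800c7fe840305fe0bf3ff33080000aa4d60a01a09c6137c0000170002427a2f085e3cbc4a70a2c5f818000e340acc259fa90200097fb2c110ea000239c00413fc000020243c787de13a800c001a3cb9ff6074b9cc73b2e7620babfeb9d320dc3ee0796bfea276,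
  nat_lit 0x3be095796dc1a11dc60004e840070ee000000fc000e0881d7e526436746cd8edc9fb0004263c529940a3136639c95fe0a0001821c75dd48e0ac800002d1318295052e8319803a1c000245b8148e063700706523640ff980c9006cf6628e831880341d43ff46340c6386266bf800136b9c90758d1d6cef3800158d46a6a854ef380000bf000080201810306693a779ce95002b080245648b0337c0b214a229486bf8d78802d8263d607ab8007001c00446bbc015c1200e001b20bf401449f16c82d7200980112c91c350049190e43417c802216eb7a1633800003c0005084d0c5454b19fd05630440000b3e16890980e141c251f4f8203e511b7a297453ed37e3cdc00ec0f26911571c4c400d15f8a5af4a9c4ac00c42a8c4af6c9c4b400b2441e5885ee00514ab226712300240162acb8938010280002cb234007015,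
  nat_lit 0x18a010b0443134002c000020800002d00163618c609866807a1c00414bef2c4930d100f0eca170bca485b900ed2982128f91309d00e9178198984d807217600012d70ea51d405160a2eb038c1a6998b0b400086180010c0b03223be1f880004ba0978c04035d86b714fcb3ea0878005806b83277d61ed9433806b00d1ed13b3c3c3000b00ce42605a0000806432600000b42b88915118a000026400008bd117c9c4b268fa100003eb0000848d5ffb1fc5ae4632cc6560c21221f73071ca16c02d8ac000200c000c0069a4c7590890d3e3105bc170004002c5e08f78001001100b09b0000000b00aa3f800394ffc553459d029029cc028c16134655e9a4134851029028a013e0a81fc80ab00985dc2000403804a01ecdf829c4024253,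
  nat_lit 0x13a34d54000024000080051c9c392c0c00000040007164c2ca4f40aa18773f03de02ce0f33840cfb016152800142d33cfc79fd35c44ed8e8377c0004b879496292a65a0000b8aab2d8b600ca5c3cf5f8295053096985bbc055c1d208ccbfa14d954a29e62dd602a33b129b593ad3045b740538a520d62dbe0292321e6882e5014505022cc0b300006100008c688439c1c0000256c4ac924f7a512b4255cc8d80018ad000005a0000002800800220454db0002000a4f19012c8c822d1b314d2101287505b2c4fb809206317c5e5ac700000094c0008c6098c435fc96452c6c57d58898360004c2998542facca40000bd6c27004439a3229c7050e0b808b2b0002c1a030598088806423c84ac6e28086bc446b88d7c0420043bd4778e02086180013136e6f889f8ed45e7,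
  nat_lit 0x2e88933101e43f141fabd280f05c40009b67c95c1350000010591a05c02b636305064a09abf60003844db1e42a48600000996000158cb6ec3dc223444322d2930726132592039e10828630b45750005c07380e4b723b8476e143963ccc7e2038e10495570df1dad8fbc07063a16e02da0b2d406f536561472e0e5d406e27a4890ed02036857c5ef931501b13de29f344d80d650200115e521b04fd47300001a06310f413614457240001d3000002d857b27f18f831ed80cea291e4e4fc3b37767101991c839f96522c9f01950321cd9cb3395f0190fc87edb30c766b018ceb22f2c97f80c43ce19d9d99c0613ff7350d1060300f32de3001000147ec00013ba6f7b24d04f0415777baa45307c984017602f0587135f21ec43de000a770347487d6e34528ca520001b29,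
  nat_lit 0x10ea21d1812c522003ca3580000180000511a31e4ad78c827f2a810a248b0383500001884000c36c6972ed79a4019811a5784800006d18da48e5ae4c6865680be847cf6c456048d3312800f361e68b19c09033d001254763a6c08f12c2b3c87c604703318be3179023424009f813c868600012f0001435186a6f439e63b4d7499949c0004a1d0e2d48d00010d3ca8f1c587a80f5aa140db940899801842001c0081b718110cfe515cbfd1c4a36e3021dcb0a8c199936dd0218100cec9b71810a1880014af215e5508b04f43a40014742917722f03e3b8080010c2018440d80001b3b2c9009637f87002ea36702e869d0e3b5881031fa4884100820b2770c7d99044080c2353cef071905b20780fe7530b8650b3ccd933b01f8db95f8001180fd01f4e0c34d069376a101f0c54e671cc880f61c62aea4b6407a0e4,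
  nat_lit 0x5a20a1c0000108000c49f9dfc143ed32000849b936930d000224e83071c580001270460d1d849e47f036ac6d54a431483815f850a68caec95d5815c99600200051d8e815ac35089569140ac1d91b4e608a05581f095212acb10a3ef80012420002039051203ba3e2000003889cc84200e3163f06fc5970b2636500b9c1730008002502a309d8cfc77d77dca371434c57957e5029f098ef29dde3c871882053006060250eea1e205288e0e655d74afb20520e5189843b6876a051a23c73757d7028836c002960553b0a7691b7bf400032c6e59041f4000992f6a54d4ae0cda8c0000325457f40d8c95a4e992092575cf13b8b937f027a300b6a223d3f645540aa63b72813b84b0bd9e70bc3c76e30270f2631bbe69937aedca04d9d9002a006091e604d1b69db93b69026438e04dbb6f81303510b91db6c09713a,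
  nat_lit 0x2a19a30e92519ac5aa23d647ad0512000585a11b023200010f18ada143000002800032c8e5928b29c14445400046478c8e9090001617495d8be400030b68762108c2dda4340c94da338ad2ea06424f1d1c93d9031c73206300313b012d425ac00080e07d553ce0000110000137a1623076613429e5b6b858ad281ecc34cd81f208e2061be783c0078647b011c82378184ea21f6093412643c5b030475a0f112ec52a303030b05f18bdc51c702fcab06c50d86817c6ce1f0d4fa48c86f09239cd3d8002c2b10f221e0000a098001268e019a7d8000133e34f467e4b920ed8b823da4977e05d6150ee03c446d9e1dd40b944a05c00b852f140b80f546ccba912f040b71b644c2977205b0788131027102d430c75545d17ca922f09b78002c29,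
  nat_lit 0x486084010f590ea53e2ed60b812221800004a0400122922922524089b358800148eac3948df90c1564000005a8a3e2dc38744a38947d41840e994b24be497473242566dc103a23b0d731aed81ce050935a45cc0e600e1584db7a0728a1000b018703907cd7590907000008800148e8b3db946d0704ef12d0b14f936688306f9c24300018600000d2c478608d34aaea35d47bede96571a4c05dc0e0c2f1cd2c5d871b80be81be63c3d687a8b0f1016d03787c47bd80ac016103740bc0da80b0015f0372e54e4b357f0169036f0b90d3a1a3016d03694aa06c816aedc2d56018e07149ff81b2d4a3a4c31786303dace2f206c50bc5307c44eebe06b97b9c89757ceaee06b143c4457632ec7206a9f9152a7974eeae06a235c5297757034d0ba136bba981a44baa031a47c0d12d2,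
  nat_lit 0x84c694ecd4f0e3e1c6e00030dc00045897cd2e198830e1b268d3fa47f54fedbbb44f88468e084e1ac19065b4c46988dc332234704224cd5b031042347041cf4c96b91a4820c1d400288ba410500a00047c10f819f0d0650000e41215b1098212e71446a48d20135026645948b24103c343df47be4dc20d1e8498ef6e0814c9021e88d8cc29985c1014d220ace172080172455f77ad03fc890ce319d581fc00510b1debc0fd3eb3b88771607e21a916122b903ec88c00000409241256702ce090bca00016e000021141f16178ec84305a2eba8f00000c42000e08cbbe666a0bc6911aa23d765386600080b511e224cf0a91e1400081682d7e5b0ccb8000015702b10d1109c0b391df62c0b41c5260a4b8bc00014007801181e786517894b48c2018470d0448b40f24a3486f146d7d72fa96108245a078e188ca818e231ce1bb8b23123103c246861b091681de10e5a5c48940ee192,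
  nat_lit 0x400b0012d9780012168430080400019e717327160c20184c5119634c975931cb34964ef6b61fa4125c3b4f3cf84ded643f38248b6a4394870c123066000200320910619df646468c3039f073b83a00e580005ce800030000e5c0f865c8cb500008280000c839e8e2d63212008c0109a08823c34ceae2163107a34110474904003001033bc680608e3759cbb21ba435e08d8b9905020a8680e08d030a43a3400680e08c96119d134070460220e501a01822e2450458020001000800034569118454bba977200027d6d4861e280000b7000312e46dcc233171e96ecc97e1d0000338a6728c0d18174de73a912d901b153522de003608861c99ed87b2004a0879068d601ac400360872278e3a001d04348f4ce5800e821816a00006d4898f132c522ca979928c38,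
  nat_lit 0x10969e6f466c83f105166a99d93602583c1da60a239624d80ec9050c010000800c8284186b1053c4000003c0004351077ca38a4f097a000046a3a5b404f987c00006a0a38101485151e89cd2a35f46c61d9209f439c9c5569680303b1413d1a63040862d0c5075b827820434aa34207530eaf04ec958007a42e0ec104e84c844d08930ebf04e47e904fa0a00ebf04e077cdb0075c826e24504d80200018168005001c40148012d061cce39add3c002000d24188d507568eaca480006003090894c6298634c000a0999a1d0d262660004007463828242e800000b400683a34f58b3f16a22f908cd304bf0f61448dc74e1116f5576412ec3c934cbab96c42ae8825ad7c664ccc92aec825849c9089573c12b0500000374a1270bac849a98e3738010800123b00071635a91a24f7bb,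
  nat_lit 0x11770f14ca9282c40e884f1c5a4a9282c21e40ced4ed41600c3000015cd5b847965e7112ecec20dd03d3913ec35d236246f00034e27810f0500000a40002047c08f25d84baf3000000ca505530aa063e700221b328696212ede3999e062171056f1085a58a2a84ab0a9869f10b782b588268fc7490e8d82b276c89c085a41581ce02cc42e60ab812806000bd05581a800510b482aa0b215c530280001bb000292513da28b302a000089b8d0c991248e4f3317d93d12c21583ce2d20a962025e145be8b81c5bc1510e602372671c5ac15013d839ca2d1c5a414f13c5de6f071c5b414e52a5d6326620a682c1a297161053075e0a5816800000882aa023c04525dc0000d920008bd6996c67988b6916ed8d800102ec05bdbf54ba80002f5815770fe1e6bdb4880c1d883b1c14696d,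
  nat_lit 0x2a5861752aca0bf8ad0f795a4105f80146ff4ab082fa280001802009f4198846cf37d826000383a1300466c00001380060132026c8e710fc169c2d549d462400055a34aad866c0cd9c470008f15549e293a608f88c000e33929eb2ea33c8000a338a9ee48b2efe0006554250249fb7460002553111f05882e600c00000b400097eb2fd099d9910000297f281e4eb5c512b1a567646e49a00bf817d0c4c06cc047808e82e188a1709dd3b65a6cb2fad6550c16f6f2145828a85daaaa95554b43a0b762245b74aa705b421c85aca9d82d855c7b494f3416b2012746f11a0b520980064efc851012cc0044147bceef564f4396693920005cd8001037a06f31404ffdbca80014f1adf35be9b902a97000005a0c9c192a88e511f1334f3a2d0482cb8867f0cc86990763e2f0fe0b2594a2945d10a74232dc163149,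
  nat_lit 0x8bb1178452e0ce0672f3878f7066c110000863801d60783f9d5353353135826ac000d20863803ee07e216b8000454000515c910a0cbb141000315c445f80ea4630000010c8055bd2b7c959506546514db3c7278e90650db437406e64afb064d59d5a94ac883241c600320c9c1910fd8bba95ea0c809d00011d58be0ce5d35526af63df2ffa3d90002c2a186a3a753732e1d00020766a78d5100000c300020f141e517ce429000005aae1489c801700310629091983a4ec49da95ca0c4a7a379a7da12af60c405f86d94ae1061c89c00ac189830c5a5143cdfd800020100069e6145d1c2517f22ff1a0c8a261440b850d686248002497292ea1490ae5899b6f800053d9a16134b87f60002312aa5d04b4f60007a0c2418139853fca80de2f418042a,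
  nat_lit 0xe3f1c8106e43920de4af183702900008023088e111e7f08213842b1ac879e4d348f86c4d000306f60df0058000007e0600fe8022249e56124ce0007c1b6836b898a4e0d939b284dc67a0e0da625a23d44829682575c1b33ed5abc5e00bbec1b240c94e2fdc1e49c1b15df006106d657441b0260039cae660d782ec1b295cd06b8ffc87c10fd835a022384dc36b6f20004730779cff1000100d000226cc9dd81180001362af0c0804d608e911ccbac47150e2e835389481bca2e8009835306a14663534ade834e4230d988aac1a600361c4c3860d29b7a79a8c82c6c57a180011241780682d8d42f43000073e00048b929422a94551ddbc000114686be48218e48b795cf288a512c84e909c22a1068637cf4ea7bb4d9c79b60d035b944c267643c8876c19f0c11760962656a419e0cf1ac31a2186dc19d929,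
  nat_lit 0x1098a1394087075a61046ca04483aa07800050aca93e520ea42213406488130000010856d6751311000223206e484800000660002b8552e3c62626218a00000f019e01326264c2390af4c416882ea5d14b911fc23ed073f13c00639377810d84e2b72045839cc3e645c929898b839a76c119023641cc0288d46836a0e58fa203b41b5072816400185fa147606c000508eadee4134116831d0621e99795507231380a841e664cac9860e39fe85f5729a5258a49c1c672c51fea40561241c5136146cd34da6a41c412c5e50ff9257e41c30497256f2760e106210bc9028e8d5e46ca0400056782cb4599147a28fc0004d24139022c0452243400026c80016696be19bdb00b000000866869495293aba8837aad0b02560d3c9d837898800c20e04af4837662b1c09e4ec1ba54a,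
  nat_lit 0x509b213a2c9659414faaa014e498b40000b2b164d1b6e36cc1b10363c594140712ca178bd917a446020f93ed96608d56f9ca246988e83e38b05020b132af483e08585859579c1ef3873c4a78860f7169130287b2ee5d7c61fa0188a000315c001370c8bfe60245888b0f3ab0310f158000c97a858a23c047cd3d8000218442f812dbb737c66f8ed5a4dc39b8543e707ab15492c12662422485e22d26e083d2a9079d536b46628cc69b7e0f462a26fc8f351e760f3cc082ae056107987382f805ee83caaa07ab5382c1e42081c1eaa920f18352af555f90788cd99bbb3455ecc8df4d9c15270e68000b14c00080400024de2912922408e143f00029bb9384952d0e62ede000137528952d778a49bae5463f65937cd10248f204a83bb8a25b60b67124024770771add7e9c81e247048ea0ed99c44c59748f9b22bcc1da91b409e8165024c1d90dc41a68371024c1d80b1380883a5021c1d73fb,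
  nat_lit 0xab007e738b22890f1c8989bd88420672a5b250029f237b7083c524003800410106f5a10728587e5286650de10689618eb37ad083001216508f584160a08af0503000310a100c5b28b661a333e18b3c42a68001c5d0000010001a3953e4488421e402a562e00052e2c5c55b71c55f13f8ef00010fe58b5e16b4ad25ee0001ab213d5c7a9d9240011fc902980524fc0000ab1f28f2b3a000158fa6f83b15636d4b0fb442013d310d22d7e10005d80093ec307fc0280000147001c72e051d34d162a00021fc000a1c4483902500023b147609ba80001cee39e0be07d2973533ec40d80ff820383f58b6acdded238de0408080a0fcdbf0b5516a47d560fc4f300033ea67d520fb8fd41f6008042408241040b9518b23dc4001601800002d,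
  nat_lit 0x72ace54aa29845a9e2000001ca8e5978b31d1d36b748035192a3262522b6ce93b908b2b781ac0354125024b11754b6c8456d2c59cd8de2f51258c4b35512c22ab82140827f595c3bbc6c412da6114bff176024ba49861142e093369341089cb85750bd09844c09e2d845ab800026d0002412812f825a0dc000040fe23c09a904359bb15acef824ad273f088f1886910d274f924e7a111443000e277a4e7e11089db955199a33461100db0005397e72f111037cafd2929600005f400122d137589f0d9f42b700012a802080d9800047d90df47f415dc2c0429b0adec6f0406421bc619052d97a63f40088f78201e10d63007825dee6534ca3880b84338bedae2517ad9712110b6210c51ac280086c10c440342173893a9c7504400c21640c13e6000c00542150bf89a84e984004214582274e1ffe10992e80035cb8cb5dc62450003cf8bc00044fc89f349c,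
  nat_lit 0x8b2ed534598c24ac6605502cca1249111600166509201c0af6c35b848e10a1a28343c2462210001119623214bd5ffb2a40e73e3294c4132c2641a0a000142321ce43c400000c000278a6ff024e02e465c850a60005e223a5e28f69320001b3dbcd149a78852d2a01fb4f784803e24a0494014e5847e4b428ac514ca85847d5ac9d3d3a8c23d0c800144d7e11e0cd423b02d2a3c5de8e84962b869a0007190a4982d505a00000100001337d6a8cd52458f0268001796cb7d51100003cb488560faf1b19eba1748bf285ec50ec236c631722b695f46bdc97b890cb211adc19cd33b5a288611a13d95832b16286a11991e135088d4287e1190781f0b143f08c4014ed60a1d846028000000b40002b3246288bb105e410177c28e23ae8761422e57a,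
  nat_lit 0x8007918e19fa33f857b0688c6e000200201262221abf35ca5840b0924d157405ef6132e36800e3998aa51ac347602f7509931b012c140088d4b6bd5da97bd84c78d6881110297b984c473a5260a55426100d7107138a13001214732f67097caf000002452d485804678454936898d404a40931b437df514b485290a400032546d04e94800010a00004b22134007126dc4dcab562204441259d1334ddd8c1b84b78d32bb4b8b971b3766306a12d634000b3aa26ed460cc259b848792126824c42586210ad8306612b8131cbf182f0958d9c0009ce565ef2f3d97461b00002d745ae00610362088410a3af475a0001797934045de1e1800066800024b8859e8b3a53ce3abe5d800012e226187c64b80b041e1d2c7709410d0db89e0b2c69093c5ccea21639849c111093402000106ea0cda1ba0001589b08121180a181400277c67001c003c009c24b109,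
  nat_lit 0x305a93b6c9bd939b760979b0a10ff07883e3b6cf8eabdd0cba1685078e022661a909fa85047770e29eb4c2814365890f59a1400c9c2b81ba509fcfae362257b84fc0c03fbd67e80030a42d1e5cfc0001f580030178030e14680b257200044f3166bcbf15c7f8e6000405d00bb8db2ca6e04400013c95b3c21445048a044d87a22f43decdcb1184f0e70cae1f413d3074fd09dcb1a203be737a4eea0213b327965236c66d7a13aa53000b93cee9f613a19332b374fb09cc22a42fba7b84e4274326076400002d600000110f890b6216400018e40001991c89e5e3e9d331c598f24038d029ccd4ef365e84dd346bb76636403599d6d999c96426dc6f669ce8540c7019434f515921366380eb887b88a19141ae3b676709adff8ca4451a7df6ceca1352722cdf724f09a40093a1365884d0446001012bb31f437886e199d1c78c6f,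
  nat_lit 0x2250bd297a492f3d3e801ae8542f0c003827d8b98172b0c780d342a06af197865f429f81a5853e7ae6e44dcd01a6853c5d0406c0d6429d2ae2bb8068e14e2321b34034b0a6c180f8801a58534826000226f9964c1c000005a0004006b1df2c0633600000b4007b9de6eb0dcae14b35d252426d84d9a14a9069fba8eeedcae14a23f98ad54e70a4c2bc27347fc8524502bc48f1000021921dcb0ea05ae00001b0000222d61df9ee000011747890cfc45708a927ded51d77fba21851ccb664e8c9eabf84b1a962e146e3a438914c4e322020bd7485195d8d9b9ceb4ca27ae70a2c9004348865743d0a292f248bb76697a70a24df46d8bd7185108fd2b85eb642874f70004987130c18866660002c1758bba0f73180000c1718b92e69099,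
  nat_lit 0x27d84fd42be414337b2c7215ea0980043a604b6cc3400190fc0a527160008b05960d4131746136c26e09f013eb0ae8e308e915868a2e5b9e58bc2b9a668bbca36546c4c058570d7ccdb8c49182330450ade5602a0053f66ab300e15b45d335e6eef29d615a9270bff964cf67615a0c5851b40cc818a1598c52b6d7732ee5a15908cb1a27b330ac4010379aa928560188000402000142b117f02fc0ec2af2d137b8f0000400c80281bb627f57f000000141c363ee003000815e42d4b127097492e885598eec14e5a84ba36d4643fc5e28bc685578ec43da22d445b17882f1615563a909f205b0db041542a96f08926015402995a485514c2146c905120b854e28c156921495a0854c844524497492e1854a88e26d4914c2a410a3678423884600001730000f54cde81b9537287141de83bf27188b1e6dac0d6c2a29a3,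
  nat_lit 0x3000e42db1e613362680a6100000d40002c201e2f96a92a5b5060001a2349fb2b8148a25c44b61e558c4c635216c63f3d3a04200848c6b42d7c7d40c2392872698d685ac86838887122b32319d0b54d72536a44031a10b5279a4b8a43b319f0b4c5cc341868d31a10b4877cc7a98d185a23c411ecc67c2d0122859e010000002009713241bb42bf000163e0e2515f2000483898a0af400000ee0004ec88af6c3f000056d811d98a1d8b5a82c6ea57a97f72ff10b271ecca2194925844b0e16426a223b479f1b3e36742c7c00000a0026163027800131986334c5598b1424000124e4c5217f52fe6d2ac209841c93a8228f931ed7c2c4c7a636ed4fda9e37c49528eea2161e18c3fd989edad9e800d221a2b0b0b1e44d989b5305b0b04ba21633daa858086cb0dded442bf193,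
  nat_lit 0x25848e861108222800e85f17b6a0fc579001285ee9788932299800e85ed7f2000c289851230342c60000a5ec4b807d29803de87bb0a081412d33e17a64011c98942440a51ac2f329b86d62144528c2f236d68d913eca1fc2f123f7748d33a1782a52c0760330bbc081a674a3085dc30050e0a1dc2ed148000e296a17600500014a349460a1c26800001fa017802eb31ac72270373189c7f38fa95d10ba9610aed2c4658b0f385eec3dd485d32c8314062d10e321c10ba1c305239e7085ce5c30fbdee942e647114a32d1a172a098001195c6dfd121a2b984d00011078c1f183f123d76e32c55e7245e000207a00000b4000ab425682bb19228c6f948b98fe00024fb942f285cf66a6e562e002285be50f25e58eb001d85bc7e03db8031001f85bab04017800f42dc227,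
  nat_lit 0x79f0c2fe18a808431400169ef319da7994570000524000ce86ba626deee79a5a5bf5c8a3f9100008e8530c66474d7259fe0e74936000274315bd89a80000228042c12c49a8939899a29f82ff05fc23610c3f21ca53ac6314591019b6011ab861d90c51a0a34adfd23590c34ab6207048009150c31630ece91a7861639cdb188d4430a00e23ee46b21848a1000923550c2016651f9f733ede17502ec8a69000190a00097741e9614d2f6600059ca037b164000005e80b8a61a4a0494a9c1190d1e18860990896563a0c9a63c2f0c0f20c7580f3d361d0c0856c001968286020b0218cf09c30006885fe05a117c22f0a7c000436c59d8cef0a7c0002232296453980000900004c454ffa1fec260a4c18539e410001693f1d202dc0004a2a8a94324d275a4fbdf77d3b313217dc2f9c81,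
  nat_lit 0x5838b0761990d4118f57db0cc42ec0029f2a4862214000d5ef16a9873a12251fca41fc8b0004ab0555f296a8812292000642e2fc500b000001f40411008085010816885fb0bf528810cb322a348a0d241a31ee0a1f432b96b00100030033006b22c10cab225ed94c6499b2987a2aa432995c924a2ff45ff4328320889a2ff619385089b688250c98798000968d2d22458408e977800015ee2bd8e6314f1ca27f46c33e1920a8bdc8226a44de19193dc99c6a0f0c88ca4eec23e9864200a44cc89a43200fa609d299a18f8310e7b7c1d0c7894c000b13c296034a763df03aadd00022323c5878c00000f1000812cc25684a7094475a000dd091e841e900052d6cead97c80016e027614ae000034c34862028cdcd201c3162d7,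
  nat_lit 0x225834b8497c22f08ff8000286450f0291bf8951000009b40000020a85490b19883320a5d14b8869991c5304a61ca947c790d2cf2455d0abb292f0d291745d78bb76a5d0d248fdc7fbe3a86901d4142477443470e48a28d4ae1a30a408ba41af0d14a44000013991164450d8588e0000224000426e99eaaaed31242a7054a34ff69461e643ce6468001065e0cb56213f0b6e993f200004dd442d5cd13707b70e599cb77aca4398873c340c8c422c8451630318a867e34c7790006000d229f0cf9980a7c94fd630f0cf4184009b18786781390cec02105346702a1c00001000014760316c62d4a843d0800149a482800f000024d742d072e93554cfc80a8a5e4e90fd51fae866f59e859cef91df558430cd97f26392bee57e30cd48fc23c914f8668046c25160d4333029,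
  nat_lit 0xdc901ec03de596305c0005927125060ea8e2529000047b40020d581ab2d5de6b4b95476dd4ee000d3579801300cb90000879c0f34690000295192a40bb000061df20988746a98d5651cd331e1c34366c64541a2cf059d815686ca98090fc0a9c3640901a883505628800002f00005a796562ca858984ae5a6e2ce91ab2360001c0044362c921fe64b54b0b8d251a4911121b0cb446dd3f9a1488293c3604f24b96ad344bac35f2e80b28166a1af045800100190d740084bf897386b886b0de89da13b149e284590898002c910db61b8048c2022000232310f0b78840a081600011c80008010573cfa6e3029961411000000350a62153246002423305699ff81c7039049c4ca768d601b2e1abe482fee9644f9655b8255b0d910d58f1a522b5054dce935126b06ce86aaf0c985d08ba1168bf464b03644354c8f2c561b121a9a3895ea0d850d491904b306c686a286a81183614350192,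
  nat_lit 0x8e2071ace378a88000006000039d873723b44ee0f261e41f2f3d456b070e1f2592640e731cd880bd6c9ad95870d74919a8d9f000500172ed21c2dedc3ac034ab3be46f39d68708e1c4e1a2bdba2687068fe34cdd13438223d63ecc7f61c08570000537c95d0010ef1310b600a0006798b6997792eee00005c400021253f3c7e7592b1002a930ac8158cd7d000e001f0df72545268a5089a600421be17522d245b0005e1bd974b574001b0de813d80e801086f23240011db99af20b700163770000085000066a0cd3c332440fc946c2ca9fd53f43761af46aca8dd53e43754829832abaa1ba028a9f495970dcc7ba6392a7986e44fe683cd06437113e71872b261b80be1aed36490dbc3cc003a94286dc17200006e715b3044,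
  nat_lit 0xb437506ee404e85446300c5a52e30e9b26c6fb985d8e84215c42f43a5c9a8b3effc23058a8f15230e925b4008b87d6dced1561d1ca7016902daf06a1d1062864b8de4f14a1d089002cc99e0f1421d00be8d09777b0e7c069148bc50873c186000004601981a50128f61c74b0000422000418a03138d572db25b44748e4c800120a4413d110000130d26163de730e3544d9591a2b17a46843997c03cbf1b6cf2c48cf87301c04c09d4a366c963b0e5e0f400294dc75d70e59311f251e493c990e55e914db33e287281fa7938f25439313a70b6c07e1c91488cb71d72000505000193b72764b16d046018203039300008b7c006d00e65d20004b440f7f4450000591621b8fe05e00bd4000c00618598c34afe15fb368a50590e3725c659c73350530e30930f52282287160cc88351698000090,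
  nat_lit 0x4c40f7a57d4dc29fb5a4d487899405a40b4899301bdc0028009c3c34f92c8d00b20d12ca049ab0f096e48198d9b1b2a40a881343c1c9f0418083480f902587806d2db5986d24d5877e41a80ca3edc7dc877c4f401c526ac3bd23d5f64934e1de05a800025204a3d7f0a20a3ef5a18ffea044b8950000b7c0015be62846508ea164e4c1c9ac9e000833246638dde69900072ffe1ec972000276daa1a9234000bb6f5c9eaea0001be3c5bf0606dd0d14851b807f87693880428ce2a49000f30eccc58190009401030ec862ca2b981c00f70ec40b126400808760034000c9ef9c0f8d3440c000147c35196dc4ad9101547c874b0e94b51a0042f7845710ebb274007a29e46e46c0ce9322b3875b9384f84c13186f875840ad8de3c4c3ab02813b0332e1d51b3c58a45150ea41a8af31c758750404001000a02d9018,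
  nat_lit 0xb79710b621e000002122f1b7436ec80fe3b208ea11dd0f7f296456a9ea11ed0f7904814944bd11ed0f754d440008ef87b804200162ab8f4807d962e8d2400018400025f52bea201e3f2196308d23290000ae59589cb1310ba91ee97600005560aa9126b4c65cb3005634b468f33cf0f5f28d9724d6d905c9a6a1eb33f809c25b69a6e1ea8c5956e25384a7a1ea09615772aea9a621e99261035205f0f483c4000000987a20a11324fa047336a420004f14000943928745c5cf449e866f8f9440000912122533f2d38002c0092693879c34c72c886390c623590f341c4b0c28f933b8676e1e62d805cc0b96409a1e5869b429596c9a3e1e50b806454d1d0f2448a1e400406140c3a45e08bbb0cf030005d0000650800289548588a0a94193a5a05ae708000898a1efa16e00004c2060c413,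
  nat_lit 0xb02960998910ff88fe294bad887faa95130843343fc0e41ae6eb561fd87e1fc998890fe852000544ff87f21bc0001364a6cb28d42b529705260a5015fa00048f0f6185640ace00003ac000315d0ac8159ad757ee96f72dea57ecb00002c87eb9531f98a9a452e19b6737401543f4ac214cd13b6277802587e680a4a395932a6300550fca294004000c87e209e7ae8011c3f00b7158e009a1f7a0980032ccc50f4a1b890964300045b68b01960400499500004b32166330051340000b6d95b159d2db6dfe8a90152640971dc61f5e5388221054002c00744a732490fa92cd0b2023b04630fa5195023a04687d00169ad102143e720111f871d21f320a001838e90f9488d493b2b5643c21ec43a2e29000594c4851b08a64d3c10781171600014b649a0df35714800035e0004de5dd1a2e28534,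
  nat_lit 0x35e05c8000008600000102e263123eb17d68ff25fe53b7c000195c0000043c4253dc02267a90d35964e2ca5360620c509113c226ed769af035e1882f95a5e36691ceda8528fc4a20b2df27ab51a8a365e753f0d882ac00492e56c337b7e2110513e1c0eb81a71a9104c589ce439cb7e0f10482f66433cc6882215eee11f86c4100b5000454049a4822000026c24d90180b9294668c2f1864575c515881d95837646c68d8c75fce38a206bcb9763439c77346598cb888184e31f25fde38e671bb102d4500b901780d3531562052e70d861b04eb92204a4ea72c7e2eeb922042c381ed3ead314a2039d60ddd75c31018174b08cc50880a1422b4d84e44041e60002c2a0f198d3b1a6934e0001dc0bafe13576fc4df22f8454d1b00ebc9c6b4402cab277a21e443dc56b71b2e34a200e552cde59c2e36dc68c400552145a28c249fc3ff36d,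
  nat_lit 0x4944e0254621ca3c2d718a2910e07e1383094c886e72a89bc4a744363a31288250221a87a0248049710d03cd6bc89448866192953e21e80040b70ac61dad5700000984000619f483010625c0e91ad234aae5cb1000419fc5b2b48000101c80394508000067800e45ac19d0007001027304e64b5f95f3885b9600f441eb0d0f1dc71f1cafcc42ccaf6ef408e411f024d88568aca31507f15f78854054b40508015f6885208e08f81254428131884e010001221417b24760004163c0250c32152391e2d3e212bef9abd14fc29fe2120dc858b14fe29fa21192280121697108817c9200b4f88420d20be45a6442020e44462d1620f8b41bca8a5f107819c61d0b4a883a654001d2be9250036,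
  nat_lit 0x1d80bb0691391158184196833011e911545d17bc263888a83c423d0479445310488a4010000e47e322d52b8084410810d748300044a607562ba800191f4e1f418000018b2624e8ec62d8c5eb61f7e97113a710429c5109b75113431461a2bdd79ff1130481d7895b22b75112c0b1891c2887e91112801d7e63e028892034ab9dfa244480508cfcbf08001a6d31705152a2b0000af12b456b58000014000086500c9c18e831c81d0000215e42f464a2f0212c42608048b8b17188886fa0003d6c3b1ac6354a48948fc44260e96ea8c44b3e9676587d11070804c50bef17e017182e8c4406ce0c3f134161c443f53639a8b0da21f0579eee587910f42d40011290049e26a000460b0c1704451b00044009c43b05301ca03984a7443a0df,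
  nat_lit 0xcc419889ca288e821311cce5044730a215c31d422390349c9a392d11c45992889c9c88e05be79cce4d446f22130247276237036158a36c911b420481e90ca88d823a0000f4f240390d674e7a692fa98b6317479840028002a8600020014edace347136eb4db4265a000000027110ae00011e588eb470457c4c99e88d1966711881c10372193119c74400780135658ac9e2332051e5c5001243d659c46539f3b62dbd64cd44640d33d327a624ccc46326513ce27b886244621743d94b2ba23086690bd2185118041222f804316e6d243ef47e000015ca59464ec00000fe80016b552e41d3625d34ba319372c80001b303654986d6a1ad53d564c79116c408855c5f65f0098fa22d26eae804ffe9ff931cc4597680020216842bc4581a95936215442b44571fa,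
  nat_lit 0x8064055a0aec2f8000005c5862020018d6ec4d78892a002c0078390891f96e5122283051b1db40e141c5448ecb6481e7320e65a80c501c0e36246e5a9ba237412665752038a89190d26ffce02038c891697854f81c7c48a47e000a010863c025e4814414881c0008192f3d583a000036c000313491f89eb160c9e8bcd0000e00422431c8890a1213121414401e0c7389082d87414a2444830a05916512a2410d10aa51545120426d4b2944789000aa0014e8107e50fce50e000558e8390072e0e9546000021300828096ac64d270ae50016004482b2c1388faa4926856294b7896ecd321609c47c7f6080e00d00190c6788f6ad06be82d305a388f494c1cf4441088988f28bc530d14bc47854a238eabfa23b87e8c6418c511d83f0000cb76209826a0001de81591397,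
  nat_lit 0x297e52f625723880738ca912b4180554219f8958826000da1a835206a233d839b0734cbd0004d0d9770285f50b640e000582db05a5c7b26a0001a1b35636162c9287288e091b820fa421225465e32e66e2f3031b49a845894f976002800421a043a71299a1464591db38b6717a2529deb2f2671aa106252067b2e492a6a112251c71aea88fc87a7e2510e52bac56dd24a2250cc22f9a50771280061dbd3b7e6b4cd6958b6caca433c00072e988baadc62dd2b250ce8000cb900004fe50cf15b0001008000476656708a358b6000276602ca058f1730000010765c001800f0baf1264ec803a006f89301c66c202e9c49702024b7148224b005000100149260f601eea41872a2b0f000165c29a35872000505094a1299000061000080311283250411202200f828f0,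
  nat_lit 0x43f9de7e3cfa571802a330c0008fe842d051dca3e9f480001fda0ca0e5c7f4b5fa9532a3aa4b2bd776c61132702c3579b4d3696001c007a20b89919840c887b434ad6c59131d5a22c488555a2513187ac4ab2646898a1c72cfa602c4c402913d6d8a226187e2cb85f271308028001302c512a87d87340000eee109a0bf4181c9846cb79825ff5c724b6063eec7d055f44c0cc02ccc5988cce8aba897eb3c843cf349e6b157112f9685caaa1b2157512f50de4960abc897810e2aa455844bb224449e2ada25d0c98008001b12e413c040a0243ac675900009f6c7cb8f98758c00019000016b20f2266859e4a3b2197e0001ac78d4a15562aa8e2806180c47785033a42f21a8896b952675ccecb56368820030009c4b4cbe354689b56bcabbf89667af162578c94b28d8112ca188ed5147e324b12c4eee424aa0c896094316a4546c4af08b,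
  nat_lit 0xe6e84de27408d80085073139c05541d2b843ea066ac0002490000379ebb346e10dbb103a2083318de8a4e6001a0040e5fb8a389cb0c69c05251c8f36c15306dc50c4e4cc5288a512016082be89c6e18b2f193db12f89c4b82a0c265944e108b497c92ee2702324963713b137c88c001210841f211ba2a2bf8c7efaed42cdc00003cc37a414914d4229045c08bc0004d5ca4d1499089114fc00000c800249b6c5046b1cf200011e5e3cd8ae411d00000083b56528c003000b7b007320e03c4d8cc4423a7a2a40ac8c5918e701226bc76c62b1428285626b0711f58380d1354b10e071c15393486550c6143189ab132cc31c32386d7176ce9ca17c4d46f19388fc626cab1c9464a50b6269e0c949811a22354a18c4d27850e1001fc03f44d12e907d419b6268250a6f4285b133cab851a1427899c3264e2c9c3c4cd20100063fa1e7ebb663d604efc9dc13afb37,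
  nat_lit 0x1e9f77d1141460083210668a08290000030c1bc00340c2a2af400005200033342d5f02a185456ba82b02be000115562a6054b4d02b5a00012f465e9118a1b5000002d33387654ee8059d89fc1c018509ff9bbb0b4113f57f23390f510b3b13f0f4c03c00770b3f13ed59ca5f859e89f4150002c239c4f900a0002674588ea3b32b4e11cd03400019d33ce679d241821219d426984d4136faa19544313dd5b02ff95462bf91ba023f847b89ed990a1c1592cb2f9f5d30a150c44f590d0794ad7d640aa1d89e880a70425390e701cdf13ccef24432a1889e494326da4dac4f1002269c8146278100946b28df13bc2dc238047389dc32400086f0321a26543580d180008de31ae606d336dbcecc7f479c8f3d6b544eccc78c76677946ec4eb41866c4bb616b4c4ea15f1adc32ac650c4e9238,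
  nat_lit 0xc6a477313795c0f267800015562ab00f07df21ba3332452489d11349b631487336721bea1805300a229044db68782793a7228f8f5a73892f9387628f19321c2684d147408cde2a9a88a38040cb99dbd451b0fc68df386628d09d381d7c331464a440019d347660e42e69a1c2e8f39998000a413b19d241e7c40004004800a4440000196e2d615c1c9739211454c38fa69f468a280e041d483a451316625f64be2289136a26590c914448852891f418a200dc4b94dcc450f0930c926e7228708e80038c62b611a450ca1194e9d70e966658002183718bd61e8643cca0002306860a08db11be846000007480e3044184a4e34742c66c2beaefc9df7c50acc95978e745df5bbec8a12abb1ef0d0748c78a107a6a7c883110698a0e4e91a4e6b24506029,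
  nat_lit 0x1e706700ce527e6836106bc5404be48e4be71c7338e777dc9a3229fe6a0cac8f549dfd344453e3cd17b22f5d342c53d57e1b389a2a29e052879641f714ec15e654a6858a740b63ad0757c5390ad00042348f4b1e915ef4d805af5e698001119ed9cd63c15bf3fe000023247b598688ce1ed2545e2c483920c2d14db3488ddc6ea731706fe049c5c38a6b9a20968b84bfd2095012b229a3e9ca0293fe184a2999c4142432e218422992c102050c2114c50b8db0860e8a6044e0028305c52f011236c99949da000026500000b5416d13b40be31b0b6d520b177f2ef0b5025360000cd00000087c10b80a26664cbaf3f18ee80080024e0c444145f2913b14af33da8e222819ff198dda6ac60558514ab33898113054b48ab1a294be1810457e6ab0e29406e455203d4ab0e29390b11b0558114980f02d385aa8a4a37649b49334d589ea0e084000d22310962143ccc79600002bf,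
  nat_lit 0x168a19f91b14162b441cca3d3b39884d9a2ae625800a0181156c79800100c767786400c7f8ff8001017e16082bf1e78000018aab1031b09180bd61509b8cb86170b58c11563365085357a6aecbda57b02c5c8aaf3362188433256d49a4936562d4556cd88ff4810101eac598aaa80426a04d4c55407f50f2a2022a985e056f58ab154829005d8afa8aa20fabc0562bc5501904cf4b1562a78fe3d8406b20d5dbb50002cd7953add9c000a1a879e8bfe000104c000027004e46864395e91992332407dd440488028a967540034008a66d9da901b0402454acd61daa3b4c115c57a80d6200e2a4e6acba897531d58a7207fd8a90a5a36d866c8cda0ffb151d0916e20ba717581ffa2a313b883610161ff22a29f802da05bb151079c63c87fb8a864ba1e743fb45422a8000719c809c0137134c8d8000448b09145c4,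
  nat_lit 0x29aa05fc0bc457a4651985166a2bc9120007001915e00081de81708aee40205d8235981b314a000163400147ff17d62fcc64a0c9640f550c0004c86b5de4124824c0ec000190e8fbe55c0020009b0de77149a264db396672d287d22cc4573cdf002f2a8c99f05c50b7c073c0d44572cde6dfac36946c8cd619b1165a2b8e6e8bd28f06bbad43201ad8ae19b91a105d801a78ade1241e5855301a38add252a1622ca81a38adb30805980d1c56c10a42726428000078800217e6b1ddde219025e100022fa4da9a0c800017de2fdc6485f335b636de2242318c6328ad19b6d22d17322e54e36228a2b3d1f8ab615749e2c44ec5664eb967cc2f57e008a28acb55c1e397ce08a28ac89d330f587588a28ac63d9158d7de089f8ac4b041a7044f45612274c2222722b016900035a2d2a425d443c97a0ca3f815c66d000201c4038168da12bb2c0002b444cfac67e0dc,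
  nat_lit 0x2591a7ce4f9d1e780013f247e452179ea800002d5914b22e4dca5839558b1a62cae733e40912272e95de394a77af16525c01b5482f848d20a8cc740988b279ca0eb0767b72a80b7164a5bdb113f3e8b223d297ca78ac5902115716df6e2c783f458f812d163816db393f7a8b1a6de095012cab3294e6000078c00218961ad91b39de6b96572ccae9f39000198999c70e769097a131572d9c6000a400a11415a62b3de386710001126024cc06800018900cc272c6255e9607f38c828d419b8b88f9c433c36048c587ce18f211e3ca6eb8958b0ca30d85275c45855224bc102362c205289c3137b160c7a10eabf7b8b04024000c018001a7079560f9ba5d3089562d00046988d31bc4a016002d0e94000a4a0930f241908800049d193a608896752cfb49c16c42db486500450080279c0bc457dce0963d1cd48fb1b87455805fa2be2c7c700233e46840bbc57b8a5,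
  nat_lit 0x14003c00b84418b6addecf512cf04428b6822f33f519184488b67588b0d822445b21d78b6205a001c0b4000a5a34b3aa620e60000004397f8148fa41f2b80014b11594ae9d9bb00001ea0002a8ea775a15342acf939d500002a378d4216aa8d5cbfb97c64152b8d616c5aa6de657ed146635bac68b522428cb66dac5a81ce0bfe17e62d3aa80008955f1698508de89bcf0000186000e37693ba277e785b3a40010dbf40012ac55100008dba54a816e00006dc32023fa1b7a370800400149b56da222d0e6daa547ea13b69fc845a03e57582fa09f23be488b3e400b07160dbf918b3c5eeb3a5645ac898b3ab3323460f33f918b38bbf39fdfc7459b42e41a0834e3450a4934186808001e7402e43602e701b2b36576e8cd1ac00067380033f287e564719f34377,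
  nat_lit 0xb73e0b9a49a141d1749da0f779eea14191745ef813f498e141717405cdaa1afce141d173cb0a4c40a0c8b9c3c4975050645cd09c8b9801000088da91b047d835200016049c2f38605bcb019db73c106cc136adfdfc5ca8e176def0462e481448ca9ea517201511123f798b8e0d400d22e5c5c605900080d45c391c900002c185b44787226160e2d867a9c00013d00001f3a3e84d532db24c08b2d73b1646cad90fc01f59fe0c0cf8b859d608f811eb75d811d1705c324614f498b8094203f5fb845bf08b1247032a2df0c9b7ef7f5d16f5190780ac948b783240001076a0f20036c9e03e007900013bb6fcc12fc0000c90002731ce631cc5c8d1397a12f33a8000bb024af463400019300ad11bc9ba0f141e2940494dfe5d6822345b6ac5,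
  nat_lit 0x29859946221044280002000006003a7673a887b5f3ce2504e790002002625b44b5adeb38a0002005015093900000016f868f8c00989fe13fa2c225e24bc58bd77722330468cbb9617c5cf0b9f45ea3fc71fee0e43ee07d37bfca61a2f4e78a391949c23b0476c5e859e7fd9253d01917358bcef0a942d28545e62242d3c5a6a2f2827a98d530517910525e0cbbd8bc661056c4adb164200002b4000157f4a49359e41a81390273cf065da8a5000019d80011e0e8a58428000063f0c840303bf63a386c90d9633c553dcaa28bbd9deb1d0564c6d85b82a5b54b345ddcee670f40d56c4296952cb1772270006800e9410a9ee2eda3a132726571768738145a7578bb22ed2b6a56dc5d83360bea17e451980003fb00048b4c7798ef01462dcc000654d095612aa5d20001609828b2b800140039669a95445f2283e2ea676bdd761ab2e9c508c5d34dd,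
  nat_lit 0x2498bc60c0de262e5cbcb9816500002712001014a92d425aa166000c14b165231200040a501508fc8001052c31d01b80000294690e44c0a58c41c60608b0006002e3028c993bf27831810fac5890b0d8c066107334325800028500005b783261df2ac89592aaa179036988214000306800022629e84644897d988446568f68568df69bee8bff9ea43bc87513bb8bfc05e73289de13ba8bfa336000c991c5fc0c8284461de2fd83445fa02d000005a0014e521f6e26323360000d7e9c46036207c40ec3e307c78d14000135c00080fb01ee93a6529865bcf400011a803229df13de585d34501e7c64a7ca317d33cce50235a93953e022f9890c5f6820117c809885a10b18be2aa1320607fc5f0143,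
  nat_lit 0x47d801546290f1000a3aed263af084f3000222a8454a2200003102a4a80487c90f8a00009b40000021cbbb2684a3804a8097140d66d118933d875a3f088265188d0482448bf317e318891e9b13362a8265188438895d15388c400f643927d8461f0d0902f04ba30f03d36ff821318740c4391b08f00003b2000538a270b01a000013d827986187358d842bf8581461a519288252a0a5614ca8c32b94b3894d529af8c306183bdd63246175226200b17a30b0091fe93fd518547f000033bd245e0961a9c35614b21776000086000095e20cfb1aa87d8000016c8367d20fa09f42461126324510252047be858c20536761119aa3308c1e7061830c533e848c1cf481b61f42c60d0ea,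
  nat_lit 0x1006ecfccd8a1af1318a6324411e7d0000007676fcee213a003617e6d0f4f44913c8c8b5b06cd636285998c8827a16402c985988c8625a4034805113b8c84a5519040b40009919322c26a00019da9b4d39756caad98886c63f46a11582294888c63e0d21ea84464888463d2fa08671a6e3ed463c7053314442e31d9110268208b18e81e1cb8910a8c72496f51888546382840c58193631b8461b458fa918d824c82710498c6a24a528e07b3969550e0004a48002bcf0406080c677b36c72eb056873e40023e869e3af989a94b1b354eea9eae70001bcee405d26588339061cf80004f99e377081659f45cd4e94000b36f221006c0001cf4949c04b29081c04380133a44f800d231767b8010276c4ed4019c62d67f138c515801ac62c094367200e4019c62b17e22064420017c62a133,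
  nat_lit 0x1d2c3a7400081480021fa23f3d0045940001254a6a1c92800012a824be0484a90c5c0f961f3e47508edc661cfe47eaa0b28094ff58cc12de0865c5c41f982df197c9a5a053aa775b919791dcfec416e8cbaa44be0db7e465c05c511105aa32d8018b8e82c91968dbc0001f786ee0ddc83550701f765670cc35bc52d185a2c00073f47ed8fde00003f8000842647187ea0f36989800083eb05c206c000085306a8397215264066384c720a7214d43ba4654cfc16273eda48d15d90ee3194eec016f05ff45261dd63293f186b45ca61dea328e161b1334e21de23281562ce40ee3193c0a065a07728c9c04a4c1c3b9c64d14200161dc632602c800802d00020140b97172965eaaddc374e7d800000a8016c9ba3258018265850bc4130001bb50c52187c41200000ce,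
  nat_lit 0x36a85da341010163a4a191a0422928225098d00176577a542c67f2e2000a05a00004f1a3cc690ea93a7c44f38efc132f1d70406081129d0000740101316d92dbe00008fc001c7032f445f74ba436d80020bf4b3bce289c4e61c000217d8b2d8c5712c000005a0034008944f289d19dc67a5c69e778cec39c4d9c9b346755502ccc7dbe33a10405c147b319cc1a9f7a23998ce43e6000167cc07c13cc2794f812608f7d1ef617b82f680034a259a2ebc4b27000249f3f0e5930000827c77928420000c2000017432c983ee5e4cbc916cc2cb919b0c6ce209c423eec595a335ac805c50b867fa8b2b466acff42b61c50389466913d0a8e1538b2ac668a392ce83e747d0c66715b3e9259563330ec466502d,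
  nat_lit 0x27184e3c18010a821b000077c0000020f8b145828b682ed5ac2b569beb1a7740cd7522c183551a7104890b921a83591a6c71843ac1a58d341a1224a0d5c69907a2ba306a234c01f3d649d1843600000708002354a6be886aa260001354a68e0d1bd94000028e4266d710d521b0349192dcca8f151f8d2983a001ce6f06ce0da51a4cba811a822f051c0a3e349269207b4100b5ee348c84c6da06e71a410d87f3ad7b8d1e55ce3416bbc68e46493452eea346a0a10cd36dd1a3104ce6ab3a1469c8d45c493c4c788ad2b525790a20003a047354851000005c00047100cc1198a92106494852e8080012e4d233a18ec8d52ec867058d800001697242e5665f0ce346870e0582a590cb23a5118d0cbf8bc6c9c413858d0a3d72479285a50d8d0847e158c2b646830e3,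
  nat_lit 0x1a5807160024007bf7d62acc07a35ee830f442ec47184e2e266998991af34163aa422a60411aecdb447908f18d741d4613d80fc6b90e41ae435c235c07e1e1946f51adc4e9f3230168d6c01400041c210f9116e22eda54000038658d45a31c041cc4d22a3310af47d046b4b5b022017456b1cbd35a943e66359e1a001012bc4de49ba13711f391ac9f9e71a9431286740215ab8f968d62cec9b223be08cc1b911fd87cdc6b0d045008ce71de18f9a8d5efcadeae41146ae19359883e4e356a0980032b8e56e4ada9b436b400032f1527d8f8000017702ec87bd69128cd36c264a4c93c1bc8d5505b33f1f8c3f1983771aa59164f7c3b3861506ee354171948608d6119a353a5321f36f9106ca35311f80048d4d1a943aa44dc1b78d483506dba0d7c6a30bb12942f72351171000535de8ddd2f69bab19956f80004fd2092c00b,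
  nat_lit 0x1e532b231b681400038bfd0b84172069b0d31758000400c0009179983836600032a3a468030000045e07e751da54648cc2912b50d6a0ad3f8dab92c3c9c79194f029dedfea36a491c90881f8190c322506f8da73a05275014a0257e851b489e431a865528011b44588c33c79911611b402f6690d06c8d9e15e12460ef46ce0b50c14ed5e36685a05a40b4a000c9b4001b0d339901b24008b2180026558bcdd79b34ec3ed0002c3448dd11b44990000c260c652fdcda275a73b29d62b78490111b2342109cc7c315f630f461b8d998d8eff8def56a52d4969ea0f5c1ed46c6b01226e0d5238703d98d8ab3c16302ca0d908d8886e70986cb46c300b1b303642361027800b1b251b0418037f87028d80610001036006d60d2ec920004d8dc15740628215157e8380001f683ec5969a7d43e9,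
  nat_lit 0x47c04f7faa7d3da5a180004ef307b269000013a8d5a39ee0c6b18ce3ddc7b9afed5fd025ca37ae85a42f0f361e8248595a812e11bd34287e5002e0052bf984b846f3c754cee69e08ed09698de4846963e58325a412db1bc4ef5165897712dd1bc0538f61896e8dde0892390a4380002d60000011237ca3a22b144b28954000e8492f9917000003f4000235f41aebbbd1e11b14ab37f9244a244420ec8dd52f0c7d5ec7361841d083ae374bfa948611c0236e3742c607603b5d1b9c038a3cacaa8dcc43a2f7260dc6e51f3487e79b000002b8005365479a4218000004050b44e4b0d1bfe80016951732e8d1bff00001ec00008c1d1834e3a38d461930fca4207b50f731b7f0a826984d16f150d4e47ac6deb4c0014002435d06bc8dbb0508104f3015998db8ce837f482d46db0f1,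
  nat_lit 0xe081c115ba2b7499c3a59d8e2ba24c429d3a8d7317882f19c11c714d1138b2cfe5c11ce6e8e26744cf30a84950f70411c495fd908b2138e223d2bb7d6f2c7101fd6428dc5e38780189ae13600014648000004373b9c6adbad92529cc539cbab8001688262b4ea69d48000a0941299f10e83400011900014ee8d95c0940002689136067e9c2d301a6044f4739dca4dc708bcd182a05ec0be14998e0e6d2cf496e314938e0c9bc9e693d114998e0a51491e816302c98e086fb2060600c70323d0010525e38104134d272b305ea7fc342c4b10000743c1f12ddc64020000818000882944c8e9fdd403a829fbce037438000082a93f82c8208d3acace42938525a37f686b33946c323ce37e81e8ce80190030e37e0898002002d1bec16237d016800000800213398f670000251,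
  nat_lit 0x59d0fd31fa83f618e64364c92923c24748e6294c76c26cad01b8e6064cb8cd71bc72f0200012e6223970053e617b82f70c0008ee00010360b025affb5fc4b1000006a00d324d8441035a3d9908617f224be49823959f63370688c18a0313472a5a157b2534a394843baa329a11ca0b86422925a8e4e0040008005c72604f773324863928c9000045a48b40ae157a209c409e46a000054d0000001531e5b079f6a2346e06003578f2f2129951c886997972f339a2253163908c62dada3950e1648dc7202ca2fd44948929c71f1fa380a7ac8a61c71e09a6d34d094a62c71d2c264a4530e38e0f1471b0085a7240d000019b00045afab5f96a5903876c00067050e08a1af1170004b5ecb05160709a0002b5e9082b43800002d,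
  nat_lit 0x909261fa3a799819b230fd1d381100020168002133626790c8218f9f100022640dbc82217ba2f6847bc8f9a038a1e31d2f45e4132ab24d6c9ade12cc74a4959bc5467a234425b8e929d66de57b193b0275d1d211c8f73a37646e91d1cecd9ca429284ad1d18fc85d193a327571d14eb11baa3718e883cf24809d4c7430a1107f20023a1169000269dad3c409000000405580f442ff516b000255d14282858000aa5102c206a00003900024fca20c8418661451a4473da2c000dcfe3552201122e74540013fef5ec0b8a0005ff6c9ff0bc0000ffa97b300a08368feb1ce07dc17a20138e6e763401612247360418e6a0020004a6294d5705c5b3b45000014c598cc0fc5329c5dcc764edd2e05fb14733d13,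
  nat_lit 0x28a4513a3b619d85a30b511dacaedfe73fd28ed40211da40040012bc66332008000150c0f861f03650a855b6936d18151029df4bc7678f5577eb3c8d4c1a938eccbaa7c6654c39257d2f1d94fa5756b17e8ec814a573e7ffc76307e9a42fa4e3b102daa2f730b1d84dbc001915b22aa3de0005d27d14f29672561d1c57a00009d64db98f50ca84659706437e46fbc8da86df0dc5f0a475ed1a7480f4edda43b4769293fb23aee8c914ba09f4135fbb475c194533b411a3ad8119f5856fb1d68392458be6b8eb229000290b3c75800a0008a25d9828adc25200060dc41b8216353914d129f201581ea03e007dc42ac756d180af015fa4db440193771d550446698cd23742620a3aa19c4ad9435a0018008c7534041d2a6dccc41c7520dc01125cd8bdec7512463e1a2134427c750407,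
  nat_lit 0xd0026006da9d478a638223852aca5830e88f123da97d115e22ba8f1093ac14c9a413438f0e8828ad115c47861e727bec3923c2850b1746a871e10aa000107d50fa9390ca20144376cfa3e0004ef21de34542a5200018742ab92b89a40f1366472d26a24b09ea3c0e8f16f43a84e8e9d1dc27f8f01a3afa9d316a63584f91dfc7441e83ed0870709f63bf0c61f06955b122e891477dd1c9efaed0213ac77c0d35562fe35ca0477b251470b08ca118c77a06140d7448e13b47799f47f7744763bc066800e84e91ddc32e3bb004000169c49188039151cb3726480008749601131d000265240624780000005000ac350e5e9cbf548c893898e68d8004147a290665a1676abd000658f0b1b10900029a188a7015c000a61a377c4d800012d616ec333,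
  nat_lit 0xe4f227e5449c708f4ef680034e39c7a608706ae71c63d2957156d38df1e902dc22c9a418f463240008018001250e4a233d6dd194a8d02f9a46000532681ba03c0000cb0527580c1f383e767d39669acdf7d949ade3cfb9181bd90aae1acd821b07000e00363cf69120fe0e2e1c4909dac8c4d651e774846b401ac03621efd358c79c6a497952f323cd8e727664d671e685d9635a6b08f324040008e5e215c42ba7a2dfa00009cbb42aa9b1080c0001cb84b9a973c414e5a1bd22a9c55317e1b8418f2da40782cf0535b6707d1e551193c3a786720ce0e23ca32380bf018c5e063c9abf16b12d611e48a14de71c3c8f226de118822e800000200062522432a2132236fb000098cd9aab1c363860fa4000b1a1984821400007638ebf04b988aa3a9477b07e611d1e30ee8d004a1a878eefe5aa6478b83a,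
  nat_lit 0x190873b0e751f1041439987398f861971f0802000200d301a23253471adb4e130000b320001da1ab96573251ced11dabc0e3a444a3e63dfbc506f30dea63591e123be8f7d2ed3ca1c6e984030751ef5a7800700140a643e9a3de1ff336466c060dcc1c47bb5b4399e732d1cf47ba1364994931147ac7b90f565c4cb81479c7b80070eb825f63db80d3ada51dd1ed830c00000092df0ca000000f00009601297652e90698651d27000057fca461df160306d51ff407c80f491dd1ecb499a6b977b1b451ec56307528da58f60aa00610438c7af054001436763d70f9934831ecb956432881908b8000a1e82ef85dc933e1188000a6e957642b6116c00008300010a4802300482ea816802d2c22f69280000a3e12b2034290363350b85700adf998d6ca8d8c474a48ff8f53a49394632c4e496ae87254e3947a8ace,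
  nat_lit 0xf4b9f198fc212600000180000d49395c088193432aae3a00003600005a972e3d3dc0000d4241f117c354b0910121493518bc85db1f72f28873097a12ec57f4affc7db56943dd334a8c5c7da4906d273b12174c7d944f9cad0baa3ec23f15ec84db1f5c9c80001e88352a72e45188a206b80d6e00042c0001981b31e672c80220da0002302a6a8037b209000102d005412105850b12a2db1f4a69251451f9890d0a1e3e8a8a1a9180e701aa034c7d03ed931249d0bc547cf1ec674147d2142c7ce5870e09433203347cd6680014d3223e60f300002944006815cf109db21e723ce000054d00002cf259c666644a14cdf40ccd263f401740e7f1f25b44f4f17d42fae834a3e454bac3c9deedf967d347c757800140041d7547c6d281bb8d0367d2c7c5061,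
  nat_lit 0x53a85700adf8bab176289d63ffbf4baa6017202e913947fed2c4b052cf8fdec7fd57e06680cf63fe0f4832790811fece84f639ec58ff40063170f6147f91fc00087d05edf85b80000085e5aa23d3308e4c1ca07a507740000d2b00003dcc7730074bf14aceea25de54fbd6ea51fd74a8f9e504c8578fb15cc6cf798fe974aa419c7a3b12754edd423f9aa63ad23cb679519a7b9748fe53f2f5aa7c5b97672e71fc5601c45b88872f71fc14da3f8203051411fbd2dc16137528fdc41880996fe47ed4f719cc7c0a3f6057000100100051fb1226a44e48ba0d5f4a4000801102ae26a00000059e9e04b0022580501347e81c120bc4169014c7e70d23f8c7f1d01447e60a350bc80923f2851516496611f9059943220238fc641e95a5011c7e20f8,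
  nat_lit 0x2136426f363980f513a6df281ee40e4ac993d426e969d03e481b43f91e85d6cf909f229034a1c4afc95c92b19032706013cf90481818090c2241240b8a4000825492058028002004000019be3384cfd98ab5626abb010654392a39029a6061ecc2b18552545204c3a492e800e001e4a62409204ce8e4a5d273e408932127a25024a8a408091835f0fb5203c4124070043a6c9cee000c1f400000415e916302c7c32400005fc00021f3831c863b47800001f304771f187d15726ae6d6a1ad3d18e120274be5309830068c0d1c637c80889c715284310820c6d900eabe311062648061ce9d5231b6402812924b18c720108209438c689006284000a4022ee466fa8a1113f69700010014bcfc06800000087108188005068094b0296d27d5c1c0da508301040d124800d2d,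
  nat_lit 0x202b4048dede41c8e3000f831b20e01ec29cbdff906e131397a0c8c83607a6f81460e41a8188006a29535a904d00ccb7d8aad2de4ff70000d350004002e591193e6c8136674d0000800e075219a00000b40071fa53f48f4955d64cfd41fd20c34cdfa3b35a66bf156e5c8c82fa4b17e22fc85f5c940905ccde4ea45a38b48927f20b5e017d9211541fd20b2a1c16e82e236eb20ac01cbf620f990540087cd0f9bc829090000081321051a191a3235101511d4190a257b20aa4146993ee2a6071892696ad57a2420052413e5d2c2937b66910d21314a0025209b4c5034ad1b7943447c0094825c75072c0df400b482414e393d3a88009c8234226775278a41248221d50400022c00005a0004306123b84812571011b4fa000d23f4bfb66da9be314000116832d08a2f111c0008d991b2e26a00012de0986397,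
  nat_lit 0x11084cc66a438248c49148b800363d4c8609faa4780029c1a4df89bd9f8000163d01bd97ec00030f31e9e5a2b74462d053590a47b21630a59053390a24e80d5c29b485054a295814c642785d800c0a5f21380280010240232a305860969c8001048e4a5894a935bca80000091043888903ac047e6f216e8aa6054c50d3e425b5581d242eed494d7ec8c50b372129d4cb2821b669451a5e2d5435d9093a707334f304d0786912120f15e50b38f2e8a5d06423cb1cacf86b32119284e7e4121908a1167155fb7c8444649c3cf31e421a1a85960b272108c20000c0a5499c8322dbcb23a1ac438e33f0b7200028dd6cff3c3e7869784923a26a8000e9bd1b4677e979c0001af00012de25be12f311d000000808c2116022d0de5209526f1f52c83cd367e5f072a0cac83b412178cbcb5ef4483a47a,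
  nat_lit 0x1e6fb4e90cfd21d119887210fd0cfb21cc6e14eea9de0cfb21c94a8004867f90e23b018d031cc87019a90de05a508cc4b9d01335c000239000093f8424475e4cd6e9e000010572494ae09f9273e07a80030009ce3f90d9a762324f4b34639cc921ac225ba0326064c2cc4243569d514a36f338f2434899083e10828a4a4340833ea278bccc3a43399899c535206a364330b80f4b351921942724320044b6d8a1341e5e1b00005ce00040f2c89c16ec8198f106ef000083ca2278603480ee3880000788448cb301e29ab43570f61d87249f090c12d094201c3038ba39ee554881c85fc6f000e27ac4f510fc90bcb3c37b92c991b521f9217568467c110290b810e43ac87ac85b2240bc443de42d0058b3516712164facef090f890b00c127464f3c857308,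
  nat_lit 0x1c06ce669122522000c882111d69747a20c0098064a00004440488d986800122067ac106400010fd27a082643fcdf5a7fd482a3cfc79b488dd420f3e1e898abb32663bb2232e00746870f0e1ad2aa445cdb98e5109c213e44507aad65022804664448c52c972c24584244408cb6bf4d65221c3c400235d5a3430c91fbdb71210cc2197504001b4a36944c97d68545ee9897a800009a512f6566ab4609f60000af6a5edad560734000227e0bbe06cd7428ce40ee82130e4244151005e10b9c172a1c9488165ea0f7012e1cbc8804bc4691017a1a7487f2970abb0e4e43f1064c3ca47521f53dcc33ae3890f81040004ea9c53395b25e9927e26d416c1a7e0000dea10eb0362d965b5d04b88730001a7c0008f031e03481215882b00870d3d0002c868c531c20000536c19ccd0d2afa56264041a1643b2081ede118022ec33ec8752c8,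
  nat_lit 0xaea15ce03c33e84d6253d886710d133a4c3548aed460020bdc17c4aa8f08da11ca456ea2959b052b238c500c8ac1d643007680c3448ab20552da61a2455271056f0aed22a48206394ab291502846d4cc3348a70590008ab95b5f02580021024e7387c000006e30dbc2841bb408680e401c41f6e4521ba49589416caa5c11c8a34604452816c00580119144c4b27486af949c914218ae79033b867d9140258dade9dd4fc3913e1e449c9c0dc89e0666102ce7e44e862000544cf36bc6f00ddc873a4f109dfea2000444cd36b96f39d7d9411114000d029a2206d5edcea390001226340a25bc0858000a26494d42140001132078c39707e80fdc4f0c97881c680390054897d4326e208281048f85912cee01e2c35106a622f12255574002327e64fb2250db460eb045912604656a8ad1c8920fd,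
  nat_lit 0x183a2ea991980fc173975548cb057226044a646502da2b4455b23242b400200400012bf4572cae6b24a7594eb38944ea500002bf525d80f0af91b973b4c769d0d0087710f3231b5243e9194532d06372462870207d4a12220c44148c41ab10d621c8b56c8c34c424e0636a4612a52a8e31a723040a4440887e91801f9035cc6a48bf0de6cd13dcd206a40e000695e8f1495192a447ac00081c453d815d02bc0005b909aa9356481600027d0002cb777acac434296015902b9a900010ded34d06f1460da58511aad4700066f6cbd7ae28002256a4ad8e840009bd658168880000de8924701237a6982645a97c15b57b5722d02189da43c7916639922c8018002a42f74065b34b658d300026b18933e6479ac4c500002d114bba072c651,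
  nat_lit 0xe985e5f48e90b71ef05c1cb83000115c1c7cb7ac000085000100166e14dc316be2bba1c4838cea780000016392cb580041221243c487e47291001dfa206f2c6548c8e45031c7088b8914c8e36787f9e486090e48e2174a00648ba47084448e0008000497a17724a10924e11200052f2388803d43ec00012f32ee184664069789b2905f40be6003c00a48dd4be0c16180c3a7cc7491b9a7cd74115f22c791b6afc8349068c8da07f142484c646c85e25d94591236015d7cfa2c991ae3208359029000106f00061b9e68ecd765545479b53800106a606b60d7353400086e76dbcd1d05bc00006ec66f20081b9e46c004a2290e80d1f695e50fa72605327c8d2d4c0ba2f37de70b62c6c64bac64689739db133da222c44918ec31e523420c800833a6363e6348c66a64c919fa96d5a978baeac919c79802d66fec8cd0bc,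
  nat_lit 0x81ddc32792dd83d5c9b2920f28840848103754125824b6483395892925884b1538c490560924c84cec987930e9208d9202c405a8dab9206b0e05b80b8130c920464049bd38949012a80000003269a4d280014140002705d7048128000382e1dc983ce09c07e6c10dd65bc8c3ae91fb2bef130818102e65a7103647e434865396874b0647da481b1f973b103e47d227cffe882123e51fa56f440e91f0106000247c48f728100040100009e3997412ac455845886a8800178e8d529aa4bc3c662000144022a345489d9ab1ac770f6e9ede3a4c74a558cc8f3d5094c50215e951b139729101a4792c9b39731d06394bf297eea56d23c68465119f218bdb100247828499915143156220048ef6d6393caab5ee448ee9096515100e4768439933880323b0ab8e8a2b0b91d601723e61fe48ea04f,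
  nat_lit 0x35a06ac35b492424e0340067035a49230f52c4628b8357492202c4522559c358c92124c498a1ace4900620001651c1de43bc0264c500000b998efc825b2e74f209c9a48f0ef00120014004648e8881432285924701441a01428923630c4c9c9a9491a25c6fe1351a48c9530bc9179924606881b1836f922e2f81f1e4e2491606301ae24b80010318003062e92c52591c3996100040c6896b12ce54400020c5c498b61800001b003511d818ea77e4f009c9248900109223148338466f8a47148d2b1093d49106cc201640381b8036d06f7243e85c8149028250324390b26782c8d24ff243577c9a1927f921885c000c93209293f40004338c6740c9800119da24b41800001de924ce8267c44e161c2e95a24cf938ac90879a,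
  nat_lit 0x80005cd2504b84bce82de92803268a9416fc93f04f93540b6a49f20a0104021324f46480018040000301629c0536b678417282f1c54c0514729cab00596908000a4400040c4c18922e815100020c4a4bd8a2417300000103a341b8000a001724dd4392d9231299a324d92980008009926a3000024b1b493429100028aad1b1a9342d445a90f0a4a13b0f00008aa0eed02580110024b45169631521cb639764992764c27a5d107be0f8493136e4d368ad115749304a6147107ce4978754ec16cbb24b83f64bb41ec925a1f88bfa0f8c92c13a00088a78b191c5800366a08a80648d2626e232a200010300001e8e09121240e368bbce3d06e000440091e0a0d6524a354c5684a1d08b6115022786b0924faa45c64ca34a1b15881ad649361e0286050e1a9c3574925625,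
  nat_lit 0x4a5903240000bb8006a30a40643f887f71f892b2746c002bd1f7a3ada71b4ec48c6debaac0011d55baac6b2622b6af40018e4b1c8488a000a7760fe90bc0002c6882a815c00007558eabc7f27bc348492ae5aeae595c9c95658e92aa002000e5458b5a16b6f6e60e5c1c688319f200086d1aabc558149012a40008da9349c26a00006d3cc8c0181b48d66d05ea0c847a93bdc835c951d553fba7f7862d8c6020c92542dc07c88f984ff0419a4a796333194f8a419e4a722ea6c920dc41a64a6bd237ab20c9253008c7b18f6692961c81fd83fdc94a1801aac41964a4854000b02172520378001006300c473bc279b018001331c664278a810ab5c0000018402e229789a33292cc84b1896b2f4a0ba24a2eaa2fa74a84775817349444d40012b4a4c5f82e9928714a2d881734942436,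
  nat_lit 0x27484e116542c9c508c97ca10635c40547320a1292f6b8015943e18a0c92f4786d9a90f60a0f92f25583aa252d49780289e3c282a4bb9b38e40140f25d87cc000d0cf611a046000170c038d0e43f1c7e4271b0249048e1f324ba4499fb33f6f09b83e449734465264a0b941887c992e53e25f98bf707cb92e2ade1ed43e0c9700bc45621f164b7842000450a01f3c3e72e5464b00021f4cc1aa0c80000fa276f064816282cb32ba3e147c3be6f92d9ab1293850b0014002d4ce6211496bd5750922f305e4cea3a64725aa5ae5db237a574340a64b4b04b3958795127a21149682079d1f104a208c96749d425519fe20f49661ea7bff121621049655df2e77126620f496446b7bf910364b18f3a5e78839258889c4a6b7ff92c20220005293826e1150ab6689605b80010be,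
  nat_lit 0x29a3636a0fa944c9c04b6635df03b1f174999d5d0cac195262ec689671ccc0a4cc4adb4f55244a47e4cb9cc09406bf0d7ee4cb237525081c0f8aa4ca91e523b6beed7e64ca15ed2648bed0cd24c98aecf5b65fb264801517035f693221d0d2fde8b4990062932912924c7929913944ec947528e3074846e8fa40006ae00049c8ee779cf0456f856edbc51f56ad800357562e8c5ceb2aeaef00041d283a7847108e6bf800055d53ff8020000030ec61926187470e92ca29945d149755d2627568ca1cbef3274e33e4c42ea9dab5959261c7a43132f52930c178a5cd4bb49850a4105648d24c203e8894a223260c00c7841dbd93046de9530f0a800307d0000010aee15da0e071c020000a48000800b0b4e16b1208000497f0fba10c001c1d983b095a05df4509497dd59,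
  nat_lit 0x4b370b82000409c000c0f681f549f24f6a1f800055dc1700e12078b784621d3ccea50cf439369ac674e4e9fa5854b0f26ce7c4145b1ac93640fcd47d8d4c9b11905488b6ea4d81b7b2e318db2b25e184f6611c0000358800097b5461c3c4846d2ad80002f5ccb944d4bd8226f88bebb1805e80bb107326b6e14acdcafc1c36387ce584b56248326b3584814aaef55dc774891f92409357a4c00352ee923d247f26ab5800aa149d293526a48146568cb0935004ceeb25c849a700e5f0c525a4d302c800300833d6051c0a7800032000073ab1594ab2c27b0004faed3baa77f2cb00030aca15708b90f00000fae5f5b848580e31a063517712db91d7023e24d06afa332000c0040024499f40511393d7e533499e3bb335423e24ce970c9fd0bfb2671050001d11aa7b92f18b89aea65d41abc0008d7e1afd060,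
  nat_lit 0x137b899633f4d92751cea64ce69bff14b0ba48002d691a2c34466ffc52b2e9000075a255f961f000037600009849def2e8e0872e39a59a090411a250654f099b939face00340071b40954b273a06179bc13c6a0226724e6c838a8807420e8e4e60cd9a216718266e4e587603b1075f27283204b88974939238527200b4a87081d00048c80009aaeb56287111ec678cb0056d0facc000698996732cdaeae1340041fd6500000b2015fa61c2b38db750d161fc9c431e435134b10d04e8d938755237b17b2ac3e93847272708f12c9c10c836626cda4e003449bf02d08407c7836886c800030a81aac35986ca0d8e0002854000000a6f8ea67010c0062a50621ec43988d2ccc3c3526f359215542a98da132d24ddc0c4d223dc67b80f0e49ba467184c3770ef949b91132c5278724dc0ec49b702d,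
  nat_lit 0x193c05ef93e21d527ec04049f01801d9329c24f785d8f470bd327b8b8800124d949a8f6898fb69e00014cdc7b9cf22e1f000046328c7015c0090017003ebd557af2f2693d7ad8059e80c32275e4d27a878073db7936f24bc9a4f4874b6e23040607cc2349e8d3aa559482d79149e702a588ef601790c9e626536865488a92c9e509a1e513e1179049e40e1011e02524f18f100705e3d27882724f0804000084a0f1e9ebe984213bb2af75ae25b382c986447840011a497d72fba8f00000816026604d01e14000024800256ea730432c86582690002cbf8be989a80005f741afc12d97d1f6f3ed8f9de26835591ec7276b5a8f5f4ce799cc79306698cd593b3464e3b659c49d802899323d7a4ebaa8173c1ec327585d85a48f6193aa3e800304d1c9d41f3,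
  nat_lit 0x53f4a80a02718552c8e9f4ca0fd7112df2860006ca0f941d1247828ec81d98941aafd3ff22944a0c0a507bc0f525058f428258a49282800d9d13df694123f800146bb12d9419000835ec9898c94a76101e202c0002cc8000417eb45e1089f79c6938d46548ca4be1931966332502eb8208256c675c0eb9b52d9409ade35cceb11d688a3f280dee8ec41d839a55147a50154d006b1214761cec5ca010b027d857d624d4a000c56610f1fa28d49ff13b9d6a6344c6a49fe262260b50329eb49fd17da38914564fe03317597bcf27ec31000023b45f240966014c0446a39e46bc9837c06ec0003adc2ea493d1277352e26f43770000d6d0006973934a322f0dce7a000092e813e927de2b200052e6132d11f040600000b405100a7213217ce4fa322ac51001a0044041c9f348e152e8c342f7c9f245d,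
  nat_lit 0x1fa8405680b0c9719309458dc62f11818aa9a553328adbe0005000b553aaa625155bdaa1f605ec2e19c34a2991b175b381d2c24a2811e2304463a7fd4a2724636b29902513022000000819882f105e54b3045742f845f10000d7800020a2c1450128000a1db43b0be19d52ff25fea22d6571cae29445aee6ad29f644f27e2f28f009eca21d769a80cab1955d29195c128835d553d2a7c6f4e1d4e55fca1f9bc750295784584a1e4bc0b9e19ea50e841800a027128702080003e792358162073693c41b04ee89dcdb0f00016006d4edf840000570001759cafd15f937e22ca000005a001400716ad2d4f402c09cca17d741a5022b00974a160330ee01da809a4a1552a579204d250a0b70c760269284c75e509016800028d65080a10cfbca7bd477a90cce3a5654abcbf617edb53b9423ae645648ad3e9b4bda6398c73ca10d72,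
  nat_lit 0x15892a8654f0dbfca49a150fba1f7aa044ced94912362c50db79b7e948e37c7738dbd4a4601873800a600000f400006d103fa414e829355b50b000200088a85244c08341094a44d7d20024021ad91b5536a63fea521ea2a7024e069c807fdca4247426fa98e07fcca412095ba32eb652001408b61fe928fc0385ce8ffa947c3e8fb107f74a3d059000463b674391945270002498492e925e15a000063a88214b3306597c448f9f6441eb83d5500251d6be230a484f4062aa1c33c867728e6645ca50ab1157695a52b5c5549471af648dc91e4c128aa728dcf1471798db3a5128d8eee6b15412946a448dac62a7ca3400214e438ea5198278b02294928c82dd42437e694623242e802db02520000b04000cf7d9efe5ef90a029ac824cd7a00047ea547e244e6f242bd4579ebc80013f586b88d749b63439000016942d542fe2a7,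
  nat_lit 0x9a79cb5204594cca888175021ca655224c4281065321d08829103f298c7a04aaa02f94c40061fe501cca611fc399503448ab1154739e8094000ec219245ac080a400013d80014a34947501411d00000084c46def847a07a60f412c2000a4a5dd83983f1ad235b506c2b42005252e6c110761726004652d9c0815f001f29684ba5aa801394b213080bc008ca5803e00027b54fdb9fbe46cf49d293c9e2cd8100007d16a5ccd16196ec8e7d0dda1c2807fc4ff59bef1fc894ad992698e83b818403044f3a612ca55d8065c8cb9cfde4a541eb6932391c7274a5323f03d67f1a5292a54b4d1c9929445200051fc594a01bc00000b40018b7b16e239f43b022d8002170446c08d79fc4ca800022dee288b3d842c00002e0c5c2014d4fe16fa5eed4e41fd236fb292f5fc3ddac99057b2a14dc24a4ad7e,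
  nat_lit 0x9b2c42f4a831d8950405a00046aa0d5d4d6457d8f400000d531aad2d4048c6a79934002800552d116729500d7e005c42713304bd60d6c1aa4a7fa7122f845da075104b209259d253f5a3af1aa06e698cb384a7d1fe2262a11604b966c94f8a3008fc11e166894f6adf2bd8b37ca7a0a51a8b30fa53c8f43ce12ccd29e0048b3f966f94ee6de31fc4c709896788dedc6320000d8800014e4a1420c6302ea723083e9c5a6ac001e005253ac18a9d55aba9d093a23a98100f29d361c9d40ca71954201e539a0153d56f4d50d84064a723e99ee349584054a7145238c6201a5380f49999100929bc2f063207ff94dc1481b9c375ca6d28599992c7253602da58c100529ac2b400088345a9ab4e03841c118492fb65f669019d2a094e12a8007001294d5b0c20c46340c6218e0cead0204a69d851e7a3d09f5bb8e851ce80fa5345d493db154a2a990214a67b32,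
  nat_lit 0x34d169aa4b28966a8c1a5a72a85d3e0755342891f48856b42d6d95419fd4895db1455f8b752a7d1191292ee8a96f16ea54f69f139f69f4fe5a54eaa251318b772a714897d045bb953614ad2e9a5aca9a05c970a2a3654c82bb6ea8b732a60641666c5b4952e108cf268382f5c5dae000065000100db080a10093b096492c8ebb4b63400080db2cb426a000006b13de01801a222b845a9e8a3a7074d04394a938619a3efe5239d3fb9797c21e25496c612a219052eb693788779523b164de443f888496952a4067964a2e1810e72a3d884a33886c951c9c4baf443a4a8d3675c1c21d25460a1000910d12a2c7cc891c58d7a22b84d7089e4a0003b145808f248000413000232fd1db88c311942cb0f25a10000019821e143c58990cbe38be7178e3108ef9698216e543ec48427085021ee59f4a8625f2900b2e842dca854662bf2b2dc42d4a8419b,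
  nat_lit 0x4b285764abe4710cb42bc655ea098003259e4b4212ed3df2b000045afc7918f2141200025afa90e8d8961600004b30963923071a2d790b26aca35166a204f2a55cec90d5b1ab330c96d3ada8278d2ae36445e38bc941404f1a55b909cba49909320e55b23bcc4a25e32ad41fc46593c4956874236009e04ab30a4999c4efa559142800300192ac400c326064b95606deb64068b0d1797442b78ee60001d9067b0cf566ca80005c100032cec89d011a958c4d6e6386c780000cf5046e08e09906774bcc978e6c09d4c220844065566c712d725c456a89db4aab6ef69c2d389a7f13ba9554b20193432486479552066b6e67c913b595507260e2c9db4aa716e25ca4b865530344aa502d13f744c1db5522d2b864ee4000c63800269aa4a4c13b027f2c60002d34da6d15c6276f780000277acc28023,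
  nat_lit 0x1f1a3c96792f2b6d7d8814d33995b40ba00265b3cad91e60004332066698d10a626d80005e1f3633405e19f881c40d4ca0275145a0b5916b903ed2b5f5729442d275a532c080fccad667a3c16d34cb5796b703e92b56c84a44896a12dc07e256a37c286b4e1484100facad3615774c2c7c0fbcad21bd0a4c07e656881e067403ef2b4036c000002316b25b000000b400080080cdf2b446e0000016800e41a07090e0faf4c08e211b25666c9aca03a9675247cc8f924e332b2eee81a4218a1212242938c4aca6114fd92ca4234cac9209135c9c6a5642712e804e312b1cd9cd791aef958c3e600019240f9b05420a7481d63805f50be8b0909660af7958b53a330402a0055000e005057c4ac443836420a00141a15c04da09aa561dc5102947628c54578cac24f2353cb565baf8af295832c623d413f027c95805d201245794abf087,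
  nat_lit 0x5c92a7c0c0171c8484ece88e711da9884af896524e6767d32c4af7037001a0040c5a4af632c6d6edaca57a962069f5b3f2bd01ee678158a95e611eaf75f0fcaf24490002d98d678a84e40a3b2c00000205f58bec372e0006454000004000176a4b3a5671b1b2d950000a741c3b18c728e78a8f14d8cb310405ef2bb2910005000647f72cae575b4f078824ae495017e4aea3ad2cf2dae017e4ae924e5ddaadd817acae814c96500bd6573802189c05e12b9830c002203040654076a23b213d94000650d4a1b012202385d400093c330dd0fc01f7f328000a7874f1c2140001c33c37601808ac1151291ceae547d2b85255cff85c00b6816b2570249542e085810d1e4dcadf91813d6279299ecade49da0daf281f944add5de0dde8fd51fa4adc441,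
  nat_lit 0x302228c603a258b102d2ef01d12c553884cd00e8962804b02d0074cb13059000097cdd2e041000002d00028186725cef61170000c05dd50418812340be81742440486001e004e587ecccee0000e004930ea6174c3b2c3b56883f335d98f2405cff19fe2961b9fcd94de933d823bf82dec5bb4b0cd98008c0e326058b759617532acea7d3cb0a3a16022acfe58482bb36c56772c2004954d2a9d960e3f800059b13363638a9549db0000336166c0c5ac5c400b001440d4c46588b9451960bb2e9fcdb36319e6341529ca29cb04d72332cc24584a36564f76514e581c191b067036e544a27cb023d1019cdd5e03d945296024269f5c2584b669600a8810d8a26caff1e96012512657f0f4380b99af2bf400c50a0a1195f86de00007bf16bd0141efc55100008fb8000001,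
  nat_lit 0x212a4250c950000599000616842d10e8e674ef2b766c0011bf3383281804580009bf1020426a00009e5ccfb04b37da831673a4cbf230853442e6cb2fd9a06a4db45b67d3775a68171e5976b6cb2f00264b25dd8c1ee0b912cb6e60fb49f6c72af40102e2cb2cc68762617365958130fb10b9d2ca88080000168002179a4925a7a32c953f00022f1907c20f70cf195000005e4180d15b97a22f09e32bc60a1ee9750e244b26a4e3ae251200a101380cc85be6592cb88d70015402ae6158bd117b32c92e08003151b1e6a3cea591a791175107620e0b65cb224d23b08760ce214b214379dfe70f65900c9819b387f2c7c80433596f2963c8260001834b25004460d6e4121e3c5ba2d905b299a2800043d00065234c83846308c27ac0008a44148929284ad2cd00008d731ae542b0f3c000016948e604149b4074cb187e300205360073cb17293,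
  nat_lit 0x15dbd10055fd43a4cc4cb51996722d1ab677996bd2d732d4367cf1e1e403c9066265a79f40d1a31c663a4cc6cb4e4b19e113c18cc6cb4d3884a786c5ccc4cb4c599663a9504cc54b4b58247d6662a5a51c3b02b33012d2479a974d2eca5dae1cc000c5700026132da7459c8b3531c3b3c00048ea11d248666560001c2fabfd00479af559dbd4815396c52d8c0af8ed3435c86c25a2ece8008705607f00fdcb44647176e78ee5a18f4d204a4032d081700ce85c296820b66600cbc4b4036f00040a555ba1720001051a433464c000029008dc8332dd0a5eb1d000de01c1174cb3dd9ca6be568cacd0cb219692cf18c15a6cc631a3658b4b134b3bb3b08cece699cdd38a96747123fc47fb383096723d8065919fb8a396709d0900d2ea36cb966ecd006a1b654b360a1795efc8659a96935ea6708cd4d9aa0001200,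
  nat_lit 0x307736b949eae6a5ca72dbb27c00717e430deb94a5b6ac02c8d78254a525b62788fd31fb52dac2bc3cfacb096d416a00098ecbc13a5fb151a9b20939da20002c77942ca46800063b600410658ed44b6896b07de0b9506596cf51298913102ade55c0b9fa5b3443ba477ba4bc9478e0f1996caad265f52fbcdf5365874d25b25ab800d43ea3c6078bcb635ed0f6ae93d73ecb6220d679e96fd2dccb6147f427885065b005797d45cf32d7c2d563bae7796bc50200087ed8fe63276bca2d70000a2d945aac0451cd81ca5314a5b1b3d27b24fc4db52d73685caeb959625ac4b1f724b5b8cb73aae751da4539196b4de0e085c0a42d37dc12d651362bfbef676854e3e5ac40895f27dc94e525ab867a1e24d8a9b2e5ab07faf237dbf2d541100014c4b6c0d320c6b06748001162a81e81800000b1a1a447f42c6058e81ad00220048cc9cb52da0,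
  nat_lit 0x40f8eb55d6b388170fa3e766524b8ca1ca902fc7db1741cc9c4032065c5d42801438bc2e805d18c7d9715934075941a4943a69e32165c4baa557a74009afc6404b885b410ac8bc8daf0c7d970e09a80900a58150970c18a74a4db78c79970a1ea0ee01d98c819708498581c63e4b83004190831de5c1048000000100029a685fa885000015222a3811000a00150b2f2dfc425b4da5700b312df84a4da69b4c0b2f2df428e06b859596f80bf11765f9cb7b2373234163e5bd0da912a0b2d2de4b7d002059496f041cb0b42c4cb7706c4b2a16265bb0498003006000600216432c887fb4d3015c83793d2d7ef6fdfa41b1b440008000af780008004001883200025b923cf4130004c796240ba3a5cb8b9665b8d1123494684b47d0b24b8802392dc3084d9c1d3e86ad53e5d174b6fcad,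
  nat_lit 0x2f055e152ea42ba5f8035a15ca25c04b921560001aec000c6dd8adb15a86e450b34ef9ca70004370c08710080011b7208b4e2c0000dba1b8632436f023b847f07df2e91300b2a965132020fba5d1a302c14001600481f5cba24540d6e59e01f8cba1094043a57ec1f6cba00401bc0d4041f6cb9f23981dc0f8e5cf00d248c07c72e74140000844a97f23e00000bca26040142f2b2fbc00016b000000807d80ff60dd38b16e4c44ec89ccb99cf60b287375cbd800a002c45125cc6d18aaf984219a65cb8d81937326644fa5cb1c0a0be4c4844ee5cab614d1c9a372e5008433b0670972625d447089ecb92565009644ee5c88478cc719932e400c400225c539fe7f400084f509f4360a6c0c744000cebd919d129a252a4c000002d,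
  nat_lit 0x522c50e89dd978ef48dec04eccbc654a2d3227665e287e800a001f2f103f051009d99786274d1f264ccbc229100080fc9bd51cb800082ba15fd065fe1b55112bc257c00039200009780bc7a7501b413680acc005537baa1977e07184c05cbbea4607d49159662b2d5301f2ef5df42ba8c324384603e5de1f425b145288a5cc09cbbb9186d574764c08cbba42ca7f321aa6f94bb94307718c0d4c074bb83f03ea287bcc07cbb73e76bd060365db1c389c6301b2ed489d15a98039768550000c4400882025000000c00009b6b6931923f182c445851af2430085e65d8d9c90e11b96003000987a30f412ec18395b8ab767064bc7578acbaf54c332a667a296d05357912eb993425634e05e292eb4836a9ac19fa1732eb0a5c4ce2f1397568fc00090accbaa4f7,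
  nat_lit 0x400735007b3cbe402c9df268ee5f183337c434772f88140002501946fe8e1048c000a8c159a34290efc00028bc5170716946052d8a5f0010003db64cbdfc0f647817a82fb4bde2962ed45d84baccbdd1e11ebc68ca5ee0bb938040d12f6c0912cab6c297b44a670a0e550cb419724384000d0bd2e974762e245c500006c90002c0485c18b896ea00013f306d90db6763a2eccc4ca3814713892c61a5eb6d3859c989a54d1d1b4bd57e5000c004887810ee97a99aea6858bfb8fe97a65d02de45c14bd208b06ee0dce5e8a38d2e2a5c32f4013d2cfa5a3979e8293c40e96cbce22300007c0aa6ad41e9b7654f52482885da616aa2d6c4e589cf6282c511d328000da50002eb14c7898eca5de12c00018f0121307d63982b2008b81164744276e5e56d2120f61d2004c00a4bc950e302c60844ed4bc83d3,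
  nat_lit 0x46773fa2600813a1a556f530015942672b7a97fe0f41b8d5bacbfe2eb000099c864393925b5063a0c51095cf4544447f2a5feed6030d1a9c6cb9b2db6303f8b2ff36ae617a0903f8d2fece766860c5997f42ee0034fe2cbf9015000216cc2da3d2d7a58f4ae9fc00002900504017802b3219c3a03060618f1a9e2e7c8f2fdf6a80b1814102860549109270c97edb52a82e82eabce579f16222c54bf57862a72e801f2fcb2b8f5357c65fa298cd0518b4405caff4bf35405242a4a29ff4bf24375bbb56325f8a1b12a88e1d2fc0b86768be3c97de8e2b74d6eb4bee4649e8a86da5f6a0a27004e052fb0c200009f0a3e10aea0000f87cf080b73e164c426758392072669225f54f655e150f5405eb314e5c97d27182018401a49322d335c65f46d43788747ec6acd22cbe77ed2dba5b68d21cbe624e2dd228885124be515e,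
  nat_lit 0x3744290051a3723307d2a4afc95f8a39d3078f31187b2cb983a0fe9a359c84c1c3a17272ce3a60d83f2b14a145306815dabe338998321080009698d1b6664ae3b83a4000ad3172cac9240b80002d2fa372f124269697d0df5a22f77dec886ff982db5e12242f206fe0e04a8b83814c15dae9d9c75d810882109b6e1c0a60a3bb216d42e6947437c4c134461d4e3aac0078014982545a03e8097013198226181c1437fcc1052223181be660785e323c994930382908e206f5981a3d0e6c83784c0c00372021bc660584200003e66d6d82927858b2f165a33b4ec384490005b5ab0f03d9044c0002e10113422600000de000400341d683aa56f013482205e50001980e7f59b12a708000008001600585944cfa56e3426a84dcc0496a1d3ec8393134c0385c4c5a98a55bdcc02530,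
  nat_lit 0xa0a3414231a9062a0c5c35e6db000423646decdc206c0db5000617442e3b161529000446a88d31090001235d31cc15c00011ab98740073715c99abca57905a5c0ac4c37db42fbc694d504aa0664ca057261b6d9c4c689890e740adcc351e360b005a00b381599868ed00ad82a3815498663f415d00ad4c320889862010001c1560039036000a7cba65b83ebd4f92fb3da80000f50001238e4720c6c94700003e72637cdd4d3ccea39d4a10f021b8d1a1a3930b36ca7be4981920f5aaa752cc2bdb13e5888254451a90985536f3189a2fb1fb352d30a5cb007c00f6352930a03d4012802b0e2f309c988324156f2ad930989315089a8a984a0a0000961338fb71f425a000561319ea33c80c200010e5002400401c2b08c004801757b8af69654cc22daf17842ee91deaca37e54ce4e610ed81c4e21c2438a8e8cc20402,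
  nat_lit 0x3801302f016d262d0892e745ce7513a1b5cc5964f2416c141823cc58383456cc3ce62b8753cc4aa7f3158082961c36798aa3504689639cc542e2001005a6959df3000312ea35a1c7c00021a80020be53340dc82ad2560a1c736dc0009cab409ec6185bc0001ca49fea72401f8041a6bb4d72b2726272cda2a7455150b8005800f989a4e6a66438306f50de2b14e6263f134c334d80028006cc4b0b6a56ae57964bcc4a4bc35f73b3508ccc4937d98c0047e62411e8167a201311c9c8001bbf5592432400000c606bea556a0f941cb69018f9f8e162a62296f34c50014004a62203a85910b15310c14a1ddccb898842d869842c2cc412db4678161662011db5450b0b30fc61408a011a987c192631a74300031a1,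
  nat_lit 0xb081622335f98ee9e244f089db7fb98ec52eb0f9bfccc7520c22349e4263a27b800968d931cc2d000134af286c50b8a18884edbc0002d2b05d60bae68e04aa0001a56251e137ac92a20d0a3cd61161c670e638319896e12d138349264c6f6f045ccbfa682d9df198dcbe275a0eb81df698da1b80560e8e1d1d98d823885ac07900fa98d688ece88ef94c6a3300006d8b53f40a0308ec11dc0ae8163dbb0004ea49d47332046c24d20005d4a1df513500006a88d4f8220f75110821f591982aa993c22626336dd4f6d67e4978ceff9e038f0b31976e4ef9497badf11e1263221fa67f8e1d1e023c0cc6329b00c412ae2b2cc6223fa9671e0a630aa502658ac7318052007080e998be014000cd2a334295a15751909515e5dccedc0008d2d8a23143a736b1400009a5434ba2140000d2a53f7018349eedc4d209a3f7fd8f1661b64c5bdb8,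
  nat_lit 0x2bf932dc0004429e1399760000088001036106c824aca7f0cb8d3180035574df55dc8bf17717f778000a883b07421172ea00043c407848bb56ba0001559aab63e3014c02a5af5bcce0a06141e6476df517e5dbcc4fc2828506991b420f0821a242c28581323016927824f299160a8f02e15dcc8a336582e91ac00006f00045ea0bd50941927c9cb0006c3e9bb19e603cb6fd000096dc2db0a2bcb44000587c27503b8e406000187a441087f2540b6d56ddbb907f775e4d8744c84ba80010796449889339906be0bdb483b86910d21320a249bb130e79902742ee4986e4c8005ca385470263f942abd257a331f816de5e30db98fa1080000020c2344ca79a2000046400091ec8a7d1501e69bccfdbd00013835c279ee11ea78d8d1993dfa7baa5cb31e6569c3052f6af954ba5a5ccc78a92,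
  nat_lit 0x16a32f1a5e2265904d18662f5e5ec2658cbd0445183732c033668d17ae995e20932b80200018a6d0918121a7ff82150416083746000105a10b51549d3954d380015088766c4d40002674079009625f84c08cb01962119c17f030199549d93ddeba1c9ce8f9732a591667c45bb8b811f2e6541d94d013a349a8e6539b685409a2d1f2a6531934fc8ad5f329438c0ea55a899481c93d863e34ca31a899511f1a65109d1d5142b33284a440008429084c2c3a67fc258000086a75ed0642190c0342973f6e7ee2156993f1487840f07845a05e20bd264f35288bd99f01118f86470a993ab073d9e4dad7338f7b3271450e6400c50183326d6667e1c9e0ad473268fc996a44168f793264f9e7abc7ba993085d341a3dd4c9725d000008e49ae10449c0817702e843fadbf04763250cba80021bd,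
  nat_lit 0x800602b220100020038542a0c80000018a80464800900160ad25f1cbe5a00e5072362c6c206b9999bb84234c4691a4834941ad26665c3b9756e7644f48a086b29996e4af9359ed33d00d5d3328eb454086a70d4933244b15d106aa999000899303554cc7050000400c9aa535bcdc2148a28fe6d38002b8a54ec29c0000a1a82aa056200006480004f8a3ab45d426ff02af0561b8231066e7b1b899844f0d945b29b1b599824b6a9d696531b699801d6af5690c4cbf1776de2c6ce65f0124dcb636732f44506ebb12d99782360034bec4cbb0150004157c2b0be5fc3e000215542ce82b80000aa4016805269481490286877d0ee97d59971b690f2e6e98ced2f6d32ddb44ed81d913ac85f5265b1cd85140a3a5ea0be84cb5dc00f1ef72cbe8ccb47be498a935cbe84cb3009,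
  nat_lit 0x4e29350a6768109c09080b33b07646f7840a99d611e9d4c2024cea03133508a0c2e700000090000003c049804b008e40e0050e8350479f8c75543ba4ce8d544bbceb42434d70c49f61dd6673d17a3f248b53c54bfd45f79b09339b70d0dfb87d55541dba67297513a672b44cb43b74ce4c009a0f36083ba4ce343701f210266711720e2e0ed93384008cce076899c009e36003b74cdf4350b8a1db266f209800274f93f78fbd02b4c730002d9ea68d0850000763a0d6806168face559c6bc2d898925e24b7336d068174c5e790055b9e66d1e4835aacd917ca3c7ccd955d19a633694bf4cd836da4bf1fea66baa500a0abc5335839137dc78b99aa1f83a2a70c4cd40de1cc839940010fc0be717c000042817761eda00000aa000c00a8df108b,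
  nat_lit 0xc2c1004200b6e7c00060f69d24a676e7c00011740009ad5455e8c80000d69b0b247635b46c4eb82ba75ad487674ecca20286b70f46683ee597e7405f1679d1a89fd13ee70297993a0eac77341b72800700ec44d49b1d3642cf4a381341772460c333f81531f7e27ccd04a769f89171abf4435d8773340edb48cf1dc5741558de68122a17082e1513d66808e9d07ca4cb005e6800bf01a2709533fc30cb5ea23000022f0000998032fb582ac72000597fd07708a0000cc3cce320db30b77bcacd9280a4fa0c44188267dee439caa8d530e2a29cf1b99f55104e1c9c14d2c04df33e5121c343f3b8c885daa67c38580df0716187267ba23970a0868000104c0000d6d2d565d3e789cf140867b8e35a506cb74161daa58117284f90003b8c4e0ce82237846f8dd2c27c8000dc500054c9ea8a05004e10002dbc28bc0cd00000082c14321c2c88590000e00402044cf0dc4823f44e8206ccef47a2e1038c4204ccee29f,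
  nat_lit 0x9630c1b34a05d9ac6060d9a4e0b2893ce03939c1ccc0000a48001a7f26e102c405879d841cb0396f74800127ef1fd23f94330b1300014fd6055c0d800023a8442e0888f011ddb9d088e2c968da09b3e9a45ba27a98f55500875252a0e31dcd21a5182f90a128b5a9e18c753482d440aa183e307118d668f8eb2b0d55c8ab8a68f102b3ec8b8f34740a08c246379a3804a685231a4d1b1764ab918ca68d10e800d358f3464164d00a65f4da4ca51d34bee40003ba0ed8df7180003080004f1fe2e02ada55b7501dd556e78001a37ab1c1c04899000079054778235e3ec137ab252e4a4128e811d0b34537385d1d008948f5380d60cd13dcd40a48896a6f1ac09a2520e039407387a79a2206617a82f787a69a204b4ca6d6becf869a1fb9955c4a50149a9a1c2260dd81bfcd0d0689a1805a0014bf300131f0,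
  nat_lit 0xbc0d3ef338a376b35196d1f6e47e071846ed66a2bf684a4001a00426a2096037306e8427a6a191c8bc8178535081980ea9bae9a82186cfdd9f80000281000ad1dd490a91e028405019c3cb90004697b2c8a52822be457737668bc00196bd9baa1160009a5c3ed44640002d1cd72b20c80001db83b606498cbb18547f88fedee9228a001c004e89b278a9a75baab94603fd6717322e65601bd1349a7387a4188833ce1b15209e1a69c3c504a01b3a367d3bf4d3731652323d047a44d3615449ce3c207854d355e237449df669a078bcb54efd34cc1417790c08118a00045697e808c100003960009a27b3839bd688e00052e604e81350000a1d1d6d825891a122f48182f605f31a98183a6976ea272b5c1207680eabb780c1334b774e847c84d1d0239f03044d2c8ec09d038683e5060c9a560b43a2e6cf057c9a54c42b2c8306cd294e2,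
  nat_lit 0x63b8a7aaa7d50104f04000a756096e1f000023b7c25783e80001dc20e400500078013152e51ba841b2919ac1bb537067bb4a03a8c8daba6afeec896c577caf19947cd5e1b202f005ce6ae87eabbf6f3135702289f123199ab617714829c84d5a00a02a135d06db8dbd320418900002fc8003a284cb2dc6aa72a18d231bc312e0500024e4aefca49bce4d78f00029c8879189a80004e400fa40604c3098859a3509c65202ac054b3557760792466c8cd721e66aa05c03e89023204e43ccd531944ae6a81d58ccd521eb9d3321c66a8871cddd8c1b35400a66acc8759a9e35137d63354d4e13a077e0eea6a6805000535d139542dc0024fc43c4a8273d9cbae0fca00003d40000b58046508c4b905a9861e4e531890104420a9bb79a93baf049eadba91d447c6eea6a46eb04e709bb36b4ddb4d4769e,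
  nat_lit 0x43c885974b2d2dfa697eea3544c6ef80033c829a604cd89995a6a7a477780011e42418a8328fec0009e440a1626a00000c381880443c809a615c6140027fa026404ecd7d79f22de45c977031b7a5969fb66be6df29845304c6fa965a7ec9af6c3214241c1cdc226f335e875828c050c4fd735e77746641192233d35e2604f7f1e329aeeaa06008c05cd7606a2fdf45ea6ba8f9800002d0006392472514c20d36ddc00091b8a37480380ceed700008e471c8c122a2680001a873510258e5797903ec42d065a1509420ca9ae1aa941c4fe317a92f40659e7e04d6fddc09dae39e299a0c69adc9c83ae69092c86419535b629593eb9ff418735b0ba66ce9ec19ad69420b750634d6a2ae354282fe6b48c9cdbe1a3735a013c1964fb89ace826e5fcaee000000d000a3bac4c5098605fc0c04aefeed80041dcc3c9ca1a14316e6,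
  nat_lit 0x30d23ca5367c242a9d389c710ce1fc00017180031a7a34e68339dde4e6e78ccf17e3b00026f2ef7b6bb4477ca7b0002de51e2409a800057234860e5dbcb301d6030b35d66e52a11ffb366a54122eac1b92f71cfeaec0ffa9b33bc6d525aa4478481443fe66cc5581ba4249f3cb47fe4d971ddaa9ad9f47fd4d962ac39f93bde6ca8e700040023365003929d8ffa9b262ec6dfc7fd4d921f426003fce6c890100064c753bb504c001346d5f7ebef98e4ab08001300260209279251241000005b54edf0ea89c512eb56d050a0999b1bbc4eda6a4bd49647d28fa26c650d872e2df4987a8e6a9bd9b17bc27d9e840bb066ccd3629af8e4b9c963df4d9966c499e96e48bb95501b31cd8844a723a7cccf9acd8715432c08c41b2fcd861201f4e3e89b314d8524c323464626c20788feb6cad360c311ac652625bb4b75d35a8000de0,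
  nat_lit 0xa3c946d11d79b7a40a50408eccdbc4e23ca6474a6dd812a63023a536e88229bb11d29b720d521b48ea4db82020006228d5ce1cbaa6e26904d389bda6200001bd000000be02e005ce3d805e521756b7a88ce61c22c84579b6bbce002400ab0e68b7d60ce09986e59b69bccd1f62f1d8c98762115c22acdb3de569b14de5a85af3a0dc536cb425a32157c0dcf36c4c983f486e49b601d498e83724daf0fd03f21b926d705406ee0dc936b4b8800331e04c1283200000b4000ad475a90b574449bb8074474f927aa1c856730002b7cb72ea42c39200002c00002403355b112a224ab474392de4900ad19da3484c40987369e92dcf8b3863cbc795a6d34e23a12af7129b0f2b4da514972a47e88f331e549b4970295612aa9e559b4750e4a7828d851f9b442bc97e03ea07de9b42258791cf244da001a,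
  nat_lit 0x53c9a3d7d33764b2f65d78d4a880011e3087810640000f1644ba3243c6460a0c1b0e0e1c01eb4cdd8ce86641313e47bcdd7412a7e0b4396854dd63813c9142a6bf94dd518e248e492a6ea0108f571e9f374c4b9fae48e49ba41a088ca47acdd108f38f523ca6e82248000447a3280696afd3f4912b4000044c0009cc63a1e6eb44ad8700000a0e941c83a8e61a546210c420d30630769b994e26bc53152623ab13372cf3613e52cd5f46fa0a6e5449270552b137241fc5300a669b9042225704b14dc70a49f24a7ee6e30c8214a426d37147f0000000875b68e400041f8104b427000050a0001c038cf719e2ada108dc3b575a5a2b49cd76ba9a39e9b37077b19b13360a36c9ef29d139d023ad37037ad8871ba5374ed759ce791d59b7fbd40828ac5291e5242003c008cdbede9,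
  nat_lit 0x52e823ff37e013c31b063d9bee828d3049004df64130006cd7c48989156a64d4cd6022c02b4b0004cd685288a4f76e8e0200059af895b1350000b7f16fd022537069d112d66a5bdbb72c441a26f96f839ed6040c08c1c3827a050537c77bc4a9827404ea0a066f83cf1de425ea4c008334def3b27406e8d48344dee3d344c6e9f8832cded7a46b5041826f6011842020bd37ac0809a710619bd435089b8830cde90a8207440de6f4005000502d0006267184c9f823ef6af285880b0edee0004266d84c33b8a130335d30400089994d940df41be6398000133a105ce5c4cf0fe330c0617d8fc17672ec7378f7b43f307ee38f29d6a6f10d9041559de9e353b04de129236f26df50fb4de01eb2da09d5a6ef87551c3a38d37780a4a6f275b9bba150a5c13abcddc2915ed8bdad79280000f0,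
  nat_lit 0x34db5e80bcee005ce1665e8f6f49555064e154bc10322059525ce144b7540ad57a7099060806123b38489c849e09379c22168000d33fb1eb3cdc79ccef000126829d2619885bc000a67c69da25105d40000b89171672499ed8f3b1eb5366a6be2f0bb8c60113f2ca01ce0ddf40b4899a133626b44d6cd3567066f9a00f0f9c1f44f31948b291d382f5f17743b3c69ad3828ba692334709c129433bf05cb4e082e10e94d33a7038c980070021381880432fb4cd9c0a86a24e9a674e04223236b56619a517b8000076800123b7d1c023584698bdb6f900038edd4f605c70b8f4390004e4fc44f089c2de00035ed614191e800081dd1b18ef9fd03b274a869521df412089bfdbb8adf24d4280650144cfc901cdfd7e73fd07d9cfb5a9314722481e6fe6f89ae435d06bb09024dfb3c5052a0a5041392089bf52c63ed49034df9087,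
  nat_lit 0x4204ea10aaea526f2cde8433a17da2fc167b4e33df61a5853d4a8097a79c647347fb6803950a59e338c6a5ce649ccd500a9ff27182818011782ab3ca7178d4aa582a38546e7170b89cc12f3a5e8a716cfa2b7859d938b04c4bcd17a09c5619738a8020003cf081d263e00000020a9295278455000400013b800250bc3d107a3306a7ff75080004cef19dc717a904000284319b631e0b86a1764f308dc11bcaca27125a6158da011401cabece237ba15015f34ac0957c9c455344e0c9ef2eba9c423a65f10bddbcf99c401ea38127a795779c3e314eec5e54ce1e050000c67a105981b0000008555eaac220e56d358b54ac22120000bce00005c0df4288a96f72deaf549f653ecdac47386996ea8d456b87def7cdef84e19c7400164f909f1338b801b386197ccf1d149347468dd084ce17df5,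
  nat_lit 0x3d696888d01a7288904fcc2280d0127280162ca55942d01a72791c937759eb393830c002c34080b826a56f5c3680010c8000005a0004505276c0d941b2c6858848108fbf600000370069128140a003c009ac337a183b92724efd43396ea15175d6b4f8b9c90d4ae26ce039c03599c3b8e723efc8a5f14c8f78476ece463e87e0853887714e452f729c43b867222170fbe1dbb390cb48001004000028d80034428a351b01360118b2318d6f9090000077e168995af220a121c00032780006e2486e82429538eac1d64fdb1bfab7f815f738fb7de15bcfdb2572b0b857d4e3dab00022a9fd074cf239c78e5b01f278a0a479c7641241405774e3a4e241682bbe71caa80d2415df38e0150a180af59c6e3e82d805774e361f3000548a9fb23f63a21c06040bfd8500014fca76dcedc9dbcbd0,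
  nat_lit 0x7c293ab2ae655d59fd33fe1abd39bf7f054eaab55412357a7370730c866094356e736a33158a608e356a7360dc0a0f142d39ac1627aa8b259cd438539a40b4001109421189a5c41713480014db042d0428000106620d00309b6139c938d9ccc1be5db4bb713949cca331201a809ce640ab6fda4e4e73185d045f272739885e004c938d9cc24b876089c4ce602a6001a004672f87a384427193978614858138a9cba1e6bf109c3ce5c0c9000cc98e9d88300005747ce8e504ebeb484a5f540001778000b7886bfcbeb0fbc0002ead516c3b4bf785648aca364a6c9272bd0dc67c994b329260ab40c9cad652ea396262c5458bf3955301a99afa05f3ab17a72a54d2645240639a4735ce5301982e6f39da054e52a87,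
  nat_lit 0x814258c419204f5326cfa47ed8ca4865a7465ac22343307435abe4a05a40bb3a2f80d96dd0f4356847f09014e8a710449c93b9290251f431d3a254f0b3096605a82862e7442ff9a1ea1c27ce2743a6f17e323d9404674325ba182431d3a142d4b1721849d0816943e5c672d7600005ee0009ba8d1f5479478f28a6f0100016e9c86000d8000096c12e6088ad656183bc178aef00aa1f147f9d015428e082b70575558836286c0ce7fe01001600506c60d809cfc7926f5c5108a289ed139f60f5be28b3c167f39f0c548c894719cf60461714a3bce7a02016553d9273c8d40b36167739e05208f394779cee1bc00046649fac8c74b8a051c0a3219e3c013d9d3fb379f3ec47dad61e8004dff1998a7e959bd97ca642b4b0001eff01d2038e07000011dda17142ea0005190ac72d290000826000449d893f323e5808b009a93dfd00003e0540d1d6c043,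
  nat_lit 0xe00213aa86b84481ad19d520e4d7ee89acea82eb480ee332a761f670000158001082b9b7ca24679fa53bacd03ec5c10000c77a4fe81e0c3c328740010ef3088410f276350a8001143a288442800010482094089401a56b55d170fa977692bd2519d45c0f44ee1e0cd2e87d5480119e4ea1e06135b5ce8cb4996646773a828406e10dc59e28170e74fb96997432d8968274f2c623e347653a7409a85925a59d386ceb53d2d1ce9b1432096413a74d10e800449b35b6c2dc001a4d99f54324000159e17e32fc50166c70c7298e38e10592274bc5da261530cafed5ff16449d2c9905fdca9f1540a1153a578152a4c0f78ce0591a74a026217f42fc591a74992716ef563a591a7490c5c14a38b458ee748b3a0cd21bfa591674808cd70a2c7d3a3c1990c716399d1c120000481396494a3f4f70ef2920de04,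
  nat_lit 0xad2d5a8bfcb9213540276463245d3afa1161d6612cc39d8fadec755a834595711d3b19156434452f8a68e2367629a48cda19ae5d411284ec40198e04f681c48cec30942f20c289852cec21207da0f569c464ec112c867efe3dc46cec023916fe2df675f80217d9710f3af8310000527182680fc975dfcf58ba921b152e2a880017883d8d16ea37d000027b0002002ebef46f9ba300000100045deeb8239da805d031396519d73c1222ac44f08a72fe05fca8574eb87ec6fac64d8b284eb74ca776eb770b25ceb653032d6593275a962133926713ad04b8be516519d66aca5904b22ceb206d617a593675881f30a8613f18a8000122000145b055e0aba98b80003f827ef412d0faa1f338353ab85652ad998233033ab4c752b09c149d5811a289482eceab1d9,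
  nat_lit 0x20060004b89c3dc07b50f566824d047050001706f46f442800038dc571472ee0d2044ca94acd2f8dd87030e39dc55e31bd9335180a1bfa37f8af24ee1d260024004dc3b30e79dc08e85f8687d30e19dbeb186c3d8714ede1ce8a84c39676e9b38e64589d3b708228a130e49db63e8128586fceda202000b5006a0101e0001008614e96910d321a939380006db42d3053e0a8800003c8000438771aae35ce4eaf0c47e437086d99779a3da1e53b560e424f849c3eb28b44bf4ced47a0626aecb1deb17ea9da6c715c4c00f80209da493a1bfc38217ee9da2bbd174800680129da07e4776513717e99d9e4c0004c00e4ece1e770da5f9e7669ffa5c52fc53b30044002b1ecaeac716001196eb2e04133cd479cab320000430000162b62ac3e763ef,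
  nat_lit 0xadb6f3229be781803a79714e13c08199d8e8a709e020a0001533d267853368820008a8007be3970000a8467cd03f2a1350a47958f2a800d002f3bfb832866c50aa1e93bf467d4c280c201793bf11b9347001000293becd6c3df00bc01753be82f83c9313e2cf13be46245d28bac9df0652a9fcb3c4ef7005017402da77b08a11c423933bd446c6050c219de802aa0fd425b55400013e80008cd85720adae1e00004cd892200cb29000000cd6b1590052e685cf801e803f1a12341677870589dc13b273a8baf4eef4462bd057942c0857e9ddd1245ad85f00bd69dda6183e4c8394eec212a72ed4d2775908821b04493ba829200555cd9dd20fa64ad17b4ee801227004de27739b780009e7c11c423f84ca71d,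
  nat_lit 0x11d5d2874e393c851dea1ed8099e400fe6fbdfc5cf1f2112f50fdfe78f0524f824ab93c74a15e5fc5259e381080008578281a79d67bd0e3f1c7865c09da00042b5057010a00002bd859d1cb801600300b5416b2c6558d2a36e78cbcd9bca500f48d07298e5951b73c6308c9491dc651fca36a78b87050005a86b51146d4f163b2345c68ace5fcf154c43cf6a289455cf1445e151a353a789871d316a6313c480a461328d59e221153ca1453cf1014801ba03b678794880055170a2d4180002112815c482649e1427297700003d40002983530350cc71aa1e6b38566f60c629f2785c7c0bab4b3c968098ecfe39e1586e599cb35237d14ed3c260a000a4fe014d829d67841a4bf2d60e0c1b853fcf0744a0f4c1e843da4f061362242445053e4f0517ea7e62a0453d4f04674,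
  nat_lit 0x16fcad5b3b353cf86d837508d79e7a0a0000000f801e2fa1455784ce0623af1844307e18ebc0a0003c24cbb9e0400000a400009a293439df217021f62af855d8ab69f3b3ce65e0aef28831b2541527ce4f38c54001c118c6b9cf9b9e6fc225ab0b5705139e6c4124754288cf3502605b00b4e79a0074f910a273ccc50d1a9850c9e643e661c98b280012850006003dc393a0a74dd0ef9f8c56dde100004002c296be4286190c398b770780010020700571a1b98000001acb14d0c0069c89351a6a3a79687316a159586ab0d55cf2c90730d296dd2d94f2b1171e703cd9a12cf2a8ad08a95d6e7948ebcf2802d00029c88b99172c2f628b60001390a72032b3134985296dda1696ed115e298cf26e0e0a40355cc1cbf8783bb077a792d8c2c8fa6c8a99d534d6968a613c93836a512d275a4b14b67918ff385637f66ff1dc1cf225ca,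
  nat_lit 0x529c136226e1a859e309eb9854da32d2e4d239a594dae7aded883a6075a407480acf5a8423a9a9b9c80a90149eb317411aa859a9409eb01280dae7cc9e049eae2407dc92a6293b9eacbc5418949dcf55066518ea31a7aa04801bf0670550080e1018000081a0008518a6d153e911266ccc2e8a897c2e000451625277c575d8e0900000a30037a72f408a43fd0781c04915d131a2669ea0e46e3848ba0006002405700b088a99e9fc2c23d1d81aa099e9c76c81050244f4d1ce362ca6727a62a82c6a54153d2c50c4fd11229e9443aaa255034f490590b84171ca5c94ba00008e4000d375a8acacad0494338067196800049ba289c2320001a34a6a25064000117122da8ec2c9c594800c0024aca0cfa99fb1fcc3fb8d95cf44e1540426a54d4933240e2e1c548cb4f43e14423f029a054d99ea3e73d08c4c46388cb1df43bca7a0ada3c388360231a7facf403ada0d63878ececf3f18b,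
  nat_lit 0x9a3d6b44f790885abcb55e7bc0824f7700800007afe01fc343524b4547b069ed0994131a8234189cf76e1a4e329efc17c82f653553ebe7baf0cb3b2520b4dee9bca8f606253dd23b8023b79b5b640c3a7b9a7216b52d6740281854f72416af1c1d10185cf7149f10980c4a7b821b50dd06213dbcb8500903079edc32600040074f6d04fa6ed3e9a7b618426f68d7cbf297e580018a0817b55940000190001076a090012188f04d42d782a9670c000007660bd4b581d483a60fe00c267b41e110f221ecb6a01824f6716d5fbc2d545ab03069ecc86922a64534ac19f3d3d94d7125f207a06013d909d872ca3b006033d8c2687a3883c06073d88b0a86783019ec23c420dc180cf601229ebe01000101d39f781924595292030e00001ec00006c78306861428e,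
  nat_lit 0x1c123827768ae12c350501c9f2f2c8fcedbe28f8e1f253e59e3dd76c19e382c42ca7caa6f883029c242aa7ca2e087880f0d3e4cb84a8110a79f2401680148544f910b70d4842ae7c8209800316342c745ee393f147028ef86c00138a8629a71600028d68aff1ef3056ad15562aac05f08d0fa7c6bc428a9515eff89ff056ef7c993e3331ca86950eb0ff3e2c058bffadfb5bfb3e289e1548b43968753e24d6c57e12975bf73e202faa52d4a262693e1c438035400d9f0c2ee5a5ec3d4f85024550cb7de7c208a173e801d3e0c46c005ad6e9f0402a00015aa88c911905d344849852eb25d6c0be817c4f817695db1514ea0ead5f9f003a2b9e4d081a1146653dfc1c4a0894157340b5b67bf24c58d499113226a0dcf7d40906040be0179cf7c6e4ab52e4f56b44f7b331a4d6b57d6accf7a97a,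
  nat_lit 0x4bc097b9f680d523804c24fb32020002de05835d4b761a0d95d9ed60e8000a1282bbcfea54452733cb4921d293a0e49f62d8c4894913a0dd9f6002ca8810a3a0e09f5e6bc0040009901b9f5d4ba8155029a0de9f5a3a40861035cfac00d8ec74ade7d5812213d41b73ea83e8d2aa0db9f520c440047fd214c41c60000b8c00207bb0b8e1719d3007fb0ea01d2eec8001b44f104a10ec21c9990002689cd87a2d2adea8240003549ea9481e000021f443f41102bc057772815ce2db14b94843f3e8f878d269a4e1086003800843719f44fb207900f08b7c76910dc27d0f0eb4567d08ed3ab24cfa005a1085411ca52cf9f58c6d8eed927cf27108c886dd3e7409479e40689f3841143ce1b5cf9b06a000240a48143277a51e4aa000102e50950d481a853d1ace95152a290eb0a8710b59f33c3800be7ce033841694e44859cf98a5b,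
  nat_lit 0xbe017be4c5a7e907f85110a162dfa7e8c94c24335404c6a7e80672ddf26373f3c11000187533bae2e1685e8b6016be4372d2c001074b470a615cc291e4c3c9bc4600043a92c6d13500001d38cc31cb829c053c9d4552bafe4a1bc34ba7e5f11388925f23ee07d8d14923713f2b884de28014002a46de7e4bcf069407bc0f5dc494fc82e36dd51006af4cfc73d915b40f381e54fc6315a0a8a8a27e287184b6097d3f100804ceb88d9f863500f141e34fc21482ae8e2267e0948800002d00012272c83477e078a9df659c3c0078d4fba9f58d30000289345ae8b71a85d53267cc6988000f10215234be000015c0002f0134c87c6c00e8cf95ef33c142004c2cfbbe1fad936d82b76099613093eeaec0007801034c826127dcb91342304a809667dc1db04b513093edc73889a09829f6caa06ec04c44fb5176,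
  nat_lit 0xe6dc60fa0055d7335736adefe80d4c4fef883131257aac4f1a979fdc87e6ffc1db83be35313fb60f610a3d7b35273fb0e0d59ad5e0352b3fade90c6d98e29fd41c6cdc0d474fe90fd0aea6a4e7f40451e3a35233f9c4e8014002d9fcc5c40011ddb0011444000706cc04f03e89733c9e491000014380006da6db6091eb3f0206040a66e63a9be789fc51f0ef64f9f9f3e53c73f85e617418d741adcc11e7f0058001e00255a4a7efd4389bf1378eee67ef0a600046e5ef9d27ee8db009304a2b3127ee02488d211993f6c3c5d68bbb79fb4186000d0da81ca038c4b38967f128002ad12ace959cb72bbc800029664a04884448f0000ee704cd82e9fe13fbee4d47058e0a9fadc48001c005075714d93f555c9e78a3f414dc29ae7ea3031d6f91ea2dc05becfd33bd,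
  nat_lit 0x1b348f4ca01a25c5edc7a8500c09847883d3280583697451e8940280f8000241348289af59f7dae16d22da8eed1c80b903b4954025aacc504883b32d20cecbbcb26a010f6c71e0e3e1c7e9649401cf5cafc15fd2bff1dbe8034b18ab215748d0e802974567b964940110da8404b22a0065c2916e591d00200b02552352800900b3e79049400064800322fe46047f40009349d5798226fcfd8402a100014d2449c86730cec124000005a9a4aa5d8d1a1a245f8516c22db9ff9c4c168c2d256d89e47134e7fddc051893306661e261d8c99ff59468bd9f702efa5df93fe621915a33c25e02bbee7fc2da044d08a0115eb6bcff72191c72620ec63cff60740c2659f62664ff540339a87366c63cff40493f767efe7f983300030026ba41779d811d1400053fcd4faa9fb95be894000400689840a4,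
  nat_lit 0x8bfc7058e130c58188430f502bb661f9a05a00b4861da054c8a001c436861aa0527a61244244061ca050acf41c41ed502702325a2185a81307217c30c3340944e813c8612a0485220010be497ca06000069dcc25da3b08604e669cb4000143800046526668ccfae454831d0e3a0ce523713a0411f080e501d96412c81407da7800a3244a40e58fe80f4dba083414c08da824501d04c2756373c6ead01c094218b4609b56d01b120b06561cdb88501a67409545b04b63d0190072cb4dc2a80c00202470499405c14000052ab6b200fc731da7641aa94df687a51d0001e28b1ce6408c7f000027800028480c7b98fd70500000108b8dad7000c002204dc3c70acca025c4e207a9248f4ea02206eeaadd380f53a020a6ad628a4e0f4ba01e31c55428a9d00e021,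
  nat_lit 0x241a76765c9ab936969306138b8000a07f410ccb4c18400020d691ab677c49c6e6d1659176f56deae3e86a08dc5a60c51ad569a2b88570ecf95045e2c35990d923d94b66a0883fcf5103958725397f410f4b1e8254074deb41095fa94ccb61a082a45431a5b0d0400a5419e6d6a81f83ed5e696b340f8641f5ecb57a07a15a00100e352310600006071ced69fd000125464aa0fbfa1de49cdc56000246231c5638e5bd23065da4f2e9850f97681ce1e505aa49e6fb8df7d03869e72dc1ecc3da9beea06e67a1144afdc23eaef540d8136a522c6d7ca940d425032506487cad40d03d4b5d9f687ca340cc6d8dd41bab751540c812545128aea0620080de5f29d0300c400068a14b98172aa3bc4f14ca917f1e2a000406a00d70b612c773e200051448e2e1c4c99a0001017a03403c383e7089c6bce1b554841d830dd02ce29,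
  nat_lit 0x6800fa0cc2287f029a4506511b5b6e7eca83215e00038f133bba68e321e643e65d4cbce0500028edd2b8a376d9823e900031e40a6c09a80008a7c909012ecc526b24d5aed0995d9ce039bd41838c41631f7e44769c6dadb4b80a0bfc60536223a5aa496ff41786c9211db1d9a8d2dfe82e94939667d40fa7a82e1c194e82e5b2dfa82dab3a774b543416808c06b5a08a0b21c8d52a5bd505808a3f4f2dea82b854000216c22d8df74a46b85800034aa69550300000a1e61f78fe8d3158f548be918000b5055a0a9c5e81b503832ad39a47342829bbe832f1939546643e4b75a0a547e6991ac2cb6e96e34144646959cd3d97e72dca8281da14e86a812dc28279c40aa3154c6daa8272183b17b5cd6a4e8269f900e73f552dba8262fb2f0196d9412ce1cb8dcb6ca09444e609d37ed0492a8,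
  nat_lit 0xdeca34a39b2842090039307343e8a8418db088010f63e828411260828104942041981be0374a1001205818b03c270b15e0000ed00021bd3a75c29f28aac27bb163c68000cdea0a756c300046f2cb33186800120fe41f0e2c0001bca35528266f3553a2ac16340c679f01dba18f3b2605ec2d07ae335aface2171509c91394b1bdf6c5079e325b0707dec47cfcfafa741e1a00fbc99aea56d4bd283bdc099a3307a6108c38507621841f34de1072d07524ea944a361575d07402c4206842a8398022e1c765f41c830dc87b7c36f78f0dc67e50fd000159c0008db796510e1aa5200068d90f4c44400006db8fa303e9b71ad9f6fedd3156a83f8141ba73aca1450b3f7b41b6c10a7d8011002b41b11b8883396a3f7b41ac611219800d002741a8af68d50b20162d41a462481e9042a0d001a7f1cfdc5067005,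
  nat_lit 0x3dfa2b20f641eb285126fd0d705aeae72850a32b63c5735428021c2511649a13e116217cb56509e3eb78e8ae5284e83013025725427104c00050af020e88911fd7a12226444837b06f50001e372c3f5bd5d3f80002960002542d00eba7e1080000010543d6752ce8b5b713becab0bcca12fc6d44d424450eca2ac26205e75096e354924085010e50953da15962af055dd09431d001c004c5e850931c62ce42f3a849162534f179542444b967d0bcea120aca47505e7508f08f2d362f228470188006208154241f400257caaf980c0d92a4ebc20d00003d80000f88206e40d29ec1ce42b40563b4dc3e9a84554d800a002a44747ec8fa6a1132ece569b819c0c1f514220ff481f99a733583e9e843b3f8f437aa6ca147d3d0863ad222844487d3d08524e,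
  nat_lit 0x6f5ef0e2bbab81e703f55828606893df47056c5bd8bb59f85c1142febb90c72193552e84f90a02146a17d54e782a9b625f959ad42f500971c51dca36e310685e5658335067eb81e85daa237615c0942e884a9322e04a17214aa2a970050b81fd354a6aae85b83ea9665bf942d816dc6b45c28f70000511c0022ae4a9cd6f5db6eb3a34029c78000d2129bdf07ef43fb8ec00143d72cc012df8e800082e8a1d2b8a000060d8c1d1efa6086a2c29a800a002421d685871cb0a42e2c5c3d4ae295fa53d42bf16ce63ac1f58414a768571bb94ff2a06b01cb5850ad6e50c8c192cb3c1680a158a060dec1bf0870a1560546a728a9886fa154e38b79cb5650a9088a1500100d641b0930900003f40000296298f3e0c4c10e2829498b23166b7816ee2b9ca14c948aa4ebe7d005afa95f4d5ced0a5e387b2f3b65886b10c9d4d53c68524a65a474950003800ad0a38a6,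
  nat_lit 0x74e6fba686e86200015d0c5538aa9520f1d854e6000109e213f7722666e970d119a2c511d36e2db41d6fa1b75bcef3e2e7c7a0892d1250eb850da90a233e6b653a35a4482134de286cbb11c9057163ba4777d0d89af1564f7a2d841d69a1ae77803b40771d66a1ac86e33c8eb6d0d508747ac75ae86a170d20f3acd434c0090821d61a1a44034b9cc1950d1413767aececed81daf0002a1caca959300000230004e10679ec941841f0835eb8d670e3f00028b7909281e00005ea0bd44061c1cbe02001a00594be016f02e943322c06888d0fa4eab6e16d9a16ba197c7c2dfc5c09e9654e07a10f45d0cae3d0e4b4559d5ab73a42d34325fd580e301942cd43218842aea168a18e0507a990b550c6143247085aa8628a108f411f743107cc001b78b6f14e0be5d91bb80026f66e2a2b6b59035640002448c89328b312c0000de21a7b343971a,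
  nat_lit 0x388b21ba72f645613e40ad7c97606e452a6f4a1f5c880a8cd7e8ba8175f43e4b1886e8bb017749bd287c0ca573f742c9bbe87b9c19ece3d909bc687b193248a4de343d422a8c0a6efa1e8274002ea5750f300a0004225cdce1118222a4a2894221cbe4300022260d7e53a216f22df2360721000011269e90cfc44a874b0e929bda8780e88ffe4ab8eda9db5d0ef805257063712952528a1dcdd76111b343666a1da1a60408006000fa1d82e24781377a6f1a1d620a947ddb750ea0880e4e9bbe87488250e80080008614838a9fd000287f864740a7014f6a2fc820004c9b992f30be32c002400543d1a04760ce872e4d1a850ef21dbc64b3efca1c9c8061417f0a7874f09438da789ac1c90a6d49e0e8712da543a4814f4b5e9650e104c33094c61f7b50e00c540387c09f7dd0df17e0e14b4b9f7cd0de119,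
  nat_lit 0x4a001ee6d78d04106d80004b36097812f20106f2000027fc524754a6f453fc42cc8481090815b82b8a22dc9484bd1c9239130f461ec7c5d115a8636409a8d3c39aa10014005288a724b3da685ec72c7c7d1136755be6a55e92b51125c1a32c3e2a888a509a7b1f11444022c07382a8a21e01642b07c1510e04f04003e1e88683051111f05443088c0000168002746676b8ed6365638900031b9e389c90aa6b69620002bdd90e13b11dde3bcccbb9981050009f68847240ceba4213462d2bc8a9050d441f91c009801b02365970b2c8289a20d21a3e747d122b480f4f7581435105e461a1671ece3a0285a208fca24b41445103087163e0a22881170827204eb44051c69218280a20009e6a20140d0ff4130008fa815312a6943a86c8805d00b4e450006faeed71bfeb41638a0000ac8c5297263648c000527a02a4036,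
  nat_lit 0xd43aafeab7fa26c27a2cd859e2b7ea26a2781dd026384c8a26915a00055bc513319aa26405aadd518026cb4940544c0002068003a2aa13d1be3b215217a42eca87726000203d2c938aa395457d7000207bc82509a800003deadbc0600f4056c0ace5cb4b9808ea11df44b792c6b20d61145413382682281a258dbd4cd06d38da457ae8a02895b35d27d206498fd140d12a7e30fa61f2875a512958ca34a30fe894013075f44ff449cd9e964227fa24c3e800043ea87d21f0000024e28e503e893d376e6ee238e5a9339cd4493059206a410a95b3b22a539ce3a247036b1916309ce0a24433e88329d81ce4a2426bc21a248f1ce2a24085421385f29ce2a23e3a4dbc0e139c22a23c4706d5ce0c511d329a37c737688e0e5985b39bd446c3e85e6d20aa2341f200340235119015,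
  nat_lit 0xfba96ce9df58878d9d63217c9ab9ea2ab454f9515ba13ab274b564a8aa51527f5007200e882c801da2a255a20286f7001aa2a040b4b7c00e514f0250006003e8a7104001e003745345082378010a2983e74ae85e683e407ce56ac4420000e5300074b7d11231aa6356c9b5d0a0880e5200044ba96102c2123d74bc0004979ae7013500004bb08ac82204be096a7988409881a447489068a3f28a5d5a6c02d445ab2e434495451b940b9bd33d2a6e54e91ca2251a28bc9e5fbc53d0a7956f089228a23a3095c2d9e89268a1b109c1b384745087390d3224aa28204a8c511255140143000a892a89f8fa0dc5448144f8164824046500008260014b63187930e6b5cc4a48463e4e00085b2145128a146808a076f000196c5233e46615a7936ce4d00054c94a8595121ea000225444aa852a89a00005b00b5ca4d094f129649caabad1371f1,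
  nat_lit 0xa40a55fc79ab4b40000a6c0019304260ce05d767ac3cab8ec55eda0001549b453b10820a39a300015d1892940d80002be9520272eba4d2fd54fb4de895592ac14f7a2dbcae004ed014ddf8e295a08a7cd16c68d4fd29fadc02b1cd29f145ae01dc7cb8f271e653e68b52422a1929e053ba8b4ac6153629f145a1388af714f8a2ce04acb98a7c5166176a59453e28b28fa31e629f14590164001b21a65ac3240662a1e2cc500002c00000637360a8d6f30aa0cdacc1e5618dad7cdbfdb62c6c5d45866f8f3d9e7eb348f3c28b04c01a8812a42565e77d15f67f5d34efddf1d38fea2bc12c43f2bcd3b4da2ba128e7f1cfebceba2b81eb01ee819581fa2b60925b54f06d15a0f189b6f3928ac861800000123090e68000885189c5f5c00000600013da86588fc2d96832cde55000349105e4d9552de,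
  nat_lit 0x20ef873f0e81463d9a0bba176ca31c85c1cc839f518d0a103c607ba8c6008800002d0000e4821e659db0af2c86a56aa0b9cf8a66c03d000057f80070e4a7fbec6ebf945921466f978003071f38d471986648cc58a6bcba00143948a41587ab1267c9c6dbdf10009484292811ed23dd9d2000c392d3862e400041c95b0884580010e36dc58d98000071c6bb44021c74ff451813a692b36f668c0008517f0010c3c18888d743d987af1a40f7c0000e5c000433085818b052ad046e88da72d8001197b4d042dc0000cbb72e28ec32edca515e62bd100eac7d517be5a51b9559d4d42c92591d00ee8bd72cbcc97438e866d0ec027a2f2738db7d85930afaf6d009e8bc61c8bb7456f5296a5222aea2ef3a053e42ea85d9804b45db962ab3bf2d806b45d52f05130a73154345d0a5c8bfb148a2e64e4000c00751720b4,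
  nat_lit 0x14d961bcd0a6f94df26028d1ade5aa55b63c23a6512e8eaf6ad28d633e88b3116eaf99fd04784a35732e07500e656cd64a31e2a8d5610088823f022fc4604788a352a789f1830d86128f1146a18e89ed13d54093469d4d806580c28f074698df4003c780a34a4184a89bbb51a44f70bc630f28d1857000002d00004f509ef253704e29de4f348d591b30be0175c2e90c8ea343cc632a46318c5d2e32309861697aaa341cc4810902038faa8b47ada8cfd314774720030a061597a8a33dcc24a42b6240493d6b467798024eabb95f927ad28ce47218c8b7d855d4abd519b6150a289b60f5ad19a0dc26028d6cf59519998a44c63210642d19844700020048900886810d90b000000070108413002f32e665dc604750a5dc28cb4fdc141370a6e10a081414a32aa5a562c316862f578c5dce8ca72f95e6038c072c3a2519358d0b145dd4bb8519242c6384160c2bfd1915990088214046251900bf,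
  nat_lit 0x3dd17b9e2bb1689ee8568c29825309f93bff4a395a254db8005001816b8cfedffa51c9e6a21934c94e72ac83591cffd68e4734a7264e48a1dd43d51c740239115ab007b51d8a38c4d2fc85d173e22a38a8a4b239ff651c41e919ceffc68e19d08ae07fdd47081f992bb251a3823d0c7b195d51c005b7fb4ff768df8fe13bf6e9e6efcddb0001124000604cc09a05d2005fcd00009cc00b94171c6ecddbc000af955f381d40001cbf872818072faf68445988af1cdc22be8dd73380a4121821a443288a4114d46e799815953cfa45418028dc1d11ee03dc897a045751b7892af96e4f2930d1b64770dfc1c168da83f802a114f46d01f8dd608a9a3660ae179c2f4d1b2012167422a68d89b786f06ebaccc603ab239ada15b480007328002a425707c31e863e603cc9179900008538563c16e0000293052b413,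
  nat_lit 0x6efcb3751e806a0c0e59c68f382c80021b1a3646a0a945f28b41d979b4000bab95e9288800011ec85e42b85d895a1e5e1800e0030094812855528414f8028f2736001a0048c84c46e88dfa3c78c8140028333569684f7fe8f158dbe374afa19c433a51e169eaee3280a1033dfca3c09b221049f0bdfda3be0e827144e00baca3bc2bcbced683ad04a3ba2661761530aa64a3b82fb5a25efd51db0f1b66162f28ed028000394a6e305c6445599c60962b974000c24eaf240fc00014ea29d705715f62bd03bd0778001600628ebbb54a9b52875729504b2b78a29475b9ade2edd8292c34754e60d7f1af8b7494750a5867f80100029474cd6db9c5ba4b74547483adb6ac9c7959d474419570fae21a3a065229f453c51cf00f2de16e7a8e708a05b3b67747343e4e4b4638a3984a6000c9311267024,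
  nat_lit 0x15cd62e995a4a40c37c240994295a4a40a42c7c91938959da4082b81c5a0eb959ea40680e5778acf52023303f82567a900822025b523a00041ec000c9df93bcffb6c2785c0000aee8a47408e4f18d4d1a8e36986d905f3a3fcfd216b82d84a1c809683cc2fb51fde6e57487d1cfa205f0a3f88048652ac005e70bcd47ecf00bf805fb0bed47e91483c785f4a3f242450402f951f83a12fb217b68fb8fe807d00e547d816cf1585e7a3ea15a02701170bb66f1e00017f000195b370768a4d149229a4538eb8a17400115b67fa4781c214b1300012b6919d442800015b1013a09656baa381c983fe6b726714967ba3e17e600564b44c9c64105990b33d1ef6de7a5f5114d89966d2ccd47bb87633b4812902059e68f682d580372fe59d28f61db494f2cdf47ac099d65166da3d404aebacb3751e9054,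
  nat_lit 0x856aaeacba3a512159e1e85224e72778accfd517d62fa0290f2e911f38bca4793cf262d2cd2227b40016c11983d417da4427782fac2a40541a440776be2a1e4d21f0875a0aff8290f005b930726d487413e0a4414fa43816ea8b1fd4521b1920000002da4202a800107ea63ee5a4000142800080030138ef9d3aba742c362aa45589a40a42fce0c0f904b54fd5ee468fe90b30c83020602bdb0d1fd21547475a81e203c4d2146213f0a68fa909814128b347d48495402599a41a4222862e8c5d3d21006a732551469078f98001b70b2802504544f1b200016faedf2c003b0bcbf926b6e1fcc7c98e929e60f115a8a41ba8233dd09f175b2eb965aa75453dca419bbe27c04f78d461f92568e905d7a800e002b5c8275353daa415cdeeb95d7426b42b3f48253983bd534b1f7a567a90453d82e20d0e23e4ad3d207b79,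
  nat_lit 0x36506d132e265c97f034e8013003105ba38daccf58b949079d4412a67f471555f137426e14f9d49039d08cf382258c15a26b44523fa8ea618043408526df4f9948f912ea6ed26003ca76ce91e9f229676e8c76dced9523c9d820863b307652c55a47618c43e087da119a47495031746312c55a4731c6a7e94fe2c4ea47048d5691660ac52a46f3089f053e152360180002754aa17885000008c34a1ce5cea89e1e4c0748d070426f84d91af548cd95c0098d7a1af348c89156a12a71a462788f95153652302379709590691783c068cac5348b81bdcb92a68a45a10a09e83f7d22c1f97a78a9a6915836403054d348a83e198a2a63a4526545e00dfb5228107000230d8149828ea92ef70000298d027d050439987b5056d3181818ebf9d7ebfeaa44d21ccb09f193e307258e49dfd95225e73,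
  nat_lit 0x4389beba4be11043b4878525e122a4ba01000041e703c92cc49e26768cf096330004ac3212c42488452226000515800000400035e3d2a68b1713200025e41237649e91d00015e40540c43c0000042434486f116ad53417d405a410692abc22e74adc6097c12a8258a745495235d1cc239e2081494d0487b494f3207b49491e80079041a4a203e576481fd25007a2a0040e292781f00035b1b0389a69d7b77d28890f9dc0011dfb00223e00005541aa8807d0000b634c069c02d885eacbd39afbadcd5b98fb41a0db42155cd492f9d9bd7015702c2a699501524a31368fb0d70cd499aaa492d3cc9c5939341e55c74921150c46838c0729491c550d408e5f1cc94918578001db6d5a05491498a44895532aad491001d030205ca4861e245fd680d2420c4,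
  nat_lit 0x2bfc561149f4b843298a82a4f801686bd0d1527b3eb01dc163e93d05bd656ad3349e4c2022458d7a0335774000ae510c7217800007f4001b4884d2a9a40f8bd534aaffcf60008a9995347a9af524ac0000b4866958ff5c564000016ae955d3090b521452732c6218c8cec9441287a4e4356002c0099230a4e2988a4d536b2704a4e062a1e91bf1526f023b327665a9370149284250549b43f137da700a4d8176d1d2c1c526b2e2000648f2494ce1f91bd2389ee573d0002247acad5f273e4d802679b79e4000d3e546688cc1194000123760360fa48f0133826904e4a8d2a685267e782add4fe487c90f8a4cc53af7251c9927124d54994ddc93a55193d946fc2932372c8543e347c64df6d263d3a33d675aaa65d262048785b59aaa65526171c464643c48795260170,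
  nat_lit 0x139eab1663f241d294dbc78ea91d5482f483a529a90518714faa94c9720b34167d4a608929f3906fa52e7d762d883a5296435295c41ca94aa09afd1287c510911680001940006b711bb199580a3e147537ea227e7e0004b6fec4c2e425014fae00056df9e140360000a3c14760222db886f70df665e0c5a05aa0b46948391a1d61bbe36bc4c4898d9b6d4a3f9f6c29c953a70430da6dad28eb513c1a7832ae0cdb5a51a8e8c3c097b12fba518b18d6f6537d28b028b36d73ce9452a81faa9b654a245d8ff74c14a51043a84b9094528733600048d8a9ee10a50bee17ee65c00086580cb21a7807bb01800046c6916523424634b146cb571aae29261151c2a3e9425b387750ef62e185c6ad77ad474a0d882959cc35986f3995e6a2b0ca505cf82cc0599d5ad59b2be595855281cf11be86f80defa1aaa5012c677fc116022fa4feb822f59580d27e2e4,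
  nat_lit 0x11b9c373c0f00003030571672ec0ba6c139d73bf877f53ae801da56fba83c5078b12de1e123c4400b52b67d961d021c44383a43002b4ad601ce548dae1b50005695a0e4823b047a005695990495ee002f4ac80986280019a5622861d7c00cd2b014221114ac69578f980038d1f26663e41ba23752024404bf4100028d130cf95d0ab9f4cf00031a1c40481b000036100cd812e3444a21b8d93bda77d4e0394b14aafa055eec593739477b8ef5cbc6a555d0020225554aab978b4aa5dc019bdc27957b72369540d5b0721be037ae9539ecba3874792ed295313a560197894a9552927c3df7a5481fadd5ae4452a3180a72d2ec29510a4000ca8b14a8437800080fc01ec2085d16b218000a6de72f1c2194bca5c150e635c2a8054b56d6420294fcc9c4a1a1daf8fdce6b9d120f74a7ab0ea01930825884b14c1e907ca53bcfeba517498326065214e064b529c68c,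
  nat_lit 0x15b3c69084d4000492862440316f9da01896ba5aa1fc901479e896ca5a8166f5b44b2d2d321012e825ae9690513d7112c94b441a61f48967a5a00de3b4a9c2d2cf0854832258a9671422aba12bd4b345a02a20542a5980cec4544add2cb32a0a9e152e9650928001582cade15bb411c7eb0000b8ad64eac852ed2edeb8ad718973d0d661ac8ff32b97a591d0c303aa2c28c75198fcd85630ac3a58fd0ab026143dcc8985d5bca9637423915768764305620ac1a58a82206d41ce05180a2b4b128745e69918a6441452961d3dbb9894a733255c7d2c20c60c04af2d5c9d2c10dc2a665cf55c9d2c018da8284290851d2bf15c8f48cbb95c6d2be01c834cae2695e81e54b0571b4af036ced10c5418ae6bbc00024700035b3e6eacdd1b2cd65996df597774180023d50248049095ae626,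
  nat_lit 0x5ec0bd2a5e83b24840906d2f31ae3a964862979047ccb9241f4bc40c4112d3187b380c94000a7a0c5218980c900002c10002457755dcea1b8c50643be4000515d1d6605c00b84fb800022b7466824b170d15e32814e7051e8a3b25fca5d950d01b9bf8b7fc17ad4f552fcd2ebe8a4e289c2d72425f8a5d4b3c82507f40fe3a5d2b82412482352e843600060042973900a5fb4beb4b981804c8a5f5a5ca8274d2c27d80001fd00069186a61967e09ea9800009231c09c2eec5dfb35c000a45f75966090c0ff44800048be287603522fac8b7147025960cd71a4bd94b83a229a2c3fa784abdf17c8a5eaa5bfd0ec888206841820774b7958565f2cbf5f0497a296e8ff8fea0ab21588d2152dca974d309a7138a25eaa5b7b8052a481b1037a5b41c2003cd1fd2d90cd206440d696c04e52d7008,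
  nat_lit 0x20b0c15c6a6f4c480bc3d487a86a6d4c446e23883fe06a714c42b594caa9a1a61e0b10009a9bd30e1c2a61a05a000131b1fe03be4c6cd662e8f45ed6e0c45e0000f47a5cb22ee000104c00100280056293896c932522efd1c000428f91ed23c28e00000290bffc08d0a3ce5ce0df0013002c3a5c748d307e8d128e96b2323d46ca60cdde7304f0b168e22f14c1487084b234322ed4c10cb52dea33e22eb4c0c4b5e5fc81e22ef4c083b083e1179a6023b045388bbd3001c2a5fe05a466c8cd1fc1000252c8394fde9fc000001d6000e0d795b6126c24dcacf261be8c000500bec082f007bb000241408259c58000478683991d993a9dacab18377052653c2a5f3d1626851b49218a5f08248a990651219a5ee6584115429d46ba5ec3a82cc859652f5021,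
  nat_lit 0x5788af5a264d3301410016ae615ce532f46e04a0e18dc32d32e184a9c6ae5d5cd532d2bd2830d9f6df5532c06575defa3e9958bb9cec88b94ca8090a402b96a6521d02dd4bc9532811b09831bde993929909761d60cd80000b980002400482cd3c83314c723f6a6214c63d030b70148a992f48ac49200151a1d94bb2c0a474c92a30810800e0020298c52f851ea64765c567aa75a2250a354c89f96c0222eaa854145a990a0b54051746146a99023298a6a6fd4c7d2849468517a63c55c2044289d31d193210e146a98e03003300a314c6d04d54b944c28a53b194baa97200058071f6accfb3d100025d15c094b80000223000440690643cfd8a1514219e97470001203866b10b201500002032409c236a2dbc5464e4bd0579f55ad3bcb4c57a40009801422c6d4ea98a1bf988431161250247d31328f,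
  nat_lit 0x62fecae2bb40ff3c64400045fc3a0c5c493a1bccb3266644871d0e15c97a698af86244c339864492c0d701b0534be94059e0b225dcc9be93754d292adc70b8b84daa9b5225ed3499d085bcc0a18164a03a690c7511c839dd3cea68e41a16942ca8592a68c89e670d619d34520c656526be9a205acab9b91d4d0c2d00009af735e4aeec7d4b21800056eec34df39be68a5c56f6ae01b4d35166a2eff6e9a090f4b1194ff7292ad59c3e869f4d03a4da1fcb1599587e5cfcf3aaaa67fd254fb4a1143c8b8411e121a7d33e99145971d2a297c350a67a78a3d387ab23bd47754cf2295db3bbeb869b4ced194d7a3c96a67410eacdd59f53392246a34ff4299c005db2db6594cdc13ea3923cda66c828f9661a2533519200075810f7b9ef96b8579d201854a8002005200b08d12a2000140085068180000200a29b27f4802a1bf45ad87a96cfa37fd3316ff,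
  nat_lit 0x1e443c994dac2d00029adc06ca7160012a7712d319222d0a0144f980001ec000069b0d3389f13ef6bbc2c9859281bf038b4d9e86c5c89ddd416e9edd9d9d366a66ab526f4d8a2b3b3a6ca6980cee1bab7f167654d91e620f1800c001aceba9b1a2a00821d3a3a7e9b109003574852cec69b08999123222e44729b00bea60a67614d7c3c4ffd33a8a6bc188000c4549ea1b3b8f3c495400108a14b6e96eddcfac6800107d60fb8ac4caf0000114e5ebd6744524d4b85746c4aa7993b9a6b5d2d72a65224495b7155fa577553593c605486bd1a93b01aab0a67b69ac74adae389771d5dff7d3577e568d8e161bf7b7eca6accea004adee3feca6aa5d163c1c5353544a1275a4ea69a98011c4838934d49192d315a5fa6a2828bbb5770d350308000ce3b2136885000002d,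
  nat_lit 0x90b121ba71214950d0484d3880032ee27a929c385680013430708cbec97d5aef000068617ad1a341ff17806844def20824106f955f2dbbdda70bd336f1a83951ed8ab16f6a7193bd9a7093c4e071f5ddd0b95bd67529c1e5e4a24be2f38be7183bd7a7053165f520225bd977b14e0615231ddc078c6eef5e9c05bdd5b26e8ed605ac3537f91b803300bddebd37e14e6e5f29f5debd37d0b12d7d74ddde7d37c246b8050fbdde9d37b4073902ef3a9bd085030405f34de46ec00011c3ac9751785dc92a75322a637a6000080300010c0a77d906400005fe2370826180c15702a548989125d0f5375ba5a86e2d4d29a250249fef77a9ba5f617262e4833806741e05a6e7246a6a26759e383c6e864e9b974bbe2e83db6be916aa2dba6e349e77c17af219043234dc09008b9917042bd4dbc58a35c263f4c834db89e80038b97a6da47a81cdeebd36c272,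
  nat_lit 0x2b5d918555ceb942162de9d3e6d83ee07e627b44f61668a74cc7775fe5fea7f44fe4caa69d2d2402f22cea59e1954d3a491877e2f709954d3a34e91ebebf79954d3a25de3466980595253a15df553aaa65952d3a03e73eacca929cf9139c23384f4e780440018f6f1ecc06c0004020faa1f5837426ea29ce38e80142f1157ccdd3d39b9d51ee0020c040d39a10037ae6e88dd2d3991b908c61190dd2539816a746cc6e69cb82f9b39636b4e589b5453b1b3a72a3f29f01452539406c6acac6da9c986c286063674e48178e3b3267000204e000403d130639e86d02bbc0000074ae2a2c801c29e889bd35cecaee28bd38fe9b03b40779565aac8001c004e9c774d188cab2eef62324d38d51909963eedded5c14a7184d2d559acf3bd8a7166186feae09d38a0bc,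
  nat_lit 0xb6816c2dba5b88e1d0000b70000805a80b7040308149630d9fd60fb68000752885bd00ac015adf0000aa508b6a16c8e20156c000923041d2214000091595ad044245171a136aa6d77d492e446b0d3bf8b93c83596a8369944326e35769df74e5761bdbf5bf6b6e0d5ca77b52c004400906d00d8b4ef11d1eedbeab1ac14eed886cb88d58a77439cc7d06acd3b9025002c356e9dc0bb09c613954edc1a800144ec425684bdce24928001ac3c684cd08e1f0000467e005c7be461c76aadac16f42dd8a17a769a3c26744d603c207834ecc8818eaa8825102c0ea9d94029202141e2832c3253b1b083820a2854515864a760ed0a92c50b8a12a75edc800281830a11a75c4ca62e4c61af29a75a3be1cac1df83baa75820a8352c2f53ab1e207760ee29d508253a90080002004071b8e393db47fc000000902fa3fa,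
  nat_lit 0x7c4547453e20afa8989d529f0a7ba3a3473f4f80208000000bf767eee00042dd5e540c5000044600002d82a8133f0b684a3ce248014002e54e29ee42c9edc3dbaf7a2b1a1536a7b6739220a0b285980b2a3eea9ed466be8ea8240c8caef1532a7b2decaf22d558fc21f714f61ae8a899510ab214f5c58af0add632a6d4f592dca6314c8a7aa8fc0fec200d3d4272811c54ae9e994091dfa87c174899c000055d0006e9294b1d7a8624005500aa9339e9e000491a1237be0e65fe68c00055dc9ef30360000f4208ec025b7221a92352d9a0333d7ae6bf1a9e774e919015c02b94b8116fb41b94f35d91dcd283a507d5aad06dd3cc66bac546fdebae2fbea7960b4dfc1bfb2fbea79476d5c317d953c9026386ebf069e40129b573c9d4f1c1511c22fbba78c2849e553c953c5336,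
  nat_lit 0x25494c42411c825540028f0f6e1ec9a6953ff02f0016e839a68d3fe1b8386a45888b3d3fd8ad177a2eee9fe0640d641ad14fec1a29fd0168002403e2eaaa6e27bdaf34d4bfa8c000217a42ec0fd367a2be33305592a0a5413d3f8ea2403cfb1d0009ff80026005e9fbf50c5f261e0c3b29fb1cc0dc5382270529faa3726414f5ea08e9fa12dba03905f315e9f991c24c749894fc85dd84f4cb6a7e201e7014e07d3f01143e367c729f7873ba9890414fb8af052e01a40340804dd1fa6260a0e00034ac00115e2bd06952c54b0a930a09d400004af404c00b70000299853023b15e67caf3fa26dd4c1681694faba7d2d5a5a65579776d4b0a99aa7d2cb680c6431918a23025e4e9f440f331277475b70b0095fea7cf5fe79e8f3a32cd428c85169f350404c238525804afe53e50b63fba7f66bdfd3e4536001e102c20ad3e3297,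
  nat_lit 0x2cfb12b3f435078058fe51fcc3f4950749ec00600143f39507096d76e3f2d3f45506c3c1a91ca193f455068265dfa9f9da83252ab598fcbd4180247e547e7aa0b8a00d0f1a25505839e43b56d1a82a578895223c2f8741ef5bd4ff41fea0003910d7f9afe00001bb000800420b33f17b5c526426e5b6b3ea70006005001158d161701d7c3b2a918002002a4d206820f58001001d656c590000000b44bc3ee004c79a8d6a1acf5039bbd6d92a61034a069ea069d5a2085e4882bea06196b4ec5e3c82baa05af98413016a02e2a0507297d741615024761ccda0b0a810385501c0b417302e90ca6195501656d20005d4c22ac28385080002b82003ab6800004130002d2ad72e23b12a5c54aca93f5280004b8296fd43e8150f4205a608d011abac169a7654aa01752157b2af0430086254015d4,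
  nat_lit 0x36e63256a989c20382e15cc00075580018ba027282ba91d00000088b9b11c9d285a3b3534254c4a8d439e3627be4f5c00380151954bb8aa1c6c14299637562d6a1b81bdae8297c52dea1b18e9e8345188a22a1ab611ec9b16350d0b12aabaedca8663b2856114154320d02e768c96a188390002070c2ad4ae855c7089000351bdcf439e75a200000e1015c02ad123a8dafba48cb919a02960516a171e73852651d64aa1ba26234c4d50b712854913e26422b2baad612dfa858c142762a72d983511550ad4642689c9f08421076a15109925724b304e2a14960a5ee4be150a01fc902a8faa84e178e729501d42605c06de0d8ea128f428515095509016c64e2507a8463f8000c2675dbe242a3a38748c879eaa0002d069a1105200007778f3fc1f5dde42470b1a16306909fa0a841d5351d8a71d5cf978e51f4a40541fea8,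
  nat_lit 0x123019a9516448aa2c0040001240d570c4d400041ec8e7a03107b2364079ca8ac294a9100050017a8aacae206000a8016a8a849e51e83cbd45305f75d01e5ea2903e1b9a0f2751441a6f270793a8a05be007c3c8544f1f912d81e62a2703ba72a0f2d51343e239b8794a89865449f43c9544b10700040f16aa58d244b0dd5a00041e2a6ec0b700000f054720c903c1233e3ce867c8cfaaa5d5123ab17b83b39b4dcee445f45447a3698e3415d8d58bf617d151190c6c1713e019d82f8ea228c8dc910016004c5f3d4449185d104fac5f3d4432f749a361385f3d4425de146e1d783ab54415dfa9ec5d2c5f1d4403e727c22f8ea1fa17077e17c350f89745e78bd9a87a0220000db79e8c1f0,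
  nat_lit 0x1598084a547754aaa0e1f56a3b072128e213151d42288ce1096a8e82740034846d47300a00025dec7800efd4f3908c0002126c8f545ae420d7f18e72e78406245f82e885d96dff51c7ac5926324d284e508d437a869610151c3ac06f88df8a0c301c1432d46fb7c38f671dd435a86760fd51b9de639136f4b3f167eaa36cec07740ef006d80dc546c0c624081a5c350546b0cf2f4e2cb0595d46a68425435789b7a546992900280075b7b54689844f24bf8ea33998107a25b1519806000105490a8414e163ef5780013dd60ed81d9a948000ae175c3015c6508ca3aec8c25095e0cdba8c7d5c005c94d923d19bb5188780e425d55914a336aa30874cdb0b320c2f866e546047c438448fc01d803fa8be6b884e495d0cd6a8bcf7c03f807b0cd5a8ba3f534d980f8cd6a8b8662efa491a8cd6a8b62e1644866b545a1e2,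
  nat_lit 0x9ee4f94d7417ceb5255a79d105d8b9024f9d2a4a2da20ccaed4e87df3c54937ed17942dac5b6d4920c515b765a5f3ad49118b13210701f39d4900071e4293eea478618004b04f05b1fb9293b52784c4498a75b8003a95a070644433ab9a700049ee96ab2d581c7dd6c00040c1818503c00009edd98d1cb801800463da47b02ed775325056a4575a9c7f097012bca0b54895520e281c688389410a91094e25a84ba140ea90e9884d8c0bd8182a90c8bc88c0a09d4850ea381c504ea4207ed70f2817520c600082817ea904176a5c0a05d4810de0006a728a41148047528eb140d81b4eb40004a73672c43aa671cc8e00054579c1e0360000a715ae09cb8e4d1ca067c481a1032b54b5722a3ef599f6322b6457d312a44e213151f3ac89fb13f127da425ea3d854beb0236646b484ed47a0ac165952640e4d4794c46166468c84d5478326,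
  nat_lit 0xc6569fd73a814d000000446587be0c5458aa372462c20072a58f5cc4f346568ca2011a969003952c1415900af67003b52bc5662fa0d48002f52b932a2720010002752b46382f70014a958588708800ad4ab1d9116a006aa5504c0be6003152a41e98e854aaa950062000916c390210a00028b5800a1cb8098012218f2a531c8a2ae455a8392a528cc94a30c7218eaa5213439b141c7528cdf8a5d20e9a94472a2aac57754a10baba235de6a5009c866a3c19527cb6ef30a0dfa93c54d1349071d49d1a246088386a4e0c2c9c241bf526c3280048ae4a9341920011494899c3fa0bae57f46968000287000061dc68d0d2567e284a507ca6294ca582f525fae103da07fa0bb0f16d995496ab4,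
  nat_lit 0x277f218072e4ca8989930fa9a0200da5827c8503a99e1b2710427c8502a99c0f308d0e6254cd05f0d3757dea6603e54e2398d532c1c060a1cc2a99411d3688e62d4c92df2b9a58d6a64110806200c9531c5a16e81cc3a98c1f042c8e5fd4c532a8d5b5cbea620928005b4b0dd690640021d663668324d30c9b710ac00002c60000ea19cbf215acfc5e60bc6978b84304962a605c3d7ab01de03e12219255a97f698ded2ece3452ac5d52fb814b1591e923d958b6a5e99ea3cc1a2f56e892ad4bc3ad276e07480ed54bb13605600ab892a54ba0f594415c8892bd4b9040adf52ce492ad4b824c8e9e492ea5b80d5653249352d81400004861910a0fd0c2a1840d950e501cc473d8001eba20a357e27508000947,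
  nat_lit 0xb385557a9dc52360a5d3c4ca3994c0000ec80028f0c62e30315b70b6e6ba5117bbaf40020f0a6c2cd84c6e155f7d0700063c3c78a80f801ef8e600087822158258c4af98980008f0b363e26a000078224960441e0ad845a84800c00244500ba8d4e7ebc36463ebc3e207c1787c5deaa734a5d648ab8e2f36a729db308a2eed539009aa978431a9c604a0fe0201d4e2208282e5ddea708a116702eef5380808000d913594eb4a8bc20d900007bd4b7416e8afc74a785ab0cae2633015b2f6946d28754decce5316a51137526e84e122850504d4ddebb92cb2585efa8fb91f835373891380d85bb0b82848503d4dbcdcafc28b00048808ea9b49cc44f089d808f011b536676001c00364622d556a6c00623dc47c10adea6b86e039f1ec2ab3ea6b049112659ccba9ea6a8e525294a0a9412a6a0ea97756299534c4280368071a9a43760004c931921036,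
  nat_lit 0x18ed3b0d50c20c53b09e66a85841bb5d4f275428a04000bb897714ca3d93b69c800096b74d42f85da1a1ed5ec1661ecc32acb53bc276aa8470e56e8a278be1cab500130029541d881642bbca4bf1556024609d9aa0dabeeffd9cd0fbeac7706704e7d505e4964400d6eaa009d3aa0894459c8025004bab75540cef04d689ab139d54090dd2eb09d2aa0286c3d3c4e855002ae0ec6272aa7f8c9887410eb53f919193509cba9fa86a0014004d4fc3080006bf75b39da71650e84b4ac556b6ec00004bf6e13482a2aa5518a0004bb4176503c00001c8eabe1cbafdb66eecddae943dd17ba4172aa7c75fb38879563ed47d88c710b8b53dfafaa7b801518e81712a7b1635b07357e55902e554f583d2ab0ecf42e1d4f43831378137827254f331509cc13c6a79011c06e0b8553c43904eb05c5a9e0114137827054ef148,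
  nat_lit 0x2b9f1af8362354a9c71617a14c362f54a426aea507940f2354a0414db41b14aa4e1101e203c7d526104aa4a01000088f69c1e3c4acd2b3a4000892fab260c000008f4215a3fa23d65deeb2e900400240062a9176200e001bf396e8aa3b70aa42b9ecf299e31b4eaec2f92ea90761861749b87f98ff2551f25542b1393ef6fc35faa3c4ee5824b05b297aa3a970239d7f5afecaa383d4d0a64f8c35baa369d02c52ecf435baa348d63365949d51905d1d030d66a8c11384e109cf545c04557d4733207640e015282ae263000028c00015cf0a9917241679acf87b57d8400052f525eb06000009cbac880c925e8b0e0be7192cb25e4f45544fb0534895202a42f5443c90791aa2557d6e6302225444a8a9e66a88b883e267c46bf55543279caa2184011bc07880fb77389e66a87aa1800d001c3d753cd550e9bb0e10a22d3cd550d4f0,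
  nat_lit 0x6acc2a5054b3472836aaa4371d5473cc27988f30d547b7b919b3472948a9e8aa8c808d50e154a9e9aa8a16223f847d1fffaa883947c09ff229e3aa860395c04ae7d54203c7b2ea78aaa080c0002705ce0e1d8bbb116e60002e0c2584d9ce2e80000bab17530f7d8954b9427e443f88801d4954fbb14a188c5418bd607aa9e9e1229a4538aafd0bed53c102487a6e24dc7a17baa768acbde575faec042f954eb4e874e8e981d3f54e679ab298e8c1d3d54e0025febbfd942ff54dc48c158a16cb02f54d85c10b6a175aa6a19a571ec0ad534122aa660100008d7b2fcd6d74bcc6a0c0009afa41f483f0ba4000194e32b20fa5b2c83f907e197032f0d8bd530caf0044982c3cc8798aa5e440b0f17593b82363154b8224a101f5236f26c6aa96a3e41508f211e3cd8a552cd3a3dc89f1cd89552b0d3,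
  nat_lit 0x2d185a20b6316c84e09328a64eaacdd948142c138f501eac016002e2645aacbd921a2ab56cf0a5fd8865eab26ca104f2094016002d2643aac7d9090595d0b23452d15589ade6ae9caaaf86a59eab0cec16cb1bf237cd55255607c337566ebcfc9555f4a8af3a1f2c3e6555e11c19c0123c248555d9290c6e18c5322555c01c3f4a7eaaaad88510da76fd556836c002000623388326af983303d8000128e0005d1eb06407ae9c20000022e27ce3eb5e684ec6e48dc22845555b970001c5d7bbfcdf29be7d6ebaaabd8e7f1e0011421aaa836126d9120141baaa6a6a464c3a38746aaa453e1270251d55102159c6507eaa80ec965b2835553c6b80059418aa9c0dad950a0dd54d03e0002ea35d475002b88c58c0001d544820904311c929d49786600cd09144008001453d7552f9d4d4a40e409a01356bb89a3b41b9552bb1931a8920123c47b08f6d54988a,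
  nat_lit 0x4e6414c42964e1d9845307e60c0000cae00042dec5bcca2e7d01075a25bf6780012acc5590e2c00008a6113a8ec5590ab2995508ac1135b695580ece861c6386bc334b28e12db42abff6689697fa7291d92f325faafdd997ce00a6814c617edb36abeb679d840208041ac362215aaf9d96eb9ea21df826d9755ed3e03fcd60c6d8d55e93793f301a1033755e513cf773695aaf015eda0ed74d5770b59008db12abb04100053bca7778e2c0021bb007788ecc20d053209f0000b320002ee0b843707c59ce88d0ef21e526b04d7aab96155ce5a13115d0d421366aae2fdd7f2901ca038ade955c1af9ae349f077255bceab7ada197c4158a8949b2556e2190c6605680aed56d1544ee28b889b0556c15e07380e90346556b02c0756c8189b1556a24cac9a2ff2ab4802201826b355a0240000b72b8276e961d2a9458000610ec241b2410e848e,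
  nat_lit 0xf91daecd5a10035ab2b53ead00568951b85449f8940b6915e94259000076a0002b9194baee3317bb21b7592fb4c000c0c2ac1416e00003c38780476818138b2716ce7e2a50501eace7690d881cb2894d31a262e280f566d8a039e073b7ee11f14a04559aab93d1694cabd50252049356660753ef06980d336384a02d598b570bfe31281268247ab2eb00543ca859406ab2c978722ce445727ab2a17a8f34a03559423d2e925012ac984185200a5556482d0000b6b966c8cd75af569c80006d67427a1b98b6821f6d5ed846d78438e87230fa2ac87688f611ec6c31eb628fda6675563fb412e8a5caa663632d2815c18ab1dcff1cddd433a6f8aa954fa1f4d58ddf17886a6c2cc643e0ab189a8b6b4bbf977d871f562dc30fd4a21067175629196dce3d18ab12942d979b32d58808b21ff0f7aac3a38d5e561b35618faee955d27ab0a8282d61997d584192,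
  nat_lit 0x445006f18de2bf923fe000489d18e531c8370000089f1a40347a36644e1020b23fb5006034c0255abed75dd4bba17502ea1abac09e6ad576b1610aed69b21a0b0a60acd356a7b54ba014ea29d6d77ead420101df03cf27e584555a7a2db0e8835190655a630c6bf0d782ad2a9136626bbd569029585dda4aab463fa11d823bd5a2285]
theorem S1_c : blocks (facts 12 5 17 29 4095 131071 536870911 15 32767 12 4095 A R 32) 32 JS1 16196 = true := by decide +kernel
theorem S1 : On (Step.{u} r44 LW par A) 16196 25348 :=
  steps_of_blocks hpar hR S1_c (by decide +kernel)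
theorem D0_c : allB (defOK 12 17 29 4095 536870911 3395 A K) 25 2 = true := by decide +kernel
theorem D0 : On (fun r => defOK par.W par.WL par.E par.mW par.mE 3395 A K r = true) 256 3456 :=
  On.of_allB D0_c
noncomputable def JW0 : List ℕ := [nat_lit 0xa14ac08e8f9b5ba799a799aba14c8f0b9861a89ab582c2b57bcd7bc68ffe8a59a5d1a88b81fba8d9a499a496825b9c5ca6839affc142a609ab6cab6bab69c3d6a68bab2fbb5aab3dbf229c6387dbab48aa2ec342a10bc35bc344a9f9aa2caa22c390a971a97ba4b1a975a972aa95aa24aa8fab618bebc3f0a0c1a0bea004aadbc310c3f88d09c400c096a15bbc1cab45a9618d3dab4b989d98ce98d3ab4caa9fa97da13bc3e8bc108e928e91c405ab3fa8efab33bb26ab38a611a60abb2aab34c162ab7791dfc3e0a5cea5cdbc08c403c38c98d9a991c164ab74c3ffab63ab3aa977c2b8c094aa30c3faab6fc406ab47c392ab7dab7bab79ab7fc408ab80ab82,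
  nat_lit 0x317b81ac3d968161b22c4bc982d96a3aaa0ec30ea992a4c3aa0daa10c34fa4c5aa85b9b8c382b9baaa8caa89aa8aa9bb93d3964f96487ede9e699e6634358e6083a384ee8cef7f4398da98d789d936d38cd28cc9bbf33c858ccd8cca8cd40e79a98f827c9104c168a122a121a0c7b78089b78995b882bbf58a688a677ccb89d183b17f40a4b69513a4b5a4a8548c90269335945cbbe8bbeaab72ab71c3f6c3fdbfa0c3d2bb2eab3790379025bb32c3d9a9f6a5bda149c1c4a9f4a9f1a9efa68fa8c9a58bc146a5d3a680a685a96fc2d0a9a3c3879ce0c37aa0c8a0cd9cd19b43a58ca175c090a8889ad99ad2bed29962a934c1aea93ac1b298c798c4c2f9b6d6,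
  nat_lit 0xa8f3c3bebb1ec3d5c192a56bbb22aaf69b976d1f9b989b9a98539850bb6273a389b484027a6689b2b80679a3b8046252833dba707cee89b989bcbb297ce67893c1c9a5af69eaa60e3fd7b0e68ff99511a913ba86ba8aa85faaf3aaf49715aadf7c0d89c07cc86363798d799787de82dfc367aa458d75aa48c35caa35b8fcc2c8a4aaa4ae91fea4b29811980a3166a113c378ab5ebbaaab27c37eaa6dbbaeaaa7a881ab5b8fbfab2ca473a47091f4c3dc8d5c8d4fbc0780ff8d558d523c907f5691e08fd591dc8921b4145bad4bbc3627a4b9745ba4bdc160a4c0a4bf5377c16b9817a5838216803da495a49081afc1b5a520ba30ba34aa5baab6aabb96eac3a7,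
  nat_lit 0x991c93f1b9fa919999209922b9fec39ba1068d07a1057ff7a10ea103a108826fc08a8dc19323bd0aa142a147a979a07d8be49cd93e3585bfbf4d9cde9cd7bc568dbf78017bf38fb8a138a1378e5877ed9321bb7eab51bb828b11bb84ab52aaa1752f7e00bb24bc0f67a3679e5dfb8cea8d7a8d78250f80b3b8d07ebd69c98a1ba98bb98cc076b990aa77aa78c385bc628e9a8e8565a58e8b8e968e958e8e771c8d88637b8d8c3be9b1a4470dbc138929c2eebb6e9d25bb70bc0a8d699d22ab4ebb34bb38bb3abb3c8a1dbb3ebb40c3dba9d4a8afb814c339bdd29527b816a9d6a8e9a8ec8d6fc2d5a897a8947c06a8f0a6f5c3c7badaab1ea27ea2838918c3ac,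
  nat_lit 0xa93f98ef82bfb6dea942a93d8edab6e0a156a1528a8ec03ca04bc048c04a996589f98dd4b1a289ea868786888d87787dc2e4bcc4bbbea5a3ab57c3ea9718ab64c2c4bb4ebb52c13eab40ab43975ec3dfaa06b87ac34d8d59a964a967aa08c306a94f9cefc30bc2f48ebd8eb4a962a95f858d9a4c9a5059079a489a479a4a8148bc018d3a8d3e8d368d408d355a17562d9db2bb7ac3e291f391d591c6c3e7c3e48a726d258a6bbb678a6d8a648a63851fbe578d47989a475f989e98975c7b9898931996479650705e9656965596535b588ec598cd98d4968b90d190c0be6390c38a785cb98a7e29c18a758a7cbb69882ba074c3989a8bba069d0e9d0bbf56c39d,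
  nat_lit 0xaa2aa8a7a125a8d3a119a116aa28c359c355aa1c9cddaa1ea998a997a003a4fbaa81c38f99bbaa63aa73aa6ea007a9bea53dc3f2bbc8ab5da1c1a1bcbbccc3f4bea09a9b9a9d960b930b93089a670b8f8bec8be20efe7ecf8be88be76c0c794790e293c38533922fbd7b93c893c16f5ba0c4c073a0b5a0bd94029409992f9b4fa5e8992976a151956c176c0b8a779c69c266ba66ba6aa39daac9aac696e9c3b1a2cbba609446c0f8aaa9aaa29766c3afa9eca9e78e75a9eaa591c19c862da4f7a8c1c1eac08cc2a8a460a46789fba7dca67bab67bbd2c3eca450a455bbd6aaddbf539cec9cf070439cf29ceb994a50bd8d04759f6f477fad8d0a8d0c868b4957,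
  nat_lit 0x91219ac48cfd3f3f7469746a9afc8e1fbbe58c768c7829b579d879d78c438c6b9b07ae48bee27761c082a0ffc14077668c66844b1be9bbe17d627d617b2989bba49bb0d6b0d89c35458c4587b0dcc1c7aa4cc3698924c28a8047b90687d6a08fa68cc1ef683b9ddbbe38983787d4a0e5a761ab25baecc3c8aa5faa5cbaf0aac3a86dc3ce8fcfc3d1a5e0a5e7bb0eab0881018076bb598a4b8a478a446a4c8a49b5aeb61a1ae578136a136a106a2f48a58a5547b22bff2c6d8a5abb5d281c375798359c5e0d79983c9c5bbf2087d89827a72d942fba2aa727aabeaac196efc3a59cab9ca5bf3771fe6a31b5fc6a498876aa26c2c6a131a92ba8c6a8cbaa93aa90,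
  nat_lit 0x7afd7af41fa97af8672567337b007aefa2161254ae309faba218a2150d09c0c1be40a48d3d376a1f7e897e84aebec15ba606a5f95ba5c1b6a600a5ff4389a5d5c0e2aa338b6ac3769c439c3ebc4a9b40a587a87bb874c2ad65cbb558b55a998aa5cb9d61c2f7b6c6bf7a9d5980bcb6ccb96f81f1b7483c4b775e775b81ef1ebd803ec2aeb5f8a8916a29b5fa87af9c59a493525374c49def45754570aecaa49c81a618013dbdb5ea7c407c4d81aa768481b329c97c6d743681eb81ec8684825d7e866b551c827e8e7e8a7e83158bb8cba9fba044a0419c39a9fec347c340a8e4a09391199b02c15c932b9339a67da67f93feaa989af2b9e484abb9e69909b9e8,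
  nat_lit 0x8a97b4e67efb7c59240724028e578a858b08bc428f9c3ef738d638eb8f983a0579a1aff88c488c4e18d118c98c4b35d35ba85ba23ee1b3f40417040b4cfd596fa127bc82c05a91fda134a12da12e89d799a8999f6ac13d3d764b764ebe7b9133beb79adf9ad73d5c33c933b89aec55db556f5566264d511704ad0494235155688057894052c38f0c597359706472bc5f985d98598c4d985e8c638c5e8ffb6aedc322a8998c53a99e7df27df787f59b3ea569a19fb58aa89c7e207e1f928397aa9864bcbcbe45986322c322b78ffd124366d666d2232f66d40859084666da6475789ca88f69f7a89266a7b576b578bca67bce65443012b85d7bca7bc9125b758b,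
  nat_lit 0x9abf7c2dbd80319cbea89abd9a89beaba93799dac2ffa93198849881c2fc918298d1a5c1a968968198f798f4c30d91859cc19cbc9cc2bf3eb9b4836fbf430adaa5c3a44bc1aaa5c4bf509ce9bf4e5c629361935abda18fad918b917e944e9449909a8baf9095bcbf909890978ff650f59683a5c7a5c8bf2c96759672b074b078c3039d02a958961da932a939a956a95498c898c0be6198c37d5b7d4d98ca877fc0261de195d415bb9fb09faf9a7067bb180d399c36d135930c3d0c2c774f775571166555711030bf3b883b9171126edfa144a141c07a7eb991379134c093566fa45b8a928b0c81fda043a03ca45eb7029a189a1a959d59f19a209a15be96798b,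
  nat_lit 0x9307930192fc9305847f847abd46bd499b819ce2be9c82079148913fbf4a325baa21c389c06ea2bfaa7faa7ca008a2c5a059a0ca9b73820e7d337d2495d8b72a993395db37ba51619cce9ccd58d595e1947c3545743d8e029478947792b0947e9bf01a0798bb6fe39bf49bef79b68463a5bea4538e83a5bbbcd8912391429968a1598da8a13da585c07ca0df9b77996d8db59f3f7a07c09d9fb99fb416719b08bf60a44cc1ad9d338f888f959b785ddda13f8d1f5eb9b8ea8d0e8d127d148d16c2bba4ec8f7fc204a8a3a8a0b5a0a7e59ad5729189e5beb39ad19ace99a3bcde9b6a99a4763f2e3d7d1b7d1193df9155c296bf449ba4b50aa862a8617515a661,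
  nat_lit 0xa6b8ab17bb14ab30a86aa867bb18ab0589ca895fbb2d89c9669466934ed76cdb68c3663306e17a1bb2564d57608189cd2c6f2cf760b7786a89d2bb31ad0e3742bcab902320349032902b9028136e2951c132ba9a9039c2a4ab03ab00971faafc4dcf137960e167e06087608282e1b994a11cc0878e999803a0eda0e2a110a115c2cba6d97ff5a8d0a603a5fcb5f0a8cea692a690b5b0a4cda5d9a5d687cfc1eca11ba155a45dbe36a08ba095a8c3a686a8cca883b6b2c1f0980797f6b6b4a929a8dfa69b80b4a8e2a8d7a8d487b0a8e0c381a9f39a1daa6b9b659b6299259b4da99bc3129b7fa2a9a057a054993b9b549f399f4091c39f2f8ab18ab591ce8a14,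
  nat_lit 0x6ae87f300aaf78909516950f50fc950b8ca197e90a25415597f297edb99abe337f297f227f2b7f1e7f2eb8dd7f2c63bb5494316b537ab32b4d9b4d9417af54962b662b6011d52b6c2b6a2b5f0089aef3c351beb08f2297f5aa0aaa13aa14a926933293277652459593299336bd53932cb888bcd175f373f390df90efbccc90f19457bda58cf4456b9461945a8cf7945f8c8a8c7fbbe762a58c878c848c057f83764c00ed34a40a278c968c918c9a8612096f5e4d16c2bca97cff7cf86f2b90204599b17c2c10295d83ad83a61c818ca2a82aa8267811a8259841983eb4b09dc09dd29dd8b5be9ddc9dd49dcd4dc79dcfc212ab22bae2ab21bcb69061bae6aad0,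
  nat_lit 0x763259b5b700762f2d4b2d48763034af7d047d027cd9b8857cf67cfb6e8b60ca7be98cd795739e75bfdd9e787bd88e5f86b9869fb6da8997939e939d5b4bb6286de66be46df06df26df66de36de816817cf31e491d4e7cf4752d75246c2f5d2b60d4788e2c55721f7894b7d760b11c5d096c0964096309740970095f0968ac296f1400c16f106f126f0e6f0b6f0c68d78bbe7a25bbbd637d6c336c30899f8bbc3fcf3fc118d33fd12b692b5cadfe3fcd8347838e82c56aea83aa83a9644078a37ee17eda60fd7ed97ee8b8d57ee27edc7f467f482bd37f357f3f7f4a7f44b240389232cb3886388ab02b389438850e8f82cbaef4aef648028d778d704d97aefa,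
  nat_lit 0x691234206910299d690e690669095153a9509d05c30198aba94da94aa952991b7d1d8cc48cbb81837c877c748cc25fe31d461d421d34adb51d3a1d391d301d480e7a0e700e720e840e800e6b0e76ac89c31a8d00c31d76d3a133a12aa9948f0eaa74b9849b23a4bba10da100aa718a3599d7be8999d886498be08bdf8d2d767f8282118482812bd782848279b980b983910a8c3b7c36399e9108910791026f437cec7559b8817cf179a779a47ce95d1fc166aefcaefeaf00b8f87ffbaf042d4076156b88b4324e5b761cb77d570d5a5cc084bc46a0d9701bc089a128a11fc05876285ddb762c76203663365cb77f7623a91eb68abf98c2eb7b617b5a92c09dad,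
  nat_lit 0x83a08395827e8391839a8393827331a185025bda850884f284f884fdb9f57b868d326c108d2b315f8d308d2f62676294827a5c0f722f76cb8df7bc2648bd94146b7c6b706b74b61e6b7a6b6d6b6e6b78a8a5a3758dc3a885a5b8a5b7b5dca8bfb97e696d6763719548c948b3823f89d4388015ef3873b029336133503875388236c926cbaffd36cd36c136c236d836ce8cd179f39315388fbd4f931a93121dc393dabbfe93d5559f93d893d7bcce30b993e78ccfbd7c05c5965d965abc867c858d26bbfd8d257f3a7c977c90bbfab0947c3332c17c3510db7c3cb8717c387c2fb6766cecb6856e646e696e666e746d743c7ab0933c7926093c7f3c7c3c772437,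
  nat_lit 0xa9cec2beb808a9d0a4a0a49fb80cc337a4c9a40868aca4c6c16da4ceaf1a932fa985a947aa7bb9b0c38baa86aa839dd1c2d3a8b5752ba8ea98569855b83aa8e6a82dc288b7d4a9bc78a5b7d8b7dac32dbfd9964c964a5a2a9e6c9e6b33cf6fdf93c793d093cb8b6293ce93cdbd765ea75becb41d5be451e65bde5be15bdc02e696639317bfda58f5bea49aaf9a7a962f99d3be8799145a8f99b299b9be80733b84a09b5a8cc058879b5c9b5969179b57aa1bc357a0abc244c320a9a5a00dc3303432afc534232975341e34293425342c8de1bc3eb4fc8e5c860386008e5abc416f61b5028e6a790882cf82d18e657347be6498f075b7b742a96ca96b8ed9860f,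
  nat_lit 0xc20aba229215c1d4c3a0aab59762aab831a555bf85d784fb86088607ba39860ca537ab58bb98ab2bc2a6a87dbb9aaac5800c800e04554f3169cb69c432d7698931783168316c317631723164316331705380537e029fb30d2c202c2facc8538281b0293f1f1754d481a581a2b95b7c3f5ab9ba6580481ec73210320b3af885e53d9a17eb3d953d9c3d8b3d883d98b0af62e175057c60b8775a4e5a597c635961547554d96994577d55055502804a6a393c983c88046d3c9c3c8d3c9e3c8738ee4bbb4bbe4abf4bc44bb64bb54bb34bb93161b22a7f3c26927f387f3782d682da6a466a3540db58616a446a436a3e6a3da982a941a9888002a981a986c317a822,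
  nat_lit 0x745c74587454480b7456744f7450745e38913ce0705c26147060b6bd542f62a9bdd04810480560c7a4a6a4a5aede66a597fb98128e869809980e980d90829818a2a4a2a68194a29b848584827eb29b519fe79f77bc92bf263f293f1cb000997e821a6ffd239d6a193f4b3f4681a142998041803a6a0978a0339033a180426a27a38a71a9b958c111955f956496eda38ca52286473d17c114a526a51d96e7c1834b9dba2f6385814573ce73cd63886ee585ea76ce1813814b7ec77ec285e93de57f268215ba337f217f257f1885ee19433d2385f85994410d36de36ed85fa71c331917c79768bba3785ff85fc636d8604a399b93abd96b93ea62da62ab942c375,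
  nat_lit 0x777af82559b23eb559d559655982416968e96879688968c29b129a3702910150e450e074626461e045304484625462a76407283b7852087763d76387642763b7f62b8e37e9b05e37f5b7f587f4f6881701f920091fb8a5181f381f4b74c48bb7ed07eca0f256a6f7ec87ebf2e43699e8fd68fd286718fd0b6b070098fa9304f91e28fcb7fb13a29bc8a8fa56d60bd0d8922891e35a2788d3c433c3c3f93892775c907352f350a9f82c682c354c542d49c9d9cba9cb89c993a733a5e91da7a4b32c3053547163b2447104713471c470f3632afef361f362c361c362536211adf8007714f76cc7ffc800ab8fb4f6f80015a325a275a365a245a295a20b3e95a22,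
  nat_lit 0xc262ba18ba1ac37caab2aaaf972daab0c232ba0cba10c24eaaaaaaa596ddc39faa46aa41b8eec3659fe19fdeb8f0a435a87ea532bc98a86fa5fba5f691efa6d370458d448d4864238d4a8d4355bd5778bc918b31793f86698fbc8fbbbc8e03d771533f7b07396429be2f97e60ee595f2a474c102920fc14d525f5250558f9987bd10559591f7111b8fb28fb7b3528d7ec2e08841a011a46dc3b5aaf09772aaeea43fbc7abb46c270c3bcab0d9761aafb8d5b4ae396178a4f96199614b09ebe0959098d57960853b5960496037ec153d7bc0251418d4d894dbc058d501a62500f7fb80fdb7fb34746709d709a6d54694a476180fdb9274fca80fb80f8810280f6,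
  nat_lit 0x49a3610c15eb6110610b611203a0440a2c9f024f636e0e2d635e636b5dcb5fd66ddf8a6077813b5d89be89c383e43b605df97994798f735a36b036bd79906359773fbbd861f28c51bbdb8c5487e287d3213d49b86027ad0c5fd05fe1b99782dca0f26b73a0f67e8da0efa0f4c081a0f09dc87460761045819dc69dbe9dc39dc4c35faa36b8d2aa3aa647a64281ffc234a2bda4adb954c238aa64aa61b956a76ba751c3ef9569c3cc9f299f1ebba4ab55be029612961053c9960195feba206a6781938b5c8a3c811d859585928b5739e78b6583af71997e518b68bbad8b667627aa67a605b970aa598213b972b9749b4a8199821d2069813b8b598b5474cf3fa0,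
  nat_lit 0x9d94724b9da48d9b9d929d8f974e9d90c29477897afec298c2e3a9149774a6648ba4bbb76bba8ba06db36d9e8b9c6349778d872d873287348730872f7a9726c78335b9aaba8962d186ab86af873c87387afa873e1737874a84328438874e1a476d8b83c57addba8d387d3878610f8752a859bd54a151b500a85ca85b7c65c29b9bfa6d938bd97efdbefd9bfc92a68ab3c17cab1cbacec3c5a1b1a1a6bad2c3b67a227a26386934df0ac10ad3401e2d057b177c08b8692c9d5df15dee77382cc993997ccc939abd6686a986a2bd6b93929f8220a122d40240c01b9f8441be9f7307eaac0d07dc07e407d507d607db07de90a322f58bc090ac90aa90a97cc668f4,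
  nat_lit 0x68b52ccfb19e68c0018801a3685468bb7cd767eb0041b98f829682937cd067f267a9799a427d799e301b300d79995ce97503b8375df363110cb20cc77b077b08329332a232a432ac32aa329f32a032a8625e624b25a158b9b4e56260624f06d97591757d8295b9af833b83387ccf2c607a5d7be67be37be57bea7be1b860b863757f869c1e4a839f86b7869a6dfa15d15b4289a56f0895c1bdf395c46f176f1c60d3497ab4aa60d760dcb4af01c1196f9522951c67a595200837082c8ff48035a614a60db0f0c1cb94f994f6929e87f7c1a9a2098429a5b0844684459280bc5a66d9671369e369f069e669e569e8b5f39de166430b4c9dde7dd57dce1c1dbfa3,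
  nat_lit 0x6bcf89a8898089a76d2d6d2a095d55aba90b989394c8c190aaeac3b3971baae3a8bbba90ba94a225aaffaaf89720c3b9bedc898fbedf9b95620d62086de192f2886a8862bad7858b779b77907cba58376d1c6d176d186d146d136d206d1156d7622bb4c68f5892cebd3c92c907a5bd3f882e6079882788290b430b2e4e90882c6217986abe42be47986898678fe8134d57f7b7647552755a7556754b754f75494e6a9d158c0a206b70727074bf5bbee07397739b73956a8f73a4b72573924a7f7a1e7a187a0f7a1c7a167a110acbb8127a547a4c7a457a5240294024231c1afb7e0f84058408840a6711670ab65849677a707a727a697a6b231a232d36b57a6c,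
  nat_lit 0xa0909adb9139a089bf9e9dcbc05da08cc33ba9d3b81ca9daa9a9a9a6b820a2f9a2eba6f257cfc20d953995288913a30888698870bad9886f8857885484d2597f57d5888227c688848880887987e1034b888b758f34c78888888ebadd7a4925afbdd4a27a4013a27d1f8c1f9d929a9b4789ad8914b4de89b087a387a63fab89afc0ecba54ba58c0ccaad7aad8976baabcc2bda8ac8417a8b0c2b6a89f6bf1a80fa8b7c1fa8407a8f46bc3b62ab62ca812a6b5ab0fbab4ab12a1fba1f89752c3a8bb1a7fbcbb1d898d898b8988898719dcb9ca4933899089928420841f6d336068899b48e367ed899889a2bb21899c15b76bb68749b976a566352bafd8927e995a,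
  nat_lit 0x6f73187d8aa673fe681568123cb28aaa92e758d092dc0fe392ec92ef92ea68b16f76392d8d6404ab8d668d618d6280b76f9b8aac67cb861e72f572eabb738771a0ada0b2c06a818da0b0a0afa00b8ed3a0828dd35c5f5a6948d948d06701a0807481bb377646526e00f8010f764963fc696b89f55ccf89e989ed89ee89f372259ba8bd5c90fa70dd916b91689159868d675c327b6377706b62d862db5e2289fdbce0b9d2b9d6aa96845fb9dab9dec395719089e6629b771769fe69fd629f8a18627385a5258b8cdf8d1b8d2046104641b1d272d674b72d39119311880f0572b082430efd7f5382325e2b5e1f8a22871dc07fa0dd99ad984da0eaa0e1a0e8a0e6,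
  nat_lit 0x6f7965616f7b6819b5a8680d6f7e683169598d8098b2ac72af9e32b198b1684b98b48d8298be0c091ddf1dcebe759953638034dbb509462938fb38ed6382637475d35c6482d46282b98a82b7b9936aad8eae8ea68eaa8eac8ea18ea28e9fbaf400993e6e3e773e7e3e693e543e783e7a0d6b3bdfb0833be13bdd3bd73bec3be4b6a8b6aaa5b5b6ae8d7c8d8b9cd4a92432af46fc33c002a34708470147024706bb6d35f78aa2556a6951694c8a9e8a9aa9226faf99ebb6a06f85b6a29d1f9dae91d291c591cb8fb5bd0991d891c874056faa3b4c8a9d1876637963705dd85e8999e78d97bf5f26559ae49ae99d2850a3a91a6e969da7a91c7b257b1c92bbc2e9,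
  nat_lit 0x9cb69cb5bf3dbae864fc64fb8d7357c64bc73d274ab969c3398f398c69c6614d5dd14893689a263b68a668a168a268a4c319b770a061b772c314a97fa98cb776853999d1991160f7be8599d499cf850d75bb7bfc76d6072882bc82bb48d582b9a06337a3830d2b93a0d0a0cfc07468fe8c998cfbb9981c978f28bc658f248a178f13b83250518f18b13842e78f1684e98e9d8f85bcd68219a459a456c1458053bf5dbc4c9d1781979b719b6e96240ac98e8179fe6fddbc498e7d8e78bbf08a86659c5eb765a6238f659765a0b55335897ebb8e8c8e896a0d74c974d185f37707913d89de38d93f518f1b8f209b04bec17714770f7724771877017703770c054b,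
  nat_lit 0x910db9eab9ecb9f0aa9caa9bc396b9f68b0b6f5d8b063ee5054d053c8b0e356f5c1b72bd166b291577f977fabb8789ab753068717527b76369ec69e15d7975326877b8b17e0a7e037e057e067e0979af68b2608b129768b6203d202b68aab5bd7cdd71396e5a7cda7cd47cd37d6c57b7679db59d320767a61bdd1be7679a67a074fd5e015d7175002485249574f874ff5d77b4555ded5df43fa23f9f5de95ccd680b6944bc0d3cbcb5ba68a98d6c8d6a7ff87fab7fe9684f7ff27ff169d37feb7ed385c23ec7419385bd85c42e01af2c2518250d2510251c238d239b2512251480b880ba3a2f68ae5aa15a963a35118d5bab7eb0b0ce0d7db0a43d43b0a24682,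
  nat_lit 0xf0d3e203e363e1f3e233e30b0bd3e2a7c8a7c80b8797c7f7c7d7c7a7c8cabd66c1d9cd398e44bb1a5f2a5f1937fa5ab05c805b905ae05baabe705ca05b005c08bdd6004bc525fe52dd52de78ecd8ee2bc198db98af98dc48a908a818dbd8259b7c14bdd472f7804780877f577f677fe7bf87bef7bf4b34c6fd66fd57bf03e4b1148acbd113c1142113111321137113a12b7b7bf77e777ee03dd03d046bf77e9c349b864aa00bd0e8f9f8f96a9fda07b931e25b79324251b9111910ebd51931c3e2fc0699a650c329d129d19a021705325c78af78afa793cb46c5ebf31873685725989117c25bb8142774274117385572517793a8afe79157486748539898b02,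
  nat_lit 0x7ca59d089cf84ae59cfc9cfb92338917a95abd84b70eb710992a992cb7129db8c18c991fbeae926599cb99be8ca7c29f93ee90d993eb849393e393e093e92c8304d98247b9f976783dd13dcaabdc750837c7849a85125b1e851485116fa5850f90be90b3b85890bc449b44967cc590b95167848eb6d4bcfc26dd26cf73ef9197851bb5d8846b516d8520b9fd0ff985169a0e9a125c01281195ab95a8be8c688858e585288523396f6fb36fa282a385266fbe62cf6fc46fc86fcc6fb96fc06fba827067d95de35b10826a82698251826ca07e862a509d8617362936228edfc0579cdbc06da0a485c99a1f9a16a00e24dd4be24bde4bd2b22f4bca4bd74bd54be4,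
  nat_lit 0x5cba13da5cb42e915cb65caf5cb2180775ea75e575f475de75e975eeb7795f6fbe215c9f97af233d97b497a897ad5fc55e0624ab5e08635d7b0f7b1207ed1275293d29ca29bd29c229bf29cc29c40b3d707e6abf7079708470827077707cb6c399419b219a8f1803a072a0718d39c055a06aa05f9a8693890f0f0ef89cf4c051a078bcd49a8c7757a06fa06c7ca7a076852cba013dff4d0366fc6707733178cb7c898534ba0371a08531852e79f173637cb584dd84d8ba057bd27bd1b642853a775284df715435778540853f853c8544854d34b985517d088558ba09855278809d10bf599a940f1c9a2c9a299d0d475b9171737348c37f7384f4850791759172,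
  nat_lit 0xbe0f96409642077d9644963b963e483f9e93be109e7351af9aa59a699a74853779f5be83963d3ce7990d990e8c293cf784c95dcf96591a609b289b2b9b2c84945b4e5b455b3e5b505b3c5b495b41b40b79e190da8c7c023790d590d25bef90d60e7d5b683e3d5b5f5b665b565b645b628ebf8ec18eb68eba8c7b8c7083a5bc518381969796909692692b691a8ac995719d279d2c9d2e9d30bc4e8eb39d1b89ff6b5f6b5b6b5d676f5db55daa6b6851198c7390ca90ce452390c690c5850190bbbcfa103cb6085b6010191008919191928a7b8e468e413f678e3f8e488e448abd8ca884e48cac29378ca58caabbed4fe36314630e62fe6312630c630563166301,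
  nat_lit 0x8706ba7d87018703870586e6832c86e86d1bb65b6d236d2e6d296d26334f19f28f6087988a718f5db8187a3dac0a8ac37888605eb7d3788729ee29fd4e316cb76e066df86e026e046e006dff6dfc15e91e561e4c1e4e1e5e1e5a1e471e54adcd8a5fbb65872b6caa7a207a291fb586279a2e91139a2b3e919a229a259a308a6f98a6b6b8c2f2b6baa92ea92db6c0961e590a5902b3c758fb590158fe590c590447624752b1af47594754474e476447570774075f076e077e077a0769076cac059d5e2653bf7fbf6e9d5d9d5a677832220e420e270e4a0e350e330e46ac850e3c5c78b42b46235c76af84317db3505c738e3538e513c61cdd8549854ebe9b8546,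
  nat_lit 0xb21413676adf4b05811481132b2781467ca27c8f7c9c7ca07c987c937c94504da57ea01ca01e9271a579a576aff4a58010017317bb7965d16fcb6fb68ac568bd99e499e199ec99dd99df99e8be8b67615a1c5a0f3b39b3e75a075a155a0d5a1e36a23690369936a0ae26228d369a369556345626162b3c575630562f5629562baa0292e5aa0491f999979998c34bc2f0bf9b8ad79db698ac944d944a93316fbd9ea49a9785834ca9bfef9ea69a6e1f058ad5738e7c9b3eb18ada8ad94bd9788b8f5f6eb286fe95adbde995b066e192f191ed3eb791f0688f8faf8fa664d18d5e831374a990f93783bcd3910090f78f1c8aee83728af451d1738b739ebb7d8aea,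
  nat_lit 0xa4f9b5d07219a167c13aa4419757c17668f3bb4d242736ad4a734a6e5f1c5de468fb13b34fce7c184c3c4c3b017313ad69034311bb5127b739bd39ba88056f39b6f6254d72138a3288f788f4880d7c719125ae5a5fa1bcdd4b394b3426e88c45c09a7c1fb67a9bafa445a44234f5a44875db1a518a31776c2bb22bc3bb5582e3c256ab14bab8ab118811babcbabeaaad99459942994786923e243e339948993ea95c9901b71ab8e67f5f7f5cb71c9db5c304be6eb720b722be0a962db726c309858e8584ba1770378581857e8590b782a09c9a3ea09b28d38ae68af3997b7c239e9c9a989a4f0eef934a93559a929e5b04760466046a0474047004630464046e,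
  nat_lit 0x46f646f02c9746f446ee46e746fa46dd144a1437115314481442143d0adc1439a7c1b3f06780c260c265a7d4972fa65a91c1994c5c53969d8dd08dd7994e9231868e7d173959ba6d72c972ba6373869074e6091c74d574e474e074d774e874d97830786e0d3d7873787eb7d1787a7877c1a3b0266735a59ca1dba1d89711a59aa91690a1b672c29ca907a9049713a6626dc3bbbb35228bb8334533428783867b6dd78bc47763394941d941c98bce862f7171168b5fcdbbc103a90397715e8bd0c1a592f972956579a5a4a59f6307a14ec2dcbbe2bb8ea5edaae5aae69717aae07665873b8bad6fc73e723e81bbc38bd3c26db4185d55a7e6c206a6e59724a371,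
  nat_lit 0xbe677e9148af517d98e798e298ec632579f679ebb81132df79e479ef79f870687146714257fbb6dd713f713c6deb233b71505185182747b9714c71494ca30ee77466917700e9524bbda394582415945236d7377c51a7715c0ee90eda71567158a462a0398f83a4649b019afa9af7995fa02d937162719fef394139365a538e008a8c62578a948a8a89e389e075e0bb6b6bb96baf369f6bb03fbb3fb46bbc6bb59fe49fe26fff9c6d3f393f320fd99966bebe9fb7be783f2b94559450a04891299bad90fd9635715b9ab79ab09a58bee486328630b5a6ba4172db72d86f8186349af5a0519a275a7b75e675f19a73bcee7179937b8d85593737c937b493797acf,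
  nat_lit 0x76e1426db1a6551ab69c6f4f8b135b169d069cf7bf5565939d019cfe91bf7261c03aa016a018c156c0329fc582adc1c10ffe0ff40ff6100610040fed0ffaaca56595703b70406419703e703d10e34ec799cc99c5839d0750990a9913624d5c7567191463842a842c842484238426841c50cc2cc24cb050ca4ecb4ec850ba50c18d038c318e6d7fa78e728e7172d5825e75a2759c46197599625b62517594ae606f4a47250ff011006f406f3f6f3a49fe7fae7fa8558579277c577c54709919b3470b3d0b680604b75dc35dc4680468085da75d9232658de974ef74ea75238df5495c4952b1e5494b19a919ae494d1657c2fa8e19828d97e5a945a9488eddb6ea,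
  nat_lit 0x6619647bba631f5553fa5405868033b6511f466f9d3c56f95425541e9444bf6973c36d5b6fe98fc355f555ee68178c07a24e464a5353bfcaa31fa31cb344a1bf8ec9250185794849192f192cbcf99187a755c3ca96c1ab1bc250a7a5bafaaae9a5987b4f843aa595c18aa54d9741a596a4f3af5662c3c09ea439a4329734c179c1a0986fb758a855c2daa9019705a918a7de5e7b5e91c042a6d7a6d09788a7dba9e4a9e88ce7a9e3a034a03b84bdc268c10ca53a75a1a535a173a16e76dfa6779fd595a19fdc4ad98d9f8d8e13d99fd8759a8c2e16558098626d626a6f368ae58c415bff5c104c818c46bbd58c3f8401a177c1068c1cc1049ba69bab42609166,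
  nat_lit 0xa8ff8784b648c1baa908a90396ffa65c5192518e455340d2512d513b518a41716c1a6c186c1218636c146c095cb16bc15b265b22b40752e651df51ec5b285b18bf256b3f78c446b1417b417385728c13a382817b4393bda8a380a37f9736a37ba7d6b3fa81b5a291a525a51e96e4a6735acd1c843f64583b5a885a835a6f5f125adb50dcba6956028387838886828384c0dcb3b054e19411a397a39492b3a0bba7d38b52ba3eba42aacbaace96f9aacc86962b9186116ae13ebe3ecdba6f8694a9c4b7e6b7eaa79dc246a795976fa367a2cc323f5123a255c0e9a2ce9743a2c35aa9ba5fba5c56c8552a55292aab7049324778ab12e54653867c8679726f06ec,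
  nat_lit 0x93e4bd7e93c585d28587857c8ea493dd7a617a567a5f7a597a64b81f79816f3d85b3834585e77e61922a922dbd2975cf7d4ab88b7d4250897d397d3c7d417d3a6f621645b69f6f556f506f536f646f56a0c3a8c49d1da2acc31fa99c99179b48571256fe57075716570357185701570ebe98c0714e668599a04ea04d9a015d6a9530951f40009536bdc094e7929d952cc1dd97ff59efa644437fb14881f79b3294049401914693fc7d457d3f93fb8fc5befa07f398b86f5f9e4c9e4b92b66f97a5eb9918916cbf8ac1bda5eebc3cc1b8bd74bd7993b53b0479e679ec8e7a6c5b3d103d04b0a13cfd347b34833d123d0676a6769d362b413f76a4769a769f76a2,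
  nat_lit 0x9aa89aa69aa0be06837b83789a9fb18a9fcc9a3d9fca51db9fc99fc69993bc78bea795e79aab7fdf8c0d8c1b8d95893c887586fcbfe19aad8b738b701d59353d7081054f024b1cc5bc3b8e3c8e338e38473b16eb706670623da73da4b6bf70650b9e0b870b980b9c0b940b8d0b900b8999b699b199bc8b6199b599aebe7dbbc48bfbbbc68245bfd55a095a12979a9e600f0a0f000f020f140f100efb0f06ac9331ed57ca57c957d257d057c442872b079b7cbed79b7a8b6f9b689b6d7f655de74bf407644bfc4be74be94bf8b2314bee794c653779505f3b69a069a7b7f9794a90e890ea7c8385aa90e790ec90e07eee76747672b78d7671766a7669b64c6460,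
  nat_lit 0xa29fc2ccb94ac3269c2c9c2bb94c9b3a9caebe1abf399cad1514152f700d887b4a3766997200720671f971f671fb72046a54475db6016a516a536a4a6a5642336a2b3adf35596044acaa10556a2c59eba385b184b18676c1a531a52c973fc1e9a4fd35b67403c010a500a4ff9748c17ba6748b4fbd92a7c9a703a7009738a7d8a9c0b7deb7e2c24aa767a7689745c32faa18aa169798c3539f459f3a9990c2e6a36ba539956ca53e936c936bbd56c189be9f9a369a3a52236ccf6ce39971621f8bf88bf2824f8bf68bf08bef13d77a635beb8c014d0f52308c08bbcbabe04cdc9373a1c2bd2ac0af6f926f9f935965758c168c188c10026f13d313c38aed74dd,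
  nat_lit 0x9c33ae7eae7c37529822982487ac3fd5a78359beb738c21aa77da77a96e2c17ec21fb28eb292a72e9ef59ee696f4a2634f1dba273abc4ebb54e754ea0bcf0f394f37408774294ecd942d942a7f677f6a4f4d5777ba294fae4d874d8485da547a4f63697e529f4eab8569856a85de18cd4f7369df3cc3ba2d5525551e0e2485e2c21db284b2889bdd9eff9ef85781a1a99eefba48ba4c9f1dc3abaad49768aad276bbb3d4865d9b17a61aa61992abc25fbf33bf2a9ca277cf3f8d3f997733b0ee88c99ca89ca64a2474337430742d3ffd281a2824281f2821031f0304281928229d42640b9d41669bbf6d9d44475070a8487b4a464a3cb1ff20cb20c04a3f4a48,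
  nat_lit 0x69565ce76954627632913281694e694848a8489d48b0489a489f48aab1d148a280316427136180338036b905284f7dcd7e70b8c50b97782d7e697e660628366847bc47b647bf47b547c4b1b947c02b9d23f6abb023ed126e23e623f823ee23f22c042bf22bf72bf92c002bfb030f24672c702c6301b52c64af0b2c722c5d2c68901363c12f1337208a538a5663f290163760b00b3758375c2ea92e9b37512b659832982c5a9f90359821981e87d13399c1139c61423d949fafde3567ad589b399c93bf28981b29f33add3ad287a970a70d800d720d760d7e03fb03ec0d700d7a902d46ad018bbe3d375b37541d909842bf12661c5295651b9014901963f58c61,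
  nat_lit 0x802e801db90380298027802453aa802353b753c6b31553c353bf53c04f5953bd807caea6b90d807580798072807e4db32b23687eb5b7687d270926fc103b329a4fe9896f8ab98abe2d672d574fa8bb75ae74ac9e38a43899389738a0b02d1e07a0a7a0a89a918a43beda9b8ba0278a4d95a48589c063bd3a93459342997892cd683247a9682b683e6840682968345c19811e81182ae378654239423681202dcd47b14b6d6b216b2a6b256b224b8d22041aec1ad71ae61aea1ae01add10401ad97814780b463f780d69f469f32cd468b80ab4ac410aa80ab00a9c0aa503270aacb5f66a146a0f0b652665265c3ad94d6ca3eca3f24d28a3f66b3a6b4d891b9551,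
  nat_lit 0x29c7058d23343f6817fc1811af1c2d58aa54aa4ab92aa9b3c371aa56b92ea75fc11ca688b316a709c0e0a2a15511a76253cb802bbaeb810688c588be856643d553e3683953d3781b43d743d280681b4fb8c07ed745f7722b88d0baef191482a85515817502bd1e2b806c8067856e74cdc36baa4e8664a833a478a47fb910a42dc1f2a3f16b27a6bdc2a1a870b51ea6cdc12aab29bb02c3c0c272a7f7bb04c3a26425807abb0b496b894b8948894714276b2d4d30bc9b686378c678c38fd84d19642a4b7d4d7d49738952bb0d05f77fe1a5e2a3d7867e664bbf8c9d838935934f643bbb06add61db38957895a895589589edfbaa6bdb2bffcab07c3ba975cab0a,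
  nat_lit 0x7577703c52776b7765777235277769083f7e17bbde9506901b901c64997cfd94e48c658c5694e2177717701473557e7e1d67276e3d84492244225b8443600b22c56e228c5cbcc10951094622fb909c1be21bd710971bdb11d111c6ad991bd97d687d641411b88f758d75847b267d6a845083e91a0d62628458b9d9844d153b6497b83f7b2c6ed56176617d7a2a6ebb9c373f23775c9c3a8c9f8c9cb94e984e848884862df98481508550717f9573b33f403f313f3c26833f3a3f35189721cf29b7b175451b3ad7451845171ccd44993f543f4c33683f520a200a3718093f4545834588459245964590458f057f458b3db93f5b05dd39e9247f2476b0db39ec,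
  nat_lit 0x98868ea99883be51690d690a8e1598888357836483666501836a835e836283608eb18f908f8a3b148f868f928f8c855d5db96ed16ed8021730a330af6edcb6917b446db67b3fb8436f226f216f057b4629b829aaaec929a7299929961cba29ac691533c279de5aff79dc79db5bfc738193ed8c897d31346793f693f58c754afc3a143a073a093a0b3a103a0327013a0187868c697b6f8c6c6e4b6e45300e7c3bc0478cf2b704041b76177618c0449b19241023fc240a240e00eb00da23fe240138e376456ed32e89bd5e93879ba01d3d08576793279d8c5ab85a7bc55d89145f3f575b9b0c160f8f1c931c867759b7ad8f1e6ba584e0b99ca0fca0fba0f85b06,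
  nat_lit 0x1586157415801584157c1579157a1577b004374409bf37482c6b2c5f373f3746a05ac04da0539c3cbece9b5fbe6c790b846eb9e169612e59736d736a8460387b836d847cb9e33a838479847684745a86914bbebd8e37591d760b75f69a7917e67d4984a37d198496849e84a57d56849993f97d5390dd586f9906990590c90d43bc2a1a932112bc2e76b576b2576dbec37ea664db557584ac73b573ae0d595be3911e394724095258b6226b819116911c394f8468827565eabead9acabcea8dab24138cf182d30f7b9418941b8cffbd916b7f746300ff23b57470b745746c74659d716a8d65e44d739d769d7587c99af98e22064f63dcbc3321d321c4331884ff,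
  nat_lit 0x17bf1845185a184711e011f9ad4b184e5401b79e7e42565c5481547eb8bf3c2f438a3f6d4381407d4384438eb14b24051f1328f97f7a8ee54206420f7c6f914c54dd47ed743e211d69c169bab73f6b993b6dadfc0e1380c880c380c080c5563c81a9b7aa3f630bb7b74a749b81e8540e6cac832a83283f0734dd34d0831583278cf9826282a73d516ba16b9e99a08261457d23a9b17f457b45794576af3c457250837e805ac77e7f92289223bd24bd276b56412a44b963af6b526b4f32ea6b58299f33b35afb4b523c833c800c1b4c8f0a2f1c8c1c7b18ad1c941c891c8eada7415763a20a492ea19515950c1c9cbfa528154c8a4c8c19334c964c954c904c93,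
  nat_lit 0xa5dea5dab08c9de39ded9dea70aa9de99c7dc2a2b562a88c6625b5646aa2998d70bbbf6a9d482d6b9d4a9d47704d443a339f6a1b03f76a20414c41466a246a1d7416b5fe043550016a776a78b7370853436e9df12e39bfa973f173ec7c5055f15262b2e9525c4181525752540c6d525a3d4165b24361266b2c142c07b75774c66a22416e422bbdce9de79de487abbdcc95256bb2799da4a2950295098ff1c15f07220711071c07200718070c070f0713180a17f8181417ff17fb180ead451804b0b33db5289511fc0a840a9b3dba3db6769276947328768c768676967683768e4111b05069a92f6369b769af69bc547936e97c4532fd41a37c437c4ab8737c47,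
  nat_lit 0x37013d7565cd65d2b34a5577237c01939fd69a39c03931339fd09fcf08699fd39ab39a559aa3be009a5e9a619a621ecebf8163399d62943a454745443ccb360f70a05573b6c570973a953a8c70a2533170b870b470b0272b70b270ac70af70bc96799d55984b9d4d62a362a0208f88326577517570c66467518c5197b6c970c1208d435b1a2a575229322943aebcb6cb193563d3539f62aa70c970ca70cdabb2820881f90f3b43db2e352e2c3f4961b7700758a98fc0661365b965b68aa48a88239773c170925aab2db92dad748a3bcb3c4c3c462fff203f3c443c3f3c503c3b2631314c314031440fe70fd015cd31461ec81ec41ebe0d331ec21ebb1ecc1eb7,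
  nat_lit 0x41d3d342dab3d3e3d3a3d303d2e3d38420d31974c865992599ab3d959960bab15a7ad10aeb8293829312940293a27252954294a294c295e295a29492952aec1be3597fc7eb79800980497f945cd80459f329f2cbd2c9f30710170f692538a13bf3b9cb09cb2bf34b05a3a897fef7983848bbf145919bf1792279224bd1c5437a63c43d98165bf1894899480b134a63e9c056c623e7475ccbef49be1379fbf0dc1c3a3517f97a5e5c158a48fb0c8996b9f759f2a8cdda87765ef65ecb53c76b19d349d6bc1b19c8f3b21b06cb06e7c697c5c59d479077c5a5269526655707c53a6dda516bd1aa697c2aba886933da43a3f2d65c3b0a665c5b2e6524f3d764398,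
  nat_lit 0x7af2381b21337af07ae57aed7adf77d8a2207b2abff8c028a21ea21db2989fed1262125e124f126812641259124cacd106c606c806ba06be06b506ca06b306c222f822f21f9122e222f022eb22e722e5a6c4b1eeb1f2a21ba6c8a6c19707c1ff9fa9917c83691a23c02b9fac9a6d452ac0a4bdea8b7ac020a210a20f928fa205a2237dbb1fd78eefa228a227114ba22c0d160d120d0c0d050d100d07037f0367274dafbd33de224d33d733d833dd33d2a349a34e921ea346453345273a789165984865c00413339797f197ee15919518437143654375355f436643734378436d65c870eb65bbc15045674564aeb64aa79d57bf76bf7dbf72078007995cbfbe54,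
  nat_lit 0x49d70b2377c83809875b8758904a5913246b66a94bff66ae5eeb5ee64dd3249d1f961f9a1bcd1f8f0c850c7e1f891f926550b54738c7654e5e575e50654265481be5301530083016af63301c300a3018375f56a02a49650c197b19784b0d65197d6734fb7bc37dca7dc87dc57b1fb8a3759271417583b76d75887587756660dba1fec0bb844fa0308bcd8bc896d5601ea271c0d761c793697bb97bb083f58a0c1fb01fa407f71fae1faa1f9f1fa01fa38809784f4a597af767bf67b45f4181d2c33fa9ddb8a8a9e07b05b83496cfa7be672c671c67366721671f6730b58d6722038e038a038203770386037b037c0392a1907a3588509a5ba194a18f928a7b03,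
  nat_lit 0x33b123a123c124a124612351240accf4030402a4021402ead961bd54032402336a51fa7822282246e356e307fc0821f2328231f23152321109010a7ae352324019946ce4d4b4d52017d016e4d49b25279ac79a8724f79aa66d166ce325d62690854084c084e085e085a0849084aac150acc0ab90abb0abf0abd0ad0ac430ac62358048b2356235c2348235e2354234d5cfb647864775d1a567d5676647e56bb789b78994d51789f65166513ae504149905fc2b2b7baa9ab83df83dcb7bc9b3dc194a807b56ac2b16671b56cb56e979d2d696690b57566970b210b0e0d1e28514d5556e2b37269ef0e010df05ee569f865111f6866753fd23729371a66a0096b,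
  nat_lit 0x87f8b8ae6eb4bab387ec87e587f187ef9545b116b1188819c1d3a63254d6a629beee147530f1890f9bea9be992a1bcba874da19c145da16c74df74da951a59ad9da879b9bf979d2a6dbf6dbc92b8259667161729670e671438c938bb671a670d351c7e2422817e1ab6466c7d6e46b544a66b6e497d7db636a849a844977bc2d6be7f962984f1513799c899c184e799c28b8d8fecbffb8feb9ec99ec692967b92908e907f908a908c8bb78bb490891635230e22ff2316230323012312ae33230c0b3e0b340b360b480b440b2d0b3aac4b22c622bb22b322beae2d22c822b422bdbef6af662c3637b39e449e43928570f90f41b0c53e850f5f1cc31cb21c8b3e87,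
  nat_lit 0x5674804d804fb909429742a35cef6ab453fe53f7540653f953fd5402b31b4b429483219f4e2983d5947b94745373bdab8945bfce8f0897bb8089808a4d3392d152c452bb4692505552c052b552b652b35b1371963cec718c5ab35aae022971938a3783cb50c7bc61432143148f118f1435d835c735c535d135ca35dcafe935cf429fb3d3596942e120f720f4596c55cd55e21bbd55d955e04f2b4f2855d748916ae76ae22f1c60d86aeeb60f51056514a281985ab7a6a9a1774bb7a892999b53a1aaa1ac310b9f4394ed94e86323633377a07794b7b3779722ef22e877a23843a9cca9cab802c335c324a9ad8729a9c97746082817017df137ef37e5b8ab7941,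
  nat_lit 0x6abd6ab86aba4363b60b6ac4393b27aa761200fb76512c167656b7877654718e776f7d8fb64489dd712b71247e1491309ae69ae0911b9ae293b093afbeb552b98f8f9adc9ce64542342f34269ce488ebbccabe6b98dc96708c838c8098f3987ba5a18519b03a70c2c1a7a5a8b03ca5a68b988b927e228b9686f786f88b9135b23d643d5f3d683d5b29642961b0a93d5833ccafbb33c433af33bc33bb33be33c6556c64de9d39bf67627b6278b30e9d3a188523be64cc277d4620462d64c864c726582648ae7b2647264426432633264a511c27705124511051135120b2c3511aabd3049804a404a8049a04970481049e1de52370236a2374236e236723782363,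
  nat_lit 0x5a6bba3b5c5a567345a5459e299086154285884c95b3bded279a27a58f5347e6019a019e018c0190018701a00196019418d8ad5718ce18d416cf16c618cb172fc0c51dfb90b5c02ca169a1627b0d880f02a904ae04c404b304b104c0abd504b859f259e53e8f42412df52dee59e9affa3eda3ed83ed03eddb0cd3ee63ece2ad63c4f5aa25a9c018f0f8b0f805a9820ed041e040eabc903ff0407040804200410a2b498158597c0e59df79df25ba09b454d044d00b20a39fb4cfe4cfb4d064cf93b300a6e32cc3b283b233b3428ee3b2c8e77bbf825bb8f808f7c8f7b8dba12a8a0848e6fbf9c91e5659965a3a086c052913a7478054574cb8c958c8e8da7006f,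
  nat_lit 0x6fed0be06fe66fea0d630d5202ab6ff2568056705679567e46894681567a38dd6f7059496f6c6f693be73bd404bd6f747278727455dd727a1ec11eb835d77276959a8b05959982fb9591958ebde595971038aca9102a1032102610210e67102c625d5a105ec059df626e62654733128f7efe259f7eea7eaf7ef77ef47ef972f175ed8c8c8e435ac98e548e538e4d75b3396039643955395a3957395238f2395cbc88b8d691cc8fa39b9d9b9ea0dabd624e694e6c4e6e4e744e624e614e704e5f32014279427e428220d420eb427042733ee33ef23eee3ef83375336cadae3eed055338e638da0c2938d538e838e038de1673426a425a425e425c42654266426e,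
  nat_lit 0x2bef39a6377bb045399b399839a139aa71a6719e71a24601719a71aa71a43e0d3594afe3358a3590357f3580aea0358c3f6bada415c347c67750774d45ab29f90c440c400c30ac5d0c360c350c2e0c4634b634baae3a1c7d34a734bc34b234b07115653152f51dbc323132218eca8ec740d840cf40dc40d104f704e8b105409110532ab56529655663d663de5fac382124e375ad710f75b039de39dd8bdb823d6ab15016892d368f88f088ef892a892f7306afc85b257119280b2802507d730a30c0af7330ba30b7242d241a243030a7133e50f850ecb2bf50f250f1300550fa100b25f33b8bac8a3b873b8e35bf26e554f8b33938b74daf35ad359654f54987,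
  nat_lit 0x2e753b700e291baf3b653b723b6a3b671ce1af3a183b1d183b823b7f3b7bb07795e292e095ea7fb46b636b6095e48a99870989799b909b92ba7a86e500cb8ac06930b5d76928692c6922691c691e69257d5c7d58b88d07957d517d4e7d5e730587801fe141b1878c878a87891be1baad8ef823738ef328fb8eed8efa8ef48ef697b15e3798fa15d99f9f9f9c9a8197b6733c7337b7191f0d3df13df8349573351de61dd6adc31dd51dd21dd11de81dda95dcb80e849d8490bdf995de95d60b7315be15b2ad1515ab15ac15af15c015b49fa19a52bfe671b79ea19e9e9a7fc02f67023e2766f91cef5c4a5c41b58966fe5fcb67b367af67c067ad67aa67b8b59f,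
  nat_lit 0x6f0392c486d692c3209020a386d22a508f776f6f8faa23d0021b01fe59f854216ee1b5da90cdb1445ca55c9691798bd5738773e37f797f7d2893288a58827f8886e286da86de86e07b407b3d86d503098bb28bb08ba9bbb9bbb48b9b8bab5ec72311b6956ef86f00125d12566ef76eff0b4112af29f029f429ec29eb29e829f69e220ceb093376e39e1e9e1d909276f2c01d23098b899f889f7d9f7a9290874551fb3ef52bab52003b793b7cb27851fe9684be19967d967a4521451e2e651927bc8c8aa98fb174114357435070948561961b659198a3802d98a598a0628e98a9451c3d60be1780100233021c3b7796676397656e65704ce0656965646567b54d,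
  nat_lit 0x3decb0b73ddd3de13dda3de33ddf3de6a447b4249e7b9ac0a7eca7eb66cd8da031a2acb431aa319b319931a6af89319e822a8227822e0a89055a0575b979113985432f3b31a9938a0f270f169181bd61918d674556130e8370ce70d1918e5db39694bf419cbf9c9a8355835273a17b956ccab64f6cc0344b6cba6cb96cbf6cc28c1591d19a454437be1e97a79b8267297398835d6fa180589937993992e28f6512d412ce12d012d812c012c712caacd90af00ae40ae80ad60aee0ae10ae20aeca57b6cbca02ebf82a857a852b4f6a4018e7e8c206f597001747d747a76098ced5c685c6a5c605c665c575c6c5c55392b6b67bd59935d8f756ee36ece746f78d9,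
  nat_lit 0x94679acdb626be3083998396999c9961912b191f1031912e4aa94a9e3386912c9141bce2707a2dfb8cbf8cc79145bce59b74bed5bde2bba88e508e4f96311f1167d667da635b67ce67c767dc67d22d959b669b61bed1436990f590f2bd827eab08ae089a08b608a1089d08b0ac1b08a82e402e292e3a2e3e2e362e2f2e322e2b7d1e7d0e7d0a7d13b8877d207d0c5f355e8b06612d8e62b362b162beb4f362babced2345767779483dc13db273e69151a593739cc030bf86a553a54e8de7c14863946392452f4ccf6390638b638663987512b75f04cf750d750b75063d02750e734e7348733f73445c035bf562cb73439ac384c7965f860ac0229f9b9a847289,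
  nat_lit 0x9ac6717a89db4537b79276abb7908dd8167416670527071f1659164e166c166e9fffbaaebff49fb3a17ca17b5dffa1719fc36cd9a44e64f3c197a57cafeca56fbf6364f19d3694379c899c8674c074bf50a75dd45cd93cf35dd75de0b4535ce15eaf5eb45eaa5eac5eb25eb15ea837c37c5f7f9a7ead78f1b4125b9f7f8f7f9e33cb93b693b23caf8d298d2293ad069f75188cb373398dea7688769963e38d15a4eea361919bbd04a15fc0987233a37ca8aba4e9b5b4a8a9a5b3a5ac6cf9c284a6da91ad7fa5a698c19aa589933aa6dea0469ba2747f65c694659462a03fbc34729a6f8b729270ef7298728d728e7296351f35163521351a3503350f35243514,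
  nat_lit 0x8e06097e2ca68e084b074b0a57708e04698a24e76983615618de18f56984b5e1c23781635393c222a711a70c96f1a507917b734b72d2bd32946d9472bda7946e9bf916b598bc5ebb9c009bff92a59377232b6eeb6eee6ee8648064896eed6ac616bb1a001a0e1a051a031a0aad7114ab9f4d19f78f2b9bf3a252a2514ec1c0cf5ebd2587b6ad6fd96fd26fd16fe46fda400a4004b0ed4003089e08b3400c3ff979be378c79c679b579b079c2b80b79babfebb9a49e9536d59e9a9e9799e3393dc19f8aca9ac99d6fc18ea55b751da58f8db6bc178d1d8db28dad8da45a478da28d939fbc9fbe65879fc09fbb74ba663b7a087a0116417a0379fa7a0a165146b9,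
  nat_lit 0xa2baa2b985c7a2c0a2aba2a2859bc0e71f953fc908b5774449124911148411098211820b5a7243e3587b58766ffa820d7d2a7d2e760750e77d347d2779e37d2873c455b573bd73c673bf73c83bd973bba550bf489468c152a1e9a1e48cb6c14e04da04cc04d004de04c704e004d204d637c437bc37be37cc37ca37b737c0b015be4e95cf13ff988bbe53988e085184c151645155515e516205e105d150e1515992f684738ab77f8b92f592fabd444c417f61be12766e26e19a349a3366ef474d58e258e058dc189058de58d658db58e676b821ac407976c276be76ad76b6b7951ecbb19946862bbf40c940c6467f46843548af4a353b098b0b930b8a354a353f,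
  nat_lit 0x9e306d9d765c8e629e2e9e2d92b57183c00ea353be72a35584678464be7670bf91b991bb5e2791b489f689f1bd077ee7a79ab36c8f3f9bf7a799a796b3709f3d8382b9b78375837e693d693a837034c56cc992fe93414c658acf8ad1933e8ade9a5d995993020ed39f949f936cdd6dcb779f86ddbad5885322db22ca885c62f202540250023eaba902440243023c0256b3d031cc4cd64cb9772a77297705b7a37b9c8299bd4b930db3a457d761f774b1401b773a3031773c1711171d7740773425f625ecae7325e425e225e925e025e70acf3253326604dd32513260af993254a35da36392d7c10b5704571b997ca36ca2e5a2e3af8ea2e8a2e0a2dfb6fea2db,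
  nat_lit 0x8008834275c380058340833f7b688348a38960f281e6a52b95599548973aa52869dc4386abd069d569d169ce3ce369d8a3aaa3ae4191a3b0a393a38e8652a3a8a694a513b1b6a40c9c799c727449bffe6852684c68456850ac740d853a57684988c670b788c288bd3a593a5469877736701c7016700b683d7014700f072748ccc1845a85b24cc0dea6f7a6fd9791c21169db45cb433f59c30717071407597024a8dca8dab602c2cfc1dea64db604a785a69cc1207922c1f59c6f9c64b1c2a69e70586410705470517056704b53c4705ac23db326741ba71fa774a77196e1a772bf2f9c959c9694b73a453a3269924027a28d58339423bec4a292a28b92aea28f,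
  nat_lit 0x20595036ba9d3c645f515f5487645af8903a47771acebcad5f955f8e902f5a7731c302cf6042ba9f600d60060349876a9ff2b52cb52e97a3a41ba416b530a8787ac96d768774876f6ca56c9ebaa1876d60ea1d9560e557f3af142ce70112075b2d19ad9cb2674dc14dc24dc5212e3ce51568156c15581560155a156e156615641384137613731382137e13711374137c4976618b6188721c8970bb17440765dda32eace8aceabef0c0faa329b48aa1c44d8a40c2b25f4d834d814d7e47c33afd67ee445b67e767e9b5a367f067e467e24ee20d1cb287225e4edb4ed54ee44ed9609060886084608e56eb56de49c1607fa78ca78a85baa789a2b3a2ae59f7a78e,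
  nat_lit 0x2ce55d0f662d66346630662f204d1b3f06e8abfb06da06e206ce06d706d306dc8add735792dfb34ebd4392e892db89cf8ce9bd017f09919c79fc7a0d25b48ae22cfc2cecaf172ceb2ce92cee19c01836254f1b354fcd4fd14fd94fe0b392576201bf60adb25460b5b4a960ba60ae5d141c5e1c5809a51c661c621c531c5aada394b390313823952a1ad5ad8083db9b34663dc12fade2a1f01f79ade4af5e99850b4e2036203820402030202f202dadf7b8a47e120dec95051c611c548ff2901fc287bc72b49ac0c2a816a81b9726a510a418579790459ff0a41ca415970d91a7485dba996d6f79c85f2e5f2d6c464423579515fa216d64955f475f426023aba2,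
  nat_lit 0x722760cc3737782888aebae567b776dd905c7897105c905a7ddf7dda1ad3905588ba1ac46016384eb1f84a095ecd5ecfc28da82eb5b2a830664d6638b4baa41fa411a6b6b566a6bea573a56cb1eac1fd496d8968bb13896b12b512a52f4121f166375d05685a84141f4f1f4478661e93498d66737875611c7868786d7878094b8894889788a088928899889cbadf43c5bb115edb8960896277e277ea881c13294a8a4a794a864a884a844a7d4a8047150670066206660674065d06760668066ca2f3a3e56689a3e8a3e3a3e089c67fc5854a82e8bbef15a18cb18cb48cbc89c56cde6cd157086cd56cd36ce0b6516cd6781e78165737781c3829381c25d35741,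
  nat_lit 0x2246038d278b5e5c5e585e535e54b46109596f266f296f256f1e6f1bb69b51b216c5ad2b16cc16d216be16c914df16d016a716a916b016b806a3069a16bc169d3e716e7e6f2f6f3114d514e738712f1f50da73eb45bd4f0f5a2f5a2c59e3b731456c45612921409f4568455dac3e4563079207840788079607790766078a078e2c192c0a2c082c0d2c1aaf032b8b2c1305e505bd26d626e226de26cd26d8ae8705911c691c6b1c7e1c781c731c6d0c39a9b5a829b7c4a9b6a9b1a9ae96caa70ba4d19dd7b258a6ee949a94999079a704a3ebc3c3bac4ab18a243a23abac8aaec889b8824bae1886788a488a388aa40374d6768bf2f477a513feb3fe549fd1d00,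
  nat_lit 0x350b6c7208976c7a6c786c6e6c716c762b58aef12b522b562b482b472b4f2b4d11d8acc711cc11c511be11c911c311ce1982197319701977197c196d0b6a197508010dd46d9b634f6c5f6c5c2b632e04009a008aab8b008300800087009c008c7b8e62f77b0b7b8b44774466b84f7b8500f148bf086f2da9bd8c94179080908702fe02ee02f202fc02f802eb02ec02f66ec66ec16ecc6ec36df56de4b68f6ebe02313afb45842ab7b4ef62a62db0288f00f200ee00dcab9100e200e100e500f411d308851c0562e7b4f962ee3e6758ae0a300a3405850a280a1f0a1c0a230a2a56fd149f8f378f3dbc6f8f40430b8c930c934916b1db4915490e490b4918490c,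
  nat_lit 0x7f1673407f0d6aa87f147f137ee57f11aa3eaa399557c361c0b0a1c9b8dea8fc2e5c2e4eaf372e4d2e482e472e5e2e5054ce4bc13b27b333110d1102183454d063b463b7b50f639c45e945e163be63a964486443234a644554bf54c20e1b64461c6e548bae3c545f2be92be625063ebb2926af272d9e2d982bcc2bc4ad3e2da0234e434b17dd5384313e314f17e453863660aff3365436593650364f3657364355f655ea04a7b35b548f5490046055f84d9e4d9c3cd1b2614d904d8d4d8e4da00e19ad3d17a417aa179f179c179b17a63565bfa643c183e39011900e0eb154937abb7ab811a47ab67abcb82922736b071782177a176b1780177817731784176d,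
  nat_lit 0x4e5c44ce157f4cf14e594e562f312d2e0ed52b9e2bac2ba11a2e1a27aef92ba601f379546ceb689d61646163795668940d352bae2bb52bc01c111c0c2bb82bba80837f33b61880808084b90f63a10ec92624261a261e26102622260e261c262053f0428cb3194e3f53eb53e453f253e9510f5102b38d510c032d03220f4a0bff50805069507250275086507b5077b2b3456fb17a2da705ee97e397e0247997ea07912969aec70fb02995299229a005d4295705ff41521c654150414f4145414b52347f1b838b7f1d8b46bba3838c0bcd3f773f6e3f701c283f733f823f7c11b326db2801280e281228082807280427f188d87e5e88d54a1b88f2baf988ed45e2,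
  nat_lit 0x2b832bc62bd42bd82bd02bcf02652bcb23b6195323aa23ac23b223a223ba23a0b8f4bdfc95fa439f0273025885edb74061ef77beb7b777b877b077b5610977bb4ca64c9e4c9d4b2e0ecd0ec44ca04ca405c7388d58eb58f658f258e858ed58ee32cf32d232d40fa732dc32c932daafa31a681a581a72062a1a5d1a6cad791a66022e0224022602380234021f022aaba73c972e6d3ce83cea3cef3cfa38883cf4341a20d83413340c340f341c341634180e9c0e980e900e870e940e890e8c0ea05a905a8d5a940b9b5a8b5a80b3f33dfb07432b6e2b7c2b802b782b772b702b752b962b871a712b942b8e2b892b9a2b850ab34801b1bf01b947ff47fc123f1c0f,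
  nat_lit 0x6eaab6746ea66ea86ea06ea36ea45f936c365d64b63d391344b144a648f324f75a44b3eb34855a42460846145a3d5a4098feb5d47d47b72e98fd990298f9372d0840ac130832083a0826082f082b08343fc43fbe3fb83fc23fbc3fb33fc63fb77b367b383fcb7b3a6ec46ecb7a2d7b3117321723173817250064007fad33172c125200952096209a1deb1dee2093209c51eb51e251ef51e151f6b2db51f040d551ac519f51a81035519c51a151a451aa60fa60f560fe60ec60f160eeb4b33dcf50e2b18050d650e850e450df50d9b2bda66f8205b3c0c1d8a7bcc25b9793a7b78b4a4c732b7b894e8b498b4c7fd27fd54c8351e578bcbc9cbd31925c638f4469,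
  nat_lit 0x49c449beb1f1341149b649bd49c6022d0c9009610c8a0c8e0c860c810c820c7d22542256224a224e2240225822492252095aac27094c0954094009490945094e198533d009dd0973372437233726371f8bd7b6968b9ea9206f35b69892bdc2ed00d000c200c600d400bd00d600c800ccb66bb57c6d9425926d8f6d8c0967465e14a314a414a614b214b0149d14a8acff62d36fa66fce0bf35cd65cd5b4285d3814c707cdb4d761d161ce61d761e261da174c174a173bad35acfc1499173c174e5f6d1c3a257368d85d485d5368dc3ab56e88b6876e8165636e7d6e786e776e7b1f2b15553c543c5800b5009e350735ea215021472156214021432152ae0d214a,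
  nat_lit 0x28ff3e996ba95fa536ca36c5321d42c56e1c6ded6e0e6e1a6e166e0c6e116e096beeb6316be86bea6be26be16be76bdb796e79596def796c796a79696d46308d066facd31276127e126a127309b2127810bf301f3032302506b606cdaf653028168e16881682168c1686167d169016791d5c1d561d4c1d621d5e1d4b1d5aadb760b92d1d430d60c260c060bf60bc5cff141741df22a575fb6c7e6c81afac589083f808fdbc2872d08dff8dfc7cde7d223328b6396c2246fe01e201fd6c214ee64a5d5d3019e514655d2e5d2d5bbf4eb160d0b4ad155c60ce60c560c860aa371d2d8a72214b03722c722872235fc7b6f92c5aaf092c522c562c472c4a2c4d2c50,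
  nat_lit 0x9b1aacf606a7bec94f814f7e65409b1cb43f5d20b1925d245d265d1d5d1855512d52af1f2d472d4e245c24732d422d4c4c34b2352d634c324c2d4c244c274c1f9e707d010aeb9e6e9e659e6227d17bec6b0188456afc5be9884abad1088d1ca36e1f6e739e779661bfdf9e7e1d337c72930f7ce07cb1bddf887f887c87a4636437dc37daac20b01737d237d10ce537de7bdc725db85f3e297bd57bd6ae0425ff92d9956e8ee9bdda91b791bc0247bddd6f4d461b8ad2bc458e698e6672b97d9594c08848445984f694bf94c2bdb77b7f1e5971367132713a7134712f71304ae15e4e41d341f793a4bd6c93a186f393a3450f24236144b6356bfc6bff564f6c06,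
  nat_lit 0x5a6cb3ef5a605a662d322d3f078d5a62a0d46f4595e9bd14a0d3a0d6c079a069762b675f695355ec08730862b789560b82a4509e6f7c73aa366a3679b989829e7482b747747465bd6b936b83747774739e12adde7b2376249e109e0f87379e0973b73cf0680eba13b520644bb18e856473147318730f3d7f72e872ed7310b2d28ba3bf949daa9d206e2b6e2892bf2581bc6d2e0abc688f3a505d505a42fd761b6eb714bd6eae6eb16ebcb68d6dad60b26f32756a7b57b8477b5e7b5db8442bfd75dc60195633006b0d2d0d2275d85cac5669726bb8bd67894e994e947e3e27dd59b6013959a7144759b059ab57a93aa55059213121551f274fbb4fbe726658d3,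
  nat_lit 0x3b7cbf5b357cc07cbd7cb86d015f8934b5365230b182ee82e482eb82f282e7829a57edb87eb9877a157a127ce44a5b7cc384d06f06b9ef84db84d67cea84cf1418140f140b141a140d141c141214146329b0225da5b9c9b9c683f37ce37d3686c5324e86ce38fd86cb86ccba77103e14e3b8493e6c328a2c3b2c3837fc7b6276d1b79639a3ace470137010b799431f5a938645864e4af7864b864cba4573242b992bde26c92be22bea2bdd2bf02be52ba97fe27fe643951a111a14b8f741cc2c2a2c2c26372c262c1f2c1cad742c222c402c352c3c2c442c422c3122b8af07760c7604b77b45bf76037600760e68c56b9048ce6b8744db6b8b6b846b8db625,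
  nat_lit 0x5f6a35334df05f685f645f5d46a7370d5f3db5c10e6e68c65bb95bb61dc55c4525d4255d25cb25de25da25d11e0aae716d7c6d786d716d7a0e7f0e686d725fed2440242f243c243e2438243524330e535fe6b48d30bd32595f385f290e753b4576627659765e7666009300847660b78b3192318e317faf87318431832c8c31949637963890e44bea958b95749632be0d7680b78f767b767db716732db714751f82904899828e2b7f828a828936358287119cacc3118e11961182118b1187119084ba84af5dbe54c084b684b37bff7f0f363182767c675ab77bfa7c0382657c76211f4dec4de311452f5c2f6b4de64de49b2476d490ff2bedbecb9b269b1f5b8d,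
  nat_lit 0x10e13b333c75065755bb55c655c055c223f5260026062545260c25fb260225fc1f3b3c6e3c6a3c633c5f3c703c5d3c6830ab47055c9b2acbb4315caa5c985ca2bde1957e9582958695789577957c4aefbdfa0fef9dbb95ef935e93579dbc9db072e072dc72cf72de72b372a8655b72cc090208fa08f6090008f808f1090608ef8179b95181773547817d817e81815f101d4527ae27b427b827bc27a8abf827ac0cc00cb50cb10cc40ca90c960cba0cbe0ade34ca1d3fafd134c234c1acb234ce69044d42b5d31d364a994a96580b68fc34ec5c91b58162ea1d411d2e154d254b1dc948464840484a484448372418483b03ad0e6d3353afb1335c335b20bb3364,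
  nat_lit 0x7cabb87d7cae7cb279767975b0907cad637f655cb54b0473b03639196354655e689e348e74a5314310030fea74a274a046df4a61b37756e55661565e562556e07c30471984bf55c584c484c384a7534d32c432baafa132b932b432b332c632bc5c3c2c335c385c3a5c365c315af7307610de10c710d810dc10d410cd10d010c9056c0570055e056205590572056805666bedb6536cf06cf26ce86ce76cef6ce57971b7fc6e6fb86d7c1c7c1b6e6c0da212812548ae6525382537253a09af25436ec9b8a17dc07d546e716e6a7dbd6a9271457578b766757bb76b75806e6028ec6e9cb6896e9a6e906e856e826e996e9561fb95b795ba95bc3c613c7392896e62,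
  nat_lit 0x5ddfb504675b629936063601b595655848b848c048c448b748a148ad48b535a98240823b822d749782398236b97b8221387f7ac57acb7ad26c4f6c4c7acdb82f19bcad6919b419b619aa19b119a619ad15f415f015dfad1915e415e315e015f64ce512376464387663b163b8410164622cc02cff2d0007e7211921162d062d03a426ae00bcb29f7fc135a428970aa42271b41a6505bf71b871af71ba71b071b23f6136bf26d22de332e832e74ab44ab11a6b262a26bcae8526c426c326b8160b8e2738aa25ef91268a2d8a2a02d7bcdb32d03cdf3cdd33153cd83cdb36c6b09dae9a002f7ca9bd4d7a437a3e1f3793101dc61db91dcc1dbb0e970e8aadc11dbe,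
  nat_lit 0x85058c027c058dfb98e098dfbe69bc2c0752185d315c02c1315a3159315231551f581f521f4a1f561f501f491f5c1f473cf93b6f629c55df628b628cb4ed390875b875a737a4182b75b475ab75a9264f119b5c125a395c1e5c0c5c0b5c16b42172365a4c68964d92ae6e25c948a75acf2bdb744a54c76b1176c876c7443976c508780874086c0861087008650866087c5fdf5f525f718df9adca1e455e62941293ba93bc6b7717cf93b993bebc841f21350834fd3512350134ff350cafd73504a164b7fe95c99e99a16aa161b838a15da372a3697803a3788db18dae37aba36ea8b3a6ac7e0dc2c1a1f7a1ee8b14a8b867d5696e32756964695c6970695b6968,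
  nat_lit 0x72fe72f872f25ad972f672e772ee72e55888457fb3bb5881587f587c588a5878a325b374b378bfbec24da79e575ab37ac109a35e4bdba1caa359a356998fa35aa5589935bcf49d7ba556a55585559c756d0eb657224234316bde6bdd6d096d0717d7296a296c297629632978296e297071cc71bf71d2665f71cb71ceb6ef342b6c6b3409755f5c5c4f8e4f8dae2250be8dde75e27511bc1f318d3180b4368de2632663201141632c57dc57de631bb4ff5ce5636693960e3b86a786a446e993951647634135ef2b3f634a63476343161d79102b336f66b7ed5439543404a35bf0165f8c2c58d96d67633f63448c24045e71725e6fb6e37160716a716d71747163,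
  nat_lit 0x4fea49694fdd4fda272927204fe64fe42d1a2d1e2d121e5d2d0f2d202d0d2d1679c1b4e0a02ba574a850a84f977da6bb79cf7b187b1424b15d6f5d6240172127c328a9b8b7cec32b94ab94a496c9a779a820a80ab4a2a81ea407a404b4a6a81d780e68615d5c75280b630b52662a77fd60e9246d63ed60e2662666292cc732d972e375ff8de48ddc4d114d0a39258dda5c065bf85bfb5bf7b41f5c085bf24cc999fe99f55be74c9b99fc99f799f32b1772b6b70972a072ad72a772a472a372ae8322831fb9a70a0474b574aa832483209e7db678bfd69e909e8b9e8827b18e4b39312c955cdb5cdd3d003cff5ccb5ce24d144d124d09b24f4bce4bcdae584d16,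
  nat_lit 0x54b039f354ae139d54aa54a9219b54a728c536e30c606d5eb6606d5d26d00483186d26d44ba94ba24ad74ac44ba04baf314959883c8a74c236fc370915b1b75502c7269c269426962690269e268b269a3b0c3aff3b013af33b033b0eb06b3b0a6a406a320bd75816772c772fb7a57730698db73b63b25f040c480c5d742b702259c459bd59ca50093c133c0eb3df0c4f045b04880484048e0486047f0492047d5868586a5863585f06f007094c23586612d71b034cc0595f596659635964595d0c556991b5de1ea454a554a259856a3779d079d279cd74ad325732633ffb0110a4d2a4cbaf22a2e7c11aa3a7969e9eeba40ea40b2cdba41246ab46a267b1c131,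
  nat_lit 0x699a6998194b6155583e584b6996b5e34fc32ca8577a577e306b30684c5b549d52c74e1e12c37265815e815d8051347d550a0bb555064dbb2fa92f9f43b254fd864143b580f0ad76c116a39f5463a3a03b193b1d3b103b133b093b060a753b1762843c933be3b72973ac73b10e4173b8677d1cbd11e780ef45d145c88628563b5b095b0d3c955b0fb4035b14b4005b0b50a446f339293c9b509550923b3cb2b755b16d56593c6d593c8e3ca105b4586538f804cb38f7048db035390038f110250725749e0a6c550928b328ba1869749c4b9a4b91b22920ff4b974b944b9e427b0a7d3f58b20f4abd396639754ac24ac04262728bb1ce4bc3b8d87f0b9390938e,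
  nat_lit 0x45cabcd044e04560440044b044704503db0b0b13da83dac3da33d9e3da13daa17f415c617e017e8ad4317f617e217eebd359194925f63bd9266926387c266233d923d823d8c0c4d28de28eb3d90b0ad3996399018992fd52b2e2b2b2817398b8110704fb9298109810d8104741d810e5098b2b538f45096508f508c508b4697361362e23d09317562d662e462de40ed3d0f6842bc3904590520053b8e2c8e2b00b364ba64b364b43043303c64b659555a565a49348a5a4b472a47295a505a549b88659bbed80f348e3b8e2f9b859b864f344f274f2e4f324f2c4f234f2418e954725469546b4fbc5470546d5467546554da42b724db2cac41094106b335ab92,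
  nat_lit 0x6a8a6509592250ee7383737c5b20805e07600748074aac0307560755074707624f744f6b04c3b2954f684f6dad2c447f2da52d28b16b44c744c344ba185344bc02a6028f02a002a4029c029702930291543e543a5430b321537d53744739544011f211f611e811e311df11dc11ee11ec9c2f9c5421a11ac250235014121553796456b6116af85c056af16af2b4d06afa45d9159f17ed941e85f785f49420941d17f315b91f181f091f0b1f14addd1f0e056b3b513b52184daf0e2ca13b56b0732d312d2d2d362d3a2d262d2517d32d345abab3f9316f5ab4aeba291b3ca25ab07f75b8da7f6f6436925b92583b1f92602919af93071b3216320f320c321331fd,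
  nat_lit 0x81568153b93d619d81558150815804f539fd69ad2dd839d5406f406c550d54fa4b13b2161e3b446c668b668471fd815a1947698148193354697d697ab941b5109563818b1ce6955c924992469566956aa6ea85b97493a62fa6eca6e9978fa65985c17fec818753df82038200592111fea74da74e96c4c22fa341a33896c7a543748e3ecb0a874073bd1f9216921367904be1bd41670992d39239923692d5888da63153ddb1229c4da636a635743bc0d84bf755a185b585d185ce85cdba2585d4c363aa3d809daa42a34da34ab8e8a6ffa519c1878b33a3f59f799f706a94a52f4ad292759fdbaeaa2883aeac7087a48a8b2d8b36398380a75892588f737f2391,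
  nat_lit 0xa1d0a1cc9797c0b3c00c9f377453a1d22e5b76f576ed76f6b79d76fa76ea76ef0bd3193b194c03ab060e0621ad6105f93d243d283d143d1b1ce81cff3d203d1eb5ecb5ef3d863c07397e397b69cd5a3f914f91523dd385f08249824a850a71c4410e410a0ebb39c712ff12ed411241051cf50c3f32e536e136dc36eaafff22760a120a160a080a0a0a010a180a0e0a0cb8b9b3687e347e364f4b4f447e32529b72cab70b72c672c372c172be34d872c411b70ae74465446bb163447a4463447465f02e5765e31ee3b55f65f229a865e9a62445f4b10ab10cc1d1a6264f39a391a2974af139f54b0f9541953a5477a39a2105b93954ad66ab6a5a6a596a616484,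
  nat_lit 0xd836a066a0ab5f4b128422f682769fb339c338e0f7e339329592946afb70831742474224b4a4e517420741f74261bdf9c909433982a0b476825682280f41b9991ae91aa73dd91a191a891a3b2cc91b291b1a515bd02a51a9fe99fea51c5c1812916290a290c2902291229072908291045a9b4055a5f59755b025b01afb8b3f673d473da28c14b6f59d959cc516973cbbf88b2cab8e463c4a484a48387c5a48118af2f092f0109c52f102f042f072f0b45c045adad1221c145ba45b545b145afc173af34af38c118c10ea38796fac16e3f744c784b994b814c7e4c744c704c7c83b87e4f83b5b9bd83b783b252c9061771095078710a710c710671035a317104,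
  nat_lit 0x981c415a18a91981be3f9846276d98444f4e4f41b2914f3c4f3a4f474f504f3f2a8e2a902a832a88124512322a8c2a8a9f21a1c696bf9f695933593092568a07819a819e51fd81715a795a743d325c29b95d816fb2705e9681c281b947d381babfc1abf67b54829c9e369e3377849c1bc0199f6d59db9f6f660165fe3a6b91603f2eb0d50f683f2523b123a5b03e3f26aca2370436f536fe36f9370636f236f6700458996ff970023d4d3d486f6b6ff423942387239e238b23892398ae3f23923b2f3cd43cce3cc53cd23cc73cc83cd6429c428f42a64293429142a0b133429aa29c803981cf9059bfb09e05ac5e9b309c6b9c7a71c69c71267d2676560d9983,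
  nat_lit 0x24b72c922c8f16dc2c9a2c882c902c9848dc48da360945a748d648d33e2d3a25010600fc0100010a00f7010c010301044f84b2974f7d362f4450445f4f7a4f795a357ffe85b67e6f85ac85afba1f82a151e8522c52395229523eb2e5523a5233a7b8b3e2b3e4a63ba7d0a7cf9730a670bd2f522f290f8fe5925492516573900823b952443f15524c524852415242524695f895f5bdff808c44334430b6e8808f97d2b7b497cc97d057ab57a41623744c06c510a11f341f3e1f2f1f401f2d1f38244362ae4a1762ad5b5d5b525d41520881257ed472aa81228126b92d0649086b480d480f480648084816b1c14160025f261627e3aedd06732a7d2a7a1b942a7e,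
  nat_lit 0x1aef35a435a1129b359b359835a6afe53f943f853f873f8b3f893f96b0e13f8e75c6181875c02f1b75c475bd55230d27074007320736073e073c072f0730073a2f3c2f382f322f2f2f362f2a11072f3e1c9144c482f52f1582c982c06b6a5b0542e442d842dc42e2adbc1d9f42d642debf31967e9c9e9ca092069205bd1631dd344e343a3448344c34463445195b34430ed6ac8f0eca0ed00ec00ec70ec303813a643a663a6e3a5b3a743a613a683a622876657f6583657a656d656a658156a9005e004eab8700470044004b00600050471b5dc8b451b09a5dc15dc75dd25dcc052505360528052a051f05380530052e093c092eac2509270924092b093e0930,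
  nat_lit 0x7f507f4d7f54ae523b5b3b4eb8e174f7bdd87ecd7c4f9543a6f9a6fa9794a6f10f2e0f2a0f1aac950f200f1f0f180f30b05829b34376650264ff650a650665040eb55baf322f5bb069a369a4b5e5419db8ec73d9bc966b29920c920bbc80482db72c919e6d624d2abbf68ce1bcfe8ae1867228c365ceba5b790d79040209867421e821dc21ec21df07e107d9ae1921e2305a305130603053304a304daf692fcd91e9110fbd12359f3ef13ee928bf0f090f2d3ec1ac903ec33e8d3e883ebd3ec8111328a736fa8fcc8fc7bc943b9371e835ab3a1d112d3a233a193a2ab0533a213efbb8ce8fa078a70c250c1036e73bb76a706a6a3bb52d776a686a656a72699d,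
  nat_lit 0x67716ff18f7127f5b07a3ba158c152cf101c101a10161012100f100c101e10110e10ac810e0c0e140e050e080e0b0e0e40e6469802f52149468e469a468d4695460c460e460a28ab2591257c4613461c95949592958d3b858cb88caf957b8e30327c326daf9b326b32683271327e1f4d7284727d72802dbb34a934aa7286727f97a56ed6834e1a339fa79fa29a6a70e4208a207b207d20881599158e2082207f391763e4b5153daf349d349063e863e1962a96268bfe289996219622822911253dd8b0b53dc53dbf3dc23dcd3dc93dc77e997e97318b7e937e957e9c3b554d716e4e6e1364546e43b6816e506e41191d05e605d705ce05d8abe905e805cd05de,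
  nat_lit 0x5637011b877d6c674fa34fa0bb4b852528d951d7b2d9444251cf51cc455f51d939733d783d73005b3d7c3d6c3d6f3d7a419953da406553e053d853d52a4d1b624ae83131b2134adc2651263e26bb4adf5150514ab2c95149514751424c69514c3eb30c6255902a5b5592558d2ac34d4c4ed15012500b41c5142b14224a8f00557fb7370395ec2b21676d67682b376f830ef57fbb58fc21c27fd87fd77fdc7fda0fd60fdc0fe00fe40fe80fd3abe40fcf112947454748474a473e474125eb328853b853b153af53a0b31353ba539953b32b24aeed2b182b1e2b0e2b152b132b1aae4b242024242428242a241d241e10ef26576585bf65b5169c849c83af8062dc,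
  nat_lit 0xa847b65ca012c198a910a90f9779a65f6d31ba7f870f7c9f8711870a870d56936d43883cbacd883f6231622eab8887916d512290ba816d4e6e8c6e8f8714345fa6afa509b1e0a679a207a20296d1c17077c17db397cfbe2d7ad57ad8214f97dec14bc036a024514fa46ea4693665a46ab9ce871787208719b59a6799ba83871aa6e28f4f785a9eafa6a5a6a09782a6e0c138b23888a6a43c9eda9ee5975aa3c6223fbb431e0f5c8755a855a735313fdd4c592f7b4fde8f638f4b8f48564132b72f5546c9bb455b82611a61298821b2e088a978848a2788734a2d4a268a2843ae43a5687b53acbb494879487058248a2ec13c8f5a88609f999f8b9f86b42ea7f0,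
  nat_lit 0x3eb428e93eadaeda3eaf3eb83ea70b5fb5186421b51b6063641f641c1f033065bb978b2eb042890d8b348b2b73023ed479426d643ea8b7f77939793643537944866a8667ba57608d71c871d1866c03ba0de566bb66b35e201551154aaf7c66b903e203de03d803cf03c503b703d203e647bb1c2154b42cf96430b51d40a34428a344a33d589ba34270db70d8ad08411f7f9d92107ea478cd0f770f646fef8a83a47aa3fd78efa402a477a47c52ef99889abb9a56958595f79f979f909a83bfd00ef20eea0ede0ef00ee00edd0ef60ee311261119112e111f111d112aacbb112255b255b60bde324b55a255b855ae55acbf937aa59d9e9da09d989d9797559d9c,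
  nat_lit 0x59f57eb582f981d159155910040c11755a033e8217b34e153b5f3b75859eb2ea5a1b85a182ffba1d67c867df6edb85a8c1d6b960b962b964a7cda7cab968aa68a792b3588141a790a787c242972ba3b4a756b2f4b2f6a73da731a72a96f3a64f52adba0b331c5729545b54584b4410bb7e417272ba0f7e3d53ef53ec855e042d52d94691527c5655741474198562528bc2247263b382bfb4c220a73587b9a7a052f37e57857a25dd814f814cba1585767fc87a997fbe7fce79b279c57fc6b8f3a4364c47889fc0a2a431a42a9784a3ef7fcb7a8ea015a5f5a84aa8439780c293c203b20488faa187a6cfa6ca978ba6d4bd39aeb4926e8909b54e658934533f21,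
  nat_lit 0xc720c680c6a0a610c760c5f0c6eac61819070190c3b818e59ed59e75a7f0eaf95528b5f36ef954d955a954b9554954e0c438a418a3f3bb2206220798a3abb571525920292083a3e73d173d3bd198b5a121339e039e239ea2dcf2dc62fb2b04d7e4c6ae57e4a2d857e527e4524d5365f9f35c22b96a2a74386238620b2ceb2d0c373a5ddb932bdb0bf1e9c57b9369b2f924d8b6c9218a641a4d8a4e191a5c1e720672074205e2065206120762070206c813c6a178137382d59a359a00a5653a65a7d04191cd743bcbba68b5165bf4aae117b3facb0e33e103fa53f9c3fb03fa7924a819dbd2281c19245923f924e924359e18cd964d981cd718b7188848d5684,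
  nat_lit 0x1068019d1062106e105a10591066acad171b8c583414bbdd66bf66cb6d900e1e01280118011c012601220115011601202134212a2125115dae0b213e21282136602eb4975e67602c5f375f30602938391bba1bbe1ba71bb01ba91bc01bb61bb411611552154e1547113f113515491556383d4411b1590de34405440803d5072a4de95f845fda5da00d860d9d5fd45fdca75abaf6b302c226a759a75c9747c230a76c88e1b31e9f57a76ea76596dec23b52258b3fbba18b38708a70896b518b41c00b9f2296bc9f2676f976f14c768a0e960e960dbe0588cd960795fc85cb7ec551dd521eb2e31b9d521d521a52265220b534b0d064e04671abce047bb53964dd,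
  nat_lit 0x46f96800b5062e6f67c567c2680267fd0e2e02790e230342ac830e300e210d8f3b596cb26cb023c3636063686caf45cf00cf6dd9623305616ddc6ddb31136776b57b66b666b45c47068b0680492566b1623b7786777b6cc7777d7782777f10cf486bbb61606e8a5c4859484c4797606dac0907a807ac07b007b4079d07a607a07d6f7993bb8d3d0d6bf76bf48b1e6151c278b45c95d19fa5a17fa178b75ca8028c6f9879363e987e966f966418db83077364735eb71f17f13e193e0a4888630936b836a936af36ba07b7079a36a71bb36352635134d63b69630b6302635756e9311183e621eb5a0a7ba17b9e83ec73e9302db130b4db4e731f301f4361fc5b4d,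
  nat_lit 0x7a307ce07be07c207b907d007c807c66866685e685d686446d146e3603a2524386c22d33859386a386638611bc82f8b90a48b748bc3909fbcc390a617085e78bdc394e17d84846d7b7b7b78b57e8751379cb011378f37963791378a144d3781485a4856b1c94853484f4850335919c849a4b1edad2449a0499d499a499243f74cbbb4b5610461065810582161036101012b20552cbc2ccc2cb12cae2cbfaf13035603520317abbb0346034503400155486cb1cb486448664861485e03b8486268c9ba8f5b550ac55b775b70483975ae03ae0394039d039fabc103b0039b03a662f962ed66c466c366c166c866bdb4b634e213c834d50e17afd334e434d2210d,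
  nat_lit 0xa9dea9d9b826c33da25da25ab82aa84da504a50a492da50ca1b7a1b44f8779bd493157cd202388421fc11fbe175f17754f83631c4f9175551758175774d24e854009400f10aa401c16fd16fa4014401875737c0bbd695cde86ac86b086b28bbb06b1acbe1f1d1f281f241f1b1f221f1f9f811083380313ca9ff69ff500abc04122e0ae2f22d822dc22d022cf174322cda22bb4489ec3bee8c26ea7efb44ca7fb0d1941c1b11d360b173f174041c6acda2a361da62a322a2c2a342a292a312a2707e91151115a115e1158114d1156114e06911f3333f9340133fb340a34062cd006ae069706a806ac06a4069d06a006997d8c171307e384307d727d757d881988,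
  nat_lit 0xa1bac0ad4903a1b8bdc494f37b8d657c880a906bb4408740beea9bb768cb915ca4eaa26b94fdc17587478742977fa4e3672f385db9d584346c8d6c88843c67d10391363b41cb41d1b11f41dc41cf41d61a5209f91a481a3d1a4c1a411a421a56b83157737ada7ae07ad17ac648542cf262496d886d81b6696d826d8549a7609b7dab83c081d483c35e6a5e691b3b059f0dc80dc00dc20dd00dcc0dbb0dc6ac7bc274a3de8801a1a1be2297bf8755b46a1cac1c99ada91c9fabb403031cae1c9b1a5537152d097d91b9c183d683c783d0bc158ae98d9828738d9c8d91509b46a1633a4c6063341ca96336632f6330633c41b74908b84d734d7b757b7262e87b70,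
  nat_lit 0xa26ca2689005a261a266a26571299d8da26fc0ee3115a364a279a2767a81a50e6da86dae6da66db06db46da16daa6da4a1de987d0385a1d7c0b5a1e0970ea1d57248724c72437239723d723a7246b3547a9a7a877a8a7a82b8237a9e7a9479677b4c64a57bbd7391be4b9870170768f77ba316f433fe69636319631e7d8b2556216b19a42ed52ed22ec72ec42edc2ed76e9f8333b9ad35f9756e756183365f618330832f7245b9a879ca79d561c080be0dcb4662b195465d465a46594668466435fb62c5b4f562c7391f392062d462b914c407ab14cc14b714b514c8ad0114be0d00ac6b0cf20cfa0ce90ce60cf10cf4875d2eae1a87904062b762c1663f09ed,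
  nat_lit 0x603e5722b4996039603360346040ac0601bc01a501b601ba01b201ab01ae01a7c0aac0d1b9c4a25e3853385f83ff64eb7df5bdc7171f940737d937ce7df88fc887f27dfbb86a25c19bc69bbf92a29bbbc1cd88cfb0f89dfda61ea61db0faa613c0b9a1f2871fa1f4654b6546927d995ca1a3a20abdcac0bd6dcd6dc896cc83c9a8f69669bf90c1bec2dfa90c9776a66735db6b3132435d35b6ed71c071bd503c94b094acb0ea94a33aab3aa07ddd94b4b569664066446648569f56a6568f02490b600b580b5a0b660b4a0b550b5cac4d669d7dd20179083db008374b41147dc79042649a3a9b64a7903f903cbcb12e311c1a1c0b13991c181c121c0913ab1bfb,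
  nat_lit 0x589fb3bf2b3058b658ab58ac58a458b07f077f057f023995ae6c25ad7f010e3f37eb37e737ec37f237f037e2202937e0797d7bde7bda0f1361f961f440b5261294cc6af6bdb98c3494cb94c694ce7d776bd06bcb6bc46bcc6bc66bd22b5baeee9c13ae4c5801bf095ed95ed67164869815d205a915c515da15d615cb15cead1795cc95c37a5bbdf58865885e7cb77d06b40801e5879487968792878f61d92f6cbdee231995b9bdf16c536c54928c95be15f377747ac3b82d4843483c6c015f452d8d2d820b772d862d96af252d902d892cfb4979497049744980b1e9b0201a1730deae6230d130db30d230e030cf30dc1c562a152e9faf3f2ea52ea2ac702eaa,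
  nat_lit 0x3800270042002b0029003cab8500325d3787fd19f987ff67f767f45b7f56af5cf85cf25cf05cf65cea5ced5cfc553d4f964f9a4f8b4f890cf70cef4f9446792120ae09210e211a2115210815e7210b66f39974996e32ff8318831799ef6887329432823287235baf9d3296328d32842377309b30b2309f309d30acaf7130a438ff3907390c391439103902390b25f13674361732a73670366d367636673672332b33363330329809370928332d333232775cc324adb4355cc45cc9329c5cd27a048c1f634d589d8c2abbcf8c26b444a036570b6259a033b706729dbd649b1525a8259c259425a625a42599259a25a21467af7aad2862548440843f950042ff,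
  nat_lit 0x692f834d83513a71b9b38358834b60f951c13a6d6a9813516a896a90b6076a9679887984797979863fff3ff6b69257427ab57a4f178d900348fc48fb753a0c7a27ccb81b7a407a4610ac10c5acb0389d1b001b04abb81af71af31b061af11afc94dc9000b8ac75968456845394de84550ce00cc90cda0cde0cd60ccf0cd20ccb496e4961b1e7495f4959494e39ac49647a6fba85872487266ee76ef15c2d8723797eb8017973797a3022302fb52aae46bfbd1491bab06f499e2a9e278ba788b7129eacd5129012981284128d128912922ce22cd62cd82ce02cdc2cd2aec41e81129d46c646bb46ca46c446bd46cc46b734cd7b9827b37b9a31df31d6302b2c8a,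
  nat_lit 0x607c6076b4a16073606b60704b1e1b234a8daf6e4c374c3e4c314c2e4c424c384e9c2bb7b27f278f4e8d4e8e4e9e4e936214620e620a621262076204621803298b7fbbb38b868b8a64a3649e8b8566c77a3b765a8f5795b46491648e8f548065b8408b950839be497b357b327a2e986c030d1348134a1352133c13451338ace357f4175057fc57ea57f157f8b3a957ee176511a23038119975447543753c75389bcf08137960b6fa9be69be392862e4b41f14f7661aa010961a961ae61ac4e2a57e97ba70cb972b57aaa7aa97551501d1b1a1b0e1b0d0cdd1b161b150b1b1b115e2c5e24b45958c75e155e1c5e2e5e28851c6926717c51c38acd8ac7bb774c51,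
  nat_lit 0x68d34e4f2ead1dff2f8d2f86370b262d68d5502dba935e0b84ca84cd87561c4368db5e6119951fe55e875e8f875e380d68e326b1652cba976ad36ad049db876097bc97b88a396dd11daf1da1927a92359e8d9b8d9e819589bff39ebc003721b77a927a847a897a8d7241723eb9dd5b2f582fad5247dc33f5583858354b374a6930f6af7930ee30f230e230e530ed30e9088e087f089800de08810892ac1908884655440e14a056da50c550c256d32e23622830ea622062266222621b5c890ffda18d92ca9eb69ab9a213a20cae2aa3c530f56160616c0ff261686167615f01ad4c45307d4c544c564c044c084c484c4d5b3009395b365b385b3a5b2d14c35345,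
  nat_lit 0xcb61fec116b1ff1adf11ffa1fea1ff40ca40c9e07af0cae0caa0c990ca0ac6548eb48e1175a48e648f4b1d748f0143f6117580860de61146118b4b9441f028546b3a57056e7a5657e197e1056ce9980a657baca48ee99c77fcd7fc296d6a6681e841e721e741e7e1e761e861e711e7c8b1cbb8b6c758b1a8982898586ee1a09a654b16694c5a1ed9da39d8a9750c1e36cf78b16754d79e986ed86ea7dc364d4be149891884798947a907a7a7a7506456d053fafba79488c61df61d486d086a19c11618161849c14be2897d5160389a1a5609a118e1ba487a55ea55dafcea562a818b48ebcaec0c6a7e9a7e29729a7b3a811b5c2b5c6c27ac2c3a8bc971dc27e,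
  nat_lit 0xa2dc2f9b806a9f11a2c9a2c69764a2d13a1bba53b1ac06e5682e682dae5eb27a2f9813010053612b35b135ae265f3d6b806f2efd8070308178db78d2866e0dfd9f13612c308b9bc3a248a2475ff7a23d8ed45fae8ed15f730ea40eb98ece8a21c281b478b47ca801a4f1a4f49733a7afa814b480b484c276c26aa7e19722c283493bb1de1f8387fa1727173577492f2c7d81645394d28e0e9d889d8796d30aff87138974897a897c897e89738976464f6eb861d26ead7c167c147c116e2f1563279141e241f841e841e641f2b12141eb19ea19da16a316b7ad6d19ec19df08c9841a8418840cb9cd84138410840f68684938312514774936adea1fb3ade82be1,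
  nat_lit 0xc0f5af5c2a73a30ca30ea304978da30a6d406d396d3a6d3e379537926d356d369eb295af886c9ea3bff19eb41bfd9eaa0a7a0a700a720a800a7e0a6b0a76ac3d21bd53635446aed05980597bb14c59797ab27aac0cd94bd161c961c2754737e827cb27ce27c527d227c227bfae98ae9d2d7d4d6039b04d644d5e4d5b3683404a448c44864473448a4484448327872758bfe45b468887bfe89ebb9eb87d8675f9782a2c672c78782e7834b7c77832723525c4165b25b825c225be25b025b325bc949c9496376794a077dc77db3aa3bdaf9bedade6616b7bf7bfc99e48909197c346455d584c4a5d602fdb2ff15d5e5d5bc333b7f0b7f4a327a9c2a9c79770c0f0,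
  nat_lit 0x71227a7f00a4b1d4845d845a672b54f15274526d526b527644d944d252655270a4dbb3c880c79491c25da7c296daa70770df70e870ec70f01965194e70e331898cda922055a435d57ea37ea0346f56c65aca0a3329ba582a5ac45ac35abe5abdae6b25842588258c258e257f2582214d8c338bf5bbd073df8ce48ce38c238afd06e7463cb191463b46304635464646386ba66ba213f144c86b9d6b946b976b9b50903963390f69d71664167774bcb7537121712c41c3b6d9711a7127711fb5927916b7ef2b1d46432ff82ff7b59079132026adf5201e201a20182017201420207691bcf13e15b96c8a1e8a25735c660ba3002fb12a579f0ba2fea2fb974da2fc,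
  nat_lit 0x4bf04423cabb0993cc03cbf3cb43cb65ca95e135e35059bb45b5e3e5e335e38393224bbb039391a391d3923327339266f986f886f876f906f8c6f9cb6a56f94394c3944393e394a39423939395039357bba94f0b8968aae41b541aa62f057a0b6d2861bba3d861d5b1c5b1b86246ca3a1e6be908c37bd36a1eaa1e382edc0b76401640863fb63ff52855278640363f6718471867176b6e57180717f6fc3716f45355935b6cf70d44130412f70d370d776a972fb826719698c388c3d916ebcf375d06c6175d4543213e513efb77552ed3c5b067c6c646c6864ae64b06c6c6c59629670700e37706f702070270771706d38cdb9d175ca842e088308956d45640f,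
  nat_lit 0xbfb0bf70c060c0a059605ad0c000bf93d679c80bf793c0533ac33a73d8f546f2380b0c73e9f10f73e9b3ea53ea13bda91d78aa18eb9709f99559957999a78fb35fc35ecafeb35e935e635e535fe35f26fad056f6fa9594bb6a76fb450a16fb01648163cad1f163316301639163b163e5d4f30d45e925e855e835e8cb4695e807a387a32b4dc7a36108110707a3073f4bc67169349558f2c572d572a4db18f27b83d7b1b6da26946332433397b200aa7bcf6be5c98b63a975e3b5e31946abe5f1882184b188a03630e390e49ad4f187e790f6bd77e9f7ea962896286627db8cc740a0361b73373fd73fb73f8740c74003beb0469681155f2029b02940444b5ab,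
  nat_lit 0x253aced13ce13be13bd13c013cd13d005540546abdf05430541053e05560548947137b948cb455798e998eabe7099509c20755d6f2c82ccbfc49e41623dbfcd543d5c700d5f62814f714f66b4eb627f13eb74b9328f7b6b82b282af82b07b6c56114efe6aae6aa76aa06a9d6ab26aa5b66eb67d654d6e2c6e206e256e26af969d529c7f52619d51b0963cb15986bd9a55e580d1771088e488dd88e67713052d10881078acaf107710741073108a107a6dc4b671b0e46dc06d0d6d0a6db86dbb56562144305f3e7d4e4b4e48565853613e623e653e5c3e6a3e5b3e5822edb0c10207435829af33823e9d3ea23e95b0c20d680d640d5c0d510d600d550d560d6c,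
  nat_lit 0x1d50b6836e5c6e586e566e556c2b5ffd5cbd82aa1dddabe293849381937d938256665665566c56634edf4edcb36726995fc85fb85fce5fbf43334330b4895fc25056af18505206ab5007500c5049504729e76ef227156efb20ad20a66a9e6ef482f108775ca1158384eab9f3847184e385a7923a8305923c695e6973918985b125f5389b5f9f5d43673c6739ae82673a659f6fe1b62074896ac36ab691146adc948740451bad7ae676bd76ae4f21948e9e579e0b771e8f05481c482b8663bfd3597776fe59c92d516a5c6a5fb96752a7647db95f78b557bf76fd770a660750af95f165d7be5868838f728f79b62ebe5b5dba5daeb44f3b9f236d23645dbc5db0,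
  nat_lit 0x3a483a313a3b3a40b0553a4a3a383a4234514c634c6e4c5c4c5f4c6cb23b4c6664f664eeb53b64e564e264e764f864e80a640a580a550a62035f03710a510a5e4ab64ab3187318e3b0aa3d81b20d488354b3942758411431791b79184042614a4bacaea2517b45e4c155a48864ec35290fad04f93303253133123309330cafa9488b3e13488448944880488f48964886ae792634075d2638263c2629ae36262ebc770da988f98f5029dd29d8563868937c00729e42693219b76e75a5b867725737af166932bf76e476d876db5c15b79ba0647230beccaf4ec04fa066a05d5bcd37ac37a637a82c2537b037a1119fb01383106899830e26be830a83097d2d56f5,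
  nat_lit 0x2cb62ca52cb22cb82cab2ca2167faf11249024922488248a17881799248e248c325fb4475d685d72117d11645d665d6c6c355deab89363e76c2d6c267d70b548a7ff6179987597b39ffb9ff874f4c2545f3eb477b1c65df75f225f2130c35f0f087b13dd13f213e113df13ecacef13e614e014cf14ea14d314d114e4ad0314da68852a77688b689027e927ff5f33b5b92dfc2de9208521a32df62deb2df22ded1526152a151a151e1517152c152215202de02ddcaca62de41b851b7a2dda2dde3ec4250a7fd053ceb9538188818553cd39a954cd10d754e82508251f55814b20419641893bc64194418e41852a6f1b83aa50c36db916a834a874a873b91ac20e,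
  nat_lit 0x36881993367a364b368c36813686aff7725a725e7251725531f3320561b572537c287c137c21b86f23072304229b7c2a11781170116f1180116911661176acc18b01558991e61ae93ed63ed328a491ea3986b041396b2fc139773978397d39805b91153084b57b814b294b2661917b82357aafe13570356d2ad42ad323d73572bdba57e57b6584ed94d994dabdbd84d46874686e686c6872369d3696687860587deb7aaf7dff7807bdc994fe94fb2b8d0ca7491a07bd491fb1dd4922444d491c57c057bc56d51fad57ba57b557c2502b31fe31f7320831f031f53202af9131f95d971d67b4575e025e045dfdafc0b3948e0b7baa74fabc2011a911a6b89084a9,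
  nat_lit 0x731373a8738c28e135f535e373a605b6600eac8624eeb4936002600920c3601040844088407a407e0baf0ba4408000e78f3457a266478f333055305d46377eed4730b1a9472339854726471f4720472c558a39935582557a5586557c3a91557925d73e443e433e523e4e3e3b3e48b0bf11475da80ad55d9f200020135da35d9c34ef22ad34f234f634e834e7116330d877f17ad68f30bc6bb1e2494906eb461712ba12ab12a212acacd712bc12a112b2271b271d27172713216921602719ae8d5357466756f656fa160115fe4d3956f3943d1ca7944077e5421b4218943e42599c49105e440c83eb83d383ce77f39df567058ee7bc5936e53b373b428eea3692,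
  nat_lit 0x44a24491449e44a0449c4492449524c7bb9202218b28104d4bed4bfbbb952d6f5171b2d52e53031b51bb51b851b54c17694269396940151d693e69326934693734e174af74b217ad7333732eb74eb75151721529516b1249515d515a516e29db3e1a3e053e073e0fb0bb3e1c3e093e1695a7958195a28b436cc56cb5959ebde7189dafa6396caf480bef0bda396939708254824cb97d7c4982348231825682520076007a0068006c0063007c0072007024e424e824d924d7120d120224e024de1ee91ef01efd1eed1eee1efb1f001ef7560e55ff56143e51560155fcb35d5608346d078350d5586d05c305b358704d5d7038b6b7702f70347031702a702d4187,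
  nat_lit 0x3e02b0b93dfc3e003df23def3df73df578ce35ccb7e156ed78bb78b878d078c99ffc5b339e8fc0249ead9ea85d8ca0003c6d40b064ad462e5d905d8f6c56077315a4159c159415a2159a158d15a81593395f751a736145d5752075173904b76173017370b70c7374736e736935f173676c9541af711d8b2248df48ec8b248b2119637f705aac7442b23c4c857f767f6d2c7d156b2c7e2c862c762c752c80af0d8ef1309993f26badbee69bb18ec39bb2bce66baa5156bc545990598f437b9156140613fcacf113fb13f613f5140813f9a54bbcc8b63ea865a8fbc2d89702a86890b16f180c8990afbcc790b60cbd097c1405177d6c8272fd645b644c7bc07baf,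
  nat_lit 0x67726765b597270d0c030bfc6774676a105010441046104e102f10221042104a674bba47063742f71ae31ada6748612062fa11c034f162f4b4fb62fc0de95f2b45c32c0e29355983719d71adb6e65f175f74b47f1dcb5d755f275f245b5a5e1b2342234623332337233023392340233e13d55db7691865df97a0979f969965e71d6f24971decae5724a424a3249a249f0905b8557b1175fcb8527ba921e7499420e327a2209527951bf71c0327a0279615892e962abc2e922e8f2e982e8b2e9442b347e947da47eab1bd47f247e047de1cc81cb11a1f1cb9adab1cca1cb71cc01bef1bed1c061bf31bf11c00ad9b1bf4852bbce93de93d1c8ed68ee104d57c6a,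
  nat_lit 0x28d628c728d028d428cc28c928ca22fd0c75189a188ead5118941893188c189e26c0314b076a24cf37783788378637843232322aaf9532293225321e3234322c70c551b765f502fbbf859d7287ca9d6d40f00351b10740e540e340e01eb440ea67835cc017a9677a43834391677eb59988e388e940e950c959c159c77270349b1cc70c15027a1cde1cda1cd11cd21cd81f5b46d246e446d946d446e0b1a146d733635b6b432cb6416c4b6c48b39e642f5e725e705e6db465b40c5b6d5e655e740e9f5d3f5d3c617fb4cb61825d3b3ac78af1be1cc035bc7e9a419a42999498af93509352934c7fe4024d023a93478bcb9f8c6b65837d2ba2c01f9f8e6ccd8436,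
  nat_lit 0x334cafaf333f33463341333c1fdaac0e22712788ae97277e278227852792278119e919cd0dbe19f4ad6f19fe19ee150f616f5ae786fb879e879c879b87a02c4e6064b49f60576060605d605a4a921221a83da83b96afa840a7a9a7a67882c2914e424323b27541ef4e354e2d4e444e33754044710cf95c1d94d694d194d46e5283f17b961fee4d0c90078fe61e51bca30167adcf1e680cad1e611e621e671e533fde10aeb0e9b07033fd34023fd93fda52fc52fa52ff5301b2fb53084d1f53021fc81fb70ddf1fbb1fb91fcaaded1fc43ff43fec3fe13ff23713370e1a8d3fe23b483b3b3b463b413279326e23693b4a10b110c010b410b810a810c210b310bc,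
  nat_lit 0x66f066ed66fa32f166eb66f4b5875d9b9eb17c279e84bfeca184a1811d64c0a1047911f5473c47354342434fb1ab473645fe2f253a13373b45f1460245f845fa0ba12c034af4ac4e4af84aed47434aeb13681364135e1356136213581347136c6ad567556ad66ada3bbf3bd3b60d6ad80b83372b4afb0ad84b004aff43270565061b3b8d6977639b282f2832697822518f038f01bc5d8bc6425142498f065a1922880079227e22862284227b227c2282c249b360b3649c07a729a72487b6a3b3ad1d16261628162c162e161b1624161e07cb66e366de66e4b58566e61731068564d759fab53735bd64cf64d24bf35f074c6bb2d751c92a8751bf51bc51c651cb,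
  nat_lit 0x35794e787ef269003bb03ba96acf938c653952056552b5c968e168de60505ef54b3c4b3a4b30b21d4a454a3b4b334b3e7e79bca558224df77e487e4783fc900d02db26ea26e726f226a426b7ae8026f056485643b363563e4ff54ff2564a02b54a624a57b201172b4a554a524a644a4c4c0653550b32bc758f478f44805d8062a838a836b4c0c28fa7fda7f8b4c4a7bba7b0c1285d07a6b3a7aaa7adb3aca66cb43a667e1b277de5bab6880314f315725806782366ac61418806babb4eef1fc7581b5f1e7167614e14ff14ec805b3f917354735873510c7962cd62c873524bf1730958755ad4737b4c994c887379738845fd0aa035842c85418d418a688d7636,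
  nat_lit 0x153f4d3f4d441d6146c346c04d464d3a5f7c578b352e5d835f7a5f790130313a01820174ab9b016d016a01710184017613b8070313ae13b6ac780db9ac7613a75bd642edb41b5bd1af502f575bd85bcf39c839c339cc1ff72ee32ee0b04939c543124307b13d430106df06d443052985373c2c49373834be373237313734372f5f8a5555b4835f7f5f805f835f8c5e5f39be39b339b539b7b04739c039ae2aaf308208db3079307aaf6d3084307230745d4c4fd35d565d475d4b5d50b4435d4562bd126d72146e19721a72117216720c785fbafd889188fc77cb77c2784b21930eb20ea90ebc0ea20ea70eb6ac8d0eac24d224bf24c124d024ca24c524c824c3,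
  nat_lit 0x67bd9bb475d674e342cf42c09279969b4a154a18b1fb4a134a0e4a0d4a1e4a110d48ab9e0d3e0d400d390d4c0d460d447e62b8c34af378707e5d7e5a38ae13e9ae66371901d50c8d4df44df34deeb26d6dd46dce00676dd2038903786bbf69674ccb03331efe4cdf4cd24ce64cd84ce26ca71dc142bebb9176e676e9716989515bbcb4170e935bba222322175bb35bb568efb5cfb4f03fa968ec68e95f1b5f150700070406f406f806ef070606fc06fa2f5f2f682f5820021b121b0b2f642f614a74b2034a7007c14a6d4a6a4a6621e54e198168573b38361baa1ba535862d9c5bc81e2930d75bc64c534c4e0df524442f974dd9254768f84a834a7a66761d81,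
  nat_lit 0xc03f9f2558b56b47b6d070f370e04b081cf61cfa1cec12f41ce41cfc1ceb1cf299f19977997365ad831b831cbe8f8bfc593a5929b3cb592f592d592551f3592b5711936685a3936fbd5b937493638a11b9a04e65b9a3830346ed46ea5c9c7f920b060b080af80afc0af40b0a0b020b00385a1f991445385736473636384d385449044011b1d948ff1441143a446e48f8591f5a711cbf59a545b945b23d4559995939436a70fc70fe70fa70f5523d03989493b3da80d3b3dca7c7a7c485d994a7a4e6a503bdbea377c0a8a1a59533c1f95c4d5c42055d59ff5c505c4f1dd95c49310130fa3105310e0af60b0d310630ff0917091b090f0911090b090808f30915,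
  nat_lit 0x2011b75b36b374f00cd50ccc686a74ec57ad623f6241b4e3624662456031497f640d6b099434495b3bfb3bf89430ad225e9f382b19cf49006013601d4951437d1660164dad21164b1643163616621652bc31766d11953f818e1c8e118e168e0d665867f967fb67fe6651664e50b9b5a548e84489753e7d79b8957d827d7b7d7e6099609260946096609cb4a543f91a354510450c4503b1734506450945044512518251863215517e5177518851805179182cad47182018281816181d0ed91822a1cfa2b696c3a3bda74ba748714bc22d5edd1e1161e5b4d961e661eb4cac61f0420a4205280d0eab32fb32f6b125420846ae46a8b19d469f469c46a546b413c4,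
  nat_lit 0x9e1a795301e984b087eb87e886d886195526551d54cab33f55185521028151f54ae74ad5b551658f658d658ab00e4fc1641228676416607b640763f91ed0139314681450acf91459145714520843145a56ef5d336656665c665466535545665b9f55b2babc709e4fa721a71a87bba73e4cbc499eb2434caa4cb34cae4cbe4cb74ece4deb4ec3ac6c1395138e4ec40a52111411100fdfacb910fe11050c0f1116367c1a7a4a0014034a0449fb49f94a027fa27fa1110b47ab7f997f906767493e79287925b7f32cdf6611660e792a27313a863a7c3a7e3a84346334543a7a3a8000b000a600a800ba00b600a100acab8d5d981bebb44b5d8a27bb27a60695abf2,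
  nat_lit 0xa745a64996a9a7a29e0d9e06b38e8a09b91e575757392ccb743574384e7f4e97386f3807090d7b4b7b497b5008ad5bc36e877569b769392f756d756475747570a1dd988d41d5a548a546a5459701a5415b7b68eb243b117fb5cd68f05f184e0e2f94ae4e127d2f922f8e2f892a432f858e2106338e248e28439c43ab3aca8e13c259a2eeb43ca6b1c0c8a237b3b6a7b45b7cb40f5b745b782239222e5b735b6f5bcbadba06655b2ab4675e7e40a81e1b5b924da4b4115b885b865b855b945b8ba80ca2d76131a4e4c27ca809b474924131354ac84acf4ad1b2114ada4acc3f37b913809a28a9809e58b358a67f813eea940f33f1bd8983fa940d940ab9bebd86,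
  nat_lit 0x2a5e0a5b2a4b2a53aed92a602a55017b542a5426542254284f5b4f54542c0f893bd13a1e405b4060b0f74068405c405f56c556cc4c0c31fb5621561e56d04dfc19fd3832464c0805465046494656ac1e53580dbd12b1b3075350534f1535535aa24dace0307fbef8a323a3205f879067a73ab2aeb2b09e35a739a73687bc9f617e287e275644b8b233e133dbb8b549e34ebd5556554b55471541153210653b8124fe0fc324f224ec24ea250224fa24f819361028192b1925ad5f1938192819304e774e8219194d3c4e8a4e7d4e80b27dc36faa5296b5a83f9f5f9f58b924a8f9a3c1a75396a5a3e7c228a74780cfc1e48b3b810a8b3c1e132853284480dd209f,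
  nat_lit 0x30015aa55aa756c255cf55ca2a9b44e074135114867680603380337f389f85dd552e553002d3552c4f194f163ae930202a9d2aa72ab02ab82aa22aa92aac2aa50f616a014a434982b26e4e0d594f61fe78e478ac595956d952bf52bc726c585232483240324419fb323b324c323714fd12e112da12dd12ea12cd12be12e612e82fd62fc40a5d12292fd02fcb0f832fc778f278edb7e946da78e678e978f478eb66165cf5660d66145419540d661a660947ae47a647a047ac47a4479b1c354795790012e3640578fe5333532c790278f727102702ae8b26fb26f826ff261827042774466b46734661467ab1974674466cbd9eae929d3e8f2e3c293c1b94435a3a,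
  nat_lit 0x41db14016c396c406c3e6c3d6c446c3b93a893a63511bd716bc86bd586f1b66c6c436c906c8a6c926c8e6c856c966c876c5130b56c99b64b6c9a6ca16c9c48155191738541320bc41861187126419d7c455845512d2b454e4554454b4549454d513428864c7b051b512e5138513251310533731e6c0e4aba730c731bb032731c186a05db18740610185f186ead4d1864413a413441364140413c412d3d63b10f52f052dc52f64a0752e552e2b2f952ea6b446b346b3d6b486b396b4a6b2f1aa94182b1154176417e409b408c417541785adc5885b3fd5ad2522b52365ade5ad7863e43c9863a6015863c8639555b864278e2b7e5270766655320531f520e476f,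
  nat_lit 0x289aaeaf289028962884288d288923db10372a8163db62b453a453a910fdb5135fb33ab91049653a6535653c638d580d865b5449794fbd8abd95942492adbd8e2b0a2b082afc2b042b012afe2b0c1e64448f6458b3a6645e645c644f41e0b5235af2b3ff5af05af45aed5aea5ae55aee63d923f163d4720e53a3539c3ac5bc37a25895351fcd57150923ac2283f62881885b62118b798376380537fb8b7c08f5953d6a6d69b5b572bdd795469085952fc101a33a96a7a33e2e552e443f788a0aa64a982fb152a3a543f3b154b3b29b3781bd8139b946783da0b9a0b6544cc1db080207f407f8080607ef080807fa07fe347e34733486347034773480afcb3475,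
  nat_lit 0x7aa67aa2b8257aa1b7b0778fb7ae5c33312331e54921492e492a4929b16049079ed392c777998c0ea198a1979292a19a02600268026c02700274025b0262025ca1836225bfe29ab5a18aa18924a7b61c1ef8bb0980558942893689394b67893f9e879b8e9e82bea28b828b816e5f582d78604fedb7cd785db6f4720b7862599e0891ae252268226e225c22652260226a04a1b4e9453e53393cba3cb9b142627411f116ec16e016e216d916d616e816e60bed17c159405946b3cd594c593f5945a294ac50ac52bfaec0daa28959bba29804fd050a050c051c051805050510abdb31ea31e231da31e831e031d931ee31d12d7a2d722d702d78106d10562d7e2aeb,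
  nat_lit 0x3a5db5ac43e471f467426747b73d742f03380330032a0336032e0325033c03213ae23adab06721710fc70fbb3ae43ad53562355235563560355c354e2dd6355a604a215b4a2322f75f635f5e604c2df12d3db18345a24294459d459a296645a0438d45d245c445d63d183d2b45da45c7a4dcaf2e3b62948ba4d7a4de973ca4d53002af61ae442fe32ff42ff32ffd0f5335c035b9277619e735b535c2afe735bb9f4a19e38f39befe9f489f47502e9364a3bea3ad953fa2f5a3baa3b9ad94a3b778a8b7dd27ec568b52a352a40fbc704678b678af0373569778b278b154171eab78deb3ce78d578dc52d152cc78e078d7c1e1a65296b2a2d99f679f644e23a650,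
  nat_lit 0x20ce20bf20bdae0320c620c5ad8420d026891ef3661f56a463ab63a64efd4a419f6ba3dc96bac1259c0f9c08adb24ba681726a05816d3ff140474034549907c59c30bf1143b7b05e4f0b4f00698e85e19bd30d15332f82b59bda9bd98b8f94eb51d38f6c8f6828296a866a85455b8f6e005d2dc447f8ad0654a1549bb308549f72090b31b7b977c56049604677d216f34a342d614a2a4a324a2e4a214a3808ab5768b3975767379915ed15dcadd0b07ca42e8f4d7203c0bea425a4209709c13712de573c595a2e13595659534f49595180e66a4eb92380e3510b510880e870a521d72b10439b43a0439643a843a21c3742424235423e1060423a42312ef9079f,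
  nat_lit 0x282b284b28542856134f1342285a2849276b28276b04579e4ccd4cc4b6132a2b1d071d031d0c1d051af41b091d091cf19f5b9f6396b9906f9c1f9c1857218a041b9f88cbbb9d49f3aea4282d80d6648babb7031203140318031c03070310030ab9316a0244ef6660506b506c036952930c0d3b9a3b9c02df3b983b97adfa009123e023dc23d823de02cc02e523e423d3bf709d4e33a3651e2ab32aa0641a7a7d44fa44f144f4450031bd31b044f6b171487c23d4486fb1cd4876487512c9487e2aef2af22a852aed2af82ae92ae72af623e37409b7354c1bae8826f72605740eabaab15d442d4434183f1833442a442fa6a74c01b1fca193a6c7a6c29786c201,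
  nat_lit 0xa7225011b2809e3f9f1b9f164fa7a275a732b29ab39c9bd5a335a332b29ec0d44ebeb2834eb522a14dab4da8376d4eb34ef84ef227354ef64ddb4dd630634ee99efa18fe1d87bfc69f009ef72cb5c0034f062944afdc25774f0c4efb4f04b28ba77eb33ab33ca714c241a780976da713c001b0866a7c9ef09ef29ee996f79eec3c1955010c4b30662fbd2fb443c354fe6b1cae06ba4b63ef6b166b0d865017d16a8118ef33044ddd2a652a6886543d2d2c29abfe313cba4f793579321a2586569efd306d24559e219f0f9f0c2123c009408347cc865e5fd839f939efba516b8f9b0b2a0f4de17b884125411a7d9fbec7a622763569bfbf1ca621a61692a8c1cf,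
  nat_lit 0x8142accab18814f6ac3a0a69b3ae7f6855621eb3b3494ee1555c555f5564333a0a4c0a390a4a0a3d0a460a4102e80a3b0604060005eaabeb05ec05f505f106062925292e29282922291e291dac34292c4fb42d44b29d08874dcb4dc84fb64fac541a5413b31d5410540b5408541c3aef036a03590374035d035b036eabbd03640bba0bb20bac0bb80bb00ba70bbe0ba34f604f5e3c374ef54f5c4f574f644f533abbb2df520a5206abee063fabec02993c33193f05fb03c70fa10f98b2f10ced4eac4ea622063e6113b113a84dbf16cb533a53364214505f5334532f533c2661058e058a058205770586057d057905923f183f0f3f123f0cac0007453f0b3f16,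
  nat_lit 0x80133bf496760b142a9f2a96641588312671528c52965291528952985287528e26861edb2680268405fd05f2267a26753ae1527eb8ff2ed94b504b5980147a78266e26682662266c2666265b267217613af50bc93c38220a268c26a1b08b17455558b347520d554f4e894e7a1945b2dc4f1eb28d10f54f1a4f134f1040d74f1547f181de54e25ff86ac96aca44f32edb0a4f18a118aa09e11354135b18a618a310fb3ac2aee23ac8065b0640050fb0635328b30126ef50b5532553223c31532654f254e524cd15433a273a2d54eeb3370bd00bc10bd80bc305170502ac550bca2bbd431ab13f4319ace61389432443170f420f3e026bac970f320f37ac360f44,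
  nat_lit 0x2abb3c2a52142ebbae762627521752183aae374d3aa63a9d3aa83a983a9f3ab0666f5fc15733666a64c164be6668666d0b280b240b12ac490b180b170b100b2a0dff40aab0ff300609db09d040ac40a51ac8669eb0027743ad6619a3374e54c99c510d4b2f5a900bbfac9dff83bf9e00c0159f5c96aa78539c299c244e04186718ec18f0050818e418e118f218ea18e6bef34f997b5313e29bcb9bc8bbb00921bd9c646d9c7712b99c8c9c8b9439b3ec42450d750f5b77d721a7218e004d228e040203f2abc703eb03e803ef040403f480a2b9152fbf5d116b376b320d6e337340ccb1033c15138140c540be40c140b313871d9218f817671d981d8f1d8dadb8,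
  nat_lit 0x321bb24b4b9242884ce84ceb4cec232771d77e65baf3782488d688d388da05135021b8c9597d1a8b7e6d7e6a7e7a7e7d063a063006340638062e06220625062c80af80aa40fd80ac80b0b919419b667c27e0050727da1e7a27d727e427de27d46b186b0f6b152d15b6176b1a6b133ca402c402ad02be02c202ba02b302b602afabf1064c0650065406580643064a06460fc9b21e4143352c23e823fbb2214b5649f649e949f049f449ee49edaf7649eb4e87674d06534302674f67586752675689074441890497d663f063eb2bf4be2b1d9d246e24622464245f2470245b2468205a2047adf91f3d2044204b205c204e416b63ce53e633e363cb63c263c963d0,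
  nat_lit 0x2adf2adb21d12add2ad92ace2ae12ad01b662dd02dc0af2b2dbe2dc92dc32dd24b724b6a2fab4b704b684b654b762db51c2a4b7e4b784b824b8eb2274b8a4b7a1ff92006200a20051ffe1ffd2008200e220e22122209220d1e951e8e220114822ae5ad82b07f39b83baf3bac3bbc3baa7821b7c24b1831e7376437633e4750ce136b2f262f162c592f182f282f222f202f034cf64cf309a90aab0aa2b246b24940cb428a4d771d9bb25d4d7a43cd108ca3d1c11eb224a6e6a3faa3f96837c209286828642862285f1ca51ca00ab7286c4b754d2f4d204d244d224d344d260c1f4b8678c020fb618c8fdd8fda811649271762175c0823176817541753091fad37,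
  nat_lit 0x9ed06efc9ecb93489ece9ecd92959ed41621602a877375635eff5f00baab69211ba01b96ad931b931b8f1b901ba21261801e4b638019801bb90180208017ad5a28401b9b283a283e28382835135c28316796678d678f240d226d2262678b6794306f0d9906f34dbc21f721f42f784db5792e0059792d2f81740773f67930667b19201916ad5d19131910190f1922191a27272d5d2d5a2d5eaf212d6c2d552d64a2d3a2edad7ea2f6907390628abba2f00faa0f940fa40fa80fa20f9b0f9e070b063d38a638a338b138a838b3b02f38ad1e161e0cadc71e091e021e05066b1df38b4570329272bb9e3440343f23a69276a286811b12fd1ab381c581b68659a284,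
  nat_lit 0x38ce38ca38beb03138c438c338bd38d013a3141f142e0815142c1425142814216b43c016b438a7f29e549e59891d915fb1b4b2512a214d1c252a252713371f7a41684162415f27514166415c41594164c123a3d481cba231add81eeb792091626620893a7e301f65b112416d501b9d7e809452e9468b42558087809680928090643c643e643242d34b854b88643564381db6adbf1daa1db01da41da31da91daca6a84c2a9051c0a6c1f7a6aa96d9a6a29ee0aecc77c79ed69ed99ee297599edc5317baa5baa200d349994996ae1c59fd60a75725baa910b7297c298f87782b5177d129fb94a9779d49d149cc90521bc694b927f988c09d846052604fb19abf8f,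
  nat_lit 0x2dff3f4f591a403e5916590f0f6f3f5f0bbd356a39db1e3fb04f39fe39f139f64aaa11214aa1b20944ff44ec4aa34aac04914345433d43464340434c433b43484067574a4aa54b170f590f4e53d1b38943dc3c4943cf377343c743be18c143d11b501b541b581b5c1b5e1b4d12ee1b4b81308132268f1d7a8129812a812d041555120c5927d913b52a592a4f5516550fa776b32e856cc0fca311a30796fdc23f13bb1e1d1e221e2c1e261e191e2e1e1f286b80e5bb0177bc2761275a47fa23af4d2c890a791d613b81c881c73c41b1468fdf71dd78bf58038fe28fe16a62bc9f2a5d18b8b90b309378fd78f86b412a3f6821b126681d478752105213681b681f,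
  nat_lit 0x1087648d64925dac5d7f5d7c621d30e7b10140b840ba38d2229e22b140b640af87638f432ed07b2f68d168ce1a452c3f5d87617209535ca76175617a61713eaa5ea03fef43ff5ea259b359a85e9a5e9c52735a5a55e85b9cb0d23f1b5b98421121d821d421c7ae1721cc21cb21c821da3b1a453d3f1f3c2017cd17dbb17945413a8b0d673a92afaa2ac92ac03a8eb05d4538452d45291ef4b177453a452545304e034dfe4e004e0842aa42bb4dfa451533783376336bafb33370336f3366337a6a8258490f96244c6a756a7b6a7e3f433dd7732a73223f5d66e966f7732073270a930eed247c1b8917b017c32475248217d417c517de17cb17c917d8ad4117c7,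
  nat_lit 0x5d8433352b5530a05d805d7b30f90fd50c200c180c050c2a0c260c130c1cac5b0f900f84ac9d017f0a450a3e0f920f860b0508a5068d67cd7b7c7b917ba4256d7abe7ac00d0f48c7753675356dc654f764ab7b438b76835abff69ec50d0345b71470146e1478147a147c146b0c95146d1ab92d751b1966815e955ea56686668e228bb67f6e3a6e3e41e541f56e396e376e4d966a6aff966c7a9d7a7738b938b5380b649d64a064a81fdf1fcf30495ac10b2703e1b53e651d1c471c40b54165201bd21bca06b91bd01bce1bc416ad11eb109e10a2107d1093108f10a4109a109401810df60df80e020dea0df30dfaac7f153c1536153815441295128aab9cad0b,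
  nat_lit 0x9d787f87195419414baa4ba587c62679121011fa1207120e120a1205120812014f09b11021b0199b50245019501eb2a93320331b331f20b510f110e4330b3322aba5020c0210021402180201020a0204477f4782477d478847754781477bb1b301f401e601ea01f801e101fa01ec01f044e72ffa476c47724770476b4677b1b11d25512aaf8a298147ce47c950d129a51fe21fdcadef1fd91fd21fd11fe801d1346a3458346434683460345d3456345bb1bb47d447d647d83a0f3a0c47cb47854e160f48405019d34e124e113a1744d11fe77dbeb01898729ec19ebe200d1a9720e420e6125020d220d720e820e020de0c232e7c2e7e2e802e862e852e782e83,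
  nat_lit 0x297333b4ae4033a4074e074d33a900af05a53ba33ba426ad3776377e3ba60d5b060363a555612a2563ac639f294fb50d2a9504242a921c3e260b25f8285caee1926cb23e3f7f04fb926a926987bf653f5370b30b0e5b536e536853675364206f257a2567257425782570256b256e256933e542bc4e395e5b64c264bd56ddb5332ecf353435360957065e067933ec353809c609b909b509bbac2f09c809bd09c001490dee20421bc30987097b374118519b1001c45fd3632b9b0e9b0d7dad9b1216ff08441720170f170d170aad311718098d09941a9c1a8f0d3a0d4fad7d1a940f720f6a0f6c0f7c0f780f670be5ac9b03011340b25b4d6f0bc70bd54d744d6b,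
  nat_lit 0x32ef32f328cf32f523c123cb32f8ac6641a43bb91b571e6d41a0419f4103088b18550ebe23ce1d0f16da16efae4323c40a11026717b417b617a317a017bc17ba5486467db3294e9b548554825488547d15bd237a28f728fc28f528f2290028f0c215bd98812ea337c0f2a303974aa70e1bb95129034d012554d254df54ed4ff1859db99e1859816bb91c80cb921c3d4774980f29b55442017494748c74916e3323c92ba5343d3f080e2b0e1d3f033efd0f753d4e3d4a3d522da32d9b3d563c1c9f5288de15fc9c239f519f4e87b5c013248132ecafa51b5b1849185732e3adf228434ac7b2234b614b5f4b5caf4c4b5a73e55afc50745ae1519a51b18b265199,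
  nat_lit 0x9d819c6754157e2d63cc63c7737644f95396b3113ae75394538d538a539130100e620e4d0e5c0e600e580e510e5404bb043cabcb042e04360422042b042704304e554ffb479950021d831d7c1435acf26604b5615a65660265fb65f865f765fd3d55b55765b553f544ca44bf188165b12db7435e4355435d1c771c70b0ca27c104014226422540a62f0f2f0c4221422c043b3aebb069273902b902b03af6303f3d84598a513d598c0c670c645144b3d728ae289e28a128a3aeb128b0289d044d86c60ac3ba7586c36d036cfe86c865270a940a980a830a8a0a020a1b0a900a8e12f6aee6ad900161b5e969b869b3278d41a73bc341fc218b41fe41fb420241ed,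
  nat_lit 0x1ee61ed81edc1ee41ee01ed31ed41ede361436183603360c3605361a361012d38f6a8f67bc7d2846708e708d4139709144a58835b164883a88388837227806261a38020f1a2d1a281a311a3a1a36195f5127531c531b205754425445404c575402dc02d002d402e002cb02e202c902d83a473a4cb0573a4e24f02505ae5c3a515c2b61b161be3dd561bc61bb61b361b92daf2db202132dbc0589057a0f23af293bbb359d3bc52f4f3bc03bc93bce3bcc0d36ac6f0d280d300d1a0d250d210d2a40feb10940fa1c1740f640f540f2279fa7f5a3dbb528a8049e5f9e5c86606683270f27fa27f227ef27ea27fc27e627f644484446b15f4445443f443c444a107f,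
  nat_lit 0xfca0fb80fb40fc0aca10fcc0fb60fc46b03284cb61562424cd44cdb6b0a33d418c52efa2ef308eb2eec2ef12ef62efea638b12a80dfbfaabdac949547e4a2b1816681352af5441380d580cc357d3f10783f376a3834310d1a4f1a3e12a69c4142b442b842a842b03575356842ad216542cc42c642c8abbe42d042c342cab1379c02b08e008f761f9bd79bd0b6fcbf01bf0f9c268636907b52e152de52b16c0364f5afc69d66646f9d689d6587cd1f7758bbb3e159d659dc59d259cf59d056bc237f235302220e5f10d310ca2384049d1df74ffcb89f23617db97db67c0f65d53136312caf7f283d3126312b313831293e41ae68b8997b7671e371f17d9a7d93,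
  nat_lit 0x98762b4437d7be4d95cb95c674f333ea49b449aa0b1f126749b049a949ae49ad49d42edf49ce22df49d249c949d849cb49e4337d3a37b1f549dc49df2b0249e61a1cad731a1a1a2015d515c81a131a18a232a22e5d23a2008efe8efd5fe9915b0cff44607b66b12e1f811f7cb84b6e93274a274427462752274e273f19f1ae91432e3e3f431d81e481e281e15f4fb96b01db09cc33e833eeafbf33f633e733f228e60a9728dd28e2187b188728db28e44e0bb37d49e1571e47ef47e32af0571d330165aa51d41b733eff3f0165ae65a933b13ca83cac0439315631503ca60d0b22aa22ae22a3229d002d003f092d22a640a0b0fd4098409c4092408f40974095,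
  nat_lit 0x379b622d6234623838653862ac461a5a1fbc40075e1761c5b4d561ca11af507f09187bb4b8506f8fb8577bbe7bad6d8742fab13b42eb003142f142ee0b5742f2a235c252b3a2a1fd5fbc5fbb5f777838b7cb784c783b7850785478454963312f7de87de214937de61461144e7dec39a537173810b01d171501d301cc198717b997c583d87ae390757d977d98896497ca81da77d544191fc37ae97aea81d681dc20b620a520b2209920ae20a920aa09352a1eaed32a1a2a222a132a1619e02a1c5e483e575e445e3d5c355c2e5e4236f10692abf50686068e067a0683067f06882988298a297e06bd297a298c298629825542b343553627995532553b553906c1,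
  nat_lit 0x2a41565a5535085d09a109986679b5717de1b9c3013d83e02563255566a34d9922d622c1b01b380137ff37f8081b37f6904e271e904d885990499046bcb51717169e169516a41699169716a0ad27169a6136b4bf132f613257b957b25efa2e8c24594dd51b364ddeaf542f83af524dd1acfa0c9b1f841f8616b316aa1f7e1879881b88ad1e6bbca09c479c44aece1f8b109d64836486055124a924985c3fafd41acb1ac009f11abd1abe1acd1ad01ac756aa569c566b56a3aed42a39b36f20c9aed72a442a4618d709c309b11aa52a3d77df7dd13812b8a71a831a75650e7dd74b100b7f0d8911bb1aab1aa04a2943f159b93ab7011f0afb60216024b495601a,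
  nat_lit 0xf62ac990f540f5c0f460f510f4d0f565460b32526ab545c5452545754553e8b1aff31cb123831cf31c731d2af8d2180bf023555948d97c76a9a6aaab340450b2fec2fe12fd823222fdf2fdc2fe82fe647d1544eb323544b358f358354500b1d2feb56c14c2856b8b37f572656bf1d21613e6138b4bc613c5d295d16585b1c7536b7b4235c223deb07ba07d35c275c2526a926b20fb326a726a326b426aeae385043b38149b340bd5549554c56b7afc2bcb8c12796ada1af88b188b4895d4acb106b4d4f43f5402d09f509e4198aab8e56cb6667666242815541553e4a4e50d34c184c104c144c1c4c024c0b4c0eb2331f6f1f5f1f711f661f621f611f721f6b,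
  nat_lit 0x9e3800a33e5f365abfba9e25779238510c560c5a060c06f7005700480c520c50384a16c138463848ac440af33844384108a2ad2f16f7170216f916f107fd16e51486201c61ddb18c07f0080b37d564c59f07ad88534b87e6c0079f14685678474824482642a54337481b48284820481e90773aad59af907c368b367e896777b76bfab4d2b63305225ae95ae364516bf3584639d904f3584218b618c7583d584429e429d029e2230b29de29ce29d729d52a782a622a700db12a742a6b2a6c2a67668d4d63ab987ab1b7c878410b397dee081f1ff330373046304430353040303b9bdf41bd6c1e366f9e3c9e3b8fee7bb33e933edf0ecfb948adac1ce382f76201,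
  nat_lit 0x813e12c43bf61613538e5389b9354222a3d8a74081bfa23f9e539e50b2c4b2c64b484b464b40479033113306339b0819ae13219c1d1b219821a421911b6b21949c0c43ea9484beec5607560455d59c0a4e244e1d1af9213b4e1a4e26b2734e2080f24e07aeea2d0b4076408b67504faa56475731573438c04fb34fb0b385330fa3d2a3fe35e1c12d1f07adda479f783780a880a42fd3613535c935df5a9b2e7a5622b35f20b120db5618561b561c3c67482355fb596a74411c261c2e74467444210220f320fc210020f820ee20f120dd55d2b357b06455d0536c536b043f55c9b6f171da71de71d871e071d555e7697428595107b2c1510050f750ea47690203,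
  nat_lit 0x42f9b2632f914dac4da74da2203b2051498e49904985302620532048498a49880bea0a150be20bf40bf00bdd0be6ac573b3e82fc6ca883005cd15cc630a96ff725abb4265ec25ec85c585c6f5ec4b46f568cb36b29e1568850b350b05683506fadc514d71dfc1de31e001df11df81df405a604b50598059c059405aa05a205a02abfabae07872acc1a5e1a6f2ac6aee55ff24fff2ecb5ff05fee5feb380e3b2b334bbd73bd6e93aabb888b1986f416af44cd44d644d544dc1825181a23c7b16d3c23b2ed528019b93c2d3c35527a52822b3b58be64cb6bd96290629351a358192879286f287d27572870287b287e2875036dadb027650dcf277a276e2778ae95,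
  nat_lit 0x289ac5818301838ad491842182f183c1d261d281d1c1d1e1d151d2a1d131d2241b8ac6241a941acb11b41ba11db41b234a03496afcd348d3488349334a23498bdf70942ad3895d26e156e0aae542a0b0b800b7c0b740b680b780b6f0b700b845873299b73e024f5b3c458f973d758f10286027c027e028c028a02770282abad22a95c925c8f34ad5c8d5c9401ef5c8a04fe04eeabd904e504e604eb050004f0652f5202b543652a652265256532539a5fb4acb65fa2b4875fb15fa831b55fb6382e0b50b01f382538193816255b3826bfb39e0396b7be2689338930532bbf064cc34cc61ed74cd0193d19492107b245bf0b9c1c96a088b285748571855b9c17,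
  nat_lit 0x57744a31b399576f1685167a25353e96615a615c03a561535857585029d26158c218b39ab2a49e17a32da32ab2a6a1b31496148e148b147e14941489148c0be957ae5764b3a1579c579957a757b0579a36443640363d364c3648363916d5aff11f6c7e2bb8b73519274327407e2e31bb26f53388afb533850e570e4e0faf338a09fa09f609ee08a709f209e709e809fe43b8422943b1ac32b14f43ba43ac0a8d24fd4b554f025f67b58e673f67413fe624b824bc24ae11e404c804e324b424b258cd0f3d0a075a002e692e665a040f71921a51f823cdb94467876784bd215b967f8c3a7770e703357f857f7e5ad04c212e721cd516df2e702e6a2e632e762e61,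
  nat_lit 0xa3cea3c380a1a3cca3caa3c968469560a71c4fc7b276bfc2a719a7164ed3a25744fd270bbdb594bb8769876640de94bc5830ac3842af01d945f2460558262231569a44162e075698504f504a4a7713139f05ae1a0dad9e299f089f036859c00556b056b456ad1d71430f43083fe92081bfb764b914e9ac169e189e15884e94ee9bcc1749795b84b99bc59bc0620259273770203337683774ab96014b376eb00d1ab61aae1aa61ab41aac1aa31aba1a9f43e03395403c43e743df43ed39e543e961e166dcb65fb3c26d4d6d4a6d526d4821ba21ab21af1a9021a821b521b8ae1540400f8d57510143354335401b7f599c098eac2b098208ff0977097809810984,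
  nat_lit 0x5ef15ee8137b5eee5ef6b4734e475ee35d021ab121fb5d085d0a5d011ead05815ef2618e1d976194619261874ff9b4cd1b43252025222532252e252d0153252918413b94151965e065d865db072cb55da331acf4adc89be5a317a31287c0c0ff9f19b264b268bfb8a24ba244b26ac21713a0138b139a139e139613910da4138d199e19900989199c1998198d198e19964d894d796b1e60e647a3479c642d33aa54bc40f8b3314dcd54b654b94813aec20d960d9a0d8a0d8c0159014e0d920d904457445c174744554453444eb02400350164015c01560162015a01510168014d09e2ac3109d609de09ca09d309cf09d81e9d6d6a2cf56cf56d696d6c2ee8b662,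
  nat_lit 0xc0caa3a25e98a27397c997c060678a004415441d44204426ab94012d441bb15b20b95651477910855791578e57924e2e160c160416061614161015f91608ad1b50b6b2b950ab1099b2aa503550ac50a92172ae0f215c216e21592163215f21665f4a4eed1c495f485bc55bc0b0603ccd5044b2ad5038503e4eb94eb6503aade05f5a575fb47b5d955bd55bd22cf0afda5f9aaf42255f5f985f965f915f9c012e0d951e361e381e401e3c1e311e321e3514ad2e092e0c2e14161716182e0eaf31605426ed3f9bb49d5fa65fab4df9b0de20cd31af31b631b831be31b331c431ac09ab4fd5575d11d7155e15714d59576041292c7a39cb83ef9c4f9c4a83ba9c52,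
  nat_lit 0x5edeb1f6b4715ed05ed55ecb5ee05ed30db40da60daa0db20dae0da00d9e09d51334015f130d1332132c132708c113230db72e174b1cb3055348534753435340576b77cd87766237777877771e9f2ac5bf1a78192182311c9dfb9df8272394f540574872b38b48695749b386574d574e5d125d0c122749354a5f4a4aabfc4a504b2a06d0b21b4b1b4b254b224b2c2a9961474a0a1c1561426148b4c34ea130fc19d619c219c419caad6b19d819bf181f1b401b381b3c1b481b461b331b1dad8b2eb12211197f2ebc2eb82eb32a09af4177ae77a777a577ac77aa77a94fd65e401c4eada11c441c4a127b127009911c3d09acac2d099e09a60992099b099709a2,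
  nat_lit 0x1e158812bac36d3d7da17d9c1283b4c8a23994af81d9a2409bbd9bb86074513e4a1d2d8083bd61998822bac7881e619621974038403b3814b0f340482dcb247b30ccaf7530ca30c401b101a830c930c761a071eb71f271e471ed71e6b6f3283719a1ad7b1a7e1a881a781a771a7d1a8088b977e11a4b091225d925ce61e897db2f77131b2f732f752f7e2f6e2f71099d122f218521fc148021f821efacde21f3a318accc2f7d9e47c0f7a31a5f57a3141e83add31e961e9a1e8a1e911e8d1e9861265686611f6123603c60372d9361242f5212862f482f502f4c2f422f452f4a78499057906c907090689065896c8a0343ca03fdb1513ab321bf21b21b5332e0,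
  nat_lit 0xce3178a178e179417871796179017922eb703bf2ecc2b4b2ec82ec101df2ebf4e524e4c03c114d91e251e2013a511cb1a85ad642551177f256425521f7525580de6ac7d00c50de00dd20dd90dd70ddc7dfcac6861cc165d6d986d97176e59435065564d494500974ea54ea2572e18a53c0002f13bfc3bee3bf33bf03bfeb0851c4d272c2ea734372540253d1a993438500557834d1b33262451244e190557871d8b244b245601f72452244624490a2d160f877a48337b58578d578887b20a43585968e4b5cb585c08cb08bc68e637f460a82fef609e60a349c349ba60a160a41bff1d681d6c1d721d551d521d6a15974cf44f42535e533f47f447f7535d2904,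
  nat_lit 0x2b3c2b2818892b402b2d2b422b342b386c050e9b5eedbf0597dd97d85652757661a3619ab218619e61a6b4cf61a42861b15743fa43fc44002cba2cc430592b734a9a4632b20727c84a954a904a9c0fbeb7fa44a9795d74a679647963795e75bf424f25cc2bb1433843344329432ab1414fc44fc84fb800b918fc190db236ad54647050feb527646bb524646954bb2a18196019561958196a19661951195cad631c2d1c1e1c311c241c38ad9f1c321c2245ec322745e645ea45dd45de45ee34f90e6510e710e910f810f210ed04ed10ebb0893c24267f30573af13aec3c1f3c1111b411aa11ac11bc11b811a111b0acc544b436abb169349f44ad44aa44b644ae,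
  nat_lit 0x6ff1ea11eb01ea3130a1321add51ea80515061c0612060a0608061e061806144e4142dbb2a34e3c2d102d234ff64fef309608cd30903094308e3086308909b658a0588c58955897b3bd58a2b3b82fe501460136013a0144014001330134013e2298ae292292229400be00d91454115513191510150a14b814af149a0dc5151208d208c2ac1d08bb08b808bf08d408c4081c080c08240811080f0820ac110816581c581e581558131ea71eaf4c133a5258ca20733f0558c858c458c358ce58bd19d5383e383021e02139212d383a2bc915082e1b2e192e262e112e032e20af33be257dd883cc7bb73e4d3e3877b261ed50624cb403db50604ef14eea50664cee,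
  nat_lit 0x447934c9248657e657e257db57e057d91e4339d1b04b0cc32189217639d639d3580557fe246148e5580eb3ab578548f603c933562a2e33491b451b30478a478f5f0a5f0c335f5ef95efc5f035f083a3c1db5424c0d2f425642524246424bb12d09fd2a3a371017052a002a022e9c23bc7da2b89b7da5778bb6666d7fb664238371ef782641214480baff890288ff89007db078597dafb89d7da97da6253e7db45ffe4eafb49134eb5ff45ffb60002ec36bf9116db6556cfa14bb14cb6af46cfd44b35c20b63b34786c246c29447d1fd57e3872687e3a22754e3b4e36b8bb0f9d311931170c9c311b310931023120311e217a2ee62232202519d119c7af442eea,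
  nat_lit 0x4fa421104f9d4f934db94db64f9e2eee19092f67af6b0cfd1223121c307014c12facaf592ef41b292fa52f9c2fa12fa6421e4213417d421c04330428354d42172fc2af5b18bd21ff2faf2fb703f12fba28ad1cf9aeb328b628b428bd05d228b9791e69b0b32c1331323c3239b2ee0a795f4d4ea9b4625e475e7d5e7609eb68cd3c163c0918dc190b2fcf2fc83c0d3c0bc0eba2d496b0c0d278577842b2a09d9b55535758b3911bf94d404d3656171cb503ca03a303b203bcabc303cc03b403c203e5494249414946478d4792493c2fa219bb4834482fb1c52203221548312fb9273aae8f273227361e781e891231272f7e767e73582925617e597e54b8c77e74,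
  nat_lit 0x2297b42d5c7f5c845c7c5c835c8134051b2fad8608df612e569556902e1f3d70035531c1133b4606573e57455746af46ad8c43a7b5e7223daee82afb69aa0ca30a6718bb18be08cf18b518b218b118c21b741b701b6e1b6c1b601b691b650cd108e9131c130e13101308131e131613141d8814f41d77093b1d841d7f1d741d7908d108dc08e008ec08d908d608e208e61cab2755276627682762275d275e274952d640ef3c2752d452d252cb52da03f91304130212f0acdd12fa12f912f213064054404fb0f54053034f033e405836da4126b00639ce411741224119411c355040744063ad8e2ee44070406b0ba9226780d944df1d0b442580e080db7ef044c0,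
  nat_lit 0x1503b3b55854584f2e252e1c56f0584d50325030502924a042f542e8381f1cce1e6f2179217c217eae11218c217521865f5956b3b5c55e0f5b8f5b80497d2eb51504150014f0ad0514fa14f914ee150601dcaba101c701d601c201cf01cb01c95307b2fd530c5312530e530b273d53111b2c1b1f08c71b2a1b241b21150d0c7144e844e444e3b16f1d161d2d277244eab92047664b14440380ed80ea6acd292b52aeb2f3338d504152ab52a0529d52a933173ace3acc3ad03ac13abeae9e14dd2226221d221a221eae1f2228221922203c034d68bf75abc44b4f4b4c43ef942988158816bac107b3530552f81c515e182225ae212236223a222d222a22350ddb,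
  nat_lit 0x1d115318aea8531531c931d5b080b2ff143318fb190018f6132b132419021906122c12191216122a1224121f08e5121b1b771b791b801b8a1b861b7d1b8cad3a1a9b2a0c2a0429ff0b7b0b6c2a062a10]
theorem W0_c : blocks (rows 12 5 17 29 4095 131071 536870911 16 65535 128 A 25348 3125 cols 16) 16 JW0 0 = true := by decide +kernel
theorem W0 : On (Row.{u} r44 LW par A 25348 3125 cols) 0 3136 :=
  rows_of_blocks hpar (by decide) hcols W0_c (by decide +kernel)
theorem idx : Idx.{u} r44 [[0], [2], [4], [20], [22], [24], [26], [28]] [[0], [2]] 3125 :=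
  idx_of_cert hpar hR (K := K) (by decide +kernel) (T := 3395) (T' := 3456) (by decide) D0
    (subs := [1,3]) (by decide +kernel) (T1 := 3396) (by decide) (N := 25348) (On.trans S0 S1)
    (by decide) (n' := 3136) (by decide) W0 (by decide +kernel) (by decide +kernel)
end T1
namespace T2
noncomputable def A_0 : List (ℕ) := [nat_lit 0x1ed9806b214860af0579c0131998811608b243fd16a200497a11a3fd16b26049056840490249a01e0aa1612a01118004099046883441813c348942615bea6508333820de06c845082841857013084510288186870542612a095181250598842e0a12402023e2042e330240d815a1842e217024351f0a406b21a820772182612d217a00775a8a624e3492067e43a1813133e9424e152a004533f242a01fc9806e5129829f150140433861832607684019194a605308ea40531e39e3fd1931c053037263fd00c9c003078081290b41c08307c883fd1fea012f03b0601d0c12008409482046022a400600e9a03c0ac961252b81613c0548212f12f2609f3439812f092a612b33d267c606e2001712f947c609e0403c01e2401704f8a01200b9404606f1801e09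58401e0231800d153260433e31810e42f9412d096a606b087200830979408300f2600303ba000d0418e084006a60010422400c006240010029200118d04366059063661b3200601a004093046104a60e00ea3851d024d151b844d12538e4a551d901c22530638551c0e33f0e10409419f844a5252864ac2688638f0498e4d22690632060b0438f18a8e4ac6749049f1900e08e5a9904b11c78e08d255844ac0468249e24f024a4609043852588208e252103851c28605f2560449f24f8408e04a0608e0470609202b0e00904890060136842511f68e09e1d5102c61290e0481288440b13a824fd0cb843a62d00e30a204903a90670e29f0cf900431d30e25005b022ab13c0e3d6068102ff1560e04e05e903001558e0442a5844962698e4fc26a900d824b8e3e3259100a624b0e44427e040d8222142a8154023d6185043a91280404f01d840a704f042c61538a0780380e00a1ec82270038823d805a8427903c0200b03c8207505f042701380e07501f040aa05104014055100201b38e05a0dd900520490202c02f84066030040090161000900a0e00301f9000600a8e0042770e54732e9030727e8240b2058e2c62b0022711388e4391800c29f1d28e29e031903a814f96048024022c617f843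d60988a5472a39429e183a004e1eb183a81d4a21381631a080027a200709c180a7053a043921c980d81d4200a60531a13709ba001f0271a00a0038201300f8402018c0e052029020081b40e06614f0a06b1ec0e06b0358200a13c8e0800508e01205590013009180060049c066029820660330802002d1c0081f18a06c1271807506c220440221800b005a0080036020800400602003aa000a00994003010040060020c0010219800a0030400300408003005060030018a0010458e00e0079000204c8249b26c8e09711c9009c24e0e08a04c1001124d8e0890080209704d0409b11f0e09c26d1009704e1a0110088408a0451409704ba209b04d94089044a200e007020020011200000090000,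
  nat_lit 0x163a682d400a06df08b9a7fe40024aee36f9a330294a660a0651460a3089a7475771a3653052282d0c5264574169c4222289a4573771c0e93701a112181222cb16596b1458a1e31a11c146f05a19a429654a04223781a114074a42d43769c713643942ce3899a0ee16726f4b7a59a10637504ac521114305672a06da1829a42017b047f236d1a0f01b18477817294778083243c72d626f447a50266d7a4a4f487a41c3227a38af460808646e237263207a3065327a2a0320191140532991ef447a20267c07b9405b33e247e6336942a321ea680e55c98ac53bc1c429610266925c494b50151a22841420473c18c980525bc1c25d12e987142c994116655a45925d520a445b20635312aa08a45b1865922c9247ee3daa410b19f0411538a0874d3a6a61ea322260d30699663e3d8a41ea0f5063e41cb20a5739b060f431f20a1f40c8631c5af2625412a06373206a07ed06a06245325a68a450f987461210604152ba4a443a3080f63f6a691c48e067f44522627e13f06058522083301fe2006e0778610d07726715086863305d4887c53e2a631c1f2207150859e31c38aa65882db9411518e267ee1fa183db2b0a64e0270187ec3f7141141faa60b12c4083330d21e0b10582658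a405849912c51e0b35229642e5d1045972ca82114553045bf4b39e3be1df081412cba645822c144520a0a20202dfa23122290616d0b6a43660bd2010a4c89c3661cb829553d7a610a1fd8439b1990639b1cd8a38f0850201b1b6243737a1a44ed2759c1122ca2480e2731c5234ef184ed3f920331562a64ed22ba03654aa9a8cf20f263732729a28714120373020242871431c41d02da00081b9967fe1b71abc01b2a40f639e1c0f45e0248cf13e166001982674c30026bee3b49857d3c3269595fd9c7be2bea67473a61abee07b1c0193a39aecc1d61c3f24aca2ecc47c227383df263f21f9220af6a1a635e6171635e1af2256c2cc863fd058943fd1b6a405a586a27fe3ff224ed2769c3173681abe020fa007320ea4bc15a824dc8143a0bdc5f01cdc85f7a6bdc1479c0415f72674a7661c57b75f9474a3a51c353467a2bdc5ee1cbc14072066c3361c0da1b51805a1ac2428002c180081a9a60f4197a2c1f5991c3f9148266dc0209805d07a260da39c1857f2bda656c06d180f91492628036e1871e60fa67e65e91c692291a07e618b9c7f43e42010e189820a80920201d05a1e57f398a03fd2bf940f9175a631a07e8676e3b72631518f8216838e9c0f018908853429a01823fa2411408aa001d02e9c00c07d24054089140733f31c67e5e0984206e41cb5132f1877523d208d73ba9c47c2162042046b9c42f38f264203cf203331989c116210201680399c00a02f241681401c125122983332b61c0ad1958811402a1c12f00d9410e08a244293f6184354d1a43db,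
  nat_lit 0x2d51ca915ec88f0d786a09ea7ab06ebf5f8206bd3629473c54884e8a41e20ebf0f80680e5451c9545719e324476a2abf5b6a4829414965235b7988536d60444d226a6d445d3a63e32a7a00a96e8a4d4433084d446a21a38d1f40410e40ba0853159067fc15b2059708d1e7be2cda60b276b027f46e3844521761a3801f3206ed2ba9a0b14fa26c8721b1eb142188407623ea042f0a1863c31e1a47741e79a9ed1ff0c9ed5a6249af4d79e65a3d616c0c23a227746060665a4f6a21a21509604332d2015956b1a3e32a5160a60502451b1329803d3260c5773281a8792bb9613d0570404a0250415f12d8e03c039100d90af9815443e9487943c8215409e9a02001e9600607304512289040ad2838415a0ad040230ad90640320060d70e80e0d206b900170119a0040999601f319040d2069040170a91469128d960a93458e0df0721001806f9403c00c240490759a01d37d981595f6a4551147221592a8a21540ac18027013a20042ed9ea3f51fa03262e288323190a0cab7aa943232129ab833fe267743d3043bf41404a991de841a251a1e82c0df087741cd1ad6e22a86169416204292438663c0b4a09574ab8679e1c68a10b0f5a4030018201ea0f2860d506aa40ad3289eb9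455e1670d6129670e4f6165d25c18625f302202a254c9c27c6b724bff33b1c66c4f514bd75ea26b723c71c6000d1263bf3ab265d21920666d7aa2270d387067e62e922c0315aa6c446019c9de5e8262835c2205702b71ec44141a0bcf4049c9b31919abcf3ba1c95514d1c28f5e788b475a3985d83fc06bdc0fa26400200061002ec204a73bb943156aaa4b725ff9c74a15108a30518244e638686b945e69c4e662226b944761443d798a4e8a7451aeda4798295468a26eda55f04eda76d1ef25792a6b575ab8267d44126bd85ec022866ad9eaa62761892665d9e4e72b91c6a6572166ca3530a307756146ca3651885f187949414a098d9664f9c9a33db24d963eb9c29e6fd14d966cb1c3e11eea48614309c12d274084e4123a27b1164a03c76399ec202d91e67e2a4a06675290263c5dc04665332983af27b9e66714a9e6871d79839d084a23c71cea23263f1145ac549823261baa671e4d99474610426abf5b90679b3cd9cbee1df980667a98af527a914a444d0243155eb9463e7a8a6f507a81427e142a6abd55e9425561fa66bd55f868cf6dc2276e7a79af4e7a71464b35e983157a6a679e31e248e11c01c592176a6778036822381f6261001bf1a2380b2a633438d9c3342109a9b81c19a71619a1c75e3b69ab143af041000802077818e826a0070a42cb35024b1438b2431a16f140fa025a62eb173a04bb3c59482d635269b84dc14926273a08014931cca97a614ce52721c31f274a00f70c0a40524709e16718f2032b5ca1467c4aa20ecc0b3944eb25da0611,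
  nat_lit 0x24d080897c0060897bf88f7e251920977bf1200e0440800e0438600e487861570aba665a43a8491248904b5d5ae98b5767782b4b72a96abe5a5a0a712801483c7308aef75faa0bd777b9466c6641cae846f226da5741a32079b049474a39a5970b19a0274a3068d70e4168d74d622254144142e51b21e7ed5799641f79e2086c66016cca5739838f4a22486c4361a339152166411461e2a546f9cb835e7268884441cabc68e9c6d0525861f320d1c9a92008610133c063914d49c8bd45e846ea20c04db86dd825910a01c7e22c89411219a88121090a64781f8a031c0f70405d7be90f7c7be08f7a7bd9005d093a4f7a7bd0ef657bca60aa7bc18f777bb82f767bb14f717ba8c0157ba20f737b9a4f727b920f697b882f6f7b81a0a17b7a60a17b702f667b69af647b616f657b5a4f667b51c0567b4a00717b402f677b3980a17b302f637b2a60ab7b21af637b1a603f7b11803f7b0a4f5d7b0240b57afa2f5e7af06f5d7ae922dd52c2259b0f4962dd19d8812209f1c02023c1c828083a07a63d39e45646e203fc38b8631e5901431e377844ec18d86c800f9a00311f59406d3de82b145d62239a1e09c2111aaa0ae217c1ac306180aac94579c13c3431e689344967a83c626a7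63349e9af69d88a7653b1c56a6b5066913852656a2b5060ad0f62074d53a261e60f3202625399a1eb1ad843755fba67a926d884e041026370131243701b8027a93d48810a58e109b33d50e10a5e59059245a8ec8015c84b63086220ef3df861160be1c7af16ea29ab4d59c185298945c42e2061850b71605b02aa41707ae1c63c65b9e4bb17526b0a585222eb46118c2b3aaa0c2b615827361c9867383d420b64346943537861c6505c01832f42f1e86b43598d6e2a19c53a29d18bc00521c0122aa88d646b2047384f88cdb729e182ae75388db76db9a9514a8841690b31694f4a7a2dd2683824e44b5067be5b38e79e7ad8e86142e107be7ad029a54d2945882282426c22398d6947924b10588185d41361433e1ea1e7b056696c80640067b02ea0433e3d8065d86b4847142e6245d805f864ea27504c1f1c89c46e2369c47d6359e4316e902a4457124aca7aca4f58178842a5613842a660d8467a60d047c67ac24c165651a285564867693b42236a319a4a71538968ae45702cca6651a41f60c26d4c6a61a853224a40791f722d431f9a606d3a7060f73db9c5970c2960730b82402403da212f0121e16d0b88845622b241220c6a411b0912401c091940810412047d158a604406e942b000e2200308d9e3205e1242ae158220451571846e040a047c0c58605b4dba69cc4e620b1f58f863397ab9633919c9671e3208424731214380108a236e1be0611d0fa9411d4c99c4e42ac9a70d4da1c7781ba2441f44688ced676a436c3a8244eb0f906809018a01f405b9a5aa,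
  nat_lit 0x28240070269e0070261c0077d3920070238600709d2601f09ca401f09b1e01f09a9c01f09a1201f0980601f60e9a31825b9831810a1205218b0a0520c4880525162036851c9c3686928c3680ce883683ea2429e60aa229e5632029e4f91e29e60a1a29e36e9829e6099229e2d1223d8318a03d80609e3d82f89c3d81a41a3d82e7983d8670923d81f02206b1efa006b1ef1e06b1ee1a06b1ed1206b1eb8806b28f9e2795d21c2792338c2792fb0a2794ed062791351e0a128f1c0a17d3120a128e8c0a128e0a0a10dd060a12ada20ab2b19e0ab2b11c0ab1a39a0ab2af180ab7d2920ab0529e0120519201204e8601203526009034a400903422009033a00090329a009032180097d2120097d18c0090308a009193a00531929a0530fc120531e1240661aa200661e01a0661940a0661b59a05a1b49205a66e223e32c0203e34c49e3e35891c3e337a923e331a9e24e5a79224e2b28624e32f9e0d87d1120d832e0c0d832d8a0d81579e044156920441550a0441548604403f9e00b03f1c00b03e9200b03e0c00b03d0600b1f4a606c1f3a206c160a006c7d09e06c1f29a06c17d9206c23d9e0801a09208023c8c08023b860802169e075215920752150c0752140607505612013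09f9e02009d92020014a600401424004013200040129e004010920047d0120430211e00601d0600602e2200802c9a00802b9200803a1e00a7cf9200a0378c00a00d1e00300b120032512608b250a408b2502208b1022008b0311208b0e18c08b1a18a08b0ea0808b24a0608b04b2600f04aa400f0481a00f0479800f11f92099551264d96c0244d921da24d9079204d94399c4d95911a4d95ac124d97170c4d97168a4d9715884d952fa6239551a423958ba223907f2023953a9e2397cf1c23958b1a23958a9823901c122391ce0c2393180a23912ba649c483a449c12ca249c0b5a049c7ce9e49c2219c49c0b79a49c6c19849c3251249c4bc0c49c7ce0a49c7cd8849c7cd0649c271a609827124098270a20987cca00987cc1e09826f9c09826f1a09826e9809811d1209826e0c0987cb8a0987cb2649b7caa449b0822249b167a049b1f11e49b7ca1c49b6a91a49b7c99849b6681249b1830c49b7c90a49b6638849b7c88649b7c82623e578a423e7c7a223e7c72023e0c19e23e5481c23e58f1a23e58e9823e01c9223e7c68c23e7c60a23e560264da6ae244da078a24da648204da27d9e4da7c59c4da50a1a4da627984da718924da7180c4da7178a4da716084da7c5064da4e6a236852aa64ab4bea64b106886608304221c22551c08c268144a325812e077c49e4937c404f85257a249d24c22e077039ca2270420a2224c8808a24994f867c382f847c308e067c2a0f847c2060977030249a5110449a26b9c4d826c0809b7c18609b7c1204a37c0a6f7f24e92089,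
  nat_lit 0x16860702071c0712060a07111b060711a8220b52d1a00b51c21c0b52d09a0b57dd120b50962607822124078220a20787dca007821f9e07821f1c07821e180787dc1207821d0807822526079124a20792242007922318079222920792e8a20be2e8200be2d2180be3169e2705588c2703008a27011a862701379e03e1371c03e1358c03e0d58603e2909e0a22900c0a2278860a22afa20aa2ae9e0aa2ae1c0aa2ad180aa4dca23674e0a036754e9e36723b123676910c3673030a3670d6883672621a1bb511981bb267a00922631a09225e180921c72605f08ca405f1c62005f1c59e05f1c51c05f1c49a05f1c41805f0e21205f1c38c05f1c30a05f08e240601ca1a0600ff920601c90c0601c808060064a202c0e09c02c0df9802c0de8c02c0de0a02c05e2001405d9e0147db9c01405c9a01405c1801413b9e03f13b1c03f13a1203f1398c03f1390a03f1220603f062a2015062200150619e0150611c0157db1a0157da98015266924ee7da224fd7d99e4fd0601c4fd2db1a4fd7d9184fd235124fd4c0084fd5261e40b2331c40b1bd9240b3c00c40b2f48a40b0e68640b09422560310205602e71e5607d89c5603161a56021a185603bd925607d81e2717d79c2711ca92271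4240c2712078a2710d6062712cf263005b824300498a2300520203005f99e3006501c30066d9a3005d29830066d12300550a23a52f6203a52301e3a57d71c3a53159a3a505d183a5203123a51d59e0631a31c0637d6920631d38c0630a58a0630158606360ca229f3591e29f7d61a29f7d59229f16826048166a00481661e0481651a04816412048430262ff630222ff645202ff5391e2ff66c9c2ff66c1a2ff39f982ff30a922ff395a6131420241313962213143c2013143b9e13143b1c1317d512131758265476d224547757a254768ba05477571e5477569c5477d49a5475fe92547350a63076541c3074e9923076590c30737d0630721c263d66c6243d660b9e3d66c59c3d66c5123d66c48c3d63528a3d6503063d615ba63a9449a43a96ba9e3a96ba1c3a9220123a91968c3a969a0a3a90d9063a9624262c6159a42c61701e2c65f61c2c6636922c64a50c2c637c8a2c6170862c6188a604f1882404f7d41e04f1871c04f1869204f1860c04f1858a04f0d18604f4502613844fa41380881e13844f1c13844e9213844e0c13844d8a13844d06138219240a72aa1e0a72a99c0a72a9120a727a8a0a72a8060a721ba64396e6244396ea9e4395aa1c439422124396ea0a4395038643915c263a8299a43a86b99e3a85e99c3a8355923a86b90c3a81960a3a80d8863a82a7240a62a69e0a60879c0a62a6120a62a4060a62aba6137219a413744c9e13744c1c13734c121374370c13736a8a1373e586137184a604e1842404e1821204e1818c04e1808604e028a6007,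
  nat_lit 0x4b818a387df92a385700ca387df0aa3822588a3851e201c226b181c2227121c25170c1c24bf8a1c24d8224792441613f1cc9e0b40c6129b91172233f6c3164bf6d9084b9702a24b6705184a56d31c4d13149a4d10ee924d14d10a4d13cc064d12629a09325f980931d1224d24e5204d26f71e4d2314184d24068c4d24b2864d21e2a6c16177a2c166d89ac1636d92c164ef88c162362031567c9a3150ff1231523426ce91bb24ce959322ce9567a0ce96271ace953c98ce936492ce97930cce92898ace950508ce919d0c32022a0a3201bba6b53234a4b535eda2b5314b20b5322e1ab536f798b5347b92b535830cb532e01c5a646d9218a07fa238f5289238f2028c38f40d98866433205c3515a04ab2f10a4ab0cf084ab264964cb2659a0952571a08d2569808d6232249e5572049e1e224c1256722c12629a0c124f81ac1268018c125c312c1228a0cc1278f8ac1250588c12558024c353d146060fba24b1238924b12e18c4b1254964b46bb08a0e5781a4cd2619a4a4701184a44a9a6385368a03851e51c3857de9a38510512385496a244d5df166ea0cc061750ba920c625b184ac23a883cf497943cf4c0a249f5152049f4548a49f1338490f24a84a5526a1c0942651a09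425c98094517961c12f2a09802661c4c625a1a08e2599808e69392fbc7de2205619e8c05619e0a0560f188056507224ce708049c1708944ce2671a09125c180910ca121c10c9244791cf9e1421e59c3541091226d1009c21454f9433f1a126d224ca96a55556083ed3bd1c7ed54c143656951c3aa1a20c3aa3c08a3aa1c10210910e8e122213863974a71c165465944353eb02c0361e86c036f5a45aa2fd1c8ec41784d5f6af9ad5b44a849a9497149a90bb1e2b60bba298011da6235502044f10e28402d50ea42443ef061971a61e0c42f72025c2f69461d30e8825c12e1e61a2f59e4092321c4090bd924092e10c40932c0640960e223c229f1cbf721308a901bc24ba522e9e2544df1255e0e9041cd0d70849e0640a19f0150619f2d29e0b63239e2780630a27832b062782d31c0d01a79a0d04f11c2ac7dd922ac0cd8c2ac46d0a2ac0dc862ac2e69c0bd2de180bd1bd120bd3d21e2ab3ce922ab2fc0c2ab30d0a2ab0e7062ab72ca64fc697244fc6b6224fc72c204fc72b9e4fc72b1c4fc72a184fc447924fc5b4a64443a2a24445871e4445981c44456e184442cea62a85b8a42a85c59e2a85619a2a8616982a842ba630a3e6a430a563a230a675a030a3e79e30a6751830a5751230a5aaa4250537202505131a2503549225012d2603b12c2203b12b1e03b1299803b0bf9203b1278803b2832609e282a409e2822209e281a009e2811e09e2809c09e27f9809e27f1209e42b262a7093242a7616222a759b202a75449c2a7615182a7614922a72051e0702040c070,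
  nat_lit 0x4a91a3264ca1217c1fc1206e1fb9006e1fb0e06e07c2201907a9a019079920197ea100197e98e019076020197e92231f4ae888ed4ad1ed3b48b08bd638e100f022f9a34f4328612e2dc1216808c101680c00e168337062b108fa20f90da920f93ac100f93ab8e0f913208fd17e88e70d7e80e7b55f8903fd59e8e3fd40308c1372ea26886c7163da7e78a7c965f887c93e4a26ff3ca20ead1dc862b7409101824098e1820662062030e14a9f5002084b42592129425101295cf9ec737761e6923c68888852686a1f126060457750470d131869540bc1e1591459c1594778615915f04159340a25703c49e5707229257062d9057062e0e5700a98857047a045702a31e0a92ac120a927d060a95c12225e33a9e25e36b9825e7e71225e5bf9025e5bf0e25e5be0825e5bd8625e3318225e39e8685514c2268778c9068778c0e6871d99e12541c9012541c0e12541b88125391061254271867a4dd9067a5eb0867a333180dc33d920dc115100dc7e68e0dc33c8a0dc33b820dc3f51e25f5c09825f7e61025f5c28e25f7e5a213c458a013c4581e13c7e51013c7e48e13c4568813c4560613c1302203c0819e03c7e41003c1250603c287a209f2871e09f2869c09f2861809f2859209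f2851009f2848e09f14e22042535a0b302c29429506d9e01706b0e0172bf063ff1ff900de7e38e0de2b5840de42aa212b3c51e12b42a1212b4290c12b4288812b4280612b2b69e0ad3c79e26114e9e0467e3120461268604676d825b214d9e2a6614122a65b9a07c641a987c65c3927c64278e7c661d087c6424a685f55a2285f69d2085f7701e85f6859a85f77e1285f4322212d431a012d4311e12d3e01a12d3d69812d37f9212d6ab18b6f6fe828563e39a10e3129210e0c40c10e295883835dca6a064ce084684019012f4340e12f0679c5cd31394781694965eb695a23840971201e5431e38d1eaa0b6354b1459219c0811a2038c0774eb9a8320cc820290cd1a083241920830ce0c08308f1201c0431200d0cb1a084101120840429200c01ba200501b2000501a9e00501a1c0050199a005019180050178c0050170a005118a231a634a031a5591231a7e29031a7e20e31a67f0a31a4150831a2cd220b20fe1e0b22bb1a0b22b7980b22cc100b27e18e0b22cb060b24b4203664b19a3662f0123667e1103667e08e3660c38836668782366513a2340565923405578c3405818a3402541808c45fa01c051b0c1c022d26a3a13424a3a134a0a3a22f1aa3a28d18a3a31a12a3a7e00ca3a40a8aa3a11b88a3a570a6a3770d22a3779820a373821aa3717418a3755392a3763b8ca3756c8aa371f508a370f3a44a753ea24a748d9c4a74209a4a75fd0c4a7084064a70af2259e1fd26a3b43d9aa3b4190ca3b3568aa3b65e8a4a61bea4a3879722a3870ca0a385889aa38,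
  nat_lit 0x7fe867ec49fa09a33639e9a37fe129a37fd909a37fd0e9a37fc8a9a37fc069a37fba23db4c5a03db2ea9e3db611923db7fb103db7fa8e3db34a8c3db6698a3db7fa063db3f59e4297f9904294948e4297f91a0af2bd120af2bc900af2bc0e0af64b903337f88e33338382333397921163fc901167f80e1162929a2d4649922d4229a22d63cb1e2d61ae1c2d65d0102d65d08e2d67f7900ad7f70e0ad16aa20491699c049168920497f6900497f60e04914b86049481201544809e15429a9c1547f5921547f5101547f48e15431b0c1547f40815447f861547f39e0220aa9c022071900220a8880220a8060220a78402243e221322961c13243d121327f3101327f28e1324378613278d206884421e68874f1c688740126887f21068844286688408226913389e69131d126916309069159a8e69147f086915cd0469179c22b7d758a0b7d7261eb7d3f49cb7d36798b7d7f192b7d49210b7d6818eb7d69b88b7d48d02b7d619226673359c6671691866771f926677f1106676d08e6677648866729a1c0d9332120d92098e0d9331080d95a5225087f0a05086519e5087359c5087f0185085e1925087ef905087ef0e5081a5085084fe0650839ba2261594922615c6902615c60e26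15a40626131d842616032251039d9c5105ff125107ee905107ee0e5106e10851041a243b114c9e0a829e9c0a82ab120a827c860a81d7080641d89e12a2d39c12a4269212a4260612a5168621a10d121192ce120b3407a21427eda01420ae9a14225a9247c2408447c5db1e66070d926605a10c6606038a6606ad046605b40c2b45a7062b47ed1242e2410242e6d0223e16cf203e14ba1e3e14cc1a3e17ec923e1173083e169ea24356e8204356e79a4356e71243561f104354238c4356e6864356e5a24306e5204306db1e4303e89c4302c59a4305b1124306740c43023f8242f6131eb514cc92b515cf0cb5175f06b5134d04b51619a069275998692471106923450e6927600a69234606692070046926898269234ea6874602248744eca287464c208746b59e87465c1c87417f128747ec108743248e8746380c8743270687456b84874342a067d5ba9e67d6251867d3dd9067d4dd0e67d5ae0a67d7eb8667d6269a8cb71d826796bf92b4b607888b12018c2a51e31446d36310a8d5469067e5378e67e3478a67e47e9c27e608203f945d103f92be0e3f959598a257eb10a253d08aa252e506a252d4182a060f122a07ea8e2a06002670c777a070c0ab1270c7969070c7890e70c3890a70c6f68870c2ef8470c5408270c385980ed384900ed3840e0ed30c060ed2ec840ed1e4a03c21c0a632954ba23294b61a329109923295441c5a33cd1426f082a211d1101211d19b8811d480103863a986d606b0103c76b08e3c74d0823c718a26cf93659aae26a408bbe1dd9a067,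
  nat_lit 0x4e20e32f3918232f49998b325c512b325ad10b3263c8eb326228ab3250b84b3280b0701580aa50084888c2905cb8829080a02290148a2041146900418098e041145080411448404135b883de39d100f439c8e0f439a840f437f020f4652a6f3c509187386311073859c8e7385f48a7388090e57b31b8a57b07e0657b6820457b6538257b7311650158d9eda86d412c01335120da334020da5fb122925f58c29229d986dc475926dc808906dc8080e6dc4830c6dc62d046dc59b826dc80790c1f8070ec1f65512bd253010bd23c28ebd245984bd26f002bd271aa452368618523607125230e39052352e8e5233810a5231180652347204523806825236b18437b30f025f8313123173671031729382317179241354489aae84e904e5963e1a7c83bf127c832b9a1b910612ac340e08a2b0d39231341b221241ab1c1240ca9812441992124418881244180612416b88c9764c9c60a1dc2013d0711a0b42cf920b40a2180ba2d9a05a32c206ba85d41273132c9073167d1836a1da143912b99a57f1f7a02eb806122eb805902eb8050e2eb34c8c2eb5a68a2eb57c082eb600822963b7a20fd25d180fd245120fd2e58c0fd0d51424439a1823b111141d20eaa611e52a1276e56f86a5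23901289a4ab1831f0ef1231f4010e31f10a9650a244924560eb88a555419a71d0d29271d1d6924622261cb4153f04def2f90434f3fd0e3124609e55d68c8434c2e09c3503ee12853521068530da0e91b2490256431e840d32b207009804907f410b221ad5620662d3fb921153fb101153fa8e1155839e6cb1bf9205d0739a0fa0e7920fa804100fa2e98e0fa3ac820fa3f2921123f2101123f18e1123f084112803987e6745907e664b0e7e66f118bc161090bc16760ebc157a8cbc155d08bc163884bc179482bc173a18dc871092dc86fd90dc88030edc85218cdc85dd0adc86af08dc83cb86dc873704dc86f210b4f72984c3235f9865e3a11265e40b0265e6201a47a6e49047a4630647a6b28447a22d8247a2b49292e3f0107750e60e77541286775568847756721a42c4481042c2a28e42c1a88842c29c8442c580928d746c108d70a50e8d7460088d71b0848d74fca2bfb4bd109ae4d71071e40f8e71e65f0871e1f81ab300f41a6864559279e63e9079e6918479e68a903316570e331227883310ba063313ee92420802904208020e4201ac884204bc864206a98242017a1a0731081207320e1007320d8e07320c840734f99e65178516abc5a09228055c102808018e2804af0c28027a08280801102458008e245231042455988224511ea456c45b8a56c6f98456c3071a32b6840432b197120548000e054195020540899e01b0889201b7ff8e01b3f99e1143f8921143f8101143f78e1142ffa07ec0b99e7ec6771c7ec7ff127ec62b907ec5950e7ec48f0a7ec,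
  nat_lit 0x53626da76d39c56548b942375ed0c2866a396cbb1b11a05b1b91005b1b88e05b1b78205b16d8436c6d292ae83dc04c4037b8654f4f79a3733d7167a90d49e02d0dc124742b39236e0ed8236e62a8278974c84e8f6a5903656a50e3656a4823654c2946030729a35517a8228a70a1073c5800e73c242029db11a1e2153c22022f5049e1ad0ef9420c4ee9c1e350c982155242248a0ec841a80d41c3f856422330546103308108e3303b5023306ff9860047d1260081010600065886002de8260077998769693107693010e76930b08769301827695fca678661a9c786747987866ee8478614a26bfb3081abfb46510bfb3aa0cbfb4490abfb54f08bfb46704bfb2c19c5d82c39c57d37c1057d2eb8a57d5d18857d556a0a2a6fc9274c1e71074c2da8e74c6c98274c0a29c72f3a5a20f63a4900f63a40e0f62c0820f625f1c08f70586e0a20b22128209124e05319c747112880c1310923ac54a083ac5cb1c9592911895970092959113109590b50e9594e10695973884959238083b33481e8f879d188f8486928f878d848f87730481135d88ead65a1a7be4f2127be47d827be3d59010a58d0701f80f9077b62a1a3f21d1863f24780215173698633382a00ec34fa6b126d498d4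34e284bed64e84a4241d20bd84e798c2e4e710c2e5b52048270026b6967ea235e3381c35e3d91835e6fa1a5994fc1259967a105990c88659959f82599520841f92c8120b12c70e0b12c68a0b12c6040b150f021d412092b0e438109cd5411a36d52e1236d4ed90b0d1198eb0d38d0ab0d50d84b0d4fb82b0d3f388a17390980f1656a2dc7366907fe1bc867fe53f86b9c6df0e4713c99a4ed117924ed48f824ed412087230901e01c413869bb5f412bf064d8ed036d196bfe41194a7b53d9855675c92e746e09841d4de9241d2d59041d6d68c41d4cf8241d5e318b502ff10b5080f0eb5057b8cb506fe04b505e4182875ef922870a7102872308e2875ef042875ee8228772d22da080e928fc47e0235736098be05d984be067110bef73b8ebef48288bef72706bef64a04bef0fc9421a52812acd4e39028f1028e28f3b60c28f29518bee80e10bee2968ebee2eb08bee2c782bee80d90ecc80d0eecc3e704ecc36602ecc41f18ebf6f492ebf80c8eebf30b8aebf47a88ebf63782ebf3c82274a42d2074a4d51274a5470e74a3600274a3e9a6554469227cd0a4188cf31c128cf5c70e8cf3b1849a046898bdc1d20ebdc3278cbdc40884bdc0f6863f036c9a76f4c604ab9121881784c20880e5b716258371a266c6f41866c4b79066c30c8866c538147bb76116b483c39236a2f08e36a5f50c36a1de0e1d3527a41d30e98e358342083584c8043585ce182676809490f5ce9e2af1aba20581a90805856c1476d4b88701880c1035369e0e3534038235368f0501780b9032f,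
  nat_lit 0x3091aba96ac90ba96ab8eba956108ba940c02ba96c686ac652706a060f0069ff54d062e3171927c51af844e71d81094f6e99c9d93de0241b649103e463184a5f3d29e1073d1a010b3da1810b3d99010b4fd0420d4171eac04d9041af0d7927156581071573a828e14a69216574f82dcb16f9a5b75bd045b778888a8d35a1243265222c9f6811031c19b0a31c77fa0d0059d04b20104a23f453c0c3f4560883f43a792abd6cd1688f7419252a73386c2d72598be86d81469f504242017741cb222fa0273b4cd184e0374a23e22e4840bc534127ee542907ee5328e7ee41d9a78b68806db772d984fe59f04d8e3c4043f55fa26b7868d12ded593a244c599985884fd925883ce086ca5351228d720a0db76f314ea748c842c12c31a0b02020e0b050e2480b0b91a80b6c29080b76f0e80b6330c80b2ba1a58a3471858a2468e58a31798a452f790a452120ca4549ba4ba26d59eba247412ba21748cba27758aba231708ba21ae86ba2402a4595604a2595696205955c79c5954041a59561c105956c08e59528a8c5957690859557c865956a292c9d56aa2aa651f0eaa657588aa677486aa6066926244db121a36609a967232909673b38c967502a43be0be9c3be576983be107923b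e685023be724828ad3b082771398204063b8865976ff025976be26a0b15d0613062e9a4586ce904584b08445837418b7b6e304afc765228f03ae821f245f04141239044ad0c22081c399868d81169a9da2470e5bf1072019d2c49e452329184520b20e4522c106452492827934f71853a17e889664b31a16d3cc8e16d6371e3bb4c79a17a4c71217a4c68817a45b0217a0c7063a11d0a69916449a9910e5929916ef82991597168fb323069c2552a4d4b2459e81c1191239765a843bb393920f2753067b266b147b26cf8e7af39404c5249384ec2396870248121273b42c08aa259202ab94640e6666362235c3fd9a33268b0433250c0e1d940d1263d5b0042554e484b481d90e39b6419283457e0660f3079e5ab3708880149e968013789a36c6a79036c6a70e36c4b58636c6a68236c5c402ad95f10e2895a0144704e3041914e4223b76631a3b41db960650bf081931330e4eb0c9844eb6d7a2d8917ca27e3666070238118e594309885945d71eab437a1cb16811184e6629104e65928e4e6508a653c406167ae3a886543322a4c2b6f2989de231a26df2d8863ef355163ef1711a7f2662027f24338416e5f1a6f1f16120c6a66f1aac510692ac520a84a87543a279a0f78226a5ba124572d68a4574f29689744ba01364b4882881799a9554ff929554ea822e137e1a7bd30f868a34519241e6e19041e75204e3471a1a4e540f104e54d68e4e5410824e535c0ebc95e5102825e20e2825e4842821409804013f8e04013e8a04013d8604013d04040124020405b316685,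
  nat_lit 0x74d0e532605a64f027802aa85541a24012016b21590a4e647321af3f79fa4ea075006db52dd920f73728e0f76da9c4384e89e869434a67cc3e61487164e0e67c4389492c4962486a4351ce89744a469334998e7d73e94ed876c24dec6f61adde6ef14cdd4850843d66e92e7c73e20f3279924dd66eb14e9b45a10ab974da4b955caa2ad35699ced376988b8674808e316fa9693249924ec876c98c207a090c205dd88c207640893549aa2cdf3bb20b8974410b8949c04b8966f94b23591a4d8f6c7a0c9b612122a3611022a32ed265ba2dd148d946ca682b415a68c75e8842844639c1460a6a61490a4965ea2f5262e467390319172263d31e99a1460a3045d0315085de47892b785bca025d4ce9825d5bb9025d5bb0e25d57a0825d2ef10edc76e025b10b01893949ca687e43f20a1550a868e34719ceb775ba67e83f414ed273c9e511288a2e7a73d18e6a73504f334bb1abaa3ae10baa799a489d72516e8d35d18b6450b04b6438302b64746a2ef977ca6d916c89cdf16f8888c45b08e2554622657973908c3b69fa0d4a61d94f0f6719ab6356ea0aa758208c3878492dac2f18226f7190e59244b1254a17ba07b52d71e7b5303927b51e8887b52b8882fb2df266b742298d1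868c1033e6920e33e79d98b7262186670373a468b62108b4a1b010714392827b74551c8ab2d81274d6339074d5008c74d0f21825b240040c34a5a2ed66e00256a5310c64469b085125b2908103219c0d3321180d331f8c0d31cf1cc6069c045c12f806ad0568127b15e6107b15ab16e3f36b1235674886cb1658a2c9b540101ea29fa49015d9207d12a10684d79a867d63af8e39678404cb51139023d5a324e013d01485a785927363bc82dcc65b20db1298149ee3588850265c8263e6670691d3059491d7788692d5de1a819533928195af8434a4d326b5e4e59eb5e28b10b5e54a86b5e3be105cd5da06af94af9acbe0b6166da15f8625407d845871cc1e75d56a0654e7528653b6011a40d72684dc26ed06d0b27b06a6f6dea6d13324180d44449cbc857608aa71141e64b6998464b7618264b772985cb4ee041cb5238ea1f57304a1f53082a1f6629a2f475082b9459618242594042424b002242495a0dab76294c7f4911aa5759e0ca5716182a5768fa260654e12351690927466c10e74649082746596922a174926c7763f9a7ed7878e7ed67e0c7ed6f1986c17a006dd55fe022956b38edd44591a91c67896bd357b1e8a438f988a4707048a448e828a4789a2b9d72424be8587a2237519066355db8627e1dd16c994a420eeb6bd20ca566b9aa4445412a44178089896aa023726088e2f645c10a44639103fc65088b0a43692e713561a0ef38c900ef38c0e0ef2b4120ee388900ee3880e0ee3878a0ee37e820ee3e21a10d3e19210d34d9010d3e10e10d3e08a10d,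
  nat_lit 0x74e84e04484a09547020ce1670b06a1932a9e1a60d3145402a01a9e94f49ea02501267da3ed1ea0348c124bb70e0a4bb5019a7df3efa69b54daa02231119859c15d882c7116241c60e3080365068a9e34f188a560d00c48c246086824698aa105080820b3ff9a11733f8a11722c8aa3d51e885e152c8ab023ca9c8005320e8005810648f46a2221f10fa47d85de926df78f026df3ec1c4862479e1dc0ee26a465231e7823c1141d80ec26a562359620b3069c0ca3048a0ca2fd820ca1059a221110a2206679a46113a01e6116890e6111032422049e22aee2b310aee1120eaee58582aee3bf96102081244022011e6822979a60a15e9060a341241d60eb1672e397167833c1a6528294201da0ed261fd0fea04902480621910c8268342c9a82d341989e04f02621710b96a3551a9ca565490a45152b085e510f0c81d4c91a6ee5848a6ee518886ee40e827ba3dd16d886c424a1a3b1106e0759086e050d201b50d9983b51daa48a545298726393049ea3e8026b134a02b523fea02cb3a0882cb63d822cb5a9027ca3e51a9d44ea1ee5474a12d664110eb146b3144f827c26b985cc166e237126e3a589a023871d167663b316ae9574a675b38012b4363a02b432921aca94d212ca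967b0cca967b88ca974b02ca93ad96db46da1c6be35f26f207920e6f0653086f079018bd55ea82f1578a96f2379196d84376060e96c224d876c39e76a3b5a49154730a6ed5fc066ed48aa228b48a0680a4051cc4e326a6df74a808c876fb82f2f79798d32668a27134cf107136be8871369924e404941e2ce17e0c2ce379882ce45c842ce72014ae5572a4e0d70698eb675b26c2f6179072939486e477238c842421026ad5348eb9b074226ea5cd88ed776ba2e2d73024f016e21a42216292422780a262231106e5f72f9c92c5cc9e50559792ce568714f1761e0e3051db0c30555a843055098230578ba668034020cbf36c1e85d42e9acd44b20c2f666a0453829c18bc55e2a48896a008d906c820aec5b59ee69734a4efe77f1ae707381460c4e81a36330624e6c7361ce7873c08eb46b68cf044d3922e578208c3661b24afe57f20eb475a186d23cf8e106369246f23791ebc70e4925ac4230e5ac381825ac5e3a46c236118bd761c8ed716b888ef477a207013809452e297049884c40c1790bc869874c38ef0278106e9774b9ef0078008623311a4c0860420d776bba4b915c89e8bc45e08af257926d1c68e2041c28ca2c4b625a4f0378194f2779398d686b424b445a2188024a114c310e8a6101211a210124312101618a495c4ae149034f09246e0c80c46e4860446e48184a6d5368c9454a288c9564aa22d5669129c34e19482641324bab5d59a2743c8a669634b2669e34f18dbf6df8254e4ec06d58402103224cd8e3226ac1e4f327994dfa6849a5322e412532,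
  nat_lit 0x7828ad306980689b62b20d506a826f1678b20cb654592ef74858899a30a0a79b4cb8a8f947c8241c737a050b76396a53529a6d820e51022f4ff04a480db946543991a4f1461941b60db207331e40648478a0ce2771386e0f79c8cee277102a2b701948ab453967db3eda4db367f9a9a06d99a485242a418f0c79202770618f3e79f14e2571294e29714a44c826416a5b52d92a5a69014e267131ca2871220aaa55506ede3390aa2851406df86fc0c9c04e002a2f7140ae0f70782a365778ae1370982ab071b104ef27782b24358160e37279cc2f4f316d2f6979cade56f08bf25f910b2c666826c336186e7e73f1054c53b90e0173fa6c3b4bf1c4c726388aab555a4df06f80277d67c1adb85c910db83be82a5a30282e127091aeed776a297b4bd968a24511e4bd25ea6e2071016e1e70f1ea9b54da6eee77714aff57f9c673339a4ecb7659ce09704a6a5a52d146024df9697c4be164c1260924b376e96e1570aa6a245121070476aa4e1870c08e1732a0e63c70b909a84d40872a395209b14d89caa26ee24b0c58608f2b795a46c836418c7563a8466148706f303b222de76f39ce6677396ea87541c75a3ad26d6c5421edf66fb14e6673326efb6599a3ec489983ec77d9ce6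87340876537b2037e10d8a37e2d48837e3b2a05796f520e3971ca4d996cc96e864a60c1657431651828c249834c19a98a4c52487f43f969d64eb22cc96649284e6ca88b567210ce3771b826af35786ea37519c6a255d9ed626b120cc3661922f25da948d046812d823dc9254336214884584223346c91ada26d126eb875c1ccba65d0887b63f0ac8e64706eba75d24f3756da075e77b1275e7688c75e79ba2d0f61a08efa77d0cd9e6429896f64f169734b996d6f6b7a496e4b720bb15d8a4dae6829031d6d714c5f62f84519351900e13510e0e1279020e12a0822c016014c6176fa6f1d632a06a045d8e6a078e9cece767246b96422071667d8a7166430871635c96c51628a453729b82a3129b02a3042d842de33a04cac6561e6d436a26dc017d108e7473886cb6bc1cafa57d1c229114a4a335199a1be490262e7634262e047018e5c72e26d9f7720a78b62c8678b35b1c6bc35e24ccb6659a3147792093034e08c6a49826ebd5f3a09b8626109b85c80a9b8495069b875e86cf26791ec8b645988456eda4e956731a4e774a846a43521cc9358c9698c0ae1c92664082926472a423c11e163a01d0242d916ca23014a0088b47680ccd566a86ecd76690cc8533204e44a1904e47438252c6579ce1a6512237e450a0e220c3084e971126f3479a049584ac22ec368d947f9678166c76cc24ec476204b1858c0eeb575a8686f7548e8e16a308f2c79612b6741e88b827709e5be52f26e2a715188a645326d28694169964cb26a295149a9774bb84a0f5079ad8570f96e9d,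
  nat_lit 0x5a286689711904c026026a0f0d8264840fb0e61b30d821fa0fd1a1fb0fda641720ba05e42f2066076f09643e7838e9eb4f58277b1e9243d414990b235a48224b12592aa849a1c15f44718b6c5b626ba65d3026856ec02f0535708bcb0f8a0a8f54798e8274126e3d71e84be444024c9c740a6c7a63d22baf49d967602e310d5939206b5a35a9acf86dc94d745aca4d1c77e82c9a16c026a7353a42dc16e146a8354140e20751e2bb72314d3e69f24c0d6069446f237a29044821ac9a64d165393b9029643b98278f3e92266f33786df675d98cc375516d0841f925f32f998e93749a6e5272914dd55ad9af257282688a445201343d112eda6cb9cbfe6249ed796bc88ed24751abe20f08621859d908826320e88210c1c7324de02a565060448f2f30414c0a6268dd46e8822446a8a3451a2865c056926d5b23f12d5b0f1080681e60ed516a886a1229322b7f74208e7f2ee085b42da245f52faa4bad5d6985f92fc844603eca622b11584a215109c22d554a220310198a1e4f41e9e74f3981a10d08420620884db2760825722488e98e74c24e8e74720c5062814f3b60296b3459a22d2f6f91aab355982d753eaa6e8564610d263a20260431ca68f6103a26ca1230e6ca488046c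a47b12a915829e8f7721a0be65f31ae517289ed11688a2a495249621c10e0883e43918f3d0b0a094179e84f0678304dbc6de10d7e6bf06e8957ea2e9c74e2688c44614ef877c268864432275b44a207b64b686e9266110c956a102be15f094a1877a927d7510162c41621635a1ad242bc15e1ea1c466a2dfa771888b373186a4a5251c66437316c8d49f20d966469eaa455216de36d51ce5e72f26dd9484223dd6ec88ada56d22d9b6cda47523a91486759c16f1c78e24eab755825442a212e1a620a6c886441881378724e8574288bb24c324c82641063b7739a07703b8187603b0203f76b8269724b91666469aa4f2179086c5862c1ec7863c24baf5d79ec4763b18c7362388bb05d824cc94c10260c39f026154ad925b26ca16c0a6051a8cc466261470a39a8c946488ab755b8e2f55f2827213598cdba6dd02b9061b8ca524ba98a537511a887443a296262f24700375a6afb57d94bbf5dfa64732398893a49d22ccf66794e4472226e7673b207f94b11616c4a48ab935c9869ba0b1262da16d0478c778166e4372247923c91ebe45f214cbc65e2493649b08ec67630cd416a082e3371996ab655b24923491a0acc5661c93d76a1e58e7880c88b4458851728ba488344194aec6eba6dc56e2a0cf567a9cd3969c94f3871c248e94749aebc75e24e7b73d88c8f6479ed9c6ce146de1a712a93369a4c9164896d3169896bd17461cf281770837579408ce06702236f4fb08aa02d7929b31e6829b3550086de36f12f1571f22d2d696963491a4a68c54628284342188cdd,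
  nat_lit 0xdd823670330e367016021bb02f901bb04910053030100921b40209202f8e3180048405f02d040600160e00800a0602c01f820140020e0140558203f0039003f050840150018e01532e844ee06c1065d098904fd1270e40b17f905601eb0e27102404137053023e31800404e1f1963001800a3e321c8430014f94300031843a51d49006314f823a90218229f0240a29f0241606c0360a04817f8204e0358a2ff14f043a81270213117f9606b17f8a131098962ff09b841312a3961312a3820a61838254714f0c547183a22c61eb1a30703a983071d4a03d609ba23d6163183a921c9a3a9027a02c60059804f09c1a04f00fa0138053a20120221a0a71d4224391271a3a805318043009220a602718137003a204e0509001f0020200700f9a0070009800700f820040091a01f1b40431802d020521b41005a055863680218429e0359629e13c843d803a8206b13c9007505588279055840a1010100ab00184012009820120049e001002060090040205302d1e0660098605a06c043e3036163e306c2024e021a224e0401a0d800320044005a20010020800b0050206c03aa2080009880750098c020010140130018c0130100c0040021402000094004003220430009a0060009e008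000a200a000960030078408b0078208b0070e08b0011000f0078800f0080e0990089009926c8209904c8809911c824d904d8e4d924e0223904d1023911c8823904c0249c0448e49c26d020980081009804c0809811f0449b0450e49b0081201011f1009a0081401000820010044820100081c01000808010008240100011a01004d180100080c01004d0208904d2009a04d1e09a04d2609a04d0a09a04d1609a04d0609a04e1809a26d0423e11f0623e04d904da04e0c09c04e0609c0450409c04e1c09c04e1409c04e2009c04e2409c04b8209c008920110088209b00886011008a00110089e011008a60110088a01100896011001180110450c00e0072208a04ba008a0451e08a0071408a0451808a0452608a04b8c08a04b8a09b04d9609704b9e09704b9a09704ba4097044a009b04d9e09b04d9809b04da609b0448c09b0448a00e007160890449e0890449a089044a40890010200e0071c00e0072400e0071800e0010c002001060020011c00200124002001200020011400200082001000100010008800100024000000200000001c00000018000000140000000a000000060000000200047724a85100061b540a165212dca00b97678285e70e829c1261164b52fb885ba2eea45fe1a5883d36869e32a1a6a4b614fa825e82f41841420a1259653e201e932986a682e3a45e72f382ab1208265fc2fe205fd2fea60c7063840163a188ae86ae92bce46b086771e804bbd7328272c68306d7b6bd90bda34b828e279106ab44fe9acc271e16f2a795128d244086c24,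
  nat_lit 0x928a1592b80a6873439657009e0a57001e1a25e054980460549625e009240a912f0a0a93438425e3438a1250929668706f2468733d201250421a12533d0c0dc06e1467a12fa40dc01e2225f3e30c25f0101a13c01e0a0060031603c00b8409f0091609f0019a01706f260170230c01706f0a12b095960de095a27c60232412b0419a12b15320046003240463e3262a603b9a2a642f827c614f2485f0968c85f0870412d03ba410e0978810e00f2412f0418c12f00f0a00d03b8601e0069601e005240770420e083006040830418400d041a4084006a4083041860830420200d0068e00d0068600d00602084042080840060e00c0060800c0291831a009a00b21b30c05a02d1436651d1034051d8e3400460434004622094046204a50e00408c2539008c2520808c04a041c051b8e1c00e110a3a25302a3a51b9033f25384a3751d844a718a884a726904a3b51c024a62528e4a626902a38252841c20498433f049a24a504a0e4d1049904d1049a000f0468809304a104d225890c162558ec1618a84c16674843152520e3150290831519004ce924f10ce95a9843200468e320029883201c284b5325590b530489c00f24f1808b0491c3182520c08e0dd9c0910468c4ac2559849e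24f984b1047144a418c1c1bb252144ac2560c4a4258984ab2561408d0078c08d0469400f6090238f0470e38f0300838f046844ab0488808d6091049e24f90c12252024b118c084a42560e3850dd884ac0459849f007a00940079c0920470c00f0079408e0488205618c040560040e05600a860561b3820910299009109b9026d0538e26d1f68426d1d5043ed0988e3ed129043aa127103aa13a8425201d8e25201d902510240e25113a9013705390275021901970278e1972d004197204845a014f0e5a0067044091d4104090cf840ce1280e0ce1d28419f0279019f031823a614f8e3a61540e0b6180100b613c020b60680227821c8e278156020d0153900d005e822ac0220e2ac138820bd154100bd2b0042ab0270e2ab0531054b09c0e54b2698454b26a844d32a38e4d324b844d5183904d5259044972220e497277044b209c104b232e824961f18e49627e0e4ee27e0a09e27e0c30a09c044fc04f164fc185144fc183844442220c07909c0244403c944441540c4442b0102a715414250022022a81280c2a821c822a703c1430a1850e3a51850c0780278430a1d4042501280a03b01d9625003c9603b04f0e4fd01d8a0791270403b0538409e04f0a2a71539609e022042a703c162a705a820701ec840700058e07000a080700358e3d903c103d90050e0710059007105f0207100a8807105a9006c03c900b51ec100780400207805f1007900582079036100be13810080055082700031003e0038e03e00a8403e00f900a20090e0a2055040a2009900aa1b3880aa,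
  nat_lit 0x54a412406c8a12405a1a57005a0a01e00f160b4009a40b4217860b43988a42f21796731214a47312bf887311758257f057a457f07c8c57f18f982eb253a40fd18f8876e38e8231f0292431f1890671d1891412905484312059a63120948c3124298212d4298c7f43fa148532172685308aa27f408a8a07703b9611512f981150372411500da611507d0811502e8c0fa07d1405d0782405d0042605d00e8605d00ca40fa089200fa00f1e0fa00d9e1123f318112198a61120398c1123f30abc15e0967e63e31ebc16e420bc114022bc132f20dc82161adc806c1e65e0401e47a3baa447a2162277503a9e42c46ba642c38f228d738f0c79e0782271e0871e71e3cf1471e1fe9e79e198a479e1988a4202101633102a2233103b9e420039a442002f2207302f2600802f0c33300f0605e0069e05e1999405e1400c245122942800b41a2801228c56c01e1e2452b6142451959a56c18d0232b19594054057a632b02a0c32b0599e32b02a0a00800416054199a605400d8605408a2001b001a201b06e1801b08b2601b0870c01b08a0a42e3f60411433e98114217161144d1a67ec1f09a9a3214823db214940752149a69208b2242903a8c4290578a333199960af07ca63330949e333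08b0a18200f2211616a1a11633f181160c1161167a1262d416b22f42348842d6097982d6024940070038c04905698013056a45700568a0de06f160ad0aa020490111a1540950a1540aca40220228a022011160450990202200f8c1320991401f2881a1323440ab7d5be966885be986912b8246911308c6915be8a25e28804b7d12f16b7d333980de3339412a2882666706ca46670950c66701e040d906ca625e00b9a0d92840a09f04f965080228c261130a6687130a23f91309a09f1309404501e262610949a2612882409f2880a0a805416510094840a8009260a80229a0a80950201e0598212a059961420599401d009a60b30a10a0b300e8c0b323e061423301847c0402647c15a22660152a22b4127262b42172007603aa642e0c1043e121aa43e12182443503b04430217824305a89842f03aa442f5a88c69215322b5134914b5133ea469233e8287406e2267d1270c67d1528c67e33f142a503b1a2a533d242a5021a62a506e2467e06f2267e1fca425f1fc8a2a6153163f9150243f915002a253861e2a0343a22a01fe9a2a00218c2a00769e70c1949a0ed0780232908e841681e39c11d193263c70371c3260370a00a00c8806e094a206e0051606e00c8a0f00781601907ca40190b4240f00421e0f00b40c0f907c941680978616800e9e0f91fe8a07603b163fd005260760c1240760062207633d1818208724182094881820949408400ea6129097a41290420c1290228412f092a40450061a04500e8a00c0928401d0061601d001a601d0ac8a13c09e16159,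
  nat_lit 0x330a3be2cb8a0b24c8885970591659722c0617a0a0a44582290c4580a08a5bf2df96141229265bf2cc9c0b205926452059a04520b68c36d0bd1c16d1b69416d4c8a617a3d7a29913d79c397030243971fe847af60b1a3fb268a23320850839b1c79639b0301e10a1b60c4eb02d2236c2759436c7a18a4e5275a2f4327318f4327296f43198224eb2ca184eb3ff264eb2ca0a2862730abe05f0164e6300225942732059460f9e594143165944ef264e65e91e9de407229de08a1e7f25629c7f25e9187f218ba47f222ba2ac522b8a41e20f164573cf1e4573ff244573a60a9554aa9674c4aa883130b41e95520f2095538ea69551b724955272a041e0399e41e5ee1841e368264e5141244e502018282143220405e0222861b99a2865ee2628603b1e05b1b99c05b039a605b1b7223733ff0a37307b0a36e1b7160f61b7080b402f1e36e02d2436e1b2880b102d0c3651b29405a586a436507c9e36539e1836539e0abc05e01673c3362473c3a52673c1b524bc01401ebc002c1e27c1b69a27c1b52627c147a427c3000a27c38e8c3301981471d19824b0d02a1e330300183303000c7693002466c1229e6003b49460039c1e7693c322769766247695fd9a7862bea0bfb1d624bfb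2be8a74c0579e57d3a61657d07d1e74c07b2474c07b0c7473a3940f63a5180f61959e7471d6227474ac983ac47c1e9593df1a8f86a1a48f808a887be2bfa07be1f90606e6a1983f22cca43f22bda0d4315422c2e1af0ac2e2cc9a35e195a0599195860b1009a20b11fe8c0b11b6a671d1b68cb0d5869436d0598636d02e9e36d1999eb0d33618b0d3ff1a80e1989e7fe2768a6d0368164ed20f9e6d02171e41f5a81841f2162641f1ac2241d5a82041d1531e41d0399a41d1271eb501439cb505f0262875f7a2be0147a2bef36e1ebef1478cbee5f71428f38e9a28f467a428f5f70cecc1979ebee76614bee75fa4ecc2b61eebf3a50cebf3a50a8cf4679674a1491e8cf5ee0c80e40714bdc5991e80e3360a36a1b51666c1ac1e36a1ac0c32f02c243580959e35802f1a3581979435802c0c3530231e0581a994058020a40581a9a27e6197a63533439e35307d1a3531309e32f02a1a32f122a632f5990a29014816b32122a2b323cf1ab3260fa4b32020a22901529e2900208c0f40031e04107a140411492404107a0c73806f1e0f400c9a0f439c140f43489e7382bda47382bd8a0da2b81e57b0579a57b06d1657b06d0a29200b9e0da149160da122a40da36e202920229e2920781a29236e0cc1f33d1e6dc60f946dc5e0a46dc5e920c1f1501ec1f1989ac1f291a4bd233e9e52318b9a52318b8a8d746b96317089223173e4023e1217a47c8429a67c8189887c8348983131899412f1892631305a243130978c3130958214206c941240921812b05a0212409526124,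
  nat_lit 0x1e38c0ee00c80f4733e040ee07700f442d61e5932d60a32660f845ac7a5265ac193165ac7a4a6f4a3f304f497a402b327a226f487a208f47269241011948846e7a32046e7a2a4f4619108f45299263220298c3222990a329194965327a2143c71e38cf4407b843c700ca20f708a9e0f733e180f7089260f702d8c0f733e0a41d336a467c07a2267c06e1e67c20e9667c06d2266d21e9c66d12f9e66d5992466d1518c66d21e8abef55ca043d39e2243d22b9a43d5f79643d5c49eab94ef24ab93cf227785c4987783f92477815022c205c49cc203989ac2059922b895e924b895a80cb8902d9a2a3151a0058148242a30219e2a320ea62a3216048cf3a502dc81421e0405a8262841421c2b41420cbd25e91428418c8abd25bc1e3195e9163191b2823193e29ab782c98225d2c986b0d655a0593059a2593086a4593058a659308b0c5936558a3fc2b084cab3e2a4cab5d506cab38a1ecab1fe16cab3a68cbaa5d51474d5b218baa1cb24baa5b1a6baa12aa6b6439b24b6413f22b645b19a25506a2625519788255206a6b6348e22b632c90a7f408504592058a259219f1e5923fa1659208a844e02b0821163d7847c5037043f43d7a44e01fa2410a1df203f45a80460013e0241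f46b8436a18b8c0520291431718f8a7f2193023313f91631f18e1e05218f9c7c51cb0c76e3b71439618a8a81940c963151fd827b138a041161fe827b50858401b19f247b50d2227b53f71c7b538a2433e38a200ee1f2247143221874d3220c73606f0864439b14644069860170f51a0d331f0a0d33d88c819085887b140c947b10f5163961cb0a1ea39b1839640ca43963e28839631f247361212273640c9a63e06a2463e06d0863e5af1e819206a48193a32281920f08b5e2069c25406a1840d3f70840d325a20d450fa664b1400864b3f69a64b14908a1f12126a1f52b9a24213f262423a324a573a606a5739888a57214887463f6a474608a087ed1b2867ed48e08b0d4521891c5222491c1ac088a45221a27e1fe08a444d1843fc1fe0a7c83e4163fc398a43fc3fa263fc077883fc077940191899e0ef2bfa40ef00c8c0ef00c860ee0869c0ee1f20406e0361a3e40869401b2dba410d1892210d3e2a010d00d8c10d1980cba95d4943302bea4ba92bf9eba93e28a7311f21e7c5398967c5085a43e42c42210b07c867152db9c7152db8674c2bf865b718e205b7189a25b71faa45b708a8c5b718e0a4291fa0431c2be8831c2149631c2b0a43f44d19a5613f7024e03f7067471faa27ee08a0c7ee1fa8a06e07b083f5057863f505a223f52c41e3f5037163f52c4200b00d2245882c5221a402a061a40099c0b02c50480b5228658a5d102a452170aa452ca9aba2059025955532659539884aa64b3822eb38e8a9674b39671d0b6a69672df869671df160660bd263be,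
  nat_lit 0x4d00a40d0c0889a05eb989a0206969a05eb8666c7a8a2bd7142a4bd735ea6bd731f0cbd77a8a4f4e7a88a8a41b508f5145216f517a80627c142a0f5013f0cf501428a0d43000828506a1628555e86bee61fa4abd12a8cabd61f8ab643a508c3f55fa2c3f3b71ac3f5b216c3f55f94a1f6dc1aabf7a724abf50f8cabf22b86db86dc0a7ed3f696db87a7a4db83f908db83ff06f4f7a78a91c18b88f4f48e16f4f18aa0f4f7a706bc035ea0f4e3258cf4e35e8a73639e086bd39b166bd7a68c31e07ba6f4d176a0f4d07ca2f4d0c51cf4d0371ef4d33698f4d7a61af4d18f14f4d31e0a331077a263c1c02063c1fa9e63c1989663c02f043801c00436d1c00a2ed17696380172a43800c0a63803ba8c100080147751f60a47a23d163ec20f8c2ed1769441f274a62ed1f6202ed3989e2ed036943ec18fa206d18ea406d1f60c06d1bf043ec3b6a437e3b69e1651759816538d9ac6a210a471b1c19e42119a2638318d183343af2476d3501875e0800c31d18e941000292231d0708c6a01fe180e1350140e138b1c6a02c9186a0077847160c09871616f0659316f087f4470a02de1891e2de025822de077a42de195a62de07d0c2de1739c04b1729804b635242e76352078b25da678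b4168c78b6350a4e71759ec6a27396c6a4dc1c31a272189b84930c9b87a1984e7493244e7163a29267a61e2c77a11ef4c21124f4c6728cf4c7a182f4b2720af43083044e47a1964e42748a42c36d044e92748c1810c0944e9216164e91fe1e4e97a19c4e918ba64e94aa8218107804181470a21813f71e1814709c5b74708a79e3cf168e118f268e118f220520869e31e5ca1831e18ca0b942b622b944aa1cb9433e0cb944aa0a80e407169540b39a9543a3a216725d9a1672758c16725d8a2c7163964bb400a62c7294a22c72759880108ba68013701e11740022117228a611736fa480058698800294a46df3a6185290651a57d308a40ca3050c0ca3088aaee57716611228a0aee30526aee07b1860a07b2218a4169a18a228a482d3771e451198986ee370246ee211266ee1811e6e008a98302074a63021659a7f4378262cb58a0a2cb1759c23858a1a7ee11c26b1418e182383780c23816a22b4337824b433781eca93bc18ca9074a26f00748c6ed376940e900d980e92c9986ed6439a5ac389a4c871670cc873898af4b7a5967131e3982ce7a59ef4237524f4b16a1c6ea2111c2d43cf184221828c42238f18ce5182a4ce517b2230536d262f60b4182f61b1a66da02e983631728436e1728205d6559e2e518fa42e53bc0c2e53cf041060830c71508b1c10638a9410607d065ac19f205ac2d6241a4336841a419022168191081680d200f4a3f3045880b400f45237220f0299080f02c400f491911e7155990471507800f462d6260ee38a80f482991e0ee1e3960ee,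
  nat_lit 0x60f885d215a8ac1f601862b539c222b55c21e2b560f962b56018abd05e816c032741ac035e6a4c035c208bd01439ebd05c20a25f12f96b841fa9ab842b724b8414d062a61fc88bcf2b7180b12b70a3f91fc9656e056a256e1418656e5e68a28314196bcd0201e2834049a2834048c4e827414809191a28091b99e3233ba223233ba0a9914c89677414d187745e7a029a55c8629a5ee1ebcf5a38a7f83fc16b470fa1a7f81f6081f4200165d82ec0a4003bb885d83bb9c100276227776aa9877718a8c7776aa8ac3f5ff88d5551822d5561f96d555ff8a2a215116bff3cda6bff1dfa62a21b51e2a25180a2873869ca302761aa3014396a305e6a670d62208bcd6220a7e62bda2c444761cc443f316c443b4a28ec798828ec4aa248ec21e8c8ec44118f31479a6e8a68a188f35ee04d141519eabe1b522abe55f1836c55f2428610420abe44124eda7928aaa661004f2555316f255ab945954411eb572ca8cb575f7848825ec14d5b6ad8cbd81b984d5b2760a282276084ec276142821769e4ec7a1a64ec38b0acbb7a622cbb65d9cb4365d9a2ed65d967162b926cbb654a4cbb2b90c31a18d145722749857235320f4235326b43353240e1398986a63d798ae4572247ec5720473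12181aae43650aae4756046a6183966a62a39aeac3650ceac1879c6ca3eb9a30f4a08c30f1ed9e94164fa49413db1ac9f3db0c7d721a9e7b63eb947b66fd267d742f9edfa6cb0cdfa1eea6d960359e3dd274048617a19e4e81649c4e82720c247123944e4522142471238ca44164882470858a2c91649610b024202ce164980481fe1c2c9639982c92d922c731e39a5b2386265b22a48a0a6053165495291e54933f1a5495291870c332a2a5213e20bb83329e0d927ba666514a9a4f71d7a429506f1c3af386203af00f1c1091cea61090979c39d3f108112635027e22d60c7e22768ca93549944ed54998c6a1729ea9327224a931ba8cf4d1b61c37502da637502ea23750c11e375148183757a6943754d9a036c4d98818a4d99c8d74d986778104189b36dc249b3141269b33a30c9b31040cab91040a242020262081478820855ea020855c94208121162085b914abd27322b7255e8cb723cd8a3bf1df9679b273063bf5e01e3bf191023bf276884ed56286ac56dc0cac556294db82161edb820f0642c20f88373141062ed52b8c28214114a5755f8c9de4ef14abf55fa6be035ea0be032596be03258cbe05e008be0142a004013f1604013f0c04013e080406dc266d018aa06d048e166d048e0c6d018b886d03ff066d05f000f4e02000f505eba0287452162874520c2871b50828736800f4f4d0204e514380f51522164e55220c4e5274884e5275864e527280f527a188f437a180f537a186f537a188f537a9084eb7a9064e94d020f527a898f527a7a6f525220cf52,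
  nat_lit 0x530a54a0500a5120500c01200c040a0132a40a028d9a133289160a0009140a01328c0a832604265054142650aa24265326262d6326240eb3261a12906a8464c2bb9464c06a9a650328245073280a66733384650333966502bb82650376a05772bb9a0b30572657709e8a577075960ae0250e25b0570a0eb284040ae009980ae025240230250c0070039404a0390425b0af900720af9a02343e8215f43e8c13309e0287d0999487d43c8c87d43c9413209e828790990c87909e9863201e8213d01e8a0d200c180e60730203d0691603d0112403d0030a03d06c9a0e6289246882890a508284165120ad0e1d0283a45082838a51004f84507288165070569a5070ad1a3130ad0a0490249615a0118815b0698e64006b841d0011900d7099820233190213300f8a1333441a6320690a0df0a9240d206f960d20a90c022343821520111415209e241523488c15216b1813228d822d628d8a6883441651b37da651b0548a51b0720468b011100e406f8268800c020df1891a0df348a40df06aa60df01e0c0df075a4018074a0018001980182b8040eb181200eb37d820eb0920a6fb37d961245f6a26fb0aa266fb1471abed0ac2628e0ac1a551011201580c5020270299c18a22b9e11d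2ed88a932ed9c4ed6cb025db08ea25db274245db51f9e7f451f8c3e41f214a3f164a4a3f2e2a03e42e2941be0df0c5c51909c5c57aa8632119218f551918cf552129c41e3fe22425191a44253fe0411d3d3087fc38e9e7fc54c987fc0df247a6414267a61dea682851a263bd15102a340df26a3414d021be22a9c1be3ba0c39a1cd1477422a8839a5869e39a41624455398a24551f61c82c2438882c243940af0b4a64870578c4870b48a57f2bf96169470881694ab945990f59c9572cc8c9571c6a07e20f58638d0859638d3d8a21eb0f298030069a21e506a8a017328a00d50599a0d500b960d53288a2a0150166512c99a6512b72665155e066514f622abc1041eabc141a6abc3868aabc6128667e1dfa2c2555f1ec254f626c2530224c253870ac254f6062a00d1229ec1431e9ec5e7a69ec2e90a9ec5c19cbef5c19632430226b835e7a4b8354ca2b835e820b831920ab833020cf547aa1460406e086043e308a9954c8cd6e6b714a9914d24a9915126a997661e7f83fc14d6e6b70c7f833b24d6e5e088d6e38720d6e39e1ed6e20e8867633b0a29a14d166767aa206763c7246764f50667655ca29ea5ea249ea5eb8c9ea5ea0a2853c708bd44ef22bd414296bd43c7223241518878e3c70a1a20d11678e3cda478e3ba043292990229a14d261a2021881a24ef061a24679e1a25e7967563ab0abcf19226756599087563cda27567aa263247aa1c59438726f5433e08f543871c80e2e92670e5e6a070e1df862a51480879b33d082a25ff866dc2e920bff21e9e5d2,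
  nat_lit 0x142183743bc143744469a8291baa288d3e41e88d1478288d46ba488d446967f23f90a88d1411c88d6768c7501b6a2ced6dc20ced38f1eced47698ced3a814ced2128c329194944255ff9e2951d79cd6e07d025d21998270e3ab040f92d91c32408e9a756387260ed192240ed33b220ed386a00ed2ca1e0ed302160ed3020c0ed33e080ed07680f5402a0232419218053191960531918c0531908805302980f55548981f23a81e3290b39e3220c524750141087503a6227502762075007b9e7501639a750571987500f9021580f91418a036a23f20050806d2cca031d05b9201418e8607602e860b705ba653212806b531d28649e2d00649f6748830a6090829e255880ce258883a614f86c16151040b7018821a205b9e5ac018880080d21c0310189c1f2272201f20c50c1f20f81803105ba40310368803118e880b7200220b72e90c5aa2d5145d22d5065945eca25aa0f8265aa5ec984003fc26bd95ec862865ec9467633b0cbd975f9ebd97868af567ab16f0d5f824f5661fa2f5636288bf0548a06c575fa66c539e0c6c55488aae341e26a9157196a9141e0a5942ca1683c0f81c83c4aa2683c0f814756545261f03fc221f03ab0c1f021e88a8a5450a32419216a8a571a2a3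05719c7e65718aabe55f16ae35f722ae32ca26ae33021c8ed476a027c1481e8ed55f268ed5f7a48ed61f9c65e5b6988d733602b6d6e424b6d36e22b6d55f9cb6d41484bee4149e208148228295b79e829142268292918a8296d620b6f33d22b6f15a26b6f33026dac40b9adac2268a3e81f1a644d1f41644d6e8a6ba76e88454f1531a54f0532454f6e88a43633004dd121b16dd1330a0b51330a60d823e9a6616a20a43121896d441f42406c40b843e8218a43e8085983e840b8c45522a9481723e26817159088170a1262b2159143120b49c2b2022822b215b242b21890c2b215b1e48715b0404615b1a0d215b0a313189962b60a1a42b63ba082b608d245bf08d223132cda411a76b0459b05a2059b1f91c59b6e3a6ed655324ed621484dc71760aca9057842ec1f31e2ec654962ec38b262ec025a42ec0b6822ec1f30a6a6353163e6655983e6350263e62ba8a2d46439e57516a165750572257535020575376a4575218a09f40d2189f4643a243603b8243621b0247c11c1c43121b1a33e218a643623e844313da984310402447d0a18847d0a1841250a19a1520a1940b40102414322c2214305a0c1431e18a17a1de88066033243c351a083c31e7a23c31b71e3c30d1183c30bd163c333f043cf1e78a5612b0963cf23a263cf1fa1a3fe1ff247ac5a6083fe4f6943fe1509cb4c3d6069af0851a7ac6060a7ac6060265a1fc8447423a0a3f41fa16474606184744f6a4c0c14d20c0c150889ed32d0c2a61531465a32d262a10218a2a12a51865a2a502ad637da254a,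
  nat_lit 0x4aaa03914d022391108a43914d01c46d446a246d23d2446d635827ed6e924c6b21b1cdd25710abaa3b724ae217288ae24d9a2ae23ba9eae255e98ae25d516ae27ac8276e17886f59613a42f160d262f160da4c2714fa4c1b60d2429f7ac08c1a56504f585651c47a5650ab631c008aca5b196aca14122aca108a0aca4d026aca5e11e7685649c2ae5649821139e20f0d564844f73b424ac9142a2ac95e020ac93b420abd4f69cbf05dc1ec0c147a0bf05f824bb861fa2bb878694bb87868abb875f88bb85dc00f565dc24768766087683198aecc1b5066337661663353888bc05388a7693b496a714570aa71457082864571627c1b31a8ae13e0a8ae2b90acca665165726a61ecca60c0cb43183a6c1821718c185a194c183780ad4c6a6166f01f702d4c2248a3ee2249818b429844491f7164490369a3ee222263ee47c20444222183f31f9823e603b883f30fa863f33df203f3172a23f33df1674e3a71c4583dba674e0c5a274e3df0c74e089087b70b8a21850398a1850b80a4870b80c05e091861704b39c1702439617002f141702290a07b03d964524162212303da045503d8a00b0059607b22b2607b091a407b0120807b0b3880240121c004012041650120a1690b49602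40b40a024012161680b8a60240b8960f00780a1711b31c17122b0c0b222b0a082094a045604116456059144560c68c1220412418d041a018d1be1c18d0911418d0918c5bf2df9412308d0a01c00e1611a0910c59b2cd9412200ea012239b08687349069ea06f0663e5eb8867e06a080175ea0867d06e0628501e062553a506b4755e8825f35e882a05b208261330082a132d060d81fc86c3f32f082a600f2012300e241230408c1230412200d15898082005a4082023202b1330a22b106ea201700e1a0dd1580c0dd00e0a11b08d9601c0422011b40ba211b040a611b5e12065e6a186bc214020bc21581ebc21901abc2158206600409a2b0022262b047c062ae0221e2ae149202ae040a200c2371c081005a6081190207753ba8632323d2246e2128847a23d0ab5e5af1647a12a0c7753122218b3ba9425418f96b1f58f8a31f14004b1f4e6027ee3e2849b70c5825920c59431d0c5962540c59e1ea4dba418b12a0a18b18e8c18b3d89c9b71ba889b74e62295738f089cc7aba2b1f7ab88f577aba01697ab84f4b7ab8a8e147096f5719c8af573208233938f0a3393209c756320a45b206e1c6410831a64131202358108866241239c6241c00c624147842111901e2111902637c02f2037c54c841f502f061f52c41c1f50faa60311f21c9934c9a01f5545181f5191261f508e8c1f54c98a5592ac969934da1e559194a25594da022ce4da089b44da0a9b34d9969b40c5229b4562a49b4276269b41ba0c7785e002374446a43741b60637402da23744299e3742729c374,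
  nat_lit 0x86027b63db8a10c086167b72df9e10c3dfa610c3df2410c00d8810c3df9c4521ee847bf0be067bf2cca67bf16f207bf2c40617c4c98417c1b70a2dd16e8204b16e8859b16ea039716e9636e1b3242dd4d596ced522209ab6768a9ab4d5867c8298869ab298820a42988c42c2989ea574aa86531216145312e20c5310c08c5c42e2022922e2083912e214181312245c40b7086240122216e2d90216e0c2a616e02d8a16e02a8c00819a0205500e060550f908055004140557ae22a937ae1e1f57ae1a83c7ae261f27ae0a7503a816f5c3c59af5c0b3a6f5c0b806f5c1751c6ed60b16b0a5850ac1635e84b0a17502abd5eb84cb765b8a6e037016cb72ba9ecb731e18cb765ba22ec17524cb73c59c2ea025a02ea4611ab0a0b2a08c23aa84ba93aa9a16507c847551539cc2b1c996ac9457203931c99e3fe1c9980603d42639339b223935648a3933d41e7ac1cb9a7a8346887a806f9e68d0779a68d7861868d39c2468d1a98c68d7860ab805c016f0c42f1cb8012f1eb803a51a85e4358a5432a19686b1511a5430521e53a299040a429e220a41491a0a4054a0555053a45552aa982b129e1c5556b20c9f14f894d644f898b8329e089f16db949f17539c53c3b41aea76db98756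2bf82db70b318951012021660b31a11d08b9e1664a78a1664a79c78b1911894f6351ec6b6e91c9b84d2842e7274022e717380f5a21084acd6b4827fe0c5047b02ea024eb4db9c5d43d81e9cc640029b86838ac8064016d076839e714683a699319122d075499ed074e608d074b502d076e91ad0764f9a96a4b51c3f42d60696a5b39096a42e08b6742e04f5b4d29085c27402f5a4d28879e228209a52c40c9a52280a7142238445038a16450479264473d81a8f213602b101ea2026c19f0c26c566863d45669aabc6dc1eacd404a6acd6400aacd1ee825596b4885592aca4c803eb82bcd640047b66401c4ec6401abcd27426c801f902d96430847be2ea084e805f885d43d8245d46b4a47b02e608d69387025cc05f941f42e9020bf2ec240bf07ea20bf0fa0c0bf15a82b723b7164ea1f61e4ea5b9184ea3bba44ea27520f432750a76e272084ea2700810627b8609f28808665529065074d0046e037008c27024062c7226866ea5d3862ce7a5883e318006f423df143321cd961a40d20a39b199220541991c456237163321990a46e1949e39b3df0a3321cd9e1153a6840f707ba63fb3cf243fb07ca23fb176a03fb0371e3fb0c51c3fb336983fb1ba963fb18f143fb1ba8c3fb18f0a3fb21124c1665da0c167a11ec161639cc161fd80f4d67296c166728cc1660b00f4c60d064225650442221100f58178866ee3b7046ee37700f590698463c198821ea1932439b1fa0832651f864741e3865611e7882c95d522397030203961c8940600300c3911c88236a1c89e3cf,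
  nat_lit 0x7b922f737b4a6f727b888f727b894f687b426f717b40cf717b818f6e7b604f707b3a6f707b7a4f707b798f677b584f6f7b718f6f038a6f6902b26f6a7b424015050a6f6e7b3a4f6e7b11af6d7b6a4f627b224f6d7b602f6d7b6240ab7b2a4f6b7b60af6b7b596f6c7b324f6c7b28af6c7b58a0ab7b104f6b05596f6b7b406f6a7b408f697b41401500a8cf687b284f677b314f657b3160ab0558af667b28cf667b204f657b1a4f6401f98f637b12403f7b084f627b08cf5d7af86f617ae94f617af84f607af26f5f03826f5e03820f5e7ae8c01400a26f5d00a14f5d18e9ca5852c0282d3d80aa5852c167b052c207ee52c0a45522a96a580f488a582539c1ec5389c8af018221e90f49aa710f48a7470f49e5d80b49e1e93a3961e916e8a1e902aa233919d9413e19d9605d0b8a433b02aa633b02e8a33b09f0c33b16e9c33b09f0a2de16f1613e3a72213e38ba413e23c0613e0400c4781dea0a3f164a282823c1e4d123c207f423c140800912047846e244780839e1223d3a41070df227a746e1c7a646e2245646e0a47c23e168dc22aa48dc38b888dc0b88a7170b88438338b961710779671738b9c142457987170b4a4717590207170778c71759006b2037782b207aba4b2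018f0cb2037788d443779e0e9375266ef1cd986ef2761631b18d8239b18d9c0520f99c31b3bb8631b2722631b2760c31b549841f30859c1f34c9a61f31f5881f30f61c74e1f59e74d1588a1580ac162b11470c0440221428e2a8960a70538a5510699c07912a1a03b1f58231c5af0a3eb1f5860733dba03eb2e2223eb5af143eb03c983eb0c5a43eb0368c3eb3dea210c190822c73de969cc3de9c3211c0227bd191067bd087087bd1f9a47bd4e60a7bd5d6087a65d604b145d60a3c11e096bac40b88bac1e0986ca270163c11e08a4e012f843c1033203c11e7a63c117c0253a5e004355268a07f2080264d11991e2f81aa9c37c1aaa205a61822bee3a6202f81aa8c2f817c143553b418355108a63553bba22f861820d5545786c3056496c30343228af47c166863430a8f8564886860f59a68931984ac906908633319a06890f2a2a71344a41e5344860df6b5246893d40a6893c60c7ac3348878c3851e78c3d61478c69da46695a61cd3b53b0c3fe1ff14a766b51639338524d6a1c98ad6a2b80870a0f61a56a0f2a456a3222256a53a1a1ec018241ec228081ec1b822a74018181e6539a41e61ada2a735fb8435b1312635b3d89835b26da6bf73d786bf7410024db38f02820131044200f5182621b81a74d02d8237058e0e7a93d506b1c5e5847aa0c50e7aa3d810bcb45a86bcb5b18e8b5086042b93d82214122c205d407e8476d05f8c17a0bd140bf1df0a5d83bb8466d2ec163be5a384a8a12a045510ac021000c584027192025d81c6828f23d80410b64f847b7,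
  nat_lit 0x54896b4b28026b4b730a250041e0c50069d8670c1a982d3b4f60ad3b334840da69d969ec5e7946693c6184a73348cbcf5a3a078c5fa82e612b522e61730a6a717309eb4746786e6177b96e615faa28cf5fa8a7a83d416bf51c89abf5564a4bf55f826bf577b88bf53469eef766402ef75d49aef73b4a4ef7362a6ef73360cef71c898cc8237188de574248de79b22ae817b20ae83ba98f364a38c1630b1949473ba84163011a01634a3021634a31c4204a31abef4a31618a676a694620f2494638ea2946368209460c50a9464d6201850b7221c80e40871d0e41ea444d6261c8298a41c846b8a1c848e1c9ac4d60836d4468a9ac4d61688d4d60ab1f58f969ac1b2269ac14402041144229b71440453a14420b201440c3641aa862881b21428858fa4288312262881728c2881ba0a3641b222b5e1b218cc01b216374579a636402d063643120caf33a31caf35798836e19ca2af331216af379e1aaf3298a6af320f8aaf366024f3c4a222cc06650acc03e31cae75738c70c38614ae75739cbcf573a48df4a204ae744420ae74a20cce5672949441520286c1521e0436129e2a4146242a43208a2a41461c60433d1c8df46fa428c5e7208df15a1cbce1419ebce4441eb6f33c1a88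868e8c55933c1cd1d2ac94d1d566a6d1d3bb96a4b525967b11d620a4b5259c3f320d06a4b3d88aa4b3bb8ca4b17b0241a0fa8c41a20d141f53f11c41a2ec2241a0398641a2e61c401200823342009a6331c9824011b30a40120096366200a41e92439e4010f5a24014d4a04011c686081080840e90808a38d1c69610108096678512944d22690ca25512862114299ca2560d1ed4c60d9e30760c1c29f33c26a250c11c38f06e0267860d9a67833c162c9123a09a92171c6784d4866781c7a26781648a6780808c6780c2869a92e2208bd0a01e8bd2c88c8bd45ea033545e9459145e8c18545e868bd0c2948bd20c020736dd9a418375184183f682dbb15716c2e6170a2ae39c06c2e1af082b50a0200200a0047ec0a00a5b72db961402c8861402c8982ea19a86591172a05912bfa25910f91c5910589e59115a9859131e265910890c59118c8233519aa07b719a9432b19a9605509f24335243a633502a8a3351958c3350a19e3350908a47d190a24521908a121090963214162612100e2012108a221210801c1211de9e12123e961211f8a211a1f88a8dc400843f12ea143f11f88c5d40f7063f146e163f10369c3f152c243f1274201ee0f71c7fe018941ee0f70c0310831c1ee1e1841ee08ea61ee2e9181ee7bea63687b286f7d7bda4f7c09386f7b00e8e1277bc8ef7a7bc04f797b404f787bba4f7801f24f7701f1af777b704f767b986f767bb26f757bb0cf757ba94f767b8a6f767b88cf767baa60157ba06f757b804f7500a94f75038a0f747ba260717b9a6f74,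
  nat_lit 0x7b79a0637b8180631d280f767b6263a67b5a43a67b2963a6055943a67b28c3a60558a3a60cb80f6303180f6e1d300f662589c1c00670a0aa1b39e4ab24e944af24e8a4af24e9c4af257881bb0469e4af048a24af703124af0dda44af0028e0310160600502b1233e04388493249920920492049d251a208e24e9e08e04700f822519e0942498849804a12f8604e1209a704084d726c06a2224c124ac7c386f84511121bb7c306f8525292e0824ea63180451231824e8831804d924a418c00f81251a408c0071208c25200f7f2518608c04600f7e0e01833f1b39a368189902f13770e9553b7103971949076e07e8e46e0472409404a1431818c201bb18c0a1bb256224a40461c4a50492408e2522608c252243182561e4a40459e08b18c141bb256241bb0dd9409302b1a33f0498c1bb1b398340256264a50488c4a5252940910460a4a52529608c04a0a3181b41a1c2016181c00460c0920491408c7b202f5d0e11e02c7ae861c20e12402c02b2634002b1e3407b4063401a000f6a1b4241c07b2861c07bda4a370e000f7d7bd06a3751b80f7c7bc8633f1be0e18119fa6367049a608d048a408d7c2920917c2120937c01208d0079208824c16e0624d06e0724c86e0624c0808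824c20e0624c1ee0624c0ae0724c0ce060440449804402498703964987039e498704184985111a49824c244987039ae067038aa2224c84e0726b82e0751116e0751120e077041ae07703a6e0770414e0651114e0870422e067041ea227041ce0670406f87704044997040ae067040ca2226c04e0870426e08044184990441a49a24d204d826c1849a24c984d726c1a4d726ba24d826ba04990442249924d220880441649924c964d724ca649926b8a4990440c49926b9e4990441c49924982087249a24937c31c4930438249324998493249a64937c30c4937c396f867c3a0f877c31ef877c002f877c3a4f877c398f877c30af877c320f867c304f847c318f867c284f867c326f867c29e0877c29a0877c2a20877c28cf857c294f857c21ef857c21af857c2a6f8504508f857c214f847c19ef847c19af847c224f847c1a2f847c20cf8426c02e0670324e0651118e0651124a2226b84a2226b8c4d826c144d726ba64d704b864d726c1649a26c264d824d0a4d824d1e4d87c194f837c01ef837c01af837c1a4f837c022f837c18cf8324e9ef827c08649d04512f8124ea6f817bf86f812518849d251a649d24d1608824d2649a0440a49a0441e49a7c014f800439ef800439af807c024f80043a2f807c00cf8004d92f7f7bf24f7f7bf084a37bf264a30442608804394087043a40870438c0874879c7686062490f54ca090f0ab8c7c64892015733088157011221573e314157098988754890c24e127149126779eb5d76d1acef72a8ab4b5a596e5555f0ae555a58aa91,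
  nat_lit 0x26aa44d526aa04d52499e4d52a59c4d526a984d52a5964d5249944d504a124d52a58c4d52498a4d5703064d526980f8424b24496043a24967c1a04960439e4967c19c4960439a4967c19849624b144960469249624b0a4960448849632e864962a580f8732e80f8924ba44977c222497043a04977c21e4970439c4977c21a4970439849724b944970489249722200f9a24b8a4970450849726a8649725900f8826a80f8611f24b2027190b2011f2016911f22b1f11f148e111f0a8e10c1888e150a048e111f1633911f0c339548083396278433924da42ce560102ce24da66ea6ae0e6ea24d9ef4224d9a10624d9671324d8c71358e8471324b00f8024b80f8524d883e359000f900b480f8f58f80f8e47080f8d19c80f8c16700f9637500f957a100f9408300f9338980f921f180f9111f00f57276a609927624099275a2099275200992749e0992741c0992739a0992731809927296099272140992728c0992720a09924d80f4b04c80f4326c9add224e1ca3a51d00f9d11c9e11a3180611a08d00f9e6e9046304b51463007f1e31207f2458a3180c96a05f920152d6200fe07f1c1f4318080fe53a9cbfb1ce06a7531806f9e4bc02b167ce02b151ce20a341ce247a703d9c39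c01c240050e10603811c9439c11c966305600e2576ae1090726e0216f7cb82d8324e1497824e16f9c24c90f9b24d0ef9b7c290f9a7c80e4e3271864e3578904e2271084e226e084e17cb88f9926e06f987cb864df718024de717824dd04c144dc04c16f9756010f966ae0ef9558f0430624d9430658e84f9224d96f9224d10cc724c8ecc77c28ef917c010f9157888af17c6861837c606a9050a04f8d11f14f8d62784f8c11f16f8c26d14e3026d16e2f26c10e2c26b8ee2c7c20ef8a4e68aa5552a969cd304189cd52a844b01b3a6a5519f9ea554be98a5515a92045003120407b21263c14112f6d4be844a32550497d1b42697d7b60697d0e01c97d3041c6080688c0d1068940d1055a20d13040a3681b41660824e8c4aa255060947c4924aa24e964aa252224aa04a244aa268264aa268064aa26810321049064d07c3924d018c224d02521e4d0049264d02518c4d02580c4a30499e4b02519c4b0257864b0252a64b0257a44b0046a24b0252884b0251a04b0251944b07c48a4937c48cf887c414f897c008f897c41ef897c004f8924996f897c4a0f897c49af897c4a4f8970386f897c40cf877c426f887c41cf8704712f887c420f887c188f887c184f8851106f887c394f887c418f88055160ce2589e3682d00cf617b0945a02d024f6119f9c4ab7bc940ce0670cf79152900a87bc2619f01f2419f01f1a19f7bc1819f7b8a63a57baa43a57b8963a57ba943a57b88c3a57ba8a3a57b9863a50cf80f777b22619701fa41977b21a19701f98197050a60637b3a4063,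
  nat_lit 0x2b0163d91eca60ce1ec8a56040b9012b09590853158064490951010e1f40e1422248e0b30598e3e800f0e12d52a883d9217102b01eca40aa038222ab5a89047d155a60700382640b0512440b0512240b0382040b05aa601400a260b627ea40b627e960b600a140b616e920b627e8c0b600a0a0b60e1080b620580f5e7af260a27af200a200a00f6005524560067165600670c56019f88560093a42ff51b882ff13ca62780cba427813c9a2780cb9827831e1227805b00f5d7aea64fd2d0244fd2d0164fd7ae944fd2d00c4fd7ae8a4fd05100f5f0cfa42710cf9a2712b000f79129260d0055a40d01ec160d01d3140d017f80f7a1ec0c0d01d30a0d00e0080d013c00f6401fa627501f9a27527e80f6100aa60bd1f6a40bd00a960bd1f6940bd00a8c0bd1f68a0bd1a0080bd13880f7813aa62797b22427913a9a2797b21827914112279031a62ac038a42ac031a22ac038a02ac0509a2ac1d5182ac06800f651d3262527b2a4252055962520558c25213a80f62038a63aa038a23aa050a03aa05e80f68055a63d81d3243d8129163d87b2943d81290c3d87b28a3d84be883d813c80f6d1d2a60be00aa40be1d2960be00a940be1d28c0be00a8a0be15600f67050a43aa7b39a3a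a031983aa12900f6b1d500f6f7b4263ed1d2a43ed7b4163ed1d2943ed7b40c3ed1d28a3ed1d500f697b3a60710319a071050980711ec00f6c05f00f757b480f6f7b4a20a1031a00a11f680f7103880f70031a2f67038a0f677ba88f6705080f727b380f747b9220637ba200631d28806303180f73204865a00278629f185083a85a9869de1d3081970670819f1282465e1281e6bd1281c6600218625012a9c03b13c063d81f6880a101d8800601f8625201f062510090609e27e880a205b0840b05e883aa153880a713a860d01368656017f881371eb0606b21c86078155860b5156060be003860481659c0481679e0e141694cc76638c82d416882cf1678ac1a60d162cf024262cf1f40a2cf167963e86a606d4422688c180360804e180082c6183863e300f861311d48629e2a38813827e080a61f7086601540824e03c8804406c06444487882574f6889073d6082595dc089787038e65a32d0ee0624c90c0c24d0ec0c24e06c0c60600f9b04f064fb26d1ece967480f8b26d084fc277244ee24b224ee24b1e4ee24b1a4ee277144ee2770a4ee04d884ee269a44d3277224d324ba04d32771e4d324b9c4d32771a4d324b984d3269944d3049924d327e00f8a2698a4d304b884d32a5a454b2a5a054b2a59854b2681254b2698854b7040654b32ea465d32ea065d2499c65d32e9865d2499665d2551265d2498c65d7038665d24e08444259244b2259204b22a59e4b232e9c4b2259184b232e964b22a5944b2047124b232e8c4b22a58a4b2277084b2511064b227700f83,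
  nat_lit 0x26c1209604b06096255220960469c0960471e0960499409604a160960488a09504a8a09204a8e09526b9209504a8809504722095046a00952681e09504916095048940953d8125a024f9232b24f8623f01ca423f16710aa212b8eaa256284aa22109eaa263598aa2562909b448390d80560048bd3750ed804da04d804a79843b21898873439823214399ea370988687312384b221ce02b2227384e2e26c94e2e27304e2d26c96e2d7159ac2732d02e2b26b90e2b26c0ee2b52f8a7a727690a5f2718ea5f52f86a5f2c520a5f2df9ca5f3d396a5f27110aa32760eaa355188aa32cd9caa358b8a82858ba033e52c1cb1741416b171ce08b176a9044e55788e4ec1f11c2c7036063e241018c4f6a92641838f04d523851ac905b20aa147179873650a0668750a2270a6ae1864450a16b6432224a1458e8ab942a884a905481a5005480a1f20f916a905ca16b1d5789463c578a68bd5788a63c4d29e1834d1821832c98c1830c1945930c18639a3c308b1d002a403915b22183243a2af1590104ed2a78e66103c864430b30843621a861651c19005e19a08430096863832108885f6092442126c9cc122a3864d915c984dc0b78296a0b7947b73db8c16f0b7864eb0b59c03d0b58a8a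f4579616b0122016f0b5980240b58c3581ac1416b3f6204de271a25610be204df5fb8a4e2271227af26e880ad270887473a31e4e131f1e4dd5b19e4e240c9e4e304c1c40d26e0640d20680f985fb944e204c164db04c0c4db26f884db6c1844db04c224e026d80f9727000f9926e8235e4bc0a35e617044de1af1697824e162ae24e0c2ae58a842ae15700f9c48396bc25e10a907483883ee01c0e23811c08a3b18d085753768671609e864e765d8857732606b43181063e605706572353080eb350080e900c060e116b066f016a06b14165880492a886c2b4799643972a9a4fc61598c4404f1850021c8a8f32df84ae32ca020b208d0480e21e824524aa1a2a71851e9f103c1843d4769a30a5ea1c2a8154205235a82225021790b5113aa219713c2003f0cba227913ca203f13aa02781588e2a60a10e4491581047c0938c3e11f09412751d1cb5327d9ca3851c082a73181c0fd07e8230207e964e02700a0fd26da08093d4a0d1d3d4a23c126da24741e7a0bf7566a2bf74d01e7a93b71e4db5fb9c3153d7944a72538c7af16a24a3b16b22a3b35320a3b24d9ea3b60b1ca3b1fe98a3b18006a3b51d80f4215406a3a2aa8e0a90381a409051182ab051204092049a40b2059a2ab038180a200a0c0b505a940142d00a0b505a965a02d0260b5204a02ab136a22711288c0aa1382003e0cfa226d1382219f01f202711ec8c251136982700228e2b41382426d01f1826d136a403e155a4409128a6560128960aa128943d913818271138a427006726251204a40a2138863d9,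
  nat_lit 0xac8665c72a8465c06c1465c32d988dc06c1665b5e6882af197860dd0b38228e155044bb0919a2aa06ea42aa154928a4122a02a915508245155220de069882aa022162aa154968f847c0a2a903f9c4741f20607f02ea007e236a207e2372407e02e2607e03ea007d0c69012a2248418d0c68a02738e9011700e0e11d2580e1705f80a44301da22571471204109e128ae2731215912c92b7212ca403b12c9eb64022862595b784259224962594d61068d3d40e36d12c8a449224867a8221a02554839e7a822196bf03d4244430f28c443221941e51c28c5db212a23851411e3855e8183852ed943851c2a6809251901702008e07b012101012370e1670b3a64a60f9244a6549a04a631e1e4a60fa9c4a63c59a4a641e184a63a8164a63a80c4a60b8064a625300f5c24e901232578e12302fa038d27d9aaa6091824fb0918805f22b04801163821230139618d0910482d00e04117012a017c0bd1e02503e0a45822c1607c2288207b03e044570128807c1f58407c0059407c091083d41360618d0410845000290030018080092282607a1f20c07a03d0803003d1844d03d143e41c6a407a1f48cba7228045495d39a26c60d903e932f0e3e90c1023e921b263e91f19a450389a23e9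3501c3e938a183e95d3943e91f38a6ea375163e7389a63e738a983e72e2982c10361c15b48e0415b0ad80fa15290491c48e04fa1037823e526f9647b23d8a4df0e1920660df1202c0df0a47b23d961be33c2247b23a0647b2509a3411a0824a31a0904431a08e3e21a0a449e1a0a60561a09e0561a09c49e05f0634109f8847921e844790401447923b9c2f823a0c47723b9e7a723b9447411c024771de864775e70456e6398abce5e716c732169cacd2169abce2168ca3f51f9442d216843f96139a42d33c2442d21526a450580842a03a9442a2141641e1b2064283a32042820f0a4280148a1430148c00d0968e029041060290b89c02901e98029006940290a1960291d312288014121970140a1420140c00c0938e028040860280b81c0280251a0280ac980280a1160280061402808e8e0260c29c026013081810130a1830130c1820c1140260c1960260ab9802601d162421229203a1210a03a0411e05c1be2605c0f70805c1b1a405918b8205900a2005703a1c4251461807403a161061811404e0270c3021f31c06c0830a07403a02422210820741f606074037843fe0378e4010379e33918f8606f00d0806f0051406f1ce8c0b00848c58a05f12106083a201a2c51410900d160fe0809001a07f0a01a00d1810400d060fd0832001a0581439d084a601a00b0c01600b140162510e4a22511e4a22508e4a12509c4a10e1a002c048041c3045941c30478434304596343044101d40440e1d424a144940438e4940439049424a0c4940498a09604a0c09604b0e096,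
  nat_lit 0xc4a00290c496076439841892579018924e8e18901324189037a618903b0a1891a406a2c4168e2d451c8e2c751c8449d51c824d051c9e97d0e024a39258a6a3912906a39692a033f2ad86d251b414d251909219d4ed0819d1de9019d1b20e19d3ea0a3e11f0907d433d047d41f0967d432884c14365266dd193125a22ada65a23188c63131894631068a66310608c0c1060940c12b1a60c12f88a5622b1165f12b1265f11a3a63482e78c55e2af145cf2af265cf5ea04b9433e02ce15710cce167094ae26709abd4670a64ea67086a93276a2ce11ef0413f0b6843de2151c4d25229e1c84b386a450b6a24284d61c42a2150816d1fa843dc215023dc0b8023e21eb821701eb9a2ec52a903d74be8e3d71c1a63d751b9e3d76091c3d75d218ba42b1945632b18c563233a0467233921692b18846713c944672fb185f62fb121402b1085f613c965f6199929da2140e9da23b909da1a38451d0509451d2af0451c0509651c04e901ba27b940a50528c4f7108840a527ba009d035103831ea0206a0f60806a0148606a03fa206a0069c06a1e19e06a0211806a0348c39d7bd8e069014060690f58806903a200691e11e0690061c0691ce940690341417c0be0c0680340810b0341e081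03fa60681e79e06803b9c06701d18247033a60740338c3c71e394067152180670210c29514d1e04214a940420320c3af1d604064021260640321e045032163af032222a40d11e06401386fa300494fa3030a239b0309a2951ce220611cea40610309e1290309c39a013060611c984061004960611938c1f3635043270f9943275629e3272eda43272aca63271f290393192903e53779c3251928843103a0e3f10f7103ec0fa0e05c0801002419a1045103d8e400200043252289e3250b32432502a823251e1023d4346908281e10e7a83fe243c20a1063c2414083c21b69e3c2151183c21aa22d1d1aa0c1ee0f7143546769e35461298354365223c0191823c0200143281940c400029a03283c7183281941c74c0a00632809088328033163281b19e36b4d298cdc18308cdc05804580389885806e9169894c48add213f049895890a23811c16b1235306b1231a9cbd01462263532fa0bce5e724635639923f906f9235319792bc161f922b07869cc2e1c9929ec2db926080689263000b260d112912077068220162c5120d03f1123680e0124291479267e34912d555ff92bc23199279b612922a84ac843af4ac8af0d7869695921e92a765ec92bcf3439273c1ac12bef5f012ab978692f0d3c71270e4f5121a20a9125aa0f81267c1429280e4aa1263e06f126864f692bc01f712b8456492b50069926411421244406e9225506c1201700b80fa230020b4f5fa8cb4f5a794bf55a7a6c305b922b4f5e80865f479081582239e079147064472238c65c32e1444732e1ae8a,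
  nat_lit 0x29990d8c4498ed8c1f088d8c219a2d8c449a0d8c2999ad8c60c18d8c1ef08d891eb14d891ee886a51eb166a54ef04a0615b8abd844984c27178822b7023102b70288e2b742f882b7450202b7624182b721b9a2b75ec162b74498ad146e60e8933ea0889344fa08936e61a8931599889368a168936ba0af2579296d744412289c5ec1a94a196a6d14196a4bd84f90832d4768432d1d49432d3eb88d341d496d34018041b21de821b223e90c482178ec485f61a46d188a0c4823e98c48022902b30280e2b360c222b3188202b323e182b317006b0a14fa22e066806c6d2800494a1631494a090986f937c84c7337ca06f0163166f91f69206d11c062e1158903111848e31160d88311028a0311041183114501a31102e1830e0541031009c8e310187220591b58631060d083100282031044f9a310040983102948630e0279430c22b1830b185a264c60c0830b5aa0430b0279630b0d18c52930504c90294941a33050a36b1b59660a02c9e1a30d1a636b0d19a36e018021a31b2041a33308e8a009d208a02aa9a8a03301089f60c0e89f09ca089f2191a89f3b6a289a44e0876d1f98489c09c1489c09c1689b6638489a7158289a7158689a5110e89a7041089a2190abed03b1043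20408e4326e622432054204321581a4325f6964326c18c5532a994d835e11a55329e2655306ca04f527a980dd053964f56b22655003b904370410e4372aaa043715c224373309a4376e60ae8a2998edcc299a2dcc3301adcc74516dcc1281ab5421c96dd4028902b80230e2b82a7a22b85a89a2b8052065332a72253315a1a5335e9846c51421abd360a04d721d414d720878632c4f88832c36e8432c1d41632c0549e1b1087a01b1052241b10d8980411b2021b1018841b160c1054e3300e54e6a20454e0542254e1529a54e2199854e1481a10f7160254860604548716065487040e5485111054809d105570548e55744c1ace509d22557184985572a79a5570409043303b0e4330938843309ca24331841843309b9486e073226d536a84a7536a9a0e9164846d509b966d50249c1041848c0e91530e3091f488309028a23096729c30903b983090749430923e103082170e3081f4083080282230860c2030803b183080ad88303027143030271c30666e0c30118094cdc4ef023014468213509a9a2f60288a0230288c2d6189840510271e30517b1c0510329e0510069805109d1a05116b14051011960510280c01815a0e050189040501678805002c9c05009c9a0500061805000c140500269a06917c0404d032a604d02626059026242f6026042ed02f1804c2aa9013a1590213a0549a13a09c842b65180e1be2988ea30151109ab3e40e67a1528e1390541a1390dd10130047864b71b5821c818b0c1c8578a23160e41431618b265c418b24b1f02c0431602916316,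
  nat_lit 0x1549846a235223332351407e2351c122235263320802246a2500a9804c0164a01709a624025962e11708a04b025862e0055125590671e0160689c251424188480cb9e8481389c5f62fb00fb0067205632b01e63131880fb1128a00c1060a61280940c128094084660941e3a6094141284b3925ce00e921283d48677b080a277b4b52077b1ca9c07c1ca8a9574ab96395128920b21ec929a93bd86332078120ce1361203e1be0a3951ca9637c0cf924781ca86457004940620048a0620138606203100fa35af223954c0129464c01a4a20dd0423a11fa423a01c2623a11d089804c0024af4c01897d268029804399098027d8e98024fa49800e12698024f9e9800e11c9800cb8a4662f49e27528f9274728fa45e928f8a0a20511651f03e8c2782339a4660608807d2339c2ab03ea446703e9c07003e962782332407d2331619758b92466233224660f6120703c0127f21bda205c1aa0837b1bd9e3151bda646d18e120a21ba2237b20594780205965e90e6923fd01c061cd2b28e1cd170901cd13894848207a240f1389640f5030e1ac503901ac2cf0aba72cf0cc1b3508aca0650166a16591aa4565924ca00a19059e05a0e59e5b81ecb26501a42a6240659e2691859e60d9459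e5d39659e5b80a44d5b80cc1a4d790b1416a0e7ac12c90b701678eb7015986b7016a08b7022696b7060d14b704a506bf337c86ca018182cdb4048eba55229cba55d28e9a05d2a44d21be08ba55d28a26c13616ba518102ba51d3864600a586fae2031e531522a64064298a40620316853037a240607f084061352026a1d5a23ab135263ab28f1a34628f263461d3a451d031943a70a5a251c0a59851c0a5a451c0319614b0028202b0d88e02b0d91002b0dd2602b67288c19186066b215082fac1680ac1b1680c3e91ea0e17119d90ae222b10acd0b88e38038d8e0f0565104564008e42142f902d01669e6f9400882d0028862d03781c2d051f982d01f4942d060d962d0414182cd25d882cd025062cc437022ca4300a72b4300c12d395908602ab86860096948603959686043706a7236a86cd96c482cd839f8c9a34d19473f3528273f39584b6f3958aeb009d0672b7581672b4200ada44200c12760d1084009c868406d21684009394840099868770990687675804d4c7580a85f5d390eb055108eb045006eb042f96eb06d20a7d41f710da42268eda444f86da46c008da43ea16da471708eaf71688d1744e06eae44d86ead65902fa93508c0e1070986a52a7906a14500e6a15d3886a1624206a1184a26a16139e6a1217986a121c1a6a1070946a16541a8d7672a2ca84c488cb218394cb244d9a6fa37d1431137d1a122716046fa663826fa663866fa7030e6fa703906fa185a46fa075a06fa1888c6fa0411043803b8e4380968843815ba04382aba243815c1a438,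
  nat_lit 0x31023944ac8c56a2b5149593850a7863c31670a1d60c3921c9143ac07e9c3923db9e392385183921c9261ec136083921b584392030143921c818b1219da03951ca9e0606b4a03901361e3901c8147c527d82390266903902680e3903e28c3902e21c3900e00c0c9064880160648c13b09d940c91ba120c90e0160c90649e0c9304240c90e08e44301c881c1250981c11f10e1c10e0844aa0e0a449f258041c124f9c1c151c9a1c1016241c105a861c1250a61bf0df9a05604b041bf0df9e1bf04a821bf0600426a3ff123ab2079a3ab1368c3ab1389e3a71d380faf28e9c2701d59426d42406aa15509e3d92079e07101f1626a05ea05ce28f020c52e7240c50629e2511351a40f1d5866311350a03e0688826a0dd1296a28e066202300a0c32f608a4c03b124340618a0b905c960c3062123163d7925ec05c9210a2e2125b60618446605f1c5b60619a5a0061964602db260c300a9a0c005d160c005d0c0c000a1e0ba06000fb513b860ba05d00fb728e860b91f69c0b92db0c0b9416123460319200900480fad03180fa4230224940e18846005c945b605ca64602db244602301a0b603e824603101c3ed424021283158a62b26d926310681c62b3159662b18d9256331592bf7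315a656305ea24342f60c43421a145ec1eca062b13b825ec2f6183d906226434062045e91289a0c40941a0bd00a980c106080fb62e70c0c5062945ce06112322061200ce0610414b061183a60610c5cf2e7940c22b19a0be1d29e55e0a58655e2af00fae2e7a60c205f1e5cf2e792a252e7869cd0552255e3100a55e2af166202af24620310180d024f94a2c27ea03471a380fb45160c49f2d02034827e9a0d106880fb2318985a02ada462c0682062c27e9c62c2ad9462c2ad8a62c31600fb31eca25cf0551855b067180bb217921ac2d11a3d905c0840f19c920b81ec9e0b800b180b605c26016129220b82741234802b9a2521a41605702b8a3485161e1bd05e082721291e0bc0dea04b102b861bd016141bd0de123e40de1860805e061bc016161bc2d10c0bb05d945a21d3200bb2d1260bb7db8c0c006014fb713b86fb7139820b905c0a0b805c160b8139020b813b9207a13ba251f13b9a51f13b8a070038162772f4a427713b0262b194122760cf8a27613b1619f4242027613b1827642426276139924e11399a4670511e273139a22731399807d139a446601f942731391827201f9627201d0e244023902440fa920c50620c5ec2f6140c40c1120c37da8a0ba05d16fb52668e3212668c4b004a9e4cd2561c4cd048864cd048a64cd0dda04cd258144cd2ad8c5a22d11455b2ad8afb37d99655b06820fb32ada4fb3250120f628f860c00b78c07e03f1416f2350c10c0861446a03f0c46a6181c2a906e9e2a905a9c5a22ad9e5a02d0225f1250085622b1204fd,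
  nat_lit 0x23b8e235214102350d6242353188426f137a22721378a1970cb9626f1379a26f1392426f055925612b080fa52e6120bc0e2049da0e2083400e210238056081c402b8c3471a3940570618826e1a40426e1370c0710389426e1d3a026e28ea226e28e9a26e1d39826e135a227613b2626b13a9e26b1359a26b135a6ba4135a0ba40628826b0608426b01f1426b11d041ab0238e1ab01d101ab5262652129024780316085202ad845200511452011d064f104e8e4f1098104f10e6a64f113912baa5518a27413a16aa31cea02745d61e2741dea22741ce262741c38627413a1e12323b1a2af691123f51d60847603fa447638a0647623b1e08223b0c2742e708ba42af84ba45d20c26d13694ba41391e26d13a144761398655f2af9e2522af8a55f2af9655f1f69855f0942655f315a455f6910855f1f6a055d5508c55d2ae94aa12e70a55d2ae965ce1a30255d24a185ce2e72655d550a455d2ae124e42ae203a62ae045f62ae0c55c2ae1455c05a9a55c05c2455c318a655c24a1e55a2ad203ed2ad0c0c40621455a2f62455a21a2655a28f8255a2f6069b94dc8a49e24f169b94e6989b92d1069c14e08c97d4be949c16929e9c16911a9c1516189c1692a69c16911cd226912034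052a9ea9d4ed042140d6a421410a0833f19f9214219892a9d1638ea9d54e844af54e9aa3926684a9d1a09aa9d255a6a9d19fa4a9d12886a9d23da24761b394d22303120ef0e02060606498606303269cd3031c9cd2af066061b3966060d692189015821ad1b2101ad1de8e1ad60ea04c40de824c451192a2325ba0a230de02a232678c4cd250824cf2680c4cf267824a2267864cf048a04cf24d124cf266944cf268164cf2551e4cf04aa64cf2630c090048144c6692824c6047924bc304024bc3d88238b13a9238b2710a38b1c41c2b91c586b631c5964e226e1c74d26e2638b1c71c4dc1c70ab173fe0238e03d8838e03d2238e58b9638e5d2a23861c318a404058ca405201480b405a0dd11c4a680b4059a11908c847741ee9e89c3529676d3b68a6a539f9a0fd2719e3861c3264df26f9411908c8a5c508c8c4df1be101191ea241191c41eb104048611900e08119318201192ea1c1192e29611952f9638c316127bd1c60858a1c6266301c60aa5f2df8838c0f51e38b0389240d274923aa0560e565056102e101c820ac1d5080ac1d39231e3681251d050921830c180fa6056261ba3181e5972cba038a23c9438a1c512aa11c5043e41c5265d41c50c47922b8438a0c59c38a2ed8638a1608c3891c4942c16a2223891df0238919402388551a03871c3a4b1738a223873d3163871c3a65c51c38a7a6212863870328438702f943870320438602f9638608e0a1ec08e0c21100e1011c0130e11c38e8411c40ca211c0b6a011c1fa1c11c0f61611c1089411c1c8121d4,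
  nat_lit 0x537223585370835e5dc1ca6e1be1aa6e5e126a6e5132237c2688aa265131e76e513164d140b9ea261bda4a2620fa2a263baa6a2618602a26376826a935498101639866a9325886a912d0a44a12d0c65e42f8e25a0230625a06a1c25a5af1a25a32f1425a2251625a5b68a25812c1e27e12c16b6d4d61a25812b0ab10147202565881625601e8625627a822531279690f1819a1893d79a24f1c80224f0c48424f51c9024f54e8e24f3d62424f4878a24f2219e24f5a99c24f2830a8564301050642b0e5060548650642b165062828a1263771077415b0e2f160d0e505054065055a59a5050931650528204b4f7309a5040500650204f8650137c824ff42b0a12c3958e8562aa868564761a856096168560930a44200e901260140e1262190612641e1a126221161267661ac2c0f81aa8927a86a896ea02c2a2ad0840a290a240a5261a40a5262440a3c0225201cb124083c0204082901a780204187802042678005d884082d10440803814408016921c80e20202d0028602d03d0e02d0369002d0e6a402d207124252e70440e28f2040e1a32240e0610840c2e78440c0389640c38f1223610a0423601c022360368e23603d1023605624236280121581a812a901a80a3471a39635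01a8043a71d3183501a42635002ba4350137865a32d18c0bc2d18a5f11cd925a32f8965a305e145a31d31e5a305e245a32f8a65a31c2043ab1c20c5a405d125bf2ed920c01c21205e1c20a0c0060163842d2143841f69a38405d243842db0a5a12d09e0bd2d0965b62d08a460230165a1061a65a105ca45a1233825a140b8212c00f1012c0148e12c0c68412c21b8612c42f2212c3ea1044208d844426e6064424071a44242f2644139e1a44155c9afb921f82baa21f9c54933e1a43f4798643f21f1ea5221f2086b21f040af3871a43e6ea0643e21e1a45122c0443c23c0243c4be9043a52a8e43a6749e43a51c1c43a32f1044a60d8e44a3e40444a08d8244a1588644a4bc2044a3221c44a4791e44a1249e03a1248a31918c962492e21a2490f2882494bc1e70a48394448224249782240c9072241e56a3db9a4485f8084482231adc703d824462e88caa113b065d12e89e0ce550945d12e88a0c5062965d1550a65d1062a45d12909aa4c2e8085212e80c55a2e8127772e80a4341a39e49421a165d02ad145d00671a5d0062245d02f6265d02d2085e905b1e5a4060245a405d265a4300825a40688462d3bc1262d316a25f63168a27513a9662d1392262d3169a62d1392662d2fb2462d55892cab3ba92ba413c1eab15589aab1558a6848558a4ba4558a2ba4558a08482ae88ab12b184ab113814ab15d4922703009e2ac3009a26a30092717300a640f300a43ab300a06012ae08601138166010fc0e9de258861f80fc021ac11f841ac11a820384db922350d686235,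
  nat_lit 0x2de08647204966472f4a26472f49a64728fa664730d246470631a0c60631e19f0632626f063245f60632226f063205f62f8880c600b040c613c160c60a0926565038e656503106564ed266562d30c5622d30a0bc2d31239105b225a605e165a62b1145a624a1a5a62b1245a605e265a6316865a6207063471a30605728f063501a7889e21a3924df08d1234f1a40a34f1a7963481a78a3501a81634f05b2034f02ba634f1a3a434f0cd8234f0f59240c4f11238d2e8849e228f229e21a31a9e2207189e2207249e21a3269e223688fbb0cf9e19b28e9819b0cd920290cda626e0cda43a70cda251d2db0819b1561419b46d1a40c46d1814b46d2640c46d2414b46d2214b46d2040c2e7888da310048da156168da123921b911f821b91548e1b9180901b9015a61b911b241b92e69216d2e68c0c22e68a620310165cd061145cd128a25cd1291a5cd310245cd061265cd2de0a5a42de0c0ba2de063432d01e5bc05d145bc2d2165bc24a225bc1c2245bc060265bc207825bc5e00e3165dc02a7113e0437a1bd1c05c1bd1abb81bd243551bd06b1f3b72237a1b6a037a525921ce290a07a43d206434526227a42051a7a4205247a45be88dbb6dd9cdb73fe0c79d3ce868dc3ce9c36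53cea21ee3cea639a3fe1297d5ff9879d6db8279d3fe1679d2041a5f82fc264082fc224082d1085f8316045f8155945f828f9a61a2f49861a30d1e19730d1245530d2627730d225e930d2051f1c20861a21a0461a1559661a0fc041ce01c861ce1808e1ce154901ce016a41ce72c8a50672c8c8576d602e595b490e595d38ee5956008e592a786e5942b94e5928316e596970a5056970c7cd22690d2e1f70ed2e2a706d2e6ae08d2e28296d2e3e694d2e71808d6c71788e582a506e572a486e5632d82e545b492a145b48a59d5b48c44a75810b6912b88b6933086b693de9ab6922514b692ce96b693a28213e3a2840f63a2a02b52ca127451729a7454bc0874532e06b0e32d86b3044d82adc2ce8a65e05a1059d0a18e59d5a88659d5e92259d4f51c59d2689a59d32f1659d5b88ab555b88c3ee16790b7112c8eb7176612b7115a06b7132d9eb715b91cb715aa96b711f714b715c5a665b5c58a66133096b8b23c1ab8b48906b8b5618a37b40490ac34d00eac351ba637e0349037e02e8e37e0938637e1bf00f7b3de8aac3561967bd561a44d146e1eac33b684ac31bd96ac318ba2ac314702ac315502c2d42b8c12c1681085712d0e85715c0685755f1a857096148573e68c442221107cd1f08e7cd299867cd0879e7cd5f79a7cd221147cd5638262413e1aac755f9aceb3e79c54f3e7a2bd33e7a610f1519a7cf6b9067cf69a02cea3c312bd40769270a54512a1f5aa923245aa8a25942010b552828eb5515286b5514222b556d61eb555eb9cb551bd9ab5512c96b55,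
  nat_lit 0x61e9a5541589cc3d6f592c3d53706c3d157a4c3d32fa2c3d5a98cc3d6f58a70e2fd24deb57188deb2991adeb38716deb2fd0a0ed076965fa1911a5fa545245fa417a057d68e9033b3ff0c82f41786d1d4d48a82f18f1e82f2991c82f417881710910e82f0b3a482f3ff1682f4d49482f4761882f6af984476af888566af8cf3179894d5f51c24d5f1bc02d5f44a8c555132a08952aa9489544aa655144aa0f3144e188954970c3734d60692e4b3a292e32e22a3a72c1864b325a0e5544e0492e72a9892e49704447497244284970642e3f6a092e1b99492e19c9e92e4d48c92e2c5161760bb0a58a22e861760bb0c025012941762e61e1760bb886310bb9e1770bb8a97d4be96177012921773042617711d8e7cb11d9055001c8423b0e90223b0d5a623b1368823b10a0623b09f924f15020624451c86a040d584a040e2a4a040fc26a0450e881c5190121c50e0061c511a841c50cea41c550e8e55050e907cb50e929ab4ed24a1d13a88a1d0d6827de0fc067de0d18e7de0d1107de32b267de122247de1a61a5a32d2123861a60c34c1a61434c1a61212f2d22034c02b9e34c2d0a234c2e89a34c2f71e2772f72425c2f70a5eb2f5965ee2f6885ee323845ed2f6923c72f6a461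d2e7a25ed0621e5ed3189a5ed30e8c5ed30e825e95229261d30ea055e30e980d12e81e61d12e1206a12e0a5212909625c2f59a5212f5a2a4c062085eb205225eb3d21a5eb290a65eb3d2245eb315884642320c275275924642db0446413a94464232224642331a46403e98464233a4464139a64643f10c17b0bd883170c49c17b012a217b3f11617b290185c22fc1a5c22e1265f82e1245202e1225f82e1205202ad885c205d845c2204945c232c12c1c0ce8465811f866580d90e6580d890658278a66580e72465860e186dd60e147af0528453e3d78cc1c60e022a01aa9ec1c1e0a6c1c29f08c1c4140a53e29f168282132253e03a224262131a635216a44261789a4262130467e2130a3781bc164262179c4266ad844261bd084264049e4261bc0a45016a0237802e0837826fa03782031c3785b81a378228163784070445d22e9c4df22e8ad6903e2045d6b49645d522a245d4df1c38e4df0a3213a8049be1f59c9be193869be4df24d693da829be190969be1c5249be0e9124d20e92419d0e9261f84be861d232b081d20d704656253121ae0e7041ae015881ae0a59c02105d820210640c021010940c80641a601064183ab0641e3aa0642626a0642440f064200c800b080c805d040c80cf960c80ce8202a0d21202a0028402a0d10e02a0d19002a0d62602a0d5a402a2d28a0bb15612a7523688a7553a80fbb2d28c62c316145a52d2847802d2922112d29a251129205a505d965a505da65a5316245a53c0065a50b7926472e8046473239a277323a22773238a409,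
  nat_lit 0x266045e512a125e50df945e50e19c5e52660a4b425a164cc266124cc26620e102662609004b184cc263244b42598a4b7511884b30479c4b325b964b325e244b31c39cd27693a099353aa0d2719e9ad2219e928280628633d60e8433d02b1433d19e224ab19e1e9b90620633c25b8433c02b1633c091921e33ef021e332c041e311b081e3018101e30188e1e30e2241e3507204c62670aa0e507164ce5070ae1070816a0e26798a0e708124c67080ac1d60e96e1025518e1060e8ae117089ec1d70896c1d26226e117089a4ac51602e112670ce11267124ce691024ce25c0a08f047964b8303024b808d8a1940ca1611b3ff021940ca220290ca260270b79c19423ca21940b1a094a0c9220270c90c47c0c91894a0c90a5d42ca041921cf881922ea1619223e14192251125930310a39f1cf9606209f864580a08839f1cfa038c3f12039f1c40239f05f9e39f09fa639f0bd8c3cb0f48e06738d823cb1e59e10e1e5826ee1e58e1191e59018160c9a3cb08e083cb1e5a2a251e59417b1e5a60671e58c326193143cb035223cb1c7a63cb561863cb18604ced09a822121090c11d1091e38f5130621208e942121e1a22121091c36c1091a9ec1092635410924323566a02125021420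11008ca0454f8620151ca0a9f31006a9f1b992a9f3031ea9f30324a9f19f8ca9f1a10c33f446923420940634202b223421a11e3426929834219f943424ca8862b4ca9c995556229956912699552a8a995556123302ae862041020caac556142045561aa55556184a226682aac24e84aac27d90aac4398eaac24f24aac1a026aac1a01eaac24f1caac1c58877a3bd049413bd0c3856dc12a4c0809c77a1c29477a2712077a270a677a54c0677a54c1e1f454c0c40154c0859269512a9825320a9816f1ea981ca02a9820094a9875f98a983a3a6a981b28ca986950634855084d2a1a320d2a4f122d2a2071ad2a28f18d2a28f24d2a20726d2a14a88b305980ad556aa96b3050a0ab305c21c4452229cdeb222987152228a5b22d91644559816a14225122b41d7922b10411240f1369e3440cd983441d39a3441a22651d1a22426e1a22219b1a2203a72d08834402b843441d5143442c91251c3c09a51c3c09840c3c09247a3c0a651c3c0a440c3c0a240c3c0a051c2e6887812e6847811d516781084827a81c11006a1c10e05e1c12643a096063826af9c3822b08a21d10e9e38c10e9656107ea421d16a0421d5710821d0848621d0848e3d4037904000800e01a213901671919e4272139a8df216a042703a264272139e0761810e94e3701076d1471094e213881004a7024273700442707e904271c7a44274a7048094a71a2e738da494e4658694e465822a6465845333eb0cead756947d63eb1c8cb3ea268cb21a8c8cb430967d64308c7d655e042af61e82bd061e94b53,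
  nat_lit 0x4c0a0a7a26202a7a3030ca7a2e6861f70fb8aa9d54e961f754f9e1f74c0981f719e1a1f754fa41f72388c1ec03f864714ab9249e2389c599238a43ac0de9291c54c204710f6144714ca9a5c3517985c32e1a0a552e1a49c12e19c9c105d865c325a045c3258945c325488af009d844a92549a08c6bb224a9265204a9261a64a925a0a4a96bb12d7625298d7657816d766bb24e1126194d762618ad765780cd762619cd765781e4c4578084c65071eaf026220af026726af026208090267084b425a1cc1d267064c32619e4c6262064b426608c1d26308e11261860902618c4ca60e924c3265144c3708a24c3708204c360ea64c37010aa233530e39522b90b12589103f41930e6a67010c4bc25c08e025119ee0225e14e0251196e0225b22e0225ba6e024dc82e024a98a4e14a98c32768e8e39d1cb909531948e95338d8495368ea69531c7089530b3869535129c9532729e95319394953270969533688426223a9c6d12718c6d1368944e3368885615711e6d126da46d11c3086d12e8923ca1aa883ca033a23ca3e41c3ca12f823ca1e518c1a1e524a251e50aba55d2963ca213243ca105024f11220220a5560620a0e22620a0d72420a0dd0820a66e2692d5df0892d58f0acb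765b96b1e1841cbbe613a03063778ac1960c966ef5df22c1b5df26c191831a4271c798bbe18326bbe3750abbe042141980cc142b20cc0811b02a9c1980288419809c821980142619803e221980420a1981590c1980ba8a0251941e109084941750ba8e71b0ba841190ba8c1091cb841750ba9e08405a9242d21680fba0baa24270baa40693fe1e1750129617525b124b625e064b6047884b625c1e4b6511a64b6454824b61701a47523aa207f23aa0a2523a96a3423da647551a0a47523e1c4754978254949798eac1ce1c92f4978882830884a7323e0892f497a279d4c09292f1f30292f5d62492f23ba692f1e78c92f2ae06981259849814c09e9814c08a4b125896981250189810bba69812d086a2a1fe12a2a0e19ea2a0de9aa2a10218a2a2f2a6a2a454927b709da28a9250a08a9454a44a04549c4a02f8868a924f968a9133a003d1338c67a33d142670aba42670c49a26724a8a4d424a8c4af29f042fb17d842123fe182fb02b20343693923431a180fbc24a9c4cf24aa009604392495256204952529c49504988495266864951a084495049a4495266a649526a16495257944952550c4d42678e4d426a0e4cf26a044a226a024a124c924d426a064d40499c4d4255164d4266a04d4268224d404b244d4267a64d42651ea0e25a124ca048204ca708264ca25a244ca25c8c08f047944b9047a04b9259a44b9064824b9517883502f298a2f4bea2a2f51626a2f0dea4a2f0e08aa2f137127a72f2880c32a91489a44d0c5522a90689e098925512a880faa2f28c1bf,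
  nat_lit 0x122041fe0dd021fe54e861fe10a241fe0d5881fe4009046803f044685650246842b864681c11c4685601e46815c9a4681bb04ae202e043763e6863766ae1e37653b202b915c9ca141c59ac4e627242b91f904c4e3221ec4e40c82c4e2151255b3bb82a7956386f2657404f2667494f26224043e01f018513289a23dc675865135e10451367496513505042a950304a0a0d888a0a0d710a0a11f8ea0a1cb9c33a4a08839419d0438b19d2639519d220550c50833a22e0433a1901433a6cb18def6e392def1a9a0c2e617184541f91445422a1c07b22a1262022a0e0eb22a2433222a220fa22a20ac322a0c3f2193084546f784454190164541bb920f468e8437702e0237755c8837732f063770be1a37752c103780f49005c03f103f12348407e3349ce552349265f2348c2af566844695aa86469273084693d61e4694b51a4691579446914312bdb55f88bdb14b0c042021142964a09a45c1c61645c22e1e07c22e081a422e2696a22e2417c22e0a38c0860845c0851e45c5831ca765a806b065e908b067de84b065a994b062e0185ec05d225c02b1045eb290820bc2f884a4c2d1847a4205025a6205148db46d8c40a0a59e8db2070c8db46d9440e46d9049346d8e49346d988d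b3088ccda66d146113089282d24a028db24a048db2e11c8db24a088db46da08db3d2121070340c1070839406800d0a0ff07f9601a23b220ff07f925c23fe0e11708e040ff0419c0ff1c7020ff3ba1e0ff0baa60ff035240ff1c9080ff5288ea51528a41d425086a51202900eb202989315d2a04050bda2378202a617b2029e06f3f9064051ca884051c79440538a1281b517a281b20f928664331c86626484a2b5158ca392d286a2b51c94a2b2e19ea2b5571aa2b0de98a2b2e1a6a2b2f11a1774bea05e22f1123bd2f1249cd2f1261f72f11e9cd2f11c1f7061065e2256845e2255965e22539219e0dc8219e32b0419e0150819e4ef0e19e264924c9268184c90481c4c96bb064c960ea24c92549e4c9263264c9708244c92658a4c926584a2a2659ce102671c4cb254864cb2570a4cb26586e11507124cb257144cb25a224cb257204cb048264cb507244cb265064ae60e884ae2570c4c4578124ae262144ae0481e4ae267244ae557024ae25b864ad25e084ad5119c4ad25c244ad1a19cc46623085a415b12c4619e18c462501ac4625592a575570c4ab2b186aae5d612aae25594aae5571caae1021aaae4caa6aae68e823c4033843c44a7243c43ea063c46c01c3c40d2049f03bd029f06801a31b38b1ed004dc26d002ed82d001f384fb97dc9a51428a2043c60a865145df045146091451456306f1f57384f1f60916f1f50384a0b18082a0b0d908a0b11f90a0b0d70ea0b1b6122045581e20455086ab010226ab05581649e2bf92ab0250a2ab024f0aab053d0861d,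
  nat_lit 0xe28e44b6c30281b51e0a81b51e0c4a150704a3c2db06a3c40d96a3c25094a3c5151ea3c5161aa3c19e98a3c2f2a4a3c0e1a6a3c26b0cc460ff884d61a6064d626b1242c26b2233d26b0e1bf26b101bf26b1a34026b0aa2a04a844d626b1e4d6623144d6515164d60de224d6251244d60dfa64d604b024d62271e07a6f70a44e22716dee20d2244e3d88844e517123fb51720a39517241bd5171ea2c5171ca2f1a786a2e6bb04a2e0e114a2e2512097f4bf981774bfa41bc4bfa64a04bf9e4a04bf9c1bc2d30697f7050497f0e11697f3e4149b04d8201895799c9b04d8082dd4d8244064d80c7c8244089b0077204882441c40024420aa3244240fe1899c4882ad124881cca448809f8a4881cc843891cc8a0611cf8a3991cc9639f1cc925a10bb2218c38aa03993cc1e39903096399058243990138818c0c6083fb0c6049b80c6269a50c60a71538a9618c1362018c21b122cb5560c22e1170855a19e1c22e3fa1222e5561622e3031822e1a19a22e4dca422e6c3124b96c31e4ad6d906d8626a1ad8625f8ad866d912db26d91c4bf6d9164b76d9204b86d9044a02579adb2511a4db225b8adb225b9cdb2702924b7702849cd7028ca2351194e0524a9ae0525fa4e0525c88e05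7050a4ad70512e0a25696e0a25fa2e0a25b26e0a6d3047e66d3124606d30a9a04d016da64da22da63bba6da62e606da60ee8e1dd251061dd0ffa61dd0ea241dd3dfa09a24d10c9b72b1129a24db949a24d1201814d12431d4d1267bd299069a20c1089a2268969a2299207983cc165cc3cc0c5cc3cc1cba93cc0243a1f1027981c8067982550e79824a9079820026798708064c52629c4cc2629ed762628a090048164c5048224c56bb204c5257244c51a1024c525f8c4b6701124bf259884bf25b144bf047a24bf256a44bf54f824bf1d1200623bc063a24d28c3a21d1149a51d10c427213943a2424123a2202a43a219d083a24e50c53e23c9c77b4e51e1924e50a38e1c7169ca29f149ca1c3249ca3bda69ca22a089ca4048adee6f71c91c6f7168093bd26dee51d92dd245208628354a66284068a7b56e89a80d3da9680d406a626c406a438d406a211908d8880d2691480d4b29c3350b6949654b292a044b2844431eb849651908696524a8e96525510965200a69650b68a9651ce8eae20338e1f41e28c2ea571043c5033823c5370263c560d863c52b9203c54009c3c507b983c5175143c51779e60a1778a04c026162ef3261e2ef07c982ef52584db120282db136f883db57708ae43f60660a211064de1b5884de26f1ea40271989df26f249df4d1865294efa29a3503829df154849df0d1889df0fc109df0cf0e9df23610be02362271d2168646c4678446c2360a3971cb9646c03f1e46c23a1c46c5f81846c1c8a446c1bd2646c18b0846c67282cf90ff2419e,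
  nat_lit 0x134a603d1348c046023142690501826922f1830c3a712d2522f0a1413f10645e22f0c0810409445e22f2407c4db8445e4b51e45e0a09645e0ca2445e3a80245e0502051a28d268957452251a65e8251a31a189ca31a206281438863412b1225f588228f70a9208f722c1a8f751d148f751d0a8f7291868f7314848f747b80fc00690663431a1e25631a0c65f32f946340a920fc058822fc07e01845829186fc031484fc051d14fc0537121e51249267d40a9012440a9231940a8412612c04800092a08156d62281508d9a8151582681540a9ea6e617068152ce8481551d1681511b94b0e58890a345888eaf31be9823711ba4b1111ba6b1011b9838a03d02237214042372b28823701c102370e20e2375870c23710e84ae13af26ae143006ae11c19cae11f318ae1196167043820a32c60e04704513027045a18c2e817410af31740ea34174243e6174083fa1741c3e81741e04b1741a7c517414b4311c242e84d1022e837818c7763ba06d563006c7742084c7751b94c7756c9854864506ad93c604ad951b96ad9214023ea036843ea3e5883ea0e2903ea10a0e3ea0f38aa750f38c10a0b310158074901663af021e7074841e7030861e74d0081e726e221e72e6201e70181e1e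753b181e753a961e7085141e753ea044e53e8c4e31ca84a7d27194a7d1a212a7d0f502a7d26e24a7d40c88a7d48da03d448d8aaa32cd8891b48d9255f0bb2091b5519691b0ad8491b22c1c91b3182691b2440691b43a1aa7532608874420862ef3f60a8414208a87443a1684142098127420967ec39f9ca740f31e84139fa68411ed0868801e1225d12e8282c5fd04b785fd125ee5fd26a755fd1ea5f3d386bfa1bd88bfa43d84bfa25394bfa3ce9e1082440a108084164880841406a084207a70842606100e9c1082218410821d021080c4861082518e1082581010800d261080350c1084968c15e4979015e4970e15e0af24301273029311830a931498963060af1492d1d11815e498a415e1840815e1fd0a3081e1903fa1b70e3fa181263fa2cf063fa070a03fa326223fa1e29c3fa1671e3fa037183fa184163fa20c1e87b0992287b4190e1240938283260c9e8320c1188324192430841922d4c49886832218888322cf0483251d948324fa0880b3569c9f458a206ad3569a3f5356a6575520066ad175886ad314046ad51d966ad5901ecbd4d594cbd65e925bc65ea6a9065e8c9ab1e508cbd25316cbd02e9037d0348e37d0930637d4f684f2e58892c1f4d584b115889e449588989be223a6b1140682b11196949704b81e5954b80c32d676849706ada6970512829705701a89a61606ae03c584ae051c14ae02a8a0fbe7df24f317df1abd859b06fbe41e04fbe51c16fbe28086554280965502a80a50104fa244b225983f903d0444b23b8244b2a80844b10a1044b,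
  nat_lit 0xfc160350de8603510a2003401a1212201a161ff01a0c1ff0de060340179c1c50648602f0029402f0171e1d40e18602e0029602e5201682a4150aa40520082311188a422142842312111623118f182315852623118e98c691c40efc46601cca06600acfe67f16cc058f22cfe67f1ab1f35006cfe2b604cfe18d16cfe2cd0a82c08b8459a1c71059a18f8e59a6b48a59a2cd083292cd16d692cd1e9a22c92259a4161659a1c39e59a52c2659a190a459a2008859a0fe205c5483821fc0fe061fc0fe02aa22cb0a1fc0fe165961cca01fc551a61fc2bb06cca05720576143025762c404b362b7887e62b78c8f747b9456f056a056f41e0256f7e10e3280a0105987e1085987e1901407e088fc32cb1e1410f39e596635845961cc8659648da65965480c9684b41eacb4b408af34b414a904b40c9461a39c5e0060985e04b4048f252ba09682f0225a56879e4354a3149680b71e968214249684d5a6968217889682a91837d20f18cc72a90241e216825524b82655268a0a5522a916d147980cd5b6ad94f3044108dfa4f9101a40311032d02a0e32d3eb86bd819688110026981b2088221b209d1c1b20df021360d92613668a087d609b0689344a9213609b207d644f9c7d63eb24110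0881001b01390110088027aa4501c7d70881c7d43eba61100279c30f4b18630f18780fa87d408963660049634b18c1a30d1949631ca229631940efc10c3a21920c38c42f4891e2580c39a912013221871cc881870c3925f10c39642f1c816187215241874d8261871c80c1870809e1871b21c1871cf82d0f1ca18d0f5138a4a1513883846231ca273f692a2725096a274dc98a270de1aa271a1a6a275658a41a5658c21214002acb20f86acb270a0acb20d16acb10914acb25122aaf2f29aaaf4ca98aaf557a433d557a62045579e33d5579c2042e706aaf25484aaf1a014aaf1570e33238692abe2bd927aa45a9a14109ea08b55e58c4e727394bcb3d5183273d52470d192227aa58e0a66d6aa84b1c41e1cb1c33696b1c5ca26b1c58e188e158e129de3bd908f847c08b1c3bc0e8f8157103a258192b5e54ea0b0354f98b03581a433c581a622e5819c9b921a06b0325404b031a016b032540a4b6256924a825c9c4a825b1e4a825b164a825ca04a8705224a8701264a845f8a86645f8c9801a3868bf0a1928bf433168bf4c0148bf0de9e8bf5179c8bf6929a8bf0e1988bf516248bf517268bf51b1236554ea2a3651718a3651b24a2b51b26d2551b1ed2551b1ca2b31606a3626504a360e014a362208224922d0c2b01b71045a1e18e45a1f60445a1472645a5888845a2ce8645a12b9c45a1bb9e45a03e1a45a1581445a44a9cdef1340482f588109af19a0e3fe416902683d60e2680ac242685b8862685880826801ea02682349e2684839c2680ca1a26844a98268,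
  nat_lit 0x56324d3a77014d0f6878cee0770028ae4f924ee05ec06ee06858a3dc5c204d0b1ee16d0b60a24d0b1f0248641efa486316e848621ef248621ff1a3dc3e0187ac086847c01ee247c0203027c03d6868003d69a10a3d68c6dd36e947ad1eda47ad572267ad3fa027ad42f84d566fea0d56299a6d565aa82d566fea4dcc6fe94f315b78e7c75b802dfd6d61adfd7988cdfd21b087c716a147c73e38c2d45b8047c70cd227c7419267c7184a47c7430027c7312985bc46d046250689e6252d3226250c4200282152018832d181880c4047ac0c41082f0c40e21d0c4240260c4264070c41e16e1c0061881ce8818808714188295a0da45dc8852b0f61052b0fa8e52b68ba652b5031ead64c498bb96c00cbb95dc94d8022810bb91f98ebb9716a6bb921c08bb968b8eb4c19a06d1768b84d644ce18b156170299c7168499c5052499c2aa84803401842b3282a68030ce1080309506803434248402ab8486815a028680ce0e8680cc8686809d880cf00b220cf2d31a0cf313860cf191926272051c6272af82627313986273c08c6276949c781694a0d291a608d291a316d2969498d296948a34669584d293c01cd292e292d292f58ad296958ed2b6958cd2b6959e5ec6959a5622db22d2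b69594d2b1a41ed2b2ae9ad2b24a26d2b25088d2b2ad9812e097223470970c12e4330812e2db1c12e0971412e5430ad0726e20a8668396a8622726a861ea941eb1eaa2338035023d51b6843d50f58c3d51ea880741ea8c37a1bd143d52701c3d5221983d51cba43d554b083d554b0c4060fa08a9654b0e3783d604a962ea20a9658f9ca961c69ea9620314a962c90ca9619c0271619c1695519c125c02030833816ea43384b3a63384aa8a33802a9e338203941401c00e10920390aca5669040715098407522a04070cc22407203a606f2038a1402039c3a2172864070848840703b944074eb907c6168049d70cca29d7219a69d7420029d70cc960e617792cc06369ab5e66022c6d159926f016b126ea375229d3178969d34e996431219829d34e982c48218109d31788c9d34e9864514e9a42cf4e98c4314e99e6a60cb069d30c68e199087101990a10219909ca61990951a1990cb181990730a1990cd1e6da3261419a0cd108170cd0e8530cd0c64c0598419a0cb2619a028a419a0148219a0ff8c4832418833d0429a4830f19c4830e2a24830ff964831918e40c061105c51349819c037a019c0ce125eb0ce2045e0ce0a2b615b1619c0ce0413a0ce241980ce260290ce1e33b0ce1c0620c68619c07f8819c0280419c0419419c0431e11e01b2211e0cb1e363075941960cb0c0eb05a041964192019602826196014021960e90a202101085e20cf1e2020e9142022438e08510a1403710a0a03701b8822e02e120371051e0370fa1203601a8a1f801aa01ae10e92035,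
  nat_lit 0x51c16b5851c0cb5859b06b5841e04b585ac00fbe5c5a22602b78a2601300478b1301656f1300a81540a962600911a26006ea62600819a50e5a59cb1d3c704a89320a01030819c78e0818a78a3c3041033c51610300d1a10306da61033c7a410302510fc812512b4718f0224a125160d4125187b138e8e17f0970226b0bf888510bf8e7fc0bfa43fe0bf985610130417f2249e24a06e8624a069a624a01d2224a344a024a06a0a24a2878a84f4279650f3b40450e0528650e2869e4411a99a50d5c02650d2bb988792861a64c2860a13a1348450c09d1650c0992450c4222250b285040d60999050a06b825090998e50914e0670d1581c29c4879e29c03f9a29c157a629c0f28aa6b535961e515292a6b3c782a6b535a2ebf53598471535a49596a19ea6b2c288a6b4289267a2c29225a06a9c5850581a5852b6a658514a8c585614084dd33b1e0db06da25b20849a0db1d7a60db0118e0d63220e57e5ed9c4dd4290a56b0568c56b2b588e615ed8856b2b592c2e266106bd257109ec1500ec1d359104cc60e8e30c2418e2115129033d1090e48319e90a2609e2656b0569656b4291456b0a11a56b2891856b42a8eb6f092922696fe92ae142a82b7142a8485642a9215742a8a26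8134168550c69a85540aa6855158a48553c520c3d5fd8478a3c51c2a23c5228df26f8278a0ba9a78a14ea478a58a8a85442a16b152419a23f3d39a8543c7a085414b0883c4291c296150a08520aca685222d2285228d988520cc1a85242926269280068520959485242896c3a2aa8285115a04851159108511890e85112d2485161d0a85131f1c851078a0506281a40f16ae205032819885042820500428168a45d610850126a4850322208504520a8502b6a24452b69cbd92b68a78f3c79656d1cc9a56d4ac8656d3c79c79b3c78a29d14e9678f0841a78f14aa478f0529c54314e9a0a54e50229d14ea2ae754c9e29d2388429d157a229d07f9a29d0212429d13488b4b5a5a224d1269627e01d2424d069a024d13f0a24d3a30aedb76d9674665ea2edb58f9eedb14d9a54d2d90a29b14d9c9ec14d965b214da00421e59a29b573a629b1522429b614189a56140a44522296c286ab10b735b9828405b98425a5b98cc2061014b735b69cb733e41ab735a8a4b735b7a6b7357006dbb6dd9e44b7970683541a8c44b2268483522594835092228352a7a4835758028355b908b875c3a025f5c3a2b8b5c39a32c5c3987f45c3a467d5c38a2b415a16b876fea284f0952084f4278225a427a4432427988152828284f7162253c61d0253361d1ae2c18882c3a61d20b6d61d222ae23d1ac3a32f24c3a3309ec3a55e9cc3a4248a43042490198094908491528484915c02849465a684938d88849218168496ba86d5b3eba0d756ba9cab460aa4ab469d0c52b29594d3a1e018d3a,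
  nat_lit 0x43e988f43eb1855423d825462a31a1362a3205545bd945462a30cb7b33a88546236045463c51a546052a454659310b8127d08b2627d16a0a27d188546b20e4fa04ea44fa5bda04fa5050a4fa5c10a43221916b8244d98b821301ab8227aa6b82287a4b8233a9c86b33a866675fa8467506d9a675332a66752872467544da26d736b9a0eb0ac846d7286246d7073266d75be16d64280a4b7c6b20ab7c2831eb7c5bd82bf05bd9e5105bd9878f28726b7b27ba4b7b6dda0b7b331940d9328266635bea466306f9a66306c8c66339e8c67b14d127ac14d9265b14c1204214e1273d33d9473d5e10c73d39e94bc239ea20f439e8857b14c1e73d6172673d5b8a273d58a886dc1490685414c080da14c1c85414c0a2b11589629803d9a29815524298322082983bd823b306d8a3b31d9960db1d9a228c1df9e3b30349a3b3032263b33c5243b36151a4bb4a720c2a59b1a94e6f702b3659b22e3041c8ab585ac168396b610b4c3910ee307180683941c8e19641c9ee2c41ca4dfd21ba4839093048392cf0283941c1ce2b6d302c6063020e2d63b9483841c0cc770938483821c248382ce828380cb0e838218088387168683841b96bd641b82b512190283741b9043041ba29071ff0883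7428a483712ca68375eb0a83732e1e83739b1c8373911a0f13911664b39110e2d5a6067224282472250a207223258a7224270e8354271a9d74270cb815d38484e5c09484e6ab2084e0952284e41aa484e2a72684e6d20284e4160a9bb085925c34e0929bb22e8c9bb5d11e35b4dd9445d29f1e9bb4dda218d4dda07c84dd9e37b4dd9682c40ba69bb23ea49bb221049bb1f4829bb15b089bb18802bd65eb022b85eb0e2b645612bd65eb208292369abd6021922a215100fa01898ebd661d24bd65aaa6bd61429cbd63331a6d53330a54e1c6846662a71666606ca26665c0a46662a4a666633d8c4482241467b1af2667b33d987bf33d88c442b79e67b33c9276833ca069133c985b733ca6b844440467906e16679368a267733b9e47633ba27fc33b9c37a33b9410a60e2667723a24677487986770850c6773f512b6d3f50a28c5a6125d2354a0b4c46f8ab4c5a6168df4d78c28c46f926c5146149af5c19228c31a920d23f51adbb2e91e7ea0c2847ea146167ea3c7a27ea320a67ea6b208b81419128326a61236b428029af5c088d5f13604b8119620b8112f22b81225a4b815d602b817e58c26813414fcb7e5a08f23431c8f70a09afcb47ba6fcb1c408fcb0a01a8b1362868b07e50225b05710fca7e404fc90570efc9414883881c40c8ad45694388456a237726f9a8ad104088ad5eda48ad32e1c8ad7538273c362968ac287060d9456047684560a6c5147868ac730a48ac385228ac5c49226022d1256f13008353716924f528692bd8798a6b582a8a0b585ec18b58,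
  nat_lit 0x33714a6e08f9a66e2b60666e14d1066e39ea666e154a466e06d2066e5370c66e08f884df3df8a11f08f967bf08fa03ec08f8a05c02e1611f00e1e11f2352411f0830811f5f88675859e867575ca102647e824fd15f884fd04db8efd022f10bf122f0eb3d72e9e8067e59ae5d6c708e5d7e79cd8e1ed0ad8e22008fcf3e496fcf65f9e44021992cbf756927c93850479472b0252b2871a7943ca1e1323ca0a3b91dc967942959e7941879a068032a030f1dc9a0651c9043b93d3023b9126903b90d9243b93eba23b94090465e40924d56409208354092283940918b734091a83815c248123ea0481208d90812425088124410c813409a0838409988394099488215ba48133e68481360d8281308d8e8134248881330e8a0cc0660261a1f9920cc30e940cc2f61e0cc00b1a0cc30ea40cc30e080cc5869261c0bba061c53d1c61c6bb0261c53d2461c54f8c61c500027804e512a002e01ea0030e9aa004258c84b4259c3842af1a84b1390484b2ad2284b4259484b29d2284a42526857425182861880484a15b8284a0cc1084a5cf9cab95cf922685cfa47aa6fd02b9f3ab22b9f2ed9ab9f601a4b9f5031cf1f44416eec7760a88831408eec6019eeec320a2eec639a6eec1418a78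d3c69e6283c6962833c68430f3bd1a78d50f9e78d4440aa4d5269688852692d6a354a4a4d4d7a2a4d5eda0a4d12616a1f4d78624c01d2624c3912424c50f8a24c77522cf936818eea0210626323b02263131826d01319470d0f99a263148122630f8222633868c26314e8a1780129a1780bc203770bc1629d4d7a029614b241784aa061781458c0410209428b02a9a28b283188ef4aa0c8ef6b9a0bfd5fe9e54e5fea454d1521abfd5fe96dbb6dd8abfd5fe822ea14b12bb82b60eab91bb9064a1e28e64a0f48464a1ce8264a5dc1464a2b51664a3252644312b9e64a2250664a06a2264a5dc0a64a2b50c64a76d9a72247798cbd3250656c477949542b6128ef3f90e8ef4e5108ef280248ef456228ef391208ef15f2613d15f0a0ae62d8e2be057162be43e9a2be0a1982be58a9e6811af1c68134088c1f3408a0dd06e966812cd9a6812b7a46813c492a993c49c7f83c48a103081967892441a7892b6a47893c3067896ea98e453309ce457229853e722a665f31aa2e451ad9ec5b62d964de0a98e3631b188c5b26f0ac5b5258e8f436b8edb137d90db162d8245462d9a38b62d98a7952582c5b62e167221d98e1533910ac5c1d99228362e063b35f712c5c27316c5c62e1831b62e0a4e620284c5c0a9a217f47c041532719a15326ea415339b1e1534569c15372a90a9353e90e5522a1015932e0e3261fa10b0e587104571ca8e65c6f7906fb36b90def0ac9040537d8a8f43318c8f447a026d743ea6632050105135e10e688344248f4331968f437d948f40a91a8f4,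
  nat_lit 0x1c08c0b71e10438102f023810f72638152c0838103f06381640203811cd223812759e381387183811f11a38105b943810fa0aa9754b928da54b9e39d54b961f454b8a3c31e196a971cd26a971981ea9733b18a9719424a9741608a971e11096c1b68e96c3751c96c4b6243e24b6083e84169e96c192a496c0b88296c544184345440240f21312a8822fa0a882de22a883cd06a883cd025ed0829279a3009c79a1a80279a1378c79a0828a3c223ba21053cc0a1055ed8486b0829679800d1c10521f021051e11610507b1e1053cd98105194261053cea410523c081051fb9a44d56b263f766d8a3f71fb96cdb1f90e87843c063f7439963f71fb8a8731909ab0e19ba25bf19b8a47823c163373e2a23371c5143371f282337228843370309033702a8e3371f8a4337190a63371c50a3371f99c3373a98890007c0e7533a704c604c9829a14d096edb4d0949b44d086559417a29a16d3069a10c09e9a118da69a176d8a9a14da0c9a1365a63143b7183146a4026cb6a40a86c43616d486a4163c56a4203636a41a3753e39ed48672a4d481e28ad481dd9e7c71dd863054968ac876439692d4fa0ccdc66e149f41808c3bb1dd943011dd8c9524a9143bb032a23bb60d203bb60ca63b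b4a9169f44fa0a9524a908dd14a91e302578849520b31e95216820952377a695216724952276829521fc1899429008994278a09941fb82b0e7ea0e02503e103f77ea083f77e9900251f910504282063f61fb24adc1f71a3f66168c3f61fb14c2d27d943f61fb207551fb0c4fb589043f603e0e3f67e9883f62cc8a0f82ae8225c3159ca002db18a005002255d07c0838607c1659907c0a37c2ae920f81be160f80919e0f839e980f822a260f808fa40f81e3880f839f860f507a9e52907a8a2f60759e0f517b160f51e2a00f5177a40f50798a2350dd200f311a960f328e880f30761c7042be820ec1c1980ec66d20a7453a12b0a7e9125217e9200af7e91ac447e90813e7e90a0f732204fd207b96fd22c99efd25851afd22c8a6fd218f24fd24f90295d6b61895d4aea2e554b39a95d4ae968cf3252295d4678a95d0b59e95d4768a95a4ad168ed72b0468d4ad1ad2e4ad1224d4ad042564522095a0b58895a69d9ae5672aa695a48b2063448b1e15848b0c29c14e149161be029164a984916518089163ba109164aa8e916234a69161ff1e91638e0237c2342471c3b70271c0ba9071c4250671c22f8207d22f9e5d12302045f4328245f5d21e8654329619b2de02865432a08650cd8a865062825ee290045b82dc0ca002dc1e128062a05b8500145b81928e4461c99044608c0c253129941182232411808c1844a00e0211807f90118401861181650c1800c0142ca0c01e76d3af1c3e50c01a3e91f2a41802cd041800130218007f8e180434061805a79c66e3371c2aa,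
  nat_lit 0x75624c706381a477638046f063818eb043a14c7056b8c86e43714ad706ea06852ce9c6850909a6855c5a46855958cb755ba9290f5ba94b2b5ba8c25d12e94b755e69eb753f522b7577626b75625087cf6251ac776250a2b815c16c4a33322c4a19624c4a3a29cb5c2c2a0fd75ae0858573092b5c2b722b5c5ae042545ae1859253a84b5c33e96b5c15186fd72b2a2fd76061ac4d6269cea72b704c4d71da6c4d7d48ae3b71d96fa971d9890f54486e3b60a26e3b3ea18e3b6bf9eb8b6bf8478e1de9ad7f6bfa0eef44408d7f6bf8ac0f60796d7f23a9ac0f607a0b2b39112c0f14e20c0f60786abc607948ad4568cc0f6d61cc0f4588c403201948b157192403201a0269201a62670379a403201849ed201a42a16d608403152944031e30ea961e30c3f352c0e3c6570843c61e3042681e30606707c203c6274a23c66709c3c622a9e3c61f9943c65b8983c61f6243c6561a63c62368c3c61880a6c63630246d36316310186266c60b1a46c63631a1943631889c1b9826c64588a68f347968b1347a2b783479eb1c328a668f06fa268f0869a68f347a667931a8468f33f1668f47ea0d3b389088fd5269c8fd31a868fd0a9a08fd5bc1a7045bc0ac1060816b7860808b156082265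b6080ab6f5b796c107779ec101fe1ac1061024c105c3a6c106aa88c10595922425958a6a95b99cb2b35496b2b14da2b2b44426b2b32882b2b7eb02fd551310fd6776187a13da8a7a13d0967b543d827a16401e7a11679a7a13d09e7313d0a42c93d0a27a63d0a01061e0887a1512967a12e502bed2e5141671358e16e0b7065ca0628e5ca4d4a65ca65ea45ca4b2a25ca0b38c5ca2d41a87b2d4101eb1be865a82d40e0b72d40a54f406845a82a7965a8288225a82a4a45a8225a65a860f0adeb60f1ab7c60f246182801ec1e62706c1e19208c1e6f596c1e1860efd56000a8df600126513f526c0033486c0014aa2c001fc9cc003871ec001cd9ac0046f96c007778a6355269e91242a06eef31a96eef3d51eeef51f9aeef639a4eef52688eef12e880db3892225d38912c30389207893891c5aa3891e679389180ee38926445386167126f68ca4d6f69845061422ded52694ded2ef8c4202ef90a712ef8aaf118b065df19da25df2ef920c12ef9c1892efa43391b2205df0c2a45df578965df210145df4a21a5df12698a8151f88a810ad9a1f35409691c54094a93540a21ea2e21ea81123a4a8148e0aa815498ca813858239a2211e70b21f2670b0778270b62712b155c002a8a2d50450d69d9461830c145aa30c1c8ef023122b930c082b915c80fc67e30661869d8a6182d50c6182ec8c9912eca021d09f9c5d9670885d91c5065d905fa45d94c8945d9236863c91e48c3811e4a29532f4923c91c0943c94a31e3c90339c3c9302183c9212a43c91aa263c958b883c9,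
  nat_lit 0x33014b42603a0c20603a22986039add460398455603a465b603a6c3333016c076ad1ed6442706d5a40196d5a6ad0a8033778e9526e890d4445004d5a69726d5a12b20b683549eb682151ab685b4249125b42065a32d88b6815a14b6832d12b4e68b82b4e58806b4e1260eb4e2b2a6b4e32b0afda7ed0664732c22fda32b14fda24112482428944822411ea142411cb1042a864820410248223fa6482225244824e61a4824288a48255a0ada060a8ad3d69e96c156d016ab46d0026864ef98da01f026da069ea4da06e824d9e1efa6d9e4ba0417619c049741ef26974687a497460a149984cc1817f4cc0cc142c9849986f79cdcf1ee269986e7a49984d8029981730233b1731a04b0f4822e61bb102e61e20e2e60b2a42e61eba62e61bf1e2e61e21c2e669e8297826f18d3d6e5a4d3d6e80cd3a6e80ac8a64516dd069d14dd06e524dd05678cdcf6e794acf71d94dcf6e78ce3b2db84dcf2c5a4dcf52282dcf6e70a89d44e96dce42384d8c42394868674248476139084754c8eeae757069d742390c3a423a41274238a8684eb868473b6888471848484721a948474eba2dcd6e69ad4c6e698d565b882dcd43004dcd6c626dcd41c24dcd43224dcb6e50cac656314dca431a4dc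a4f914db66db0c9f24b384db65721c394687a6db643124db63e89e3ea3e884599193847d13e88c1103e88acd966c967d1088147d1430a47d13db267d163b867d12c59824f6269458b2c58cc4d0588458b3e02458b0c38258b3af0e16521a90ce821c02ce834d16ce8674268606740a69a3af08ce818404ce821814ce823f9683723fa268611b9e47f34d1047f40a8647f1c98847f0408247f224a647f4db9a47f27d9847f41b8a47f61304b846130a62831416c26613127e66131ad7315222c261e51ac26595a6c2631aa4c264cca2d3b4cc822cd54c8a9994cc96a994cc8ab470bfa29995a396999573889995cf1256e133a2b9e5cf1ad725cf189b05cf2691234288b9e5a894b9e75f185c535e92ebe58886ebe4b410ebe2b2a4ebe34620ebe2189069a1f28869a2198469a395a469a4342669a0701869a619a22aa6198adac6198cb0e58714c3322192c336d616c334161ac33342a4c337598a81240916eb32a4a2eb362524eb3760127565c222ec03f71aec076026b5c2b686ec034916ec033492b065831468c34604bc20fe1a68c3462256d6221268c20e8668c7eba468c5830a68c070060186898ed4334ea40e068994dc71969ed136e38cd1334e8e7f234e909ca34e8c73f6080269d0758869d5fd1869d3959a69d39f9469d6020aeac60204c2052f98cb865c26b1658b1cc0416b08c044201ac0475616c044ec90bac693989d93961a9d90cd089d943c1ac982bb88c9817f06cd036d987d609b1a2fe0281c2fe17f2230617f2404d17f045c50ba982fe36da22fe,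
  nat_lit 0x72b0aec94019eec929a0a0a46f584534052165341229a5345c0245347e4024137ef844130af8e41333114a8930c1a6625be246625448c6623409ab4a7f09ec2b7f08a66633316fe15c21afe139d88ca3651842e06518a66533296ca366002e6b2b61ae6b15f0ec5c7f00ea4b7f00a6d737d84fe036b96fe015f02fe07e504fdf43e90fdf7e484fde03902fde43e8efde2809e34a4fe1e5a84fe18c004fe04a5718f049fc6dda69fc529249fc27ba29fc32da273739b880f439b9ec2e39b8a85542a967372879873722b1a7371302673714c2473750a0873719782b295c194b295949a550594a66695948cb833f508b295fa92b4823f9eb485a4162555a41aac02c882b4813006b4812526b4850a24b4812622b486b520b4812a8ab4831d9223731d8a0d531d8c2695388663b0692463b2b5a663b06a9663b1349463b1591a63b60320dd414c1ac06287a6c0639d825fa21fa073b07a1a73b286a673b280a6dc22829edc23409268d41a0c50e1aa848342a324834332888340921c8341d99a8340d9188342871483414ca254d5bd882993329429914c8447514c8c6651bd042990211a299052a62991d8a429942788e562a982c3d72b0ea9929e86d5629e849ac29e8cb800fa8453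d5c01453d2a9a253d1401a53d09a9853d2d3a453d0522653d553225564261cfa92879c84c27c9eb8227a9c09d1b58e4f91df904f904ea64f9426244f9332a04f91c4120645e5926a036d068201b8082f61ad880590260626262e1e3ae14118bcb1d702282056923ae3d50c3ae1d7147aa1d70683c2d5223ae131a63ae33a943b12aa1684c4260a5542aa063b11d8a2bfd1d8864f71d89a3b91d88c6751c8843b10321a3b167592ee02d39eac7406905a72d3909a22d3868122d384af32d38c50d05b845a7286945a71ac1a5a742694eda426a0dcd4658884d449a684d4268eb7342684c1a426a681342698dfd4268aeda42b8484d3de8e84c1361084c33aa084c40d8611e2f28aa2d516965e55169c81b516a481b0dea2a2d10d0a0352ce0821a08f2621a0e22002f01a9621a4078a11a0ca0a80f40796194407a0d694ab9c80f08d1680f0a0a680f7ed843db7ed8a3f57ed8c06f7e906fdb1c820fdb29012fdb1fa96fdb03794fdb0a026fdb08288fdb0118a15d0ae960230ae8692609ea615d4290215d22f864b5047824b50e18a4b525a961c325a9e81b25aa681b516224b52408ece84f80c503281949f061f1aace4f820c3e61f022b061f2685621b82c3e61f0e4816fe8648104104481221264812ca1a4815db222af14188bb644422bb623d9abb632fa6bb6607a4bb670d8ab1570d9efcb48d9ae1b5b686e1b58a96e1b2a19aac660a22543798a0d725cf22b425a112b305a11847913420b4279898b4258896b425a12465c5a10ab115a11e8515a11cbdb42906b42,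
  nat_lit 0x2c9635c2112035c1999835c169a435c177a635c5d004b3513490ba07f782fec09e90fef7f684fee09e8efee091982d51698a3631b1962d3377202d302a182d37f682fe901e90fed7f504fec01e8efec14b84b8714b988686022629707024297023a22974372015f4811a86e4810c54f2a7949020ab9a9022a52490229a8c0a429a8ae9e74f16535052145351459a53507310fea0730efe9328166360691a63631b040d531b268f431b24b9a31b0a650169046360aa1463658e9afe87f414c2b71784fe86158cfe84019cfe8426208ff3c50afe77f39678a0bc24fe747606fe70aa8c05806a1215502c14155483a21550b81a155145a41550b5a61550719afbd0a78e68b0718e0187f2840e37f204fe534584fe46759086f0990e51328980fe6346020e30a89a8f3330941510a8948f20a8a245a22e9a15132e2415112b261513308a1514790c15112c9c15101112153476921504760c1500a8148ec2e51a150477a4150126201501660cc6b635942cc1f1222cc640182cc1661c8e20a78c04a0a78a15a4710cd004710292d416a28e24da188e2680148e247124926345227ac6271668a43b04d433450ac4e6a18468a55f9268a47f2468a12a9e68a31a1c68a289840e4345080df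20e9068906f8e68c0a7868e23460e14f0aea614f0ad1614f0251414f1591814f6031a87c29622db15e78452c3359a52c1779852c0500efe50982286f4589af1a7400cfbf7df94e801961c88544298b756a18e8856dda288547782f386a19c81040808b3240812bdc408049544080a2aa1551681079c1881008d1a810340a48104ce22ca3338a0b155bc086713389aca33388a0db06d9667107f1a6713c4a46713408c63a31d08bd231d04ace31d0c45a22d1463a11ba263a72e887c06099e554609947c0626a6c13685a4c134f69ac1342498c133e00cc136098268f31d1859731d268f70692063a3409663a47f0267b5ca128fe289988fe47f223fe0a9a48fe5b21e8fe1328ab9a2838cb9a5cd0250c28926b9a28396b9a13294b9a31d9ab9a79c0ac0660316f385a524f386f684eb175884fa97588a5492a496eb133c9aeb17f0a4eb1178a282a4151a53e7260482a28688e4c7260a4f727b96e4c651a4e4c5fe86e4c3f48a73b39d967e9615a07e92bd9a7e9735a47e93679a15a36788b573678a0e6132846cf073166cf7f0246cf0ae826cf61608d371a524d375be1ed371ed1cd370ae8a91a48d06ca948d1615d48d142d62bba691a0ad2491a1891891a16b0c91a5a50ac322aa8cc326191455561916b4a27d1ec321551ac3260326c3227aa4c3273582a893358ce6b5e98866b0f80466b3358a1b10d89666b7359466b06d1a66b29a2466b39da666b1691a0491690a139429042d209c962d2073242d2099262d276496e562959886b43584ec933124ec96e126ec9,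
  nat_lit 0x2b90260e6169c7f03f81868527aa07f0625227f03f814dfd54494d086fe8c7f06841c48168426db76840ca893f804b2a3f80e192684087f01cf90d081958ed0819404d08385a6d081921ad081970c3f80d59e9944ca2032e1fc1432e0310f0007ff870004ae8e9f0195108ed59b1c32a4f80832a54c0232a3aaa632a0762432a18c9a32a19a1832a0899a7ea2c4141130899245f0898a4270898c5883d7881133f5a01131c09e1130890411321396113084221133751a113083261131cda4113235061130888a1b50889e7de1b49e111056221113c0881110da961110138efff3f9a2a343f9845253f9a039b3f98a4263f98c71433b887f338a147f31939e7f3213167f33f5a67f351fa47f33f88a61c705027f11a10a7f13f896342558227f109da07f130e167f16e6947ef3f7a2bd83f78cdcd184122e10c90e7ef687887ef4b19e5ff6e81a5ff49fa65ff065085ff0b98e7080b9840250b99a3972be841731ea986c74ba1a173363a61731ca241731861ccee677024e1677049576770c6db36d94cee3e89acee64fa6cee5e70ab2a1bc1ab2a0908e82a0c39082a414901876878e32b1cf8ed0f4148e12128f9057f2db8e0c047ba65984792259809e2059870d9e5980a09a59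872e98598134145981340a5981c408598194103881b30e3882cc00fcb18d0e36618d103281c400fc21b300fc519400fc4059105750a00e57518d00fc1595045752ba80fc35951eb9e59516bce33b12b2a1210e60a526a4b2a456a0b2a595062427e182b2a2ca0eb2a31922ad75cd06f1a56b98f1a78d04c706380a91e0ad9291e48f04c4a48f16c707fca691e3652491e48f1a3cf48f188494588491e3f61691e7fc26ffd49f8c3c01e01493f6cf1a93f4c5a693f1ef1a6c72eaa66c77fc9a4747fc988cb7fca4cd34d196ff97fa26ff82b610ff77fb883c539e84ff71f01aff74efa4ff71ef9a98b1df1898b2ea94a735398c5d52ea827474311a5d521e8eff50700c69534a9a21d34a940e034a9886034aa673f1ed9469536d9ccd375982cd3669a22fb6699a677669987d4669a46dd1ed96cd37fa163941ca0aff43f59ab753f58c33e3f58a3ca4e99a7eb60e087eb0df207eb19f147eb2ac9e7eb1e5167eb3d0a67eb76d867eb2bc88ff323c8e9292bc089297f902dc27f90a2d31c488ff22bb9eff216996ff258520ff265482ff21172057a09f8e5783fc86c977f806ff159b08707076267071eb987073978a0f30799672f0ca107f92ab8c525292945572929edb1292985491692252543da652536aa45256499a9684b1a2c932bb0a453229965762298a3101881645303d9845343e1a453185a645316aa44536a6084533cb1a109167207965a78479608224796756067960aa1241820c00feb1ae02c1e4001c2d31ae1eaee1ae1070a62d8835c1ae0a0590749235c,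
  nat_lit 0x2128a8c065f0c8c00bd9c8c0296143611b09c1991b08c52c1918436102c983614fc8c1ea1ac869f951e12bfb4c9889f94fca09a14fc961ea4fc8a4ea275169f93de9e9f9525a49f94b51697a36d9a97a4bd2217523b2497a1ce0a97a4b50c97a60e1e97a0c69c97a4bd0833e4bd06bfb4bd1639c4bd1ac3d6c18297a65f205d946f0285465f1a61829916cbe36d02cbe1aca4cbe2990ccbe5481ecbe4d29ccbe1f80ada61f820a931f824a4b0369e3f06d3163f0238a03f043b8689843b947cb3e58c877099a03ea6d014a7953c8e95d0f4080620f40a3f24a0841e84f90e1e853c8cda00f404a790f40c33a19d141e80181c1e80f42474e53d121e81fd881e80a09e1e84aba41e81f9161e84dba21e838ba01e845598a7a09da48ab250208ab4b510c7d6919ea7d6918cb63397981b976da2d236919c9791c920d2319f08d2326e04d233a6a4d235b194d234101ad2350a18d2328208d1565718adc55314cae44d1ecae6299ccae657202e66570caa635304cae43c08cae2278e50422790878227a207a62e1a9f0227964052279892d37a9eae80cd206f5427906f537a82b5537a9a18d42b826f54eb8e6f5188a46f537a86c2740012cdc35312aee0d21644f09fa244f6800244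f03e0844f3f12444f4d2a644f2028a44f0d20c44f1ac9e44f0ba147bf4bc18174012861744aba61743dba41744bca2174243a01743df8c174088987dd08f067dd2ce247dd23b0f0041aca00bf1ac9ac1e1911635902c8235920d243591910c3590ca0eff04bc943f34bc9a44a4bc889936b49e979655849790ca029794e6269791f5a497918b229791f98c9796a9846d036a9cd535291ad534a918d5318a042f417a0c6ee377142f41841e2f4026222f4665202f4182a62f411d94210108202441080c23b1390821001a0621020c88363410244191ada64194f9845034f98a7ea5451e9f33f5169f30d21a9f3785069f35a08cf0a78518dee78508b2b7851278c34520f0a594a2f0a3259ef0a5a096f0a3c6a6f0a55e0af0a5f004b415a09c24d5a08a26314e9295e14d86b4160f22b4154508b4113196b4112ba295e45b9695e4af181714af105db4af0e8194af2616b4af0a8b74af1c26972a8695e1401495e27a0430e27a1839c14aa04f427a1a09d639884f442a264f41551c4f46128a46260f0c462231065b269da646260f16462612944625659a4626f998462598947077971eb313838cb3111e9205811e8c8af11e9003911e842e111e8a32f2a80423d346a423d2218623d1548823d33da223d58e2023d06a9e23d3629c23d16f1a23d1979623d4579423d45b922950a91e8b7457a48b745b9813e45b9ee614ae868b75a7888b72b6168b733306df36971edf36f9a4e566f9a6d646f98a66233116df33071e0ca4058860e3310460e48d1e60e118a060e7f92660e,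
  nat_lit 0x4631c3ac463144775519c8c613a068c648d0e8c653aa68c6412a48c60fa208c623b8c8c62a688d652a414d656549042d6b29e70723d10ca922d8e57c6b2a47046b28c54823a04d651bf18d6522d9cc9f45a8c45b22d948b522d908ba22d9631120f0245b1862445b1f51a45b03e1845b1888a45b079822010eea020101c1a201100a40320ff980360191a086019221ff0fe120320fc0a03201906111019081f70191c1fe019161f80648e60406e1002f0b18e02f0da8402f0e60202f01780fcd0da9a02b0da84fcd0da8e9466a912c2b082187943ca22d520a5081b52729214a010a214a3c09c14a3008c14a0a5146010a51a02102d921cc33c0e1cc016a01cc2e2900bb0e6064082040e3231c88e4080c28e5c305d905c42d10214a2fc0e5541d8905a24e08e4f70d68c509284889c10e91c509284a0a51284941ad0b8925092849a1ae320221d21ce9264006b9e236320161e31a18e3030f18a6400ea1e6403200834305c0e5b22311040f2d90e0c103e904621a1902aa1228e5bc2de0100232c220d732b140d7217120d732b0a0d7323880d706b80fda06a0e64712290460230010010e18e2aa0e1903030ad8e02e0699002e06b1c02d2cb920d6017060d61d38e0d4079a60d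6015a00d606b063a706b141ac0d60c0d60e91802e2851823f1012603201c9a2022b48a23b0799c1ce11d983f81fc042021010456932c1e569079a45690562056911d965691a20856928522a5145e9250a2851619d285262022850c19d4e68650a6f78c5452a294def1e51027e02c0e3551aa8e0652a292c602a282b411a89083461f903893072457c5852057c2bb9e57c0579857c1699657c1698c57c1c48857c6e10457c6548257c2be00ff22880eb5e5af00fdd41c1ef2d789026657969acca088a47e011b227e03f012af34128e2023f01e656101067e04d4902022f10e18553882f2d5408e66528810a3f51f80fdc23a0edc220f10dc26e10654541a08545052a05456859e5452191c5451579a5452a2a45542aa0e8da27b8e9cd2e7903b11b0905cf2e2100c22060e39133c107e0206087e07e6841cc412982974129e1fc2389e82510e948254129492f13792825292848252002082510e8a8254978c8255689e7550b18efcd33b84ad15688aeb375996ad15ae1aad13af18ad13bd0ece46720e77779e0cce467214f3c60c1ece4182a2ce479b20ce465426ce466524ce44ae82ce423d8e54569d1037469d0238764504d3b1a882d3a1ac963511a8963231a89ad3b02c02351565a4351460263511918a3511ac8c3514d59e35144c2053929c8242529c9c13a29ca6135663928200521a53936d185395070257a58084af05809a61c5808a22e5809cb0142586b0111716b0140da2b012f120b01693888c04601a66946012a2b65f168c01df228c0212948c0149028c0,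
  nat_lit 0x3e48a10f2a3149014808c54643588901087967c9758a6d8e28422d8e6159cd8e5c21ad8e33316d8e3330cd8e6c700fe13e496c2b3e48cc2b22008c2b61580fcf2259e7c960f9a7c93e4a0b805be9243821c00fe36f1128386f10c43f4251cde24271ede221f94de273a20de229ea2de2145a2af557a9e95a57a9c2a157a983395e094af550518aba55d06c2055d144f455d16d5e55d227895519aaba10412aba34624aba58aa6aba6af0aaba27a0caba2b79caba638a08e26d318c7179494d536a98cf2969e92d5f28686e744091ee7435fa0e7475f82e747108e4ca6f582e21710985cc7108abd97109e8b07109ca7139e06e215a3a6e2153b22e215ec96e214f608e215219cb685218460a0e41aa4312c26a435219e2425219227c521a22593c608a436e414a435dd1228b5dd0c7453a294bba336a2bba5dd182ed5dd26b895dd1cc1070d86bba6e416bba0a8928b045822c282cb1ad5e6af06b896af228b06af1c78c1bb94d5e58324d5e70da6d5e1bb8ad5e23c90ff33cb96dc93cb94ebe2239c7972bc8e13f09f8479721d187973cba2e1b3cb841051ea1a7975b2127976e48a79775f0c79726f1279653e8eeac3cb108197560ea932ed907966cb0eb4f335a2de46f21e44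26f21c6666f20444f6f22443f6f21adb16f21866d40c84de474506de445b8ee8a745089f07299ce8a7298850327d8ce53729944fb7298c6bf35f94e534289ae5329e1287d35f8cc2d35f909ed6ae066bf21b9e6bf616946bf2a9a06bf5aa246bf716266bf16a826bf3a11cb4e2239227e2238a7426f68265b3a104ad63a1164473a118a583a10a65b32d9674212b06742340a07427602274216a8a81640b162d546f128de57408800577068de40b141630cb2081646f1c8164dd8e8163e410816178888163e6828161882681637aa481608d988160b18c81662d92c401599ec4065422c4046f20c405f626c4079b24c4045a82c406e48ce453bd9adc9354a2dc9234a0dc972294dc96e4927386e4a4bdb6e4a66345a38ebf577b90bcf45d248b045d08ef745d1467109f9a8ba776128ba2b59c8ba18c90c3f583228ba3388c8ba45d063196e4828ba21690dc931d86dc95f008dc95f0104251c38ebc065004c6910e9a2ad0d71a03410a18035019a01d20e91a037681926286b2a0eb161610b1d3c30eae06dd907893c486d0333ca2d03681a6ec068194c206819831c4eb96b8d352a0b8d5c69a3fa28622b8d6a91eb8d4eb8cb8d70c82c6d5c60ae191b49a7de2ce1e36970c96b8c5c61684f1f520d14479a2b8c5c62651a5c624bed28da0b8c6c19cb8c22d1ab8c1f518b8c4278ab8c4059e9244a3a09244921a38a4921855251f829245c602b5e5c682a3f5c6a687b5c69844b46302b8d5af02d035bc26d036b298d036100cd03681828c6538902744630e63b6021a8c6,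
  nat_lit 0x2150e0da59582d3469a18f1878c14dcc78c18c33759a2f1861920f1878c046a978c267f078c24dd478c0adcc38588f1839b1070b31f1016d0829063e06d0e4780a0263ff0a1223ff1c8203ff1fa963ff037943ff290123ff1fa8c3ff0378a3ff082883ff1ed823ff2c8a657e18f2457e057a257e18fa057e2c99e57e5851a57e6221857e07b9657e2909257e07b8c57e1ff80fdb09f0657e3220457e2bf00fd209f102982c98ea2c1a4102de4ed1e5642b21a3693fa0ed2a2b206d2a695010092b2140ac1f5925641970a5642b21632e249260861011a4920da125310da2672f0da0a56924410085042861b40da1063c320045642b4961b40159a1b40da0402e249041b4529104925d62063d3688c63d31e9cda631e946d131ea0c804141c63d2b20e63d48e0e5640ee8a21610b0897f10b1c03810b161dd1ea1221601a262165620821611a9c1cf562162353ee982441971aac4562223f850e9a59c3fb98ac418912ac410826ac450ea2ac411a8aac41be92a0b3fba223b3fb8a9da2ce227f74ed167f75d2087f742e067f6804087f62e9887f5583a0cca5839aa266b904b0779b26b070678a37f1bf960cf1bf9c5cf1bf985a30971c37f2ae2237f55a04c2315182c234d192cf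e67f00ffc6119a777611a6c7149322c2366d06cd31681298b4c58630d1868a6df36f9630d185923942ea86cee68006d6b3270ad006801664e3271a2473f61230918480ffe1ada064e4208835b1b81260e1310673f3f608a7353980ffd4d1881e60f300ff81ca14a741ca0aa741ed88a7453a00ff434a8837036f9c0e734a924e7073886950738a6da0738c60e307140e730c040e700c1e0e736d160e7370200e7169a60e707aa40e711710284431102772c9909b9205108f72f60e2de3fa10a4c0e78e91c0e79a1cc0e78c1cd017041cf526081cf0e6941cf3aca2adc4f81c7593a382759383a67593aaa47593a29a759173187592e00260125f827e55578a7e53f296aaf3f29881b2f2a27e530e207e53f08a3f076d9ea86543067e13f09c9cc3f08c40d0df927e13da887e1691a47e13d8a67e11f8167e1206947e120c9a7e15a4187e18039e12c80392a79206850072d41f007286a300721fa50073e4a70074d28300737f98bd26728489944c92b3144c8cd526a91489972e844ff2a894e5d1eb923f672e8c5515678adce4429252c5c692e3b6e716acf1ee129744261c89d2a39889d71d9689d71d8c89d7588489d6590289d44e80fa91f0925462a300fd91ed20636076146ff37f8843f37f8c0ec07a846ff3e4823963f1027c965f867075ac067c9718127d47f420e9e1f11259e44992fe803c1243b21d80fb803c2244055c9a44028a184401f38444022000fb937f8675565f822ef3aa8acbf12f129514a880fce3eb12db765f9675565fa0de465f98bba1961ecbf,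
  nat_lit 0x40120140401227b04011c80d4011e31640114cab401169b01c82480208c028020bf848021c70e802200088021cb86802042a221501a20215200122152850a215244a45092449e1f82448e825244909a92448259c0eb8c4890e61c1ac0429e4890e6084892e1864890eb964893201e492017201d70eb9a640084121d750e841d7056021d70d6081d70cf241d70d6a61d72851c1d740014a832ff92a837570ea835418ee56541866f55418c8004d604a8317b1ea830f602a834f9929f30d29802a0e7981a51fc1c1a56c5184692c59ed8a2a89cd8a23502d8a6f7a6d8a3db18d8a6c502a86543023ad548a23ad62e243ad1d69624c1260a3ad4ef0c3ad1d6882961d69e2631d6984e43a29e3ad4ef163ad032083ad1521244c3548a44c12e8c44c22602c332261425d226166a922624ded03d1a44c2d90644c53f1c24753f1e45053f2644e53f2035953f0c77a7f010a7e47a0ea7e62e04a7e0f508a7e23886a7e3bd14a7e5a098a7e6ea824f72f9124053cd225f21d59c5f22f92679a2f90a0c6066045f2063165f23cd1a5f221b0a7fa6138c7fa4fa127fa3fd249d33fd206ef3fd1eb433fd1a7f33fd14c273fd16436168247fa2ab827fa159847fa1590e7fa08b887fa0cd067f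a4609a35018e928c12d0a08c1233048c168c9e5f852614d1969516d1968c9c8da68c9233568c90d1968ca48db68ca0d1968c8ad2a68c8ca4c69588d192e084d1968c98d192e098aa12e08e34c2e09034c2e08c5c10b7125c10df885c1061a25c12e81c5c12e0945c105d205c12f8985c11a6245c1695a65c13ee0a1ba3ee1e7dd3ee1c6563ee181112b2267dc0dd167dc28f087dc5211636c2e516a425211c5df4ad18a424601ca4258802a420e406a424ec8ea4242810a4249726a424d5a4a4219c22a4248e20a421b60aa422e50ca42590124923f01a5640560c56445f8e2840431031e14c100b064c10a8a1238e1e6220104062a89011a19c0ec2b22a904406158e39a0c1905511cd0ecd936a9018329484a6f4d18e25412a00ffb1870e41f1b9905294d1902c916480ffa23a8e30e294903cf7649e5795d1102732cb8e0b905c8e5b72bf9051d0798e7313678c929494a4632494946cf4949a15d4949851214d90abf4678eb4154510e615ae1045d123901f04070e2c912a0e80e2b58e43d6d0843ff6d09a3e523c84da13338edc76e380fe22b58292923c906502148e6502bc8865032800ff35ed906df73090a741ed8e56b2b580ff664c0ea7465d8e6df5bd8e4ff53ca2ce867418acf5bf1699853b1ab7e567a4b7e5bf204685bf1cc900a90e6a95bf04f195bf1a8475bf0c99837684b7e27f86b7f5bf84f18376906631ed9057721e8e5772bb80ff56b91af1978ca288276d20d8978c96d8c6c4a6f193f7a4f196c60af1978c869744ba1073606f1045222900fc7,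
  nat_lit 0x1e2989ae21f9a9ae4d726db11d60e4e73a10e1785d01af2962204ba03c70e29c638a6bf154310b723cd8e7e13da902904db8e2905f88429014800fd0386902a3132082a3346262642b2a22642c2a026433e8826415180fd113200fd75ca067bb3dd9e7863dda0b69346a07bb0861a7bb47c247bb33da67bb3370c7bb3dd9466e4aa102560210e2974aa0e2cb3a98e17b18b909002890ed536a98e87947f84ff03ff108ff47f905616b0068ff073106d00aa0e6d00249026301e8e26336800fea09e904760568e47613180fec2100e0ad2101013d23b00fef0568100509e8100401e902620248e26221000fee0aa106d10730e6d113100fed36880fe93a99e8853a984ead6019a7533a99c44074f229004019c90058e9a90061596900449929006158c9000aa069007178490048000fe86220e51b1af100641d68e2b51af0e05927f04b1527f0ce2e717144fe64b12e2e2a69cc963e69ec962a816c9664b18bcf64b249f164b0a5502a988c962b79055317790c031ad90a6e61e8e84160190296537103ae41e0ec3d3e886c016cb20c011969cc016938c76f3b7a0a7e3b794d273b7847e11ea1c76f2051276f3f09e76f53ea476f1cb0876f30c122583449e2ad25d1cd6a256907e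a5948e4b725d06b2912c0e4b625d0825825d0e08f25d0c24f181844ba70d9c4ba127944ba3c6244ba156a64ba2450c21601aa22202450a2200429c48a1101648a10b1448a135901072e58e0c52e594bac2fc125cb3cc205cb760025cb412a65cb0701a5cb2e5a6bfa2e58abac083865cb513085cb07e945cb0d50c734079a073439a124790d506276015201aa1971c1aa39a141aa1220c1aa111027341112020a3ee0822201c9c2221111a1fe11108a2f1110c11e08f142220849222201aa42220e90c2223149854c087927cb2a60456f63b8454c0cd1284125a90adf5290e1d50e6042150ea821cf0171c1d510a8a1d50ea9621502a921d525a861d552a201d52491e1d545586a540ef24a54166904b60478e4bb56f98b0e56f94dd44f812cdb1fb1cadf25d84adf66d82adf6ea0cadf6500e6c55f8106f93628eb8b48910bf072e82b5d395927e94fe128602ff822e06368cbec5f614c6d6200ab5d5ae924315ae96c405ae9a254636a6b5d7929ac6d5531250338392f252109872056e1ea072209276d503a07200788244500c900f10128e0f13900c0f11fb060f107880fd307894720390183ad390068f3390269f03900a4403900cfd33901c7073aa8672038a84720220167204ab1a7555c48c9561f01045566c863e04ab088b0224089560b48495662e1c9565c4969561f7209566222295618ca49563a2a6956198029560199e20a102060330198a1d40ea16033017981dd0ef1c02f0ef0432e3201a1de09d861de08f221de01ba01de4d80a8026558c80240124a96]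
noncomputable def A_1 : List (ℕ) := [nat_lit 0x3e7a035602c1a3561b0983560d8a43562d3a63564ce063560ca908150ca8e8320ca8669a0ca9a19a0ca8a15f0ca8c6d7014041951dc9e19536b941950af9619509d241950cca61950a1821954189815061f168314188ac3e41886446624028312190483123f908312188e83128324831401a68313311c8316e81250728712d3a44a8e56909910fbf0500efbf7f204fbf07182fbf7df80fe5756988304ce0a8304181699c4181ec06418145454988e830617108304262683027d24830287208302a28c830025122d716b8a3c01e0162d716ba296c16b9aa9716b8265f64b022d716b8e74e2c40e2d764ca42d72949e2d760784c99192a0c9919418c9948f06c991dc120651dc048411dc0a6ad356963b856b9a3b80a0183b8635083b855c1abf748f20ab855c1eaf834c86ab83258e699071106a90710669907118fe00710a018331840e200c160e2356a00e20ad260e2057240e22cf8c659397a059f32c9459f0a20e8c030310eef77790d252ad8e854149105c242a0e55e0a5902920a5061443128a1440a21e8c10a20214b1fa121442ae1e144312941442f8a21442d9a41442c2261440108214446c1257d46c0c46732c9c1b546c1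c7800a51c8d8233948d81e0105b31b50e5b346c045cf2d1103612d98414a2d98c584206045b32d98a625312965b32c2145b305c1e5b32d21a5b33c0845842c2183842c2246253189e584058125842b122584097205845d40c8665d4044c95d40a4a05d4188ab62320ba825016ba843314ba80dc9c6594ed1465932c9297932ca60d732ca04f132c8c9da28f8865967d0e37418b04cfa29e9ecfa42ba0cfa753a2cfa563a4cfa29d26cfa1da02cfa1da0c3ac23d863b441a103b41da06a8111d923b4586a03b4670a23b408f9e3b4032823b41d6143b41c88c3b45be045732b99c0ae2b99e30d2b98a35c1ae16573175205732be2457334c82573036983ef634a43ef6720c69918b9869934ca06e034c9c0e134c94ce434ca657217594699668048df4379af3c4361813043624cd058386c7161188f3679b08cc05ae8886c79e06c4029d14d6c6b60c53a5a684d6c5a68cf3c4ca0c42b2159499406b1e42b5d11a9cc67f22ba23271cb4d79e14b4d14418b4d6681ec935a68e24c5a6a42e15a6a6cfe58a06b4d15988b4d39c04b4d17596b4d6ba9aaf857c2230f1ee92ba07de8698b4c582af81599caf857c20c1a11888af841524af817026af86009c3e039f902cb026102973a1100f539f8e2562738e3594fc8ec282aa0a81f40f9097a40f8411f40f9c99840f9e51a40f9837740f9a3dd40f965546f7a481f26e90359270102d33fca4cda669a6c9748f24c974659ac9723a18c974d196c974d18cc9764b80ff90f3227f93fc9a1e92b5027f92b5109793c5104df1d6104dd38a1056a44c0c9ae4d71489843d9e9ae,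
  nat_lit 0x6071895360726bd030222c0e33c88c0e72286c0e47e96c0e5cf94c0e0e39602d397a2a5d52e9ca1d52e942362b224a5d11b0ca5d52e8640e2070e8f71bf82a4c205040cf10d021c70e7a41c72cfa01c70e3924280e38c02d0e39e23b01b861c7205081c72b29270259320ec96ad1288240592c9840092dd12b98c8e4472145735d3928e40a79e8e43811a0ec4721a71738b847026819e70218ca67023a6027023811818138120b1c3430870229196702118142641180e037336122301181e63a118164691c61a23014206230583262301c4222302348a2301320c230806945272961f00d2938d00d5fe8e29544e90ebf59810d635b41050d73a0e65b6590ee746b1909891aa1006502c1035473a06d636b186bfd57022b4a70c889982a694b865c30427e5c30c54d75886b865c31ce565c30ad377570a6c936496eae3648a9744ba166c9770246c9441066c93649e8494249244b77e0aca35b792b6f65196efc69b96b8621092d633ac9cd633a11aae0568a4d636b198ec06d09ed636c722d6357020d631bd8e27e1e084d636b2a6d633b698d6305c985b81fd12af811892b0763892c7130f1245230f1a46030f067e52e72061e2af9c61e2dc2661e5002461e0661a61e5620422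0245027f70e71859f2cf8221a3130a40a067846262f7186264329e6263131e51f313045ce12e1a6262cf86626205166264341e6ce66c8a6ce2800e6490819278d12a9ab625b11e513127a06493c6a2649324942b95b10264915c8c649324827bb324984e2324a44dd324a668a3249edc93249c0d406a86649327100d50ae9064e43a0e92649300fd81c3106ce75784b7236702e2e36716cd93671ab163671899c2938ee2f1af026ce073066ce29c9e5277170e5271d60252767d1a5271b598527140100400200100327a1027c20f822f21b0a42f21e4842f244f222f209c9e2f22d39a2f2026182f20719a6b21c2986b24c5886b2583026b235900fbd4489e9f24b8068915830489144898553448a689e4501e89109aa08914e908f304e922195409a29d26fd1e9d21f50c9d24e9143ea6c7129d2427109d21f7049d2450249d241b1a9d237a989d216a8e40316a904531658ac7c63e162cb63e082d563e0edac63e10d4c63e06dd163e188386d204c7c1789ec7c3e3a2c7c6a626c7c350a4c7c5b482c7c1081c77e32b9063432b9e0d70da1e6572158c65732b9442b22c12657106046570daa665740e0c20c0d29c1a70d28820c40e1620c0f19881c40e1419e0d38881c244a681c0cf0c81c5021c81c0d3a69940151e1a70e6261a70e6a01a73c0081a741b0a51a41b2083941b0cc066031483641b08df341b0edfd41b10dcd41b0450612c8483628d1683642a9a836427a68362aaa483661f088363e792d9e1268e3561ab062b81ab041c81ab0c73b1910435639d94356,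
  nat_lit 0x3658cbf1516922895f8946cb3bd202891d11c2891ba06289565a62891aa1428939a982897371e50b44f06e6e737026b739d246b74ba0673a3858673939a882ad37f06b2239a8c604320887353c6a0735594a473523126735302147356b21873537f140ec27da06fe2819c6fe598a46fe0760c6fe67c9cbec6528cca86528a2e158d84ca55f608ca566822ca529898ca565414ca517096ca5509121b25090a50d6161ca123319ea1228696a123f4a4a1278626a1279e02a121f286c6255a12d6512602b4c59c9aa065930484c27d02b3942804b2659ca0dc259ca246859324b3912604b3941808b3922306b395f48c28b14594be94bc22be931ba4be95f4984875f4929565f49c63b45706be978688be939c16be95f58a63701e9226431b9226731ba044831b9c0d231b9e8ac31b8424931b96beb31b9833531ba68b72bd966374791057b07e0e1584cc9c95d07e1e17f3b4140fc07e1470a07e1811c00d020fc3b4920fc241060fc1c9a60fc325240fc31f220fc3b40a0fc3850c0fc68214dc272c9ed042959c0a36821252b682085a86820e31d6821038d6820adc221908d0472b24d042a826d043349ad0455c1295217616ca7653882e86539096862408ca7170a4ca72e218ca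71760cca77310850f7311eba060988e6233b04e6273118deb58d82e622808ae6274f0ab1b58d9c50758d96e9e58da4e6b58da6f0c58d8a53429a16b1b11e9ab1b6d418ef722096da86d4103f52bc86da86d40e4586d40a44133404da86150e7a15bc0ed895bc10dd433508b786aa9e66a21f0e66a3350e3de335025783351863d31f0266a5e6a266a334224461249a668334147552a41e6683aa8c6685fb06b2b5fb04d6e5fb1882832d9cbf66bfa6bf6639a2bf645892beb4571cbeb5f59c8525f59833b5f5a695e5f5a428b14914beb29d8d00729d9a8982a71e53b8039453b0522253b6f12453b087a653b09a068844428a13409a168854441a13409a1e812441041346ad188eb5f78a8eb0a80c8eb4759415047596bef475a227e47584b424d59a8eb2311c8eb4ad268eb0aa888eb4831266172a9c9060aaa29064831c65a48326af536e1490665406cf967c8cc5a62d14cf962d08c4062d204e7611a4c5a27518c5a59b94d526a90cb376af20caa65504a9731a14caa6550a5656550c6346551eb1131d06caa6f6a2caa3cba6caa2b296caa5a808caa4599c13d19a988b357718de06f02243c2209ade071a8ab6d2c890e352cb0ee3541e12e355dd24e352cc08e3533e22e355b8a0e355c39ee355181ce352749ae355b696e355ff02d5e5ff2236118718bfe44f26bfe5ff1c89f6ba22bfe6e612d7438394d0c5e98cd0c6860632a68608de46860c7071ae04d0c7599ed0c5e996d0c616a0d0c803a2d0c37fa6d0c6070cb9f6070a8fd14e02c0e6071ec266071cbe0,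
  nat_lit 0x6c494ad858918ad83b68cad84b8963dd1ee8a9714239e9714b888b8d5b20e971803250186fda4d3c403a21184039475961602807598a6807334248073ac8c80725c1ad1e5171038430d0e34f5818e38430d104342db0eb032f90e0cc21a1019b1ac0e1de4558e6622908ebed0621034a02b8e34a5508eed610210572104100335588e8ac1020e8ad6db105e01950e6dd3d68e37f1bfa64132099259b2f00251d209a25e0039184132f70eec030e8e2cc12d8c51e06298072039220c10251025c01e0e25c2098425c09e1055d0570e55d12e00fc82841034643e8e3462ae80fc9039023461a300fde05d9c07228f1425b12d9c19b12d8a25c5f60630418a1205118a0c3041821431418226c5a18224bf11820441d670983040051207203900f9f12e1625b250108ad2fb108ac2f890ed62500e5720571056209e0e56212d8456243e905eb2840e5eb2b100fca209825eb2f580fdf209868ab209a00b82099c0c2209980bc067a441309d908a431390eec3140e0cf5200ea5d207106ad1758e3471a38100b57c0e8bf0cd9034f5170e5b630e902552618e2583f5104b425d100902620eb291978ea7a68f04a7a53d0101719e04d1e3919432a39188c2d0789c7233342672337f2472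31950c723620107b679e0ef3149990c40364848846b21237e59b9ac8701b1820c106200330ffa281c40e1811e0ea9a489419a0b374199cd80211108332348e8331f88483320382833439a6833420068331bf1c83321b18833419a61800c01299c293a06c936498ea73e78c93349988f3165d92cbb182923052bb92577057122f44999215f5b1849332409c9335c09e9333e79693329a229333e4a49336f2269330c6029335c51092f5c50e92e5c50a2916a18ab8a5c51c2605c516d431991ab8a2cea2b8a34686b8a154a6b8a61724b8a197a0b8a14896b8a15808b8a58e92c45346a2c455489cc4531e1ac45622a4b1c622a62b56229c6795cf86c456a188c454f504c4559916c455650ca1750b925b350ba0ac550b9cac350b9a9ea50b94aca670a4a176d326a175f89aa173fb27016483110154888e57d222900ec7ea047085f898708384049112ca9253b72b8c53b29d94e5761402e5772b989110b71a911488a2a43488a016b4889c15748884445488a6906148149115a722b975cb84a6e5cb924f45cb98a5f14516b975c388b971ba8eb9758aa4b9713226b971450cb974081cb9780a109be80a1a3e71f2a10143e291014794a50141488226414890bd43dd8629160a1c73939c8266c5fa9a739148a0bd61489ebf51488a25712b962911589e29103f1a2911572429114e08291146a0bec1b1a028d03f1828d146a430e146a68de1469c3103050628d0268f013145221031451a830145181071450a29c14e1628a42a2428a39b9c28a1448c3544c8a22891449c428,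
  nat_lit 0x1d6a424355c8c2430209028c0268e28c146010136369060617f1014b2af0ecd04360e27c23a902a420f8e2a44c21298430c969844c2161a24c22024f4c2227354c89a984152089841e7909841b98e9840d10a98430c8c9845f51e9840bc1c98477e02ee05f484b6e5b71a6fe5b7123bf5b706d6a3911cb6e23fa0b6e6f402b6e1441ab6e12c0ab6e6b022de83719ad603718abf031b866e35358a6e337196a6b5ea226e323f926e35f8166e339e9e6e31da1a6e3786a66e35a7a46e36f40a53a4251269a6f408efc39d9ede829d16de822120de8220a6de86278896f6279061937f0e66c30c90b2230c841f030c9268f61288619710a66193199e61945d1c61963016dcb6e58ac605380300c53804dcb5fa88a703a50ea705380831931d1ea7048892a7045ba0a70224a2a700f29ca703a71aa7034324a7022426a703dd8ca707610e5737611ae300e71a42b4ab0e78f761229593c788ec2761108b07610ab727611cb695c586ec26a192ec25b916ec25259aec23c3a6ec259824ec25a40aec23c38abd43c38c24a342867873c3989f93c3207875ea1678708188787125147872f0925ca500165e12f0a25d12f09661e0609c5e11e00e5e12d0985e12f0848d82f0a65b82f08aa0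02f08c61e204045e160c8e3ae41e10ce55ac0ecf965410b3667c8ec7763010ca83d422bea475a0bea73096bea5f51c28b5f5182dd5f51266d5f50e5885f5268ae5f50ae615ee06bea65404bea1b514bea4a2083bc0820a3bc1de161041de22c191de1e19a1de1a06a032a43bc5278e88d29f0ea4f3421a4f91d7a0684342124dd3421668c3421827461e966846bfa268457402684776086841a92468427a266843460a68461e8c68406e9c6844c80c3c9563049900bd229904c81297f4c81c92e6f7209902029c9904468699046024990144a69901e494990594989905cf8e9025ce12c775c31eb9c78d0cb9c3e79441c20e0e07f20e0c7cf5ce0641c1fb84b9c1f58eb9c5ce0e3e45ce14f1a5ce0c83572b9cb9c41a94b9c6b920b9c132a2b9c48124b9c68082b9c0b990709384820f1488905d96808691118e10d011c50ed0127a1cd016808895e680a279b5b412d015a79ed0158902d0123b9ad014878cd015ce822a132e12b9d5cea22a25ce9ac145649eb9d13388b9d60e1ab9d487a4b9d55d043571548a3571ab8867b5f81c3575aaa23571549435761d1235742a9e35702e1a35753726357148a43571578835719990bdc08b107f80ca0e7f85ee00ff147f847f83fc00ff05fb1a8ff0269028d14682352426183521578c3521a9142af1a920bf61a9220db518123525ba883521321435214410352145243521320a3521301c35266c0c7c03e014cd866c184ba56c0cd891668e4c3048104bb56c104b556c024ba2dc1ca8861682ad86e792ad86ada0ad81fb9ead8,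
  nat_lit 0x932083e6162683e1640283e6f49a5485cf0ade96f496b9e54b1ade96f48aec06f49c44c22286de958820de976016de96b52261730b9695d30b9256a0a82061730b9896530b84bf030b90b5d30b8ec7330ba463330ba68ac30b8c95d30b9cbe913e066170a90861775f9661747a9a88447a927bb47aa0e1b2c2968f50bb1a8f50a91c8f514b148f55ed828f53a2888f5458248f531c268f514b0a8f52c28c8f55a39e8f547f92840789168ff41c9cf124808eded47f8af127890690166410ef722d88cc85039ef261640ac6f637962c86641ec97637989f21ca16c6f6699cc6f48082c6f637a0cf9637a2a836378861146f1ec6f66424c6f23618c6f1ca0cc6f3c80e7bf3c80a7683c80c7863c314790082027903b4167905c51e79061826790786a47903fc0879042d0a8ed42d085fa42d1037f2cd8485a3c79285a4769685a33e1e85a3ab1c85a0c51a85a0961885a21ea485a571a685a4cc8885a1518a9aa4d51e64f1339e9aa488a49aa4d5222584d5162a34f9829aa0c29a9aa4af229aa54718f291f3a6a8e1f420a8e2c418a8e37796a8e547269f45470a6ef1c486a8e3601ed0b469206c036018bf0093926c021f066c039ca46c04f9186c03e9a0dd5262102c825b8e2c8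164084bb44c124466ea125391f512c063e9921333e98c4f94690e7d314c887d35be067d341a207d32aa9c7d36269e7d3088187d327c947d342f0a8d246902b1f4691685e1ab1e8d21479a8d2563a68d20a4248d20a4100210a40c4412e2041480d89e14822094148468a014839ca214829d2414831c1617831a0263831c0287731c0a56d31c0c17831c1e0d2766066382b6966386b5a26111d618d6b1ca08d6b6b5a0b8e52598b8e6388cb8e5c714c7113114b8e5c70c26253a08b8e3b1a2cd867f0e73d2bd906a03500101207e100e9181107631470e763468867632370476338e247631bb267636301876321d9cb7f5bfa6ace210a0b7f5bf92f38468923b946888d564688ad5a4688c481188848d129d9e8d1240948d16ad168d1425248d13e6a68d1449828d1363843a47700eefc1430e576665108ae5f51074e1d21413f035143a43a7083a41d22096a1d210c971d2260621d20a13f1d20c06a1d21e1980ca063a44779664f0a88264f327989683279e735327920d5327a48eb327a2242327a08ae3278a8ef1458864f5ee1464f408a215a5e59cca84088c8b540890707654088114088a6fa37d1681145a9481108d188110f6940310f6962890f68c28902d861ed2e51e1ed1b1821ed20d261ed2e6221ed543201ed0188c1ed36c862f64059c6d96301a6d936c8233236c880e74c6126d94101e6d939fa06d91f8026d94c6249314c622b704c60cbbe3e38898c5df1498c0bd9898c1218c03a1218217b121a2b30121a083c55c962435499a24301d1424302108243,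
  nat_lit 0x64a0c94764a2257764a2457664a0a2d561392c9416a96c944a394c9422918c940fc8442b042843694e3943691b48c9c70190a1f90fc86369080121f9528201f9019141f9106181f910d0c1f924526a54528161d452810208528242165280aa545280c1d45281c23a25006a504e388a500eba0a5052a16a50108041d34ed229c70d6149c74e3a4ac4102989c70d60a9c74e384a4f4e38248317d909c72fb089c732b162051028c1a50839027205e0e5cb1868e4bf259906cc60010b9e710904bf0818e78c521907872598e9ec2e50e0bc1391016e3120e2105620ef1f563102167930eac410b10ac701a1021115010a231860ea23513101bc5128e1bc51180fd50de00fd61091003401a042053bf182050d29420510292176102a47f7102a22351028a65617d8e20555888205019862053199676c3b61816d3b6200fc3b6122af3b6248ae3b62695d3b60a6333b61c95e55f0676c31b8876c1479476c2950aac71a5208842950c83e2961e0a32951a0a3293960a32938c0a3291840a30518100d2951b00d69a1234a41f123614420652a29a1e52a41f1452a5639652a42f2452a40790a2c296821412969a2c70908252d60f205d625d225d62eb180bf2d5025d65c1885d65a3a45d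64561e5d631c1c5d62c7900b12c78e1411c19258f29d2058f71d9c58f6840658f7260258f39ca658f753a458f5649a58f58d86ceb6759c7ce70810dd56c590e1031982d8b6c5987ce5e9a67ce29a067ce3e71c5333e72010f382087ce4149a7ce27090cee1cb0ed0b21f8e16b4ad108f3340904dc3868e30f4b19029c27a90e456070ea8971d90679626902b97310e8af61810c135e7109333db10bce4dc10c4d32f8eb366400e56e19390d0b5ac10bd05c20e7c96300e65f3e88eb845e810c772b70eb631c5902835db0e77a1419031b3bb8ebb62721068160f8e4ea2750100f73a167f65b38c4375b38a37d5b398256479a4b675f6a0b6719698b671be96b6721b94b675b3a4b581bf0ac7d2999286163e9266563e9a2cb63e9832c63e9637e63e944383faa27b63fa9cda0600a67f568a1c7f521f90104206902e7173904e83fa888614308e7be63ba6c7d352a4c7d21c0cc7d63e868613fb022d3430909a542e049a53e4a685c21fa485c286a285c6862085c2d41e85c0961c85c3f31a85c29d9685c53c9285c29d8c85c2068485c4d280f5b42e010073fb209333fb18b893fb1632a65fa67f61950a7f673a0c7f607d0e7593fb067593fb266ff3ac810084831075537f810163aa810152e90e0bf2ea8e74760f904e12708100e3a38e5d2186904ca2570e6cc186866cc2ea966cc3661e91e3660630c0d1a06cc664266cc108986cc2ea8c6cc4e220aae4e222ba84e2122de4e20cd25692949c441f0e33c6381c2c80de8e83e4e2044b741f0272341f0834a3f49e83e,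
  nat_lit 0xf318a724221e127539268441689c7f91689a0bf39fa22d14f6022d116898c8a2859ec8a331206156451283036a926662a712ad964d9eeb96d186c9b6d1a0d136450eb1d3c310ad956c86da31f51eda33c490da36d18259641198da35ff0ada36938282353d8c82353d9a1e847220a7b75892dfc6fe24eb975ca4e6e75c9a8e441482eb95ff06eb92ab22eb94cfa6bc3794a4bc31f2a0bc31f398bc33e290bc34df0ebc314804bc35e1810146e09299f75988dc16e08cde45aa1271b42b9cdc141a9edc16f214dc15e320dc12d3a2dc13e7a4dc16f126dc170ca2b9a4de9ae19615029bd1470a9bd4de9628e4de8a8104de9e4484de9cb065c4869bd31d249bd588a29bd3cb889bd31da09bd408169bd0a7885ab20e18dad58e8cdad39a92dad4759cdad6d6a0beb6d69c4036d6847126d694b1d6d6985df6d6a69aa6d6a4af520e94dad66990ce26710899f4cf90e4e4cf8ecda4cfa21803899899f4cf944186758299f59ba699f80a2499f20c0c99f5e31af2d56888bc65e30c6ff39d86bc615c1ebc637f94bc65aa20bc65e9a4bc673a26bc63b482bc66fe1c87d74f1adfc6d09488574f0eec94428cda1192927f96d086e9e57b846df41ba0af748322af757b9235e57b82e9e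2989aaf7521a6af757b9086b57b9ea1f6f686af753b08af75a814af75e402b375e40ae5850906bc873a1ebc872c16bc8468a2bc8360a6bc85ef8ac445ef906c035b90bdf57a8abdf5ef9e5005ef96af55ef84a8e5901abdf33506bdf457a2bdf58ea4bdf5b720bdf62216bdf0a7128e10a71c4610a71e51c0a7260210a70a40f2079614e0a52614e3128414e3160214e32b8614e2d98814e3f290deb0da1a0d7017161d00e8120610e80a02e215881d031a1042b230945f203e94461215864612309c52031010bde5ee8e61e230846202308a5f22308c07d30f0446146c264612f0884615ef0c89923d908906d88a89044802b8e09aa28902199e8906f11a890182988906d8948904482489844c0e5f83160ebde5ee9062546d0e8981b08889844c04bde44c94bde46f86bdd5ee92bcd5ee9c7225ee86deb62720bdd2aa02bdd59318bdd73b9ae5a5750701d47e20e7747e1437647e1ada04cc208fc360868fc289a68fc0a99a8fc1bb0c8fc72c24b3559aa0e5959a98a1f36094b3579488cea59a8c6c136082f29786066c13e6a26c1675a66c1785026c16f412bb35d9a2cdb15c1289029c90bb32a30ebb344804bb349898bb34032011840304c154bc1a80673b988fd73ba0e5628788e7740306e774829050f456169056fd1255348296bc0482a0443482a295a19c1a9053259290536482905457889055f5249054aea69055e00a9054560c9050aa9e90572710806727165d63b49ee4e72714bff3389ce4e61806e4e60392e4e3fc24e4e54520e4e2eb0ae4e5ff8ce4e,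
  nat_lit 0x3909ee2d3908a71b14d847216569e721627a07212ac203df3b192d8971792cad6e70e62d79306dce6e71ea0a366925496b0a455850512d616b0a0d9e6568c6cd6cf06cad6569aca76568a2e617316cad5f584cad36694cad3341acad6c49e6cd366a2b57366847f92b0906cd6b0866cd073086cd1bc8ed616e410dcb6e5810061a98ed3d4b886d3d69e810181bc9605c0ba1637908e1c3791bc9c45e12b98379230923790be043790bd863796b00e3791caa63790b7a437912a223790b8a037902e0a3790ba0c379481083da1ed24a7f68a9e5485931ed156f69ad1556b18d1568a8265c53f82d1553f9654a53f94eb175602a7f47a06a7f0f98ea7f0f510a7f5cd22a7f79720a7f2a50aa7f7588ca7f20e1289e6df1041a6df1ec4a6df18eec442a4dbe47a08dbe20e06dbe3e8924fb3c99210418092cb72748e6da2749078a1d9907931b18e7933c9882be3c98c2e71739479366e047932b91e79308ba279318220793273a47931179850a1178c0370429822f2bd0622f2492422f1102222f01b9422f48f86c1748f9e18048f96a062809291f4a71e91f5518291f6c02691f0ad9891f5030a91f4121eda141220e624120cb26593148244121aaa209002824591248244f81e82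40900e5e2090105c31669235b305202c8146948234118c28d090048230900c1fc03f8c1200901407f0901a352084a01200fe14120412881204139e1204142212013a26120083a41202e2861205fd1482741394c1c1da1e8275f4188272d404827174028270df068271510e8275d62682754ba08275fd0a82760e0c8275f41e28a5f41cf0d48104be814586be833b20be86d688be84920ec9b64d8463b64d9863643ea4c9b345a08b33458c9446899092d496825023bc10cdc1830e3a26a4103da4969088573b90cd366d0286f34482cda66d0e80660a8430460a8e86f5e41ae8044c9abbe675848fd6d682ce230c10b3759b867086711a30438426ce268a1070e44f1ee8b66418e8b4310ce8b41192310411904ad4118e4b416406823598a090028d92e8b3e59a2c8745967cb7459486274598739745a49f274588d143ea1ce8b5f504e8b3e58ae8b1dc10899745868991ad8ec196729084144c9056f7400e54c740028995e802e800269204d15f120470039204b02580fa7653a068b7401651451c12514099105140500e5147400c514071825143440ebbe34584bbe28a00fbf5df00fe44a21468b45e9868b34594b0a360200e4360a20e45850c68b072186bd0700e6980a8106980721c6bf34c060e434c045023450469829e103fb22e1053c00d9010f0138e10f02a1032c0310e32c08780fff196010004f88e1a44f8901e8614829f16149c8794a090c293368ec295091ac292b998c2961484ce459aa269834c1863e34c24e2f34c0ad5c33222c016ae166984221aa73,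
  nat_lit 0x39a249f82b4a09f858390beb3148acf467a1662967a18d746538c7e33f1827e93f19a1c83f194ca7652a47e318720cf418a1ccf46241ecf41bd98cf467a26bec67a24b073f19019167a087e33f110cf45f888cf40c89607f0c8945962701e1914e3921910139c19138a861913f20e1910be241911c32219103f8a1912cb0c1913c620b3f59f964dd59f9cb482b786b3f1cb02b3f15ca4b3f53e9ab3f38e18b3f26e8ab3f5208e50152090877520a21ce5209c2350e624a412fc08a4128486a410e39aa412c80a9b92570259053d185902c81c590580a65900fba0590516a25904dc965900fc885900a08e58e2c704eb939d2658e6878658e2c6a02b22c6961892c684ae42c6a43ff2c6a61832c68c1892c69eb202c69c18c18f0658d3ce8858d0589658d14a8ebfe4f9a258c6398c58c5a72058c2c6122432c606b682c61c2632c6082955ae1c58c75c9058c7260e58c5f70e58b2c58101c0908458c6399658c3da9a58c50f1e20550f1c9c71f912a1e52ea2a1e0e3a0a1e50f068db0ea06a1e24c0ea1e24c10a1e0ea02a1e52e26a1e0bd9a241120a0178120a2b2a152142410ff0e2414d7a42415949e2410ab9c2411208824f1208ea041208403a1208c2a40980424101d0824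14382213009a8a8704381613575c96870438185354380e9c14380aeb93a9928706c5828701b0868700998887038992a8254116aee5770aa825411e3c0541108275410e9ab5410681657984a8236d1ea821b5a6a82541a4a820f582a8252e0c99452e021ff52e0ea5c5621ea5c3fb9ca5c0ee86a5c4ca14a5c0cf189db4ed821a50ea8a9db11f9c9db0e2229db4ed924074ed961d54eda62224ed8a19d0ce969db516069db2b2089db1199c1ae0fc1a2332490c2331199e1f9119944920d694233119923f111982369119a4037119a20381198c1ad4b61296c0e7882334dc8623338d1830d38d1a6c50f92071a36390d144b29471a3f21c66a3f214e4547f9edd46039c7e475f147e4145207e43cd827e43f2187a63f224bf63f220eec3f20ae453f20cebe59e9eb2a483047573aba06713ab985ac3aba49f33aba6712600167573ab8ac00334a2b3d47f20b3d0f81e75759e92bd73ab9e68f2cc90c2659ea4f0a59ea68fd59e9c8a45958ebeb61306b3d613087e43f10ec2638d046c738d24a9838d26ba938d0c96538d1e40038d1c0ef6558671a6f70871a3838471a5869671a50d8ae3550d8cb6e38398a1b31c06a1b5b4a0a1b50d928fd50d9e24350d9cec0622a2a1b24384a1b3a2a4a1b38126a1b71a96a1b5b714a1b1c01aa1b39c949f74fb984435b1229f73e01c9f7244029f71ef189f739c8a9f76b5923e85c71c3ef173a2b8e3f3982e7695927e73f3a2a4b562967e70b3a27e7089847e7193887e7549a47e74d0a67e75628c7e71c01e7e738d9672139092118,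
  nat_lit 0x4869ad0b486983c14f6a690d5cea490d2018890d1dfa090d0bf9690d5f41490d75696f1b78da46ce78d8aead78d9c69a36b86f1b5051af1b7731c84d6f992ee62e60eee67161aee662018ee635d84b4a0981c86e35da6f2535d8aed676b166bb689a66bb35d9088f35da086f43c886bb7299a6bb5c3846bb072126bb68a1e6bb65a0e9f965a084e775684cb42b9a0cb462a24cb44f21a2443ee1a9e41b4a69e425d208fb47da0b4147d9876f0a9948fb1251e8fb6551c8fb47d886814ad0e6a51ee9016b2068e8fb274108fb206828fb59fa48fb3b1988fb0a98a8fb3d58c6cb183103324dd0aa8e493029ba5d3a09ba0c6189ba547169ba4dd26cdc3bd8ecdc58d06cdc66e0101f58d2080b4a094b1a4b89ab1a31818b1a58d1c8411ad8c7ab3d59435b58d0c9411ca207ab365947ab1cb187ab3d58410f58d0e9b30c5107ab58d087ab3d48eb1a4dd2701f5a1102c12801092662a0e85216090b433260ec5462a0892662a1c57616088c541f7a2c542be20c546fa24c545fb10c701d1964761d19491b6771a3a32b09e3a30ca1c3a348b183a30f9843a31ca823a3077063a368a8e3a3657103a34b5263a30c8a43a34e5223a3031203a323b0a3a348d8c3a3736888f01ed028f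0736a28037368cd6c38288e6d6b614e6d61802e6d38290dfa3828c11834f8470508c147057181c7057001a70534fa03b85f40469f34f8a2e834f9ecfe6d49069f0708669f5d39e69f4011869f1741669f67d12e54447a2cea6a98888f447822ed447a0ee04479c1354479aa8244798ac7293a688f0c58e7b2085907b23d9021106fd04da9412125276d492aa26d48c80640314da93f4a0da91fb22da93d924da94e28a9cc4e28c37b23c9e9c54e29ebaa4e2a053151c929c5760049c5676889c54e6169c51bd949c541b989c564ea032d64ea63ea3db1ec9d5930ec9d57086c9d3de84c9d41d26c9d5f69ac9d41d0496841d0875e18e8483a41d2215f41d0c89f6cb1e83a0931283a44f9483a2a89a83a0b19883a44e2683a4e7905394e78e5462a2849cf6b01c9cf5c11e9cf286a09cf616a29cf498909ce631069ce0ca889ce5b5048645b50c25750d86b6a5b50ad436a196b6a12b94b6a2cc1eb6a6b51cb6a4ab9ab6a4bc24b6a34326b6a3b408b6a7001c74270010cfd7000c4826a210e0060c04e0045002e0067ea6e0033da0e0038122e003c39ce004d11ae0024114e006e88ecfd67e88dac18ca2cfd23f8acfd67e826a167e9647f44f82cfd18e9acfd1f726cfd3380c6893381256d338040db3380ab4f5a79667034494670362a0670535a667079c1e7b2735a07b23ac20ba20f31c7584ab987583ac24a7b638a22c853a1ca7b53d923c06fa109ea53d88c7147106df46fa1ed6b6fa0ca7b53d94df464a1edf4634a2df430720df40d59a9f84fc241a54ca1e9f8,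
  nat_lit 0x3a40a75e3a40cf1953b047484b8207483af1674878c947483a424ad86c19ed931ee1cd936c30ed932c502d934fba6d934ba18d932c78ad935378cd930a2882130a28602129f1214511b1814532ba61453a58e32e3a58853e3a58a37a5638474b4979c74b6d32274b52e9274b1de0274b1bd1674b22a1e74b3c81874b1641a74b17c2674b76d8874b3a48e17a2c50e81b08f1038c2df8e7dd3ee8e58d18f1011e40d8e71731912749798187493a4a07043a4a4adf3a48af1878c167496d406749648165812c0966c02c08ea766b6205812c59c58143586581058025814fba45813251a581431185813600a5816480c58125f244b87051c4be511a04be0fb824be702a44be6d90a4be25f16db26c3224be2669a4be254064be43304e0b7058a4a86c320e0b25416e0b70596d867058cd867059c4b725c06e0b2681ae0b25e26e0b25ba2e0b4c81032e4eda2a4f19708a4f527923370e9a20860e9961de1be121d30ef0a1d30e9887f13f88e8a44efa4ab21eda0ab21f01aab22b610ab21e286ab239e84ab255900ff70af120230ae923c5370126e034c920e03141041620b0240e20b180cf2d29c4160662241607f124162e71841603926416209244163f8884162afa04122091a55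d2090c07228f044123161c41230ea24120391441253198c98531965d91c104a631c08ea631ea90a632ec8aa631cd0ca63531863c62ea9c8235318496c2c51ca631cd16a630faa0a6353aa2a6372718a630fa24a6351b18225112921ea11298ab0578042251a0a222554e942252260e2251a1242255572622554e8a2251129c225310844c63109cba80de0c6211099c03410988621513a06210de1662154a12aaf0f996a9465f22a9427094a9412184a943a688a9465a10a946140ea9453f24a942708aa940f98ca945409ea941361ca9425d0ab965cb12abc5cb164ba5cb0ad011321cb9668096b965eca0b964129ab964d506b9661620522718225227008ca4342f02e013a28ce01700828b77009e8507009ab3170098b1f5b726e0158ea2e0124120e013a296e0138508e0152194e014d50a9c24e114b1c4e1169aa4e1049f45789a9c2429129c258ea69c25f4a29c258e0c9c2738a650b738a0a723fc98e71367a66ab2841a6ab071186ab36b966ab525906ab53f0e6ab36b8c6ab37d846ab15f026ab35580fe047e12de057506de06f00101d03f8e41b412184702380407f2380ab9f5cf964706f5a24706dc0447048b12470548884701d72647012e9c4705ff9069517690b4a1b80ed55608102f636e100e70738101036c8eb153480a298348220df05186525294980a3051a252d1321e690627086905488269014c166902df9a690408246903368669079d12d7579d06e583eb04f3a50920f3a56e22f3a6d4a4f3a5f40a90d0bf8c90d486821574869ec3d4869cbf5,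
  nat_lit 0x31c2461645d266167f38a6163c48c61631d9c616301941732ff8e0c800b100ca3018e0c936e9c6033149258018a06947301a0314301a2a82301880ca1469e6030b188603637a46037701a6031bd186030b98c6035fc8ac305fc8cd6a5fc923fe14a82bf933826bf933888bf95ef86bf977ba0bf933d9ebf914a1abf96b514bf961816bf915694c3561a8c2ad32788c353461cc353fc20c354631ac355cb24c356d686c353f808e8f747907ed29124e8f3c482e8f21e08ddd19e122945c38e2940f58a2943a58c29414a0288f02102294543082945d4a02945fd1c2940861e2940f5942943a59629430816a73167129b859b906105398a61030812c48308061733081e69d308089b862a1e610065206106b5a46107f382610626a28ca7571281f46522c964651e3b14651cac74651829a26f848ca65f028ca65f108ca40f868ca6c1888ca6368ed252ad90cd017f0e5c217592cb853802cb865c0100c3aa1af0d1b2a075407c1e7542361675450ba27543aa1ebac3aa042fe3aa0e1443aa263b43aa2474b3aa0a46c0a4047545fd94754449163974491ad6a3f0a28924b2a08924491226b44904136449241eb449263924490c3974491e21d4491c1740ba86892406888925fd9689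254f0ed8354f1abdd4069ca9e1c5a0a9e54f16ba354f24a864c996a9e0fb92a9e40f82a9e69188a9e6a90ea9e54a24a9e5d18aa9e4c98ca9e6a9088ce4100e11f26f906da65f0e8ce467089ae4671c3614671eac646720e8b0a41a8ce5fd908ce274848ce4dc9080f01b8e231520101c7137108622050e6ad1170eaf81759055a2ad0100a2c18e5ec431045832c18a0b02c184caa2c190348407885831591c583058165833182258331c185830bb245831cfa65832c3841662c38e1f22c3901e72c3a0bfa2c38a79d561885870581c5873ce9658719120587531a45873cc26587384846f82ec906f82eba01ec40b1c6db36d86b1e58f0ccd066814b1e548205d719c145d766d1a5d7730985d72eb847a82eb903d52eb8e3812eba61e92eb8c3382eb9e0bf2eb9c7171f8865d71bc085d71c1845d72be965d75d1a24e313512ba368e94ba347e98ba35d1a03511bc1cba353e88ba3270a4ba368e8aba352b9eba325f02aad5568ab015568c20450006aad53d20aad15912aad58096aad10214aad5169aaad3f2a6aad6fc9ca2d6fc8ca2a46086df9516a6df951722df951514df92bd0a3ce1e71657a034123ce1e7223410bd025803a41017a0600e5974c8903ce581983ce2510c3ce1e702d861e7144a21e7188a91e724c461e7263431e71ea27060063ce2510a5b54d2925b52daa4a2a2da9aab02daa01c12da9ca3c2da9e5e52da98a2e2da964a20e1a45b54c88e5b505c865b539790522291020a35378a52229116a6f537981e56c994a6f2c794d936c9987a83a418f2e,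
  nat_lit 0x70a048bf70a204ce70a1c4ce70a1a4af70a144c526224e1426606e1426508e1425c94b0011702b005801849d580124be5801e4bc5801098b580264b7580224bc58020db25800c4b925f88b001d590d762648e631766109814c08101a2ae0e7685b5106012420ea1b2421e658242221b524206601242161b90c91248411aa24844fb8e3690428248406b184840dc8a48411a10a3c11a0ea274f2042340e21e23401ca023411a125d711a249dd11a0c1fe0ff142345818623452a2223401ba42340ce9a2343c2221ae3c2081773c20c23a11d147840e91e7845289a78410a987845048a1c4017181d3528181e3504923ec5049a1d45279ea090e216a0911d22a0911526a0969106a09397821df10d1c1df1009a1df4ee8a1df0ef863f84ed9c20c0efa40860efa0a4f0efa202f52f921df4ee941df1060c1df0cf0a9dd4ee981c54ee861a84ee9619e0f7129dd245229dd11fa09dd19e069dd50c8a50950c8c4920428a22a4328eb313000e46623301020094100cb3020e3421150a1e301b082251151c1d31151a1dd01c2222a0ff1c0361a10622a1151e21411516085115123d51152403610d2022a0f19622a5688e21556890a190da90677115047e03f004a1950c841b550c9649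22c392a1928496a19241a2a195241c22f5241a5090ec9ca480f912a480eaa4a480e81a9db01c961d90ec9e1dd0ec92a580ec885b50ec8ea570eca602e0eca01ad0ec8a039079881d90ce981d90d416658471127161e01e3bc14f922cc16600fab63592ca53f1922e00d4187344ca181a808f021a80151c1a84fe0e1a832c0a1a80d4065eb23a921a846904ac82388aac81088cac85640847527522ac823894ac810896ac82351eac85a798ac81da26ac817c24ac812388ac8391a05023b5165bd3b5180fc34c2276a6e79c76a07f0276a2c0a476a6db1876a2de8a76a6ff8e9a16ff8acfa6ff8cc2c3359edff61614dff67d16dff240a0dff29524dff6f426dff6b002dff47d0ecbf47d1cabd47d1ee4547d10c0147d0a15379d048fa26d9a8fa5c2068fa606208fa141a28fa0a9968fa30a9ce6d0659a6150bc120cb30c200cb156a20cb065985d92fd020cb302080cb00b0e0cb2eb240cb30ca60cb30b9e0cb30b1c0cb6b01aeae6b00a5bd2de96d60786106f05d006f0c13510ba280f102e0300100c8651825bd563a05bd05d105bd2a99e5bd6099c5bd753a65bd360245bd5dc1a5bd770185bd6d422c3e37f04ef37798ade87798ce6d7861eef373694ef36f416ef342b20ef3747a2ef361624ef36d426ef30648460277e1e636786906514588e28655e0ebe94589091e64c8ec0f45710c0f78918c0f60782efc30b048ad30b202300bc241560111c1563c51415630b0c1563c50a15647606156308041560ab00fe730b1aefc3c4966161cf9a6160ab1461638108616,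
  nat_lit 0x63e1ed4748282d4766526d4765d8ad4764f9291a1b1129414b18e2f417a0e78e6369e7ab3d58836219d103621cd8e3626680c3626639c3621b1083061b114cd01b10c6e0370143624191e36202ca236217a263626a4243621b90a503281963726ad223721b91827e1b90e0683d9063721651ec771b7a22ca1b79a2ce4d98236f6a9a636f6a92436f0269c2fb16d966f516da204a16d9c94116d8eb8516d88c6f16d8c6f51bd842db4119c2db22da42db0b1a62db64e9a2db6d29e3ef6d29aa586d29889a79e08da558a22da56db1cda36db0a84442216db67229086e5390ec0e53918a6f4b184a7268794a725390cd0f1ef822c15a19024931b825581ef845586b082dd02ac18d0472b1ad6127f0ae5a72d164fe72d14e2d58b02e5a69d8ee5a6b0a2e5a7168ce5a72d06f2d3668cf2d73882aea796946cd6861aaea7968caea57514f2d5750c2e66d006aea17314aea3dc122e63f7a086e481227b85ac207b83f7987b83dc24d72299947b82998a7b82a40c7b83dc1018c3dc0853c3dc0610f086107b8626847b82a4167b84891a7b81338e45337b9e80737b8a704382166f737b96d725aa026f75ce846f70ab906f7797266f72a4246f71ed226f71bea06f76b90a6f735f8e9e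f2288a9ef6a41e9ef4f7886ea4f78630b672129ef228949ef229849ef0d1a29ef5e5a09ef663a69ef798029ef3d710ac53d704d5c12b847ae3d7067ae3d7122013d71e77b3d71a68a6f7227ae085207ae5d51e7ae271267ae3d48a7ae0d48e2850d48c0ac0d48a3f81fc161a90d4921ed0a2a01a9056141a9064081a9015221a9017861a90dc1414550f8e1b8015a21b80a28c1b80dc0614b0dc0ca1e504841b850e9c1b83bf201b850f141b82b38a4f12b3a22440561e5673979c5675048656727896567139885670618e5bd1150e163301903422ff904660940e0ca1aa941db0ed94030017921db206a21db4b3a01db0b79e1db2b09c1db1f6101db033861db034821db08e261db1eaa41db2ea9a1db325181db1aa8a1db0180c1db52026c555b822c552c88ec552cb10c552ba88c5526f98c5574c90b4874c8ec6b40018e994670ce9974c948ce74ca0eae74ca4de06f41ae9971a84e995c688e9944f0ed4961f82d4b6a58289e6a58e3be2c786d4b74788d4b1df0ed4a2c706d4a75394d496a4a0e2f4cc1cd491cc82d496c9a6d493b524d491c99ad4968798d497538ad494c282ef34c2a0c23294a098517c18985164249853018c985072866c61871216636592b1e3639278b00c120e53651c0e5363960e5072986c90728a6c7362840e51871e0e5365a20e51b5a00e5366260e5301a40e517a9889e5b8122f51311230c583a22f5026202f517a86b8e17a8eabf36f862f51889e2f53661c2f5574262f5187242f51be182f549f8e6fe70a0e98b2628ce1426212e14,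
  nat_lit 0x59b96ea45ef14ea466e18ea428a2270871a18e8071a0ec0171a0c79365f8ee3471a0681179b12e343c994e34663a2e3477526e345e5a4e3460182e344ec9681e40f0a9d936d9015640f2269540f1c41940f1e38958a1281e36ca481e62da681e08f8481e26d9081e1698681e36d0881e5180c9ad4280a9ad476229ad3c3a09ad4d6924484d69e4704d69c3194d6989a14d6968504d694a3062e269ad54f029ad26d8e9ad3c5089ad6018c82141096bdd41094c032fd2282108f8e8213c5068214bd02821238268216839a821591188215ee8a82135c1ee2b35c22c1549318bca5e52052d38d94bca5e50c71b1f8104fe2270e4fe7d61c4fe27f240e3071a46b835c04b9760c84bca5e5046b8740086b8717066b85fb90bca5e210bf75e21471c6b992dcb6e598bc45e22258b5e21c6985e2186495e20a71c53704bc45a508bc414086bc442612bc95e18abc95e496bc35e49c9512929cbc92a608bc929386bc91ba84bc96a9a4bc920c26bc94fe1abc937798bc90898e7e91409236f2758e2d31408e750140907af5e1842811408c4403f4862815e31e28122014281425222815e42628159e822813cb0a27f58b8227f13fa63bc13f9679613fa2bbe13f9e19613f9a0ff17f2627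f5640427f4360827f5dd1e27d13e9e7aa13e989b413e84bb913e928fb13e8e89c13e9054913ea6ab913ea4a3013ea085a54c8827d0af0427d0201627d13d828b013d9c8fe13d9e15113d96bb61c31a27b0a90627b3259027b31a2627b456a427b5db0a27b66d9e7ef5c29489e44f0cb855c28650b2858eabd2968850b28584bf97369a50b2a81227a4371c27a6b09ebb313d1c55813d0eb170af1827a5d9a427a58f8e27a5c31a27a2271a248124143ae12416b3d124061f012410acb1240cb3d152062483481224859fa024801d1e248564102483e9822485a0a62481d70c2485ce9090d2018e2675b30a25613386b665b30ed4c5b302d2e5b310dac5d382b6670008b665b3228555b31ebd65b31a8395b9a2b6612b16b664dd9ab666d626b66330a4b663428ab665360a6855360cb1053612d6e5361a749475904411ef908eb5a10e2490f290a6c58726a6c5a106a6c34820a6c5bc22a6c1f71ca6c75f1ea6c19b9aa6c58814a6c34296a6c6d3906c16d38ab8b64984da76d38c8f247914da76d3983f134492da767e9cda75c596da7681a2da740820da73a124da748b86da75ab982531299cb5848ba091248b90f0c1348691748ba215848b8cdac5ed049176e49e91712d1c9176d6149170c91a9175ac1891712b249175a12691711b8c9175ed10bf65ed1842850fa0bda3b622bda72c98bda72aa4bda2800cbda5ed145005ed2464f5ed1eb295ed1c9115cb06bda5f588bda14314bda775089476a39eeea67a20d476a3926c66a39a3746a3866cb64a06d471b122d47,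
  nat_lit 0x3550ab07583966aa5ae866aa3551ec5a3551a100654a26aa314a46aa1f78a6aa6119c62932b8e2e21710e42b1710aca83148cc69634946290ad062e21711e8e217114ca81710c04b1de122e2025942e21659e2e2377222e2314a02e2654a62e234ca42e266216de066210f387928ec2029a12cc44f922cc41791ecc469d1ccc46080e29d1b788cc423882cc4447a6cc446724cc44691acc454198cc46f00acc42c09286776b1ec4f4339caa64339ec60433a4c4f5f1a28676ae1a8671b8188675f1928125f19028927fa2be35f1a47215f1985035f18a42117c10be314604be369d06be35dc9cbe321096be355c042c216110ac81610eacb1610c35b187062c20f3082c21610abf15f8962c21ad942c26349e2c21f8182c25c7262c266f0aeea77516cde34c98aea66f1c69966f18514228a2cde5f8a0cde47126cde3c9a4cde1068aa511068c1d30d71c20d106a40335620220d01c1820d5580620d0fc2220d5289620d0e99420d20a9c55a2f01c4152e6a2415039204150661441520a9235520aa60cc20a9a5b820a8c0cc6db904156db0e41528f844153130641505c1a4155438e9672f010db73ce8ea87543923925439e40f543843475438a27213916a873cd18a873cd26a8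70f788a8705e1e1ef2ad1a1ef0f7908dc0f79e61e0f796a880f7945c0018921ef1c2221ef522901ef544261ef2e0241ef097181ef5440a1ef2e00c1ef5ba0a6275ba0c3445ba0438412e1cb744241eb744fc06b745ba20b7431396b741a214b741be825ad5d4a25ad18da05ad2d6902e52d6a41f22d6a682f2d69e0b72d69c57e19d865ad566885ad22d045ad22b965ad4c6189e5104029e55d9a69e55ef249e544b8a9e544ba2e2b480a2b86450129015e2122b744b9636f44b9045c4f90689744b8e3fb44ba689944b8c36f1b1048972ab9c897183188974b4a25314b4963754b494b204b49a9064b498cd0600029690b82296965e889695ba8e96919ca49690b7269691ba8a9695900c9692039e9692141c9691799e2fb4671a2f3559062f3337102f3179863111798c6df36f942f3298842f30261e2f3664222f3663a02f3541a62f30d1a42f3449022f34ff9c59f4ffa41a90d5a29ff4ff9a5694ff8c1ba111049ff0e69c9ff135089ff0dd149ff4eaa2d5a4ea96ac70cc929d56c9a29d50eb8e9d50e9109d521d069d5503889d53e5829d55f51a9d55638a9d5075926fc176226fc2f91061f2f00a61f30f8219b3129a61f30f9a12830f9c0cc30fa45e030f965e01991261f1a41c61f067a261f3162061f4518ca364518a13b4519c9c4301184a8254028a3433188a34caa28a34e2248a309d968a351b148a36e1848ba5bd92dc36e19e84043ba6dc323a10dc344808dc375222ad675720ce23841eeaf7520ab377520cbde29d84ea47521275575788ea474006ea4,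
  nat_lit 0x6630a6cc61604cc636616cc618222cc640020cc6231a4cc61db82cc61dba29310bf183b70328a3b7202a017e0c8a217e0349417e0ab1817e2c18c17e16912c9038592db1283125d353c9e5d30bf145832e98217e2ea8417e4ab8817e2e99017e3ac8e17e012a417e0312617e0348a17e4c89e17e0149c17e480982662e9a0ad6677104ea05f8e5d52c0185d32e9840bf133129121331c9991330a8ba1330c3b30311a2661d99426645d1626648b222660ab242661331e03d3fa822662700e2664d6882660c98a5970c98e7f50c98c0820c9929cd0be1e1930142019319d1c1933fb0e1934d2861934e60419303e24193013a61932cb961930411419316d9a193147181934e71cdaf17c989ce17c8804d17c8429b17c8c2f417a142f90b7182f9668242f9666082f966602b6835d9accc66616cf466626c6d2d510ccc79e22ccc67a0accc8118c6fc37e15023811a05728119ebf1620170231e319023811845988118ac403f78502359b9c43b21d826133c812613309940cb309a07ac309a2b290bd1a613146086131df94613121106134c2266131df8a6130658c6134571e61314b1c6136ba1ebae37a02d7437a08eea408a46f448d206f464a1ccb837a24c9455f026f42df986f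408d106d566c8e338203103e0432105a177990b6d36010cb86438e6014038e7134bc0e80758b10c2c64510b166758d0228110271337f9f02267597022240a30226f2a702272d030224e702c526291ab8e62918e304a722c5238416c524338ac52629168676290e4de6290a70841986c522819eb25592a0b7c592a276378c92bc872c1e709289a070938498b3d33e0eb82384a6e77384a0d045c108709592967094781cb253848ab25592827225929ae2d59298b4141802b2526f0eb2527c88b2515784a1163122dc34480a9ce4e71689046108ace5058a8c246116a0b289128c2568929ce0ca929cf5088c9cf6568ed346b90ecad6cf10a116f40ea114e794a116b908a110d8a0a112c79ca1141b1ea111489aa116e8109a140610dd06ff9080c40606baa4062221d406023794061881e4062676f08c9c80c6f70680c54a2280c3d89e80c3a68280c1c5a680c3d70a80c2a1906bb30a9089b794927513e01e7517568e75107c027513e8987513a882a943a8a4d8a5f69c75148b1a75130a86751480a0751322905d051790de528f10bed3228e3503228a85c06a046455f6866456f288645735a2645195206450931c6455ca1a64542e166456f28c9f04fa04de53fb1ede54f814de522122de522026de52318a0e52318cd6b6b594463231a0c5a17392c696fa1246307296463564184634c2a44632d8884632d8962f51ca1c5b12d8821072d89c6c61bc985b1228925b15aea25b117a8a5b15bd908750678e62920b10629355100e23550e15243a86b7e78c846aa35512453,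
  nat_lit 0x4fc0c81a40d1e48440d149f82b49a81a0e69881a12e0881a5b012e555b91eb605b020c035b02666a5fb1cb604e49ab604e48cd271df069c94e49c7774e486192274229c931ea49c9497a09c91de9c9c97478e9c96d1849c9693949c91d91033a42a0a3b21d912b101d90453c1d9220641d91e8151d91cc0c1d9180681d91685414e263b2141843b23d5083b2157063b245490c835580ec8343c9cc8364188ed616682c836348ed7542792a8d546a291f5469ebc354698a894c204a8d6ad90afc57e0498441516afc57e0a82a63486afc1de98afc166a4afc16822afc64c0a2d716b96c984fa1c5ab2d59496c05b985ab4b60c5ab30792bbe2d582e4e39b8460f4179860f4009660f307a64bb307a00ca3078a8014c28860f65a123e737096cb41789204c17a966e1073a06e13709a454418046e14c29c6e14ce0e6e165a0a6e117a8c6e116a9e6e149e8ac9349e98cea49e862d549e906f1226922c14311254f4a90693d4869093d49e8230b6769893d5412293d1829e93d6499693d378a693d4008a93d5ce8e6f13789257537886453377866f13788c11708b946f16729e6f11b5a26f14f7a66f11c1a0d4f5671cd4f6a782b305c302d4f1e090d4f61506d4f69d08d4f3d08ecd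84b590cd866c06d4e6a71ee5d6a71a9715679ed4e6a7203824c484d4e5c282d4e1e08ed4e67d08d4e4b58ec2a4c292cef6a99271c677a230c5131496b4b5949b712c9896b5b19c96b5bc0496b28d0296b12a2696b4e2a496b0e42296b0b7a096b5130a96b4db8c96b4920ccef677949246a696eda75890b833040ec077588ec6f5980ed4d6a686bfe56ca2d4d2e99ed4d6e39cd4d16d90b8612f8eb865c300fcc4c490d4d16d90fcc1e502d4d2a926d4d76d0ad4d21e0e6685c410ddd56e0ab885c41cf185c416adc71616b885c412f2d5c41859d5c426c2d56f9ae3f71fa6f30570a2e3f37fa2b880819078b64806b8813002b8833408b882a618b887160cb8823414be25f126f265f10c46814684be217c0ebe267d06be25a00e28a17c8eb4047e8ab405a002abf5a01ab395a0065aa15ca0b4014606b4045692b401261eb4047e94b405431ab405eea4b4012426b402380cb404c49a44e4e30e79b4e30c44e4e30a4e84e31c7e7299229c6274169c64db889c619f1c9c63f3849c6683a49c6227149c66359a9c6238189c65721e9c81dc0e5534e4063b84e420a404e41e6c64e410e8b4e40ec964e40474e4e4086c74e424cee4e4188616f7049c80c8989c866318eae3080acc66631661017992cc666310e5a35c14e3173710e3171884cb87188c6b86fd84e316fd92e996fd9abca6fd8cb3654704dfb6fd8a6c136096dfb59b14dfb5181adfb6fd9cd0c6f2a6d3c240a2d3c37f9ed3c2731ad3c67596d3c6758cd3c38984d3c72d02d3c69e010221db90d3d1db8ed3c,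
  nat_lit 0x39d0293f2c70cddf6448a2d116896c89644962fb6449058b6448e52d6448458e644a45ff6448c2fb41504c8957222c891220a1cb0e5962440dd1c1cb016a21cb13b881cb1b4a01cb6ef96a8d21e1eddf6a91cddf6c310ddf38b82ddf3859addf4b618ddf5468addf59702cb412190b2e3230cb2e597087424ae92b2e410a2b2e5981eb2e32316b2e47d8ab2e323105ed47d0c646323148fa32318a184f51e646552986465db1264606a02646760066463d5226465f114aa5552842855528cbe224590aa575386aa529108aa5245821a95048c48b2458672f0eca248b1098a48b2459621324592aa324594a092459ca541192048b2491a48b042a648b1191c0371190a11e1190c2024ca042325808623210aa62320fca423210b2023208f162321011423265a8c86c67788cb565a922ec65a9686c65aa4b1e65aa668b65a8a2ea1dc1ecb517516cb55059acb557898cb5740107275ac04727393843b83141a7277531aab47531ef1229e04ea63d890ea6685a0ea666b1ea6f66b2044668586cd666b0e9be66b107c56cf82cd62241acd640326cd63d90ccd66cf8a3e06cf926bf424a0d9f1f016d9f6cfa6ab46cf9aab85f882d9f3a80ed9f5e508d9f39410e303940cc5b6360672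839420dd2394127283940a927493967284eca472834ea0728716907280cb087283708472862d947280791a72813f90ab86a41292734c8e9276389e927493886aa4938e27b13f88927493a2eac7579a9274e49892716526c796a922c797171ec7963e9cc796df1ac7916798c7942c16c791f294c7939d92c7942c0cc791f28ac7939686c7963c810243968e756012900f200c8e0f21fb860f2384020f207900fd439688ad639694eaf3961cc5243a9270853d8472c5f12287539618be23960ca7953c9472c6c02272c396240f20792272b62990c9d3ac0472d5c090c53629829d968592c5339692ae03969cc53396a60f25512272d34d2072d7578c72d8120a8581f28b02481218dbe63e9d0248121ce2e812163e58121a2cf812242ca6a92302442c1702442c1a2f10961285820182858798048584878e858715a48586e69c85859214aa25920edf346406b246e688b24716a4b245510cb2474c9e8c84642295121b928c84641083a46404d044640816546420eb068ba48c875f048c86b60ec6c636024fa6360ed1722886c6c636206aa6361ecc66360a8de46f16c6c1859ec6c23518c6c3fda4c6c5c2a054c3fd98b853fd9e4635740e48a36d127fb4ec887fb3d30e7fb3fd881173fd8e1c83fd8aae827c847fb2299e7fb574167fb314a27fb169a07fb370a47fb68b14d4e68b167d31ee1ed1668b1eb8c68b0ad4e68b0c7d36e512d1622704d1640fa4d163a8a6d1643098d1650c0abf75fb96a186709ea1850c2032750c1e1be12502a184c886a1840d1024a40d0211e,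
  nat_lit 0xda0c22d1169898e11688215116a00d7116941b41649222d1081422d2458422d01b8222d0430e38c247181a72471a1ab1fc2448e247129ac24708086247042012471058d247202105438848e78f8e7f710710ac61070a1dd0ee9620e5d20edce793107f71070eac71070421010708aaf1070c2201970420e2c49220e1101420e0e21c20e2459a20e01c9820e019a420e241a620e3fb8820e2c48a1072e59e5892c49a2642c1145892c48c5822c48e8bd2c4901fc2c4885896c0045890582058912b82589083965890fe2658952fa45893461e652329127e43290867c3290a7373290c59815c886523dd9c6522cc1465239b9665206aa065258722652348246522b7a6652476026523cc9e7fa2739e7990b3227993cc9a5db0ad9479966f123033cc8c15b181a016465392ca709e961640b21619a0b2122e80b2206c60b2260230b21a0290b20a13d0b20c19a2bb841641ff8e1643cc881642c11617c2c11e80f5831858205806582322105822cb265821c6245821c72258209fa05820be0a5824929691f5d0a0ed65d0a2e6e2ab24ba11b78e55658d045562ab043711b88c72c1b88aab455a163716ab12371396143716a59a3711b884d55492883713a99a925757a092527f1ec17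14f98c1715082c1760b80fac492864fe45b229250f69092578d8292548f8a9254f71a1a343d0e1f93fa92d835039286f0981286b43d1e50e43d0450131a0487a2209e87a33b1a87a435a687a4fb8887a43d2270b4f7064184f710f1b6ea929ee6d8869ee3bc049ee293a49ee467269ee37c2210411c126f86381e6f87569a6f8083986f837c142fd17e8c6f84b3123633f08e96617e907b566b022fd64f8c2fd17e94c9f17ea204d17e9811017ea66db36e9e2fd415222fd59e842fd4db902fd187a62fd1881c2fd4b31ec894b30e9c64b30c36b1b5949663f1849664b1a69660828e79939d224fe071a06b7637226b26371091235b9232c1f386c6e16392c6e4f79ec6e21298c6e637202fb6370c3e235b9ac6e1f114c6e45b146b765c106b74c78ea8e5380e98f35b8c8b64c7846b74c79e3b74c7988633d6a298f644a698f4c5a498f4c70a1b93bf1aa5c4c7181b84c70422f4c71c24452ea498e0da2298e52e2098e0dc9698e4f10898e4c6a24776db126683d49698d2eda298d3220298d23c8898d4e4a498d50c2698d3d48c98d2751e98d51a1c98d45b1643b45b20d1745b10a762969e8b66a99c8b609f028b672d088b64a8a68b621d8a8b60c708176407a618e0c7160270c71c38c0c71459b0c7209be4de9818e0ba1c18e2cba418e1592018e0138a18e2cd8c18e1d08c7fc5460e3a11d084951565a03a1270223a10311c3a116e9e3a12ff9a3a13fe143a11609c04764492c5430888c896e51ac896ef9458e73714c296148ce6e39d1ccea35b989f164b1a73a,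
  nat_lit 0x107981aa10788a5409a8e20f1078e0a510782a4f01a0220f4e39c20f3f02220f0d2a020f6852695171720d0a20c1cd0a44f10d0a71888d0a19a82d0a6efa6d0a6841ad0a19298d0a72490db25bd9ce49724a2d0846516e496f41ee4933102e496c988e4943d26e493c71ae494650ce493b094b4e13d94761583207613b09838e3b08ab4e47b86761142087612262276159f9e76111b9c7611a38e7612ad107613ce82761655267611c42476113d8a76110090aa677784e1a70d1cf2970d0ab8d5c696e1a55396d155539020132c8e7305538458d5539a8735539858c5538cd1539804aa739818cef2b48e525571847303980e0f350c0673022f2073032e187304df0c730398149be3980c47d23e947304b59c73023ca473022ea67303b8887303b8940fe0a19c771458187716db0477128f8e77128e907710bb2677109fa47712cb227714d2a077107f0c7716ff16ace6ff12d5c73886dfe6d89edfe4a89cdfe46e02dfe296a4dfe2409adfe40098dfe5670adfe72b9a9ce63118a0763126c53210a2c625ef1edaf56b9ed7c6be20dfc4801ad7c4e70ad7c6be106e16be02e306be169ce49882d7c1dc88d7c21086d7c58f18d7c3961e96f4b7a087315d0cc4f15d24c531e2222b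a0791c2ba627942ba15d26c52023842ba098022ba439862ba11d0e2ba105102ba18a10a8971d8e94718112c5d62e86e3462e907c962e8e7d162e8a6f467c86c5d62e8c2db16d94c5d67a04c5d37a16c5d15f20c5d4a3a6c5d45aa4c5d6ce8c3df1ef94d9d6ce926456cea0ce833482d9d1fa90d9d2bc06d9d3a408d9d4921e9614b09e8204b08ac696660a9614b096ccc653a29613348e9613340e3dc21504961634969616e39a9611f59896139c92bae5d7226c936598bae5d70627a5d70486c5d71037a5d70e3c96e306bae6ba086e837412dbb3740a1b23740cdc60f2846e81691c6e86e3146e80d9166e820c206e83ca266e86e31e6ab3fb12dc623690dc62130edc63630ea6f53784dc67261adc676520efc2bca6eca478124ff69ba4eca7651ea7f7650e716765086637650aba05d016eca61584eca3311eeca77988eca3ae96e8a3a49675d3ae8a7493ae9e44661f0675d72ea075d0b28e75d0808275d3330875d6afa475d4791a75d7450a75d45f0a6fc45f0cb5d45f1e2625a6a28be5d1248be53da08be726108be75c8e8be0c3848be37e168be5ae948be5531a8be4db988be2390cab02daa24722391c7e52391207f2390a5902c8164726fc9a4720c208472556a6472558144723f898472209107eb3f9901840c21c1f90c2120260c2043f80c2261d00c20a1d90ec961841069c1840ef1a184399881843998e677399986580d3827843999a4843999c0f3399961b5399941a74e61273310a84733115027334a30e733215a47330da8a7330d38c7331080a22d,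
  nat_lit 0x40406b256ae1c80840420b3140418482404085051be9e80808c2480827da680822b0280839598dce6e72687561c0a87543a96c38567a6c3861c26cd861c1658b61c182ad30aa0c3861c12d1361c2037661c1ca6f61c1a86061c0c58b2ba84c383f782c385398eccc6c0964ff29696d816c0a23c461524d816c09ea8d2b922c575f89cc571e318c5762016c5737e14c572ca10c576200cc5737e0ac5766606c573f784c572cc02c5762b810236c0a4ace6c09a60f6c0988566c08a52d6c08c4ff2cc04d813f802d812bc1ac542bc18da928aa2578050125152a61651515d1c5151f79851528aa016528aa4cae28a983f628a8a54c378045152ca9451576926dc67690a7943ca16ed264804ed2575a6ed23679ced261912af92eb02af9774a6af929a907d729a8e7cf6a2a45356a28c53d29e94d4537d9ed456a2a241c6a290cab6a28ed6936682d455f59ad4556a92f1a6e506ad556a9ef1f3478e28b56a84e6d56a8a33414584ad519a16ad55a698ad537f1aad551f12d1d575909944ca08a3e0eea2a3e0e820a3e0e29ca3e10d1aa3e0e218a3e0ff16a3e51f2481c51f0a1fe3ee84a3e32c82a3e5538ea3e51b06a3e641a6aeb43c1eaeb77494d7575392daf403129e55ef1283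951b0eee97579eee977488bde71082ee954f90ee96ba8cee90668a5842f0180cd0a20a0cd0669e45f0668802106696144066a66250601a0cd28e040cd00b1e0cd310880cd2d9a60cd05e220cd2c2160cd37c90c6e1f38e9b65f998e5a5f99aba34a5107bb3509294a1488ebf34efa0bf32a70ac2178d10d6e61088f1a6109e41c1509ac2161092877610a051b6109654e610a454a6108a3da1ed16c214a2126cc224109b64db066f94db024064db0418e0c5989b65f9869636368a9b64db16c6d4db18ed64db268be4db249611b81c9b6170a29b66609e98f6609281166096a8258f0e6d9073906db660908ec36d88cc166d16cc13278e6cb09a107126a390c356d68ec946608e6956608acda6608ca8279e04cc12eaa2cc14b326cc142202cc13139c4651359446523292b632329c07d2328c26b2f0044652ad024653ce904653ee864653b3a039265ea07675d496767456187673b3840fc3b3901f23b38e1e73b3a49653b3a65d73b38aba93b39e5d93b39c13e19b867675d2887670b2847674b394767502921ab10d0e8e42911059f0e79063d502909db5028e2335028a5cc5028c3c21d0a4a0540786a0531e88a052b0a2a051a8a0a0519c1ea051d21ca0549f9aa054cc98a052e616a051e114a050be907580be8e7570be929950bea63a40be8a7710be8c0ff3db8817d0141c17d3b89617d07f9417d22e2217d14b1817d012a617d22f0617d57692449576962a2576a69995768a5d65768c2a257186aed46f88aed3b61eaed2eb16aed334a0aed1ff22aed309a6aed,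
  nat_lit 0x572125863cb0c5862c3147962c31e0e2547205862ba245861848a404202129df20218daf4c61e4042021ecd04361c3032021a06f20216309181a440453b0240409f0e40450e0cc551060e87a4fb901a550e0e48450282a1c2c024a1c24404a1c64388a1c5d3a2a1c1ea18a1c62a94a1c4b78c1720b91496f4d50ea7b0b91e9700b9104450b918382012841724b8a01722ec821726c28448d6c29aede1e704d8538110d8576f1aa0e2da84ede40d82ede3810eede6e502c6663314afc633203e863310676633242c16330aafc6fa06c662d588c662ba04c6640594c662ba1e0ae2ba12c5a2ba18dc62ba0a1040821657465c225744fa205743471ae4c535903a1516906703470e21a3470a3af4580a68e347086706081268e2910468e06f9c68e4581468e1d79668e4f9a068e5cba268e338a468e2c2a668e5200268e40d8a48d2469681b2468aa275809848d5139648d4332248d246927a638b8e48d0430848d0f78648d317926443178cb6f317900d16038862f6e70462f57b9c62f3141e62f5b79462f0a8a062f150a262f5b42662f7758262f2f78a45f4259a5ef1a3985ef3129e5ef22fa65ef0f7a25ef2db205ef22f965ef2f7925d82f7822732f78e8dc2f79e0c5232865e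f40d885ef2121007e3c2124241c52042440402424212147ee212201832120e07421226a962120a7ee2121e2882121c07a0ed86424531884245229442449b922cf49b8a3ef2630ee194cc10e11407829374d8049374b0a493720c9c9374029a9374bc989371f7969370ef908e46d5925766d58e3f86d59059c6d59ad693f982dab4d484dab58922dab6ad9adab47206dab23c988e8474108e24740e68a4740cc48345868e84741eeeb47416c48474226c647424cef474048854411a8e80a8048e84a5248e8174a2cb4174a63ef174a46fc1f9982e9025a22e917492b1a1748e90117498cae659042e95d1142e977590627775a07e34b598eeb79b14eeb775a4b5d7758cf364a206eeb31488eeb5d116eeb3172230b3171a8dc7760262e070a262e3149c62e0689062e2af8e62e4720c35d1ae9c1641ae92c194a22035d2b38416a2b3903af1ae960591ae948e41ae9a33b5750235d2b38e35d4ff9035d02c8a35d19810a6b535810212c28ea441fe10b5c53a908055480e8053319280508d028051fe048056e3a48056e3088052a91e80508c1a805614868633480e86343186c0956a8e6353ca10c1e6e510ca55f60ead56270ec096b5907944378ac096049686f6be22c09604922996048ed00604845046048a3834af04c09393a0b861c196c0956c1ec0967f18c095989ac0956aa6c093ca08c0969604eaf69622dfc6960cda36d194d2c3ac18d2c2ab26d2c5c7a2a7275f90e5472a010195dc10b8f5c7a0f1f5c786e542ef82b8f13118b8f433a6b8f2110e80823490808,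
  nat_lit 0x5e30a5f42fa22b5a2fa16bc62fa18a4337f165f4424105f4335906413dc1e5f40630e5f4065025f437f0c5f44cd0a2ad4cd1adcf4cd0cb9d4cd12c204cd104214cd0e46812d0699a2038499a1bb9c99a3251e99a5ce9499a1569699a26ea299a127a499a0bfa699a2120299a50b90c062ba0ee622959a6e9287906e937488cd337486574175126e936f9e6e91cd186e916ba46e92e48a5ee2e490ec01371e5c91a30a5c92e4963461cd125c912da05c9209045c912da65c92f7165c95341a5c95340cd2a12da4a685341c3a72d182a6812da2a6830f88a6869514a685450ca855948aa855429adc216982a85542981ed542a0e21542a2b4054296b2954294a8a60612a852ea10a8547d86a852e908a855329e2971640ca6553a0aa65186a0a655329252953296a74532942c853298dc313302a652ea0ea652ea88a6517386a6541d905a64611e83b21e1683b2090e9c541d9253d41d8e5ce41d9812641d8a43c47b8483b5bfa483b38da083b6152683b6880283b5c120d1041c8cd1068816ae06881483968818b8b31402d1029106d103130ed103f826d1019622d105700ad103cc8ae5b72d9679972d8693f72d886c672d9ec1a72d9a8092ea92e5b35926e5b70d82e5b59f127f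859f0a78859f0c62859f1c24832086b3e3c416b3e1c420b3e5c584b3e22626b3e31414b3e1c69ab3e47818b3e6af127883c4204453c406b9e3c42425d081867884109e78875f207886819c7883349078823c047881f21a7886d0987885fa12291530124e35300c2343ee04a60117a4a6011a14a60530241df52e841df0ef8e68e5fa103f85fa0e59c5fa0ab8741284bf45ae26bf45b008bf434706bf458720bf4328a2bf44ab1cbf46559abf45c396bf438a90d1a3db8ed1a5bc0cd1a68d0875779718d1a3178ad1a68d1662f5ad02d1a5b71cd1a3f208d1a588a0d1a5bc16d1a5938ab335938c2414290eb2732486b275938e64c5938624932702b274589cb2745d22b2712094b2733892b2759996b2730c1eb272279ab2761426b275999aba05998a6415b992b333c686b3357a84b332b71cb332fd1eb3332096b332c2a2b334f9a4b33222a6b3350f189fb4fd84a504fd8c1a85621c9fb245069fb3bf269fb107a49fb0d4149fb3ce102536382279c0b32079c3ce1a1053ce188c83ce0a2fb7228479c17d9679c64ca679c5771e79c3cb1c79c4b18aa6a535169635351a9650f282a6a36508a6a72092d8159114e417209edbe3a9a4e413678ee417208e6367208cb2232704e415cf9ae416f308e417179cb5a5ad04c065ad1cb676c1a0b5a12c9ab5a129a6b5a2230cb5a5ad144466f30244175792de6220a0de648c82de67869ade66b024de67538cde648ca23e748c9e15a48c98aeb2c3249191cc989194cfa0c8376920876575a2bc3794a0ed27691a5862c31cc98,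
  nat_lit 0x526842df5471e2df1fd162df0ad222df11c202df356a42df567822df0b5120240b51c50a0b50a1840c21616a5178eda03ee0ede0575102220b50473469110c073178e55f5bd0662f5bd16ded4ff8e3af5bd0e2735bd2458c5bd0aeec5bd0cded5bd1c3ae1d786b7a57a92b7a3aba2b7a5fa1cb7a1350eb7a46e04b7a12ea4b7a77616b7a19f1ab7a72b92f11788a09e57889ab7066da6f1178896c1749f9096f4b788f1172d90f115eb8ef1160b8af1171f9c96f71f90f2e79810e3f60b86e3f71f846b435a0acdb35a109ef35a0e9ed6c0066b421c1c6b40719e6b435a26c1735a24e2b35a0426760d986b409a1a6b444ca26b466d966b417014ca465212c1b33884ca41700aca4652082ea6779cca45591eca43bd98ca43fa9aca46762687c28620cec2879acec44da6cec44f8ccec6761489f6761a30b64982cec78510c936388ec934361ed024b322d02649a6d026811a42858702d021c510d023cb06d0237c08d0268d183364df2033619b2058d19b1642a19b0444619b1006119b0e05519b2439019b2642419b0c42a19b1e62419b1c45008e063362c3883361ff0433618e1633677f8ac5a77f8c82077f8e62577f9061e44c02eff46f06eff41014eff62d16eff37e1eef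f3941ceff6299aeff59d1c4465b114b3a59d1289f59d1e71c59d0e91f59d0cb6227104b3a56024b3a1251ab3a1048a76f1048cac1104907ae1048e9b410488209483842094e51c2095609420901992209560022093b7962091cb1e20947f182095591a2093d726209271a42091c5a2a7853c0437e53c148c653c0e2e553c241e753c2621d53c0a8c653c1e58253c1c1eb1ce86a7856508a781fd04a781fa14a784e494ac1560a0953560a2c1c24a12ac15651eac120c82ac14e508ac1368a4ac13d4a6ac14e48aac123d9cac174f1874f6b08474f3a7981693a7900f73a78e17c3a7a48af3a78a68d3a78c1553a79e6333a79c56b5f50674f5b52274f5f4a474f58ea074f3469674f3c80874f0aa9474f57b8ed9a2858cd9a6cd02cbb6cd1e8636cd068b61ef22d9a28596d9a4478ad9a4ba0ae836961ee837419e86074196974741a0867741a6a727339ae8353a18e8367508e836a5a2e4b5679ce674fb8ae677339c80673394e8f733969f7733a6a6f2b51ae6740004e6764182e6772586e6764826e676ae22e6728220e677478ce677258ac137259e4fa41206e4b60996e4b43d20e4b6d802e4b6d81e7e365926db06d8204046d818d896d81a40630410db060c0adb06d80862e6910edb0677a0db063512db060c14db034f8cdb0109a2a080e28aa08504061b85268ea084da12a0828524a0830306a080ea20a080d69ea0811d1aa0853018a080e294a087740eaa1774105f177426aa75689cee86d0a6ee82fa06ee859f0ebd359a9c5f464d925042fa1252572ba25f4,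
  nat_lit 0x1718c8d81718a5f62e81a5fe2e00a5fe2ff020c82ff245c02ff205a42ff228c108f925fe2e0145fe2b11e5fe170105fe2ff082e317190caa025902e317184348171985f2171a65f21351c2e32f9222e32fb162e346c142e31af8a7134989435f1afa2d441af8c9310321035f02c8e35f60c8835f4800435f496a635f3899635f3d99a35f3f11835f70090a911d80e70a5a6203b067e923b0234a23b0133243b01d8148b01d8183a41d802d6b1d8160641d8242961d80a8b01d80c0641d81e2691d81caed548863b062e083b06e98ea9158b20dd34a79e7132c00add36e9825866e9965806e99ab176e98694f21b22dd33de06dd33fd967bc3de206fc3de12c7c3de104193de26cb43de1ea653de1c8113c9867bc238107bc086187bc3fd8c7bc649222d25c29eeae43e26c9220d984f96761c41b3eb8c41b20d947d741892c927569ec9269a22c92649149d26491eb856491a2d564918c326490a9d21fb04c9268102c921f590c9220d88c926319e3e56319c71b6319091f29d12c6327604c6355124c6348fa6c6353a8a7a533b8c7a575f107a566c92e2c3d290ca73d2826663d2a0a183d28647d250927a55641e7a5194207a553a947a5350027a533b967a5413a67a523ba47a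551a067a51de101de3d1823bc3d184ac63d1902103d18aa343d18c3d4109067a32c4a07a3432927a351a167a31ea147a319b9c7a36331a7a32b2987a32e2a67a3083887a377420ba03da1aee82240e7b41f3907b47778c7b43da225653da069123da0878f22a847b47601c7b4777967b4599a27b42c6247b43c4267b4086827b41b8900685e18c7b33d998eca3d98c27a13d147b33d9926753d98210f3d9863713d994bc35e5827b30c5907b34fd0aa5d4fd209e45738e2204fd1648e4fd109444fd0e6844fd0c48e0e9869fa4b4129fa197249fa0d3a09fa1100eae8245049fa52e969fa108189fa4170aadc56e1682e417126cf417207234171cd5f4170eae141710d5f41706b26417041224171aed654b0482e2249a82e2232682e27da482e2830682e4d91e22f4d910a574d91aa544d91c1dd4d92219d0c4129b232c889b2320249b250c109b240d049b21e7069b20d69a9b20d78e9fc0d78a02b0d79c7de043021af2ce1c1af01a861af3ee261af4c7241af015961af1a3081af4a79035c15f0894f65804c79658226f431716cb037e1ccb07981acb019b98cb0658202e86580e7b76580a62e3ac06cb03f188cb06df20e752a68ce7573a9454d28722e756841ee755c09ce7533188e7552202e754a6a6e756dda4e753209ae756a918e755d01494d4a6887493a30e94d4a68e98d4a6866504a6847464a6a4a524a68cba02bf0494d2d91a94d1b79894d3859e94d3331c94d33aa294d74f9eaa53a412e9f7370ee9f5ef82e9f6a486e9f16f9e23116f8a3fa025882df,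
  nat_lit 0x38c8e17638c9a74638c8cbcb7650471934d8871938c24646410927185ea1e7185cfa271838c1ed7f38c22d0138c26b6038c1898d39b027180bb0e7183e1087185ae067182b4107a42b40e9e23ef145682b40a81a2b40c7de40e045683979a5680a29e5680561c56806ba65680e5a45680e72256840d1656830d085683888e17438882da5774a071172e927117158c711388a04183889e6a53889a9d33889888538894e2b63ca671107906711657087113881e6986f4847103881ad1338824b5a4799e7104171671041b9a710729a471038816e2c38804b82388101743880a82e3880ce2c68a8871007886710406a070f387a05833878e790387a47e2387a618c3879e3ff3879c1ed07b8670f0ca0870f21f8470f0771670f37e90da537e8ede969e166fd37e989ad6ef926fd42b226fd3aa9e6fd5911c6fd076066fd798886fd5d1826fd4f8266fd59b246fd1e2186fd69e0c6fd43d907c43e21051a3e218e1a0b1927c4652067c43e21eb0a3e20a302176087c41f39e7c4181167c448d227c4174207c4376a67c416fa47c466c027c4516987c35160a7c33e196a2c259827c34e21a7c33e19c7c3433267c3515a27c3106087c334d8e18e5460869b6228c7c24888a7c25939a57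93e122249145127c20a81c7c231ba27c23e1249c23e1169113e114c453e1188bd1f3827c20c70e7c2535887c254b207c10c4147c13e0a01433e0847ad3e0a41833e0a61403e08c1883e09eaf13e09c44f31e067c154b887c1774047c1086967c14258e867591106126278e6123090893f3090a529072886123090ca6a535146122be1e61229496612186a6612065246120f3026121b91ed593939cd596aca0df36ac8ab3959c96d5973ba6d5966b06d5960308d5963c84daf56110daf6d788d576ab8cc6263114d576ab9c54c68612d576ab9e3716ab849066ab9ac5a67126d5739684d575e186d573b60e2535ad0ec9f5610ec06561222095611ab3d54316ac246022ac256694ac264f82ac239004ac23b788ac25d1a4ac26f726ac25668aac25430cac25221eac25d29cac26650ec9948f105763d6927ad40c1e7ad40c16cc81650e76c64f8ec794b32081840c06c9f0f30c81840c141e650e128184d5109f3396908180be828181ca268182eaa48186db1a81808e188186640a8186c6949ae6c69acb76c69ed8159a92d8d41d86d8d4bf8ed8d55790d8d6a7a6d8d1eba0d8d4d70cd8d6ff92a4e56316a4e16b98a4e52722ddf5271887a2b284a4e3741ca4e2a802a4e1eb86a4e0e90ea4e0eb90a4e295a6a4e5630ca4e0f0021450f01c19d0f0160380f0267840ea1a1e01e3121e0304061e0017a61e0530221e0105201e001c0a1e043d8e9bd50402a9a4ff94a9a54d243f84fc1ea9a11a98a9a3b892a9a53006a9a31d0ea9a16f90a9a4e3a2a9a399a0a9a4ff8aa9a,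
  nat_lit 0x5b12071f6972271f1b92471f72c2671f707129717070a5796109ce0e2bc96e0e7071c5506c684e0e4d79ae0e5ef18e0e20c9291d48e9415b62da091d6a21c91d54f1891d0ad8c91d78982da95f410f133350af133450cf137898868f6079cf1360722f1333514f133da12f1334516f135eb9ef135609af137240ab9d72410f0a7240ec7170012e48724206467240cc3561a94e48680a4e4861084e485f586e484d508e483c720e483719ee4842a1ce483d29ae485ce96e485190e52a58782c357009cb0f44210b0f6818cb0f5878871230212b0f68196b0f6f69eb0f37b98b0f2121ab0f68d26b0f6f4a4b0f51908b0f519181be5191ec33519165655191465f13d92a3233b02a326e50ea323f226a325baa2a3242a20a322b28aa3232f8ca323d38eb755db9cf0a5db966355d29abb74d792bb76ea04bb73e202bb75ba86bb75fd0ebb765e90bb731426bb759524bb713da0bb731a8abb71e1183ba1dd104f455c063ba1dd1e0651dd0e86c1dd043c91dd18ac61dd0a5ff23a843ba2ff963ba36ea23ba5419e3ba1e0263ba17da43ba64c8a3ba4a4128b32318e40f05c105b15e98ec694a41e8184a41066b4a4089854a40c30e1ce04948187149480b19e9480b798948411a494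82d8a6948634889486bd1c94a6bd0a9376bd0cb075cf04d7a6899ad7a6bd228236bd1493730512d7a58394d7a4e298d7a66624d7a775a6d7a66b922fd66b90d3749206cd758b08cd766b8ceea77514cd76529ecd75739048a454108004540e9994540a981261828a84541861c09d9c8a81bf868a8455a48a84bfa08a8245088a84c0968a820d18a8c546229891781887002a982f045c162f01782635d1782286c1780a8b81780c04c45f082f0026142f05fe902f05ff0e2f06609c2f06a212d546aa149896aa06cc16aa0e37060886d5458d02d543bd18d544c48cd544c792c11608a0cb26369cc11608a245b608a6cef6089a45d60898d1447784c116df02c1114e8ec1158f06c1145c18e6e5351c8b85dd028b83560c8b845c146ac45c1a13e45c248b30ae9e8b854612c8745c268e4317128b8546068b8639088b86390e45d45aa0c726390c94a4a514c722c01ec72639122f66392069f6391e8be6391a7b06d5a4c7254804c7216482c7238c88c7265090a604a51ca4067720ca157c14ca1650925ab650a059e6509a9ca2b684ca11c496ca116f88ca152024ca165226ca157c0aca11c48cca14ef9eca14741cca14368a5021328e86d4368e2d24369ed5a57a9a86d20e2486d6e08a86d43696dc14369c54a43684b270981886d2811686d29aa286d3560a2ef35602ec9376926ac2c0086ac0711e6ac177966ac3de226ac65ba06ac2b9a46ac65d826ac34da02c148ca069b0fe1869b34d9c0e034d8444837c1669b34d8a6f838c9ebf35e5947196601e71968122719,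
  nat_lit 0x53d9c92b4079892b45aa692b7628892b5ec8eec54930aec57629cce4378a2ec57629e6b276286576762969265e682ec5365a0ec54d998ec55e5a6ec563f8cec5491129d94910ce3471a1492279e1e922649a29223d5a092266ba692238ca49223f0a0b3c2271cb3c12618b3c59e1431b59e205ca59e2424759e26edb59e0a31b59e1c28817c06b3c3d088b3c60004b3c52b94b3c0239c2c2161a20472d5a22c31739e2c31f41c2c340d0e2c3025082c31c6022c30ada62c3635a42c36319a2c368f8cd2119e0cd1f68f9433c68f9ed1f69094d1f41392d1f26702d1f2bd1ad1f54e0eea754e0a1f770a02a9c30e1ca9c20a86a9c690a2a9c30e24a9c30420a9c0fb96a9c6908c33d690844b825a9ad212391ed215569cd212dc06d213f2a4d2151e22d2119e94d2144894d826c10aba15d096d826c120b576c11e9746c11c83a4c68ed826c10498d6c11a5b16c10c8912c104d8249488d823a406d82490a29d94909cd0073a90bba202069211f49c9212bf0e9212c1109210b2089212c1029216e9269210ada49216c01a9214c9989212c7128ca67712cee5969ad5959688bce5bf12ac63549cb2d22288b2d5e80ab2d5ee8cb2d59682bc8596a48fd59696bd036d82b2d2709ab2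d1211eb2d23122b2d3c6a4b2d26ea0b2d5ee96b2d7490ef3c749127597490adcd7490cae169a20e9234a84e923db08e92292a2e925a198e927599ae9257094e926e696e921a504c7f63f88dab37712c7f38ca6c7f45924c7f16602c7f787a2b244e48ef0f3f788f0f6a506f0f5568e26f6938e4722390ecfc3a6a0cfc52092cfc42818cfc67e147e767e20a9067e0482467e24edb67e26a8167e0a7e767e1ea9e67e1c3163aa06cfc3f988cfc3f504cfc3f694cfc6c59ede36f19e4fe6f190b6e6f19243f6f19aeea74024de355e02de37a018d5550394f407a026e9f7a01ed4b6c986f404e102f406d004f406fda2f405038af405fe22def5fe10d5e70c928ce5fe126b86ea94bfc47e1ebfc5ac1cbfc6fd86bfc5ed9abfc60098bfc6ea8abfc28d109bd6b38acb065816d676088ad676b3a4dab6b39c3896b39e9376b3989706b39a9be6b396c1149224d673d082d6765e84d676c48ed6745908d6739d1257966b82d372bc848b24591ed544590e43e459103de4590a64e65c088b24591213d4591464e3f19e8b266ba48b23cc828b26789ee58678a27105789222601b0c22611314036113260852849c2265301a226113029ff39a10e71500101aa13b0eaad54f8ecf157b9acf15988ccf16788253467886aa751b10cf118682cf159896cf12fa26cf15e98acf159f10d756ad8eaf64148aaf657b1682957b12eef57b0452912d20af615688af65cf1eaf66d6a2af61b21aaf612c24af659f06af61408a71f0788c71f38f8669838f88da973b9c71f1409471f0789671f,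
  nat_lit 0x78d22ad43aea0ad47528aad46b18cad459f90ea56350eea5752885533e692ad77529ecf16ab14ea55b41aea543712ea568584ea567a02ea53dc26ea52a522ea55b3a0ea56ab0aea514b10c021778ec0267c8ac024100cc024ef9cc024c60ecfe60108ce514b92c0267c94c0247d04c027759ec0241016c0263fa2c022eaa0c0229d82c02726a2db71b91ad4a6a51472166b98d4a3908cd4a6a50254d2a68ed0a6a48e54d7269cdff27b9ce4d6b290e4d2a90ee4d6a488e4d6e484e4d724a6e4d3cd9ae4d46418e4d6ed1cc3e6ed1a43b6ed1443e6ed16dc26ed047e92fd1adda3cd84dda60306dda3b78edda3f390dda73126dda59120dda6e10adda21f0cdda591064f627b1cde627b1e09d27b14d0b7241a4f66c7044f6650024f60728e4f6612904f6725a64f6552a24f6724a04f66858c4f67730adbd6de96ee627b92dbd4028cdbd6de904716de8841b6de866ab20d10dbd60804dbd79c02dbd5aba6dbd5ec1edbd77598dbd5ad1adbd40296dbd0f68e6486b612bca3240837232412ed20a9846487299e6482c0a064872c226485b12464834c266484448e5204449e13444492cea444848544448ad596ac9688964b228891419a88927f188895760688966b22aec5090cae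c57614a12576186375cd1eaec11402aec4ca10aec2821caec1140e0361140c2841248c2281141424948b92228428a0228142142285770222857aa22285799a22857ba622857b24228226062286998cbfd6998a34a1a516d336c706d336999cdf36999e90259424d335c326d335fe94d335d998d33761905735218e96035692ec376194c6b7618e8b065006ec336ca0ec35d39cec34b026ec34c4a4ec37169aec353f18ec36358cec35d190ee56708eee53c60aee55359eee57728891147612ee572a88ee55cb9cee53c614ee55cb26ee56f482ee510a169dc4ee1e19d4ee1282f4ee08d254ee0ea4d4ee265094ee201d44ee0a214523889dc51f269dc105189dc5238aa1e0f004a4754d18a4750f16a47523929c95239e734523a4994523a26585239c23b520a4a472e108a4757312c155731cd045730aeca46104ae65c324ae670726ae676516ae65a61aae6530949215308635d53090a095308e1e06d806a6163812a612269ca614c4a6a6148ea4a615031aa6154318a614908ca616629ecea6e09acc56628653975092cc54eb9ecc517922cc5796a0cc544826cc57509ed8e750949fc5449eea173588ea159602ea13891aea14cf98ea14fe0cea15960cceb5b108b2c67594b2c717a0b2c59aa4b2c1b926b2c5f982b2c5941cd645941e54a59426e0e28612b281209ab284f298b285f98a9604b016bf34b012ca84b0142c340f209603271e9606e89c96048ea69605921a96054a189601618c9607868e92b495a215d49584cea4958c30c5838492b6699292b1861492b,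
  nat_lit 0x65b0ad8b65b0c33417804cb619a14cb663b9ecb665f9acb665d98cb629808cb62981ed172980eb8943d8853029810ca429802b896ff20530281125306ff9a53036f98530051a453074ca65304f70c530071926b1717186b1358a2aa5358a0d08358987aa358a6e41412146b14120a6b16fd9e6b165c92cae65ca0f0c65c9650265c9ad8d6f216cb9383a0cb961f1ccb93cb8ecb917610cb928d06cb96fd88cb92bc82cb95afa4cb96229acb92810acb96f20ccb917c92cce5890ccce6671a9b06671eca5667043ef66714b1266718f196a614cce6d826cce181a2cce47420cce6a60acce3058271f0651260b6fa0e60b72d8a60b305888e8305a2ab24911e60b2cf1c60b7788260b72d9460b5611860b5f9a460b48e8c60b4969ca8c65012ef134d8cef17789a91b7789469b7788cc9f64f94ef14a39cef15de06ef158d26ef150e22ef138c927195de1227f3c690de25de0c31418a14bbc4810ebbc5de08d485de1eab26e0907055de0a41978984bbc5ae9ebbc20c96bbc38ca2bbc40c20bbc3d5a6bbc60124bbc6e082bbc2f726a675338e7c15339059b5338a7a41bf84a6755082a6712e18a672f49ca6731324a672f722a6731320a673d216a671a210b5f5afa27595afa0a1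25af9ceb15af9e8565af982b55afa6c2b5af8a93349996b5f3f792b5f2f48eb5f44a86b5f12a84b5f4d30c46d4d30a9790c2109a65fa049a644a829a64e2a69a64a3089a6693869a619d209a6579a29a61cb1c9a60c91e9a6428989a66661a9a6236949a64bc969a655292ed64e5968176950e9cb526109cb40b8a9cb3d80c9cb4e5865834e58285a4e59a2561c31e9cb0c9a09cb774029cb3d8169cb215229cb0c9269cb22ea49cb31e869cb3190c51609c8a51628b180a028b1613928b14632099a651664d8251651f905166e1885165c782a9531e8ca9554a9463d54aa4d2753e94a954fc9ea9551792a952e29ca951a886a953328ea9515fa4a950f9a2a9546320a9553e8aa953ee0c77c54d0a77c52e1a77c116a277c3be1280f3be1e77e3be22a473be1a9c73be16a9a3be147dc1972677c5da107215da02cc55da2627a5da1a3015da18ae655f82bb45ef26bb43c59016c4af90ae04af8ead958b0695f4b09295f4a78c95f4af9494f4af9e9ba4af98f0f4b02095f0b60295f0b99216c0b61078c0b6222f94b08816c0121816c4b19c16c4b00616c4a42216c0251e16c36d0a16c15f964dc5259e2bf0239a2bf3d19c2bf4a4042bf627822bf565862bf0f30e2bf0f8102bf412a02bf26e0a2bf07d9c7633af100fb3ae8e0fb240860fb00d040fb1cc240fb3b09a0fb1cc0cbfc1ff0e398228903981cc06d6c1cc208f01cc044001c41a3985fe1439838e1e398030843981c12439856a1e72356a14d6375294ad448684ad435f86ad41508ead418590ad42a426ad4,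
  nat_lit 0x2ec0239e0310439e6ad9c39e1cc1a39e69c0c7a428e1ed384f10cd3828292c2a69c08a5c69c24d2969c20d386f712d384f116d382901cd3869c0ed381a604d3846da4d383d214d3869c18d382f8145f02f81a45f2f8186202de1e5f00c2925f0063045f039d8e5f0425a45f021a225f030f205f02f80c5f05680c7e56bb18d2668fa6ad06930234256810bc654e18ad05681ead0568044c55680ab0330104ad010a88ad0580a4ad025aa2ad04e6a0ad058196ad03f294ad05e61e6b85e61cf2d3afa2bcc5d720bcc5e6028975e61aec514182bcc27f06bcc3d988bcc5ab0a8135ab108885ab1caf979aa6b565ab22cec5ab206a55ab0488879b10b5631718b5612992b5640996b5671f8ab565de0e6d65cf906d64500c6d636b0270536b220e636b24c9236b2689b27a9a6d6450166d659b9ee916c71ae912928ce917489452535698e916c992e9129686e913088ee912eb10e91355a2e913b6a0e916589ed2c6589a9475b50e4672b19076833112cb17660eaae5570101b6378ecb1658822e965886b855c190cb12a922cb172a02cb144e0acb16589689c6588aa8054016cb154020f3037a18a805401cf1b5400a89b44d96a8065704a8072a82a800f990a8035586a8064908a8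003e8e4632d8900c11128e3ef29f8e59029f907c329f8c0a53660453f43d0853f68b2253f699a053f37d9c53f0ab1a53f0529453f5d908e6e53a04bb25d90c54213d20bb22a114bb24319ebb24809abb22a11e1392a11cd3a2a1180a513f985420f6045424140254209b2654244ca05427749ef3576d04d7379a9484d79a90b3f79a8ec6a79a98d103af84f3561302f3544c86f3563ea2f3544da0f354268cf3521e1475f4481e75f3789875f35b9c75f3af920fb3afa05273afa6cea3af988573af8c43c62e8475f1938e75f5e18875f32416f0878422ea77840a64847e04f087840cf407a014f0855e9af085d718f081138c03610b1822701b142271139217011398489113a61e31138a9b24d9162270d7262270e68422750e822271a0862270dc8822757b8ab464ab0cb465a3109935a308c283a690b4641b92b466ff82b46124a4b463a784b462b508b464e122b4622520b466f49eb461269cb4618b1ab4640398b464ab16b4657b94b463d01ac3e340847a0410867a00830e7a00b7907a03d0062663c5127a062e207a077ba27a06f59c7a015a9e7a05b3827a02d69a7a0476247a0548a67a042d0c7a07858e64f7858c7aa7858ab3d7859cabf7859eb2b785a4abc68e9af0b60724f0b612a2f0b59e96f0b34788f0b3d514f0b18a0ea724220e652613947796e8967793bc9ecce3bc927793bc908d13bca0301181087796522077946590779184827792cf24779080987796138a7796e88c77965b12b8c6c596cb65fe0e2ea1750ecb66af10cb665b08dcb65b0450b,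
  nat_lit 0x621942b56219a50264382c434589ec434779cc4359f92c435b006c433e126c435efa4c4345ba2c4315a8cc431188c6e73738830f5ca0e6e74a5086e745c226e7170a06e7118966e72860ec4472c0ed8a6c50eeaf6211046a72c02c4278f92c421a514c4259b98c4262114dbb62120ca362126ea13ab9ac427589cc4215a84c423f488c421a50ac426dd8cc421b020c9802c9236048c929191b0229211b01e3e71b01a1f54a7a63603fc043606a2823604bc903606338636009e883601f014725392940f20790c72535292cd8392866a51b91272550322725423a07256d790a1750b8272553ca47252341a7251f00a7255679021345510ced60e108aa45504c1d4550a6084e20a8aa455169c44bd128aa4541c8aa304168aa09da68aa2d8103ef2d80e44c2d80c8ab2d81a8a92d80aa39705845b054f9a5b02d81c5b005c065b04c0a65b0064a45b00e0a05b051c965b0455945b06d29cc676e984863633a03e96339a387160a4c676e9a6c676e802c674c990c6765a06c676960e46a0d512a0114a20a014d702a0177f9aa0131f98a0150094ce1500a031b50090d835008ed52500a69f95008ace15009ed275009c9a265f06a0168388a0140f04a013a694a010f20c9e20f20aa6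70f20e59b3e08e1e4534181e4533961e40f2120302401c1e40da061e41a21e1e44f1141e42e4a01e42e4a61e42f8821e46508e7856fc90b0a3c29816a524247853c29a9dc504a2785404927855301e78510d267853c288df96fc8eb062401e2722400822d240204802400a6472f808480040924806fe104806518e4805a8108c11700e8c14608101e2ff04480323964800b29694b2ac8e94b4a588dd04a59ebe34a59cad94a58ebaa4a58a1650b58494b1709894b3919a94b656a694b56aa494b6e00894b38d10ee66e02041b28b22daf6e01454264194dc077308dc02de92dc06a9a0dc04641edc036b9cdc06b48edc065590dc047f82dc03329adc06418adc02a10cdc010990ace4610e145531048c233820a6250398a62531203ad531101e05310ea0953124b305312663f5311c3ee60386a621d788a6232214a6247a22d362a420d3669b0654a5b284d3678d24d361ed26d361a51ed362811cd365b2a034a59c9eb6537b9cb655b2822565b2a243a5b28aee877416b6568aa4b655ad06b655d50264347f0a643321827bf324926433cb9c64347f14643156a06434061a6431bb1864347da4643627266434080664359d1064232110c633211ab8f32112e6e503966423210aa073210c6486ad066425aa08642271846423b19c64208c1e64232414642537a064259d246426ae26642578826425fca063f31f84d8d31f949ea31fa0c5c31fa678731f8a9ea31f9ccfd6198663f06d8863f0699463f1cf261723fa9439e4769039e3fa8a39e1cf106dd1cf06a791cf1a389,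
  nat_lit 0x4620cb284621ef1a46214ea168aa08c42f6909227508c8c4462026453cd0e8c456b128c4491028c41a5268c4752188c4283868c46e11e8c46141a8c4594148c461da0dca69e9cd3f61d9ebde787986625f482c3b6b21ac3b61d82d9e61d9673a7929ed3f39d0ac3b69fa297473592d3f6c58ae7256a8ce727390253573916d8b73912c1473918cf14379ed4a689a0e7265298e7256a96e727392686f28608e7261d92d3c5e690e726718ee723f79ee7261d8e2af1ab90d3f69f903bb61d88d3f1828ec3b7878cc3b18286ce367192ce36719e4de6718a37078484ce36bd1ece31b816ce345922ce3363a0ce360126ce33e782ce356e9063529506add56e9cf2656e8c3981cc14add5a71aadd4b798add6480eb283a894b045821823058222efc5822039829d08b044b004b047690eb046a724b043a88ab045bf1eb047849aea67848ebd97848a6497848cb607849c6bd7849ebb63d49af09785a2f0932886f0971926f09789a4f09486a0f0932496f0945888f095b014f092f19c5a40611a5e32f19e4162f1a25e12f1a05d02f1945e33d4925e3460985e32f18c5e326e8ce3238c0ae3271912978719229ed71920abc7191e65f7191cc3f71918bf771916718719144dd47d26e3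23d582e323d904e323d80ee322b706e326cf0c89668b9489644b2258e44b2084944b1e13644b1c88f44b0672144b0cd1717b848961448289669d248966cf1689617ba2a5f17b8204d17b8e35217b8a3bd1aa062f7064122f71de962f71f89c2f75a7182f758ba42f73d1a62f73d3882f72d70eea62d710bcc2d70a5db79312bcc53f0a5ae2d716a7e1d7185ae2d71224415fa05ae0c5885ae22e025ae4d09e5ae18d845ae2ed965ae05ba25ae1619a5ae0f9a65ae4e3245ae1f8065ae3038a5e2303909b041610607303a20c930384e1168f9a6074551860754e1c6072f11660754e246071e88c7a7034a03d122e163d11e892a2c29f223d117e9a3d13d3943d11d7043d114a083d15cb8e3d14bd243d1034263d122e0c3d11e09e3d108d9c3d13ce0691948c9c5712c398571374965712b8926fa2b8a6c982b8a294f2b8a069d05708571558905712fb0e5713748c5713089e571788a666433220bde2df0c9512df0ad616b0965be2df20ac62df100ba6fe025be061905be388125be2ff845be44c9c5be431065be35c205be4a8945be25c10e194cc0ee0268f0e7234229033c4228cdca6e51484564526845422a0127234128455948284568c2250168c18b4719a12d183fa84d1854282d184e610d1840f88d18692208776149ed2429816d2441da0d246921883e6920a5303fb04d2453282d244e60ed244d708d2479d9ad5768792f3b2338ec8779d828644fb86f3b6169ef3b69e22f3b7a024f3b62182f3b47610bff36e0e1560ab01011621905c04830ac4362196906,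
  nat_lit 0x693a4edc3941aedc4060aedc4c68cedc48e861601aea61601b18a1600b0163630b01c0230b01a1710b0069372d8a21600b62416049c925a71b09493949c8c36129c869396c12293943f229ce09a8687e5a51287e0999e87e0b61887e0af8887e50a8ebba2ab16a1544f14a154a418a1550a9cc9d6c19aa1531804a156879ca156c126a156d1a4a156dea2a1544f0aa152ab0ca1547192d084718a6ab4718c15f3768e8e30a9028e30af948e35cd1a8e30a7988e3471a49297371c8e3355968e364da48e367892eb775ba2ea475b8284475b8aaeb2ab06eb76451eeb757596eb73f420cd93f40e1133f406d9f3f2027e8696067e84229e7e85c0927e864d9c7e87690c7e8641a0f1b36722e7973c90ec973c92a7f73ca2b3773c98ca36e326e79641a4e796e386e7964d8a5112860c5115df0e5112888ebc22888414f288820a028888d1328896c9b43ca451128616511057185112839a511355a651156b8ae7a63984e7a73d12c2d73d1c99f73d16ad773d1a57573d0a6d536a96e7a3af20e7a748a6e7a43a82e7a73522ad169b14e6a3229ce6a73510f33735205077350ab817350cd3659408e6a6c726e6a5c096e6a2b71ae6a4bb18d3f151909761878e9761310c9764bb082f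42b9129766661e9761311697666ba29760b9a0976671a69763d5a49766f1029763ae0c0fb3ae12c173ae1eae06529052a56e8ebec7742275c5f11e75c2b29a75c07d9475c3ae26add3ae021042ac9075c6ff8675c6a28875c7998ac4d43a8af3379986c90435a0f33725a4f334181cf336d218f3362696f3343a94f337250ac146809ae4a7251cd6072522e4d58090e4a75818e4a27c9ce4a27b26e4a66702e4a60a16e4a44ea4e4a7468ae4a69f986ba35d12ce235d028fe35d0e8fe35d0aac035d0c0e459a866ba784086ba47e1c6ba1299e6ba072146ba560166ba6c9a06ba1b9226ba717a46ba5b1266ba50b0ed3750b2070d50b22be82cc12a165191ca1658e88a1668186a1632324a1633526a166a598a163831443f38306d3c5c6067064f91270658da2706076207065b21070669b82706322a670665ca470658e1a7066a79870621f8c70659e0ee8d5bf0ae8d74688be22911ee8d3d390d7a7469a69a74698ee55cf02e8d4ce1ce8d5bf14e8d57592e8d6e724e8d66c08e8d30a94ef977c84a8c77c92c4f77c8a87a77c8c6153b510ef93e008ef969986ef973120ef97261cef941f1eef943d16ef96c890b886c88ae491ee08d916c88495f6e722d916519cd9172496d916ed20d9159406d9128214df122f90df16f8844636f88a85e42f16df13629adf159884df156f88df15440edf16d424df141f26df12820adf17359edf12ada0b6130f94b615b092d695b09e3505b09c61d5b0a461f5b09a55f5b0985845b08c61f1a204b611660eb614e208b6112d86b61,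
  nat_lit 0x1d38a5ba2dd028c10c6925ba2dd225ba5339c5ba1359e5ba05d025ba1d3945ba4329a5ba432a45ba46c8c5ba232104a83bf0e5cd0fb908d925f0e62b0a58c8d946c825e33bf105a55158e8d919d128d9315828d92ef268d93bf068d9463a08d9313a28d92909c8d91721e8d946c9a8d90a5968d92fd1082b4328a82b46d0c82b415825f0415a05de0909282b4329482b0940282b1bf8882b4fd8682b313a082b2f59c82b1e99e82b4159a82b46d1682b5e89ee7143f14bd15e88c87e5e89c92944886bd172512bd173724bd15761abd145998bd143f0e8c7287108c72060c8c74638456346386413406928c7107868c73d21c8c7206168c72ef208c7463988c7313a48c70a68e8df0a6908de0a68a26a0a68c4651ce1214d0668414d2ad8214d010a614d3128814d0a72014d0a52214d46d1c14d0a51814d0a71a14d2329414d1351614d1d58c1490a4924dc0a4865840a4825840109a1490a4845a50a718149010a01492061c1490a7221491d5961490a5241492f50a1492ef1c5ea2329a5ea5d20a5ea2f502b612f50859c63f905ea5b00e5ea176925ea2f520465062025ea232a65ea172205ea2331e5ea172185ea5d2145ea673986b818312ce760d9cce76aa16ce76739cbc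b673a66b24a998ce76aa0cce767382d4a1c490ce722d86ce74c788ce75588a2e40a50c2e4172068c1655102e40258e2e43e0922e42f6022e41e9a02e41399e2e41e9982e4558942e40a5162e40660e3d330f903d34240a3d30a70c3d31e98261f1e996848034923d32321e3d30a7163d30a3203d30a3243d321a023d30a30a0210a30c2762339e1460a32646546312146232a01464620e14622f881460109614613b14146232981461bf8a62a2098c62a3151a41231518562315200d131522b61315068aa315144136401262a1bf9462a2f70262a2908462a3f59062a4e28e62a067a662a3101e62a47890da94788ac074788cb114789859a5b49c8f10a8868f13a1268f1587248f15ae228f12b7a08f1603968f1588948f16a79ce7a5bc8abf629e90b792a10eb795bc8452b22386b7955d20b7925d12b795fb16b795971eb795871cb791c39ab7975f24b795b988b794ce90a754ce8ea904ce9a1804ce8adbe4ce8c8f068b9299d22e8499d6b29c99d4781499d6df1699d750a299d6d0a499d0c18299d68f24b773188e4be254103ab49b90b775bb829b95bb984ad30382b773158e4c96bb1046476f1cb765bb02a2c49b8eb7657a0cb7357a2040357a2265c58796af42031aaf441492af45b994af463682af461988af45cf24af4317a6af45878caf45db9eaf41141caf42ef0eedb28e0c5de4338e12e060825de2ef1271a2ef1ea4c2ef185de2ef1451c313a65de425845de59718edc40614edc76e22bfa76e1498d76e20d0758b9cedc43382edc4c806edc4e288edc,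
  nat_lit 0x40992e9b4ce24e9b38e06e9b2d388e9b56ea2e9b72620e9b5a51ce9b5cb9ae9b42616e9b5ca9ef3827c8cb955ca8cd4e5ca904471f310b955dc84b956a714b955ca84b8a5caa075c5ca8876369612b9527c96b9543b18b951321ab9529e88b9570290d8b74810b802c29aad35699e66356990e9f5698ee3156986b805699aed25698ab7b36004ad35bd96ad35d020ad372624ad32a686ad376992da47699486b5ec9aed37698658b5fe04ed355e8eed377ca4ed34358ced36161eed374824d8b7481aca877320e9043796e9074812d91748208987480a86f29608e9049c84e906c61ee9073082e905d910e907401ce906faa25306aba2df56fa92d4b6fa8eb2441d06df56fa9eda46fa9a4636fa8aee077016df575726df54990adf54990ca724991a61049918e8f4559093230b029320af8693215d2293234d1c9325391493276c8eb3376c8ad5676c8cd636f106ed936504ed937f9ced97a09eed96b194ed96ab16ed96ea20ed92d422ed9759a4ed96ba02ed955394f417779af417a094d736b98cf417a082cef7a0a0a527a08caa75cd08f415d09026963082ba1630a2eb0757a4c615cd10bbb63084bbb74f98bbb5dda027d5dda27905dd84c445dd96a6235e96bbb6d31abb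b6b708bbb4f524bbb6aaa6bbb5310abbb35e8cbbb3bb1ebbb50b1cbbb76412acf76420c5376414eae74194ec847a82ec86cd04ec866288ec874f10ec873c8eec86e1a6ec87418aec87570cec82bc1eec84341cec849aa089c49a90dc749a8eda149a8a92949a8c1990b2049354948293549a92e5849a9619949a889394381c935494969350b2189351329a93528b269350afa49353bb0ac3a3bb0ce004658e7763bb0e8d1158827766c6047765b986776154a07763429277661d16776700147766199e7760801a7762cea47761470877674414d186f9a0e8874420dcf7441add07189e6646cb12e8868c0ce8874402ca47440eca47441cd6c5fe06e8828d08e8849c1ecda49c2075849c0a57c49c0c16058f209386b388938472269382be169380b0149386fe1a9380b49893818198cdf74188cdf66fa2f1966f9cbb466f84b9666f8c5572ab94cdf5ce1acdf43724cdf6d7a6cdf5918ccdf591a2ad95918ae9174896b235918429759188bca1768eb2356ba4b2369608b2343ea2b2369b1ab236df04d8f34e82d8f6620ed8f6c7865566c78cdaf3d99ed8f6d794d8f1ed1ad8f6120cbf66120ec356120abdb37482c2444204c246121eb66607a6c24722a4c2461322c241d920c245ed96c2478588c245fb14c246111436f6e322c22439a0c22794a6c2259ba4c224fa18c221b78cc222ed1213e39a065da28e8a5da2ef0c5da2ed025ef6e7905da6ff0e5da060025da5ba265da5ba185da2ed225da2f71c5da13b1e5da2dd1a5da28e945da2ef165da6fe0e5ba651905ba,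
  nat_lit 0x7f186e573c9a6e558b226e5643a06e537292b4d372a4574633826e56b0046e50be0e6e516b866e56da8287e6da848ac37b92db56ba20db5434a2db55e99adb56a398db56c5a4db5796a6db543d8a9d14e89687b3e3989d14e88edcd4e886ce86fe8e9d1167849d141c209d14e8923b14e88472b4e88adaf6d7969d10caa29d141a9a9d14eba69d12aba49d16fa869d11b0a286952a108690980c869434889324f282869662a686909a888691b1188693e79a869098168693e60e8d2179087cc161047cc3e61810f3e6268986c5a07cc2ab9e7cc13d027cc6a4187cc4388c7cc2198ac9c3498cc9c73a92c9c4389cc9c5d99ec9c64e1854a64e0271164e2486e64e1643364e1469377282c9c42208c9c38406c9c20e1a871629068711df8e8711b590871438861394a218871098268714960c87149612dda4960ad4f6a79692c4960e447496103e6496185020af0292c4a70692c2a10892c7372292c4a5a092c6c79e92c3739892c435061364c60286a4351a68b4351e4ff43522cad435083c44350c1300981486a5e8a286a505a686a60212c047449251a67790f4170d0ce8974482f4160210e8979290cef74486ba15a58ee8960202e896c7a4e89471a2e893a420e8953f9ae89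70d16e8956b8eb62070026934428469343b106932810e6936ef0c6935059c69334988514349a2ad8786126937521e6936ef16693494a269356ba66932ac10e7d73e90de673e8c90231b06e7d4eb92e7d2bc9ee7d28922e7d4801ce7d48114e7d53fa4e7d78d26e7d76c0ce7d76c0a5a872582ed838220ed8758a4ed857308ed8331a2ed865c9ced83479aed870d18ed82d416ed878d14dec72d12dec7070ee0a6f606e0e6f610af06f60ee0b6f60a44b6f60cf1a70c86dec6f61e7066f6186515d01edec22604dec22596dec32822dec73526dec72502dec70d104b86ef0843c5ba84dde2a412dde570a0dde43ca2dde6c69cdde5e19edde74682dde37698dde70d24dde73d26dde66e8cdde48512757485224624851ae887109690a4cd2290a1d09a90a14d1490a14d8890a65d9090a5ed8e90a4c22490a4cca690a14d0a90a7108c90a4829e90a0ab1c90a2198ccdd66e9443329090cdd5c09acdd66e845cb66e9051e66e9c36f6f006cdd3f584cdd36ba2cdd18118cdd36aa6cdd5c6a4cdd63ea0cdd4808ae7c4a08ee7c3481085e73e0e66d73e029f25db02e7c75b98e7c73e228c473e1cd1873e1e51273e1690173e0aad356996e7c4581ae7c44226e7c42f08e7c7990cdef4ce0cf3279908b7e5be10f3270c9cf3276184f3246908f3266c1ef326af1af324ce16f326f794f32707104a95578edd66eb1cc3821d22dd644220dd64bf90dd640f8add66eb0291d6eb06ac779812dd640f94dd670d9add66a726dd674d8cdd674d8a84c33702e9b74d8e8922990ee9b,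
  nat_lit 0x69b047911658279175626791374a07916631e7915d6187916d21a79114b9479136e9679134b0acd334b1245b34b0c0e034b0e4411ef8e69673e846965a18269616ba06962319e696413986966ac1a696070146966699669634f106cb34f0ac9734f12afc4c29e69e64ca069e34f0ef0b34f1a7a534f0c69d1ed0469e34e9469e64b9669e6382469e0708269e20d9cdbf34d14dbf6df948493e59edbf6ac0edbf6ad10dbf4e906dbf63188dbf35082dbf6ac26dbf75824dbf27b1adbf34d0adbf4248cdbf64e8c9d84ec108354e9109d840b189d843e149d84ec1884f4ec269d24ec14c9d5e3129d85b4849d8697029d871f869d844fa69d8426a29d80cca09d843e0a9d84020ce77126848045dc98804402044f94021824838e2080473b9480459ca48044022050143412804592a68041c91080408c06804426088046710c99b4cd8cb8f2d41299b5c79499b1611899b4cda071b4cda28774cd94ce26312499b6292699b4388299b1c90e99b0c00699b6ac0a8cb6ac22a4e6ac0c86843414d586ac203713b512d5848f88d5860c02d582a784d586d226d5846596d587259ad5843e064f32798c8761690e4f3132904f327982e41279a0af927986b572aa124f344d9c4f362a024f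343b144f304e9a4f320da44f36fd0c4f36849ec876848a3255ec84d0925d9ed0919296d09635a0d092d5a6d094a7a4d0929a82d092e40a5e02e4220bb172025c82e40e2dd2e4081e454b8e5c82d99a5c82b1985c8137045c81a79c5c82f0245c81bfa25c82f0165c86c68ce9a74d26d7c74d22ad574d20eb974d1cb2374d14d8d49626e9a4490ee9a38d86e9a605a0f124b792ac06058ad8a6058c4fa5a004c0b2a2a6c0b2a308c0b76486c0b14ca0c0b4279cc0b60a1ec0b6fd18c0b14e1ac0b27d14c0b6c516c0b27810a542781609d3a8964f02781a7d71d8a04f071d9e4f041b1c4f0331064f0052884f03e9a44f01d91a4f004e8a4f03a88c4f0554109fb2fd08aa85541eded55408ae755418a945540c78d3c694aa810404aa84281eaa830c22aa8321a0aa85eea6aa85a0a4aa8592182401bb2024066f8ee531200409d12014b221200203a1200609d1201020a1200e23a1200ab221201c0f127d86240591922403312224059326240592a42405908a2406cd1c93959092d9a384a4b2127a88b212a822b2159a9eb217851ab2171898b217298ec327320e72c732105037321878d7320ab2661908e6428184e645961ee6459316e646b222e645e220e646aca6e6472592f3f79fa0c3b6a51ef3f5030cf3f79f82de579f9ad5479f88ddf43220e31718a4f3f6c588f3f6e5a0f3f7889cf3f50316f3f7501ecdb75022d3d75014bb96ac9aea072d26ea05dc8cea02dd8a1bf2dd9e3ce4bf9a5bb1a19e5bb05d065bb513a65bb623245bb556205bb0df965bb3729e577,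
  nat_lit 0x5a21aad45a20ab5c5a20c91259986b446bf88b4461884b441249cb4459f1eb4448914b445ae16b4447920b44458a2b446f4a6b4412982b444a10c17f4a120c4e4a10646230ca094211406942457929421181c9420f29e9420bf9494253c1a94256798942156a494253b269426188c9422168a1d103d0c1d10e88237d0ed901d10f70e1d1017121d11fd021d11bc261d103f081d10f4861d14d81c1d12709e1d1526981d1216941d103d161d1696104236210e42303a0a4230c60c423211a03a4211882ed0c41c42303a144230a5924231d6824230c6164235659e4235a6184231809a4231d1244230c8084232430c640243262130690e4862430e15a2430a08506b044861199a486527984860e822486100a04860429648632b88486320144866188abe815512c3143704c3172720c3161aa4c3157a86c3147588c315fc9ec3155d1cc3153a9ac3143a98c315f416c316e71895c3929095c4ae0695a4ae02daf4ae107204ae24ee54ae0ca764830695c0b59295c5972295c58a9c95c3381e95c68d0295c53b1495c5fd1a95c4818c95c4f09ca505d41026f2d18e9e111a1a9e15d4069e1101209e14119a1903a7161900c81e3d50c81c0270c81a9070c81251e0c80476f0c80e7e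80c8107e90c82633a0c82416f0c8221700c8209c50c80a74e3a8081900c884190237141904860ae1b4860c3b21471c90c486181914861c17f4862027b5ed1290c0ab2090c3b69090c13e8890c61d0690c4048490c1bba490c48b2690c70d9690c1d91490c68b1890c374109034818a9ed0aa86903481a066a481925d64819c790481a6be848186af56b7209031a91c9034f6969035d61a903799989036b3a0a6d3a41aa6d19b18a6d53694b14536901e5536a4b125368ab145369eca75369c44d5a186a6d32708a6d4a294a6d4a296c7c4a29264c4a2a294a37e029454a28e6fc4a2a4cce4a29a1874a2987ef799849454b0089456502494563e0a9452cf1e94579e1c94564a90c0037ca4c956240cc956d28ac9564a96da564a94c4864aa0b4364a8896162b9cc9563392c955ba82c9557e1ec9541618c9569a1ac9517f0ccd248c8acd266910b076690eb2b6691cc996691a39d669169193cb24cd26691e64c66902f0d669142fe66920bab669229526e01acd263806cd264988cd2633a29c358d0a9c34e19e8114e182f3f4e198f1b343029c3491069c314b9e9c358d149c3551989c334da49c358b269c34130c9c353d8e82657a90d736ba10af55998eeda4130e9f341308c9353d8282637c248261878c8264131430f5f612826732048263cb20826166a282634f1e82616a9c826090188265d59841b73b84bab5d58cb165d59e45353992bab58b14bab34b1ebab57e22bab3c88a6dd1ee8e1043c8906a536e920e72be1279114b8a7912c310e8a3c88610447990791,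
  nat_lit 0x77a12eca77a16ddd77a0461077a0ae9974c96ef46161aef430898ef469224ef43808c84479910701380985223809e72b380a0c52380867cc0761270145802701422147016b59870143ba4701499267012970c7012970a9f22971ed583e5a452e6faa652e297220a30789252e27d0e52e2ab8852e64e8652e6b60452e4f91652e4c29852e3b89898875b9a9884c4129214c404b4e4c4083254c40eb394c410c624c422cdc498889880bc949880bc9073a0bc9c98b026941791dba61790bc9e1640bc9a0254b7821794c2841794c49217939c901794c6201790268a1794c382f113e38a98758b129874c3842ad4c3a2cb24c39c9314c39e2f94c39a4074c3967c7202249876e9089877811cf3b78114ea6781166235eb82f023351af0243192f0239c86f0239b90f026a5a4f02799a0f023118af027530cf026d420e9774b90dd250a10e9776418e9774b8458574ba6e8f74b8cc9064814e9778c08e973d91ee975fc9ae9778014e4b78018c3566c14f0078020f2678004af478006acf7801a84070d04f0069090f003108ef0043aa6f0066c0af007258cf005ca9cf003969862331192516311a2e8d3118c7634449051c2dc106230668e62346f046230a406623412226233b19462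31790ec086040e29960404bae604088d26040c3766a792c0818704c081bb14c0879326c0843a88c086bb90dde6bb8cb396bb847a76bb9c72041224d7759e04d7733406d7779988d774ce9cd771d71ad7763198d7759c94d775c890bb85c88c80440214b9148f98b915c8a0a8979320b9144e88b9113a02b9154084b911319ab9140386b9145e0ed8145e10c3845e18b7a45e1a8335da128bc621228bc0a0028bc0c9048bc4cea48bc553a68bc3821c8bc3e70aaf2579167ce579128cb5790a80757922e5330882af228684af2678a6af243798af2436a2af238f9caf27819eaf21141aaf240396af23340cd1c6bd1096919c90d1c68e1039c68e0461268e0266b68e1466862912d1c6259ed1c1b91cd1c57b1ad1c4ce88d1c4270a51969b0c51928c88e7d481825194271451928ca00a05ab9251969b165195731e5196d7985192019a519610a65195ce24519436885196259c7276259ad896258af2e6258c2b87368ec4b67412c4b5f602c4b60984c4b6b924c4b6e088c4b74520c4b57a1ac4b79716c4b15c14c4b6118ede26f108f037819279479b0ef037818e8887818c81271d84f03479a0f03610a2f0379b02f0340914f033179af03752a6f037938cf037938ef2e79390f307938aad15aa06f277939aad87939c8f0793a0e7d75812f2742708f2748784f2737f1cf2756896f276afa0f2779724f2756a26f2735f82f276b40cb686b412b8b6b40abf46b40eb9672982d685cb04d6868d24d684f986d685fb08d68223a0d681c81ad685fa16d685b414d683ce0e2ca,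
  nat_lit 0x1aa049d00ca9e9d043f169d057f229d03e6209d01b0a69d029ca49d01ba029d030918e6c30614de077a2460c3060e89b3061a0ca3060ade02a50e60c37f8460c4992260c6c0a060c6b69e60c7799a60c73610ea472992e6c79d10e6c2858ae6c73602cbf7361650b73620ec856720e6c6d41ae6c2a606e6c73c06d9e30718e7828792e7873c16dfc7359ae7866502e7877010e786b6a4e786fe0ae783679ee7829616d6d6a7a0d6d6b698b1b6b6923986b684ca86b686dd06b690da66b68edee6b68a52c6b69c6ab77306d6d64b04d6d78214d6d4d38ca484d38a1c54d38e2300d4829a71188e9a70eb989a70c21a9a711d1c9a745f869a74eda49a70f1a29a70e9a09a70e2969a752e889a7524149a778222a0b7821c63249c94f045b682f0439d04f0439a90f044c28ef045e8a4f046fe26f0449c8af0461b1060f61b0e2ad6ad86c3678102c3661b02e1b61b12ea629ca0c36448a4c3677322c364e91ec367701cc3629e1ac3646f18c3657f1022d57f0223057f06dfc55282afe6a712afe4ec1eafe3649cafe5089aafe14698afe5ff26afe5ec10eb46250eeb45f618eb42a60aeb45ab8ceb475a02c4a77412eb44499eeb42a614eb45ab96eb46c5a2eb477324eb46ba26eb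42bb02eb43d68a79f14b8c79f45a0eab21afa08b46fa848b445a1e13d45a1a39f45a0a5862c3168b445a122d33cfa0c5b3cf98ce83cf9aa783cf942973cf967ad34aa479f63e8279f0b78e79f1698879f4100679f3690ab5a369120e6487906d2229826d2797046d2508a06d2716246d2560066d237b886d23e7226d26fe9e6d27841c6d25eb1a6d25ad166d26e61e6f23790ec1737910b543791ad743790a25356a046f2797086f2129966f25e9a26f25aa9a6f25aa266f259d066f20e48c1450e48aa470e48e8c20e49a1a9504821c90169a1c92cf9c1c9215a61c9523961c90a2941c94320a8463968c8465f1128465c79e8464231e17242320bb9423221274231871c4231472d42316864392a484663026846275028464ab848464ab8e84663e888462e98684638192891093227034ab907030761e7035c89c7032d60e7033ac867035b3887032708270359b26703390247031219a70338d987035e38a6985e38cf3b79d94bc737382bc778424bc75b106bc7140a2bc72c7a0bc71429abc734c16bc7227106c2361103f03610ae2f324066c2753086c261c846c25aa1e6c2717966c239ca06c25e4226c2072266c258f026c261c90d1661c9ad3d6e7a0c396aca2c397179ec395e224c393b18cc3961c9476361c984dd61ca48fc61c8cea675314c3915704c3979c08c395e406c3956f92d716b8947cc6b8a2aea6b896d4f6b89a6e01d102d7142e1ad711f804d7166208d714d724d716a78ad713e60cd715c69ed7121e1cd7177a10bc86ee9cdfc6ee8aef477a22c2a,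
  nat_lit 0x5af96b995ef9ab9928126b9948024b9913286b995979aedb5978a2e75978c92230a8e54a72b907511218eb2f3a982b2f3909ab2f61404b2f4c49cb2f41020b2f17396b2f14b88b2f49114b2f61110eea68710f294040ad0e68718cfd687065033d920d0e66f92d0e19522d0e3a49ed0e67602d0e40414d0e382a4d0e1fb26d0e78b8cd0e1dd90d406a006c3c29520c3c7a022c3c74794c3c61e1473961e1ef3361e1a52e61e18c3061e0a73961e0ce8f6f404c3c1578ec3c373963b60c2983b61db201601db0428c1db102881db0e2f71db249441db262f91db0a6e7032863b66bd083b6182943b655a8a97655a8cc7155aa0bcb49312ab579b1eab536620ab55f48eab549588ab566506ab5365a4ab54bb16ab563894ab556518ab5509a28585d996a135099c58e50996d5350990d9e69a08a130d922a136f182a1377006a132c592a134e89ca136f410a1344ba4a136a98aa135d98ca135eb90f175aa0cf1778b90e5b78b8473778b88a6f78b9cd1078b98b71616a6f1737f08f1736c22f177a01cf175aa16f173400c70506e826803790c680340146f26df926803829468074f9c6805988868036c10c5a596906d83e70c6d836c060ec4a5926d877a026d83ac8a6d836c1675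936c147ce6251e6d8073846d821fa26d871a9a6d8686266d865fa46d8499866d842ea2e9f7209c85d6438485d2d09085d2d20e85d3818a85d42e88b5f42ea012c42e9670342e9827d42e8abc85e41685d6fda685d2202485d7500285d4b20a8b345996964668209640b8189644b2208234b21e9664b20e9564b22416c4b2262f0761869644db089645460496417b1496466a0c4215751ecd46f18ccd466a1e92566a14de359610cd466a24bca47118cd428a24cd456b88cd455a06cd421094cd429c10ea129c0aea029c120a429c22d9f29c2058e7401e5387501653827f26538132025385e28c6b15e28e8965e2843525e28ae645f184bc529d0ebc51409ebc555e1abc573216bc535894bc56a01ef41385a2d406a022d4b6a016d7744496d403869ad401ab8ed40358a4d406bb8ad404448cd4069e1ed4033d8ed906c8226686c80851b6c8265026c80a70635d04d9038316d901ed1ed902831cd903e11ad9043518d905b58eab05b58af0c5b58cd455b5908a912c02b6b5b5a08065b59af042891eb6b6a294b6b78616b6b5f49ab6b74f26b6b57624b6b77406b6b56e08e694a584e693218ee6941f0ce6973488b65734a0c907348c9d54ea94e693c802e6928224e6968c1ce6928320e694561ae696ee98e6941f16e6977f106e377f0ac2c74f1eefe77f18617418a0efe61616efe736a6efe37182efe7381076a73812b044229ce704a890e7073804a6b75c9ee7053518e706eea4e70285a6e703060ce704e8103514e80a87e448069d04e81e9ee4e80e3b44e8181b1,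
  nat_lit 0x6810c6f30b70a8b945c9e5ca45c9c3ff45c986e745c8a57e09f228b9312208b90fe108b945e8e8b945c868b96ae048b9590248b945ea68b92bf168b90b7148b9621988b95d08ae4038b0ee4066c84e4072004718720187b27201adf473c20e407201e932720088e35401ee405d094e402bc26e405728ce402aa92ae54488cae557286e715729ac6c5c2a4ae543e1eae56179aae544896ae57068c5787069e7cb7068e4a97068ac3670690e0a57612e0d6eb04e0d6761ee0d2bc14e0d61b16e0d29620e0d75b0cf3a34022eb62a98ceb675b1455331610eb63100eeb66d012eb62aa04eb661e1ceb667888eb644486eb6335a0eb66031eeb63371aeb679d14eb661792cd46d494c2f6191ec2f617a25346178e721617982a96178cda960584c2f5e286c2f57908c2f3949a0f2394822f55971a72939494d4b38e147297181e72920d9272929d067295da0e729311a67295f124729591227296e72072938e0a7296a58c7297479ee4727b16e477239a86872398b967239ee9b7239255772384b687238eaf272390af9723a6e8d723a4f00723a2ed3723a0c087238a4f661c08e4774884e4742114e474211878c1ee1484238e2284268c208426e7068422e70e8422d3108426eb0884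25cd8284266c268425bf24842093988421ee0a8423130ca692070aa6953422a695349246d534a6a68534a21e45349c51d5349a25b534985c95349640e534946260f226a692d302a6920b04a696880ea692f008a6939786a6934b060e8372940e80740a0650740c6e5371840e800c1c0e8373920e8032960e83749e0e8084180e83741a0e8082260e82cf90ed75cd9aca05cd94ad941c14b9b7529ab9b5cd9e86f5cd922655cd8e6265cda232d5cda0c9c6db08b9b31482b9b3f7a6b9b41c0ab9b56c8cb9b7889eb9b76b9072f47202ed75468ced776b94a8d64522ed77809eed75be1aed7787a6ed77300aace7300eba47300462e7300ce5472a14e603168ee6027fa4e6078f86e6041d88e606eea2e60390a0e605059ee602831ae6056716e606e20c8c246114dc46e2189336e21e52d6e212e696e208e6c6e20ee586e210eaf6e20acc529388dc436a9edc466296dc46d8a6dc421182dc40ada22c536c8a2c55c71e2c51ab0e2c51628e3b9162886e11629aa954cd822c53fd842c56339c2c54eca62c5023a42c5602202c5028882c536c942c57808eb3c7808ab7f64a82f015f186f017809cd7c7809883173822f015bf96f0161508f016908ee5f5921c6223111494e311105b831126721444826226b01262246f84622066906224a70c62272f8e62156708e5f70c84e5f72f8ac2a61516e5f78fa0e5f738a2e5f2829ae5f27fa6e5f5cc8c41c35d10cde5ab8eb994a50e9ba5af8cb995cc82b625cc92ba15cc9ae9a37f20b9972088b9920e14b994dd02b9978d1eb99,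
  nat_lit 0x6a2a0d842a89ed842c09cd843b59ad8435c10d876c38672766b0cd876c394cd66c392f016c39c89529aa0d875fb82d871e884d87729a2d8748a9ad873b58a6863b58c3573b592ae73779076b48a8e76b2718276b5518476b12ba476b7000676b5ce8876b12d2276b5f5a076b1471e76b07e1c76b1ca9a76b3431676b1ab9476b47322a6d4730c404202148e60a79214f7449a8e62c6988e64732014f473127ab473108634730e85e4731e6e74731ccdc4a0868e6680088e6376968e62c016bf85fc229415fc18c015fc08cb76089cbf86b392bf82c284bf873a8ebf850a90bf862aa6bf865224bf82c00cbf848a8aa7048a8ca6e67e8691548a82a5f48a90952271029151c99c915428a2915537149155a212915538169150ac1e91519d1a915483a69154868891548a146900ac149146af1e9144079a914126129144bc1c914355049145bf829145dd069144718e914331909142cc269144dea4914223a29142b5a09140ac0a9143480c9144050eeca4050ab794050cbdb40512c3540510e401cd0280a5b68880a0bb0480a4791c80a5bc9680a5ed9480a08c9a80a1c11880a3cba480a1c42680a326982bf3268a66a3268cc4e3269015d06a9064d4441264d62a0464d5a71c64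d2800864d5360664d5cb2064d1d72264d3c39e64d6041864d6271464d3351664d4c0902d15570e2d1168889504a812c664a8161664a81a3541e0229502b88495043f029502ae109502b18e9506bea49500b30a9503799e9505df1c950772a0df72fd12df750b16df76fb966436fb86b4b6fb908fc6fb9cec26d386df723822df769f82df759724df731198df73218adf750b0cdf73ac14f2f7978ef087978ac6c7978c75866f06f2f37a1ef2f3df98f2f797a67bc45f12f2f63616f2f6fa26f2f55a8ecd14c414cd1668a09c36688eabc66888c996688c98861e04cd148d1ccd13e392cd124418cd16419acd1372a6cd148ca4cd157c8c99e0c02299e78da099e4cf1ac674cf12e6a4cf14af92e99499e4cf0e9784cf0c5d31db8499e6450299e5c78899e6be8eb8f6bea2ce76be969286be9a3c96be985be1dd22d7d5c88ed7d63724d7d4940ad7d6639ed7d60c9cd7d6990297159112d322ab0ad325c28cd3269906c8a50b10d3266b8ed3250b02d3264d86d326b6a0d323809cd325c296d322ab14d324941a1ee494188b64940e3c54941037745a0892849412cb04940c3601b01492819d829284009e9280fa049280b3269281f1249281f4869281c4922fc178a02fc026a22fc17e1e30917e1a07417e18a1317e243bb17e0a15e0af162fc66a022fc17e10bf317e0ebd417e263064dd062fc17a082fc373842fc167142fc756126f3775206f33799a946379a0a8337994d02163946f317a1e6f371f826f316a846f3369106f342c0e6f3663a46f349ea66f31638a6f3,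
  nat_lit 0x6d0a2e3a3949ee3a47f96e3a75f1ae3a3ae24e3a3b30ae3a3b312bb93b322f323b31e37d3b31c3763b3103763b30e3c43b3041f43b3084421ce847662e99876668aa276621d267666551a76607da47665748a7665748e2225748cf1267612ae91d784ae96f286ae968b20ae97451cae913d9aae978914ae90b90e700076107002d88a70065a0c700380026f83db987000790270062e9e70062d067004b0a27006d288700459a070065a167002d89470063a082ca63a16dc763a22d321bb12c741c1a2c747981ec744cd9cc7448c8ec7431b90c743829ac746e38ac7429210a2a2d210864432065242920ae90051885242920ec46292187f62920c3831c1945240b00452463e9e524748165246e22252465b265244d20c3034d210b654d20a7c44d21c92d4d218d8f39f829a40c1989a464f869a4473269a4653209a43e2169a4181949a437a10b2127a8ecf667b0e86e67b147e367b1a88d3509ecf65f620cf63b602cf667b18d8b67b20d4867b24d4767b26ca867b0a7e367b1ee3437a06cf618a08cf665494cf635922cf767b923ef67ba2cd367b9c31467b9a6d126f16cf749394cf75c702cf74e784cf721290cf72360ecf74938acf726f0ccf74381ee964f714e9674b1a96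674b20db641b12e9629606e966e81ce966b28ee962a910e966e182e9668508e964f70ae961301075b07d8c75b3ad9c5133ad88d3c3ad821036c88275b7989c75b40fa075b0b91275b07d9675b4569a75b5fe2475b6da0a75b7028edd56da045716da0250e29f88db46da12ed76b9a2db421b9cdb427820db46121adb46ba98db46eaa4db478926db479d86db46a58a6be5e20c6be18a026be75090bc735f0ee6b35f06f1535f1ac1535f14bc4753266be5e3866be60a206be0721e6be7899a6be6a5946be74184f2464196f245d914f244421af2479204bf67921091779226eb77920ac837920cbb27921e9295d086f2449220ca665304d0e653122f06531a42435016ca665014ca672404ca636090ca6536a6ca66500aca63500cca66a21eca61709cca67900eb6e7900caa578406f2050884f206ea9cf203611ef2055294f2071da0f2055a82f206110ebd55eaa68fa5eaa0bd05eaa290f5ea96a165ea948fe69d92bd533c86bd51429ebd56121cbd54bb02bd5789a6bd53689abd550b0abd547f0cbd578a8a9cf78a90ab459608f1578aa2b1b69918f1578a9cb4a382a2f157479cf154e796f1533d9af153d926f157918af156870ef2379188c1479192a727919ce197919aba179186e6441722f235381af2366b26f236c20af23376186646aa1e6ec37614d44178946ec0e8986ec6d81c6ec21b846ec184026ec21b0e6ec241106ec5b8266ec3bca46ec5fc206ec1788a6ec6a20c6ec6c216a116c2129d06c20ca116c20e5126c2046d16c20854343c8ed8423b04d84,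
  nat_lit 0x3d31c1b31d0861b322e881b350a841b350b9e1b3413a01b331ea61b350a021b31da8c2c555c0c3b51da94ab81da929c81bd903b51e50e3b5598023b55c2843b5032883b534b203b51821e3b51669c3b51b89a3b5162943b531e988a5706848a509d8e8a53f8908a54ec8a8a5452863bc452a02cc0ad128a557e1c8a5314868a55f89e8a54ec948a53c8a08a5493a68a531f828a53930c0f23930ad9f6d2207263931cce2404127266cf967261b8a472657c9c72634a10726757a6726079147267811a72643e1c7d03e81271f3e81ceb03e8166ce3e82441b088167d07788e7d0622907d036b067d06fa027d0689887d0756a47d04261a7d0413187d03670a7d00880c7d06539e69434a120e234a14c6a38c946941b82069438f906945309c69434f866943588269407008694597a66945f19a69467e1869438c8a6946350c6943fe8e50d3fe8a2b345f067fd37d207fd08b927fd159967fd3551c7fd79a9a7fd23c187fd317247fd37ca67fd659087fd6590a7413a096cb23a09aa963a098ad956e027411f31674116a927415978874107a907410bc0e74134fa4741653267411f30c7416e89e7415a69c74163d926c163d96ed663d909a463d9ec6263c86c7b1eba2c7b40810c7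b63a26c7b65724c7b37e18c7b76b0ac7b5a91060b5a90e9ea5a922b3e5a91cc1e5a9169af4f996b5212792b5230b22b5234506b52593a6b523f11ab5276518b524d78ab524f98cb523e510c453e50eef13e50a900481067ca3e51ee593e51c5193e5189aa3e50c10f087947ca442887ca480167ca20e267ca72ba47ca4ea0ae9a44c0a9d4366a09d43de909d41360e9d4438a69d41db189d44ea049af4ea061994ea269ce4ea20939379129d444c149d4629849d474d169d44cd869d42938ae9477c909516e51ce947388ce9474a14e7174a26d9a74a0ed3374a1652774a1acc174a18d6c38082e9434c84e944a888e9443122e9474b26e9472a20e946fa0a8221468c8223cc92822411222ef4111c6fa41118e0d4111a11f4111428d41116df4636248224ec82822426048225880e822416868226800ed6662710d6642f06d661c10ad666b3027966b3208bc6b31cc086b324add4ce20d6643c02d6656f9cd661c114d6637124d6627c0cd6627c12d8f60a904f86758e4f8727024f86881c4f857c984f8050084f804ea04f86a59e4f843e0eb9828c90b9827ca0b985cc026e85cc062657a0a2b986f306b982a112b985529eb986bf9ab9847fa4b983710ab983711e7495c2926e20aa906e20740e6e221d0a6e2371020e8505206e24cf186e2220866e24cea26e23119e6e25bc9a6e221d146e2589908845898c924408a0b1349214b136e99eb131749cb131f898b136d2a4b1365826b1365288b1371d10d346b910e3a47f8ce3a71d12d4d71d02cd271d08de871d06535,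
  nat_lit 0xea981fd0fea29b20fe88a9c0fe8c1e00f0141fd0191e1fd1c7121fd10b1a1fd40ea41fd2cf881fd1191a4902481c9e124824a19248160862481448908e124904d39c4904330649010624490107224900430a4902448c49010c981ac10c9a1c74fda22192471c2190d2a42193fb9621910c9659f3401021920d12219432882190e61e21901a822192cf8a2193fb8c2197380685942c92ed842c9812c42c8cc2a6151485973d088590c7048594c91e85966a20859296a685921e2485922a828593419a21a34188a7a341900dd40d086830b3926835279c6835041e6830b52468340ea66835288a9e00ef0c9e04f0088a94f0141de2d6929e03fb829e0528269e00cf209e011f9e9e00e21a9e0528949e01051a21710b8e14910b841aa10b9a16a3bf042170ff202172431c21719d9221701c9e21701a2421751a8a21751a8e1ff0ff8ea3552e04a35244a0a3551a9279851aa4a5151aa61ff10122a350df86a352c090a925bf9aa92549047490f918a923c5a6a925491cb0a5491e36054912c57549108b6549229b85492030d66308a9214c04a9222896a9252b2222652b1aa0411d16a560ff22a560f492a5610f14a5610f0aa5611d0ca5610d1ea565721021e2451a21e01a9821e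284a221e10f129a010f0448e10f10ae310f1e20e10f1c2153f28621e32c8421e40e9421e72b8e9924348c9924c90688f4c90860c4c912a114c90eead4c9187c94fc8499266e9e992434969926e2269926b8a49920bd82992584a27161f312b0965ba4b096a79ab0947098b095848454d584903355848e399584a42315849e60f5849c6ad41506b0962a88b0961f84b0937716b095189a4e257220a3151898dcb3cf92a3140f16a316aa22a3162a9ca3133704a3154108a3129890a310df0ea3175924a3126f26a3140f0ca314bb1ea313c20a81d4fc0281d40e9e1d340e9c20140ea020c40ea264040e967844a99281d30e0681d5281a81d08f1881d507107ba32c0c7ba3dd022343dd1210c3dd0646450ea07ba0dd1e7ba32c167ba32c9a7ba2b3a67ba6c40a7ba6c40c9fb6c4029e153410d8850c12d8840e02d8852406d881e988d8832ba2d8852e9ed8832b1ad884fd94d884798a7623b11e1183b11ad4d2a4227623b11213a3b11c0fb3b1168f33b118b103b10aadf56f967623aea47621bea67620b3847625d282762486107622a4887627590e549759227ad7591a7ae7591886436c96eb255c14eb25c504eb254188eb244e0eeb255924eb255c0aeb236c8ceb23d59eeb25fc1ceb250d0c77e50d1456750d0a56750d102df50d2220550d1e9e450d189da2ce26a1a3c286a1a50d0e63a50d049dc10984a1a4c71ea1a1d192a1a3bf14a1a0dc18a1a17208a1a45c0e1b326d8c1b30d98e5850d98c2bf15f941b350c241b30d99aa160d9a05590d9944db015921b3,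
  nat_lit 0x186a4cf34c786cf366408cf33c5a0cf33561ecf364c1ccf36921acf354c18cf340016cf33fc94cf33a00a0f53a00c8b33a01a2de50e087403a012cca3a01c15a3a022b096b69a74045994740171027402808474007a96740797a2740356247403072674016886740689228f4689168955a516d126891232d689207626891cb04689105d668926e5d689188f76890ab4a6890c89566604d1275888d122c586d121030ca541030a0331031a1d9434902062780e2063b39220601b1c2064fd822060e9a4206249202060fe9e2064f09a2060199620652a142064b08e93c3c41093c3c58693c6640c93c49e02da87561c93c5f8a293c6641693c4111e93c3aa1893c1642693c6632493c2b30eaed2b3024903eea05660e59c5662b3209ff2b31a0ac2b3185672b30a224112165660f9925660a2a6566397065660a68856611214a41112241c9247222242b3a02240e69a2244ff9822411204036112123a11120223211210aed1120aa4110f062245859cf234330ee4a6a494b0b5858e232585904900eb0e57a34008b0b4a712b0b59d22b0b736a0b0b66c1cb0b72506b0b57582b0b537a6b0b3449ab0b42218b0b6a48ab0b3bf8a4833c08e77f3c01077f3bf8677c52b1877f5302077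f5d29277f1112277f0b51e77f3bf0277f2419677f1099a77f527a677f1102477f0810a77f081187833bf08102081107803be0e5a50810c0340d5041023c09010200d121023be02102245241023c2a21023c21e1021131c10201a141024468e40229f1040210b8a4025278c402201022052011a1d02011c1e02012021a2011621720114a4f03792402119a04020ef264024550640242f1a52f29796e6c2979ea4e2978e630297908e12978a88f2978ce6c36a8852f5dd0452f4479652f3e5a252f42ca052f051a652f6f02452f74b8252f309902bd0238a2bd15e922bd15e8478715ea269e15e9cc5a15e9aa1815e960471daa62bd62b862bd026882bd3410c9e13410e0dd27612682113246824e2066824ee1c6820ef9a682106986824f0946820eb088a30eb1a0330fca01d651f1c1d6271121d6017221d60ef1e1d64f2021d60431a1d6245a61d63970a1d65720e72e5719072e397020f33972250a3971a22010f2272e50c9c72e2009272e109a672e10b1e72e3ee8272e4ee9a72e4f0a472e3c18a72e1050a7833c1861cb565127833ee027832dd86783502207830b5227830ef9c78351a9e7830ff1a783105147832941ea600d5105845d40e2762e8909e14f09652852e825282cf84528294100a32940a9e12940c1ae623065280e2a05281c0125280d7145280ff9e52810a1a528245185284d9245280ed0c02f0e80c1da0ed141d00ed0e4872440e1da03d921da0d2821da1101c1da0b5261da303861da50ca21da1011e1da524181da01a1a1da017941da552901fd,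
  nat_lit 0x36e867953038ca6445198a643f89ea64532228a853220aaf53214607532187e55320caae55714a6425b02a644cc8ea6411008a645749048f5810ede56c2a2d1e6c29eb77581143415819eb022dd9ab022f118b022e806b021e192b021171cb026d00eb024dca6b0219e24b02246a2b0252aa0b021a08cb020a48e8d451a8c8d446a0277c5278a8d446a16a4f1139c8d4502228d445c928d451a968d40e81e8d411d188d41131a8d4106a68d4241a48d40d5088d410f90ae55731021f1178a21f4ee0c21f10f821b81e59221f0a28221f50ca421f39a0821f0b52021f1099e21f01a9c21f5231a21f5049821f4ee1621f1179421f5de8a98b5de8c6e95de9c36b5de8e3875de903165de9a3c31aa02bbd44b1abbd13f9cbbd67b86bbd1e024bbd48f22bbd4c596bbd37494bbd77f20f1e78f18d6a3b514f1e43892f1e56022f1e4211cf1e47a8ef1e35610f1e44e86f1e73c82f1e585a6f1e64824f1e3b50af1e51f0c7d85300a7d8115187d83ec2420c3ec16a603ec069f819b127d81111c7d8088847d851f167d8341a07d8106a27d80ee1a7d82478a08624790aea2478c1d72479a213247a223a1bc1248f0eb9448f2b38248f1139e48f0431648f0812248f5021a48f119a648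f4eea448f0ee0c2013c28c1dc0ee069e4401121dc0d3841dc0fca61dc4f0201dc341221dc0e81c1dc0179a1dc100941dc3c2961dc5230aa485230eae55230ca0868f90ed85730ea46523041c921392a464ee9ea4610ba0a4650414a4652384a4652416a4611322a460f01aa4610aa4a4668f86a463c1021cb3c1061c93c110acf3c10eace3c10c1fd690867820f392782109a07824ee227822419c78254d027820fe947820811a7821111878210f247820e8267820ec0c7820ec0a0380ec1098e1c0921d8017261d851e061d8341201d80cf221d85289c1d808f1e1d80fc181d85279a1d801c161d82358e0a32358a23f2b48846b2359207e2358272f2359423f0e29846b042a046b0ff9c46b5150646b10a2246b3c29e46b0e38246b1101a46b52b2646b0eca446b1058a46b30690c735ae9060d30684c6e306921603069ecd10702260d0710860d684a060d3cc1860d2b8a460d1dd0660d589926093049c8e44b3146093b3986093048470a30498ddd30490d0c304a6cda304a4a6a304a05fb3048c96636e88609065166092fd9e6952fd92eea0b9945fb410225fb415905fb3d6885fb53a245fb1c9185fb0b98a5fb2d19020b2e88e20b3418a20b10598a541059e03310588aad0c09220b3419420b2b40420b1191e20b244a220b4f0a020b10f2620b0c22420b5138e2213c28a2211108698e51e102215020c221110829f8110a022711088a2e01c1c2213c294221571122215021622150c9e2210d69822101aa62214d3a42216798c7f967990bf56798a80067984a74,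
  nat_lit 0x3eea2a030d5a0a030d526a033fba4a030ef02a033ef927543ef8a7dd3ef8c1c74a2107df3420e7df110047df4f0027df107a67df313887df0ef067df4fc207df088a27df4fd1e7df0e3947df3ee967df4daa27344c80e9b50e78a9b52ce0c9b51971e9b54da884024da8e74b10b029b50e9849b50e7949b50c5929b52ce169b53fb9a9b53bf249b52ef089b55758e223111820361119a1af11192583111882011118eaec1118a6571118ca5c28e082231221c2234f21e22352e1422332b962230dd222230dc24223088a62232480222315da20f507c182bb15d92c55187162bb62ba22bb62a142bb023822bb04e842bb023882bb0ff102bb5020e2bb411242bb370a62bb62a0a2bb1870c2bb1641c2bb1160c59c1160a1cd116041fd1428e22c2b3a422c01b8422c1150622c2330822c0e4a222c3ef2022c11b1e22c0da1c22c0e59a22c0a29822c0e69622c2ce1422c0e30e67f0e31402d0e3226560e32042b0e3046830e31a6570e3185684ee841c651f921c63ee941c603e881c64a10e1c63ee8a1c60168c1c60dc9e1c65069c1c60d7a0a0d45990a0d0da9ca0d32c98a0d50684a56506981ba506923f05069056d506a448c506a61b411306a0d2e488a0d53004a0d4f196a0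d0d5969e3109829e34f182a084f1a22364f1981a90d2a29e34c9929e3137089e32b4a49e30d0269e30d58c9e32789e9e31121c9e33d2101a00d0049e10d01402a0dca01a02cf981a00d0202190d0109e20d0240d60d00a02a0d01e1c90d01c1cd0ec061a00cd881a0019041a0246141a02462081a3ee2048c246102c3246041d9246180ac0430448c33b9248c4f21448c12d8848c1251048c4f20a48c4699c48c3dd1a8d30dd188d30daa48d32ce208d346992a42469967e046984784469861494698e459469a45664698c7e04f0868d33ec048d3508168d32789aa10508203f8508227ba508141cc56412a100ee04a1022c8ea10399a4a1011226a100e60ca102b49ea1040d1ca103ff924f626310e1a3ff8ee113ff984426851c7ff7010e7ff6750c7ff3ff86e1a3ff8cb7f5bf947ff407847ff4d71e7ff675167ff74ca27ff21e267ff6ff247ff416027ff5671a67f2d69867f33f9c23133f92a6d33fa660f33fa4a9233fa2d0033fa06122318867f06e8467f08b9667f0e19a4591a11845922ca01bf22c9207c22c9634122ca4ab022ca633d22c8c34122c9eab022c9c33d2e88645946a0845951e9645952c96a3d51ea260751ea44720e1a2a3d76e12a3d70282a3d0e808a3d31990a3d690a4a3d52c8ca3d5569ea3d3f29ca3d6fca2a592c826a5968fa4a5952ca2a9f52c923a452c9ca592f186a590ee08a5958116a593ca8c60d2c3087953ca9e1043ca909f03ca8ea793ca849f15db0479530694795494207957562279568b9a7953ce98795374a47953ce26795,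
  nat_lit 0x2bd24e2a26602e2a4530c7c345310cfc5bb1a4b44548c8a6453148a9693908a6227928a625a028a65d4268a60a2068a61e7208a67021c8a63109e8a609d9a8a63e1948a63198ed286940e918694085b3694188aa70802d286941a57a694064861a1a0d285d41cd281e112d286941ce04310a4d284cb0ad284cb0ca2f0bf129963e1a69963ec0899651b229964cb1e9966fc989965179499631096a29514961bd5149ca29514924775148eed85148a6215148c1bd10f88a29692a2a292bd20a2970b24a2925e02a2940e8e9774bb9cdf94bba4df94bba08bf4bb8a57a4bb8c5b5524089770ba1297768fa097725a9c9770eb1097725aa49772bd169772da9497751e989777059ea0f3dd10a0f25e0ca0f507864a8507a04bc5079e4bf507944bc507984cf5078ce0570294a0f6c324a0f25c20a0f51382a0f5ba0ee1f70f8461c70fa6b7758184e1f70fa2e9d70f8ad856c296e1f25f9ae1f74e8ae1f74ea260268f1ee9d29a0ee9d54f84e9d7051ae9d69318e9d4848c24d48490b154848eb1e4848a27d1d104909227029090ab06909761209095b31290913e96909126949093811e9094109c9093f39a90959b18909121a49094d6a690914e889094bf96e047021a48d702188a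87021296b702044ca702086257020edeb70226ba870224621702225bb702208a37020a97f39708e0470b14e0451714e1670b1ce1625a98e1669192e1669304e1625c82e165e310e1643324e164e0a2e165170ae1610c9066432a927eb32a90afe32aa20d632a8aa032dd086554d3826555209e6550fe84655501966553bf2265539a2665511a9a65510ca465550c866553190e1a60e61a1a6015181a64f4a21a62420a1a60d30679a0d3021d00d30e507249061a60e4a01a64fc921a60e79c1a6285021a6242141a6247241a62a00c1a62a0100a52a00e1352a00a98e103065402a01e20f2a01498e0e6205404e312540201045401029e5401b4a25404fd24540241825404f49a1aa4f48e5844f490a004f492edb4f48c1ab0d5949e9137889e93bf829e94da9e9e946a049e93ef229e9108249e910b869e95010e7da501107da5010a7e05010c1cc3d092a020ee84a0252882a0251a86a023ee22a020d51ca024fd18a023ef9aa020e614a023f016a023ed0a1113ed0c1a73ed123593ed1a32e0d4207da0d3947da694887da0ee827da1081e7da528847da088967da0d7a27da4da9a7da52e247da0ff867da48c0c2d151e909183ce0c91848c02dd548c1c612200189183729c9181e006918306a491814ba29180ad089182d5a09183ce169181689491870e16d024d498e1c32720e1c70e1296370e0ed6870e0cd0270e1c6e741306e1c63808e1c61904e1c25d96e1c50e8ca033be1ca0331210a03501907a350198210501884831b212a0313588a0310b04a0350e96a03,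
  nat_lit 0x6c6a6caf5bf86caf4611cca265104dce65108dfe6510a87b6510cd8f77604ca2367a2ca26c794ca271112ca243d96ca26111eca216f98ca27589aca270d26ca2748a4ca228a908a17648a8a13858c8a145082d6e45096ec9786028a1619068a109c928a1385968a142b1e8a16211c8a15451a8a16a3188a1544a48a16ed268a160a088a10c3221d10c3160670c31a9af387961860bea218612d921864d6821864d7041860b788186410101864108e186211a41860bda61860338a1863878c1861a89e1860131c1867111a878711104cb7268ce2271114e4d7110cd1868c14e226c8a6e224cc08e2270706e2243aa2e226d41ee227271ae225d912f347799ef3478022f34544a0f3439a0ef346e788f3457306f3457484f34769a4f343fc1af341b00c95866e1c9580b5109581130e9584ac0435d4ac089c34ac1ce1c168a295860c129581b0169581ac9895876b9a9584afa6958546249584598895868d8ca8368d90f1a1ae9ed1b68d9e98b52012d1b363a2d1b74182d1b54194d1b6cd1ad1b19c18d1b660a6d1b3fc8cd1b678107e56780ee046780ad6b77f86cf06781c70067806ae46780230d67822a6a44918cf03cf9ccf020ca2cf06b596cf07621acf0539a6cf02fda4cf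03638acf072b12d98627a2d982fd98d981ef0ad986e18cd98741905156cc029666cc08daf3b790d983f38ed983f402d98741a4d983af88d986eea0d982ab1ed986741cd986481ad986e196d981ef14d985d09eec47621686242226ec47621e84776212da176222e707620a8777620c86277088ec443b96ec42ba10ec44578eec478f1aec473c8cb186ce9eb1858c2097162692b1858c04a3258c1e63258c14e7979224b1860a88b186e504eb55da1ceb575aa655875a848af2c714eb575a94ed77961eeb52a81aeb56c812eb558d90eb561da6eb5431a2eb5718a0eb52c70aeb576b8ceb57548c5432a194ea93099aea9754a07c0754a25507549c9d57549a8635fc04ea93180eea92a888ea978794d4674f12d466a322d806a3208786a304b6b6a326a8d6a32443b6a31a3604cc84d4666d88d467878ad465671ed464cf9cd467960cee17960ae5f79622d4a79604c076ad1af2c72f96f2c77094f2c4321283d5be1483d41e94db741ea2d7741e84a125ff8483d769a283d2d51a83d6268883d3290e83d7312483d544a683d5be0a83d6db8c83d0931e83d7709a9ef77090c307708c8594cf88ee17709884a5c112ee142c94ee144c1eee14f722ee13afa4ee152f0a5bb52f0ca2d33810a5e53f12a5e246a6a5e26582a5e2469ca5e0ef88a5e2e006a5e19e20a5e3e1a2a5e7151ea5e2c818a5e5d41aa5e51694a5e2dd96a5e40e9057a7151aa597150eb0a71510b06715209967150ac467150cdf953008e2a67692e2a2ff06e2a2bd1ee2a6fc94e2a62316e2a581a0e2a,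
  nat_lit 0x6730ed1673112ce67171cce66b88ece65e60cce667306d8f67314bcc67318d3c6730c94e4a714ce618304ce62921ece66ff22ce66aba0ce65e524ce627f02ce665192e9537190e953520ee956450ae952958ce9574a88c7477a1ee9534d22e9573c9ce9537104e9529596e9564514e9577c9ae9530698e9535210efe5460c6a43520cc6e637146a46b09a6a41a8986a4352041553522093f35214a8c070926a4535086a44c61c6a45f9a06a4768246a448c866a46c80eb191f38cb1958c863bb58c82d9058ca2dd138798b191dc1cb191f492b1911e22b1966f02b191f396b191afa6b194dd24b194c60ab190ae129240ae106470ae0e3a70ae062d90ae0c2c34910415c1681c15c1619415c493a015c4942215c4929a15c2741815c1662415c3cca615c0118615c39320c816409c51435c16c8163194c8168812c8156b90c8129c08c81492a6c8116618c816318ac8135c0cc814729cecd1db8a8e53728c8e54dd208e547284b7947282eae414108e54d60e8e5415128e54c4248e54b6068e50af088e5778a28e50a79c8e57921a8e50bb188e5372968e51db948e511e0a57411e128b511e1022711e063013e58423c01c9023c2c19823c0ae9c23c1f10623c58d2223c2b28223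c2ba1623c58c1a23c45a2623c1d00a23c1d018bb21de0a3a01d0082cc4e2103a053d0e3a016d923a01dba43a0164043a0677223a00af203a06449e3a0031183a01de143a02ff9e2d916ca0c9f16c8c27f230102d916c905bc16c8a8b445a162d9231842d90251c2d913f942d92b9922d91d2182d9181882d94dd0c940376209404a02498c4a0263014a0149ba4a01a1864a018bde5180294074d04940762929401819c94060c94940184889401799094014d0e94060c8a9407681e9406cb10ed056598ed02ffa2ed0768129ba7680495e76810de47681cd022c306ed030488ed043c04ed066a94ed04b614cd566a9e2fc66aa4c6e66a9873a66a8c96c64c04cd53789ecd519198cd549c12cd549c82cd554706cd56798ecd55a390cd572da0cd549f8aecd6ce9aecd766a079f7669c6097669693f7668ac9864c16ecd68012ecd5e782ecd5e790ecd2be08ecd5330cd235330aa175330eb726e202a6650b96a6669194a6618e9ea6676e1ca6653118a66500a4a661f826a664e308a664a1a02be4a1a27414a19c35f4a19eb1e4a18479f4a19a7c14a198b234a1a63b84a18a2df16f969434a1929434d22694326e109436770694317388943743a6e7465f94e873e726e8774394d1c29692e8729da2e8771620e876ab1ee873609ce8729610e875c006e876b288e8777b82e875b69ae8774818e8765f8ae8768e0ce876be0acaf6d88ccaf6578e70165790b7c69982caf614a2caf65792de465782ec26151ccaf6d896caf6be14caf17320caf5af9acaf17518caf46124caf,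
  nat_lit 0x470082e21701c8e0452948e0518968e064ba08e072da28e055c248e067ba68e077f828e072e0a86472e0ceaf77a0ee5c53792e5c62d02e5c35b26e5c67308e5c75b86e5c465a0e5c27f22e5c75794e5c43216e5c2e518ee477218f0177220a6a77212c6c77204da577210ba37720ece177224e1c7721ea8c37c06ee475608ee45c104ee43c596ee437e0e68562ca26f86e994c5915e9ec593fe9cc593d318c5930982c5937e06c5967b12c5976904c594b00ec593c390c59166a6c59167a2c596e98ac5935b0adcb35b0cc61630946b635b227d435b0eca635b10da7638826b6726926b6071a26b6791846b66e5966b67901a6b667b986b660aa66b6792066b635e0cce235e180e435e20de335e0e9e01068e6bc6b9126bc4a2026bc793046bc641866bc4f2886bc4f9206bc7731e6bc67c986bc671146bc3840accb66290ccb66590c0b6659ec1566588e7966586bb356e12ccb38414ccb39484ccb75a1eccb77020ccb5d726ccb17c82ccb53096ef23590aef266b9eef277908cef77922eb27791e77977910b9a77924d547790aa6159a84ef26be92ef235914ef27189aef26f718ef2305a4ef268d88ef23092069c34e161e634e1493c34e1a29434e18ec877fa269c3ac1269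c14b0269c7360469c3638869c29d9069c3eb0e69c3082469c532a669c0f30a69c49e0c69c65a1e69c0701c69c4a80a9304af8c93049802ddb387909303df8e9300b5829303fc88930372869304c7a29300af1c9304c81893075a9a9304a8149304af969305f38e2f95f38a3045f38c4195f39028a66282be714686be7532a0be716192be720c94be718216be76311abe753318be777fa4be716126be753988be73e61ec4c770a4c4c6261652d62622e80626208ce6261acc7626188d16260c52d45a84c4c15c90c4c42206c4c59b88c4c13120b9078f9ab9054098b9063f94b905c810ac15c80edb85c8246945c82664e5c80cc7f5c81e91d5c81c2e158906b9034e88b904dc16b904950e8444c39492a4951e68b4951457549522b123499a92a4dd1e92a1ff9892a34e9292a34a8292a41e8e92a1dc2692a4732492a0aea292a4c38a92a2ba8c92a4989cebd46018ebd75ea260b75e9495875e985586be94ebd5f582ebd77592ebd66886ebd4958eebd32890ebd35224ebd4c5a2ebd6be8aebd4ac0cebd20098cf267902e7267904d6a67912cf26790ef0967910ec567926a6a6790a30d48f08cf270e20cf24599ecf218696cf2539a2cf22859acf23fca6cf26458c98f72a10c8b6be86c8b35608c8b6459089d645a2a8c6459e8b46459698f6459a5d86458a60d30696c8b420a2c8b168a6c8b5c182c8b6ed8c8455270cddb6ed86ad632190ddb3e012ddb43c24ddb3ae04ddb21da0ddb63d86ddb395a2ddb6921eddb6419cddb6c89addb2b898ddb52716ddb42294ddb,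
  nat_lit 0x62a96c8616694c8649f82c8665b88c867798ec8663424c8641526c8662a8cc863e00e6b942c906b90720c6b935c823e0384186b96f3206b93b5066b944b926b9220226b93e1026b9072166b94f51a6b974fa66b96288a6b96288cac06fa90c516f98ec5179212c5143502c5171824c5155904c516fe88c5137ea2c51747a0c516871ec513119cc513c39ac5115d18c5156014c511fb1e53729b86dcc29b96b3a29b94e9f43d925374f82253774ba05376041c5370520e53709b1053774d02537503a653731f9a5376299853759d0a53774f8c537631965367189453661f1253653ca05361fb9c53609b0e53605210536656065366c60853674d8253650326536592245365931a53648e985367188a5366318c53642d8e27742d8ac9642d8ce6242da27533961285b0961e85b4fe1c85b1370e85b2de8885b54b8485b21f2485b6dba685b64b1685b7311485b2e91a85b45b1885b33a0e98c33a0ad7f33a0c38833a18b1733a1cdf706d926745bd2267458aa06744789c67439e8e6745b7886744790667445a046745bca46745a7266746bf966741c4146746b31867443c0acac6561687865622d0a6561ac996f01ecac65612cd66561086a6f982cac6dfa2cac7249acac52726ca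c46424cac17306cac36a0a13636a0ce793eb906d43e78e6d46b5046d4374266d475a086d4656866d45e4a06d4279a26d40731c6d417d186d427b9a6d473c946d409b166d46688a2fa0268c2fa17d1219617d04add17d226ef17d1c2d717d1e0eb17d1a06117d1404d17d16cd1669242fa074262fa618042fa347902fa34f062fa0c7188e7473a214f47384ee1473966c60de908452bb168e76b3a28e75f6048e75c7128e71458e8e74a3a48e7495a68e73630a8e72bb0c8e758d1e8e73ac1c8e75f60cd786bc0ebfa6bc10cbd6bc02d894de82d781da88d785f616d786389cd78370a0d7834ca2d7856198d7862ba4d78314a6d786bd06d7857d0cb1357d02e5f57d04eef40b12afa66708afa58994afa229a0afa35322afa22a98afa64aa4afa31726afa49b86afa1148aaf81149c9271148c2c101b0e2291db92229576822295758422957e242291f78622933f882293fd2222957c9a22951a1822957c16229160942296cd0ea3343590a336338aa331700ca337749aa335199e62e51982e79519882e916f92a3363394a3354908a3317016a334e9a2a3362ca6a3348502a334900acde49012cc86ed909207348e920387849202ac82920680269204d206920307a29200ad9c9201761e9204d0989201e21a92066f169206340abf86340cc5963410dfb6e590c6816112c6862c94c6856984c684c782c6817508c6817606c6860da2c686241cc6867b9ec6823d98c685fc16c6826d988e0659128e00a70e8e0230908e04528a8e05188c8e0470063c047002eb64701ccf9,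
  nat_lit 0x4b9a65d36300897350e189732a91c9736a01297362fa29733929e97321d1a9730b9269736b78a97368a92d6f3048ed6f6ba8ad6f6b78639e6b798ae91d804d6f6ba94d6f6cb06d6f66da2d6f430a0d6f6e59ed6f4411cd6f52018d6f1ee8696e0b90c96e4b7141724b70217830a8296e3e8a096e3f81296e69e9e96e76d1c96e6509896e3faa696e5940e43b5d89ce5a79012bb121d86bb13939abb17158abb156b0cbb15d882ae05d88eddd6c88ebb166da4bb113d22bb178c9cbb12cf18bb156b16bb171594bb16e18ad056f31ad0568292650682a6eae682a2de0682a07086829eeb06829cae56829a93c68296dc33e5a6d0545d82d051c690d0521988d055da22dae6d7246646d70e7456d7105806d70699e6d71a7796d70c8583a484dae3faa0dae79912dae6c49cdae20202dae42c14dae62f8cdae62f8a3e562512c5f53604c5f5dc9ec5f56c9cc5f5350ec5f16008c5f74a86c5f56b24c5f1f296c5f5b29ac5f5d398c5f78e8a6a347e0c6a36ee926a37841e6a3351a0bc5351846cb351a2c1335198e323519ad9f351948fc35196f1d753246a30a8906a3072066a36d4886a30a88e6a2770a26a235112c0b35124e803511abcb35118281785826a25e6246a2071866a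2402944f26291c4f204e924f219a224f2720204f271f9e4f228aa64f263a244f26871a4f2634984f24028a4f22a088c222a0906f466a22541437085412a0a27cb2a0962ba5d716541052925416309c54157a825413842454174f9a5416389854115d0a5415d70c5413650e2c055f102c06300a2c0160062ca434202c06311e2c0023982c016020c634cf1c2c0630142c06041a2c0396a42c06308c2c076f8e5bb76f8cf2676f905e56c612edf44884edf35e82edf47f9cedf552a6edf2de86edf72520edf720a2edf35c9eedf63098edf38c1aedf79314edf6328cc726328a6f9632842ca2bb20c6563292c6537c96c6563914c651609ec656349cc652cd18c656d2a6c6566008c6548c8c8bb3f41a8bb45d92d0245da292d45d9c2d145d9e2be45d9a13f45d9491945a248bb4c4268bb75f028bb4790e8bb4c6088bb0b3068bb78e8ebf95ff04f1d78ea289d78e92c2278e84abd78e8cc0860414f1d3a9a2f1d5b01af1d75798f1d78124f1d36006f1d5c41eece7180aece3610cece76706f1269d90ece6630eece43c12ece58e82ece69e84ece79da4ece2c086ece6f2a2ece6b020ece5ea1aece67118ece36116ece71814ece6420e4ce642104bc6420ad786420c9b66d804c8441186c84797a0c841db12c846bc16c844db14c845f39cc8463a1ac844d118c8437e24c84634a6c8416688c8467da293718b18cfb67da0cb567d92bf167d9053d67d8e54267da4cfe67da6ca767d9eb2f67d9cb121f306cfb34684cfb38b16cfb6430c2cd643226db64320c2764b92c86,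
  nat_lit 0x44b867b969a267b9088087b9449967b96c5226c41329c6c46ba826c441a0a6c4362020e56c70e6c441a146c4573206c4782126c47549e6c41d81a6c4480a46c44420c6c45841686a58420e785840eed258404b2858408d815840a9925840c86a3c384b085bf9cb0827812b084c916b087489eb0811898b083229ab0846126b086a7a4b0844b08b086c90cbed72ea6d926c91ecd66c910d776c9083dc6c91891478082d9278792d925f694d9273508d926bd04d926eb1ed926afa2d9228920d9270ca4d926d10eaf07058eda26d112e8a6d10c3ea1f514da21f784da270688da270d06da2494a0da26ada2da25d09cda24b89eda249598da264204eb875c04f2c75c0ea2975c10d1f57288eb82ab1ceb8471a0eb84b822eb870c9aeb847398eb8658a4eb865106eb879220cba43b16cba65d16d9665d1aef165d18dd64b9a2cba72492cba2bc02cba3cc84cba6e588cba3cb90cba1760ecba63f24cba4b8a6cba6cb0acba43b0ccba6741ecba63f0e5e975ba0c7e3db14c7e7991ac7e63f205d363f12e6763f1034463f26cd963f0c7b663f1ecb163f1c86029286c7e43208c7e16604c7e64716c7e6471441b6471acb864718e9b647266ce4201ec8e16906c8e54492c8e64084c8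e3dd82c8e5ab90c8e43b26c8e4b7a2c8e6e320c8e20d8cc8e75d14c4f5d70aeba6278ceba75d0264d75d0e6cf75d0486d31b0eeba5d714eba2ac08eba6db20eba6de9eeba4321ceba34c1aeba5de18eba6a68aadb56d826f156d9030b56d8e2a156d8af3535a06adb3e512adb79a96adb6a694adb28a9cadb63298adb71fa4adb44d26adb44f88adb77b0af3a77b0cd8377b1061830810ef66481cef65b51aef677b1cd1277b2680677b22e9e69618ef672e02ef636d84ef662686ef640422ef679d16ef638488ef66c194ef67689a6a66c616ed174924ed176898ed9768a087b768926c2768905867688e8b7768a46a57688ad8c7689eaea53c86ed16cb08ed13af14ed179b888766e59cf375f692f373e502f375ab9ef373d598f377179af3769fa6f3775a88f3737b9ac3461a126fe61a20d8f61a2255261a1aca657096c343f794c3478b82c3415684c3450a88c3470d90c3465b8ec3456ca4c343a426c343f78ac345708cc346569cc34787a0efa43022efa77d126fb77d1861577d0473577d10c8677d0eb6d77d24d9d77d26c8a77d1ef2477d1ce7172006efa4b784efa6cf14efa50e0ac851668cc8565c20c85642926126428ef2064290de364286d09642a4c66642942cd6429a2f76cf02c8579786c8566884c856581cc853941ec8550e14c85218a2c856e9a4c8564f226ce64f1ef307748cc9e64f0866443290c9e43388c9e16c84c9e6e998c9e5e992c9e419a2c9e77496c9e6b31ac9e4b7a6c9e4cf24c9e4b98ac9e4b9845cc4b9823a44b988c014b990811,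
  nat_lit 0x4a6209ae4a604ddd4a6102604a624aea4a626cb64a60adb54a61e51469e8694c74c8894c0b60494c0b29494c30a9ee867430465f74302e8b7430eda674310dee74322d376ff88e8658c18e8647a1ce8663112e866a722e8631c1ae8677e26e8644224e8628c0ae8628c1243c28c0c3b1743905186640451836224518726885186f7a2518707205180501c51814b1a5181d89451877e169830bc1a9834c1962994c192ea04c19e51b4c19ce884c18e4c54c1904b94c186e494c188dd54c18aefc4c18c2993018498340fa29835942098329fa69834c50a7e84c50c3b92f80e98a78b9298a2fd8498a6fe0698a1eea298a4f2a098a6cf1e98a28b1c98a0bc9898a3f41698a1dc9498a43f90b6843f8e7fd43f84af943f88eb943f9a3b743f9853f43f8aeb75398487f75b9687f5d9a087f0999c87f6a49287f430a287f1ef9e87f5d92687f4eb0a87f4eb1080d4eb0e9a24eb08e9a0f5849d60cc9c9d65631e9d66fd229d6592929d651a029d61dca49d61de189d614c9a9d62a1269d6409889d666490d7f60c98cc96649c6b76648ecc06649854d6648abb46648c41817a04cc92199ccc944ca6cc95da16cc960ba0cc95ab08cc920c14cc972114d956ca985456caa6dfa6caa254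276d08d951ee96d9538684d9578a82d9561190d953c68ed953eb26d957210ad951ee8cd954249ed954ec1cd9565a8ee42774a2e427211263636b1ce4237420e42721184fa72104f2f7210eaba72124ead721264f37211cda467606e4279288e426a004e4271b94e424b88ae3734d98e3743b24e3771ba2aeb71b969713ae92e3728606e373959ee3758c8ee3733d90e3769f88e3733d82e3778da6e37630866af071966af35796aa23579e2ca357908fe66f046af6a01a6af66f106af640a66af717246af6efa26af1b8a06af5510a6af0718c6af75194f3f79790ea34928aea379f8cea375186de375184aba42c1cea349294ea355a20ea36b11aea335c24ea329c26ea355d96de555da2f085e618abb55d82c2255d8478d55d90f1555da6ceb55d8a37255d8cde573586abb5e99eabb1b916abb42ba2abb1041aabb140a6abb6b10ab217208ad626b11ed736b122ea66b10e37a6b1103c96b124bc56b116e4127a02d6244e12d6259096d627859ad623858acc372b0ccc366188eb36619c84a66194e566619670b6129acc337484cc346822cc379a0abb55da886c45da8676a5da9e6655da90d335daa4e4d5da9ad175be02bb513d84bb542da0bb51e212bb544ea2bb52951ebb579a14bb55ff9abb5435a4bb54680cbb54681c1484680ee2e7178e8d01c3048d01ac828d01df9a8d069d188d02a31c8d06c5068d02a1a48d0685a28d06c3888d036b207b944d0a7b94498c7b93dc8e18c3dc9010c3dc82c4c3dca6f353dc9689a3dc9a6f95e7027b93f81a7b963ba27b9,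
  nat_lit 0x77f1eee730c02ee76c896ee730aa6ee72eb1aee768c24ee77540aee775410c6b754168ca78782ea843c92ea862a84ea85a410ea84650aea875406b8c29f9cea86cf18ea872b20ea84cc22ea84cc9aea874424ea83ad86ea83ad123e03ad1cd453ad0ae683ad0c1483ad0e83a3330e75a6538475a6828275a6288875a07d8675a72ca075a3b52275a74b1875a3b61a75a0a41475a7341675a5420aefe54222d2e5421ad9a67d14a8454212e9a542101ec5420e1f55420ccfa1c106a8475702a8467d84a8477f16a844fba2a844829aa846b626a844eaa4a846fb12c616fb0c8d044a88df66fb0e46b2940edf652004df66b220df62c5a2df628c1cdf676b82df646814df64c21adf66e518df6754a4df674426df67330cdf660f02e6679a0ce6673302d6f68c26e666f788e666e120e665bf22e662821ee667109ae6679a16e666598c2e979b0ccb34ee10cb365990a086599e30465988c6d4b212cb317494cb337c9ecb379b16cb365da2cb341120cb362ba6cb335524cb331d02cb34899a680489904824898e4364898abd64898ccfd483929135b7869130ac0891321c049136aa9c9136039e91367e949135eb16913337209135dd229133bb249135b8a69131580291377d8aed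377d8cea977d8eea479d0eefb6c508efb77d926d46ce98efb60084efb77e1cefb76996efb75494efb764a0efb567a2efb30c9aefb30aa4efb39386efb73898e68734225056ca92e686d416e68537a2e685389ae6878682e6865684e6868708e6860a10e686750ee68736a4e6828226e686d40ce6837b1015737b0ad3437b0c97049e846f660b826f642c066f635f126f669a166f64b8146f64cf1e6f663d9c6f6589986f644d246f6798266f6450086f610d9a69f56ba221b56c2421b10d98ad410d92ad310d8468010d909dd10d8e03510da4ad910d9ead510d9cad64228621b4a10421b1bf1621b2d48c8a02d49a30c2d494eb82d4a25161c1125a976d225a928d1a5a9450145a94d5825a94d1045a9682885a90f5905a905b8e5a944e245a91f5265a975c0c5a94309e5a93b28e8a13b28a8bc3b28c7273b290e833b29a3f778d0276548b847657298676507da07653579276545e16765393947651201e76556a1c7652261a7654782476568aa67656f50e6b16f50aa526f50c57979b8edea6f50471f6f522da128892dea62284dea2bc94dea52916dea41e9edea7351cdea2229adea5e198dea5d024dea750a6dea58d88dea71c8a50e71c8c88457c02e3975384e39569a4e3929a08e3979a1ee393281ce392b69ae3957598e3928716e3944214e3939a8ed994c290d9933a8cd996cc8666b6cc827396cca2ea16cc84c8664198d992839cd991ef12d9950522d997111ed9933a96d993c49ad99651a6d997430ad994a6186d82b91894c7491e94c6da9694c4a612b1b,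
  nat_lit 0x705a697c25ca497c2608a97c260906b22608c4ad2608e6bd702a04c125c1c4c1047a44c12609c4b92dd824c1511864c104b1a4c16fc844c1580084c16c3264c1256944c176ea2a2474e9eedd74e8cedd76e825b076e90c3366710edd58082edd74e96edd5801aedd70c24edd70a8aedd70a8cd853011ee156c294e1570a848a870a828a973390e156a30ee155bb18e1570c06e152599ae1570c16a246c2a0a246c29ca2470c0ca24512021bc512184bc45502a244b810a2476a86a2476aa0e175bb12ed576a845903e70eed530124ed54c084ed574e86ed57011aed525b9ae1868f82e1830404e1872590e187960ee1832a8c65432a1237532a221b432a1c42b32a1e1a932a180d632a1a65832a146552cfa4654320026540ea8465448d8e654533886540ed066545bb9ee1770b92d2670ba6e9d70b984b645302e172f104e1741210e1768f06e17762209a820c989a84d414c53311229a85601a9a879b949a86e39e9a80c2829a8693849a8796089a8627a49a879b8a9a86298c9a853c9c9a83950c39e395228763950ed1e4228272a1d00472a66d8672a7999272a1cf1472a0791e72a56d9c72a3ae1a72a6331872a4b7a472a56b0a9b13888c9b14d892de54d88ed5f4d890ae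14d886c530c4029b152c049b1388969b15709c9b156b149b1794a29b17741a9b11f4189b1439a49b11f2a69b1395869b16ee0a95174aa2ddc6ee04e9e47a90ddc3560eddc73212ddc48504ddc21da4ddc72a06ddc6d708ddc55120ddc41d9eddc6111cddc7311addc68498ddc4a896ddc2d598b0c631a0b0c58612add58614d0a5861883d57602b0c57684b0c33208b0c24810b0c1190eb0c546a6b0c6850cb0c6151eb0c7949cb0c795a0e9679594f016e112f2b6750af2b7808cf2b79582da243310f2b5808ef2b61982f2b72a24f2b43386f2b4389ef2b6b09cf2b72c9af2b68118f2b67514f2b6128e6c8072906c83af8a6c83641ac9336406a8d6df126c8627866c82ac1c6c80981e6c83af946c8796266c85c5826c863a8a83163a9c41c63a8c84a42514c7516512c7559620c752a81cc756ac10c756ad0ec7559d08c7541a86c7544f84c7572ca4c756ad26c7541896c753279ac756c61c90e3321690e1651490e4871c5386b99a90e60d1890e6ac9290e56d8490e0ab8290e6318690e60b8e90e5aa1090e60ba690e42c2490e6baa090e1650a90e3320c90e0a28e7646c50a7645050c76407da27643b2128b63b208acf3b20e1c93b202a613b216d8a57282764505167644211e76466c987645831a76479926764582247640a4087646f39eb9a6f384e456f38ec316f38ae4c6f38c53f22088de76b986de772616de729f94de72bca0de745d1ade73f418de777e24de773e26de772e0eee75e410ee76c88cee777386d16773a2b7c64518ee74421cee766c22ee7,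
  nat_lit 0x67c06c943ca92cf847114cf86651ecf845916cf849ea2cf818a20cf8762a6cf877524cf85cf82cf85c90c2b93de04b925c9128f25c9202635c922c355c91c63f5c91e5655c9162b95c91af265c918a955c90ab605b016b92326a4b9256090b9258706b9247788b923be9417715f9277d0de2077d0889077d09d9e77d4559c77d0d38e77d0810877d4552677d4542477d54e1a77d3109877d0bb8c77d5080e6053028e8d310b8860530296d280e09660540b926052d186605455226050dfa06054549e6050de1c60552d02605454a66050de246050649a6051a1986056940a6050e08c60525c0ce123c20ee1270912e127090897c7091eb00709184b07090cb0058014e1250788e127029ee1225c16e12256a2e124dfa0e1270526e126d924e1270c14eed776a0b777768eac977688e1e7768ab777768ce184e684eed70c1ceed69402eed5bb96eed57f9eeed74ea6eed54da4eed30108eed4bd9099652d0897b4bda2e154bd9ea2452c9097b4bd88a9b4bd8ae170bb8497b70b9e97b52c8297b70b9697b4df9a97b3012697b76ea497b4510a97b4510e91d4511063f7100a8a245116e20301228a225ea08a2339888a209d828a276a9e8a24bf848a225c9a8a252d268a270aa48a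276e868a225e8caff0479a4bd52d0c4bd25e94a5a25e8ec2d66d8e4bd1a1844bd339a64bd68f084bd70a864bd70fa04bd70f1c4bd57f944bd70a9ee207101ee1f710025bb71008a247100e89171022b7757f88e2070aa2e2071502e206c2a4e2070f0ae2070b94e1e4fa0ee1e70f12ede70f22e1770f0e68670f0ce1758104e1e57fa6e1e339a2e1e7029ae1e70fa4e1e6c286e1e54d8e5e354d8ad1e54d8ced50fb84a9b5d402a9b70f86a9b76ea0a9b68f22a9b76a9ca9b6d91aa9b76a94a9b68f16a9b3010aeee57fa2eee7771e60270c20eee70ba4eee777046217770eafa77706edd77708b7757a0eeee30304eee70f9eeee30114eee5119aeee57f8ceee5e890aff57f84a9c57f90e3974e88aff11704aff765a2aff25f1aaff68f26aff339900db3398ae093398cd1e0b01067352f02673623046735bb8867352d2267352d1e6732609a6737049667368f1467352d0e1dc4f210ecb7659ed1e765909f87658457a76586e1f7658aa247658cb7751384ecb51216ecb5bb94ecb704a2ecb6c31aecb6c2a6ecb52d06ecb76a8ce09704a4a24704824a0704848ab7049060e7048860270486d8530b10e0970c22e0976e9ee097059ae0976a96e0952d1ce1852d20ed53ec0ea5a4be1aa5a3010ca5a4df8ae0a79f8e9bf7a0109bf4df9e4b34df86e05259a09bf6c3069bf25c129bf7051e9bf581029bf705169bf2519a9bf254269bf580249bf4be0a9bf4ca9097c4be1017725f0697c4be02996260a097c6c31c97c5079297c7012297c7011e97c0bb8297c2551a97c,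
  nat_lit 0x71b1c53571b168d271b188ae71b0a50428216e3636712e363ad24e364eaa6e3667f04e366fa82e3643510e363b306e3629b88e3671ca04ef2779c8752779409d582144ef297924ef71d224ef6560e4ef1bb064ef052084ef39e824ef505264ef5caa44ef3461a4ef71b984ef5820a4ef04e8c4ef42c8e6b03e0106b03849a6b05920c6b035802440358223e0305986b06d71c6b04a8866b03e7126b02ac226b034d826b0592166b0718a66b072d246b00718a6b02910ae4f2c78ce4f727927b67278eb1872790b1b727864f8727a6de62ba02e4f74fa2e4f7259ce4f42f20e4f29504e4f2c796e4f29114e4f3c81ae4f3e598e4f61e26e4f35886e4f4f312f1b4f3065f44f30a53c278049e639da09e678ba29e62879e9e629e169e639e9a9e64e7a69e675b249e66978a9e66b510d2f69786b3569790d09697a6f3a78482d2f2911cd2f78620d2f3eb84d2f3dd9ad2f78aa6d2f79006d2f56f0ec8156f2250727a96ade2b79aade44d92ade72e94ade28002ade5ab84ade75088ade5b10eade5a526ade72e8aade27a8cade4ce1eade2340cbf25f90cf2079014bf23e020bf2289a4bf25f91868a5f91a8645f91eae95f91c6485f920b215f9144681f292bf25e226bf214884bf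25e382bf255d86bf26669273f6669c9a4666962f958496ccd47222ccd5a6a0ccd7721cccd1e88eccd1ba90ccd17e86ccd60c82ccd373a6ccd58f24ccd74d1accd59018ccd17c8accd5848cccd36194b623618ce9f74f946c37161e6c361f9a6c3665986c3499126c37531c6c35e2046c3717866c35e48e6c36c3906c3784266c3072246c3675a26c32dea06c35b10c6c376f8ae7e73f0a513444a2e7e28996e7e73f266a373f22c4d73f1cbc773f1ae5c73f188fa73f16edf79026e7e2a984e7e67c82e7e39390e7e79d08e7e5399ea777789ca774239aa775720aa776020ca7753b828e653b84ed153b9a1e753b8841953b96ae453b94c0434d92a773cfa4a77420a6a776e990a771ae08a7773f9ce5473f9251373f8c6b743184e7f45b82e7f6b0a6e7f76818e7f75020e7f6e822e7f4f29ce7f6f99ae7f35b94e7f4bf109954ca8297e0bb9097e2660c97e4bf06df0708a097e2629297e52c8497e7089c97e2661697e2662297e24a9897e262a497e5782697e2648697e048124c7263a2af02638eddf2639a4d42da824c7265164c7264a24c7578144c7246844c76c98e4c7266244c7507264c75780a4c72650c4c725a1e4c72648aaab2620caab70a22aab555924a9555884c57248eaab10202aab45584aab60ea4aab26320aab2621eaab2651caab24e98aab26216aab26494aab70a16df026314df06f812df025a20df070a1edf07081cdf03c210df050708df022c82df0254a6df025198df02630adf070a0cdf04710acf84590ccf872d9ccf867c10be867c088e7]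
noncomputable def A_2 : List (ℕ) := [nat_lit 0x6d9884126d99270f6d98eced6d990c1c6d98aa7a6d98cd2252788db35321edb369004db353d16db322ca2db345520db33f8a6db351182db32e18a4854540c485242885c84d8104854160e48551a12485701024855bb04485042884851a122485694204850c79c48551498485454164852e1944850c78a77d0c78c9c10c78e9c34e10e18f4df8218f4cb1818f3f89a18f4e00418f4e21c18f4e22618f112a218f1130818f4532018f3be9618f4e09418f25818e0c6f820e0c70612e1170606e1070610f407060ef3f7060a97e7060c4a926386e0c2549ce0c2571ee0c25494e0c4bf16e0c25722e0c70a24e0c6bb26e0c51782e0c79f10a5979f0e99679f06a5b79f0cdf84ca84f3e77692f3e709a2f3e6fc1cf3e6901ef3e4cb02f3e6fc14f3e7769af3e577a4f3e69326f3e7128cf3e7129091d7128e63f7128667255784e2526422e253f882e2557786e252641ee2570a92e2569320e2570f9ae2526298e25709a4e2552da6e257148ce25709a0e294e00ce29714949c04488ee2968f12e296fc82e292f284e297099ce2976f24e2969006e295bb22e297141ee297101ae2926598e292641a0904e01e4c8264021c326408e132640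ecdb26410c2d514084c870f924c8714224c825a824c825e9a4c8339264c852d8a4c852d8cd2652d8e7d80ee0ea5b22c84a5b4bf18a5b70f1aa5b3391ea5b7121ca5b55526a5b33922a5b71308a5b69314a5b69020ede6900e7046900ce2419e84d204b80ed20577a0d2045112d2076f1ed2071214d2068f1ad2026718d2055524d20709a6d207130cd205551ce264fc10e265bb0ce2671314b7671326672713109e471306e284bb82e265bb92e2655520e2651e04e267659ae2626398e2676f26e2679610e24577a6e2471210e4b71208df871202d2251482e2474e92e247771ae2426218e2470988e245551aaf055508d265551eaef5551467257f9aaaa51212aaa10204aaa30b0eaaa30710aaa3390caaa3391a4cc4e022672516826723391867333912aff3390e0db339101605bb08672515046725141667226318a285141ce0f51424b765121aa284bd92a280de84a284e202a283918ea2839510a2876f20a2826198df86fc12e206fc229c06fc1eb766fc108246fc044726fc0e9a86fc26e0f6fc18ed52e184df84e014df84e010686301129c076f069c04fa109c0714249c052d1a9c0708189c071416ede71412edd71420e0f7140eb74714048a371426b767141a4ca714188a27140cede51704e2870796e287079caef707a0d2657796e0f76592e0f29a10e0f3f282e0f3011ae0f25498e0f5778ce0f70a18aef57792eee57790cce5778ec335778486657798a9b11284aef70996aef76f16e1370492e136931ce137338ee136a310e1353202e135bb9ae1325718e1376f0ce134690ae3671b20d4971b22c75,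
  nat_lit 0x52998d845298cc3624910a530ea8ea5369b92a5348d84a5331e82a5331908a5356c06a53792a2a531ef1ca5344e1ea5361b14a530d28c1ca06b8a1ca0e50ea481121e1ca40d241ca0e51a02d0e5189e30e5201cf0e5160d70e5141a522e121ca2cfa61ca524041ca40e861ca4ff0a20f4ff0c1ce4ff101d84ff1ca9a4ff241a8683929fe11a069fe52e229fe3d2089fe32a209fe0d59c9fe0ec049fe0e3a49fe107969fe0e7149fe32a9a9fe523989fe2928e1b70dba01cd0db9e02b0db8e8950db865e90db8ca1d244841b7294061b717c121b74f2201b74699e1b70c2021b750e941b72461a1b72b3981b732ca41b70e5a61b732a0c1b7399108b33990e56d3990a7343990c1cb0b506732399180f339914734540927320e5947322f7087323999e7323c2847320d422732506a073240d2673232a247323c1827320a3088c34618e6324618c20f243048c32838e8c30ea868c359e128c30d5208c30a2a28c31169c8c32b21e8c3284828c3107948c33ef1a8c33f0188c33eea48c36c4268c30db0c8c30db0ea1c0db0a1ce0db10a1b0ed021b6119841b64ed201b64e5921b60e7161b60159e1b62461c1b606b9a1b60da981b60e3241b63dd261b6233881b6119183c81e41468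31e42478411f943c80fc1e3c851a9a3c8033923c82451c3c832b843c8520823c84c0863c83a00e3c831c103c8249223c8113a03c811f8a3c83418c3c8713a0f1460e98f146930cf1478a14d2678a18e1878a20e2478a1267378a1cd2678a04d2178a10afa78a0eaf478a24ee278a26df878a1ee285bb06f1457788f1469284f1471394f145e88ee27713a69c026414e277049ae2726498e2770c12e273391ce2745f84e2770182e2771486e2771c90e2751426e2771320e272640ae276fc20f3970898f3969324f3979c94aaa79c98e1779ca0a5b79c92a9b79c847c379c8e7ce79ca4e2479c8aaaa79c9eee279c9ce2570786f3969008f3955704f3977114f3977116a286c292ee2577a2ee251420ee24e01cee22f18eee271406ee279f08ee255682ee276e9aee255598ee25140aee2701a0d227018648b70190ea77018ca2b2f006e0354312e03310a0e032429ce034519ee0358002e0351594e033ed9ae0370b18e03451a4e03242a6e034558ce03453a25b04e68c8a753d1e8a7453909c3453885ed4e1108a770f048a70b5088a709d988a73039c8a723e928a7239228a7706028a74e6968a752c9a8a753d268a7303a48a73ed8a8a73ed8c9950d3907db0888e7db3ba127db709027db532247db52d847db3f89c7db3bf887db19ea27db3bea07db6909a7db4ca947db67f8ace367f8cc2318d90cff67206cff67f9038b67f9eab875912cff61194cff45a88cff75304cff6201ecff67196cff71a22cff66420cff67ca6cff55aa4cff1b102cff69114db36d998a3d,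
  nat_lit 0x3e7026de2869a6de6da866de696a26de6b8a06de7730ce3e69b0ee3e69810e3e2790ae3e71f026a571f08d5371f164f257522e3e71c92e3e40802e3e77316e3e69a1ee3e6bc18e3e6169ae3e2a626e3e6a824e3e30608e3e73808d2d69690bb56968ee946968abfe79904d2d37098d2d6fa9cd2d38492d2d36b1ed2d49382d2d5ff16d2d4e79ad2d5c2a6d2d62b24d2d1a48ad2d6981e3496960a3491a48684502b903490620e349697123496961434963f043495b0023496992634943e8634963da234943b9c3493de183496979a34946290146462a2c2962b168c55c0128c56e19c8c5657228c53cd108c5319068c5323028c52bc248c579d1a8c565a188c562b0c8c578d96843421968611cf228435821a8430ae04843382128436d0088432e8108431a80e8434b8a484366ca68434308a84378d8c8430939e8437829c8437829a8b531920f0578292d2f78298e5d78296c9d7828ef33782a6da27828cc9d7829eec76ef06f0562b08f0537e04f0569816f056981487c4ad02d3043b1ed305a51ad305b292d3063d84d3043c86d3044d22d30355a0d3043e0cd3057f0cc5664810c5621d8ec5662b042bd62b1e52e62b02b0462b14afe24092c5644d9ec564f31ac5615d98c5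6706a4c566ee88c566a80cc7432902d5075b90d505090ed504cc12d5074904d5077a08d501b786d504a622d502a09cd503dc9ed5062b98d5078b9ad5063a14d5078b0cc7b78b10d0778b0ed2334082f1663e84f166a906f16706a0f167a012f1663d94f1679a9ef163841cf163401af1665998f1669208f165458c6195458a78e62f8ea8b77c98a8b3cc1aa8b5cc04a8b3629ea8b2c29ca8b37186a8b5eca6a8b30a24a8b772a2a8b6f5a0a8b3c716a8b55f08a8b30c94a8b485a2bb7485a01564859ad336141690b2029a90b1571290b14d9490b3910290b4e70490b1268890b4ce1090b6be0e90b120a490b4cba690b14d8a90b6140c90b39a9e90b1339c90b30a225fa30a2095c6c89861430a0494f30a1858730a1225730a160cb30a10d6f30a0ed0c30a26e4e30a0c0cb30a1e68e30a1cef75a786614476886143cd966144cb9ab86314209974cb983a24cba02664cb92a714cb96ae74cb8424d4cb901c84cb8e7a64cba4b4c4cb8cae74cb9e4034cb9c4620bf86997428089974388499747c96997389168f947c9047020c908f9700888f947aa28f90a9868f95429e8f95c8028f9614248f90c61a8f91a5188f93890c8f97378c6c87379483b73790af27378eaf97378a83b68904e6f3fe82e6f39086e6f61612e6f36414e6f74d1ee6f7879ce6f4019ae6f70e18e6f780a4e6f72fa6e6f6c088e6f76386b183588eec779b90ec72bc0cec776382ef138018ec75e8a0ec74221cec734986ec742e92ec76e3a2ec739302ec72bc16ec766b1aec75d0a4ec75298aec7,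
  nat_lit 0x5c1168e956fa28e9328208e956f268e90a8028e975e0a6d675e0ceb875e12df175e0ede62ac0eebc47582ebc54024ebc63a04ebc36786ebc43e08ebc71fa2ebc43ca0ebc3671eebc2bc1cebc64a18ebc36b16ebc75c14ebc73da251173d9a5765ed02e7b64916e7b56da2e7b56f1ae7b6d114e7b28a84e7b67608e7b6b710e7b68d8ee7b69826e7b6d10ae7b6490ce7b6471ee7b4629ce7b54022c8f64792c3c64790ef26478ebbb6479a91a6478a2d26478c63228d84c8f70d20c8f31914c8f5759ec8f16916c8f3319ac8f43ca6c8f367a4c8f79286c8f29a92d9c75c8ad9c6ce26e786ce063df6188ed9c6ba06d9c46120d9c2bc22d9c67b02d9c75c94d9c3f49ad9c2be18d9c614a6d9c36f0cd9c1a70c34e6510e34e2d29834e5d20434e3151e34e05c9c34e066a234e02ba034e2ed0634e5148834e1a71434e3698cc2929c8c6d33698e2e936988f2d6f68e6d3563926d373a026d336f246d35c1846d36cd086d35c2a26d34c9206d30731e6d36f01c6d35c01a6d3169986d329c966d3614946d374a08c916488ed8e6488a9d061284c911ae18c916e220c912979cc9176492c91572a2c911691ec915e982c914e816c9129a1ac9129626c916988ac915898ed3169882cc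369886dca58790d3135618d316c6a0d3177a1cd3179406d315e292d311a4a2d312889ed316a382d317861ad316b6a6d31614a4d315e88ad316ab8ae8c69f8ce8c28e10e8c2900ee8c74604cd074606bde52912e8c745a0e8c74022e8c31184e8c72e1ce8c69f96e8c6ab94e8c3611ae8c67f98e8c35e26e8c57586e8c17722a9e05b962ee2a1842ee116122ee4c8142ee026022ee533082ee5c3902ee65f242ee0f6a62ee4c80a2ee05b8c2ee65e9e2ee0c61c2ee794228917941af3668996f2835f9af2842f12f286a814f2864a02f2875984f2838910f2877326f286a80af286898cf284099ef2857594ce067008ad56700e8fd670103046700a9d66700caeb34484ce02861cce03e822ce038292ce027c02ce04eb16ce068b9ece03cb18ce033a9ace06e026ce03ca24ce04fb22c811f1189f639d169f64fb16d464fb2052b4fb26ddf21f1a9f673f129f6243829f6502849f6750089f60d2909f61b48e9f645b269f66a30a9f639d0c9f642c9e9f61b79c9f62d78c5202d78eedc76d8e5af05c025af2d79a5af097045af6951e5af209085af197065af290145af554143cd1e694bcd428123cd545223cd1219e3cd3da1c3cd6aa8e3cd6aa103cd14e863cd034023cd476083cd410a63cd131a43cd4c99a3cd5540a3cd5e68c3cd55022f2c550189d555024d9a73816aa04ba22aa022112aa01ef9caa066214aa043b82aa017104aa010610aa00fc8eaa06620aaa07380caa043f1eaa02c80e6de36f1413536f1ee9936f1c6d736f0e7c336f0a1354f6046de073986de,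
  nat_lit 0x2e010ec67632258643b1aec62c498ec676320c6676312cf976304b6a7632469b76326cb87631e5767631c69d63f86ec675004ec66a094ec667714d4137792d412c022d414c420d413cf9ed4162e9cd411d690d4160106d411af88d4169602d41778a6d4163f1ad412cb18d416770ad415430ee3353310e337618ce3371982e587199eb707198696627098e3326f20e3337c92e3376822e3363f9ee3376196e337501ae335f9a6e336aa24e3355b0ae3355b0c2cc28590ab67698eab658912ab66af02ab6673a4ab616d86ab664488ab64a822ab671a1eab66139cab67519aab668e98ab616614ab64918abf34918c15c0b1869230d4909231160e9234918423049194bf3491865ff55c209236bc129230ae149237751e9231789c92329c1a9235669892372da6923566123115660eeed566048705660c32548c04acc1831cacc19294acc5dea2acc2c71aacc10918acc4a824acc66aa6acc4fa06acc76a14e5476a1094776a0e67976a1a6f376a0ae5476a0cdfe4a384ed442b12ed43e69aed46f1a0ed461108ed46ff14ed45ab02ed44349eed466222ed462624ed467526ed453906ed47881a6645fe20f1078814b6578818a4d78820e0e788129297880494378810d237880ed0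77880ab657881eea57881c7096c186f1068c08f105b384f1044594f107892088b4459ac1744598b2b445a6d732a6a288b43b1288b1968488b73e0888b1921088b1ca0e88b09a2688b5e29e88b15c1c88b28b8add728b8c35628ba0d8360f105176b58e517592125174a7845176b30651772ba05170501e5175421c5170b59a51743f185176eb965171ab14517441908fd4418e3044418613444188add4418c5a72d584883774928833e5208836b61c88328d9e883437828832d3948834af1a88349c988836a2a68835760c8836eb8a7e958410dd75820edd74b812dd721d84dd752182dd757626dd75e288dd745e06dd728120dd7791a2dd77341cdd731b1edd773718dd745b9add73f496dd721310dc57358cdc56e29046d6e28899d57b02dc554684dc571592dc55cca0dc573596dc547a1edc57369cdc54579adc575c98dc574f24dc56b108dc567a90bd577510cf56978ccf567a86b2167a84ab478f1ccf518784cf569796cf527da2cf53431acf52ab18cf577b24cf5791a6cf571d86cf569c86ed869ca037d69c9034e69c88dcf69c8c51a77584d3973002d392bc12d3931b20d393b21ed3928d14d3931d1ad3965898d3968924d3970ca6d3979c0cd3971c0a50f71c0ce1971c12ea371c0eb4b6020ee385a582e3879284e3879c24e3847e06e385d008e383a4a2e38331a0e382779ee386d49ce383481ae3854018e3828796e3870c94e38474908764748e5024748ab824748cd92289868e9474986524749ef3a1cf128e96c9148e96f5088e9689848e95051e8e9,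
  nat_lit 0x68d86bbf13fa0bbf63422bbf37a9cbbf64b9ebbf23b18bbf6ca9abbf4e416bbf2398e689239a23bc2399a07f239924734a496473170224736fd1a4735d5944734030247347e84473345884732d58e473187a44735d58a4734a48c47348f1e4731889c47349d2017349d10c6649d0860b49d0acf249d0c2f36528493a49f9c93a1799493a7620293a6791693a0b01e93a16e9893a5501a93a68da693a4b1a493a6678ef133788accf66786bab67c0eccf36b04ccf47882ccf66ba0ccf17d06ccf79e12ccf75e9cccf17c9eccf37894ccf7961accf4d598ccf649a4ccf37226ccf7220cccf7220a67f72210d9c6f390e4463282e4460d12e4427a84e4477826e4454818e4434b08e4434a20e4466d22e4465e1ce4465a9ee4427f9ae4433f96e445d590c946a38ee7673b0a60f73b0cc935d586e7673b1e95f73b0ec2458982e7628784e765c820e764a792e7630796e7664994e763459ee7672f9ae7670e24e7634f08e7615f1e9624b1069244b110dbb4b10eda34b10a60e787849622439896265aa09623fc9c9624af869626799296271a82962307169627821a96249c26962459a49620b60a9624a492b900bca09491ee9a9490be189494a4841744a4a0c554a490b824a48ec9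c4a4a49c84a4a69414a49e1634a49c7ad0b986949495089495d1849495c9969495c994b165c99884339f9eb931c618b9330192b934959cb935f984b934bb06b933738eb9313210b9358d24b931c4a2b9345a20b9358b0cb930b11268b0b10a9430b10c308341101623418e162332041624a102162181a6162161881621d0061624a2a0162011a21624a21c1621809e162013181624371a162184141624a19616216d0a3b816d0c83216d1c15e028122da025222da650202da1db1c2da3ad902da4a60e2da635882da1db862da5d8842da4c3a42da1dc162da419142da64e1a2da0c4182da778107257780e72077818e607780aa9260304ef03c888ef065e98ef0597a0ef049b1cef0304a2ef058f1eef065802ef054916ef077226ef03720aef03720c9ef37212eff3740e6e4536026e443e046e4074066e468da26e4459206e41db1e6e44981c6e4521186e44f7946e4365127923c914ee43c90e6ff3c91096e3c91a92e3c90aee43c90ccc744d8479272a1a79263fa0792663947923a1027924a21e792660a279268126792082067925f20cacc2ba06be47708ebe460990be45f220c895f218c3b5f206cda6aa20be41809cbe414582be456614be414498be449824be476826be465e0cbe465e0ad0965e20ecd78e90cbc49e12cbc17802cbc76984cbc4afa4cbc65c06cbc49c08cbc48ea0cbc58c9ccbc17718cbc68496cbc49b10a2d0f69893649b22a612d5969367110493649f92936768149360b0029364720893652f10936546269367680a9362d58c9361af9c936,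
  nat_lit 0x5ffa095b5b02295b6061695b4830895b7729495b30a8cd946ca02ca13ee10d945f688d941ef98d9468220d944809cd9457486d9443492d941ee22d9471b1ed9430a96d945769ad94754a6d9475424d946050ad9443d0ac0a14c9cc0a79c10c0a60510d8f60508d1660518a991fb92c0a43d14c0a4e504c0a67d1ec0a71da2c0a4f8a0c0a2a1a6c0a46524c0a20d02c0a4660a8634660ccac4660e7cc3e98e8cc784128cc58b848cc565828cc563268cc657868cc35ba08cc3ea228cc1dc9c8cc4f71e8cc17d988cc656148cc431968cc010901474640a1471ef8c1470a3988ca0a39e1b20a3888c20a38662219512147464141472e2841472939e1471ef96147465a214739d2014744b2414746002147464a2cd54649a774464a42fb4c7968c964ba28c95f2128c917f1c8c93ca948c9212828c923d848c964c088c95c7108c95a08e8c95dea48c93ca8a8c94c78c8c90d19e8c94ef8cab755b92c6f55ba0ce755ba26dd55b9c6cb55b9ec8655b98c1555b9aac155b949df67ba4ab75f382ab761784ab714d8eab765d86ab75f2a26be5f29cceb5f298c0e38496be53a994be56b126be56628ebe560590be574f06be514502be54e788be5359a4be535c18be53a98abe53848cbe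53598ae7735998bd0359a6889790206b373b966b335992a06359a09f13599c6c1359909e03598e20d359869e63598468435988b6b3599a0e378f846b36dd146b36dd26d405c894dba43e12dba21f22dba78120dba6f29edba20c0edba20d82dba3a9a6dba5e69adba64098dba5c88adba61b9a89770716c3746f9ac3761b9e83561b92d8b61b8e60f61b902ad61ba054661b8ae0e6cc88c3765b84c3752914c371ca989751aea09754ba92bf34ba90f2d4ba8ef124ba8a8874ba8cae8663069751748897513a049750b99c9751861e9755741497544396975636a29752d8a497554a829755e390ea229c0eea24628cea2751188067511ea7275108ad761c92ea25c984ea246296ea2402a2ea278220ea269626ea2763a4ea209a0e88744392ccc4438ef28443883044438a7bc5d5848875399c88749ba28873de168874a39e8870ba188873ac26887380248875898888762f0ac5462f0c94862f0eed962f042c076d0ec5e49692c5e53da4c5e57d84c5e61186c5e63288c5e4db22c5e45c20c5e45a9ec5e2fd9cc5e5d09ac5e3a718c5e62a16c5e4a414c5e3758a6db3758cec6375847583aa906eb498926eb6ac846eb37c266eb778086eb3c9066eb074206eb519a26eb37d1c6eb7561e6eb3d3986eb7211a6eb763146eb36d966eb57d82b216b990afb65c0aafb57d86e446ba0eafb37206afb64c92afb17d20afb114a2afb1859cafb3c89eafb65c14afb2799aafb1ce18afb5d5a4afb5df8cafb5df8a9c867610bbf6108ebbf78504bbf79182bbf36da6bbf65a88bbf,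
  nat_lit 0x68492c821679cc8266b84c824b882c824b88ec8238310c8216626c824b622c821daa0c826738cc827398acb87398c9c87398e50c7399051b5d082e7377904e7367186e7345da0e7364592e7365c16e734e414e7334a9ee7345a9ce7366c9ae732c118e735c9a4e736a0a6e7358c88e734b2107706520a7706338c7703b81078f3b81a38e3b81cc5b3b8085733b814c6734f927701d0827701f38877007f047706d59c77065214770226a27701c4a47702c0267703b0109063b00e6eb3b00cc010be847604b70676066ca07600d8927606009476007d9a7601cf247602e9a6760392887606b8188f07888ad704198cd706b80672c79490d707918ed7074b92d706d384d7061082d701fba6d701cf20d703d9a2d703a41cd705921ed706a218d7078894d7041996d706e08e9726fd109720c00c9724b9028f16e8989720b92097261a1c9725ad12972790a29727169e972481029720c01697262fa49723320a9724f28ad356110cd3569a88de368490d356b50ed355e392d3576282d3575224d353e784d3562fa0d3563088d3579222d3576b9ed3556b9cd351a51ad354dd18d3561116d354f294d357948cf217909eb2379096bb379094f2942112f217879ef2169b9af2158c98f2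16f104f2177502f2155d8ef2155a10f213d9a6f2158c22f215d98af2162c02ea262c0ecd45f90ec5860a8cc5862c14c1562c1a2bd6dfa0c5864088c585ea02c5871722c58630a4c585529ac581b8a6c5816522c783950ac7863c02bb263c0e93933a8ec785f292c785a382c7839514c785d986c786e388c783e820c7869a1cc7847f9ac7816698c785d78e39c19c8ebaf5d79243a5d79aafc20da0baf40288baf30c82baf1b89ebaf5cc1abaf57ca6baf13d06baf63b12d8063b10b9963b0ec8e63b0663663b0886d63b1a2ca63b0c8bc4a504c767599cc763589ec7645e14c7647fa0c764a6a2c766df24c767a0a6c7656b82c7643e20c47623942b76239aafa768a2c476ea1ac4775992c4779814c4731a82c4777084c476fd08c4773690c4769a24c475ab26c477980ac4715b8cc472a61cc475e48abb013d0cbb05d8086c92790ebb047810bb072612bb035102bb06a404bb0509a4bb01dca2bb048720bb039d1ebb04eb9cbb05fe9abb01dd98bb013d16bb05e494bb04c122cf34c11cf2f4c1149854c124d6b2fd9498249812982161229826021c98256e0e98256b109824900698240c089820bc02982532a498243b9a982238989822fd8a9824c28c98239f145fa39a9473e3ab0873e5a3a273e30b1273e1242073e5a59e73e56b0e73e56e1073e07a8273e3218673e60f2673e542a473e20d1a73e2809873e39a8a73e2fd0c73e4ad8e96e4ad8ac0c4ad8cee54ad906ff3a08295b44e9895b4979a95b2a50495b6181e95b3421c95b0b58695b680a695b481a495b,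
  nat_lit 0x6d502dc16d524ea467c02daa48112daa39308daa49698daa3f422daa4cf96daa1fba0daa2bc9adaa3d9a4daa35106daa72f0addc72f0cd6149c10e5e3388ee5e72c92e5e74404e5e49c02e5e6c488e5e78e06e5e50320e5e27f9ee5e49b18e5e6e11ae5e6b094e5e6ee16e5e48410b2d4840ec5a484087b64840a5d30ab049085ec1c908788a29084f892908773829082e9969084321e90862a989083ad9a9086b7a6908600a49080b9089086ec8a43b6ec9acbc6ec98ec96eca0d9d6eca253633592dd921d96dd973f94dd945c02dd975484dd978c88dd96e910dd950a0edd9787a4dd973f8add972f9edd93d99cdd961b84ada4c390ada39b8eada5e60aada3110cada56d0873a7501cada5e614ada72d82ada31116ada7391eada45918ada38f9aada78e26ada6a524ada6cd8ab8f6cd8c6bc5c904d9b20c10d9b42b92d9b20e02d9b69fa4d9b78d86d9b73f88d9b1ef20d9b35d9ed9b6d01cd9b5b11ad9b67198d9b5c796d9b35e14d9b1f01c75207c107526658a7523a906d610bd8e752597047523670675259c927524312075278e227526899e75272b82752665947523241a7526011875275d267524338c75259c12ea959c1e53659c1cc0959c1029959c0e2f259c088c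c59c0a3c415204b3827f88b3832718b38737a2b3831124b386b102b381e216b3878fa6b3878e0ab3878e0c6a278e04ab665e10f1c5fc8ef1c5fe84f1c35b86f1c72a22f1c72d1cf1c72c1af1c63f98f1c35114f1c75592efe755a2eba78f96eab74014eab795a2eab3669eeab3581ceab2dd8eeab2f290eab2df06eab35902eab59a9aeab38c98eab7400aeab78f8ceab2a20aae62a20c94d710105447148e5442a79c5442a21c9f12a22654d44c985445739a544585045443820654461ba6544052a254409a205445731654471c885444a6945446208ac116208c62e42a90c413e38ec411af92c4128304c4116782c41159a6c4137608c4167f06c4140b20c416a622c4179b1cc414151ec4140b98c414269ac4131714c4160896c416441a9bb57d0ac886778cc8842690c8864410d5664408cfb1dd12c885839cc883bc88c8828284c886431ec8857d14c8867796c8837aa0c8863e22c8862424c8816802c887870a7f57870cc787870ecb278704c8b32d8ef0e5be12f0e48084f0e43f86f0e6a688f0e35a22f0e6caa0f0e72e1ef0e4099cf0e63418f0e3fa96f0e63c14f0e28c10e8564318e85742a27d674296baf60096e85715a2e857a092e8576682e8528c04e852a908e852960ee855d78ae856008ce8535b1ee854269ce854c30a6b24c30c921385909864ba0e98649d1298666c8298638c849863cca49860bc88986192a298615ea09863c99e9864e99c9867171a98619398986359169864909498664114ce7641186af6410cdd26e914c8266f1ec822ac98c82,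
  nat_lit 0x661269756610a7583ac16cc26e992cc2411a6cc23d384cc25f082cc25cf10cc249e06cc237e08cc26a110d9263116d4269f94d4259c22d4279712d4242220d424029ed423929cd426ef10d424b482d425c7a6d424d424d4259d1ad421ad98d4269f8ad426310cd421c58abe15f08ef015f08696b7468ebe114486be152a92be12e5a0be14e322be117b9cbe11f81ebe11c594be11621abe16fb98be176e24be115fa6be150c0cbe177a8a7f077a8cd5f77a8ecb778882ef577986ef570d8eef537b18ef56d39aef530784ef571d1eef53829cef53a4a6ef557024ef56b2a2ef579c20ef53f816ef573a88ef56af94ef555b8ca20510101b8510062fe52390a2057284a204c698a2063820a205199ca2065986a2032712a203cca2a206119ea2053102a2055b96a206309aa2015ea6a20493a4a201620aa2016210b4e1620eb4d636042c4028082c4070202c46331c2c4411062c4187922c4635a22c45f39e2c4631022c43969a2c4023a62c4394242c41ad0a2c41ad0c9df6a09035a15a8e35a6781235a5330235a2350435a62da435a1778635a02c8835a530a235a53ba035a1311e35a2c01c35a3929a35a26e1835a4ef9435a5978e2bc15e0eb2e15e0cab20238c2bc15e1279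c15e1404715e1aa7d420a02bc559142bc026082bc4fc822bc1b81e2bc07c042bc4c4a22bc4231a2bc36ca62bc07a862bc4668ee164c1848cd5680e8cd4b70c8cd4668898a15b9c8cd60ba28cd0a4128cd4b7168cd6cf9e8cd170188cd7891a8cd787268cd6baa48cd771a2c5d7719a5d477198d4d6d296ee33a0a2ee377812ee347414ee33f582ee32e504ee349108ee32f710ee32e48eee363924ee349226ee34740aee36d28cee350e1eee34db1cee37319aa8c73194b0c2809ae632ac14e637301ee636bb92e637521ce636ca04e6345982e6375586e633c18ee6352b10e6376ba6e6372f24e63422a2e635dca0e632ac0ae635860ce6321c0aa4a10d8ca4a4f190a4a525101cb52502acf52504cb352518f035250686227c92a4a6469ca4a10d96a4a21c14a4a68a20a4a65918a4a6c4a4a4a5cda6a4a1eb8c6e63731e6223731c74837322805780126e63731015537302155373083df074106e677f026e6374086e667d986e6505a26e61eb966e64039a6e6604a66e6656a46e66468a6e649f0c1b249f0e64149f109485d78293e0f30493e7820693e5ef2093e56a1293e0d91493e6e81e93e49a9c93e28c1a93e4c52693e6ba8893e6469acc0646a2f2543e10c8d28c8ec8d6468855868e1ac8d16908c8d53502c8d438a2c8d437a6c8d366a4c8d21f12aa45f18caa45521048b55206ed70fe90aa449118aa479ba0aa47189caa436422aa449182aa45f196aa46a526aa45961aaa4755a4aa46f18aaa44cf8cdaa5da0adaa6d516bb46d51ee896d50e69f6d5108f1,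
  nat_lit 0x29996d1135298d116081ad1119626d1176ca4d1164b08d115cc1ea4921b8ca49524909e35248685b0e590a4956704a495ab18a493401ca49287a0a4973012a4952682a4921b96a4932d9aa4968826a496ea24a4910e0aa4910e1aadb10e22ade56d1221c568a221c4789a21c1be9421c3320221c33f8421c4fe0821c4ee9021c01a8e21c56fa421c5702621c1be8a21c56e9e21c56e1c21c4390ccc54390ed642970e8725058c8724391acd043914a0b699928726298687209d08872631048727961c87266f9e8726629487273920872098248724e7268725a6028720b0904780b08e42a0b08a8bb0b08c2fe49e041613cc861614a02016149e9216145d9616117f1416149f9e1610119c16149f1a1610be9816116ca41610bca61612020816179e8ad9079e8cde279ea2cf168512f3d4811ef3d6971cf3d65a90f3d55d0ef3d7a088f3d61086f3d69f84f3d436a4f3d72ba6f3d6c816f3d6f114f3d4831af3d7830a7577830cb4c7831c73e5dd92f0631c22f0675190f067840ef065b708f0647f06f0647ca4f065a926f063ab96f065a614f063879af0669b98f066de0a92066b8adbc6de1ab3c7619cdbc20ca0dbc6de186226de1ccfe6de20ee46de12dbc6de16cd749016db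c597a4dbc32726dbc6a002dbc47e10dbc65306dbc60208dbc35116d7e6bf22ce26bf163c46bf1ccb63579cd7e6f29ad7e3c998d7e74e12d7e1dd84d7e75182d7e35b06d7e6fb8ed7e28a26d7e67324d7e3ffa2d7e1e20ad7e3510cd7e57e969fc57ea083457e9065557e8e22d57e88ad157e8ab2857e8c9fc11884afd4271cafd6619eafd4d412afd55202afd59416afd50998afd1461aafd5fea6afd61ba4afd65188afd74e22dd574e0a72774e0cc7674e048b162510e9c5ec0ee9c5ec04e9c6b9a6e9c77e08e9c29a86e9c2999ce9c5f29ee9c42c18e9c31a9ae9c63b14e9c39396e9c6df0a88c4460e5cc44606e8644608d4538d0e88c68a0488c4351288c61ba288c6ab1c88c3599e88c6df1488c5e71a88c7159888c09a2488c77c0c88c77c0a8f047816ef877c10d3077c08d8469b10ef86a512ef847984ef84d202ef8393a6ef830a88ef8574a0ef8699a2ef86b91cef87321eef866d98ef85db9aef844310eb74430ea124430c134798848863dc1c8865942288609a148864d712886495028865909e886788988865951a886788248867738888644a0ab1844a0c13644a0ee0f44a10e9d77482894678048945e8868945da208942a69289458c1689409b148946e51e8940af9c8943621a89416c988945d92489449f268944b690de969e9496d6279e96d1bb1a96d40f1896d47a1296d3b01c96d0ba0496d6708296d0b90696d6d29096d53ca696d6302496d5922296d4302096d69e8a96d46f0acc266120ccc661222f06611c45b6611e6c7661168de6611a33a,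
  nat_lit 0x383a2b3422314b3442392b3443e02b345701eb3463d98b345b49ab34382a6b3456e24b3412308b3454410df24318adf243c0cdf26f91045f6f918e666f9088c555d92df243194df256c08df264f04df26ee9edf243c16df2423a2df272f20df2422a6df26cea4df223102df22b896ab34c594ab363706ab310392ab353ba2ab349b20ab35351eab311e1cab35c58eab365010ab32b988ab361282ab3645a6ab3766a4ab32e618ab34c58aab32b88cab33ea8a9083ea8caf93ea98dd579c907d576a8e7d5798927d529f847d5168827d56baa67d54b8087d544a067d5088207d542c227d54499c7d560a9e7d5415187d557c947d5484167d52ff8ac8c2ec98c8c64618efa6461e9886461ccda64608acc646206956462295f646165ff43612c8c168a4c8c766a6c8c46684c8c30202c8c30110c8c30708c8c73c0a7443a2104c53a216e78179167444799274462b227444d7207446c5867442861e7442981c74425c907445e30274436f267442962474439d9a74407a987441790c74431c8a56e31c8c65a383906394b98e6395e8126394460463964b826394882663932f8863947d06639587a0639069226394e11c63947c9e6391ed186390c19a63932d146392b71663910390a5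01038e033103885721038aab21038c2bd4f3042074151c20755b2220715e942075591620755a9e2073d49820755a1a20755c2620755ba420717d8820759b0c24659a8a2461232080359d202461231c80712312b371231eb3912316b3512314b361231ab381231803a590822465998424655f0e246129882464880ab844880c1574881cf063b09291031da29107228891068d2091058e9c910590909102a08e9106b9849105ea869105c2169100ab949102c69a91053f9891047b0a65147b0c2a12ec0e8f647b0ea9847b1ad3636e828f63e09a8f6445848f66141e8f63e11c8f6719068f6458a48f60a9228f66f4a08f6328968f65db088f6150948f65828ab975828c91619a90b05582903995829ad4e5b512b0531c20b0548b14b0571a88b0544f02b051569eb0567384b055cb96b0540522b053181ab0511826b0570da4b0541486b0572190f317218ee9272184bff7218abb67218cb4e75b84e436f486e4327a20e4360192e435db16e435a714e433231ee433429ce4351a1ae4327c18e436bfa4e4351926e435e708e433f99abe63c40abe66130cbe653990be65f3105aa5f3027fd5f31eb875f30828a53112be63c414be659508be63869ebe661316be660022be65baa6be6777a4be674882be67288a88b7288e88f7288cee87289054375c12e5127c20e5177414e5128908e5159182e516dd1ee5144596e514fe22e51442a6e517a0a4e5172b86e513638ed116888853b6888e70e6888a5336888cd6564b84d113fb1cd11225a2d116b294d1130612d1177302d11,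
  nat_lit 0x2401a5f93ec8c1d63ec8a20a6f8107d97090e7d954b127d9508047d9088827d9504a67d93dd087d94ca867d9524207d911fa27d90eb9c7d93bf9e7d9528987d950c9a7d90eb147d9105167d91158a1ae1158c682115a003903a1222b1101e22b0eaa022b0cf1c22b3a01022b31c0e22b0db0822b5570622b2158422b01b2422b0d71622b3411422b2481a22b51a9822b5108a5664f40aa215108e87751090501510a41b8510969e810602a2153312a2146d08a2152e98a212b316a214ed1ca214fda0a210dca2a216c41aa213f024a2128506a213400eaa9554882325549e7e05548e664554849dd5548a72f5548cac434104aa92b422aa956214aa965f12aa939796aa93ee9eaa932b18aa952e9aaa9116a6aa91b4a4aa91018a1af10190aa81019a1a123d922031100620352a042034fd9c2033fb9e2030d796203520a02032a0242033be26203019822034f4109e84f40ca414f41a540398129e80e7a09e8520949e868c889e80ff829e80d09e9e851a849e82b2229e81079a9e850f269e8501249e8528869e84fd989e70d6209e74f3923cf4f3909e64f38e9e54f38a7de4f38c9f8106869e7424089e7528049e74fd1c9e74fc149e73ef169e76c4229e70d5249e7102a69e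752a029e70d08a9e40d08e9e60d08c02a0d0a06564c6921a13ef9e1a14f28e1a1063081a14f0061a1019841a14f4a41a14e3a61a14f2161a1015141a12088aa9c2088c2254d3124116d99e411208a0204455a04113ed9c411499104113310e4111030841103906411555044113f8a44115322641154e16411112944115569a4114e218411760a26c86ee96ec146714ec15b592ec1687a2ec16cf1cec15558eec16d910ec13a206ec149902ec16ef88ec155026ec174b24ec171b1aec14b198ec14670aec16ee8cec10e20a4911098c491248909fe24892a78248a0683248a21f82489ca512489e0862489819e2489a40224894213248961c43c1a4491320264914c7024910e5044912b4084915138649174c0ad6074c0cf1e33890e9849c0ee9879a92e9833882e9829804e9874ba4e9878e86e986ea08e98503a2e986f8a0e986d49ee9843a9ce983381ae986e198e986b016e9878f14e987470ade67470cb0b7470e78374710a562b682e8e6f004e8e76f86e8e41f20e8e50a92e8e6f316e8e58594e8e79d1ee8e6e71ce8e5359ae8e43b98e8e29126e8e52488e8e6ae0ac506280e3f3628064372280ec5075904c5054206c5015d12c50381a2c505f11cc5059a1ec5049602c506ae14c505981ac504cd98c50503a4c5071826c5079d8cc506028a6d2602907452c010c053a404c0540388c05617a0c0535c9cc0578f06c055c792c053fb22c056ea1ec0514c02c0536916c053bb1ac0534026c055c424c0559a0ac0559a10a8b59a0ea6a59a08efe59a0c44653684b34,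
  nat_lit 0x2dc145e62f69a5e6061985e60a60a79a0a60c4660a6101480a39014c46e1214c0610214c230a614c2dc0814c0e48614c46aa014c46c2214c0109c14c2e11e14c46c1814c46a9a14c2331414c3cd1614c46c208dd46e9a461228128dd543968dd230a28dd46c1a8dd139948dd2af028dd2dc048dd30f088dd46f108dd46f8e8dd46aa48dd1398a8dd5438c8dd2fc1e8dd0a69c8dd230a08d546a9846146a9235446a9646446a845cd46a908d446a8e21746aa68d846a8c46446a9e14946a9c408508068d5500088d5500048d51a2968d52d79e3451a29462d1719a34554398345513123450641c34530e8434502b823451fc0634563f8e3455b010345543a6345171a4345171a2345543a03453168c3455690ae3f5690c88250c90ad210a8ead273b92ad24a304ad233c02ad26a6a6ad257f08ad246686ad2782a0ad210da2ad276b1cad23b01ead263918ad23ae9aad244114ad271f96ad223f0a84a23f0cc3e23f0e9d341b8e47e23e8247e2969847e5719a47e0408447e3e49e47e6db9c47e41c8647e2952247e240a647e0962447e6fda047e4251647e1cc0847e61f1447e0f12271a0f11a6700f10a2f817c161e2533221e25329a1e2532121e2018141e21d9821e24f7041e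2227081e2492901e23240e1e214a241e2238a61e20180a1e23df9e1e22e59c1e229e0a3cc67a8c3cc1e612a801e6202531e6228831e61cbed1e61e9f71e6182571e61ad821e614cf51e61653c6c1a43cc6c2263cc3d4823cc034043cc2ab0e3cc443083cc605063cc6a89cdda6a894e756a896d374f99ad5161118d5162c12d5176c1cd5158e04d511b902d5179c06d511b790d515d026d5162124d5172622d51553a0d5169b8ad5173a8cd5129310e8429318df12930a0a32930ce716860452643c1c5266e1a252673894526291125266b582526051965266ce1e5261869852669226526736245266d88852674210e6674222dbd7421a7e34a596e844e722e842fa1ae8444212e846da94e8430482e8428b84e8436b88e8473924e84366a6e846da8ae844a58ce8478c9ee8478e1ce842ee225b82ee145dc062225dc2e69a5dc4d0925dc68f885dc313825dc316845dc651105dc69c8e5dc2f8245dc2f1a65dc2ee0c5dc0601e5dc2091c5dc2da0a51f0f7845b42da1a4802da0c5af2d7945b46ff105b46e78e5b4243925b405c825b4240245b42da205b42e49e5b41379c5b42fa9a5b428f965b42f48c5f52fa865e3714105f570f8e5f53a8125f52db025f54f2065f52faa05f512d9e5f50631c5f55d69a5f52f4965f55d68a2775d69e5f675010bad5d690f3b3bd12bad1b486bad2e004bad5341ebad13b96bad5d6a2bad2fca6bad2d082bad2fc8a61a2fc9e62d2fca44801c3925f95349e5f92fca25f964f105f95988e5f9425885f9554865f9544045f930d165f9,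
  nat_lit 0x77498e5227c24e526ea8ce525aa0ab5b4040cb5b5b11cb5b66190b5b5ad906c95ad9825a5ad88b3b6d192b5b5aa14b5b47808b5b58784b5b7989eb5b40416b5b68e22b5b6c220b5b729a6b5b129a4b5b28782b5b7280c4f864c02e505c010e505d90ee5072012e5033a84e506eaa6e5028c08e5074f86e502aa20e5044622e506e61ce5073f1ee5074298e5032f9ae5027c14e504450cb9872e8e88a4450ee7a3068288a5bd8488a35c8688a2a2a088a68a1288a5cc1488a3519e88a6fe9c88a5db1a88a7871888a7892488a3620888a3d10a7533d10cb253d11cb365c8a47a23d10e84b0970e7a2083827a26c0187a21e69a7a276d847a25539c7a2598867a2591267a2450a27a25f1207a23a9967a2725087a2592947a26cb8a3de6cb8cd0563290d976cb90b446cb84de76cb9858f27d12d9766488d973b604d971ef16d974659cd9768294d974f720d976bca2d9736618d97364a4d97745a6d9776d06d976248a6bb6248cf161ca10c49624903246249ab07624a0f2d67a92c4944f20c4978b14c4961488c4915b9ec4919604c4935d96c495aa1ac4979426c496ba24c493ca06c496bc94f376bc9aab56bc98bc735122d7977392d791db02d795f104d795da08d7929d10d7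944b0ed795d724d7974626d7979b8cd796cf9cd7959f8a8ea38c0c8ea475203cd4751eebe4750e7264751071f475088f147518d2779b828ea337128ea59f948ea0a8088ea6fa048ea5311e8ea38c168ea618a08ea597268ea5c9248ea0f09416a01c941e15021e1e10ff9a1e10fc981e1531921e152a1c1e12b3041e14ca021e12d8061e11148e1e1114101e11e4261e1017a41e1043221e10f1a01e101c8a1e10b50c1e15960ab3b59d92dcd59da050559da264259d9cb3159d9e80459d96b2c59d9af1f59d9824d59d8a6fd37e96b3b12324b3b281a6b3b38904b3b73b82b3b75990b3b38286b3b6320c96d62c0cc6464f1cc646321c99b63212e6d6322091f6322284063210eb363214c586321a2c563218f2667102c644b694c6416024c6439626c6444384c644b906c6410c0a48e10c0c23610c127f310c0e94210c1067f341022182078821801a842180e71c2182471621811b1421832ba02180d6222182159a2180d0182180d4a42182422621840d209bc4de1477e278949bc0d61c9bc0c7129bc501229bc2471e9bc6f00e9bc6ca109bc247869bc290889bc3c2829bc0e7a69bc0d4249bc4fc1a9bc0d3989bc2788a9bc3bf0c9bc5060aa0d5060c9e922e92a0c6c41ea0c32ca2a0c19720a0c0dc1ca0c73890a0c79a0ea0c2da08a0c52306a0c11304a0c116a4a0c4f226a0c50696a0c4f494a0c0d79aa0c50e98a0c2f30a61e2f30c5b8193925e62ff1e5e6550a05e62b19c5e63aa105e64600e5e6239085e646c065e62e1045e62f0a45e6500265e630f165e6,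
  nat_lit 0x6b106e466be12e465c020e465c422e466f31ce4627a9ee4655c02e463d914e465c51ae465c298e464e7a4e46617a6e4669f0ce4669f0e4f26c38cd3e69f08cc34780ed3e78e12d3e35182d3e508a4d3e62588d3e37922d3e1ab20d3e4279ed3e39c9cd3e1ab9ad3e5ff18d3e6c396d3e6068ed7f60686f036068cc2f14e04c0d6600ec0d16012c0d2d3a0c0d5aa22c0d3601cc0d2191ec0d35f02c0d61794c0d5371ac0d44f18c0d2a9a6c0d2378cc0d6dd0e46f6cd9046f4030c46f2378207f6a49c46f3882246f4929246f5608246f4031646f28d1e46f6d19846f4839a46f6c1a646f6c3a446f3e90846f0d88a9046e28c90448190904482106e448204c8d482181554821e9d5482086e248206d73626129040d8949041329e9046e29690479ea090428ba690429aa490464d1c51664d0ae6e64d104ff43a90c9a63704c9a4b218c9a43920c9a7609cc9a17906c9a3b992c9a6d1a2c9a73716c9a43f26c9a43824c9a29c8ac9a1eb94772593127724c9227722a6207723529e7725e51c7720b48e77207f107721f0067722978877273802772292267725752477237f9a772171187721eb8a77221d1677344514773393a27733a8a07735e21e7734799c77307f0e7730b49077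3220067737548877377c82773337a6773574a477331a1a7734b7187734450a77321d0c7733e920ae63e90ee7f3e90ad153e90cd73745047d27819c7d268a967d26b9947d2088127d2473027d2393a47d273b9e7d26d7187d23549a7d2788267d2733087d2337943827281466f61c9e66f6e49a66f3fa9866f5671266f5b39c66f06d8466f7110266f42e8666f6230e66f5151066f5fe2666f6c52066f7280a66f1c10c66f75d9a95075d8ea9c75d90e0375da458e75d8a55875d8cd0a55208ebb74792ebb6db06ebb4c584ebb44b9cebb6261eebb68514ebb2ac16ebb751a0ebb69d22ebb2df24ebb5e882ebb7550adf375510efc73c10eaa64c84eaa50888eaa2df18eaa5f2a0eaa61b9ceaa62506eaa73d92eaa2a1a2eaa42b9eeaa73c02eaa6f996eaa3021aeaa661a6eaa4f8a4eaa6840aeaa41f8a48141f8c8034019483f41f8ec3a6138e83f5489a83f6e60283f5bf9883f1588483f3831e83f7311c83f4278683f0932683f61f2483f6f8a283f3902083f2409683f3b10883f2f99ac592f9908482f98e0c62f98a8cd2f98c96f4f2865f376b085f34c5045f33dc9c5f36309e5f34b7945f3466965f3756a05f363ca25f3774a45f363c265f3065825f37498adb47498c75c73310e932930ee9375d12e933ca04e9330a02e9347fa6e9337d88e9341820e936df22e9378c1ce9378e9ee933f21ae933ae14e936da16e9356e8ae527290ece37290651b5e68ee5236a04e5261e06e5229212e5227d20e52442a2e523f81ce527811ee525ec82e5256e94e525191ae52,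
  nat_lit 0x99a2880525208804f29e8804ea1c8806109a8804c398880744968804eb948807408a6b47408c87366f90e816190ee8178912e8166f82e81388a6e8128a88e8139606e8157ca0e815e4a2e817689ce814929ee813fd18e817289ae8143994e8135a16e816618ec7a36490c7a4198ac7a60b8cc7a63d02b1363d08c647491cc7a6a9a2c7a41994c7a5c892c7a60b96c7a6409ec7a16818c7a7a09ac7a16524c7a27908c7a49d8abaf49d903dc21e1093b6a10893b0b08493b1609893b71ba093b44d1c93b5d88693b29f9293b1f2a293b3969e93b6ce8293b5d79693b71d1a93b4cf2693b3952493b3b00a93b1d08a5c62e320a782e3222ee2e31c9652e31e7712e3163a12e31a6192e318ecd2e30a5872c3965c605d925c62eca45c62e6265c63b0045c63ab025c66ab905c64df065c650b885c63921470372c147243341e7241261a724311187241ef927245931c7243ab847246ac8272456e067243ab0e72440c1072412326724078a4724418a27245602072472c0a7243818c7245e50a6b56a50c6b535a90e6b35a98ceb35a9e0e335a88538596126b55e5146b5790886b5664846b56da9e6b56a5166b5675226b5665a06b55e6266b56f1a46b5607026b56dc865266dc8ccae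76884db973f8edb920c06db939192db9572a0db929222db96711cdb95ab1edb934802db965714db96029adb935518db92a624db978b26db96ba0cdb95ac8a7235ac8ce7433a90b595ac9093964692b5967982b595c004b592fa24b594e786b596d088b593e522b59129a0b596b91eb595961cb5912c1ab5936698b5939196b5973a14b5977ea6f2d64696efd3b914efd4fb92efd44822efd79420efd6e69eefd3511cefd73d0eefd72e90efd35806efd64888efd30b82efd74826efd73a1aefd67218efd3b90aefd6468cefd64d962d809d142d85cd122d864ea22d864e202d85d91e2d849c9c2d85bf8e2d85bf102d864d062d8380882d8471822d80afa62d8099a42d837d9a2d8025182d809d0a2d864d8c2d83538a2be3538c19678c106a778c8e6a767a126a7071046a70b2246a76e9066a74c3086a7186226a7202206a71db9e6a71781c6a728b1a6a70ce186a715f166a70cb146a75c6102dc0280a2dc16e06c8216e08c6b5c68e2dc48d042dc28b022dc0f3122dc4c3a02dc22da22dc4b21c2dc1d01e2dc028142dc0999a2dc0cc182dc025262dc3540c2dc354209473540eb3535406cde647846a86308e6a8684866a85df926a84d2206a849c1c6a84c41e6a8134826a864d9a6a815b186a815f246a80a7a66a80710c6a80750a6f537a0a0ea075166f437b900ea075106f60751a01c1dd920ea00c200ea350880ea378820ea37c1e0ea379040ea37a960ea37ca20ea36b1a0ea16aa60ea37d240ea379860ea3d90ae46723027d37230eb1f72306d1c58b8ee46,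
  nat_lit 0x1e90a2f71e90c77b53c103d22d68e3d240e123d21e1823d2034843d21c7243d268e863d222b083d2228223d22cb203d253e9e3d26b49c3d22c01a3d2655183d217b963d23bd943d223a8a2933981c293149a01d1149a245c1499c4e2149964751499abdb14998bf81498a3d41ea16293067922933bda429326fa6293021042932a1822935a5102935fb86293235082936d596b4915994b4954712b4965022b4916da0b4962a9eb496661cb4914a0eb4917710b4966686b4971988b4972882b494a526b49608a4b491969ab494e598b491598ab496d58cb491258e0421258a7a01258c95a0260e24b4019824b4d49a24b5a50424b4e11e24b5429c24b5970624b5a5a624b0a82424b319a224b01d2024b3d01624b01e8824b4ad1424b49a0adfc49a0c2f249a0ea8149a10a95796829344019293428b0893474a1c9346be849346fe1693417914934438a0934529a29346a29a9341ae9893449ca4934438269344e8069344470ada14470c88648c9088e447106374471a97209a9288e1298688e77f0888e5a10488e7971c88e4021e88e4431488e6d09688e1c12088e69ba288e5b2a488e4782688e73e8288e5b60a7b45b60cbb725e10b6c2670eb6c3d412b6c60384b6c76c02b6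c59f26b6c12c08b6c3f506b6c40520b6c78322b6c6b41cb6c5a01eb6c4069ab6c5db94b6c3da16b6c2c616ba659514ba62ce92ba647ca2ba63cba0ba65ee9eba668d1cba63428eba64a290ba660006ba652188ba673502ba66f6a4ba61361aba65b298ba65950aba62c60cba66ec10e6a62614dd827f96dd872a26dd83d912dd86cd22dd856d20dd84e71edd861d9cdd878290dd86a106dd821d88dd834282dd879624dd86971add837218dd86260add827f8cdd8357220e23571a59b185966ae6d2a26ae6981a6ae370926ae495946ae476826ae624846ae672086ae2ec106ae54c0e6ae2bb246ae408a66ae4958a6ae1858c6ae34d9e6ae65a1c6ae0f88a3e20f88ca8c0f88ea6c0f890a6d482021f1545841f1160861f10ada01f137a121f11f1161f1546141f133f9e1f15471c1f15469a1f1018981f12d5a41f11b0261f10ae881f15478ac995478cc8c13a10a8f547905df5479a1f435912a8f5de86a8f48d08a8f78904a8f2ba1ca8f1869ea8f64614a8f64c96a8f60222a8f48c24a8f64c26a8f6be82a8f7410a8c87410cd9d7411280767510e8260a0ee8271d04e8275e82e8243c26e826b808e8228a86e82546a0e8242022e827691ce827361ee8279a1ae826ce94e8246416e8271e8ad1771e8cefa71e9c60c27906e3d41a92e3d43422e3d58620e3d6e31ce3d62390e3d6258ee3d4b908e3d56e84e3d74aa4e3d68b96e3d77d14e3d7699ae3d48c18e3d4400ae894400c9d7374908804828e8807331288061a8288063d048806d7a48806710688076208880,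
  nat_lit 0x79c1ae3c54026e3c69824e3c7950ae3c7950c83a79526f057950ec913620ef2a36402f2a62e98f2a6891af2a63484f2a66c9ef2a7511cf2a73d06f2a658a6f2a6a6a2f2a43ea0f2a69688f2a41d14f2a440946791ff9a881133948815a91e88173e9888139b928815ef9c88109a0488166982881789868815d58e8816d690881458a6881488248812b5a28816b4208811338a88133c8c8815a29470257b14b456b41eb453121ab4539198b4547c92b451261cb4545784b4529502b455a906b4549d0eb4533b10b45124a6b455b724b45621a2b45224a0b4557b0ab453810cb4574b0ae23711a0e83711a24ff7119cf047119ed9d71196e967119acda711985047118ad2469216e2359b12e23738a4e236eea6e2329204e2333802e2326590e2370686e233ff88e232600a4b32600c4be7110e4c0705924c0516844c0623024c0047a64c0701084c0705064c0256a04c0259a24c07029c4c025e1e4c0710184c004a9a4c025f144c0259964c00d80a1f60d80c02b507901b05070e1b03df921b0110841b00eb021b04ffa61b01d5881b03c2061b0469a01b011da21b02789c1b00e51e1b0079981b05081a1b0015941b00fb161b01018c1f60fb123c10fb201a10fb2242b0fb1c73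40fb1e1c70fb18a410fb1a1ac0fb142030d3241f654d261f6019021f6105841f65340e1f62f9081f6117861f630da225c30d9e6475261661b5341461b2c69261b3132261b6c41061b0e50661b0660861b2e88261b3132661b12e2461b2f71a61b5339861b5340a61b5260c61b0fd164130fd185f10fd088d90fd0e0320fd1081c0fd0a0cf0fd0c4133be881fa3d2041fa2af1e1fa067961fa318a21fa315261fa1bfa41fa0fd8a0720fd8c41640e101fb0190e1fb275121fb4f1041fb534021fb209261fb3ed881fb315a01fb2f6a21fb2ad9c1fb2f81e1fb550981fb20b141fb039161fb20b8a41620b8c41220b9e5a220b8e7ad20b9085a0f202417695044172b1a041758f9241720b16417209144174259e4171bf9a4172e89841703924417532084172f6965e420a945e421a1e5e42ae1a5e42f0985e42ec925e42e41c5e413b845e4171825e4533865e416e8e5e454b905e42f6a65e420aa45e4061225e420a8a5e42f68c5e46f090c656f08ad043ce04de15a210de160688de12c718de15e2a0de15fe9cde176c86de172f92de14f5a2de14689ede16ce02de168216de14f61ade164b26de1661a4de121f0ade13228cf077839aa0b7839e831783a280778392873783a0b6b7839ca7f78394645783989c27838ce5772b94f076c824f0748026f0766e02f0732404f074f70ef076dd08f0737d86f074f5981a2744169eb726949eb692129eb609a29eb4691e9eb41a1c9eb78d909eb6f7869eb237889eb0f6829eb465269eb468249eb44b189eb7268a9eb7440c9eb,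
  nat_lit 0x208025e7097265e72e01a5e72d1185e72f38c5e72080abad2080c40843f104102870e410090124102ae02410063a6410039084102a0064102fea04102d7a24103cd1c4104f11e4102081a410204144105d6964102fe0a5f52fe220c72fe10eeb2fe0eeec2fe0c7801a7045fc068825fc4fd065fc406125fc3c0145fc2fa965fc2071e5fc5439c5fc2fe185fc2d7a45fc20b085fc2fe8a4802fe8c5c2318825fd515905fd0fb8e5fd2c8925fd2d7a65fd0fd885fd3be065fd1719c5fd28f1e5fd2fe9a5fd2e1145fd240165fd0638a5f90638c5f80cc120c71a31e0c72d7a00c72f91c0c72fd900c72fd0e0c720b880c7101860c72fc960c72fc140c7063980c73a1a26103a19a9f9611967434902274315d1a74307a927431b81474343482743103847432fd887434fd907431018e7435c72474377fa67431b80a7436118c7431749e7434ec9c7436ae8a3776ae8c4f46ae8e3da71e0ed5d69f02d5d3e998d5d1e89ad5d78584d5d4f69ed5d42a9cd5d5e106d5d1d926d5d61ea4d5d722a2d5d1d9a0d5d1bb96d5d5cf88d5d27a14d5d46b2297a46b1a65f1c3168d6216a28d66431a8d63ef128d63d3148d61e0028d61d8848d63aa088d60a5108d646c0e8d623da48d629f268d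63d30a8d61c30c8d63d49e8d623e9c8d61e80a77b1e80c3bd0d0123d026d9e3d01e5223d029f243d0034203d040b9c3d067d103d069d0e3d017c083d01e0863d041a043d023aa63d03bd963d01de943d057c1a3d0612183d06bc96e6562994e6569b12e655e522e6529720e6571f1ee6562c1ce653960ee6528190e6579486e6566f88e654d502e656aba6e652a0a4e657a01ae6561198e656298ae656bc8ce65683147fd6d594d066331ed0671f9ad0619098d0637612d066421cd0670e04d0674082d0653d86d065cb0ed0670e10d06632a6d0665824d061f322d0664a20d066d58ad063fe8cd066bd8acfb6a38ad7b6bd9a9ac6bd986cd6bd9ec7f6bd9ccb26bda03b66bda2b5d6bd96d474a392d7b67d96d7b3f1a4d7b66026d7b78604d7b68d82d7b63810d7b58388d7b29c166976c014697779926974a8a2697630a06975e51e6973889c6970a80e69707010697393066970718869743b0269771726697492a46977209a6973cc986976c00a69729c0c69779114dc649f14f226f91ef2277e1af2245a18f226f392f2243e9cf2253904f226bf82f2275106f2235a8ef2235f10f223f426f2258c24f22421a2f223d9a0f2249f0af226e30cf2257f0a9fd7510c9fd0d7909fd4fe901a84fe98d874fe9e8624fe8821b76c929fd57f149fd43e889fd1c6049fd2d49e9fd751169fd35da29fd438209fd6d1a69fd529a49fd50c029fd71e10d4871e0acec27904e3c36b08e3c40898e3c367a0e3c6991ce3c28886e3c78c12e3c37b22e3c71b9ee3c32782e3c67616e3c,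
  nat_lit 0x629a5b905e185b924a245b91a6265b9251085b936016ecf74b94ecf3e612ecf79da2ecf6ffa0ecf4f31eecf44e9cecf6dc8eecf3e910ecf6dd06ecf74988ecf2c302ecf6b026ecf61e24ecf5a79aecf6fa98ecf74b8aecf3600cecf71216e1d5bb14e1d25e92e1d79f22e1d5bb20e1d7121ee1d7139ce1d5648ee1d56610e1d4e006e1d69308e1d51e82e1d707a6e1d77124e1d4bd9ae1d6f818e1d5bb0ae1d7120ce1d2610a34326110ad856f904c225e844c2249084c2568184c24dca04c22bd1c4c2544064c222f124c270b224c22469e4c2048024c21a1964c23109a4c22bd264c2246a44c225a8a4c22fba234f2fb945f72fb9a62c312a25f75441a5f74b4925f7063825f7424045f770b085f739d905f74c50e5f7097245f71a7265f72fb8c5f70fd1e5f72301c5f72ee8c5fe5440c5dd30e105dd4518e5dd2ea125dd2ee94a882fa825dd1d5845dd544245dd2f9065dd2bd085dd060225dd1a5a05dd2f89e5dd2f09c5dd0621a5dd1a7185dd2ff145dd1a5a20b91a59a0571a5985dc4609634b4d81234b22f9434b5ba0234b2320434b4bb8834b4519034b30e0e34b22fa434b460a634b22f8a34b4608c34b2d99e34b5509c34b6868ac4a6868cf2e57e10d0d68690af6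6869aae136b92d0d56fa0d0d79714d0d61b88d0d23682d0d5539ed0d1e784d0d62516d0d6f622d0d5fa1ad0d568a6d0d38224d0d5e986d0d1a68cb612e40c34d4911034d3230e34d33c1234d1a6945c80a30234d1d38434d2e42434d2e48634d0c78834d0fd2234d2d12034d2f69e34d02b9c34d0a21a34d3159834d5b09434d4fa98b744faa6b74463969f5137149f530d9c9f5561129f54faa09f55589e9f57500e9f579d909f50d2869f52f3889f52d2029f5432a69f5432989f51370a9f54638c9f52f40a5ef2f40c8c1763105e82f410c432f41a348236125e82f5065e8516885e8233845e82e71c5e82c21e5e8460945e82f7965e8061a05e82e0225e8460a45e82f7a65e820a0c41420a0edb56da0e414463824142e79a4142fb0441405d1e414425a64140391c4142f1a44142f6224142f3204145d6864142c80841420a1441453e0a5ad53e0c42853e0e91a53e1063b49202a7c5c604a7c2ef86a7c540a0a7c0fd12a7c2d696a7c21414a7c5789ea7c1ac9ca7c73b1aa7c5a598a7c4d4a4a7c54826a7c21688a7c329940d61b4946533dd1e65311b1a6530e5986531cf926532b31c653117846530ec026530eb066535240e65311790653397a6653246246530e5226532b2206531b48a65306b0c6532e38c5c72e388b7454d905c77710e5c7368925c72fe825c71a7245c713b045c74cb085c72d9a25c71a8205c70679e5c72d09c5c72ff1a5c705d985c72e3945c72099e5e72f3945e71c6125e70a2225e71a4205e70619c5e76da8e5e76da105e73e1885e7,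
  nat_lit 0x4770a1f04770c6693eb108ee29d8e8ee31f928ee177828ee77d848ee30c248ee59f868ee387088ee30ca28ee5eea08ee0a81e8ee6141c8ee1771a8ee764988ee0f8168ee334948ee100142264d9142004f01e20001b9a2000e9982002cd122001061c2002b4842002ce02200453062003f98e2004d3102004f0a6200243242000c222200019202004d90a2001130c2006948e81440a0a51e2dc84814694908142e0888142041c8145010681408d9281440a228142061e8146958281428f1681440a1a81468ca6814694a48142908a8142dc8e5b92dc8c5b9694845b969c065b9060205b92c1125b92dc945b91a79e5b921a1c5b9]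
noncomputable def A : List (List (ℕ)) := [A_0, A_1, A_2]
noncomputable def K_0 : List (ℕ) := [nat_lit 0x3e09580442ae16a788603968fa16709691f223247c15a8a4c1cd14f8a783a88f51d643585d2e635370ef97cc3af4e3aaa462894a1d706dc8361bd44408bc3dc1221dba21c71e2ab15a8ecca3017442c85e592c8d65e88be4d767488869d10d566aa3549aa0bc46a222085702e46b635a99f0d666b220005d82be2250f4069849e28e0fe8f1c3ee58e09505603841ea09d04dcb8c45e2e285642563cc0dc8590b88108082042c22410e08295c8ae21860cb85543065702b7861431c1a308a04182064fa27ca12508c1aa0d6107482a11e2d09680b3e59e21216742ba15e0d6872423a5801050f102c01622bf073c64011f096970cb845c12e00498b7e5be0a315dcb761530aa08244325831340494b042382c086108de20409384c4c005ff09e04d4bfc5fd1880f183ec1442fd86d438c12108c961446626a0a8056877e1ba0b29610a5655b422a111086842420a10080239141fa0f8dfe15233a9d1cb1658a1d31624b104231db07d0b0e11b09986b838a41a10195f439c3ad0dc15f029e15108e04a420e10c08984083561a9090045825011709a046035011a08a8404200000,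
  nat_lit 0x35f1f61d7683587c43e56845b83d443ec81436f24c900a1d03f760e132163e4871c90acc948a334079214720d813c1c2c217acf85ef2a2cfd4ed85f6baf17b4ed5543bb015205745871d29c343b85369cd0d30a466333fc9c704e55633bb4eba6c32bb066cd741a235c8e68d706b70ab1734e78bef7f83fb51d0a7a7539900c270fc6741d24da068b36f2a4d7e0bd9559bbe950a28f3180e0a13eeea0bc1ee8bd884b39f213509c7990be212156077d61c1df1700e147f0b1a48407f220a0bd4be085f4153c5c84cc7c297872060c8eb38930e99204753a989fdc5a8ca3b01d84f30a2c502b2d88444252a911c0500d512aaae9072a1cc180915863ac75273c0ba108db61e1a0252ecf271dd0eec3883a727ba4793901f54608ec938c9c54e22d41b8d0b633b28f1b8ab27822370176aaa71ed079c5064cd2c692887801bb2c617e8bf213b09b17e0bee5f61da87cc2845f50d7a1543626f60db07a438e6972621c1c37e22620f107c994b64474a1283a46c020c8f94d928ec17e87ec434202506885d41862d30806c053a47714c89e067880a2500b6d21653e44abb145aa316,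
  nat_lit 0xa1a5098e2e6f2cbbd1586c4936ca0b7d7caa2560b2aec872d133ef40306423e111111b1952814187a5945b8dc267b3094c7063d6718c448e90d85fb40b5e450da55607e13b01fa4eba6913ac67029e8b94cde66e17799b468c66c17f84f5cbd0736993084b34f566a8231dd85071777b2188f061a3238f986f81e431f0f9c8384172d29058b481730b8968cb441680b186d03b44db1630da47a01d60a284bd0f488b43b0dcd3088b24e99f2067cbc687888b95e42341218ea55e24da464abbd5dc4e312309a46582c51bb89ad80c2086028a89808262601b0082581753589ac02fa6af3571ab429215b3709b8030444936f974903e8203c8b0e47968e546591fc3d88960de07045847561e29c58aac7152ac1c5057a2ad38985fc2fc166388848d0f08cd877a24cdd8c011a3c23c40e6ac58e0aa16f0dfb2b7042942af243af950c2202ed40c9bf0dc4be15b9b18107aac35b39fc58f4eee852a295e82d436b3ae95756ec87782a45d9e90a76ebac4edb0867c5a5e9d730ba75aa9d55125f24871de4818a2464731e183eab57681e719b43368483b2d67e578851211cef1122,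
  nat_lit 0x4428f5c3942a013da0203b08fd47e23ec5222952148950992a3454f90a830231f24c2040b383e92cd8f80b3029a09214f03c45dd2ee176c6945da0ff97642c212e2ec04fd0a64486e0c3c9b231091ec2ee200f0af3bd1e79224fec0e8a4c0fbe7b31ec96dc92a5b51998a18738b1048034611b2aaa61db959d4caa1457b1312fecf419ea60150825833d060027c13833b85dc28eb225c99f958d0f233bdb5dc67655a13c8e64fe6d4e13e8ac8d1c6bf2339af487e6bc0c81b287266c83639b18d8a6c43611b043126f918d1db92223225378c7900640b34d9ce56d674d3e59f58670406133afe57f047e5fb899849c2772d988e8b641300ab86944ca4e216eafe9474d8767a894594c9dd241c1c94502395842ac49285b611bac1d4806fb3a0c04623075a88d264e0045e02e499e61667702ba9dd8b2a1a40cd0ae4f0a7842519f3481e851484b3749963190fe09e841826111b2840c84614102a8383a65b42dd0740b723801ba8b4474419210f8c1062a29624d069c58813211497c43289031138874c6e6361a898d0c66632318859cc0a6040a014dc5c06033010bc0c02148,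
  nat_lit 0x3851c2429816a29222f5302e9819fb520c46a1a7013d60db6dfd7e6853849635813a910060e34818589cc4d83082a59528a922932a31514a8854224084242225042829fe42dc78f0b786583305153669dfcd4a78a3dc1e38f72fdc7e01b30fce6cf3d14475f530fd3f32ec1f6a6cb1802a58f1a77e2f99e5d2ea7893c405b03165142889edcf6c1880c79458f4a8240cf867433218a27e15ecaf45790c38634a0010f08693fca1a5100b685acf2057328629e6138eba76cb1e5960ee9630aa555107f41cb3861fc4be242625ad2e8d804ab42c47b61e62cb0848b284a12c99b4cf2c3d381b31f4f4eba18690b5087c7da76a1a7cf947d72ea9a71926754614285d69e67f477a078e987c7524a085dc828413790847307cc4ef8a045e644d5169fe07dea833fd9bb48566eb2261ba8dd21692a99bd4de86433791bc45966f02b59bb827264f3108f743c2692306189c7b81e00ef878cb242102c896403fc58f3b61d38740cad70c8b8863620b12489b4490a2351113514424cf87baeb983d1154ceaeb613d1103461bf85586fd0a59c042f470042819ecf7ecb8498bb109a636e,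
  nat_lit 0x5032d5a21d10f7689d9a14e73688e1752152ccf8642a04bc2d756571d64eb06803aab710d33116888c2dcf170f66cb9eed62482d48cb6e22370ab1d2b73122636d5de2ce93ea4455358df4dd06e72ef9a54e7644254a2491998e0088943807464713d31d494fa7c3141363d7a073a6fb372e2408ed14b9a8576f0aa5530d1184ed84804364d8342da5ad0ffdf149234bf1d08e8c6e637d1790df017b5541a28e4c9791f220d84a0832142a0c05122741608aec998b7d59cadf16f6b7a4ac8a318ee2905df32e5112aa55dfb1d17625b0111a2184b892811827a93d29e81e420d07becb25500d59b201c34198de10f82064419221490d095f73b24b54a772e5972852814a36d1720db26d82e61b5c8108be306a6088ba62631298907506221f69848c2260f0b80f3468660e0a0a2fd48305e23035adeaeef96b69d3d30645a56b917d47ee4d7a5bd293a099f30c8b408e4d61761b8bd6769c242f2cf45f4ebd55e42b53c2e8f1152e9cdba6dc2eb9744b9e5ce1d8a075c42f8380eb55993c7ad3e78ef5b5c1eb449224512088f44722351181ed1de1c40e1e70e3869c30e164f0,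
  nat_lit 0x4322ba5a0ac131d59940c72bbd5f9be30b5ac3173738e588c2ea24d8bc85d0e8181c8b8d99ac826c4c1b1beb02b58cba598902f117dc014bcc22d3ee0b7963ce5145d35c4c0ef4680838e8f3e24a4d62af56d8b354810d48fa2f9b4fea4bc7f4f727e2b8d1692b2a5283a2064af385cdb69de9ac0a576bce61bcce082019cdac0fcc7bd43a500ad0c30b3098e2f0d786c8d50c92f297ad3d64ca83135c7b821290f356812545536609882b8253e2ea26f587743e2ba049632c48ca94b1d8253491e1f20e01241278b0d75bbb0518ce5277287643b62cd45306f91464d24510e19176f487d7bf5936cb8586623a859823b4d2ab6c91aada0f7a29c68099e45a26707d61e52d4884c29a5a72d30f3d54675155b1d0ddf6fa3889b1d871c3c9590a4f9cf03ca1551541280d463a2b18d8542b66bd35e481c3b96bc0ac14f03234c626d6122b265712730b5881c2188ed0bc6559657b29cdca69333eb6fcfd67e242c2af90c040d71439717546966092afceae8d587d1cd562c914598af30cc8ff8619b3fc5f0bc5624a849da6e446ae8bd9da45176c91b45f743895e5af34dc6260,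
  nat_lit 0x7730931d4239f6292a013c6370539a9c94e221b50509c5412a085038a4854a2014f7228535adb05b788594d2a685338ce94cca477791d6d456a7c7f2bbda14ceda1a69da61285eb594c3352b4ea338eacd8e40df13033a751b622843086cc536d04681b405a0086623b095492ecf249cbab1ee6bf42138d38574ced6762e1056844413e2fc50ca3d45cb91ec8fa46624f8e799de738677430924ad6571d8834e6ecbe19a24318de7e852a2779dc28da5b440a9c14b2e43d8e0d19e48e187220518acc45898979598be075f3b58ede69a7632addf76d543489dcdac62c91b63750422374867433d91305654b8880630b3e73f2f544be4326493a4df12f985923aa99170556b48c5d8fedaa7453e514d48e74730e048d2bc3483c18985640366b90a056e25b5da08fd766bb212c8a98e55092886293dd40ecd332c1251662644c52bb15d62314c88ac55d4a9263dbfbc448c8a4f23afd8b0661331be81ccec5a62f3a91b0d0df57f22ad6dca8d690083843c8f018e2dc9a16d0a24e8c485302b8173246da10d076830df86ce1d548b922522c9154f2b69572081571b2b11c60e91,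
  nat_lit 0x4e526c9256b4a5cc2f4dfec2563e2c2356608c01b0912db7cb92464448c7e836456b42fa02ccaa7a239f5e4aac26d9253860af3d26c93ae16a49e3e11cf5b94a3d107c42a168ede7742ca1646f7411f2f020e10453b52f12086c546e3a92e002d9f7f711a94fea3b411b1f89a0e247a9a4a5cdad1050a31a88f2de1565b48d13889b24890bd1308975193614f24d147f33c19d4a2a3608bed9e3062f31718b0c5662a31498a0c1660a60c3654ec707a3232f09574a4239643b480b07d80f430da8a4d781dc1ed3709bc80e0d6e2010e47c036d07849c3403a70478266032f99789ec1dc2b4c215bdeb774df1821a1a4dc230b7b5be485a6119ef51dc869434219c69266b0d91189ca04507a4acb5d70c563909c2110488010e21fd0fc87d438a2a92fa97c469a3490de68d4afb8ddb1c61d8003995018662864acd1e143f86642e2d15c8ad4562ac90e6985557a01955caad3b2b3a85e83976e4a0dc7e439d5b1b83148ab655afba6981648051b3035d5aab43df313c55ecfb1f4293903512146ba3616409b74bc08f0fc2c2c146b9e46ecca1581238194ae0542daa285fc2fc,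
  nat_lit 0x60abfc620699265fb3ad472b825b8402622e3de51017a08b67b05f931c87a238b8798e15df10a18503f29832b997759d01c2aeb63ed89c97bad3f5ba174d28ce06427bdfd828e9c3292ae5be6e455c52e24a364126ab9f9189ac3d5a030f971aaff706ae8cdaafd37d59d2d6b70b9454a4e0dac30c209b255de240719bb3a5f3e7f51eaa8dd8184e4239acb09a2fa1720356089ce8e1001fa52083305ac39cdb7885c70233392a89677fbbc10eea8fe204bac04fcb0c636b1b18d6b1d4fb3e04b5ee2e71641657ceb1b7c14128f2869e3fb3f04a32faa7dba8e144e54f78136ae07a9687b0c14d60a7ff58bbd7e0f290f621914d82e82f143b1c0fc0e4f41740c5906d376a9286d1e6e1682423c84aef141ca2a304dc3023d023fc8aee7722a9dad9caf856bf98ea060d172741399c204dd78e386c6a0f214ff41ad88eeca870c0d5b6add2656409dbab0ee57eb768d10f343ca9d88f36dee69b3cc13d8e7062c8c298e69aa81134d1a5af3f5b32801a3c2a4406a69d974ef55fea3c5cf6e7a7c793d55eb08e27c3e6573ce137fcb799dfd0662abab4d68b0d170927493a2908,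
  nat_lit 0x7d838f60fec4a81c3d09938a995aa34854bedb9270b88ca647a37e80bdd91ed4464c1c6dd244ea26f34f5cd63551fa90ed0307fd5473f21b347277b4c191022b0649e8f39934d4d6ef42c9488d743ea1ec888f02141390d0866bd838f97a44e0a74391b3f19b05281948d7c65638d7bc2978594a1d821408dcaa86e84aa0ecdc87aa4131ed17747747dfbf5e146dfc4098a218c50692b115b4d030063bbaf04da8d307d933dc7107724882149aaaba919cbacc7f252e873acad25cbd77fd0fd8e0890d60ea151994f935432dd9230d6e5b52a0901d1145af1ea4fa4cd97e1922cabe48624219a0860b154969c65c22bff44532f5cc8ccb6ad3c75992ee05d635f5a78acd2b1bc2158ab757edbeb1dc44a5153bac8a34a8f7f98d08f80b41587b3e519c69d26ac1b610ebdb69f3b5c5162a152ba9ed6fc6871d23265dc67fa0cf0684bdc19c0d02089d6839b7a03469d5c3683c61fdd2f65ef3de1e4de06fd54141c603aefa6367141a149074154ade4eb8cb75b8baa17b8c5057c3699b6652272a2b9d85aee77809e09dd90b83d59f397becd130d992192275e779bbddb048d4,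
  nat_lit 0x1b52624caad2512ea02d794e7c2412b649dccc33433f1d1c43fb122090875463c56c2c455c8b62799c22a08302961131020ec2455a8ad3969a23d3e4aff07fc35a197a2a1d0838430b88adb9037a1b913606ccd7323d302580eb5271aad5dc98c084cb106042a26381b9e69db8d5b6eba9590ba34168ca5cdeead535a435b1ebd04b82730ca1504967058afc538aa41f743acd065d65dd8a293b69dc468a54d612b0b73126c5cb4e9757a2ea1bbe303817bef1c4af316512c9531e98e3922bf058ec414391eb913c3791c522f114046345c22dc3e08b645ab389b7a2c36ddb6e9276c1b43a0cd4e4a6891f8ac687e70ec724ae20e5696e2293001af62be15e2561b40c4e6ac8ab89e8937862abee1b85671ae35c8e3461e0c8ba783bc2472d5a5b55343d6278a66e1e098d1b8b59a1fee1c17625c543cc3f5bfb3151c2d3385e336d5cb0615689c1536709766008d542c72872cb191a58d39493a805320d386609f5585cc556e815a1bf449c20894b4a5847c56eae59e50f0f2b09574ab82ee74a96b900044a68d9ca449af9d76391add5ef715381f12118d99412bb7d47cbe3,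
  nat_lit 0x7f220e170cd287a7aa88fb2fbd7463a36032b817673cb9a44f12279a810808a6038f1c703269576e1bcac5c2a436cdad1cbbd00a6e8b081bca5b13421a08cce66668ab171e3ee4e4f83839ce853881a3579f8cc3579b90b9efc4ec29ab0f1a76c247bb41e19284df46e28d50090281abbdb5abe943236b5898beb9a7c81945adece778d28b96daf471602b385d665356fba195d0cdf4ccbc65a1c6851a7bd89718df05b0c3415569454f3a98dc1eb434f033c601e525809bdae0d509379699a58cf05c173bd39ec6f50625c161e4c4466953db1462ab874fc3895f504f4094135f34e901a2b43d4ba93f597b1b8c76c5321e8c35078f3e6c1b2cdea90bb6782b9936866a7adc0e990a8c2461ab49e750505013ff57d8b943d8b0bde990992909f4d26af3271024ea18063f8261ed55f23656c536220baa4d1952580ed0e576ce21c1c66ca081f38f9792f654a82699c2e4927340948e447062341c0ce0487521c2554718dce4fa37354c22c81162488be875021b90d8ce842d3268654bd45e72f28631a2292a4992b1e1a63d26ff4119948e274b8262e1309471bdb52d530920,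
  nat_lit 0x5ea32210c4b5352c8d31772fd473b3e49bb6b83509c259b42fbe3e31f8d234de83b3be21666b187cbb2ed852a52693a98a1eaaca632b79d78ef9e79635260cb0ea80db788c3e61c67990f07d89634b125852bc6204aea5714982141f13206034e5f60826196b8d7e703ada5a8f08126740fe1ba32822c256dbe8e897f19fbcfbacd261bbd716b23f0655c1a171cadc5ff1fb17ea65b5b03dbd34296a62da5a5909012831b359f0cf118608d2defb0475db3dc1b44e4a6e7a3799f464e326192cc94eab73f9fc196ae802a8b4b993e56c499c201ce4c87883345a17ef437131e90c8a64430c1855c650547b00e1dc827314a21228886e1d6923a6549445c5603ddd20a9063b229562165271aca5bd9fce0367ea18c6d6d1251314ea15cffc622b11188442c5f52fa57d09015fdbc319363ea129c1de04ae4b6cec3512c8b0324621b6030d764d435f20a46416a139c601cffe7e49cca006ca342b1dc50aef053c3af38bdad8c5181b49a5efda698ac049ace22789b3094fcd8d32cb14545e3604a4bb32110cc7414b962232ac8435b235c02a1122a441debaae04d4b3796147af,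
  nat_lit 0x66e391e1b686a7c73d91b4707c276bda20eae315e7bcd9ab902c48fbec5f708d0654233192ecd07cb2e71a80f3b837bfa1e1286c7aab2d1f50db743b8d79bb2de97308f8df4b0206eeb275ecef2088fbd45e3c2417d73201340dd67fa4099a6af106a0ac5213a94c1202549e5f015865bda96baf6e6d8b9a5e1ce3c4a7baa535e65c32d1960cae35382fc329e1af9522cb175a98c0f7bcc0f1a74df767226eddff07e6f037fd7d709b7153a2de54e9b863b4adae0ddc5e44269b4900d5320d89bd8dd378dbe120b50ac66ac39a1c69ba7e13f11bd4de480a36b5b5ee425a340c99cca5b82bb679744e467faa94d722e434cc36b1c90f8d66a3e46210df98372b789dee6072dc19d1bef3c6632d30e667303979cb89e472d528c31a1130c47e5ad11a949ae669b6a1918d1c7334355189033845bdf1978e6c4d1c0121cb10249a3a51f0f0177bdbf39592c0e8123658a4051f28f1598aca51d2b23c1dfbafd27f53f65fbcfd887f3c594b4fb47803ece23cef44b9205d002fa47d13bf1f4ebe47e7bee4f007817e8b47dcd4fe05d79fb5f5a50e287941cfdcefd7f39e8574cb87,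
  nat_lit 0x505a80d3fe9fc4fda7e93f29f84fba7cd3e49ef4f6a7ad3cc9e24ed27653aa9d44e7a73939a9cb4e4a70137e9b94d5a6893349974caa6513109874bba5b12cc94149b24992428f747b23d11c88e346ea2e514889f44ea26913289444221e5074839418a0b105681b3ff1ff0f3a78639f9bdcde66ef35a1a9cd4c6a43519a80d2869034799f8cf06723389974cac6352fe1740b8e5bd2de16a0b325862bf9578aa854e2a69530a905472a09500a7e53b29c94d8a6853329894c0a545292919470a265122859428a125082819408a024fe27e93ec98e4c6262930c9844c126012fc97c4bd25e12ec9744b925c12dc96c4b525a12cc9644b125812bc95c4ad25612ac9544a9254129c94c46e228913c8744352080ff074237f1990cc465c32d1938c986483091720b645b02d716b0b4c5a42cf13b07e5bb0d266fc3f7e1064e06c5ae7dfd29b07b313a5ad4f156d4b78c6c681673aa00923af0b7ce44054b900b70f1f406bae8774144120a2e853d63b6dea50605cea6f51628b0729bfedd06feb68ea4719c301f694c16c7fa4646b2287db30d6887a4209ffee3f70fb8adcbae29,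
  nat_lit 0xc5761a30c17acbd25caad55696b3c59c2cdd664b045802bdd5ecaf35782b8d5aaad45682b3d582a9e54eaa714eca6c532a961454a2950e2865430a0f]
noncomputable def K : List (List (ℕ)) := [K_0]
noncomputable def R_0 : List (Rule) := [Rule.mk (nat_lit 4) (nat_lit 62) (Steps.bwd (nat_lit 8) (Steps.bwd (nat_lit 3) (Steps.fwd (nat_lit 65536) Steps.nil))) (nat_lit 80) (nat_lit 1),
  Rule.mk (nat_lit 8) (nat_lit 94) (Steps.bwd (nat_lit 8) (Steps.bwd (nat_lit 1) (Steps.bwd (nat_lit 1) (Steps.bwd (nat_lit 1) (Steps.bwd (nat_lit 1) Steps.nil))))) (nat_lit 79) (nat_lit 5),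
  Rule.mk (nat_lit 1) (nat_lit 94) (Steps.fwd (nat_lit 65536) (Steps.fwd (nat_lit 8192) (Steps.fwd (nat_lit 8192) (Steps.fwd (nat_lit 8192) (Steps.bwd (nat_lit 8) Steps.nil))))) (nat_lit 82) (nat_lit 2),
  Rule.mk (nat_lit 10) (nat_lit 110) (Steps.bwd (nat_lit 9) (Steps.bwd (nat_lit 10) (Steps.fwd (nat_lit 24576) (Steps.fwd (nat_lit 114688) (Steps.fwd (nat_lit 24576) (Steps.fwd (nat_lit 73728) Steps.nil)))))) (nat_lit 60) (nat_lit 2),
  Rule.mk (nat_lit 16) (nat_lit 110) (Steps.bwd (nat_lit 9) (Steps.fwd (nat_lit 131072) (Steps.bwd (nat_lit 14) (Steps.fwd (nat_lit 24576) (Steps.fwd (nat_lit 24576) (Steps.fwd (nat_lit 73728) Steps.nil)))))) (nat_lit 64) (nat_lit 2),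
  Rule.mk (nat_lit 18) (nat_lit 110) (Steps.bwd (nat_lit 9) (Steps.bwd (nat_lit 16) (Steps.fwd (nat_lit 81920) (Steps.bwd (nat_lit 14) (Steps.fwd (nat_lit 81920) (Steps.fwd (nat_lit 73728) Steps.nil)))))) (nat_lit 66) (nat_lit 2),
  Rule.mk (nat_lit 14) (nat_lit 110) (Steps.fwd (nat_lit 81920) (Steps.bwd (nat_lit 9) (Steps.bwd (nat_lit 18) (Steps.fwd (nat_lit 73728) (Steps.bwd (nat_lit 16) (Steps.fwd (nat_lit 81920) Steps.nil)))))) (nat_lit 66) (nat_lit 6),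
  Rule.mk (nat_lit 3) (nat_lit 110) (Steps.bwd (nat_lit 9) (Steps.bwd (nat_lit 16) (Steps.bwd (nat_lit 16) (Steps.bwd (nat_lit 14) (Steps.fwd (nat_lit 81920) (Steps.fwd (nat_lit 73728) Steps.nil)))))) (nat_lit 70) (nat_lit 2),
  Rule.mk (nat_lit 6) (nat_lit 62) (Steps.bwd (nat_lit 3) (Steps.bwd (nat_lit 14) (Steps.fwd (nat_lit 24576) Steps.nil))) (nat_lit 14) (nat_lit 3),
  Rule.mk (nat_lit 12) (nat_lit 78) (Steps.bwd (nat_lit 1) (Steps.bwd (nat_lit 10) (Steps.bwd (nat_lit 10) (Steps.fwd (nat_lit 8192) Steps.nil)))) (nat_lit 42) (nat_lit 2),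
  Rule.mk (nat_lit 18) (nat_lit 78) (Steps.bwd (nat_lit 1) (Steps.fwd (nat_lit 147456) (Steps.fwd (nat_lit 147456) (Steps.fwd (nat_lit 8192) Steps.nil)))) (nat_lit 48) (nat_lit 2),
  Rule.mk (nat_lit 14) (nat_lit 110) (Steps.bwd (nat_lit 1) (Steps.fwd (nat_lit 131072) (Steps.fwd (nat_lit 81920) (Steps.bwd (nat_lit 14) (Steps.bwd (nat_lit 14) (Steps.fwd (nat_lit 8192) Steps.nil)))))) (nat_lit 44) (nat_lit 2),
  Rule.mk (nat_lit 1) (nat_lit 206) (Steps.bwd (nat_lit 1) (Steps.bwd (nat_lit 9) (Steps.bwd (nat_lit 16) (Steps.fwd (nat_lit 147456) (Steps.fwd (nat_lit 81920) (Steps.fwd (nat_lit 8192) (Steps.bwd (nat_lit 3) (Steps.fwd (nat_lit 8192) (Steps.fwd (nat_lit 24576) (Steps.fwd (nat_lit 24576) (Steps.fwd (nat_lit 8192) (Steps.fwd (nat_lit 73728) Steps.nil)))))))))))) (nat_lit 68) (nat_lit 2),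
  Rule.mk (nat_lit 18) (nat_lit 62) (Steps.bwd (nat_lit 17) (Steps.fwd (nat_lit 147456) (Steps.fwd (nat_lit 139264) Steps.nil))) (nat_lit 30) (nat_lit 0),
  Rule.mk (nat_lit 13) (nat_lit 62) (Steps.bwd (nat_lit 17) (Steps.bwd (nat_lit 12) (Steps.fwd (nat_lit 139264) Steps.nil))) (nat_lit 38) (nat_lit 1),
  Rule.mk (nat_lit 15) (nat_lit 78) (Steps.bwd (nat_lit 17) (Steps.bwd (nat_lit 14) (Steps.fwd (nat_lit 139264) (Steps.bwd (nat_lit 18) Steps.nil)))) (nat_lit 40) (nat_lit 1),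
  Rule.mk (nat_lit 11) (nat_lit 158) (Steps.bwd (nat_lit 17) (Steps.fwd (nat_lit 8192) (Steps.bwd (nat_lit 9) (Steps.fwd (nat_lit 114688) (Steps.fwd (nat_lit 73728) (Steps.bwd (nat_lit 3) (Steps.bwd (nat_lit 3) (Steps.bwd (nat_lit 1) (Steps.bwd (nat_lit 12) Steps.nil))))))))) (nat_lit 63) (nat_lit 5),
  Rule.mk (nat_lit 5) (nat_lit 30) (Steps.bwd (nat_lit 11) Steps.nil) (nat_lit 11) (nat_lit 1),
  Rule.mk (nat_lit 6) (nat_lit 30) (Steps.bwd (nat_lit 10) Steps.nil) (nat_lit 10) (nat_lit 0),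
  Rule.mk (nat_lit 19) (nat_lit 62) (Steps.bwd (nat_lit 10) (Steps.bwd (nat_lit 18) (Steps.fwd (nat_lit 81920) Steps.nil))) (nat_lit 24) (nat_lit 2),
  Rule.mk (nat_lit 12) (nat_lit 78) (Steps.bwd (nat_lit 10) (Steps.bwd (nat_lit 18) (Steps.bwd (nat_lit 13) (Steps.fwd (nat_lit 81920) Steps.nil)))) (nat_lit 18) (nat_lit 4),
  Rule.mk (nat_lit 15) (nat_lit 94) (Steps.bwd (nat_lit 10) (Steps.fwd (nat_lit 122880) (Steps.bwd (nat_lit 18) (Steps.bwd (nat_lit 18) (Steps.fwd (nat_lit 81920) Steps.nil))))) (nat_lit 32) (nat_lit 2),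
  Rule.mk (nat_lit 16) (nat_lit 94) (Steps.bwd (nat_lit 10) (Steps.bwd (nat_lit 18) (Steps.bwd (nat_lit 18) (Steps.bwd (nat_lit 17) (Steps.bwd (nat_lit 11) Steps.nil))))) (nat_lit 35) (nat_lit 5),
  Rule.mk (nat_lit 18) (nat_lit 62) (Steps.bwd (nat_lit 17) (Steps.bwd (nat_lit 19) (Steps.fwd (nat_lit 139264) Steps.nil))) (nat_lit 30) (nat_lit 0),
  Rule.mk (nat_lit 15) (nat_lit 78) (Steps.bwd (nat_lit 17) (Steps.fwd (nat_lit 122880) (Steps.fwd (nat_lit 139264) (Steps.bwd (nat_lit 18) Steps.nil)))) (nat_lit 40) (nat_lit 1),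
  Rule.mk (nat_lit 11) (nat_lit 94) (Steps.bwd (nat_lit 17) (Steps.bwd (nat_lit 10) (Steps.bwd (nat_lit 16) (Steps.bwd (nat_lit 19) (Steps.bwd (nat_lit 19) Steps.nil))))) (nat_lit 34) (nat_lit 1),
  Rule.mk (nat_lit 10) (nat_lit 78) (Steps.bwd (nat_lit 10) (Steps.fwd (nat_lit 90112) (Steps.bwd (nat_lit 10) (Steps.fwd (nat_lit 90112) Steps.nil)))) (nat_lit 20) (nat_lit 0),
  Rule.mk (nat_lit 17) (nat_lit 94) (Steps.bwd (nat_lit 10) (Steps.bwd (nat_lit 16) (Steps.bwd (nat_lit 19) (Steps.bwd (nat_lit 19) (Steps.fwd (nat_lit 81920) Steps.nil))))) (nat_lit 34) (nat_lit 2),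
  Rule.mk (nat_lit 12) (nat_lit 62) (Steps.bwd (nat_lit 2) (Steps.bwd (nat_lit 6) (Steps.bwd (nat_lit 1) Steps.nil))) (nat_lit 12) (nat_lit 1),
  Rule.mk (nat_lit 11) (nat_lit 142) (Steps.bwd (nat_lit 2) (Steps.fwd (nat_lit 139264) (Steps.bwd (nat_lit 1) (Steps.fwd (nat_lit 131072) (Steps.fwd (nat_lit 81920) (Steps.fwd (nat_lit 131072) (Steps.bwd (nat_lit 14) (Steps.bwd (nat_lit 12) Steps.nil)))))))) (nat_lit 46) (nat_lit 0),
  Rule.mk (nat_lit 19) (nat_lit 78) (Steps.bwd (nat_lit 11) (Steps.fwd (nat_lit 98304) (Steps.bwd (nat_lit 10) (Steps.bwd (nat_lit 12) Steps.nil)))) (nat_lit 19) (nat_lit 0),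
  Rule.mk (nat_lit 15) (nat_lit 78) (Steps.fwd (nat_lit 98304) (Steps.bwd (nat_lit 14) (Steps.bwd (nat_lit 12) (Steps.bwd (nat_lit 19) Steps.nil)))) (nat_lit 37) (nat_lit 2),
  Rule.mk (nat_lit 16) (nat_lit 110) (Steps.bwd (nat_lit 2) (Steps.bwd (nat_lit 15) (Steps.fwd (nat_lit 16384) (Steps.bwd (nat_lit 15) (Steps.bwd (nat_lit 15) (Steps.fwd (nat_lit 90112) Steps.nil)))))) (nat_lit 45) (nat_lit 4),
  Rule.mk (nat_lit 3) (nat_lit 126) (Steps.bwd (nat_lit 16) (Steps.fwd (nat_lit 90112) (Steps.bwd (nat_lit 16) (Steps.bwd (nat_lit 15) (Steps.fwd (nat_lit 98304) (Steps.fwd (nat_lit 24576) (Steps.bwd (nat_lit 12) Steps.nil))))))) (nat_lit 50) (nat_lit 3),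
  Rule.mk (nat_lit 1) (nat_lit 78) (Steps.bwd (nat_lit 10) (Steps.fwd (nat_lit 90112) (Steps.fwd (nat_lit 8192) (Steps.bwd (nat_lit 12) Steps.nil)))) (nat_lit 42) (nat_lit 3),
  Rule.mk (nat_lit 9) (nat_lit 190) (Steps.fwd (nat_lit 98304) (Steps.bwd (nat_lit 9) (Steps.bwd (nat_lit 12) (Steps.fwd (nat_lit 131072) (Steps.bwd (nat_lit 1) (Steps.bwd (nat_lit 14) (Steps.bwd (nat_lit 1) (Steps.bwd (nat_lit 1) (Steps.bwd (nat_lit 1) (Steps.fwd (nat_lit 73728) (Steps.bwd (nat_lit 12) Steps.nil))))))))))) (nat_lit 74) (nat_lit 3),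
  Rule.mk (nat_lit 1) (nat_lit 62) (Steps.bwd (nat_lit 13) (Steps.bwd (nat_lit 2) (Steps.fwd (nat_lit 49152) Steps.nil))) (nat_lit 13) (nat_lit 3),
  Rule.mk (nat_lit 18) (nat_lit 62) (Steps.bwd (nat_lit 13) (Steps.bwd (nat_lit 19) (Steps.fwd (nat_lit 106496) Steps.nil))) (nat_lit 26) (nat_lit 0),
  Rule.mk (nat_lit 16) (nat_lit 62) (Steps.bwd (nat_lit 13) (Steps.fwd (nat_lit 131072) (Steps.fwd (nat_lit 106496) Steps.nil))) (nat_lit 38) (nat_lit 0),
  Rule.mk (nat_lit 10) (nat_lit 78) (Steps.bwd (nat_lit 18) (Steps.bwd (nat_lit 13) (Steps.bwd (nat_lit 11) (Steps.fwd (nat_lit 106496) Steps.nil)))) (nat_lit 18) (nat_lit 0),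
  Rule.mk (nat_lit 14) (nat_lit 78) (Steps.bwd (nat_lit 18) (Steps.bwd (nat_lit 13) (Steps.bwd (nat_lit 15) (Steps.fwd (nat_lit 106496) Steps.nil)))) (nat_lit 36) (nat_lit 4),
  Rule.mk (nat_lit 2) (nat_lit 78) (Steps.bwd (nat_lit 13) (Steps.bwd (nat_lit 1) (Steps.bwd (nat_lit 11) (Steps.fwd (nat_lit 81920) Steps.nil)))) (nat_lit 43) (nat_lit 3),
  Rule.mk (nat_lit 3) (nat_lit 126) (Steps.bwd (nat_lit 16) (Steps.bwd (nat_lit 10) (Steps.bwd (nat_lit 16) (Steps.fwd (nat_lit 114688) (Steps.bwd (nat_lit 13) (Steps.fwd (nat_lit 24576) (Steps.fwd (nat_lit 106496) Steps.nil))))))) (nat_lit 50) (nat_lit 3),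
  Rule.mk (nat_lit 8) (nat_lit 94) (Steps.bwd (nat_lit 8) (Steps.bwd (nat_lit 1) (Steps.fwd (nat_lit 16384) (Steps.fwd (nat_lit 16384) (Steps.bwd (nat_lit 1) Steps.nil))))) (nat_lit 79) (nat_lit 5),
  Rule.mk (nat_lit 3) (nat_lit 62) (Steps.bwd (nat_lit 7) (Steps.fwd (nat_lit 24576) (Steps.fwd (nat_lit 57344) Steps.nil))) (nat_lit 80) (nat_lit 3),
  Rule.mk (nat_lit 2) (nat_lit 94) (Steps.bwd (nat_lit 7) (Steps.fwd (nat_lit 16384) (Steps.fwd (nat_lit 16384) (Steps.bwd (nat_lit 1) (Steps.bwd (nat_lit 8) Steps.nil))))) (nat_lit 83) (nat_lit 5),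
  Rule.mk (nat_lit 12) (nat_lit 62) (Steps.bwd (nat_lit 2) (Steps.fwd (nat_lit 40960) (Steps.bwd (nat_lit 1) Steps.nil))) (nat_lit 12) (nat_lit 1),
  Rule.mk (nat_lit 3) (nat_lit 94) (Steps.bwd (nat_lit 2) (Steps.fwd (nat_lit 8192) (Steps.fwd (nat_lit 24576) (Steps.bwd (nat_lit 1) (Steps.fwd (nat_lit 16384) Steps.nil))))) (nat_lit 6) (nat_lit 0),
  Rule.mk (nat_lit 1) (nat_lit 78) (Steps.fwd (nat_lit 90112) (Steps.bwd (nat_lit 10) (Steps.bwd (nat_lit 2) (Steps.bwd (nat_lit 12) Steps.nil)))) (nat_lit 42) (nat_lit 3),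
  Rule.mk (nat_lit 6) (nat_lit 62) (Steps.bwd (nat_lit 1) (Steps.fwd (nat_lit 106496) (Steps.fwd (nat_lit 8192) Steps.nil))) (nat_lit 12) (nat_lit 3),
  Rule.mk (nat_lit 12) (nat_lit 78) (Steps.bwd (nat_lit 1) (Steps.fwd (nat_lit 90112) (Steps.bwd (nat_lit 10) (Steps.fwd (nat_lit 8192) Steps.nil)))) (nat_lit 42) (nat_lit 2),
  Rule.mk (nat_lit 13) (nat_lit 78) (Steps.bwd (nat_lit 1) (Steps.fwd (nat_lit 81920) (Steps.fwd (nat_lit 81920) (Steps.fwd (nat_lit 8192) Steps.nil)))) (nat_lit 43) (nat_lit 4),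
  Rule.mk (nat_lit 4) (nat_lit 94) (Steps.bwd (nat_lit 1) (Steps.bwd (nat_lit 1) (Steps.bwd (nat_lit 3) (Steps.fwd (nat_lit 8192) (Steps.fwd (nat_lit 8192) Steps.nil))))) (nat_lit 6) (nat_lit 3),
  Rule.mk (nat_lit 14) (nat_lit 110) (Steps.bwd (nat_lit 1) (Steps.bwd (nat_lit 17) (Steps.bwd (nat_lit 11) (Steps.fwd (nat_lit 122880) (Steps.fwd (nat_lit 122880) (Steps.fwd (nat_lit 8192) Steps.nil)))))) (nat_lit 44) (nat_lit 2),
  Rule.mk (nat_lit 1) (nat_lit 126) (Steps.bwd (nat_lit 1) (Steps.bwd (nat_lit 1) (Steps.fwd (nat_lit 16384) (Steps.fwd (nat_lit 16384) (Steps.bwd (nat_lit 1) (Steps.fwd (nat_lit 16384) (Steps.bwd (nat_lit 1) Steps.nil))))))) (nat_lit 0) (nat_lit 0),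
  Rule.mk (nat_lit 16) (nat_lit 142) (Steps.bwd (nat_lit 1) (Steps.bwd (nat_lit 17) (Steps.bwd (nat_lit 11) (Steps.bwd (nat_lit 17) (Steps.fwd (nat_lit 122880) (Steps.bwd (nat_lit 12) (Steps.bwd (nat_lit 11) (Steps.fwd (nat_lit 8192) Steps.nil)))))))) (nat_lit 46) (nat_lit 2),
  Rule.mk (nat_lit 10) (nat_lit 110) (Steps.bwd (nat_lit 16) (Steps.fwd (nat_lit 8192) (Steps.bwd (nat_lit 15) (Steps.bwd (nat_lit 1) (Steps.fwd (nat_lit 114688) (Steps.fwd (nat_lit 114688) Steps.nil)))))) (nat_lit 45) (nat_lit 3),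
  Rule.mk (nat_lit 8) (nat_lit 94) (Steps.bwd (nat_lit 1) (Steps.bwd (nat_lit 1) (Steps.bwd (nat_lit 1) (Steps.bwd (nat_lit 1) (Steps.fwd (nat_lit 57344) Steps.nil))))) (nat_lit 79) (nat_lit 0),
  Rule.mk (nat_lit 9) (nat_lit 190) (Steps.fwd (nat_lit 106496) (Steps.bwd (nat_lit 9) (Steps.fwd (nat_lit 98304) (Steps.fwd (nat_lit 73728) (Steps.bwd (nat_lit 12) (Steps.fwd (nat_lit 131072) (Steps.bwd (nat_lit 1) (Steps.fwd (nat_lit 122880) (Steps.fwd (nat_lit 16384) (Steps.bwd (nat_lit 1) (Steps.bwd (nat_lit 1) Steps.nil))))))))))) (nat_lit 74) (nat_lit 1),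
  Rule.mk (nat_lit 7) (nat_lit 94) (Steps.bwd (nat_lit 7) (Steps.fwd (nat_lit 8192) (Steps.bwd (nat_lit 2) (Steps.fwd (nat_lit 8192) (Steps.bwd (nat_lit 2) Steps.nil))))) (nat_lit 78) (nat_lit 1),
  Rule.mk (nat_lit 2) (nat_lit 94) (Steps.bwd (nat_lit 7) (Steps.bwd (nat_lit 1) (Steps.bwd (nat_lit 1) (Steps.bwd (nat_lit 1) (Steps.fwd (nat_lit 57344) Steps.nil))))) (nat_lit 83) (nat_lit 5),
  Rule.mk (nat_lit 8) (nat_lit 94) (Steps.bwd (nat_lit 8) (Steps.bwd (nat_lit 1) (Steps.fwd (nat_lit 16384) (Steps.bwd (nat_lit 1) (Steps.bwd (nat_lit 1) Steps.nil))))) (nat_lit 79) (nat_lit 5),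
  Rule.mk (nat_lit 1) (nat_lit 94) (Steps.bwd (nat_lit 8) (Steps.bwd (nat_lit 2) (Steps.bwd (nat_lit 7) (Steps.fwd (nat_lit 16384) (Steps.fwd (nat_lit 16384) Steps.nil))))) (nat_lit 83) (nat_lit 3),
  Rule.mk (nat_lit 7) (nat_lit 94) (Steps.bwd (nat_lit 7) (Steps.bwd (nat_lit 2) (Steps.fwd (nat_lit 8192) (Steps.fwd (nat_lit 8192) (Steps.fwd (nat_lit 8192) Steps.nil))))) (nat_lit 78) (nat_lit 1)]
noncomputable def R_1 : List (Rule) := [Rule.mk (nat_lit 1) (nat_lit 94) (Steps.bwd (nat_lit 7) (Steps.bwd (nat_lit 2) (Steps.fwd (nat_lit 8192) (Steps.fwd (nat_lit 8192) (Steps.bwd (nat_lit 8) Steps.nil))))) (nat_lit 82) (nat_lit 2),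
  Rule.mk (nat_lit 8) (nat_lit 94) (Steps.bwd (nat_lit 8) (Steps.fwd (nat_lit 16384) (Steps.fwd (nat_lit 16384) (Steps.bwd (nat_lit 1) (Steps.fwd (nat_lit 16384) Steps.nil))))) (nat_lit 79) (nat_lit 5),
  Rule.mk (nat_lit 1) (nat_lit 94) (Steps.bwd (nat_lit 8) (Steps.fwd (nat_lit 57344) (Steps.fwd (nat_lit 16384) (Steps.bwd (nat_lit 1) (Steps.bwd (nat_lit 1) Steps.nil))))) (nat_lit 79) (nat_lit 4),
  Rule.mk (nat_lit 7) (nat_lit 94) (Steps.bwd (nat_lit 7) (Steps.fwd (nat_lit 8192) (Steps.fwd (nat_lit 8192) (Steps.fwd (nat_lit 8192) (Steps.bwd (nat_lit 2) Steps.nil))))) (nat_lit 78) (nat_lit 1),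
  Rule.mk (nat_lit 1) (nat_lit 94) (Steps.bwd (nat_lit 7) (Steps.fwd (nat_lit 8192) (Steps.fwd (nat_lit 8192) (Steps.fwd (nat_lit 8192) (Steps.bwd (nat_lit 8) Steps.nil))))) (nat_lit 82) (nat_lit 2),
  Rule.mk (nat_lit 4) (nat_lit 94) (Steps.bwd (nat_lit 1) (Steps.fwd (nat_lit 16384) (Steps.bwd (nat_lit 3) (Steps.bwd (nat_lit 2) (Steps.fwd (nat_lit 8192) Steps.nil))))) (nat_lit 6) (nat_lit 3),
  Rule.mk (nat_lit 1) (nat_lit 94) (Steps.bwd (nat_lit 1) (Steps.fwd (nat_lit 57344) (Steps.fwd (nat_lit 57344) (Steps.bwd (nat_lit 1) (Steps.bwd (nat_lit 1) Steps.nil))))) (nat_lit 79) (nat_lit 3),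
  Rule.mk (nat_lit 8) (nat_lit 94) (Steps.bwd (nat_lit 1) (Steps.fwd (nat_lit 16384) (Steps.fwd (nat_lit 16384) (Steps.bwd (nat_lit 1) (Steps.bwd (nat_lit 8) Steps.nil))))) (nat_lit 79) (nat_lit 0),
  Rule.mk (nat_lit 7) (nat_lit 94) (Steps.bwd (nat_lit 1) (Steps.fwd (nat_lit 16384) (Steps.fwd (nat_lit 16384) (Steps.bwd (nat_lit 8) (Steps.fwd (nat_lit 8192) Steps.nil))))) (nat_lit 83) (nat_lit 0),
  Rule.mk (nat_lit 7) (nat_lit 94) (Steps.bwd (nat_lit 7) (Steps.fwd (nat_lit 8192) (Steps.fwd (nat_lit 8192) (Steps.fwd (nat_lit 8192) (Steps.fwd (nat_lit 8192) Steps.nil))))) (nat_lit 78) (nat_lit 1),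
  Rule.mk (nat_lit 2) (nat_lit 94) (Steps.bwd (nat_lit 7) (Steps.bwd (nat_lit 1) (Steps.bwd (nat_lit 1) (Steps.bwd (nat_lit 1) (Steps.bwd (nat_lit 8) Steps.nil))))) (nat_lit 83) (nat_lit 5),
  Rule.mk (nat_lit 11) (nat_lit 30) (Steps.bwd (nat_lit 5) Steps.nil) (nat_lit 11) (nat_lit 0),
  Rule.mk (nat_lit 17) (nat_lit 62) (Steps.bwd (nat_lit 3) (Steps.bwd (nat_lit 5) (Steps.bwd (nat_lit 4) Steps.nil))) (nat_lit 17) (nat_lit 0),
  Rule.mk (nat_lit 15) (nat_lit 62) (Steps.bwd (nat_lit 4) (Steps.bwd (nat_lit 5) (Steps.fwd (nat_lit 32768) Steps.nil))) (nat_lit 15) (nat_lit 0),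
  Rule.mk (nat_lit 13) (nat_lit 62) (Steps.bwd (nat_lit 2) (Steps.bwd (nat_lit 5) (Steps.bwd (nat_lit 1) Steps.nil))) (nat_lit 13) (nat_lit 0),
  Rule.mk (nat_lit 17) (nat_lit 62) (Steps.bwd (nat_lit 12) (Steps.fwd (nat_lit 139264) (Steps.bwd (nat_lit 13) Steps.nil))) (nat_lit 38) (nat_lit 2),
  Rule.mk (nat_lit 10) (nat_lit 30) (Steps.bwd (nat_lit 6) Steps.nil) (nat_lit 10) (nat_lit 1),
  Rule.mk (nat_lit 10) (nat_lit 78) (Steps.bwd (nat_lit 2) (Steps.fwd (nat_lit 106496) (Steps.bwd (nat_lit 1) (Steps.bwd (nat_lit 10) Steps.nil)))) (nat_lit 42) (nat_lit 0),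
  Rule.mk (nat_lit 10) (nat_lit 78) (Steps.bwd (nat_lit 10) (Steps.fwd (nat_lit 90112) (Steps.bwd (nat_lit 10) (Steps.bwd (nat_lit 10) Steps.nil)))) (nat_lit 20) (nat_lit 0),
  Rule.mk (nat_lit 4) (nat_lit 62) (Steps.bwd (nat_lit 16) (Steps.bwd (nat_lit 3) (Steps.bwd (nat_lit 6) Steps.nil))) (nat_lit 16) (nat_lit 0),
  Rule.mk (nat_lit 17) (nat_lit 62) (Steps.bwd (nat_lit 3) (Steps.fwd (nat_lit 49152) (Steps.bwd (nat_lit 4) Steps.nil))) (nat_lit 17) (nat_lit 0),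
  Rule.mk (nat_lit 1) (nat_lit 94) (Steps.bwd (nat_lit 1) (Steps.bwd (nat_lit 3) (Steps.bwd (nat_lit 2) (Steps.bwd (nat_lit 2) (Steps.fwd (nat_lit 24576) Steps.nil))))) (nat_lit 6) (nat_lit 4),
  Rule.mk (nat_lit 17) (nat_lit 62) (Steps.fwd (nat_lit 32768) (Steps.fwd (nat_lit 49152) (Steps.bwd (nat_lit 4) Steps.nil))) (nat_lit 17) (nat_lit 0),
  Rule.mk (nat_lit 16) (nat_lit 62) (Steps.bwd (nat_lit 12) (Steps.bwd (nat_lit 17) (Steps.bwd (nat_lit 13) Steps.nil))) (nat_lit 39) (nat_lit 3),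
  Rule.mk (nat_lit 13) (nat_lit 62) (Steps.bwd (nat_lit 17) (Steps.bwd (nat_lit 12) (Steps.bwd (nat_lit 16) Steps.nil))) (nat_lit 38) (nat_lit 1),
  Rule.mk (nat_lit 17) (nat_lit 62) (Steps.bwd (nat_lit 12) (Steps.bwd (nat_lit 16) (Steps.fwd (nat_lit 98304) Steps.nil))) (nat_lit 38) (nat_lit 2),
  Rule.mk (nat_lit 2) (nat_lit 62) (Steps.bwd (nat_lit 5) (Steps.bwd (nat_lit 1) (Steps.bwd (nat_lit 13) Steps.nil))) (nat_lit 13) (nat_lit 1),
  Rule.mk (nat_lit 3) (nat_lit 62) (Steps.bwd (nat_lit 14) (Steps.bwd (nat_lit 4) (Steps.bwd (nat_lit 6) Steps.nil))) (nat_lit 14) (nat_lit 0),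
  Rule.mk (nat_lit 15) (nat_lit 62) (Steps.bwd (nat_lit 4) (Steps.fwd (nat_lit 49152) (Steps.bwd (nat_lit 3) Steps.nil))) (nat_lit 15) (nat_lit 0),
  Rule.mk (nat_lit 1) (nat_lit 94) (Steps.bwd (nat_lit 1) (Steps.bwd (nat_lit 4) (Steps.bwd (nat_lit 2) (Steps.bwd (nat_lit 2) (Steps.fwd (nat_lit 32768) Steps.nil))))) (nat_lit 7) (nat_lit 5),
  Rule.mk (nat_lit 1) (nat_lit 62) (Steps.bwd (nat_lit 12) (Steps.bwd (nat_lit 2) (Steps.bwd (nat_lit 6) Steps.nil))) (nat_lit 12) (nat_lit 0),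
  Rule.mk (nat_lit 2) (nat_lit 78) (Steps.bwd (nat_lit 12) (Steps.fwd (nat_lit 16384) (Steps.bwd (nat_lit 10) (Steps.bwd (nat_lit 10) Steps.nil)))) (nat_lit 42) (nat_lit 1),
  Rule.mk (nat_lit 8) (nat_lit 94) (Steps.bwd (nat_lit 8) (Steps.bwd (nat_lit 1) (Steps.fwd (nat_lit 16384) (Steps.fwd (nat_lit 16384) (Steps.fwd (nat_lit 16384) Steps.nil))))) (nat_lit 79) (nat_lit 5),
  Rule.mk (nat_lit 2) (nat_lit 94) (Steps.bwd (nat_lit 7) (Steps.fwd (nat_lit 16384) (Steps.fwd (nat_lit 16384) (Steps.fwd (nat_lit 16384) (Steps.bwd (nat_lit 8) Steps.nil))))) (nat_lit 83) (nat_lit 5),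
  Rule.mk (nat_lit 4) (nat_lit 62) (Steps.bwd (nat_lit 7) (Steps.bwd (nat_lit 3) (Steps.bwd (nat_lit 8) Steps.nil))) (nat_lit 81) (nat_lit 2),
  Rule.mk (nat_lit 8) (nat_lit 62) (Steps.fwd (nat_lit 32768) (Steps.fwd (nat_lit 65536) (Steps.bwd (nat_lit 4) Steps.nil))) (nat_lit 80) (nat_lit 2),
  Rule.mk (nat_lit 1) (nat_lit 94) (Steps.bwd (nat_lit 1) (Steps.bwd (nat_lit 3) (Steps.bwd (nat_lit 2) (Steps.fwd (nat_lit 8192) (Steps.bwd (nat_lit 4) Steps.nil))))) (nat_lit 6) (nat_lit 4),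
  Rule.mk (nat_lit 2) (nat_lit 62) (Steps.bwd (nat_lit 5) (Steps.bwd (nat_lit 1) (Steps.fwd (nat_lit 98304) Steps.nil))) (nat_lit 13) (nat_lit 1),
  Rule.mk (nat_lit 3) (nat_lit 62) (Steps.bwd (nat_lit 7) (Steps.bwd (nat_lit 4) (Steps.bwd (nat_lit 8) Steps.nil))) (nat_lit 80) (nat_lit 3),
  Rule.mk (nat_lit 8) (nat_lit 62) (Steps.fwd (nat_lit 24576) (Steps.fwd (nat_lit 65536) (Steps.bwd (nat_lit 3) Steps.nil))) (nat_lit 81) (nat_lit 1),
  Rule.mk (nat_lit 1) (nat_lit 94) (Steps.bwd (nat_lit 1) (Steps.bwd (nat_lit 4) (Steps.bwd (nat_lit 2) (Steps.fwd (nat_lit 8192) (Steps.bwd (nat_lit 3) Steps.nil))))) (nat_lit 7) (nat_lit 5),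
  Rule.mk (nat_lit 13) (nat_lit 62) (Steps.bwd (nat_lit 2) (Steps.fwd (nat_lit 49152) (Steps.bwd (nat_lit 1) Steps.nil))) (nat_lit 13) (nat_lit 0),
  Rule.mk (nat_lit 1) (nat_lit 78) (Steps.fwd (nat_lit 81920) (Steps.bwd (nat_lit 11) (Steps.bwd (nat_lit 2) (Steps.bwd (nat_lit 13) Steps.nil)))) (nat_lit 43) (nat_lit 0),
  Rule.mk (nat_lit 12) (nat_lit 78) (Steps.bwd (nat_lit 1) (Steps.bwd (nat_lit 10) (Steps.fwd (nat_lit 90112) (Steps.fwd (nat_lit 8192) Steps.nil)))) (nat_lit 42) (nat_lit 2),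
  Rule.mk (nat_lit 1) (nat_lit 126) (Steps.bwd (nat_lit 1) (Steps.bwd (nat_lit 1) (Steps.fwd (nat_lit 16384) (Steps.fwd (nat_lit 16384) (Steps.fwd (nat_lit 16384) (Steps.fwd (nat_lit 16384) (Steps.bwd (nat_lit 1) Steps.nil))))))) (nat_lit 0) (nat_lit 0),
  Rule.mk (nat_lit 17) (nat_lit 62) (Steps.bwd (nat_lit 13) (Steps.fwd (nat_lit 139264) (Steps.bwd (nat_lit 12) Steps.nil))) (nat_lit 39) (nat_lit 1),
  Rule.mk (nat_lit 12) (nat_lit 62) (Steps.bwd (nat_lit 16) (Steps.bwd (nat_lit 13) (Steps.bwd (nat_lit 17) Steps.nil))) (nat_lit 38) (nat_lit 3),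
  Rule.mk (nat_lit 17) (nat_lit 62) (Steps.bwd (nat_lit 13) (Steps.bwd (nat_lit 16) (Steps.fwd (nat_lit 106496) Steps.nil))) (nat_lit 39) (nat_lit 1),
  Rule.mk (nat_lit 12) (nat_lit 62) (Steps.fwd (nat_lit 139264) (Steps.fwd (nat_lit 98304) (Steps.bwd (nat_lit 17) Steps.nil))) (nat_lit 38) (nat_lit 3),
  Rule.mk (nat_lit 13) (nat_lit 62) (Steps.bwd (nat_lit 16) (Steps.bwd (nat_lit 12) (Steps.bwd (nat_lit 17) Steps.nil))) (nat_lit 39) (nat_lit 2),
  Rule.mk (nat_lit 17) (nat_lit 62) (Steps.bwd (nat_lit 12) (Steps.bwd (nat_lit 16) (Steps.bwd (nat_lit 13) Steps.nil))) (nat_lit 38) (nat_lit 2),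
  Rule.mk (nat_lit 13) (nat_lit 62) (Steps.bwd (nat_lit 17) (Steps.fwd (nat_lit 106496) (Steps.bwd (nat_lit 16) Steps.nil))) (nat_lit 38) (nat_lit 1),
  Rule.mk (nat_lit 12) (nat_lit 62) (Steps.bwd (nat_lit 17) (Steps.fwd (nat_lit 98304) (Steps.fwd (nat_lit 139264) Steps.nil))) (nat_lit 39) (nat_lit 0),
  Rule.mk (nat_lit 16) (nat_lit 62) (Steps.bwd (nat_lit 13) (Steps.fwd (nat_lit 131072) (Steps.bwd (nat_lit 12) Steps.nil))) (nat_lit 38) (nat_lit 0),
  Rule.mk (nat_lit 12) (nat_lit 62) (Steps.bwd (nat_lit 17) (Steps.bwd (nat_lit 13) (Steps.bwd (nat_lit 16) Steps.nil))) (nat_lit 39) (nat_lit 0),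
  Rule.mk (nat_lit 12) (nat_lit 62) (Steps.bwd (nat_lit 16) (Steps.bwd (nat_lit 13) (Steps.fwd (nat_lit 131072) Steps.nil))) (nat_lit 38) (nat_lit 3),
  Rule.mk (nat_lit 11) (nat_lit 78) (Steps.bwd (nat_lit 2) (Steps.bwd (nat_lit 13) (Steps.bwd (nat_lit 1) (Steps.bwd (nat_lit 11) Steps.nil)))) (nat_lit 43) (nat_lit 2),
  Rule.mk (nat_lit 11) (nat_lit 78) (Steps.bwd (nat_lit 11) (Steps.fwd (nat_lit 81920) (Steps.bwd (nat_lit 11) (Steps.bwd (nat_lit 11) Steps.nil)))) (nat_lit 21) (nat_lit 0),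
  Rule.mk (nat_lit 1) (nat_lit 78) (Steps.bwd (nat_lit 11) (Steps.bwd (nat_lit 11) (Steps.fwd (nat_lit 8192) (Steps.fwd (nat_lit 98304) Steps.nil)))) (nat_lit 43) (nat_lit 0),
  Rule.mk (nat_lit 2) (nat_lit 78) (Steps.fwd (nat_lit 106496) (Steps.bwd (nat_lit 1) (Steps.fwd (nat_lit 90112) (Steps.bwd (nat_lit 10) Steps.nil)))) (nat_lit 42) (nat_lit 1),
  Rule.mk (nat_lit 1) (nat_lit 62) (Steps.bwd (nat_lit 13) (Steps.fwd (nat_lit 8192) (Steps.bwd (nat_lit 5) Steps.nil))) (nat_lit 13) (nat_lit 3),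
  Rule.mk (nat_lit 5) (nat_lit 62) (Steps.bwd (nat_lit 1) (Steps.bwd (nat_lit 13) (Steps.fwd (nat_lit 8192) Steps.nil))) (nat_lit 13) (nat_lit 2),
  Rule.mk (nat_lit 1) (nat_lit 62) (Steps.fwd (nat_lit 98304) (Steps.fwd (nat_lit 8192) (Steps.bwd (nat_lit 5) Steps.nil))) (nat_lit 13) (nat_lit 3),
  Rule.mk (nat_lit 8) (nat_lit 94) (Steps.bwd (nat_lit 8) (Steps.fwd (nat_lit 16384) (Steps.fwd (nat_lit 16384) (Steps.bwd (nat_lit 1) (Steps.bwd (nat_lit 1) Steps.nil))))) (nat_lit 79) (nat_lit 5)]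
noncomputable def R_2 : List (Rule) := [Rule.mk (nat_lit 2) (nat_lit 94) (Steps.bwd (nat_lit 7) (Steps.fwd (nat_lit 16384) (Steps.bwd (nat_lit 1) (Steps.bwd (nat_lit 1) (Steps.bwd (nat_lit 8) Steps.nil))))) (nat_lit 83) (nat_lit 5),
  Rule.mk (nat_lit 2) (nat_lit 62) (Steps.bwd (nat_lit 6) (Steps.bwd (nat_lit 1) (Steps.fwd (nat_lit 106496) Steps.nil))) (nat_lit 12) (nat_lit 2),
  Rule.mk (nat_lit 5) (nat_lit 62) (Steps.fwd (nat_lit 16384) (Steps.fwd (nat_lit 98304) (Steps.bwd (nat_lit 2) Steps.nil))) (nat_lit 13) (nat_lit 2),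
  Rule.mk (nat_lit 2) (nat_lit 78) (Steps.bwd (nat_lit 13) (Steps.bwd (nat_lit 1) (Steps.bwd (nat_lit 11) (Steps.bwd (nat_lit 11) Steps.nil)))) (nat_lit 43) (nat_lit 3),
  Rule.mk (nat_lit 1) (nat_lit 78) (Steps.bwd (nat_lit 11) (Steps.fwd (nat_lit 81920) (Steps.fwd (nat_lit 8192) (Steps.fwd (nat_lit 98304) Steps.nil)))) (nat_lit 43) (nat_lit 0),
  Rule.mk (nat_lit 2) (nat_lit 78) (Steps.fwd (nat_lit 106496) (Steps.bwd (nat_lit 1) (Steps.fwd (nat_lit 90112) (Steps.fwd (nat_lit 90112) Steps.nil)))) (nat_lit 42) (nat_lit 1),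
  Rule.mk (nat_lit 7) (nat_lit 94) (Steps.bwd (nat_lit 7) (Steps.bwd (nat_lit 2) (Steps.bwd (nat_lit 2) (Steps.fwd (nat_lit 8192) (Steps.bwd (nat_lit 2) Steps.nil))))) (nat_lit 78) (nat_lit 1),
  Rule.mk (nat_lit 8) (nat_lit 94) (Steps.bwd (nat_lit 1) (Steps.bwd (nat_lit 7) (Steps.bwd (nat_lit 2) (Steps.bwd (nat_lit 2) (Steps.fwd (nat_lit 8192) Steps.nil))))) (nat_lit 82) (nat_lit 1),
  Rule.mk (nat_lit 7) (nat_lit 94) (Steps.bwd (nat_lit 7) (Steps.fwd (nat_lit 8192) (Steps.bwd (nat_lit 2) (Steps.bwd (nat_lit 2) (Steps.fwd (nat_lit 8192) Steps.nil))))) (nat_lit 78) (nat_lit 1),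
  Rule.mk (nat_lit 8) (nat_lit 94) (Steps.bwd (nat_lit 1) (Steps.bwd (nat_lit 7) (Steps.fwd (nat_lit 8192) (Steps.bwd (nat_lit 2) (Steps.bwd (nat_lit 2) Steps.nil))))) (nat_lit 82) (nat_lit 1),
  Rule.mk (nat_lit 8) (nat_lit 94) (Steps.bwd (nat_lit 8) (Steps.bwd (nat_lit 1) (Steps.bwd (nat_lit 1) (Steps.bwd (nat_lit 1) (Steps.fwd (nat_lit 16384) Steps.nil))))) (nat_lit 79) (nat_lit 5),
  Rule.mk (nat_lit 2) (nat_lit 94) (Steps.bwd (nat_lit 7) (Steps.bwd (nat_lit 1) (Steps.bwd (nat_lit 1) (Steps.fwd (nat_lit 16384) (Steps.bwd (nat_lit 8) Steps.nil))))) (nat_lit 83) (nat_lit 5),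
  Rule.mk (nat_lit 7) (nat_lit 94) (Steps.bwd (nat_lit 7) (Steps.fwd (nat_lit 8192) (Steps.bwd (nat_lit 2) (Steps.bwd (nat_lit 2) (Steps.bwd (nat_lit 2) Steps.nil))))) (nat_lit 78) (nat_lit 1),
  Rule.mk (nat_lit 3) (nat_lit 62) (Steps.bwd (nat_lit 8) (Steps.fwd (nat_lit 24576) (Steps.bwd (nat_lit 7) Steps.nil))) (nat_lit 81) (nat_lit 0),
  Rule.mk (nat_lit 7) (nat_lit 62) (Steps.bwd (nat_lit 4) (Steps.fwd (nat_lit 57344) (Steps.bwd (nat_lit 3) Steps.nil))) (nat_lit 80) (nat_lit 0),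
  Rule.mk (nat_lit 2) (nat_lit 94) (Steps.bwd (nat_lit 2) (Steps.fwd (nat_lit 24576) (Steps.bwd (nat_lit 1) (Steps.bwd (nat_lit 1) (Steps.bwd (nat_lit 3) Steps.nil))))) (nat_lit 6) (nat_lit 1),
  Rule.mk (nat_lit 2) (nat_lit 94) (Steps.bwd (nat_lit 2) (Steps.bwd (nat_lit 4) (Steps.fwd (nat_lit 16384) (Steps.bwd (nat_lit 1) (Steps.bwd (nat_lit 3) Steps.nil))))) (nat_lit 6) (nat_lit 1),
  Rule.mk (nat_lit 1) (nat_lit 94) (Steps.bwd (nat_lit 1) (Steps.fwd (nat_lit 24576) (Steps.fwd (nat_lit 8192) (Steps.fwd (nat_lit 8192) (Steps.bwd (nat_lit 3) Steps.nil))))) (nat_lit 7) (nat_lit 5),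
  Rule.mk (nat_lit 8) (nat_lit 94) (Steps.bwd (nat_lit 1) (Steps.bwd (nat_lit 7) (Steps.fwd (nat_lit 8192) (Steps.fwd (nat_lit 8192) (Steps.bwd (nat_lit 2) Steps.nil))))) (nat_lit 82) (nat_lit 1),
  Rule.mk (nat_lit 8) (nat_lit 94) (Steps.bwd (nat_lit 1) (Steps.fwd (nat_lit 16384) (Steps.fwd (nat_lit 16384) (Steps.fwd (nat_lit 16384) (Steps.bwd (nat_lit 8) Steps.nil))))) (nat_lit 79) (nat_lit 0),
  Rule.mk (nat_lit 7) (nat_lit 94) (Steps.bwd (nat_lit 7) (Steps.bwd (nat_lit 2) (Steps.bwd (nat_lit 2) (Steps.bwd (nat_lit 2) (Steps.bwd (nat_lit 2) Steps.nil))))) (nat_lit 78) (nat_lit 1),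
  Rule.mk (nat_lit 1) (nat_lit 94) (Steps.bwd (nat_lit 7) (Steps.bwd (nat_lit 2) (Steps.bwd (nat_lit 2) (Steps.bwd (nat_lit 2) (Steps.bwd (nat_lit 8) Steps.nil))))) (nat_lit 82) (nat_lit 2),
  Rule.mk (nat_lit 4) (nat_lit 62) (Steps.bwd (nat_lit 8) (Steps.fwd (nat_lit 32768) (Steps.bwd (nat_lit 7) Steps.nil))) (nat_lit 80) (nat_lit 1),
  Rule.mk (nat_lit 8) (nat_lit 94) (Steps.bwd (nat_lit 8) (Steps.fwd (nat_lit 16384) (Steps.bwd (nat_lit 1) (Steps.bwd (nat_lit 1) (Steps.bwd (nat_lit 1) Steps.nil))))) (nat_lit 79) (nat_lit 5),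
  Rule.mk (nat_lit 2) (nat_lit 94) (Steps.bwd (nat_lit 2) (Steps.bwd (nat_lit 3) (Steps.bwd (nat_lit 1) (Steps.bwd (nat_lit 1) (Steps.bwd (nat_lit 4) Steps.nil))))) (nat_lit 7) (nat_lit 2),
  Rule.mk (nat_lit 7) (nat_lit 94) (Steps.bwd (nat_lit 2) (Steps.fwd (nat_lit 8192) (Steps.fwd (nat_lit 8192) (Steps.bwd (nat_lit 2) (Steps.bwd (nat_lit 7) Steps.nil))))) (nat_lit 78) (nat_lit 2),
  Rule.mk (nat_lit 8) (nat_lit 94) (Steps.bwd (nat_lit 2) (Steps.bwd (nat_lit 7) (Steps.fwd (nat_lit 16384) (Steps.fwd (nat_lit 16384) (Steps.fwd (nat_lit 16384) Steps.nil))))) (nat_lit 83) (nat_lit 4),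
  Rule.mk (nat_lit 2) (nat_lit 94) (Steps.bwd (nat_lit 2) (Steps.fwd (nat_lit 65536) (Steps.fwd (nat_lit 65536) (Steps.bwd (nat_lit 2) (Steps.bwd (nat_lit 2) Steps.nil))))) (nat_lit 78) (nat_lit 5),
  Rule.mk (nat_lit 7) (nat_lit 94) (Steps.bwd (nat_lit 2) (Steps.bwd (nat_lit 2) (Steps.bwd (nat_lit 2) (Steps.fwd (nat_lit 8192) (Steps.fwd (nat_lit 65536) Steps.nil))))) (nat_lit 78) (nat_lit 2),
  Rule.mk (nat_lit 8) (nat_lit 94) (Steps.bwd (nat_lit 2) (Steps.fwd (nat_lit 65536) (Steps.bwd (nat_lit 1) (Steps.fwd (nat_lit 16384) (Steps.fwd (nat_lit 16384) Steps.nil))))) (nat_lit 83) (nat_lit 4),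
  Rule.mk (nat_lit 4) (nat_lit 62) (Steps.bwd (nat_lit 7) (Steps.fwd (nat_lit 32768) (Steps.bwd (nat_lit 8) Steps.nil))) (nat_lit 81) (nat_lit 2),
  Rule.mk (nat_lit 8) (nat_lit 62) (Steps.bwd (nat_lit 3) (Steps.fwd (nat_lit 65536) (Steps.bwd (nat_lit 4) Steps.nil))) (nat_lit 80) (nat_lit 2),
  Rule.mk (nat_lit 8) (nat_lit 94) (Steps.bwd (nat_lit 2) (Steps.bwd (nat_lit 7) (Steps.bwd (nat_lit 1) (Steps.bwd (nat_lit 1) (Steps.bwd (nat_lit 1) Steps.nil))))) (nat_lit 83) (nat_lit 4),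
  Rule.mk (nat_lit 1) (nat_lit 94) (Steps.bwd (nat_lit 1) (Steps.fwd (nat_lit 32768) (Steps.fwd (nat_lit 8192) (Steps.fwd (nat_lit 8192) (Steps.bwd (nat_lit 4) Steps.nil))))) (nat_lit 6) (nat_lit 4),
  Rule.mk (nat_lit 8) (nat_lit 94) (Steps.bwd (nat_lit 1) (Steps.bwd (nat_lit 1) (Steps.bwd (nat_lit 1) (Steps.bwd (nat_lit 1) (Steps.bwd (nat_lit 8) Steps.nil))))) (nat_lit 79) (nat_lit 0),
  Rule.mk (nat_lit 1) (nat_lit 94) (Steps.bwd (nat_lit 1) (Steps.fwd (nat_lit 32768) (Steps.fwd (nat_lit 8192) (Steps.bwd (nat_lit 2) (Steps.fwd (nat_lit 24576) Steps.nil))))) (nat_lit 6) (nat_lit 4),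
  Rule.mk (nat_lit 4) (nat_lit 94) (Steps.bwd (nat_lit 1) (Steps.fwd (nat_lit 16384) (Steps.fwd (nat_lit 32768) (Steps.bwd (nat_lit 2) (Steps.bwd (nat_lit 2) Steps.nil))))) (nat_lit 6) (nat_lit 3),
  Rule.mk (nat_lit 1) (nat_lit 94) (Steps.bwd (nat_lit 1) (Steps.fwd (nat_lit 16384) (Steps.bwd (nat_lit 8) (Steps.fwd (nat_lit 57344) (Steps.fwd (nat_lit 16384) Steps.nil))))) (nat_lit 79) (nat_lit 2),
  Rule.mk (nat_lit 8) (nat_lit 94) (Steps.bwd (nat_lit 1) (Steps.bwd (nat_lit 7) (Steps.fwd (nat_lit 8192) (Steps.fwd (nat_lit 8192) (Steps.fwd (nat_lit 8192) Steps.nil))))) (nat_lit 82) (nat_lit 1),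
  Rule.mk (nat_lit 8) (nat_lit 94) (Steps.bwd (nat_lit 1) (Steps.fwd (nat_lit 16384) (Steps.bwd (nat_lit 1) (Steps.bwd (nat_lit 1) (Steps.bwd (nat_lit 8) Steps.nil))))) (nat_lit 79) (nat_lit 0),
  Rule.mk (nat_lit 7) (nat_lit 94) (Steps.bwd (nat_lit 1) (Steps.fwd (nat_lit 16384) (Steps.bwd (nat_lit 1) (Steps.fwd (nat_lit 57344) (Steps.fwd (nat_lit 8192) Steps.nil))))) (nat_lit 83) (nat_lit 0),
  Rule.mk (nat_lit 4) (nat_lit 62) (Steps.bwd (nat_lit 7) (Steps.bwd (nat_lit 3) (Steps.fwd (nat_lit 57344) Steps.nil))) (nat_lit 81) (nat_lit 2),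
  Rule.mk (nat_lit 2) (nat_lit 94) (Steps.bwd (nat_lit 7) (Steps.bwd (nat_lit 7) (Steps.fwd (nat_lit 8192) (Steps.bwd (nat_lit 2) (Steps.fwd (nat_lit 8192) Steps.nil))))) (nat_lit 78) (nat_lit 0),
  Rule.mk (nat_lit 2) (nat_lit 62) (Steps.bwd (nat_lit 5) (Steps.fwd (nat_lit 16384) (Steps.bwd (nat_lit 13) Steps.nil))) (nat_lit 13) (nat_lit 1),
  Rule.mk (nat_lit 2) (nat_lit 126) (Steps.bwd (nat_lit 2) (Steps.bwd (nat_lit 2) (Steps.bwd (nat_lit 2) (Steps.fwd (nat_lit 8192) (Steps.bwd (nat_lit 2) (Steps.bwd (nat_lit 2) (Steps.fwd (nat_lit 8192) Steps.nil))))))) (nat_lit 1) (nat_lit 0),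
  Rule.mk (nat_lit 5) (nat_lit 62) (Steps.bwd (nat_lit 1) (Steps.fwd (nat_lit 98304) (Steps.bwd (nat_lit 2) Steps.nil))) (nat_lit 13) (nat_lit 2),
  Rule.mk (nat_lit 7) (nat_lit 94) (Steps.fwd (nat_lit 65536) (Steps.fwd (nat_lit 8192) (Steps.bwd (nat_lit 2) (Steps.bwd (nat_lit 2) (Steps.bwd (nat_lit 2) Steps.nil))))) (nat_lit 78) (nat_lit 1),
  Rule.mk (nat_lit 11) (nat_lit 78) (Steps.bwd (nat_lit 2) (Steps.fwd (nat_lit 98304) (Steps.bwd (nat_lit 1) (Steps.bwd (nat_lit 11) Steps.nil)))) (nat_lit 43) (nat_lit 2),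
  Rule.mk (nat_lit 2) (nat_lit 126) (Steps.bwd (nat_lit 2) (Steps.fwd (nat_lit 8192) (Steps.fwd (nat_lit 8192) (Steps.bwd (nat_lit 2) (Steps.bwd (nat_lit 2) (Steps.bwd (nat_lit 2) (Steps.bwd (nat_lit 2) Steps.nil))))))) (nat_lit 1) (nat_lit 0),
  Rule.mk (nat_lit 6) (nat_lit 62) (Steps.bwd (nat_lit 1) (Steps.bwd (nat_lit 12) (Steps.bwd (nat_lit 2) Steps.nil))) (nat_lit 12) (nat_lit 3),
  Rule.mk (nat_lit 1) (nat_lit 78) (Steps.fwd (nat_lit 90112) (Steps.bwd (nat_lit 10) (Steps.bwd (nat_lit 2) (Steps.fwd (nat_lit 106496) Steps.nil)))) (nat_lit 42) (nat_lit 3),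
  Rule.mk (nat_lit 1) (nat_lit 126) (Steps.bwd (nat_lit 1) (Steps.fwd (nat_lit 16384) (Steps.bwd (nat_lit 1) (Steps.fwd (nat_lit 16384) (Steps.fwd (nat_lit 16384) (Steps.bwd (nat_lit 1) (Steps.fwd (nat_lit 16384) Steps.nil))))))) (nat_lit 0) (nat_lit 0),
  Rule.mk (nat_lit 10) (nat_lit 78) (Steps.fwd (nat_lit 90112) (Steps.bwd (nat_lit 2) (Steps.fwd (nat_lit 106496) (Steps.bwd (nat_lit 1) Steps.nil)))) (nat_lit 42) (nat_lit 4),
  Rule.mk (nat_lit 8) (nat_lit 94) (Steps.fwd (nat_lit 16384) (Steps.bwd (nat_lit 1) (Steps.bwd (nat_lit 1) (Steps.fwd (nat_lit 16384) (Steps.bwd (nat_lit 8) Steps.nil))))) (nat_lit 79) (nat_lit 0),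
  Rule.mk (nat_lit 10) (nat_lit 78) (Steps.bwd (nat_lit 10) (Steps.bwd (nat_lit 10) (Steps.fwd (nat_lit 90112) (Steps.fwd (nat_lit 90112) Steps.nil)))) (nat_lit 20) (nat_lit 0),
  Rule.mk (nat_lit 1) (nat_lit 78) (Steps.bwd (nat_lit 10) (Steps.bwd (nat_lit 10) (Steps.bwd (nat_lit 2) (Steps.fwd (nat_lit 106496) Steps.nil)))) (nat_lit 42) (nat_lit 3),
  Rule.mk (nat_lit 2) (nat_lit 62) (Steps.bwd (nat_lit 6) (Steps.bwd (nat_lit 1) (Steps.bwd (nat_lit 12) Steps.nil))) (nat_lit 12) (nat_lit 2),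
  Rule.mk (nat_lit 2) (nat_lit 126) (Steps.bwd (nat_lit 2) (Steps.bwd (nat_lit 2) (Steps.fwd (nat_lit 8192) (Steps.fwd (nat_lit 8192) (Steps.fwd (nat_lit 8192) (Steps.bwd (nat_lit 2) (Steps.fwd (nat_lit 8192) Steps.nil))))))) (nat_lit 1) (nat_lit 0),
  Rule.mk (nat_lit 6) (nat_lit 62) (Steps.fwd (nat_lit 16384) (Steps.fwd (nat_lit 106496) (Steps.bwd (nat_lit 2) Steps.nil))) (nat_lit 12) (nat_lit 3),
  Rule.mk (nat_lit 1) (nat_lit 94) (Steps.bwd (nat_lit 7) (Steps.fwd (nat_lit 8192) (Steps.bwd (nat_lit 2) (Steps.bwd (nat_lit 2) (Steps.bwd (nat_lit 8) Steps.nil))))) (nat_lit 82) (nat_lit 2),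
  Rule.mk (nat_lit 2) (nat_lit 94) (Steps.bwd (nat_lit 8) (Steps.bwd (nat_lit 1) (Steps.bwd (nat_lit 7) (Steps.fwd (nat_lit 8192) (Steps.bwd (nat_lit 2) Steps.nil))))) (nat_lit 82) (nat_lit 0),
  Rule.mk (nat_lit 2) (nat_lit 94) (Steps.bwd (nat_lit 7) (Steps.bwd (nat_lit 7) (Steps.fwd (nat_lit 8192) (Steps.bwd (nat_lit 2) (Steps.bwd (nat_lit 2) Steps.nil))))) (nat_lit 78) (nat_lit 0),
  Rule.mk (nat_lit 2) (nat_lit 94) (Steps.bwd (nat_lit 8) (Steps.fwd (nat_lit 16384) (Steps.bwd (nat_lit 7) (Steps.bwd (nat_lit 2) (Steps.bwd (nat_lit 2) Steps.nil))))) (nat_lit 82) (nat_lit 0),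
  Rule.mk (nat_lit 7) (nat_lit 94) (Steps.bwd (nat_lit 7) (Steps.bwd (nat_lit 2) (Steps.bwd (nat_lit 2) (Steps.fwd (nat_lit 8192) (Steps.fwd (nat_lit 8192) Steps.nil))))) (nat_lit 78) (nat_lit 1)]
noncomputable def R_3 : List (Rule) := [Rule.mk (nat_lit 2) (nat_lit 94) (Steps.bwd (nat_lit 7) (Steps.bwd (nat_lit 7) (Steps.bwd (nat_lit 2) (Steps.bwd (nat_lit 2) (Steps.bwd (nat_lit 2) Steps.nil))))) (nat_lit 78) (nat_lit 0),
  Rule.mk (nat_lit 2) (nat_lit 94) (Steps.bwd (nat_lit 2) (Steps.bwd (nat_lit 7) (Steps.bwd (nat_lit 7) (Steps.bwd (nat_lit 2) (Steps.bwd (nat_lit 2) Steps.nil))))) (nat_lit 78) (nat_lit 5),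
  Rule.mk (nat_lit 7) (nat_lit 94) (Steps.bwd (nat_lit 2) (Steps.fwd (nat_lit 8192) (Steps.bwd (nat_lit 2) (Steps.bwd (nat_lit 2) (Steps.fwd (nat_lit 65536) Steps.nil))))) (nat_lit 78) (nat_lit 2),
  Rule.mk (nat_lit 8) (nat_lit 94) (Steps.bwd (nat_lit 2) (Steps.bwd (nat_lit 7) (Steps.fwd (nat_lit 16384) (Steps.bwd (nat_lit 1) (Steps.bwd (nat_lit 1) Steps.nil))))) (nat_lit 83) (nat_lit 4),
  Rule.mk (nat_lit 7) (nat_lit 94) (Steps.bwd (nat_lit 7) (Steps.bwd (nat_lit 2) (Steps.fwd (nat_lit 8192) (Steps.bwd (nat_lit 2) (Steps.bwd (nat_lit 2) Steps.nil))))) (nat_lit 78) (nat_lit 1),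
  Rule.mk (nat_lit 8) (nat_lit 94) (Steps.bwd (nat_lit 8) (Steps.fwd (nat_lit 16384) (Steps.bwd (nat_lit 1) (Steps.fwd (nat_lit 16384) (Steps.bwd (nat_lit 1) Steps.nil))))) (nat_lit 79) (nat_lit 5),
  Rule.mk (nat_lit 1) (nat_lit 94) (Steps.bwd (nat_lit 8) (Steps.bwd (nat_lit 2) (Steps.bwd (nat_lit 7) (Steps.fwd (nat_lit 16384) (Steps.bwd (nat_lit 1) Steps.nil))))) (nat_lit 83) (nat_lit 3),
  Rule.mk (nat_lit 7) (nat_lit 94) (Steps.bwd (nat_lit 7) (Steps.fwd (nat_lit 8192) (Steps.bwd (nat_lit 2) (Steps.fwd (nat_lit 8192) (Steps.fwd (nat_lit 8192) Steps.nil))))) (nat_lit 78) (nat_lit 1),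
  Rule.mk (nat_lit 1) (nat_lit 94) (Steps.bwd (nat_lit 7) (Steps.fwd (nat_lit 8192) (Steps.bwd (nat_lit 2) (Steps.fwd (nat_lit 8192) (Steps.bwd (nat_lit 8) Steps.nil))))) (nat_lit 82) (nat_lit 2),
  Rule.mk (nat_lit 1) (nat_lit 94) (Steps.bwd (nat_lit 8) (Steps.bwd (nat_lit 8) (Steps.bwd (nat_lit 1) (Steps.bwd (nat_lit 1) (Steps.bwd (nat_lit 1) Steps.nil))))) (nat_lit 79) (nat_lit 4),
  Rule.mk (nat_lit 7) (nat_lit 94) (Steps.bwd (nat_lit 7) (Steps.fwd (nat_lit 8192) (Steps.fwd (nat_lit 8192) (Steps.bwd (nat_lit 2) (Steps.fwd (nat_lit 8192) Steps.nil))))) (nat_lit 78) (nat_lit 1),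
  Rule.mk (nat_lit 1) (nat_lit 94) (Steps.bwd (nat_lit 7) (Steps.fwd (nat_lit 8192) (Steps.fwd (nat_lit 8192) (Steps.bwd (nat_lit 2) (Steps.bwd (nat_lit 8) Steps.nil))))) (nat_lit 82) (nat_lit 2),
  Rule.mk (nat_lit 7) (nat_lit 94) (Steps.bwd (nat_lit 7) (Steps.bwd (nat_lit 2) (Steps.bwd (nat_lit 2) (Steps.bwd (nat_lit 2) (Steps.fwd (nat_lit 8192) Steps.nil))))) (nat_lit 78) (nat_lit 1),
  Rule.mk (nat_lit 8) (nat_lit 94) (Steps.bwd (nat_lit 8) (Steps.bwd (nat_lit 1) (Steps.bwd (nat_lit 1) (Steps.fwd (nat_lit 16384) (Steps.fwd (nat_lit 16384) Steps.nil))))) (nat_lit 79) (nat_lit 5),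
  Rule.mk (nat_lit 8) (nat_lit 94) (Steps.bwd (nat_lit 8) (Steps.fwd (nat_lit 16384) (Steps.fwd (nat_lit 16384) (Steps.fwd (nat_lit 16384) (Steps.fwd (nat_lit 16384) Steps.nil))))) (nat_lit 79) (nat_lit 5),
  Rule.mk (nat_lit 7) (nat_lit 94) (Steps.bwd (nat_lit 7) (Steps.bwd (nat_lit 2) (Steps.fwd (nat_lit 8192) (Steps.fwd (nat_lit 8192) (Steps.bwd (nat_lit 2) Steps.nil))))) (nat_lit 78) (nat_lit 1),
  Rule.mk (nat_lit 8) (nat_lit 94) (Steps.bwd (nat_lit 1) (Steps.fwd (nat_lit 65536) (Steps.fwd (nat_lit 8192) (Steps.bwd (nat_lit 2) (Steps.bwd (nat_lit 2) Steps.nil))))) (nat_lit 82) (nat_lit 1),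
  Rule.mk (nat_lit 8) (nat_lit 94) (Steps.fwd (nat_lit 16384) (Steps.bwd (nat_lit 1) (Steps.fwd (nat_lit 16384) (Steps.fwd (nat_lit 16384) (Steps.bwd (nat_lit 8) Steps.nil))))) (nat_lit 79) (nat_lit 0),
  Rule.mk (nat_lit 7) (nat_lit 94) (Steps.bwd (nat_lit 2) (Steps.fwd (nat_lit 8192) (Steps.fwd (nat_lit 8192) (Steps.bwd (nat_lit 8) (Steps.fwd (nat_lit 16384) Steps.nil))))) (nat_lit 82) (nat_lit 3),
  Rule.mk (nat_lit 2) (nat_lit 94) (Steps.bwd (nat_lit 7) (Steps.bwd (nat_lit 7) (Steps.bwd (nat_lit 2) (Steps.fwd (nat_lit 8192) (Steps.fwd (nat_lit 8192) Steps.nil))))) (nat_lit 78) (nat_lit 0),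
  Rule.mk (nat_lit 2) (nat_lit 94) (Steps.bwd (nat_lit 8) (Steps.fwd (nat_lit 16384) (Steps.bwd (nat_lit 7) (Steps.fwd (nat_lit 8192) (Steps.bwd (nat_lit 2) Steps.nil))))) (nat_lit 82) (nat_lit 0),
  Rule.mk (nat_lit 2) (nat_lit 94) (Steps.bwd (nat_lit 2) (Steps.fwd (nat_lit 65536) (Steps.bwd (nat_lit 7) (Steps.bwd (nat_lit 2) (Steps.bwd (nat_lit 2) Steps.nil))))) (nat_lit 78) (nat_lit 5),
  Rule.mk (nat_lit 7) (nat_lit 94) (Steps.bwd (nat_lit 2) (Steps.bwd (nat_lit 2) (Steps.fwd (nat_lit 8192) (Steps.fwd (nat_lit 8192) (Steps.fwd (nat_lit 65536) Steps.nil))))) (nat_lit 78) (nat_lit 2),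
  Rule.mk (nat_lit 8) (nat_lit 94) (Steps.bwd (nat_lit 2) (Steps.fwd (nat_lit 65536) (Steps.fwd (nat_lit 16384) (Steps.bwd (nat_lit 1) (Steps.fwd (nat_lit 16384) Steps.nil))))) (nat_lit 83) (nat_lit 4),
  Rule.mk (nat_lit 2) (nat_lit 94) (Steps.bwd (nat_lit 7) (Steps.fwd (nat_lit 65536) (Steps.fwd (nat_lit 8192) (Steps.fwd (nat_lit 8192) (Steps.bwd (nat_lit 2) Steps.nil))))) (nat_lit 78) (nat_lit 0),
  Rule.mk (nat_lit 1) (nat_lit 94) (Steps.bwd (nat_lit 7) (Steps.bwd (nat_lit 2) (Steps.bwd (nat_lit 2) (Steps.fwd (nat_lit 8192) (Steps.bwd (nat_lit 8) Steps.nil))))) (nat_lit 82) (nat_lit 2),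
  Rule.mk (nat_lit 10) (nat_lit 286) (Steps.bwd (nat_lit 3) (Steps.bwd (nat_lit 1) (Steps.fwd (nat_lit 24576) (Steps.bwd (nat_lit 7) (Steps.fwd (nat_lit 90112) (Steps.fwd (nat_lit 65536) (Steps.fwd (nat_lit 73728) (Steps.fwd (nat_lit 24576) (Steps.fwd (nat_lit 24576) (Steps.fwd (nat_lit 8192) (Steps.bwd (nat_lit 11) (Steps.bwd (nat_lit 1) (Steps.bwd (nat_lit 10) (Steps.fwd (nat_lit 8192) (Steps.fwd (nat_lit 90112) (Steps.bwd (nat_lit 1) (Steps.fwd (nat_lit 65536) Steps.nil))))))))))))))))) (nat_lit 57) (nat_lit 11),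
  Rule.mk (nat_lit 14) (nat_lit 62) (Steps.fwd (nat_lit 24576) (Steps.bwd (nat_lit 6) (Steps.fwd (nat_lit 32768) Steps.nil))) (nat_lit 14) (nat_lit 1),
  Rule.mk (nat_lit 16) (nat_lit 62) (Steps.bwd (nat_lit 3) (Steps.bwd (nat_lit 6) (Steps.bwd (nat_lit 4) Steps.nil))) (nat_lit 16) (nat_lit 1),
  Rule.mk (nat_lit 4) (nat_lit 94) (Steps.bwd (nat_lit 2) (Steps.bwd (nat_lit 2) (Steps.bwd (nat_lit 3) (Steps.bwd (nat_lit 1) (Steps.bwd (nat_lit 1) Steps.nil))))) (nat_lit 7) (nat_lit 1),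
  Rule.mk (nat_lit 7) (nat_lit 62) (Steps.bwd (nat_lit 3) (Steps.bwd (nat_lit 8) (Steps.bwd (nat_lit 4) Steps.nil))) (nat_lit 81) (nat_lit 3),
  Rule.mk (nat_lit 4) (nat_lit 62) (Steps.bwd (nat_lit 8) (Steps.bwd (nat_lit 3) (Steps.bwd (nat_lit 7) Steps.nil))) (nat_lit 80) (nat_lit 1),
  Rule.mk (nat_lit 1) (nat_lit 94) (Steps.bwd (nat_lit 1) (Steps.bwd (nat_lit 3) (Steps.fwd (nat_lit 8192) (Steps.bwd (nat_lit 2) (Steps.bwd (nat_lit 4) Steps.nil))))) (nat_lit 6) (nat_lit 4),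
  Rule.mk (nat_lit 8) (nat_lit 94) (Steps.bwd (nat_lit 2) (Steps.fwd (nat_lit 65536) (Steps.bwd (nat_lit 1) (Steps.bwd (nat_lit 1) (Steps.fwd (nat_lit 16384) Steps.nil))))) (nat_lit 83) (nat_lit 4),
  Rule.mk (nat_lit 8) (nat_lit 94) (Steps.bwd (nat_lit 1) (Steps.bwd (nat_lit 1) (Steps.bwd (nat_lit 1) (Steps.fwd (nat_lit 16384) (Steps.bwd (nat_lit 8) Steps.nil))))) (nat_lit 79) (nat_lit 0),
  Rule.mk (nat_lit 4) (nat_lit 94) (Steps.bwd (nat_lit 1) (Steps.bwd (nat_lit 1) (Steps.fwd (nat_lit 32768) (Steps.bwd (nat_lit 2) (Steps.fwd (nat_lit 8192) Steps.nil))))) (nat_lit 6) (nat_lit 3),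
  Rule.mk (nat_lit 2) (nat_lit 94) (Steps.bwd (nat_lit 2) (Steps.fwd (nat_lit 32768) (Steps.bwd (nat_lit 1) (Steps.bwd (nat_lit 1) (Steps.bwd (nat_lit 4) Steps.nil))))) (nat_lit 7) (nat_lit 2),
  Rule.mk (nat_lit 10) (nat_lit 286) (Steps.fwd (nat_lit 65536) (Steps.bwd (nat_lit 9) (Steps.fwd (nat_lit 24576) (Steps.fwd (nat_lit 24576) (Steps.fwd (nat_lit 8192) (Steps.fwd (nat_lit 81920) (Steps.bwd (nat_lit 1) (Steps.bwd (nat_lit 10) (Steps.fwd (nat_lit 8192) (Steps.bwd (nat_lit 10) (Steps.bwd (nat_lit 1) (Steps.fwd (nat_lit 65536) (Steps.bwd (nat_lit 10) (Steps.bwd (nat_lit 3) (Steps.fwd (nat_lit 16384) (Steps.bwd (nat_lit 4) (Steps.bwd (nat_lit 7) Steps.nil))))))))))))))))) (nat_lit 57) (nat_lit 16),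
  Rule.mk (nat_lit 10) (nat_lit 78) (Steps.bwd (nat_lit 10) (Steps.bwd (nat_lit 2) (Steps.bwd (nat_lit 12) (Steps.fwd (nat_lit 16384) Steps.nil)))) (nat_lit 42) (nat_lit 4),
  Rule.mk (nat_lit 12) (nat_lit 78) (Steps.fwd (nat_lit 16384) (Steps.bwd (nat_lit 10) (Steps.bwd (nat_lit 10) (Steps.fwd (nat_lit 8192) Steps.nil)))) (nat_lit 42) (nat_lit 2),
  Rule.mk (nat_lit 14) (nat_lit 62) (Steps.bwd (nat_lit 4) (Steps.bwd (nat_lit 6) (Steps.fwd (nat_lit 32768) Steps.nil))) (nat_lit 14) (nat_lit 1),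
  Rule.mk (nat_lit 10) (nat_lit 78) (Steps.bwd (nat_lit 10) (Steps.bwd (nat_lit 10) (Steps.bwd (nat_lit 10) (Steps.bwd (nat_lit 10) Steps.nil)))) (nat_lit 20) (nat_lit 0),
  Rule.mk (nat_lit 12) (nat_lit 78) (Steps.bwd (nat_lit 1) (Steps.bwd (nat_lit 10) (Steps.bwd (nat_lit 10) (Steps.bwd (nat_lit 2) Steps.nil)))) (nat_lit 42) (nat_lit 2),
  Rule.mk (nat_lit 6) (nat_lit 62) (Steps.fwd (nat_lit 16384) (Steps.bwd (nat_lit 12) (Steps.fwd (nat_lit 8192) Steps.nil))) (nat_lit 12) (nat_lit 3),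
  Rule.mk (nat_lit 14) (nat_lit 62) (Steps.bwd (nat_lit 4) (Steps.bwd (nat_lit 6) (Steps.bwd (nat_lit 3) Steps.nil))) (nat_lit 14) (nat_lit 1),
  Rule.mk (nat_lit 8) (nat_lit 94) (Steps.bwd (nat_lit 8) (Steps.fwd (nat_lit 16384) (Steps.fwd (nat_lit 16384) (Steps.fwd (nat_lit 16384) (Steps.bwd (nat_lit 1) Steps.nil))))) (nat_lit 79) (nat_lit 5),
  Rule.mk (nat_lit 2) (nat_lit 94) (Steps.bwd (nat_lit 2) (Steps.fwd (nat_lit 32768) (Steps.fwd (nat_lit 16384) (Steps.bwd (nat_lit 1) (Steps.bwd (nat_lit 4) Steps.nil))))) (nat_lit 7) (nat_lit 2),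
  Rule.mk (nat_lit 8) (nat_lit 62) (Steps.bwd (nat_lit 3) (Steps.bwd (nat_lit 7) (Steps.fwd (nat_lit 24576) Steps.nil))) (nat_lit 80) (nat_lit 2),
  Rule.mk (nat_lit 16) (nat_lit 62) (Steps.fwd (nat_lit 32768) (Steps.bwd (nat_lit 6) (Steps.bwd (nat_lit 4) Steps.nil))) (nat_lit 16) (nat_lit 1),
  Rule.mk (nat_lit 8) (nat_lit 62) (Steps.bwd (nat_lit 3) (Steps.bwd (nat_lit 7) (Steps.bwd (nat_lit 4) Steps.nil))) (nat_lit 80) (nat_lit 2),
  Rule.mk (nat_lit 7) (nat_lit 62) (Steps.bwd (nat_lit 3) (Steps.fwd (nat_lit 57344) (Steps.fwd (nat_lit 24576) Steps.nil))) (nat_lit 81) (nat_lit 3),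
  Rule.mk (nat_lit 2) (nat_lit 94) (Steps.bwd (nat_lit 2) (Steps.bwd (nat_lit 3) (Steps.fwd (nat_lit 16384) (Steps.fwd (nat_lit 16384) (Steps.bwd (nat_lit 4) Steps.nil))))) (nat_lit 7) (nat_lit 2),
  Rule.mk (nat_lit 2) (nat_lit 94) (Steps.bwd (nat_lit 2) (Steps.bwd (nat_lit 3) (Steps.fwd (nat_lit 16384) (Steps.fwd (nat_lit 16384) (Steps.fwd (nat_lit 24576) Steps.nil))))) (nat_lit 7) (nat_lit 2),
  Rule.mk (nat_lit 1) (nat_lit 94) (Steps.bwd (nat_lit 3) (Steps.bwd (nat_lit 2) (Steps.bwd (nat_lit 2) (Steps.fwd (nat_lit 24576) (Steps.bwd (nat_lit 1) Steps.nil))))) (nat_lit 6) (nat_lit 5),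
  Rule.mk (nat_lit 2) (nat_lit 94) (Steps.bwd (nat_lit 8) (Steps.fwd (nat_lit 16384) (Steps.bwd (nat_lit 7) (Steps.fwd (nat_lit 8192) (Steps.fwd (nat_lit 8192) Steps.nil))))) (nat_lit 82) (nat_lit 0),
  Rule.mk (nat_lit 2) (nat_lit 94) (Steps.bwd (nat_lit 7) (Steps.bwd (nat_lit 7) (Steps.fwd (nat_lit 8192) (Steps.fwd (nat_lit 8192) (Steps.bwd (nat_lit 2) Steps.nil))))) (nat_lit 78) (nat_lit 0),
  Rule.mk (nat_lit 8) (nat_lit 94) (Steps.fwd (nat_lit 16384) (Steps.bwd (nat_lit 7) (Steps.bwd (nat_lit 2) (Steps.bwd (nat_lit 2) (Steps.bwd (nat_lit 2) Steps.nil))))) (nat_lit 82) (nat_lit 1),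
  Rule.mk (nat_lit 1) (nat_lit 94) (Steps.bwd (nat_lit 1) (Steps.bwd (nat_lit 3) (Steps.fwd (nat_lit 8192) (Steps.bwd (nat_lit 2) (Steps.fwd (nat_lit 24576) Steps.nil))))) (nat_lit 6) (nat_lit 4),
  Rule.mk (nat_lit 2) (nat_lit 94) (Steps.bwd (nat_lit 8) (Steps.bwd (nat_lit 1) (Steps.fwd (nat_lit 65536) (Steps.bwd (nat_lit 2) (Steps.bwd (nat_lit 2) Steps.nil))))) (nat_lit 82) (nat_lit 0),
  Rule.mk (nat_lit 7) (nat_lit 94) (Steps.bwd (nat_lit 2) (Steps.bwd (nat_lit 2) (Steps.bwd (nat_lit 2) (Steps.bwd (nat_lit 2) (Steps.fwd (nat_lit 65536) Steps.nil))))) (nat_lit 78) (nat_lit 2),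
  Rule.mk (nat_lit 10) (nat_lit 110) (Steps.bwd (nat_lit 16) (Steps.bwd (nat_lit 2) (Steps.bwd (nat_lit 15) (Steps.bwd (nat_lit 1) (Steps.bwd (nat_lit 15) (Steps.fwd (nat_lit 114688) Steps.nil)))))) (nat_lit 45) (nat_lit 3),
  Rule.mk (nat_lit 16) (nat_lit 62) (Steps.bwd (nat_lit 3) (Steps.bwd (nat_lit 6) (Steps.fwd (nat_lit 24576) Steps.nil))) (nat_lit 16) (nat_lit 1),
  Rule.mk (nat_lit 4) (nat_lit 62) (Steps.bwd (nat_lit 18) (Steps.fwd (nat_lit 32768) (Steps.fwd (nat_lit 147456) Steps.nil))) (nat_lit 54) (nat_lit 1),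
  Rule.mk (nat_lit 7) (nat_lit 126) (Steps.bwd (nat_lit 18) (Steps.fwd (nat_lit 8192) (Steps.fwd (nat_lit 8192) (Steps.fwd (nat_lit 65536) (Steps.bwd (nat_lit 18) (Steps.fwd (nat_lit 65536) (Steps.fwd (nat_lit 147456) Steps.nil))))))) (nat_lit 86) (nat_lit 5)]
noncomputable def R_4 : List (Rule) := [Rule.mk (nat_lit 1) (nat_lit 78) (Steps.bwd (nat_lit 18) (Steps.bwd (nat_lit 18) (Steps.fwd (nat_lit 8192) (Steps.fwd (nat_lit 147456) Steps.nil)))) (nat_lit 49) (nat_lit 0),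
  Rule.mk (nat_lit 3) (nat_lit 62) (Steps.bwd (nat_lit 19) (Steps.bwd (nat_lit 4) (Steps.fwd (nat_lit 155648) Steps.nil))) (nat_lit 54) (nat_lit 3),
  Rule.mk (nat_lit 7) (nat_lit 126) (Steps.bwd (nat_lit 19) (Steps.fwd (nat_lit 65536) (Steps.bwd (nat_lit 18) (Steps.fwd (nat_lit 8192) (Steps.fwd (nat_lit 8192) (Steps.fwd (nat_lit 65536) (Steps.fwd (nat_lit 155648) Steps.nil))))))) (nat_lit 86) (nat_lit 3),
  Rule.mk (nat_lit 1) (nat_lit 126) (Steps.bwd (nat_lit 19) (Steps.bwd (nat_lit 8) (Steps.bwd (nat_lit 18) (Steps.bwd (nat_lit 8) (Steps.fwd (nat_lit 147456) (Steps.fwd (nat_lit 57344) (Steps.bwd (nat_lit 1) Steps.nil))))))) (nat_lit 87) (nat_lit 2),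
  Rule.mk (nat_lit 3) (nat_lit 62) (Steps.bwd (nat_lit 7) (Steps.bwd (nat_lit 4) (Steps.fwd (nat_lit 57344) Steps.nil))) (nat_lit 80) (nat_lit 3),
  Rule.mk (nat_lit 18) (nat_lit 158) (Steps.bwd (nat_lit 7) (Steps.bwd (nat_lit 18) (Steps.bwd (nat_lit 7) (Steps.bwd (nat_lit 18) (Steps.fwd (nat_lit 65536) (Steps.bwd (nat_lit 18) (Steps.fwd (nat_lit 65536) (Steps.fwd (nat_lit 155648) (Steps.bwd (nat_lit 7) Steps.nil))))))))) (nat_lit 84) (nat_lit 0),
  Rule.mk (nat_lit 18) (nat_lit 78) (Steps.bwd (nat_lit 18) (Steps.bwd (nat_lit 18) (Steps.fwd (nat_lit 155648) (Steps.bwd (nat_lit 18) Steps.nil)))) (nat_lit 22) (nat_lit 0),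
  Rule.mk (nat_lit 2) (nat_lit 78) (Steps.bwd (nat_lit 19) (Steps.bwd (nat_lit 1) (Steps.fwd (nat_lit 155648) (Steps.bwd (nat_lit 18) Steps.nil)))) (nat_lit 49) (nat_lit 3),
  Rule.mk (nat_lit 2) (nat_lit 126) (Steps.bwd (nat_lit 2) (Steps.bwd (nat_lit 7) (Steps.bwd (nat_lit 18) (Steps.bwd (nat_lit 7) (Steps.fwd (nat_lit 147456) (Steps.bwd (nat_lit 7) (Steps.bwd (nat_lit 18) Steps.nil))))))) (nat_lit 86) (nat_lit 7),
  Rule.mk (nat_lit 18) (nat_lit 62) (Steps.bwd (nat_lit 16) (Steps.bwd (nat_lit 19) (Steps.bwd (nat_lit 17) Steps.nil))) (nat_lit 31) (nat_lit 3),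
  Rule.mk (nat_lit 11) (nat_lit 62) (Steps.bwd (nat_lit 19) (Steps.fwd (nat_lit 90112) (Steps.fwd (nat_lit 155648) Steps.nil))) (nat_lit 24) (nat_lit 1),
  Rule.mk (nat_lit 3) (nat_lit 62) (Steps.bwd (nat_lit 19) (Steps.fwd (nat_lit 24576) (Steps.bwd (nat_lit 18) Steps.nil))) (nat_lit 54) (nat_lit 3),
  Rule.mk (nat_lit 5) (nat_lit 62) (Steps.fwd (nat_lit 24576) (Steps.fwd (nat_lit 131072) (Steps.bwd (nat_lit 3) Steps.nil))) (nat_lit 17) (nat_lit 2),
  Rule.mk (nat_lit 18) (nat_lit 62) (Steps.bwd (nat_lit 10) (Steps.fwd (nat_lit 147456) (Steps.bwd (nat_lit 11) Steps.nil))) (nat_lit 25) (nat_lit 3),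
  Rule.mk (nat_lit 18) (nat_lit 62) (Steps.bwd (nat_lit 16) (Steps.fwd (nat_lit 147456) (Steps.fwd (nat_lit 131072) Steps.nil))) (nat_lit 31) (nat_lit 3),
  Rule.mk (nat_lit 2) (nat_lit 78) (Steps.bwd (nat_lit 19) (Steps.bwd (nat_lit 1) (Steps.bwd (nat_lit 18) (Steps.bwd (nat_lit 18) Steps.nil)))) (nat_lit 49) (nat_lit 3),
  Rule.mk (nat_lit 18) (nat_lit 62) (Steps.bwd (nat_lit 10) (Steps.bwd (nat_lit 19) (Steps.bwd (nat_lit 11) Steps.nil))) (nat_lit 25) (nat_lit 3),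
  Rule.mk (nat_lit 13) (nat_lit 62) (Steps.bwd (nat_lit 19) (Steps.bwd (nat_lit 12) (Steps.bwd (nat_lit 18) Steps.nil))) (nat_lit 26) (nat_lit 1),
  Rule.mk (nat_lit 19) (nat_lit 78) (Steps.bwd (nat_lit 19) (Steps.bwd (nat_lit 2) (Steps.bwd (nat_lit 18) (Steps.bwd (nat_lit 1) Steps.nil)))) (nat_lit 48) (nat_lit 4),
  Rule.mk (nat_lit 18) (nat_lit 62) (Steps.bwd (nat_lit 12) (Steps.bwd (nat_lit 19) (Steps.bwd (nat_lit 13) Steps.nil))) (nat_lit 27) (nat_lit 3),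
  Rule.mk (nat_lit 16) (nat_lit 62) (Steps.bwd (nat_lit 12) (Steps.fwd (nat_lit 131072) (Steps.bwd (nat_lit 13) Steps.nil))) (nat_lit 39) (nat_lit 3),
  Rule.mk (nat_lit 13) (nat_lit 62) (Steps.bwd (nat_lit 2) (Steps.bwd (nat_lit 5) (Steps.fwd (nat_lit 16384) Steps.nil))) (nat_lit 13) (nat_lit 0),
  Rule.mk (nat_lit 18) (nat_lit 78) (Steps.bwd (nat_lit 2) (Steps.bwd (nat_lit 19) (Steps.fwd (nat_lit 16384) (Steps.bwd (nat_lit 18) Steps.nil)))) (nat_lit 49) (nat_lit 2),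
  Rule.mk (nat_lit 17) (nat_lit 62) (Steps.bwd (nat_lit 19) (Steps.bwd (nat_lit 16) (Steps.bwd (nat_lit 18) Steps.nil))) (nat_lit 30) (nat_lit 1),
  Rule.mk (nat_lit 11) (nat_lit 78) (Steps.bwd (nat_lit 12) (Steps.fwd (nat_lit 90112) (Steps.bwd (nat_lit 18) (Steps.bwd (nat_lit 13) Steps.nil)))) (nat_lit 18) (nat_lit 3),
  Rule.mk (nat_lit 19) (nat_lit 62) (Steps.bwd (nat_lit 10) (Steps.bwd (nat_lit 18) (Steps.bwd (nat_lit 11) Steps.nil))) (nat_lit 24) (nat_lit 2),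
  Rule.mk (nat_lit 13) (nat_lit 78) (Steps.bwd (nat_lit 10) (Steps.bwd (nat_lit 12) (Steps.bwd (nat_lit 19) (Steps.bwd (nat_lit 11) Steps.nil)))) (nat_lit 19) (nat_lit 2),
  Rule.mk (nat_lit 11) (nat_lit 62) (Steps.bwd (nat_lit 18) (Steps.bwd (nat_lit 10) (Steps.fwd (nat_lit 147456) Steps.nil))) (nat_lit 25) (nat_lit 2),
  Rule.mk (nat_lit 17) (nat_lit 94) (Steps.bwd (nat_lit 10) (Steps.fwd (nat_lit 139264) (Steps.fwd (nat_lit 147456) (Steps.fwd (nat_lit 147456) (Steps.bwd (nat_lit 11) Steps.nil))))) (nat_lit 34) (nat_lit 2),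
  Rule.mk (nat_lit 18) (nat_lit 62) (Steps.bwd (nat_lit 16) (Steps.fwd (nat_lit 147456) (Steps.bwd (nat_lit 17) Steps.nil))) (nat_lit 31) (nat_lit 3),
  Rule.mk (nat_lit 10) (nat_lit 62) (Steps.bwd (nat_lit 19) (Steps.fwd (nat_lit 81920) (Steps.bwd (nat_lit 18) Steps.nil))) (nat_lit 25) (nat_lit 0),
  Rule.mk (nat_lit 13) (nat_lit 62) (Steps.bwd (nat_lit 19) (Steps.fwd (nat_lit 106496) (Steps.bwd (nat_lit 18) Steps.nil))) (nat_lit 26) (nat_lit 1),
  Rule.mk (nat_lit 16) (nat_lit 62) (Steps.bwd (nat_lit 19) (Steps.bwd (nat_lit 17) (Steps.fwd (nat_lit 155648) Steps.nil))) (nat_lit 31) (nat_lit 0),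
  Rule.mk (nat_lit 18) (nat_lit 62) (Steps.bwd (nat_lit 12) (Steps.fwd (nat_lit 147456) (Steps.fwd (nat_lit 98304) Steps.nil))) (nat_lit 27) (nat_lit 3),
  Rule.mk (nat_lit 11) (nat_lit 78) (Steps.bwd (nat_lit 12) (Steps.bwd (nat_lit 10) (Steps.bwd (nat_lit 18) (Steps.bwd (nat_lit 13) Steps.nil)))) (nat_lit 18) (nat_lit 3),
  Rule.mk (nat_lit 2) (nat_lit 78) (Steps.bwd (nat_lit 19) (Steps.fwd (nat_lit 16384) (Steps.fwd (nat_lit 155648) (Steps.bwd (nat_lit 18) Steps.nil)))) (nat_lit 49) (nat_lit 3),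
  Rule.mk (nat_lit 18) (nat_lit 78) (Steps.bwd (nat_lit 1) (Steps.fwd (nat_lit 147456) (Steps.bwd (nat_lit 19) (Steps.bwd (nat_lit 2) Steps.nil)))) (nat_lit 48) (nat_lit 2),
  Rule.mk (nat_lit 11) (nat_lit 62) (Steps.bwd (nat_lit 19) (Steps.fwd (nat_lit 90112) (Steps.bwd (nat_lit 18) Steps.nil))) (nat_lit 24) (nat_lit 1),
  Rule.mk (nat_lit 12) (nat_lit 62) (Steps.fwd (nat_lit 147456) (Steps.fwd (nat_lit 98304) (Steps.bwd (nat_lit 18) Steps.nil))) (nat_lit 27) (nat_lit 0),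
  Rule.mk (nat_lit 13) (nat_lit 78) (Steps.fwd (nat_lit 90112) (Steps.bwd (nat_lit 12) (Steps.fwd (nat_lit 147456) (Steps.bwd (nat_lit 11) Steps.nil)))) (nat_lit 19) (nat_lit 2),
  Rule.mk (nat_lit 11) (nat_lit 78) (Steps.bwd (nat_lit 11) (Steps.bwd (nat_lit 2) (Steps.bwd (nat_lit 13) (Steps.fwd (nat_lit 16384) Steps.nil)))) (nat_lit 43) (nat_lit 1),
  Rule.mk (nat_lit 11) (nat_lit 78) (Steps.bwd (nat_lit 11) (Steps.bwd (nat_lit 11) (Steps.bwd (nat_lit 11) (Steps.bwd (nat_lit 11) Steps.nil)))) (nat_lit 21) (nat_lit 0),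
  Rule.mk (nat_lit 19) (nat_lit 62) (Steps.bwd (nat_lit 13) (Steps.bwd (nat_lit 18) (Steps.fwd (nat_lit 106496) Steps.nil))) (nat_lit 27) (nat_lit 1),
  Rule.mk (nat_lit 11) (nat_lit 78) (Steps.bwd (nat_lit 13) (Steps.fwd (nat_lit 90112) (Steps.fwd (nat_lit 106496) (Steps.fwd (nat_lit 147456) Steps.nil)))) (nat_lit 19) (nat_lit 1),
  Rule.mk (nat_lit 2) (nat_lit 78) (Steps.bwd (nat_lit 13) (Steps.fwd (nat_lit 16384) (Steps.bwd (nat_lit 11) (Steps.bwd (nat_lit 11) Steps.nil)))) (nat_lit 43) (nat_lit 3),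
  Rule.mk (nat_lit 5) (nat_lit 62) (Steps.bwd (nat_lit 1) (Steps.bwd (nat_lit 13) (Steps.bwd (nat_lit 2) Steps.nil))) (nat_lit 13) (nat_lit 2),
  Rule.mk (nat_lit 13) (nat_lit 62) (Steps.bwd (nat_lit 18) (Steps.fwd (nat_lit 106496) (Steps.fwd (nat_lit 147456) Steps.nil))) (nat_lit 27) (nat_lit 2),
  Rule.mk (nat_lit 18) (nat_lit 78) (Steps.bwd (nat_lit 18) (Steps.bwd (nat_lit 18) (Steps.bwd (nat_lit 18) (Steps.fwd (nat_lit 155648) Steps.nil)))) (nat_lit 22) (nat_lit 0),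
  Rule.mk (nat_lit 2) (nat_lit 78) (Steps.fwd (nat_lit 147456) (Steps.fwd (nat_lit 16384) (Steps.fwd (nat_lit 155648) (Steps.bwd (nat_lit 18) Steps.nil)))) (nat_lit 49) (nat_lit 3),
  Rule.mk (nat_lit 6) (nat_lit 62) (Steps.bwd (nat_lit 1) (Steps.bwd (nat_lit 12) (Steps.fwd (nat_lit 8192) Steps.nil))) (nat_lit 12) (nat_lit 3),
  Rule.mk (nat_lit 18) (nat_lit 78) (Steps.bwd (nat_lit 1) (Steps.fwd (nat_lit 147456) (Steps.fwd (nat_lit 147456) (Steps.bwd (nat_lit 2) Steps.nil)))) (nat_lit 48) (nat_lit 2),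
  Rule.mk (nat_lit 19) (nat_lit 78) (Steps.bwd (nat_lit 1) (Steps.bwd (nat_lit 18) (Steps.fwd (nat_lit 155648) (Steps.bwd (nat_lit 2) Steps.nil)))) (nat_lit 49) (nat_lit 4),
  Rule.mk (nat_lit 10) (nat_lit 62) (Steps.bwd (nat_lit 18) (Steps.bwd (nat_lit 11) (Steps.bwd (nat_lit 19) Steps.nil))) (nat_lit 24) (nat_lit 3),
  Rule.mk (nat_lit 4) (nat_lit 62) (Steps.bwd (nat_lit 16) (Steps.fwd (nat_lit 32768) (Steps.bwd (nat_lit 6) Steps.nil))) (nat_lit 16) (nat_lit 0),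
  Rule.mk (nat_lit 18) (nat_lit 62) (Steps.bwd (nat_lit 3) (Steps.bwd (nat_lit 19) (Steps.bwd (nat_lit 4) Steps.nil))) (nat_lit 54) (nat_lit 2),
  Rule.mk (nat_lit 19) (nat_lit 62) (Steps.bwd (nat_lit 3) (Steps.fwd (nat_lit 155648) (Steps.fwd (nat_lit 24576) Steps.nil))) (nat_lit 55) (nat_lit 3),
  Rule.mk (nat_lit 11) (nat_lit 94) (Steps.bwd (nat_lit 16) (Steps.bwd (nat_lit 10) (Steps.bwd (nat_lit 18) (Steps.bwd (nat_lit 18) (Steps.bwd (nat_lit 17) Steps.nil))))) (nat_lit 35) (nat_lit 4),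
  Rule.mk (nat_lit 15) (nat_lit 62) (Steps.bwd (nat_lit 4) (Steps.bwd (nat_lit 5) (Steps.bwd (nat_lit 3) Steps.nil))) (nat_lit 15) (nat_lit 0),
  Rule.mk (nat_lit 3) (nat_lit 62) (Steps.bwd (nat_lit 14) (Steps.fwd (nat_lit 24576) (Steps.bwd (nat_lit 6) Steps.nil))) (nat_lit 14) (nat_lit 0),
  Rule.mk (nat_lit 10) (nat_lit 94) (Steps.bwd (nat_lit 14) (Steps.bwd (nat_lit 18) (Steps.bwd (nat_lit 18) (Steps.bwd (nat_lit 11) (Steps.bwd (nat_lit 15) Steps.nil))))) (nat_lit 32) (nat_lit 3),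
  Rule.mk (nat_lit 15) (nat_lit 62) (Steps.bwd (nat_lit 4) (Steps.fwd (nat_lit 49152) (Steps.fwd (nat_lit 32768) Steps.nil))) (nat_lit 15) (nat_lit 0),
  Rule.mk (nat_lit 18) (nat_lit 62) (Steps.bwd (nat_lit 4) (Steps.fwd (nat_lit 147456) (Steps.bwd (nat_lit 3) Steps.nil))) (nat_lit 55) (nat_lit 1),
  Rule.mk (nat_lit 18) (nat_lit 62) (Steps.bwd (nat_lit 14) (Steps.bwd (nat_lit 19) (Steps.bwd (nat_lit 15) Steps.nil))) (nat_lit 29) (nat_lit 3),
  Rule.mk (nat_lit 11) (nat_lit 94) (Steps.bwd (nat_lit 14) (Steps.fwd (nat_lit 90112) (Steps.fwd (nat_lit 147456) (Steps.fwd (nat_lit 147456) (Steps.bwd (nat_lit 15) Steps.nil))))) (nat_lit 33) (nat_lit 4)]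
noncomputable def R_5 : List (Rule) := [Rule.mk (nat_lit 4) (nat_lit 62) (Steps.bwd (nat_lit 19) (Steps.fwd (nat_lit 32768) (Steps.bwd (nat_lit 18) Steps.nil))) (nat_lit 55) (nat_lit 2),
  Rule.mk (nat_lit 5) (nat_lit 62) (Steps.bwd (nat_lit 3) (Steps.fwd (nat_lit 114688) (Steps.bwd (nat_lit 4) Steps.nil))) (nat_lit 15) (nat_lit 2),
  Rule.mk (nat_lit 14) (nat_lit 110) (Steps.bwd (nat_lit 14) (Steps.fwd (nat_lit 8192) (Steps.fwd (nat_lit 122880) (Steps.bwd (nat_lit 1) (Steps.bwd (nat_lit 17) (Steps.bwd (nat_lit 11) Steps.nil)))))) (nat_lit 44) (nat_lit 6),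
  Rule.mk (nat_lit 19) (nat_lit 62) (Steps.bwd (nat_lit 15) (Steps.fwd (nat_lit 155648) (Steps.bwd (nat_lit 14) Steps.nil))) (nat_lit 29) (nat_lit 1),
  Rule.mk (nat_lit 14) (nat_lit 62) (Steps.bwd (nat_lit 18) (Steps.fwd (nat_lit 114688) (Steps.bwd (nat_lit 19) Steps.nil))) (nat_lit 28) (nat_lit 3),
  Rule.mk (nat_lit 2) (nat_lit 110) (Steps.bwd (nat_lit 14) (Steps.fwd (nat_lit 16384) (Steps.bwd (nat_lit 17) (Steps.bwd (nat_lit 11) (Steps.fwd (nat_lit 122880) (Steps.bwd (nat_lit 14) Steps.nil)))))) (nat_lit 44) (nat_lit 1),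
  Rule.mk (nat_lit 1) (nat_lit 78) (Steps.bwd (nat_lit 19) (Steps.fwd (nat_lit 147456) (Steps.bwd (nat_lit 2) (Steps.bwd (nat_lit 18) Steps.nil)))) (nat_lit 48) (nat_lit 3),
  Rule.mk (nat_lit 15) (nat_lit 78) (Steps.bwd (nat_lit 12) (Steps.bwd (nat_lit 14) (Steps.fwd (nat_lit 155648) (Steps.bwd (nat_lit 13) Steps.nil)))) (nat_lit 36) (nat_lit 2),
  Rule.mk (nat_lit 15) (nat_lit 110) (Steps.bwd (nat_lit 10) (Steps.fwd (nat_lit 139264) (Steps.bwd (nat_lit 2) (Steps.fwd (nat_lit 114688) (Steps.fwd (nat_lit 16384) (Steps.bwd (nat_lit 15) Steps.nil)))))) (nat_lit 45) (nat_lit 2),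
  Rule.mk (nat_lit 1) (nat_lit 62) (Steps.bwd (nat_lit 12) (Steps.fwd (nat_lit 8192) (Steps.bwd (nat_lit 6) Steps.nil))) (nat_lit 12) (nat_lit 0),
  Rule.mk (nat_lit 17) (nat_lit 62) (Steps.bwd (nat_lit 18) (Steps.fwd (nat_lit 139264) (Steps.fwd (nat_lit 147456) Steps.nil))) (nat_lit 31) (nat_lit 2),
  Rule.mk (nat_lit 18) (nat_lit 78) (Steps.bwd (nat_lit 18) (Steps.bwd (nat_lit 18) (Steps.bwd (nat_lit 18) (Steps.bwd (nat_lit 18) Steps.nil)))) (nat_lit 22) (nat_lit 0),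
  Rule.mk (nat_lit 19) (nat_lit 62) (Steps.bwd (nat_lit 16) (Steps.bwd (nat_lit 18) (Steps.bwd (nat_lit 17) Steps.nil))) (nat_lit 30) (nat_lit 2),
  Rule.mk (nat_lit 13) (nat_lit 62) (Steps.bwd (nat_lit 16) (Steps.fwd (nat_lit 106496) (Steps.bwd (nat_lit 17) Steps.nil))) (nat_lit 39) (nat_lit 2),
  Rule.mk (nat_lit 10) (nat_lit 94) (Steps.bwd (nat_lit 16) (Steps.fwd (nat_lit 147456) (Steps.bwd (nat_lit 19) (Steps.bwd (nat_lit 11) (Steps.bwd (nat_lit 17) Steps.nil))))) (nat_lit 34) (nat_lit 3),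
  Rule.mk (nat_lit 17) (nat_lit 94) (Steps.bwd (nat_lit 10) (Steps.fwd (nat_lit 139264) (Steps.bwd (nat_lit 19) (Steps.fwd (nat_lit 147456) (Steps.fwd (nat_lit 81920) Steps.nil))))) (nat_lit 34) (nat_lit 2),
  Rule.mk (nat_lit 17) (nat_lit 62) (Steps.bwd (nat_lit 19) (Steps.fwd (nat_lit 139264) (Steps.fwd (nat_lit 155648) Steps.nil))) (nat_lit 30) (nat_lit 1),
  Rule.mk (nat_lit 1) (nat_lit 78) (Steps.bwd (nat_lit 19) (Steps.bwd (nat_lit 19) (Steps.fwd (nat_lit 8192) (Steps.bwd (nat_lit 18) Steps.nil)))) (nat_lit 48) (nat_lit 3),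
  Rule.mk (nat_lit 2) (nat_lit 78) (Steps.bwd (nat_lit 19) (Steps.fwd (nat_lit 16384) (Steps.bwd (nat_lit 18) (Steps.bwd (nat_lit 18) Steps.nil)))) (nat_lit 49) (nat_lit 3),
  Rule.mk (nat_lit 18) (nat_lit 78) (Steps.bwd (nat_lit 18) (Steps.fwd (nat_lit 155648) (Steps.fwd (nat_lit 155648) (Steps.bwd (nat_lit 18) Steps.nil)))) (nat_lit 22) (nat_lit 0),
  Rule.mk (nat_lit 2) (nat_lit 78) (Steps.bwd (nat_lit 18) (Steps.bwd (nat_lit 1) (Steps.bwd (nat_lit 19) (Steps.fwd (nat_lit 147456) Steps.nil)))) (nat_lit 48) (nat_lit 1),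
  Rule.mk (nat_lit 19) (nat_lit 78) (Steps.bwd (nat_lit 1) (Steps.bwd (nat_lit 18) (Steps.bwd (nat_lit 18) (Steps.fwd (nat_lit 8192) Steps.nil)))) (nat_lit 49) (nat_lit 4),
  Rule.mk (nat_lit 16) (nat_lit 62) (Steps.fwd (nat_lit 155648) (Steps.fwd (nat_lit 131072) (Steps.bwd (nat_lit 19) Steps.nil))) (nat_lit 30) (nat_lit 3),
  Rule.mk (nat_lit 19) (nat_lit 62) (Steps.bwd (nat_lit 12) (Steps.fwd (nat_lit 155648) (Steps.fwd (nat_lit 98304) Steps.nil))) (nat_lit 26) (nat_lit 2),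
  Rule.mk (nat_lit 17) (nat_lit 62) (Steps.bwd (nat_lit 18) (Steps.bwd (nat_lit 16) (Steps.bwd (nat_lit 19) Steps.nil))) (nat_lit 31) (nat_lit 2),
  Rule.mk (nat_lit 19) (nat_lit 62) (Steps.bwd (nat_lit 16) (Steps.fwd (nat_lit 155648) (Steps.bwd (nat_lit 17) Steps.nil))) (nat_lit 30) (nat_lit 2),
  Rule.mk (nat_lit 12) (nat_lit 62) (Steps.bwd (nat_lit 16) (Steps.fwd (nat_lit 98304) (Steps.bwd (nat_lit 17) Steps.nil))) (nat_lit 38) (nat_lit 3),
  Rule.mk (nat_lit 3) (nat_lit 62) (Steps.bwd (nat_lit 18) (Steps.fwd (nat_lit 24576) (Steps.bwd (nat_lit 19) Steps.nil))) (nat_lit 55) (nat_lit 0),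
  Rule.mk (nat_lit 6) (nat_lit 62) (Steps.bwd (nat_lit 4) (Steps.bwd (nat_lit 16) (Steps.bwd (nat_lit 3) Steps.nil))) (nat_lit 16) (nat_lit 3),
  Rule.mk (nat_lit 5) (nat_lit 62) (Steps.bwd (nat_lit 4) (Steps.fwd (nat_lit 131072) (Steps.bwd (nat_lit 3) Steps.nil))) (nat_lit 17) (nat_lit 2),
  Rule.mk (nat_lit 19) (nat_lit 62) (Steps.bwd (nat_lit 4) (Steps.fwd (nat_lit 155648) (Steps.fwd (nat_lit 32768) Steps.nil))) (nat_lit 54) (nat_lit 0),
  Rule.mk (nat_lit 10) (nat_lit 62) (Steps.fwd (nat_lit 155648) (Steps.fwd (nat_lit 81920) (Steps.bwd (nat_lit 19) Steps.nil))) (nat_lit 24) (nat_lit 3),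
  Rule.mk (nat_lit 11) (nat_lit 62) (Steps.bwd (nat_lit 18) (Steps.bwd (nat_lit 10) (Steps.bwd (nat_lit 19) Steps.nil))) (nat_lit 25) (nat_lit 2),
  Rule.mk (nat_lit 1) (nat_lit 94) (Steps.fwd (nat_lit 24576) (Steps.fwd (nat_lit 8192) (Steps.fwd (nat_lit 8192) (Steps.fwd (nat_lit 32768) (Steps.bwd (nat_lit 1) Steps.nil))))) (nat_lit 7) (nat_lit 0),
  Rule.mk (nat_lit 19) (nat_lit 78) (Steps.bwd (nat_lit 19) (Steps.fwd (nat_lit 8192) (Steps.fwd (nat_lit 155648) (Steps.bwd (nat_lit 1) Steps.nil)))) (nat_lit 48) (nat_lit 4),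
  Rule.mk (nat_lit 18) (nat_lit 62) (Steps.fwd (nat_lit 90112) (Steps.bwd (nat_lit 19) (Steps.bwd (nat_lit 11) Steps.nil))) (nat_lit 25) (nat_lit 3),
  Rule.mk (nat_lit 19) (nat_lit 78) (Steps.bwd (nat_lit 2) (Steps.bwd (nat_lit 18) (Steps.fwd (nat_lit 16384) (Steps.fwd (nat_lit 147456) Steps.nil)))) (nat_lit 48) (nat_lit 0),
  Rule.mk (nat_lit 13) (nat_lit 62) (Steps.fwd (nat_lit 155648) (Steps.fwd (nat_lit 106496) (Steps.bwd (nat_lit 19) Steps.nil))) (nat_lit 27) (nat_lit 2),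
  Rule.mk (nat_lit 17) (nat_lit 62) (Steps.bwd (nat_lit 18) (Steps.fwd (nat_lit 139264) (Steps.bwd (nat_lit 19) Steps.nil))) (nat_lit 31) (nat_lit 2),
  Rule.mk (nat_lit 19) (nat_lit 78) (Steps.fwd (nat_lit 147456) (Steps.bwd (nat_lit 19) (Steps.fwd (nat_lit 147456) (Steps.bwd (nat_lit 19) Steps.nil)))) (nat_lit 23) (nat_lit 0),
  Rule.mk (nat_lit 11) (nat_lit 78) (Steps.bwd (nat_lit 12) (Steps.fwd (nat_lit 90112) (Steps.fwd (nat_lit 155648) (Steps.bwd (nat_lit 13) Steps.nil)))) (nat_lit 18) (nat_lit 3),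
  Rule.mk (nat_lit 19) (nat_lit 62) (Steps.fwd (nat_lit 106496) (Steps.bwd (nat_lit 18) (Steps.bwd (nat_lit 13) Steps.nil))) (nat_lit 26) (nat_lit 2),
  Rule.mk (nat_lit 2) (nat_lit 78) (Steps.bwd (nat_lit 19) (Steps.fwd (nat_lit 16384) (Steps.fwd (nat_lit 155648) (Steps.fwd (nat_lit 155648) Steps.nil)))) (nat_lit 49) (nat_lit 3),
  Rule.mk (nat_lit 18) (nat_lit 78) (Steps.bwd (nat_lit 1) (Steps.bwd (nat_lit 19) (Steps.fwd (nat_lit 147456) (Steps.bwd (nat_lit 2) Steps.nil)))) (nat_lit 48) (nat_lit 2),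
  Rule.mk (nat_lit 10) (nat_lit 62) (Steps.fwd (nat_lit 155648) (Steps.bwd (nat_lit 11) (Steps.bwd (nat_lit 19) Steps.nil))) (nat_lit 24) (nat_lit 3),
  Rule.mk (nat_lit 12) (nat_lit 62) (Steps.bwd (nat_lit 18) (Steps.fwd (nat_lit 98304) (Steps.bwd (nat_lit 19) Steps.nil))) (nat_lit 26) (nat_lit 3),
  Rule.mk (nat_lit 2) (nat_lit 78) (Steps.bwd (nat_lit 19) (Steps.fwd (nat_lit 16384) (Steps.bwd (nat_lit 18) (Steps.fwd (nat_lit 155648) Steps.nil)))) (nat_lit 49) (nat_lit 3),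
  Rule.mk (nat_lit 12) (nat_lit 78) (Steps.bwd (nat_lit 10) (Steps.fwd (nat_lit 155648) (Steps.bwd (nat_lit 13) (Steps.bwd (nat_lit 11) Steps.nil)))) (nat_lit 18) (nat_lit 4),
  Rule.mk (nat_lit 11) (nat_lit 78) (Steps.bwd (nat_lit 12) (Steps.fwd (nat_lit 90112) (Steps.bwd (nat_lit 18) (Steps.fwd (nat_lit 98304) Steps.nil)))) (nat_lit 18) (nat_lit 3),
  Rule.mk (nat_lit 10) (nat_lit 78) (Steps.fwd (nat_lit 106496) (Steps.bwd (nat_lit 19) (Steps.bwd (nat_lit 11) (Steps.bwd (nat_lit 13) Steps.nil)))) (nat_lit 19) (nat_lit 3),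
  Rule.mk (nat_lit 11) (nat_lit 78) (Steps.fwd (nat_lit 81920) (Steps.bwd (nat_lit 2) (Steps.bwd (nat_lit 13) (Steps.bwd (nat_lit 1) Steps.nil)))) (nat_lit 43) (nat_lit 1),
  Rule.mk (nat_lit 18) (nat_lit 62) (Steps.bwd (nat_lit 11) (Steps.fwd (nat_lit 147456) (Steps.fwd (nat_lit 90112) Steps.nil))) (nat_lit 24) (nat_lit 0),
  Rule.mk (nat_lit 13) (nat_lit 78) (Steps.bwd (nat_lit 11) (Steps.bwd (nat_lit 12) (Steps.fwd (nat_lit 90112) (Steps.bwd (nat_lit 18) Steps.nil)))) (nat_lit 18) (nat_lit 2),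
  Rule.mk (nat_lit 11) (nat_lit 78) (Steps.bwd (nat_lit 2) (Steps.bwd (nat_lit 13) (Steps.fwd (nat_lit 16384) (Steps.bwd (nat_lit 11) Steps.nil)))) (nat_lit 43) (nat_lit 2),
  Rule.mk (nat_lit 18) (nat_lit 62) (Steps.fwd (nat_lit 90112) (Steps.fwd (nat_lit 147456) (Steps.bwd (nat_lit 11) Steps.nil))) (nat_lit 25) (nat_lit 3),
  Rule.mk (nat_lit 12) (nat_lit 78) (Steps.bwd (nat_lit 10) (Steps.fwd (nat_lit 155648) (Steps.fwd (nat_lit 98304) (Steps.bwd (nat_lit 11) Steps.nil)))) (nat_lit 18) (nat_lit 4),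
  Rule.mk (nat_lit 12) (nat_lit 62) (Steps.bwd (nat_lit 19) (Steps.bwd (nat_lit 13) (Steps.bwd (nat_lit 18) Steps.nil))) (nat_lit 27) (nat_lit 0),
  Rule.mk (nat_lit 17) (nat_lit 62) (Steps.bwd (nat_lit 13) (Steps.bwd (nat_lit 16) (Steps.bwd (nat_lit 12) Steps.nil))) (nat_lit 39) (nat_lit 1),
  Rule.mk (nat_lit 11) (nat_lit 62) (Steps.bwd (nat_lit 18) (Steps.fwd (nat_lit 90112) (Steps.fwd (nat_lit 147456) Steps.nil))) (nat_lit 25) (nat_lit 2),
  Rule.mk (nat_lit 12) (nat_lit 62) (Steps.bwd (nat_lit 18) (Steps.bwd (nat_lit 13) (Steps.fwd (nat_lit 147456) Steps.nil))) (nat_lit 26) (nat_lit 3),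
  Rule.mk (nat_lit 13) (nat_lit 62) (Steps.bwd (nat_lit 18) (Steps.fwd (nat_lit 106496) (Steps.bwd (nat_lit 19) Steps.nil))) (nat_lit 27) (nat_lit 2),
  Rule.mk (nat_lit 17) (nat_lit 62) (Steps.bwd (nat_lit 18) (Steps.bwd (nat_lit 16) (Steps.fwd (nat_lit 147456) Steps.nil))) (nat_lit 31) (nat_lit 2),
  Rule.mk (nat_lit 19) (nat_lit 62) (Steps.bwd (nat_lit 4) (Steps.bwd (nat_lit 18) (Steps.fwd (nat_lit 32768) Steps.nil))) (nat_lit 54) (nat_lit 0),
  Rule.mk (nat_lit 11) (nat_lit 94) (Steps.bwd (nat_lit 14) (Steps.bwd (nat_lit 10) (Steps.bwd (nat_lit 19) (Steps.bwd (nat_lit 19) (Steps.bwd (nat_lit 15) Steps.nil))))) (nat_lit 33) (nat_lit 4)]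
noncomputable def R_6 : List (Rule) := [Rule.mk (nat_lit 6) (nat_lit 62) (Steps.bwd (nat_lit 3) (Steps.bwd (nat_lit 14) (Steps.bwd (nat_lit 4) Steps.nil))) (nat_lit 14) (nat_lit 3),
  Rule.mk (nat_lit 10) (nat_lit 94) (Steps.bwd (nat_lit 16) (Steps.bwd (nat_lit 19) (Steps.fwd (nat_lit 147456) (Steps.bwd (nat_lit 11) (Steps.bwd (nat_lit 17) Steps.nil))))) (nat_lit 34) (nat_lit 3),
  Rule.mk (nat_lit 13) (nat_lit 62) (Steps.bwd (nat_lit 18) (Steps.bwd (nat_lit 12) (Steps.fwd (nat_lit 147456) Steps.nil))) (nat_lit 27) (nat_lit 2),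
  Rule.mk (nat_lit 19) (nat_lit 62) (Steps.bwd (nat_lit 12) (Steps.bwd (nat_lit 18) (Steps.bwd (nat_lit 13) Steps.nil))) (nat_lit 26) (nat_lit 2),
  Rule.mk (nat_lit 2) (nat_lit 78) (Steps.bwd (nat_lit 18) (Steps.bwd (nat_lit 1) (Steps.fwd (nat_lit 147456) (Steps.bwd (nat_lit 19) Steps.nil)))) (nat_lit 48) (nat_lit 1),
  Rule.mk (nat_lit 12) (nat_lit 78) (Steps.bwd (nat_lit 10) (Steps.bwd (nat_lit 18) (Steps.fwd (nat_lit 98304) (Steps.fwd (nat_lit 81920) Steps.nil)))) (nat_lit 18) (nat_lit 4),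
  Rule.mk (nat_lit 17) (nat_lit 94) (Steps.bwd (nat_lit 10) (Steps.bwd (nat_lit 16) (Steps.fwd (nat_lit 147456) (Steps.bwd (nat_lit 19) (Steps.bwd (nat_lit 11) Steps.nil))))) (nat_lit 34) (nat_lit 2),
  Rule.mk (nat_lit 16) (nat_lit 94) (Steps.bwd (nat_lit 10) (Steps.bwd (nat_lit 18) (Steps.bwd (nat_lit 18) (Steps.fwd (nat_lit 131072) (Steps.bwd (nat_lit 11) Steps.nil))))) (nat_lit 35) (nat_lit 5),
  Rule.mk (nat_lit 19) (nat_lit 62) (Steps.bwd (nat_lit 14) (Steps.bwd (nat_lit 18) (Steps.bwd (nat_lit 15) Steps.nil))) (nat_lit 28) (nat_lit 2),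
  Rule.mk (nat_lit 11) (nat_lit 94) (Steps.bwd (nat_lit 14) (Steps.bwd (nat_lit 10) (Steps.fwd (nat_lit 147456) (Steps.bwd (nat_lit 19) (Steps.bwd (nat_lit 15) Steps.nil))))) (nat_lit 33) (nat_lit 4),
  Rule.mk (nat_lit 19) (nat_lit 62) (Steps.bwd (nat_lit 4) (Steps.bwd (nat_lit 18) (Steps.bwd (nat_lit 3) Steps.nil))) (nat_lit 54) (nat_lit 0),
  Rule.mk (nat_lit 13) (nat_lit 78) (Steps.bwd (nat_lit 14) (Steps.bwd (nat_lit 12) (Steps.bwd (nat_lit 19) (Steps.bwd (nat_lit 15) Steps.nil)))) (nat_lit 37) (nat_lit 3),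
  Rule.mk (nat_lit 10) (nat_lit 78) (Steps.bwd (nat_lit 12) (Steps.bwd (nat_lit 19) (Steps.fwd (nat_lit 81920) (Steps.bwd (nat_lit 13) Steps.nil)))) (nat_lit 19) (nat_lit 3),
  Rule.mk (nat_lit 15) (nat_lit 78) (Steps.bwd (nat_lit 12) (Steps.fwd (nat_lit 122880) (Steps.fwd (nat_lit 155648) (Steps.bwd (nat_lit 13) Steps.nil)))) (nat_lit 36) (nat_lit 2),
  Rule.mk (nat_lit 13) (nat_lit 78) (Steps.bwd (nat_lit 14) (Steps.fwd (nat_lit 106496) (Steps.fwd (nat_lit 147456) (Steps.fwd (nat_lit 114688) Steps.nil)))) (nat_lit 37) (nat_lit 3),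
  Rule.mk (nat_lit 10) (nat_lit 62) (Steps.bwd (nat_lit 18) (Steps.fwd (nat_lit 81920) (Steps.bwd (nat_lit 19) Steps.nil))) (nat_lit 24) (nat_lit 3),
  Rule.mk (nat_lit 15) (nat_lit 62) (Steps.bwd (nat_lit 18) (Steps.bwd (nat_lit 14) (Steps.fwd (nat_lit 147456) Steps.nil))) (nat_lit 29) (nat_lit 2),
  Rule.mk (nat_lit 3) (nat_lit 62) (Steps.bwd (nat_lit 18) (Steps.fwd (nat_lit 24576) (Steps.fwd (nat_lit 147456) Steps.nil))) (nat_lit 55) (nat_lit 0),
  Rule.mk (nat_lit 6) (nat_lit 62) (Steps.bwd (nat_lit 4) (Steps.fwd (nat_lit 139264) (Steps.bwd (nat_lit 3) Steps.nil))) (nat_lit 16) (nat_lit 3),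
  Rule.mk (nat_lit 19) (nat_lit 62) (Steps.bwd (nat_lit 4) (Steps.fwd (nat_lit 155648) (Steps.bwd (nat_lit 3) Steps.nil))) (nat_lit 54) (nat_lit 0),
  Rule.mk (nat_lit 17) (nat_lit 78) (Steps.bwd (nat_lit 14) (Steps.fwd (nat_lit 139264) (Steps.fwd (nat_lit 155648) (Steps.bwd (nat_lit 15) Steps.nil)))) (nat_lit 40) (nat_lit 2),
  Rule.mk (nat_lit 15) (nat_lit 78) (Steps.bwd (nat_lit 16) (Steps.bwd (nat_lit 14) (Steps.fwd (nat_lit 147456) (Steps.fwd (nat_lit 131072) Steps.nil)))) (nat_lit 41) (nat_lit 3),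
  Rule.mk (nat_lit 17) (nat_lit 78) (Steps.bwd (nat_lit 14) (Steps.fwd (nat_lit 139264) (Steps.bwd (nat_lit 18) (Steps.fwd (nat_lit 114688) Steps.nil)))) (nat_lit 40) (nat_lit 2),
  Rule.mk (nat_lit 15) (nat_lit 78) (Steps.bwd (nat_lit 16) (Steps.fwd (nat_lit 122880) (Steps.fwd (nat_lit 147456) (Steps.fwd (nat_lit 131072) Steps.nil)))) (nat_lit 41) (nat_lit 3),
  Rule.mk (nat_lit 10) (nat_lit 62) (Steps.bwd (nat_lit 19) (Steps.bwd (nat_lit 11) (Steps.bwd (nat_lit 18) Steps.nil))) (nat_lit 25) (nat_lit 0),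
  Rule.mk (nat_lit 15) (nat_lit 62) (Steps.bwd (nat_lit 19) (Steps.fwd (nat_lit 122880) (Steps.bwd (nat_lit 18) Steps.nil))) (nat_lit 28) (nat_lit 1),
  Rule.mk (nat_lit 17) (nat_lit 78) (Steps.bwd (nat_lit 14) (Steps.bwd (nat_lit 16) (Steps.bwd (nat_lit 18) (Steps.bwd (nat_lit 15) Steps.nil)))) (nat_lit 40) (nat_lit 2),
  Rule.mk (nat_lit 17) (nat_lit 78) (Steps.bwd (nat_lit 14) (Steps.bwd (nat_lit 16) (Steps.fwd (nat_lit 155648) (Steps.bwd (nat_lit 15) Steps.nil)))) (nat_lit 40) (nat_lit 2),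
  Rule.mk (nat_lit 15) (nat_lit 78) (Steps.bwd (nat_lit 16) (Steps.bwd (nat_lit 14) (Steps.fwd (nat_lit 147456) (Steps.bwd (nat_lit 17) Steps.nil)))) (nat_lit 41) (nat_lit 3),
  Rule.mk (nat_lit 13) (nat_lit 78) (Steps.bwd (nat_lit 14) (Steps.bwd (nat_lit 12) (Steps.fwd (nat_lit 147456) (Steps.bwd (nat_lit 15) Steps.nil)))) (nat_lit 37) (nat_lit 3),
  Rule.mk (nat_lit 16) (nat_lit 78) (Steps.bwd (nat_lit 14) (Steps.bwd (nat_lit 19) (Steps.fwd (nat_lit 131072) (Steps.bwd (nat_lit 15) Steps.nil)))) (nat_lit 41) (nat_lit 4),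
  Rule.mk (nat_lit 15) (nat_lit 78) (Steps.bwd (nat_lit 12) (Steps.fwd (nat_lit 122880) (Steps.bwd (nat_lit 18) (Steps.fwd (nat_lit 98304) Steps.nil)))) (nat_lit 36) (nat_lit 2),
  Rule.mk (nat_lit 12) (nat_lit 78) (Steps.bwd (nat_lit 10) (Steps.bwd (nat_lit 18) (Steps.fwd (nat_lit 98304) (Steps.bwd (nat_lit 11) Steps.nil)))) (nat_lit 18) (nat_lit 4),
  Rule.mk (nat_lit 15) (nat_lit 94) (Steps.bwd (nat_lit 10) (Steps.bwd (nat_lit 14) (Steps.bwd (nat_lit 18) (Steps.bwd (nat_lit 18) (Steps.fwd (nat_lit 81920) Steps.nil))))) (nat_lit 32) (nat_lit 2),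
  Rule.mk (nat_lit 16) (nat_lit 62) (Steps.bwd (nat_lit 18) (Steps.bwd (nat_lit 17) (Steps.bwd (nat_lit 19) Steps.nil))) (nat_lit 30) (nat_lit 3),
  Rule.mk (nat_lit 3) (nat_lit 62) (Steps.bwd (nat_lit 14) (Steps.bwd (nat_lit 4) (Steps.fwd (nat_lit 40960) Steps.nil))) (nat_lit 14) (nat_lit 0),
  Rule.mk (nat_lit 18) (nat_lit 62) (Steps.bwd (nat_lit 14) (Steps.fwd (nat_lit 147456) (Steps.bwd (nat_lit 15) Steps.nil))) (nat_lit 29) (nat_lit 3),
  Rule.mk (nat_lit 10) (nat_lit 94) (Steps.bwd (nat_lit 14) (Steps.bwd (nat_lit 18) (Steps.fwd (nat_lit 155648) (Steps.bwd (nat_lit 11) (Steps.bwd (nat_lit 15) Steps.nil))))) (nat_lit 32) (nat_lit 3),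
  Rule.mk (nat_lit 11) (nat_lit 94) (Steps.bwd (nat_lit 16) (Steps.fwd (nat_lit 90112) (Steps.bwd (nat_lit 18) (Steps.fwd (nat_lit 155648) (Steps.fwd (nat_lit 131072) Steps.nil))))) (nat_lit 35) (nat_lit 4),
  Rule.mk (nat_lit 19) (nat_lit 62) (Steps.bwd (nat_lit 16) (Steps.bwd (nat_lit 18) (Steps.fwd (nat_lit 131072) Steps.nil))) (nat_lit 30) (nat_lit 2),
  Rule.mk (nat_lit 10) (nat_lit 94) (Steps.bwd (nat_lit 16) (Steps.fwd (nat_lit 147456) (Steps.fwd (nat_lit 147456) (Steps.bwd (nat_lit 11) (Steps.bwd (nat_lit 17) Steps.nil))))) (nat_lit 34) (nat_lit 3),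
  Rule.mk (nat_lit 1) (nat_lit 78) (Steps.fwd (nat_lit 155648) (Steps.bwd (nat_lit 18) (Steps.fwd (nat_lit 8192) (Steps.bwd (nat_lit 19) Steps.nil)))) (nat_lit 49) (nat_lit 0),
  Rule.mk (nat_lit 6) (nat_lit 62) (Steps.bwd (nat_lit 4) (Steps.bwd (nat_lit 16) (Steps.fwd (nat_lit 32768) Steps.nil))) (nat_lit 16) (nat_lit 3),
  Rule.mk (nat_lit 2) (nat_lit 94) (Steps.bwd (nat_lit 4) (Steps.bwd (nat_lit 1) (Steps.fwd (nat_lit 16384) (Steps.fwd (nat_lit 32768) (Steps.fwd (nat_lit 8192) Steps.nil))))) (nat_lit 6) (nat_lit 2),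
  Rule.mk (nat_lit 18) (nat_lit 78) (Steps.bwd (nat_lit 1) (Steps.fwd (nat_lit 147456) (Steps.bwd (nat_lit 19) (Steps.fwd (nat_lit 8192) Steps.nil)))) (nat_lit 48) (nat_lit 2),
  Rule.mk (nat_lit 1) (nat_lit 94) (Steps.bwd (nat_lit 1) (Steps.fwd (nat_lit 24576) (Steps.fwd (nat_lit 8192) (Steps.bwd (nat_lit 2) (Steps.bwd (nat_lit 3) Steps.nil))))) (nat_lit 7) (nat_lit 5),
  Rule.mk (nat_lit 12) (nat_lit 62) (Steps.bwd (nat_lit 19) (Steps.fwd (nat_lit 98304) (Steps.bwd (nat_lit 18) Steps.nil))) (nat_lit 27) (nat_lit 0),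
  Rule.mk (nat_lit 1) (nat_lit 78) (Steps.bwd (nat_lit 10) (Steps.bwd (nat_lit 10) (Steps.fwd (nat_lit 8192) (Steps.bwd (nat_lit 12) Steps.nil)))) (nat_lit 42) (nat_lit 3),
  Rule.mk (nat_lit 11) (nat_lit 94) (Steps.bwd (nat_lit 16) (Steps.fwd (nat_lit 90112) (Steps.fwd (nat_lit 155648) (Steps.bwd (nat_lit 18) (Steps.fwd (nat_lit 131072) Steps.nil))))) (nat_lit 35) (nat_lit 4),
  Rule.mk (nat_lit 3) (nat_lit 62) (Steps.bwd (nat_lit 15) (Steps.bwd (nat_lit 4) (Steps.bwd (nat_lit 5) Steps.nil))) (nat_lit 15) (nat_lit 3),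
  Rule.mk (nat_lit 18) (nat_lit 62) (Steps.bwd (nat_lit 15) (Steps.fwd (nat_lit 147456) (Steps.bwd (nat_lit 14) Steps.nil))) (nat_lit 28) (nat_lit 0),
  Rule.mk (nat_lit 11) (nat_lit 94) (Steps.bwd (nat_lit 15) (Steps.bwd (nat_lit 10) (Steps.fwd (nat_lit 122880) (Steps.fwd (nat_lit 155648) (Steps.fwd (nat_lit 155648) Steps.nil))))) (nat_lit 32) (nat_lit 1),
  Rule.mk (nat_lit 18) (nat_lit 78) (Steps.bwd (nat_lit 1) (Steps.bwd (nat_lit 19) (Steps.fwd (nat_lit 147456) (Steps.fwd (nat_lit 8192) Steps.nil)))) (nat_lit 48) (nat_lit 2),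
  Rule.mk (nat_lit 19) (nat_lit 78) (Steps.bwd (nat_lit 1) (Steps.fwd (nat_lit 155648) (Steps.fwd (nat_lit 155648) (Steps.fwd (nat_lit 8192) Steps.nil)))) (nat_lit 49) (nat_lit 4),
  Rule.mk (nat_lit 1) (nat_lit 94) (Steps.bwd (nat_lit 1) (Steps.fwd (nat_lit 24576) (Steps.bwd (nat_lit 2) (Steps.fwd (nat_lit 8192) (Steps.bwd (nat_lit 3) Steps.nil))))) (nat_lit 7) (nat_lit 5),
  Rule.mk (nat_lit 10) (nat_lit 78) (Steps.bwd (nat_lit 12) (Steps.fwd (nat_lit 147456) (Steps.fwd (nat_lit 81920) (Steps.bwd (nat_lit 13) Steps.nil)))) (nat_lit 19) (nat_lit 3),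
  Rule.mk (nat_lit 1) (nat_lit 78) (Steps.fwd (nat_lit 90112) (Steps.bwd (nat_lit 10) (Steps.fwd (nat_lit 8192) (Steps.bwd (nat_lit 12) Steps.nil)))) (nat_lit 42) (nat_lit 3),
  Rule.mk (nat_lit 6) (nat_lit 62) (Steps.bwd (nat_lit 1) (Steps.fwd (nat_lit 106496) (Steps.bwd (nat_lit 2) Steps.nil))) (nat_lit 12) (nat_lit 3),
  Rule.mk (nat_lit 18) (nat_lit 78) (Steps.bwd (nat_lit 1) (Steps.bwd (nat_lit 19) (Steps.bwd (nat_lit 19) (Steps.fwd (nat_lit 8192) Steps.nil)))) (nat_lit 48) (nat_lit 2),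
  Rule.mk (nat_lit 19) (nat_lit 78) (Steps.bwd (nat_lit 1) (Steps.fwd (nat_lit 155648) (Steps.bwd (nat_lit 18) (Steps.bwd (nat_lit 2) Steps.nil)))) (nat_lit 49) (nat_lit 4),
  Rule.mk (nat_lit 1) (nat_lit 78) (Steps.fwd (nat_lit 147456) (Steps.fwd (nat_lit 147456) (Steps.fwd (nat_lit 8192) (Steps.bwd (nat_lit 18) Steps.nil)))) (nat_lit 48) (nat_lit 3),
  Rule.mk (nat_lit 11) (nat_lit 94) (Steps.bwd (nat_lit 14) (Steps.bwd (nat_lit 10) (Steps.bwd (nat_lit 19) (Steps.fwd (nat_lit 147456) (Steps.fwd (nat_lit 114688) Steps.nil))))) (nat_lit 33) (nat_lit 4),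
  Rule.mk (nat_lit 13) (nat_lit 62) (Steps.bwd (nat_lit 19) (Steps.bwd (nat_lit 12) (Steps.fwd (nat_lit 155648) Steps.nil))) (nat_lit 26) (nat_lit 1),
  Rule.mk (nat_lit 15) (nat_lit 62) (Steps.bwd (nat_lit 19) (Steps.bwd (nat_lit 14) (Steps.bwd (nat_lit 18) Steps.nil))) (nat_lit 28) (nat_lit 1)]
noncomputable def R_7 : List (Rule) := [Rule.mk (nat_lit 16) (nat_lit 62) (Steps.bwd (nat_lit 19) (Steps.fwd (nat_lit 131072) (Steps.bwd (nat_lit 18) Steps.nil))) (nat_lit 31) (nat_lit 0),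
  Rule.mk (nat_lit 18) (nat_lit 62) (Steps.bwd (nat_lit 12) (Steps.bwd (nat_lit 19) (Steps.fwd (nat_lit 98304) Steps.nil))) (nat_lit 27) (nat_lit 3),
  Rule.mk (nat_lit 10) (nat_lit 78) (Steps.bwd (nat_lit 12) (Steps.bwd (nat_lit 19) (Steps.bwd (nat_lit 11) (Steps.bwd (nat_lit 13) Steps.nil)))) (nat_lit 19) (nat_lit 3),
  Rule.mk (nat_lit 16) (nat_lit 62) (Steps.bwd (nat_lit 19) (Steps.bwd (nat_lit 17) (Steps.bwd (nat_lit 18) Steps.nil))) (nat_lit 31) (nat_lit 0),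
  Rule.mk (nat_lit 11) (nat_lit 62) (Steps.bwd (nat_lit 19) (Steps.bwd (nat_lit 10) (Steps.bwd (nat_lit 18) Steps.nil))) (nat_lit 24) (nat_lit 1),
  Rule.mk (nat_lit 13) (nat_lit 62) (Steps.bwd (nat_lit 19) (Steps.fwd (nat_lit 106496) (Steps.fwd (nat_lit 155648) Steps.nil))) (nat_lit 26) (nat_lit 1),
  Rule.mk (nat_lit 18) (nat_lit 62) (Steps.bwd (nat_lit 12) (Steps.fwd (nat_lit 147456) (Steps.bwd (nat_lit 13) Steps.nil))) (nat_lit 27) (nat_lit 3),
  Rule.mk (nat_lit 15) (nat_lit 62) (Steps.bwd (nat_lit 19) (Steps.fwd (nat_lit 122880) (Steps.fwd (nat_lit 155648) Steps.nil))) (nat_lit 28) (nat_lit 1),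
  Rule.mk (nat_lit 10) (nat_lit 78) (Steps.bwd (nat_lit 12) (Steps.fwd (nat_lit 147456) (Steps.bwd (nat_lit 11) (Steps.bwd (nat_lit 13) Steps.nil)))) (nat_lit 19) (nat_lit 3),
  Rule.mk (nat_lit 15) (nat_lit 78) (Steps.bwd (nat_lit 12) (Steps.bwd (nat_lit 14) (Steps.bwd (nat_lit 18) (Steps.bwd (nat_lit 13) Steps.nil)))) (nat_lit 36) (nat_lit 2),
  Rule.mk (nat_lit 11) (nat_lit 94) (Steps.bwd (nat_lit 14) (Steps.fwd (nat_lit 90112) (Steps.bwd (nat_lit 19) (Steps.bwd (nat_lit 19) (Steps.bwd (nat_lit 15) Steps.nil))))) (nat_lit 33) (nat_lit 4),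
  Rule.mk (nat_lit 19) (nat_lit 62) (Steps.bwd (nat_lit 17) (Steps.bwd (nat_lit 18) (Steps.fwd (nat_lit 139264) Steps.nil))) (nat_lit 31) (nat_lit 1),
  Rule.mk (nat_lit 13) (nat_lit 62) (Steps.bwd (nat_lit 17) (Steps.fwd (nat_lit 106496) (Steps.fwd (nat_lit 139264) Steps.nil))) (nat_lit 38) (nat_lit 1),
  Rule.mk (nat_lit 15) (nat_lit 78) (Steps.bwd (nat_lit 17) (Steps.fwd (nat_lit 122880) (Steps.fwd (nat_lit 139264) (Steps.fwd (nat_lit 155648) Steps.nil)))) (nat_lit 40) (nat_lit 1),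
  Rule.mk (nat_lit 19) (nat_lit 78) (Steps.bwd (nat_lit 19) (Steps.bwd (nat_lit 19) (Steps.fwd (nat_lit 147456) (Steps.bwd (nat_lit 19) Steps.nil)))) (nat_lit 23) (nat_lit 0),
  Rule.mk (nat_lit 17) (nat_lit 62) (Steps.fwd (nat_lit 155648) (Steps.fwd (nat_lit 139264) (Steps.bwd (nat_lit 19) Steps.nil))) (nat_lit 31) (nat_lit 2),
  Rule.mk (nat_lit 15) (nat_lit 78) (Steps.bwd (nat_lit 12) (Steps.fwd (nat_lit 122880) (Steps.fwd (nat_lit 155648) (Steps.fwd (nat_lit 98304) Steps.nil)))) (nat_lit 36) (nat_lit 2),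
  Rule.mk (nat_lit 15) (nat_lit 62) (Steps.bwd (nat_lit 18) (Steps.bwd (nat_lit 14) (Steps.bwd (nat_lit 19) Steps.nil))) (nat_lit 29) (nat_lit 2),
  Rule.mk (nat_lit 18) (nat_lit 78) (Steps.bwd (nat_lit 18) (Steps.fwd (nat_lit 155648) (Steps.bwd (nat_lit 18) (Steps.bwd (nat_lit 18) Steps.nil)))) (nat_lit 22) (nat_lit 0),
  Rule.mk (nat_lit 11) (nat_lit 94) (Steps.bwd (nat_lit 14) (Steps.fwd (nat_lit 90112) (Steps.bwd (nat_lit 19) (Steps.fwd (nat_lit 147456) (Steps.bwd (nat_lit 15) Steps.nil))))) (nat_lit 33) (nat_lit 4),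
  Rule.mk (nat_lit 15) (nat_lit 78) (Steps.bwd (nat_lit 17) (Steps.bwd (nat_lit 14) (Steps.fwd (nat_lit 139264) (Steps.fwd (nat_lit 155648) Steps.nil)))) (nat_lit 40) (nat_lit 1),
  Rule.mk (nat_lit 11) (nat_lit 94) (Steps.bwd (nat_lit 14) (Steps.bwd (nat_lit 10) (Steps.fwd (nat_lit 147456) (Steps.fwd (nat_lit 147456) (Steps.bwd (nat_lit 15) Steps.nil))))) (nat_lit 33) (nat_lit 4),
  Rule.mk (nat_lit 15) (nat_lit 94) (Steps.bwd (nat_lit 10) (Steps.bwd (nat_lit 14) (Steps.fwd (nat_lit 155648) (Steps.fwd (nat_lit 155648) (Steps.fwd (nat_lit 81920) Steps.nil))))) (nat_lit 32) (nat_lit 2),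
  Rule.mk (nat_lit 15) (nat_lit 62) (Steps.bwd (nat_lit 19) (Steps.bwd (nat_lit 14) (Steps.fwd (nat_lit 155648) Steps.nil))) (nat_lit 28) (nat_lit 1),
  Rule.mk (nat_lit 13) (nat_lit 78) (Steps.bwd (nat_lit 14) (Steps.bwd (nat_lit 12) (Steps.fwd (nat_lit 147456) (Steps.fwd (nat_lit 114688) Steps.nil)))) (nat_lit 37) (nat_lit 3),
  Rule.mk (nat_lit 10) (nat_lit 94) (Steps.bwd (nat_lit 14) (Steps.bwd (nat_lit 18) (Steps.bwd (nat_lit 18) (Steps.fwd (nat_lit 81920) (Steps.bwd (nat_lit 15) Steps.nil))))) (nat_lit 32) (nat_lit 3),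
  Rule.mk (nat_lit 17) (nat_lit 62) (Steps.bwd (nat_lit 19) (Steps.fwd (nat_lit 139264) (Steps.bwd (nat_lit 18) Steps.nil))) (nat_lit 30) (nat_lit 1),
  Rule.mk (nat_lit 15) (nat_lit 62) (Steps.bwd (nat_lit 18) (Steps.fwd (nat_lit 122880) (Steps.bwd (nat_lit 19) Steps.nil))) (nat_lit 29) (nat_lit 2),
  Rule.mk (nat_lit 16) (nat_lit 62) (Steps.bwd (nat_lit 18) (Steps.fwd (nat_lit 131072) (Steps.fwd (nat_lit 147456) Steps.nil))) (nat_lit 30) (nat_lit 3),
  Rule.mk (nat_lit 15) (nat_lit 78) (Steps.bwd (nat_lit 16) (Steps.bwd (nat_lit 14) (Steps.bwd (nat_lit 19) (Steps.fwd (nat_lit 131072) Steps.nil)))) (nat_lit 41) (nat_lit 3),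
  Rule.mk (nat_lit 15) (nat_lit 78) (Steps.bwd (nat_lit 13) (Steps.bwd (nat_lit 14) (Steps.fwd (nat_lit 106496) (Steps.bwd (nat_lit 19) Steps.nil)))) (nat_lit 37) (nat_lit 2),
  Rule.mk (nat_lit 13) (nat_lit 78) (Steps.fwd (nat_lit 122880) (Steps.fwd (nat_lit 106496) (Steps.fwd (nat_lit 147456) (Steps.bwd (nat_lit 15) Steps.nil)))) (nat_lit 37) (nat_lit 3),
  Rule.mk (nat_lit 10) (nat_lit 78) (Steps.bwd (nat_lit 18) (Steps.fwd (nat_lit 98304) (Steps.bwd (nat_lit 11) (Steps.bwd (nat_lit 12) Steps.nil)))) (nat_lit 18) (nat_lit 0),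
  Rule.mk (nat_lit 19) (nat_lit 62) (Steps.fwd (nat_lit 24576) (Steps.fwd (nat_lit 155648) (Steps.bwd (nat_lit 3) Steps.nil))) (nat_lit 54) (nat_lit 0),
  Rule.mk (nat_lit 17) (nat_lit 94) (Steps.bwd (nat_lit 10) (Steps.bwd (nat_lit 16) (Steps.fwd (nat_lit 147456) (Steps.bwd (nat_lit 19) (Steps.fwd (nat_lit 81920) Steps.nil))))) (nat_lit 34) (nat_lit 2),
  Rule.mk (nat_lit 3) (nat_lit 126) (Steps.bwd (nat_lit 10) (Steps.fwd (nat_lit 90112) (Steps.fwd (nat_lit 139264) (Steps.fwd (nat_lit 114688) (Steps.bwd (nat_lit 15) (Steps.fwd (nat_lit 24576) (Steps.bwd (nat_lit 15) Steps.nil))))))) (nat_lit 53) (nat_lit 0),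
  Rule.mk (nat_lit 17) (nat_lit 142) (Steps.bwd (nat_lit 11) (Steps.bwd (nat_lit 17) (Steps.bwd (nat_lit 14) (Steps.bwd (nat_lit 12) (Steps.fwd (nat_lit 81920) (Steps.bwd (nat_lit 2) (Steps.bwd (nat_lit 16) (Steps.bwd (nat_lit 1) Steps.nil)))))))) (nat_lit 46) (nat_lit 4),
  Rule.mk (nat_lit 18) (nat_lit 62) (Steps.bwd (nat_lit 17) (Steps.bwd (nat_lit 19) (Steps.bwd (nat_lit 16) Steps.nil))) (nat_lit 30) (nat_lit 0),
  Rule.mk (nat_lit 4) (nat_lit 62) (Steps.bwd (nat_lit 19) (Steps.bwd (nat_lit 3) (Steps.bwd (nat_lit 18) Steps.nil))) (nat_lit 55) (nat_lit 2),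
  Rule.mk (nat_lit 18) (nat_lit 62) (Steps.bwd (nat_lit 17) (Steps.fwd (nat_lit 147456) (Steps.bwd (nat_lit 16) Steps.nil))) (nat_lit 30) (nat_lit 0),
  Rule.mk (nat_lit 15) (nat_lit 78) (Steps.bwd (nat_lit 17) (Steps.bwd (nat_lit 14) (Steps.bwd (nat_lit 16) (Steps.bwd (nat_lit 18) Steps.nil)))) (nat_lit 40) (nat_lit 1),
  Rule.mk (nat_lit 12) (nat_lit 78) (Steps.bwd (nat_lit 14) (Steps.fwd (nat_lit 155648) (Steps.bwd (nat_lit 13) (Steps.bwd (nat_lit 15) Steps.nil)))) (nat_lit 36) (nat_lit 3),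
  Rule.mk (nat_lit 12) (nat_lit 78) (Steps.bwd (nat_lit 14) (Steps.bwd (nat_lit 18) (Steps.bwd (nat_lit 13) (Steps.fwd (nat_lit 114688) Steps.nil)))) (nat_lit 36) (nat_lit 3),
  Rule.mk (nat_lit 18) (nat_lit 62) (Steps.bwd (nat_lit 13) (Steps.bwd (nat_lit 19) (Steps.bwd (nat_lit 12) Steps.nil))) (nat_lit 26) (nat_lit 0),
  Rule.mk (nat_lit 15) (nat_lit 78) (Steps.bwd (nat_lit 13) (Steps.fwd (nat_lit 122880) (Steps.fwd (nat_lit 106496) (Steps.fwd (nat_lit 147456) Steps.nil)))) (nat_lit 37) (nat_lit 2),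
  Rule.mk (nat_lit 18) (nat_lit 62) (Steps.bwd (nat_lit 14) (Steps.bwd (nat_lit 19) (Steps.fwd (nat_lit 114688) Steps.nil))) (nat_lit 29) (nat_lit 3),
  Rule.mk (nat_lit 16) (nat_lit 78) (Steps.bwd (nat_lit 14) (Steps.bwd (nat_lit 19) (Steps.bwd (nat_lit 17) (Steps.bwd (nat_lit 15) Steps.nil)))) (nat_lit 41) (nat_lit 4),
  Rule.mk (nat_lit 12) (nat_lit 62) (Steps.bwd (nat_lit 19) (Steps.bwd (nat_lit 13) (Steps.fwd (nat_lit 155648) Steps.nil))) (nat_lit 27) (nat_lit 0),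
  Rule.mk (nat_lit 18) (nat_lit 62) (Steps.fwd (nat_lit 122880) (Steps.bwd (nat_lit 19) (Steps.bwd (nat_lit 15) Steps.nil))) (nat_lit 29) (nat_lit 3),
  Rule.mk (nat_lit 18) (nat_lit 62) (Steps.bwd (nat_lit 11) (Steps.bwd (nat_lit 19) (Steps.bwd (nat_lit 10) Steps.nil))) (nat_lit 24) (nat_lit 0),
  Rule.mk (nat_lit 19) (nat_lit 62) (Steps.bwd (nat_lit 11) (Steps.bwd (nat_lit 18) (Steps.fwd (nat_lit 90112) Steps.nil))) (nat_lit 25) (nat_lit 1),
  Rule.mk (nat_lit 13) (nat_lit 78) (Steps.bwd (nat_lit 11) (Steps.bwd (nat_lit 12) (Steps.bwd (nat_lit 10) (Steps.fwd (nat_lit 155648) Steps.nil)))) (nat_lit 18) (nat_lit 2),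
  Rule.mk (nat_lit 15) (nat_lit 94) (Steps.bwd (nat_lit 11) (Steps.fwd (nat_lit 122880) (Steps.bwd (nat_lit 10) (Steps.fwd (nat_lit 147456) (Steps.fwd (nat_lit 147456) Steps.nil))))) (nat_lit 33) (nat_lit 3),
  Rule.mk (nat_lit 19) (nat_lit 62) (Steps.bwd (nat_lit 14) (Steps.fwd (nat_lit 155648) (Steps.fwd (nat_lit 114688) Steps.nil))) (nat_lit 28) (nat_lit 2),
  Rule.mk (nat_lit 10) (nat_lit 62) (Steps.fwd (nat_lit 147456) (Steps.fwd (nat_lit 81920) (Steps.bwd (nat_lit 18) Steps.nil))) (nat_lit 25) (nat_lit 0),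
  Rule.mk (nat_lit 4) (nat_lit 62) (Steps.fwd (nat_lit 139264) (Steps.bwd (nat_lit 3) (Steps.bwd (nat_lit 6) Steps.nil))) (nat_lit 16) (nat_lit 0),
  Rule.mk (nat_lit 18) (nat_lit 62) (Steps.bwd (nat_lit 13) (Steps.fwd (nat_lit 147456) (Steps.bwd (nat_lit 12) Steps.nil))) (nat_lit 26) (nat_lit 0),
  Rule.mk (nat_lit 4) (nat_lit 62) (Steps.bwd (nat_lit 5) (Steps.bwd (nat_lit 3) (Steps.bwd (nat_lit 15) Steps.nil))) (nat_lit 15) (nat_lit 1),
  Rule.mk (nat_lit 17) (nat_lit 94) (Steps.bwd (nat_lit 11) (Steps.fwd (nat_lit 139264) (Steps.bwd (nat_lit 10) (Steps.bwd (nat_lit 18) (Steps.bwd (nat_lit 18) Steps.nil))))) (nat_lit 35) (nat_lit 3),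
  Rule.mk (nat_lit 14) (nat_lit 78) (Steps.bwd (nat_lit 16) (Steps.fwd (nat_lit 155648) (Steps.bwd (nat_lit 15) (Steps.bwd (nat_lit 17) Steps.nil)))) (nat_lit 40) (nat_lit 3),
  Rule.mk (nat_lit 15) (nat_lit 78) (Steps.bwd (nat_lit 16) (Steps.fwd (nat_lit 122880) (Steps.fwd (nat_lit 147456) (Steps.bwd (nat_lit 17) Steps.nil)))) (nat_lit 41) (nat_lit 3),
  Rule.mk (nat_lit 19) (nat_lit 62) (Steps.bwd (nat_lit 14) (Steps.bwd (nat_lit 18) (Steps.fwd (nat_lit 114688) Steps.nil))) (nat_lit 28) (nat_lit 2),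
  Rule.mk (nat_lit 13) (nat_lit 78) (Steps.bwd (nat_lit 14) (Steps.fwd (nat_lit 106496) (Steps.bwd (nat_lit 19) (Steps.fwd (nat_lit 114688) Steps.nil)))) (nat_lit 37) (nat_lit 3),
  Rule.mk (nat_lit 17) (nat_lit 78) (Steps.bwd (nat_lit 14) (Steps.fwd (nat_lit 139264) (Steps.bwd (nat_lit 18) (Steps.bwd (nat_lit 15) Steps.nil)))) (nat_lit 40) (nat_lit 2)]
noncomputable def R_8 : List (Rule) := [Rule.mk (nat_lit 19) (nat_lit 62) (Steps.bwd (nat_lit 13) (Steps.fwd (nat_lit 155648) (Steps.fwd (nat_lit 106496) Steps.nil))) (nat_lit 27) (nat_lit 1),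
  Rule.mk (nat_lit 18) (nat_lit 62) (Steps.bwd (nat_lit 13) (Steps.fwd (nat_lit 147456) (Steps.fwd (nat_lit 106496) Steps.nil))) (nat_lit 26) (nat_lit 0),
  Rule.mk (nat_lit 16) (nat_lit 62) (Steps.bwd (nat_lit 13) (Steps.bwd (nat_lit 17) (Steps.bwd (nat_lit 12) Steps.nil))) (nat_lit 38) (nat_lit 0),
  Rule.mk (nat_lit 4) (nat_lit 62) (Steps.fwd (nat_lit 49152) (Steps.bwd (nat_lit 3) (Steps.bwd (nat_lit 15) Steps.nil))) (nat_lit 15) (nat_lit 1),
  Rule.mk (nat_lit 11) (nat_lit 94) (Steps.fwd (nat_lit 122880) (Steps.bwd (nat_lit 10) (Steps.fwd (nat_lit 147456) (Steps.fwd (nat_lit 147456) (Steps.bwd (nat_lit 15) Steps.nil))))) (nat_lit 33) (nat_lit 4),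
  Rule.mk (nat_lit 15) (nat_lit 78) (Steps.bwd (nat_lit 16) (Steps.fwd (nat_lit 122880) (Steps.bwd (nat_lit 19) (Steps.fwd (nat_lit 131072) Steps.nil)))) (nat_lit 41) (nat_lit 3),
  Rule.mk (nat_lit 11) (nat_lit 94) (Steps.bwd (nat_lit 16) (Steps.bwd (nat_lit 10) (Steps.bwd (nat_lit 18) (Steps.bwd (nat_lit 18) (Steps.fwd (nat_lit 131072) Steps.nil))))) (nat_lit 35) (nat_lit 4),
  Rule.mk (nat_lit 14) (nat_lit 78) (Steps.bwd (nat_lit 16) (Steps.bwd (nat_lit 18) (Steps.bwd (nat_lit 15) (Steps.bwd (nat_lit 17) Steps.nil)))) (nat_lit 40) (nat_lit 3),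
  Rule.mk (nat_lit 15) (nat_lit 78) (Steps.bwd (nat_lit 12) (Steps.bwd (nat_lit 14) (Steps.bwd (nat_lit 18) (Steps.fwd (nat_lit 98304) Steps.nil)))) (nat_lit 36) (nat_lit 2),
  Rule.mk (nat_lit 15) (nat_lit 62) (Steps.bwd (nat_lit 18) (Steps.fwd (nat_lit 122880) (Steps.fwd (nat_lit 147456) Steps.nil))) (nat_lit 29) (nat_lit 2),
  Rule.mk (nat_lit 11) (nat_lit 94) (Steps.bwd (nat_lit 16) (Steps.fwd (nat_lit 90112) (Steps.fwd (nat_lit 155648) (Steps.fwd (nat_lit 155648) (Steps.bwd (nat_lit 17) Steps.nil))))) (nat_lit 35) (nat_lit 4),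
  Rule.mk (nat_lit 19) (nat_lit 62) (Steps.bwd (nat_lit 14) (Steps.fwd (nat_lit 155648) (Steps.bwd (nat_lit 15) Steps.nil))) (nat_lit 28) (nat_lit 2),
  Rule.mk (nat_lit 11) (nat_lit 62) (Steps.bwd (nat_lit 18) (Steps.fwd (nat_lit 90112) (Steps.bwd (nat_lit 19) Steps.nil))) (nat_lit 25) (nat_lit 2),
  Rule.mk (nat_lit 15) (nat_lit 110) (Steps.bwd (nat_lit 1) (Steps.bwd (nat_lit 15) (Steps.fwd (nat_lit 114688) (Steps.bwd (nat_lit 10) (Steps.fwd (nat_lit 139264) (Steps.bwd (nat_lit 2) Steps.nil)))))) (nat_lit 45) (nat_lit 6),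
  Rule.mk (nat_lit 4) (nat_lit 62) (Steps.bwd (nat_lit 5) (Steps.fwd (nat_lit 32768) (Steps.bwd (nat_lit 15) Steps.nil))) (nat_lit 15) (nat_lit 1),
  Rule.mk (nat_lit 17) (nat_lit 62) (Steps.bwd (nat_lit 3) (Steps.bwd (nat_lit 5) (Steps.fwd (nat_lit 24576) Steps.nil))) (nat_lit 17) (nat_lit 0),
  Rule.mk (nat_lit 14) (nat_lit 110) (Steps.bwd (nat_lit 1) (Steps.fwd (nat_lit 131072) (Steps.bwd (nat_lit 11) (Steps.fwd (nat_lit 122880) (Steps.fwd (nat_lit 122880) (Steps.bwd (nat_lit 2) Steps.nil)))))) (nat_lit 44) (nat_lit 2),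
  Rule.mk (nat_lit 17) (nat_lit 78) (Steps.bwd (nat_lit 14) (Steps.bwd (nat_lit 16) (Steps.bwd (nat_lit 18) (Steps.fwd (nat_lit 114688) Steps.nil)))) (nat_lit 40) (nat_lit 2),
  Rule.mk (nat_lit 10) (nat_lit 62) (Steps.bwd (nat_lit 18) (Steps.fwd (nat_lit 81920) (Steps.fwd (nat_lit 147456) Steps.nil))) (nat_lit 24) (nat_lit 3),
  Rule.mk (nat_lit 19) (nat_lit 62) (Steps.bwd (nat_lit 3) (Steps.bwd (nat_lit 18) (Steps.fwd (nat_lit 24576) Steps.nil))) (nat_lit 55) (nat_lit 3),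
  Rule.mk (nat_lit 14) (nat_lit 78) (Steps.bwd (nat_lit 19) (Steps.fwd (nat_lit 131072) (Steps.bwd (nat_lit 15) (Steps.bwd (nat_lit 16) Steps.nil)))) (nat_lit 41) (nat_lit 0),
  Rule.mk (nat_lit 19) (nat_lit 62) (Steps.bwd (nat_lit 17) (Steps.fwd (nat_lit 155648) (Steps.bwd (nat_lit 16) Steps.nil))) (nat_lit 31) (nat_lit 1),
  Rule.mk (nat_lit 11) (nat_lit 62) (Steps.bwd (nat_lit 19) (Steps.bwd (nat_lit 10) (Steps.fwd (nat_lit 155648) Steps.nil))) (nat_lit 24) (nat_lit 1),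
  Rule.mk (nat_lit 4) (nat_lit 62) (Steps.bwd (nat_lit 19) (Steps.bwd (nat_lit 3) (Steps.fwd (nat_lit 155648) Steps.nil))) (nat_lit 55) (nat_lit 2),
  Rule.mk (nat_lit 5) (nat_lit 62) (Steps.bwd (nat_lit 4) (Steps.bwd (nat_lit 17) (Steps.fwd (nat_lit 32768) Steps.nil))) (nat_lit 17) (nat_lit 2),
  Rule.mk (nat_lit 11) (nat_lit 62) (Steps.fwd (nat_lit 155648) (Steps.bwd (nat_lit 10) (Steps.bwd (nat_lit 19) Steps.nil))) (nat_lit 25) (nat_lit 2),
  Rule.mk (nat_lit 19) (nat_lit 78) (Steps.bwd (nat_lit 1) (Steps.bwd (nat_lit 18) (Steps.bwd (nat_lit 18) (Steps.bwd (nat_lit 2) Steps.nil)))) (nat_lit 49) (nat_lit 4),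
  Rule.mk (nat_lit 1) (nat_lit 78) (Steps.bwd (nat_lit 11) (Steps.bwd (nat_lit 11) (Steps.fwd (nat_lit 8192) (Steps.bwd (nat_lit 13) Steps.nil)))) (nat_lit 43) (nat_lit 0),
  Rule.mk (nat_lit 14) (nat_lit 62) (Steps.bwd (nat_lit 19) (Steps.bwd (nat_lit 15) (Steps.fwd (nat_lit 155648) Steps.nil))) (nat_lit 29) (nat_lit 0),
  Rule.mk (nat_lit 3) (nat_lit 62) (Steps.bwd (nat_lit 15) (Steps.fwd (nat_lit 24576) (Steps.fwd (nat_lit 49152) Steps.nil))) (nat_lit 15) (nat_lit 3),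
  Rule.mk (nat_lit 17) (nat_lit 78) (Steps.bwd (nat_lit 15) (Steps.fwd (nat_lit 139264) (Steps.bwd (nat_lit 14) (Steps.bwd (nat_lit 19) Steps.nil)))) (nat_lit 41) (nat_lit 2),
  Rule.mk (nat_lit 18) (nat_lit 62) (Steps.bwd (nat_lit 4) (Steps.bwd (nat_lit 19) (Steps.bwd (nat_lit 3) Steps.nil))) (nat_lit 55) (nat_lit 1),
  Rule.mk (nat_lit 3) (nat_lit 62) (Steps.bwd (nat_lit 19) (Steps.fwd (nat_lit 24576) (Steps.fwd (nat_lit 155648) Steps.nil))) (nat_lit 54) (nat_lit 3),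
  Rule.mk (nat_lit 5) (nat_lit 62) (Steps.fwd (nat_lit 32768) (Steps.fwd (nat_lit 114688) (Steps.bwd (nat_lit 4) Steps.nil))) (nat_lit 15) (nat_lit 2),
  Rule.mk (nat_lit 17) (nat_lit 94) (Steps.bwd (nat_lit 10) (Steps.bwd (nat_lit 16) (Steps.bwd (nat_lit 19) (Steps.fwd (nat_lit 147456) (Steps.bwd (nat_lit 11) Steps.nil))))) (nat_lit 34) (nat_lit 2),
  Rule.mk (nat_lit 3) (nat_lit 62) (Steps.fwd (nat_lit 49152) (Steps.bwd (nat_lit 4) (Steps.bwd (nat_lit 17) Steps.nil))) (nat_lit 17) (nat_lit 1),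
  Rule.mk (nat_lit 17) (nat_lit 94) (Steps.bwd (nat_lit 10) (Steps.bwd (nat_lit 16) (Steps.bwd (nat_lit 19) (Steps.fwd (nat_lit 147456) (Steps.fwd (nat_lit 81920) Steps.nil))))) (nat_lit 34) (nat_lit 2),
  Rule.mk (nat_lit 16) (nat_lit 94) (Steps.bwd (nat_lit 10) (Steps.fwd (nat_lit 155648) (Steps.fwd (nat_lit 155648) (Steps.bwd (nat_lit 17) (Steps.bwd (nat_lit 11) Steps.nil))))) (nat_lit 35) (nat_lit 5),
  Rule.mk (nat_lit 3) (nat_lit 126) (Steps.bwd (nat_lit 10) (Steps.fwd (nat_lit 90112) (Steps.bwd (nat_lit 16) (Steps.bwd (nat_lit 15) (Steps.bwd (nat_lit 15) (Steps.bwd (nat_lit 4) (Steps.bwd (nat_lit 15) Steps.nil))))))) (nat_lit 53) (nat_lit 0),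
  Rule.mk (nat_lit 3) (nat_lit 62) (Steps.fwd (nat_lit 40960) (Steps.bwd (nat_lit 4) (Steps.bwd (nat_lit 16) Steps.nil))) (nat_lit 16) (nat_lit 2),
  Rule.mk (nat_lit 14) (nat_lit 62) (Steps.bwd (nat_lit 19) (Steps.bwd (nat_lit 15) (Steps.bwd (nat_lit 18) Steps.nil))) (nat_lit 29) (nat_lit 0),
  Rule.mk (nat_lit 17) (nat_lit 78) (Steps.bwd (nat_lit 15) (Steps.bwd (nat_lit 16) (Steps.bwd (nat_lit 14) (Steps.bwd (nat_lit 19) Steps.nil)))) (nat_lit 41) (nat_lit 2),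
  Rule.mk (nat_lit 18) (nat_lit 62) (Steps.bwd (nat_lit 4) (Steps.bwd (nat_lit 19) (Steps.fwd (nat_lit 32768) Steps.nil))) (nat_lit 55) (nat_lit 1),
  Rule.mk (nat_lit 6) (nat_lit 62) (Steps.bwd (nat_lit 3) (Steps.fwd (nat_lit 122880) (Steps.fwd (nat_lit 24576) Steps.nil))) (nat_lit 14) (nat_lit 3),
  Rule.mk (nat_lit 17) (nat_lit 62) (Steps.bwd (nat_lit 3) (Steps.fwd (nat_lit 49152) (Steps.fwd (nat_lit 24576) Steps.nil))) (nat_lit 17) (nat_lit 0),
  Rule.mk (nat_lit 18) (nat_lit 62) (Steps.bwd (nat_lit 3) (Steps.bwd (nat_lit 19) (Steps.fwd (nat_lit 24576) Steps.nil))) (nat_lit 54) (nat_lit 2),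
  Rule.mk (nat_lit 13) (nat_lit 142) (Steps.bwd (nat_lit 15) (Steps.bwd (nat_lit 16) (Steps.bwd (nat_lit 10) (Steps.fwd (nat_lit 139264) (Steps.bwd (nat_lit 2) (Steps.bwd (nat_lit 17) (Steps.bwd (nat_lit 1) (Steps.fwd (nat_lit 90112) Steps.nil)))))))) (nat_lit 47) (nat_lit 2),
  Rule.mk (nat_lit 14) (nat_lit 62) (Steps.bwd (nat_lit 19) (Steps.fwd (nat_lit 114688) (Steps.bwd (nat_lit 18) Steps.nil))) (nat_lit 29) (nat_lit 0),
  Rule.mk (nat_lit 18) (nat_lit 62) (Steps.bwd (nat_lit 3) (Steps.fwd (nat_lit 147456) (Steps.fwd (nat_lit 24576) Steps.nil))) (nat_lit 54) (nat_lit 2),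
  Rule.mk (nat_lit 15) (nat_lit 126) (Steps.bwd (nat_lit 3) (Steps.bwd (nat_lit 10) (Steps.bwd (nat_lit 10) (Steps.bwd (nat_lit 16) (Steps.fwd (nat_lit 114688) (Steps.bwd (nat_lit 15) (Steps.bwd (nat_lit 4) Steps.nil))))))) (nat_lit 53) (nat_lit 7),
  Rule.mk (nat_lit 10) (nat_lit 94) (Steps.bwd (nat_lit 14) (Steps.fwd (nat_lit 155648) (Steps.bwd (nat_lit 18) (Steps.fwd (nat_lit 81920) (Steps.bwd (nat_lit 15) Steps.nil))))) (nat_lit 32) (nat_lit 3),
  Rule.mk (nat_lit 18) (nat_lit 62) (Steps.bwd (nat_lit 16) (Steps.bwd (nat_lit 19) (Steps.fwd (nat_lit 131072) Steps.nil))) (nat_lit 31) (nat_lit 3),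
  Rule.mk (nat_lit 11) (nat_lit 94) (Steps.bwd (nat_lit 16) (Steps.fwd (nat_lit 90112) (Steps.bwd (nat_lit 18) (Steps.bwd (nat_lit 18) (Steps.fwd (nat_lit 131072) Steps.nil))))) (nat_lit 35) (nat_lit 4),
  Rule.mk (nat_lit 4) (nat_lit 78) (Steps.bwd (nat_lit 4) (Steps.fwd (nat_lit 24576) (Steps.fwd (nat_lit 24576) (Steps.bwd (nat_lit 4) Steps.nil)))) (nat_lit 3) (nat_lit 0),
  Rule.mk (nat_lit 13) (nat_lit 126) (Steps.bwd (nat_lit 3) (Steps.bwd (nat_lit 12) (Steps.fwd (nat_lit 122880) (Steps.bwd (nat_lit 17) (Steps.bwd (nat_lit 11) (Steps.fwd (nat_lit 131072) (Steps.bwd (nat_lit 4) Steps.nil))))))) (nat_lit 51) (nat_lit 7),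
  Rule.mk (nat_lit 12) (nat_lit 126) (Steps.bwd (nat_lit 3) (Steps.fwd (nat_lit 139264) (Steps.fwd (nat_lit 90112) (Steps.bwd (nat_lit 16) (Steps.bwd (nat_lit 15) (Steps.bwd (nat_lit 13) (Steps.bwd (nat_lit 4) Steps.nil))))))) (nat_lit 50) (nat_lit 2),
  Rule.mk (nat_lit 4) (nat_lit 62) (Steps.fwd (nat_lit 147456) (Steps.fwd (nat_lit 32768) (Steps.bwd (nat_lit 18) Steps.nil))) (nat_lit 55) (nat_lit 2),
  Rule.mk (nat_lit 3) (nat_lit 62) (Steps.bwd (nat_lit 19) (Steps.bwd (nat_lit 4) (Steps.bwd (nat_lit 18) Steps.nil))) (nat_lit 54) (nat_lit 3),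
  Rule.mk (nat_lit 4) (nat_lit 78) (Steps.bwd (nat_lit 4) (Steps.bwd (nat_lit 4) (Steps.fwd (nat_lit 24576) (Steps.fwd (nat_lit 24576) Steps.nil)))) (nat_lit 3) (nat_lit 0),
  Rule.mk (nat_lit 3) (nat_lit 62) (Steps.bwd (nat_lit 18) (Steps.bwd (nat_lit 4) (Steps.bwd (nat_lit 19) Steps.nil))) (nat_lit 55) (nat_lit 0),
  Rule.mk (nat_lit 13) (nat_lit 126) (Steps.bwd (nat_lit 3) (Steps.bwd (nat_lit 12) (Steps.bwd (nat_lit 14) (Steps.bwd (nat_lit 17) (Steps.bwd (nat_lit 11) (Steps.fwd (nat_lit 131072) (Steps.bwd (nat_lit 4) Steps.nil))))))) (nat_lit 51) (nat_lit 7),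
  Rule.mk (nat_lit 4) (nat_lit 126) (Steps.bwd (nat_lit 12) (Steps.fwd (nat_lit 32768) (Steps.fwd (nat_lit 139264) (Steps.fwd (nat_lit 90112) (Steps.bwd (nat_lit 16) (Steps.bwd (nat_lit 15) (Steps.bwd (nat_lit 13) Steps.nil))))))) (nat_lit 50) (nat_lit 1),
  Rule.mk (nat_lit 19) (nat_lit 78) (Steps.bwd (nat_lit 19) (Steps.bwd (nat_lit 19) (Steps.bwd (nat_lit 19) (Steps.bwd (nat_lit 19) Steps.nil)))) (nat_lit 23) (nat_lit 0),
  Rule.mk (nat_lit 14) (nat_lit 126) (Steps.bwd (nat_lit 3) (Steps.bwd (nat_lit 14) (Steps.fwd (nat_lit 122880) (Steps.fwd (nat_lit 131072) (Steps.bwd (nat_lit 11) (Steps.fwd (nat_lit 81920) (Steps.bwd (nat_lit 4) Steps.nil))))))) (nat_lit 52) (nat_lit 2)]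
noncomputable def R_9 : List (Rule) := [Rule.mk (nat_lit 15) (nat_lit 126) (Steps.bwd (nat_lit 3) (Steps.fwd (nat_lit 90112) (Steps.bwd (nat_lit 10) (Steps.bwd (nat_lit 16) (Steps.fwd (nat_lit 114688) (Steps.bwd (nat_lit 15) (Steps.bwd (nat_lit 4) Steps.nil))))))) (nat_lit 53) (nat_lit 7),
  Rule.mk (nat_lit 4) (nat_lit 62) (Steps.bwd (nat_lit 16) (Steps.fwd (nat_lit 32768) (Steps.fwd (nat_lit 40960) Steps.nil))) (nat_lit 16) (nat_lit 0),
  Rule.mk (nat_lit 5) (nat_lit 62) (Steps.bwd (nat_lit 3) (Steps.bwd (nat_lit 15) (Steps.bwd (nat_lit 4) Steps.nil))) (nat_lit 15) (nat_lit 2),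
  Rule.mk (nat_lit 10) (nat_lit 62) (Steps.bwd (nat_lit 18) (Steps.bwd (nat_lit 11) (Steps.fwd (nat_lit 147456) Steps.nil))) (nat_lit 24) (nat_lit 3),
  Rule.mk (nat_lit 4) (nat_lit 62) (Steps.bwd (nat_lit 18) (Steps.bwd (nat_lit 3) (Steps.fwd (nat_lit 147456) Steps.nil))) (nat_lit 54) (nat_lit 1),
  Rule.mk (nat_lit 6) (nat_lit 62) (Steps.bwd (nat_lit 3) (Steps.fwd (nat_lit 122880) (Steps.bwd (nat_lit 4) Steps.nil))) (nat_lit 14) (nat_lit 3),
  Rule.mk (nat_lit 13) (nat_lit 78) (Steps.bwd (nat_lit 11) (Steps.fwd (nat_lit 106496) (Steps.bwd (nat_lit 10) (Steps.bwd (nat_lit 18) Steps.nil)))) (nat_lit 18) (nat_lit 2),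
  Rule.mk (nat_lit 18) (nat_lit 78) (Steps.bwd (nat_lit 2) (Steps.fwd (nat_lit 147456) (Steps.fwd (nat_lit 16384) (Steps.bwd (nat_lit 18) Steps.nil)))) (nat_lit 49) (nat_lit 2),
  Rule.mk (nat_lit 14) (nat_lit 62) (Steps.bwd (nat_lit 18) (Steps.bwd (nat_lit 15) (Steps.bwd (nat_lit 19) Steps.nil))) (nat_lit 28) (nat_lit 3),
  Rule.mk (nat_lit 1) (nat_lit 78) (Steps.bwd (nat_lit 18) (Steps.bwd (nat_lit 18) (Steps.bwd (nat_lit 2) (Steps.bwd (nat_lit 19) Steps.nil)))) (nat_lit 49) (nat_lit 0),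
  Rule.mk (nat_lit 2) (nat_lit 78) (Steps.bwd (nat_lit 18) (Steps.bwd (nat_lit 1) (Steps.fwd (nat_lit 147456) (Steps.fwd (nat_lit 147456) Steps.nil)))) (nat_lit 48) (nat_lit 1),
  Rule.mk (nat_lit 1) (nat_lit 94) (Steps.fwd (nat_lit 32768) (Steps.bwd (nat_lit 2) (Steps.fwd (nat_lit 8192) (Steps.bwd (nat_lit 4) (Steps.fwd (nat_lit 16384) Steps.nil))))) (nat_lit 6) (nat_lit 5),
  Rule.mk (nat_lit 11) (nat_lit 78) (Steps.bwd (nat_lit 2) (Steps.bwd (nat_lit 13) (Steps.bwd (nat_lit 1) (Steps.fwd (nat_lit 81920) Steps.nil)))) (nat_lit 43) (nat_lit 2),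
  Rule.mk (nat_lit 10) (nat_lit 62) (Steps.fwd (nat_lit 147456) (Steps.bwd (nat_lit 11) (Steps.fwd (nat_lit 155648) Steps.nil))) (nat_lit 25) (nat_lit 0),
  Rule.mk (nat_lit 1) (nat_lit 110) (Steps.fwd (nat_lit 131072) (Steps.bwd (nat_lit 11) (Steps.bwd (nat_lit 14) (Steps.fwd (nat_lit 122880) (Steps.bwd (nat_lit 2) (Steps.bwd (nat_lit 14) Steps.nil)))))) (nat_lit 44) (nat_lit 3),
  Rule.mk (nat_lit 2) (nat_lit 78) (Steps.bwd (nat_lit 12) (Steps.bwd (nat_lit 1) (Steps.bwd (nat_lit 10) (Steps.fwd (nat_lit 90112) Steps.nil)))) (nat_lit 42) (nat_lit 1),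
  Rule.mk (nat_lit 1) (nat_lit 78) (Steps.fwd (nat_lit 155648) (Steps.fwd (nat_lit 155648) (Steps.bwd (nat_lit 2) (Steps.bwd (nat_lit 19) Steps.nil)))) (nat_lit 49) (nat_lit 0),
  Rule.mk (nat_lit 16) (nat_lit 110) (Steps.bwd (nat_lit 2) (Steps.bwd (nat_lit 15) (Steps.bwd (nat_lit 1) (Steps.fwd (nat_lit 114688) (Steps.bwd (nat_lit 15) (Steps.fwd (nat_lit 90112) Steps.nil)))))) (nat_lit 45) (nat_lit 4),
  Rule.mk (nat_lit 18) (nat_lit 62) (Steps.fwd (nat_lit 131072) (Steps.bwd (nat_lit 19) (Steps.bwd (nat_lit 16) Steps.nil))) (nat_lit 30) (nat_lit 0),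
  Rule.mk (nat_lit 18) (nat_lit 78) (Steps.fwd (nat_lit 155648) (Steps.bwd (nat_lit 18) (Steps.bwd (nat_lit 18) (Steps.fwd (nat_lit 155648) Steps.nil)))) (nat_lit 22) (nat_lit 0),
  Rule.mk (nat_lit 1) (nat_lit 78) (Steps.bwd (nat_lit 18) (Steps.fwd (nat_lit 155648) (Steps.bwd (nat_lit 2) (Steps.fwd (nat_lit 147456) Steps.nil)))) (nat_lit 49) (nat_lit 0),
  Rule.mk (nat_lit 2) (nat_lit 78) (Steps.fwd (nat_lit 155648) (Steps.bwd (nat_lit 1) (Steps.bwd (nat_lit 19) (Steps.bwd (nat_lit 19) Steps.nil)))) (nat_lit 48) (nat_lit 1),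
  Rule.mk (nat_lit 19) (nat_lit 62) (Steps.bwd (nat_lit 3) (Steps.bwd (nat_lit 18) (Steps.bwd (nat_lit 4) Steps.nil))) (nat_lit 55) (nat_lit 3),
  Rule.mk (nat_lit 19) (nat_lit 62) (Steps.bwd (nat_lit 3) (Steps.fwd (nat_lit 155648) (Steps.bwd (nat_lit 4) Steps.nil))) (nat_lit 55) (nat_lit 3),
  Rule.mk (nat_lit 18) (nat_lit 78) (Steps.bwd (nat_lit 18) (Steps.bwd (nat_lit 18) (Steps.fwd (nat_lit 155648) (Steps.fwd (nat_lit 155648) Steps.nil)))) (nat_lit 22) (nat_lit 0),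
  Rule.mk (nat_lit 2) (nat_lit 78) (Steps.bwd (nat_lit 18) (Steps.fwd (nat_lit 16384) (Steps.fwd (nat_lit 147456) (Steps.fwd (nat_lit 147456) Steps.nil)))) (nat_lit 48) (nat_lit 1),
  Rule.mk (nat_lit 5) (nat_lit 62) (Steps.fwd (nat_lit 16384) (Steps.bwd (nat_lit 13) (Steps.bwd (nat_lit 2) Steps.nil))) (nat_lit 13) (nat_lit 2),
  Rule.mk (nat_lit 18) (nat_lit 62) (Steps.bwd (nat_lit 10) (Steps.bwd (nat_lit 19) (Steps.fwd (nat_lit 81920) Steps.nil))) (nat_lit 25) (nat_lit 3),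
  Rule.mk (nat_lit 17) (nat_lit 94) (Steps.bwd (nat_lit 10) (Steps.fwd (nat_lit 139264) (Steps.bwd (nat_lit 19) (Steps.bwd (nat_lit 19) (Steps.fwd (nat_lit 81920) Steps.nil))))) (nat_lit 34) (nat_lit 2),
  Rule.mk (nat_lit 16) (nat_lit 94) (Steps.bwd (nat_lit 10) (Steps.bwd (nat_lit 18) (Steps.fwd (nat_lit 155648) (Steps.fwd (nat_lit 131072) (Steps.bwd (nat_lit 11) Steps.nil))))) (nat_lit 35) (nat_lit 5),
  Rule.mk (nat_lit 3) (nat_lit 62) (Steps.fwd (nat_lit 49152) (Steps.fwd (nat_lit 24576) (Steps.bwd (nat_lit 17) Steps.nil))) (nat_lit 17) (nat_lit 1),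
  Rule.mk (nat_lit 11) (nat_lit 78) (Steps.bwd (nat_lit 12) (Steps.bwd (nat_lit 10) (Steps.bwd (nat_lit 18) (Steps.fwd (nat_lit 98304) Steps.nil)))) (nat_lit 18) (nat_lit 3),
  Rule.mk (nat_lit 10) (nat_lit 78) (Steps.bwd (nat_lit 2) (Steps.bwd (nat_lit 12) (Steps.bwd (nat_lit 1) (Steps.fwd (nat_lit 90112) Steps.nil)))) (nat_lit 42) (nat_lit 0),
  Rule.mk (nat_lit 14) (nat_lit 94) (Steps.fwd (nat_lit 155648) (Steps.fwd (nat_lit 155648) (Steps.fwd (nat_lit 81920) (Steps.fwd (nat_lit 114688) (Steps.bwd (nat_lit 10) Steps.nil))))) (nat_lit 32) (nat_lit 4),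
  Rule.mk (nat_lit 1) (nat_lit 78) (Steps.fwd (nat_lit 147456) (Steps.bwd (nat_lit 19) (Steps.bwd (nat_lit 2) (Steps.fwd (nat_lit 155648) Steps.nil)))) (nat_lit 48) (nat_lit 3),
  Rule.mk (nat_lit 2) (nat_lit 62) (Steps.fwd (nat_lit 40960) (Steps.bwd (nat_lit 1) (Steps.fwd (nat_lit 106496) Steps.nil))) (nat_lit 12) (nat_lit 2),
  Rule.mk (nat_lit 18) (nat_lit 94) (Steps.bwd (nat_lit 17) (Steps.fwd (nat_lit 81920) (Steps.bwd (nat_lit 16) (Steps.bwd (nat_lit 10) (Steps.fwd (nat_lit 155648) Steps.nil))))) (nat_lit 35) (nat_lit 2),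
  Rule.mk (nat_lit 16) (nat_lit 62) (Steps.fwd (nat_lit 147456) (Steps.bwd (nat_lit 17) (Steps.bwd (nat_lit 18) Steps.nil))) (nat_lit 31) (nat_lit 0),
  Rule.mk (nat_lit 13) (nat_lit 62) (Steps.bwd (nat_lit 16) (Steps.bwd (nat_lit 12) (Steps.fwd (nat_lit 131072) Steps.nil))) (nat_lit 39) (nat_lit 2),
  Rule.mk (nat_lit 15) (nat_lit 94) (Steps.bwd (nat_lit 10) (Steps.fwd (nat_lit 122880) (Steps.fwd (nat_lit 155648) (Steps.fwd (nat_lit 155648) (Steps.fwd (nat_lit 81920) Steps.nil))))) (nat_lit 32) (nat_lit 2),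
  Rule.mk (nat_lit 14) (nat_lit 94) (Steps.bwd (nat_lit 10) (Steps.fwd (nat_lit 147456) (Steps.bwd (nat_lit 19) (Steps.bwd (nat_lit 15) (Steps.bwd (nat_lit 11) Steps.nil))))) (nat_lit 33) (nat_lit 5),
  Rule.mk (nat_lit 17) (nat_lit 94) (Steps.bwd (nat_lit 10) (Steps.bwd (nat_lit 16) (Steps.fwd (nat_lit 147456) (Steps.fwd (nat_lit 147456) (Steps.bwd (nat_lit 11) Steps.nil))))) (nat_lit 34) (nat_lit 2),
  Rule.mk (nat_lit 19) (nat_lit 62) (Steps.bwd (nat_lit 10) (Steps.fwd (nat_lit 155648) (Steps.fwd (nat_lit 81920) Steps.nil))) (nat_lit 24) (nat_lit 2),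
  Rule.mk (nat_lit 15) (nat_lit 94) (Steps.bwd (nat_lit 10) (Steps.fwd (nat_lit 122880) (Steps.fwd (nat_lit 155648) (Steps.bwd (nat_lit 18) (Steps.bwd (nat_lit 11) Steps.nil))))) (nat_lit 32) (nat_lit 2),
  Rule.mk (nat_lit 11) (nat_lit 94) (Steps.bwd (nat_lit 15) (Steps.bwd (nat_lit 10) (Steps.bwd (nat_lit 14) (Steps.bwd (nat_lit 18) (Steps.fwd (nat_lit 155648) Steps.nil))))) (nat_lit 32) (nat_lit 1),
  Rule.mk (nat_lit 19) (nat_lit 62) (Steps.bwd (nat_lit 10) (Steps.fwd (nat_lit 155648) (Steps.bwd (nat_lit 11) Steps.nil))) (nat_lit 24) (nat_lit 2),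
  Rule.mk (nat_lit 4) (nat_lit 62) (Steps.bwd (nat_lit 19) (Steps.fwd (nat_lit 32768) (Steps.fwd (nat_lit 155648) Steps.nil))) (nat_lit 55) (nat_lit 2),
  Rule.mk (nat_lit 1) (nat_lit 78) (Steps.bwd (nat_lit 18) (Steps.bwd (nat_lit 18) (Steps.fwd (nat_lit 8192) (Steps.bwd (nat_lit 19) Steps.nil)))) (nat_lit 49) (nat_lit 0),
  Rule.mk (nat_lit 2) (nat_lit 78) (Steps.bwd (nat_lit 19) (Steps.bwd (nat_lit 1) (Steps.bwd (nat_lit 18) (Steps.fwd (nat_lit 155648) Steps.nil)))) (nat_lit 49) (nat_lit 3),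
  Rule.mk (nat_lit 15) (nat_lit 110) (Steps.bwd (nat_lit 1) (Steps.fwd (nat_lit 114688) (Steps.bwd (nat_lit 15) (Steps.fwd (nat_lit 90112) (Steps.bwd (nat_lit 16) (Steps.bwd (nat_lit 2) Steps.nil)))))) (nat_lit 45) (nat_lit 6),
  Rule.mk (nat_lit 0) (nat_lit 78) (Steps.fwd (nat_lit 155648) (Steps.bwd (nat_lit 15) (Steps.fwd (nat_lit 147456) (Steps.bwd (nat_lit 14) Steps.nil)))) (nat_lit 28) (nat_lit 3),
  Rule.mk (nat_lit 2) (nat_lit 46) (Steps.bwd (nat_lit 0) (Steps.bwd (nat_lit 1) Steps.nil)) (nat_lit 88) (nat_lit 0),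
  Rule.mk (nat_lit 0) (nat_lit 62) (Steps.fwd (nat_lit 32768) (Steps.fwd (nat_lit 0) (Steps.fwd (nat_lit 24576) Steps.nil))) (nat_lit 88) (nat_lit 0),
  Rule.mk (nat_lit 6) (nat_lit 46) (Steps.bwd (nat_lit 0) (Steps.fwd (nat_lit 49152) Steps.nil)) (nat_lit 88) (nat_lit 0),
  Rule.mk (nat_lit 11) (nat_lit 46) (Steps.bwd (nat_lit 0) (Steps.bwd (nat_lit 10) Steps.nil)) (nat_lit 88) (nat_lit 0),
  Rule.mk (nat_lit 15) (nat_lit 46) (Steps.bwd (nat_lit 0) (Steps.fwd (nat_lit 122880) Steps.nil)) (nat_lit 88) (nat_lit 0),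
  Rule.mk (nat_lit 0) (nat_lit 62) (Steps.fwd (nat_lit 155648) (Steps.fwd (nat_lit 0) (Steps.bwd (nat_lit 19) Steps.nil))) (nat_lit 88) (nat_lit 0),
  Rule.mk (nat_lit 19) (nat_lit 46) (Steps.bwd (nat_lit 0) (Steps.fwd (nat_lit 155648) Steps.nil)) (nat_lit 88) (nat_lit 0),
  Rule.mk (nat_lit 0) (nat_lit 62) (Steps.fwd (nat_lit 40960) (Steps.fwd (nat_lit 0) (Steps.bwd (nat_lit 5) Steps.nil))) (nat_lit 88) (nat_lit 0),
  Rule.mk (nat_lit 15) (nat_lit 46) (Steps.bwd (nat_lit 0) (Steps.bwd (nat_lit 14) Steps.nil)) (nat_lit 88) (nat_lit 0),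
  Rule.mk (nat_lit 0) (nat_lit 62) (Steps.bwd (nat_lit 18) (Steps.fwd (nat_lit 0) (Steps.bwd (nat_lit 19) Steps.nil))) (nat_lit 88) (nat_lit 0),
  Rule.mk (nat_lit 4) (nat_lit 46) (Steps.bwd (nat_lit 0) (Steps.bwd (nat_lit 3) Steps.nil)) (nat_lit 88) (nat_lit 0),
  Rule.mk (nat_lit 17) (nat_lit 46) (Steps.bwd (nat_lit 0) (Steps.bwd (nat_lit 16) Steps.nil)) (nat_lit 88) (nat_lit 0),
  Rule.mk (nat_lit 0) (nat_lit 62) (Steps.bwd (nat_lit 18) (Steps.fwd (nat_lit 0) (Steps.fwd (nat_lit 147456) Steps.nil))) (nat_lit 88) (nat_lit 0)]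
noncomputable def R_10 : List (Rule) := [Rule.mk (nat_lit 2) (nat_lit 46) (Steps.bwd (nat_lit 0) (Steps.fwd (nat_lit 16384) Steps.nil)) (nat_lit 88) (nat_lit 0),
  Rule.mk (nat_lit 0) (nat_lit 62) (Steps.fwd (nat_lit 155648) (Steps.fwd (nat_lit 0) (Steps.fwd (nat_lit 147456) Steps.nil))) (nat_lit 88) (nat_lit 0),
  Rule.mk (nat_lit 4) (nat_lit 46) (Steps.bwd (nat_lit 0) (Steps.fwd (nat_lit 32768) Steps.nil)) (nat_lit 88) (nat_lit 0),
  Rule.mk (nat_lit 18) (nat_lit 46) (Steps.bwd (nat_lit 0) (Steps.bwd (nat_lit 19) Steps.nil)) (nat_lit 88) (nat_lit 0),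
  Rule.mk (nat_lit 16) (nat_lit 62) (Steps.bwd (nat_lit 18) (Steps.bwd (nat_lit 17) (Steps.fwd (nat_lit 147456) Steps.nil))) (nat_lit 30) (nat_lit 3),
  Rule.mk (nat_lit 14) (nat_lit 62) (Steps.bwd (nat_lit 18) (Steps.bwd (nat_lit 15) (Steps.fwd (nat_lit 147456) Steps.nil))) (nat_lit 28) (nat_lit 3),
  Rule.mk (nat_lit 2) (nat_lit 62) (Steps.bwd (nat_lit 6) (Steps.fwd (nat_lit 16384) (Steps.fwd (nat_lit 106496) Steps.nil))) (nat_lit 12) (nat_lit 2),
  Rule.mk (nat_lit 15) (nat_lit 94) (Steps.bwd (nat_lit 10) (Steps.bwd (nat_lit 14) (Steps.bwd (nat_lit 18) (Steps.bwd (nat_lit 18) (Steps.bwd (nat_lit 11) Steps.nil))))) (nat_lit 32) (nat_lit 2),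
  Rule.mk (nat_lit 2) (nat_lit 78) (Steps.fwd (nat_lit 147456) (Steps.bwd (nat_lit 1) (Steps.bwd (nat_lit 18) (Steps.bwd (nat_lit 18) Steps.nil)))) (nat_lit 49) (nat_lit 3),
  Rule.mk (nat_lit 19) (nat_lit 62) (Steps.bwd (nat_lit 13) (Steps.bwd (nat_lit 18) (Steps.bwd (nat_lit 12) Steps.nil))) (nat_lit 27) (nat_lit 1),
  Rule.mk (nat_lit 19) (nat_lit 78) (Steps.bwd (nat_lit 2) (Steps.bwd (nat_lit 18) (Steps.fwd (nat_lit 16384) (Steps.bwd (nat_lit 19) Steps.nil)))) (nat_lit 48) (nat_lit 0),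
  Rule.mk (nat_lit 14) (nat_lit 78) (Steps.fwd (nat_lit 155648) (Steps.bwd (nat_lit 13) (Steps.bwd (nat_lit 15) (Steps.bwd (nat_lit 12) Steps.nil)))) (nat_lit 36) (nat_lit 4),
  Rule.mk (nat_lit 14) (nat_lit 110) (Steps.bwd (nat_lit 2) (Steps.bwd (nat_lit 14) (Steps.fwd (nat_lit 16384) (Steps.bwd (nat_lit 17) (Steps.fwd (nat_lit 81920) (Steps.bwd (nat_lit 14) Steps.nil)))))) (nat_lit 44) (nat_lit 0),
  Rule.mk (nat_lit 18) (nat_lit 78) (Steps.bwd (nat_lit 13) (Steps.fwd (nat_lit 114688) (Steps.fwd (nat_lit 106496) (Steps.bwd (nat_lit 14) Steps.nil)))) (nat_lit 36) (nat_lit 0),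
  Rule.mk (nat_lit 11) (nat_lit 78) (Steps.bwd (nat_lit 13) (Steps.fwd (nat_lit 90112) (Steps.bwd (nat_lit 12) (Steps.bwd (nat_lit 19) Steps.nil)))) (nat_lit 19) (nat_lit 1),
  Rule.mk (nat_lit 12) (nat_lit 78) (Steps.bwd (nat_lit 14) (Steps.bwd (nat_lit 18) (Steps.bwd (nat_lit 13) (Steps.bwd (nat_lit 15) Steps.nil)))) (nat_lit 36) (nat_lit 3),
  Rule.mk (nat_lit 12) (nat_lit 62) (Steps.bwd (nat_lit 18) (Steps.bwd (nat_lit 13) (Steps.bwd (nat_lit 19) Steps.nil))) (nat_lit 26) (nat_lit 3),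
  Rule.mk (nat_lit 10) (nat_lit 78) (Steps.bwd (nat_lit 18) (Steps.bwd (nat_lit 13) (Steps.fwd (nat_lit 81920) (Steps.bwd (nat_lit 12) Steps.nil)))) (nat_lit 18) (nat_lit 0),
  Rule.mk (nat_lit 17) (nat_lit 62) (Steps.bwd (nat_lit 13) (Steps.fwd (nat_lit 139264) (Steps.fwd (nat_lit 106496) Steps.nil))) (nat_lit 39) (nat_lit 1),
  Rule.mk (nat_lit 12) (nat_lit 78) (Steps.bwd (nat_lit 10) (Steps.bwd (nat_lit 18) (Steps.bwd (nat_lit 13) (Steps.bwd (nat_lit 11) Steps.nil)))) (nat_lit 18) (nat_lit 4),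
  Rule.mk (nat_lit 19) (nat_lit 78) (Steps.bwd (nat_lit 15) (Steps.fwd (nat_lit 98304) (Steps.fwd (nat_lit 122880) (Steps.bwd (nat_lit 12) Steps.nil)))) (nat_lit 37) (nat_lit 1),
  Rule.mk (nat_lit 13) (nat_lit 62) (Steps.fwd (nat_lit 155648) (Steps.bwd (nat_lit 12) (Steps.bwd (nat_lit 19) Steps.nil))) (nat_lit 27) (nat_lit 2),
  Rule.mk (nat_lit 19) (nat_lit 62) (Steps.bwd (nat_lit 11) (Steps.fwd (nat_lit 155648) (Steps.bwd (nat_lit 10) Steps.nil))) (nat_lit 25) (nat_lit 1),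
  Rule.mk (nat_lit 19) (nat_lit 62) (Steps.bwd (nat_lit 17) (Steps.fwd (nat_lit 155648) (Steps.fwd (nat_lit 139264) Steps.nil))) (nat_lit 31) (nat_lit 1),
  Rule.mk (nat_lit 12) (nat_lit 62) (Steps.bwd (nat_lit 17) (Steps.bwd (nat_lit 13) (Steps.fwd (nat_lit 139264) Steps.nil))) (nat_lit 39) (nat_lit 0),
  Rule.mk (nat_lit 15) (nat_lit 78) (Steps.bwd (nat_lit 13) (Steps.fwd (nat_lit 122880) (Steps.bwd (nat_lit 12) (Steps.bwd (nat_lit 19) Steps.nil)))) (nat_lit 37) (nat_lit 2),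
  Rule.mk (nat_lit 11) (nat_lit 78) (Steps.bwd (nat_lit 13) (Steps.bwd (nat_lit 10) (Steps.bwd (nat_lit 12) (Steps.bwd (nat_lit 19) Steps.nil)))) (nat_lit 19) (nat_lit 1),
  Rule.mk (nat_lit 15) (nat_lit 78) (Steps.bwd (nat_lit 13) (Steps.fwd (nat_lit 122880) (Steps.bwd (nat_lit 12) (Steps.fwd (nat_lit 147456) Steps.nil)))) (nat_lit 37) (nat_lit 2),
  Rule.mk (nat_lit 19) (nat_lit 78) (Steps.bwd (nat_lit 19) (Steps.fwd (nat_lit 147456) (Steps.bwd (nat_lit 19) (Steps.bwd (nat_lit 19) Steps.nil)))) (nat_lit 23) (nat_lit 0),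
  Rule.mk (nat_lit 11) (nat_lit 94) (Steps.bwd (nat_lit 16) (Steps.bwd (nat_lit 10) (Steps.fwd (nat_lit 155648) (Steps.bwd (nat_lit 18) (Steps.fwd (nat_lit 131072) Steps.nil))))) (nat_lit 35) (nat_lit 4),
  Rule.mk (nat_lit 14) (nat_lit 94) (Steps.bwd (nat_lit 10) (Steps.fwd (nat_lit 147456) (Steps.fwd (nat_lit 147456) (Steps.bwd (nat_lit 15) (Steps.bwd (nat_lit 11) Steps.nil))))) (nat_lit 33) (nat_lit 5),
  Rule.mk (nat_lit 15) (nat_lit 78) (Steps.bwd (nat_lit 16) (Steps.fwd (nat_lit 122880) (Steps.bwd (nat_lit 19) (Steps.bwd (nat_lit 17) Steps.nil)))) (nat_lit 41) (nat_lit 3),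
  Rule.mk (nat_lit 17) (nat_lit 78) (Steps.fwd (nat_lit 122880) (Steps.bwd (nat_lit 16) (Steps.bwd (nat_lit 18) (Steps.bwd (nat_lit 15) Steps.nil)))) (nat_lit 40) (nat_lit 2),
  Rule.mk (nat_lit 19) (nat_lit 78) (Steps.bwd (nat_lit 15) (Steps.bwd (nat_lit 13) (Steps.bwd (nat_lit 14) (Steps.bwd (nat_lit 12) Steps.nil)))) (nat_lit 37) (nat_lit 1),
  Rule.mk (nat_lit 11) (nat_lit 94) (Steps.bwd (nat_lit 15) (Steps.bwd (nat_lit 10) (Steps.bwd (nat_lit 14) (Steps.fwd (nat_lit 155648) (Steps.bwd (nat_lit 18) Steps.nil))))) (nat_lit 32) (nat_lit 1),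
  Rule.mk (nat_lit 14) (nat_lit 78) (Steps.bwd (nat_lit 16) (Steps.fwd (nat_lit 155648) (Steps.fwd (nat_lit 114688) (Steps.bwd (nat_lit 17) Steps.nil)))) (nat_lit 40) (nat_lit 3),
  Rule.mk (nat_lit 10) (nat_lit 110) (Steps.bwd (nat_lit 16) (Steps.bwd (nat_lit 2) (Steps.bwd (nat_lit 15) (Steps.bwd (nat_lit 1) (Steps.fwd (nat_lit 114688) (Steps.bwd (nat_lit 15) Steps.nil)))))) (nat_lit 45) (nat_lit 3),
  Rule.mk (nat_lit 11) (nat_lit 94) (Steps.bwd (nat_lit 14) (Steps.fwd (nat_lit 90112) (Steps.fwd (nat_lit 147456) (Steps.bwd (nat_lit 19) (Steps.fwd (nat_lit 114688) Steps.nil))))) (nat_lit 33) (nat_lit 4),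
  Rule.mk (nat_lit 2) (nat_lit 110) (Steps.bwd (nat_lit 14) (Steps.bwd (nat_lit 1) (Steps.fwd (nat_lit 131072) (Steps.bwd (nat_lit 11) (Steps.bwd (nat_lit 14) (Steps.bwd (nat_lit 14) Steps.nil)))))) (nat_lit 44) (nat_lit 1),
  Rule.mk (nat_lit 1) (nat_lit 62) (Steps.bwd (nat_lit 13) (Steps.bwd (nat_lit 2) (Steps.bwd (nat_lit 5) Steps.nil))) (nat_lit 13) (nat_lit 3),
  Rule.mk (nat_lit 18) (nat_lit 62) (Steps.bwd (nat_lit 10) (Steps.fwd (nat_lit 147456) (Steps.fwd (nat_lit 81920) Steps.nil))) (nat_lit 25) (nat_lit 3),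
  Rule.mk (nat_lit 15) (nat_lit 110) (Steps.bwd (nat_lit 10) (Steps.bwd (nat_lit 16) (Steps.bwd (nat_lit 2) (Steps.fwd (nat_lit 114688) (Steps.bwd (nat_lit 1) (Steps.bwd (nat_lit 15) Steps.nil)))))) (nat_lit 45) (nat_lit 2),
  Rule.mk (nat_lit 14) (nat_lit 78) (Steps.fwd (nat_lit 155648) (Steps.fwd (nat_lit 98304) (Steps.fwd (nat_lit 114688) (Steps.bwd (nat_lit 12) Steps.nil)))) (nat_lit 36) (nat_lit 4),
  Rule.mk (nat_lit 16) (nat_lit 94) (Steps.bwd (nat_lit 10) (Steps.fwd (nat_lit 155648) (Steps.fwd (nat_lit 155648) (Steps.fwd (nat_lit 131072) (Steps.bwd (nat_lit 11) Steps.nil))))) (nat_lit 35) (nat_lit 5),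
  Rule.mk (nat_lit 4) (nat_lit 62) (Steps.fwd (nat_lit 49152) (Steps.fwd (nat_lit 32768) (Steps.bwd (nat_lit 15) Steps.nil))) (nat_lit 15) (nat_lit 1),
  Rule.mk (nat_lit 3) (nat_lit 126) (Steps.bwd (nat_lit 10) (Steps.fwd (nat_lit 90112) (Steps.bwd (nat_lit 16) (Steps.bwd (nat_lit 15) (Steps.fwd (nat_lit 114688) (Steps.fwd (nat_lit 24576) (Steps.bwd (nat_lit 15) Steps.nil))))))) (nat_lit 53) (nat_lit 0),
  Rule.mk (nat_lit 12) (nat_lit 62) (Steps.bwd (nat_lit 18) (Steps.fwd (nat_lit 98304) (Steps.fwd (nat_lit 147456) Steps.nil))) (nat_lit 26) (nat_lit 3),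
  Rule.mk (nat_lit 17) (nat_lit 142) (Steps.bwd (nat_lit 1) (Steps.bwd (nat_lit 10) (Steps.fwd (nat_lit 98304) (Steps.bwd (nat_lit 15) (Steps.bwd (nat_lit 16) (Steps.bwd (nat_lit 10) (Steps.bwd (nat_lit 16) (Steps.fwd (nat_lit 8192) Steps.nil)))))))) (nat_lit 47) (nat_lit 8),
  Rule.mk (nat_lit 10) (nat_lit 94) (Steps.bwd (nat_lit 16) (Steps.fwd (nat_lit 147456) (Steps.fwd (nat_lit 147456) (Steps.fwd (nat_lit 81920) (Steps.bwd (nat_lit 17) Steps.nil))))) (nat_lit 34) (nat_lit 3),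
  Rule.mk (nat_lit 15) (nat_lit 78) (Steps.bwd (nat_lit 13) (Steps.bwd (nat_lit 14) (Steps.bwd (nat_lit 12) (Steps.bwd (nat_lit 19) Steps.nil)))) (nat_lit 37) (nat_lit 2),
  Rule.mk (nat_lit 12) (nat_lit 62) (Steps.bwd (nat_lit 19) (Steps.fwd (nat_lit 98304) (Steps.fwd (nat_lit 155648) Steps.nil))) (nat_lit 27) (nat_lit 0),
  Rule.mk (nat_lit 17) (nat_lit 142) (Steps.bwd (nat_lit 1) (Steps.bwd (nat_lit 10) (Steps.bwd (nat_lit 13) (Steps.bwd (nat_lit 15) (Steps.bwd (nat_lit 16) (Steps.fwd (nat_lit 90112) (Steps.bwd (nat_lit 16) (Steps.fwd (nat_lit 8192) Steps.nil)))))))) (nat_lit 47) (nat_lit 8),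
  Rule.mk (nat_lit 16) (nat_lit 62) (Steps.bwd (nat_lit 19) (Steps.fwd (nat_lit 131072) (Steps.fwd (nat_lit 155648) Steps.nil))) (nat_lit 31) (nat_lit 0),
  Rule.mk (nat_lit 19) (nat_lit 78) (Steps.bwd (nat_lit 19) (Steps.fwd (nat_lit 147456) (Steps.fwd (nat_lit 147456) (Steps.bwd (nat_lit 19) Steps.nil)))) (nat_lit 23) (nat_lit 0),
  Rule.mk (nat_lit 11) (nat_lit 94) (Steps.bwd (nat_lit 16) (Steps.bwd (nat_lit 10) (Steps.fwd (nat_lit 155648) (Steps.fwd (nat_lit 155648) (Steps.fwd (nat_lit 131072) Steps.nil))))) (nat_lit 35) (nat_lit 4),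
  Rule.mk (nat_lit 2) (nat_lit 78) (Steps.bwd (nat_lit 13) (Steps.bwd (nat_lit 1) (Steps.fwd (nat_lit 81920) (Steps.bwd (nat_lit 11) Steps.nil)))) (nat_lit 43) (nat_lit 3),
  Rule.mk (nat_lit 10) (nat_lit 62) (Steps.bwd (nat_lit 19) (Steps.bwd (nat_lit 11) (Steps.fwd (nat_lit 155648) Steps.nil))) (nat_lit 25) (nat_lit 0),
  Rule.mk (nat_lit 17) (nat_lit 62) (Steps.bwd (nat_lit 19) (Steps.bwd (nat_lit 16) (Steps.fwd (nat_lit 155648) Steps.nil))) (nat_lit 30) (nat_lit 1),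
  Rule.mk (nat_lit 4) (nat_lit 126) (Steps.bwd (nat_lit 12) (Steps.fwd (nat_lit 32768) (Steps.fwd (nat_lit 139264) (Steps.bwd (nat_lit 10) (Steps.fwd (nat_lit 139264) (Steps.bwd (nat_lit 15) (Steps.fwd (nat_lit 98304) Steps.nil))))))) (nat_lit 50) (nat_lit 1),
  Rule.mk (nat_lit 11) (nat_lit 78) (Steps.bwd (nat_lit 13) (Steps.bwd (nat_lit 10) (Steps.fwd (nat_lit 106496) (Steps.bwd (nat_lit 19) Steps.nil)))) (nat_lit 19) (nat_lit 1),
  Rule.mk (nat_lit 4) (nat_lit 126) (Steps.bwd (nat_lit 13) (Steps.bwd (nat_lit 3) (Steps.fwd (nat_lit 106496) (Steps.fwd (nat_lit 122880) (Steps.bwd (nat_lit 17) (Steps.fwd (nat_lit 81920) (Steps.bwd (nat_lit 17) Steps.nil))))))) (nat_lit 51) (nat_lit 6),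
  Rule.mk (nat_lit 3) (nat_lit 62) (Steps.bwd (nat_lit 5) (Steps.bwd (nat_lit 4) (Steps.bwd (nat_lit 17) Steps.nil))) (nat_lit 17) (nat_lit 1),
  Rule.mk (nat_lit 4) (nat_lit 62) (Steps.bwd (nat_lit 17) (Steps.fwd (nat_lit 32768) (Steps.bwd (nat_lit 5) Steps.nil))) (nat_lit 17) (nat_lit 3),
  Rule.mk (nat_lit 11) (nat_lit 94) (Steps.bwd (nat_lit 17) (Steps.bwd (nat_lit 10) (Steps.bwd (nat_lit 16) (Steps.fwd (nat_lit 147456) (Steps.fwd (nat_lit 147456) Steps.nil))))) (nat_lit 34) (nat_lit 1)]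
noncomputable def R_11 : List (Rule) := [Rule.mk (nat_lit 3) (nat_lit 62) (Steps.bwd (nat_lit 5) (Steps.fwd (nat_lit 24576) (Steps.fwd (nat_lit 131072) Steps.nil))) (nat_lit 17) (nat_lit 1),
  Rule.mk (nat_lit 13) (nat_lit 126) (Steps.bwd (nat_lit 3) (Steps.fwd (nat_lit 106496) (Steps.fwd (nat_lit 122880) (Steps.fwd (nat_lit 131072) (Steps.bwd (nat_lit 11) (Steps.fwd (nat_lit 131072) (Steps.bwd (nat_lit 4) Steps.nil))))))) (nat_lit 51) (nat_lit 7),
  Rule.mk (nat_lit 5) (nat_lit 62) (Steps.fwd (nat_lit 32768) (Steps.bwd (nat_lit 15) (Steps.bwd (nat_lit 4) Steps.nil))) (nat_lit 15) (nat_lit 2),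
  Rule.mk (nat_lit 18) (nat_lit 62) (Steps.bwd (nat_lit 3) (Steps.fwd (nat_lit 147456) (Steps.bwd (nat_lit 4) Steps.nil))) (nat_lit 54) (nat_lit 2),
  Rule.mk (nat_lit 17) (nat_lit 94) (Steps.bwd (nat_lit 10) (Steps.bwd (nat_lit 16) (Steps.bwd (nat_lit 19) (Steps.bwd (nat_lit 19) (Steps.bwd (nat_lit 11) Steps.nil))))) (nat_lit 34) (nat_lit 2),
  Rule.mk (nat_lit 3) (nat_lit 62) (Steps.bwd (nat_lit 6) (Steps.bwd (nat_lit 4) (Steps.bwd (nat_lit 16) Steps.nil))) (nat_lit 16) (nat_lit 2),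
  Rule.mk (nat_lit 4) (nat_lit 62) (Steps.fwd (nat_lit 155648) (Steps.bwd (nat_lit 3) (Steps.bwd (nat_lit 19) Steps.nil))) (nat_lit 54) (nat_lit 1),
  Rule.mk (nat_lit 4) (nat_lit 62) (Steps.bwd (nat_lit 5) (Steps.bwd (nat_lit 3) (Steps.fwd (nat_lit 114688) Steps.nil))) (nat_lit 15) (nat_lit 1),
  Rule.mk (nat_lit 0) (nat_lit 94) (Steps.fwd (nat_lit 24576) (Steps.bwd (nat_lit 4) (Steps.fwd (nat_lit 24576) (Steps.bwd (nat_lit 4) (Steps.fwd (nat_lit 24576) Steps.nil))))) (nat_lit 3) (nat_lit 0),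
  Rule.mk (nat_lit 3) (nat_lit 46) (Steps.bwd (nat_lit 0) (Steps.bwd (nat_lit 4) Steps.nil)) (nat_lit 88) (nat_lit 0),
  Rule.mk (nat_lit 0) (nat_lit 62) (Steps.bwd (nat_lit 12) (Steps.fwd (nat_lit 0) (Steps.bwd (nat_lit 13) Steps.nil))) (nat_lit 88) (nat_lit 0),
  Rule.mk (nat_lit 16) (nat_lit 46) (Steps.bwd (nat_lit 0) (Steps.fwd (nat_lit 131072) Steps.nil)) (nat_lit 88) (nat_lit 0),
  Rule.mk (nat_lit 0) (nat_lit 62) (Steps.bwd (nat_lit 19) (Steps.fwd (nat_lit 0) (Steps.fwd (nat_lit 155648) Steps.nil))) (nat_lit 88) (nat_lit 0),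
  Rule.mk (nat_lit 6) (nat_lit 46) (Steps.bwd (nat_lit 0) (Steps.bwd (nat_lit 5) Steps.nil)) (nat_lit 88) (nat_lit 0),
  Rule.mk (nat_lit 11) (nat_lit 46) (Steps.bwd (nat_lit 0) (Steps.fwd (nat_lit 90112) Steps.nil)) (nat_lit 88) (nat_lit 0),
  Rule.mk (nat_lit 16) (nat_lit 46) (Steps.bwd (nat_lit 0) (Steps.bwd (nat_lit 17) Steps.nil)) (nat_lit 88) (nat_lit 0),
  Rule.mk (nat_lit 0) (nat_lit 62) (Steps.fwd (nat_lit 147456) (Steps.fwd (nat_lit 0) (Steps.fwd (nat_lit 155648) Steps.nil))) (nat_lit 88) (nat_lit 0),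
  Rule.mk (nat_lit 3) (nat_lit 46) (Steps.bwd (nat_lit 0) (Steps.fwd (nat_lit 24576) Steps.nil)) (nat_lit 88) (nat_lit 0),
  Rule.mk (nat_lit 19) (nat_lit 46) (Steps.bwd (nat_lit 0) (Steps.bwd (nat_lit 18) Steps.nil)) (nat_lit 88) (nat_lit 0),
  Rule.mk (nat_lit 10) (nat_lit 78) (Steps.bwd (nat_lit 18) (Steps.bwd (nat_lit 13) (Steps.bwd (nat_lit 11) (Steps.bwd (nat_lit 12) Steps.nil)))) (nat_lit 18) (nat_lit 0),
  Rule.mk (nat_lit 3) (nat_lit 62) (Steps.fwd (nat_lit 122880) (Steps.bwd (nat_lit 4) (Steps.bwd (nat_lit 6) Steps.nil))) (nat_lit 14) (nat_lit 0),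
  Rule.mk (nat_lit 4) (nat_lit 62) (Steps.fwd (nat_lit 131072) (Steps.bwd (nat_lit 3) (Steps.fwd (nat_lit 49152) Steps.nil))) (nat_lit 17) (nat_lit 3),
  Rule.mk (nat_lit 15) (nat_lit 62) (Steps.fwd (nat_lit 24576) (Steps.bwd (nat_lit 5) (Steps.bwd (nat_lit 3) Steps.nil))) (nat_lit 15) (nat_lit 0),
  Rule.mk (nat_lit 15) (nat_lit 78) (Steps.bwd (nat_lit 12) (Steps.fwd (nat_lit 122880) (Steps.bwd (nat_lit 18) (Steps.bwd (nat_lit 13) Steps.nil)))) (nat_lit 36) (nat_lit 2),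
  Rule.mk (nat_lit 3) (nat_lit 126) (Steps.bwd (nat_lit 12) (Steps.fwd (nat_lit 122880) (Steps.bwd (nat_lit 17) (Steps.fwd (nat_lit 81920) (Steps.bwd (nat_lit 17) (Steps.bwd (nat_lit 4) (Steps.fwd (nat_lit 98304) Steps.nil))))))) (nat_lit 51) (nat_lit 0),
  Rule.mk (nat_lit 19) (nat_lit 78) (Steps.bwd (nat_lit 19) (Steps.bwd (nat_lit 19) (Steps.bwd (nat_lit 19) (Steps.fwd (nat_lit 147456) Steps.nil)))) (nat_lit 23) (nat_lit 0),
  Rule.mk (nat_lit 3) (nat_lit 126) (Steps.fwd (nat_lit 139264) (Steps.bwd (nat_lit 10) (Steps.fwd (nat_lit 139264) (Steps.fwd (nat_lit 114688) (Steps.bwd (nat_lit 13) (Steps.bwd (nat_lit 4) (Steps.bwd (nat_lit 12) Steps.nil))))))) (nat_lit 50) (nat_lit 3),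
  Rule.mk (nat_lit 16) (nat_lit 62) (Steps.bwd (nat_lit 18) (Steps.fwd (nat_lit 131072) (Steps.bwd (nat_lit 19) Steps.nil))) (nat_lit 30) (nat_lit 3),
  Rule.mk (nat_lit 10) (nat_lit 62) (Steps.bwd (nat_lit 19) (Steps.fwd (nat_lit 81920) (Steps.fwd (nat_lit 155648) Steps.nil))) (nat_lit 25) (nat_lit 0),
  Rule.mk (nat_lit 14) (nat_lit 78) (Steps.bwd (nat_lit 19) (Steps.bwd (nat_lit 17) (Steps.fwd (nat_lit 114688) (Steps.bwd (nat_lit 16) Steps.nil)))) (nat_lit 41) (nat_lit 0),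
  Rule.mk (nat_lit 15) (nat_lit 110) (Steps.bwd (nat_lit 1) (Steps.fwd (nat_lit 114688) (Steps.bwd (nat_lit 15) (Steps.bwd (nat_lit 10) (Steps.fwd (nat_lit 139264) (Steps.fwd (nat_lit 8192) Steps.nil)))))) (nat_lit 45) (nat_lit 6),
  Rule.mk (nat_lit 12) (nat_lit 78) (Steps.fwd (nat_lit 122880) (Steps.fwd (nat_lit 155648) (Steps.fwd (nat_lit 98304) (Steps.bwd (nat_lit 15) Steps.nil)))) (nat_lit 36) (nat_lit 3),
  Rule.mk (nat_lit 14) (nat_lit 126) (Steps.bwd (nat_lit 17) (Steps.bwd (nat_lit 11) (Steps.fwd (nat_lit 81920) (Steps.bwd (nat_lit 4) (Steps.fwd (nat_lit 122880) (Steps.bwd (nat_lit 3) (Steps.bwd (nat_lit 14) Steps.nil))))))) (nat_lit 52) (nat_lit 5),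
  Rule.mk (nat_lit 14) (nat_lit 126) (Steps.bwd (nat_lit 17) (Steps.bwd (nat_lit 11) (Steps.fwd (nat_lit 131072) (Steps.bwd (nat_lit 4) (Steps.fwd (nat_lit 98304) (Steps.fwd (nat_lit 32768) (Steps.bwd (nat_lit 12) Steps.nil))))))) (nat_lit 51) (nat_lit 2),
  Rule.mk (nat_lit 16) (nat_lit 62) (Steps.bwd (nat_lit 12) (Steps.bwd (nat_lit 17) (Steps.fwd (nat_lit 98304) Steps.nil))) (nat_lit 39) (nat_lit 3),
  Rule.mk (nat_lit 14) (nat_lit 78) (Steps.bwd (nat_lit 12) (Steps.bwd (nat_lit 19) (Steps.fwd (nat_lit 114688) (Steps.fwd (nat_lit 98304) Steps.nil)))) (nat_lit 37) (nat_lit 4),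
  Rule.mk (nat_lit 13) (nat_lit 78) (Steps.bwd (nat_lit 15) (Steps.bwd (nat_lit 12) (Steps.bwd (nat_lit 14) (Steps.bwd (nat_lit 18) Steps.nil)))) (nat_lit 36) (nat_lit 1),
  Rule.mk (nat_lit 17) (nat_lit 142) (Steps.bwd (nat_lit 1) (Steps.fwd (nat_lit 90112) (Steps.bwd (nat_lit 13) (Steps.bwd (nat_lit 15) (Steps.fwd (nat_lit 139264) (Steps.fwd (nat_lit 90112) (Steps.bwd (nat_lit 16) (Steps.bwd (nat_lit 2) Steps.nil)))))))) (nat_lit 47) (nat_lit 8),
  Rule.mk (nat_lit 11) (nat_lit 94) (Steps.bwd (nat_lit 16) (Steps.bwd (nat_lit 10) (Steps.fwd (nat_lit 155648) (Steps.fwd (nat_lit 155648) (Steps.bwd (nat_lit 17) Steps.nil))))) (nat_lit 35) (nat_lit 4),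
  Rule.mk (nat_lit 19) (nat_lit 62) (Steps.bwd (nat_lit 15) (Steps.bwd (nat_lit 18) (Steps.fwd (nat_lit 122880) Steps.nil))) (nat_lit 29) (nat_lit 1),
  Rule.mk (nat_lit 17) (nat_lit 78) (Steps.bwd (nat_lit 15) (Steps.fwd (nat_lit 139264) (Steps.fwd (nat_lit 122880) (Steps.bwd (nat_lit 19) Steps.nil)))) (nat_lit 41) (nat_lit 2),
  Rule.mk (nat_lit 14) (nat_lit 78) (Steps.bwd (nat_lit 16) (Steps.fwd (nat_lit 155648) (Steps.fwd (nat_lit 114688) (Steps.fwd (nat_lit 131072) Steps.nil)))) (nat_lit 40) (nat_lit 3),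
  Rule.mk (nat_lit 12) (nat_lit 142) (Steps.bwd (nat_lit 11) (Steps.fwd (nat_lit 8192) (Steps.fwd (nat_lit 139264) (Steps.bwd (nat_lit 1) (Steps.bwd (nat_lit 17) (Steps.bwd (nat_lit 11) (Steps.fwd (nat_lit 131072) (Steps.bwd (nat_lit 14) Steps.nil)))))))) (nat_lit 46) (nat_lit 8),
  Rule.mk (nat_lit 16) (nat_lit 62) (Steps.fwd (nat_lit 98304) (Steps.fwd (nat_lit 131072) (Steps.bwd (nat_lit 12) Steps.nil))) (nat_lit 38) (nat_lit 0),
  Rule.mk (nat_lit 11) (nat_lit 142) (Steps.bwd (nat_lit 2) (Steps.fwd (nat_lit 139264) (Steps.fwd (nat_lit 16384) (Steps.bwd (nat_lit 17) (Steps.fwd (nat_lit 81920) (Steps.bwd (nat_lit 17) (Steps.fwd (nat_lit 122880) (Steps.bwd (nat_lit 12) Steps.nil)))))))) (nat_lit 46) (nat_lit 0),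
  Rule.mk (nat_lit 6) (nat_lit 62) (Steps.fwd (nat_lit 32768) (Steps.bwd (nat_lit 14) (Steps.bwd (nat_lit 4) Steps.nil))) (nat_lit 14) (nat_lit 3),
  Rule.mk (nat_lit 10) (nat_lit 78) (Steps.fwd (nat_lit 90112) (Steps.fwd (nat_lit 90112) (Steps.fwd (nat_lit 90112) (Steps.bwd (nat_lit 10) Steps.nil)))) (nat_lit 20) (nat_lit 0),
  Rule.mk (nat_lit 2) (nat_lit 110) (Steps.bwd (nat_lit 14) (Steps.fwd (nat_lit 16384) (Steps.fwd (nat_lit 131072) (Steps.bwd (nat_lit 11) (Steps.bwd (nat_lit 14) (Steps.bwd (nat_lit 14) Steps.nil)))))) (nat_lit 44) (nat_lit 1),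
  Rule.mk (nat_lit 15) (nat_lit 94) (Steps.bwd (nat_lit 10) (Steps.bwd (nat_lit 14) (Steps.bwd (nat_lit 18) (Steps.fwd (nat_lit 155648) (Steps.fwd (nat_lit 81920) Steps.nil))))) (nat_lit 32) (nat_lit 2),
  Rule.mk (nat_lit 13) (nat_lit 78) (Steps.bwd (nat_lit 14) (Steps.fwd (nat_lit 106496) (Steps.fwd (nat_lit 147456) (Steps.bwd (nat_lit 15) Steps.nil)))) (nat_lit 37) (nat_lit 3),
  Rule.mk (nat_lit 13) (nat_lit 78) (Steps.bwd (nat_lit 10) (Steps.bwd (nat_lit 12) (Steps.fwd (nat_lit 147456) (Steps.fwd (nat_lit 81920) Steps.nil)))) (nat_lit 19) (nat_lit 2),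
  Rule.mk (nat_lit 14) (nat_lit 78) (Steps.bwd (nat_lit 12) (Steps.fwd (nat_lit 147456) (Steps.fwd (nat_lit 114688) (Steps.bwd (nat_lit 13) Steps.nil)))) (nat_lit 37) (nat_lit 4),
  Rule.mk (nat_lit 12) (nat_lit 78) (Steps.fwd (nat_lit 16384) (Steps.bwd (nat_lit 10) (Steps.fwd (nat_lit 90112) (Steps.bwd (nat_lit 2) Steps.nil)))) (nat_lit 42) (nat_lit 2),
  Rule.mk (nat_lit 18) (nat_lit 62) (Steps.fwd (nat_lit 98304) (Steps.fwd (nat_lit 147456) (Steps.bwd (nat_lit 12) Steps.nil))) (nat_lit 26) (nat_lit 0),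
  Rule.mk (nat_lit 12) (nat_lit 78) (Steps.bwd (nat_lit 14) (Steps.bwd (nat_lit 18) (Steps.fwd (nat_lit 98304) (Steps.bwd (nat_lit 15) Steps.nil)))) (nat_lit 36) (nat_lit 3),
  Rule.mk (nat_lit 19) (nat_lit 78) (Steps.bwd (nat_lit 15) (Steps.fwd (nat_lit 98304) (Steps.bwd (nat_lit 14) (Steps.bwd (nat_lit 12) Steps.nil)))) (nat_lit 37) (nat_lit 1),
  Rule.mk (nat_lit 14) (nat_lit 62) (Steps.fwd (nat_lit 155648) (Steps.fwd (nat_lit 114688) (Steps.bwd (nat_lit 19) Steps.nil))) (nat_lit 28) (nat_lit 3),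
  Rule.mk (nat_lit 19) (nat_lit 62) (Steps.bwd (nat_lit 12) (Steps.bwd (nat_lit 18) (Steps.fwd (nat_lit 98304) Steps.nil))) (nat_lit 26) (nat_lit 2),
  Rule.mk (nat_lit 4) (nat_lit 62) (Steps.fwd (nat_lit 155648) (Steps.fwd (nat_lit 32768) (Steps.bwd (nat_lit 19) Steps.nil))) (nat_lit 54) (nat_lit 1),
  Rule.mk (nat_lit 2) (nat_lit 110) (Steps.bwd (nat_lit 15) (Steps.fwd (nat_lit 16384) (Steps.bwd (nat_lit 15) (Steps.bwd (nat_lit 15) (Steps.bwd (nat_lit 10) (Steps.bwd (nat_lit 16) Steps.nil)))))) (nat_lit 45) (nat_lit 5),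
  Rule.mk (nat_lit 2) (nat_lit 78) (Steps.bwd (nat_lit 19) (Steps.bwd (nat_lit 1) (Steps.fwd (nat_lit 155648) (Steps.fwd (nat_lit 155648) Steps.nil)))) (nat_lit 49) (nat_lit 3),
  Rule.mk (nat_lit 15) (nat_lit 110) (Steps.bwd (nat_lit 1) (Steps.bwd (nat_lit 15) (Steps.fwd (nat_lit 114688) (Steps.fwd (nat_lit 90112) (Steps.fwd (nat_lit 139264) (Steps.bwd (nat_lit 2) Steps.nil)))))) (nat_lit 45) (nat_lit 6),
  Rule.mk (nat_lit 18) (nat_lit 62) (Steps.bwd (nat_lit 15) (Steps.bwd (nat_lit 19) (Steps.fwd (nat_lit 122880) Steps.nil))) (nat_lit 28) (nat_lit 0),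
  Rule.mk (nat_lit 16) (nat_lit 110) (Steps.bwd (nat_lit 2) (Steps.bwd (nat_lit 15) (Steps.fwd (nat_lit 16384) (Steps.fwd (nat_lit 114688) (Steps.bwd (nat_lit 15) (Steps.bwd (nat_lit 10) Steps.nil)))))) (nat_lit 45) (nat_lit 4)]
noncomputable def R_12 : List (Rule) := [Rule.mk (nat_lit 12) (nat_lit 62) (Steps.fwd (nat_lit 131072) (Steps.fwd (nat_lit 98304) (Steps.bwd (nat_lit 16) Steps.nil))) (nat_lit 39) (nat_lit 0),
  Rule.mk (nat_lit 17) (nat_lit 62) (Steps.bwd (nat_lit 12) (Steps.fwd (nat_lit 139264) (Steps.fwd (nat_lit 98304) Steps.nil))) (nat_lit 38) (nat_lit 2),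
  Rule.mk (nat_lit 12) (nat_lit 78) (Steps.bwd (nat_lit 1) (Steps.fwd (nat_lit 90112) (Steps.bwd (nat_lit 10) (Steps.bwd (nat_lit 2) Steps.nil)))) (nat_lit 42) (nat_lit 2),
  Rule.mk (nat_lit 19) (nat_lit 62) (Steps.bwd (nat_lit 13) (Steps.fwd (nat_lit 155648) (Steps.bwd (nat_lit 12) Steps.nil))) (nat_lit 27) (nat_lit 1),
  Rule.mk (nat_lit 1) (nat_lit 78) (Steps.bwd (nat_lit 10) (Steps.fwd (nat_lit 90112) (Steps.bwd (nat_lit 2) (Steps.bwd (nat_lit 12) Steps.nil)))) (nat_lit 42) (nat_lit 3),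
  Rule.mk (nat_lit 17) (nat_lit 94) (Steps.bwd (nat_lit 10) (Steps.fwd (nat_lit 139264) (Steps.fwd (nat_lit 147456) (Steps.fwd (nat_lit 147456) (Steps.fwd (nat_lit 81920) Steps.nil))))) (nat_lit 34) (nat_lit 2),
  Rule.mk (nat_lit 4) (nat_lit 126) (Steps.bwd (nat_lit 14) (Steps.bwd (nat_lit 3) (Steps.fwd (nat_lit 122880) (Steps.fwd (nat_lit 122880) (Steps.bwd (nat_lit 17) (Steps.bwd (nat_lit 11) (Steps.bwd (nat_lit 11) Steps.nil))))))) (nat_lit 52) (nat_lit 1),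
  Rule.mk (nat_lit 13) (nat_lit 62) (Steps.bwd (nat_lit 18) (Steps.bwd (nat_lit 12) (Steps.bwd (nat_lit 19) Steps.nil))) (nat_lit 27) (nat_lit 2),
  Rule.mk (nat_lit 4) (nat_lit 62) (Steps.bwd (nat_lit 18) (Steps.bwd (nat_lit 3) (Steps.bwd (nat_lit 19) Steps.nil))) (nat_lit 54) (nat_lit 1),
  Rule.mk (nat_lit 13) (nat_lit 126) (Steps.bwd (nat_lit 3) (Steps.bwd (nat_lit 12) (Steps.fwd (nat_lit 122880) (Steps.fwd (nat_lit 131072) (Steps.fwd (nat_lit 81920) (Steps.fwd (nat_lit 131072) (Steps.bwd (nat_lit 4) Steps.nil))))))) (nat_lit 51) (nat_lit 7),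
  Rule.mk (nat_lit 16) (nat_lit 78) (Steps.bwd (nat_lit 14) (Steps.fwd (nat_lit 147456) (Steps.bwd (nat_lit 17) (Steps.bwd (nat_lit 15) Steps.nil)))) (nat_lit 41) (nat_lit 4),
  Rule.mk (nat_lit 12) (nat_lit 78) (Steps.bwd (nat_lit 14) (Steps.fwd (nat_lit 155648) (Steps.bwd (nat_lit 13) (Steps.fwd (nat_lit 114688) Steps.nil)))) (nat_lit 36) (nat_lit 3),
  Rule.mk (nat_lit 11) (nat_lit 110) (Steps.bwd (nat_lit 14) (Steps.fwd (nat_lit 122880) (Steps.fwd (nat_lit 8192) (Steps.bwd (nat_lit 14) (Steps.fwd (nat_lit 16384) (Steps.bwd (nat_lit 17) Steps.nil)))))) (nat_lit 44) (nat_lit 5),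
  Rule.mk (nat_lit 10) (nat_lit 94) (Steps.bwd (nat_lit 14) (Steps.fwd (nat_lit 155648) (Steps.bwd (nat_lit 18) (Steps.bwd (nat_lit 11) (Steps.bwd (nat_lit 15) Steps.nil))))) (nat_lit 32) (nat_lit 3),
  Rule.mk (nat_lit 17) (nat_lit 78) (Steps.bwd (nat_lit 15) (Steps.fwd (nat_lit 139264) (Steps.fwd (nat_lit 122880) (Steps.fwd (nat_lit 147456) Steps.nil)))) (nat_lit 41) (nat_lit 2),
  Rule.mk (nat_lit 11) (nat_lit 94) (Steps.bwd (nat_lit 15) (Steps.fwd (nat_lit 90112) (Steps.bwd (nat_lit 14) (Steps.bwd (nat_lit 18) (Steps.bwd (nat_lit 18) Steps.nil))))) (nat_lit 32) (nat_lit 1),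
  Rule.mk (nat_lit 4) (nat_lit 62) (Steps.fwd (nat_lit 131072) (Steps.bwd (nat_lit 3) (Steps.bwd (nat_lit 5) Steps.nil))) (nat_lit 17) (nat_lit 3),
  Rule.mk (nat_lit 4) (nat_lit 62) (Steps.bwd (nat_lit 17) (Steps.bwd (nat_lit 3) (Steps.bwd (nat_lit 5) Steps.nil))) (nat_lit 17) (nat_lit 3),
  Rule.mk (nat_lit 4) (nat_lit 62) (Steps.fwd (nat_lit 40960) (Steps.bwd (nat_lit 3) (Steps.fwd (nat_lit 122880) Steps.nil))) (nat_lit 14) (nat_lit 2),
  Rule.mk (nat_lit 16) (nat_lit 62) (Steps.bwd (nat_lit 3) (Steps.fwd (nat_lit 40960) (Steps.bwd (nat_lit 4) Steps.nil))) (nat_lit 16) (nat_lit 1),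
  Rule.mk (nat_lit 14) (nat_lit 62) (Steps.fwd (nat_lit 155648) (Steps.bwd (nat_lit 15) (Steps.bwd (nat_lit 19) Steps.nil))) (nat_lit 28) (nat_lit 3),
  Rule.mk (nat_lit 4) (nat_lit 62) (Steps.bwd (nat_lit 17) (Steps.bwd (nat_lit 3) (Steps.fwd (nat_lit 49152) Steps.nil))) (nat_lit 17) (nat_lit 3),
  Rule.mk (nat_lit 19) (nat_lit 94) (Steps.bwd (nat_lit 19) (Steps.bwd (nat_lit 11) (Steps.bwd (nat_lit 17) (Steps.fwd (nat_lit 90112) (Steps.bwd (nat_lit 16) Steps.nil))))) (nat_lit 34) (nat_lit 5),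
  Rule.mk (nat_lit 1) (nat_lit 78) (Steps.bwd (nat_lit 19) (Steps.bwd (nat_lit 19) (Steps.fwd (nat_lit 8192) (Steps.fwd (nat_lit 155648) Steps.nil)))) (nat_lit 48) (nat_lit 3),
  Rule.mk (nat_lit 2) (nat_lit 62) (Steps.fwd (nat_lit 40960) (Steps.bwd (nat_lit 1) (Steps.bwd (nat_lit 12) Steps.nil))) (nat_lit 12) (nat_lit 2),
  Rule.mk (nat_lit 18) (nat_lit 62) (Steps.bwd (nat_lit 14) (Steps.fwd (nat_lit 147456) (Steps.fwd (nat_lit 114688) Steps.nil))) (nat_lit 29) (nat_lit 3),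
  Rule.mk (nat_lit 16) (nat_lit 78) (Steps.bwd (nat_lit 14) (Steps.fwd (nat_lit 147456) (Steps.bwd (nat_lit 17) (Steps.fwd (nat_lit 114688) Steps.nil)))) (nat_lit 41) (nat_lit 4),
  Rule.mk (nat_lit 11) (nat_lit 94) (Steps.bwd (nat_lit 14) (Steps.fwd (nat_lit 90112) (Steps.bwd (nat_lit 19) (Steps.fwd (nat_lit 147456) (Steps.fwd (nat_lit 114688) Steps.nil))))) (nat_lit 33) (nat_lit 4),
  Rule.mk (nat_lit 4) (nat_lit 62) (Steps.bwd (nat_lit 6) (Steps.fwd (nat_lit 32768) (Steps.fwd (nat_lit 122880) Steps.nil))) (nat_lit 14) (nat_lit 2),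
  Rule.mk (nat_lit 10) (nat_lit 94) (Steps.bwd (nat_lit 16) (Steps.bwd (nat_lit 19) (Steps.fwd (nat_lit 147456) (Steps.bwd (nat_lit 11) (Steps.fwd (nat_lit 131072) Steps.nil))))) (nat_lit 34) (nat_lit 3),
  Rule.mk (nat_lit 5) (nat_lit 62) (Steps.bwd (nat_lit 3) (Steps.bwd (nat_lit 15) (Steps.fwd (nat_lit 24576) Steps.nil))) (nat_lit 15) (nat_lit 2),
  Rule.mk (nat_lit 19) (nat_lit 62) (Steps.bwd (nat_lit 11) (Steps.fwd (nat_lit 155648) (Steps.fwd (nat_lit 90112) Steps.nil))) (nat_lit 25) (nat_lit 1),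
  Rule.mk (nat_lit 15) (nat_lit 94) (Steps.bwd (nat_lit 11) (Steps.fwd (nat_lit 122880) (Steps.fwd (nat_lit 90112) (Steps.bwd (nat_lit 19) (Steps.bwd (nat_lit 19) Steps.nil))))) (nat_lit 33) (nat_lit 3),
  Rule.mk (nat_lit 17) (nat_lit 94) (Steps.bwd (nat_lit 11) (Steps.bwd (nat_lit 16) (Steps.fwd (nat_lit 90112) (Steps.fwd (nat_lit 155648) (Steps.fwd (nat_lit 155648) Steps.nil))))) (nat_lit 35) (nat_lit 3),
  Rule.mk (nat_lit 15) (nat_lit 94) (Steps.bwd (nat_lit 11) (Steps.bwd (nat_lit 14) (Steps.bwd (nat_lit 10) (Steps.bwd (nat_lit 19) (Steps.fwd (nat_lit 147456) Steps.nil))))) (nat_lit 33) (nat_lit 3),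
  Rule.mk (nat_lit 17) (nat_lit 94) (Steps.bwd (nat_lit 11) (Steps.bwd (nat_lit 16) (Steps.bwd (nat_lit 10) (Steps.fwd (nat_lit 155648) (Steps.fwd (nat_lit 155648) Steps.nil))))) (nat_lit 35) (nat_lit 3),
  Rule.mk (nat_lit 15) (nat_lit 94) (Steps.bwd (nat_lit 11) (Steps.bwd (nat_lit 14) (Steps.fwd (nat_lit 90112) (Steps.fwd (nat_lit 147456) (Steps.bwd (nat_lit 19) Steps.nil))))) (nat_lit 33) (nat_lit 3),
  Rule.mk (nat_lit 17) (nat_lit 94) (Steps.bwd (nat_lit 11) (Steps.fwd (nat_lit 139264) (Steps.bwd (nat_lit 10) (Steps.bwd (nat_lit 18) (Steps.fwd (nat_lit 155648) Steps.nil))))) (nat_lit 35) (nat_lit 3),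
  Rule.mk (nat_lit 3) (nat_lit 62) (Steps.bwd (nat_lit 15) (Steps.fwd (nat_lit 24576) (Steps.bwd (nat_lit 5) Steps.nil))) (nat_lit 15) (nat_lit 3),
  Rule.mk (nat_lit 19) (nat_lit 62) (Steps.bwd (nat_lit 15) (Steps.fwd (nat_lit 155648) (Steps.fwd (nat_lit 122880) Steps.nil))) (nat_lit 29) (nat_lit 1),
  Rule.mk (nat_lit 13) (nat_lit 78) (Steps.bwd (nat_lit 15) (Steps.bwd (nat_lit 12) (Steps.fwd (nat_lit 122880) (Steps.bwd (nat_lit 18) Steps.nil)))) (nat_lit 36) (nat_lit 1),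
  Rule.mk (nat_lit 11) (nat_lit 94) (Steps.bwd (nat_lit 15) (Steps.bwd (nat_lit 10) (Steps.fwd (nat_lit 122880) (Steps.bwd (nat_lit 18) (Steps.bwd (nat_lit 18) Steps.nil))))) (nat_lit 32) (nat_lit 1),
  Rule.mk (nat_lit 14) (nat_lit 126) (Steps.bwd (nat_lit 3) (Steps.fwd (nat_lit 122880) (Steps.fwd (nat_lit 122880) (Steps.fwd (nat_lit 131072) (Steps.bwd (nat_lit 11) (Steps.bwd (nat_lit 11) (Steps.fwd (nat_lit 24576) Steps.nil))))))) (nat_lit 52) (nat_lit 2),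
  Rule.mk (nat_lit 4) (nat_lit 62) (Steps.bwd (nat_lit 16) (Steps.bwd (nat_lit 3) (Steps.fwd (nat_lit 40960) Steps.nil))) (nat_lit 16) (nat_lit 0),
  Rule.mk (nat_lit 11) (nat_lit 94) (Steps.bwd (nat_lit 16) (Steps.bwd (nat_lit 10) (Steps.bwd (nat_lit 18) (Steps.fwd (nat_lit 155648) (Steps.fwd (nat_lit 131072) Steps.nil))))) (nat_lit 35) (nat_lit 4),
  Rule.mk (nat_lit 14) (nat_lit 78) (Steps.bwd (nat_lit 16) (Steps.bwd (nat_lit 18) (Steps.bwd (nat_lit 15) (Steps.fwd (nat_lit 131072) Steps.nil)))) (nat_lit 40) (nat_lit 3),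
  Rule.mk (nat_lit 4) (nat_lit 126) (Steps.bwd (nat_lit 13) (Steps.fwd (nat_lit 32768) (Steps.bwd (nat_lit 12) (Steps.fwd (nat_lit 122880) (Steps.fwd (nat_lit 131072) (Steps.bwd (nat_lit 11) (Steps.bwd (nat_lit 17) Steps.nil))))))) (nat_lit 51) (nat_lit 6),
  Rule.mk (nat_lit 10) (nat_lit 94) (Steps.bwd (nat_lit 14) (Steps.fwd (nat_lit 155648) (Steps.fwd (nat_lit 155648) (Steps.fwd (nat_lit 81920) (Steps.bwd (nat_lit 15) Steps.nil))))) (nat_lit 32) (nat_lit 3),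
  Rule.mk (nat_lit 1) (nat_lit 94) (Steps.bwd (nat_lit 4) (Steps.bwd (nat_lit 2) (Steps.fwd (nat_lit 8192) (Steps.fwd (nat_lit 32768) (Steps.bwd (nat_lit 1) Steps.nil))))) (nat_lit 7) (nat_lit 0),
  Rule.mk (nat_lit 19) (nat_lit 62) (Steps.bwd (nat_lit 15) (Steps.bwd (nat_lit 18) (Steps.bwd (nat_lit 14) Steps.nil))) (nat_lit 29) (nat_lit 1),
  Rule.mk (nat_lit 1) (nat_lit 110) (Steps.bwd (nat_lit 15) (Steps.fwd (nat_lit 114688) (Steps.fwd (nat_lit 90112) (Steps.bwd (nat_lit 16) (Steps.bwd (nat_lit 2) (Steps.bwd (nat_lit 15) Steps.nil)))))) (nat_lit 45) (nat_lit 0),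
  Rule.mk (nat_lit 19) (nat_lit 78) (Steps.bwd (nat_lit 2) (Steps.fwd (nat_lit 155648) (Steps.bwd (nat_lit 1) (Steps.bwd (nat_lit 19) Steps.nil)))) (nat_lit 48) (nat_lit 0),
  Rule.mk (nat_lit 19) (nat_lit 78) (Steps.bwd (nat_lit 2) (Steps.fwd (nat_lit 155648) (Steps.fwd (nat_lit 16384) (Steps.bwd (nat_lit 19) Steps.nil)))) (nat_lit 48) (nat_lit 0),
  Rule.mk (nat_lit 18) (nat_lit 78) (Steps.bwd (nat_lit 2) (Steps.bwd (nat_lit 19) (Steps.bwd (nat_lit 1) (Steps.fwd (nat_lit 155648) Steps.nil)))) (nat_lit 49) (nat_lit 2),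
  Rule.mk (nat_lit 2) (nat_lit 94) (Steps.bwd (nat_lit 2) (Steps.fwd (nat_lit 32768) (Steps.bwd (nat_lit 1) (Steps.fwd (nat_lit 16384) (Steps.bwd (nat_lit 4) Steps.nil))))) (nat_lit 7) (nat_lit 2),
  Rule.mk (nat_lit 6) (nat_lit 62) (Steps.bwd (nat_lit 4) (Steps.fwd (nat_lit 139264) (Steps.fwd (nat_lit 32768) Steps.nil))) (nat_lit 16) (nat_lit 3),
  Rule.mk (nat_lit 16) (nat_lit 78) (Steps.bwd (nat_lit 18) (Steps.bwd (nat_lit 15) (Steps.fwd (nat_lit 131072) (Steps.bwd (nat_lit 14) Steps.nil)))) (nat_lit 40) (nat_lit 4),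
  Rule.mk (nat_lit 10) (nat_lit 94) (Steps.bwd (nat_lit 16) (Steps.bwd (nat_lit 19) (Steps.fwd (nat_lit 147456) (Steps.fwd (nat_lit 81920) (Steps.fwd (nat_lit 131072) Steps.nil))))) (nat_lit 34) (nat_lit 3),
  Rule.mk (nat_lit 17) (nat_lit 78) (Steps.bwd (nat_lit 15) (Steps.bwd (nat_lit 16) (Steps.bwd (nat_lit 14) (Steps.fwd (nat_lit 147456) Steps.nil)))) (nat_lit 41) (nat_lit 2),
  Rule.mk (nat_lit 1) (nat_lit 110) (Steps.bwd (nat_lit 15) (Steps.bwd (nat_lit 15) (Steps.bwd (nat_lit 10) (Steps.bwd (nat_lit 16) (Steps.bwd (nat_lit 2) (Steps.fwd (nat_lit 114688) Steps.nil)))))) (nat_lit 45) (nat_lit 0),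
  Rule.mk (nat_lit 14) (nat_lit 62) (Steps.fwd (nat_lit 147456) (Steps.bwd (nat_lit 15) (Steps.bwd (nat_lit 18) Steps.nil))) (nat_lit 29) (nat_lit 0),
  Rule.mk (nat_lit 1) (nat_lit 110) (Steps.bwd (nat_lit 17) (Steps.fwd (nat_lit 81920) (Steps.fwd (nat_lit 122880) (Steps.bwd (nat_lit 14) (Steps.fwd (nat_lit 8192) (Steps.bwd (nat_lit 14) Steps.nil)))))) (nat_lit 44) (nat_lit 3),
  Rule.mk (nat_lit 19) (nat_lit 62) (Steps.bwd (nat_lit 17) (Steps.bwd (nat_lit 18) (Steps.bwd (nat_lit 16) Steps.nil))) (nat_lit 31) (nat_lit 1),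
  Rule.mk (nat_lit 11) (nat_lit 62) (Steps.fwd (nat_lit 155648) (Steps.fwd (nat_lit 90112) (Steps.bwd (nat_lit 19) Steps.nil))) (nat_lit 25) (nat_lit 2)]
noncomputable def R_13 : List (Rule) := [Rule.mk (nat_lit 18) (nat_lit 78) (Steps.bwd (nat_lit 18) (Steps.fwd (nat_lit 8192) (Steps.bwd (nat_lit 19) (Steps.bwd (nat_lit 1) Steps.nil)))) (nat_lit 49) (nat_lit 1),
  Rule.mk (nat_lit 13) (nat_lit 78) (Steps.bwd (nat_lit 10) (Steps.fwd (nat_lit 106496) (Steps.bwd (nat_lit 19) (Steps.fwd (nat_lit 81920) Steps.nil)))) (nat_lit 19) (nat_lit 2),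
  Rule.mk (nat_lit 8) (nat_lit 94) (Steps.bwd (nat_lit 8) (Steps.bwd (nat_lit 1) (Steps.bwd (nat_lit 1) (Steps.fwd (nat_lit 16384) (Steps.bwd (nat_lit 1) Steps.nil))))) (nat_lit 79) (nat_lit 5),
  Rule.mk (nat_lit 2) (nat_lit 94) (Steps.bwd (nat_lit 7) (Steps.bwd (nat_lit 1) (Steps.fwd (nat_lit 16384) (Steps.bwd (nat_lit 1) (Steps.bwd (nat_lit 8) Steps.nil))))) (nat_lit 83) (nat_lit 5),
  Rule.mk (nat_lit 10) (nat_lit 78) (Steps.bwd (nat_lit 10) (Steps.bwd (nat_lit 10) (Steps.bwd (nat_lit 10) (Steps.fwd (nat_lit 90112) Steps.nil)))) (nat_lit 20) (nat_lit 0),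
  Rule.mk (nat_lit 1) (nat_lit 78) (Steps.bwd (nat_lit 10) (Steps.bwd (nat_lit 10) (Steps.bwd (nat_lit 2) (Steps.bwd (nat_lit 12) Steps.nil)))) (nat_lit 42) (nat_lit 3),
  Rule.mk (nat_lit 11) (nat_lit 78) (Steps.bwd (nat_lit 2) (Steps.bwd (nat_lit 13) (Steps.fwd (nat_lit 16384) (Steps.fwd (nat_lit 81920) Steps.nil)))) (nat_lit 43) (nat_lit 2),
  Rule.mk (nat_lit 1) (nat_lit 78) (Steps.bwd (nat_lit 11) (Steps.fwd (nat_lit 81920) (Steps.bwd (nat_lit 2) (Steps.bwd (nat_lit 13) Steps.nil)))) (nat_lit 43) (nat_lit 0),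
  Rule.mk (nat_lit 7) (nat_lit 62) (Steps.bwd (nat_lit 3) (Steps.bwd (nat_lit 8) (Steps.fwd (nat_lit 24576) Steps.nil))) (nat_lit 81) (nat_lit 3),
  Rule.mk (nat_lit 2) (nat_lit 126) (Steps.bwd (nat_lit 2) (Steps.bwd (nat_lit 2) (Steps.fwd (nat_lit 8192) (Steps.fwd (nat_lit 8192) (Steps.bwd (nat_lit 2) (Steps.bwd (nat_lit 2) (Steps.bwd (nat_lit 2) Steps.nil))))))) (nat_lit 1) (nat_lit 0),
  Rule.mk (nat_lit 18) (nat_lit 78) (Steps.fwd (nat_lit 16384) (Steps.bwd (nat_lit 19) (Steps.bwd (nat_lit 19) (Steps.bwd (nat_lit 2) Steps.nil)))) (nat_lit 48) (nat_lit 2),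
  Rule.mk (nat_lit 11) (nat_lit 78) (Steps.bwd (nat_lit 11) (Steps.bwd (nat_lit 11) (Steps.fwd (nat_lit 81920) (Steps.bwd (nat_lit 11) Steps.nil)))) (nat_lit 21) (nat_lit 0),
  Rule.mk (nat_lit 1) (nat_lit 78) (Steps.bwd (nat_lit 11) (Steps.bwd (nat_lit 11) (Steps.bwd (nat_lit 2) (Steps.bwd (nat_lit 13) Steps.nil)))) (nat_lit 43) (nat_lit 0),
  Rule.mk (nat_lit 12) (nat_lit 78) (Steps.bwd (nat_lit 1) (Steps.fwd (nat_lit 90112) (Steps.fwd (nat_lit 90112) (Steps.fwd (nat_lit 8192) Steps.nil)))) (nat_lit 42) (nat_lit 2),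
  Rule.mk (nat_lit 1) (nat_lit 126) (Steps.bwd (nat_lit 1) (Steps.bwd (nat_lit 1) (Steps.fwd (nat_lit 16384) (Steps.fwd (nat_lit 16384) (Steps.fwd (nat_lit 16384) (Steps.bwd (nat_lit 1) (Steps.bwd (nat_lit 1) Steps.nil))))))) (nat_lit 0) (nat_lit 0),
  Rule.mk (nat_lit 10) (nat_lit 78) (Steps.bwd (nat_lit 10) (Steps.bwd (nat_lit 2) (Steps.fwd (nat_lit 106496) (Steps.bwd (nat_lit 1) Steps.nil)))) (nat_lit 42) (nat_lit 4),
  Rule.mk (nat_lit 13) (nat_lit 62) (Steps.fwd (nat_lit 8192) (Steps.fwd (nat_lit 49152) (Steps.bwd (nat_lit 1) Steps.nil))) (nat_lit 13) (nat_lit 0),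
  Rule.mk (nat_lit 10) (nat_lit 78) (Steps.bwd (nat_lit 2) (Steps.bwd (nat_lit 12) (Steps.bwd (nat_lit 1) (Steps.bwd (nat_lit 10) Steps.nil)))) (nat_lit 42) (nat_lit 0),
  Rule.mk (nat_lit 18) (nat_lit 78) (Steps.bwd (nat_lit 13) (Steps.fwd (nat_lit 81920) (Steps.bwd (nat_lit 12) (Steps.bwd (nat_lit 10) Steps.nil)))) (nat_lit 18) (nat_lit 1),
  Rule.mk (nat_lit 19) (nat_lit 78) (Steps.bwd (nat_lit 11) (Steps.bwd (nat_lit 13) (Steps.bwd (nat_lit 10) (Steps.bwd (nat_lit 12) Steps.nil)))) (nat_lit 19) (nat_lit 0),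
  Rule.mk (nat_lit 18) (nat_lit 78) (Steps.fwd (nat_lit 16384) (Steps.fwd (nat_lit 147456) (Steps.bwd (nat_lit 19) (Steps.bwd (nat_lit 2) Steps.nil)))) (nat_lit 48) (nat_lit 2),
  Rule.mk (nat_lit 13) (nat_lit 78) (Steps.bwd (nat_lit 1) (Steps.fwd (nat_lit 81920) (Steps.bwd (nat_lit 11) (Steps.bwd (nat_lit 2) Steps.nil)))) (nat_lit 43) (nat_lit 4),
  Rule.mk (nat_lit 18) (nat_lit 78) (Steps.fwd (nat_lit 16384) (Steps.fwd (nat_lit 147456) (Steps.fwd (nat_lit 147456) (Steps.bwd (nat_lit 2) Steps.nil)))) (nat_lit 48) (nat_lit 2),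
  Rule.mk (nat_lit 19) (nat_lit 78) (Steps.fwd (nat_lit 16384) (Steps.bwd (nat_lit 18) (Steps.fwd (nat_lit 155648) (Steps.bwd (nat_lit 2) Steps.nil)))) (nat_lit 49) (nat_lit 4),
  Rule.mk (nat_lit 2) (nat_lit 78) (Steps.bwd (nat_lit 12) (Steps.bwd (nat_lit 1) (Steps.fwd (nat_lit 90112) (Steps.bwd (nat_lit 10) Steps.nil)))) (nat_lit 42) (nat_lit 1),
  Rule.mk (nat_lit 6) (nat_lit 62) (Steps.fwd (nat_lit 16384) (Steps.bwd (nat_lit 12) (Steps.bwd (nat_lit 2) Steps.nil))) (nat_lit 12) (nat_lit 3),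
  Rule.mk (nat_lit 19) (nat_lit 78) (Steps.bwd (nat_lit 11) (Steps.fwd (nat_lit 98304) (Steps.fwd (nat_lit 90112) (Steps.bwd (nat_lit 12) Steps.nil)))) (nat_lit 19) (nat_lit 0),
  Rule.mk (nat_lit 12) (nat_lit 62) (Steps.bwd (nat_lit 17) (Steps.fwd (nat_lit 98304) (Steps.bwd (nat_lit 16) Steps.nil))) (nat_lit 39) (nat_lit 0),
  Rule.mk (nat_lit 11) (nat_lit 94) (Steps.bwd (nat_lit 17) (Steps.fwd (nat_lit 90112) (Steps.fwd (nat_lit 139264) (Steps.bwd (nat_lit 19) (Steps.fwd (nat_lit 147456) Steps.nil))))) (nat_lit 34) (nat_lit 1),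
  Rule.mk (nat_lit 2) (nat_lit 62) (Steps.bwd (nat_lit 5) (Steps.fwd (nat_lit 16384) (Steps.fwd (nat_lit 98304) Steps.nil))) (nat_lit 13) (nat_lit 1),
  Rule.mk (nat_lit 1) (nat_lit 78) (Steps.fwd (nat_lit 81920) (Steps.bwd (nat_lit 11) (Steps.bwd (nat_lit 2) (Steps.fwd (nat_lit 98304) Steps.nil)))) (nat_lit 43) (nat_lit 0),
  Rule.mk (nat_lit 4) (nat_lit 62) (Steps.bwd (nat_lit 6) (Steps.fwd (nat_lit 32768) (Steps.bwd (nat_lit 14) Steps.nil))) (nat_lit 14) (nat_lit 2),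
  Rule.mk (nat_lit 11) (nat_lit 78) (Steps.bwd (nat_lit 13) (Steps.bwd (nat_lit 10) (Steps.fwd (nat_lit 106496) (Steps.fwd (nat_lit 147456) Steps.nil)))) (nat_lit 19) (nat_lit 1),
  Rule.mk (nat_lit 4) (nat_lit 62) (Steps.bwd (nat_lit 18) (Steps.fwd (nat_lit 32768) (Steps.bwd (nat_lit 19) Steps.nil))) (nat_lit 54) (nat_lit 1),
  Rule.mk (nat_lit 18) (nat_lit 78) (Steps.bwd (nat_lit 18) (Steps.bwd (nat_lit 2) (Steps.bwd (nat_lit 19) (Steps.bwd (nat_lit 1) Steps.nil)))) (nat_lit 49) (nat_lit 1),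
  Rule.mk (nat_lit 13) (nat_lit 62) (Steps.fwd (nat_lit 147456) (Steps.fwd (nat_lit 106496) (Steps.bwd (nat_lit 18) Steps.nil))) (nat_lit 26) (nat_lit 1),
  Rule.mk (nat_lit 1) (nat_lit 78) (Steps.fwd (nat_lit 155648) (Steps.bwd (nat_lit 18) (Steps.bwd (nat_lit 2) (Steps.bwd (nat_lit 19) Steps.nil)))) (nat_lit 49) (nat_lit 0),
  Rule.mk (nat_lit 12) (nat_lit 62) (Steps.bwd (nat_lit 16) (Steps.fwd (nat_lit 98304) (Steps.fwd (nat_lit 131072) Steps.nil))) (nat_lit 38) (nat_lit 3),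
  Rule.mk (nat_lit 2) (nat_lit 78) (Steps.bwd (nat_lit 13) (Steps.fwd (nat_lit 16384) (Steps.fwd (nat_lit 81920) (Steps.bwd (nat_lit 11) Steps.nil)))) (nat_lit 43) (nat_lit 3),
  Rule.mk (nat_lit 2) (nat_lit 94) (Steps.bwd (nat_lit 2) (Steps.bwd (nat_lit 3) (Steps.bwd (nat_lit 1) (Steps.fwd (nat_lit 16384) (Steps.fwd (nat_lit 24576) Steps.nil))))) (nat_lit 7) (nat_lit 2),
  Rule.mk (nat_lit 18) (nat_lit 62) (Steps.bwd (nat_lit 15) (Steps.bwd (nat_lit 19) (Steps.bwd (nat_lit 14) Steps.nil))) (nat_lit 28) (nat_lit 0),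
  Rule.mk (nat_lit 17) (nat_lit 62) (Steps.fwd (nat_lit 147456) (Steps.bwd (nat_lit 16) (Steps.bwd (nat_lit 18) Steps.nil))) (nat_lit 30) (nat_lit 1),
  Rule.mk (nat_lit 18) (nat_lit 78) (Steps.fwd (nat_lit 155648) (Steps.fwd (nat_lit 155648) (Steps.fwd (nat_lit 155648) (Steps.bwd (nat_lit 18) Steps.nil)))) (nat_lit 22) (nat_lit 0),
  Rule.mk (nat_lit 11) (nat_lit 94) (Steps.bwd (nat_lit 16) (Steps.fwd (nat_lit 90112) (Steps.fwd (nat_lit 155648) (Steps.bwd (nat_lit 18) (Steps.bwd (nat_lit 17) Steps.nil))))) (nat_lit 35) (nat_lit 4),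
  Rule.mk (nat_lit 13) (nat_lit 78) (Steps.fwd (nat_lit 90112) (Steps.fwd (nat_lit 106496) (Steps.bwd (nat_lit 19) (Steps.bwd (nat_lit 11) Steps.nil)))) (nat_lit 19) (nat_lit 2),
  Rule.mk (nat_lit 2) (nat_lit 78) (Steps.fwd (nat_lit 98304) (Steps.bwd (nat_lit 1) (Steps.fwd (nat_lit 81920) (Steps.bwd (nat_lit 11) Steps.nil)))) (nat_lit 43) (nat_lit 3),
  Rule.mk (nat_lit 1) (nat_lit 94) (Steps.bwd (nat_lit 3) (Steps.bwd (nat_lit 2) (Steps.bwd (nat_lit 2) (Steps.fwd (nat_lit 24576) (Steps.fwd (nat_lit 16384) Steps.nil))))) (nat_lit 6) (nat_lit 5),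
  Rule.mk (nat_lit 14) (nat_lit 126) (Steps.bwd (nat_lit 3) (Steps.fwd (nat_lit 122880) (Steps.bwd (nat_lit 14) (Steps.bwd (nat_lit 17) (Steps.fwd (nat_lit 81920) (Steps.bwd (nat_lit 11) (Steps.bwd (nat_lit 4) Steps.nil))))))) (nat_lit 52) (nat_lit 2),
  Rule.mk (nat_lit 10) (nat_lit 94) (Steps.bwd (nat_lit 19) (Steps.fwd (nat_lit 147456) (Steps.bwd (nat_lit 15) (Steps.bwd (nat_lit 11) (Steps.bwd (nat_lit 14) Steps.nil))))) (nat_lit 33) (nat_lit 0),
  Rule.mk (nat_lit 19) (nat_lit 62) (Steps.bwd (nat_lit 16) (Steps.fwd (nat_lit 155648) (Steps.fwd (nat_lit 131072) Steps.nil))) (nat_lit 30) (nat_lit 2),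
  Rule.mk (nat_lit 12) (nat_lit 62) (Steps.bwd (nat_lit 2) (Steps.bwd (nat_lit 6) (Steps.fwd (nat_lit 16384) Steps.nil))) (nat_lit 12) (nat_lit 1),
  Rule.mk (nat_lit 18) (nat_lit 78) (Steps.bwd (nat_lit 2) (Steps.fwd (nat_lit 147456) (Steps.bwd (nat_lit 1) (Steps.fwd (nat_lit 155648) Steps.nil)))) (nat_lit 49) (nat_lit 2),
  Rule.mk (nat_lit 18) (nat_lit 78) (Steps.bwd (nat_lit 1) (Steps.bwd (nat_lit 19) (Steps.bwd (nat_lit 19) (Steps.bwd (nat_lit 2) Steps.nil)))) (nat_lit 48) (nat_lit 2),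
  Rule.mk (nat_lit 11) (nat_lit 78) (Steps.bwd (nat_lit 13) (Steps.fwd (nat_lit 90112) (Steps.bwd (nat_lit 12) (Steps.fwd (nat_lit 147456) Steps.nil)))) (nat_lit 19) (nat_lit 1),
  Rule.mk (nat_lit 2) (nat_lit 78) (Steps.bwd (nat_lit 18) (Steps.fwd (nat_lit 16384) (Steps.bwd (nat_lit 19) (Steps.fwd (nat_lit 147456) Steps.nil)))) (nat_lit 48) (nat_lit 1),
  Rule.mk (nat_lit 2) (nat_lit 142) (Steps.bwd (nat_lit 16) (Steps.bwd (nat_lit 1) (Steps.fwd (nat_lit 131072) (Steps.fwd (nat_lit 81920) (Steps.bwd (nat_lit 17) (Steps.fwd (nat_lit 122880) (Steps.fwd (nat_lit 106496) (Steps.bwd (nat_lit 11) Steps.nil)))))))) (nat_lit 46) (nat_lit 1),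
  Rule.mk (nat_lit 19) (nat_lit 78) (Steps.bwd (nat_lit 19) (Steps.fwd (nat_lit 8192) (Steps.bwd (nat_lit 18) (Steps.fwd (nat_lit 16384) Steps.nil)))) (nat_lit 48) (nat_lit 4),
  Rule.mk (nat_lit 19) (nat_lit 78) (Steps.bwd (nat_lit 2) (Steps.fwd (nat_lit 155648) (Steps.fwd (nat_lit 16384) (Steps.fwd (nat_lit 147456) Steps.nil)))) (nat_lit 48) (nat_lit 0),
  Rule.mk (nat_lit 19) (nat_lit 62) (Steps.bwd (nat_lit 11) (Steps.bwd (nat_lit 18) (Steps.bwd (nat_lit 10) Steps.nil))) (nat_lit 25) (nat_lit 1),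
  Rule.mk (nat_lit 15) (nat_lit 94) (Steps.bwd (nat_lit 11) (Steps.fwd (nat_lit 122880) (Steps.bwd (nat_lit 10) (Steps.bwd (nat_lit 19) (Steps.bwd (nat_lit 19) Steps.nil))))) (nat_lit 33) (nat_lit 3),
  Rule.mk (nat_lit 17) (nat_lit 94) (Steps.bwd (nat_lit 11) (Steps.bwd (nat_lit 16) (Steps.fwd (nat_lit 90112) (Steps.bwd (nat_lit 18) (Steps.fwd (nat_lit 155648) Steps.nil))))) (nat_lit 35) (nat_lit 3),
  Rule.mk (nat_lit 2) (nat_lit 78) (Steps.fwd (nat_lit 155648) (Steps.fwd (nat_lit 16384) (Steps.bwd (nat_lit 19) (Steps.bwd (nat_lit 19) Steps.nil)))) (nat_lit 48) (nat_lit 1),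
  Rule.mk (nat_lit 14) (nat_lit 78) (Steps.bwd (nat_lit 16) (Steps.bwd (nat_lit 18) (Steps.fwd (nat_lit 114688) (Steps.bwd (nat_lit 17) Steps.nil)))) (nat_lit 40) (nat_lit 3),
  Rule.mk (nat_lit 16) (nat_lit 78) (Steps.fwd (nat_lit 122880) (Steps.fwd (nat_lit 147456) (Steps.bwd (nat_lit 17) (Steps.bwd (nat_lit 15) Steps.nil)))) (nat_lit 41) (nat_lit 4)]
noncomputable def R_14 : List (Rule) := [Rule.mk (nat_lit 14) (nat_lit 78) (Steps.bwd (nat_lit 16) (Steps.fwd (nat_lit 155648) (Steps.bwd (nat_lit 15) (Steps.fwd (nat_lit 131072) Steps.nil)))) (nat_lit 40) (nat_lit 3),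
  Rule.mk (nat_lit 11) (nat_lit 94) (Steps.bwd (nat_lit 15) (Steps.fwd (nat_lit 90112) (Steps.bwd (nat_lit 14) (Steps.bwd (nat_lit 18) (Steps.fwd (nat_lit 155648) Steps.nil))))) (nat_lit 32) (nat_lit 1),
  Rule.mk (nat_lit 14) (nat_lit 94) (Steps.fwd (nat_lit 90112) (Steps.fwd (nat_lit 147456) (Steps.bwd (nat_lit 19) (Steps.bwd (nat_lit 15) (Steps.bwd (nat_lit 11) Steps.nil))))) (nat_lit 33) (nat_lit 5),
  Rule.mk (nat_lit 17) (nat_lit 94) (Steps.fwd (nat_lit 90112) (Steps.bwd (nat_lit 16) (Steps.bwd (nat_lit 19) (Steps.fwd (nat_lit 147456) (Steps.bwd (nat_lit 11) Steps.nil))))) (nat_lit 34) (nat_lit 2),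
  Rule.mk (nat_lit 11) (nat_lit 94) (Steps.bwd (nat_lit 14) (Steps.fwd (nat_lit 90112) (Steps.fwd (nat_lit 147456) (Steps.bwd (nat_lit 19) (Steps.bwd (nat_lit 15) Steps.nil))))) (nat_lit 33) (nat_lit 4),
  Rule.mk (nat_lit 12) (nat_lit 62) (Steps.fwd (nat_lit 155648) (Steps.bwd (nat_lit 13) (Steps.bwd (nat_lit 19) Steps.nil))) (nat_lit 26) (nat_lit 3),
  Rule.mk (nat_lit 3) (nat_lit 62) (Steps.bwd (nat_lit 5) (Steps.fwd (nat_lit 24576) (Steps.bwd (nat_lit 17) Steps.nil))) (nat_lit 17) (nat_lit 1),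
  Rule.mk (nat_lit 4) (nat_lit 126) (Steps.bwd (nat_lit 13) (Steps.bwd (nat_lit 3) (Steps.bwd (nat_lit 12) (Steps.bwd (nat_lit 14) (Steps.bwd (nat_lit 17) (Steps.fwd (nat_lit 81920) (Steps.bwd (nat_lit 17) Steps.nil))))))) (nat_lit 51) (nat_lit 6),
  Rule.mk (nat_lit 14) (nat_lit 126) (Steps.bwd (nat_lit 3) (Steps.bwd (nat_lit 14) (Steps.bwd (nat_lit 14) (Steps.fwd (nat_lit 131072) (Steps.bwd (nat_lit 11) (Steps.fwd (nat_lit 81920) (Steps.bwd (nat_lit 4) Steps.nil))))))) (nat_lit 52) (nat_lit 2),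
  Rule.mk (nat_lit 14) (nat_lit 126) (Steps.bwd (nat_lit 14) (Steps.fwd (nat_lit 131072) (Steps.fwd (nat_lit 81920) (Steps.fwd (nat_lit 81920) (Steps.bwd (nat_lit 4) (Steps.fwd (nat_lit 122880) (Steps.bwd (nat_lit 3) Steps.nil))))))) (nat_lit 52) (nat_lit 4),
  Rule.mk (nat_lit 4) (nat_lit 62) (Steps.fwd (nat_lit 40960) (Steps.bwd (nat_lit 3) (Steps.bwd (nat_lit 14) Steps.nil))) (nat_lit 14) (nat_lit 2),
  Rule.mk (nat_lit 1) (nat_lit 110) (Steps.bwd (nat_lit 17) (Steps.bwd (nat_lit 11) (Steps.fwd (nat_lit 122880) (Steps.bwd (nat_lit 14) (Steps.bwd (nat_lit 2) (Steps.bwd (nat_lit 14) Steps.nil)))))) (nat_lit 44) (nat_lit 3),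
  Rule.mk (nat_lit 2) (nat_lit 78) (Steps.bwd (nat_lit 18) (Steps.bwd (nat_lit 1) (Steps.bwd (nat_lit 19) (Steps.bwd (nat_lit 19) Steps.nil)))) (nat_lit 48) (nat_lit 1),
  Rule.mk (nat_lit 3) (nat_lit 126) (Steps.fwd (nat_lit 16384) (Steps.fwd (nat_lit 32768) (Steps.bwd (nat_lit 1) (Steps.fwd (nat_lit 32768) (Steps.bwd (nat_lit 1) (Steps.fwd (nat_lit 32768) (Steps.bwd (nat_lit 1) Steps.nil))))))) (nat_lit 4) (nat_lit 0),
  Rule.mk (nat_lit 4) (nat_lit 62) (Steps.fwd (nat_lit 57344) (Steps.bwd (nat_lit 3) (Steps.fwd (nat_lit 65536) Steps.nil))) (nat_lit 80) (nat_lit 1),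
  Rule.mk (nat_lit 4) (nat_lit 94) (Steps.fwd (nat_lit 16384) (Steps.bwd (nat_lit 1) (Steps.bwd (nat_lit 3) (Steps.bwd (nat_lit 2) (Steps.fwd (nat_lit 8192) Steps.nil))))) (nat_lit 6) (nat_lit 3),
  Rule.mk (nat_lit 4) (nat_lit 94) (Steps.bwd (nat_lit 2) (Steps.fwd (nat_lit 8192) (Steps.bwd (nat_lit 3) (Steps.fwd (nat_lit 16384) (Steps.fwd (nat_lit 16384) Steps.nil))))) (nat_lit 7) (nat_lit 1),
  Rule.mk (nat_lit 3) (nat_lit 62) (Steps.fwd (nat_lit 65536) (Steps.bwd (nat_lit 4) (Steps.fwd (nat_lit 57344) Steps.nil))) (nat_lit 80) (nat_lit 3),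
  Rule.mk (nat_lit 3) (nat_lit 62) (Steps.bwd (nat_lit 8) (Steps.bwd (nat_lit 4) (Steps.bwd (nat_lit 7) Steps.nil))) (nat_lit 81) (nat_lit 0),
  Rule.mk (nat_lit 3) (nat_lit 94) (Steps.bwd (nat_lit 2) (Steps.bwd (nat_lit 2) (Steps.bwd (nat_lit 4) (Steps.fwd (nat_lit 16384) (Steps.fwd (nat_lit 16384) Steps.nil))))) (nat_lit 6) (nat_lit 0),
  Rule.mk (nat_lit 3) (nat_lit 78) (Steps.bwd (nat_lit 3) (Steps.bwd (nat_lit 3) (Steps.bwd (nat_lit 3) (Steps.fwd (nat_lit 32768) Steps.nil)))) (nat_lit 2) (nat_lit 0),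
  Rule.mk (nat_lit 9) (nat_lit 286) (Steps.fwd (nat_lit 57344) (Steps.fwd (nat_lit 81920) (Steps.bwd (nat_lit 8) (Steps.bwd (nat_lit 3) (Steps.fwd (nat_lit 8192) (Steps.fwd (nat_lit 24576) (Steps.fwd (nat_lit 81920) (Steps.bwd (nat_lit 8) (Steps.fwd (nat_lit 8192) (Steps.bwd (nat_lit 11) (Steps.fwd (nat_lit 16384) (Steps.bwd (nat_lit 11) (Steps.bwd (nat_lit 2) (Steps.bwd (nat_lit 10) (Steps.bwd (nat_lit 1) (Steps.bwd (nat_lit 3) (Steps.bwd (nat_lit 3) Steps.nil))))))))))))))))) (nat_lit 56) (nat_lit 1),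
  Rule.mk (nat_lit 16) (nat_lit 62) (Steps.bwd (nat_lit 3) (Steps.fwd (nat_lit 40960) (Steps.fwd (nat_lit 24576) Steps.nil))) (nat_lit 16) (nat_lit 1),
  Rule.mk (nat_lit 4) (nat_lit 62) (Steps.fwd (nat_lit 147456) (Steps.bwd (nat_lit 3) (Steps.fwd (nat_lit 155648) Steps.nil))) (nat_lit 55) (nat_lit 2),
  Rule.mk (nat_lit 18) (nat_lit 78) (Steps.bwd (nat_lit 18) (Steps.fwd (nat_lit 155648) (Steps.bwd (nat_lit 18) (Steps.fwd (nat_lit 155648) Steps.nil)))) (nat_lit 22) (nat_lit 0),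
  Rule.mk (nat_lit 0) (nat_lit 94) (Steps.fwd (nat_lit 98304) (Steps.fwd (nat_lit 122880) (Steps.bwd (nat_lit 12) (Steps.fwd (nat_lit 147456) (Steps.fwd (nat_lit 114688) Steps.nil))))) (nat_lit 37) (nat_lit 2),
  Rule.mk (nat_lit 12) (nat_lit 46) (Steps.bwd (nat_lit 0) (Steps.fwd (nat_lit 98304) Steps.nil)) (nat_lit 88) (nat_lit 0),
  Rule.mk (nat_lit 1) (nat_lit 62) (Steps.bwd (nat_lit 12) (Steps.fwd (nat_lit 8192) (Steps.fwd (nat_lit 40960) Steps.nil))) (nat_lit 12) (nat_lit 0),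
  Rule.mk (nat_lit 0) (nat_lit 78) (Steps.bwd (nat_lit 19) (Steps.bwd (nat_lit 12) (Steps.fwd (nat_lit 155648) (Steps.bwd (nat_lit 13) Steps.nil)))) (nat_lit 26) (nat_lit 1),
  Rule.mk (nat_lit 13) (nat_lit 62) (Steps.fwd (nat_lit 155648) (Steps.bwd (nat_lit 12) (Steps.fwd (nat_lit 147456) Steps.nil))) (nat_lit 27) (nat_lit 2),
  Rule.mk (nat_lit 2) (nat_lit 62) (Steps.fwd (nat_lit 49152) (Steps.fwd (nat_lit 16384) (Steps.bwd (nat_lit 13) Steps.nil))) (nat_lit 13) (nat_lit 1),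
  Rule.mk (nat_lit 1) (nat_lit 78) (Steps.bwd (nat_lit 19) (Steps.bwd (nat_lit 19) (Steps.bwd (nat_lit 2) (Steps.bwd (nat_lit 18) Steps.nil)))) (nat_lit 48) (nat_lit 3),
  Rule.mk (nat_lit 14) (nat_lit 78) (Steps.fwd (nat_lit 147456) (Steps.bwd (nat_lit 17) (Steps.bwd (nat_lit 15) (Steps.bwd (nat_lit 16) Steps.nil)))) (nat_lit 41) (nat_lit 0),
  Rule.mk (nat_lit 15) (nat_lit 62) (Steps.fwd (nat_lit 147456) (Steps.bwd (nat_lit 14) (Steps.bwd (nat_lit 18) Steps.nil))) (nat_lit 28) (nat_lit 1),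
  Rule.mk (nat_lit 5) (nat_lit 62) (Steps.bwd (nat_lit 4) (Steps.fwd (nat_lit 131072) (Steps.fwd (nat_lit 32768) Steps.nil))) (nat_lit 17) (nat_lit 2),
  Rule.mk (nat_lit 13) (nat_lit 62) (Steps.fwd (nat_lit 139264) (Steps.bwd (nat_lit 12) (Steps.bwd (nat_lit 17) Steps.nil))) (nat_lit 39) (nat_lit 2),
  Rule.mk (nat_lit 3) (nat_lit 62) (Steps.bwd (nat_lit 18) (Steps.bwd (nat_lit 4) (Steps.fwd (nat_lit 147456) Steps.nil))) (nat_lit 55) (nat_lit 0),
  Rule.mk (nat_lit 6) (nat_lit 62) (Steps.fwd (nat_lit 24576) (Steps.bwd (nat_lit 16) (Steps.bwd (nat_lit 3) Steps.nil))) (nat_lit 16) (nat_lit 3),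
  Rule.mk (nat_lit 17) (nat_lit 78) (Steps.bwd (nat_lit 14) (Steps.fwd (nat_lit 139264) (Steps.fwd (nat_lit 155648) (Steps.fwd (nat_lit 114688) Steps.nil)))) (nat_lit 40) (nat_lit 2),
  Rule.mk (nat_lit 11) (nat_lit 94) (Steps.bwd (nat_lit 14) (Steps.bwd (nat_lit 10) (Steps.fwd (nat_lit 147456) (Steps.fwd (nat_lit 147456) (Steps.fwd (nat_lit 114688) Steps.nil))))) (nat_lit 33) (nat_lit 4),
  Rule.mk (nat_lit 16) (nat_lit 94) (Steps.bwd (nat_lit 10) (Steps.bwd (nat_lit 18) (Steps.fwd (nat_lit 155648) (Steps.bwd (nat_lit 17) (Steps.bwd (nat_lit 11) Steps.nil))))) (nat_lit 35) (nat_lit 5),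
  Rule.mk (nat_lit 19) (nat_lit 62) (Steps.fwd (nat_lit 98304) (Steps.fwd (nat_lit 155648) (Steps.bwd (nat_lit 12) Steps.nil))) (nat_lit 27) (nat_lit 1),
  Rule.mk (nat_lit 15) (nat_lit 78) (Steps.bwd (nat_lit 17) (Steps.fwd (nat_lit 122880) (Steps.bwd (nat_lit 16) (Steps.fwd (nat_lit 155648) Steps.nil)))) (nat_lit 40) (nat_lit 1),
  Rule.mk (nat_lit 2) (nat_lit 142) (Steps.bwd (nat_lit 17) (Steps.fwd (nat_lit 16384) (Steps.bwd (nat_lit 10) (Steps.fwd (nat_lit 98304) (Steps.bwd (nat_lit 15) (Steps.bwd (nat_lit 16) (Steps.fwd (nat_lit 90112) (Steps.fwd (nat_lit 139264) Steps.nil)))))))) (nat_lit 47) (nat_lit 7),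
  Rule.mk (nat_lit 14) (nat_lit 94) (Steps.bwd (nat_lit 10) (Steps.fwd (nat_lit 147456) (Steps.fwd (nat_lit 147456) (Steps.fwd (nat_lit 114688) (Steps.fwd (nat_lit 81920) Steps.nil))))) (nat_lit 33) (nat_lit 5),
  Rule.mk (nat_lit 3) (nat_lit 126) (Steps.bwd (nat_lit 10) (Steps.fwd (nat_lit 90112) (Steps.bwd (nat_lit 16) (Steps.fwd (nat_lit 114688) (Steps.fwd (nat_lit 114688) (Steps.bwd (nat_lit 4) (Steps.bwd (nat_lit 15) Steps.nil))))))) (nat_lit 53) (nat_lit 0),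
  Rule.mk (nat_lit 1) (nat_lit 62) (Steps.fwd (nat_lit 106496) (Steps.bwd (nat_lit 2) (Steps.bwd (nat_lit 6) Steps.nil))) (nat_lit 12) (nat_lit 0),
  Rule.mk (nat_lit 13) (nat_lit 62) (Steps.bwd (nat_lit 2) (Steps.fwd (nat_lit 49152) (Steps.fwd (nat_lit 16384) Steps.nil))) (nat_lit 13) (nat_lit 0),
  Rule.mk (nat_lit 14) (nat_lit 110) (Steps.bwd (nat_lit 2) (Steps.bwd (nat_lit 14) (Steps.bwd (nat_lit 1) (Steps.bwd (nat_lit 17) (Steps.bwd (nat_lit 11) (Steps.fwd (nat_lit 122880) Steps.nil)))))) (nat_lit 44) (nat_lit 0),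
  Rule.mk (nat_lit 14) (nat_lit 110) (Steps.bwd (nat_lit 2) (Steps.fwd (nat_lit 122880) (Steps.fwd (nat_lit 16384) (Steps.fwd (nat_lit 131072) (Steps.fwd (nat_lit 81920) (Steps.bwd (nat_lit 14) Steps.nil)))))) (nat_lit 44) (nat_lit 0),
  Rule.mk (nat_lit 16) (nat_lit 94) (Steps.fwd (nat_lit 90112) (Steps.bwd (nat_lit 18) (Steps.bwd (nat_lit 18) (Steps.fwd (nat_lit 131072) (Steps.bwd (nat_lit 11) Steps.nil))))) (nat_lit 35) (nat_lit 5),
  Rule.mk (nat_lit 14) (nat_lit 78) (Steps.bwd (nat_lit 19) (Steps.bwd (nat_lit 17) (Steps.fwd (nat_lit 114688) (Steps.fwd (nat_lit 139264) Steps.nil)))) (nat_lit 41) (nat_lit 0),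
  Rule.mk (nat_lit 5) (nat_lit 62) (Steps.bwd (nat_lit 3) (Steps.fwd (nat_lit 114688) (Steps.fwd (nat_lit 24576) Steps.nil))) (nat_lit 15) (nat_lit 2),
  Rule.mk (nat_lit 2) (nat_lit 142) (Steps.fwd (nat_lit 131072) (Steps.bwd (nat_lit 1) (Steps.bwd (nat_lit 10) (Steps.fwd (nat_lit 98304) (Steps.bwd (nat_lit 15) (Steps.bwd (nat_lit 16) (Steps.fwd (nat_lit 90112) (Steps.fwd (nat_lit 139264) Steps.nil)))))))) (nat_lit 47) (nat_lit 7),
  Rule.mk (nat_lit 10) (nat_lit 78) (Steps.fwd (nat_lit 90112) (Steps.bwd (nat_lit 10) (Steps.bwd (nat_lit 10) (Steps.bwd (nat_lit 10) Steps.nil)))) (nat_lit 20) (nat_lit 0),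
  Rule.mk (nat_lit 17) (nat_lit 94) (Steps.bwd (nat_lit 10) (Steps.fwd (nat_lit 139264) (Steps.fwd (nat_lit 147456) (Steps.bwd (nat_lit 19) (Steps.fwd (nat_lit 81920) Steps.nil))))) (nat_lit 34) (nat_lit 2),
  Rule.mk (nat_lit 11) (nat_lit 62) (Steps.fwd (nat_lit 147456) (Steps.bwd (nat_lit 10) (Steps.fwd (nat_lit 155648) Steps.nil))) (nat_lit 24) (nat_lit 1),
  Rule.mk (nat_lit 4) (nat_lit 62) (Steps.bwd (nat_lit 5) (Steps.fwd (nat_lit 32768) (Steps.fwd (nat_lit 114688) Steps.nil))) (nat_lit 15) (nat_lit 1),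
  Rule.mk (nat_lit 15) (nat_lit 78) (Steps.bwd (nat_lit 12) (Steps.bwd (nat_lit 14) (Steps.fwd (nat_lit 155648) (Steps.fwd (nat_lit 98304) Steps.nil)))) (nat_lit 36) (nat_lit 2),
  Rule.mk (nat_lit 3) (nat_lit 126) (Steps.bwd (nat_lit 12) (Steps.bwd (nat_lit 14) (Steps.bwd (nat_lit 17) (Steps.bwd (nat_lit 11) (Steps.fwd (nat_lit 131072) (Steps.bwd (nat_lit 4) (Steps.bwd (nat_lit 13) Steps.nil))))))) (nat_lit 51) (nat_lit 0),
  Rule.mk (nat_lit 16) (nat_lit 78) (Steps.fwd (nat_lit 122880) (Steps.fwd (nat_lit 147456) (Steps.fwd (nat_lit 131072) (Steps.bwd (nat_lit 15) Steps.nil)))) (nat_lit 41) (nat_lit 4),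
  Rule.mk (nat_lit 16) (nat_lit 126) (Steps.bwd (nat_lit 15) (Steps.bwd (nat_lit 13) (Steps.fwd (nat_lit 24576) (Steps.bwd (nat_lit 12) (Steps.bwd (nat_lit 3) (Steps.fwd (nat_lit 139264) (Steps.bwd (nat_lit 10) Steps.nil))))))) (nat_lit 50) (nat_lit 6),
  Rule.mk (nat_lit 11) (nat_lit 94) (Steps.bwd (nat_lit 17) (Steps.fwd (nat_lit 90112) (Steps.fwd (nat_lit 139264) (Steps.bwd (nat_lit 19) (Steps.bwd (nat_lit 19) Steps.nil))))) (nat_lit 34) (nat_lit 1),
  Rule.mk (nat_lit 13) (nat_lit 78) (Steps.bwd (nat_lit 10) (Steps.fwd (nat_lit 106496) (Steps.bwd (nat_lit 19) (Steps.bwd (nat_lit 11) Steps.nil)))) (nat_lit 19) (nat_lit 2)]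
noncomputable def R_15 : List (Rule) := [Rule.mk (nat_lit 17) (nat_lit 62) (Steps.fwd (nat_lit 106496) (Steps.fwd (nat_lit 139264) (Steps.bwd (nat_lit 13) Steps.nil))) (nat_lit 38) (nat_lit 2),
  Rule.mk (nat_lit 17) (nat_lit 62) (Steps.fwd (nat_lit 98304) (Steps.bwd (nat_lit 16) (Steps.bwd (nat_lit 12) Steps.nil))) (nat_lit 39) (nat_lit 1),
  Rule.mk (nat_lit 16) (nat_lit 94) (Steps.bwd (nat_lit 10) (Steps.fwd (nat_lit 155648) (Steps.bwd (nat_lit 18) (Steps.bwd (nat_lit 17) (Steps.bwd (nat_lit 11) Steps.nil))))) (nat_lit 35) (nat_lit 5),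
  Rule.mk (nat_lit 4) (nat_lit 126) (Steps.fwd (nat_lit 106496) (Steps.bwd (nat_lit 3) (Steps.bwd (nat_lit 16) (Steps.bwd (nat_lit 10) (Steps.bwd (nat_lit 16) (Steps.fwd (nat_lit 114688) (Steps.fwd (nat_lit 98304) Steps.nil))))))) (nat_lit 50) (nat_lit 1),
  Rule.mk (nat_lit 3) (nat_lit 62) (Steps.bwd (nat_lit 15) (Steps.bwd (nat_lit 4) (Steps.fwd (nat_lit 49152) Steps.nil))) (nat_lit 15) (nat_lit 3),
  Rule.mk (nat_lit 4) (nat_lit 62) (Steps.fwd (nat_lit 155648) (Steps.bwd (nat_lit 3) (Steps.fwd (nat_lit 147456) Steps.nil))) (nat_lit 54) (nat_lit 1),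
  Rule.mk (nat_lit 4) (nat_lit 62) (Steps.fwd (nat_lit 147456) (Steps.bwd (nat_lit 3) (Steps.bwd (nat_lit 18) Steps.nil))) (nat_lit 55) (nat_lit 2),
  Rule.mk (nat_lit 3) (nat_lit 78) (Steps.fwd (nat_lit 32768) (Steps.fwd (nat_lit 32768) (Steps.bwd (nat_lit 3) (Steps.fwd (nat_lit 32768) Steps.nil)))) (nat_lit 2) (nat_lit 0),
  Rule.mk (nat_lit 3) (nat_lit 62) (Steps.bwd (nat_lit 6) (Steps.bwd (nat_lit 4) (Steps.fwd (nat_lit 139264) Steps.nil))) (nat_lit 16) (nat_lit 2),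
  Rule.mk (nat_lit 4) (nat_lit 62) (Steps.fwd (nat_lit 139264) (Steps.bwd (nat_lit 3) (Steps.fwd (nat_lit 40960) Steps.nil))) (nat_lit 16) (nat_lit 0),
  Rule.mk (nat_lit 3) (nat_lit 62) (Steps.fwd (nat_lit 49152) (Steps.bwd (nat_lit 4) (Steps.fwd (nat_lit 131072) Steps.nil))) (nat_lit 17) (nat_lit 1),
  Rule.mk (nat_lit 10) (nat_lit 94) (Steps.bwd (nat_lit 18) (Steps.bwd (nat_lit 18) (Steps.fwd (nat_lit 131072) (Steps.bwd (nat_lit 11) (Steps.bwd (nat_lit 16) Steps.nil))))) (nat_lit 35) (nat_lit 0),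
  Rule.mk (nat_lit 11) (nat_lit 62) (Steps.fwd (nat_lit 147456) (Steps.bwd (nat_lit 10) (Steps.bwd (nat_lit 18) Steps.nil))) (nat_lit 24) (nat_lit 1),
  Rule.mk (nat_lit 10) (nat_lit 62) (Steps.fwd (nat_lit 147456) (Steps.bwd (nat_lit 11) (Steps.bwd (nat_lit 18) Steps.nil))) (nat_lit 25) (nat_lit 0),
  Rule.mk (nat_lit 11) (nat_lit 78) (Steps.bwd (nat_lit 11) (Steps.fwd (nat_lit 81920) (Steps.fwd (nat_lit 81920) (Steps.bwd (nat_lit 11) Steps.nil)))) (nat_lit 21) (nat_lit 0),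
  Rule.mk (nat_lit 2) (nat_lit 78) (Steps.fwd (nat_lit 98304) (Steps.bwd (nat_lit 1) (Steps.bwd (nat_lit 11) (Steps.bwd (nat_lit 11) Steps.nil)))) (nat_lit 43) (nat_lit 3),
  Rule.mk (nat_lit 14) (nat_lit 94) (Steps.bwd (nat_lit 10) (Steps.fwd (nat_lit 147456) (Steps.bwd (nat_lit 19) (Steps.fwd (nat_lit 114688) (Steps.bwd (nat_lit 11) Steps.nil))))) (nat_lit 33) (nat_lit 5),
  Rule.mk (nat_lit 4) (nat_lit 126) (Steps.bwd (nat_lit 14) (Steps.bwd (nat_lit 3) (Steps.bwd (nat_lit 14) (Steps.fwd (nat_lit 122880) (Steps.bwd (nat_lit 17) (Steps.fwd (nat_lit 81920) (Steps.fwd (nat_lit 81920) Steps.nil))))))) (nat_lit 52) (nat_lit 1),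
  Rule.mk (nat_lit 5) (nat_lit 62) (Steps.bwd (nat_lit 4) (Steps.bwd (nat_lit 17) (Steps.bwd (nat_lit 3) Steps.nil))) (nat_lit 17) (nat_lit 2),
  Rule.mk (nat_lit 4) (nat_lit 126) (Steps.bwd (nat_lit 14) (Steps.fwd (nat_lit 32768) (Steps.bwd (nat_lit 14) (Steps.bwd (nat_lit 14) (Steps.bwd (nat_lit 17) (Steps.bwd (nat_lit 11) (Steps.fwd (nat_lit 81920) Steps.nil))))))) (nat_lit 52) (nat_lit 1),
  Rule.mk (nat_lit 11) (nat_lit 94) (Steps.bwd (nat_lit 14) (Steps.bwd (nat_lit 10) (Steps.bwd (nat_lit 19) (Steps.fwd (nat_lit 147456) (Steps.bwd (nat_lit 15) Steps.nil))))) (nat_lit 33) (nat_lit 4),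
  Rule.mk (nat_lit 1) (nat_lit 142) (Steps.fwd (nat_lit 90112) (Steps.fwd (nat_lit 98304) (Steps.bwd (nat_lit 15) (Steps.bwd (nat_lit 16) (Steps.bwd (nat_lit 10) (Steps.fwd (nat_lit 139264) (Steps.fwd (nat_lit 8192) (Steps.bwd (nat_lit 17) Steps.nil)))))))) (nat_lit 47) (nat_lit 0),
  Rule.mk (nat_lit 12) (nat_lit 78) (Steps.bwd (nat_lit 1) (Steps.fwd (nat_lit 90112) (Steps.fwd (nat_lit 90112) (Steps.bwd (nat_lit 2) Steps.nil)))) (nat_lit 42) (nat_lit 2),
  Rule.mk (nat_lit 11) (nat_lit 78) (Steps.fwd (nat_lit 81920) (Steps.fwd (nat_lit 8192) (Steps.bwd (nat_lit 13) (Steps.bwd (nat_lit 1) Steps.nil)))) (nat_lit 43) (nat_lit 1),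
  Rule.mk (nat_lit 19) (nat_lit 78) (Steps.bwd (nat_lit 19) (Steps.fwd (nat_lit 8192) (Steps.fwd (nat_lit 155648) (Steps.fwd (nat_lit 16384) Steps.nil)))) (nat_lit 48) (nat_lit 4),
  Rule.mk (nat_lit 13) (nat_lit 78) (Steps.bwd (nat_lit 1) (Steps.bwd (nat_lit 11) (Steps.fwd (nat_lit 81920) (Steps.bwd (nat_lit 2) Steps.nil)))) (nat_lit 43) (nat_lit 4),
  Rule.mk (nat_lit 11) (nat_lit 78) (Steps.fwd (nat_lit 106496) (Steps.bwd (nat_lit 10) (Steps.bwd (nat_lit 18) (Steps.bwd (nat_lit 13) Steps.nil)))) (nat_lit 18) (nat_lit 3),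
  Rule.mk (nat_lit 4) (nat_lit 126) (Steps.fwd (nat_lit 106496) (Steps.fwd (nat_lit 32768) (Steps.bwd (nat_lit 16) (Steps.fwd (nat_lit 90112) (Steps.fwd (nat_lit 139264) (Steps.fwd (nat_lit 114688) (Steps.bwd (nat_lit 13) Steps.nil))))))) (nat_lit 50) (nat_lit 1),
  Rule.mk (nat_lit 11) (nat_lit 78) (Steps.bwd (nat_lit 11) (Steps.bwd (nat_lit 11) (Steps.bwd (nat_lit 11) (Steps.fwd (nat_lit 81920) Steps.nil)))) (nat_lit 21) (nat_lit 0),
  Rule.mk (nat_lit 0) (nat_lit 78) (Steps.bwd (nat_lit 3) (Steps.bwd (nat_lit 18) (Steps.bwd (nat_lit 4) (Steps.fwd (nat_lit 147456) Steps.nil)))) (nat_lit 55) (nat_lit 3),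
  Rule.mk (nat_lit 5) (nat_lit 46) (Steps.bwd (nat_lit 0) (Steps.fwd (nat_lit 40960) Steps.nil)) (nat_lit 88) (nat_lit 0),
  Rule.mk (nat_lit 10) (nat_lit 46) (Steps.bwd (nat_lit 0) (Steps.bwd (nat_lit 11) Steps.nil)) (nat_lit 88) (nat_lit 0),
  Rule.mk (nat_lit 17) (nat_lit 46) (Steps.bwd (nat_lit 0) (Steps.fwd (nat_lit 139264) Steps.nil)) (nat_lit 88) (nat_lit 0),
  Rule.mk (nat_lit 18) (nat_lit 46) (Steps.bwd (nat_lit 0) (Steps.fwd (nat_lit 147456) Steps.nil)) (nat_lit 88) (nat_lit 0),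
  Rule.mk (nat_lit 15) (nat_lit 78) (Steps.fwd (nat_lit 131072) (Steps.bwd (nat_lit 14) (Steps.bwd (nat_lit 16) (Steps.bwd (nat_lit 18) Steps.nil)))) (nat_lit 40) (nat_lit 1),
  Rule.mk (nat_lit 14) (nat_lit 78) (Steps.fwd (nat_lit 147456) (Steps.fwd (nat_lit 131072) (Steps.bwd (nat_lit 15) (Steps.bwd (nat_lit 16) Steps.nil)))) (nat_lit 41) (nat_lit 0),
  Rule.mk (nat_lit 4) (nat_lit 126) (Steps.bwd (nat_lit 13) (Steps.fwd (nat_lit 32768) (Steps.bwd (nat_lit 12) (Steps.fwd (nat_lit 122880) (Steps.bwd (nat_lit 17) (Steps.bwd (nat_lit 11) (Steps.fwd (nat_lit 131072) Steps.nil))))))) (nat_lit 51) (nat_lit 6),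
  Rule.mk (nat_lit 14) (nat_lit 126) (Steps.fwd (nat_lit 32768) (Steps.bwd (nat_lit 14) (Steps.fwd (nat_lit 122880) (Steps.fwd (nat_lit 131072) (Steps.fwd (nat_lit 81920) (Steps.bwd (nat_lit 11) (Steps.bwd (nat_lit 4) Steps.nil))))))) (nat_lit 52) (nat_lit 2),
  Rule.mk (nat_lit 2) (nat_lit 78) (Steps.bwd (nat_lit 18) (Steps.fwd (nat_lit 16384) (Steps.fwd (nat_lit 147456) (Steps.bwd (nat_lit 19) Steps.nil)))) (nat_lit 48) (nat_lit 1),
  Rule.mk (nat_lit 4) (nat_lit 126) (Steps.bwd (nat_lit 2) (Steps.bwd (nat_lit 4) (Steps.bwd (nat_lit 2) (Steps.fwd (nat_lit 24576) (Steps.bwd (nat_lit 2) (Steps.bwd (nat_lit 4) (Steps.bwd (nat_lit 2) Steps.nil))))))) (nat_lit 5) (nat_lit 1),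
  Rule.mk (nat_lit 18) (nat_lit 78) (Steps.bwd (nat_lit 2) (Steps.bwd (nat_lit 19) (Steps.bwd (nat_lit 1) (Steps.bwd (nat_lit 18) Steps.nil)))) (nat_lit 49) (nat_lit 2),
  Rule.mk (nat_lit 19) (nat_lit 78) (Steps.bwd (nat_lit 2) (Steps.fwd (nat_lit 155648) (Steps.bwd (nat_lit 1) (Steps.fwd (nat_lit 147456) Steps.nil)))) (nat_lit 48) (nat_lit 0),
  Rule.mk (nat_lit 1) (nat_lit 126) (Steps.fwd (nat_lit 32768) (Steps.bwd (nat_lit 1) (Steps.fwd (nat_lit 32768) (Steps.bwd (nat_lit 1) (Steps.bwd (nat_lit 3) (Steps.fwd (nat_lit 16384) (Steps.bwd (nat_lit 3) Steps.nil))))))) (nat_lit 4) (nat_lit 1),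
  Rule.mk (nat_lit 14) (nat_lit 110) (Steps.bwd (nat_lit 1) (Steps.fwd (nat_lit 131072) (Steps.bwd (nat_lit 11) (Steps.fwd (nat_lit 122880) (Steps.bwd (nat_lit 14) (Steps.fwd (nat_lit 8192) Steps.nil)))))) (nat_lit 44) (nat_lit 2),
  Rule.mk (nat_lit 1) (nat_lit 78) (Steps.bwd (nat_lit 19) (Steps.fwd (nat_lit 147456) (Steps.fwd (nat_lit 8192) (Steps.bwd (nat_lit 18) Steps.nil)))) (nat_lit 48) (nat_lit 3),
  Rule.mk (nat_lit 14) (nat_lit 110) (Steps.bwd (nat_lit 14) (Steps.bwd (nat_lit 2) (Steps.fwd (nat_lit 122880) (Steps.bwd (nat_lit 1) (Steps.fwd (nat_lit 131072) (Steps.bwd (nat_lit 11) Steps.nil)))))) (nat_lit 44) (nat_lit 6),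
  Rule.mk (nat_lit 16) (nat_lit 94) (Steps.fwd (nat_lit 147456) (Steps.fwd (nat_lit 147456) (Steps.bwd (nat_lit 11) (Steps.bwd (nat_lit 17) (Steps.bwd (nat_lit 10) Steps.nil))))) (nat_lit 34) (nat_lit 4),
  Rule.mk (nat_lit 4) (nat_lit 126) (Steps.fwd (nat_lit 114688) (Steps.fwd (nat_lit 32768) (Steps.bwd (nat_lit 10) (Steps.fwd (nat_lit 90112) (Steps.fwd (nat_lit 139264) (Steps.fwd (nat_lit 114688) (Steps.bwd (nat_lit 15) Steps.nil))))))) (nat_lit 53) (nat_lit 6),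
  Rule.mk (nat_lit 18) (nat_lit 62) (Steps.fwd (nat_lit 32768) (Steps.fwd (nat_lit 147456) (Steps.bwd (nat_lit 4) Steps.nil))) (nat_lit 54) (nat_lit 2),
  Rule.mk (nat_lit 1) (nat_lit 94) (Steps.bwd (nat_lit 3) (Steps.bwd (nat_lit 2) (Steps.bwd (nat_lit 2) (Steps.bwd (nat_lit 4) (Steps.bwd (nat_lit 1) Steps.nil))))) (nat_lit 6) (nat_lit 5),
  Rule.mk (nat_lit 0) (nat_lit 94) (Steps.bwd (nat_lit 1) (Steps.bwd (nat_lit 10) (Steps.fwd (nat_lit 90112) (Steps.fwd (nat_lit 8192) (Steps.bwd (nat_lit 12) Steps.nil))))) (nat_lit 42) (nat_lit 2),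
  Rule.mk (nat_lit 0) (nat_lit 62) (Steps.fwd (nat_lit 147456) (Steps.bwd (nat_lit 0) (Steps.bwd (nat_lit 18) Steps.nil))) (nat_lit 88) (nat_lit 0),
  Rule.mk (nat_lit 0) (nat_lit 62) (Steps.fwd (nat_lit 106496) (Steps.fwd (nat_lit 0) (Steps.bwd (nat_lit 13) Steps.nil))) (nat_lit 88) (nat_lit 0),
  Rule.mk (nat_lit 14) (nat_lit 46) (Steps.bwd (nat_lit 0) (Steps.bwd (nat_lit 15) Steps.nil)) (nat_lit 88) (nat_lit 0),
  Rule.mk (nat_lit 5) (nat_lit 46) (Steps.bwd (nat_lit 0) (Steps.bwd (nat_lit 6) Steps.nil)) (nat_lit 88) (nat_lit 0),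
  Rule.mk (nat_lit 10) (nat_lit 46) (Steps.bwd (nat_lit 0) (Steps.fwd (nat_lit 81920) Steps.nil)) (nat_lit 88) (nat_lit 0),
  Rule.mk (nat_lit 14) (nat_lit 46) (Steps.bwd (nat_lit 0) (Steps.fwd (nat_lit 114688) Steps.nil)) (nat_lit 88) (nat_lit 0),
  Rule.mk (nat_lit 15) (nat_lit 110) (Steps.fwd (nat_lit 16384) (Steps.bwd (nat_lit 15) (Steps.fwd (nat_lit 114688) (Steps.fwd (nat_lit 90112) (Steps.bwd (nat_lit 16) (Steps.bwd (nat_lit 2) Steps.nil)))))) (nat_lit 45) (nat_lit 6),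
  Rule.mk (nat_lit 15) (nat_lit 110) (Steps.bwd (nat_lit 15) (Steps.fwd (nat_lit 90112) (Steps.bwd (nat_lit 16) (Steps.fwd (nat_lit 8192) (Steps.bwd (nat_lit 15) (Steps.bwd (nat_lit 1) Steps.nil)))))) (nat_lit 45) (nat_lit 1),
  Rule.mk (nat_lit 5) (nat_lit 62) (Steps.fwd (nat_lit 32768) (Steps.bwd (nat_lit 15) (Steps.fwd (nat_lit 24576) Steps.nil))) (nat_lit 15) (nat_lit 2),
  Rule.mk (nat_lit 14) (nat_lit 94) (Steps.fwd (nat_lit 90112) (Steps.fwd (nat_lit 147456) (Steps.bwd (nat_lit 19) (Steps.fwd (nat_lit 114688) (Steps.bwd (nat_lit 11) Steps.nil))))) (nat_lit 33) (nat_lit 5),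
  Rule.mk (nat_lit 17) (nat_lit 126) (Steps.fwd (nat_lit 24576) (Steps.fwd (nat_lit 98304) (Steps.bwd (nat_lit 3) (Steps.fwd (nat_lit 106496) (Steps.bwd (nat_lit 14) (Steps.bwd (nat_lit 17) (Steps.bwd (nat_lit 11) Steps.nil))))))) (nat_lit 51) (nat_lit 5),
  Rule.mk (nat_lit 5) (nat_lit 62) (Steps.fwd (nat_lit 24576) (Steps.bwd (nat_lit 17) (Steps.bwd (nat_lit 3) Steps.nil))) (nat_lit 17) (nat_lit 2),
  Rule.mk (nat_lit 3) (nat_lit 62) (Steps.bwd (nat_lit 14) (Steps.fwd (nat_lit 24576) (Steps.fwd (nat_lit 40960) Steps.nil))) (nat_lit 14) (nat_lit 0)]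
noncomputable def R_16 : List (Rule) := [Rule.mk (nat_lit 2) (nat_lit 126) (Steps.bwd (nat_lit 4) (Steps.bwd (nat_lit 2) (Steps.fwd (nat_lit 24576) (Steps.fwd (nat_lit 8192) (Steps.bwd (nat_lit 4) (Steps.bwd (nat_lit 2) (Steps.bwd (nat_lit 4) Steps.nil))))))) (nat_lit 5) (nat_lit 0),
  Rule.mk (nat_lit 3) (nat_lit 94) (Steps.fwd (nat_lit 16384) (Steps.fwd (nat_lit 16384) (Steps.fwd (nat_lit 24576) (Steps.bwd (nat_lit 2) (Steps.fwd (nat_lit 8192) Steps.nil))))) (nat_lit 7) (nat_lit 4),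
  Rule.mk (nat_lit 3) (nat_lit 62) (Steps.fwd (nat_lit 147456) (Steps.bwd (nat_lit 4) (Steps.fwd (nat_lit 155648) Steps.nil))) (nat_lit 54) (nat_lit 3),
  Rule.mk (nat_lit 4) (nat_lit 126) (Steps.bwd (nat_lit 2) (Steps.bwd (nat_lit 4) (Steps.fwd (nat_lit 8192) (Steps.bwd (nat_lit 4) (Steps.bwd (nat_lit 2) (Steps.bwd (nat_lit 4) (Steps.bwd (nat_lit 2) Steps.nil))))))) (nat_lit 5) (nat_lit 1),
  Rule.mk (nat_lit 16) (nat_lit 62) (Steps.fwd (nat_lit 32768) (Steps.fwd (nat_lit 40960) (Steps.bwd (nat_lit 4) Steps.nil))) (nat_lit 16) (nat_lit 1),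
  Rule.mk (nat_lit 1) (nat_lit 62) (Steps.bwd (nat_lit 12) (Steps.bwd (nat_lit 2) (Steps.fwd (nat_lit 40960) Steps.nil))) (nat_lit 12) (nat_lit 0),
  Rule.mk (nat_lit 4) (nat_lit 94) (Steps.bwd (nat_lit 2) (Steps.bwd (nat_lit 2) (Steps.fwd (nat_lit 32768) (Steps.bwd (nat_lit 1) (Steps.bwd (nat_lit 1) Steps.nil))))) (nat_lit 7) (nat_lit 1),
  Rule.mk (nat_lit 4) (nat_lit 78) (Steps.bwd (nat_lit 4) (Steps.bwd (nat_lit 4) (Steps.fwd (nat_lit 24576) (Steps.bwd (nat_lit 4) Steps.nil)))) (nat_lit 3) (nat_lit 0),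
  Rule.mk (nat_lit 2) (nat_lit 94) (Steps.fwd (nat_lit 32768) (Steps.fwd (nat_lit 16384) (Steps.fwd (nat_lit 16384) (Steps.bwd (nat_lit 4) (Steps.bwd (nat_lit 2) Steps.nil))))) (nat_lit 7) (nat_lit 3),
  Rule.mk (nat_lit 13) (nat_lit 78) (Steps.fwd (nat_lit 122880) (Steps.bwd (nat_lit 12) (Steps.fwd (nat_lit 147456) (Steps.bwd (nat_lit 15) Steps.nil)))) (nat_lit 37) (nat_lit 3),
  Rule.mk (nat_lit 16) (nat_lit 126) (Steps.bwd (nat_lit 10) (Steps.bwd (nat_lit 16) (Steps.bwd (nat_lit 15) (Steps.bwd (nat_lit 13) (Steps.fwd (nat_lit 24576) (Steps.fwd (nat_lit 106496) (Steps.bwd (nat_lit 3) Steps.nil))))))) (nat_lit 50) (nat_lit 4),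
  Rule.mk (nat_lit 3) (nat_lit 78) (Steps.bwd (nat_lit 3) (Steps.fwd (nat_lit 32768) (Steps.fwd (nat_lit 32768) (Steps.bwd (nat_lit 3) Steps.nil)))) (nat_lit 2) (nat_lit 0),
  Rule.mk (nat_lit 14) (nat_lit 62) (Steps.bwd (nat_lit 4) (Steps.fwd (nat_lit 40960) (Steps.bwd (nat_lit 3) Steps.nil))) (nat_lit 14) (nat_lit 1),
  Rule.mk (nat_lit 1) (nat_lit 94) (Steps.bwd (nat_lit 1) (Steps.fwd (nat_lit 32768) (Steps.bwd (nat_lit 2) (Steps.bwd (nat_lit 2) (Steps.fwd (nat_lit 24576) Steps.nil))))) (nat_lit 6) (nat_lit 4),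
  Rule.mk (nat_lit 4) (nat_lit 94) (Steps.bwd (nat_lit 1) (Steps.fwd (nat_lit 16384) (Steps.fwd (nat_lit 32768) (Steps.fwd (nat_lit 8192) (Steps.fwd (nat_lit 8192) Steps.nil))))) (nat_lit 6) (nat_lit 3),
  Rule.mk (nat_lit 15) (nat_lit 110) (Steps.bwd (nat_lit 1) (Steps.fwd (nat_lit 114688) (Steps.fwd (nat_lit 114688) (Steps.bwd (nat_lit 10) (Steps.bwd (nat_lit 16) (Steps.fwd (nat_lit 8192) Steps.nil)))))) (nat_lit 45) (nat_lit 6),
  Rule.mk (nat_lit 17) (nat_lit 142) (Steps.bwd (nat_lit 1) (Steps.fwd (nat_lit 90112) (Steps.fwd (nat_lit 98304) (Steps.fwd (nat_lit 114688) (Steps.bwd (nat_lit 16) (Steps.fwd (nat_lit 90112) (Steps.fwd (nat_lit 139264) (Steps.fwd (nat_lit 8192) Steps.nil)))))))) (nat_lit 47) (nat_lit 8),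
  Rule.mk (nat_lit 14) (nat_lit 62) (Steps.fwd (nat_lit 147456) (Steps.bwd (nat_lit 15) (Steps.fwd (nat_lit 155648) Steps.nil))) (nat_lit 29) (nat_lit 0),
  Rule.mk (nat_lit 1) (nat_lit 110) (Steps.bwd (nat_lit 17) (Steps.bwd (nat_lit 11) (Steps.bwd (nat_lit 14) (Steps.bwd (nat_lit 14) (Steps.bwd (nat_lit 2) (Steps.bwd (nat_lit 14) Steps.nil)))))) (nat_lit 44) (nat_lit 3),
  Rule.mk (nat_lit 0) (nat_lit 94) (Steps.fwd (nat_lit 8192) (Steps.bwd (nat_lit 19) (Steps.bwd (nat_lit 1) (Steps.fwd (nat_lit 155648) (Steps.bwd (nat_lit 18) Steps.nil))))) (nat_lit 49) (nat_lit 2),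
  Rule.mk (nat_lit 1) (nat_lit 46) (Steps.bwd (nat_lit 0) (Steps.fwd (nat_lit 8192) Steps.nil)) (nat_lit 88) (nat_lit 0),
  Rule.mk (nat_lit 14) (nat_lit 78) (Steps.fwd (nat_lit 155648) (Steps.fwd (nat_lit 98304) (Steps.bwd (nat_lit 15) (Steps.fwd (nat_lit 106496) Steps.nil)))) (nat_lit 36) (nat_lit 4),
  Rule.mk (nat_lit 15) (nat_lit 62) (Steps.fwd (nat_lit 147456) (Steps.bwd (nat_lit 14) (Steps.fwd (nat_lit 155648) Steps.nil))) (nat_lit 28) (nat_lit 1),
  Rule.mk (nat_lit 15) (nat_lit 94) (Steps.bwd (nat_lit 11) (Steps.bwd (nat_lit 14) (Steps.bwd (nat_lit 10) (Steps.fwd (nat_lit 147456) (Steps.bwd (nat_lit 19) Steps.nil))))) (nat_lit 33) (nat_lit 3),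
  Rule.mk (nat_lit 13) (nat_lit 78) (Steps.fwd (nat_lit 122880) (Steps.fwd (nat_lit 106496) (Steps.bwd (nat_lit 19) (Steps.bwd (nat_lit 15) Steps.nil)))) (nat_lit 37) (nat_lit 3),
  Rule.mk (nat_lit 13) (nat_lit 126) (Steps.bwd (nat_lit 4) (Steps.bwd (nat_lit 12) (Steps.fwd (nat_lit 32768) (Steps.fwd (nat_lit 139264) (Steps.bwd (nat_lit 10) (Steps.bwd (nat_lit 16) (Steps.bwd (nat_lit 15) Steps.nil))))))) (nat_lit 50) (nat_lit 0),
  Rule.mk (nat_lit 14) (nat_lit 78) (Steps.bwd (nat_lit 12) (Steps.fwd (nat_lit 147456) (Steps.bwd (nat_lit 15) (Steps.bwd (nat_lit 13) Steps.nil)))) (nat_lit 37) (nat_lit 4),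
  Rule.mk (nat_lit 12) (nat_lit 126) (Steps.bwd (nat_lit 3) (Steps.fwd (nat_lit 139264) (Steps.fwd (nat_lit 90112) (Steps.bwd (nat_lit 16) (Steps.bwd (nat_lit 15) (Steps.fwd (nat_lit 98304) (Steps.bwd (nat_lit 4) Steps.nil))))))) (nat_lit 50) (nat_lit 2),
  Rule.mk (nat_lit 12) (nat_lit 78) (Steps.bwd (nat_lit 19) (Steps.bwd (nat_lit 15) (Steps.fwd (nat_lit 98304) (Steps.bwd (nat_lit 14) Steps.nil)))) (nat_lit 37) (nat_lit 0),
  Rule.mk (nat_lit 16) (nat_lit 62) (Steps.bwd (nat_lit 12) (Steps.fwd (nat_lit 131072) (Steps.fwd (nat_lit 98304) Steps.nil))) (nat_lit 39) (nat_lit 3),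
  Rule.mk (nat_lit 2) (nat_lit 110) (Steps.bwd (nat_lit 14) (Steps.fwd (nat_lit 16384) (Steps.bwd (nat_lit 17) (Steps.fwd (nat_lit 81920) (Steps.bwd (nat_lit 14) (Steps.fwd (nat_lit 122880) Steps.nil)))))) (nat_lit 44) (nat_lit 1),
  Rule.mk (nat_lit 11) (nat_lit 78) (Steps.bwd (nat_lit 12) (Steps.bwd (nat_lit 10) (Steps.fwd (nat_lit 155648) (Steps.bwd (nat_lit 13) Steps.nil)))) (nat_lit 18) (nat_lit 3),
  Rule.mk (nat_lit 13) (nat_lit 78) (Steps.bwd (nat_lit 15) (Steps.bwd (nat_lit 12) (Steps.fwd (nat_lit 122880) (Steps.fwd (nat_lit 155648) Steps.nil)))) (nat_lit 36) (nat_lit 1),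
  Rule.mk (nat_lit 14) (nat_lit 78) (Steps.bwd (nat_lit 12) (Steps.bwd (nat_lit 19) (Steps.fwd (nat_lit 114688) (Steps.bwd (nat_lit 13) Steps.nil)))) (nat_lit 37) (nat_lit 4),
  Rule.mk (nat_lit 13) (nat_lit 78) (Steps.bwd (nat_lit 10) (Steps.fwd (nat_lit 106496) (Steps.fwd (nat_lit 147456) (Steps.fwd (nat_lit 81920) Steps.nil)))) (nat_lit 19) (nat_lit 2),
  Rule.mk (nat_lit 15) (nat_lit 78) (Steps.fwd (nat_lit 106496) (Steps.fwd (nat_lit 122880) (Steps.bwd (nat_lit 18) (Steps.bwd (nat_lit 13) Steps.nil)))) (nat_lit 36) (nat_lit 2),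
  Rule.mk (nat_lit 11) (nat_lit 94) (Steps.fwd (nat_lit 139264) (Steps.fwd (nat_lit 90112) (Steps.bwd (nat_lit 18) (Steps.bwd (nat_lit 18) (Steps.bwd (nat_lit 17) Steps.nil))))) (nat_lit 35) (nat_lit 4),
  Rule.mk (nat_lit 14) (nat_lit 110) (Steps.bwd (nat_lit 1) (Steps.bwd (nat_lit 17) (Steps.bwd (nat_lit 11) (Steps.bwd (nat_lit 14) (Steps.fwd (nat_lit 122880) (Steps.bwd (nat_lit 2) Steps.nil)))))) (nat_lit 44) (nat_lit 2),
  Rule.mk (nat_lit 2) (nat_lit 142) (Steps.bwd (nat_lit 16) (Steps.bwd (nat_lit 1) (Steps.bwd (nat_lit 17) (Steps.bwd (nat_lit 11) (Steps.fwd (nat_lit 131072) (Steps.fwd (nat_lit 122880) (Steps.fwd (nat_lit 106496) (Steps.fwd (nat_lit 81920) Steps.nil)))))))) (nat_lit 46) (nat_lit 1),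
  Rule.mk (nat_lit 13) (nat_lit 78) (Steps.fwd (nat_lit 16384) (Steps.bwd (nat_lit 11) (Steps.fwd (nat_lit 81920) (Steps.bwd (nat_lit 2) Steps.nil)))) (nat_lit 43) (nat_lit 4),
  Rule.mk (nat_lit 2) (nat_lit 94) (Steps.bwd (nat_lit 4) (Steps.fwd (nat_lit 16384) (Steps.fwd (nat_lit 16384) (Steps.fwd (nat_lit 32768) (Steps.bwd (nat_lit 2) Steps.nil))))) (nat_lit 6) (nat_lit 2),
  Rule.mk (nat_lit 14) (nat_lit 78) (Steps.bwd (nat_lit 19) (Steps.bwd (nat_lit 17) (Steps.bwd (nat_lit 15) (Steps.bwd (nat_lit 16) Steps.nil)))) (nat_lit 41) (nat_lit 0),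
  Rule.mk (nat_lit 15) (nat_lit 78) (Steps.bwd (nat_lit 17) (Steps.fwd (nat_lit 122880) (Steps.bwd (nat_lit 16) (Steps.bwd (nat_lit 18) Steps.nil)))) (nat_lit 40) (nat_lit 1),
  Rule.mk (nat_lit 11) (nat_lit 94) (Steps.bwd (nat_lit 17) (Steps.fwd (nat_lit 90112) (Steps.bwd (nat_lit 16) (Steps.bwd (nat_lit 19) (Steps.fwd (nat_lit 147456) Steps.nil))))) (nat_lit 34) (nat_lit 1),
  Rule.mk (nat_lit 1) (nat_lit 78) (Steps.fwd (nat_lit 155648) (Steps.bwd (nat_lit 18) (Steps.bwd (nat_lit 2) (Steps.fwd (nat_lit 147456) Steps.nil)))) (nat_lit 49) (nat_lit 0),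
  Rule.mk (nat_lit 2) (nat_lit 78) (Steps.fwd (nat_lit 155648) (Steps.bwd (nat_lit 1) (Steps.fwd (nat_lit 147456) (Steps.bwd (nat_lit 19) Steps.nil)))) (nat_lit 48) (nat_lit 1),
  Rule.mk (nat_lit 17) (nat_lit 94) (Steps.bwd (nat_lit 10) (Steps.fwd (nat_lit 139264) (Steps.bwd (nat_lit 19) (Steps.fwd (nat_lit 147456) (Steps.bwd (nat_lit 11) Steps.nil))))) (nat_lit 34) (nat_lit 2),
  Rule.mk (nat_lit 17) (nat_lit 94) (Steps.bwd (nat_lit 11) (Steps.bwd (nat_lit 16) (Steps.bwd (nat_lit 10) (Steps.bwd (nat_lit 18) (Steps.bwd (nat_lit 18) Steps.nil))))) (nat_lit 35) (nat_lit 3),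
  Rule.mk (nat_lit 3) (nat_lit 126) (Steps.bwd (nat_lit 10) (Steps.bwd (nat_lit 10) (Steps.fwd (nat_lit 139264) (Steps.bwd (nat_lit 15) (Steps.bwd (nat_lit 15) (Steps.bwd (nat_lit 4) (Steps.bwd (nat_lit 15) Steps.nil))))))) (nat_lit 53) (nat_lit 0),
  Rule.mk (nat_lit 1) (nat_lit 94) (Steps.fwd (nat_lit 16384) (Steps.bwd (nat_lit 4) (Steps.bwd (nat_lit 2) (Steps.fwd (nat_lit 8192) (Steps.bwd (nat_lit 3) Steps.nil))))) (nat_lit 7) (nat_lit 5),
  Rule.mk (nat_lit 3) (nat_lit 78) (Steps.fwd (nat_lit 32768) (Steps.fwd (nat_lit 32768) (Steps.bwd (nat_lit 3) (Steps.bwd (nat_lit 3) Steps.nil)))) (nat_lit 2) (nat_lit 0),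
  Rule.mk (nat_lit 18) (nat_lit 94) (Steps.bwd (nat_lit 17) (Steps.bwd (nat_lit 11) (Steps.fwd (nat_lit 139264) (Steps.bwd (nat_lit 10) (Steps.bwd (nat_lit 18) Steps.nil))))) (nat_lit 35) (nat_lit 2),
  Rule.mk (nat_lit 16) (nat_lit 62) (Steps.fwd (nat_lit 147456) (Steps.fwd (nat_lit 131072) (Steps.bwd (nat_lit 18) Steps.nil))) (nat_lit 31) (nat_lit 0),
  Rule.mk (nat_lit 2) (nat_lit 110) (Steps.bwd (nat_lit 14) (Steps.fwd (nat_lit 16384) (Steps.fwd (nat_lit 131072) (Steps.bwd (nat_lit 11) (Steps.fwd (nat_lit 122880) (Steps.bwd (nat_lit 14) Steps.nil)))))) (nat_lit 44) (nat_lit 1),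
  Rule.mk (nat_lit 3) (nat_lit 126) (Steps.bwd (nat_lit 14) (Steps.bwd (nat_lit 14) (Steps.fwd (nat_lit 131072) (Steps.bwd (nat_lit 11) (Steps.bwd (nat_lit 11) (Steps.bwd (nat_lit 4) (Steps.fwd (nat_lit 122880) Steps.nil))))))) (nat_lit 52) (nat_lit 3),
  Rule.mk (nat_lit 2) (nat_lit 94) (Steps.bwd (nat_lit 3) (Steps.fwd (nat_lit 16384) (Steps.fwd (nat_lit 16384) (Steps.bwd (nat_lit 4) (Steps.fwd (nat_lit 8192) Steps.nil))))) (nat_lit 7) (nat_lit 3),
  Rule.mk (nat_lit 1) (nat_lit 78) (Steps.bwd (nat_lit 18) (Steps.fwd (nat_lit 155648) (Steps.bwd (nat_lit 2) (Steps.bwd (nat_lit 19) Steps.nil)))) (nat_lit 49) (nat_lit 0),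
  Rule.mk (nat_lit 2) (nat_lit 94) (Steps.bwd (nat_lit 2) (Steps.bwd (nat_lit 4) (Steps.bwd (nat_lit 1) (Steps.fwd (nat_lit 16384) (Steps.bwd (nat_lit 3) Steps.nil))))) (nat_lit 6) (nat_lit 1),
  Rule.mk (nat_lit 1) (nat_lit 62) (Steps.fwd (nat_lit 106496) (Steps.bwd (nat_lit 2) (Steps.fwd (nat_lit 40960) Steps.nil))) (nat_lit 12) (nat_lit 0),
  Rule.mk (nat_lit 1) (nat_lit 94) (Steps.fwd (nat_lit 24576) (Steps.bwd (nat_lit 2) (Steps.bwd (nat_lit 2) (Steps.bwd (nat_lit 3) (Steps.bwd (nat_lit 1) Steps.nil))))) (nat_lit 7) (nat_lit 0),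
  Rule.mk (nat_lit 2) (nat_lit 126) (Steps.fwd (nat_lit 8192) (Steps.bwd (nat_lit 2) (Steps.bwd (nat_lit 2) (Steps.bwd (nat_lit 2) (Steps.fwd (nat_lit 8192) (Steps.bwd (nat_lit 2) (Steps.fwd (nat_lit 8192) Steps.nil))))))) (nat_lit 1) (nat_lit 0),
  Rule.mk (nat_lit 1) (nat_lit 78) (Steps.fwd (nat_lit 81920) (Steps.fwd (nat_lit 81920) (Steps.bwd (nat_lit 2) (Steps.fwd (nat_lit 98304) Steps.nil)))) (nat_lit 43) (nat_lit 0),
  Rule.mk (nat_lit 2) (nat_lit 78) (Steps.fwd (nat_lit 106496) (Steps.bwd (nat_lit 1) (Steps.bwd (nat_lit 10) (Steps.bwd (nat_lit 10) Steps.nil)))) (nat_lit 42) (nat_lit 1),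
  Rule.mk (nat_lit 11) (nat_lit 78) (Steps.bwd (nat_lit 11) (Steps.fwd (nat_lit 8192) (Steps.fwd (nat_lit 98304) (Steps.bwd (nat_lit 1) Steps.nil)))) (nat_lit 43) (nat_lit 1)]
noncomputable def R_17 : List (Rule) := [Rule.mk (nat_lit 2) (nat_lit 94) (Steps.bwd (nat_lit 2) (Steps.fwd (nat_lit 24576) (Steps.bwd (nat_lit 1) (Steps.bwd (nat_lit 1) (Steps.fwd (nat_lit 32768) Steps.nil))))) (nat_lit 6) (nat_lit 1),
  Rule.mk (nat_lit 2) (nat_lit 110) (Steps.bwd (nat_lit 15) (Steps.fwd (nat_lit 16384) (Steps.bwd (nat_lit 15) (Steps.fwd (nat_lit 114688) (Steps.bwd (nat_lit 10) (Steps.fwd (nat_lit 139264) Steps.nil)))))) (nat_lit 45) (nat_lit 5),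
  Rule.mk (nat_lit 16) (nat_lit 62) (Steps.fwd (nat_lit 32768) (Steps.bwd (nat_lit 6) (Steps.fwd (nat_lit 24576) Steps.nil))) (nat_lit 16) (nat_lit 1),
  Rule.mk (nat_lit 2) (nat_lit 94) (Steps.bwd (nat_lit 2) (Steps.bwd (nat_lit 3) (Steps.fwd (nat_lit 16384) (Steps.bwd (nat_lit 1) (Steps.bwd (nat_lit 4) Steps.nil))))) (nat_lit 7) (nat_lit 2),
  Rule.mk (nat_lit 8) (nat_lit 94) (Steps.bwd (nat_lit 8) (Steps.fwd (nat_lit 16384) (Steps.bwd (nat_lit 1) (Steps.fwd (nat_lit 16384) (Steps.fwd (nat_lit 16384) Steps.nil))))) (nat_lit 79) (nat_lit 5),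
  Rule.mk (nat_lit 7) (nat_lit 94) (Steps.bwd (nat_lit 7) (Steps.bwd (nat_lit 2) (Steps.fwd (nat_lit 8192) (Steps.bwd (nat_lit 2) (Steps.fwd (nat_lit 8192) Steps.nil))))) (nat_lit 78) (nat_lit 1),
  Rule.mk (nat_lit 2) (nat_lit 94) (Steps.bwd (nat_lit 7) (Steps.bwd (nat_lit 1) (Steps.fwd (nat_lit 16384) (Steps.fwd (nat_lit 16384) (Steps.bwd (nat_lit 8) Steps.nil))))) (nat_lit 83) (nat_lit 5),
  Rule.mk (nat_lit 1) (nat_lit 78) (Steps.bwd (nat_lit 19) (Steps.fwd (nat_lit 147456) (Steps.bwd (nat_lit 2) (Steps.fwd (nat_lit 155648) Steps.nil)))) (nat_lit 48) (nat_lit 3),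
  Rule.mk (nat_lit 1) (nat_lit 94) (Steps.bwd (nat_lit 4) (Steps.fwd (nat_lit 8192) (Steps.fwd (nat_lit 8192) (Steps.fwd (nat_lit 32768) (Steps.bwd (nat_lit 1) Steps.nil))))) (nat_lit 7) (nat_lit 0),
  Rule.mk (nat_lit 2) (nat_lit 94) (Steps.bwd (nat_lit 2) (Steps.bwd (nat_lit 4) (Steps.fwd (nat_lit 16384) (Steps.fwd (nat_lit 16384) (Steps.bwd (nat_lit 3) Steps.nil))))) (nat_lit 6) (nat_lit 1),
  Rule.mk (nat_lit 13) (nat_lit 126) (Steps.bwd (nat_lit 3) (Steps.bwd (nat_lit 12) (Steps.bwd (nat_lit 14) (Steps.fwd (nat_lit 131072) (Steps.fwd (nat_lit 81920) (Steps.fwd (nat_lit 131072) (Steps.bwd (nat_lit 4) Steps.nil))))))) (nat_lit 51) (nat_lit 7),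
  Rule.mk (nat_lit 18) (nat_lit 62) (Steps.bwd (nat_lit 11) (Steps.bwd (nat_lit 19) (Steps.fwd (nat_lit 90112) Steps.nil))) (nat_lit 24) (nat_lit 0),
  Rule.mk (nat_lit 3) (nat_lit 62) (Steps.fwd (nat_lit 147456) (Steps.fwd (nat_lit 24576) (Steps.bwd (nat_lit 18) Steps.nil))) (nat_lit 54) (nat_lit 3),
  Rule.mk (nat_lit 17) (nat_lit 94) (Steps.bwd (nat_lit 11) (Steps.bwd (nat_lit 16) (Steps.fwd (nat_lit 90112) (Steps.bwd (nat_lit 18) (Steps.bwd (nat_lit 18) Steps.nil))))) (nat_lit 35) (nat_lit 3),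
  Rule.mk (nat_lit 4) (nat_lit 126) (Steps.bwd (nat_lit 15) (Steps.bwd (nat_lit 3) (Steps.bwd (nat_lit 10) (Steps.fwd (nat_lit 90112) (Steps.bwd (nat_lit 16) (Steps.bwd (nat_lit 15) (Steps.fwd (nat_lit 114688) Steps.nil))))))) (nat_lit 53) (nat_lit 6),
  Rule.mk (nat_lit 17) (nat_lit 142) (Steps.bwd (nat_lit 14) (Steps.fwd (nat_lit 106496) (Steps.fwd (nat_lit 81920) (Steps.fwd (nat_lit 8192) (Steps.bwd (nat_lit 16) (Steps.bwd (nat_lit 1) (Steps.fwd (nat_lit 131072) (Steps.bwd (nat_lit 11) Steps.nil)))))))) (nat_lit 46) (nat_lit 6),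
  Rule.mk (nat_lit 16) (nat_lit 94) (Steps.fwd (nat_lit 90112) (Steps.bwd (nat_lit 18) (Steps.fwd (nat_lit 155648) (Steps.bwd (nat_lit 17) (Steps.bwd (nat_lit 11) Steps.nil))))) (nat_lit 35) (nat_lit 5),
  Rule.mk (nat_lit 10) (nat_lit 94) (Steps.bwd (nat_lit 16) (Steps.fwd (nat_lit 147456) (Steps.bwd (nat_lit 19) (Steps.fwd (nat_lit 81920) (Steps.bwd (nat_lit 17) Steps.nil))))) (nat_lit 34) (nat_lit 3),
  Rule.mk (nat_lit 16) (nat_lit 94) (Steps.bwd (nat_lit 10) (Steps.fwd (nat_lit 155648) (Steps.bwd (nat_lit 18) (Steps.fwd (nat_lit 131072) (Steps.bwd (nat_lit 11) Steps.nil))))) (nat_lit 35) (nat_lit 5),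
  Rule.mk (nat_lit 17) (nat_lit 62) (Steps.fwd (nat_lit 106496) (Steps.bwd (nat_lit 16) (Steps.bwd (nat_lit 13) Steps.nil))) (nat_lit 38) (nat_lit 2),
  Rule.mk (nat_lit 17) (nat_lit 62) (Steps.fwd (nat_lit 98304) (Steps.fwd (nat_lit 139264) (Steps.bwd (nat_lit 12) Steps.nil))) (nat_lit 39) (nat_lit 1),
  Rule.mk (nat_lit 15) (nat_lit 94) (Steps.bwd (nat_lit 10) (Steps.bwd (nat_lit 14) (Steps.fwd (nat_lit 155648) (Steps.fwd (nat_lit 155648) (Steps.bwd (nat_lit 11) Steps.nil))))) (nat_lit 32) (nat_lit 2),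
  Rule.mk (nat_lit 19) (nat_lit 78) (Steps.bwd (nat_lit 17) (Steps.bwd (nat_lit 15) (Steps.fwd (nat_lit 139264) (Steps.bwd (nat_lit 14) Steps.nil)))) (nat_lit 41) (nat_lit 1),
  Rule.mk (nat_lit 2) (nat_lit 142) (Steps.bwd (nat_lit 17) (Steps.bwd (nat_lit 1) (Steps.bwd (nat_lit 10) (Steps.bwd (nat_lit 13) (Steps.fwd (nat_lit 114688) (Steps.bwd (nat_lit 16) (Steps.fwd (nat_lit 90112) (Steps.fwd (nat_lit 139264) Steps.nil)))))))) (nat_lit 47) (nat_lit 7),
  Rule.mk (nat_lit 2) (nat_lit 110) (Steps.bwd (nat_lit 14) (Steps.fwd (nat_lit 16384) (Steps.bwd (nat_lit 17) (Steps.bwd (nat_lit 11) (Steps.bwd (nat_lit 14) (Steps.fwd (nat_lit 122880) Steps.nil)))))) (nat_lit 44) (nat_lit 1),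
  Rule.mk (nat_lit 12) (nat_lit 78) (Steps.fwd (nat_lit 90112) (Steps.bwd (nat_lit 18) (Steps.fwd (nat_lit 98304) (Steps.bwd (nat_lit 11) Steps.nil)))) (nat_lit 18) (nat_lit 4),
  Rule.mk (nat_lit 4) (nat_lit 62) (Steps.bwd (nat_lit 17) (Steps.fwd (nat_lit 32768) (Steps.fwd (nat_lit 49152) Steps.nil))) (nat_lit 17) (nat_lit 3),
  Rule.mk (nat_lit 11) (nat_lit 94) (Steps.bwd (nat_lit 17) (Steps.bwd (nat_lit 10) (Steps.fwd (nat_lit 139264) (Steps.bwd (nat_lit 19) (Steps.bwd (nat_lit 19) Steps.nil))))) (nat_lit 34) (nat_lit 1),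
  Rule.mk (nat_lit 4) (nat_lit 78) (Steps.bwd (nat_lit 4) (Steps.fwd (nat_lit 24576) (Steps.bwd (nat_lit 4) (Steps.bwd (nat_lit 4) Steps.nil)))) (nat_lit 3) (nat_lit 0),
  Rule.mk (nat_lit 3) (nat_lit 94) (Steps.bwd (nat_lit 1) (Steps.fwd (nat_lit 16384) (Steps.bwd (nat_lit 4) (Steps.bwd (nat_lit 2) (Steps.fwd (nat_lit 8192) Steps.nil))))) (nat_lit 7) (nat_lit 4),
  Rule.mk (nat_lit 17) (nat_lit 142) (Steps.bwd (nat_lit 1) (Steps.fwd (nat_lit 90112) (Steps.bwd (nat_lit 13) (Steps.fwd (nat_lit 114688) (Steps.fwd (nat_lit 139264) (Steps.bwd (nat_lit 10) (Steps.fwd (nat_lit 139264) (Steps.bwd (nat_lit 2) Steps.nil)))))))) (nat_lit 47) (nat_lit 8),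
  Rule.mk (nat_lit 11) (nat_lit 94) (Steps.bwd (nat_lit 16) (Steps.fwd (nat_lit 90112) (Steps.bwd (nat_lit 18) (Steps.bwd (nat_lit 18) (Steps.bwd (nat_lit 17) Steps.nil))))) (nat_lit 35) (nat_lit 4),
  Rule.mk (nat_lit 1) (nat_lit 110) (Steps.bwd (nat_lit 17) (Steps.fwd (nat_lit 81920) (Steps.bwd (nat_lit 14) (Steps.fwd (nat_lit 122880) (Steps.fwd (nat_lit 8192) (Steps.bwd (nat_lit 14) Steps.nil)))))) (nat_lit 44) (nat_lit 3),
  Rule.mk (nat_lit 12) (nat_lit 78) (Steps.bwd (nat_lit 10) (Steps.fwd (nat_lit 155648) (Steps.fwd (nat_lit 98304) (Steps.fwd (nat_lit 81920) Steps.nil)))) (nat_lit 18) (nat_lit 4),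
  Rule.mk (nat_lit 1) (nat_lit 142) (Steps.fwd (nat_lit 90112) (Steps.bwd (nat_lit 13) (Steps.fwd (nat_lit 114688) (Steps.bwd (nat_lit 16) (Steps.bwd (nat_lit 10) (Steps.bwd (nat_lit 16) (Steps.fwd (nat_lit 8192) (Steps.bwd (nat_lit 17) Steps.nil)))))))) (nat_lit 47) (nat_lit 0),
  Rule.mk (nat_lit 10) (nat_lit 78) (Steps.fwd (nat_lit 155648) (Steps.bwd (nat_lit 13) (Steps.bwd (nat_lit 11) (Steps.fwd (nat_lit 106496) Steps.nil)))) (nat_lit 18) (nat_lit 0),
  Rule.mk (nat_lit 14) (nat_lit 78) (Steps.fwd (nat_lit 139264) (Steps.bwd (nat_lit 18) (Steps.bwd (nat_lit 15) (Steps.fwd (nat_lit 131072) Steps.nil)))) (nat_lit 40) (nat_lit 3),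
  Rule.mk (nat_lit 2) (nat_lit 142) (Steps.bwd (nat_lit 16) (Steps.bwd (nat_lit 1) (Steps.bwd (nat_lit 17) (Steps.bwd (nat_lit 11) (Steps.bwd (nat_lit 17) (Steps.bwd (nat_lit 14) (Steps.bwd (nat_lit 12) (Steps.fwd (nat_lit 81920) Steps.nil)))))))) (nat_lit 46) (nat_lit 1),
  Rule.mk (nat_lit 14) (nat_lit 126) (Steps.bwd (nat_lit 3) (Steps.bwd (nat_lit 14) (Steps.fwd (nat_lit 122880) (Steps.fwd (nat_lit 131072) (Steps.fwd (nat_lit 81920) (Steps.fwd (nat_lit 81920) (Steps.bwd (nat_lit 4) Steps.nil))))))) (nat_lit 52) (nat_lit 2),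
  Rule.mk (nat_lit 1) (nat_lit 126) (Steps.fwd (nat_lit 32768) (Steps.bwd (nat_lit 1) (Steps.bwd (nat_lit 3) (Steps.bwd (nat_lit 1) (Steps.bwd (nat_lit 3) (Steps.fwd (nat_lit 16384) (Steps.bwd (nat_lit 3) Steps.nil))))))) (nat_lit 4) (nat_lit 1),
  Rule.mk (nat_lit 3) (nat_lit 94) (Steps.fwd (nat_lit 8192) (Steps.bwd (nat_lit 2) (Steps.bwd (nat_lit 4) (Steps.fwd (nat_lit 16384) (Steps.bwd (nat_lit 1) Steps.nil))))) (nat_lit 6) (nat_lit 0),
  Rule.mk (nat_lit 12) (nat_lit 126) (Steps.bwd (nat_lit 3) (Steps.bwd (nat_lit 16) (Steps.bwd (nat_lit 10) (Steps.fwd (nat_lit 139264) (Steps.bwd (nat_lit 15) (Steps.bwd (nat_lit 13) (Steps.fwd (nat_lit 24576) Steps.nil))))))) (nat_lit 50) (nat_lit 2),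
  Rule.mk (nat_lit 14) (nat_lit 78) (Steps.bwd (nat_lit 18) (Steps.bwd (nat_lit 13) (Steps.fwd (nat_lit 114688) (Steps.bwd (nat_lit 12) Steps.nil)))) (nat_lit 36) (nat_lit 4),
  Rule.mk (nat_lit 11) (nat_lit 94) (Steps.bwd (nat_lit 16) (Steps.fwd (nat_lit 90112) (Steps.fwd (nat_lit 155648) (Steps.fwd (nat_lit 155648) (Steps.fwd (nat_lit 131072) Steps.nil))))) (nat_lit 35) (nat_lit 4),
  Rule.mk (nat_lit 17) (nat_lit 94) (Steps.fwd (nat_lit 90112) (Steps.bwd (nat_lit 16) (Steps.fwd (nat_lit 147456) (Steps.bwd (nat_lit 19) (Steps.bwd (nat_lit 11) Steps.nil))))) (nat_lit 34) (nat_lit 2),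
  Rule.mk (nat_lit 14) (nat_lit 62) (Steps.fwd (nat_lit 147456) (Steps.fwd (nat_lit 114688) (Steps.bwd (nat_lit 18) Steps.nil))) (nat_lit 29) (nat_lit 0),
  Rule.mk (nat_lit 17) (nat_lit 78) (Steps.bwd (nat_lit 15) (Steps.fwd (nat_lit 139264) (Steps.bwd (nat_lit 14) (Steps.fwd (nat_lit 147456) Steps.nil)))) (nat_lit 41) (nat_lit 2),
  Rule.mk (nat_lit 15) (nat_lit 62) (Steps.fwd (nat_lit 147456) (Steps.fwd (nat_lit 122880) (Steps.bwd (nat_lit 18) Steps.nil))) (nat_lit 28) (nat_lit 1),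
  Rule.mk (nat_lit 17) (nat_lit 78) (Steps.fwd (nat_lit 114688) (Steps.bwd (nat_lit 16) (Steps.fwd (nat_lit 122880) (Steps.fwd (nat_lit 147456) Steps.nil)))) (nat_lit 41) (nat_lit 2),
  Rule.mk (nat_lit 16) (nat_lit 62) (Steps.fwd (nat_lit 147456) (Steps.bwd (nat_lit 17) (Steps.fwd (nat_lit 155648) Steps.nil))) (nat_lit 31) (nat_lit 0),
  Rule.mk (nat_lit 18) (nat_lit 62) (Steps.bwd (nat_lit 4) (Steps.fwd (nat_lit 147456) (Steps.fwd (nat_lit 32768) Steps.nil))) (nat_lit 55) (nat_lit 1),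
  Rule.mk (nat_lit 11) (nat_lit 62) (Steps.fwd (nat_lit 147456) (Steps.fwd (nat_lit 90112) (Steps.bwd (nat_lit 18) Steps.nil))) (nat_lit 24) (nat_lit 1),
  Rule.mk (nat_lit 17) (nat_lit 94) (Steps.bwd (nat_lit 11) (Steps.fwd (nat_lit 139264) (Steps.fwd (nat_lit 90112) (Steps.bwd (nat_lit 18) (Steps.fwd (nat_lit 155648) Steps.nil))))) (nat_lit 35) (nat_lit 3),
  Rule.mk (nat_lit 15) (nat_lit 94) (Steps.bwd (nat_lit 11) (Steps.bwd (nat_lit 14) (Steps.bwd (nat_lit 10) (Steps.fwd (nat_lit 147456) (Steps.fwd (nat_lit 147456) Steps.nil))))) (nat_lit 33) (nat_lit 3),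
  Rule.mk (nat_lit 15) (nat_lit 126) (Steps.fwd (nat_lit 24576) (Steps.bwd (nat_lit 15) (Steps.fwd (nat_lit 32768) (Steps.fwd (nat_lit 90112) (Steps.fwd (nat_lit 90112) (Steps.bwd (nat_lit 16) (Steps.bwd (nat_lit 15) Steps.nil))))))) (nat_lit 53) (nat_lit 5),
  Rule.mk (nat_lit 13) (nat_lit 78) (Steps.fwd (nat_lit 90112) (Steps.bwd (nat_lit 12) (Steps.bwd (nat_lit 19) (Steps.bwd (nat_lit 11) Steps.nil)))) (nat_lit 19) (nat_lit 2),
  Rule.mk (nat_lit 11) (nat_lit 126) (Steps.fwd (nat_lit 24576) (Steps.bwd (nat_lit 14) (Steps.fwd (nat_lit 32768) (Steps.fwd (nat_lit 122880) (Steps.fwd (nat_lit 122880) (Steps.bwd (nat_lit 17) (Steps.bwd (nat_lit 11) Steps.nil))))))) (nat_lit 52) (nat_lit 0),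
  Rule.mk (nat_lit 10) (nat_lit 110) (Steps.bwd (nat_lit 9) (Steps.fwd (nat_lit 90112) (Steps.bwd (nat_lit 4) (Steps.fwd (nat_lit 114688) (Steps.bwd (nat_lit 4) (Steps.bwd (nat_lit 9) Steps.nil)))))) (nat_lit 60) (nat_lit 2),
  Rule.mk (nat_lit 19) (nat_lit 110) (Steps.bwd (nat_lit 9) (Steps.fwd (nat_lit 90112) (Steps.bwd (nat_lit 15) (Steps.fwd (nat_lit 90112) (Steps.bwd (nat_lit 17) (Steps.bwd (nat_lit 9) Steps.nil)))))) (nat_lit 67) (nat_lit 6),
  Rule.mk (nat_lit 6) (nat_lit 62) (Steps.fwd (nat_lit 24576) (Steps.fwd (nat_lit 139264) (Steps.bwd (nat_lit 3) Steps.nil))) (nat_lit 16) (nat_lit 3),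
  Rule.mk (nat_lit 2) (nat_lit 78) (Steps.bwd (nat_lit 12) (Steps.bwd (nat_lit 1) (Steps.bwd (nat_lit 10) (Steps.bwd (nat_lit 10) Steps.nil)))) (nat_lit 42) (nat_lit 1),
  Rule.mk (nat_lit 5) (nat_lit 62) (Steps.bwd (nat_lit 1) (Steps.fwd (nat_lit 98304) (Steps.fwd (nat_lit 8192) Steps.nil))) (nat_lit 13) (nat_lit 2),
  Rule.mk (nat_lit 2) (nat_lit 78) (Steps.bwd (nat_lit 12) (Steps.fwd (nat_lit 16384) (Steps.fwd (nat_lit 90112) (Steps.bwd (nat_lit 10) Steps.nil)))) (nat_lit 42) (nat_lit 1),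
  Rule.mk (nat_lit 18) (nat_lit 62) (Steps.bwd (nat_lit 11) (Steps.fwd (nat_lit 147456) (Steps.bwd (nat_lit 10) Steps.nil))) (nat_lit 24) (nat_lit 0)]
noncomputable def R_18 : List (Rule) := [Rule.mk (nat_lit 18) (nat_lit 78) (Steps.fwd (nat_lit 16384) (Steps.bwd (nat_lit 19) (Steps.fwd (nat_lit 147456) (Steps.fwd (nat_lit 8192) Steps.nil)))) (nat_lit 48) (nat_lit 2),
  Rule.mk (nat_lit 19) (nat_lit 62) (Steps.fwd (nat_lit 24576) (Steps.bwd (nat_lit 18) (Steps.bwd (nat_lit 3) Steps.nil))) (nat_lit 54) (nat_lit 0),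
  Rule.mk (nat_lit 19) (nat_lit 62) (Steps.fwd (nat_lit 32768) (Steps.bwd (nat_lit 18) (Steps.bwd (nat_lit 4) Steps.nil))) (nat_lit 55) (nat_lit 3),
  Rule.mk (nat_lit 12) (nat_lit 78) (Steps.fwd (nat_lit 16384) (Steps.fwd (nat_lit 90112) (Steps.fwd (nat_lit 90112) (Steps.bwd (nat_lit 2) Steps.nil)))) (nat_lit 42) (nat_lit 2),
  Rule.mk (nat_lit 12) (nat_lit 78) (Steps.bwd (nat_lit 1) (Steps.bwd (nat_lit 10) (Steps.fwd (nat_lit 90112) (Steps.bwd (nat_lit 2) Steps.nil)))) (nat_lit 42) (nat_lit 2),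
  Rule.mk (nat_lit 19) (nat_lit 78) (Steps.bwd (nat_lit 1) (Steps.bwd (nat_lit 18) (Steps.fwd (nat_lit 155648) (Steps.fwd (nat_lit 8192) Steps.nil)))) (nat_lit 49) (nat_lit 4),
  Rule.mk (nat_lit 13) (nat_lit 78) (Steps.bwd (nat_lit 1) (Steps.fwd (nat_lit 81920) (Steps.fwd (nat_lit 81920) (Steps.bwd (nat_lit 2) Steps.nil)))) (nat_lit 43) (nat_lit 4),
  Rule.mk (nat_lit 7) (nat_lit 126) (Steps.bwd (nat_lit 18) (Steps.bwd (nat_lit 7) (Steps.bwd (nat_lit 19) (Steps.fwd (nat_lit 65536) (Steps.bwd (nat_lit 18) (Steps.bwd (nat_lit 2) (Steps.bwd (nat_lit 2) Steps.nil))))))) (nat_lit 86) (nat_lit 1),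
  Rule.mk (nat_lit 2) (nat_lit 94) (Steps.bwd (nat_lit 2) (Steps.fwd (nat_lit 24576) (Steps.fwd (nat_lit 16384) (Steps.fwd (nat_lit 16384) (Steps.bwd (nat_lit 3) Steps.nil))))) (nat_lit 6) (nat_lit 1),
  Rule.mk (nat_lit 14) (nat_lit 110) (Steps.bwd (nat_lit 2) (Steps.bwd (nat_lit 14) (Steps.bwd (nat_lit 1) (Steps.fwd (nat_lit 131072) (Steps.bwd (nat_lit 11) (Steps.bwd (nat_lit 14) Steps.nil)))))) (nat_lit 44) (nat_lit 0),
  Rule.mk (nat_lit 14) (nat_lit 94) (Steps.bwd (nat_lit 18) (Steps.fwd (nat_lit 155648) (Steps.fwd (nat_lit 81920) (Steps.fwd (nat_lit 114688) (Steps.bwd (nat_lit 10) Steps.nil))))) (nat_lit 32) (nat_lit 4),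
  Rule.mk (nat_lit 3) (nat_lit 126) (Steps.bwd (nat_lit 16) (Steps.fwd (nat_lit 90112) (Steps.fwd (nat_lit 139264) (Steps.fwd (nat_lit 114688) (Steps.bwd (nat_lit 13) (Steps.bwd (nat_lit 4) (Steps.bwd (nat_lit 12) Steps.nil))))))) (nat_lit 50) (nat_lit 3),
  Rule.mk (nat_lit 17) (nat_lit 62) (Steps.fwd (nat_lit 147456) (Steps.fwd (nat_lit 139264) (Steps.bwd (nat_lit 18) Steps.nil))) (nat_lit 30) (nat_lit 1),
  Rule.mk (nat_lit 19) (nat_lit 78) (Steps.bwd (nat_lit 19) (Steps.fwd (nat_lit 147456) (Steps.fwd (nat_lit 147456) (Steps.fwd (nat_lit 147456) Steps.nil)))) (nat_lit 23) (nat_lit 0),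
  Rule.mk (nat_lit 15) (nat_lit 94) (Steps.bwd (nat_lit 10) (Steps.fwd (nat_lit 122880) (Steps.fwd (nat_lit 155648) (Steps.bwd (nat_lit 18) (Steps.fwd (nat_lit 81920) Steps.nil))))) (nat_lit 32) (nat_lit 2),
  Rule.mk (nat_lit 14) (nat_lit 94) (Steps.bwd (nat_lit 10) (Steps.bwd (nat_lit 19) (Steps.bwd (nat_lit 19) (Steps.fwd (nat_lit 114688) (Steps.fwd (nat_lit 81920) Steps.nil))))) (nat_lit 33) (nat_lit 5),
  Rule.mk (nat_lit 17) (nat_lit 94) (Steps.bwd (nat_lit 10) (Steps.bwd (nat_lit 16) (Steps.fwd (nat_lit 147456) (Steps.fwd (nat_lit 147456) (Steps.fwd (nat_lit 81920) Steps.nil))))) (nat_lit 34) (nat_lit 2),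
  Rule.mk (nat_lit 16) (nat_lit 94) (Steps.bwd (nat_lit 10) (Steps.fwd (nat_lit 155648) (Steps.bwd (nat_lit 18) (Steps.bwd (nat_lit 17) (Steps.fwd (nat_lit 81920) Steps.nil))))) (nat_lit 35) (nat_lit 5),
  Rule.mk (nat_lit 3) (nat_lit 126) (Steps.bwd (nat_lit 10) (Steps.bwd (nat_lit 10) (Steps.fwd (nat_lit 139264) (Steps.bwd (nat_lit 15) (Steps.bwd (nat_lit 15) (Steps.fwd (nat_lit 24576) (Steps.bwd (nat_lit 15) Steps.nil))))))) (nat_lit 53) (nat_lit 0),
  Rule.mk (nat_lit 11) (nat_lit 94) (Steps.bwd (nat_lit 14) (Steps.bwd (nat_lit 10) (Steps.bwd (nat_lit 19) (Steps.bwd (nat_lit 19) (Steps.fwd (nat_lit 114688) Steps.nil))))) (nat_lit 33) (nat_lit 4),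
  Rule.mk (nat_lit 2) (nat_lit 78) (Steps.fwd (nat_lit 98304) (Steps.fwd (nat_lit 16384) (Steps.fwd (nat_lit 81920) (Steps.bwd (nat_lit 11) Steps.nil)))) (nat_lit 43) (nat_lit 3),
  Rule.mk (nat_lit 4) (nat_lit 126) (Steps.bwd (nat_lit 12) (Steps.bwd (nat_lit 3) (Steps.bwd (nat_lit 16) (Steps.bwd (nat_lit 10) (Steps.bwd (nat_lit 16) (Steps.fwd (nat_lit 114688) (Steps.bwd (nat_lit 13) Steps.nil))))))) (nat_lit 50) (nat_lit 1),
  Rule.mk (nat_lit 3) (nat_lit 62) (Steps.fwd (nat_lit 40960) (Steps.bwd (nat_lit 4) (Steps.fwd (nat_lit 139264) Steps.nil))) (nat_lit 16) (nat_lit 2),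
  Rule.mk (nat_lit 1) (nat_lit 94) (Steps.bwd (nat_lit 1) (Steps.bwd (nat_lit 3) (Steps.bwd (nat_lit 2) (Steps.bwd (nat_lit 2) (Steps.bwd (nat_lit 4) Steps.nil))))) (nat_lit 6) (nat_lit 4),
  Rule.mk (nat_lit 1) (nat_lit 78) (Steps.fwd (nat_lit 81920) (Steps.fwd (nat_lit 81920) (Steps.fwd (nat_lit 8192) (Steps.bwd (nat_lit 13) Steps.nil)))) (nat_lit 43) (nat_lit 0),
  Rule.mk (nat_lit 3) (nat_lit 94) (Steps.bwd (nat_lit 2) (Steps.bwd (nat_lit 2) (Steps.fwd (nat_lit 24576) (Steps.fwd (nat_lit 16384) (Steps.fwd (nat_lit 16384) Steps.nil))))) (nat_lit 6) (nat_lit 0),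
  Rule.mk (nat_lit 10) (nat_lit 78) (Steps.bwd (nat_lit 10) (Steps.bwd (nat_lit 10) (Steps.fwd (nat_lit 90112) (Steps.bwd (nat_lit 10) Steps.nil)))) (nat_lit 20) (nat_lit 0),
  Rule.mk (nat_lit 3) (nat_lit 78) (Steps.bwd (nat_lit 3) (Steps.fwd (nat_lit 32768) (Steps.bwd (nat_lit 3) (Steps.bwd (nat_lit 3) Steps.nil)))) (nat_lit 2) (nat_lit 0),
  Rule.mk (nat_lit 14) (nat_lit 126) (Steps.bwd (nat_lit 3) (Steps.bwd (nat_lit 14) (Steps.bwd (nat_lit 14) (Steps.bwd (nat_lit 17) (Steps.bwd (nat_lit 11) (Steps.fwd (nat_lit 81920) (Steps.bwd (nat_lit 4) Steps.nil))))))) (nat_lit 52) (nat_lit 2),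
  Rule.mk (nat_lit 1) (nat_lit 78) (Steps.bwd (nat_lit 11) (Steps.bwd (nat_lit 11) (Steps.bwd (nat_lit 2) (Steps.fwd (nat_lit 98304) Steps.nil)))) (nat_lit 43) (nat_lit 0),
  Rule.mk (nat_lit 14) (nat_lit 126) (Steps.bwd (nat_lit 17) (Steps.bwd (nat_lit 11) (Steps.bwd (nat_lit 11) (Steps.bwd (nat_lit 4) (Steps.bwd (nat_lit 14) (Steps.fwd (nat_lit 32768) (Steps.fwd (nat_lit 122880) Steps.nil))))))) (nat_lit 52) (nat_lit 5),
  Rule.mk (nat_lit 15) (nat_lit 62) (Steps.fwd (nat_lit 155648) (Steps.bwd (nat_lit 14) (Steps.fwd (nat_lit 147456) Steps.nil))) (nat_lit 29) (nat_lit 2),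
  Rule.mk (nat_lit 3) (nat_lit 126) (Steps.fwd (nat_lit 122880) (Steps.fwd (nat_lit 122880) (Steps.fwd (nat_lit 131072) (Steps.fwd (nat_lit 81920) (Steps.fwd (nat_lit 81920) (Steps.bwd (nat_lit 4) (Steps.bwd (nat_lit 14) Steps.nil))))))) (nat_lit 52) (nat_lit 3),
  Rule.mk (nat_lit 2) (nat_lit 78) (Steps.fwd (nat_lit 98304) (Steps.fwd (nat_lit 16384) (Steps.bwd (nat_lit 11) (Steps.bwd (nat_lit 11) Steps.nil)))) (nat_lit 43) (nat_lit 3),
  Rule.mk (nat_lit 3) (nat_lit 62) (Steps.fwd (nat_lit 114688) (Steps.fwd (nat_lit 24576) (Steps.bwd (nat_lit 5) Steps.nil))) (nat_lit 15) (nat_lit 3),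
  Rule.mk (nat_lit 15) (nat_lit 126) (Steps.bwd (nat_lit 3) (Steps.fwd (nat_lit 90112) (Steps.fwd (nat_lit 90112) (Steps.fwd (nat_lit 139264) (Steps.bwd (nat_lit 15) (Steps.bwd (nat_lit 15) (Steps.fwd (nat_lit 24576) Steps.nil))))))) (nat_lit 53) (nat_lit 7),
  Rule.mk (nat_lit 1) (nat_lit 78) (Steps.bwd (nat_lit 11) (Steps.fwd (nat_lit 81920) (Steps.bwd (nat_lit 2) (Steps.fwd (nat_lit 98304) Steps.nil)))) (nat_lit 43) (nat_lit 0),
  Rule.mk (nat_lit 1) (nat_lit 62) (Steps.fwd (nat_lit 98304) (Steps.bwd (nat_lit 2) (Steps.bwd (nat_lit 5) Steps.nil))) (nat_lit 13) (nat_lit 3),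
  Rule.mk (nat_lit 14) (nat_lit 126) (Steps.bwd (nat_lit 14) (Steps.fwd (nat_lit 131072) (Steps.fwd (nat_lit 81920) (Steps.bwd (nat_lit 11) (Steps.fwd (nat_lit 24576) (Steps.bwd (nat_lit 14) (Steps.fwd (nat_lit 32768) Steps.nil))))))) (nat_lit 52) (nat_lit 4),
  Rule.mk (nat_lit 10) (nat_lit 94) (Steps.bwd (nat_lit 19) (Steps.fwd (nat_lit 147456) (Steps.bwd (nat_lit 15) (Steps.fwd (nat_lit 81920) (Steps.bwd (nat_lit 14) Steps.nil))))) (nat_lit 33) (nat_lit 0),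
  Rule.mk (nat_lit 14) (nat_lit 62) (Steps.fwd (nat_lit 24576) (Steps.bwd (nat_lit 6) (Steps.bwd (nat_lit 3) Steps.nil))) (nat_lit 14) (nat_lit 1),
  Rule.mk (nat_lit 16) (nat_lit 78) (Steps.bwd (nat_lit 14) (Steps.bwd (nat_lit 19) (Steps.bwd (nat_lit 17) (Steps.fwd (nat_lit 114688) Steps.nil)))) (nat_lit 41) (nat_lit 4),
  Rule.mk (nat_lit 11) (nat_lit 78) (Steps.bwd (nat_lit 11) (Steps.fwd (nat_lit 81920) (Steps.bwd (nat_lit 11) (Steps.fwd (nat_lit 81920) Steps.nil)))) (nat_lit 21) (nat_lit 0),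
  Rule.mk (nat_lit 14) (nat_lit 126) (Steps.bwd (nat_lit 14) (Steps.fwd (nat_lit 131072) (Steps.fwd (nat_lit 81920) (Steps.bwd (nat_lit 11) (Steps.fwd (nat_lit 24576) (Steps.bwd (nat_lit 14) (Steps.bwd (nat_lit 3) Steps.nil))))))) (nat_lit 52) (nat_lit 4),
  Rule.mk (nat_lit 16) (nat_lit 78) (Steps.bwd (nat_lit 14) (Steps.fwd (nat_lit 147456) (Steps.fwd (nat_lit 131072) (Steps.bwd (nat_lit 15) Steps.nil)))) (nat_lit 41) (nat_lit 4),
  Rule.mk (nat_lit 18) (nat_lit 78) (Steps.bwd (nat_lit 15) (Steps.bwd (nat_lit 17) (Steps.bwd (nat_lit 14) (Steps.bwd (nat_lit 16) Steps.nil)))) (nat_lit 40) (nat_lit 0),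
  Rule.mk (nat_lit 18) (nat_lit 94) (Steps.bwd (nat_lit 11) (Steps.fwd (nat_lit 114688) (Steps.bwd (nat_lit 10) (Steps.bwd (nat_lit 14) (Steps.bwd (nat_lit 18) Steps.nil))))) (nat_lit 32) (nat_lit 0),
  Rule.mk (nat_lit 15) (nat_lit 94) (Steps.bwd (nat_lit 11) (Steps.bwd (nat_lit 14) (Steps.fwd (nat_lit 90112) (Steps.bwd (nat_lit 19) (Steps.bwd (nat_lit 19) Steps.nil))))) (nat_lit 33) (nat_lit 3),
  Rule.mk (nat_lit 17) (nat_lit 110) (Steps.bwd (nat_lit 11) (Steps.fwd (nat_lit 122880) (Steps.fwd (nat_lit 122880) (Steps.bwd (nat_lit 2) (Steps.bwd (nat_lit 14) (Steps.fwd (nat_lit 16384) Steps.nil)))))) (nat_lit 44) (nat_lit 4),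
  Rule.mk (nat_lit 13) (nat_lit 78) (Steps.bwd (nat_lit 11) (Steps.fwd (nat_lit 106496) (Steps.fwd (nat_lit 90112) (Steps.bwd (nat_lit 18) Steps.nil)))) (nat_lit 18) (nat_lit 2),
  Rule.mk (nat_lit 17) (nat_lit 110) (Steps.bwd (nat_lit 11) (Steps.fwd (nat_lit 122880) (Steps.bwd (nat_lit 14) (Steps.fwd (nat_lit 8192) (Steps.bwd (nat_lit 14) (Steps.bwd (nat_lit 1) Steps.nil)))))) (nat_lit 44) (nat_lit 4),
  Rule.mk (nat_lit 4) (nat_lit 126) (Steps.bwd (nat_lit 13) (Steps.fwd (nat_lit 32768) (Steps.fwd (nat_lit 106496) (Steps.fwd (nat_lit 122880) (Steps.fwd (nat_lit 131072) (Steps.bwd (nat_lit 11) (Steps.bwd (nat_lit 17) Steps.nil))))))) (nat_lit 51) (nat_lit 6),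
  Rule.mk (nat_lit 14) (nat_lit 62) (Steps.bwd (nat_lit 4) (Steps.fwd (nat_lit 40960) (Steps.fwd (nat_lit 32768) Steps.nil))) (nat_lit 14) (nat_lit 1),
  Rule.mk (nat_lit 3) (nat_lit 126) (Steps.bwd (nat_lit 10) (Steps.bwd (nat_lit 10) (Steps.fwd (nat_lit 139264) (Steps.bwd (nat_lit 15) (Steps.bwd (nat_lit 15) (Steps.fwd (nat_lit 24576) (Steps.fwd (nat_lit 114688) Steps.nil))))))) (nat_lit 53) (nat_lit 0),
  Rule.mk (nat_lit 16) (nat_lit 126) (Steps.bwd (nat_lit 10) (Steps.bwd (nat_lit 16) (Steps.bwd (nat_lit 15) (Steps.bwd (nat_lit 13) (Steps.bwd (nat_lit 4) (Steps.bwd (nat_lit 12) (Steps.bwd (nat_lit 3) Steps.nil))))))) (nat_lit 50) (nat_lit 4),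
  Rule.mk (nat_lit 1) (nat_lit 78) (Steps.fwd (nat_lit 147456) (Steps.bwd (nat_lit 19) (Steps.bwd (nat_lit 2) (Steps.bwd (nat_lit 18) Steps.nil)))) (nat_lit 48) (nat_lit 3),
  Rule.mk (nat_lit 16) (nat_lit 62) (Steps.bwd (nat_lit 13) (Steps.bwd (nat_lit 17) (Steps.fwd (nat_lit 106496) Steps.nil))) (nat_lit 38) (nat_lit 0),
  Rule.mk (nat_lit 2) (nat_lit 78) (Steps.bwd (nat_lit 13) (Steps.fwd (nat_lit 16384) (Steps.bwd (nat_lit 11) (Steps.fwd (nat_lit 81920) Steps.nil)))) (nat_lit 43) (nat_lit 3),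
  Rule.mk (nat_lit 10) (nat_lit 142) (Steps.bwd (nat_lit 13) (Steps.fwd (nat_lit 114688) (Steps.bwd (nat_lit 16) (Steps.bwd (nat_lit 10) (Steps.fwd (nat_lit 139264) (Steps.fwd (nat_lit 8192) (Steps.bwd (nat_lit 17) (Steps.bwd (nat_lit 1) Steps.nil)))))))) (nat_lit 47) (nat_lit 1),
  Rule.mk (nat_lit 12) (nat_lit 78) (Steps.bwd (nat_lit 14) (Steps.bwd (nat_lit 18) (Steps.fwd (nat_lit 98304) (Steps.fwd (nat_lit 114688) Steps.nil)))) (nat_lit 36) (nat_lit 3),
  Rule.mk (nat_lit 16) (nat_lit 78) (Steps.fwd (nat_lit 122880) (Steps.bwd (nat_lit 19) (Steps.bwd (nat_lit 17) (Steps.bwd (nat_lit 15) Steps.nil)))) (nat_lit 41) (nat_lit 4),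
  Rule.mk (nat_lit 11) (nat_lit 62) (Steps.fwd (nat_lit 155648) (Steps.bwd (nat_lit 10) (Steps.fwd (nat_lit 147456) Steps.nil))) (nat_lit 25) (nat_lit 2),
  Rule.mk (nat_lit 13) (nat_lit 78) (Steps.bwd (nat_lit 1) (Steps.bwd (nat_lit 11) (Steps.bwd (nat_lit 11) (Steps.bwd (nat_lit 2) Steps.nil)))) (nat_lit 43) (nat_lit 4),
  Rule.mk (nat_lit 16) (nat_lit 94) (Steps.bwd (nat_lit 19) (Steps.bwd (nat_lit 19) (Steps.bwd (nat_lit 11) (Steps.bwd (nat_lit 17) (Steps.bwd (nat_lit 10) Steps.nil))))) (nat_lit 34) (nat_lit 4)]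
noncomputable def R_19 : List (Rule) := [Rule.mk (nat_lit 19) (nat_lit 110) (Steps.bwd (nat_lit 9) (Steps.fwd (nat_lit 90112) (Steps.bwd (nat_lit 15) (Steps.bwd (nat_lit 10) (Steps.bwd (nat_lit 17) (Steps.fwd (nat_lit 73728) Steps.nil)))))) (nat_lit 67) (nat_lit 6),
  Rule.mk (nat_lit 4) (nat_lit 110) (Steps.bwd (nat_lit 9) (Steps.fwd (nat_lit 90112) (Steps.bwd (nat_lit 15) (Steps.fwd (nat_lit 131072) (Steps.bwd (nat_lit 17) (Steps.fwd (nat_lit 73728) Steps.nil)))))) (nat_lit 71) (nat_lit 6),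
  Rule.mk (nat_lit 9) (nat_lit 110) (Steps.bwd (nat_lit 4) (Steps.bwd (nat_lit 9) (Steps.bwd (nat_lit 10) (Steps.bwd (nat_lit 15) (Steps.fwd (nat_lit 131072) (Steps.bwd (nat_lit 17) Steps.nil)))))) (nat_lit 71) (nat_lit 5),
  Rule.mk (nat_lit 13) (nat_lit 126) (Steps.bwd (nat_lit 3) (Steps.fwd (nat_lit 106496) (Steps.fwd (nat_lit 122880) (Steps.bwd (nat_lit 17) (Steps.bwd (nat_lit 11) (Steps.bwd (nat_lit 17) (Steps.fwd (nat_lit 24576) Steps.nil))))))) (nat_lit 51) (nat_lit 7),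
  Rule.mk (nat_lit 15) (nat_lit 126) (Steps.bwd (nat_lit 3) (Steps.fwd (nat_lit 90112) (Steps.bwd (nat_lit 10) (Steps.fwd (nat_lit 139264) (Steps.fwd (nat_lit 114688) (Steps.fwd (nat_lit 114688) (Steps.fwd (nat_lit 24576) Steps.nil))))))) (nat_lit 53) (nat_lit 7),
  Rule.mk (nat_lit 10) (nat_lit 94) (Steps.fwd (nat_lit 122880) (Steps.bwd (nat_lit 18) (Steps.bwd (nat_lit 18) (Steps.fwd (nat_lit 81920) (Steps.bwd (nat_lit 15) Steps.nil))))) (nat_lit 32) (nat_lit 3),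
  Rule.mk (nat_lit 19) (nat_lit 110) (Steps.bwd (nat_lit 9) (Steps.fwd (nat_lit 90112) (Steps.fwd (nat_lit 114688) (Steps.bwd (nat_lit 10) (Steps.fwd (nat_lit 131072) (Steps.fwd (nat_lit 73728) Steps.nil)))))) (nat_lit 67) (nat_lit 6),
  Rule.mk (nat_lit 4) (nat_lit 110) (Steps.bwd (nat_lit 9) (Steps.fwd (nat_lit 90112) (Steps.fwd (nat_lit 114688) (Steps.bwd (nat_lit 17) (Steps.fwd (nat_lit 131072) (Steps.fwd (nat_lit 73728) Steps.nil)))))) (nat_lit 71) (nat_lit 6),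
  Rule.mk (nat_lit 9) (nat_lit 110) (Steps.bwd (nat_lit 19) (Steps.fwd (nat_lit 73728) (Steps.bwd (nat_lit 10) (Steps.bwd (nat_lit 15) (Steps.fwd (nat_lit 90112) (Steps.bwd (nat_lit 17) Steps.nil)))))) (nat_lit 67) (nat_lit 5),
  Rule.mk (nat_lit 3) (nat_lit 110) (Steps.bwd (nat_lit 9) (Steps.bwd (nat_lit 16) (Steps.fwd (nat_lit 139264) (Steps.fwd (nat_lit 122880) (Steps.fwd (nat_lit 81920) (Steps.bwd (nat_lit 9) Steps.nil)))))) (nat_lit 70) (nat_lit 2),
  Rule.mk (nat_lit 15) (nat_lit 110) (Steps.bwd (nat_lit 16) (Steps.bwd (nat_lit 9) (Steps.bwd (nat_lit 17) (Steps.bwd (nat_lit 9) (Steps.bwd (nat_lit 3) (Steps.bwd (nat_lit 3) Steps.nil)))))) (nat_lit 65) (nat_lit 3),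
  Rule.mk (nat_lit 13) (nat_lit 126) (Steps.bwd (nat_lit 3) (Steps.bwd (nat_lit 12) (Steps.fwd (nat_lit 122880) (Steps.fwd (nat_lit 131072) (Steps.fwd (nat_lit 81920) (Steps.fwd (nat_lit 131072) (Steps.fwd (nat_lit 24576) Steps.nil))))))) (nat_lit 51) (nat_lit 7),
  Rule.mk (nat_lit 15) (nat_lit 126) (Steps.bwd (nat_lit 3) (Steps.bwd (nat_lit 10) (Steps.fwd (nat_lit 90112) (Steps.fwd (nat_lit 139264) (Steps.bwd (nat_lit 15) (Steps.bwd (nat_lit 15) (Steps.fwd (nat_lit 24576) Steps.nil))))))) (nat_lit 53) (nat_lit 7),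
  Rule.mk (nat_lit 10) (nat_lit 94) (Steps.bwd (nat_lit 14) (Steps.fwd (nat_lit 155648) (Steps.fwd (nat_lit 155648) (Steps.bwd (nat_lit 11) (Steps.bwd (nat_lit 15) Steps.nil))))) (nat_lit 32) (nat_lit 3),
  Rule.mk (nat_lit 2) (nat_lit 94) (Steps.bwd (nat_lit 2) (Steps.bwd (nat_lit 4) (Steps.bwd (nat_lit 1) (Steps.bwd (nat_lit 1) (Steps.bwd (nat_lit 3) Steps.nil))))) (nat_lit 6) (nat_lit 1),
  Rule.mk (nat_lit 1) (nat_lit 94) (Steps.bwd (nat_lit 1) (Steps.bwd (nat_lit 4) (Steps.fwd (nat_lit 8192) (Steps.bwd (nat_lit 2) (Steps.fwd (nat_lit 32768) Steps.nil))))) (nat_lit 7) (nat_lit 5),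
  Rule.mk (nat_lit 15) (nat_lit 126) (Steps.bwd (nat_lit 3) (Steps.fwd (nat_lit 90112) (Steps.bwd (nat_lit 10) (Steps.bwd (nat_lit 16) (Steps.bwd (nat_lit 15) (Steps.bwd (nat_lit 15) (Steps.fwd (nat_lit 24576) Steps.nil))))))) (nat_lit 53) (nat_lit 7),
  Rule.mk (nat_lit 10) (nat_lit 94) (Steps.bwd (nat_lit 16) (Steps.fwd (nat_lit 147456) (Steps.fwd (nat_lit 147456) (Steps.fwd (nat_lit 81920) (Steps.fwd (nat_lit 131072) Steps.nil))))) (nat_lit 34) (nat_lit 3),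
  Rule.mk (nat_lit 13) (nat_lit 126) (Steps.bwd (nat_lit 3) (Steps.bwd (nat_lit 12) (Steps.bwd (nat_lit 14) (Steps.bwd (nat_lit 17) (Steps.fwd (nat_lit 81920) (Steps.bwd (nat_lit 17) (Steps.bwd (nat_lit 4) Steps.nil))))))) (nat_lit 51) (nat_lit 7),
  Rule.mk (nat_lit 15) (nat_lit 126) (Steps.bwd (nat_lit 3) (Steps.bwd (nat_lit 10) (Steps.bwd (nat_lit 10) (Steps.bwd (nat_lit 16) (Steps.bwd (nat_lit 15) (Steps.bwd (nat_lit 15) (Steps.bwd (nat_lit 4) Steps.nil))))))) (nat_lit 53) (nat_lit 7),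
  Rule.mk (nat_lit 2) (nat_lit 126) (Steps.bwd (nat_lit 4) (Steps.fwd (nat_lit 8192) (Steps.bwd (nat_lit 4) (Steps.fwd (nat_lit 8192) (Steps.fwd (nat_lit 24576) (Steps.bwd (nat_lit 2) (Steps.bwd (nat_lit 4) Steps.nil))))))) (nat_lit 5) (nat_lit 0),
  Rule.mk (nat_lit 12) (nat_lit 78) (Steps.fwd (nat_lit 16384) (Steps.bwd (nat_lit 10) (Steps.bwd (nat_lit 10) (Steps.bwd (nat_lit 2) Steps.nil)))) (nat_lit 42) (nat_lit 2),
  Rule.mk (nat_lit 2) (nat_lit 94) (Steps.bwd (nat_lit 3) (Steps.bwd (nat_lit 1) (Steps.fwd (nat_lit 16384) (Steps.bwd (nat_lit 4) (Steps.bwd (nat_lit 2) Steps.nil))))) (nat_lit 7) (nat_lit 3),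
  Rule.mk (nat_lit 16) (nat_lit 142) (Steps.fwd (nat_lit 16384) (Steps.bwd (nat_lit 17) (Steps.fwd (nat_lit 81920) (Steps.bwd (nat_lit 17) (Steps.fwd (nat_lit 122880) (Steps.fwd (nat_lit 106496) (Steps.fwd (nat_lit 81920) (Steps.bwd (nat_lit 2) Steps.nil)))))))) (nat_lit 46) (nat_lit 2),
  Rule.mk (nat_lit 1) (nat_lit 94) (Steps.bwd (nat_lit 1) (Steps.bwd (nat_lit 3) (Steps.fwd (nat_lit 8192) (Steps.fwd (nat_lit 8192) (Steps.fwd (nat_lit 24576) Steps.nil))))) (nat_lit 6) (nat_lit 4),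
  Rule.mk (nat_lit 15) (nat_lit 110) (Steps.bwd (nat_lit 1) (Steps.bwd (nat_lit 15) (Steps.bwd (nat_lit 15) (Steps.bwd (nat_lit 10) (Steps.fwd (nat_lit 139264) (Steps.bwd (nat_lit 2) Steps.nil)))))) (nat_lit 45) (nat_lit 6),
  Rule.mk (nat_lit 16) (nat_lit 142) (Steps.bwd (nat_lit 1) (Steps.fwd (nat_lit 131072) (Steps.fwd (nat_lit 81920) (Steps.bwd (nat_lit 17) (Steps.fwd (nat_lit 122880) (Steps.fwd (nat_lit 106496) (Steps.fwd (nat_lit 81920) (Steps.fwd (nat_lit 8192) Steps.nil)))))))) (nat_lit 46) (nat_lit 2),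
  Rule.mk (nat_lit 1) (nat_lit 78) (Steps.bwd (nat_lit 10) (Steps.fwd (nat_lit 90112) (Steps.fwd (nat_lit 8192) (Steps.fwd (nat_lit 106496) Steps.nil)))) (nat_lit 42) (nat_lit 3),
  Rule.mk (nat_lit 14) (nat_lit 94) (Steps.bwd (nat_lit 10) (Steps.bwd (nat_lit 19) (Steps.bwd (nat_lit 19) (Steps.bwd (nat_lit 15) (Steps.bwd (nat_lit 11) Steps.nil))))) (nat_lit 33) (nat_lit 5),
  Rule.mk (nat_lit 1) (nat_lit 110) (Steps.bwd (nat_lit 17) (Steps.fwd (nat_lit 81920) (Steps.fwd (nat_lit 122880) (Steps.fwd (nat_lit 122880) (Steps.bwd (nat_lit 2) (Steps.bwd (nat_lit 14) Steps.nil)))))) (nat_lit 44) (nat_lit 3),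
  Rule.mk (nat_lit 17) (nat_lit 126) (Steps.bwd (nat_lit 11) (Steps.bwd (nat_lit 11) (Steps.fwd (nat_lit 24576) (Steps.fwd (nat_lit 122880) (Steps.bwd (nat_lit 3) (Steps.bwd (nat_lit 14) (Steps.fwd (nat_lit 122880) Steps.nil))))))) (nat_lit 52) (nat_lit 6),
  Rule.mk (nat_lit 17) (nat_lit 126) (Steps.bwd (nat_lit 11) (Steps.fwd (nat_lit 81920) (Steps.bwd (nat_lit 4) (Steps.fwd (nat_lit 122880) (Steps.fwd (nat_lit 32768) (Steps.fwd (nat_lit 122880) (Steps.fwd (nat_lit 122880) Steps.nil))))))) (nat_lit 52) (nat_lit 6),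
  Rule.mk (nat_lit 16) (nat_lit 78) (Steps.fwd (nat_lit 155648) (Steps.fwd (nat_lit 114688) (Steps.bwd (nat_lit 17) (Steps.fwd (nat_lit 122880) Steps.nil)))) (nat_lit 40) (nat_lit 4),
  Rule.mk (nat_lit 17) (nat_lit 78) (Steps.fwd (nat_lit 114688) (Steps.bwd (nat_lit 16) (Steps.fwd (nat_lit 122880) (Steps.bwd (nat_lit 19) Steps.nil)))) (nat_lit 41) (nat_lit 2),
  Rule.mk (nat_lit 13) (nat_lit 126) (Steps.fwd (nat_lit 24576) (Steps.fwd (nat_lit 106496) (Steps.bwd (nat_lit 3) (Steps.bwd (nat_lit 16) (Steps.fwd (nat_lit 90112) (Steps.fwd (nat_lit 139264) (Steps.bwd (nat_lit 15) Steps.nil))))))) (nat_lit 50) (nat_lit 0),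
  Rule.mk (nat_lit 12) (nat_lit 78) (Steps.fwd (nat_lit 90112) (Steps.fwd (nat_lit 155648) (Steps.bwd (nat_lit 13) (Steps.fwd (nat_lit 81920) Steps.nil)))) (nat_lit 18) (nat_lit 4),
  Rule.mk (nat_lit 12) (nat_lit 62) (Steps.fwd (nat_lit 139264) (Steps.bwd (nat_lit 13) (Steps.bwd (nat_lit 17) Steps.nil))) (nat_lit 38) (nat_lit 3),
  Rule.mk (nat_lit 2) (nat_lit 142) (Steps.bwd (nat_lit 16) (Steps.fwd (nat_lit 16384) (Steps.bwd (nat_lit 17) (Steps.bwd (nat_lit 11) (Steps.bwd (nat_lit 17) (Steps.bwd (nat_lit 14) (Steps.bwd (nat_lit 12) (Steps.fwd (nat_lit 81920) Steps.nil)))))))) (nat_lit 46) (nat_lit 1),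
  Rule.mk (nat_lit 2) (nat_lit 94) (Steps.bwd (nat_lit 4) (Steps.fwd (nat_lit 16384) (Steps.bwd (nat_lit 1) (Steps.fwd (nat_lit 32768) (Steps.bwd (nat_lit 2) Steps.nil))))) (nat_lit 6) (nat_lit 2),
  Rule.mk (nat_lit 3) (nat_lit 94) (Steps.bwd (nat_lit 1) (Steps.fwd (nat_lit 16384) (Steps.bwd (nat_lit 4) (Steps.fwd (nat_lit 8192) (Steps.bwd (nat_lit 2) Steps.nil))))) (nat_lit 7) (nat_lit 4),
  Rule.mk (nat_lit 14) (nat_lit 110) (Steps.bwd (nat_lit 1) (Steps.bwd (nat_lit 17) (Steps.bwd (nat_lit 11) (Steps.fwd (nat_lit 122880) (Steps.bwd (nat_lit 14) (Steps.bwd (nat_lit 2) Steps.nil)))))) (nat_lit 44) (nat_lit 2),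
  Rule.mk (nat_lit 10) (nat_lit 78) (Steps.fwd (nat_lit 8192) (Steps.bwd (nat_lit 12) (Steps.fwd (nat_lit 16384) (Steps.bwd (nat_lit 10) Steps.nil)))) (nat_lit 42) (nat_lit 0),
  Rule.mk (nat_lit 1) (nat_lit 110) (Steps.fwd (nat_lit 131072) (Steps.bwd (nat_lit 11) (Steps.bwd (nat_lit 14) (Steps.fwd (nat_lit 122880) (Steps.bwd (nat_lit 2) (Steps.fwd (nat_lit 122880) Steps.nil)))))) (nat_lit 44) (nat_lit 3),
  Rule.mk (nat_lit 15) (nat_lit 78) (Steps.bwd (nat_lit 17) (Steps.bwd (nat_lit 14) (Steps.bwd (nat_lit 16) (Steps.fwd (nat_lit 155648) Steps.nil)))) (nat_lit 40) (nat_lit 1),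
  Rule.mk (nat_lit 11) (nat_lit 94) (Steps.bwd (nat_lit 17) (Steps.fwd (nat_lit 90112) (Steps.bwd (nat_lit 16) (Steps.bwd (nat_lit 19) (Steps.bwd (nat_lit 19) Steps.nil))))) (nat_lit 34) (nat_lit 1),
  Rule.mk (nat_lit 1) (nat_lit 110) (Steps.bwd (nat_lit 17) (Steps.bwd (nat_lit 11) (Steps.fwd (nat_lit 122880) (Steps.bwd (nat_lit 14) (Steps.bwd (nat_lit 2) (Steps.fwd (nat_lit 122880) Steps.nil)))))) (nat_lit 44) (nat_lit 3),
  Rule.mk (nat_lit 2) (nat_lit 142) (Steps.bwd (nat_lit 17) (Steps.fwd (nat_lit 16384) (Steps.fwd (nat_lit 90112) (Steps.bwd (nat_lit 13) (Steps.bwd (nat_lit 15) (Steps.fwd (nat_lit 139264) (Steps.fwd (nat_lit 90112) (Steps.fwd (nat_lit 139264) Steps.nil)))))))) (nat_lit 47) (nat_lit 7),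
  Rule.mk (nat_lit 16) (nat_lit 142) (Steps.bwd (nat_lit 1) (Steps.bwd (nat_lit 17) (Steps.bwd (nat_lit 11) (Steps.fwd (nat_lit 131072) (Steps.bwd (nat_lit 14) (Steps.bwd (nat_lit 12) (Steps.bwd (nat_lit 11) (Steps.bwd (nat_lit 2) Steps.nil)))))))) (nat_lit 46) (nat_lit 2),
  Rule.mk (nat_lit 4) (nat_lit 206) (Steps.bwd (nat_lit 4) (Steps.fwd (nat_lit 8192) (Steps.bwd (nat_lit 9) (Steps.bwd (nat_lit 1) (Steps.bwd (nat_lit 1) (Steps.fwd (nat_lit 73728) (Steps.bwd (nat_lit 16) (Steps.fwd (nat_lit 147456) (Steps.fwd (nat_lit 81920) (Steps.fwd (nat_lit 8192) (Steps.fwd (nat_lit 32768) (Steps.bwd (nat_lit 2) Steps.nil)))))))))))) (nat_lit 68) (nat_lit 11),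
  Rule.mk (nat_lit 11) (nat_lit 126) (Steps.fwd (nat_lit 131072) (Steps.bwd (nat_lit 4) (Steps.bwd (nat_lit 13) (Steps.bwd (nat_lit 3) (Steps.fwd (nat_lit 106496) (Steps.bwd (nat_lit 14) (Steps.fwd (nat_lit 131072) Steps.nil))))))) (nat_lit 51) (nat_lit 4),
  Rule.mk (nat_lit 9) (nat_lit 270) (Steps.bwd (nat_lit 4) (Steps.bwd (nat_lit 12) (Steps.fwd (nat_lit 8192) (Steps.bwd (nat_lit 9) (Steps.fwd (nat_lit 8192) (Steps.fwd (nat_lit 73728) (Steps.fwd (nat_lit 8192) (Steps.bwd (nat_lit 18) (Steps.fwd (nat_lit 139264) (Steps.fwd (nat_lit 90112) (Steps.fwd (nat_lit 32768) (Steps.bwd (nat_lit 1) (Steps.bwd (nat_lit 4) (Steps.bwd (nat_lit 4) (Steps.fwd (nat_lit 8192) (Steps.fwd (nat_lit 65536) Steps.nil)))))))))))))))) (nat_lit 76) (nat_lit 2),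
  Rule.mk (nat_lit 9) (nat_lit 110) (Steps.bwd (nat_lit 10) (Steps.bwd (nat_lit 9) (Steps.fwd (nat_lit 90112) (Steps.bwd (nat_lit 4) (Steps.bwd (nat_lit 15) (Steps.fwd (nat_lit 24576) Steps.nil)))))) (nat_lit 60) (nat_lit 1),
  Rule.mk (nat_lit 9) (nat_lit 110) (Steps.bwd (nat_lit 16) (Steps.bwd (nat_lit 9) (Steps.bwd (nat_lit 17) (Steps.fwd (nat_lit 122880) (Steps.fwd (nat_lit 24576) (Steps.fwd (nat_lit 24576) Steps.nil)))))) (nat_lit 64) (nat_lit 1),
  Rule.mk (nat_lit 9) (nat_lit 158) (Steps.bwd (nat_lit 14) (Steps.bwd (nat_lit 9) (Steps.bwd (nat_lit 1) (Steps.bwd (nat_lit 16) (Steps.fwd (nat_lit 90112) (Steps.fwd (nat_lit 98304) (Steps.bwd (nat_lit 2) (Steps.bwd (nat_lit 4) (Steps.bwd (nat_lit 4) Steps.nil))))))))) (nat_lit 62) (nat_lit 1),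
  Rule.mk (nat_lit 18) (nat_lit 110) (Steps.fwd (nat_lit 73728) (Steps.fwd (nat_lit 139264) (Steps.fwd (nat_lit 81920) (Steps.fwd (nat_lit 122880) (Steps.fwd (nat_lit 81920) (Steps.bwd (nat_lit 9) Steps.nil)))))) (nat_lit 66) (nat_lit 2),
  Rule.mk (nat_lit 7) (nat_lit 126) (Steps.bwd (nat_lit 18) (Steps.fwd (nat_lit 8192) (Steps.bwd (nat_lit 2) (Steps.fwd (nat_lit 65536) (Steps.bwd (nat_lit 18) (Steps.bwd (nat_lit 7) (Steps.bwd (nat_lit 19) Steps.nil))))))) (nat_lit 86) (nat_lit 5),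
  Rule.mk (nat_lit 0) (nat_lit 78) (Steps.bwd (nat_lit 4) (Steps.fwd (nat_lit 57344) (Steps.bwd (nat_lit 3) (Steps.fwd (nat_lit 65536) Steps.nil)))) (nat_lit 80) (nat_lit 0),
  Rule.mk (nat_lit 0) (nat_lit 62) (Steps.bwd (nat_lit 8) (Steps.fwd (nat_lit 0) (Steps.bwd (nat_lit 7) Steps.nil))) (nat_lit 88) (nat_lit 0),
  Rule.mk (nat_lit 0) (nat_lit 110) (Steps.fwd (nat_lit 24576) (Steps.bwd (nat_lit 2) (Steps.bwd (nat_lit 2) (Steps.bwd (nat_lit 3) (Steps.fwd (nat_lit 16384) (Steps.fwd (nat_lit 16384) Steps.nil)))))) (nat_lit 7) (nat_lit 0),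
  Rule.mk (nat_lit 18) (nat_lit 126) (Steps.bwd (nat_lit 7) (Steps.bwd (nat_lit 19) (Steps.fwd (nat_lit 65536) (Steps.bwd (nat_lit 18) (Steps.bwd (nat_lit 2) (Steps.fwd (nat_lit 8192) (Steps.fwd (nat_lit 65536) Steps.nil))))))) (nat_lit 86) (nat_lit 2),
  Rule.mk (nat_lit 15) (nat_lit 62) (Steps.fwd (nat_lit 24576) (Steps.fwd (nat_lit 49152) (Steps.bwd (nat_lit 3) Steps.nil))) (nat_lit 15) (nat_lit 0),
  Rule.mk (nat_lit 10) (nat_lit 110) (Steps.bwd (nat_lit 16) (Steps.bwd (nat_lit 2) (Steps.bwd (nat_lit 15) (Steps.bwd (nat_lit 1) (Steps.fwd (nat_lit 114688) (Steps.fwd (nat_lit 114688) Steps.nil)))))) (nat_lit 45) (nat_lit 3),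
  Rule.mk (nat_lit 11) (nat_lit 78) (Steps.fwd (nat_lit 81920) (Steps.fwd (nat_lit 8192) (Steps.bwd (nat_lit 13) (Steps.fwd (nat_lit 16384) Steps.nil)))) (nat_lit 43) (nat_lit 1),
  Rule.mk (nat_lit 10) (nat_lit 94) (Steps.bwd (nat_lit 18) (Steps.fwd (nat_lit 155648) (Steps.bwd (nat_lit 17) (Steps.bwd (nat_lit 11) (Steps.bwd (nat_lit 16) Steps.nil))))) (nat_lit 35) (nat_lit 0)]
noncomputable def R_20 : List (Rule) := [Rule.mk (nat_lit 12) (nat_lit 78) (Steps.fwd (nat_lit 16384) (Steps.fwd (nat_lit 90112) (Steps.bwd (nat_lit 10) (Steps.fwd (nat_lit 8192) Steps.nil)))) (nat_lit 42) (nat_lit 2),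
  Rule.mk (nat_lit 10) (nat_lit 78) (Steps.bwd (nat_lit 10) (Steps.bwd (nat_lit 2) (Steps.fwd (nat_lit 106496) (Steps.fwd (nat_lit 16384) Steps.nil)))) (nat_lit 42) (nat_lit 4),
  Rule.mk (nat_lit 15) (nat_lit 110) (Steps.fwd (nat_lit 16384) (Steps.fwd (nat_lit 114688) (Steps.fwd (nat_lit 114688) (Steps.bwd (nat_lit 10) (Steps.bwd (nat_lit 16) (Steps.bwd (nat_lit 2) Steps.nil)))))) (nat_lit 45) (nat_lit 6),
  Rule.mk (nat_lit 15) (nat_lit 126) (Steps.fwd (nat_lit 32768) (Steps.bwd (nat_lit 10) (Steps.bwd (nat_lit 10) (Steps.bwd (nat_lit 16) (Steps.fwd (nat_lit 114688) (Steps.fwd (nat_lit 114688) (Steps.bwd (nat_lit 4) Steps.nil))))))) (nat_lit 53) (nat_lit 7),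
  Rule.mk (nat_lit 7) (nat_lit 126) (Steps.bwd (nat_lit 19) (Steps.bwd (nat_lit 7) (Steps.bwd (nat_lit 18) (Steps.bwd (nat_lit 2) (Steps.bwd (nat_lit 2) (Steps.fwd (nat_lit 65536) (Steps.bwd (nat_lit 18) Steps.nil))))))) (nat_lit 86) (nat_lit 3),
  Rule.mk (nat_lit 8) (nat_lit 62) (Steps.fwd (nat_lit 24576) (Steps.bwd (nat_lit 7) (Steps.fwd (nat_lit 32768) Steps.nil))) (nat_lit 81) (nat_lit 1),
  Rule.mk (nat_lit 8) (nat_lit 94) (Steps.bwd (nat_lit 1) (Steps.bwd (nat_lit 1) (Steps.fwd (nat_lit 16384) (Steps.bwd (nat_lit 1) (Steps.bwd (nat_lit 8) Steps.nil))))) (nat_lit 79) (nat_lit 0),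
  Rule.mk (nat_lit 7) (nat_lit 94) (Steps.bwd (nat_lit 1) (Steps.fwd (nat_lit 16384) (Steps.bwd (nat_lit 1) (Steps.bwd (nat_lit 8) (Steps.bwd (nat_lit 2) Steps.nil))))) (nat_lit 83) (nat_lit 0),
  Rule.mk (nat_lit 0) (nat_lit 126) (Steps.bwd (nat_lit 9) (Steps.fwd (nat_lit 32768) (Steps.fwd (nat_lit 73728) (Steps.bwd (nat_lit 16) (Steps.fwd (nat_lit 139264) (Steps.bwd (nat_lit 14) (Steps.bwd (nat_lit 11) Steps.nil))))))) (nat_lit 70) (nat_lit 0),
  Rule.mk (nat_lit 0) (nat_lit 62) (Steps.bwd (nat_lit 4) (Steps.fwd (nat_lit 0) (Steps.fwd (nat_lit 32768) Steps.nil))) (nat_lit 88) (nat_lit 0),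
  Rule.mk (nat_lit 9) (nat_lit 46) (Steps.bwd (nat_lit 0) (Steps.bwd (nat_lit 9) Steps.nil)) (nat_lit 88) (nat_lit 0),
  Rule.mk (nat_lit 0) (nat_lit 62) (Steps.fwd (nat_lit 24576) (Steps.fwd (nat_lit 0) (Steps.fwd (nat_lit 32768) Steps.nil))) (nat_lit 88) (nat_lit 0),
  Rule.mk (nat_lit 9) (nat_lit 46) (Steps.bwd (nat_lit 0) (Steps.fwd (nat_lit 73728) Steps.nil)) (nat_lit 88) (nat_lit 0),
  Rule.mk (nat_lit 9) (nat_lit 158) (Steps.fwd (nat_lit 16384) (Steps.fwd (nat_lit 139264) (Steps.fwd (nat_lit 90112) (Steps.fwd (nat_lit 98304) (Steps.bwd (nat_lit 2) (Steps.bwd (nat_lit 4) (Steps.bwd (nat_lit 4) (Steps.bwd (nat_lit 9) (Steps.bwd (nat_lit 14) Steps.nil))))))))) (nat_lit 62) (nat_lit 3),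
  Rule.mk (nat_lit 3) (nat_lit 110) (Steps.fwd (nat_lit 81920) (Steps.bwd (nat_lit 9) (Steps.fwd (nat_lit 81920) (Steps.bwd (nat_lit 9) (Steps.bwd (nat_lit 3) (Steps.fwd (nat_lit 122880) Steps.nil)))))) (nat_lit 61) (nat_lit 3),
  Rule.mk (nat_lit 9) (nat_lit 110) (Steps.fwd (nat_lit 131072) (Steps.bwd (nat_lit 14) (Steps.bwd (nat_lit 4) (Steps.fwd (nat_lit 24576) (Steps.bwd (nat_lit 9) (Steps.bwd (nat_lit 16) Steps.nil)))))) (nat_lit 64) (nat_lit 3),
  Rule.mk (nat_lit 3) (nat_lit 110) (Steps.bwd (nat_lit 15) (Steps.bwd (nat_lit 16) (Steps.bwd (nat_lit 9) (Steps.bwd (nat_lit 17) (Steps.bwd (nat_lit 9) (Steps.bwd (nat_lit 3) Steps.nil)))))) (nat_lit 65) (nat_lit 2),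
  Rule.mk (nat_lit 9) (nat_lit 110) (Steps.bwd (nat_lit 19) (Steps.bwd (nat_lit 9) (Steps.bwd (nat_lit 10) (Steps.fwd (nat_lit 114688) (Steps.bwd (nat_lit 10) (Steps.fwd (nat_lit 131072) Steps.nil)))))) (nat_lit 67) (nat_lit 5),
  Rule.mk (nat_lit 3) (nat_lit 110) (Steps.fwd (nat_lit 114688) (Steps.fwd (nat_lit 139264) (Steps.bwd (nat_lit 9) (Steps.bwd (nat_lit 17) (Steps.fwd (nat_lit 73728) (Steps.fwd (nat_lit 32768) Steps.nil)))))) (nat_lit 65) (nat_lit 2),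
  Rule.mk (nat_lit 4) (nat_lit 62) (Steps.bwd (nat_lit 6) (Steps.bwd (nat_lit 3) (Steps.fwd (nat_lit 122880) Steps.nil))) (nat_lit 14) (nat_lit 2),
  Rule.mk (nat_lit 9) (nat_lit 206) (Steps.bwd (nat_lit 2) (Steps.fwd (nat_lit 8192) (Steps.fwd (nat_lit 73728) (Steps.bwd (nat_lit 1) (Steps.fwd (nat_lit 32768) (Steps.bwd (nat_lit 3) (Steps.fwd (nat_lit 16384) (Steps.fwd (nat_lit 24576) (Steps.bwd (nat_lit 1) (Steps.bwd (nat_lit 10) (Steps.bwd (nat_lit 18) (Steps.fwd (nat_lit 131072) Steps.nil)))))))))))) (nat_lit 69) (nat_lit 10),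
  Rule.mk (nat_lit 9) (nat_lit 206) (Steps.fwd (nat_lit 16384) (Steps.fwd (nat_lit 32768) (Steps.fwd (nat_lit 32768) (Steps.fwd (nat_lit 16384) (Steps.bwd (nat_lit 4) (Steps.bwd (nat_lit 1) (Steps.fwd (nat_lit 90112) (Steps.bwd (nat_lit 18) (Steps.fwd (nat_lit 131072) (Steps.fwd (nat_lit 73728) (Steps.bwd (nat_lit 2) (Steps.bwd (nat_lit 2) Steps.nil)))))))))))) (nat_lit 69) (nat_lit 0),
  Rule.mk (nat_lit 4) (nat_lit 110) (Steps.bwd (nat_lit 4) (Steps.fwd (nat_lit 73728) (Steps.bwd (nat_lit 16) (Steps.bwd (nat_lit 9) (Steps.fwd (nat_lit 131072) (Steps.bwd (nat_lit 14) Steps.nil)))))) (nat_lit 64) (nat_lit 6),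
  Rule.mk (nat_lit 15) (nat_lit 158) (Steps.bwd (nat_lit 9) (Steps.bwd (nat_lit 3) (Steps.fwd (nat_lit 32768) (Steps.fwd (nat_lit 16384) (Steps.fwd (nat_lit 106496) (Steps.fwd (nat_lit 81920) (Steps.fwd (nat_lit 131072) (Steps.fwd (nat_lit 8192) (Steps.fwd (nat_lit 73728) Steps.nil))))))))) (nat_lit 63) (nat_lit 9),
  Rule.mk (nat_lit 0) (nat_lit 78) (Steps.fwd (nat_lit 122880) (Steps.fwd (nat_lit 155648) (Steps.bwd (nat_lit 15) (Steps.fwd (nat_lit 147456) Steps.nil)))) (nat_lit 28) (nat_lit 2),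
  Rule.mk (nat_lit 16) (nat_lit 78) (Steps.fwd (nat_lit 155648) (Steps.bwd (nat_lit 15) (Steps.fwd (nat_lit 131072) (Steps.bwd (nat_lit 14) Steps.nil)))) (nat_lit 40) (nat_lit 4),
  Rule.mk (nat_lit 9) (nat_lit 206) (Steps.bwd (nat_lit 16) (Steps.bwd (nat_lit 19) (Steps.fwd (nat_lit 81920) (Steps.bwd (nat_lit 2) (Steps.bwd (nat_lit 2) (Steps.fwd (nat_lit 73728) (Steps.bwd (nat_lit 1) (Steps.bwd (nat_lit 3) (Steps.bwd (nat_lit 3) (Steps.bwd (nat_lit 1) (Steps.fwd (nat_lit 24576) (Steps.bwd (nat_lit 1) Steps.nil)))))))))))) (nat_lit 72) (nat_lit 8),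
  Rule.mk (nat_lit 4) (nat_lit 110) (Steps.bwd (nat_lit 9) (Steps.bwd (nat_lit 10) (Steps.fwd (nat_lit 73728) (Steps.bwd (nat_lit 10) (Steps.bwd (nat_lit 4) (Steps.bwd (nat_lit 15) Steps.nil)))))) (nat_lit 60) (nat_lit 0),
  Rule.mk (nat_lit 9) (nat_lit 270) (Steps.bwd (nat_lit 2) (Steps.fwd (nat_lit 155648) (Steps.fwd (nat_lit 139264) (Steps.fwd (nat_lit 90112) (Steps.fwd (nat_lit 32768) (Steps.bwd (nat_lit 1) (Steps.bwd (nat_lit 4) (Steps.bwd (nat_lit 4) (Steps.fwd (nat_lit 8192) (Steps.fwd (nat_lit 65536) (Steps.fwd (nat_lit 73728) (Steps.fwd (nat_lit 24576) (Steps.bwd (nat_lit 12) (Steps.bwd (nat_lit 2) (Steps.bwd (nat_lit 9) (Steps.bwd (nat_lit 2) Steps.nil)))))))))))))))) (nat_lit 76) (nat_lit 8),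
  Rule.mk (nat_lit 3) (nat_lit 270) (Steps.bwd (nat_lit 9) (Steps.bwd (nat_lit 8) (Steps.bwd (nat_lit 1) (Steps.bwd (nat_lit 3) (Steps.bwd (nat_lit 3) (Steps.fwd (nat_lit 8192) (Steps.fwd (nat_lit 24576) (Steps.fwd (nat_lit 81920) (Steps.fwd (nat_lit 131072) (Steps.fwd (nat_lit 147456) (Steps.bwd (nat_lit 1) (Steps.fwd (nat_lit 73728) (Steps.bwd (nat_lit 1) (Steps.bwd (nat_lit 9) (Steps.fwd (nat_lit 16384) (Steps.fwd (nat_lit 98304) Steps.nil)))))))))))))))) (nat_lit 77) (nat_lit 15),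
  Rule.mk (nat_lit 9) (nat_lit 110) (Steps.bwd (nat_lit 17) (Steps.bwd (nat_lit 9) (Steps.fwd (nat_lit 32768) (Steps.bwd (nat_lit 3) (Steps.bwd (nat_lit 15) (Steps.bwd (nat_lit 16) Steps.nil)))))) (nat_lit 65) (nat_lit 5),
  Rule.mk (nat_lit 17) (nat_lit 110) (Steps.bwd (nat_lit 17) (Steps.bwd (nat_lit 9) (Steps.fwd (nat_lit 24576) (Steps.bwd (nat_lit 9) (Steps.bwd (nat_lit 10) (Steps.fwd (nat_lit 114688) Steps.nil)))))) (nat_lit 71) (nat_lit 3),
  Rule.mk (nat_lit 15) (nat_lit 110) (Steps.bwd (nat_lit 17) (Steps.fwd (nat_lit 131072) (Steps.fwd (nat_lit 73728) (Steps.bwd (nat_lit 4) (Steps.bwd (nat_lit 9) (Steps.bwd (nat_lit 10) Steps.nil)))))) (nat_lit 71) (nat_lit 2),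
  Rule.mk (nat_lit 14) (nat_lit 78) (Steps.fwd (nat_lit 139264) (Steps.bwd (nat_lit 18) (Steps.bwd (nat_lit 15) (Steps.bwd (nat_lit 17) Steps.nil)))) (nat_lit 40) (nat_lit 3),
  Rule.mk (nat_lit 10) (nat_lit 110) (Steps.bwd (nat_lit 4) (Steps.fwd (nat_lit 114688) (Steps.bwd (nat_lit 4) (Steps.fwd (nat_lit 73728) (Steps.bwd (nat_lit 10) (Steps.fwd (nat_lit 73728) Steps.nil)))))) (nat_lit 60) (nat_lit 4),
  Rule.mk (nat_lit 15) (nat_lit 110) (Steps.fwd (nat_lit 16384) (Steps.bwd (nat_lit 15) (Steps.fwd (nat_lit 114688) (Steps.bwd (nat_lit 10) (Steps.fwd (nat_lit 139264) (Steps.fwd (nat_lit 8192) Steps.nil)))))) (nat_lit 45) (nat_lit 6),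
  Rule.mk (nat_lit 14) (nat_lit 78) (Steps.bwd (nat_lit 12) (Steps.bwd (nat_lit 19) (Steps.bwd (nat_lit 15) (Steps.fwd (nat_lit 98304) Steps.nil)))) (nat_lit 37) (nat_lit 4),
  Rule.mk (nat_lit 0) (nat_lit 78) (Steps.fwd (nat_lit 49152) (Steps.bwd (nat_lit 3) (Steps.fwd (nat_lit 114688) (Steps.bwd (nat_lit 4) Steps.nil)))) (nat_lit 15) (nat_lit 1),
  Rule.mk (nat_lit 0) (nat_lit 62) (Steps.bwd (nat_lit 1) (Steps.fwd (nat_lit 0) (Steps.fwd (nat_lit 8192) Steps.nil))) (nat_lit 88) (nat_lit 0),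
  Rule.mk (nat_lit 0) (nat_lit 62) (Steps.fwd (nat_lit 8192) (Steps.fwd (nat_lit 0) (Steps.fwd (nat_lit 16384) Steps.nil))) (nat_lit 88) (nat_lit 0),
  Rule.mk (nat_lit 0) (nat_lit 62) (Steps.fwd (nat_lit 16384) (Steps.fwd (nat_lit 0) (Steps.bwd (nat_lit 2) Steps.nil))) (nat_lit 88) (nat_lit 0),
  Rule.mk (nat_lit 13) (nat_lit 46) (Steps.bwd (nat_lit 0) (Steps.bwd (nat_lit 12) Steps.nil)) (nat_lit 88) (nat_lit 0),
  Rule.mk (nat_lit 13) (nat_lit 46) (Steps.bwd (nat_lit 0) (Steps.fwd (nat_lit 106496) Steps.nil)) (nat_lit 88) (nat_lit 0),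
  Rule.mk (nat_lit 0) (nat_lit 62) (Steps.bwd (nat_lit 1) (Steps.fwd (nat_lit 0) (Steps.bwd (nat_lit 2) Steps.nil))) (nat_lit 88) (nat_lit 0),
  Rule.mk (nat_lit 8) (nat_lit 126) (Steps.fwd (nat_lit 16384) (Steps.bwd (nat_lit 1) (Steps.fwd (nat_lit 147456) (Steps.bwd (nat_lit 8) (Steps.bwd (nat_lit 18) (Steps.bwd (nat_lit 8) (Steps.bwd (nat_lit 19) Steps.nil))))))) (nat_lit 87) (nat_lit 0),
  Rule.mk (nat_lit 18) (nat_lit 78) (Steps.bwd (nat_lit 18) (Steps.fwd (nat_lit 8192) (Steps.bwd (nat_lit 19) (Steps.fwd (nat_lit 16384) Steps.nil)))) (nat_lit 49) (nat_lit 1),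
  Rule.mk (nat_lit 15) (nat_lit 62) (Steps.fwd (nat_lit 24576) (Steps.bwd (nat_lit 5) (Steps.fwd (nat_lit 32768) Steps.nil))) (nat_lit 15) (nat_lit 0),
  Rule.mk (nat_lit 10) (nat_lit 78) (Steps.bwd (nat_lit 2) (Steps.fwd (nat_lit 106496) (Steps.fwd (nat_lit 16384) (Steps.fwd (nat_lit 90112) Steps.nil)))) (nat_lit 42) (nat_lit 0),
  Rule.mk (nat_lit 3) (nat_lit 94) (Steps.bwd (nat_lit 2) (Steps.bwd (nat_lit 2) (Steps.bwd (nat_lit 4) (Steps.bwd (nat_lit 1) (Steps.fwd (nat_lit 16384) Steps.nil))))) (nat_lit 6) (nat_lit 0),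
  Rule.mk (nat_lit 2) (nat_lit 94) (Steps.bwd (nat_lit 2) (Steps.fwd (nat_lit 32768) (Steps.fwd (nat_lit 16384) (Steps.bwd (nat_lit 1) (Steps.fwd (nat_lit 24576) Steps.nil))))) (nat_lit 7) (nat_lit 2),
  Rule.mk (nat_lit 4) (nat_lit 94) (Steps.bwd (nat_lit 2) (Steps.bwd (nat_lit 2) (Steps.bwd (nat_lit 3) (Steps.fwd (nat_lit 16384) (Steps.fwd (nat_lit 16384) Steps.nil))))) (nat_lit 7) (nat_lit 1),
  Rule.mk (nat_lit 16) (nat_lit 110) (Steps.bwd (nat_lit 2) (Steps.bwd (nat_lit 15) (Steps.bwd (nat_lit 1) (Steps.fwd (nat_lit 114688) (Steps.bwd (nat_lit 15) (Steps.bwd (nat_lit 10) Steps.nil)))))) (nat_lit 45) (nat_lit 4),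
  Rule.mk (nat_lit 9) (nat_lit 110) (Steps.bwd (nat_lit 16) (Steps.fwd (nat_lit 81920) (Steps.fwd (nat_lit 122880) (Steps.fwd (nat_lit 81920) (Steps.bwd (nat_lit 9) (Steps.bwd (nat_lit 18) Steps.nil)))))) (nat_lit 66) (nat_lit 3),
  Rule.mk (nat_lit 14) (nat_lit 110) (Steps.bwd (nat_lit 11) (Steps.fwd (nat_lit 73728) (Steps.bwd (nat_lit 3) (Steps.bwd (nat_lit 9) (Steps.bwd (nat_lit 16) (Steps.bwd (nat_lit 16) Steps.nil)))))) (nat_lit 70) (nat_lit 6),
  Rule.mk (nat_lit 19) (nat_lit 206) (Steps.fwd (nat_lit 81920) (Steps.fwd (nat_lit 8192) (Steps.bwd (nat_lit 3) (Steps.fwd (nat_lit 8192) (Steps.fwd (nat_lit 24576) (Steps.fwd (nat_lit 24576) (Steps.bwd (nat_lit 2) (Steps.bwd (nat_lit 9) (Steps.bwd (nat_lit 1) (Steps.bwd (nat_lit 1) (Steps.bwd (nat_lit 9) (Steps.bwd (nat_lit 16) Steps.nil)))))))))))) (nat_lit 68) (nat_lit 6),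
  Rule.mk (nat_lit 16) (nat_lit 78) (Steps.bwd (nat_lit 18) (Steps.bwd (nat_lit 15) (Steps.bwd (nat_lit 17) (Steps.fwd (nat_lit 122880) Steps.nil)))) (nat_lit 40) (nat_lit 4),
  Rule.mk (nat_lit 11) (nat_lit 94) (Steps.bwd (nat_lit 15) (Steps.bwd (nat_lit 10) (Steps.bwd (nat_lit 14) (Steps.fwd (nat_lit 155648) (Steps.fwd (nat_lit 155648) Steps.nil))))) (nat_lit 32) (nat_lit 1),
  Rule.mk (nat_lit 2) (nat_lit 110) (Steps.bwd (nat_lit 15) (Steps.bwd (nat_lit 1) (Steps.bwd (nat_lit 15) (Steps.bwd (nat_lit 15) (Steps.bwd (nat_lit 10) (Steps.fwd (nat_lit 139264) Steps.nil)))))) (nat_lit 45) (nat_lit 5),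
  Rule.mk (nat_lit 15) (nat_lit 110) (Steps.bwd (nat_lit 15) (Steps.bwd (nat_lit 10) (Steps.bwd (nat_lit 16) (Steps.bwd (nat_lit 2) (Steps.bwd (nat_lit 15) (Steps.fwd (nat_lit 16384) Steps.nil)))))) (nat_lit 45) (nat_lit 1),
  Rule.mk (nat_lit 4) (nat_lit 110) (Steps.bwd (nat_lit 15) (Steps.bwd (nat_lit 4) (Steps.bwd (nat_lit 9) (Steps.bwd (nat_lit 10) (Steps.fwd (nat_lit 73728) (Steps.bwd (nat_lit 10) Steps.nil)))))) (nat_lit 60) (nat_lit 5),
  Rule.mk (nat_lit 10) (nat_lit 110) (Steps.bwd (nat_lit 15) (Steps.bwd (nat_lit 10) (Steps.fwd (nat_lit 131072) (Steps.fwd (nat_lit 73728) (Steps.fwd (nat_lit 147456) (Steps.bwd (nat_lit 9) Steps.nil)))))) (nat_lit 67) (nat_lit 1),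
  Rule.mk (nat_lit 10) (nat_lit 110) (Steps.bwd (nat_lit 9) (Steps.fwd (nat_lit 90112) (Steps.fwd (nat_lit 24576) (Steps.fwd (nat_lit 114688) (Steps.fwd (nat_lit 24576) (Steps.fwd (nat_lit 73728) Steps.nil)))))) (nat_lit 60) (nat_lit 2),
  Rule.mk (nat_lit 16) (nat_lit 110) (Steps.bwd (nat_lit 9) (Steps.fwd (nat_lit 131072) (Steps.fwd (nat_lit 122880) (Steps.bwd (nat_lit 4) (Steps.fwd (nat_lit 24576) (Steps.fwd (nat_lit 73728) Steps.nil)))))) (nat_lit 64) (nat_lit 2),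
  Rule.mk (nat_lit 4) (nat_lit 110) (Steps.bwd (nat_lit 9) (Steps.fwd (nat_lit 139264) (Steps.bwd (nat_lit 9) (Steps.bwd (nat_lit 17) (Steps.fwd (nat_lit 122880) (Steps.fwd (nat_lit 24576) Steps.nil)))))) (nat_lit 64) (nat_lit 0)]
noncomputable def R_21 : List (Rule) := [Rule.mk (nat_lit 17) (nat_lit 110) (Steps.bwd (nat_lit 9) (Steps.bwd (nat_lit 3) (Steps.fwd (nat_lit 32768) (Steps.bwd (nat_lit 15) (Steps.fwd (nat_lit 139264) (Steps.bwd (nat_lit 9) Steps.nil)))))) (nat_lit 65) (nat_lit 6),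
  Rule.mk (nat_lit 18) (nat_lit 110) (Steps.bwd (nat_lit 9) (Steps.fwd (nat_lit 139264) (Steps.bwd (nat_lit 11) (Steps.fwd (nat_lit 122880) (Steps.bwd (nat_lit 11) (Steps.bwd (nat_lit 9) Steps.nil)))))) (nat_lit 66) (nat_lit 2),
  Rule.mk (nat_lit 19) (nat_lit 110) (Steps.bwd (nat_lit 9) (Steps.fwd (nat_lit 90112) (Steps.fwd (nat_lit 114688) (Steps.fwd (nat_lit 90112) (Steps.fwd (nat_lit 131072) (Steps.fwd (nat_lit 73728) Steps.nil)))))) (nat_lit 67) (nat_lit 6),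
  Rule.mk (nat_lit 3) (nat_lit 110) (Steps.bwd (nat_lit 9) (Steps.fwd (nat_lit 139264) (Steps.bwd (nat_lit 16) (Steps.fwd (nat_lit 122880) (Steps.bwd (nat_lit 11) (Steps.bwd (nat_lit 9) Steps.nil)))))) (nat_lit 70) (nat_lit 2),
  Rule.mk (nat_lit 14) (nat_lit 158) (Steps.bwd (nat_lit 9) (Steps.fwd (nat_lit 16384) (Steps.fwd (nat_lit 139264) (Steps.fwd (nat_lit 90112) (Steps.fwd (nat_lit 98304) (Steps.bwd (nat_lit 2) (Steps.bwd (nat_lit 4) (Steps.fwd (nat_lit 24576) (Steps.fwd (nat_lit 73728) Steps.nil))))))))) (nat_lit 62) (nat_lit 2),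
  Rule.mk (nat_lit 15) (nat_lit 158) (Steps.bwd (nat_lit 9) (Steps.bwd (nat_lit 3) (Steps.fwd (nat_lit 32768) (Steps.bwd (nat_lit 1) (Steps.bwd (nat_lit 12) (Steps.bwd (nat_lit 11) (Steps.fwd (nat_lit 131072) (Steps.bwd (nat_lit 2) (Steps.bwd (nat_lit 9) Steps.nil))))))))) (nat_lit 63) (nat_lit 9),
  Rule.mk (nat_lit 9) (nat_lit 110) (Steps.bwd (nat_lit 10) (Steps.bwd (nat_lit 4) (Steps.bwd (nat_lit 15) (Steps.fwd (nat_lit 24576) (Steps.bwd (nat_lit 9) (Steps.fwd (nat_lit 90112) Steps.nil)))))) (nat_lit 60) (nat_lit 3),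
  Rule.mk (nat_lit 3) (nat_lit 126) (Steps.bwd (nat_lit 10) (Steps.bwd (nat_lit 10) (Steps.fwd (nat_lit 139264) (Steps.bwd (nat_lit 15) (Steps.fwd (nat_lit 114688) (Steps.bwd (nat_lit 4) (Steps.fwd (nat_lit 114688) Steps.nil))))))) (nat_lit 53) (nat_lit 0),
  Rule.mk (nat_lit 8) (nat_lit 62) (Steps.bwd (nat_lit 4) (Steps.fwd (nat_lit 65536) (Steps.bwd (nat_lit 3) Steps.nil))) (nat_lit 81) (nat_lit 1),
  Rule.mk (nat_lit 9) (nat_lit 158) (Steps.bwd (nat_lit 14) (Steps.fwd (nat_lit 73728) (Steps.bwd (nat_lit 1) (Steps.bwd (nat_lit 16) (Steps.bwd (nat_lit 10) (Steps.bwd (nat_lit 13) (Steps.fwd (nat_lit 8192) (Steps.fwd (nat_lit 24576) (Steps.bwd (nat_lit 4) Steps.nil))))))))) (nat_lit 62) (nat_lit 1),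
  Rule.mk (nat_lit 3) (nat_lit 110) (Steps.fwd (nat_lit 122880) (Steps.bwd (nat_lit 3) (Steps.fwd (nat_lit 81920) (Steps.fwd (nat_lit 73728) (Steps.bwd (nat_lit 11) (Steps.bwd (nat_lit 9) Steps.nil)))))) (nat_lit 61) (nat_lit 1),
  Rule.mk (nat_lit 11) (nat_lit 158) (Steps.bwd (nat_lit 17) (Steps.bwd (nat_lit 2) (Steps.bwd (nat_lit 9) (Steps.bwd (nat_lit 15) (Steps.bwd (nat_lit 9) (Steps.bwd (nat_lit 3) (Steps.bwd (nat_lit 3) (Steps.fwd (nat_lit 16384) (Steps.fwd (nat_lit 106496) Steps.nil))))))))) (nat_lit 63) (nat_lit 5),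
  Rule.mk (nat_lit 10) (nat_lit 94) (Steps.fwd (nat_lit 139264) (Steps.fwd (nat_lit 147456) (Steps.bwd (nat_lit 19) (Steps.fwd (nat_lit 81920) (Steps.bwd (nat_lit 17) Steps.nil))))) (nat_lit 34) (nat_lit 3),
  Rule.mk (nat_lit 2) (nat_lit 94) (Steps.bwd (nat_lit 3) (Steps.fwd (nat_lit 16384) (Steps.fwd (nat_lit 16384) (Steps.fwd (nat_lit 24576) (Steps.bwd (nat_lit 2) Steps.nil))))) (nat_lit 7) (nat_lit 3),
  Rule.mk (nat_lit 9) (nat_lit 206) (Steps.fwd (nat_lit 8192) (Steps.bwd (nat_lit 3) (Steps.bwd (nat_lit 2) (Steps.bwd (nat_lit 4) (Steps.bwd (nat_lit 4) (Steps.bwd (nat_lit 2) (Steps.bwd (nat_lit 9) (Steps.fwd (nat_lit 16384) (Steps.bwd (nat_lit 1) (Steps.bwd (nat_lit 10) (Steps.bwd (nat_lit 18) (Steps.fwd (nat_lit 131072) Steps.nil)))))))))))) (nat_lit 73) (nat_lit 6),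
  Rule.mk (nat_lit 9) (nat_lit 110) (Steps.fwd (nat_lit 90112) (Steps.bwd (nat_lit 15) (Steps.fwd (nat_lit 90112) (Steps.fwd (nat_lit 131072) (Steps.bwd (nat_lit 9) (Steps.fwd (nat_lit 147456) Steps.nil)))))) (nat_lit 67) (nat_lit 0),
  Rule.mk (nat_lit 9) (nat_lit 190) (Steps.bwd (nat_lit 12) (Steps.bwd (nat_lit 9) (Steps.bwd (nat_lit 13) (Steps.bwd (nat_lit 9) (Steps.bwd (nat_lit 12) (Steps.bwd (nat_lit 17) (Steps.fwd (nat_lit 16384) (Steps.bwd (nat_lit 14) (Steps.bwd (nat_lit 1) (Steps.fwd (nat_lit 16384) (Steps.fwd (nat_lit 16384) Steps.nil))))))))))) (nat_lit 74) (nat_lit 1),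
  Rule.mk (nat_lit 9) (nat_lit 110) (Steps.bwd (nat_lit 18) (Steps.bwd (nat_lit 9) (Steps.fwd (nat_lit 139264) (Steps.bwd (nat_lit 11) (Steps.fwd (nat_lit 122880) (Steps.bwd (nat_lit 11) Steps.nil)))))) (nat_lit 66) (nat_lit 1),
  Rule.mk (nat_lit 11) (nat_lit 158) (Steps.bwd (nat_lit 17) (Steps.bwd (nat_lit 2) (Steps.fwd (nat_lit 73728) (Steps.bwd (nat_lit 15) (Steps.bwd (nat_lit 9) (Steps.fwd (nat_lit 32768) (Steps.fwd (nat_lit 32768) (Steps.fwd (nat_lit 16384) (Steps.bwd (nat_lit 12) Steps.nil))))))))) (nat_lit 63) (nat_lit 5),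
  Rule.mk (nat_lit 7) (nat_lit 62) (Steps.bwd (nat_lit 4) (Steps.bwd (nat_lit 8) (Steps.bwd (nat_lit 3) Steps.nil))) (nat_lit 80) (nat_lit 0),
  Rule.mk (nat_lit 8) (nat_lit 62) (Steps.bwd (nat_lit 4) (Steps.fwd (nat_lit 65536) (Steps.fwd (nat_lit 32768) Steps.nil))) (nat_lit 81) (nat_lit 1),
  Rule.mk (nat_lit 7) (nat_lit 62) (Steps.bwd (nat_lit 3) (Steps.fwd (nat_lit 57344) (Steps.bwd (nat_lit 4) Steps.nil))) (nat_lit 81) (nat_lit 3),
  Rule.mk (nat_lit 7) (nat_lit 62) (Steps.bwd (nat_lit 4) (Steps.fwd (nat_lit 57344) (Steps.fwd (nat_lit 32768) Steps.nil))) (nat_lit 80) (nat_lit 0),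
  Rule.mk (nat_lit 8) (nat_lit 62) (Steps.bwd (nat_lit 4) (Steps.bwd (nat_lit 7) (Steps.fwd (nat_lit 32768) Steps.nil))) (nat_lit 81) (nat_lit 1),
  Rule.mk (nat_lit 7) (nat_lit 126) (Steps.bwd (nat_lit 18) (Steps.fwd (nat_lit 8192) (Steps.fwd (nat_lit 8192) (Steps.bwd (nat_lit 7) (Steps.bwd (nat_lit 18) (Steps.fwd (nat_lit 65536) (Steps.fwd (nat_lit 147456) Steps.nil))))))) (nat_lit 86) (nat_lit 5),
  Rule.mk (nat_lit 8) (nat_lit 126) (Steps.bwd (nat_lit 19) (Steps.fwd (nat_lit 57344) (Steps.fwd (nat_lit 16384) (Steps.bwd (nat_lit 1) (Steps.bwd (nat_lit 19) (Steps.bwd (nat_lit 8) (Steps.fwd (nat_lit 155648) Steps.nil))))))) (nat_lit 87) (nat_lit 6),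
  Rule.mk (nat_lit 1) (nat_lit 62) (Steps.bwd (nat_lit 13) (Steps.fwd (nat_lit 8192) (Steps.fwd (nat_lit 49152) Steps.nil))) (nat_lit 13) (nat_lit 3),
  Rule.mk (nat_lit 8) (nat_lit 126) (Steps.bwd (nat_lit 18) (Steps.bwd (nat_lit 8) (Steps.bwd (nat_lit 19) (Steps.bwd (nat_lit 8) (Steps.bwd (nat_lit 1) (Steps.fwd (nat_lit 16384) (Steps.fwd (nat_lit 147456) Steps.nil))))))) (nat_lit 87) (nat_lit 4),
  Rule.mk (nat_lit 8) (nat_lit 126) (Steps.bwd (nat_lit 18) (Steps.fwd (nat_lit 57344) (Steps.fwd (nat_lit 147456) (Steps.fwd (nat_lit 57344) (Steps.fwd (nat_lit 16384) (Steps.fwd (nat_lit 16384) (Steps.fwd (nat_lit 147456) Steps.nil))))))) (nat_lit 87) (nat_lit 4),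
  Rule.mk (nat_lit 7) (nat_lit 126) (Steps.bwd (nat_lit 19) (Steps.bwd (nat_lit 7) (Steps.fwd (nat_lit 155648) (Steps.bwd (nat_lit 2) (Steps.fwd (nat_lit 8192) (Steps.fwd (nat_lit 65536) (Steps.fwd (nat_lit 155648) Steps.nil))))))) (nat_lit 86) (nat_lit 3),
  Rule.mk (nat_lit 3) (nat_lit 270) (Steps.bwd (nat_lit 9) (Steps.bwd (nat_lit 8) (Steps.fwd (nat_lit 16384) (Steps.fwd (nat_lit 32768) (Steps.bwd (nat_lit 3) (Steps.fwd (nat_lit 8192) (Steps.bwd (nat_lit 4) (Steps.bwd (nat_lit 11) (Steps.bwd (nat_lit 17) (Steps.bwd (nat_lit 19) (Steps.fwd (nat_lit 16384) (Steps.fwd (nat_lit 73728) (Steps.fwd (nat_lit 16384) (Steps.bwd (nat_lit 9) (Steps.fwd (nat_lit 16384) (Steps.bwd (nat_lit 13) Steps.nil)))))))))))))))) (nat_lit 77) (nat_lit 15),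
  Rule.mk (nat_lit 18) (nat_lit 62) (Steps.fwd (nat_lit 24576) (Steps.fwd (nat_lit 147456) (Steps.bwd (nat_lit 3) Steps.nil))) (nat_lit 55) (nat_lit 1),
  Rule.mk (nat_lit 14) (nat_lit 110) (Steps.fwd (nat_lit 81920) (Steps.fwd (nat_lit 73728) (Steps.bwd (nat_lit 18) (Steps.bwd (nat_lit 9) (Steps.fwd (nat_lit 139264) (Steps.bwd (nat_lit 11) Steps.nil)))))) (nat_lit 66) (nat_lit 6),
  Rule.mk (nat_lit 16) (nat_lit 78) (Steps.fwd (nat_lit 155648) (Steps.fwd (nat_lit 114688) (Steps.fwd (nat_lit 131072) (Steps.bwd (nat_lit 14) Steps.nil)))) (nat_lit 40) (nat_lit 4),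
  Rule.mk (nat_lit 14) (nat_lit 126) (Steps.bwd (nat_lit 14) (Steps.fwd (nat_lit 131072) (Steps.bwd (nat_lit 11) (Steps.bwd (nat_lit 11) (Steps.bwd (nat_lit 4) (Steps.bwd (nat_lit 14) (Steps.bwd (nat_lit 3) Steps.nil))))))) (nat_lit 52) (nat_lit 4),
  Rule.mk (nat_lit 9) (nat_lit 110) (Steps.bwd (nat_lit 3) (Steps.bwd (nat_lit 9) (Steps.bwd (nat_lit 16) (Steps.bwd (nat_lit 16) (Steps.bwd (nat_lit 14) (Steps.fwd (nat_lit 81920) Steps.nil)))))) (nat_lit 70) (nat_lit 1),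
  Rule.mk (nat_lit 6) (nat_lit 62) (Steps.fwd (nat_lit 24576) (Steps.bwd (nat_lit 16) (Steps.fwd (nat_lit 32768) Steps.nil))) (nat_lit 16) (nat_lit 3),
  Rule.mk (nat_lit 15) (nat_lit 126) (Steps.bwd (nat_lit 13) (Steps.fwd (nat_lit 24576) (Steps.fwd (nat_lit 106496) (Steps.bwd (nat_lit 3) (Steps.bwd (nat_lit 16) (Steps.bwd (nat_lit 10) (Steps.bwd (nat_lit 16) Steps.nil))))))) (nat_lit 50) (nat_lit 7),
  Rule.mk (nat_lit 0) (nat_lit 78) (Steps.fwd (nat_lit 24576) (Steps.bwd (nat_lit 6) (Steps.bwd (nat_lit 3) (Steps.fwd (nat_lit 122880) Steps.nil)))) (nat_lit 14) (nat_lit 1),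
  Rule.mk (nat_lit 0) (nat_lit 126) (Steps.bwd (nat_lit 15) (Steps.bwd (nat_lit 1) (Steps.bwd (nat_lit 15) (Steps.bwd (nat_lit 15) (Steps.bwd (nat_lit 10) (Steps.fwd (nat_lit 139264) (Steps.fwd (nat_lit 8192) Steps.nil))))))) (nat_lit 45) (nat_lit 5),
  Rule.mk (nat_lit 0) (nat_lit 94) (Steps.fwd (nat_lit 90112) (Steps.fwd (nat_lit 90112) (Steps.fwd (nat_lit 8192) (Steps.fwd (nat_lit 106496) (Steps.bwd (nat_lit 1) Steps.nil))))) (nat_lit 42) (nat_lit 3),
  Rule.mk (nat_lit 0) (nat_lit 62) (Steps.fwd (nat_lit 8192) (Steps.fwd (nat_lit 0) (Steps.bwd (nat_lit 1) Steps.nil))) (nat_lit 88) (nat_lit 0),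
  Rule.mk (nat_lit 0) (nat_lit 62) (Steps.bwd (nat_lit 2) (Steps.fwd (nat_lit 0) (Steps.fwd (nat_lit 16384) Steps.nil))) (nat_lit 88) (nat_lit 0),
  Rule.mk (nat_lit 0) (nat_lit 62) (Steps.bwd (nat_lit 3) (Steps.bwd (nat_lit 0) (Steps.bwd (nat_lit 4) Steps.nil))) (nat_lit 88) (nat_lit 0),
  Rule.mk (nat_lit 0) (nat_lit 62) (Steps.bwd (nat_lit 5) (Steps.bwd (nat_lit 0) (Steps.fwd (nat_lit 40960) Steps.nil))) (nat_lit 88) (nat_lit 0),
  Rule.mk (nat_lit 0) (nat_lit 62) (Steps.bwd (nat_lit 12) (Steps.bwd (nat_lit 0) (Steps.bwd (nat_lit 13) Steps.nil))) (nat_lit 88) (nat_lit 0),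
  Rule.mk (nat_lit 0) (nat_lit 62) (Steps.bwd (nat_lit 14) (Steps.bwd (nat_lit 0) (Steps.bwd (nat_lit 15) Steps.nil))) (nat_lit 88) (nat_lit 0),
  Rule.mk (nat_lit 0) (nat_lit 62) (Steps.bwd (nat_lit 18) (Steps.bwd (nat_lit 0) (Steps.fwd (nat_lit 147456) Steps.nil))) (nat_lit 88) (nat_lit 0),
  Rule.mk (nat_lit 0) (nat_lit 62) (Steps.bwd (nat_lit 19) (Steps.bwd (nat_lit 0) (Steps.fwd (nat_lit 155648) Steps.nil))) (nat_lit 88) (nat_lit 0),
  Rule.mk (nat_lit 0) (nat_lit 62) (Steps.bwd (nat_lit 6) (Steps.bwd (nat_lit 0) (Steps.bwd (nat_lit 5) Steps.nil))) (nat_lit 88) (nat_lit 0),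
  Rule.mk (nat_lit 0) (nat_lit 62) (Steps.bwd (nat_lit 16) (Steps.bwd (nat_lit 0) (Steps.bwd (nat_lit 17) Steps.nil))) (nat_lit 88) (nat_lit 0),
  Rule.mk (nat_lit 0) (nat_lit 62) (Steps.bwd (nat_lit 17) (Steps.bwd (nat_lit 0) (Steps.bwd (nat_lit 16) Steps.nil))) (nat_lit 88) (nat_lit 0),
  Rule.mk (nat_lit 0) (nat_lit 62) (Steps.bwd (nat_lit 19) (Steps.bwd (nat_lit 0) (Steps.bwd (nat_lit 18) Steps.nil))) (nat_lit 88) (nat_lit 0),
  Rule.mk (nat_lit 0) (nat_lit 62) (Steps.bwd (nat_lit 7) (Steps.fwd (nat_lit 0) (Steps.fwd (nat_lit 57344) Steps.nil))) (nat_lit 88) (nat_lit 0),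
  Rule.mk (nat_lit 7) (nat_lit 46) (Steps.bwd (nat_lit 0) (Steps.fwd (nat_lit 57344) Steps.nil)) (nat_lit 88) (nat_lit 0),
  Rule.mk (nat_lit 8) (nat_lit 46) (Steps.bwd (nat_lit 0) (Steps.fwd (nat_lit 65536) Steps.nil)) (nat_lit 88) (nat_lit 0),
  Rule.mk (nat_lit 8) (nat_lit 46) (Steps.bwd (nat_lit 0) (Steps.bwd (nat_lit 7) Steps.nil)) (nat_lit 88) (nat_lit 0),
  Rule.mk (nat_lit 3) (nat_lit 62) (Steps.bwd (nat_lit 0) (Steps.fwd (nat_lit 24576) (Steps.fwd (nat_lit 0) Steps.nil))) (nat_lit 88) (nat_lit 0),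
  Rule.mk (nat_lit 5) (nat_lit 62) (Steps.bwd (nat_lit 0) (Steps.bwd (nat_lit 6) (Steps.fwd (nat_lit 0) Steps.nil))) (nat_lit 88) (nat_lit 0),
  Rule.mk (nat_lit 0) (nat_lit 62) (Steps.fwd (nat_lit 65536) (Steps.fwd (nat_lit 0) (Steps.fwd (nat_lit 57344) Steps.nil))) (nat_lit 88) (nat_lit 0),
  Rule.mk (nat_lit 10) (nat_lit 62) (Steps.bwd (nat_lit 0) (Steps.fwd (nat_lit 81920) (Steps.fwd (nat_lit 0) Steps.nil))) (nat_lit 88) (nat_lit 0),
  Rule.mk (nat_lit 12) (nat_lit 46) (Steps.bwd (nat_lit 0) (Steps.bwd (nat_lit 13) Steps.nil)) (nat_lit 88) (nat_lit 0),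
  Rule.mk (nat_lit 18) (nat_lit 62) (Steps.bwd (nat_lit 0) (Steps.bwd (nat_lit 19) (Steps.fwd (nat_lit 0) Steps.nil))) (nat_lit 88) (nat_lit 0),
  Rule.mk (nat_lit 0) (nat_lit 62) (Steps.fwd (nat_lit 16384) (Steps.fwd (nat_lit 0) (Steps.fwd (nat_lit 8192) Steps.nil))) (nat_lit 88) (nat_lit 0)]
noncomputable def R_22 : List (Rule) := [Rule.mk (nat_lit 3) (nat_lit 62) (Steps.bwd (nat_lit 0) (Steps.bwd (nat_lit 4) (Steps.fwd (nat_lit 0) Steps.nil))) (nat_lit 88) (nat_lit 0),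
  Rule.mk (nat_lit 18) (nat_lit 62) (Steps.bwd (nat_lit 0) (Steps.fwd (nat_lit 147456) (Steps.fwd (nat_lit 0) Steps.nil))) (nat_lit 88) (nat_lit 0),
  Rule.mk (nat_lit 6) (nat_lit 62) (Steps.bwd (nat_lit 0) (Steps.bwd (nat_lit 5) (Steps.fwd (nat_lit 0) Steps.nil))) (nat_lit 88) (nat_lit 0),
  Rule.mk (nat_lit 11) (nat_lit 62) (Steps.bwd (nat_lit 0) (Steps.fwd (nat_lit 90112) (Steps.fwd (nat_lit 0) Steps.nil))) (nat_lit 88) (nat_lit 0),
  Rule.mk (nat_lit 12) (nat_lit 62) (Steps.bwd (nat_lit 0) (Steps.fwd (nat_lit 98304) (Steps.fwd (nat_lit 0) Steps.nil))) (nat_lit 88) (nat_lit 0),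
  Rule.mk (nat_lit 14) (nat_lit 62) (Steps.bwd (nat_lit 0) (Steps.bwd (nat_lit 15) (Steps.fwd (nat_lit 0) Steps.nil))) (nat_lit 88) (nat_lit 0),
  Rule.mk (nat_lit 16) (nat_lit 62) (Steps.bwd (nat_lit 0) (Steps.fwd (nat_lit 131072) (Steps.fwd (nat_lit 0) Steps.nil))) (nat_lit 88) (nat_lit 0),
  Rule.mk (nat_lit 4) (nat_lit 62) (Steps.bwd (nat_lit 0) (Steps.fwd (nat_lit 32768) (Steps.fwd (nat_lit 0) Steps.nil))) (nat_lit 88) (nat_lit 0),
  Rule.mk (nat_lit 6) (nat_lit 62) (Steps.bwd (nat_lit 0) (Steps.fwd (nat_lit 49152) (Steps.fwd (nat_lit 0) Steps.nil))) (nat_lit 88) (nat_lit 0),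
  Rule.mk (nat_lit 11) (nat_lit 62) (Steps.bwd (nat_lit 0) (Steps.bwd (nat_lit 10) (Steps.fwd (nat_lit 0) Steps.nil))) (nat_lit 88) (nat_lit 0),
  Rule.mk (nat_lit 15) (nat_lit 62) (Steps.bwd (nat_lit 0) (Steps.bwd (nat_lit 14) (Steps.fwd (nat_lit 0) Steps.nil))) (nat_lit 88) (nat_lit 0),
  Rule.mk (nat_lit 12) (nat_lit 62) (Steps.bwd (nat_lit 0) (Steps.bwd (nat_lit 13) (Steps.fwd (nat_lit 0) Steps.nil))) (nat_lit 88) (nat_lit 0),
  Rule.mk (nat_lit 4) (nat_lit 62) (Steps.bwd (nat_lit 0) (Steps.bwd (nat_lit 3) (Steps.fwd (nat_lit 0) Steps.nil))) (nat_lit 88) (nat_lit 0),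
  Rule.mk (nat_lit 0) (nat_lit 62) (Steps.fwd (nat_lit 57344) (Steps.fwd (nat_lit 0) (Steps.bwd (nat_lit 7) Steps.nil))) (nat_lit 88) (nat_lit 0),
  Rule.mk (nat_lit 13) (nat_lit 62) (Steps.bwd (nat_lit 0) (Steps.fwd (nat_lit 106496) (Steps.fwd (nat_lit 0) Steps.nil))) (nat_lit 88) (nat_lit 0),
  Rule.mk (nat_lit 15) (nat_lit 62) (Steps.bwd (nat_lit 0) (Steps.fwd (nat_lit 122880) (Steps.fwd (nat_lit 0) Steps.nil))) (nat_lit 88) (nat_lit 0),
  Rule.mk (nat_lit 17) (nat_lit 62) (Steps.bwd (nat_lit 0) (Steps.fwd (nat_lit 139264) (Steps.fwd (nat_lit 0) Steps.nil))) (nat_lit 88) (nat_lit 0),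
  Rule.mk (nat_lit 0) (nat_lit 78) (Steps.bwd (nat_lit 14) (Steps.bwd (nat_lit 4) (Steps.bwd (nat_lit 6) (Steps.fwd (nat_lit 32768) Steps.nil)))) (nat_lit 14) (nat_lit 0),
  Rule.mk (nat_lit 0) (nat_lit 142) (Steps.bwd (nat_lit 4) (Steps.fwd (nat_lit 8192) (Steps.bwd (nat_lit 4) (Steps.fwd (nat_lit 8192) (Steps.bwd (nat_lit 4) (Steps.bwd (nat_lit 2) (Steps.fwd (nat_lit 24576) (Steps.fwd (nat_lit 8192) Steps.nil)))))))) (nat_lit 5) (nat_lit 0),
  Rule.mk (nat_lit 7) (nat_lit 62) (Steps.fwd (nat_lit 24576) (Steps.bwd (nat_lit 8) (Steps.bwd (nat_lit 3) Steps.nil))) (nat_lit 80) (nat_lit 0),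
  Rule.mk (nat_lit 3) (nat_lit 78) (Steps.fwd (nat_lit 32768) (Steps.bwd (nat_lit 3) (Steps.bwd (nat_lit 3) (Steps.bwd (nat_lit 3) Steps.nil)))) (nat_lit 2) (nat_lit 0),
  Rule.mk (nat_lit 4) (nat_lit 94) (Steps.bwd (nat_lit 1) (Steps.fwd (nat_lit 16384) (Steps.bwd (nat_lit 3) (Steps.fwd (nat_lit 8192) (Steps.bwd (nat_lit 2) Steps.nil))))) (nat_lit 6) (nat_lit 3),
  Rule.mk (nat_lit 4) (nat_lit 94) (Steps.bwd (nat_lit 2) (Steps.bwd (nat_lit 2) (Steps.bwd (nat_lit 3) (Steps.fwd (nat_lit 16384) (Steps.bwd (nat_lit 1) Steps.nil))))) (nat_lit 7) (nat_lit 1),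
  Rule.mk (nat_lit 3) (nat_lit 62) (Steps.bwd (nat_lit 5) (Steps.bwd (nat_lit 4) (Steps.fwd (nat_lit 131072) Steps.nil))) (nat_lit 17) (nat_lit 1),
  Rule.mk (nat_lit 3) (nat_lit 94) (Steps.fwd (nat_lit 8192) (Steps.fwd (nat_lit 8192) (Steps.bwd (nat_lit 4) (Steps.bwd (nat_lit 1) (Steps.fwd (nat_lit 16384) Steps.nil))))) (nat_lit 6) (nat_lit 0),
  Rule.mk (nat_lit 3) (nat_lit 62) (Steps.fwd (nat_lit 155648) (Steps.bwd (nat_lit 4) (Steps.bwd (nat_lit 19) Steps.nil))) (nat_lit 55) (nat_lit 0),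
  Rule.mk (nat_lit 11) (nat_lit 126) (Steps.bwd (nat_lit 11) (Steps.bwd (nat_lit 4) (Steps.bwd (nat_lit 14) (Steps.bwd (nat_lit 3) (Steps.fwd (nat_lit 122880) (Steps.fwd (nat_lit 122880) (Steps.fwd (nat_lit 131072) Steps.nil))))))) (nat_lit 52) (nat_lit 7),
  Rule.mk (nat_lit 11) (nat_lit 78) (Steps.bwd (nat_lit 11) (Steps.bwd (nat_lit 2) (Steps.fwd (nat_lit 98304) (Steps.fwd (nat_lit 16384) Steps.nil)))) (nat_lit 43) (nat_lit 1),
  Rule.mk (nat_lit 3) (nat_lit 94) (Steps.fwd (nat_lit 8192) (Steps.fwd (nat_lit 8192) (Steps.bwd (nat_lit 4) (Steps.fwd (nat_lit 16384) (Steps.fwd (nat_lit 16384) Steps.nil))))) (nat_lit 6) (nat_lit 0),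
  Rule.mk (nat_lit 3) (nat_lit 94) (Steps.bwd (nat_lit 1) (Steps.bwd (nat_lit 1) (Steps.bwd (nat_lit 4) (Steps.fwd (nat_lit 8192) (Steps.bwd (nat_lit 2) Steps.nil))))) (nat_lit 7) (nat_lit 4),
  Rule.mk (nat_lit 4) (nat_lit 126) (Steps.bwd (nat_lit 2) (Steps.fwd (nat_lit 24576) (Steps.bwd (nat_lit 2) (Steps.fwd (nat_lit 24576) (Steps.fwd (nat_lit 8192) (Steps.bwd (nat_lit 4) (Steps.fwd (nat_lit 8192) Steps.nil))))))) (nat_lit 5) (nat_lit 1),
  Rule.mk (nat_lit 3) (nat_lit 62) (Steps.fwd (nat_lit 65536) (Steps.bwd (nat_lit 4) (Steps.bwd (nat_lit 8) Steps.nil))) (nat_lit 80) (nat_lit 3),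
  Rule.mk (nat_lit 3) (nat_lit 62) (Steps.bwd (nat_lit 8) (Steps.bwd (nat_lit 4) (Steps.fwd (nat_lit 65536) Steps.nil))) (nat_lit 81) (nat_lit 0),
  Rule.mk (nat_lit 4) (nat_lit 94) (Steps.fwd (nat_lit 16384) (Steps.fwd (nat_lit 16384) (Steps.bwd (nat_lit 3) (Steps.fwd (nat_lit 8192) (Steps.fwd (nat_lit 8192) Steps.nil))))) (nat_lit 6) (nat_lit 3),
  Rule.mk (nat_lit 4) (nat_lit 94) (Steps.fwd (nat_lit 8192) (Steps.fwd (nat_lit 8192) (Steps.bwd (nat_lit 3) (Steps.bwd (nat_lit 1) (Steps.bwd (nat_lit 1) Steps.nil))))) (nat_lit 7) (nat_lit 1),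
  Rule.mk (nat_lit 4) (nat_lit 126) (Steps.bwd (nat_lit 2) (Steps.bwd (nat_lit 4) (Steps.fwd (nat_lit 8192) (Steps.fwd (nat_lit 24576) (Steps.fwd (nat_lit 8192) (Steps.bwd (nat_lit 4) (Steps.fwd (nat_lit 8192) Steps.nil))))))) (nat_lit 5) (nat_lit 1),
  Rule.mk (nat_lit 3) (nat_lit 94) (Steps.bwd (nat_lit 2) (Steps.fwd (nat_lit 8192) (Steps.bwd (nat_lit 4) (Steps.fwd (nat_lit 16384) (Steps.fwd (nat_lit 16384) Steps.nil))))) (nat_lit 6) (nat_lit 0),
  Rule.mk (nat_lit 3) (nat_lit 94) (Steps.fwd (nat_lit 16384) (Steps.bwd (nat_lit 1) (Steps.bwd (nat_lit 4) (Steps.bwd (nat_lit 2) (Steps.fwd (nat_lit 8192) Steps.nil))))) (nat_lit 7) (nat_lit 4),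
  Rule.mk (nat_lit 4) (nat_lit 62) (Steps.fwd (nat_lit 65536) (Steps.bwd (nat_lit 3) (Steps.fwd (nat_lit 57344) Steps.nil))) (nat_lit 81) (nat_lit 2),
  Rule.mk (nat_lit 4) (nat_lit 94) (Steps.fwd (nat_lit 16384) (Steps.bwd (nat_lit 1) (Steps.bwd (nat_lit 3) (Steps.bwd (nat_lit 2) (Steps.bwd (nat_lit 2) Steps.nil))))) (nat_lit 6) (nat_lit 3),
  Rule.mk (nat_lit 3) (nat_lit 126) (Steps.fwd (nat_lit 16384) (Steps.fwd (nat_lit 32768) (Steps.bwd (nat_lit 1) (Steps.bwd (nat_lit 3) (Steps.fwd (nat_lit 16384) (Steps.bwd (nat_lit 3) (Steps.bwd (nat_lit 1) Steps.nil))))))) (nat_lit 4) (nat_lit 0),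
  Rule.mk (nat_lit 4) (nat_lit 94) (Steps.fwd (nat_lit 16384) (Steps.fwd (nat_lit 16384) (Steps.bwd (nat_lit 3) (Steps.bwd (nat_lit 2) (Steps.bwd (nat_lit 2) Steps.nil))))) (nat_lit 6) (nat_lit 3),
  Rule.mk (nat_lit 3) (nat_lit 126) (Steps.bwd (nat_lit 1) (Steps.bwd (nat_lit 3) (Steps.fwd (nat_lit 16384) (Steps.bwd (nat_lit 3) (Steps.fwd (nat_lit 16384) (Steps.fwd (nat_lit 32768) (Steps.fwd (nat_lit 16384) Steps.nil))))))) (nat_lit 4) (nat_lit 0),
  Rule.mk (nat_lit 0) (nat_lit 78) (Steps.bwd (nat_lit 3) (Steps.fwd (nat_lit 57344) (Steps.bwd (nat_lit 4) (Steps.fwd (nat_lit 65536) Steps.nil)))) (nat_lit 81) (nat_lit 3),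
  Rule.mk (nat_lit 0) (nat_lit 62) (Steps.fwd (nat_lit 155648) (Steps.bwd (nat_lit 0) (Steps.bwd (nat_lit 19) Steps.nil))) (nat_lit 88) (nat_lit 0),
  Rule.mk (nat_lit 0) (nat_lit 62) (Steps.bwd (nat_lit 2) (Steps.fwd (nat_lit 0) (Steps.bwd (nat_lit 1) Steps.nil))) (nat_lit 88) (nat_lit 0),
  Rule.mk (nat_lit 0) (nat_lit 78) (Steps.bwd (nat_lit 0) (Steps.fwd (nat_lit 8192) (Steps.fwd (nat_lit 0) (Steps.fwd (nat_lit 16384) Steps.nil)))) (nat_lit 88) (nat_lit 0),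
  Rule.mk (nat_lit 0) (nat_lit 46) (Steps.fwd (nat_lit 0) (Steps.fwd (nat_lit 0) Steps.nil)) (nat_lit 88) (nat_lit 0),
  Rule.mk (nat_lit 19) (nat_lit 62) (Steps.bwd (nat_lit 0) (Steps.bwd (nat_lit 18) (Steps.fwd (nat_lit 0) Steps.nil))) (nat_lit 88) (nat_lit 0),
  Rule.mk (nat_lit 0) (nat_lit 62) (Steps.bwd (nat_lit 7) (Steps.fwd (nat_lit 0) (Steps.bwd (nat_lit 8) Steps.nil))) (nat_lit 88) (nat_lit 0),
  Rule.mk (nat_lit 0) (nat_lit 62) (Steps.bwd (nat_lit 3) (Steps.fwd (nat_lit 0) (Steps.bwd (nat_lit 4) Steps.nil))) (nat_lit 88) (nat_lit 0),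
  Rule.mk (nat_lit 19) (nat_lit 78) (Steps.bwd (nat_lit 19) (Steps.fwd (nat_lit 8192) (Steps.bwd (nat_lit 18) (Steps.bwd (nat_lit 1) Steps.nil)))) (nat_lit 48) (nat_lit 4),
  Rule.mk (nat_lit 8) (nat_lit 126) (Steps.fwd (nat_lit 147456) (Steps.fwd (nat_lit 57344) (Steps.fwd (nat_lit 16384) (Steps.bwd (nat_lit 1) (Steps.bwd (nat_lit 19) (Steps.fwd (nat_lit 57344) (Steps.fwd (nat_lit 155648) Steps.nil))))))) (nat_lit 87) (nat_lit 6),
  Rule.mk (nat_lit 18) (nat_lit 78) (Steps.bwd (nat_lit 18) (Steps.bwd (nat_lit 2) (Steps.bwd (nat_lit 19) (Steps.fwd (nat_lit 16384) Steps.nil)))) (nat_lit 49) (nat_lit 1),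
  Rule.mk (nat_lit 8) (nat_lit 126) (Steps.fwd (nat_lit 155648) (Steps.fwd (nat_lit 57344) (Steps.bwd (nat_lit 19) (Steps.fwd (nat_lit 57344) (Steps.bwd (nat_lit 1) (Steps.bwd (nat_lit 1) (Steps.bwd (nat_lit 19) Steps.nil))))))) (nat_lit 87) (nat_lit 4),
  Rule.mk (nat_lit 7) (nat_lit 126) (Steps.bwd (nat_lit 19) (Steps.bwd (nat_lit 7) (Steps.bwd (nat_lit 18) (Steps.bwd (nat_lit 2) (Steps.bwd (nat_lit 2) (Steps.bwd (nat_lit 7) (Steps.fwd (nat_lit 155648) Steps.nil))))))) (nat_lit 86) (nat_lit 3),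
  Rule.mk (nat_lit 7) (nat_lit 126) (Steps.bwd (nat_lit 18) (Steps.fwd (nat_lit 8192) (Steps.fwd (nat_lit 8192) (Steps.bwd (nat_lit 7) (Steps.bwd (nat_lit 18) (Steps.fwd (nat_lit 65536) (Steps.bwd (nat_lit 19) Steps.nil))))))) (nat_lit 86) (nat_lit 5),
  Rule.mk (nat_lit 7) (nat_lit 94) (Steps.fwd (nat_lit 8192) (Steps.bwd (nat_lit 2) (Steps.fwd (nat_lit 8192) (Steps.fwd (nat_lit 8192) (Steps.bwd (nat_lit 7) Steps.nil))))) (nat_lit 78) (nat_lit 2),
  Rule.mk (nat_lit 8) (nat_lit 94) (Steps.fwd (nat_lit 16384) (Steps.bwd (nat_lit 7) (Steps.fwd (nat_lit 8192) (Steps.bwd (nat_lit 2) (Steps.fwd (nat_lit 8192) Steps.nil))))) (nat_lit 82) (nat_lit 1),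
  Rule.mk (nat_lit 8) (nat_lit 94) (Steps.bwd (nat_lit 2) (Steps.bwd (nat_lit 7) (Steps.bwd (nat_lit 1) (Steps.bwd (nat_lit 1) (Steps.fwd (nat_lit 16384) Steps.nil))))) (nat_lit 83) (nat_lit 4),
  Rule.mk (nat_lit 19) (nat_lit 62) (Steps.fwd (nat_lit 32768) (Steps.fwd (nat_lit 155648) (Steps.bwd (nat_lit 4) Steps.nil))) (nat_lit 55) (nat_lit 3),
  Rule.mk (nat_lit 18) (nat_lit 78) (Steps.fwd (nat_lit 8192) (Steps.bwd (nat_lit 19) (Steps.fwd (nat_lit 16384) (Steps.bwd (nat_lit 18) Steps.nil)))) (nat_lit 49) (nat_lit 2),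
  Rule.mk (nat_lit 12) (nat_lit 62) (Steps.fwd (nat_lit 147456) (Steps.bwd (nat_lit 13) (Steps.bwd (nat_lit 18) Steps.nil))) (nat_lit 27) (nat_lit 0),
  Rule.mk (nat_lit 19) (nat_lit 78) (Steps.fwd (nat_lit 147456) (Steps.fwd (nat_lit 147456) (Steps.bwd (nat_lit 19) (Steps.bwd (nat_lit 19) Steps.nil)))) (nat_lit 23) (nat_lit 0)]
noncomputable def R_23 : List (Rule) := [Rule.mk (nat_lit 7) (nat_lit 126) (Steps.fwd (nat_lit 155648) (Steps.bwd (nat_lit 2) (Steps.bwd (nat_lit 2) (Steps.bwd (nat_lit 7) (Steps.bwd (nat_lit 18) (Steps.fwd (nat_lit 65536) (Steps.fwd (nat_lit 147456) Steps.nil))))))) (nat_lit 86) (nat_lit 5),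
  Rule.mk (nat_lit 7) (nat_lit 126) (Steps.fwd (nat_lit 147456) (Steps.bwd (nat_lit 7) (Steps.bwd (nat_lit 18) (Steps.fwd (nat_lit 8192) (Steps.fwd (nat_lit 8192) (Steps.fwd (nat_lit 65536) (Steps.bwd (nat_lit 18) Steps.nil))))))) (nat_lit 86) (nat_lit 3),
  Rule.mk (nat_lit 0) (nat_lit 78) (Steps.fwd (nat_lit 24576) (Steps.bwd (nat_lit 8) (Steps.fwd (nat_lit 32768) (Steps.fwd (nat_lit 65536) Steps.nil)))) (nat_lit 80) (nat_lit 0),
  Rule.mk (nat_lit 17) (nat_lit 62) (Steps.fwd (nat_lit 155648) (Steps.bwd (nat_lit 16) (Steps.bwd (nat_lit 19) Steps.nil))) (nat_lit 31) (nat_lit 2),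
  Rule.mk (nat_lit 16) (nat_lit 62) (Steps.fwd (nat_lit 155648) (Steps.bwd (nat_lit 17) (Steps.bwd (nat_lit 19) Steps.nil))) (nat_lit 30) (nat_lit 3),
  Rule.mk (nat_lit 4) (nat_lit 94) (Steps.fwd (nat_lit 8192) (Steps.bwd (nat_lit 2) (Steps.bwd (nat_lit 3) (Steps.fwd (nat_lit 16384) (Steps.bwd (nat_lit 1) Steps.nil))))) (nat_lit 7) (nat_lit 1),
  Rule.mk (nat_lit 8) (nat_lit 126) (Steps.fwd (nat_lit 155648) (Steps.fwd (nat_lit 57344) (Steps.bwd (nat_lit 19) (Steps.fwd (nat_lit 57344) (Steps.bwd (nat_lit 1) (Steps.fwd (nat_lit 16384) (Steps.bwd (nat_lit 19) Steps.nil))))))) (nat_lit 87) (nat_lit 4),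
  Rule.mk (nat_lit 7) (nat_lit 126) (Steps.bwd (nat_lit 19) (Steps.fwd (nat_lit 65536) (Steps.bwd (nat_lit 18) (Steps.fwd (nat_lit 8192) (Steps.bwd (nat_lit 2) (Steps.bwd (nat_lit 7) (Steps.fwd (nat_lit 155648) Steps.nil))))))) (nat_lit 86) (nat_lit 3),
  Rule.mk (nat_lit 17) (nat_lit 62) (Steps.fwd (nat_lit 155648) (Steps.bwd (nat_lit 16) (Steps.fwd (nat_lit 147456) Steps.nil))) (nat_lit 31) (nat_lit 2),
  Rule.mk (nat_lit 8) (nat_lit 126) (Steps.bwd (nat_lit 19) (Steps.bwd (nat_lit 8) (Steps.fwd (nat_lit 16384) (Steps.fwd (nat_lit 16384) (Steps.bwd (nat_lit 19) (Steps.bwd (nat_lit 8) (Steps.bwd (nat_lit 18) Steps.nil))))))) (nat_lit 87) (nat_lit 6),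
  Rule.mk (nat_lit 16) (nat_lit 94) (Steps.fwd (nat_lit 90112) (Steps.fwd (nat_lit 155648) (Steps.fwd (nat_lit 155648) (Steps.bwd (nat_lit 17) (Steps.fwd (nat_lit 81920) Steps.nil))))) (nat_lit 35) (nat_lit 5),
  Rule.mk (nat_lit 13) (nat_lit 126) (Steps.bwd (nat_lit 4) (Steps.fwd (nat_lit 106496) (Steps.fwd (nat_lit 32768) (Steps.bwd (nat_lit 16) (Steps.fwd (nat_lit 90112) (Steps.fwd (nat_lit 139264) (Steps.bwd (nat_lit 15) Steps.nil))))))) (nat_lit 50) (nat_lit 0),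
  Rule.mk (nat_lit 12) (nat_lit 78) (Steps.fwd (nat_lit 90112) (Steps.bwd (nat_lit 18) (Steps.bwd (nat_lit 13) (Steps.fwd (nat_lit 81920) Steps.nil)))) (nat_lit 18) (nat_lit 4),
  Rule.mk (nat_lit 1) (nat_lit 78) (Steps.fwd (nat_lit 90112) (Steps.fwd (nat_lit 90112) (Steps.fwd (nat_lit 8192) (Steps.bwd (nat_lit 12) Steps.nil)))) (nat_lit 42) (nat_lit 3),
  Rule.mk (nat_lit 2) (nat_lit 78) (Steps.fwd (nat_lit 155648) (Steps.bwd (nat_lit 1) (Steps.bwd (nat_lit 19) (Steps.fwd (nat_lit 147456) Steps.nil)))) (nat_lit 48) (nat_lit 1),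
  Rule.mk (nat_lit 12) (nat_lit 78) (Steps.bwd (nat_lit 19) (Steps.fwd (nat_lit 114688) (Steps.bwd (nat_lit 13) (Steps.bwd (nat_lit 14) Steps.nil)))) (nat_lit 37) (nat_lit 0),
  Rule.mk (nat_lit 3) (nat_lit 62) (Steps.fwd (nat_lit 114688) (Steps.bwd (nat_lit 4) (Steps.bwd (nat_lit 5) Steps.nil))) (nat_lit 15) (nat_lit 3),
  Rule.mk (nat_lit 4) (nat_lit 62) (Steps.fwd (nat_lit 49152) (Steps.bwd (nat_lit 3) (Steps.fwd (nat_lit 114688) Steps.nil))) (nat_lit 15) (nat_lit 1),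
  Rule.mk (nat_lit 3) (nat_lit 62) (Steps.fwd (nat_lit 155648) (Steps.bwd (nat_lit 4) (Steps.fwd (nat_lit 147456) Steps.nil))) (nat_lit 55) (nat_lit 0),
  Rule.mk (nat_lit 3) (nat_lit 62) (Steps.fwd (nat_lit 122880) (Steps.bwd (nat_lit 4) (Steps.fwd (nat_lit 40960) Steps.nil))) (nat_lit 14) (nat_lit 0),
  Rule.mk (nat_lit 4) (nat_lit 78) (Steps.bwd (nat_lit 4) (Steps.bwd (nat_lit 4) (Steps.bwd (nat_lit 4) (Steps.bwd (nat_lit 4) Steps.nil)))) (nat_lit 3) (nat_lit 0),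
  Rule.mk (nat_lit 0) (nat_lit 78) (Steps.fwd (nat_lit 90112) (Steps.fwd (nat_lit 147456) (Steps.bwd (nat_lit 11) (Steps.bwd (nat_lit 18) Steps.nil)))) (nat_lit 25) (nat_lit 3),
  Rule.mk (nat_lit 11) (nat_lit 78) (Steps.fwd (nat_lit 81920) (Steps.bwd (nat_lit 11) (Steps.bwd (nat_lit 11) (Steps.bwd (nat_lit 11) Steps.nil)))) (nat_lit 21) (nat_lit 0),
  Rule.mk (nat_lit 0) (nat_lit 126) (Steps.bwd (nat_lit 16) (Steps.fwd (nat_lit 8192) (Steps.bwd (nat_lit 15) (Steps.fwd (nat_lit 16384) (Steps.bwd (nat_lit 15) (Steps.fwd (nat_lit 114688) (Steps.fwd (nat_lit 90112) Steps.nil))))))) (nat_lit 45) (nat_lit 3),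
  Rule.mk (nat_lit 0) (nat_lit 110) (Steps.bwd (nat_lit 15) (Steps.bwd (nat_lit 11) (Steps.fwd (nat_lit 122880) (Steps.bwd (nat_lit 10) (Steps.fwd (nat_lit 147456) (Steps.fwd (nat_lit 147456) Steps.nil)))))) (nat_lit 33) (nat_lit 2),
  Rule.mk (nat_lit 17) (nat_lit 94) (Steps.bwd (nat_lit 11) (Steps.bwd (nat_lit 16) (Steps.bwd (nat_lit 10) (Steps.bwd (nat_lit 18) (Steps.fwd (nat_lit 155648) Steps.nil))))) (nat_lit 35) (nat_lit 3),
  Rule.mk (nat_lit 10) (nat_lit 142) (Steps.bwd (nat_lit 16) (Steps.fwd (nat_lit 8192) (Steps.bwd (nat_lit 17) (Steps.fwd (nat_lit 16384) (Steps.fwd (nat_lit 90112) (Steps.bwd (nat_lit 13) (Steps.bwd (nat_lit 15) (Steps.fwd (nat_lit 139264) Steps.nil)))))))) (nat_lit 47) (nat_lit 5),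
  Rule.mk (nat_lit 12) (nat_lit 78) (Steps.fwd (nat_lit 147456) (Steps.fwd (nat_lit 81920) (Steps.bwd (nat_lit 13) (Steps.bwd (nat_lit 10) Steps.nil)))) (nat_lit 19) (nat_lit 4),
  Rule.mk (nat_lit 14) (nat_lit 94) (Steps.fwd (nat_lit 90112) (Steps.fwd (nat_lit 147456) (Steps.fwd (nat_lit 147456) (Steps.fwd (nat_lit 114688) (Steps.bwd (nat_lit 11) Steps.nil))))) (nat_lit 33) (nat_lit 5),
  Rule.mk (nat_lit 3) (nat_lit 62) (Steps.fwd (nat_lit 57344) (Steps.bwd (nat_lit 4) (Steps.bwd (nat_lit 7) Steps.nil))) (nat_lit 81) (nat_lit 0),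
  Rule.mk (nat_lit 8) (nat_lit 62) (Steps.fwd (nat_lit 24576) (Steps.bwd (nat_lit 7) (Steps.bwd (nat_lit 3) Steps.nil))) (nat_lit 81) (nat_lit 1),
  Rule.mk (nat_lit 4) (nat_lit 94) (Steps.fwd (nat_lit 8192) (Steps.fwd (nat_lit 8192) (Steps.bwd (nat_lit 3) (Steps.fwd (nat_lit 16384) (Steps.bwd (nat_lit 1) Steps.nil))))) (nat_lit 7) (nat_lit 1),
  Rule.mk (nat_lit 7) (nat_lit 126) (Steps.bwd (nat_lit 19) (Steps.fwd (nat_lit 65536) (Steps.bwd (nat_lit 18) (Steps.bwd (nat_lit 2) (Steps.bwd (nat_lit 2) (Steps.fwd (nat_lit 65536) (Steps.bwd (nat_lit 18) Steps.nil))))))) (nat_lit 86) (nat_lit 3),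
  Rule.mk (nat_lit 8) (nat_lit 126) (Steps.bwd (nat_lit 19) (Steps.fwd (nat_lit 57344) (Steps.bwd (nat_lit 1) (Steps.bwd (nat_lit 1) (Steps.fwd (nat_lit 147456) (Steps.fwd (nat_lit 57344) (Steps.bwd (nat_lit 18) Steps.nil))))))) (nat_lit 87) (nat_lit 6),
  Rule.mk (nat_lit 18) (nat_lit 110) (Steps.bwd (nat_lit 9) (Steps.bwd (nat_lit 16) (Steps.bwd (nat_lit 11) (Steps.bwd (nat_lit 14) (Steps.fwd (nat_lit 81920) (Steps.fwd (nat_lit 73728) Steps.nil)))))) (nat_lit 66) (nat_lit 2),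
  Rule.mk (nat_lit 4) (nat_lit 126) (Steps.bwd (nat_lit 12) (Steps.bwd (nat_lit 3) (Steps.bwd (nat_lit 16) (Steps.fwd (nat_lit 90112) (Steps.bwd (nat_lit 16) (Steps.fwd (nat_lit 114688) (Steps.bwd (nat_lit 13) Steps.nil))))))) (nat_lit 50) (nat_lit 1),
  Rule.mk (nat_lit 10) (nat_lit 94) (Steps.fwd (nat_lit 139264) (Steps.bwd (nat_lit 19) (Steps.bwd (nat_lit 19) (Steps.bwd (nat_lit 11) (Steps.bwd (nat_lit 17) Steps.nil))))) (nat_lit 34) (nat_lit 3),
  Rule.mk (nat_lit 1) (nat_lit 78) (Steps.bwd (nat_lit 10) (Steps.bwd (nat_lit 10) (Steps.fwd (nat_lit 8192) (Steps.fwd (nat_lit 106496) Steps.nil)))) (nat_lit 42) (nat_lit 3),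
  Rule.mk (nat_lit 5) (nat_lit 62) (Steps.fwd (nat_lit 24576) (Steps.bwd (nat_lit 17) (Steps.fwd (nat_lit 32768) Steps.nil))) (nat_lit 17) (nat_lit 2),
  Rule.mk (nat_lit 10) (nat_lit 94) (Steps.fwd (nat_lit 139264) (Steps.fwd (nat_lit 147456) (Steps.fwd (nat_lit 147456) (Steps.fwd (nat_lit 81920) (Steps.bwd (nat_lit 17) Steps.nil))))) (nat_lit 34) (nat_lit 3),
  Rule.mk (nat_lit 11) (nat_lit 78) (Steps.bwd (nat_lit 12) (Steps.bwd (nat_lit 10) (Steps.fwd (nat_lit 155648) (Steps.fwd (nat_lit 98304) Steps.nil)))) (nat_lit 18) (nat_lit 3),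
  Rule.mk (nat_lit 11) (nat_lit 94) (Steps.bwd (nat_lit 14) (Steps.bwd (nat_lit 10) (Steps.fwd (nat_lit 147456) (Steps.bwd (nat_lit 19) (Steps.fwd (nat_lit 114688) Steps.nil))))) (nat_lit 33) (nat_lit 4),
  Rule.mk (nat_lit 18) (nat_lit 78) (Steps.bwd (nat_lit 2) (Steps.fwd (nat_lit 147456) (Steps.fwd (nat_lit 16384) (Steps.fwd (nat_lit 155648) Steps.nil)))) (nat_lit 49) (nat_lit 2),
  Rule.mk (nat_lit 3) (nat_lit 62) (Steps.fwd (nat_lit 147456) (Steps.bwd (nat_lit 4) (Steps.bwd (nat_lit 18) Steps.nil))) (nat_lit 54) (nat_lit 3),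
  Rule.mk (nat_lit 14) (nat_lit 62) (Steps.fwd (nat_lit 24576) (Steps.fwd (nat_lit 40960) (Steps.bwd (nat_lit 3) Steps.nil))) (nat_lit 14) (nat_lit 1),
  Rule.mk (nat_lit 7) (nat_lit 126) (Steps.bwd (nat_lit 18) (Steps.fwd (nat_lit 8192) (Steps.fwd (nat_lit 8192) (Steps.fwd (nat_lit 65536) (Steps.fwd (nat_lit 155648) (Steps.fwd (nat_lit 65536) (Steps.fwd (nat_lit 147456) Steps.nil))))))) (nat_lit 86) (nat_lit 5),
  Rule.mk (nat_lit 14) (nat_lit 126) (Steps.bwd (nat_lit 17) (Steps.bwd (nat_lit 11) (Steps.fwd (nat_lit 81920) (Steps.fwd (nat_lit 24576) (Steps.fwd (nat_lit 122880) (Steps.fwd (nat_lit 32768) (Steps.bwd (nat_lit 14) Steps.nil))))))) (nat_lit 52) (nat_lit 5),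
  Rule.mk (nat_lit 16) (nat_lit 78) (Steps.bwd (nat_lit 18) (Steps.fwd (nat_lit 114688) (Steps.fwd (nat_lit 131072) (Steps.bwd (nat_lit 14) Steps.nil)))) (nat_lit 40) (nat_lit 4),
  Rule.mk (nat_lit 7) (nat_lit 126) (Steps.bwd (nat_lit 18) (Steps.fwd (nat_lit 8192) (Steps.fwd (nat_lit 8192) (Steps.fwd (nat_lit 65536) (Steps.bwd (nat_lit 18) (Steps.bwd (nat_lit 7) (Steps.fwd (nat_lit 147456) Steps.nil))))))) (nat_lit 86) (nat_lit 5),
  Rule.mk (nat_lit 8) (nat_lit 126) (Steps.bwd (nat_lit 18) (Steps.bwd (nat_lit 8) (Steps.fwd (nat_lit 147456) (Steps.fwd (nat_lit 57344) (Steps.fwd (nat_lit 16384) (Steps.bwd (nat_lit 1) (Steps.fwd (nat_lit 147456) Steps.nil))))))) (nat_lit 87) (nat_lit 4),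
  Rule.mk (nat_lit 7) (nat_lit 126) (Steps.bwd (nat_lit 19) (Steps.fwd (nat_lit 65536) (Steps.fwd (nat_lit 155648) (Steps.bwd (nat_lit 2) (Steps.fwd (nat_lit 8192) (Steps.fwd (nat_lit 65536) (Steps.fwd (nat_lit 155648) Steps.nil))))))) (nat_lit 86) (nat_lit 3),
  Rule.mk (nat_lit 8) (nat_lit 126) (Steps.bwd (nat_lit 19) (Steps.bwd (nat_lit 8) (Steps.fwd (nat_lit 16384) (Steps.fwd (nat_lit 16384) (Steps.bwd (nat_lit 19) (Steps.bwd (nat_lit 8) (Steps.fwd (nat_lit 155648) Steps.nil))))))) (nat_lit 87) (nat_lit 6),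
  Rule.mk (nat_lit 8) (nat_lit 62) (Steps.bwd (nat_lit 4) (Steps.bwd (nat_lit 7) (Steps.bwd (nat_lit 3) Steps.nil))) (nat_lit 81) (nat_lit 1),
  Rule.mk (nat_lit 1) (nat_lit 94) (Steps.bwd (nat_lit 4) (Steps.fwd (nat_lit 8192) (Steps.fwd (nat_lit 8192) (Steps.bwd (nat_lit 3) (Steps.bwd (nat_lit 1) Steps.nil))))) (nat_lit 7) (nat_lit 0),
  Rule.mk (nat_lit 2) (nat_lit 78) (Steps.bwd (nat_lit 13) (Steps.bwd (nat_lit 1) (Steps.fwd (nat_lit 81920) (Steps.fwd (nat_lit 81920) Steps.nil)))) (nat_lit 43) (nat_lit 3),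
  Rule.mk (nat_lit 1) (nat_lit 94) (Steps.bwd (nat_lit 1) (Steps.fwd (nat_lit 24576) (Steps.bwd (nat_lit 2) (Steps.bwd (nat_lit 2) (Steps.bwd (nat_lit 3) Steps.nil))))) (nat_lit 7) (nat_lit 5),
  Rule.mk (nat_lit 7) (nat_lit 126) (Steps.bwd (nat_lit 18) (Steps.fwd (nat_lit 8192) (Steps.fwd (nat_lit 8192) (Steps.bwd (nat_lit 7) (Steps.fwd (nat_lit 155648) (Steps.bwd (nat_lit 7) (Steps.bwd (nat_lit 19) Steps.nil))))))) (nat_lit 86) (nat_lit 5),
  Rule.mk (nat_lit 2) (nat_lit 126) (Steps.bwd (nat_lit 2) (Steps.bwd (nat_lit 7) (Steps.bwd (nat_lit 18) (Steps.bwd (nat_lit 7) (Steps.fwd (nat_lit 147456) (Steps.fwd (nat_lit 65536) (Steps.fwd (nat_lit 155648) Steps.nil))))))) (nat_lit 86) (nat_lit 7),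
  Rule.mk (nat_lit 8) (nat_lit 126) (Steps.bwd (nat_lit 18) (Steps.fwd (nat_lit 57344) (Steps.bwd (nat_lit 19) (Steps.bwd (nat_lit 8) (Steps.bwd (nat_lit 1) (Steps.bwd (nat_lit 1) (Steps.fwd (nat_lit 147456) Steps.nil))))))) (nat_lit 87) (nat_lit 4),
  Rule.mk (nat_lit 8) (nat_lit 94) (Steps.bwd (nat_lit 1) (Steps.fwd (nat_lit 65536) (Steps.bwd (nat_lit 2) (Steps.bwd (nat_lit 2) (Steps.bwd (nat_lit 2) Steps.nil))))) (nat_lit 82) (nat_lit 1),
  Rule.mk (nat_lit 7) (nat_lit 126) (Steps.bwd (nat_lit 19) (Steps.bwd (nat_lit 7) (Steps.bwd (nat_lit 18) (Steps.fwd (nat_lit 8192) (Steps.fwd (nat_lit 8192) (Steps.bwd (nat_lit 7) (Steps.fwd (nat_lit 155648) Steps.nil))))))) (nat_lit 86) (nat_lit 3),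
  Rule.mk (nat_lit 8) (nat_lit 126) (Steps.bwd (nat_lit 19) (Steps.fwd (nat_lit 57344) (Steps.fwd (nat_lit 16384) (Steps.bwd (nat_lit 1) (Steps.fwd (nat_lit 147456) (Steps.fwd (nat_lit 57344) (Steps.bwd (nat_lit 18) Steps.nil))))))) (nat_lit 87) (nat_lit 6),
  Rule.mk (nat_lit 18) (nat_lit 110) (Steps.bwd (nat_lit 9) (Steps.fwd (nat_lit 139264) (Steps.fwd (nat_lit 81920) (Steps.fwd (nat_lit 122880) (Steps.fwd (nat_lit 81920) (Steps.fwd (nat_lit 73728) Steps.nil)))))) (nat_lit 66) (nat_lit 2),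
  Rule.mk (nat_lit 3) (nat_lit 270) (Steps.bwd (nat_lit 9) (Steps.fwd (nat_lit 57344) (Steps.bwd (nat_lit 1) (Steps.bwd (nat_lit 3) (Steps.fwd (nat_lit 32768) (Steps.bwd (nat_lit 2) (Steps.bwd (nat_lit 4) (Steps.fwd (nat_lit 81920) (Steps.bwd (nat_lit 17) (Steps.bwd (nat_lit 19) (Steps.fwd (nat_lit 16384) (Steps.fwd (nat_lit 73728) (Steps.bwd (nat_lit 1) (Steps.bwd (nat_lit 9) (Steps.bwd (nat_lit 1) (Steps.fwd (nat_lit 98304) Steps.nil)))))))))))))))) (nat_lit 77) (nat_lit 15)]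
noncomputable def R_24 : List (Rule) := [Rule.mk (nat_lit 9) (nat_lit 110) (Steps.bwd (nat_lit 10) (Steps.bwd (nat_lit 15) (Steps.bwd (nat_lit 17) (Steps.bwd (nat_lit 17) (Steps.fwd (nat_lit 73728) (Steps.fwd (nat_lit 24576) Steps.nil)))))) (nat_lit 71) (nat_lit 0),
  Rule.mk (nat_lit 9) (nat_lit 110) (Steps.bwd (nat_lit 3) (Steps.bwd (nat_lit 9) (Steps.bwd (nat_lit 16) (Steps.bwd (nat_lit 16) (Steps.bwd (nat_lit 14) (Steps.bwd (nat_lit 11) Steps.nil)))))) (nat_lit 70) (nat_lit 1),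
  Rule.mk (nat_lit 9) (nat_lit 110) (Steps.bwd (nat_lit 18) (Steps.bwd (nat_lit 9) (Steps.fwd (nat_lit 139264) (Steps.bwd (nat_lit 11) (Steps.bwd (nat_lit 14) (Steps.bwd (nat_lit 11) Steps.nil)))))) (nat_lit 66) (nat_lit 1),
  Rule.mk (nat_lit 7) (nat_lit 126) (Steps.bwd (nat_lit 18) (Steps.bwd (nat_lit 2) (Steps.fwd (nat_lit 8192) (Steps.fwd (nat_lit 65536) (Steps.bwd (nat_lit 18) (Steps.fwd (nat_lit 65536) (Steps.fwd (nat_lit 147456) Steps.nil))))))) (nat_lit 86) (nat_lit 5),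
  Rule.mk (nat_lit 9) (nat_lit 110) (Steps.bwd (nat_lit 19) (Steps.bwd (nat_lit 9) (Steps.fwd (nat_lit 90112) (Steps.bwd (nat_lit 15) (Steps.bwd (nat_lit 10) (Steps.bwd (nat_lit 17) Steps.nil)))))) (nat_lit 67) (nat_lit 5),
  Rule.mk (nat_lit 10) (nat_lit 286) (Steps.bwd (nat_lit 3) (Steps.fwd (nat_lit 16384) (Steps.bwd (nat_lit 4) (Steps.fwd (nat_lit 65536) (Steps.bwd (nat_lit 10) (Steps.fwd (nat_lit 65536) (Steps.bwd (nat_lit 9) (Steps.bwd (nat_lit 4) (Steps.fwd (nat_lit 24576) (Steps.fwd (nat_lit 8192) (Steps.bwd (nat_lit 11) (Steps.bwd (nat_lit 1) (Steps.bwd (nat_lit 10) (Steps.fwd (nat_lit 8192) (Steps.fwd (nat_lit 90112) (Steps.bwd (nat_lit 1) (Steps.bwd (nat_lit 7) Steps.nil))))))))))))))))) (nat_lit 57) (nat_lit 11),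
  Rule.mk (nat_lit 16) (nat_lit 110) (Steps.fwd (nat_lit 8192) (Steps.fwd (nat_lit 114688) (Steps.bwd (nat_lit 1) (Steps.bwd (nat_lit 15) (Steps.bwd (nat_lit 15) (Steps.bwd (nat_lit 10) Steps.nil)))))) (nat_lit 45) (nat_lit 4),
  Rule.mk (nat_lit 7) (nat_lit 126) (Steps.bwd (nat_lit 18) (Steps.fwd (nat_lit 8192) (Steps.bwd (nat_lit 2) (Steps.bwd (nat_lit 7) (Steps.bwd (nat_lit 18) (Steps.bwd (nat_lit 7) (Steps.fwd (nat_lit 147456) Steps.nil))))))) (nat_lit 86) (nat_lit 5),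
  Rule.mk (nat_lit 10) (nat_lit 110) (Steps.bwd (nat_lit 9) (Steps.fwd (nat_lit 90112) (Steps.bwd (nat_lit 4) (Steps.bwd (nat_lit 15) (Steps.bwd (nat_lit 4) (Steps.fwd (nat_lit 73728) Steps.nil)))))) (nat_lit 60) (nat_lit 2),
  Rule.mk (nat_lit 10) (nat_lit 94) (Steps.bwd (nat_lit 19) (Steps.bwd (nat_lit 19) (Steps.bwd (nat_lit 15) (Steps.fwd (nat_lit 81920) (Steps.bwd (nat_lit 14) Steps.nil))))) (nat_lit 33) (nat_lit 0),
  Rule.mk (nat_lit 16) (nat_lit 126) (Steps.bwd (nat_lit 15) (Steps.bwd (nat_lit 13) (Steps.fwd (nat_lit 24576) (Steps.fwd (nat_lit 106496) (Steps.bwd (nat_lit 3) (Steps.bwd (nat_lit 16) (Steps.bwd (nat_lit 10) Steps.nil))))))) (nat_lit 50) (nat_lit 6),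
  Rule.mk (nat_lit 9) (nat_lit 110) (Steps.bwd (nat_lit 16) (Steps.bwd (nat_lit 11) (Steps.bwd (nat_lit 14) (Steps.fwd (nat_lit 81920) (Steps.bwd (nat_lit 9) (Steps.bwd (nat_lit 18) Steps.nil)))))) (nat_lit 66) (nat_lit 3),
  Rule.mk (nat_lit 2) (nat_lit 78) (Steps.fwd (nat_lit 106496) (Steps.fwd (nat_lit 16384) (Steps.fwd (nat_lit 90112) (Steps.bwd (nat_lit 10) Steps.nil)))) (nat_lit 42) (nat_lit 1),
  Rule.mk (nat_lit 1) (nat_lit 110) (Steps.bwd (nat_lit 15) (Steps.fwd (nat_lit 114688) (Steps.fwd (nat_lit 90112) (Steps.fwd (nat_lit 139264) (Steps.bwd (nat_lit 2) (Steps.bwd (nat_lit 15) Steps.nil)))))) (nat_lit 45) (nat_lit 0),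
  Rule.mk (nat_lit 1) (nat_lit 94) (Steps.fwd (nat_lit 24576) (Steps.bwd (nat_lit 2) (Steps.fwd (nat_lit 8192) (Steps.fwd (nat_lit 32768) (Steps.bwd (nat_lit 1) Steps.nil))))) (nat_lit 7) (nat_lit 0),
  Rule.mk (nat_lit 14) (nat_lit 110) (Steps.fwd (nat_lit 8192) (Steps.fwd (nat_lit 122880) (Steps.bwd (nat_lit 1) (Steps.fwd (nat_lit 131072) (Steps.bwd (nat_lit 11) (Steps.fwd (nat_lit 122880) Steps.nil)))))) (nat_lit 44) (nat_lit 0),
  Rule.mk (nat_lit 12) (nat_lit 142) (Steps.bwd (nat_lit 11) (Steps.bwd (nat_lit 2) (Steps.bwd (nat_lit 16) (Steps.bwd (nat_lit 1) (Steps.fwd (nat_lit 131072) (Steps.bwd (nat_lit 11) (Steps.fwd (nat_lit 131072) (Steps.fwd (nat_lit 122880) Steps.nil)))))))) (nat_lit 46) (nat_lit 8),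
  Rule.mk (nat_lit 16) (nat_lit 110) (Steps.bwd (nat_lit 9) (Steps.fwd (nat_lit 131072) (Steps.fwd (nat_lit 122880) (Steps.fwd (nat_lit 24576) (Steps.bwd (nat_lit 4) (Steps.bwd (nat_lit 9) Steps.nil)))))) (nat_lit 64) (nat_lit 2),
  Rule.mk (nat_lit 9) (nat_lit 110) (Steps.bwd (nat_lit 3) (Steps.bwd (nat_lit 9) (Steps.fwd (nat_lit 139264) (Steps.fwd (nat_lit 139264) (Steps.fwd (nat_lit 122880) (Steps.fwd (nat_lit 81920) Steps.nil)))))) (nat_lit 70) (nat_lit 1),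
  Rule.mk (nat_lit 10) (nat_lit 126) (Steps.bwd (nat_lit 16) (Steps.fwd (nat_lit 114688) (Steps.bwd (nat_lit 15) (Steps.fwd (nat_lit 24576) (Steps.fwd (nat_lit 114688) (Steps.bwd (nat_lit 3) (Steps.fwd (nat_lit 90112) Steps.nil))))))) (nat_lit 53) (nat_lit 2),
  Rule.mk (nat_lit 4) (nat_lit 126) (Steps.fwd (nat_lit 122880) (Steps.bwd (nat_lit 3) (Steps.fwd (nat_lit 122880) (Steps.fwd (nat_lit 122880) (Steps.bwd (nat_lit 17) (Steps.fwd (nat_lit 81920) (Steps.bwd (nat_lit 11) Steps.nil))))))) (nat_lit 52) (nat_lit 1),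
  Rule.mk (nat_lit 14) (nat_lit 62) (Steps.bwd (nat_lit 18) (Steps.fwd (nat_lit 114688) (Steps.fwd (nat_lit 147456) Steps.nil))) (nat_lit 28) (nat_lit 3),
  Rule.mk (nat_lit 7) (nat_lit 126) (Steps.bwd (nat_lit 18) (Steps.fwd (nat_lit 8192) (Steps.bwd (nat_lit 2) (Steps.fwd (nat_lit 65536) (Steps.bwd (nat_lit 18) (Steps.fwd (nat_lit 65536) (Steps.fwd (nat_lit 147456) Steps.nil))))))) (nat_lit 86) (nat_lit 5),
  Rule.mk (nat_lit 9) (nat_lit 110) (Steps.bwd (nat_lit 18) (Steps.fwd (nat_lit 73728) (Steps.fwd (nat_lit 139264) (Steps.bwd (nat_lit 11) (Steps.bwd (nat_lit 14) (Steps.bwd (nat_lit 11) Steps.nil)))))) (nat_lit 66) (nat_lit 1),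
  Rule.mk (nat_lit 9) (nat_lit 110) (Steps.bwd (nat_lit 16) (Steps.bwd (nat_lit 16) (Steps.bwd (nat_lit 14) (Steps.bwd (nat_lit 11) (Steps.bwd (nat_lit 9) (Steps.fwd (nat_lit 32768) Steps.nil)))))) (nat_lit 70) (nat_lit 3),
  Rule.mk (nat_lit 14) (nat_lit 62) (Steps.bwd (nat_lit 19) (Steps.fwd (nat_lit 114688) (Steps.fwd (nat_lit 155648) Steps.nil))) (nat_lit 29) (nat_lit 0),
  Rule.mk (nat_lit 7) (nat_lit 126) (Steps.bwd (nat_lit 19) (Steps.bwd (nat_lit 7) (Steps.fwd (nat_lit 155648) (Steps.bwd (nat_lit 2) (Steps.bwd (nat_lit 2) (Steps.bwd (nat_lit 7) (Steps.fwd (nat_lit 155648) Steps.nil))))))) (nat_lit 86) (nat_lit 3),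
  Rule.mk (nat_lit 10) (nat_lit 78) (Steps.bwd (nat_lit 2) (Steps.bwd (nat_lit 12) (Steps.fwd (nat_lit 16384) (Steps.bwd (nat_lit 10) Steps.nil)))) (nat_lit 42) (nat_lit 0),
  Rule.mk (nat_lit 3) (nat_lit 78) (Steps.bwd (nat_lit 3) (Steps.bwd (nat_lit 3) (Steps.fwd (nat_lit 32768) (Steps.fwd (nat_lit 32768) Steps.nil)))) (nat_lit 2) (nat_lit 0),
  Rule.mk (nat_lit 1) (nat_lit 94) (Steps.bwd (nat_lit 3) (Steps.fwd (nat_lit 8192) (Steps.fwd (nat_lit 8192) (Steps.bwd (nat_lit 4) (Steps.bwd (nat_lit 1) Steps.nil))))) (nat_lit 6) (nat_lit 5),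
  Rule.mk (nat_lit 10) (nat_lit 78) (Steps.fwd (nat_lit 90112) (Steps.bwd (nat_lit 2) (Steps.bwd (nat_lit 12) (Steps.bwd (nat_lit 1) Steps.nil)))) (nat_lit 42) (nat_lit 4),
  Rule.mk (nat_lit 15) (nat_lit 110) (Steps.bwd (nat_lit 15) (Steps.fwd (nat_lit 90112) (Steps.bwd (nat_lit 16) (Steps.bwd (nat_lit 2) (Steps.fwd (nat_lit 114688) (Steps.bwd (nat_lit 1) Steps.nil)))))) (nat_lit 45) (nat_lit 1),
  Rule.mk (nat_lit 14) (nat_lit 126) (Steps.fwd (nat_lit 122880) (Steps.bwd (nat_lit 17) (Steps.fwd (nat_lit 81920) (Steps.fwd (nat_lit 81920) (Steps.bwd (nat_lit 4) (Steps.fwd (nat_lit 122880) (Steps.bwd (nat_lit 3) Steps.nil))))))) (nat_lit 52) (nat_lit 4),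
  Rule.mk (nat_lit 3) (nat_lit 110) (Steps.bwd (nat_lit 9) (Steps.fwd (nat_lit 139264) (Steps.bwd (nat_lit 16) (Steps.fwd (nat_lit 122880) (Steps.bwd (nat_lit 11) (Steps.fwd (nat_lit 73728) Steps.nil)))))) (nat_lit 70) (nat_lit 2),
  Rule.mk (nat_lit 18) (nat_lit 62) (Steps.fwd (nat_lit 24576) (Steps.bwd (nat_lit 19) (Steps.bwd (nat_lit 3) Steps.nil))) (nat_lit 55) (nat_lit 1),
  Rule.mk (nat_lit 1) (nat_lit 94) (Steps.fwd (nat_lit 16384) (Steps.bwd (nat_lit 4) (Steps.fwd (nat_lit 8192) (Steps.fwd (nat_lit 8192) (Steps.bwd (nat_lit 3) Steps.nil))))) (nat_lit 7) (nat_lit 5),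
  Rule.mk (nat_lit 11) (nat_lit 126) (Steps.fwd (nat_lit 81920) (Steps.bwd (nat_lit 4) (Steps.fwd (nat_lit 122880) (Steps.fwd (nat_lit 32768) (Steps.fwd (nat_lit 122880) (Steps.bwd (nat_lit 14) (Steps.bwd (nat_lit 17) Steps.nil))))))) (nat_lit 52) (nat_lit 7),
  Rule.mk (nat_lit 9) (nat_lit 110) (Steps.bwd (nat_lit 3) (Steps.bwd (nat_lit 9) (Steps.fwd (nat_lit 139264) (Steps.bwd (nat_lit 16) (Steps.fwd (nat_lit 122880) (Steps.bwd (nat_lit 11) Steps.nil)))))) (nat_lit 70) (nat_lit 1),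
  Rule.mk (nat_lit 9) (nat_lit 110) (Steps.fwd (nat_lit 32768) (Steps.bwd (nat_lit 3) (Steps.bwd (nat_lit 15) (Steps.fwd (nat_lit 139264) (Steps.bwd (nat_lit 9) (Steps.fwd (nat_lit 131072) Steps.nil)))))) (nat_lit 65) (nat_lit 0),
  Rule.mk (nat_lit 2) (nat_lit 110) (Steps.bwd (nat_lit 15) (Steps.bwd (nat_lit 1) (Steps.bwd (nat_lit 15) (Steps.fwd (nat_lit 114688) (Steps.fwd (nat_lit 90112) (Steps.fwd (nat_lit 139264) Steps.nil)))))) (nat_lit 45) (nat_lit 5),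
  Rule.mk (nat_lit 2) (nat_lit 190) (Steps.bwd (nat_lit 2) (Steps.bwd (nat_lit 15) (Steps.fwd (nat_lit 8192) (Steps.fwd (nat_lit 139264) (Steps.bwd (nat_lit 13) (Steps.bwd (nat_lit 9) (Steps.bwd (nat_lit 12) (Steps.bwd (nat_lit 9) (Steps.bwd (nat_lit 13) (Steps.fwd (nat_lit 73728) (Steps.fwd (nat_lit 8192) Steps.nil))))))))))) (nat_lit 75) (nat_lit 2),
  Rule.mk (nat_lit 0) (nat_lit 110) (Steps.fwd (nat_lit 16384) (Steps.fwd (nat_lit 16384) (Steps.bwd (nat_lit 3) (Steps.bwd (nat_lit 2) (Steps.bwd (nat_lit 2) (Steps.bwd (nat_lit 4) Steps.nil)))))) (nat_lit 6) (nat_lit 3),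
  Rule.mk (nat_lit 19) (nat_lit 78) (Steps.bwd (nat_lit 17) (Steps.fwd (nat_lit 114688) (Steps.bwd (nat_lit 16) (Steps.bwd (nat_lit 14) Steps.nil)))) (nat_lit 41) (nat_lit 1),
  Rule.mk (nat_lit 11) (nat_lit 94) (Steps.bwd (nat_lit 17) (Steps.fwd (nat_lit 90112) (Steps.bwd (nat_lit 16) (Steps.fwd (nat_lit 147456) (Steps.bwd (nat_lit 19) Steps.nil))))) (nat_lit 34) (nat_lit 1),
  Rule.mk (nat_lit 7) (nat_lit 126) (Steps.bwd (nat_lit 19) (Steps.fwd (nat_lit 65536) (Steps.fwd (nat_lit 155648) (Steps.bwd (nat_lit 2) (Steps.bwd (nat_lit 2) (Steps.bwd (nat_lit 7) (Steps.bwd (nat_lit 18) Steps.nil))))))) (nat_lit 86) (nat_lit 3),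
  Rule.mk (nat_lit 8) (nat_lit 126) (Steps.bwd (nat_lit 19) (Steps.bwd (nat_lit 8) (Steps.bwd (nat_lit 1) (Steps.bwd (nat_lit 1) (Steps.fwd (nat_lit 147456) (Steps.fwd (nat_lit 57344) (Steps.bwd (nat_lit 18) Steps.nil))))))) (nat_lit 87) (nat_lit 6),
  Rule.mk (nat_lit 4) (nat_lit 78) (Steps.fwd (nat_lit 24576) (Steps.bwd (nat_lit 4) (Steps.fwd (nat_lit 24576) (Steps.bwd (nat_lit 4) Steps.nil)))) (nat_lit 3) (nat_lit 0),
  Rule.mk (nat_lit 2) (nat_lit 94) (Steps.bwd (nat_lit 3) (Steps.fwd (nat_lit 16384) (Steps.bwd (nat_lit 1) (Steps.fwd (nat_lit 24576) (Steps.bwd (nat_lit 2) Steps.nil))))) (nat_lit 7) (nat_lit 3),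
  Rule.mk (nat_lit 2) (nat_lit 78) (Steps.fwd (nat_lit 155648) (Steps.bwd (nat_lit 1) (Steps.fwd (nat_lit 147456) (Steps.fwd (nat_lit 147456) Steps.nil)))) (nat_lit 48) (nat_lit 1),
  Rule.mk (nat_lit 2) (nat_lit 78) (Steps.fwd (nat_lit 147456) (Steps.bwd (nat_lit 1) (Steps.fwd (nat_lit 155648) (Steps.bwd (nat_lit 18) Steps.nil)))) (nat_lit 49) (nat_lit 3),
  Rule.mk (nat_lit 1) (nat_lit 78) (Steps.fwd (nat_lit 147456) (Steps.fwd (nat_lit 147456) (Steps.bwd (nat_lit 2) (Steps.fwd (nat_lit 155648) Steps.nil)))) (nat_lit 48) (nat_lit 3),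
  Rule.mk (nat_lit 4) (nat_lit 94) (Steps.bwd (nat_lit 2) (Steps.fwd (nat_lit 8192) (Steps.fwd (nat_lit 32768) (Steps.bwd (nat_lit 1) (Steps.bwd (nat_lit 1) Steps.nil))))) (nat_lit 7) (nat_lit 1),
  Rule.mk (nat_lit 1) (nat_lit 94) (Steps.fwd (nat_lit 24576) (Steps.bwd (nat_lit 2) (Steps.fwd (nat_lit 8192) (Steps.bwd (nat_lit 3) (Steps.bwd (nat_lit 1) Steps.nil))))) (nat_lit 7) (nat_lit 0),
  Rule.mk (nat_lit 7) (nat_lit 62) (Steps.bwd (nat_lit 4) (Steps.bwd (nat_lit 8) (Steps.fwd (nat_lit 32768) Steps.nil))) (nat_lit 80) (nat_lit 0),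
  Rule.mk (nat_lit 0) (nat_lit 94) (Steps.fwd (nat_lit 24576) (Steps.fwd (nat_lit 24576) (Steps.bwd (nat_lit 4) (Steps.fwd (nat_lit 24576) (Steps.fwd (nat_lit 24576) Steps.nil))))) (nat_lit 3) (nat_lit 0),
  Rule.mk (nat_lit 7) (nat_lit 126) (Steps.bwd (nat_lit 19) (Steps.fwd (nat_lit 65536) (Steps.fwd (nat_lit 155648) (Steps.fwd (nat_lit 8192) (Steps.fwd (nat_lit 8192) (Steps.bwd (nat_lit 7) (Steps.fwd (nat_lit 155648) Steps.nil))))))) (nat_lit 86) (nat_lit 3),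
  Rule.mk (nat_lit 7) (nat_lit 62) (Steps.fwd (nat_lit 32768) (Steps.bwd (nat_lit 8) (Steps.fwd (nat_lit 24576) Steps.nil))) (nat_lit 81) (nat_lit 3),
  Rule.mk (nat_lit 8) (nat_lit 126) (Steps.bwd (nat_lit 18) (Steps.bwd (nat_lit 8) (Steps.fwd (nat_lit 147456) (Steps.fwd (nat_lit 57344) (Steps.fwd (nat_lit 16384) (Steps.fwd (nat_lit 16384) (Steps.fwd (nat_lit 147456) Steps.nil))))))) (nat_lit 87) (nat_lit 4),
  Rule.mk (nat_lit 10) (nat_lit 110) (Steps.fwd (nat_lit 139264) (Steps.bwd (nat_lit 2) (Steps.bwd (nat_lit 15) (Steps.bwd (nat_lit 1) (Steps.fwd (nat_lit 114688) (Steps.fwd (nat_lit 114688) Steps.nil)))))) (nat_lit 45) (nat_lit 3),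
  Rule.mk (nat_lit 7) (nat_lit 62) (Steps.fwd (nat_lit 24576) (Steps.fwd (nat_lit 57344) (Steps.bwd (nat_lit 3) Steps.nil))) (nat_lit 80) (nat_lit 0),
  Rule.mk (nat_lit 9) (nat_lit 110) (Steps.fwd (nat_lit 139264) (Steps.bwd (nat_lit 16) (Steps.fwd (nat_lit 122880) (Steps.bwd (nat_lit 11) (Steps.bwd (nat_lit 9) (Steps.bwd (nat_lit 3) Steps.nil)))))) (nat_lit 70) (nat_lit 3),
  Rule.mk (nat_lit 9) (nat_lit 110) (Steps.fwd (nat_lit 131072) (Steps.fwd (nat_lit 122880) (Steps.fwd (nat_lit 24576) (Steps.bwd (nat_lit 4) (Steps.bwd (nat_lit 9) (Steps.fwd (nat_lit 139264) Steps.nil)))))) (nat_lit 64) (nat_lit 3),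
  Rule.mk (nat_lit 9) (nat_lit 110) (Steps.fwd (nat_lit 90112) (Steps.bwd (nat_lit 4) (Steps.bwd (nat_lit 15) (Steps.fwd (nat_lit 24576) (Steps.bwd (nat_lit 9) (Steps.fwd (nat_lit 90112) Steps.nil)))))) (nat_lit 60) (nat_lit 3),
  Rule.mk (nat_lit 9) (nat_lit 110) (Steps.bwd (nat_lit 17) (Steps.fwd (nat_lit 122880) (Steps.fwd (nat_lit 24576) (Steps.fwd (nat_lit 24576) (Steps.bwd (nat_lit 9) (Steps.fwd (nat_lit 139264) Steps.nil)))))) (nat_lit 64) (nat_lit 3)]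
noncomputable def R_25 : List (Rule) := [Rule.mk (nat_lit 8) (nat_lit 94) (Steps.fwd (nat_lit 16384) (Steps.bwd (nat_lit 7) (Steps.bwd (nat_lit 2) (Steps.fwd (nat_lit 8192) (Steps.fwd (nat_lit 8192) Steps.nil))))) (nat_lit 82) (nat_lit 1),
  Rule.mk (nat_lit 16) (nat_lit 110) (Steps.bwd (nat_lit 9) (Steps.bwd (nat_lit 17) (Steps.fwd (nat_lit 122880) (Steps.fwd (nat_lit 24576) (Steps.bwd (nat_lit 4) (Steps.fwd (nat_lit 73728) Steps.nil)))))) (nat_lit 64) (nat_lit 2),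
  Rule.mk (nat_lit 9) (nat_lit 110) (Steps.fwd (nat_lit 131072) (Steps.bwd (nat_lit 14) (Steps.bwd (nat_lit 4) (Steps.fwd (nat_lit 24576) (Steps.fwd (nat_lit 73728) (Steps.bwd (nat_lit 16) Steps.nil)))))) (nat_lit 64) (nat_lit 3),
  Rule.mk (nat_lit 4) (nat_lit 126) (Steps.bwd (nat_lit 15) (Steps.fwd (nat_lit 32768) (Steps.bwd (nat_lit 10) (Steps.bwd (nat_lit 10) (Steps.bwd (nat_lit 16) (Steps.fwd (nat_lit 114688) (Steps.fwd (nat_lit 114688) Steps.nil))))))) (nat_lit 53) (nat_lit 6),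
  Rule.mk (nat_lit 12) (nat_lit 78) (Steps.fwd (nat_lit 90112) (Steps.fwd (nat_lit 155648) (Steps.bwd (nat_lit 13) (Steps.bwd (nat_lit 11) Steps.nil)))) (nat_lit 18) (nat_lit 4),
  Rule.mk (nat_lit 3) (nat_lit 62) (Steps.bwd (nat_lit 6) (Steps.fwd (nat_lit 24576) (Steps.bwd (nat_lit 16) Steps.nil))) (nat_lit 16) (nat_lit 2),
  Rule.mk (nat_lit 13) (nat_lit 78) (Steps.fwd (nat_lit 16384) (Steps.bwd (nat_lit 11) (Steps.bwd (nat_lit 11) (Steps.bwd (nat_lit 2) Steps.nil)))) (nat_lit 43) (nat_lit 4),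
  Rule.mk (nat_lit 10) (nat_lit 78) (Steps.bwd (nat_lit 2) (Steps.fwd (nat_lit 106496) (Steps.fwd (nat_lit 16384) (Steps.bwd (nat_lit 10) Steps.nil)))) (nat_lit 42) (nat_lit 0),
  Rule.mk (nat_lit 3) (nat_lit 62) (Steps.bwd (nat_lit 6) (Steps.fwd (nat_lit 24576) (Steps.fwd (nat_lit 139264) Steps.nil))) (nat_lit 16) (nat_lit 2),
  Rule.mk (nat_lit 4) (nat_lit 126) (Steps.bwd (nat_lit 15) (Steps.bwd (nat_lit 3) (Steps.bwd (nat_lit 10) (Steps.bwd (nat_lit 10) (Steps.fwd (nat_lit 139264) (Steps.fwd (nat_lit 114688) (Steps.bwd (nat_lit 15) Steps.nil))))))) (nat_lit 53) (nat_lit 6),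
  Rule.mk (nat_lit 17) (nat_lit 110) (Steps.bwd (nat_lit 9) (Steps.fwd (nat_lit 32768) (Steps.bwd (nat_lit 3) (Steps.fwd (nat_lit 114688) (Steps.fwd (nat_lit 139264) (Steps.bwd (nat_lit 9) Steps.nil)))))) (nat_lit 65) (nat_lit 6),
  Rule.mk (nat_lit 0) (nat_lit 126) (Steps.bwd (nat_lit 9) (Steps.bwd (nat_lit 16) (Steps.fwd (nat_lit 73728) (Steps.fwd (nat_lit 131072) (Steps.fwd (nat_lit 122880) (Steps.fwd (nat_lit 24576) (Steps.bwd (nat_lit 4) Steps.nil))))))) (nat_lit 64) (nat_lit 0),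
  Rule.mk (nat_lit 9) (nat_lit 110) (Steps.fwd (nat_lit 131072) (Steps.bwd (nat_lit 14) (Steps.bwd (nat_lit 4) (Steps.fwd (nat_lit 24576) (Steps.bwd (nat_lit 9) (Steps.fwd (nat_lit 139264) Steps.nil)))))) (nat_lit 64) (nat_lit 3),
  Rule.mk (nat_lit 9) (nat_lit 110) (Steps.fwd (nat_lit 24576) (Steps.bwd (nat_lit 9) (Steps.bwd (nat_lit 10) (Steps.bwd (nat_lit 15) (Steps.fwd (nat_lit 131072) (Steps.bwd (nat_lit 17) Steps.nil)))))) (nat_lit 71) (nat_lit 5),
  Rule.mk (nat_lit 9) (nat_lit 110) (Steps.fwd (nat_lit 90112) (Steps.bwd (nat_lit 15) (Steps.bwd (nat_lit 17) (Steps.fwd (nat_lit 131072) (Steps.bwd (nat_lit 9) (Steps.fwd (nat_lit 24576) Steps.nil)))))) (nat_lit 71) (nat_lit 0),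
  Rule.mk (nat_lit 9) (nat_lit 110) (Steps.bwd (nat_lit 19) (Steps.bwd (nat_lit 9) (Steps.bwd (nat_lit 10) (Steps.fwd (nat_lit 114688) (Steps.fwd (nat_lit 90112) (Steps.bwd (nat_lit 17) Steps.nil)))))) (nat_lit 67) (nat_lit 5),
  Rule.mk (nat_lit 9) (nat_lit 110) (Steps.fwd (nat_lit 90112) (Steps.bwd (nat_lit 15) (Steps.bwd (nat_lit 10) (Steps.bwd (nat_lit 17) (Steps.bwd (nat_lit 9) (Steps.bwd (nat_lit 19) Steps.nil)))))) (nat_lit 67) (nat_lit 0),
  Rule.mk (nat_lit 9) (nat_lit 110) (Steps.bwd (nat_lit 16) (Steps.bwd (nat_lit 9) (Steps.bwd (nat_lit 17) (Steps.bwd (nat_lit 14) (Steps.bwd (nat_lit 4) (Steps.bwd (nat_lit 4) Steps.nil)))))) (nat_lit 64) (nat_lit 1),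
  Rule.mk (nat_lit 9) (nat_lit 110) (Steps.fwd (nat_lit 32768) (Steps.bwd (nat_lit 9) (Steps.bwd (nat_lit 16) (Steps.fwd (nat_lit 139264) (Steps.fwd (nat_lit 122880) (Steps.bwd (nat_lit 11) Steps.nil)))))) (nat_lit 70) (nat_lit 1),
  Rule.mk (nat_lit 9) (nat_lit 110) (Steps.fwd (nat_lit 24576) (Steps.bwd (nat_lit 9) (Steps.fwd (nat_lit 90112) (Steps.bwd (nat_lit 15) (Steps.bwd (nat_lit 17) (Steps.fwd (nat_lit 131072) Steps.nil)))))) (nat_lit 71) (nat_lit 5),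
  Rule.mk (nat_lit 9) (nat_lit 110) (Steps.bwd (nat_lit 11) (Steps.bwd (nat_lit 9) (Steps.fwd (nat_lit 32768) (Steps.fwd (nat_lit 122880) (Steps.fwd (nat_lit 32768) (Steps.bwd (nat_lit 11) Steps.nil)))))) (nat_lit 61) (nat_lit 5),
  Rule.mk (nat_lit 9) (nat_lit 110) (Steps.fwd (nat_lit 90112) (Steps.fwd (nat_lit 114688) (Steps.bwd (nat_lit 17) (Steps.fwd (nat_lit 131072) (Steps.bwd (nat_lit 9) (Steps.fwd (nat_lit 24576) Steps.nil)))))) (nat_lit 71) (nat_lit 0),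
  Rule.mk (nat_lit 9) (nat_lit 110) (Steps.fwd (nat_lit 155648) (Steps.bwd (nat_lit 9) (Steps.fwd (nat_lit 139264) (Steps.fwd (nat_lit 81920) (Steps.fwd (nat_lit 122880) (Steps.fwd (nat_lit 81920) Steps.nil)))))) (nat_lit 66) (nat_lit 1),
  Rule.mk (nat_lit 9) (nat_lit 110) (Steps.fwd (nat_lit 139264) (Steps.bwd (nat_lit 9) (Steps.bwd (nat_lit 17) (Steps.bwd (nat_lit 14) (Steps.bwd (nat_lit 4) (Steps.fwd (nat_lit 24576) Steps.nil)))))) (nat_lit 64) (nat_lit 1),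
  Rule.mk (nat_lit 9) (nat_lit 110) (Steps.bwd (nat_lit 3) (Steps.bwd (nat_lit 14) (Steps.fwd (nat_lit 32768) (Steps.fwd (nat_lit 81920) (Steps.bwd (nat_lit 9) (Steps.bwd (nat_lit 11) Steps.nil)))))) (nat_lit 61) (nat_lit 0),
  Rule.mk (nat_lit 9) (nat_lit 110) (Steps.bwd (nat_lit 16) (Steps.bwd (nat_lit 9) (Steps.bwd (nat_lit 17) (Steps.fwd (nat_lit 122880) (Steps.fwd (nat_lit 24576) (Steps.bwd (nat_lit 4) Steps.nil)))))) (nat_lit 64) (nat_lit 1),
  Rule.mk (nat_lit 9) (nat_lit 110) (Steps.bwd (nat_lit 17) (Steps.bwd (nat_lit 9) (Steps.bwd (nat_lit 3) (Steps.bwd (nat_lit 3) (Steps.bwd (nat_lit 15) (Steps.fwd (nat_lit 139264) Steps.nil)))))) (nat_lit 65) (nat_lit 5),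
  Rule.mk (nat_lit 9) (nat_lit 110) (Steps.bwd (nat_lit 16) (Steps.fwd (nat_lit 73728) (Steps.fwd (nat_lit 131072) (Steps.bwd (nat_lit 14) (Steps.fwd (nat_lit 24576) (Steps.bwd (nat_lit 4) Steps.nil)))))) (nat_lit 64) (nat_lit 1),
  Rule.mk (nat_lit 9) (nat_lit 110) (Steps.bwd (nat_lit 16) (Steps.bwd (nat_lit 16) (Steps.fwd (nat_lit 122880) (Steps.fwd (nat_lit 81920) (Steps.fwd (nat_lit 73728) (Steps.fwd (nat_lit 32768) Steps.nil)))))) (nat_lit 70) (nat_lit 3),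
  Rule.mk (nat_lit 9) (nat_lit 110) (Steps.fwd (nat_lit 32768) (Steps.bwd (nat_lit 3) (Steps.bwd (nat_lit 15) (Steps.fwd (nat_lit 139264) (Steps.bwd (nat_lit 9) (Steps.bwd (nat_lit 17) Steps.nil)))))) (nat_lit 65) (nat_lit 0),
  Rule.mk (nat_lit 11) (nat_lit 110) (Steps.fwd (nat_lit 122880) (Steps.bwd (nat_lit 11) (Steps.fwd (nat_lit 73728) (Steps.bwd (nat_lit 18) (Steps.bwd (nat_lit 9) (Steps.bwd (nat_lit 16) Steps.nil)))))) (nat_lit 66) (nat_lit 5),
  Rule.mk (nat_lit 9) (nat_lit 110) (Steps.bwd (nat_lit 10) (Steps.fwd (nat_lit 24576) (Steps.bwd (nat_lit 15) (Steps.bwd (nat_lit 4) (Steps.bwd (nat_lit 9) (Steps.fwd (nat_lit 90112) Steps.nil)))))) (nat_lit 60) (nat_lit 3),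
  Rule.mk (nat_lit 9) (nat_lit 110) (Steps.bwd (nat_lit 18) (Steps.bwd (nat_lit 9) (Steps.bwd (nat_lit 16) (Steps.fwd (nat_lit 81920) (Steps.fwd (nat_lit 122880) (Steps.bwd (nat_lit 11) Steps.nil)))))) (nat_lit 66) (nat_lit 1),
  Rule.mk (nat_lit 9) (nat_lit 110) (Steps.fwd (nat_lit 90112) (Steps.bwd (nat_lit 15) (Steps.fwd (nat_lit 90112) (Steps.fwd (nat_lit 131072) (Steps.bwd (nat_lit 9) (Steps.bwd (nat_lit 19) Steps.nil)))))) (nat_lit 67) (nat_lit 0),
  Rule.mk (nat_lit 9) (nat_lit 110) (Steps.fwd (nat_lit 32768) (Steps.bwd (nat_lit 9) (Steps.bwd (nat_lit 16) (Steps.bwd (nat_lit 16) (Steps.bwd (nat_lit 14) (Steps.fwd (nat_lit 81920) Steps.nil)))))) (nat_lit 70) (nat_lit 1),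
  Rule.mk (nat_lit 9) (nat_lit 110) (Steps.fwd (nat_lit 131072) (Steps.bwd (nat_lit 9) (Steps.fwd (nat_lit 32768) (Steps.bwd (nat_lit 3) (Steps.bwd (nat_lit 15) (Steps.fwd (nat_lit 139264) Steps.nil)))))) (nat_lit 65) (nat_lit 5),
  Rule.mk (nat_lit 9) (nat_lit 190) (Steps.bwd (nat_lit 13) (Steps.bwd (nat_lit 9) (Steps.bwd (nat_lit 12) (Steps.bwd (nat_lit 17) (Steps.bwd (nat_lit 1) (Steps.fwd (nat_lit 122880) (Steps.fwd (nat_lit 16384) (Steps.bwd (nat_lit 1) (Steps.bwd (nat_lit 1) (Steps.bwd (nat_lit 9) (Steps.bwd (nat_lit 12) Steps.nil))))))))))) (nat_lit 74) (nat_lit 3),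
  Rule.mk (nat_lit 9) (nat_lit 110) (Steps.bwd (nat_lit 18) (Steps.bwd (nat_lit 9) (Steps.fwd (nat_lit 139264) (Steps.fwd (nat_lit 81920) (Steps.fwd (nat_lit 122880) (Steps.fwd (nat_lit 81920) Steps.nil)))))) (nat_lit 66) (nat_lit 1),
  Rule.mk (nat_lit 9) (nat_lit 110) (Steps.fwd (nat_lit 32768) (Steps.bwd (nat_lit 9) (Steps.fwd (nat_lit 139264) (Steps.fwd (nat_lit 139264) (Steps.bwd (nat_lit 14) (Steps.fwd (nat_lit 81920) Steps.nil)))))) (nat_lit 70) (nat_lit 1),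
  Rule.mk (nat_lit 17) (nat_lit 110) (Steps.bwd (nat_lit 9) (Steps.fwd (nat_lit 32768) (Steps.fwd (nat_lit 32768) (Steps.fwd (nat_lit 114688) (Steps.fwd (nat_lit 139264) (Steps.bwd (nat_lit 9) Steps.nil)))))) (nat_lit 65) (nat_lit 6),
  Rule.mk (nat_lit 9) (nat_lit 110) (Steps.bwd (nat_lit 16) (Steps.bwd (nat_lit 11) (Steps.bwd (nat_lit 14) (Steps.fwd (nat_lit 81920) (Steps.bwd (nat_lit 9) (Steps.fwd (nat_lit 155648) Steps.nil)))))) (nat_lit 66) (nat_lit 3),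
  Rule.mk (nat_lit 19) (nat_lit 62) (Steps.fwd (nat_lit 139264) (Steps.bwd (nat_lit 18) (Steps.bwd (nat_lit 17) Steps.nil))) (nat_lit 30) (nat_lit 2),
  Rule.mk (nat_lit 9) (nat_lit 110) (Steps.fwd (nat_lit 90112) (Steps.bwd (nat_lit 15) (Steps.fwd (nat_lit 90112) (Steps.bwd (nat_lit 17) (Steps.fwd (nat_lit 73728) (Steps.bwd (nat_lit 19) Steps.nil)))))) (nat_lit 67) (nat_lit 0),
  Rule.mk (nat_lit 9) (nat_lit 110) (Steps.fwd (nat_lit 24576) (Steps.bwd (nat_lit 9) (Steps.fwd (nat_lit 90112) (Steps.bwd (nat_lit 15) (Steps.bwd (nat_lit 17) (Steps.bwd (nat_lit 17) Steps.nil)))))) (nat_lit 71) (nat_lit 5),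
  Rule.mk (nat_lit 9) (nat_lit 110) (Steps.bwd (nat_lit 19) (Steps.bwd (nat_lit 9) (Steps.bwd (nat_lit 10) (Steps.bwd (nat_lit 15) (Steps.fwd (nat_lit 90112) (Steps.bwd (nat_lit 17) Steps.nil)))))) (nat_lit 67) (nat_lit 5),
  Rule.mk (nat_lit 14) (nat_lit 110) (Steps.fwd (nat_lit 24576) (Steps.fwd (nat_lit 24576) (Steps.bwd (nat_lit 9) (Steps.fwd (nat_lit 139264) (Steps.fwd (nat_lit 73728) (Steps.fwd (nat_lit 131072) Steps.nil)))))) (nat_lit 64) (nat_lit 5),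
  Rule.mk (nat_lit 9) (nat_lit 110) (Steps.fwd (nat_lit 81920) (Steps.bwd (nat_lit 9) (Steps.fwd (nat_lit 32768) (Steps.fwd (nat_lit 122880) (Steps.fwd (nat_lit 32768) (Steps.bwd (nat_lit 11) Steps.nil)))))) (nat_lit 61) (nat_lit 5),
  Rule.mk (nat_lit 9) (nat_lit 110) (Steps.fwd (nat_lit 139264) (Steps.bwd (nat_lit 16) (Steps.fwd (nat_lit 122880) (Steps.fwd (nat_lit 81920) (Steps.bwd (nat_lit 9) (Steps.fwd (nat_lit 32768) Steps.nil)))))) (nat_lit 70) (nat_lit 3),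
  Rule.mk (nat_lit 9) (nat_lit 110) (Steps.bwd (nat_lit 3) (Steps.bwd (nat_lit 9) (Steps.bwd (nat_lit 16) (Steps.fwd (nat_lit 139264) (Steps.bwd (nat_lit 14) (Steps.bwd (nat_lit 11) Steps.nil)))))) (nat_lit 70) (nat_lit 1),
  Rule.mk (nat_lit 16) (nat_lit 78) (Steps.bwd (nat_lit 18) (Steps.bwd (nat_lit 15) (Steps.fwd (nat_lit 131072) (Steps.fwd (nat_lit 122880) Steps.nil)))) (nat_lit 40) (nat_lit 4),
  Rule.mk (nat_lit 11) (nat_lit 94) (Steps.bwd (nat_lit 14) (Steps.fwd (nat_lit 90112) (Steps.fwd (nat_lit 147456) (Steps.fwd (nat_lit 147456) (Steps.fwd (nat_lit 114688) Steps.nil))))) (nat_lit 33) (nat_lit 4),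
  Rule.mk (nat_lit 2) (nat_lit 110) (Steps.bwd (nat_lit 15) (Steps.fwd (nat_lit 16384) (Steps.bwd (nat_lit 15) (Steps.fwd (nat_lit 114688) (Steps.fwd (nat_lit 90112) (Steps.fwd (nat_lit 139264) Steps.nil)))))) (nat_lit 45) (nat_lit 5),
  Rule.mk (nat_lit 15) (nat_lit 78) (Steps.bwd (nat_lit 13) (Steps.bwd (nat_lit 14) (Steps.fwd (nat_lit 106496) (Steps.fwd (nat_lit 147456) Steps.nil)))) (nat_lit 37) (nat_lit 2),
  Rule.mk (nat_lit 12) (nat_lit 78) (Steps.bwd (nat_lit 14) (Steps.fwd (nat_lit 155648) (Steps.fwd (nat_lit 98304) (Steps.fwd (nat_lit 114688) Steps.nil)))) (nat_lit 36) (nat_lit 3),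
  Rule.mk (nat_lit 10) (nat_lit 110) (Steps.bwd (nat_lit 16) (Steps.fwd (nat_lit 8192) (Steps.fwd (nat_lit 114688) (Steps.bwd (nat_lit 1) (Steps.bwd (nat_lit 15) (Steps.fwd (nat_lit 114688) Steps.nil)))))) (nat_lit 45) (nat_lit 3),
  Rule.mk (nat_lit 1) (nat_lit 110) (Steps.bwd (nat_lit 15) (Steps.bwd (nat_lit 15) (Steps.fwd (nat_lit 90112) (Steps.fwd (nat_lit 139264) (Steps.bwd (nat_lit 2) (Steps.bwd (nat_lit 15) Steps.nil)))))) (nat_lit 45) (nat_lit 0),
  Rule.mk (nat_lit 7) (nat_lit 94) (Steps.bwd (nat_lit 2) (Steps.fwd (nat_lit 8192) (Steps.fwd (nat_lit 8192) (Steps.fwd (nat_lit 8192) (Steps.bwd (nat_lit 7) Steps.nil))))) (nat_lit 78) (nat_lit 2),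
  Rule.mk (nat_lit 8) (nat_lit 94) (Steps.bwd (nat_lit 1) (Steps.bwd (nat_lit 7) (Steps.bwd (nat_lit 2) (Steps.fwd (nat_lit 8192) (Steps.fwd (nat_lit 8192) Steps.nil))))) (nat_lit 82) (nat_lit 1),
  Rule.mk (nat_lit 7) (nat_lit 158) (Steps.fwd (nat_lit 155648) (Steps.bwd (nat_lit 7) (Steps.bwd (nat_lit 18) (Steps.fwd (nat_lit 65536) (Steps.bwd (nat_lit 18) (Steps.bwd (nat_lit 7) (Steps.bwd (nat_lit 18) (Steps.bwd (nat_lit 7) (Steps.fwd (nat_lit 155648) Steps.nil))))))))) (nat_lit 84) (nat_lit 1),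
  Rule.mk (nat_lit 8) (nat_lit 94) (Steps.fwd (nat_lit 8192) (Steps.bwd (nat_lit 7) (Steps.bwd (nat_lit 1) (Steps.bwd (nat_lit 1) (Steps.bwd (nat_lit 1) Steps.nil))))) (nat_lit 83) (nat_lit 4),
  Rule.mk (nat_lit 15) (nat_lit 78) (Steps.bwd (nat_lit 16) (Steps.bwd (nat_lit 14) (Steps.bwd (nat_lit 19) (Steps.bwd (nat_lit 17) Steps.nil)))) (nat_lit 41) (nat_lit 3),
  Rule.mk (nat_lit 10) (nat_lit 94) (Steps.bwd (nat_lit 16) (Steps.fwd (nat_lit 147456) (Steps.bwd (nat_lit 19) (Steps.fwd (nat_lit 81920) (Steps.fwd (nat_lit 131072) Steps.nil))))) (nat_lit 34) (nat_lit 3),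
  Rule.mk (nat_lit 2) (nat_lit 142) (Steps.bwd (nat_lit 16) (Steps.bwd (nat_lit 1) (Steps.fwd (nat_lit 131072) (Steps.fwd (nat_lit 81920) (Steps.fwd (nat_lit 131072) (Steps.bwd (nat_lit 14) (Steps.fwd (nat_lit 106496) (Steps.bwd (nat_lit 11) Steps.nil)))))))) (nat_lit 46) (nat_lit 1),
  Rule.mk (nat_lit 17) (nat_lit 78) (Steps.bwd (nat_lit 15) (Steps.bwd (nat_lit 16) (Steps.fwd (nat_lit 122880) (Steps.fwd (nat_lit 147456) Steps.nil)))) (nat_lit 41) (nat_lit 2)]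
noncomputable def R_26 : List (Rule) := [Rule.mk (nat_lit 13) (nat_lit 62) (Steps.fwd (nat_lit 147456) (Steps.bwd (nat_lit 12) (Steps.bwd (nat_lit 18) Steps.nil))) (nat_lit 26) (nat_lit 1),
  Rule.mk (nat_lit 17) (nat_lit 78) (Steps.fwd (nat_lit 122880) (Steps.fwd (nat_lit 139264) (Steps.fwd (nat_lit 155648) (Steps.bwd (nat_lit 15) Steps.nil)))) (nat_lit 40) (nat_lit 2),
  Rule.mk (nat_lit 15) (nat_lit 110) (Steps.fwd (nat_lit 90112) (Steps.bwd (nat_lit 16) (Steps.fwd (nat_lit 8192) (Steps.fwd (nat_lit 114688) (Steps.bwd (nat_lit 1) (Steps.bwd (nat_lit 15) Steps.nil)))))) (nat_lit 45) (nat_lit 2),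
  Rule.mk (nat_lit 2) (nat_lit 110) (Steps.bwd (nat_lit 15) (Steps.bwd (nat_lit 1) (Steps.fwd (nat_lit 114688) (Steps.bwd (nat_lit 15) (Steps.fwd (nat_lit 90112) (Steps.fwd (nat_lit 139264) Steps.nil)))))) (nat_lit 45) (nat_lit 5),
  Rule.mk (nat_lit 10) (nat_lit 126) (Steps.bwd (nat_lit 16) (Steps.bwd (nat_lit 15) (Steps.bwd (nat_lit 15) (Steps.bwd (nat_lit 4) (Steps.fwd (nat_lit 114688) (Steps.bwd (nat_lit 3) (Steps.fwd (nat_lit 90112) Steps.nil))))))) (nat_lit 53) (nat_lit 2),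
  Rule.mk (nat_lit 12) (nat_lit 126) (Steps.fwd (nat_lit 32768) (Steps.bwd (nat_lit 16) (Steps.bwd (nat_lit 10) (Steps.bwd (nat_lit 16) (Steps.bwd (nat_lit 15) (Steps.bwd (nat_lit 13) (Steps.fwd (nat_lit 24576) Steps.nil))))))) (nat_lit 50) (nat_lit 2),
  Rule.mk (nat_lit 19) (nat_lit 78) (Steps.bwd (nat_lit 17) (Steps.bwd (nat_lit 15) (Steps.fwd (nat_lit 139264) (Steps.fwd (nat_lit 122880) Steps.nil)))) (nat_lit 41) (nat_lit 1),
  Rule.mk (nat_lit 15) (nat_lit 62) (Steps.fwd (nat_lit 155648) (Steps.fwd (nat_lit 122880) (Steps.bwd (nat_lit 19) Steps.nil))) (nat_lit 29) (nat_lit 2),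
  Rule.mk (nat_lit 7) (nat_lit 126) (Steps.bwd (nat_lit 18) (Steps.bwd (nat_lit 2) (Steps.bwd (nat_lit 2) (Steps.bwd (nat_lit 7) (Steps.fwd (nat_lit 155648) (Steps.fwd (nat_lit 65536) (Steps.fwd (nat_lit 147456) Steps.nil))))))) (nat_lit 86) (nat_lit 5),
  Rule.mk (nat_lit 1) (nat_lit 126) (Steps.bwd (nat_lit 19) (Steps.fwd (nat_lit 57344) (Steps.fwd (nat_lit 155648) (Steps.bwd (nat_lit 8) (Steps.fwd (nat_lit 147456) (Steps.fwd (nat_lit 57344) (Steps.bwd (nat_lit 1) Steps.nil))))))) (nat_lit 87) (nat_lit 2),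
  Rule.mk (nat_lit 2) (nat_lit 110) (Steps.bwd (nat_lit 15) (Steps.fwd (nat_lit 16384) (Steps.fwd (nat_lit 114688) (Steps.fwd (nat_lit 114688) (Steps.fwd (nat_lit 90112) (Steps.fwd (nat_lit 139264) Steps.nil)))))) (nat_lit 45) (nat_lit 5),
  Rule.mk (nat_lit 9) (nat_lit 110) (Steps.bwd (nat_lit 3) (Steps.fwd (nat_lit 73728) (Steps.bwd (nat_lit 16) (Steps.fwd (nat_lit 139264) (Steps.fwd (nat_lit 122880) (Steps.fwd (nat_lit 81920) Steps.nil)))))) (nat_lit 70) (nat_lit 1),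
  Rule.mk (nat_lit 9) (nat_lit 110) (Steps.fwd (nat_lit 90112) (Steps.bwd (nat_lit 9) (Steps.fwd (nat_lit 90112) (Steps.fwd (nat_lit 24576) (Steps.fwd (nat_lit 114688) (Steps.bwd (nat_lit 4) Steps.nil)))))) (nat_lit 60) (nat_lit 1),
  Rule.mk (nat_lit 9) (nat_lit 110) (Steps.fwd (nat_lit 90112) (Steps.bwd (nat_lit 4) (Steps.bwd (nat_lit 15) (Steps.fwd (nat_lit 24576) (Steps.bwd (nat_lit 9) (Steps.bwd (nat_lit 10) Steps.nil)))))) (nat_lit 60) (nat_lit 3),
  Rule.mk (nat_lit 16) (nat_lit 110) (Steps.bwd (nat_lit 9) (Steps.fwd (nat_lit 131072) (Steps.fwd (nat_lit 122880) (Steps.bwd (nat_lit 4) (Steps.bwd (nat_lit 4) (Steps.fwd (nat_lit 73728) Steps.nil)))))) (nat_lit 64) (nat_lit 2),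
  Rule.mk (nat_lit 14) (nat_lit 110) (Steps.bwd (nat_lit 2) (Steps.fwd (nat_lit 122880) (Steps.fwd (nat_lit 16384) (Steps.bwd (nat_lit 17) (Steps.bwd (nat_lit 11) (Steps.bwd (nat_lit 14) Steps.nil)))))) (nat_lit 44) (nat_lit 0),
  Rule.mk (nat_lit 2) (nat_lit 94) (Steps.bwd (nat_lit 4) (Steps.fwd (nat_lit 16384) (Steps.bwd (nat_lit 1) (Steps.bwd (nat_lit 3) (Steps.bwd (nat_lit 2) Steps.nil))))) (nat_lit 6) (nat_lit 2),
  Rule.mk (nat_lit 17) (nat_lit 110) (Steps.bwd (nat_lit 9) (Steps.fwd (nat_lit 147456) (Steps.bwd (nat_lit 9) (Steps.bwd (nat_lit 10) (Steps.bwd (nat_lit 15) (Steps.bwd (nat_lit 10) Steps.nil)))))) (nat_lit 67) (nat_lit 4),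
  Rule.mk (nat_lit 10) (nat_lit 94) (Steps.fwd (nat_lit 139264) (Steps.fwd (nat_lit 147456) (Steps.bwd (nat_lit 19) (Steps.bwd (nat_lit 11) (Steps.bwd (nat_lit 17) Steps.nil))))) (nat_lit 34) (nat_lit 3),
  Rule.mk (nat_lit 2) (nat_lit 62) (Steps.fwd (nat_lit 49152) (Steps.bwd (nat_lit 1) (Steps.bwd (nat_lit 13) Steps.nil))) (nat_lit 13) (nat_lit 1),
  Rule.mk (nat_lit 10) (nat_lit 78) (Steps.bwd (nat_lit 12) (Steps.fwd (nat_lit 147456) (Steps.fwd (nat_lit 81920) (Steps.fwd (nat_lit 98304) Steps.nil)))) (nat_lit 19) (nat_lit 3),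
  Rule.mk (nat_lit 10) (nat_lit 94) (Steps.bwd (nat_lit 16) (Steps.fwd (nat_lit 147456) (Steps.bwd (nat_lit 19) (Steps.bwd (nat_lit 11) (Steps.fwd (nat_lit 131072) Steps.nil))))) (nat_lit 34) (nat_lit 3),
  Rule.mk (nat_lit 9) (nat_lit 110) (Steps.bwd (nat_lit 17) (Steps.fwd (nat_lit 73728) (Steps.bwd (nat_lit 3) (Steps.fwd (nat_lit 32768) (Steps.bwd (nat_lit 15) (Steps.bwd (nat_lit 16) Steps.nil)))))) (nat_lit 65) (nat_lit 5),
  Rule.mk (nat_lit 4) (nat_lit 78) (Steps.bwd (nat_lit 4) (Steps.fwd (nat_lit 24576) (Steps.bwd (nat_lit 4) (Steps.fwd (nat_lit 24576) Steps.nil)))) (nat_lit 3) (nat_lit 0),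
  Rule.mk (nat_lit 9) (nat_lit 110) (Steps.bwd (nat_lit 4) (Steps.fwd (nat_lit 73728) (Steps.bwd (nat_lit 10) (Steps.bwd (nat_lit 15) (Steps.fwd (nat_lit 131072) (Steps.fwd (nat_lit 131072) Steps.nil)))))) (nat_lit 71) (nat_lit 5),
  Rule.mk (nat_lit 7) (nat_lit 126) (Steps.bwd (nat_lit 18) (Steps.bwd (nat_lit 2) (Steps.bwd (nat_lit 2) (Steps.bwd (nat_lit 7) (Steps.bwd (nat_lit 18) (Steps.bwd (nat_lit 7) (Steps.bwd (nat_lit 19) Steps.nil))))))) (nat_lit 86) (nat_lit 5),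
  Rule.mk (nat_lit 3) (nat_lit 126) (Steps.bwd (nat_lit 16) (Steps.bwd (nat_lit 10) (Steps.bwd (nat_lit 16) (Steps.bwd (nat_lit 15) (Steps.fwd (nat_lit 98304) (Steps.bwd (nat_lit 4) (Steps.fwd (nat_lit 106496) Steps.nil))))))) (nat_lit 50) (nat_lit 3),
  Rule.mk (nat_lit 2) (nat_lit 94) (Steps.bwd (nat_lit 4) (Steps.bwd (nat_lit 1) (Steps.bwd (nat_lit 1) (Steps.fwd (nat_lit 32768) (Steps.fwd (nat_lit 8192) Steps.nil))))) (nat_lit 6) (nat_lit 2),
  Rule.mk (nat_lit 3) (nat_lit 126) (Steps.bwd (nat_lit 12) (Steps.bwd (nat_lit 14) (Steps.fwd (nat_lit 131072) (Steps.fwd (nat_lit 81920) (Steps.fwd (nat_lit 131072) (Steps.bwd (nat_lit 4) (Steps.fwd (nat_lit 98304) Steps.nil))))))) (nat_lit 51) (nat_lit 0),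
  Rule.mk (nat_lit 8) (nat_lit 62) (Steps.bwd (nat_lit 3) (Steps.fwd (nat_lit 65536) (Steps.fwd (nat_lit 24576) Steps.nil))) (nat_lit 80) (nat_lit 2),
  Rule.mk (nat_lit 7) (nat_lit 126) (Steps.bwd (nat_lit 18) (Steps.bwd (nat_lit 2) (Steps.bwd (nat_lit 2) (Steps.fwd (nat_lit 65536) (Steps.bwd (nat_lit 18) (Steps.fwd (nat_lit 65536) (Steps.bwd (nat_lit 19) Steps.nil))))))) (nat_lit 86) (nat_lit 5),
  Rule.mk (nat_lit 7) (nat_lit 158) (Steps.bwd (nat_lit 18) (Steps.bwd (nat_lit 7) (Steps.bwd (nat_lit 18) (Steps.fwd (nat_lit 65536) (Steps.bwd (nat_lit 18) (Steps.fwd (nat_lit 65536) (Steps.fwd (nat_lit 155648) (Steps.fwd (nat_lit 65536) (Steps.bwd (nat_lit 18) Steps.nil))))))))) (nat_lit 84) (nat_lit 1),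
  Rule.mk (nat_lit 7) (nat_lit 94) (Steps.fwd (nat_lit 8192) (Steps.fwd (nat_lit 8192) (Steps.bwd (nat_lit 2) (Steps.fwd (nat_lit 8192) (Steps.bwd (nat_lit 7) Steps.nil))))) (nat_lit 78) (nat_lit 2),
  Rule.mk (nat_lit 2) (nat_lit 94) (Steps.bwd (nat_lit 2) (Steps.fwd (nat_lit 8192) (Steps.bwd (nat_lit 2) (Steps.fwd (nat_lit 65536) (Steps.bwd (nat_lit 7) Steps.nil))))) (nat_lit 78) (nat_lit 3),
  Rule.mk (nat_lit 8) (nat_lit 126) (Steps.bwd (nat_lit 19) (Steps.bwd (nat_lit 8) (Steps.fwd (nat_lit 16384) (Steps.fwd (nat_lit 16384) (Steps.fwd (nat_lit 147456) (Steps.fwd (nat_lit 57344) (Steps.bwd (nat_lit 18) Steps.nil))))))) (nat_lit 87) (nat_lit 6),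
  Rule.mk (nat_lit 12) (nat_lit 126) (Steps.bwd (nat_lit 14) (Steps.bwd (nat_lit 17) (Steps.fwd (nat_lit 81920) (Steps.bwd (nat_lit 17) (Steps.bwd (nat_lit 4) (Steps.bwd (nat_lit 13) (Steps.bwd (nat_lit 3) Steps.nil))))))) (nat_lit 51) (nat_lit 1),
  Rule.mk (nat_lit 2) (nat_lit 62) (Steps.fwd (nat_lit 40960) (Steps.fwd (nat_lit 16384) (Steps.bwd (nat_lit 12) Steps.nil))) (nat_lit 12) (nat_lit 2),
  Rule.mk (nat_lit 19) (nat_lit 78) (Steps.bwd (nat_lit 15) (Steps.fwd (nat_lit 98304) (Steps.fwd (nat_lit 122880) (Steps.fwd (nat_lit 106496) Steps.nil)))) (nat_lit 37) (nat_lit 1),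
  Rule.mk (nat_lit 2) (nat_lit 110) (Steps.bwd (nat_lit 15) (Steps.bwd (nat_lit 1) (Steps.fwd (nat_lit 114688) (Steps.bwd (nat_lit 15) (Steps.fwd (nat_lit 90112) (Steps.bwd (nat_lit 16) Steps.nil)))))) (nat_lit 45) (nat_lit 5),
  Rule.mk (nat_lit 7) (nat_lit 126) (Steps.bwd (nat_lit 18) (Steps.fwd (nat_lit 8192) (Steps.fwd (nat_lit 8192) (Steps.fwd (nat_lit 65536) (Steps.bwd (nat_lit 18) (Steps.fwd (nat_lit 65536) (Steps.bwd (nat_lit 19) Steps.nil))))))) (nat_lit 86) (nat_lit 5),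
  Rule.mk (nat_lit 15) (nat_lit 78) (Steps.fwd (nat_lit 139264) (Steps.bwd (nat_lit 14) (Steps.bwd (nat_lit 19) (Steps.bwd (nat_lit 17) Steps.nil)))) (nat_lit 41) (nat_lit 3),
  Rule.mk (nat_lit 1) (nat_lit 126) (Steps.bwd (nat_lit 3) (Steps.fwd (nat_lit 16384) (Steps.bwd (nat_lit 3) (Steps.fwd (nat_lit 16384) (Steps.bwd (nat_lit 3) (Steps.fwd (nat_lit 16384) (Steps.bwd (nat_lit 3) Steps.nil))))))) (nat_lit 4) (nat_lit 1),
  Rule.mk (nat_lit 10) (nat_lit 142) (Steps.fwd (nat_lit 98304) (Steps.bwd (nat_lit 15) (Steps.fwd (nat_lit 139264) (Steps.fwd (nat_lit 90112) (Steps.fwd (nat_lit 139264) (Steps.bwd (nat_lit 2) (Steps.bwd (nat_lit 17) (Steps.bwd (nat_lit 1) Steps.nil)))))))) (nat_lit 47) (nat_lit 1),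
  Rule.mk (nat_lit 7) (nat_lit 126) (Steps.bwd (nat_lit 18) (Steps.fwd (nat_lit 8192) (Steps.bwd (nat_lit 2) (Steps.bwd (nat_lit 7) (Steps.bwd (nat_lit 18) (Steps.bwd (nat_lit 7) (Steps.bwd (nat_lit 19) Steps.nil))))))) (nat_lit 86) (nat_lit 5),
  Rule.mk (nat_lit 8) (nat_lit 126) (Steps.bwd (nat_lit 18) (Steps.fwd (nat_lit 57344) (Steps.fwd (nat_lit 147456) (Steps.fwd (nat_lit 57344) (Steps.bwd (nat_lit 1) (Steps.bwd (nat_lit 1) (Steps.bwd (nat_lit 19) Steps.nil))))))) (nat_lit 87) (nat_lit 4),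
  Rule.mk (nat_lit 7) (nat_lit 126) (Steps.bwd (nat_lit 19) (Steps.bwd (nat_lit 7) (Steps.bwd (nat_lit 18) (Steps.bwd (nat_lit 2) (Steps.bwd (nat_lit 2) (Steps.fwd (nat_lit 65536) (Steps.fwd (nat_lit 155648) Steps.nil))))))) (nat_lit 86) (nat_lit 3),
  Rule.mk (nat_lit 14) (nat_lit 126) (Steps.bwd (nat_lit 17) (Steps.bwd (nat_lit 11) (Steps.bwd (nat_lit 17) (Steps.bwd (nat_lit 4) (Steps.fwd (nat_lit 98304) (Steps.bwd (nat_lit 3) (Steps.fwd (nat_lit 106496) Steps.nil))))))) (nat_lit 51) (nat_lit 2),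
  Rule.mk (nat_lit 2) (nat_lit 94) (Steps.fwd (nat_lit 24576) (Steps.bwd (nat_lit 1) (Steps.fwd (nat_lit 16384) (Steps.fwd (nat_lit 32768) (Steps.bwd (nat_lit 2) Steps.nil))))) (nat_lit 6) (nat_lit 2),
  Rule.mk (nat_lit 7) (nat_lit 126) (Steps.bwd (nat_lit 18) (Steps.bwd (nat_lit 2) (Steps.fwd (nat_lit 8192) (Steps.bwd (nat_lit 7) (Steps.fwd (nat_lit 155648) (Steps.bwd (nat_lit 7) (Steps.bwd (nat_lit 19) Steps.nil))))))) (nat_lit 86) (nat_lit 5),
  Rule.mk (nat_lit 8) (nat_lit 126) (Steps.bwd (nat_lit 18) (Steps.bwd (nat_lit 8) (Steps.fwd (nat_lit 147456) (Steps.bwd (nat_lit 8) (Steps.bwd (nat_lit 1) (Steps.bwd (nat_lit 1) (Steps.bwd (nat_lit 19) Steps.nil))))))) (nat_lit 87) (nat_lit 4),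
  Rule.mk (nat_lit 13) (nat_lit 78) (Steps.bwd (nat_lit 14) (Steps.bwd (nat_lit 12) (Steps.bwd (nat_lit 19) (Steps.fwd (nat_lit 114688) Steps.nil)))) (nat_lit 37) (nat_lit 3),
  Rule.mk (nat_lit 7) (nat_lit 126) (Steps.bwd (nat_lit 19) (Steps.fwd (nat_lit 65536) (Steps.fwd (nat_lit 155648) (Steps.fwd (nat_lit 8192) (Steps.bwd (nat_lit 2) (Steps.bwd (nat_lit 7) (Steps.bwd (nat_lit 18) Steps.nil))))))) (nat_lit 86) (nat_lit 3),
  Rule.mk (nat_lit 8) (nat_lit 126) (Steps.bwd (nat_lit 19) (Steps.bwd (nat_lit 8) (Steps.fwd (nat_lit 16384) (Steps.fwd (nat_lit 16384) (Steps.fwd (nat_lit 147456) (Steps.bwd (nat_lit 8) (Steps.fwd (nat_lit 155648) Steps.nil))))))) (nat_lit 87) (nat_lit 6),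
  Rule.mk (nat_lit 3) (nat_lit 78) (Steps.bwd (nat_lit 3) (Steps.fwd (nat_lit 32768) (Steps.fwd (nat_lit 32768) (Steps.fwd (nat_lit 32768) Steps.nil)))) (nat_lit 2) (nat_lit 0),
  Rule.mk (nat_lit 2) (nat_lit 94) (Steps.bwd (nat_lit 3) (Steps.bwd (nat_lit 1) (Steps.fwd (nat_lit 16384) (Steps.fwd (nat_lit 24576) (Steps.fwd (nat_lit 8192) Steps.nil))))) (nat_lit 7) (nat_lit 3),
  Rule.mk (nat_lit 1) (nat_lit 126) (Steps.bwd (nat_lit 3) (Steps.bwd (nat_lit 1) (Steps.fwd (nat_lit 32768) (Steps.fwd (nat_lit 16384) (Steps.bwd (nat_lit 3) (Steps.fwd (nat_lit 16384) (Steps.fwd (nat_lit 32768) Steps.nil))))))) (nat_lit 4) (nat_lit 1),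
  Rule.mk (nat_lit 8) (nat_lit 126) (Steps.bwd (nat_lit 18) (Steps.bwd (nat_lit 8) (Steps.fwd (nat_lit 147456) (Steps.fwd (nat_lit 57344) (Steps.bwd (nat_lit 1) (Steps.fwd (nat_lit 16384) (Steps.bwd (nat_lit 19) Steps.nil))))))) (nat_lit 87) (nat_lit 4),
  Rule.mk (nat_lit 1) (nat_lit 126) (Steps.bwd (nat_lit 3) (Steps.fwd (nat_lit 16384) (Steps.fwd (nat_lit 32768) (Steps.bwd (nat_lit 1) (Steps.fwd (nat_lit 32768) (Steps.fwd (nat_lit 16384) (Steps.bwd (nat_lit 3) Steps.nil))))))) (nat_lit 4) (nat_lit 1),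
  Rule.mk (nat_lit 12) (nat_lit 62) (Steps.fwd (nat_lit 8192) (Steps.bwd (nat_lit 6) (Steps.bwd (nat_lit 1) Steps.nil))) (nat_lit 12) (nat_lit 1),
  Rule.mk (nat_lit 7) (nat_lit 126) (Steps.bwd (nat_lit 19) (Steps.fwd (nat_lit 65536) (Steps.fwd (nat_lit 155648) (Steps.bwd (nat_lit 2) (Steps.bwd (nat_lit 2) (Steps.fwd (nat_lit 65536) (Steps.bwd (nat_lit 18) Steps.nil))))))) (nat_lit 86) (nat_lit 3),
  Rule.mk (nat_lit 8) (nat_lit 126) (Steps.bwd (nat_lit 19) (Steps.bwd (nat_lit 8) (Steps.fwd (nat_lit 16384) (Steps.fwd (nat_lit 16384) (Steps.fwd (nat_lit 147456) (Steps.fwd (nat_lit 57344) (Steps.fwd (nat_lit 155648) Steps.nil))))))) (nat_lit 87) (nat_lit 6),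
  Rule.mk (nat_lit 7) (nat_lit 126) (Steps.bwd (nat_lit 18) (Steps.bwd (nat_lit 2) (Steps.bwd (nat_lit 2) (Steps.bwd (nat_lit 7) (Steps.bwd (nat_lit 18) (Steps.fwd (nat_lit 65536) (Steps.fwd (nat_lit 147456) Steps.nil))))))) (nat_lit 86) (nat_lit 5),
  Rule.mk (nat_lit 7) (nat_lit 126) (Steps.bwd (nat_lit 19) (Steps.bwd (nat_lit 7) (Steps.fwd (nat_lit 155648) (Steps.bwd (nat_lit 2) (Steps.fwd (nat_lit 8192) (Steps.fwd (nat_lit 65536) (Steps.bwd (nat_lit 18) Steps.nil))))))) (nat_lit 86) (nat_lit 3),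
  Rule.mk (nat_lit 13) (nat_lit 78) (Steps.bwd (nat_lit 14) (Steps.fwd (nat_lit 106496) (Steps.bwd (nat_lit 19) (Steps.bwd (nat_lit 15) Steps.nil)))) (nat_lit 37) (nat_lit 3)]
noncomputable def R_27 : List (Rule) := [Rule.mk (nat_lit 7) (nat_lit 126) (Steps.bwd (nat_lit 18) (Steps.bwd (nat_lit 2) (Steps.bwd (nat_lit 2) (Steps.fwd (nat_lit 65536) (Steps.fwd (nat_lit 155648) (Steps.fwd (nat_lit 65536) (Steps.bwd (nat_lit 19) Steps.nil))))))) (nat_lit 86) (nat_lit 5),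
  Rule.mk (nat_lit 8) (nat_lit 126) (Steps.bwd (nat_lit 18) (Steps.bwd (nat_lit 8) (Steps.bwd (nat_lit 19) (Steps.bwd (nat_lit 8) (Steps.bwd (nat_lit 1) (Steps.bwd (nat_lit 1) (Steps.bwd (nat_lit 19) Steps.nil))))))) (nat_lit 87) (nat_lit 4),
  Rule.mk (nat_lit 3) (nat_lit 78) (Steps.bwd (nat_lit 3) (Steps.fwd (nat_lit 32768) (Steps.bwd (nat_lit 3) (Steps.fwd (nat_lit 32768) Steps.nil)))) (nat_lit 2) (nat_lit 0),
  Rule.mk (nat_lit 2) (nat_lit 190) (Steps.fwd (nat_lit 24576) (Steps.bwd (nat_lit 1) (Steps.bwd (nat_lit 3) (Steps.bwd (nat_lit 2) (Steps.bwd (nat_lit 4) (Steps.bwd (nat_lit 1) (Steps.fwd (nat_lit 32768) (Steps.fwd (nat_lit 8192) (Steps.bwd (nat_lit 4) (Steps.bwd (nat_lit 1) (Steps.fwd (nat_lit 32768) Steps.nil))))))))))) (nat_lit 8) (nat_lit 1),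
  Rule.mk (nat_lit 4) (nat_lit 94) (Steps.fwd (nat_lit 16384) (Steps.bwd (nat_lit 1) (Steps.bwd (nat_lit 3) (Steps.fwd (nat_lit 8192) (Steps.bwd (nat_lit 2) Steps.nil))))) (nat_lit 6) (nat_lit 3),
  Rule.mk (nat_lit 8) (nat_lit 126) (Steps.bwd (nat_lit 18) (Steps.bwd (nat_lit 8) (Steps.fwd (nat_lit 147456) (Steps.bwd (nat_lit 8) (Steps.bwd (nat_lit 1) (Steps.fwd (nat_lit 16384) (Steps.fwd (nat_lit 147456) Steps.nil))))))) (nat_lit 87) (nat_lit 4),
  Rule.mk (nat_lit 7) (nat_lit 126) (Steps.bwd (nat_lit 19) (Steps.bwd (nat_lit 7) (Steps.bwd (nat_lit 18) (Steps.bwd (nat_lit 2) (Steps.fwd (nat_lit 8192) (Steps.fwd (nat_lit 65536) (Steps.fwd (nat_lit 155648) Steps.nil))))))) (nat_lit 86) (nat_lit 3),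
  Rule.mk (nat_lit 2) (nat_lit 94) (Steps.bwd (nat_lit 3) (Steps.fwd (nat_lit 16384) (Steps.fwd (nat_lit 16384) (Steps.fwd (nat_lit 24576) (Steps.fwd (nat_lit 8192) Steps.nil))))) (nat_lit 7) (nat_lit 3),
  Rule.mk (nat_lit 1) (nat_lit 126) (Steps.bwd (nat_lit 3) (Steps.fwd (nat_lit 16384) (Steps.bwd (nat_lit 3) (Steps.fwd (nat_lit 16384) (Steps.bwd (nat_lit 3) (Steps.fwd (nat_lit 16384) (Steps.fwd (nat_lit 32768) Steps.nil))))))) (nat_lit 4) (nat_lit 1),
  Rule.mk (nat_lit 13) (nat_lit 78) (Steps.fwd (nat_lit 16384) (Steps.fwd (nat_lit 81920) (Steps.fwd (nat_lit 81920) (Steps.bwd (nat_lit 2) Steps.nil)))) (nat_lit 43) (nat_lit 4),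
  Rule.mk (nat_lit 19) (nat_lit 78) (Steps.bwd (nat_lit 1) (Steps.fwd (nat_lit 155648) (Steps.fwd (nat_lit 155648) (Steps.bwd (nat_lit 2) Steps.nil)))) (nat_lit 49) (nat_lit 4),
  Rule.mk (nat_lit 11) (nat_lit 78) (Steps.fwd (nat_lit 98304) (Steps.fwd (nat_lit 90112) (Steps.fwd (nat_lit 106496) (Steps.bwd (nat_lit 19) Steps.nil)))) (nat_lit 19) (nat_lit 1),
  Rule.mk (nat_lit 2) (nat_lit 142) (Steps.bwd (nat_lit 16) (Steps.bwd (nat_lit 1) (Steps.bwd (nat_lit 17) (Steps.bwd (nat_lit 11) (Steps.fwd (nat_lit 131072) (Steps.fwd (nat_lit 122880) (Steps.fwd (nat_lit 106496) (Steps.bwd (nat_lit 11) Steps.nil)))))))) (nat_lit 46) (nat_lit 1),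
  Rule.mk (nat_lit 7) (nat_lit 126) (Steps.bwd (nat_lit 18) (Steps.bwd (nat_lit 2) (Steps.bwd (nat_lit 2) (Steps.fwd (nat_lit 65536) (Steps.bwd (nat_lit 18) (Steps.fwd (nat_lit 65536) (Steps.fwd (nat_lit 147456) Steps.nil))))))) (nat_lit 86) (nat_lit 5),
  Rule.mk (nat_lit 8) (nat_lit 126) (Steps.bwd (nat_lit 18) (Steps.bwd (nat_lit 8) (Steps.fwd (nat_lit 147456) (Steps.fwd (nat_lit 57344) (Steps.bwd (nat_lit 1) (Steps.bwd (nat_lit 1) (Steps.bwd (nat_lit 19) Steps.nil))))))) (nat_lit 87) (nat_lit 4),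
  Rule.mk (nat_lit 8) (nat_lit 126) (Steps.bwd (nat_lit 19) (Steps.bwd (nat_lit 8) (Steps.fwd (nat_lit 16384) (Steps.fwd (nat_lit 16384) (Steps.bwd (nat_lit 19) (Steps.fwd (nat_lit 57344) (Steps.fwd (nat_lit 155648) Steps.nil))))))) (nat_lit 87) (nat_lit 6),
  Rule.mk (nat_lit 9) (nat_lit 206) (Steps.bwd (nat_lit 1) (Steps.bwd (nat_lit 3) (Steps.bwd (nat_lit 3) (Steps.fwd (nat_lit 16384) (Steps.fwd (nat_lit 24576) (Steps.fwd (nat_lit 16384) (Steps.fwd (nat_lit 90112) (Steps.fwd (nat_lit 155648) (Steps.fwd (nat_lit 131072) (Steps.fwd (nat_lit 73728) (Steps.bwd (nat_lit 2) (Steps.bwd (nat_lit 2) Steps.nil)))))))))))) (nat_lit 69) (nat_lit 0),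
  Rule.mk (nat_lit 16) (nat_lit 94) (Steps.fwd (nat_lit 90112) (Steps.fwd (nat_lit 155648) (Steps.fwd (nat_lit 155648) (Steps.bwd (nat_lit 17) (Steps.bwd (nat_lit 11) Steps.nil))))) (nat_lit 35) (nat_lit 5),
  Rule.mk (nat_lit 2) (nat_lit 142) (Steps.fwd (nat_lit 139264) (Steps.bwd (nat_lit 1) (Steps.bwd (nat_lit 17) (Steps.bwd (nat_lit 11) (Steps.fwd (nat_lit 131072) (Steps.fwd (nat_lit 122880) (Steps.fwd (nat_lit 106496) (Steps.bwd (nat_lit 11) Steps.nil)))))))) (nat_lit 46) (nat_lit 1),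
  Rule.mk (nat_lit 2) (nat_lit 62) (Steps.bwd (nat_lit 6) (Steps.fwd (nat_lit 16384) (Steps.bwd (nat_lit 12) Steps.nil))) (nat_lit 12) (nat_lit 2),
  Rule.mk (nat_lit 3) (nat_lit 110) (Steps.bwd (nat_lit 9) (Steps.fwd (nat_lit 139264) (Steps.bwd (nat_lit 16) (Steps.bwd (nat_lit 14) (Steps.fwd (nat_lit 81920) (Steps.fwd (nat_lit 73728) Steps.nil)))))) (nat_lit 70) (nat_lit 2),
  Rule.mk (nat_lit 7) (nat_lit 126) (Steps.bwd (nat_lit 18) (Steps.fwd (nat_lit 8192) (Steps.bwd (nat_lit 2) (Steps.fwd (nat_lit 65536) (Steps.fwd (nat_lit 155648) (Steps.fwd (nat_lit 65536) (Steps.fwd (nat_lit 147456) Steps.nil))))))) (nat_lit 86) (nat_lit 5),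
  Rule.mk (nat_lit 8) (nat_lit 126) (Steps.bwd (nat_lit 19) (Steps.fwd (nat_lit 57344) (Steps.fwd (nat_lit 16384) (Steps.fwd (nat_lit 16384) (Steps.fwd (nat_lit 147456) (Steps.bwd (nat_lit 8) (Steps.bwd (nat_lit 18) Steps.nil))))))) (nat_lit 87) (nat_lit 6),
  Rule.mk (nat_lit 1) (nat_lit 94) (Steps.bwd (nat_lit 3) (Steps.fwd (nat_lit 8192) (Steps.fwd (nat_lit 8192) (Steps.bwd (nat_lit 4) (Steps.fwd (nat_lit 16384) Steps.nil))))) (nat_lit 6) (nat_lit 5),
  Rule.mk (nat_lit 19) (nat_lit 78) (Steps.fwd (nat_lit 16384) (Steps.fwd (nat_lit 155648) (Steps.bwd (nat_lit 18) (Steps.bwd (nat_lit 2) Steps.nil)))) (nat_lit 49) (nat_lit 4),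
  Rule.mk (nat_lit 13) (nat_lit 78) (Steps.fwd (nat_lit 81920) (Steps.bwd (nat_lit 12) (Steps.bwd (nat_lit 10) (Steps.bwd (nat_lit 18) Steps.nil)))) (nat_lit 18) (nat_lit 2),
  Rule.mk (nat_lit 17) (nat_lit 94) (Steps.fwd (nat_lit 81920) (Steps.fwd (nat_lit 139264) (Steps.bwd (nat_lit 10) (Steps.bwd (nat_lit 18) (Steps.fwd (nat_lit 155648) Steps.nil))))) (nat_lit 35) (nat_lit 3),
  Rule.mk (nat_lit 7) (nat_lit 126) (Steps.bwd (nat_lit 19) (Steps.fwd (nat_lit 65536) (Steps.bwd (nat_lit 18) (Steps.bwd (nat_lit 2) (Steps.fwd (nat_lit 8192) (Steps.fwd (nat_lit 65536) (Steps.fwd (nat_lit 155648) Steps.nil))))))) (nat_lit 86) (nat_lit 3),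
  Rule.mk (nat_lit 8) (nat_lit 126) (Steps.bwd (nat_lit 19) (Steps.bwd (nat_lit 8) (Steps.bwd (nat_lit 1) (Steps.fwd (nat_lit 16384) (Steps.fwd (nat_lit 147456) (Steps.bwd (nat_lit 8) (Steps.bwd (nat_lit 18) Steps.nil))))))) (nat_lit 87) (nat_lit 6),
  Rule.mk (nat_lit 1) (nat_lit 126) (Steps.bwd (nat_lit 19) (Steps.bwd (nat_lit 8) (Steps.fwd (nat_lit 155648) (Steps.bwd (nat_lit 8) (Steps.fwd (nat_lit 147456) (Steps.fwd (nat_lit 57344) (Steps.fwd (nat_lit 16384) Steps.nil))))))) (nat_lit 87) (nat_lit 2),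
  Rule.mk (nat_lit 2) (nat_lit 94) (Steps.bwd (nat_lit 3) (Steps.fwd (nat_lit 16384) (Steps.bwd (nat_lit 1) (Steps.fwd (nat_lit 24576) (Steps.fwd (nat_lit 8192) Steps.nil))))) (nat_lit 7) (nat_lit 3),
  Rule.mk (nat_lit 7) (nat_lit 126) (Steps.bwd (nat_lit 18) (Steps.fwd (nat_lit 8192) (Steps.fwd (nat_lit 8192) (Steps.bwd (nat_lit 7) (Steps.fwd (nat_lit 155648) (Steps.fwd (nat_lit 65536) (Steps.fwd (nat_lit 147456) Steps.nil))))))) (nat_lit 86) (nat_lit 5),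
  Rule.mk (nat_lit 7) (nat_lit 126) (Steps.bwd (nat_lit 19) (Steps.bwd (nat_lit 7) (Steps.bwd (nat_lit 18) (Steps.fwd (nat_lit 8192) (Steps.bwd (nat_lit 2) (Steps.bwd (nat_lit 7) (Steps.bwd (nat_lit 18) Steps.nil))))))) (nat_lit 86) (nat_lit 3),
  Rule.mk (nat_lit 8) (nat_lit 126) (Steps.bwd (nat_lit 19) (Steps.fwd (nat_lit 57344) (Steps.bwd (nat_lit 1) (Steps.bwd (nat_lit 1) (Steps.bwd (nat_lit 19) (Steps.fwd (nat_lit 57344) (Steps.bwd (nat_lit 18) Steps.nil))))))) (nat_lit 87) (nat_lit 6),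
  Rule.mk (nat_lit 1) (nat_lit 94) (Steps.bwd (nat_lit 3) (Steps.bwd (nat_lit 2) (Steps.fwd (nat_lit 8192) (Steps.fwd (nat_lit 24576) (Steps.fwd (nat_lit 16384) Steps.nil))))) (nat_lit 6) (nat_lit 5),
  Rule.mk (nat_lit 2) (nat_lit 94) (Steps.bwd (nat_lit 3) (Steps.bwd (nat_lit 1) (Steps.bwd (nat_lit 1) (Steps.fwd (nat_lit 24576) (Steps.fwd (nat_lit 8192) Steps.nil))))) (nat_lit 7) (nat_lit 3),
  Rule.mk (nat_lit 17) (nat_lit 78) (Steps.bwd (nat_lit 14) (Steps.bwd (nat_lit 16) (Steps.fwd (nat_lit 155648) (Steps.fwd (nat_lit 114688) Steps.nil)))) (nat_lit 40) (nat_lit 2),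
  Rule.mk (nat_lit 7) (nat_lit 126) (Steps.bwd (nat_lit 19) (Steps.fwd (nat_lit 65536) (Steps.bwd (nat_lit 18) (Steps.bwd (nat_lit 2) (Steps.bwd (nat_lit 2) (Steps.fwd (nat_lit 65536) (Steps.fwd (nat_lit 155648) Steps.nil))))))) (nat_lit 86) (nat_lit 3),
  Rule.mk (nat_lit 8) (nat_lit 126) (Steps.bwd (nat_lit 19) (Steps.bwd (nat_lit 8) (Steps.fwd (nat_lit 16384) (Steps.fwd (nat_lit 16384) (Steps.fwd (nat_lit 147456) (Steps.bwd (nat_lit 8) (Steps.bwd (nat_lit 18) Steps.nil))))))) (nat_lit 87) (nat_lit 6),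
  Rule.mk (nat_lit 8) (nat_lit 126) (Steps.bwd (nat_lit 18) (Steps.fwd (nat_lit 57344) (Steps.fwd (nat_lit 147456) (Steps.fwd (nat_lit 57344) (Steps.fwd (nat_lit 16384) (Steps.bwd (nat_lit 1) (Steps.bwd (nat_lit 19) Steps.nil))))))) (nat_lit 87) (nat_lit 4),
  Rule.mk (nat_lit 8) (nat_lit 126) (Steps.bwd (nat_lit 19) (Steps.fwd (nat_lit 57344) (Steps.fwd (nat_lit 16384) (Steps.bwd (nat_lit 1) (Steps.fwd (nat_lit 147456) (Steps.fwd (nat_lit 57344) (Steps.fwd (nat_lit 155648) Steps.nil))))))) (nat_lit 87) (nat_lit 6),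
  Rule.mk (nat_lit 8) (nat_lit 126) (Steps.bwd (nat_lit 19) (Steps.bwd (nat_lit 8) (Steps.bwd (nat_lit 1) (Steps.bwd (nat_lit 1) (Steps.fwd (nat_lit 147456) (Steps.fwd (nat_lit 57344) (Steps.fwd (nat_lit 155648) Steps.nil))))))) (nat_lit 87) (nat_lit 6),
  Rule.mk (nat_lit 7) (nat_lit 158) (Steps.bwd (nat_lit 18) (Steps.fwd (nat_lit 65536) (Steps.bwd (nat_lit 18) (Steps.bwd (nat_lit 7) (Steps.bwd (nat_lit 18) (Steps.bwd (nat_lit 7) (Steps.fwd (nat_lit 155648) (Steps.bwd (nat_lit 7) (Steps.bwd (nat_lit 18) Steps.nil))))))))) (nat_lit 84) (nat_lit 1),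
  Rule.mk (nat_lit 8) (nat_lit 126) (Steps.bwd (nat_lit 18) (Steps.bwd (nat_lit 8) (Steps.bwd (nat_lit 19) (Steps.fwd (nat_lit 57344) (Steps.bwd (nat_lit 1) (Steps.bwd (nat_lit 1) (Steps.bwd (nat_lit 19) Steps.nil))))))) (nat_lit 87) (nat_lit 4),
  Rule.mk (nat_lit 1) (nat_lit 126) (Steps.bwd (nat_lit 3) (Steps.bwd (nat_lit 1) (Steps.fwd (nat_lit 32768) (Steps.bwd (nat_lit 1) (Steps.bwd (nat_lit 3) (Steps.bwd (nat_lit 1) (Steps.bwd (nat_lit 3) Steps.nil))))))) (nat_lit 4) (nat_lit 1),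
  Rule.mk (nat_lit 18) (nat_lit 62) (Steps.fwd (nat_lit 81920) (Steps.bwd (nat_lit 19) (Steps.bwd (nat_lit 10) Steps.nil))) (nat_lit 24) (nat_lit 0),
  Rule.mk (nat_lit 17) (nat_lit 78) (Steps.bwd (nat_lit 15) (Steps.bwd (nat_lit 16) (Steps.fwd (nat_lit 122880) (Steps.bwd (nat_lit 19) Steps.nil)))) (nat_lit 41) (nat_lit 2),
  Rule.mk (nat_lit 4) (nat_lit 110) (Steps.bwd (nat_lit 9) (Steps.bwd (nat_lit 10) (Steps.bwd (nat_lit 9) (Steps.bwd (nat_lit 10) (Steps.bwd (nat_lit 4) (Steps.fwd (nat_lit 114688) Steps.nil)))))) (nat_lit 60) (nat_lit 0),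
  Rule.mk (nat_lit 17) (nat_lit 110) (Steps.bwd (nat_lit 9) (Steps.bwd (nat_lit 19) (Steps.bwd (nat_lit 9) (Steps.fwd (nat_lit 90112) (Steps.bwd (nat_lit 15) (Steps.bwd (nat_lit 10) Steps.nil)))))) (nat_lit 67) (nat_lit 4),
  Rule.mk (nat_lit 11) (nat_lit 94) (Steps.bwd (nat_lit 16) (Steps.bwd (nat_lit 10) (Steps.bwd (nat_lit 18) (Steps.fwd (nat_lit 155648) (Steps.bwd (nat_lit 17) Steps.nil))))) (nat_lit 35) (nat_lit 4),
  Rule.mk (nat_lit 7) (nat_lit 62) (Steps.fwd (nat_lit 32768) (Steps.fwd (nat_lit 57344) (Steps.bwd (nat_lit 4) Steps.nil))) (nat_lit 81) (nat_lit 3),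
  Rule.mk (nat_lit 7) (nat_lit 126) (Steps.bwd (nat_lit 18) (Steps.bwd (nat_lit 2) (Steps.bwd (nat_lit 2) (Steps.bwd (nat_lit 7) (Steps.fwd (nat_lit 155648) (Steps.bwd (nat_lit 7) (Steps.bwd (nat_lit 19) Steps.nil))))))) (nat_lit 86) (nat_lit 5),
  Rule.mk (nat_lit 7) (nat_lit 126) (Steps.bwd (nat_lit 18) (Steps.bwd (nat_lit 2) (Steps.fwd (nat_lit 8192) (Steps.fwd (nat_lit 65536) (Steps.fwd (nat_lit 155648) (Steps.bwd (nat_lit 7) (Steps.bwd (nat_lit 19) Steps.nil))))))) (nat_lit 86) (nat_lit 5),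
  Rule.mk (nat_lit 15) (nat_lit 94) (Steps.fwd (nat_lit 81920) (Steps.fwd (nat_lit 122880) (Steps.bwd (nat_lit 10) (Steps.bwd (nat_lit 19) (Steps.fwd (nat_lit 147456) Steps.nil))))) (nat_lit 33) (nat_lit 3),
  Rule.mk (nat_lit 17) (nat_lit 94) (Steps.fwd (nat_lit 90112) (Steps.fwd (nat_lit 139264) (Steps.fwd (nat_lit 147456) (Steps.fwd (nat_lit 147456) (Steps.bwd (nat_lit 11) Steps.nil))))) (nat_lit 34) (nat_lit 2),
  Rule.mk (nat_lit 9) (nat_lit 110) (Steps.bwd (nat_lit 16) (Steps.fwd (nat_lit 139264) (Steps.bwd (nat_lit 14) (Steps.fwd (nat_lit 81920) (Steps.fwd (nat_lit 73728) (Steps.bwd (nat_lit 3) Steps.nil)))))) (nat_lit 70) (nat_lit 3),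
  Rule.mk (nat_lit 17) (nat_lit 110) (Steps.bwd (nat_lit 9) (Steps.fwd (nat_lit 24576) (Steps.bwd (nat_lit 9) (Steps.fwd (nat_lit 90112) (Steps.bwd (nat_lit 15) (Steps.bwd (nat_lit 17) Steps.nil)))))) (nat_lit 71) (nat_lit 4),
  Rule.mk (nat_lit 9) (nat_lit 110) (Steps.bwd (nat_lit 18) (Steps.fwd (nat_lit 73728) (Steps.fwd (nat_lit 139264) (Steps.fwd (nat_lit 81920) (Steps.bwd (nat_lit 14) (Steps.bwd (nat_lit 11) Steps.nil)))))) (nat_lit 66) (nat_lit 1),
  Rule.mk (nat_lit 4) (nat_lit 126) (Steps.bwd (nat_lit 15) (Steps.fwd (nat_lit 32768) (Steps.bwd (nat_lit 10) (Steps.fwd (nat_lit 90112) (Steps.fwd (nat_lit 139264) (Steps.bwd (nat_lit 15) (Steps.bwd (nat_lit 15) Steps.nil))))))) (nat_lit 53) (nat_lit 6),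
  Rule.mk (nat_lit 9) (nat_lit 110) (Steps.fwd (nat_lit 90112) (Steps.bwd (nat_lit 4) (Steps.bwd (nat_lit 15) (Steps.bwd (nat_lit 4) (Steps.bwd (nat_lit 9) (Steps.bwd (nat_lit 10) Steps.nil)))))) (nat_lit 60) (nat_lit 3),
  Rule.mk (nat_lit 9) (nat_lit 110) (Steps.bwd (nat_lit 16) (Steps.fwd (nat_lit 73728) (Steps.bwd (nat_lit 17) (Steps.fwd (nat_lit 122880) (Steps.bwd (nat_lit 4) (Steps.bwd (nat_lit 4) Steps.nil)))))) (nat_lit 64) (nat_lit 1),
  Rule.mk (nat_lit 9) (nat_lit 110) (Steps.bwd (nat_lit 17) (Steps.bwd (nat_lit 14) (Steps.fwd (nat_lit 24576) (Steps.fwd (nat_lit 24576) (Steps.bwd (nat_lit 9) (Steps.fwd (nat_lit 139264) Steps.nil)))))) (nat_lit 64) (nat_lit 3),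
  Rule.mk (nat_lit 11) (nat_lit 110) (Steps.fwd (nat_lit 73728) (Steps.bwd (nat_lit 3) (Steps.fwd (nat_lit 122880) (Steps.fwd (nat_lit 32768) (Steps.bwd (nat_lit 11) (Steps.bwd (nat_lit 9) Steps.nil)))))) (nat_lit 61) (nat_lit 6),
  Rule.mk (nat_lit 18) (nat_lit 110) (Steps.bwd (nat_lit 9) (Steps.bwd (nat_lit 16) (Steps.fwd (nat_lit 81920) (Steps.bwd (nat_lit 14) (Steps.bwd (nat_lit 11) (Steps.bwd (nat_lit 9) Steps.nil)))))) (nat_lit 66) (nat_lit 2)]
noncomputable def R_28 : List (Rule) := [Rule.mk (nat_lit 18) (nat_lit 94) (Steps.fwd (nat_lit 131072) (Steps.fwd (nat_lit 81920) (Steps.fwd (nat_lit 139264) (Steps.fwd (nat_lit 90112) (Steps.bwd (nat_lit 18) Steps.nil))))) (nat_lit 35) (nat_lit 2),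
  Rule.mk (nat_lit 11) (nat_lit 94) (Steps.bwd (nat_lit 15) (Steps.bwd (nat_lit 10) (Steps.bwd (nat_lit 14) (Steps.bwd (nat_lit 18) (Steps.bwd (nat_lit 18) Steps.nil))))) (nat_lit 32) (nat_lit 1),
  Rule.mk (nat_lit 9) (nat_lit 110) (Steps.fwd (nat_lit 32768) (Steps.fwd (nat_lit 122880) (Steps.fwd (nat_lit 32768) (Steps.bwd (nat_lit 11) (Steps.bwd (nat_lit 9) (Steps.bwd (nat_lit 11) Steps.nil)))))) (nat_lit 61) (nat_lit 0),
  Rule.mk (nat_lit 1) (nat_lit 94) (Steps.bwd (nat_lit 4) (Steps.fwd (nat_lit 8192) (Steps.bwd (nat_lit 2) (Steps.bwd (nat_lit 3) (Steps.bwd (nat_lit 1) Steps.nil))))) (nat_lit 7) (nat_lit 0),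
  Rule.mk (nat_lit 4) (nat_lit 270) (Steps.bwd (nat_lit 12) (Steps.bwd (nat_lit 2) (Steps.bwd (nat_lit 9) (Steps.fwd (nat_lit 8192) (Steps.fwd (nat_lit 73728) (Steps.fwd (nat_lit 8192) (Steps.bwd (nat_lit 18) (Steps.bwd (nat_lit 16) (Steps.bwd (nat_lit 10) (Steps.fwd (nat_lit 32768) (Steps.fwd (nat_lit 16384) (Steps.fwd (nat_lit 24576) (Steps.bwd (nat_lit 4) (Steps.fwd (nat_lit 8192) (Steps.fwd (nat_lit 65536) (Steps.fwd (nat_lit 73728) Steps.nil)))))))))))))))) (nat_lit 76) (nat_lit 3),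
  Rule.mk (nat_lit 2) (nat_lit 126) (Steps.bwd (nat_lit 4) (Steps.fwd (nat_lit 8192) (Steps.fwd (nat_lit 24576) (Steps.fwd (nat_lit 8192) (Steps.fwd (nat_lit 24576) (Steps.bwd (nat_lit 2) (Steps.fwd (nat_lit 24576) Steps.nil))))))) (nat_lit 5) (nat_lit 0),
  Rule.mk (nat_lit 9) (nat_lit 110) (Steps.fwd (nat_lit 139264) (Steps.fwd (nat_lit 81920) (Steps.fwd (nat_lit 122880) (Steps.fwd (nat_lit 81920) (Steps.fwd (nat_lit 73728) (Steps.bwd (nat_lit 18) Steps.nil)))))) (nat_lit 66) (nat_lit 3),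
  Rule.mk (nat_lit 17) (nat_lit 206) (Steps.bwd (nat_lit 9) (Steps.fwd (nat_lit 8192) (Steps.fwd (nat_lit 32768) (Steps.bwd (nat_lit 2) (Steps.bwd (nat_lit 4) (Steps.fwd (nat_lit 24576) (Steps.fwd (nat_lit 8192) (Steps.bwd (nat_lit 9) (Steps.bwd (nat_lit 1) (Steps.fwd (nat_lit 16384) (Steps.bwd (nat_lit 10) (Steps.fwd (nat_lit 155648) Steps.nil)))))))))))) (nat_lit 73) (nat_lit 5),
  Rule.mk (nat_lit 0) (nat_lit 286) (Steps.fwd (nat_lit 24576) (Steps.fwd (nat_lit 106496) (Steps.fwd (nat_lit 8192) (Steps.fwd (nat_lit 73728) (Steps.fwd (nat_lit 8192) (Steps.bwd (nat_lit 9) (Steps.bwd (nat_lit 2) (Steps.bwd (nat_lit 18) (Steps.fwd (nat_lit 139264) (Steps.bwd (nat_lit 10) (Steps.bwd (nat_lit 3) (Steps.bwd (nat_lit 1) (Steps.fwd (nat_lit 24576) (Steps.fwd (nat_lit 24576) (Steps.fwd (nat_lit 8192) (Steps.bwd (nat_lit 7) (Steps.fwd (nat_lit 73728) Steps.nil))))))))))))))))) (nat_lit 76) (nat_lit 2),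
  Rule.mk (nat_lit 9) (nat_lit 110) (Steps.bwd (nat_lit 10) (Steps.bwd (nat_lit 15) (Steps.fwd (nat_lit 90112) (Steps.bwd (nat_lit 17) (Steps.bwd (nat_lit 9) (Steps.fwd (nat_lit 147456) Steps.nil)))))) (nat_lit 67) (nat_lit 0),
  Rule.mk (nat_lit 11) (nat_lit 126) (Steps.fwd (nat_lit 131072) (Steps.fwd (nat_lit 24576) (Steps.fwd (nat_lit 98304) (Steps.bwd (nat_lit 3) (Steps.fwd (nat_lit 106496) (Steps.fwd (nat_lit 122880) (Steps.bwd (nat_lit 17) Steps.nil))))))) (nat_lit 51) (nat_lit 4),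
  Rule.mk (nat_lit 9) (nat_lit 110) (Steps.bwd (nat_lit 18) (Steps.bwd (nat_lit 9) (Steps.bwd (nat_lit 16) (Steps.bwd (nat_lit 11) (Steps.fwd (nat_lit 122880) (Steps.fwd (nat_lit 81920) Steps.nil)))))) (nat_lit 66) (nat_lit 1),
  Rule.mk (nat_lit 9) (nat_lit 110) (Steps.bwd (nat_lit 4) (Steps.bwd (nat_lit 9) (Steps.bwd (nat_lit 10) (Steps.bwd (nat_lit 15) (Steps.bwd (nat_lit 17) (Steps.bwd (nat_lit 17) Steps.nil)))))) (nat_lit 71) (nat_lit 5),
  Rule.mk (nat_lit 3) (nat_lit 110) (Steps.bwd (nat_lit 14) (Steps.fwd (nat_lit 32768) (Steps.bwd (nat_lit 11) (Steps.bwd (nat_lit 9) (Steps.bwd (nat_lit 11) (Steps.fwd (nat_lit 73728) Steps.nil)))))) (nat_lit 61) (nat_lit 1),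
  Rule.mk (nat_lit 9) (nat_lit 110) (Steps.bwd (nat_lit 16) (Steps.bwd (nat_lit 11) (Steps.bwd (nat_lit 14) (Steps.bwd (nat_lit 11) (Steps.bwd (nat_lit 9) (Steps.fwd (nat_lit 155648) Steps.nil)))))) (nat_lit 66) (nat_lit 3),
  Rule.mk (nat_lit 9) (nat_lit 110) (Steps.bwd (nat_lit 10) (Steps.fwd (nat_lit 114688) (Steps.fwd (nat_lit 90112) (Steps.bwd (nat_lit 17) (Steps.bwd (nat_lit 9) (Steps.bwd (nat_lit 19) Steps.nil)))))) (nat_lit 67) (nat_lit 0),
  Rule.mk (nat_lit 11) (nat_lit 110) (Steps.bwd (nat_lit 9) (Steps.bwd (nat_lit 3) (Steps.bwd (nat_lit 9) (Steps.bwd (nat_lit 16) (Steps.fwd (nat_lit 139264) (Steps.bwd (nat_lit 14) Steps.nil)))))) (nat_lit 70) (nat_lit 0),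
  Rule.mk (nat_lit 14) (nat_lit 110) (Steps.fwd (nat_lit 81920) (Steps.fwd (nat_lit 73728) (Steps.bwd (nat_lit 18) (Steps.bwd (nat_lit 9) (Steps.bwd (nat_lit 16) (Steps.bwd (nat_lit 11) Steps.nil)))))) (nat_lit 66) (nat_lit 6),
  Rule.mk (nat_lit 9) (nat_lit 110) (Steps.bwd (nat_lit 17) (Steps.fwd (nat_lit 73728) (Steps.bwd (nat_lit 3) (Steps.bwd (nat_lit 3) (Steps.bwd (nat_lit 15) (Steps.bwd (nat_lit 16) Steps.nil)))))) (nat_lit 65) (nat_lit 5),
  Rule.mk (nat_lit 9) (nat_lit 158) (Steps.bwd (nat_lit 15) (Steps.fwd (nat_lit 73728) (Steps.bwd (nat_lit 3) (Steps.bwd (nat_lit 3) (Steps.fwd (nat_lit 16384) (Steps.fwd (nat_lit 106496) (Steps.bwd (nat_lit 11) (Steps.bwd (nat_lit 17) (Steps.fwd (nat_lit 8192) Steps.nil))))))))) (nat_lit 63) (nat_lit 8),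
  Rule.mk (nat_lit 10) (nat_lit 110) (Steps.fwd (nat_lit 73728) (Steps.fwd (nat_lit 90112) (Steps.bwd (nat_lit 4) (Steps.fwd (nat_lit 114688) (Steps.fwd (nat_lit 24576) (Steps.bwd (nat_lit 9) Steps.nil)))))) (nat_lit 60) (nat_lit 2),
  Rule.mk (nat_lit 15) (nat_lit 110) (Steps.bwd (nat_lit 10) (Steps.bwd (nat_lit 17) (Steps.bwd (nat_lit 9) (Steps.bwd (nat_lit 19) (Steps.bwd (nat_lit 9) (Steps.bwd (nat_lit 10) Steps.nil)))))) (nat_lit 67) (nat_lit 2),
  Rule.mk (nat_lit 4) (nat_lit 110) (Steps.fwd (nat_lit 73728) (Steps.fwd (nat_lit 90112) (Steps.fwd (nat_lit 114688) (Steps.fwd (nat_lit 131072) (Steps.fwd (nat_lit 131072) (Steps.bwd (nat_lit 9) Steps.nil)))))) (nat_lit 71) (nat_lit 6),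
  Rule.mk (nat_lit 0) (nat_lit 94) (Steps.bwd (nat_lit 14) (Steps.fwd (nat_lit 139264) (Steps.fwd (nat_lit 155648) (Steps.bwd (nat_lit 15) (Steps.fwd (nat_lit 131072) Steps.nil))))) (nat_lit 40) (nat_lit 2),
  Rule.mk (nat_lit 16) (nat_lit 94) (Steps.bwd (nat_lit 19) (Steps.bwd (nat_lit 19) (Steps.fwd (nat_lit 81920) (Steps.bwd (nat_lit 17) (Steps.fwd (nat_lit 90112) Steps.nil))))) (nat_lit 34) (nat_lit 4),
  Rule.mk (nat_lit 0) (nat_lit 142) (Steps.bwd (nat_lit 15) (Steps.bwd (nat_lit 3) (Steps.fwd (nat_lit 90112) (Steps.fwd (nat_lit 90112) (Steps.bwd (nat_lit 16) (Steps.bwd (nat_lit 15) (Steps.fwd (nat_lit 114688) (Steps.bwd (nat_lit 4) Steps.nil)))))))) (nat_lit 53) (nat_lit 6),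
  Rule.mk (nat_lit 15) (nat_lit 94) (Steps.fwd (nat_lit 81920) (Steps.bwd (nat_lit 14) (Steps.fwd (nat_lit 90112) (Steps.bwd (nat_lit 19) (Steps.fwd (nat_lit 147456) Steps.nil))))) (nat_lit 33) (nat_lit 3),
  Rule.mk (nat_lit 12) (nat_lit 78) (Steps.fwd (nat_lit 122880) (Steps.bwd (nat_lit 18) (Steps.fwd (nat_lit 98304) (Steps.bwd (nat_lit 15) Steps.nil)))) (nat_lit 36) (nat_lit 3),
  Rule.mk (nat_lit 9) (nat_lit 110) (Steps.bwd (nat_lit 10) (Steps.fwd (nat_lit 114688) (Steps.fwd (nat_lit 90112) (Steps.bwd (nat_lit 17) (Steps.bwd (nat_lit 9) (Steps.fwd (nat_lit 147456) Steps.nil)))))) (nat_lit 67) (nat_lit 0),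
  Rule.mk (nat_lit 3) (nat_lit 206) (Steps.bwd (nat_lit 3) (Steps.fwd (nat_lit 16384) (Steps.bwd (nat_lit 4) (Steps.bwd (nat_lit 1) (Steps.bwd (nat_lit 10) (Steps.bwd (nat_lit 18) (Steps.bwd (nat_lit 17) (Steps.bwd (nat_lit 9) (Steps.bwd (nat_lit 2) (Steps.fwd (nat_lit 8192) (Steps.fwd (nat_lit 73728) (Steps.bwd (nat_lit 1) Steps.nil)))))))))))) (nat_lit 69) (nat_lit 2),
  Rule.mk (nat_lit 13) (nat_lit 78) (Steps.bwd (nat_lit 10) (Steps.fwd (nat_lit 106496) (Steps.fwd (nat_lit 147456) (Steps.bwd (nat_lit 11) Steps.nil)))) (nat_lit 19) (nat_lit 2),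
  Rule.mk (nat_lit 11) (nat_lit 94) (Steps.bwd (nat_lit 17) (Steps.bwd (nat_lit 10) (Steps.bwd (nat_lit 16) (Steps.fwd (nat_lit 147456) (Steps.bwd (nat_lit 19) Steps.nil))))) (nat_lit 34) (nat_lit 1),
  Rule.mk (nat_lit 17) (nat_lit 110) (Steps.bwd (nat_lit 9) (Steps.fwd (nat_lit 147456) (Steps.fwd (nat_lit 73728) (Steps.fwd (nat_lit 90112) (Steps.fwd (nat_lit 114688) (Steps.bwd (nat_lit 10) Steps.nil)))))) (nat_lit 67) (nat_lit 4),
  Rule.mk (nat_lit 19) (nat_lit 62) (Steps.fwd (nat_lit 139264) (Steps.fwd (nat_lit 155648) (Steps.bwd (nat_lit 17) Steps.nil))) (nat_lit 30) (nat_lit 2),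
  Rule.mk (nat_lit 17) (nat_lit 110) (Steps.bwd (nat_lit 9) (Steps.bwd (nat_lit 4) (Steps.fwd (nat_lit 73728) (Steps.fwd (nat_lit 90112) (Steps.fwd (nat_lit 114688) (Steps.bwd (nat_lit 17) Steps.nil)))))) (nat_lit 71) (nat_lit 4),
  Rule.mk (nat_lit 16) (nat_lit 110) (Steps.fwd (nat_lit 73728) (Steps.bwd (nat_lit 17) (Steps.bwd (nat_lit 9) (Steps.bwd (nat_lit 3) (Steps.fwd (nat_lit 32768) (Steps.fwd (nat_lit 114688) Steps.nil)))))) (nat_lit 65) (nat_lit 4),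
  Rule.mk (nat_lit 14) (nat_lit 78) (Steps.bwd (nat_lit 12) (Steps.bwd (nat_lit 19) (Steps.bwd (nat_lit 15) (Steps.bwd (nat_lit 13) Steps.nil)))) (nat_lit 37) (nat_lit 4),
  Rule.mk (nat_lit 9) (nat_lit 110) (Steps.fwd (nat_lit 81920) (Steps.fwd (nat_lit 73728) (Steps.bwd (nat_lit 3) (Steps.bwd (nat_lit 14) (Steps.fwd (nat_lit 32768) (Steps.bwd (nat_lit 11) Steps.nil)))))) (nat_lit 61) (nat_lit 5),
  Rule.mk (nat_lit 18) (nat_lit 62) (Steps.bwd (nat_lit 15) (Steps.fwd (nat_lit 147456) (Steps.fwd (nat_lit 122880) Steps.nil))) (nat_lit 28) (nat_lit 0),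
  Rule.mk (nat_lit 16) (nat_lit 126) (Steps.bwd (nat_lit 15) (Steps.fwd (nat_lit 114688) (Steps.fwd (nat_lit 24576) (Steps.bwd (nat_lit 15) (Steps.fwd (nat_lit 32768) (Steps.bwd (nat_lit 10) (Steps.bwd (nat_lit 10) Steps.nil))))))) (nat_lit 53) (nat_lit 3),
  Rule.mk (nat_lit 11) (nat_lit 94) (Steps.bwd (nat_lit 15) (Steps.fwd (nat_lit 90112) (Steps.bwd (nat_lit 14) (Steps.fwd (nat_lit 155648) (Steps.bwd (nat_lit 18) Steps.nil))))) (nat_lit 32) (nat_lit 1),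
  Rule.mk (nat_lit 10) (nat_lit 110) (Steps.bwd (nat_lit 9) (Steps.bwd (nat_lit 10) (Steps.bwd (nat_lit 4) (Steps.fwd (nat_lit 114688) (Steps.fwd (nat_lit 24576) (Steps.fwd (nat_lit 73728) Steps.nil)))))) (nat_lit 60) (nat_lit 2),
  Rule.mk (nat_lit 16) (nat_lit 110) (Steps.bwd (nat_lit 9) (Steps.bwd (nat_lit 17) (Steps.fwd (nat_lit 122880) (Steps.bwd (nat_lit 4) (Steps.fwd (nat_lit 24576) (Steps.bwd (nat_lit 9) Steps.nil)))))) (nat_lit 64) (nat_lit 2),
  Rule.mk (nat_lit 19) (nat_lit 110) (Steps.bwd (nat_lit 9) (Steps.bwd (nat_lit 10) (Steps.bwd (nat_lit 15) (Steps.bwd (nat_lit 10) (Steps.fwd (nat_lit 131072) (Steps.fwd (nat_lit 73728) Steps.nil)))))) (nat_lit 67) (nat_lit 6),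
  Rule.mk (nat_lit 3) (nat_lit 110) (Steps.bwd (nat_lit 9) (Steps.fwd (nat_lit 139264) (Steps.fwd (nat_lit 139264) (Steps.bwd (nat_lit 14) (Steps.fwd (nat_lit 81920) (Steps.fwd (nat_lit 73728) Steps.nil)))))) (nat_lit 70) (nat_lit 2),
  Rule.mk (nat_lit 14) (nat_lit 158) (Steps.bwd (nat_lit 9) (Steps.fwd (nat_lit 16384) (Steps.bwd (nat_lit 16) (Steps.fwd (nat_lit 90112) (Steps.fwd (nat_lit 98304) (Steps.fwd (nat_lit 8192) (Steps.bwd (nat_lit 4) (Steps.bwd (nat_lit 4) (Steps.bwd (nat_lit 9) Steps.nil))))))))) (nat_lit 62) (nat_lit 2),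
  Rule.mk (nat_lit 15) (nat_lit 158) (Steps.bwd (nat_lit 9) (Steps.fwd (nat_lit 32768) (Steps.fwd (nat_lit 32768) (Steps.bwd (nat_lit 1) (Steps.fwd (nat_lit 106496) (Steps.bwd (nat_lit 11) (Steps.bwd (nat_lit 17) (Steps.fwd (nat_lit 8192) (Steps.bwd (nat_lit 9) Steps.nil))))))))) (nat_lit 63) (nat_lit 9),
  Rule.mk (nat_lit 9) (nat_lit 158) (Steps.bwd (nat_lit 15) (Steps.fwd (nat_lit 73728) (Steps.bwd (nat_lit 3) (Steps.fwd (nat_lit 32768) (Steps.fwd (nat_lit 16384) (Steps.fwd (nat_lit 106496) (Steps.bwd (nat_lit 11) (Steps.bwd (nat_lit 17) (Steps.fwd (nat_lit 8192) Steps.nil))))))))) (nat_lit 63) (nat_lit 8),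
  Rule.mk (nat_lit 9) (nat_lit 110) (Steps.bwd (nat_lit 17) (Steps.fwd (nat_lit 73728) (Steps.bwd (nat_lit 3) (Steps.fwd (nat_lit 32768) (Steps.fwd (nat_lit 114688) (Steps.bwd (nat_lit 16) Steps.nil)))))) (nat_lit 65) (nat_lit 5),
  Rule.mk (nat_lit 12) (nat_lit 78) (Steps.fwd (nat_lit 147456) (Steps.bwd (nat_lit 11) (Steps.fwd (nat_lit 98304) (Steps.bwd (nat_lit 10) Steps.nil)))) (nat_lit 19) (nat_lit 4),
  Rule.mk (nat_lit 9) (nat_lit 110) (Steps.bwd (nat_lit 4) (Steps.fwd (nat_lit 73728) (Steps.fwd (nat_lit 90112) (Steps.bwd (nat_lit 15) (Steps.bwd (nat_lit 17) (Steps.bwd (nat_lit 17) Steps.nil)))))) (nat_lit 71) (nat_lit 5),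
  Rule.mk (nat_lit 9) (nat_lit 110) (Steps.bwd (nat_lit 11) (Steps.bwd (nat_lit 9) (Steps.bwd (nat_lit 3) (Steps.bwd (nat_lit 14) (Steps.fwd (nat_lit 32768) (Steps.bwd (nat_lit 11) Steps.nil)))))) (nat_lit 61) (nat_lit 5),
  Rule.mk (nat_lit 11) (nat_lit 94) (Steps.bwd (nat_lit 15) (Steps.bwd (nat_lit 10) (Steps.fwd (nat_lit 122880) (Steps.bwd (nat_lit 18) (Steps.fwd (nat_lit 155648) Steps.nil))))) (nat_lit 32) (nat_lit 1),
  Rule.mk (nat_lit 9) (nat_lit 110) (Steps.bwd (nat_lit 3) (Steps.fwd (nat_lit 73728) (Steps.bwd (nat_lit 16) (Steps.bwd (nat_lit 16) (Steps.bwd (nat_lit 14) (Steps.bwd (nat_lit 11) Steps.nil)))))) (nat_lit 70) (nat_lit 1),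
  Rule.mk (nat_lit 10) (nat_lit 94) (Steps.bwd (nat_lit 14) (Steps.fwd (nat_lit 155648) (Steps.fwd (nat_lit 155648) (Steps.bwd (nat_lit 11) (Steps.fwd (nat_lit 114688) Steps.nil))))) (nat_lit 32) (nat_lit 3),
  Rule.mk (nat_lit 16) (nat_lit 126) (Steps.bwd (nat_lit 15) (Steps.fwd (nat_lit 114688) (Steps.fwd (nat_lit 24576) (Steps.bwd (nat_lit 15) (Steps.bwd (nat_lit 3) (Steps.fwd (nat_lit 90112) (Steps.bwd (nat_lit 10) Steps.nil))))))) (nat_lit 53) (nat_lit 3),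
  Rule.mk (nat_lit 10) (nat_lit 94) (Steps.fwd (nat_lit 155648) (Steps.bwd (nat_lit 18) (Steps.fwd (nat_lit 131072) (Steps.fwd (nat_lit 81920) (Steps.bwd (nat_lit 16) Steps.nil))))) (nat_lit 35) (nat_lit 0),
  Rule.mk (nat_lit 9) (nat_lit 110) (Steps.bwd (nat_lit 3) (Steps.bwd (nat_lit 14) (Steps.bwd (nat_lit 3) (Steps.bwd (nat_lit 11) (Steps.bwd (nat_lit 9) (Steps.bwd (nat_lit 11) Steps.nil)))))) (nat_lit 61) (nat_lit 0),
  Rule.mk (nat_lit 16) (nat_lit 110) (Steps.fwd (nat_lit 8192) (Steps.bwd (nat_lit 15) (Steps.bwd (nat_lit 1) (Steps.fwd (nat_lit 114688) (Steps.bwd (nat_lit 15) (Steps.bwd (nat_lit 10) Steps.nil)))))) (nat_lit 45) (nat_lit 4),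
  Rule.mk (nat_lit 15) (nat_lit 126) (Steps.bwd (nat_lit 3) (Steps.fwd (nat_lit 90112) (Steps.bwd (nat_lit 10) (Steps.bwd (nat_lit 16) (Steps.bwd (nat_lit 15) (Steps.fwd (nat_lit 114688) (Steps.fwd (nat_lit 24576) Steps.nil))))))) (nat_lit 53) (nat_lit 7),
  Rule.mk (nat_lit 9) (nat_lit 110) (Steps.bwd (nat_lit 11) (Steps.bwd (nat_lit 9) (Steps.fwd (nat_lit 32768) (Steps.bwd (nat_lit 14) (Steps.bwd (nat_lit 3) (Steps.fwd (nat_lit 81920) Steps.nil)))))) (nat_lit 61) (nat_lit 5),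
  Rule.mk (nat_lit 12) (nat_lit 62) (Steps.fwd (nat_lit 155648) (Steps.fwd (nat_lit 98304) (Steps.bwd (nat_lit 19) Steps.nil))) (nat_lit 26) (nat_lit 3),
  Rule.mk (nat_lit 9) (nat_lit 110) (Steps.bwd (nat_lit 3) (Steps.bwd (nat_lit 3) (Steps.bwd (nat_lit 15) (Steps.fwd (nat_lit 139264) (Steps.bwd (nat_lit 9) (Steps.fwd (nat_lit 131072) Steps.nil)))))) (nat_lit 65) (nat_lit 0),
  Rule.mk (nat_lit 0) (nat_lit 94) (Steps.fwd (nat_lit 147456) (Steps.fwd (nat_lit 81920) (Steps.bwd (nat_lit 13) (Steps.fwd (nat_lit 90112) (Steps.fwd (nat_lit 106496) Steps.nil))))) (nat_lit 19) (nat_lit 4)]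
noncomputable def R_29 : List (Rule) := [Rule.mk (nat_lit 12) (nat_lit 78) (Steps.fwd (nat_lit 122880) (Steps.bwd (nat_lit 18) (Steps.bwd (nat_lit 13) (Steps.bwd (nat_lit 15) Steps.nil)))) (nat_lit 36) (nat_lit 3),
  Rule.mk (nat_lit 0) (nat_lit 78) (Steps.bwd (nat_lit 12) (Steps.fwd (nat_lit 147456) (Steps.fwd (nat_lit 98304) (Steps.fwd (nat_lit 155648) Steps.nil)))) (nat_lit 27) (nat_lit 3),
  Rule.mk (nat_lit 0) (nat_lit 78) (Steps.bwd (nat_lit 17) (Steps.fwd (nat_lit 147456) (Steps.bwd (nat_lit 16) (Steps.fwd (nat_lit 155648) Steps.nil)))) (nat_lit 30) (nat_lit 0),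
  Rule.mk (nat_lit 11) (nat_lit 78) (Steps.bwd (nat_lit 12) (Steps.fwd (nat_lit 90112) (Steps.fwd (nat_lit 155648) (Steps.fwd (nat_lit 98304) Steps.nil)))) (nat_lit 18) (nat_lit 3),
  Rule.mk (nat_lit 17) (nat_lit 94) (Steps.bwd (nat_lit 11) (Steps.bwd (nat_lit 16) (Steps.fwd (nat_lit 90112) (Steps.fwd (nat_lit 155648) (Steps.bwd (nat_lit 18) Steps.nil))))) (nat_lit 35) (nat_lit 3),
  Rule.mk (nat_lit 9) (nat_lit 110) (Steps.bwd (nat_lit 3) (Steps.bwd (nat_lit 3) (Steps.fwd (nat_lit 114688) (Steps.bwd (nat_lit 16) (Steps.fwd (nat_lit 73728) (Steps.bwd (nat_lit 17) Steps.nil)))))) (nat_lit 65) (nat_lit 0),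
  Rule.mk (nat_lit 15) (nat_lit 158) (Steps.bwd (nat_lit 9) (Steps.bwd (nat_lit 3) (Steps.bwd (nat_lit 3) (Steps.bwd (nat_lit 1) (Steps.fwd (nat_lit 106496) (Steps.fwd (nat_lit 81920) (Steps.fwd (nat_lit 131072) (Steps.bwd (nat_lit 2) (Steps.fwd (nat_lit 73728) Steps.nil))))))))) (nat_lit 63) (nat_lit 9),
  Rule.mk (nat_lit 0) (nat_lit 78) (Steps.bwd (nat_lit 14) (Steps.bwd (nat_lit 19) (Steps.bwd (nat_lit 15) (Steps.fwd (nat_lit 155648) Steps.nil)))) (nat_lit 29) (nat_lit 3),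
  Rule.mk (nat_lit 12) (nat_lit 78) (Steps.bwd (nat_lit 19) (Steps.bwd (nat_lit 11) (Steps.fwd (nat_lit 98304) (Steps.bwd (nat_lit 10) Steps.nil)))) (nat_lit 19) (nat_lit 4),
  Rule.mk (nat_lit 9) (nat_lit 110) (Steps.bwd (nat_lit 10) (Steps.bwd (nat_lit 4) (Steps.bwd (nat_lit 15) (Steps.fwd (nat_lit 24576) (Steps.fwd (nat_lit 73728) (Steps.bwd (nat_lit 10) Steps.nil)))))) (nat_lit 60) (nat_lit 3),
  Rule.mk (nat_lit 10) (nat_lit 110) (Steps.bwd (nat_lit 15) (Steps.fwd (nat_lit 90112) (Steps.fwd (nat_lit 131072) (Steps.bwd (nat_lit 9) (Steps.bwd (nat_lit 19) (Steps.bwd (nat_lit 9) Steps.nil)))))) (nat_lit 67) (nat_lit 1),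
  Rule.mk (nat_lit 0) (nat_lit 94) (Steps.bwd (nat_lit 13) (Steps.fwd (nat_lit 114688) (Steps.bwd (nat_lit 12) (Steps.fwd (nat_lit 122880) (Steps.fwd (nat_lit 155648) Steps.nil))))) (nat_lit 36) (nat_lit 0),
  Rule.mk (nat_lit 19) (nat_lit 62) (Steps.bwd (nat_lit 12) (Steps.fwd (nat_lit 155648) (Steps.bwd (nat_lit 13) Steps.nil))) (nat_lit 26) (nat_lit 2),
  Rule.mk (nat_lit 10) (nat_lit 78) (Steps.bwd (nat_lit 12) (Steps.bwd (nat_lit 19) (Steps.bwd (nat_lit 11) (Steps.fwd (nat_lit 98304) Steps.nil)))) (nat_lit 19) (nat_lit 3),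
  Rule.mk (nat_lit 19) (nat_lit 62) (Steps.fwd (nat_lit 131072) (Steps.fwd (nat_lit 155648) (Steps.bwd (nat_lit 16) Steps.nil))) (nat_lit 31) (nat_lit 1),
  Rule.mk (nat_lit 9) (nat_lit 110) (Steps.fwd (nat_lit 131072) (Steps.fwd (nat_lit 122880) (Steps.fwd (nat_lit 24576) (Steps.fwd (nat_lit 24576) (Steps.fwd (nat_lit 73728) (Steps.bwd (nat_lit 16) Steps.nil)))))) (nat_lit 64) (nat_lit 3),
  Rule.mk (nat_lit 9) (nat_lit 110) (Steps.fwd (nat_lit 155648) (Steps.bwd (nat_lit 9) (Steps.fwd (nat_lit 139264) (Steps.bwd (nat_lit 11) (Steps.bwd (nat_lit 14) (Steps.bwd (nat_lit 11) Steps.nil)))))) (nat_lit 66) (nat_lit 1),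
  Rule.mk (nat_lit 1) (nat_lit 110) (Steps.bwd (nat_lit 15) (Steps.bwd (nat_lit 15) (Steps.bwd (nat_lit 10) (Steps.fwd (nat_lit 139264) (Steps.bwd (nat_lit 2) (Steps.fwd (nat_lit 114688) Steps.nil)))))) (nat_lit 45) (nat_lit 0),
  Rule.mk (nat_lit 10) (nat_lit 78) (Steps.bwd (nat_lit 18) (Steps.bwd (nat_lit 13) (Steps.fwd (nat_lit 81920) (Steps.fwd (nat_lit 106496) Steps.nil)))) (nat_lit 18) (nat_lit 0),
  Rule.mk (nat_lit 4) (nat_lit 126) (Steps.bwd (nat_lit 13) (Steps.fwd (nat_lit 32768) (Steps.fwd (nat_lit 106496) (Steps.fwd (nat_lit 122880) (Steps.fwd (nat_lit 131072) (Steps.fwd (nat_lit 81920) (Steps.fwd (nat_lit 131072) Steps.nil))))))) (nat_lit 51) (nat_lit 6),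
  Rule.mk (nat_lit 0) (nat_lit 126) (Steps.bwd (nat_lit 9) (Steps.bwd (nat_lit 10) (Steps.bwd (nat_lit 9) (Steps.bwd (nat_lit 10) (Steps.bwd (nat_lit 4) (Steps.bwd (nat_lit 15) (Steps.bwd (nat_lit 4) Steps.nil))))))) (nat_lit 60) (nat_lit 0),
  Rule.mk (nat_lit 0) (nat_lit 62) (Steps.bwd (nat_lit 9) (Steps.bwd (nat_lit 0) (Steps.bwd (nat_lit 9) Steps.nil))) (nat_lit 88) (nat_lit 0),
  Rule.mk (nat_lit 9) (nat_lit 158) (Steps.bwd (nat_lit 14) (Steps.bwd (nat_lit 9) (Steps.fwd (nat_lit 16384) (Steps.bwd (nat_lit 16) (Steps.fwd (nat_lit 90112) (Steps.bwd (nat_lit 13) (Steps.bwd (nat_lit 2) (Steps.fwd (nat_lit 24576) (Steps.bwd (nat_lit 4) Steps.nil))))))))) (nat_lit 62) (nat_lit 1),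
  Rule.mk (nat_lit 0) (nat_lit 94) (Steps.bwd (nat_lit 14) (Steps.fwd (nat_lit 106496) (Steps.bwd (nat_lit 19) (Steps.bwd (nat_lit 15) (Steps.fwd (nat_lit 98304) Steps.nil))))) (nat_lit 37) (nat_lit 3),
  Rule.mk (nat_lit 0) (nat_lit 62) (Steps.bwd (nat_lit 5) (Steps.bwd (nat_lit 0) (Steps.bwd (nat_lit 6) Steps.nil))) (nat_lit 88) (nat_lit 0),
  Rule.mk (nat_lit 19) (nat_lit 78) (Steps.bwd (nat_lit 15) (Steps.bwd (nat_lit 13) (Steps.bwd (nat_lit 14) (Steps.fwd (nat_lit 106496) Steps.nil)))) (nat_lit 37) (nat_lit 1),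
  Rule.mk (nat_lit 9) (nat_lit 110) (Steps.bwd (nat_lit 19) (Steps.fwd (nat_lit 73728) (Steps.bwd (nat_lit 10) (Steps.fwd (nat_lit 114688) (Steps.bwd (nat_lit 10) (Steps.fwd (nat_lit 131072) Steps.nil)))))) (nat_lit 67) (nat_lit 5),
  Rule.mk (nat_lit 9) (nat_lit 110) (Steps.fwd (nat_lit 32768) (Steps.fwd (nat_lit 122880) (Steps.fwd (nat_lit 32768) (Steps.fwd (nat_lit 81920) (Steps.bwd (nat_lit 9) (Steps.fwd (nat_lit 81920) Steps.nil)))))) (nat_lit 61) (nat_lit 0),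
  Rule.mk (nat_lit 9) (nat_lit 110) (Steps.fwd (nat_lit 90112) (Steps.bwd (nat_lit 4) (Steps.fwd (nat_lit 114688) (Steps.fwd (nat_lit 24576) (Steps.bwd (nat_lit 9) (Steps.bwd (nat_lit 10) Steps.nil)))))) (nat_lit 60) (nat_lit 3),
  Rule.mk (nat_lit 9) (nat_lit 110) (Steps.fwd (nat_lit 139264) (Steps.fwd (nat_lit 81920) (Steps.bwd (nat_lit 14) (Steps.bwd (nat_lit 11) (Steps.fwd (nat_lit 73728) (Steps.bwd (nat_lit 18) Steps.nil)))))) (nat_lit 66) (nat_lit 3),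
  Rule.mk (nat_lit 4) (nat_lit 110) (Steps.bwd (nat_lit 15) (Steps.fwd (nat_lit 24576) (Steps.bwd (nat_lit 9) (Steps.fwd (nat_lit 90112) (Steps.bwd (nat_lit 9) (Steps.bwd (nat_lit 10) Steps.nil)))))) (nat_lit 60) (nat_lit 5),
  Rule.mk (nat_lit 9) (nat_lit 110) (Steps.bwd (nat_lit 16) (Steps.bwd (nat_lit 9) (Steps.fwd (nat_lit 131072) (Steps.bwd (nat_lit 14) (Steps.bwd (nat_lit 4) (Steps.fwd (nat_lit 24576) Steps.nil)))))) (nat_lit 64) (nat_lit 1),
  Rule.mk (nat_lit 4) (nat_lit 110) (Steps.bwd (nat_lit 15) (Steps.fwd (nat_lit 24576) (Steps.bwd (nat_lit 9) (Steps.bwd (nat_lit 10) (Steps.fwd (nat_lit 73728) (Steps.bwd (nat_lit 10) Steps.nil)))))) (nat_lit 60) (nat_lit 5),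
  Rule.mk (nat_lit 13) (nat_lit 126) (Steps.fwd (nat_lit 32768) (Steps.bwd (nat_lit 12) (Steps.fwd (nat_lit 122880) (Steps.fwd (nat_lit 131072) (Steps.fwd (nat_lit 81920) (Steps.bwd (nat_lit 17) (Steps.bwd (nat_lit 4) Steps.nil))))))) (nat_lit 51) (nat_lit 7),
  Rule.mk (nat_lit 15) (nat_lit 126) (Steps.fwd (nat_lit 114688) (Steps.bwd (nat_lit 4) (Steps.bwd (nat_lit 15) (Steps.fwd (nat_lit 32768) (Steps.bwd (nat_lit 10) (Steps.fwd (nat_lit 90112) (Steps.fwd (nat_lit 139264) Steps.nil))))))) (nat_lit 53) (nat_lit 4),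
  Rule.mk (nat_lit 1) (nat_lit 110) (Steps.bwd (nat_lit 15) (Steps.fwd (nat_lit 114688) (Steps.bwd (nat_lit 10) (Steps.fwd (nat_lit 139264) (Steps.bwd (nat_lit 2) (Steps.fwd (nat_lit 114688) Steps.nil)))))) (nat_lit 45) (nat_lit 0),
  Rule.mk (nat_lit 15) (nat_lit 78) (Steps.fwd (nat_lit 106496) (Steps.fwd (nat_lit 122880) (Steps.fwd (nat_lit 155648) (Steps.bwd (nat_lit 13) Steps.nil)))) (nat_lit 36) (nat_lit 2),
  Rule.mk (nat_lit 15) (nat_lit 126) (Steps.bwd (nat_lit 15) (Steps.bwd (nat_lit 4) (Steps.bwd (nat_lit 15) (Steps.fwd (nat_lit 32768) (Steps.bwd (nat_lit 10) (Steps.fwd (nat_lit 90112) (Steps.fwd (nat_lit 139264) Steps.nil))))))) (nat_lit 53) (nat_lit 4),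
  Rule.mk (nat_lit 14) (nat_lit 94) (Steps.bwd (nat_lit 18) (Steps.bwd (nat_lit 18) (Steps.bwd (nat_lit 11) (Steps.bwd (nat_lit 15) (Steps.bwd (nat_lit 10) Steps.nil))))) (nat_lit 32) (nat_lit 4),
  Rule.mk (nat_lit 0) (nat_lit 78) (Steps.bwd (nat_lit 14) (Steps.bwd (nat_lit 18) (Steps.fwd (nat_lit 114688) (Steps.fwd (nat_lit 147456) Steps.nil)))) (nat_lit 28) (nat_lit 2),
  Rule.mk (nat_lit 13) (nat_lit 78) (Steps.bwd (nat_lit 10) (Steps.bwd (nat_lit 12) (Steps.fwd (nat_lit 147456) (Steps.bwd (nat_lit 11) Steps.nil)))) (nat_lit 19) (nat_lit 2),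
  Rule.mk (nat_lit 9) (nat_lit 110) (Steps.bwd (nat_lit 3) (Steps.fwd (nat_lit 73728) (Steps.bwd (nat_lit 16) (Steps.fwd (nat_lit 139264) (Steps.fwd (nat_lit 122880) (Steps.bwd (nat_lit 11) Steps.nil)))))) (nat_lit 70) (nat_lit 1),
  Rule.mk (nat_lit 13) (nat_lit 78) (Steps.fwd (nat_lit 16384) (Steps.fwd (nat_lit 81920) (Steps.bwd (nat_lit 11) (Steps.bwd (nat_lit 2) Steps.nil)))) (nat_lit 43) (nat_lit 4),
  Rule.mk (nat_lit 14) (nat_lit 110) (Steps.bwd (nat_lit 14) (Steps.fwd (nat_lit 8192) (Steps.bwd (nat_lit 14) (Steps.fwd (nat_lit 16384) (Steps.fwd (nat_lit 131072) (Steps.fwd (nat_lit 81920) Steps.nil)))))) (nat_lit 44) (nat_lit 6),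
  Rule.mk (nat_lit 2) (nat_lit 110) (Steps.bwd (nat_lit 14) (Steps.bwd (nat_lit 1) (Steps.fwd (nat_lit 131072) (Steps.fwd (nat_lit 81920) (Steps.fwd (nat_lit 122880) (Steps.bwd (nat_lit 14) Steps.nil)))))) (nat_lit 44) (nat_lit 1),
  Rule.mk (nat_lit 2) (nat_lit 94) (Steps.fwd (nat_lit 24576) (Steps.bwd (nat_lit 1) (Steps.bwd (nat_lit 1) (Steps.bwd (nat_lit 3) (Steps.bwd (nat_lit 2) Steps.nil))))) (nat_lit 6) (nat_lit 2),
  Rule.mk (nat_lit 7) (nat_lit 94) (Steps.bwd (nat_lit 2) (Steps.bwd (nat_lit 2) (Steps.bwd (nat_lit 2) (Steps.fwd (nat_lit 8192) (Steps.bwd (nat_lit 7) Steps.nil))))) (nat_lit 78) (nat_lit 2),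
  Rule.mk (nat_lit 7) (nat_lit 126) (Steps.fwd (nat_lit 147456) (Steps.bwd (nat_lit 7) (Steps.bwd (nat_lit 18) (Steps.bwd (nat_lit 2) (Steps.bwd (nat_lit 2) (Steps.fwd (nat_lit 65536) (Steps.bwd (nat_lit 18) Steps.nil))))))) (nat_lit 86) (nat_lit 3),
  Rule.mk (nat_lit 11) (nat_lit 94) (Steps.bwd (nat_lit 17) (Steps.bwd (nat_lit 10) (Steps.bwd (nat_lit 16) (Steps.bwd (nat_lit 19) (Steps.fwd (nat_lit 147456) Steps.nil))))) (nat_lit 34) (nat_lit 1),
  Rule.mk (nat_lit 9) (nat_lit 110) (Steps.bwd (nat_lit 17) (Steps.fwd (nat_lit 122880) (Steps.bwd (nat_lit 4) (Steps.bwd (nat_lit 4) (Steps.fwd (nat_lit 73728) (Steps.fwd (nat_lit 139264) Steps.nil)))))) (nat_lit 64) (nat_lit 3),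
  Rule.mk (nat_lit 10) (nat_lit 110) (Steps.bwd (nat_lit 15) (Steps.bwd (nat_lit 17) (Steps.fwd (nat_lit 131072) (Steps.bwd (nat_lit 9) (Steps.bwd (nat_lit 4) (Steps.fwd (nat_lit 73728) Steps.nil)))))) (nat_lit 71) (nat_lit 1),
  Rule.mk (nat_lit 4) (nat_lit 110) (Steps.bwd (nat_lit 9) (Steps.fwd (nat_lit 90112) (Steps.bwd (nat_lit 15) (Steps.fwd (nat_lit 131072) (Steps.bwd (nat_lit 17) (Steps.bwd (nat_lit 9) Steps.nil)))))) (nat_lit 71) (nat_lit 6),
  Rule.mk (nat_lit 1) (nat_lit 94) (Steps.bwd (nat_lit 4) (Steps.bwd (nat_lit 2) (Steps.bwd (nat_lit 2) (Steps.fwd (nat_lit 32768) (Steps.bwd (nat_lit 1) Steps.nil))))) (nat_lit 7) (nat_lit 0),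
  Rule.mk (nat_lit 16) (nat_lit 126) (Steps.bwd (nat_lit 10) (Steps.bwd (nat_lit 16) (Steps.bwd (nat_lit 15) (Steps.fwd (nat_lit 98304) (Steps.fwd (nat_lit 24576) (Steps.fwd (nat_lit 106496) (Steps.fwd (nat_lit 32768) Steps.nil))))))) (nat_lit 50) (nat_lit 4),
  Rule.mk (nat_lit 15) (nat_lit 126) (Steps.fwd (nat_lit 32768) (Steps.bwd (nat_lit 10) (Steps.fwd (nat_lit 90112) (Steps.bwd (nat_lit 16) (Steps.bwd (nat_lit 15) (Steps.bwd (nat_lit 15) (Steps.fwd (nat_lit 24576) Steps.nil))))))) (nat_lit 53) (nat_lit 7),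
  Rule.mk (nat_lit 16) (nat_lit 126) (Steps.bwd (nat_lit 15) (Steps.bwd (nat_lit 15) (Steps.bwd (nat_lit 4) (Steps.bwd (nat_lit 15) (Steps.fwd (nat_lit 32768) (Steps.bwd (nat_lit 10) (Steps.fwd (nat_lit 90112) Steps.nil))))))) (nat_lit 53) (nat_lit 3),
  Rule.mk (nat_lit 9) (nat_lit 270) (Steps.fwd (nat_lit 57344) (Steps.bwd (nat_lit 1) (Steps.fwd (nat_lit 32768) (Steps.fwd (nat_lit 32768) (Steps.fwd (nat_lit 8192) (Steps.bwd (nat_lit 4) (Steps.bwd (nat_lit 11) (Steps.fwd (nat_lit 131072) (Steps.fwd (nat_lit 147456) (Steps.fwd (nat_lit 16384) (Steps.fwd (nat_lit 73728) (Steps.bwd (nat_lit 1) (Steps.fwd (nat_lit 73728) (Steps.bwd (nat_lit 1) (Steps.bwd (nat_lit 13) (Steps.fwd (nat_lit 32768) Steps.nil)))))))))))))))) (nat_lit 77) (nat_lit 16),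
  Rule.mk (nat_lit 7) (nat_lit 126) (Steps.bwd (nat_lit 18) (Steps.bwd (nat_lit 2) (Steps.bwd (nat_lit 2) (Steps.bwd (nat_lit 7) (Steps.fwd (nat_lit 155648) (Steps.bwd (nat_lit 7) (Steps.fwd (nat_lit 147456) Steps.nil))))))) (nat_lit 86) (nat_lit 5),
  Rule.mk (nat_lit 8) (nat_lit 126) (Steps.bwd (nat_lit 18) (Steps.bwd (nat_lit 8) (Steps.bwd (nat_lit 19) (Steps.bwd (nat_lit 8) (Steps.bwd (nat_lit 1) (Steps.bwd (nat_lit 1) (Steps.fwd (nat_lit 147456) Steps.nil))))))) (nat_lit 87) (nat_lit 4),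
  Rule.mk (nat_lit 14) (nat_lit 110) (Steps.bwd (nat_lit 14) (Steps.bwd (nat_lit 2) (Steps.fwd (nat_lit 122880) (Steps.bwd (nat_lit 1) (Steps.bwd (nat_lit 17) (Steps.fwd (nat_lit 81920) Steps.nil)))))) (nat_lit 44) (nat_lit 6),
  Rule.mk (nat_lit 2) (nat_lit 110) (Steps.bwd (nat_lit 14) (Steps.fwd (nat_lit 16384) (Steps.fwd (nat_lit 131072) (Steps.fwd (nat_lit 81920) (Steps.bwd (nat_lit 14) (Steps.fwd (nat_lit 122880) Steps.nil)))))) (nat_lit 44) (nat_lit 1),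
  Rule.mk (nat_lit 2) (nat_lit 126) (Steps.bwd (nat_lit 2) (Steps.bwd (nat_lit 2) (Steps.bwd (nat_lit 2) (Steps.fwd (nat_lit 8192) (Steps.bwd (nat_lit 2) (Steps.bwd (nat_lit 2) (Steps.bwd (nat_lit 2) Steps.nil))))))) (nat_lit 1) (nat_lit 0),
  Rule.mk (nat_lit 9) (nat_lit 158) (Steps.bwd (nat_lit 15) (Steps.bwd (nat_lit 9) (Steps.bwd (nat_lit 3) (Steps.bwd (nat_lit 3) (Steps.bwd (nat_lit 1) (Steps.bwd (nat_lit 12) (Steps.fwd (nat_lit 81920) (Steps.fwd (nat_lit 131072) (Steps.bwd (nat_lit 2) Steps.nil))))))))) (nat_lit 63) (nat_lit 8),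
  Rule.mk (nat_lit 15) (nat_lit 110) (Steps.bwd (nat_lit 16) (Steps.bwd (nat_lit 9) (Steps.bwd (nat_lit 17) (Steps.fwd (nat_lit 73728) (Steps.fwd (nat_lit 32768) (Steps.fwd (nat_lit 32768) Steps.nil)))))) (nat_lit 65) (nat_lit 3)]
noncomputable def R_30 : List (Rule) := [Rule.mk (nat_lit 19) (nat_lit 110) (Steps.bwd (nat_lit 9) (Steps.bwd (nat_lit 10) (Steps.bwd (nat_lit 15) (Steps.fwd (nat_lit 90112) (Steps.fwd (nat_lit 131072) (Steps.fwd (nat_lit 73728) Steps.nil)))))) (nat_lit 67) (nat_lit 6),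
  Rule.mk (nat_lit 0) (nat_lit 126) (Steps.bwd (nat_lit 9) (Steps.fwd (nat_lit 24576) (Steps.bwd (nat_lit 9) (Steps.bwd (nat_lit 10) (Steps.bwd (nat_lit 15) (Steps.fwd (nat_lit 131072) (Steps.bwd (nat_lit 17) Steps.nil))))))) (nat_lit 71) (nat_lit 4),
  Rule.mk (nat_lit 9) (nat_lit 110) (Steps.fwd (nat_lit 81920) (Steps.bwd (nat_lit 9) (Steps.bwd (nat_lit 3) (Steps.fwd (nat_lit 122880) (Steps.fwd (nat_lit 32768) (Steps.bwd (nat_lit 11) Steps.nil)))))) (nat_lit 61) (nat_lit 5),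
  Rule.mk (nat_lit 9) (nat_lit 110) (Steps.bwd (nat_lit 10) (Steps.fwd (nat_lit 114688) (Steps.fwd (nat_lit 90112) (Steps.fwd (nat_lit 131072) (Steps.bwd (nat_lit 9) (Steps.fwd (nat_lit 147456) Steps.nil)))))) (nat_lit 67) (nat_lit 0),
  Rule.mk (nat_lit 9) (nat_lit 110) (Steps.bwd (nat_lit 4) (Steps.bwd (nat_lit 9) (Steps.bwd (nat_lit 10) (Steps.fwd (nat_lit 114688) (Steps.bwd (nat_lit 17) (Steps.fwd (nat_lit 131072) Steps.nil)))))) (nat_lit 71) (nat_lit 5),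
  Rule.mk (nat_lit 9) (nat_lit 110) (Steps.bwd (nat_lit 16) (Steps.bwd (nat_lit 11) (Steps.fwd (nat_lit 122880) (Steps.bwd (nat_lit 11) (Steps.bwd (nat_lit 9) (Steps.fwd (nat_lit 155648) Steps.nil)))))) (nat_lit 66) (nat_lit 3),
  Rule.mk (nat_lit 15) (nat_lit 110) (Steps.bwd (nat_lit 15) (Steps.bwd (nat_lit 10) (Steps.fwd (nat_lit 139264) (Steps.bwd (nat_lit 2) (Steps.fwd (nat_lit 114688) (Steps.bwd (nat_lit 1) Steps.nil)))))) (nat_lit 45) (nat_lit 1),
  Rule.mk (nat_lit 4) (nat_lit 78) (Steps.fwd (nat_lit 24576) (Steps.fwd (nat_lit 24576) (Steps.fwd (nat_lit 24576) (Steps.bwd (nat_lit 4) Steps.nil)))) (nat_lit 3) (nat_lit 0),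
  Rule.mk (nat_lit 9) (nat_lit 110) (Steps.bwd (nat_lit 17) (Steps.fwd (nat_lit 122880) (Steps.bwd (nat_lit 4) (Steps.bwd (nat_lit 4) (Steps.bwd (nat_lit 9) (Steps.bwd (nat_lit 16) Steps.nil)))))) (nat_lit 64) (nat_lit 3),
  Rule.mk (nat_lit 18) (nat_lit 78) (Steps.bwd (nat_lit 18) (Steps.bwd (nat_lit 2) (Steps.fwd (nat_lit 147456) (Steps.bwd (nat_lit 1) Steps.nil)))) (nat_lit 49) (nat_lit 1),
  Rule.mk (nat_lit 8) (nat_lit 126) (Steps.bwd (nat_lit 18) (Steps.bwd (nat_lit 8) (Steps.fwd (nat_lit 147456) (Steps.fwd (nat_lit 57344) (Steps.fwd (nat_lit 16384) (Steps.fwd (nat_lit 16384) (Steps.bwd (nat_lit 19) Steps.nil))))))) (nat_lit 87) (nat_lit 4),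
  Rule.mk (nat_lit 13) (nat_lit 142) (Steps.fwd (nat_lit 114688) (Steps.bwd (nat_lit 16) (Steps.fwd (nat_lit 90112) (Steps.bwd (nat_lit 16) (Steps.bwd (nat_lit 2) (Steps.fwd (nat_lit 131072) (Steps.fwd (nat_lit 16384) (Steps.bwd (nat_lit 10) Steps.nil)))))))) (nat_lit 47) (nat_lit 2),
  Rule.mk (nat_lit 10) (nat_lit 94) (Steps.bwd (nat_lit 16) (Steps.bwd (nat_lit 19) (Steps.bwd (nat_lit 19) (Steps.bwd (nat_lit 11) (Steps.fwd (nat_lit 131072) Steps.nil))))) (nat_lit 34) (nat_lit 3),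
  Rule.mk (nat_lit 14) (nat_lit 110) (Steps.bwd (nat_lit 4) (Steps.bwd (nat_lit 4) (Steps.fwd (nat_lit 73728) (Steps.fwd (nat_lit 139264) (Steps.bwd (nat_lit 9) (Steps.bwd (nat_lit 17) Steps.nil)))))) (nat_lit 64) (nat_lit 5),
  Rule.mk (nat_lit 14) (nat_lit 110) (Steps.bwd (nat_lit 2) (Steps.fwd (nat_lit 122880) (Steps.fwd (nat_lit 16384) (Steps.fwd (nat_lit 131072) (Steps.bwd (nat_lit 11) (Steps.bwd (nat_lit 14) Steps.nil)))))) (nat_lit 44) (nat_lit 0),
  Rule.mk (nat_lit 3) (nat_lit 62) (Steps.fwd (nat_lit 155648) (Steps.fwd (nat_lit 24576) (Steps.bwd (nat_lit 19) Steps.nil))) (nat_lit 55) (nat_lit 0),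
  Rule.mk (nat_lit 9) (nat_lit 110) (Steps.bwd (nat_lit 3) (Steps.bwd (nat_lit 3) (Steps.fwd (nat_lit 114688) (Steps.bwd (nat_lit 16) (Steps.bwd (nat_lit 9) (Steps.fwd (nat_lit 131072) Steps.nil)))))) (nat_lit 65) (nat_lit 0),
  Rule.mk (nat_lit 9) (nat_lit 190) (Steps.bwd (nat_lit 12) (Steps.fwd (nat_lit 73728) (Steps.fwd (nat_lit 98304) (Steps.bwd (nat_lit 9) (Steps.fwd (nat_lit 8192) (Steps.bwd (nat_lit 2) (Steps.bwd (nat_lit 2) (Steps.bwd (nat_lit 15) (Steps.bwd (nat_lit 2) (Steps.bwd (nat_lit 16) (Steps.fwd (nat_lit 98304) Steps.nil))))))))))) (nat_lit 75) (nat_lit 8),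
  Rule.mk (nat_lit 10) (nat_lit 142) (Steps.bwd (nat_lit 13) (Steps.fwd (nat_lit 114688) (Steps.bwd (nat_lit 16) (Steps.bwd (nat_lit 10) (Steps.bwd (nat_lit 16) (Steps.fwd (nat_lit 8192) (Steps.fwd (nat_lit 131072) (Steps.fwd (nat_lit 16384) Steps.nil)))))))) (nat_lit 47) (nat_lit 1),
  Rule.mk (nat_lit 11) (nat_lit 94) (Steps.bwd (nat_lit 16) (Steps.bwd (nat_lit 10) (Steps.fwd (nat_lit 155648) (Steps.bwd (nat_lit 18) (Steps.bwd (nat_lit 17) Steps.nil))))) (nat_lit 35) (nat_lit 4),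
  Rule.mk (nat_lit 10) (nat_lit 110) (Steps.bwd (nat_lit 16) (Steps.fwd (nat_lit 8192) (Steps.fwd (nat_lit 114688) (Steps.bwd (nat_lit 1) (Steps.bwd (nat_lit 15) (Steps.bwd (nat_lit 15) Steps.nil)))))) (nat_lit 45) (nat_lit 3),
  Rule.mk (nat_lit 9) (nat_lit 110) (Steps.bwd (nat_lit 16) (Steps.fwd (nat_lit 73728) (Steps.bwd (nat_lit 17) (Steps.bwd (nat_lit 14) (Steps.fwd (nat_lit 24576) (Steps.fwd (nat_lit 24576) Steps.nil)))))) (nat_lit 64) (nat_lit 1),
  Rule.mk (nat_lit 16) (nat_lit 110) (Steps.bwd (nat_lit 16) (Steps.bwd (nat_lit 14) (Steps.fwd (nat_lit 81920) (Steps.bwd (nat_lit 9) (Steps.bwd (nat_lit 3) (Steps.fwd (nat_lit 73728) Steps.nil)))))) (nat_lit 70) (nat_lit 4),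
  Rule.mk (nat_lit 3) (nat_lit 110) (Steps.fwd (nat_lit 122880) (Steps.bwd (nat_lit 3) (Steps.bwd (nat_lit 11) (Steps.fwd (nat_lit 73728) (Steps.bwd (nat_lit 11) (Steps.bwd (nat_lit 9) Steps.nil)))))) (nat_lit 61) (nat_lit 1),
  Rule.mk (nat_lit 1) (nat_lit 158) (Steps.fwd (nat_lit 106496) (Steps.bwd (nat_lit 11) (Steps.bwd (nat_lit 17) (Steps.fwd (nat_lit 8192) (Steps.bwd (nat_lit 9) (Steps.bwd (nat_lit 15) (Steps.bwd (nat_lit 9) (Steps.bwd (nat_lit 3) (Steps.bwd (nat_lit 3) Steps.nil))))))))) (nat_lit 63) (nat_lit 3),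
  Rule.mk (nat_lit 1) (nat_lit 126) (Steps.bwd (nat_lit 1) (Steps.bwd (nat_lit 19) (Steps.fwd (nat_lit 57344) (Steps.bwd (nat_lit 18) (Steps.fwd (nat_lit 57344) (Steps.fwd (nat_lit 147456) (Steps.fwd (nat_lit 57344) Steps.nil))))))) (nat_lit 87) (nat_lit 1),
  Rule.mk (nat_lit 9) (nat_lit 190) (Steps.bwd (nat_lit 12) (Steps.fwd (nat_lit 131072) (Steps.fwd (nat_lit 16384) (Steps.fwd (nat_lit 122880) (Steps.bwd (nat_lit 1) (Steps.fwd (nat_lit 16384) (Steps.fwd (nat_lit 16384) (Steps.fwd (nat_lit 73728) (Steps.fwd (nat_lit 106496) (Steps.bwd (nat_lit 9) (Steps.fwd (nat_lit 98304) Steps.nil))))))))))) (nat_lit 74) (nat_lit 5),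
  Rule.mk (nat_lit 9) (nat_lit 206) (Steps.bwd (nat_lit 16) (Steps.bwd (nat_lit 19) (Steps.fwd (nat_lit 81920) (Steps.fwd (nat_lit 8192) (Steps.fwd (nat_lit 32768) (Steps.fwd (nat_lit 8192) (Steps.bwd (nat_lit 4) (Steps.bwd (nat_lit 4) (Steps.fwd (nat_lit 8192) (Steps.fwd (nat_lit 73728) (Steps.bwd (nat_lit 1) (Steps.bwd (nat_lit 1) Steps.nil)))))))))))) (nat_lit 68) (nat_lit 4),
  Rule.mk (nat_lit 9) (nat_lit 110) (Steps.bwd (nat_lit 17) (Steps.fwd (nat_lit 122880) (Steps.fwd (nat_lit 24576) (Steps.fwd (nat_lit 24576) (Steps.fwd (nat_lit 73728) (Steps.bwd (nat_lit 16) Steps.nil)))))) (nat_lit 64) (nat_lit 3),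
  Rule.mk (nat_lit 17) (nat_lit 110) (Steps.bwd (nat_lit 9) (Steps.bwd (nat_lit 4) (Steps.bwd (nat_lit 9) (Steps.bwd (nat_lit 10) (Steps.fwd (nat_lit 114688) (Steps.bwd (nat_lit 17) Steps.nil)))))) (nat_lit 71) (nat_lit 4),
  Rule.mk (nat_lit 2) (nat_lit 110) (Steps.bwd (nat_lit 15) (Steps.bwd (nat_lit 1) (Steps.fwd (nat_lit 114688) (Steps.fwd (nat_lit 114688) (Steps.bwd (nat_lit 10) (Steps.bwd (nat_lit 16) Steps.nil)))))) (nat_lit 45) (nat_lit 5),
  Rule.mk (nat_lit 2) (nat_lit 94) (Steps.bwd (nat_lit 4) (Steps.bwd (nat_lit 1) (Steps.bwd (nat_lit 1) (Steps.bwd (nat_lit 3) (Steps.bwd (nat_lit 2) Steps.nil))))) (nat_lit 6) (nat_lit 2),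
  Rule.mk (nat_lit 9) (nat_lit 206) (Steps.bwd (nat_lit 2) (Steps.bwd (nat_lit 3) (Steps.bwd (nat_lit 2) (Steps.fwd (nat_lit 24576) (Steps.fwd (nat_lit 24576) (Steps.fwd (nat_lit 8192) (Steps.fwd (nat_lit 73728) (Steps.bwd (nat_lit 1) (Steps.bwd (nat_lit 1) (Steps.bwd (nat_lit 10) (Steps.bwd (nat_lit 18) (Steps.bwd (nat_lit 17) Steps.nil)))))))))))) (nat_lit 73) (nat_lit 6),
  Rule.mk (nat_lit 9) (nat_lit 110) (Steps.fwd (nat_lit 90112) (Steps.bwd (nat_lit 15) (Steps.bwd (nat_lit 10) (Steps.bwd (nat_lit 17) (Steps.bwd (nat_lit 9) (Steps.fwd (nat_lit 147456) Steps.nil)))))) (nat_lit 67) (nat_lit 0),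
  Rule.mk (nat_lit 2) (nat_lit 126) (Steps.bwd (nat_lit 4) (Steps.bwd (nat_lit 2) (Steps.bwd (nat_lit 4) (Steps.bwd (nat_lit 2) (Steps.fwd (nat_lit 24576) (Steps.bwd (nat_lit 2) (Steps.fwd (nat_lit 24576) Steps.nil))))))) (nat_lit 5) (nat_lit 0),
  Rule.mk (nat_lit 16) (nat_lit 110) (Steps.bwd (nat_lit 2) (Steps.bwd (nat_lit 15) (Steps.fwd (nat_lit 16384) (Steps.bwd (nat_lit 15) (Steps.bwd (nat_lit 15) (Steps.bwd (nat_lit 10) Steps.nil)))))) (nat_lit 45) (nat_lit 4),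
  Rule.mk (nat_lit 10) (nat_lit 110) (Steps.bwd (nat_lit 16) (Steps.fwd (nat_lit 8192) (Steps.fwd (nat_lit 114688) (Steps.fwd (nat_lit 16384) (Steps.fwd (nat_lit 114688) (Steps.bwd (nat_lit 15) Steps.nil)))))) (nat_lit 45) (nat_lit 3),
  Rule.mk (nat_lit 11) (nat_lit 158) (Steps.bwd (nat_lit 17) (Steps.fwd (nat_lit 8192) (Steps.fwd (nat_lit 73728) (Steps.fwd (nat_lit 114688) (Steps.fwd (nat_lit 73728) (Steps.fwd (nat_lit 32768) (Steps.bwd (nat_lit 3) (Steps.fwd (nat_lit 16384) (Steps.bwd (nat_lit 12) Steps.nil))))))))) (nat_lit 63) (nat_lit 5),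
  Rule.mk (nat_lit 16) (nat_lit 94) (Steps.fwd (nat_lit 147456) (Steps.bwd (nat_lit 19) (Steps.fwd (nat_lit 81920) (Steps.fwd (nat_lit 131072) (Steps.bwd (nat_lit 10) Steps.nil))))) (nat_lit 34) (nat_lit 4),
  Rule.mk (nat_lit 10) (nat_lit 94) (Steps.bwd (nat_lit 14) (Steps.bwd (nat_lit 18) (Steps.fwd (nat_lit 155648) (Steps.bwd (nat_lit 11) (Steps.fwd (nat_lit 114688) Steps.nil))))) (nat_lit 32) (nat_lit 3),
  Rule.mk (nat_lit 9) (nat_lit 110) (Steps.bwd (nat_lit 16) (Steps.bwd (nat_lit 11) (Steps.bwd (nat_lit 14) (Steps.bwd (nat_lit 11) (Steps.bwd (nat_lit 9) (Steps.bwd (nat_lit 18) Steps.nil)))))) (nat_lit 66) (nat_lit 3),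
  Rule.mk (nat_lit 12) (nat_lit 78) (Steps.bwd (nat_lit 19) (Steps.bwd (nat_lit 15) (Steps.fwd (nat_lit 98304) (Steps.fwd (nat_lit 122880) Steps.nil)))) (nat_lit 37) (nat_lit 0),
  Rule.mk (nat_lit 1) (nat_lit 110) (Steps.bwd (nat_lit 15) (Steps.fwd (nat_lit 114688) (Steps.bwd (nat_lit 10) (Steps.bwd (nat_lit 16) (Steps.fwd (nat_lit 8192) (Steps.fwd (nat_lit 114688) Steps.nil)))))) (nat_lit 45) (nat_lit 0),
  Rule.mk (nat_lit 16) (nat_lit 94) (Steps.bwd (nat_lit 10) (Steps.bwd (nat_lit 18) (Steps.fwd (nat_lit 155648) (Steps.fwd (nat_lit 131072) (Steps.fwd (nat_lit 81920) Steps.nil))))) (nat_lit 35) (nat_lit 5),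
  Rule.mk (nat_lit 15) (nat_lit 94) (Steps.fwd (nat_lit 90112) (Steps.fwd (nat_lit 122880) (Steps.fwd (nat_lit 155648) (Steps.bwd (nat_lit 18) (Steps.bwd (nat_lit 11) Steps.nil))))) (nat_lit 32) (nat_lit 2),
  Rule.mk (nat_lit 10) (nat_lit 110) (Steps.bwd (nat_lit 9) (Steps.bwd (nat_lit 10) (Steps.bwd (nat_lit 4) (Steps.bwd (nat_lit 15) (Steps.fwd (nat_lit 24576) (Steps.fwd (nat_lit 73728) Steps.nil)))))) (nat_lit 60) (nat_lit 2),
  Rule.mk (nat_lit 15) (nat_lit 126) (Steps.bwd (nat_lit 3) (Steps.fwd (nat_lit 90112) (Steps.fwd (nat_lit 90112) (Steps.fwd (nat_lit 139264) (Steps.bwd (nat_lit 15) (Steps.bwd (nat_lit 15) (Steps.bwd (nat_lit 4) Steps.nil))))))) (nat_lit 53) (nat_lit 7),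
  Rule.mk (nat_lit 15) (nat_lit 110) (Steps.bwd (nat_lit 17) (Steps.fwd (nat_lit 131072) (Steps.fwd (nat_lit 73728) (Steps.fwd (nat_lit 24576) (Steps.fwd (nat_lit 73728) (Steps.bwd (nat_lit 10) Steps.nil)))))) (nat_lit 71) (nat_lit 2),
  Rule.mk (nat_lit 4) (nat_lit 126) (Steps.bwd (nat_lit 15) (Steps.bwd (nat_lit 3) (Steps.fwd (nat_lit 90112) (Steps.bwd (nat_lit 10) (Steps.bwd (nat_lit 16) (Steps.fwd (nat_lit 114688) (Steps.fwd (nat_lit 114688) Steps.nil))))))) (nat_lit 53) (nat_lit 6),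
  Rule.mk (nat_lit 9) (nat_lit 110) (Steps.fwd (nat_lit 90112) (Steps.fwd (nat_lit 24576) (Steps.fwd (nat_lit 114688) (Steps.bwd (nat_lit 4) (Steps.bwd (nat_lit 9) (Steps.bwd (nat_lit 10) Steps.nil)))))) (nat_lit 60) (nat_lit 3),
  Rule.mk (nat_lit 13) (nat_lit 126) (Steps.fwd (nat_lit 32768) (Steps.fwd (nat_lit 106496) (Steps.bwd (nat_lit 14) (Steps.bwd (nat_lit 17) (Steps.bwd (nat_lit 11) (Steps.fwd (nat_lit 131072) (Steps.bwd (nat_lit 4) Steps.nil))))))) (nat_lit 51) (nat_lit 7),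
  Rule.mk (nat_lit 15) (nat_lit 110) (Steps.bwd (nat_lit 15) (Steps.bwd (nat_lit 10) (Steps.bwd (nat_lit 16) (Steps.fwd (nat_lit 8192) (Steps.bwd (nat_lit 15) (Steps.fwd (nat_lit 16384) Steps.nil)))))) (nat_lit 45) (nat_lit 1),
  Rule.mk (nat_lit 16) (nat_lit 126) (Steps.bwd (nat_lit 15) (Steps.bwd (nat_lit 13) (Steps.bwd (nat_lit 4) (Steps.bwd (nat_lit 12) (Steps.fwd (nat_lit 32768) (Steps.bwd (nat_lit 16) (Steps.bwd (nat_lit 10) Steps.nil))))))) (nat_lit 50) (nat_lit 6),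
  Rule.mk (nat_lit 9) (nat_lit 110) (Steps.bwd (nat_lit 3) (Steps.fwd (nat_lit 122880) (Steps.bwd (nat_lit 3) (Steps.fwd (nat_lit 81920) (Steps.bwd (nat_lit 9) (Steps.bwd (nat_lit 11) Steps.nil)))))) (nat_lit 61) (nat_lit 0),
  Rule.mk (nat_lit 18) (nat_lit 62) (Steps.fwd (nat_lit 81920) (Steps.fwd (nat_lit 147456) (Steps.bwd (nat_lit 10) Steps.nil))) (nat_lit 24) (nat_lit 0),
  Rule.mk (nat_lit 19) (nat_lit 94) (Steps.bwd (nat_lit 19) (Steps.fwd (nat_lit 81920) (Steps.bwd (nat_lit 17) (Steps.bwd (nat_lit 10) (Steps.bwd (nat_lit 16) Steps.nil))))) (nat_lit 34) (nat_lit 5),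
  Rule.mk (nat_lit 10) (nat_lit 78) (Steps.fwd (nat_lit 90112) (Steps.bwd (nat_lit 2) (Steps.fwd (nat_lit 106496) (Steps.fwd (nat_lit 16384) Steps.nil)))) (nat_lit 42) (nat_lit 4),
  Rule.mk (nat_lit 4) (nat_lit 158) (Steps.bwd (nat_lit 9) (Steps.fwd (nat_lit 122880) (Steps.fwd (nat_lit 73728) (Steps.bwd (nat_lit 1) (Steps.bwd (nat_lit 16) (Steps.bwd (nat_lit 10) (Steps.bwd (nat_lit 13) (Steps.bwd (nat_lit 2) (Steps.bwd (nat_lit 4) Steps.nil))))))))) (nat_lit 62) (nat_lit 0),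
  Rule.mk (nat_lit 2) (nat_lit 190) (Steps.bwd (nat_lit 3) (Steps.fwd (nat_lit 16384) (Steps.fwd (nat_lit 24576) (Steps.fwd (nat_lit 8192) (Steps.fwd (nat_lit 32768) (Steps.fwd (nat_lit 16384) (Steps.bwd (nat_lit 4) (Steps.bwd (nat_lit 2) (Steps.fwd (nat_lit 32768) (Steps.bwd (nat_lit 1) (Steps.bwd (nat_lit 4) Steps.nil))))))))))) (nat_lit 9) (nat_lit 2),
  Rule.mk (nat_lit 9) (nat_lit 206) (Steps.bwd (nat_lit 16) (Steps.bwd (nat_lit 19) (Steps.fwd (nat_lit 81920) (Steps.fwd (nat_lit 8192) (Steps.bwd (nat_lit 3) (Steps.bwd (nat_lit 2) (Steps.bwd (nat_lit 4) (Steps.bwd (nat_lit 4) (Steps.bwd (nat_lit 2) (Steps.fwd (nat_lit 73728) (Steps.bwd (nat_lit 1) (Steps.bwd (nat_lit 1) Steps.nil)))))))))))) (nat_lit 68) (nat_lit 4),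
  Rule.mk (nat_lit 0) (nat_lit 222) (Steps.bwd (nat_lit 9) (Steps.bwd (nat_lit 1) (Steps.bwd (nat_lit 1) (Steps.bwd (nat_lit 10) (Steps.fwd (nat_lit 155648) (Steps.fwd (nat_lit 131072) (Steps.fwd (nat_lit 73728) (Steps.fwd (nat_lit 8192) (Steps.bwd (nat_lit 3) (Steps.bwd (nat_lit 2) (Steps.bwd (nat_lit 4) (Steps.bwd (nat_lit 4) (Steps.fwd (nat_lit 8192) Steps.nil))))))))))))) (nat_lit 73) (nat_lit 12),
  Rule.mk (nat_lit 11) (nat_lit 94) (Steps.bwd (nat_lit 15) (Steps.bwd (nat_lit 10) (Steps.fwd (nat_lit 122880) (Steps.fwd (nat_lit 155648) (Steps.bwd (nat_lit 18) Steps.nil))))) (nat_lit 32) (nat_lit 1),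
  Rule.mk (nat_lit 17) (nat_lit 94) (Steps.fwd (nat_lit 90112) (Steps.fwd (nat_lit 139264) (Steps.bwd (nat_lit 19) (Steps.fwd (nat_lit 147456) (Steps.bwd (nat_lit 11) Steps.nil))))) (nat_lit 34) (nat_lit 2),
  Rule.mk (nat_lit 9) (nat_lit 110) (Steps.bwd (nat_lit 3) (Steps.fwd (nat_lit 32768) (Steps.fwd (nat_lit 114688) (Steps.bwd (nat_lit 16) (Steps.bwd (nat_lit 9) (Steps.bwd (nat_lit 17) Steps.nil)))))) (nat_lit 65) (nat_lit 0)]
noncomputable def R_31 : List (Rule) := [Rule.mk (nat_lit 1) (nat_lit 206) (Steps.bwd (nat_lit 3) (Steps.bwd (nat_lit 3) (Steps.fwd (nat_lit 16384) (Steps.fwd (nat_lit 24576) (Steps.fwd (nat_lit 16384) (Steps.bwd (nat_lit 10) (Steps.fwd (nat_lit 155648) (Steps.fwd (nat_lit 131072) (Steps.fwd (nat_lit 73728) (Steps.bwd (nat_lit 2) (Steps.bwd (nat_lit 2) (Steps.bwd (nat_lit 9) Steps.nil)))))))))))) (nat_lit 69) (nat_lit 1),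
  Rule.mk (nat_lit 1) (nat_lit 206) (Steps.bwd (nat_lit 3) (Steps.bwd (nat_lit 3) (Steps.bwd (nat_lit 1) (Steps.fwd (nat_lit 24576) (Steps.bwd (nat_lit 1) (Steps.bwd (nat_lit 9) (Steps.fwd (nat_lit 139264) (Steps.fwd (nat_lit 147456) (Steps.fwd (nat_lit 81920) (Steps.bwd (nat_lit 2) (Steps.fwd (nat_lit 8192) (Steps.fwd (nat_lit 73728) Steps.nil)))))))))))) (nat_lit 72) (nat_lit 2),
  Rule.mk (nat_lit 3) (nat_lit 94) (Steps.bwd (nat_lit 1) (Steps.fwd (nat_lit 16384) (Steps.fwd (nat_lit 24576) (Steps.bwd (nat_lit 2) (Steps.fwd (nat_lit 8192) Steps.nil))))) (nat_lit 7) (nat_lit 4),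
  Rule.mk (nat_lit 9) (nat_lit 110) (Steps.fwd (nat_lit 90112) (Steps.fwd (nat_lit 73728) (Steps.fwd (nat_lit 90112) (Steps.bwd (nat_lit 4) (Steps.fwd (nat_lit 114688) (Steps.bwd (nat_lit 4) Steps.nil)))))) (nat_lit 60) (nat_lit 1),
  Rule.mk (nat_lit 13) (nat_lit 126) (Steps.fwd (nat_lit 32768) (Steps.fwd (nat_lit 106496) (Steps.bwd (nat_lit 14) (Steps.fwd (nat_lit 131072) (Steps.fwd (nat_lit 81920) (Steps.fwd (nat_lit 131072) (Steps.bwd (nat_lit 4) Steps.nil))))))) (nat_lit 51) (nat_lit 7),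
  Rule.mk (nat_lit 15) (nat_lit 126) (Steps.bwd (nat_lit 3) (Steps.fwd (nat_lit 90112) (Steps.bwd (nat_lit 10) (Steps.bwd (nat_lit 16) (Steps.bwd (nat_lit 15) (Steps.fwd (nat_lit 114688) (Steps.bwd (nat_lit 4) Steps.nil))))))) (nat_lit 53) (nat_lit 7),
  Rule.mk (nat_lit 9) (nat_lit 110) (Steps.bwd (nat_lit 11) (Steps.bwd (nat_lit 9) (Steps.bwd (nat_lit 3) (Steps.fwd (nat_lit 122880) (Steps.bwd (nat_lit 3) (Steps.fwd (nat_lit 81920) Steps.nil)))))) (nat_lit 61) (nat_lit 5),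
  Rule.mk (nat_lit 17) (nat_lit 62) (Steps.fwd (nat_lit 32768) (Steps.bwd (nat_lit 5) (Steps.bwd (nat_lit 4) Steps.nil))) (nat_lit 17) (nat_lit 0),
  Rule.mk (nat_lit 18) (nat_lit 62) (Steps.fwd (nat_lit 32768) (Steps.bwd (nat_lit 19) (Steps.bwd (nat_lit 4) Steps.nil))) (nat_lit 54) (nat_lit 2),
  Rule.mk (nat_lit 9) (nat_lit 206) (Steps.fwd (nat_lit 139264) (Steps.bwd (nat_lit 19) (Steps.fwd (nat_lit 81920) (Steps.fwd (nat_lit 8192) (Steps.fwd (nat_lit 32768) (Steps.bwd (nat_lit 2) (Steps.bwd (nat_lit 4) (Steps.fwd (nat_lit 24576) (Steps.fwd (nat_lit 8192) (Steps.bwd (nat_lit 9) (Steps.bwd (nat_lit 1) (Steps.fwd (nat_lit 16384) Steps.nil)))))))))))) (nat_lit 68) (nat_lit 4),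
  Rule.mk (nat_lit 17) (nat_lit 94) (Steps.fwd (nat_lit 90112) (Steps.fwd (nat_lit 139264) (Steps.fwd (nat_lit 147456) (Steps.bwd (nat_lit 19) (Steps.bwd (nat_lit 11) Steps.nil))))) (nat_lit 34) (nat_lit 2),
  Rule.mk (nat_lit 9) (nat_lit 110) (Steps.bwd (nat_lit 17) (Steps.bwd (nat_lit 9) (Steps.bwd (nat_lit 3) (Steps.fwd (nat_lit 32768) (Steps.fwd (nat_lit 114688) (Steps.bwd (nat_lit 16) Steps.nil)))))) (nat_lit 65) (nat_lit 5),
  Rule.mk (nat_lit 13) (nat_lit 62) (Steps.bwd (nat_lit 16) (Steps.fwd (nat_lit 106496) (Steps.fwd (nat_lit 131072) Steps.nil))) (nat_lit 39) (nat_lit 2),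
  Rule.mk (nat_lit 15) (nat_lit 110) (Steps.bwd (nat_lit 15) (Steps.bwd (nat_lit 10) (Steps.bwd (nat_lit 16) (Steps.bwd (nat_lit 2) (Steps.fwd (nat_lit 114688) (Steps.fwd (nat_lit 16384) Steps.nil)))))) (nat_lit 45) (nat_lit 1),
  Rule.mk (nat_lit 9) (nat_lit 110) (Steps.bwd (nat_lit 3) (Steps.bwd (nat_lit 14) (Steps.fwd (nat_lit 32768) (Steps.bwd (nat_lit 11) (Steps.bwd (nat_lit 9) (Steps.bwd (nat_lit 11) Steps.nil)))))) (nat_lit 61) (nat_lit 0),
  Rule.mk (nat_lit 13) (nat_lit 126) (Steps.fwd (nat_lit 32768) (Steps.bwd (nat_lit 12) (Steps.fwd (nat_lit 122880) (Steps.bwd (nat_lit 17) (Steps.bwd (nat_lit 11) (Steps.fwd (nat_lit 131072) (Steps.bwd (nat_lit 4) Steps.nil))))))) (nat_lit 51) (nat_lit 7),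
  Rule.mk (nat_lit 15) (nat_lit 78) (Steps.fwd (nat_lit 106496) (Steps.bwd (nat_lit 14) (Steps.fwd (nat_lit 155648) (Steps.bwd (nat_lit 13) Steps.nil)))) (nat_lit 36) (nat_lit 2),
  Rule.mk (nat_lit 11) (nat_lit 126) (Steps.bwd (nat_lit 17) (Steps.bwd (nat_lit 4) (Steps.bwd (nat_lit 13) (Steps.fwd (nat_lit 32768) (Steps.fwd (nat_lit 106496) (Steps.bwd (nat_lit 14) (Steps.fwd (nat_lit 131072) Steps.nil))))))) (nat_lit 51) (nat_lit 4),
  Rule.mk (nat_lit 8) (nat_lit 126) (Steps.bwd (nat_lit 19) (Steps.bwd (nat_lit 8) (Steps.bwd (nat_lit 1) (Steps.fwd (nat_lit 16384) (Steps.bwd (nat_lit 19) (Steps.fwd (nat_lit 57344) (Steps.bwd (nat_lit 18) Steps.nil))))))) (nat_lit 87) (nat_lit 6),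
  Rule.mk (nat_lit 14) (nat_lit 78) (Steps.fwd (nat_lit 106496) (Steps.fwd (nat_lit 147456) (Steps.bwd (nat_lit 15) (Steps.bwd (nat_lit 13) Steps.nil)))) (nat_lit 37) (nat_lit 4),
  Rule.mk (nat_lit 1) (nat_lit 78) (Steps.bwd (nat_lit 11) (Steps.fwd (nat_lit 81920) (Steps.fwd (nat_lit 8192) (Steps.bwd (nat_lit 13) Steps.nil)))) (nat_lit 43) (nat_lit 0),
  Rule.mk (nat_lit 19) (nat_lit 78) (Steps.bwd (nat_lit 17) (Steps.fwd (nat_lit 114688) (Steps.bwd (nat_lit 16) (Steps.fwd (nat_lit 122880) Steps.nil)))) (nat_lit 41) (nat_lit 1),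
  Rule.mk (nat_lit 8) (nat_lit 126) (Steps.bwd (nat_lit 18) (Steps.bwd (nat_lit 8) (Steps.bwd (nat_lit 19) (Steps.fwd (nat_lit 57344) (Steps.fwd (nat_lit 16384) (Steps.fwd (nat_lit 16384) (Steps.fwd (nat_lit 147456) Steps.nil))))))) (nat_lit 87) (nat_lit 4),
  Rule.mk (nat_lit 7) (nat_lit 126) (Steps.bwd (nat_lit 19) (Steps.fwd (nat_lit 65536) (Steps.fwd (nat_lit 155648) (Steps.bwd (nat_lit 2) (Steps.bwd (nat_lit 2) (Steps.bwd (nat_lit 7) (Steps.fwd (nat_lit 155648) Steps.nil))))))) (nat_lit 86) (nat_lit 3),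
  Rule.mk (nat_lit 8) (nat_lit 126) (Steps.bwd (nat_lit 19) (Steps.bwd (nat_lit 8) (Steps.bwd (nat_lit 1) (Steps.fwd (nat_lit 16384) (Steps.fwd (nat_lit 147456) (Steps.fwd (nat_lit 57344) (Steps.fwd (nat_lit 155648) Steps.nil))))))) (nat_lit 87) (nat_lit 6),
  Rule.mk (nat_lit 1) (nat_lit 126) (Steps.bwd (nat_lit 19) (Steps.bwd (nat_lit 8) (Steps.bwd (nat_lit 18) (Steps.bwd (nat_lit 8) (Steps.fwd (nat_lit 147456) (Steps.fwd (nat_lit 57344) (Steps.fwd (nat_lit 16384) Steps.nil))))))) (nat_lit 87) (nat_lit 2),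
  Rule.mk (nat_lit 9) (nat_lit 110) (Steps.fwd (nat_lit 81920) (Steps.bwd (nat_lit 9) (Steps.bwd (nat_lit 3) (Steps.fwd (nat_lit 122880) (Steps.bwd (nat_lit 3) (Steps.bwd (nat_lit 11) Steps.nil)))))) (nat_lit 61) (nat_lit 5),
  Rule.mk (nat_lit 9) (nat_lit 110) (Steps.bwd (nat_lit 11) (Steps.bwd (nat_lit 9) (Steps.bwd (nat_lit 3) (Steps.bwd (nat_lit 14) (Steps.bwd (nat_lit 3) (Steps.fwd (nat_lit 81920) Steps.nil)))))) (nat_lit 61) (nat_lit 5),
  Rule.mk (nat_lit 9) (nat_lit 110) (Steps.bwd (nat_lit 10) (Steps.bwd (nat_lit 4) (Steps.fwd (nat_lit 114688) (Steps.fwd (nat_lit 24576) (Steps.bwd (nat_lit 9) (Steps.fwd (nat_lit 90112) Steps.nil)))))) (nat_lit 60) (nat_lit 3),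
  Rule.mk (nat_lit 10) (nat_lit 94) (Steps.bwd (nat_lit 16) (Steps.bwd (nat_lit 19) (Steps.bwd (nat_lit 19) (Steps.fwd (nat_lit 81920) (Steps.fwd (nat_lit 131072) Steps.nil))))) (nat_lit 34) (nat_lit 3),
  Rule.mk (nat_lit 9) (nat_lit 110) (Steps.bwd (nat_lit 16) (Steps.bwd (nat_lit 11) (Steps.fwd (nat_lit 122880) (Steps.fwd (nat_lit 81920) (Steps.fwd (nat_lit 73728) (Steps.bwd (nat_lit 18) Steps.nil)))))) (nat_lit 66) (nat_lit 3),
  Rule.mk (nat_lit 11) (nat_lit 142) (Steps.bwd (nat_lit 2) (Steps.bwd (nat_lit 16) (Steps.fwd (nat_lit 16384) (Steps.fwd (nat_lit 131072) (Steps.bwd (nat_lit 11) (Steps.fwd (nat_lit 131072) (Steps.bwd (nat_lit 14) (Steps.fwd (nat_lit 106496) Steps.nil)))))))) (nat_lit 46) (nat_lit 0),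
  Rule.mk (nat_lit 9) (nat_lit 110) (Steps.fwd (nat_lit 90112) (Steps.fwd (nat_lit 114688) (Steps.bwd (nat_lit 10) (Steps.fwd (nat_lit 131072) (Steps.bwd (nat_lit 9) (Steps.bwd (nat_lit 19) Steps.nil)))))) (nat_lit 67) (nat_lit 0),
  Rule.mk (nat_lit 9) (nat_lit 190) (Steps.bwd (nat_lit 12) (Steps.bwd (nat_lit 17) (Steps.bwd (nat_lit 1) (Steps.fwd (nat_lit 122880) (Steps.fwd (nat_lit 16384) (Steps.bwd (nat_lit 1) (Steps.fwd (nat_lit 16384) (Steps.fwd (nat_lit 73728) (Steps.bwd (nat_lit 12) (Steps.bwd (nat_lit 9) (Steps.bwd (nat_lit 13) Steps.nil))))))))))) (nat_lit 74) (nat_lit 5),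
  Rule.mk (nat_lit 1) (nat_lit 94) (Steps.bwd (nat_lit 3) (Steps.fwd (nat_lit 8192) (Steps.bwd (nat_lit 2) (Steps.fwd (nat_lit 24576) (Steps.bwd (nat_lit 1) Steps.nil))))) (nat_lit 6) (nat_lit 5),
  Rule.mk (nat_lit 2) (nat_lit 94) (Steps.bwd (nat_lit 3) (Steps.bwd (nat_lit 1) (Steps.fwd (nat_lit 16384) (Steps.fwd (nat_lit 24576) (Steps.bwd (nat_lit 2) Steps.nil))))) (nat_lit 7) (nat_lit 3),
  Rule.mk (nat_lit 9) (nat_lit 110) (Steps.bwd (nat_lit 3) (Steps.fwd (nat_lit 122880) (Steps.fwd (nat_lit 32768) (Steps.bwd (nat_lit 11) (Steps.fwd (nat_lit 73728) (Steps.bwd (nat_lit 11) Steps.nil)))))) (nat_lit 61) (nat_lit 0),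
  Rule.mk (nat_lit 16) (nat_lit 78) (Steps.bwd (nat_lit 14) (Steps.bwd (nat_lit 19) (Steps.fwd (nat_lit 131072) (Steps.fwd (nat_lit 114688) Steps.nil)))) (nat_lit 41) (nat_lit 4),
  Rule.mk (nat_lit 2) (nat_lit 110) (Steps.bwd (nat_lit 14) (Steps.bwd (nat_lit 1) (Steps.fwd (nat_lit 131072) (Steps.fwd (nat_lit 81920) (Steps.fwd (nat_lit 122880) (Steps.fwd (nat_lit 122880) Steps.nil)))))) (nat_lit 44) (nat_lit 1),
  Rule.mk (nat_lit 9) (nat_lit 110) (Steps.bwd (nat_lit 3) (Steps.bwd (nat_lit 3) (Steps.bwd (nat_lit 15) (Steps.fwd (nat_lit 139264) (Steps.bwd (nat_lit 9) (Steps.bwd (nat_lit 17) Steps.nil)))))) (nat_lit 65) (nat_lit 0),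
  Rule.mk (nat_lit 1) (nat_lit 94) (Steps.bwd (nat_lit 3) (Steps.fwd (nat_lit 8192) (Steps.bwd (nat_lit 2) (Steps.fwd (nat_lit 24576) (Steps.fwd (nat_lit 16384) Steps.nil))))) (nat_lit 6) (nat_lit 5),
  Rule.mk (nat_lit 9) (nat_lit 110) (Steps.fwd (nat_lit 139264) (Steps.fwd (nat_lit 139264) (Steps.bwd (nat_lit 14) (Steps.fwd (nat_lit 81920) (Steps.fwd (nat_lit 73728) (Steps.bwd (nat_lit 3) Steps.nil)))))) (nat_lit 70) (nat_lit 3),
  Rule.mk (nat_lit 19) (nat_lit 62) (Steps.fwd (nat_lit 81920) (Steps.fwd (nat_lit 155648) (Steps.bwd (nat_lit 10) Steps.nil))) (nat_lit 25) (nat_lit 1),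
  Rule.mk (nat_lit 12) (nat_lit 78) (Steps.fwd (nat_lit 147456) (Steps.fwd (nat_lit 81920) (Steps.fwd (nat_lit 98304) (Steps.bwd (nat_lit 10) Steps.nil)))) (nat_lit 19) (nat_lit 4),
  Rule.mk (nat_lit 16) (nat_lit 94) (Steps.bwd (nat_lit 19) (Steps.fwd (nat_lit 147456) (Steps.fwd (nat_lit 81920) (Steps.bwd (nat_lit 17) (Steps.bwd (nat_lit 10) Steps.nil))))) (nat_lit 34) (nat_lit 4),
  Rule.mk (nat_lit 9) (nat_lit 110) (Steps.bwd (nat_lit 19) (Steps.bwd (nat_lit 9) (Steps.fwd (nat_lit 90112) (Steps.fwd (nat_lit 114688) (Steps.bwd (nat_lit 10) (Steps.fwd (nat_lit 131072) Steps.nil)))))) (nat_lit 67) (nat_lit 5),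
  Rule.mk (nat_lit 7) (nat_lit 126) (Steps.bwd (nat_lit 18) (Steps.fwd (nat_lit 8192) (Steps.bwd (nat_lit 2) (Steps.fwd (nat_lit 65536) (Steps.fwd (nat_lit 155648) (Steps.bwd (nat_lit 7) (Steps.fwd (nat_lit 147456) Steps.nil))))))) (nat_lit 86) (nat_lit 5),
  Rule.mk (nat_lit 8) (nat_lit 126) (Steps.bwd (nat_lit 18) (Steps.bwd (nat_lit 8) (Steps.fwd (nat_lit 147456) (Steps.bwd (nat_lit 8) (Steps.bwd (nat_lit 1) (Steps.fwd (nat_lit 16384) (Steps.bwd (nat_lit 19) Steps.nil))))))) (nat_lit 87) (nat_lit 4),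
  Rule.mk (nat_lit 7) (nat_lit 126) (Steps.bwd (nat_lit 18) (Steps.bwd (nat_lit 2) (Steps.fwd (nat_lit 8192) (Steps.bwd (nat_lit 7) (Steps.fwd (nat_lit 155648) (Steps.bwd (nat_lit 7) (Steps.fwd (nat_lit 147456) Steps.nil))))))) (nat_lit 86) (nat_lit 5),
  Rule.mk (nat_lit 7) (nat_lit 158) (Steps.fwd (nat_lit 155648) (Steps.bwd (nat_lit 7) (Steps.bwd (nat_lit 18) (Steps.bwd (nat_lit 7) (Steps.bwd (nat_lit 18) (Steps.fwd (nat_lit 65536) (Steps.fwd (nat_lit 155648) (Steps.fwd (nat_lit 65536) (Steps.bwd (nat_lit 18) Steps.nil))))))))) (nat_lit 84) (nat_lit 1),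
  Rule.mk (nat_lit 7) (nat_lit 126) (Steps.bwd (nat_lit 19) (Steps.bwd (nat_lit 7) (Steps.bwd (nat_lit 18) (Steps.fwd (nat_lit 8192) (Steps.fwd (nat_lit 8192) (Steps.fwd (nat_lit 65536) (Steps.fwd (nat_lit 155648) Steps.nil))))))) (nat_lit 86) (nat_lit 3),
  Rule.mk (nat_lit 8) (nat_lit 126) (Steps.bwd (nat_lit 19) (Steps.fwd (nat_lit 57344) (Steps.fwd (nat_lit 16384) (Steps.fwd (nat_lit 16384) (Steps.bwd (nat_lit 19) (Steps.bwd (nat_lit 8) (Steps.fwd (nat_lit 155648) Steps.nil))))))) (nat_lit 87) (nat_lit 6),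
  Rule.mk (nat_lit 1) (nat_lit 94) (Steps.bwd (nat_lit 4) (Steps.bwd (nat_lit 2) (Steps.bwd (nat_lit 2) (Steps.bwd (nat_lit 3) (Steps.bwd (nat_lit 1) Steps.nil))))) (nat_lit 7) (nat_lit 0),
  Rule.mk (nat_lit 13) (nat_lit 126) (Steps.bwd (nat_lit 4) (Steps.fwd (nat_lit 106496) (Steps.bwd (nat_lit 3) (Steps.fwd (nat_lit 139264) (Steps.fwd (nat_lit 90112) (Steps.bwd (nat_lit 16) (Steps.fwd (nat_lit 114688) Steps.nil))))))) (nat_lit 50) (nat_lit 0),
  Rule.mk (nat_lit 13) (nat_lit 158) (Steps.bwd (nat_lit 2) (Steps.bwd (nat_lit 4) (Steps.bwd (nat_lit 4) (Steps.bwd (nat_lit 9) (Steps.fwd (nat_lit 122880) (Steps.bwd (nat_lit 9) (Steps.fwd (nat_lit 16384) (Steps.bwd (nat_lit 16) (Steps.bwd (nat_lit 10) Steps.nil))))))))) (nat_lit 62) (nat_lit 7),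
  Rule.mk (nat_lit 11) (nat_lit 94) (Steps.bwd (nat_lit 15) (Steps.fwd (nat_lit 90112) (Steps.fwd (nat_lit 122880) (Steps.fwd (nat_lit 155648) (Steps.bwd (nat_lit 18) Steps.nil))))) (nat_lit 32) (nat_lit 1),
  Rule.mk (nat_lit 16) (nat_lit 126) (Steps.bwd (nat_lit 15) (Steps.fwd (nat_lit 114688) (Steps.fwd (nat_lit 24576) (Steps.bwd (nat_lit 15) (Steps.fwd (nat_lit 32768) (Steps.fwd (nat_lit 90112) (Steps.bwd (nat_lit 10) Steps.nil))))))) (nat_lit 53) (nat_lit 3),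
  Rule.mk (nat_lit 7) (nat_lit 126) (Steps.bwd (nat_lit 19) (Steps.bwd (nat_lit 7) (Steps.fwd (nat_lit 155648) (Steps.fwd (nat_lit 8192) (Steps.bwd (nat_lit 2) (Steps.bwd (nat_lit 7) (Steps.bwd (nat_lit 18) Steps.nil))))))) (nat_lit 86) (nat_lit 3),
  Rule.mk (nat_lit 4) (nat_lit 110) (Steps.bwd (nat_lit 9) (Steps.fwd (nat_lit 139264) (Steps.fwd (nat_lit 73728) (Steps.fwd (nat_lit 131072) (Steps.fwd (nat_lit 122880) (Steps.bwd (nat_lit 4) Steps.nil)))))) (nat_lit 64) (nat_lit 0),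
  Rule.mk (nat_lit 12) (nat_lit 126) (Steps.bwd (nat_lit 3) (Steps.fwd (nat_lit 139264) (Steps.fwd (nat_lit 90112) (Steps.fwd (nat_lit 139264) (Steps.bwd (nat_lit 15) (Steps.bwd (nat_lit 13) (Steps.bwd (nat_lit 4) Steps.nil))))))) (nat_lit 50) (nat_lit 2),
  Rule.mk (nat_lit 18) (nat_lit 78) (Steps.bwd (nat_lit 13) (Steps.bwd (nat_lit 15) (Steps.bwd (nat_lit 12) (Steps.fwd (nat_lit 122880) Steps.nil)))) (nat_lit 36) (nat_lit 0),
  Rule.mk (nat_lit 11) (nat_lit 94) (Steps.fwd (nat_lit 122880) (Steps.bwd (nat_lit 10) (Steps.bwd (nat_lit 19) (Steps.bwd (nat_lit 19) (Steps.bwd (nat_lit 15) Steps.nil))))) (nat_lit 33) (nat_lit 4),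
  Rule.mk (nat_lit 15) (nat_lit 126) (Steps.fwd (nat_lit 24576) (Steps.fwd (nat_lit 114688) (Steps.bwd (nat_lit 3) (Steps.fwd (nat_lit 90112) (Steps.fwd (nat_lit 90112) (Steps.fwd (nat_lit 139264) (Steps.bwd (nat_lit 15) Steps.nil))))))) (nat_lit 53) (nat_lit 5),
  Rule.mk (nat_lit 4) (nat_lit 62) (Steps.fwd (nat_lit 40960) (Steps.fwd (nat_lit 32768) (Steps.bwd (nat_lit 14) Steps.nil))) (nat_lit 14) (nat_lit 2)]
noncomputable def R_32 : List (Rule) := [Rule.mk (nat_lit 7) (nat_lit 126) (Steps.bwd (nat_lit 18) (Steps.bwd (nat_lit 2) (Steps.bwd (nat_lit 2) (Steps.bwd (nat_lit 7) (Steps.bwd (nat_lit 18) (Steps.bwd (nat_lit 7) (Steps.fwd (nat_lit 147456) Steps.nil))))))) (nat_lit 86) (nat_lit 5),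
  Rule.mk (nat_lit 8) (nat_lit 126) (Steps.bwd (nat_lit 18) (Steps.fwd (nat_lit 57344) (Steps.bwd (nat_lit 19) (Steps.fwd (nat_lit 57344) (Steps.fwd (nat_lit 16384) (Steps.bwd (nat_lit 1) (Steps.fwd (nat_lit 147456) Steps.nil))))))) (nat_lit 87) (nat_lit 4),
  Rule.mk (nat_lit 9) (nat_lit 110) (Steps.bwd (nat_lit 3) (Steps.fwd (nat_lit 122880) (Steps.fwd (nat_lit 32768) (Steps.fwd (nat_lit 81920) (Steps.fwd (nat_lit 73728) (Steps.bwd (nat_lit 11) Steps.nil)))))) (nat_lit 61) (nat_lit 0),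
  Rule.mk (nat_lit 9) (nat_lit 110) (Steps.fwd (nat_lit 32768) (Steps.fwd (nat_lit 122880) (Steps.bwd (nat_lit 3) (Steps.bwd (nat_lit 11) (Steps.bwd (nat_lit 9) (Steps.bwd (nat_lit 11) Steps.nil)))))) (nat_lit 61) (nat_lit 0),
  Rule.mk (nat_lit 9) (nat_lit 110) (Steps.fwd (nat_lit 139264) (Steps.bwd (nat_lit 11) (Steps.fwd (nat_lit 122880) (Steps.bwd (nat_lit 11) (Steps.bwd (nat_lit 9) (Steps.bwd (nat_lit 18) Steps.nil)))))) (nat_lit 66) (nat_lit 3),
  Rule.mk (nat_lit 9) (nat_lit 110) (Steps.fwd (nat_lit 90112) (Steps.fwd (nat_lit 24576) (Steps.bwd (nat_lit 15) (Steps.bwd (nat_lit 4) (Steps.bwd (nat_lit 9) (Steps.fwd (nat_lit 90112) Steps.nil)))))) (nat_lit 60) (nat_lit 3),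
  Rule.mk (nat_lit 13) (nat_lit 78) (Steps.bwd (nat_lit 15) (Steps.fwd (nat_lit 106496) (Steps.fwd (nat_lit 122880) (Steps.bwd (nat_lit 18) Steps.nil)))) (nat_lit 36) (nat_lit 1),
  Rule.mk (nat_lit 14) (nat_lit 78) (Steps.fwd (nat_lit 106496) (Steps.bwd (nat_lit 19) (Steps.bwd (nat_lit 15) (Steps.bwd (nat_lit 13) Steps.nil)))) (nat_lit 37) (nat_lit 4),
  Rule.mk (nat_lit 7) (nat_lit 126) (Steps.bwd (nat_lit 18) (Steps.bwd (nat_lit 2) (Steps.fwd (nat_lit 8192) (Steps.bwd (nat_lit 7) (Steps.bwd (nat_lit 18) (Steps.bwd (nat_lit 7) (Steps.fwd (nat_lit 147456) Steps.nil))))))) (nat_lit 86) (nat_lit 5),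
  Rule.mk (nat_lit 8) (nat_lit 126) (Steps.bwd (nat_lit 19) (Steps.fwd (nat_lit 57344) (Steps.fwd (nat_lit 16384) (Steps.fwd (nat_lit 16384) (Steps.bwd (nat_lit 19) (Steps.fwd (nat_lit 57344) (Steps.fwd (nat_lit 155648) Steps.nil))))))) (nat_lit 87) (nat_lit 6),
  Rule.mk (nat_lit 15) (nat_lit 126) (Steps.bwd (nat_lit 13) (Steps.bwd (nat_lit 4) (Steps.bwd (nat_lit 12) (Steps.fwd (nat_lit 32768) (Steps.bwd (nat_lit 16) (Steps.bwd (nat_lit 10) (Steps.fwd (nat_lit 139264) Steps.nil))))))) (nat_lit 50) (nat_lit 7),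
  Rule.mk (nat_lit 18) (nat_lit 62) (Steps.fwd (nat_lit 122880) (Steps.fwd (nat_lit 147456) (Steps.bwd (nat_lit 15) Steps.nil))) (nat_lit 29) (nat_lit 3),
  Rule.mk (nat_lit 0) (nat_lit 94) (Steps.bwd (nat_lit 18) (Steps.bwd (nat_lit 2) (Steps.fwd (nat_lit 147456) (Steps.fwd (nat_lit 16384) (Steps.bwd (nat_lit 18) Steps.nil))))) (nat_lit 49) (nat_lit 1),
  Rule.mk (nat_lit 7) (nat_lit 46) (Steps.bwd (nat_lit 0) (Steps.bwd (nat_lit 8) Steps.nil)) (nat_lit 88) (nat_lit 0),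
  Rule.mk (nat_lit 7) (nat_lit 126) (Steps.bwd (nat_lit 18) (Steps.fwd (nat_lit 8192) (Steps.fwd (nat_lit 8192) (Steps.fwd (nat_lit 65536) (Steps.fwd (nat_lit 155648) (Steps.bwd (nat_lit 7) (Steps.fwd (nat_lit 147456) Steps.nil))))))) (nat_lit 86) (nat_lit 5),
  Rule.mk (nat_lit 8) (nat_lit 126) (Steps.bwd (nat_lit 18) (Steps.fwd (nat_lit 57344) (Steps.fwd (nat_lit 147456) (Steps.fwd (nat_lit 57344) (Steps.fwd (nat_lit 16384) (Steps.fwd (nat_lit 16384) (Steps.bwd (nat_lit 19) Steps.nil))))))) (nat_lit 87) (nat_lit 4),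
  Rule.mk (nat_lit 19) (nat_lit 62) (Steps.fwd (nat_lit 90112) (Steps.fwd (nat_lit 155648) (Steps.bwd (nat_lit 11) Steps.nil))) (nat_lit 24) (nat_lit 2),
  Rule.mk (nat_lit 9) (nat_lit 110) (Steps.bwd (nat_lit 18) (Steps.fwd (nat_lit 73728) (Steps.fwd (nat_lit 139264) (Steps.bwd (nat_lit 11) (Steps.bwd (nat_lit 14) (Steps.fwd (nat_lit 81920) Steps.nil)))))) (nat_lit 66) (nat_lit 1),
  Rule.mk (nat_lit 7) (nat_lit 126) (Steps.bwd (nat_lit 19) (Steps.bwd (nat_lit 7) (Steps.fwd (nat_lit 155648) (Steps.fwd (nat_lit 8192) (Steps.fwd (nat_lit 8192) (Steps.fwd (nat_lit 65536) (Steps.bwd (nat_lit 18) Steps.nil))))))) (nat_lit 86) (nat_lit 3),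
  Rule.mk (nat_lit 8) (nat_lit 126) (Steps.bwd (nat_lit 19) (Steps.bwd (nat_lit 8) (Steps.bwd (nat_lit 1) (Steps.bwd (nat_lit 1) (Steps.fwd (nat_lit 147456) (Steps.bwd (nat_lit 8) (Steps.bwd (nat_lit 18) Steps.nil))))))) (nat_lit 87) (nat_lit 6),
  Rule.mk (nat_lit 16) (nat_lit 110) (Steps.fwd (nat_lit 139264) (Steps.fwd (nat_lit 122880) (Steps.fwd (nat_lit 81920) (Steps.bwd (nat_lit 9) (Steps.bwd (nat_lit 3) (Steps.bwd (nat_lit 9) Steps.nil)))))) (nat_lit 70) (nat_lit 4),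
  Rule.mk (nat_lit 1) (nat_lit 78) (Steps.fwd (nat_lit 81920) (Steps.bwd (nat_lit 11) (Steps.fwd (nat_lit 8192) (Steps.bwd (nat_lit 13) Steps.nil)))) (nat_lit 43) (nat_lit 0),
  Rule.mk (nat_lit 8) (nat_lit 126) (Steps.bwd (nat_lit 19) (Steps.fwd (nat_lit 57344) (Steps.fwd (nat_lit 16384) (Steps.fwd (nat_lit 16384) (Steps.fwd (nat_lit 147456) (Steps.fwd (nat_lit 57344) (Steps.fwd (nat_lit 155648) Steps.nil))))))) (nat_lit 87) (nat_lit 6),
  Rule.mk (nat_lit 1) (nat_lit 126) (Steps.bwd (nat_lit 19) (Steps.fwd (nat_lit 57344) (Steps.bwd (nat_lit 18) (Steps.fwd (nat_lit 57344) (Steps.fwd (nat_lit 147456) (Steps.fwd (nat_lit 57344) (Steps.fwd (nat_lit 16384) Steps.nil))))))) (nat_lit 87) (nat_lit 2),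
  Rule.mk (nat_lit 9) (nat_lit 110) (Steps.bwd (nat_lit 10) (Steps.bwd (nat_lit 15) (Steps.bwd (nat_lit 17) (Steps.fwd (nat_lit 131072) (Steps.fwd (nat_lit 73728) (Steps.bwd (nat_lit 4) Steps.nil)))))) (nat_lit 71) (nat_lit 0),
  Rule.mk (nat_lit 15) (nat_lit 126) (Steps.fwd (nat_lit 32768) (Steps.bwd (nat_lit 10) (Steps.fwd (nat_lit 90112) (Steps.fwd (nat_lit 139264) (Steps.fwd (nat_lit 114688) (Steps.fwd (nat_lit 114688) (Steps.bwd (nat_lit 4) Steps.nil))))))) (nat_lit 53) (nat_lit 7),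
  Rule.mk (nat_lit 4) (nat_lit 62) (Steps.bwd (nat_lit 6) (Steps.bwd (nat_lit 3) (Steps.bwd (nat_lit 14) Steps.nil))) (nat_lit 14) (nat_lit 2),
  Rule.mk (nat_lit 11) (nat_lit 110) (Steps.bwd (nat_lit 9) (Steps.bwd (nat_lit 11) (Steps.bwd (nat_lit 9) (Steps.bwd (nat_lit 3) (Steps.bwd (nat_lit 14) (Steps.bwd (nat_lit 3) Steps.nil)))))) (nat_lit 61) (nat_lit 4),
  Rule.mk (nat_lit 1) (nat_lit 190) (Steps.bwd (nat_lit 9) (Steps.fwd (nat_lit 106496) (Steps.fwd (nat_lit 73728) (Steps.bwd (nat_lit 13) (Steps.bwd (nat_lit 9) (Steps.bwd (nat_lit 12) (Steps.fwd (nat_lit 131072) (Steps.fwd (nat_lit 16384) (Steps.fwd (nat_lit 122880) (Steps.bwd (nat_lit 1) (Steps.bwd (nat_lit 1) Steps.nil))))))))))) (nat_lit 74) (nat_lit 0),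
  Rule.mk (nat_lit 12) (nat_lit 190) (Steps.bwd (nat_lit 9) (Steps.fwd (nat_lit 98304) (Steps.fwd (nat_lit 73728) (Steps.fwd (nat_lit 8192) (Steps.bwd (nat_lit 2) (Steps.bwd (nat_lit 2) (Steps.bwd (nat_lit 15) (Steps.bwd (nat_lit 2) (Steps.fwd (nat_lit 139264) (Steps.bwd (nat_lit 13) (Steps.fwd (nat_lit 73728) Steps.nil))))))))))) (nat_lit 75) (nat_lit 9),
  Rule.mk (nat_lit 9) (nat_lit 110) (Steps.bwd (nat_lit 10) (Steps.fwd (nat_lit 24576) (Steps.fwd (nat_lit 114688) (Steps.fwd (nat_lit 24576) (Steps.fwd (nat_lit 73728) (Steps.fwd (nat_lit 90112) Steps.nil)))))) (nat_lit 60) (nat_lit 3),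
  Rule.mk (nat_lit 14) (nat_lit 78) (Steps.bwd (nat_lit 18) (Steps.fwd (nat_lit 98304) (Steps.fwd (nat_lit 114688) (Steps.bwd (nat_lit 12) Steps.nil)))) (nat_lit 36) (nat_lit 4),
  Rule.mk (nat_lit 14) (nat_lit 110) (Steps.bwd (nat_lit 1) (Steps.bwd (nat_lit 17) (Steps.fwd (nat_lit 81920) (Steps.bwd (nat_lit 14) (Steps.bwd (nat_lit 14) (Steps.fwd (nat_lit 8192) Steps.nil)))))) (nat_lit 44) (nat_lit 2),
  Rule.mk (nat_lit 4) (nat_lit 126) (Steps.bwd (nat_lit 14) (Steps.fwd (nat_lit 32768) (Steps.bwd (nat_lit 14) (Steps.bwd (nat_lit 14) (Steps.fwd (nat_lit 131072) (Steps.bwd (nat_lit 11) (Steps.bwd (nat_lit 11) Steps.nil))))))) (nat_lit 52) (nat_lit 1),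
  Rule.mk (nat_lit 9) (nat_lit 110) (Steps.bwd (nat_lit 3) (Steps.fwd (nat_lit 122880) (Steps.bwd (nat_lit 3) (Steps.bwd (nat_lit 11) (Steps.bwd (nat_lit 9) (Steps.bwd (nat_lit 11) Steps.nil)))))) (nat_lit 61) (nat_lit 0),
  Rule.mk (nat_lit 16) (nat_lit 110) (Steps.bwd (nat_lit 9) (Steps.bwd (nat_lit 17) (Steps.fwd (nat_lit 73728) (Steps.bwd (nat_lit 3) (Steps.bwd (nat_lit 3) (Steps.bwd (nat_lit 15) Steps.nil)))))) (nat_lit 65) (nat_lit 4),
  Rule.mk (nat_lit 17) (nat_lit 110) (Steps.bwd (nat_lit 9) (Steps.fwd (nat_lit 147456) (Steps.bwd (nat_lit 9) (Steps.bwd (nat_lit 10) (Steps.bwd (nat_lit 15) (Steps.fwd (nat_lit 90112) Steps.nil)))))) (nat_lit 67) (nat_lit 4),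
  Rule.mk (nat_lit 13) (nat_lit 62) (Steps.fwd (nat_lit 139264) (Steps.fwd (nat_lit 106496) (Steps.bwd (nat_lit 17) Steps.nil))) (nat_lit 39) (nat_lit 2),
  Rule.mk (nat_lit 7) (nat_lit 286) (Steps.fwd (nat_lit 90112) (Steps.fwd (nat_lit 65536) (Steps.fwd (nat_lit 73728) (Steps.fwd (nat_lit 24576) (Steps.bwd (nat_lit 4) (Steps.fwd (nat_lit 8192) (Steps.bwd (nat_lit 11) (Steps.bwd (nat_lit 1) (Steps.bwd (nat_lit 10) (Steps.fwd (nat_lit 8192) (Steps.fwd (nat_lit 90112) (Steps.bwd (nat_lit 1) (Steps.bwd (nat_lit 7) (Steps.bwd (nat_lit 10) (Steps.fwd (nat_lit 32768) (Steps.bwd (nat_lit 1) (Steps.bwd (nat_lit 4) Steps.nil))))))))))))))))) (nat_lit 57) (nat_lit 15),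
  Rule.mk (nat_lit 3) (nat_lit 126) (Steps.fwd (nat_lit 90112) (Steps.bwd (nat_lit 10) (Steps.bwd (nat_lit 16) (Steps.fwd (nat_lit 114688) (Steps.fwd (nat_lit 114688) (Steps.fwd (nat_lit 24576) (Steps.bwd (nat_lit 15) Steps.nil))))))) (nat_lit 53) (nat_lit 0),
  Rule.mk (nat_lit 10) (nat_lit 94) (Steps.bwd (nat_lit 14) (Steps.fwd (nat_lit 155648) (Steps.bwd (nat_lit 18) (Steps.fwd (nat_lit 81920) (Steps.fwd (nat_lit 114688) Steps.nil))))) (nat_lit 32) (nat_lit 3),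
  Rule.mk (nat_lit 9) (nat_lit 110) (Steps.fwd (nat_lit 32768) (Steps.fwd (nat_lit 32768) (Steps.fwd (nat_lit 114688) (Steps.bwd (nat_lit 16) (Steps.fwd (nat_lit 73728) (Steps.bwd (nat_lit 17) Steps.nil)))))) (nat_lit 65) (nat_lit 0),
  Rule.mk (nat_lit 1) (nat_lit 94) (Steps.bwd (nat_lit 3) (Steps.fwd (nat_lit 8192) (Steps.fwd (nat_lit 8192) (Steps.fwd (nat_lit 24576) (Steps.fwd (nat_lit 16384) Steps.nil))))) (nat_lit 6) (nat_lit 5),
  Rule.mk (nat_lit 9) (nat_lit 110) (Steps.bwd (nat_lit 3) (Steps.fwd (nat_lit 122880) (Steps.fwd (nat_lit 32768) (Steps.fwd (nat_lit 81920) (Steps.bwd (nat_lit 9) (Steps.fwd (nat_lit 81920) Steps.nil)))))) (nat_lit 61) (nat_lit 0),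
  Rule.mk (nat_lit 13) (nat_lit 126) (Steps.fwd (nat_lit 32768) (Steps.bwd (nat_lit 12) (Steps.fwd (nat_lit 122880) (Steps.bwd (nat_lit 17) (Steps.bwd (nat_lit 11) (Steps.bwd (nat_lit 17) (Steps.bwd (nat_lit 4) Steps.nil))))))) (nat_lit 51) (nat_lit 7),
  Rule.mk (nat_lit 9) (nat_lit 110) (Steps.fwd (nat_lit 90112) (Steps.bwd (nat_lit 15) (Steps.fwd (nat_lit 131072) (Steps.fwd (nat_lit 131072) (Steps.bwd (nat_lit 9) (Steps.bwd (nat_lit 4) Steps.nil)))))) (nat_lit 71) (nat_lit 0),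
  Rule.mk (nat_lit 4) (nat_lit 110) (Steps.bwd (nat_lit 9) (Steps.bwd (nat_lit 10) (Steps.bwd (nat_lit 9) (Steps.fwd (nat_lit 90112) (Steps.bwd (nat_lit 4) (Steps.fwd (nat_lit 114688) Steps.nil)))))) (nat_lit 60) (nat_lit 0),
  Rule.mk (nat_lit 2) (nat_lit 110) (Steps.bwd (nat_lit 14) (Steps.bwd (nat_lit 1) (Steps.bwd (nat_lit 17) (Steps.fwd (nat_lit 81920) (Steps.fwd (nat_lit 122880) (Steps.fwd (nat_lit 122880) Steps.nil)))))) (nat_lit 44) (nat_lit 1),
  Rule.mk (nat_lit 9) (nat_lit 110) (Steps.fwd (nat_lit 90112) (Steps.fwd (nat_lit 114688) (Steps.fwd (nat_lit 131072) (Steps.bwd (nat_lit 17) (Steps.bwd (nat_lit 9) (Steps.fwd (nat_lit 24576) Steps.nil)))))) (nat_lit 71) (nat_lit 0),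
  Rule.mk (nat_lit 11) (nat_lit 78) (Steps.bwd (nat_lit 13) (Steps.fwd (nat_lit 90112) (Steps.fwd (nat_lit 106496) (Steps.bwd (nat_lit 19) Steps.nil)))) (nat_lit 19) (nat_lit 1),
  Rule.mk (nat_lit 9) (nat_lit 110) (Steps.bwd (nat_lit 11) (Steps.fwd (nat_lit 73728) (Steps.fwd (nat_lit 32768) (Steps.bwd (nat_lit 14) (Steps.fwd (nat_lit 32768) (Steps.bwd (nat_lit 11) Steps.nil)))))) (nat_lit 61) (nat_lit 5),
  Rule.mk (nat_lit 9) (nat_lit 110) (Steps.bwd (nat_lit 10) (Steps.fwd (nat_lit 114688) (Steps.bwd (nat_lit 10) (Steps.bwd (nat_lit 17) (Steps.bwd (nat_lit 9) (Steps.fwd (nat_lit 147456) Steps.nil)))))) (nat_lit 67) (nat_lit 0),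
  Rule.mk (nat_lit 10) (nat_lit 94) (Steps.bwd (nat_lit 14) (Steps.fwd (nat_lit 155648) (Steps.fwd (nat_lit 155648) (Steps.fwd (nat_lit 81920) (Steps.fwd (nat_lit 114688) Steps.nil))))) (nat_lit 32) (nat_lit 3),
  Rule.mk (nat_lit 17) (nat_lit 142) (Steps.bwd (nat_lit 14) (Steps.fwd (nat_lit 106496) (Steps.bwd (nat_lit 11) (Steps.bwd (nat_lit 2) (Steps.fwd (nat_lit 139264) (Steps.fwd (nat_lit 16384) (Steps.fwd (nat_lit 131072) (Steps.bwd (nat_lit 11) Steps.nil)))))))) (nat_lit 46) (nat_lit 6),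
  Rule.mk (nat_lit 9) (nat_lit 110) (Steps.fwd (nat_lit 32768) (Steps.bwd (nat_lit 3) (Steps.fwd (nat_lit 114688) (Steps.fwd (nat_lit 139264) (Steps.bwd (nat_lit 9) (Steps.bwd (nat_lit 17) Steps.nil)))))) (nat_lit 65) (nat_lit 0),
  Rule.mk (nat_lit 9) (nat_lit 110) (Steps.bwd (nat_lit 3) (Steps.bwd (nat_lit 3) (Steps.fwd (nat_lit 114688) (Steps.fwd (nat_lit 139264) (Steps.fwd (nat_lit 73728) (Steps.bwd (nat_lit 17) Steps.nil)))))) (nat_lit 65) (nat_lit 0),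
  Rule.mk (nat_lit 15) (nat_lit 126) (Steps.fwd (nat_lit 32768) (Steps.fwd (nat_lit 90112) (Steps.fwd (nat_lit 90112) (Steps.bwd (nat_lit 16) (Steps.bwd (nat_lit 15) (Steps.fwd (nat_lit 114688) (Steps.bwd (nat_lit 4) Steps.nil))))))) (nat_lit 53) (nat_lit 7),
  Rule.mk (nat_lit 13) (nat_lit 78) (Steps.bwd (nat_lit 15) (Steps.fwd (nat_lit 106496) (Steps.fwd (nat_lit 122880) (Steps.fwd (nat_lit 155648) Steps.nil)))) (nat_lit 36) (nat_lit 1),
  Rule.mk (nat_lit 4) (nat_lit 110) (Steps.bwd (nat_lit 15) (Steps.fwd (nat_lit 24576) (Steps.fwd (nat_lit 73728) (Steps.fwd (nat_lit 90112) (Steps.fwd (nat_lit 73728) (Steps.bwd (nat_lit 10) Steps.nil)))))) (nat_lit 60) (nat_lit 5),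
  Rule.mk (nat_lit 13) (nat_lit 126) (Steps.bwd (nat_lit 3) (Steps.bwd (nat_lit 12) (Steps.fwd (nat_lit 122880) (Steps.bwd (nat_lit 17) (Steps.fwd (nat_lit 81920) (Steps.bwd (nat_lit 17) (Steps.bwd (nat_lit 4) Steps.nil))))))) (nat_lit 51) (nat_lit 7),
  Rule.mk (nat_lit 16) (nat_lit 126) (Steps.bwd (nat_lit 15) (Steps.bwd (nat_lit 15) (Steps.bwd (nat_lit 4) (Steps.bwd (nat_lit 15) (Steps.bwd (nat_lit 3) (Steps.fwd (nat_lit 90112) (Steps.fwd (nat_lit 90112) Steps.nil))))))) (nat_lit 53) (nat_lit 3),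
  Rule.mk (nat_lit 2) (nat_lit 142) (Steps.bwd (nat_lit 17) (Steps.fwd (nat_lit 16384) (Steps.bwd (nat_lit 10) (Steps.bwd (nat_lit 13) (Steps.bwd (nat_lit 15) (Steps.bwd (nat_lit 16) (Steps.fwd (nat_lit 90112) (Steps.bwd (nat_lit 16) Steps.nil)))))))) (nat_lit 47) (nat_lit 7),
  Rule.mk (nat_lit 0) (nat_lit 174) (Steps.bwd (nat_lit 9) (Steps.bwd (nat_lit 1) (Steps.bwd (nat_lit 16) (Steps.bwd (nat_lit 10) (Steps.bwd (nat_lit 13) (Steps.bwd (nat_lit 2) (Steps.fwd (nat_lit 24576) (Steps.fwd (nat_lit 24576) (Steps.bwd (nat_lit 9) (Steps.fwd (nat_lit 122880) Steps.nil)))))))))) (nat_lit 62) (nat_lit 2),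
  Rule.mk (nat_lit 1) (nat_lit 126) (Steps.bwd (nat_lit 3) (Steps.fwd (nat_lit 16384) (Steps.bwd (nat_lit 3) (Steps.bwd (nat_lit 1) (Steps.fwd (nat_lit 32768) (Steps.fwd (nat_lit 16384) (Steps.fwd (nat_lit 32768) Steps.nil))))))) (nat_lit 4) (nat_lit 1)]
noncomputable def R_33 : List (Rule) := [Rule.mk (nat_lit 15) (nat_lit 110) (Steps.bwd (nat_lit 4) (Steps.bwd (nat_lit 9) (Steps.bwd (nat_lit 10) (Steps.fwd (nat_lit 73728) (Steps.bwd (nat_lit 10) (Steps.bwd (nat_lit 4) Steps.nil)))))) (nat_lit 60) (nat_lit 6),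
  Rule.mk (nat_lit 12) (nat_lit 126) (Steps.bwd (nat_lit 3) (Steps.bwd (nat_lit 16) (Steps.fwd (nat_lit 90112) (Steps.bwd (nat_lit 16) (Steps.bwd (nat_lit 15) (Steps.fwd (nat_lit 98304) (Steps.bwd (nat_lit 4) Steps.nil))))))) (nat_lit 50) (nat_lit 2),
  Rule.mk (nat_lit 13) (nat_lit 126) (Steps.fwd (nat_lit 32768) (Steps.fwd (nat_lit 106496) (Steps.bwd (nat_lit 14) (Steps.bwd (nat_lit 17) (Steps.bwd (nat_lit 11) (Steps.bwd (nat_lit 17) (Steps.bwd (nat_lit 4) Steps.nil))))))) (nat_lit 51) (nat_lit 7),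
  Rule.mk (nat_lit 10) (nat_lit 110) (Steps.bwd (nat_lit 15) (Steps.fwd (nat_lit 131072) (Steps.fwd (nat_lit 131072) (Steps.bwd (nat_lit 9) (Steps.fwd (nat_lit 24576) (Steps.fwd (nat_lit 73728) Steps.nil)))))) (nat_lit 71) (nat_lit 1),
  Rule.mk (nat_lit 9) (nat_lit 286) (Steps.bwd (nat_lit 4) (Steps.fwd (nat_lit 24576) (Steps.bwd (nat_lit 2) (Steps.bwd (nat_lit 11) (Steps.fwd (nat_lit 16384) (Steps.bwd (nat_lit 10) (Steps.fwd (nat_lit 8192) (Steps.fwd (nat_lit 90112) (Steps.bwd (nat_lit 1) (Steps.fwd (nat_lit 65536) (Steps.bwd (nat_lit 10) (Steps.bwd (nat_lit 3) (Steps.fwd (nat_lit 16384) (Steps.fwd (nat_lit 24576) (Steps.fwd (nat_lit 65536) (Steps.fwd (nat_lit 90112) (Steps.bwd (nat_lit 7) Steps.nil))))))))))))))))) (nat_lit 57) (nat_lit 0),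
  Rule.mk (nat_lit 2) (nat_lit 94) (Steps.bwd (nat_lit 3) (Steps.bwd (nat_lit 1) (Steps.bwd (nat_lit 1) (Steps.fwd (nat_lit 24576) (Steps.bwd (nat_lit 2) Steps.nil))))) (nat_lit 7) (nat_lit 3),
  Rule.mk (nat_lit 4) (nat_lit 126) (Steps.bwd (nat_lit 2) (Steps.fwd (nat_lit 24576) (Steps.fwd (nat_lit 8192) (Steps.fwd (nat_lit 24576) (Steps.fwd (nat_lit 8192) (Steps.bwd (nat_lit 4) (Steps.bwd (nat_lit 2) Steps.nil))))))) (nat_lit 5) (nat_lit 1),
  Rule.mk (nat_lit 3) (nat_lit 190) (Steps.bwd (nat_lit 2) (Steps.fwd (nat_lit 24576) (Steps.bwd (nat_lit 1) (Steps.bwd (nat_lit 3) (Steps.fwd (nat_lit 8192) (Steps.fwd (nat_lit 24576) (Steps.bwd (nat_lit 1) (Steps.fwd (nat_lit 32768) (Steps.bwd (nat_lit 2) (Steps.fwd (nat_lit 24576) (Steps.fwd (nat_lit 16384) Steps.nil))))))))))) (nat_lit 8) (nat_lit 0),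
  Rule.mk (nat_lit 9) (nat_lit 286) (Steps.fwd (nat_lit 57344) (Steps.fwd (nat_lit 81920) (Steps.bwd (nat_lit 8) (Steps.fwd (nat_lit 32768) (Steps.bwd (nat_lit 2) (Steps.bwd (nat_lit 4) (Steps.bwd (nat_lit 11) (Steps.fwd (nat_lit 57344) (Steps.fwd (nat_lit 8192) (Steps.bwd (nat_lit 11) (Steps.fwd (nat_lit 16384) (Steps.fwd (nat_lit 81920) (Steps.bwd (nat_lit 2) (Steps.fwd (nat_lit 90112) (Steps.bwd (nat_lit 1) (Steps.fwd (nat_lit 32768) (Steps.bwd (nat_lit 3) Steps.nil))))))))))))))))) (nat_lit 56) (nat_lit 1),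
  Rule.mk (nat_lit 18) (nat_lit 110) (Steps.bwd (nat_lit 9) (Steps.fwd (nat_lit 139264) (Steps.bwd (nat_lit 11) (Steps.fwd (nat_lit 122880) (Steps.fwd (nat_lit 81920) (Steps.fwd (nat_lit 73728) Steps.nil)))))) (nat_lit 66) (nat_lit 2),
  Rule.mk (nat_lit 11) (nat_lit 110) (Steps.bwd (nat_lit 9) (Steps.bwd (nat_lit 3) (Steps.bwd (nat_lit 9) (Steps.fwd (nat_lit 139264) (Steps.fwd (nat_lit 139264) (Steps.bwd (nat_lit 14) Steps.nil)))))) (nat_lit 70) (nat_lit 0),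
  Rule.mk (nat_lit 1) (nat_lit 206) (Steps.bwd (nat_lit 9) (Steps.fwd (nat_lit 139264) (Steps.fwd (nat_lit 147456) (Steps.fwd (nat_lit 81920) (Steps.bwd (nat_lit 2) (Steps.fwd (nat_lit 32768) (Steps.fwd (nat_lit 8192) (Steps.fwd (nat_lit 24576) (Steps.bwd (nat_lit 4) (Steps.bwd (nat_lit 2) (Steps.bwd (nat_lit 9) (Steps.bwd (nat_lit 1) Steps.nil)))))))))))) (nat_lit 68) (nat_lit 3),
  Rule.mk (nat_lit 14) (nat_lit 78) (Steps.bwd (nat_lit 18) (Steps.fwd (nat_lit 98304) (Steps.bwd (nat_lit 15) (Steps.bwd (nat_lit 12) Steps.nil)))) (nat_lit 36) (nat_lit 4),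
  Rule.mk (nat_lit 14) (nat_lit 110) (Steps.fwd (nat_lit 8192) (Steps.fwd (nat_lit 122880) (Steps.bwd (nat_lit 1) (Steps.bwd (nat_lit 17) (Steps.fwd (nat_lit 81920) (Steps.bwd (nat_lit 14) Steps.nil)))))) (nat_lit 44) (nat_lit 0),
  Rule.mk (nat_lit 16) (nat_lit 126) (Steps.bwd (nat_lit 15) (Steps.bwd (nat_lit 13) (Steps.bwd (nat_lit 4) (Steps.fwd (nat_lit 106496) (Steps.fwd (nat_lit 32768) (Steps.fwd (nat_lit 139264) (Steps.bwd (nat_lit 10) Steps.nil))))))) (nat_lit 50) (nat_lit 6),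
  Rule.mk (nat_lit 14) (nat_lit 110) (Steps.bwd (nat_lit 14) (Steps.fwd (nat_lit 8192) (Steps.fwd (nat_lit 122880) (Steps.bwd (nat_lit 1) (Steps.fwd (nat_lit 131072) (Steps.bwd (nat_lit 11) Steps.nil)))))) (nat_lit 44) (nat_lit 6),
  Rule.mk (nat_lit 1) (nat_lit 78) (Steps.bwd (nat_lit 18) (Steps.bwd (nat_lit 18) (Steps.bwd (nat_lit 2) (Steps.fwd (nat_lit 147456) Steps.nil)))) (nat_lit 49) (nat_lit 0),
  Rule.mk (nat_lit 2) (nat_lit 94) (Steps.bwd (nat_lit 4) (Steps.fwd (nat_lit 16384) (Steps.fwd (nat_lit 16384) (Steps.bwd (nat_lit 3) (Steps.bwd (nat_lit 2) Steps.nil))))) (nat_lit 6) (nat_lit 2),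
  Rule.mk (nat_lit 14) (nat_lit 110) (Steps.bwd (nat_lit 4) (Steps.bwd (nat_lit 4) (Steps.bwd (nat_lit 9) (Steps.fwd (nat_lit 139264) (Steps.bwd (nat_lit 9) (Steps.fwd (nat_lit 131072) Steps.nil)))))) (nat_lit 64) (nat_lit 5),
  Rule.mk (nat_lit 11) (nat_lit 126) (Steps.bwd (nat_lit 4) (Steps.bwd (nat_lit 14) (Steps.bwd (nat_lit 3) (Steps.fwd (nat_lit 122880) (Steps.fwd (nat_lit 122880) (Steps.fwd (nat_lit 131072) (Steps.bwd (nat_lit 11) Steps.nil))))))) (nat_lit 52) (nat_lit 0),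
  Rule.mk (nat_lit 18) (nat_lit 78) (Steps.bwd (nat_lit 2) (Steps.fwd (nat_lit 147456) (Steps.bwd (nat_lit 1) (Steps.bwd (nat_lit 18) Steps.nil)))) (nat_lit 49) (nat_lit 2),
  Rule.mk (nat_lit 3) (nat_lit 78) (Steps.bwd (nat_lit 3) (Steps.bwd (nat_lit 3) (Steps.bwd (nat_lit 3) (Steps.bwd (nat_lit 3) Steps.nil)))) (nat_lit 2) (nat_lit 0),
  Rule.mk (nat_lit 9) (nat_lit 206) (Steps.bwd (nat_lit 1) (Steps.bwd (nat_lit 1) (Steps.fwd (nat_lit 73728) (Steps.fwd (nat_lit 139264) (Steps.bwd (nat_lit 19) (Steps.bwd (nat_lit 11) (Steps.bwd (nat_lit 2) (Steps.bwd (nat_lit 3) (Steps.bwd (nat_lit 2) (Steps.fwd (nat_lit 24576) (Steps.bwd (nat_lit 4) (Steps.bwd (nat_lit 2) Steps.nil)))))))))))) (nat_lit 68) (nat_lit 1),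
  Rule.mk (nat_lit 11) (nat_lit 110) (Steps.bwd (nat_lit 9) (Steps.bwd (nat_lit 3) (Steps.fwd (nat_lit 122880) (Steps.bwd (nat_lit 3) (Steps.fwd (nat_lit 81920) (Steps.fwd (nat_lit 73728) Steps.nil)))))) (nat_lit 61) (nat_lit 6),
  Rule.mk (nat_lit 17) (nat_lit 110) (Steps.bwd (nat_lit 9) (Steps.fwd (nat_lit 24576) (Steps.bwd (nat_lit 9) (Steps.bwd (nat_lit 10) (Steps.fwd (nat_lit 114688) (Steps.fwd (nat_lit 131072) Steps.nil)))))) (nat_lit 71) (nat_lit 4),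
  Rule.mk (nat_lit 14) (nat_lit 158) (Steps.bwd (nat_lit 9) (Steps.fwd (nat_lit 16384) (Steps.bwd (nat_lit 16) (Steps.bwd (nat_lit 10) (Steps.bwd (nat_lit 13) (Steps.bwd (nat_lit 2) (Steps.fwd (nat_lit 24576) (Steps.fwd (nat_lit 24576) (Steps.bwd (nat_lit 9) Steps.nil))))))))) (nat_lit 62) (nat_lit 2),
  Rule.mk (nat_lit 2) (nat_lit 110) (Steps.bwd (nat_lit 14) (Steps.fwd (nat_lit 16384) (Steps.fwd (nat_lit 131072) (Steps.fwd (nat_lit 81920) (Steps.fwd (nat_lit 122880) (Steps.bwd (nat_lit 14) Steps.nil)))))) (nat_lit 44) (nat_lit 1),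
  Rule.mk (nat_lit 4) (nat_lit 110) (Steps.bwd (nat_lit 15) (Steps.fwd (nat_lit 24576) (Steps.bwd (nat_lit 9) (Steps.bwd (nat_lit 10) (Steps.bwd (nat_lit 9) (Steps.bwd (nat_lit 10) Steps.nil)))))) (nat_lit 60) (nat_lit 5),
  Rule.mk (nat_lit 13) (nat_lit 126) (Steps.fwd (nat_lit 32768) (Steps.fwd (nat_lit 106496) (Steps.fwd (nat_lit 122880) (Steps.bwd (nat_lit 17) (Steps.fwd (nat_lit 81920) (Steps.fwd (nat_lit 131072) (Steps.bwd (nat_lit 4) Steps.nil))))))) (nat_lit 51) (nat_lit 7),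
  Rule.mk (nat_lit 11) (nat_lit 94) (Steps.bwd (nat_lit 15) (Steps.fwd (nat_lit 90112) (Steps.fwd (nat_lit 122880) (Steps.bwd (nat_lit 18) (Steps.fwd (nat_lit 155648) Steps.nil))))) (nat_lit 32) (nat_lit 1),
  Rule.mk (nat_lit 16) (nat_lit 78) (Steps.fwd (nat_lit 122880) (Steps.bwd (nat_lit 19) (Steps.fwd (nat_lit 131072) (Steps.bwd (nat_lit 15) Steps.nil)))) (nat_lit 41) (nat_lit 4),
  Rule.mk (nat_lit 9) (nat_lit 110) (Steps.bwd (nat_lit 16) (Steps.bwd (nat_lit 11) (Steps.bwd (nat_lit 14) (Steps.fwd (nat_lit 81920) (Steps.fwd (nat_lit 73728) (Steps.fwd (nat_lit 155648) Steps.nil)))))) (nat_lit 66) (nat_lit 3),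
  Rule.mk (nat_lit 1) (nat_lit 158) (Steps.fwd (nat_lit 139264) (Steps.fwd (nat_lit 90112) (Steps.fwd (nat_lit 98304) (Steps.bwd (nat_lit 2) (Steps.bwd (nat_lit 4) (Steps.fwd (nat_lit 24576) (Steps.bwd (nat_lit 9) (Steps.fwd (nat_lit 122880) (Steps.bwd (nat_lit 9) Steps.nil))))))))) (nat_lit 62) (nat_lit 4),
  Rule.mk (nat_lit 13) (nat_lit 78) (Steps.bwd (nat_lit 10) (Steps.bwd (nat_lit 12) (Steps.bwd (nat_lit 19) (Steps.fwd (nat_lit 81920) Steps.nil)))) (nat_lit 19) (nat_lit 2),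
  Rule.mk (nat_lit 9) (nat_lit 110) (Steps.fwd (nat_lit 147456) (Steps.fwd (nat_lit 73728) (Steps.fwd (nat_lit 90112) (Steps.bwd (nat_lit 15) (Steps.bwd (nat_lit 10) (Steps.bwd (nat_lit 17) Steps.nil)))))) (nat_lit 67) (nat_lit 5),
  Rule.mk (nat_lit 2) (nat_lit 158) (Steps.bwd (nat_lit 9) (Steps.bwd (nat_lit 15) (Steps.fwd (nat_lit 73728) (Steps.bwd (nat_lit 3) (Steps.fwd (nat_lit 32768) (Steps.bwd (nat_lit 1) (Steps.fwd (nat_lit 106496) (Steps.bwd (nat_lit 11) (Steps.bwd (nat_lit 17) Steps.nil))))))))) (nat_lit 63) (nat_lit 7),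
  Rule.mk (nat_lit 15) (nat_lit 94) (Steps.fwd (nat_lit 90112) (Steps.fwd (nat_lit 122880) (Steps.bwd (nat_lit 18) (Steps.bwd (nat_lit 18) (Steps.bwd (nat_lit 11) Steps.nil))))) (nat_lit 32) (nat_lit 2),
  Rule.mk (nat_lit 15) (nat_lit 126) (Steps.bwd (nat_lit 15) (Steps.bwd (nat_lit 4) (Steps.bwd (nat_lit 15) (Steps.bwd (nat_lit 3) (Steps.fwd (nat_lit 90112) (Steps.bwd (nat_lit 10) (Steps.bwd (nat_lit 16) Steps.nil))))))) (nat_lit 53) (nat_lit 4),
  Rule.mk (nat_lit 16) (nat_lit 126) (Steps.bwd (nat_lit 15) (Steps.bwd (nat_lit 15) (Steps.bwd (nat_lit 4) (Steps.bwd (nat_lit 15) (Steps.bwd (nat_lit 3) (Steps.bwd (nat_lit 10) (Steps.fwd (nat_lit 90112) Steps.nil))))))) (nat_lit 53) (nat_lit 3),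
  Rule.mk (nat_lit 9) (nat_lit 110) (Steps.fwd (nat_lit 131072) (Steps.fwd (nat_lit 73728) (Steps.bwd (nat_lit 3) (Steps.fwd (nat_lit 32768) (Steps.bwd (nat_lit 15) (Steps.bwd (nat_lit 16) Steps.nil)))))) (nat_lit 65) (nat_lit 5),
  Rule.mk (nat_lit 10) (nat_lit 126) (Steps.fwd (nat_lit 139264) (Steps.bwd (nat_lit 15) (Steps.fwd (nat_lit 98304) (Steps.bwd (nat_lit 4) (Steps.fwd (nat_lit 106496) (Steps.fwd (nat_lit 32768) (Steps.bwd (nat_lit 16) Steps.nil))))))) (nat_lit 50) (nat_lit 5),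
  Rule.mk (nat_lit 9) (nat_lit 110) (Steps.bwd (nat_lit 19) (Steps.fwd (nat_lit 73728) (Steps.bwd (nat_lit 10) (Steps.bwd (nat_lit 15) (Steps.bwd (nat_lit 10) (Steps.fwd (nat_lit 131072) Steps.nil)))))) (nat_lit 67) (nat_lit 5),
  Rule.mk (nat_lit 1) (nat_lit 94) (Steps.bwd (nat_lit 3) (Steps.bwd (nat_lit 2) (Steps.fwd (nat_lit 8192) (Steps.fwd (nat_lit 24576) (Steps.bwd (nat_lit 1) Steps.nil))))) (nat_lit 6) (nat_lit 5),
  Rule.mk (nat_lit 9) (nat_lit 110) (Steps.fwd (nat_lit 139264) (Steps.bwd (nat_lit 11) (Steps.fwd (nat_lit 122880) (Steps.fwd (nat_lit 81920) (Steps.bwd (nat_lit 9) (Steps.bwd (nat_lit 18) Steps.nil)))))) (nat_lit 66) (nat_lit 3),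
  Rule.mk (nat_lit 9) (nat_lit 206) (Steps.bwd (nat_lit 2) (Steps.bwd (nat_lit 3) (Steps.fwd (nat_lit 8192) (Steps.fwd (nat_lit 24576) (Steps.fwd (nat_lit 24576) (Steps.bwd (nat_lit 2) (Steps.fwd (nat_lit 73728) (Steps.bwd (nat_lit 1) (Steps.bwd (nat_lit 1) (Steps.fwd (nat_lit 90112) (Steps.fwd (nat_lit 155648) (Steps.fwd (nat_lit 131072) Steps.nil)))))))))))) (nat_lit 73) (nat_lit 6),
  Rule.mk (nat_lit 4) (nat_lit 270) (Steps.bwd (nat_lit 2) (Steps.fwd (nat_lit 65536) (Steps.fwd (nat_lit 73728) (Steps.bwd (nat_lit 4) (Steps.bwd (nat_lit 12) (Steps.fwd (nat_lit 8192) (Steps.bwd (nat_lit 9) (Steps.bwd (nat_lit 2) (Steps.fwd (nat_lit 73728) (Steps.bwd (nat_lit 2) (Steps.bwd (nat_lit 18) (Steps.fwd (nat_lit 139264) (Steps.fwd (nat_lit 90112) (Steps.bwd (nat_lit 3) (Steps.fwd (nat_lit 16384) (Steps.bwd (nat_lit 4) Steps.nil)))))))))))))))) (nat_lit 76) (nat_lit 16),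
  Rule.mk (nat_lit 3) (nat_lit 190) (Steps.bwd (nat_lit 2) (Steps.fwd (nat_lit 24576) (Steps.fwd (nat_lit 16384) (Steps.bwd (nat_lit 3) (Steps.bwd (nat_lit 2) (Steps.bwd (nat_lit 4) (Steps.bwd (nat_lit 1) (Steps.fwd (nat_lit 32768) (Steps.bwd (nat_lit 2) (Steps.bwd (nat_lit 4) (Steps.fwd (nat_lit 16384) Steps.nil))))))))))) (nat_lit 8) (nat_lit 0),
  Rule.mk (nat_lit 9) (nat_lit 206) (Steps.fwd (nat_lit 16384) (Steps.bwd (nat_lit 3) (Steps.bwd (nat_lit 3) (Steps.bwd (nat_lit 1) (Steps.bwd (nat_lit 4) (Steps.fwd (nat_lit 16384) (Steps.fwd (nat_lit 90112) (Steps.fwd (nat_lit 155648) (Steps.bwd (nat_lit 17) (Steps.bwd (nat_lit 9) (Steps.bwd (nat_lit 2) (Steps.bwd (nat_lit 2) Steps.nil)))))))))))) (nat_lit 69) (nat_lit 0),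
  Rule.mk (nat_lit 19) (nat_lit 78) (Steps.bwd (nat_lit 19) (Steps.fwd (nat_lit 147456) (Steps.bwd (nat_lit 19) (Steps.fwd (nat_lit 147456) Steps.nil)))) (nat_lit 23) (nat_lit 0),
  Rule.mk (nat_lit 1) (nat_lit 78) (Steps.bwd (nat_lit 19) (Steps.fwd (nat_lit 147456) (Steps.fwd (nat_lit 8192) (Steps.fwd (nat_lit 155648) Steps.nil)))) (nat_lit 48) (nat_lit 3),
  Rule.mk (nat_lit 9) (nat_lit 110) (Steps.bwd (nat_lit 17) (Steps.fwd (nat_lit 122880) (Steps.fwd (nat_lit 24576) (Steps.fwd (nat_lit 24576) (Steps.fwd (nat_lit 73728) (Steps.fwd (nat_lit 139264) Steps.nil)))))) (nat_lit 64) (nat_lit 3),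
  Rule.mk (nat_lit 11) (nat_lit 158) (Steps.bwd (nat_lit 17) (Steps.fwd (nat_lit 8192) (Steps.bwd (nat_lit 9) (Steps.bwd (nat_lit 15) (Steps.fwd (nat_lit 73728) (Steps.bwd (nat_lit 3) (Steps.bwd (nat_lit 3) (Steps.bwd (nat_lit 1) (Steps.bwd (nat_lit 12) Steps.nil))))))))) (nat_lit 63) (nat_lit 5),
  Rule.mk (nat_lit 15) (nat_lit 94) (Steps.fwd (nat_lit 90112) (Steps.fwd (nat_lit 122880) (Steps.fwd (nat_lit 155648) (Steps.fwd (nat_lit 155648) (Steps.bwd (nat_lit 11) Steps.nil))))) (nat_lit 32) (nat_lit 2),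
  Rule.mk (nat_lit 4) (nat_lit 126) (Steps.fwd (nat_lit 122880) (Steps.fwd (nat_lit 32768) (Steps.bwd (nat_lit 14) (Steps.fwd (nat_lit 122880) (Steps.fwd (nat_lit 131072) (Steps.fwd (nat_lit 81920) (Steps.bwd (nat_lit 11) Steps.nil))))))) (nat_lit 52) (nat_lit 1),
  Rule.mk (nat_lit 15) (nat_lit 110) (Steps.bwd (nat_lit 15) (Steps.fwd (nat_lit 90112) (Steps.fwd (nat_lit 139264) (Steps.bwd (nat_lit 2) (Steps.fwd (nat_lit 114688) (Steps.bwd (nat_lit 1) Steps.nil)))))) (nat_lit 45) (nat_lit 1),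
  Rule.mk (nat_lit 10) (nat_lit 110) (Steps.bwd (nat_lit 15) (Steps.fwd (nat_lit 90112) (Steps.bwd (nat_lit 17) (Steps.bwd (nat_lit 9) (Steps.bwd (nat_lit 19) (Steps.fwd (nat_lit 73728) Steps.nil)))))) (nat_lit 67) (nat_lit 1),
  Rule.mk (nat_lit 15) (nat_lit 94) (Steps.bwd (nat_lit 10) (Steps.bwd (nat_lit 14) (Steps.fwd (nat_lit 155648) (Steps.bwd (nat_lit 18) (Steps.bwd (nat_lit 11) Steps.nil))))) (nat_lit 32) (nat_lit 2),
  Rule.mk (nat_lit 10) (nat_lit 126) (Steps.bwd (nat_lit 10) (Steps.bwd (nat_lit 16) (Steps.fwd (nat_lit 114688) (Steps.bwd (nat_lit 15) (Steps.fwd (nat_lit 24576) (Steps.bwd (nat_lit 15) (Steps.bwd (nat_lit 3) Steps.nil))))))) (nat_lit 53) (nat_lit 1),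
  Rule.mk (nat_lit 16) (nat_lit 142) (Steps.bwd (nat_lit 10) (Steps.bwd (nat_lit 16) (Steps.fwd (nat_lit 8192) (Steps.fwd (nat_lit 131072) (Steps.bwd (nat_lit 1) (Steps.fwd (nat_lit 90112) (Steps.fwd (nat_lit 98304) (Steps.bwd (nat_lit 15) Steps.nil)))))))) (nat_lit 47) (nat_lit 4),
  Rule.mk (nat_lit 18) (nat_lit 62) (Steps.fwd (nat_lit 131072) (Steps.fwd (nat_lit 147456) (Steps.bwd (nat_lit 16) Steps.nil))) (nat_lit 30) (nat_lit 0),
  Rule.mk (nat_lit 2) (nat_lit 110) (Steps.bwd (nat_lit 15) (Steps.bwd (nat_lit 1) (Steps.bwd (nat_lit 15) (Steps.bwd (nat_lit 15) (Steps.fwd (nat_lit 90112) (Steps.bwd (nat_lit 16) Steps.nil)))))) (nat_lit 45) (nat_lit 5),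
  Rule.mk (nat_lit 2) (nat_lit 94) (Steps.bwd (nat_lit 2) (Steps.fwd (nat_lit 24576) (Steps.bwd (nat_lit 1) (Steps.fwd (nat_lit 16384) (Steps.fwd (nat_lit 32768) Steps.nil))))) (nat_lit 6) (nat_lit 1),
  Rule.mk (nat_lit 17) (nat_lit 142) (Steps.bwd (nat_lit 1) (Steps.fwd (nat_lit 90112) (Steps.bwd (nat_lit 13) (Steps.bwd (nat_lit 15) (Steps.bwd (nat_lit 16) (Steps.fwd (nat_lit 90112) (Steps.bwd (nat_lit 16) (Steps.bwd (nat_lit 2) Steps.nil)))))))) (nat_lit 47) (nat_lit 8),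
  Rule.mk (nat_lit 16) (nat_lit 62) (Steps.fwd (nat_lit 98304) (Steps.bwd (nat_lit 17) (Steps.bwd (nat_lit 12) Steps.nil))) (nat_lit 38) (nat_lit 0)]
noncomputable def R_34 : List (Rule) := [Rule.mk (nat_lit 18) (nat_lit 78) (Steps.bwd (nat_lit 13) (Steps.bwd (nat_lit 15) (Steps.fwd (nat_lit 106496) (Steps.bwd (nat_lit 14) Steps.nil)))) (nat_lit 36) (nat_lit 0),
  Rule.mk (nat_lit 10) (nat_lit 158) (Steps.bwd (nat_lit 13) (Steps.bwd (nat_lit 2) (Steps.bwd (nat_lit 4) (Steps.bwd (nat_lit 4) (Steps.bwd (nat_lit 9) (Steps.fwd (nat_lit 122880) (Steps.bwd (nat_lit 9) (Steps.fwd (nat_lit 16384) (Steps.bwd (nat_lit 16) Steps.nil))))))))) (nat_lit 62) (nat_lit 6),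
  Rule.mk (nat_lit 7) (nat_lit 94) (Steps.bwd (nat_lit 2) (Steps.fwd (nat_lit 8192) (Steps.fwd (nat_lit 8192) (Steps.fwd (nat_lit 57344) (Steps.fwd (nat_lit 16384) Steps.nil))))) (nat_lit 82) (nat_lit 3),
  Rule.mk (nat_lit 4) (nat_lit 62) (Steps.fwd (nat_lit 57344) (Steps.fwd (nat_lit 32768) (Steps.bwd (nat_lit 7) Steps.nil))) (nat_lit 80) (nat_lit 1),
  Rule.mk (nat_lit 14) (nat_lit 126) (Steps.bwd (nat_lit 3) (Steps.bwd (nat_lit 14) (Steps.fwd (nat_lit 122880) (Steps.bwd (nat_lit 17) (Steps.bwd (nat_lit 11) (Steps.fwd (nat_lit 81920) (Steps.fwd (nat_lit 24576) Steps.nil))))))) (nat_lit 52) (nat_lit 2),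
  Rule.mk (nat_lit 11) (nat_lit 286) (Steps.bwd (nat_lit 1) (Steps.fwd (nat_lit 90112) (Steps.fwd (nat_lit 8192) (Steps.bwd (nat_lit 10) (Steps.fwd (nat_lit 16384) (Steps.fwd (nat_lit 65536) (Steps.bwd (nat_lit 10) (Steps.fwd (nat_lit 32768) (Steps.bwd (nat_lit 1) (Steps.bwd (nat_lit 4) (Steps.fwd (nat_lit 65536) (Steps.bwd (nat_lit 10) (Steps.bwd (nat_lit 7) (Steps.fwd (nat_lit 73728) (Steps.bwd (nat_lit 4) (Steps.bwd (nat_lit 4) (Steps.bwd (nat_lit 2) Steps.nil))))))))))))))))) (nat_lit 57) (nat_lit 4),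
  Rule.mk (nat_lit 2) (nat_lit 94) (Steps.bwd (nat_lit 3) (Steps.bwd (nat_lit 1) (Steps.bwd (nat_lit 1) (Steps.bwd (nat_lit 4) (Steps.bwd (nat_lit 2) Steps.nil))))) (nat_lit 7) (nat_lit 3),
  Rule.mk (nat_lit 1) (nat_lit 126) (Steps.bwd (nat_lit 3) (Steps.bwd (nat_lit 1) (Steps.bwd (nat_lit 3) (Steps.bwd (nat_lit 1) (Steps.bwd (nat_lit 3) (Steps.fwd (nat_lit 16384) (Steps.bwd (nat_lit 3) Steps.nil))))))) (nat_lit 4) (nat_lit 1),
  Rule.mk (nat_lit 8) (nat_lit 94) (Steps.bwd (nat_lit 1) (Steps.fwd (nat_lit 65536) (Steps.bwd (nat_lit 2) (Steps.bwd (nat_lit 2) (Steps.fwd (nat_lit 8192) Steps.nil))))) (nat_lit 82) (nat_lit 1),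
  Rule.mk (nat_lit 7) (nat_lit 94) (Steps.bwd (nat_lit 1) (Steps.fwd (nat_lit 16384) (Steps.fwd (nat_lit 16384) (Steps.fwd (nat_lit 57344) (Steps.fwd (nat_lit 8192) Steps.nil))))) (nat_lit 83) (nat_lit 0),
  Rule.mk (nat_lit 16) (nat_lit 126) (Steps.bwd (nat_lit 15) (Steps.bwd (nat_lit 13) (Steps.fwd (nat_lit 24576) (Steps.bwd (nat_lit 12) (Steps.fwd (nat_lit 32768) (Steps.bwd (nat_lit 16) (Steps.bwd (nat_lit 10) Steps.nil))))))) (nat_lit 50) (nat_lit 6),
  Rule.mk (nat_lit 13) (nat_lit 62) (Steps.fwd (nat_lit 131072) (Steps.fwd (nat_lit 106496) (Steps.bwd (nat_lit 16) Steps.nil))) (nat_lit 38) (nat_lit 1),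
  Rule.mk (nat_lit 8) (nat_lit 126) (Steps.bwd (nat_lit 18) (Steps.fwd (nat_lit 57344) (Steps.fwd (nat_lit 147456) (Steps.bwd (nat_lit 8) (Steps.fwd (nat_lit 16384) (Steps.bwd (nat_lit 1) (Steps.bwd (nat_lit 19) Steps.nil))))))) (nat_lit 87) (nat_lit 4),
  Rule.mk (nat_lit 7) (nat_lit 158) (Steps.bwd (nat_lit 18) (Steps.fwd (nat_lit 65536) (Steps.fwd (nat_lit 155648) (Steps.bwd (nat_lit 7) (Steps.bwd (nat_lit 18) (Steps.bwd (nat_lit 7) (Steps.fwd (nat_lit 155648) (Steps.bwd (nat_lit 7) (Steps.fwd (nat_lit 155648) Steps.nil))))))))) (nat_lit 84) (nat_lit 1),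
  Rule.mk (nat_lit 18) (nat_lit 126) (Steps.bwd (nat_lit 7) (Steps.fwd (nat_lit 147456) (Steps.fwd (nat_lit 65536) (Steps.fwd (nat_lit 155648) (Steps.bwd (nat_lit 2) (Steps.bwd (nat_lit 2) (Steps.fwd (nat_lit 65536) Steps.nil))))))) (nat_lit 86) (nat_lit 2),
  Rule.mk (nat_lit 3) (nat_lit 126) (Steps.bwd (nat_lit 1) (Steps.bwd (nat_lit 3) (Steps.fwd (nat_lit 16384) (Steps.bwd (nat_lit 3) (Steps.fwd (nat_lit 16384) (Steps.fwd (nat_lit 32768) (Steps.bwd (nat_lit 1) Steps.nil))))))) (nat_lit 4) (nat_lit 0),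
  Rule.mk (nat_lit 9) (nat_lit 110) (Steps.fwd (nat_lit 90112) (Steps.bwd (nat_lit 15) (Steps.bwd (nat_lit 17) (Steps.fwd (nat_lit 131072) (Steps.fwd (nat_lit 73728) (Steps.bwd (nat_lit 4) Steps.nil)))))) (nat_lit 71) (nat_lit 0),
  Rule.mk (nat_lit 12) (nat_lit 126) (Steps.fwd (nat_lit 32768) (Steps.bwd (nat_lit 16) (Steps.fwd (nat_lit 90112) (Steps.fwd (nat_lit 139264) (Steps.bwd (nat_lit 15) (Steps.bwd (nat_lit 13) (Steps.bwd (nat_lit 4) Steps.nil))))))) (nat_lit 50) (nat_lit 2),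
  Rule.mk (nat_lit 13) (nat_lit 126) (Steps.bwd (nat_lit 3) (Steps.bwd (nat_lit 12) (Steps.bwd (nat_lit 14) (Steps.fwd (nat_lit 131072) (Steps.fwd (nat_lit 81920) (Steps.bwd (nat_lit 17) (Steps.bwd (nat_lit 4) Steps.nil))))))) (nat_lit 51) (nat_lit 7),
  Rule.mk (nat_lit 9) (nat_lit 110) (Steps.fwd (nat_lit 155648) (Steps.bwd (nat_lit 9) (Steps.bwd (nat_lit 16) (Steps.bwd (nat_lit 11) (Steps.bwd (nat_lit 14) (Steps.bwd (nat_lit 11) Steps.nil)))))) (nat_lit 66) (nat_lit 1),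
  Rule.mk (nat_lit 9) (nat_lit 110) (Steps.fwd (nat_lit 90112) (Steps.bwd (nat_lit 15) (Steps.fwd (nat_lit 131072) (Steps.bwd (nat_lit 17) (Steps.bwd (nat_lit 9) (Steps.fwd (nat_lit 24576) Steps.nil)))))) (nat_lit 71) (nat_lit 0),
  Rule.mk (nat_lit 9) (nat_lit 190) (Steps.bwd (nat_lit 12) (Steps.bwd (nat_lit 9) (Steps.bwd (nat_lit 13) (Steps.fwd (nat_lit 73728) (Steps.fwd (nat_lit 8192) (Steps.bwd (nat_lit 2) (Steps.bwd (nat_lit 2) (Steps.fwd (nat_lit 114688) (Steps.fwd (nat_lit 8192) (Steps.fwd (nat_lit 139264) (Steps.fwd (nat_lit 98304) Steps.nil))))))))))) (nat_lit 75) (nat_lit 8),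
  Rule.mk (nat_lit 11) (nat_lit 110) (Steps.fwd (nat_lit 73728) (Steps.fwd (nat_lit 81920) (Steps.bwd (nat_lit 9) (Steps.bwd (nat_lit 3) (Steps.fwd (nat_lit 122880) (Steps.bwd (nat_lit 3) Steps.nil)))))) (nat_lit 61) (nat_lit 4),
  Rule.mk (nat_lit 11) (nat_lit 110) (Steps.bwd (nat_lit 9) (Steps.fwd (nat_lit 155648) (Steps.bwd (nat_lit 9) (Steps.fwd (nat_lit 139264) (Steps.fwd (nat_lit 81920) (Steps.fwd (nat_lit 122880) Steps.nil)))))) (nat_lit 66) (nat_lit 0),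
  Rule.mk (nat_lit 14) (nat_lit 94) (Steps.fwd (nat_lit 90112) (Steps.bwd (nat_lit 19) (Steps.fwd (nat_lit 147456) (Steps.fwd (nat_lit 114688) (Steps.bwd (nat_lit 11) Steps.nil))))) (nat_lit 33) (nat_lit 5),
  Rule.mk (nat_lit 16) (nat_lit 78) (Steps.bwd (nat_lit 14) (Steps.fwd (nat_lit 147456) (Steps.fwd (nat_lit 131072) (Steps.fwd (nat_lit 114688) Steps.nil)))) (nat_lit 41) (nat_lit 4),
  Rule.mk (nat_lit 2) (nat_lit 110) (Steps.bwd (nat_lit 14) (Steps.fwd (nat_lit 16384) (Steps.bwd (nat_lit 17) (Steps.bwd (nat_lit 11) (Steps.fwd (nat_lit 122880) (Steps.fwd (nat_lit 122880) Steps.nil)))))) (nat_lit 44) (nat_lit 1),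
  Rule.mk (nat_lit 3) (nat_lit 62) (Steps.fwd (nat_lit 40960) (Steps.fwd (nat_lit 24576) (Steps.bwd (nat_lit 16) Steps.nil))) (nat_lit 16) (nat_lit 2),
  Rule.mk (nat_lit 9) (nat_lit 110) (Steps.bwd (nat_lit 10) (Steps.fwd (nat_lit 114688) (Steps.fwd (nat_lit 90112) (Steps.bwd (nat_lit 17) (Steps.fwd (nat_lit 73728) (Steps.bwd (nat_lit 19) Steps.nil)))))) (nat_lit 67) (nat_lit 0),
  Rule.mk (nat_lit 4) (nat_lit 110) (Steps.bwd (nat_lit 9) (Steps.fwd (nat_lit 90112) (Steps.fwd (nat_lit 114688) (Steps.bwd (nat_lit 17) (Steps.bwd (nat_lit 17) (Steps.bwd (nat_lit 9) Steps.nil)))))) (nat_lit 71) (nat_lit 6),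
  Rule.mk (nat_lit 15) (nat_lit 78) (Steps.bwd (nat_lit 13) (Steps.fwd (nat_lit 122880) (Steps.fwd (nat_lit 106496) (Steps.bwd (nat_lit 19) Steps.nil)))) (nat_lit 37) (nat_lit 2),
  Rule.mk (nat_lit 9) (nat_lit 110) (Steps.fwd (nat_lit 32768) (Steps.fwd (nat_lit 73728) (Steps.fwd (nat_lit 139264) (Steps.bwd (nat_lit 16) (Steps.bwd (nat_lit 14) (Steps.bwd (nat_lit 11) Steps.nil)))))) (nat_lit 70) (nat_lit 1),
  Rule.mk (nat_lit 1) (nat_lit 94) (Steps.bwd (nat_lit 4) (Steps.bwd (nat_lit 2) (Steps.bwd (nat_lit 2) (Steps.bwd (nat_lit 3) (Steps.fwd (nat_lit 16384) Steps.nil))))) (nat_lit 7) (nat_lit 0),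
  Rule.mk (nat_lit 9) (nat_lit 110) (Steps.fwd (nat_lit 81920) (Steps.bwd (nat_lit 9) (Steps.fwd (nat_lit 32768) (Steps.fwd (nat_lit 122880) (Steps.bwd (nat_lit 3) (Steps.fwd (nat_lit 81920) Steps.nil)))))) (nat_lit 61) (nat_lit 5),
  Rule.mk (nat_lit 17) (nat_lit 110) (Steps.bwd (nat_lit 11) (Steps.fwd (nat_lit 122880) (Steps.bwd (nat_lit 14) (Steps.bwd (nat_lit 2) (Steps.bwd (nat_lit 14) (Steps.bwd (nat_lit 1) Steps.nil)))))) (nat_lit 44) (nat_lit 4),
  Rule.mk (nat_lit 14) (nat_lit 78) (Steps.fwd (nat_lit 139264) (Steps.fwd (nat_lit 155648) (Steps.bwd (nat_lit 15) (Steps.bwd (nat_lit 17) Steps.nil)))) (nat_lit 40) (nat_lit 3),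
  Rule.mk (nat_lit 4) (nat_lit 110) (Steps.bwd (nat_lit 4) (Steps.fwd (nat_lit 73728) (Steps.fwd (nat_lit 139264) (Steps.fwd (nat_lit 73728) (Steps.bwd (nat_lit 17) (Steps.bwd (nat_lit 14) Steps.nil)))))) (nat_lit 64) (nat_lit 6),
  Rule.mk (nat_lit 9) (nat_lit 110) (Steps.bwd (nat_lit 19) (Steps.bwd (nat_lit 9) (Steps.fwd (nat_lit 90112) (Steps.bwd (nat_lit 15) (Steps.fwd (nat_lit 90112) (Steps.bwd (nat_lit 17) Steps.nil)))))) (nat_lit 67) (nat_lit 5),
  Rule.mk (nat_lit 9) (nat_lit 110) (Steps.bwd (nat_lit 10) (Steps.bwd (nat_lit 4) (Steps.bwd (nat_lit 15) (Steps.fwd (nat_lit 24576) (Steps.fwd (nat_lit 73728) (Steps.fwd (nat_lit 90112) Steps.nil)))))) (nat_lit 60) (nat_lit 3),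
  Rule.mk (nat_lit 3) (nat_lit 126) (Steps.bwd (nat_lit 10) (Steps.bwd (nat_lit 10) (Steps.fwd (nat_lit 139264) (Steps.bwd (nat_lit 15) (Steps.bwd (nat_lit 15) (Steps.bwd (nat_lit 4) (Steps.fwd (nat_lit 114688) Steps.nil))))))) (nat_lit 53) (nat_lit 0),
  Rule.mk (nat_lit 16) (nat_lit 158) (Steps.bwd (nat_lit 10) (Steps.fwd (nat_lit 98304) (Steps.bwd (nat_lit 2) (Steps.fwd (nat_lit 24576) (Steps.bwd (nat_lit 4) (Steps.bwd (nat_lit 9) (Steps.fwd (nat_lit 122880) (Steps.fwd (nat_lit 73728) (Steps.fwd (nat_lit 16384) Steps.nil))))))))) (nat_lit 62) (nat_lit 5),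
  Rule.mk (nat_lit 3) (nat_lit 126) (Steps.bwd (nat_lit 14) (Steps.bwd (nat_lit 14) (Steps.bwd (nat_lit 17) (Steps.bwd (nat_lit 11) (Steps.bwd (nat_lit 11) (Steps.bwd (nat_lit 4) (Steps.fwd (nat_lit 122880) Steps.nil))))))) (nat_lit 52) (nat_lit 3),
  Rule.mk (nat_lit 2) (nat_lit 94) (Steps.fwd (nat_lit 32768) (Steps.bwd (nat_lit 1) (Steps.bwd (nat_lit 1) (Steps.fwd (nat_lit 24576) (Steps.fwd (nat_lit 8192) Steps.nil))))) (nat_lit 7) (nat_lit 3),
  Rule.mk (nat_lit 10) (nat_lit 94) (Steps.bwd (nat_lit 14) (Steps.fwd (nat_lit 155648) (Steps.bwd (nat_lit 18) (Steps.bwd (nat_lit 11) (Steps.fwd (nat_lit 114688) Steps.nil))))) (nat_lit 32) (nat_lit 3),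
  Rule.mk (nat_lit 10) (nat_lit 78) (Steps.fwd (nat_lit 90112) (Steps.bwd (nat_lit 10) (Steps.fwd (nat_lit 90112) (Steps.bwd (nat_lit 10) Steps.nil)))) (nat_lit 20) (nat_lit 0),
  Rule.mk (nat_lit 17) (nat_lit 110) (Steps.fwd (nat_lit 73728) (Steps.bwd (nat_lit 19) (Steps.bwd (nat_lit 9) (Steps.bwd (nat_lit 10) (Steps.fwd (nat_lit 114688) (Steps.bwd (nat_lit 10) Steps.nil)))))) (nat_lit 67) (nat_lit 4),
  Rule.mk (nat_lit 8) (nat_lit 62) (Steps.fwd (nat_lit 32768) (Steps.bwd (nat_lit 7) (Steps.bwd (nat_lit 4) Steps.nil))) (nat_lit 80) (nat_lit 2),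
  Rule.mk (nat_lit 7) (nat_lit 62) (Steps.fwd (nat_lit 32768) (Steps.bwd (nat_lit 8) (Steps.bwd (nat_lit 4) Steps.nil))) (nat_lit 81) (nat_lit 3),
  Rule.mk (nat_lit 1) (nat_lit 94) (Steps.fwd (nat_lit 16384) (Steps.fwd (nat_lit 32768) (Steps.fwd (nat_lit 8192) (Steps.bwd (nat_lit 2) (Steps.bwd (nat_lit 4) Steps.nil))))) (nat_lit 6) (nat_lit 4),
  Rule.mk (nat_lit 15) (nat_lit 110) (Steps.bwd (nat_lit 4) (Steps.fwd (nat_lit 73728) (Steps.bwd (nat_lit 10) (Steps.bwd (nat_lit 9) (Steps.bwd (nat_lit 10) (Steps.bwd (nat_lit 4) Steps.nil)))))) (nat_lit 60) (nat_lit 6),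
  Rule.mk (nat_lit 1) (nat_lit 110) (Steps.bwd (nat_lit 15) (Steps.bwd (nat_lit 15) (Steps.fwd (nat_lit 90112) (Steps.fwd (nat_lit 139264) (Steps.fwd (nat_lit 8192) (Steps.fwd (nat_lit 114688) Steps.nil)))))) (nat_lit 45) (nat_lit 0),
  Rule.mk (nat_lit 7) (nat_lit 158) (Steps.fwd (nat_lit 155648) (Steps.bwd (nat_lit 7) (Steps.bwd (nat_lit 18) (Steps.bwd (nat_lit 7) (Steps.fwd (nat_lit 155648) (Steps.bwd (nat_lit 7) (Steps.fwd (nat_lit 155648) (Steps.bwd (nat_lit 7) (Steps.bwd (nat_lit 18) Steps.nil))))))))) (nat_lit 84) (nat_lit 1),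
  Rule.mk (nat_lit 1) (nat_lit 110) (Steps.bwd (nat_lit 15) (Steps.fwd (nat_lit 114688) (Steps.fwd (nat_lit 90112) (Steps.fwd (nat_lit 139264) (Steps.bwd (nat_lit 2) (Steps.fwd (nat_lit 114688) Steps.nil)))))) (nat_lit 45) (nat_lit 0),
  Rule.mk (nat_lit 16) (nat_lit 126) (Steps.bwd (nat_lit 15) (Steps.fwd (nat_lit 114688) (Steps.bwd (nat_lit 4) (Steps.bwd (nat_lit 15) (Steps.bwd (nat_lit 3) (Steps.bwd (nat_lit 10) (Steps.fwd (nat_lit 90112) Steps.nil))))))) (nat_lit 53) (nat_lit 3),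
  Rule.mk (nat_lit 16) (nat_lit 110) (Steps.fwd (nat_lit 122880) (Steps.bwd (nat_lit 11) (Steps.fwd (nat_lit 73728) (Steps.bwd (nat_lit 3) (Steps.fwd (nat_lit 73728) (Steps.bwd (nat_lit 16) Steps.nil)))))) (nat_lit 70) (nat_lit 5),
  Rule.mk (nat_lit 11) (nat_lit 78) (Steps.fwd (nat_lit 81920) (Steps.bwd (nat_lit 2) (Steps.fwd (nat_lit 98304) (Steps.bwd (nat_lit 1) Steps.nil)))) (nat_lit 43) (nat_lit 1),
  Rule.mk (nat_lit 9) (nat_lit 110) (Steps.fwd (nat_lit 139264) (Steps.bwd (nat_lit 11) (Steps.fwd (nat_lit 122880) (Steps.bwd (nat_lit 11) (Steps.bwd (nat_lit 9) (Steps.fwd (nat_lit 155648) Steps.nil)))))) (nat_lit 66) (nat_lit 3),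
  Rule.mk (nat_lit 16) (nat_lit 62) (Steps.fwd (nat_lit 98304) (Steps.bwd (nat_lit 17) (Steps.fwd (nat_lit 106496) Steps.nil))) (nat_lit 38) (nat_lit 0),
  Rule.mk (nat_lit 17) (nat_lit 110) (Steps.bwd (nat_lit 9) (Steps.fwd (nat_lit 147456) (Steps.fwd (nat_lit 73728) (Steps.fwd (nat_lit 90112) (Steps.bwd (nat_lit 15) (Steps.bwd (nat_lit 10) Steps.nil)))))) (nat_lit 67) (nat_lit 4),
  Rule.mk (nat_lit 14) (nat_lit 158) (Steps.bwd (nat_lit 9) (Steps.fwd (nat_lit 16384) (Steps.fwd (nat_lit 139264) (Steps.bwd (nat_lit 10) (Steps.fwd (nat_lit 98304) (Steps.bwd (nat_lit 2) (Steps.fwd (nat_lit 24576) (Steps.bwd (nat_lit 4) (Steps.fwd (nat_lit 73728) Steps.nil))))))))) (nat_lit 62) (nat_lit 2),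
  Rule.mk (nat_lit 17) (nat_lit 126) (Steps.fwd (nat_lit 81920) (Steps.fwd (nat_lit 131072) (Steps.bwd (nat_lit 4) (Steps.fwd (nat_lit 98304) (Steps.fwd (nat_lit 32768) (Steps.fwd (nat_lit 106496) (Steps.bwd (nat_lit 14) Steps.nil))))))) (nat_lit 51) (nat_lit 3),
  Rule.mk (nat_lit 1) (nat_lit 110) (Steps.bwd (nat_lit 17) (Steps.fwd (nat_lit 81920) (Steps.bwd (nat_lit 14) (Steps.fwd (nat_lit 122880) (Steps.bwd (nat_lit 2) (Steps.bwd (nat_lit 14) Steps.nil)))))) (nat_lit 44) (nat_lit 3),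
  Rule.mk (nat_lit 11) (nat_lit 78) (Steps.bwd (nat_lit 11) (Steps.bwd (nat_lit 2) (Steps.bwd (nat_lit 13) (Steps.bwd (nat_lit 1) Steps.nil)))) (nat_lit 43) (nat_lit 1),
  Rule.mk (nat_lit 9) (nat_lit 190) (Steps.bwd (nat_lit 13) (Steps.bwd (nat_lit 9) (Steps.bwd (nat_lit 12) (Steps.fwd (nat_lit 131072) (Steps.fwd (nat_lit 16384) (Steps.fwd (nat_lit 122880) (Steps.fwd (nat_lit 16384) (Steps.fwd (nat_lit 16384) (Steps.fwd (nat_lit 16384) (Steps.fwd (nat_lit 73728) (Steps.fwd (nat_lit 106496) Steps.nil))))))))))) (nat_lit 74) (nat_lit 3)]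
noncomputable def R_35 : List (Rule) := [Rule.mk (nat_lit 1) (nat_lit 142) (Steps.bwd (nat_lit 10) (Steps.bwd (nat_lit 13) (Steps.fwd (nat_lit 114688) (Steps.bwd (nat_lit 16) (Steps.bwd (nat_lit 10) (Steps.bwd (nat_lit 16) (Steps.fwd (nat_lit 8192) (Steps.fwd (nat_lit 131072) Steps.nil)))))))) (nat_lit 47) (nat_lit 0),
  Rule.mk (nat_lit 9) (nat_lit 190) (Steps.bwd (nat_lit 13) (Steps.fwd (nat_lit 73728) (Steps.bwd (nat_lit 12) (Steps.bwd (nat_lit 17) (Steps.bwd (nat_lit 1) (Steps.bwd (nat_lit 14) (Steps.fwd (nat_lit 16384) (Steps.fwd (nat_lit 16384) (Steps.fwd (nat_lit 16384) (Steps.fwd (nat_lit 73728) (Steps.bwd (nat_lit 12) Steps.nil))))))))))) (nat_lit 74) (nat_lit 3),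
  Rule.mk (nat_lit 11) (nat_lit 158) (Steps.bwd (nat_lit 17) (Steps.fwd (nat_lit 8192) (Steps.bwd (nat_lit 9) (Steps.bwd (nat_lit 15) (Steps.bwd (nat_lit 9) (Steps.bwd (nat_lit 3) (Steps.fwd (nat_lit 32768) (Steps.fwd (nat_lit 16384) (Steps.bwd (nat_lit 12) Steps.nil))))))))) (nat_lit 63) (nat_lit 5),
  Rule.mk (nat_lit 9) (nat_lit 286) (Steps.bwd (nat_lit 4) (Steps.fwd (nat_lit 24576) (Steps.bwd (nat_lit 2) (Steps.bwd (nat_lit 11) (Steps.fwd (nat_lit 16384) (Steps.fwd (nat_lit 90112) (Steps.bwd (nat_lit 2) (Steps.fwd (nat_lit 90112) (Steps.fwd (nat_lit 16384) (Steps.bwd (nat_lit 7) (Steps.fwd (nat_lit 90112) (Steps.fwd (nat_lit 32768) (Steps.bwd (nat_lit 1) (Steps.fwd (nat_lit 24576) (Steps.fwd (nat_lit 65536) (Steps.bwd (nat_lit 10) (Steps.bwd (nat_lit 7) Steps.nil))))))))))))))))) (nat_lit 57) (nat_lit 0),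
  Rule.mk (nat_lit 17) (nat_lit 158) (Steps.bwd (nat_lit 2) (Steps.fwd (nat_lit 73728) (Steps.bwd (nat_lit 15) (Steps.bwd (nat_lit 9) (Steps.bwd (nat_lit 3) (Steps.fwd (nat_lit 32768) (Steps.fwd (nat_lit 16384) (Steps.fwd (nat_lit 106496) (Steps.bwd (nat_lit 11) Steps.nil))))))))) (nat_lit 63) (nat_lit 6),
  Rule.mk (nat_lit 9) (nat_lit 110) (Steps.fwd (nat_lit 139264) (Steps.bwd (nat_lit 16) (Steps.bwd (nat_lit 14) (Steps.fwd (nat_lit 81920) (Steps.bwd (nat_lit 9) (Steps.bwd (nat_lit 3) Steps.nil)))))) (nat_lit 70) (nat_lit 3),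
  Rule.mk (nat_lit 16) (nat_lit 110) (Steps.bwd (nat_lit 9) (Steps.bwd (nat_lit 17) (Steps.fwd (nat_lit 122880) (Steps.fwd (nat_lit 24576) (Steps.fwd (nat_lit 24576) (Steps.bwd (nat_lit 9) Steps.nil)))))) (nat_lit 64) (nat_lit 2),
  Rule.mk (nat_lit 16) (nat_lit 110) (Steps.bwd (nat_lit 14) (Steps.fwd (nat_lit 81920) (Steps.bwd (nat_lit 9) (Steps.bwd (nat_lit 3) (Steps.bwd (nat_lit 9) (Steps.bwd (nat_lit 16) Steps.nil)))))) (nat_lit 70) (nat_lit 5),
  Rule.mk (nat_lit 14) (nat_lit 78) (Steps.bwd (nat_lit 12) (Steps.fwd (nat_lit 147456) (Steps.fwd (nat_lit 114688) (Steps.fwd (nat_lit 98304) Steps.nil)))) (nat_lit 37) (nat_lit 4),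
  Rule.mk (nat_lit 4) (nat_lit 126) (Steps.bwd (nat_lit 12) (Steps.bwd (nat_lit 3) (Steps.bwd (nat_lit 16) (Steps.bwd (nat_lit 10) (Steps.fwd (nat_lit 139264) (Steps.fwd (nat_lit 114688) (Steps.fwd (nat_lit 98304) Steps.nil))))))) (nat_lit 50) (nat_lit 1),
  Rule.mk (nat_lit 9) (nat_lit 190) (Steps.fwd (nat_lit 98304) (Steps.fwd (nat_lit 73728) (Steps.bwd (nat_lit 12) (Steps.bwd (nat_lit 17) (Steps.bwd (nat_lit 1) (Steps.fwd (nat_lit 122880) (Steps.fwd (nat_lit 16384) (Steps.fwd (nat_lit 16384) (Steps.fwd (nat_lit 16384) (Steps.bwd (nat_lit 9) (Steps.bwd (nat_lit 12) Steps.nil))))))))))) (nat_lit 74) (nat_lit 3),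
  Rule.mk (nat_lit 10) (nat_lit 110) (Steps.bwd (nat_lit 16) (Steps.fwd (nat_lit 8192) (Steps.bwd (nat_lit 15) (Steps.bwd (nat_lit 1) (Steps.bwd (nat_lit 15) (Steps.bwd (nat_lit 15) Steps.nil)))))) (nat_lit 45) (nat_lit 3),
  Rule.mk (nat_lit 9) (nat_lit 110) (Steps.bwd (nat_lit 16) (Steps.bwd (nat_lit 9) (Steps.fwd (nat_lit 131072) (Steps.fwd (nat_lit 122880) (Steps.bwd (nat_lit 4) (Steps.fwd (nat_lit 24576) Steps.nil)))))) (nat_lit 64) (nat_lit 1),
  Rule.mk (nat_lit 2) (nat_lit 142) (Steps.bwd (nat_lit 16) (Steps.bwd (nat_lit 1) (Steps.bwd (nat_lit 17) (Steps.bwd (nat_lit 11) (Steps.bwd (nat_lit 17) (Steps.fwd (nat_lit 122880) (Steps.fwd (nat_lit 106496) (Steps.bwd (nat_lit 11) Steps.nil)))))))) (nat_lit 46) (nat_lit 1),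
  Rule.mk (nat_lit 0) (nat_lit 286) (Steps.bwd (nat_lit 9) (Steps.fwd (nat_lit 8192) (Steps.fwd (nat_lit 155648) (Steps.fwd (nat_lit 139264) (Steps.bwd (nat_lit 10) (Steps.bwd (nat_lit 3) (Steps.fwd (nat_lit 16384) (Steps.bwd (nat_lit 4) (Steps.fwd (nat_lit 24576) (Steps.fwd (nat_lit 8192) (Steps.fwd (nat_lit 65536) (Steps.bwd (nat_lit 9) (Steps.fwd (nat_lit 24576) (Steps.bwd (nat_lit 12) (Steps.bwd (nat_lit 2) (Steps.fwd (nat_lit 73728) (Steps.bwd (nat_lit 2) Steps.nil))))))))))))))))) (nat_lit 76) (nat_lit 7),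
  Rule.mk (nat_lit 4) (nat_lit 110) (Steps.fwd (nat_lit 73728) (Steps.bwd (nat_lit 10) (Steps.fwd (nat_lit 114688) (Steps.fwd (nat_lit 131072) (Steps.bwd (nat_lit 17) (Steps.bwd (nat_lit 9) Steps.nil)))))) (nat_lit 71) (nat_lit 6),
  Rule.mk (nat_lit 9) (nat_lit 110) (Steps.fwd (nat_lit 139264) (Steps.bwd (nat_lit 9) (Steps.fwd (nat_lit 131072) (Steps.bwd (nat_lit 14) (Steps.bwd (nat_lit 4) (Steps.bwd (nat_lit 4) Steps.nil)))))) (nat_lit 64) (nat_lit 1),
  Rule.mk (nat_lit 17) (nat_lit 110) (Steps.bwd (nat_lit 11) (Steps.bwd (nat_lit 14) (Steps.fwd (nat_lit 122880) (Steps.bwd (nat_lit 2) (Steps.fwd (nat_lit 122880) (Steps.fwd (nat_lit 16384) Steps.nil)))))) (nat_lit 44) (nat_lit 4),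
  Rule.mk (nat_lit 12) (nat_lit 142) (Steps.bwd (nat_lit 11) (Steps.bwd (nat_lit 2) (Steps.fwd (nat_lit 139264) (Steps.bwd (nat_lit 1) (Steps.fwd (nat_lit 131072) (Steps.fwd (nat_lit 81920) (Steps.fwd (nat_lit 131072) (Steps.bwd (nat_lit 14) Steps.nil)))))))) (nat_lit 46) (nat_lit 8),
  Rule.mk (nat_lit 4) (nat_lit 126) (Steps.fwd (nat_lit 98304) (Steps.fwd (nat_lit 32768) (Steps.bwd (nat_lit 12) (Steps.fwd (nat_lit 122880) (Steps.fwd (nat_lit 131072) (Steps.fwd (nat_lit 81920) (Steps.bwd (nat_lit 17) Steps.nil))))))) (nat_lit 51) (nat_lit 6),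
  Rule.mk (nat_lit 9) (nat_lit 190) (Steps.bwd (nat_lit 13) (Steps.bwd (nat_lit 9) (Steps.bwd (nat_lit 12) (Steps.fwd (nat_lit 131072) (Steps.fwd (nat_lit 16384) (Steps.bwd (nat_lit 14) (Steps.fwd (nat_lit 16384) (Steps.fwd (nat_lit 16384) (Steps.fwd (nat_lit 16384) (Steps.fwd (nat_lit 73728) (Steps.fwd (nat_lit 106496) Steps.nil))))))))))) (nat_lit 74) (nat_lit 3),
  Rule.mk (nat_lit 15) (nat_lit 78) (Steps.fwd (nat_lit 98304) (Steps.fwd (nat_lit 122880) (Steps.bwd (nat_lit 12) (Steps.bwd (nat_lit 19) Steps.nil)))) (nat_lit 37) (nat_lit 2),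
  Rule.mk (nat_lit 14) (nat_lit 110) (Steps.bwd (nat_lit 14) (Steps.bwd (nat_lit 2) (Steps.bwd (nat_lit 14) (Steps.fwd (nat_lit 16384) (Steps.bwd (nat_lit 17) (Steps.fwd (nat_lit 81920) Steps.nil)))))) (nat_lit 44) (nat_lit 6),
  Rule.mk (nat_lit 3) (nat_lit 126) (Steps.bwd (nat_lit 14) (Steps.fwd (nat_lit 122880) (Steps.bwd (nat_lit 17) (Steps.fwd (nat_lit 81920) (Steps.fwd (nat_lit 81920) (Steps.bwd (nat_lit 4) (Steps.bwd (nat_lit 14) Steps.nil))))))) (nat_lit 52) (nat_lit 3),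
  Rule.mk (nat_lit 9) (nat_lit 158) (Steps.bwd (nat_lit 14) (Steps.bwd (nat_lit 9) (Steps.fwd (nat_lit 16384) (Steps.bwd (nat_lit 16) (Steps.bwd (nat_lit 10) (Steps.fwd (nat_lit 98304) (Steps.bwd (nat_lit 2) (Steps.fwd (nat_lit 24576) (Steps.fwd (nat_lit 24576) Steps.nil))))))))) (nat_lit 62) (nat_lit 1),
  Rule.mk (nat_lit 1) (nat_lit 206) (Steps.bwd (nat_lit 1) (Steps.fwd (nat_lit 73728) (Steps.bwd (nat_lit 16) (Steps.bwd (nat_lit 19) (Steps.bwd (nat_lit 11) (Steps.fwd (nat_lit 8192) (Steps.bwd (nat_lit 3) (Steps.bwd (nat_lit 2) (Steps.bwd (nat_lit 4) (Steps.fwd (nat_lit 24576) (Steps.bwd (nat_lit 2) (Steps.bwd (nat_lit 9) Steps.nil)))))))))))) (nat_lit 68) (nat_lit 2),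
  Rule.mk (nat_lit 2) (nat_lit 206) (Steps.fwd (nat_lit 8192) (Steps.fwd (nat_lit 73728) (Steps.fwd (nat_lit 16384) (Steps.bwd (nat_lit 3) (Steps.fwd (nat_lit 32768) (Steps.fwd (nat_lit 16384) (Steps.fwd (nat_lit 24576) (Steps.fwd (nat_lit 16384) (Steps.fwd (nat_lit 90112) (Steps.fwd (nat_lit 155648) (Steps.bwd (nat_lit 17) (Steps.bwd (nat_lit 9) Steps.nil)))))))))))) (nat_lit 69) (nat_lit 11),
  Rule.mk (nat_lit 7) (nat_lit 94) (Steps.fwd (nat_lit 8192) (Steps.fwd (nat_lit 8192) (Steps.bwd (nat_lit 2) (Steps.fwd (nat_lit 57344) (Steps.fwd (nat_lit 16384) Steps.nil))))) (nat_lit 82) (nat_lit 3),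
  Rule.mk (nat_lit 7) (nat_lit 94) (Steps.bwd (nat_lit 2) (Steps.fwd (nat_lit 8192) (Steps.fwd (nat_lit 8192) (Steps.fwd (nat_lit 57344) (Steps.bwd (nat_lit 1) Steps.nil))))) (nat_lit 82) (nat_lit 3),
  Rule.mk (nat_lit 11) (nat_lit 78) (Steps.bwd (nat_lit 2) (Steps.fwd (nat_lit 98304) (Steps.fwd (nat_lit 16384) (Steps.bwd (nat_lit 11) Steps.nil)))) (nat_lit 43) (nat_lit 2),
  Rule.mk (nat_lit 18) (nat_lit 78) (Steps.bwd (nat_lit 2) (Steps.bwd (nat_lit 19) (Steps.fwd (nat_lit 16384) (Steps.fwd (nat_lit 155648) Steps.nil)))) (nat_lit 49) (nat_lit 2),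
  Rule.mk (nat_lit 4) (nat_lit 94) (Steps.bwd (nat_lit 2) (Steps.bwd (nat_lit 2) (Steps.fwd (nat_lit 32768) (Steps.fwd (nat_lit 16384) (Steps.fwd (nat_lit 16384) Steps.nil))))) (nat_lit 7) (nat_lit 1),
  Rule.mk (nat_lit 9) (nat_lit 206) (Steps.bwd (nat_lit 2) (Steps.bwd (nat_lit 2) (Steps.bwd (nat_lit 9) (Steps.fwd (nat_lit 16384) (Steps.bwd (nat_lit 3) (Steps.bwd (nat_lit 3) (Steps.fwd (nat_lit 16384) (Steps.fwd (nat_lit 24576) (Steps.fwd (nat_lit 16384) (Steps.bwd (nat_lit 10) (Steps.bwd (nat_lit 18) (Steps.fwd (nat_lit 131072) Steps.nil)))))))))))) (nat_lit 69) (nat_lit 10),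
  Rule.mk (nat_lit 16) (nat_lit 110) (Steps.fwd (nat_lit 73728) (Steps.fwd (nat_lit 131072) (Steps.fwd (nat_lit 122880) (Steps.bwd (nat_lit 4) (Steps.fwd (nat_lit 24576) (Steps.bwd (nat_lit 9) Steps.nil)))))) (nat_lit 64) (nat_lit 2),
  Rule.mk (nat_lit 14) (nat_lit 158) (Steps.fwd (nat_lit 73728) (Steps.fwd (nat_lit 16384) (Steps.bwd (nat_lit 16) (Steps.fwd (nat_lit 90112) (Steps.bwd (nat_lit 13) (Steps.fwd (nat_lit 8192) (Steps.bwd (nat_lit 4) (Steps.fwd (nat_lit 24576) (Steps.bwd (nat_lit 9) Steps.nil))))))))) (nat_lit 62) (nat_lit 2),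
  Rule.mk (nat_lit 0) (nat_lit 174) (Steps.bwd (nat_lit 17) (Steps.fwd (nat_lit 8192) (Steps.bwd (nat_lit 9) (Steps.fwd (nat_lit 114688) (Steps.bwd (nat_lit 9) (Steps.fwd (nat_lit 32768) (Steps.fwd (nat_lit 32768) (Steps.bwd (nat_lit 1) (Steps.bwd (nat_lit 12) (Steps.bwd (nat_lit 11) Steps.nil)))))))))) (nat_lit 63) (nat_lit 5),
  Rule.mk (nat_lit 12) (nat_lit 190) (Steps.bwd (nat_lit 9) (Steps.bwd (nat_lit 13) (Steps.fwd (nat_lit 73728) (Steps.bwd (nat_lit 12) (Steps.bwd (nat_lit 17) (Steps.fwd (nat_lit 16384) (Steps.bwd (nat_lit 14) (Steps.fwd (nat_lit 16384) (Steps.bwd (nat_lit 1) (Steps.fwd (nat_lit 16384) (Steps.fwd (nat_lit 73728) Steps.nil))))))))))) (nat_lit 74) (nat_lit 2),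
  Rule.mk (nat_lit 2) (nat_lit 126) (Steps.bwd (nat_lit 2) (Steps.fwd (nat_lit 8192) (Steps.fwd (nat_lit 8192) (Steps.fwd (nat_lit 8192) (Steps.bwd (nat_lit 2) (Steps.bwd (nat_lit 2) (Steps.bwd (nat_lit 2) Steps.nil))))))) (nat_lit 1) (nat_lit 0),
  Rule.mk (nat_lit 10) (nat_lit 286) (Steps.bwd (nat_lit 2) (Steps.fwd (nat_lit 90112) (Steps.fwd (nat_lit 16384) (Steps.fwd (nat_lit 65536) (Steps.bwd (nat_lit 10) (Steps.fwd (nat_lit 32768) (Steps.fwd (nat_lit 16384) (Steps.bwd (nat_lit 4) (Steps.fwd (nat_lit 65536) (Steps.bwd (nat_lit 10) (Steps.bwd (nat_lit 7) (Steps.fwd (nat_lit 73728) (Steps.bwd (nat_lit 4) (Steps.bwd (nat_lit 4) (Steps.bwd (nat_lit 2) (Steps.bwd (nat_lit 11) (Steps.fwd (nat_lit 16384) Steps.nil))))))))))))))))) (nat_lit 57) (nat_lit 6),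
  Rule.mk (nat_lit 16) (nat_lit 94) (Steps.fwd (nat_lit 147456) (Steps.fwd (nat_lit 147456) (Steps.bwd (nat_lit 11) (Steps.fwd (nat_lit 131072) (Steps.bwd (nat_lit 10) Steps.nil))))) (nat_lit 34) (nat_lit 4),
  Rule.mk (nat_lit 17) (nat_lit 110) (Steps.bwd (nat_lit 14) (Steps.bwd (nat_lit 4) (Steps.bwd (nat_lit 4) (Steps.bwd (nat_lit 9) (Steps.bwd (nat_lit 16) (Steps.fwd (nat_lit 73728) Steps.nil)))))) (nat_lit 64) (nat_lit 4),
  Rule.mk (nat_lit 9) (nat_lit 110) (Steps.bwd (nat_lit 16) (Steps.bwd (nat_lit 9) (Steps.fwd (nat_lit 131072) (Steps.fwd (nat_lit 122880) (Steps.fwd (nat_lit 24576) (Steps.bwd (nat_lit 4) Steps.nil)))))) (nat_lit 64) (nat_lit 1),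
  Rule.mk (nat_lit 15) (nat_lit 94) (Steps.fwd (nat_lit 90112) (Steps.bwd (nat_lit 14) (Steps.bwd (nat_lit 18) (Steps.fwd (nat_lit 155648) (Steps.bwd (nat_lit 11) Steps.nil))))) (nat_lit 32) (nat_lit 2),
  Rule.mk (nat_lit 9) (nat_lit 110) (Steps.bwd (nat_lit 10) (Steps.bwd (nat_lit 15) (Steps.bwd (nat_lit 10) (Steps.fwd (nat_lit 131072) (Steps.bwd (nat_lit 9) (Steps.bwd (nat_lit 19) Steps.nil)))))) (nat_lit 67) (nat_lit 0),
  Rule.mk (nat_lit 17) (nat_lit 110) (Steps.bwd (nat_lit 14) (Steps.bwd (nat_lit 4) (Steps.fwd (nat_lit 24576) (Steps.fwd (nat_lit 73728) (Steps.fwd (nat_lit 139264) (Steps.bwd (nat_lit 9) Steps.nil)))))) (nat_lit 64) (nat_lit 4),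
  Rule.mk (nat_lit 2) (nat_lit 142) (Steps.fwd (nat_lit 139264) (Steps.fwd (nat_lit 16384) (Steps.fwd (nat_lit 131072) (Steps.fwd (nat_lit 81920) (Steps.bwd (nat_lit 17) (Steps.bwd (nat_lit 14) (Steps.fwd (nat_lit 106496) (Steps.bwd (nat_lit 11) Steps.nil)))))))) (nat_lit 46) (nat_lit 1),
  Rule.mk (nat_lit 1) (nat_lit 126) (Steps.fwd (nat_lit 16384) (Steps.fwd (nat_lit 16384) (Steps.fwd (nat_lit 16384) (Steps.fwd (nat_lit 16384) (Steps.fwd (nat_lit 16384) (Steps.bwd (nat_lit 1) (Steps.bwd (nat_lit 1) Steps.nil))))))) (nat_lit 0) (nat_lit 0),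
  Rule.mk (nat_lit 4) (nat_lit 126) (Steps.bwd (nat_lit 12) (Steps.fwd (nat_lit 32768) (Steps.bwd (nat_lit 16) (Steps.bwd (nat_lit 10) (Steps.bwd (nat_lit 16) (Steps.fwd (nat_lit 114688) (Steps.fwd (nat_lit 98304) Steps.nil))))))) (nat_lit 50) (nat_lit 1),
  Rule.mk (nat_lit 3) (nat_lit 126) (Steps.bwd (nat_lit 12) (Steps.bwd (nat_lit 14) (Steps.fwd (nat_lit 131072) (Steps.fwd (nat_lit 81920) (Steps.bwd (nat_lit 17) (Steps.fwd (nat_lit 24576) (Steps.fwd (nat_lit 98304) Steps.nil))))))) (nat_lit 51) (nat_lit 0),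
  Rule.mk (nat_lit 9) (nat_lit 190) (Steps.bwd (nat_lit 12) (Steps.bwd (nat_lit 17) (Steps.bwd (nat_lit 1) (Steps.bwd (nat_lit 14) (Steps.fwd (nat_lit 16384) (Steps.fwd (nat_lit 16384) (Steps.fwd (nat_lit 16384) (Steps.bwd (nat_lit 9) (Steps.bwd (nat_lit 12) (Steps.bwd (nat_lit 9) (Steps.fwd (nat_lit 98304) Steps.nil))))))))))) (nat_lit 74) (nat_lit 5),
  Rule.mk (nat_lit 11) (nat_lit 110) (Steps.bwd (nat_lit 9) (Steps.fwd (nat_lit 32768) (Steps.bwd (nat_lit 14) (Steps.fwd (nat_lit 32768) (Steps.bwd (nat_lit 11) (Steps.fwd (nat_lit 73728) Steps.nil)))))) (nat_lit 61) (nat_lit 6),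
  Rule.mk (nat_lit 15) (nat_lit 158) (Steps.bwd (nat_lit 9) (Steps.fwd (nat_lit 32768) (Steps.bwd (nat_lit 3) (Steps.bwd (nat_lit 1) (Steps.bwd (nat_lit 12) (Steps.fwd (nat_lit 81920) (Steps.bwd (nat_lit 17) (Steps.bwd (nat_lit 2) (Steps.fwd (nat_lit 73728) Steps.nil))))))))) (nat_lit 63) (nat_lit 9),
  Rule.mk (nat_lit 0) (nat_lit 126) (Steps.bwd (nat_lit 9) (Steps.fwd (nat_lit 24576) (Steps.fwd (nat_lit 73728) (Steps.fwd (nat_lit 90112) (Steps.bwd (nat_lit 15) (Steps.bwd (nat_lit 17) (Steps.fwd (nat_lit 131072) Steps.nil))))))) (nat_lit 71) (nat_lit 4),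
  Rule.mk (nat_lit 15) (nat_lit 126) (Steps.bwd (nat_lit 4) (Steps.bwd (nat_lit 15) (Steps.fwd (nat_lit 32768) (Steps.fwd (nat_lit 90112) (Steps.bwd (nat_lit 10) (Steps.fwd (nat_lit 139264) (Steps.bwd (nat_lit 15) Steps.nil))))))) (nat_lit 53) (nat_lit 5),
  Rule.mk (nat_lit 2) (nat_lit 94) (Steps.fwd (nat_lit 24576) (Steps.fwd (nat_lit 16384) (Steps.bwd (nat_lit 1) (Steps.bwd (nat_lit 3) (Steps.bwd (nat_lit 2) Steps.nil))))) (nat_lit 6) (nat_lit 2),
  Rule.mk (nat_lit 15) (nat_lit 94) (Steps.bwd (nat_lit 10) (Steps.fwd (nat_lit 122880) (Steps.bwd (nat_lit 18) (Steps.bwd (nat_lit 18) (Steps.bwd (nat_lit 11) Steps.nil))))) (nat_lit 32) (nat_lit 2),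
  Rule.mk (nat_lit 1) (nat_lit 94) (Steps.bwd (nat_lit 3) (Steps.bwd (nat_lit 2) (Steps.bwd (nat_lit 2) (Steps.bwd (nat_lit 4) (Steps.fwd (nat_lit 16384) Steps.nil))))) (nat_lit 6) (nat_lit 5),
  Rule.mk (nat_lit 2) (nat_lit 94) (Steps.bwd (nat_lit 3) (Steps.fwd (nat_lit 16384) (Steps.bwd (nat_lit 1) (Steps.bwd (nat_lit 4) (Steps.bwd (nat_lit 2) Steps.nil))))) (nat_lit 7) (nat_lit 3),
  Rule.mk (nat_lit 14) (nat_lit 126) (Steps.bwd (nat_lit 3) (Steps.fwd (nat_lit 122880) (Steps.fwd (nat_lit 122880) (Steps.bwd (nat_lit 17) (Steps.bwd (nat_lit 11) (Steps.fwd (nat_lit 81920) (Steps.bwd (nat_lit 4) Steps.nil))))))) (nat_lit 52) (nat_lit 2),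
  Rule.mk (nat_lit 10) (nat_lit 94) (Steps.fwd (nat_lit 147456) (Steps.fwd (nat_lit 147456) (Steps.bwd (nat_lit 15) (Steps.bwd (nat_lit 11) (Steps.bwd (nat_lit 14) Steps.nil))))) (nat_lit 33) (nat_lit 0),
  Rule.mk (nat_lit 12) (nat_lit 142) (Steps.bwd (nat_lit 11) (Steps.bwd (nat_lit 2) (Steps.fwd (nat_lit 139264) (Steps.fwd (nat_lit 16384) (Steps.bwd (nat_lit 17) (Steps.fwd (nat_lit 81920) (Steps.fwd (nat_lit 131072) (Steps.bwd (nat_lit 14) Steps.nil)))))))) (nat_lit 46) (nat_lit 8),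
  Rule.mk (nat_lit 13) (nat_lit 62) (Steps.fwd (nat_lit 147456) (Steps.bwd (nat_lit 12) (Steps.fwd (nat_lit 155648) Steps.nil))) (nat_lit 26) (nat_lit 1),
  Rule.mk (nat_lit 11) (nat_lit 78) (Steps.fwd (nat_lit 98304) (Steps.fwd (nat_lit 90112) (Steps.bwd (nat_lit 12) (Steps.bwd (nat_lit 19) Steps.nil)))) (nat_lit 19) (nat_lit 1),
  Rule.mk (nat_lit 4) (nat_lit 110) (Steps.bwd (nat_lit 9) (Steps.fwd (nat_lit 139264) (Steps.fwd (nat_lit 73728) (Steps.fwd (nat_lit 131072) (Steps.bwd (nat_lit 14) (Steps.fwd (nat_lit 24576) Steps.nil)))))) (nat_lit 64) (nat_lit 0)]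
noncomputable def R_36 : List (Rule) := [Rule.mk (nat_lit 18) (nat_lit 110) (Steps.bwd (nat_lit 9) (Steps.fwd (nat_lit 139264) (Steps.fwd (nat_lit 81920) (Steps.fwd (nat_lit 122880) (Steps.bwd (nat_lit 11) (Steps.bwd (nat_lit 9) Steps.nil)))))) (nat_lit 66) (nat_lit 2),
  Rule.mk (nat_lit 19) (nat_lit 110) (Steps.bwd (nat_lit 9) (Steps.bwd (nat_lit 10) (Steps.fwd (nat_lit 114688) (Steps.fwd (nat_lit 90112) (Steps.fwd (nat_lit 131072) (Steps.fwd (nat_lit 73728) Steps.nil)))))) (nat_lit 67) (nat_lit 6),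
  Rule.mk (nat_lit 3) (nat_lit 110) (Steps.bwd (nat_lit 9) (Steps.fwd (nat_lit 139264) (Steps.fwd (nat_lit 139264) (Steps.fwd (nat_lit 122880) (Steps.fwd (nat_lit 81920) (Steps.fwd (nat_lit 73728) Steps.nil)))))) (nat_lit 70) (nat_lit 2),
  Rule.mk (nat_lit 1) (nat_lit 206) (Steps.bwd (nat_lit 9) (Steps.fwd (nat_lit 139264) (Steps.fwd (nat_lit 147456) (Steps.bwd (nat_lit 11) (Steps.fwd (nat_lit 8192) (Steps.fwd (nat_lit 8192) (Steps.fwd (nat_lit 73728) (Steps.fwd (nat_lit 16384) (Steps.bwd (nat_lit 3) (Steps.fwd (nat_lit 32768) (Steps.bwd (nat_lit 1) (Steps.fwd (nat_lit 24576) Steps.nil)))))))))))) (nat_lit 72) (nat_lit 7),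
  Rule.mk (nat_lit 11) (nat_lit 110) (Steps.bwd (nat_lit 14) (Steps.fwd (nat_lit 81920) (Steps.bwd (nat_lit 9) (Steps.bwd (nat_lit 18) (Steps.bwd (nat_lit 9) (Steps.fwd (nat_lit 139264) Steps.nil)))))) (nat_lit 66) (nat_lit 5),
  Rule.mk (nat_lit 9) (nat_lit 110) (Steps.bwd (nat_lit 18) (Steps.fwd (nat_lit 73728) (Steps.fwd (nat_lit 139264) (Steps.fwd (nat_lit 81920) (Steps.fwd (nat_lit 122880) (Steps.bwd (nat_lit 11) Steps.nil)))))) (nat_lit 66) (nat_lit 1),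
  Rule.mk (nat_lit 10) (nat_lit 94) (Steps.fwd (nat_lit 122880) (Steps.bwd (nat_lit 18) (Steps.bwd (nat_lit 18) (Steps.bwd (nat_lit 11) (Steps.bwd (nat_lit 15) Steps.nil))))) (nat_lit 32) (nat_lit 3),
  Rule.mk (nat_lit 10) (nat_lit 78) (Steps.bwd (nat_lit 12) (Steps.bwd (nat_lit 19) (Steps.fwd (nat_lit 81920) (Steps.fwd (nat_lit 98304) Steps.nil)))) (nat_lit 19) (nat_lit 3),
  Rule.mk (nat_lit 7) (nat_lit 286) (Steps.fwd (nat_lit 90112) (Steps.fwd (nat_lit 65536) (Steps.fwd (nat_lit 73728) (Steps.fwd (nat_lit 24576) (Steps.fwd (nat_lit 24576) (Steps.fwd (nat_lit 8192) (Steps.bwd (nat_lit 11) (Steps.bwd (nat_lit 1) (Steps.bwd (nat_lit 10) (Steps.fwd (nat_lit 8192) (Steps.fwd (nat_lit 90112) (Steps.bwd (nat_lit 1) (Steps.bwd (nat_lit 7) (Steps.fwd (nat_lit 90112) (Steps.bwd (nat_lit 3) (Steps.fwd (nat_lit 16384) (Steps.bwd (nat_lit 4) Steps.nil))))))))))))))))) (nat_lit 57) (nat_lit 15),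
  Rule.mk (nat_lit 10) (nat_lit 158) (Steps.bwd (nat_lit 13) (Steps.fwd (nat_lit 8192) (Steps.fwd (nat_lit 24576) (Steps.bwd (nat_lit 4) (Steps.bwd (nat_lit 9) (Steps.bwd (nat_lit 14) (Steps.fwd (nat_lit 73728) (Steps.fwd (nat_lit 16384) (Steps.bwd (nat_lit 16) Steps.nil))))))))) (nat_lit 62) (nat_lit 6),
  Rule.mk (nat_lit 9) (nat_lit 190) (Steps.bwd (nat_lit 13) (Steps.fwd (nat_lit 73728) (Steps.bwd (nat_lit 12) (Steps.fwd (nat_lit 131072) (Steps.bwd (nat_lit 1) (Steps.bwd (nat_lit 14) (Steps.bwd (nat_lit 1) (Steps.bwd (nat_lit 1) (Steps.fwd (nat_lit 16384) (Steps.bwd (nat_lit 9) (Steps.fwd (nat_lit 106496) Steps.nil))))))))))) (nat_lit 74) (nat_lit 3),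
  Rule.mk (nat_lit 3) (nat_lit 126) (Steps.bwd (nat_lit 16) (Steps.bwd (nat_lit 10) (Steps.fwd (nat_lit 139264) (Steps.bwd (nat_lit 15) (Steps.bwd (nat_lit 13) (Steps.bwd (nat_lit 4) (Steps.fwd (nat_lit 106496) Steps.nil))))))) (nat_lit 50) (nat_lit 3),
  Rule.mk (nat_lit 4) (nat_lit 110) (Steps.bwd (nat_lit 9) (Steps.bwd (nat_lit 10) (Steps.bwd (nat_lit 15) (Steps.fwd (nat_lit 131072) (Steps.bwd (nat_lit 17) (Steps.fwd (nat_lit 73728) Steps.nil)))))) (nat_lit 71) (nat_lit 6),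
  Rule.mk (nat_lit 4) (nat_lit 78) (Steps.fwd (nat_lit 24576) (Steps.fwd (nat_lit 24576) (Steps.bwd (nat_lit 4) (Steps.fwd (nat_lit 24576) Steps.nil)))) (nat_lit 3) (nat_lit 0),
  Rule.mk (nat_lit 15) (nat_lit 126) (Steps.bwd (nat_lit 13) (Steps.fwd (nat_lit 24576) (Steps.fwd (nat_lit 106496) (Steps.bwd (nat_lit 3) (Steps.fwd (nat_lit 139264) (Steps.bwd (nat_lit 10) (Steps.fwd (nat_lit 139264) Steps.nil))))))) (nat_lit 50) (nat_lit 7),
  Rule.mk (nat_lit 10) (nat_lit 110) (Steps.bwd (nat_lit 4) (Steps.bwd (nat_lit 15) (Steps.bwd (nat_lit 4) (Steps.fwd (nat_lit 73728) (Steps.fwd (nat_lit 90112) (Steps.bwd (nat_lit 9) Steps.nil)))))) (nat_lit 60) (nat_lit 4),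
  Rule.mk (nat_lit 9) (nat_lit 190) (Steps.fwd (nat_lit 98304) (Steps.bwd (nat_lit 9) (Steps.bwd (nat_lit 12) (Steps.bwd (nat_lit 17) (Steps.fwd (nat_lit 16384) (Steps.fwd (nat_lit 122880) (Steps.bwd (nat_lit 1) (Steps.fwd (nat_lit 16384) (Steps.fwd (nat_lit 16384) (Steps.fwd (nat_lit 73728) (Steps.bwd (nat_lit 12) Steps.nil))))))))))) (nat_lit 74) (nat_lit 3),
  Rule.mk (nat_lit 16) (nat_lit 110) (Steps.bwd (nat_lit 11) (Steps.bwd (nat_lit 14) (Steps.bwd (nat_lit 11) (Steps.bwd (nat_lit 9) (Steps.bwd (nat_lit 18) (Steps.bwd (nat_lit 9) Steps.nil)))))) (nat_lit 66) (nat_lit 4),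
  Rule.mk (nat_lit 17) (nat_lit 126) (Steps.bwd (nat_lit 11) (Steps.bwd (nat_lit 11) (Steps.bwd (nat_lit 4) (Steps.fwd (nat_lit 122880) (Steps.fwd (nat_lit 32768) (Steps.fwd (nat_lit 122880) (Steps.bwd (nat_lit 14) Steps.nil))))))) (nat_lit 52) (nat_lit 6),
  Rule.mk (nat_lit 16) (nat_lit 126) (Steps.fwd (nat_lit 90112) (Steps.fwd (nat_lit 139264) (Steps.fwd (nat_lit 114688) (Steps.fwd (nat_lit 98304) (Steps.bwd (nat_lit 4) (Steps.bwd (nat_lit 12) (Steps.bwd (nat_lit 3) Steps.nil))))))) (nat_lit 50) (nat_lit 4),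
  Rule.mk (nat_lit 10) (nat_lit 110) (Steps.bwd (nat_lit 9) (Steps.bwd (nat_lit 10) (Steps.fwd (nat_lit 24576) (Steps.bwd (nat_lit 15) (Steps.bwd (nat_lit 4) (Steps.fwd (nat_lit 73728) Steps.nil)))))) (nat_lit 60) (nat_lit 2),
  Rule.mk (nat_lit 16) (nat_lit 110) (Steps.bwd (nat_lit 9) (Steps.fwd (nat_lit 131072) (Steps.fwd (nat_lit 122880) (Steps.fwd (nat_lit 24576) (Steps.fwd (nat_lit 24576) (Steps.bwd (nat_lit 9) Steps.nil)))))) (nat_lit 64) (nat_lit 2),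
  Rule.mk (nat_lit 9) (nat_lit 110) (Steps.bwd (nat_lit 3) (Steps.fwd (nat_lit 32768) (Steps.bwd (nat_lit 15) (Steps.bwd (nat_lit 16) (Steps.bwd (nat_lit 9) (Steps.fwd (nat_lit 131072) Steps.nil)))))) (nat_lit 65) (nat_lit 0),
  Rule.mk (nat_lit 9) (nat_lit 110) (Steps.fwd (nat_lit 32768) (Steps.fwd (nat_lit 73728) (Steps.bwd (nat_lit 16) (Steps.bwd (nat_lit 16) (Steps.bwd (nat_lit 14) (Steps.fwd (nat_lit 81920) Steps.nil)))))) (nat_lit 70) (nat_lit 1),
  Rule.mk (nat_lit 3) (nat_lit 126) (Steps.bwd (nat_lit 14) (Steps.bwd (nat_lit 14) (Steps.fwd (nat_lit 131072) (Steps.fwd (nat_lit 81920) (Steps.fwd (nat_lit 81920) (Steps.bwd (nat_lit 4) (Steps.fwd (nat_lit 122880) Steps.nil))))))) (nat_lit 52) (nat_lit 3),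
  Rule.mk (nat_lit 17) (nat_lit 142) (Steps.bwd (nat_lit 1) (Steps.bwd (nat_lit 10) (Steps.fwd (nat_lit 98304) (Steps.fwd (nat_lit 114688) (Steps.bwd (nat_lit 16) (Steps.bwd (nat_lit 10) (Steps.bwd (nat_lit 16) (Steps.fwd (nat_lit 8192) Steps.nil)))))))) (nat_lit 47) (nat_lit 8),
  Rule.mk (nat_lit 9) (nat_lit 158) (Steps.bwd (nat_lit 1) (Steps.fwd (nat_lit 139264) (Steps.bwd (nat_lit 10) (Steps.bwd (nat_lit 13) (Steps.fwd (nat_lit 8192) (Steps.bwd (nat_lit 4) (Steps.bwd (nat_lit 4) (Steps.fwd (nat_lit 73728) (Steps.fwd (nat_lit 122880) Steps.nil))))))))) (nat_lit 62) (nat_lit 3),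
  Rule.mk (nat_lit 11) (nat_lit 110) (Steps.fwd (nat_lit 73728) (Steps.bwd (nat_lit 3) (Steps.fwd (nat_lit 122880) (Steps.fwd (nat_lit 32768) (Steps.fwd (nat_lit 81920) (Steps.bwd (nat_lit 9) Steps.nil)))))) (nat_lit 61) (nat_lit 6),
  Rule.mk (nat_lit 3) (nat_lit 110) (Steps.bwd (nat_lit 11) (Steps.fwd (nat_lit 73728) (Steps.bwd (nat_lit 11) (Steps.bwd (nat_lit 9) (Steps.bwd (nat_lit 3) (Steps.fwd (nat_lit 122880) Steps.nil)))))) (nat_lit 61) (nat_lit 3),
  Rule.mk (nat_lit 9) (nat_lit 110) (Steps.bwd (nat_lit 19) (Steps.fwd (nat_lit 73728) (Steps.bwd (nat_lit 10) (Steps.bwd (nat_lit 15) (Steps.bwd (nat_lit 10) (Steps.bwd (nat_lit 17) Steps.nil)))))) (nat_lit 67) (nat_lit 5),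
  Rule.mk (nat_lit 2) (nat_lit 126) (Steps.bwd (nat_lit 4) (Steps.bwd (nat_lit 2) (Steps.fwd (nat_lit 24576) (Steps.fwd (nat_lit 8192) (Steps.bwd (nat_lit 4) (Steps.fwd (nat_lit 8192) (Steps.fwd (nat_lit 24576) Steps.nil))))))) (nat_lit 5) (nat_lit 0),
  Rule.mk (nat_lit 16) (nat_lit 110) (Steps.fwd (nat_lit 8192) (Steps.bwd (nat_lit 15) (Steps.fwd (nat_lit 16384) (Steps.bwd (nat_lit 15) (Steps.fwd (nat_lit 114688) (Steps.bwd (nat_lit 10) Steps.nil)))))) (nat_lit 45) (nat_lit 4),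
  Rule.mk (nat_lit 14) (nat_lit 78) (Steps.bwd (nat_lit 16) (Steps.bwd (nat_lit 18) (Steps.fwd (nat_lit 114688) (Steps.fwd (nat_lit 131072) Steps.nil)))) (nat_lit 40) (nat_lit 3),
  Rule.mk (nat_lit 9) (nat_lit 110) (Steps.bwd (nat_lit 16) (Steps.fwd (nat_lit 73728) (Steps.fwd (nat_lit 131072) (Steps.bwd (nat_lit 14) (Steps.bwd (nat_lit 4) (Steps.bwd (nat_lit 4) Steps.nil)))))) (nat_lit 64) (nat_lit 1),
  Rule.mk (nat_lit 3) (nat_lit 110) (Steps.fwd (nat_lit 114688) (Steps.bwd (nat_lit 16) (Steps.fwd (nat_lit 73728) (Steps.fwd (nat_lit 131072) (Steps.fwd (nat_lit 73728) (Steps.fwd (nat_lit 32768) Steps.nil)))))) (nat_lit 65) (nat_lit 2),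
  Rule.mk (nat_lit 9) (nat_lit 110) (Steps.bwd (nat_lit 17) (Steps.bwd (nat_lit 14) (Steps.bwd (nat_lit 4) (Steps.bwd (nat_lit 4) (Steps.bwd (nat_lit 9) (Steps.fwd (nat_lit 139264) Steps.nil)))))) (nat_lit 64) (nat_lit 3),
  Rule.mk (nat_lit 4) (nat_lit 110) (Steps.bwd (nat_lit 9) (Steps.fwd (nat_lit 90112) (Steps.fwd (nat_lit 114688) (Steps.fwd (nat_lit 131072) (Steps.fwd (nat_lit 131072) (Steps.bwd (nat_lit 9) Steps.nil)))))) (nat_lit 71) (nat_lit 6),
  Rule.mk (nat_lit 4) (nat_lit 126) (Steps.bwd (nat_lit 12) (Steps.fwd (nat_lit 32768) (Steps.bwd (nat_lit 16) (Steps.fwd (nat_lit 90112) (Steps.fwd (nat_lit 139264) (Steps.fwd (nat_lit 114688) (Steps.fwd (nat_lit 98304) Steps.nil))))))) (nat_lit 50) (nat_lit 1),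
  Rule.mk (nat_lit 3) (nat_lit 126) (Steps.bwd (nat_lit 12) (Steps.bwd (nat_lit 14) (Steps.fwd (nat_lit 131072) (Steps.fwd (nat_lit 81920) (Steps.bwd (nat_lit 17) (Steps.bwd (nat_lit 4) (Steps.fwd (nat_lit 98304) Steps.nil))))))) (nat_lit 51) (nat_lit 0),
  Rule.mk (nat_lit 10) (nat_lit 142) (Steps.bwd (nat_lit 13) (Steps.bwd (nat_lit 15) (Steps.fwd (nat_lit 139264) (Steps.bwd (nat_lit 10) (Steps.fwd (nat_lit 139264) (Steps.fwd (nat_lit 8192) (Steps.fwd (nat_lit 131072) (Steps.bwd (nat_lit 1) Steps.nil)))))))) (nat_lit 47) (nat_lit 1),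
  Rule.mk (nat_lit 9) (nat_lit 190) (Steps.bwd (nat_lit 13) (Steps.bwd (nat_lit 9) (Steps.fwd (nat_lit 106496) (Steps.bwd (nat_lit 17) (Steps.fwd (nat_lit 16384) (Steps.bwd (nat_lit 14) (Steps.fwd (nat_lit 16384) (Steps.fwd (nat_lit 16384) (Steps.fwd (nat_lit 16384) (Steps.fwd (nat_lit 73728) (Steps.fwd (nat_lit 106496) Steps.nil))))))))))) (nat_lit 74) (nat_lit 3),
  Rule.mk (nat_lit 10) (nat_lit 142) (Steps.bwd (nat_lit 13) (Steps.bwd (nat_lit 15) (Steps.bwd (nat_lit 16) (Steps.fwd (nat_lit 90112) (Steps.fwd (nat_lit 139264) (Steps.fwd (nat_lit 8192) (Steps.fwd (nat_lit 131072) (Steps.bwd (nat_lit 1) Steps.nil)))))))) (nat_lit 47) (nat_lit 1),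
  Rule.mk (nat_lit 9) (nat_lit 190) (Steps.bwd (nat_lit 13) (Steps.fwd (nat_lit 73728) (Steps.fwd (nat_lit 106496) (Steps.fwd (nat_lit 131072) (Steps.fwd (nat_lit 16384) (Steps.fwd (nat_lit 122880) (Steps.fwd (nat_lit 16384) (Steps.bwd (nat_lit 1) (Steps.bwd (nat_lit 1) (Steps.bwd (nat_lit 9) (Steps.bwd (nat_lit 12) Steps.nil))))))))))) (nat_lit 74) (nat_lit 3),
  Rule.mk (nat_lit 3) (nat_lit 110) (Steps.fwd (nat_lit 32768) (Steps.fwd (nat_lit 114688) (Steps.bwd (nat_lit 16) (Steps.bwd (nat_lit 9) (Steps.fwd (nat_lit 131072) (Steps.bwd (nat_lit 9) Steps.nil)))))) (nat_lit 65) (nat_lit 1),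
  Rule.mk (nat_lit 14) (nat_lit 110) (Steps.bwd (nat_lit 3) (Steps.bwd (nat_lit 11) (Steps.bwd (nat_lit 9) (Steps.fwd (nat_lit 81920) (Steps.fwd (nat_lit 73728) (Steps.fwd (nat_lit 32768) Steps.nil)))))) (nat_lit 61) (nat_lit 2),
  Rule.mk (nat_lit 14) (nat_lit 110) (Steps.bwd (nat_lit 2) (Steps.fwd (nat_lit 122880) (Steps.bwd (nat_lit 1) (Steps.fwd (nat_lit 131072) (Steps.bwd (nat_lit 11) (Steps.bwd (nat_lit 14) Steps.nil)))))) (nat_lit 44) (nat_lit 0),
  Rule.mk (nat_lit 17) (nat_lit 94) (Steps.bwd (nat_lit 11) (Steps.fwd (nat_lit 139264) (Steps.fwd (nat_lit 90112) (Steps.fwd (nat_lit 155648) (Steps.fwd (nat_lit 155648) Steps.nil))))) (nat_lit 35) (nat_lit 3),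
  Rule.mk (nat_lit 3) (nat_lit 110) (Steps.bwd (nat_lit 11) (Steps.fwd (nat_lit 73728) (Steps.bwd (nat_lit 11) (Steps.fwd (nat_lit 73728) (Steps.bwd (nat_lit 3) (Steps.bwd (nat_lit 14) Steps.nil)))))) (nat_lit 61) (nat_lit 3),
  Rule.mk (nat_lit 14) (nat_lit 110) (Steps.bwd (nat_lit 11) (Steps.fwd (nat_lit 73728) (Steps.bwd (nat_lit 18) (Steps.fwd (nat_lit 73728) (Steps.bwd (nat_lit 16) (Steps.fwd (nat_lit 81920) Steps.nil)))))) (nat_lit 66) (nat_lit 6),
  Rule.mk (nat_lit 12) (nat_lit 142) (Steps.bwd (nat_lit 11) (Steps.bwd (nat_lit 2) (Steps.bwd (nat_lit 16) (Steps.fwd (nat_lit 16384) (Steps.bwd (nat_lit 17) (Steps.fwd (nat_lit 81920) (Steps.bwd (nat_lit 17) (Steps.fwd (nat_lit 122880) Steps.nil)))))))) (nat_lit 46) (nat_lit 8),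
  Rule.mk (nat_lit 9) (nat_lit 190) (Steps.fwd (nat_lit 98304) (Steps.bwd (nat_lit 9) (Steps.bwd (nat_lit 12) (Steps.fwd (nat_lit 131072) (Steps.fwd (nat_lit 16384) (Steps.fwd (nat_lit 122880) (Steps.fwd (nat_lit 16384) (Steps.bwd (nat_lit 1) (Steps.fwd (nat_lit 16384) (Steps.fwd (nat_lit 73728) (Steps.bwd (nat_lit 12) Steps.nil))))))))))) (nat_lit 74) (nat_lit 3),
  Rule.mk (nat_lit 4) (nat_lit 78) (Steps.bwd (nat_lit 4) (Steps.bwd (nat_lit 4) (Steps.bwd (nat_lit 4) (Steps.fwd (nat_lit 24576) Steps.nil)))) (nat_lit 3) (nat_lit 0),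
  Rule.mk (nat_lit 9) (nat_lit 286) (Steps.bwd (nat_lit 4) (Steps.bwd (nat_lit 4) (Steps.bwd (nat_lit 2) (Steps.bwd (nat_lit 11) (Steps.fwd (nat_lit 16384) (Steps.fwd (nat_lit 90112) (Steps.bwd (nat_lit 2) (Steps.fwd (nat_lit 90112) (Steps.fwd (nat_lit 16384) (Steps.fwd (nat_lit 65536) (Steps.fwd (nat_lit 90112) (Steps.bwd (nat_lit 3) (Steps.bwd (nat_lit 1) (Steps.bwd (nat_lit 4) (Steps.fwd (nat_lit 65536) (Steps.bwd (nat_lit 10) (Steps.fwd (nat_lit 65536) Steps.nil))))))))))))))))) (nat_lit 57) (nat_lit 0),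
  Rule.mk (nat_lit 9) (nat_lit 110) (Steps.bwd (nat_lit 16) (Steps.bwd (nat_lit 16) (Steps.bwd (nat_lit 14) (Steps.fwd (nat_lit 81920) (Steps.fwd (nat_lit 73728) (Steps.bwd (nat_lit 3) Steps.nil)))))) (nat_lit 70) (nat_lit 3),
  Rule.mk (nat_lit 16) (nat_lit 110) (Steps.bwd (nat_lit 9) (Steps.bwd (nat_lit 17) (Steps.fwd (nat_lit 122880) (Steps.bwd (nat_lit 4) (Steps.bwd (nat_lit 4) (Steps.bwd (nat_lit 9) Steps.nil)))))) (nat_lit 64) (nat_lit 2),
  Rule.mk (nat_lit 9) (nat_lit 110) (Steps.bwd (nat_lit 16) (Steps.fwd (nat_lit 81920) (Steps.bwd (nat_lit 14) (Steps.bwd (nat_lit 11) (Steps.fwd (nat_lit 73728) (Steps.bwd (nat_lit 18) Steps.nil)))))) (nat_lit 66) (nat_lit 3),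
  Rule.mk (nat_lit 9) (nat_lit 190) (Steps.bwd (nat_lit 12) (Steps.fwd (nat_lit 73728) (Steps.fwd (nat_lit 98304) (Steps.fwd (nat_lit 73728) (Steps.bwd (nat_lit 12) (Steps.bwd (nat_lit 17) (Steps.fwd (nat_lit 16384) (Steps.fwd (nat_lit 122880) (Steps.fwd (nat_lit 16384) (Steps.bwd (nat_lit 1) (Steps.fwd (nat_lit 16384) Steps.nil))))))))))) (nat_lit 74) (nat_lit 1),
  Rule.mk (nat_lit 17) (nat_lit 78) (Steps.fwd (nat_lit 114688) (Steps.fwd (nat_lit 139264) (Steps.fwd (nat_lit 122880) (Steps.bwd (nat_lit 19) Steps.nil)))) (nat_lit 41) (nat_lit 2),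
  Rule.mk (nat_lit 3) (nat_lit 270) (Steps.bwd (nat_lit 9) (Steps.fwd (nat_lit 57344) (Steps.fwd (nat_lit 16384) (Steps.bwd (nat_lit 3) (Steps.bwd (nat_lit 3) (Steps.bwd (nat_lit 2) (Steps.bwd (nat_lit 4) (Steps.bwd (nat_lit 11) (Steps.bwd (nat_lit 17) (Steps.bwd (nat_lit 19) (Steps.fwd (nat_lit 16384) (Steps.bwd (nat_lit 9) (Steps.fwd (nat_lit 16384) (Steps.fwd (nat_lit 73728) (Steps.fwd (nat_lit 16384) (Steps.fwd (nat_lit 98304) Steps.nil)))))))))))))))) (nat_lit 77) (nat_lit 15),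
  Rule.mk (nat_lit 1) (nat_lit 110) (Steps.bwd (nat_lit 17) (Steps.bwd (nat_lit 11) (Steps.fwd (nat_lit 122880) (Steps.fwd (nat_lit 122880) (Steps.bwd (nat_lit 2) (Steps.bwd (nat_lit 14) Steps.nil)))))) (nat_lit 44) (nat_lit 3),
  Rule.mk (nat_lit 14) (nat_lit 126) (Steps.bwd (nat_lit 17) (Steps.bwd (nat_lit 11) (Steps.bwd (nat_lit 11) (Steps.fwd (nat_lit 24576) (Steps.bwd (nat_lit 14) (Steps.bwd (nat_lit 3) (Steps.bwd (nat_lit 14) Steps.nil))))))) (nat_lit 52) (nat_lit 5),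
  Rule.mk (nat_lit 2) (nat_lit 142) (Steps.bwd (nat_lit 17) (Steps.fwd (nat_lit 16384) (Steps.fwd (nat_lit 90112) (Steps.fwd (nat_lit 98304) (Steps.bwd (nat_lit 15) (Steps.fwd (nat_lit 139264) (Steps.bwd (nat_lit 10) (Steps.bwd (nat_lit 16) Steps.nil)))))))) (nat_lit 47) (nat_lit 7),
  Rule.mk (nat_lit 7) (nat_lit 94) (Steps.fwd (nat_lit 65536) (Steps.bwd (nat_lit 2) (Steps.bwd (nat_lit 2) (Steps.fwd (nat_lit 8192) (Steps.fwd (nat_lit 8192) Steps.nil))))) (nat_lit 78) (nat_lit 1),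
  Rule.mk (nat_lit 9) (nat_lit 206) (Steps.bwd (nat_lit 16) (Steps.fwd (nat_lit 147456) (Steps.fwd (nat_lit 81920) (Steps.bwd (nat_lit 2) (Steps.bwd (nat_lit 3) (Steps.bwd (nat_lit 2) (Steps.fwd (nat_lit 24576) (Steps.fwd (nat_lit 24576) (Steps.bwd (nat_lit 2) (Steps.fwd (nat_lit 73728) (Steps.bwd (nat_lit 1) (Steps.bwd (nat_lit 1) Steps.nil)))))))))))) (nat_lit 68) (nat_lit 4)]
noncomputable def R_37 : List (Rule) := [Rule.mk (nat_lit 17) (nat_lit 110) (Steps.bwd (nat_lit 9) (Steps.fwd (nat_lit 32768) (Steps.bwd (nat_lit 3) (Steps.bwd (nat_lit 15) (Steps.bwd (nat_lit 16) (Steps.fwd (nat_lit 73728) Steps.nil)))))) (nat_lit 65) (nat_lit 6),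
  Rule.mk (nat_lit 11) (nat_lit 126) (Steps.bwd (nat_lit 11) (Steps.bwd (nat_lit 4) (Steps.bwd (nat_lit 14) (Steps.fwd (nat_lit 32768) (Steps.fwd (nat_lit 122880) (Steps.fwd (nat_lit 122880) (Steps.bwd (nat_lit 17) Steps.nil))))))) (nat_lit 52) (nat_lit 7),
  Rule.mk (nat_lit 10) (nat_lit 94) (Steps.fwd (nat_lit 155648) (Steps.bwd (nat_lit 18) (Steps.bwd (nat_lit 17) (Steps.bwd (nat_lit 11) (Steps.fwd (nat_lit 139264) Steps.nil))))) (nat_lit 35) (nat_lit 0),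
  Rule.mk (nat_lit 9) (nat_lit 110) (Steps.bwd (nat_lit 10) (Steps.bwd (nat_lit 15) (Steps.bwd (nat_lit 17) (Steps.bwd (nat_lit 17) (Steps.bwd (nat_lit 9) (Steps.fwd (nat_lit 24576) Steps.nil)))))) (nat_lit 71) (nat_lit 0),
  Rule.mk (nat_lit 16) (nat_lit 110) (Steps.bwd (nat_lit 9) (Steps.bwd (nat_lit 17) (Steps.bwd (nat_lit 14) (Steps.fwd (nat_lit 24576) (Steps.bwd (nat_lit 4) (Steps.fwd (nat_lit 73728) Steps.nil)))))) (nat_lit 64) (nat_lit 2),
  Rule.mk (nat_lit 4) (nat_lit 110) (Steps.bwd (nat_lit 9) (Steps.fwd (nat_lit 139264) (Steps.fwd (nat_lit 73728) (Steps.bwd (nat_lit 17) (Steps.fwd (nat_lit 122880) (Steps.fwd (nat_lit 24576) Steps.nil)))))) (nat_lit 64) (nat_lit 0),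
  Rule.mk (nat_lit 14) (nat_lit 158) (Steps.bwd (nat_lit 9) (Steps.bwd (nat_lit 1) (Steps.fwd (nat_lit 139264) (Steps.fwd (nat_lit 90112) (Steps.fwd (nat_lit 98304) (Steps.fwd (nat_lit 8192) (Steps.bwd (nat_lit 4) (Steps.bwd (nat_lit 4) (Steps.bwd (nat_lit 9) Steps.nil))))))))) (nat_lit 62) (nat_lit 2),
  Rule.mk (nat_lit 2) (nat_lit 158) (Steps.bwd (nat_lit 9) (Steps.fwd (nat_lit 114688) (Steps.fwd (nat_lit 73728) (Steps.bwd (nat_lit 3) (Steps.bwd (nat_lit 3) (Steps.fwd (nat_lit 16384) (Steps.fwd (nat_lit 106496) (Steps.bwd (nat_lit 11) (Steps.bwd (nat_lit 17) Steps.nil))))))))) (nat_lit 63) (nat_lit 7),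
  Rule.mk (nat_lit 1) (nat_lit 206) (Steps.bwd (nat_lit 9) (Steps.fwd (nat_lit 139264) (Steps.fwd (nat_lit 147456) (Steps.fwd (nat_lit 81920) (Steps.fwd (nat_lit 8192) (Steps.fwd (nat_lit 8192) (Steps.bwd (nat_lit 9) (Steps.fwd (nat_lit 16384) (Steps.fwd (nat_lit 32768) (Steps.fwd (nat_lit 32768) (Steps.bwd (nat_lit 1) (Steps.fwd (nat_lit 24576) Steps.nil)))))))))))) (nat_lit 72) (nat_lit 7),
  Rule.mk (nat_lit 9) (nat_lit 190) (Steps.bwd (nat_lit 13) (Steps.fwd (nat_lit 73728) (Steps.fwd (nat_lit 8192) (Steps.bwd (nat_lit 2) (Steps.fwd (nat_lit 8192) (Steps.bwd (nat_lit 15) (Steps.fwd (nat_lit 8192) (Steps.fwd (nat_lit 139264) (Steps.bwd (nat_lit 13) (Steps.bwd (nat_lit 9) (Steps.fwd (nat_lit 106496) Steps.nil))))))))))) (nat_lit 75) (nat_lit 10),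
  Rule.mk (nat_lit 7) (nat_lit 94) (Steps.fwd (nat_lit 8192) (Steps.fwd (nat_lit 8192) (Steps.fwd (nat_lit 8192) (Steps.bwd (nat_lit 8) (Steps.bwd (nat_lit 1) Steps.nil))))) (nat_lit 82) (nat_lit 3),
  Rule.mk (nat_lit 8) (nat_lit 94) (Steps.fwd (nat_lit 8192) (Steps.bwd (nat_lit 7) (Steps.bwd (nat_lit 1) (Steps.fwd (nat_lit 16384) (Steps.bwd (nat_lit 1) Steps.nil))))) (nat_lit 83) (nat_lit 4),
  Rule.mk (nat_lit 10) (nat_lit 206) (Steps.bwd (nat_lit 18) (Steps.bwd (nat_lit 17) (Steps.bwd (nat_lit 9) (Steps.fwd (nat_lit 8192) (Steps.fwd (nat_lit 8192) (Steps.bwd (nat_lit 9) (Steps.fwd (nat_lit 16384) (Steps.fwd (nat_lit 32768) (Steps.fwd (nat_lit 32768) (Steps.bwd (nat_lit 1) (Steps.fwd (nat_lit 24576) (Steps.bwd (nat_lit 1) Steps.nil)))))))))))) (nat_lit 69) (nat_lit 7),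
  Rule.mk (nat_lit 15) (nat_lit 94) (Steps.bwd (nat_lit 10) (Steps.bwd (nat_lit 14) (Steps.bwd (nat_lit 18) (Steps.fwd (nat_lit 155648) (Steps.bwd (nat_lit 11) Steps.nil))))) (nat_lit 32) (nat_lit 2),
  Rule.mk (nat_lit 6) (nat_lit 62) (Steps.fwd (nat_lit 32768) (Steps.fwd (nat_lit 122880) (Steps.bwd (nat_lit 4) Steps.nil))) (nat_lit 14) (nat_lit 3),
  Rule.mk (nat_lit 1) (nat_lit 78) (Steps.bwd (nat_lit 10) (Steps.fwd (nat_lit 90112) (Steps.bwd (nat_lit 2) (Steps.fwd (nat_lit 106496) Steps.nil)))) (nat_lit 42) (nat_lit 3),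
  Rule.mk (nat_lit 14) (nat_lit 110) (Steps.fwd (nat_lit 32768) (Steps.bwd (nat_lit 11) (Steps.fwd (nat_lit 73728) (Steps.bwd (nat_lit 11) (Steps.bwd (nat_lit 9) (Steps.bwd (nat_lit 3) Steps.nil)))))) (nat_lit 61) (nat_lit 2),
  Rule.mk (nat_lit 4) (nat_lit 126) (Steps.bwd (nat_lit 13) (Steps.bwd (nat_lit 3) (Steps.bwd (nat_lit 12) (Steps.bwd (nat_lit 14) (Steps.bwd (nat_lit 17) (Steps.bwd (nat_lit 11) (Steps.bwd (nat_lit 17) Steps.nil))))))) (nat_lit 51) (nat_lit 6),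
  Rule.mk (nat_lit 4) (nat_lit 78) (Steps.fwd (nat_lit 24576) (Steps.fwd (nat_lit 24576) (Steps.bwd (nat_lit 4) (Steps.bwd (nat_lit 4) Steps.nil)))) (nat_lit 3) (nat_lit 0),
  Rule.mk (nat_lit 15) (nat_lit 126) (Steps.fwd (nat_lit 32768) (Steps.bwd (nat_lit 10) (Steps.fwd (nat_lit 90112) (Steps.bwd (nat_lit 16) (Steps.fwd (nat_lit 114688) (Steps.bwd (nat_lit 15) (Steps.bwd (nat_lit 4) Steps.nil))))))) (nat_lit 53) (nat_lit 7),
  Rule.mk (nat_lit 10) (nat_lit 110) (Steps.bwd (nat_lit 16) (Steps.bwd (nat_lit 2) (Steps.bwd (nat_lit 15) (Steps.fwd (nat_lit 16384) (Steps.fwd (nat_lit 114688) (Steps.bwd (nat_lit 15) Steps.nil)))))) (nat_lit 45) (nat_lit 3),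
  Rule.mk (nat_lit 2) (nat_lit 78) (Steps.bwd (nat_lit 18) (Steps.fwd (nat_lit 16384) (Steps.bwd (nat_lit 19) (Steps.bwd (nat_lit 19) Steps.nil)))) (nat_lit 48) (nat_lit 1),
  Rule.mk (nat_lit 9) (nat_lit 110) (Steps.bwd (nat_lit 16) (Steps.bwd (nat_lit 16) (Steps.bwd (nat_lit 14) (Steps.bwd (nat_lit 11) (Steps.fwd (nat_lit 73728) (Steps.bwd (nat_lit 3) Steps.nil)))))) (nat_lit 70) (nat_lit 3),
  Rule.mk (nat_lit 14) (nat_lit 126) (Steps.fwd (nat_lit 131072) (Steps.bwd (nat_lit 11) (Steps.bwd (nat_lit 11) (Steps.bwd (nat_lit 4) (Steps.fwd (nat_lit 122880) (Steps.bwd (nat_lit 3) (Steps.fwd (nat_lit 122880) Steps.nil))))))) (nat_lit 52) (nat_lit 5),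
  Rule.mk (nat_lit 8) (nat_lit 126) (Steps.bwd (nat_lit 19) (Steps.bwd (nat_lit 8) (Steps.fwd (nat_lit 16384) (Steps.fwd (nat_lit 16384) (Steps.bwd (nat_lit 19) (Steps.fwd (nat_lit 57344) (Steps.bwd (nat_lit 18) Steps.nil))))))) (nat_lit 87) (nat_lit 6),
  Rule.mk (nat_lit 8) (nat_lit 126) (Steps.bwd (nat_lit 1) (Steps.fwd (nat_lit 16384) (Steps.fwd (nat_lit 147456) (Steps.fwd (nat_lit 57344) (Steps.bwd (nat_lit 18) (Steps.bwd (nat_lit 8) (Steps.fwd (nat_lit 147456) Steps.nil))))))) (nat_lit 87) (nat_lit 0),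
  Rule.mk (nat_lit 9) (nat_lit 110) (Steps.bwd (nat_lit 10) (Steps.fwd (nat_lit 114688) (Steps.bwd (nat_lit 17) (Steps.bwd (nat_lit 17) (Steps.bwd (nat_lit 9) (Steps.bwd (nat_lit 4) Steps.nil)))))) (nat_lit 71) (nat_lit 0),
  Rule.mk (nat_lit 14) (nat_lit 126) (Steps.fwd (nat_lit 32768) (Steps.bwd (nat_lit 14) (Steps.fwd (nat_lit 122880) (Steps.bwd (nat_lit 17) (Steps.fwd (nat_lit 81920) (Steps.fwd (nat_lit 81920) (Steps.bwd (nat_lit 4) Steps.nil))))))) (nat_lit 52) (nat_lit 2),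
  Rule.mk (nat_lit 12) (nat_lit 126) (Steps.bwd (nat_lit 14) (Steps.bwd (nat_lit 17) (Steps.fwd (nat_lit 81920) (Steps.bwd (nat_lit 17) (Steps.fwd (nat_lit 24576) (Steps.fwd (nat_lit 98304) (Steps.bwd (nat_lit 3) Steps.nil))))))) (nat_lit 51) (nat_lit 1),
  Rule.mk (nat_lit 9) (nat_lit 270) (Steps.bwd (nat_lit 2) (Steps.bwd (nat_lit 9) (Steps.bwd (nat_lit 2) (Steps.bwd (nat_lit 18) (Steps.fwd (nat_lit 139264) (Steps.fwd (nat_lit 90112) (Steps.bwd (nat_lit 3) (Steps.bwd (nat_lit 1) (Steps.fwd (nat_lit 24576) (Steps.bwd (nat_lit 4) (Steps.fwd (nat_lit 8192) (Steps.fwd (nat_lit 65536) (Steps.fwd (nat_lit 73728) (Steps.fwd (nat_lit 24576) (Steps.fwd (nat_lit 106496) (Steps.bwd (nat_lit 2) Steps.nil)))))))))))))))) (nat_lit 76) (nat_lit 6),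
  Rule.mk (nat_lit 2) (nat_lit 94) (Steps.fwd (nat_lit 8192) (Steps.fwd (nat_lit 32768) (Steps.fwd (nat_lit 16384) (Steps.fwd (nat_lit 16384) (Steps.bwd (nat_lit 4) Steps.nil))))) (nat_lit 7) (nat_lit 2),
  Rule.mk (nat_lit 4) (nat_lit 126) (Steps.fwd (nat_lit 8192) (Steps.fwd (nat_lit 24576) (Steps.fwd (nat_lit 8192) (Steps.bwd (nat_lit 4) (Steps.bwd (nat_lit 2) (Steps.bwd (nat_lit 4) (Steps.bwd (nat_lit 2) Steps.nil))))))) (nat_lit 5) (nat_lit 1),
  Rule.mk (nat_lit 17) (nat_lit 142) (Steps.fwd (nat_lit 16384) (Steps.fwd (nat_lit 90112) (Steps.fwd (nat_lit 98304) (Steps.fwd (nat_lit 114688) (Steps.fwd (nat_lit 139264) (Steps.bwd (nat_lit 10) (Steps.bwd (nat_lit 16) (Steps.bwd (nat_lit 2) Steps.nil)))))))) (nat_lit 47) (nat_lit 8),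
  Rule.mk (nat_lit 9) (nat_lit 158) (Steps.bwd (nat_lit 15) (Steps.fwd (nat_lit 73728) (Steps.bwd (nat_lit 3) (Steps.fwd (nat_lit 32768) (Steps.bwd (nat_lit 1) (Steps.bwd (nat_lit 12) (Steps.bwd (nat_lit 11) (Steps.bwd (nat_lit 17) (Steps.fwd (nat_lit 8192) Steps.nil))))))))) (nat_lit 63) (nat_lit 8),
  Rule.mk (nat_lit 4) (nat_lit 110) (Steps.bwd (nat_lit 9) (Steps.bwd (nat_lit 16) (Steps.bwd (nat_lit 9) (Steps.bwd (nat_lit 17) (Steps.bwd (nat_lit 14) (Steps.fwd (nat_lit 24576) Steps.nil)))))) (nat_lit 64) (nat_lit 0),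
  Rule.mk (nat_lit 3) (nat_lit 110) (Steps.bwd (nat_lit 9) (Steps.bwd (nat_lit 16) (Steps.bwd (nat_lit 16) (Steps.bwd (nat_lit 14) (Steps.bwd (nat_lit 11) (Steps.bwd (nat_lit 9) Steps.nil)))))) (nat_lit 70) (nat_lit 2),
  Rule.mk (nat_lit 1) (nat_lit 206) (Steps.bwd (nat_lit 9) (Steps.bwd (nat_lit 16) (Steps.bwd (nat_lit 19) (Steps.bwd (nat_lit 11) (Steps.fwd (nat_lit 8192) (Steps.fwd (nat_lit 32768) (Steps.fwd (nat_lit 8192) (Steps.fwd (nat_lit 24576) (Steps.fwd (nat_lit 24576) (Steps.fwd (nat_lit 8192) (Steps.fwd (nat_lit 73728) (Steps.fwd (nat_lit 16384) Steps.nil)))))))))))) (nat_lit 68) (nat_lit 3),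
  Rule.mk (nat_lit 2) (nat_lit 206) (Steps.bwd (nat_lit 9) (Steps.fwd (nat_lit 16384) (Steps.fwd (nat_lit 32768) (Steps.fwd (nat_lit 32768) (Steps.fwd (nat_lit 16384) (Steps.bwd (nat_lit 4) (Steps.bwd (nat_lit 1) (Steps.fwd (nat_lit 90112) (Steps.bwd (nat_lit 18) (Steps.bwd (nat_lit 17) (Steps.fwd (nat_lit 73728) (Steps.fwd (nat_lit 8192) Steps.nil)))))))))))) (nat_lit 69) (nat_lit 12),
  Rule.mk (nat_lit 18) (nat_lit 78) (Steps.fwd (nat_lit 16384) (Steps.bwd (nat_lit 19) (Steps.fwd (nat_lit 147456) (Steps.bwd (nat_lit 2) Steps.nil)))) (nat_lit 48) (nat_lit 2),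
  Rule.mk (nat_lit 17) (nat_lit 142) (Steps.bwd (nat_lit 1) (Steps.fwd (nat_lit 90112) (Steps.fwd (nat_lit 98304) (Steps.bwd (nat_lit 15) (Steps.fwd (nat_lit 139264) (Steps.bwd (nat_lit 10) (Steps.fwd (nat_lit 139264) (Steps.bwd (nat_lit 2) Steps.nil)))))))) (nat_lit 47) (nat_lit 8),
  Rule.mk (nat_lit 4) (nat_lit 78) (Steps.bwd (nat_lit 4) (Steps.fwd (nat_lit 24576) (Steps.fwd (nat_lit 24576) (Steps.fwd (nat_lit 24576) Steps.nil)))) (nat_lit 3) (nat_lit 0),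
  Rule.mk (nat_lit 1) (nat_lit 94) (Steps.bwd (nat_lit 4) (Steps.bwd (nat_lit 2) (Steps.fwd (nat_lit 8192) (Steps.fwd (nat_lit 32768) (Steps.fwd (nat_lit 16384) Steps.nil))))) (nat_lit 7) (nat_lit 0),
  Rule.mk (nat_lit 17) (nat_lit 142) (Steps.bwd (nat_lit 1) (Steps.bwd (nat_lit 10) (Steps.bwd (nat_lit 13) (Steps.bwd (nat_lit 15) (Steps.fwd (nat_lit 139264) (Steps.bwd (nat_lit 10) (Steps.bwd (nat_lit 16) (Steps.bwd (nat_lit 2) Steps.nil)))))))) (nat_lit 47) (nat_lit 8),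
  Rule.mk (nat_lit 15) (nat_lit 78) (Steps.fwd (nat_lit 98304) (Steps.fwd (nat_lit 122880) (Steps.bwd (nat_lit 12) (Steps.fwd (nat_lit 147456) Steps.nil)))) (nat_lit 37) (nat_lit 2),
  Rule.mk (nat_lit 15) (nat_lit 94) (Steps.fwd (nat_lit 90112) (Steps.fwd (nat_lit 122880) (Steps.bwd (nat_lit 18) (Steps.fwd (nat_lit 155648) (Steps.bwd (nat_lit 11) Steps.nil))))) (nat_lit 32) (nat_lit 2),
  Rule.mk (nat_lit 7) (nat_lit 94) (Steps.bwd (nat_lit 2) (Steps.fwd (nat_lit 8192) (Steps.bwd (nat_lit 2) (Steps.fwd (nat_lit 8192) (Steps.bwd (nat_lit 7) Steps.nil))))) (nat_lit 78) (nat_lit 2),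
  Rule.mk (nat_lit 2) (nat_lit 94) (Steps.fwd (nat_lit 24576) (Steps.bwd (nat_lit 1) (Steps.bwd (nat_lit 1) (Steps.fwd (nat_lit 32768) (Steps.bwd (nat_lit 2) Steps.nil))))) (nat_lit 6) (nat_lit 2),
  Rule.mk (nat_lit 9) (nat_lit 206) (Steps.fwd (nat_lit 16384) (Steps.bwd (nat_lit 3) (Steps.bwd (nat_lit 3) (Steps.fwd (nat_lit 16384) (Steps.bwd (nat_lit 4) (Steps.fwd (nat_lit 16384) (Steps.bwd (nat_lit 9) (Steps.bwd (nat_lit 16) (Steps.bwd (nat_lit 19) (Steps.bwd (nat_lit 11) (Steps.fwd (nat_lit 8192) (Steps.bwd (nat_lit 2) Steps.nil)))))))))))) (nat_lit 72) (nat_lit 1),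
  Rule.mk (nat_lit 10) (nat_lit 110) (Steps.bwd (nat_lit 9) (Steps.bwd (nat_lit 10) (Steps.fwd (nat_lit 24576) (Steps.bwd (nat_lit 15) (Steps.fwd (nat_lit 24576) (Steps.bwd (nat_lit 9) Steps.nil)))))) (nat_lit 60) (nat_lit 2),
  Rule.mk (nat_lit 14) (nat_lit 94) (Steps.fwd (nat_lit 155648) (Steps.fwd (nat_lit 155648) (Steps.bwd (nat_lit 11) (Steps.bwd (nat_lit 15) (Steps.bwd (nat_lit 10) Steps.nil))))) (nat_lit 32) (nat_lit 4),
  Rule.mk (nat_lit 9) (nat_lit 270) (Steps.bwd (nat_lit 2) (Steps.fwd (nat_lit 73728) (Steps.bwd (nat_lit 2) (Steps.fwd (nat_lit 155648) (Steps.fwd (nat_lit 139264) (Steps.fwd (nat_lit 90112) (Steps.fwd (nat_lit 32768) (Steps.fwd (nat_lit 16384) (Steps.fwd (nat_lit 24576) (Steps.fwd (nat_lit 24576) (Steps.bwd (nat_lit 2) (Steps.fwd (nat_lit 65536) (Steps.bwd (nat_lit 9) (Steps.bwd (nat_lit 4) (Steps.bwd (nat_lit 12) (Steps.bwd (nat_lit 2) Steps.nil)))))))))))))))) (nat_lit 76) (nat_lit 6),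
  Rule.mk (nat_lit 9) (nat_lit 110) (Steps.bwd (nat_lit 17) (Steps.fwd (nat_lit 73728) (Steps.fwd (nat_lit 32768) (Steps.bwd (nat_lit 3) (Steps.bwd (nat_lit 15) (Steps.bwd (nat_lit 16) Steps.nil)))))) (nat_lit 65) (nat_lit 5),
  Rule.mk (nat_lit 10) (nat_lit 110) (Steps.bwd (nat_lit 17) (Steps.fwd (nat_lit 73728) (Steps.bwd (nat_lit 19) (Steps.bwd (nat_lit 9) (Steps.fwd (nat_lit 90112) (Steps.bwd (nat_lit 15) Steps.nil)))))) (nat_lit 67) (nat_lit 3),
  Rule.mk (nat_lit 3) (nat_lit 126) (Steps.bwd (nat_lit 10) (Steps.bwd (nat_lit 10) (Steps.bwd (nat_lit 16) (Steps.fwd (nat_lit 114688) (Steps.fwd (nat_lit 114688) (Steps.fwd (nat_lit 24576) (Steps.fwd (nat_lit 114688) Steps.nil))))))) (nat_lit 53) (nat_lit 0),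
  Rule.mk (nat_lit 4) (nat_lit 126) (Steps.bwd (nat_lit 12) (Steps.fwd (nat_lit 32768) (Steps.bwd (nat_lit 16) (Steps.fwd (nat_lit 90112) (Steps.bwd (nat_lit 16) (Steps.bwd (nat_lit 15) (Steps.fwd (nat_lit 98304) Steps.nil))))))) (nat_lit 50) (nat_lit 1),
  Rule.mk (nat_lit 9) (nat_lit 190) (Steps.bwd (nat_lit 12) (Steps.bwd (nat_lit 17) (Steps.fwd (nat_lit 16384) (Steps.bwd (nat_lit 14) (Steps.fwd (nat_lit 16384) (Steps.bwd (nat_lit 1) (Steps.bwd (nat_lit 1) (Steps.fwd (nat_lit 73728) (Steps.bwd (nat_lit 12) (Steps.bwd (nat_lit 9) (Steps.fwd (nat_lit 98304) Steps.nil))))))))))) (nat_lit 74) (nat_lit 5),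
  Rule.mk (nat_lit 1) (nat_lit 94) (Steps.bwd (nat_lit 3) (Steps.fwd (nat_lit 8192) (Steps.fwd (nat_lit 8192) (Steps.fwd (nat_lit 24576) (Steps.bwd (nat_lit 1) Steps.nil))))) (nat_lit 6) (nat_lit 5),
  Rule.mk (nat_lit 11) (nat_lit 110) (Steps.bwd (nat_lit 9) (Steps.bwd (nat_lit 11) (Steps.bwd (nat_lit 9) (Steps.fwd (nat_lit 32768) (Steps.bwd (nat_lit 14) (Steps.bwd (nat_lit 3) Steps.nil)))))) (nat_lit 61) (nat_lit 4),
  Rule.mk (nat_lit 16) (nat_lit 126) (Steps.bwd (nat_lit 10) (Steps.bwd (nat_lit 16) (Steps.bwd (nat_lit 15) (Steps.fwd (nat_lit 98304) (Steps.bwd (nat_lit 4) (Steps.fwd (nat_lit 106496) (Steps.bwd (nat_lit 3) Steps.nil))))))) (nat_lit 50) (nat_lit 4),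
  Rule.mk (nat_lit 10) (nat_lit 94) (Steps.bwd (nat_lit 16) (Steps.bwd (nat_lit 19) (Steps.fwd (nat_lit 147456) (Steps.fwd (nat_lit 81920) (Steps.bwd (nat_lit 17) Steps.nil))))) (nat_lit 34) (nat_lit 3),
  Rule.mk (nat_lit 9) (nat_lit 110) (Steps.bwd (nat_lit 16) (Steps.fwd (nat_lit 139264) (Steps.bwd (nat_lit 14) (Steps.bwd (nat_lit 11) (Steps.fwd (nat_lit 73728) (Steps.fwd (nat_lit 32768) Steps.nil)))))) (nat_lit 70) (nat_lit 3),
  Rule.mk (nat_lit 18) (nat_lit 110) (Steps.bwd (nat_lit 9) (Steps.bwd (nat_lit 16) (Steps.bwd (nat_lit 11) (Steps.bwd (nat_lit 14) (Steps.fwd (nat_lit 81920) (Steps.bwd (nat_lit 9) Steps.nil)))))) (nat_lit 66) (nat_lit 2),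
  Rule.mk (nat_lit 19) (nat_lit 110) (Steps.bwd (nat_lit 9) (Steps.fwd (nat_lit 90112) (Steps.bwd (nat_lit 15) (Steps.bwd (nat_lit 10) (Steps.fwd (nat_lit 131072) (Steps.fwd (nat_lit 73728) Steps.nil)))))) (nat_lit 67) (nat_lit 6),
  Rule.mk (nat_lit 2) (nat_lit 78) (Steps.fwd (nat_lit 155648) (Steps.fwd (nat_lit 16384) (Steps.fwd (nat_lit 147456) (Steps.bwd (nat_lit 19) Steps.nil)))) (nat_lit 48) (nat_lit 1)]
noncomputable def R_38 : List (Rule) := [Rule.mk (nat_lit 9) (nat_lit 190) (Steps.bwd (nat_lit 12) (Steps.fwd (nat_lit 131072) (Steps.fwd (nat_lit 16384) (Steps.bwd (nat_lit 14) (Steps.fwd (nat_lit 16384) (Steps.fwd (nat_lit 16384) (Steps.fwd (nat_lit 16384) (Steps.bwd (nat_lit 9) (Steps.fwd (nat_lit 106496) (Steps.fwd (nat_lit 73728) (Steps.fwd (nat_lit 98304) Steps.nil))))))))))) (nat_lit 74) (nat_lit 5),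
  Rule.mk (nat_lit 10) (nat_lit 110) (Steps.bwd (nat_lit 17) (Steps.fwd (nat_lit 73728) (Steps.bwd (nat_lit 19) (Steps.fwd (nat_lit 73728) (Steps.fwd (nat_lit 90112) (Steps.fwd (nat_lit 114688) Steps.nil)))))) (nat_lit 67) (nat_lit 3),
  Rule.mk (nat_lit 9) (nat_lit 190) (Steps.bwd (nat_lit 12) (Steps.bwd (nat_lit 17) (Steps.bwd (nat_lit 1) (Steps.fwd (nat_lit 122880) (Steps.fwd (nat_lit 16384) (Steps.fwd (nat_lit 16384) (Steps.fwd (nat_lit 16384) (Steps.bwd (nat_lit 9) (Steps.fwd (nat_lit 106496) (Steps.bwd (nat_lit 9) (Steps.bwd (nat_lit 13) Steps.nil))))))))))) (nat_lit 74) (nat_lit 5),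
  Rule.mk (nat_lit 13) (nat_lit 126) (Steps.bwd (nat_lit 4) (Steps.bwd (nat_lit 12) (Steps.bwd (nat_lit 3) (Steps.fwd (nat_lit 139264) (Steps.bwd (nat_lit 10) (Steps.fwd (nat_lit 139264) (Steps.bwd (nat_lit 15) Steps.nil))))))) (nat_lit 50) (nat_lit 0),
  Rule.mk (nat_lit 9) (nat_lit 190) (Steps.fwd (nat_lit 106496) (Steps.bwd (nat_lit 17) (Steps.fwd (nat_lit 16384) (Steps.bwd (nat_lit 14) (Steps.bwd (nat_lit 1) (Steps.bwd (nat_lit 1) (Steps.bwd (nat_lit 1) (Steps.fwd (nat_lit 73728) (Steps.bwd (nat_lit 12) (Steps.bwd (nat_lit 9) (Steps.bwd (nat_lit 13) Steps.nil))))))))))) (nat_lit 74) (nat_lit 5),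
  Rule.mk (nat_lit 13) (nat_lit 78) (Steps.bwd (nat_lit 11) (Steps.bwd (nat_lit 12) (Steps.bwd (nat_lit 10) (Steps.bwd (nat_lit 18) Steps.nil)))) (nat_lit 18) (nat_lit 2),
  Rule.mk (nat_lit 3) (nat_lit 110) (Steps.bwd (nat_lit 11) (Steps.fwd (nat_lit 73728) (Steps.fwd (nat_lit 81920) (Steps.fwd (nat_lit 73728) (Steps.bwd (nat_lit 3) (Steps.bwd (nat_lit 14) Steps.nil)))))) (nat_lit 61) (nat_lit 3),
  Rule.mk (nat_lit 9) (nat_lit 190) (Steps.bwd (nat_lit 12) (Steps.fwd (nat_lit 131072) (Steps.bwd (nat_lit 1) (Steps.fwd (nat_lit 122880) (Steps.fwd (nat_lit 16384) (Steps.bwd (nat_lit 1) (Steps.fwd (nat_lit 16384) (Steps.bwd (nat_lit 9) (Steps.bwd (nat_lit 12) (Steps.bwd (nat_lit 9) (Steps.bwd (nat_lit 13) Steps.nil))))))))))) (nat_lit 74) (nat_lit 5),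
  Rule.mk (nat_lit 9) (nat_lit 110) (Steps.bwd (nat_lit 17) (Steps.bwd (nat_lit 14) (Steps.bwd (nat_lit 4) (Steps.bwd (nat_lit 4) (Steps.bwd (nat_lit 9) (Steps.bwd (nat_lit 16) Steps.nil)))))) (nat_lit 64) (nat_lit 3),
  Rule.mk (nat_lit 14) (nat_lit 126) (Steps.bwd (nat_lit 17) (Steps.fwd (nat_lit 81920) (Steps.fwd (nat_lit 131072) (Steps.fwd (nat_lit 24576) (Steps.bwd (nat_lit 13) (Steps.bwd (nat_lit 3) (Steps.fwd (nat_lit 106496) Steps.nil))))))) (nat_lit 51) (nat_lit 2),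
  Rule.mk (nat_lit 9) (nat_lit 190) (Steps.bwd (nat_lit 13) (Steps.bwd (nat_lit 9) (Steps.fwd (nat_lit 106496) (Steps.fwd (nat_lit 131072) (Steps.fwd (nat_lit 16384) (Steps.bwd (nat_lit 14) (Steps.bwd (nat_lit 1) (Steps.bwd (nat_lit 1) (Steps.bwd (nat_lit 1) (Steps.bwd (nat_lit 9) (Steps.fwd (nat_lit 106496) Steps.nil))))))))))) (nat_lit 74) (nat_lit 3),
  Rule.mk (nat_lit 16) (nat_lit 110) (Steps.bwd (nat_lit 9) (Steps.bwd (nat_lit 17) (Steps.fwd (nat_lit 122880) (Steps.fwd (nat_lit 24576) (Steps.fwd (nat_lit 24576) (Steps.fwd (nat_lit 73728) Steps.nil)))))) (nat_lit 64) (nat_lit 2),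
  Rule.mk (nat_lit 11) (nat_lit 110) (Steps.bwd (nat_lit 9) (Steps.bwd (nat_lit 18) (Steps.fwd (nat_lit 73728) (Steps.fwd (nat_lit 139264) (Steps.fwd (nat_lit 81920) (Steps.bwd (nat_lit 14) Steps.nil)))))) (nat_lit 66) (nat_lit 0),
  Rule.mk (nat_lit 4) (nat_lit 94) (Steps.bwd (nat_lit 2) (Steps.fwd (nat_lit 8192) (Steps.bwd (nat_lit 3) (Steps.fwd (nat_lit 16384) (Steps.bwd (nat_lit 1) Steps.nil))))) (nat_lit 7) (nat_lit 1),
  Rule.mk (nat_lit 15) (nat_lit 110) (Steps.bwd (nat_lit 15) (Steps.fwd (nat_lit 90112) (Steps.bwd (nat_lit 16) (Steps.fwd (nat_lit 8192) (Steps.fwd (nat_lit 114688) (Steps.bwd (nat_lit 1) Steps.nil)))))) (nat_lit 45) (nat_lit 1),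
  Rule.mk (nat_lit 16) (nat_lit 126) (Steps.bwd (nat_lit 15) (Steps.bwd (nat_lit 13) (Steps.bwd (nat_lit 4) (Steps.bwd (nat_lit 12) (Steps.fwd (nat_lit 32768) (Steps.bwd (nat_lit 16) (Steps.fwd (nat_lit 90112) Steps.nil))))))) (nat_lit 50) (nat_lit 6),
  Rule.mk (nat_lit 9) (nat_lit 110) (Steps.bwd (nat_lit 17) (Steps.bwd (nat_lit 9) (Steps.bwd (nat_lit 3) (Steps.fwd (nat_lit 32768) (Steps.bwd (nat_lit 15) (Steps.bwd (nat_lit 16) Steps.nil)))))) (nat_lit 65) (nat_lit 5),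
  Rule.mk (nat_lit 9) (nat_lit 110) (Steps.bwd (nat_lit 11) (Steps.bwd (nat_lit 9) (Steps.bwd (nat_lit 3) (Steps.fwd (nat_lit 122880) (Steps.fwd (nat_lit 32768) (Steps.fwd (nat_lit 81920) Steps.nil)))))) (nat_lit 61) (nat_lit 5),
  Rule.mk (nat_lit 14) (nat_lit 110) (Steps.bwd (nat_lit 11) (Steps.bwd (nat_lit 9) (Steps.fwd (nat_lit 155648) (Steps.bwd (nat_lit 9) (Steps.bwd (nat_lit 16) (Steps.fwd (nat_lit 81920) Steps.nil)))))) (nat_lit 66) (nat_lit 6),
  Rule.mk (nat_lit 16) (nat_lit 78) (Steps.bwd (nat_lit 18) (Steps.bwd (nat_lit 15) (Steps.bwd (nat_lit 17) (Steps.bwd (nat_lit 14) Steps.nil)))) (nat_lit 40) (nat_lit 4),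
  Rule.mk (nat_lit 14) (nat_lit 110) (Steps.bwd (nat_lit 2) (Steps.fwd (nat_lit 122880) (Steps.bwd (nat_lit 1) (Steps.bwd (nat_lit 17) (Steps.fwd (nat_lit 81920) (Steps.bwd (nat_lit 14) Steps.nil)))))) (nat_lit 44) (nat_lit 0),
  Rule.mk (nat_lit 4) (nat_lit 110) (Steps.bwd (nat_lit 9) (Steps.bwd (nat_lit 16) (Steps.fwd (nat_lit 73728) (Steps.bwd (nat_lit 17) (Steps.bwd (nat_lit 14) (Steps.bwd (nat_lit 4) Steps.nil)))))) (nat_lit 64) (nat_lit 0),
  Rule.mk (nat_lit 16) (nat_lit 78) (Steps.fwd (nat_lit 155648) (Steps.bwd (nat_lit 15) (Steps.bwd (nat_lit 17) (Steps.bwd (nat_lit 14) Steps.nil)))) (nat_lit 40) (nat_lit 4),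
  Rule.mk (nat_lit 10) (nat_lit 110) (Steps.bwd (nat_lit 16) (Steps.bwd (nat_lit 2) (Steps.fwd (nat_lit 114688) (Steps.fwd (nat_lit 16384) (Steps.fwd (nat_lit 114688) (Steps.fwd (nat_lit 114688) Steps.nil)))))) (nat_lit 45) (nat_lit 3),
  Rule.mk (nat_lit 12) (nat_lit 126) (Steps.fwd (nat_lit 122880) (Steps.bwd (nat_lit 17) (Steps.bwd (nat_lit 11) (Steps.bwd (nat_lit 17) (Steps.fwd (nat_lit 24576) (Steps.bwd (nat_lit 13) (Steps.bwd (nat_lit 3) Steps.nil))))))) (nat_lit 51) (nat_lit 1),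
  Rule.mk (nat_lit 16) (nat_lit 126) (Steps.bwd (nat_lit 10) (Steps.bwd (nat_lit 16) (Steps.fwd (nat_lit 114688) (Steps.fwd (nat_lit 98304) (Steps.bwd (nat_lit 4) (Steps.fwd (nat_lit 106496) (Steps.bwd (nat_lit 3) Steps.nil))))))) (nat_lit 50) (nat_lit 4),
  Rule.mk (nat_lit 9) (nat_lit 158) (Steps.fwd (nat_lit 114688) (Steps.fwd (nat_lit 73728) (Steps.fwd (nat_lit 32768) (Steps.bwd (nat_lit 3) (Steps.fwd (nat_lit 16384) (Steps.fwd (nat_lit 106496) (Steps.bwd (nat_lit 11) (Steps.fwd (nat_lit 131072) (Steps.bwd (nat_lit 2) Steps.nil))))))))) (nat_lit 63) (nat_lit 8),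
  Rule.mk (nat_lit 17) (nat_lit 110) (Steps.bwd (nat_lit 9) (Steps.bwd (nat_lit 4) (Steps.fwd (nat_lit 73728) (Steps.fwd (nat_lit 90112) (Steps.bwd (nat_lit 15) (Steps.bwd (nat_lit 17) Steps.nil)))))) (nat_lit 71) (nat_lit 4),
  Rule.mk (nat_lit 11) (nat_lit 126) (Steps.bwd (nat_lit 11) (Steps.fwd (nat_lit 24576) (Steps.bwd (nat_lit 14) (Steps.bwd (nat_lit 3) (Steps.bwd (nat_lit 14) (Steps.bwd (nat_lit 14) (Steps.bwd (nat_lit 17) Steps.nil))))))) (nat_lit 52) (nat_lit 7),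
  Rule.mk (nat_lit 15) (nat_lit 126) (Steps.bwd (nat_lit 3) (Steps.bwd (nat_lit 10) (Steps.fwd (nat_lit 90112) (Steps.bwd (nat_lit 16) (Steps.fwd (nat_lit 114688) (Steps.fwd (nat_lit 114688) (Steps.bwd (nat_lit 4) Steps.nil))))))) (nat_lit 53) (nat_lit 7),
  Rule.mk (nat_lit 8) (nat_lit 94) (Steps.fwd (nat_lit 16384) (Steps.bwd (nat_lit 7) (Steps.bwd (nat_lit 2) (Steps.fwd (nat_lit 8192) (Steps.bwd (nat_lit 2) Steps.nil))))) (nat_lit 82) (nat_lit 1),
  Rule.mk (nat_lit 7) (nat_lit 94) (Steps.fwd (nat_lit 8192) (Steps.bwd (nat_lit 2) (Steps.fwd (nat_lit 8192) (Steps.fwd (nat_lit 57344) (Steps.bwd (nat_lit 1) Steps.nil))))) (nat_lit 82) (nat_lit 3),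
  Rule.mk (nat_lit 17) (nat_lit 142) (Steps.fwd (nat_lit 16384) (Steps.fwd (nat_lit 90112) (Steps.bwd (nat_lit 13) (Steps.bwd (nat_lit 15) (Steps.fwd (nat_lit 139264) (Steps.bwd (nat_lit 10) (Steps.bwd (nat_lit 16) (Steps.bwd (nat_lit 2) Steps.nil)))))))) (nat_lit 47) (nat_lit 8),
  Rule.mk (nat_lit 9) (nat_lit 158) (Steps.bwd (nat_lit 15) (Steps.bwd (nat_lit 9) (Steps.fwd (nat_lit 32768) (Steps.bwd (nat_lit 3) (Steps.bwd (nat_lit 1) (Steps.bwd (nat_lit 12) (Steps.fwd (nat_lit 81920) (Steps.bwd (nat_lit 17) (Steps.bwd (nat_lit 2) Steps.nil))))))))) (nat_lit 63) (nat_lit 8),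
  Rule.mk (nat_lit 4) (nat_lit 110) (Steps.bwd (nat_lit 9) (Steps.bwd (nat_lit 10) (Steps.bwd (nat_lit 15) (Steps.fwd (nat_lit 131072) (Steps.fwd (nat_lit 131072) (Steps.fwd (nat_lit 73728) Steps.nil)))))) (nat_lit 71) (nat_lit 6),
  Rule.mk (nat_lit 2) (nat_lit 142) (Steps.bwd (nat_lit 16) (Steps.fwd (nat_lit 16384) (Steps.fwd (nat_lit 131072) (Steps.fwd (nat_lit 81920) (Steps.fwd (nat_lit 131072) (Steps.fwd (nat_lit 122880) (Steps.bwd (nat_lit 12) (Steps.bwd (nat_lit 11) Steps.nil)))))))) (nat_lit 46) (nat_lit 1),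
  Rule.mk (nat_lit 1) (nat_lit 94) (Steps.bwd (nat_lit 4) (Steps.fwd (nat_lit 8192) (Steps.bwd (nat_lit 2) (Steps.fwd (nat_lit 32768) (Steps.bwd (nat_lit 1) Steps.nil))))) (nat_lit 7) (nat_lit 0),
  Rule.mk (nat_lit 2) (nat_lit 126) (Steps.bwd (nat_lit 4) (Steps.fwd (nat_lit 8192) (Steps.fwd (nat_lit 24576) (Steps.bwd (nat_lit 2) (Steps.fwd (nat_lit 24576) (Steps.fwd (nat_lit 8192) (Steps.fwd (nat_lit 24576) Steps.nil))))))) (nat_lit 5) (nat_lit 0),
  Rule.mk (nat_lit 15) (nat_lit 110) (Steps.bwd (nat_lit 1) (Steps.bwd (nat_lit 15) (Steps.fwd (nat_lit 114688) (Steps.bwd (nat_lit 10) (Steps.bwd (nat_lit 16) (Steps.bwd (nat_lit 2) Steps.nil)))))) (nat_lit 45) (nat_lit 6),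
  Rule.mk (nat_lit 2) (nat_lit 110) (Steps.bwd (nat_lit 15) (Steps.fwd (nat_lit 16384) (Steps.bwd (nat_lit 15) (Steps.fwd (nat_lit 114688) (Steps.fwd (nat_lit 90112) (Steps.bwd (nat_lit 16) Steps.nil)))))) (nat_lit 45) (nat_lit 5),
  Rule.mk (nat_lit 9) (nat_lit 158) (Steps.bwd (nat_lit 15) (Steps.bwd (nat_lit 9) (Steps.fwd (nat_lit 32768) (Steps.fwd (nat_lit 32768) (Steps.bwd (nat_lit 1) (Steps.fwd (nat_lit 106496) (Steps.bwd (nat_lit 11) (Steps.bwd (nat_lit 17) (Steps.bwd (nat_lit 2) Steps.nil))))))))) (nat_lit 63) (nat_lit 8),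
  Rule.mk (nat_lit 2) (nat_lit 142) (Steps.bwd (nat_lit 17) (Steps.bwd (nat_lit 1) (Steps.fwd (nat_lit 90112) (Steps.fwd (nat_lit 98304) (Steps.bwd (nat_lit 15) (Steps.fwd (nat_lit 139264) (Steps.fwd (nat_lit 90112) (Steps.fwd (nat_lit 139264) Steps.nil)))))))) (nat_lit 47) (nat_lit 7),
  Rule.mk (nat_lit 7) (nat_lit 126) (Steps.bwd (nat_lit 18) (Steps.fwd (nat_lit 8192) (Steps.bwd (nat_lit 2) (Steps.bwd (nat_lit 7) (Steps.fwd (nat_lit 155648) (Steps.bwd (nat_lit 7) (Steps.fwd (nat_lit 147456) Steps.nil))))))) (nat_lit 86) (nat_lit 5),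
  Rule.mk (nat_lit 8) (nat_lit 126) (Steps.bwd (nat_lit 18) (Steps.fwd (nat_lit 57344) (Steps.fwd (nat_lit 147456) (Steps.bwd (nat_lit 8) (Steps.bwd (nat_lit 1) (Steps.bwd (nat_lit 1) (Steps.bwd (nat_lit 19) Steps.nil))))))) (nat_lit 87) (nat_lit 4),
  Rule.mk (nat_lit 10) (nat_lit 110) (Steps.bwd (nat_lit 9) (Steps.fwd (nat_lit 90112) (Steps.bwd (nat_lit 4) (Steps.bwd (nat_lit 15) (Steps.bwd (nat_lit 4) (Steps.bwd (nat_lit 9) Steps.nil)))))) (nat_lit 60) (nat_lit 2),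
  Rule.mk (nat_lit 7) (nat_lit 94) (Steps.bwd (nat_lit 1) (Steps.fwd (nat_lit 16384) (Steps.fwd (nat_lit 16384) (Steps.bwd (nat_lit 8) (Steps.bwd (nat_lit 2) Steps.nil))))) (nat_lit 83) (nat_lit 0),
  Rule.mk (nat_lit 7) (nat_lit 126) (Steps.bwd (nat_lit 19) (Steps.bwd (nat_lit 7) (Steps.fwd (nat_lit 155648) (Steps.fwd (nat_lit 8192) (Steps.fwd (nat_lit 8192) (Steps.bwd (nat_lit 7) (Steps.bwd (nat_lit 18) Steps.nil))))))) (nat_lit 86) (nat_lit 3),
  Rule.mk (nat_lit 10) (nat_lit 78) (Steps.fwd (nat_lit 155648) (Steps.fwd (nat_lit 98304) (Steps.fwd (nat_lit 81920) (Steps.bwd (nat_lit 12) Steps.nil)))) (nat_lit 18) (nat_lit 0),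
  Rule.mk (nat_lit 11) (nat_lit 78) (Steps.bwd (nat_lit 13) (Steps.bwd (nat_lit 10) (Steps.bwd (nat_lit 12) (Steps.fwd (nat_lit 147456) Steps.nil)))) (nat_lit 19) (nat_lit 1),
  Rule.mk (nat_lit 18) (nat_lit 78) (Steps.fwd (nat_lit 8192) (Steps.bwd (nat_lit 19) (Steps.bwd (nat_lit 1) (Steps.bwd (nat_lit 18) Steps.nil)))) (nat_lit 49) (nat_lit 2),
  Rule.mk (nat_lit 7) (nat_lit 126) (Steps.bwd (nat_lit 18) (Steps.fwd (nat_lit 8192) (Steps.bwd (nat_lit 2) (Steps.bwd (nat_lit 7) (Steps.bwd (nat_lit 18) (Steps.fwd (nat_lit 65536) (Steps.fwd (nat_lit 147456) Steps.nil))))))) (nat_lit 86) (nat_lit 5),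
  Rule.mk (nat_lit 14) (nat_lit 110) (Steps.bwd (nat_lit 3) (Steps.fwd (nat_lit 81920) (Steps.bwd (nat_lit 9) (Steps.fwd (nat_lit 81920) (Steps.fwd (nat_lit 73728) (Steps.bwd (nat_lit 3) Steps.nil)))))) (nat_lit 61) (nat_lit 2),
  Rule.mk (nat_lit 10) (nat_lit 94) (Steps.bwd (nat_lit 19) (Steps.fwd (nat_lit 147456) (Steps.fwd (nat_lit 114688) (Steps.bwd (nat_lit 11) (Steps.bwd (nat_lit 14) Steps.nil))))) (nat_lit 33) (nat_lit 0),
  Rule.mk (nat_lit 11) (nat_lit 110) (Steps.fwd (nat_lit 73728) (Steps.fwd (nat_lit 155648) (Steps.fwd (nat_lit 73728) (Steps.fwd (nat_lit 139264) (Steps.bwd (nat_lit 11) (Steps.bwd (nat_lit 14) Steps.nil)))))) (nat_lit 66) (nat_lit 0),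
  Rule.mk (nat_lit 15) (nat_lit 94) (Steps.bwd (nat_lit 10) (Steps.fwd (nat_lit 122880) (Steps.bwd (nat_lit 18) (Steps.fwd (nat_lit 155648) (Steps.bwd (nat_lit 11) Steps.nil))))) (nat_lit 32) (nat_lit 2),
  Rule.mk (nat_lit 2) (nat_lit 78) (Steps.fwd (nat_lit 106496) (Steps.fwd (nat_lit 16384) (Steps.bwd (nat_lit 10) (Steps.bwd (nat_lit 10) Steps.nil)))) (nat_lit 42) (nat_lit 1),
  Rule.mk (nat_lit 9) (nat_lit 158) (Steps.bwd (nat_lit 1) (Steps.bwd (nat_lit 16) (Steps.bwd (nat_lit 10) (Steps.fwd (nat_lit 98304) (Steps.bwd (nat_lit 2) (Steps.bwd (nat_lit 4) (Steps.fwd (nat_lit 24576) (Steps.fwd (nat_lit 73728) (Steps.fwd (nat_lit 122880) Steps.nil))))))))) (nat_lit 62) (nat_lit 3),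
  Rule.mk (nat_lit 4) (nat_lit 270) (Steps.bwd (nat_lit 12) (Steps.bwd (nat_lit 2) (Steps.bwd (nat_lit 9) (Steps.fwd (nat_lit 8192) (Steps.fwd (nat_lit 73728) (Steps.fwd (nat_lit 8192) (Steps.fwd (nat_lit 155648) (Steps.fwd (nat_lit 139264) (Steps.bwd (nat_lit 10) (Steps.fwd (nat_lit 32768) (Steps.fwd (nat_lit 16384) (Steps.fwd (nat_lit 24576) (Steps.bwd (nat_lit 4) (Steps.bwd (nat_lit 2) (Steps.bwd (nat_lit 7) (Steps.fwd (nat_lit 73728) Steps.nil)))))))))))))))) (nat_lit 76) (nat_lit 3),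
  Rule.mk (nat_lit 13) (nat_lit 126) (Steps.fwd (nat_lit 32768) (Steps.fwd (nat_lit 106496) (Steps.bwd (nat_lit 14) (Steps.fwd (nat_lit 131072) (Steps.bwd (nat_lit 11) (Steps.bwd (nat_lit 17) (Steps.bwd (nat_lit 4) Steps.nil))))))) (nat_lit 51) (nat_lit 7),
  Rule.mk (nat_lit 11) (nat_lit 110) (Steps.bwd (nat_lit 14) (Steps.fwd (nat_lit 81920) (Steps.bwd (nat_lit 9) (Steps.bwd (nat_lit 18) (Steps.bwd (nat_lit 9) (Steps.bwd (nat_lit 16) Steps.nil)))))) (nat_lit 66) (nat_lit 5),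
  Rule.mk (nat_lit 16) (nat_lit 110) (Steps.bwd (nat_lit 14) (Steps.fwd (nat_lit 81920) (Steps.bwd (nat_lit 9) (Steps.bwd (nat_lit 3) (Steps.fwd (nat_lit 73728) (Steps.fwd (nat_lit 139264) Steps.nil)))))) (nat_lit 70) (nat_lit 5),
  Rule.mk (nat_lit 9) (nat_lit 110) (Steps.bwd (nat_lit 17) (Steps.bwd (nat_lit 9) (Steps.fwd (nat_lit 32768) (Steps.fwd (nat_lit 32768) (Steps.bwd (nat_lit 15) (Steps.bwd (nat_lit 16) Steps.nil)))))) (nat_lit 65) (nat_lit 5),
  Rule.mk (nat_lit 4) (nat_lit 110) (Steps.bwd (nat_lit 9) (Steps.fwd (nat_lit 90112) (Steps.fwd (nat_lit 73728) (Steps.fwd (nat_lit 90112) (Steps.bwd (nat_lit 4) (Steps.fwd (nat_lit 114688) Steps.nil)))))) (nat_lit 60) (nat_lit 0),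
  Rule.mk (nat_lit 18) (nat_lit 94) (Steps.bwd (nat_lit 17) (Steps.fwd (nat_lit 81920) (Steps.fwd (nat_lit 139264) (Steps.fwd (nat_lit 90112) (Steps.fwd (nat_lit 155648) Steps.nil))))) (nat_lit 35) (nat_lit 2)]
noncomputable def R_39 : List (Rule) := [Rule.mk (nat_lit 1) (nat_lit 110) (Steps.bwd (nat_lit 17) (Steps.fwd (nat_lit 81920) (Steps.bwd (nat_lit 14) (Steps.bwd (nat_lit 14) (Steps.bwd (nat_lit 2) (Steps.fwd (nat_lit 122880) Steps.nil)))))) (nat_lit 44) (nat_lit 3),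
  Rule.mk (nat_lit 9) (nat_lit 110) (Steps.bwd (nat_lit 17) (Steps.bwd (nat_lit 14) (Steps.bwd (nat_lit 4) (Steps.fwd (nat_lit 24576) (Steps.fwd (nat_lit 73728) (Steps.fwd (nat_lit 139264) Steps.nil)))))) (nat_lit 64) (nat_lit 3),
  Rule.mk (nat_lit 10) (nat_lit 110) (Steps.bwd (nat_lit 17) (Steps.bwd (nat_lit 9) (Steps.fwd (nat_lit 147456) (Steps.bwd (nat_lit 9) (Steps.fwd (nat_lit 90112) (Steps.bwd (nat_lit 15) Steps.nil)))))) (nat_lit 67) (nat_lit 3),
  Rule.mk (nat_lit 2) (nat_lit 142) (Steps.bwd (nat_lit 17) (Steps.fwd (nat_lit 16384) (Steps.bwd (nat_lit 10) (Steps.fwd (nat_lit 98304) (Steps.bwd (nat_lit 15) (Steps.fwd (nat_lit 139264) (Steps.fwd (nat_lit 90112) (Steps.bwd (nat_lit 16) Steps.nil)))))))) (nat_lit 47) (nat_lit 7),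
  Rule.mk (nat_lit 8) (nat_lit 94) (Steps.fwd (nat_lit 8192) (Steps.fwd (nat_lit 65536) (Steps.fwd (nat_lit 16384) (Steps.bwd (nat_lit 1) (Steps.fwd (nat_lit 16384) Steps.nil))))) (nat_lit 83) (nat_lit 4),
  Rule.mk (nat_lit 8) (nat_lit 94) (Steps.bwd (nat_lit 1) (Steps.fwd (nat_lit 16384) (Steps.bwd (nat_lit 1) (Steps.fwd (nat_lit 16384) (Steps.bwd (nat_lit 8) Steps.nil))))) (nat_lit 79) (nat_lit 0),
  Rule.mk (nat_lit 2) (nat_lit 94) (Steps.bwd (nat_lit 4) (Steps.fwd (nat_lit 16384) (Steps.fwd (nat_lit 16384) (Steps.fwd (nat_lit 32768) (Steps.fwd (nat_lit 8192) Steps.nil))))) (nat_lit 6) (nat_lit 2),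
  Rule.mk (nat_lit 1) (nat_lit 190) (Steps.bwd (nat_lit 4) (Steps.bwd (nat_lit 2) (Steps.bwd (nat_lit 3) (Steps.fwd (nat_lit 16384) (Steps.fwd (nat_lit 24576) (Steps.fwd (nat_lit 8192) (Steps.bwd (nat_lit 3) (Steps.fwd (nat_lit 16384) (Steps.fwd (nat_lit 24576) (Steps.fwd (nat_lit 8192) (Steps.bwd (nat_lit 3) Steps.nil))))))))))) (nat_lit 9) (nat_lit 0),
  Rule.mk (nat_lit 12) (nat_lit 78) (Steps.fwd (nat_lit 16384) (Steps.fwd (nat_lit 90112) (Steps.bwd (nat_lit 10) (Steps.bwd (nat_lit 2) Steps.nil)))) (nat_lit 42) (nat_lit 2),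
  Rule.mk (nat_lit 16) (nat_lit 142) (Steps.fwd (nat_lit 16384) (Steps.bwd (nat_lit 17) (Steps.bwd (nat_lit 11) (Steps.bwd (nat_lit 17) (Steps.fwd (nat_lit 122880) (Steps.fwd (nat_lit 106496) (Steps.bwd (nat_lit 11) (Steps.bwd (nat_lit 2) Steps.nil)))))))) (nat_lit 46) (nat_lit 2),
  Rule.mk (nat_lit 18) (nat_lit 78) (Steps.fwd (nat_lit 155648) (Steps.bwd (nat_lit 18) (Steps.fwd (nat_lit 155648) (Steps.bwd (nat_lit 18) Steps.nil)))) (nat_lit 22) (nat_lit 0),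
  Rule.mk (nat_lit 7) (nat_lit 126) (Steps.bwd (nat_lit 19) (Steps.bwd (nat_lit 7) (Steps.bwd (nat_lit 18) (Steps.bwd (nat_lit 2) (Steps.fwd (nat_lit 8192) (Steps.bwd (nat_lit 7) (Steps.bwd (nat_lit 18) Steps.nil))))))) (nat_lit 86) (nat_lit 3),
  Rule.mk (nat_lit 2) (nat_lit 78) (Steps.bwd (nat_lit 13) (Steps.fwd (nat_lit 16384) (Steps.fwd (nat_lit 81920) (Steps.fwd (nat_lit 81920) Steps.nil)))) (nat_lit 43) (nat_lit 3),
  Rule.mk (nat_lit 19) (nat_lit 78) (Steps.bwd (nat_lit 19) (Steps.bwd (nat_lit 19) (Steps.fwd (nat_lit 147456) (Steps.fwd (nat_lit 147456) Steps.nil)))) (nat_lit 23) (nat_lit 0),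
  Rule.mk (nat_lit 1) (nat_lit 94) (Steps.bwd (nat_lit 4) (Steps.fwd (nat_lit 8192) (Steps.fwd (nat_lit 8192) (Steps.fwd (nat_lit 32768) (Steps.fwd (nat_lit 16384) Steps.nil))))) (nat_lit 7) (nat_lit 0),
  Rule.mk (nat_lit 19) (nat_lit 78) (Steps.fwd (nat_lit 147456) (Steps.fwd (nat_lit 8192) (Steps.bwd (nat_lit 18) (Steps.bwd (nat_lit 1) Steps.nil)))) (nat_lit 48) (nat_lit 4),
  Rule.mk (nat_lit 18) (nat_lit 78) (Steps.fwd (nat_lit 155648) (Steps.bwd (nat_lit 2) (Steps.bwd (nat_lit 19) (Steps.bwd (nat_lit 1) Steps.nil)))) (nat_lit 49) (nat_lit 1),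
  Rule.mk (nat_lit 13) (nat_lit 78) (Steps.bwd (nat_lit 15) (Steps.fwd (nat_lit 106496) (Steps.bwd (nat_lit 14) (Steps.bwd (nat_lit 18) Steps.nil)))) (nat_lit 36) (nat_lit 1),
  Rule.mk (nat_lit 16) (nat_lit 126) (Steps.bwd (nat_lit 15) (Steps.fwd (nat_lit 114688) (Steps.bwd (nat_lit 4) (Steps.bwd (nat_lit 15) (Steps.fwd (nat_lit 32768) (Steps.fwd (nat_lit 90112) (Steps.fwd (nat_lit 90112) Steps.nil))))))) (nat_lit 53) (nat_lit 3),
  Rule.mk (nat_lit 2) (nat_lit 142) (Steps.bwd (nat_lit 17) (Steps.fwd (nat_lit 16384) (Steps.fwd (nat_lit 90112) (Steps.bwd (nat_lit 13) (Steps.bwd (nat_lit 15) (Steps.bwd (nat_lit 16) (Steps.fwd (nat_lit 90112) (Steps.fwd (nat_lit 139264) Steps.nil)))))))) (nat_lit 47) (nat_lit 7),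
  Rule.mk (nat_lit 8) (nat_lit 126) (Steps.bwd (nat_lit 1) (Steps.fwd (nat_lit 16384) (Steps.bwd (nat_lit 19) (Steps.bwd (nat_lit 8) (Steps.fwd (nat_lit 155648) (Steps.bwd (nat_lit 8) (Steps.bwd (nat_lit 19) Steps.nil))))))) (nat_lit 87) (nat_lit 0),
  Rule.mk (nat_lit 9) (nat_lit 110) (Steps.fwd (nat_lit 32768) (Steps.bwd (nat_lit 14) (Steps.bwd (nat_lit 3) (Steps.bwd (nat_lit 11) (Steps.bwd (nat_lit 9) (Steps.bwd (nat_lit 11) Steps.nil)))))) (nat_lit 61) (nat_lit 0),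
  Rule.mk (nat_lit 9) (nat_lit 110) (Steps.bwd (nat_lit 4) (Steps.bwd (nat_lit 9) (Steps.bwd (nat_lit 10) (Steps.bwd (nat_lit 15) (Steps.bwd (nat_lit 17) (Steps.fwd (nat_lit 131072) Steps.nil)))))) (nat_lit 71) (nat_lit 5),
  Rule.mk (nat_lit 12) (nat_lit 126) (Steps.bwd (nat_lit 14) (Steps.fwd (nat_lit 131072) (Steps.fwd (nat_lit 81920) (Steps.bwd (nat_lit 17) (Steps.bwd (nat_lit 4) (Steps.bwd (nat_lit 13) (Steps.bwd (nat_lit 3) Steps.nil))))))) (nat_lit 51) (nat_lit 1),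
  Rule.mk (nat_lit 10) (nat_lit 110) (Steps.bwd (nat_lit 9) (Steps.bwd (nat_lit 10) (Steps.fwd (nat_lit 24576) (Steps.fwd (nat_lit 114688) (Steps.bwd (nat_lit 4) (Steps.bwd (nat_lit 9) Steps.nil)))))) (nat_lit 60) (nat_lit 2),
  Rule.mk (nat_lit 15) (nat_lit 110) (Steps.fwd (nat_lit 131072) (Steps.bwd (nat_lit 17) (Steps.fwd (nat_lit 73728) (Steps.bwd (nat_lit 4) (Steps.bwd (nat_lit 9) (Steps.bwd (nat_lit 10) Steps.nil)))))) (nat_lit 71) (nat_lit 2),
  Rule.mk (nat_lit 0) (nat_lit 126) (Steps.fwd (nat_lit 139264) (Steps.bwd (nat_lit 11) (Steps.fwd (nat_lit 122880) (Steps.fwd (nat_lit 81920) (Steps.fwd (nat_lit 73728) (Steps.bwd (nat_lit 18) (Steps.fwd (nat_lit 73728) Steps.nil))))))) (nat_lit 66) (nat_lit 3),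
  Rule.mk (nat_lit 9) (nat_lit 158) (Steps.fwd (nat_lit 32768) (Steps.bwd (nat_lit 3) (Steps.fwd (nat_lit 16384) (Steps.fwd (nat_lit 106496) (Steps.bwd (nat_lit 11) (Steps.fwd (nat_lit 131072) (Steps.fwd (nat_lit 8192) (Steps.fwd (nat_lit 73728) (Steps.bwd (nat_lit 15) Steps.nil))))))))) (nat_lit 63) (nat_lit 0),
  Rule.mk (nat_lit 4) (nat_lit 110) (Steps.bwd (nat_lit 9) (Steps.bwd (nat_lit 10) (Steps.bwd (nat_lit 9) (Steps.bwd (nat_lit 10) (Steps.fwd (nat_lit 24576) (Steps.fwd (nat_lit 114688) Steps.nil)))))) (nat_lit 60) (nat_lit 0),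
  Rule.mk (nat_lit 12) (nat_lit 126) (Steps.fwd (nat_lit 32768) (Steps.bwd (nat_lit 16) (Steps.fwd (nat_lit 90112) (Steps.fwd (nat_lit 139264) (Steps.fwd (nat_lit 114688) (Steps.bwd (nat_lit 13) (Steps.bwd (nat_lit 4) Steps.nil))))))) (nat_lit 50) (nat_lit 2),
  Rule.mk (nat_lit 18) (nat_lit 78) (Steps.bwd (nat_lit 13) (Steps.bwd (nat_lit 11) (Steps.fwd (nat_lit 106496) (Steps.fwd (nat_lit 90112) Steps.nil)))) (nat_lit 18) (nat_lit 1),
  Rule.mk (nat_lit 9) (nat_lit 110) (Steps.fwd (nat_lit 81920) (Steps.fwd (nat_lit 73728) (Steps.bwd (nat_lit 3) (Steps.fwd (nat_lit 122880) (Steps.bwd (nat_lit 3) (Steps.bwd (nat_lit 11) Steps.nil)))))) (nat_lit 61) (nat_lit 5),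
  Rule.mk (nat_lit 10) (nat_lit 126) (Steps.bwd (nat_lit 16) (Steps.fwd (nat_lit 114688) (Steps.fwd (nat_lit 114688) (Steps.fwd (nat_lit 24576) (Steps.fwd (nat_lit 114688) (Steps.bwd (nat_lit 3) (Steps.bwd (nat_lit 10) Steps.nil))))))) (nat_lit 53) (nat_lit 2),
  Rule.mk (nat_lit 18) (nat_lit 78) (Steps.bwd (nat_lit 18) (Steps.fwd (nat_lit 8192) (Steps.fwd (nat_lit 147456) (Steps.bwd (nat_lit 1) Steps.nil)))) (nat_lit 49) (nat_lit 1),
  Rule.mk (nat_lit 7) (nat_lit 126) (Steps.bwd (nat_lit 18) (Steps.fwd (nat_lit 8192) (Steps.fwd (nat_lit 8192) (Steps.bwd (nat_lit 7) (Steps.bwd (nat_lit 18) (Steps.bwd (nat_lit 7) (Steps.fwd (nat_lit 147456) Steps.nil))))))) (nat_lit 86) (nat_lit 5),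
  Rule.mk (nat_lit 7) (nat_lit 158) (Steps.bwd (nat_lit 18) (Steps.bwd (nat_lit 7) (Steps.bwd (nat_lit 18) (Steps.fwd (nat_lit 65536) (Steps.bwd (nat_lit 18) (Steps.bwd (nat_lit 7) (Steps.fwd (nat_lit 155648) (Steps.fwd (nat_lit 65536) (Steps.fwd (nat_lit 155648) Steps.nil))))))))) (nat_lit 84) (nat_lit 1),
  Rule.mk (nat_lit 2) (nat_lit 94) (Steps.bwd (nat_lit 2) (Steps.fwd (nat_lit 8192) (Steps.fwd (nat_lit 8192) (Steps.bwd (nat_lit 7) (Steps.bwd (nat_lit 7) Steps.nil))))) (nat_lit 78) (nat_lit 3),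
  Rule.mk (nat_lit 14) (nat_lit 78) (Steps.bwd (nat_lit 12) (Steps.fwd (nat_lit 147456) (Steps.bwd (nat_lit 15) (Steps.fwd (nat_lit 98304) Steps.nil)))) (nat_lit 37) (nat_lit 4),
  Rule.mk (nat_lit 7) (nat_lit 126) (Steps.bwd (nat_lit 19) (Steps.fwd (nat_lit 65536) (Steps.bwd (nat_lit 18) (Steps.fwd (nat_lit 8192) (Steps.fwd (nat_lit 8192) (Steps.bwd (nat_lit 7) (Steps.bwd (nat_lit 18) Steps.nil))))))) (nat_lit 86) (nat_lit 3),
  Rule.mk (nat_lit 1) (nat_lit 142) (Steps.bwd (nat_lit 17) (Steps.bwd (nat_lit 11) (Steps.bwd (nat_lit 17) (Steps.bwd (nat_lit 14) (Steps.fwd (nat_lit 106496) (Steps.fwd (nat_lit 81920) (Steps.fwd (nat_lit 8192) (Steps.fwd (nat_lit 139264) Steps.nil)))))))) (nat_lit 46) (nat_lit 3),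
  Rule.mk (nat_lit 9) (nat_lit 110) (Steps.bwd (nat_lit 3) (Steps.fwd (nat_lit 32768) (Steps.bwd (nat_lit 15) (Steps.bwd (nat_lit 16) (Steps.bwd (nat_lit 9) (Steps.bwd (nat_lit 17) Steps.nil)))))) (nat_lit 65) (nat_lit 0),
  Rule.mk (nat_lit 3) (nat_lit 126) (Steps.bwd (nat_lit 16) (Steps.bwd (nat_lit 10) (Steps.fwd (nat_lit 139264) (Steps.bwd (nat_lit 15) (Steps.bwd (nat_lit 13) (Steps.fwd (nat_lit 24576) (Steps.fwd (nat_lit 106496) Steps.nil))))))) (nat_lit 50) (nat_lit 3),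
  Rule.mk (nat_lit 9) (nat_lit 190) (Steps.bwd (nat_lit 12) (Steps.bwd (nat_lit 17) (Steps.fwd (nat_lit 16384) (Steps.bwd (nat_lit 14) (Steps.bwd (nat_lit 1) (Steps.fwd (nat_lit 16384) (Steps.fwd (nat_lit 16384) (Steps.bwd (nat_lit 9) (Steps.fwd (nat_lit 106496) (Steps.fwd (nat_lit 73728) (Steps.fwd (nat_lit 98304) Steps.nil))))))))))) (nat_lit 74) (nat_lit 5),
  Rule.mk (nat_lit 8) (nat_lit 286) (Steps.fwd (nat_lit 32768) (Steps.bwd (nat_lit 2) (Steps.bwd (nat_lit 4) (Steps.fwd (nat_lit 81920) (Steps.fwd (nat_lit 57344) (Steps.bwd (nat_lit 2) (Steps.bwd (nat_lit 11) (Steps.bwd (nat_lit 1) (Steps.bwd (nat_lit 11) (Steps.bwd (nat_lit 2) (Steps.fwd (nat_lit 90112) (Steps.fwd (nat_lit 16384) (Steps.fwd (nat_lit 32768) (Steps.fwd (nat_lit 32768) (Steps.fwd (nat_lit 73728) (Steps.fwd (nat_lit 57344) (Steps.bwd (nat_lit 11) Steps.nil))))))))))))))))) (nat_lit 56) (nat_lit 4),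
  Rule.mk (nat_lit 9) (nat_lit 110) (Steps.fwd (nat_lit 139264) (Steps.fwd (nat_lit 73728) (Steps.bwd (nat_lit 17) (Steps.bwd (nat_lit 14) (Steps.fwd (nat_lit 24576) (Steps.bwd (nat_lit 4) Steps.nil)))))) (nat_lit 64) (nat_lit 1),
  Rule.mk (nat_lit 12) (nat_lit 126) (Steps.fwd (nat_lit 32768) (Steps.fwd (nat_lit 139264) (Steps.fwd (nat_lit 90112) (Steps.fwd (nat_lit 139264) (Steps.bwd (nat_lit 15) (Steps.bwd (nat_lit 13) (Steps.bwd (nat_lit 4) Steps.nil))))))) (nat_lit 50) (nat_lit 2),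
  Rule.mk (nat_lit 2) (nat_lit 78) (Steps.bwd (nat_lit 12) (Steps.fwd (nat_lit 16384) (Steps.fwd (nat_lit 90112) (Steps.fwd (nat_lit 90112) Steps.nil)))) (nat_lit 42) (nat_lit 1),
  Rule.mk (nat_lit 10) (nat_lit 78) (Steps.bwd (nat_lit 2) (Steps.bwd (nat_lit 12) (Steps.fwd (nat_lit 16384) (Steps.fwd (nat_lit 90112) Steps.nil)))) (nat_lit 42) (nat_lit 0),
  Rule.mk (nat_lit 9) (nat_lit 110) (Steps.bwd (nat_lit 3) (Steps.bwd (nat_lit 9) (Steps.fwd (nat_lit 139264) (Steps.bwd (nat_lit 16) (Steps.bwd (nat_lit 14) (Steps.bwd (nat_lit 11) Steps.nil)))))) (nat_lit 70) (nat_lit 1),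
  Rule.mk (nat_lit 9) (nat_lit 110) (Steps.fwd (nat_lit 139264) (Steps.bwd (nat_lit 11) (Steps.bwd (nat_lit 14) (Steps.bwd (nat_lit 11) (Steps.bwd (nat_lit 9) (Steps.bwd (nat_lit 18) Steps.nil)))))) (nat_lit 66) (nat_lit 3),
  Rule.mk (nat_lit 10) (nat_lit 110) (Steps.bwd (nat_lit 9) (Steps.bwd (nat_lit 10) (Steps.fwd (nat_lit 24576) (Steps.bwd (nat_lit 15) (Steps.fwd (nat_lit 24576) (Steps.fwd (nat_lit 73728) Steps.nil)))))) (nat_lit 60) (nat_lit 2),
  Rule.mk (nat_lit 11) (nat_lit 110) (Steps.bwd (nat_lit 9) (Steps.bwd (nat_lit 11) (Steps.bwd (nat_lit 9) (Steps.fwd (nat_lit 32768) (Steps.fwd (nat_lit 122880) (Steps.bwd (nat_lit 3) Steps.nil)))))) (nat_lit 61) (nat_lit 4),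
  Rule.mk (nat_lit 16) (nat_lit 110) (Steps.bwd (nat_lit 9) (Steps.fwd (nat_lit 131072) (Steps.bwd (nat_lit 14) (Steps.bwd (nat_lit 4) (Steps.fwd (nat_lit 24576) (Steps.bwd (nat_lit 9) Steps.nil)))))) (nat_lit 64) (nat_lit 2),
  Rule.mk (nat_lit 3) (nat_lit 270) (Steps.bwd (nat_lit 9) (Steps.fwd (nat_lit 57344) (Steps.fwd (nat_lit 16384) (Steps.bwd (nat_lit 3) (Steps.fwd (nat_lit 32768) (Steps.fwd (nat_lit 8192) (Steps.bwd (nat_lit 4) (Steps.fwd (nat_lit 81920) (Steps.bwd (nat_lit 17) (Steps.bwd (nat_lit 19) (Steps.bwd (nat_lit 1) (Steps.fwd (nat_lit 73728) (Steps.fwd (nat_lit 16384) (Steps.bwd (nat_lit 9) (Steps.bwd (nat_lit 1) (Steps.bwd (nat_lit 13) Steps.nil)))))))))))))))) (nat_lit 77) (nat_lit 15),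
  Rule.mk (nat_lit 1) (nat_lit 270) (Steps.bwd (nat_lit 9) (Steps.fwd (nat_lit 16384) (Steps.fwd (nat_lit 73728) (Steps.bwd (nat_lit 1) (Steps.bwd (nat_lit 13) (Steps.fwd (nat_lit 32768) (Steps.fwd (nat_lit 73728) (Steps.bwd (nat_lit 8) (Steps.bwd (nat_lit 1) (Steps.bwd (nat_lit 3) (Steps.bwd (nat_lit 3) (Steps.fwd (nat_lit 8192) (Steps.fwd (nat_lit 24576) (Steps.bwd (nat_lit 11) (Steps.fwd (nat_lit 131072) (Steps.bwd (nat_lit 19) Steps.nil)))))))))))))))) (nat_lit 77) (nat_lit 9),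
  Rule.mk (nat_lit 11) (nat_lit 94) (Steps.bwd (nat_lit 17) (Steps.bwd (nat_lit 10) (Steps.fwd (nat_lit 139264) (Steps.bwd (nat_lit 19) (Steps.fwd (nat_lit 147456) Steps.nil))))) (nat_lit 34) (nat_lit 1),
  Rule.mk (nat_lit 9) (nat_lit 110) (Steps.bwd (nat_lit 17) (Steps.fwd (nat_lit 122880) (Steps.fwd (nat_lit 24576) (Steps.bwd (nat_lit 4) (Steps.bwd (nat_lit 9) (Steps.bwd (nat_lit 16) Steps.nil)))))) (nat_lit 64) (nat_lit 3),
  Rule.mk (nat_lit 14) (nat_lit 126) (Steps.bwd (nat_lit 17) (Steps.bwd (nat_lit 11) (Steps.fwd (nat_lit 131072) (Steps.fwd (nat_lit 24576) (Steps.bwd (nat_lit 13) (Steps.bwd (nat_lit 3) (Steps.bwd (nat_lit 12) Steps.nil))))))) (nat_lit 51) (nat_lit 2),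
  Rule.mk (nat_lit 1) (nat_lit 94) (Steps.bwd (nat_lit 1) (Steps.fwd (nat_lit 24576) (Steps.fwd (nat_lit 8192) (Steps.bwd (nat_lit 2) (Steps.fwd (nat_lit 32768) Steps.nil))))) (nat_lit 7) (nat_lit 5),
  Rule.mk (nat_lit 11) (nat_lit 126) (Steps.bwd (nat_lit 4) (Steps.bwd (nat_lit 14) (Steps.fwd (nat_lit 32768) (Steps.fwd (nat_lit 122880) (Steps.fwd (nat_lit 122880) (Steps.fwd (nat_lit 131072) (Steps.fwd (nat_lit 81920) Steps.nil))))))) (nat_lit 52) (nat_lit 0),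
  Rule.mk (nat_lit 9) (nat_lit 110) (Steps.bwd (nat_lit 11) (Steps.fwd (nat_lit 73728) (Steps.fwd (nat_lit 32768) (Steps.fwd (nat_lit 122880) (Steps.fwd (nat_lit 32768) (Steps.bwd (nat_lit 11) Steps.nil)))))) (nat_lit 61) (nat_lit 5),
  Rule.mk (nat_lit 4) (nat_lit 110) (Steps.bwd (nat_lit 9) (Steps.fwd (nat_lit 90112) (Steps.bwd (nat_lit 9) (Steps.fwd (nat_lit 90112) (Steps.fwd (nat_lit 24576) (Steps.bwd (nat_lit 15) Steps.nil)))))) (nat_lit 60) (nat_lit 0),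
  Rule.mk (nat_lit 17) (nat_lit 110) (Steps.bwd (nat_lit 9) (Steps.bwd (nat_lit 19) (Steps.fwd (nat_lit 73728) (Steps.fwd (nat_lit 90112) (Steps.fwd (nat_lit 114688) (Steps.bwd (nat_lit 10) Steps.nil)))))) (nat_lit 67) (nat_lit 4),
  Rule.mk (nat_lit 15) (nat_lit 78) (Steps.fwd (nat_lit 106496) (Steps.bwd (nat_lit 14) (Steps.bwd (nat_lit 18) (Steps.bwd (nat_lit 13) Steps.nil)))) (nat_lit 36) (nat_lit 2)]
noncomputable def R_40 : List (Rule) := [Rule.mk (nat_lit 10) (nat_lit 142) (Steps.bwd (nat_lit 13) (Steps.fwd (nat_lit 114688) (Steps.fwd (nat_lit 139264) (Steps.bwd (nat_lit 10) (Steps.fwd (nat_lit 139264) (Steps.fwd (nat_lit 8192) (Steps.fwd (nat_lit 131072) (Steps.bwd (nat_lit 1) Steps.nil)))))))) (nat_lit 47) (nat_lit 1),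
  Rule.mk (nat_lit 0) (nat_lit 78) (Steps.bwd (nat_lit 4) (Steps.fwd (nat_lit 139264) (Steps.fwd (nat_lit 32768) (Steps.bwd (nat_lit 6) Steps.nil)))) (nat_lit 16) (nat_lit 3),
  Rule.mk (nat_lit 1) (nat_lit 78) (Steps.bwd (nat_lit 18) (Steps.fwd (nat_lit 155648) (Steps.fwd (nat_lit 8192) (Steps.bwd (nat_lit 19) Steps.nil)))) (nat_lit 49) (nat_lit 0),
  Rule.mk (nat_lit 8) (nat_lit 94) (Steps.bwd (nat_lit 1) (Steps.bwd (nat_lit 7) (Steps.bwd (nat_lit 2) (Steps.fwd (nat_lit 8192) (Steps.bwd (nat_lit 2) Steps.nil))))) (nat_lit 82) (nat_lit 1),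
  Rule.mk (nat_lit 8) (nat_lit 94) (Steps.fwd (nat_lit 16384) (Steps.fwd (nat_lit 16384) (Steps.fwd (nat_lit 16384) (Steps.bwd (nat_lit 1) (Steps.bwd (nat_lit 8) Steps.nil))))) (nat_lit 79) (nat_lit 0),
  Rule.mk (nat_lit 9) (nat_lit 110) (Steps.bwd (nat_lit 16) (Steps.fwd (nat_lit 81920) (Steps.bwd (nat_lit 14) (Steps.bwd (nat_lit 11) (Steps.bwd (nat_lit 9) (Steps.fwd (nat_lit 155648) Steps.nil)))))) (nat_lit 66) (nat_lit 3),
  Rule.mk (nat_lit 3) (nat_lit 158) (Steps.fwd (nat_lit 32768) (Steps.fwd (nat_lit 16384) (Steps.bwd (nat_lit 12) (Steps.bwd (nat_lit 11) (Steps.bwd (nat_lit 17) (Steps.bwd (nat_lit 2) (Steps.bwd (nat_lit 9) (Steps.fwd (nat_lit 114688) (Steps.bwd (nat_lit 9) Steps.nil))))))))) (nat_lit 63) (nat_lit 1),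
  Rule.mk (nat_lit 12) (nat_lit 78) (Steps.bwd (nat_lit 19) (Steps.bwd (nat_lit 15) (Steps.bwd (nat_lit 13) (Steps.fwd (nat_lit 122880) Steps.nil)))) (nat_lit 37) (nat_lit 0),
  Rule.mk (nat_lit 10) (nat_lit 126) (Steps.bwd (nat_lit 16) (Steps.bwd (nat_lit 15) (Steps.fwd (nat_lit 114688) (Steps.bwd (nat_lit 4) (Steps.fwd (nat_lit 114688) (Steps.bwd (nat_lit 3) (Steps.bwd (nat_lit 10) Steps.nil))))))) (nat_lit 53) (nat_lit 2),
  Rule.mk (nat_lit 11) (nat_lit 126) (Steps.bwd (nat_lit 4) (Steps.bwd (nat_lit 14) (Steps.bwd (nat_lit 3) (Steps.bwd (nat_lit 14) (Steps.fwd (nat_lit 122880) (Steps.bwd (nat_lit 17) (Steps.fwd (nat_lit 81920) Steps.nil))))))) (nat_lit 52) (nat_lit 0),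
  Rule.mk (nat_lit 15) (nat_lit 110) (Steps.bwd (nat_lit 1) (Steps.bwd (nat_lit 15) (Steps.fwd (nat_lit 114688) (Steps.bwd (nat_lit 10) (Steps.bwd (nat_lit 16) (Steps.fwd (nat_lit 8192) Steps.nil)))))) (nat_lit 45) (nat_lit 6),
  Rule.mk (nat_lit 17) (nat_lit 110) (Steps.bwd (nat_lit 9) (Steps.bwd (nat_lit 3) (Steps.fwd (nat_lit 32768) (Steps.bwd (nat_lit 15) (Steps.bwd (nat_lit 16) (Steps.fwd (nat_lit 73728) Steps.nil)))))) (nat_lit 65) (nat_lit 6),
  Rule.mk (nat_lit 16) (nat_lit 110) (Steps.bwd (nat_lit 16) (Steps.bwd (nat_lit 14) (Steps.bwd (nat_lit 11) (Steps.bwd (nat_lit 9) (Steps.fwd (nat_lit 32768) (Steps.bwd (nat_lit 9) Steps.nil)))))) (nat_lit 70) (nat_lit 4),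
  Rule.mk (nat_lit 2) (nat_lit 110) (Steps.bwd (nat_lit 15) (Steps.fwd (nat_lit 16384) (Steps.bwd (nat_lit 15) (Steps.fwd (nat_lit 114688) (Steps.bwd (nat_lit 10) (Steps.bwd (nat_lit 16) Steps.nil)))))) (nat_lit 45) (nat_lit 5),
  Rule.mk (nat_lit 14) (nat_lit 126) (Steps.bwd (nat_lit 17) (Steps.fwd (nat_lit 81920) (Steps.fwd (nat_lit 131072) (Steps.fwd (nat_lit 24576) (Steps.bwd (nat_lit 13) (Steps.fwd (nat_lit 32768) (Steps.fwd (nat_lit 106496) Steps.nil))))))) (nat_lit 51) (nat_lit 2),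
  Rule.mk (nat_lit 4) (nat_lit 110) (Steps.fwd (nat_lit 114688) (Steps.bwd (nat_lit 4) (Steps.fwd (nat_lit 73728) (Steps.fwd (nat_lit 90112) (Steps.bwd (nat_lit 9) (Steps.bwd (nat_lit 10) Steps.nil)))))) (nat_lit 60) (nat_lit 5),
  Rule.mk (nat_lit 15) (nat_lit 110) (Steps.fwd (nat_lit 90112) (Steps.bwd (nat_lit 17) (Steps.bwd (nat_lit 9) (Steps.bwd (nat_lit 19) (Steps.bwd (nat_lit 9) (Steps.bwd (nat_lit 10) Steps.nil)))))) (nat_lit 67) (nat_lit 2),
  Rule.mk (nat_lit 2) (nat_lit 94) (Steps.bwd (nat_lit 3) (Steps.bwd (nat_lit 1) (Steps.bwd (nat_lit 1) (Steps.bwd (nat_lit 4) (Steps.fwd (nat_lit 8192) Steps.nil))))) (nat_lit 7) (nat_lit 3),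
  Rule.mk (nat_lit 7) (nat_lit 62) (Steps.fwd (nat_lit 24576) (Steps.bwd (nat_lit 8) (Steps.fwd (nat_lit 32768) Steps.nil))) (nat_lit 80) (nat_lit 0),
  Rule.mk (nat_lit 4) (nat_lit 110) (Steps.fwd (nat_lit 114688) (Steps.bwd (nat_lit 4) (Steps.bwd (nat_lit 9) (Steps.bwd (nat_lit 10) (Steps.fwd (nat_lit 73728) (Steps.bwd (nat_lit 10) Steps.nil)))))) (nat_lit 60) (nat_lit 5),
  Rule.mk (nat_lit 16) (nat_lit 126) (Steps.bwd (nat_lit 15) (Steps.fwd (nat_lit 98304) (Steps.bwd (nat_lit 4) (Steps.bwd (nat_lit 12) (Steps.fwd (nat_lit 32768) (Steps.bwd (nat_lit 16) (Steps.fwd (nat_lit 90112) Steps.nil))))))) (nat_lit 50) (nat_lit 6),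
  Rule.mk (nat_lit 11) (nat_lit 110) (Steps.fwd (nat_lit 122880) (Steps.fwd (nat_lit 81920) (Steps.fwd (nat_lit 73728) (Steps.bwd (nat_lit 18) (Steps.fwd (nat_lit 73728) (Steps.bwd (nat_lit 16) Steps.nil)))))) (nat_lit 66) (nat_lit 5),
  Rule.mk (nat_lit 1) (nat_lit 94) (Steps.bwd (nat_lit 1) (Steps.bwd (nat_lit 4) (Steps.bwd (nat_lit 2) (Steps.fwd (nat_lit 8192) (Steps.fwd (nat_lit 32768) Steps.nil))))) (nat_lit 7) (nat_lit 5),
  Rule.mk (nat_lit 11) (nat_lit 94) (Steps.bwd (nat_lit 17) (Steps.bwd (nat_lit 10) (Steps.fwd (nat_lit 139264) (Steps.fwd (nat_lit 147456) (Steps.fwd (nat_lit 147456) Steps.nil))))) (nat_lit 34) (nat_lit 1),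
  Rule.mk (nat_lit 17) (nat_lit 110) (Steps.bwd (nat_lit 17) (Steps.fwd (nat_lit 73728) (Steps.fwd (nat_lit 24576) (Steps.fwd (nat_lit 73728) (Steps.bwd (nat_lit 10) (Steps.bwd (nat_lit 15) Steps.nil)))))) (nat_lit 71) (nat_lit 3),
  Rule.mk (nat_lit 4) (nat_lit 126) (Steps.bwd (nat_lit 13) (Steps.fwd (nat_lit 32768) (Steps.bwd (nat_lit 12) (Steps.fwd (nat_lit 122880) (Steps.bwd (nat_lit 17) (Steps.bwd (nat_lit 11) (Steps.bwd (nat_lit 17) Steps.nil))))))) (nat_lit 51) (nat_lit 6),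
  Rule.mk (nat_lit 14) (nat_lit 110) (Steps.bwd (nat_lit 14) (Steps.bwd (nat_lit 2) (Steps.bwd (nat_lit 14) (Steps.fwd (nat_lit 16384) (Steps.bwd (nat_lit 17) (Steps.bwd (nat_lit 11) Steps.nil)))))) (nat_lit 44) (nat_lit 6),
  Rule.mk (nat_lit 2) (nat_lit 142) (Steps.bwd (nat_lit 17) (Steps.bwd (nat_lit 1) (Steps.bwd (nat_lit 10) (Steps.bwd (nat_lit 13) (Steps.bwd (nat_lit 15) (Steps.fwd (nat_lit 139264) (Steps.fwd (nat_lit 90112) (Steps.fwd (nat_lit 139264) Steps.nil)))))))) (nat_lit 47) (nat_lit 7),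
  Rule.mk (nat_lit 11) (nat_lit 110) (Steps.bwd (nat_lit 9) (Steps.fwd (nat_lit 81920) (Steps.fwd (nat_lit 73728) (Steps.bwd (nat_lit 3) (Steps.bwd (nat_lit 14) (Steps.bwd (nat_lit 3) Steps.nil)))))) (nat_lit 61) (nat_lit 4),
  Rule.mk (nat_lit 9) (nat_lit 110) (Steps.bwd (nat_lit 16) (Steps.bwd (nat_lit 16) (Steps.fwd (nat_lit 122880) (Steps.fwd (nat_lit 81920) (Steps.fwd (nat_lit 73728) (Steps.bwd (nat_lit 3) Steps.nil)))))) (nat_lit 70) (nat_lit 3),
  Rule.mk (nat_lit 16) (nat_lit 110) (Steps.bwd (nat_lit 9) (Steps.fwd (nat_lit 131072) (Steps.bwd (nat_lit 14) (Steps.fwd (nat_lit 24576) (Steps.bwd (nat_lit 4) (Steps.fwd (nat_lit 73728) Steps.nil)))))) (nat_lit 64) (nat_lit 2),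
  Rule.mk (nat_lit 9) (nat_lit 158) (Steps.bwd (nat_lit 15) (Steps.bwd (nat_lit 9) (Steps.fwd (nat_lit 32768) (Steps.fwd (nat_lit 32768) (Steps.bwd (nat_lit 1) (Steps.bwd (nat_lit 12) (Steps.fwd (nat_lit 81920) (Steps.fwd (nat_lit 131072) (Steps.bwd (nat_lit 2) Steps.nil))))))))) (nat_lit 63) (nat_lit 8),
  Rule.mk (nat_lit 16) (nat_lit 110) (Steps.fwd (nat_lit 73728) (Steps.fwd (nat_lit 131072) (Steps.fwd (nat_lit 122880) (Steps.bwd (nat_lit 4) (Steps.bwd (nat_lit 4) (Steps.bwd (nat_lit 9) Steps.nil)))))) (nat_lit 64) (nat_lit 2),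
  Rule.mk (nat_lit 4) (nat_lit 110) (Steps.fwd (nat_lit 73728) (Steps.bwd (nat_lit 10) (Steps.bwd (nat_lit 15) (Steps.bwd (nat_lit 17) (Steps.bwd (nat_lit 17) (Steps.bwd (nat_lit 9) Steps.nil)))))) (nat_lit 71) (nat_lit 6),
  Rule.mk (nat_lit 10) (nat_lit 110) (Steps.bwd (nat_lit 4) (Steps.fwd (nat_lit 114688) (Steps.fwd (nat_lit 24576) (Steps.bwd (nat_lit 9) (Steps.fwd (nat_lit 90112) (Steps.fwd (nat_lit 73728) Steps.nil)))))) (nat_lit 60) (nat_lit 4),
  Rule.mk (nat_lit 7) (nat_lit 286) (Steps.bwd (nat_lit 9) (Steps.bwd (nat_lit 4) (Steps.bwd (nat_lit 4) (Steps.bwd (nat_lit 2) (Steps.fwd (nat_lit 81920) (Steps.fwd (nat_lit 16384) (Steps.fwd (nat_lit 90112) (Steps.fwd (nat_lit 8192) (Steps.bwd (nat_lit 10) (Steps.bwd (nat_lit 1) (Steps.bwd (nat_lit 7) (Steps.bwd (nat_lit 10) (Steps.fwd (nat_lit 32768) (Steps.fwd (nat_lit 16384) (Steps.bwd (nat_lit 4) (Steps.bwd (nat_lit 7) (Steps.fwd (nat_lit 90112) Steps.nil)))))))))))))))))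 (nat_lit 57) (nat_lit 17),
  Rule.mk (nat_lit 15) (nat_lit 158) (Steps.bwd (nat_lit 9) (Steps.fwd (nat_lit 32768) (Steps.fwd (nat_lit 32768) (Steps.bwd (nat_lit 1) (Steps.bwd (nat_lit 12) (Steps.fwd (nat_lit 81920) (Steps.bwd (nat_lit 17) (Steps.bwd (nat_lit 2) (Steps.bwd (nat_lit 9) Steps.nil))))))))) (nat_lit 63) (nat_lit 9),
  Rule.mk (nat_lit 15) (nat_lit 126) (Steps.fwd (nat_lit 98304) (Steps.fwd (nat_lit 24576) (Steps.fwd (nat_lit 106496) (Steps.fwd (nat_lit 32768) (Steps.bwd (nat_lit 16) (Steps.bwd (nat_lit 10) (Steps.bwd (nat_lit 16) Steps.nil))))))) (nat_lit 50) (nat_lit 7),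
  Rule.mk (nat_lit 17) (nat_lit 110) (Steps.bwd (nat_lit 9) (Steps.bwd (nat_lit 3) (Steps.fwd (nat_lit 32768) (Steps.fwd (nat_lit 114688) (Steps.bwd (nat_lit 16) (Steps.bwd (nat_lit 9) Steps.nil)))))) (nat_lit 65) (nat_lit 6),
  Rule.mk (nat_lit 15) (nat_lit 158) (Steps.bwd (nat_lit 9) (Steps.bwd (nat_lit 3) (Steps.fwd (nat_lit 32768) (Steps.bwd (nat_lit 1) (Steps.bwd (nat_lit 12) (Steps.bwd (nat_lit 11) (Steps.fwd (nat_lit 131072) (Steps.bwd (nat_lit 2) (Steps.fwd (nat_lit 73728) Steps.nil))))))))) (nat_lit 63) (nat_lit 9),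
  Rule.mk (nat_lit 2) (nat_lit 94) (Steps.fwd (nat_lit 8192) (Steps.bwd (nat_lit 4) (Steps.bwd (nat_lit 1) (Steps.fwd (nat_lit 16384) (Steps.bwd (nat_lit 3) Steps.nil))))) (nat_lit 6) (nat_lit 1),
  Rule.mk (nat_lit 16) (nat_lit 94) (Steps.fwd (nat_lit 90112) (Steps.bwd (nat_lit 18) (Steps.fwd (nat_lit 155648) (Steps.fwd (nat_lit 131072) (Steps.bwd (nat_lit 11) Steps.nil))))) (nat_lit 35) (nat_lit 5),
  Rule.mk (nat_lit 9) (nat_lit 110) (Steps.fwd (nat_lit 32768) (Steps.fwd (nat_lit 122880) (Steps.bwd (nat_lit 3) (Steps.fwd (nat_lit 81920) (Steps.fwd (nat_lit 73728) (Steps.bwd (nat_lit 11) Steps.nil)))))) (nat_lit 61) (nat_lit 0),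
  Rule.mk (nat_lit 16) (nat_lit 110) (Steps.bwd (nat_lit 9) (Steps.bwd (nat_lit 17) (Steps.fwd (nat_lit 73728) (Steps.fwd (nat_lit 32768) (Steps.bwd (nat_lit 3) (Steps.bwd (nat_lit 15) Steps.nil)))))) (nat_lit 65) (nat_lit 4),
  Rule.mk (nat_lit 8) (nat_lit 286) (Steps.bwd (nat_lit 11) (Steps.fwd (nat_lit 57344) (Steps.fwd (nat_lit 32768) (Steps.bwd (nat_lit 2) (Steps.bwd (nat_lit 4) (Steps.fwd (nat_lit 81920) (Steps.fwd (nat_lit 57344) (Steps.fwd (nat_lit 8192) (Steps.bwd (nat_lit 11) (Steps.fwd (nat_lit 16384) (Steps.bwd (nat_lit 11) (Steps.bwd (nat_lit 2) (Steps.fwd (nat_lit 90112) (Steps.bwd (nat_lit 1) (Steps.bwd (nat_lit 3) (Steps.fwd (nat_lit 32768) (Steps.fwd (nat_lit 73728) Steps.nil))))))))))))))))) (nat_lit 56) (nat_lit 2),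
  Rule.mk (nat_lit 11) (nat_lit 110) (Steps.bwd (nat_lit 9) (Steps.bwd (nat_lit 3) (Steps.bwd (nat_lit 14) (Steps.fwd (nat_lit 32768) (Steps.fwd (nat_lit 81920) (Steps.fwd (nat_lit 73728) Steps.nil)))))) (nat_lit 61) (nat_lit 6),
  Rule.mk (nat_lit 17) (nat_lit 110) (Steps.bwd (nat_lit 9) (Steps.bwd (nat_lit 3) (Steps.bwd (nat_lit 3) (Steps.fwd (nat_lit 114688) (Steps.fwd (nat_lit 139264) (Steps.bwd (nat_lit 9) Steps.nil)))))) (nat_lit 65) (nat_lit 6),
  Rule.mk (nat_lit 14) (nat_lit 158) (Steps.bwd (nat_lit 9) (Steps.fwd (nat_lit 16384) (Steps.fwd (nat_lit 139264) (Steps.bwd (nat_lit 10) (Steps.bwd (nat_lit 13) (Steps.fwd (nat_lit 8192) (Steps.fwd (nat_lit 24576) (Steps.fwd (nat_lit 24576) (Steps.bwd (nat_lit 9) Steps.nil))))))))) (nat_lit 62) (nat_lit 2),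
  Rule.mk (nat_lit 13) (nat_lit 190) (Steps.bwd (nat_lit 9) (Steps.bwd (nat_lit 2) (Steps.fwd (nat_lit 8192) (Steps.fwd (nat_lit 8192) (Steps.fwd (nat_lit 114688) (Steps.fwd (nat_lit 8192) (Steps.bwd (nat_lit 16) (Steps.fwd (nat_lit 98304) (Steps.bwd (nat_lit 9) (Steps.fwd (nat_lit 106496) (Steps.fwd (nat_lit 73728) Steps.nil))))))))))) (nat_lit 75) (nat_lit 11),
  Rule.mk (nat_lit 7) (nat_lit 94) (Steps.fwd (nat_lit 65536) (Steps.bwd (nat_lit 2) (Steps.fwd (nat_lit 8192) (Steps.fwd (nat_lit 8192) (Steps.bwd (nat_lit 2) Steps.nil))))) (nat_lit 78) (nat_lit 1),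
  Rule.mk (nat_lit 8) (nat_lit 94) (Steps.bwd (nat_lit 1) (Steps.fwd (nat_lit 65536) (Steps.fwd (nat_lit 8192) (Steps.fwd (nat_lit 8192) (Steps.bwd (nat_lit 2) Steps.nil))))) (nat_lit 82) (nat_lit 1),
  Rule.mk (nat_lit 13) (nat_lit 78) (Steps.bwd (nat_lit 1) (Steps.fwd (nat_lit 81920) (Steps.bwd (nat_lit 11) (Steps.fwd (nat_lit 8192) Steps.nil)))) (nat_lit 43) (nat_lit 4),
  Rule.mk (nat_lit 19) (nat_lit 78) (Steps.bwd (nat_lit 1) (Steps.fwd (nat_lit 155648) (Steps.bwd (nat_lit 18) (Steps.fwd (nat_lit 8192) Steps.nil)))) (nat_lit 49) (nat_lit 4),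
  Rule.mk (nat_lit 7) (nat_lit 94) (Steps.bwd (nat_lit 1) (Steps.bwd (nat_lit 1) (Steps.fwd (nat_lit 16384) (Steps.fwd (nat_lit 57344) (Steps.bwd (nat_lit 2) Steps.nil))))) (nat_lit 83) (nat_lit 0),
  Rule.mk (nat_lit 3) (nat_lit 270) (Steps.bwd (nat_lit 9) (Steps.bwd (nat_lit 8) (Steps.fwd (nat_lit 16384) (Steps.fwd (nat_lit 32768) (Steps.fwd (nat_lit 32768) (Steps.bwd (nat_lit 2) (Steps.fwd (nat_lit 24576) (Steps.bwd (nat_lit 11) (Steps.bwd (nat_lit 17) (Steps.bwd (nat_lit 19) (Steps.fwd (nat_lit 16384) (Steps.fwd (nat_lit 73728) (Steps.fwd (nat_lit 16384) (Steps.bwd (nat_lit 9) (Steps.bwd (nat_lit 1) (Steps.fwd (nat_lit 98304) Steps.nil)))))))))))))))) (nat_lit 77) (nat_lit 15),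
  Rule.mk (nat_lit 3) (nat_lit 206) (Steps.bwd (nat_lit 1) (Steps.bwd (nat_lit 4) (Steps.bwd (nat_lit 1) (Steps.bwd (nat_lit 9) (Steps.bwd (nat_lit 16) (Steps.fwd (nat_lit 147456) (Steps.fwd (nat_lit 81920) (Steps.bwd (nat_lit 2) (Steps.bwd (nat_lit 2) (Steps.fwd (nat_lit 73728) (Steps.bwd (nat_lit 1) (Steps.bwd (nat_lit 3) Steps.nil)))))))))))) (nat_lit 72) (nat_lit 4),
  Rule.mk (nat_lit 1) (nat_lit 94) (Steps.fwd (nat_lit 65536) (Steps.bwd (nat_lit 2) (Steps.bwd (nat_lit 2) (Steps.bwd (nat_lit 2) (Steps.bwd (nat_lit 8) Steps.nil))))) (nat_lit 82) (nat_lit 2),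
  Rule.mk (nat_lit 11) (nat_lit 78) (Steps.bwd (nat_lit 11) (Steps.bwd (nat_lit 2) (Steps.fwd (nat_lit 98304) (Steps.bwd (nat_lit 1) Steps.nil)))) (nat_lit 43) (nat_lit 1),
  Rule.mk (nat_lit 17) (nat_lit 110) (Steps.bwd (nat_lit 11) (Steps.fwd (nat_lit 122880) (Steps.fwd (nat_lit 122880) (Steps.bwd (nat_lit 2) (Steps.fwd (nat_lit 122880) (Steps.fwd (nat_lit 16384) Steps.nil)))))) (nat_lit 44) (nat_lit 4),
  Rule.mk (nat_lit 9) (nat_lit 110) (Steps.bwd (nat_lit 17) (Steps.bwd (nat_lit 9) (Steps.bwd (nat_lit 3) (Steps.fwd (nat_lit 32768) (Steps.bwd (nat_lit 15) (Steps.fwd (nat_lit 139264) Steps.nil)))))) (nat_lit 65) (nat_lit 5),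
  Rule.mk (nat_lit 9) (nat_lit 110) (Steps.fwd (nat_lit 24576) (Steps.bwd (nat_lit 9) (Steps.fwd (nat_lit 90112) (Steps.fwd (nat_lit 114688) (Steps.fwd (nat_lit 131072) (Steps.bwd (nat_lit 17) Steps.nil)))))) (nat_lit 71) (nat_lit 5),
  Rule.mk (nat_lit 17) (nat_lit 110) (Steps.bwd (nat_lit 9) (Steps.fwd (nat_lit 147456) (Steps.bwd (nat_lit 9) (Steps.fwd (nat_lit 90112) (Steps.bwd (nat_lit 15) (Steps.fwd (nat_lit 90112) Steps.nil)))))) (nat_lit 67) (nat_lit 4),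
  Rule.mk (nat_lit 9) (nat_lit 110) (Steps.bwd (nat_lit 17) (Steps.bwd (nat_lit 9) (Steps.fwd (nat_lit 32768) (Steps.bwd (nat_lit 3) (Steps.fwd (nat_lit 114688) (Steps.fwd (nat_lit 139264) Steps.nil)))))) (nat_lit 65) (nat_lit 5),
  Rule.mk (nat_lit 11) (nat_lit 78) (Steps.fwd (nat_lit 98304) (Steps.bwd (nat_lit 10) (Steps.fwd (nat_lit 106496) (Steps.bwd (nat_lit 19) Steps.nil)))) (nat_lit 19) (nat_lit 1)]
noncomputable def R_41 : List (Rule) := [Rule.mk (nat_lit 8) (nat_lit 158) (Steps.bwd (nat_lit 19) (Steps.fwd (nat_lit 57344) (Steps.bwd (nat_lit 19) (Steps.fwd (nat_lit 57344) (Steps.bwd (nat_lit 19) (Steps.fwd (nat_lit 57344) (Steps.bwd (nat_lit 19) (Steps.bwd (nat_lit 8) (Steps.bwd (nat_lit 19) Steps.nil))))))))) (nat_lit 85) (nat_lit 0),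
  Rule.mk (nat_lit 12) (nat_lit 78) (Steps.bwd (nat_lit 19) (Steps.fwd (nat_lit 81920) (Steps.fwd (nat_lit 98304) (Steps.fwd (nat_lit 90112) Steps.nil)))) (nat_lit 19) (nat_lit 4),
  Rule.mk (nat_lit 8) (nat_lit 158) (Steps.bwd (nat_lit 19) (Steps.bwd (nat_lit 8) (Steps.bwd (nat_lit 19) (Steps.fwd (nat_lit 57344) (Steps.fwd (nat_lit 147456) (Steps.bwd (nat_lit 8) (Steps.fwd (nat_lit 147456) (Steps.fwd (nat_lit 57344) (Steps.bwd (nat_lit 19) Steps.nil))))))))) (nat_lit 85) (nat_lit 0),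
  Rule.mk (nat_lit 10) (nat_lit 142) (Steps.bwd (nat_lit 16) (Steps.bwd (nat_lit 2) (Steps.bwd (nat_lit 17) (Steps.bwd (nat_lit 1) (Steps.bwd (nat_lit 10) (Steps.fwd (nat_lit 98304) (Steps.fwd (nat_lit 114688) (Steps.bwd (nat_lit 16) Steps.nil)))))))) (nat_lit 47) (nat_lit 5),
  Rule.mk (nat_lit 9) (nat_lit 110) (Steps.fwd (nat_lit 139264) (Steps.bwd (nat_lit 9) (Steps.bwd (nat_lit 17) (Steps.fwd (nat_lit 122880) (Steps.bwd (nat_lit 4) (Steps.bwd (nat_lit 4) Steps.nil)))))) (nat_lit 64) (nat_lit 1),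
  Rule.mk (nat_lit 14) (nat_lit 94) (Steps.bwd (nat_lit 10) (Steps.fwd (nat_lit 147456) (Steps.fwd (nat_lit 147456) (Steps.fwd (nat_lit 114688) (Steps.bwd (nat_lit 11) Steps.nil))))) (nat_lit 33) (nat_lit 5),
  Rule.mk (nat_lit 2) (nat_lit 286) (Steps.bwd (nat_lit 10) (Steps.fwd (nat_lit 16384) (Steps.fwd (nat_lit 32768) (Steps.bwd (nat_lit 3) (Steps.bwd (nat_lit 9) (Steps.bwd (nat_lit 8) (Steps.bwd (nat_lit 11) (Steps.fwd (nat_lit 57344) (Steps.fwd (nat_lit 32768) (Steps.fwd (nat_lit 8192) (Steps.fwd (nat_lit 24576) (Steps.fwd (nat_lit 81920) (Steps.fwd (nat_lit 57344) (Steps.bwd (nat_lit 2) (Steps.bwd (nat_lit 11) (Steps.fwd (nat_lit 16384) (Steps.fwd (nat_lit 81920) Steps.nil))))))))))))))))) (nat_lit 56) (nat_lit 14),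
  Rule.mk (nat_lit 7) (nat_lit 94) (Steps.bwd (nat_lit 1) (Steps.fwd (nat_lit 16384) (Steps.fwd (nat_lit 16384) (Steps.fwd (nat_lit 57344) (Steps.bwd (nat_lit 2) Steps.nil))))) (nat_lit 83) (nat_lit 0),
  Rule.mk (nat_lit 4) (nat_lit 62) (Steps.bwd (nat_lit 7) (Steps.fwd (nat_lit 32768) (Steps.fwd (nat_lit 57344) Steps.nil))) (nat_lit 81) (nat_lit 2),
  Rule.mk (nat_lit 4) (nat_lit 110) (Steps.bwd (nat_lit 15) (Steps.bwd (nat_lit 4) (Steps.fwd (nat_lit 73728) (Steps.bwd (nat_lit 10) (Steps.fwd (nat_lit 73728) (Steps.bwd (nat_lit 10) Steps.nil)))))) (nat_lit 60) (nat_lit 5),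
  Rule.mk (nat_lit 2) (nat_lit 94) (Steps.bwd (nat_lit 4) (Steps.bwd (nat_lit 1) (Steps.fwd (nat_lit 16384) (Steps.fwd (nat_lit 32768) (Steps.bwd (nat_lit 2) Steps.nil))))) (nat_lit 6) (nat_lit 2),
  Rule.mk (nat_lit 11) (nat_lit 94) (Steps.bwd (nat_lit 15) (Steps.fwd (nat_lit 90112) (Steps.bwd (nat_lit 14) (Steps.fwd (nat_lit 155648) (Steps.fwd (nat_lit 155648) Steps.nil))))) (nat_lit 32) (nat_lit 1),
  Rule.mk (nat_lit 16) (nat_lit 126) (Steps.bwd (nat_lit 15) (Steps.bwd (nat_lit 15) (Steps.bwd (nat_lit 4) (Steps.fwd (nat_lit 114688) (Steps.fwd (nat_lit 32768) (Steps.fwd (nat_lit 90112) (Steps.bwd (nat_lit 10) Steps.nil))))))) (nat_lit 53) (nat_lit 3),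
  Rule.mk (nat_lit 10) (nat_lit 110) (Steps.bwd (nat_lit 9) (Steps.fwd (nat_lit 90112) (Steps.fwd (nat_lit 24576) (Steps.bwd (nat_lit 15) (Steps.fwd (nat_lit 24576) (Steps.fwd (nat_lit 73728) Steps.nil)))))) (nat_lit 60) (nat_lit 2),
  Rule.mk (nat_lit 14) (nat_lit 110) (Steps.fwd (nat_lit 81920) (Steps.bwd (nat_lit 9) (Steps.bwd (nat_lit 18) (Steps.fwd (nat_lit 73728) (Steps.fwd (nat_lit 139264) (Steps.bwd (nat_lit 11) Steps.nil)))))) (nat_lit 66) (nat_lit 6),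
  Rule.mk (nat_lit 4) (nat_lit 110) (Steps.bwd (nat_lit 9) (Steps.fwd (nat_lit 90112) (Steps.bwd (nat_lit 15) (Steps.bwd (nat_lit 17) (Steps.fwd (nat_lit 131072) (Steps.bwd (nat_lit 9) Steps.nil)))))) (nat_lit 71) (nat_lit 6),
  Rule.mk (nat_lit 10) (nat_lit 110) (Steps.bwd (nat_lit 17) (Steps.bwd (nat_lit 9) (Steps.bwd (nat_lit 19) (Steps.fwd (nat_lit 73728) (Steps.fwd (nat_lit 90112) (Steps.bwd (nat_lit 15) Steps.nil)))))) (nat_lit 67) (nat_lit 3),
  Rule.mk (nat_lit 17) (nat_lit 110) (Steps.bwd (nat_lit 17) (Steps.bwd (nat_lit 9) (Steps.fwd (nat_lit 24576) (Steps.fwd (nat_lit 73728) (Steps.bwd (nat_lit 10) (Steps.fwd (nat_lit 114688) Steps.nil)))))) (nat_lit 71) (nat_lit 3),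
  Rule.mk (nat_lit 7) (nat_lit 126) (Steps.fwd (nat_lit 155648) (Steps.bwd (nat_lit 2) (Steps.fwd (nat_lit 8192) (Steps.fwd (nat_lit 65536) (Steps.bwd (nat_lit 18) (Steps.bwd (nat_lit 7) (Steps.bwd (nat_lit 19) Steps.nil))))))) (nat_lit 86) (nat_lit 5),
  Rule.mk (nat_lit 9) (nat_lit 110) (Steps.bwd (nat_lit 11) (Steps.fwd (nat_lit 73728) (Steps.fwd (nat_lit 32768) (Steps.fwd (nat_lit 122880) (Steps.fwd (nat_lit 32768) (Steps.fwd (nat_lit 81920) Steps.nil)))))) (nat_lit 61) (nat_lit 5),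
  Rule.mk (nat_lit 14) (nat_lit 110) (Steps.bwd (nat_lit 11) (Steps.fwd (nat_lit 73728) (Steps.fwd (nat_lit 32768) (Steps.bwd (nat_lit 9) (Steps.bwd (nat_lit 16) (Steps.fwd (nat_lit 139264) Steps.nil)))))) (nat_lit 70) (nat_lit 6),
  Rule.mk (nat_lit 2) (nat_lit 286) (Steps.bwd (nat_lit 11) (Steps.fwd (nat_lit 16384) (Steps.bwd (nat_lit 10) (Steps.fwd (nat_lit 8192) (Steps.bwd (nat_lit 10) (Steps.fwd (nat_lit 16384) (Steps.fwd (nat_lit 65536) (Steps.bwd (nat_lit 10) (Steps.bwd (nat_lit 3) (Steps.bwd (nat_lit 1) (Steps.fwd (nat_lit 24576) (Steps.fwd (nat_lit 65536) (Steps.bwd (nat_lit 10) (Steps.bwd (nat_lit 7) (Steps.fwd (nat_lit 73728) (Steps.fwd (nat_lit 24576) (Steps.bwd (nat_lit 4) Steps.nil))))))))))))))))) (nat_lit 57) (nat_lit 3),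
  Rule.mk (nat_lit 14) (nat_lit 94) (Steps.bwd (nat_lit 10) (Steps.bwd (nat_lit 19) (Steps.fwd (nat_lit 147456) (Steps.bwd (nat_lit 15) (Steps.fwd (nat_lit 81920) Steps.nil))))) (nat_lit 33) (nat_lit 5),
  Rule.mk (nat_lit 4) (nat_lit 126) (Steps.bwd (nat_lit 14) (Steps.bwd (nat_lit 3) (Steps.fwd (nat_lit 122880) (Steps.fwd (nat_lit 122880) (Steps.fwd (nat_lit 131072) (Steps.bwd (nat_lit 11) (Steps.fwd (nat_lit 81920) Steps.nil))))))) (nat_lit 52) (nat_lit 1),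
  Rule.mk (nat_lit 1) (nat_lit 94) (Steps.bwd (nat_lit 7) (Steps.fwd (nat_lit 8192) (Steps.bwd (nat_lit 2) (Steps.bwd (nat_lit 2) (Steps.fwd (nat_lit 57344) Steps.nil))))) (nat_lit 82) (nat_lit 2),
  Rule.mk (nat_lit 8) (nat_lit 94) (Steps.bwd (nat_lit 8) (Steps.fwd (nat_lit 16384) (Steps.bwd (nat_lit 1) (Steps.bwd (nat_lit 1) (Steps.fwd (nat_lit 16384) Steps.nil))))) (nat_lit 79) (nat_lit 5),
  Rule.mk (nat_lit 19) (nat_lit 158) (Steps.bwd (nat_lit 8) (Steps.fwd (nat_lit 147456) (Steps.bwd (nat_lit 8) (Steps.bwd (nat_lit 19) (Steps.bwd (nat_lit 8) (Steps.bwd (nat_lit 19) (Steps.fwd (nat_lit 57344) (Steps.fwd (nat_lit 147456) (Steps.fwd (nat_lit 57344) Steps.nil))))))))) (nat_lit 85) (nat_lit 1),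
  Rule.mk (nat_lit 2) (nat_lit 126) (Steps.bwd (nat_lit 2) (Steps.fwd (nat_lit 65536) (Steps.bwd (nat_lit 18) (Steps.fwd (nat_lit 65536) (Steps.bwd (nat_lit 19) (Steps.fwd (nat_lit 65536) (Steps.bwd (nat_lit 18) Steps.nil))))))) (nat_lit 86) (nat_lit 7),
  Rule.mk (nat_lit 1) (nat_lit 94) (Steps.bwd (nat_lit 4) (Steps.fwd (nat_lit 8192) (Steps.bwd (nat_lit 2) (Steps.bwd (nat_lit 3) (Steps.fwd (nat_lit 16384) Steps.nil))))) (nat_lit 7) (nat_lit 0),
  Rule.mk (nat_lit 2) (nat_lit 94) (Steps.bwd (nat_lit 2) (Steps.bwd (nat_lit 3) (Steps.bwd (nat_lit 1) (Steps.fwd (nat_lit 16384) (Steps.bwd (nat_lit 4) Steps.nil))))) (nat_lit 7) (nat_lit 2),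
  Rule.mk (nat_lit 3) (nat_lit 94) (Steps.bwd (nat_lit 2) (Steps.bwd (nat_lit 2) (Steps.fwd (nat_lit 24576) (Steps.bwd (nat_lit 1) (Steps.bwd (nat_lit 1) Steps.nil))))) (nat_lit 6) (nat_lit 0),
  Rule.mk (nat_lit 19) (nat_lit 78) (Steps.bwd (nat_lit 19) (Steps.bwd (nat_lit 2) (Steps.bwd (nat_lit 18) (Steps.fwd (nat_lit 16384) Steps.nil)))) (nat_lit 48) (nat_lit 4),
  Rule.mk (nat_lit 15) (nat_lit 158) (Steps.bwd (nat_lit 9) (Steps.fwd (nat_lit 32768) (Steps.bwd (nat_lit 3) (Steps.fwd (nat_lit 16384) (Steps.fwd (nat_lit 106496) (Steps.bwd (nat_lit 11) (Steps.bwd (nat_lit 17) (Steps.bwd (nat_lit 2) (Steps.fwd (nat_lit 73728) Steps.nil))))))))) (nat_lit 63) (nat_lit 9),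
  Rule.mk (nat_lit 2) (nat_lit 158) (Steps.bwd (nat_lit 9) (Steps.bwd (nat_lit 15) (Steps.bwd (nat_lit 9) (Steps.bwd (nat_lit 3) (Steps.fwd (nat_lit 32768) (Steps.fwd (nat_lit 16384) (Steps.bwd (nat_lit 12) (Steps.bwd (nat_lit 11) (Steps.fwd (nat_lit 131072) Steps.nil))))))))) (nat_lit 63) (nat_lit 7),
  Rule.mk (nat_lit 13) (nat_lit 78) (Steps.bwd (nat_lit 1) (Steps.bwd (nat_lit 11) (Steps.bwd (nat_lit 11) (Steps.fwd (nat_lit 8192) Steps.nil)))) (nat_lit 43) (nat_lit 4),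
  Rule.mk (nat_lit 7) (nat_lit 94) (Steps.fwd (nat_lit 16384) (Steps.bwd (nat_lit 1) (Steps.bwd (nat_lit 1) (Steps.fwd (nat_lit 57344) (Steps.bwd (nat_lit 2) Steps.nil))))) (nat_lit 83) (nat_lit 0),
  Rule.mk (nat_lit 10) (nat_lit 78) (Steps.bwd (nat_lit 10) (Steps.fwd (nat_lit 8192) (Steps.fwd (nat_lit 106496) (Steps.bwd (nat_lit 1) Steps.nil)))) (nat_lit 42) (nat_lit 4),
  Rule.mk (nat_lit 2) (nat_lit 110) (Steps.bwd (nat_lit 15) (Steps.fwd (nat_lit 16384) (Steps.bwd (nat_lit 15) (Steps.bwd (nat_lit 15) (Steps.fwd (nat_lit 90112) (Steps.fwd (nat_lit 139264) Steps.nil)))))) (nat_lit 45) (nat_lit 5),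
  Rule.mk (nat_lit 10) (nat_lit 94) (Steps.bwd (nat_lit 16) (Steps.fwd (nat_lit 147456) (Steps.fwd (nat_lit 147456) (Steps.bwd (nat_lit 11) (Steps.fwd (nat_lit 131072) Steps.nil))))) (nat_lit 34) (nat_lit 3),
  Rule.mk (nat_lit 14) (nat_lit 126) (Steps.bwd (nat_lit 17) (Steps.bwd (nat_lit 11) (Steps.bwd (nat_lit 11) (Steps.fwd (nat_lit 24576) (Steps.bwd (nat_lit 14) (Steps.bwd (nat_lit 3) (Steps.fwd (nat_lit 122880) Steps.nil))))))) (nat_lit 52) (nat_lit 5),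
  Rule.mk (nat_lit 8) (nat_lit 158) (Steps.bwd (nat_lit 19) (Steps.bwd (nat_lit 8) (Steps.bwd (nat_lit 19) (Steps.fwd (nat_lit 57344) (Steps.bwd (nat_lit 19) (Steps.bwd (nat_lit 8) (Steps.fwd (nat_lit 147456) (Steps.fwd (nat_lit 57344) (Steps.bwd (nat_lit 19) Steps.nil))))))))) (nat_lit 85) (nat_lit 0),
  Rule.mk (nat_lit 8) (nat_lit 94) (Steps.fwd (nat_lit 16384) (Steps.fwd (nat_lit 16384) (Steps.bwd (nat_lit 1) (Steps.fwd (nat_lit 16384) (Steps.bwd (nat_lit 8) Steps.nil))))) (nat_lit 79) (nat_lit 0),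
  Rule.mk (nat_lit 13) (nat_lit 126) (Steps.bwd (nat_lit 4) (Steps.bwd (nat_lit 12) (Steps.fwd (nat_lit 32768) (Steps.fwd (nat_lit 139264) (Steps.fwd (nat_lit 90112) (Steps.bwd (nat_lit 16) (Steps.bwd (nat_lit 15) Steps.nil))))))) (nat_lit 50) (nat_lit 0),
  Rule.mk (nat_lit 1) (nat_lit 142) (Steps.bwd (nat_lit 17) (Steps.bwd (nat_lit 11) (Steps.fwd (nat_lit 131072) (Steps.fwd (nat_lit 122880) (Steps.bwd (nat_lit 12) (Steps.fwd (nat_lit 81920) (Steps.bwd (nat_lit 2) (Steps.bwd (nat_lit 16) Steps.nil)))))))) (nat_lit 46) (nat_lit 3),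
  Rule.mk (nat_lit 1) (nat_lit 94) (Steps.fwd (nat_lit 16384) (Steps.bwd (nat_lit 1) (Steps.fwd (nat_lit 57344) (Steps.bwd (nat_lit 8) (Steps.bwd (nat_lit 1) Steps.nil))))) (nat_lit 79) (nat_lit 2),
  Rule.mk (nat_lit 1) (nat_lit 94) (Steps.bwd (nat_lit 7) (Steps.fwd (nat_lit 8192) (Steps.bwd (nat_lit 2) (Steps.fwd (nat_lit 8192) (Steps.fwd (nat_lit 57344) Steps.nil))))) (nat_lit 82) (nat_lit 2),
  Rule.mk (nat_lit 1) (nat_lit 94) (Steps.fwd (nat_lit 24576) (Steps.fwd (nat_lit 8192) (Steps.bwd (nat_lit 2) (Steps.bwd (nat_lit 3) (Steps.bwd (nat_lit 1) Steps.nil))))) (nat_lit 7) (nat_lit 0),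
  Rule.mk (nat_lit 11) (nat_lit 110) (Steps.bwd (nat_lit 9) (Steps.fwd (nat_lit 32768) (Steps.fwd (nat_lit 122880) (Steps.bwd (nat_lit 3) (Steps.fwd (nat_lit 81920) (Steps.bwd (nat_lit 9) Steps.nil)))))) (nat_lit 61) (nat_lit 6),
  Rule.mk (nat_lit 17) (nat_lit 94) (Steps.fwd (nat_lit 90112) (Steps.bwd (nat_lit 16) (Steps.bwd (nat_lit 19) (Steps.bwd (nat_lit 19) (Steps.bwd (nat_lit 11) Steps.nil))))) (nat_lit 34) (nat_lit 2),
  Rule.mk (nat_lit 2) (nat_lit 78) (Steps.bwd (nat_lit 12) (Steps.fwd (nat_lit 16384) (Steps.bwd (nat_lit 10) (Steps.fwd (nat_lit 90112) Steps.nil)))) (nat_lit 42) (nat_lit 1),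
  Rule.mk (nat_lit 15) (nat_lit 110) (Steps.bwd (nat_lit 10) (Steps.fwd (nat_lit 139264) (Steps.fwd (nat_lit 8192) (Steps.bwd (nat_lit 15) (Steps.bwd (nat_lit 1) (Steps.fwd (nat_lit 114688) Steps.nil)))))) (nat_lit 45) (nat_lit 2),
  Rule.mk (nat_lit 10) (nat_lit 94) (Steps.bwd (nat_lit 16) (Steps.bwd (nat_lit 19) (Steps.bwd (nat_lit 19) (Steps.fwd (nat_lit 81920) (Steps.bwd (nat_lit 17) Steps.nil))))) (nat_lit 34) (nat_lit 3),
  Rule.mk (nat_lit 8) (nat_lit 94) (Steps.bwd (nat_lit 1) (Steps.fwd (nat_lit 65536) (Steps.bwd (nat_lit 2) (Steps.fwd (nat_lit 8192) (Steps.bwd (nat_lit 2) Steps.nil))))) (nat_lit 82) (nat_lit 1),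
  Rule.mk (nat_lit 11) (nat_lit 110) (Steps.bwd (nat_lit 9) (Steps.fwd (nat_lit 32768) (Steps.fwd (nat_lit 122880) (Steps.bwd (nat_lit 3) (Steps.fwd (nat_lit 81920) (Steps.fwd (nat_lit 73728) Steps.nil)))))) (nat_lit 61) (nat_lit 6),
  Rule.mk (nat_lit 13) (nat_lit 78) (Steps.bwd (nat_lit 15) (Steps.fwd (nat_lit 106496) (Steps.bwd (nat_lit 14) (Steps.fwd (nat_lit 155648) Steps.nil)))) (nat_lit 36) (nat_lit 1),
  Rule.mk (nat_lit 11) (nat_lit 78) (Steps.fwd (nat_lit 106496) (Steps.bwd (nat_lit 10) (Steps.fwd (nat_lit 155648) (Steps.bwd (nat_lit 13) Steps.nil)))) (nat_lit 18) (nat_lit 3),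
  Rule.mk (nat_lit 14) (nat_lit 78) (Steps.fwd (nat_lit 106496) (Steps.bwd (nat_lit 19) (Steps.fwd (nat_lit 114688) (Steps.bwd (nat_lit 13) Steps.nil)))) (nat_lit 37) (nat_lit 4),
  Rule.mk (nat_lit 17) (nat_lit 142) (Steps.bwd (nat_lit 1) (Steps.fwd (nat_lit 90112) (Steps.bwd (nat_lit 13) (Steps.bwd (nat_lit 15) (Steps.fwd (nat_lit 139264) (Steps.bwd (nat_lit 10) (Steps.bwd (nat_lit 16) (Steps.fwd (nat_lit 8192) Steps.nil)))))))) (nat_lit 47) (nat_lit 8),
  Rule.mk (nat_lit 17) (nat_lit 110) (Steps.bwd (nat_lit 11) (Steps.fwd (nat_lit 122880) (Steps.fwd (nat_lit 122880) (Steps.bwd (nat_lit 2) (Steps.fwd (nat_lit 122880) (Steps.bwd (nat_lit 1) Steps.nil)))))) (nat_lit 44) (nat_lit 4),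
  Rule.mk (nat_lit 15) (nat_lit 110) (Steps.bwd (nat_lit 15) (Steps.bwd (nat_lit 10) (Steps.bwd (nat_lit 16) (Steps.fwd (nat_lit 8192) (Steps.fwd (nat_lit 114688) (Steps.fwd (nat_lit 16384) Steps.nil)))))) (nat_lit 45) (nat_lit 1),
  Rule.mk (nat_lit 1) (nat_lit 110) (Steps.bwd (nat_lit 17) (Steps.fwd (nat_lit 81920) (Steps.fwd (nat_lit 122880) (Steps.fwd (nat_lit 122880) (Steps.bwd (nat_lit 2) (Steps.fwd (nat_lit 122880) Steps.nil)))))) (nat_lit 44) (nat_lit 3),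
  Rule.mk (nat_lit 14) (nat_lit 94) (Steps.fwd (nat_lit 90112) (Steps.bwd (nat_lit 19) (Steps.bwd (nat_lit 19) (Steps.bwd (nat_lit 15) (Steps.bwd (nat_lit 11) Steps.nil))))) (nat_lit 33) (nat_lit 5),
  Rule.mk (nat_lit 2) (nat_lit 94) (Steps.bwd (nat_lit 4) (Steps.bwd (nat_lit 1) (Steps.bwd (nat_lit 1) (Steps.bwd (nat_lit 3) (Steps.fwd (nat_lit 8192) Steps.nil))))) (nat_lit 6) (nat_lit 2),
  Rule.mk (nat_lit 1) (nat_lit 94) (Steps.bwd (nat_lit 4) (Steps.bwd (nat_lit 2) (Steps.fwd (nat_lit 8192) (Steps.bwd (nat_lit 3) (Steps.fwd (nat_lit 16384) Steps.nil))))) (nat_lit 7) (nat_lit 0)]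
noncomputable def R_42 : List (Rule) := [Rule.mk (nat_lit 16) (nat_lit 94) (Steps.bwd (nat_lit 19) (Steps.bwd (nat_lit 19) (Steps.bwd (nat_lit 11) (Steps.bwd (nat_lit 17) (Steps.fwd (nat_lit 90112) Steps.nil))))) (nat_lit 34) (nat_lit 4),
  Rule.mk (nat_lit 16) (nat_lit 110) (Steps.bwd (nat_lit 9) (Steps.bwd (nat_lit 17) (Steps.fwd (nat_lit 73728) (Steps.fwd (nat_lit 32768) (Steps.bwd (nat_lit 3) (Steps.fwd (nat_lit 114688) Steps.nil)))))) (nat_lit 65) (nat_lit 4),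
  Rule.mk (nat_lit 13) (nat_lit 190) (Steps.bwd (nat_lit 9) (Steps.bwd (nat_lit 2) (Steps.fwd (nat_lit 8192) (Steps.fwd (nat_lit 8192) (Steps.bwd (nat_lit 15) (Steps.fwd (nat_lit 8192) (Steps.fwd (nat_lit 139264) (Steps.fwd (nat_lit 98304) (Steps.fwd (nat_lit 73728) (Steps.bwd (nat_lit 12) (Steps.bwd (nat_lit 9) Steps.nil))))))))))) (nat_lit 75) (nat_lit 11),
  Rule.mk (nat_lit 13) (nat_lit 190) (Steps.bwd (nat_lit 9) (Steps.fwd (nat_lit 8192) (Steps.fwd (nat_lit 8192) (Steps.fwd (nat_lit 8192) (Steps.fwd (nat_lit 114688) (Steps.bwd (nat_lit 2) (Steps.bwd (nat_lit 16) (Steps.bwd (nat_lit 13) (Steps.bwd (nat_lit 9) (Steps.fwd (nat_lit 106496) (Steps.fwd (nat_lit 73728) Steps.nil))))))))))) (nat_lit 75) (nat_lit 11),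
  Rule.mk (nat_lit 1) (nat_lit 110) (Steps.bwd (nat_lit 15) (Steps.bwd (nat_lit 15) (Steps.bwd (nat_lit 10) (Steps.bwd (nat_lit 16) (Steps.fwd (nat_lit 8192) (Steps.fwd (nat_lit 114688) Steps.nil)))))) (nat_lit 45) (nat_lit 0),
  Rule.mk (nat_lit 9) (nat_lit 110) (Steps.fwd (nat_lit 81920) (Steps.fwd (nat_lit 73728) (Steps.fwd (nat_lit 32768) (Steps.bwd (nat_lit 14) (Steps.bwd (nat_lit 3) (Steps.bwd (nat_lit 11) Steps.nil)))))) (nat_lit 61) (nat_lit 5),
  Rule.mk (nat_lit 9) (nat_lit 206) (Steps.fwd (nat_lit 16384) (Steps.fwd (nat_lit 32768) (Steps.fwd (nat_lit 32768) (Steps.bwd (nat_lit 1) (Steps.fwd (nat_lit 24576) (Steps.fwd (nat_lit 16384) (Steps.fwd (nat_lit 90112) (Steps.bwd (nat_lit 18) (Steps.bwd (nat_lit 17) (Steps.fwd (nat_lit 73728) (Steps.bwd (nat_lit 2) (Steps.fwd (nat_lit 8192) Steps.nil)))))))))))) (nat_lit 69) (nat_lit 0),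
  Rule.mk (nat_lit 9) (nat_lit 206) (Steps.bwd (nat_lit 16) (Steps.fwd (nat_lit 147456) (Steps.bwd (nat_lit 11) (Steps.bwd (nat_lit 2) (Steps.fwd (nat_lit 8192) (Steps.bwd (nat_lit 9) (Steps.fwd (nat_lit 16384) (Steps.fwd (nat_lit 32768) (Steps.fwd (nat_lit 32768) (Steps.bwd (nat_lit 1) (Steps.fwd (nat_lit 24576) (Steps.fwd (nat_lit 16384) Steps.nil)))))))))))) (nat_lit 72) (nat_lit 8),
  Rule.mk (nat_lit 7) (nat_lit 126) (Steps.fwd (nat_lit 155648) (Steps.bwd (nat_lit 2) (Steps.fwd (nat_lit 8192) (Steps.bwd (nat_lit 7) (Steps.bwd (nat_lit 18) (Steps.fwd (nat_lit 65536) (Steps.bwd (nat_lit 19) Steps.nil))))))) (nat_lit 86) (nat_lit 5),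
  Rule.mk (nat_lit 12) (nat_lit 62) (Steps.bwd (nat_lit 2) (Steps.fwd (nat_lit 40960) (Steps.fwd (nat_lit 16384) Steps.nil))) (nat_lit 12) (nat_lit 1),
  Rule.mk (nat_lit 19) (nat_lit 78) (Steps.bwd (nat_lit 2) (Steps.bwd (nat_lit 18) (Steps.bwd (nat_lit 1) (Steps.fwd (nat_lit 147456) Steps.nil)))) (nat_lit 48) (nat_lit 0),
  Rule.mk (nat_lit 8) (nat_lit 286) (Steps.bwd (nat_lit 11) (Steps.fwd (nat_lit 57344) (Steps.bwd (nat_lit 3) (Steps.fwd (nat_lit 8192) (Steps.bwd (nat_lit 4) (Steps.fwd (nat_lit 81920) (Steps.bwd (nat_lit 8) (Steps.fwd (nat_lit 8192) (Steps.fwd (nat_lit 81920) (Steps.fwd (nat_lit 16384) (Steps.bwd (nat_lit 11) (Steps.bwd (nat_lit 2) (Steps.fwd (nat_lit 90112) (Steps.bwd (nat_lit 1) (Steps.bwd (nat_lit 3) (Steps.fwd (nat_lit 32768) (Steps.fwd (nat_lit 73728) Steps.nil))))))))))))))))) (nat_lit 56) (nat_lit 2),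
  Rule.mk (nat_lit 7) (nat_lit 94) (Steps.bwd (nat_lit 2) (Steps.bwd (nat_lit 2) (Steps.fwd (nat_lit 8192) (Steps.bwd (nat_lit 8) (Steps.fwd (nat_lit 16384) Steps.nil))))) (nat_lit 82) (nat_lit 3),
  Rule.mk (nat_lit 9) (nat_lit 110) (Steps.fwd (nat_lit 90112) (Steps.fwd (nat_lit 114688) (Steps.fwd (nat_lit 90112) (Steps.fwd (nat_lit 131072) (Steps.fwd (nat_lit 73728) (Steps.bwd (nat_lit 19) Steps.nil)))))) (nat_lit 67) (nat_lit 0),
  Rule.mk (nat_lit 4) (nat_lit 110) (Steps.bwd (nat_lit 9) (Steps.fwd (nat_lit 90112) (Steps.fwd (nat_lit 114688) (Steps.fwd (nat_lit 131072) (Steps.bwd (nat_lit 17) (Steps.bwd (nat_lit 9) Steps.nil)))))) (nat_lit 71) (nat_lit 6),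
  Rule.mk (nat_lit 4) (nat_lit 126) (Steps.fwd (nat_lit 122880) (Steps.fwd (nat_lit 32768) (Steps.fwd (nat_lit 122880) (Steps.fwd (nat_lit 122880) (Steps.bwd (nat_lit 17) (Steps.bwd (nat_lit 11) (Steps.bwd (nat_lit 11) Steps.nil))))))) (nat_lit 52) (nat_lit 1),
  Rule.mk (nat_lit 9) (nat_lit 190) (Steps.fwd (nat_lit 106496) (Steps.fwd (nat_lit 73728) (Steps.fwd (nat_lit 98304) (Steps.fwd (nat_lit 73728) (Steps.bwd (nat_lit 2) (Steps.bwd (nat_lit 2) (Steps.bwd (nat_lit 2) (Steps.fwd (nat_lit 114688) (Steps.bwd (nat_lit 2) (Steps.bwd (nat_lit 16) (Steps.bwd (nat_lit 13) Steps.nil))))))))))) (nat_lit 75) (nat_lit 8),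
  Rule.mk (nat_lit 9) (nat_lit 110) (Steps.bwd (nat_lit 16) (Steps.bwd (nat_lit 11) (Steps.fwd (nat_lit 122880) (Steps.fwd (nat_lit 81920) (Steps.bwd (nat_lit 9) (Steps.bwd (nat_lit 18) Steps.nil)))))) (nat_lit 66) (nat_lit 3),
  Rule.mk (nat_lit 9) (nat_lit 190) (Steps.bwd (nat_lit 12) (Steps.bwd (nat_lit 9) (Steps.fwd (nat_lit 98304) (Steps.bwd (nat_lit 9) (Steps.fwd (nat_lit 8192) (Steps.bwd (nat_lit 2) (Steps.fwd (nat_lit 8192) (Steps.bwd (nat_lit 15) (Steps.fwd (nat_lit 8192) (Steps.bwd (nat_lit 16) (Steps.bwd (nat_lit 13) Steps.nil))))))))))) (nat_lit 75) (nat_lit 8),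
  Rule.mk (nat_lit 14) (nat_lit 126) (Steps.bwd (nat_lit 17) (Steps.fwd (nat_lit 81920) (Steps.fwd (nat_lit 81920) (Steps.bwd (nat_lit 4) (Steps.fwd (nat_lit 122880) (Steps.bwd (nat_lit 3) (Steps.fwd (nat_lit 122880) Steps.nil))))))) (nat_lit 52) (nat_lit 5),
  Rule.mk (nat_lit 17) (nat_lit 110) (Steps.bwd (nat_lit 9) (Steps.bwd (nat_lit 3) (Steps.bwd (nat_lit 3) (Steps.bwd (nat_lit 15) (Steps.bwd (nat_lit 16) (Steps.fwd (nat_lit 73728) Steps.nil)))))) (nat_lit 65) (nat_lit 6),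
  Rule.mk (nat_lit 11) (nat_lit 94) (Steps.bwd (nat_lit 17) (Steps.fwd (nat_lit 90112) (Steps.fwd (nat_lit 139264) (Steps.fwd (nat_lit 147456) (Steps.fwd (nat_lit 147456) Steps.nil))))) (nat_lit 34) (nat_lit 1),
  Rule.mk (nat_lit 3) (nat_lit 78) (Steps.bwd (nat_lit 3) (Steps.bwd (nat_lit 3) (Steps.fwd (nat_lit 32768) (Steps.bwd (nat_lit 3) Steps.nil)))) (nat_lit 2) (nat_lit 0),
  Rule.mk (nat_lit 15) (nat_lit 126) (Steps.bwd (nat_lit 3) (Steps.fwd (nat_lit 90112) (Steps.fwd (nat_lit 90112) (Steps.bwd (nat_lit 16) (Steps.fwd (nat_lit 114688) (Steps.bwd (nat_lit 15) (Steps.fwd (nat_lit 24576) Steps.nil))))))) (nat_lit 53) (nat_lit 7),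
  Rule.mk (nat_lit 2) (nat_lit 158) (Steps.bwd (nat_lit 9) (Steps.fwd (nat_lit 114688) (Steps.fwd (nat_lit 73728) (Steps.bwd (nat_lit 3) (Steps.bwd (nat_lit 3) (Steps.fwd (nat_lit 16384) (Steps.fwd (nat_lit 106496) (Steps.fwd (nat_lit 81920) (Steps.fwd (nat_lit 131072) Steps.nil))))))))) (nat_lit 63) (nat_lit 7),
  Rule.mk (nat_lit 4) (nat_lit 126) (Steps.fwd (nat_lit 8192) (Steps.bwd (nat_lit 4) (Steps.bwd (nat_lit 2) (Steps.fwd (nat_lit 24576) (Steps.bwd (nat_lit 2) (Steps.fwd (nat_lit 24576) (Steps.bwd (nat_lit 2) Steps.nil))))))) (nat_lit 5) (nat_lit 1),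
  Rule.mk (nat_lit 1) (nat_lit 206) (Steps.fwd (nat_lit 16384) (Steps.bwd (nat_lit 10) (Steps.fwd (nat_lit 155648) (Steps.fwd (nat_lit 131072) (Steps.fwd (nat_lit 73728) (Steps.bwd (nat_lit 2) (Steps.fwd (nat_lit 32768) (Steps.bwd (nat_lit 2) (Steps.bwd (nat_lit 4) (Steps.bwd (nat_lit 4) (Steps.bwd (nat_lit 2) (Steps.fwd (nat_lit 73728) Steps.nil)))))))))))) (nat_lit 73) (nat_lit 1),
  Rule.mk (nat_lit 9) (nat_lit 110) (Steps.fwd (nat_lit 32768) (Steps.fwd (nat_lit 32768) (Steps.fwd (nat_lit 114688) (Steps.fwd (nat_lit 139264) (Steps.bwd (nat_lit 9) (Steps.bwd (nat_lit 17) Steps.nil)))))) (nat_lit 65) (nat_lit 0),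
  Rule.mk (nat_lit 11) (nat_lit 94) (Steps.bwd (nat_lit 15) (Steps.fwd (nat_lit 90112) (Steps.fwd (nat_lit 122880) (Steps.bwd (nat_lit 18) (Steps.bwd (nat_lit 18) Steps.nil))))) (nat_lit 32) (nat_lit 1),
  Rule.mk (nat_lit 14) (nat_lit 94) (Steps.fwd (nat_lit 90112) (Steps.bwd (nat_lit 19) (Steps.bwd (nat_lit 19) (Steps.fwd (nat_lit 114688) (Steps.bwd (nat_lit 11) Steps.nil))))) (nat_lit 33) (nat_lit 5),
  Rule.mk (nat_lit 14) (nat_lit 142) (Steps.bwd (nat_lit 12) (Steps.bwd (nat_lit 11) (Steps.fwd (nat_lit 8192) (Steps.bwd (nat_lit 16) (Steps.fwd (nat_lit 16384) (Steps.bwd (nat_lit 17) (Steps.bwd (nat_lit 11) (Steps.fwd (nat_lit 131072) Steps.nil)))))))) (nat_lit 46) (nat_lit 7),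
  Rule.mk (nat_lit 11) (nat_lit 78) (Steps.fwd (nat_lit 81920) (Steps.fwd (nat_lit 81920) (Steps.bwd (nat_lit 11) (Steps.bwd (nat_lit 11) Steps.nil)))) (nat_lit 21) (nat_lit 0),
  Rule.mk (nat_lit 17) (nat_lit 126) (Steps.bwd (nat_lit 11) (Steps.fwd (nat_lit 81920) (Steps.fwd (nat_lit 24576) (Steps.fwd (nat_lit 122880) (Steps.fwd (nat_lit 32768) (Steps.bwd (nat_lit 14) (Steps.fwd (nat_lit 122880) Steps.nil))))))) (nat_lit 52) (nat_lit 6),
  Rule.mk (nat_lit 0) (nat_lit 222) (Steps.fwd (nat_lit 16384) (Steps.bwd (nat_lit 1) (Steps.fwd (nat_lit 90112) (Steps.fwd (nat_lit 155648) (Steps.bwd (nat_lit 17) (Steps.fwd (nat_lit 73728) (Steps.bwd (nat_lit 2) (Steps.fwd (nat_lit 32768) (Steps.fwd (nat_lit 8192) (Steps.bwd (nat_lit 4) (Steps.bwd (nat_lit 4) (Steps.fwd (nat_lit 8192) (Steps.fwd (nat_lit 73728) Steps.nil))))))))))))) (nat_lit 73) (nat_lit 0),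
  Rule.mk (nat_lit 9) (nat_lit 190) (Steps.bwd (nat_lit 12) (Steps.bwd (nat_lit 9) (Steps.bwd (nat_lit 13) (Steps.fwd (nat_lit 73728) (Steps.bwd (nat_lit 2) (Steps.bwd (nat_lit 2) (Steps.bwd (nat_lit 2) (Steps.fwd (nat_lit 114688) (Steps.bwd (nat_lit 2) (Steps.fwd (nat_lit 139264) (Steps.bwd (nat_lit 13) Steps.nil))))))))))) (nat_lit 75) (nat_lit 8),
  Rule.mk (nat_lit 9) (nat_lit 110) (Steps.fwd (nat_lit 90112) (Steps.bwd (nat_lit 4) (Steps.fwd (nat_lit 114688) (Steps.bwd (nat_lit 4) (Steps.bwd (nat_lit 9) (Steps.bwd (nat_lit 10) Steps.nil)))))) (nat_lit 60) (nat_lit 3),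
  Rule.mk (nat_lit 9) (nat_lit 110) (Steps.bwd (nat_lit 4) (Steps.fwd (nat_lit 73728) (Steps.bwd (nat_lit 10) (Steps.bwd (nat_lit 15) (Steps.bwd (nat_lit 17) (Steps.bwd (nat_lit 17) Steps.nil)))))) (nat_lit 71) (nat_lit 5),
  Rule.mk (nat_lit 3) (nat_lit 110) (Steps.bwd (nat_lit 3) (Steps.fwd (nat_lit 114688) (Steps.fwd (nat_lit 139264) (Steps.fwd (nat_lit 73728) (Steps.bwd (nat_lit 17) (Steps.fwd (nat_lit 73728) Steps.nil)))))) (nat_lit 65) (nat_lit 1),
  Rule.mk (nat_lit 3) (nat_lit 94) (Steps.fwd (nat_lit 16384) (Steps.fwd (nat_lit 16384) (Steps.fwd (nat_lit 24576) (Steps.bwd (nat_lit 2) (Steps.bwd (nat_lit 2) Steps.nil))))) (nat_lit 7) (nat_lit 4),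
  Rule.mk (nat_lit 13) (nat_lit 126) (Steps.bwd (nat_lit 4) (Steps.fwd (nat_lit 106496) (Steps.fwd (nat_lit 32768) (Steps.bwd (nat_lit 16) (Steps.fwd (nat_lit 90112) (Steps.fwd (nat_lit 139264) (Steps.fwd (nat_lit 114688) Steps.nil))))))) (nat_lit 50) (nat_lit 0),
  Rule.mk (nat_lit 16) (nat_lit 62) (Steps.fwd (nat_lit 106496) (Steps.bwd (nat_lit 17) (Steps.bwd (nat_lit 13) Steps.nil))) (nat_lit 39) (nat_lit 3),
  Rule.mk (nat_lit 10) (nat_lit 110) (Steps.bwd (nat_lit 16) (Steps.fwd (nat_lit 8192) (Steps.bwd (nat_lit 15) (Steps.fwd (nat_lit 16384) (Steps.bwd (nat_lit 15) (Steps.bwd (nat_lit 15) Steps.nil)))))) (nat_lit 45) (nat_lit 3),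
  Rule.mk (nat_lit 2) (nat_lit 78) (Steps.bwd (nat_lit 12) (Steps.bwd (nat_lit 1) (Steps.fwd (nat_lit 90112) (Steps.fwd (nat_lit 90112) Steps.nil)))) (nat_lit 42) (nat_lit 1),
  Rule.mk (nat_lit 4) (nat_lit 94) (Steps.fwd (nat_lit 16384) (Steps.fwd (nat_lit 16384) (Steps.fwd (nat_lit 32768) (Steps.fwd (nat_lit 8192) (Steps.bwd (nat_lit 2) Steps.nil))))) (nat_lit 6) (nat_lit 3),
  Rule.mk (nat_lit 1) (nat_lit 94) (Steps.fwd (nat_lit 65536) (Steps.fwd (nat_lit 8192) (Steps.bwd (nat_lit 2) (Steps.fwd (nat_lit 8192) (Steps.bwd (nat_lit 8) Steps.nil))))) (nat_lit 82) (nat_lit 2),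
  Rule.mk (nat_lit 9) (nat_lit 206) (Steps.bwd (nat_lit 2) (Steps.fwd (nat_lit 32768) (Steps.bwd (nat_lit 2) (Steps.bwd (nat_lit 4) (Steps.bwd (nat_lit 4) (Steps.fwd (nat_lit 8192) (Steps.bwd (nat_lit 9) (Steps.fwd (nat_lit 16384) (Steps.fwd (nat_lit 16384) (Steps.bwd (nat_lit 10) (Steps.fwd (nat_lit 155648) (Steps.bwd (nat_lit 17) Steps.nil)))))))))))) (nat_lit 73) (nat_lit 6),
  Rule.mk (nat_lit 15) (nat_lit 110) (Steps.bwd (nat_lit 15) (Steps.bwd (nat_lit 10) (Steps.fwd (nat_lit 139264) (Steps.bwd (nat_lit 2) (Steps.bwd (nat_lit 15) (Steps.bwd (nat_lit 1) Steps.nil)))))) (nat_lit 45) (nat_lit 1),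
  Rule.mk (nat_lit 9) (nat_lit 110) (Steps.fwd (nat_lit 147456) (Steps.bwd (nat_lit 9) (Steps.bwd (nat_lit 10) (Steps.bwd (nat_lit 15) (Steps.fwd (nat_lit 90112) (Steps.bwd (nat_lit 17) Steps.nil)))))) (nat_lit 67) (nat_lit 5),
  Rule.mk (nat_lit 10) (nat_lit 110) (Steps.fwd (nat_lit 24576) (Steps.bwd (nat_lit 15) (Steps.fwd (nat_lit 24576) (Steps.bwd (nat_lit 9) (Steps.fwd (nat_lit 90112) (Steps.bwd (nat_lit 9) Steps.nil)))))) (nat_lit 60) (nat_lit 4),
  Rule.mk (nat_lit 9) (nat_lit 110) (Steps.bwd (nat_lit 10) (Steps.bwd (nat_lit 15) (Steps.bwd (nat_lit 10) (Steps.bwd (nat_lit 17) (Steps.bwd (nat_lit 9) (Steps.fwd (nat_lit 147456) Steps.nil)))))) (nat_lit 67) (nat_lit 0),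
  Rule.mk (nat_lit 16) (nat_lit 110) (Steps.bwd (nat_lit 11) (Steps.bwd (nat_lit 14) (Steps.bwd (nat_lit 11) (Steps.fwd (nat_lit 73728) (Steps.bwd (nat_lit 18) (Steps.fwd (nat_lit 73728) Steps.nil)))))) (nat_lit 66) (nat_lit 4),
  Rule.mk (nat_lit 9) (nat_lit 110) (Steps.bwd (nat_lit 17) (Steps.bwd (nat_lit 14) (Steps.fwd (nat_lit 24576) (Steps.fwd (nat_lit 24576) (Steps.fwd (nat_lit 73728) (Steps.bwd (nat_lit 16) Steps.nil)))))) (nat_lit 64) (nat_lit 3),
  Rule.mk (nat_lit 15) (nat_lit 94) (Steps.fwd (nat_lit 81920) (Steps.fwd (nat_lit 122880) (Steps.fwd (nat_lit 90112) (Steps.bwd (nat_lit 19) (Steps.bwd (nat_lit 19) Steps.nil))))) (nat_lit 33) (nat_lit 3),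
  Rule.mk (nat_lit 17) (nat_lit 110) (Steps.bwd (nat_lit 17) (Steps.bwd (nat_lit 9) (Steps.bwd (nat_lit 4) (Steps.fwd (nat_lit 73728) (Steps.bwd (nat_lit 10) (Steps.bwd (nat_lit 15) Steps.nil)))))) (nat_lit 71) (nat_lit 3),
  Rule.mk (nat_lit 19) (nat_lit 62) (Steps.fwd (nat_lit 90112) (Steps.bwd (nat_lit 18) (Steps.bwd (nat_lit 11) Steps.nil))) (nat_lit 24) (nat_lit 2),
  Rule.mk (nat_lit 9) (nat_lit 110) (Steps.bwd (nat_lit 18) (Steps.bwd (nat_lit 9) (Steps.bwd (nat_lit 16) (Steps.bwd (nat_lit 11) (Steps.fwd (nat_lit 122880) (Steps.bwd (nat_lit 11) Steps.nil)))))) (nat_lit 66) (nat_lit 1),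
  Rule.mk (nat_lit 15) (nat_lit 158) (Steps.bwd (nat_lit 9) (Steps.bwd (nat_lit 3) (Steps.fwd (nat_lit 32768) (Steps.fwd (nat_lit 16384) (Steps.bwd (nat_lit 12) (Steps.fwd (nat_lit 81920) (Steps.fwd (nat_lit 131072) (Steps.bwd (nat_lit 2) (Steps.bwd (nat_lit 9) Steps.nil))))))))) (nat_lit 63) (nat_lit 9),
  Rule.mk (nat_lit 12) (nat_lit 78) (Steps.bwd (nat_lit 14) (Steps.fwd (nat_lit 155648) (Steps.fwd (nat_lit 98304) (Steps.bwd (nat_lit 15) Steps.nil)))) (nat_lit 36) (nat_lit 3),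
  Rule.mk (nat_lit 0) (nat_lit 126) (Steps.bwd (nat_lit 9) (Steps.fwd (nat_lit 139264) (Steps.bwd (nat_lit 9) (Steps.fwd (nat_lit 131072) (Steps.bwd (nat_lit 14) (Steps.bwd (nat_lit 4) (Steps.bwd (nat_lit 4) Steps.nil))))))) (nat_lit 64) (nat_lit 0),
  Rule.mk (nat_lit 13) (nat_lit 126) (Steps.bwd (nat_lit 4) (Steps.bwd (nat_lit 12) (Steps.fwd (nat_lit 32768) (Steps.bwd (nat_lit 16) (Steps.fwd (nat_lit 90112) (Steps.bwd (nat_lit 16) (Steps.fwd (nat_lit 114688) Steps.nil))))))) (nat_lit 50) (nat_lit 0),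
  Rule.mk (nat_lit 9) (nat_lit 110) (Steps.bwd (nat_lit 16) (Steps.fwd (nat_lit 139264) (Steps.fwd (nat_lit 122880) (Steps.fwd (nat_lit 81920) (Steps.fwd (nat_lit 73728) (Steps.bwd (nat_lit 3) Steps.nil)))))) (nat_lit 70) (nat_lit 3),
  Rule.mk (nat_lit 1) (nat_lit 94) (Steps.bwd (nat_lit 1) (Steps.fwd (nat_lit 16384) (Steps.bwd (nat_lit 8) (Steps.fwd (nat_lit 8192) (Steps.bwd (nat_lit 7) Steps.nil))))) (nat_lit 83) (nat_lit 1),
  Rule.mk (nat_lit 1) (nat_lit 94) (Steps.bwd (nat_lit 1) (Steps.bwd (nat_lit 1) (Steps.fwd (nat_lit 16384) (Steps.bwd (nat_lit 8) (Steps.bwd (nat_lit 8) Steps.nil))))) (nat_lit 79) (nat_lit 1),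
  Rule.mk (nat_lit 1) (nat_lit 94) (Steps.bwd (nat_lit 8) (Steps.fwd (nat_lit 57344) (Steps.bwd (nat_lit 1) (Steps.fwd (nat_lit 16384) (Steps.bwd (nat_lit 1) Steps.nil))))) (nat_lit 79) (nat_lit 4)]
noncomputable def R_43 : List (Rule) := [Rule.mk (nat_lit 18) (nat_lit 126) (Steps.bwd (nat_lit 8) (Steps.bwd (nat_lit 19) (Steps.fwd (nat_lit 57344) (Steps.bwd (nat_lit 1) (Steps.fwd (nat_lit 16384) (Steps.fwd (nat_lit 147456) (Steps.bwd (nat_lit 8) Steps.nil))))))) (nat_lit 87) (nat_lit 5),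
  Rule.mk (nat_lit 19) (nat_lit 126) (Steps.bwd (nat_lit 8) (Steps.bwd (nat_lit 18) (Steps.bwd (nat_lit 8) (Steps.bwd (nat_lit 19) (Steps.bwd (nat_lit 8) (Steps.fwd (nat_lit 16384) (Steps.fwd (nat_lit 16384) Steps.nil))))))) (nat_lit 87) (nat_lit 3),
  Rule.mk (nat_lit 15) (nat_lit 110) (Steps.bwd (nat_lit 17) (Steps.fwd (nat_lit 131072) (Steps.fwd (nat_lit 73728) (Steps.bwd (nat_lit 4) (Steps.bwd (nat_lit 9) (Steps.fwd (nat_lit 90112) Steps.nil)))))) (nat_lit 71) (nat_lit 2),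
  Rule.mk (nat_lit 15) (nat_lit 110) (Steps.fwd (nat_lit 16384) (Steps.fwd (nat_lit 114688) (Steps.bwd (nat_lit 15) (Steps.bwd (nat_lit 10) (Steps.fwd (nat_lit 139264) (Steps.fwd (nat_lit 8192) Steps.nil)))))) (nat_lit 45) (nat_lit 6),
  Rule.mk (nat_lit 9) (nat_lit 110) (Steps.bwd (nat_lit 10) (Steps.bwd (nat_lit 15) (Steps.fwd (nat_lit 90112) (Steps.bwd (nat_lit 17) (Steps.bwd (nat_lit 9) (Steps.bwd (nat_lit 19) Steps.nil)))))) (nat_lit 67) (nat_lit 0),
  Rule.mk (nat_lit 9) (nat_lit 110) (Steps.bwd (nat_lit 18) (Steps.bwd (nat_lit 9) (Steps.bwd (nat_lit 16) (Steps.bwd (nat_lit 11) (Steps.bwd (nat_lit 14) (Steps.bwd (nat_lit 11) Steps.nil)))))) (nat_lit 66) (nat_lit 1),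
  Rule.mk (nat_lit 7) (nat_lit 94) (Steps.fwd (nat_lit 16384) (Steps.fwd (nat_lit 16384) (Steps.bwd (nat_lit 1) (Steps.fwd (nat_lit 57344) (Steps.bwd (nat_lit 2) Steps.nil))))) (nat_lit 83) (nat_lit 0),
  Rule.mk (nat_lit 3) (nat_lit 110) (Steps.bwd (nat_lit 3) (Steps.fwd (nat_lit 114688) (Steps.bwd (nat_lit 16) (Steps.fwd (nat_lit 73728) (Steps.fwd (nat_lit 131072) (Steps.fwd (nat_lit 73728) Steps.nil)))))) (nat_lit 65) (nat_lit 1),
  Rule.mk (nat_lit 1) (nat_lit 142) (Steps.bwd (nat_lit 17) (Steps.bwd (nat_lit 11) (Steps.fwd (nat_lit 131072) (Steps.bwd (nat_lit 14) (Steps.fwd (nat_lit 106496) (Steps.fwd (nat_lit 81920) (Steps.bwd (nat_lit 2) (Steps.bwd (nat_lit 16) Steps.nil)))))))) (nat_lit 46) (nat_lit 3),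
  Rule.mk (nat_lit 3) (nat_lit 62) (Steps.bwd (nat_lit 7) (Steps.fwd (nat_lit 24576) (Steps.bwd (nat_lit 8) Steps.nil))) (nat_lit 80) (nat_lit 3),
  Rule.mk (nat_lit 18) (nat_lit 126) (Steps.bwd (nat_lit 7) (Steps.bwd (nat_lit 19) (Steps.fwd (nat_lit 65536) (Steps.fwd (nat_lit 155648) (Steps.fwd (nat_lit 8192) (Steps.fwd (nat_lit 8192) (Steps.bwd (nat_lit 7) Steps.nil))))))) (nat_lit 86) (nat_lit 2),
  Rule.mk (nat_lit 2) (nat_lit 126) (Steps.bwd (nat_lit 7) (Steps.bwd (nat_lit 18) (Steps.bwd (nat_lit 7) (Steps.bwd (nat_lit 19) (Steps.bwd (nat_lit 7) (Steps.fwd (nat_lit 155648) (Steps.fwd (nat_lit 8192) Steps.nil))))))) (nat_lit 86) (nat_lit 0),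
  Rule.mk (nat_lit 1) (nat_lit 158) (Steps.bwd (nat_lit 16) (Steps.fwd (nat_lit 90112) (Steps.bwd (nat_lit 13) (Steps.bwd (nat_lit 2) (Steps.bwd (nat_lit 4) (Steps.bwd (nat_lit 4) (Steps.bwd (nat_lit 9) (Steps.fwd (nat_lit 122880) (Steps.fwd (nat_lit 73728) Steps.nil))))))))) (nat_lit 62) (nat_lit 4),
  Rule.mk (nat_lit 1) (nat_lit 94) (Steps.bwd (nat_lit 8) (Steps.fwd (nat_lit 57344) (Steps.fwd (nat_lit 16384) (Steps.bwd (nat_lit 1) (Steps.fwd (nat_lit 16384) Steps.nil))))) (nat_lit 79) (nat_lit 4),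
  Rule.mk (nat_lit 18) (nat_lit 126) (Steps.bwd (nat_lit 8) (Steps.bwd (nat_lit 19) (Steps.bwd (nat_lit 8) (Steps.bwd (nat_lit 1) (Steps.fwd (nat_lit 16384) (Steps.fwd (nat_lit 147456) (Steps.bwd (nat_lit 8) Steps.nil))))))) (nat_lit 87) (nat_lit 5),
  Rule.mk (nat_lit 7) (nat_lit 158) (Steps.fwd (nat_lit 155648) (Steps.bwd (nat_lit 7) (Steps.bwd (nat_lit 18) (Steps.fwd (nat_lit 65536) (Steps.fwd (nat_lit 155648) (Steps.fwd (nat_lit 65536) (Steps.bwd (nat_lit 18) (Steps.bwd (nat_lit 7) (Steps.bwd (nat_lit 18) Steps.nil))))))))) (nat_lit 84) (nat_lit 1),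
  Rule.mk (nat_lit 1) (nat_lit 110) (Steps.bwd (nat_lit 17) (Steps.fwd (nat_lit 81920) (Steps.fwd (nat_lit 122880) (Steps.bwd (nat_lit 14) (Steps.fwd (nat_lit 8192) (Steps.fwd (nat_lit 122880) Steps.nil)))))) (nat_lit 44) (nat_lit 3),
  Rule.mk (nat_lit 15) (nat_lit 110) (Steps.bwd (nat_lit 15) (Steps.fwd (nat_lit 90112) (Steps.fwd (nat_lit 139264) (Steps.fwd (nat_lit 8192) (Steps.bwd (nat_lit 15) (Steps.bwd (nat_lit 1) Steps.nil)))))) (nat_lit 45) (nat_lit 1),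
  Rule.mk (nat_lit 11) (nat_lit 94) (Steps.fwd (nat_lit 122880) (Steps.fwd (nat_lit 90112) (Steps.bwd (nat_lit 19) (Steps.bwd (nat_lit 19) (Steps.bwd (nat_lit 15) Steps.nil))))) (nat_lit 33) (nat_lit 4),
  Rule.mk (nat_lit 14) (nat_lit 78) (Steps.fwd (nat_lit 106496) (Steps.fwd (nat_lit 147456) (Steps.fwd (nat_lit 114688) (Steps.bwd (nat_lit 13) Steps.nil)))) (nat_lit 37) (nat_lit 4),
  Rule.mk (nat_lit 4) (nat_lit 126) (Steps.bwd (nat_lit 12) (Steps.bwd (nat_lit 3) (Steps.bwd (nat_lit 16) (Steps.fwd (nat_lit 90112) (Steps.fwd (nat_lit 139264) (Steps.fwd (nat_lit 114688) (Steps.bwd (nat_lit 13) Steps.nil))))))) (nat_lit 50) (nat_lit 1),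
  Rule.mk (nat_lit 17) (nat_lit 78) (Steps.fwd (nat_lit 122880) (Steps.fwd (nat_lit 139264) (Steps.bwd (nat_lit 18) (Steps.bwd (nat_lit 15) Steps.nil)))) (nat_lit 40) (nat_lit 2),
  Rule.mk (nat_lit 10) (nat_lit 94) (Steps.fwd (nat_lit 122880) (Steps.fwd (nat_lit 155648) (Steps.fwd (nat_lit 155648) (Steps.bwd (nat_lit 11) (Steps.bwd (nat_lit 15) Steps.nil))))) (nat_lit 32) (nat_lit 3),
  Rule.mk (nat_lit 9) (nat_lit 110) (Steps.bwd (nat_lit 10) (Steps.fwd (nat_lit 73728) (Steps.fwd (nat_lit 90112) (Steps.bwd (nat_lit 4) (Steps.fwd (nat_lit 114688) (Steps.fwd (nat_lit 24576) Steps.nil)))))) (nat_lit 60) (nat_lit 1),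
  Rule.mk (nat_lit 9) (nat_lit 110) (Steps.bwd (nat_lit 3) (Steps.fwd (nat_lit 32768) (Steps.bwd (nat_lit 15) (Steps.fwd (nat_lit 139264) (Steps.bwd (nat_lit 9) (Steps.fwd (nat_lit 131072) Steps.nil)))))) (nat_lit 65) (nat_lit 0),
  Rule.mk (nat_lit 9) (nat_lit 158) (Steps.fwd (nat_lit 16384) (Steps.bwd (nat_lit 16) (Steps.fwd (nat_lit 90112) (Steps.bwd (nat_lit 13) (Steps.bwd (nat_lit 2) (Steps.bwd (nat_lit 4) (Steps.bwd (nat_lit 4) (Steps.bwd (nat_lit 9) (Steps.fwd (nat_lit 122880) Steps.nil))))))))) (nat_lit 62) (nat_lit 3),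
  Rule.mk (nat_lit 11) (nat_lit 94) (Steps.bwd (nat_lit 17) (Steps.fwd (nat_lit 90112) (Steps.bwd (nat_lit 16) (Steps.fwd (nat_lit 147456) (Steps.fwd (nat_lit 147456) Steps.nil))))) (nat_lit 34) (nat_lit 1),
  Rule.mk (nat_lit 2) (nat_lit 110) (Steps.bwd (nat_lit 15) (Steps.bwd (nat_lit 1) (Steps.fwd (nat_lit 114688) (Steps.bwd (nat_lit 15) (Steps.bwd (nat_lit 10) (Steps.fwd (nat_lit 139264) Steps.nil)))))) (nat_lit 45) (nat_lit 5),
  Rule.mk (nat_lit 4) (nat_lit 126) (Steps.bwd (nat_lit 15) (Steps.bwd (nat_lit 3) (Steps.fwd (nat_lit 90112) (Steps.fwd (nat_lit 90112) (Steps.fwd (nat_lit 139264) (Steps.bwd (nat_lit 15) (Steps.fwd (nat_lit 114688) Steps.nil))))))) (nat_lit 53) (nat_lit 6),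
  Rule.mk (nat_lit 16) (nat_lit 126) (Steps.bwd (nat_lit 15) (Steps.fwd (nat_lit 98304) (Steps.fwd (nat_lit 24576) (Steps.fwd (nat_lit 106496) (Steps.bwd (nat_lit 3) (Steps.bwd (nat_lit 16) (Steps.bwd (nat_lit 10) Steps.nil))))))) (nat_lit 50) (nat_lit 6),
  Rule.mk (nat_lit 13) (nat_lit 158) (Steps.fwd (nat_lit 8192) (Steps.bwd (nat_lit 4) (Steps.bwd (nat_lit 4) (Steps.bwd (nat_lit 9) (Steps.bwd (nat_lit 14) (Steps.fwd (nat_lit 73728) (Steps.bwd (nat_lit 1) (Steps.bwd (nat_lit 16) (Steps.bwd (nat_lit 10) Steps.nil))))))))) (nat_lit 62) (nat_lit 7),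
  Rule.mk (nat_lit 12) (nat_lit 62) (Steps.fwd (nat_lit 131072) (Steps.bwd (nat_lit 13) (Steps.bwd (nat_lit 16) Steps.nil))) (nat_lit 39) (nat_lit 0),
  Rule.mk (nat_lit 10) (nat_lit 78) (Steps.bwd (nat_lit 2) (Steps.fwd (nat_lit 106496) (Steps.bwd (nat_lit 1) (Steps.fwd (nat_lit 90112) Steps.nil)))) (nat_lit 42) (nat_lit 0),
  Rule.mk (nat_lit 11) (nat_lit 78) (Steps.bwd (nat_lit 2) (Steps.fwd (nat_lit 98304) (Steps.fwd (nat_lit 16384) (Steps.fwd (nat_lit 81920) Steps.nil)))) (nat_lit 43) (nat_lit 2),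
  Rule.mk (nat_lit 8) (nat_lit 94) (Steps.fwd (nat_lit 16384) (Steps.bwd (nat_lit 7) (Steps.fwd (nat_lit 8192) (Steps.fwd (nat_lit 8192) (Steps.bwd (nat_lit 2) Steps.nil))))) (nat_lit 82) (nat_lit 1),
  Rule.mk (nat_lit 19) (nat_lit 62) (Steps.fwd (nat_lit 106496) (Steps.bwd (nat_lit 18) (Steps.fwd (nat_lit 98304) Steps.nil))) (nat_lit 26) (nat_lit 2),
  Rule.mk (nat_lit 1) (nat_lit 78) (Steps.fwd (nat_lit 147456) (Steps.fwd (nat_lit 147456) (Steps.bwd (nat_lit 2) (Steps.bwd (nat_lit 18) Steps.nil)))) (nat_lit 48) (nat_lit 3),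
  Rule.mk (nat_lit 8) (nat_lit 94) (Steps.bwd (nat_lit 2) (Steps.bwd (nat_lit 7) (Steps.fwd (nat_lit 16384) (Steps.fwd (nat_lit 16384) (Steps.bwd (nat_lit 1) Steps.nil))))) (nat_lit 83) (nat_lit 4),
  Rule.mk (nat_lit 13) (nat_lit 126) (Steps.bwd (nat_lit 4) (Steps.fwd (nat_lit 106496) (Steps.fwd (nat_lit 32768) (Steps.fwd (nat_lit 139264) (Steps.bwd (nat_lit 10) (Steps.fwd (nat_lit 139264) (Steps.bwd (nat_lit 15) Steps.nil))))))) (nat_lit 50) (nat_lit 0),
  Rule.mk (nat_lit 2) (nat_lit 158) (Steps.bwd (nat_lit 4) (Steps.bwd (nat_lit 4) (Steps.fwd (nat_lit 73728) (Steps.fwd (nat_lit 122880) (Steps.bwd (nat_lit 9) (Steps.bwd (nat_lit 1) (Steps.fwd (nat_lit 139264) (Steps.fwd (nat_lit 90112) (Steps.bwd (nat_lit 13) Steps.nil))))))))) (nat_lit 62) (nat_lit 8),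
  Rule.mk (nat_lit 2) (nat_lit 94) (Steps.bwd (nat_lit 7) (Steps.fwd (nat_lit 16384) (Steps.bwd (nat_lit 1) (Steps.fwd (nat_lit 16384) (Steps.bwd (nat_lit 8) Steps.nil))))) (nat_lit 83) (nat_lit 5),
  Rule.mk (nat_lit 9) (nat_lit 190) (Steps.bwd (nat_lit 12) (Steps.bwd (nat_lit 9) (Steps.bwd (nat_lit 13) (Steps.bwd (nat_lit 9) (Steps.bwd (nat_lit 2) (Steps.fwd (nat_lit 8192) (Steps.fwd (nat_lit 8192) (Steps.bwd (nat_lit 15) (Steps.fwd (nat_lit 8192) (Steps.fwd (nat_lit 139264) (Steps.bwd (nat_lit 13) Steps.nil))))))))))) (nat_lit 75) (nat_lit 8),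
  Rule.mk (nat_lit 3) (nat_lit 110) (Steps.fwd (nat_lit 122880) (Steps.bwd (nat_lit 3) (Steps.fwd (nat_lit 81920) (Steps.fwd (nat_lit 73728) (Steps.fwd (nat_lit 81920) (Steps.bwd (nat_lit 9) Steps.nil)))))) (nat_lit 61) (nat_lit 1),
  Rule.mk (nat_lit 9) (nat_lit 110) (Steps.bwd (nat_lit 16) (Steps.bwd (nat_lit 16) (Steps.bwd (nat_lit 14) (Steps.fwd (nat_lit 81920) (Steps.bwd (nat_lit 9) (Steps.bwd (nat_lit 3) Steps.nil)))))) (nat_lit 70) (nat_lit 3),
  Rule.mk (nat_lit 13) (nat_lit 62) (Steps.fwd (nat_lit 8192) (Steps.bwd (nat_lit 5) (Steps.bwd (nat_lit 1) Steps.nil))) (nat_lit 13) (nat_lit 0),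
  Rule.mk (nat_lit 1) (nat_lit 94) (Steps.fwd (nat_lit 32768) (Steps.fwd (nat_lit 8192) (Steps.bwd (nat_lit 2) (Steps.fwd (nat_lit 24576) (Steps.bwd (nat_lit 1) Steps.nil))))) (nat_lit 6) (nat_lit 5),
  Rule.mk (nat_lit 7) (nat_lit 94) (Steps.fwd (nat_lit 16384) (Steps.bwd (nat_lit 1) (Steps.bwd (nat_lit 1) (Steps.bwd (nat_lit 8) (Steps.bwd (nat_lit 2) Steps.nil))))) (nat_lit 83) (nat_lit 0),
  Rule.mk (nat_lit 4) (nat_lit 206) (Steps.bwd (nat_lit 1) (Steps.fwd (nat_lit 90112) (Steps.fwd (nat_lit 155648) (Steps.bwd (nat_lit 17) (Steps.bwd (nat_lit 9) (Steps.bwd (nat_lit 2) (Steps.bwd (nat_lit 2) (Steps.fwd (nat_lit 73728) (Steps.fwd (nat_lit 16384) (Steps.fwd (nat_lit 32768) (Steps.bwd (nat_lit 3) (Steps.fwd (nat_lit 16384) Steps.nil)))))))))))) (nat_lit 69) (nat_lit 5),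
  Rule.mk (nat_lit 9) (nat_lit 110) (Steps.fwd (nat_lit 155648) (Steps.fwd (nat_lit 73728) (Steps.fwd (nat_lit 139264) (Steps.bwd (nat_lit 11) (Steps.fwd (nat_lit 122880) (Steps.bwd (nat_lit 11) Steps.nil)))))) (nat_lit 66) (nat_lit 1),
  Rule.mk (nat_lit 4) (nat_lit 126) (Steps.fwd (nat_lit 122880) (Steps.fwd (nat_lit 32768) (Steps.fwd (nat_lit 122880) (Steps.bwd (nat_lit 14) (Steps.fwd (nat_lit 131072) (Steps.fwd (nat_lit 81920) (Steps.bwd (nat_lit 11) Steps.nil))))))) (nat_lit 52) (nat_lit 1),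
  Rule.mk (nat_lit 7) (nat_lit 94) (Steps.bwd (nat_lit 2) (Steps.bwd (nat_lit 2) (Steps.fwd (nat_lit 8192) (Steps.bwd (nat_lit 2) (Steps.fwd (nat_lit 65536) Steps.nil))))) (nat_lit 78) (nat_lit 2),
  Rule.mk (nat_lit 10) (nat_lit 110) (Steps.fwd (nat_lit 114688) (Steps.fwd (nat_lit 90112) (Steps.bwd (nat_lit 17) (Steps.fwd (nat_lit 73728) (Steps.bwd (nat_lit 19) (Steps.bwd (nat_lit 9) Steps.nil)))))) (nat_lit 67) (nat_lit 1),
  Rule.mk (nat_lit 12) (nat_lit 190) (Steps.bwd (nat_lit 9) (Steps.fwd (nat_lit 98304) (Steps.bwd (nat_lit 9) (Steps.bwd (nat_lit 2) (Steps.fwd (nat_lit 8192) (Steps.bwd (nat_lit 2) (Steps.bwd (nat_lit 15) (Steps.fwd (nat_lit 8192) (Steps.bwd (nat_lit 16) (Steps.bwd (nat_lit 13) (Steps.bwd (nat_lit 9) Steps.nil))))))))))) (nat_lit 75) (nat_lit 9),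
  Rule.mk (nat_lit 3) (nat_lit 110) (Steps.bwd (nat_lit 3) (Steps.bwd (nat_lit 15) (Steps.fwd (nat_lit 139264) (Steps.fwd (nat_lit 73728) (Steps.bwd (nat_lit 17) (Steps.fwd (nat_lit 73728) Steps.nil)))))) (nat_lit 65) (nat_lit 1),
  Rule.mk (nat_lit 15) (nat_lit 126) (Steps.bwd (nat_lit 3) (Steps.bwd (nat_lit 10) (Steps.bwd (nat_lit 10) (Steps.bwd (nat_lit 16) (Steps.bwd (nat_lit 15) (Steps.fwd (nat_lit 114688) (Steps.bwd (nat_lit 4) Steps.nil))))))) (nat_lit 53) (nat_lit 7),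
  Rule.mk (nat_lit 9) (nat_lit 110) (Steps.bwd (nat_lit 10) (Steps.fwd (nat_lit 24576) (Steps.fwd (nat_lit 114688) (Steps.bwd (nat_lit 4) (Steps.bwd (nat_lit 9) (Steps.bwd (nat_lit 10) Steps.nil)))))) (nat_lit 60) (nat_lit 3),
  Rule.mk (nat_lit 1) (nat_lit 206) (Steps.bwd (nat_lit 1) (Steps.bwd (nat_lit 10) (Steps.fwd (nat_lit 155648) (Steps.bwd (nat_lit 17) (Steps.bwd (nat_lit 9) (Steps.fwd (nat_lit 8192) (Steps.fwd (nat_lit 32768) (Steps.fwd (nat_lit 8192) (Steps.bwd (nat_lit 4) (Steps.bwd (nat_lit 4) (Steps.fwd (nat_lit 8192) (Steps.fwd (nat_lit 73728) Steps.nil)))))))))))) (nat_lit 73) (nat_lit 1),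
  Rule.mk (nat_lit 18) (nat_lit 62) (Steps.fwd (nat_lit 106496) (Steps.fwd (nat_lit 147456) (Steps.bwd (nat_lit 13) Steps.nil))) (nat_lit 27) (nat_lit 3),
  Rule.mk (nat_lit 13) (nat_lit 126) (Steps.bwd (nat_lit 3) (Steps.fwd (nat_lit 106496) (Steps.fwd (nat_lit 122880) (Steps.bwd (nat_lit 17) (Steps.fwd (nat_lit 81920) (Steps.bwd (nat_lit 17) (Steps.bwd (nat_lit 4) Steps.nil))))))) (nat_lit 51) (nat_lit 7),
  Rule.mk (nat_lit 10) (nat_lit 78) (Steps.fwd (nat_lit 106496) (Steps.bwd (nat_lit 19) (Steps.fwd (nat_lit 81920) (Steps.bwd (nat_lit 13) Steps.nil)))) (nat_lit 19) (nat_lit 3),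
  Rule.mk (nat_lit 9) (nat_lit 110) (Steps.fwd (nat_lit 147456) (Steps.fwd (nat_lit 73728) (Steps.fwd (nat_lit 90112) (Steps.fwd (nat_lit 114688) (Steps.bwd (nat_lit 10) (Steps.bwd (nat_lit 17) Steps.nil)))))) (nat_lit 67) (nat_lit 5),
  Rule.mk (nat_lit 11) (nat_lit 110) (Steps.bwd (nat_lit 14) (Steps.bwd (nat_lit 11) (Steps.bwd (nat_lit 9) (Steps.bwd (nat_lit 18) (Steps.bwd (nat_lit 9) (Steps.bwd (nat_lit 16) Steps.nil)))))) (nat_lit 66) (nat_lit 5),
  Rule.mk (nat_lit 11) (nat_lit 78) (Steps.fwd (nat_lit 106496) (Steps.fwd (nat_lit 90112) (Steps.fwd (nat_lit 155648) (Steps.bwd (nat_lit 13) Steps.nil)))) (nat_lit 18) (nat_lit 3),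
  Rule.mk (nat_lit 15) (nat_lit 110) (Steps.bwd (nat_lit 15) (Steps.bwd (nat_lit 10) (Steps.fwd (nat_lit 139264) (Steps.fwd (nat_lit 8192) (Steps.fwd (nat_lit 114688) (Steps.bwd (nat_lit 1) Steps.nil)))))) (nat_lit 45) (nat_lit 1)]
noncomputable def R_44 : List (Rule) := [Rule.mk (nat_lit 4) (nat_lit 126) (Steps.bwd (nat_lit 15) (Steps.bwd (nat_lit 3) (Steps.bwd (nat_lit 10) (Steps.bwd (nat_lit 10) (Steps.bwd (nat_lit 16) (Steps.bwd (nat_lit 15) (Steps.bwd (nat_lit 15) Steps.nil))))))) (nat_lit 53) (nat_lit 6),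
  Rule.mk (nat_lit 14) (nat_lit 110) (Steps.fwd (nat_lit 16384) (Steps.fwd (nat_lit 131072) (Steps.bwd (nat_lit 11) (Steps.fwd (nat_lit 122880) (Steps.bwd (nat_lit 14) (Steps.bwd (nat_lit 2) Steps.nil)))))) (nat_lit 44) (nat_lit 2),
  Rule.mk (nat_lit 1) (nat_lit 110) (Steps.bwd (nat_lit 15) (Steps.bwd (nat_lit 15) (Steps.bwd (nat_lit 10) (Steps.bwd (nat_lit 16) (Steps.fwd (nat_lit 8192) (Steps.bwd (nat_lit 15) Steps.nil)))))) (nat_lit 45) (nat_lit 0),
  Rule.mk (nat_lit 18) (nat_lit 62) (Steps.fwd (nat_lit 139264) (Steps.bwd (nat_lit 19) (Steps.bwd (nat_lit 17) Steps.nil))) (nat_lit 31) (nat_lit 3),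
  Rule.mk (nat_lit 9) (nat_lit 110) (Steps.fwd (nat_lit 147456) (Steps.fwd (nat_lit 73728) (Steps.bwd (nat_lit 10) (Steps.fwd (nat_lit 114688) (Steps.bwd (nat_lit 10) (Steps.bwd (nat_lit 17) Steps.nil)))))) (nat_lit 67) (nat_lit 5),
  Rule.mk (nat_lit 1) (nat_lit 94) (Steps.bwd (nat_lit 8) (Steps.bwd (nat_lit 8) (Steps.fwd (nat_lit 16384) (Steps.fwd (nat_lit 16384) (Steps.bwd (nat_lit 1) Steps.nil))))) (nat_lit 79) (nat_lit 4),
  Rule.mk (nat_lit 2) (nat_lit 94) (Steps.bwd (nat_lit 8) (Steps.bwd (nat_lit 1) (Steps.bwd (nat_lit 7) (Steps.fwd (nat_lit 8192) (Steps.fwd (nat_lit 8192) Steps.nil))))) (nat_lit 82) (nat_lit 0),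
  Rule.mk (nat_lit 12) (nat_lit 62) (Steps.fwd (nat_lit 8192) (Steps.fwd (nat_lit 40960) (Steps.bwd (nat_lit 1) Steps.nil))) (nat_lit 12) (nat_lit 1),
  Rule.mk (nat_lit 19) (nat_lit 78) (Steps.bwd (nat_lit 19) (Steps.bwd (nat_lit 2) (Steps.fwd (nat_lit 155648) (Steps.bwd (nat_lit 1) Steps.nil)))) (nat_lit 48) (nat_lit 4),
  Rule.mk (nat_lit 10) (nat_lit 110) (Steps.bwd (nat_lit 9) (Steps.bwd (nat_lit 10) (Steps.bwd (nat_lit 4) (Steps.bwd (nat_lit 15) (Steps.bwd (nat_lit 4) (Steps.fwd (nat_lit 73728) Steps.nil)))))) (nat_lit 60) (nat_lit 2),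
  Rule.mk (nat_lit 17) (nat_lit 110) (Steps.bwd (nat_lit 9) (Steps.fwd (nat_lit 32768) (Steps.fwd (nat_lit 32768) (Steps.bwd (nat_lit 15) (Steps.bwd (nat_lit 16) (Steps.fwd (nat_lit 73728) Steps.nil)))))) (nat_lit 65) (nat_lit 6),
  Rule.mk (nat_lit 2) (nat_lit 158) (Steps.bwd (nat_lit 9) (Steps.bwd (nat_lit 15) (Steps.bwd (nat_lit 9) (Steps.bwd (nat_lit 3) (Steps.fwd (nat_lit 32768) (Steps.bwd (nat_lit 1) (Steps.bwd (nat_lit 12) (Steps.bwd (nat_lit 11) (Steps.bwd (nat_lit 17) Steps.nil))))))))) (nat_lit 63) (nat_lit 7),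
  Rule.mk (nat_lit 13) (nat_lit 190) (Steps.bwd (nat_lit 9) (Steps.bwd (nat_lit 2) (Steps.fwd (nat_lit 8192) (Steps.bwd (nat_lit 2) (Steps.fwd (nat_lit 114688) (Steps.bwd (nat_lit 2) (Steps.bwd (nat_lit 16) (Steps.bwd (nat_lit 13) (Steps.fwd (nat_lit 73728) (Steps.bwd (nat_lit 12) (Steps.bwd (nat_lit 9) Steps.nil))))))))))) (nat_lit 75) (nat_lit 11),
  Rule.mk (nat_lit 14) (nat_lit 94) (Steps.bwd (nat_lit 10) (Steps.fwd (nat_lit 147456) (Steps.bwd (nat_lit 19) (Steps.fwd (nat_lit 114688) (Steps.fwd (nat_lit 81920) Steps.nil))))) (nat_lit 33) (nat_lit 5),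
  Rule.mk (nat_lit 9) (nat_lit 110) (Steps.bwd (nat_lit 10) (Steps.fwd (nat_lit 73728) (Steps.bwd (nat_lit 10) (Steps.fwd (nat_lit 24576) (Steps.fwd (nat_lit 114688) (Steps.bwd (nat_lit 4) Steps.nil)))))) (nat_lit 60) (nat_lit 1),
  Rule.mk (nat_lit 9) (nat_lit 110) (Steps.bwd (nat_lit 16) (Steps.fwd (nat_lit 73728) (Steps.bwd (nat_lit 17) (Steps.fwd (nat_lit 122880) (Steps.fwd (nat_lit 24576) (Steps.bwd (nat_lit 4) Steps.nil)))))) (nat_lit 64) (nat_lit 1),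
  Rule.mk (nat_lit 1) (nat_lit 158) (Steps.bwd (nat_lit 16) (Steps.fwd (nat_lit 90112) (Steps.fwd (nat_lit 98304) (Steps.fwd (nat_lit 8192) (Steps.fwd (nat_lit 24576) (Steps.fwd (nat_lit 24576) (Steps.fwd (nat_lit 73728) (Steps.bwd (nat_lit 14) (Steps.bwd (nat_lit 9) Steps.nil))))))))) (nat_lit 62) (nat_lit 4),
  Rule.mk (nat_lit 1) (nat_lit 94) (Steps.bwd (nat_lit 7) (Steps.bwd (nat_lit 2) (Steps.fwd (nat_lit 8192) (Steps.bwd (nat_lit 2) (Steps.fwd (nat_lit 57344) Steps.nil))))) (nat_lit 82) (nat_lit 2),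
  Rule.mk (nat_lit 18) (nat_lit 126) (Steps.bwd (nat_lit 7) (Steps.fwd (nat_lit 147456) (Steps.fwd (nat_lit 65536) (Steps.fwd (nat_lit 155648) (Steps.fwd (nat_lit 8192) (Steps.bwd (nat_lit 2) (Steps.bwd (nat_lit 7) Steps.nil))))))) (nat_lit 86) (nat_lit 2),
  Rule.mk (nat_lit 4) (nat_lit 62) (Steps.bwd (nat_lit 8) (Steps.fwd (nat_lit 32768) (Steps.fwd (nat_lit 65536) Steps.nil))) (nat_lit 80) (nat_lit 1),
  Rule.mk (nat_lit 18) (nat_lit 126) (Steps.bwd (nat_lit 8) (Steps.fwd (nat_lit 147456) (Steps.bwd (nat_lit 8) (Steps.bwd (nat_lit 1) (Steps.bwd (nat_lit 1) (Steps.fwd (nat_lit 147456) (Steps.bwd (nat_lit 8) Steps.nil))))))) (nat_lit 87) (nat_lit 5),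
  Rule.mk (nat_lit 9) (nat_lit 110) (Steps.bwd (nat_lit 4) (Steps.fwd (nat_lit 73728) (Steps.bwd (nat_lit 10) (Steps.fwd (nat_lit 114688) (Steps.fwd (nat_lit 131072) (Steps.bwd (nat_lit 17) Steps.nil)))))) (nat_lit 71) (nat_lit 5),
  Rule.mk (nat_lit 15) (nat_lit 158) (Steps.bwd (nat_lit 9) (Steps.bwd (nat_lit 3) (Steps.fwd (nat_lit 32768) (Steps.bwd (nat_lit 1) (Steps.bwd (nat_lit 12) (Steps.bwd (nat_lit 11) (Steps.bwd (nat_lit 17) (Steps.fwd (nat_lit 8192) (Steps.bwd (nat_lit 9) Steps.nil))))))))) (nat_lit 63) (nat_lit 9),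
  Rule.mk (nat_lit 14) (nat_lit 110) (Steps.bwd (nat_lit 11) (Steps.bwd (nat_lit 9) (Steps.fwd (nat_lit 155648) (Steps.fwd (nat_lit 73728) (Steps.fwd (nat_lit 139264) (Steps.bwd (nat_lit 11) Steps.nil)))))) (nat_lit 66) (nat_lit 6),
  Rule.mk (nat_lit 15) (nat_lit 110) (Steps.bwd (nat_lit 4) (Steps.bwd (nat_lit 9) (Steps.fwd (nat_lit 90112) (Steps.fwd (nat_lit 73728) (Steps.fwd (nat_lit 90112) (Steps.bwd (nat_lit 4) Steps.nil)))))) (nat_lit 60) (nat_lit 6),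
  Rule.mk (nat_lit 18) (nat_lit 126) (Steps.bwd (nat_lit 7) (Steps.fwd (nat_lit 147456) (Steps.bwd (nat_lit 7) (Steps.fwd (nat_lit 155648) (Steps.bwd (nat_lit 2) (Steps.bwd (nat_lit 2) (Steps.bwd (nat_lit 7) Steps.nil))))))) (nat_lit 86) (nat_lit 2),
  Rule.mk (nat_lit 11) (nat_lit 126) (Steps.fwd (nat_lit 24576) (Steps.bwd (nat_lit 14) (Steps.bwd (nat_lit 3) (Steps.bwd (nat_lit 14) (Steps.fwd (nat_lit 122880) (Steps.bwd (nat_lit 17) (Steps.bwd (nat_lit 11) Steps.nil))))))) (nat_lit 52) (nat_lit 0),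
  Rule.mk (nat_lit 14) (nat_lit 110) (Steps.bwd (nat_lit 14) (Steps.bwd (nat_lit 2) (Steps.fwd (nat_lit 122880) (Steps.fwd (nat_lit 16384) (Steps.fwd (nat_lit 131072) (Steps.fwd (nat_lit 81920) Steps.nil)))))) (nat_lit 44) (nat_lit 6),
  Rule.mk (nat_lit 7) (nat_lit 94) (Steps.bwd (nat_lit 7) (Steps.fwd (nat_lit 8192) (Steps.fwd (nat_lit 8192) (Steps.bwd (nat_lit 2) (Steps.bwd (nat_lit 2) Steps.nil))))) (nat_lit 78) (nat_lit 1),
  Rule.mk (nat_lit 1) (nat_lit 94) (Steps.bwd (nat_lit 7) (Steps.fwd (nat_lit 8192) (Steps.fwd (nat_lit 8192) (Steps.bwd (nat_lit 2) (Steps.fwd (nat_lit 57344) Steps.nil))))) (nat_lit 82) (nat_lit 2),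
  Rule.mk (nat_lit 18) (nat_lit 126) (Steps.bwd (nat_lit 7) (Steps.fwd (nat_lit 147456) (Steps.fwd (nat_lit 65536) (Steps.fwd (nat_lit 155648) (Steps.fwd (nat_lit 8192) (Steps.fwd (nat_lit 8192) (Steps.fwd (nat_lit 65536) Steps.nil))))))) (nat_lit 86) (nat_lit 2),
  Rule.mk (nat_lit 3) (nat_lit 62) (Steps.bwd (nat_lit 8) (Steps.fwd (nat_lit 24576) (Steps.fwd (nat_lit 65536) Steps.nil))) (nat_lit 81) (nat_lit 0),
  Rule.mk (nat_lit 1) (nat_lit 94) (Steps.bwd (nat_lit 8) (Steps.fwd (nat_lit 57344) (Steps.fwd (nat_lit 16384) (Steps.fwd (nat_lit 16384) (Steps.fwd (nat_lit 16384) Steps.nil))))) (nat_lit 79) (nat_lit 4),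
  Rule.mk (nat_lit 7) (nat_lit 158) (Steps.bwd (nat_lit 18) (Steps.fwd (nat_lit 65536) (Steps.fwd (nat_lit 155648) (Steps.bwd (nat_lit 7) (Steps.bwd (nat_lit 18) (Steps.fwd (nat_lit 65536) (Steps.fwd (nat_lit 155648) (Steps.fwd (nat_lit 65536) (Steps.bwd (nat_lit 18) Steps.nil))))))))) (nat_lit 84) (nat_lit 1),
  Rule.mk (nat_lit 16) (nat_lit 110) (Steps.bwd (nat_lit 9) (Steps.fwd (nat_lit 131072) (Steps.fwd (nat_lit 122880) (Steps.bwd (nat_lit 4) (Steps.fwd (nat_lit 24576) (Steps.bwd (nat_lit 9) Steps.nil)))))) (nat_lit 64) (nat_lit 2),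
  Rule.mk (nat_lit 15) (nat_lit 126) (Steps.bwd (nat_lit 13) (Steps.bwd (nat_lit 4) (Steps.bwd (nat_lit 12) (Steps.bwd (nat_lit 3) (Steps.fwd (nat_lit 139264) (Steps.fwd (nat_lit 90112) (Steps.bwd (nat_lit 16) Steps.nil))))))) (nat_lit 50) (nat_lit 7),
  Rule.mk (nat_lit 1) (nat_lit 142) (Steps.fwd (nat_lit 90112) (Steps.bwd (nat_lit 13) (Steps.bwd (nat_lit 15) (Steps.bwd (nat_lit 16) (Steps.bwd (nat_lit 10) (Steps.bwd (nat_lit 16) (Steps.bwd (nat_lit 2) (Steps.fwd (nat_lit 131072) Steps.nil)))))))) (nat_lit 47) (nat_lit 0),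
  Rule.mk (nat_lit 1) (nat_lit 126) (Steps.bwd (nat_lit 3) (Steps.bwd (nat_lit 1) (Steps.fwd (nat_lit 32768) (Steps.bwd (nat_lit 1) (Steps.fwd (nat_lit 32768) (Steps.fwd (nat_lit 16384) (Steps.fwd (nat_lit 32768) Steps.nil))))))) (nat_lit 4) (nat_lit 1),
  Rule.mk (nat_lit 11) (nat_lit 78) (Steps.fwd (nat_lit 81920) (Steps.fwd (nat_lit 8192) (Steps.fwd (nat_lit 98304) (Steps.bwd (nat_lit 1) Steps.nil)))) (nat_lit 43) (nat_lit 1),
  Rule.mk (nat_lit 15) (nat_lit 126) (Steps.bwd (nat_lit 13) (Steps.bwd (nat_lit 4) (Steps.bwd (nat_lit 12) (Steps.fwd (nat_lit 32768) (Steps.fwd (nat_lit 139264) (Steps.fwd (nat_lit 90112) (Steps.bwd (nat_lit 16) Steps.nil))))))) (nat_lit 50) (nat_lit 7),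
  Rule.mk (nat_lit 1) (nat_lit 94) (Steps.fwd (nat_lit 32768) (Steps.bwd (nat_lit 2) (Steps.fwd (nat_lit 8192) (Steps.fwd (nat_lit 24576) (Steps.bwd (nat_lit 1) Steps.nil))))) (nat_lit 6) (nat_lit 5),
  Rule.mk (nat_lit 1) (nat_lit 94) (Steps.bwd (nat_lit 8) (Steps.fwd (nat_lit 57344) (Steps.bwd (nat_lit 1) (Steps.bwd (nat_lit 1) (Steps.fwd (nat_lit 16384) Steps.nil))))) (nat_lit 79) (nat_lit 4),
  Rule.mk (nat_lit 18) (nat_lit 126) (Steps.bwd (nat_lit 8) (Steps.fwd (nat_lit 147456) (Steps.fwd (nat_lit 57344) (Steps.fwd (nat_lit 16384) (Steps.fwd (nat_lit 16384) (Steps.bwd (nat_lit 19) (Steps.bwd (nat_lit 8) Steps.nil))))))) (nat_lit 87) (nat_lit 5),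
  Rule.mk (nat_lit 2) (nat_lit 94) (Steps.bwd (nat_lit 4) (Steps.bwd (nat_lit 1) (Steps.bwd (nat_lit 1) (Steps.fwd (nat_lit 32768) (Steps.bwd (nat_lit 2) Steps.nil))))) (nat_lit 6) (nat_lit 2),
  Rule.mk (nat_lit 10) (nat_lit 110) (Steps.bwd (nat_lit 4) (Steps.fwd (nat_lit 114688) (Steps.fwd (nat_lit 24576) (Steps.fwd (nat_lit 73728) (Steps.bwd (nat_lit 10) (Steps.fwd (nat_lit 73728) Steps.nil)))))) (nat_lit 60) (nat_lit 4),
  Rule.mk (nat_lit 15) (nat_lit 110) (Steps.fwd (nat_lit 131072) (Steps.bwd (nat_lit 17) (Steps.fwd (nat_lit 73728) (Steps.fwd (nat_lit 24576) (Steps.fwd (nat_lit 73728) (Steps.bwd (nat_lit 10) Steps.nil)))))) (nat_lit 71) (nat_lit 2),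
  Rule.mk (nat_lit 4) (nat_lit 110) (Steps.bwd (nat_lit 15) (Steps.bwd (nat_lit 4) (Steps.fwd (nat_lit 73728) (Steps.fwd (nat_lit 90112) (Steps.fwd (nat_lit 73728) (Steps.bwd (nat_lit 10) Steps.nil)))))) (nat_lit 60) (nat_lit 5),
  Rule.mk (nat_lit 16) (nat_lit 126) (Steps.bwd (nat_lit 15) (Steps.bwd (nat_lit 13) (Steps.fwd (nat_lit 24576) (Steps.fwd (nat_lit 106496) (Steps.fwd (nat_lit 32768) (Steps.bwd (nat_lit 16) (Steps.fwd (nat_lit 90112) Steps.nil))))))) (nat_lit 50) (nat_lit 6),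
  Rule.mk (nat_lit 13) (nat_lit 126) (Steps.fwd (nat_lit 32768) (Steps.bwd (nat_lit 12) (Steps.bwd (nat_lit 14) (Steps.fwd (nat_lit 131072) (Steps.fwd (nat_lit 81920) (Steps.fwd (nat_lit 131072) (Steps.bwd (nat_lit 4) Steps.nil))))))) (nat_lit 51) (nat_lit 7),
  Rule.mk (nat_lit 17) (nat_lit 126) (Steps.bwd (nat_lit 4) (Steps.bwd (nat_lit 13) (Steps.fwd (nat_lit 32768) (Steps.fwd (nat_lit 106496) (Steps.fwd (nat_lit 122880) (Steps.bwd (nat_lit 17) (Steps.bwd (nat_lit 11) Steps.nil))))))) (nat_lit 51) (nat_lit 5),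
  Rule.mk (nat_lit 11) (nat_lit 94) (Steps.fwd (nat_lit 139264) (Steps.fwd (nat_lit 90112) (Steps.bwd (nat_lit 18) (Steps.fwd (nat_lit 155648) (Steps.bwd (nat_lit 17) Steps.nil))))) (nat_lit 35) (nat_lit 4),
  Rule.mk (nat_lit 13) (nat_lit 78) (Steps.bwd (nat_lit 11) (Steps.fwd (nat_lit 106496) (Steps.fwd (nat_lit 90112) (Steps.fwd (nat_lit 155648) Steps.nil)))) (nat_lit 18) (nat_lit 2),
  Rule.mk (nat_lit 1) (nat_lit 110) (Steps.bwd (nat_lit 17) (Steps.bwd (nat_lit 11) (Steps.fwd (nat_lit 122880) (Steps.fwd (nat_lit 122880) (Steps.bwd (nat_lit 2) (Steps.fwd (nat_lit 122880) Steps.nil)))))) (nat_lit 44) (nat_lit 3),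
  Rule.mk (nat_lit 4) (nat_lit 158) (Steps.fwd (nat_lit 24576) (Steps.fwd (nat_lit 73728) (Steps.fwd (nat_lit 122880) (Steps.fwd (nat_lit 73728) (Steps.fwd (nat_lit 16384) (Steps.fwd (nat_lit 139264) (Steps.bwd (nat_lit 10) (Steps.fwd (nat_lit 98304) (Steps.bwd (nat_lit 2) Steps.nil))))))))) (nat_lit 62) (nat_lit 9),
  Rule.mk (nat_lit 16) (nat_lit 94) (Steps.fwd (nat_lit 90112) (Steps.fwd (nat_lit 155648) (Steps.bwd (nat_lit 18) (Steps.bwd (nat_lit 17) (Steps.bwd (nat_lit 11) Steps.nil))))) (nat_lit 35) (nat_lit 5),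
  Rule.mk (nat_lit 9) (nat_lit 110) (Steps.bwd (nat_lit 11) (Steps.bwd (nat_lit 9) (Steps.fwd (nat_lit 32768) (Steps.bwd (nat_lit 14) (Steps.bwd (nat_lit 3) (Steps.bwd (nat_lit 11) Steps.nil)))))) (nat_lit 61) (nat_lit 5),
  Rule.mk (nat_lit 9) (nat_lit 190) (Steps.bwd (nat_lit 13) (Steps.bwd (nat_lit 9) (Steps.fwd (nat_lit 106496) (Steps.bwd (nat_lit 17) (Steps.fwd (nat_lit 16384) (Steps.bwd (nat_lit 14) (Steps.fwd (nat_lit 16384) (Steps.fwd (nat_lit 16384) (Steps.bwd (nat_lit 1) (Steps.fwd (nat_lit 73728) (Steps.fwd (nat_lit 106496) Steps.nil))))))))))) (nat_lit 74) (nat_lit 3),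
  Rule.mk (nat_lit 16) (nat_lit 110) (Steps.bwd (nat_lit 9) (Steps.bwd (nat_lit 17) (Steps.bwd (nat_lit 14) (Steps.bwd (nat_lit 4) (Steps.fwd (nat_lit 24576) (Steps.fwd (nat_lit 73728) Steps.nil)))))) (nat_lit 64) (nat_lit 2),
  Rule.mk (nat_lit 14) (nat_lit 190) (Steps.fwd (nat_lit 16384) (Steps.bwd (nat_lit 1) (Steps.bwd (nat_lit 1) (Steps.fwd (nat_lit 73728) (Steps.bwd (nat_lit 12) (Steps.fwd (nat_lit 73728) (Steps.bwd (nat_lit 13) (Steps.fwd (nat_lit 73728) (Steps.fwd (nat_lit 106496) (Steps.fwd (nat_lit 131072) (Steps.bwd (nat_lit 1) Steps.nil))))))))))) (nat_lit 74) (nat_lit 9),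
  Rule.mk (nat_lit 4) (nat_lit 110) (Steps.bwd (nat_lit 9) (Steps.fwd (nat_lit 90112) (Steps.bwd (nat_lit 9) (Steps.fwd (nat_lit 90112) (Steps.bwd (nat_lit 4) (Steps.fwd (nat_lit 114688) Steps.nil)))))) (nat_lit 60) (nat_lit 0),
  Rule.mk (nat_lit 11) (nat_lit 110) (Steps.bwd (nat_lit 9) (Steps.bwd (nat_lit 3) (Steps.fwd (nat_lit 122880) (Steps.bwd (nat_lit 3) (Steps.fwd (nat_lit 81920) (Steps.bwd (nat_lit 9) Steps.nil)))))) (nat_lit 61) (nat_lit 6),
  Rule.mk (nat_lit 16) (nat_lit 110) (Steps.bwd (nat_lit 9) (Steps.bwd (nat_lit 17) (Steps.fwd (nat_lit 122880) (Steps.bwd (nat_lit 4) (Steps.fwd (nat_lit 24576) (Steps.fwd (nat_lit 73728) Steps.nil)))))) (nat_lit 64) (nat_lit 2),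
  Rule.mk (nat_lit 15) (nat_lit 78) (Steps.bwd (nat_lit 13) (Steps.bwd (nat_lit 14) (Steps.bwd (nat_lit 12) (Steps.fwd (nat_lit 147456) Steps.nil)))) (nat_lit 37) (nat_lit 2),
  Rule.mk (nat_lit 9) (nat_lit 110) (Steps.bwd (nat_lit 17) (Steps.bwd (nat_lit 14) (Steps.fwd (nat_lit 24576) (Steps.bwd (nat_lit 4) (Steps.fwd (nat_lit 73728) (Steps.bwd (nat_lit 16) Steps.nil)))))) (nat_lit 64) (nat_lit 3)]
noncomputable def R_45 : List (Rule) := [Rule.mk (nat_lit 4) (nat_lit 126) (Steps.fwd (nat_lit 122880) (Steps.bwd (nat_lit 3) (Steps.fwd (nat_lit 122880) (Steps.fwd (nat_lit 122880) (Steps.bwd (nat_lit 17) (Steps.bwd (nat_lit 11) (Steps.bwd (nat_lit 11) Steps.nil))))))) (nat_lit 52) (nat_lit 1),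
  Rule.mk (nat_lit 17) (nat_lit 110) (Steps.bwd (nat_lit 9) (Steps.bwd (nat_lit 4) (Steps.fwd (nat_lit 73728) (Steps.bwd (nat_lit 10) (Steps.fwd (nat_lit 114688) (Steps.fwd (nat_lit 131072) Steps.nil)))))) (nat_lit 71) (nat_lit 4),
  Rule.mk (nat_lit 14) (nat_lit 126) (Steps.bwd (nat_lit 17) (Steps.bwd (nat_lit 11) (Steps.fwd (nat_lit 131072) (Steps.bwd (nat_lit 4) (Steps.fwd (nat_lit 98304) (Steps.fwd (nat_lit 32768) (Steps.fwd (nat_lit 106496) Steps.nil))))))) (nat_lit 51) (nat_lit 2),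
  Rule.mk (nat_lit 1) (nat_lit 142) (Steps.fwd (nat_lit 90112) (Steps.bwd (nat_lit 13) (Steps.bwd (nat_lit 15) (Steps.fwd (nat_lit 139264) (Steps.bwd (nat_lit 10) (Steps.fwd (nat_lit 139264) (Steps.fwd (nat_lit 8192) (Steps.bwd (nat_lit 17) Steps.nil)))))))) (nat_lit 47) (nat_lit 0),
  Rule.mk (nat_lit 16) (nat_lit 142) (Steps.fwd (nat_lit 16384) (Steps.bwd (nat_lit 17) (Steps.fwd (nat_lit 81920) (Steps.bwd (nat_lit 17) (Steps.fwd (nat_lit 122880) (Steps.bwd (nat_lit 12) (Steps.bwd (nat_lit 11) (Steps.bwd (nat_lit 2) Steps.nil)))))))) (nat_lit 46) (nat_lit 2),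
  Rule.mk (nat_lit 10) (nat_lit 110) (Steps.bwd (nat_lit 16) (Steps.bwd (nat_lit 2) (Steps.fwd (nat_lit 114688) (Steps.bwd (nat_lit 1) (Steps.fwd (nat_lit 114688) (Steps.fwd (nat_lit 114688) Steps.nil)))))) (nat_lit 45) (nat_lit 3),
  Rule.mk (nat_lit 10) (nat_lit 78) (Steps.fwd (nat_lit 8192) (Steps.fwd (nat_lit 106496) (Steps.bwd (nat_lit 1) (Steps.bwd (nat_lit 10) Steps.nil)))) (nat_lit 42) (nat_lit 0),
  Rule.mk (nat_lit 1) (nat_lit 94) (Steps.fwd (nat_lit 65536) (Steps.bwd (nat_lit 2) (Steps.fwd (nat_lit 8192) (Steps.bwd (nat_lit 2) (Steps.bwd (nat_lit 8) Steps.nil))))) (nat_lit 82) (nat_lit 2),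
  Rule.mk (nat_lit 4) (nat_lit 110) (Steps.bwd (nat_lit 9) (Steps.bwd (nat_lit 16) (Steps.fwd (nat_lit 73728) (Steps.fwd (nat_lit 131072) (Steps.bwd (nat_lit 14) (Steps.bwd (nat_lit 4) Steps.nil)))))) (nat_lit 64) (nat_lit 0),
  Rule.mk (nat_lit 12) (nat_lit 190) (Steps.bwd (nat_lit 9) (Steps.bwd (nat_lit 13) (Steps.bwd (nat_lit 9) (Steps.fwd (nat_lit 106496) (Steps.bwd (nat_lit 17) (Steps.fwd (nat_lit 16384) (Steps.fwd (nat_lit 122880) (Steps.bwd (nat_lit 1) (Steps.fwd (nat_lit 16384) (Steps.fwd (nat_lit 16384) (Steps.fwd (nat_lit 73728) Steps.nil))))))))))) (nat_lit 74) (nat_lit 2),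
  Rule.mk (nat_lit 15) (nat_lit 110) (Steps.bwd (nat_lit 1) (Steps.fwd (nat_lit 114688) (Steps.bwd (nat_lit 15) (Steps.bwd (nat_lit 10) (Steps.fwd (nat_lit 139264) (Steps.bwd (nat_lit 2) Steps.nil)))))) (nat_lit 45) (nat_lit 6),
  Rule.mk (nat_lit 10) (nat_lit 78) (Steps.fwd (nat_lit 8192) (Steps.bwd (nat_lit 12) (Steps.bwd (nat_lit 1) (Steps.bwd (nat_lit 10) Steps.nil)))) (nat_lit 42) (nat_lit 0),
  Rule.mk (nat_lit 3) (nat_lit 62) (Steps.fwd (nat_lit 122880) (Steps.fwd (nat_lit 24576) (Steps.bwd (nat_lit 6) Steps.nil))) (nat_lit 14) (nat_lit 0),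
  Rule.mk (nat_lit 15) (nat_lit 126) (Steps.bwd (nat_lit 4) (Steps.fwd (nat_lit 114688) (Steps.fwd (nat_lit 32768) (Steps.fwd (nat_lit 90112) (Steps.fwd (nat_lit 90112) (Steps.bwd (nat_lit 16) (Steps.bwd (nat_lit 15) Steps.nil))))))) (nat_lit 53) (nat_lit 5),
  Rule.mk (nat_lit 13) (nat_lit 78) (Steps.fwd (nat_lit 122880) (Steps.bwd (nat_lit 12) (Steps.bwd (nat_lit 19) (Steps.bwd (nat_lit 15) Steps.nil)))) (nat_lit 37) (nat_lit 3),
  Rule.mk (nat_lit 3) (nat_lit 126) (Steps.bwd (nat_lit 1) (Steps.bwd (nat_lit 3) (Steps.bwd (nat_lit 1) (Steps.fwd (nat_lit 32768) (Steps.bwd (nat_lit 1) (Steps.bwd (nat_lit 3) (Steps.fwd (nat_lit 16384) Steps.nil))))))) (nat_lit 4) (nat_lit 0),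
  Rule.mk (nat_lit 17) (nat_lit 142) (Steps.bwd (nat_lit 1) (Steps.bwd (nat_lit 10) (Steps.fwd (nat_lit 98304) (Steps.bwd (nat_lit 15) (Steps.fwd (nat_lit 139264) (Steps.fwd (nat_lit 90112) (Steps.bwd (nat_lit 16) (Steps.bwd (nat_lit 2) Steps.nil)))))))) (nat_lit 47) (nat_lit 8),
  Rule.mk (nat_lit 10) (nat_lit 94) (Steps.fwd (nat_lit 139264) (Steps.bwd (nat_lit 19) (Steps.fwd (nat_lit 147456) (Steps.bwd (nat_lit 11) (Steps.bwd (nat_lit 17) Steps.nil))))) (nat_lit 34) (nat_lit 3),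
  Rule.mk (nat_lit 11) (nat_lit 94) (Steps.fwd (nat_lit 139264) (Steps.fwd (nat_lit 90112) (Steps.fwd (nat_lit 155648) (Steps.bwd (nat_lit 18) (Steps.bwd (nat_lit 17) Steps.nil))))) (nat_lit 35) (nat_lit 4),
  Rule.mk (nat_lit 2) (nat_lit 94) (Steps.fwd (nat_lit 8192) (Steps.bwd (nat_lit 3) (Steps.bwd (nat_lit 1) (Steps.fwd (nat_lit 16384) (Steps.fwd (nat_lit 24576) Steps.nil))))) (nat_lit 7) (nat_lit 2),
  Rule.mk (nat_lit 2) (nat_lit 94) (Steps.bwd (nat_lit 4) (Steps.fwd (nat_lit 16384) (Steps.bwd (nat_lit 1) (Steps.fwd (nat_lit 32768) (Steps.fwd (nat_lit 8192) Steps.nil))))) (nat_lit 6) (nat_lit 2),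
  Rule.mk (nat_lit 1) (nat_lit 94) (Steps.bwd (nat_lit 4) (Steps.bwd (nat_lit 2) (Steps.fwd (nat_lit 8192) (Steps.bwd (nat_lit 3) (Steps.bwd (nat_lit 1) Steps.nil))))) (nat_lit 7) (nat_lit 0),
  Rule.mk (nat_lit 17) (nat_lit 126) (Steps.bwd (nat_lit 4) (Steps.bwd (nat_lit 13) (Steps.fwd (nat_lit 32768) (Steps.fwd (nat_lit 106496) (Steps.fwd (nat_lit 122880) (Steps.fwd (nat_lit 131072) (Steps.bwd (nat_lit 11) Steps.nil))))))) (nat_lit 51) (nat_lit 5),
  Rule.mk (nat_lit 11) (nat_lit 126) (Steps.bwd (nat_lit 4) (Steps.fwd (nat_lit 122880) (Steps.bwd (nat_lit 3) (Steps.fwd (nat_lit 122880) (Steps.fwd (nat_lit 122880) (Steps.bwd (nat_lit 17) (Steps.fwd (nat_lit 81920) Steps.nil))))))) (nat_lit 52) (nat_lit 0),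
  Rule.mk (nat_lit 17) (nat_lit 94) (Steps.bwd (nat_lit 10) (Steps.fwd (nat_lit 139264) (Steps.bwd (nat_lit 19) (Steps.bwd (nat_lit 19) (Steps.bwd (nat_lit 11) Steps.nil))))) (nat_lit 34) (nat_lit 2),
  Rule.mk (nat_lit 13) (nat_lit 78) (Steps.fwd (nat_lit 81920) (Steps.bwd (nat_lit 12) (Steps.bwd (nat_lit 10) (Steps.fwd (nat_lit 155648) Steps.nil)))) (nat_lit 18) (nat_lit 2),
  Rule.mk (nat_lit 11) (nat_lit 78) (Steps.fwd (nat_lit 8192) (Steps.bwd (nat_lit 13) (Steps.fwd (nat_lit 16384) (Steps.bwd (nat_lit 11) Steps.nil)))) (nat_lit 43) (nat_lit 2),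
  Rule.mk (nat_lit 19) (nat_lit 78) (Steps.bwd (nat_lit 11) (Steps.bwd (nat_lit 13) (Steps.fwd (nat_lit 90112) (Steps.fwd (nat_lit 106496) Steps.nil)))) (nat_lit 19) (nat_lit 0),
  Rule.mk (nat_lit 1) (nat_lit 110) (Steps.bwd (nat_lit 17) (Steps.fwd (nat_lit 81920) (Steps.bwd (nat_lit 14) (Steps.fwd (nat_lit 122880) (Steps.fwd (nat_lit 8192) (Steps.fwd (nat_lit 122880) Steps.nil)))))) (nat_lit 44) (nat_lit 3),
  Rule.mk (nat_lit 14) (nat_lit 126) (Steps.bwd (nat_lit 17) (Steps.fwd (nat_lit 81920) (Steps.fwd (nat_lit 81920) (Steps.fwd (nat_lit 24576) (Steps.bwd (nat_lit 14) (Steps.bwd (nat_lit 3) (Steps.fwd (nat_lit 122880) Steps.nil))))))) (nat_lit 52) (nat_lit 5),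
  Rule.mk (nat_lit 11) (nat_lit 78) (Steps.bwd (nat_lit 11) (Steps.fwd (nat_lit 8192) (Steps.bwd (nat_lit 13) (Steps.bwd (nat_lit 1) Steps.nil)))) (nat_lit 43) (nat_lit 1),
  Rule.mk (nat_lit 2) (nat_lit 142) (Steps.fwd (nat_lit 131072) (Steps.bwd (nat_lit 1) (Steps.fwd (nat_lit 90112) (Steps.fwd (nat_lit 98304) (Steps.fwd (nat_lit 114688) (Steps.bwd (nat_lit 16) (Steps.bwd (nat_lit 10) (Steps.fwd (nat_lit 139264) Steps.nil)))))))) (nat_lit 47) (nat_lit 7),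
  Rule.mk (nat_lit 17) (nat_lit 110) (Steps.bwd (nat_lit 11) (Steps.bwd (nat_lit 14) (Steps.fwd (nat_lit 122880) (Steps.fwd (nat_lit 8192) (Steps.bwd (nat_lit 14) (Steps.bwd (nat_lit 1) Steps.nil)))))) (nat_lit 44) (nat_lit 4),
  Rule.mk (nat_lit 9) (nat_lit 110) (Steps.bwd (nat_lit 10) (Steps.bwd (nat_lit 15) (Steps.bwd (nat_lit 10) (Steps.bwd (nat_lit 17) (Steps.fwd (nat_lit 73728) (Steps.bwd (nat_lit 19) Steps.nil)))))) (nat_lit 67) (nat_lit 0),
  Rule.mk (nat_lit 16) (nat_lit 110) (Steps.bwd (nat_lit 14) (Steps.fwd (nat_lit 81920) (Steps.fwd (nat_lit 73728) (Steps.bwd (nat_lit 3) (Steps.bwd (nat_lit 9) (Steps.bwd (nat_lit 16) Steps.nil)))))) (nat_lit 70) (nat_lit 5),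
  Rule.mk (nat_lit 9) (nat_lit 158) (Steps.bwd (nat_lit 14) (Steps.fwd (nat_lit 73728) (Steps.fwd (nat_lit 16384) (Steps.fwd (nat_lit 139264) (Steps.bwd (nat_lit 10) (Steps.bwd (nat_lit 13) (Steps.bwd (nat_lit 2) (Steps.fwd (nat_lit 24576) (Steps.bwd (nat_lit 4) Steps.nil))))))))) (nat_lit 62) (nat_lit 1),
  Rule.mk (nat_lit 1) (nat_lit 158) (Steps.fwd (nat_lit 139264) (Steps.fwd (nat_lit 90112) (Steps.fwd (nat_lit 98304) (Steps.fwd (nat_lit 8192) (Steps.fwd (nat_lit 24576) (Steps.fwd (nat_lit 24576) (Steps.fwd (nat_lit 73728) (Steps.bwd (nat_lit 14) (Steps.bwd (nat_lit 9) Steps.nil))))))))) (nat_lit 62) (nat_lit 4),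
  Rule.mk (nat_lit 8) (nat_lit 126) (Steps.bwd (nat_lit 18) (Steps.fwd (nat_lit 57344) (Steps.bwd (nat_lit 19) (Steps.fwd (nat_lit 57344) (Steps.bwd (nat_lit 1) (Steps.bwd (nat_lit 1) (Steps.fwd (nat_lit 147456) Steps.nil))))))) (nat_lit 87) (nat_lit 4),
  Rule.mk (nat_lit 9) (nat_lit 110) (Steps.fwd (nat_lit 32768) (Steps.bwd (nat_lit 9) (Steps.fwd (nat_lit 139264) (Steps.fwd (nat_lit 139264) (Steps.fwd (nat_lit 122880) (Steps.bwd (nat_lit 11) Steps.nil)))))) (nat_lit 70) (nat_lit 1),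
  Rule.mk (nat_lit 17) (nat_lit 110) (Steps.fwd (nat_lit 122880) (Steps.fwd (nat_lit 24576) (Steps.fwd (nat_lit 24576) (Steps.bwd (nat_lit 9) (Steps.fwd (nat_lit 139264) (Steps.bwd (nat_lit 9) Steps.nil)))))) (nat_lit 64) (nat_lit 4),
  Rule.mk (nat_lit 14) (nat_lit 110) (Steps.bwd (nat_lit 2) (Steps.fwd (nat_lit 122880) (Steps.bwd (nat_lit 1) (Steps.fwd (nat_lit 131072) (Steps.fwd (nat_lit 81920) (Steps.fwd (nat_lit 122880) Steps.nil)))))) (nat_lit 44) (nat_lit 0),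
  Rule.mk (nat_lit 3) (nat_lit 110) (Steps.bwd (nat_lit 3) (Steps.bwd (nat_lit 15) (Steps.bwd (nat_lit 16) (Steps.bwd (nat_lit 9) (Steps.fwd (nat_lit 131072) (Steps.fwd (nat_lit 73728) Steps.nil)))))) (nat_lit 65) (nat_lit 1),
  Rule.mk (nat_lit 0) (nat_lit 78) (Steps.bwd (nat_lit 3) (Steps.fwd (nat_lit 40960) (Steps.bwd (nat_lit 4) (Steps.bwd (nat_lit 16) Steps.nil)))) (nat_lit 16) (nat_lit 1),
  Rule.mk (nat_lit 14) (nat_lit 110) (Steps.bwd (nat_lit 3) (Steps.bwd (nat_lit 11) (Steps.bwd (nat_lit 9) (Steps.fwd (nat_lit 81920) (Steps.bwd (nat_lit 9) (Steps.fwd (nat_lit 32768) Steps.nil)))))) (nat_lit 61) (nat_lit 2),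
  Rule.mk (nat_lit 10) (nat_lit 126) (Steps.bwd (nat_lit 10) (Steps.bwd (nat_lit 16) (Steps.bwd (nat_lit 15) (Steps.bwd (nat_lit 15) (Steps.fwd (nat_lit 24576) (Steps.fwd (nat_lit 114688) (Steps.fwd (nat_lit 32768) Steps.nil))))))) (nat_lit 53) (nat_lit 1),
  Rule.mk (nat_lit 1) (nat_lit 78) (Steps.bwd (nat_lit 19) (Steps.bwd (nat_lit 19) (Steps.bwd (nat_lit 2) (Steps.fwd (nat_lit 155648) Steps.nil)))) (nat_lit 48) (nat_lit 3),
  Rule.mk (nat_lit 9) (nat_lit 110) (Steps.fwd (nat_lit 90112) (Steps.fwd (nat_lit 114688) (Steps.fwd (nat_lit 90112) (Steps.fwd (nat_lit 131072) (Steps.bwd (nat_lit 9) (Steps.fwd (nat_lit 147456) Steps.nil)))))) (nat_lit 67) (nat_lit 0),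
  Rule.mk (nat_lit 1) (nat_lit 110) (Steps.fwd (nat_lit 114688) (Steps.bwd (nat_lit 15) (Steps.bwd (nat_lit 10) (Steps.bwd (nat_lit 16) (Steps.bwd (nat_lit 2) (Steps.bwd (nat_lit 15) Steps.nil)))))) (nat_lit 45) (nat_lit 0),
  Rule.mk (nat_lit 15) (nat_lit 110) (Steps.bwd (nat_lit 1) (Steps.bwd (nat_lit 15) (Steps.bwd (nat_lit 15) (Steps.bwd (nat_lit 10) (Steps.bwd (nat_lit 16) (Steps.fwd (nat_lit 8192) Steps.nil)))))) (nat_lit 45) (nat_lit 6),
  Rule.mk (nat_lit 10) (nat_lit 94) (Steps.fwd (nat_lit 122880) (Steps.bwd (nat_lit 18) (Steps.fwd (nat_lit 155648) (Steps.fwd (nat_lit 81920) (Steps.bwd (nat_lit 15) Steps.nil))))) (nat_lit 32) (nat_lit 3),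
  Rule.mk (nat_lit 11) (nat_lit 78) (Steps.bwd (nat_lit 2) (Steps.fwd (nat_lit 98304) (Steps.bwd (nat_lit 1) (Steps.fwd (nat_lit 81920) Steps.nil)))) (nat_lit 43) (nat_lit 2),
  Rule.mk (nat_lit 14) (nat_lit 78) (Steps.fwd (nat_lit 147456) (Steps.bwd (nat_lit 17) (Steps.fwd (nat_lit 114688) (Steps.bwd (nat_lit 16) Steps.nil)))) (nat_lit 41) (nat_lit 0),
  Rule.mk (nat_lit 9) (nat_lit 110) (Steps.fwd (nat_lit 131072) (Steps.bwd (nat_lit 9) (Steps.bwd (nat_lit 3) (Steps.fwd (nat_lit 32768) (Steps.fwd (nat_lit 114688) (Steps.bwd (nat_lit 16) Steps.nil)))))) (nat_lit 65) (nat_lit 5),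
  Rule.mk (nat_lit 17) (nat_lit 110) (Steps.bwd (nat_lit 9) (Steps.bwd (nat_lit 19) (Steps.fwd (nat_lit 73728) (Steps.fwd (nat_lit 90112) (Steps.fwd (nat_lit 114688) (Steps.fwd (nat_lit 90112) Steps.nil)))))) (nat_lit 67) (nat_lit 4),
  Rule.mk (nat_lit 10) (nat_lit 110) (Steps.bwd (nat_lit 4) (Steps.bwd (nat_lit 15) (Steps.fwd (nat_lit 24576) (Steps.fwd (nat_lit 73728) (Steps.fwd (nat_lit 90112) (Steps.fwd (nat_lit 73728) Steps.nil)))))) (nat_lit 60) (nat_lit 4),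
  Rule.mk (nat_lit 17) (nat_lit 126) (Steps.bwd (nat_lit 4) (Steps.fwd (nat_lit 98304) (Steps.bwd (nat_lit 3) (Steps.fwd (nat_lit 106496) (Steps.fwd (nat_lit 122880) (Steps.bwd (nat_lit 17) (Steps.bwd (nat_lit 11) Steps.nil))))))) (nat_lit 51) (nat_lit 5),
  Rule.mk (nat_lit 12) (nat_lit 78) (Steps.fwd (nat_lit 90112) (Steps.fwd (nat_lit 155648) (Steps.fwd (nat_lit 98304) (Steps.bwd (nat_lit 11) Steps.nil)))) (nat_lit 18) (nat_lit 4),
  Rule.mk (nat_lit 16) (nat_lit 94) (Steps.fwd (nat_lit 90112) (Steps.fwd (nat_lit 155648) (Steps.fwd (nat_lit 155648) (Steps.fwd (nat_lit 131072) (Steps.bwd (nat_lit 11) Steps.nil))))) (nat_lit 35) (nat_lit 5),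
  Rule.mk (nat_lit 9) (nat_lit 110) (Steps.fwd (nat_lit 155648) (Steps.bwd (nat_lit 9) (Steps.fwd (nat_lit 139264) (Steps.fwd (nat_lit 81920) (Steps.fwd (nat_lit 122880) (Steps.bwd (nat_lit 11) Steps.nil)))))) (nat_lit 66) (nat_lit 1),
  Rule.mk (nat_lit 17) (nat_lit 158) (Steps.fwd (nat_lit 8192) (Steps.fwd (nat_lit 73728) (Steps.bwd (nat_lit 15) (Steps.bwd (nat_lit 9) (Steps.bwd (nat_lit 3) (Steps.fwd (nat_lit 32768) (Steps.fwd (nat_lit 16384) (Steps.bwd (nat_lit 12) (Steps.bwd (nat_lit 11) Steps.nil))))))))) (nat_lit 63) (nat_lit 6),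
  Rule.mk (nat_lit 4) (nat_lit 126) (Steps.bwd (nat_lit 13) (Steps.bwd (nat_lit 3) (Steps.bwd (nat_lit 12) (Steps.bwd (nat_lit 14) (Steps.fwd (nat_lit 131072) (Steps.bwd (nat_lit 11) (Steps.bwd (nat_lit 17) Steps.nil))))))) (nat_lit 51) (nat_lit 6),
  Rule.mk (nat_lit 3) (nat_lit 126) (Steps.bwd (nat_lit 16) (Steps.bwd (nat_lit 10) (Steps.fwd (nat_lit 139264) (Steps.bwd (nat_lit 15) (Steps.fwd (nat_lit 98304) (Steps.fwd (nat_lit 24576) (Steps.bwd (nat_lit 12) Steps.nil))))))) (nat_lit 50) (nat_lit 3),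
  Rule.mk (nat_lit 15) (nat_lit 110) (Steps.bwd (nat_lit 16) (Steps.fwd (nat_lit 73728) (Steps.bwd (nat_lit 17) (Steps.fwd (nat_lit 73728) (Steps.bwd (nat_lit 3) (Steps.fwd (nat_lit 32768) Steps.nil)))))) (nat_lit 65) (nat_lit 3),
  Rule.mk (nat_lit 9) (nat_lit 110) (Steps.fwd (nat_lit 90112) (Steps.bwd (nat_lit 15) (Steps.bwd (nat_lit 10) (Steps.bwd (nat_lit 17) (Steps.fwd (nat_lit 73728) (Steps.bwd (nat_lit 19) Steps.nil)))))) (nat_lit 67) (nat_lit 0)]
noncomputable def R_46 : List (Rule) := [Rule.mk (nat_lit 4) (nat_lit 110) (Steps.bwd (nat_lit 9) (Steps.fwd (nat_lit 139264) (Steps.bwd (nat_lit 9) (Steps.bwd (nat_lit 17) (Steps.bwd (nat_lit 14) (Steps.fwd (nat_lit 24576) Steps.nil)))))) (nat_lit 64) (nat_lit 0),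
  Rule.mk (nat_lit 3) (nat_lit 110) (Steps.bwd (nat_lit 9) (Steps.fwd (nat_lit 139264) (Steps.fwd (nat_lit 139264) (Steps.bwd (nat_lit 14) (Steps.bwd (nat_lit 11) (Steps.fwd (nat_lit 73728) Steps.nil)))))) (nat_lit 70) (nat_lit 2),
  Rule.mk (nat_lit 15) (nat_lit 158) (Steps.bwd (nat_lit 9) (Steps.fwd (nat_lit 32768) (Steps.fwd (nat_lit 32768) (Steps.fwd (nat_lit 16384) (Steps.bwd (nat_lit 12) (Steps.fwd (nat_lit 81920) (Steps.fwd (nat_lit 131072) (Steps.fwd (nat_lit 8192) (Steps.fwd (nat_lit 73728) Steps.nil))))))))) (nat_lit 63) (nat_lit 9),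
  Rule.mk (nat_lit 7) (nat_lit 126) (Steps.bwd (nat_lit 18) (Steps.bwd (nat_lit 7) (Steps.fwd (nat_lit 147456) (Steps.bwd (nat_lit 7) (Steps.bwd (nat_lit 18) (Steps.fwd (nat_lit 8192) (Steps.bwd (nat_lit 2) Steps.nil))))))) (nat_lit 86) (nat_lit 1),
  Rule.mk (nat_lit 10) (nat_lit 126) (Steps.bwd (nat_lit 10) (Steps.fwd (nat_lit 139264) (Steps.bwd (nat_lit 15) (Steps.bwd (nat_lit 15) (Steps.bwd (nat_lit 4) (Steps.bwd (nat_lit 15) (Steps.bwd (nat_lit 3) Steps.nil))))))) (nat_lit 53) (nat_lit 1),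
  Rule.mk (nat_lit 15) (nat_lit 110) (Steps.bwd (nat_lit 4) (Steps.fwd (nat_lit 73728) (Steps.bwd (nat_lit 10) (Steps.fwd (nat_lit 73728) (Steps.fwd (nat_lit 90112) (Steps.bwd (nat_lit 4) Steps.nil)))))) (nat_lit 60) (nat_lit 6),
  Rule.mk (nat_lit 15) (nat_lit 110) (Steps.bwd (nat_lit 15) (Steps.fwd (nat_lit 90112) (Steps.bwd (nat_lit 16) (Steps.fwd (nat_lit 8192) (Steps.bwd (nat_lit 15) (Steps.fwd (nat_lit 16384) Steps.nil)))))) (nat_lit 45) (nat_lit 1),
  Rule.mk (nat_lit 12) (nat_lit 142) (Steps.bwd (nat_lit 11) (Steps.fwd (nat_lit 8192) (Steps.bwd (nat_lit 16) (Steps.fwd (nat_lit 16384) (Steps.fwd (nat_lit 131072) (Steps.fwd (nat_lit 81920) (Steps.fwd (nat_lit 131072) (Steps.fwd (nat_lit 122880) Steps.nil)))))))) (nat_lit 46) (nat_lit 8),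
  Rule.mk (nat_lit 11) (nat_lit 78) (Steps.fwd (nat_lit 106496) (Steps.fwd (nat_lit 90112) (Steps.bwd (nat_lit 18) (Steps.bwd (nat_lit 13) Steps.nil)))) (nat_lit 18) (nat_lit 3),
  Rule.mk (nat_lit 3) (nat_lit 110) (Steps.bwd (nat_lit 14) (Steps.bwd (nat_lit 3) (Steps.fwd (nat_lit 81920) (Steps.fwd (nat_lit 73728) (Steps.bwd (nat_lit 11) (Steps.fwd (nat_lit 73728) Steps.nil)))))) (nat_lit 61) (nat_lit 1),
  Rule.mk (nat_lit 14) (nat_lit 126) (Steps.bwd (nat_lit 14) (Steps.bwd (nat_lit 17) (Steps.bwd (nat_lit 11) (Steps.bwd (nat_lit 11) (Steps.bwd (nat_lit 4) (Steps.fwd (nat_lit 122880) (Steps.fwd (nat_lit 32768) Steps.nil))))))) (nat_lit 52) (nat_lit 4),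
  Rule.mk (nat_lit 4) (nat_lit 126) (Steps.bwd (nat_lit 14) (Steps.bwd (nat_lit 3) (Steps.fwd (nat_lit 122880) (Steps.fwd (nat_lit 122880) (Steps.bwd (nat_lit 17) (Steps.fwd (nat_lit 81920) (Steps.bwd (nat_lit 11) Steps.nil))))))) (nat_lit 52) (nat_lit 1),
  Rule.mk (nat_lit 1) (nat_lit 94) (Steps.bwd (nat_lit 8) (Steps.bwd (nat_lit 8) (Steps.fwd (nat_lit 16384) (Steps.fwd (nat_lit 16384) (Steps.fwd (nat_lit 16384) Steps.nil))))) (nat_lit 79) (nat_lit 4),
  Rule.mk (nat_lit 10) (nat_lit 78) (Steps.bwd (nat_lit 10) (Steps.fwd (nat_lit 8192) (Steps.bwd (nat_lit 12) (Steps.fwd (nat_lit 16384) Steps.nil)))) (nat_lit 42) (nat_lit 4),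
  Rule.mk (nat_lit 14) (nat_lit 94) (Steps.bwd (nat_lit 10) (Steps.fwd (nat_lit 147456) (Steps.fwd (nat_lit 147456) (Steps.bwd (nat_lit 15) (Steps.fwd (nat_lit 81920) Steps.nil))))) (nat_lit 33) (nat_lit 5),
  Rule.mk (nat_lit 17) (nat_lit 94) (Steps.bwd (nat_lit 10) (Steps.fwd (nat_lit 139264) (Steps.fwd (nat_lit 147456) (Steps.bwd (nat_lit 19) (Steps.bwd (nat_lit 11) Steps.nil))))) (nat_lit 34) (nat_lit 2),
  Rule.mk (nat_lit 2) (nat_lit 110) (Steps.fwd (nat_lit 114688) (Steps.bwd (nat_lit 1) (Steps.bwd (nat_lit 15) (Steps.fwd (nat_lit 114688) (Steps.fwd (nat_lit 90112) (Steps.bwd (nat_lit 16) Steps.nil)))))) (nat_lit 45) (nat_lit 5),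
  Rule.mk (nat_lit 19) (nat_lit 62) (Steps.fwd (nat_lit 106496) (Steps.fwd (nat_lit 155648) (Steps.bwd (nat_lit 13) Steps.nil))) (nat_lit 26) (nat_lit 2),
  Rule.mk (nat_lit 9) (nat_lit 110) (Steps.bwd (nat_lit 16) (Steps.bwd (nat_lit 16) (Steps.bwd (nat_lit 14) (Steps.fwd (nat_lit 81920) (Steps.fwd (nat_lit 73728) (Steps.fwd (nat_lit 32768) Steps.nil)))))) (nat_lit 70) (nat_lit 3),
  Rule.mk (nat_lit 10) (nat_lit 78) (Steps.fwd (nat_lit 90112) (Steps.fwd (nat_lit 90112) (Steps.bwd (nat_lit 10) (Steps.bwd (nat_lit 10) Steps.nil)))) (nat_lit 20) (nat_lit 0),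
  Rule.mk (nat_lit 9) (nat_lit 110) (Steps.bwd (nat_lit 3) (Steps.fwd (nat_lit 122880) (Steps.fwd (nat_lit 32768) (Steps.fwd (nat_lit 81920) (Steps.bwd (nat_lit 9) (Steps.bwd (nat_lit 11) Steps.nil)))))) (nat_lit 61) (nat_lit 0),
  Rule.mk (nat_lit 16) (nat_lit 110) (Steps.bwd (nat_lit 9) (Steps.bwd (nat_lit 17) (Steps.bwd (nat_lit 14) (Steps.bwd (nat_lit 4) (Steps.fwd (nat_lit 24576) (Steps.bwd (nat_lit 9) Steps.nil)))))) (nat_lit 64) (nat_lit 2),
  Rule.mk (nat_lit 11) (nat_lit 110) (Steps.bwd (nat_lit 9) (Steps.fwd (nat_lit 32768) (Steps.fwd (nat_lit 73728) (Steps.bwd (nat_lit 16) (Steps.fwd (nat_lit 139264) (Steps.bwd (nat_lit 14) Steps.nil)))))) (nat_lit 70) (nat_lit 0),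
  Rule.mk (nat_lit 3) (nat_lit 94) (Steps.bwd (nat_lit 1) (Steps.fwd (nat_lit 16384) (Steps.bwd (nat_lit 4) (Steps.bwd (nat_lit 2) (Steps.bwd (nat_lit 2) Steps.nil))))) (nat_lit 7) (nat_lit 4),
  Rule.mk (nat_lit 12) (nat_lit 126) (Steps.bwd (nat_lit 14) (Steps.bwd (nat_lit 17) (Steps.bwd (nat_lit 11) (Steps.fwd (nat_lit 131072) (Steps.fwd (nat_lit 24576) (Steps.bwd (nat_lit 13) (Steps.bwd (nat_lit 3) Steps.nil))))))) (nat_lit 51) (nat_lit 1),
  Rule.mk (nat_lit 14) (nat_lit 110) (Steps.bwd (nat_lit 1) (Steps.bwd (nat_lit 17) (Steps.fwd (nat_lit 81920) (Steps.bwd (nat_lit 14) (Steps.fwd (nat_lit 122880) (Steps.bwd (nat_lit 2) Steps.nil)))))) (nat_lit 44) (nat_lit 2),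
  Rule.mk (nat_lit 17) (nat_lit 158) (Steps.bwd (nat_lit 2) (Steps.bwd (nat_lit 9) (Steps.fwd (nat_lit 114688) (Steps.bwd (nat_lit 9) (Steps.fwd (nat_lit 32768) (Steps.bwd (nat_lit 3) (Steps.bwd (nat_lit 1) (Steps.bwd (nat_lit 12) (Steps.bwd (nat_lit 11) Steps.nil))))))))) (nat_lit 63) (nat_lit 6),
  Rule.mk (nat_lit 9) (nat_lit 206) (Steps.bwd (nat_lit 2) (Steps.bwd (nat_lit 2) (Steps.fwd (nat_lit 73728) (Steps.fwd (nat_lit 16384) (Steps.fwd (nat_lit 32768) (Steps.fwd (nat_lit 32768) (Steps.fwd (nat_lit 16384) (Steps.fwd (nat_lit 24576) (Steps.fwd (nat_lit 16384) (Steps.bwd (nat_lit 10) (Steps.bwd (nat_lit 18) (Steps.bwd (nat_lit 17) Steps.nil)))))))))))) (nat_lit 69) (nat_lit 10),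
  Rule.mk (nat_lit 14) (nat_lit 110) (Steps.bwd (nat_lit 4) (Steps.bwd (nat_lit 4) (Steps.fwd (nat_lit 73728) (Steps.bwd (nat_lit 16) (Steps.fwd (nat_lit 73728) (Steps.fwd (nat_lit 131072) Steps.nil)))))) (nat_lit 64) (nat_lit 5),
  Rule.mk (nat_lit 10) (nat_lit 110) (Steps.bwd (nat_lit 15) (Steps.bwd (nat_lit 10) (Steps.fwd (nat_lit 131072) (Steps.bwd (nat_lit 9) (Steps.fwd (nat_lit 147456) (Steps.bwd (nat_lit 9) Steps.nil)))))) (nat_lit 67) (nat_lit 1),
  Rule.mk (nat_lit 16) (nat_lit 110) (Steps.bwd (nat_lit 16) (Steps.fwd (nat_lit 122880) (Steps.fwd (nat_lit 81920) (Steps.fwd (nat_lit 73728) (Steps.bwd (nat_lit 3) (Steps.fwd (nat_lit 73728) Steps.nil)))))) (nat_lit 70) (nat_lit 4),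
  Rule.mk (nat_lit 13) (nat_lit 142) (Steps.bwd (nat_lit 15) (Steps.fwd (nat_lit 139264) (Steps.fwd (nat_lit 90112) (Steps.fwd (nat_lit 139264) (Steps.fwd (nat_lit 8192) (Steps.bwd (nat_lit 17) (Steps.bwd (nat_lit 1) (Steps.bwd (nat_lit 10) Steps.nil)))))))) (nat_lit 47) (nat_lit 2),
  Rule.mk (nat_lit 17) (nat_lit 110) (Steps.bwd (nat_lit 9) (Steps.fwd (nat_lit 32768) (Steps.bwd (nat_lit 3) (Steps.fwd (nat_lit 114688) (Steps.bwd (nat_lit 16) (Steps.fwd (nat_lit 73728) Steps.nil)))))) (nat_lit 65) (nat_lit 6),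
  Rule.mk (nat_lit 12) (nat_lit 190) (Steps.bwd (nat_lit 9) (Steps.bwd (nat_lit 13) (Steps.fwd (nat_lit 73728) (Steps.fwd (nat_lit 8192) (Steps.fwd (nat_lit 8192) (Steps.fwd (nat_lit 8192) (Steps.bwd (nat_lit 15) (Steps.bwd (nat_lit 2) (Steps.fwd (nat_lit 139264) (Steps.bwd (nat_lit 13) (Steps.fwd (nat_lit 73728) Steps.nil))))))))))) (nat_lit 75) (nat_lit 9),
  Rule.mk (nat_lit 14) (nat_lit 126) (Steps.bwd (nat_lit 17) (Steps.fwd (nat_lit 81920) (Steps.fwd (nat_lit 131072) (Steps.bwd (nat_lit 4) (Steps.fwd (nat_lit 98304) (Steps.fwd (nat_lit 32768) (Steps.bwd (nat_lit 12) Steps.nil))))))) (nat_lit 51) (nat_lit 2),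
  Rule.mk (nat_lit 12) (nat_lit 62) (Steps.fwd (nat_lit 131072) (Steps.bwd (nat_lit 13) (Steps.fwd (nat_lit 139264) Steps.nil))) (nat_lit 39) (nat_lit 0),
  Rule.mk (nat_lit 3) (nat_lit 270) (Steps.bwd (nat_lit 9) (Steps.fwd (nat_lit 57344) (Steps.fwd (nat_lit 16384) (Steps.bwd (nat_lit 3) (Steps.bwd (nat_lit 3) (Steps.bwd (nat_lit 2) (Steps.bwd (nat_lit 4) (Steps.fwd (nat_lit 81920) (Steps.fwd (nat_lit 131072) (Steps.fwd (nat_lit 147456) (Steps.bwd (nat_lit 1) (Steps.bwd (nat_lit 9) (Steps.bwd (nat_lit 1) (Steps.fwd (nat_lit 73728) (Steps.bwd (nat_lit 1) (Steps.bwd (nat_lit 13) Steps.nil)))))))))))))))) (nat_lit 77) (nat_lit 15),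
  Rule.mk (nat_lit 7) (nat_lit 126) (Steps.bwd (nat_lit 18) (Steps.fwd (nat_lit 65536) (Steps.bwd (nat_lit 19) (Steps.fwd (nat_lit 65536) (Steps.bwd (nat_lit 18) (Steps.bwd (nat_lit 2) (Steps.fwd (nat_lit 8192) Steps.nil))))))) (nat_lit 86) (nat_lit 1),
  Rule.mk (nat_lit 9) (nat_lit 110) (Steps.bwd (nat_lit 3) (Steps.bwd (nat_lit 9) (Steps.fwd (nat_lit 139264) (Steps.fwd (nat_lit 139264) (Steps.bwd (nat_lit 14) (Steps.bwd (nat_lit 11) Steps.nil)))))) (nat_lit 70) (nat_lit 1),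
  Rule.mk (nat_lit 9) (nat_lit 110) (Steps.bwd (nat_lit 10) (Steps.fwd (nat_lit 24576) (Steps.fwd (nat_lit 114688) (Steps.fwd (nat_lit 24576) (Steps.bwd (nat_lit 9) (Steps.bwd (nat_lit 10) Steps.nil)))))) (nat_lit 60) (nat_lit 3),
  Rule.mk (nat_lit 9) (nat_lit 110) (Steps.fwd (nat_lit 32768) (Steps.bwd (nat_lit 14) (Steps.bwd (nat_lit 3) (Steps.bwd (nat_lit 11) (Steps.fwd (nat_lit 73728) (Steps.bwd (nat_lit 11) Steps.nil)))))) (nat_lit 61) (nat_lit 0),
  Rule.mk (nat_lit 9) (nat_lit 110) (Steps.bwd (nat_lit 16) (Steps.bwd (nat_lit 16) (Steps.fwd (nat_lit 122880) (Steps.bwd (nat_lit 11) (Steps.bwd (nat_lit 9) (Steps.bwd (nat_lit 3) Steps.nil)))))) (nat_lit 70) (nat_lit 3),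
  Rule.mk (nat_lit 10) (nat_lit 126) (Steps.bwd (nat_lit 16) (Steps.fwd (nat_lit 114688) (Steps.bwd (nat_lit 15) (Steps.fwd (nat_lit 24576) (Steps.fwd (nat_lit 114688) (Steps.fwd (nat_lit 32768) (Steps.bwd (nat_lit 10) Steps.nil))))))) (nat_lit 53) (nat_lit 2),
  Rule.mk (nat_lit 4) (nat_lit 94) (Steps.bwd (nat_lit 2) (Steps.fwd (nat_lit 8192) (Steps.fwd (nat_lit 32768) (Steps.fwd (nat_lit 16384) (Steps.bwd (nat_lit 1) Steps.nil))))) (nat_lit 7) (nat_lit 1),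
  Rule.mk (nat_lit 9) (nat_lit 110) (Steps.bwd (nat_lit 3) (Steps.bwd (nat_lit 3) (Steps.fwd (nat_lit 114688) (Steps.fwd (nat_lit 139264) (Steps.fwd (nat_lit 73728) (Steps.fwd (nat_lit 131072) Steps.nil)))))) (nat_lit 65) (nat_lit 0),
  Rule.mk (nat_lit 13) (nat_lit 126) (Steps.bwd (nat_lit 3) (Steps.fwd (nat_lit 106496) (Steps.fwd (nat_lit 122880) (Steps.bwd (nat_lit 17) (Steps.fwd (nat_lit 81920) (Steps.fwd (nat_lit 131072) (Steps.bwd (nat_lit 4) Steps.nil))))))) (nat_lit 51) (nat_lit 7),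
  Rule.mk (nat_lit 9) (nat_lit 110) (Steps.bwd (nat_lit 19) (Steps.fwd (nat_lit 73728) (Steps.fwd (nat_lit 90112) (Steps.fwd (nat_lit 114688) (Steps.bwd (nat_lit 10) (Steps.bwd (nat_lit 17) Steps.nil)))))) (nat_lit 67) (nat_lit 5),
  Rule.mk (nat_lit 11) (nat_lit 110) (Steps.bwd (nat_lit 9) (Steps.fwd (nat_lit 81920) (Steps.bwd (nat_lit 9) (Steps.fwd (nat_lit 32768) (Steps.bwd (nat_lit 14) (Steps.bwd (nat_lit 3) Steps.nil)))))) (nat_lit 61) (nat_lit 4),
  Rule.mk (nat_lit 17) (nat_lit 110) (Steps.bwd (nat_lit 9) (Steps.bwd (nat_lit 3) (Steps.bwd (nat_lit 3) (Steps.fwd (nat_lit 114688) (Steps.fwd (nat_lit 139264) (Steps.fwd (nat_lit 73728) Steps.nil)))))) (nat_lit 65) (nat_lit 6),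
  Rule.mk (nat_lit 9) (nat_lit 110) (Steps.fwd (nat_lit 147456) (Steps.fwd (nat_lit 73728) (Steps.bwd (nat_lit 10) (Steps.fwd (nat_lit 114688) (Steps.fwd (nat_lit 90112) (Steps.bwd (nat_lit 17) Steps.nil)))))) (nat_lit 67) (nat_lit 5),
  Rule.mk (nat_lit 11) (nat_lit 110) (Steps.bwd (nat_lit 9) (Steps.bwd (nat_lit 11) (Steps.bwd (nat_lit 9) (Steps.bwd (nat_lit 3) (Steps.fwd (nat_lit 122880) (Steps.fwd (nat_lit 32768) Steps.nil)))))) (nat_lit 61) (nat_lit 4),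
  Rule.mk (nat_lit 2) (nat_lit 286) (Steps.fwd (nat_lit 90112) (Steps.bwd (nat_lit 1) (Steps.fwd (nat_lit 32768) (Steps.bwd (nat_lit 3) (Steps.fwd (nat_lit 73728) (Steps.fwd (nat_lit 57344) (Steps.bwd (nat_lit 11) (Steps.fwd (nat_lit 57344) (Steps.bwd (nat_lit 3) (Steps.bwd (nat_lit 2) (Steps.bwd (nat_lit 4) (Steps.fwd (nat_lit 81920) (Steps.bwd (nat_lit 8) (Steps.bwd (nat_lit 2) (Steps.bwd (nat_lit 11) (Steps.fwd (nat_lit 16384) (Steps.bwd (nat_lit 11) Steps.nil))))))))))))))))) (nat_lit 56) (nat_lit 14),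
  Rule.mk (nat_lit 1) (nat_lit 94) (Steps.bwd (nat_lit 1) (Steps.bwd (nat_lit 3) (Steps.bwd (nat_lit 2) (Steps.fwd (nat_lit 8192) (Steps.fwd (nat_lit 24576) Steps.nil))))) (nat_lit 6) (nat_lit 4),
  Rule.mk (nat_lit 4) (nat_lit 94) (Steps.bwd (nat_lit 1) (Steps.bwd (nat_lit 1) (Steps.fwd (nat_lit 32768) (Steps.fwd (nat_lit 8192) (Steps.fwd (nat_lit 8192) Steps.nil))))) (nat_lit 6) (nat_lit 3),
  Rule.mk (nat_lit 8) (nat_lit 94) (Steps.bwd (nat_lit 1) (Steps.bwd (nat_lit 1) (Steps.fwd (nat_lit 16384) (Steps.fwd (nat_lit 16384) (Steps.bwd (nat_lit 8) Steps.nil))))) (nat_lit 79) (nat_lit 0),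
  Rule.mk (nat_lit 15) (nat_lit 110) (Steps.bwd (nat_lit 1) (Steps.fwd (nat_lit 114688) (Steps.fwd (nat_lit 114688) (Steps.bwd (nat_lit 10) (Steps.bwd (nat_lit 16) (Steps.bwd (nat_lit 2) Steps.nil)))))) (nat_lit 45) (nat_lit 6),
  Rule.mk (nat_lit 11) (nat_lit 94) (Steps.fwd (nat_lit 122880) (Steps.bwd (nat_lit 10) (Steps.bwd (nat_lit 19) (Steps.fwd (nat_lit 147456) (Steps.bwd (nat_lit 15) Steps.nil))))) (nat_lit 33) (nat_lit 4),
  Rule.mk (nat_lit 8) (nat_lit 158) (Steps.bwd (nat_lit 19) (Steps.bwd (nat_lit 8) (Steps.bwd (nat_lit 19) (Steps.fwd (nat_lit 57344) (Steps.fwd (nat_lit 147456) (Steps.fwd (nat_lit 57344) (Steps.fwd (nat_lit 147456) (Steps.fwd (nat_lit 57344) (Steps.fwd (nat_lit 147456) Steps.nil))))))))) (nat_lit 85) (nat_lit 0),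
  Rule.mk (nat_lit 12) (nat_lit 78) (Steps.fwd (nat_lit 147456) (Steps.bwd (nat_lit 11) (Steps.bwd (nat_lit 13) (Steps.bwd (nat_lit 10) Steps.nil)))) (nat_lit 19) (nat_lit 4),
  Rule.mk (nat_lit 10) (nat_lit 94) (Steps.bwd (nat_lit 14) (Steps.bwd (nat_lit 18) (Steps.bwd (nat_lit 18) (Steps.bwd (nat_lit 11) (Steps.fwd (nat_lit 114688) Steps.nil))))) (nat_lit 32) (nat_lit 3),
  Rule.mk (nat_lit 1) (nat_lit 126) (Steps.bwd (nat_lit 3) (Steps.bwd (nat_lit 1) (Steps.bwd (nat_lit 3) (Steps.fwd (nat_lit 16384) (Steps.fwd (nat_lit 32768) (Steps.fwd (nat_lit 16384) (Steps.bwd (nat_lit 3) Steps.nil))))))) (nat_lit 4) (nat_lit 1),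
  Rule.mk (nat_lit 8) (nat_lit 94) (Steps.bwd (nat_lit 8) (Steps.bwd (nat_lit 1) (Steps.fwd (nat_lit 16384) (Steps.bwd (nat_lit 1) (Steps.fwd (nat_lit 16384) Steps.nil))))) (nat_lit 79) (nat_lit 5),
  Rule.mk (nat_lit 18) (nat_lit 126) (Steps.bwd (nat_lit 8) (Steps.fwd (nat_lit 147456) (Steps.bwd (nat_lit 8) (Steps.fwd (nat_lit 16384) (Steps.bwd (nat_lit 1) (Steps.fwd (nat_lit 147456) (Steps.bwd (nat_lit 8) Steps.nil))))))) (nat_lit 87) (nat_lit 5),
  Rule.mk (nat_lit 11) (nat_lit 110) (Steps.bwd (nat_lit 9) (Steps.bwd (nat_lit 3) (Steps.fwd (nat_lit 122880) (Steps.fwd (nat_lit 32768) (Steps.fwd (nat_lit 81920) (Steps.fwd (nat_lit 73728) Steps.nil)))))) (nat_lit 61) (nat_lit 6)]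
noncomputable def R_47 : List (Rule) := [Rule.mk (nat_lit 1) (nat_lit 78) (Steps.fwd (nat_lit 90112) (Steps.fwd (nat_lit 90112) (Steps.bwd (nat_lit 2) (Steps.bwd (nat_lit 12) Steps.nil)))) (nat_lit 42) (nat_lit 3),
  Rule.mk (nat_lit 2) (nat_lit 190) (Steps.bwd (nat_lit 15) (Steps.fwd (nat_lit 8192) (Steps.bwd (nat_lit 16) (Steps.fwd (nat_lit 98304) (Steps.fwd (nat_lit 73728) (Steps.bwd (nat_lit 12) (Steps.bwd (nat_lit 9) (Steps.fwd (nat_lit 98304) (Steps.bwd (nat_lit 9) (Steps.bwd (nat_lit 2) (Steps.fwd (nat_lit 8192) Steps.nil))))))))))) (nat_lit 75) (nat_lit 3),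
  Rule.mk (nat_lit 2) (nat_lit 94) (Steps.fwd (nat_lit 24576) (Steps.fwd (nat_lit 16384) (Steps.fwd (nat_lit 16384) (Steps.fwd (nat_lit 32768) (Steps.bwd (nat_lit 2) Steps.nil))))) (nat_lit 6) (nat_lit 2),
  Rule.mk (nat_lit 11) (nat_lit 94) (Steps.bwd (nat_lit 17) (Steps.bwd (nat_lit 10) (Steps.fwd (nat_lit 139264) (Steps.fwd (nat_lit 147456) (Steps.bwd (nat_lit 19) Steps.nil))))) (nat_lit 34) (nat_lit 1),
  Rule.mk (nat_lit 13) (nat_lit 78) (Steps.bwd (nat_lit 1) (Steps.bwd (nat_lit 11) (Steps.fwd (nat_lit 81920) (Steps.fwd (nat_lit 8192) Steps.nil)))) (nat_lit 43) (nat_lit 4),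
  Rule.mk (nat_lit 1) (nat_lit 94) (Steps.bwd (nat_lit 1) (Steps.fwd (nat_lit 32768) (Steps.bwd (nat_lit 2) (Steps.fwd (nat_lit 8192) (Steps.fwd (nat_lit 24576) Steps.nil))))) (nat_lit 6) (nat_lit 4),
  Rule.mk (nat_lit 3) (nat_lit 94) (Steps.bwd (nat_lit 1) (Steps.bwd (nat_lit 1) (Steps.fwd (nat_lit 24576) (Steps.fwd (nat_lit 8192) (Steps.fwd (nat_lit 8192) Steps.nil))))) (nat_lit 7) (nat_lit 4),
  Rule.mk (nat_lit 15) (nat_lit 110) (Steps.bwd (nat_lit 16) (Steps.bwd (nat_lit 9) (Steps.fwd (nat_lit 131072) (Steps.bwd (nat_lit 9) (Steps.bwd (nat_lit 3) (Steps.bwd (nat_lit 3) Steps.nil)))))) (nat_lit 65) (nat_lit 3),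
  Rule.mk (nat_lit 10) (nat_lit 110) (Steps.bwd (nat_lit 15) (Steps.fwd (nat_lit 90112) (Steps.fwd (nat_lit 131072) (Steps.fwd (nat_lit 73728) (Steps.fwd (nat_lit 147456) (Steps.fwd (nat_lit 73728) Steps.nil)))))) (nat_lit 67) (nat_lit 1),
  Rule.mk (nat_lit 9) (nat_lit 158) (Steps.bwd (nat_lit 15) (Steps.fwd (nat_lit 73728) (Steps.fwd (nat_lit 32768) (Steps.fwd (nat_lit 32768) (Steps.fwd (nat_lit 16384) (Steps.fwd (nat_lit 106496) (Steps.bwd (nat_lit 11) (Steps.fwd (nat_lit 131072) (Steps.fwd (nat_lit 8192) Steps.nil))))))))) (nat_lit 63) (nat_lit 8),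
  Rule.mk (nat_lit 10) (nat_lit 110) (Steps.bwd (nat_lit 9) (Steps.fwd (nat_lit 90112) (Steps.fwd (nat_lit 24576) (Steps.bwd (nat_lit 15) (Steps.bwd (nat_lit 4) (Steps.bwd (nat_lit 9) Steps.nil)))))) (nat_lit 60) (nat_lit 2),
  Rule.mk (nat_lit 17) (nat_lit 110) (Steps.bwd (nat_lit 9) (Steps.fwd (nat_lit 32768) (Steps.bwd (nat_lit 3) (Steps.bwd (nat_lit 15) (Steps.fwd (nat_lit 139264) (Steps.fwd (nat_lit 73728) Steps.nil)))))) (nat_lit 65) (nat_lit 6),
  Rule.mk (nat_lit 1) (nat_lit 94) (Steps.bwd (nat_lit 3) (Steps.bwd (nat_lit 2) (Steps.fwd (nat_lit 8192) (Steps.bwd (nat_lit 4) (Steps.fwd (nat_lit 16384) Steps.nil))))) (nat_lit 6) (nat_lit 5),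
  Rule.mk (nat_lit 9) (nat_lit 110) (Steps.bwd (nat_lit 3) (Steps.bwd (nat_lit 3) (Steps.fwd (nat_lit 114688) (Steps.fwd (nat_lit 139264) (Steps.bwd (nat_lit 9) (Steps.fwd (nat_lit 131072) Steps.nil)))))) (nat_lit 65) (nat_lit 0),
  Rule.mk (nat_lit 2) (nat_lit 94) (Steps.bwd (nat_lit 2) (Steps.fwd (nat_lit 32768) (Steps.bwd (nat_lit 1) (Steps.fwd (nat_lit 16384) (Steps.fwd (nat_lit 24576) Steps.nil))))) (nat_lit 7) (nat_lit 2),
  Rule.mk (nat_lit 9) (nat_lit 110) (Steps.fwd (nat_lit 131072) (Steps.fwd (nat_lit 73728) (Steps.bwd (nat_lit 3) (Steps.bwd (nat_lit 3) (Steps.bwd (nat_lit 15) (Steps.bwd (nat_lit 16) Steps.nil)))))) (nat_lit 65) (nat_lit 5),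
  Rule.mk (nat_lit 16) (nat_lit 62) (Steps.fwd (nat_lit 106496) (Steps.bwd (nat_lit 17) (Steps.fwd (nat_lit 98304) Steps.nil))) (nat_lit 39) (nat_lit 3),
  Rule.mk (nat_lit 17) (nat_lit 142) (Steps.bwd (nat_lit 11) (Steps.fwd (nat_lit 131072) (Steps.bwd (nat_lit 14) (Steps.bwd (nat_lit 12) (Steps.fwd (nat_lit 81920) (Steps.fwd (nat_lit 8192) (Steps.bwd (nat_lit 16) (Steps.fwd (nat_lit 16384) Steps.nil)))))))) (nat_lit 46) (nat_lit 4),
  Rule.mk (nat_lit 11) (nat_lit 110) (Steps.bwd (nat_lit 9) (Steps.bwd (nat_lit 18) (Steps.bwd (nat_lit 9) (Steps.fwd (nat_lit 139264) (Steps.bwd (nat_lit 11) (Steps.fwd (nat_lit 122880) Steps.nil)))))) (nat_lit 66) (nat_lit 0),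
  Rule.mk (nat_lit 3) (nat_lit 110) (Steps.bwd (nat_lit 9) (Steps.fwd (nat_lit 139264) (Steps.fwd (nat_lit 139264) (Steps.fwd (nat_lit 122880) (Steps.bwd (nat_lit 11) (Steps.bwd (nat_lit 9) Steps.nil)))))) (nat_lit 70) (nat_lit 2),
  Rule.mk (nat_lit 13) (nat_lit 190) (Steps.bwd (nat_lit 9) (Steps.bwd (nat_lit 12) (Steps.fwd (nat_lit 131072) (Steps.bwd (nat_lit 1) (Steps.fwd (nat_lit 122880) (Steps.fwd (nat_lit 16384) (Steps.bwd (nat_lit 1) (Steps.fwd (nat_lit 16384) (Steps.fwd (nat_lit 73728) (Steps.bwd (nat_lit 12) (Steps.fwd (nat_lit 73728) Steps.nil))))))))))) (nat_lit 74) (nat_lit 4),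
  Rule.mk (nat_lit 13) (nat_lit 78) (Steps.bwd (nat_lit 15) (Steps.bwd (nat_lit 12) (Steps.bwd (nat_lit 14) (Steps.fwd (nat_lit 155648) Steps.nil)))) (nat_lit 36) (nat_lit 1),
  Rule.mk (nat_lit 2) (nat_lit 94) (Steps.bwd (nat_lit 2) (Steps.bwd (nat_lit 4) (Steps.bwd (nat_lit 1) (Steps.fwd (nat_lit 16384) (Steps.fwd (nat_lit 32768) Steps.nil))))) (nat_lit 6) (nat_lit 1),
  Rule.mk (nat_lit 3) (nat_lit 94) (Steps.bwd (nat_lit 2) (Steps.fwd (nat_lit 8192) (Steps.bwd (nat_lit 4) (Steps.fwd (nat_lit 16384) (Steps.bwd (nat_lit 1) Steps.nil))))) (nat_lit 6) (nat_lit 0),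
  Rule.mk (nat_lit 7) (nat_lit 94) (Steps.bwd (nat_lit 2) (Steps.fwd (nat_lit 8192) (Steps.fwd (nat_lit 8192) (Steps.fwd (nat_lit 8192) (Steps.fwd (nat_lit 65536) Steps.nil))))) (nat_lit 78) (nat_lit 2),
  Rule.mk (nat_lit 16) (nat_lit 142) (Steps.bwd (nat_lit 1) (Steps.bwd (nat_lit 17) (Steps.fwd (nat_lit 81920) (Steps.bwd (nat_lit 17) (Steps.bwd (nat_lit 14) (Steps.fwd (nat_lit 106496) (Steps.bwd (nat_lit 11) (Steps.bwd (nat_lit 2) Steps.nil)))))))) (nat_lit 46) (nat_lit 2),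
  Rule.mk (nat_lit 7) (nat_lit 94) (Steps.fwd (nat_lit 65536) (Steps.fwd (nat_lit 8192) (Steps.fwd (nat_lit 8192) (Steps.fwd (nat_lit 8192) (Steps.bwd (nat_lit 2) Steps.nil))))) (nat_lit 78) (nat_lit 1),
  Rule.mk (nat_lit 17) (nat_lit 110) (Steps.bwd (nat_lit 9) (Steps.bwd (nat_lit 4) (Steps.fwd (nat_lit 73728) (Steps.fwd (nat_lit 90112) (Steps.bwd (nat_lit 15) (Steps.fwd (nat_lit 131072) Steps.nil)))))) (nat_lit 71) (nat_lit 4),
  Rule.mk (nat_lit 15) (nat_lit 78) (Steps.fwd (nat_lit 139264) (Steps.bwd (nat_lit 14) (Steps.fwd (nat_lit 147456) (Steps.bwd (nat_lit 17) Steps.nil)))) (nat_lit 41) (nat_lit 3),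
  Rule.mk (nat_lit 3) (nat_lit 110) (Steps.bwd (nat_lit 11) (Steps.bwd (nat_lit 9) (Steps.bwd (nat_lit 11) (Steps.bwd (nat_lit 9) (Steps.bwd (nat_lit 3) (Steps.fwd (nat_lit 122880) Steps.nil)))))) (nat_lit 61) (nat_lit 3),
  Rule.mk (nat_lit 9) (nat_lit 110) (Steps.bwd (nat_lit 16) (Steps.fwd (nat_lit 73728) (Steps.fwd (nat_lit 131072) (Steps.fwd (nat_lit 122880) (Steps.fwd (nat_lit 24576) (Steps.bwd (nat_lit 4) Steps.nil)))))) (nat_lit 64) (nat_lit 1),
  Rule.mk (nat_lit 16) (nat_lit 110) (Steps.bwd (nat_lit 16) (Steps.fwd (nat_lit 122880) (Steps.bwd (nat_lit 11) (Steps.bwd (nat_lit 9) (Steps.fwd (nat_lit 32768) (Steps.fwd (nat_lit 73728) Steps.nil)))))) (nat_lit 70) (nat_lit 4),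
  Rule.mk (nat_lit 3) (nat_lit 126) (Steps.bwd (nat_lit 16) (Steps.fwd (nat_lit 90112) (Steps.bwd (nat_lit 16) (Steps.fwd (nat_lit 114688) (Steps.fwd (nat_lit 98304) (Steps.bwd (nat_lit 4) (Steps.fwd (nat_lit 106496) Steps.nil))))))) (nat_lit 50) (nat_lit 3),
  Rule.mk (nat_lit 2) (nat_lit 110) (Steps.bwd (nat_lit 15) (Steps.fwd (nat_lit 16384) (Steps.fwd (nat_lit 114688) (Steps.bwd (nat_lit 15) (Steps.fwd (nat_lit 90112) (Steps.bwd (nat_lit 16) Steps.nil)))))) (nat_lit 45) (nat_lit 5),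
  Rule.mk (nat_lit 14) (nat_lit 126) (Steps.bwd (nat_lit 17) (Steps.bwd (nat_lit 11) (Steps.fwd (nat_lit 81920) (Steps.bwd (nat_lit 4) (Steps.bwd (nat_lit 14) (Steps.fwd (nat_lit 32768) (Steps.bwd (nat_lit 14) Steps.nil))))))) (nat_lit 52) (nat_lit 5),
  Rule.mk (nat_lit 11) (nat_lit 110) (Steps.bwd (nat_lit 9) (Steps.bwd (nat_lit 18) (Steps.bwd (nat_lit 9) (Steps.bwd (nat_lit 16) (Steps.fwd (nat_lit 81920) (Steps.bwd (nat_lit 14) Steps.nil)))))) (nat_lit 66) (nat_lit 0),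
  Rule.mk (nat_lit 11) (nat_lit 110) (Steps.bwd (nat_lit 9) (Steps.fwd (nat_lit 81920) (Steps.fwd (nat_lit 73728) (Steps.bwd (nat_lit 3) (Steps.fwd (nat_lit 122880) (Steps.bwd (nat_lit 3) Steps.nil)))))) (nat_lit 61) (nat_lit 4),
  Rule.mk (nat_lit 16) (nat_lit 110) (Steps.fwd (nat_lit 81920) (Steps.fwd (nat_lit 122880) (Steps.bwd (nat_lit 11) (Steps.bwd (nat_lit 9) (Steps.bwd (nat_lit 18) (Steps.fwd (nat_lit 73728) Steps.nil)))))) (nat_lit 66) (nat_lit 4),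
  Rule.mk (nat_lit 18) (nat_lit 62) (Steps.fwd (nat_lit 139264) (Steps.fwd (nat_lit 147456) (Steps.bwd (nat_lit 17) Steps.nil))) (nat_lit 31) (nat_lit 3),
  Rule.mk (nat_lit 2) (nat_lit 206) (Steps.bwd (nat_lit 9) (Steps.bwd (nat_lit 1) (Steps.fwd (nat_lit 16384) (Steps.bwd (nat_lit 10) (Steps.fwd (nat_lit 155648) (Steps.fwd (nat_lit 131072) (Steps.bwd (nat_lit 9) (Steps.fwd (nat_lit 8192) (Steps.fwd (nat_lit 32768) (Steps.bwd (nat_lit 2) (Steps.bwd (nat_lit 4) (Steps.fwd (nat_lit 24576) Steps.nil)))))))))))) (nat_lit 73) (nat_lit 12),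
  Rule.mk (nat_lit 7) (nat_lit 94) (Steps.bwd (nat_lit 1) (Steps.bwd (nat_lit 1) (Steps.fwd (nat_lit 16384) (Steps.bwd (nat_lit 8) (Steps.bwd (nat_lit 2) Steps.nil))))) (nat_lit 83) (nat_lit 0),
  Rule.mk (nat_lit 4) (nat_lit 94) (Steps.bwd (nat_lit 2) (Steps.bwd (nat_lit 2) (Steps.fwd (nat_lit 32768) (Steps.bwd (nat_lit 1) (Steps.fwd (nat_lit 16384) Steps.nil))))) (nat_lit 7) (nat_lit 1),
  Rule.mk (nat_lit 3) (nat_lit 94) (Steps.fwd (nat_lit 16384) (Steps.fwd (nat_lit 16384) (Steps.bwd (nat_lit 4) (Steps.bwd (nat_lit 2) (Steps.bwd (nat_lit 2) Steps.nil))))) (nat_lit 7) (nat_lit 4),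
  Rule.mk (nat_lit 9) (nat_lit 110) (Steps.fwd (nat_lit 24576) (Steps.fwd (nat_lit 73728) (Steps.bwd (nat_lit 10) (Steps.bwd (nat_lit 15) (Steps.bwd (nat_lit 17) (Steps.fwd (nat_lit 131072) Steps.nil)))))) (nat_lit 71) (nat_lit 5),
  Rule.mk (nat_lit 3) (nat_lit 94) (Steps.fwd (nat_lit 16384) (Steps.fwd (nat_lit 16384) (Steps.fwd (nat_lit 24576) (Steps.fwd (nat_lit 8192) (Steps.bwd (nat_lit 2) Steps.nil))))) (nat_lit 7) (nat_lit 4),
  Rule.mk (nat_lit 17) (nat_lit 126) (Steps.bwd (nat_lit 4) (Steps.bwd (nat_lit 13) (Steps.bwd (nat_lit 3) (Steps.fwd (nat_lit 106496) (Steps.fwd (nat_lit 122880) (Steps.fwd (nat_lit 131072) (Steps.fwd (nat_lit 81920) Steps.nil))))))) (nat_lit 51) (nat_lit 5),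
  Rule.mk (nat_lit 10) (nat_lit 94) (Steps.fwd (nat_lit 139264) (Steps.bwd (nat_lit 19) (Steps.bwd (nat_lit 19) (Steps.fwd (nat_lit 81920) (Steps.bwd (nat_lit 17) Steps.nil))))) (nat_lit 34) (nat_lit 3),
  Rule.mk (nat_lit 9) (nat_lit 110) (Steps.bwd (nat_lit 10) (Steps.fwd (nat_lit 73728) (Steps.fwd (nat_lit 90112) (Steps.bwd (nat_lit 4) (Steps.bwd (nat_lit 15) (Steps.bwd (nat_lit 4) Steps.nil)))))) (nat_lit 60) (nat_lit 1),
  Rule.mk (nat_lit 1) (nat_lit 158) (Steps.bwd (nat_lit 16) (Steps.bwd (nat_lit 10) (Steps.fwd (nat_lit 98304) (Steps.bwd (nat_lit 2) (Steps.fwd (nat_lit 24576) (Steps.fwd (nat_lit 24576) (Steps.fwd (nat_lit 73728) (Steps.bwd (nat_lit 14) (Steps.bwd (nat_lit 9) Steps.nil))))))))) (nat_lit 62) (nat_lit 4),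
  Rule.mk (nat_lit 15) (nat_lit 110) (Steps.bwd (nat_lit 1) (Steps.bwd (nat_lit 15) (Steps.fwd (nat_lit 114688) (Steps.fwd (nat_lit 90112) (Steps.bwd (nat_lit 16) (Steps.bwd (nat_lit 2) Steps.nil)))))) (nat_lit 45) (nat_lit 6),
  Rule.mk (nat_lit 3) (nat_lit 126) (Steps.fwd (nat_lit 16384) (Steps.fwd (nat_lit 32768) (Steps.fwd (nat_lit 16384) (Steps.fwd (nat_lit 32768) (Steps.bwd (nat_lit 1) (Steps.bwd (nat_lit 3) (Steps.fwd (nat_lit 16384) Steps.nil))))))) (nat_lit 4) (nat_lit 0),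
  Rule.mk (nat_lit 9) (nat_lit 190) (Steps.fwd (nat_lit 98304) (Steps.bwd (nat_lit 9) (Steps.fwd (nat_lit 106496) (Steps.bwd (nat_lit 17) (Steps.fwd (nat_lit 16384) (Steps.fwd (nat_lit 122880) (Steps.bwd (nat_lit 1) (Steps.bwd (nat_lit 1) (Steps.fwd (nat_lit 16384) (Steps.fwd (nat_lit 73728) (Steps.bwd (nat_lit 12) Steps.nil))))))))))) (nat_lit 74) (nat_lit 3),
  Rule.mk (nat_lit 9) (nat_lit 158) (Steps.fwd (nat_lit 32768) (Steps.bwd (nat_lit 3) (Steps.bwd (nat_lit 1) (Steps.bwd (nat_lit 12) (Steps.bwd (nat_lit 11) (Steps.fwd (nat_lit 131072) (Steps.bwd (nat_lit 2) (Steps.bwd (nat_lit 9) (Steps.fwd (nat_lit 114688) Steps.nil))))))))) (nat_lit 63) (nat_lit 0),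
  Rule.mk (nat_lit 15) (nat_lit 62) (Steps.fwd (nat_lit 155648) (Steps.bwd (nat_lit 14) (Steps.bwd (nat_lit 19) Steps.nil))) (nat_lit 29) (nat_lit 2),
  Rule.mk (nat_lit 14) (nat_lit 110) (Steps.fwd (nat_lit 8192) (Steps.fwd (nat_lit 122880) (Steps.bwd (nat_lit 1) (Steps.bwd (nat_lit 17) (Steps.bwd (nat_lit 11) (Steps.bwd (nat_lit 14) Steps.nil)))))) (nat_lit 44) (nat_lit 0),
  Rule.mk (nat_lit 17) (nat_lit 110) (Steps.bwd (nat_lit 9) (Steps.bwd (nat_lit 19) (Steps.fwd (nat_lit 73728) (Steps.bwd (nat_lit 10) (Steps.bwd (nat_lit 15) (Steps.fwd (nat_lit 90112) Steps.nil)))))) (nat_lit 67) (nat_lit 4),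
  Rule.mk (nat_lit 3) (nat_lit 94) (Steps.fwd (nat_lit 16384) (Steps.bwd (nat_lit 1) (Steps.bwd (nat_lit 4) (Steps.bwd (nat_lit 2) (Steps.bwd (nat_lit 2) Steps.nil))))) (nat_lit 7) (nat_lit 4),
  Rule.mk (nat_lit 7) (nat_lit 94) (Steps.bwd (nat_lit 2) (Steps.bwd (nat_lit 2) (Steps.bwd (nat_lit 2) (Steps.bwd (nat_lit 8) (Steps.fwd (nat_lit 16384) Steps.nil))))) (nat_lit 82) (nat_lit 3),
  Rule.mk (nat_lit 1) (nat_lit 142) (Steps.fwd (nat_lit 131072) (Steps.bwd (nat_lit 11) (Steps.fwd (nat_lit 131072) (Steps.bwd (nat_lit 14) (Steps.fwd (nat_lit 106496) (Steps.fwd (nat_lit 81920) (Steps.bwd (nat_lit 2) (Steps.fwd (nat_lit 139264) Steps.nil)))))))) (nat_lit 46) (nat_lit 3),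
  Rule.mk (nat_lit 9) (nat_lit 190) (Steps.fwd (nat_lit 106496) (Steps.fwd (nat_lit 73728) (Steps.fwd (nat_lit 98304) (Steps.fwd (nat_lit 73728) (Steps.fwd (nat_lit 8192) (Steps.bwd (nat_lit 2) (Steps.bwd (nat_lit 2) (Steps.fwd (nat_lit 114688) (Steps.fwd (nat_lit 8192) (Steps.bwd (nat_lit 16) (Steps.bwd (nat_lit 13) Steps.nil))))))))))) (nat_lit 75) (nat_lit 8),
  Rule.mk (nat_lit 3) (nat_lit 94) (Steps.bwd (nat_lit 2) (Steps.bwd (nat_lit 2) (Steps.bwd (nat_lit 4) (Steps.fwd (nat_lit 16384) (Steps.bwd (nat_lit 1) Steps.nil))))) (nat_lit 6) (nat_lit 0),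
  Rule.mk (nat_lit 9) (nat_lit 110) (Steps.bwd (nat_lit 11) (Steps.fwd (nat_lit 73728) (Steps.bwd (nat_lit 3) (Steps.fwd (nat_lit 122880) (Steps.bwd (nat_lit 3) (Steps.bwd (nat_lit 11) Steps.nil)))))) (nat_lit 61) (nat_lit 5),
  Rule.mk (nat_lit 4) (nat_lit 110) (Steps.bwd (nat_lit 9) (Steps.bwd (nat_lit 10) (Steps.fwd (nat_lit 73728) (Steps.fwd (nat_lit 90112) (Steps.bwd (nat_lit 4) (Steps.bwd (nat_lit 15) Steps.nil)))))) (nat_lit 60) (nat_lit 0),
  Rule.mk (nat_lit 13) (nat_lit 126) (Steps.bwd (nat_lit 3) (Steps.fwd (nat_lit 106496) (Steps.fwd (nat_lit 122880) (Steps.bwd (nat_lit 17) (Steps.bwd (nat_lit 11) (Steps.bwd (nat_lit 17) (Steps.bwd (nat_lit 4) Steps.nil))))))) (nat_lit 51) (nat_lit 7)]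
noncomputable def R_48 : List (Rule) := [Rule.mk (nat_lit 4) (nat_lit 126) (Steps.fwd (nat_lit 122880) (Steps.bwd (nat_lit 3) (Steps.bwd (nat_lit 14) (Steps.fwd (nat_lit 122880) (Steps.fwd (nat_lit 131072) (Steps.bwd (nat_lit 11) (Steps.bwd (nat_lit 11) Steps.nil))))))) (nat_lit 52) (nat_lit 1),
  Rule.mk (nat_lit 2) (nat_lit 206) (Steps.fwd (nat_lit 73728) (Steps.fwd (nat_lit 16384) (Steps.fwd (nat_lit 32768) (Steps.bwd (nat_lit 3) (Steps.bwd (nat_lit 1) (Steps.bwd (nat_lit 4) (Steps.fwd (nat_lit 16384) (Steps.bwd (nat_lit 10) (Steps.bwd (nat_lit 18) (Steps.fwd (nat_lit 131072) (Steps.bwd (nat_lit 9) (Steps.bwd (nat_lit 2) Steps.nil)))))))))))) (nat_lit 69) (nat_lit 12),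
  Rule.mk (nat_lit 2) (nat_lit 94) (Steps.bwd (nat_lit 7) (Steps.fwd (nat_lit 16384) (Steps.fwd (nat_lit 16384) (Steps.fwd (nat_lit 16384) (Steps.fwd (nat_lit 57344) Steps.nil))))) (nat_lit 83) (nat_lit 5),
  Rule.mk (nat_lit 2) (nat_lit 94) (Steps.bwd (nat_lit 8) (Steps.fwd (nat_lit 16384) (Steps.fwd (nat_lit 65536) (Steps.bwd (nat_lit 2) (Steps.fwd (nat_lit 8192) Steps.nil))))) (nat_lit 82) (nat_lit 0),
  Rule.mk (nat_lit 1) (nat_lit 190) (Steps.bwd (nat_lit 14) (Steps.fwd (nat_lit 16384) (Steps.fwd (nat_lit 16384) (Steps.fwd (nat_lit 16384) (Steps.bwd (nat_lit 9) (Steps.fwd (nat_lit 106496) (Steps.fwd (nat_lit 73728) (Steps.fwd (nat_lit 98304) (Steps.fwd (nat_lit 73728) (Steps.fwd (nat_lit 106496) (Steps.bwd (nat_lit 17) Steps.nil))))))))))) (nat_lit 74) (nat_lit 8),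
  Rule.mk (nat_lit 13) (nat_lit 126) (Steps.bwd (nat_lit 4) (Steps.fwd (nat_lit 106496) (Steps.fwd (nat_lit 32768) (Steps.fwd (nat_lit 139264) (Steps.fwd (nat_lit 90112) (Steps.bwd (nat_lit 16) (Steps.fwd (nat_lit 114688) Steps.nil))))))) (nat_lit 50) (nat_lit 0),
  Rule.mk (nat_lit 2) (nat_lit 94) (Steps.bwd (nat_lit 7) (Steps.fwd (nat_lit 65536) (Steps.bwd (nat_lit 2) (Steps.fwd (nat_lit 8192) (Steps.bwd (nat_lit 2) Steps.nil))))) (nat_lit 78) (nat_lit 0),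
  Rule.mk (nat_lit 2) (nat_lit 110) (Steps.bwd (nat_lit 14) (Steps.fwd (nat_lit 16384) (Steps.bwd (nat_lit 17) (Steps.bwd (nat_lit 11) (Steps.bwd (nat_lit 14) (Steps.bwd (nat_lit 14) Steps.nil)))))) (nat_lit 44) (nat_lit 1),
  Rule.mk (nat_lit 4) (nat_lit 94) (Steps.bwd (nat_lit 1) (Steps.bwd (nat_lit 1) (Steps.fwd (nat_lit 32768) (Steps.bwd (nat_lit 2) (Steps.bwd (nat_lit 2) Steps.nil))))) (nat_lit 6) (nat_lit 3),
  Rule.mk (nat_lit 13) (nat_lit 78) (Steps.fwd (nat_lit 90112) (Steps.fwd (nat_lit 106496) (Steps.fwd (nat_lit 147456) (Steps.bwd (nat_lit 11) Steps.nil)))) (nat_lit 19) (nat_lit 2),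
  Rule.mk (nat_lit 11) (nat_lit 94) (Steps.bwd (nat_lit 15) (Steps.fwd (nat_lit 90112) (Steps.fwd (nat_lit 122880) (Steps.fwd (nat_lit 155648) (Steps.fwd (nat_lit 155648) Steps.nil))))) (nat_lit 32) (nat_lit 1),
  Rule.mk (nat_lit 2) (nat_lit 126) (Steps.bwd (nat_lit 4) (Steps.bwd (nat_lit 2) (Steps.fwd (nat_lit 24576) (Steps.fwd (nat_lit 8192) (Steps.fwd (nat_lit 24576) (Steps.bwd (nat_lit 2) (Steps.bwd (nat_lit 4) Steps.nil))))))) (nat_lit 5) (nat_lit 0),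
  Rule.mk (nat_lit 11) (nat_lit 94) (Steps.bwd (nat_lit 17) (Steps.fwd (nat_lit 90112) (Steps.fwd (nat_lit 139264) (Steps.fwd (nat_lit 147456) (Steps.bwd (nat_lit 19) Steps.nil))))) (nat_lit 34) (nat_lit 1),
  Rule.mk (nat_lit 9) (nat_lit 110) (Steps.bwd (nat_lit 17) (Steps.fwd (nat_lit 122880) (Steps.bwd (nat_lit 4) (Steps.fwd (nat_lit 24576) (Steps.bwd (nat_lit 9) (Steps.bwd (nat_lit 16) Steps.nil)))))) (nat_lit 64) (nat_lit 3),
  Rule.mk (nat_lit 19) (nat_lit 62) (Steps.fwd (nat_lit 131072) (Steps.bwd (nat_lit 18) (Steps.bwd (nat_lit 16) Steps.nil))) (nat_lit 31) (nat_lit 1),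
  Rule.mk (nat_lit 1) (nat_lit 206) (Steps.fwd (nat_lit 16384) (Steps.bwd (nat_lit 9) (Steps.bwd (nat_lit 16) (Steps.bwd (nat_lit 19) (Steps.fwd (nat_lit 81920) (Steps.fwd (nat_lit 8192) (Steps.bwd (nat_lit 3) (Steps.bwd (nat_lit 2) (Steps.fwd (nat_lit 24576) (Steps.fwd (nat_lit 24576) (Steps.bwd (nat_lit 2) (Steps.fwd (nat_lit 73728) Steps.nil)))))))))))) (nat_lit 68) (nat_lit 2),
  Rule.mk (nat_lit 15) (nat_lit 78) (Steps.fwd (nat_lit 98304) (Steps.bwd (nat_lit 14) (Steps.fwd (nat_lit 106496) (Steps.bwd (nat_lit 19) Steps.nil)))) (nat_lit 37) (nat_lit 2),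
  Rule.mk (nat_lit 4) (nat_lit 110) (Steps.bwd (nat_lit 15) (Steps.fwd (nat_lit 24576) (Steps.fwd (nat_lit 73728) (Steps.bwd (nat_lit 10) (Steps.fwd (nat_lit 73728) (Steps.bwd (nat_lit 10) Steps.nil)))))) (nat_lit 60) (nat_lit 5),
  Rule.mk (nat_lit 4) (nat_lit 126) (Steps.bwd (nat_lit 13) (Steps.fwd (nat_lit 32768) (Steps.fwd (nat_lit 106496) (Steps.fwd (nat_lit 122880) (Steps.bwd (nat_lit 17) (Steps.bwd (nat_lit 11) (Steps.bwd (nat_lit 17) Steps.nil))))))) (nat_lit 51) (nat_lit 6),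
  Rule.mk (nat_lit 17) (nat_lit 62) (Steps.fwd (nat_lit 106496) (Steps.bwd (nat_lit 16) (Steps.fwd (nat_lit 98304) Steps.nil))) (nat_lit 38) (nat_lit 2),
  Rule.mk (nat_lit 9) (nat_lit 110) (Steps.fwd (nat_lit 81920) (Steps.fwd (nat_lit 73728) (Steps.fwd (nat_lit 32768) (Steps.fwd (nat_lit 122880) (Steps.fwd (nat_lit 32768) (Steps.bwd (nat_lit 11) Steps.nil)))))) (nat_lit 61) (nat_lit 5),
  Rule.mk (nat_lit 4) (nat_lit 126) (Steps.bwd (nat_lit 14) (Steps.bwd (nat_lit 3) (Steps.bwd (nat_lit 14) (Steps.fwd (nat_lit 122880) (Steps.bwd (nat_lit 17) (Steps.bwd (nat_lit 11) (Steps.bwd (nat_lit 11) Steps.nil))))))) (nat_lit 52) (nat_lit 1),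
  Rule.mk (nat_lit 14) (nat_lit 110) (Steps.bwd (nat_lit 4) (Steps.bwd (nat_lit 4) (Steps.fwd (nat_lit 73728) (Steps.fwd (nat_lit 139264) (Steps.fwd (nat_lit 73728) (Steps.bwd (nat_lit 17) Steps.nil)))))) (nat_lit 64) (nat_lit 5),
  Rule.mk (nat_lit 14) (nat_lit 142) (Steps.bwd (nat_lit 12) (Steps.fwd (nat_lit 81920) (Steps.fwd (nat_lit 8192) (Steps.fwd (nat_lit 139264) (Steps.bwd (nat_lit 1) (Steps.bwd (nat_lit 17) (Steps.fwd (nat_lit 81920) (Steps.fwd (nat_lit 131072) Steps.nil)))))))) (nat_lit 46) (nat_lit 7),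
  Rule.mk (nat_lit 2) (nat_lit 110) (Steps.bwd (nat_lit 14) (Steps.bwd (nat_lit 1) (Steps.bwd (nat_lit 17) (Steps.fwd (nat_lit 81920) (Steps.bwd (nat_lit 14) (Steps.bwd (nat_lit 14) Steps.nil)))))) (nat_lit 44) (nat_lit 1),
  Rule.mk (nat_lit 19) (nat_lit 78) (Steps.bwd (nat_lit 2) (Steps.bwd (nat_lit 18) (Steps.bwd (nat_lit 1) (Steps.bwd (nat_lit 19) Steps.nil)))) (nat_lit 48) (nat_lit 0),
  Rule.mk (nat_lit 7) (nat_lit 94) (Steps.bwd (nat_lit 2) (Steps.fwd (nat_lit 8192) (Steps.bwd (nat_lit 2) (Steps.fwd (nat_lit 57344) (Steps.fwd (nat_lit 16384) Steps.nil))))) (nat_lit 82) (nat_lit 3),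
  Rule.mk (nat_lit 2) (nat_lit 126) (Steps.bwd (nat_lit 4) (Steps.fwd (nat_lit 8192) (Steps.fwd (nat_lit 24576) (Steps.bwd (nat_lit 2) (Steps.fwd (nat_lit 24576) (Steps.bwd (nat_lit 2) (Steps.fwd (nat_lit 24576) Steps.nil))))))) (nat_lit 5) (nat_lit 0),
  Rule.mk (nat_lit 17) (nat_lit 110) (Steps.fwd (nat_lit 122880) (Steps.fwd (nat_lit 24576) (Steps.fwd (nat_lit 24576) (Steps.fwd (nat_lit 73728) (Steps.fwd (nat_lit 139264) (Steps.bwd (nat_lit 9) Steps.nil)))))) (nat_lit 64) (nat_lit 4),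
  Rule.mk (nat_lit 1) (nat_lit 142) (Steps.fwd (nat_lit 90112) (Steps.bwd (nat_lit 13) (Steps.bwd (nat_lit 15) (Steps.fwd (nat_lit 139264) (Steps.bwd (nat_lit 10) (Steps.bwd (nat_lit 16) (Steps.bwd (nat_lit 2) (Steps.bwd (nat_lit 17) Steps.nil)))))))) (nat_lit 47) (nat_lit 0),
  Rule.mk (nat_lit 13) (nat_lit 126) (Steps.bwd (nat_lit 3) (Steps.bwd (nat_lit 12) (Steps.fwd (nat_lit 122880) (Steps.bwd (nat_lit 17) (Steps.fwd (nat_lit 81920) (Steps.bwd (nat_lit 17) (Steps.fwd (nat_lit 24576) Steps.nil))))))) (nat_lit 51) (nat_lit 7),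
  Rule.mk (nat_lit 9) (nat_lit 110) (Steps.bwd (nat_lit 10) (Steps.fwd (nat_lit 114688) (Steps.fwd (nat_lit 90112) (Steps.fwd (nat_lit 131072) (Steps.bwd (nat_lit 9) (Steps.bwd (nat_lit 19) Steps.nil)))))) (nat_lit 67) (nat_lit 0),
  Rule.mk (nat_lit 13) (nat_lit 126) (Steps.bwd (nat_lit 4) (Steps.bwd (nat_lit 12) (Steps.bwd (nat_lit 3) (Steps.fwd (nat_lit 139264) (Steps.bwd (nat_lit 10) (Steps.bwd (nat_lit 16) (Steps.fwd (nat_lit 114688) Steps.nil))))))) (nat_lit 50) (nat_lit 0),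
  Rule.mk (nat_lit 10) (nat_lit 78) (Steps.fwd (nat_lit 106496) (Steps.fwd (nat_lit 147456) (Steps.bwd (nat_lit 11) (Steps.bwd (nat_lit 13) Steps.nil)))) (nat_lit 19) (nat_lit 3),
  Rule.mk (nat_lit 10) (nat_lit 78) (Steps.bwd (nat_lit 10) (Steps.fwd (nat_lit 8192) (Steps.fwd (nat_lit 106496) (Steps.fwd (nat_lit 16384) Steps.nil)))) (nat_lit 42) (nat_lit 4),
  Rule.mk (nat_lit 0) (nat_lit 110) (Steps.bwd (nat_lit 8) (Steps.bwd (nat_lit 1) (Steps.fwd (nat_lit 65536) (Steps.fwd (nat_lit 8192) (Steps.bwd (nat_lit 2) (Steps.bwd (nat_lit 2) Steps.nil)))))) (nat_lit 82) (nat_lit 0),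
  Rule.mk (nat_lit 2) (nat_lit 126) (Steps.fwd (nat_lit 8192) (Steps.bwd (nat_lit 2) (Steps.bwd (nat_lit 2) (Steps.bwd (nat_lit 2) (Steps.bwd (nat_lit 2) (Steps.bwd (nat_lit 2) (Steps.bwd (nat_lit 2) Steps.nil))))))) (nat_lit 1) (nat_lit 0),
  Rule.mk (nat_lit 7) (nat_lit 94) (Steps.fwd (nat_lit 65536) (Steps.bwd (nat_lit 2) (Steps.bwd (nat_lit 2) (Steps.bwd (nat_lit 2) (Steps.bwd (nat_lit 2) Steps.nil))))) (nat_lit 78) (nat_lit 1),
  Rule.mk (nat_lit 10) (nat_lit 94) (Steps.bwd (nat_lit 14) (Steps.bwd (nat_lit 18) (Steps.fwd (nat_lit 155648) (Steps.fwd (nat_lit 81920) (Steps.bwd (nat_lit 15) Steps.nil))))) (nat_lit 32) (nat_lit 3),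
  Rule.mk (nat_lit 9) (nat_lit 158) (Steps.bwd (nat_lit 14) (Steps.bwd (nat_lit 9) (Steps.fwd (nat_lit 16384) (Steps.bwd (nat_lit 16) (Steps.bwd (nat_lit 10) (Steps.fwd (nat_lit 98304) (Steps.fwd (nat_lit 8192) (Steps.bwd (nat_lit 4) (Steps.fwd (nat_lit 24576) Steps.nil))))))))) (nat_lit 62) (nat_lit 1),
  Rule.mk (nat_lit 2) (nat_lit 126) (Steps.bwd (nat_lit 2) (Steps.bwd (nat_lit 2) (Steps.bwd (nat_lit 2) (Steps.fwd (nat_lit 8192) (Steps.fwd (nat_lit 8192) (Steps.bwd (nat_lit 2) (Steps.bwd (nat_lit 2) Steps.nil))))))) (nat_lit 1) (nat_lit 0),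
  Rule.mk (nat_lit 10) (nat_lit 94) (Steps.bwd (nat_lit 14) (Steps.bwd (nat_lit 18) (Steps.bwd (nat_lit 18) (Steps.fwd (nat_lit 81920) (Steps.fwd (nat_lit 114688) Steps.nil))))) (nat_lit 32) (nat_lit 3),
  Rule.mk (nat_lit 13) (nat_lit 78) (Steps.fwd (nat_lit 81920) (Steps.fwd (nat_lit 106496) (Steps.fwd (nat_lit 90112) (Steps.bwd (nat_lit 18) Steps.nil)))) (nat_lit 18) (nat_lit 2),
  Rule.mk (nat_lit 9) (nat_lit 158) (Steps.bwd (nat_lit 14) (Steps.bwd (nat_lit 9) (Steps.fwd (nat_lit 16384) (Steps.bwd (nat_lit 16) (Steps.bwd (nat_lit 10) (Steps.bwd (nat_lit 13) (Steps.bwd (nat_lit 2) (Steps.fwd (nat_lit 24576) (Steps.bwd (nat_lit 4) Steps.nil))))))))) (nat_lit 62) (nat_lit 1),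
  Rule.mk (nat_lit 15) (nat_lit 126) (Steps.bwd (nat_lit 13) (Steps.bwd (nat_lit 4) (Steps.fwd (nat_lit 106496) (Steps.fwd (nat_lit 32768) (Steps.fwd (nat_lit 139264) (Steps.fwd (nat_lit 90112) (Steps.bwd (nat_lit 16) Steps.nil))))))) (nat_lit 50) (nat_lit 7),
  Rule.mk (nat_lit 0) (nat_lit 222) (Steps.bwd (nat_lit 9) (Steps.bwd (nat_lit 1) (Steps.fwd (nat_lit 16384) (Steps.bwd (nat_lit 9) (Steps.fwd (nat_lit 139264) (Steps.fwd (nat_lit 147456) (Steps.bwd (nat_lit 11) (Steps.fwd (nat_lit 8192) (Steps.fwd (nat_lit 32768) (Steps.fwd (nat_lit 8192) (Steps.fwd (nat_lit 24576) (Steps.fwd (nat_lit 24576) (Steps.fwd (nat_lit 8192) Steps.nil))))))))))))) (nat_lit 68) (nat_lit 0),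
  Rule.mk (nat_lit 16) (nat_lit 126) (Steps.bwd (nat_lit 15) (Steps.fwd (nat_lit 98304) (Steps.bwd (nat_lit 4) (Steps.fwd (nat_lit 106496) (Steps.fwd (nat_lit 32768) (Steps.fwd (nat_lit 139264) (Steps.bwd (nat_lit 10) Steps.nil))))))) (nat_lit 50) (nat_lit 6),
  Rule.mk (nat_lit 11) (nat_lit 78) (Steps.fwd (nat_lit 8192) (Steps.fwd (nat_lit 98304) (Steps.fwd (nat_lit 16384) (Steps.bwd (nat_lit 11) Steps.nil)))) (nat_lit 43) (nat_lit 2),
  Rule.mk (nat_lit 17) (nat_lit 110) (Steps.bwd (nat_lit 9) (Steps.fwd (nat_lit 147456) (Steps.bwd (nat_lit 9) (Steps.fwd (nat_lit 90112) (Steps.bwd (nat_lit 15) (Steps.bwd (nat_lit 10) Steps.nil)))))) (nat_lit 67) (nat_lit 4),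
  Rule.mk (nat_lit 11) (nat_lit 110) (Steps.bwd (nat_lit 9) (Steps.fwd (nat_lit 32768) (Steps.fwd (nat_lit 122880) (Steps.fwd (nat_lit 32768) (Steps.bwd (nat_lit 11) (Steps.fwd (nat_lit 73728) Steps.nil)))))) (nat_lit 61) (nat_lit 6),
  Rule.mk (nat_lit 4) (nat_lit 94) (Steps.bwd (nat_lit 1) (Steps.bwd (nat_lit 1) (Steps.bwd (nat_lit 3) (Steps.bwd (nat_lit 2) (Steps.bwd (nat_lit 2) Steps.nil))))) (nat_lit 6) (nat_lit 3),
  Rule.mk (nat_lit 4) (nat_lit 126) (Steps.bwd (nat_lit 13) (Steps.bwd (nat_lit 3) (Steps.fwd (nat_lit 106496) (Steps.bwd (nat_lit 14) (Steps.fwd (nat_lit 131072) (Steps.bwd (nat_lit 11) (Steps.bwd (nat_lit 17) Steps.nil))))))) (nat_lit 51) (nat_lit 6),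
  Rule.mk (nat_lit 15) (nat_lit 110) (Steps.bwd (nat_lit 15) (Steps.bwd (nat_lit 10) (Steps.bwd (nat_lit 16) (Steps.fwd (nat_lit 8192) (Steps.bwd (nat_lit 15) (Steps.bwd (nat_lit 1) Steps.nil)))))) (nat_lit 45) (nat_lit 1),
  Rule.mk (nat_lit 10) (nat_lit 110) (Steps.bwd (nat_lit 15) (Steps.bwd (nat_lit 10) (Steps.bwd (nat_lit 17) (Steps.fwd (nat_lit 73728) (Steps.bwd (nat_lit 19) (Steps.bwd (nat_lit 9) Steps.nil)))))) (nat_lit 67) (nat_lit 1),
  Rule.mk (nat_lit 4) (nat_lit 126) (Steps.bwd (nat_lit 15) (Steps.bwd (nat_lit 3) (Steps.fwd (nat_lit 90112) (Steps.bwd (nat_lit 10) (Steps.bwd (nat_lit 16) (Steps.fwd (nat_lit 114688) (Steps.bwd (nat_lit 15) Steps.nil))))))) (nat_lit 53) (nat_lit 6),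
  Rule.mk (nat_lit 13) (nat_lit 142) (Steps.bwd (nat_lit 15) (Steps.fwd (nat_lit 139264) (Steps.fwd (nat_lit 90112) (Steps.bwd (nat_lit 16) (Steps.fwd (nat_lit 8192) (Steps.bwd (nat_lit 17) (Steps.fwd (nat_lit 16384) (Steps.fwd (nat_lit 90112) Steps.nil)))))))) (nat_lit 47) (nat_lit 2),
  Rule.mk (nat_lit 13) (nat_lit 142) (Steps.bwd (nat_lit 15) (Steps.fwd (nat_lit 139264) (Steps.bwd (nat_lit 10) (Steps.bwd (nat_lit 16) (Steps.bwd (nat_lit 2) (Steps.fwd (nat_lit 131072) (Steps.fwd (nat_lit 16384) (Steps.bwd (nat_lit 10) Steps.nil)))))))) (nat_lit 47) (nat_lit 2),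
  Rule.mk (nat_lit 17) (nat_lit 158) (Steps.bwd (nat_lit 2) (Steps.bwd (nat_lit 9) (Steps.bwd (nat_lit 15) (Steps.bwd (nat_lit 9) (Steps.fwd (nat_lit 32768) (Steps.bwd (nat_lit 3) (Steps.fwd (nat_lit 16384) (Steps.bwd (nat_lit 12) (Steps.bwd (nat_lit 11) Steps.nil))))))))) (nat_lit 63) (nat_lit 6),
  Rule.mk (nat_lit 19) (nat_lit 62) (Steps.fwd (nat_lit 81920) (Steps.bwd (nat_lit 18) (Steps.bwd (nat_lit 10) Steps.nil))) (nat_lit 25) (nat_lit 1),
  Rule.mk (nat_lit 13) (nat_lit 142) (Steps.bwd (nat_lit 15) (Steps.bwd (nat_lit 16) (Steps.bwd (nat_lit 10) (Steps.fwd (nat_lit 139264) (Steps.bwd (nat_lit 2) (Steps.bwd (nat_lit 17) (Steps.bwd (nat_lit 1) (Steps.bwd (nat_lit 10) Steps.nil)))))))) (nat_lit 47) (nat_lit 2),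
  Rule.mk (nat_lit 2) (nat_lit 142) (Steps.bwd (nat_lit 17) (Steps.fwd (nat_lit 16384) (Steps.fwd (nat_lit 90112) (Steps.bwd (nat_lit 13) (Steps.bwd (nat_lit 15) (Steps.fwd (nat_lit 139264) (Steps.bwd (nat_lit 10) (Steps.fwd (nat_lit 139264) Steps.nil)))))))) (nat_lit 47) (nat_lit 7),
  Rule.mk (nat_lit 4) (nat_lit 126) (Steps.fwd (nat_lit 8192) (Steps.fwd (nat_lit 24576) (Steps.bwd (nat_lit 2) (Steps.fwd (nat_lit 24576) (Steps.fwd (nat_lit 8192) (Steps.fwd (nat_lit 24576) (Steps.bwd (nat_lit 2) Steps.nil))))))) (nat_lit 5) (nat_lit 1),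
  Rule.mk (nat_lit 9) (nat_lit 270) (Steps.bwd (nat_lit 2) (Steps.bwd (nat_lit 18) (Steps.fwd (nat_lit 139264) (Steps.fwd (nat_lit 90112) (Steps.fwd (nat_lit 32768) (Steps.fwd (nat_lit 16384) (Steps.fwd (nat_lit 24576) (Steps.fwd (nat_lit 24576) (Steps.fwd (nat_lit 8192) (Steps.bwd (nat_lit 7) (Steps.bwd (nat_lit 9) (Steps.bwd (nat_lit 4) (Steps.fwd (nat_lit 106496) (Steps.fwd (nat_lit 8192) (Steps.bwd (nat_lit 9) (Steps.bwd (nat_lit 2) Steps.nil)))))))))))))))) (nat_lit 76) (nat_lit 8),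
  Rule.mk (nat_lit 1) (nat_lit 94) (Steps.bwd (nat_lit 7) (Steps.bwd (nat_lit 2) (Steps.fwd (nat_lit 8192) (Steps.fwd (nat_lit 8192) (Steps.fwd (nat_lit 57344) Steps.nil))))) (nat_lit 82) (nat_lit 2)]
noncomputable def R_49 : List (Rule) := [Rule.mk (nat_lit 3) (nat_lit 270) (Steps.bwd (nat_lit 3) (Steps.fwd (nat_lit 8192) (Steps.fwd (nat_lit 24576) (Steps.fwd (nat_lit 81920) (Steps.fwd (nat_lit 131072) (Steps.fwd (nat_lit 147456) (Steps.fwd (nat_lit 16384) (Steps.fwd (nat_lit 73728) (Steps.bwd (nat_lit 1) (Steps.fwd (nat_lit 73728) (Steps.fwd (nat_lit 16384) (Steps.fwd (nat_lit 98304) (Steps.bwd (nat_lit 3) (Steps.bwd (nat_lit 9) (Steps.fwd (nat_lit 57344) (Steps.bwd (nat_lit 1) Steps.nil)))))))))))))))) (nat_lit 77) (nat_lit 2),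
  Rule.mk (nat_lit 9) (nat_lit 110) (Steps.bwd (nat_lit 3) (Steps.fwd (nat_lit 73728) (Steps.fwd (nat_lit 139264) (Steps.bwd (nat_lit 16) (Steps.fwd (nat_lit 122880) (Steps.bwd (nat_lit 11) Steps.nil)))))) (nat_lit 70) (nat_lit 1),
  Rule.mk (nat_lit 0) (nat_lit 94) (Steps.bwd (nat_lit 1) (Steps.fwd (nat_lit 147456) (Steps.fwd (nat_lit 147456) (Steps.fwd (nat_lit 8192) (Steps.bwd (nat_lit 18) Steps.nil))))) (nat_lit 48) (nat_lit 2),
  Rule.mk (nat_lit 0) (nat_lit 62) (Steps.bwd (nat_lit 7) (Steps.bwd (nat_lit 0) (Steps.fwd (nat_lit 57344) Steps.nil))) (nat_lit 88) (nat_lit 0),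
  Rule.mk (nat_lit 0) (nat_lit 62) (Steps.bwd (nat_lit 8) (Steps.bwd (nat_lit 0) (Steps.bwd (nat_lit 7) Steps.nil))) (nat_lit 88) (nat_lit 0),
  Rule.mk (nat_lit 0) (nat_lit 62) (Steps.fwd (nat_lit 32768) (Steps.bwd (nat_lit 0) (Steps.bwd (nat_lit 4) Steps.nil))) (nat_lit 88) (nat_lit 0),
  Rule.mk (nat_lit 7) (nat_lit 286) (Steps.fwd (nat_lit 73728) (Steps.bwd (nat_lit 4) (Steps.fwd (nat_lit 24576) (Steps.fwd (nat_lit 8192) (Steps.fwd (nat_lit 81920) (Steps.fwd (nat_lit 16384) (Steps.fwd (nat_lit 90112) (Steps.bwd (nat_lit 2) (Steps.fwd (nat_lit 90112) (Steps.fwd (nat_lit 16384) (Steps.fwd (nat_lit 65536) (Steps.bwd (nat_lit 10) (Steps.bwd (nat_lit 3) (Steps.bwd (nat_lit 1) (Steps.bwd (nat_lit 4) (Steps.fwd (nat_lit 65536) (Steps.fwd (nat_lit 90112) Steps.nil))))))))))))))))) (nat_lit 57) (nat_lit 17),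
  Rule.mk (nat_lit 9) (nat_lit 286) (Steps.fwd (nat_lit 24576) (Steps.bwd (nat_lit 4) (Steps.bwd (nat_lit 2) (Steps.fwd (nat_lit 81920) (Steps.fwd (nat_lit 16384) (Steps.fwd (nat_lit 90112) (Steps.bwd (nat_lit 2) (Steps.bwd (nat_lit 10) (Steps.fwd (nat_lit 16384) (Steps.fwd (nat_lit 65536) (Steps.bwd (nat_lit 10) (Steps.fwd (nat_lit 32768) (Steps.bwd (nat_lit 1) (Steps.bwd (nat_lit 4) (Steps.bwd (nat_lit 7) (Steps.fwd (nat_lit 90112) (Steps.bwd (nat_lit 7) Steps.nil))))))))))))))))) (nat_lit 57) (nat_lit 0),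
  Rule.mk (nat_lit 16) (nat_lit 110) (Steps.bwd (nat_lit 9) (Steps.bwd (nat_lit 17) (Steps.fwd (nat_lit 122880) (Steps.bwd (nat_lit 4) (Steps.bwd (nat_lit 4) (Steps.fwd (nat_lit 73728) Steps.nil)))))) (nat_lit 64) (nat_lit 2),
  Rule.mk (nat_lit 17) (nat_lit 110) (Steps.bwd (nat_lit 9) (Steps.fwd (nat_lit 32768) (Steps.bwd (nat_lit 3) (Steps.bwd (nat_lit 15) (Steps.fwd (nat_lit 139264) (Steps.bwd (nat_lit 9) Steps.nil)))))) (nat_lit 65) (nat_lit 6),
  Rule.mk (nat_lit 11) (nat_lit 126) (Steps.fwd (nat_lit 81920) (Steps.bwd (nat_lit 4) (Steps.fwd (nat_lit 122880) (Steps.bwd (nat_lit 3) (Steps.bwd (nat_lit 14) (Steps.fwd (nat_lit 122880) (Steps.bwd (nat_lit 17) Steps.nil))))))) (nat_lit 52) (nat_lit 7),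
  Rule.mk (nat_lit 15) (nat_lit 110) (Steps.bwd (nat_lit 15) (Steps.fwd (nat_lit 90112) (Steps.bwd (nat_lit 16) (Steps.bwd (nat_lit 2) (Steps.fwd (nat_lit 114688) (Steps.fwd (nat_lit 16384) Steps.nil)))))) (nat_lit 45) (nat_lit 1),
  Rule.mk (nat_lit 10) (nat_lit 110) (Steps.bwd (nat_lit 15) (Steps.fwd (nat_lit 90112) (Steps.fwd (nat_lit 131072) (Steps.fwd (nat_lit 73728) (Steps.bwd (nat_lit 19) (Steps.fwd (nat_lit 73728) Steps.nil)))))) (nat_lit 67) (nat_lit 1),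
  Rule.mk (nat_lit 4) (nat_lit 126) (Steps.bwd (nat_lit 15) (Steps.fwd (nat_lit 32768) (Steps.bwd (nat_lit 10) (Steps.fwd (nat_lit 90112) (Steps.fwd (nat_lit 139264) (Steps.fwd (nat_lit 114688) (Steps.fwd (nat_lit 114688) Steps.nil))))))) (nat_lit 53) (nat_lit 6),
  Rule.mk (nat_lit 17) (nat_lit 94) (Steps.fwd (nat_lit 90112) (Steps.bwd (nat_lit 16) (Steps.fwd (nat_lit 147456) (Steps.fwd (nat_lit 147456) (Steps.bwd (nat_lit 11) Steps.nil))))) (nat_lit 34) (nat_lit 2),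
  Rule.mk (nat_lit 11) (nat_lit 110) (Steps.bwd (nat_lit 9) (Steps.bwd (nat_lit 3) (Steps.bwd (nat_lit 14) (Steps.bwd (nat_lit 3) (Steps.fwd (nat_lit 81920) (Steps.fwd (nat_lit 73728) Steps.nil)))))) (nat_lit 61) (nat_lit 6),
  Rule.mk (nat_lit 4) (nat_lit 110) (Steps.bwd (nat_lit 9) (Steps.fwd (nat_lit 139264) (Steps.fwd (nat_lit 73728) (Steps.bwd (nat_lit 17) (Steps.bwd (nat_lit 14) (Steps.bwd (nat_lit 4) Steps.nil)))))) (nat_lit 64) (nat_lit 0),
  Rule.mk (nat_lit 17) (nat_lit 110) (Steps.bwd (nat_lit 9) (Steps.bwd (nat_lit 3) (Steps.bwd (nat_lit 3) (Steps.bwd (nat_lit 15) (Steps.fwd (nat_lit 139264) (Steps.fwd (nat_lit 73728) Steps.nil)))))) (nat_lit 65) (nat_lit 6),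
  Rule.mk (nat_lit 15) (nat_lit 158) (Steps.bwd (nat_lit 9) (Steps.bwd (nat_lit 3) (Steps.bwd (nat_lit 3) (Steps.fwd (nat_lit 16384) (Steps.bwd (nat_lit 12) (Steps.fwd (nat_lit 81920) (Steps.bwd (nat_lit 17) (Steps.fwd (nat_lit 8192) (Steps.fwd (nat_lit 73728) Steps.nil))))))))) (nat_lit 63) (nat_lit 9),
  Rule.mk (nat_lit 15) (nat_lit 110) (Steps.fwd (nat_lit 24576) (Steps.bwd (nat_lit 9) (Steps.fwd (nat_lit 90112) (Steps.bwd (nat_lit 9) (Steps.bwd (nat_lit 10) (Steps.bwd (nat_lit 4) Steps.nil)))))) (nat_lit 60) (nat_lit 6),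
  Rule.mk (nat_lit 2) (nat_lit 110) (Steps.bwd (nat_lit 15) (Steps.fwd (nat_lit 16384) (Steps.bwd (nat_lit 15) (Steps.bwd (nat_lit 15) (Steps.bwd (nat_lit 10) (Steps.fwd (nat_lit 139264) Steps.nil)))))) (nat_lit 45) (nat_lit 5),
  Rule.mk (nat_lit 15) (nat_lit 110) (Steps.bwd (nat_lit 15) (Steps.bwd (nat_lit 10) (Steps.bwd (nat_lit 16) (Steps.bwd (nat_lit 2) (Steps.bwd (nat_lit 15) (Steps.bwd (nat_lit 1) Steps.nil)))))) (nat_lit 45) (nat_lit 1),
  Rule.mk (nat_lit 16) (nat_lit 126) (Steps.bwd (nat_lit 15) (Steps.fwd (nat_lit 98304) (Steps.bwd (nat_lit 4) (Steps.bwd (nat_lit 12) (Steps.fwd (nat_lit 32768) (Steps.bwd (nat_lit 16) (Steps.bwd (nat_lit 10) Steps.nil))))))) (nat_lit 50) (nat_lit 6),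
  Rule.mk (nat_lit 4) (nat_lit 126) (Steps.bwd (nat_lit 15) (Steps.bwd (nat_lit 3) (Steps.fwd (nat_lit 90112) (Steps.bwd (nat_lit 10) (Steps.fwd (nat_lit 139264) (Steps.fwd (nat_lit 114688) (Steps.fwd (nat_lit 114688) Steps.nil))))))) (nat_lit 53) (nat_lit 6),
  Rule.mk (nat_lit 9) (nat_lit 110) (Steps.bwd (nat_lit 16) (Steps.fwd (nat_lit 73728) (Steps.bwd (nat_lit 17) (Steps.bwd (nat_lit 14) (Steps.fwd (nat_lit 24576) (Steps.bwd (nat_lit 4) Steps.nil)))))) (nat_lit 64) (nat_lit 1),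
  Rule.mk (nat_lit 13) (nat_lit 142) (Steps.bwd (nat_lit 15) (Steps.fwd (nat_lit 139264) (Steps.fwd (nat_lit 90112) (Steps.bwd (nat_lit 16) (Steps.bwd (nat_lit 2) (Steps.fwd (nat_lit 131072) (Steps.fwd (nat_lit 16384) (Steps.bwd (nat_lit 10) Steps.nil)))))))) (nat_lit 47) (nat_lit 2),
  Rule.mk (nat_lit 14) (nat_lit 110) (Steps.bwd (nat_lit 1) (Steps.bwd (nat_lit 17) (Steps.bwd (nat_lit 11) (Steps.fwd (nat_lit 122880) (Steps.fwd (nat_lit 122880) (Steps.bwd (nat_lit 2) Steps.nil)))))) (nat_lit 44) (nat_lit 2),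
  Rule.mk (nat_lit 8) (nat_lit 94) (Steps.bwd (nat_lit 2) (Steps.fwd (nat_lit 65536) (Steps.bwd (nat_lit 1) (Steps.bwd (nat_lit 1) (Steps.bwd (nat_lit 1) Steps.nil))))) (nat_lit 83) (nat_lit 4),
  Rule.mk (nat_lit 10) (nat_lit 110) (Steps.bwd (nat_lit 9) (Steps.fwd (nat_lit 90112) (Steps.bwd (nat_lit 4) (Steps.fwd (nat_lit 114688) (Steps.bwd (nat_lit 4) (Steps.fwd (nat_lit 73728) Steps.nil)))))) (nat_lit 60) (nat_lit 2),
  Rule.mk (nat_lit 16) (nat_lit 110) (Steps.bwd (nat_lit 9) (Steps.bwd (nat_lit 17) (Steps.bwd (nat_lit 14) (Steps.fwd (nat_lit 24576) (Steps.fwd (nat_lit 24576) (Steps.fwd (nat_lit 73728) Steps.nil)))))) (nat_lit 64) (nat_lit 2),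
  Rule.mk (nat_lit 15) (nat_lit 110) (Steps.bwd (nat_lit 16) (Steps.bwd (nat_lit 9) (Steps.bwd (nat_lit 17) (Steps.bwd (nat_lit 9) (Steps.bwd (nat_lit 3) (Steps.fwd (nat_lit 32768) Steps.nil)))))) (nat_lit 65) (nat_lit 3),
  Rule.mk (nat_lit 14) (nat_lit 110) (Steps.fwd (nat_lit 16384) (Steps.bwd (nat_lit 17) (Steps.bwd (nat_lit 11) (Steps.bwd (nat_lit 14) (Steps.fwd (nat_lit 122880) (Steps.bwd (nat_lit 2) Steps.nil)))))) (nat_lit 44) (nat_lit 2),
  Rule.mk (nat_lit 6) (nat_lit 62) (Steps.fwd (nat_lit 32768) (Steps.bwd (nat_lit 14) (Steps.fwd (nat_lit 24576) Steps.nil))) (nat_lit 14) (nat_lit 3),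
  Rule.mk (nat_lit 4) (nat_lit 126) (Steps.bwd (nat_lit 13) (Steps.bwd (nat_lit 3) (Steps.fwd (nat_lit 106496) (Steps.fwd (nat_lit 122880) (Steps.bwd (nat_lit 17) (Steps.bwd (nat_lit 11) (Steps.fwd (nat_lit 131072) Steps.nil))))))) (nat_lit 51) (nat_lit 6),
  Rule.mk (nat_lit 12) (nat_lit 126) (Steps.bwd (nat_lit 14) (Steps.fwd (nat_lit 131072) (Steps.fwd (nat_lit 81920) (Steps.fwd (nat_lit 131072) (Steps.fwd (nat_lit 24576) (Steps.bwd (nat_lit 13) (Steps.bwd (nat_lit 3) Steps.nil))))))) (nat_lit 51) (nat_lit 1),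
  Rule.mk (nat_lit 9) (nat_lit 110) (Steps.bwd (nat_lit 10) (Steps.fwd (nat_lit 73728) (Steps.fwd (nat_lit 90112) (Steps.fwd (nat_lit 24576) (Steps.fwd (nat_lit 114688) (Steps.bwd (nat_lit 4) Steps.nil)))))) (nat_lit 60) (nat_lit 1),
  Rule.mk (nat_lit 8) (nat_lit 126) (Steps.fwd (nat_lit 147456) (Steps.bwd (nat_lit 8) (Steps.bwd (nat_lit 1) (Steps.fwd (nat_lit 16384) (Steps.bwd (nat_lit 19) (Steps.bwd (nat_lit 8) (Steps.bwd (nat_lit 18) Steps.nil))))))) (nat_lit 87) (nat_lit 6),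
  Rule.mk (nat_lit 9) (nat_lit 110) (Steps.bwd (nat_lit 10) (Steps.fwd (nat_lit 73728) (Steps.fwd (nat_lit 90112) (Steps.fwd (nat_lit 24576) (Steps.bwd (nat_lit 15) (Steps.bwd (nat_lit 4) Steps.nil)))))) (nat_lit 60) (nat_lit 1),
  Rule.mk (nat_lit 13) (nat_lit 126) (Steps.bwd (nat_lit 3) (Steps.bwd (nat_lit 12) (Steps.fwd (nat_lit 122880) (Steps.fwd (nat_lit 131072) (Steps.bwd (nat_lit 11) (Steps.bwd (nat_lit 17) (Steps.bwd (nat_lit 4) Steps.nil))))))) (nat_lit 51) (nat_lit 7),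
  Rule.mk (nat_lit 2) (nat_lit 110) (Steps.bwd (nat_lit 14) (Steps.fwd (nat_lit 16384) (Steps.fwd (nat_lit 131072) (Steps.fwd (nat_lit 81920) (Steps.bwd (nat_lit 14) (Steps.bwd (nat_lit 14) Steps.nil)))))) (nat_lit 44) (nat_lit 1),
  Rule.mk (nat_lit 12) (nat_lit 126) (Steps.bwd (nat_lit 14) (Steps.fwd (nat_lit 131072) (Steps.bwd (nat_lit 11) (Steps.fwd (nat_lit 131072) (Steps.fwd (nat_lit 24576) (Steps.fwd (nat_lit 98304) (Steps.bwd (nat_lit 3) Steps.nil))))))) (nat_lit 51) (nat_lit 1),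
  Rule.mk (nat_lit 11) (nat_lit 110) (Steps.bwd (nat_lit 9) (Steps.fwd (nat_lit 81920) (Steps.bwd (nat_lit 9) (Steps.bwd (nat_lit 3) (Steps.fwd (nat_lit 122880) (Steps.bwd (nat_lit 3) Steps.nil)))))) (nat_lit 61) (nat_lit 4),
  Rule.mk (nat_lit 4) (nat_lit 110) (Steps.bwd (nat_lit 9) (Steps.bwd (nat_lit 16) (Steps.fwd (nat_lit 73728) (Steps.fwd (nat_lit 131072) (Steps.fwd (nat_lit 122880) (Steps.bwd (nat_lit 4) Steps.nil)))))) (nat_lit 64) (nat_lit 0),
  Rule.mk (nat_lit 17) (nat_lit 110) (Steps.bwd (nat_lit 9) (Steps.fwd (nat_lit 32768) (Steps.fwd (nat_lit 32768) (Steps.bwd (nat_lit 15) (Steps.fwd (nat_lit 139264) (Steps.fwd (nat_lit 73728) Steps.nil)))))) (nat_lit 65) (nat_lit 6),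
  Rule.mk (nat_lit 3) (nat_lit 110) (Steps.bwd (nat_lit 9) (Steps.bwd (nat_lit 16) (Steps.bwd (nat_lit 16) (Steps.fwd (nat_lit 122880) (Steps.bwd (nat_lit 11) (Steps.fwd (nat_lit 73728) Steps.nil)))))) (nat_lit 70) (nat_lit 2),
  Rule.mk (nat_lit 14) (nat_lit 110) (Steps.bwd (nat_lit 3) (Steps.fwd (nat_lit 81920) (Steps.fwd (nat_lit 73728) (Steps.bwd (nat_lit 11) (Steps.fwd (nat_lit 73728) (Steps.bwd (nat_lit 3) Steps.nil)))))) (nat_lit 61) (nat_lit 2),
  Rule.mk (nat_lit 16) (nat_lit 110) (Steps.bwd (nat_lit 11) (Steps.fwd (nat_lit 122880) (Steps.fwd (nat_lit 81920) (Steps.fwd (nat_lit 73728) (Steps.fwd (nat_lit 155648) (Steps.bwd (nat_lit 9) Steps.nil)))))) (nat_lit 66) (nat_lit 4),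
  Rule.mk (nat_lit 9) (nat_lit 110) (Steps.fwd (nat_lit 131072) (Steps.fwd (nat_lit 122880) (Steps.fwd (nat_lit 24576) (Steps.fwd (nat_lit 24576) (Steps.bwd (nat_lit 9) (Steps.bwd (nat_lit 16) Steps.nil)))))) (nat_lit 64) (nat_lit 3),
  Rule.mk (nat_lit 15) (nat_lit 110) (Steps.bwd (nat_lit 15) (Steps.fwd (nat_lit 90112) (Steps.fwd (nat_lit 139264) (Steps.bwd (nat_lit 2) (Steps.bwd (nat_lit 15) (Steps.bwd (nat_lit 1) Steps.nil)))))) (nat_lit 45) (nat_lit 1),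
  Rule.mk (nat_lit 2) (nat_lit 142) (Steps.bwd (nat_lit 16) (Steps.fwd (nat_lit 16384) (Steps.bwd (nat_lit 17) (Steps.bwd (nat_lit 11) (Steps.bwd (nat_lit 17) (Steps.fwd (nat_lit 122880) (Steps.fwd (nat_lit 106496) (Steps.bwd (nat_lit 11) Steps.nil)))))))) (nat_lit 46) (nat_lit 1),
  Rule.mk (nat_lit 4) (nat_lit 110) (Steps.bwd (nat_lit 9) (Steps.fwd (nat_lit 90112) (Steps.fwd (nat_lit 114688) (Steps.fwd (nat_lit 131072) (Steps.fwd (nat_lit 131072) (Steps.fwd (nat_lit 73728) Steps.nil)))))) (nat_lit 71) (nat_lit 6),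
  Rule.mk (nat_lit 10) (nat_lit 142) (Steps.bwd (nat_lit 13) (Steps.bwd (nat_lit 15) (Steps.bwd (nat_lit 16) (Steps.fwd (nat_lit 90112) (Steps.fwd (nat_lit 139264) (Steps.fwd (nat_lit 8192) (Steps.bwd (nat_lit 17) (Steps.bwd (nat_lit 1) Steps.nil)))))))) (nat_lit 47) (nat_lit 1),
  Rule.mk (nat_lit 14) (nat_lit 110) (Steps.bwd (nat_lit 1) (Steps.fwd (nat_lit 131072) (Steps.bwd (nat_lit 11) (Steps.fwd (nat_lit 122880) (Steps.bwd (nat_lit 14) (Steps.bwd (nat_lit 2) Steps.nil)))))) (nat_lit 44) (nat_lit 2),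
  Rule.mk (nat_lit 2) (nat_lit 94) (Steps.bwd (nat_lit 3) (Steps.fwd (nat_lit 16384) (Steps.fwd (nat_lit 16384) (Steps.bwd (nat_lit 4) (Steps.bwd (nat_lit 2) Steps.nil))))) (nat_lit 7) (nat_lit 3),
  Rule.mk (nat_lit 15) (nat_lit 126) (Steps.bwd (nat_lit 3) (Steps.bwd (nat_lit 10) (Steps.fwd (nat_lit 90112) (Steps.fwd (nat_lit 139264) (Steps.bwd (nat_lit 15) (Steps.fwd (nat_lit 114688) (Steps.bwd (nat_lit 4) Steps.nil))))))) (nat_lit 53) (nat_lit 7),
  Rule.mk (nat_lit 11) (nat_lit 126) (Steps.bwd (nat_lit 4) (Steps.fwd (nat_lit 122880) (Steps.bwd (nat_lit 3) (Steps.bwd (nat_lit 14) (Steps.fwd (nat_lit 122880) (Steps.fwd (nat_lit 131072) (Steps.fwd (nat_lit 81920) Steps.nil))))))) (nat_lit 52) (nat_lit 0),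
  Rule.mk (nat_lit 18) (nat_lit 110) (Steps.bwd (nat_lit 9) (Steps.bwd (nat_lit 16) (Steps.fwd (nat_lit 81920) (Steps.fwd (nat_lit 122880) (Steps.fwd (nat_lit 81920) (Steps.fwd (nat_lit 73728) Steps.nil)))))) (nat_lit 66) (nat_lit 2),
  Rule.mk (nat_lit 3) (nat_lit 110) (Steps.bwd (nat_lit 9) (Steps.bwd (nat_lit 16) (Steps.fwd (nat_lit 139264) (Steps.fwd (nat_lit 122880) (Steps.bwd (nat_lit 11) (Steps.fwd (nat_lit 73728) Steps.nil)))))) (nat_lit 70) (nat_lit 2),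
  Rule.mk (nat_lit 12) (nat_lit 190) (Steps.bwd (nat_lit 9) (Steps.fwd (nat_lit 98304) (Steps.fwd (nat_lit 73728) (Steps.fwd (nat_lit 106496) (Steps.bwd (nat_lit 17) (Steps.bwd (nat_lit 1) (Steps.fwd (nat_lit 122880) (Steps.bwd (nat_lit 1) (Steps.fwd (nat_lit 16384) (Steps.bwd (nat_lit 1) (Steps.fwd (nat_lit 73728) Steps.nil))))))))))) (nat_lit 74) (nat_lit 2),
  Rule.mk (nat_lit 3) (nat_lit 110) (Steps.bwd (nat_lit 3) (Steps.bwd (nat_lit 15) (Steps.fwd (nat_lit 139264) (Steps.bwd (nat_lit 9) (Steps.fwd (nat_lit 131072) (Steps.fwd (nat_lit 73728) Steps.nil)))))) (nat_lit 65) (nat_lit 1),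
  Rule.mk (nat_lit 12) (nat_lit 126) (Steps.bwd (nat_lit 3) (Steps.fwd (nat_lit 139264) (Steps.fwd (nat_lit 90112) (Steps.fwd (nat_lit 139264) (Steps.fwd (nat_lit 114688) (Steps.bwd (nat_lit 13) (Steps.bwd (nat_lit 4) Steps.nil))))))) (nat_lit 50) (nat_lit 2),
  Rule.mk (nat_lit 10) (nat_lit 78) (Steps.fwd (nat_lit 155648) (Steps.bwd (nat_lit 13) (Steps.bwd (nat_lit 11) (Steps.bwd (nat_lit 12) Steps.nil)))) (nat_lit 18) (nat_lit 0),
  Rule.mk (nat_lit 17) (nat_lit 126) (Steps.bwd (nat_lit 4) (Steps.bwd (nat_lit 13) (Steps.fwd (nat_lit 32768) (Steps.fwd (nat_lit 106496) (Steps.bwd (nat_lit 14) (Steps.fwd (nat_lit 131072) (Steps.bwd (nat_lit 11) Steps.nil))))))) (nat_lit 51) (nat_lit 5),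
  Rule.mk (nat_lit 11) (nat_lit 126) (Steps.bwd (nat_lit 4) (Steps.bwd (nat_lit 14) (Steps.fwd (nat_lit 32768) (Steps.fwd (nat_lit 122880) (Steps.fwd (nat_lit 122880) (Steps.bwd (nat_lit 17) (Steps.bwd (nat_lit 11) Steps.nil))))))) (nat_lit 52) (nat_lit 0)]
noncomputable def R_50 : List (Rule) := [Rule.mk (nat_lit 9) (nat_lit 270) (Steps.bwd (nat_lit 4) (Steps.fwd (nat_lit 106496) (Steps.fwd (nat_lit 8192) (Steps.bwd (nat_lit 9) (Steps.fwd (nat_lit 8192) (Steps.bwd (nat_lit 9) (Steps.fwd (nat_lit 8192) (Steps.fwd (nat_lit 155648) (Steps.bwd (nat_lit 16) (Steps.fwd (nat_lit 90112) (Steps.bwd (nat_lit 3) (Steps.fwd (nat_lit 16384) (Steps.bwd (nat_lit 4) (Steps.bwd (nat_lit 4) (Steps.fwd (nat_lit 8192) (Steps.bwd (nat_lit 7) Steps.nil)))))))))))))))) (nat_lit 76) (nat_lit 2),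
  Rule.mk (nat_lit 3) (nat_lit 110) (Steps.fwd (nat_lit 32768) (Steps.bwd (nat_lit 15) (Steps.fwd (nat_lit 139264) (Steps.bwd (nat_lit 9) (Steps.bwd (nat_lit 17) (Steps.fwd (nat_lit 73728) Steps.nil)))))) (nat_lit 65) (nat_lit 1),
  Rule.mk (nat_lit 8) (nat_lit 94) (Steps.bwd (nat_lit 1) (Steps.bwd (nat_lit 1) (Steps.fwd (nat_lit 16384) (Steps.bwd (nat_lit 1) (Steps.fwd (nat_lit 57344) Steps.nil))))) (nat_lit 79) (nat_lit 0),
  Rule.mk (nat_lit 15) (nat_lit 126) (Steps.bwd (nat_lit 13) (Steps.fwd (nat_lit 24576) (Steps.bwd (nat_lit 12) (Steps.bwd (nat_lit 3) (Steps.fwd (nat_lit 139264) (Steps.bwd (nat_lit 10) (Steps.bwd (nat_lit 16) Steps.nil))))))) (nat_lit 50) (nat_lit 7),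
  Rule.mk (nat_lit 8) (nat_lit 94) (Steps.fwd (nat_lit 57344) (Steps.bwd (nat_lit 1) (Steps.bwd (nat_lit 1) (Steps.bwd (nat_lit 1) (Steps.bwd (nat_lit 1) Steps.nil))))) (nat_lit 79) (nat_lit 5),
  Rule.mk (nat_lit 2) (nat_lit 94) (Steps.bwd (nat_lit 7) (Steps.bwd (nat_lit 1) (Steps.bwd (nat_lit 1) (Steps.fwd (nat_lit 16384) (Steps.fwd (nat_lit 57344) Steps.nil))))) (nat_lit 83) (nat_lit 5),
  Rule.mk (nat_lit 16) (nat_lit 142) (Steps.bwd (nat_lit 1) (Steps.bwd (nat_lit 17) (Steps.fwd (nat_lit 81920) (Steps.fwd (nat_lit 131072) (Steps.fwd (nat_lit 122880) (Steps.bwd (nat_lit 12) (Steps.bwd (nat_lit 11) (Steps.bwd (nat_lit 2) Steps.nil)))))))) (nat_lit 46) (nat_lit 2),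
  Rule.mk (nat_lit 2) (nat_lit 94) (Steps.bwd (nat_lit 2) (Steps.fwd (nat_lit 24576) (Steps.fwd (nat_lit 16384) (Steps.bwd (nat_lit 1) (Steps.fwd (nat_lit 32768) Steps.nil))))) (nat_lit 6) (nat_lit 1),
  Rule.mk (nat_lit 12) (nat_lit 190) (Steps.fwd (nat_lit 73728) (Steps.fwd (nat_lit 98304) (Steps.fwd (nat_lit 73728) (Steps.bwd (nat_lit 12) (Steps.fwd (nat_lit 131072) (Steps.fwd (nat_lit 16384) (Steps.bwd (nat_lit 14) (Steps.fwd (nat_lit 16384) (Steps.fwd (nat_lit 16384) (Steps.bwd (nat_lit 1) (Steps.fwd (nat_lit 73728) Steps.nil))))))))))) (nat_lit 74) (nat_lit 2),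
  Rule.mk (nat_lit 15) (nat_lit 110) (Steps.fwd (nat_lit 16384) (Steps.bwd (nat_lit 15) (Steps.bwd (nat_lit 15) (Steps.bwd (nat_lit 10) (Steps.fwd (nat_lit 139264) (Steps.bwd (nat_lit 2) Steps.nil)))))) (nat_lit 45) (nat_lit 6),
  Rule.mk (nat_lit 16) (nat_lit 110) (Steps.bwd (nat_lit 9) (Steps.bwd (nat_lit 17) (Steps.bwd (nat_lit 14) (Steps.bwd (nat_lit 4) (Steps.bwd (nat_lit 4) (Steps.fwd (nat_lit 73728) Steps.nil)))))) (nat_lit 64) (nat_lit 2),
  Rule.mk (nat_lit 4) (nat_lit 126) (Steps.bwd (nat_lit 13) (Steps.fwd (nat_lit 32768) (Steps.bwd (nat_lit 12) (Steps.fwd (nat_lit 122880) (Steps.bwd (nat_lit 17) (Steps.fwd (nat_lit 81920) (Steps.bwd (nat_lit 17) Steps.nil))))))) (nat_lit 51) (nat_lit 6),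
  Rule.mk (nat_lit 9) (nat_lit 190) (Steps.bwd (nat_lit 13) (Steps.fwd (nat_lit 73728) (Steps.bwd (nat_lit 12) (Steps.bwd (nat_lit 17) (Steps.fwd (nat_lit 16384) (Steps.fwd (nat_lit 122880) (Steps.bwd (nat_lit 1) (Steps.fwd (nat_lit 16384) (Steps.fwd (nat_lit 16384) (Steps.fwd (nat_lit 73728) (Steps.bwd (nat_lit 12) Steps.nil))))))))))) (nat_lit 74) (nat_lit 3),
  Rule.mk (nat_lit 18) (nat_lit 110) (Steps.bwd (nat_lit 9) (Steps.bwd (nat_lit 16) (Steps.fwd (nat_lit 81920) (Steps.fwd (nat_lit 122880) (Steps.fwd (nat_lit 81920) (Steps.bwd (nat_lit 9) Steps.nil)))))) (nat_lit 66) (nat_lit 2),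
  Rule.mk (nat_lit 10) (nat_lit 94) (Steps.bwd (nat_lit 18) (Steps.fwd (nat_lit 155648) (Steps.fwd (nat_lit 131072) (Steps.bwd (nat_lit 11) (Steps.fwd (nat_lit 139264) Steps.nil))))) (nat_lit 35) (nat_lit 0),
  Rule.mk (nat_lit 2) (nat_lit 126) (Steps.bwd (nat_lit 2) (Steps.fwd (nat_lit 8192) (Steps.bwd (nat_lit 2) (Steps.bwd (nat_lit 2) (Steps.bwd (nat_lit 2) (Steps.fwd (nat_lit 8192) (Steps.bwd (nat_lit 2) Steps.nil))))))) (nat_lit 1) (nat_lit 0),
  Rule.mk (nat_lit 16) (nat_lit 142) (Steps.fwd (nat_lit 16384) (Steps.bwd (nat_lit 17) (Steps.bwd (nat_lit 11) (Steps.fwd (nat_lit 131072) (Steps.bwd (nat_lit 14) (Steps.fwd (nat_lit 106496) (Steps.bwd (nat_lit 11) (Steps.fwd (nat_lit 8192) Steps.nil)))))))) (nat_lit 46) (nat_lit 2),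
  Rule.mk (nat_lit 1) (nat_lit 94) (Steps.bwd (nat_lit 4) (Steps.bwd (nat_lit 2) (Steps.bwd (nat_lit 2) (Steps.fwd (nat_lit 32768) (Steps.fwd (nat_lit 16384) Steps.nil))))) (nat_lit 7) (nat_lit 0),
  Rule.mk (nat_lit 11) (nat_lit 126) (Steps.bwd (nat_lit 4) (Steps.fwd (nat_lit 122880) (Steps.fwd (nat_lit 32768) (Steps.bwd (nat_lit 14) (Steps.fwd (nat_lit 122880) (Steps.bwd (nat_lit 17) (Steps.bwd (nat_lit 11) Steps.nil))))))) (nat_lit 52) (nat_lit 0),
  Rule.mk (nat_lit 1) (nat_lit 142) (Steps.fwd (nat_lit 131072) (Steps.bwd (nat_lit 11) (Steps.bwd (nat_lit 17) (Steps.bwd (nat_lit 14) (Steps.fwd (nat_lit 106496) (Steps.bwd (nat_lit 11) (Steps.fwd (nat_lit 8192) (Steps.fwd (nat_lit 139264) Steps.nil)))))))) (nat_lit 46) (nat_lit 3),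
  Rule.mk (nat_lit 1) (nat_lit 94) (Steps.bwd (nat_lit 8) (Steps.bwd (nat_lit 8) (Steps.bwd (nat_lit 1) (Steps.bwd (nat_lit 1) (Steps.fwd (nat_lit 16384) Steps.nil))))) (nat_lit 79) (nat_lit 4),
  Rule.mk (nat_lit 4) (nat_lit 94) (Steps.bwd (nat_lit 2) (Steps.bwd (nat_lit 2) (Steps.fwd (nat_lit 32768) (Steps.fwd (nat_lit 16384) (Steps.bwd (nat_lit 1) Steps.nil))))) (nat_lit 7) (nat_lit 1),
  Rule.mk (nat_lit 11) (nat_lit 126) (Steps.bwd (nat_lit 17) (Steps.fwd (nat_lit 24576) (Steps.bwd (nat_lit 13) (Steps.bwd (nat_lit 3) (Steps.fwd (nat_lit 106496) (Steps.bwd (nat_lit 14) (Steps.fwd (nat_lit 131072) Steps.nil))))))) (nat_lit 51) (nat_lit 4),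
  Rule.mk (nat_lit 9) (nat_lit 110) (Steps.fwd (nat_lit 139264) (Steps.bwd (nat_lit 16) (Steps.fwd (nat_lit 122880) (Steps.fwd (nat_lit 81920) (Steps.bwd (nat_lit 9) (Steps.bwd (nat_lit 3) Steps.nil)))))) (nat_lit 70) (nat_lit 3),
  Rule.mk (nat_lit 3) (nat_lit 126) (Steps.bwd (nat_lit 16) (Steps.bwd (nat_lit 10) (Steps.fwd (nat_lit 139264) (Steps.fwd (nat_lit 114688) (Steps.fwd (nat_lit 98304) (Steps.bwd (nat_lit 4) (Steps.fwd (nat_lit 106496) Steps.nil))))))) (nat_lit 50) (nat_lit 3),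
  Rule.mk (nat_lit 2) (nat_lit 94) (Steps.bwd (nat_lit 2) (Steps.fwd (nat_lit 24576) (Steps.bwd (nat_lit 1) (Steps.fwd (nat_lit 16384) (Steps.bwd (nat_lit 3) Steps.nil))))) (nat_lit 6) (nat_lit 1),
  Rule.mk (nat_lit 10) (nat_lit 110) (Steps.bwd (nat_lit 4) (Steps.fwd (nat_lit 114688) (Steps.bwd (nat_lit 4) (Steps.fwd (nat_lit 73728) (Steps.bwd (nat_lit 10) (Steps.bwd (nat_lit 9) Steps.nil)))))) (nat_lit 60) (nat_lit 4),
  Rule.mk (nat_lit 17) (nat_lit 126) (Steps.bwd (nat_lit 4) (Steps.fwd (nat_lit 98304) (Steps.bwd (nat_lit 3) (Steps.fwd (nat_lit 106496) (Steps.bwd (nat_lit 14) (Steps.fwd (nat_lit 131072) (Steps.bwd (nat_lit 11) Steps.nil))))))) (nat_lit 51) (nat_lit 5),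
  Rule.mk (nat_lit 9) (nat_lit 110) (Steps.fwd (nat_lit 155648) (Steps.fwd (nat_lit 73728) (Steps.fwd (nat_lit 139264) (Steps.fwd (nat_lit 81920) (Steps.bwd (nat_lit 14) (Steps.bwd (nat_lit 11) Steps.nil)))))) (nat_lit 66) (nat_lit 1),
  Rule.mk (nat_lit 13) (nat_lit 158) (Steps.bwd (nat_lit 2) (Steps.bwd (nat_lit 4) (Steps.fwd (nat_lit 24576) (Steps.bwd (nat_lit 9) (Steps.bwd (nat_lit 14) (Steps.bwd (nat_lit 9) (Steps.fwd (nat_lit 16384) (Steps.fwd (nat_lit 139264) (Steps.bwd (nat_lit 10) Steps.nil))))))))) (nat_lit 62) (nat_lit 7),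
  Rule.mk (nat_lit 16) (nat_lit 110) (Steps.bwd (nat_lit 9) (Steps.fwd (nat_lit 131072) (Steps.fwd (nat_lit 122880) (Steps.fwd (nat_lit 24576) (Steps.fwd (nat_lit 24576) (Steps.fwd (nat_lit 73728) Steps.nil)))))) (nat_lit 64) (nat_lit 2),
  Rule.mk (nat_lit 11) (nat_lit 110) (Steps.bwd (nat_lit 9) (Steps.bwd (nat_lit 18) (Steps.bwd (nat_lit 9) (Steps.fwd (nat_lit 139264) (Steps.bwd (nat_lit 11) (Steps.bwd (nat_lit 14) Steps.nil)))))) (nat_lit 66) (nat_lit 0),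
  Rule.mk (nat_lit 1) (nat_lit 110) (Steps.fwd (nat_lit 131072) (Steps.bwd (nat_lit 11) (Steps.bwd (nat_lit 14) (Steps.bwd (nat_lit 14) (Steps.bwd (nat_lit 2) (Steps.fwd (nat_lit 122880) Steps.nil)))))) (nat_lit 44) (nat_lit 3),
  Rule.mk (nat_lit 9) (nat_lit 270) (Steps.fwd (nat_lit 24576) (Steps.bwd (nat_lit 12) (Steps.bwd (nat_lit 2) (Steps.fwd (nat_lit 73728) (Steps.fwd (nat_lit 8192) (Steps.fwd (nat_lit 73728) (Steps.bwd (nat_lit 2) (Steps.fwd (nat_lit 155648) (Steps.bwd (nat_lit 16) (Steps.bwd (nat_lit 10) (Steps.bwd (nat_lit 3) (Steps.fwd (nat_lit 16384) (Steps.bwd (nat_lit 4) (Steps.fwd (nat_lit 24576) (Steps.bwd (nat_lit 2) (Steps.bwd (nat_lit 7) Steps.nil)))))))))))))))) (nat_lit 76) (nat_lit 2),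
  Rule.mk (nat_lit 2) (nat_lit 78) (Steps.fwd (nat_lit 106496) (Steps.bwd (nat_lit 1) (Steps.bwd (nat_lit 10) (Steps.fwd (nat_lit 90112) Steps.nil)))) (nat_lit 42) (nat_lit 1),
  Rule.mk (nat_lit 1) (nat_lit 94) (Steps.fwd (nat_lit 24576) (Steps.fwd (nat_lit 8192) (Steps.bwd (nat_lit 2) (Steps.fwd (nat_lit 32768) (Steps.bwd (nat_lit 1) Steps.nil))))) (nat_lit 7) (nat_lit 0),
  Rule.mk (nat_lit 8) (nat_lit 94) (Steps.fwd (nat_lit 8192) (Steps.bwd (nat_lit 7) (Steps.fwd (nat_lit 16384) (Steps.bwd (nat_lit 1) (Steps.bwd (nat_lit 1) Steps.nil))))) (nat_lit 83) (nat_lit 4),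
  Rule.mk (nat_lit 10) (nat_lit 110) (Steps.bwd (nat_lit 16) (Steps.fwd (nat_lit 8192) (Steps.bwd (nat_lit 15) (Steps.bwd (nat_lit 1) (Steps.fwd (nat_lit 114688) (Steps.bwd (nat_lit 15) Steps.nil)))))) (nat_lit 45) (nat_lit 3),
  Rule.mk (nat_lit 7) (nat_lit 94) (Steps.bwd (nat_lit 2) (Steps.bwd (nat_lit 2) (Steps.bwd (nat_lit 2) (Steps.fwd (nat_lit 57344) (Steps.bwd (nat_lit 1) Steps.nil))))) (nat_lit 82) (nat_lit 3),
  Rule.mk (nat_lit 15) (nat_lit 110) (Steps.fwd (nat_lit 16384) (Steps.bwd (nat_lit 15) (Steps.fwd (nat_lit 114688) (Steps.fwd (nat_lit 90112) (Steps.fwd (nat_lit 139264) (Steps.bwd (nat_lit 2) Steps.nil)))))) (nat_lit 45) (nat_lit 6),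
  Rule.mk (nat_lit 10) (nat_lit 110) (Steps.bwd (nat_lit 4) (Steps.fwd (nat_lit 114688) (Steps.bwd (nat_lit 4) (Steps.bwd (nat_lit 9) (Steps.bwd (nat_lit 10) (Steps.bwd (nat_lit 9) Steps.nil)))))) (nat_lit 60) (nat_lit 4),
  Rule.mk (nat_lit 15) (nat_lit 110) (Steps.bwd (nat_lit 10) (Steps.bwd (nat_lit 17) (Steps.bwd (nat_lit 9) (Steps.bwd (nat_lit 19) (Steps.fwd (nat_lit 73728) (Steps.bwd (nat_lit 10) Steps.nil)))))) (nat_lit 67) (nat_lit 2),
  Rule.mk (nat_lit 15) (nat_lit 126) (Steps.fwd (nat_lit 24576) (Steps.bwd (nat_lit 15) (Steps.bwd (nat_lit 3) (Steps.fwd (nat_lit 90112) (Steps.bwd (nat_lit 10) (Steps.bwd (nat_lit 16) (Steps.bwd (nat_lit 15) Steps.nil))))))) (nat_lit 53) (nat_lit 5),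
  Rule.mk (nat_lit 2) (nat_lit 94) (Steps.bwd (nat_lit 7) (Steps.fwd (nat_lit 16384) (Steps.fwd (nat_lit 16384) (Steps.bwd (nat_lit 1) (Steps.fwd (nat_lit 57344) Steps.nil))))) (nat_lit 83) (nat_lit 5),
  Rule.mk (nat_lit 8) (nat_lit 94) (Steps.bwd (nat_lit 2) (Steps.bwd (nat_lit 7) (Steps.bwd (nat_lit 1) (Steps.fwd (nat_lit 16384) (Steps.fwd (nat_lit 16384) Steps.nil))))) (nat_lit 83) (nat_lit 4),
  Rule.mk (nat_lit 18) (nat_lit 126) (Steps.bwd (nat_lit 7) (Steps.bwd (nat_lit 19) (Steps.bwd (nat_lit 7) (Steps.bwd (nat_lit 18) (Steps.bwd (nat_lit 2) (Steps.fwd (nat_lit 8192) (Steps.bwd (nat_lit 7) Steps.nil))))))) (nat_lit 86) (nat_lit 2),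
  Rule.mk (nat_lit 0) (nat_lit 78) (Steps.bwd (nat_lit 7) (Steps.fwd (nat_lit 32768) (Steps.fwd (nat_lit 57344) (Steps.fwd (nat_lit 24576) Steps.nil)))) (nat_lit 81) (nat_lit 2),
  Rule.mk (nat_lit 1) (nat_lit 94) (Steps.bwd (nat_lit 8) (Steps.fwd (nat_lit 8192) (Steps.bwd (nat_lit 7) (Steps.fwd (nat_lit 16384) (Steps.bwd (nat_lit 1) Steps.nil))))) (nat_lit 83) (nat_lit 3),
  Rule.mk (nat_lit 3) (nat_lit 62) (Steps.fwd (nat_lit 65536) (Steps.fwd (nat_lit 24576) (Steps.bwd (nat_lit 8) Steps.nil))) (nat_lit 80) (nat_lit 3),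
  Rule.mk (nat_lit 1) (nat_lit 94) (Steps.fwd (nat_lit 16384) (Steps.bwd (nat_lit 1) (Steps.bwd (nat_lit 1) (Steps.bwd (nat_lit 8) (Steps.fwd (nat_lit 57344) Steps.nil))))) (nat_lit 79) (nat_lit 1),
  Rule.mk (nat_lit 0) (nat_lit 78) (Steps.bwd (nat_lit 8) (Steps.fwd (nat_lit 32768) (Steps.fwd (nat_lit 65536) (Steps.bwd (nat_lit 4) Steps.nil)))) (nat_lit 80) (nat_lit 1),
  Rule.mk (nat_lit 0) (nat_lit 110) (Steps.bwd (nat_lit 1) (Steps.fwd (nat_lit 65536) (Steps.fwd (nat_lit 8192) (Steps.fwd (nat_lit 8192) (Steps.bwd (nat_lit 2) (Steps.fwd (nat_lit 57344) Steps.nil)))))) (nat_lit 82) (nat_lit 1),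
  Rule.mk (nat_lit 1) (nat_lit 94) (Steps.fwd (nat_lit 16384) (Steps.fwd (nat_lit 32768) (Steps.bwd (nat_lit 2) (Steps.bwd (nat_lit 2) (Steps.bwd (nat_lit 4) Steps.nil))))) (nat_lit 6) (nat_lit 4),
  Rule.mk (nat_lit 9) (nat_lit 110) (Steps.bwd (nat_lit 16) (Steps.bwd (nat_lit 9) (Steps.fwd (nat_lit 131072) (Steps.fwd (nat_lit 122880) (Steps.bwd (nat_lit 4) (Steps.bwd (nat_lit 4) Steps.nil)))))) (nat_lit 64) (nat_lit 1),
  Rule.mk (nat_lit 11) (nat_lit 110) (Steps.fwd (nat_lit 73728) (Steps.bwd (nat_lit 11) (Steps.bwd (nat_lit 9) (Steps.bwd (nat_lit 3) (Steps.bwd (nat_lit 14) (Steps.bwd (nat_lit 3) Steps.nil)))))) (nat_lit 61) (nat_lit 4),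
  Rule.mk (nat_lit 9) (nat_lit 110) (Steps.bwd (nat_lit 11) (Steps.fwd (nat_lit 73728) (Steps.bwd (nat_lit 3) (Steps.bwd (nat_lit 14) (Steps.bwd (nat_lit 3) (Steps.fwd (nat_lit 81920) Steps.nil)))))) (nat_lit 61) (nat_lit 5),
  Rule.mk (nat_lit 17) (nat_lit 110) (Steps.bwd (nat_lit 9) (Steps.fwd (nat_lit 32768) (Steps.fwd (nat_lit 32768) (Steps.fwd (nat_lit 114688) (Steps.bwd (nat_lit 16) (Steps.bwd (nat_lit 9) Steps.nil)))))) (nat_lit 65) (nat_lit 6),
  Rule.mk (nat_lit 4) (nat_lit 110) (Steps.bwd (nat_lit 9) (Steps.bwd (nat_lit 10) (Steps.fwd (nat_lit 73728) (Steps.fwd (nat_lit 90112) (Steps.fwd (nat_lit 24576) (Steps.bwd (nat_lit 15) Steps.nil)))))) (nat_lit 60) (nat_lit 0),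
  Rule.mk (nat_lit 11) (nat_lit 110) (Steps.bwd (nat_lit 9) (Steps.fwd (nat_lit 81920) (Steps.bwd (nat_lit 9) (Steps.bwd (nat_lit 3) (Steps.bwd (nat_lit 14) (Steps.bwd (nat_lit 3) Steps.nil)))))) (nat_lit 61) (nat_lit 4),
  Rule.mk (nat_lit 18) (nat_lit 110) (Steps.bwd (nat_lit 9) (Steps.fwd (nat_lit 139264) (Steps.bwd (nat_lit 11) (Steps.bwd (nat_lit 14) (Steps.bwd (nat_lit 11) (Steps.fwd (nat_lit 73728) Steps.nil)))))) (nat_lit 66) (nat_lit 2),
  Rule.mk (nat_lit 15) (nat_lit 158) (Steps.bwd (nat_lit 9) (Steps.bwd (nat_lit 3) (Steps.fwd (nat_lit 32768) (Steps.bwd (nat_lit 1) (Steps.bwd (nat_lit 12) (Steps.bwd (nat_lit 11) (Steps.bwd (nat_lit 17) (Steps.fwd (nat_lit 8192) (Steps.fwd (nat_lit 73728) Steps.nil))))))))) (nat_lit 63) (nat_lit 9),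
  Rule.mk (nat_lit 2) (nat_lit 206) (Steps.bwd (nat_lit 9) (Steps.fwd (nat_lit 16384) (Steps.fwd (nat_lit 16384) (Steps.bwd (nat_lit 9) (Steps.bwd (nat_lit 16) (Steps.fwd (nat_lit 147456) (Steps.bwd (nat_lit 11) (Steps.bwd (nat_lit 2) (Steps.fwd (nat_lit 32768) (Steps.bwd (nat_lit 2) (Steps.bwd (nat_lit 4) (Steps.fwd (nat_lit 24576) Steps.nil)))))))))))) (nat_lit 68) (nat_lit 0),
  Rule.mk (nat_lit 2) (nat_lit 206) (Steps.bwd (nat_lit 2) (Steps.bwd (nat_lit 9) (Steps.fwd (nat_lit 16384) (Steps.bwd (nat_lit 3) (Steps.bwd (nat_lit 3) (Steps.fwd (nat_lit 16384) (Steps.fwd (nat_lit 24576) (Steps.fwd (nat_lit 16384) (Steps.bwd (nat_lit 10) (Steps.bwd (nat_lit 18) (Steps.bwd (nat_lit 17) (Steps.fwd (nat_lit 73728) Steps.nil)))))))))))) (nat_lit 69) (nat_lit 11),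
  Rule.mk (nat_lit 12) (nat_lit 62) (Steps.fwd (nat_lit 147456) (Steps.bwd (nat_lit 13) (Steps.fwd (nat_lit 155648) Steps.nil))) (nat_lit 27) (nat_lit 0)]
noncomputable def R_51 : List (Rule) := [Rule.mk (nat_lit 8) (nat_lit 62) (Steps.fwd (nat_lit 32768) (Steps.bwd (nat_lit 7) (Steps.fwd (nat_lit 24576) Steps.nil))) (nat_lit 80) (nat_lit 2),
  Rule.mk (nat_lit 0) (nat_lit 78) (Steps.bwd (nat_lit 7) (Steps.fwd (nat_lit 32768) (Steps.fwd (nat_lit 57344) (Steps.bwd (nat_lit 4) Steps.nil)))) (nat_lit 81) (nat_lit 2),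
  Rule.mk (nat_lit 0) (nat_lit 78) (Steps.bwd (nat_lit 8) (Steps.fwd (nat_lit 24576) (Steps.bwd (nat_lit 7) (Steps.fwd (nat_lit 32768) Steps.nil)))) (nat_lit 81) (nat_lit 0),
  Rule.mk (nat_lit 17) (nat_lit 110) (Steps.bwd (nat_lit 9) (Steps.bwd (nat_lit 3) (Steps.fwd (nat_lit 32768) (Steps.fwd (nat_lit 114688) (Steps.fwd (nat_lit 139264) (Steps.bwd (nat_lit 9) Steps.nil)))))) (nat_lit 65) (nat_lit 6),
  Rule.mk (nat_lit 9) (nat_lit 190) (Steps.bwd (nat_lit 13) (Steps.fwd (nat_lit 73728) (Steps.fwd (nat_lit 8192) (Steps.fwd (nat_lit 8192) (Steps.bwd (nat_lit 2) (Steps.fwd (nat_lit 114688) (Steps.bwd (nat_lit 2) (Steps.fwd (nat_lit 139264) (Steps.bwd (nat_lit 13) (Steps.bwd (nat_lit 9) (Steps.bwd (nat_lit 12) Steps.nil))))))))))) (nat_lit 75) (nat_lit 10),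
  Rule.mk (nat_lit 16) (nat_lit 110) (Steps.bwd (nat_lit 9) (Steps.bwd (nat_lit 17) (Steps.bwd (nat_lit 14) (Steps.fwd (nat_lit 24576) (Steps.bwd (nat_lit 4) (Steps.bwd (nat_lit 9) Steps.nil)))))) (nat_lit 64) (nat_lit 2),
  Rule.mk (nat_lit 1) (nat_lit 94) (Steps.bwd (nat_lit 7) (Steps.bwd (nat_lit 2) (Steps.fwd (nat_lit 8192) (Steps.bwd (nat_lit 2) (Steps.bwd (nat_lit 8) Steps.nil))))) (nat_lit 82) (nat_lit 2),
  Rule.mk (nat_lit 8) (nat_lit 126) (Steps.bwd (nat_lit 1) (Steps.bwd (nat_lit 1) (Steps.bwd (nat_lit 19) (Steps.bwd (nat_lit 8) (Steps.bwd (nat_lit 18) (Steps.bwd (nat_lit 8) (Steps.bwd (nat_lit 19) Steps.nil))))))) (nat_lit 87) (nat_lit 0),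
  Rule.mk (nat_lit 10) (nat_lit 78) (Steps.fwd (nat_lit 90112) (Steps.fwd (nat_lit 8192) (Steps.fwd (nat_lit 106496) (Steps.bwd (nat_lit 1) Steps.nil)))) (nat_lit 42) (nat_lit 4),
  Rule.mk (nat_lit 14) (nat_lit 94) (Steps.bwd (nat_lit 10) (Steps.bwd (nat_lit 19) (Steps.fwd (nat_lit 147456) (Steps.bwd (nat_lit 15) (Steps.bwd (nat_lit 11) Steps.nil))))) (nat_lit 33) (nat_lit 5),
  Rule.mk (nat_lit 9) (nat_lit 110) (Steps.bwd (nat_lit 10) (Steps.bwd (nat_lit 9) (Steps.fwd (nat_lit 90112) (Steps.bwd (nat_lit 4) (Steps.bwd (nat_lit 15) (Steps.bwd (nat_lit 4) Steps.nil)))))) (nat_lit 60) (nat_lit 1),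
  Rule.mk (nat_lit 4) (nat_lit 110) (Steps.bwd (nat_lit 9) (Steps.bwd (nat_lit 10) (Steps.bwd (nat_lit 15) (Steps.fwd (nat_lit 131072) (Steps.fwd (nat_lit 131072) (Steps.bwd (nat_lit 9) Steps.nil)))))) (nat_lit 71) (nat_lit 6),
  Rule.mk (nat_lit 17) (nat_lit 158) (Steps.bwd (nat_lit 2) (Steps.bwd (nat_lit 9) (Steps.fwd (nat_lit 114688) (Steps.bwd (nat_lit 9) (Steps.fwd (nat_lit 32768) (Steps.bwd (nat_lit 3) (Steps.fwd (nat_lit 16384) (Steps.fwd (nat_lit 106496) (Steps.bwd (nat_lit 11) Steps.nil))))))))) (nat_lit 63) (nat_lit 6),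
  Rule.mk (nat_lit 9) (nat_lit 110) (Steps.fwd (nat_lit 24576) (Steps.fwd (nat_lit 73728) (Steps.fwd (nat_lit 90112) (Steps.fwd (nat_lit 114688) (Steps.fwd (nat_lit 131072) (Steps.bwd (nat_lit 17) Steps.nil)))))) (nat_lit 71) (nat_lit 5),
  Rule.mk (nat_lit 13) (nat_lit 126) (Steps.bwd (nat_lit 3) (Steps.bwd (nat_lit 12) (Steps.fwd (nat_lit 122880) (Steps.fwd (nat_lit 131072) (Steps.fwd (nat_lit 81920) (Steps.bwd (nat_lit 17) (Steps.bwd (nat_lit 4) Steps.nil))))))) (nat_lit 51) (nat_lit 7),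
  Rule.mk (nat_lit 0) (nat_lit 78) (Steps.fwd (nat_lit 16384) (Steps.bwd (nat_lit 13) (Steps.fwd (nat_lit 8192) (Steps.fwd (nat_lit 49152) Steps.nil)))) (nat_lit 13) (nat_lit 2),
  Rule.mk (nat_lit 1) (nat_lit 46) (Steps.bwd (nat_lit 0) (Steps.bwd (nat_lit 2) Steps.nil)) (nat_lit 88) (nat_lit 0),
  Rule.mk (nat_lit 9) (nat_lit 110) (Steps.bwd (nat_lit 3) (Steps.fwd (nat_lit 32768) (Steps.fwd (nat_lit 114688) (Steps.bwd (nat_lit 16) (Steps.fwd (nat_lit 73728) (Steps.fwd (nat_lit 131072) Steps.nil)))))) (nat_lit 65) (nat_lit 0),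
  Rule.mk (nat_lit 17) (nat_lit 110) (Steps.bwd (nat_lit 9) (Steps.fwd (nat_lit 32768) (Steps.bwd (nat_lit 3) (Steps.bwd (nat_lit 15) (Steps.bwd (nat_lit 16) (Steps.bwd (nat_lit 9) Steps.nil)))))) (nat_lit 65) (nat_lit 6),
  Rule.mk (nat_lit 13) (nat_lit 190) (Steps.bwd (nat_lit 9) (Steps.fwd (nat_lit 8192) (Steps.fwd (nat_lit 8192) (Steps.bwd (nat_lit 2) (Steps.fwd (nat_lit 114688) (Steps.fwd (nat_lit 8192) (Steps.fwd (nat_lit 139264) (Steps.bwd (nat_lit 13) (Steps.bwd (nat_lit 9) (Steps.fwd (nat_lit 106496) (Steps.bwd (nat_lit 9) Steps.nil))))))))))) (nat_lit 75) (nat_lit 11),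
  Rule.mk (nat_lit 18) (nat_lit 206) (Steps.bwd (nat_lit 17) (Steps.bwd (nat_lit 9) (Steps.bwd (nat_lit 2) (Steps.bwd (nat_lit 2) (Steps.fwd (nat_lit 73728) (Steps.bwd (nat_lit 1) (Steps.bwd (nat_lit 3) (Steps.fwd (nat_lit 32768) (Steps.fwd (nat_lit 16384) (Steps.fwd (nat_lit 24576) (Steps.fwd (nat_lit 16384) (Steps.bwd (nat_lit 10) Steps.nil)))))))))))) (nat_lit 69) (nat_lit 8),
  Rule.mk (nat_lit 10) (nat_lit 142) (Steps.bwd (nat_lit 13) (Steps.bwd (nat_lit 15) (Steps.fwd (nat_lit 139264) (Steps.bwd (nat_lit 10) (Steps.bwd (nat_lit 16) (Steps.fwd (nat_lit 8192) (Steps.fwd (nat_lit 131072) (Steps.bwd (nat_lit 1) Steps.nil)))))))) (nat_lit 47) (nat_lit 1),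
  Rule.mk (nat_lit 2) (nat_lit 126) (Steps.bwd (nat_lit 2) (Steps.fwd (nat_lit 8192) (Steps.fwd (nat_lit 8192) (Steps.fwd (nat_lit 8192) (Steps.fwd (nat_lit 8192) (Steps.bwd (nat_lit 2) (Steps.bwd (nat_lit 2) Steps.nil))))))) (nat_lit 1) (nat_lit 0),
  Rule.mk (nat_lit 8) (nat_lit 94) (Steps.bwd (nat_lit 1) (Steps.bwd (nat_lit 7) (Steps.bwd (nat_lit 2) (Steps.bwd (nat_lit 2) (Steps.bwd (nat_lit 2) Steps.nil))))) (nat_lit 82) (nat_lit 1),
  Rule.mk (nat_lit 14) (nat_lit 126) (Steps.bwd (nat_lit 3) (Steps.fwd (nat_lit 122880) (Steps.fwd (nat_lit 122880) (Steps.bwd (nat_lit 17) (Steps.fwd (nat_lit 81920) (Steps.bwd (nat_lit 11) (Steps.bwd (nat_lit 4) Steps.nil))))))) (nat_lit 52) (nat_lit 2),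
  Rule.mk (nat_lit 1) (nat_lit 94) (Steps.bwd (nat_lit 7) (Steps.bwd (nat_lit 2) (Steps.bwd (nat_lit 2) (Steps.bwd (nat_lit 2) (Steps.fwd (nat_lit 57344) Steps.nil))))) (nat_lit 82) (nat_lit 2),
  Rule.mk (nat_lit 1) (nat_lit 94) (Steps.bwd (nat_lit 1) (Steps.bwd (nat_lit 3) (Steps.fwd (nat_lit 8192) (Steps.fwd (nat_lit 8192) (Steps.bwd (nat_lit 4) Steps.nil))))) (nat_lit 6) (nat_lit 4),
  Rule.mk (nat_lit 1) (nat_lit 94) (Steps.bwd (nat_lit 8) (Steps.bwd (nat_lit 2) (Steps.bwd (nat_lit 7) (Steps.bwd (nat_lit 1) (Steps.bwd (nat_lit 1) Steps.nil))))) (nat_lit 83) (nat_lit 3),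
  Rule.mk (nat_lit 1) (nat_lit 94) (Steps.bwd (nat_lit 1) (Steps.bwd (nat_lit 1) (Steps.bwd (nat_lit 1) (Steps.bwd (nat_lit 8) (Steps.fwd (nat_lit 57344) Steps.nil))))) (nat_lit 79) (nat_lit 1),
  Rule.mk (nat_lit 1) (nat_lit 94) (Steps.bwd (nat_lit 8) (Steps.fwd (nat_lit 57344) (Steps.bwd (nat_lit 1) (Steps.bwd (nat_lit 1) (Steps.bwd (nat_lit 1) Steps.nil))))) (nat_lit 79) (nat_lit 4),
  Rule.mk (nat_lit 14) (nat_lit 110) (Steps.bwd (nat_lit 1) (Steps.bwd (nat_lit 17) (Steps.bwd (nat_lit 11) (Steps.bwd (nat_lit 14) (Steps.bwd (nat_lit 14) (Steps.fwd (nat_lit 8192) Steps.nil)))))) (nat_lit 44) (nat_lit 2),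
  Rule.mk (nat_lit 16) (nat_lit 142) (Steps.bwd (nat_lit 1) (Steps.bwd (nat_lit 17) (Steps.bwd (nat_lit 11) (Steps.fwd (nat_lit 131072) (Steps.fwd (nat_lit 122880) (Steps.bwd (nat_lit 12) (Steps.fwd (nat_lit 81920) (Steps.fwd (nat_lit 8192) Steps.nil)))))))) (nat_lit 46) (nat_lit 2),
  Rule.mk (nat_lit 11) (nat_lit 94) (Steps.fwd (nat_lit 139264) (Steps.bwd (nat_lit 10) (Steps.bwd (nat_lit 18) (Steps.fwd (nat_lit 155648) (Steps.bwd (nat_lit 17) Steps.nil))))) (nat_lit 35) (nat_lit 4),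
  Rule.mk (nat_lit 11) (nat_lit 126) (Steps.bwd (nat_lit 11) (Steps.bwd (nat_lit 4) (Steps.bwd (nat_lit 14) (Steps.fwd (nat_lit 32768) (Steps.fwd (nat_lit 122880) (Steps.bwd (nat_lit 14) (Steps.fwd (nat_lit 131072) Steps.nil))))))) (nat_lit 52) (nat_lit 7),
  Rule.mk (nat_lit 15) (nat_lit 158) (Steps.bwd (nat_lit 9) (Steps.bwd (nat_lit 3) (Steps.bwd (nat_lit 3) (Steps.bwd (nat_lit 1) (Steps.bwd (nat_lit 12) (Steps.bwd (nat_lit 11) (Steps.fwd (nat_lit 131072) (Steps.fwd (nat_lit 8192) (Steps.fwd (nat_lit 73728) Steps.nil))))))))) (nat_lit 63) (nat_lit 9),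
  Rule.mk (nat_lit 17) (nat_lit 142) (Steps.bwd (nat_lit 1) (Steps.bwd (nat_lit 10) (Steps.bwd (nat_lit 13) (Steps.fwd (nat_lit 114688) (Steps.fwd (nat_lit 139264) (Steps.bwd (nat_lit 10) (Steps.bwd (nat_lit 16) (Steps.bwd (nat_lit 2) Steps.nil)))))))) (nat_lit 47) (nat_lit 8),
  Rule.mk (nat_lit 9) (nat_lit 110) (Steps.fwd (nat_lit 32768) (Steps.fwd (nat_lit 32768) (Steps.bwd (nat_lit 15) (Steps.fwd (nat_lit 139264) (Steps.fwd (nat_lit 73728) (Steps.bwd (nat_lit 17) Steps.nil)))))) (nat_lit 65) (nat_lit 0),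
  Rule.mk (nat_lit 13) (nat_lit 190) (Steps.fwd (nat_lit 73728) (Steps.bwd (nat_lit 2) (Steps.bwd (nat_lit 2) (Steps.bwd (nat_lit 2) (Steps.fwd (nat_lit 114688) (Steps.bwd (nat_lit 2) (Steps.bwd (nat_lit 16) (Steps.fwd (nat_lit 98304) (Steps.bwd (nat_lit 9) (Steps.bwd (nat_lit 12) (Steps.fwd (nat_lit 73728) Steps.nil))))))))))) (nat_lit 75) (nat_lit 11),
  Rule.mk (nat_lit 13) (nat_lit 62) (Steps.fwd (nat_lit 131072) (Steps.bwd (nat_lit 12) (Steps.bwd (nat_lit 16) Steps.nil))) (nat_lit 38) (nat_lit 1),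
  Rule.mk (nat_lit 13) (nat_lit 190) (Steps.bwd (nat_lit 9) (Steps.bwd (nat_lit 12) (Steps.bwd (nat_lit 17) (Steps.bwd (nat_lit 1) (Steps.fwd (nat_lit 122880) (Steps.fwd (nat_lit 16384) (Steps.fwd (nat_lit 16384) (Steps.bwd (nat_lit 1) (Steps.fwd (nat_lit 73728) (Steps.bwd (nat_lit 12) (Steps.fwd (nat_lit 73728) Steps.nil))))))))))) (nat_lit 74) (nat_lit 4),
  Rule.mk (nat_lit 2) (nat_lit 190) (Steps.bwd (nat_lit 16) (Steps.fwd (nat_lit 98304) (Steps.fwd (nat_lit 73728) (Steps.bwd (nat_lit 12) (Steps.fwd (nat_lit 73728) (Steps.bwd (nat_lit 13) (Steps.bwd (nat_lit 9) (Steps.bwd (nat_lit 2) (Steps.fwd (nat_lit 8192) (Steps.bwd (nat_lit 2) (Steps.fwd (nat_lit 114688) Steps.nil))))))))))) (nat_lit 75) (nat_lit 5),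
  Rule.mk (nat_lit 3) (nat_lit 126) (Steps.bwd (nat_lit 1) (Steps.bwd (nat_lit 3) (Steps.bwd (nat_lit 1) (Steps.bwd (nat_lit 3) (Steps.fwd (nat_lit 16384) (Steps.bwd (nat_lit 3) (Steps.bwd (nat_lit 1) Steps.nil))))))) (nat_lit 4) (nat_lit 0),
  Rule.mk (nat_lit 14) (nat_lit 110) (Steps.bwd (nat_lit 3) (Steps.bwd (nat_lit 11) (Steps.bwd (nat_lit 9) (Steps.bwd (nat_lit 11) (Steps.fwd (nat_lit 73728) (Steps.fwd (nat_lit 32768) Steps.nil)))))) (nat_lit 61) (nat_lit 2),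
  Rule.mk (nat_lit 9) (nat_lit 110) (Steps.fwd (nat_lit 139264) (Steps.bwd (nat_lit 16) (Steps.fwd (nat_lit 122880) (Steps.fwd (nat_lit 81920) (Steps.fwd (nat_lit 73728) (Steps.bwd (nat_lit 3) Steps.nil)))))) (nat_lit 70) (nat_lit 3),
  Rule.mk (nat_lit 13) (nat_lit 190) (Steps.bwd (nat_lit 9) (Steps.bwd (nat_lit 12) (Steps.bwd (nat_lit 17) (Steps.bwd (nat_lit 1) (Steps.fwd (nat_lit 122880) (Steps.bwd (nat_lit 1) (Steps.bwd (nat_lit 1) (Steps.fwd (nat_lit 16384) (Steps.bwd (nat_lit 9) (Steps.bwd (nat_lit 12) (Steps.fwd (nat_lit 73728) Steps.nil))))))))))) (nat_lit 74) (nat_lit 4),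
  Rule.mk (nat_lit 9) (nat_lit 190) (Steps.bwd (nat_lit 13) (Steps.fwd (nat_lit 73728) (Steps.bwd (nat_lit 12) (Steps.fwd (nat_lit 131072) (Steps.fwd (nat_lit 16384) (Steps.bwd (nat_lit 14) (Steps.fwd (nat_lit 16384) (Steps.fwd (nat_lit 16384) (Steps.fwd (nat_lit 16384) (Steps.bwd (nat_lit 9) (Steps.fwd (nat_lit 106496) Steps.nil))))))))))) (nat_lit 74) (nat_lit 3),
  Rule.mk (nat_lit 8) (nat_lit 94) (Steps.bwd (nat_lit 1) (Steps.fwd (nat_lit 16384) (Steps.fwd (nat_lit 16384) (Steps.fwd (nat_lit 16384) (Steps.fwd (nat_lit 57344) Steps.nil))))) (nat_lit 79) (nat_lit 0),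
  Rule.mk (nat_lit 14) (nat_lit 110) (Steps.bwd (nat_lit 1) (Steps.fwd (nat_lit 131072) (Steps.fwd (nat_lit 81920) (Steps.fwd (nat_lit 122880) (Steps.bwd (nat_lit 14) (Steps.fwd (nat_lit 8192) Steps.nil)))))) (nat_lit 44) (nat_lit 2),
  Rule.mk (nat_lit 16) (nat_lit 142) (Steps.bwd (nat_lit 1) (Steps.fwd (nat_lit 131072) (Steps.fwd (nat_lit 81920) (Steps.bwd (nat_lit 17) (Steps.fwd (nat_lit 122880) (Steps.bwd (nat_lit 12) (Steps.bwd (nat_lit 11) (Steps.bwd (nat_lit 2) Steps.nil)))))))) (nat_lit 46) (nat_lit 2),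
  Rule.mk (nat_lit 10) (nat_lit 158) (Steps.bwd (nat_lit 13) (Steps.fwd (nat_lit 8192) (Steps.bwd (nat_lit 4) (Steps.bwd (nat_lit 4) (Steps.fwd (nat_lit 73728) (Steps.fwd (nat_lit 122880) (Steps.fwd (nat_lit 73728) (Steps.bwd (nat_lit 1) (Steps.bwd (nat_lit 16) Steps.nil))))))))) (nat_lit 62) (nat_lit 6),
  Rule.mk (nat_lit 3) (nat_lit 110) (Steps.bwd (nat_lit 14) (Steps.fwd (nat_lit 32768) (Steps.bwd (nat_lit 11) (Steps.bwd (nat_lit 9) (Steps.bwd (nat_lit 11) (Steps.bwd (nat_lit 9) Steps.nil)))))) (nat_lit 61) (nat_lit 1),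
  Rule.mk (nat_lit 9) (nat_lit 110) (Steps.bwd (nat_lit 16) (Steps.fwd (nat_lit 139264) (Steps.bwd (nat_lit 14) (Steps.bwd (nat_lit 11) (Steps.bwd (nat_lit 9) (Steps.bwd (nat_lit 3) Steps.nil)))))) (nat_lit 70) (nat_lit 3),
  Rule.mk (nat_lit 17) (nat_lit 110) (Steps.bwd (nat_lit 9) (Steps.bwd (nat_lit 3) (Steps.fwd (nat_lit 32768) (Steps.fwd (nat_lit 114688) (Steps.fwd (nat_lit 139264) (Steps.fwd (nat_lit 73728) Steps.nil)))))) (nat_lit 65) (nat_lit 6),
  Rule.mk (nat_lit 16) (nat_lit 110) (Steps.bwd (nat_lit 9) (Steps.fwd (nat_lit 131072) (Steps.fwd (nat_lit 73728) (Steps.bwd (nat_lit 3) (Steps.fwd (nat_lit 32768) (Steps.bwd (nat_lit 15) Steps.nil)))))) (nat_lit 65) (nat_lit 4),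
  Rule.mk (nat_lit 3) (nat_lit 110) (Steps.bwd (nat_lit 9) (Steps.bwd (nat_lit 16) (Steps.bwd (nat_lit 16) (Steps.fwd (nat_lit 122880) (Steps.fwd (nat_lit 81920) (Steps.fwd (nat_lit 73728) Steps.nil)))))) (nat_lit 70) (nat_lit 2),
  Rule.mk (nat_lit 11) (nat_lit 110) (Steps.bwd (nat_lit 9) (Steps.bwd (nat_lit 3) (Steps.bwd (nat_lit 9) (Steps.fwd (nat_lit 139264) (Steps.fwd (nat_lit 139264) (Steps.fwd (nat_lit 122880) Steps.nil)))))) (nat_lit 70) (nat_lit 0),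
  Rule.mk (nat_lit 9) (nat_lit 110) (Steps.bwd (nat_lit 3) (Steps.fwd (nat_lit 122880) (Steps.bwd (nat_lit 3) (Steps.fwd (nat_lit 81920) (Steps.fwd (nat_lit 73728) (Steps.bwd (nat_lit 11) Steps.nil)))))) (nat_lit 61) (nat_lit 0),
  Rule.mk (nat_lit 3) (nat_lit 126) (Steps.bwd (nat_lit 12) (Steps.fwd (nat_lit 122880) (Steps.bwd (nat_lit 17) (Steps.bwd (nat_lit 11) (Steps.bwd (nat_lit 17) (Steps.bwd (nat_lit 4) (Steps.fwd (nat_lit 98304) Steps.nil))))))) (nat_lit 51) (nat_lit 0),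
  Rule.mk (nat_lit 9) (nat_lit 206) (Steps.fwd (nat_lit 8192) (Steps.bwd (nat_lit 2) (Steps.bwd (nat_lit 9) (Steps.bwd (nat_lit 1) (Steps.fwd (nat_lit 32768) (Steps.bwd (nat_lit 3) (Steps.fwd (nat_lit 16384) (Steps.bwd (nat_lit 4) (Steps.bwd (nat_lit 1) (Steps.bwd (nat_lit 10) (Steps.fwd (nat_lit 155648) (Steps.bwd (nat_lit 17) Steps.nil)))))))))))) (nat_lit 69) (nat_lit 10),
  Rule.mk (nat_lit 14) (nat_lit 110) (Steps.fwd (nat_lit 16384) (Steps.fwd (nat_lit 131072) (Steps.bwd (nat_lit 11) (Steps.fwd (nat_lit 122880) (Steps.fwd (nat_lit 122880) (Steps.bwd (nat_lit 2) Steps.nil)))))) (nat_lit 44) (nat_lit 2),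
  Rule.mk (nat_lit 7) (nat_lit 94) (Steps.fwd (nat_lit 65536) (Steps.bwd (nat_lit 2) (Steps.fwd (nat_lit 8192) (Steps.fwd (nat_lit 8192) (Steps.fwd (nat_lit 8192) Steps.nil))))) (nat_lit 78) (nat_lit 1),
  Rule.mk (nat_lit 8) (nat_lit 94) (Steps.fwd (nat_lit 16384) (Steps.fwd (nat_lit 65536) (Steps.bwd (nat_lit 2) (Steps.fwd (nat_lit 8192) (Steps.fwd (nat_lit 8192) Steps.nil))))) (nat_lit 82) (nat_lit 1),
  Rule.mk (nat_lit 9) (nat_lit 286) (Steps.bwd (nat_lit 8) (Steps.bwd (nat_lit 11) (Steps.fwd (nat_lit 57344) (Steps.fwd (nat_lit 32768) (Steps.bwd (nat_lit 2) (Steps.fwd (nat_lit 24576) (Steps.bwd (nat_lit 11) (Steps.bwd (nat_lit 8) (Steps.bwd (nat_lit 2) (Steps.fwd (nat_lit 81920) (Steps.bwd (nat_lit 1) (Steps.bwd (nat_lit 11) (Steps.fwd (nat_lit 8192) (Steps.bwd (nat_lit 10) (Steps.fwd (nat_lit 16384) (Steps.bwd (nat_lit 3) (Steps.bwd (nat_lit 3) Steps.nil))))))))))))))))) (nat_lit 56) (nat_lit 1),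
  Rule.mk (nat_lit 14) (nat_lit 110) (Steps.bwd (nat_lit 2) (Steps.fwd (nat_lit 122880) (Steps.fwd (nat_lit 16384) (Steps.bwd (nat_lit 17) (Steps.fwd (nat_lit 81920) (Steps.fwd (nat_lit 122880) Steps.nil)))))) (nat_lit 44) (nat_lit 0)]
noncomputable def R_52 : List (Rule) := [Rule.mk (nat_lit 10) (nat_lit 94) (Steps.fwd (nat_lit 147456) (Steps.bwd (nat_lit 19) (Steps.fwd (nat_lit 114688) (Steps.bwd (nat_lit 11) (Steps.bwd (nat_lit 14) Steps.nil))))) (nat_lit 33) (nat_lit 0),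
  Rule.mk (nat_lit 11) (nat_lit 110) (Steps.bwd (nat_lit 9) (Steps.bwd (nat_lit 18) (Steps.fwd (nat_lit 73728) (Steps.bwd (nat_lit 16) (Steps.bwd (nat_lit 11) (Steps.bwd (nat_lit 14) Steps.nil)))))) (nat_lit 66) (nat_lit 0),
  Rule.mk (nat_lit 10) (nat_lit 110) (Steps.bwd (nat_lit 4) (Steps.fwd (nat_lit 114688) (Steps.bwd (nat_lit 4) (Steps.bwd (nat_lit 9) (Steps.bwd (nat_lit 10) (Steps.fwd (nat_lit 73728) Steps.nil)))))) (nat_lit 60) (nat_lit 4),
  Rule.mk (nat_lit 13) (nat_lit 126) (Steps.bwd (nat_lit 3) (Steps.bwd (nat_lit 12) (Steps.bwd (nat_lit 14) (Steps.fwd (nat_lit 131072) (Steps.bwd (nat_lit 11) (Steps.bwd (nat_lit 17) (Steps.fwd (nat_lit 24576) Steps.nil))))))) (nat_lit 51) (nat_lit 7),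
  Rule.mk (nat_lit 17) (nat_lit 110) (Steps.bwd (nat_lit 9) (Steps.fwd (nat_lit 24576) (Steps.bwd (nat_lit 9) (Steps.bwd (nat_lit 10) (Steps.fwd (nat_lit 114688) (Steps.bwd (nat_lit 17) Steps.nil)))))) (nat_lit 71) (nat_lit 4),
  Rule.mk (nat_lit 9) (nat_lit 110) (Steps.bwd (nat_lit 17) (Steps.bwd (nat_lit 9) (Steps.fwd (nat_lit 32768) (Steps.bwd (nat_lit 3) (Steps.bwd (nat_lit 15) (Steps.fwd (nat_lit 139264) Steps.nil)))))) (nat_lit 65) (nat_lit 5),
  Rule.mk (nat_lit 12) (nat_lit 126) (Steps.fwd (nat_lit 122880) (Steps.bwd (nat_lit 17) (Steps.bwd (nat_lit 11) (Steps.bwd (nat_lit 17) (Steps.bwd (nat_lit 4) (Steps.bwd (nat_lit 13) (Steps.bwd (nat_lit 3) Steps.nil))))))) (nat_lit 51) (nat_lit 1),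
  Rule.mk (nat_lit 9) (nat_lit 110) (Steps.fwd (nat_lit 81920) (Steps.fwd (nat_lit 73728) (Steps.bwd (nat_lit 3) (Steps.bwd (nat_lit 14) (Steps.bwd (nat_lit 3) (Steps.bwd (nat_lit 11) Steps.nil)))))) (nat_lit 61) (nat_lit 5),
  Rule.mk (nat_lit 9) (nat_lit 110) (Steps.fwd (nat_lit 90112) (Steps.fwd (nat_lit 73728) (Steps.fwd (nat_lit 90112) (Steps.bwd (nat_lit 4) (Steps.bwd (nat_lit 15) (Steps.bwd (nat_lit 4) Steps.nil)))))) (nat_lit 60) (nat_lit 1),
  Rule.mk (nat_lit 15) (nat_lit 110) (Steps.fwd (nat_lit 24576) (Steps.fwd (nat_lit 73728) (Steps.fwd (nat_lit 90112) (Steps.bwd (nat_lit 9) (Steps.bwd (nat_lit 10) (Steps.bwd (nat_lit 4) Steps.nil)))))) (nat_lit 60) (nat_lit 6),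
  Rule.mk (nat_lit 4) (nat_lit 110) (Steps.bwd (nat_lit 9) (Steps.bwd (nat_lit 10) (Steps.bwd (nat_lit 9) (Steps.fwd (nat_lit 90112) (Steps.bwd (nat_lit 4) (Steps.bwd (nat_lit 15) Steps.nil)))))) (nat_lit 60) (nat_lit 0),
  Rule.mk (nat_lit 11) (nat_lit 110) (Steps.bwd (nat_lit 9) (Steps.fwd (nat_lit 32768) (Steps.bwd (nat_lit 14) (Steps.fwd (nat_lit 32768) (Steps.fwd (nat_lit 81920) (Steps.fwd (nat_lit 73728) Steps.nil)))))) (nat_lit 61) (nat_lit 6),
  Rule.mk (nat_lit 19) (nat_lit 110) (Steps.bwd (nat_lit 9) (Steps.bwd (nat_lit 10) (Steps.bwd (nat_lit 15) (Steps.fwd (nat_lit 90112) (Steps.bwd (nat_lit 17) (Steps.bwd (nat_lit 9) Steps.nil)))))) (nat_lit 67) (nat_lit 6),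
  Rule.mk (nat_lit 3) (nat_lit 110) (Steps.bwd (nat_lit 9) (Steps.bwd (nat_lit 16) (Steps.fwd (nat_lit 139264) (Steps.bwd (nat_lit 14) (Steps.bwd (nat_lit 11) (Steps.bwd (nat_lit 9) Steps.nil)))))) (nat_lit 70) (nat_lit 2),
  Rule.mk (nat_lit 12) (nat_lit 126) (Steps.bwd (nat_lit 14) (Steps.fwd (nat_lit 131072) (Steps.fwd (nat_lit 81920) (Steps.fwd (nat_lit 131072) (Steps.fwd (nat_lit 24576) (Steps.fwd (nat_lit 98304) (Steps.bwd (nat_lit 3) Steps.nil))))))) (nat_lit 51) (nat_lit 1),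
  Rule.mk (nat_lit 3) (nat_lit 126) (Steps.bwd (nat_lit 12) (Steps.bwd (nat_lit 14) (Steps.fwd (nat_lit 131072) (Steps.bwd (nat_lit 11) (Steps.bwd (nat_lit 17) (Steps.bwd (nat_lit 4) (Steps.bwd (nat_lit 13) Steps.nil))))))) (nat_lit 51) (nat_lit 0),
  Rule.mk (nat_lit 9) (nat_lit 206) (Steps.fwd (nat_lit 16384) (Steps.fwd (nat_lit 16384) (Steps.fwd (nat_lit 73728) (Steps.fwd (nat_lit 139264) (Steps.bwd (nat_lit 19) (Steps.fwd (nat_lit 81920) (Steps.bwd (nat_lit 2) (Steps.bwd (nat_lit 3) (Steps.fwd (nat_lit 8192) (Steps.bwd (nat_lit 4) (Steps.bwd (nat_lit 4) (Steps.fwd (nat_lit 8192) Steps.nil)))))))))))) (nat_lit 68) (nat_lit 1),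
  Rule.mk (nat_lit 9) (nat_lit 110) (Steps.bwd (nat_lit 4) (Steps.fwd (nat_lit 73728) (Steps.bwd (nat_lit 10) (Steps.bwd (nat_lit 15) (Steps.bwd (nat_lit 17) (Steps.fwd (nat_lit 131072) Steps.nil)))))) (nat_lit 71) (nat_lit 5),
  Rule.mk (nat_lit 13) (nat_lit 126) (Steps.bwd (nat_lit 4) (Steps.bwd (nat_lit 12) (Steps.fwd (nat_lit 32768) (Steps.bwd (nat_lit 16) (Steps.bwd (nat_lit 10) (Steps.bwd (nat_lit 16) (Steps.fwd (nat_lit 114688) Steps.nil))))))) (nat_lit 50) (nat_lit 0),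
  Rule.mk (nat_lit 3) (nat_lit 126) (Steps.fwd (nat_lit 106496) (Steps.fwd (nat_lit 122880) (Steps.bwd (nat_lit 17) (Steps.bwd (nat_lit 11) (Steps.fwd (nat_lit 131072) (Steps.bwd (nat_lit 4) (Steps.bwd (nat_lit 13) Steps.nil))))))) (nat_lit 51) (nat_lit 0),
  Rule.mk (nat_lit 12) (nat_lit 126) (Steps.bwd (nat_lit 3) (Steps.fwd (nat_lit 139264) (Steps.bwd (nat_lit 10) (Steps.fwd (nat_lit 139264) (Steps.bwd (nat_lit 15) (Steps.fwd (nat_lit 98304) (Steps.bwd (nat_lit 4) Steps.nil))))))) (nat_lit 50) (nat_lit 2),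
  Rule.mk (nat_lit 14) (nat_lit 94) (Steps.fwd (nat_lit 155648) (Steps.fwd (nat_lit 155648) (Steps.fwd (nat_lit 81920) (Steps.bwd (nat_lit 15) (Steps.bwd (nat_lit 10) Steps.nil))))) (nat_lit 32) (nat_lit 4),
  Rule.mk (nat_lit 15) (nat_lit 110) (Steps.fwd (nat_lit 131072) (Steps.fwd (nat_lit 131072) (Steps.fwd (nat_lit 73728) (Steps.fwd (nat_lit 24576) (Steps.bwd (nat_lit 9) (Steps.bwd (nat_lit 10) Steps.nil)))))) (nat_lit 71) (nat_lit 2),
  Rule.mk (nat_lit 9) (nat_lit 110) (Steps.fwd (nat_lit 24576) (Steps.bwd (nat_lit 9) (Steps.fwd (nat_lit 90112) (Steps.fwd (nat_lit 114688) (Steps.bwd (nat_lit 17) (Steps.bwd (nat_lit 17) Steps.nil)))))) (nat_lit 71) (nat_lit 5),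
  Rule.mk (nat_lit 0) (nat_lit 126) (Steps.bwd (nat_lit 9) (Steps.fwd (nat_lit 90112) (Steps.bwd (nat_lit 15) (Steps.bwd (nat_lit 10) (Steps.bwd (nat_lit 17) (Steps.bwd (nat_lit 9) (Steps.fwd (nat_lit 147456) Steps.nil))))))) (nat_lit 67) (nat_lit 6),
  Rule.mk (nat_lit 16) (nat_lit 110) (Steps.fwd (nat_lit 122880) (Steps.bwd (nat_lit 11) (Steps.bwd (nat_lit 9) (Steps.fwd (nat_lit 32768) (Steps.fwd (nat_lit 73728) (Steps.fwd (nat_lit 139264) Steps.nil)))))) (nat_lit 70) (nat_lit 5),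
  Rule.mk (nat_lit 0) (nat_lit 110) (Steps.fwd (nat_lit 90112) (Steps.bwd (nat_lit 16) (Steps.bwd (nat_lit 19) (Steps.bwd (nat_lit 19) (Steps.bwd (nat_lit 11) (Steps.fwd (nat_lit 131072) Steps.nil)))))) (nat_lit 34) (nat_lit 2),
  Rule.mk (nat_lit 0) (nat_lit 62) (Steps.bwd (nat_lit 15) (Steps.bwd (nat_lit 0) (Steps.bwd (nat_lit 14) Steps.nil))) (nat_lit 88) (nat_lit 0),
  Rule.mk (nat_lit 4) (nat_lit 126) (Steps.bwd (nat_lit 15) (Steps.fwd (nat_lit 32768) (Steps.bwd (nat_lit 10) (Steps.fwd (nat_lit 90112) (Steps.bwd (nat_lit 16) (Steps.fwd (nat_lit 114688) (Steps.bwd (nat_lit 15) Steps.nil))))))) (nat_lit 53) (nat_lit 6),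
  Rule.mk (nat_lit 11) (nat_lit 94) (Steps.fwd (nat_lit 122880) (Steps.fwd (nat_lit 90112) (Steps.fwd (nat_lit 147456) (Steps.fwd (nat_lit 147456) (Steps.bwd (nat_lit 15) Steps.nil))))) (nat_lit 33) (nat_lit 4),
  Rule.mk (nat_lit 9) (nat_lit 110) (Steps.bwd (nat_lit 10) (Steps.bwd (nat_lit 4) (Steps.bwd (nat_lit 15) (Steps.bwd (nat_lit 4) (Steps.fwd (nat_lit 73728) (Steps.bwd (nat_lit 10) Steps.nil)))))) (nat_lit 60) (nat_lit 3),
  Rule.mk (nat_lit 0) (nat_lit 206) (Steps.bwd (nat_lit 9) (Steps.fwd (nat_lit 106496) (Steps.bwd (nat_lit 17) (Steps.bwd (nat_lit 1) (Steps.bwd (nat_lit 14) (Steps.fwd (nat_lit 16384) (Steps.bwd (nat_lit 1) (Steps.fwd (nat_lit 16384) (Steps.fwd (nat_lit 73728) (Steps.bwd (nat_lit 12) (Steps.bwd (nat_lit 9) (Steps.bwd (nat_lit 13) Steps.nil)))))))))))) (nat_lit 74) (nat_lit 4),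
  Rule.mk (nat_lit 0) (nat_lit 94) (Steps.bwd (nat_lit 16) (Steps.fwd (nat_lit 122880) (Steps.fwd (nat_lit 147456) (Steps.fwd (nat_lit 131072) (Steps.bwd (nat_lit 15) Steps.nil))))) (nat_lit 41) (nat_lit 3),
  Rule.mk (nat_lit 0) (nat_lit 126) (Steps.bwd (nat_lit 9) (Steps.bwd (nat_lit 17) (Steps.bwd (nat_lit 9) (Steps.bwd (nat_lit 3) (Steps.fwd (nat_lit 32768) (Steps.fwd (nat_lit 114688) (Steps.fwd (nat_lit 139264) Steps.nil))))))) (nat_lit 65) (nat_lit 4),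
  Rule.mk (nat_lit 9) (nat_lit 206) (Steps.bwd (nat_lit 1) (Steps.fwd (nat_lit 16384) (Steps.fwd (nat_lit 90112) (Steps.bwd (nat_lit 18) (Steps.bwd (nat_lit 17) (Steps.bwd (nat_lit 9) (Steps.fwd (nat_lit 8192) (Steps.bwd (nat_lit 3) (Steps.bwd (nat_lit 2) (Steps.fwd (nat_lit 24576) (Steps.fwd (nat_lit 24576) (Steps.fwd (nat_lit 8192) Steps.nil)))))))))))) (nat_lit 73) (nat_lit 0),
  Rule.mk (nat_lit 16) (nat_lit 110) (Steps.bwd (nat_lit 11) (Steps.bwd (nat_lit 14) (Steps.bwd (nat_lit 11) (Steps.fwd (nat_lit 73728) (Steps.fwd (nat_lit 155648) (Steps.bwd (nat_lit 9) Steps.nil)))))) (nat_lit 66) (nat_lit 4),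
  Rule.mk (nat_lit 9) (nat_lit 110) (Steps.bwd (nat_lit 4) (Steps.bwd (nat_lit 9) (Steps.bwd (nat_lit 10) (Steps.fwd (nat_lit 114688) (Steps.fwd (nat_lit 131072) (Steps.bwd (nat_lit 17) Steps.nil)))))) (nat_lit 71) (nat_lit 5),
  Rule.mk (nat_lit 3) (nat_lit 78) (Steps.fwd (nat_lit 32768) (Steps.bwd (nat_lit 3) (Steps.bwd (nat_lit 3) (Steps.fwd (nat_lit 32768) Steps.nil)))) (nat_lit 2) (nat_lit 0),
  Rule.mk (nat_lit 1) (nat_lit 206) (Steps.fwd (nat_lit 32768) (Steps.bwd (nat_lit 3) (Steps.bwd (nat_lit 1) (Steps.bwd (nat_lit 4) (Steps.fwd (nat_lit 16384) (Steps.bwd (nat_lit 10) (Steps.fwd (nat_lit 155648) (Steps.fwd (nat_lit 131072) (Steps.bwd (nat_lit 9) (Steps.fwd (nat_lit 8192) (Steps.fwd (nat_lit 8192) (Steps.fwd (nat_lit 73728) Steps.nil)))))))))))) (nat_lit 69) (nat_lit 1),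
  Rule.mk (nat_lit 1) (nat_lit 94) (Steps.fwd (nat_lit 32768) (Steps.bwd (nat_lit 2) (Steps.bwd (nat_lit 2) (Steps.fwd (nat_lit 24576) (Steps.bwd (nat_lit 1) Steps.nil))))) (nat_lit 6) (nat_lit 5),
  Rule.mk (nat_lit 2) (nat_lit 142) (Steps.fwd (nat_lit 139264) (Steps.bwd (nat_lit 1) (Steps.fwd (nat_lit 131072) (Steps.fwd (nat_lit 81920) (Steps.fwd (nat_lit 131072) (Steps.fwd (nat_lit 122880) (Steps.bwd (nat_lit 12) (Steps.bwd (nat_lit 11) Steps.nil)))))))) (nat_lit 46) (nat_lit 1),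
  Rule.mk (nat_lit 4) (nat_lit 190) (Steps.bwd (nat_lit 1) (Steps.bwd (nat_lit 3) (Steps.bwd (nat_lit 2) (Steps.bwd (nat_lit 4) (Steps.bwd (nat_lit 1) (Steps.bwd (nat_lit 3) (Steps.fwd (nat_lit 8192) (Steps.bwd (nat_lit 4) (Steps.bwd (nat_lit 1) (Steps.bwd (nat_lit 3) (Steps.bwd (nat_lit 2) Steps.nil))))))))))) (nat_lit 8) (nat_lit 2),
  Rule.mk (nat_lit 16) (nat_lit 94) (Steps.fwd (nat_lit 90112) (Steps.bwd (nat_lit 18) (Steps.bwd (nat_lit 18) (Steps.bwd (nat_lit 17) (Steps.bwd (nat_lit 11) Steps.nil))))) (nat_lit 35) (nat_lit 5),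
  Rule.mk (nat_lit 0) (nat_lit 126) (Steps.bwd (nat_lit 9) (Steps.bwd (nat_lit 18) (Steps.fwd (nat_lit 73728) (Steps.bwd (nat_lit 16) (Steps.fwd (nat_lit 81920) (Steps.fwd (nat_lit 122880) (Steps.fwd (nat_lit 81920) Steps.nil))))))) (nat_lit 66) (nat_lit 0),
  Rule.mk (nat_lit 0) (nat_lit 126) (Steps.fwd (nat_lit 114688) (Steps.fwd (nat_lit 90112) (Steps.fwd (nat_lit 131072) (Steps.fwd (nat_lit 73728) (Steps.fwd (nat_lit 147456) (Steps.fwd (nat_lit 73728) (Steps.fwd (nat_lit 90112) Steps.nil))))))) (nat_lit 67) (nat_lit 1),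
  Rule.mk (nat_lit 9) (nat_lit 158) (Steps.bwd (nat_lit 15) (Steps.bwd (nat_lit 9) (Steps.fwd (nat_lit 32768) (Steps.bwd (nat_lit 3) (Steps.bwd (nat_lit 1) (Steps.bwd (nat_lit 12) (Steps.bwd (nat_lit 11) (Steps.bwd (nat_lit 17) (Steps.bwd (nat_lit 2) Steps.nil))))))))) (nat_lit 63) (nat_lit 8),
  Rule.mk (nat_lit 9) (nat_lit 110) (Steps.bwd (nat_lit 11) (Steps.bwd (nat_lit 9) (Steps.fwd (nat_lit 32768) (Steps.fwd (nat_lit 122880) (Steps.bwd (nat_lit 3) (Steps.bwd (nat_lit 11) Steps.nil)))))) (nat_lit 61) (nat_lit 5),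
  Rule.mk (nat_lit 9) (nat_lit 190) (Steps.fwd (nat_lit 106496) (Steps.bwd (nat_lit 17) (Steps.fwd (nat_lit 16384) (Steps.fwd (nat_lit 122880) (Steps.bwd (nat_lit 1) (Steps.bwd (nat_lit 1) (Steps.bwd (nat_lit 1) (Steps.bwd (nat_lit 9) (Steps.bwd (nat_lit 12) (Steps.fwd (nat_lit 73728) (Steps.fwd (nat_lit 98304) Steps.nil))))))))))) (nat_lit 74) (nat_lit 5),
  Rule.mk (nat_lit 10) (nat_lit 110) (Steps.bwd (nat_lit 15) (Steps.bwd (nat_lit 17) (Steps.fwd (nat_lit 131072) (Steps.fwd (nat_lit 73728) (Steps.bwd (nat_lit 4) (Steps.fwd (nat_lit 73728) Steps.nil)))))) (nat_lit 71) (nat_lit 1),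
  Rule.mk (nat_lit 9) (nat_lit 110) (Steps.bwd (nat_lit 10) (Steps.fwd (nat_lit 24576) (Steps.bwd (nat_lit 15) (Steps.bwd (nat_lit 4) (Steps.fwd (nat_lit 73728) (Steps.bwd (nat_lit 10) Steps.nil)))))) (nat_lit 60) (nat_lit 3),
  Rule.mk (nat_lit 9) (nat_lit 270) (Steps.fwd (nat_lit 8192) (Steps.fwd (nat_lit 73728) (Steps.bwd (nat_lit 2) (Steps.fwd (nat_lit 155648) (Steps.fwd (nat_lit 139264) (Steps.fwd (nat_lit 90112) (Steps.fwd (nat_lit 32768) (Steps.fwd (nat_lit 16384) (Steps.fwd (nat_lit 24576) (Steps.fwd (nat_lit 24576) (Steps.bwd (nat_lit 2) (Steps.fwd (nat_lit 65536) (Steps.fwd (nat_lit 73728) (Steps.fwd (nat_lit 24576) (Steps.bwd (nat_lit 12) (Steps.bwd (nat_lit 2) Steps.nil)))))))))))))))) (nat_lit 76) (nat_lit 6),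
  Rule.mk (nat_lit 9) (nat_lit 270) (Steps.bwd (nat_lit 2) (Steps.fwd (nat_lit 155648) (Steps.fwd (nat_lit 139264) (Steps.fwd (nat_lit 90112) (Steps.fwd (nat_lit 32768) (Steps.bwd (nat_lit 1) (Steps.fwd (nat_lit 24576) (Steps.fwd (nat_lit 24576) (Steps.bwd (nat_lit 2) (Steps.bwd (nat_lit 7) (Steps.bwd (nat_lit 9) (Steps.fwd (nat_lit 24576) (Steps.bwd (nat_lit 12) (Steps.fwd (nat_lit 8192) (Steps.bwd (nat_lit 9) (Steps.bwd (nat_lit 2) Steps.nil)))))))))))))))) (nat_lit 76) (nat_lit 8),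
  Rule.mk (nat_lit 14) (nat_lit 126) (Steps.fwd (nat_lit 32768) (Steps.fwd (nat_lit 122880) (Steps.fwd (nat_lit 122880) (Steps.bwd (nat_lit 17) (Steps.bwd (nat_lit 11) (Steps.bwd (nat_lit 11) (Steps.bwd (nat_lit 4) Steps.nil))))))) (nat_lit 52) (nat_lit 2),
  Rule.mk (nat_lit 11) (nat_lit 126) (Steps.fwd (nat_lit 81920) (Steps.bwd (nat_lit 4) (Steps.fwd (nat_lit 122880) (Steps.bwd (nat_lit 3) (Steps.fwd (nat_lit 122880) (Steps.bwd (nat_lit 14) (Steps.bwd (nat_lit 17) Steps.nil))))))) (nat_lit 52) (nat_lit 7),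
  Rule.mk (nat_lit 1) (nat_lit 206) (Steps.fwd (nat_lit 32768) (Steps.bwd (nat_lit 3) (Steps.fwd (nat_lit 16384) (Steps.bwd (nat_lit 4) (Steps.bwd (nat_lit 1) (Steps.bwd (nat_lit 9) (Steps.bwd (nat_lit 16) (Steps.fwd (nat_lit 147456) (Steps.fwd (nat_lit 81920) (Steps.bwd (nat_lit 2) (Steps.fwd (nat_lit 8192) (Steps.bwd (nat_lit 9) Steps.nil)))))))))))) (nat_lit 72) (nat_lit 2),
  Rule.mk (nat_lit 14) (nat_lit 110) (Steps.bwd (nat_lit 1) (Steps.fwd (nat_lit 131072) (Steps.fwd (nat_lit 81920) (Steps.fwd (nat_lit 122880) (Steps.fwd (nat_lit 122880) (Steps.bwd (nat_lit 2) Steps.nil)))))) (nat_lit 44) (nat_lit 2),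
  Rule.mk (nat_lit 4) (nat_lit 110) (Steps.bwd (nat_lit 9) (Steps.fwd (nat_lit 139264) (Steps.bwd (nat_lit 9) (Steps.fwd (nat_lit 131072) (Steps.fwd (nat_lit 122880) (Steps.bwd (nat_lit 4) Steps.nil)))))) (nat_lit 64) (nat_lit 0),
  Rule.mk (nat_lit 2) (nat_lit 206) (Steps.bwd (nat_lit 9) (Steps.bwd (nat_lit 1) (Steps.bwd (nat_lit 1) (Steps.bwd (nat_lit 9) (Steps.fwd (nat_lit 139264) (Steps.fwd (nat_lit 147456) (Steps.fwd (nat_lit 81920) (Steps.fwd (nat_lit 8192) (Steps.bwd (nat_lit 3) (Steps.bwd (nat_lit 2) (Steps.fwd (nat_lit 24576) (Steps.fwd (nat_lit 24576) Steps.nil)))))))))))) (nat_lit 68) (nat_lit 0),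
  Rule.mk (nat_lit 7) (nat_lit 94) (Steps.fwd (nat_lit 16384) (Steps.bwd (nat_lit 1) (Steps.fwd (nat_lit 16384) (Steps.bwd (nat_lit 8) (Steps.bwd (nat_lit 2) Steps.nil))))) (nat_lit 83) (nat_lit 0),
  Rule.mk (nat_lit 8) (nat_lit 126) (Steps.bwd (nat_lit 19) (Steps.bwd (nat_lit 8) (Steps.bwd (nat_lit 1) (Steps.fwd (nat_lit 16384) (Steps.bwd (nat_lit 19) (Steps.bwd (nat_lit 8) (Steps.bwd (nat_lit 18) Steps.nil))))))) (nat_lit 87) (nat_lit 6),
  Rule.mk (nat_lit 10) (nat_lit 142) (Steps.bwd (nat_lit 13) (Steps.bwd (nat_lit 15) (Steps.bwd (nat_lit 16) (Steps.bwd (nat_lit 10) (Steps.bwd (nat_lit 16) (Steps.bwd (nat_lit 2) (Steps.fwd (nat_lit 131072) (Steps.bwd (nat_lit 1) Steps.nil)))))))) (nat_lit 47) (nat_lit 1),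
  Rule.mk (nat_lit 9) (nat_lit 110) (Steps.bwd (nat_lit 10) (Steps.bwd (nat_lit 9) (Steps.bwd (nat_lit 10) (Steps.fwd (nat_lit 24576) (Steps.bwd (nat_lit 15) (Steps.bwd (nat_lit 4) Steps.nil)))))) (nat_lit 60) (nat_lit 1),
  Rule.mk (nat_lit 4) (nat_lit 206) (Steps.fwd (nat_lit 8192) (Steps.bwd (nat_lit 9) (Steps.bwd (nat_lit 1) (Steps.fwd (nat_lit 16384) (Steps.bwd (nat_lit 9) (Steps.fwd (nat_lit 139264) (Steps.fwd (nat_lit 147456) (Steps.fwd (nat_lit 81920) (Steps.bwd (nat_lit 2) (Steps.fwd (nat_lit 32768) (Steps.bwd (nat_lit 2) (Steps.bwd (nat_lit 4) Steps.nil)))))))))))) (nat_lit 68) (nat_lit 12),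
  Rule.mk (nat_lit 0) (nat_lit 78) (Steps.bwd (nat_lit 3) (Steps.fwd (nat_lit 49152) (Steps.bwd (nat_lit 4) (Steps.bwd (nat_lit 17) Steps.nil)))) (nat_lit 17) (nat_lit 0)]
noncomputable def R_53 : List (Rule) := [Rule.mk (nat_lit 9) (nat_lit 110) (Steps.bwd (nat_lit 10) (Steps.fwd (nat_lit 114688) (Steps.fwd (nat_lit 131072) (Steps.fwd (nat_lit 131072) (Steps.fwd (nat_lit 73728) (Steps.bwd (nat_lit 4) Steps.nil)))))) (nat_lit 71) (nat_lit 0),
  Rule.mk (nat_lit 0) (nat_lit 126) (Steps.bwd (nat_lit 9) (Steps.fwd (nat_lit 90112) (Steps.bwd (nat_lit 4) (Steps.bwd (nat_lit 15) (Steps.bwd (nat_lit 4) (Steps.fwd (nat_lit 73728) (Steps.bwd (nat_lit 10) Steps.nil))))))) (nat_lit 60) (nat_lit 2),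
  Rule.mk (nat_lit 9) (nat_lit 110) (Steps.bwd (nat_lit 10) (Steps.bwd (nat_lit 9) (Steps.fwd (nat_lit 90112) (Steps.fwd (nat_lit 24576) (Steps.fwd (nat_lit 114688) (Steps.bwd (nat_lit 4) Steps.nil)))))) (nat_lit 60) (nat_lit 1),
  Rule.mk (nat_lit 11) (nat_lit 110) (Steps.bwd (nat_lit 9) (Steps.bwd (nat_lit 11) (Steps.bwd (nat_lit 9) (Steps.fwd (nat_lit 32768) (Steps.fwd (nat_lit 122880) (Steps.fwd (nat_lit 32768) Steps.nil)))))) (nat_lit 61) (nat_lit 4),
  Rule.mk (nat_lit 9) (nat_lit 110) (Steps.bwd (nat_lit 3) (Steps.bwd (nat_lit 9) (Steps.bwd (nat_lit 16) (Steps.fwd (nat_lit 139264) (Steps.fwd (nat_lit 122880) (Steps.bwd (nat_lit 11) Steps.nil)))))) (nat_lit 70) (nat_lit 1),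
  Rule.mk (nat_lit 17) (nat_lit 110) (Steps.bwd (nat_lit 9) (Steps.bwd (nat_lit 4) (Steps.bwd (nat_lit 9) (Steps.fwd (nat_lit 90112) (Steps.fwd (nat_lit 114688) (Steps.bwd (nat_lit 17) Steps.nil)))))) (nat_lit 71) (nat_lit 4),
  Rule.mk (nat_lit 0) (nat_lit 126) (Steps.bwd (nat_lit 9) (Steps.bwd (nat_lit 18) (Steps.fwd (nat_lit 73728) (Steps.fwd (nat_lit 139264) (Steps.fwd (nat_lit 81920) (Steps.bwd (nat_lit 14) (Steps.bwd (nat_lit 11) Steps.nil))))))) (nat_lit 66) (nat_lit 0),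
  Rule.mk (nat_lit 17) (nat_lit 110) (Steps.bwd (nat_lit 9) (Steps.fwd (nat_lit 147456) (Steps.bwd (nat_lit 9) (Steps.fwd (nat_lit 90112) (Steps.fwd (nat_lit 114688) (Steps.bwd (nat_lit 10) Steps.nil)))))) (nat_lit 67) (nat_lit 4),
  Rule.mk (nat_lit 14) (nat_lit 158) (Steps.bwd (nat_lit 9) (Steps.fwd (nat_lit 16384) (Steps.fwd (nat_lit 139264) (Steps.fwd (nat_lit 90112) (Steps.fwd (nat_lit 98304) (Steps.bwd (nat_lit 2) (Steps.fwd (nat_lit 24576) (Steps.fwd (nat_lit 24576) (Steps.fwd (nat_lit 73728) Steps.nil))))))))) (nat_lit 62) (nat_lit 2),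
  Rule.mk (nat_lit 14) (nat_lit 78) (Steps.fwd (nat_lit 139264) (Steps.bwd (nat_lit 18) (Steps.fwd (nat_lit 114688) (Steps.bwd (nat_lit 17) Steps.nil)))) (nat_lit 40) (nat_lit 3),
  Rule.mk (nat_lit 11) (nat_lit 94) (Steps.fwd (nat_lit 139264) (Steps.bwd (nat_lit 10) (Steps.fwd (nat_lit 155648) (Steps.bwd (nat_lit 18) (Steps.bwd (nat_lit 17) Steps.nil))))) (nat_lit 35) (nat_lit 4),
  Rule.mk (nat_lit 19) (nat_lit 78) (Steps.bwd (nat_lit 15) (Steps.bwd (nat_lit 13) (Steps.fwd (nat_lit 122880) (Steps.bwd (nat_lit 12) Steps.nil)))) (nat_lit 37) (nat_lit 1),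
  Rule.mk (nat_lit 2) (nat_lit 190) (Steps.bwd (nat_lit 15) (Steps.fwd (nat_lit 8192) (Steps.bwd (nat_lit 16) (Steps.fwd (nat_lit 98304) (Steps.fwd (nat_lit 73728) (Steps.bwd (nat_lit 12) (Steps.fwd (nat_lit 73728) (Steps.bwd (nat_lit 13) (Steps.bwd (nat_lit 9) (Steps.bwd (nat_lit 2) (Steps.bwd (nat_lit 2) Steps.nil))))))))))) (nat_lit 75) (nat_lit 3),
  Rule.mk (nat_lit 9) (nat_lit 270) (Steps.fwd (nat_lit 57344) (Steps.fwd (nat_lit 16384) (Steps.bwd (nat_lit 3) (Steps.bwd (nat_lit 3) (Steps.bwd (nat_lit 2) (Steps.fwd (nat_lit 24576) (Steps.bwd (nat_lit 11) (Steps.bwd (nat_lit 17) (Steps.bwd (nat_lit 19) (Steps.bwd (nat_lit 1) (Steps.bwd (nat_lit 9) (Steps.bwd (nat_lit 1) (Steps.fwd (nat_lit 73728) (Steps.fwd (nat_lit 16384) (Steps.bwd (nat_lit 13) (Steps.bwd (nat_lit 3) Steps.nil)))))))))))))))) (nat_lit 77) (nat_lit 16),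
  Rule.mk (nat_lit 9) (nat_lit 110) (Steps.bwd (nat_lit 3) (Steps.bwd (nat_lit 3) (Steps.fwd (nat_lit 114688) (Steps.fwd (nat_lit 139264) (Steps.bwd (nat_lit 9) (Steps.bwd (nat_lit 17) Steps.nil)))))) (nat_lit 65) (nat_lit 0),
  Rule.mk (nat_lit 12) (nat_lit 126) (Steps.bwd (nat_lit 3) (Steps.fwd (nat_lit 139264) (Steps.fwd (nat_lit 90112) (Steps.fwd (nat_lit 139264) (Steps.fwd (nat_lit 114688) (Steps.fwd (nat_lit 98304) (Steps.bwd (nat_lit 4) Steps.nil))))))) (nat_lit 50) (nat_lit 2),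
  Rule.mk (nat_lit 11) (nat_lit 110) (Steps.fwd (nat_lit 73728) (Steps.fwd (nat_lit 32768) (Steps.fwd (nat_lit 122880) (Steps.fwd (nat_lit 32768) (Steps.fwd (nat_lit 81920) (Steps.bwd (nat_lit 9) Steps.nil)))))) (nat_lit 61) (nat_lit 6),
  Rule.mk (nat_lit 14) (nat_lit 110) (Steps.fwd (nat_lit 81920) (Steps.bwd (nat_lit 9) (Steps.fwd (nat_lit 155648) (Steps.fwd (nat_lit 73728) (Steps.fwd (nat_lit 139264) (Steps.bwd (nat_lit 11) Steps.nil)))))) (nat_lit 66) (nat_lit 6),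
  Rule.mk (nat_lit 9) (nat_lit 110) (Steps.bwd (nat_lit 17) (Steps.bwd (nat_lit 9) (Steps.bwd (nat_lit 3) (Steps.bwd (nat_lit 3) (Steps.fwd (nat_lit 114688) (Steps.bwd (nat_lit 16) Steps.nil)))))) (nat_lit 65) (nat_lit 5),
  Rule.mk (nat_lit 7) (nat_lit 94) (Steps.bwd (nat_lit 2) (Steps.bwd (nat_lit 2) (Steps.fwd (nat_lit 8192) (Steps.bwd (nat_lit 2) (Steps.bwd (nat_lit 7) Steps.nil))))) (nat_lit 78) (nat_lit 2),
  Rule.mk (nat_lit 14) (nat_lit 110) (Steps.bwd (nat_lit 2) (Steps.bwd (nat_lit 14) (Steps.bwd (nat_lit 1) (Steps.bwd (nat_lit 17) (Steps.fwd (nat_lit 81920) (Steps.bwd (nat_lit 14) Steps.nil)))))) (nat_lit 44) (nat_lit 0),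
  Rule.mk (nat_lit 16) (nat_lit 78) (Steps.fwd (nat_lit 155648) (Steps.fwd (nat_lit 114688) (Steps.bwd (nat_lit 17) (Steps.bwd (nat_lit 14) Steps.nil)))) (nat_lit 40) (nat_lit 4),
  Rule.mk (nat_lit 14) (nat_lit 110) (Steps.bwd (nat_lit 2) (Steps.bwd (nat_lit 14) (Steps.fwd (nat_lit 16384) (Steps.bwd (nat_lit 17) (Steps.bwd (nat_lit 11) (Steps.bwd (nat_lit 14) Steps.nil)))))) (nat_lit 44) (nat_lit 0),
  Rule.mk (nat_lit 16) (nat_lit 110) (Steps.bwd (nat_lit 16) (Steps.bwd (nat_lit 14) (Steps.bwd (nat_lit 11) (Steps.bwd (nat_lit 9) (Steps.bwd (nat_lit 3) (Steps.fwd (nat_lit 73728) Steps.nil)))))) (nat_lit 70) (nat_lit 4),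
  Rule.mk (nat_lit 2) (nat_lit 94) (Steps.bwd (nat_lit 2) (Steps.bwd (nat_lit 7) (Steps.bwd (nat_lit 7) (Steps.fwd (nat_lit 8192) (Steps.bwd (nat_lit 2) Steps.nil))))) (nat_lit 78) (nat_lit 5),
  Rule.mk (nat_lit 2) (nat_lit 94) (Steps.fwd (nat_lit 8192) (Steps.bwd (nat_lit 2) (Steps.bwd (nat_lit 2) (Steps.fwd (nat_lit 65536) (Steps.bwd (nat_lit 7) Steps.nil))))) (nat_lit 78) (nat_lit 3),
  Rule.mk (nat_lit 9) (nat_lit 110) (Steps.bwd (nat_lit 3) (Steps.bwd (nat_lit 14) (Steps.bwd (nat_lit 3) (Steps.fwd (nat_lit 81920) (Steps.fwd (nat_lit 73728) (Steps.bwd (nat_lit 11) Steps.nil)))))) (nat_lit 61) (nat_lit 0),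
  Rule.mk (nat_lit 9) (nat_lit 110) (Steps.bwd (nat_lit 11) (Steps.bwd (nat_lit 9) (Steps.bwd (nat_lit 3) (Steps.bwd (nat_lit 14) (Steps.fwd (nat_lit 32768) (Steps.fwd (nat_lit 81920) Steps.nil)))))) (nat_lit 61) (nat_lit 5),
  Rule.mk (nat_lit 10) (nat_lit 110) (Steps.bwd (nat_lit 9) (Steps.bwd (nat_lit 10) (Steps.fwd (nat_lit 24576) (Steps.fwd (nat_lit 114688) (Steps.fwd (nat_lit 24576) (Steps.bwd (nat_lit 9) Steps.nil)))))) (nat_lit 60) (nat_lit 2),
  Rule.mk (nat_lit 0) (nat_lit 126) (Steps.fwd (nat_lit 24576) (Steps.fwd (nat_lit 73728) (Steps.bwd (nat_lit 10) (Steps.fwd (nat_lit 73728) (Steps.bwd (nat_lit 10) (Steps.bwd (nat_lit 4) (Steps.fwd (nat_lit 114688) Steps.nil))))))) (nat_lit 60) (nat_lit 6),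
  Rule.mk (nat_lit 13) (nat_lit 190) (Steps.bwd (nat_lit 9) (Steps.bwd (nat_lit 2) (Steps.bwd (nat_lit 2) (Steps.bwd (nat_lit 2) (Steps.fwd (nat_lit 114688) (Steps.bwd (nat_lit 2) (Steps.bwd (nat_lit 16) (Steps.fwd (nat_lit 98304) (Steps.bwd (nat_lit 9) (Steps.bwd (nat_lit 12) (Steps.bwd (nat_lit 9) Steps.nil))))))))))) (nat_lit 75) (nat_lit 11),
  Rule.mk (nat_lit 8) (nat_lit 286) (Steps.fwd (nat_lit 32768) (Steps.bwd (nat_lit 2) (Steps.bwd (nat_lit 4) (Steps.fwd (nat_lit 81920) (Steps.bwd (nat_lit 8) (Steps.bwd (nat_lit 2) (Steps.fwd (nat_lit 81920) (Steps.bwd (nat_lit 1) (Steps.fwd (nat_lit 81920) (Steps.fwd (nat_lit 8192) (Steps.fwd (nat_lit 90112) (Steps.fwd (nat_lit 16384) (Steps.fwd (nat_lit 32768) (Steps.fwd (nat_lit 32768) (Steps.bwd (nat_lit 9) (Steps.bwd (nat_lit 8) (Steps.bwd (nat_lit 11) Steps.nil))))))))))))))))) (nat_lit 56) (nat_lit 4),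
  Rule.mk (nat_lit 0) (nat_lit 78) (Steps.bwd (nat_lit 4) (Steps.bwd (nat_lit 8) (Steps.fwd (nat_lit 32768) (Steps.bwd (nat_lit 7) Steps.nil)))) (nat_lit 80) (nat_lit 0),
  Rule.mk (nat_lit 0) (nat_lit 62) (Steps.fwd (nat_lit 24576) (Steps.fwd (nat_lit 0) (Steps.bwd (nat_lit 3) Steps.nil))) (nat_lit 88) (nat_lit 0),
  Rule.mk (nat_lit 8) (nat_lit 126) (Steps.bwd (nat_lit 19) (Steps.fwd (nat_lit 57344) (Steps.fwd (nat_lit 16384) (Steps.fwd (nat_lit 16384) (Steps.bwd (nat_lit 19) (Steps.bwd (nat_lit 8) (Steps.bwd (nat_lit 18) Steps.nil))))))) (nat_lit 87) (nat_lit 6),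
  Rule.mk (nat_lit 2) (nat_lit 94) (Steps.fwd (nat_lit 8192) (Steps.bwd (nat_lit 3) (Steps.fwd (nat_lit 16384) (Steps.bwd (nat_lit 1) (Steps.bwd (nat_lit 4) Steps.nil))))) (nat_lit 7) (nat_lit 2),
  Rule.mk (nat_lit 16) (nat_lit 142) (Steps.bwd (nat_lit 2) (Steps.bwd (nat_lit 17) (Steps.bwd (nat_lit 1) (Steps.bwd (nat_lit 10) (Steps.bwd (nat_lit 13) (Steps.bwd (nat_lit 15) (Steps.fwd (nat_lit 139264) (Steps.fwd (nat_lit 90112) Steps.nil)))))))) (nat_lit 47) (nat_lit 6),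
  Rule.mk (nat_lit 17) (nat_lit 158) (Steps.bwd (nat_lit 2) (Steps.bwd (nat_lit 9) (Steps.bwd (nat_lit 15) (Steps.bwd (nat_lit 9) (Steps.bwd (nat_lit 3) (Steps.bwd (nat_lit 3) (Steps.bwd (nat_lit 1) (Steps.fwd (nat_lit 106496) (Steps.bwd (nat_lit 11) Steps.nil))))))))) (nat_lit 63) (nat_lit 6),
  Rule.mk (nat_lit 0) (nat_lit 78) (Steps.bwd (nat_lit 7) (Steps.bwd (nat_lit 3) (Steps.bwd (nat_lit 8) (Steps.fwd (nat_lit 24576) Steps.nil)))) (nat_lit 81) (nat_lit 2),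
  Rule.mk (nat_lit 8) (nat_lit 126) (Steps.fwd (nat_lit 147456) (Steps.bwd (nat_lit 8) (Steps.bwd (nat_lit 1) (Steps.fwd (nat_lit 16384) (Steps.bwd (nat_lit 19) (Steps.fwd (nat_lit 57344) (Steps.bwd (nat_lit 18) Steps.nil))))))) (nat_lit 87) (nat_lit 6),
  Rule.mk (nat_lit 16) (nat_lit 94) (Steps.bwd (nat_lit 19) (Steps.fwd (nat_lit 147456) (Steps.fwd (nat_lit 81920) (Steps.fwd (nat_lit 131072) (Steps.bwd (nat_lit 10) Steps.nil))))) (nat_lit 34) (nat_lit 4),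
  Rule.mk (nat_lit 0) (nat_lit 110) (Steps.fwd (nat_lit 57344) (Steps.bwd (nat_lit 1) (Steps.fwd (nat_lit 65536) (Steps.fwd (nat_lit 8192) (Steps.bwd (nat_lit 2) (Steps.fwd (nat_lit 8192) Steps.nil)))))) (nat_lit 82) (nat_lit 0),
  Rule.mk (nat_lit 8) (nat_lit 126) (Steps.bwd (nat_lit 1) (Steps.fwd (nat_lit 16384) (Steps.fwd (nat_lit 147456) (Steps.bwd (nat_lit 8) (Steps.fwd (nat_lit 155648) (Steps.bwd (nat_lit 8) (Steps.fwd (nat_lit 147456) Steps.nil))))))) (nat_lit 87) (nat_lit 0),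
  Rule.mk (nat_lit 2) (nat_lit 94) (Steps.bwd (nat_lit 2) (Steps.fwd (nat_lit 8192) (Steps.bwd (nat_lit 8) (Steps.bwd (nat_lit 1) (Steps.fwd (nat_lit 65536) Steps.nil))))) (nat_lit 82) (nat_lit 4),
  Rule.mk (nat_lit 3) (nat_lit 94) (Steps.bwd (nat_lit 2) (Steps.bwd (nat_lit 2) (Steps.fwd (nat_lit 24576) (Steps.fwd (nat_lit 16384) (Steps.bwd (nat_lit 1) Steps.nil))))) (nat_lit 6) (nat_lit 0),
  Rule.mk (nat_lit 2) (nat_lit 94) (Steps.bwd (nat_lit 7) (Steps.fwd (nat_lit 65536) (Steps.bwd (nat_lit 2) (Steps.bwd (nat_lit 2) (Steps.fwd (nat_lit 8192) Steps.nil))))) (nat_lit 78) (nat_lit 0),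
  Rule.mk (nat_lit 7) (nat_lit 94) (Steps.fwd (nat_lit 8192) (Steps.bwd (nat_lit 2) (Steps.bwd (nat_lit 2) (Steps.bwd (nat_lit 8) (Steps.bwd (nat_lit 1) Steps.nil))))) (nat_lit 82) (nat_lit 3),
  Rule.mk (nat_lit 14) (nat_lit 110) (Steps.fwd (nat_lit 16384) (Steps.bwd (nat_lit 17) (Steps.fwd (nat_lit 81920) (Steps.bwd (nat_lit 14) (Steps.bwd (nat_lit 14) (Steps.bwd (nat_lit 2) Steps.nil)))))) (nat_lit 44) (nat_lit 2),
  Rule.mk (nat_lit 16) (nat_lit 142) (Steps.fwd (nat_lit 16384) (Steps.fwd (nat_lit 131072) (Steps.fwd (nat_lit 81920) (Steps.fwd (nat_lit 131072) (Steps.fwd (nat_lit 122880) (Steps.bwd (nat_lit 12) (Steps.fwd (nat_lit 81920) (Steps.bwd (nat_lit 2) Steps.nil)))))))) (nat_lit 46) (nat_lit 2),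
  Rule.mk (nat_lit 0) (nat_lit 110) (Steps.bwd (nat_lit 8) (Steps.bwd (nat_lit 8) (Steps.bwd (nat_lit 1) (Steps.fwd (nat_lit 16384) (Steps.bwd (nat_lit 1) (Steps.fwd (nat_lit 16384) Steps.nil)))))) (nat_lit 79) (nat_lit 4),
  Rule.mk (nat_lit 0) (nat_lit 110) (Steps.bwd (nat_lit 8) (Steps.bwd (nat_lit 1) (Steps.bwd (nat_lit 7) (Steps.bwd (nat_lit 2) (Steps.fwd (nat_lit 8192) (Steps.bwd (nat_lit 2) Steps.nil)))))) (nat_lit 82) (nat_lit 0),
  Rule.mk (nat_lit 1) (nat_lit 94) (Steps.fwd (nat_lit 57344) (Steps.bwd (nat_lit 8) (Steps.fwd (nat_lit 16384) (Steps.bwd (nat_lit 1) (Steps.fwd (nat_lit 16384) Steps.nil))))) (nat_lit 79) (nat_lit 4),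
  Rule.mk (nat_lit 0) (nat_lit 110) (Steps.bwd (nat_lit 8) (Steps.bwd (nat_lit 2) (Steps.fwd (nat_lit 65536) (Steps.fwd (nat_lit 16384) (Steps.bwd (nat_lit 1) (Steps.fwd (nat_lit 16384) Steps.nil)))))) (nat_lit 83) (nat_lit 3),
  Rule.mk (nat_lit 2) (nat_lit 94) (Steps.bwd (nat_lit 7) (Steps.bwd (nat_lit 7) (Steps.bwd (nat_lit 2) (Steps.fwd (nat_lit 8192) (Steps.bwd (nat_lit 2) Steps.nil))))) (nat_lit 78) (nat_lit 0),
  Rule.mk (nat_lit 7) (nat_lit 126) (Steps.fwd (nat_lit 155648) (Steps.bwd (nat_lit 2) (Steps.bwd (nat_lit 2) (Steps.bwd (nat_lit 7) (Steps.fwd (nat_lit 155648) (Steps.bwd (nat_lit 7) (Steps.bwd (nat_lit 19) Steps.nil))))))) (nat_lit 86) (nat_lit 5),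
  Rule.mk (nat_lit 7) (nat_lit 94) (Steps.bwd (nat_lit 2) (Steps.bwd (nat_lit 2) (Steps.bwd (nat_lit 2) (Steps.bwd (nat_lit 2) (Steps.bwd (nat_lit 7) Steps.nil))))) (nat_lit 78) (nat_lit 2),
  Rule.mk (nat_lit 18) (nat_lit 78) (Steps.fwd (nat_lit 155648) (Steps.fwd (nat_lit 8192) (Steps.bwd (nat_lit 19) (Steps.bwd (nat_lit 1) Steps.nil)))) (nat_lit 49) (nat_lit 1),
  Rule.mk (nat_lit 7) (nat_lit 126) (Steps.fwd (nat_lit 147456) (Steps.bwd (nat_lit 7) (Steps.bwd (nat_lit 18) (Steps.bwd (nat_lit 2) (Steps.bwd (nat_lit 2) (Steps.bwd (nat_lit 7) (Steps.fwd (nat_lit 155648) Steps.nil))))))) (nat_lit 86) (nat_lit 3),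
  Rule.mk (nat_lit 8) (nat_lit 126) (Steps.fwd (nat_lit 16384) (Steps.fwd (nat_lit 16384) (Steps.fwd (nat_lit 147456) (Steps.bwd (nat_lit 8) (Steps.bwd (nat_lit 18) (Steps.bwd (nat_lit 8) (Steps.fwd (nat_lit 147456) Steps.nil))))))) (nat_lit 87) (nat_lit 0),
  Rule.mk (nat_lit 0) (nat_lit 78) (Steps.bwd (nat_lit 7) (Steps.bwd (nat_lit 3) (Steps.bwd (nat_lit 8) (Steps.bwd (nat_lit 4) Steps.nil)))) (nat_lit 81) (nat_lit 2),
  Rule.mk (nat_lit 0) (nat_lit 78) (Steps.bwd (nat_lit 8) (Steps.bwd (nat_lit 3) (Steps.fwd (nat_lit 65536) (Steps.fwd (nat_lit 24576) Steps.nil)))) (nat_lit 80) (nat_lit 1),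
  Rule.mk (nat_lit 8) (nat_lit 94) (Steps.fwd (nat_lit 8192) (Steps.bwd (nat_lit 7) (Steps.fwd (nat_lit 16384) (Steps.fwd (nat_lit 16384) (Steps.fwd (nat_lit 16384) Steps.nil))))) (nat_lit 83) (nat_lit 4),
  Rule.mk (nat_lit 8) (nat_lit 94) (Steps.fwd (nat_lit 16384) (Steps.fwd (nat_lit 16384) (Steps.fwd (nat_lit 16384) (Steps.fwd (nat_lit 16384) (Steps.bwd (nat_lit 8) Steps.nil))))) (nat_lit 79) (nat_lit 0),
  Rule.mk (nat_lit 8) (nat_lit 126) (Steps.bwd (nat_lit 18) (Steps.fwd (nat_lit 57344) (Steps.bwd (nat_lit 19) (Steps.bwd (nat_lit 8) (Steps.fwd (nat_lit 16384) (Steps.fwd (nat_lit 16384) (Steps.bwd (nat_lit 19) Steps.nil))))))) (nat_lit 87) (nat_lit 4)]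
noncomputable def R_54 : List (Rule) := [Rule.mk (nat_lit 13) (nat_lit 126) (Steps.bwd (nat_lit 3) (Steps.fwd (nat_lit 106496) (Steps.bwd (nat_lit 14) (Steps.bwd (nat_lit 17) (Steps.bwd (nat_lit 11) (Steps.bwd (nat_lit 17) (Steps.bwd (nat_lit 4) Steps.nil))))))) (nat_lit 51) (nat_lit 7),
  Rule.mk (nat_lit 9) (nat_lit 110) (Steps.bwd (nat_lit 19) (Steps.bwd (nat_lit 9) (Steps.bwd (nat_lit 10) (Steps.fwd (nat_lit 114688) (Steps.fwd (nat_lit 90112) (Steps.fwd (nat_lit 131072) Steps.nil)))))) (nat_lit 67) (nat_lit 5),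
  Rule.mk (nat_lit 14) (nat_lit 110) (Steps.bwd (nat_lit 3) (Steps.fwd (nat_lit 81920) (Steps.bwd (nat_lit 9) (Steps.bwd (nat_lit 11) (Steps.bwd (nat_lit 9) (Steps.fwd (nat_lit 32768) Steps.nil)))))) (nat_lit 61) (nat_lit 2),
  Rule.mk (nat_lit 12) (nat_lit 126) (Steps.bwd (nat_lit 3) (Steps.bwd (nat_lit 16) (Steps.bwd (nat_lit 10) (Steps.bwd (nat_lit 16) (Steps.fwd (nat_lit 114688) (Steps.fwd (nat_lit 98304) (Steps.bwd (nat_lit 4) Steps.nil))))))) (nat_lit 50) (nat_lit 2),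
  Rule.mk (nat_lit 11) (nat_lit 110) (Steps.bwd (nat_lit 14) (Steps.bwd (nat_lit 14) (Steps.bwd (nat_lit 2) (Steps.fwd (nat_lit 122880) (Steps.fwd (nat_lit 16384) (Steps.bwd (nat_lit 17) Steps.nil)))))) (nat_lit 44) (nat_lit 5),
  Rule.mk (nat_lit 11) (nat_lit 78) (Steps.fwd (nat_lit 81920) (Steps.fwd (nat_lit 81920) (Steps.fwd (nat_lit 81920) (Steps.bwd (nat_lit 11) Steps.nil)))) (nat_lit 21) (nat_lit 0),
  Rule.mk (nat_lit 4) (nat_lit 110) (Steps.bwd (nat_lit 9) (Steps.fwd (nat_lit 90112) (Steps.bwd (nat_lit 9) (Steps.bwd (nat_lit 10) (Steps.bwd (nat_lit 4) (Steps.fwd (nat_lit 114688) Steps.nil)))))) (nat_lit 60) (nat_lit 0),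
  Rule.mk (nat_lit 11) (nat_lit 110) (Steps.bwd (nat_lit 9) (Steps.fwd (nat_lit 32768) (Steps.fwd (nat_lit 122880) (Steps.fwd (nat_lit 32768) (Steps.fwd (nat_lit 81920) (Steps.fwd (nat_lit 73728) Steps.nil)))))) (nat_lit 61) (nat_lit 6),
  Rule.mk (nat_lit 19) (nat_lit 110) (Steps.bwd (nat_lit 9) (Steps.fwd (nat_lit 90112) (Steps.bwd (nat_lit 15) (Steps.bwd (nat_lit 10) (Steps.bwd (nat_lit 17) (Steps.bwd (nat_lit 9) Steps.nil)))))) (nat_lit 67) (nat_lit 6),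
  Rule.mk (nat_lit 15) (nat_lit 78) (Steps.fwd (nat_lit 98304) (Steps.fwd (nat_lit 122880) (Steps.fwd (nat_lit 106496) (Steps.bwd (nat_lit 19) Steps.nil)))) (nat_lit 37) (nat_lit 2),
  Rule.mk (nat_lit 14) (nat_lit 110) (Steps.bwd (nat_lit 14) (Steps.bwd (nat_lit 2) (Steps.fwd (nat_lit 122880) (Steps.bwd (nat_lit 1) (Steps.bwd (nat_lit 17) (Steps.bwd (nat_lit 11) Steps.nil)))))) (nat_lit 44) (nat_lit 6),
  Rule.mk (nat_lit 17) (nat_lit 110) (Steps.bwd (nat_lit 14) (Steps.fwd (nat_lit 24576) (Steps.bwd (nat_lit 4) (Steps.bwd (nat_lit 9) (Steps.bwd (nat_lit 16) (Steps.bwd (nat_lit 9) Steps.nil)))))) (nat_lit 64) (nat_lit 4),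
  Rule.mk (nat_lit 4) (nat_lit 126) (Steps.bwd (nat_lit 14) (Steps.fwd (nat_lit 32768) (Steps.bwd (nat_lit 14) (Steps.fwd (nat_lit 122880) (Steps.bwd (nat_lit 17) (Steps.bwd (nat_lit 11) (Steps.fwd (nat_lit 81920) Steps.nil))))))) (nat_lit 52) (nat_lit 1),
  Rule.mk (nat_lit 9) (nat_lit 158) (Steps.bwd (nat_lit 14) (Steps.bwd (nat_lit 9) (Steps.fwd (nat_lit 16384) (Steps.bwd (nat_lit 16) (Steps.fwd (nat_lit 90112) (Steps.fwd (nat_lit 98304) (Steps.fwd (nat_lit 8192) (Steps.fwd (nat_lit 24576) (Steps.fwd (nat_lit 24576) Steps.nil))))))))) (nat_lit 62) (nat_lit 1),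
  Rule.mk (nat_lit 12) (nat_lit 126) (Steps.bwd (nat_lit 3) (Steps.fwd (nat_lit 139264) (Steps.bwd (nat_lit 10) (Steps.bwd (nat_lit 16) (Steps.bwd (nat_lit 15) (Steps.fwd (nat_lit 98304) (Steps.bwd (nat_lit 4) Steps.nil))))))) (nat_lit 50) (nat_lit 2),
  Rule.mk (nat_lit 4) (nat_lit 206) (Steps.bwd (nat_lit 2) (Steps.bwd (nat_lit 9) (Steps.fwd (nat_lit 16384) (Steps.bwd (nat_lit 1) (Steps.bwd (nat_lit 10) (Steps.fwd (nat_lit 155648) (Steps.bwd (nat_lit 17) (Steps.fwd (nat_lit 73728) (Steps.fwd (nat_lit 8192) (Steps.bwd (nat_lit 3) (Steps.fwd (nat_lit 8192) (Steps.bwd (nat_lit 4) Steps.nil)))))))))))) (nat_lit 73) (nat_lit 11),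
  Rule.mk (nat_lit 9) (nat_lit 110) (Steps.bwd (nat_lit 10) (Steps.fwd (nat_lit 73728) (Steps.bwd (nat_lit 10) (Steps.fwd (nat_lit 24576) (Steps.bwd (nat_lit 15) (Steps.bwd (nat_lit 4) Steps.nil)))))) (nat_lit 60) (nat_lit 1),
  Rule.mk (nat_lit 14) (nat_lit 126) (Steps.fwd (nat_lit 32768) (Steps.fwd (nat_lit 122880) (Steps.bwd (nat_lit 14) (Steps.bwd (nat_lit 17) (Steps.fwd (nat_lit 81920) (Steps.fwd (nat_lit 81920) (Steps.bwd (nat_lit 4) Steps.nil))))))) (nat_lit 52) (nat_lit 2),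
  Rule.mk (nat_lit 10) (nat_lit 110) (Steps.bwd (nat_lit 9) (Steps.bwd (nat_lit 10) (Steps.bwd (nat_lit 4) (Steps.bwd (nat_lit 15) (Steps.bwd (nat_lit 4) (Steps.bwd (nat_lit 9) Steps.nil)))))) (nat_lit 60) (nat_lit 2),
  Rule.mk (nat_lit 15) (nat_lit 110) (Steps.bwd (nat_lit 17) (Steps.fwd (nat_lit 131072) (Steps.bwd (nat_lit 9) (Steps.bwd (nat_lit 4) (Steps.bwd (nat_lit 9) (Steps.bwd (nat_lit 10) Steps.nil)))))) (nat_lit 71) (nat_lit 2),
  Rule.mk (nat_lit 2) (nat_lit 110) (Steps.bwd (nat_lit 15) (Steps.bwd (nat_lit 1) (Steps.bwd (nat_lit 15) (Steps.bwd (nat_lit 15) (Steps.fwd (nat_lit 90112) (Steps.fwd (nat_lit 139264) Steps.nil)))))) (nat_lit 45) (nat_lit 5),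
  Rule.mk (nat_lit 16) (nat_lit 126) (Steps.bwd (nat_lit 15) (Steps.bwd (nat_lit 13) (Steps.bwd (nat_lit 4) (Steps.bwd (nat_lit 12) (Steps.fwd (nat_lit 32768) (Steps.fwd (nat_lit 139264) (Steps.fwd (nat_lit 90112) Steps.nil))))))) (nat_lit 50) (nat_lit 6),
  Rule.mk (nat_lit 9) (nat_lit 158) (Steps.bwd (nat_lit 15) (Steps.bwd (nat_lit 9) (Steps.fwd (nat_lit 32768) (Steps.bwd (nat_lit 3) (Steps.bwd (nat_lit 1) (Steps.fwd (nat_lit 106496) (Steps.bwd (nat_lit 11) (Steps.fwd (nat_lit 131072) (Steps.fwd (nat_lit 8192) Steps.nil))))))))) (nat_lit 63) (nat_lit 8),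
  Rule.mk (nat_lit 18) (nat_lit 126) (Steps.bwd (nat_lit 7) (Steps.bwd (nat_lit 19) (Steps.bwd (nat_lit 7) (Steps.fwd (nat_lit 155648) (Steps.fwd (nat_lit 8192) (Steps.fwd (nat_lit 8192) (Steps.fwd (nat_lit 65536) Steps.nil))))))) (nat_lit 86) (nat_lit 2),
  Rule.mk (nat_lit 17) (nat_lit 78) (Steps.fwd (nat_lit 114688) (Steps.fwd (nat_lit 139264) (Steps.bwd (nat_lit 14) (Steps.bwd (nat_lit 19) Steps.nil)))) (nat_lit 41) (nat_lit 2),
  Rule.mk (nat_lit 1) (nat_lit 190) (Steps.fwd (nat_lit 16384) (Steps.fwd (nat_lit 16384) (Steps.bwd (nat_lit 9) (Steps.bwd (nat_lit 12) (Steps.bwd (nat_lit 9) (Steps.bwd (nat_lit 13) (Steps.bwd (nat_lit 9) (Steps.bwd (nat_lit 12) (Steps.bwd (nat_lit 17) (Steps.fwd (nat_lit 16384) (Steps.fwd (nat_lit 122880) Steps.nil))))))))))) (nat_lit 74) (nat_lit 10),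
  Rule.mk (nat_lit 2) (nat_lit 94) (Steps.bwd (nat_lit 2) (Steps.fwd (nat_lit 65536) (Steps.bwd (nat_lit 7) (Steps.fwd (nat_lit 8192) (Steps.bwd (nat_lit 2) Steps.nil))))) (nat_lit 78) (nat_lit 5),
  Rule.mk (nat_lit 7) (nat_lit 94) (Steps.bwd (nat_lit 2) (Steps.bwd (nat_lit 2) (Steps.fwd (nat_lit 8192) (Steps.fwd (nat_lit 8192) (Steps.bwd (nat_lit 7) Steps.nil))))) (nat_lit 78) (nat_lit 2),
  Rule.mk (nat_lit 8) (nat_lit 94) (Steps.bwd (nat_lit 2) (Steps.fwd (nat_lit 65536) (Steps.fwd (nat_lit 16384) (Steps.fwd (nat_lit 16384) (Steps.bwd (nat_lit 1) Steps.nil))))) (nat_lit 83) (nat_lit 4),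
  Rule.mk (nat_lit 15) (nat_lit 110) (Steps.bwd (nat_lit 4) (Steps.bwd (nat_lit 9) (Steps.bwd (nat_lit 10) (Steps.fwd (nat_lit 73728) (Steps.fwd (nat_lit 90112) (Steps.bwd (nat_lit 4) Steps.nil)))))) (nat_lit 60) (nat_lit 6),
  Rule.mk (nat_lit 14) (nat_lit 126) (Steps.fwd (nat_lit 32768) (Steps.bwd (nat_lit 14) (Steps.bwd (nat_lit 14) (Steps.fwd (nat_lit 131072) (Steps.bwd (nat_lit 11) (Steps.bwd (nat_lit 11) (Steps.bwd (nat_lit 4) Steps.nil))))))) (nat_lit 52) (nat_lit 2),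
  Rule.mk (nat_lit 9) (nat_lit 158) (Steps.bwd (nat_lit 1) (Steps.bwd (nat_lit 16) (Steps.bwd (nat_lit 10) (Steps.bwd (nat_lit 13) (Steps.fwd (nat_lit 8192) (Steps.bwd (nat_lit 4) (Steps.bwd (nat_lit 4) (Steps.fwd (nat_lit 73728) (Steps.fwd (nat_lit 122880) Steps.nil))))))))) (nat_lit 62) (nat_lit 3),
  Rule.mk (nat_lit 4) (nat_lit 110) (Steps.bwd (nat_lit 9) (Steps.fwd (nat_lit 90112) (Steps.bwd (nat_lit 9) (Steps.bwd (nat_lit 10) (Steps.bwd (nat_lit 4) (Steps.bwd (nat_lit 15) Steps.nil)))))) (nat_lit 60) (nat_lit 0),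
  Rule.mk (nat_lit 11) (nat_lit 110) (Steps.bwd (nat_lit 9) (Steps.bwd (nat_lit 3) (Steps.bwd (nat_lit 14) (Steps.bwd (nat_lit 3) (Steps.bwd (nat_lit 11) (Steps.bwd (nat_lit 9) Steps.nil)))))) (nat_lit 61) (nat_lit 6),
  Rule.mk (nat_lit 15) (nat_lit 158) (Steps.bwd (nat_lit 9) (Steps.bwd (nat_lit 3) (Steps.bwd (nat_lit 3) (Steps.bwd (nat_lit 1) (Steps.fwd (nat_lit 106496) (Steps.bwd (nat_lit 11) (Steps.bwd (nat_lit 17) (Steps.fwd (nat_lit 8192) (Steps.bwd (nat_lit 9) Steps.nil))))))))) (nat_lit 63) (nat_lit 9),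
  Rule.mk (nat_lit 15) (nat_lit 110) (Steps.bwd (nat_lit 10) (Steps.bwd (nat_lit 16) (Steps.bwd (nat_lit 2) (Steps.fwd (nat_lit 114688) (Steps.fwd (nat_lit 16384) (Steps.bwd (nat_lit 15) Steps.nil)))))) (nat_lit 45) (nat_lit 2),
  Rule.mk (nat_lit 4) (nat_lit 110) (Steps.bwd (nat_lit 9) (Steps.bwd (nat_lit 10) (Steps.bwd (nat_lit 9) (Steps.bwd (nat_lit 10) (Steps.bwd (nat_lit 4) (Steps.bwd (nat_lit 15) Steps.nil)))))) (nat_lit 60) (nat_lit 0),
  Rule.mk (nat_lit 17) (nat_lit 126) (Steps.bwd (nat_lit 11) (Steps.bwd (nat_lit 11) (Steps.fwd (nat_lit 24576) (Steps.bwd (nat_lit 14) (Steps.fwd (nat_lit 32768) (Steps.bwd (nat_lit 14) (Steps.bwd (nat_lit 14) Steps.nil))))))) (nat_lit 52) (nat_lit 6),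
  Rule.mk (nat_lit 1) (nat_lit 206) (Steps.bwd (nat_lit 1) (Steps.fwd (nat_lit 90112) (Steps.bwd (nat_lit 18) (Steps.bwd (nat_lit 17) (Steps.bwd (nat_lit 9) (Steps.fwd (nat_lit 8192) (Steps.fwd (nat_lit 32768) (Steps.bwd (nat_lit 2) (Steps.bwd (nat_lit 4) (Steps.bwd (nat_lit 4) (Steps.bwd (nat_lit 2) (Steps.fwd (nat_lit 73728) Steps.nil)))))))))))) (nat_lit 73) (nat_lit 1),
  Rule.mk (nat_lit 14) (nat_lit 110) (Steps.bwd (nat_lit 1) (Steps.fwd (nat_lit 131072) (Steps.fwd (nat_lit 81920) (Steps.bwd (nat_lit 14) (Steps.bwd (nat_lit 14) (Steps.bwd (nat_lit 2) Steps.nil)))))) (nat_lit 44) (nat_lit 2),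
  Rule.mk (nat_lit 14) (nat_lit 158) (Steps.bwd (nat_lit 9) (Steps.bwd (nat_lit 1) (Steps.bwd (nat_lit 16) (Steps.fwd (nat_lit 90112) (Steps.fwd (nat_lit 98304) (Steps.bwd (nat_lit 2) (Steps.fwd (nat_lit 24576) (Steps.bwd (nat_lit 4) (Steps.fwd (nat_lit 73728) Steps.nil))))))))) (nat_lit 62) (nat_lit 2),
  Rule.mk (nat_lit 12) (nat_lit 190) (Steps.bwd (nat_lit 9) (Steps.bwd (nat_lit 13) (Steps.bwd (nat_lit 9) (Steps.bwd (nat_lit 12) (Steps.bwd (nat_lit 17) (Steps.bwd (nat_lit 1) (Steps.fwd (nat_lit 122880) (Steps.bwd (nat_lit 1) (Steps.bwd (nat_lit 1) (Steps.bwd (nat_lit 1) (Steps.fwd (nat_lit 73728) Steps.nil))))))))))) (nat_lit 74) (nat_lit 2),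
  Rule.mk (nat_lit 12) (nat_lit 78) (Steps.fwd (nat_lit 147456) (Steps.bwd (nat_lit 15) (Steps.fwd (nat_lit 98304) (Steps.bwd (nat_lit 14) Steps.nil)))) (nat_lit 37) (nat_lit 0),
  Rule.mk (nat_lit 9) (nat_lit 190) (Steps.fwd (nat_lit 106496) (Steps.bwd (nat_lit 17) (Steps.bwd (nat_lit 1) (Steps.bwd (nat_lit 14) (Steps.bwd (nat_lit 1) (Steps.fwd (nat_lit 16384) (Steps.fwd (nat_lit 16384) (Steps.fwd (nat_lit 73728) (Steps.bwd (nat_lit 12) (Steps.fwd (nat_lit 73728) (Steps.bwd (nat_lit 13) Steps.nil))))))))))) (nat_lit 74) (nat_lit 5),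
  Rule.mk (nat_lit 3) (nat_lit 94) (Steps.bwd (nat_lit 1) (Steps.bwd (nat_lit 1) (Steps.fwd (nat_lit 24576) (Steps.bwd (nat_lit 2) (Steps.bwd (nat_lit 2) Steps.nil))))) (nat_lit 7) (nat_lit 4),
  Rule.mk (nat_lit 9) (nat_lit 110) (Steps.bwd (nat_lit 3) (Steps.bwd (nat_lit 3) (Steps.bwd (nat_lit 15) (Steps.fwd (nat_lit 139264) (Steps.fwd (nat_lit 73728) (Steps.fwd (nat_lit 131072) Steps.nil)))))) (nat_lit 65) (nat_lit 0),
  Rule.mk (nat_lit 2) (nat_lit 126) (Steps.bwd (nat_lit 4) (Steps.bwd (nat_lit 2) (Steps.fwd (nat_lit 24576) (Steps.fwd (nat_lit 8192) (Steps.bwd (nat_lit 4) (Steps.fwd (nat_lit 8192) (Steps.bwd (nat_lit 4) Steps.nil))))))) (nat_lit 5) (nat_lit 0),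
  Rule.mk (nat_lit 9) (nat_lit 270) (Steps.bwd (nat_lit 4) (Steps.fwd (nat_lit 106496) (Steps.fwd (nat_lit 8192) (Steps.bwd (nat_lit 9) (Steps.bwd (nat_lit 2) (Steps.fwd (nat_lit 73728) (Steps.fwd (nat_lit 8192) (Steps.fwd (nat_lit 155648) (Steps.bwd (nat_lit 16) (Steps.fwd (nat_lit 90112) (Steps.fwd (nat_lit 32768) (Steps.fwd (nat_lit 16384) (Steps.bwd (nat_lit 4) (Steps.fwd (nat_lit 24576) (Steps.bwd (nat_lit 2) (Steps.bwd (nat_lit 7) Steps.nil)))))))))))))))) (nat_lit 76) (nat_lit 2),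
  Rule.mk (nat_lit 11) (nat_lit 110) (Steps.bwd (nat_lit 9) (Steps.fwd (nat_lit 32768) (Steps.bwd (nat_lit 14) (Steps.bwd (nat_lit 3) (Steps.fwd (nat_lit 81920) (Steps.bwd (nat_lit 9) Steps.nil)))))) (nat_lit 61) (nat_lit 6),
  Rule.mk (nat_lit 3) (nat_lit 110) (Steps.bwd (nat_lit 9) (Steps.fwd (nat_lit 139264) (Steps.bwd (nat_lit 16) (Steps.bwd (nat_lit 14) (Steps.bwd (nat_lit 11) (Steps.bwd (nat_lit 9) Steps.nil)))))) (nat_lit 70) (nat_lit 2),
  Rule.mk (nat_lit 15) (nat_lit 158) (Steps.bwd (nat_lit 9) (Steps.fwd (nat_lit 32768) (Steps.fwd (nat_lit 32768) (Steps.fwd (nat_lit 16384) (Steps.fwd (nat_lit 106496) (Steps.bwd (nat_lit 11) (Steps.fwd (nat_lit 131072) (Steps.fwd (nat_lit 8192) (Steps.fwd (nat_lit 73728) Steps.nil))))))))) (nat_lit 63) (nat_lit 9),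
  Rule.mk (nat_lit 14) (nat_lit 110) (Steps.bwd (nat_lit 3) (Steps.bwd (nat_lit 11) (Steps.fwd (nat_lit 73728) (Steps.bwd (nat_lit 11) (Steps.fwd (nat_lit 73728) (Steps.fwd (nat_lit 32768) Steps.nil)))))) (nat_lit 61) (nat_lit 2),
  Rule.mk (nat_lit 9) (nat_lit 110) (Steps.bwd (nat_lit 11) (Steps.fwd (nat_lit 73728) (Steps.bwd (nat_lit 3) (Steps.fwd (nat_lit 122880) (Steps.bwd (nat_lit 3) (Steps.fwd (nat_lit 81920) Steps.nil)))))) (nat_lit 61) (nat_lit 5),
  Rule.mk (nat_lit 16) (nat_lit 110) (Steps.bwd (nat_lit 11) (Steps.bwd (nat_lit 14) (Steps.bwd (nat_lit 11) (Steps.bwd (nat_lit 9) (Steps.bwd (nat_lit 18) (Steps.fwd (nat_lit 73728) Steps.nil)))))) (nat_lit 66) (nat_lit 4),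
  Rule.mk (nat_lit 17) (nat_lit 126) (Steps.bwd (nat_lit 11) (Steps.bwd (nat_lit 11) (Steps.bwd (nat_lit 4) (Steps.fwd (nat_lit 122880) (Steps.bwd (nat_lit 3) (Steps.fwd (nat_lit 122880) (Steps.fwd (nat_lit 122880) Steps.nil))))))) (nat_lit 52) (nat_lit 6),
  Rule.mk (nat_lit 18) (nat_lit 126) (Steps.bwd (nat_lit 7) (Steps.fwd (nat_lit 147456) (Steps.fwd (nat_lit 65536) (Steps.bwd (nat_lit 18) (Steps.fwd (nat_lit 8192) (Steps.fwd (nat_lit 8192) (Steps.bwd (nat_lit 7) Steps.nil))))))) (nat_lit 86) (nat_lit 2),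
  Rule.mk (nat_lit 18) (nat_lit 94) (Steps.fwd (nat_lit 81920) (Steps.bwd (nat_lit 15) (Steps.bwd (nat_lit 10) (Steps.bwd (nat_lit 14) (Steps.bwd (nat_lit 18) Steps.nil))))) (nat_lit 32) (nat_lit 0),
  Rule.mk (nat_lit 17) (nat_lit 110) (Steps.bwd (nat_lit 9) (Steps.bwd (nat_lit 3) (Steps.fwd (nat_lit 32768) (Steps.bwd (nat_lit 15) (Steps.fwd (nat_lit 139264) (Steps.fwd (nat_lit 73728) Steps.nil)))))) (nat_lit 65) (nat_lit 6),
  Rule.mk (nat_lit 3) (nat_lit 110) (Steps.bwd (nat_lit 9) (Steps.bwd (nat_lit 16) (Steps.fwd (nat_lit 139264) (Steps.bwd (nat_lit 14) (Steps.fwd (nat_lit 81920) (Steps.fwd (nat_lit 73728) Steps.nil)))))) (nat_lit 70) (nat_lit 2),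
  Rule.mk (nat_lit 13) (nat_lit 190) (Steps.bwd (nat_lit 9) (Steps.fwd (nat_lit 8192) (Steps.bwd (nat_lit 2) (Steps.bwd (nat_lit 2) (Steps.fwd (nat_lit 114688) (Steps.bwd (nat_lit 2) (Steps.fwd (nat_lit 139264) (Steps.fwd (nat_lit 98304) (Steps.fwd (nat_lit 73728) (Steps.bwd (nat_lit 12) (Steps.bwd (nat_lit 9) Steps.nil))))))))))) (nat_lit 75) (nat_lit 11),
  Rule.mk (nat_lit 12) (nat_lit 78) (Steps.fwd (nat_lit 147456) (Steps.bwd (nat_lit 15) (Steps.bwd (nat_lit 13) (Steps.bwd (nat_lit 14) Steps.nil)))) (nat_lit 37) (nat_lit 0),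
  Rule.mk (nat_lit 4) (nat_lit 78) (Steps.fwd (nat_lit 24576) (Steps.bwd (nat_lit 4) (Steps.bwd (nat_lit 4) (Steps.bwd (nat_lit 4) Steps.nil)))) (nat_lit 3) (nat_lit 0),
  Rule.mk (nat_lit 3) (nat_lit 206) (Steps.fwd (nat_lit 16384) (Steps.bwd (nat_lit 4) (Steps.fwd (nat_lit 16384) (Steps.fwd (nat_lit 90112) (Steps.bwd (nat_lit 18) (Steps.bwd (nat_lit 17) (Steps.bwd (nat_lit 9) (Steps.fwd (nat_lit 8192) (Steps.fwd (nat_lit 8192) (Steps.bwd (nat_lit 9) (Steps.fwd (nat_lit 16384) (Steps.bwd (nat_lit 3) Steps.nil)))))))))))) (nat_lit 69) (nat_lit 3),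
  Rule.mk (nat_lit 2) (nat_lit 206) (Steps.bwd (nat_lit 9) (Steps.fwd (nat_lit 16384) (Steps.bwd (nat_lit 3) (Steps.bwd (nat_lit 3) (Steps.bwd (nat_lit 1) (Steps.bwd (nat_lit 4) (Steps.bwd (nat_lit 1) (Steps.fwd (nat_lit 73728) (Steps.fwd (nat_lit 139264) (Steps.fwd (nat_lit 147456) (Steps.bwd (nat_lit 11) (Steps.bwd (nat_lit 2) Steps.nil)))))))))))) (nat_lit 72) (nat_lit 0)]
noncomputable def R_55 : List (Rule) := [Rule.mk (nat_lit 3) (nat_lit 270) (Steps.bwd (nat_lit 9) (Steps.fwd (nat_lit 57344) (Steps.fwd (nat_lit 16384) (Steps.fwd (nat_lit 32768) (Steps.bwd (nat_lit 3) (Steps.bwd (nat_lit 2) (Steps.fwd (nat_lit 24576) (Steps.bwd (nat_lit 11) (Steps.fwd (nat_lit 131072) (Steps.fwd (nat_lit 147456) (Steps.fwd (nat_lit 16384) (Steps.fwd (nat_lit 73728) (Steps.bwd (nat_lit 1) (Steps.bwd (nat_lit 9) (Steps.bwd (nat_lit 1) (Steps.bwd (nat_lit 13) Steps.nil)))))))))))))))) (nat_lit 77) (nat_lit 15),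
  Rule.mk (nat_lit 12) (nat_lit 126) (Steps.fwd (nat_lit 122880) (Steps.bwd (nat_lit 17) (Steps.fwd (nat_lit 81920) (Steps.fwd (nat_lit 131072) (Steps.bwd (nat_lit 4) (Steps.bwd (nat_lit 13) (Steps.bwd (nat_lit 3) Steps.nil))))))) (nat_lit 51) (nat_lit 1),
  Rule.mk (nat_lit 0) (nat_lit 46) (Steps.fwd (nat_lit 49152) (Steps.fwd (nat_lit 81920) Steps.nil)) (nat_lit 11) (nat_lit 0),
  Rule.mk (nat_lit 9) (nat_lit 110) (Steps.bwd (nat_lit 17) (Steps.fwd (nat_lit 73728) (Steps.bwd (nat_lit 3) (Steps.bwd (nat_lit 3) (Steps.bwd (nat_lit 15) (Steps.fwd (nat_lit 139264) Steps.nil)))))) (nat_lit 65) (nat_lit 5),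
  Rule.mk (nat_lit 9) (nat_lit 158) (Steps.fwd (nat_lit 16384) (Steps.fwd (nat_lit 139264) (Steps.bwd (nat_lit 10) (Steps.fwd (nat_lit 98304) (Steps.fwd (nat_lit 8192) (Steps.bwd (nat_lit 4) (Steps.fwd (nat_lit 24576) (Steps.fwd (nat_lit 73728) (Steps.bwd (nat_lit 14) Steps.nil))))))))) (nat_lit 62) (nat_lit 3),
  Rule.mk (nat_lit 9) (nat_lit 110) (Steps.bwd (nat_lit 10) (Steps.bwd (nat_lit 4) (Steps.fwd (nat_lit 114688) (Steps.bwd (nat_lit 4) (Steps.bwd (nat_lit 9) (Steps.fwd (nat_lit 90112) Steps.nil)))))) (nat_lit 60) (nat_lit 3),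
  Rule.mk (nat_lit 13) (nat_lit 190) (Steps.bwd (nat_lit 9) (Steps.fwd (nat_lit 8192) (Steps.bwd (nat_lit 2) (Steps.bwd (nat_lit 2) (Steps.fwd (nat_lit 114688) (Steps.bwd (nat_lit 2) (Steps.fwd (nat_lit 139264) (Steps.bwd (nat_lit 13) (Steps.fwd (nat_lit 73728) (Steps.bwd (nat_lit 12) (Steps.bwd (nat_lit 9) Steps.nil))))))))))) (nat_lit 75) (nat_lit 11),
  Rule.mk (nat_lit 1) (nat_lit 110) (Steps.bwd (nat_lit 15) (Steps.fwd (nat_lit 114688) (Steps.bwd (nat_lit 10) (Steps.fwd (nat_lit 139264) (Steps.bwd (nat_lit 2) (Steps.bwd (nat_lit 15) Steps.nil)))))) (nat_lit 45) (nat_lit 0),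
  Rule.mk (nat_lit 9) (nat_lit 206) (Steps.bwd (nat_lit 2) (Steps.bwd (nat_lit 3) (Steps.fwd (nat_lit 8192) (Steps.fwd (nat_lit 24576) (Steps.fwd (nat_lit 24576) (Steps.bwd (nat_lit 2) (Steps.fwd (nat_lit 73728) (Steps.bwd (nat_lit 1) (Steps.fwd (nat_lit 16384) (Steps.fwd (nat_lit 90112) (Steps.fwd (nat_lit 155648) (Steps.bwd (nat_lit 17) Steps.nil)))))))))))) (nat_lit 73) (nat_lit 6),
  Rule.mk (nat_lit 8) (nat_lit 94) (Steps.fwd (nat_lit 8192) (Steps.bwd (nat_lit 7) (Steps.fwd (nat_lit 16384) (Steps.bwd (nat_lit 1) (Steps.fwd (nat_lit 16384) Steps.nil))))) (nat_lit 83) (nat_lit 4),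
  Rule.mk (nat_lit 14) (nat_lit 126) (Steps.bwd (nat_lit 3) (Steps.fwd (nat_lit 122880) (Steps.bwd (nat_lit 14) (Steps.bwd (nat_lit 17) (Steps.bwd (nat_lit 11) (Steps.fwd (nat_lit 81920) (Steps.fwd (nat_lit 24576) Steps.nil))))))) (nat_lit 52) (nat_lit 2),
  Rule.mk (nat_lit 9) (nat_lit 206) (Steps.bwd (nat_lit 1) (Steps.bwd (nat_lit 3) (Steps.bwd (nat_lit 3) (Steps.fwd (nat_lit 16384) (Steps.fwd (nat_lit 24576) (Steps.fwd (nat_lit 16384) (Steps.bwd (nat_lit 9) (Steps.bwd (nat_lit 16) (Steps.bwd (nat_lit 19) (Steps.fwd (nat_lit 81920) (Steps.bwd (nat_lit 2) (Steps.bwd (nat_lit 2) Steps.nil)))))))))))) (nat_lit 72) (nat_lit 1),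
  Rule.mk (nat_lit 10) (nat_lit 94) (Steps.fwd (nat_lit 147456) (Steps.bwd (nat_lit 19) (Steps.fwd (nat_lit 114688) (Steps.fwd (nat_lit 81920) (Steps.bwd (nat_lit 14) Steps.nil))))) (nat_lit 33) (nat_lit 0),
  Rule.mk (nat_lit 12) (nat_lit 142) (Steps.fwd (nat_lit 81920) (Steps.fwd (nat_lit 8192) (Steps.fwd (nat_lit 139264) (Steps.fwd (nat_lit 16384) (Steps.fwd (nat_lit 131072) (Steps.bwd (nat_lit 11) (Steps.fwd (nat_lit 131072) (Steps.bwd (nat_lit 14) Steps.nil)))))))) (nat_lit 46) (nat_lit 8),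
  Rule.mk (nat_lit 18) (nat_lit 110) (Steps.bwd (nat_lit 9) (Steps.fwd (nat_lit 139264) (Steps.fwd (nat_lit 81920) (Steps.bwd (nat_lit 14) (Steps.bwd (nat_lit 11) (Steps.fwd (nat_lit 73728) Steps.nil)))))) (nat_lit 66) (nat_lit 2),
  Rule.mk (nat_lit 3) (nat_lit 110) (Steps.bwd (nat_lit 9) (Steps.fwd (nat_lit 139264) (Steps.bwd (nat_lit 16) (Steps.fwd (nat_lit 122880) (Steps.fwd (nat_lit 81920) (Steps.fwd (nat_lit 73728) Steps.nil)))))) (nat_lit 70) (nat_lit 2),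
  Rule.mk (nat_lit 11) (nat_lit 110) (Steps.fwd (nat_lit 73728) (Steps.bwd (nat_lit 3) (Steps.bwd (nat_lit 14) (Steps.fwd (nat_lit 32768) (Steps.bwd (nat_lit 11) (Steps.bwd (nat_lit 9) Steps.nil)))))) (nat_lit 61) (nat_lit 6),
  Rule.mk (nat_lit 14) (nat_lit 110) (Steps.bwd (nat_lit 11) (Steps.fwd (nat_lit 73728) (Steps.fwd (nat_lit 155648) (Steps.bwd (nat_lit 9) (Steps.bwd (nat_lit 16) (Steps.bwd (nat_lit 11) Steps.nil)))))) (nat_lit 66) (nat_lit 6),
  Rule.mk (nat_lit 1) (nat_lit 126) (Steps.fwd (nat_lit 32768) (Steps.fwd (nat_lit 16384) (Steps.bwd (nat_lit 3) (Steps.bwd (nat_lit 1) (Steps.fwd (nat_lit 32768) (Steps.bwd (nat_lit 1) (Steps.bwd (nat_lit 3) Steps.nil))))))) (nat_lit 4) (nat_lit 1),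
  Rule.mk (nat_lit 9) (nat_lit 190) (Steps.bwd (nat_lit 13) (Steps.bwd (nat_lit 9) (Steps.fwd (nat_lit 8192) (Steps.fwd (nat_lit 8192) (Steps.bwd (nat_lit 2) (Steps.fwd (nat_lit 114688) (Steps.bwd (nat_lit 2) (Steps.fwd (nat_lit 139264) (Steps.bwd (nat_lit 13) (Steps.bwd (nat_lit 9) (Steps.fwd (nat_lit 106496) Steps.nil))))))))))) (nat_lit 75) (nat_lit 10),
  Rule.mk (nat_lit 2) (nat_lit 206) (Steps.bwd (nat_lit 9) (Steps.bwd (nat_lit 1) (Steps.fwd (nat_lit 32768) (Steps.fwd (nat_lit 32768) (Steps.bwd (nat_lit 1) (Steps.fwd (nat_lit 24576) (Steps.bwd (nat_lit 1) (Steps.bwd (nat_lit 10) (Steps.bwd (nat_lit 18) (Steps.fwd (nat_lit 131072) (Steps.bwd (nat_lit 9) (Steps.bwd (nat_lit 2) Steps.nil)))))))))))) (nat_lit 69) (nat_lit 12),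
  Rule.mk (nat_lit 9) (nat_lit 158) (Steps.bwd (nat_lit 3) (Steps.fwd (nat_lit 32768) (Steps.bwd (nat_lit 1) (Steps.bwd (nat_lit 12) (Steps.bwd (nat_lit 11) (Steps.fwd (nat_lit 131072) (Steps.bwd (nat_lit 2) (Steps.bwd (nat_lit 9) (Steps.fwd (nat_lit 114688) Steps.nil))))))))) (nat_lit 63) (nat_lit 0),
  Rule.mk (nat_lit 9) (nat_lit 110) (Steps.bwd (nat_lit 10) (Steps.fwd (nat_lit 24576) (Steps.fwd (nat_lit 114688) (Steps.bwd (nat_lit 4) (Steps.fwd (nat_lit 73728) (Steps.bwd (nat_lit 10) Steps.nil)))))) (nat_lit 60) (nat_lit 3),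
  Rule.mk (nat_lit 10) (nat_lit 126) (Steps.bwd (nat_lit 10) (Steps.fwd (nat_lit 139264) (Steps.bwd (nat_lit 15) (Steps.bwd (nat_lit 15) (Steps.fwd (nat_lit 24576) (Steps.bwd (nat_lit 15) (Steps.bwd (nat_lit 3) Steps.nil))))))) (nat_lit 53) (nat_lit 1),
  Rule.mk (nat_lit 4) (nat_lit 110) (Steps.fwd (nat_lit 114688) (Steps.fwd (nat_lit 24576) (Steps.fwd (nat_lit 73728) (Steps.fwd (nat_lit 90112) (Steps.fwd (nat_lit 73728) (Steps.bwd (nat_lit 10) Steps.nil)))))) (nat_lit 60) (nat_lit 5),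
  Rule.mk (nat_lit 13) (nat_lit 158) (Steps.fwd (nat_lit 8192) (Steps.bwd (nat_lit 4) (Steps.fwd (nat_lit 24576) (Steps.bwd (nat_lit 9) (Steps.fwd (nat_lit 122880) (Steps.fwd (nat_lit 73728) (Steps.fwd (nat_lit 16384) (Steps.fwd (nat_lit 139264) (Steps.bwd (nat_lit 10) Steps.nil))))))))) (nat_lit 62) (nat_lit 7),
  Rule.mk (nat_lit 16) (nat_lit 270) (Steps.bwd (nat_lit 10) (Steps.bwd (nat_lit 3) (Steps.bwd (nat_lit 1) (Steps.bwd (nat_lit 4) (Steps.fwd (nat_lit 24576) (Steps.fwd (nat_lit 8192) (Steps.bwd (nat_lit 7) (Steps.fwd (nat_lit 73728) (Steps.fwd (nat_lit 24576) (Steps.fwd (nat_lit 106496) (Steps.bwd (nat_lit 2) (Steps.bwd (nat_lit 9) (Steps.fwd (nat_lit 8192) (Steps.fwd (nat_lit 73728) (Steps.bwd (nat_lit 2) (Steps.bwd (nat_lit 18) Steps.nil)))))))))))))))) (nat_lit 76) (nat_lit 11),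
  Rule.mk (nat_lit 16) (nat_lit 110) (Steps.bwd (nat_lit 9) (Steps.bwd (nat_lit 17) (Steps.bwd (nat_lit 9) (Steps.fwd (nat_lit 32768) (Steps.bwd (nat_lit 3) (Steps.fwd (nat_lit 114688) Steps.nil)))))) (nat_lit 65) (nat_lit 4),
  Rule.mk (nat_lit 16) (nat_lit 94) (Steps.bwd (nat_lit 19) (Steps.bwd (nat_lit 19) (Steps.bwd (nat_lit 11) (Steps.fwd (nat_lit 131072) (Steps.fwd (nat_lit 90112) Steps.nil))))) (nat_lit 34) (nat_lit 4),
  Rule.mk (nat_lit 10) (nat_lit 110) (Steps.bwd (nat_lit 4) (Steps.fwd (nat_lit 114688) (Steps.fwd (nat_lit 24576) (Steps.bwd (nat_lit 9) (Steps.bwd (nat_lit 10) (Steps.bwd (nat_lit 9) Steps.nil)))))) (nat_lit 60) (nat_lit 4),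
  Rule.mk (nat_lit 10) (nat_lit 110) (Steps.bwd (nat_lit 9) (Steps.bwd (nat_lit 10) (Steps.fwd (nat_lit 24576) (Steps.bwd (nat_lit 15) (Steps.bwd (nat_lit 4) (Steps.bwd (nat_lit 9) Steps.nil)))))) (nat_lit 60) (nat_lit 2),
  Rule.mk (nat_lit 14) (nat_lit 158) (Steps.bwd (nat_lit 9) (Steps.bwd (nat_lit 1) (Steps.bwd (nat_lit 16) (Steps.bwd (nat_lit 10) (Steps.bwd (nat_lit 13) (Steps.fwd (nat_lit 8192) (Steps.bwd (nat_lit 4) (Steps.bwd (nat_lit 4) (Steps.fwd (nat_lit 73728) Steps.nil))))))))) (nat_lit 62) (nat_lit 2),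
  Rule.mk (nat_lit 17) (nat_lit 126) (Steps.bwd (nat_lit 11) (Steps.fwd (nat_lit 81920) (Steps.bwd (nat_lit 4) (Steps.bwd (nat_lit 14) (Steps.bwd (nat_lit 3) (Steps.bwd (nat_lit 14) (Steps.fwd (nat_lit 122880) Steps.nil))))))) (nat_lit 52) (nat_lit 6),
  Rule.mk (nat_lit 4) (nat_lit 126) (Steps.bwd (nat_lit 2) (Steps.fwd (nat_lit 24576) (Steps.fwd (nat_lit 8192) (Steps.fwd (nat_lit 24576) (Steps.bwd (nat_lit 2) (Steps.bwd (nat_lit 4) (Steps.bwd (nat_lit 2) Steps.nil))))))) (nat_lit 5) (nat_lit 1),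
  Rule.mk (nat_lit 3) (nat_lit 110) (Steps.fwd (nat_lit 81920) (Steps.bwd (nat_lit 9) (Steps.bwd (nat_lit 11) (Steps.bwd (nat_lit 9) (Steps.bwd (nat_lit 3) (Steps.bwd (nat_lit 14) Steps.nil)))))) (nat_lit 61) (nat_lit 3),
  Rule.mk (nat_lit 14) (nat_lit 94) (Steps.bwd (nat_lit 18) (Steps.bwd (nat_lit 18) (Steps.fwd (nat_lit 81920) (Steps.bwd (nat_lit 15) (Steps.bwd (nat_lit 10) Steps.nil))))) (nat_lit 32) (nat_lit 4),
  Rule.mk (nat_lit 9) (nat_lit 110) (Steps.fwd (nat_lit 32768) (Steps.bwd (nat_lit 14) (Steps.bwd (nat_lit 3) (Steps.fwd (nat_lit 81920) (Steps.bwd (nat_lit 9) (Steps.fwd (nat_lit 81920) Steps.nil)))))) (nat_lit 61) (nat_lit 0),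
  Rule.mk (nat_lit 14) (nat_lit 126) (Steps.bwd (nat_lit 17) (Steps.bwd (nat_lit 11) (Steps.bwd (nat_lit 11) (Steps.bwd (nat_lit 4) (Steps.fwd (nat_lit 122880) (Steps.bwd (nat_lit 3) (Steps.fwd (nat_lit 122880) Steps.nil))))))) (nat_lit 52) (nat_lit 5),
  Rule.mk (nat_lit 2) (nat_lit 110) (Steps.bwd (nat_lit 14) (Steps.bwd (nat_lit 1) (Steps.fwd (nat_lit 131072) (Steps.bwd (nat_lit 11) (Steps.fwd (nat_lit 122880) (Steps.bwd (nat_lit 14) Steps.nil)))))) (nat_lit 44) (nat_lit 1),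
  Rule.mk (nat_lit 16) (nat_lit 110) (Steps.fwd (nat_lit 81920) (Steps.bwd (nat_lit 14) (Steps.bwd (nat_lit 11) (Steps.bwd (nat_lit 9) (Steps.bwd (nat_lit 18) (Steps.bwd (nat_lit 9) Steps.nil)))))) (nat_lit 66) (nat_lit 4),
  Rule.mk (nat_lit 16) (nat_lit 142) (Steps.bwd (nat_lit 1) (Steps.fwd (nat_lit 131072) (Steps.fwd (nat_lit 81920) (Steps.bwd (nat_lit 17) (Steps.bwd (nat_lit 14) (Steps.bwd (nat_lit 12) (Steps.fwd (nat_lit 81920) (Steps.fwd (nat_lit 8192) Steps.nil)))))))) (nat_lit 46) (nat_lit 2),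
  Rule.mk (nat_lit 3) (nat_lit 190) (Steps.bwd (nat_lit 1) (Steps.bwd (nat_lit 4) (Steps.bwd (nat_lit 2) (Steps.bwd (nat_lit 3) (Steps.bwd (nat_lit 1) (Steps.bwd (nat_lit 4) (Steps.bwd (nat_lit 2) (Steps.fwd (nat_lit 32768) (Steps.bwd (nat_lit 1) (Steps.fwd (nat_lit 24576) (Steps.bwd (nat_lit 2) Steps.nil))))))))))) (nat_lit 9) (nat_lit 3),
  Rule.mk (nat_lit 7) (nat_lit 286) (Steps.bwd (nat_lit 10) (Steps.fwd (nat_lit 65536) (Steps.bwd (nat_lit 9) (Steps.fwd (nat_lit 24576) (Steps.fwd (nat_lit 24576) (Steps.bwd (nat_lit 2) (Steps.fwd (nat_lit 81920) (Steps.bwd (nat_lit 1) (Steps.fwd (nat_lit 90112) (Steps.fwd (nat_lit 8192) (Steps.bwd (nat_lit 10) (Steps.bwd (nat_lit 1) (Steps.fwd (nat_lit 65536) (Steps.bwd (nat_lit 10) (Steps.bwd (nat_lit 3) (Steps.bwd (nat_lit 1) (Steps.bwd (nat_lit 4) Steps.nil))))))))))))))))) (nat_lit 57) (nat_lit 15),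
  Rule.mk (nat_lit 12) (nat_lit 126) (Steps.fwd (nat_lit 32768) (Steps.fwd (nat_lit 139264) (Steps.bwd (nat_lit 10) (Steps.fwd (nat_lit 139264) (Steps.bwd (nat_lit 15) (Steps.bwd (nat_lit 13) (Steps.bwd (nat_lit 4) Steps.nil))))))) (nat_lit 50) (nat_lit 2),
  Rule.mk (nat_lit 9) (nat_lit 110) (Steps.fwd (nat_lit 81920) (Steps.fwd (nat_lit 73728) (Steps.bwd (nat_lit 3) (Steps.fwd (nat_lit 122880) (Steps.fwd (nat_lit 32768) (Steps.bwd (nat_lit 11) Steps.nil)))))) (nat_lit 61) (nat_lit 5),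
  Rule.mk (nat_lit 7) (nat_lit 126) (Steps.fwd (nat_lit 155648) (Steps.bwd (nat_lit 2) (Steps.fwd (nat_lit 8192) (Steps.bwd (nat_lit 7) (Steps.bwd (nat_lit 18) (Steps.bwd (nat_lit 7) (Steps.bwd (nat_lit 19) Steps.nil))))))) (nat_lit 86) (nat_lit 5),
  Rule.mk (nat_lit 0) (nat_lit 110) (Steps.fwd (nat_lit 16384) (Steps.bwd (nat_lit 1) (Steps.bwd (nat_lit 1) (Steps.bwd (nat_lit 8) (Steps.bwd (nat_lit 2) (Steps.fwd (nat_lit 65536) Steps.nil)))))) (nat_lit 83) (nat_lit 0),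
  Rule.mk (nat_lit 0) (nat_lit 62) (Steps.fwd (nat_lit 65536) (Steps.bwd (nat_lit 0) (Steps.fwd (nat_lit 57344) Steps.nil))) (nat_lit 88) (nat_lit 0),
  Rule.mk (nat_lit 7) (nat_lit 94) (Steps.fwd (nat_lit 8192) (Steps.fwd (nat_lit 8192) (Steps.fwd (nat_lit 8192) (Steps.bwd (nat_lit 8) (Steps.fwd (nat_lit 16384) Steps.nil))))) (nat_lit 82) (nat_lit 3),
  Rule.mk (nat_lit 10) (nat_lit 286) (Steps.fwd (nat_lit 65536) (Steps.bwd (nat_lit 9) (Steps.bwd (nat_lit 4) (Steps.fwd (nat_lit 24576) (Steps.bwd (nat_lit 2) (Steps.fwd (nat_lit 81920) (Steps.bwd (nat_lit 1) (Steps.bwd (nat_lit 10) (Steps.bwd (nat_lit 2) (Steps.fwd (nat_lit 90112) (Steps.bwd (nat_lit 1) (Steps.bwd (nat_lit 7) (Steps.bwd (nat_lit 10) (Steps.bwd (nat_lit 3) (Steps.fwd (nat_lit 16384) (Steps.bwd (nat_lit 4) (Steps.fwd (nat_lit 65536) Steps.nil))))))))))))))))) (nat_lit 57) (nat_lit 16),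
  Rule.mk (nat_lit 16) (nat_lit 94) (Steps.bwd (nat_lit 10) (Steps.fwd (nat_lit 155648) (Steps.fwd (nat_lit 155648) (Steps.fwd (nat_lit 131072) (Steps.fwd (nat_lit 81920) Steps.nil))))) (nat_lit 35) (nat_lit 5),
  Rule.mk (nat_lit 0) (nat_lit 78) (Steps.bwd (nat_lit 3) (Steps.fwd (nat_lit 65536) (Steps.fwd (nat_lit 24576) (Steps.bwd (nat_lit 8) Steps.nil)))) (nat_lit 80) (nat_lit 2),
  Rule.mk (nat_lit 0) (nat_lit 62) (Steps.fwd (nat_lit 32768) (Steps.bwd (nat_lit 0) (Steps.fwd (nat_lit 24576) Steps.nil))) (nat_lit 88) (nat_lit 0),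
  Rule.mk (nat_lit 2) (nat_lit 126) (Steps.bwd (nat_lit 2) (Steps.bwd (nat_lit 7) (Steps.bwd (nat_lit 18) (Steps.bwd (nat_lit 7) (Steps.bwd (nat_lit 19) (Steps.fwd (nat_lit 65536) (Steps.fwd (nat_lit 155648) Steps.nil))))))) (nat_lit 86) (nat_lit 7),
  Rule.mk (nat_lit 19) (nat_lit 126) (Steps.fwd (nat_lit 57344) (Steps.fwd (nat_lit 16384) (Steps.fwd (nat_lit 16384) (Steps.bwd (nat_lit 19) (Steps.bwd (nat_lit 8) (Steps.bwd (nat_lit 18) (Steps.bwd (nat_lit 8) Steps.nil))))))) (nat_lit 87) (nat_lit 7),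
  Rule.mk (nat_lit 10) (nat_lit 110) (Steps.bwd (nat_lit 16) (Steps.bwd (nat_lit 2) (Steps.bwd (nat_lit 15) (Steps.fwd (nat_lit 16384) (Steps.bwd (nat_lit 15) (Steps.bwd (nat_lit 15) Steps.nil)))))) (nat_lit 45) (nat_lit 3),
  Rule.mk (nat_lit 8) (nat_lit 126) (Steps.bwd (nat_lit 1) (Steps.fwd (nat_lit 16384) (Steps.fwd (nat_lit 147456) (Steps.bwd (nat_lit 8) (Steps.bwd (nat_lit 18) (Steps.fwd (nat_lit 57344) (Steps.fwd (nat_lit 147456) Steps.nil))))))) (nat_lit 87) (nat_lit 0),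
  Rule.mk (nat_lit 1) (nat_lit 94) (Steps.fwd (nat_lit 65536) (Steps.fwd (nat_lit 8192) (Steps.fwd (nat_lit 8192) (Steps.bwd (nat_lit 2) (Steps.bwd (nat_lit 8) Steps.nil))))) (nat_lit 82) (nat_lit 2),
  Rule.mk (nat_lit 0) (nat_lit 78) (Steps.bwd (nat_lit 5) (Steps.bwd (nat_lit 4) (Steps.bwd (nat_lit 17) (Steps.bwd (nat_lit 3) Steps.nil)))) (nat_lit 17) (nat_lit 1),
  Rule.mk (nat_lit 8) (nat_lit 126) (Steps.bwd (nat_lit 18) (Steps.bwd (nat_lit 8) (Steps.bwd (nat_lit 19) (Steps.bwd (nat_lit 8) (Steps.fwd (nat_lit 16384) (Steps.fwd (nat_lit 16384) (Steps.bwd (nat_lit 19) Steps.nil))))))) (nat_lit 87) (nat_lit 4),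
  Rule.mk (nat_lit 18) (nat_lit 126) (Steps.bwd (nat_lit 7) (Steps.bwd (nat_lit 19) (Steps.bwd (nat_lit 7) (Steps.bwd (nat_lit 18) (Steps.bwd (nat_lit 2) (Steps.fwd (nat_lit 8192) (Steps.fwd (nat_lit 65536) Steps.nil))))))) (nat_lit 86) (nat_lit 2),
  Rule.mk (nat_lit 8) (nat_lit 126) (Steps.fwd (nat_lit 147456) (Steps.fwd (nat_lit 57344) (Steps.fwd (nat_lit 16384) (Steps.fwd (nat_lit 16384) (Steps.bwd (nat_lit 19) (Steps.bwd (nat_lit 8) (Steps.bwd (nat_lit 18) Steps.nil))))))) (nat_lit 87) (nat_lit 6),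
  Rule.mk (nat_lit 1) (nat_lit 158) (Steps.bwd (nat_lit 16) (Steps.bwd (nat_lit 10) (Steps.bwd (nat_lit 13) (Steps.fwd (nat_lit 8192) (Steps.bwd (nat_lit 4) (Steps.fwd (nat_lit 24576) (Steps.bwd (nat_lit 9) (Steps.bwd (nat_lit 14) (Steps.bwd (nat_lit 9) Steps.nil))))))))) (nat_lit 62) (nat_lit 4),
  Rule.mk (nat_lit 3) (nat_lit 126) (Steps.bwd (nat_lit 1) (Steps.fwd (nat_lit 32768) (Steps.fwd (nat_lit 16384) (Steps.fwd (nat_lit 32768) (Steps.fwd (nat_lit 16384) (Steps.bwd (nat_lit 3) (Steps.fwd (nat_lit 16384) Steps.nil))))))) (nat_lit 4) (nat_lit 0)]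
noncomputable def R_56 : List (Rule) := [Rule.mk (nat_lit 9) (nat_lit 270) (Steps.fwd (nat_lit 16384) (Steps.bwd (nat_lit 9) (Steps.bwd (nat_lit 1) (Steps.bwd (nat_lit 13) (Steps.bwd (nat_lit 3) (Steps.fwd (nat_lit 73728) (Steps.bwd (nat_lit 8) (Steps.bwd (nat_lit 1) (Steps.bwd (nat_lit 3) (Steps.fwd (nat_lit 32768) (Steps.bwd (nat_lit 2) (Steps.bwd (nat_lit 4) (Steps.fwd (nat_lit 81920) (Steps.fwd (nat_lit 131072) (Steps.bwd (nat_lit 19) (Steps.fwd (nat_lit 16384) Steps.nil)))))))))))))))) (nat_lit 77) (nat_lit 10),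
  Rule.mk (nat_lit 15) (nat_lit 158) (Steps.bwd (nat_lit 9) (Steps.bwd (nat_lit 3) (Steps.bwd (nat_lit 3) (Steps.fwd (nat_lit 16384) (Steps.bwd (nat_lit 12) (Steps.bwd (nat_lit 11) (Steps.fwd (nat_lit 131072) (Steps.bwd (nat_lit 2) (Steps.fwd (nat_lit 73728) Steps.nil))))))))) (nat_lit 63) (nat_lit 9),
  Rule.mk (nat_lit 14) (nat_lit 78) (Steps.bwd (nat_lit 18) (Steps.bwd (nat_lit 13) (Steps.fwd (nat_lit 114688) (Steps.fwd (nat_lit 106496) Steps.nil)))) (nat_lit 36) (nat_lit 4),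
  Rule.mk (nat_lit 15) (nat_lit 158) (Steps.bwd (nat_lit 9) (Steps.fwd (nat_lit 32768) (Steps.bwd (nat_lit 3) (Steps.bwd (nat_lit 1) (Steps.bwd (nat_lit 12) (Steps.bwd (nat_lit 11) (Steps.bwd (nat_lit 17) (Steps.bwd (nat_lit 2) (Steps.bwd (nat_lit 9) Steps.nil))))))))) (nat_lit 63) (nat_lit 9),
  Rule.mk (nat_lit 4) (nat_lit 286) (Steps.bwd (nat_lit 4) (Steps.bwd (nat_lit 2) (Steps.fwd (nat_lit 81920) (Steps.fwd (nat_lit 16384) (Steps.bwd (nat_lit 10) (Steps.bwd (nat_lit 2) (Steps.bwd (nat_lit 10) (Steps.fwd (nat_lit 16384) (Steps.bwd (nat_lit 7) (Steps.fwd (nat_lit 90112) (Steps.fwd (nat_lit 32768) (Steps.fwd (nat_lit 16384) (Steps.bwd (nat_lit 4) (Steps.fwd (nat_lit 65536) (Steps.fwd (nat_lit 90112) (Steps.fwd (nat_lit 65536) (Steps.fwd (nat_lit 73728) Steps.nil))))))))))))))))) (nat_lit 57) (nat_lit 1),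
  Rule.mk (nat_lit 12) (nat_lit 126) (Steps.bwd (nat_lit 3) (Steps.bwd (nat_lit 16) (Steps.bwd (nat_lit 10) (Steps.fwd (nat_lit 139264) (Steps.bwd (nat_lit 15) (Steps.fwd (nat_lit 98304) (Steps.bwd (nat_lit 4) Steps.nil))))))) (nat_lit 50) (nat_lit 2),
  Rule.mk (nat_lit 2) (nat_lit 78) (Steps.fwd (nat_lit 147456) (Steps.fwd (nat_lit 16384) (Steps.bwd (nat_lit 18) (Steps.bwd (nat_lit 18) Steps.nil)))) (nat_lit 49) (nat_lit 3),
  Rule.mk (nat_lit 15) (nat_lit 94) (Steps.fwd (nat_lit 90112) (Steps.bwd (nat_lit 14) (Steps.fwd (nat_lit 155648) (Steps.bwd (nat_lit 18) (Steps.bwd (nat_lit 11) Steps.nil))))) (nat_lit 32) (nat_lit 2),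
  Rule.mk (nat_lit 3) (nat_lit 110) (Steps.fwd (nat_lit 122880) (Steps.bwd (nat_lit 3) (Steps.bwd (nat_lit 11) (Steps.fwd (nat_lit 73728) (Steps.fwd (nat_lit 81920) (Steps.bwd (nat_lit 9) Steps.nil)))))) (nat_lit 61) (nat_lit 1),
  Rule.mk (nat_lit 7) (nat_lit 94) (Steps.fwd (nat_lit 65536) (Steps.fwd (nat_lit 8192) (Steps.fwd (nat_lit 8192) (Steps.bwd (nat_lit 2) (Steps.bwd (nat_lit 2) Steps.nil))))) (nat_lit 78) (nat_lit 1),
  Rule.mk (nat_lit 9) (nat_lit 110) (Steps.bwd (nat_lit 10) (Steps.fwd (nat_lit 114688) (Steps.fwd (nat_lit 131072) (Steps.bwd (nat_lit 17) (Steps.fwd (nat_lit 73728) (Steps.bwd (nat_lit 4) Steps.nil)))))) (nat_lit 71) (nat_lit 0),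
  Rule.mk (nat_lit 14) (nat_lit 158) (Steps.bwd (nat_lit 9) (Steps.fwd (nat_lit 16384) (Steps.bwd (nat_lit 16) (Steps.bwd (nat_lit 10) (Steps.fwd (nat_lit 98304) (Steps.bwd (nat_lit 2) (Steps.bwd (nat_lit 4) (Steps.bwd (nat_lit 4) (Steps.bwd (nat_lit 9) Steps.nil))))))))) (nat_lit 62) (nat_lit 2),
  Rule.mk (nat_lit 10) (nat_lit 110) (Steps.bwd (nat_lit 9) (Steps.fwd (nat_lit 90112) (Steps.bwd (nat_lit 4) (Steps.bwd (nat_lit 15) (Steps.fwd (nat_lit 24576) (Steps.bwd (nat_lit 9) Steps.nil)))))) (nat_lit 60) (nat_lit 2),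
  Rule.mk (nat_lit 16) (nat_lit 110) (Steps.bwd (nat_lit 9) (Steps.bwd (nat_lit 17) (Steps.bwd (nat_lit 14) (Steps.bwd (nat_lit 4) (Steps.bwd (nat_lit 4) (Steps.bwd (nat_lit 9) Steps.nil)))))) (nat_lit 64) (nat_lit 2),
  Rule.mk (nat_lit 2) (nat_lit 94) (Steps.fwd (nat_lit 8192) (Steps.fwd (nat_lit 65536) (Steps.fwd (nat_lit 65536) (Steps.bwd (nat_lit 2) (Steps.bwd (nat_lit 2) Steps.nil))))) (nat_lit 78) (nat_lit 5),
  Rule.mk (nat_lit 8) (nat_lit 94) (Steps.fwd (nat_lit 16384) (Steps.bwd (nat_lit 7) (Steps.bwd (nat_lit 2) (Steps.bwd (nat_lit 2) (Steps.fwd (nat_lit 8192) Steps.nil))))) (nat_lit 82) (nat_lit 1),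
  Rule.mk (nat_lit 2) (nat_lit 94) (Steps.bwd (nat_lit 2) (Steps.bwd (nat_lit 2) (Steps.bwd (nat_lit 2) (Steps.bwd (nat_lit 7) (Steps.fwd (nat_lit 65536) Steps.nil))))) (nat_lit 78) (nat_lit 3),
  Rule.mk (nat_lit 7) (nat_lit 94) (Steps.bwd (nat_lit 2) (Steps.fwd (nat_lit 8192) (Steps.bwd (nat_lit 2) (Steps.fwd (nat_lit 57344) (Steps.bwd (nat_lit 1) Steps.nil))))) (nat_lit 82) (nat_lit 3),
  Rule.mk (nat_lit 14) (nat_lit 110) (Steps.bwd (nat_lit 2) (Steps.fwd (nat_lit 122880) (Steps.bwd (nat_lit 1) (Steps.bwd (nat_lit 17) (Steps.bwd (nat_lit 11) (Steps.bwd (nat_lit 14) Steps.nil)))))) (nat_lit 44) (nat_lit 0),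
  Rule.mk (nat_lit 14) (nat_lit 110) (Steps.fwd (nat_lit 8192) (Steps.fwd (nat_lit 122880) (Steps.bwd (nat_lit 1) (Steps.fwd (nat_lit 131072) (Steps.fwd (nat_lit 81920) (Steps.bwd (nat_lit 14) Steps.nil)))))) (nat_lit 44) (nat_lit 0),
  Rule.mk (nat_lit 14) (nat_lit 126) (Steps.fwd (nat_lit 32768) (Steps.bwd (nat_lit 14) (Steps.bwd (nat_lit 14) (Steps.bwd (nat_lit 17) (Steps.fwd (nat_lit 81920) (Steps.bwd (nat_lit 11) (Steps.bwd (nat_lit 4) Steps.nil))))))) (nat_lit 52) (nat_lit 2),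
  Rule.mk (nat_lit 9) (nat_lit 110) (Steps.fwd (nat_lit 90112) (Steps.fwd (nat_lit 24576) (Steps.fwd (nat_lit 114688) (Steps.bwd (nat_lit 4) (Steps.fwd (nat_lit 73728) (Steps.bwd (nat_lit 10) Steps.nil)))))) (nat_lit 60) (nat_lit 3),
  Rule.mk (nat_lit 9) (nat_lit 190) (Steps.bwd (nat_lit 12) (Steps.bwd (nat_lit 17) (Steps.bwd (nat_lit 1) (Steps.bwd (nat_lit 14) (Steps.bwd (nat_lit 1) (Steps.fwd (nat_lit 16384) (Steps.fwd (nat_lit 16384) (Steps.bwd (nat_lit 9) (Steps.fwd (nat_lit 106496) (Steps.bwd (nat_lit 9) (Steps.fwd (nat_lit 98304) Steps.nil))))))))))) (nat_lit 74) (nat_lit 5),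
  Rule.mk (nat_lit 1) (nat_lit 158) (Steps.fwd (nat_lit 139264) (Steps.fwd (nat_lit 90112) (Steps.fwd (nat_lit 98304) (Steps.bwd (nat_lit 2) (Steps.bwd (nat_lit 4) (Steps.fwd (nat_lit 24576) (Steps.bwd (nat_lit 9) (Steps.bwd (nat_lit 14) (Steps.bwd (nat_lit 9) Steps.nil))))))))) (nat_lit 62) (nat_lit 4),
  Rule.mk (nat_lit 15) (nat_lit 158) (Steps.fwd (nat_lit 73728) (Steps.bwd (nat_lit 3) (Steps.bwd (nat_lit 3) (Steps.fwd (nat_lit 16384) (Steps.fwd (nat_lit 106496) (Steps.fwd (nat_lit 81920) (Steps.bwd (nat_lit 17) (Steps.bwd (nat_lit 2) (Steps.bwd (nat_lit 9) Steps.nil))))))))) (nat_lit 63) (nat_lit 9),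
  Rule.mk (nat_lit 8) (nat_lit 94) (Steps.fwd (nat_lit 8192) (Steps.fwd (nat_lit 65536) (Steps.bwd (nat_lit 1) (Steps.bwd (nat_lit 1) (Steps.bwd (nat_lit 1) Steps.nil))))) (nat_lit 83) (nat_lit 4),
  Rule.mk (nat_lit 8) (nat_lit 94) (Steps.fwd (nat_lit 16384) (Steps.bwd (nat_lit 1) (Steps.bwd (nat_lit 1) (Steps.bwd (nat_lit 1) (Steps.bwd (nat_lit 8) Steps.nil))))) (nat_lit 79) (nat_lit 0),
  Rule.mk (nat_lit 16) (nat_lit 126) (Steps.bwd (nat_lit 15) (Steps.fwd (nat_lit 114688) (Steps.bwd (nat_lit 4) (Steps.fwd (nat_lit 114688) (Steps.bwd (nat_lit 3) (Steps.bwd (nat_lit 10) (Steps.fwd (nat_lit 90112) Steps.nil))))))) (nat_lit 53) (nat_lit 3),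
  Rule.mk (nat_lit 9) (nat_lit 190) (Steps.bwd (nat_lit 13) (Steps.fwd (nat_lit 73728) (Steps.bwd (nat_lit 2) (Steps.bwd (nat_lit 2) (Steps.bwd (nat_lit 2) (Steps.bwd (nat_lit 15) (Steps.bwd (nat_lit 2) (Steps.bwd (nat_lit 16) (Steps.fwd (nat_lit 98304) (Steps.bwd (nat_lit 9) (Steps.bwd (nat_lit 12) Steps.nil))))))))))) (nat_lit 75) (nat_lit 10),
  Rule.mk (nat_lit 7) (nat_lit 94) (Steps.bwd (nat_lit 2) (Steps.fwd (nat_lit 8192) (Steps.bwd (nat_lit 2) (Steps.bwd (nat_lit 2) (Steps.bwd (nat_lit 7) Steps.nil))))) (nat_lit 78) (nat_lit 2),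
  Rule.mk (nat_lit 1) (nat_lit 94) (Steps.fwd (nat_lit 32768) (Steps.fwd (nat_lit 8192) (Steps.fwd (nat_lit 8192) (Steps.bwd (nat_lit 4) (Steps.bwd (nat_lit 1) Steps.nil))))) (nat_lit 6) (nat_lit 5),
  Rule.mk (nat_lit 11) (nat_lit 126) (Steps.bwd (nat_lit 17) (Steps.bwd (nat_lit 4) (Steps.fwd (nat_lit 98304) (Steps.fwd (nat_lit 32768) (Steps.fwd (nat_lit 106496) (Steps.bwd (nat_lit 14) (Steps.bwd (nat_lit 17) Steps.nil))))))) (nat_lit 51) (nat_lit 4),
  Rule.mk (nat_lit 9) (nat_lit 190) (Steps.bwd (nat_lit 13) (Steps.bwd (nat_lit 9) (Steps.bwd (nat_lit 12) (Steps.bwd (nat_lit 17) (Steps.fwd (nat_lit 16384) (Steps.fwd (nat_lit 122880) (Steps.fwd (nat_lit 16384) (Steps.bwd (nat_lit 1) (Steps.fwd (nat_lit 16384) (Steps.fwd (nat_lit 73728) (Steps.fwd (nat_lit 106496) Steps.nil))))))))))) (nat_lit 74) (nat_lit 3),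
  Rule.mk (nat_lit 0) (nat_lit 206) (Steps.bwd (nat_lit 2) (Steps.fwd (nat_lit 8192) (Steps.bwd (nat_lit 2) (Steps.bwd (nat_lit 15) (Steps.bwd (nat_lit 2) (Steps.bwd (nat_lit 16) (Steps.fwd (nat_lit 98304) (Steps.bwd (nat_lit 9) (Steps.fwd (nat_lit 106496) (Steps.fwd (nat_lit 73728) (Steps.bwd (nat_lit 13) (Steps.fwd (nat_lit 73728) Steps.nil)))))))))))) (nat_lit 75) (nat_lit 0),
  Rule.mk (nat_lit 7) (nat_lit 286) (Steps.fwd (nat_lit 90112) (Steps.fwd (nat_lit 32768) (Steps.fwd (nat_lit 16384) (Steps.bwd (nat_lit 4) (Steps.bwd (nat_lit 7) (Steps.bwd (nat_lit 10) (Steps.bwd (nat_lit 7) (Steps.bwd (nat_lit 9) (Steps.bwd (nat_lit 4) (Steps.bwd (nat_lit 4) (Steps.bwd (nat_lit 2) (Steps.bwd (nat_lit 11) (Steps.fwd (nat_lit 16384) (Steps.bwd (nat_lit 10) (Steps.bwd (nat_lit 2) (Steps.bwd (nat_lit 10) (Steps.fwd (nat_lit 16384) Steps.nil))))))))))))))))) (nat_lit 57) (nat_lit 10),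
  Rule.mk (nat_lit 9) (nat_lit 206) (Steps.fwd (nat_lit 8192) (Steps.fwd (nat_lit 8192) (Steps.fwd (nat_lit 73728) (Steps.fwd (nat_lit 16384) (Steps.bwd (nat_lit 3) (Steps.fwd (nat_lit 32768) (Steps.fwd (nat_lit 16384) (Steps.fwd (nat_lit 24576) (Steps.fwd (nat_lit 16384) (Steps.fwd (nat_lit 90112) (Steps.bwd (nat_lit 18) (Steps.fwd (nat_lit 131072) Steps.nil)))))))))))) (nat_lit 69) (nat_lit 10),
  Rule.mk (nat_lit 3) (nat_lit 94) (Steps.fwd (nat_lit 8192) (Steps.fwd (nat_lit 8192) (Steps.fwd (nat_lit 24576) (Steps.bwd (nat_lit 1) (Steps.bwd (nat_lit 1) Steps.nil))))) (nat_lit 6) (nat_lit 0),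
  Rule.mk (nat_lit 10) (nat_lit 78) (Steps.bwd (nat_lit 12) (Steps.fwd (nat_lit 147456) (Steps.bwd (nat_lit 11) (Steps.fwd (nat_lit 98304) Steps.nil)))) (nat_lit 19) (nat_lit 3),
  Rule.mk (nat_lit 3) (nat_lit 94) (Steps.fwd (nat_lit 16384) (Steps.bwd (nat_lit 1) (Steps.fwd (nat_lit 24576) (Steps.fwd (nat_lit 8192) (Steps.bwd (nat_lit 2) Steps.nil))))) (nat_lit 7) (nat_lit 4),
  Rule.mk (nat_lit 8) (nat_lit 94) (Steps.fwd (nat_lit 16384) (Steps.fwd (nat_lit 65536) (Steps.bwd (nat_lit 2) (Steps.fwd (nat_lit 8192) (Steps.bwd (nat_lit 2) Steps.nil))))) (nat_lit 82) (nat_lit 1),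
  Rule.mk (nat_lit 2) (nat_lit 110) (Steps.bwd (nat_lit 14) (Steps.bwd (nat_lit 1) (Steps.fwd (nat_lit 131072) (Steps.fwd (nat_lit 81920) (Steps.bwd (nat_lit 14) (Steps.fwd (nat_lit 122880) Steps.nil)))))) (nat_lit 44) (nat_lit 1),
  Rule.mk (nat_lit 3) (nat_lit 94) (Steps.bwd (nat_lit 1) (Steps.fwd (nat_lit 16384) (Steps.fwd (nat_lit 24576) (Steps.fwd (nat_lit 8192) (Steps.bwd (nat_lit 2) Steps.nil))))) (nat_lit 7) (nat_lit 4),
  Rule.mk (nat_lit 9) (nat_lit 110) (Steps.fwd (nat_lit 147456) (Steps.bwd (nat_lit 9) (Steps.fwd (nat_lit 90112) (Steps.fwd (nat_lit 114688) (Steps.bwd (nat_lit 10) (Steps.fwd (nat_lit 131072) Steps.nil)))))) (nat_lit 67) (nat_lit 5),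
  Rule.mk (nat_lit 2) (nat_lit 142) (Steps.bwd (nat_lit 17) (Steps.bwd (nat_lit 1) (Steps.fwd (nat_lit 90112) (Steps.bwd (nat_lit 13) (Steps.bwd (nat_lit 15) (Steps.bwd (nat_lit 16) (Steps.fwd (nat_lit 90112) (Steps.fwd (nat_lit 139264) Steps.nil)))))))) (nat_lit 47) (nat_lit 7),
  Rule.mk (nat_lit 2) (nat_lit 94) (Steps.fwd (nat_lit 24576) (Steps.bwd (nat_lit 1) (Steps.fwd (nat_lit 16384) (Steps.bwd (nat_lit 3) (Steps.bwd (nat_lit 2) Steps.nil))))) (nat_lit 6) (nat_lit 2),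
  Rule.mk (nat_lit 8) (nat_lit 94) (Steps.fwd (nat_lit 16384) (Steps.fwd (nat_lit 65536) (Steps.bwd (nat_lit 2) (Steps.bwd (nat_lit 2) (Steps.bwd (nat_lit 2) Steps.nil))))) (nat_lit 82) (nat_lit 1),
  Rule.mk (nat_lit 7) (nat_lit 94) (Steps.bwd (nat_lit 1) (Steps.fwd (nat_lit 16384) (Steps.bwd (nat_lit 1) (Steps.fwd (nat_lit 57344) (Steps.bwd (nat_lit 2) Steps.nil))))) (nat_lit 83) (nat_lit 0),
  Rule.mk (nat_lit 4) (nat_lit 126) (Steps.bwd (nat_lit 2) (Steps.fwd (nat_lit 24576) (Steps.fwd (nat_lit 8192) (Steps.bwd (nat_lit 4) (Steps.bwd (nat_lit 2) (Steps.bwd (nat_lit 4) (Steps.bwd (nat_lit 2) Steps.nil))))))) (nat_lit 5) (nat_lit 1),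
  Rule.mk (nat_lit 16) (nat_lit 94) (Steps.fwd (nat_lit 147456) (Steps.bwd (nat_lit 19) (Steps.bwd (nat_lit 11) (Steps.fwd (nat_lit 131072) (Steps.bwd (nat_lit 10) Steps.nil))))) (nat_lit 34) (nat_lit 4),
  Rule.mk (nat_lit 4) (nat_lit 110) (Steps.bwd (nat_lit 9) (Steps.bwd (nat_lit 10) (Steps.fwd (nat_lit 73728) (Steps.bwd (nat_lit 10) (Steps.bwd (nat_lit 4) (Steps.fwd (nat_lit 114688) Steps.nil)))))) (nat_lit 60) (nat_lit 0),
  Rule.mk (nat_lit 19) (nat_lit 110) (Steps.bwd (nat_lit 9) (Steps.bwd (nat_lit 10) (Steps.fwd (nat_lit 114688) (Steps.fwd (nat_lit 90112) (Steps.fwd (nat_lit 131072) (Steps.bwd (nat_lit 9) Steps.nil)))))) (nat_lit 67) (nat_lit 6),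
  Rule.mk (nat_lit 15) (nat_lit 158) (Steps.bwd (nat_lit 9) (Steps.fwd (nat_lit 32768) (Steps.bwd (nat_lit 3) (Steps.bwd (nat_lit 1) (Steps.fwd (nat_lit 106496) (Steps.bwd (nat_lit 11) (Steps.bwd (nat_lit 17) (Steps.bwd (nat_lit 2) (Steps.bwd (nat_lit 9) Steps.nil))))))))) (nat_lit 63) (nat_lit 9),
  Rule.mk (nat_lit 19) (nat_lit 62) (Steps.fwd (nat_lit 122880) (Steps.bwd (nat_lit 18) (Steps.bwd (nat_lit 15) Steps.nil))) (nat_lit 28) (nat_lit 2),
  Rule.mk (nat_lit 11) (nat_lit 110) (Steps.bwd (nat_lit 9) (Steps.bwd (nat_lit 11) (Steps.fwd (nat_lit 73728) (Steps.bwd (nat_lit 3) (Steps.bwd (nat_lit 14) (Steps.fwd (nat_lit 32768) Steps.nil)))))) (nat_lit 61) (nat_lit 4),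
  Rule.mk (nat_lit 14) (nat_lit 110) (Steps.fwd (nat_lit 32768) (Steps.fwd (nat_lit 81920) (Steps.fwd (nat_lit 73728) (Steps.bwd (nat_lit 11) (Steps.fwd (nat_lit 73728) (Steps.fwd (nat_lit 32768) Steps.nil)))))) (nat_lit 61) (nat_lit 2),
  Rule.mk (nat_lit 9) (nat_lit 190) (Steps.bwd (nat_lit 13) (Steps.fwd (nat_lit 73728) (Steps.fwd (nat_lit 106496) (Steps.fwd (nat_lit 131072) (Steps.fwd (nat_lit 16384) (Steps.bwd (nat_lit 14) (Steps.fwd (nat_lit 16384) (Steps.fwd (nat_lit 16384) (Steps.fwd (nat_lit 16384) (Steps.fwd (nat_lit 73728) (Steps.fwd (nat_lit 106496) Steps.nil))))))))))) (nat_lit 74) (nat_lit 3),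
  Rule.mk (nat_lit 10) (nat_lit 110) (Steps.bwd (nat_lit 9) (Steps.bwd (nat_lit 10) (Steps.bwd (nat_lit 4) (Steps.fwd (nat_lit 114688) (Steps.fwd (nat_lit 24576) (Steps.bwd (nat_lit 9) Steps.nil)))))) (nat_lit 60) (nat_lit 2),
  Rule.mk (nat_lit 8) (nat_lit 126) (Steps.fwd (nat_lit 155648) (Steps.bwd (nat_lit 8) (Steps.fwd (nat_lit 147456) (Steps.fwd (nat_lit 57344) (Steps.bwd (nat_lit 1) (Steps.fwd (nat_lit 16384) (Steps.bwd (nat_lit 19) Steps.nil))))))) (nat_lit 87) (nat_lit 4),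
  Rule.mk (nat_lit 14) (nat_lit 158) (Steps.bwd (nat_lit 9) (Steps.bwd (nat_lit 1) (Steps.fwd (nat_lit 139264) (Steps.bwd (nat_lit 10) (Steps.fwd (nat_lit 98304) (Steps.fwd (nat_lit 8192) (Steps.fwd (nat_lit 24576) (Steps.fwd (nat_lit 24576) (Steps.fwd (nat_lit 73728) Steps.nil))))))))) (nat_lit 62) (nat_lit 2),
  Rule.mk (nat_lit 7) (nat_lit 126) (Steps.fwd (nat_lit 155648) (Steps.bwd (nat_lit 7) (Steps.bwd (nat_lit 19) (Steps.bwd (nat_lit 7) (Steps.bwd (nat_lit 18) (Steps.fwd (nat_lit 8192) (Steps.bwd (nat_lit 2) Steps.nil))))))) (nat_lit 86) (nat_lit 1),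
  Rule.mk (nat_lit 2) (nat_lit 94) (Steps.bwd (nat_lit 2) (Steps.fwd (nat_lit 24576) (Steps.fwd (nat_lit 16384) (Steps.fwd (nat_lit 16384) (Steps.fwd (nat_lit 32768) Steps.nil))))) (nat_lit 6) (nat_lit 1),
  Rule.mk (nat_lit 8) (nat_lit 94) (Steps.bwd (nat_lit 2) (Steps.fwd (nat_lit 65536) (Steps.bwd (nat_lit 1) (Steps.fwd (nat_lit 16384) (Steps.bwd (nat_lit 1) Steps.nil))))) (nat_lit 83) (nat_lit 4),
  Rule.mk (nat_lit 9) (nat_lit 206) (Steps.bwd (nat_lit 2) (Steps.fwd (nat_lit 32768) (Steps.bwd (nat_lit 2) (Steps.fwd (nat_lit 24576) (Steps.fwd (nat_lit 24576) (Steps.bwd (nat_lit 2) (Steps.fwd (nat_lit 73728) (Steps.fwd (nat_lit 16384) (Steps.fwd (nat_lit 16384) (Steps.fwd (nat_lit 90112) (Steps.bwd (nat_lit 18) (Steps.bwd (nat_lit 17) Steps.nil)))))))))))) (nat_lit 73) (nat_lit 6),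
  Rule.mk (nat_lit 3) (nat_lit 126) (Steps.bwd (nat_lit 12) (Steps.bwd (nat_lit 14) (Steps.bwd (nat_lit 17) (Steps.bwd (nat_lit 11) (Steps.bwd (nat_lit 17) (Steps.bwd (nat_lit 4) (Steps.fwd (nat_lit 98304) Steps.nil))))))) (nat_lit 51) (nat_lit 0)]
noncomputable def R_57 : List (Rule) := [Rule.mk (nat_lit 0) (nat_lit 110) (Steps.bwd (nat_lit 2) (Steps.bwd (nat_lit 2) (Steps.fwd (nat_lit 24576) (Steps.fwd (nat_lit 16384) (Steps.fwd (nat_lit 16384) (Steps.bwd (nat_lit 3) Steps.nil)))))) (nat_lit 6) (nat_lit 0),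
  Rule.mk (nat_lit 18) (nat_lit 78) (Steps.bwd (nat_lit 18) (Steps.fwd (nat_lit 8192) (Steps.fwd (nat_lit 147456) (Steps.fwd (nat_lit 16384) Steps.nil)))) (nat_lit 49) (nat_lit 1),
  Rule.mk (nat_lit 8) (nat_lit 126) (Steps.bwd (nat_lit 1) (Steps.bwd (nat_lit 1) (Steps.fwd (nat_lit 147456) (Steps.bwd (nat_lit 8) (Steps.fwd (nat_lit 155648) (Steps.fwd (nat_lit 57344) (Steps.bwd (nat_lit 19) Steps.nil))))))) (nat_lit 87) (nat_lit 0),
  Rule.mk (nat_lit 0) (nat_lit 78) (Steps.bwd (nat_lit 7) (Steps.fwd (nat_lit 32768) (Steps.bwd (nat_lit 8) (Steps.bwd (nat_lit 4) Steps.nil)))) (nat_lit 81) (nat_lit 2),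
  Rule.mk (nat_lit 1) (nat_lit 94) (Steps.bwd (nat_lit 1) (Steps.bwd (nat_lit 4) (Steps.fwd (nat_lit 8192) (Steps.fwd (nat_lit 8192) (Steps.fwd (nat_lit 32768) Steps.nil))))) (nat_lit 7) (nat_lit 5),
  Rule.mk (nat_lit 7) (nat_lit 94) (Steps.bwd (nat_lit 1) (Steps.bwd (nat_lit 1) (Steps.bwd (nat_lit 1) (Steps.fwd (nat_lit 57344) (Steps.bwd (nat_lit 2) Steps.nil))))) (nat_lit 83) (nat_lit 0),
  Rule.mk (nat_lit 15) (nat_lit 110) (Steps.bwd (nat_lit 1) (Steps.fwd (nat_lit 114688) (Steps.fwd (nat_lit 114688) (Steps.bwd (nat_lit 10) (Steps.fwd (nat_lit 139264) (Steps.fwd (nat_lit 8192) Steps.nil)))))) (nat_lit 45) (nat_lit 6),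
  Rule.mk (nat_lit 1) (nat_lit 94) (Steps.bwd (nat_lit 8) (Steps.bwd (nat_lit 8) (Steps.fwd (nat_lit 16384) (Steps.bwd (nat_lit 1) (Steps.bwd (nat_lit 1) Steps.nil))))) (nat_lit 79) (nat_lit 4),
  Rule.mk (nat_lit 7) (nat_lit 94) (Steps.bwd (nat_lit 1) (Steps.bwd (nat_lit 1) (Steps.bwd (nat_lit 1) (Steps.bwd (nat_lit 8) (Steps.fwd (nat_lit 8192) Steps.nil))))) (nat_lit 83) (nat_lit 0),
  Rule.mk (nat_lit 1) (nat_lit 94) (Steps.fwd (nat_lit 16384) (Steps.fwd (nat_lit 57344) (Steps.bwd (nat_lit 8) (Steps.bwd (nat_lit 1) (Steps.bwd (nat_lit 1) Steps.nil))))) (nat_lit 79) (nat_lit 3),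
  Rule.mk (nat_lit 2) (nat_lit 94) (Steps.fwd (nat_lit 8192) (Steps.fwd (nat_lit 32768) (Steps.bwd (nat_lit 1) (Steps.bwd (nat_lit 1) (Steps.bwd (nat_lit 4) Steps.nil))))) (nat_lit 7) (nat_lit 2),
  Rule.mk (nat_lit 0) (nat_lit 142) (Steps.bwd (nat_lit 8) (Steps.fwd (nat_lit 155648) (Steps.bwd (nat_lit 8) (Steps.fwd (nat_lit 147456) (Steps.bwd (nat_lit 8) (Steps.bwd (nat_lit 1) (Steps.fwd (nat_lit 16384) (Steps.fwd (nat_lit 147456) Steps.nil)))))))) (nat_lit 87) (nat_lit 3),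
  Rule.mk (nat_lit 12) (nat_lit 126) (Steps.fwd (nat_lit 122880) (Steps.fwd (nat_lit 131072) (Steps.fwd (nat_lit 81920) (Steps.fwd (nat_lit 131072) (Steps.fwd (nat_lit 24576) (Steps.bwd (nat_lit 13) (Steps.bwd (nat_lit 3) Steps.nil))))))) (nat_lit 51) (nat_lit 1),
  Rule.mk (nat_lit 1) (nat_lit 158) (Steps.fwd (nat_lit 106496) (Steps.bwd (nat_lit 11) (Steps.fwd (nat_lit 131072) (Steps.fwd (nat_lit 8192) (Steps.fwd (nat_lit 73728) (Steps.bwd (nat_lit 15) (Steps.bwd (nat_lit 9) (Steps.bwd (nat_lit 3) (Steps.bwd (nat_lit 3) Steps.nil))))))))) (nat_lit 63) (nat_lit 3),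
  Rule.mk (nat_lit 1) (nat_lit 206) (Steps.bwd (nat_lit 1) (Steps.bwd (nat_lit 10) (Steps.fwd (nat_lit 155648) (Steps.bwd (nat_lit 17) (Steps.fwd (nat_lit 73728) (Steps.fwd (nat_lit 8192) (Steps.fwd (nat_lit 32768) (Steps.bwd (nat_lit 2) (Steps.fwd (nat_lit 24576) (Steps.fwd (nat_lit 24576) (Steps.bwd (nat_lit 2) (Steps.fwd (nat_lit 73728) Steps.nil)))))))))))) (nat_lit 73) (nat_lit 1),
  Rule.mk (nat_lit 15) (nat_lit 110) (Steps.fwd (nat_lit 16384) (Steps.bwd (nat_lit 15) (Steps.fwd (nat_lit 114688) (Steps.fwd (nat_lit 90112) (Steps.bwd (nat_lit 16) (Steps.fwd (nat_lit 8192) Steps.nil)))))) (nat_lit 45) (nat_lit 6),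
  Rule.mk (nat_lit 9) (nat_lit 110) (Steps.bwd (nat_lit 17) (Steps.bwd (nat_lit 14) (Steps.bwd (nat_lit 4) (Steps.fwd (nat_lit 24576) (Steps.bwd (nat_lit 9) (Steps.bwd (nat_lit 16) Steps.nil)))))) (nat_lit 64) (nat_lit 3),
  Rule.mk (nat_lit 7) (nat_lit 126) (Steps.bwd (nat_lit 18) (Steps.fwd (nat_lit 8192) (Steps.bwd (nat_lit 2) (Steps.fwd (nat_lit 65536) (Steps.bwd (nat_lit 18) (Steps.bwd (nat_lit 7) (Steps.fwd (nat_lit 147456) Steps.nil))))))) (nat_lit 86) (nat_lit 5),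
  Rule.mk (nat_lit 15) (nat_lit 94) (Steps.bwd (nat_lit 11) (Steps.bwd (nat_lit 14) (Steps.fwd (nat_lit 90112) (Steps.fwd (nat_lit 147456) (Steps.fwd (nat_lit 147456) Steps.nil))))) (nat_lit 33) (nat_lit 3),
  Rule.mk (nat_lit 13) (nat_lit 190) (Steps.bwd (nat_lit 9) (Steps.fwd (nat_lit 8192) (Steps.fwd (nat_lit 8192) (Steps.bwd (nat_lit 2) (Steps.bwd (nat_lit 15) (Steps.bwd (nat_lit 2) (Steps.fwd (nat_lit 139264) (Steps.bwd (nat_lit 13) (Steps.bwd (nat_lit 9) (Steps.bwd (nat_lit 12) (Steps.fwd (nat_lit 73728) Steps.nil))))))))))) (nat_lit 75) (nat_lit 11),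
  Rule.mk (nat_lit 15) (nat_lit 110) (Steps.bwd (nat_lit 15) (Steps.fwd (nat_lit 90112) (Steps.bwd (nat_lit 16) (Steps.bwd (nat_lit 2) (Steps.bwd (nat_lit 15) (Steps.bwd (nat_lit 1) Steps.nil)))))) (nat_lit 45) (nat_lit 1),
  Rule.mk (nat_lit 1) (nat_lit 190) (Steps.fwd (nat_lit 32768) (Steps.fwd (nat_lit 8192) (Steps.fwd (nat_lit 24576) (Steps.fwd (nat_lit 16384) (Steps.fwd (nat_lit 32768) (Steps.fwd (nat_lit 8192) (Steps.bwd (nat_lit 4) (Steps.bwd (nat_lit 1) (Steps.bwd (nat_lit 3) (Steps.bwd (nat_lit 2) (Steps.fwd (nat_lit 24576) Steps.nil))))))))))) (nat_lit 8) (nat_lit 3),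
  Rule.mk (nat_lit 1) (nat_lit 206) (Steps.fwd (nat_lit 32768) (Steps.fwd (nat_lit 32768) (Steps.fwd (nat_lit 16384) (Steps.fwd (nat_lit 24576) (Steps.bwd (nat_lit 1) (Steps.bwd (nat_lit 9) (Steps.fwd (nat_lit 139264) (Steps.bwd (nat_lit 19) (Steps.bwd (nat_lit 11) (Steps.fwd (nat_lit 8192) (Steps.fwd (nat_lit 8192) (Steps.fwd (nat_lit 73728) Steps.nil)))))))))))) (nat_lit 72) (nat_lit 2),
  Rule.mk (nat_lit 14) (nat_lit 110) (Steps.bwd (nat_lit 1) (Steps.bwd (nat_lit 17) (Steps.fwd (nat_lit 81920) (Steps.fwd (nat_lit 122880) (Steps.bwd (nat_lit 14) (Steps.fwd (nat_lit 8192) Steps.nil)))))) (nat_lit 44) (nat_lit 2),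
  Rule.mk (nat_lit 16) (nat_lit 142) (Steps.bwd (nat_lit 1) (Steps.bwd (nat_lit 17) (Steps.fwd (nat_lit 81920) (Steps.bwd (nat_lit 17) (Steps.fwd (nat_lit 122880) (Steps.fwd (nat_lit 106496) (Steps.bwd (nat_lit 11) (Steps.bwd (nat_lit 2) Steps.nil)))))))) (nat_lit 46) (nat_lit 2),
  Rule.mk (nat_lit 9) (nat_lit 190) (Steps.fwd (nat_lit 98304) (Steps.bwd (nat_lit 9) (Steps.fwd (nat_lit 8192) (Steps.fwd (nat_lit 8192) (Steps.fwd (nat_lit 8192) (Steps.bwd (nat_lit 15) (Steps.bwd (nat_lit 2) (Steps.bwd (nat_lit 16) (Steps.bwd (nat_lit 13) (Steps.fwd (nat_lit 73728) (Steps.bwd (nat_lit 12) Steps.nil))))))))))) (nat_lit 75) (nat_lit 10),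
  Rule.mk (nat_lit 9) (nat_lit 110) (Steps.bwd (nat_lit 3) (Steps.fwd (nat_lit 73728) (Steps.bwd (nat_lit 16) (Steps.fwd (nat_lit 139264) (Steps.bwd (nat_lit 14) (Steps.bwd (nat_lit 11) Steps.nil)))))) (nat_lit 70) (nat_lit 1),
  Rule.mk (nat_lit 9) (nat_lit 110) (Steps.fwd (nat_lit 32768) (Steps.bwd (nat_lit 9) (Steps.bwd (nat_lit 16) (Steps.bwd (nat_lit 16) (Steps.fwd (nat_lit 122880) (Steps.bwd (nat_lit 11) Steps.nil)))))) (nat_lit 70) (nat_lit 1),
  Rule.mk (nat_lit 2) (nat_lit 94) (Steps.bwd (nat_lit 2) (Steps.bwd (nat_lit 4) (Steps.fwd (nat_lit 16384) (Steps.bwd (nat_lit 1) (Steps.fwd (nat_lit 32768) Steps.nil))))) (nat_lit 6) (nat_lit 1),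
  Rule.mk (nat_lit 16) (nat_lit 110) (Steps.bwd (nat_lit 2) (Steps.bwd (nat_lit 15) (Steps.fwd (nat_lit 16384) (Steps.bwd (nat_lit 15) (Steps.fwd (nat_lit 114688) (Steps.bwd (nat_lit 10) Steps.nil)))))) (nat_lit 45) (nat_lit 4),
  Rule.mk (nat_lit 17) (nat_lit 158) (Steps.bwd (nat_lit 2) (Steps.bwd (nat_lit 9) (Steps.fwd (nat_lit 114688) (Steps.fwd (nat_lit 73728) (Steps.fwd (nat_lit 32768) (Steps.bwd (nat_lit 3) (Steps.fwd (nat_lit 16384) (Steps.fwd (nat_lit 106496) (Steps.bwd (nat_lit 11) Steps.nil))))))))) (nat_lit 63) (nat_lit 6),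
  Rule.mk (nat_lit 15) (nat_lit 190) (Steps.bwd (nat_lit 2) (Steps.fwd (nat_lit 139264) (Steps.fwd (nat_lit 98304) (Steps.bwd (nat_lit 9) (Steps.bwd (nat_lit 12) (Steps.bwd (nat_lit 9) (Steps.bwd (nat_lit 13) (Steps.bwd (nat_lit 9) (Steps.fwd (nat_lit 8192) (Steps.bwd (nat_lit 2) (Steps.bwd (nat_lit 2) Steps.nil))))))))))) (nat_lit 75) (nat_lit 4),
  Rule.mk (nat_lit 9) (nat_lit 190) (Steps.bwd (nat_lit 12) (Steps.bwd (nat_lit 9) (Steps.fwd (nat_lit 98304) (Steps.fwd (nat_lit 73728) (Steps.bwd (nat_lit 12) (Steps.fwd (nat_lit 131072) (Steps.fwd (nat_lit 16384) (Steps.fwd (nat_lit 122880) (Steps.fwd (nat_lit 16384) (Steps.fwd (nat_lit 16384) (Steps.fwd (nat_lit 16384) Steps.nil))))))))))) (nat_lit 74) (nat_lit 1),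
  Rule.mk (nat_lit 11) (nat_lit 110) (Steps.bwd (nat_lit 9) (Steps.fwd (nat_lit 32768) (Steps.bwd (nat_lit 9) (Steps.fwd (nat_lit 139264) (Steps.fwd (nat_lit 139264) (Steps.fwd (nat_lit 122880) Steps.nil)))))) (nat_lit 70) (nat_lit 0),
  Rule.mk (nat_lit 15) (nat_lit 158) (Steps.bwd (nat_lit 9) (Steps.fwd (nat_lit 32768) (Steps.bwd (nat_lit 3) (Steps.fwd (nat_lit 16384) (Steps.fwd (nat_lit 106496) (Steps.fwd (nat_lit 81920) (Steps.fwd (nat_lit 131072) (Steps.bwd (nat_lit 2) (Steps.fwd (nat_lit 73728) Steps.nil))))))))) (nat_lit 63) (nat_lit 9),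
  Rule.mk (nat_lit 14) (nat_lit 94) (Steps.fwd (nat_lit 90112) (Steps.fwd (nat_lit 147456) (Steps.fwd (nat_lit 147456) (Steps.bwd (nat_lit 15) (Steps.bwd (nat_lit 11) Steps.nil))))) (nat_lit 33) (nat_lit 5),
  Rule.mk (nat_lit 4) (nat_lit 126) (Steps.bwd (nat_lit 13) (Steps.fwd (nat_lit 32768) (Steps.bwd (nat_lit 12) (Steps.bwd (nat_lit 14) (Steps.fwd (nat_lit 131072) (Steps.fwd (nat_lit 81920) (Steps.fwd (nat_lit 131072) Steps.nil))))))) (nat_lit 51) (nat_lit 6),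
  Rule.mk (nat_lit 8) (nat_lit 94) (Steps.fwd (nat_lit 16384) (Steps.fwd (nat_lit 65536) (Steps.fwd (nat_lit 8192) (Steps.bwd (nat_lit 2) (Steps.bwd (nat_lit 2) Steps.nil))))) (nat_lit 82) (nat_lit 1),
  Rule.mk (nat_lit 7) (nat_lit 94) (Steps.fwd (nat_lit 8192) (Steps.bwd (nat_lit 2) (Steps.bwd (nat_lit 2) (Steps.fwd (nat_lit 8192) (Steps.bwd (nat_lit 7) Steps.nil))))) (nat_lit 78) (nat_lit 2),
  Rule.mk (nat_lit 15) (nat_lit 110) (Steps.bwd (nat_lit 1) (Steps.fwd (nat_lit 114688) (Steps.fwd (nat_lit 114688) (Steps.fwd (nat_lit 90112) (Steps.bwd (nat_lit 16) (Steps.bwd (nat_lit 2) Steps.nil)))))) (nat_lit 45) (nat_lit 6),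
  Rule.mk (nat_lit 3) (nat_lit 110) (Steps.bwd (nat_lit 3) (Steps.fwd (nat_lit 114688) (Steps.bwd (nat_lit 16) (Steps.bwd (nat_lit 9) (Steps.bwd (nat_lit 17) (Steps.fwd (nat_lit 73728) Steps.nil)))))) (nat_lit 65) (nat_lit 1),
  Rule.mk (nat_lit 13) (nat_lit 126) (Steps.bwd (nat_lit 3) (Steps.fwd (nat_lit 106496) (Steps.bwd (nat_lit 14) (Steps.fwd (nat_lit 131072) (Steps.bwd (nat_lit 11) (Steps.bwd (nat_lit 17) (Steps.bwd (nat_lit 4) Steps.nil))))))) (nat_lit 51) (nat_lit 7),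
  Rule.mk (nat_lit 12) (nat_lit 126) (Steps.fwd (nat_lit 32768) (Steps.bwd (nat_lit 16) (Steps.bwd (nat_lit 10) (Steps.fwd (nat_lit 139264) (Steps.bwd (nat_lit 15) (Steps.bwd (nat_lit 13) (Steps.bwd (nat_lit 4) Steps.nil))))))) (nat_lit 50) (nat_lit 2),
  Rule.mk (nat_lit 9) (nat_lit 190) (Steps.bwd (nat_lit 13) (Steps.fwd (nat_lit 73728) (Steps.fwd (nat_lit 106496) (Steps.fwd (nat_lit 131072) (Steps.fwd (nat_lit 16384) (Steps.fwd (nat_lit 122880) (Steps.fwd (nat_lit 16384) (Steps.fwd (nat_lit 16384) (Steps.fwd (nat_lit 16384) (Steps.fwd (nat_lit 73728) (Steps.fwd (nat_lit 106496) Steps.nil))))))))))) (nat_lit 74) (nat_lit 3),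
  Rule.mk (nat_lit 9) (nat_lit 110) (Steps.bwd (nat_lit 19) (Steps.bwd (nat_lit 9) (Steps.bwd (nat_lit 10) (Steps.bwd (nat_lit 15) (Steps.fwd (nat_lit 90112) (Steps.fwd (nat_lit 131072) Steps.nil)))))) (nat_lit 67) (nat_lit 5),
  Rule.mk (nat_lit 9) (nat_lit 110) (Steps.fwd (nat_lit 32768) (Steps.fwd (nat_lit 32768) (Steps.bwd (nat_lit 15) (Steps.bwd (nat_lit 16) (Steps.bwd (nat_lit 9) (Steps.fwd (nat_lit 131072) Steps.nil)))))) (nat_lit 65) (nat_lit 0),
  Rule.mk (nat_lit 9) (nat_lit 206) (Steps.fwd (nat_lit 139264) (Steps.fwd (nat_lit 147456) (Steps.fwd (nat_lit 81920) (Steps.fwd (nat_lit 8192) (Steps.bwd (nat_lit 3) (Steps.bwd (nat_lit 2) (Steps.bwd (nat_lit 4) (Steps.bwd (nat_lit 4) (Steps.bwd (nat_lit 2) (Steps.bwd (nat_lit 9) (Steps.fwd (nat_lit 16384) (Steps.fwd (nat_lit 16384) Steps.nil)))))))))))) (nat_lit 68) (nat_lit 4),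
  Rule.mk (nat_lit 16) (nat_lit 110) (Steps.fwd (nat_lit 122880) (Steps.bwd (nat_lit 11) (Steps.bwd (nat_lit 9) (Steps.bwd (nat_lit 3) (Steps.bwd (nat_lit 9) (Steps.fwd (nat_lit 139264) Steps.nil)))))) (nat_lit 70) (nat_lit 5),
  Rule.mk (nat_lit 9) (nat_lit 110) (Steps.bwd (nat_lit 16) (Steps.bwd (nat_lit 9) (Steps.bwd (nat_lit 17) (Steps.bwd (nat_lit 14) (Steps.bwd (nat_lit 4) (Steps.fwd (nat_lit 24576) Steps.nil)))))) (nat_lit 64) (nat_lit 1),
  Rule.mk (nat_lit 9) (nat_lit 270) (Steps.bwd (nat_lit 8) (Steps.bwd (nat_lit 1) (Steps.bwd (nat_lit 3) (Steps.bwd (nat_lit 3) (Steps.fwd (nat_lit 8192) (Steps.bwd (nat_lit 4) (Steps.bwd (nat_lit 11) (Steps.fwd (nat_lit 131072) (Steps.bwd (nat_lit 19) (Steps.bwd (nat_lit 1) (Steps.fwd (nat_lit 73728) (Steps.fwd (nat_lit 16384) (Steps.fwd (nat_lit 73728) (Steps.fwd (nat_lit 16384) (Steps.bwd (nat_lit 13) (Steps.bwd (nat_lit 3) Steps.nil)))))))))))))))) (nat_lit 77) (nat_lit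 16),
  Rule.mk (nat_lit 16) (nat_lit 110) (Steps.bwd (nat_lit 9) (Steps.fwd (nat_lit 131072) (Steps.bwd (nat_lit 14) (Steps.bwd (nat_lit 4) (Steps.bwd (nat_lit 4) (Steps.fwd (nat_lit 73728) Steps.nil)))))) (nat_lit 64) (nat_lit 2),
  Rule.mk (nat_lit 1) (nat_lit 206) (Steps.bwd (nat_lit 9) (Steps.fwd (nat_lit 139264) (Steps.bwd (nat_lit 19) (Steps.bwd (nat_lit 11) (Steps.bwd (nat_lit 2) (Steps.bwd (nat_lit 2) (Steps.bwd (nat_lit 9) (Steps.fwd (nat_lit 16384) (Steps.bwd (nat_lit 3) (Steps.bwd (nat_lit 3) (Steps.bwd (nat_lit 1) (Steps.bwd (nat_lit 4) Steps.nil)))))))))))) (nat_lit 72) (nat_lit 7),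
  Rule.mk (nat_lit 17) (nat_lit 110) (Steps.bwd (nat_lit 14) (Steps.bwd (nat_lit 4) (Steps.fwd (nat_lit 24576) (Steps.bwd (nat_lit 9) (Steps.fwd (nat_lit 139264) (Steps.fwd (nat_lit 73728) Steps.nil)))))) (nat_lit 64) (nat_lit 4),
  Rule.mk (nat_lit 11) (nat_lit 110) (Steps.bwd (nat_lit 9) (Steps.bwd (nat_lit 11) (Steps.fwd (nat_lit 73728) (Steps.bwd (nat_lit 3) (Steps.fwd (nat_lit 122880) (Steps.bwd (nat_lit 3) Steps.nil)))))) (nat_lit 61) (nat_lit 4),
  Rule.mk (nat_lit 4) (nat_lit 110) (Steps.bwd (nat_lit 9) (Steps.fwd (nat_lit 90112) (Steps.bwd (nat_lit 15) (Steps.fwd (nat_lit 131072) (Steps.fwd (nat_lit 131072) (Steps.fwd (nat_lit 73728) Steps.nil)))))) (nat_lit 71) (nat_lit 6),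
  Rule.mk (nat_lit 17) (nat_lit 110) (Steps.bwd (nat_lit 9) (Steps.fwd (nat_lit 24576) (Steps.fwd (nat_lit 73728) (Steps.fwd (nat_lit 90112) (Steps.bwd (nat_lit 15) (Steps.fwd (nat_lit 131072) Steps.nil)))))) (nat_lit 71) (nat_lit 4),
  Rule.mk (nat_lit 15) (nat_lit 78) (Steps.fwd (nat_lit 139264) (Steps.fwd (nat_lit 122880) (Steps.fwd (nat_lit 147456) (Steps.bwd (nat_lit 17) Steps.nil)))) (nat_lit 41) (nat_lit 3),
  Rule.mk (nat_lit 1) (nat_lit 110) (Steps.bwd (nat_lit 15) (Steps.bwd (nat_lit 15) (Steps.bwd (nat_lit 10) (Steps.fwd (nat_lit 139264) (Steps.bwd (nat_lit 2) (Steps.bwd (nat_lit 15) Steps.nil)))))) (nat_lit 45) (nat_lit 0),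
  Rule.mk (nat_lit 9) (nat_lit 110) (Steps.fwd (nat_lit 90112) (Steps.fwd (nat_lit 73728) (Steps.bwd (nat_lit 10) (Steps.bwd (nat_lit 4) (Steps.bwd (nat_lit 15) (Steps.fwd (nat_lit 24576) Steps.nil)))))) (nat_lit 60) (nat_lit 1),
  Rule.mk (nat_lit 9) (nat_lit 110) (Steps.bwd (nat_lit 18) (Steps.fwd (nat_lit 73728) (Steps.fwd (nat_lit 139264) (Steps.bwd (nat_lit 11) (Steps.fwd (nat_lit 122880) (Steps.bwd (nat_lit 11) Steps.nil)))))) (nat_lit 66) (nat_lit 1),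
  Rule.mk (nat_lit 7) (nat_lit 126) (Steps.bwd (nat_lit 18) (Steps.fwd (nat_lit 65536) (Steps.fwd (nat_lit 147456) (Steps.bwd (nat_lit 7) (Steps.fwd (nat_lit 155648) (Steps.fwd (nat_lit 8192) (Steps.bwd (nat_lit 2) Steps.nil))))))) (nat_lit 86) (nat_lit 1),
  Rule.mk (nat_lit 14) (nat_lit 78) (Steps.fwd (nat_lit 155648) (Steps.fwd (nat_lit 98304) (Steps.bwd (nat_lit 15) (Steps.bwd (nat_lit 12) Steps.nil)))) (nat_lit 36) (nat_lit 4),
  Rule.mk (nat_lit 11) (nat_lit 110) (Steps.bwd (nat_lit 9) (Steps.fwd (nat_lit 32768) (Steps.fwd (nat_lit 122880) (Steps.bwd (nat_lit 3) (Steps.bwd (nat_lit 11) (Steps.fwd (nat_lit 73728) Steps.nil)))))) (nat_lit 61) (nat_lit 6),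
  Rule.mk (nat_lit 3) (nat_lit 110) (Steps.bwd (nat_lit 9) (Steps.bwd (nat_lit 16) (Steps.fwd (nat_lit 139264) (Steps.fwd (nat_lit 122880) (Steps.fwd (nat_lit 81920) (Steps.fwd (nat_lit 73728) Steps.nil)))))) (nat_lit 70) (nat_lit 2)]
noncomputable def R_58 : List (Rule) := [Rule.mk (nat_lit 16) (nat_lit 126) (Steps.bwd (nat_lit 15) (Steps.bwd (nat_lit 13) (Steps.bwd (nat_lit 4) (Steps.fwd (nat_lit 106496) (Steps.bwd (nat_lit 3) (Steps.bwd (nat_lit 16) (Steps.bwd (nat_lit 10) Steps.nil))))))) (nat_lit 50) (nat_lit 6),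
  Rule.mk (nat_lit 10) (nat_lit 78) (Steps.fwd (nat_lit 155648) (Steps.fwd (nat_lit 98304) (Steps.bwd (nat_lit 11) (Steps.bwd (nat_lit 12) Steps.nil)))) (nat_lit 18) (nat_lit 0),
  Rule.mk (nat_lit 14) (nat_lit 94) (Steps.fwd (nat_lit 155648) (Steps.bwd (nat_lit 18) (Steps.fwd (nat_lit 81920) (Steps.bwd (nat_lit 15) (Steps.bwd (nat_lit 10) Steps.nil))))) (nat_lit 32) (nat_lit 4),
  Rule.mk (nat_lit 9) (nat_lit 110) (Steps.bwd (nat_lit 3) (Steps.fwd (nat_lit 32768) (Steps.bwd (nat_lit 15) (Steps.fwd (nat_lit 139264) (Steps.bwd (nat_lit 9) (Steps.bwd (nat_lit 17) Steps.nil)))))) (nat_lit 65) (nat_lit 0),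
  Rule.mk (nat_lit 19) (nat_lit 110) (Steps.bwd (nat_lit 9) (Steps.bwd (nat_lit 10) (Steps.fwd (nat_lit 114688) (Steps.fwd (nat_lit 90112) (Steps.bwd (nat_lit 17) (Steps.fwd (nat_lit 73728) Steps.nil)))))) (nat_lit 67) (nat_lit 6),
  Rule.mk (nat_lit 14) (nat_lit 158) (Steps.bwd (nat_lit 9) (Steps.fwd (nat_lit 16384) (Steps.bwd (nat_lit 16) (Steps.bwd (nat_lit 10) (Steps.fwd (nat_lit 98304) (Steps.fwd (nat_lit 8192) (Steps.bwd (nat_lit 4) (Steps.bwd (nat_lit 4) (Steps.bwd (nat_lit 9) Steps.nil))))))))) (nat_lit 62) (nat_lit 2),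
  Rule.mk (nat_lit 13) (nat_lit 190) (Steps.bwd (nat_lit 9) (Steps.bwd (nat_lit 12) (Steps.bwd (nat_lit 17) (Steps.fwd (nat_lit 16384) (Steps.bwd (nat_lit 14) (Steps.bwd (nat_lit 1) (Steps.bwd (nat_lit 1) (Steps.fwd (nat_lit 16384) (Steps.fwd (nat_lit 73728) (Steps.fwd (nat_lit 106496) (Steps.bwd (nat_lit 9) Steps.nil))))))))))) (nat_lit 74) (nat_lit 4),
  Rule.mk (nat_lit 10) (nat_lit 78) (Steps.fwd (nat_lit 106496) (Steps.fwd (nat_lit 147456) (Steps.fwd (nat_lit 81920) (Steps.bwd (nat_lit 13) Steps.nil)))) (nat_lit 19) (nat_lit 3),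
  Rule.mk (nat_lit 12) (nat_lit 158) (Steps.bwd (nat_lit 11) (Steps.bwd (nat_lit 17) (Steps.bwd (nat_lit 2) (Steps.bwd (nat_lit 9) (Steps.bwd (nat_lit 15) (Steps.fwd (nat_lit 73728) (Steps.fwd (nat_lit 32768) (Steps.fwd (nat_lit 32768) (Steps.fwd (nat_lit 16384) Steps.nil))))))))) (nat_lit 63) (nat_lit 4),
  Rule.mk (nat_lit 2) (nat_lit 206) (Steps.bwd (nat_lit 9) (Steps.bwd (nat_lit 1) (Steps.bwd (nat_lit 3) (Steps.fwd (nat_lit 32768) (Steps.bwd (nat_lit 1) (Steps.bwd (nat_lit 4) (Steps.fwd (nat_lit 16384) (Steps.bwd (nat_lit 9) (Steps.bwd (nat_lit 16) (Steps.bwd (nat_lit 19) (Steps.bwd (nat_lit 11) (Steps.bwd (nat_lit 2) Steps.nil)))))))))))) (nat_lit 72) (nat_lit 0),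
  Rule.mk (nat_lit 15) (nat_lit 110) (Steps.fwd (nat_lit 16384) (Steps.fwd (nat_lit 114688) (Steps.bwd (nat_lit 15) (Steps.bwd (nat_lit 10) (Steps.fwd (nat_lit 139264) (Steps.bwd (nat_lit 2) Steps.nil)))))) (nat_lit 45) (nat_lit 6),
  Rule.mk (nat_lit 14) (nat_lit 94) (Steps.fwd (nat_lit 155648) (Steps.bwd (nat_lit 18) (Steps.bwd (nat_lit 11) (Steps.bwd (nat_lit 15) (Steps.bwd (nat_lit 10) Steps.nil))))) (nat_lit 32) (nat_lit 4),
  Rule.mk (nat_lit 14) (nat_lit 126) (Steps.bwd (nat_lit 14) (Steps.fwd (nat_lit 131072) (Steps.bwd (nat_lit 11) (Steps.fwd (nat_lit 81920) (Steps.fwd (nat_lit 24576) (Steps.fwd (nat_lit 122880) (Steps.fwd (nat_lit 32768) Steps.nil))))))) (nat_lit 52) (nat_lit 4),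
  Rule.mk (nat_lit 9) (nat_lit 110) (Steps.bwd (nat_lit 19) (Steps.fwd (nat_lit 73728) (Steps.fwd (nat_lit 90112) (Steps.bwd (nat_lit 15) (Steps.fwd (nat_lit 90112) (Steps.fwd (nat_lit 131072) Steps.nil)))))) (nat_lit 67) (nat_lit 5),
  Rule.mk (nat_lit 14) (nat_lit 158) (Steps.bwd (nat_lit 9) (Steps.bwd (nat_lit 1) (Steps.fwd (nat_lit 139264) (Steps.fwd (nat_lit 90112) (Steps.fwd (nat_lit 98304) (Steps.bwd (nat_lit 2) (Steps.bwd (nat_lit 4) (Steps.fwd (nat_lit 24576) (Steps.bwd (nat_lit 9) Steps.nil))))))))) (nat_lit 62) (nat_lit 2),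
  Rule.mk (nat_lit 12) (nat_lit 78) (Steps.bwd (nat_lit 19) (Steps.fwd (nat_lit 114688) (Steps.fwd (nat_lit 98304) (Steps.bwd (nat_lit 14) Steps.nil)))) (nat_lit 37) (nat_lit 0),
  Rule.mk (nat_lit 2) (nat_lit 110) (Steps.fwd (nat_lit 122880) (Steps.fwd (nat_lit 16384) (Steps.bwd (nat_lit 17) (Steps.bwd (nat_lit 11) (Steps.fwd (nat_lit 122880) (Steps.bwd (nat_lit 14) Steps.nil)))))) (nat_lit 44) (nat_lit 1),
  Rule.mk (nat_lit 17) (nat_lit 110) (Steps.bwd (nat_lit 9) (Steps.bwd (nat_lit 4) (Steps.fwd (nat_lit 73728) (Steps.fwd (nat_lit 90112) (Steps.fwd (nat_lit 114688) (Steps.fwd (nat_lit 131072) Steps.nil)))))) (nat_lit 71) (nat_lit 4),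
  Rule.mk (nat_lit 1) (nat_lit 270) (Steps.bwd (nat_lit 9) (Steps.fwd (nat_lit 16384) (Steps.bwd (nat_lit 9) (Steps.bwd (nat_lit 1) (Steps.fwd (nat_lit 98304) (Steps.bwd (nat_lit 3) (Steps.fwd (nat_lit 73728) (Steps.bwd (nat_lit 8) (Steps.bwd (nat_lit 1) (Steps.bwd (nat_lit 3) (Steps.bwd (nat_lit 3) (Steps.bwd (nat_lit 2) (Steps.fwd (nat_lit 24576) (Steps.bwd (nat_lit 11) (Steps.bwd (nat_lit 17) (Steps.fwd (nat_lit 147456) Steps.nil)))))))))))))))) (nat_lit 77) (nat_lit 9),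
  Rule.mk (nat_lit 7) (nat_lit 94) (Steps.bwd (nat_lit 2) (Steps.bwd (nat_lit 2) (Steps.bwd (nat_lit 2) (Steps.bwd (nat_lit 8) (Steps.bwd (nat_lit 1) Steps.nil))))) (nat_lit 82) (nat_lit 3),
  Rule.mk (nat_lit 2) (nat_lit 206) (Steps.bwd (nat_lit 9) (Steps.bwd (nat_lit 1) (Steps.fwd (nat_lit 32768) (Steps.fwd (nat_lit 32768) (Steps.fwd (nat_lit 16384) (Steps.bwd (nat_lit 4) (Steps.bwd (nat_lit 1) (Steps.bwd (nat_lit 10) (Steps.fwd (nat_lit 155648) (Steps.bwd (nat_lit 17) (Steps.bwd (nat_lit 9) (Steps.fwd (nat_lit 8192) Steps.nil)))))))))))) (nat_lit 69) (nat_lit 12),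
  Rule.mk (nat_lit 7) (nat_lit 126) (Steps.fwd (nat_lit 155648) (Steps.bwd (nat_lit 7) (Steps.bwd (nat_lit 19) (Steps.fwd (nat_lit 65536) (Steps.bwd (nat_lit 18) (Steps.fwd (nat_lit 8192) (Steps.bwd (nat_lit 2) Steps.nil))))))) (nat_lit 86) (nat_lit 1),
  Rule.mk (nat_lit 4) (nat_lit 126) (Steps.bwd (nat_lit 12) (Steps.fwd (nat_lit 32768) (Steps.fwd (nat_lit 139264) (Steps.bwd (nat_lit 10) (Steps.bwd (nat_lit 16) (Steps.fwd (nat_lit 114688) (Steps.bwd (nat_lit 13) Steps.nil))))))) (nat_lit 50) (nat_lit 1),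
  Rule.mk (nat_lit 15) (nat_lit 110) (Steps.fwd (nat_lit 16384) (Steps.fwd (nat_lit 114688) (Steps.fwd (nat_lit 114688) (Steps.fwd (nat_lit 90112) (Steps.fwd (nat_lit 139264) (Steps.bwd (nat_lit 2) Steps.nil)))))) (nat_lit 45) (nat_lit 6),
  Rule.mk (nat_lit 4) (nat_lit 190) (Steps.bwd (nat_lit 1) (Steps.fwd (nat_lit 32768) (Steps.bwd (nat_lit 2) (Steps.bwd (nat_lit 4) (Steps.fwd (nat_lit 16384) (Steps.fwd (nat_lit 32768) (Steps.bwd (nat_lit 2) (Steps.bwd (nat_lit 4) (Steps.bwd (nat_lit 1) (Steps.fwd (nat_lit 32768) (Steps.fwd (nat_lit 8192) Steps.nil))))))))))) (nat_lit 8) (nat_lit 2),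
  Rule.mk (nat_lit 11) (nat_lit 126) (Steps.bwd (nat_lit 4) (Steps.bwd (nat_lit 14) (Steps.fwd (nat_lit 32768) (Steps.fwd (nat_lit 122880) (Steps.bwd (nat_lit 14) (Steps.fwd (nat_lit 131072) (Steps.bwd (nat_lit 11) Steps.nil))))))) (nat_lit 52) (nat_lit 0),
  Rule.mk (nat_lit 9) (nat_lit 158) (Steps.fwd (nat_lit 16384) (Steps.fwd (nat_lit 139264) (Steps.bwd (nat_lit 10) (Steps.bwd (nat_lit 13) (Steps.fwd (nat_lit 8192) (Steps.bwd (nat_lit 4) (Steps.bwd (nat_lit 4) (Steps.bwd (nat_lit 9) (Steps.fwd (nat_lit 122880) Steps.nil))))))))) (nat_lit 62) (nat_lit 3),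
  Rule.mk (nat_lit 4) (nat_lit 94) (Steps.bwd (nat_lit 2) (Steps.fwd (nat_lit 8192) (Steps.fwd (nat_lit 32768) (Steps.bwd (nat_lit 1) (Steps.fwd (nat_lit 16384) Steps.nil))))) (nat_lit 7) (nat_lit 1),
  Rule.mk (nat_lit 9) (nat_lit 110) (Steps.bwd (nat_lit 10) (Steps.fwd (nat_lit 73728) (Steps.bwd (nat_lit 10) (Steps.bwd (nat_lit 4) (Steps.fwd (nat_lit 114688) (Steps.bwd (nat_lit 4) Steps.nil)))))) (nat_lit 60) (nat_lit 1),
  Rule.mk (nat_lit 14) (nat_lit 158) (Steps.bwd (nat_lit 9) (Steps.fwd (nat_lit 16384) (Steps.fwd (nat_lit 139264) (Steps.fwd (nat_lit 90112) (Steps.bwd (nat_lit 13) (Steps.bwd (nat_lit 2) (Steps.fwd (nat_lit 24576) (Steps.bwd (nat_lit 4) (Steps.bwd (nat_lit 9) Steps.nil))))))))) (nat_lit 62) (nat_lit 2),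
  Rule.mk (nat_lit 10) (nat_lit 94) (Steps.fwd (nat_lit 122880) (Steps.bwd (nat_lit 18) (Steps.fwd (nat_lit 155648) (Steps.bwd (nat_lit 11) (Steps.bwd (nat_lit 15) Steps.nil))))) (nat_lit 32) (nat_lit 3),
  Rule.mk (nat_lit 9) (nat_lit 110) (Steps.bwd (nat_lit 3) (Steps.bwd (nat_lit 9) (Steps.fwd (nat_lit 139264) (Steps.fwd (nat_lit 139264) (Steps.bwd (nat_lit 14) (Steps.fwd (nat_lit 81920) Steps.nil)))))) (nat_lit 70) (nat_lit 1),
  Rule.mk (nat_lit 1) (nat_lit 126) (Steps.bwd (nat_lit 3) (Steps.fwd (nat_lit 16384) (Steps.fwd (nat_lit 32768) (Steps.bwd (nat_lit 1) (Steps.fwd (nat_lit 32768) (Steps.fwd (nat_lit 16384) (Steps.fwd (nat_lit 32768) Steps.nil))))))) (nat_lit 4) (nat_lit 1),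
  Rule.mk (nat_lit 7) (nat_lit 158) (Steps.bwd (nat_lit 18) (Steps.fwd (nat_lit 65536) (Steps.fwd (nat_lit 155648) (Steps.bwd (nat_lit 7) (Steps.fwd (nat_lit 155648) (Steps.bwd (nat_lit 7) (Steps.fwd (nat_lit 155648) (Steps.bwd (nat_lit 7) (Steps.bwd (nat_lit 18) Steps.nil))))))))) (nat_lit 84) (nat_lit 1),
  Rule.mk (nat_lit 9) (nat_lit 110) (Steps.fwd (nat_lit 81920) (Steps.fwd (nat_lit 73728) (Steps.fwd (nat_lit 32768) (Steps.fwd (nat_lit 122880) (Steps.bwd (nat_lit 3) (Steps.bwd (nat_lit 11) Steps.nil)))))) (nat_lit 61) (nat_lit 5),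
  Rule.mk (nat_lit 9) (nat_lit 110) (Steps.fwd (nat_lit 155648) (Steps.fwd (nat_lit 73728) (Steps.fwd (nat_lit 139264) (Steps.bwd (nat_lit 11) (Steps.bwd (nat_lit 14) (Steps.bwd (nat_lit 11) Steps.nil)))))) (nat_lit 66) (nat_lit 1),
  Rule.mk (nat_lit 9) (nat_lit 110) (Steps.fwd (nat_lit 139264) (Steps.fwd (nat_lit 139264) (Steps.fwd (nat_lit 122880) (Steps.bwd (nat_lit 11) (Steps.bwd (nat_lit 9) (Steps.bwd (nat_lit 3) Steps.nil)))))) (nat_lit 70) (nat_lit 3),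
  Rule.mk (nat_lit 18) (nat_lit 126) (Steps.bwd (nat_lit 7) (Steps.fwd (nat_lit 147456) (Steps.fwd (nat_lit 65536) (Steps.bwd (nat_lit 18) (Steps.fwd (nat_lit 8192) (Steps.bwd (nat_lit 2) (Steps.fwd (nat_lit 65536) Steps.nil))))))) (nat_lit 86) (nat_lit 2),
  Rule.mk (nat_lit 1) (nat_lit 94) (Steps.fwd (nat_lit 16384) (Steps.fwd (nat_lit 24576) (Steps.fwd (nat_lit 8192) (Steps.bwd (nat_lit 2) (Steps.fwd (nat_lit 32768) Steps.nil))))) (nat_lit 7) (nat_lit 5),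
  Rule.mk (nat_lit 1) (nat_lit 94) (Steps.fwd (nat_lit 57344) (Steps.bwd (nat_lit 2) (Steps.bwd (nat_lit 7) (Steps.bwd (nat_lit 1) (Steps.fwd (nat_lit 16384) Steps.nil))))) (nat_lit 83) (nat_lit 3),
  Rule.mk (nat_lit 9) (nat_lit 270) (Steps.fwd (nat_lit 16384) (Steps.fwd (nat_lit 98304) (Steps.bwd (nat_lit 3) (Steps.bwd (nat_lit 9) (Steps.fwd (nat_lit 57344) (Steps.bwd (nat_lit 1) (Steps.bwd (nat_lit 3) (Steps.bwd (nat_lit 3) (Steps.bwd (nat_lit 2) (Steps.fwd (nat_lit 24576) (Steps.bwd (nat_lit 11) (Steps.fwd (nat_lit 131072) (Steps.fwd (nat_lit 147456) (Steps.bwd (nat_lit 1) (Steps.fwd (nat_lit 73728) (Steps.fwd (nat_lit 16384) Steps.nil)))))))))))))))) (nat_lit 77) (nat_lit 12),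
  Rule.mk (nat_lit 14) (nat_lit 110) (Steps.bwd (nat_lit 1) (Steps.bwd (nat_lit 17) (Steps.fwd (nat_lit 81920) (Steps.fwd (nat_lit 122880) (Steps.fwd (nat_lit 122880) (Steps.bwd (nat_lit 2) Steps.nil)))))) (nat_lit 44) (nat_lit 2),
  Rule.mk (nat_lit 16) (nat_lit 142) (Steps.bwd (nat_lit 1) (Steps.bwd (nat_lit 17) (Steps.fwd (nat_lit 81920) (Steps.fwd (nat_lit 131072) (Steps.fwd (nat_lit 122880) (Steps.fwd (nat_lit 106496) (Steps.fwd (nat_lit 81920) (Steps.fwd (nat_lit 8192) Steps.nil)))))))) (nat_lit 46) (nat_lit 2),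
  Rule.mk (nat_lit 10) (nat_lit 94) (Steps.bwd (nat_lit 18) (Steps.fwd (nat_lit 155648) (Steps.fwd (nat_lit 131072) (Steps.fwd (nat_lit 81920) (Steps.bwd (nat_lit 16) Steps.nil))))) (nat_lit 35) (nat_lit 0),
  Rule.mk (nat_lit 16) (nat_lit 110) (Steps.bwd (nat_lit 2) (Steps.fwd (nat_lit 114688) (Steps.fwd (nat_lit 16384) (Steps.bwd (nat_lit 15) (Steps.bwd (nat_lit 15) (Steps.fwd (nat_lit 90112) Steps.nil)))))) (nat_lit 45) (nat_lit 4),
  Rule.mk (nat_lit 4) (nat_lit 126) (Steps.bwd (nat_lit 2) (Steps.fwd (nat_lit 24576) (Steps.fwd (nat_lit 8192) (Steps.fwd (nat_lit 24576) (Steps.bwd (nat_lit 2) (Steps.bwd (nat_lit 4) (Steps.fwd (nat_lit 8192) Steps.nil))))))) (nat_lit 5) (nat_lit 1),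
  Rule.mk (nat_lit 3) (nat_lit 94) (Steps.fwd (nat_lit 16384) (Steps.fwd (nat_lit 16384) (Steps.bwd (nat_lit 4) (Steps.bwd (nat_lit 2) (Steps.fwd (nat_lit 8192) Steps.nil))))) (nat_lit 7) (nat_lit 4),
  Rule.mk (nat_lit 4) (nat_lit 110) (Steps.bwd (nat_lit 9) (Steps.fwd (nat_lit 139264) (Steps.bwd (nat_lit 9) (Steps.fwd (nat_lit 131072) (Steps.bwd (nat_lit 14) (Steps.bwd (nat_lit 4) Steps.nil)))))) (nat_lit 64) (nat_lit 0),
  Rule.mk (nat_lit 3) (nat_lit 206) (Steps.bwd (nat_lit 1) (Steps.bwd (nat_lit 4) (Steps.fwd (nat_lit 16384) (Steps.bwd (nat_lit 10) (Steps.fwd (nat_lit 155648) (Steps.fwd (nat_lit 131072) (Steps.fwd (nat_lit 73728) (Steps.bwd (nat_lit 2) (Steps.fwd (nat_lit 8192) (Steps.bwd (nat_lit 9) (Steps.bwd (nat_lit 1) (Steps.bwd (nat_lit 3) Steps.nil)))))))))))) (nat_lit 69) (nat_lit 3),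
  Rule.mk (nat_lit 15) (nat_lit 110) (Steps.fwd (nat_lit 139264) (Steps.bwd (nat_lit 9) (Steps.fwd (nat_lit 131072) (Steps.fwd (nat_lit 73728) (Steps.bwd (nat_lit 3) (Steps.bwd (nat_lit 3) Steps.nil)))))) (nat_lit 65) (nat_lit 3),
  Rule.mk (nat_lit 3) (nat_lit 94) (Steps.bwd (nat_lit 2) (Steps.fwd (nat_lit 8192) (Steps.fwd (nat_lit 24576) (Steps.fwd (nat_lit 16384) (Steps.bwd (nat_lit 1) Steps.nil))))) (nat_lit 6) (nat_lit 0),
  Rule.mk (nat_lit 16) (nat_lit 110) (Steps.bwd (nat_lit 2) (Steps.fwd (nat_lit 114688) (Steps.bwd (nat_lit 1) (Steps.fwd (nat_lit 114688) (Steps.bwd (nat_lit 15) (Steps.bwd (nat_lit 10) Steps.nil)))))) (nat_lit 45) (nat_lit 4),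
  Rule.mk (nat_lit 10) (nat_lit 142) (Steps.bwd (nat_lit 13) (Steps.bwd (nat_lit 15) (Steps.bwd (nat_lit 16) (Steps.bwd (nat_lit 10) (Steps.bwd (nat_lit 16) (Steps.bwd (nat_lit 2) (Steps.bwd (nat_lit 17) (Steps.fwd (nat_lit 16384) Steps.nil)))))))) (nat_lit 47) (nat_lit 1),
  Rule.mk (nat_lit 9) (nat_lit 206) (Steps.bwd (nat_lit 2) (Steps.fwd (nat_lit 8192) (Steps.fwd (nat_lit 73728) (Steps.fwd (nat_lit 16384) (Steps.fwd (nat_lit 32768) (Steps.fwd (nat_lit 32768) (Steps.bwd (nat_lit 1) (Steps.fwd (nat_lit 24576) (Steps.fwd (nat_lit 16384) (Steps.bwd (nat_lit 10) (Steps.bwd (nat_lit 18) (Steps.bwd (nat_lit 17) Steps.nil)))))))))))) (nat_lit 69) (nat_lit 10),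
  Rule.mk (nat_lit 14) (nat_lit 78) (Steps.fwd (nat_lit 147456) (Steps.fwd (nat_lit 131072) (Steps.fwd (nat_lit 114688) (Steps.bwd (nat_lit 16) Steps.nil)))) (nat_lit 41) (nat_lit 0),
  Rule.mk (nat_lit 11) (nat_lit 126) (Steps.bwd (nat_lit 4) (Steps.fwd (nat_lit 122880) (Steps.fwd (nat_lit 32768) (Steps.fwd (nat_lit 122880) (Steps.fwd (nat_lit 122880) (Steps.fwd (nat_lit 131072) (Steps.fwd (nat_lit 81920) Steps.nil))))))) (nat_lit 52) (nat_lit 0),
  Rule.mk (nat_lit 11) (nat_lit 142) (Steps.bwd (nat_lit 17) (Steps.fwd (nat_lit 122880) (Steps.fwd (nat_lit 106496) (Steps.bwd (nat_lit 11) (Steps.bwd (nat_lit 2) (Steps.fwd (nat_lit 139264) (Steps.fwd (nat_lit 16384) (Steps.bwd (nat_lit 17) Steps.nil)))))))) (nat_lit 46) (nat_lit 5),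
  Rule.mk (nat_lit 13) (nat_lit 126) (Steps.fwd (nat_lit 24576) (Steps.bwd (nat_lit 12) (Steps.fwd (nat_lit 32768) (Steps.fwd (nat_lit 139264) (Steps.bwd (nat_lit 10) (Steps.fwd (nat_lit 139264) (Steps.bwd (nat_lit 15) Steps.nil))))))) (nat_lit 50) (nat_lit 0),
  Rule.mk (nat_lit 14) (nat_lit 110) (Steps.bwd (nat_lit 1) (Steps.fwd (nat_lit 131072) (Steps.bwd (nat_lit 11) (Steps.bwd (nat_lit 14) (Steps.fwd (nat_lit 122880) (Steps.bwd (nat_lit 2) Steps.nil)))))) (nat_lit 44) (nat_lit 2),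
  Rule.mk (nat_lit 1) (nat_lit 126) (Steps.fwd (nat_lit 32768) (Steps.bwd (nat_lit 1) (Steps.fwd (nat_lit 32768) (Steps.fwd (nat_lit 16384) (Steps.bwd (nat_lit 3) (Steps.bwd (nat_lit 1) (Steps.bwd (nat_lit 3) Steps.nil))))))) (nat_lit 4) (nat_lit 1),
  Rule.mk (nat_lit 16) (nat_lit 142) (Steps.bwd (nat_lit 1) (Steps.bwd (nat_lit 17) (Steps.bwd (nat_lit 11) (Steps.fwd (nat_lit 131072) (Steps.fwd (nat_lit 122880) (Steps.fwd (nat_lit 106496) (Steps.bwd (nat_lit 11) (Steps.fwd (nat_lit 8192) Steps.nil)))))))) (nat_lit 46) (nat_lit 2),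
  Rule.mk (nat_lit 11) (nat_lit 126) (Steps.bwd (nat_lit 4) (Steps.fwd (nat_lit 122880) (Steps.bwd (nat_lit 3) (Steps.fwd (nat_lit 122880) (Steps.bwd (nat_lit 14) (Steps.fwd (nat_lit 131072) (Steps.bwd (nat_lit 11) Steps.nil))))))) (nat_lit 52) (nat_lit 0),
  Rule.mk (nat_lit 9) (nat_lit 110) (Steps.fwd (nat_lit 81920) (Steps.fwd (nat_lit 73728) (Steps.fwd (nat_lit 32768) (Steps.bwd (nat_lit 14) (Steps.fwd (nat_lit 32768) (Steps.bwd (nat_lit 11) Steps.nil)))))) (nat_lit 61) (nat_lit 5),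
  Rule.mk (nat_lit 2) (nat_lit 142) (Steps.bwd (nat_lit 16) (Steps.fwd (nat_lit 16384) (Steps.bwd (nat_lit 17) (Steps.bwd (nat_lit 11) (Steps.fwd (nat_lit 131072) (Steps.fwd (nat_lit 122880) (Steps.fwd (nat_lit 106496) (Steps.bwd (nat_lit 11) Steps.nil)))))))) (nat_lit 46) (nat_lit 1)]
noncomputable def R_59 : List (Rule) := [Rule.mk (nat_lit 14) (nat_lit 94) (Steps.bwd (nat_lit 18) (Steps.fwd (nat_lit 155648) (Steps.fwd (nat_lit 81920) (Steps.bwd (nat_lit 15) (Steps.bwd (nat_lit 10) Steps.nil))))) (nat_lit 32) (nat_lit 4),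
  Rule.mk (nat_lit 9) (nat_lit 110) (Steps.bwd (nat_lit 10) (Steps.bwd (nat_lit 15) (Steps.fwd (nat_lit 90112) (Steps.fwd (nat_lit 131072) (Steps.fwd (nat_lit 73728) (Steps.bwd (nat_lit 19) Steps.nil)))))) (nat_lit 67) (nat_lit 0),
  Rule.mk (nat_lit 2) (nat_lit 94) (Steps.bwd (nat_lit 2) (Steps.fwd (nat_lit 8192) (Steps.fwd (nat_lit 57344) (Steps.fwd (nat_lit 16384) (Steps.bwd (nat_lit 7) Steps.nil))))) (nat_lit 82) (nat_lit 4),
  Rule.mk (nat_lit 2) (nat_lit 94) (Steps.bwd (nat_lit 2) (Steps.bwd (nat_lit 2) (Steps.fwd (nat_lit 8192) (Steps.fwd (nat_lit 65536) (Steps.fwd (nat_lit 65536) Steps.nil))))) (nat_lit 78) (nat_lit 3),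
  Rule.mk (nat_lit 9) (nat_lit 110) (Steps.bwd (nat_lit 16) (Steps.fwd (nat_lit 81920) (Steps.fwd (nat_lit 122880) (Steps.bwd (nat_lit 11) (Steps.fwd (nat_lit 73728) (Steps.bwd (nat_lit 18) Steps.nil)))))) (nat_lit 66) (nat_lit 3),
  Rule.mk (nat_lit 4) (nat_lit 110) (Steps.bwd (nat_lit 9) (Steps.fwd (nat_lit 90112) (Steps.bwd (nat_lit 9) (Steps.bwd (nat_lit 10) (Steps.fwd (nat_lit 24576) (Steps.fwd (nat_lit 114688) Steps.nil)))))) (nat_lit 60) (nat_lit 0),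
  Rule.mk (nat_lit 11) (nat_lit 110) (Steps.bwd (nat_lit 9) (Steps.bwd (nat_lit 11) (Steps.fwd (nat_lit 73728) (Steps.fwd (nat_lit 32768) (Steps.fwd (nat_lit 122880) (Steps.bwd (nat_lit 3) Steps.nil)))))) (nat_lit 61) (nat_lit 4),
  Rule.mk (nat_lit 18) (nat_lit 110) (Steps.bwd (nat_lit 9) (Steps.fwd (nat_lit 139264) (Steps.fwd (nat_lit 81920) (Steps.bwd (nat_lit 14) (Steps.bwd (nat_lit 11) (Steps.bwd (nat_lit 9) Steps.nil)))))) (nat_lit 66) (nat_lit 2),
  Rule.mk (nat_lit 19) (nat_lit 110) (Steps.bwd (nat_lit 9) (Steps.fwd (nat_lit 90112) (Steps.bwd (nat_lit 15) (Steps.fwd (nat_lit 90112) (Steps.fwd (nat_lit 131072) (Steps.fwd (nat_lit 73728) Steps.nil)))))) (nat_lit 67) (nat_lit 6),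
  Rule.mk (nat_lit 13) (nat_lit 190) (Steps.bwd (nat_lit 9) (Steps.fwd (nat_lit 106496) (Steps.fwd (nat_lit 73728) (Steps.fwd (nat_lit 98304) (Steps.bwd (nat_lit 9) (Steps.bwd (nat_lit 2) (Steps.bwd (nat_lit 2) (Steps.bwd (nat_lit 2) (Steps.bwd (nat_lit 15) (Steps.fwd (nat_lit 8192) (Steps.fwd (nat_lit 139264) Steps.nil))))))))))) (nat_lit 75) (nat_lit 7),
  Rule.mk (nat_lit 9) (nat_lit 206) (Steps.fwd (nat_lit 16384) (Steps.fwd (nat_lit 16384) (Steps.fwd (nat_lit 90112) (Steps.bwd (nat_lit 18) (Steps.fwd (nat_lit 131072) (Steps.bwd (nat_lit 9) (Steps.bwd (nat_lit 2) (Steps.bwd (nat_lit 3) (Steps.fwd (nat_lit 8192) (Steps.bwd (nat_lit 4) (Steps.fwd (nat_lit 24576) (Steps.bwd (nat_lit 2) Steps.nil)))))))))))) (nat_lit 73) (nat_lit 0),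
  Rule.mk (nat_lit 9) (nat_lit 206) (Steps.fwd (nat_lit 139264) (Steps.bwd (nat_lit 19) (Steps.bwd (nat_lit 11) (Steps.bwd (nat_lit 2) (Steps.bwd (nat_lit 3) (Steps.fwd (nat_lit 8192) (Steps.bwd (nat_lit 4) (Steps.fwd (nat_lit 24576) (Steps.bwd (nat_lit 2) (Steps.bwd (nat_lit 9) (Steps.fwd (nat_lit 16384) (Steps.fwd (nat_lit 16384) Steps.nil)))))))))))) (nat_lit 68) (nat_lit 4),
  Rule.mk (nat_lit 9) (nat_lit 110) (Steps.fwd (nat_lit 155648) (Steps.bwd (nat_lit 9) (Steps.fwd (nat_lit 139264) (Steps.bwd (nat_lit 11) (Steps.fwd (nat_lit 122880) (Steps.fwd (nat_lit 81920) Steps.nil)))))) (nat_lit 66) (nat_lit 1),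
  Rule.mk (nat_lit 9) (nat_lit 110) (Steps.bwd (nat_lit 16) (Steps.fwd (nat_lit 139264) (Steps.fwd (nat_lit 122880) (Steps.fwd (nat_lit 81920) (Steps.fwd (nat_lit 73728) (Steps.fwd (nat_lit 32768) Steps.nil)))))) (nat_lit 70) (nat_lit 3),
  Rule.mk (nat_lit 12) (nat_lit 126) (Steps.bwd (nat_lit 14) (Steps.bwd (nat_lit 17) (Steps.bwd (nat_lit 11) (Steps.bwd (nat_lit 17) (Steps.bwd (nat_lit 4) (Steps.fwd (nat_lit 98304) (Steps.bwd (nat_lit 3) Steps.nil))))))) (nat_lit 51) (nat_lit 1),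
  Rule.mk (nat_lit 9) (nat_lit 190) (Steps.bwd (nat_lit 12) (Steps.fwd (nat_lit 73728) (Steps.bwd (nat_lit 13) (Steps.fwd (nat_lit 73728) (Steps.bwd (nat_lit 12) (Steps.bwd (nat_lit 17) (Steps.fwd (nat_lit 16384) (Steps.fwd (nat_lit 122880) (Steps.fwd (nat_lit 16384) (Steps.fwd (nat_lit 16384) (Steps.bwd (nat_lit 1) Steps.nil))))))))))) (nat_lit 74) (nat_lit 1),
  Rule.mk (nat_lit 7) (nat_lit 126) (Steps.bwd (nat_lit 19) (Steps.bwd (nat_lit 7) (Steps.bwd (nat_lit 18) (Steps.bwd (nat_lit 2) (Steps.fwd (nat_lit 8192) (Steps.bwd (nat_lit 7) (Steps.fwd (nat_lit 155648) Steps.nil))))))) (nat_lit 86) (nat_lit 3),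
  Rule.mk (nat_lit 14) (nat_lit 110) (Steps.fwd (nat_lit 16384) (Steps.bwd (nat_lit 17) (Steps.bwd (nat_lit 11) (Steps.fwd (nat_lit 122880) (Steps.bwd (nat_lit 14) (Steps.bwd (nat_lit 2) Steps.nil)))))) (nat_lit 44) (nat_lit 2),
  Rule.mk (nat_lit 16) (nat_lit 142) (Steps.bwd (nat_lit 1) (Steps.bwd (nat_lit 17) (Steps.bwd (nat_lit 11) (Steps.fwd (nat_lit 131072) (Steps.fwd (nat_lit 122880) (Steps.bwd (nat_lit 12) (Steps.bwd (nat_lit 11) (Steps.bwd (nat_lit 2) Steps.nil)))))))) (nat_lit 46) (nat_lit 2),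
  Rule.mk (nat_lit 13) (nat_lit 190) (Steps.bwd (nat_lit 9) (Steps.bwd (nat_lit 2) (Steps.bwd (nat_lit 2) (Steps.bwd (nat_lit 2) (Steps.fwd (nat_lit 114688) (Steps.bwd (nat_lit 2) (Steps.bwd (nat_lit 16) (Steps.fwd (nat_lit 98304) (Steps.bwd (nat_lit 9) (Steps.fwd (nat_lit 106496) (Steps.bwd (nat_lit 9) Steps.nil))))))))))) (nat_lit 75) (nat_lit 11),
  Rule.mk (nat_lit 9) (nat_lit 158) (Steps.bwd (nat_lit 14) (Steps.bwd (nat_lit 9) (Steps.bwd (nat_lit 1) (Steps.bwd (nat_lit 16) (Steps.bwd (nat_lit 10) (Steps.bwd (nat_lit 13) (Steps.bwd (nat_lit 2) (Steps.fwd (nat_lit 24576) (Steps.bwd (nat_lit 4) Steps.nil))))))))) (nat_lit 62) (nat_lit 1),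
  Rule.mk (nat_lit 2) (nat_lit 110) (Steps.bwd (nat_lit 15) (Steps.fwd (nat_lit 16384) (Steps.fwd (nat_lit 114688) (Steps.bwd (nat_lit 15) (Steps.bwd (nat_lit 10) (Steps.bwd (nat_lit 16) Steps.nil)))))) (nat_lit 45) (nat_lit 5),
  Rule.mk (nat_lit 8) (nat_lit 94) (Steps.fwd (nat_lit 16384) (Steps.bwd (nat_lit 1) (Steps.fwd (nat_lit 16384) (Steps.bwd (nat_lit 1) (Steps.bwd (nat_lit 8) Steps.nil))))) (nat_lit 79) (nat_lit 0),
  Rule.mk (nat_lit 14) (nat_lit 110) (Steps.bwd (nat_lit 1) (Steps.bwd (nat_lit 17) (Steps.bwd (nat_lit 11) (Steps.fwd (nat_lit 122880) (Steps.bwd (nat_lit 14) (Steps.fwd (nat_lit 8192) Steps.nil)))))) (nat_lit 44) (nat_lit 2),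
  Rule.mk (nat_lit 2) (nat_lit 94) (Steps.bwd (nat_lit 2) (Steps.bwd (nat_lit 8) (Steps.bwd (nat_lit 1) (Steps.bwd (nat_lit 7) (Steps.bwd (nat_lit 2) Steps.nil))))) (nat_lit 82) (nat_lit 5),
  Rule.mk (nat_lit 0) (nat_lit 110) (Steps.fwd (nat_lit 16384) (Steps.fwd (nat_lit 16384) (Steps.fwd (nat_lit 24576) (Steps.bwd (nat_lit 2) (Steps.fwd (nat_lit 8192) (Steps.fwd (nat_lit 32768) Steps.nil)))))) (nat_lit 7) (nat_lit 4),
  Rule.mk (nat_lit 7) (nat_lit 126) (Steps.bwd (nat_lit 18) (Steps.fwd (nat_lit 65536) (Steps.bwd (nat_lit 19) (Steps.bwd (nat_lit 7) (Steps.bwd (nat_lit 18) (Steps.fwd (nat_lit 8192) (Steps.bwd (nat_lit 2) Steps.nil))))))) (nat_lit 86) (nat_lit 1),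
  Rule.mk (nat_lit 7) (nat_lit 158) (Steps.fwd (nat_lit 155648) (Steps.bwd (nat_lit 7) (Steps.bwd (nat_lit 18) (Steps.fwd (nat_lit 65536) (Steps.bwd (nat_lit 18) (Steps.bwd (nat_lit 7) (Steps.fwd (nat_lit 155648) (Steps.bwd (nat_lit 7) (Steps.bwd (nat_lit 18) Steps.nil))))))))) (nat_lit 84) (nat_lit 1),
  Rule.mk (nat_lit 0) (nat_lit 78) (Steps.bwd (nat_lit 8) (Steps.fwd (nat_lit 32768) (Steps.bwd (nat_lit 7) (Steps.fwd (nat_lit 24576) Steps.nil)))) (nat_lit 80) (nat_lit 1),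
  Rule.mk (nat_lit 18) (nat_lit 126) (Steps.fwd (nat_lit 8192) (Steps.bwd (nat_lit 2) (Steps.bwd (nat_lit 7) (Steps.bwd (nat_lit 18) (Steps.bwd (nat_lit 7) (Steps.bwd (nat_lit 19) (Steps.bwd (nat_lit 7) Steps.nil))))))) (nat_lit 86) (nat_lit 6),
  Rule.mk (nat_lit 0) (nat_lit 94) (Steps.bwd (nat_lit 2) (Steps.fwd (nat_lit 147456) (Steps.fwd (nat_lit 16384) (Steps.bwd (nat_lit 18) (Steps.bwd (nat_lit 18) Steps.nil))))) (nat_lit 49) (nat_lit 2),
  Rule.mk (nat_lit 8) (nat_lit 126) (Steps.bwd (nat_lit 1) (Steps.bwd (nat_lit 1) (Steps.fwd (nat_lit 147456) (Steps.bwd (nat_lit 8) (Steps.fwd (nat_lit 155648) (Steps.bwd (nat_lit 8) (Steps.bwd (nat_lit 19) Steps.nil))))))) (nat_lit 87) (nat_lit 0),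
  Rule.mk (nat_lit 11) (nat_lit 142) (Steps.bwd (nat_lit 2) (Steps.bwd (nat_lit 16) (Steps.bwd (nat_lit 1) (Steps.fwd (nat_lit 131072) (Steps.bwd (nat_lit 11) (Steps.bwd (nat_lit 17) (Steps.fwd (nat_lit 122880) (Steps.fwd (nat_lit 106496) Steps.nil)))))))) (nat_lit 46) (nat_lit 0),
  Rule.mk (nat_lit 0) (nat_lit 222) (Steps.bwd (nat_lit 9) (Steps.fwd (nat_lit 139264) (Steps.fwd (nat_lit 147456) (Steps.bwd (nat_lit 11) (Steps.fwd (nat_lit 8192) (Steps.fwd (nat_lit 32768) (Steps.fwd (nat_lit 8192) (Steps.bwd (nat_lit 4) (Steps.bwd (nat_lit 4) (Steps.fwd (nat_lit 8192) (Steps.fwd (nat_lit 73728) (Steps.fwd (nat_lit 16384) (Steps.fwd (nat_lit 16384) Steps.nil))))))))))))) (nat_lit 68) (nat_lit 3),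
  Rule.mk (nat_lit 12) (nat_lit 190) (Steps.bwd (nat_lit 9) (Steps.bwd (nat_lit 13) (Steps.bwd (nat_lit 9) (Steps.bwd (nat_lit 2) (Steps.bwd (nat_lit 2) (Steps.bwd (nat_lit 2) (Steps.bwd (nat_lit 15) (Steps.bwd (nat_lit 2) (Steps.bwd (nat_lit 16) (Steps.bwd (nat_lit 13) (Steps.fwd (nat_lit 73728) Steps.nil))))))))))) (nat_lit 75) (nat_lit 9),
  Rule.mk (nat_lit 10) (nat_lit 78) (Steps.fwd (nat_lit 155648) (Steps.bwd (nat_lit 13) (Steps.fwd (nat_lit 81920) (Steps.bwd (nat_lit 12) Steps.nil)))) (nat_lit 18) (nat_lit 0),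
  Rule.mk (nat_lit 9) (nat_lit 110) (Steps.fwd (nat_lit 90112) (Steps.bwd (nat_lit 4) (Steps.fwd (nat_lit 114688) (Steps.bwd (nat_lit 4) (Steps.fwd (nat_lit 73728) (Steps.bwd (nat_lit 10) Steps.nil)))))) (nat_lit 60) (nat_lit 3),
  Rule.mk (nat_lit 14) (nat_lit 110) (Steps.fwd (nat_lit 81920) (Steps.bwd (nat_lit 9) (Steps.fwd (nat_lit 155648) (Steps.bwd (nat_lit 9) (Steps.bwd (nat_lit 16) (Steps.bwd (nat_lit 11) Steps.nil)))))) (nat_lit 66) (nat_lit 6),
  Rule.mk (nat_lit 14) (nat_lit 110) (Steps.bwd (nat_lit 2) (Steps.bwd (nat_lit 14) (Steps.bwd (nat_lit 1) (Steps.fwd (nat_lit 131072) (Steps.fwd (nat_lit 81920) (Steps.fwd (nat_lit 122880) Steps.nil)))))) (nat_lit 44) (nat_lit 0),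
  Rule.mk (nat_lit 0) (nat_lit 126) (Steps.fwd (nat_lit 8192) (Steps.fwd (nat_lit 114688) (Steps.bwd (nat_lit 1) (Steps.fwd (nat_lit 114688) (Steps.bwd (nat_lit 15) (Steps.bwd (nat_lit 10) (Steps.fwd (nat_lit 139264) Steps.nil))))))) (nat_lit 45) (nat_lit 4),
  Rule.mk (nat_lit 17) (nat_lit 126) (Steps.fwd (nat_lit 81920) (Steps.fwd (nat_lit 131072) (Steps.fwd (nat_lit 24576) (Steps.bwd (nat_lit 13) (Steps.fwd (nat_lit 32768) (Steps.bwd (nat_lit 12) (Steps.bwd (nat_lit 14) Steps.nil))))))) (nat_lit 51) (nat_lit 3),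
  Rule.mk (nat_lit 7) (nat_lit 126) (Steps.fwd (nat_lit 155648) (Steps.fwd (nat_lit 8192) (Steps.fwd (nat_lit 8192) (Steps.bwd (nat_lit 7) (Steps.fwd (nat_lit 155648) (Steps.bwd (nat_lit 7) (Steps.fwd (nat_lit 147456) Steps.nil))))))) (nat_lit 86) (nat_lit 5),
  Rule.mk (nat_lit 1) (nat_lit 190) (Steps.bwd (nat_lit 14) (Steps.fwd (nat_lit 16384) (Steps.bwd (nat_lit 1) (Steps.bwd (nat_lit 1) (Steps.fwd (nat_lit 73728) (Steps.bwd (nat_lit 12) (Steps.bwd (nat_lit 9) (Steps.bwd (nat_lit 13) (Steps.bwd (nat_lit 9) (Steps.bwd (nat_lit 12) (Steps.bwd (nat_lit 17) Steps.nil))))))))))) (nat_lit 74) (nat_lit 8),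
  Rule.mk (nat_lit 9) (nat_lit 190) (Steps.bwd (nat_lit 13) (Steps.bwd (nat_lit 9) (Steps.fwd (nat_lit 106496) (Steps.bwd (nat_lit 17) (Steps.fwd (nat_lit 16384) (Steps.bwd (nat_lit 14) (Steps.bwd (nat_lit 1) (Steps.bwd (nat_lit 1) (Steps.bwd (nat_lit 1) (Steps.bwd (nat_lit 9) (Steps.bwd (nat_lit 12) Steps.nil))))))))))) (nat_lit 74) (nat_lit 3),
  Rule.mk (nat_lit 19) (nat_lit 110) (Steps.bwd (nat_lit 9) (Steps.bwd (nat_lit 10) (Steps.fwd (nat_lit 114688) (Steps.bwd (nat_lit 10) (Steps.fwd (nat_lit 131072) (Steps.fwd (nat_lit 73728) Steps.nil)))))) (nat_lit 67) (nat_lit 6),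
  Rule.mk (nat_lit 7) (nat_lit 126) (Steps.bwd (nat_lit 19) (Steps.bwd (nat_lit 7) (Steps.bwd (nat_lit 18) (Steps.bwd (nat_lit 2) (Steps.fwd (nat_lit 8192) (Steps.fwd (nat_lit 65536) (Steps.bwd (nat_lit 18) Steps.nil))))))) (nat_lit 86) (nat_lit 3),
  Rule.mk (nat_lit 7) (nat_lit 286) (Steps.bwd (nat_lit 10) (Steps.bwd (nat_lit 7) (Steps.bwd (nat_lit 9) (Steps.fwd (nat_lit 24576) (Steps.fwd (nat_lit 24576) (Steps.bwd (nat_lit 2) (Steps.bwd (nat_lit 11) (Steps.fwd (nat_lit 16384) (Steps.bwd (nat_lit 10) (Steps.bwd (nat_lit 2) (Steps.bwd (nat_lit 10) (Steps.fwd (nat_lit 16384) (Steps.bwd (nat_lit 7) (Steps.bwd (nat_lit 10) (Steps.bwd (nat_lit 3) (Steps.bwd (nat_lit 1) (Steps.bwd (nat_lit 4) Steps.nil))))))))))))))))) (nat_lit 57) (nat_lit 15),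
  Rule.mk (nat_lit 7) (nat_lit 126) (Steps.fwd (nat_lit 155648) (Steps.bwd (nat_lit 2) (Steps.fwd (nat_lit 8192) (Steps.bwd (nat_lit 7) (Steps.fwd (nat_lit 155648) (Steps.bwd (nat_lit 7) (Steps.fwd (nat_lit 147456) Steps.nil))))))) (nat_lit 86) (nat_lit 5),
  Rule.mk (nat_lit 7) (nat_lit 126) (Steps.fwd (nat_lit 147456) (Steps.bwd (nat_lit 7) (Steps.fwd (nat_lit 155648) (Steps.bwd (nat_lit 2) (Steps.bwd (nat_lit 2) (Steps.bwd (nat_lit 7) (Steps.fwd (nat_lit 155648) Steps.nil))))))) (nat_lit 86) (nat_lit 3),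
  Rule.mk (nat_lit 7) (nat_lit 94) (Steps.fwd (nat_lit 16384) (Steps.fwd (nat_lit 16384) (Steps.bwd (nat_lit 1) (Steps.bwd (nat_lit 8) (Steps.bwd (nat_lit 2) Steps.nil))))) (nat_lit 83) (nat_lit 0),
  Rule.mk (nat_lit 18) (nat_lit 126) (Steps.bwd (nat_lit 7) (Steps.bwd (nat_lit 19) (Steps.fwd (nat_lit 65536) (Steps.bwd (nat_lit 18) (Steps.fwd (nat_lit 8192) (Steps.bwd (nat_lit 2) (Steps.fwd (nat_lit 65536) Steps.nil))))))) (nat_lit 86) (nat_lit 2),
  Rule.mk (nat_lit 18) (nat_lit 126) (Steps.bwd (nat_lit 8) (Steps.bwd (nat_lit 19) (Steps.fwd (nat_lit 57344) (Steps.bwd (nat_lit 1) (Steps.bwd (nat_lit 1) (Steps.fwd (nat_lit 147456) (Steps.fwd (nat_lit 57344) Steps.nil))))))) (nat_lit 87) (nat_lit 5),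
  Rule.mk (nat_lit 10) (nat_lit 78) (Steps.bwd (nat_lit 10) (Steps.fwd (nat_lit 90112) (Steps.fwd (nat_lit 90112) (Steps.bwd (nat_lit 10) Steps.nil)))) (nat_lit 20) (nat_lit 0),
  Rule.mk (nat_lit 15) (nat_lit 94) (Steps.bwd (nat_lit 10) (Steps.fwd (nat_lit 122880) (Steps.fwd (nat_lit 155648) (Steps.fwd (nat_lit 155648) (Steps.bwd (nat_lit 11) Steps.nil))))) (nat_lit 32) (nat_lit 2),
  Rule.mk (nat_lit 9) (nat_lit 110) (Steps.bwd (nat_lit 10) (Steps.bwd (nat_lit 4) (Steps.bwd (nat_lit 15) (Steps.bwd (nat_lit 4) (Steps.bwd (nat_lit 9) (Steps.bwd (nat_lit 10) Steps.nil)))))) (nat_lit 60) (nat_lit 3),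
  Rule.mk (nat_lit 1) (nat_lit 142) (Steps.bwd (nat_lit 10) (Steps.bwd (nat_lit 13) (Steps.bwd (nat_lit 15) (Steps.fwd (nat_lit 139264) (Steps.fwd (nat_lit 90112) (Steps.bwd (nat_lit 16) (Steps.bwd (nat_lit 2) (Steps.fwd (nat_lit 131072) Steps.nil)))))))) (nat_lit 47) (nat_lit 0),
  Rule.mk (nat_lit 14) (nat_lit 158) (Steps.fwd (nat_lit 73728) (Steps.fwd (nat_lit 16384) (Steps.bwd (nat_lit 16) (Steps.bwd (nat_lit 10) (Steps.bwd (nat_lit 13) (Steps.fwd (nat_lit 8192) (Steps.fwd (nat_lit 24576) (Steps.bwd (nat_lit 4) (Steps.fwd (nat_lit 73728) Steps.nil))))))))) (nat_lit 62) (nat_lit 2),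
  Rule.mk (nat_lit 4) (nat_lit 110) (Steps.bwd (nat_lit 4) (Steps.fwd (nat_lit 73728) (Steps.fwd (nat_lit 139264) (Steps.bwd (nat_lit 9) (Steps.bwd (nat_lit 17) (Steps.fwd (nat_lit 122880) Steps.nil)))))) (nat_lit 64) (nat_lit 6),
  Rule.mk (nat_lit 16) (nat_lit 110) (Steps.bwd (nat_lit 9) (Steps.fwd (nat_lit 131072) (Steps.fwd (nat_lit 122880) (Steps.bwd (nat_lit 4) (Steps.bwd (nat_lit 4) (Steps.bwd (nat_lit 9) Steps.nil)))))) (nat_lit 64) (nat_lit 2),
  Rule.mk (nat_lit 10) (nat_lit 110) (Steps.bwd (nat_lit 15) (Steps.bwd (nat_lit 10) (Steps.bwd (nat_lit 17) (Steps.fwd (nat_lit 73728) (Steps.fwd (nat_lit 147456) (Steps.bwd (nat_lit 9) Steps.nil)))))) (nat_lit 67) (nat_lit 1),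
  Rule.mk (nat_lit 0) (nat_lit 78) (Steps.fwd (nat_lit 16384) (Steps.fwd (nat_lit 106496) (Steps.bwd (nat_lit 2) (Steps.bwd (nat_lit 6) Steps.nil)))) (nat_lit 12) (nat_lit 3),
  Rule.mk (nat_lit 9) (nat_lit 110) (Steps.bwd (nat_lit 17) (Steps.fwd (nat_lit 73728) (Steps.fwd (nat_lit 32768) (Steps.bwd (nat_lit 3) (Steps.bwd (nat_lit 15) (Steps.fwd (nat_lit 139264) Steps.nil)))))) (nat_lit 65) (nat_lit 5),
  Rule.mk (nat_lit 10) (nat_lit 110) (Steps.bwd (nat_lit 17) (Steps.fwd (nat_lit 73728) (Steps.fwd (nat_lit 147456) (Steps.fwd (nat_lit 73728) (Steps.fwd (nat_lit 90112) (Steps.bwd (nat_lit 15) Steps.nil)))))) (nat_lit 67) (nat_lit 3),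
  Rule.mk (nat_lit 17) (nat_lit 110) (Steps.bwd (nat_lit 17) (Steps.fwd (nat_lit 73728) (Steps.fwd (nat_lit 24576) (Steps.bwd (nat_lit 9) (Steps.fwd (nat_lit 90112) (Steps.bwd (nat_lit 15) Steps.nil)))))) (nat_lit 71) (nat_lit 3)]
noncomputable def R_60 : List (Rule) := [Rule.mk (nat_lit 14) (nat_lit 126) (Steps.bwd (nat_lit 17) (Steps.fwd (nat_lit 81920) (Steps.fwd (nat_lit 81920) (Steps.bwd (nat_lit 4) (Steps.fwd (nat_lit 122880) (Steps.fwd (nat_lit 32768) (Steps.bwd (nat_lit 14) Steps.nil))))))) (nat_lit 52) (nat_lit 5),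
  Rule.mk (nat_lit 2) (nat_lit 126) (Steps.bwd (nat_lit 4) (Steps.fwd (nat_lit 8192) (Steps.bwd (nat_lit 4) (Steps.bwd (nat_lit 2) (Steps.bwd (nat_lit 4) (Steps.bwd (nat_lit 2) (Steps.fwd (nat_lit 24576) Steps.nil))))))) (nat_lit 5) (nat_lit 0),
  Rule.mk (nat_lit 4) (nat_lit 110) (Steps.bwd (nat_lit 15) (Steps.bwd (nat_lit 4) (Steps.fwd (nat_lit 73728) (Steps.fwd (nat_lit 90112) (Steps.bwd (nat_lit 9) (Steps.bwd (nat_lit 10) Steps.nil)))))) (nat_lit 60) (nat_lit 5),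
  Rule.mk (nat_lit 15) (nat_lit 126) (Steps.bwd (nat_lit 15) (Steps.bwd (nat_lit 4) (Steps.fwd (nat_lit 114688) (Steps.fwd (nat_lit 32768) (Steps.bwd (nat_lit 10) (Steps.fwd (nat_lit 90112) (Steps.bwd (nat_lit 16) Steps.nil))))))) (nat_lit 53) (nat_lit 4),
  Rule.mk (nat_lit 9) (nat_lit 110) (Steps.bwd (nat_lit 17) (Steps.fwd (nat_lit 122880) (Steps.bwd (nat_lit 4) (Steps.bwd (nat_lit 4) (Steps.bwd (nat_lit 9) (Steps.fwd (nat_lit 139264) Steps.nil)))))) (nat_lit 64) (nat_lit 3),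
  Rule.mk (nat_lit 9) (nat_lit 110) (Steps.bwd (nat_lit 10) (Steps.bwd (nat_lit 4) (Steps.bwd (nat_lit 15) (Steps.fwd (nat_lit 24576) (Steps.bwd (nat_lit 9) (Steps.bwd (nat_lit 10) Steps.nil)))))) (nat_lit 60) (nat_lit 3),
  Rule.mk (nat_lit 17) (nat_lit 110) (Steps.bwd (nat_lit 14) (Steps.fwd (nat_lit 24576) (Steps.bwd (nat_lit 4) (Steps.fwd (nat_lit 73728) (Steps.bwd (nat_lit 16) (Steps.bwd (nat_lit 9) Steps.nil)))))) (nat_lit 64) (nat_lit 4),
  Rule.mk (nat_lit 4) (nat_lit 110) (Steps.fwd (nat_lit 73728) (Steps.fwd (nat_lit 90112) (Steps.bwd (nat_lit 15) (Steps.fwd (nat_lit 131072) (Steps.fwd (nat_lit 131072) (Steps.bwd (nat_lit 9) Steps.nil)))))) (nat_lit 71) (nat_lit 6),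
  Rule.mk (nat_lit 1) (nat_lit 94) (Steps.bwd (nat_lit 1) (Steps.fwd (nat_lit 16384) (Steps.bwd (nat_lit 8) (Steps.bwd (nat_lit 2) (Steps.fwd (nat_lit 65536) Steps.nil))))) (nat_lit 83) (nat_lit 1),
  Rule.mk (nat_lit 8) (nat_lit 94) (Steps.bwd (nat_lit 1) (Steps.bwd (nat_lit 1) (Steps.fwd (nat_lit 16384) (Steps.fwd (nat_lit 16384) (Steps.fwd (nat_lit 57344) Steps.nil))))) (nat_lit 79) (nat_lit 0),
  Rule.mk (nat_lit 7) (nat_lit 286) (Steps.fwd (nat_lit 73728) (Steps.fwd (nat_lit 24576) (Steps.bwd (nat_lit 4) (Steps.bwd (nat_lit 2) (Steps.fwd (nat_lit 81920) (Steps.fwd (nat_lit 16384) (Steps.fwd (nat_lit 90112) (Steps.fwd (nat_lit 8192) (Steps.bwd (nat_lit 10) (Steps.fwd (nat_lit 16384) (Steps.fwd (nat_lit 65536) (Steps.fwd (nat_lit 90112) (Steps.fwd (nat_lit 32768) (Steps.fwd (nat_lit 16384) (Steps.fwd (nat_lit 24576) (Steps.bwd (nat_lit 7) (Steps.bwd (nat_lit 10) Steps.nil))))))))))))))))) (nat_lit 57) (nat_lit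 17),
  Rule.mk (nat_lit 15) (nat_lit 110) (Steps.bwd (nat_lit 10) (Steps.bwd (nat_lit 16) (Steps.fwd (nat_lit 8192) (Steps.bwd (nat_lit 15) (Steps.fwd (nat_lit 16384) (Steps.fwd (nat_lit 114688) Steps.nil)))))) (nat_lit 45) (nat_lit 2),
  Rule.mk (nat_lit 9) (nat_lit 110) (Steps.fwd (nat_lit 24576) (Steps.fwd (nat_lit 73728) (Steps.bwd (nat_lit 10) (Steps.fwd (nat_lit 114688) (Steps.fwd (nat_lit 131072) (Steps.bwd (nat_lit 17) Steps.nil)))))) (nat_lit 71) (nat_lit 5),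
  Rule.mk (nat_lit 14) (nat_lit 110) (Steps.bwd (nat_lit 2) (Steps.fwd (nat_lit 122880) (Steps.bwd (nat_lit 1) (Steps.bwd (nat_lit 17) (Steps.fwd (nat_lit 81920) (Steps.fwd (nat_lit 122880) Steps.nil)))))) (nat_lit 44) (nat_lit 0),
  Rule.mk (nat_lit 16) (nat_lit 110) (Steps.bwd (nat_lit 2) (Steps.bwd (nat_lit 15) (Steps.fwd (nat_lit 16384) (Steps.fwd (nat_lit 114688) (Steps.fwd (nat_lit 114688) (Steps.fwd (nat_lit 90112) Steps.nil)))))) (nat_lit 45) (nat_lit 4),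
  Rule.mk (nat_lit 14) (nat_lit 78) (Steps.bwd (nat_lit 19) (Steps.fwd (nat_lit 131072) (Steps.fwd (nat_lit 114688) (Steps.bwd (nat_lit 16) Steps.nil)))) (nat_lit 41) (nat_lit 0),
  Rule.mk (nat_lit 17) (nat_lit 110) (Steps.bwd (nat_lit 9) (Steps.bwd (nat_lit 19) (Steps.bwd (nat_lit 9) (Steps.fwd (nat_lit 90112) (Steps.bwd (nat_lit 15) (Steps.fwd (nat_lit 90112) Steps.nil)))))) (nat_lit 67) (nat_lit 4),
  Rule.mk (nat_lit 2) (nat_lit 158) (Steps.bwd (nat_lit 9) (Steps.bwd (nat_lit 15) (Steps.bwd (nat_lit 9) (Steps.fwd (nat_lit 32768) (Steps.fwd (nat_lit 32768) (Steps.bwd (nat_lit 1) (Steps.bwd (nat_lit 12) (Steps.bwd (nat_lit 11) (Steps.fwd (nat_lit 131072) Steps.nil))))))))) (nat_lit 63) (nat_lit 7),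
  Rule.mk (nat_lit 1) (nat_lit 94) (Steps.bwd (nat_lit 4) (Steps.fwd (nat_lit 8192) (Steps.fwd (nat_lit 8192) (Steps.bwd (nat_lit 3) (Steps.fwd (nat_lit 16384) Steps.nil))))) (nat_lit 7) (nat_lit 0),
  Rule.mk (nat_lit 17) (nat_lit 126) (Steps.bwd (nat_lit 4) (Steps.bwd (nat_lit 13) (Steps.bwd (nat_lit 3) (Steps.bwd (nat_lit 12) (Steps.bwd (nat_lit 14) (Steps.fwd (nat_lit 131072) (Steps.bwd (nat_lit 11) Steps.nil))))))) (nat_lit 51) (nat_lit 5),
  Rule.mk (nat_lit 11) (nat_lit 126) (Steps.bwd (nat_lit 4) (Steps.fwd (nat_lit 122880) (Steps.fwd (nat_lit 32768) (Steps.fwd (nat_lit 122880) (Steps.bwd (nat_lit 14) (Steps.bwd (nat_lit 17) (Steps.fwd (nat_lit 81920) Steps.nil))))))) (nat_lit 52) (nat_lit 0),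
  Rule.mk (nat_lit 9) (nat_lit 110) (Steps.bwd (nat_lit 18) (Steps.fwd (nat_lit 73728) (Steps.bwd (nat_lit 16) (Steps.bwd (nat_lit 11) (Steps.bwd (nat_lit 14) (Steps.bwd (nat_lit 11) Steps.nil)))))) (nat_lit 66) (nat_lit 1),
  Rule.mk (nat_lit 7) (nat_lit 126) (Steps.bwd (nat_lit 18) (Steps.bwd (nat_lit 7) (Steps.fwd (nat_lit 147456) (Steps.bwd (nat_lit 7) (Steps.fwd (nat_lit 155648) (Steps.bwd (nat_lit 2) (Steps.bwd (nat_lit 2) Steps.nil))))))) (nat_lit 86) (nat_lit 1),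
  Rule.mk (nat_lit 7) (nat_lit 94) (Steps.fwd (nat_lit 8192) (Steps.bwd (nat_lit 2) (Steps.bwd (nat_lit 2) (Steps.bwd (nat_lit 2) (Steps.bwd (nat_lit 7) Steps.nil))))) (nat_lit 78) (nat_lit 2),
  Rule.mk (nat_lit 18) (nat_lit 126) (Steps.bwd (nat_lit 7) (Steps.fwd (nat_lit 147456) (Steps.bwd (nat_lit 7) (Steps.bwd (nat_lit 18) (Steps.fwd (nat_lit 8192) (Steps.bwd (nat_lit 2) (Steps.bwd (nat_lit 7) Steps.nil))))))) (nat_lit 86) (nat_lit 2),
  Rule.mk (nat_lit 11) (nat_lit 94) (Steps.fwd (nat_lit 114688) (Steps.bwd (nat_lit 10) (Steps.fwd (nat_lit 122880) (Steps.fwd (nat_lit 155648) (Steps.bwd (nat_lit 18) Steps.nil))))) (nat_lit 32) (nat_lit 1),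
  Rule.mk (nat_lit 9) (nat_lit 110) (Steps.fwd (nat_lit 139264) (Steps.bwd (nat_lit 16) (Steps.bwd (nat_lit 14) (Steps.bwd (nat_lit 11) (Steps.bwd (nat_lit 9) (Steps.bwd (nat_lit 3) Steps.nil)))))) (nat_lit 70) (nat_lit 3),
  Rule.mk (nat_lit 12) (nat_lit 126) (Steps.bwd (nat_lit 14) (Steps.bwd (nat_lit 17) (Steps.fwd (nat_lit 81920) (Steps.fwd (nat_lit 131072) (Steps.fwd (nat_lit 24576) (Steps.fwd (nat_lit 98304) (Steps.bwd (nat_lit 3) Steps.nil))))))) (nat_lit 51) (nat_lit 1),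
  Rule.mk (nat_lit 14) (nat_lit 126) (Steps.bwd (nat_lit 14) (Steps.fwd (nat_lit 131072) (Steps.fwd (nat_lit 81920) (Steps.bwd (nat_lit 11) (Steps.bwd (nat_lit 4) (Steps.fwd (nat_lit 122880) (Steps.bwd (nat_lit 3) Steps.nil))))))) (nat_lit 52) (nat_lit 4),
  Rule.mk (nat_lit 16) (nat_lit 110) (Steps.bwd (nat_lit 14) (Steps.fwd (nat_lit 81920) (Steps.fwd (nat_lit 73728) (Steps.bwd (nat_lit 3) (Steps.bwd (nat_lit 9) (Steps.fwd (nat_lit 139264) Steps.nil)))))) (nat_lit 70) (nat_lit 5),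
  Rule.mk (nat_lit 17) (nat_lit 142) (Steps.bwd (nat_lit 14) (Steps.fwd (nat_lit 106496) (Steps.fwd (nat_lit 81920) (Steps.fwd (nat_lit 8192) (Steps.fwd (nat_lit 139264) (Steps.bwd (nat_lit 1) (Steps.fwd (nat_lit 131072) (Steps.bwd (nat_lit 11) Steps.nil)))))))) (nat_lit 46) (nat_lit 6),
  Rule.mk (nat_lit 14) (nat_lit 110) (Steps.bwd (nat_lit 2) (Steps.bwd (nat_lit 14) (Steps.fwd (nat_lit 16384) (Steps.fwd (nat_lit 131072) (Steps.bwd (nat_lit 11) (Steps.fwd (nat_lit 122880) Steps.nil)))))) (nat_lit 44) (nat_lit 0),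
  Rule.mk (nat_lit 11) (nat_lit 110) (Steps.bwd (nat_lit 9) (Steps.fwd (nat_lit 155648) (Steps.fwd (nat_lit 73728) (Steps.bwd (nat_lit 16) (Steps.fwd (nat_lit 81920) (Steps.bwd (nat_lit 14) Steps.nil)))))) (nat_lit 66) (nat_lit 0),
  Rule.mk (nat_lit 17) (nat_lit 126) (Steps.fwd (nat_lit 81920) (Steps.bwd (nat_lit 17) (Steps.bwd (nat_lit 4) (Steps.bwd (nat_lit 13) (Steps.fwd (nat_lit 32768) (Steps.bwd (nat_lit 12) (Steps.bwd (nat_lit 14) Steps.nil))))))) (nat_lit 51) (nat_lit 3),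
  Rule.mk (nat_lit 3) (nat_lit 126) (Steps.bwd (nat_lit 12) (Steps.fwd (nat_lit 122880) (Steps.bwd (nat_lit 17) (Steps.bwd (nat_lit 11) (Steps.fwd (nat_lit 131072) (Steps.bwd (nat_lit 4) (Steps.bwd (nat_lit 13) Steps.nil))))))) (nat_lit 51) (nat_lit 0),
  Rule.mk (nat_lit 11) (nat_lit 78) (Steps.bwd (nat_lit 11) (Steps.bwd (nat_lit 11) (Steps.fwd (nat_lit 81920) (Steps.fwd (nat_lit 81920) Steps.nil)))) (nat_lit 21) (nat_lit 0),
  Rule.mk (nat_lit 9) (nat_lit 110) (Steps.bwd (nat_lit 11) (Steps.fwd (nat_lit 73728) (Steps.fwd (nat_lit 32768) (Steps.fwd (nat_lit 122880) (Steps.bwd (nat_lit 3) (Steps.bwd (nat_lit 11) Steps.nil)))))) (nat_lit 61) (nat_lit 5),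
  Rule.mk (nat_lit 3) (nat_lit 110) (Steps.bwd (nat_lit 11) (Steps.fwd (nat_lit 73728) (Steps.fwd (nat_lit 81920) (Steps.bwd (nat_lit 9) (Steps.fwd (nat_lit 32768) (Steps.fwd (nat_lit 122880) Steps.nil)))))) (nat_lit 61) (nat_lit 3),
  Rule.mk (nat_lit 13) (nat_lit 190) (Steps.bwd (nat_lit 9) (Steps.fwd (nat_lit 8192) (Steps.fwd (nat_lit 8192) (Steps.fwd (nat_lit 8192) (Steps.fwd (nat_lit 114688) (Steps.bwd (nat_lit 2) (Steps.fwd (nat_lit 139264) (Steps.fwd (nat_lit 98304) (Steps.bwd (nat_lit 9) (Steps.fwd (nat_lit 106496) (Steps.bwd (nat_lit 9) Steps.nil))))))))))) (nat_lit 75) (nat_lit 11),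
  Rule.mk (nat_lit 9) (nat_lit 110) (Steps.bwd (nat_lit 10) (Steps.fwd (nat_lit 24576) (Steps.fwd (nat_lit 114688) (Steps.fwd (nat_lit 24576) (Steps.fwd (nat_lit 73728) (Steps.bwd (nat_lit 10) Steps.nil)))))) (nat_lit 60) (nat_lit 3),
  Rule.mk (nat_lit 15) (nat_lit 110) (Steps.bwd (nat_lit 10) (Steps.fwd (nat_lit 131072) (Steps.fwd (nat_lit 73728) (Steps.fwd (nat_lit 147456) (Steps.fwd (nat_lit 73728) (Steps.bwd (nat_lit 10) Steps.nil)))))) (nat_lit 67) (nat_lit 2),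
  Rule.mk (nat_lit 1) (nat_lit 270) (Steps.bwd (nat_lit 9) (Steps.bwd (nat_lit 1) (Steps.bwd (nat_lit 9) (Steps.bwd (nat_lit 1) (Steps.bwd (nat_lit 13) (Steps.fwd (nat_lit 32768) (Steps.fwd (nat_lit 73728) (Steps.fwd (nat_lit 57344) (Steps.bwd (nat_lit 1) (Steps.fwd (nat_lit 32768) (Steps.fwd (nat_lit 32768) (Steps.fwd (nat_lit 8192) (Steps.bwd (nat_lit 4) (Steps.fwd (nat_lit 81920) (Steps.fwd (nat_lit 131072) (Steps.bwd (nat_lit 19) Steps.nil)))))))))))))))) (nat_lit 77) (nat_lit 9),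
  Rule.mk (nat_lit 9) (nat_lit 110) (Steps.fwd (nat_lit 139264) (Steps.bwd (nat_lit 9) (Steps.bwd (nat_lit 17) (Steps.bwd (nat_lit 14) (Steps.fwd (nat_lit 24576) (Steps.bwd (nat_lit 4) Steps.nil)))))) (nat_lit 64) (nat_lit 1),
  Rule.mk (nat_lit 8) (nat_lit 126) (Steps.fwd (nat_lit 16384) (Steps.fwd (nat_lit 16384) (Steps.bwd (nat_lit 19) (Steps.bwd (nat_lit 8) (Steps.bwd (nat_lit 18) (Steps.fwd (nat_lit 57344) (Steps.bwd (nat_lit 19) Steps.nil))))))) (nat_lit 87) (nat_lit 0),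
  Rule.mk (nat_lit 9) (nat_lit 110) (Steps.fwd (nat_lit 147456) (Steps.bwd (nat_lit 9) (Steps.fwd (nat_lit 90112) (Steps.bwd (nat_lit 15) (Steps.fwd (nat_lit 90112) (Steps.bwd (nat_lit 17) Steps.nil)))))) (nat_lit 67) (nat_lit 5),
  Rule.mk (nat_lit 9) (nat_lit 110) (Steps.bwd (nat_lit 17) (Steps.bwd (nat_lit 14) (Steps.bwd (nat_lit 4) (Steps.fwd (nat_lit 24576) (Steps.bwd (nat_lit 9) (Steps.fwd (nat_lit 139264) Steps.nil)))))) (nat_lit 64) (nat_lit 3),
  Rule.mk (nat_lit 11) (nat_lit 94) (Steps.bwd (nat_lit 16) (Steps.fwd (nat_lit 90112) (Steps.bwd (nat_lit 18) (Steps.fwd (nat_lit 155648) (Steps.bwd (nat_lit 17) Steps.nil))))) (nat_lit 35) (nat_lit 4),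
  Rule.mk (nat_lit 3) (nat_lit 110) (Steps.bwd (nat_lit 11) (Steps.fwd (nat_lit 73728) (Steps.fwd (nat_lit 81920) (Steps.fwd (nat_lit 73728) (Steps.bwd (nat_lit 3) (Steps.fwd (nat_lit 122880) Steps.nil)))))) (nat_lit 61) (nat_lit 3),
  Rule.mk (nat_lit 13) (nat_lit 126) (Steps.fwd (nat_lit 24576) (Steps.fwd (nat_lit 106496) (Steps.bwd (nat_lit 3) (Steps.fwd (nat_lit 139264) (Steps.bwd (nat_lit 10) (Steps.fwd (nat_lit 139264) (Steps.bwd (nat_lit 15) Steps.nil))))))) (nat_lit 50) (nat_lit 0),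
  Rule.mk (nat_lit 16) (nat_lit 110) (Steps.bwd (nat_lit 11) (Steps.fwd (nat_lit 122880) (Steps.fwd (nat_lit 81920) (Steps.fwd (nat_lit 73728) (Steps.bwd (nat_lit 18) (Steps.fwd (nat_lit 73728) Steps.nil)))))) (nat_lit 66) (nat_lit 4),
  Rule.mk (nat_lit 14) (nat_lit 110) (Steps.bwd (nat_lit 11) (Steps.fwd (nat_lit 73728) (Steps.bwd (nat_lit 3) (Steps.bwd (nat_lit 9) (Steps.fwd (nat_lit 139264) (Steps.bwd (nat_lit 16) Steps.nil)))))) (nat_lit 70) (nat_lit 6),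
  Rule.mk (nat_lit 3) (nat_lit 110) (Steps.bwd (nat_lit 11) (Steps.bwd (nat_lit 9) (Steps.bwd (nat_lit 11) (Steps.fwd (nat_lit 73728) (Steps.bwd (nat_lit 3) (Steps.bwd (nat_lit 14) Steps.nil)))))) (nat_lit 61) (nat_lit 3),
  Rule.mk (nat_lit 9) (nat_lit 158) (Steps.fwd (nat_lit 16384) (Steps.fwd (nat_lit 139264) (Steps.fwd (nat_lit 90112) (Steps.fwd (nat_lit 98304) (Steps.fwd (nat_lit 8192) (Steps.fwd (nat_lit 24576) (Steps.fwd (nat_lit 24576) (Steps.fwd (nat_lit 73728) (Steps.bwd (nat_lit 14) Steps.nil))))))))) (nat_lit 62) (nat_lit 3),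
  Rule.mk (nat_lit 4) (nat_lit 110) (Steps.bwd (nat_lit 4) (Steps.fwd (nat_lit 73728) (Steps.bwd (nat_lit 16) (Steps.fwd (nat_lit 73728) (Steps.bwd (nat_lit 17) (Steps.fwd (nat_lit 122880) Steps.nil)))))) (nat_lit 64) (nat_lit 6),
  Rule.mk (nat_lit 13) (nat_lit 126) (Steps.bwd (nat_lit 4) (Steps.fwd (nat_lit 106496) (Steps.bwd (nat_lit 3) (Steps.bwd (nat_lit 16) (Steps.bwd (nat_lit 10) (Steps.bwd (nat_lit 16) (Steps.fwd (nat_lit 114688) Steps.nil))))))) (nat_lit 50) (nat_lit 0),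
  Rule.mk (nat_lit 11) (nat_lit 78) (Steps.bwd (nat_lit 11) (Steps.fwd (nat_lit 8192) (Steps.fwd (nat_lit 98304) (Steps.fwd (nat_lit 16384) Steps.nil)))) (nat_lit 43) (nat_lit 1),
  Rule.mk (nat_lit 9) (nat_lit 110) (Steps.bwd (nat_lit 11) (Steps.fwd (nat_lit 73728) (Steps.bwd (nat_lit 3) (Steps.bwd (nat_lit 14) (Steps.fwd (nat_lit 32768) (Steps.bwd (nat_lit 11) Steps.nil)))))) (nat_lit 61) (nat_lit 5),
  Rule.mk (nat_lit 7) (nat_lit 126) (Steps.fwd (nat_lit 147456) (Steps.bwd (nat_lit 7) (Steps.fwd (nat_lit 155648) (Steps.fwd (nat_lit 8192) (Steps.bwd (nat_lit 2) (Steps.fwd (nat_lit 65536) (Steps.fwd (nat_lit 155648) Steps.nil))))))) (nat_lit 86) (nat_lit 3),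
  Rule.mk (nat_lit 0) (nat_lit 174) (Steps.fwd (nat_lit 57344) (Steps.fwd (nat_lit 147456) (Steps.bwd (nat_lit 8) (Steps.fwd (nat_lit 147456) (Steps.fwd (nat_lit 57344) (Steps.fwd (nat_lit 147456) (Steps.fwd (nat_lit 57344) (Steps.bwd (nat_lit 19) (Steps.bwd (nat_lit 8) (Steps.fwd (nat_lit 147456) Steps.nil)))))))))) (nat_lit 85) (nat_lit 1),
  Rule.mk (nat_lit 10) (nat_lit 110) (Steps.bwd (nat_lit 4) (Steps.bwd (nat_lit 15) (Steps.fwd (nat_lit 24576) (Steps.fwd (nat_lit 73728) (Steps.bwd (nat_lit 10) (Steps.bwd (nat_lit 9) Steps.nil)))))) (nat_lit 60) (nat_lit 4),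
  Rule.mk (nat_lit 13) (nat_lit 126) (Steps.bwd (nat_lit 4) (Steps.fwd (nat_lit 106496) (Steps.bwd (nat_lit 3) (Steps.fwd (nat_lit 139264) (Steps.bwd (nat_lit 10) (Steps.fwd (nat_lit 139264) (Steps.bwd (nat_lit 15) Steps.nil))))))) (nat_lit 50) (nat_lit 0),
  Rule.mk (nat_lit 17) (nat_lit 142) (Steps.bwd (nat_lit 14) (Steps.bwd (nat_lit 12) (Steps.fwd (nat_lit 81920) (Steps.fwd (nat_lit 8192) (Steps.fwd (nat_lit 139264) (Steps.fwd (nat_lit 16384) (Steps.fwd (nat_lit 131072) (Steps.bwd (nat_lit 11) Steps.nil)))))))) (nat_lit 46) (nat_lit 6),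
  Rule.mk (nat_lit 4) (nat_lit 126) (Steps.bwd (nat_lit 2) (Steps.bwd (nat_lit 4) (Steps.fwd (nat_lit 8192) (Steps.bwd (nat_lit 4) (Steps.fwd (nat_lit 8192) (Steps.bwd (nat_lit 4) (Steps.bwd (nat_lit 2) Steps.nil))))))) (nat_lit 5) (nat_lit 1),
  Rule.mk (nat_lit 9) (nat_lit 190) (Steps.bwd (nat_lit 13) (Steps.fwd (nat_lit 73728) (Steps.fwd (nat_lit 106496) (Steps.bwd (nat_lit 17) (Steps.fwd (nat_lit 16384) (Steps.fwd (nat_lit 122880) (Steps.fwd (nat_lit 16384) (Steps.fwd (nat_lit 16384) (Steps.fwd (nat_lit 16384) (Steps.fwd (nat_lit 73728) (Steps.bwd (nat_lit 12) Steps.nil))))))))))) (nat_lit 74) (nat_lit 3)]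
noncomputable def R_61 : List (Rule) := [Rule.mk (nat_lit 1) (nat_lit 110) (Steps.bwd (nat_lit 15) (Steps.fwd (nat_lit 114688) (Steps.bwd (nat_lit 10) (Steps.fwd (nat_lit 139264) (Steps.fwd (nat_lit 8192) (Steps.bwd (nat_lit 15) Steps.nil)))))) (nat_lit 45) (nat_lit 0),
  Rule.mk (nat_lit 3) (nat_lit 126) (Steps.bwd (nat_lit 14) (Steps.fwd (nat_lit 122880) (Steps.bwd (nat_lit 17) (Steps.fwd (nat_lit 81920) (Steps.bwd (nat_lit 11) (Steps.bwd (nat_lit 4) (Steps.bwd (nat_lit 14) Steps.nil))))))) (nat_lit 52) (nat_lit 3),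
  Rule.mk (nat_lit 1) (nat_lit 126) (Steps.bwd (nat_lit 3) (Steps.bwd (nat_lit 1) (Steps.bwd (nat_lit 3) (Steps.bwd (nat_lit 1) (Steps.bwd (nat_lit 3) (Steps.bwd (nat_lit 1) (Steps.fwd (nat_lit 32768) Steps.nil))))))) (nat_lit 4) (nat_lit 1),
  Rule.mk (nat_lit 15) (nat_lit 126) (Steps.bwd (nat_lit 3) (Steps.fwd (nat_lit 90112) (Steps.fwd (nat_lit 90112) (Steps.bwd (nat_lit 16) (Steps.bwd (nat_lit 15) (Steps.fwd (nat_lit 114688) (Steps.fwd (nat_lit 24576) Steps.nil))))))) (nat_lit 53) (nat_lit 7),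
  Rule.mk (nat_lit 3) (nat_lit 158) (Steps.bwd (nat_lit 3) (Steps.bwd (nat_lit 1) (Steps.fwd (nat_lit 106496) (Steps.bwd (nat_lit 11) (Steps.bwd (nat_lit 17) (Steps.fwd (nat_lit 8192) (Steps.bwd (nat_lit 9) (Steps.fwd (nat_lit 114688) (Steps.fwd (nat_lit 73728) Steps.nil))))))))) (nat_lit 63) (nat_lit 1),
  Rule.mk (nat_lit 11) (nat_lit 110) (Steps.fwd (nat_lit 73728) (Steps.bwd (nat_lit 11) (Steps.fwd (nat_lit 73728) (Steps.bwd (nat_lit 3) (Steps.bwd (nat_lit 14) (Steps.bwd (nat_lit 3) Steps.nil)))))) (nat_lit 61) (nat_lit 4),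
  Rule.mk (nat_lit 10) (nat_lit 126) (Steps.bwd (nat_lit 10) (Steps.fwd (nat_lit 139264) (Steps.bwd (nat_lit 15) (Steps.fwd (nat_lit 114688) (Steps.fwd (nat_lit 24576) (Steps.bwd (nat_lit 15) (Steps.bwd (nat_lit 3) Steps.nil))))))) (nat_lit 53) (nat_lit 1),
  Rule.mk (nat_lit 11) (nat_lit 142) (Steps.bwd (nat_lit 2) (Steps.fwd (nat_lit 139264) (Steps.fwd (nat_lit 16384) (Steps.bwd (nat_lit 17) (Steps.fwd (nat_lit 81920) (Steps.bwd (nat_lit 17) (Steps.bwd (nat_lit 14) (Steps.fwd (nat_lit 106496) Steps.nil)))))))) (nat_lit 46) (nat_lit 0),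
  Rule.mk (nat_lit 9) (nat_lit 110) (Steps.fwd (nat_lit 90112) (Steps.fwd (nat_lit 73728) (Steps.bwd (nat_lit 10) (Steps.fwd (nat_lit 24576) (Steps.fwd (nat_lit 114688) (Steps.bwd (nat_lit 4) Steps.nil)))))) (nat_lit 60) (nat_lit 1),
  Rule.mk (nat_lit 15) (nat_lit 110) (Steps.bwd (nat_lit 4) (Steps.bwd (nat_lit 9) (Steps.bwd (nat_lit 10) (Steps.bwd (nat_lit 9) (Steps.bwd (nat_lit 10) (Steps.bwd (nat_lit 4) Steps.nil)))))) (nat_lit 60) (nat_lit 6),
  Rule.mk (nat_lit 12) (nat_lit 126) (Steps.fwd (nat_lit 32768) (Steps.bwd (nat_lit 16) (Steps.bwd (nat_lit 10) (Steps.fwd (nat_lit 139264) (Steps.fwd (nat_lit 114688) (Steps.bwd (nat_lit 13) (Steps.bwd (nat_lit 4) Steps.nil))))))) (nat_lit 50) (nat_lit 2),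
  Rule.mk (nat_lit 10) (nat_lit 126) (Steps.bwd (nat_lit 16) (Steps.bwd (nat_lit 15) (Steps.bwd (nat_lit 13) (Steps.fwd (nat_lit 24576) (Steps.fwd (nat_lit 106496) (Steps.bwd (nat_lit 3) (Steps.fwd (nat_lit 139264) Steps.nil))))))) (nat_lit 50) (nat_lit 5),
  Rule.mk (nat_lit 8) (nat_lit 126) (Steps.fwd (nat_lit 155648) (Steps.bwd (nat_lit 8) (Steps.fwd (nat_lit 147456) (Steps.fwd (nat_lit 57344) (Steps.bwd (nat_lit 1) (Steps.bwd (nat_lit 1) (Steps.fwd (nat_lit 147456) Steps.nil))))))) (nat_lit 87) (nat_lit 4),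
  Rule.mk (nat_lit 4) (nat_lit 94) (Steps.fwd (nat_lit 16384) (Steps.bwd (nat_lit 1) (Steps.fwd (nat_lit 32768) (Steps.fwd (nat_lit 8192) (Steps.bwd (nat_lit 2) Steps.nil))))) (nat_lit 6) (nat_lit 3),
  Rule.mk (nat_lit 9) (nat_lit 206) (Steps.fwd (nat_lit 16384) (Steps.fwd (nat_lit 16384) (Steps.fwd (nat_lit 73728) (Steps.fwd (nat_lit 139264) (Steps.bwd (nat_lit 19) (Steps.fwd (nat_lit 81920) (Steps.bwd (nat_lit 2) (Steps.fwd (nat_lit 32768) (Steps.bwd (nat_lit 2) (Steps.fwd (nat_lit 24576) (Steps.bwd (nat_lit 4) (Steps.bwd (nat_lit 2) Steps.nil)))))))))))) (nat_lit 68) (nat_lit 1),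
  Rule.mk (nat_lit 9) (nat_lit 190) (Steps.bwd (nat_lit 12) (Steps.bwd (nat_lit 9) (Steps.fwd (nat_lit 98304) (Steps.bwd (nat_lit 9) (Steps.fwd (nat_lit 106496) (Steps.bwd (nat_lit 17) (Steps.bwd (nat_lit 1) (Steps.bwd (nat_lit 14) (Steps.bwd (nat_lit 1) (Steps.fwd (nat_lit 16384) (Steps.fwd (nat_lit 16384) Steps.nil))))))))))) (nat_lit 74) (nat_lit 1),
  Rule.mk (nat_lit 8) (nat_lit 158) (Steps.bwd (nat_lit 19) (Steps.bwd (nat_lit 8) (Steps.fwd (nat_lit 147456) (Steps.bwd (nat_lit 8) (Steps.fwd (nat_lit 147456) (Steps.fwd (nat_lit 57344) (Steps.fwd (nat_lit 147456) (Steps.bwd (nat_lit 8) (Steps.bwd (nat_lit 19) Steps.nil))))))))) (nat_lit 85) (nat_lit 0),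
  Rule.mk (nat_lit 0) (nat_lit 78) (Steps.bwd (nat_lit 7) (Steps.fwd (nat_lit 24576) (Steps.bwd (nat_lit 8) (Steps.fwd (nat_lit 32768) Steps.nil)))) (nat_lit 80) (nat_lit 3),
  Rule.mk (nat_lit 16) (nat_lit 126) (Steps.bwd (nat_lit 10) (Steps.bwd (nat_lit 16) (Steps.fwd (nat_lit 114688) (Steps.fwd (nat_lit 98304) (Steps.fwd (nat_lit 24576) (Steps.fwd (nat_lit 106496) (Steps.bwd (nat_lit 3) Steps.nil))))))) (nat_lit 50) (nat_lit 4),
  Rule.mk (nat_lit 3) (nat_lit 110) (Steps.bwd (nat_lit 9) (Steps.fwd (nat_lit 139264) (Steps.bwd (nat_lit 16) (Steps.bwd (nat_lit 14) (Steps.bwd (nat_lit 11) (Steps.fwd (nat_lit 73728) Steps.nil)))))) (nat_lit 70) (nat_lit 2),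
  Rule.mk (nat_lit 1) (nat_lit 206) (Steps.fwd (nat_lit 24576) (Steps.bwd (nat_lit 1) (Steps.fwd (nat_lit 90112) (Steps.fwd (nat_lit 155648) (Steps.fwd (nat_lit 131072) (Steps.bwd (nat_lit 9) (Steps.bwd (nat_lit 2) (Steps.fwd (nat_lit 8192) (Steps.fwd (nat_lit 73728) (Steps.fwd (nat_lit 16384) (Steps.fwd (nat_lit 32768) (Steps.bwd (nat_lit 3) Steps.nil)))))))))))) (nat_lit 69) (nat_lit 4),
  Rule.mk (nat_lit 7) (nat_lit 126) (Steps.bwd (nat_lit 19) (Steps.bwd (nat_lit 7) (Steps.bwd (nat_lit 18) (Steps.fwd (nat_lit 8192) (Steps.fwd (nat_lit 8192) (Steps.fwd (nat_lit 65536) (Steps.bwd (nat_lit 18) Steps.nil))))))) (nat_lit 86) (nat_lit 3),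
  Rule.mk (nat_lit 9) (nat_lit 286) (Steps.bwd (nat_lit 8) (Steps.bwd (nat_lit 11) (Steps.fwd (nat_lit 57344) (Steps.bwd (nat_lit 3) (Steps.bwd (nat_lit 2) (Steps.bwd (nat_lit 4) (Steps.bwd (nat_lit 11) (Steps.bwd (nat_lit 8) (Steps.fwd (nat_lit 8192) (Steps.fwd (nat_lit 81920) (Steps.bwd (nat_lit 1) (Steps.fwd (nat_lit 81920) (Steps.fwd (nat_lit 8192) (Steps.fwd (nat_lit 90112) (Steps.bwd (nat_lit 1) (Steps.fwd (nat_lit 32768) (Steps.bwd (nat_lit 3) Steps.nil))))))))))))))))) (nat_lit 56) (nat_lit 1),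
  Rule.mk (nat_lit 9) (nat_lit 110) (Steps.fwd (nat_lit 131072) (Steps.bwd (nat_lit 14) (Steps.fwd (nat_lit 24576) (Steps.bwd (nat_lit 4) (Steps.bwd (nat_lit 9) (Steps.bwd (nat_lit 16) Steps.nil)))))) (nat_lit 64) (nat_lit 3),
  Rule.mk (nat_lit 4) (nat_lit 270) (Steps.fwd (nat_lit 106496) (Steps.fwd (nat_lit 8192) (Steps.bwd (nat_lit 9) (Steps.bwd (nat_lit 2) (Steps.fwd (nat_lit 73728) (Steps.fwd (nat_lit 8192) (Steps.bwd (nat_lit 18) (Steps.fwd (nat_lit 139264) (Steps.bwd (nat_lit 10) (Steps.bwd (nat_lit 3) (Steps.fwd (nat_lit 16384) (Steps.bwd (nat_lit 4) (Steps.fwd (nat_lit 24576) (Steps.bwd (nat_lit 2) (Steps.bwd (nat_lit 7) (Steps.fwd (nat_lit 73728) Steps.nil)))))))))))))))) (nat_lit 76) (nat_lit 3),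
  Rule.mk (nat_lit 3) (nat_lit 94) (Steps.bwd (nat_lit 1) (Steps.bwd (nat_lit 1) (Steps.fwd (nat_lit 24576) (Steps.bwd (nat_lit 2) (Steps.fwd (nat_lit 8192) Steps.nil))))) (nat_lit 7) (nat_lit 4),
  Rule.mk (nat_lit 9) (nat_lit 206) (Steps.bwd (nat_lit 1) (Steps.bwd (nat_lit 1) (Steps.bwd (nat_lit 10) (Steps.fwd (nat_lit 155648) (Steps.bwd (nat_lit 17) (Steps.fwd (nat_lit 73728) (Steps.bwd (nat_lit 2) (Steps.fwd (nat_lit 32768) (Steps.bwd (nat_lit 2) (Steps.bwd (nat_lit 4) (Steps.bwd (nat_lit 4) (Steps.fwd (nat_lit 8192) Steps.nil)))))))))))) (nat_lit 73) (nat_lit 0),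
  Rule.mk (nat_lit 12) (nat_lit 126) (Steps.bwd (nat_lit 14) (Steps.bwd (nat_lit 17) (Steps.fwd (nat_lit 81920) (Steps.bwd (nat_lit 17) (Steps.fwd (nat_lit 24576) (Steps.bwd (nat_lit 13) (Steps.bwd (nat_lit 3) Steps.nil))))))) (nat_lit 51) (nat_lit 1),
  Rule.mk (nat_lit 15) (nat_lit 126) (Steps.bwd (nat_lit 13) (Steps.bwd (nat_lit 4) (Steps.fwd (nat_lit 106496) (Steps.bwd (nat_lit 3) (Steps.fwd (nat_lit 139264) (Steps.fwd (nat_lit 90112) (Steps.bwd (nat_lit 16) Steps.nil))))))) (nat_lit 50) (nat_lit 7),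
  Rule.mk (nat_lit 13) (nat_lit 190) (Steps.bwd (nat_lit 9) (Steps.bwd (nat_lit 12) (Steps.fwd (nat_lit 73728) (Steps.bwd (nat_lit 13) (Steps.fwd (nat_lit 73728) (Steps.bwd (nat_lit 2) (Steps.fwd (nat_lit 8192) (Steps.bwd (nat_lit 2) (Steps.fwd (nat_lit 114688) (Steps.bwd (nat_lit 2) (Steps.bwd (nat_lit 16) Steps.nil))))))))))) (nat_lit 75) (nat_lit 7),
  Rule.mk (nat_lit 1) (nat_lit 270) (Steps.bwd (nat_lit 9) (Steps.bwd (nat_lit 1) (Steps.fwd (nat_lit 98304) (Steps.bwd (nat_lit 3) (Steps.fwd (nat_lit 73728) (Steps.fwd (nat_lit 57344) (Steps.fwd (nat_lit 16384) (Steps.fwd (nat_lit 32768) (Steps.fwd (nat_lit 32768) (Steps.bwd (nat_lit 2) (Steps.bwd (nat_lit 4) (Steps.bwd (nat_lit 11) (Steps.fwd (nat_lit 131072) (Steps.fwd (nat_lit 147456) (Steps.fwd (nat_lit 16384) (Steps.fwd (nat_lit 73728) Steps.nil)))))))))))))))) (nat_lit 77) (nat_lit 11),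
  Rule.mk (nat_lit 17) (nat_lit 110) (Steps.bwd (nat_lit 11) (Steps.bwd (nat_lit 14) (Steps.bwd (nat_lit 14) (Steps.fwd (nat_lit 8192) (Steps.fwd (nat_lit 122880) (Steps.bwd (nat_lit 1) Steps.nil)))))) (nat_lit 44) (nat_lit 4),
  Rule.mk (nat_lit 15) (nat_lit 110) (Steps.fwd (nat_lit 90112) (Steps.fwd (nat_lit 139264) (Steps.bwd (nat_lit 2) (Steps.fwd (nat_lit 114688) (Steps.fwd (nat_lit 16384) (Steps.bwd (nat_lit 15) Steps.nil)))))) (nat_lit 45) (nat_lit 2),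
  Rule.mk (nat_lit 9) (nat_lit 110) (Steps.bwd (nat_lit 16) (Steps.fwd (nat_lit 81920) (Steps.fwd (nat_lit 122880) (Steps.bwd (nat_lit 11) (Steps.bwd (nat_lit 9) (Steps.bwd (nat_lit 18) Steps.nil)))))) (nat_lit 66) (nat_lit 3),
  Rule.mk (nat_lit 2) (nat_lit 142) (Steps.bwd (nat_lit 16) (Steps.bwd (nat_lit 1) (Steps.fwd (nat_lit 131072) (Steps.bwd (nat_lit 11) (Steps.bwd (nat_lit 17) (Steps.bwd (nat_lit 14) (Steps.fwd (nat_lit 106496) (Steps.fwd (nat_lit 81920) Steps.nil)))))))) (nat_lit 46) (nat_lit 1),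
  Rule.mk (nat_lit 4) (nat_lit 126) (Steps.fwd (nat_lit 8192) (Steps.bwd (nat_lit 4) (Steps.bwd (nat_lit 2) (Steps.fwd (nat_lit 24576) (Steps.fwd (nat_lit 8192) (Steps.bwd (nat_lit 4) (Steps.bwd (nat_lit 2) Steps.nil))))))) (nat_lit 5) (nat_lit 1),
  Rule.mk (nat_lit 1) (nat_lit 110) (Steps.bwd (nat_lit 17) (Steps.fwd (nat_lit 81920) (Steps.fwd (nat_lit 122880) (Steps.bwd (nat_lit 14) (Steps.bwd (nat_lit 2) (Steps.bwd (nat_lit 14) Steps.nil)))))) (nat_lit 44) (nat_lit 3),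
  Rule.mk (nat_lit 10) (nat_lit 110) (Steps.bwd (nat_lit 17) (Steps.fwd (nat_lit 73728) (Steps.fwd (nat_lit 147456) (Steps.bwd (nat_lit 9) (Steps.bwd (nat_lit 10) (Steps.bwd (nat_lit 15) Steps.nil)))))) (nat_lit 67) (nat_lit 3),
  Rule.mk (nat_lit 15) (nat_lit 110) (Steps.bwd (nat_lit 1) (Steps.bwd (nat_lit 15) (Steps.fwd (nat_lit 114688) (Steps.fwd (nat_lit 90112) (Steps.bwd (nat_lit 16) (Steps.fwd (nat_lit 8192) Steps.nil)))))) (nat_lit 45) (nat_lit 6),
  Rule.mk (nat_lit 1) (nat_lit 110) (Steps.bwd (nat_lit 17) (Steps.fwd (nat_lit 81920) (Steps.bwd (nat_lit 14) (Steps.bwd (nat_lit 14) (Steps.fwd (nat_lit 8192) (Steps.fwd (nat_lit 122880) Steps.nil)))))) (nat_lit 44) (nat_lit 3),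
  Rule.mk (nat_lit 14) (nat_lit 126) (Steps.bwd (nat_lit 17) (Steps.fwd (nat_lit 81920) (Steps.bwd (nat_lit 17) (Steps.bwd (nat_lit 4) (Steps.bwd (nat_lit 13) (Steps.fwd (nat_lit 32768) (Steps.fwd (nat_lit 106496) Steps.nil))))))) (nat_lit 51) (nat_lit 2),
  Rule.mk (nat_lit 11) (nat_lit 158) (Steps.bwd (nat_lit 17) (Steps.fwd (nat_lit 8192) (Steps.bwd (nat_lit 9) (Steps.fwd (nat_lit 114688) (Steps.bwd (nat_lit 9) (Steps.fwd (nat_lit 32768) (Steps.bwd (nat_lit 3) (Steps.fwd (nat_lit 16384) (Steps.fwd (nat_lit 106496) Steps.nil))))))))) (nat_lit 63) (nat_lit 5),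
  Rule.mk (nat_lit 11) (nat_lit 110) (Steps.bwd (nat_lit 9) (Steps.fwd (nat_lit 155648) (Steps.bwd (nat_lit 9) (Steps.bwd (nat_lit 16) (Steps.bwd (nat_lit 11) (Steps.bwd (nat_lit 14) Steps.nil)))))) (nat_lit 66) (nat_lit 0),
  Rule.mk (nat_lit 15) (nat_lit 110) (Steps.fwd (nat_lit 16384) (Steps.fwd (nat_lit 114688) (Steps.bwd (nat_lit 15) (Steps.fwd (nat_lit 90112) (Steps.fwd (nat_lit 139264) (Steps.fwd (nat_lit 8192) Steps.nil)))))) (nat_lit 45) (nat_lit 6),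
  Rule.mk (nat_lit 4) (nat_lit 126) (Steps.bwd (nat_lit 15) (Steps.fwd (nat_lit 32768) (Steps.fwd (nat_lit 90112) (Steps.bwd (nat_lit 10) (Steps.bwd (nat_lit 16) (Steps.fwd (nat_lit 114688) (Steps.fwd (nat_lit 114688) Steps.nil))))))) (nat_lit 53) (nat_lit 6),
  Rule.mk (nat_lit 3) (nat_lit 94) (Steps.bwd (nat_lit 1) (Steps.bwd (nat_lit 1) (Steps.bwd (nat_lit 4) (Steps.bwd (nat_lit 2) (Steps.fwd (nat_lit 8192) Steps.nil))))) (nat_lit 7) (nat_lit 4),
  Rule.mk (nat_lit 10) (nat_lit 110) (Steps.bwd (nat_lit 4) (Steps.bwd (nat_lit 15) (Steps.bwd (nat_lit 4) (Steps.fwd (nat_lit 73728) (Steps.bwd (nat_lit 10) (Steps.fwd (nat_lit 73728) Steps.nil)))))) (nat_lit 60) (nat_lit 4),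
  Rule.mk (nat_lit 13) (nat_lit 126) (Steps.bwd (nat_lit 4) (Steps.bwd (nat_lit 12) (Steps.bwd (nat_lit 3) (Steps.bwd (nat_lit 16) (Steps.fwd (nat_lit 90112) (Steps.fwd (nat_lit 139264) (Steps.bwd (nat_lit 15) Steps.nil))))))) (nat_lit 50) (nat_lit 0),
  Rule.mk (nat_lit 11) (nat_lit 126) (Steps.bwd (nat_lit 4) (Steps.fwd (nat_lit 122880) (Steps.bwd (nat_lit 3) (Steps.bwd (nat_lit 14) (Steps.bwd (nat_lit 14) (Steps.fwd (nat_lit 131072) (Steps.fwd (nat_lit 81920) Steps.nil))))))) (nat_lit 52) (nat_lit 0),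
  Rule.mk (nat_lit 9) (nat_lit 110) (Steps.bwd (nat_lit 3) (Steps.fwd (nat_lit 122880) (Steps.bwd (nat_lit 3) (Steps.bwd (nat_lit 11) (Steps.fwd (nat_lit 73728) (Steps.bwd (nat_lit 11) Steps.nil)))))) (nat_lit 61) (nat_lit 0),
  Rule.mk (nat_lit 2) (nat_lit 94) (Steps.fwd (nat_lit 8192) (Steps.bwd (nat_lit 4) (Steps.fwd (nat_lit 16384) (Steps.fwd (nat_lit 16384) (Steps.bwd (nat_lit 3) Steps.nil))))) (nat_lit 6) (nat_lit 1),
  Rule.mk (nat_lit 12) (nat_lit 126) (Steps.bwd (nat_lit 14) (Steps.fwd (nat_lit 131072) (Steps.fwd (nat_lit 81920) (Steps.fwd (nat_lit 131072) (Steps.bwd (nat_lit 4) (Steps.bwd (nat_lit 13) (Steps.bwd (nat_lit 3) Steps.nil))))))) (nat_lit 51) (nat_lit 1),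
  Rule.mk (nat_lit 11) (nat_lit 110) (Steps.fwd (nat_lit 122880) (Steps.fwd (nat_lit 81920) (Steps.bwd (nat_lit 9) (Steps.bwd (nat_lit 18) (Steps.bwd (nat_lit 9) (Steps.bwd (nat_lit 16) Steps.nil)))))) (nat_lit 66) (nat_lit 5),
  Rule.mk (nat_lit 17) (nat_lit 94) (Steps.bwd (nat_lit 11) (Steps.fwd (nat_lit 139264) (Steps.fwd (nat_lit 90112) (Steps.fwd (nat_lit 155648) (Steps.bwd (nat_lit 18) Steps.nil))))) (nat_lit 35) (nat_lit 3),
  Rule.mk (nat_lit 16) (nat_lit 110) (Steps.bwd (nat_lit 9) (Steps.fwd (nat_lit 131072) (Steps.bwd (nat_lit 9) (Steps.fwd (nat_lit 32768) (Steps.fwd (nat_lit 32768) (Steps.bwd (nat_lit 15) Steps.nil)))))) (nat_lit 65) (nat_lit 4),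
  Rule.mk (nat_lit 7) (nat_lit 94) (Steps.bwd (nat_lit 1) (Steps.bwd (nat_lit 1) (Steps.bwd (nat_lit 1) (Steps.fwd (nat_lit 57344) (Steps.fwd (nat_lit 8192) Steps.nil))))) (nat_lit 83) (nat_lit 0),
  Rule.mk (nat_lit 14) (nat_lit 190) (Steps.bwd (nat_lit 1) (Steps.bwd (nat_lit 1) (Steps.bwd (nat_lit 1) (Steps.bwd (nat_lit 9) (Steps.bwd (nat_lit 12) (Steps.fwd (nat_lit 73728) (Steps.fwd (nat_lit 98304) (Steps.bwd (nat_lit 9) (Steps.bwd (nat_lit 12) (Steps.bwd (nat_lit 17) (Steps.fwd (nat_lit 16384) Steps.nil))))))))))) (nat_lit 74) (nat_lit 9),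
  Rule.mk (nat_lit 17) (nat_lit 110) (Steps.bwd (nat_lit 9) (Steps.fwd (nat_lit 147456) (Steps.fwd (nat_lit 73728) (Steps.bwd (nat_lit 10) (Steps.bwd (nat_lit 15) (Steps.bwd (nat_lit 10) Steps.nil)))))) (nat_lit 67) (nat_lit 4),
  Rule.mk (nat_lit 16) (nat_lit 126) (Steps.fwd (nat_lit 114688) (Steps.fwd (nat_lit 114688) (Steps.fwd (nat_lit 24576) (Steps.bwd (nat_lit 15) (Steps.bwd (nat_lit 3) (Steps.bwd (nat_lit 10) (Steps.bwd (nat_lit 10) Steps.nil))))))) (nat_lit 53) (nat_lit 3),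
  Rule.mk (nat_lit 16) (nat_lit 142) (Steps.bwd (nat_lit 1) (Steps.fwd (nat_lit 131072) (Steps.fwd (nat_lit 81920) (Steps.fwd (nat_lit 131072) (Steps.bwd (nat_lit 14) (Steps.fwd (nat_lit 106496) (Steps.fwd (nat_lit 81920) (Steps.bwd (nat_lit 2) Steps.nil)))))))) (nat_lit 46) (nat_lit 2),
  Rule.mk (nat_lit 15) (nat_lit 126) (Steps.bwd (nat_lit 13) (Steps.bwd (nat_lit 4) (Steps.bwd (nat_lit 12) (Steps.bwd (nat_lit 3) (Steps.fwd (nat_lit 139264) (Steps.bwd (nat_lit 10) (Steps.bwd (nat_lit 16) Steps.nil))))))) (nat_lit 50) (nat_lit 7),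
  Rule.mk (nat_lit 3) (nat_lit 110) (Steps.bwd (nat_lit 15) (Steps.bwd (nat_lit 16) (Steps.bwd (nat_lit 9) (Steps.fwd (nat_lit 131072) (Steps.bwd (nat_lit 9) (Steps.bwd (nat_lit 3) Steps.nil)))))) (nat_lit 65) (nat_lit 2),
  Rule.mk (nat_lit 7) (nat_lit 286) (Steps.fwd (nat_lit 90112) (Steps.fwd (nat_lit 65536) (Steps.fwd (nat_lit 73728) (Steps.bwd (nat_lit 4) (Steps.bwd (nat_lit 4) (Steps.fwd (nat_lit 8192) (Steps.fwd (nat_lit 81920) (Steps.fwd (nat_lit 16384) (Steps.bwd (nat_lit 10) (Steps.bwd (nat_lit 2) (Steps.bwd (nat_lit 10) (Steps.bwd (nat_lit 1) (Steps.bwd (nat_lit 7) (Steps.fwd (nat_lit 90112) (Steps.bwd (nat_lit 3) (Steps.bwd (nat_lit 1) (Steps.bwd (nat_lit 4) Steps.nil))))))))))))))))) (nat_lit 57) (nat_lit 15),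
  Rule.mk (nat_lit 0) (nat_lit 78) (Steps.bwd (nat_lit 7) (Steps.bwd (nat_lit 4) (Steps.fwd (nat_lit 57344) (Steps.fwd (nat_lit 32768) Steps.nil)))) (nat_lit 80) (nat_lit 3)]
noncomputable def R_62 : List (Rule) := [Rule.mk (nat_lit 7) (nat_lit 94) (Steps.fwd (nat_lit 8192) (Steps.fwd (nat_lit 8192) (Steps.fwd (nat_lit 8192) (Steps.fwd (nat_lit 8192) (Steps.bwd (nat_lit 7) Steps.nil))))) (nat_lit 78) (nat_lit 2),
  Rule.mk (nat_lit 0) (nat_lit 142) (Steps.fwd (nat_lit 65536) (Steps.fwd (nat_lit 155648) (Steps.bwd (nat_lit 7) (Steps.bwd (nat_lit 19) (Steps.bwd (nat_lit 7) (Steps.fwd (nat_lit 155648) (Steps.bwd (nat_lit 2) (Steps.bwd (nat_lit 2) Steps.nil)))))))) (nat_lit 86) (nat_lit 0),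
  Rule.mk (nat_lit 0) (nat_lit 62) (Steps.bwd (nat_lit 3) (Steps.fwd (nat_lit 0) (Steps.fwd (nat_lit 24576) Steps.nil))) (nat_lit 88) (nat_lit 0),
  Rule.mk (nat_lit 0) (nat_lit 62) (Steps.fwd (nat_lit 147456) (Steps.fwd (nat_lit 0) (Steps.bwd (nat_lit 18) Steps.nil))) (nat_lit 88) (nat_lit 0),
  Rule.mk (nat_lit 0) (nat_lit 78) (Steps.fwd (nat_lit 155648) (Steps.fwd (nat_lit 32768) (Steps.bwd (nat_lit 19) (Steps.fwd (nat_lit 24576) Steps.nil)))) (nat_lit 54) (nat_lit 1),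
  Rule.mk (nat_lit 0) (nat_lit 62) (Steps.fwd (nat_lit 16384) (Steps.bwd (nat_lit 0) (Steps.fwd (nat_lit 8192) Steps.nil))) (nat_lit 88) (nat_lit 0),
  Rule.mk (nat_lit 8) (nat_lit 126) (Steps.bwd (nat_lit 18) (Steps.bwd (nat_lit 8) (Steps.fwd (nat_lit 147456) (Steps.bwd (nat_lit 8) (Steps.fwd (nat_lit 16384) (Steps.fwd (nat_lit 16384) (Steps.fwd (nat_lit 147456) Steps.nil))))))) (nat_lit 87) (nat_lit 4),
  Rule.mk (nat_lit 9) (nat_lit 110) (Steps.bwd (nat_lit 10) (Steps.bwd (nat_lit 15) (Steps.bwd (nat_lit 10) (Steps.bwd (nat_lit 17) (Steps.bwd (nat_lit 9) (Steps.bwd (nat_lit 19) Steps.nil)))))) (nat_lit 67) (nat_lit 0),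
  Rule.mk (nat_lit 9) (nat_lit 110) (Steps.fwd (nat_lit 24576) (Steps.bwd (nat_lit 9) (Steps.bwd (nat_lit 10) (Steps.bwd (nat_lit 15) (Steps.bwd (nat_lit 17) (Steps.bwd (nat_lit 17) Steps.nil)))))) (nat_lit 71) (nat_lit 5),
  Rule.mk (nat_lit 0) (nat_lit 78) (Steps.bwd (nat_lit 8) (Steps.bwd (nat_lit 4) (Steps.bwd (nat_lit 7) (Steps.bwd (nat_lit 3) Steps.nil)))) (nat_lit 81) (nat_lit 0),
  Rule.mk (nat_lit 7) (nat_lit 94) (Steps.fwd (nat_lit 8192) (Steps.fwd (nat_lit 8192) (Steps.bwd (nat_lit 2) (Steps.bwd (nat_lit 2) (Steps.bwd (nat_lit 7) Steps.nil))))) (nat_lit 78) (nat_lit 2),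
  Rule.mk (nat_lit 7) (nat_lit 126) (Steps.bwd (nat_lit 18) (Steps.bwd (nat_lit 7) (Steps.bwd (nat_lit 19) (Steps.fwd (nat_lit 65536) (Steps.fwd (nat_lit 155648) (Steps.bwd (nat_lit 2) (Steps.fwd (nat_lit 8192) Steps.nil))))))) (nat_lit 86) (nat_lit 1),
  Rule.mk (nat_lit 8) (nat_lit 126) (Steps.bwd (nat_lit 1) (Steps.fwd (nat_lit 16384) (Steps.fwd (nat_lit 147456) (Steps.bwd (nat_lit 8) (Steps.fwd (nat_lit 155648) (Steps.bwd (nat_lit 8) (Steps.bwd (nat_lit 19) Steps.nil))))))) (nat_lit 87) (nat_lit 0),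
  Rule.mk (nat_lit 8) (nat_lit 126) (Steps.bwd (nat_lit 1) (Steps.fwd (nat_lit 16384) (Steps.fwd (nat_lit 147456) (Steps.bwd (nat_lit 8) (Steps.bwd (nat_lit 18) (Steps.bwd (nat_lit 8) (Steps.bwd (nat_lit 19) Steps.nil))))))) (nat_lit 87) (nat_lit 0),
  Rule.mk (nat_lit 7) (nat_lit 158) (Steps.bwd (nat_lit 18) (Steps.fwd (nat_lit 65536) (Steps.fwd (nat_lit 155648) (Steps.fwd (nat_lit 65536) (Steps.bwd (nat_lit 18) (Steps.bwd (nat_lit 7) (Steps.fwd (nat_lit 155648) (Steps.bwd (nat_lit 7) (Steps.bwd (nat_lit 18) Steps.nil))))))))) (nat_lit 84) (nat_lit 1),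
  Rule.mk (nat_lit 4) (nat_lit 94) (Steps.bwd (nat_lit 2) (Steps.fwd (nat_lit 8192) (Steps.bwd (nat_lit 3) (Steps.bwd (nat_lit 1) (Steps.bwd (nat_lit 1) Steps.nil))))) (nat_lit 7) (nat_lit 1),
  Rule.mk (nat_lit 14) (nat_lit 126) (Steps.bwd (nat_lit 3) (Steps.fwd (nat_lit 122880) (Steps.bwd (nat_lit 14) (Steps.fwd (nat_lit 131072) (Steps.bwd (nat_lit 11) (Steps.bwd (nat_lit 11) (Steps.bwd (nat_lit 4) Steps.nil))))))) (nat_lit 52) (nat_lit 2),
  Rule.mk (nat_lit 16) (nat_lit 142) (Steps.bwd (nat_lit 1) (Steps.bwd (nat_lit 17) (Steps.bwd (nat_lit 11) (Steps.bwd (nat_lit 17) (Steps.fwd (nat_lit 122880) (Steps.fwd (nat_lit 106496) (Steps.fwd (nat_lit 81920) (Steps.bwd (nat_lit 2) Steps.nil)))))))) (nat_lit 46) (nat_lit 2),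
  Rule.mk (nat_lit 9) (nat_lit 158) (Steps.bwd (nat_lit 1) (Steps.fwd (nat_lit 139264) (Steps.fwd (nat_lit 90112) (Steps.bwd (nat_lit 13) (Steps.fwd (nat_lit 8192) (Steps.fwd (nat_lit 24576) (Steps.fwd (nat_lit 24576) (Steps.fwd (nat_lit 73728) (Steps.fwd (nat_lit 122880) Steps.nil))))))))) (nat_lit 62) (nat_lit 3),
  Rule.mk (nat_lit 9) (nat_lit 110) (Steps.fwd (nat_lit 81920) (Steps.fwd (nat_lit 73728) (Steps.bwd (nat_lit 3) (Steps.fwd (nat_lit 122880) (Steps.bwd (nat_lit 3) (Steps.fwd (nat_lit 81920) Steps.nil)))))) (nat_lit 61) (nat_lit 5),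
  Rule.mk (nat_lit 9) (nat_lit 110) (Steps.fwd (nat_lit 32768) (Steps.bwd (nat_lit 9) (Steps.fwd (nat_lit 139264) (Steps.fwd (nat_lit 139264) (Steps.bwd (nat_lit 14) (Steps.bwd (nat_lit 11) Steps.nil)))))) (nat_lit 70) (nat_lit 1),
  Rule.mk (nat_lit 0) (nat_lit 94) (Steps.fwd (nat_lit 106496) (Steps.fwd (nat_lit 147456) (Steps.bwd (nat_lit 15) (Steps.fwd (nat_lit 98304) (Steps.bwd (nat_lit 14) Steps.nil))))) (nat_lit 37) (nat_lit 4),
  Rule.mk (nat_lit 9) (nat_lit 110) (Steps.fwd (nat_lit 139264) (Steps.fwd (nat_lit 139264) (Steps.bwd (nat_lit 14) (Steps.bwd (nat_lit 11) (Steps.bwd (nat_lit 9) (Steps.bwd (nat_lit 3) Steps.nil)))))) (nat_lit 70) (nat_lit 3),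
  Rule.mk (nat_lit 16) (nat_lit 126) (Steps.bwd (nat_lit 10) (Steps.fwd (nat_lit 139264) (Steps.fwd (nat_lit 114688) (Steps.bwd (nat_lit 13) (Steps.fwd (nat_lit 24576) (Steps.fwd (nat_lit 106496) (Steps.bwd (nat_lit 3) Steps.nil))))))) (nat_lit 50) (nat_lit 4),
  Rule.mk (nat_lit 12) (nat_lit 126) (Steps.fwd (nat_lit 122880) (Steps.bwd (nat_lit 17) (Steps.bwd (nat_lit 11) (Steps.bwd (nat_lit 17) (Steps.fwd (nat_lit 24576) (Steps.fwd (nat_lit 98304) (Steps.bwd (nat_lit 3) Steps.nil))))))) (nat_lit 51) (nat_lit 1),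
  Rule.mk (nat_lit 9) (nat_lit 110) (Steps.fwd (nat_lit 90112) (Steps.bwd (nat_lit 9) (Steps.fwd (nat_lit 90112) (Steps.fwd (nat_lit 24576) (Steps.bwd (nat_lit 15) (Steps.bwd (nat_lit 4) Steps.nil)))))) (nat_lit 60) (nat_lit 1),
  Rule.mk (nat_lit 10) (nat_lit 110) (Steps.bwd (nat_lit 9) (Steps.fwd (nat_lit 90112) (Steps.fwd (nat_lit 24576) (Steps.bwd (nat_lit 15) (Steps.bwd (nat_lit 4) (Steps.fwd (nat_lit 73728) Steps.nil)))))) (nat_lit 60) (nat_lit 2),
  Rule.mk (nat_lit 12) (nat_lit 190) (Steps.bwd (nat_lit 9) (Steps.bwd (nat_lit 13) (Steps.bwd (nat_lit 9) (Steps.fwd (nat_lit 106496) (Steps.bwd (nat_lit 17) (Steps.bwd (nat_lit 1) (Steps.fwd (nat_lit 122880) (Steps.fwd (nat_lit 16384) (Steps.bwd (nat_lit 1) (Steps.fwd (nat_lit 16384) (Steps.fwd (nat_lit 73728) Steps.nil))))))))))) (nat_lit 74) (nat_lit 2),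
  Rule.mk (nat_lit 2) (nat_lit 206) (Steps.bwd (nat_lit 9) (Steps.fwd (nat_lit 16384) (Steps.fwd (nat_lit 16384) (Steps.bwd (nat_lit 9) (Steps.fwd (nat_lit 139264) (Steps.bwd (nat_lit 19) (Steps.bwd (nat_lit 11) (Steps.fwd (nat_lit 8192) (Steps.fwd (nat_lit 32768) (Steps.fwd (nat_lit 8192) (Steps.bwd (nat_lit 4) (Steps.fwd (nat_lit 24576) Steps.nil)))))))))))) (nat_lit 68) (nat_lit 0),
  Rule.mk (nat_lit 0) (nat_lit 78) (Steps.fwd (nat_lit 65536) (Steps.bwd (nat_lit 3) (Steps.bwd (nat_lit 8) (Steps.fwd (nat_lit 24576) Steps.nil)))) (nat_lit 81) (nat_lit 2),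
  Rule.mk (nat_lit 8) (nat_lit 158) (Steps.bwd (nat_lit 19) (Steps.bwd (nat_lit 8) (Steps.fwd (nat_lit 147456) (Steps.bwd (nat_lit 8) (Steps.fwd (nat_lit 147456) (Steps.bwd (nat_lit 8) (Steps.bwd (nat_lit 19) (Steps.fwd (nat_lit 57344) (Steps.bwd (nat_lit 19) Steps.nil))))))))) (nat_lit 85) (nat_lit 0),
  Rule.mk (nat_lit 8) (nat_lit 158) (Steps.bwd (nat_lit 19) (Steps.bwd (nat_lit 8) (Steps.bwd (nat_lit 19) (Steps.fwd (nat_lit 57344) (Steps.bwd (nat_lit 19) (Steps.bwd (nat_lit 8) (Steps.fwd (nat_lit 147456) (Steps.bwd (nat_lit 8) (Steps.bwd (nat_lit 19) Steps.nil))))))))) (nat_lit 85) (nat_lit 0),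
  Rule.mk (nat_lit 2) (nat_lit 78) (Steps.fwd (nat_lit 147456) (Steps.fwd (nat_lit 16384) (Steps.bwd (nat_lit 18) (Steps.fwd (nat_lit 155648) Steps.nil)))) (nat_lit 49) (nat_lit 3),
  Rule.mk (nat_lit 4) (nat_lit 110) (Steps.bwd (nat_lit 9) (Steps.bwd (nat_lit 16) (Steps.bwd (nat_lit 9) (Steps.bwd (nat_lit 17) (Steps.bwd (nat_lit 14) (Steps.bwd (nat_lit 4) Steps.nil)))))) (nat_lit 64) (nat_lit 0),
  Rule.mk (nat_lit 10) (nat_lit 78) (Steps.bwd (nat_lit 10) (Steps.fwd (nat_lit 90112) (Steps.fwd (nat_lit 90112) (Steps.fwd (nat_lit 90112) Steps.nil)))) (nat_lit 20) (nat_lit 0),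
  Rule.mk (nat_lit 3) (nat_lit 110) (Steps.bwd (nat_lit 9) (Steps.fwd (nat_lit 139264) (Steps.bwd (nat_lit 16) (Steps.fwd (nat_lit 122880) (Steps.fwd (nat_lit 81920) (Steps.bwd (nat_lit 9) Steps.nil)))))) (nat_lit 70) (nat_lit 2),
  Rule.mk (nat_lit 9) (nat_lit 206) (Steps.bwd (nat_lit 2) (Steps.bwd (nat_lit 2) (Steps.fwd (nat_lit 73728) (Steps.fwd (nat_lit 16384) (Steps.bwd (nat_lit 3) (Steps.fwd (nat_lit 32768) (Steps.fwd (nat_lit 16384) (Steps.fwd (nat_lit 24576) (Steps.fwd (nat_lit 16384) (Steps.fwd (nat_lit 90112) (Steps.fwd (nat_lit 155648) (Steps.fwd (nat_lit 131072) Steps.nil)))))))))))) (nat_lit 69) (nat_lit 10),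
  Rule.mk (nat_lit 9) (nat_lit 110) (Steps.bwd (nat_lit 3) (Steps.fwd (nat_lit 122880) (Steps.fwd (nat_lit 32768) (Steps.bwd (nat_lit 11) (Steps.bwd (nat_lit 9) (Steps.bwd (nat_lit 11) Steps.nil)))))) (nat_lit 61) (nat_lit 0),
  Rule.mk (nat_lit 3) (nat_lit 110) (Steps.bwd (nat_lit 3) (Steps.fwd (nat_lit 114688) (Steps.fwd (nat_lit 139264) (Steps.fwd (nat_lit 73728) (Steps.fwd (nat_lit 131072) (Steps.bwd (nat_lit 9) Steps.nil)))))) (nat_lit 65) (nat_lit 1),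
  Rule.mk (nat_lit 14) (nat_lit 126) (Steps.bwd (nat_lit 3) (Steps.fwd (nat_lit 122880) (Steps.fwd (nat_lit 122880) (Steps.bwd (nat_lit 17) (Steps.bwd (nat_lit 11) (Steps.bwd (nat_lit 11) (Steps.bwd (nat_lit 4) Steps.nil))))))) (nat_lit 52) (nat_lit 2),
  Rule.mk (nat_lit 11) (nat_lit 94) (Steps.fwd (nat_lit 122880) (Steps.fwd (nat_lit 90112) (Steps.bwd (nat_lit 19) (Steps.fwd (nat_lit 147456) (Steps.bwd (nat_lit 15) Steps.nil))))) (nat_lit 33) (nat_lit 4),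
  Rule.mk (nat_lit 13) (nat_lit 126) (Steps.bwd (nat_lit 4) (Steps.fwd (nat_lit 106496) (Steps.bwd (nat_lit 3) (Steps.fwd (nat_lit 139264) (Steps.fwd (nat_lit 90112) (Steps.fwd (nat_lit 139264) (Steps.bwd (nat_lit 15) Steps.nil))))))) (nat_lit 50) (nat_lit 0),
  Rule.mk (nat_lit 9) (nat_lit 158) (Steps.bwd (nat_lit 14) (Steps.fwd (nat_lit 73728) (Steps.bwd (nat_lit 1) (Steps.bwd (nat_lit 16) (Steps.fwd (nat_lit 90112) (Steps.bwd (nat_lit 13) (Steps.fwd (nat_lit 8192) (Steps.fwd (nat_lit 24576) (Steps.bwd (nat_lit 4) Steps.nil))))))))) (nat_lit 62) (nat_lit 1),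
  Rule.mk (nat_lit 12) (nat_lit 126) (Steps.fwd (nat_lit 32768) (Steps.bwd (nat_lit 16) (Steps.fwd (nat_lit 90112) (Steps.fwd (nat_lit 139264) (Steps.fwd (nat_lit 114688) (Steps.fwd (nat_lit 98304) (Steps.bwd (nat_lit 4) Steps.nil))))))) (nat_lit 50) (nat_lit 2),
  Rule.mk (nat_lit 13) (nat_lit 126) (Steps.bwd (nat_lit 3) (Steps.bwd (nat_lit 12) (Steps.bwd (nat_lit 14) (Steps.bwd (nat_lit 17) (Steps.bwd (nat_lit 11) (Steps.bwd (nat_lit 17) (Steps.bwd (nat_lit 4) Steps.nil))))))) (nat_lit 51) (nat_lit 7),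
  Rule.mk (nat_lit 2) (nat_lit 94) (Steps.bwd (nat_lit 2) (Steps.bwd (nat_lit 2) (Steps.fwd (nat_lit 8192) (Steps.bwd (nat_lit 7) (Steps.fwd (nat_lit 65536) Steps.nil))))) (nat_lit 78) (nat_lit 3),
  Rule.mk (nat_lit 7) (nat_lit 94) (Steps.bwd (nat_lit 2) (Steps.bwd (nat_lit 2) (Steps.fwd (nat_lit 8192) (Steps.fwd (nat_lit 57344) (Steps.bwd (nat_lit 1) Steps.nil))))) (nat_lit 82) (nat_lit 3),
  Rule.mk (nat_lit 8) (nat_lit 94) (Steps.bwd (nat_lit 2) (Steps.fwd (nat_lit 65536) (Steps.fwd (nat_lit 16384) (Steps.fwd (nat_lit 16384) (Steps.fwd (nat_lit 16384) Steps.nil))))) (nat_lit 83) (nat_lit 4),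
  Rule.mk (nat_lit 9) (nat_lit 206) (Steps.bwd (nat_lit 2) (Steps.bwd (nat_lit 2) (Steps.bwd (nat_lit 9) (Steps.fwd (nat_lit 16384) (Steps.fwd (nat_lit 32768) (Steps.fwd (nat_lit 32768) (Steps.bwd (nat_lit 1) (Steps.bwd (nat_lit 4) (Steps.bwd (nat_lit 1) (Steps.fwd (nat_lit 90112) (Steps.bwd (nat_lit 18) (Steps.bwd (nat_lit 17) Steps.nil)))))))))))) (nat_lit 69) (nat_lit 10),
  Rule.mk (nat_lit 3) (nat_lit 126) (Steps.bwd (nat_lit 12) (Steps.bwd (nat_lit 14) (Steps.fwd (nat_lit 131072) (Steps.bwd (nat_lit 11) (Steps.bwd (nat_lit 17) (Steps.fwd (nat_lit 24576) (Steps.fwd (nat_lit 98304) Steps.nil))))))) (nat_lit 51) (nat_lit 0),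
  Rule.mk (nat_lit 1) (nat_lit 142) (Steps.bwd (nat_lit 10) (Steps.fwd (nat_lit 98304) (Steps.bwd (nat_lit 15) (Steps.bwd (nat_lit 16) (Steps.bwd (nat_lit 10) (Steps.bwd (nat_lit 16) (Steps.fwd (nat_lit 8192) (Steps.bwd (nat_lit 17) Steps.nil)))))))) (nat_lit 47) (nat_lit 0),
  Rule.mk (nat_lit 4) (nat_lit 94) (Steps.fwd (nat_lit 8192) (Steps.fwd (nat_lit 8192) (Steps.fwd (nat_lit 32768) (Steps.bwd (nat_lit 1) (Steps.bwd (nat_lit 1) Steps.nil))))) (nat_lit 7) (nat_lit 1),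
  Rule.mk (nat_lit 3) (nat_lit 94) (Steps.bwd (nat_lit 1) (Steps.fwd (nat_lit 16384) (Steps.bwd (nat_lit 4) (Steps.fwd (nat_lit 8192) (Steps.fwd (nat_lit 8192) Steps.nil))))) (nat_lit 7) (nat_lit 4),
  Rule.mk (nat_lit 16) (nat_lit 142) (Steps.bwd (nat_lit 1) (Steps.bwd (nat_lit 17) (Steps.fwd (nat_lit 81920) (Steps.bwd (nat_lit 17) (Steps.bwd (nat_lit 14) (Steps.bwd (nat_lit 12) (Steps.fwd (nat_lit 81920) (Steps.bwd (nat_lit 2) Steps.nil)))))))) (nat_lit 46) (nat_lit 2),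
  Rule.mk (nat_lit 10) (nat_lit 94) (Steps.bwd (nat_lit 18) (Steps.fwd (nat_lit 155648) (Steps.fwd (nat_lit 131072) (Steps.bwd (nat_lit 11) (Steps.bwd (nat_lit 16) Steps.nil))))) (nat_lit 35) (nat_lit 0),
  Rule.mk (nat_lit 16) (nat_lit 142) (Steps.bwd (nat_lit 1) (Steps.fwd (nat_lit 131072) (Steps.fwd (nat_lit 81920) (Steps.fwd (nat_lit 131072) (Steps.bwd (nat_lit 14) (Steps.bwd (nat_lit 12) (Steps.fwd (nat_lit 81920) (Steps.bwd (nat_lit 2) Steps.nil)))))))) (nat_lit 46) (nat_lit 2),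
  Rule.mk (nat_lit 9) (nat_lit 110) (Steps.bwd (nat_lit 17) (Steps.fwd (nat_lit 122880) (Steps.bwd (nat_lit 4) (Steps.bwd (nat_lit 4) (Steps.fwd (nat_lit 73728) (Steps.bwd (nat_lit 16) Steps.nil)))))) (nat_lit 64) (nat_lit 3),
  Rule.mk (nat_lit 18) (nat_lit 126) (Steps.bwd (nat_lit 7) (Steps.bwd (nat_lit 19) (Steps.bwd (nat_lit 7) (Steps.bwd (nat_lit 18) (Steps.fwd (nat_lit 8192) (Steps.bwd (nat_lit 2) (Steps.fwd (nat_lit 65536) Steps.nil))))))) (nat_lit 86) (nat_lit 2),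
  Rule.mk (nat_lit 1) (nat_lit 142) (Steps.bwd (nat_lit 10) (Steps.fwd (nat_lit 98304) (Steps.fwd (nat_lit 114688) (Steps.bwd (nat_lit 16) (Steps.fwd (nat_lit 90112) (Steps.bwd (nat_lit 16) (Steps.fwd (nat_lit 8192) (Steps.bwd (nat_lit 17) Steps.nil)))))))) (nat_lit 47) (nat_lit 0),
  Rule.mk (nat_lit 19) (nat_lit 126) (Steps.bwd (nat_lit 7) (Steps.fwd (nat_lit 155648) (Steps.bwd (nat_lit 2) (Steps.fwd (nat_lit 8192) (Steps.bwd (nat_lit 7) (Steps.fwd (nat_lit 155648) (Steps.fwd (nat_lit 65536) Steps.nil))))))) (nat_lit 86) (nat_lit 4),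
  Rule.mk (nat_lit 2) (nat_lit 126) (Steps.bwd (nat_lit 7) (Steps.fwd (nat_lit 155648) (Steps.fwd (nat_lit 65536) (Steps.fwd (nat_lit 147456) (Steps.bwd (nat_lit 7) (Steps.fwd (nat_lit 155648) (Steps.fwd (nat_lit 8192) Steps.nil))))))) (nat_lit 86) (nat_lit 0),
  Rule.mk (nat_lit 8) (nat_lit 94) (Steps.fwd (nat_lit 16384) (Steps.bwd (nat_lit 7) (Steps.fwd (nat_lit 8192) (Steps.bwd (nat_lit 2) (Steps.bwd (nat_lit 2) Steps.nil))))) (nat_lit 82) (nat_lit 1),
  Rule.mk (nat_lit 10) (nat_lit 94) (Steps.bwd (nat_lit 14) (Steps.bwd (nat_lit 18) (Steps.fwd (nat_lit 155648) (Steps.fwd (nat_lit 81920) (Steps.fwd (nat_lit 114688) Steps.nil))))) (nat_lit 32) (nat_lit 3),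
  Rule.mk (nat_lit 9) (nat_lit 110) (Steps.fwd (nat_lit 90112) (Steps.fwd (nat_lit 73728) (Steps.bwd (nat_lit 10) (Steps.fwd (nat_lit 24576) (Steps.bwd (nat_lit 15) (Steps.bwd (nat_lit 4) Steps.nil)))))) (nat_lit 60) (nat_lit 1)]
noncomputable def R_63 : List (Rule) := [Rule.mk (nat_lit 11) (nat_lit 110) (Steps.bwd (nat_lit 9) (Steps.bwd (nat_lit 11) (Steps.bwd (nat_lit 9) (Steps.bwd (nat_lit 3) (Steps.fwd (nat_lit 122880) (Steps.bwd (nat_lit 3) Steps.nil)))))) (nat_lit 61) (nat_lit 4),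
  Rule.mk (nat_lit 2) (nat_lit 94) (Steps.bwd (nat_lit 8) (Steps.fwd (nat_lit 16384) (Steps.fwd (nat_lit 65536) (Steps.bwd (nat_lit 2) (Steps.bwd (nat_lit 2) Steps.nil))))) (nat_lit 82) (nat_lit 0),
  Rule.mk (nat_lit 19) (nat_lit 126) (Steps.bwd (nat_lit 8) (Steps.fwd (nat_lit 16384) (Steps.fwd (nat_lit 16384) (Steps.fwd (nat_lit 147456) (Steps.bwd (nat_lit 8) (Steps.fwd (nat_lit 155648) (Steps.fwd (nat_lit 57344) Steps.nil))))))) (nat_lit 87) (nat_lit 7),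
  Rule.mk (nat_lit 11) (nat_lit 286) (Steps.bwd (nat_lit 8) (Steps.fwd (nat_lit 32768) (Steps.fwd (nat_lit 8192) (Steps.fwd (nat_lit 24576) (Steps.bwd (nat_lit 11) (Steps.fwd (nat_lit 57344) (Steps.bwd (nat_lit 2) (Steps.fwd (nat_lit 81920) (Steps.fwd (nat_lit 16384) (Steps.bwd (nat_lit 11) (Steps.bwd (nat_lit 2) (Steps.fwd (nat_lit 90112) (Steps.fwd (nat_lit 16384) (Steps.fwd (nat_lit 32768) (Steps.fwd (nat_lit 32768) (Steps.bwd (nat_lit 9) (Steps.bwd (nat_lit 8) Steps.nil))))))))))))))))) (nat_lit 56) (nat_lit 3),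
  Rule.mk (nat_lit 14) (nat_lit 110) (Steps.bwd (nat_lit 14) (Steps.bwd (nat_lit 2) (Steps.bwd (nat_lit 14) (Steps.bwd (nat_lit 1) (Steps.bwd (nat_lit 17) (Steps.bwd (nat_lit 11) Steps.nil)))))) (nat_lit 44) (nat_lit 6),
  Rule.mk (nat_lit 9) (nat_lit 110) (Steps.fwd (nat_lit 155648) (Steps.fwd (nat_lit 73728) (Steps.bwd (nat_lit 16) (Steps.fwd (nat_lit 81920) (Steps.fwd (nat_lit 122880) (Steps.bwd (nat_lit 11) Steps.nil)))))) (nat_lit 66) (nat_lit 1),
  Rule.mk (nat_lit 18) (nat_lit 110) (Steps.bwd (nat_lit 9) (Steps.bwd (nat_lit 16) (Steps.fwd (nat_lit 81920) (Steps.fwd (nat_lit 122880) (Steps.bwd (nat_lit 11) (Steps.fwd (nat_lit 73728) Steps.nil)))))) (nat_lit 66) (nat_lit 2),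
  Rule.mk (nat_lit 17) (nat_lit 110) (Steps.bwd (nat_lit 9) (Steps.fwd (nat_lit 147456) (Steps.fwd (nat_lit 73728) (Steps.fwd (nat_lit 90112) (Steps.fwd (nat_lit 114688) (Steps.fwd (nat_lit 90112) Steps.nil)))))) (nat_lit 67) (nat_lit 4),
  Rule.mk (nat_lit 13) (nat_lit 190) (Steps.bwd (nat_lit 9) (Steps.fwd (nat_lit 106496) (Steps.bwd (nat_lit 9) (Steps.bwd (nat_lit 13) (Steps.bwd (nat_lit 9) (Steps.fwd (nat_lit 8192) (Steps.bwd (nat_lit 2) (Steps.bwd (nat_lit 2) (Steps.bwd (nat_lit 15) (Steps.fwd (nat_lit 8192) (Steps.bwd (nat_lit 16) Steps.nil))))))))))) (nat_lit 75) (nat_lit 7),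
  Rule.mk (nat_lit 8) (nat_lit 94) (Steps.bwd (nat_lit 2) (Steps.bwd (nat_lit 7) (Steps.bwd (nat_lit 1) (Steps.fwd (nat_lit 16384) (Steps.bwd (nat_lit 1) Steps.nil))))) (nat_lit 83) (nat_lit 4),
  Rule.mk (nat_lit 3) (nat_lit 126) (Steps.bwd (nat_lit 12) (Steps.bwd (nat_lit 14) (Steps.bwd (nat_lit 17) (Steps.fwd (nat_lit 81920) (Steps.bwd (nat_lit 17) (Steps.fwd (nat_lit 24576) (Steps.fwd (nat_lit 98304) Steps.nil))))))) (nat_lit 51) (nat_lit 0),
  Rule.mk (nat_lit 1) (nat_lit 142) (Steps.bwd (nat_lit 10) (Steps.bwd (nat_lit 13) (Steps.bwd (nat_lit 15) (Steps.fwd (nat_lit 139264) (Steps.bwd (nat_lit 10) (Steps.bwd (nat_lit 16) (Steps.bwd (nat_lit 2) (Steps.bwd (nat_lit 17) Steps.nil)))))))) (nat_lit 47) (nat_lit 0),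
  Rule.mk (nat_lit 9) (nat_lit 190) (Steps.fwd (nat_lit 106496) (Steps.fwd (nat_lit 131072) (Steps.fwd (nat_lit 16384) (Steps.bwd (nat_lit 14) (Steps.fwd (nat_lit 16384) (Steps.bwd (nat_lit 1) (Steps.bwd (nat_lit 1) (Steps.bwd (nat_lit 9) (Steps.fwd (nat_lit 106496) (Steps.bwd (nat_lit 9) (Steps.bwd (nat_lit 13) Steps.nil))))))))))) (nat_lit 74) (nat_lit 5),
  Rule.mk (nat_lit 17) (nat_lit 110) (Steps.bwd (nat_lit 9) (Steps.fwd (nat_lit 32768) (Steps.bwd (nat_lit 3) (Steps.fwd (nat_lit 114688) (Steps.fwd (nat_lit 139264) (Steps.fwd (nat_lit 73728) Steps.nil)))))) (nat_lit 65) (nat_lit 6),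
  Rule.mk (nat_lit 16) (nat_lit 110) (Steps.bwd (nat_lit 9) (Steps.bwd (nat_lit 17) (Steps.bwd (nat_lit 9) (Steps.bwd (nat_lit 3) (Steps.bwd (nat_lit 3) (Steps.bwd (nat_lit 15) Steps.nil)))))) (nat_lit 65) (nat_lit 4),
  Rule.mk (nat_lit 2) (nat_lit 142) (Steps.fwd (nat_lit 131072) (Steps.fwd (nat_lit 16384) (Steps.fwd (nat_lit 90112) (Steps.fwd (nat_lit 98304) (Steps.bwd (nat_lit 15) (Steps.bwd (nat_lit 16) (Steps.fwd (nat_lit 90112) (Steps.bwd (nat_lit 16) Steps.nil)))))))) (nat_lit 47) (nat_lit 7),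
  Rule.mk (nat_lit 3) (nat_lit 94) (Steps.fwd (nat_lit 8192) (Steps.bwd (nat_lit 2) (Steps.bwd (nat_lit 4) (Steps.bwd (nat_lit 1) (Steps.fwd (nat_lit 16384) Steps.nil))))) (nat_lit 6) (nat_lit 0),
  Rule.mk (nat_lit 9) (nat_lit 270) (Steps.fwd (nat_lit 8192) (Steps.fwd (nat_lit 73728) (Steps.bwd (nat_lit 2) (Steps.bwd (nat_lit 18) (Steps.fwd (nat_lit 139264) (Steps.fwd (nat_lit 90112) (Steps.bwd (nat_lit 3) (Steps.bwd (nat_lit 1) (Steps.bwd (nat_lit 4) (Steps.bwd (nat_lit 4) (Steps.bwd (nat_lit 2) (Steps.fwd (nat_lit 65536) (Steps.fwd (nat_lit 73728) (Steps.fwd (nat_lit 24576) (Steps.bwd (nat_lit 12) (Steps.bwd (nat_lit 2) Steps.nil)))))))))))))))) (nat_lit 76) (nat_lit 6),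
  Rule.mk (nat_lit 3) (nat_lit 126) (Steps.bwd (nat_lit 12) (Steps.fwd (nat_lit 122880) (Steps.fwd (nat_lit 131072) (Steps.bwd (nat_lit 11) (Steps.bwd (nat_lit 17) (Steps.bwd (nat_lit 4) (Steps.bwd (nat_lit 13) Steps.nil))))))) (nat_lit 51) (nat_lit 0),
  Rule.mk (nat_lit 10) (nat_lit 142) (Steps.fwd (nat_lit 98304) (Steps.fwd (nat_lit 114688) (Steps.bwd (nat_lit 16) (Steps.bwd (nat_lit 10) (Steps.fwd (nat_lit 139264) (Steps.bwd (nat_lit 2) (Steps.fwd (nat_lit 131072) (Steps.bwd (nat_lit 1) Steps.nil)))))))) (nat_lit 47) (nat_lit 1),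
  Rule.mk (nat_lit 7) (nat_lit 126) (Steps.fwd (nat_lit 147456) (Steps.fwd (nat_lit 65536) (Steps.bwd (nat_lit 18) (Steps.fwd (nat_lit 8192) (Steps.bwd (nat_lit 2) (Steps.fwd (nat_lit 65536) (Steps.bwd (nat_lit 18) Steps.nil))))))) (nat_lit 86) (nat_lit 3),
  Rule.mk (nat_lit 8) (nat_lit 126) (Steps.fwd (nat_lit 147456) (Steps.fwd (nat_lit 57344) (Steps.bwd (nat_lit 1) (Steps.fwd (nat_lit 16384) (Steps.fwd (nat_lit 147456) (Steps.bwd (nat_lit 8) (Steps.bwd (nat_lit 18) Steps.nil))))))) (nat_lit 87) (nat_lit 6),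
  Rule.mk (nat_lit 16) (nat_lit 94) (Steps.bwd (nat_lit 19) (Steps.bwd (nat_lit 19) (Steps.fwd (nat_lit 81920) (Steps.bwd (nat_lit 17) (Steps.bwd (nat_lit 10) Steps.nil))))) (nat_lit 34) (nat_lit 4),
  Rule.mk (nat_lit 9) (nat_lit 110) (Steps.bwd (nat_lit 16) (Steps.fwd (nat_lit 81920) (Steps.fwd (nat_lit 122880) (Steps.fwd (nat_lit 81920) (Steps.fwd (nat_lit 73728) (Steps.bwd (nat_lit 18) Steps.nil)))))) (nat_lit 66) (nat_lit 3),
  Rule.mk (nat_lit 12) (nat_lit 78) (Steps.bwd (nat_lit 19) (Steps.bwd (nat_lit 11) (Steps.bwd (nat_lit 13) (Steps.bwd (nat_lit 10) Steps.nil)))) (nat_lit 19) (nat_lit 4),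
  Rule.mk (nat_lit 11) (nat_lit 110) (Steps.bwd (nat_lit 9) (Steps.bwd (nat_lit 11) (Steps.fwd (nat_lit 73728) (Steps.bwd (nat_lit 3) (Steps.fwd (nat_lit 122880) (Steps.fwd (nat_lit 32768) Steps.nil)))))) (nat_lit 61) (nat_lit 4),
  Rule.mk (nat_lit 16) (nat_lit 110) (Steps.bwd (nat_lit 9) (Steps.fwd (nat_lit 131072) (Steps.fwd (nat_lit 122880) (Steps.fwd (nat_lit 24576) (Steps.bwd (nat_lit 4) (Steps.fwd (nat_lit 73728) Steps.nil)))))) (nat_lit 64) (nat_lit 2),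
  Rule.mk (nat_lit 17) (nat_lit 110) (Steps.bwd (nat_lit 9) (Steps.bwd (nat_lit 3) (Steps.bwd (nat_lit 3) (Steps.fwd (nat_lit 114688) (Steps.bwd (nat_lit 16) (Steps.fwd (nat_lit 73728) Steps.nil)))))) (nat_lit 65) (nat_lit 6),
  Rule.mk (nat_lit 3) (nat_lit 110) (Steps.bwd (nat_lit 9) (Steps.fwd (nat_lit 139264) (Steps.fwd (nat_lit 139264) (Steps.fwd (nat_lit 122880) (Steps.bwd (nat_lit 11) (Steps.fwd (nat_lit 73728) Steps.nil)))))) (nat_lit 70) (nat_lit 2),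
  Rule.mk (nat_lit 11) (nat_lit 110) (Steps.bwd (nat_lit 9) (Steps.fwd (nat_lit 81920) (Steps.fwd (nat_lit 73728) (Steps.fwd (nat_lit 32768) (Steps.fwd (nat_lit 122880) (Steps.bwd (nat_lit 3) Steps.nil)))))) (nat_lit 61) (nat_lit 4),
  Rule.mk (nat_lit 9) (nat_lit 110) (Steps.bwd (nat_lit 4) (Steps.bwd (nat_lit 9) (Steps.bwd (nat_lit 10) (Steps.bwd (nat_lit 15) (Steps.fwd (nat_lit 131072) (Steps.fwd (nat_lit 131072) Steps.nil)))))) (nat_lit 71) (nat_lit 5),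
  Rule.mk (nat_lit 9) (nat_lit 110) (Steps.bwd (nat_lit 17) (Steps.bwd (nat_lit 9) (Steps.bwd (nat_lit 3) (Steps.bwd (nat_lit 3) (Steps.bwd (nat_lit 15) (Steps.bwd (nat_lit 16) Steps.nil)))))) (nat_lit 65) (nat_lit 5),
  Rule.mk (nat_lit 0) (nat_lit 126) (Steps.bwd (nat_lit 18) (Steps.fwd (nat_lit 73728) (Steps.fwd (nat_lit 139264) (Steps.fwd (nat_lit 81920) (Steps.bwd (nat_lit 14) (Steps.bwd (nat_lit 11) (Steps.fwd (nat_lit 73728) Steps.nil))))))) (nat_lit 66) (nat_lit 1),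
  Rule.mk (nat_lit 3) (nat_lit 110) (Steps.bwd (nat_lit 9) (Steps.bwd (nat_lit 16) (Steps.fwd (nat_lit 139264) (Steps.bwd (nat_lit 14) (Steps.bwd (nat_lit 11) (Steps.fwd (nat_lit 73728) Steps.nil)))))) (nat_lit 70) (nat_lit 2),
  Rule.mk (nat_lit 1) (nat_lit 206) (Steps.bwd (nat_lit 9) (Steps.bwd (nat_lit 16) (Steps.bwd (nat_lit 19) (Steps.fwd (nat_lit 81920) (Steps.bwd (nat_lit 2) (Steps.fwd (nat_lit 32768) (Steps.bwd (nat_lit 2) (Steps.fwd (nat_lit 24576) (Steps.bwd (nat_lit 4) (Steps.bwd (nat_lit 2) (Steps.fwd (nat_lit 73728) (Steps.fwd (nat_lit 16384) Steps.nil)))))))))))) (nat_lit 68) (nat_lit 3),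
  Rule.mk (nat_lit 18) (nat_lit 78) (Steps.bwd (nat_lit 18) (Steps.bwd (nat_lit 2) (Steps.fwd (nat_lit 147456) (Steps.fwd (nat_lit 16384) Steps.nil)))) (nat_lit 49) (nat_lit 1),
  Rule.mk (nat_lit 9) (nat_lit 110) (Steps.bwd (nat_lit 18) (Steps.bwd (nat_lit 9) (Steps.bwd (nat_lit 16) (Steps.fwd (nat_lit 81920) (Steps.bwd (nat_lit 14) (Steps.bwd (nat_lit 11) Steps.nil)))))) (nat_lit 66) (nat_lit 1),
  Rule.mk (nat_lit 1) (nat_lit 142) (Steps.bwd (nat_lit 10) (Steps.bwd (nat_lit 13) (Steps.fwd (nat_lit 114688) (Steps.bwd (nat_lit 16) (Steps.fwd (nat_lit 90112) (Steps.bwd (nat_lit 16) (Steps.fwd (nat_lit 8192) (Steps.fwd (nat_lit 131072) Steps.nil)))))))) (nat_lit 47) (nat_lit 0),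
  Rule.mk (nat_lit 12) (nat_lit 158) (Steps.bwd (nat_lit 11) (Steps.bwd (nat_lit 17) (Steps.bwd (nat_lit 2) (Steps.fwd (nat_lit 73728) (Steps.fwd (nat_lit 114688) (Steps.bwd (nat_lit 9) (Steps.fwd (nat_lit 32768) (Steps.fwd (nat_lit 32768) (Steps.bwd (nat_lit 1) Steps.nil))))))))) (nat_lit 63) (nat_lit 4),
  Rule.mk (nat_lit 15) (nat_lit 110) (Steps.bwd (nat_lit 1) (Steps.bwd (nat_lit 15) (Steps.bwd (nat_lit 15) (Steps.fwd (nat_lit 90112) (Steps.fwd (nat_lit 139264) (Steps.bwd (nat_lit 2) Steps.nil)))))) (nat_lit 45) (nat_lit 6),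
  Rule.mk (nat_lit 3) (nat_lit 190) (Steps.bwd (nat_lit 1) (Steps.fwd (nat_lit 24576) (Steps.bwd (nat_lit 2) (Steps.bwd (nat_lit 3) (Steps.fwd (nat_lit 16384) (Steps.fwd (nat_lit 24576) (Steps.fwd (nat_lit 8192) (Steps.fwd (nat_lit 32768) (Steps.fwd (nat_lit 16384) (Steps.bwd (nat_lit 4) (Steps.bwd (nat_lit 2) Steps.nil))))))))))) (nat_lit 9) (nat_lit 3),
  Rule.mk (nat_lit 9) (nat_lit 110) (Steps.fwd (nat_lit 90112) (Steps.bwd (nat_lit 9) (Steps.fwd (nat_lit 90112) (Steps.bwd (nat_lit 4) (Steps.fwd (nat_lit 114688) (Steps.fwd (nat_lit 24576) Steps.nil)))))) (nat_lit 60) (nat_lit 1),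
  Rule.mk (nat_lit 9) (nat_lit 110) (Steps.bwd (nat_lit 10) (Steps.fwd (nat_lit 114688) (Steps.fwd (nat_lit 131072) (Steps.bwd (nat_lit 17) (Steps.bwd (nat_lit 9) (Steps.fwd (nat_lit 24576) Steps.nil)))))) (nat_lit 71) (nat_lit 0),
  Rule.mk (nat_lit 16) (nat_lit 110) (Steps.bwd (nat_lit 9) (Steps.fwd (nat_lit 131072) (Steps.bwd (nat_lit 9) (Steps.bwd (nat_lit 3) (Steps.fwd (nat_lit 32768) (Steps.fwd (nat_lit 114688) Steps.nil)))))) (nat_lit 65) (nat_lit 4),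
  Rule.mk (nat_lit 15) (nat_lit 158) (Steps.bwd (nat_lit 9) (Steps.bwd (nat_lit 3) (Steps.fwd (nat_lit 32768) (Steps.fwd (nat_lit 16384) (Steps.fwd (nat_lit 106496) (Steps.fwd (nat_lit 81920) (Steps.bwd (nat_lit 17) (Steps.bwd (nat_lit 2) (Steps.fwd (nat_lit 73728) Steps.nil))))))))) (nat_lit 63) (nat_lit 9),
  Rule.mk (nat_lit 12) (nat_lit 190) (Steps.bwd (nat_lit 9) (Steps.fwd (nat_lit 98304) (Steps.bwd (nat_lit 9) (Steps.fwd (nat_lit 106496) (Steps.fwd (nat_lit 131072) (Steps.fwd (nat_lit 16384) (Steps.bwd (nat_lit 14) (Steps.bwd (nat_lit 1) (Steps.bwd (nat_lit 1) (Steps.bwd (nat_lit 1) (Steps.fwd (nat_lit 73728) Steps.nil))))))))))) (nat_lit 74) (nat_lit 2),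
  Rule.mk (nat_lit 14) (nat_lit 78) (Steps.fwd (nat_lit 139264) (Steps.fwd (nat_lit 155648) (Steps.fwd (nat_lit 114688) (Steps.bwd (nat_lit 17) Steps.nil)))) (nat_lit 40) (nat_lit 3),
  Rule.mk (nat_lit 19) (nat_lit 78) (Steps.bwd (nat_lit 17) (Steps.bwd (nat_lit 15) (Steps.bwd (nat_lit 16) (Steps.fwd (nat_lit 122880) Steps.nil)))) (nat_lit 41) (nat_lit 1),
  Rule.mk (nat_lit 17) (nat_lit 110) (Steps.bwd (nat_lit 14) (Steps.fwd (nat_lit 24576) (Steps.fwd (nat_lit 24576) (Steps.bwd (nat_lit 9) (Steps.fwd (nat_lit 139264) (Steps.fwd (nat_lit 73728) Steps.nil)))))) (nat_lit 64) (nat_lit 4),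
  Rule.mk (nat_lit 2) (nat_lit 190) (Steps.fwd (nat_lit 8192) (Steps.fwd (nat_lit 8192) (Steps.bwd (nat_lit 15) (Steps.bwd (nat_lit 2) (Steps.bwd (nat_lit 16) (Steps.bwd (nat_lit 13) (Steps.fwd (nat_lit 73728) (Steps.bwd (nat_lit 12) (Steps.fwd (nat_lit 73728) (Steps.bwd (nat_lit 13) (Steps.fwd (nat_lit 73728) Steps.nil))))))))))) (nat_lit 75) (nat_lit 1),
  Rule.mk (nat_lit 8) (nat_lit 94) (Steps.fwd (nat_lit 57344) (Steps.bwd (nat_lit 1) (Steps.bwd (nat_lit 1) (Steps.fwd (nat_lit 16384) (Steps.bwd (nat_lit 1) Steps.nil))))) (nat_lit 79) (nat_lit 5),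
  Rule.mk (nat_lit 7) (nat_lit 94) (Steps.bwd (nat_lit 2) (Steps.fwd (nat_lit 8192) (Steps.bwd (nat_lit 2) (Steps.bwd (nat_lit 8) (Steps.bwd (nat_lit 1) Steps.nil))))) (nat_lit 82) (nat_lit 3),
  Rule.mk (nat_lit 0) (nat_lit 78) (Steps.bwd (nat_lit 7) (Steps.bwd (nat_lit 3) (Steps.fwd (nat_lit 57344) (Steps.bwd (nat_lit 4) Steps.nil)))) (nat_lit 81) (nat_lit 2),
  Rule.mk (nat_lit 2) (nat_lit 94) (Steps.fwd (nat_lit 24576) (Steps.fwd (nat_lit 16384) (Steps.bwd (nat_lit 1) (Steps.fwd (nat_lit 32768) (Steps.bwd (nat_lit 2) Steps.nil))))) (nat_lit 6) (nat_lit 2),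
  Rule.mk (nat_lit 12) (nat_lit 126) (Steps.fwd (nat_lit 122880) (Steps.fwd (nat_lit 131072) (Steps.fwd (nat_lit 81920) (Steps.fwd (nat_lit 131072) (Steps.bwd (nat_lit 4) (Steps.fwd (nat_lit 98304) (Steps.bwd (nat_lit 3) Steps.nil))))))) (nat_lit 51) (nat_lit 1),
  Rule.mk (nat_lit 0) (nat_lit 94) (Steps.fwd (nat_lit 16384) (Steps.bwd (nat_lit 10) (Steps.fwd (nat_lit 90112) (Steps.bwd (nat_lit 2) (Steps.bwd (nat_lit 12) Steps.nil))))) (nat_lit 42) (nat_lit 2),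
  Rule.mk (nat_lit 0) (nat_lit 222) (Steps.bwd (nat_lit 9) (Steps.fwd (nat_lit 8192) (Steps.bwd (nat_lit 3) (Steps.bwd (nat_lit 2) (Steps.fwd (nat_lit 24576) (Steps.fwd (nat_lit 24576) (Steps.fwd (nat_lit 8192) (Steps.bwd (nat_lit 9) (Steps.fwd (nat_lit 16384) (Steps.fwd (nat_lit 16384) (Steps.bwd (nat_lit 10) (Steps.fwd (nat_lit 155648) (Steps.fwd (nat_lit 131072) Steps.nil))))))))))))) (nat_lit 73) (nat_lit 5),
  Rule.mk (nat_lit 9) (nat_lit 158) (Steps.bwd (nat_lit 15) (Steps.bwd (nat_lit 9) (Steps.bwd (nat_lit 3) (Steps.bwd (nat_lit 3) (Steps.fwd (nat_lit 16384) (Steps.bwd (nat_lit 12) (Steps.fwd (nat_lit 81920) (Steps.bwd (nat_lit 17) (Steps.bwd (nat_lit 2) Steps.nil))))))))) (nat_lit 63) (nat_lit 8),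
  Rule.mk (nat_lit 14) (nat_lit 110) (Steps.bwd (nat_lit 3) (Steps.fwd (nat_lit 81920) (Steps.bwd (nat_lit 9) (Steps.bwd (nat_lit 11) (Steps.fwd (nat_lit 73728) (Steps.fwd (nat_lit 32768) Steps.nil)))))) (nat_lit 61) (nat_lit 2),
  Rule.mk (nat_lit 10) (nat_lit 94) (Steps.fwd (nat_lit 147456) (Steps.bwd (nat_lit 19) (Steps.bwd (nat_lit 15) (Steps.bwd (nat_lit 11) (Steps.bwd (nat_lit 14) Steps.nil))))) (nat_lit 33) (nat_lit 0),
  Rule.mk (nat_lit 11) (nat_lit 110) (Steps.fwd (nat_lit 73728) (Steps.fwd (nat_lit 155648) (Steps.bwd (nat_lit 9) (Steps.bwd (nat_lit 16) (Steps.bwd (nat_lit 11) (Steps.bwd (nat_lit 14) Steps.nil)))))) (nat_lit 66) (nat_lit 0),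
  Rule.mk (nat_lit 9) (nat_lit 110) (Steps.bwd (nat_lit 11) (Steps.fwd (nat_lit 73728) (Steps.bwd (nat_lit 3) (Steps.bwd (nat_lit 14) (Steps.bwd (nat_lit 3) (Steps.bwd (nat_lit 11) Steps.nil)))))) (nat_lit 61) (nat_lit 5),
  Rule.mk (nat_lit 16) (nat_lit 110) (Steps.fwd (nat_lit 139264) (Steps.bwd (nat_lit 14) (Steps.bwd (nat_lit 11) (Steps.bwd (nat_lit 9) (Steps.bwd (nat_lit 3) (Steps.bwd (nat_lit 9) Steps.nil)))))) (nat_lit 70) (nat_lit 4),
  Rule.mk (nat_lit 3) (nat_lit 126) (Steps.bwd (nat_lit 12) (Steps.fwd (nat_lit 122880) (Steps.fwd (nat_lit 131072) (Steps.bwd (nat_lit 11) (Steps.fwd (nat_lit 131072) (Steps.fwd (nat_lit 24576) (Steps.bwd (nat_lit 13) Steps.nil))))))) (nat_lit 51) (nat_lit 0)]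
noncomputable def R_64 : List (Rule) := [Rule.mk (nat_lit 9) (nat_lit 110) (Steps.bwd (nat_lit 16) (Steps.fwd (nat_lit 139264) (Steps.bwd (nat_lit 14) (Steps.bwd (nat_lit 11) (Steps.fwd (nat_lit 73728) (Steps.bwd (nat_lit 3) Steps.nil)))))) (nat_lit 70) (nat_lit 3),
  Rule.mk (nat_lit 19) (nat_lit 158) (Steps.bwd (nat_lit 8) (Steps.bwd (nat_lit 19) (Steps.fwd (nat_lit 57344) (Steps.bwd (nat_lit 19) (Steps.bwd (nat_lit 8) (Steps.bwd (nat_lit 19) (Steps.bwd (nat_lit 8) (Steps.bwd (nat_lit 19) (Steps.fwd (nat_lit 57344) Steps.nil))))))))) (nat_lit 85) (nat_lit 1),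
  Rule.mk (nat_lit 2) (nat_lit 94) (Steps.fwd (nat_lit 32768) (Steps.fwd (nat_lit 16384) (Steps.bwd (nat_lit 1) (Steps.bwd (nat_lit 4) (Steps.fwd (nat_lit 8192) Steps.nil))))) (nat_lit 7) (nat_lit 3),
  Rule.mk (nat_lit 2) (nat_lit 94) (Steps.bwd (nat_lit 2) (Steps.bwd (nat_lit 3) (Steps.bwd (nat_lit 1) (Steps.bwd (nat_lit 1) (Steps.fwd (nat_lit 24576) Steps.nil))))) (nat_lit 7) (nat_lit 2),
  Rule.mk (nat_lit 7) (nat_lit 126) (Steps.fwd (nat_lit 147456) (Steps.fwd (nat_lit 65536) (Steps.bwd (nat_lit 18) (Steps.fwd (nat_lit 8192) (Steps.bwd (nat_lit 2) (Steps.bwd (nat_lit 7) (Steps.fwd (nat_lit 155648) Steps.nil))))))) (nat_lit 86) (nat_lit 3),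
  Rule.mk (nat_lit 1) (nat_lit 94) (Steps.fwd (nat_lit 16384) (Steps.bwd (nat_lit 3) (Steps.bwd (nat_lit 2) (Steps.bwd (nat_lit 2) (Steps.bwd (nat_lit 4) Steps.nil))))) (nat_lit 6) (nat_lit 4),
  Rule.mk (nat_lit 2) (nat_lit 158) (Steps.bwd (nat_lit 9) (Steps.fwd (nat_lit 114688) (Steps.bwd (nat_lit 9) (Steps.fwd (nat_lit 32768) (Steps.bwd (nat_lit 3) (Steps.fwd (nat_lit 16384) (Steps.bwd (nat_lit 12) (Steps.fwd (nat_lit 81920) (Steps.fwd (nat_lit 131072) Steps.nil))))))))) (nat_lit 63) (nat_lit 7),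
  Rule.mk (nat_lit 15) (nat_lit 126) (Steps.bwd (nat_lit 3) (Steps.bwd (nat_lit 10) (Steps.fwd (nat_lit 90112) (Steps.bwd (nat_lit 16) (Steps.fwd (nat_lit 114688) (Steps.bwd (nat_lit 15) (Steps.fwd (nat_lit 24576) Steps.nil))))))) (nat_lit 53) (nat_lit 7),
  Rule.mk (nat_lit 10) (nat_lit 94) (Steps.fwd (nat_lit 122880) (Steps.fwd (nat_lit 155648) (Steps.bwd (nat_lit 18) (Steps.fwd (nat_lit 81920) (Steps.bwd (nat_lit 15) Steps.nil))))) (nat_lit 32) (nat_lit 3),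
  Rule.mk (nat_lit 16) (nat_lit 126) (Steps.bwd (nat_lit 15) (Steps.bwd (nat_lit 13) (Steps.fwd (nat_lit 24576) (Steps.fwd (nat_lit 106496) (Steps.bwd (nat_lit 3) (Steps.fwd (nat_lit 139264) (Steps.bwd (nat_lit 10) Steps.nil))))))) (nat_lit 50) (nat_lit 6),
  Rule.mk (nat_lit 10) (nat_lit 94) (Steps.bwd (nat_lit 18) (Steps.bwd (nat_lit 18) (Steps.bwd (nat_lit 17) (Steps.fwd (nat_lit 81920) (Steps.bwd (nat_lit 16) Steps.nil))))) (nat_lit 35) (nat_lit 0),
  Rule.mk (nat_lit 9) (nat_lit 110) (Steps.fwd (nat_lit 32768) (Steps.bwd (nat_lit 3) (Steps.bwd (nat_lit 15) (Steps.bwd (nat_lit 16) (Steps.bwd (nat_lit 9) (Steps.fwd (nat_lit 131072) Steps.nil)))))) (nat_lit 65) (nat_lit 0),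
  Rule.mk (nat_lit 10) (nat_lit 158) (Steps.bwd (nat_lit 13) (Steps.fwd (nat_lit 8192) (Steps.fwd (nat_lit 24576) (Steps.fwd (nat_lit 24576) (Steps.bwd (nat_lit 9) (Steps.bwd (nat_lit 14) (Steps.bwd (nat_lit 9) (Steps.fwd (nat_lit 16384) (Steps.fwd (nat_lit 139264) Steps.nil))))))))) (nat_lit 62) (nat_lit 6),
  Rule.mk (nat_lit 16) (nat_lit 126) (Steps.bwd (nat_lit 15) (Steps.bwd (nat_lit 13) (Steps.bwd (nat_lit 4) (Steps.bwd (nat_lit 12) (Steps.fwd (nat_lit 32768) (Steps.fwd (nat_lit 139264) (Steps.bwd (nat_lit 10) Steps.nil))))))) (nat_lit 50) (nat_lit 6),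
  Rule.mk (nat_lit 15) (nat_lit 110) (Steps.bwd (nat_lit 10) (Steps.fwd (nat_lit 139264) (Steps.fwd (nat_lit 8192) (Steps.fwd (nat_lit 114688) (Steps.bwd (nat_lit 1) (Steps.bwd (nat_lit 15) Steps.nil)))))) (nat_lit 45) (nat_lit 2),
  Rule.mk (nat_lit 15) (nat_lit 110) (Steps.bwd (nat_lit 1) (Steps.fwd (nat_lit 114688) (Steps.bwd (nat_lit 15) (Steps.bwd (nat_lit 10) (Steps.bwd (nat_lit 16) (Steps.fwd (nat_lit 8192) Steps.nil)))))) (nat_lit 45) (nat_lit 6),
  Rule.mk (nat_lit 9) (nat_lit 158) (Steps.bwd (nat_lit 1) (Steps.fwd (nat_lit 139264) (Steps.fwd (nat_lit 90112) (Steps.bwd (nat_lit 13) (Steps.fwd (nat_lit 8192) (Steps.fwd (nat_lit 24576) (Steps.bwd (nat_lit 4) (Steps.bwd (nat_lit 9) (Steps.fwd (nat_lit 122880) Steps.nil))))))))) (nat_lit 62) (nat_lit 3),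
  Rule.mk (nat_lit 10) (nat_lit 110) (Steps.bwd (nat_lit 9) (Steps.fwd (nat_lit 90112) (Steps.fwd (nat_lit 24576) (Steps.fwd (nat_lit 114688) (Steps.bwd (nat_lit 4) (Steps.bwd (nat_lit 9) Steps.nil)))))) (nat_lit 60) (nat_lit 2),
  Rule.mk (nat_lit 17) (nat_lit 110) (Steps.bwd (nat_lit 9) (Steps.fwd (nat_lit 32768) (Steps.fwd (nat_lit 32768) (Steps.fwd (nat_lit 114688) (Steps.fwd (nat_lit 139264) (Steps.fwd (nat_lit 73728) Steps.nil)))))) (nat_lit 65) (nat_lit 6),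
  Rule.mk (nat_lit 18) (nat_lit 110) (Steps.bwd (nat_lit 9) (Steps.fwd (nat_lit 139264) (Steps.bwd (nat_lit 11) (Steps.fwd (nat_lit 122880) (Steps.fwd (nat_lit 81920) (Steps.bwd (nat_lit 9) Steps.nil)))))) (nat_lit 66) (nat_lit 2),
  Rule.mk (nat_lit 12) (nat_lit 190) (Steps.bwd (nat_lit 9) (Steps.fwd (nat_lit 98304) (Steps.fwd (nat_lit 73728) (Steps.bwd (nat_lit 12) (Steps.bwd (nat_lit 17) (Steps.fwd (nat_lit 16384) (Steps.fwd (nat_lit 122880) (Steps.bwd (nat_lit 1) (Steps.fwd (nat_lit 16384) (Steps.fwd (nat_lit 16384) (Steps.fwd (nat_lit 73728) Steps.nil))))))))))) (nat_lit 74) (nat_lit 2),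
  Rule.mk (nat_lit 10) (nat_lit 142) (Steps.bwd (nat_lit 13) (Steps.fwd (nat_lit 114688) (Steps.fwd (nat_lit 139264) (Steps.bwd (nat_lit 10) (Steps.fwd (nat_lit 139264) (Steps.bwd (nat_lit 2) (Steps.fwd (nat_lit 131072) (Steps.bwd (nat_lit 1) Steps.nil)))))))) (nat_lit 47) (nat_lit 1),
  Rule.mk (nat_lit 7) (nat_lit 126) (Steps.fwd (nat_lit 155648) (Steps.bwd (nat_lit 7) (Steps.fwd (nat_lit 147456) (Steps.bwd (nat_lit 7) (Steps.bwd (nat_lit 18) (Steps.fwd (nat_lit 8192) (Steps.bwd (nat_lit 2) Steps.nil))))))) (nat_lit 86) (nat_lit 1),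
  Rule.mk (nat_lit 9) (nat_lit 110) (Steps.bwd (nat_lit 17) (Steps.fwd (nat_lit 122880) (Steps.fwd (nat_lit 24576) (Steps.bwd (nat_lit 4) (Steps.fwd (nat_lit 73728) (Steps.bwd (nat_lit 16) Steps.nil)))))) (nat_lit 64) (nat_lit 3),
  Rule.mk (nat_lit 9) (nat_lit 206) (Steps.bwd (nat_lit 1) (Steps.bwd (nat_lit 3) (Steps.bwd (nat_lit 3) (Steps.fwd (nat_lit 16384) (Steps.bwd (nat_lit 4) (Steps.bwd (nat_lit 1) (Steps.fwd (nat_lit 73728) (Steps.bwd (nat_lit 16) (Steps.fwd (nat_lit 147456) (Steps.bwd (nat_lit 11) (Steps.bwd (nat_lit 2) (Steps.bwd (nat_lit 2) Steps.nil)))))))))))) (nat_lit 72) (nat_lit 1),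
  Rule.mk (nat_lit 18) (nat_lit 158) (Steps.bwd (nat_lit 7) (Steps.bwd (nat_lit 18) (Steps.bwd (nat_lit 7) (Steps.bwd (nat_lit 18) (Steps.fwd (nat_lit 65536) (Steps.fwd (nat_lit 155648) (Steps.fwd (nat_lit 65536) (Steps.fwd (nat_lit 155648) (Steps.bwd (nat_lit 7) Steps.nil))))))))) (nat_lit 84) (nat_lit 0),
  Rule.mk (nat_lit 9) (nat_lit 158) (Steps.bwd (nat_lit 14) (Steps.fwd (nat_lit 73728) (Steps.fwd (nat_lit 16384) (Steps.bwd (nat_lit 16) (Steps.fwd (nat_lit 90112) (Steps.fwd (nat_lit 98304) (Steps.fwd (nat_lit 8192) (Steps.bwd (nat_lit 4) (Steps.fwd (nat_lit 24576) Steps.nil))))))))) (nat_lit 62) (nat_lit 1),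
  Rule.mk (nat_lit 10) (nat_lit 78) (Steps.fwd (nat_lit 90112) (Steps.fwd (nat_lit 8192) (Steps.bwd (nat_lit 12) (Steps.bwd (nat_lit 1) Steps.nil)))) (nat_lit 42) (nat_lit 4),
  Rule.mk (nat_lit 1) (nat_lit 94) (Steps.fwd (nat_lit 57344) (Steps.fwd (nat_lit 57344) (Steps.fwd (nat_lit 16384) (Steps.bwd (nat_lit 1) (Steps.bwd (nat_lit 1) Steps.nil))))) (nat_lit 79) (nat_lit 4),
  Rule.mk (nat_lit 9) (nat_lit 110) (Steps.bwd (nat_lit 3) (Steps.fwd (nat_lit 122880) (Steps.fwd (nat_lit 32768) (Steps.bwd (nat_lit 11) (Steps.fwd (nat_lit 73728) (Steps.fwd (nat_lit 81920) Steps.nil)))))) (nat_lit 61) (nat_lit 0),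
  Rule.mk (nat_lit 12) (nat_lit 126) (Steps.bwd (nat_lit 3) (Steps.fwd (nat_lit 139264) (Steps.bwd (nat_lit 10) (Steps.bwd (nat_lit 16) (Steps.fwd (nat_lit 114688) (Steps.fwd (nat_lit 98304) (Steps.bwd (nat_lit 4) Steps.nil))))))) (nat_lit 50) (nat_lit 2),
  Rule.mk (nat_lit 14) (nat_lit 110) (Steps.bwd (nat_lit 14) (Steps.fwd (nat_lit 8192) (Steps.fwd (nat_lit 122880) (Steps.fwd (nat_lit 16384) (Steps.fwd (nat_lit 131072) (Steps.bwd (nat_lit 11) Steps.nil)))))) (nat_lit 44) (nat_lit 6),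
  Rule.mk (nat_lit 11) (nat_lit 110) (Steps.bwd (nat_lit 14) (Steps.fwd (nat_lit 122880) (Steps.fwd (nat_lit 8192) (Steps.bwd (nat_lit 14) (Steps.bwd (nat_lit 1) (Steps.bwd (nat_lit 17) Steps.nil)))))) (nat_lit 44) (nat_lit 5),
  Rule.mk (nat_lit 0) (nat_lit 174) (Steps.fwd (nat_lit 24576) (Steps.bwd (nat_lit 4) (Steps.bwd (nat_lit 9) (Steps.bwd (nat_lit 14) (Steps.fwd (nat_lit 73728) (Steps.fwd (nat_lit 16384) (Steps.bwd (nat_lit 16) (Steps.fwd (nat_lit 90112) (Steps.fwd (nat_lit 98304) (Steps.fwd (nat_lit 8192) Steps.nil)))))))))) (nat_lit 62) (nat_lit 8),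
  Rule.mk (nat_lit 2) (nat_lit 94) (Steps.fwd (nat_lit 65536) (Steps.bwd (nat_lit 1) (Steps.fwd (nat_lit 16384) (Steps.fwd (nat_lit 16384) (Steps.bwd (nat_lit 8) Steps.nil))))) (nat_lit 83) (nat_lit 5),
  Rule.mk (nat_lit 10) (nat_lit 110) (Steps.bwd (nat_lit 17) (Steps.bwd (nat_lit 9) (Steps.bwd (nat_lit 19) (Steps.bwd (nat_lit 9) (Steps.bwd (nat_lit 10) (Steps.bwd (nat_lit 15) Steps.nil)))))) (nat_lit 67) (nat_lit 3),
  Rule.mk (nat_lit 2) (nat_lit 142) (Steps.bwd (nat_lit 17) (Steps.fwd (nat_lit 16384) (Steps.bwd (nat_lit 10) (Steps.fwd (nat_lit 98304) (Steps.bwd (nat_lit 15) (Steps.bwd (nat_lit 16) (Steps.bwd (nat_lit 10) (Steps.bwd (nat_lit 16) Steps.nil)))))))) (nat_lit 47) (nat_lit 7),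
  Rule.mk (nat_lit 11) (nat_lit 158) (Steps.bwd (nat_lit 17) (Steps.bwd (nat_lit 2) (Steps.fwd (nat_lit 73728) (Steps.fwd (nat_lit 114688) (Steps.fwd (nat_lit 73728) (Steps.fwd (nat_lit 32768) (Steps.fwd (nat_lit 32768) (Steps.bwd (nat_lit 1) (Steps.fwd (nat_lit 106496) Steps.nil))))))))) (nat_lit 63) (nat_lit 5),
  Rule.mk (nat_lit 18) (nat_lit 110) (Steps.bwd (nat_lit 9) (Steps.bwd (nat_lit 16) (Steps.fwd (nat_lit 81920) (Steps.fwd (nat_lit 122880) (Steps.bwd (nat_lit 11) (Steps.bwd (nat_lit 9) Steps.nil)))))) (nat_lit 66) (nat_lit 2),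
  Rule.mk (nat_lit 9) (nat_lit 110) (Steps.bwd (nat_lit 16) (Steps.fwd (nat_lit 139264) (Steps.fwd (nat_lit 122880) (Steps.bwd (nat_lit 11) (Steps.bwd (nat_lit 9) (Steps.bwd (nat_lit 3) Steps.nil)))))) (nat_lit 70) (nat_lit 3),
  Rule.mk (nat_lit 15) (nat_lit 158) (Steps.bwd (nat_lit 9) (Steps.bwd (nat_lit 3) (Steps.fwd (nat_lit 32768) (Steps.bwd (nat_lit 1) (Steps.bwd (nat_lit 12) (Steps.fwd (nat_lit 81920) (Steps.fwd (nat_lit 131072) (Steps.fwd (nat_lit 8192) (Steps.fwd (nat_lit 73728) Steps.nil))))))))) (nat_lit 63) (nat_lit 9),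
  Rule.mk (nat_lit 9) (nat_lit 110) (Steps.fwd (nat_lit 81920) (Steps.bwd (nat_lit 9) (Steps.bwd (nat_lit 3) (Steps.bwd (nat_lit 14) (Steps.fwd (nat_lit 32768) (Steps.bwd (nat_lit 11) Steps.nil)))))) (nat_lit 61) (nat_lit 5),
  Rule.mk (nat_lit 9) (nat_lit 158) (Steps.bwd (nat_lit 15) (Steps.bwd (nat_lit 9) (Steps.bwd (nat_lit 3) (Steps.fwd (nat_lit 32768) (Steps.bwd (nat_lit 1) (Steps.fwd (nat_lit 106496) (Steps.bwd (nat_lit 11) (Steps.bwd (nat_lit 17) (Steps.bwd (nat_lit 2) Steps.nil))))))))) (nat_lit 63) (nat_lit 8),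
  Rule.mk (nat_lit 9) (nat_lit 206) (Steps.bwd (nat_lit 1) (Steps.fwd (nat_lit 16384) (Steps.bwd (nat_lit 9) (Steps.fwd (nat_lit 139264) (Steps.bwd (nat_lit 19) (Steps.fwd (nat_lit 81920) (Steps.fwd (nat_lit 8192) (Steps.bwd (nat_lit 3) (Steps.bwd (nat_lit 2) (Steps.bwd (nat_lit 4) (Steps.fwd (nat_lit 24576) (Steps.bwd (nat_lit 2) Steps.nil)))))))))))) (nat_lit 68) (nat_lit 1),
  Rule.mk (nat_lit 4) (nat_lit 110) (Steps.bwd (nat_lit 4) (Steps.bwd (nat_lit 9) (Steps.bwd (nat_lit 16) (Steps.fwd (nat_lit 73728) (Steps.fwd (nat_lit 131072) (Steps.fwd (nat_lit 122880) Steps.nil)))))) (nat_lit 64) (nat_lit 6),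
  Rule.mk (nat_lit 2) (nat_lit 126) (Steps.bwd (nat_lit 4) (Steps.bwd (nat_lit 2) (Steps.bwd (nat_lit 4) (Steps.bwd (nat_lit 2) (Steps.bwd (nat_lit 4) (Steps.bwd (nat_lit 2) (Steps.bwd (nat_lit 4) Steps.nil))))))) (nat_lit 5) (nat_lit 0),
  Rule.mk (nat_lit 17) (nat_lit 126) (Steps.bwd (nat_lit 4) (Steps.bwd (nat_lit 13) (Steps.bwd (nat_lit 3) (Steps.bwd (nat_lit 12) (Steps.fwd (nat_lit 122880) (Steps.bwd (nat_lit 17) (Steps.fwd (nat_lit 81920) Steps.nil))))))) (nat_lit 51) (nat_lit 5),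
  Rule.mk (nat_lit 11) (nat_lit 126) (Steps.bwd (nat_lit 4) (Steps.bwd (nat_lit 14) (Steps.bwd (nat_lit 3) (Steps.bwd (nat_lit 14) (Steps.fwd (nat_lit 122880) (Steps.fwd (nat_lit 131072) (Steps.fwd (nat_lit 81920) Steps.nil))))))) (nat_lit 52) (nat_lit 0),
  Rule.mk (nat_lit 9) (nat_lit 110) (Steps.bwd (nat_lit 17) (Steps.bwd (nat_lit 14) (Steps.fwd (nat_lit 24576) (Steps.fwd (nat_lit 24576) (Steps.fwd (nat_lit 73728) (Steps.fwd (nat_lit 139264) Steps.nil)))))) (nat_lit 64) (nat_lit 3),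
  Rule.mk (nat_lit 9) (nat_lit 110) (Steps.bwd (nat_lit 4) (Steps.bwd (nat_lit 9) (Steps.fwd (nat_lit 90112) (Steps.fwd (nat_lit 114688) (Steps.bwd (nat_lit 17) (Steps.fwd (nat_lit 131072) Steps.nil)))))) (nat_lit 71) (nat_lit 5),
  Rule.mk (nat_lit 17) (nat_lit 142) (Steps.bwd (nat_lit 1) (Steps.bwd (nat_lit 10) (Steps.bwd (nat_lit 13) (Steps.fwd (nat_lit 114688) (Steps.bwd (nat_lit 16) (Steps.fwd (nat_lit 90112) (Steps.bwd (nat_lit 16) (Steps.fwd (nat_lit 8192) Steps.nil)))))))) (nat_lit 47) (nat_lit 8),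
  Rule.mk (nat_lit 17) (nat_lit 158) (Steps.bwd (nat_lit 2) (Steps.bwd (nat_lit 9) (Steps.fwd (nat_lit 114688) (Steps.bwd (nat_lit 9) (Steps.fwd (nat_lit 32768) (Steps.fwd (nat_lit 32768) (Steps.bwd (nat_lit 1) (Steps.bwd (nat_lit 12) (Steps.bwd (nat_lit 11) Steps.nil))))))))) (nat_lit 63) (nat_lit 6),
  Rule.mk (nat_lit 7) (nat_lit 270) (Steps.bwd (nat_lit 9) (Steps.fwd (nat_lit 24576) (Steps.bwd (nat_lit 12) (Steps.fwd (nat_lit 8192) (Steps.fwd (nat_lit 73728) (Steps.bwd (nat_lit 2) (Steps.fwd (nat_lit 73728) (Steps.fwd (nat_lit 8192) (Steps.bwd (nat_lit 18) (Steps.fwd (nat_lit 139264) (Steps.bwd (nat_lit 10) (Steps.bwd (nat_lit 3) (Steps.fwd (nat_lit 16384) (Steps.fwd (nat_lit 24576) (Steps.bwd (nat_lit 4) (Steps.fwd (nat_lit 8192) Steps.nil)))))))))))))))) (nat_lit 76) (nat_lit 1),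
  Rule.mk (nat_lit 3) (nat_lit 62) (Steps.fwd (nat_lit 57344) (Steps.fwd (nat_lit 24576) (Steps.bwd (nat_lit 7) Steps.nil))) (nat_lit 81) (nat_lit 0),
  Rule.mk (nat_lit 15) (nat_lit 110) (Steps.fwd (nat_lit 139264) (Steps.bwd (nat_lit 9) (Steps.bwd (nat_lit 17) (Steps.fwd (nat_lit 73728) (Steps.bwd (nat_lit 3) (Steps.bwd (nat_lit 3) Steps.nil)))))) (nat_lit 65) (nat_lit 3),
  Rule.mk (nat_lit 15) (nat_lit 110) (Steps.fwd (nat_lit 24576) (Steps.bwd (nat_lit 9) (Steps.bwd (nat_lit 10) (Steps.fwd (nat_lit 73728) (Steps.fwd (nat_lit 90112) (Steps.fwd (nat_lit 24576) Steps.nil)))))) (nat_lit 60) (nat_lit 6),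
  Rule.mk (nat_lit 12) (nat_lit 78) (Steps.fwd (nat_lit 90112) (Steps.bwd (nat_lit 18) (Steps.bwd (nat_lit 13) (Steps.bwd (nat_lit 11) Steps.nil)))) (nat_lit 18) (nat_lit 4),
  Rule.mk (nat_lit 15) (nat_lit 126) (Steps.bwd (nat_lit 3) (Steps.fwd (nat_lit 90112) (Steps.bwd (nat_lit 10) (Steps.bwd (nat_lit 16) (Steps.fwd (nat_lit 114688) (Steps.bwd (nat_lit 15) (Steps.fwd (nat_lit 24576) Steps.nil))))))) (nat_lit 53) (nat_lit 7),
  Rule.mk (nat_lit 12) (nat_lit 126) (Steps.fwd (nat_lit 32768) (Steps.bwd (nat_lit 16) (Steps.bwd (nat_lit 10) (Steps.bwd (nat_lit 16) (Steps.fwd (nat_lit 114688) (Steps.bwd (nat_lit 13) (Steps.bwd (nat_lit 4) Steps.nil))))))) (nat_lit 50) (nat_lit 2),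
  Rule.mk (nat_lit 10) (nat_lit 94) (Steps.bwd (nat_lit 19) (Steps.bwd (nat_lit 19) (Steps.bwd (nat_lit 15) (Steps.bwd (nat_lit 11) (Steps.bwd (nat_lit 14) Steps.nil))))) (nat_lit 33) (nat_lit 0),
  Rule.mk (nat_lit 14) (nat_lit 110) (Steps.fwd (nat_lit 8192) (Steps.bwd (nat_lit 14) (Steps.fwd (nat_lit 16384) (Steps.bwd (nat_lit 17) (Steps.bwd (nat_lit 11) (Steps.bwd (nat_lit 14) Steps.nil)))))) (nat_lit 44) (nat_lit 0),
  Rule.mk (nat_lit 16) (nat_lit 110) (Steps.bwd (nat_lit 2) (Steps.bwd (nat_lit 15) (Steps.bwd (nat_lit 1) (Steps.bwd (nat_lit 15) (Steps.fwd (nat_lit 114688) (Steps.fwd (nat_lit 90112) Steps.nil)))))) (nat_lit 45) (nat_lit 4),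
  Rule.mk (nat_lit 9) (nat_lit 286) (Steps.bwd (nat_lit 4) (Steps.bwd (nat_lit 4) (Steps.bwd (nat_lit 2) (Steps.fwd (nat_lit 81920) (Steps.fwd (nat_lit 16384) (Steps.fwd (nat_lit 90112) (Steps.bwd (nat_lit 2) (Steps.bwd (nat_lit 10) (Steps.fwd (nat_lit 16384) (Steps.fwd (nat_lit 65536) (Steps.fwd (nat_lit 90112) (Steps.bwd (nat_lit 3) (Steps.bwd (nat_lit 1) (Steps.bwd (nat_lit 4) (Steps.bwd (nat_lit 7) (Steps.bwd (nat_lit 10) (Steps.bwd (nat_lit 7) Steps.nil))))))))))))))))) (nat_lit 57) (nat_lit 0),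
  Rule.mk (nat_lit 9) (nat_lit 110) (Steps.bwd (nat_lit 16) (Steps.bwd (nat_lit 9) (Steps.bwd (nat_lit 17) (Steps.fwd (nat_lit 122880) (Steps.bwd (nat_lit 4) (Steps.bwd (nat_lit 4) Steps.nil)))))) (nat_lit 64) (nat_lit 1)]
noncomputable def R_65 : List (Rule) := [Rule.mk (nat_lit 15) (nat_lit 110) (Steps.fwd (nat_lit 131072) (Steps.fwd (nat_lit 131072) (Steps.fwd (nat_lit 73728) (Steps.fwd (nat_lit 24576) (Steps.fwd (nat_lit 73728) (Steps.bwd (nat_lit 10) Steps.nil)))))) (nat_lit 71) (nat_lit 2),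
  Rule.mk (nat_lit 11) (nat_lit 286) (Steps.bwd (nat_lit 8) (Steps.fwd (nat_lit 32768) (Steps.bwd (nat_lit 2) (Steps.bwd (nat_lit 4) (Steps.fwd (nat_lit 81920) (Steps.fwd (nat_lit 57344) (Steps.fwd (nat_lit 8192) (Steps.fwd (nat_lit 81920) (Steps.fwd (nat_lit 16384) (Steps.bwd (nat_lit 11) (Steps.bwd (nat_lit 2) (Steps.bwd (nat_lit 10) (Steps.fwd (nat_lit 16384) (Steps.fwd (nat_lit 32768) (Steps.bwd (nat_lit 3) (Steps.bwd (nat_lit 9) (Steps.bwd (nat_lit 8) Steps.nil))))))))))))))))) (nat_lit 56) (nat_lit 3),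
  Rule.mk (nat_lit 14) (nat_lit 158) (Steps.bwd (nat_lit 9) (Steps.fwd (nat_lit 16384) (Steps.bwd (nat_lit 16) (Steps.fwd (nat_lit 90112) (Steps.bwd (nat_lit 13) (Steps.bwd (nat_lit 2) (Steps.fwd (nat_lit 24576) (Steps.bwd (nat_lit 4) (Steps.fwd (nat_lit 73728) Steps.nil))))))))) (nat_lit 62) (nat_lit 2),
  Rule.mk (nat_lit 15) (nat_lit 158) (Steps.bwd (nat_lit 9) (Steps.fwd (nat_lit 32768) (Steps.bwd (nat_lit 3) (Steps.fwd (nat_lit 16384) (Steps.bwd (nat_lit 12) (Steps.fwd (nat_lit 81920) (Steps.fwd (nat_lit 131072) (Steps.bwd (nat_lit 2) (Steps.bwd (nat_lit 9) Steps.nil))))))))) (nat_lit 63) (nat_lit 9),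
  Rule.mk (nat_lit 1) (nat_lit 206) (Steps.bwd (nat_lit 4) (Steps.fwd (nat_lit 16384) (Steps.fwd (nat_lit 90112) (Steps.bwd (nat_lit 18) (Steps.bwd (nat_lit 17) (Steps.fwd (nat_lit 73728) (Steps.bwd (nat_lit 2) (Steps.bwd (nat_lit 2) (Steps.bwd (nat_lit 9) (Steps.bwd (nat_lit 1) (Steps.bwd (nat_lit 3) (Steps.bwd (nat_lit 3) Steps.nil)))))))))))) (nat_lit 69) (nat_lit 4),
  Rule.mk (nat_lit 3) (nat_lit 94) (Steps.bwd (nat_lit 1) (Steps.fwd (nat_lit 16384) (Steps.fwd (nat_lit 24576) (Steps.bwd (nat_lit 2) (Steps.bwd (nat_lit 2) Steps.nil))))) (nat_lit 7) (nat_lit 4),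
  Rule.mk (nat_lit 15) (nat_lit 190) (Steps.fwd (nat_lit 8192) (Steps.fwd (nat_lit 139264) (Steps.fwd (nat_lit 98304) (Steps.bwd (nat_lit 9) (Steps.fwd (nat_lit 106496) (Steps.fwd (nat_lit 73728) (Steps.bwd (nat_lit 13) (Steps.fwd (nat_lit 73728) (Steps.bwd (nat_lit 2) (Steps.bwd (nat_lit 2) (Steps.bwd (nat_lit 2) Steps.nil))))))))))) (nat_lit 75) (nat_lit 4),
  Rule.mk (nat_lit 1) (nat_lit 94) (Steps.bwd (nat_lit 8) (Steps.fwd (nat_lit 57344) (Steps.fwd (nat_lit 16384) (Steps.fwd (nat_lit 16384) (Steps.bwd (nat_lit 1) Steps.nil))))) (nat_lit 79) (nat_lit 4),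
  Rule.mk (nat_lit 9) (nat_lit 270) (Steps.bwd (nat_lit 8) (Steps.fwd (nat_lit 16384) (Steps.fwd (nat_lit 32768) (Steps.fwd (nat_lit 32768) (Steps.bwd (nat_lit 2) (Steps.bwd (nat_lit 4) (Steps.bwd (nat_lit 11) (Steps.bwd (nat_lit 17) (Steps.fwd (nat_lit 147456) (Steps.fwd (nat_lit 16384) (Steps.fwd (nat_lit 73728) (Steps.bwd (nat_lit 1) (Steps.fwd (nat_lit 73728) (Steps.fwd (nat_lit 16384) (Steps.bwd (nat_lit 13) (Steps.fwd (nat_lit 32768) Steps.nil)))))))))))))))) (nat_lit 77) (nat_lit 16),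
  Rule.mk (nat_lit 12) (nat_lit 126) (Steps.bwd (nat_lit 14) (Steps.fwd (nat_lit 131072) (Steps.fwd (nat_lit 81920) (Steps.bwd (nat_lit 17) (Steps.fwd (nat_lit 24576) (Steps.fwd (nat_lit 98304) (Steps.bwd (nat_lit 3) Steps.nil))))))) (nat_lit 51) (nat_lit 1),
  Rule.mk (nat_lit 11) (nat_lit 78) (Steps.fwd (nat_lit 8192) (Steps.bwd (nat_lit 13) (Steps.bwd (nat_lit 1) (Steps.bwd (nat_lit 11) Steps.nil)))) (nat_lit 43) (nat_lit 2),
  Rule.mk (nat_lit 2) (nat_lit 158) (Steps.bwd (nat_lit 9) (Steps.bwd (nat_lit 15) (Steps.fwd (nat_lit 73728) (Steps.bwd (nat_lit 3) (Steps.bwd (nat_lit 3) (Steps.fwd (nat_lit 16384) (Steps.fwd (nat_lit 106496) (Steps.bwd (nat_lit 11) (Steps.bwd (nat_lit 17) Steps.nil))))))))) (nat_lit 63) (nat_lit 7),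
  Rule.mk (nat_lit 7) (nat_lit 94) (Steps.fwd (nat_lit 16384) (Steps.fwd (nat_lit 16384) (Steps.fwd (nat_lit 16384) (Steps.bwd (nat_lit 8) (Steps.bwd (nat_lit 2) Steps.nil))))) (nat_lit 83) (nat_lit 0),
  Rule.mk (nat_lit 4) (nat_lit 126) (Steps.fwd (nat_lit 8192) (Steps.bwd (nat_lit 4) (Steps.bwd (nat_lit 2) (Steps.fwd (nat_lit 24576) (Steps.fwd (nat_lit 8192) (Steps.fwd (nat_lit 24576) (Steps.bwd (nat_lit 2) Steps.nil))))))) (nat_lit 5) (nat_lit 1),
  Rule.mk (nat_lit 10) (nat_lit 110) (Steps.bwd (nat_lit 4) (Steps.fwd (nat_lit 114688) (Steps.fwd (nat_lit 24576) (Steps.fwd (nat_lit 73728) (Steps.fwd (nat_lit 90112) (Steps.fwd (nat_lit 73728) Steps.nil)))))) (nat_lit 60) (nat_lit 4),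
  Rule.mk (nat_lit 17) (nat_lit 110) (Steps.fwd (nat_lit 73728) (Steps.fwd (nat_lit 147456) (Steps.bwd (nat_lit 9) (Steps.fwd (nat_lit 90112) (Steps.bwd (nat_lit 15) (Steps.bwd (nat_lit 10) Steps.nil)))))) (nat_lit 67) (nat_lit 4),
  Rule.mk (nat_lit 16) (nat_lit 126) (Steps.bwd (nat_lit 15) (Steps.fwd (nat_lit 114688) (Steps.bwd (nat_lit 4) (Steps.bwd (nat_lit 15) (Steps.fwd (nat_lit 32768) (Steps.fwd (nat_lit 90112) (Steps.bwd (nat_lit 10) Steps.nil))))))) (nat_lit 53) (nat_lit 3),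
  Rule.mk (nat_lit 3) (nat_lit 206) (Steps.bwd (nat_lit 1) (Steps.bwd (nat_lit 4) (Steps.fwd (nat_lit 16384) (Steps.bwd (nat_lit 10) (Steps.bwd (nat_lit 18) (Steps.fwd (nat_lit 131072) (Steps.bwd (nat_lit 9) (Steps.bwd (nat_lit 2) (Steps.fwd (nat_lit 8192) (Steps.fwd (nat_lit 73728) (Steps.bwd (nat_lit 1) (Steps.fwd (nat_lit 32768) Steps.nil)))))))))))) (nat_lit 69) (nat_lit 3),
  Rule.mk (nat_lit 3) (nat_lit 270) (Steps.fwd (nat_lit 8192) (Steps.bwd (nat_lit 4) (Steps.fwd (nat_lit 81920) (Steps.bwd (nat_lit 17) (Steps.fwd (nat_lit 147456) (Steps.fwd (nat_lit 16384) (Steps.fwd (nat_lit 73728) (Steps.fwd (nat_lit 16384) (Steps.fwd (nat_lit 73728) (Steps.fwd (nat_lit 16384) (Steps.fwd (nat_lit 98304) (Steps.bwd (nat_lit 3) (Steps.fwd (nat_lit 73728) (Steps.bwd (nat_lit 8) (Steps.bwd (nat_lit 1) (Steps.bwd (nat_lit 3) Steps.nil)))))))))))))))) (nat_lit 77) (nat_lit 3),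
  Rule.mk (nat_lit 9) (nat_lit 110) (Steps.bwd (nat_lit 3) (Steps.fwd (nat_lit 122880) (Steps.bwd (nat_lit 3) (Steps.bwd (nat_lit 11) (Steps.fwd (nat_lit 73728) (Steps.fwd (nat_lit 81920) Steps.nil)))))) (nat_lit 61) (nat_lit 0),
  Rule.mk (nat_lit 0) (nat_lit 110) (Steps.bwd (nat_lit 8) (Steps.fwd (nat_lit 16384) (Steps.bwd (nat_lit 7) (Steps.bwd (nat_lit 2) (Steps.bwd (nat_lit 2) (Steps.bwd (nat_lit 2) Steps.nil)))))) (nat_lit 82) (nat_lit 0),
  Rule.mk (nat_lit 14) (nat_lit 110) (Steps.bwd (nat_lit 2) (Steps.fwd (nat_lit 122880) (Steps.fwd (nat_lit 16384) (Steps.bwd (nat_lit 17) (Steps.fwd (nat_lit 81920) (Steps.bwd (nat_lit 14) Steps.nil)))))) (nat_lit 44) (nat_lit 0),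
  Rule.mk (nat_lit 3) (nat_lit 110) (Steps.fwd (nat_lit 81920) (Steps.fwd (nat_lit 73728) (Steps.bwd (nat_lit 11) (Steps.fwd (nat_lit 73728) (Steps.fwd (nat_lit 32768) (Steps.bwd (nat_lit 14) Steps.nil)))))) (nat_lit 61) (nat_lit 3),
  Rule.mk (nat_lit 9) (nat_lit 158) (Steps.bwd (nat_lit 1) (Steps.fwd (nat_lit 139264) (Steps.bwd (nat_lit 10) (Steps.bwd (nat_lit 13) (Steps.fwd (nat_lit 8192) (Steps.bwd (nat_lit 4) (Steps.bwd (nat_lit 4) (Steps.bwd (nat_lit 9) (Steps.bwd (nat_lit 14) Steps.nil))))))))) (nat_lit 62) (nat_lit 3),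
  Rule.mk (nat_lit 16) (nat_lit 110) (Steps.bwd (nat_lit 9) (Steps.bwd (nat_lit 17) (Steps.bwd (nat_lit 14) (Steps.fwd (nat_lit 24576) (Steps.fwd (nat_lit 24576) (Steps.bwd (nat_lit 9) Steps.nil)))))) (nat_lit 64) (nat_lit 2),
  Rule.mk (nat_lit 11) (nat_lit 110) (Steps.fwd (nat_lit 73728) (Steps.fwd (nat_lit 81920) (Steps.fwd (nat_lit 73728) (Steps.fwd (nat_lit 32768) (Steps.fwd (nat_lit 122880) (Steps.bwd (nat_lit 3) Steps.nil)))))) (nat_lit 61) (nat_lit 4),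
  Rule.mk (nat_lit 16) (nat_lit 126) (Steps.bwd (nat_lit 10) (Steps.fwd (nat_lit 139264) (Steps.bwd (nat_lit 15) (Steps.bwd (nat_lit 13) (Steps.fwd (nat_lit 24576) (Steps.bwd (nat_lit 12) (Steps.bwd (nat_lit 3) Steps.nil))))))) (nat_lit 50) (nat_lit 4),
  Rule.mk (nat_lit 11) (nat_lit 110) (Steps.bwd (nat_lit 9) (Steps.fwd (nat_lit 32768) (Steps.fwd (nat_lit 122880) (Steps.bwd (nat_lit 3) (Steps.bwd (nat_lit 11) (Steps.bwd (nat_lit 9) Steps.nil)))))) (nat_lit 61) (nat_lit 6),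
  Rule.mk (nat_lit 19) (nat_lit 110) (Steps.bwd (nat_lit 9) (Steps.bwd (nat_lit 10) (Steps.bwd (nat_lit 15) (Steps.bwd (nat_lit 10) (Steps.bwd (nat_lit 17) (Steps.fwd (nat_lit 73728) Steps.nil)))))) (nat_lit 67) (nat_lit 6),
  Rule.mk (nat_lit 14) (nat_lit 158) (Steps.bwd (nat_lit 9) (Steps.fwd (nat_lit 16384) (Steps.fwd (nat_lit 139264) (Steps.fwd (nat_lit 90112) (Steps.bwd (nat_lit 13) (Steps.fwd (nat_lit 8192) (Steps.fwd (nat_lit 24576) (Steps.bwd (nat_lit 4) (Steps.fwd (nat_lit 73728) Steps.nil))))))))) (nat_lit 62) (nat_lit 2),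
  Rule.mk (nat_lit 12) (nat_lit 190) (Steps.bwd (nat_lit 9) (Steps.fwd (nat_lit 98304) (Steps.fwd (nat_lit 73728) (Steps.bwd (nat_lit 12) (Steps.bwd (nat_lit 17) (Steps.fwd (nat_lit 16384) (Steps.bwd (nat_lit 14) (Steps.fwd (nat_lit 16384) (Steps.bwd (nat_lit 1) (Steps.fwd (nat_lit 16384) (Steps.fwd (nat_lit 73728) Steps.nil))))))))))) (nat_lit 74) (nat_lit 2),
  Rule.mk (nat_lit 1) (nat_lit 206) (Steps.bwd (nat_lit 9) (Steps.fwd (nat_lit 139264) (Steps.bwd (nat_lit 19) (Steps.bwd (nat_lit 11) (Steps.fwd (nat_lit 8192) (Steps.fwd (nat_lit 32768) (Steps.fwd (nat_lit 8192) (Steps.bwd (nat_lit 4) (Steps.bwd (nat_lit 4) (Steps.fwd (nat_lit 8192) (Steps.bwd (nat_lit 9) (Steps.bwd (nat_lit 1) Steps.nil)))))))))))) (nat_lit 68) (nat_lit 3),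
  Rule.mk (nat_lit 18) (nat_lit 126) (Steps.bwd (nat_lit 2) (Steps.bwd (nat_lit 2) (Steps.fwd (nat_lit 65536) (Steps.fwd (nat_lit 155648) (Steps.fwd (nat_lit 65536) (Steps.fwd (nat_lit 147456) (Steps.bwd (nat_lit 7) Steps.nil))))))) (nat_lit 86) (nat_lit 6),
  Rule.mk (nat_lit 11) (nat_lit 110) (Steps.fwd (nat_lit 73728) (Steps.bwd (nat_lit 11) (Steps.fwd (nat_lit 73728) (Steps.fwd (nat_lit 32768) (Steps.fwd (nat_lit 122880) (Steps.bwd (nat_lit 3) Steps.nil)))))) (nat_lit 61) (nat_lit 4),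
  Rule.mk (nat_lit 16) (nat_lit 110) (Steps.bwd (nat_lit 11) (Steps.fwd (nat_lit 122880) (Steps.fwd (nat_lit 81920) (Steps.fwd (nat_lit 73728) (Steps.bwd (nat_lit 18) (Steps.bwd (nat_lit 9) Steps.nil)))))) (nat_lit 66) (nat_lit 4),
  Rule.mk (nat_lit 9) (nat_lit 110) (Steps.bwd (nat_lit 3) (Steps.bwd (nat_lit 14) (Steps.bwd (nat_lit 3) (Steps.fwd (nat_lit 81920) (Steps.fwd (nat_lit 73728) (Steps.fwd (nat_lit 81920) Steps.nil)))))) (nat_lit 61) (nat_lit 0),
  Rule.mk (nat_lit 11) (nat_lit 142) (Steps.bwd (nat_lit 2) (Steps.fwd (nat_lit 139264) (Steps.bwd (nat_lit 1) (Steps.fwd (nat_lit 131072) (Steps.bwd (nat_lit 11) (Steps.fwd (nat_lit 131072) (Steps.fwd (nat_lit 122880) (Steps.bwd (nat_lit 12) Steps.nil)))))))) (nat_lit 46) (nat_lit 0),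
  Rule.mk (nat_lit 15) (nat_lit 158) (Steps.bwd (nat_lit 9) (Steps.bwd (nat_lit 3) (Steps.fwd (nat_lit 32768) (Steps.fwd (nat_lit 16384) (Steps.fwd (nat_lit 106496) (Steps.fwd (nat_lit 81920) (Steps.fwd (nat_lit 131072) (Steps.bwd (nat_lit 2) (Steps.fwd (nat_lit 73728) Steps.nil))))))))) (nat_lit 63) (nat_lit 9),
  Rule.mk (nat_lit 10) (nat_lit 158) (Steps.bwd (nat_lit 13) (Steps.fwd (nat_lit 8192) (Steps.fwd (nat_lit 24576) (Steps.bwd (nat_lit 4) (Steps.fwd (nat_lit 73728) (Steps.fwd (nat_lit 122880) (Steps.bwd (nat_lit 9) (Steps.fwd (nat_lit 16384) (Steps.bwd (nat_lit 16) Steps.nil))))))))) (nat_lit 62) (nat_lit 6),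
  Rule.mk (nat_lit 11) (nat_lit 94) (Steps.bwd (nat_lit 14) (Steps.fwd (nat_lit 90112) (Steps.bwd (nat_lit 19) (Steps.bwd (nat_lit 19) (Steps.fwd (nat_lit 114688) Steps.nil))))) (nat_lit 33) (nat_lit 4),
  Rule.mk (nat_lit 9) (nat_lit 110) (Steps.bwd (nat_lit 11) (Steps.bwd (nat_lit 9) (Steps.bwd (nat_lit 3) (Steps.fwd (nat_lit 122880) (Steps.fwd (nat_lit 32768) (Steps.bwd (nat_lit 11) Steps.nil)))))) (nat_lit 61) (nat_lit 5),
  Rule.mk (nat_lit 1) (nat_lit 142) (Steps.bwd (nat_lit 17) (Steps.bwd (nat_lit 11) (Steps.bwd (nat_lit 17) (Steps.bwd (nat_lit 14) (Steps.fwd (nat_lit 106496) (Steps.fwd (nat_lit 81920) (Steps.fwd (nat_lit 8192) (Steps.bwd (nat_lit 16) Steps.nil)))))))) (nat_lit 46) (nat_lit 3),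
  Rule.mk (nat_lit 17) (nat_lit 142) (Steps.bwd (nat_lit 1) (Steps.fwd (nat_lit 90112) (Steps.bwd (nat_lit 13) (Steps.fwd (nat_lit 114688) (Steps.bwd (nat_lit 16) (Steps.bwd (nat_lit 10) (Steps.bwd (nat_lit 16) (Steps.fwd (nat_lit 8192) Steps.nil)))))))) (nat_lit 47) (nat_lit 8),
  Rule.mk (nat_lit 4) (nat_lit 126) (Steps.bwd (nat_lit 13) (Steps.bwd (nat_lit 3) (Steps.fwd (nat_lit 106496) (Steps.fwd (nat_lit 122880) (Steps.fwd (nat_lit 131072) (Steps.bwd (nat_lit 11) (Steps.bwd (nat_lit 17) Steps.nil))))))) (nat_lit 51) (nat_lit 6),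
  Rule.mk (nat_lit 8) (nat_lit 94) (Steps.fwd (nat_lit 57344) (Steps.fwd (nat_lit 16384) (Steps.fwd (nat_lit 16384) (Steps.fwd (nat_lit 16384) (Steps.bwd (nat_lit 1) Steps.nil))))) (nat_lit 79) (nat_lit 5),
  Rule.mk (nat_lit 14) (nat_lit 110) (Steps.bwd (nat_lit 11) (Steps.bwd (nat_lit 9) (Steps.bwd (nat_lit 3) (Steps.fwd (nat_lit 73728) (Steps.fwd (nat_lit 139264) (Steps.bwd (nat_lit 16) Steps.nil)))))) (nat_lit 70) (nat_lit 6),
  Rule.mk (nat_lit 9) (nat_lit 110) (Steps.bwd (nat_lit 16) (Steps.fwd (nat_lit 73728) (Steps.bwd (nat_lit 17) (Steps.fwd (nat_lit 122880) (Steps.fwd (nat_lit 24576) (Steps.fwd (nat_lit 24576) Steps.nil)))))) (nat_lit 64) (nat_lit 1),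
  Rule.mk (nat_lit 15) (nat_lit 142) (Steps.bwd (nat_lit 16) (Steps.bwd (nat_lit 10) (Steps.bwd (nat_lit 16) (Steps.fwd (nat_lit 8192) (Steps.bwd (nat_lit 17) (Steps.fwd (nat_lit 16384) (Steps.bwd (nat_lit 10) (Steps.fwd (nat_lit 98304) Steps.nil)))))))) (nat_lit 47) (nat_lit 3),
  Rule.mk (nat_lit 17) (nat_lit 110) (Steps.fwd (nat_lit 73728) (Steps.fwd (nat_lit 147456) (Steps.fwd (nat_lit 73728) (Steps.bwd (nat_lit 10) (Steps.fwd (nat_lit 114688) (Steps.bwd (nat_lit 10) Steps.nil)))))) (nat_lit 67) (nat_lit 4),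
  Rule.mk (nat_lit 2) (nat_lit 142) (Steps.bwd (nat_lit 17) (Steps.fwd (nat_lit 16384) (Steps.bwd (nat_lit 10) (Steps.fwd (nat_lit 98304) (Steps.fwd (nat_lit 114688) (Steps.bwd (nat_lit 16) (Steps.bwd (nat_lit 10) (Steps.bwd (nat_lit 16) Steps.nil)))))))) (nat_lit 47) (nat_lit 7),
  Rule.mk (nat_lit 4) (nat_lit 94) (Steps.bwd (nat_lit 1) (Steps.fwd (nat_lit 16384) (Steps.fwd (nat_lit 32768) (Steps.fwd (nat_lit 8192) (Steps.bwd (nat_lit 2) Steps.nil))))) (nat_lit 6) (nat_lit 3),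
  Rule.mk (nat_lit 7) (nat_lit 94) (Steps.bwd (nat_lit 2) (Steps.fwd (nat_lit 8192) (Steps.fwd (nat_lit 8192) (Steps.bwd (nat_lit 2) (Steps.fwd (nat_lit 65536) Steps.nil))))) (nat_lit 78) (nat_lit 2),
  Rule.mk (nat_lit 15) (nat_lit 190) (Steps.bwd (nat_lit 2) (Steps.fwd (nat_lit 139264) (Steps.bwd (nat_lit 13) (Steps.fwd (nat_lit 73728) (Steps.fwd (nat_lit 106496) (Steps.bwd (nat_lit 9) (Steps.fwd (nat_lit 98304) (Steps.fwd (nat_lit 73728) (Steps.bwd (nat_lit 2) (Steps.fwd (nat_lit 8192) (Steps.bwd (nat_lit 2) Steps.nil))))))))))) (nat_lit 75) (nat_lit 4),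
  Rule.mk (nat_lit 19) (nat_lit 62) (Steps.fwd (nat_lit 122880) (Steps.fwd (nat_lit 155648) (Steps.bwd (nat_lit 15) Steps.nil))) (nat_lit 28) (nat_lit 2),
  Rule.mk (nat_lit 4) (nat_lit 94) (Steps.bwd (nat_lit 2) (Steps.fwd (nat_lit 8192) (Steps.bwd (nat_lit 3) (Steps.bwd (nat_lit 1) (Steps.fwd (nat_lit 16384) Steps.nil))))) (nat_lit 7) (nat_lit 1),
  Rule.mk (nat_lit 2) (nat_lit 94) (Steps.bwd (nat_lit 2) (Steps.fwd (nat_lit 8192) (Steps.bwd (nat_lit 7) (Steps.bwd (nat_lit 7) (Steps.fwd (nat_lit 8192) Steps.nil))))) (nat_lit 78) (nat_lit 4),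
  Rule.mk (nat_lit 9) (nat_lit 206) (Steps.bwd (nat_lit 2) (Steps.fwd (nat_lit 8192) (Steps.fwd (nat_lit 73728) (Steps.fwd (nat_lit 16384) (Steps.fwd (nat_lit 32768) (Steps.bwd (nat_lit 3) (Steps.fwd (nat_lit 16384) (Steps.fwd (nat_lit 24576) (Steps.bwd (nat_lit 1) (Steps.bwd (nat_lit 10) (Steps.bwd (nat_lit 18) (Steps.fwd (nat_lit 131072) Steps.nil)))))))))))) (nat_lit 69) (nat_lit 10),
  Rule.mk (nat_lit 16) (nat_lit 110) (Steps.fwd (nat_lit 81920) (Steps.fwd (nat_lit 122880) (Steps.fwd (nat_lit 81920) (Steps.fwd (nat_lit 73728) (Steps.bwd (nat_lit 18) (Steps.bwd (nat_lit 9) Steps.nil)))))) (nat_lit 66) (nat_lit 4),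
  Rule.mk (nat_lit 15) (nat_lit 158) (Steps.fwd (nat_lit 73728) (Steps.fwd (nat_lit 32768) (Steps.bwd (nat_lit 3) (Steps.bwd (nat_lit 1) (Steps.bwd (nat_lit 12) (Steps.fwd (nat_lit 81920) (Steps.bwd (nat_lit 17) (Steps.fwd (nat_lit 8192) (Steps.bwd (nat_lit 9) Steps.nil))))))))) (nat_lit 63) (nat_lit 9),
  Rule.mk (nat_lit 9) (nat_lit 190) (Steps.fwd (nat_lit 98304) (Steps.fwd (nat_lit 73728) (Steps.fwd (nat_lit 8192) (Steps.bwd (nat_lit 2) (Steps.bwd (nat_lit 2) (Steps.bwd (nat_lit 15) (Steps.bwd (nat_lit 2) (Steps.bwd (nat_lit 16) (Steps.fwd (nat_lit 98304) (Steps.bwd (nat_lit 9) (Steps.fwd (nat_lit 106496) Steps.nil))))))))))) (nat_lit 75) (nat_lit 10),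
  Rule.mk (nat_lit 2) (nat_lit 206) (Steps.bwd (nat_lit 9) (Steps.fwd (nat_lit 16384) (Steps.fwd (nat_lit 16384) (Steps.fwd (nat_lit 73728) (Steps.fwd (nat_lit 139264) (Steps.fwd (nat_lit 147456) (Steps.bwd (nat_lit 11) (Steps.bwd (nat_lit 2) (Steps.fwd (nat_lit 32768) (Steps.fwd (nat_lit 8192) (Steps.fwd (nat_lit 24576) (Steps.bwd (nat_lit 4) Steps.nil)))))))))))) (nat_lit 68) (nat_lit 0),
  Rule.mk (nat_lit 1) (nat_lit 78) (Steps.fwd (nat_lit 155648) (Steps.fwd (nat_lit 155648) (Steps.bwd (nat_lit 2) (Steps.fwd (nat_lit 147456) Steps.nil)))) (nat_lit 49) (nat_lit 0),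
  Rule.mk (nat_lit 7) (nat_lit 94) (Steps.bwd (nat_lit 1) (Steps.bwd (nat_lit 1) (Steps.fwd (nat_lit 16384) (Steps.bwd (nat_lit 8) (Steps.fwd (nat_lit 8192) Steps.nil))))) (nat_lit 83) (nat_lit 0),
  Rule.mk (nat_lit 19) (nat_lit 110) (Steps.bwd (nat_lit 9) (Steps.fwd (nat_lit 90112) (Steps.fwd (nat_lit 114688) (Steps.fwd (nat_lit 90112) (Steps.fwd (nat_lit 131072) (Steps.bwd (nat_lit 9) Steps.nil)))))) (nat_lit 67) (nat_lit 6)]
noncomputable def R_66 : List (Rule) := [Rule.mk (nat_lit 1) (nat_lit 78) (Steps.fwd (nat_lit 155648) (Steps.fwd (nat_lit 155648) (Steps.fwd (nat_lit 8192) (Steps.bwd (nat_lit 19) Steps.nil)))) (nat_lit 49) (nat_lit 0),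
  Rule.mk (nat_lit 9) (nat_lit 190) (Steps.bwd (nat_lit 12) (Steps.fwd (nat_lit 73728) (Steps.bwd (nat_lit 13) (Steps.fwd (nat_lit 73728) (Steps.bwd (nat_lit 12) (Steps.bwd (nat_lit 17) (Steps.fwd (nat_lit 16384) (Steps.fwd (nat_lit 122880) (Steps.fwd (nat_lit 16384) (Steps.bwd (nat_lit 1) (Steps.bwd (nat_lit 1) Steps.nil))))))))))) (nat_lit 74) (nat_lit 1),
  Rule.mk (nat_lit 2) (nat_lit 142) (Steps.bwd (nat_lit 16) (Steps.bwd (nat_lit 1) (Steps.bwd (nat_lit 17) (Steps.bwd (nat_lit 11) (Steps.fwd (nat_lit 131072) (Steps.bwd (nat_lit 14) (Steps.fwd (nat_lit 106496) (Steps.bwd (nat_lit 11) Steps.nil)))))))) (nat_lit 46) (nat_lit 1),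
  Rule.mk (nat_lit 4) (nat_lit 126) (Steps.bwd (nat_lit 12) (Steps.fwd (nat_lit 32768) (Steps.bwd (nat_lit 16) (Steps.fwd (nat_lit 90112) (Steps.bwd (nat_lit 16) (Steps.fwd (nat_lit 114688) (Steps.bwd (nat_lit 13) Steps.nil))))))) (nat_lit 50) (nat_lit 1),
  Rule.mk (nat_lit 4) (nat_lit 206) (Steps.bwd (nat_lit 1) (Steps.bwd (nat_lit 10) (Steps.bwd (nat_lit 18) (Steps.bwd (nat_lit 17) (Steps.bwd (nat_lit 9) (Steps.bwd (nat_lit 2) (Steps.bwd (nat_lit 2) (Steps.fwd (nat_lit 73728) (Steps.bwd (nat_lit 1) (Steps.fwd (nat_lit 32768) (Steps.bwd (nat_lit 3) (Steps.bwd (nat_lit 1) Steps.nil)))))))))))) (nat_lit 69) (nat_lit 5),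
  Rule.mk (nat_lit 12) (nat_lit 126) (Steps.bwd (nat_lit 3) (Steps.fwd (nat_lit 139264) (Steps.bwd (nat_lit 10) (Steps.bwd (nat_lit 16) (Steps.bwd (nat_lit 15) (Steps.bwd (nat_lit 13) (Steps.bwd (nat_lit 4) Steps.nil))))))) (nat_lit 50) (nat_lit 2),
  Rule.mk (nat_lit 14) (nat_lit 126) (Steps.bwd (nat_lit 3) (Steps.bwd (nat_lit 14) (Steps.bwd (nat_lit 14) (Steps.fwd (nat_lit 131072) (Steps.bwd (nat_lit 11) (Steps.fwd (nat_lit 81920) (Steps.fwd (nat_lit 24576) Steps.nil))))))) (nat_lit 52) (nat_lit 2),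
  Rule.mk (nat_lit 15) (nat_lit 126) (Steps.bwd (nat_lit 3) (Steps.bwd (nat_lit 10) (Steps.fwd (nat_lit 90112) (Steps.bwd (nat_lit 16) (Steps.bwd (nat_lit 15) (Steps.bwd (nat_lit 15) (Steps.bwd (nat_lit 4) Steps.nil))))))) (nat_lit 53) (nat_lit 7),
  Rule.mk (nat_lit 13) (nat_lit 270) (Steps.bwd (nat_lit 3) (Steps.bwd (nat_lit 9) (Steps.fwd (nat_lit 57344) (Steps.fwd (nat_lit 16384) (Steps.fwd (nat_lit 32768) (Steps.fwd (nat_lit 32768) (Steps.fwd (nat_lit 8192) (Steps.bwd (nat_lit 4) (Steps.bwd (nat_lit 11) (Steps.fwd (nat_lit 131072) (Steps.fwd (nat_lit 147456) (Steps.bwd (nat_lit 1) (Steps.fwd (nat_lit 73728) (Steps.bwd (nat_lit 1) (Steps.fwd (nat_lit 73728) (Steps.fwd (nat_lit 16384) Steps.nil)))))))))))))))) (nat_lit 77) (nat_lit 14),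
  Rule.mk (nat_lit 8) (nat_lit 126) (Steps.fwd (nat_lit 147456) (Steps.fwd (nat_lit 57344) (Steps.fwd (nat_lit 16384) (Steps.bwd (nat_lit 1) (Steps.fwd (nat_lit 147456) (Steps.fwd (nat_lit 57344) (Steps.bwd (nat_lit 18) Steps.nil))))))) (nat_lit 87) (nat_lit 6),
  Rule.mk (nat_lit 4) (nat_lit 126) (Steps.bwd (nat_lit 13) (Steps.bwd (nat_lit 3) (Steps.bwd (nat_lit 12) (Steps.fwd (nat_lit 122880) (Steps.fwd (nat_lit 131072) (Steps.bwd (nat_lit 11) (Steps.fwd (nat_lit 131072) Steps.nil))))))) (nat_lit 51) (nat_lit 6),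
  Rule.mk (nat_lit 19) (nat_lit 158) (Steps.bwd (nat_lit 8) (Steps.bwd (nat_lit 19) (Steps.bwd (nat_lit 8) (Steps.fwd (nat_lit 147456) (Steps.bwd (nat_lit 8) (Steps.fwd (nat_lit 147456) (Steps.bwd (nat_lit 8) (Steps.fwd (nat_lit 147456) (Steps.fwd (nat_lit 57344) Steps.nil))))))))) (nat_lit 85) (nat_lit 1),
  Rule.mk (nat_lit 2) (nat_lit 94) (Steps.fwd (nat_lit 65536) (Steps.fwd (nat_lit 16384) (Steps.fwd (nat_lit 16384) (Steps.fwd (nat_lit 16384) (Steps.bwd (nat_lit 8) Steps.nil))))) (nat_lit 83) (nat_lit 5),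
  Rule.mk (nat_lit 10) (nat_lit 94) (Steps.fwd (nat_lit 155648) (Steps.bwd (nat_lit 18) (Steps.bwd (nat_lit 17) (Steps.fwd (nat_lit 81920) (Steps.bwd (nat_lit 16) Steps.nil))))) (nat_lit 35) (nat_lit 0),
  Rule.mk (nat_lit 0) (nat_lit 78) (Steps.fwd (nat_lit 24576) (Steps.bwd (nat_lit 16) (Steps.fwd (nat_lit 32768) (Steps.bwd (nat_lit 6) Steps.nil)))) (nat_lit 16) (nat_lit 3),
  Rule.mk (nat_lit 1) (nat_lit 94) (Steps.bwd (nat_lit 1) (Steps.fwd (nat_lit 32768) (Steps.bwd (nat_lit 2) (Steps.fwd (nat_lit 8192) (Steps.bwd (nat_lit 4) Steps.nil))))) (nat_lit 6) (nat_lit 4),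
  Rule.mk (nat_lit 8) (nat_lit 126) (Steps.fwd (nat_lit 155648) (Steps.bwd (nat_lit 8) (Steps.fwd (nat_lit 147456) (Steps.bwd (nat_lit 8) (Steps.bwd (nat_lit 1) (Steps.fwd (nat_lit 16384) (Steps.fwd (nat_lit 147456) Steps.nil))))))) (nat_lit 87) (nat_lit 4),
  Rule.mk (nat_lit 10) (nat_lit 110) (Steps.bwd (nat_lit 4) (Steps.fwd (nat_lit 114688) (Steps.bwd (nat_lit 4) (Steps.bwd (nat_lit 9) (Steps.fwd (nat_lit 90112) (Steps.bwd (nat_lit 9) Steps.nil)))))) (nat_lit 60) (nat_lit 4),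
  Rule.mk (nat_lit 16) (nat_lit 110) (Steps.fwd (nat_lit 8192) (Steps.fwd (nat_lit 114688) (Steps.bwd (nat_lit 1) (Steps.fwd (nat_lit 114688) (Steps.bwd (nat_lit 15) (Steps.bwd (nat_lit 10) Steps.nil)))))) (nat_lit 45) (nat_lit 4),
  Rule.mk (nat_lit 13) (nat_lit 190) (Steps.bwd (nat_lit 9) (Steps.fwd (nat_lit 8192) (Steps.fwd (nat_lit 8192) (Steps.bwd (nat_lit 2) (Steps.fwd (nat_lit 114688) (Steps.fwd (nat_lit 8192) (Steps.bwd (nat_lit 16) (Steps.fwd (nat_lit 98304) (Steps.fwd (nat_lit 73728) (Steps.bwd (nat_lit 12) (Steps.fwd (nat_lit 73728) Steps.nil))))))))))) (nat_lit 75) (nat_lit 11),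
  Rule.mk (nat_lit 7) (nat_lit 126) (Steps.fwd (nat_lit 147456) (Steps.bwd (nat_lit 7) (Steps.fwd (nat_lit 155648) (Steps.bwd (nat_lit 2) (Steps.bwd (nat_lit 2) (Steps.bwd (nat_lit 7) (Steps.bwd (nat_lit 18) Steps.nil))))))) (nat_lit 86) (nat_lit 3),
  Rule.mk (nat_lit 9) (nat_lit 110) (Steps.bwd (nat_lit 4) (Steps.bwd (nat_lit 9) (Steps.fwd (nat_lit 90112) (Steps.bwd (nat_lit 15) (Steps.bwd (nat_lit 17) (Steps.bwd (nat_lit 17) Steps.nil)))))) (nat_lit 71) (nat_lit 5),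
  Rule.mk (nat_lit 13) (nat_lit 126) (Steps.bwd (nat_lit 4) (Steps.bwd (nat_lit 12) (Steps.bwd (nat_lit 3) (Steps.fwd (nat_lit 139264) (Steps.fwd (nat_lit 90112) (Steps.fwd (nat_lit 139264) (Steps.fwd (nat_lit 114688) Steps.nil))))))) (nat_lit 50) (nat_lit 0),
  Rule.mk (nat_lit 4) (nat_lit 158) (Steps.bwd (nat_lit 4) (Steps.bwd (nat_lit 9) (Steps.fwd (nat_lit 122880) (Steps.fwd (nat_lit 73728) (Steps.fwd (nat_lit 16384) (Steps.bwd (nat_lit 16) (Steps.fwd (nat_lit 90112) (Steps.bwd (nat_lit 13) (Steps.fwd (nat_lit 8192) Steps.nil))))))))) (nat_lit 62) (nat_lit 9),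
  Rule.mk (nat_lit 19) (nat_lit 126) (Steps.bwd (nat_lit 8) (Steps.bwd (nat_lit 1) (Steps.fwd (nat_lit 16384) (Steps.bwd (nat_lit 19) (Steps.fwd (nat_lit 57344) (Steps.fwd (nat_lit 155648) (Steps.fwd (nat_lit 57344) Steps.nil))))))) (nat_lit 87) (nat_lit 7),
  Rule.mk (nat_lit 11) (nat_lit 286) (Steps.bwd (nat_lit 8) (Steps.fwd (nat_lit 32768) (Steps.bwd (nat_lit 2) (Steps.fwd (nat_lit 24576) (Steps.bwd (nat_lit 11) (Steps.fwd (nat_lit 57344) (Steps.bwd (nat_lit 2) (Steps.fwd (nat_lit 81920) (Steps.fwd (nat_lit 16384) (Steps.bwd (nat_lit 11) (Steps.fwd (nat_lit 8192) (Steps.fwd (nat_lit 90112) (Steps.bwd (nat_lit 1) (Steps.bwd (nat_lit 3) (Steps.fwd (nat_lit 32768) (Steps.bwd (nat_lit 9) (Steps.bwd (nat_lit 8) Steps.nil))))))))))))))))) (nat_lit 56) (nat_lit 3),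
  Rule.mk (nat_lit 14) (nat_lit 110) (Steps.fwd (nat_lit 81920) (Steps.fwd (nat_lit 73728) (Steps.bwd (nat_lit 3) (Steps.bwd (nat_lit 9) (Steps.bwd (nat_lit 16) (Steps.fwd (nat_lit 139264) Steps.nil)))))) (nat_lit 70) (nat_lit 6),
  Rule.mk (nat_lit 9) (nat_lit 190) (Steps.bwd (nat_lit 2) (Steps.bwd (nat_lit 2) (Steps.bwd (nat_lit 2) (Steps.bwd (nat_lit 15) (Steps.bwd (nat_lit 2) (Steps.fwd (nat_lit 139264) (Steps.bwd (nat_lit 13) (Steps.fwd (nat_lit 73728) (Steps.bwd (nat_lit 12) (Steps.bwd (nat_lit 9) (Steps.fwd (nat_lit 98304) Steps.nil))))))))))) (nat_lit 75) (nat_lit 0),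
  Rule.mk (nat_lit 14) (nat_lit 158) (Steps.bwd (nat_lit 9) (Steps.bwd (nat_lit 1) (Steps.bwd (nat_lit 16) (Steps.bwd (nat_lit 10) (Steps.bwd (nat_lit 13) (Steps.fwd (nat_lit 8192) (Steps.bwd (nat_lit 4) (Steps.bwd (nat_lit 4) (Steps.bwd (nat_lit 9) Steps.nil))))))))) (nat_lit 62) (nat_lit 2),
  Rule.mk (nat_lit 11) (nat_lit 110) (Steps.bwd (nat_lit 9) (Steps.bwd (nat_lit 3) (Steps.fwd (nat_lit 122880) (Steps.fwd (nat_lit 32768) (Steps.bwd (nat_lit 11) (Steps.fwd (nat_lit 73728) Steps.nil)))))) (nat_lit 61) (nat_lit 6),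
  Rule.mk (nat_lit 4) (nat_lit 110) (Steps.bwd (nat_lit 9) (Steps.bwd (nat_lit 16) (Steps.fwd (nat_lit 73728) (Steps.bwd (nat_lit 17) (Steps.fwd (nat_lit 122880) (Steps.bwd (nat_lit 4) Steps.nil)))))) (nat_lit 64) (nat_lit 0),
  Rule.mk (nat_lit 9) (nat_lit 110) (Steps.fwd (nat_lit 131072) (Steps.bwd (nat_lit 14) (Steps.fwd (nat_lit 24576) (Steps.fwd (nat_lit 24576) (Steps.fwd (nat_lit 73728) (Steps.bwd (nat_lit 16) Steps.nil)))))) (nat_lit 64) (nat_lit 3),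
  Rule.mk (nat_lit 1) (nat_lit 110) (Steps.bwd (nat_lit 15) (Steps.bwd (nat_lit 15) (Steps.fwd (nat_lit 90112) (Steps.bwd (nat_lit 16) (Steps.bwd (nat_lit 2) (Steps.fwd (nat_lit 114688) Steps.nil)))))) (nat_lit 45) (nat_lit 0),
  Rule.mk (nat_lit 4) (nat_lit 110) (Steps.bwd (nat_lit 15) (Steps.bwd (nat_lit 4) (Steps.bwd (nat_lit 9) (Steps.bwd (nat_lit 10) (Steps.bwd (nat_lit 9) (Steps.fwd (nat_lit 90112) Steps.nil)))))) (nat_lit 60) (nat_lit 5),
  Rule.mk (nat_lit 17) (nat_lit 142) (Steps.bwd (nat_lit 1) (Steps.fwd (nat_lit 90112) (Steps.bwd (nat_lit 13) (Steps.bwd (nat_lit 15) (Steps.bwd (nat_lit 16) (Steps.bwd (nat_lit 10) (Steps.bwd (nat_lit 16) (Steps.bwd (nat_lit 2) Steps.nil)))))))) (nat_lit 47) (nat_lit 8),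
  Rule.mk (nat_lit 3) (nat_lit 126) (Steps.fwd (nat_lit 139264) (Steps.fwd (nat_lit 90112) (Steps.bwd (nat_lit 16) (Steps.fwd (nat_lit 114688) (Steps.fwd (nat_lit 98304) (Steps.fwd (nat_lit 24576) (Steps.bwd (nat_lit 12) Steps.nil))))))) (nat_lit 50) (nat_lit 3),
  Rule.mk (nat_lit 17) (nat_lit 110) (Steps.bwd (nat_lit 17) (Steps.fwd (nat_lit 73728) (Steps.bwd (nat_lit 4) (Steps.bwd (nat_lit 9) (Steps.bwd (nat_lit 10) (Steps.bwd (nat_lit 15) Steps.nil)))))) (nat_lit 71) (nat_lit 3),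
  Rule.mk (nat_lit 7) (nat_lit 270) (Steps.fwd (nat_lit 73728) (Steps.bwd (nat_lit 4) (Steps.fwd (nat_lit 106496) (Steps.bwd (nat_lit 2) (Steps.bwd (nat_lit 9) (Steps.bwd (nat_lit 2) (Steps.bwd (nat_lit 9) (Steps.bwd (nat_lit 2) (Steps.fwd (nat_lit 155648) (Steps.bwd (nat_lit 16) (Steps.fwd (nat_lit 90112) (Steps.bwd (nat_lit 3) (Steps.fwd (nat_lit 16384) (Steps.bwd (nat_lit 4) (Steps.fwd (nat_lit 24576) (Steps.fwd (nat_lit 8192) Steps.nil)))))))))))))))) (nat_lit 76) (nat_lit 1),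
  Rule.mk (nat_lit 8) (nat_lit 126) (Steps.fwd (nat_lit 16384) (Steps.fwd (nat_lit 16384) (Steps.bwd (nat_lit 19) (Steps.bwd (nat_lit 8) (Steps.fwd (nat_lit 155648) (Steps.fwd (nat_lit 57344) (Steps.bwd (nat_lit 19) Steps.nil))))))) (nat_lit 87) (nat_lit 0),
  Rule.mk (nat_lit 4) (nat_lit 110) (Steps.bwd (nat_lit 4) (Steps.bwd (nat_lit 9) (Steps.bwd (nat_lit 16) (Steps.fwd (nat_lit 73728) (Steps.bwd (nat_lit 17) (Steps.bwd (nat_lit 14) Steps.nil)))))) (nat_lit 64) (nat_lit 6),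
  Rule.mk (nat_lit 9) (nat_lit 110) (Steps.bwd (nat_lit 4) (Steps.bwd (nat_lit 9) (Steps.fwd (nat_lit 90112) (Steps.bwd (nat_lit 15) (Steps.fwd (nat_lit 131072) (Steps.fwd (nat_lit 131072) Steps.nil)))))) (nat_lit 71) (nat_lit 5),
  Rule.mk (nat_lit 2) (nat_lit 126) (Steps.bwd (nat_lit 4) (Steps.fwd (nat_lit 8192) (Steps.fwd (nat_lit 24576) (Steps.fwd (nat_lit 8192) (Steps.bwd (nat_lit 4) (Steps.bwd (nat_lit 2) (Steps.bwd (nat_lit 4) Steps.nil))))))) (nat_lit 5) (nat_lit 0),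
  Rule.mk (nat_lit 17) (nat_lit 126) (Steps.bwd (nat_lit 4) (Steps.bwd (nat_lit 13) (Steps.fwd (nat_lit 32768) (Steps.bwd (nat_lit 12) (Steps.bwd (nat_lit 14) (Steps.fwd (nat_lit 131072) (Steps.bwd (nat_lit 11) Steps.nil))))))) (nat_lit 51) (nat_lit 5),
  Rule.mk (nat_lit 11) (nat_lit 126) (Steps.bwd (nat_lit 4) (Steps.fwd (nat_lit 122880) (Steps.bwd (nat_lit 3) (Steps.fwd (nat_lit 122880) (Steps.bwd (nat_lit 14) (Steps.bwd (nat_lit 17) (Steps.fwd (nat_lit 81920) Steps.nil))))))) (nat_lit 52) (nat_lit 0),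
  Rule.mk (nat_lit 0) (nat_lit 206) (Steps.bwd (nat_lit 9) (Steps.fwd (nat_lit 106496) (Steps.fwd (nat_lit 73728) (Steps.bwd (nat_lit 13) (Steps.bwd (nat_lit 9) (Steps.bwd (nat_lit 2) (Steps.bwd (nat_lit 2) (Steps.bwd (nat_lit 2) (Steps.bwd (nat_lit 15) (Steps.fwd (nat_lit 8192) (Steps.fwd (nat_lit 139264) (Steps.bwd (nat_lit 13) Steps.nil)))))))))))) (nat_lit 75) (nat_lit 7),
  Rule.mk (nat_lit 0) (nat_lit 286) (Steps.bwd (nat_lit 8) (Steps.fwd (nat_lit 16384) (Steps.bwd (nat_lit 3) (Steps.fwd (nat_lit 32768) (Steps.bwd (nat_lit 2) (Steps.fwd (nat_lit 24576) (Steps.fwd (nat_lit 81920) (Steps.bwd (nat_lit 17) (Steps.bwd (nat_lit 19) (Steps.fwd (nat_lit 16384) (Steps.fwd (nat_lit 73728) (Steps.bwd (nat_lit 1) (Steps.bwd (nat_lit 9) (Steps.bwd (nat_lit 1) (Steps.fwd (nat_lit 98304) (Steps.bwd (nat_lit 3) (Steps.fwd (nat_lit 73728) Steps.nil))))))))))))))))) (nat_lit 77) (nat_lit 16),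
  Rule.mk (nat_lit 10) (nat_lit 110) (Steps.bwd (nat_lit 9) (Steps.fwd (nat_lit 90112) (Steps.bwd (nat_lit 4) (Steps.fwd (nat_lit 114688) (Steps.fwd (nat_lit 24576) (Steps.fwd (nat_lit 73728) Steps.nil)))))) (nat_lit 60) (nat_lit 2),
  Rule.mk (nat_lit 4) (nat_lit 110) (Steps.bwd (nat_lit 9) (Steps.fwd (nat_lit 90112) (Steps.fwd (nat_lit 73728) (Steps.bwd (nat_lit 10) (Steps.bwd (nat_lit 4) (Steps.bwd (nat_lit 15) Steps.nil)))))) (nat_lit 60) (nat_lit 0),
  Rule.mk (nat_lit 14) (nat_lit 110) (Steps.bwd (nat_lit 14) (Steps.bwd (nat_lit 2) (Steps.bwd (nat_lit 14) (Steps.fwd (nat_lit 16384) (Steps.fwd (nat_lit 131072) (Steps.fwd (nat_lit 81920) Steps.nil)))))) (nat_lit 44) (nat_lit 6),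
  Rule.mk (nat_lit 11) (nat_lit 78) (Steps.fwd (nat_lit 81920) (Steps.bwd (nat_lit 11) (Steps.fwd (nat_lit 81920) (Steps.bwd (nat_lit 11) Steps.nil)))) (nat_lit 21) (nat_lit 0),
  Rule.mk (nat_lit 17) (nat_lit 126) (Steps.bwd (nat_lit 4) (Steps.fwd (nat_lit 98304) (Steps.bwd (nat_lit 3) (Steps.fwd (nat_lit 106496) (Steps.fwd (nat_lit 122880) (Steps.fwd (nat_lit 131072) (Steps.bwd (nat_lit 11) Steps.nil))))))) (nat_lit 51) (nat_lit 5),
  Rule.mk (nat_lit 11) (nat_lit 126) (Steps.bwd (nat_lit 4) (Steps.bwd (nat_lit 14) (Steps.bwd (nat_lit 3) (Steps.bwd (nat_lit 14) (Steps.bwd (nat_lit 14) (Steps.fwd (nat_lit 131072) (Steps.fwd (nat_lit 81920) Steps.nil))))))) (nat_lit 52) (nat_lit 0),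
  Rule.mk (nat_lit 14) (nat_lit 110) (Steps.bwd (nat_lit 3) (Steps.fwd (nat_lit 81920) (Steps.bwd (nat_lit 9) (Steps.fwd (nat_lit 81920) (Steps.fwd (nat_lit 73728) (Steps.fwd (nat_lit 32768) Steps.nil)))))) (nat_lit 61) (nat_lit 2),
  Rule.mk (nat_lit 14) (nat_lit 110) (Steps.fwd (nat_lit 81920) (Steps.fwd (nat_lit 73728) (Steps.bwd (nat_lit 3) (Steps.bwd (nat_lit 9) (Steps.fwd (nat_lit 139264) (Steps.bwd (nat_lit 16) Steps.nil)))))) (nat_lit 70) (nat_lit 6),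
  Rule.mk (nat_lit 10) (nat_lit 110) (Steps.bwd (nat_lit 4) (Steps.bwd (nat_lit 15) (Steps.fwd (nat_lit 24576) (Steps.fwd (nat_lit 73728) (Steps.fwd (nat_lit 90112) (Steps.bwd (nat_lit 9) Steps.nil)))))) (nat_lit 60) (nat_lit 4),
  Rule.mk (nat_lit 2) (nat_lit 206) (Steps.bwd (nat_lit 4) (Steps.bwd (nat_lit 4) (Steps.fwd (nat_lit 8192) (Steps.fwd (nat_lit 73728) (Steps.fwd (nat_lit 16384) (Steps.fwd (nat_lit 16384) (Steps.fwd (nat_lit 90112) (Steps.bwd (nat_lit 18) (Steps.fwd (nat_lit 131072) (Steps.fwd (nat_lit 73728) (Steps.bwd (nat_lit 2) (Steps.fwd (nat_lit 32768) Steps.nil)))))))))))) (nat_lit 73) (nat_lit 9),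
  Rule.mk (nat_lit 9) (nat_lit 206) (Steps.bwd (nat_lit 1) (Steps.fwd (nat_lit 32768) (Steps.bwd (nat_lit 3) (Steps.fwd (nat_lit 16384) (Steps.bwd (nat_lit 4) (Steps.bwd (nat_lit 1) (Steps.fwd (nat_lit 90112) (Steps.fwd (nat_lit 155648) (Steps.bwd (nat_lit 17) (Steps.fwd (nat_lit 73728) (Steps.bwd (nat_lit 2) (Steps.bwd (nat_lit 2) Steps.nil)))))))))))) (nat_lit 69) (nat_lit 0),
  Rule.mk (nat_lit 12) (nat_lit 190) (Steps.bwd (nat_lit 9) (Steps.bwd (nat_lit 13) (Steps.bwd (nat_lit 9) (Steps.bwd (nat_lit 2) (Steps.bwd (nat_lit 2) (Steps.fwd (nat_lit 8192) (Steps.fwd (nat_lit 114688) (Steps.fwd (nat_lit 8192) (Steps.bwd (nat_lit 16) (Steps.bwd (nat_lit 13) (Steps.fwd (nat_lit 73728) Steps.nil))))))))))) (nat_lit 75) (nat_lit 9),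
  Rule.mk (nat_lit 14) (nat_lit 126) (Steps.bwd (nat_lit 14) (Steps.bwd (nat_lit 17) (Steps.fwd (nat_lit 81920) (Steps.bwd (nat_lit 11) (Steps.fwd (nat_lit 24576) (Steps.fwd (nat_lit 122880) (Steps.bwd (nat_lit 3) Steps.nil))))))) (nat_lit 52) (nat_lit 4),
  Rule.mk (nat_lit 2) (nat_lit 110) (Steps.fwd (nat_lit 122880) (Steps.fwd (nat_lit 16384) (Steps.fwd (nat_lit 131072) (Steps.fwd (nat_lit 81920) (Steps.fwd (nat_lit 122880) (Steps.bwd (nat_lit 14) Steps.nil)))))) (nat_lit 44) (nat_lit 1),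
  Rule.mk (nat_lit 14) (nat_lit 110) (Steps.fwd (nat_lit 16384) (Steps.fwd (nat_lit 131072) (Steps.fwd (nat_lit 81920) (Steps.bwd (nat_lit 14) (Steps.bwd (nat_lit 14) (Steps.fwd (nat_lit 8192) Steps.nil)))))) (nat_lit 44) (nat_lit 2),
  Rule.mk (nat_lit 3) (nat_lit 110) (Steps.fwd (nat_lit 81920) (Steps.bwd (nat_lit 9) (Steps.fwd (nat_lit 81920) (Steps.fwd (nat_lit 73728) (Steps.bwd (nat_lit 3) (Steps.bwd (nat_lit 14) Steps.nil)))))) (nat_lit 61) (nat_lit 3),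
  Rule.mk (nat_lit 10) (nat_lit 110) (Steps.bwd (nat_lit 9) (Steps.fwd (nat_lit 90112) (Steps.fwd (nat_lit 24576) (Steps.bwd (nat_lit 15) (Steps.fwd (nat_lit 24576) (Steps.bwd (nat_lit 9) Steps.nil)))))) (nat_lit 60) (nat_lit 2),
  Rule.mk (nat_lit 14) (nat_lit 158) (Steps.bwd (nat_lit 9) (Steps.fwd (nat_lit 16384) (Steps.bwd (nat_lit 16) (Steps.fwd (nat_lit 90112) (Steps.bwd (nat_lit 13) (Steps.bwd (nat_lit 2) (Steps.bwd (nat_lit 4) (Steps.bwd (nat_lit 4) (Steps.fwd (nat_lit 73728) Steps.nil))))))))) (nat_lit 62) (nat_lit 2)]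
noncomputable def R_67 : List (Rule) := [Rule.mk (nat_lit 2) (nat_lit 206) (Steps.bwd (nat_lit 9) (Steps.fwd (nat_lit 16384) (Steps.fwd (nat_lit 32768) (Steps.bwd (nat_lit 3) (Steps.fwd (nat_lit 16384) (Steps.bwd (nat_lit 4) (Steps.bwd (nat_lit 1) (Steps.bwd (nat_lit 10) (Steps.bwd (nat_lit 18) (Steps.fwd (nat_lit 131072) (Steps.bwd (nat_lit 9) (Steps.fwd (nat_lit 8192) Steps.nil)))))))))))) (nat_lit 69) (nat_lit 12),
  Rule.mk (nat_lit 17) (nat_lit 110) (Steps.bwd (nat_lit 17) (Steps.fwd (nat_lit 73728) (Steps.fwd (nat_lit 24576) (Steps.bwd (nat_lit 9) (Steps.bwd (nat_lit 10) (Steps.bwd (nat_lit 15) Steps.nil)))))) (nat_lit 71) (nat_lit 3),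
  Rule.mk (nat_lit 14) (nat_lit 126) (Steps.bwd (nat_lit 17) (Steps.fwd (nat_lit 81920) (Steps.bwd (nat_lit 17) (Steps.fwd (nat_lit 24576) (Steps.fwd (nat_lit 98304) (Steps.bwd (nat_lit 3) (Steps.fwd (nat_lit 106496) Steps.nil))))))) (nat_lit 51) (nat_lit 2),
  Rule.mk (nat_lit 1) (nat_lit 190) (Steps.bwd (nat_lit 14) (Steps.bwd (nat_lit 1) (Steps.fwd (nat_lit 16384) (Steps.fwd (nat_lit 16384) (Steps.bwd (nat_lit 9) (Steps.fwd (nat_lit 106496) (Steps.bwd (nat_lit 9) (Steps.fwd (nat_lit 98304) (Steps.fwd (nat_lit 73728) (Steps.fwd (nat_lit 106496) (Steps.bwd (nat_lit 17) Steps.nil))))))))))) (nat_lit 74) (nat_lit 8),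
  Rule.mk (nat_lit 9) (nat_lit 190) (Steps.bwd (nat_lit 13) (Steps.fwd (nat_lit 73728) (Steps.fwd (nat_lit 106496) (Steps.fwd (nat_lit 131072) (Steps.fwd (nat_lit 16384) (Steps.bwd (nat_lit 14) (Steps.bwd (nat_lit 1) (Steps.fwd (nat_lit 16384) (Steps.fwd (nat_lit 16384) (Steps.bwd (nat_lit 9) (Steps.bwd (nat_lit 12) Steps.nil))))))))))) (nat_lit 74) (nat_lit 3),
  Rule.mk (nat_lit 9) (nat_lit 110) (Steps.fwd (nat_lit 131072) (Steps.bwd (nat_lit 9) (Steps.bwd (nat_lit 3) (Steps.bwd (nat_lit 3) (Steps.fwd (nat_lit 114688) (Steps.bwd (nat_lit 16) Steps.nil)))))) (nat_lit 65) (nat_lit 5),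
  Rule.mk (nat_lit 9) (nat_lit 110) (Steps.fwd (nat_lit 90112) (Steps.bwd (nat_lit 9) (Steps.fwd (nat_lit 90112) (Steps.bwd (nat_lit 4) (Steps.fwd (nat_lit 114688) (Steps.bwd (nat_lit 4) Steps.nil)))))) (nat_lit 60) (nat_lit 1),
  Rule.mk (nat_lit 0) (nat_lit 126) (Steps.bwd (nat_lit 4) (Steps.fwd (nat_lit 73728) (Steps.fwd (nat_lit 90112) (Steps.bwd (nat_lit 15) (Steps.fwd (nat_lit 131072) (Steps.bwd (nat_lit 17) (Steps.fwd (nat_lit 73728) Steps.nil))))))) (nat_lit 71) (nat_lit 5),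
  Rule.mk (nat_lit 11) (nat_lit 110) (Steps.bwd (nat_lit 9) (Steps.bwd (nat_lit 3) (Steps.fwd (nat_lit 122880) (Steps.fwd (nat_lit 32768) (Steps.bwd (nat_lit 11) (Steps.bwd (nat_lit 9) Steps.nil)))))) (nat_lit 61) (nat_lit 6),
  Rule.mk (nat_lit 17) (nat_lit 110) (Steps.bwd (nat_lit 9) (Steps.bwd (nat_lit 3) (Steps.bwd (nat_lit 3) (Steps.bwd (nat_lit 15) (Steps.bwd (nat_lit 16) (Steps.bwd (nat_lit 9) Steps.nil)))))) (nat_lit 65) (nat_lit 6),
  Rule.mk (nat_lit 9) (nat_lit 110) (Steps.fwd (nat_lit 90112) (Steps.bwd (nat_lit 15) (Steps.fwd (nat_lit 90112) (Steps.bwd (nat_lit 17) (Steps.bwd (nat_lit 9) (Steps.fwd (nat_lit 147456) Steps.nil)))))) (nat_lit 67) (nat_lit 0),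
  Rule.mk (nat_lit 4) (nat_lit 110) (Steps.bwd (nat_lit 9) (Steps.fwd (nat_lit 90112) (Steps.fwd (nat_lit 73728) (Steps.fwd (nat_lit 90112) (Steps.fwd (nat_lit 24576) (Steps.fwd (nat_lit 114688) Steps.nil)))))) (nat_lit 60) (nat_lit 0),
  Rule.mk (nat_lit 17) (nat_lit 110) (Steps.bwd (nat_lit 9) (Steps.fwd (nat_lit 147456) (Steps.fwd (nat_lit 73728) (Steps.bwd (nat_lit 10) (Steps.bwd (nat_lit 15) (Steps.fwd (nat_lit 90112) Steps.nil)))))) (nat_lit 67) (nat_lit 4),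
  Rule.mk (nat_lit 13) (nat_lit 126) (Steps.bwd (nat_lit 3) (Steps.bwd (nat_lit 12) (Steps.bwd (nat_lit 14) (Steps.fwd (nat_lit 131072) (Steps.fwd (nat_lit 81920) (Steps.bwd (nat_lit 17) (Steps.fwd (nat_lit 24576) Steps.nil))))))) (nat_lit 51) (nat_lit 7),
  Rule.mk (nat_lit 3) (nat_lit 206) (Steps.bwd (nat_lit 3) (Steps.bwd (nat_lit 1) (Steps.bwd (nat_lit 4) (Steps.bwd (nat_lit 1) (Steps.bwd (nat_lit 9) (Steps.fwd (nat_lit 139264) (Steps.bwd (nat_lit 19) (Steps.fwd (nat_lit 81920) (Steps.fwd (nat_lit 8192) (Steps.fwd (nat_lit 8192) (Steps.fwd (nat_lit 73728) (Steps.bwd (nat_lit 1) Steps.nil)))))))))))) (nat_lit 72) (nat_lit 3),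
  Rule.mk (nat_lit 17) (nat_lit 110) (Steps.bwd (nat_lit 14) (Steps.bwd (nat_lit 4) (Steps.fwd (nat_lit 24576) (Steps.fwd (nat_lit 73728) (Steps.bwd (nat_lit 16) (Steps.fwd (nat_lit 73728) Steps.nil)))))) (nat_lit 64) (nat_lit 4),
  Rule.mk (nat_lit 11) (nat_lit 126) (Steps.bwd (nat_lit 11) (Steps.fwd (nat_lit 24576) (Steps.bwd (nat_lit 14) (Steps.fwd (nat_lit 32768) (Steps.bwd (nat_lit 14) (Steps.fwd (nat_lit 122880) (Steps.bwd (nat_lit 17) Steps.nil))))))) (nat_lit 52) (nat_lit 7),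
  Rule.mk (nat_lit 16) (nat_lit 110) (Steps.bwd (nat_lit 11) (Steps.bwd (nat_lit 14) (Steps.fwd (nat_lit 81920) (Steps.fwd (nat_lit 73728) (Steps.fwd (nat_lit 155648) (Steps.fwd (nat_lit 73728) Steps.nil)))))) (nat_lit 66) (nat_lit 4),
  Rule.mk (nat_lit 14) (nat_lit 110) (Steps.bwd (nat_lit 11) (Steps.fwd (nat_lit 73728) (Steps.bwd (nat_lit 3) (Steps.bwd (nat_lit 9) (Steps.bwd (nat_lit 16) (Steps.fwd (nat_lit 139264) Steps.nil)))))) (nat_lit 70) (nat_lit 6),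
  Rule.mk (nat_lit 16) (nat_lit 142) (Steps.bwd (nat_lit 1) (Steps.bwd (nat_lit 17) (Steps.fwd (nat_lit 81920) (Steps.fwd (nat_lit 131072) (Steps.bwd (nat_lit 14) (Steps.bwd (nat_lit 12) (Steps.bwd (nat_lit 11) (Steps.bwd (nat_lit 2) Steps.nil)))))))) (nat_lit 46) (nat_lit 2),
  Rule.mk (nat_lit 11) (nat_lit 110) (Steps.fwd (nat_lit 73728) (Steps.fwd (nat_lit 81920) (Steps.bwd (nat_lit 9) (Steps.fwd (nat_lit 32768) (Steps.bwd (nat_lit 14) (Steps.bwd (nat_lit 3) Steps.nil)))))) (nat_lit 61) (nat_lit 4),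
  Rule.mk (nat_lit 11) (nat_lit 126) (Steps.bwd (nat_lit 11) (Steps.fwd (nat_lit 24576) (Steps.bwd (nat_lit 14) (Steps.fwd (nat_lit 32768) (Steps.fwd (nat_lit 122880) (Steps.fwd (nat_lit 122880) (Steps.fwd (nat_lit 131072) Steps.nil))))))) (nat_lit 52) (nat_lit 7),
  Rule.mk (nat_lit 11) (nat_lit 286) (Steps.bwd (nat_lit 8) (Steps.fwd (nat_lit 8192) (Steps.bwd (nat_lit 11) (Steps.bwd (nat_lit 1) (Steps.fwd (nat_lit 81920) (Steps.fwd (nat_lit 8192) (Steps.fwd (nat_lit 90112) (Steps.bwd (nat_lit 1) (Steps.bwd (nat_lit 3) (Steps.fwd (nat_lit 32768) (Steps.fwd (nat_lit 73728) (Steps.bwd (nat_lit 8) (Steps.bwd (nat_lit 11) (Steps.bwd (nat_lit 8) (Steps.bwd (nat_lit 3) (Steps.fwd (nat_lit 8192) (Steps.bwd (nat_lit 4) Steps.nil))))))))))))))))) (nat_lit 56) (nat_lit 8),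
  Rule.mk (nat_lit 9) (nat_lit 206) (Steps.bwd (nat_lit 16) (Steps.fwd (nat_lit 147456) (Steps.fwd (nat_lit 81920) (Steps.fwd (nat_lit 8192) (Steps.bwd (nat_lit 3) (Steps.fwd (nat_lit 8192) (Steps.bwd (nat_lit 4) (Steps.bwd (nat_lit 4) (Steps.bwd (nat_lit 2) (Steps.bwd (nat_lit 9) (Steps.fwd (nat_lit 16384) (Steps.fwd (nat_lit 16384) Steps.nil)))))))))))) (nat_lit 68) (nat_lit 4),
  Rule.mk (nat_lit 7) (nat_lit 126) (Steps.bwd (nat_lit 18) (Steps.fwd (nat_lit 8192) (Steps.bwd (nat_lit 2) (Steps.fwd (nat_lit 65536) (Steps.bwd (nat_lit 18) (Steps.fwd (nat_lit 65536) (Steps.bwd (nat_lit 19) Steps.nil))))))) (nat_lit 86) (nat_lit 5),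
  Rule.mk (nat_lit 17) (nat_lit 110) (Steps.bwd (nat_lit 17) (Steps.fwd (nat_lit 73728) (Steps.bwd (nat_lit 4) (Steps.bwd (nat_lit 9) (Steps.fwd (nat_lit 90112) (Steps.fwd (nat_lit 114688) Steps.nil)))))) (nat_lit 71) (nat_lit 3),
  Rule.mk (nat_lit 14) (nat_lit 126) (Steps.bwd (nat_lit 17) (Steps.fwd (nat_lit 81920) (Steps.bwd (nat_lit 11) (Steps.bwd (nat_lit 4) (Steps.bwd (nat_lit 14) (Steps.fwd (nat_lit 32768) (Steps.bwd (nat_lit 14) Steps.nil))))))) (nat_lit 52) (nat_lit 5),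
  Rule.mk (nat_lit 2) (nat_lit 142) (Steps.bwd (nat_lit 17) (Steps.fwd (nat_lit 16384) (Steps.bwd (nat_lit 10) (Steps.fwd (nat_lit 98304) (Steps.bwd (nat_lit 15) (Steps.fwd (nat_lit 139264) (Steps.bwd (nat_lit 10) (Steps.fwd (nat_lit 139264) Steps.nil)))))))) (nat_lit 47) (nat_lit 7),
  Rule.mk (nat_lit 4) (nat_lit 94) (Steps.fwd (nat_lit 16384) (Steps.fwd (nat_lit 16384) (Steps.bwd (nat_lit 3) (Steps.fwd (nat_lit 8192) (Steps.bwd (nat_lit 2) Steps.nil))))) (nat_lit 6) (nat_lit 3),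
  Rule.mk (nat_lit 9) (nat_lit 158) (Steps.bwd (nat_lit 14) (Steps.bwd (nat_lit 9) (Steps.fwd (nat_lit 16384) (Steps.bwd (nat_lit 16) (Steps.fwd (nat_lit 90112) (Steps.bwd (nat_lit 13) (Steps.fwd (nat_lit 8192) (Steps.bwd (nat_lit 4) (Steps.bwd (nat_lit 4) Steps.nil))))))))) (nat_lit 62) (nat_lit 1),
  Rule.mk (nat_lit 3) (nat_lit 110) (Steps.bwd (nat_lit 9) (Steps.fwd (nat_lit 139264) (Steps.fwd (nat_lit 139264) (Steps.fwd (nat_lit 122880) (Steps.fwd (nat_lit 81920) (Steps.bwd (nat_lit 9) Steps.nil)))))) (nat_lit 70) (nat_lit 2),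
  Rule.mk (nat_lit 4) (nat_lit 110) (Steps.bwd (nat_lit 9) (Steps.bwd (nat_lit 10) (Steps.fwd (nat_lit 114688) (Steps.bwd (nat_lit 17) (Steps.bwd (nat_lit 17) (Steps.bwd (nat_lit 9) Steps.nil)))))) (nat_lit 71) (nat_lit 6),
  Rule.mk (nat_lit 7) (nat_lit 94) (Steps.bwd (nat_lit 1) (Steps.bwd (nat_lit 1) (Steps.fwd (nat_lit 16384) (Steps.fwd (nat_lit 57344) (Steps.fwd (nat_lit 8192) Steps.nil))))) (nat_lit 83) (nat_lit 0),
  Rule.mk (nat_lit 8) (nat_lit 126) (Steps.bwd (nat_lit 1) (Steps.fwd (nat_lit 16384) (Steps.fwd (nat_lit 147456) (Steps.fwd (nat_lit 57344) (Steps.fwd (nat_lit 155648) (Steps.fwd (nat_lit 57344) (Steps.bwd (nat_lit 19) Steps.nil))))))) (nat_lit 87) (nat_lit 0),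
  Rule.mk (nat_lit 18) (nat_lit 126) (Steps.bwd (nat_lit 7) (Steps.fwd (nat_lit 147456) (Steps.fwd (nat_lit 65536) (Steps.bwd (nat_lit 18) (Steps.fwd (nat_lit 8192) (Steps.fwd (nat_lit 8192) (Steps.fwd (nat_lit 65536) Steps.nil))))))) (nat_lit 86) (nat_lit 2),
  Rule.mk (nat_lit 9) (nat_lit 110) (Steps.bwd (nat_lit 18) (Steps.fwd (nat_lit 73728) (Steps.bwd (nat_lit 16) (Steps.bwd (nat_lit 11) (Steps.fwd (nat_lit 122880) (Steps.fwd (nat_lit 81920) Steps.nil)))))) (nat_lit 66) (nat_lit 1),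
  Rule.mk (nat_lit 10) (nat_lit 126) (Steps.fwd (nat_lit 90112) (Steps.bwd (nat_lit 16) (Steps.fwd (nat_lit 114688) (Steps.bwd (nat_lit 15) (Steps.bwd (nat_lit 4) (Steps.fwd (nat_lit 114688) (Steps.bwd (nat_lit 3) Steps.nil))))))) (nat_lit 53) (nat_lit 1),
  Rule.mk (nat_lit 1) (nat_lit 158) (Steps.fwd (nat_lit 106496) (Steps.bwd (nat_lit 11) (Steps.fwd (nat_lit 131072) (Steps.bwd (nat_lit 2) (Steps.bwd (nat_lit 9) (Steps.bwd (nat_lit 15) (Steps.fwd (nat_lit 73728) (Steps.bwd (nat_lit 3) (Steps.bwd (nat_lit 3) Steps.nil))))))))) (nat_lit 63) (nat_lit 3),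
  Rule.mk (nat_lit 8) (nat_lit 126) (Steps.fwd (nat_lit 155648) (Steps.bwd (nat_lit 8) (Steps.bwd (nat_lit 19) (Steps.bwd (nat_lit 8) (Steps.bwd (nat_lit 1) (Steps.bwd (nat_lit 1) (Steps.fwd (nat_lit 147456) Steps.nil))))))) (nat_lit 87) (nat_lit 4),
  Rule.mk (nat_lit 1) (nat_lit 94) (Steps.fwd (nat_lit 16384) (Steps.bwd (nat_lit 1) (Steps.bwd (nat_lit 1) (Steps.fwd (nat_lit 57344) (Steps.bwd (nat_lit 8) Steps.nil))))) (nat_lit 79) (nat_lit 1),
  Rule.mk (nat_lit 9) (nat_lit 110) (Steps.bwd (nat_lit 17) (Steps.bwd (nat_lit 14) (Steps.fwd (nat_lit 24576) (Steps.bwd (nat_lit 4) (Steps.bwd (nat_lit 9) (Steps.fwd (nat_lit 139264) Steps.nil)))))) (nat_lit 64) (nat_lit 3),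
  Rule.mk (nat_lit 19) (nat_lit 110) (Steps.bwd (nat_lit 9) (Steps.fwd (nat_lit 90112) (Steps.fwd (nat_lit 114688) (Steps.fwd (nat_lit 90112) (Steps.bwd (nat_lit 17) (Steps.fwd (nat_lit 73728) Steps.nil)))))) (nat_lit 67) (nat_lit 6),
  Rule.mk (nat_lit 3) (nat_lit 110) (Steps.bwd (nat_lit 9) (Steps.bwd (nat_lit 16) (Steps.fwd (nat_lit 139264) (Steps.bwd (nat_lit 14) (Steps.fwd (nat_lit 81920) (Steps.bwd (nat_lit 9) Steps.nil)))))) (nat_lit 70) (nat_lit 2),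
  Rule.mk (nat_lit 14) (nat_lit 110) (Steps.bwd (nat_lit 3) (Steps.fwd (nat_lit 81920) (Steps.fwd (nat_lit 73728) (Steps.fwd (nat_lit 81920) (Steps.bwd (nat_lit 9) (Steps.bwd (nat_lit 3) Steps.nil)))))) (nat_lit 61) (nat_lit 2),
  Rule.mk (nat_lit 9) (nat_lit 110) (Steps.bwd (nat_lit 16) (Steps.fwd (nat_lit 73728) (Steps.fwd (nat_lit 131072) (Steps.bwd (nat_lit 14) (Steps.bwd (nat_lit 4) (Steps.fwd (nat_lit 24576) Steps.nil)))))) (nat_lit 64) (nat_lit 1),
  Rule.mk (nat_lit 16) (nat_lit 110) (Steps.bwd (nat_lit 16) (Steps.fwd (nat_lit 122880) (Steps.fwd (nat_lit 81920) (Steps.fwd (nat_lit 73728) (Steps.fwd (nat_lit 32768) (Steps.fwd (nat_lit 73728) Steps.nil)))))) (nat_lit 70) (nat_lit 4),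
  Rule.mk (nat_lit 3) (nat_lit 126) (Steps.bwd (nat_lit 16) (Steps.bwd (nat_lit 10) (Steps.fwd (nat_lit 139264) (Steps.bwd (nat_lit 15) (Steps.bwd (nat_lit 13) (Steps.fwd (nat_lit 24576) (Steps.bwd (nat_lit 12) Steps.nil))))))) (nat_lit 50) (nat_lit 3),
  Rule.mk (nat_lit 1) (nat_lit 142) (Steps.fwd (nat_lit 90112) (Steps.bwd (nat_lit 13) (Steps.fwd (nat_lit 114688) (Steps.bwd (nat_lit 16) (Steps.fwd (nat_lit 90112) (Steps.fwd (nat_lit 139264) (Steps.fwd (nat_lit 8192) (Steps.bwd (nat_lit 17) Steps.nil)))))))) (nat_lit 47) (nat_lit 0),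
  Rule.mk (nat_lit 14) (nat_lit 110) (Steps.bwd (nat_lit 4) (Steps.bwd (nat_lit 4) (Steps.bwd (nat_lit 9) (Steps.bwd (nat_lit 16) (Steps.fwd (nat_lit 73728) (Steps.bwd (nat_lit 17) Steps.nil)))))) (nat_lit 64) (nat_lit 5),
  Rule.mk (nat_lit 17) (nat_lit 110) (Steps.fwd (nat_lit 122880) (Steps.bwd (nat_lit 4) (Steps.bwd (nat_lit 4) (Steps.fwd (nat_lit 73728) (Steps.bwd (nat_lit 16) (Steps.bwd (nat_lit 9) Steps.nil)))))) (nat_lit 64) (nat_lit 4),
  Rule.mk (nat_lit 10) (nat_lit 142) (Steps.bwd (nat_lit 13) (Steps.fwd (nat_lit 114688) (Steps.bwd (nat_lit 16) (Steps.fwd (nat_lit 90112) (Steps.bwd (nat_lit 16) (Steps.bwd (nat_lit 2) (Steps.bwd (nat_lit 17) (Steps.fwd (nat_lit 16384) Steps.nil)))))))) (nat_lit 47) (nat_lit 1),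
  Rule.mk (nat_lit 14) (nat_lit 110) (Steps.bwd (nat_lit 3) (Steps.fwd (nat_lit 81920) (Steps.bwd (nat_lit 9) (Steps.bwd (nat_lit 11) (Steps.bwd (nat_lit 9) (Steps.bwd (nat_lit 3) Steps.nil)))))) (nat_lit 61) (nat_lit 2),
  Rule.mk (nat_lit 16) (nat_lit 94) (Steps.fwd (nat_lit 147456) (Steps.fwd (nat_lit 147456) (Steps.fwd (nat_lit 81920) (Steps.bwd (nat_lit 17) (Steps.bwd (nat_lit 10) Steps.nil))))) (nat_lit 34) (nat_lit 4),
  Rule.mk (nat_lit 2) (nat_lit 94) (Steps.bwd (nat_lit 8) (Steps.bwd (nat_lit 1) (Steps.fwd (nat_lit 65536) (Steps.fwd (nat_lit 8192) (Steps.fwd (nat_lit 8192) Steps.nil))))) (nat_lit 82) (nat_lit 0),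
  Rule.mk (nat_lit 14) (nat_lit 126) (Steps.bwd (nat_lit 14) (Steps.fwd (nat_lit 131072) (Steps.fwd (nat_lit 81920) (Steps.fwd (nat_lit 81920) (Steps.fwd (nat_lit 24576) (Steps.bwd (nat_lit 14) (Steps.fwd (nat_lit 32768) Steps.nil))))))) (nat_lit 52) (nat_lit 4),
  Rule.mk (nat_lit 4) (nat_lit 126) (Steps.bwd (nat_lit 14) (Steps.fwd (nat_lit 32768) (Steps.fwd (nat_lit 122880) (Steps.fwd (nat_lit 122880) (Steps.fwd (nat_lit 131072) (Steps.fwd (nat_lit 81920) (Steps.bwd (nat_lit 11) Steps.nil))))))) (nat_lit 52) (nat_lit 1),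
  Rule.mk (nat_lit 14) (nat_lit 110) (Steps.bwd (nat_lit 14) (Steps.fwd (nat_lit 8192) (Steps.fwd (nat_lit 122880) (Steps.fwd (nat_lit 16384) (Steps.bwd (nat_lit 17) (Steps.fwd (nat_lit 81920) Steps.nil)))))) (nat_lit 44) (nat_lit 6),
  Rule.mk (nat_lit 0) (nat_lit 142) (Steps.bwd (nat_lit 7) (Steps.bwd (nat_lit 19) (Steps.bwd (nat_lit 7) (Steps.bwd (nat_lit 18) (Steps.bwd (nat_lit 2) (Steps.bwd (nat_lit 2) (Steps.bwd (nat_lit 7) (Steps.bwd (nat_lit 18) Steps.nil)))))))) (nat_lit 86) (nat_lit 2),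
  Rule.mk (nat_lit 8) (nat_lit 126) (Steps.fwd (nat_lit 16384) (Steps.bwd (nat_lit 1) (Steps.bwd (nat_lit 19) (Steps.bwd (nat_lit 8) (Steps.fwd (nat_lit 155648) (Steps.bwd (nat_lit 8) (Steps.bwd (nat_lit 19) Steps.nil))))))) (nat_lit 87) (nat_lit 0),
  Rule.mk (nat_lit 2) (nat_lit 94) (Steps.bwd (nat_lit 2) (Steps.bwd (nat_lit 2) (Steps.fwd (nat_lit 65536) (Steps.bwd (nat_lit 7) (Steps.bwd (nat_lit 2) Steps.nil))))) (nat_lit 78) (nat_lit 4),
  Rule.mk (nat_lit 13) (nat_lit 158) (Steps.bwd (nat_lit 2) (Steps.fwd (nat_lit 24576) (Steps.bwd (nat_lit 4) (Steps.fwd (nat_lit 73728) (Steps.fwd (nat_lit 122880) (Steps.bwd (nat_lit 9) (Steps.bwd (nat_lit 1) (Steps.fwd (nat_lit 139264) (Steps.bwd (nat_lit 10) Steps.nil))))))))) (nat_lit 62) (nat_lit 7),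
  Rule.mk (nat_lit 4) (nat_lit 126) (Steps.fwd (nat_lit 106496) (Steps.fwd (nat_lit 32768) (Steps.fwd (nat_lit 139264) (Steps.fwd (nat_lit 90112) (Steps.bwd (nat_lit 16) (Steps.bwd (nat_lit 15) (Steps.bwd (nat_lit 13) Steps.nil))))))) (nat_lit 50) (nat_lit 1),
  Rule.mk (nat_lit 9) (nat_lit 110) (Steps.bwd (nat_lit 4) (Steps.fwd (nat_lit 73728) (Steps.fwd (nat_lit 90112) (Steps.fwd (nat_lit 114688) (Steps.bwd (nat_lit 17) (Steps.fwd (nat_lit 131072) Steps.nil)))))) (nat_lit 71) (nat_lit 5),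
  Rule.mk (nat_lit 16) (nat_lit 110) (Steps.bwd (nat_lit 11) (Steps.fwd (nat_lit 122880) (Steps.fwd (nat_lit 81920) (Steps.bwd (nat_lit 9) (Steps.fwd (nat_lit 155648) (Steps.bwd (nat_lit 9) Steps.nil)))))) (nat_lit 66) (nat_lit 4)]
noncomputable def R_68 : List (Rule) := [Rule.mk (nat_lit 9) (nat_lit 110) (Steps.bwd (nat_lit 16) (Steps.fwd (nat_lit 139264) (Steps.fwd (nat_lit 122880) (Steps.bwd (nat_lit 11) (Steps.fwd (nat_lit 73728) (Steps.bwd (nat_lit 3) Steps.nil)))))) (nat_lit 70) (nat_lit 3),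
  Rule.mk (nat_lit 17) (nat_lit 110) (Steps.bwd (nat_lit 9) (Steps.bwd (nat_lit 19) (Steps.fwd (nat_lit 73728) (Steps.bwd (nat_lit 10) (Steps.fwd (nat_lit 114688) (Steps.bwd (nat_lit 10) Steps.nil)))))) (nat_lit 67) (nat_lit 4),
  Rule.mk (nat_lit 11) (nat_lit 94) (Steps.fwd (nat_lit 139264) (Steps.bwd (nat_lit 10) (Steps.bwd (nat_lit 18) (Steps.bwd (nat_lit 18) (Steps.bwd (nat_lit 17) Steps.nil))))) (nat_lit 35) (nat_lit 4),
  Rule.mk (nat_lit 15) (nat_lit 126) (Steps.bwd (nat_lit 15) (Steps.bwd (nat_lit 4) (Steps.fwd (nat_lit 114688) (Steps.fwd (nat_lit 32768) (Steps.fwd (nat_lit 90112) (Steps.bwd (nat_lit 10) (Steps.fwd (nat_lit 139264) Steps.nil))))))) (nat_lit 53) (nat_lit 4),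
  Rule.mk (nat_lit 16) (nat_lit 126) (Steps.bwd (nat_lit 15) (Steps.bwd (nat_lit 15) (Steps.fwd (nat_lit 24576) (Steps.bwd (nat_lit 15) (Steps.fwd (nat_lit 32768) (Steps.bwd (nat_lit 10) (Steps.bwd (nat_lit 10) Steps.nil))))))) (nat_lit 53) (nat_lit 3),
  Rule.mk (nat_lit 0) (nat_lit 174) (Steps.bwd (nat_lit 9) (Steps.fwd (nat_lit 32768) (Steps.fwd (nat_lit 32768) (Steps.fwd (nat_lit 16384) (Steps.fwd (nat_lit 106496) (Steps.fwd (nat_lit 81920) (Steps.bwd (nat_lit 17) (Steps.bwd (nat_lit 2) (Steps.bwd (nat_lit 9) (Steps.fwd (nat_lit 114688) Steps.nil)))))))))) (nat_lit 63) (nat_lit 9),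
  Rule.mk (nat_lit 15) (nat_lit 110) (Steps.fwd (nat_lit 16384) (Steps.bwd (nat_lit 15) (Steps.bwd (nat_lit 15) (Steps.bwd (nat_lit 10) (Steps.bwd (nat_lit 16) (Steps.bwd (nat_lit 2) Steps.nil)))))) (nat_lit 45) (nat_lit 6),
  Rule.mk (nat_lit 17) (nat_lit 142) (Steps.bwd (nat_lit 1) (Steps.fwd (nat_lit 90112) (Steps.bwd (nat_lit 13) (Steps.fwd (nat_lit 114688) (Steps.fwd (nat_lit 139264) (Steps.bwd (nat_lit 10) (Steps.bwd (nat_lit 16) (Steps.bwd (nat_lit 2) Steps.nil)))))))) (nat_lit 47) (nat_lit 8),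
  Rule.mk (nat_lit 9) (nat_lit 158) (Steps.bwd (nat_lit 1) (Steps.bwd (nat_lit 16) (Steps.bwd (nat_lit 10) (Steps.fwd (nat_lit 98304) (Steps.fwd (nat_lit 8192) (Steps.fwd (nat_lit 24576) (Steps.bwd (nat_lit 4) (Steps.bwd (nat_lit 9) (Steps.fwd (nat_lit 122880) Steps.nil))))))))) (nat_lit 62) (nat_lit 3),
  Rule.mk (nat_lit 4) (nat_lit 126) (Steps.bwd (nat_lit 2) (Steps.bwd (nat_lit 4) (Steps.bwd (nat_lit 2) (Steps.bwd (nat_lit 4) (Steps.fwd (nat_lit 8192) (Steps.fwd (nat_lit 24576) (Steps.bwd (nat_lit 2) Steps.nil))))))) (nat_lit 5) (nat_lit 1),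
  Rule.mk (nat_lit 4) (nat_lit 126) (Steps.bwd (nat_lit 14) (Steps.bwd (nat_lit 3) (Steps.bwd (nat_lit 14) (Steps.fwd (nat_lit 122880) (Steps.fwd (nat_lit 131072) (Steps.fwd (nat_lit 81920) (Steps.bwd (nat_lit 11) Steps.nil))))))) (nat_lit 52) (nat_lit 1),
  Rule.mk (nat_lit 9) (nat_lit 110) (Steps.bwd (nat_lit 10) (Steps.fwd (nat_lit 114688) (Steps.bwd (nat_lit 10) (Steps.bwd (nat_lit 17) (Steps.fwd (nat_lit 73728) (Steps.bwd (nat_lit 19) Steps.nil)))))) (nat_lit 67) (nat_lit 0),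
  Rule.mk (nat_lit 15) (nat_lit 110) (Steps.bwd (nat_lit 1) (Steps.bwd (nat_lit 15) (Steps.fwd (nat_lit 114688) (Steps.fwd (nat_lit 90112) (Steps.fwd (nat_lit 139264) (Steps.fwd (nat_lit 8192) Steps.nil)))))) (nat_lit 45) (nat_lit 6),
  Rule.mk (nat_lit 9) (nat_lit 110) (Steps.fwd (nat_lit 32768) (Steps.bwd (nat_lit 9) (Steps.fwd (nat_lit 139264) (Steps.bwd (nat_lit 16) (Steps.bwd (nat_lit 14) (Steps.bwd (nat_lit 11) Steps.nil)))))) (nat_lit 70) (nat_lit 1),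
  Rule.mk (nat_lit 14) (nat_lit 126) (Steps.bwd (nat_lit 17) (Steps.bwd (nat_lit 11) (Steps.fwd (nat_lit 131072) (Steps.fwd (nat_lit 24576) (Steps.bwd (nat_lit 13) (Steps.fwd (nat_lit 32768) (Steps.bwd (nat_lit 12) Steps.nil))))))) (nat_lit 51) (nat_lit 2),
  Rule.mk (nat_lit 13) (nat_lit 126) (Steps.bwd (nat_lit 4) (Steps.bwd (nat_lit 12) (Steps.fwd (nat_lit 32768) (Steps.bwd (nat_lit 16) (Steps.fwd (nat_lit 90112) (Steps.bwd (nat_lit 16) (Steps.bwd (nat_lit 15) Steps.nil))))))) (nat_lit 50) (nat_lit 0),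
  Rule.mk (nat_lit 11) (nat_lit 126) (Steps.bwd (nat_lit 4) (Steps.fwd (nat_lit 122880) (Steps.bwd (nat_lit 3) (Steps.fwd (nat_lit 122880) (Steps.bwd (nat_lit 14) (Steps.bwd (nat_lit 17) (Steps.bwd (nat_lit 11) Steps.nil))))))) (nat_lit 52) (nat_lit 0),
  Rule.mk (nat_lit 0) (nat_lit 94) (Steps.bwd (nat_lit 11) (Steps.bwd (nat_lit 11) (Steps.bwd (nat_lit 11) (Steps.bwd (nat_lit 11) (Steps.fwd (nat_lit 81920) Steps.nil))))) (nat_lit 21) (nat_lit 0),
  Rule.mk (nat_lit 7) (nat_lit 94) (Steps.bwd (nat_lit 1) (Steps.bwd (nat_lit 1) (Steps.bwd (nat_lit 1) (Steps.bwd (nat_lit 8) (Steps.bwd (nat_lit 2) Steps.nil))))) (nat_lit 83) (nat_lit 0),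
  Rule.mk (nat_lit 2) (nat_lit 126) (Steps.bwd (nat_lit 7) (Steps.bwd (nat_lit 18) (Steps.fwd (nat_lit 65536) (Steps.bwd (nat_lit 19) (Steps.fwd (nat_lit 65536) (Steps.bwd (nat_lit 18) (Steps.fwd (nat_lit 8192) Steps.nil))))))) (nat_lit 86) (nat_lit 0),
  Rule.mk (nat_lit 14) (nat_lit 110) (Steps.bwd (nat_lit 1) (Steps.bwd (nat_lit 17) (Steps.bwd (nat_lit 11) (Steps.bwd (nat_lit 14) (Steps.fwd (nat_lit 122880) (Steps.fwd (nat_lit 8192) Steps.nil)))))) (nat_lit 44) (nat_lit 2),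
  Rule.mk (nat_lit 15) (nat_lit 110) (Steps.bwd (nat_lit 1) (Steps.fwd (nat_lit 114688) (Steps.fwd (nat_lit 114688) (Steps.fwd (nat_lit 90112) (Steps.bwd (nat_lit 16) (Steps.fwd (nat_lit 8192) Steps.nil)))))) (nat_lit 45) (nat_lit 6),
  Rule.mk (nat_lit 8) (nat_lit 126) (Steps.bwd (nat_lit 1) (Steps.fwd (nat_lit 16384) (Steps.bwd (nat_lit 19) (Steps.fwd (nat_lit 57344) (Steps.fwd (nat_lit 155648) (Steps.bwd (nat_lit 8) (Steps.fwd (nat_lit 147456) Steps.nil))))))) (nat_lit 87) (nat_lit 0),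
  Rule.mk (nat_lit 16) (nat_lit 142) (Steps.bwd (nat_lit 1) (Steps.bwd (nat_lit 17) (Steps.bwd (nat_lit 11) (Steps.fwd (nat_lit 131072) (Steps.fwd (nat_lit 122880) (Steps.fwd (nat_lit 106496) (Steps.fwd (nat_lit 81920) (Steps.fwd (nat_lit 8192) Steps.nil)))))))) (nat_lit 46) (nat_lit 2),
  Rule.mk (nat_lit 1) (nat_lit 190) (Steps.bwd (nat_lit 1) (Steps.fwd (nat_lit 16384) (Steps.fwd (nat_lit 73728) (Steps.bwd (nat_lit 12) (Steps.fwd (nat_lit 73728) (Steps.bwd (nat_lit 13) (Steps.bwd (nat_lit 9) (Steps.fwd (nat_lit 106496) (Steps.fwd (nat_lit 131072) (Steps.fwd (nat_lit 16384) (Steps.fwd (nat_lit 122880) Steps.nil))))))))))) (nat_lit 74) (nat_lit 10),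
  Rule.mk (nat_lit 8) (nat_lit 94) (Steps.fwd (nat_lit 57344) (Steps.bwd (nat_lit 1) (Steps.fwd (nat_lit 16384) (Steps.bwd (nat_lit 1) (Steps.bwd (nat_lit 1) Steps.nil))))) (nat_lit 79) (nat_lit 5),
  Rule.mk (nat_lit 8) (nat_lit 94) (Steps.fwd (nat_lit 16384) (Steps.bwd (nat_lit 1) (Steps.bwd (nat_lit 1) (Steps.fwd (nat_lit 16384) (Steps.fwd (nat_lit 57344) Steps.nil))))) (nat_lit 79) (nat_lit 0),
  Rule.mk (nat_lit 8) (nat_lit 126) (Steps.bwd (nat_lit 1) (Steps.bwd (nat_lit 1) (Steps.fwd (nat_lit 147456) (Steps.fwd (nat_lit 57344) (Steps.fwd (nat_lit 155648) (Steps.bwd (nat_lit 8) (Steps.bwd (nat_lit 19) Steps.nil))))))) (nat_lit 87) (nat_lit 0),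
  Rule.mk (nat_lit 3) (nat_lit 126) (Steps.fwd (nat_lit 90112) (Steps.bwd (nat_lit 10) (Steps.fwd (nat_lit 139264) (Steps.bwd (nat_lit 15) (Steps.fwd (nat_lit 114688) (Steps.bwd (nat_lit 4) (Steps.bwd (nat_lit 15) Steps.nil))))))) (nat_lit 53) (nat_lit 0),
  Rule.mk (nat_lit 9) (nat_lit 190) (Steps.bwd (nat_lit 12) (Steps.fwd (nat_lit 131072) (Steps.bwd (nat_lit 1) (Steps.bwd (nat_lit 14) (Steps.bwd (nat_lit 1) (Steps.bwd (nat_lit 1) (Steps.fwd (nat_lit 16384) (Steps.bwd (nat_lit 9) (Steps.bwd (nat_lit 12) (Steps.fwd (nat_lit 73728) (Steps.bwd (nat_lit 13) Steps.nil))))))))))) (nat_lit 74) (nat_lit 5),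
  Rule.mk (nat_lit 11) (nat_lit 110) (Steps.bwd (nat_lit 9) (Steps.fwd (nat_lit 32768) (Steps.fwd (nat_lit 122880) (Steps.fwd (nat_lit 32768) (Steps.fwd (nat_lit 81920) (Steps.bwd (nat_lit 9) Steps.nil)))))) (nat_lit 61) (nat_lit 6),
  Rule.mk (nat_lit 16) (nat_lit 110) (Steps.bwd (nat_lit 9) (Steps.bwd (nat_lit 17) (Steps.bwd (nat_lit 9) (Steps.fwd (nat_lit 32768) (Steps.fwd (nat_lit 32768) (Steps.bwd (nat_lit 15) Steps.nil)))))) (nat_lit 65) (nat_lit 4),
  Rule.mk (nat_lit 13) (nat_lit 190) (Steps.bwd (nat_lit 9) (Steps.fwd (nat_lit 8192) (Steps.fwd (nat_lit 8192) (Steps.bwd (nat_lit 2) (Steps.bwd (nat_lit 15) (Steps.fwd (nat_lit 8192) (Steps.bwd (nat_lit 16) (Steps.fwd (nat_lit 98304) (Steps.fwd (nat_lit 73728) (Steps.fwd (nat_lit 106496) (Steps.fwd (nat_lit 73728) Steps.nil))))))))))) (nat_lit 75) (nat_lit 11),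
  Rule.mk (nat_lit 2) (nat_lit 206) (Steps.bwd (nat_lit 9) (Steps.fwd (nat_lit 16384) (Steps.fwd (nat_lit 16384) (Steps.fwd (nat_lit 73728) (Steps.bwd (nat_lit 16) (Steps.bwd (nat_lit 19) (Steps.bwd (nat_lit 11) (Steps.bwd (nat_lit 2) (Steps.fwd (nat_lit 32768) (Steps.fwd (nat_lit 8192) (Steps.bwd (nat_lit 4) (Steps.fwd (nat_lit 24576) Steps.nil)))))))))))) (nat_lit 68) (nat_lit 0),
  Rule.mk (nat_lit 7) (nat_lit 94) (Steps.fwd (nat_lit 8192) (Steps.bwd (nat_lit 2) (Steps.bwd (nat_lit 2) (Steps.fwd (nat_lit 57344) (Steps.bwd (nat_lit 1) Steps.nil))))) (nat_lit 82) (nat_lit 3),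
  Rule.mk (nat_lit 1) (nat_lit 94) (Steps.bwd (nat_lit 1) (Steps.fwd (nat_lit 32768) (Steps.fwd (nat_lit 8192) (Steps.bwd (nat_lit 2) (Steps.bwd (nat_lit 4) Steps.nil))))) (nat_lit 6) (nat_lit 4),
  Rule.mk (nat_lit 14) (nat_lit 110) (Steps.bwd (nat_lit 1) (Steps.bwd (nat_lit 17) (Steps.fwd (nat_lit 81920) (Steps.fwd (nat_lit 122880) (Steps.bwd (nat_lit 14) (Steps.bwd (nat_lit 2) Steps.nil)))))) (nat_lit 44) (nat_lit 2),
  Rule.mk (nat_lit 17) (nat_lit 142) (Steps.bwd (nat_lit 1) (Steps.bwd (nat_lit 10) (Steps.bwd (nat_lit 13) (Steps.fwd (nat_lit 114688) (Steps.bwd (nat_lit 16) (Steps.fwd (nat_lit 90112) (Steps.fwd (nat_lit 139264) (Steps.bwd (nat_lit 2) Steps.nil)))))))) (nat_lit 47) (nat_lit 8),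
  Rule.mk (nat_lit 11) (nat_lit 110) (Steps.fwd (nat_lit 122880) (Steps.bwd (nat_lit 14) (Steps.bwd (nat_lit 2) (Steps.fwd (nat_lit 122880) (Steps.fwd (nat_lit 16384) (Steps.bwd (nat_lit 17) Steps.nil)))))) (nat_lit 44) (nat_lit 5),
  Rule.mk (nat_lit 16) (nat_lit 142) (Steps.fwd (nat_lit 16384) (Steps.bwd (nat_lit 17) (Steps.bwd (nat_lit 11) (Steps.fwd (nat_lit 131072) (Steps.fwd (nat_lit 122880) (Steps.fwd (nat_lit 106496) (Steps.fwd (nat_lit 81920) (Steps.fwd (nat_lit 8192) Steps.nil)))))))) (nat_lit 46) (nat_lit 2),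
  Rule.mk (nat_lit 10) (nat_lit 110) (Steps.bwd (nat_lit 17) (Steps.fwd (nat_lit 73728) (Steps.fwd (nat_lit 147456) (Steps.fwd (nat_lit 73728) (Steps.bwd (nat_lit 10) (Steps.fwd (nat_lit 114688) Steps.nil)))))) (nat_lit 67) (nat_lit 3),
  Rule.mk (nat_lit 4) (nat_lit 126) (Steps.bwd (nat_lit 13) (Steps.bwd (nat_lit 3) (Steps.fwd (nat_lit 106496) (Steps.fwd (nat_lit 122880) (Steps.bwd (nat_lit 17) (Steps.bwd (nat_lit 11) (Steps.bwd (nat_lit 17) Steps.nil))))))) (nat_lit 51) (nat_lit 6),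
  Rule.mk (nat_lit 2) (nat_lit 94) (Steps.bwd (nat_lit 4) (Steps.fwd (nat_lit 16384) (Steps.fwd (nat_lit 16384) (Steps.bwd (nat_lit 3) (Steps.fwd (nat_lit 8192) Steps.nil))))) (nat_lit 6) (nat_lit 2),
  Rule.mk (nat_lit 9) (nat_lit 158) (Steps.bwd (nat_lit 14) (Steps.bwd (nat_lit 9) (Steps.fwd (nat_lit 16384) (Steps.bwd (nat_lit 16) (Steps.bwd (nat_lit 10) (Steps.bwd (nat_lit 13) (Steps.bwd (nat_lit 2) (Steps.bwd (nat_lit 4) (Steps.bwd (nat_lit 4) Steps.nil))))))))) (nat_lit 62) (nat_lit 1),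
  Rule.mk (nat_lit 3) (nat_lit 110) (Steps.fwd (nat_lit 32768) (Steps.bwd (nat_lit 15) (Steps.fwd (nat_lit 139264) (Steps.bwd (nat_lit 9) (Steps.fwd (nat_lit 131072) (Steps.bwd (nat_lit 9) Steps.nil)))))) (nat_lit 65) (nat_lit 1),
  Rule.mk (nat_lit 14) (nat_lit 110) (Steps.bwd (nat_lit 3) (Steps.bwd (nat_lit 11) (Steps.fwd (nat_lit 73728) (Steps.fwd (nat_lit 81920) (Steps.bwd (nat_lit 9) (Steps.fwd (nat_lit 32768) Steps.nil)))))) (nat_lit 61) (nat_lit 2),
  Rule.mk (nat_lit 1) (nat_lit 126) (Steps.bwd (nat_lit 3) (Steps.fwd (nat_lit 16384) (Steps.fwd (nat_lit 32768) (Steps.fwd (nat_lit 16384) (Steps.bwd (nat_lit 3) (Steps.bwd (nat_lit 1) (Steps.bwd (nat_lit 3) Steps.nil))))))) (nat_lit 4) (nat_lit 1),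
  Rule.mk (nat_lit 9) (nat_lit 190) (Steps.bwd (nat_lit 13) (Steps.bwd (nat_lit 9) (Steps.bwd (nat_lit 12) (Steps.fwd (nat_lit 131072) (Steps.bwd (nat_lit 1) (Steps.bwd (nat_lit 14) (Steps.fwd (nat_lit 16384) (Steps.fwd (nat_lit 16384) (Steps.bwd (nat_lit 1) (Steps.bwd (nat_lit 9) (Steps.fwd (nat_lit 106496) Steps.nil))))))))))) (nat_lit 74) (nat_lit 3),
  Rule.mk (nat_lit 9) (nat_lit 110) (Steps.bwd (nat_lit 18) (Steps.bwd (nat_lit 9) (Steps.fwd (nat_lit 139264) (Steps.bwd (nat_lit 11) (Steps.fwd (nat_lit 122880) (Steps.fwd (nat_lit 81920) Steps.nil)))))) (nat_lit 66) (nat_lit 1),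
  Rule.mk (nat_lit 0) (nat_lit 126) (Steps.bwd (nat_lit 9) (Steps.bwd (nat_lit 10) (Steps.bwd (nat_lit 4) (Steps.fwd (nat_lit 114688) (Steps.bwd (nat_lit 4) (Steps.fwd (nat_lit 73728) (Steps.bwd (nat_lit 10) Steps.nil))))))) (nat_lit 60) (nat_lit 2),
  Rule.mk (nat_lit 15) (nat_lit 110) (Steps.bwd (nat_lit 17) (Steps.bwd (nat_lit 17) (Steps.bwd (nat_lit 9) (Steps.fwd (nat_lit 24576) (Steps.bwd (nat_lit 9) (Steps.fwd (nat_lit 90112) Steps.nil)))))) (nat_lit 71) (nat_lit 2),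
  Rule.mk (nat_lit 9) (nat_lit 158) (Steps.fwd (nat_lit 16384) (Steps.fwd (nat_lit 139264) (Steps.bwd (nat_lit 10) (Steps.fwd (nat_lit 98304) (Steps.bwd (nat_lit 2) (Steps.bwd (nat_lit 4) (Steps.fwd (nat_lit 24576) (Steps.bwd (nat_lit 9) (Steps.bwd (nat_lit 14) Steps.nil))))))))) (nat_lit 62) (nat_lit 3),
  Rule.mk (nat_lit 4) (nat_lit 206) (Steps.bwd (nat_lit 2) (Steps.fwd (nat_lit 73728) (Steps.fwd (nat_lit 16384) (Steps.fwd (nat_lit 16384) (Steps.bwd (nat_lit 9) (Steps.bwd (nat_lit 16) (Steps.bwd (nat_lit 19) (Steps.bwd (nat_lit 11) (Steps.bwd (nat_lit 2) (Steps.bwd (nat_lit 3) (Steps.bwd (nat_lit 2) (Steps.bwd (nat_lit 4) Steps.nil)))))))))))) (nat_lit 68) (nat_lit 12),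
  Rule.mk (nat_lit 9) (nat_lit 110) (Steps.fwd (nat_lit 90112) (Steps.fwd (nat_lit 73728) (Steps.fwd (nat_lit 90112) (Steps.fwd (nat_lit 24576) (Steps.fwd (nat_lit 114688) (Steps.bwd (nat_lit 4) Steps.nil)))))) (nat_lit 60) (nat_lit 1),
  Rule.mk (nat_lit 15) (nat_lit 110) (Steps.fwd (nat_lit 24576) (Steps.bwd (nat_lit 9) (Steps.bwd (nat_lit 10) (Steps.fwd (nat_lit 73728) (Steps.fwd (nat_lit 90112) (Steps.bwd (nat_lit 4) Steps.nil)))))) (nat_lit 60) (nat_lit 6),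
  Rule.mk (nat_lit 14) (nat_lit 126) (Steps.bwd (nat_lit 17) (Steps.fwd (nat_lit 81920) (Steps.bwd (nat_lit 17) (Steps.bwd (nat_lit 4) (Steps.bwd (nat_lit 13) (Steps.fwd (nat_lit 32768) (Steps.bwd (nat_lit 12) Steps.nil))))))) (nat_lit 51) (nat_lit 2),
  Rule.mk (nat_lit 9) (nat_lit 190) (Steps.bwd (nat_lit 12) (Steps.fwd (nat_lit 73728) (Steps.fwd (nat_lit 98304) (Steps.bwd (nat_lit 9) (Steps.fwd (nat_lit 106496) (Steps.bwd (nat_lit 17) (Steps.fwd (nat_lit 16384) (Steps.bwd (nat_lit 14) (Steps.fwd (nat_lit 16384) (Steps.bwd (nat_lit 1) (Steps.fwd (nat_lit 16384) Steps.nil))))))))))) (nat_lit 74) (nat_lit 1),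
  Rule.mk (nat_lit 2) (nat_lit 206) (Steps.fwd (nat_lit 32768) (Steps.fwd (nat_lit 8192) (Steps.bwd (nat_lit 4) (Steps.bwd (nat_lit 4) (Steps.bwd (nat_lit 2) (Steps.fwd (nat_lit 73728) (Steps.fwd (nat_lit 16384) (Steps.bwd (nat_lit 1) (Steps.fwd (nat_lit 90112) (Steps.fwd (nat_lit 155648) (Steps.fwd (nat_lit 131072) (Steps.bwd (nat_lit 9) Steps.nil)))))))))))) (nat_lit 73) (nat_lit 7),
  Rule.mk (nat_lit 2) (nat_lit 94) (Steps.bwd (nat_lit 2) (Steps.fwd (nat_lit 32768) (Steps.fwd (nat_lit 16384) (Steps.fwd (nat_lit 16384) (Steps.bwd (nat_lit 4) Steps.nil))))) (nat_lit 7) (nat_lit 2),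
  Rule.mk (nat_lit 2) (nat_lit 94) (Steps.bwd (nat_lit 2) (Steps.bwd (nat_lit 2) (Steps.bwd (nat_lit 2) (Steps.fwd (nat_lit 65536) (Steps.fwd (nat_lit 65536) Steps.nil))))) (nat_lit 78) (nat_lit 3),
  Rule.mk (nat_lit 11) (nat_lit 110) (Steps.bwd (nat_lit 14) (Steps.fwd (nat_lit 81920) (Steps.fwd (nat_lit 73728) (Steps.bwd (nat_lit 18) (Steps.fwd (nat_lit 73728) (Steps.bwd (nat_lit 16) Steps.nil)))))) (nat_lit 66) (nat_lit 5),
  Rule.mk (nat_lit 15) (nat_lit 126) (Steps.fwd (nat_lit 114688) (Steps.fwd (nat_lit 24576) (Steps.bwd (nat_lit 15) (Steps.fwd (nat_lit 32768) (Steps.bwd (nat_lit 10) (Steps.bwd (nat_lit 10) (Steps.bwd (nat_lit 16) Steps.nil))))))) (nat_lit 53) (nat_lit 4),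
  Rule.mk (nat_lit 14) (nat_lit 110) (Steps.bwd (nat_lit 4) (Steps.bwd (nat_lit 4) (Steps.fwd (nat_lit 73728) (Steps.bwd (nat_lit 16) (Steps.fwd (nat_lit 73728) (Steps.bwd (nat_lit 17) Steps.nil)))))) (nat_lit 64) (nat_lit 5),
  Rule.mk (nat_lit 7) (nat_lit 126) (Steps.bwd (nat_lit 18) (Steps.bwd (nat_lit 7) (Steps.fwd (nat_lit 147456) (Steps.bwd (nat_lit 7) (Steps.bwd (nat_lit 18) (Steps.fwd (nat_lit 8192) (Steps.fwd (nat_lit 8192) Steps.nil))))))) (nat_lit 86) (nat_lit 1)]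
noncomputable def R_69 : List (Rule) := [Rule.mk (nat_lit 17) (nat_lit 110) (Steps.bwd (nat_lit 14) (Steps.bwd (nat_lit 4) (Steps.fwd (nat_lit 24576) (Steps.fwd (nat_lit 73728) (Steps.fwd (nat_lit 139264) (Steps.fwd (nat_lit 73728) Steps.nil)))))) (nat_lit 64) (nat_lit 4),
  Rule.mk (nat_lit 9) (nat_lit 158) (Steps.bwd (nat_lit 14) (Steps.fwd (nat_lit 73728) (Steps.bwd (nat_lit 1) (Steps.bwd (nat_lit 16) (Steps.bwd (nat_lit 10) (Steps.fwd (nat_lit 98304) (Steps.bwd (nat_lit 2) (Steps.fwd (nat_lit 24576) (Steps.fwd (nat_lit 24576) Steps.nil))))))))) (nat_lit 62) (nat_lit 1),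
  Rule.mk (nat_lit 3) (nat_lit 110) (Steps.bwd (nat_lit 3) (Steps.bwd (nat_lit 15) (Steps.bwd (nat_lit 16) (Steps.fwd (nat_lit 73728) (Steps.bwd (nat_lit 17) (Steps.bwd (nat_lit 9) Steps.nil)))))) (nat_lit 65) (nat_lit 1),
  Rule.mk (nat_lit 12) (nat_lit 190) (Steps.fwd (nat_lit 73728) (Steps.bwd (nat_lit 13) (Steps.fwd (nat_lit 73728) (Steps.bwd (nat_lit 12) (Steps.bwd (nat_lit 17) (Steps.fwd (nat_lit 16384) (Steps.fwd (nat_lit 122880) (Steps.fwd (nat_lit 16384) (Steps.bwd (nat_lit 1) (Steps.fwd (nat_lit 16384) (Steps.bwd (nat_lit 9) Steps.nil))))))))))) (nat_lit 74) (nat_lit 2),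
  Rule.mk (nat_lit 15) (nat_lit 126) (Steps.bwd (nat_lit 15) (Steps.bwd (nat_lit 4) (Steps.bwd (nat_lit 15) (Steps.fwd (nat_lit 32768) (Steps.fwd (nat_lit 90112) (Steps.bwd (nat_lit 10) (Steps.bwd (nat_lit 16) Steps.nil))))))) (nat_lit 53) (nat_lit 4),
  Rule.mk (nat_lit 13) (nat_lit 126) (Steps.bwd (nat_lit 4) (Steps.bwd (nat_lit 12) (Steps.bwd (nat_lit 3) (Steps.bwd (nat_lit 16) (Steps.bwd (nat_lit 10) (Steps.bwd (nat_lit 16) (Steps.bwd (nat_lit 15) Steps.nil))))))) (nat_lit 50) (nat_lit 0),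
  Rule.mk (nat_lit 9) (nat_lit 158) (Steps.bwd (nat_lit 3) (Steps.fwd (nat_lit 32768) (Steps.fwd (nat_lit 16384) (Steps.fwd (nat_lit 106496) (Steps.bwd (nat_lit 11) (Steps.fwd (nat_lit 131072) (Steps.bwd (nat_lit 2) (Steps.fwd (nat_lit 73728) (Steps.bwd (nat_lit 15) Steps.nil))))))))) (nat_lit 63) (nat_lit 0),
  Rule.mk (nat_lit 12) (nat_lit 78) (Steps.fwd (nat_lit 147456) (Steps.bwd (nat_lit 11) (Steps.bwd (nat_lit 13) (Steps.fwd (nat_lit 90112) Steps.nil)))) (nat_lit 19) (nat_lit 4),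
  Rule.mk (nat_lit 12) (nat_lit 78) (Steps.fwd (nat_lit 147456) (Steps.bwd (nat_lit 15) (Steps.bwd (nat_lit 13) (Steps.fwd (nat_lit 122880) Steps.nil)))) (nat_lit 37) (nat_lit 0),
  Rule.mk (nat_lit 15) (nat_lit 110) (Steps.bwd (nat_lit 16) (Steps.bwd (nat_lit 9) (Steps.bwd (nat_lit 17) (Steps.bwd (nat_lit 9) (Steps.fwd (nat_lit 32768) (Steps.bwd (nat_lit 3) Steps.nil)))))) (nat_lit 65) (nat_lit 3),
  Rule.mk (nat_lit 10) (nat_lit 126) (Steps.bwd (nat_lit 16) (Steps.fwd (nat_lit 114688) (Steps.bwd (nat_lit 13) (Steps.bwd (nat_lit 4) (Steps.fwd (nat_lit 106496) (Steps.bwd (nat_lit 3) (Steps.fwd (nat_lit 139264) Steps.nil))))))) (nat_lit 50) (nat_lit 5),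
  Rule.mk (nat_lit 17) (nat_lit 110) (Steps.fwd (nat_lit 131072) (Steps.fwd (nat_lit 73728) (Steps.fwd (nat_lit 24576) (Steps.bwd (nat_lit 9) (Steps.bwd (nat_lit 10) (Steps.bwd (nat_lit 15) Steps.nil)))))) (nat_lit 71) (nat_lit 3),
  Rule.mk (nat_lit 18) (nat_lit 78) (Steps.bwd (nat_lit 15) (Steps.fwd (nat_lit 131072) (Steps.bwd (nat_lit 14) (Steps.fwd (nat_lit 139264) Steps.nil)))) (nat_lit 40) (nat_lit 0),
  Rule.mk (nat_lit 3) (nat_lit 110) (Steps.bwd (nat_lit 15) (Steps.fwd (nat_lit 139264) (Steps.bwd (nat_lit 9) (Steps.bwd (nat_lit 17) (Steps.bwd (nat_lit 9) (Steps.bwd (nat_lit 3) Steps.nil)))))) (nat_lit 65) (nat_lit 2),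
  Rule.mk (nat_lit 10) (nat_lit 110) (Steps.bwd (nat_lit 15) (Steps.fwd (nat_lit 90112) (Steps.fwd (nat_lit 131072) (Steps.bwd (nat_lit 9) (Steps.bwd (nat_lit 19) (Steps.fwd (nat_lit 73728) Steps.nil)))))) (nat_lit 67) (nat_lit 1),
  Rule.mk (nat_lit 9) (nat_lit 110) (Steps.fwd (nat_lit 90112) (Steps.bwd (nat_lit 4) (Steps.bwd (nat_lit 15) (Steps.bwd (nat_lit 4) (Steps.fwd (nat_lit 73728) (Steps.bwd (nat_lit 10) Steps.nil)))))) (nat_lit 60) (nat_lit 3),
  Rule.mk (nat_lit 15) (nat_lit 158) (Steps.bwd (nat_lit 9) (Steps.fwd (nat_lit 32768) (Steps.fwd (nat_lit 32768) (Steps.bwd (nat_lit 1) (Steps.fwd (nat_lit 106496) (Steps.fwd (nat_lit 81920) (Steps.bwd (nat_lit 17) (Steps.bwd (nat_lit 2) (Steps.fwd (nat_lit 73728) Steps.nil))))))))) (nat_lit 63) (nat_lit 9),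
  Rule.mk (nat_lit 7) (nat_lit 94) (Steps.fwd (nat_lit 16384) (Steps.bwd (nat_lit 1) (Steps.bwd (nat_lit 1) (Steps.bwd (nat_lit 8) (Steps.fwd (nat_lit 8192) Steps.nil))))) (nat_lit 83) (nat_lit 0),
  Rule.mk (nat_lit 17) (nat_lit 142) (Steps.bwd (nat_lit 1) (Steps.fwd (nat_lit 90112) (Steps.bwd (nat_lit 13) (Steps.bwd (nat_lit 15) (Steps.fwd (nat_lit 139264) (Steps.fwd (nat_lit 90112) (Steps.fwd (nat_lit 139264) (Steps.fwd (nat_lit 8192) Steps.nil)))))))) (nat_lit 47) (nat_lit 8),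
  Rule.mk (nat_lit 9) (nat_lit 206) (Steps.bwd (nat_lit 1) (Steps.fwd (nat_lit 32768) (Steps.bwd (nat_lit 3) (Steps.fwd (nat_lit 16384) (Steps.fwd (nat_lit 24576) (Steps.bwd (nat_lit 1) (Steps.bwd (nat_lit 10) (Steps.fwd (nat_lit 155648) (Steps.fwd (nat_lit 131072) (Steps.bwd (nat_lit 9) (Steps.fwd (nat_lit 8192) (Steps.bwd (nat_lit 2) Steps.nil)))))))))))) (nat_lit 69) (nat_lit 0),
  Rule.mk (nat_lit 11) (nat_lit 110) (Steps.fwd (nat_lit 73728) (Steps.fwd (nat_lit 32768) (Steps.bwd (nat_lit 14) (Steps.fwd (nat_lit 32768) (Steps.bwd (nat_lit 11) (Steps.bwd (nat_lit 9) Steps.nil)))))) (nat_lit 61) (nat_lit 6),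
  Rule.mk (nat_lit 3) (nat_lit 110) (Steps.fwd (nat_lit 32768) (Steps.bwd (nat_lit 15) (Steps.fwd (nat_lit 139264) (Steps.fwd (nat_lit 73728) (Steps.bwd (nat_lit 17) (Steps.bwd (nat_lit 9) Steps.nil)))))) (nat_lit 65) (nat_lit 1),
  Rule.mk (nat_lit 15) (nat_lit 158) (Steps.bwd (nat_lit 9) (Steps.fwd (nat_lit 32768) (Steps.fwd (nat_lit 32768) (Steps.fwd (nat_lit 16384) (Steps.fwd (nat_lit 106496) (Steps.bwd (nat_lit 11) (Steps.bwd (nat_lit 17) (Steps.bwd (nat_lit 2) (Steps.bwd (nat_lit 9) Steps.nil))))))))) (nat_lit 63) (nat_lit 9),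
  Rule.mk (nat_lit 7) (nat_lit 94) (Steps.bwd (nat_lit 2) (Steps.fwd (nat_lit 8192) (Steps.fwd (nat_lit 8192) (Steps.bwd (nat_lit 8) (Steps.bwd (nat_lit 1) Steps.nil))))) (nat_lit 82) (nat_lit 3),
  Rule.mk (nat_lit 0) (nat_lit 78) (Steps.bwd (nat_lit 7) (Steps.bwd (nat_lit 4) (Steps.fwd (nat_lit 57344) (Steps.bwd (nat_lit 3) Steps.nil)))) (nat_lit 80) (nat_lit 3),
  Rule.mk (nat_lit 15) (nat_lit 110) (Steps.bwd (nat_lit 4) (Steps.bwd (nat_lit 9) (Steps.fwd (nat_lit 90112) (Steps.fwd (nat_lit 73728) (Steps.bwd (nat_lit 10) (Steps.bwd (nat_lit 4) Steps.nil)))))) (nat_lit 60) (nat_lit 6),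
  Rule.mk (nat_lit 12) (nat_lit 126) (Steps.fwd (nat_lit 32768) (Steps.bwd (nat_lit 16) (Steps.bwd (nat_lit 10) (Steps.bwd (nat_lit 16) (Steps.fwd (nat_lit 114688) (Steps.fwd (nat_lit 98304) (Steps.bwd (nat_lit 4) Steps.nil))))))) (nat_lit 50) (nat_lit 2),
  Rule.mk (nat_lit 18) (nat_lit 126) (Steps.bwd (nat_lit 8) (Steps.fwd (nat_lit 147456) (Steps.fwd (nat_lit 57344) (Steps.bwd (nat_lit 1) (Steps.fwd (nat_lit 16384) (Steps.fwd (nat_lit 147456) (Steps.fwd (nat_lit 57344) Steps.nil))))))) (nat_lit 87) (nat_lit 5),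
  Rule.mk (nat_lit 9) (nat_lit 270) (Steps.bwd (nat_lit 2) (Steps.fwd (nat_lit 73728) (Steps.bwd (nat_lit 2) (Steps.bwd (nat_lit 18) (Steps.fwd (nat_lit 139264) (Steps.bwd (nat_lit 10) (Steps.fwd (nat_lit 32768) (Steps.fwd (nat_lit 16384) (Steps.fwd (nat_lit 24576) (Steps.fwd (nat_lit 24576) (Steps.fwd (nat_lit 8192) (Steps.fwd (nat_lit 65536) (Steps.fwd (nat_lit 73728) (Steps.fwd (nat_lit 24576) (Steps.bwd (nat_lit 12) (Steps.fwd (nat_lit 8192) Steps.nil)))))))))))))))) (nat_lit 76) (nat_lit 6),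
  Rule.mk (nat_lit 7) (nat_lit 126) (Steps.bwd (nat_lit 18) (Steps.fwd (nat_lit 8192) (Steps.fwd (nat_lit 8192) (Steps.fwd (nat_lit 65536) (Steps.bwd (nat_lit 18) (Steps.bwd (nat_lit 7) (Steps.bwd (nat_lit 19) Steps.nil))))))) (nat_lit 86) (nat_lit 5),
  Rule.mk (nat_lit 15) (nat_lit 110) (Steps.bwd (nat_lit 1) (Steps.fwd (nat_lit 114688) (Steps.bwd (nat_lit 15) (Steps.fwd (nat_lit 90112) (Steps.fwd (nat_lit 139264) (Steps.fwd (nat_lit 8192) Steps.nil)))))) (nat_lit 45) (nat_lit 6),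
  Rule.mk (nat_lit 3) (nat_lit 206) (Steps.bwd (nat_lit 1) (Steps.bwd (nat_lit 4) (Steps.fwd (nat_lit 16384) (Steps.fwd (nat_lit 90112) (Steps.fwd (nat_lit 155648) (Steps.bwd (nat_lit 17) (Steps.bwd (nat_lit 9) (Steps.bwd (nat_lit 2) (Steps.bwd (nat_lit 2) (Steps.bwd (nat_lit 9) (Steps.bwd (nat_lit 1) (Steps.fwd (nat_lit 32768) Steps.nil)))))))))))) (nat_lit 69) (nat_lit 3),
  Rule.mk (nat_lit 3) (nat_lit 78) (Steps.fwd (nat_lit 32768) (Steps.fwd (nat_lit 32768) (Steps.fwd (nat_lit 32768) (Steps.bwd (nat_lit 3) Steps.nil)))) (nat_lit 2) (nat_lit 0),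
  Rule.mk (nat_lit 9) (nat_lit 110) (Steps.fwd (nat_lit 81920) (Steps.fwd (nat_lit 73728) (Steps.bwd (nat_lit 3) (Steps.bwd (nat_lit 14) (Steps.bwd (nat_lit 3) (Steps.fwd (nat_lit 81920) Steps.nil)))))) (nat_lit 61) (nat_lit 5),
  Rule.mk (nat_lit 9) (nat_lit 110) (Steps.bwd (nat_lit 3) (Steps.fwd (nat_lit 32768) (Steps.fwd (nat_lit 114688) (Steps.bwd (nat_lit 16) (Steps.fwd (nat_lit 73728) (Steps.bwd (nat_lit 17) Steps.nil)))))) (nat_lit 65) (nat_lit 0),
  Rule.mk (nat_lit 9) (nat_lit 190) (Steps.bwd (nat_lit 12) (Steps.bwd (nat_lit 9) (Steps.fwd (nat_lit 98304) (Steps.bwd (nat_lit 9) (Steps.bwd (nat_lit 2) (Steps.bwd (nat_lit 2) (Steps.fwd (nat_lit 8192) (Steps.fwd (nat_lit 114688) (Steps.bwd (nat_lit 2) (Steps.fwd (nat_lit 139264) (Steps.fwd (nat_lit 98304) Steps.nil))))))))))) (nat_lit 75) (nat_lit 8),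
  Rule.mk (nat_lit 9) (nat_lit 158) (Steps.fwd (nat_lit 16384) (Steps.bwd (nat_lit 16) (Steps.bwd (nat_lit 10) (Steps.fwd (nat_lit 98304) (Steps.bwd (nat_lit 2) (Steps.fwd (nat_lit 24576) (Steps.fwd (nat_lit 24576) (Steps.bwd (nat_lit 9) (Steps.fwd (nat_lit 122880) Steps.nil))))))))) (nat_lit 62) (nat_lit 3),
  Rule.mk (nat_lit 14) (nat_lit 190) (Steps.bwd (nat_lit 1) (Steps.bwd (nat_lit 1) (Steps.bwd (nat_lit 1) (Steps.fwd (nat_lit 73728) (Steps.bwd (nat_lit 12) (Steps.bwd (nat_lit 9) (Steps.fwd (nat_lit 98304) (Steps.bwd (nat_lit 9) (Steps.fwd (nat_lit 106496) (Steps.fwd (nat_lit 131072) (Steps.bwd (nat_lit 1) Steps.nil))))))))))) (nat_lit 74) (nat_lit 9),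
  Rule.mk (nat_lit 16) (nat_lit 158) (Steps.fwd (nat_lit 90112) (Steps.fwd (nat_lit 98304) (Steps.bwd (nat_lit 2) (Steps.fwd (nat_lit 24576) (Steps.fwd (nat_lit 24576) (Steps.bwd (nat_lit 9) (Steps.fwd (nat_lit 122880) (Steps.fwd (nat_lit 73728) (Steps.bwd (nat_lit 1) Steps.nil))))))))) (nat_lit 62) (nat_lit 5),
  Rule.mk (nat_lit 1) (nat_lit 206) (Steps.fwd (nat_lit 24576) (Steps.bwd (nat_lit 1) (Steps.fwd (nat_lit 90112) (Steps.bwd (nat_lit 18) (Steps.fwd (nat_lit 131072) (Steps.fwd (nat_lit 73728) (Steps.bwd (nat_lit 2) (Steps.bwd (nat_lit 2) (Steps.bwd (nat_lit 9) (Steps.fwd (nat_lit 16384) (Steps.bwd (nat_lit 3) (Steps.bwd (nat_lit 3) Steps.nil)))))))))))) (nat_lit 69) (nat_lit 4),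
  Rule.mk (nat_lit 2) (nat_lit 94) (Steps.bwd (nat_lit 2) (Steps.fwd (nat_lit 8192) (Steps.bwd (nat_lit 8) (Steps.bwd (nat_lit 1) (Steps.bwd (nat_lit 7) Steps.nil))))) (nat_lit 82) (nat_lit 4),
  Rule.mk (nat_lit 13) (nat_lit 158) (Steps.bwd (nat_lit 2) (Steps.bwd (nat_lit 4) (Steps.fwd (nat_lit 24576) (Steps.fwd (nat_lit 73728) (Steps.bwd (nat_lit 14) (Steps.fwd (nat_lit 73728) (Steps.bwd (nat_lit 1) (Steps.bwd (nat_lit 16) (Steps.fwd (nat_lit 90112) Steps.nil))))))))) (nat_lit 62) (nat_lit 7),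
  Rule.mk (nat_lit 18) (nat_lit 62) (Steps.fwd (nat_lit 106496) (Steps.bwd (nat_lit 19) (Steps.bwd (nat_lit 13) Steps.nil))) (nat_lit 27) (nat_lit 3),
  Rule.mk (nat_lit 19) (nat_lit 270) (Steps.bwd (nat_lit 1) (Steps.bwd (nat_lit 9) (Steps.fwd (nat_lit 16384) (Steps.fwd (nat_lit 73728) (Steps.fwd (nat_lit 16384) (Steps.bwd (nat_lit 13) (Steps.fwd (nat_lit 32768) (Steps.bwd (nat_lit 9) (Steps.fwd (nat_lit 57344) (Steps.fwd (nat_lit 16384) (Steps.bwd (nat_lit 3) (Steps.bwd (nat_lit 3) (Steps.bwd (nat_lit 2) (Steps.bwd (nat_lit 4) (Steps.bwd (nat_lit 11) (Steps.fwd (nat_lit 131072) Steps.nil)))))))))))))))) (nat_lit 77) (nat_lit 8),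
  Rule.mk (nat_lit 16) (nat_lit 142) (Steps.bwd (nat_lit 1) (Steps.bwd (nat_lit 17) (Steps.bwd (nat_lit 11) (Steps.bwd (nat_lit 17) (Steps.bwd (nat_lit 14) (Steps.bwd (nat_lit 12) (Steps.fwd (nat_lit 81920) (Steps.fwd (nat_lit 8192) Steps.nil)))))))) (nat_lit 46) (nat_lit 2),
  Rule.mk (nat_lit 17) (nat_lit 142) (Steps.bwd (nat_lit 1) (Steps.fwd (nat_lit 90112) (Steps.fwd (nat_lit 98304) (Steps.bwd (nat_lit 15) (Steps.bwd (nat_lit 16) (Steps.bwd (nat_lit 10) (Steps.bwd (nat_lit 16) (Steps.fwd (nat_lit 8192) Steps.nil)))))))) (nat_lit 47) (nat_lit 8),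
  Rule.mk (nat_lit 9) (nat_lit 158) (Steps.bwd (nat_lit 1) (Steps.fwd (nat_lit 139264) (Steps.bwd (nat_lit 10) (Steps.fwd (nat_lit 98304) (Steps.fwd (nat_lit 8192) (Steps.bwd (nat_lit 4) (Steps.fwd (nat_lit 24576) (Steps.fwd (nat_lit 73728) (Steps.bwd (nat_lit 14) Steps.nil))))))))) (nat_lit 62) (nat_lit 3),
  Rule.mk (nat_lit 10) (nat_lit 110) (Steps.bwd (nat_lit 4) (Steps.bwd (nat_lit 15) (Steps.bwd (nat_lit 4) (Steps.fwd (nat_lit 73728) (Steps.bwd (nat_lit 10) (Steps.bwd (nat_lit 9) Steps.nil)))))) (nat_lit 60) (nat_lit 4),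
  Rule.mk (nat_lit 7) (nat_lit 286) (Steps.bwd (nat_lit 10) (Steps.bwd (nat_lit 3) (Steps.bwd (nat_lit 1) (Steps.bwd (nat_lit 4) (Steps.bwd (nat_lit 7) (Steps.bwd (nat_lit 10) (Steps.fwd (nat_lit 65536) (Steps.fwd (nat_lit 73728) (Steps.fwd (nat_lit 24576) (Steps.bwd (nat_lit 4) (Steps.bwd (nat_lit 2) (Steps.fwd (nat_lit 81920) (Steps.fwd (nat_lit 16384) (Steps.bwd (nat_lit 10) (Steps.fwd (nat_lit 8192) (Steps.bwd (nat_lit 10) (Steps.bwd (nat_lit 1) Steps.nil))))))))))))))))) (nat_lit 57) (nat_lit 10),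
  Rule.mk (nat_lit 7) (nat_lit 94) (Steps.fwd (nat_lit 8192) (Steps.bwd (nat_lit 2) (Steps.fwd (nat_lit 8192) (Steps.bwd (nat_lit 8) (Steps.fwd (nat_lit 16384) Steps.nil))))) (nat_lit 82) (nat_lit 3),
  Rule.mk (nat_lit 4) (nat_lit 110) (Steps.bwd (nat_lit 9) (Steps.fwd (nat_lit 90112) (Steps.bwd (nat_lit 9) (Steps.fwd (nat_lit 90112) (Steps.bwd (nat_lit 4) (Steps.bwd (nat_lit 15) Steps.nil)))))) (nat_lit 60) (nat_lit 0),
  Rule.mk (nat_lit 11) (nat_lit 110) (Steps.bwd (nat_lit 9) (Steps.fwd (nat_lit 32768) (Steps.bwd (nat_lit 14) (Steps.fwd (nat_lit 32768) (Steps.bwd (nat_lit 11) (Steps.bwd (nat_lit 9) Steps.nil)))))) (nat_lit 61) (nat_lit 6),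
  Rule.mk (nat_lit 14) (nat_lit 158) (Steps.bwd (nat_lit 9) (Steps.fwd (nat_lit 16384) (Steps.bwd (nat_lit 16) (Steps.bwd (nat_lit 10) (Steps.fwd (nat_lit 98304) (Steps.bwd (nat_lit 2) (Steps.bwd (nat_lit 4) (Steps.bwd (nat_lit 4) (Steps.fwd (nat_lit 73728) Steps.nil))))))))) (nat_lit 62) (nat_lit 2),
  Rule.mk (nat_lit 15) (nat_lit 158) (Steps.bwd (nat_lit 9) (Steps.fwd (nat_lit 32768) (Steps.fwd (nat_lit 32768) (Steps.fwd (nat_lit 16384) (Steps.fwd (nat_lit 106496) (Steps.bwd (nat_lit 11) (Steps.bwd (nat_lit 17) (Steps.fwd (nat_lit 8192) (Steps.fwd (nat_lit 73728) Steps.nil))))))))) (nat_lit 63) (nat_lit 9),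
  Rule.mk (nat_lit 17) (nat_lit 110) (Steps.fwd (nat_lit 131072) (Steps.bwd (nat_lit 9) (Steps.fwd (nat_lit 24576) (Steps.bwd (nat_lit 9) (Steps.bwd (nat_lit 10) (Steps.bwd (nat_lit 15) Steps.nil)))))) (nat_lit 71) (nat_lit 3),
  Rule.mk (nat_lit 10) (nat_lit 110) (Steps.bwd (nat_lit 9) (Steps.fwd (nat_lit 90112) (Steps.bwd (nat_lit 4) (Steps.fwd (nat_lit 114688) (Steps.fwd (nat_lit 24576) (Steps.bwd (nat_lit 9) Steps.nil)))))) (nat_lit 60) (nat_lit 2),
  Rule.mk (nat_lit 14) (nat_lit 158) (Steps.bwd (nat_lit 9) (Steps.fwd (nat_lit 16384) (Steps.fwd (nat_lit 139264) (Steps.bwd (nat_lit 10) (Steps.bwd (nat_lit 13) (Steps.fwd (nat_lit 8192) (Steps.bwd (nat_lit 4) (Steps.fwd (nat_lit 24576) (Steps.fwd (nat_lit 73728) Steps.nil))))))))) (nat_lit 62) (nat_lit 2),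
  Rule.mk (nat_lit 2) (nat_lit 206) (Steps.bwd (nat_lit 9) (Steps.fwd (nat_lit 16384) (Steps.fwd (nat_lit 16384) (Steps.fwd (nat_lit 73728) (Steps.fwd (nat_lit 139264) (Steps.fwd (nat_lit 147456) (Steps.fwd (nat_lit 81920) (Steps.bwd (nat_lit 2) (Steps.bwd (nat_lit 3) (Steps.fwd (nat_lit 8192) (Steps.bwd (nat_lit 4) (Steps.fwd (nat_lit 24576) Steps.nil)))))))))))) (nat_lit 68) (nat_lit 0),
  Rule.mk (nat_lit 3) (nat_lit 206) (Steps.fwd (nat_lit 8192) (Steps.fwd (nat_lit 24576) (Steps.bwd (nat_lit 4) (Steps.bwd (nat_lit 2) (Steps.bwd (nat_lit 9) (Steps.bwd (nat_lit 1) (Steps.fwd (nat_lit 16384) (Steps.bwd (nat_lit 10) (Steps.fwd (nat_lit 155648) (Steps.fwd (nat_lit 131072) (Steps.fwd (nat_lit 73728) (Steps.bwd (nat_lit 2) Steps.nil)))))))))))) (nat_lit 73) (nat_lit 8),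
  Rule.mk (nat_lit 10) (nat_lit 110) (Steps.bwd (nat_lit 15) (Steps.fwd (nat_lit 90112) (Steps.fwd (nat_lit 131072) (Steps.bwd (nat_lit 9) (Steps.fwd (nat_lit 147456) (Steps.fwd (nat_lit 73728) Steps.nil)))))) (nat_lit 67) (nat_lit 1),
  Rule.mk (nat_lit 16) (nat_lit 126) (Steps.bwd (nat_lit 15) (Steps.fwd (nat_lit 114688) (Steps.fwd (nat_lit 24576) (Steps.bwd (nat_lit 15) (Steps.bwd (nat_lit 3) (Steps.bwd (nat_lit 10) (Steps.bwd (nat_lit 10) Steps.nil))))))) (nat_lit 53) (nat_lit 3),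
  Rule.mk (nat_lit 9) (nat_lit 110) (Steps.fwd (nat_lit 131072) (Steps.fwd (nat_lit 122880) (Steps.bwd (nat_lit 4) (Steps.bwd (nat_lit 4) (Steps.bwd (nat_lit 9) (Steps.bwd (nat_lit 16) Steps.nil)))))) (nat_lit 64) (nat_lit 3),
  Rule.mk (nat_lit 16) (nat_lit 110) (Steps.bwd (nat_lit 11) (Steps.fwd (nat_lit 122880) (Steps.bwd (nat_lit 11) (Steps.bwd (nat_lit 9) (Steps.fwd (nat_lit 155648) (Steps.bwd (nat_lit 9) Steps.nil)))))) (nat_lit 66) (nat_lit 4),
  Rule.mk (nat_lit 17) (nat_lit 126) (Steps.bwd (nat_lit 11) (Steps.bwd (nat_lit 17) (Steps.bwd (nat_lit 4) (Steps.fwd (nat_lit 98304) (Steps.fwd (nat_lit 32768) (Steps.bwd (nat_lit 12) (Steps.fwd (nat_lit 122880) Steps.nil))))))) (nat_lit 51) (nat_lit 3)]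
noncomputable def R_70 : List (Rule) := [Rule.mk (nat_lit 2) (nat_lit 110) (Steps.bwd (nat_lit 15) (Steps.bwd (nat_lit 1) (Steps.bwd (nat_lit 15) (Steps.fwd (nat_lit 114688) (Steps.bwd (nat_lit 10) (Steps.fwd (nat_lit 139264) Steps.nil)))))) (nat_lit 45) (nat_lit 5),
  Rule.mk (nat_lit 2) (nat_lit 126) (Steps.bwd (nat_lit 7) (Steps.fwd (nat_lit 155648) (Steps.bwd (nat_lit 7) (Steps.fwd (nat_lit 147456) (Steps.bwd (nat_lit 7) (Steps.fwd (nat_lit 155648) (Steps.bwd (nat_lit 2) Steps.nil))))))) (nat_lit 86) (nat_lit 0),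
  Rule.mk (nat_lit 8) (nat_lit 158) (Steps.bwd (nat_lit 19) (Steps.bwd (nat_lit 8) (Steps.bwd (nat_lit 19) (Steps.bwd (nat_lit 8) (Steps.fwd (nat_lit 147456) (Steps.fwd (nat_lit 57344) (Steps.fwd (nat_lit 147456) (Steps.bwd (nat_lit 8) (Steps.bwd (nat_lit 19) Steps.nil))))))))) (nat_lit 85) (nat_lit 0),
  Rule.mk (nat_lit 10) (nat_lit 142) (Steps.bwd (nat_lit 13) (Steps.bwd (nat_lit 15) (Steps.fwd (nat_lit 139264) (Steps.fwd (nat_lit 90112) (Steps.fwd (nat_lit 139264) (Steps.bwd (nat_lit 2) (Steps.bwd (nat_lit 17) (Steps.fwd (nat_lit 16384) Steps.nil)))))))) (nat_lit 47) (nat_lit 1),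
  Rule.mk (nat_lit 9) (nat_lit 190) (Steps.bwd (nat_lit 13) (Steps.bwd (nat_lit 9) (Steps.bwd (nat_lit 12) (Steps.fwd (nat_lit 131072) (Steps.fwd (nat_lit 16384) (Steps.fwd (nat_lit 122880) (Steps.bwd (nat_lit 1) (Steps.fwd (nat_lit 16384) (Steps.bwd (nat_lit 1) (Steps.bwd (nat_lit 9) (Steps.fwd (nat_lit 106496) Steps.nil))))))))))) (nat_lit 74) (nat_lit 3),
  Rule.mk (nat_lit 4) (nat_lit 110) (Steps.fwd (nat_lit 73728) (Steps.bwd (nat_lit 10) (Steps.fwd (nat_lit 114688) (Steps.bwd (nat_lit 17) (Steps.bwd (nat_lit 17) (Steps.bwd (nat_lit 9) Steps.nil)))))) (nat_lit 71) (nat_lit 6),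
  Rule.mk (nat_lit 1) (nat_lit 206) (Steps.bwd (nat_lit 3) (Steps.bwd (nat_lit 3) (Steps.fwd (nat_lit 16384) (Steps.bwd (nat_lit 4) (Steps.bwd (nat_lit 1) (Steps.fwd (nat_lit 73728) (Steps.fwd (nat_lit 139264) (Steps.bwd (nat_lit 19) (Steps.fwd (nat_lit 81920) (Steps.fwd (nat_lit 8192) (Steps.fwd (nat_lit 8192) (Steps.fwd (nat_lit 73728) Steps.nil)))))))))))) (nat_lit 72) (nat_lit 2),
  Rule.mk (nat_lit 7) (nat_lit 126) (Steps.fwd (nat_lit 147456) (Steps.bwd (nat_lit 7) (Steps.bwd (nat_lit 18) (Steps.fwd (nat_lit 8192) (Steps.bwd (nat_lit 2) (Steps.fwd (nat_lit 65536) (Steps.bwd (nat_lit 18) Steps.nil))))))) (nat_lit 86) (nat_lit 3),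
  Rule.mk (nat_lit 4) (nat_lit 62) (Steps.fwd (nat_lit 65536) (Steps.fwd (nat_lit 32768) (Steps.bwd (nat_lit 8) Steps.nil))) (nat_lit 81) (nat_lit 2),
  Rule.mk (nat_lit 10) (nat_lit 110) (Steps.bwd (nat_lit 4) (Steps.fwd (nat_lit 114688) (Steps.bwd (nat_lit 4) (Steps.fwd (nat_lit 73728) (Steps.fwd (nat_lit 90112) (Steps.fwd (nat_lit 73728) Steps.nil)))))) (nat_lit 60) (nat_lit 4),
  Rule.mk (nat_lit 3) (nat_lit 110) (Steps.fwd (nat_lit 81920) (Steps.fwd (nat_lit 73728) (Steps.fwd (nat_lit 81920) (Steps.bwd (nat_lit 9) (Steps.fwd (nat_lit 32768) (Steps.bwd (nat_lit 14) Steps.nil)))))) (nat_lit 61) (nat_lit 3),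
  Rule.mk (nat_lit 2) (nat_lit 78) (Steps.fwd (nat_lit 147456) (Steps.bwd (nat_lit 1) (Steps.bwd (nat_lit 18) (Steps.fwd (nat_lit 155648) Steps.nil)))) (nat_lit 49) (nat_lit 3),
  Rule.mk (nat_lit 8) (nat_lit 126) (Steps.fwd (nat_lit 16384) (Steps.bwd (nat_lit 1) (Steps.fwd (nat_lit 147456) (Steps.fwd (nat_lit 57344) (Steps.fwd (nat_lit 155648) (Steps.fwd (nat_lit 57344) (Steps.bwd (nat_lit 19) Steps.nil))))))) (nat_lit 87) (nat_lit 0),
  Rule.mk (nat_lit 1) (nat_lit 94) (Steps.bwd (nat_lit 8) (Steps.bwd (nat_lit 8) (Steps.fwd (nat_lit 16384) (Steps.bwd (nat_lit 1) (Steps.fwd (nat_lit 16384) Steps.nil))))) (nat_lit 79) (nat_lit 4),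
  Rule.mk (nat_lit 14) (nat_lit 110) (Steps.bwd (nat_lit 11) (Steps.bwd (nat_lit 9) (Steps.bwd (nat_lit 18) (Steps.fwd (nat_lit 73728) (Steps.fwd (nat_lit 139264) (Steps.bwd (nat_lit 11) Steps.nil)))))) (nat_lit 66) (nat_lit 6),
  Rule.mk (nat_lit 17) (nat_lit 110) (Steps.bwd (nat_lit 9) (Steps.bwd (nat_lit 4) (Steps.bwd (nat_lit 9) (Steps.bwd (nat_lit 10) (Steps.fwd (nat_lit 114688) (Steps.fwd (nat_lit 131072) Steps.nil)))))) (nat_lit 71) (nat_lit 4),
  Rule.mk (nat_lit 4) (nat_lit 158) (Steps.bwd (nat_lit 9) (Steps.fwd (nat_lit 122880) (Steps.bwd (nat_lit 9) (Steps.fwd (nat_lit 16384) (Steps.bwd (nat_lit 16) (Steps.bwd (nat_lit 10) (Steps.bwd (nat_lit 13) (Steps.bwd (nat_lit 2) (Steps.fwd (nat_lit 24576) Steps.nil))))))))) (nat_lit 62) (nat_lit 0),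
  Rule.mk (nat_lit 2) (nat_lit 190) (Steps.bwd (nat_lit 2) (Steps.fwd (nat_lit 114688) (Steps.fwd (nat_lit 8192) (Steps.bwd (nat_lit 16) (Steps.bwd (nat_lit 13) (Steps.fwd (nat_lit 73728) (Steps.bwd (nat_lit 12) (Steps.fwd (nat_lit 73728) (Steps.fwd (nat_lit 98304) (Steps.bwd (nat_lit 9) (Steps.bwd (nat_lit 2) Steps.nil))))))))))) (nat_lit 75) (nat_lit 2),
  Rule.mk (nat_lit 14) (nat_lit 110) (Steps.fwd (nat_lit 16384) (Steps.fwd (nat_lit 131072) (Steps.fwd (nat_lit 81920) (Steps.bwd (nat_lit 14) (Steps.fwd (nat_lit 122880) (Steps.bwd (nat_lit 2) Steps.nil)))))) (nat_lit 44) (nat_lit 2),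
  Rule.mk (nat_lit 17) (nat_lit 142) (Steps.fwd (nat_lit 16384) (Steps.fwd (nat_lit 90112) (Steps.bwd (nat_lit 13) (Steps.bwd (nat_lit 15) (Steps.fwd (nat_lit 139264) (Steps.fwd (nat_lit 90112) (Steps.fwd (nat_lit 139264) (Steps.bwd (nat_lit 2) Steps.nil)))))))) (nat_lit 47) (nat_lit 8),
  Rule.mk (nat_lit 11) (nat_lit 286) (Steps.bwd (nat_lit 1) (Steps.bwd (nat_lit 11) (Steps.fwd (nat_lit 8192) (Steps.fwd (nat_lit 90112) (Steps.fwd (nat_lit 16384) (Steps.bwd (nat_lit 3) (Steps.bwd (nat_lit 3) (Steps.fwd (nat_lit 73728) (Steps.fwd (nat_lit 57344) (Steps.fwd (nat_lit 81920) (Steps.fwd (nat_lit 57344) (Steps.fwd (nat_lit 32768) (Steps.bwd (nat_lit 2) (Steps.fwd (nat_lit 24576) (Steps.bwd (nat_lit 11) (Steps.fwd (nat_lit 57344) (Steps.bwd (nat_lit 2) Steps.nil))))))))))))))))) (nat_lit 56) (nat_lit 11),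
  Rule.mk (nat_lit 14) (nat_lit 110) (Steps.bwd (nat_lit 2) (Steps.bwd (nat_lit 14) (Steps.fwd (nat_lit 16384) (Steps.bwd (nat_lit 17) (Steps.fwd (nat_lit 81920) (Steps.fwd (nat_lit 122880) Steps.nil)))))) (nat_lit 44) (nat_lit 0),
  Rule.mk (nat_lit 17) (nat_lit 110) (Steps.fwd (nat_lit 81920) (Steps.fwd (nat_lit 122880) (Steps.fwd (nat_lit 122880) (Steps.bwd (nat_lit 2) (Steps.bwd (nat_lit 14) (Steps.bwd (nat_lit 1) Steps.nil)))))) (nat_lit 44) (nat_lit 4),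
  Rule.mk (nat_lit 12) (nat_lit 126) (Steps.fwd (nat_lit 122880) (Steps.bwd (nat_lit 17) (Steps.bwd (nat_lit 11) (Steps.fwd (nat_lit 131072) (Steps.bwd (nat_lit 4) (Steps.fwd (nat_lit 98304) (Steps.bwd (nat_lit 3) Steps.nil))))))) (nat_lit 51) (nat_lit 1),
  Rule.mk (nat_lit 10) (nat_lit 142) (Steps.bwd (nat_lit 13) (Steps.fwd (nat_lit 114688) (Steps.fwd (nat_lit 139264) (Steps.fwd (nat_lit 90112) (Steps.bwd (nat_lit 16) (Steps.bwd (nat_lit 2) (Steps.bwd (nat_lit 17) (Steps.fwd (nat_lit 16384) Steps.nil)))))))) (nat_lit 47) (nat_lit 1),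
  Rule.mk (nat_lit 4) (nat_lit 110) (Steps.fwd (nat_lit 114688) (Steps.fwd (nat_lit 24576) (Steps.bwd (nat_lit 9) (Steps.fwd (nat_lit 90112) (Steps.fwd (nat_lit 73728) (Steps.bwd (nat_lit 10) Steps.nil)))))) (nat_lit 60) (nat_lit 5),
  Rule.mk (nat_lit 7) (nat_lit 126) (Steps.fwd (nat_lit 147456) (Steps.bwd (nat_lit 7) (Steps.fwd (nat_lit 155648) (Steps.fwd (nat_lit 8192) (Steps.bwd (nat_lit 2) (Steps.bwd (nat_lit 7) (Steps.fwd (nat_lit 155648) Steps.nil))))))) (nat_lit 86) (nat_lit 3),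
  Rule.mk (nat_lit 9) (nat_lit 110) (Steps.bwd (nat_lit 4) (Steps.fwd (nat_lit 73728) (Steps.fwd (nat_lit 90112) (Steps.fwd (nat_lit 114688) (Steps.bwd (nat_lit 17) (Steps.bwd (nat_lit 17) Steps.nil)))))) (nat_lit 71) (nat_lit 5),
  Rule.mk (nat_lit 15) (nat_lit 94) (Steps.bwd (nat_lit 11) (Steps.bwd (nat_lit 14) (Steps.bwd (nat_lit 10) (Steps.bwd (nat_lit 19) (Steps.bwd (nat_lit 19) Steps.nil))))) (nat_lit 33) (nat_lit 3),
  Rule.mk (nat_lit 3) (nat_lit 110) (Steps.bwd (nat_lit 11) (Steps.fwd (nat_lit 73728) (Steps.bwd (nat_lit 11) (Steps.fwd (nat_lit 73728) (Steps.bwd (nat_lit 3) (Steps.fwd (nat_lit 122880) Steps.nil)))))) (nat_lit 61) (nat_lit 3),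
  Rule.mk (nat_lit 9) (nat_lit 110) (Steps.fwd (nat_lit 24576) (Steps.fwd (nat_lit 73728) (Steps.bwd (nat_lit 10) (Steps.fwd (nat_lit 114688) (Steps.bwd (nat_lit 17) (Steps.bwd (nat_lit 17) Steps.nil)))))) (nat_lit 71) (nat_lit 5),
  Rule.mk (nat_lit 10) (nat_lit 126) (Steps.bwd (nat_lit 10) (Steps.bwd (nat_lit 16) (Steps.bwd (nat_lit 15) (Steps.fwd (nat_lit 114688) (Steps.fwd (nat_lit 24576) (Steps.fwd (nat_lit 114688) (Steps.bwd (nat_lit 3) Steps.nil))))))) (nat_lit 53) (nat_lit 1),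
  Rule.mk (nat_lit 8) (nat_lit 126) (Steps.fwd (nat_lit 147456) (Steps.bwd (nat_lit 8) (Steps.fwd (nat_lit 16384) (Steps.fwd (nat_lit 16384) (Steps.fwd (nat_lit 147456) (Steps.bwd (nat_lit 8) (Steps.bwd (nat_lit 18) Steps.nil))))))) (nat_lit 87) (nat_lit 6),
  Rule.mk (nat_lit 15) (nat_lit 110) (Steps.bwd (nat_lit 10) (Steps.bwd (nat_lit 17) (Steps.bwd (nat_lit 9) (Steps.fwd (nat_lit 147456) (Steps.fwd (nat_lit 73728) (Steps.bwd (nat_lit 10) Steps.nil)))))) (nat_lit 67) (nat_lit 2),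
  Rule.mk (nat_lit 2) (nat_lit 286) (Steps.bwd (nat_lit 10) (Steps.fwd (nat_lit 16384) (Steps.bwd (nat_lit 7) (Steps.bwd (nat_lit 10) (Steps.fwd (nat_lit 32768) (Steps.bwd (nat_lit 1) (Steps.bwd (nat_lit 4) (Steps.bwd (nat_lit 7) (Steps.fwd (nat_lit 90112) (Steps.bwd (nat_lit 7) (Steps.fwd (nat_lit 73728) (Steps.fwd (nat_lit 24576) (Steps.bwd (nat_lit 4) (Steps.bwd (nat_lit 2) (Steps.fwd (nat_lit 81920) (Steps.bwd (nat_lit 1) (Steps.bwd (nat_lit 10) Steps.nil))))))))))))))))) (nat_lit 57) (nat_lit 7),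
  Rule.mk (nat_lit 17) (nat_lit 142) (Steps.bwd (nat_lit 1) (Steps.bwd (nat_lit 10) (Steps.fwd (nat_lit 98304) (Steps.fwd (nat_lit 114688) (Steps.fwd (nat_lit 139264) (Steps.bwd (nat_lit 10) (Steps.bwd (nat_lit 16) (Steps.bwd (nat_lit 2) Steps.nil)))))))) (nat_lit 47) (nat_lit 8),
  Rule.mk (nat_lit 17) (nat_lit 110) (Steps.bwd (nat_lit 14) (Steps.bwd (nat_lit 4) (Steps.bwd (nat_lit 4) (Steps.fwd (nat_lit 73728) (Steps.bwd (nat_lit 16) (Steps.fwd (nat_lit 73728) Steps.nil)))))) (nat_lit 64) (nat_lit 4),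
  Rule.mk (nat_lit 11) (nat_lit 110) (Steps.bwd (nat_lit 14) (Steps.bwd (nat_lit 11) (Steps.bwd (nat_lit 9) (Steps.bwd (nat_lit 18) (Steps.bwd (nat_lit 9) (Steps.fwd (nat_lit 139264) Steps.nil)))))) (nat_lit 66) (nat_lit 5),
  Rule.mk (nat_lit 14) (nat_lit 126) (Steps.bwd (nat_lit 14) (Steps.bwd (nat_lit 17) (Steps.fwd (nat_lit 81920) (Steps.bwd (nat_lit 11) (Steps.fwd (nat_lit 24576) (Steps.fwd (nat_lit 122880) (Steps.fwd (nat_lit 32768) Steps.nil))))))) (nat_lit 52) (nat_lit 4),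
  Rule.mk (nat_lit 9) (nat_lit 158) (Steps.bwd (nat_lit 14) (Steps.bwd (nat_lit 9) (Steps.fwd (nat_lit 16384) (Steps.bwd (nat_lit 16) (Steps.fwd (nat_lit 90112) (Steps.fwd (nat_lit 98304) (Steps.bwd (nat_lit 2) (Steps.bwd (nat_lit 4) (Steps.fwd (nat_lit 24576) Steps.nil))))))))) (nat_lit 62) (nat_lit 1),
  Rule.mk (nat_lit 12) (nat_lit 78) (Steps.fwd (nat_lit 147456) (Steps.fwd (nat_lit 114688) (Steps.bwd (nat_lit 13) (Steps.bwd (nat_lit 14) Steps.nil)))) (nat_lit 37) (nat_lit 0),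
  Rule.mk (nat_lit 19) (nat_lit 94) (Steps.bwd (nat_lit 19) (Steps.fwd (nat_lit 114688) (Steps.bwd (nat_lit 11) (Steps.fwd (nat_lit 122880) (Steps.bwd (nat_lit 10) Steps.nil))))) (nat_lit 33) (nat_lit 1),
  Rule.mk (nat_lit 8) (nat_lit 94) (Steps.bwd (nat_lit 2) (Steps.bwd (nat_lit 7) (Steps.fwd (nat_lit 16384) (Steps.bwd (nat_lit 1) (Steps.fwd (nat_lit 16384) Steps.nil))))) (nat_lit 83) (nat_lit 4),
  Rule.mk (nat_lit 9) (nat_lit 110) (Steps.bwd (nat_lit 10) (Steps.bwd (nat_lit 15) (Steps.fwd (nat_lit 90112) (Steps.fwd (nat_lit 131072) (Steps.bwd (nat_lit 9) (Steps.bwd (nat_lit 19) Steps.nil)))))) (nat_lit 67) (nat_lit 0),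
  Rule.mk (nat_lit 17) (nat_lit 94) (Steps.bwd (nat_lit 11) (Steps.bwd (nat_lit 16) (Steps.bwd (nat_lit 10) (Steps.fwd (nat_lit 155648) (Steps.bwd (nat_lit 18) Steps.nil))))) (nat_lit 35) (nat_lit 3),
  Rule.mk (nat_lit 17) (nat_lit 110) (Steps.bwd (nat_lit 9) (Steps.fwd (nat_lit 24576) (Steps.fwd (nat_lit 73728) (Steps.bwd (nat_lit 10) (Steps.fwd (nat_lit 114688) (Steps.bwd (nat_lit 17) Steps.nil)))))) (nat_lit 71) (nat_lit 4),
  Rule.mk (nat_lit 1) (nat_lit 110) (Steps.bwd (nat_lit 17) (Steps.bwd (nat_lit 11) (Steps.bwd (nat_lit 14) (Steps.fwd (nat_lit 122880) (Steps.bwd (nat_lit 2) (Steps.fwd (nat_lit 122880) Steps.nil)))))) (nat_lit 44) (nat_lit 3),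
  Rule.mk (nat_lit 8) (nat_lit 94) (Steps.fwd (nat_lit 57344) (Steps.fwd (nat_lit 16384) (Steps.bwd (nat_lit 1) (Steps.fwd (nat_lit 16384) (Steps.bwd (nat_lit 1) Steps.nil))))) (nat_lit 79) (nat_lit 5),
  Rule.mk (nat_lit 1) (nat_lit 94) (Steps.fwd (nat_lit 57344) (Steps.bwd (nat_lit 8) (Steps.bwd (nat_lit 1) (Steps.fwd (nat_lit 16384) (Steps.bwd (nat_lit 1) Steps.nil))))) (nat_lit 79) (nat_lit 4),
  Rule.mk (nat_lit 1) (nat_lit 94) (Steps.bwd (nat_lit 1) (Steps.fwd (nat_lit 32768) (Steps.bwd (nat_lit 2) (Steps.bwd (nat_lit 2) (Steps.bwd (nat_lit 4) Steps.nil))))) (nat_lit 6) (nat_lit 4),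
  Rule.mk (nat_lit 16) (nat_lit 142) (Steps.bwd (nat_lit 1) (Steps.fwd (nat_lit 131072) (Steps.bwd (nat_lit 11) (Steps.bwd (nat_lit 17) (Steps.fwd (nat_lit 122880) (Steps.bwd (nat_lit 12) (Steps.bwd (nat_lit 11) (Steps.fwd (nat_lit 8192) Steps.nil)))))))) (nat_lit 46) (nat_lit 2),
  Rule.mk (nat_lit 9) (nat_lit 158) (Steps.bwd (nat_lit 1) (Steps.fwd (nat_lit 139264) (Steps.bwd (nat_lit 10) (Steps.fwd (nat_lit 98304) (Steps.fwd (nat_lit 8192) (Steps.bwd (nat_lit 4) (Steps.bwd (nat_lit 4) (Steps.bwd (nat_lit 9) (Steps.fwd (nat_lit 122880) Steps.nil))))))))) (nat_lit 62) (nat_lit 3),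
  Rule.mk (nat_lit 3) (nat_lit 158) (Steps.bwd (nat_lit 1) (Steps.bwd (nat_lit 12) (Steps.fwd (nat_lit 81920) (Steps.bwd (nat_lit 17) (Steps.bwd (nat_lit 2) (Steps.fwd (nat_lit 73728) (Steps.bwd (nat_lit 15) (Steps.fwd (nat_lit 73728) (Steps.fwd (nat_lit 32768) Steps.nil))))))))) (nat_lit 63) (nat_lit 2),
  Rule.mk (nat_lit 11) (nat_lit 110) (Steps.bwd (nat_lit 9) (Steps.fwd (nat_lit 81920) (Steps.bwd (nat_lit 9) (Steps.fwd (nat_lit 32768) (Steps.fwd (nat_lit 122880) (Steps.bwd (nat_lit 3) Steps.nil)))))) (nat_lit 61) (nat_lit 4),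
  Rule.mk (nat_lit 10) (nat_lit 126) (Steps.bwd (nat_lit 10) (Steps.fwd (nat_lit 139264) (Steps.fwd (nat_lit 114688) (Steps.bwd (nat_lit 15) (Steps.fwd (nat_lit 24576) (Steps.bwd (nat_lit 15) (Steps.bwd (nat_lit 3) Steps.nil))))))) (nat_lit 53) (nat_lit 1),
  Rule.mk (nat_lit 18) (nat_lit 126) (Steps.bwd (nat_lit 2) (Steps.fwd (nat_lit 8192) (Steps.fwd (nat_lit 65536) (Steps.fwd (nat_lit 155648) (Steps.fwd (nat_lit 65536) (Steps.fwd (nat_lit 147456) (Steps.bwd (nat_lit 7) Steps.nil))))))) (nat_lit 86) (nat_lit 6),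
  Rule.mk (nat_lit 12) (nat_lit 270) (Steps.bwd (nat_lit 2) (Steps.fwd (nat_lit 73728) (Steps.bwd (nat_lit 2) (Steps.fwd (nat_lit 73728) (Steps.bwd (nat_lit 2) (Steps.bwd (nat_lit 18) (Steps.fwd (nat_lit 139264) (Steps.fwd (nat_lit 90112) (Steps.bwd (nat_lit 3) (Steps.bwd (nat_lit 1) (Steps.fwd (nat_lit 24576) (Steps.bwd (nat_lit 4) (Steps.bwd (nat_lit 2) (Steps.fwd (nat_lit 65536) (Steps.fwd (nat_lit 73728) (Steps.bwd (nat_lit 4) Steps.nil)))))))))))))))) (nat_lit 76) (nat_lit 4),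
  Rule.mk (nat_lit 7) (nat_lit 126) (Steps.fwd (nat_lit 147456) (Steps.bwd (nat_lit 7) (Steps.bwd (nat_lit 18) (Steps.bwd (nat_lit 2) (Steps.bwd (nat_lit 2) (Steps.bwd (nat_lit 7) (Steps.bwd (nat_lit 18) Steps.nil))))))) (nat_lit 86) (nat_lit 3),
  Rule.mk (nat_lit 14) (nat_lit 110) (Steps.bwd (nat_lit 14) (Steps.fwd (nat_lit 8192) (Steps.bwd (nat_lit 14) (Steps.fwd (nat_lit 16384) (Steps.bwd (nat_lit 17) (Steps.fwd (nat_lit 81920) Steps.nil)))))) (nat_lit 44) (nat_lit 6),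
  Rule.mk (nat_lit 9) (nat_lit 158) (Steps.bwd (nat_lit 14) (Steps.bwd (nat_lit 9) (Steps.bwd (nat_lit 1) (Steps.fwd (nat_lit 139264) (Steps.fwd (nat_lit 90112) (Steps.fwd (nat_lit 98304) (Steps.bwd (nat_lit 2) (Steps.bwd (nat_lit 4) (Steps.fwd (nat_lit 24576) Steps.nil))))))))) (nat_lit 62) (nat_lit 1),
  Rule.mk (nat_lit 13) (nat_lit 190) (Steps.bwd (nat_lit 9) (Steps.fwd (nat_lit 106496) (Steps.fwd (nat_lit 73728) (Steps.bwd (nat_lit 13) (Steps.bwd (nat_lit 9) (Steps.bwd (nat_lit 2) (Steps.fwd (nat_lit 8192) (Steps.fwd (nat_lit 8192) (Steps.fwd (nat_lit 114688) (Steps.bwd (nat_lit 2) (Steps.fwd (nat_lit 139264) Steps.nil))))))))))) (nat_lit 75) (nat_lit 7),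
  Rule.mk (nat_lit 13) (nat_lit 126) (Steps.bwd (nat_lit 3) (Steps.bwd (nat_lit 12) (Steps.bwd (nat_lit 14) (Steps.bwd (nat_lit 17) (Steps.fwd (nat_lit 81920) (Steps.fwd (nat_lit 131072) (Steps.bwd (nat_lit 4) Steps.nil))))))) (nat_lit 51) (nat_lit 7),
  Rule.mk (nat_lit 1) (nat_lit 126) (Steps.fwd (nat_lit 32768) (Steps.fwd (nat_lit 16384) (Steps.fwd (nat_lit 32768) (Steps.fwd (nat_lit 16384) (Steps.bwd (nat_lit 3) (Steps.bwd (nat_lit 1) (Steps.bwd (nat_lit 3) Steps.nil))))))) (nat_lit 4) (nat_lit 1),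
  Rule.mk (nat_lit 12) (nat_lit 126) (Steps.fwd (nat_lit 32768) (Steps.fwd (nat_lit 139264) (Steps.fwd (nat_lit 90112) (Steps.fwd (nat_lit 139264) (Steps.bwd (nat_lit 15) (Steps.fwd (nat_lit 98304) (Steps.bwd (nat_lit 4) Steps.nil))))))) (nat_lit 50) (nat_lit 2)]
noncomputable def R_71 : List (Rule) := [Rule.mk (nat_lit 19) (nat_lit 126) (Steps.bwd (nat_lit 7) (Steps.bwd (nat_lit 18) (Steps.fwd (nat_lit 8192) (Steps.fwd (nat_lit 8192) (Steps.bwd (nat_lit 7) (Steps.bwd (nat_lit 18) (Steps.fwd (nat_lit 65536) Steps.nil))))))) (nat_lit 86) (nat_lit 4),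
  Rule.mk (nat_lit 3) (nat_lit 126) (Steps.bwd (nat_lit 12) (Steps.fwd (nat_lit 122880) (Steps.bwd (nat_lit 17) (Steps.bwd (nat_lit 11) (Steps.bwd (nat_lit 17) (Steps.bwd (nat_lit 4) (Steps.bwd (nat_lit 13) Steps.nil))))))) (nat_lit 51) (nat_lit 0),
  Rule.mk (nat_lit 9) (nat_lit 206) (Steps.bwd (nat_lit 1) (Steps.bwd (nat_lit 3) (Steps.bwd (nat_lit 3) (Steps.bwd (nat_lit 1) (Steps.bwd (nat_lit 4) (Steps.fwd (nat_lit 16384) (Steps.bwd (nat_lit 10) (Steps.fwd (nat_lit 155648) (Steps.bwd (nat_lit 17) (Steps.fwd (nat_lit 73728) (Steps.bwd (nat_lit 2) (Steps.bwd (nat_lit 2) Steps.nil)))))))))))) (nat_lit 69) (nat_lit 0),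
  Rule.mk (nat_lit 14) (nat_lit 110) (Steps.bwd (nat_lit 2) (Steps.bwd (nat_lit 14) (Steps.bwd (nat_lit 1) (Steps.bwd (nat_lit 17) (Steps.fwd (nat_lit 81920) (Steps.fwd (nat_lit 122880) Steps.nil)))))) (nat_lit 44) (nat_lit 0),
  Rule.mk (nat_lit 11) (nat_lit 110) (Steps.bwd (nat_lit 9) (Steps.fwd (nat_lit 155648) (Steps.bwd (nat_lit 9) (Steps.fwd (nat_lit 139264) (Steps.fwd (nat_lit 81920) (Steps.bwd (nat_lit 14) Steps.nil)))))) (nat_lit 66) (nat_lit 0),
  Rule.mk (nat_lit 17) (nat_lit 142) (Steps.fwd (nat_lit 16384) (Steps.bwd (nat_lit 10) (Steps.bwd (nat_lit 13) (Steps.bwd (nat_lit 15) (Steps.fwd (nat_lit 139264) (Steps.bwd (nat_lit 10) (Steps.fwd (nat_lit 139264) (Steps.bwd (nat_lit 2) Steps.nil)))))))) (nat_lit 47) (nat_lit 8),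
  Rule.mk (nat_lit 9) (nat_lit 190) (Steps.bwd (nat_lit 12) (Steps.bwd (nat_lit 17) (Steps.fwd (nat_lit 16384) (Steps.fwd (nat_lit 122880) (Steps.fwd (nat_lit 16384) (Steps.fwd (nat_lit 16384) (Steps.bwd (nat_lit 1) (Steps.bwd (nat_lit 9) (Steps.fwd (nat_lit 106496) (Steps.fwd (nat_lit 73728) (Steps.bwd (nat_lit 13) Steps.nil))))))))))) (nat_lit 74) (nat_lit 5),
  Rule.mk (nat_lit 18) (nat_lit 126) (Steps.bwd (nat_lit 2) (Steps.bwd (nat_lit 2) (Steps.fwd (nat_lit 65536) (Steps.fwd (nat_lit 155648) (Steps.fwd (nat_lit 65536) (Steps.fwd (nat_lit 147456) (Steps.fwd (nat_lit 65536) Steps.nil))))))) (nat_lit 86) (nat_lit 6),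
  Rule.mk (nat_lit 16) (nat_lit 110) (Steps.fwd (nat_lit 8192) (Steps.fwd (nat_lit 114688) (Steps.fwd (nat_lit 16384) (Steps.fwd (nat_lit 114688) (Steps.fwd (nat_lit 114688) (Steps.bwd (nat_lit 10) Steps.nil)))))) (nat_lit 45) (nat_lit 4),
  Rule.mk (nat_lit 15) (nat_lit 110) (Steps.bwd (nat_lit 4) (Steps.fwd (nat_lit 73728) (Steps.fwd (nat_lit 90112) (Steps.bwd (nat_lit 9) (Steps.fwd (nat_lit 90112) (Steps.bwd (nat_lit 4) Steps.nil)))))) (nat_lit 60) (nat_lit 6),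
  Rule.mk (nat_lit 11) (nat_lit 110) (Steps.bwd (nat_lit 14) (Steps.bwd (nat_lit 14) (Steps.fwd (nat_lit 8192) (Steps.fwd (nat_lit 122880) (Steps.bwd (nat_lit 1) (Steps.bwd (nat_lit 17) Steps.nil)))))) (nat_lit 44) (nat_lit 5),
  Rule.mk (nat_lit 1) (nat_lit 94) (Steps.bwd (nat_lit 7) (Steps.fwd (nat_lit 8192) (Steps.fwd (nat_lit 8192) (Steps.fwd (nat_lit 8192) (Steps.fwd (nat_lit 57344) Steps.nil))))) (nat_lit 82) (nat_lit 2),
  Rule.mk (nat_lit 19) (nat_lit 126) (Steps.bwd (nat_lit 7) (Steps.fwd (nat_lit 155648) (Steps.fwd (nat_lit 8192) (Steps.fwd (nat_lit 8192) (Steps.fwd (nat_lit 65536) (Steps.fwd (nat_lit 155648) (Steps.bwd (nat_lit 7) Steps.nil))))))) (nat_lit 86) (nat_lit 4),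
  Rule.mk (nat_lit 16) (nat_lit 110) (Steps.bwd (nat_lit 9) (Steps.fwd (nat_lit 131072) (Steps.bwd (nat_lit 14) (Steps.bwd (nat_lit 4) (Steps.fwd (nat_lit 24576) (Steps.fwd (nat_lit 73728) Steps.nil)))))) (nat_lit 64) (nat_lit 2),
  Rule.mk (nat_lit 19) (nat_lit 126) (Steps.bwd (nat_lit 8) (Steps.fwd (nat_lit 16384) (Steps.fwd (nat_lit 16384) (Steps.bwd (nat_lit 19) (Steps.bwd (nat_lit 8) (Steps.fwd (nat_lit 155648) (Steps.fwd (nat_lit 57344) Steps.nil))))))) (nat_lit 87) (nat_lit 7),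
  Rule.mk (nat_lit 18) (nat_lit 126) (Steps.bwd (nat_lit 8) (Steps.fwd (nat_lit 147456) (Steps.fwd (nat_lit 57344) (Steps.fwd (nat_lit 16384) (Steps.fwd (nat_lit 16384) (Steps.fwd (nat_lit 147456) (Steps.fwd (nat_lit 57344) Steps.nil))))))) (nat_lit 87) (nat_lit 5),
  Rule.mk (nat_lit 9) (nat_lit 286) (Steps.bwd (nat_lit 8) (Steps.bwd (nat_lit 11) (Steps.fwd (nat_lit 57344) (Steps.fwd (nat_lit 32768) (Steps.fwd (nat_lit 8192) (Steps.bwd (nat_lit 4) (Steps.fwd (nat_lit 81920) (Steps.fwd (nat_lit 57344) (Steps.fwd (nat_lit 8192) (Steps.bwd (nat_lit 11) (Steps.fwd (nat_lit 16384) (Steps.bwd (nat_lit 11) (Steps.fwd (nat_lit 8192) (Steps.bwd (nat_lit 10) (Steps.fwd (nat_lit 16384) (Steps.fwd (nat_lit 32768) (Steps.bwd (nat_lit 3) Steps.nil))))))))))))))))) (nat_lit 56) (nat_lit 1),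
  Rule.mk (nat_lit 8) (nat_lit 286) (Steps.fwd (nat_lit 81920) (Steps.bwd (nat_lit 8) (Steps.fwd (nat_lit 32768) (Steps.bwd (nat_lit 2) (Steps.fwd (nat_lit 24576) (Steps.bwd (nat_lit 11) (Steps.fwd (nat_lit 57344) (Steps.fwd (nat_lit 8192) (Steps.bwd (nat_lit 11) (Steps.fwd (nat_lit 16384) (Steps.fwd (nat_lit 81920) (Steps.fwd (nat_lit 8192) (Steps.bwd (nat_lit 10) (Steps.fwd (nat_lit 16384) (Steps.bwd (nat_lit 3) (Steps.bwd (nat_lit 3) (Steps.fwd (nat_lit 73728) Steps.nil))))))))))))))))) (nat_lit 56) (nat_lit 2),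
  Rule.mk (nat_lit 10) (nat_lit 158) (Steps.bwd (nat_lit 13) (Steps.fwd (nat_lit 8192) (Steps.fwd (nat_lit 24576) (Steps.bwd (nat_lit 4) (Steps.bwd (nat_lit 9) (Steps.fwd (nat_lit 122880) (Steps.bwd (nat_lit 9) (Steps.fwd (nat_lit 16384) (Steps.bwd (nat_lit 16) Steps.nil))))))))) (nat_lit 62) (nat_lit 6),
  Rule.mk (nat_lit 9) (nat_lit 190) (Steps.bwd (nat_lit 13) (Steps.bwd (nat_lit 9) (Steps.fwd (nat_lit 8192) (Steps.bwd (nat_lit 2) (Steps.bwd (nat_lit 2) (Steps.fwd (nat_lit 114688) (Steps.bwd (nat_lit 2) (Steps.bwd (nat_lit 16) (Steps.fwd (nat_lit 98304) (Steps.fwd (nat_lit 73728) (Steps.bwd (nat_lit 12) Steps.nil))))))))))) (nat_lit 75) (nat_lit 10),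
  Rule.mk (nat_lit 3) (nat_lit 110) (Steps.fwd (nat_lit 32768) (Steps.fwd (nat_lit 114688) (Steps.bwd (nat_lit 16) (Steps.fwd (nat_lit 73728) (Steps.fwd (nat_lit 131072) (Steps.bwd (nat_lit 9) Steps.nil)))))) (nat_lit 65) (nat_lit 1),
  Rule.mk (nat_lit 7) (nat_lit 286) (Steps.fwd (nat_lit 73728) (Steps.fwd (nat_lit 24576) (Steps.bwd (nat_lit 4) (Steps.fwd (nat_lit 8192) (Steps.bwd (nat_lit 11) (Steps.bwd (nat_lit 1) (Steps.bwd (nat_lit 10) (Steps.bwd (nat_lit 2) (Steps.fwd (nat_lit 90112) (Steps.fwd (nat_lit 16384) (Steps.bwd (nat_lit 7) (Steps.bwd (nat_lit 10) (Steps.bwd (nat_lit 3) (Steps.fwd (nat_lit 16384) (Steps.bwd (nat_lit 4) (Steps.bwd (nat_lit 7) (Steps.bwd (nat_lit 10) Steps.nil))))))))))))))))) (nat_lit 57) (nat_lit 17),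
  Rule.mk (nat_lit 17) (nat_lit 158) (Steps.bwd (nat_lit 2) (Steps.bwd (nat_lit 9) (Steps.fwd (nat_lit 114688) (Steps.fwd (nat_lit 73728) (Steps.bwd (nat_lit 3) (Steps.bwd (nat_lit 3) (Steps.bwd (nat_lit 1) (Steps.bwd (nat_lit 12) (Steps.bwd (nat_lit 11) Steps.nil))))))))) (nat_lit 63) (nat_lit 6),
  Rule.mk (nat_lit 3) (nat_lit 94) (Steps.bwd (nat_lit 2) (Steps.fwd (nat_lit 8192) (Steps.fwd (nat_lit 24576) (Steps.bwd (nat_lit 1) (Steps.bwd (nat_lit 1) Steps.nil))))) (nat_lit 6) (nat_lit 0),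
  Rule.mk (nat_lit 2) (nat_lit 270) (Steps.bwd (nat_lit 9) (Steps.bwd (nat_lit 2) (Steps.bwd (nat_lit 9) (Steps.fwd (nat_lit 8192) (Steps.bwd (nat_lit 18) (Steps.fwd (nat_lit 139264) (Steps.fwd (nat_lit 90112) (Steps.fwd (nat_lit 32768) (Steps.bwd (nat_lit 1) (Steps.bwd (nat_lit 4) (Steps.fwd (nat_lit 24576) (Steps.fwd (nat_lit 8192) (Steps.bwd (nat_lit 7) (Steps.bwd (nat_lit 9) (Steps.bwd (nat_lit 4) (Steps.fwd (nat_lit 106496) Steps.nil)))))))))))))))) (nat_lit 76) (nat_lit 5),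
  Rule.mk (nat_lit 16) (nat_lit 78) (Steps.fwd (nat_lit 155648) (Steps.bwd (nat_lit 15) (Steps.bwd (nat_lit 17) (Steps.fwd (nat_lit 122880) Steps.nil)))) (nat_lit 40) (nat_lit 4),
  Rule.mk (nat_lit 19) (nat_lit 126) (Steps.bwd (nat_lit 8) (Steps.bwd (nat_lit 1) (Steps.bwd (nat_lit 1) (Steps.fwd (nat_lit 147456) (Steps.fwd (nat_lit 57344) (Steps.bwd (nat_lit 18) (Steps.bwd (nat_lit 8) Steps.nil))))))) (nat_lit 87) (nat_lit 7),
  Rule.mk (nat_lit 9) (nat_lit 158) (Steps.bwd (nat_lit 15) (Steps.fwd (nat_lit 73728) (Steps.bwd (nat_lit 3) (Steps.bwd (nat_lit 3) (Steps.fwd (nat_lit 16384) (Steps.bwd (nat_lit 12) (Steps.bwd (nat_lit 11) (Steps.fwd (nat_lit 131072) (Steps.fwd (nat_lit 8192) Steps.nil))))))))) (nat_lit 63) (nat_lit 8),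
  Rule.mk (nat_lit 18) (nat_lit 110) (Steps.bwd (nat_lit 9) (Steps.bwd (nat_lit 16) (Steps.bwd (nat_lit 11) (Steps.fwd (nat_lit 122880) (Steps.fwd (nat_lit 81920) (Steps.fwd (nat_lit 73728) Steps.nil)))))) (nat_lit 66) (nat_lit 2),
  Rule.mk (nat_lit 17) (nat_lit 110) (Steps.bwd (nat_lit 9) (Steps.bwd (nat_lit 19) (Steps.bwd (nat_lit 9) (Steps.bwd (nat_lit 10) (Steps.bwd (nat_lit 15) (Steps.fwd (nat_lit 90112) Steps.nil)))))) (nat_lit 67) (nat_lit 4),
  Rule.mk (nat_lit 12) (nat_lit 190) (Steps.bwd (nat_lit 9) (Steps.fwd (nat_lit 98304) (Steps.fwd (nat_lit 73728) (Steps.fwd (nat_lit 106496) (Steps.bwd (nat_lit 17) (Steps.bwd (nat_lit 1) (Steps.fwd (nat_lit 122880) (Steps.fwd (nat_lit 16384) (Steps.fwd (nat_lit 16384) (Steps.bwd (nat_lit 1) (Steps.bwd (nat_lit 9) Steps.nil))))))))))) (nat_lit 74) (nat_lit 2),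
  Rule.mk (nat_lit 1) (nat_lit 206) (Steps.bwd (nat_lit 9) (Steps.bwd (nat_lit 16) (Steps.fwd (nat_lit 147456) (Steps.bwd (nat_lit 11) (Steps.fwd (nat_lit 8192) (Steps.fwd (nat_lit 8192) (Steps.bwd (nat_lit 9) (Steps.fwd (nat_lit 16384) (Steps.fwd (nat_lit 32768) (Steps.bwd (nat_lit 3) (Steps.bwd (nat_lit 1) (Steps.fwd (nat_lit 24576) Steps.nil)))))))))))) (nat_lit 72) (nat_lit 7),
  Rule.mk (nat_lit 14) (nat_lit 158) (Steps.fwd (nat_lit 73728) (Steps.bwd (nat_lit 1) (Steps.bwd (nat_lit 16) (Steps.bwd (nat_lit 10) (Steps.fwd (nat_lit 98304) (Steps.fwd (nat_lit 8192) (Steps.bwd (nat_lit 4) (Steps.fwd (nat_lit 24576) (Steps.bwd (nat_lit 9) Steps.nil))))))))) (nat_lit 62) (nat_lit 2),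
  Rule.mk (nat_lit 13) (nat_lit 190) (Steps.fwd (nat_lit 73728) (Steps.fwd (nat_lit 8192) (Steps.fwd (nat_lit 8192) (Steps.bwd (nat_lit 2) (Steps.bwd (nat_lit 15) (Steps.bwd (nat_lit 2) (Steps.fwd (nat_lit 139264) (Steps.bwd (nat_lit 13) (Steps.fwd (nat_lit 73728) (Steps.fwd (nat_lit 106496) (Steps.bwd (nat_lit 9) Steps.nil))))))))))) (nat_lit 75) (nat_lit 11),
  Rule.mk (nat_lit 9) (nat_lit 190) (Steps.bwd (nat_lit 13) (Steps.fwd (nat_lit 73728) (Steps.bwd (nat_lit 2) (Steps.fwd (nat_lit 8192) (Steps.bwd (nat_lit 2) (Steps.fwd (nat_lit 114688) (Steps.fwd (nat_lit 8192) (Steps.bwd (nat_lit 16) (Steps.bwd (nat_lit 13) (Steps.fwd (nat_lit 73728) (Steps.fwd (nat_lit 106496) Steps.nil))))))))))) (nat_lit 75) (nat_lit 10),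
  Rule.mk (nat_lit 4) (nat_lit 94) (Steps.bwd (nat_lit 1) (Steps.fwd (nat_lit 16384) (Steps.fwd (nat_lit 32768) (Steps.bwd (nat_lit 2) (Steps.fwd (nat_lit 8192) Steps.nil))))) (nat_lit 6) (nat_lit 3),
  Rule.mk (nat_lit 8) (nat_lit 94) (Steps.bwd (nat_lit 1) (Steps.fwd (nat_lit 65536) (Steps.fwd (nat_lit 8192) (Steps.bwd (nat_lit 2) (Steps.fwd (nat_lit 8192) Steps.nil))))) (nat_lit 82) (nat_lit 1),
  Rule.mk (nat_lit 17) (nat_lit 142) (Steps.bwd (nat_lit 1) (Steps.fwd (nat_lit 90112) (Steps.fwd (nat_lit 98304) (Steps.bwd (nat_lit 15) (Steps.bwd (nat_lit 16) (Steps.fwd (nat_lit 90112) (Steps.fwd (nat_lit 139264) (Steps.fwd (nat_lit 8192) Steps.nil)))))))) (nat_lit 47) (nat_lit 8),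
  Rule.mk (nat_lit 9) (nat_lit 270) (Steps.bwd (nat_lit 1) (Steps.bwd (nat_lit 13) (Steps.fwd (nat_lit 32768) (Steps.bwd (nat_lit 9) (Steps.bwd (nat_lit 8) (Steps.fwd (nat_lit 16384) (Steps.fwd (nat_lit 32768) (Steps.fwd (nat_lit 32768) (Steps.fwd (nat_lit 8192) (Steps.fwd (nat_lit 24576) (Steps.bwd (nat_lit 11) (Steps.fwd (nat_lit 131072) (Steps.bwd (nat_lit 19) (Steps.fwd (nat_lit 16384) (Steps.bwd (nat_lit 9) (Steps.bwd (nat_lit 1) Steps.nil)))))))))))))))) (nat_lit 77) (nat_lit 12),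
  Rule.mk (nat_lit 17) (nat_lit 110) (Steps.bwd (nat_lit 9) (Steps.bwd (nat_lit 4) (Steps.bwd (nat_lit 9) (Steps.bwd (nat_lit 10) (Steps.bwd (nat_lit 15) (Steps.bwd (nat_lit 17) Steps.nil)))))) (nat_lit 71) (nat_lit 4),
  Rule.mk (nat_lit 10) (nat_lit 110) (Steps.bwd (nat_lit 9) (Steps.fwd (nat_lit 90112) (Steps.bwd (nat_lit 4) (Steps.bwd (nat_lit 15) (Steps.fwd (nat_lit 24576) (Steps.fwd (nat_lit 73728) Steps.nil)))))) (nat_lit 60) (nat_lit 2),
  Rule.mk (nat_lit 14) (nat_lit 158) (Steps.bwd (nat_lit 9) (Steps.bwd (nat_lit 1) (Steps.fwd (nat_lit 139264) (Steps.fwd (nat_lit 90112) (Steps.bwd (nat_lit 13) (Steps.bwd (nat_lit 2) (Steps.fwd (nat_lit 24576) (Steps.bwd (nat_lit 4) (Steps.fwd (nat_lit 73728) Steps.nil))))))))) (nat_lit 62) (nat_lit 2),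
  Rule.mk (nat_lit 2) (nat_lit 206) (Steps.bwd (nat_lit 9) (Steps.bwd (nat_lit 1) (Steps.fwd (nat_lit 16384) (Steps.bwd (nat_lit 9) (Steps.bwd (nat_lit 16) (Steps.bwd (nat_lit 19) (Steps.fwd (nat_lit 81920) (Steps.bwd (nat_lit 2) (Steps.fwd (nat_lit 32768) (Steps.fwd (nat_lit 8192) (Steps.bwd (nat_lit 4) (Steps.bwd (nat_lit 4) Steps.nil)))))))))))) (nat_lit 68) (nat_lit 0),
  Rule.mk (nat_lit 14) (nat_lit 126) (Steps.bwd (nat_lit 3) (Steps.fwd (nat_lit 122880) (Steps.fwd (nat_lit 122880) (Steps.fwd (nat_lit 131072) (Steps.fwd (nat_lit 81920) (Steps.bwd (nat_lit 11) (Steps.bwd (nat_lit 4) Steps.nil))))))) (nat_lit 52) (nat_lit 2),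
  Rule.mk (nat_lit 3) (nat_lit 270) (Steps.bwd (nat_lit 1) (Steps.bwd (nat_lit 4) (Steps.bwd (nat_lit 4) (Steps.bwd (nat_lit 2) (Steps.bwd (nat_lit 7) (Steps.fwd (nat_lit 73728) (Steps.bwd (nat_lit 4) (Steps.bwd (nat_lit 12) (Steps.fwd (nat_lit 8192) (Steps.fwd (nat_lit 73728) (Steps.bwd (nat_lit 2) (Steps.fwd (nat_lit 73728) (Steps.fwd (nat_lit 8192) (Steps.fwd (nat_lit 155648) (Steps.bwd (nat_lit 16) (Steps.bwd (nat_lit 10) Steps.nil)))))))))))))))) (nat_lit 76) (nat_lit 13),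
  Rule.mk (nat_lit 17) (nat_lit 126) (Steps.bwd (nat_lit 4) (Steps.bwd (nat_lit 13) (Steps.bwd (nat_lit 3) (Steps.fwd (nat_lit 106496) (Steps.bwd (nat_lit 14) (Steps.fwd (nat_lit 131072) (Steps.bwd (nat_lit 11) Steps.nil))))))) (nat_lit 51) (nat_lit 5),
  Rule.mk (nat_lit 1) (nat_lit 206) (Steps.bwd (nat_lit 4) (Steps.bwd (nat_lit 1) (Steps.bwd (nat_lit 10) (Steps.bwd (nat_lit 18) (Steps.bwd (nat_lit 17) (Steps.bwd (nat_lit 9) (Steps.bwd (nat_lit 2) (Steps.bwd (nat_lit 2) (Steps.bwd (nat_lit 9) (Steps.fwd (nat_lit 16384) (Steps.fwd (nat_lit 32768) (Steps.bwd (nat_lit 3) Steps.nil)))))))))))) (nat_lit 69) (nat_lit 4),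
  Rule.mk (nat_lit 10) (nat_lit 78) (Steps.bwd (nat_lit 10) (Steps.bwd (nat_lit 2) (Steps.bwd (nat_lit 12) (Steps.bwd (nat_lit 1) Steps.nil)))) (nat_lit 42) (nat_lit 4),
  Rule.mk (nat_lit 2) (nat_lit 142) (Steps.bwd (nat_lit 16) (Steps.fwd (nat_lit 16384) (Steps.fwd (nat_lit 131072) (Steps.fwd (nat_lit 81920) (Steps.bwd (nat_lit 17) (Steps.bwd (nat_lit 14) (Steps.bwd (nat_lit 12) (Steps.fwd (nat_lit 81920) Steps.nil)))))))) (nat_lit 46) (nat_lit 1),
  Rule.mk (nat_lit 19) (nat_lit 78) (Steps.fwd (nat_lit 16384) (Steps.bwd (nat_lit 18) (Steps.bwd (nat_lit 18) (Steps.bwd (nat_lit 2) Steps.nil)))) (nat_lit 49) (nat_lit 4),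
  Rule.mk (nat_lit 9) (nat_lit 110) (Steps.fwd (nat_lit 32768) (Steps.bwd (nat_lit 3) (Steps.fwd (nat_lit 114688) (Steps.fwd (nat_lit 139264) (Steps.bwd (nat_lit 9) (Steps.fwd (nat_lit 131072) Steps.nil)))))) (nat_lit 65) (nat_lit 0),
  Rule.mk (nat_lit 12) (nat_lit 158) (Steps.bwd (nat_lit 11) (Steps.bwd (nat_lit 17) (Steps.fwd (nat_lit 8192) (Steps.bwd (nat_lit 9) (Steps.fwd (nat_lit 114688) (Steps.bwd (nat_lit 9) (Steps.bwd (nat_lit 3) (Steps.fwd (nat_lit 32768) (Steps.fwd (nat_lit 16384) Steps.nil))))))))) (nat_lit 63) (nat_lit 4),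
  Rule.mk (nat_lit 15) (nat_lit 110) (Steps.fwd (nat_lit 131072) (Steps.fwd (nat_lit 131072) (Steps.bwd (nat_lit 9) (Steps.fwd (nat_lit 24576) (Steps.bwd (nat_lit 9) (Steps.bwd (nat_lit 10) Steps.nil)))))) (nat_lit 71) (nat_lit 2),
  Rule.mk (nat_lit 14) (nat_lit 158) (Steps.bwd (nat_lit 9) (Steps.fwd (nat_lit 16384) (Steps.bwd (nat_lit 16) (Steps.fwd (nat_lit 90112) (Steps.fwd (nat_lit 98304) (Steps.bwd (nat_lit 2) (Steps.bwd (nat_lit 4) (Steps.bwd (nat_lit 4) (Steps.fwd (nat_lit 73728) Steps.nil))))))))) (nat_lit 62) (nat_lit 2),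
  Rule.mk (nat_lit 2) (nat_lit 110) (Steps.bwd (nat_lit 14) (Steps.bwd (nat_lit 1) (Steps.bwd (nat_lit 17) (Steps.bwd (nat_lit 11) (Steps.fwd (nat_lit 122880) (Steps.bwd (nat_lit 14) Steps.nil)))))) (nat_lit 44) (nat_lit 1),
  Rule.mk (nat_lit 8) (nat_lit 126) (Steps.bwd (nat_lit 1) (Steps.fwd (nat_lit 16384) (Steps.bwd (nat_lit 19) (Steps.fwd (nat_lit 57344) (Steps.bwd (nat_lit 18) (Steps.fwd (nat_lit 57344) (Steps.bwd (nat_lit 19) Steps.nil))))))) (nat_lit 87) (nat_lit 0),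
  Rule.mk (nat_lit 17) (nat_lit 142) (Steps.bwd (nat_lit 1) (Steps.fwd (nat_lit 90112) (Steps.bwd (nat_lit 13) (Steps.bwd (nat_lit 15) (Steps.fwd (nat_lit 139264) (Steps.bwd (nat_lit 10) (Steps.bwd (nat_lit 16) (Steps.bwd (nat_lit 2) Steps.nil)))))))) (nat_lit 47) (nat_lit 8),
  Rule.mk (nat_lit 9) (nat_lit 158) (Steps.bwd (nat_lit 1) (Steps.bwd (nat_lit 16) (Steps.fwd (nat_lit 90112) (Steps.bwd (nat_lit 13) (Steps.bwd (nat_lit 2) (Steps.bwd (nat_lit 4) (Steps.fwd (nat_lit 24576) (Steps.fwd (nat_lit 73728) (Steps.bwd (nat_lit 14) Steps.nil))))))))) (nat_lit 62) (nat_lit 3),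
  Rule.mk (nat_lit 10) (nat_lit 110) (Steps.fwd (nat_lit 73728) (Steps.bwd (nat_lit 10) (Steps.fwd (nat_lit 24576) (Steps.fwd (nat_lit 114688) (Steps.bwd (nat_lit 4) (Steps.bwd (nat_lit 9) Steps.nil)))))) (nat_lit 60) (nat_lit 2),
  Rule.mk (nat_lit 11) (nat_lit 110) (Steps.fwd (nat_lit 73728) (Steps.fwd (nat_lit 32768) (Steps.bwd (nat_lit 14) (Steps.fwd (nat_lit 32768) (Steps.fwd (nat_lit 81920) (Steps.bwd (nat_lit 9) Steps.nil)))))) (nat_lit 61) (nat_lit 6),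
  Rule.mk (nat_lit 15) (nat_lit 158) (Steps.bwd (nat_lit 9) (Steps.bwd (nat_lit 3) (Steps.fwd (nat_lit 32768) (Steps.bwd (nat_lit 1) (Steps.fwd (nat_lit 106496) (Steps.fwd (nat_lit 81920) (Steps.bwd (nat_lit 17) (Steps.fwd (nat_lit 8192) (Steps.bwd (nat_lit 9) Steps.nil))))))))) (nat_lit 63) (nat_lit 9),
  Rule.mk (nat_lit 8) (nat_lit 286) (Steps.bwd (nat_lit 11) (Steps.fwd (nat_lit 57344) (Steps.fwd (nat_lit 32768) (Steps.fwd (nat_lit 8192) (Steps.fwd (nat_lit 24576) (Steps.fwd (nat_lit 81920) (Steps.fwd (nat_lit 57344) (Steps.fwd (nat_lit 8192) (Steps.fwd (nat_lit 81920) (Steps.bwd (nat_lit 1) (Steps.fwd (nat_lit 81920) (Steps.bwd (nat_lit 2) (Steps.fwd (nat_lit 90112) (Steps.fwd (nat_lit 16384) (Steps.fwd (nat_lit 32768) (Steps.fwd (nat_lit 32768) (Steps.bwd (nat_lit 9) Steps.nil))))))))))))))))) (nat_lit 56) (nat_lit 2),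
  Rule.mk (nat_lit 15) (nat_lit 94) (Steps.bwd (nat_lit 11) (Steps.bwd (nat_lit 14) (Steps.fwd (nat_lit 90112) (Steps.bwd (nat_lit 19) (Steps.fwd (nat_lit 147456) Steps.nil))))) (nat_lit 33) (nat_lit 3),
  Rule.mk (nat_lit 9) (nat_lit 110) (Steps.fwd (nat_lit 32768) (Steps.bwd (nat_lit 14) (Steps.fwd (nat_lit 32768) (Steps.fwd (nat_lit 81920) (Steps.fwd (nat_lit 73728) (Steps.bwd (nat_lit 11) Steps.nil)))))) (nat_lit 61) (nat_lit 0)]
noncomputable def R_72 : List (Rule) := [Rule.mk (nat_lit 7) (nat_lit 286) (Steps.bwd (nat_lit 9) (Steps.bwd (nat_lit 4) (Steps.bwd (nat_lit 4) (Steps.bwd (nat_lit 2) (Steps.bwd (nat_lit 11) (Steps.fwd (nat_lit 16384) (Steps.bwd (nat_lit 10) (Steps.bwd (nat_lit 2) (Steps.bwd (nat_lit 10) (Steps.bwd (nat_lit 1) (Steps.bwd (nat_lit 7) (Steps.bwd (nat_lit 10) (Steps.fwd (nat_lit 32768) (Steps.fwd (nat_lit 16384) (Steps.bwd (nat_lit 4) (Steps.fwd (nat_lit 65536) (Steps.fwd (nat_lit 90112)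 Steps.nil))))))))))))))))) (nat_lit 57) (nat_lit 17),
  Rule.mk (nat_lit 9) (nat_lit 158) (Steps.bwd (nat_lit 15) (Steps.fwd (nat_lit 73728) (Steps.bwd (nat_lit 3) (Steps.bwd (nat_lit 3) (Steps.fwd (nat_lit 16384) (Steps.fwd (nat_lit 106496) (Steps.bwd (nat_lit 11) (Steps.bwd (nat_lit 17) (Steps.bwd (nat_lit 2) Steps.nil))))))))) (nat_lit 63) (nat_lit 8),
  Rule.mk (nat_lit 14) (nat_lit 158) (Steps.bwd (nat_lit 9) (Steps.fwd (nat_lit 16384) (Steps.bwd (nat_lit 16) (Steps.fwd (nat_lit 90112) (Steps.bwd (nat_lit 13) (Steps.fwd (nat_lit 8192) (Steps.bwd (nat_lit 4) (Steps.bwd (nat_lit 4) (Steps.fwd (nat_lit 73728) Steps.nil))))))))) (nat_lit 62) (nat_lit 2),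
  Rule.mk (nat_lit 14) (nat_lit 110) (Steps.fwd (nat_lit 8192) (Steps.fwd (nat_lit 122880) (Steps.fwd (nat_lit 16384) (Steps.bwd (nat_lit 17) (Steps.bwd (nat_lit 11) (Steps.bwd (nat_lit 14) Steps.nil)))))) (nat_lit 44) (nat_lit 0),
  Rule.mk (nat_lit 12) (nat_lit 190) (Steps.bwd (nat_lit 9) (Steps.fwd (nat_lit 98304) (Steps.fwd (nat_lit 73728) (Steps.fwd (nat_lit 106496) (Steps.fwd (nat_lit 131072) (Steps.fwd (nat_lit 16384) (Steps.fwd (nat_lit 122880) (Steps.bwd (nat_lit 1) (Steps.bwd (nat_lit 1) (Steps.bwd (nat_lit 1) (Steps.fwd (nat_lit 73728) Steps.nil))))))))))) (nat_lit 74) (nat_lit 2),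
  Rule.mk (nat_lit 1) (nat_lit 206) (Steps.bwd (nat_lit 9) (Steps.fwd (nat_lit 139264) (Steps.fwd (nat_lit 147456) (Steps.bwd (nat_lit 11) (Steps.bwd (nat_lit 2) (Steps.fwd (nat_lit 32768) (Steps.fwd (nat_lit 8192) (Steps.bwd (nat_lit 4) (Steps.bwd (nat_lit 4) (Steps.bwd (nat_lit 2) (Steps.fwd (nat_lit 73728) (Steps.fwd (nat_lit 16384) Steps.nil)))))))))))) (nat_lit 68) (nat_lit 3),
  Rule.mk (nat_lit 12) (nat_lit 142) (Steps.fwd (nat_lit 81920) (Steps.fwd (nat_lit 8192) (Steps.fwd (nat_lit 139264) (Steps.bwd (nat_lit 1) (Steps.bwd (nat_lit 17) (Steps.fwd (nat_lit 81920) (Steps.bwd (nat_lit 17) (Steps.bwd (nat_lit 14) Steps.nil)))))))) (nat_lit 46) (nat_lit 8),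
  Rule.mk (nat_lit 8) (nat_lit 158) (Steps.bwd (nat_lit 19) (Steps.fwd (nat_lit 57344) (Steps.fwd (nat_lit 147456) (Steps.bwd (nat_lit 8) (Steps.fwd (nat_lit 147456) (Steps.fwd (nat_lit 57344) (Steps.bwd (nat_lit 19) (Steps.bwd (nat_lit 8) (Steps.fwd (nat_lit 147456) Steps.nil))))))))) (nat_lit 85) (nat_lit 0),
  Rule.mk (nat_lit 9) (nat_lit 110) (Steps.bwd (nat_lit 16) (Steps.fwd (nat_lit 139264) (Steps.bwd (nat_lit 14) (Steps.fwd (nat_lit 81920) (Steps.bwd (nat_lit 9) (Steps.bwd (nat_lit 3) Steps.nil)))))) (nat_lit 70) (nat_lit 3),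
  Rule.mk (nat_lit 13) (nat_lit 158) (Steps.bwd (nat_lit 2) (Steps.bwd (nat_lit 4) (Steps.fwd (nat_lit 24576) (Steps.fwd (nat_lit 73728) (Steps.bwd (nat_lit 14) (Steps.fwd (nat_lit 73728) (Steps.bwd (nat_lit 1) (Steps.fwd (nat_lit 139264) (Steps.fwd (nat_lit 90112) Steps.nil))))))))) (nat_lit 62) (nat_lit 7),
  Rule.mk (nat_lit 17) (nat_lit 158) (Steps.bwd (nat_lit 2) (Steps.bwd (nat_lit 9) (Steps.fwd (nat_lit 114688) (Steps.bwd (nat_lit 9) (Steps.bwd (nat_lit 3) (Steps.bwd (nat_lit 3) (Steps.bwd (nat_lit 1) (Steps.fwd (nat_lit 106496) (Steps.bwd (nat_lit 11) Steps.nil))))))))) (nat_lit 63) (nat_lit 6),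
  Rule.mk (nat_lit 14) (nat_lit 142) (Steps.fwd (nat_lit 106496) (Steps.fwd (nat_lit 81920) (Steps.bwd (nat_lit 2) (Steps.bwd (nat_lit 16) (Steps.fwd (nat_lit 16384) (Steps.fwd (nat_lit 131072) (Steps.bwd (nat_lit 11) (Steps.bwd (nat_lit 17) Steps.nil)))))))) (nat_lit 46) (nat_lit 7),
  Rule.mk (nat_lit 9) (nat_lit 158) (Steps.bwd (nat_lit 15) (Steps.fwd (nat_lit 73728) (Steps.fwd (nat_lit 32768) (Steps.fwd (nat_lit 32768) (Steps.fwd (nat_lit 16384) (Steps.fwd (nat_lit 106496) (Steps.bwd (nat_lit 11) (Steps.bwd (nat_lit 17) (Steps.fwd (nat_lit 8192) Steps.nil))))))))) (nat_lit 63) (nat_lit 8),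
  Rule.mk (nat_lit 7) (nat_lit 94) (Steps.fwd (nat_lit 16384) (Steps.bwd (nat_lit 1) (Steps.bwd (nat_lit 1) (Steps.fwd (nat_lit 57344) (Steps.fwd (nat_lit 8192) Steps.nil))))) (nat_lit 83) (nat_lit 0),
  Rule.mk (nat_lit 14) (nat_lit 110) (Steps.bwd (nat_lit 1) (Steps.fwd (nat_lit 131072) (Steps.bwd (nat_lit 11) (Steps.fwd (nat_lit 122880) (Steps.fwd (nat_lit 122880) (Steps.fwd (nat_lit 8192) Steps.nil)))))) (nat_lit 44) (nat_lit 2),
  Rule.mk (nat_lit 17) (nat_lit 142) (Steps.bwd (nat_lit 1) (Steps.fwd (nat_lit 90112) (Steps.bwd (nat_lit 13) (Steps.bwd (nat_lit 15) (Steps.bwd (nat_lit 16) (Steps.fwd (nat_lit 90112) (Steps.fwd (nat_lit 139264) (Steps.fwd (nat_lit 8192) Steps.nil)))))))) (nat_lit 47) (nat_lit 8),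
  Rule.mk (nat_lit 9) (nat_lit 206) (Steps.bwd (nat_lit 1) (Steps.bwd (nat_lit 3) (Steps.fwd (nat_lit 32768) (Steps.bwd (nat_lit 1) (Steps.fwd (nat_lit 24576) (Steps.fwd (nat_lit 16384) (Steps.fwd (nat_lit 90112) (Steps.bwd (nat_lit 18) (Steps.fwd (nat_lit 131072) (Steps.fwd (nat_lit 73728) (Steps.fwd (nat_lit 8192) (Steps.bwd (nat_lit 2) Steps.nil)))))))))))) (nat_lit 69) (nat_lit 0),
  Rule.mk (nat_lit 8) (nat_lit 94) (Steps.fwd (nat_lit 8192) (Steps.fwd (nat_lit 65536) (Steps.bwd (nat_lit 1) (Steps.fwd (nat_lit 16384) (Steps.bwd (nat_lit 1) Steps.nil))))) (nat_lit 83) (nat_lit 4),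
  Rule.mk (nat_lit 10) (nat_lit 142) (Steps.bwd (nat_lit 13) (Steps.fwd (nat_lit 114688) (Steps.fwd (nat_lit 139264) (Steps.fwd (nat_lit 90112) (Steps.bwd (nat_lit 16) (Steps.fwd (nat_lit 8192) (Steps.fwd (nat_lit 131072) (Steps.bwd (nat_lit 1) Steps.nil)))))))) (nat_lit 47) (nat_lit 1),
  Rule.mk (nat_lit 9) (nat_lit 190) (Steps.bwd (nat_lit 13) (Steps.fwd (nat_lit 73728) (Steps.fwd (nat_lit 106496) (Steps.fwd (nat_lit 131072) (Steps.fwd (nat_lit 16384) (Steps.bwd (nat_lit 14) (Steps.bwd (nat_lit 1) (Steps.bwd (nat_lit 1) (Steps.bwd (nat_lit 1) (Steps.bwd (nat_lit 9) (Steps.fwd (nat_lit 106496) Steps.nil))))))))))) (nat_lit 74) (nat_lit 3),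
  Rule.mk (nat_lit 15) (nat_lit 110) (Steps.fwd (nat_lit 131072) (Steps.bwd (nat_lit 17) (Steps.bwd (nat_lit 9) (Steps.fwd (nat_lit 24576) (Steps.bwd (nat_lit 9) (Steps.bwd (nat_lit 10) Steps.nil)))))) (nat_lit 71) (nat_lit 2),
  Rule.mk (nat_lit 10) (nat_lit 126) (Steps.bwd (nat_lit 16) (Steps.bwd (nat_lit 15) (Steps.fwd (nat_lit 98304) (Steps.bwd (nat_lit 4) (Steps.bwd (nat_lit 12) (Steps.bwd (nat_lit 3) (Steps.fwd (nat_lit 139264) Steps.nil))))))) (nat_lit 50) (nat_lit 5),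
  Rule.mk (nat_lit 7) (nat_lit 286) (Steps.bwd (nat_lit 10) (Steps.fwd (nat_lit 65536) (Steps.fwd (nat_lit 73728) (Steps.fwd (nat_lit 24576) (Steps.bwd (nat_lit 4) (Steps.bwd (nat_lit 2) (Steps.bwd (nat_lit 11) (Steps.fwd (nat_lit 16384) (Steps.bwd (nat_lit 10) (Steps.bwd (nat_lit 2) (Steps.bwd (nat_lit 10) (Steps.bwd (nat_lit 1) (Steps.bwd (nat_lit 7) (Steps.bwd (nat_lit 10) (Steps.fwd (nat_lit 32768) (Steps.bwd (nat_lit 1) (Steps.fwd (nat_lit 24576) Steps.nil))))))))))))))))) (nat_lit 57) (nat_lit 15),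
  Rule.mk (nat_lit 8) (nat_lit 126) (Steps.bwd (nat_lit 18) (Steps.bwd (nat_lit 8) (Steps.fwd (nat_lit 147456) (Steps.bwd (nat_lit 8) (Steps.fwd (nat_lit 16384) (Steps.fwd (nat_lit 16384) (Steps.bwd (nat_lit 19) Steps.nil))))))) (nat_lit 87) (nat_lit 4),
  Rule.mk (nat_lit 12) (nat_lit 126) (Steps.bwd (nat_lit 3) (Steps.bwd (nat_lit 16) (Steps.bwd (nat_lit 10) (Steps.bwd (nat_lit 16) (Steps.bwd (nat_lit 15) (Steps.bwd (nat_lit 13) (Steps.fwd (nat_lit 24576) Steps.nil))))))) (nat_lit 50) (nat_lit 2),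
  Rule.mk (nat_lit 11) (nat_lit 110) (Steps.fwd (nat_lit 73728) (Steps.bwd (nat_lit 18) (Steps.fwd (nat_lit 73728) (Steps.bwd (nat_lit 16) (Steps.fwd (nat_lit 81920) (Steps.bwd (nat_lit 14) Steps.nil)))))) (nat_lit 66) (nat_lit 0),
  Rule.mk (nat_lit 16) (nat_lit 110) (Steps.bwd (nat_lit 16) (Steps.fwd (nat_lit 122880) (Steps.bwd (nat_lit 11) (Steps.fwd (nat_lit 73728) (Steps.bwd (nat_lit 3) (Steps.bwd (nat_lit 9) Steps.nil)))))) (nat_lit 70) (nat_lit 4),
  Rule.mk (nat_lit 14) (nat_lit 126) (Steps.bwd (nat_lit 3) (Steps.bwd (nat_lit 14) (Steps.fwd (nat_lit 122880) (Steps.bwd (nat_lit 17) (Steps.bwd (nat_lit 11) (Steps.bwd (nat_lit 11) (Steps.fwd (nat_lit 24576) Steps.nil))))))) (nat_lit 52) (nat_lit 2),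
  Rule.mk (nat_lit 18) (nat_lit 62) (Steps.fwd (nat_lit 114688) (Steps.fwd (nat_lit 147456) (Steps.bwd (nat_lit 14) Steps.nil))) (nat_lit 28) (nat_lit 0),
  Rule.mk (nat_lit 1) (nat_lit 190) (Steps.fwd (nat_lit 16384) (Steps.bwd (nat_lit 1) (Steps.bwd (nat_lit 9) (Steps.fwd (nat_lit 106496) (Steps.fwd (nat_lit 73728) (Steps.bwd (nat_lit 13) (Steps.fwd (nat_lit 73728) (Steps.bwd (nat_lit 12) (Steps.bwd (nat_lit 17) (Steps.bwd (nat_lit 1) (Steps.bwd (nat_lit 14) Steps.nil))))))))))) (nat_lit 74) (nat_lit 10),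
  Rule.mk (nat_lit 15) (nat_lit 110) (Steps.bwd (nat_lit 1) (Steps.fwd (nat_lit 114688) (Steps.bwd (nat_lit 15) (Steps.bwd (nat_lit 10) (Steps.bwd (nat_lit 16) (Steps.bwd (nat_lit 2) Steps.nil)))))) (nat_lit 45) (nat_lit 6),
  Rule.mk (nat_lit 9) (nat_lit 270) (Steps.bwd (nat_lit 1) (Steps.bwd (nat_lit 9) (Steps.fwd (nat_lit 16384) (Steps.bwd (nat_lit 13) (Steps.fwd (nat_lit 32768) (Steps.fwd (nat_lit 73728) (Steps.bwd (nat_lit 8) (Steps.bwd (nat_lit 1) (Steps.fwd (nat_lit 32768) (Steps.fwd (nat_lit 32768) (Steps.fwd (nat_lit 8192) (Steps.bwd (nat_lit 4) (Steps.fwd (nat_lit 81920) (Steps.fwd (nat_lit 131072) (Steps.bwd (nat_lit 19) (Steps.bwd (nat_lit 1) Steps.nil)))))))))))))))) (nat_lit 77) (nat_lit 10),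
  Rule.mk (nat_lit 15) (nat_lit 94) (Steps.bwd (nat_lit 11) (Steps.fwd (nat_lit 122880) (Steps.bwd (nat_lit 10) (Steps.bwd (nat_lit 19) (Steps.fwd (nat_lit 147456) Steps.nil))))) (nat_lit 33) (nat_lit 3),
  Rule.mk (nat_lit 3) (nat_lit 110) (Steps.bwd (nat_lit 11) (Steps.bwd (nat_lit 9) (Steps.fwd (nat_lit 81920) (Steps.fwd (nat_lit 73728) (Steps.bwd (nat_lit 3) (Steps.fwd (nat_lit 122880) Steps.nil)))))) (nat_lit 61) (nat_lit 3),
  Rule.mk (nat_lit 14) (nat_lit 110) (Steps.bwd (nat_lit 11) (Steps.bwd (nat_lit 9) (Steps.bwd (nat_lit 18) (Steps.fwd (nat_lit 73728) (Steps.bwd (nat_lit 16) (Steps.bwd (nat_lit 11) Steps.nil)))))) (nat_lit 66) (nat_lit 6),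
  Rule.mk (nat_lit 19) (nat_lit 62) (Steps.fwd (nat_lit 114688) (Steps.bwd (nat_lit 18) (Steps.bwd (nat_lit 14) Steps.nil))) (nat_lit 29) (nat_lit 1),
  Rule.mk (nat_lit 1) (nat_lit 110) (Steps.fwd (nat_lit 131072) (Steps.bwd (nat_lit 11) (Steps.fwd (nat_lit 122880) (Steps.fwd (nat_lit 122880) (Steps.bwd (nat_lit 2) (Steps.bwd (nat_lit 14) Steps.nil)))))) (nat_lit 44) (nat_lit 3),
  Rule.mk (nat_lit 17) (nat_lit 126) (Steps.bwd (nat_lit 11) (Steps.bwd (nat_lit 11) (Steps.bwd (nat_lit 4) (Steps.bwd (nat_lit 14) (Steps.fwd (nat_lit 32768) (Steps.bwd (nat_lit 14) (Steps.bwd (nat_lit 14) Steps.nil))))))) (nat_lit 52) (nat_lit 6),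
  Rule.mk (nat_lit 3) (nat_lit 126) (Steps.fwd (nat_lit 122880) (Steps.fwd (nat_lit 122880) (Steps.bwd (nat_lit 17) (Steps.bwd (nat_lit 11) (Steps.bwd (nat_lit 11) (Steps.bwd (nat_lit 4) (Steps.bwd (nat_lit 14) Steps.nil))))))) (nat_lit 52) (nat_lit 3),
  Rule.mk (nat_lit 8) (nat_lit 94) (Steps.bwd (nat_lit 1) (Steps.fwd (nat_lit 16384) (Steps.fwd (nat_lit 16384) (Steps.bwd (nat_lit 1) (Steps.fwd (nat_lit 57344) Steps.nil))))) (nat_lit 79) (nat_lit 0),
  Rule.mk (nat_lit 8) (nat_lit 94) (Steps.fwd (nat_lit 8192) (Steps.bwd (nat_lit 7) (Steps.fwd (nat_lit 16384) (Steps.fwd (nat_lit 16384) (Steps.bwd (nat_lit 1) Steps.nil))))) (nat_lit 83) (nat_lit 4),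
  Rule.mk (nat_lit 8) (nat_lit 126) (Steps.bwd (nat_lit 19) (Steps.bwd (nat_lit 8) (Steps.bwd (nat_lit 1) (Steps.bwd (nat_lit 1) (Steps.bwd (nat_lit 19) (Steps.bwd (nat_lit 8) (Steps.bwd (nat_lit 18) Steps.nil))))))) (nat_lit 87) (nat_lit 6),
  Rule.mk (nat_lit 9) (nat_lit 110) (Steps.fwd (nat_lit 32768) (Steps.bwd (nat_lit 9) (Steps.fwd (nat_lit 139264) (Steps.bwd (nat_lit 16) (Steps.fwd (nat_lit 122880) (Steps.bwd (nat_lit 11) Steps.nil)))))) (nat_lit 70) (nat_lit 1),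
  Rule.mk (nat_lit 9) (nat_lit 190) (Steps.bwd (nat_lit 12) (Steps.fwd (nat_lit 131072) (Steps.fwd (nat_lit 16384) (Steps.fwd (nat_lit 122880) (Steps.fwd (nat_lit 16384) (Steps.fwd (nat_lit 16384) (Steps.bwd (nat_lit 1) (Steps.bwd (nat_lit 9) (Steps.bwd (nat_lit 12) (Steps.fwd (nat_lit 73728) (Steps.fwd (nat_lit 98304) Steps.nil))))))))))) (nat_lit 74) (nat_lit 5),
  Rule.mk (nat_lit 11) (nat_lit 110) (Steps.fwd (nat_lit 73728) (Steps.bwd (nat_lit 3) (Steps.fwd (nat_lit 122880) (Steps.bwd (nat_lit 3) (Steps.bwd (nat_lit 11) (Steps.bwd (nat_lit 9) Steps.nil)))))) (nat_lit 61) (nat_lit 6),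
  Rule.mk (nat_lit 17) (nat_lit 62) (Steps.fwd (nat_lit 32768) (Steps.bwd (nat_lit 5) (Steps.fwd (nat_lit 24576) Steps.nil))) (nat_lit 17) (nat_lit 0),
  Rule.mk (nat_lit 12) (nat_lit 126) (Steps.bwd (nat_lit 3) (Steps.bwd (nat_lit 16) (Steps.fwd (nat_lit 90112) (Steps.fwd (nat_lit 139264) (Steps.fwd (nat_lit 114688) (Steps.bwd (nat_lit 13) (Steps.bwd (nat_lit 4) Steps.nil))))))) (nat_lit 50) (nat_lit 2),
  Rule.mk (nat_lit 16) (nat_lit 142) (Steps.bwd (nat_lit 2) (Steps.fwd (nat_lit 131072) (Steps.bwd (nat_lit 1) (Steps.bwd (nat_lit 10) (Steps.bwd (nat_lit 13) (Steps.bwd (nat_lit 15) (Steps.bwd (nat_lit 16) (Steps.fwd (nat_lit 90112) Steps.nil)))))))) (nat_lit 47) (nat_lit 6),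
  Rule.mk (nat_lit 17) (nat_lit 94) (Steps.bwd (nat_lit 11) (Steps.fwd (nat_lit 139264) (Steps.fwd (nat_lit 90112) (Steps.bwd (nat_lit 18) (Steps.bwd (nat_lit 18) Steps.nil))))) (nat_lit 35) (nat_lit 3),
  Rule.mk (nat_lit 1) (nat_lit 110) (Steps.fwd (nat_lit 114688) (Steps.fwd (nat_lit 114688) (Steps.bwd (nat_lit 10) (Steps.bwd (nat_lit 16) (Steps.bwd (nat_lit 2) (Steps.bwd (nat_lit 15) Steps.nil)))))) (nat_lit 45) (nat_lit 0),
  Rule.mk (nat_lit 8) (nat_lit 94) (Steps.bwd (nat_lit 1) (Steps.bwd (nat_lit 1) (Steps.bwd (nat_lit 1) (Steps.fwd (nat_lit 16384) (Steps.fwd (nat_lit 57344) Steps.nil))))) (nat_lit 79) (nat_lit 0),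
  Rule.mk (nat_lit 7) (nat_lit 126) (Steps.bwd (nat_lit 19) (Steps.fwd (nat_lit 65536) (Steps.fwd (nat_lit 155648) (Steps.fwd (nat_lit 8192) (Steps.fwd (nat_lit 8192) (Steps.bwd (nat_lit 7) (Steps.bwd (nat_lit 18) Steps.nil))))))) (nat_lit 86) (nat_lit 3),
  Rule.mk (nat_lit 8) (nat_lit 126) (Steps.bwd (nat_lit 19) (Steps.bwd (nat_lit 8) (Steps.bwd (nat_lit 1) (Steps.bwd (nat_lit 1) (Steps.bwd (nat_lit 19) (Steps.fwd (nat_lit 57344) (Steps.bwd (nat_lit 18) Steps.nil))))))) (nat_lit 87) (nat_lit 6),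
  Rule.mk (nat_lit 8) (nat_lit 126) (Steps.fwd (nat_lit 147456) (Steps.bwd (nat_lit 8) (Steps.fwd (nat_lit 16384) (Steps.bwd (nat_lit 1) (Steps.bwd (nat_lit 19) (Steps.bwd (nat_lit 8) (Steps.bwd (nat_lit 18) Steps.nil))))))) (nat_lit 87) (nat_lit 6),
  Rule.mk (nat_lit 8) (nat_lit 158) (Steps.fwd (nat_lit 147456) (Steps.fwd (nat_lit 57344) (Steps.bwd (nat_lit 19) (Steps.fwd (nat_lit 57344) (Steps.bwd (nat_lit 19) (Steps.bwd (nat_lit 8) (Steps.fwd (nat_lit 147456) (Steps.bwd (nat_lit 8) (Steps.fwd (nat_lit 147456) Steps.nil))))))))) (nat_lit 85) (nat_lit 0),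
  Rule.mk (nat_lit 8) (nat_lit 126) (Steps.bwd (nat_lit 18) (Steps.bwd (nat_lit 8) (Steps.fwd (nat_lit 147456) (Steps.fwd (nat_lit 57344) (Steps.fwd (nat_lit 16384) (Steps.bwd (nat_lit 1) (Steps.bwd (nat_lit 19) Steps.nil))))))) (nat_lit 87) (nat_lit 4),
  Rule.mk (nat_lit 1) (nat_lit 190) (Steps.bwd (nat_lit 14) (Steps.bwd (nat_lit 1) (Steps.bwd (nat_lit 1) (Steps.bwd (nat_lit 1) (Steps.bwd (nat_lit 9) (Steps.fwd (nat_lit 106496) (Steps.bwd (nat_lit 9) (Steps.fwd (nat_lit 98304) (Steps.fwd (nat_lit 73728) (Steps.bwd (nat_lit 12) (Steps.bwd (nat_lit 17) Steps.nil))))))))))) (nat_lit 74) (nat_lit 8),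
  Rule.mk (nat_lit 15) (nat_lit 110) (Steps.bwd (nat_lit 15) (Steps.fwd (nat_lit 90112) (Steps.fwd (nat_lit 139264) (Steps.fwd (nat_lit 8192) (Steps.fwd (nat_lit 114688) (Steps.bwd (nat_lit 1) Steps.nil)))))) (nat_lit 45) (nat_lit 1),
  Rule.mk (nat_lit 10) (nat_lit 110) (Steps.bwd (nat_lit 4) (Steps.bwd (nat_lit 15) (Steps.fwd (nat_lit 24576) (Steps.bwd (nat_lit 9) (Steps.fwd (nat_lit 90112) (Steps.bwd (nat_lit 9) Steps.nil)))))) (nat_lit 60) (nat_lit 4),
  Rule.mk (nat_lit 4) (nat_lit 110) (Steps.bwd (nat_lit 4) (Steps.bwd (nat_lit 9) (Steps.bwd (nat_lit 16) (Steps.bwd (nat_lit 9) (Steps.fwd (nat_lit 131072) (Steps.fwd (nat_lit 122880) Steps.nil)))))) (nat_lit 64) (nat_lit 6),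
  Rule.mk (nat_lit 13) (nat_lit 126) (Steps.bwd (nat_lit 4) (Steps.bwd (nat_lit 12) (Steps.bwd (nat_lit 3) (Steps.bwd (nat_lit 16) (Steps.fwd (nat_lit 90112) (Steps.fwd (nat_lit 139264) (Steps.fwd (nat_lit 114688) Steps.nil))))))) (nat_lit 50) (nat_lit 0),
  Rule.mk (nat_lit 16) (nat_lit 62) (Steps.fwd (nat_lit 106496) (Steps.fwd (nat_lit 131072) (Steps.bwd (nat_lit 13) Steps.nil))) (nat_lit 39) (nat_lit 3),
  Rule.mk (nat_lit 9) (nat_lit 110) (Steps.bwd (nat_lit 10) (Steps.bwd (nat_lit 4) (Steps.fwd (nat_lit 114688) (Steps.bwd (nat_lit 4) (Steps.fwd (nat_lit 73728) (Steps.bwd (nat_lit 10) Steps.nil)))))) (nat_lit 60) (nat_lit 3),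
  Rule.mk (nat_lit 1) (nat_lit 142) (Steps.bwd (nat_lit 17) (Steps.fwd (nat_lit 81920) (Steps.fwd (nat_lit 131072) (Steps.fwd (nat_lit 122880) (Steps.fwd (nat_lit 106496) (Steps.bwd (nat_lit 11) (Steps.fwd (nat_lit 8192) (Steps.fwd (nat_lit 139264) Steps.nil)))))))) (nat_lit 46) (nat_lit 3)]
noncomputable def R_73 : List (Rule) := [Rule.mk (nat_lit 14) (nat_lit 110) (Steps.bwd (nat_lit 1) (Steps.bwd (nat_lit 17) (Steps.fwd (nat_lit 81920) (Steps.bwd (nat_lit 14) (Steps.fwd (nat_lit 122880) (Steps.fwd (nat_lit 8192) Steps.nil)))))) (nat_lit 44) (nat_lit 2),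
  Rule.mk (nat_lit 2) (nat_lit 94) (Steps.fwd (nat_lit 32768) (Steps.bwd (nat_lit 1) (Steps.bwd (nat_lit 1) (Steps.bwd (nat_lit 4) (Steps.bwd (nat_lit 2) Steps.nil))))) (nat_lit 7) (nat_lit 3),
  Rule.mk (nat_lit 19) (nat_lit 158) (Steps.bwd (nat_lit 8) (Steps.bwd (nat_lit 19) (Steps.fwd (nat_lit 57344) (Steps.bwd (nat_lit 19) (Steps.fwd (nat_lit 57344) (Steps.fwd (nat_lit 147456) (Steps.bwd (nat_lit 8) (Steps.bwd (nat_lit 19) (Steps.bwd (nat_lit 8) Steps.nil))))))))) (nat_lit 85) (nat_lit 1),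
  Rule.mk (nat_lit 11) (nat_lit 286) (Steps.bwd (nat_lit 8) (Steps.bwd (nat_lit 3) (Steps.bwd (nat_lit 2) (Steps.bwd (nat_lit 4) (Steps.fwd (nat_lit 81920) (Steps.fwd (nat_lit 57344) (Steps.bwd (nat_lit 2) (Steps.bwd (nat_lit 11) (Steps.bwd (nat_lit 1) (Steps.bwd (nat_lit 11) (Steps.bwd (nat_lit 2) (Steps.fwd (nat_lit 90112) (Steps.fwd (nat_lit 16384) (Steps.bwd (nat_lit 3) (Steps.fwd (nat_lit 32768) (Steps.bwd (nat_lit 9) (Steps.bwd (nat_lit 8) Steps.nil))))))))))))))))) (nat_lit 56) (nat_lit 3),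
  Rule.mk (nat_lit 13) (nat_lit 78) (Steps.bwd (nat_lit 11) (Steps.bwd (nat_lit 12) (Steps.fwd (nat_lit 90112) (Steps.fwd (nat_lit 155648) Steps.nil)))) (nat_lit 18) (nat_lit 2),
  Rule.mk (nat_lit 4) (nat_lit 110) (Steps.bwd (nat_lit 15) (Steps.fwd (nat_lit 24576) (Steps.fwd (nat_lit 73728) (Steps.fwd (nat_lit 90112) (Steps.bwd (nat_lit 9) (Steps.bwd (nat_lit 10) Steps.nil)))))) (nat_lit 60) (nat_lit 5),
  Rule.mk (nat_lit 12) (nat_lit 126) (Steps.fwd (nat_lit 32768) (Steps.fwd (nat_lit 139264) (Steps.bwd (nat_lit 10) (Steps.bwd (nat_lit 16) (Steps.bwd (nat_lit 15) (Steps.bwd (nat_lit 13) (Steps.bwd (nat_lit 4) Steps.nil))))))) (nat_lit 50) (nat_lit 2),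
  Rule.mk (nat_lit 14) (nat_lit 126) (Steps.bwd (nat_lit 17) (Steps.fwd (nat_lit 81920) (Steps.fwd (nat_lit 131072) (Steps.fwd (nat_lit 24576) (Steps.fwd (nat_lit 98304) (Steps.fwd (nat_lit 32768) (Steps.bwd (nat_lit 12) Steps.nil))))))) (nat_lit 51) (nat_lit 2),
  Rule.mk (nat_lit 3) (nat_lit 94) (Steps.bwd (nat_lit 2) (Steps.fwd (nat_lit 8192) (Steps.bwd (nat_lit 4) (Steps.bwd (nat_lit 1) (Steps.fwd (nat_lit 16384) Steps.nil))))) (nat_lit 6) (nat_lit 0),
  Rule.mk (nat_lit 15) (nat_lit 190) (Steps.bwd (nat_lit 2) (Steps.fwd (nat_lit 139264) (Steps.fwd (nat_lit 98304) (Steps.fwd (nat_lit 73728) (Steps.fwd (nat_lit 106496) (Steps.bwd (nat_lit 9) (Steps.bwd (nat_lit 13) (Steps.bwd (nat_lit 9) (Steps.fwd (nat_lit 8192) (Steps.fwd (nat_lit 8192) (Steps.bwd (nat_lit 2) Steps.nil))))))))))) (nat_lit 75) (nat_lit 4),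
  Rule.mk (nat_lit 15) (nat_lit 110) (Steps.fwd (nat_lit 114688) (Steps.fwd (nat_lit 90112) (Steps.fwd (nat_lit 139264) (Steps.fwd (nat_lit 8192) (Steps.fwd (nat_lit 114688) (Steps.bwd (nat_lit 1) Steps.nil)))))) (nat_lit 45) (nat_lit 1),
  Rule.mk (nat_lit 10) (nat_lit 110) (Steps.bwd (nat_lit 15) (Steps.fwd (nat_lit 131072) (Steps.bwd (nat_lit 17) (Steps.bwd (nat_lit 9) (Steps.fwd (nat_lit 24576) (Steps.fwd (nat_lit 73728) Steps.nil)))))) (nat_lit 71) (nat_lit 1),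
  Rule.mk (nat_lit 13) (nat_lit 142) (Steps.bwd (nat_lit 15) (Steps.bwd (nat_lit 16) (Steps.bwd (nat_lit 10) (Steps.fwd (nat_lit 139264) (Steps.fwd (nat_lit 8192) (Steps.fwd (nat_lit 131072) (Steps.fwd (nat_lit 16384) (Steps.bwd (nat_lit 10) Steps.nil)))))))) (nat_lit 47) (nat_lit 2),
  Rule.mk (nat_lit 2) (nat_lit 206) (Steps.bwd (nat_lit 4) (Steps.bwd (nat_lit 4) (Steps.bwd (nat_lit 2) (Steps.fwd (nat_lit 73728) (Steps.fwd (nat_lit 16384) (Steps.bwd (nat_lit 1) (Steps.fwd (nat_lit 73728) (Steps.fwd (nat_lit 139264) (Steps.fwd (nat_lit 147456) (Steps.bwd (nat_lit 11) (Steps.fwd (nat_lit 8192) (Steps.fwd (nat_lit 32768) Steps.nil)))))))))))) (nat_lit 68) (nat_lit 10),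
  Rule.mk (nat_lit 12) (nat_lit 190) (Steps.bwd (nat_lit 9) (Steps.bwd (nat_lit 13) (Steps.bwd (nat_lit 9) (Steps.fwd (nat_lit 8192) (Steps.bwd (nat_lit 2) (Steps.fwd (nat_lit 8192) (Steps.fwd (nat_lit 114688) (Steps.fwd (nat_lit 8192) (Steps.bwd (nat_lit 16) (Steps.bwd (nat_lit 13) (Steps.bwd (nat_lit 9) Steps.nil))))))))))) (nat_lit 75) (nat_lit 9),
  Rule.mk (nat_lit 2) (nat_lit 94) (Steps.bwd (nat_lit 4) (Steps.fwd (nat_lit 16384) (Steps.bwd (nat_lit 1) (Steps.bwd (nat_lit 3) (Steps.fwd (nat_lit 8192) Steps.nil))))) (nat_lit 6) (nat_lit 2),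
  Rule.mk (nat_lit 9) (nat_lit 206) (Steps.bwd (nat_lit 1) (Steps.fwd (nat_lit 32768) (Steps.bwd (nat_lit 3) (Steps.fwd (nat_lit 16384) (Steps.bwd (nat_lit 4) (Steps.bwd (nat_lit 1) (Steps.bwd (nat_lit 10) (Steps.bwd (nat_lit 18) (Steps.bwd (nat_lit 17) (Steps.fwd (nat_lit 73728) (Steps.bwd (nat_lit 2) (Steps.bwd (nat_lit 2) Steps.nil)))))))))))) (nat_lit 69) (nat_lit 0),
  Rule.mk (nat_lit 9) (nat_lit 270) (Steps.fwd (nat_lit 16384) (Steps.bwd (nat_lit 9) (Steps.fwd (nat_lit 16384) (Steps.bwd (nat_lit 13) (Steps.fwd (nat_lit 32768) (Steps.bwd (nat_lit 9) (Steps.fwd (nat_lit 57344) (Steps.bwd (nat_lit 1) (Steps.fwd (nat_lit 32768) (Steps.bwd (nat_lit 3) (Steps.bwd (nat_lit 2) (Steps.bwd (nat_lit 4) (Steps.bwd (nat_lit 11) (Steps.fwd (nat_lit 131072) (Steps.fwd (nat_lit 147456) (Steps.bwd (nat_lit 1) Steps.nil)))))))))))))))) (nat_lit 77) (nat_lit 10),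
  Rule.mk (nat_lit 9) (nat_lit 190) (Steps.fwd (nat_lit 106496) (Steps.fwd (nat_lit 73728) (Steps.fwd (nat_lit 98304) (Steps.bwd (nat_lit 9) (Steps.fwd (nat_lit 106496) (Steps.fwd (nat_lit 131072) (Steps.bwd (nat_lit 1) (Steps.fwd (nat_lit 122880) (Steps.fwd (nat_lit 16384) (Steps.fwd (nat_lit 16384) (Steps.fwd (nat_lit 16384) Steps.nil))))))))))) (nat_lit 74) (nat_lit 1),
  Rule.mk (nat_lit 12) (nat_lit 78) (Steps.bwd (nat_lit 10) (Steps.fwd (nat_lit 155648) (Steps.bwd (nat_lit 13) (Steps.fwd (nat_lit 81920) Steps.nil)))) (nat_lit 18) (nat_lit 4),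
  Rule.mk (nat_lit 12) (nat_lit 142) (Steps.bwd (nat_lit 11) (Steps.bwd (nat_lit 2) (Steps.fwd (nat_lit 139264) (Steps.fwd (nat_lit 16384) (Steps.fwd (nat_lit 131072) (Steps.bwd (nat_lit 11) (Steps.bwd (nat_lit 17) (Steps.bwd (nat_lit 14) Steps.nil)))))))) (nat_lit 46) (nat_lit 8),
  Rule.mk (nat_lit 8) (nat_lit 94) (Steps.bwd (nat_lit 1) (Steps.bwd (nat_lit 7) (Steps.fwd (nat_lit 8192) (Steps.bwd (nat_lit 2) (Steps.fwd (nat_lit 8192) Steps.nil))))) (nat_lit 82) (nat_lit 1),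
  Rule.mk (nat_lit 0) (nat_lit 142) (Steps.fwd (nat_lit 155648) (Steps.fwd (nat_lit 65536) (Steps.fwd (nat_lit 147456) (Steps.bwd (nat_lit 7) (Steps.fwd (nat_lit 155648) (Steps.bwd (nat_lit 2) (Steps.fwd (nat_lit 8192) (Steps.bwd (nat_lit 7) Steps.nil)))))))) (nat_lit 86) (nat_lit 1),
  Rule.mk (nat_lit 14) (nat_lit 62) (Steps.fwd (nat_lit 155648) (Steps.bwd (nat_lit 15) (Steps.fwd (nat_lit 147456) Steps.nil))) (nat_lit 28) (nat_lit 3),
  Rule.mk (nat_lit 11) (nat_lit 110) (Steps.bwd (nat_lit 14) (Steps.fwd (nat_lit 81920) (Steps.bwd (nat_lit 9) (Steps.fwd (nat_lit 155648) (Steps.fwd (nat_lit 73728) (Steps.fwd (nat_lit 139264) Steps.nil)))))) (nat_lit 66) (nat_lit 5),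
  Rule.mk (nat_lit 9) (nat_lit 206) (Steps.fwd (nat_lit 16384) (Steps.fwd (nat_lit 32768) (Steps.fwd (nat_lit 32768) (Steps.bwd (nat_lit 1) (Steps.bwd (nat_lit 4) (Steps.fwd (nat_lit 16384) (Steps.fwd (nat_lit 90112) (Steps.fwd (nat_lit 155648) (Steps.fwd (nat_lit 131072) (Steps.fwd (nat_lit 73728) (Steps.bwd (nat_lit 2) (Steps.bwd (nat_lit 2) Steps.nil)))))))))))) (nat_lit 69) (nat_lit 0),
  Rule.mk (nat_lit 2) (nat_lit 206) (Steps.bwd (nat_lit 9) (Steps.bwd (nat_lit 1) (Steps.fwd (nat_lit 32768) (Steps.fwd (nat_lit 32768) (Steps.bwd (nat_lit 1) (Steps.bwd (nat_lit 4) (Steps.fwd (nat_lit 16384) (Steps.fwd (nat_lit 73728) (Steps.fwd (nat_lit 139264) (Steps.bwd (nat_lit 19) (Steps.bwd (nat_lit 11) (Steps.bwd (nat_lit 2) Steps.nil)))))))))))) (nat_lit 72) (nat_lit 0),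
  Rule.mk (nat_lit 2) (nat_lit 94) (Steps.fwd (nat_lit 65536) (Steps.fwd (nat_lit 65536) (Steps.bwd (nat_lit 2) (Steps.bwd (nat_lit 2) (Steps.bwd (nat_lit 2) Steps.nil))))) (nat_lit 78) (nat_lit 0),
  Rule.mk (nat_lit 9) (nat_lit 286) (Steps.bwd (nat_lit 8) (Steps.bwd (nat_lit 11) (Steps.fwd (nat_lit 57344) (Steps.fwd (nat_lit 32768) (Steps.fwd (nat_lit 8192) (Steps.bwd (nat_lit 4) (Steps.fwd (nat_lit 81920) (Steps.bwd (nat_lit 8) (Steps.bwd (nat_lit 2) (Steps.bwd (nat_lit 11) (Steps.bwd (nat_lit 1) (Steps.fwd (nat_lit 81920) (Steps.bwd (nat_lit 2) (Steps.bwd (nat_lit 10) (Steps.bwd (nat_lit 1) (Steps.bwd (nat_lit 3) (Steps.bwd (nat_lit 3) Steps.nil))))))))))))))))) (nat_lit 56) (nat_lit 1),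
  Rule.mk (nat_lit 2) (nat_lit 142) (Steps.bwd (nat_lit 17) (Steps.bwd (nat_lit 1) (Steps.fwd (nat_lit 90112) (Steps.fwd (nat_lit 98304) (Steps.fwd (nat_lit 114688) (Steps.fwd (nat_lit 139264) (Steps.fwd (nat_lit 90112) (Steps.fwd (nat_lit 139264) Steps.nil)))))))) (nat_lit 47) (nat_lit 7),
  Rule.mk (nat_lit 15) (nat_lit 110) (Steps.bwd (nat_lit 1) (Steps.fwd (nat_lit 114688) (Steps.bwd (nat_lit 15) (Steps.fwd (nat_lit 90112) (Steps.fwd (nat_lit 139264) (Steps.bwd (nat_lit 2) Steps.nil)))))) (nat_lit 45) (nat_lit 6),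
  Rule.mk (nat_lit 16) (nat_lit 190) (Steps.fwd (nat_lit 98304) (Steps.fwd (nat_lit 73728) (Steps.bwd (nat_lit 12) (Steps.bwd (nat_lit 9) (Steps.bwd (nat_lit 13) (Steps.fwd (nat_lit 73728) (Steps.bwd (nat_lit 2) (Steps.fwd (nat_lit 8192) (Steps.bwd (nat_lit 2) (Steps.fwd (nat_lit 114688) (Steps.bwd (nat_lit 2) Steps.nil))))))))))) (nat_lit 75) (nat_lit 6),
  Rule.mk (nat_lit 3) (nat_lit 206) (Steps.bwd (nat_lit 2) (Steps.bwd (nat_lit 4) (Steps.bwd (nat_lit 4) (Steps.fwd (nat_lit 8192) (Steps.fwd (nat_lit 73728) (Steps.fwd (nat_lit 16384) (Steps.fwd (nat_lit 16384) (Steps.bwd (nat_lit 9) (Steps.bwd (nat_lit 16) (Steps.bwd (nat_lit 19) (Steps.bwd (nat_lit 11) (Steps.bwd (nat_lit 2) Steps.nil)))))))))))) (nat_lit 68) (nat_lit 9),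
  Rule.mk (nat_lit 15) (nat_lit 126) (Steps.bwd (nat_lit 3) (Steps.fwd (nat_lit 90112) (Steps.fwd (nat_lit 90112) (Steps.fwd (nat_lit 139264) (Steps.fwd (nat_lit 114688) (Steps.bwd (nat_lit 15) (Steps.bwd (nat_lit 4) Steps.nil))))))) (nat_lit 53) (nat_lit 7),
  Rule.mk (nat_lit 14) (nat_lit 110) (Steps.bwd (nat_lit 2) (Steps.fwd (nat_lit 122880) (Steps.fwd (nat_lit 16384) (Steps.bwd (nat_lit 17) (Steps.bwd (nat_lit 11) (Steps.fwd (nat_lit 122880) Steps.nil)))))) (nat_lit 44) (nat_lit 0),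
  Rule.mk (nat_lit 4) (nat_lit 126) (Steps.bwd (nat_lit 2) (Steps.fwd (nat_lit 24576) (Steps.bwd (nat_lit 2) (Steps.fwd (nat_lit 24576) (Steps.bwd (nat_lit 2) (Steps.bwd (nat_lit 4) (Steps.bwd (nat_lit 2) Steps.nil))))))) (nat_lit 5) (nat_lit 1),
  Rule.mk (nat_lit 11) (nat_lit 142) (Steps.bwd (nat_lit 2) (Steps.fwd (nat_lit 139264) (Steps.fwd (nat_lit 16384) (Steps.bwd (nat_lit 17) (Steps.bwd (nat_lit 11) (Steps.bwd (nat_lit 17) (Steps.fwd (nat_lit 122880) (Steps.fwd (nat_lit 106496) Steps.nil)))))))) (nat_lit 46) (nat_lit 0),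
  Rule.mk (nat_lit 17) (nat_lit 158) (Steps.bwd (nat_lit 2) (Steps.fwd (nat_lit 73728) (Steps.fwd (nat_lit 114688) (Steps.fwd (nat_lit 73728) (Steps.bwd (nat_lit 3) (Steps.fwd (nat_lit 32768) (Steps.fwd (nat_lit 16384) (Steps.fwd (nat_lit 106496) (Steps.bwd (nat_lit 11) Steps.nil))))))))) (nat_lit 63) (nat_lit 6),
  Rule.mk (nat_lit 3) (nat_lit 126) (Steps.bwd (nat_lit 10) (Steps.fwd (nat_lit 90112) (Steps.fwd (nat_lit 139264) (Steps.fwd (nat_lit 114688) (Steps.fwd (nat_lit 114688) (Steps.bwd (nat_lit 4) (Steps.fwd (nat_lit 114688) Steps.nil))))))) (nat_lit 53) (nat_lit 0),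
  Rule.mk (nat_lit 16) (nat_lit 142) (Steps.bwd (nat_lit 10) (Steps.fwd (nat_lit 139264) (Steps.bwd (nat_lit 2) (Steps.bwd (nat_lit 17) (Steps.fwd (nat_lit 16384) (Steps.bwd (nat_lit 10) (Steps.fwd (nat_lit 98304) (Steps.fwd (nat_lit 114688) Steps.nil)))))))) (nat_lit 47) (nat_lit 4),
  Rule.mk (nat_lit 1) (nat_lit 142) (Steps.bwd (nat_lit 17) (Steps.bwd (nat_lit 11) (Steps.fwd (nat_lit 131072) (Steps.bwd (nat_lit 14) (Steps.bwd (nat_lit 12) (Steps.fwd (nat_lit 81920) (Steps.bwd (nat_lit 2) (Steps.bwd (nat_lit 16) Steps.nil)))))))) (nat_lit 46) (nat_lit 3),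
  Rule.mk (nat_lit 2) (nat_lit 126) (Steps.bwd (nat_lit 7) (Steps.fwd (nat_lit 155648) (Steps.fwd (nat_lit 65536) (Steps.bwd (nat_lit 19) (Steps.bwd (nat_lit 7) (Steps.bwd (nat_lit 18) (Steps.fwd (nat_lit 8192) Steps.nil))))))) (nat_lit 86) (nat_lit 0),
  Rule.mk (nat_lit 1) (nat_lit 94) (Steps.bwd (nat_lit 1) (Steps.fwd (nat_lit 24576) (Steps.bwd (nat_lit 2) (Steps.fwd (nat_lit 8192) (Steps.fwd (nat_lit 32768) Steps.nil))))) (nat_lit 7) (nat_lit 5),
  Rule.mk (nat_lit 17) (nat_lit 142) (Steps.bwd (nat_lit 1) (Steps.fwd (nat_lit 90112) (Steps.fwd (nat_lit 98304) (Steps.bwd (nat_lit 15) (Steps.bwd (nat_lit 16) (Steps.bwd (nat_lit 10) (Steps.bwd (nat_lit 16) (Steps.bwd (nat_lit 2) Steps.nil)))))))) (nat_lit 47) (nat_lit 8),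
  Rule.mk (nat_lit 17) (nat_lit 206) (Steps.bwd (nat_lit 9) (Steps.bwd (nat_lit 2) (Steps.fwd (nat_lit 8192) (Steps.fwd (nat_lit 73728) (Steps.bwd (nat_lit 1) (Steps.fwd (nat_lit 32768) (Steps.bwd (nat_lit 3) (Steps.fwd (nat_lit 16384) (Steps.bwd (nat_lit 4) (Steps.bwd (nat_lit 1) (Steps.fwd (nat_lit 90112) (Steps.fwd (nat_lit 155648) Steps.nil)))))))))))) (nat_lit 69) (nat_lit 9),
  Rule.mk (nat_lit 9) (nat_lit 206) (Steps.fwd (nat_lit 8192) (Steps.bwd (nat_lit 3) (Steps.bwd (nat_lit 2) (Steps.fwd (nat_lit 24576) (Steps.fwd (nat_lit 24576) (Steps.bwd (nat_lit 2) (Steps.fwd (nat_lit 73728) (Steps.fwd (nat_lit 16384) (Steps.fwd (nat_lit 16384) (Steps.bwd (nat_lit 10) (Steps.fwd (nat_lit 155648) (Steps.bwd (nat_lit 17) Steps.nil)))))))))))) (nat_lit 73) (nat_lit 6),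
  Rule.mk (nat_lit 11) (nat_lit 110) (Steps.bwd (nat_lit 9) (Steps.fwd (nat_lit 81920) (Steps.bwd (nat_lit 9) (Steps.fwd (nat_lit 32768) (Steps.fwd (nat_lit 122880) (Steps.fwd (nat_lit 32768) Steps.nil)))))) (nat_lit 61) (nat_lit 4),
  Rule.mk (nat_lit 0) (nat_lit 110) (Steps.fwd (nat_lit 65536) (Steps.bwd (nat_lit 2) (Steps.fwd (nat_lit 8192) (Steps.fwd (nat_lit 8192) (Steps.bwd (nat_lit 8) (Steps.fwd (nat_lit 16384) Steps.nil)))))) (nat_lit 82) (nat_lit 2),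
  Rule.mk (nat_lit 14) (nat_lit 110) (Steps.bwd (nat_lit 1) (Steps.fwd (nat_lit 131072) (Steps.bwd (nat_lit 11) (Steps.bwd (nat_lit 14) (Steps.bwd (nat_lit 14) (Steps.bwd (nat_lit 2) Steps.nil)))))) (nat_lit 44) (nat_lit 2),
  Rule.mk (nat_lit 17) (nat_lit 142) (Steps.bwd (nat_lit 1) (Steps.fwd (nat_lit 90112) (Steps.fwd (nat_lit 98304) (Steps.bwd (nat_lit 15) (Steps.fwd (nat_lit 139264) (Steps.fwd (nat_lit 90112) (Steps.bwd (nat_lit 16) (Steps.bwd (nat_lit 2) Steps.nil)))))))) (nat_lit 47) (nat_lit 8),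
  Rule.mk (nat_lit 14) (nat_lit 110) (Steps.bwd (nat_lit 3) (Steps.fwd (nat_lit 81920) (Steps.bwd (nat_lit 9) (Steps.fwd (nat_lit 81920) (Steps.bwd (nat_lit 9) (Steps.bwd (nat_lit 3) Steps.nil)))))) (nat_lit 61) (nat_lit 2),
  Rule.mk (nat_lit 17) (nat_lit 142) (Steps.bwd (nat_lit 1) (Steps.bwd (nat_lit 10) (Steps.fwd (nat_lit 98304) (Steps.bwd (nat_lit 15) (Steps.fwd (nat_lit 139264) (Steps.fwd (nat_lit 90112) (Steps.fwd (nat_lit 139264) (Steps.fwd (nat_lit 8192) Steps.nil)))))))) (nat_lit 47) (nat_lit 8),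
  Rule.mk (nat_lit 9) (nat_lit 158) (Steps.bwd (nat_lit 1) (Steps.fwd (nat_lit 139264) (Steps.bwd (nat_lit 10) (Steps.fwd (nat_lit 98304) (Steps.bwd (nat_lit 2) (Steps.bwd (nat_lit 4) (Steps.fwd (nat_lit 24576) (Steps.fwd (nat_lit 73728) (Steps.bwd (nat_lit 14) Steps.nil))))))))) (nat_lit 62) (nat_lit 3),
  Rule.mk (nat_lit 16) (nat_lit 142) (Steps.bwd (nat_lit 1) (Steps.bwd (nat_lit 17) (Steps.bwd (nat_lit 11) (Steps.fwd (nat_lit 131072) (Steps.fwd (nat_lit 122880) (Steps.fwd (nat_lit 106496) (Steps.bwd (nat_lit 11) (Steps.bwd (nat_lit 2) Steps.nil)))))))) (nat_lit 46) (nat_lit 2),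
  Rule.mk (nat_lit 15) (nat_lit 126) (Steps.fwd (nat_lit 32768) (Steps.fwd (nat_lit 90112) (Steps.fwd (nat_lit 90112) (Steps.fwd (nat_lit 139264) (Steps.fwd (nat_lit 114688) (Steps.bwd (nat_lit 15) (Steps.bwd (nat_lit 4) Steps.nil))))))) (nat_lit 53) (nat_lit 7),
  Rule.mk (nat_lit 16) (nat_lit 142) (Steps.bwd (nat_lit 1) (Steps.fwd (nat_lit 131072) (Steps.bwd (nat_lit 11) (Steps.bwd (nat_lit 17) (Steps.bwd (nat_lit 14) (Steps.bwd (nat_lit 12) (Steps.bwd (nat_lit 11) (Steps.bwd (nat_lit 2) Steps.nil)))))))) (nat_lit 46) (nat_lit 2),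
  Rule.mk (nat_lit 3) (nat_lit 78) (Steps.fwd (nat_lit 32768) (Steps.bwd (nat_lit 3) (Steps.fwd (nat_lit 32768) (Steps.bwd (nat_lit 3) Steps.nil)))) (nat_lit 2) (nat_lit 0),
  Rule.mk (nat_lit 9) (nat_lit 286) (Steps.fwd (nat_lit 57344) (Steps.fwd (nat_lit 81920) (Steps.bwd (nat_lit 8) (Steps.fwd (nat_lit 32768) (Steps.bwd (nat_lit 2) (Steps.fwd (nat_lit 24576) (Steps.bwd (nat_lit 11) (Steps.fwd (nat_lit 57344) (Steps.bwd (nat_lit 2) (Steps.fwd (nat_lit 81920) (Steps.fwd (nat_lit 16384) (Steps.bwd (nat_lit 11) (Steps.bwd (nat_lit 2) (Steps.fwd (nat_lit 90112) (Steps.fwd (nat_lit 16384) (Steps.fwd (nat_lit 32768) (Steps.bwd (nat_lit 3) Steps.nil))))))))))))))))) (nat_lit 56) (nat_lit 1),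
  Rule.mk (nat_lit 12) (nat_lit 142) (Steps.bwd (nat_lit 11) (Steps.bwd (nat_lit 2) (Steps.bwd (nat_lit 16) (Steps.fwd (nat_lit 16384) (Steps.fwd (nat_lit 131072) (Steps.bwd (nat_lit 11) (Steps.fwd (nat_lit 131072) (Steps.fwd (nat_lit 122880) Steps.nil)))))))) (nat_lit 46) (nat_lit 8),
  Rule.mk (nat_lit 3) (nat_lit 190) (Steps.bwd (nat_lit 1) (Steps.fwd (nat_lit 24576) (Steps.fwd (nat_lit 8192) (Steps.fwd (nat_lit 32768) (Steps.fwd (nat_lit 16384) (Steps.bwd (nat_lit 4) (Steps.bwd (nat_lit 2) (Steps.fwd (nat_lit 32768) (Steps.fwd (nat_lit 16384) (Steps.bwd (nat_lit 4) (Steps.bwd (nat_lit 2) Steps.nil))))))))))) (nat_lit 9) (nat_lit 3),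
  Rule.mk (nat_lit 9) (nat_lit 206) (Steps.fwd (nat_lit 16384) (Steps.fwd (nat_lit 32768) (Steps.bwd (nat_lit 3) (Steps.bwd (nat_lit 1) (Steps.fwd (nat_lit 24576) (Steps.fwd (nat_lit 16384) (Steps.fwd (nat_lit 90112) (Steps.bwd (nat_lit 18) (Steps.bwd (nat_lit 17) (Steps.bwd (nat_lit 9) (Steps.fwd (nat_lit 8192) (Steps.bwd (nat_lit 2) Steps.nil)))))))))))) (nat_lit 69) (nat_lit 0),
  Rule.mk (nat_lit 9) (nat_lit 286) (Steps.bwd (nat_lit 8) (Steps.fwd (nat_lit 81920) (Steps.bwd (nat_lit 8) (Steps.fwd (nat_lit 32768) (Steps.bwd (nat_lit 2) (Steps.bwd (nat_lit 4) (Steps.bwd (nat_lit 11) (Steps.bwd (nat_lit 8) (Steps.bwd (nat_lit 2) (Steps.fwd (nat_lit 81920) (Steps.fwd (nat_lit 16384) (Steps.bwd (nat_lit 11) (Steps.bwd (nat_lit 2) (Steps.fwd (nat_lit 90112) (Steps.bwd (nat_lit 1) (Steps.fwd (nat_lit 32768) (Steps.fwd (nat_lit 32768) Steps.nil))))))))))))))))) (nat_lit 56) (nat_lit 1),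
  Rule.mk (nat_lit 14) (nat_lit 110) (Steps.bwd (nat_lit 4) (Steps.bwd (nat_lit 4) (Steps.bwd (nat_lit 9) (Steps.bwd (nat_lit 16) (Steps.fwd (nat_lit 73728) (Steps.fwd (nat_lit 131072) Steps.nil)))))) (nat_lit 64) (nat_lit 5),
  Rule.mk (nat_lit 2) (nat_lit 126) (Steps.bwd (nat_lit 4) (Steps.bwd (nat_lit 2) (Steps.fwd (nat_lit 24576) (Steps.bwd (nat_lit 2) (Steps.fwd (nat_lit 24576) (Steps.fwd (nat_lit 8192) (Steps.fwd (nat_lit 24576) Steps.nil))))))) (nat_lit 5) (nat_lit 0)]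
noncomputable def R_74 : List (Rule) := [Rule.mk (nat_lit 9) (nat_lit 110) (Steps.bwd (nat_lit 16) (Steps.bwd (nat_lit 11) (Steps.fwd (nat_lit 122880) (Steps.bwd (nat_lit 11) (Steps.fwd (nat_lit 73728) (Steps.bwd (nat_lit 18) Steps.nil)))))) (nat_lit 66) (nat_lit 3),
  Rule.mk (nat_lit 9) (nat_lit 110) (Steps.fwd (nat_lit 155648) (Steps.bwd (nat_lit 9) (Steps.fwd (nat_lit 139264) (Steps.fwd (nat_lit 81920) (Steps.bwd (nat_lit 14) (Steps.bwd (nat_lit 11) Steps.nil)))))) (nat_lit 66) (nat_lit 1),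
  Rule.mk (nat_lit 4) (nat_lit 126) (Steps.bwd (nat_lit 15) (Steps.fwd (nat_lit 32768) (Steps.fwd (nat_lit 90112) (Steps.fwd (nat_lit 90112) (Steps.fwd (nat_lit 139264) (Steps.bwd (nat_lit 15) (Steps.fwd (nat_lit 114688) Steps.nil))))))) (nat_lit 53) (nat_lit 6),
  Rule.mk (nat_lit 1) (nat_lit 110) (Steps.fwd (nat_lit 114688) (Steps.bwd (nat_lit 15) (Steps.bwd (nat_lit 10) (Steps.fwd (nat_lit 139264) (Steps.bwd (nat_lit 2) (Steps.bwd (nat_lit 15) Steps.nil)))))) (nat_lit 45) (nat_lit 0),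
  Rule.mk (nat_lit 9) (nat_lit 158) (Steps.fwd (nat_lit 114688) (Steps.bwd (nat_lit 9) (Steps.bwd (nat_lit 3) (Steps.fwd (nat_lit 32768) (Steps.fwd (nat_lit 16384) (Steps.bwd (nat_lit 12) (Steps.bwd (nat_lit 11) (Steps.bwd (nat_lit 17) (Steps.bwd (nat_lit 2) Steps.nil))))))))) (nat_lit 63) (nat_lit 8),
  Rule.mk (nat_lit 12) (nat_lit 126) (Steps.bwd (nat_lit 3) (Steps.bwd (nat_lit 16) (Steps.bwd (nat_lit 10) (Steps.bwd (nat_lit 16) (Steps.fwd (nat_lit 114688) (Steps.bwd (nat_lit 13) (Steps.fwd (nat_lit 24576) Steps.nil))))))) (nat_lit 50) (nat_lit 2),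
  Rule.mk (nat_lit 3) (nat_lit 158) (Steps.bwd (nat_lit 3) (Steps.fwd (nat_lit 16384) (Steps.fwd (nat_lit 106496) (Steps.fwd (nat_lit 81920) (Steps.fwd (nat_lit 131072) (Steps.fwd (nat_lit 8192) (Steps.bwd (nat_lit 9) (Steps.fwd (nat_lit 114688) (Steps.bwd (nat_lit 9) Steps.nil))))))))) (nat_lit 63) (nat_lit 1),
  Rule.mk (nat_lit 2) (nat_lit 142) (Steps.bwd (nat_lit 16) (Steps.fwd (nat_lit 16384) (Steps.fwd (nat_lit 131072) (Steps.fwd (nat_lit 81920) (Steps.fwd (nat_lit 131072) (Steps.fwd (nat_lit 122880) (Steps.fwd (nat_lit 106496) (Steps.bwd (nat_lit 11) Steps.nil)))))))) (nat_lit 46) (nat_lit 1),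
  Rule.mk (nat_lit 2) (nat_lit 126) (Steps.fwd (nat_lit 65536) (Steps.fwd (nat_lit 155648) (Steps.bwd (nat_lit 7) (Steps.bwd (nat_lit 19) (Steps.fwd (nat_lit 65536) (Steps.bwd (nat_lit 18) (Steps.bwd (nat_lit 2) Steps.nil))))))) (nat_lit 86) (nat_lit 0),
  Rule.mk (nat_lit 15) (nat_lit 110) (Steps.fwd (nat_lit 16384) (Steps.bwd (nat_lit 15) (Steps.fwd (nat_lit 114688) (Steps.bwd (nat_lit 10) (Steps.fwd (nat_lit 139264) (Steps.bwd (nat_lit 2) Steps.nil)))))) (nat_lit 45) (nat_lit 6),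
  Rule.mk (nat_lit 1) (nat_lit 270) (Steps.bwd (nat_lit 9) (Steps.fwd (nat_lit 16384) (Steps.fwd (nat_lit 73728) (Steps.fwd (nat_lit 16384) (Steps.bwd (nat_lit 13) (Steps.fwd (nat_lit 32768) (Steps.bwd (nat_lit 9) (Steps.fwd (nat_lit 57344) (Steps.bwd (nat_lit 1) (Steps.bwd (nat_lit 3) (Steps.fwd (nat_lit 32768) (Steps.bwd (nat_lit 2) (Steps.fwd (nat_lit 24576) (Steps.bwd (nat_lit 11) (Steps.bwd (nat_lit 17) (Steps.fwd (nat_lit 147456) Steps.nil)))))))))))))))) (nat_lit 77) (nat_lit 9),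
  Rule.mk (nat_lit 19) (nat_lit 126) (Steps.bwd (nat_lit 7) (Steps.bwd (nat_lit 18) (Steps.bwd (nat_lit 2) (Steps.bwd (nat_lit 2) (Steps.bwd (nat_lit 7) (Steps.bwd (nat_lit 18) (Steps.bwd (nat_lit 7) Steps.nil))))))) (nat_lit 86) (nat_lit 4),
  Rule.mk (nat_lit 14) (nat_lit 110) (Steps.bwd (nat_lit 2) (Steps.fwd (nat_lit 122880) (Steps.bwd (nat_lit 1) (Steps.fwd (nat_lit 131072) (Steps.bwd (nat_lit 11) (Steps.fwd (nat_lit 122880) Steps.nil)))))) (nat_lit 44) (nat_lit 0),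
  Rule.mk (nat_lit 18) (nat_lit 126) (Steps.bwd (nat_lit 2) (Steps.fwd (nat_lit 8192) (Steps.bwd (nat_lit 7) (Steps.fwd (nat_lit 155648) (Steps.bwd (nat_lit 7) (Steps.fwd (nat_lit 147456) (Steps.bwd (nat_lit 7) Steps.nil))))))) (nat_lit 86) (nat_lit 6),
  Rule.mk (nat_lit 17) (nat_lit 158) (Steps.bwd (nat_lit 2) (Steps.fwd (nat_lit 73728) (Steps.fwd (nat_lit 114688) (Steps.bwd (nat_lit 9) (Steps.bwd (nat_lit 3) (Steps.bwd (nat_lit 3) (Steps.fwd (nat_lit 16384) (Steps.fwd (nat_lit 106496) (Steps.fwd (nat_lit 81920) Steps.nil))))))))) (nat_lit 63) (nat_lit 6),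
  Rule.mk (nat_lit 14) (nat_lit 110) (Steps.bwd (nat_lit 2) (Steps.bwd (nat_lit 14) (Steps.fwd (nat_lit 16384) (Steps.fwd (nat_lit 131072) (Steps.bwd (nat_lit 11) (Steps.bwd (nat_lit 14) Steps.nil)))))) (nat_lit 44) (nat_lit 0),
  Rule.mk (nat_lit 9) (nat_lit 158) (Steps.bwd (nat_lit 3) (Steps.fwd (nat_lit 32768) (Steps.bwd (nat_lit 1) (Steps.bwd (nat_lit 12) (Steps.fwd (nat_lit 81920) (Steps.bwd (nat_lit 17) (Steps.bwd (nat_lit 2) (Steps.bwd (nat_lit 9) (Steps.bwd (nat_lit 15) Steps.nil))))))))) (nat_lit 63) (nat_lit 0),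
  Rule.mk (nat_lit 4) (nat_lit 110) (Steps.bwd (nat_lit 9) (Steps.bwd (nat_lit 10) (Steps.fwd (nat_lit 114688) (Steps.bwd (nat_lit 17) (Steps.bwd (nat_lit 17) (Steps.fwd (nat_lit 73728) Steps.nil)))))) (nat_lit 71) (nat_lit 6),
  Rule.mk (nat_lit 12) (nat_lit 190) (Steps.bwd (nat_lit 9) (Steps.fwd (nat_lit 98304) (Steps.bwd (nat_lit 9) (Steps.bwd (nat_lit 12) (Steps.bwd (nat_lit 17) (Steps.bwd (nat_lit 1) (Steps.bwd (nat_lit 14) (Steps.fwd (nat_lit 16384) (Steps.fwd (nat_lit 16384) (Steps.fwd (nat_lit 16384) (Steps.fwd (nat_lit 73728) Steps.nil))))))))))) (nat_lit 74) (nat_lit 2),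
  Rule.mk (nat_lit 13) (nat_lit 190) (Steps.bwd (nat_lit 9) (Steps.bwd (nat_lit 2) (Steps.bwd (nat_lit 2) (Steps.fwd (nat_lit 8192) (Steps.bwd (nat_lit 15) (Steps.fwd (nat_lit 8192) (Steps.bwd (nat_lit 16) (Steps.bwd (nat_lit 13) (Steps.bwd (nat_lit 9) (Steps.bwd (nat_lit 12) (Steps.fwd (nat_lit 73728) Steps.nil))))))))))) (nat_lit 75) (nat_lit 11),
  Rule.mk (nat_lit 15) (nat_lit 142) (Steps.fwd (nat_lit 139264) (Steps.fwd (nat_lit 90112) (Steps.fwd (nat_lit 139264) (Steps.bwd (nat_lit 2) (Steps.fwd (nat_lit 131072) (Steps.fwd (nat_lit 16384) (Steps.fwd (nat_lit 90112) (Steps.bwd (nat_lit 13) Steps.nil)))))))) (nat_lit 47) (nat_lit 3),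
  Rule.mk (nat_lit 15) (nat_lit 110) (Steps.fwd (nat_lit 114688) (Steps.bwd (nat_lit 10) (Steps.bwd (nat_lit 16) (Steps.bwd (nat_lit 2) (Steps.bwd (nat_lit 15) (Steps.bwd (nat_lit 1) Steps.nil)))))) (nat_lit 45) (nat_lit 1),
  Rule.mk (nat_lit 16) (nat_lit 158) (Steps.bwd (nat_lit 10) (Steps.fwd (nat_lit 98304) (Steps.fwd (nat_lit 8192) (Steps.bwd (nat_lit 4) (Steps.fwd (nat_lit 24576) (Steps.fwd (nat_lit 73728) (Steps.fwd (nat_lit 122880) (Steps.fwd (nat_lit 73728) (Steps.bwd (nat_lit 1) Steps.nil))))))))) (nat_lit 62) (nat_lit 5),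
  Rule.mk (nat_lit 9) (nat_lit 206) (Steps.bwd (nat_lit 2) (Steps.bwd (nat_lit 3) (Steps.fwd (nat_lit 8192) (Steps.fwd (nat_lit 24576) (Steps.bwd (nat_lit 4) (Steps.fwd (nat_lit 8192) (Steps.fwd (nat_lit 73728) (Steps.bwd (nat_lit 1) (Steps.fwd (nat_lit 16384) (Steps.bwd (nat_lit 10) (Steps.fwd (nat_lit 155648) (Steps.fwd (nat_lit 131072) Steps.nil)))))))))))) (nat_lit 73) (nat_lit 6),
  Rule.mk (nat_lit 15) (nat_lit 110) (Steps.bwd (nat_lit 1) (Steps.bwd (nat_lit 15) (Steps.bwd (nat_lit 15) (Steps.bwd (nat_lit 10) (Steps.bwd (nat_lit 16) (Steps.bwd (nat_lit 2) Steps.nil)))))) (nat_lit 45) (nat_lit 6),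
  Rule.mk (nat_lit 10) (nat_lit 110) (Steps.bwd (nat_lit 16) (Steps.bwd (nat_lit 2) (Steps.fwd (nat_lit 114688) (Steps.bwd (nat_lit 1) (Steps.fwd (nat_lit 114688) (Steps.bwd (nat_lit 15) Steps.nil)))))) (nat_lit 45) (nat_lit 3),
  Rule.mk (nat_lit 4) (nat_lit 126) (Steps.bwd (nat_lit 2) (Steps.bwd (nat_lit 4) (Steps.fwd (nat_lit 8192) (Steps.bwd (nat_lit 4) (Steps.bwd (nat_lit 2) (Steps.fwd (nat_lit 24576) (Steps.bwd (nat_lit 2) Steps.nil))))))) (nat_lit 5) (nat_lit 1),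
  Rule.mk (nat_lit 9) (nat_lit 286) (Steps.bwd (nat_lit 4) (Steps.bwd (nat_lit 4) (Steps.fwd (nat_lit 8192) (Steps.fwd (nat_lit 81920) (Steps.fwd (nat_lit 16384) (Steps.fwd (nat_lit 90112) (Steps.bwd (nat_lit 2) (Steps.bwd (nat_lit 10) (Steps.fwd (nat_lit 16384) (Steps.fwd (nat_lit 65536) (Steps.bwd (nat_lit 10) (Steps.bwd (nat_lit 3) (Steps.fwd (nat_lit 16384) (Steps.fwd (nat_lit 24576) (Steps.bwd (nat_lit 7) (Steps.bwd (nat_lit 10) (Steps.bwd (nat_lit 7) Steps.nil))))))))))))))))) (nat_lit 57) (nat_lit 0),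
  Rule.mk (nat_lit 7) (nat_lit 286) (Steps.bwd (nat_lit 9) (Steps.fwd (nat_lit 24576) (Steps.bwd (nat_lit 4) (Steps.bwd (nat_lit 2) (Steps.fwd (nat_lit 81920) (Steps.fwd (nat_lit 16384) (Steps.bwd (nat_lit 10) (Steps.bwd (nat_lit 2) (Steps.fwd (nat_lit 90112) (Steps.fwd (nat_lit 16384) (Steps.bwd (nat_lit 7) (Steps.fwd (nat_lit 90112) (Steps.bwd (nat_lit 3) (Steps.fwd (nat_lit 16384) (Steps.bwd (nat_lit 4) (Steps.bwd (nat_lit 7) (Steps.fwd (nat_lit 90112) Steps.nil))))))))))))))))) (nat_lit 57) (nat_lit 17),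
  Rule.mk (nat_lit 15) (nat_lit 110) (Steps.fwd (nat_lit 90112) (Steps.fwd (nat_lit 139264) (Steps.fwd (nat_lit 8192) (Steps.bwd (nat_lit 15) (Steps.fwd (nat_lit 16384) (Steps.bwd (nat_lit 15) Steps.nil)))))) (nat_lit 45) (nat_lit 2),
  Rule.mk (nat_lit 16) (nat_lit 94) (Steps.fwd (nat_lit 90112) (Steps.fwd (nat_lit 155648) (Steps.bwd (nat_lit 18) (Steps.fwd (nat_lit 131072) (Steps.bwd (nat_lit 11) Steps.nil))))) (nat_lit 35) (nat_lit 5),
  Rule.mk (nat_lit 3) (nat_lit 110) (Steps.bwd (nat_lit 15) (Steps.fwd (nat_lit 139264) (Steps.bwd (nat_lit 9) (Steps.fwd (nat_lit 131072) (Steps.fwd (nat_lit 73728) (Steps.bwd (nat_lit 3) Steps.nil)))))) (nat_lit 65) (nat_lit 2),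
  Rule.mk (nat_lit 9) (nat_lit 286) (Steps.bwd (nat_lit 4) (Steps.fwd (nat_lit 24576) (Steps.fwd (nat_lit 8192) (Steps.bwd (nat_lit 11) (Steps.fwd (nat_lit 16384) (Steps.fwd (nat_lit 90112) (Steps.bwd (nat_lit 2) (Steps.bwd (nat_lit 10) (Steps.fwd (nat_lit 16384) (Steps.bwd (nat_lit 7) (Steps.fwd (nat_lit 90112) (Steps.bwd (nat_lit 3) (Steps.bwd (nat_lit 1) (Steps.fwd (nat_lit 24576) (Steps.fwd (nat_lit 65536) (Steps.fwd (nat_lit 90112) (Steps.bwd (nat_lit 7) Steps.nil))))))))))))))))) (nat_lit 57) (nat_lit 0),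
  Rule.mk (nat_lit 17) (nat_lit 110) (Steps.fwd (nat_lit 73728) (Steps.fwd (nat_lit 32768) (Steps.bwd (nat_lit 3) (Steps.fwd (nat_lit 114688) (Steps.bwd (nat_lit 16) (Steps.bwd (nat_lit 9) Steps.nil)))))) (nat_lit 65) (nat_lit 6),
  Rule.mk (nat_lit 15) (nat_lit 142) (Steps.bwd (nat_lit 16) (Steps.fwd (nat_lit 90112) (Steps.fwd (nat_lit 139264) (Steps.bwd (nat_lit 2) (Steps.fwd (nat_lit 131072) (Steps.bwd (nat_lit 1) (Steps.fwd (nat_lit 90112) (Steps.bwd (nat_lit 13) Steps.nil)))))))) (nat_lit 47) (nat_lit 3),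
  Rule.mk (nat_lit 3) (nat_lit 126) (Steps.bwd (nat_lit 1) (Steps.bwd (nat_lit 3) (Steps.bwd (nat_lit 1) (Steps.bwd (nat_lit 3) (Steps.fwd (nat_lit 16384) (Steps.fwd (nat_lit 32768) (Steps.fwd (nat_lit 16384) Steps.nil))))))) (nat_lit 4) (nat_lit 0),
  Rule.mk (nat_lit 9) (nat_lit 286) (Steps.bwd (nat_lit 4) (Steps.bwd (nat_lit 4) (Steps.bwd (nat_lit 2) (Steps.bwd (nat_lit 11) (Steps.fwd (nat_lit 16384) (Steps.fwd (nat_lit 90112) (Steps.bwd (nat_lit 2) (Steps.fwd (nat_lit 90112) (Steps.bwd (nat_lit 1) (Steps.fwd (nat_lit 65536) (Steps.bwd (nat_lit 10) (Steps.fwd (nat_lit 32768) (Steps.bwd (nat_lit 1) (Steps.fwd (nat_lit 24576) (Steps.bwd (nat_lit 7) (Steps.bwd (nat_lit 10) (Steps.bwd (nat_lit 7) Steps.nil))))))))))))))))) (nat_lit 57) (nat_lit 0),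
  Rule.mk (nat_lit 12) (nat_lit 78) (Steps.fwd (nat_lit 147456) (Steps.fwd (nat_lit 114688) (Steps.fwd (nat_lit 98304) (Steps.bwd (nat_lit 14) Steps.nil)))) (nat_lit 37) (nat_lit 0),
  Rule.mk (nat_lit 9) (nat_lit 158) (Steps.fwd (nat_lit 114688) (Steps.bwd (nat_lit 9) (Steps.bwd (nat_lit 3) (Steps.fwd (nat_lit 32768) (Steps.fwd (nat_lit 16384) (Steps.bwd (nat_lit 12) (Steps.bwd (nat_lit 11) (Steps.fwd (nat_lit 131072) (Steps.bwd (nat_lit 2) Steps.nil))))))))) (nat_lit 63) (nat_lit 8),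
  Rule.mk (nat_lit 1) (nat_lit 206) (Steps.fwd (nat_lit 32768) (Steps.bwd (nat_lit 3) (Steps.fwd (nat_lit 16384) (Steps.bwd (nat_lit 4) (Steps.fwd (nat_lit 16384) (Steps.bwd (nat_lit 10) (Steps.fwd (nat_lit 155648) (Steps.bwd (nat_lit 17) (Steps.fwd (nat_lit 73728) (Steps.bwd (nat_lit 2) (Steps.bwd (nat_lit 2) (Steps.bwd (nat_lit 9) Steps.nil)))))))))))) (nat_lit 69) (nat_lit 1),
  Rule.mk (nat_lit 12) (nat_lit 78) (Steps.bwd (nat_lit 19) (Steps.fwd (nat_lit 81920) (Steps.fwd (nat_lit 98304) (Steps.bwd (nat_lit 10) Steps.nil)))) (nat_lit 19) (nat_lit 4),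
  Rule.mk (nat_lit 9) (nat_lit 206) (Steps.bwd (nat_lit 2) (Steps.bwd (nat_lit 2) (Steps.bwd (nat_lit 9) (Steps.bwd (nat_lit 1) (Steps.fwd (nat_lit 32768) (Steps.bwd (nat_lit 3) (Steps.bwd (nat_lit 1) (Steps.bwd (nat_lit 4) (Steps.fwd (nat_lit 16384) (Steps.bwd (nat_lit 10) (Steps.fwd (nat_lit 155648) (Steps.bwd (nat_lit 17) Steps.nil)))))))))))) (nat_lit 69) (nat_lit 10),
  Rule.mk (nat_lit 4) (nat_lit 62) (Steps.fwd (nat_lit 139264) (Steps.fwd (nat_lit 32768) (Steps.bwd (nat_lit 6) Steps.nil))) (nat_lit 16) (nat_lit 0),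
  Rule.mk (nat_lit 0) (nat_lit 78) (Steps.bwd (nat_lit 4) (Steps.fwd (nat_lit 155648) (Steps.fwd (nat_lit 32768) (Steps.bwd (nat_lit 19) Steps.nil)))) (nat_lit 54) (nat_lit 0),
  Rule.mk (nat_lit 0) (nat_lit 78) (Steps.fwd (nat_lit 24576) (Steps.bwd (nat_lit 7) (Steps.fwd (nat_lit 32768) (Steps.fwd (nat_lit 57344) Steps.nil)))) (nat_lit 81) (nat_lit 1),
  Rule.mk (nat_lit 9) (nat_lit 110) (Steps.bwd (nat_lit 4) (Steps.bwd (nat_lit 9) (Steps.fwd (nat_lit 90112) (Steps.fwd (nat_lit 114688) (Steps.fwd (nat_lit 131072) (Steps.fwd (nat_lit 131072) Steps.nil)))))) (nat_lit 71) (nat_lit 5),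
  Rule.mk (nat_lit 16) (nat_lit 110) (Steps.bwd (nat_lit 2) (Steps.fwd (nat_lit 114688) (Steps.fwd (nat_lit 16384) (Steps.fwd (nat_lit 114688) (Steps.fwd (nat_lit 114688) (Steps.bwd (nat_lit 10) Steps.nil)))))) (nat_lit 45) (nat_lit 4),
  Rule.mk (nat_lit 18) (nat_lit 126) (Steps.bwd (nat_lit 2) (Steps.fwd (nat_lit 8192) (Steps.fwd (nat_lit 65536) (Steps.bwd (nat_lit 18) (Steps.fwd (nat_lit 65536) (Steps.fwd (nat_lit 147456) (Steps.fwd (nat_lit 65536) Steps.nil))))))) (nat_lit 86) (nat_lit 6),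
  Rule.mk (nat_lit 16) (nat_lit 110) (Steps.fwd (nat_lit 73728) (Steps.fwd (nat_lit 131072) (Steps.fwd (nat_lit 122880) (Steps.fwd (nat_lit 24576) (Steps.bwd (nat_lit 4) (Steps.fwd (nat_lit 73728) Steps.nil)))))) (nat_lit 64) (nat_lit 2),
  Rule.mk (nat_lit 19) (nat_lit 78) (Steps.fwd (nat_lit 147456) (Steps.bwd (nat_lit 2) (Steps.bwd (nat_lit 18) (Steps.bwd (nat_lit 1) Steps.nil)))) (nat_lit 48) (nat_lit 4),
  Rule.mk (nat_lit 9) (nat_lit 110) (Steps.fwd (nat_lit 131072) (Steps.bwd (nat_lit 14) (Steps.fwd (nat_lit 24576) (Steps.bwd (nat_lit 4) (Steps.fwd (nat_lit 73728) (Steps.bwd (nat_lit 16) Steps.nil)))))) (nat_lit 64) (nat_lit 3),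
  Rule.mk (nat_lit 1) (nat_lit 206) (Steps.bwd (nat_lit 10) (Steps.bwd (nat_lit 18) (Steps.fwd (nat_lit 131072) (Steps.fwd (nat_lit 73728) (Steps.bwd (nat_lit 2) (Steps.bwd (nat_lit 2) (Steps.bwd (nat_lit 9) (Steps.fwd (nat_lit 16384) (Steps.fwd (nat_lit 32768) (Steps.bwd (nat_lit 3) (Steps.fwd (nat_lit 16384) (Steps.bwd (nat_lit 4) Steps.nil)))))))))))) (nat_lit 69) (nat_lit 6),
  Rule.mk (nat_lit 7) (nat_lit 94) (Steps.fwd (nat_lit 8192) (Steps.fwd (nat_lit 8192) (Steps.bwd (nat_lit 2) (Steps.fwd (nat_lit 57344) (Steps.bwd (nat_lit 1) Steps.nil))))) (nat_lit 82) (nat_lit 3),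
  Rule.mk (nat_lit 13) (nat_lit 190) (Steps.bwd (nat_lit 9) (Steps.fwd (nat_lit 8192) (Steps.bwd (nat_lit 2) (Steps.bwd (nat_lit 2) (Steps.fwd (nat_lit 114688) (Steps.bwd (nat_lit 2) (Steps.bwd (nat_lit 16) (Steps.bwd (nat_lit 13) (Steps.bwd (nat_lit 9) (Steps.bwd (nat_lit 12) (Steps.bwd (nat_lit 9) Steps.nil))))))))))) (nat_lit 75) (nat_lit 11),
  Rule.mk (nat_lit 2) (nat_lit 94) (Steps.bwd (nat_lit 2) (Steps.fwd (nat_lit 24576) (Steps.fwd (nat_lit 16384) (Steps.bwd (nat_lit 1) (Steps.bwd (nat_lit 3) Steps.nil))))) (nat_lit 6) (nat_lit 1),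
  Rule.mk (nat_lit 15) (nat_lit 190) (Steps.bwd (nat_lit 2) (Steps.fwd (nat_lit 139264) (Steps.bwd (nat_lit 13) (Steps.fwd (nat_lit 73728) (Steps.bwd (nat_lit 12) (Steps.fwd (nat_lit 73728) (Steps.bwd (nat_lit 13) (Steps.fwd (nat_lit 73728) (Steps.bwd (nat_lit 2) (Steps.bwd (nat_lit 2) (Steps.bwd (nat_lit 2) Steps.nil))))))))))) (nat_lit 75) (nat_lit 4),
  Rule.mk (nat_lit 4) (nat_lit 110) (Steps.bwd (nat_lit 9) (Steps.fwd (nat_lit 90112) (Steps.fwd (nat_lit 114688) (Steps.bwd (nat_lit 17) (Steps.fwd (nat_lit 131072) (Steps.bwd (nat_lit 9) Steps.nil)))))) (nat_lit 71) (nat_lit 6),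
  Rule.mk (nat_lit 11) (nat_lit 110) (Steps.bwd (nat_lit 9) (Steps.bwd (nat_lit 3) (Steps.bwd (nat_lit 14) (Steps.fwd (nat_lit 32768) (Steps.bwd (nat_lit 11) (Steps.fwd (nat_lit 73728) Steps.nil)))))) (nat_lit 61) (nat_lit 6),
  Rule.mk (nat_lit 16) (nat_lit 110) (Steps.bwd (nat_lit 9) (Steps.fwd (nat_lit 131072) (Steps.bwd (nat_lit 14) (Steps.bwd (nat_lit 4) (Steps.bwd (nat_lit 4) (Steps.bwd (nat_lit 9) Steps.nil)))))) (nat_lit 64) (nat_lit 2),
  Rule.mk (nat_lit 19) (nat_lit 110) (Steps.bwd (nat_lit 9) (Steps.fwd (nat_lit 90112) (Steps.bwd (nat_lit 15) (Steps.bwd (nat_lit 10) (Steps.fwd (nat_lit 131072) (Steps.bwd (nat_lit 9) Steps.nil)))))) (nat_lit 67) (nat_lit 6),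
  Rule.mk (nat_lit 2) (nat_lit 158) (Steps.bwd (nat_lit 9) (Steps.fwd (nat_lit 114688) (Steps.bwd (nat_lit 9) (Steps.bwd (nat_lit 3) (Steps.bwd (nat_lit 3) (Steps.bwd (nat_lit 1) (Steps.fwd (nat_lit 106496) (Steps.bwd (nat_lit 11) (Steps.fwd (nat_lit 131072) Steps.nil))))))))) (nat_lit 63) (nat_lit 7),
  Rule.mk (nat_lit 10) (nat_lit 94) (Steps.fwd (nat_lit 155648) (Steps.bwd (nat_lit 18) (Steps.bwd (nat_lit 17) (Steps.bwd (nat_lit 11) (Steps.bwd (nat_lit 16) Steps.nil))))) (nat_lit 35) (nat_lit 0),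
  Rule.mk (nat_lit 11) (nat_lit 110) (Steps.bwd (nat_lit 14) (Steps.bwd (nat_lit 11) (Steps.bwd (nat_lit 9) (Steps.bwd (nat_lit 18) (Steps.fwd (nat_lit 73728) (Steps.bwd (nat_lit 16) Steps.nil)))))) (nat_lit 66) (nat_lit 5),
  Rule.mk (nat_lit 17) (nat_lit 110) (Steps.bwd (nat_lit 11) (Steps.bwd (nat_lit 14) (Steps.bwd (nat_lit 14) (Steps.bwd (nat_lit 2) (Steps.bwd (nat_lit 14) (Steps.fwd (nat_lit 16384) Steps.nil)))))) (nat_lit 44) (nat_lit 4)]
noncomputable def R_75 : List (Rule) := [Rule.mk (nat_lit 2) (nat_lit 270) (Steps.fwd (nat_lit 24576) (Steps.bwd (nat_lit 11) (Steps.bwd (nat_lit 17) (Steps.bwd (nat_lit 19) (Steps.bwd (nat_lit 1) (Steps.fwd (nat_lit 73728) (Steps.fwd (nat_lit 16384) (Steps.bwd (nat_lit 9) (Steps.bwd (nat_lit 1) (Steps.bwd (nat_lit 13) (Steps.bwd (nat_lit 3) (Steps.fwd (nat_lit 73728) (Steps.bwd (nat_lit 8) (Steps.bwd (nat_lit 1) (Steps.fwd (nat_lit 32768) (Steps.bwd (nat_lit 3) Steps.nil))))))))))))))))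 (nat_lit 77) (nat_lit 4),
  Rule.mk (nat_lit 9) (nat_lit 110) (Steps.bwd (nat_lit 3) (Steps.fwd (nat_lit 73728) (Steps.fwd (nat_lit 139264) (Steps.fwd (nat_lit 139264) (Steps.fwd (nat_lit 122880) (Steps.bwd (nat_lit 11) Steps.nil)))))) (nat_lit 70) (nat_lit 1),
  Rule.mk (nat_lit 12) (nat_lit 126) (Steps.bwd (nat_lit 3) (Steps.fwd (nat_lit 139264) (Steps.fwd (nat_lit 90112) (Steps.fwd (nat_lit 139264) (Steps.bwd (nat_lit 15) (Steps.fwd (nat_lit 98304) (Steps.bwd (nat_lit 4) Steps.nil))))))) (nat_lit 50) (nat_lit 2),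
  Rule.mk (nat_lit 15) (nat_lit 126) (Steps.bwd (nat_lit 3) (Steps.bwd (nat_lit 10) (Steps.fwd (nat_lit 90112) (Steps.fwd (nat_lit 139264) (Steps.fwd (nat_lit 114688) (Steps.fwd (nat_lit 114688) (Steps.fwd (nat_lit 24576) Steps.nil))))))) (nat_lit 53) (nat_lit 7),
  Rule.mk (nat_lit 17) (nat_lit 110) (Steps.bwd (nat_lit 11) (Steps.fwd (nat_lit 122880) (Steps.fwd (nat_lit 122880) (Steps.bwd (nat_lit 2) (Steps.bwd (nat_lit 14) (Steps.bwd (nat_lit 1) Steps.nil)))))) (nat_lit 44) (nat_lit 4),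
  Rule.mk (nat_lit 9) (nat_lit 110) (Steps.bwd (nat_lit 11) (Steps.fwd (nat_lit 73728) (Steps.fwd (nat_lit 32768) (Steps.bwd (nat_lit 14) (Steps.bwd (nat_lit 3) (Steps.bwd (nat_lit 11) Steps.nil)))))) (nat_lit 61) (nat_lit 5),
  Rule.mk (nat_lit 1) (nat_lit 142) (Steps.fwd (nat_lit 90112) (Steps.bwd (nat_lit 13) (Steps.bwd (nat_lit 15) (Steps.fwd (nat_lit 139264) (Steps.fwd (nat_lit 90112) (Steps.bwd (nat_lit 16) (Steps.fwd (nat_lit 8192) (Steps.bwd (nat_lit 17) Steps.nil)))))))) (nat_lit 47) (nat_lit 0),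
  Rule.mk (nat_lit 14) (nat_lit 158) (Steps.bwd (nat_lit 9) (Steps.fwd (nat_lit 16384) (Steps.bwd (nat_lit 16) (Steps.fwd (nat_lit 90112) (Steps.bwd (nat_lit 13) (Steps.bwd (nat_lit 2) (Steps.bwd (nat_lit 4) (Steps.fwd (nat_lit 24576) (Steps.fwd (nat_lit 73728) Steps.nil))))))))) (nat_lit 62) (nat_lit 2),
  Rule.mk (nat_lit 11) (nat_lit 286) (Steps.fwd (nat_lit 16384) (Steps.bwd (nat_lit 11) (Steps.bwd (nat_lit 2) (Steps.fwd (nat_lit 90112) (Steps.bwd (nat_lit 1) (Steps.fwd (nat_lit 32768) (Steps.fwd (nat_lit 32768) (Steps.bwd (nat_lit 9) (Steps.fwd (nat_lit 57344) (Steps.bwd (nat_lit 11) (Steps.bwd (nat_lit 8) (Steps.fwd (nat_lit 32768) (Steps.fwd (nat_lit 8192) (Steps.fwd (nat_lit 24576) (Steps.bwd (nat_lit 11) (Steps.bwd (nat_lit 8) (Steps.bwd (nat_lit 2) Steps.nil))))))))))))))))) (nat_lit 56) (nat_lit 11),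
  Rule.mk (nat_lit 9) (nat_lit 110) (Steps.fwd (nat_lit 147456) (Steps.bwd (nat_lit 9) (Steps.fwd (nat_lit 90112) (Steps.fwd (nat_lit 114688) (Steps.fwd (nat_lit 90112) (Steps.bwd (nat_lit 17) Steps.nil)))))) (nat_lit 67) (nat_lit 5),
  Rule.mk (nat_lit 14) (nat_lit 110) (Steps.bwd (nat_lit 3) (Steps.fwd (nat_lit 81920) (Steps.fwd (nat_lit 73728) (Steps.bwd (nat_lit 11) (Steps.bwd (nat_lit 9) (Steps.fwd (nat_lit 32768) Steps.nil)))))) (nat_lit 61) (nat_lit 2),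
  Rule.mk (nat_lit 2) (nat_lit 110) (Steps.fwd (nat_lit 114688) (Steps.fwd (nat_lit 16384) (Steps.fwd (nat_lit 114688) (Steps.fwd (nat_lit 114688) (Steps.bwd (nat_lit 10) (Steps.bwd (nat_lit 16) Steps.nil)))))) (nat_lit 45) (nat_lit 5),
  Rule.mk (nat_lit 14) (nat_lit 110) (Steps.bwd (nat_lit 3) (Steps.fwd (nat_lit 81920) (Steps.bwd (nat_lit 9) (Steps.bwd (nat_lit 11) (Steps.fwd (nat_lit 73728) (Steps.bwd (nat_lit 3) Steps.nil)))))) (nat_lit 61) (nat_lit 2),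
  Rule.mk (nat_lit 14) (nat_lit 126) (Steps.fwd (nat_lit 131072) (Steps.bwd (nat_lit 11) (Steps.fwd (nat_lit 131072) (Steps.fwd (nat_lit 24576) (Steps.fwd (nat_lit 98304) (Steps.bwd (nat_lit 3) (Steps.bwd (nat_lit 12) Steps.nil))))))) (nat_lit 51) (nat_lit 2),
  Rule.mk (nat_lit 11) (nat_lit 142) (Steps.fwd (nat_lit 8192) (Steps.fwd (nat_lit 139264) (Steps.fwd (nat_lit 16384) (Steps.bwd (nat_lit 17) (Steps.fwd (nat_lit 81920) (Steps.fwd (nat_lit 131072) (Steps.fwd (nat_lit 122880) (Steps.bwd (nat_lit 12) Steps.nil)))))))) (nat_lit 46) (nat_lit 0),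
  Rule.mk (nat_lit 15) (nat_lit 110) (Steps.bwd (nat_lit 1) (Steps.bwd (nat_lit 15) (Steps.bwd (nat_lit 15) (Steps.bwd (nat_lit 10) (Steps.fwd (nat_lit 139264) (Steps.fwd (nat_lit 8192) Steps.nil)))))) (nat_lit 45) (nat_lit 6),
  Rule.mk (nat_lit 17) (nat_lit 126) (Steps.bwd (nat_lit 4) (Steps.bwd (nat_lit 13) (Steps.fwd (nat_lit 32768) (Steps.bwd (nat_lit 12) (Steps.bwd (nat_lit 14) (Steps.bwd (nat_lit 17) (Steps.fwd (nat_lit 81920) Steps.nil))))))) (nat_lit 51) (nat_lit 5),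
  Rule.mk (nat_lit 11) (nat_lit 126) (Steps.bwd (nat_lit 4) (Steps.bwd (nat_lit 14) (Steps.fwd (nat_lit 32768) (Steps.bwd (nat_lit 14) (Steps.fwd (nat_lit 122880) (Steps.bwd (nat_lit 17) (Steps.bwd (nat_lit 11) Steps.nil))))))) (nat_lit 52) (nat_lit 0),
  Rule.mk (nat_lit 9) (nat_lit 206) (Steps.bwd (nat_lit 1) (Steps.fwd (nat_lit 32768) (Steps.fwd (nat_lit 32768) (Steps.bwd (nat_lit 1) (Steps.bwd (nat_lit 4) (Steps.bwd (nat_lit 1) (Steps.fwd (nat_lit 73728) (Steps.bwd (nat_lit 16) (Steps.fwd (nat_lit 147456) (Steps.fwd (nat_lit 81920) (Steps.fwd (nat_lit 8192) (Steps.bwd (nat_lit 2) Steps.nil)))))))))))) (nat_lit 72) (nat_lit 1),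
  Rule.mk (nat_lit 18) (nat_lit 110) (Steps.bwd (nat_lit 9) (Steps.bwd (nat_lit 16) (Steps.fwd (nat_lit 81920) (Steps.bwd (nat_lit 14) (Steps.bwd (nat_lit 11) (Steps.fwd (nat_lit 73728) Steps.nil)))))) (nat_lit 66) (nat_lit 2),
  Rule.mk (nat_lit 15) (nat_lit 78) (Steps.fwd (nat_lit 139264) (Steps.fwd (nat_lit 122880) (Steps.bwd (nat_lit 19) (Steps.bwd (nat_lit 17) Steps.nil)))) (nat_lit 41) (nat_lit 3),
  Rule.mk (nat_lit 10) (nat_lit 110) (Steps.bwd (nat_lit 15) (Steps.fwd (nat_lit 131072) (Steps.fwd (nat_lit 131072) (Steps.fwd (nat_lit 73728) (Steps.fwd (nat_lit 24576) (Steps.fwd (nat_lit 73728) Steps.nil)))))) (nat_lit 71) (nat_lit 1),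
  Rule.mk (nat_lit 13) (nat_lit 142) (Steps.bwd (nat_lit 15) (Steps.fwd (nat_lit 139264) (Steps.fwd (nat_lit 90112) (Steps.fwd (nat_lit 139264) (Steps.bwd (nat_lit 2) (Steps.bwd (nat_lit 17) (Steps.bwd (nat_lit 1) (Steps.bwd (nat_lit 10) Steps.nil)))))))) (nat_lit 47) (nat_lit 2),
  Rule.mk (nat_lit 16) (nat_lit 110) (Steps.bwd (nat_lit 2) (Steps.bwd (nat_lit 15) (Steps.fwd (nat_lit 16384) (Steps.fwd (nat_lit 114688) (Steps.fwd (nat_lit 114688) (Steps.bwd (nat_lit 10) Steps.nil)))))) (nat_lit 45) (nat_lit 4),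
  Rule.mk (nat_lit 3) (nat_lit 126) (Steps.bwd (nat_lit 16) (Steps.fwd (nat_lit 90112) (Steps.fwd (nat_lit 139264) (Steps.bwd (nat_lit 15) (Steps.fwd (nat_lit 98304) (Steps.fwd (nat_lit 24576) (Steps.bwd (nat_lit 12) Steps.nil))))))) (nat_lit 50) (nat_lit 3),
  Rule.mk (nat_lit 9) (nat_lit 190) (Steps.fwd (nat_lit 98304) (Steps.bwd (nat_lit 9) (Steps.bwd (nat_lit 12) (Steps.fwd (nat_lit 131072) (Steps.fwd (nat_lit 16384) (Steps.bwd (nat_lit 14) (Steps.fwd (nat_lit 16384) (Steps.bwd (nat_lit 1) (Steps.bwd (nat_lit 1) (Steps.bwd (nat_lit 9) (Steps.fwd (nat_lit 106496) Steps.nil))))))))))) (nat_lit 74) (nat_lit 3),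
  Rule.mk (nat_lit 8) (nat_lit 286) (Steps.fwd (nat_lit 81920) (Steps.bwd (nat_lit 8) (Steps.fwd (nat_lit 32768) (Steps.fwd (nat_lit 8192) (Steps.fwd (nat_lit 24576) (Steps.fwd (nat_lit 81920) (Steps.fwd (nat_lit 57344) (Steps.fwd (nat_lit 8192) (Steps.bwd (nat_lit 11) (Steps.bwd (nat_lit 1) (Steps.fwd (nat_lit 81920) (Steps.fwd (nat_lit 8192) (Steps.bwd (nat_lit 10) (Steps.bwd (nat_lit 1) (Steps.bwd (nat_lit 3) (Steps.bwd (nat_lit 3) (Steps.bwd (nat_lit 9) Steps.nil))))))))))))))))) (nat_lit 56) (nat_lit 2),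
  Rule.mk (nat_lit 10) (nat_lit 142) (Steps.bwd (nat_lit 13) (Steps.fwd (nat_lit 114688) (Steps.bwd (nat_lit 16) (Steps.bwd (nat_lit 10) (Steps.fwd (nat_lit 139264) (Steps.bwd (nat_lit 2) (Steps.fwd (nat_lit 131072) (Steps.fwd (nat_lit 16384) Steps.nil)))))))) (nat_lit 47) (nat_lit 1),
  Rule.mk (nat_lit 7) (nat_lit 94) (Steps.fwd (nat_lit 16384) (Steps.fwd (nat_lit 16384) (Steps.fwd (nat_lit 16384) (Steps.fwd (nat_lit 57344) (Steps.bwd (nat_lit 2) Steps.nil))))) (nat_lit 83) (nat_lit 0),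
  Rule.mk (nat_lit 15) (nat_lit 126) (Steps.bwd (nat_lit 4) (Steps.bwd (nat_lit 15) (Steps.fwd (nat_lit 32768) (Steps.fwd (nat_lit 90112) (Steps.fwd (nat_lit 90112) (Steps.fwd (nat_lit 139264) (Steps.fwd (nat_lit 114688) Steps.nil))))))) (nat_lit 53) (nat_lit 5),
  Rule.mk (nat_lit 9) (nat_lit 270) (Steps.bwd (nat_lit 4) (Steps.bwd (nat_lit 12) (Steps.fwd (nat_lit 8192) (Steps.fwd (nat_lit 73728) (Steps.bwd (nat_lit 2) (Steps.fwd (nat_lit 73728) (Steps.fwd (nat_lit 8192) (Steps.bwd (nat_lit 18) (Steps.bwd (nat_lit 16) (Steps.bwd (nat_lit 10) (Steps.fwd (nat_lit 32768) (Steps.fwd (nat_lit 16384) (Steps.bwd (nat_lit 4) (Steps.bwd (nat_lit 4) (Steps.bwd (nat_lit 2) (Steps.bwd (nat_lit 7) Steps.nil)))))))))))))))) (nat_lit 76) (nat_lit 2),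
  Rule.mk (nat_lit 9) (nat_lit 190) (Steps.bwd (nat_lit 12) (Steps.bwd (nat_lit 17) (Steps.fwd (nat_lit 16384) (Steps.bwd (nat_lit 14) (Steps.fwd (nat_lit 16384) (Steps.bwd (nat_lit 1) (Steps.fwd (nat_lit 16384) (Steps.bwd (nat_lit 9) (Steps.bwd (nat_lit 12) (Steps.fwd (nat_lit 73728) (Steps.fwd (nat_lit 98304) Steps.nil))))))))))) (nat_lit 74) (nat_lit 5),
  Rule.mk (nat_lit 3) (nat_lit 206) (Steps.bwd (nat_lit 1) (Steps.fwd (nat_lit 24576) (Steps.bwd (nat_lit 1) (Steps.fwd (nat_lit 90112) (Steps.bwd (nat_lit 18) (Steps.bwd (nat_lit 17) (Steps.fwd (nat_lit 73728) (Steps.fwd (nat_lit 8192) (Steps.bwd (nat_lit 2) (Steps.bwd (nat_lit 9) (Steps.bwd (nat_lit 1) (Steps.bwd (nat_lit 3) Steps.nil)))))))))))) (nat_lit 69) (nat_lit 3),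
  Rule.mk (nat_lit 2) (nat_lit 142) (Steps.bwd (nat_lit 17) (Steps.bwd (nat_lit 1) (Steps.bwd (nat_lit 10) (Steps.fwd (nat_lit 98304) (Steps.bwd (nat_lit 15) (Steps.fwd (nat_lit 139264) (Steps.bwd (nat_lit 10) (Steps.bwd (nat_lit 16) Steps.nil)))))))) (nat_lit 47) (nat_lit 7),
  Rule.mk (nat_lit 2) (nat_lit 94) (Steps.fwd (nat_lit 24576) (Steps.fwd (nat_lit 16384) (Steps.fwd (nat_lit 16384) (Steps.bwd (nat_lit 3) (Steps.bwd (nat_lit 2) Steps.nil))))) (nat_lit 6) (nat_lit 2),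
  Rule.mk (nat_lit 15) (nat_lit 110) (Steps.fwd (nat_lit 16384) (Steps.fwd (nat_lit 114688) (Steps.bwd (nat_lit 15) (Steps.bwd (nat_lit 10) (Steps.bwd (nat_lit 16) (Steps.bwd (nat_lit 2) Steps.nil)))))) (nat_lit 45) (nat_lit 6),
  Rule.mk (nat_lit 9) (nat_lit 110) (Steps.fwd (nat_lit 139264) (Steps.bwd (nat_lit 9) (Steps.fwd (nat_lit 131072) (Steps.bwd (nat_lit 14) (Steps.fwd (nat_lit 24576) (Steps.fwd (nat_lit 24576) Steps.nil)))))) (nat_lit 64) (nat_lit 1),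
  Rule.mk (nat_lit 9) (nat_lit 270) (Steps.bwd (nat_lit 2) (Steps.bwd (nat_lit 9) (Steps.bwd (nat_lit 2) (Steps.fwd (nat_lit 155648) (Steps.bwd (nat_lit 16) (Steps.fwd (nat_lit 90112) (Steps.fwd (nat_lit 32768) (Steps.bwd (nat_lit 1) (Steps.fwd (nat_lit 24576) (Steps.fwd (nat_lit 24576) (Steps.bwd (nat_lit 2) (Steps.fwd (nat_lit 65536) (Steps.bwd (nat_lit 9) (Steps.bwd (nat_lit 4) (Steps.bwd (nat_lit 12) (Steps.fwd (nat_lit 8192) Steps.nil)))))))))))))))) (nat_lit 76) (nat_lit 6),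
  Rule.mk (nat_lit 1) (nat_lit 94) (Steps.bwd (nat_lit 1) (Steps.bwd (nat_lit 4) (Steps.bwd (nat_lit 2) (Steps.bwd (nat_lit 2) (Steps.bwd (nat_lit 3) Steps.nil))))) (nat_lit 7) (nat_lit 5),
  Rule.mk (nat_lit 8) (nat_lit 126) (Steps.bwd (nat_lit 1) (Steps.fwd (nat_lit 16384) (Steps.bwd (nat_lit 19) (Steps.bwd (nat_lit 8) (Steps.bwd (nat_lit 18) (Steps.bwd (nat_lit 8) (Steps.bwd (nat_lit 19) Steps.nil))))))) (nat_lit 87) (nat_lit 0),
  Rule.mk (nat_lit 17) (nat_lit 142) (Steps.bwd (nat_lit 1) (Steps.bwd (nat_lit 10) (Steps.bwd (nat_lit 13) (Steps.bwd (nat_lit 15) (Steps.fwd (nat_lit 139264) (Steps.bwd (nat_lit 10) (Steps.fwd (nat_lit 139264) (Steps.fwd (nat_lit 8192) Steps.nil)))))))) (nat_lit 47) (nat_lit 8),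
  Rule.mk (nat_lit 0) (nat_lit 78) (Steps.bwd (nat_lit 14) (Steps.fwd (nat_lit 24576) (Steps.fwd (nat_lit 40960) (Steps.bwd (nat_lit 3) Steps.nil)))) (nat_lit 14) (nat_lit 0),
  Rule.mk (nat_lit 13) (nat_lit 270) (Steps.bwd (nat_lit 3) (Steps.bwd (nat_lit 9) (Steps.fwd (nat_lit 57344) (Steps.fwd (nat_lit 16384) (Steps.fwd (nat_lit 32768) (Steps.fwd (nat_lit 32768) (Steps.bwd (nat_lit 2) (Steps.bwd (nat_lit 4) (Steps.fwd (nat_lit 81920) (Steps.bwd (nat_lit 17) (Steps.bwd (nat_lit 19) (Steps.fwd (nat_lit 16384) (Steps.fwd (nat_lit 73728) (Steps.bwd (nat_lit 1) (Steps.fwd (nat_lit 73728) (Steps.fwd (nat_lit 16384) Steps.nil)))))))))))))))) (nat_lit 77) (nat_lit 14),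
  Rule.mk (nat_lit 9) (nat_lit 206) (Steps.bwd (nat_lit 2) (Steps.bwd (nat_lit 2) (Steps.bwd (nat_lit 9) (Steps.bwd (nat_lit 1) (Steps.bwd (nat_lit 3) (Steps.fwd (nat_lit 32768) (Steps.bwd (nat_lit 1) (Steps.fwd (nat_lit 24576) (Steps.bwd (nat_lit 1) (Steps.bwd (nat_lit 10) (Steps.bwd (nat_lit 18) (Steps.fwd (nat_lit 131072) Steps.nil)))))))))))) (nat_lit 69) (nat_lit 10),
  Rule.mk (nat_lit 11) (nat_lit 206) (Steps.bwd (nat_lit 2) (Steps.bwd (nat_lit 2) (Steps.bwd (nat_lit 9) (Steps.bwd (nat_lit 1) (Steps.bwd (nat_lit 3) (Steps.fwd (nat_lit 32768) (Steps.bwd (nat_lit 1) (Steps.fwd (nat_lit 24576) (Steps.bwd (nat_lit 1) (Steps.fwd (nat_lit 73728) (Steps.bwd (nat_lit 16) (Steps.bwd (nat_lit 19) Steps.nil)))))))))))) (nat_lit 72) (nat_lit 11),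
  Rule.mk (nat_lit 18) (nat_lit 126) (Steps.bwd (nat_lit 7) (Steps.bwd (nat_lit 19) (Steps.bwd (nat_lit 7) (Steps.bwd (nat_lit 18) (Steps.fwd (nat_lit 8192) (Steps.fwd (nat_lit 8192) (Steps.bwd (nat_lit 7) Steps.nil))))))) (nat_lit 86) (nat_lit 2),
  Rule.mk (nat_lit 2) (nat_lit 94) (Steps.bwd (nat_lit 7) (Steps.fwd (nat_lit 65536) (Steps.fwd (nat_lit 8192) (Steps.bwd (nat_lit 2) (Steps.fwd (nat_lit 8192) Steps.nil))))) (nat_lit 78) (nat_lit 0),
  Rule.mk (nat_lit 16) (nat_lit 142) (Steps.bwd (nat_lit 1) (Steps.bwd (nat_lit 17) (Steps.fwd (nat_lit 81920) (Steps.bwd (nat_lit 17) (Steps.fwd (nat_lit 122880) (Steps.fwd (nat_lit 106496) (Steps.fwd (nat_lit 81920) (Steps.bwd (nat_lit 2) Steps.nil)))))))) (nat_lit 46) (nat_lit 2),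
  Rule.mk (nat_lit 9) (nat_lit 158) (Steps.bwd (nat_lit 15) (Steps.fwd (nat_lit 73728) (Steps.bwd (nat_lit 3) (Steps.bwd (nat_lit 3) (Steps.bwd (nat_lit 1) (Steps.bwd (nat_lit 12) (Steps.bwd (nat_lit 11) (Steps.bwd (nat_lit 17) (Steps.bwd (nat_lit 2) Steps.nil))))))))) (nat_lit 63) (nat_lit 8),
  Rule.mk (nat_lit 11) (nat_lit 286) (Steps.fwd (nat_lit 16384) (Steps.bwd (nat_lit 11) (Steps.fwd (nat_lit 8192) (Steps.bwd (nat_lit 10) (Steps.bwd (nat_lit 1) (Steps.bwd (nat_lit 3) (Steps.fwd (nat_lit 32768) (Steps.fwd (nat_lit 73728) (Steps.bwd (nat_lit 8) (Steps.fwd (nat_lit 81920) (Steps.bwd (nat_lit 8) (Steps.fwd (nat_lit 32768) (Steps.bwd (nat_lit 2) (Steps.bwd (nat_lit 4) (Steps.fwd (nat_lit 81920) (Steps.bwd (nat_lit 8) (Steps.bwd (nat_lit 2) Steps.nil))))))))))))))))) (nat_lit 56) (nat_lit 11),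
  Rule.mk (nat_lit 4) (nat_lit 126) (Steps.bwd (nat_lit 12) (Steps.bwd (nat_lit 3) (Steps.bwd (nat_lit 16) (Steps.fwd (nat_lit 90112) (Steps.bwd (nat_lit 16) (Steps.fwd (nat_lit 114688) (Steps.fwd (nat_lit 98304) Steps.nil))))))) (nat_lit 50) (nat_lit 1),
  Rule.mk (nat_lit 1) (nat_lit 110) (Steps.bwd (nat_lit 15) (Steps.fwd (nat_lit 114688) (Steps.fwd (nat_lit 90112) (Steps.bwd (nat_lit 16) (Steps.bwd (nat_lit 2) (Steps.fwd (nat_lit 114688) Steps.nil)))))) (nat_lit 45) (nat_lit 0),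
  Rule.mk (nat_lit 16) (nat_lit 126) (Steps.bwd (nat_lit 15) (Steps.fwd (nat_lit 114688) (Steps.fwd (nat_lit 24576) (Steps.bwd (nat_lit 15) (Steps.fwd (nat_lit 32768) (Steps.bwd (nat_lit 10) (Steps.fwd (nat_lit 90112) Steps.nil))))))) (nat_lit 53) (nat_lit 3),
  Rule.mk (nat_lit 2) (nat_lit 190) (Steps.bwd (nat_lit 15) (Steps.fwd (nat_lit 8192) (Steps.fwd (nat_lit 139264) (Steps.bwd (nat_lit 13) (Steps.bwd (nat_lit 9) (Steps.bwd (nat_lit 12) (Steps.fwd (nat_lit 73728) (Steps.bwd (nat_lit 13) (Steps.fwd (nat_lit 73728) (Steps.fwd (nat_lit 8192) (Steps.bwd (nat_lit 2) Steps.nil))))))))))) (nat_lit 75) (nat_lit 3),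
  Rule.mk (nat_lit 4) (nat_lit 94) (Steps.fwd (nat_lit 16384) (Steps.fwd (nat_lit 16384) (Steps.fwd (nat_lit 32768) (Steps.bwd (nat_lit 2) (Steps.bwd (nat_lit 2) Steps.nil))))) (nat_lit 6) (nat_lit 3),
  Rule.mk (nat_lit 7) (nat_lit 126) (Steps.fwd (nat_lit 155648) (Steps.bwd (nat_lit 7) (Steps.bwd (nat_lit 19) (Steps.fwd (nat_lit 65536) (Steps.bwd (nat_lit 18) (Steps.bwd (nat_lit 2) (Steps.bwd (nat_lit 2) Steps.nil))))))) (nat_lit 86) (nat_lit 1),
  Rule.mk (nat_lit 13) (nat_lit 158) (Steps.fwd (nat_lit 8192) (Steps.fwd (nat_lit 24576) (Steps.fwd (nat_lit 24576) (Steps.bwd (nat_lit 9) (Steps.fwd (nat_lit 122880) (Steps.bwd (nat_lit 9) (Steps.fwd (nat_lit 16384) (Steps.bwd (nat_lit 16) (Steps.bwd (nat_lit 10) Steps.nil))))))))) (nat_lit 62) (nat_lit 7),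
  Rule.mk (nat_lit 2) (nat_lit 142) (Steps.bwd (nat_lit 16) (Steps.bwd (nat_lit 1) (Steps.bwd (nat_lit 17) (Steps.fwd (nat_lit 81920) (Steps.bwd (nat_lit 17) (Steps.fwd (nat_lit 122880) (Steps.fwd (nat_lit 106496) (Steps.bwd (nat_lit 11) Steps.nil)))))))) (nat_lit 46) (nat_lit 1),
  Rule.mk (nat_lit 11) (nat_lit 142) (Steps.bwd (nat_lit 2) (Steps.bwd (nat_lit 16) (Steps.bwd (nat_lit 1) (Steps.fwd (nat_lit 131072) (Steps.fwd (nat_lit 81920) (Steps.bwd (nat_lit 17) (Steps.bwd (nat_lit 14) (Steps.bwd (nat_lit 12) Steps.nil)))))))) (nat_lit 46) (nat_lit 0),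
  Rule.mk (nat_lit 4) (nat_lit 110) (Steps.bwd (nat_lit 9) (Steps.fwd (nat_lit 139264) (Steps.bwd (nat_lit 9) (Steps.bwd (nat_lit 17) (Steps.fwd (nat_lit 122880) (Steps.bwd (nat_lit 4) Steps.nil)))))) (nat_lit 64) (nat_lit 0),
  Rule.mk (nat_lit 18) (nat_lit 110) (Steps.bwd (nat_lit 9) (Steps.bwd (nat_lit 16) (Steps.bwd (nat_lit 11) (Steps.bwd (nat_lit 14) (Steps.bwd (nat_lit 11) (Steps.fwd (nat_lit 73728) Steps.nil)))))) (nat_lit 66) (nat_lit 2),
  Rule.mk (nat_lit 10) (nat_lit 158) (Steps.bwd (nat_lit 13) (Steps.bwd (nat_lit 2) (Steps.bwd (nat_lit 4) (Steps.bwd (nat_lit 4) (Steps.fwd (nat_lit 73728) (Steps.fwd (nat_lit 122880) (Steps.bwd (nat_lit 9) (Steps.fwd (nat_lit 16384) (Steps.bwd (nat_lit 16) Steps.nil))))))))) (nat_lit 62) (nat_lit 6),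
  Rule.mk (nat_lit 9) (nat_lit 190) (Steps.bwd (nat_lit 13) (Steps.fwd (nat_lit 73728) (Steps.bwd (nat_lit 12) (Steps.fwd (nat_lit 131072) (Steps.fwd (nat_lit 16384) (Steps.bwd (nat_lit 14) (Steps.fwd (nat_lit 16384) (Steps.fwd (nat_lit 16384) (Steps.fwd (nat_lit 16384) (Steps.fwd (nat_lit 73728) (Steps.bwd (nat_lit 12) Steps.nil))))))))))) (nat_lit 74) (nat_lit 3),
  Rule.mk (nat_lit 10) (nat_lit 110) (Steps.fwd (nat_lit 24576) (Steps.bwd (nat_lit 15) (Steps.fwd (nat_lit 24576) (Steps.fwd (nat_lit 73728) (Steps.fwd (nat_lit 90112) (Steps.bwd (nat_lit 9) Steps.nil)))))) (nat_lit 60) (nat_lit 4)]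
noncomputable def R_76 : List (Rule) := [Rule.mk (nat_lit 16) (nat_lit 110) (Steps.fwd (nat_lit 73728) (Steps.fwd (nat_lit 131072) (Steps.bwd (nat_lit 14) (Steps.bwd (nat_lit 4) (Steps.bwd (nat_lit 4) (Steps.bwd (nat_lit 9) Steps.nil)))))) (nat_lit 64) (nat_lit 2),
  Rule.mk (nat_lit 4) (nat_lit 110) (Steps.fwd (nat_lit 73728) (Steps.bwd (nat_lit 10) (Steps.bwd (nat_lit 15) (Steps.bwd (nat_lit 17) (Steps.fwd (nat_lit 131072) (Steps.bwd (nat_lit 9) Steps.nil)))))) (nat_lit 71) (nat_lit 6),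
  Rule.mk (nat_lit 12) (nat_lit 190) (Steps.bwd (nat_lit 9) (Steps.bwd (nat_lit 13) (Steps.fwd (nat_lit 73728) (Steps.bwd (nat_lit 12) (Steps.bwd (nat_lit 17) (Steps.fwd (nat_lit 16384) (Steps.bwd (nat_lit 14) (Steps.fwd (nat_lit 16384) (Steps.fwd (nat_lit 16384) (Steps.fwd (nat_lit 16384) (Steps.bwd (nat_lit 9) Steps.nil))))))))))) (nat_lit 74) (nat_lit 2),
  Rule.mk (nat_lit 9) (nat_lit 110) (Steps.bwd (nat_lit 3) (Steps.bwd (nat_lit 14) (Steps.bwd (nat_lit 3) (Steps.fwd (nat_lit 81920) (Steps.bwd (nat_lit 9) (Steps.bwd (nat_lit 11) Steps.nil)))))) (nat_lit 61) (nat_lit 0),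
  Rule.mk (nat_lit 10) (nat_lit 110) (Steps.bwd (nat_lit 4) (Steps.fwd (nat_lit 114688) (Steps.fwd (nat_lit 24576) (Steps.bwd (nat_lit 9) (Steps.fwd (nat_lit 90112) (Steps.bwd (nat_lit 9) Steps.nil)))))) (nat_lit 60) (nat_lit 4),
  Rule.mk (nat_lit 11) (nat_lit 110) (Steps.bwd (nat_lit 9) (Steps.bwd (nat_lit 3) (Steps.fwd (nat_lit 122880) (Steps.bwd (nat_lit 3) (Steps.bwd (nat_lit 11) (Steps.bwd (nat_lit 9) Steps.nil)))))) (nat_lit 61) (nat_lit 6),
  Rule.mk (nat_lit 14) (nat_lit 158) (Steps.bwd (nat_lit 9) (Steps.fwd (nat_lit 16384) (Steps.fwd (nat_lit 139264) (Steps.fwd (nat_lit 90112) (Steps.fwd (nat_lit 98304) (Steps.fwd (nat_lit 8192) (Steps.bwd (nat_lit 4) (Steps.bwd (nat_lit 4) (Steps.bwd (nat_lit 9) Steps.nil))))))))) (nat_lit 62) (nat_lit 2),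
  Rule.mk (nat_lit 13) (nat_lit 190) (Steps.fwd (nat_lit 73728) (Steps.bwd (nat_lit 12) (Steps.fwd (nat_lit 131072) (Steps.fwd (nat_lit 16384) (Steps.bwd (nat_lit 14) (Steps.fwd (nat_lit 16384) (Steps.fwd (nat_lit 16384) (Steps.bwd (nat_lit 1) (Steps.fwd (nat_lit 73728) (Steps.fwd (nat_lit 106496) (Steps.bwd (nat_lit 9) Steps.nil))))))))))) (nat_lit 74) (nat_lit 4),
  Rule.mk (nat_lit 1) (nat_lit 62) (Steps.fwd (nat_lit 98304) (Steps.bwd (nat_lit 2) (Steps.fwd (nat_lit 49152) Steps.nil))) (nat_lit 13) (nat_lit 3),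
  Rule.mk (nat_lit 7) (nat_lit 94) (Steps.fwd (nat_lit 65536) (Steps.bwd (nat_lit 2) (Steps.fwd (nat_lit 8192) (Steps.bwd (nat_lit 2) (Steps.bwd (nat_lit 2) Steps.nil))))) (nat_lit 78) (nat_lit 1),
  Rule.mk (nat_lit 9) (nat_lit 110) (Steps.bwd (nat_lit 3) (Steps.bwd (nat_lit 14) (Steps.fwd (nat_lit 32768) (Steps.bwd (nat_lit 11) (Steps.fwd (nat_lit 73728) (Steps.bwd (nat_lit 11) Steps.nil)))))) (nat_lit 61) (nat_lit 0),
  Rule.mk (nat_lit 14) (nat_lit 110) (Steps.fwd (nat_lit 81920) (Steps.fwd (nat_lit 73728) (Steps.fwd (nat_lit 155648) (Steps.fwd (nat_lit 73728) (Steps.fwd (nat_lit 139264) (Steps.bwd (nat_lit 11) Steps.nil)))))) (nat_lit 66) (nat_lit 6),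
  Rule.mk (nat_lit 8) (nat_lit 158) (Steps.bwd (nat_lit 19) (Steps.bwd (nat_lit 8) (Steps.bwd (nat_lit 19) (Steps.fwd (nat_lit 57344) (Steps.bwd (nat_lit 19) (Steps.bwd (nat_lit 8) (Steps.bwd (nat_lit 19) (Steps.bwd (nat_lit 8) (Steps.fwd (nat_lit 147456) Steps.nil))))))))) (nat_lit 85) (nat_lit 0),
  Rule.mk (nat_lit 13) (nat_lit 158) (Steps.bwd (nat_lit 2) (Steps.fwd (nat_lit 24576) (Steps.fwd (nat_lit 24576) (Steps.bwd (nat_lit 9) (Steps.fwd (nat_lit 122880) (Steps.bwd (nat_lit 9) (Steps.bwd (nat_lit 1) (Steps.bwd (nat_lit 16) (Steps.bwd (nat_lit 10) Steps.nil))))))))) (nat_lit 62) (nat_lit 7),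
  Rule.mk (nat_lit 11) (nat_lit 206) (Steps.bwd (nat_lit 2) (Steps.fwd (nat_lit 32768) (Steps.fwd (nat_lit 8192) (Steps.fwd (nat_lit 24576) (Steps.bwd (nat_lit 4) (Steps.fwd (nat_lit 8192) (Steps.fwd (nat_lit 73728) (Steps.bwd (nat_lit 1) (Steps.fwd (nat_lit 16384) (Steps.fwd (nat_lit 73728) (Steps.bwd (nat_lit 16) (Steps.bwd (nat_lit 19) Steps.nil)))))))))))) (nat_lit 68) (nat_lit 7),
  Rule.mk (nat_lit 14) (nat_lit 110) (Steps.bwd (nat_lit 11) (Steps.fwd (nat_lit 73728) (Steps.bwd (nat_lit 18) (Steps.fwd (nat_lit 73728) (Steps.bwd (nat_lit 16) (Steps.bwd (nat_lit 11) Steps.nil)))))) (nat_lit 66) (nat_lit 6),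
  Rule.mk (nat_lit 2) (nat_lit 94) (Steps.bwd (nat_lit 2) (Steps.bwd (nat_lit 4) (Steps.bwd (nat_lit 1) (Steps.bwd (nat_lit 1) (Steps.fwd (nat_lit 32768) Steps.nil))))) (nat_lit 6) (nat_lit 1),
  Rule.mk (nat_lit 18) (nat_lit 126) (Steps.bwd (nat_lit 2) (Steps.fwd (nat_lit 8192) (Steps.bwd (nat_lit 7) (Steps.fwd (nat_lit 155648) (Steps.bwd (nat_lit 7) (Steps.fwd (nat_lit 147456) (Steps.fwd (nat_lit 65536) Steps.nil))))))) (nat_lit 86) (nat_lit 6),
  Rule.mk (nat_lit 4) (nat_lit 94) (Steps.bwd (nat_lit 1) (Steps.bwd (nat_lit 1) (Steps.fwd (nat_lit 32768) (Steps.fwd (nat_lit 8192) (Steps.bwd (nat_lit 2) Steps.nil))))) (nat_lit 6) (nat_lit 3),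
  Rule.mk (nat_lit 1) (nat_lit 94) (Steps.bwd (nat_lit 1) (Steps.bwd (nat_lit 4) (Steps.fwd (nat_lit 8192) (Steps.fwd (nat_lit 8192) (Steps.bwd (nat_lit 3) Steps.nil))))) (nat_lit 7) (nat_lit 5),
  Rule.mk (nat_lit 3) (nat_lit 190) (Steps.bwd (nat_lit 1) (Steps.bwd (nat_lit 4) (Steps.fwd (nat_lit 8192) (Steps.bwd (nat_lit 3) (Steps.bwd (nat_lit 1) (Steps.fwd (nat_lit 24576) (Steps.fwd (nat_lit 8192) (Steps.bwd (nat_lit 3) (Steps.fwd (nat_lit 16384) (Steps.fwd (nat_lit 24576) (Steps.fwd (nat_lit 8192) Steps.nil))))))))))) (nat_lit 9) (nat_lit 3),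
  Rule.mk (nat_lit 2) (nat_lit 142) (Steps.bwd (nat_lit 17) (Steps.bwd (nat_lit 1) (Steps.bwd (nat_lit 10) (Steps.bwd (nat_lit 13) (Steps.bwd (nat_lit 15) (Steps.fwd (nat_lit 139264) (Steps.bwd (nat_lit 10) (Steps.bwd (nat_lit 16) Steps.nil)))))))) (nat_lit 47) (nat_lit 7),
  Rule.mk (nat_lit 11) (nat_lit 158) (Steps.bwd (nat_lit 17) (Steps.fwd (nat_lit 8192) (Steps.bwd (nat_lit 9) (Steps.bwd (nat_lit 15) (Steps.bwd (nat_lit 9) (Steps.bwd (nat_lit 3) (Steps.bwd (nat_lit 3) (Steps.bwd (nat_lit 1) (Steps.fwd (nat_lit 106496) Steps.nil))))))))) (nat_lit 63) (nat_lit 5),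
  Rule.mk (nat_lit 9) (nat_lit 206) (Steps.fwd (nat_lit 8192) (Steps.bwd (nat_lit 2) (Steps.bwd (nat_lit 9) (Steps.fwd (nat_lit 16384) (Steps.bwd (nat_lit 3) (Steps.fwd (nat_lit 32768) (Steps.fwd (nat_lit 16384) (Steps.fwd (nat_lit 24576) (Steps.fwd (nat_lit 16384) (Steps.fwd (nat_lit 90112) (Steps.bwd (nat_lit 18) (Steps.bwd (nat_lit 17) Steps.nil)))))))))))) (nat_lit 69) (nat_lit 10),
  Rule.mk (nat_lit 19) (nat_lit 126) (Steps.bwd (nat_lit 7) (Steps.bwd (nat_lit 18) (Steps.bwd (nat_lit 2) (Steps.fwd (nat_lit 8192) (Steps.bwd (nat_lit 7) (Steps.fwd (nat_lit 155648) (Steps.fwd (nat_lit 65536) Steps.nil))))))) (nat_lit 86) (nat_lit 4),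
  Rule.mk (nat_lit 2) (nat_lit 94) (Steps.bwd (nat_lit 2) (Steps.bwd (nat_lit 2) (Steps.fwd (nat_lit 65536) (Steps.fwd (nat_lit 65536) (Steps.bwd (nat_lit 2) Steps.nil))))) (nat_lit 78) (nat_lit 4),
  Rule.mk (nat_lit 8) (nat_lit 94) (Steps.bwd (nat_lit 2) (Steps.fwd (nat_lit 65536) (Steps.fwd (nat_lit 16384) (Steps.bwd (nat_lit 1) (Steps.bwd (nat_lit 1) Steps.nil))))) (nat_lit 83) (nat_lit 4),
  Rule.mk (nat_lit 9) (nat_lit 206) (Steps.bwd (nat_lit 2) (Steps.bwd (nat_lit 2) (Steps.fwd (nat_lit 73728) (Steps.fwd (nat_lit 16384) (Steps.bwd (nat_lit 3) (Steps.fwd (nat_lit 32768) (Steps.bwd (nat_lit 1) (Steps.bwd (nat_lit 4) (Steps.fwd (nat_lit 16384) (Steps.fwd (nat_lit 90112) (Steps.bwd (nat_lit 18) (Steps.fwd (nat_lit 131072) Steps.nil)))))))))))) (nat_lit 69) (nat_lit 10),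
  Rule.mk (nat_lit 15) (nat_lit 158) (Steps.bwd (nat_lit 9) (Steps.fwd (nat_lit 32768) (Steps.fwd (nat_lit 32768) (Steps.fwd (nat_lit 16384) (Steps.fwd (nat_lit 106496) (Steps.bwd (nat_lit 11) (Steps.fwd (nat_lit 131072) (Steps.fwd (nat_lit 8192) (Steps.bwd (nat_lit 9) Steps.nil))))))))) (nat_lit 63) (nat_lit 9),
  Rule.mk (nat_lit 9) (nat_lit 206) (Steps.bwd (nat_lit 1) (Steps.bwd (nat_lit 1) (Steps.fwd (nat_lit 73728) (Steps.bwd (nat_lit 16) (Steps.fwd (nat_lit 147456) (Steps.bwd (nat_lit 11) (Steps.bwd (nat_lit 2) (Steps.bwd (nat_lit 3) (Steps.fwd (nat_lit 8192) (Steps.fwd (nat_lit 24576) (Steps.fwd (nat_lit 24576) (Steps.bwd (nat_lit 2) Steps.nil)))))))))))) (nat_lit 68) (nat_lit 1),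
  Rule.mk (nat_lit 3) (nat_lit 110) (Steps.fwd (nat_lit 114688) (Steps.bwd (nat_lit 16) (Steps.fwd (nat_lit 73728) (Steps.fwd (nat_lit 131072) (Steps.bwd (nat_lit 9) (Steps.bwd (nat_lit 3) Steps.nil)))))) (nat_lit 65) (nat_lit 2),
  Rule.mk (nat_lit 9) (nat_lit 110) (Steps.bwd (nat_lit 17) (Steps.bwd (nat_lit 9) (Steps.fwd (nat_lit 32768) (Steps.fwd (nat_lit 32768) (Steps.bwd (nat_lit 15) (Steps.fwd (nat_lit 139264) Steps.nil)))))) (nat_lit 65) (nat_lit 5),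
  Rule.mk (nat_lit 7) (nat_lit 94) (Steps.bwd (nat_lit 2) (Steps.bwd (nat_lit 2) (Steps.fwd (nat_lit 8192) (Steps.fwd (nat_lit 57344) (Steps.fwd (nat_lit 16384) Steps.nil))))) (nat_lit 82) (nat_lit 3),
  Rule.mk (nat_lit 17) (nat_lit 158) (Steps.bwd (nat_lit 2) (Steps.bwd (nat_lit 9) (Steps.bwd (nat_lit 15) (Steps.fwd (nat_lit 73728) (Steps.fwd (nat_lit 32768) (Steps.bwd (nat_lit 3) (Steps.fwd (nat_lit 16384) (Steps.fwd (nat_lit 106496) (Steps.bwd (nat_lit 11) Steps.nil))))))))) (nat_lit 63) (nat_lit 6),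
  Rule.mk (nat_lit 15) (nat_lit 190) (Steps.fwd (nat_lit 8192) (Steps.fwd (nat_lit 139264) (Steps.bwd (nat_lit 13) (Steps.fwd (nat_lit 73728) (Steps.bwd (nat_lit 12) (Steps.fwd (nat_lit 73728) (Steps.bwd (nat_lit 13) (Steps.bwd (nat_lit 9) (Steps.bwd (nat_lit 2) (Steps.fwd (nat_lit 8192) (Steps.bwd (nat_lit 2) Steps.nil))))))))))) (nat_lit 75) (nat_lit 4),
  Rule.mk (nat_lit 15) (nat_lit 126) (Steps.bwd (nat_lit 15) (Steps.fwd (nat_lit 24576) (Steps.bwd (nat_lit 15) (Steps.bwd (nat_lit 3) (Steps.bwd (nat_lit 10) (Steps.bwd (nat_lit 10) (Steps.bwd (nat_lit 16) Steps.nil))))))) (nat_lit 53) (nat_lit 4),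
  Rule.mk (nat_lit 16) (nat_lit 158) (Steps.fwd (nat_lit 90112) (Steps.fwd (nat_lit 98304) (Steps.bwd (nat_lit 2) (Steps.fwd (nat_lit 24576) (Steps.fwd (nat_lit 24576) (Steps.fwd (nat_lit 73728) (Steps.bwd (nat_lit 14) (Steps.fwd (nat_lit 73728) (Steps.bwd (nat_lit 1) Steps.nil))))))))) (nat_lit 62) (nat_lit 5),
  Rule.mk (nat_lit 9) (nat_lit 206) (Steps.fwd (nat_lit 139264) (Steps.fwd (nat_lit 147456) (Steps.bwd (nat_lit 11) (Steps.fwd (nat_lit 8192) (Steps.fwd (nat_lit 32768) (Steps.bwd (nat_lit 2) (Steps.bwd (nat_lit 4) (Steps.fwd (nat_lit 24576) (Steps.fwd (nat_lit 8192) (Steps.bwd (nat_lit 9) (Steps.fwd (nat_lit 16384) (Steps.bwd (nat_lit 1) Steps.nil)))))))))))) (nat_lit 68) (nat_lit 4),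
  Rule.mk (nat_lit 10) (nat_lit 142) (Steps.bwd (nat_lit 13) (Steps.fwd (nat_lit 114688) (Steps.fwd (nat_lit 139264) (Steps.bwd (nat_lit 10) (Steps.fwd (nat_lit 139264) (Steps.fwd (nat_lit 8192) (Steps.bwd (nat_lit 17) (Steps.fwd (nat_lit 16384) Steps.nil)))))))) (nat_lit 47) (nat_lit 1),
  Rule.mk (nat_lit 7) (nat_lit 126) (Steps.bwd (nat_lit 19) (Steps.bwd (nat_lit 7) (Steps.fwd (nat_lit 155648) (Steps.fwd (nat_lit 8192) (Steps.bwd (nat_lit 2) (Steps.fwd (nat_lit 65536) (Steps.fwd (nat_lit 155648) Steps.nil))))))) (nat_lit 86) (nat_lit 3),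
  Rule.mk (nat_lit 2) (nat_lit 190) (Steps.bwd (nat_lit 3) (Steps.bwd (nat_lit 1) (Steps.fwd (nat_lit 24576) (Steps.bwd (nat_lit 2) (Steps.bwd (nat_lit 3) (Steps.fwd (nat_lit 16384) (Steps.fwd (nat_lit 24576) (Steps.fwd (nat_lit 8192) (Steps.fwd (nat_lit 32768) (Steps.bwd (nat_lit 1) (Steps.fwd (nat_lit 24576) Steps.nil))))))))))) (nat_lit 9) (nat_lit 2),
  Rule.mk (nat_lit 19) (nat_lit 126) (Steps.bwd (nat_lit 8) (Steps.fwd (nat_lit 155648) (Steps.fwd (nat_lit 57344) (Steps.bwd (nat_lit 19) (Steps.fwd (nat_lit 57344) (Steps.fwd (nat_lit 16384) (Steps.bwd (nat_lit 1) Steps.nil))))))) (nat_lit 87) (nat_lit 3),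
  Rule.mk (nat_lit 1) (nat_lit 126) (Steps.bwd (nat_lit 19) (Steps.fwd (nat_lit 57344) (Steps.bwd (nat_lit 18) (Steps.bwd (nat_lit 8) (Steps.bwd (nat_lit 19) (Steps.bwd (nat_lit 8) (Steps.bwd (nat_lit 1) Steps.nil))))))) (nat_lit 87) (nat_lit 2),
  Rule.mk (nat_lit 8) (nat_lit 94) (Steps.fwd (nat_lit 57344) (Steps.fwd (nat_lit 16384) (Steps.fwd (nat_lit 16384) (Steps.bwd (nat_lit 1) (Steps.bwd (nat_lit 1) Steps.nil))))) (nat_lit 79) (nat_lit 5),
  Rule.mk (nat_lit 15) (nat_lit 110) (Steps.fwd (nat_lit 114688) (Steps.fwd (nat_lit 90112) (Steps.bwd (nat_lit 16) (Steps.bwd (nat_lit 2) (Steps.fwd (nat_lit 114688) (Steps.fwd (nat_lit 16384) Steps.nil)))))) (nat_lit 45) (nat_lit 1),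
  Rule.mk (nat_lit 13) (nat_lit 126) (Steps.fwd (nat_lit 24576) (Steps.bwd (nat_lit 12) (Steps.bwd (nat_lit 3) (Steps.fwd (nat_lit 139264) (Steps.bwd (nat_lit 10) (Steps.bwd (nat_lit 16) (Steps.fwd (nat_lit 114688) Steps.nil))))))) (nat_lit 50) (nat_lit 0),
  Rule.mk (nat_lit 9) (nat_lit 158) (Steps.fwd (nat_lit 16384) (Steps.fwd (nat_lit 139264) (Steps.fwd (nat_lit 90112) (Steps.bwd (nat_lit 13) (Steps.fwd (nat_lit 8192) (Steps.fwd (nat_lit 24576) (Steps.bwd (nat_lit 4) (Steps.bwd (nat_lit 9) (Steps.bwd (nat_lit 14) Steps.nil))))))))) (nat_lit 62) (nat_lit 3),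
  Rule.mk (nat_lit 11) (nat_lit 158) (Steps.bwd (nat_lit 17) (Steps.bwd (nat_lit 2) (Steps.fwd (nat_lit 73728) (Steps.bwd (nat_lit 15) (Steps.fwd (nat_lit 73728) (Steps.fwd (nat_lit 32768) (Steps.bwd (nat_lit 3) (Steps.fwd (nat_lit 16384) (Steps.bwd (nat_lit 12) Steps.nil))))))))) (nat_lit 63) (nat_lit 5),
  Rule.mk (nat_lit 12) (nat_lit 126) (Steps.bwd (nat_lit 3) (Steps.bwd (nat_lit 16) (Steps.bwd (nat_lit 10) (Steps.fwd (nat_lit 139264) (Steps.fwd (nat_lit 114688) (Steps.fwd (nat_lit 98304) (Steps.bwd (nat_lit 4) Steps.nil))))))) (nat_lit 50) (nat_lit 2),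
  Rule.mk (nat_lit 14) (nat_lit 126) (Steps.bwd (nat_lit 3) (Steps.fwd (nat_lit 122880) (Steps.bwd (nat_lit 14) (Steps.bwd (nat_lit 17) (Steps.fwd (nat_lit 81920) (Steps.bwd (nat_lit 11) (Steps.fwd (nat_lit 24576) Steps.nil))))))) (nat_lit 52) (nat_lit 2),
  Rule.mk (nat_lit 10) (nat_lit 94) (Steps.fwd (nat_lit 147456) (Steps.fwd (nat_lit 147456) (Steps.bwd (nat_lit 15) (Steps.fwd (nat_lit 81920) (Steps.bwd (nat_lit 14) Steps.nil))))) (nat_lit 33) (nat_lit 0),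
  Rule.mk (nat_lit 3) (nat_lit 126) (Steps.bwd (nat_lit 10) (Steps.fwd (nat_lit 90112) (Steps.bwd (nat_lit 16) (Steps.bwd (nat_lit 15) (Steps.bwd (nat_lit 15) (Steps.fwd (nat_lit 24576) (Steps.bwd (nat_lit 15) Steps.nil))))))) (nat_lit 53) (nat_lit 0),
  Rule.mk (nat_lit 7) (nat_lit 126) (Steps.fwd (nat_lit 147456) (Steps.fwd (nat_lit 65536) (Steps.bwd (nat_lit 18) (Steps.bwd (nat_lit 2) (Steps.bwd (nat_lit 2) (Steps.bwd (nat_lit 7) (Steps.bwd (nat_lit 18) Steps.nil))))))) (nat_lit 86) (nat_lit 3),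
  Rule.mk (nat_lit 2) (nat_lit 206) (Steps.bwd (nat_lit 9) (Steps.fwd (nat_lit 16384) (Steps.fwd (nat_lit 32768) (Steps.fwd (nat_lit 32768) (Steps.bwd (nat_lit 1) (Steps.bwd (nat_lit 4) (Steps.fwd (nat_lit 16384) (Steps.fwd (nat_lit 90112) (Steps.fwd (nat_lit 155648) (Steps.fwd (nat_lit 131072) (Steps.fwd (nat_lit 73728) (Steps.bwd (nat_lit 2) Steps.nil)))))))))))) (nat_lit 69) (nat_lit 12),
  Rule.mk (nat_lit 11) (nat_lit 286) (Steps.bwd (nat_lit 1) (Steps.fwd (nat_lit 81920) (Steps.bwd (nat_lit 2) (Steps.fwd (nat_lit 90112) (Steps.bwd (nat_lit 1) (Steps.bwd (nat_lit 3) (Steps.fwd (nat_lit 32768) (Steps.fwd (nat_lit 73728) (Steps.bwd (nat_lit 8) (Steps.fwd (nat_lit 81920) (Steps.fwd (nat_lit 57344) (Steps.bwd (nat_lit 3) (Steps.bwd (nat_lit 2) (Steps.fwd (nat_lit 24576) (Steps.bwd (nat_lit 11) (Steps.fwd (nat_lit 57344) (Steps.bwd (nat_lit 2) Steps.nil))))))))))))))))) (nat_lit 56) (nat_lit 11),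
  Rule.mk (nat_lit 11) (nat_lit 142) (Steps.bwd (nat_lit 17) (Steps.fwd (nat_lit 122880) (Steps.fwd (nat_lit 106496) (Steps.bwd (nat_lit 11) (Steps.fwd (nat_lit 8192) (Steps.fwd (nat_lit 139264) (Steps.bwd (nat_lit 1) (Steps.bwd (nat_lit 17) Steps.nil)))))))) (nat_lit 46) (nat_lit 5),
  Rule.mk (nat_lit 2) (nat_lit 110) (Steps.bwd (nat_lit 14) (Steps.bwd (nat_lit 1) (Steps.fwd (nat_lit 131072) (Steps.bwd (nat_lit 11) (Steps.bwd (nat_lit 14) (Steps.fwd (nat_lit 122880) Steps.nil)))))) (nat_lit 44) (nat_lit 1),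
  Rule.mk (nat_lit 17) (nat_lit 142) (Steps.bwd (nat_lit 1) (Steps.bwd (nat_lit 10) (Steps.bwd (nat_lit 13) (Steps.bwd (nat_lit 15) (Steps.fwd (nat_lit 139264) (Steps.fwd (nat_lit 90112) (Steps.fwd (nat_lit 139264) (Steps.fwd (nat_lit 8192) Steps.nil)))))))) (nat_lit 47) (nat_lit 8),
  Rule.mk (nat_lit 4) (nat_lit 206) (Steps.bwd (nat_lit 1) (Steps.bwd (nat_lit 10) (Steps.bwd (nat_lit 18) (Steps.bwd (nat_lit 17) (Steps.bwd (nat_lit 9) (Steps.fwd (nat_lit 8192) (Steps.bwd (nat_lit 2) (Steps.bwd (nat_lit 9) (Steps.bwd (nat_lit 1) (Steps.fwd (nat_lit 32768) (Steps.fwd (nat_lit 32768) (Steps.fwd (nat_lit 16384) Steps.nil)))))))))))) (nat_lit 69) (nat_lit 5),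
  Rule.mk (nat_lit 3) (nat_lit 206) (Steps.bwd (nat_lit 1) (Steps.bwd (nat_lit 4) (Steps.fwd (nat_lit 16384) (Steps.fwd (nat_lit 90112) (Steps.bwd (nat_lit 18) (Steps.bwd (nat_lit 17) (Steps.fwd (nat_lit 73728) (Steps.bwd (nat_lit 2) (Steps.bwd (nat_lit 2) (Steps.fwd (nat_lit 73728) (Steps.fwd (nat_lit 16384) (Steps.bwd (nat_lit 3) Steps.nil)))))))))))) (nat_lit 69) (nat_lit 3),
  Rule.mk (nat_lit 12) (nat_lit 126) (Steps.bwd (nat_lit 14) (Steps.bwd (nat_lit 17) (Steps.fwd (nat_lit 81920) (Steps.fwd (nat_lit 131072) (Steps.fwd (nat_lit 24576) (Steps.bwd (nat_lit 13) (Steps.bwd (nat_lit 3) Steps.nil))))))) (nat_lit 51) (nat_lit 1),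
  Rule.mk (nat_lit 10) (nat_lit 126) (Steps.bwd (nat_lit 16) (Steps.fwd (nat_lit 114688) (Steps.fwd (nat_lit 114688) (Steps.bwd (nat_lit 4) (Steps.fwd (nat_lit 114688) (Steps.bwd (nat_lit 3) (Steps.bwd (nat_lit 10) Steps.nil))))))) (nat_lit 53) (nat_lit 2),
  Rule.mk (nat_lit 15) (nat_lit 110) (Steps.bwd (nat_lit 1) (Steps.fwd (nat_lit 114688) (Steps.bwd (nat_lit 15) (Steps.fwd (nat_lit 90112) (Steps.bwd (nat_lit 16) (Steps.fwd (nat_lit 8192) Steps.nil)))))) (nat_lit 45) (nat_lit 6),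
  Rule.mk (nat_lit 11) (nat_lit 286) (Steps.bwd (nat_lit 1) (Steps.bwd (nat_lit 10) (Steps.fwd (nat_lit 8192) (Steps.fwd (nat_lit 90112) (Steps.fwd (nat_lit 16384) (Steps.bwd (nat_lit 7) (Steps.bwd (nat_lit 10) (Steps.fwd (nat_lit 32768) (Steps.fwd (nat_lit 16384) (Steps.fwd (nat_lit 24576) (Steps.fwd (nat_lit 65536) (Steps.fwd (nat_lit 90112) (Steps.fwd (nat_lit 65536) (Steps.bwd (nat_lit 9) (Steps.bwd (nat_lit 4) (Steps.bwd (nat_lit 4) (Steps.bwd (nat_lit 2) Steps.nil))))))))))))))))) (nat_lit 57) (nat_lit 4)]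
noncomputable def R_77 : List (Rule) := [Rule.mk (nat_lit 17) (nat_lit 142) (Steps.bwd (nat_lit 14) (Steps.fwd (nat_lit 106496) (Steps.bwd (nat_lit 11) (Steps.bwd (nat_lit 2) (Steps.bwd (nat_lit 16) (Steps.fwd (nat_lit 16384) (Steps.bwd (nat_lit 17) (Steps.bwd (nat_lit 11) Steps.nil)))))))) (nat_lit 46) (nat_lit 6),
  Rule.mk (nat_lit 14) (nat_lit 126) (Steps.bwd (nat_lit 17) (Steps.fwd (nat_lit 81920) (Steps.fwd (nat_lit 81920) (Steps.bwd (nat_lit 4) (Steps.fwd (nat_lit 122880) (Steps.fwd (nat_lit 32768) (Steps.fwd (nat_lit 122880) Steps.nil))))))) (nat_lit 52) (nat_lit 5),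
  Rule.mk (nat_lit 16) (nat_lit 142) (Steps.bwd (nat_lit 1) (Steps.bwd (nat_lit 17) (Steps.fwd (nat_lit 81920) (Steps.bwd (nat_lit 17) (Steps.fwd (nat_lit 122880) (Steps.bwd (nat_lit 12) (Steps.fwd (nat_lit 81920) (Steps.bwd (nat_lit 2) Steps.nil)))))))) (nat_lit 46) (nat_lit 2),
  Rule.mk (nat_lit 19) (nat_lit 94) (Steps.bwd (nat_lit 19) (Steps.bwd (nat_lit 11) (Steps.bwd (nat_lit 17) (Steps.bwd (nat_lit 10) (Steps.bwd (nat_lit 16) Steps.nil))))) (nat_lit 34) (nat_lit 5),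
  Rule.mk (nat_lit 14) (nat_lit 158) (Steps.bwd (nat_lit 9) (Steps.bwd (nat_lit 1) (Steps.fwd (nat_lit 139264) (Steps.fwd (nat_lit 90112) (Steps.fwd (nat_lit 98304) (Steps.fwd (nat_lit 8192) (Steps.fwd (nat_lit 24576) (Steps.fwd (nat_lit 24576) (Steps.fwd (nat_lit 73728) Steps.nil))))))))) (nat_lit 62) (nat_lit 2),
  Rule.mk (nat_lit 1) (nat_lit 270) (Steps.bwd (nat_lit 9) (Steps.bwd (nat_lit 1) (Steps.bwd (nat_lit 13) (Steps.fwd (nat_lit 32768) (Steps.bwd (nat_lit 9) (Steps.fwd (nat_lit 57344) (Steps.bwd (nat_lit 1) (Steps.fwd (nat_lit 32768) (Steps.bwd (nat_lit 3) (Steps.bwd (nat_lit 2) (Steps.fwd (nat_lit 24576) (Steps.fwd (nat_lit 81920) (Steps.bwd (nat_lit 17) (Steps.bwd (nat_lit 19) (Steps.fwd (nat_lit 16384) (Steps.fwd (nat_lit 73728) Steps.nil)))))))))))))))) (nat_lit 77) (nat_lit 11),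
  Rule.mk (nat_lit 12) (nat_lit 142) (Steps.fwd (nat_lit 81920) (Steps.fwd (nat_lit 8192) (Steps.bwd (nat_lit 16) (Steps.bwd (nat_lit 1) (Steps.fwd (nat_lit 131072) (Steps.fwd (nat_lit 81920) (Steps.bwd (nat_lit 17) (Steps.bwd (nat_lit 14) Steps.nil)))))))) (nat_lit 46) (nat_lit 8),
  Rule.mk (nat_lit 4) (nat_lit 126) (Steps.bwd (nat_lit 12) (Steps.bwd (nat_lit 3) (Steps.fwd (nat_lit 139264) (Steps.bwd (nat_lit 10) (Steps.fwd (nat_lit 139264) (Steps.bwd (nat_lit 15) (Steps.bwd (nat_lit 13) Steps.nil))))))) (nat_lit 50) (nat_lit 1),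
  Rule.mk (nat_lit 3) (nat_lit 126) (Steps.bwd (nat_lit 12) (Steps.fwd (nat_lit 122880) (Steps.bwd (nat_lit 17) (Steps.fwd (nat_lit 81920) (Steps.fwd (nat_lit 131072) (Steps.bwd (nat_lit 4) (Steps.fwd (nat_lit 98304) Steps.nil))))))) (nat_lit 51) (nat_lit 0),
  Rule.mk (nat_lit 9) (nat_lit 270) (Steps.fwd (nat_lit 57344) (Steps.bwd (nat_lit 1) (Steps.bwd (nat_lit 3) (Steps.bwd (nat_lit 3) (Steps.fwd (nat_lit 8192) (Steps.bwd (nat_lit 4) (Steps.fwd (nat_lit 81920) (Steps.bwd (nat_lit 17) (Steps.fwd (nat_lit 147456) (Steps.bwd (nat_lit 1) (Steps.bwd (nat_lit 9) (Steps.fwd (nat_lit 16384) (Steps.fwd (nat_lit 73728) (Steps.fwd (nat_lit 16384) (Steps.fwd (nat_lit 98304) (Steps.bwd (nat_lit 3) Steps.nil)))))))))))))))) (nat_lit 77) (nat_lit 16),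
  Rule.mk (nat_lit 11) (nat_lit 110) (Steps.bwd (nat_lit 14) (Steps.fwd (nat_lit 122880) (Steps.bwd (nat_lit 2) (Steps.bwd (nat_lit 14) (Steps.bwd (nat_lit 1) (Steps.bwd (nat_lit 17) Steps.nil)))))) (nat_lit 44) (nat_lit 5),
  Rule.mk (nat_lit 14) (nat_lit 126) (Steps.bwd (nat_lit 14) (Steps.bwd (nat_lit 17) (Steps.fwd (nat_lit 81920) (Steps.fwd (nat_lit 81920) (Steps.bwd (nat_lit 4) (Steps.bwd (nat_lit 14) (Steps.bwd (nat_lit 3) Steps.nil))))))) (nat_lit 52) (nat_lit 4),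
  Rule.mk (nat_lit 4) (nat_lit 126) (Steps.bwd (nat_lit 14) (Steps.bwd (nat_lit 3) (Steps.bwd (nat_lit 14) (Steps.bwd (nat_lit 14) (Steps.bwd (nat_lit 17) (Steps.fwd (nat_lit 81920) (Steps.bwd (nat_lit 11) Steps.nil))))))) (nat_lit 52) (nat_lit 1),
  Rule.mk (nat_lit 9) (nat_lit 110) (Steps.fwd (nat_lit 139264) (Steps.bwd (nat_lit 9) (Steps.bwd (nat_lit 17) (Steps.bwd (nat_lit 14) (Steps.bwd (nat_lit 4) (Steps.bwd (nat_lit 4) Steps.nil)))))) (nat_lit 64) (nat_lit 1),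
  Rule.mk (nat_lit 18) (nat_lit 78) (Steps.bwd (nat_lit 18) (Steps.fwd (nat_lit 155648) (Steps.fwd (nat_lit 155648) (Steps.fwd (nat_lit 155648) Steps.nil)))) (nat_lit 22) (nat_lit 0),
  Rule.mk (nat_lit 8) (nat_lit 126) (Steps.bwd (nat_lit 1) (Steps.bwd (nat_lit 1) (Steps.fwd (nat_lit 147456) (Steps.bwd (nat_lit 8) (Steps.bwd (nat_lit 18) (Steps.fwd (nat_lit 57344) (Steps.fwd (nat_lit 147456) Steps.nil))))))) (nat_lit 87) (nat_lit 0),
  Rule.mk (nat_lit 7) (nat_lit 94) (Steps.bwd (nat_lit 2) (Steps.bwd (nat_lit 2) (Steps.fwd (nat_lit 8192) (Steps.bwd (nat_lit 8) (Steps.bwd (nat_lit 1) Steps.nil))))) (nat_lit 82) (nat_lit 3),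
  Rule.mk (nat_lit 2) (nat_lit 94) (Steps.fwd (nat_lit 8192) (Steps.bwd (nat_lit 4) (Steps.bwd (nat_lit 1) (Steps.bwd (nat_lit 1) (Steps.bwd (nat_lit 3) Steps.nil))))) (nat_lit 6) (nat_lit 1),
  Rule.mk (nat_lit 16) (nat_lit 110) (Steps.fwd (nat_lit 122880) (Steps.fwd (nat_lit 81920) (Steps.bwd (nat_lit 9) (Steps.fwd (nat_lit 32768) (Steps.fwd (nat_lit 73728) (Steps.bwd (nat_lit 16) Steps.nil)))))) (nat_lit 70) (nat_lit 5),
  Rule.mk (nat_lit 2) (nat_lit 94) (Steps.bwd (nat_lit 8) (Steps.bwd (nat_lit 1) (Steps.bwd (nat_lit 7) (Steps.bwd (nat_lit 2) (Steps.fwd (nat_lit 8192) Steps.nil))))) (nat_lit 82) (nat_lit 0),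
  Rule.mk (nat_lit 9) (nat_lit 206) (Steps.fwd (nat_lit 16384) (Steps.fwd (nat_lit 32768) (Steps.bwd (nat_lit 3) (Steps.fwd (nat_lit 16384) (Steps.fwd (nat_lit 24576) (Steps.fwd (nat_lit 16384) (Steps.fwd (nat_lit 90112) (Steps.bwd (nat_lit 18) (Steps.fwd (nat_lit 131072) (Steps.bwd (nat_lit 9) (Steps.fwd (nat_lit 8192) (Steps.bwd (nat_lit 2) Steps.nil)))))))))))) (nat_lit 69) (nat_lit 0),
  Rule.mk (nat_lit 10) (nat_lit 110) (Steps.bwd (nat_lit 9) (Steps.bwd (nat_lit 10) (Steps.bwd (nat_lit 4) (Steps.fwd (nat_lit 114688) (Steps.bwd (nat_lit 4) (Steps.bwd (nat_lit 9) Steps.nil)))))) (nat_lit 60) (nat_lit 2),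
  Rule.mk (nat_lit 14) (nat_lit 158) (Steps.bwd (nat_lit 9) (Steps.fwd (nat_lit 16384) (Steps.bwd (nat_lit 16) (Steps.bwd (nat_lit 10) (Steps.fwd (nat_lit 98304) (Steps.fwd (nat_lit 8192) (Steps.fwd (nat_lit 24576) (Steps.bwd (nat_lit 4) (Steps.bwd (nat_lit 9) Steps.nil))))))))) (nat_lit 62) (nat_lit 2),
  Rule.mk (nat_lit 7) (nat_lit 270) (Steps.bwd (nat_lit 9) (Steps.fwd (nat_lit 24576) (Steps.bwd (nat_lit 12) (Steps.bwd (nat_lit 2) (Steps.fwd (nat_lit 73728) (Steps.bwd (nat_lit 2) (Steps.fwd (nat_lit 73728) (Steps.bwd (nat_lit 2) (Steps.fwd (nat_lit 155648) (Steps.bwd (nat_lit 16) (Steps.bwd (nat_lit 10) (Steps.bwd (nat_lit 3) (Steps.fwd (nat_lit 16384) (Steps.bwd (nat_lit 4) (Steps.fwd (nat_lit 24576) (Steps.bwd (nat_lit 2) Steps.nil)))))))))))))))) (nat_lit 76) (nat_lit 1),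
  Rule.mk (nat_lit 7) (nat_lit 286) (Steps.fwd (nat_lit 73728) (Steps.fwd (nat_lit 24576) (Steps.fwd (nat_lit 24576) (Steps.fwd (nat_lit 8192) (Steps.bwd (nat_lit 11) (Steps.fwd (nat_lit 16384) (Steps.fwd (nat_lit 90112) (Steps.bwd (nat_lit 2) (Steps.fwd (nat_lit 90112) (Steps.bwd (nat_lit 1) (Steps.bwd (nat_lit 7) (Steps.bwd (nat_lit 10) (Steps.bwd (nat_lit 3) (Steps.bwd (nat_lit 1) (Steps.fwd (nat_lit 24576) (Steps.fwd (nat_lit 65536) (Steps.bwd (nat_lit 10) Steps.nil))))))))))))))))) (nat_lit 57) (nat_lit 17),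
  Rule.mk (nat_lit 17) (nat_lit 110) (Steps.bwd (nat_lit 9) (Steps.bwd (nat_lit 3) (Steps.bwd (nat_lit 3) (Steps.fwd (nat_lit 114688) (Steps.bwd (nat_lit 16) (Steps.bwd (nat_lit 9) Steps.nil)))))) (nat_lit 65) (nat_lit 6),
  Rule.mk (nat_lit 3) (nat_lit 110) (Steps.fwd (nat_lit 81920) (Steps.fwd (nat_lit 73728) (Steps.bwd (nat_lit 11) (Steps.bwd (nat_lit 9) (Steps.fwd (nat_lit 32768) (Steps.fwd (nat_lit 122880) Steps.nil)))))) (nat_lit 61) (nat_lit 3),
  Rule.mk (nat_lit 12) (nat_lit 142) (Steps.bwd (nat_lit 11) (Steps.fwd (nat_lit 8192) (Steps.bwd (nat_lit 16) (Steps.bwd (nat_lit 1) (Steps.fwd (nat_lit 131072) (Steps.fwd (nat_lit 81920) (Steps.bwd (nat_lit 17) (Steps.fwd (nat_lit 122880) Steps.nil)))))))) (nat_lit 46) (nat_lit 8),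
  Rule.mk (nat_lit 3) (nat_lit 126) (Steps.bwd (nat_lit 16) (Steps.fwd (nat_lit 90112) (Steps.fwd (nat_lit 139264) (Steps.bwd (nat_lit 15) (Steps.bwd (nat_lit 13) (Steps.fwd (nat_lit 24576) (Steps.bwd (nat_lit 12) Steps.nil))))))) (nat_lit 50) (nat_lit 3),
  Rule.mk (nat_lit 9) (nat_lit 110) (Steps.fwd (nat_lit 131072) (Steps.fwd (nat_lit 73728) (Steps.bwd (nat_lit 3) (Steps.bwd (nat_lit 3) (Steps.fwd (nat_lit 114688) (Steps.fwd (nat_lit 139264) Steps.nil)))))) (nat_lit 65) (nat_lit 5),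
  Rule.mk (nat_lit 11) (nat_lit 286) (Steps.bwd (nat_lit 8) (Steps.fwd (nat_lit 32768) (Steps.bwd (nat_lit 2) (Steps.bwd (nat_lit 4) (Steps.fwd (nat_lit 81920) (Steps.bwd (nat_lit 8) (Steps.bwd (nat_lit 2) (Steps.bwd (nat_lit 11) (Steps.fwd (nat_lit 16384) (Steps.bwd (nat_lit 11) (Steps.bwd (nat_lit 2) (Steps.bwd (nat_lit 10) (Steps.bwd (nat_lit 1) (Steps.bwd (nat_lit 3) (Steps.fwd (nat_lit 32768) (Steps.fwd (nat_lit 73728) (Steps.bwd (nat_lit 8) Steps.nil))))))))))))))))) (nat_lit 56) (nat_lit 3),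
  Rule.mk (nat_lit 4) (nat_lit 126) (Steps.fwd (nat_lit 106496) (Steps.fwd (nat_lit 32768) (Steps.bwd (nat_lit 16) (Steps.fwd (nat_lit 90112) (Steps.bwd (nat_lit 16) (Steps.fwd (nat_lit 114688) (Steps.bwd (nat_lit 13) Steps.nil))))))) (nat_lit 50) (nat_lit 1),
  Rule.mk (nat_lit 9) (nat_lit 110) (Steps.bwd (nat_lit 3) (Steps.bwd (nat_lit 3) (Steps.bwd (nat_lit 15) (Steps.bwd (nat_lit 16) (Steps.bwd (nat_lit 9) (Steps.bwd (nat_lit 17) Steps.nil)))))) (nat_lit 65) (nat_lit 0),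
  Rule.mk (nat_lit 19) (nat_lit 110) (Steps.bwd (nat_lit 9) (Steps.bwd (nat_lit 10) (Steps.bwd (nat_lit 15) (Steps.fwd (nat_lit 90112) (Steps.fwd (nat_lit 131072) (Steps.bwd (nat_lit 9) Steps.nil)))))) (nat_lit 67) (nat_lit 6),
  Rule.mk (nat_lit 4) (nat_lit 110) (Steps.bwd (nat_lit 9) (Steps.bwd (nat_lit 10) (Steps.bwd (nat_lit 15) (Steps.bwd (nat_lit 17) (Steps.fwd (nat_lit 131072) (Steps.fwd (nat_lit 73728) Steps.nil)))))) (nat_lit 71) (nat_lit 6),
  Rule.mk (nat_lit 15) (nat_lit 158) (Steps.bwd (nat_lit 9) (Steps.fwd (nat_lit 32768) (Steps.bwd (nat_lit 3) (Steps.bwd (nat_lit 1) (Steps.fwd (nat_lit 106496) (Steps.fwd (nat_lit 81920) (Steps.fwd (nat_lit 131072) (Steps.bwd (nat_lit 2) (Steps.fwd (nat_lit 73728) Steps.nil))))))))) (nat_lit 63) (nat_lit 9),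
  Rule.mk (nat_lit 2) (nat_lit 158) (Steps.bwd (nat_lit 9) (Steps.fwd (nat_lit 114688) (Steps.bwd (nat_lit 9) (Steps.bwd (nat_lit 3) (Steps.bwd (nat_lit 3) (Steps.bwd (nat_lit 1) (Steps.fwd (nat_lit 106496) (Steps.bwd (nat_lit 11) (Steps.bwd (nat_lit 17) Steps.nil))))))))) (nat_lit 63) (nat_lit 7),
  Rule.mk (nat_lit 13) (nat_lit 190) (Steps.bwd (nat_lit 9) (Steps.fwd (nat_lit 106496) (Steps.bwd (nat_lit 17) (Steps.bwd (nat_lit 1) (Steps.bwd (nat_lit 14) (Steps.bwd (nat_lit 1) (Steps.fwd (nat_lit 16384) (Steps.fwd (nat_lit 16384) (Steps.fwd (nat_lit 73728) (Steps.fwd (nat_lit 106496) (Steps.bwd (nat_lit 9) Steps.nil))))))))))) (nat_lit 74) (nat_lit 4),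
  Rule.mk (nat_lit 4) (nat_lit 126) (Steps.fwd (nat_lit 106496) (Steps.bwd (nat_lit 3) (Steps.fwd (nat_lit 139264) (Steps.fwd (nat_lit 90112) (Steps.bwd (nat_lit 16) (Steps.fwd (nat_lit 114688) (Steps.bwd (nat_lit 13) Steps.nil))))))) (nat_lit 50) (nat_lit 1),
  Rule.mk (nat_lit 15) (nat_lit 142) (Steps.bwd (nat_lit 16) (Steps.fwd (nat_lit 90112) (Steps.fwd (nat_lit 139264) (Steps.bwd (nat_lit 2) (Steps.bwd (nat_lit 17) (Steps.fwd (nat_lit 16384) (Steps.fwd (nat_lit 90112) (Steps.bwd (nat_lit 13) Steps.nil)))))))) (nat_lit 47) (nat_lit 3),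
  Rule.mk (nat_lit 9) (nat_lit 110) (Steps.fwd (nat_lit 90112) (Steps.bwd (nat_lit 9) (Steps.bwd (nat_lit 10) (Steps.bwd (nat_lit 4) (Steps.bwd (nat_lit 15) (Steps.bwd (nat_lit 4) Steps.nil)))))) (nat_lit 60) (nat_lit 1),
  Rule.mk (nat_lit 9) (nat_lit 158) (Steps.fwd (nat_lit 122880) (Steps.bwd (nat_lit 9) (Steps.fwd (nat_lit 16384) (Steps.bwd (nat_lit 16) (Steps.bwd (nat_lit 10) (Steps.bwd (nat_lit 13) (Steps.fwd (nat_lit 8192) (Steps.bwd (nat_lit 4) (Steps.fwd (nat_lit 24576) Steps.nil))))))))) (nat_lit 62) (nat_lit 1),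
  Rule.mk (nat_lit 18) (nat_lit 270) (Steps.fwd (nat_lit 139264) (Steps.fwd (nat_lit 90112) (Steps.bwd (nat_lit 3) (Steps.fwd (nat_lit 16384) (Steps.bwd (nat_lit 4) (Steps.fwd (nat_lit 24576) (Steps.bwd (nat_lit 2) (Steps.bwd (nat_lit 7) (Steps.bwd (nat_lit 9) (Steps.fwd (nat_lit 24576) (Steps.fwd (nat_lit 106496) (Steps.fwd (nat_lit 8192) (Steps.fwd (nat_lit 73728) (Steps.bwd (nat_lit 2) (Steps.fwd (nat_lit 73728) (Steps.bwd (nat_lit 2) Steps.nil)))))))))))))))) (nat_lit 76) (nat_lit 10),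
  Rule.mk (nat_lit 2) (nat_lit 142) (Steps.bwd (nat_lit 17) (Steps.fwd (nat_lit 16384) (Steps.fwd (nat_lit 90112) (Steps.fwd (nat_lit 98304) (Steps.fwd (nat_lit 114688) (Steps.bwd (nat_lit 16) (Steps.bwd (nat_lit 10) (Steps.fwd (nat_lit 139264) Steps.nil)))))))) (nat_lit 47) (nat_lit 7),
  Rule.mk (nat_lit 13) (nat_lit 190) (Steps.bwd (nat_lit 9) (Steps.bwd (nat_lit 2) (Steps.fwd (nat_lit 8192) (Steps.fwd (nat_lit 8192) (Steps.bwd (nat_lit 15) (Steps.fwd (nat_lit 8192) (Steps.bwd (nat_lit 16) (Steps.bwd (nat_lit 13) (Steps.bwd (nat_lit 9) (Steps.fwd (nat_lit 106496) (Steps.bwd (nat_lit 9) Steps.nil))))))))))) (nat_lit 75) (nat_lit 11),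
  Rule.mk (nat_lit 1) (nat_lit 206) (Steps.bwd (nat_lit 9) (Steps.bwd (nat_lit 16) (Steps.bwd (nat_lit 19) (Steps.bwd (nat_lit 11) (Steps.bwd (nat_lit 2) (Steps.fwd (nat_lit 32768) (Steps.bwd (nat_lit 2) (Steps.bwd (nat_lit 4) (Steps.fwd (nat_lit 24576) (Steps.bwd (nat_lit 2) (Steps.bwd (nat_lit 9) (Steps.fwd (nat_lit 16384) Steps.nil)))))))))))) (nat_lit 68) (nat_lit 3),
  Rule.mk (nat_lit 17) (nat_lit 142) (Steps.fwd (nat_lit 81920) (Steps.bwd (nat_lit 17) (Steps.bwd (nat_lit 14) (Steps.fwd (nat_lit 106496) (Steps.fwd (nat_lit 81920) (Steps.fwd (nat_lit 8192) (Steps.fwd (nat_lit 139264) (Steps.bwd (nat_lit 1) Steps.nil)))))))) (nat_lit 46) (nat_lit 4),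
  Rule.mk (nat_lit 10) (nat_lit 110) (Steps.bwd (nat_lit 17) (Steps.bwd (nat_lit 9) (Steps.bwd (nat_lit 19) (Steps.bwd (nat_lit 9) (Steps.fwd (nat_lit 90112) (Steps.fwd (nat_lit 114688) Steps.nil)))))) (nat_lit 67) (nat_lit 3),
  Rule.mk (nat_lit 7) (nat_lit 126) (Steps.bwd (nat_lit 19) (Steps.fwd (nat_lit 65536) (Steps.fwd (nat_lit 155648) (Steps.fwd (nat_lit 8192) (Steps.bwd (nat_lit 2) (Steps.fwd (nat_lit 65536) (Steps.bwd (nat_lit 18) Steps.nil))))))) (nat_lit 86) (nat_lit 3),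
  Rule.mk (nat_lit 2) (nat_lit 94) (Steps.bwd (nat_lit 4) (Steps.bwd (nat_lit 1) (Steps.fwd (nat_lit 16384) (Steps.bwd (nat_lit 3) (Steps.bwd (nat_lit 2) Steps.nil))))) (nat_lit 6) (nat_lit 2),
  Rule.mk (nat_lit 9) (nat_lit 190) (Steps.bwd (nat_lit 12) (Steps.bwd (nat_lit 17) (Steps.fwd (nat_lit 16384) (Steps.fwd (nat_lit 122880) (Steps.bwd (nat_lit 1) (Steps.fwd (nat_lit 16384) (Steps.fwd (nat_lit 16384) (Steps.bwd (nat_lit 9) (Steps.bwd (nat_lit 12) (Steps.bwd (nat_lit 9) (Steps.fwd (nat_lit 98304) Steps.nil))))))))))) (nat_lit 74) (nat_lit 5),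
  Rule.mk (nat_lit 17) (nat_lit 158) (Steps.fwd (nat_lit 8192) (Steps.bwd (nat_lit 9) (Steps.fwd (nat_lit 114688) (Steps.bwd (nat_lit 9) (Steps.bwd (nat_lit 3) (Steps.bwd (nat_lit 3) (Steps.fwd (nat_lit 16384) (Steps.bwd (nat_lit 12) (Steps.bwd (nat_lit 11) Steps.nil))))))))) (nat_lit 63) (nat_lit 6),
  Rule.mk (nat_lit 0) (nat_lit 110) (Steps.bwd (nat_lit 2) (Steps.bwd (nat_lit 2) (Steps.fwd (nat_lit 8192) (Steps.bwd (nat_lit 2) (Steps.bwd (nat_lit 7) (Steps.fwd (nat_lit 65536) Steps.nil)))))) (nat_lit 78) (nat_lit 2),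
  Rule.mk (nat_lit 15) (nat_lit 110) (Steps.fwd (nat_lit 16384) (Steps.fwd (nat_lit 114688) (Steps.bwd (nat_lit 15) (Steps.fwd (nat_lit 90112) (Steps.bwd (nat_lit 16) (Steps.bwd (nat_lit 2) Steps.nil)))))) (nat_lit 45) (nat_lit 6),
  Rule.mk (nat_lit 18) (nat_lit 78) (Steps.bwd (nat_lit 15) (Steps.bwd (nat_lit 17) (Steps.fwd (nat_lit 122880) (Steps.bwd (nat_lit 16) Steps.nil)))) (nat_lit 40) (nat_lit 0),
  Rule.mk (nat_lit 11) (nat_lit 142) (Steps.bwd (nat_lit 17) (Steps.bwd (nat_lit 14) (Steps.bwd (nat_lit 12) (Steps.fwd (nat_lit 81920) (Steps.fwd (nat_lit 8192) (Steps.bwd (nat_lit 16) (Steps.bwd (nat_lit 1) (Steps.bwd (nat_lit 17) Steps.nil)))))))) (nat_lit 46) (nat_lit 5),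
  Rule.mk (nat_lit 11) (nat_lit 78) (Steps.fwd (nat_lit 8192) (Steps.fwd (nat_lit 98304) (Steps.bwd (nat_lit 1) (Steps.bwd (nat_lit 11) Steps.nil)))) (nat_lit 43) (nat_lit 2),
  Rule.mk (nat_lit 14) (nat_lit 110) (Steps.fwd (nat_lit 16384) (Steps.bwd (nat_lit 17) (Steps.bwd (nat_lit 11) (Steps.fwd (nat_lit 122880) (Steps.fwd (nat_lit 122880) (Steps.bwd (nat_lit 2) Steps.nil)))))) (nat_lit 44) (nat_lit 2),
  Rule.mk (nat_lit 16) (nat_lit 142) (Steps.fwd (nat_lit 16384) (Steps.bwd (nat_lit 17) (Steps.bwd (nat_lit 11) (Steps.bwd (nat_lit 17) (Steps.bwd (nat_lit 14) (Steps.fwd (nat_lit 106496) (Steps.bwd (nat_lit 11) (Steps.bwd (nat_lit 2) Steps.nil)))))))) (nat_lit 46) (nat_lit 2),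
  Rule.mk (nat_lit 9) (nat_lit 206) (Steps.bwd (nat_lit 1) (Steps.fwd (nat_lit 16384) (Steps.fwd (nat_lit 73728) (Steps.bwd (nat_lit 16) (Steps.bwd (nat_lit 19) (Steps.fwd (nat_lit 81920) (Steps.fwd (nat_lit 8192) (Steps.bwd (nat_lit 3) (Steps.bwd (nat_lit 2) (Steps.bwd (nat_lit 4) (Steps.bwd (nat_lit 4) (Steps.bwd (nat_lit 2) Steps.nil)))))))))))) (nat_lit 68) (nat_lit 1),
  Rule.mk (nat_lit 11) (nat_lit 110) (Steps.bwd (nat_lit 14) (Steps.bwd (nat_lit 11) (Steps.fwd (nat_lit 73728) (Steps.bwd (nat_lit 18) (Steps.fwd (nat_lit 73728) (Steps.bwd (nat_lit 16) Steps.nil)))))) (nat_lit 66) (nat_lit 5),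
  Rule.mk (nat_lit 19) (nat_lit 206) (Steps.fwd (nat_lit 81920) (Steps.fwd (nat_lit 8192) (Steps.fwd (nat_lit 8192) (Steps.bwd (nat_lit 9) (Steps.fwd (nat_lit 16384) (Steps.bwd (nat_lit 3) (Steps.bwd (nat_lit 3) (Steps.bwd (nat_lit 1) (Steps.fwd (nat_lit 24576) (Steps.fwd (nat_lit 16384) (Steps.fwd (nat_lit 73728) (Steps.bwd (nat_lit 16) Steps.nil)))))))))))) (nat_lit 72) (nat_lit 10),
  Rule.mk (nat_lit 11) (nat_lit 78) (Steps.bwd (nat_lit 11) (Steps.fwd (nat_lit 8192) (Steps.bwd (nat_lit 13) (Steps.fwd (nat_lit 16384) Steps.nil)))) (nat_lit 43) (nat_lit 1),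
  Rule.mk (nat_lit 12) (nat_lit 78) (Steps.bwd (nat_lit 19) (Steps.bwd (nat_lit 11) (Steps.bwd (nat_lit 13) (Steps.fwd (nat_lit 90112) Steps.nil)))) (nat_lit 19) (nat_lit 4)]
noncomputable def R_78 : List (Rule) := [Rule.mk (nat_lit 3) (nat_lit 126) (Steps.fwd (nat_lit 122880) (Steps.bwd (nat_lit 14) (Steps.fwd (nat_lit 131072) (Steps.fwd (nat_lit 81920) (Steps.fwd (nat_lit 81920) (Steps.fwd (nat_lit 24576) (Steps.bwd (nat_lit 14) Steps.nil))))))) (nat_lit 52) (nat_lit 3),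
  Rule.mk (nat_lit 1) (nat_lit 190) (Steps.bwd (nat_lit 14) (Steps.bwd (nat_lit 1) (Steps.fwd (nat_lit 16384) (Steps.fwd (nat_lit 16384) (Steps.fwd (nat_lit 73728) (Steps.bwd (nat_lit 12) (Steps.bwd (nat_lit 9) (Steps.bwd (nat_lit 13) (Steps.bwd (nat_lit 9) (Steps.bwd (nat_lit 12) (Steps.bwd (nat_lit 17) Steps.nil))))))))))) (nat_lit 74) (nat_lit 8),
  Rule.mk (nat_lit 3) (nat_lit 94) (Steps.fwd (nat_lit 8192) (Steps.fwd (nat_lit 8192) (Steps.bwd (nat_lit 4) (Steps.fwd (nat_lit 16384) (Steps.bwd (nat_lit 1) Steps.nil))))) (nat_lit 6) (nat_lit 0),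
  Rule.mk (nat_lit 16) (nat_lit 158) (Steps.fwd (nat_lit 90112) (Steps.fwd (nat_lit 98304) (Steps.fwd (nat_lit 8192) (Steps.bwd (nat_lit 4) (Steps.fwd (nat_lit 24576) (Steps.bwd (nat_lit 9) (Steps.fwd (nat_lit 122880) (Steps.fwd (nat_lit 73728) (Steps.bwd (nat_lit 1) Steps.nil))))))))) (nat_lit 62) (nat_lit 5),
  Rule.mk (nat_lit 8) (nat_lit 286) (Steps.bwd (nat_lit 3) (Steps.fwd (nat_lit 8192) (Steps.bwd (nat_lit 4) (Steps.fwd (nat_lit 81920) (Steps.fwd (nat_lit 57344) (Steps.bwd (nat_lit 2) (Steps.fwd (nat_lit 81920) (Steps.bwd (nat_lit 1) (Steps.bwd (nat_lit 11) (Steps.bwd (nat_lit 2) (Steps.fwd (nat_lit 90112) (Steps.fwd (nat_lit 16384) (Steps.fwd (nat_lit 32768) (Steps.bwd (nat_lit 3) (Steps.fwd (nat_lit 73728) (Steps.bwd (nat_lit 8) (Steps.fwd (nat_lit 81920) Steps.nil))))))))))))))))) (nat_lit 56) (nat_lit 4),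
  Rule.mk (nat_lit 0) (nat_lit 78) (Steps.bwd (nat_lit 7) (Steps.bwd (nat_lit 4) (Steps.bwd (nat_lit 8) (Steps.bwd (nat_lit 3) Steps.nil)))) (nat_lit 80) (nat_lit 3),
  Rule.mk (nat_lit 10) (nat_lit 110) (Steps.bwd (nat_lit 16) (Steps.fwd (nat_lit 8192) (Steps.fwd (nat_lit 114688) (Steps.fwd (nat_lit 16384) (Steps.bwd (nat_lit 15) (Steps.bwd (nat_lit 15) Steps.nil)))))) (nat_lit 45) (nat_lit 3),
  Rule.mk (nat_lit 17) (nat_lit 110) (Steps.fwd (nat_lit 73728) (Steps.bwd (nat_lit 19) (Steps.bwd (nat_lit 9) (Steps.bwd (nat_lit 10) (Steps.bwd (nat_lit 15) (Steps.bwd (nat_lit 10) Steps.nil)))))) (nat_lit 67) (nat_lit 4),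
  Rule.mk (nat_lit 16) (nat_lit 142) (Steps.bwd (nat_lit 1) (Steps.fwd (nat_lit 131072) (Steps.bwd (nat_lit 11) (Steps.bwd (nat_lit 17) (Steps.fwd (nat_lit 122880) (Steps.bwd (nat_lit 12) (Steps.bwd (nat_lit 11) (Steps.bwd (nat_lit 2) Steps.nil)))))))) (nat_lit 46) (nat_lit 2),
  Rule.mk (nat_lit 9) (nat_lit 206) (Steps.fwd (nat_lit 16384) (Steps.fwd (nat_lit 16384) (Steps.fwd (nat_lit 73728) (Steps.fwd (nat_lit 139264) (Steps.bwd (nat_lit 19) (Steps.fwd (nat_lit 81920) (Steps.fwd (nat_lit 8192) (Steps.bwd (nat_lit 3) (Steps.bwd (nat_lit 2) (Steps.fwd (nat_lit 24576) (Steps.bwd (nat_lit 4) (Steps.bwd (nat_lit 2) Steps.nil)))))))))))) (nat_lit 68) (nat_lit 1),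
  Rule.mk (nat_lit 11) (nat_lit 142) (Steps.fwd (nat_lit 131072) (Steps.fwd (nat_lit 122880) (Steps.bwd (nat_lit 12) (Steps.bwd (nat_lit 11) (Steps.bwd (nat_lit 2) (Steps.fwd (nat_lit 139264) (Steps.bwd (nat_lit 1) (Steps.bwd (nat_lit 17) Steps.nil)))))))) (nat_lit 46) (nat_lit 5),
  Rule.mk (nat_lit 3) (nat_lit 158) (Steps.bwd (nat_lit 3) (Steps.fwd (nat_lit 16384) (Steps.bwd (nat_lit 12) (Steps.bwd (nat_lit 11) (Steps.bwd (nat_lit 17) (Steps.bwd (nat_lit 2) (Steps.bwd (nat_lit 9) (Steps.fwd (nat_lit 114688) (Steps.fwd (nat_lit 73728) Steps.nil))))))))) (nat_lit 63) (nat_lit 1),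
  Rule.mk (nat_lit 9) (nat_lit 110) (Steps.bwd (nat_lit 18) (Steps.bwd (nat_lit 9) (Steps.fwd (nat_lit 139264) (Steps.bwd (nat_lit 11) (Steps.bwd (nat_lit 14) (Steps.fwd (nat_lit 81920) Steps.nil)))))) (nat_lit 66) (nat_lit 1),
  Rule.mk (nat_lit 7) (nat_lit 126) (Steps.bwd (nat_lit 18) (Steps.fwd (nat_lit 65536) (Steps.bwd (nat_lit 19) (Steps.fwd (nat_lit 65536) (Steps.fwd (nat_lit 155648) (Steps.bwd (nat_lit 2) (Steps.bwd (nat_lit 2) Steps.nil))))))) (nat_lit 86) (nat_lit 1),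
  Rule.mk (nat_lit 10) (nat_lit 78) (Steps.bwd (nat_lit 10) (Steps.fwd (nat_lit 8192) (Steps.bwd (nat_lit 12) (Steps.bwd (nat_lit 1) Steps.nil)))) (nat_lit 42) (nat_lit 4),
  Rule.mk (nat_lit 8) (nat_lit 94) (Steps.fwd (nat_lit 16384) (Steps.fwd (nat_lit 16384) (Steps.bwd (nat_lit 1) (Steps.bwd (nat_lit 1) (Steps.fwd (nat_lit 57344) Steps.nil))))) (nat_lit 79) (nat_lit 0),
  Rule.mk (nat_lit 2) (nat_lit 94) (Steps.bwd (nat_lit 7) (Steps.fwd (nat_lit 16384) (Steps.bwd (nat_lit 1) (Steps.bwd (nat_lit 1) (Steps.fwd (nat_lit 57344) Steps.nil))))) (nat_lit 83) (nat_lit 5),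
  Rule.mk (nat_lit 16) (nat_lit 110) (Steps.bwd (nat_lit 11) (Steps.bwd (nat_lit 14) (Steps.fwd (nat_lit 81920) (Steps.bwd (nat_lit 9) (Steps.fwd (nat_lit 155648) (Steps.fwd (nat_lit 73728) Steps.nil)))))) (nat_lit 66) (nat_lit 4),
  Rule.mk (nat_lit 14) (nat_lit 110) (Steps.bwd (nat_lit 11) (Steps.bwd (nat_lit 9) (Steps.bwd (nat_lit 3) (Steps.bwd (nat_lit 9) (Steps.fwd (nat_lit 139264) (Steps.bwd (nat_lit 16) Steps.nil)))))) (nat_lit 70) (nat_lit 6),
  Rule.mk (nat_lit 14) (nat_lit 110) (Steps.bwd (nat_lit 4) (Steps.fwd (nat_lit 24576) (Steps.bwd (nat_lit 9) (Steps.fwd (nat_lit 139264) (Steps.bwd (nat_lit 9) (Steps.fwd (nat_lit 131072) Steps.nil)))))) (nat_lit 64) (nat_lit 5),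
  Rule.mk (nat_lit 1) (nat_lit 206) (Steps.bwd (nat_lit 4) (Steps.bwd (nat_lit 1) (Steps.bwd (nat_lit 9) (Steps.bwd (nat_lit 16) (Steps.bwd (nat_lit 19) (Steps.fwd (nat_lit 81920) (Steps.bwd (nat_lit 2) (Steps.bwd (nat_lit 2) (Steps.bwd (nat_lit 9) (Steps.bwd (nat_lit 1) (Steps.fwd (nat_lit 32768) (Steps.fwd (nat_lit 32768) Steps.nil)))))))))))) (nat_lit 72) (nat_lit 5),
  Rule.mk (nat_lit 17) (nat_lit 110) (Steps.bwd (nat_lit 9) (Steps.bwd (nat_lit 4) (Steps.bwd (nat_lit 9) (Steps.fwd (nat_lit 90112) (Steps.bwd (nat_lit 15) (Steps.bwd (nat_lit 17) Steps.nil)))))) (nat_lit 71) (nat_lit 4),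
  Rule.mk (nat_lit 9) (nat_lit 270) (Steps.bwd (nat_lit 2) (Steps.bwd (nat_lit 9) (Steps.fwd (nat_lit 8192) (Steps.fwd (nat_lit 155648) (Steps.fwd (nat_lit 139264) (Steps.bwd (nat_lit 10) (Steps.bwd (nat_lit 3) (Steps.bwd (nat_lit 1) (Steps.fwd (nat_lit 24576) (Steps.bwd (nat_lit 4) (Steps.fwd (nat_lit 8192) (Steps.fwd (nat_lit 65536) (Steps.fwd (nat_lit 73728) (Steps.fwd (nat_lit 24576) (Steps.fwd (nat_lit 106496) (Steps.bwd (nat_lit 2) Steps.nil)))))))))))))))) (nat_lit 76) (nat_lit 6),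
  Rule.mk (nat_lit 12) (nat_lit 190) (Steps.bwd (nat_lit 9) (Steps.fwd (nat_lit 98304) (Steps.fwd (nat_lit 73728) (Steps.fwd (nat_lit 106496) (Steps.fwd (nat_lit 131072) (Steps.fwd (nat_lit 16384) (Steps.bwd (nat_lit 14) (Steps.bwd (nat_lit 1) (Steps.fwd (nat_lit 16384) (Steps.fwd (nat_lit 16384) (Steps.fwd (nat_lit 73728) Steps.nil))))))))))) (nat_lit 74) (nat_lit 2),
  Rule.mk (nat_lit 18) (nat_lit 110) (Steps.bwd (nat_lit 9) (Steps.fwd (nat_lit 139264) (Steps.bwd (nat_lit 11) (Steps.bwd (nat_lit 14) (Steps.bwd (nat_lit 11) (Steps.bwd (nat_lit 9) Steps.nil)))))) (nat_lit 66) (nat_lit 2),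
  Rule.mk (nat_lit 2) (nat_lit 158) (Steps.bwd (nat_lit 9) (Steps.bwd (nat_lit 15) (Steps.fwd (nat_lit 73728) (Steps.fwd (nat_lit 32768) (Steps.fwd (nat_lit 32768) (Steps.bwd (nat_lit 1) (Steps.bwd (nat_lit 12) (Steps.bwd (nat_lit 11) (Steps.fwd (nat_lit 131072) Steps.nil))))))))) (nat_lit 63) (nat_lit 7),
  Rule.mk (nat_lit 13) (nat_lit 190) (Steps.bwd (nat_lit 9) (Steps.fwd (nat_lit 106496) (Steps.bwd (nat_lit 9) (Steps.bwd (nat_lit 13) (Steps.bwd (nat_lit 9) (Steps.fwd (nat_lit 8192) (Steps.fwd (nat_lit 8192) (Steps.bwd (nat_lit 2) (Steps.fwd (nat_lit 114688) (Steps.bwd (nat_lit 2) (Steps.fwd (nat_lit 139264) Steps.nil))))))))))) (nat_lit 75) (nat_lit 7),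
  Rule.mk (nat_lit 15) (nat_lit 142) (Steps.bwd (nat_lit 16) (Steps.bwd (nat_lit 10) (Steps.bwd (nat_lit 16) (Steps.bwd (nat_lit 2) (Steps.bwd (nat_lit 17) (Steps.bwd (nat_lit 1) (Steps.bwd (nat_lit 10) (Steps.bwd (nat_lit 13) Steps.nil)))))))) (nat_lit 47) (nat_lit 3),
  Rule.mk (nat_lit 12) (nat_lit 142) (Steps.bwd (nat_lit 11) (Steps.fwd (nat_lit 8192) (Steps.fwd (nat_lit 139264) (Steps.fwd (nat_lit 16384) (Steps.fwd (nat_lit 131072) (Steps.fwd (nat_lit 81920) (Steps.fwd (nat_lit 131072) (Steps.fwd (nat_lit 122880) Steps.nil)))))))) (nat_lit 46) (nat_lit 8),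
  Rule.mk (nat_lit 2) (nat_lit 110) (Steps.bwd (nat_lit 15) (Steps.bwd (nat_lit 1) (Steps.bwd (nat_lit 15) (Steps.bwd (nat_lit 15) (Steps.bwd (nat_lit 10) (Steps.bwd (nat_lit 16) Steps.nil)))))) (nat_lit 45) (nat_lit 5),
  Rule.mk (nat_lit 1) (nat_lit 110) (Steps.bwd (nat_lit 15) (Steps.bwd (nat_lit 15) (Steps.bwd (nat_lit 10) (Steps.bwd (nat_lit 16) (Steps.bwd (nat_lit 2) (Steps.bwd (nat_lit 15) Steps.nil)))))) (nat_lit 45) (nat_lit 0),
  Rule.mk (nat_lit 7) (nat_lit 126) (Steps.bwd (nat_lit 18) (Steps.bwd (nat_lit 7) (Steps.fwd (nat_lit 147456) (Steps.fwd (nat_lit 65536) (Steps.fwd (nat_lit 155648) (Steps.bwd (nat_lit 2) (Steps.bwd (nat_lit 2) Steps.nil))))))) (nat_lit 86) (nat_lit 1),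
  Rule.mk (nat_lit 9) (nat_lit 158) (Steps.fwd (nat_lit 114688) (Steps.fwd (nat_lit 73728) (Steps.fwd (nat_lit 32768) (Steps.fwd (nat_lit 32768) (Steps.bwd (nat_lit 1) (Steps.bwd (nat_lit 12) (Steps.fwd (nat_lit 81920) (Steps.fwd (nat_lit 131072) (Steps.bwd (nat_lit 2) Steps.nil))))))))) (nat_lit 63) (nat_lit 8),
  Rule.mk (nat_lit 10) (nat_lit 126) (Steps.bwd (nat_lit 10) (Steps.bwd (nat_lit 16) (Steps.bwd (nat_lit 15) (Steps.fwd (nat_lit 114688) (Steps.fwd (nat_lit 24576) (Steps.bwd (nat_lit 15) (Steps.bwd (nat_lit 3) Steps.nil))))))) (nat_lit 53) (nat_lit 1),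
  Rule.mk (nat_lit 16) (nat_lit 94) (Steps.bwd (nat_lit 10) (Steps.fwd (nat_lit 155648) (Steps.fwd (nat_lit 155648) (Steps.bwd (nat_lit 17) (Steps.fwd (nat_lit 81920) Steps.nil))))) (nat_lit 35) (nat_lit 5),
  Rule.mk (nat_lit 17) (nat_lit 110) (Steps.bwd (nat_lit 9) (Steps.fwd (nat_lit 32768) (Steps.bwd (nat_lit 3) (Steps.fwd (nat_lit 114688) (Steps.bwd (nat_lit 16) (Steps.bwd (nat_lit 9) Steps.nil)))))) (nat_lit 65) (nat_lit 6),
  Rule.mk (nat_lit 19) (nat_lit 110) (Steps.bwd (nat_lit 9) (Steps.fwd (nat_lit 90112) (Steps.fwd (nat_lit 114688) (Steps.fwd (nat_lit 90112) (Steps.bwd (nat_lit 17) (Steps.bwd (nat_lit 9) Steps.nil)))))) (nat_lit 67) (nat_lit 6),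
  Rule.mk (nat_lit 15) (nat_lit 158) (Steps.bwd (nat_lit 9) (Steps.fwd (nat_lit 32768) (Steps.bwd (nat_lit 3) (Steps.bwd (nat_lit 1) (Steps.bwd (nat_lit 12) (Steps.bwd (nat_lit 11) (Steps.fwd (nat_lit 131072) (Steps.bwd (nat_lit 2) (Steps.fwd (nat_lit 73728) Steps.nil))))))))) (nat_lit 63) (nat_lit 9),
  Rule.mk (nat_lit 12) (nat_lit 190) (Steps.bwd (nat_lit 9) (Steps.fwd (nat_lit 98304) (Steps.fwd (nat_lit 73728) (Steps.bwd (nat_lit 12) (Steps.bwd (nat_lit 17) (Steps.bwd (nat_lit 1) (Steps.fwd (nat_lit 122880) (Steps.bwd (nat_lit 1) (Steps.bwd (nat_lit 1) (Steps.fwd (nat_lit 16384) (Steps.fwd (nat_lit 73728) Steps.nil))))))))))) (nat_lit 74) (nat_lit 2),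
  Rule.mk (nat_lit 13) (nat_lit 190) (Steps.bwd (nat_lit 9) (Steps.fwd (nat_lit 8192) (Steps.fwd (nat_lit 8192) (Steps.fwd (nat_lit 8192) (Steps.fwd (nat_lit 114688) (Steps.fwd (nat_lit 8192) (Steps.bwd (nat_lit 16) (Steps.fwd (nat_lit 98304) (Steps.bwd (nat_lit 9) (Steps.fwd (nat_lit 106496) (Steps.fwd (nat_lit 73728) Steps.nil))))))))))) (nat_lit 75) (nat_lit 11),
  Rule.mk (nat_lit 4) (nat_lit 126) (Steps.bwd (nat_lit 12) (Steps.bwd (nat_lit 3) (Steps.bwd (nat_lit 16) (Steps.fwd (nat_lit 90112) (Steps.fwd (nat_lit 139264) (Steps.fwd (nat_lit 114688) (Steps.fwd (nat_lit 98304) Steps.nil))))))) (nat_lit 50) (nat_lit 1),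
  Rule.mk (nat_lit 9) (nat_lit 158) (Steps.bwd (nat_lit 1) (Steps.fwd (nat_lit 139264) (Steps.bwd (nat_lit 10) (Steps.fwd (nat_lit 98304) (Steps.fwd (nat_lit 8192) (Steps.fwd (nat_lit 24576) (Steps.bwd (nat_lit 4) (Steps.fwd (nat_lit 73728) (Steps.bwd (nat_lit 14) Steps.nil))))))))) (nat_lit 62) (nat_lit 3),
  Rule.mk (nat_lit 9) (nat_lit 286) (Steps.bwd (nat_lit 4) (Steps.fwd (nat_lit 24576) (Steps.fwd (nat_lit 8192) (Steps.fwd (nat_lit 81920) (Steps.fwd (nat_lit 16384) (Steps.fwd (nat_lit 90112) (Steps.bwd (nat_lit 2) (Steps.bwd (nat_lit 10) (Steps.fwd (nat_lit 16384) (Steps.bwd (nat_lit 7) (Steps.fwd (nat_lit 90112) (Steps.fwd (nat_lit 32768) (Steps.fwd (nat_lit 16384) (Steps.bwd (nat_lit 4) (Steps.bwd (nat_lit 7) (Steps.fwd (nat_lit 90112) (Steps.bwd (nat_lit 7) Steps.nil))))))))))))))))) (nat_lit 57) (nat_lit 0),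
  Rule.mk (nat_lit 17) (nat_lit 110) (Steps.bwd (nat_lit 9) (Steps.fwd (nat_lit 32768) (Steps.fwd (nat_lit 32768) (Steps.bwd (nat_lit 15) (Steps.fwd (nat_lit 139264) (Steps.bwd (nat_lit 9) Steps.nil)))))) (nat_lit 65) (nat_lit 6),
  Rule.mk (nat_lit 11) (nat_lit 110) (Steps.bwd (nat_lit 9) (Steps.fwd (nat_lit 155648) (Steps.fwd (nat_lit 73728) (Steps.fwd (nat_lit 139264) (Steps.fwd (nat_lit 81920) (Steps.bwd (nat_lit 14) Steps.nil)))))) (nat_lit 66) (nat_lit 0),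
  Rule.mk (nat_lit 12) (nat_lit 190) (Steps.bwd (nat_lit 9) (Steps.fwd (nat_lit 98304) (Steps.fwd (nat_lit 73728) (Steps.bwd (nat_lit 12) (Steps.fwd (nat_lit 131072) (Steps.bwd (nat_lit 1) (Steps.fwd (nat_lit 122880) (Steps.fwd (nat_lit 16384) (Steps.bwd (nat_lit 1) (Steps.fwd (nat_lit 16384) (Steps.fwd (nat_lit 73728) Steps.nil))))))))))) (nat_lit 74) (nat_lit 2),
  Rule.mk (nat_lit 9) (nat_lit 190) (Steps.bwd (nat_lit 12) (Steps.bwd (nat_lit 17) (Steps.fwd (nat_lit 16384) (Steps.fwd (nat_lit 122880) (Steps.bwd (nat_lit 1) (Steps.bwd (nat_lit 1) (Steps.bwd (nat_lit 1) (Steps.bwd (nat_lit 9) (Steps.bwd (nat_lit 12) (Steps.fwd (nat_lit 73728) (Steps.bwd (nat_lit 13) Steps.nil))))))))))) (nat_lit 74) (nat_lit 5),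
  Rule.mk (nat_lit 8) (nat_lit 126) (Steps.bwd (nat_lit 19) (Steps.bwd (nat_lit 8) (Steps.bwd (nat_lit 1) (Steps.bwd (nat_lit 1) (Steps.fwd (nat_lit 147456) (Steps.bwd (nat_lit 8) (Steps.fwd (nat_lit 155648) Steps.nil))))))) (nat_lit 87) (nat_lit 6),
  Rule.mk (nat_lit 15) (nat_lit 126) (Steps.fwd (nat_lit 98304) (Steps.bwd (nat_lit 4) (Steps.bwd (nat_lit 12) (Steps.bwd (nat_lit 3) (Steps.fwd (nat_lit 139264) (Steps.bwd (nat_lit 10) (Steps.bwd (nat_lit 16) Steps.nil))))))) (nat_lit 50) (nat_lit 7),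
  Rule.mk (nat_lit 16) (nat_lit 126) (Steps.fwd (nat_lit 90112) (Steps.bwd (nat_lit 16) (Steps.bwd (nat_lit 15) (Steps.fwd (nat_lit 98304) (Steps.fwd (nat_lit 24576) (Steps.fwd (nat_lit 106496) (Steps.bwd (nat_lit 3) Steps.nil))))))) (nat_lit 50) (nat_lit 4),
  Rule.mk (nat_lit 10) (nat_lit 126) (Steps.fwd (nat_lit 90112) (Steps.fwd (nat_lit 139264) (Steps.bwd (nat_lit 15) (Steps.bwd (nat_lit 15) (Steps.fwd (nat_lit 24576) (Steps.bwd (nat_lit 15) (Steps.bwd (nat_lit 3) Steps.nil))))))) (nat_lit 53) (nat_lit 1),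
  Rule.mk (nat_lit 7) (nat_lit 126) (Steps.fwd (nat_lit 147456) (Steps.fwd (nat_lit 65536) (Steps.fwd (nat_lit 155648) (Steps.bwd (nat_lit 2) (Steps.fwd (nat_lit 8192) (Steps.fwd (nat_lit 65536) (Steps.bwd (nat_lit 18) Steps.nil))))))) (nat_lit 86) (nat_lit 3),
  Rule.mk (nat_lit 10) (nat_lit 126) (Steps.bwd (nat_lit 16) (Steps.bwd (nat_lit 15) (Steps.fwd (nat_lit 98304) (Steps.bwd (nat_lit 4) (Steps.fwd (nat_lit 106496) (Steps.fwd (nat_lit 32768) (Steps.bwd (nat_lit 16) Steps.nil))))))) (nat_lit 50) (nat_lit 5),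
  Rule.mk (nat_lit 1) (nat_lit 78) (Steps.bwd (nat_lit 18) (Steps.fwd (nat_lit 155648) (Steps.fwd (nat_lit 8192) (Steps.fwd (nat_lit 147456) Steps.nil)))) (nat_lit 49) (nat_lit 0),
  Rule.mk (nat_lit 18) (nat_lit 126) (Steps.bwd (nat_lit 7) (Steps.bwd (nat_lit 19) (Steps.bwd (nat_lit 7) (Steps.fwd (nat_lit 155648) (Steps.fwd (nat_lit 8192) (Steps.bwd (nat_lit 2) (Steps.bwd (nat_lit 7) Steps.nil))))))) (nat_lit 86) (nat_lit 2),
  Rule.mk (nat_lit 15) (nat_lit 126) (Steps.bwd (nat_lit 15) (Steps.fwd (nat_lit 24576) (Steps.fwd (nat_lit 114688) (Steps.fwd (nat_lit 32768) (Steps.fwd (nat_lit 90112) (Steps.bwd (nat_lit 10) (Steps.fwd (nat_lit 139264) Steps.nil))))))) (nat_lit 53) (nat_lit 4),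
  Rule.mk (nat_lit 9) (nat_lit 158) (Steps.fwd (nat_lit 32768) (Steps.bwd (nat_lit 3) (Steps.fwd (nat_lit 16384) (Steps.fwd (nat_lit 106496) (Steps.bwd (nat_lit 11) (Steps.bwd (nat_lit 17) (Steps.fwd (nat_lit 8192) (Steps.fwd (nat_lit 73728) (Steps.bwd (nat_lit 15) Steps.nil))))))))) (nat_lit 63) (nat_lit 0),
  Rule.mk (nat_lit 15) (nat_lit 126) (Steps.bwd (nat_lit 13) (Steps.fwd (nat_lit 24576) (Steps.bwd (nat_lit 12) (Steps.fwd (nat_lit 32768) (Steps.bwd (nat_lit 16) (Steps.fwd (nat_lit 90112) (Steps.bwd (nat_lit 16) Steps.nil))))))) (nat_lit 50) (nat_lit 7),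
  Rule.mk (nat_lit 10) (nat_lit 158) (Steps.bwd (nat_lit 13) (Steps.fwd (nat_lit 8192) (Steps.fwd (nat_lit 24576) (Steps.fwd (nat_lit 24576) (Steps.bwd (nat_lit 9) (Steps.fwd (nat_lit 122880) (Steps.fwd (nat_lit 73728) (Steps.fwd (nat_lit 16384) (Steps.bwd (nat_lit 16) Steps.nil))))))))) (nat_lit 62) (nat_lit 6),
  Rule.mk (nat_lit 14) (nat_lit 158) (Steps.fwd (nat_lit 73728) (Steps.fwd (nat_lit 16384) (Steps.bwd (nat_lit 16) (Steps.fwd (nat_lit 90112) (Steps.bwd (nat_lit 13) (Steps.fwd (nat_lit 8192) (Steps.fwd (nat_lit 24576) (Steps.bwd (nat_lit 4) (Steps.bwd (nat_lit 9) Steps.nil))))))))) (nat_lit 62) (nat_lit 2),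
  Rule.mk (nat_lit 17) (nat_lit 62) (Steps.fwd (nat_lit 147456) (Steps.bwd (nat_lit 16) (Steps.fwd (nat_lit 155648) Steps.nil))) (nat_lit 30) (nat_lit 1),
  Rule.mk (nat_lit 16) (nat_lit 110) (Steps.bwd (nat_lit 14) (Steps.bwd (nat_lit 11) (Steps.fwd (nat_lit 73728) (Steps.bwd (nat_lit 3) (Steps.fwd (nat_lit 73728) (Steps.bwd (nat_lit 16) Steps.nil)))))) (nat_lit 70) (nat_lit 5),
  Rule.mk (nat_lit 16) (nat_lit 94) (Steps.bwd (nat_lit 10) (Steps.bwd (nat_lit 18) (Steps.fwd (nat_lit 155648) (Steps.bwd (nat_lit 17) (Steps.fwd (nat_lit 81920) Steps.nil))))) (nat_lit 35) (nat_lit 5),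
  Rule.mk (nat_lit 9) (nat_lit 110) (Steps.bwd (nat_lit 10) (Steps.bwd (nat_lit 4) (Steps.fwd (nat_lit 114688) (Steps.fwd (nat_lit 24576) (Steps.fwd (nat_lit 73728) (Steps.bwd (nat_lit 10) Steps.nil)))))) (nat_lit 60) (nat_lit 3)]
noncomputable def R_79 : List (Rule) := [Rule.mk (nat_lit 1) (nat_lit 270) (Steps.bwd (nat_lit 9) (Steps.fwd (nat_lit 16384) (Steps.fwd (nat_lit 98304) (Steps.bwd (nat_lit 3) (Steps.bwd (nat_lit 9) (Steps.fwd (nat_lit 57344) (Steps.bwd (nat_lit 1) (Steps.fwd (nat_lit 32768) (Steps.bwd (nat_lit 3) (Steps.bwd (nat_lit 2) (Steps.fwd (nat_lit 24576) (Steps.fwd (nat_lit 81920) (Steps.bwd (nat_lit 17) (Steps.bwd (nat_lit 19) (Steps.fwd (nat_lit 16384) (Steps.bwd (nat_lit 9) Steps.nil)))))))))))))))) (nat_lit 77) (nat_lit 11),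
  Rule.mk (nat_lit 10) (nat_lit 286) (Steps.fwd (nat_lit 65536) (Steps.bwd (nat_lit 9) (Steps.bwd (nat_lit 4) (Steps.fwd (nat_lit 24576) (Steps.fwd (nat_lit 8192) (Steps.fwd (nat_lit 81920) (Steps.bwd (nat_lit 1) (Steps.bwd (nat_lit 10) (Steps.bwd (nat_lit 2) (Steps.fwd (nat_lit 90112) (Steps.fwd (nat_lit 16384) (Steps.bwd (nat_lit 7) (Steps.fwd (nat_lit 90112) (Steps.bwd (nat_lit 3) (Steps.fwd (nat_lit 16384) (Steps.bwd (nat_lit 4) (Steps.fwd (nat_lit 65536) Steps.nil))))))))))))))))) (nat_lit 57) (nat_lit 16),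
  Rule.mk (nat_lit 16) (nat_lit 142) (Steps.bwd (nat_lit 10) (Steps.fwd (nat_lit 139264) (Steps.bwd (nat_lit 2) (Steps.bwd (nat_lit 17) (Steps.bwd (nat_lit 1) (Steps.bwd (nat_lit 10) (Steps.bwd (nat_lit 13) (Steps.fwd (nat_lit 114688) Steps.nil)))))))) (nat_lit 47) (nat_lit 4),
  Rule.mk (nat_lit 2) (nat_lit 142) (Steps.bwd (nat_lit 17) (Steps.fwd (nat_lit 16384) (Steps.bwd (nat_lit 10) (Steps.bwd (nat_lit 13) (Steps.fwd (nat_lit 114688) (Steps.fwd (nat_lit 139264) (Steps.bwd (nat_lit 10) (Steps.bwd (nat_lit 16) Steps.nil)))))))) (nat_lit 47) (nat_lit 7),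
  Rule.mk (nat_lit 14) (nat_lit 126) (Steps.bwd (nat_lit 14) (Steps.fwd (nat_lit 131072) (Steps.bwd (nat_lit 11) (Steps.bwd (nat_lit 11) (Steps.bwd (nat_lit 4) (Steps.fwd (nat_lit 122880) (Steps.fwd (nat_lit 32768) Steps.nil))))))) (nat_lit 52) (nat_lit 4),
  Rule.mk (nat_lit 2) (nat_lit 142) (Steps.bwd (nat_lit 16) (Steps.bwd (nat_lit 1) (Steps.bwd (nat_lit 17) (Steps.fwd (nat_lit 81920) (Steps.fwd (nat_lit 131072) (Steps.bwd (nat_lit 14) (Steps.fwd (nat_lit 106496) (Steps.bwd (nat_lit 11) Steps.nil)))))))) (nat_lit 46) (nat_lit 1),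
  Rule.mk (nat_lit 9) (nat_lit 110) (Steps.fwd (nat_lit 90112) (Steps.bwd (nat_lit 15) (Steps.bwd (nat_lit 17) (Steps.fwd (nat_lit 131072) (Steps.bwd (nat_lit 9) (Steps.bwd (nat_lit 4) Steps.nil)))))) (nat_lit 71) (nat_lit 0),
  Rule.mk (nat_lit 4) (nat_lit 110) (Steps.bwd (nat_lit 9) (Steps.bwd (nat_lit 10) (Steps.bwd (nat_lit 9) (Steps.fwd (nat_lit 90112) (Steps.fwd (nat_lit 24576) (Steps.fwd (nat_lit 114688) Steps.nil)))))) (nat_lit 60) (nat_lit 0),
  Rule.mk (nat_lit 11) (nat_lit 126) (Steps.bwd (nat_lit 4) (Steps.bwd (nat_lit 14) (Steps.bwd (nat_lit 3) (Steps.fwd (nat_lit 122880) (Steps.fwd (nat_lit 122880) (Steps.bwd (nat_lit 17) (Steps.bwd (nat_lit 11) Steps.nil))))))) (nat_lit 52) (nat_lit 0),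
  Rule.mk (nat_lit 2) (nat_lit 158) (Steps.bwd (nat_lit 4) (Steps.bwd (nat_lit 4) (Steps.bwd (nat_lit 9) (Steps.bwd (nat_lit 14) (Steps.fwd (nat_lit 73728) (Steps.fwd (nat_lit 16384) (Steps.fwd (nat_lit 139264) (Steps.fwd (nat_lit 90112) (Steps.fwd (nat_lit 98304) Steps.nil))))))))) (nat_lit 62) (nat_lit 8),
  Rule.mk (nat_lit 8) (nat_lit 158) (Steps.bwd (nat_lit 19) (Steps.bwd (nat_lit 8) (Steps.fwd (nat_lit 147456) (Steps.bwd (nat_lit 8) (Steps.bwd (nat_lit 19) (Steps.fwd (nat_lit 57344) (Steps.fwd (nat_lit 147456) (Steps.fwd (nat_lit 57344) (Steps.bwd (nat_lit 19) Steps.nil))))))))) (nat_lit 85) (nat_lit 0),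
  Rule.mk (nat_lit 14) (nat_lit 158) (Steps.bwd (nat_lit 9) (Steps.fwd (nat_lit 16384) (Steps.fwd (nat_lit 139264) (Steps.bwd (nat_lit 10) (Steps.bwd (nat_lit 13) (Steps.bwd (nat_lit 2) (Steps.bwd (nat_lit 4) (Steps.fwd (nat_lit 24576) (Steps.bwd (nat_lit 9) Steps.nil))))))))) (nat_lit 62) (nat_lit 2),
  Rule.mk (nat_lit 2) (nat_lit 206) (Steps.fwd (nat_lit 24576) (Steps.bwd (nat_lit 4) (Steps.bwd (nat_lit 2) (Steps.fwd (nat_lit 73728) (Steps.fwd (nat_lit 16384) (Steps.fwd (nat_lit 16384) (Steps.bwd (nat_lit 9) (Steps.fwd (nat_lit 139264) (Steps.fwd (nat_lit 147456) (Steps.bwd (nat_lit 11) (Steps.fwd (nat_lit 8192) (Steps.bwd (nat_lit 3) Steps.nil)))))))))))) (nat_lit 68) (nat_lit 10),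
  Rule.mk (nat_lit 3) (nat_lit 126) (Steps.bwd (nat_lit 12) (Steps.bwd (nat_lit 14) (Steps.fwd (nat_lit 131072) (Steps.bwd (nat_lit 11) (Steps.fwd (nat_lit 131072) (Steps.bwd (nat_lit 4) (Steps.bwd (nat_lit 13) Steps.nil))))))) (nat_lit 51) (nat_lit 0),
  Rule.mk (nat_lit 9) (nat_lit 190) (Steps.bwd (nat_lit 12) (Steps.bwd (nat_lit 17) (Steps.fwd (nat_lit 16384) (Steps.fwd (nat_lit 122880) (Steps.bwd (nat_lit 1) (Steps.bwd (nat_lit 1) (Steps.fwd (nat_lit 16384) (Steps.fwd (nat_lit 73728) (Steps.fwd (nat_lit 106496) (Steps.bwd (nat_lit 9) (Steps.bwd (nat_lit 13) Steps.nil))))))))))) (nat_lit 74) (nat_lit 5),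
  Rule.mk (nat_lit 10) (nat_lit 110) (Steps.bwd (nat_lit 17) (Steps.fwd (nat_lit 73728) (Steps.fwd (nat_lit 147456) (Steps.fwd (nat_lit 73728) (Steps.bwd (nat_lit 10) (Steps.bwd (nat_lit 15) Steps.nil)))))) (nat_lit 67) (nat_lit 3),
  Rule.mk (nat_lit 17) (nat_lit 110) (Steps.bwd (nat_lit 17) (Steps.fwd (nat_lit 73728) (Steps.bwd (nat_lit 4) (Steps.fwd (nat_lit 73728) (Steps.fwd (nat_lit 90112) (Steps.fwd (nat_lit 114688) Steps.nil)))))) (nat_lit 71) (nat_lit 3),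
  Rule.mk (nat_lit 14) (nat_lit 126) (Steps.bwd (nat_lit 17) (Steps.bwd (nat_lit 11) (Steps.bwd (nat_lit 17) (Steps.fwd (nat_lit 24576) (Steps.bwd (nat_lit 13) (Steps.bwd (nat_lit 3) (Steps.fwd (nat_lit 106496) Steps.nil))))))) (nat_lit 51) (nat_lit 2),
  Rule.mk (nat_lit 1) (nat_lit 142) (Steps.bwd (nat_lit 17) (Steps.bwd (nat_lit 11) (Steps.bwd (nat_lit 17) (Steps.fwd (nat_lit 122880) (Steps.bwd (nat_lit 12) (Steps.fwd (nat_lit 81920) (Steps.bwd (nat_lit 2) (Steps.bwd (nat_lit 16) Steps.nil)))))))) (nat_lit 46) (nat_lit 3),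
  Rule.mk (nat_lit 11) (nat_lit 110) (Steps.bwd (nat_lit 9) (Steps.fwd (nat_lit 81920) (Steps.bwd (nat_lit 9) (Steps.bwd (nat_lit 3) (Steps.fwd (nat_lit 122880) (Steps.fwd (nat_lit 32768) Steps.nil)))))) (nat_lit 61) (nat_lit 4),
  Rule.mk (nat_lit 1) (nat_lit 206) (Steps.bwd (nat_lit 9) (Steps.fwd (nat_lit 139264) (Steps.bwd (nat_lit 19) (Steps.fwd (nat_lit 81920) (Steps.bwd (nat_lit 2) (Steps.bwd (nat_lit 3) (Steps.bwd (nat_lit 2) (Steps.fwd (nat_lit 24576) (Steps.bwd (nat_lit 4) (Steps.bwd (nat_lit 2) (Steps.bwd (nat_lit 9) (Steps.fwd (nat_lit 16384) Steps.nil)))))))))))) (nat_lit 68) (nat_lit 3),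
  Rule.mk (nat_lit 12) (nat_lit 142) (Steps.bwd (nat_lit 11) (Steps.fwd (nat_lit 8192) (Steps.bwd (nat_lit 16) (Steps.bwd (nat_lit 1) (Steps.fwd (nat_lit 131072) (Steps.bwd (nat_lit 11) (Steps.fwd (nat_lit 131072) (Steps.fwd (nat_lit 122880) Steps.nil)))))))) (nat_lit 46) (nat_lit 8),
  Rule.mk (nat_lit 4) (nat_lit 110) (Steps.fwd (nat_lit 24576) (Steps.bwd (nat_lit 9) (Steps.bwd (nat_lit 16) (Steps.fwd (nat_lit 73728) (Steps.fwd (nat_lit 131072) (Steps.bwd (nat_lit 14) Steps.nil)))))) (nat_lit 64) (nat_lit 6),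
  Rule.mk (nat_lit 2) (nat_lit 94) (Steps.bwd (nat_lit 7) (Steps.fwd (nat_lit 16384) (Steps.bwd (nat_lit 1) (Steps.fwd (nat_lit 16384) (Steps.fwd (nat_lit 57344) Steps.nil))))) (nat_lit 83) (nat_lit 5),
  Rule.mk (nat_lit 18) (nat_lit 158) (Steps.bwd (nat_lit 7) (Steps.fwd (nat_lit 155648) (Steps.bwd (nat_lit 7) (Steps.bwd (nat_lit 18) (Steps.bwd (nat_lit 7) (Steps.bwd (nat_lit 18) (Steps.bwd (nat_lit 7) (Steps.bwd (nat_lit 18) (Steps.fwd (nat_lit 65536) Steps.nil))))))))) (nat_lit 84) (nat_lit 0),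
  Rule.mk (nat_lit 9) (nat_lit 110) (Steps.fwd (nat_lit 90112) (Steps.bwd (nat_lit 15) (Steps.fwd (nat_lit 90112) (Steps.bwd (nat_lit 17) (Steps.bwd (nat_lit 9) (Steps.bwd (nat_lit 19) Steps.nil)))))) (nat_lit 67) (nat_lit 0),
  Rule.mk (nat_lit 14) (nat_lit 110) (Steps.bwd (nat_lit 2) (Steps.fwd (nat_lit 122880) (Steps.fwd (nat_lit 16384) (Steps.fwd (nat_lit 131072) (Steps.bwd (nat_lit 11) (Steps.fwd (nat_lit 122880) Steps.nil)))))) (nat_lit 44) (nat_lit 0),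
  Rule.mk (nat_lit 16) (nat_lit 142) (Steps.bwd (nat_lit 2) (Steps.bwd (nat_lit 17) (Steps.bwd (nat_lit 1) (Steps.fwd (nat_lit 90112) (Steps.fwd (nat_lit 98304) (Steps.fwd (nat_lit 114688) (Steps.fwd (nat_lit 139264) (Steps.bwd (nat_lit 10) Steps.nil)))))))) (nat_lit 47) (nat_lit 6),
  Rule.mk (nat_lit 15) (nat_lit 190) (Steps.bwd (nat_lit 2) (Steps.fwd (nat_lit 139264) (Steps.bwd (nat_lit 13) (Steps.fwd (nat_lit 73728) (Steps.bwd (nat_lit 12) (Steps.bwd (nat_lit 9) (Steps.fwd (nat_lit 98304) (Steps.fwd (nat_lit 73728) (Steps.bwd (nat_lit 2) (Steps.bwd (nat_lit 2) (Steps.fwd (nat_lit 8192) Steps.nil))))))))))) (nat_lit 75) (nat_lit 4),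
  Rule.mk (nat_lit 3) (nat_lit 206) (Steps.bwd (nat_lit 2) (Steps.fwd (nat_lit 24576) (Steps.fwd (nat_lit 24576) (Steps.bwd (nat_lit 2) (Steps.bwd (nat_lit 9) (Steps.fwd (nat_lit 16384) (Steps.fwd (nat_lit 16384) (Steps.fwd (nat_lit 73728) (Steps.fwd (nat_lit 139264) (Steps.bwd (nat_lit 19) (Steps.fwd (nat_lit 81920) (Steps.bwd (nat_lit 2) Steps.nil)))))))))))) (nat_lit 68) (nat_lit 9),
  Rule.mk (nat_lit 16) (nat_lit 126) (Steps.fwd (nat_lit 90112) (Steps.fwd (nat_lit 139264) (Steps.bwd (nat_lit 15) (Steps.bwd (nat_lit 13) (Steps.fwd (nat_lit 24576) (Steps.fwd (nat_lit 106496) (Steps.bwd (nat_lit 3) Steps.nil))))))) (nat_lit 50) (nat_lit 4),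
  Rule.mk (nat_lit 9) (nat_lit 110) (Steps.bwd (nat_lit 16) (Steps.bwd (nat_lit 9) (Steps.fwd (nat_lit 131072) (Steps.fwd (nat_lit 122880) (Steps.fwd (nat_lit 24576) (Steps.fwd (nat_lit 24576) Steps.nil)))))) (nat_lit 64) (nat_lit 1),
  Rule.mk (nat_lit 16) (nat_lit 110) (Steps.bwd (nat_lit 2) (Steps.fwd (nat_lit 114688) (Steps.bwd (nat_lit 1) (Steps.bwd (nat_lit 15) (Steps.fwd (nat_lit 114688) (Steps.bwd (nat_lit 10) Steps.nil)))))) (nat_lit 45) (nat_lit 4),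
  Rule.mk (nat_lit 11) (nat_lit 142) (Steps.bwd (nat_lit 2) (Steps.fwd (nat_lit 139264) (Steps.fwd (nat_lit 16384) (Steps.bwd (nat_lit 17) (Steps.bwd (nat_lit 11) (Steps.bwd (nat_lit 17) (Steps.fwd (nat_lit 122880) (Steps.bwd (nat_lit 12) Steps.nil)))))))) (nat_lit 46) (nat_lit 0),
  Rule.mk (nat_lit 3) (nat_lit 206) (Steps.bwd (nat_lit 2) (Steps.bwd (nat_lit 4) (Steps.bwd (nat_lit 4) (Steps.fwd (nat_lit 8192) (Steps.bwd (nat_lit 9) (Steps.fwd (nat_lit 16384) (Steps.bwd (nat_lit 1) (Steps.bwd (nat_lit 9) (Steps.bwd (nat_lit 16) (Steps.fwd (nat_lit 147456) (Steps.bwd (nat_lit 11) (Steps.fwd (nat_lit 8192) Steps.nil)))))))))))) (nat_lit 68) (nat_lit 9),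
  Rule.mk (nat_lit 9) (nat_lit 286) (Steps.fwd (nat_lit 57344) (Steps.bwd (nat_lit 11) (Steps.bwd (nat_lit 8) (Steps.fwd (nat_lit 32768) (Steps.fwd (nat_lit 8192) (Steps.fwd (nat_lit 24576) (Steps.bwd (nat_lit 11) (Steps.bwd (nat_lit 8) (Steps.fwd (nat_lit 8192) (Steps.bwd (nat_lit 11) (Steps.fwd (nat_lit 16384) (Steps.bwd (nat_lit 11) (Steps.bwd (nat_lit 2) (Steps.bwd (nat_lit 10) (Steps.fwd (nat_lit 16384) (Steps.fwd (nat_lit 32768) (Steps.bwd (nat_lit 3) Steps.nil))))))))))))))))) (nat_lit 56) (nat_lit 1),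
  Rule.mk (nat_lit 9) (nat_lit 190) (Steps.bwd (nat_lit 12) (Steps.bwd (nat_lit 9) (Steps.fwd (nat_lit 98304) (Steps.fwd (nat_lit 73728) (Steps.bwd (nat_lit 12) (Steps.fwd (nat_lit 131072) (Steps.bwd (nat_lit 1) (Steps.fwd (nat_lit 122880) (Steps.fwd (nat_lit 16384) (Steps.bwd (nat_lit 1) (Steps.fwd (nat_lit 16384) Steps.nil))))))))))) (nat_lit 74) (nat_lit 1),
  Rule.mk (nat_lit 18) (nat_lit 78) (Steps.bwd (nat_lit 13) (Steps.fwd (nat_lit 114688) (Steps.bwd (nat_lit 12) (Steps.bwd (nat_lit 14) Steps.nil)))) (nat_lit 36) (nat_lit 0),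
  Rule.mk (nat_lit 9) (nat_lit 206) (Steps.fwd (nat_lit 16384) (Steps.bwd (nat_lit 3) (Steps.fwd (nat_lit 32768) (Steps.bwd (nat_lit 1) (Steps.bwd (nat_lit 4) (Steps.fwd (nat_lit 16384) (Steps.fwd (nat_lit 90112) (Steps.fwd (nat_lit 155648) (Steps.fwd (nat_lit 131072) (Steps.fwd (nat_lit 73728) (Steps.bwd (nat_lit 2) (Steps.bwd (nat_lit 2) Steps.nil)))))))))))) (nat_lit 69) (nat_lit 0),
  Rule.mk (nat_lit 7) (nat_lit 126) (Steps.bwd (nat_lit 18) (Steps.bwd (nat_lit 7) (Steps.bwd (nat_lit 19) (Steps.bwd (nat_lit 7) (Steps.bwd (nat_lit 18) (Steps.fwd (nat_lit 8192) (Steps.bwd (nat_lit 2) Steps.nil))))))) (nat_lit 86) (nat_lit 1),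
  Rule.mk (nat_lit 8) (nat_lit 158) (Steps.fwd (nat_lit 147456) (Steps.fwd (nat_lit 57344) (Steps.bwd (nat_lit 19) (Steps.fwd (nat_lit 57344) (Steps.fwd (nat_lit 147456) (Steps.bwd (nat_lit 8) (Steps.fwd (nat_lit 147456) (Steps.fwd (nat_lit 57344) (Steps.bwd (nat_lit 19) Steps.nil))))))))) (nat_lit 85) (nat_lit 0),
  Rule.mk (nat_lit 9) (nat_lit 206) (Steps.bwd (nat_lit 16) (Steps.fwd (nat_lit 147456) (Steps.fwd (nat_lit 81920) (Steps.fwd (nat_lit 8192) (Steps.fwd (nat_lit 32768) (Steps.fwd (nat_lit 8192) (Steps.bwd (nat_lit 4) (Steps.fwd (nat_lit 24576) (Steps.fwd (nat_lit 8192) (Steps.fwd (nat_lit 73728) (Steps.bwd (nat_lit 1) (Steps.bwd (nat_lit 1) Steps.nil)))))))))))) (nat_lit 68) (nat_lit 4),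
  Rule.mk (nat_lit 15) (nat_lit 126) (Steps.bwd (nat_lit 3) (Steps.bwd (nat_lit 10) (Steps.bwd (nat_lit 10) (Steps.fwd (nat_lit 139264) (Steps.fwd (nat_lit 114688) (Steps.fwd (nat_lit 114688) (Steps.bwd (nat_lit 4) Steps.nil))))))) (nat_lit 53) (nat_lit 7),
  Rule.mk (nat_lit 9) (nat_lit 286) (Steps.bwd (nat_lit 8) (Steps.fwd (nat_lit 81920) (Steps.bwd (nat_lit 8) (Steps.bwd (nat_lit 3) (Steps.fwd (nat_lit 8192) (Steps.fwd (nat_lit 24576) (Steps.bwd (nat_lit 11) (Steps.bwd (nat_lit 8) (Steps.bwd (nat_lit 2) (Steps.bwd (nat_lit 11) (Steps.bwd (nat_lit 1) (Steps.bwd (nat_lit 11) (Steps.fwd (nat_lit 8192) (Steps.fwd (nat_lit 90112) (Steps.bwd (nat_lit 1) (Steps.fwd (nat_lit 32768) (Steps.bwd (nat_lit 3) Steps.nil))))))))))))))))) (nat_lit 56) (nat_lit 1),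
  Rule.mk (nat_lit 11) (nat_lit 110) (Steps.bwd (nat_lit 9) (Steps.fwd (nat_lit 32768) (Steps.fwd (nat_lit 122880) (Steps.fwd (nat_lit 32768) (Steps.bwd (nat_lit 11) (Steps.bwd (nat_lit 9) Steps.nil)))))) (nat_lit 61) (nat_lit 6),
  Rule.mk (nat_lit 17) (nat_lit 110) (Steps.fwd (nat_lit 122880) (Steps.fwd (nat_lit 24576) (Steps.fwd (nat_lit 24576) (Steps.fwd (nat_lit 73728) (Steps.bwd (nat_lit 16) (Steps.bwd (nat_lit 9) Steps.nil)))))) (nat_lit 64) (nat_lit 4),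
  Rule.mk (nat_lit 12) (nat_lit 190) (Steps.fwd (nat_lit 131072) (Steps.bwd (nat_lit 1) (Steps.fwd (nat_lit 122880) (Steps.bwd (nat_lit 1) (Steps.bwd (nat_lit 1) (Steps.bwd (nat_lit 1) (Steps.fwd (nat_lit 73728) (Steps.bwd (nat_lit 12) (Steps.bwd (nat_lit 9) (Steps.fwd (nat_lit 98304) (Steps.bwd (nat_lit 9) Steps.nil))))))))))) (nat_lit 74) (nat_lit 6),
  Rule.mk (nat_lit 4) (nat_lit 110) (Steps.bwd (nat_lit 9) (Steps.bwd (nat_lit 10) (Steps.fwd (nat_lit 73728) (Steps.fwd (nat_lit 90112) (Steps.bwd (nat_lit 4) (Steps.fwd (nat_lit 114688) Steps.nil)))))) (nat_lit 60) (nat_lit 0),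
  Rule.mk (nat_lit 1) (nat_lit 270) (Steps.bwd (nat_lit 9) (Steps.bwd (nat_lit 1) (Steps.fwd (nat_lit 73728) (Steps.fwd (nat_lit 16384) (Steps.bwd (nat_lit 13) (Steps.bwd (nat_lit 3) (Steps.bwd (nat_lit 9) (Steps.fwd (nat_lit 57344) (Steps.bwd (nat_lit 1) (Steps.fwd (nat_lit 32768) (Steps.bwd (nat_lit 3) (Steps.bwd (nat_lit 2) (Steps.fwd (nat_lit 24576) (Steps.bwd (nat_lit 11) (Steps.bwd (nat_lit 17) (Steps.bwd (nat_lit 19) Steps.nil)))))))))))))))) (nat_lit 77) (nat_lit 9),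
  Rule.mk (nat_lit 14) (nat_lit 190) (Steps.fwd (nat_lit 16384) (Steps.bwd (nat_lit 1) (Steps.bwd (nat_lit 1) (Steps.bwd (nat_lit 9) (Steps.bwd (nat_lit 12) (Steps.bwd (nat_lit 9) (Steps.fwd (nat_lit 98304) (Steps.fwd (nat_lit 73728) (Steps.fwd (nat_lit 106496) (Steps.fwd (nat_lit 131072) (Steps.bwd (nat_lit 1) Steps.nil))))))))))) (nat_lit 74) (nat_lit 9),
  Rule.mk (nat_lit 16) (nat_lit 110) (Steps.bwd (nat_lit 2) (Steps.bwd (nat_lit 15) (Steps.bwd (nat_lit 1) (Steps.bwd (nat_lit 15) (Steps.fwd (nat_lit 114688) (Steps.bwd (nat_lit 10) Steps.nil)))))) (nat_lit 45) (nat_lit 4),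
  Rule.mk (nat_lit 9) (nat_lit 206) (Steps.bwd (nat_lit 2) (Steps.fwd (nat_lit 8192) (Steps.bwd (nat_lit 9) (Steps.fwd (nat_lit 16384) (Steps.fwd (nat_lit 32768) (Steps.bwd (nat_lit 3) (Steps.bwd (nat_lit 1) (Steps.bwd (nat_lit 4) (Steps.fwd (nat_lit 16384) (Steps.bwd (nat_lit 10) (Steps.fwd (nat_lit 155648) (Steps.bwd (nat_lit 17) Steps.nil)))))))))))) (nat_lit 69) (nat_lit 10),
  Rule.mk (nat_lit 9) (nat_lit 110) (Steps.bwd (nat_lit 17) (Steps.bwd (nat_lit 14) (Steps.fwd (nat_lit 24576) (Steps.fwd (nat_lit 24576) (Steps.bwd (nat_lit 9) (Steps.bwd (nat_lit 16) Steps.nil)))))) (nat_lit 64) (nat_lit 3),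
  Rule.mk (nat_lit 3) (nat_lit 110) (Steps.bwd (nat_lit 9) (Steps.bwd (nat_lit 16) (Steps.bwd (nat_lit 16) (Steps.bwd (nat_lit 14) (Steps.fwd (nat_lit 81920) (Steps.bwd (nat_lit 9) Steps.nil)))))) (nat_lit 70) (nat_lit 2),
  Rule.mk (nat_lit 8) (nat_lit 126) (Steps.fwd (nat_lit 155648) (Steps.bwd (nat_lit 8) (Steps.fwd (nat_lit 147456) (Steps.fwd (nat_lit 57344) (Steps.fwd (nat_lit 16384) (Steps.fwd (nat_lit 16384) (Steps.bwd (nat_lit 19) Steps.nil))))))) (nat_lit 87) (nat_lit 4),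
  Rule.mk (nat_lit 9) (nat_lit 110) (Steps.fwd (nat_lit 139264) (Steps.fwd (nat_lit 139264) (Steps.fwd (nat_lit 122880) (Steps.fwd (nat_lit 81920) (Steps.bwd (nat_lit 9) (Steps.bwd (nat_lit 3) Steps.nil)))))) (nat_lit 70) (nat_lit 3),
  Rule.mk (nat_lit 8) (nat_lit 126) (Steps.bwd (nat_lit 18) (Steps.fwd (nat_lit 57344) (Steps.bwd (nat_lit 19) (Steps.bwd (nat_lit 8) (Steps.bwd (nat_lit 1) (Steps.bwd (nat_lit 1) (Steps.bwd (nat_lit 19) Steps.nil))))))) (nat_lit 87) (nat_lit 4),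
  Rule.mk (nat_lit 8) (nat_lit 126) (Steps.bwd (nat_lit 1) (Steps.bwd (nat_lit 1) (Steps.fwd (nat_lit 147456) (Steps.bwd (nat_lit 8) (Steps.bwd (nat_lit 18) (Steps.fwd (nat_lit 57344) (Steps.bwd (nat_lit 19) Steps.nil))))))) (nat_lit 87) (nat_lit 0),
  Rule.mk (nat_lit 11) (nat_lit 286) (Steps.bwd (nat_lit 1) (Steps.bwd (nat_lit 10) (Steps.bwd (nat_lit 2) (Steps.bwd (nat_lit 10) (Steps.fwd (nat_lit 16384) (Steps.bwd (nat_lit 7) (Steps.bwd (nat_lit 10) (Steps.bwd (nat_lit 3) (Steps.bwd (nat_lit 1) (Steps.fwd (nat_lit 24576) (Steps.bwd (nat_lit 7) (Steps.bwd (nat_lit 10) (Steps.fwd (nat_lit 65536) (Steps.bwd (nat_lit 9) (Steps.bwd (nat_lit 4) (Steps.bwd (nat_lit 4) (Steps.fwd (nat_lit 8192) Steps.nil))))))))))))))))) (nat_lit 57) (nat_lit 4),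
  Rule.mk (nat_lit 9) (nat_lit 110) (Steps.fwd (nat_lit 147456) (Steps.bwd (nat_lit 9) (Steps.fwd (nat_lit 90112) (Steps.bwd (nat_lit 15) (Steps.bwd (nat_lit 10) (Steps.bwd (nat_lit 17) Steps.nil)))))) (nat_lit 67) (nat_lit 5),
  Rule.mk (nat_lit 9) (nat_lit 190) (Steps.fwd (nat_lit 106496) (Steps.bwd (nat_lit 9) (Steps.bwd (nat_lit 13) (Steps.bwd (nat_lit 9) (Steps.fwd (nat_lit 106496) (Steps.bwd (nat_lit 17) (Steps.bwd (nat_lit 1) (Steps.bwd (nat_lit 14) (Steps.fwd (nat_lit 16384) (Steps.fwd (nat_lit 16384) (Steps.fwd (nat_lit 16384) Steps.nil))))))))))) (nat_lit 74) (nat_lit 1),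
  Rule.mk (nat_lit 14) (nat_lit 110) (Steps.bwd (nat_lit 14) (Steps.fwd (nat_lit 8192) (Steps.bwd (nat_lit 14) (Steps.bwd (nat_lit 1) (Steps.bwd (nat_lit 17) (Steps.bwd (nat_lit 11) Steps.nil)))))) (nat_lit 44) (nat_lit 6),
  Rule.mk (nat_lit 7) (nat_lit 158) (Steps.bwd (nat_lit 18) (Steps.fwd (nat_lit 65536) (Steps.fwd (nat_lit 155648) (Steps.bwd (nat_lit 7) (Steps.bwd (nat_lit 18) (Steps.fwd (nat_lit 65536) (Steps.bwd (nat_lit 18) (Steps.bwd (nat_lit 7) (Steps.bwd (nat_lit 18) Steps.nil))))))))) (nat_lit 84) (nat_lit 1),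
  Rule.mk (nat_lit 9) (nat_lit 110) (Steps.bwd (nat_lit 10) (Steps.bwd (nat_lit 15) (Steps.fwd (nat_lit 90112) (Steps.fwd (nat_lit 131072) (Steps.fwd (nat_lit 73728) (Steps.fwd (nat_lit 147456) Steps.nil)))))) (nat_lit 67) (nat_lit 0)]
noncomputable def R_80 : List (Rule) := [Rule.mk (nat_lit 16) (nat_lit 126) (Steps.bwd (nat_lit 10) (Steps.bwd (nat_lit 16) (Steps.bwd (nat_lit 15) (Steps.fwd (nat_lit 98304) (Steps.bwd (nat_lit 4) (Steps.bwd (nat_lit 12) (Steps.fwd (nat_lit 32768) Steps.nil))))))) (nat_lit 50) (nat_lit 4),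
  Rule.mk (nat_lit 7) (nat_lit 286) (Steps.bwd (nat_lit 10) (Steps.fwd (nat_lit 65536) (Steps.bwd (nat_lit 9) (Steps.bwd (nat_lit 4) (Steps.fwd (nat_lit 24576) (Steps.bwd (nat_lit 2) (Steps.bwd (nat_lit 11) (Steps.fwd (nat_lit 16384) (Steps.fwd (nat_lit 90112) (Steps.fwd (nat_lit 8192) (Steps.fwd (nat_lit 90112) (Steps.bwd (nat_lit 1) (Steps.fwd (nat_lit 65536) (Steps.bwd (nat_lit 10) (Steps.bwd (nat_lit 3) (Steps.fwd (nat_lit 16384) (Steps.fwd (nat_lit 24576) Steps.nil))))))))))))))))) (nat_lit 57) (nat_lit 15),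
  Rule.mk (nat_lit 16) (nat_lit 110) (Steps.fwd (nat_lit 122880) (Steps.fwd (nat_lit 81920) (Steps.fwd (nat_lit 73728) (Steps.fwd (nat_lit 32768) (Steps.bwd (nat_lit 9) (Steps.bwd (nat_lit 16) Steps.nil)))))) (nat_lit 70) (nat_lit 5),
  Rule.mk (nat_lit 1) (nat_lit 94) (Steps.bwd (nat_lit 3) (Steps.fwd (nat_lit 8192) (Steps.bwd (nat_lit 2) (Steps.bwd (nat_lit 4) (Steps.bwd (nat_lit 1) Steps.nil))))) (nat_lit 6) (nat_lit 5),
  Rule.mk (nat_lit 13) (nat_lit 126) (Steps.bwd (nat_lit 3) (Steps.bwd (nat_lit 12) (Steps.fwd (nat_lit 122880) (Steps.bwd (nat_lit 17) (Steps.bwd (nat_lit 11) (Steps.fwd (nat_lit 131072) (Steps.fwd (nat_lit 24576) Steps.nil))))))) (nat_lit 51) (nat_lit 7),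
  Rule.mk (nat_lit 4) (nat_lit 158) (Steps.bwd (nat_lit 9) (Steps.fwd (nat_lit 122880) (Steps.bwd (nat_lit 9) (Steps.bwd (nat_lit 1) (Steps.bwd (nat_lit 16) (Steps.fwd (nat_lit 90112) (Steps.fwd (nat_lit 98304) (Steps.fwd (nat_lit 8192) (Steps.bwd (nat_lit 4) Steps.nil))))))))) (nat_lit 62) (nat_lit 0),
  Rule.mk (nat_lit 12) (nat_lit 190) (Steps.bwd (nat_lit 9) (Steps.bwd (nat_lit 13) (Steps.bwd (nat_lit 9) (Steps.fwd (nat_lit 8192) (Steps.fwd (nat_lit 8192) (Steps.fwd (nat_lit 8192) (Steps.fwd (nat_lit 114688) (Steps.bwd (nat_lit 2) (Steps.bwd (nat_lit 16) (Steps.bwd (nat_lit 13) (Steps.fwd (nat_lit 73728) Steps.nil))))))))))) (nat_lit 75) (nat_lit 9),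
  Rule.mk (nat_lit 13) (nat_lit 190) (Steps.bwd (nat_lit 9) (Steps.bwd (nat_lit 12) (Steps.bwd (nat_lit 9) (Steps.bwd (nat_lit 13) (Steps.bwd (nat_lit 9) (Steps.fwd (nat_lit 8192) (Steps.bwd (nat_lit 2) (Steps.fwd (nat_lit 8192) (Steps.bwd (nat_lit 15) (Steps.bwd (nat_lit 2) (Steps.bwd (nat_lit 16) Steps.nil))))))))))) (nat_lit 75) (nat_lit 7),
  Rule.mk (nat_lit 15) (nat_lit 110) (Steps.bwd (nat_lit 15) (Steps.fwd (nat_lit 90112) (Steps.fwd (nat_lit 139264) (Steps.fwd (nat_lit 8192) (Steps.bwd (nat_lit 15) (Steps.fwd (nat_lit 16384) Steps.nil)))))) (nat_lit 45) (nat_lit 1),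
  Rule.mk (nat_lit 1) (nat_lit 142) (Steps.fwd (nat_lit 90112) (Steps.bwd (nat_lit 13) (Steps.fwd (nat_lit 114688) (Steps.bwd (nat_lit 16) (Steps.fwd (nat_lit 90112) (Steps.fwd (nat_lit 139264) (Steps.bwd (nat_lit 2) (Steps.bwd (nat_lit 17) Steps.nil)))))))) (nat_lit 47) (nat_lit 0),
  Rule.mk (nat_lit 17) (nat_lit 110) (Steps.bwd (nat_lit 9) (Steps.fwd (nat_lit 147456) (Steps.bwd (nat_lit 9) (Steps.bwd (nat_lit 10) (Steps.fwd (nat_lit 114688) (Steps.bwd (nat_lit 10) Steps.nil)))))) (nat_lit 67) (nat_lit 4),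
  Rule.mk (nat_lit 12) (nat_lit 126) (Steps.bwd (nat_lit 14) (Steps.fwd (nat_lit 131072) (Steps.bwd (nat_lit 11) (Steps.fwd (nat_lit 131072) (Steps.bwd (nat_lit 4) (Steps.fwd (nat_lit 98304) (Steps.bwd (nat_lit 3) Steps.nil))))))) (nat_lit 51) (nat_lit 1),
  Rule.mk (nat_lit 15) (nat_lit 110) (Steps.bwd (nat_lit 4) (Steps.bwd (nat_lit 9) (Steps.fwd (nat_lit 90112) (Steps.bwd (nat_lit 9) (Steps.bwd (nat_lit 10) (Steps.bwd (nat_lit 4) Steps.nil)))))) (nat_lit 60) (nat_lit 6),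
  Rule.mk (nat_lit 9) (nat_lit 110) (Steps.bwd (nat_lit 4) (Steps.bwd (nat_lit 9) (Steps.fwd (nat_lit 90112) (Steps.bwd (nat_lit 15) (Steps.fwd (nat_lit 131072) (Steps.bwd (nat_lit 17) Steps.nil)))))) (nat_lit 71) (nat_lit 5),
  Rule.mk (nat_lit 17) (nat_lit 110) (Steps.fwd (nat_lit 122880) (Steps.bwd (nat_lit 4) (Steps.bwd (nat_lit 4) (Steps.bwd (nat_lit 9) (Steps.fwd (nat_lit 139264) (Steps.bwd (nat_lit 9) Steps.nil)))))) (nat_lit 64) (nat_lit 4),
  Rule.mk (nat_lit 16) (nat_lit 110) (Steps.fwd (nat_lit 81920) (Steps.fwd (nat_lit 122880) (Steps.bwd (nat_lit 11) (Steps.fwd (nat_lit 73728) (Steps.fwd (nat_lit 155648) (Steps.bwd (nat_lit 9) Steps.nil)))))) (nat_lit 66) (nat_lit 4),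
  Rule.mk (nat_lit 10) (nat_lit 126) (Steps.bwd (nat_lit 10) (Steps.fwd (nat_lit 139264) (Steps.fwd (nat_lit 114688) (Steps.bwd (nat_lit 15) (Steps.bwd (nat_lit 4) (Steps.bwd (nat_lit 15) (Steps.bwd (nat_lit 3) Steps.nil))))))) (nat_lit 53) (nat_lit 1),
  Rule.mk (nat_lit 2) (nat_lit 206) (Steps.fwd (nat_lit 24576) (Steps.bwd (nat_lit 4) (Steps.bwd (nat_lit 2) (Steps.fwd (nat_lit 73728) (Steps.fwd (nat_lit 16384) (Steps.bwd (nat_lit 1) (Steps.fwd (nat_lit 73728) (Steps.fwd (nat_lit 139264) (Steps.bwd (nat_lit 19) (Steps.bwd (nat_lit 11) (Steps.fwd (nat_lit 8192) (Steps.bwd (nat_lit 3) Steps.nil)))))))))))) (nat_lit 68) (nat_lit 10),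
  Rule.mk (nat_lit 9) (nat_lit 110) (Steps.bwd (nat_lit 17) (Steps.bwd (nat_lit 14) (Steps.bwd (nat_lit 4) (Steps.fwd (nat_lit 24576) (Steps.fwd (nat_lit 73728) (Steps.bwd (nat_lit 16) Steps.nil)))))) (nat_lit 64) (nat_lit 3),
  Rule.mk (nat_lit 10) (nat_lit 110) (Steps.bwd (nat_lit 17) (Steps.bwd (nat_lit 9) (Steps.fwd (nat_lit 147456) (Steps.fwd (nat_lit 73728) (Steps.bwd (nat_lit 10) (Steps.bwd (nat_lit 15) Steps.nil)))))) (nat_lit 67) (nat_lit 3),
  Rule.mk (nat_lit 14) (nat_lit 126) (Steps.bwd (nat_lit 17) (Steps.bwd (nat_lit 11) (Steps.bwd (nat_lit 17) (Steps.bwd (nat_lit 4) (Steps.bwd (nat_lit 13) (Steps.bwd (nat_lit 3) (Steps.bwd (nat_lit 12) Steps.nil))))))) (nat_lit 51) (nat_lit 2),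
  Rule.mk (nat_lit 2) (nat_lit 142) (Steps.bwd (nat_lit 17) (Steps.fwd (nat_lit 16384) (Steps.fwd (nat_lit 90112) (Steps.fwd (nat_lit 98304) (Steps.bwd (nat_lit 15) (Steps.bwd (nat_lit 16) (Steps.bwd (nat_lit 10) (Steps.fwd (nat_lit 139264) Steps.nil)))))))) (nat_lit 47) (nat_lit 7),
  Rule.mk (nat_lit 2) (nat_lit 94) (Steps.bwd (nat_lit 2) (Steps.fwd (nat_lit 8192) (Steps.bwd (nat_lit 2) (Steps.bwd (nat_lit 7) (Steps.fwd (nat_lit 65536) Steps.nil))))) (nat_lit 78) (nat_lit 3),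
  Rule.mk (nat_lit 9) (nat_lit 158) (Steps.fwd (nat_lit 114688) (Steps.bwd (nat_lit 9) (Steps.fwd (nat_lit 32768) (Steps.bwd (nat_lit 3) (Steps.bwd (nat_lit 1) (Steps.bwd (nat_lit 12) (Steps.fwd (nat_lit 81920) (Steps.fwd (nat_lit 131072) (Steps.bwd (nat_lit 2) Steps.nil))))))))) (nat_lit 63) (nat_lit 8),
  Rule.mk (nat_lit 10) (nat_lit 110) (Steps.bwd (nat_lit 9) (Steps.bwd (nat_lit 10) (Steps.bwd (nat_lit 4) (Steps.fwd (nat_lit 114688) (Steps.bwd (nat_lit 4) (Steps.fwd (nat_lit 73728) Steps.nil)))))) (nat_lit 60) (nat_lit 2),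
  Rule.mk (nat_lit 3) (nat_lit 126) (Steps.bwd (nat_lit 16) (Steps.bwd (nat_lit 10) (Steps.fwd (nat_lit 139264) (Steps.bwd (nat_lit 15) (Steps.bwd (nat_lit 13) (Steps.bwd (nat_lit 4) (Steps.bwd (nat_lit 12) Steps.nil))))))) (nat_lit 50) (nat_lit 3),
  Rule.mk (nat_lit 1) (nat_lit 158) (Steps.bwd (nat_lit 16) (Steps.bwd (nat_lit 10) (Steps.fwd (nat_lit 98304) (Steps.bwd (nat_lit 2) (Steps.bwd (nat_lit 4) (Steps.fwd (nat_lit 24576) (Steps.fwd (nat_lit 73728) (Steps.bwd (nat_lit 14) (Steps.fwd (nat_lit 73728) Steps.nil))))))))) (nat_lit 62) (nat_lit 4),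
  Rule.mk (nat_lit 8) (nat_lit 94) (Steps.fwd (nat_lit 57344) (Steps.bwd (nat_lit 1) (Steps.fwd (nat_lit 16384) (Steps.fwd (nat_lit 16384) (Steps.bwd (nat_lit 1) Steps.nil))))) (nat_lit 79) (nat_lit 5),
  Rule.mk (nat_lit 11) (nat_lit 110) (Steps.bwd (nat_lit 9) (Steps.fwd (nat_lit 81920) (Steps.fwd (nat_lit 73728) (Steps.fwd (nat_lit 32768) (Steps.bwd (nat_lit 14) (Steps.bwd (nat_lit 3) Steps.nil)))))) (nat_lit 61) (nat_lit 4),
  Rule.mk (nat_lit 16) (nat_lit 126) (Steps.fwd (nat_lit 90112) (Steps.fwd (nat_lit 139264) (Steps.fwd (nat_lit 114688) (Steps.bwd (nat_lit 13) (Steps.fwd (nat_lit 24576) (Steps.bwd (nat_lit 12) (Steps.bwd (nat_lit 3) Steps.nil))))))) (nat_lit 50) (nat_lit 4),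
  Rule.mk (nat_lit 12) (nat_lit 142) (Steps.bwd (nat_lit 11) (Steps.bwd (nat_lit 2) (Steps.fwd (nat_lit 139264) (Steps.bwd (nat_lit 1) (Steps.bwd (nat_lit 17) (Steps.bwd (nat_lit 11) (Steps.fwd (nat_lit 131072) (Steps.bwd (nat_lit 14) Steps.nil)))))))) (nat_lit 46) (nat_lit 8),
  Rule.mk (nat_lit 1) (nat_lit 94) (Steps.bwd (nat_lit 8) (Steps.bwd (nat_lit 8) (Steps.bwd (nat_lit 1) (Steps.fwd (nat_lit 16384) (Steps.bwd (nat_lit 1) Steps.nil))))) (nat_lit 79) (nat_lit 4),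
  Rule.mk (nat_lit 2) (nat_lit 126) (Steps.bwd (nat_lit 4) (Steps.fwd (nat_lit 8192) (Steps.fwd (nat_lit 24576) (Steps.bwd (nat_lit 2) (Steps.bwd (nat_lit 4) (Steps.bwd (nat_lit 2) (Steps.bwd (nat_lit 4) Steps.nil))))))) (nat_lit 5) (nat_lit 0),
  Rule.mk (nat_lit 9) (nat_lit 158) (Steps.bwd (nat_lit 15) (Steps.fwd (nat_lit 73728) (Steps.bwd (nat_lit 3) (Steps.bwd (nat_lit 3) (Steps.bwd (nat_lit 1) (Steps.bwd (nat_lit 12) (Steps.bwd (nat_lit 11) (Steps.fwd (nat_lit 131072) (Steps.bwd (nat_lit 2) Steps.nil))))))))) (nat_lit 63) (nat_lit 8),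
  Rule.mk (nat_lit 11) (nat_lit 110) (Steps.bwd (nat_lit 9) (Steps.bwd (nat_lit 3) (Steps.bwd (nat_lit 14) (Steps.fwd (nat_lit 32768) (Steps.fwd (nat_lit 81920) (Steps.bwd (nat_lit 9) Steps.nil)))))) (nat_lit 61) (nat_lit 6),
  Rule.mk (nat_lit 13) (nat_lit 190) (Steps.bwd (nat_lit 9) (Steps.fwd (nat_lit 106496) (Steps.bwd (nat_lit 17) (Steps.bwd (nat_lit 1) (Steps.bwd (nat_lit 14) (Steps.fwd (nat_lit 16384) (Steps.fwd (nat_lit 16384) (Steps.bwd (nat_lit 1) (Steps.fwd (nat_lit 73728) (Steps.fwd (nat_lit 106496) (Steps.fwd (nat_lit 73728) Steps.nil))))))))))) (nat_lit 74) (nat_lit 4),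
  Rule.mk (nat_lit 12) (nat_lit 190) (Steps.bwd (nat_lit 9) (Steps.bwd (nat_lit 13) (Steps.fwd (nat_lit 73728) (Steps.bwd (nat_lit 2) (Steps.fwd (nat_lit 8192) (Steps.bwd (nat_lit 2) (Steps.fwd (nat_lit 114688) (Steps.bwd (nat_lit 2) (Steps.fwd (nat_lit 139264) (Steps.bwd (nat_lit 13) (Steps.bwd (nat_lit 9) Steps.nil))))))))))) (nat_lit 75) (nat_lit 9),
  Rule.mk (nat_lit 19) (nat_lit 62) (Steps.fwd (nat_lit 98304) (Steps.bwd (nat_lit 18) (Steps.bwd (nat_lit 12) Steps.nil))) (nat_lit 27) (nat_lit 1),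
  Rule.mk (nat_lit 3) (nat_lit 94) (Steps.bwd (nat_lit 2) (Steps.bwd (nat_lit 2) (Steps.bwd (nat_lit 4) (Steps.bwd (nat_lit 1) (Steps.bwd (nat_lit 1) Steps.nil))))) (nat_lit 6) (nat_lit 0),
  Rule.mk (nat_lit 14) (nat_lit 126) (Steps.fwd (nat_lit 122880) (Steps.bwd (nat_lit 17) (Steps.bwd (nat_lit 11) (Steps.bwd (nat_lit 11) (Steps.fwd (nat_lit 24576) (Steps.fwd (nat_lit 122880) (Steps.bwd (nat_lit 3) Steps.nil))))))) (nat_lit 52) (nat_lit 4),
  Rule.mk (nat_lit 4) (nat_lit 110) (Steps.bwd (nat_lit 4) (Steps.fwd (nat_lit 73728) (Steps.fwd (nat_lit 139264) (Steps.bwd (nat_lit 9) (Steps.bwd (nat_lit 17) (Steps.bwd (nat_lit 14) Steps.nil)))))) (nat_lit 64) (nat_lit 6),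
  Rule.mk (nat_lit 9) (nat_lit 190) (Steps.bwd (nat_lit 13) (Steps.bwd (nat_lit 9) (Steps.bwd (nat_lit 12) (Steps.bwd (nat_lit 17) (Steps.fwd (nat_lit 16384) (Steps.fwd (nat_lit 122880) (Steps.bwd (nat_lit 1) (Steps.fwd (nat_lit 16384) (Steps.fwd (nat_lit 16384) (Steps.bwd (nat_lit 9) (Steps.fwd (nat_lit 106496) Steps.nil))))))))))) (nat_lit 74) (nat_lit 3),
  Rule.mk (nat_lit 17) (nat_lit 158) (Steps.bwd (nat_lit 2) (Steps.bwd (nat_lit 9) (Steps.fwd (nat_lit 114688) (Steps.fwd (nat_lit 73728) (Steps.bwd (nat_lit 3) (Steps.bwd (nat_lit 3) (Steps.fwd (nat_lit 16384) (Steps.bwd (nat_lit 12) (Steps.bwd (nat_lit 11) Steps.nil))))))))) (nat_lit 63) (nat_lit 6),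
  Rule.mk (nat_lit 9) (nat_lit 190) (Steps.bwd (nat_lit 2) (Steps.bwd (nat_lit 2) (Steps.fwd (nat_lit 8192) (Steps.bwd (nat_lit 15) (Steps.fwd (nat_lit 8192) (Steps.bwd (nat_lit 16) (Steps.bwd (nat_lit 13) (Steps.fwd (nat_lit 73728) (Steps.fwd (nat_lit 106496) (Steps.fwd (nat_lit 73728) (Steps.fwd (nat_lit 98304) Steps.nil))))))))))) (nat_lit 75) (nat_lit 0),
  Rule.mk (nat_lit 3) (nat_lit 206) (Steps.bwd (nat_lit 2) (Steps.fwd (nat_lit 24576) (Steps.bwd (nat_lit 4) (Steps.bwd (nat_lit 2) (Steps.bwd (nat_lit 9) (Steps.fwd (nat_lit 16384) (Steps.bwd (nat_lit 1) (Steps.bwd (nat_lit 9) (Steps.fwd (nat_lit 139264) (Steps.fwd (nat_lit 147456) (Steps.bwd (nat_lit 11) (Steps.bwd (nat_lit 2) Steps.nil)))))))))))) (nat_lit 68) (nat_lit 9),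
  Rule.mk (nat_lit 11) (nat_lit 110) (Steps.fwd (nat_lit 73728) (Steps.bwd (nat_lit 11) (Steps.bwd (nat_lit 9) (Steps.fwd (nat_lit 32768) (Steps.bwd (nat_lit 14) (Steps.bwd (nat_lit 3) Steps.nil)))))) (nat_lit 61) (nat_lit 4),
  Rule.mk (nat_lit 3) (nat_lit 110) (Steps.fwd (nat_lit 114688) (Steps.fwd (nat_lit 139264) (Steps.bwd (nat_lit 9) (Steps.bwd (nat_lit 17) (Steps.fwd (nat_lit 73728) (Steps.bwd (nat_lit 3) Steps.nil)))))) (nat_lit 65) (nat_lit 2),
  Rule.mk (nat_lit 2) (nat_lit 94) (Steps.fwd (nat_lit 8192) (Steps.bwd (nat_lit 2) (Steps.bwd (nat_lit 7) (Steps.fwd (nat_lit 65536) (Steps.bwd (nat_lit 2) Steps.nil))))) (nat_lit 78) (nat_lit 4),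
  Rule.mk (nat_lit 9) (nat_lit 110) (Steps.fwd (nat_lit 32768) (Steps.fwd (nat_lit 122880) (Steps.fwd (nat_lit 32768) (Steps.bwd (nat_lit 11) (Steps.fwd (nat_lit 73728) (Steps.bwd (nat_lit 11) Steps.nil)))))) (nat_lit 61) (nat_lit 0),
  Rule.mk (nat_lit 4) (nat_lit 126) (Steps.bwd (nat_lit 13) (Steps.bwd (nat_lit 3) (Steps.bwd (nat_lit 12) (Steps.fwd (nat_lit 122880) (Steps.fwd (nat_lit 131072) (Steps.fwd (nat_lit 81920) (Steps.fwd (nat_lit 131072) Steps.nil))))))) (nat_lit 51) (nat_lit 6),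
  Rule.mk (nat_lit 1) (nat_lit 94) (Steps.bwd (nat_lit 1) (Steps.fwd (nat_lit 16384) (Steps.fwd (nat_lit 57344) (Steps.fwd (nat_lit 57344) (Steps.fwd (nat_lit 16384) Steps.nil))))) (nat_lit 79) (nat_lit 2),
  Rule.mk (nat_lit 7) (nat_lit 94) (Steps.bwd (nat_lit 1) (Steps.fwd (nat_lit 16384) (Steps.bwd (nat_lit 1) (Steps.bwd (nat_lit 8) (Steps.fwd (nat_lit 8192) Steps.nil))))) (nat_lit 83) (nat_lit 0),
  Rule.mk (nat_lit 9) (nat_lit 206) (Steps.bwd (nat_lit 1) (Steps.fwd (nat_lit 16384) (Steps.fwd (nat_lit 73728) (Steps.bwd (nat_lit 16) (Steps.bwd (nat_lit 19) (Steps.fwd (nat_lit 81920) (Steps.bwd (nat_lit 2) (Steps.bwd (nat_lit 3) (Steps.bwd (nat_lit 2) (Steps.fwd (nat_lit 24576) (Steps.bwd (nat_lit 4) (Steps.bwd (nat_lit 2) Steps.nil)))))))))))) (nat_lit 68) (nat_lit 1),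
  Rule.mk (nat_lit 17) (nat_lit 110) (Steps.bwd (nat_lit 9) (Steps.fwd (nat_lit 24576) (Steps.fwd (nat_lit 73728) (Steps.fwd (nat_lit 90112) (Steps.fwd (nat_lit 114688) (Steps.fwd (nat_lit 131072) Steps.nil)))))) (nat_lit 71) (nat_lit 4),
  Rule.mk (nat_lit 15) (nat_lit 158) (Steps.bwd (nat_lit 9) (Steps.fwd (nat_lit 32768) (Steps.bwd (nat_lit 3) (Steps.bwd (nat_lit 1) (Steps.bwd (nat_lit 12) (Steps.bwd (nat_lit 11) (Steps.bwd (nat_lit 17) (Steps.bwd (nat_lit 2) (Steps.fwd (nat_lit 73728) Steps.nil))))))))) (nat_lit 63) (nat_lit 9),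
  Rule.mk (nat_lit 12) (nat_lit 190) (Steps.bwd (nat_lit 9) (Steps.fwd (nat_lit 98304) (Steps.bwd (nat_lit 9) (Steps.fwd (nat_lit 8192) (Steps.bwd (nat_lit 2) (Steps.fwd (nat_lit 8192) (Steps.bwd (nat_lit 15) (Steps.bwd (nat_lit 2) (Steps.bwd (nat_lit 16) (Steps.fwd (nat_lit 98304) (Steps.bwd (nat_lit 9) Steps.nil))))))))))) (nat_lit 75) (nat_lit 9),
  Rule.mk (nat_lit 13) (nat_lit 190) (Steps.bwd (nat_lit 9) (Steps.fwd (nat_lit 106496) (Steps.fwd (nat_lit 73728) (Steps.fwd (nat_lit 98304) (Steps.fwd (nat_lit 73728) (Steps.bwd (nat_lit 2) (Steps.fwd (nat_lit 8192) (Steps.fwd (nat_lit 8192) (Steps.bwd (nat_lit 15) (Steps.bwd (nat_lit 2) (Steps.fwd (nat_lit 139264) Steps.nil))))))))))) (nat_lit 75) (nat_lit 7),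
  Rule.mk (nat_lit 2) (nat_lit 206) (Steps.bwd (nat_lit 9) (Steps.fwd (nat_lit 16384) (Steps.fwd (nat_lit 32768) (Steps.bwd (nat_lit 3) (Steps.fwd (nat_lit 16384) (Steps.bwd (nat_lit 4) (Steps.fwd (nat_lit 16384) (Steps.bwd (nat_lit 10) (Steps.bwd (nat_lit 18) (Steps.bwd (nat_lit 17) (Steps.bwd (nat_lit 9) (Steps.bwd (nat_lit 2) Steps.nil)))))))))))) (nat_lit 69) (nat_lit 12),
  Rule.mk (nat_lit 7) (nat_lit 126) (Steps.fwd (nat_lit 155648) (Steps.bwd (nat_lit 7) (Steps.bwd (nat_lit 19) (Steps.fwd (nat_lit 65536) (Steps.fwd (nat_lit 155648) (Steps.bwd (nat_lit 2) (Steps.bwd (nat_lit 2) Steps.nil))))))) (nat_lit 86) (nat_lit 1),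
  Rule.mk (nat_lit 17) (nat_lit 142) (Steps.bwd (nat_lit 1) (Steps.fwd (nat_lit 90112) (Steps.bwd (nat_lit 13) (Steps.bwd (nat_lit 15) (Steps.bwd (nat_lit 16) (Steps.fwd (nat_lit 90112) (Steps.fwd (nat_lit 139264) (Steps.bwd (nat_lit 2) Steps.nil)))))))) (nat_lit 47) (nat_lit 8),
  Rule.mk (nat_lit 16) (nat_lit 142) (Steps.bwd (nat_lit 10) (Steps.fwd (nat_lit 139264) (Steps.bwd (nat_lit 2) (Steps.bwd (nat_lit 17) (Steps.fwd (nat_lit 16384) (Steps.fwd (nat_lit 90112) (Steps.bwd (nat_lit 13) (Steps.bwd (nat_lit 15) Steps.nil)))))))) (nat_lit 47) (nat_lit 4),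
  Rule.mk (nat_lit 16) (nat_lit 126) (Steps.bwd (nat_lit 10) (Steps.fwd (nat_lit 139264) (Steps.fwd (nat_lit 114688) (Steps.fwd (nat_lit 98304) (Steps.fwd (nat_lit 24576) (Steps.bwd (nat_lit 12) (Steps.bwd (nat_lit 3) Steps.nil))))))) (nat_lit 50) (nat_lit 4),
  Rule.mk (nat_lit 17) (nat_lit 126) (Steps.bwd (nat_lit 4) (Steps.fwd (nat_lit 98304) (Steps.fwd (nat_lit 32768) (Steps.bwd (nat_lit 12) (Steps.bwd (nat_lit 14) (Steps.bwd (nat_lit 17) (Steps.bwd (nat_lit 11) Steps.nil))))))) (nat_lit 51) (nat_lit 5),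
  Rule.mk (nat_lit 2) (nat_lit 142) (Steps.fwd (nat_lit 139264) (Steps.fwd (nat_lit 16384) (Steps.bwd (nat_lit 17) (Steps.bwd (nat_lit 11) (Steps.bwd (nat_lit 17) (Steps.fwd (nat_lit 122880) (Steps.fwd (nat_lit 106496) (Steps.bwd (nat_lit 11) Steps.nil)))))))) (nat_lit 46) (nat_lit 1)]
noncomputable def R_81 : List (Rule) := [Rule.mk (nat_lit 4) (nat_lit 126) (Steps.fwd (nat_lit 98304) (Steps.bwd (nat_lit 3) (Steps.fwd (nat_lit 106496) (Steps.bwd (nat_lit 14) (Steps.bwd (nat_lit 17) (Steps.bwd (nat_lit 11) (Steps.fwd (nat_lit 131072) Steps.nil))))))) (nat_lit 51) (nat_lit 6),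
  Rule.mk (nat_lit 11) (nat_lit 110) (Steps.bwd (nat_lit 9) (Steps.bwd (nat_lit 11) (Steps.bwd (nat_lit 9) (Steps.bwd (nat_lit 3) (Steps.bwd (nat_lit 14) (Steps.fwd (nat_lit 32768) Steps.nil)))))) (nat_lit 61) (nat_lit 4),
  Rule.mk (nat_lit 3) (nat_lit 110) (Steps.bwd (nat_lit 9) (Steps.bwd (nat_lit 16) (Steps.bwd (nat_lit 16) (Steps.fwd (nat_lit 122880) (Steps.fwd (nat_lit 81920) (Steps.bwd (nat_lit 9) Steps.nil)))))) (nat_lit 70) (nat_lit 2),
  Rule.mk (nat_lit 14) (nat_lit 158) (Steps.bwd (nat_lit 9) (Steps.fwd (nat_lit 16384) (Steps.fwd (nat_lit 139264) (Steps.bwd (nat_lit 10) (Steps.bwd (nat_lit 13) (Steps.bwd (nat_lit 2) (Steps.bwd (nat_lit 4) (Steps.fwd (nat_lit 24576) (Steps.fwd (nat_lit 73728) Steps.nil))))))))) (nat_lit 62) (nat_lit 2),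
  Rule.mk (nat_lit 1) (nat_lit 206) (Steps.bwd (nat_lit 9) (Steps.bwd (nat_lit 16) (Steps.fwd (nat_lit 147456) (Steps.bwd (nat_lit 11) (Steps.bwd (nat_lit 2) (Steps.bwd (nat_lit 2) (Steps.bwd (nat_lit 9) (Steps.fwd (nat_lit 16384) (Steps.bwd (nat_lit 3) (Steps.bwd (nat_lit 3) (Steps.fwd (nat_lit 16384) (Steps.bwd (nat_lit 4) Steps.nil)))))))))))) (nat_lit 72) (nat_lit 7),
  Rule.mk (nat_lit 18) (nat_lit 126) (Steps.bwd (nat_lit 2) (Steps.fwd (nat_lit 8192) (Steps.bwd (nat_lit 7) (Steps.bwd (nat_lit 18) (Steps.fwd (nat_lit 65536) (Steps.bwd (nat_lit 19) (Steps.bwd (nat_lit 7) Steps.nil))))))) (nat_lit 86) (nat_lit 6),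
  Rule.mk (nat_lit 4) (nat_lit 206) (Steps.bwd (nat_lit 2) (Steps.bwd (nat_lit 9) (Steps.fwd (nat_lit 16384) (Steps.fwd (nat_lit 16384) (Steps.bwd (nat_lit 9) (Steps.bwd (nat_lit 16) (Steps.fwd (nat_lit 147456) (Steps.bwd (nat_lit 11) (Steps.fwd (nat_lit 8192) (Steps.fwd (nat_lit 32768) (Steps.fwd (nat_lit 8192) (Steps.bwd (nat_lit 4) Steps.nil)))))))))))) (nat_lit 68) (nat_lit 12),
  Rule.mk (nat_lit 9) (nat_lit 206) (Steps.bwd (nat_lit 2) (Steps.fwd (nat_lit 8192) (Steps.bwd (nat_lit 9) (Steps.fwd (nat_lit 16384) (Steps.bwd (nat_lit 3) (Steps.bwd (nat_lit 3) (Steps.fwd (nat_lit 16384) (Steps.bwd (nat_lit 4) (Steps.bwd (nat_lit 1) (Steps.bwd (nat_lit 10) (Steps.fwd (nat_lit 155648) (Steps.fwd (nat_lit 131072) Steps.nil)))))))))))) (nat_lit 69) (nat_lit 10),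
  Rule.mk (nat_lit 17) (nat_lit 110) (Steps.fwd (nat_lit 73728) (Steps.bwd (nat_lit 3) (Steps.bwd (nat_lit 3) (Steps.fwd (nat_lit 114688) (Steps.bwd (nat_lit 16) (Steps.bwd (nat_lit 9) Steps.nil)))))) (nat_lit 65) (nat_lit 6),
  Rule.mk (nat_lit 13) (nat_lit 190) (Steps.bwd (nat_lit 9) (Steps.bwd (nat_lit 12) (Steps.fwd (nat_lit 131072) (Steps.bwd (nat_lit 1) (Steps.fwd (nat_lit 122880) (Steps.fwd (nat_lit 16384) (Steps.fwd (nat_lit 16384) (Steps.bwd (nat_lit 1) (Steps.fwd (nat_lit 73728) (Steps.bwd (nat_lit 12) (Steps.bwd (nat_lit 9) Steps.nil))))))))))) (nat_lit 74) (nat_lit 4),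
  Rule.mk (nat_lit 3) (nat_lit 94) (Steps.fwd (nat_lit 16384) (Steps.bwd (nat_lit 1) (Steps.fwd (nat_lit 24576) (Steps.bwd (nat_lit 2) (Steps.bwd (nat_lit 2) Steps.nil))))) (nat_lit 7) (nat_lit 4),
  Rule.mk (nat_lit 16) (nat_lit 142) (Steps.bwd (nat_lit 1) (Steps.bwd (nat_lit 17) (Steps.bwd (nat_lit 11) (Steps.fwd (nat_lit 131072) (Steps.bwd (nat_lit 14) (Steps.bwd (nat_lit 12) (Steps.fwd (nat_lit 81920) (Steps.bwd (nat_lit 2) Steps.nil)))))))) (nat_lit 46) (nat_lit 2),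
  Rule.mk (nat_lit 9) (nat_lit 206) (Steps.fwd (nat_lit 16384) (Steps.fwd (nat_lit 16384) (Steps.bwd (nat_lit 10) (Steps.fwd (nat_lit 155648) (Steps.fwd (nat_lit 131072) (Steps.fwd (nat_lit 73728) (Steps.fwd (nat_lit 8192) (Steps.bwd (nat_lit 3) (Steps.bwd (nat_lit 2) (Steps.bwd (nat_lit 4) (Steps.bwd (nat_lit 4) (Steps.bwd (nat_lit 2) Steps.nil)))))))))))) (nat_lit 73) (nat_lit 0),
  Rule.mk (nat_lit 18) (nat_lit 126) (Steps.bwd (nat_lit 2) (Steps.fwd (nat_lit 8192) (Steps.bwd (nat_lit 7) (Steps.fwd (nat_lit 155648) (Steps.fwd (nat_lit 65536) (Steps.bwd (nat_lit 19) (Steps.bwd (nat_lit 7) Steps.nil))))))) (nat_lit 86) (nat_lit 6),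
  Rule.mk (nat_lit 9) (nat_lit 206) (Steps.bwd (nat_lit 2) (Steps.fwd (nat_lit 8192) (Steps.fwd (nat_lit 73728) (Steps.fwd (nat_lit 16384) (Steps.bwd (nat_lit 3) (Steps.bwd (nat_lit 3) (Steps.fwd (nat_lit 16384) (Steps.bwd (nat_lit 4) (Steps.fwd (nat_lit 16384) (Steps.bwd (nat_lit 10) (Steps.bwd (nat_lit 18) (Steps.fwd (nat_lit 131072) Steps.nil)))))))))))) (nat_lit 69) (nat_lit 10),
  Rule.mk (nat_lit 3) (nat_lit 206) (Steps.bwd (nat_lit 2) (Steps.fwd (nat_lit 24576) (Steps.fwd (nat_lit 24576) (Steps.bwd (nat_lit 2) (Steps.bwd (nat_lit 9) (Steps.bwd (nat_lit 1) (Steps.bwd (nat_lit 1) (Steps.fwd (nat_lit 90112) (Steps.fwd (nat_lit 155648) (Steps.bwd (nat_lit 17) (Steps.fwd (nat_lit 73728) (Steps.bwd (nat_lit 2) Steps.nil)))))))))))) (nat_lit 73) (nat_lit 8),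
  Rule.mk (nat_lit 9) (nat_lit 206) (Steps.bwd (nat_lit 16) (Steps.bwd (nat_lit 19) (Steps.bwd (nat_lit 11) (Steps.fwd (nat_lit 8192) (Steps.bwd (nat_lit 3) (Steps.bwd (nat_lit 2) (Steps.fwd (nat_lit 24576) (Steps.bwd (nat_lit 4) (Steps.bwd (nat_lit 2) (Steps.bwd (nat_lit 9) (Steps.fwd (nat_lit 16384) (Steps.bwd (nat_lit 1) Steps.nil)))))))))))) (nat_lit 68) (nat_lit 4),
  Rule.mk (nat_lit 3) (nat_lit 110) (Steps.fwd (nat_lit 81920) (Steps.fwd (nat_lit 73728) (Steps.bwd (nat_lit 11) (Steps.bwd (nat_lit 9) (Steps.bwd (nat_lit 3) (Steps.bwd (nat_lit 14) Steps.nil)))))) (nat_lit 61) (nat_lit 3),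
  Rule.mk (nat_lit 17) (nat_lit 126) (Steps.bwd (nat_lit 11) (Steps.fwd (nat_lit 131072) (Steps.bwd (nat_lit 4) (Steps.fwd (nat_lit 98304) (Steps.bwd (nat_lit 3) (Steps.bwd (nat_lit 12) (Steps.bwd (nat_lit 14) Steps.nil))))))) (nat_lit 51) (nat_lit 3),
  Rule.mk (nat_lit 16) (nat_lit 110) (Steps.bwd (nat_lit 16) (Steps.bwd (nat_lit 14) (Steps.bwd (nat_lit 11) (Steps.bwd (nat_lit 9) (Steps.fwd (nat_lit 32768) (Steps.fwd (nat_lit 73728) Steps.nil)))))) (nat_lit 70) (nat_lit 4),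
  Rule.mk (nat_lit 3) (nat_lit 126) (Steps.bwd (nat_lit 16) (Steps.fwd (nat_lit 90112) (Steps.bwd (nat_lit 16) (Steps.bwd (nat_lit 15) (Steps.bwd (nat_lit 13) (Steps.fwd (nat_lit 24576) (Steps.fwd (nat_lit 106496) Steps.nil))))))) (nat_lit 50) (nat_lit 3),
  Rule.mk (nat_lit 1) (nat_lit 110) (Steps.bwd (nat_lit 15) (Steps.bwd (nat_lit 15) (Steps.bwd (nat_lit 10) (Steps.fwd (nat_lit 139264) (Steps.fwd (nat_lit 8192) (Steps.fwd (nat_lit 114688) Steps.nil)))))) (nat_lit 45) (nat_lit 0),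
  Rule.mk (nat_lit 16) (nat_lit 126) (Steps.bwd (nat_lit 15) (Steps.fwd (nat_lit 98304) (Steps.bwd (nat_lit 4) (Steps.bwd (nat_lit 12) (Steps.bwd (nat_lit 3) (Steps.fwd (nat_lit 139264) (Steps.bwd (nat_lit 10) Steps.nil))))))) (nat_lit 50) (nat_lit 6),
  Rule.mk (nat_lit 15) (nat_lit 126) (Steps.bwd (nat_lit 15) (Steps.bwd (nat_lit 4) (Steps.fwd (nat_lit 114688) (Steps.bwd (nat_lit 3) (Steps.fwd (nat_lit 90112) (Steps.bwd (nat_lit 10) (Steps.fwd (nat_lit 139264) Steps.nil))))))) (nat_lit 53) (nat_lit 4),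
  Rule.mk (nat_lit 9) (nat_lit 158) (Steps.bwd (nat_lit 15) (Steps.fwd (nat_lit 73728) (Steps.bwd (nat_lit 3) (Steps.bwd (nat_lit 3) (Steps.fwd (nat_lit 16384) (Steps.bwd (nat_lit 12) (Steps.fwd (nat_lit 81920) (Steps.fwd (nat_lit 131072) (Steps.fwd (nat_lit 8192) Steps.nil))))))))) (nat_lit 63) (nat_lit 8),
  Rule.mk (nat_lit 3) (nat_lit 110) (Steps.fwd (nat_lit 32768) (Steps.bwd (nat_lit 15) (Steps.bwd (nat_lit 16) (Steps.fwd (nat_lit 73728) (Steps.fwd (nat_lit 131072) (Steps.bwd (nat_lit 9) Steps.nil)))))) (nat_lit 65) (nat_lit 1),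
  Rule.mk (nat_lit 16) (nat_lit 110) (Steps.bwd (nat_lit 16) (Steps.fwd (nat_lit 122880) (Steps.bwd (nat_lit 11) (Steps.fwd (nat_lit 73728) (Steps.fwd (nat_lit 32768) (Steps.bwd (nat_lit 9) Steps.nil)))))) (nat_lit 70) (nat_lit 4),
  Rule.mk (nat_lit 1) (nat_lit 158) (Steps.fwd (nat_lit 139264) (Steps.bwd (nat_lit 10) (Steps.fwd (nat_lit 98304) (Steps.fwd (nat_lit 8192) (Steps.bwd (nat_lit 4) (Steps.fwd (nat_lit 24576) (Steps.fwd (nat_lit 73728) (Steps.bwd (nat_lit 14) (Steps.bwd (nat_lit 9) Steps.nil))))))))) (nat_lit 62) (nat_lit 4),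
  Rule.mk (nat_lit 8) (nat_lit 270) (Steps.bwd (nat_lit 1) (Steps.fwd (nat_lit 32768) (Steps.bwd (nat_lit 3) (Steps.bwd (nat_lit 2) (Steps.fwd (nat_lit 24576) (Steps.fwd (nat_lit 81920) (Steps.bwd (nat_lit 17) (Steps.fwd (nat_lit 147456) (Steps.fwd (nat_lit 16384) (Steps.bwd (nat_lit 9) (Steps.bwd (nat_lit 1) (Steps.bwd (nat_lit 9) (Steps.bwd (nat_lit 1) (Steps.bwd (nat_lit 13) (Steps.fwd (nat_lit 32768) (Steps.bwd (nat_lit 9) Steps.nil)))))))))))))))) (nat_lit 77) (nat_lit 0),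
  Rule.mk (nat_lit 9) (nat_lit 270) (Steps.fwd (nat_lit 57344) (Steps.bwd (nat_lit 1) (Steps.bwd (nat_lit 3) (Steps.bwd (nat_lit 3) (Steps.fwd (nat_lit 8192) (Steps.fwd (nat_lit 24576) (Steps.bwd (nat_lit 11) (Steps.bwd (nat_lit 17) (Steps.bwd (nat_lit 19) (Steps.fwd (nat_lit 16384) (Steps.bwd (nat_lit 9) (Steps.bwd (nat_lit 1) (Steps.bwd (nat_lit 9) (Steps.bwd (nat_lit 1) (Steps.bwd (nat_lit 13) (Steps.bwd (nat_lit 3) Steps.nil)))))))))))))))) (nat_lit 77) (nat_lit 16),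
  Rule.mk (nat_lit 2) (nat_lit 94) (Steps.bwd (nat_lit 2) (Steps.fwd (nat_lit 65536) (Steps.fwd (nat_lit 65536) (Steps.fwd (nat_lit 8192) (Steps.bwd (nat_lit 2) Steps.nil))))) (nat_lit 78) (nat_lit 5),
  Rule.mk (nat_lit 9) (nat_lit 270) (Steps.bwd (nat_lit 2) (Steps.bwd (nat_lit 18) (Steps.bwd (nat_lit 16) (Steps.fwd (nat_lit 90112) (Steps.bwd (nat_lit 3) (Steps.bwd (nat_lit 1) (Steps.bwd (nat_lit 4) (Steps.fwd (nat_lit 24576) (Steps.fwd (nat_lit 8192) (Steps.fwd (nat_lit 65536) (Steps.fwd (nat_lit 73728) (Steps.fwd (nat_lit 24576) (Steps.bwd (nat_lit 12) (Steps.bwd (nat_lit 2) (Steps.bwd (nat_lit 9) (Steps.bwd (nat_lit 2) Steps.nil)))))))))))))))) (nat_lit 76) (nat_lit 8),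
  Rule.mk (nat_lit 15) (nat_lit 110) (Steps.bwd (nat_lit 1) (Steps.fwd (nat_lit 114688) (Steps.fwd (nat_lit 114688) (Steps.fwd (nat_lit 90112) (Steps.fwd (nat_lit 139264) (Steps.bwd (nat_lit 2) Steps.nil)))))) (nat_lit 45) (nat_lit 6),
  Rule.mk (nat_lit 10) (nat_lit 286) (Steps.fwd (nat_lit 16384) (Steps.fwd (nat_lit 32768) (Steps.fwd (nat_lit 32768) (Steps.bwd (nat_lit 9) (Steps.fwd (nat_lit 57344) (Steps.fwd (nat_lit 81920) (Steps.bwd (nat_lit 8) (Steps.fwd (nat_lit 32768) (Steps.fwd (nat_lit 8192) (Steps.bwd (nat_lit 4) (Steps.bwd (nat_lit 11) (Steps.fwd (nat_lit 57344) (Steps.fwd (nat_lit 8192) (Steps.bwd (nat_lit 11) (Steps.bwd (nat_lit 1) (Steps.fwd (nat_lit 81920) (Steps.bwd (nat_lit 2) Steps.nil))))))))))))))))) (nat_lit 56) (nat_lit 15),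
  Rule.mk (nat_lit 9) (nat_lit 110) (Steps.bwd (nat_lit 10) (Steps.fwd (nat_lit 73728) (Steps.fwd (nat_lit 90112) (Steps.bwd (nat_lit 4) (Steps.bwd (nat_lit 15) (Steps.fwd (nat_lit 24576) Steps.nil)))))) (nat_lit 60) (nat_lit 1),
  Rule.mk (nat_lit 10) (nat_lit 126) (Steps.bwd (nat_lit 10) (Steps.fwd (nat_lit 139264) (Steps.fwd (nat_lit 114688) (Steps.bwd (nat_lit 15) (Steps.bwd (nat_lit 4) (Steps.bwd (nat_lit 15) (Steps.fwd (nat_lit 32768) Steps.nil))))))) (nat_lit 53) (nat_lit 1),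
  Rule.mk (nat_lit 14) (nat_lit 94) (Steps.bwd (nat_lit 10) (Steps.bwd (nat_lit 19) (Steps.fwd (nat_lit 147456) (Steps.fwd (nat_lit 114688) (Steps.fwd (nat_lit 81920) Steps.nil))))) (nat_lit 33) (nat_lit 5),
  Rule.mk (nat_lit 15) (nat_lit 110) (Steps.fwd (nat_lit 90112) (Steps.fwd (nat_lit 139264) (Steps.bwd (nat_lit 2) (Steps.bwd (nat_lit 15) (Steps.bwd (nat_lit 1) (Steps.bwd (nat_lit 15) Steps.nil)))))) (nat_lit 45) (nat_lit 2),
  Rule.mk (nat_lit 3) (nat_lit 286) (Steps.bwd (nat_lit 1) (Steps.bwd (nat_lit 4) (Steps.fwd (nat_lit 65536) (Steps.bwd (nat_lit 10) (Steps.bwd (nat_lit 7) (Steps.fwd (nat_lit 73728) (Steps.bwd (nat_lit 4) (Steps.bwd (nat_lit 4) (Steps.fwd (nat_lit 8192) (Steps.bwd (nat_lit 11) (Steps.bwd (nat_lit 1) (Steps.bwd (nat_lit 10) (Steps.fwd (nat_lit 8192) (Steps.fwd (nat_lit 90112) (Steps.fwd (nat_lit 16384) (Steps.fwd (nat_lit 65536) (Steps.bwd (nat_lit 10) Steps.nil))))))))))))))))) (nat_lit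 57) (nat_lit 12),
  Rule.mk (nat_lit 9) (nat_lit 110) (Steps.fwd (nat_lit 139264) (Steps.fwd (nat_lit 139264) (Steps.fwd (nat_lit 122880) (Steps.bwd (nat_lit 11) (Steps.fwd (nat_lit 73728) (Steps.bwd (nat_lit 3) Steps.nil)))))) (nat_lit 70) (nat_lit 3),
  Rule.mk (nat_lit 16) (nat_lit 126) (Steps.bwd (nat_lit 10) (Steps.fwd (nat_lit 139264) (Steps.bwd (nat_lit 15) (Steps.bwd (nat_lit 13) (Steps.bwd (nat_lit 4) (Steps.fwd (nat_lit 106496) (Steps.bwd (nat_lit 3) Steps.nil))))))) (nat_lit 50) (nat_lit 4),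
  Rule.mk (nat_lit 11) (nat_lit 110) (Steps.bwd (nat_lit 9) (Steps.bwd (nat_lit 11) (Steps.fwd (nat_lit 73728) (Steps.fwd (nat_lit 32768) (Steps.fwd (nat_lit 122880) (Steps.fwd (nat_lit 32768) Steps.nil)))))) (nat_lit 61) (nat_lit 4),
  Rule.mk (nat_lit 17) (nat_lit 142) (Steps.bwd (nat_lit 14) (Steps.fwd (nat_lit 106496) (Steps.fwd (nat_lit 81920) (Steps.fwd (nat_lit 8192) (Steps.fwd (nat_lit 139264) (Steps.fwd (nat_lit 16384) (Steps.fwd (nat_lit 131072) (Steps.bwd (nat_lit 11) Steps.nil)))))))) (nat_lit 46) (nat_lit 6),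
  Rule.mk (nat_lit 1) (nat_lit 142) (Steps.bwd (nat_lit 10) (Steps.bwd (nat_lit 13) (Steps.fwd (nat_lit 114688) (Steps.bwd (nat_lit 16) (Steps.bwd (nat_lit 10) (Steps.bwd (nat_lit 16) (Steps.fwd (nat_lit 8192) (Steps.bwd (nat_lit 17) Steps.nil)))))))) (nat_lit 47) (nat_lit 0),
  Rule.mk (nat_lit 11) (nat_lit 110) (Steps.fwd (nat_lit 73728) (Steps.fwd (nat_lit 81920) (Steps.bwd (nat_lit 9) (Steps.bwd (nat_lit 3) (Steps.bwd (nat_lit 14) (Steps.bwd (nat_lit 3) Steps.nil)))))) (nat_lit 61) (nat_lit 4),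
  Rule.mk (nat_lit 1) (nat_lit 126) (Steps.fwd (nat_lit 32768) (Steps.bwd (nat_lit 1) (Steps.bwd (nat_lit 3) (Steps.bwd (nat_lit 1) (Steps.fwd (nat_lit 32768) (Steps.fwd (nat_lit 16384) (Steps.bwd (nat_lit 3) Steps.nil))))))) (nat_lit 4) (nat_lit 1),
  Rule.mk (nat_lit 12) (nat_lit 126) (Steps.bwd (nat_lit 14) (Steps.fwd (nat_lit 131072) (Steps.bwd (nat_lit 11) (Steps.bwd (nat_lit 17) (Steps.fwd (nat_lit 24576) (Steps.fwd (nat_lit 98304) (Steps.bwd (nat_lit 3) Steps.nil))))))) (nat_lit 51) (nat_lit 1),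
  Rule.mk (nat_lit 10) (nat_lit 126) (Steps.bwd (nat_lit 10) (Steps.fwd (nat_lit 139264) (Steps.fwd (nat_lit 114688) (Steps.fwd (nat_lit 114688) (Steps.bwd (nat_lit 4) (Steps.fwd (nat_lit 114688) (Steps.bwd (nat_lit 3) Steps.nil))))))) (nat_lit 53) (nat_lit 1),
  Rule.mk (nat_lit 16) (nat_lit 142) (Steps.bwd (nat_lit 10) (Steps.fwd (nat_lit 139264) (Steps.fwd (nat_lit 8192) (Steps.bwd (nat_lit 17) (Steps.fwd (nat_lit 16384) (Steps.fwd (nat_lit 90112) (Steps.bwd (nat_lit 13) (Steps.fwd (nat_lit 114688) Steps.nil)))))))) (nat_lit 47) (nat_lit 4),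
  Rule.mk (nat_lit 7) (nat_lit 126) (Steps.bwd (nat_lit 19) (Steps.fwd (nat_lit 65536) (Steps.bwd (nat_lit 18) (Steps.bwd (nat_lit 2) (Steps.bwd (nat_lit 2) (Steps.bwd (nat_lit 7) (Steps.bwd (nat_lit 18) Steps.nil))))))) (nat_lit 86) (nat_lit 3),
  Rule.mk (nat_lit 8) (nat_lit 286) (Steps.bwd (nat_lit 2) (Steps.bwd (nat_lit 11) (Steps.bwd (nat_lit 1) (Steps.bwd (nat_lit 11) (Steps.fwd (nat_lit 8192) (Steps.fwd (nat_lit 90112) (Steps.fwd (nat_lit 16384) (Steps.fwd (nat_lit 32768) (Steps.fwd (nat_lit 32768) (Steps.bwd (nat_lit 9) (Steps.fwd (nat_lit 57344) (Steps.fwd (nat_lit 81920) (Steps.fwd (nat_lit 57344) (Steps.bwd (nat_lit 3) (Steps.bwd (nat_lit 2) (Steps.bwd (nat_lit 4) (Steps.bwd (nat_lit 11) Steps.nil))))))))))))))))) (nat_lit 56) (nat_lit 9),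
  Rule.mk (nat_lit 17) (nat_lit 110) (Steps.bwd (nat_lit 9) (Steps.bwd (nat_lit 19) (Steps.bwd (nat_lit 9) (Steps.bwd (nat_lit 10) (Steps.fwd (nat_lit 114688) (Steps.bwd (nat_lit 10) Steps.nil)))))) (nat_lit 67) (nat_lit 4),
  Rule.mk (nat_lit 14) (nat_lit 158) (Steps.bwd (nat_lit 9) (Steps.fwd (nat_lit 16384) (Steps.fwd (nat_lit 139264) (Steps.fwd (nat_lit 90112) (Steps.bwd (nat_lit 13) (Steps.fwd (nat_lit 8192) (Steps.bwd (nat_lit 4) (Steps.bwd (nat_lit 4) (Steps.fwd (nat_lit 73728) Steps.nil))))))))) (nat_lit 62) (nat_lit 2),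
  Rule.mk (nat_lit 19) (nat_lit 62) (Steps.fwd (nat_lit 114688) (Steps.fwd (nat_lit 155648) (Steps.bwd (nat_lit 14) Steps.nil))) (nat_lit 29) (nat_lit 1),
  Rule.mk (nat_lit 2) (nat_lit 110) (Steps.bwd (nat_lit 14) (Steps.bwd (nat_lit 1) (Steps.bwd (nat_lit 17) (Steps.fwd (nat_lit 81920) (Steps.fwd (nat_lit 122880) (Steps.bwd (nat_lit 14) Steps.nil)))))) (nat_lit 44) (nat_lit 1),
  Rule.mk (nat_lit 17) (nat_lit 110) (Steps.fwd (nat_lit 122880) (Steps.fwd (nat_lit 24576) (Steps.bwd (nat_lit 4) (Steps.bwd (nat_lit 9) (Steps.fwd (nat_lit 139264) (Steps.bwd (nat_lit 9) Steps.nil)))))) (nat_lit 64) (nat_lit 4),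
  Rule.mk (nat_lit 18) (nat_lit 110) (Steps.fwd (nat_lit 73728) (Steps.fwd (nat_lit 139264) (Steps.fwd (nat_lit 81920) (Steps.bwd (nat_lit 14) (Steps.bwd (nat_lit 11) (Steps.bwd (nat_lit 9) Steps.nil)))))) (nat_lit 66) (nat_lit 2),
  Rule.mk (nat_lit 1) (nat_lit 158) (Steps.bwd (nat_lit 16) (Steps.fwd (nat_lit 90112) (Steps.bwd (nat_lit 13) (Steps.fwd (nat_lit 8192) (Steps.fwd (nat_lit 24576) (Steps.bwd (nat_lit 4) (Steps.bwd (nat_lit 9) (Steps.fwd (nat_lit 122880) (Steps.bwd (nat_lit 9) Steps.nil))))))))) (nat_lit 62) (nat_lit 4),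
  Rule.mk (nat_lit 9) (nat_lit 110) (Steps.bwd (nat_lit 3) (Steps.bwd (nat_lit 9) (Steps.bwd (nat_lit 16) (Steps.fwd (nat_lit 139264) (Steps.fwd (nat_lit 122880) (Steps.fwd (nat_lit 81920) Steps.nil)))))) (nat_lit 70) (nat_lit 1),
  Rule.mk (nat_lit 12) (nat_lit 126) (Steps.bwd (nat_lit 3) (Steps.fwd (nat_lit 139264) (Steps.fwd (nat_lit 90112) (Steps.bwd (nat_lit 16) (Steps.fwd (nat_lit 114688) (Steps.fwd (nat_lit 98304) (Steps.fwd (nat_lit 24576) Steps.nil))))))) (nat_lit 50) (nat_lit 2),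
  Rule.mk (nat_lit 9) (nat_lit 110) (Steps.bwd (nat_lit 3) (Steps.fwd (nat_lit 32768) (Steps.bwd (nat_lit 15) (Steps.bwd (nat_lit 16) (Steps.fwd (nat_lit 73728) (Steps.bwd (nat_lit 17) Steps.nil)))))) (nat_lit 65) (nat_lit 0),
  Rule.mk (nat_lit 13) (nat_lit 270) (Steps.bwd (nat_lit 3) (Steps.bwd (nat_lit 9) (Steps.fwd (nat_lit 57344) (Steps.fwd (nat_lit 16384) (Steps.fwd (nat_lit 32768) (Steps.bwd (nat_lit 3) (Steps.bwd (nat_lit 2) (Steps.bwd (nat_lit 4) (Steps.bwd (nat_lit 11) (Steps.fwd (nat_lit 131072) (Steps.fwd (nat_lit 147456) (Steps.fwd (nat_lit 16384) (Steps.fwd (nat_lit 73728) (Steps.fwd (nat_lit 16384) (Steps.bwd (nat_lit 9) (Steps.bwd (nat_lit 1) Steps.nil)))))))))))))))) (nat_lit 77) (nat_lit 14),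
  Rule.mk (nat_lit 14) (nat_lit 126) (Steps.bwd (nat_lit 3) (Steps.bwd (nat_lit 14) (Steps.fwd (nat_lit 122880) (Steps.bwd (nat_lit 17) (Steps.bwd (nat_lit 11) (Steps.bwd (nat_lit 11) (Steps.bwd (nat_lit 4) Steps.nil))))))) (nat_lit 52) (nat_lit 2),
  Rule.mk (nat_lit 2) (nat_lit 190) (Steps.bwd (nat_lit 3) (Steps.fwd (nat_lit 16384) (Steps.fwd (nat_lit 24576) (Steps.bwd (nat_lit 2) (Steps.fwd (nat_lit 32768) (Steps.bwd (nat_lit 1) (Steps.bwd (nat_lit 4) (Steps.bwd (nat_lit 2) (Steps.fwd (nat_lit 32768) (Steps.fwd (nat_lit 16384) (Steps.fwd (nat_lit 24576) Steps.nil))))))))))) (nat_lit 9) (nat_lit 2)]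
noncomputable def R_82 : List (Rule) := [Rule.mk (nat_lit 17) (nat_lit 142) (Steps.bwd (nat_lit 1) (Steps.bwd (nat_lit 10) (Steps.fwd (nat_lit 98304) (Steps.fwd (nat_lit 114688) (Steps.bwd (nat_lit 16) (Steps.bwd (nat_lit 10) (Steps.fwd (nat_lit 139264) (Steps.bwd (nat_lit 2) Steps.nil)))))))) (nat_lit 47) (nat_lit 8),
  Rule.mk (nat_lit 11) (nat_lit 142) (Steps.bwd (nat_lit 17) (Steps.fwd (nat_lit 122880) (Steps.bwd (nat_lit 12) (Steps.bwd (nat_lit 11) (Steps.fwd (nat_lit 8192) (Steps.fwd (nat_lit 139264) (Steps.fwd (nat_lit 16384) (Steps.fwd (nat_lit 131072) Steps.nil)))))))) (nat_lit 46) (nat_lit 5),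
  Rule.mk (nat_lit 9) (nat_lit 190) (Steps.bwd (nat_lit 12) (Steps.bwd (nat_lit 9) (Steps.fwd (nat_lit 98304) (Steps.bwd (nat_lit 9) (Steps.bwd (nat_lit 2) (Steps.bwd (nat_lit 2) (Steps.fwd (nat_lit 8192) (Steps.bwd (nat_lit 15) (Steps.fwd (nat_lit 8192) (Steps.fwd (nat_lit 139264) (Steps.fwd (nat_lit 98304) Steps.nil))))))))))) (nat_lit 75) (nat_lit 8),
  Rule.mk (nat_lit 3) (nat_lit 158) (Steps.bwd (nat_lit 3) (Steps.fwd (nat_lit 16384) (Steps.fwd (nat_lit 106496) (Steps.fwd (nat_lit 81920) (Steps.fwd (nat_lit 131072) (Steps.bwd (nat_lit 2) (Steps.bwd (nat_lit 9) (Steps.fwd (nat_lit 114688) (Steps.fwd (nat_lit 73728) Steps.nil))))))))) (nat_lit 63) (nat_lit 1),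
  Rule.mk (nat_lit 9) (nat_lit 158) (Steps.bwd (nat_lit 3) (Steps.bwd (nat_lit 3) (Steps.fwd (nat_lit 16384) (Steps.bwd (nat_lit 12) (Steps.bwd (nat_lit 11) (Steps.fwd (nat_lit 131072) (Steps.bwd (nat_lit 2) (Steps.fwd (nat_lit 73728) (Steps.fwd (nat_lit 114688) Steps.nil))))))))) (nat_lit 63) (nat_lit 0),
  Rule.mk (nat_lit 8) (nat_lit 126) (Steps.fwd (nat_lit 147456) (Steps.fwd (nat_lit 57344) (Steps.bwd (nat_lit 1) (Steps.bwd (nat_lit 1) (Steps.fwd (nat_lit 147456) (Steps.fwd (nat_lit 57344) (Steps.bwd (nat_lit 18) Steps.nil))))))) (nat_lit 87) (nat_lit 6),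
  Rule.mk (nat_lit 9) (nat_lit 270) (Steps.bwd (nat_lit 1) (Steps.bwd (nat_lit 9) (Steps.fwd (nat_lit 16384) (Steps.fwd (nat_lit 98304) (Steps.fwd (nat_lit 32768) (Steps.fwd (nat_lit 73728) (Steps.fwd (nat_lit 57344) (Steps.bwd (nat_lit 1) (Steps.bwd (nat_lit 3) (Steps.bwd (nat_lit 3) (Steps.fwd (nat_lit 8192) (Steps.bwd (nat_lit 4) (Steps.fwd (nat_lit 81920) (Steps.fwd (nat_lit 131072) (Steps.fwd (nat_lit 147456) (Steps.bwd (nat_lit 1) Steps.nil)))))))))))))))) (nat_lit 77) (nat_lit 10),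
  Rule.mk (nat_lit 10) (nat_lit 110) (Steps.bwd (nat_lit 15) (Steps.fwd (nat_lit 90112) (Steps.fwd (nat_lit 131072) (Steps.fwd (nat_lit 73728) (Steps.fwd (nat_lit 147456) (Steps.bwd (nat_lit 9) Steps.nil)))))) (nat_lit 67) (nat_lit 1),
  Rule.mk (nat_lit 7) (nat_lit 158) (Steps.bwd (nat_lit 18) (Steps.fwd (nat_lit 65536) (Steps.bwd (nat_lit 18) (Steps.bwd (nat_lit 7) (Steps.bwd (nat_lit 18) (Steps.fwd (nat_lit 65536) (Steps.fwd (nat_lit 155648) (Steps.bwd (nat_lit 7) (Steps.fwd (nat_lit 155648) Steps.nil))))))))) (nat_lit 84) (nat_lit 1),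
  Rule.mk (nat_lit 11) (nat_lit 110) (Steps.bwd (nat_lit 14) (Steps.bwd (nat_lit 11) (Steps.fwd (nat_lit 73728) (Steps.fwd (nat_lit 155648) (Steps.fwd (nat_lit 73728) (Steps.bwd (nat_lit 16) Steps.nil)))))) (nat_lit 66) (nat_lit 5),
  Rule.mk (nat_lit 9) (nat_lit 158) (Steps.bwd (nat_lit 3) (Steps.fwd (nat_lit 32768) (Steps.bwd (nat_lit 1) (Steps.bwd (nat_lit 12) (Steps.bwd (nat_lit 11) (Steps.fwd (nat_lit 131072) (Steps.bwd (nat_lit 2) (Steps.bwd (nat_lit 9) (Steps.bwd (nat_lit 15) Steps.nil))))))))) (nat_lit 63) (nat_lit 0),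
  Rule.mk (nat_lit 8) (nat_lit 158) (Steps.fwd (nat_lit 147456) (Steps.fwd (nat_lit 57344) (Steps.bwd (nat_lit 19) (Steps.bwd (nat_lit 8) (Steps.fwd (nat_lit 147456) (Steps.fwd (nat_lit 57344) (Steps.bwd (nat_lit 19) (Steps.bwd (nat_lit 8) (Steps.fwd (nat_lit 147456) Steps.nil))))))))) (nat_lit 85) (nat_lit 0),
  Rule.mk (nat_lit 11) (nat_lit 126) (Steps.bwd (nat_lit 4) (Steps.fwd (nat_lit 122880) (Steps.bwd (nat_lit 3) (Steps.bwd (nat_lit 14) (Steps.fwd (nat_lit 122880) (Steps.bwd (nat_lit 17) (Steps.bwd (nat_lit 11) Steps.nil))))))) (nat_lit 52) (nat_lit 0),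
  Rule.mk (nat_lit 7) (nat_lit 286) (Steps.fwd (nat_lit 73728) (Steps.bwd (nat_lit 4) (Steps.bwd (nat_lit 4) (Steps.bwd (nat_lit 2) (Steps.bwd (nat_lit 11) (Steps.bwd (nat_lit 1) (Steps.bwd (nat_lit 10) (Steps.fwd (nat_lit 8192) (Steps.fwd (nat_lit 90112) (Steps.fwd (nat_lit 16384) (Steps.bwd (nat_lit 7) (Steps.fwd (nat_lit 90112) (Steps.bwd (nat_lit 3) (Steps.bwd (nat_lit 1) (Steps.bwd (nat_lit 4) (Steps.fwd (nat_lit 65536) (Steps.bwd (nat_lit 10) Steps.nil))))))))))))))))) (nat_lit 57) (nat_lit 17),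
  Rule.mk (nat_lit 19) (nat_lit 126) (Steps.bwd (nat_lit 7) (Steps.fwd (nat_lit 155648) (Steps.bwd (nat_lit 2) (Steps.bwd (nat_lit 2) (Steps.bwd (nat_lit 7) (Steps.fwd (nat_lit 155648) (Steps.fwd (nat_lit 65536) Steps.nil))))))) (nat_lit 86) (nat_lit 4),
  Rule.mk (nat_lit 15) (nat_lit 94) (Steps.fwd (nat_lit 81920) (Steps.bwd (nat_lit 14) (Steps.fwd (nat_lit 90112) (Steps.bwd (nat_lit 19) (Steps.bwd (nat_lit 19) Steps.nil))))) (nat_lit 33) (nat_lit 3),
  Rule.mk (nat_lit 9) (nat_lit 158) (Steps.bwd (nat_lit 15) (Steps.fwd (nat_lit 73728) (Steps.fwd (nat_lit 32768) (Steps.bwd (nat_lit 3) (Steps.fwd (nat_lit 16384) (Steps.bwd (nat_lit 12) (Steps.bwd (nat_lit 11) (Steps.bwd (nat_lit 17) (Steps.bwd (nat_lit 2) Steps.nil))))))))) (nat_lit 63) (nat_lit 8),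
  Rule.mk (nat_lit 14) (nat_lit 158) (Steps.bwd (nat_lit 9) (Steps.bwd (nat_lit 1) (Steps.fwd (nat_lit 139264) (Steps.bwd (nat_lit 10) (Steps.fwd (nat_lit 98304) (Steps.bwd (nat_lit 2) (Steps.bwd (nat_lit 4) (Steps.fwd (nat_lit 24576) (Steps.bwd (nat_lit 9) Steps.nil))))))))) (nat_lit 62) (nat_lit 2),
  Rule.mk (nat_lit 10) (nat_lit 158) (Steps.bwd (nat_lit 13) (Steps.bwd (nat_lit 2) (Steps.fwd (nat_lit 24576) (Steps.bwd (nat_lit 4) (Steps.fwd (nat_lit 73728) (Steps.fwd (nat_lit 122880) (Steps.bwd (nat_lit 9) (Steps.fwd (nat_lit 16384) (Steps.fwd (nat_lit 139264) Steps.nil))))))))) (nat_lit 62) (nat_lit 6),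
  Rule.mk (nat_lit 11) (nat_lit 286) (Steps.bwd (nat_lit 8) (Steps.fwd (nat_lit 8192) (Steps.bwd (nat_lit 11) (Steps.bwd (nat_lit 1) (Steps.bwd (nat_lit 11) (Steps.fwd (nat_lit 8192) (Steps.fwd (nat_lit 90112) (Steps.fwd (nat_lit 16384) (Steps.fwd (nat_lit 32768) (Steps.fwd (nat_lit 32768) (Steps.bwd (nat_lit 9) (Steps.fwd (nat_lit 57344) (Steps.bwd (nat_lit 11) (Steps.bwd (nat_lit 8) (Steps.bwd (nat_lit 3) (Steps.fwd (nat_lit 8192) (Steps.bwd (nat_lit 4) Steps.nil))))))))))))))))) (nat_lit 56) (nat_lit 8),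
  Rule.mk (nat_lit 10) (nat_lit 142) (Steps.bwd (nat_lit 13) (Steps.fwd (nat_lit 114688) (Steps.bwd (nat_lit 16) (Steps.bwd (nat_lit 10) (Steps.bwd (nat_lit 16) (Steps.bwd (nat_lit 2) (Steps.bwd (nat_lit 17) (Steps.bwd (nat_lit 1) Steps.nil)))))))) (nat_lit 47) (nat_lit 1),
  Rule.mk (nat_lit 7) (nat_lit 126) (Steps.bwd (nat_lit 18) (Steps.bwd (nat_lit 7) (Steps.fwd (nat_lit 147456) (Steps.fwd (nat_lit 65536) (Steps.fwd (nat_lit 155648) (Steps.fwd (nat_lit 8192) (Steps.bwd (nat_lit 2) Steps.nil))))))) (nat_lit 86) (nat_lit 1),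
  Rule.mk (nat_lit 2) (nat_lit 94) (Steps.fwd (nat_lit 8192) (Steps.fwd (nat_lit 24576) (Steps.fwd (nat_lit 16384) (Steps.bwd (nat_lit 1) (Steps.bwd (nat_lit 3) Steps.nil))))) (nat_lit 6) (nat_lit 1),
  Rule.mk (nat_lit 4) (nat_lit 110) (Steps.bwd (nat_lit 9) (Steps.fwd (nat_lit 139264) (Steps.bwd (nat_lit 9) (Steps.bwd (nat_lit 17) (Steps.bwd (nat_lit 14) (Steps.bwd (nat_lit 4) Steps.nil)))))) (nat_lit 64) (nat_lit 0),
  Rule.mk (nat_lit 19) (nat_lit 110) (Steps.bwd (nat_lit 9) (Steps.bwd (nat_lit 10) (Steps.bwd (nat_lit 15) (Steps.bwd (nat_lit 10) (Steps.fwd (nat_lit 131072) (Steps.bwd (nat_lit 9) Steps.nil)))))) (nat_lit 67) (nat_lit 6),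
  Rule.mk (nat_lit 14) (nat_lit 158) (Steps.bwd (nat_lit 9) (Steps.bwd (nat_lit 1) (Steps.fwd (nat_lit 139264) (Steps.fwd (nat_lit 90112) (Steps.bwd (nat_lit 13) (Steps.fwd (nat_lit 8192) (Steps.bwd (nat_lit 4) (Steps.fwd (nat_lit 24576) (Steps.fwd (nat_lit 73728) Steps.nil))))))))) (nat_lit 62) (nat_lit 2),
  Rule.mk (nat_lit 13) (nat_lit 190) (Steps.bwd (nat_lit 9) (Steps.bwd (nat_lit 2) (Steps.fwd (nat_lit 8192) (Steps.fwd (nat_lit 8192) (Steps.fwd (nat_lit 114688) (Steps.fwd (nat_lit 8192) (Steps.bwd (nat_lit 16) (Steps.fwd (nat_lit 98304) (Steps.fwd (nat_lit 73728) (Steps.fwd (nat_lit 106496) (Steps.fwd (nat_lit 73728) Steps.nil))))))))))) (nat_lit 75) (nat_lit 11),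
  Rule.mk (nat_lit 1) (nat_lit 206) (Steps.bwd (nat_lit 9) (Steps.fwd (nat_lit 139264) (Steps.bwd (nat_lit 19) (Steps.bwd (nat_lit 11) (Steps.bwd (nat_lit 2) (Steps.bwd (nat_lit 3) (Steps.fwd (nat_lit 8192) (Steps.bwd (nat_lit 4) (Steps.fwd (nat_lit 24576) (Steps.fwd (nat_lit 8192) (Steps.fwd (nat_lit 73728) (Steps.fwd (nat_lit 16384) Steps.nil)))))))))))) (nat_lit 68) (nat_lit 3),
  Rule.mk (nat_lit 15) (nat_lit 110) (Steps.fwd (nat_lit 24576) (Steps.fwd (nat_lit 73728) (Steps.bwd (nat_lit 10) (Steps.fwd (nat_lit 73728) (Steps.fwd (nat_lit 90112) (Steps.bwd (nat_lit 4) Steps.nil)))))) (nat_lit 60) (nat_lit 6),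
  Rule.mk (nat_lit 9) (nat_lit 158) (Steps.bwd (nat_lit 15) (Steps.fwd (nat_lit 73728) (Steps.fwd (nat_lit 32768) (Steps.fwd (nat_lit 32768) (Steps.fwd (nat_lit 16384) (Steps.fwd (nat_lit 106496) (Steps.fwd (nat_lit 81920) (Steps.bwd (nat_lit 17) (Steps.bwd (nat_lit 2) Steps.nil))))))))) (nat_lit 63) (nat_lit 8),
  Rule.mk (nat_lit 12) (nat_lit 190) (Steps.bwd (nat_lit 17) (Steps.fwd (nat_lit 16384) (Steps.bwd (nat_lit 14) (Steps.bwd (nat_lit 1) (Steps.fwd (nat_lit 16384) (Steps.fwd (nat_lit 16384) (Steps.fwd (nat_lit 73728) (Steps.bwd (nat_lit 12) (Steps.bwd (nat_lit 9) (Steps.fwd (nat_lit 98304) (Steps.bwd (nat_lit 9) Steps.nil))))))))))) (nat_lit 74) (nat_lit 6),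
  Rule.mk (nat_lit 8) (nat_lit 270) (Steps.bwd (nat_lit 1) (Steps.bwd (nat_lit 3) (Steps.bwd (nat_lit 3) (Steps.fwd (nat_lit 8192) (Steps.bwd (nat_lit 4) (Steps.bwd (nat_lit 11) (Steps.bwd (nat_lit 17) (Steps.fwd (nat_lit 147456) (Steps.fwd (nat_lit 16384) (Steps.fwd (nat_lit 73728) (Steps.fwd (nat_lit 16384) (Steps.fwd (nat_lit 73728) (Steps.bwd (nat_lit 1) (Steps.bwd (nat_lit 13) (Steps.fwd (nat_lit 32768) (Steps.bwd (nat_lit 9) Steps.nil)))))))))))))))) (nat_lit 77) (nat_lit 0),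
  Rule.mk (nat_lit 17) (nat_lit 142) (Steps.bwd (nat_lit 1) (Steps.fwd (nat_lit 90112) (Steps.bwd (nat_lit 13) (Steps.bwd (nat_lit 15) (Steps.fwd (nat_lit 139264) (Steps.fwd (nat_lit 90112) (Steps.fwd (nat_lit 139264) (Steps.bwd (nat_lit 2) Steps.nil)))))))) (nat_lit 47) (nat_lit 8),
  Rule.mk (nat_lit 9) (nat_lit 206) (Steps.bwd (nat_lit 1) (Steps.fwd (nat_lit 16384) (Steps.fwd (nat_lit 73728) (Steps.fwd (nat_lit 139264) (Steps.bwd (nat_lit 19) (Steps.bwd (nat_lit 11) (Steps.fwd (nat_lit 8192) (Steps.fwd (nat_lit 32768) (Steps.bwd (nat_lit 2) (Steps.fwd (nat_lit 24576) (Steps.fwd (nat_lit 24576) (Steps.fwd (nat_lit 8192) Steps.nil)))))))))))) (nat_lit 68) (nat_lit 1),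
  Rule.mk (nat_lit 16) (nat_lit 126) (Steps.fwd (nat_lit 90112) (Steps.bwd (nat_lit 16) (Steps.bwd (nat_lit 15) (Steps.fwd (nat_lit 98304) (Steps.bwd (nat_lit 4) (Steps.bwd (nat_lit 12) (Steps.bwd (nat_lit 3) Steps.nil))))))) (nat_lit 50) (nat_lit 4),
  Rule.mk (nat_lit 2) (nat_lit 126) (Steps.bwd (nat_lit 4) (Steps.bwd (nat_lit 2) (Steps.bwd (nat_lit 4) (Steps.fwd (nat_lit 8192) (Steps.fwd (nat_lit 24576) (Steps.fwd (nat_lit 8192) (Steps.bwd (nat_lit 4) Steps.nil))))))) (nat_lit 5) (nat_lit 0),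
  Rule.mk (nat_lit 11) (nat_lit 286) (Steps.fwd (nat_lit 57344) (Steps.bwd (nat_lit 2) (Steps.bwd (nat_lit 11) (Steps.fwd (nat_lit 16384) (Steps.bwd (nat_lit 11) (Steps.bwd (nat_lit 2) (Steps.bwd (nat_lit 10) (Steps.fwd (nat_lit 16384) (Steps.bwd (nat_lit 3) (Steps.bwd (nat_lit 3) (Steps.fwd (nat_lit 73728) (Steps.fwd (nat_lit 57344) (Steps.bwd (nat_lit 11) (Steps.bwd (nat_lit 8) (Steps.bwd (nat_lit 3) (Steps.fwd (nat_lit 8192) (Steps.bwd (nat_lit 4) Steps.nil))))))))))))))))) (nat_lit 56) (nat_lit 8),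
  Rule.mk (nat_lit 15) (nat_lit 94) (Steps.bwd (nat_lit 11) (Steps.fwd (nat_lit 122880) (Steps.fwd (nat_lit 90112) (Steps.fwd (nat_lit 147456) (Steps.fwd (nat_lit 147456) Steps.nil))))) (nat_lit 33) (nat_lit 3),
  Rule.mk (nat_lit 19) (nat_lit 126) (Steps.bwd (nat_lit 8) (Steps.fwd (nat_lit 16384) (Steps.bwd (nat_lit 1) (Steps.bwd (nat_lit 19) (Steps.fwd (nat_lit 57344) (Steps.bwd (nat_lit 18) (Steps.fwd (nat_lit 57344) Steps.nil))))))) (nat_lit 87) (nat_lit 7),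
  Rule.mk (nat_lit 9) (nat_lit 110) (Steps.bwd (nat_lit 10) (Steps.bwd (nat_lit 4) (Steps.fwd (nat_lit 114688) (Steps.fwd (nat_lit 24576) (Steps.bwd (nat_lit 9) (Steps.bwd (nat_lit 10) Steps.nil)))))) (nat_lit 60) (nat_lit 3),
  Rule.mk (nat_lit 16) (nat_lit 158) (Steps.bwd (nat_lit 10) (Steps.bwd (nat_lit 13) (Steps.bwd (nat_lit 2) (Steps.fwd (nat_lit 24576) (Steps.fwd (nat_lit 24576) (Steps.fwd (nat_lit 73728) (Steps.bwd (nat_lit 14) (Steps.fwd (nat_lit 73728) (Steps.bwd (nat_lit 1) Steps.nil))))))))) (nat_lit 62) (nat_lit 5),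
  Rule.mk (nat_lit 19) (nat_lit 110) (Steps.bwd (nat_lit 9) (Steps.fwd (nat_lit 90112) (Steps.bwd (nat_lit 15) (Steps.fwd (nat_lit 90112) (Steps.fwd (nat_lit 131072) (Steps.bwd (nat_lit 9) Steps.nil)))))) (nat_lit 67) (nat_lit 6),
  Rule.mk (nat_lit 14) (nat_lit 158) (Steps.bwd (nat_lit 9) (Steps.fwd (nat_lit 16384) (Steps.fwd (nat_lit 139264) (Steps.bwd (nat_lit 10) (Steps.fwd (nat_lit 98304) (Steps.fwd (nat_lit 8192) (Steps.fwd (nat_lit 24576) (Steps.fwd (nat_lit 24576) (Steps.fwd (nat_lit 73728) Steps.nil))))))))) (nat_lit 62) (nat_lit 2),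
  Rule.mk (nat_lit 15) (nat_lit 158) (Steps.bwd (nat_lit 9) (Steps.bwd (nat_lit 3) (Steps.bwd (nat_lit 3) (Steps.bwd (nat_lit 1) (Steps.bwd (nat_lit 12) (Steps.fwd (nat_lit 81920) (Steps.fwd (nat_lit 131072) (Steps.bwd (nat_lit 2) (Steps.bwd (nat_lit 9) Steps.nil))))))))) (nat_lit 63) (nat_lit 9),
  Rule.mk (nat_lit 13) (nat_lit 190) (Steps.bwd (nat_lit 9) (Steps.fwd (nat_lit 106496) (Steps.bwd (nat_lit 17) (Steps.bwd (nat_lit 1) (Steps.fwd (nat_lit 122880) (Steps.fwd (nat_lit 16384) (Steps.fwd (nat_lit 16384) (Steps.fwd (nat_lit 16384) (Steps.bwd (nat_lit 9) (Steps.bwd (nat_lit 12) (Steps.fwd (nat_lit 73728) Steps.nil))))))))))) (nat_lit 74) (nat_lit 4),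
  Rule.mk (nat_lit 2) (nat_lit 206) (Steps.bwd (nat_lit 9) (Steps.fwd (nat_lit 16384) (Steps.bwd (nat_lit 1) (Steps.bwd (nat_lit 9) (Steps.fwd (nat_lit 139264) (Steps.bwd (nat_lit 19) (Steps.bwd (nat_lit 11) (Steps.bwd (nat_lit 2) (Steps.bwd (nat_lit 3) (Steps.bwd (nat_lit 2) (Steps.bwd (nat_lit 4) (Steps.bwd (nat_lit 4) Steps.nil)))))))))))) (nat_lit 68) (nat_lit 0),
  Rule.mk (nat_lit 7) (nat_lit 126) (Steps.fwd (nat_lit 155648) (Steps.fwd (nat_lit 8192) (Steps.bwd (nat_lit 2) (Steps.bwd (nat_lit 7) (Steps.bwd (nat_lit 18) (Steps.fwd (nat_lit 65536) (Steps.bwd (nat_lit 19) Steps.nil))))))) (nat_lit 86) (nat_lit 5),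
  Rule.mk (nat_lit 8) (nat_lit 126) (Steps.fwd (nat_lit 16384) (Steps.bwd (nat_lit 1) (Steps.fwd (nat_lit 147456) (Steps.fwd (nat_lit 57344) (Steps.bwd (nat_lit 18) (Steps.bwd (nat_lit 8) (Steps.bwd (nat_lit 19) Steps.nil))))))) (nat_lit 87) (nat_lit 0),
  Rule.mk (nat_lit 17) (nat_lit 110) (Steps.bwd (nat_lit 11) (Steps.bwd (nat_lit 14) (Steps.fwd (nat_lit 122880) (Steps.bwd (nat_lit 2) (Steps.fwd (nat_lit 122880) (Steps.bwd (nat_lit 1) Steps.nil)))))) (nat_lit 44) (nat_lit 4),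
  Rule.mk (nat_lit 9) (nat_lit 158) (Steps.bwd (nat_lit 15) (Steps.bwd (nat_lit 9) (Steps.fwd (nat_lit 32768) (Steps.bwd (nat_lit 3) (Steps.fwd (nat_lit 16384) (Steps.bwd (nat_lit 12) (Steps.bwd (nat_lit 11) (Steps.fwd (nat_lit 131072) (Steps.fwd (nat_lit 8192) Steps.nil))))))))) (nat_lit 63) (nat_lit 8),
  Rule.mk (nat_lit 18) (nat_lit 110) (Steps.fwd (nat_lit 73728) (Steps.fwd (nat_lit 139264) (Steps.bwd (nat_lit 11) (Steps.fwd (nat_lit 122880) (Steps.fwd (nat_lit 81920) (Steps.bwd (nat_lit 9) Steps.nil)))))) (nat_lit 66) (nat_lit 2),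
  Rule.mk (nat_lit 2) (nat_lit 94) (Steps.bwd (nat_lit 8) (Steps.bwd (nat_lit 1) (Steps.fwd (nat_lit 65536) (Steps.fwd (nat_lit 8192) (Steps.bwd (nat_lit 2) Steps.nil))))) (nat_lit 82) (nat_lit 0),
  Rule.mk (nat_lit 10) (nat_lit 142) (Steps.bwd (nat_lit 13) (Steps.bwd (nat_lit 15) (Steps.bwd (nat_lit 16) (Steps.fwd (nat_lit 90112) (Steps.fwd (nat_lit 139264) (Steps.fwd (nat_lit 8192) (Steps.bwd (nat_lit 17) (Steps.fwd (nat_lit 16384) Steps.nil)))))))) (nat_lit 47) (nat_lit 1),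
  Rule.mk (nat_lit 15) (nat_lit 110) (Steps.fwd (nat_lit 131072) (Steps.bwd (nat_lit 17) (Steps.bwd (nat_lit 9) (Steps.fwd (nat_lit 24576) (Steps.fwd (nat_lit 73728) (Steps.bwd (nat_lit 10) Steps.nil)))))) (nat_lit 71) (nat_lit 2),
  Rule.mk (nat_lit 14) (nat_lit 110) (Steps.fwd (nat_lit 81920) (Steps.bwd (nat_lit 9) (Steps.bwd (nat_lit 18) (Steps.bwd (nat_lit 9) (Steps.fwd (nat_lit 139264) (Steps.bwd (nat_lit 11) Steps.nil)))))) (nat_lit 66) (nat_lit 6),
  Rule.mk (nat_lit 16) (nat_lit 110) (Steps.bwd (nat_lit 14) (Steps.fwd (nat_lit 81920) (Steps.bwd (nat_lit 9) (Steps.fwd (nat_lit 32768) (Steps.bwd (nat_lit 9) (Steps.fwd (nat_lit 139264) Steps.nil)))))) (nat_lit 70) (nat_lit 5),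
  Rule.mk (nat_lit 9) (nat_lit 190) (Steps.bwd (nat_lit 13) (Steps.fwd (nat_lit 73728) (Steps.bwd (nat_lit 12) (Steps.bwd (nat_lit 17) (Steps.fwd (nat_lit 16384) (Steps.bwd (nat_lit 14) (Steps.bwd (nat_lit 1) (Steps.bwd (nat_lit 1) (Steps.bwd (nat_lit 1) (Steps.bwd (nat_lit 9) (Steps.bwd (nat_lit 12) Steps.nil))))))))))) (nat_lit 74) (nat_lit 3),
  Rule.mk (nat_lit 1) (nat_lit 94) (Steps.fwd (nat_lit 16384) (Steps.bwd (nat_lit 3) (Steps.fwd (nat_lit 8192) (Steps.bwd (nat_lit 2) (Steps.bwd (nat_lit 4) Steps.nil))))) (nat_lit 6) (nat_lit 4),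
  Rule.mk (nat_lit 17) (nat_lit 110) (Steps.bwd (nat_lit 9) (Steps.bwd (nat_lit 19) (Steps.bwd (nat_lit 9) (Steps.fwd (nat_lit 90112) (Steps.fwd (nat_lit 114688) (Steps.bwd (nat_lit 10) Steps.nil)))))) (nat_lit 67) (nat_lit 4),
  Rule.mk (nat_lit 11) (nat_lit 110) (Steps.bwd (nat_lit 9) (Steps.bwd (nat_lit 3) (Steps.bwd (nat_lit 9) (Steps.bwd (nat_lit 16) (Steps.bwd (nat_lit 16) (Steps.fwd (nat_lit 122880) Steps.nil)))))) (nat_lit 70) (nat_lit 0),
  Rule.mk (nat_lit 12) (nat_lit 190) (Steps.bwd (nat_lit 9) (Steps.fwd (nat_lit 98304) (Steps.fwd (nat_lit 73728) (Steps.bwd (nat_lit 12) (Steps.fwd (nat_lit 131072) (Steps.fwd (nat_lit 16384) (Steps.fwd (nat_lit 122880) (Steps.bwd (nat_lit 1) (Steps.bwd (nat_lit 1) (Steps.fwd (nat_lit 16384) (Steps.fwd (nat_lit 73728) Steps.nil))))))))))) (nat_lit 74) (nat_lit 2),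
  Rule.mk (nat_lit 11) (nat_lit 158) (Steps.fwd (nat_lit 131072) (Steps.fwd (nat_lit 8192) (Steps.bwd (nat_lit 9) (Steps.bwd (nat_lit 15) (Steps.bwd (nat_lit 9) (Steps.fwd (nat_lit 32768) (Steps.fwd (nat_lit 32768) (Steps.fwd (nat_lit 16384) (Steps.bwd (nat_lit 12) Steps.nil))))))))) (nat_lit 63) (nat_lit 5),
  Rule.mk (nat_lit 11) (nat_lit 126) (Steps.bwd (nat_lit 4) (Steps.fwd (nat_lit 122880) (Steps.fwd (nat_lit 32768) (Steps.fwd (nat_lit 122880) (Steps.bwd (nat_lit 14) (Steps.fwd (nat_lit 131072) (Steps.fwd (nat_lit 81920) Steps.nil))))))) (nat_lit 52) (nat_lit 0),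
  Rule.mk (nat_lit 2) (nat_lit 158) (Steps.bwd (nat_lit 4) (Steps.fwd (nat_lit 24576) (Steps.fwd (nat_lit 73728) (Steps.fwd (nat_lit 122880) (Steps.fwd (nat_lit 73728) (Steps.bwd (nat_lit 1) (Steps.bwd (nat_lit 16) (Steps.fwd (nat_lit 90112) (Steps.bwd (nat_lit 13) Steps.nil))))))))) (nat_lit 62) (nat_lit 8)]
noncomputable def R_83 : List (Rule) := [Rule.mk (nat_lit 9) (nat_lit 158) (Steps.fwd (nat_lit 114688) (Steps.bwd (nat_lit 9) (Steps.fwd (nat_lit 32768) (Steps.fwd (nat_lit 32768) (Steps.fwd (nat_lit 16384) (Steps.fwd (nat_lit 106496) (Steps.bwd (nat_lit 11) (Steps.bwd (nat_lit 17) (Steps.bwd (nat_lit 2) Steps.nil))))))))) (nat_lit 63) (nat_lit 8),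
  Rule.mk (nat_lit 14) (nat_lit 78) (Steps.bwd (nat_lit 18) (Steps.bwd (nat_lit 13) (Steps.bwd (nat_lit 15) (Steps.bwd (nat_lit 12) Steps.nil)))) (nat_lit 36) (nat_lit 4),
  Rule.mk (nat_lit 10) (nat_lit 110) (Steps.bwd (nat_lit 16) (Steps.bwd (nat_lit 2) (Steps.fwd (nat_lit 114688) (Steps.bwd (nat_lit 1) (Steps.bwd (nat_lit 15) (Steps.fwd (nat_lit 114688) Steps.nil)))))) (nat_lit 45) (nat_lit 3),
  Rule.mk (nat_lit 16) (nat_lit 126) (Steps.bwd (nat_lit 15) (Steps.bwd (nat_lit 15) (Steps.fwd (nat_lit 24576) (Steps.bwd (nat_lit 15) (Steps.bwd (nat_lit 3) (Steps.fwd (nat_lit 90112) (Steps.bwd (nat_lit 10) Steps.nil))))))) (nat_lit 53) (nat_lit 3),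
  Rule.mk (nat_lit 9) (nat_lit 270) (Steps.bwd (nat_lit 8) (Steps.bwd (nat_lit 1) (Steps.fwd (nat_lit 32768) (Steps.fwd (nat_lit 32768) (Steps.bwd (nat_lit 2) (Steps.bwd (nat_lit 4) (Steps.fwd (nat_lit 81920) (Steps.fwd (nat_lit 131072) (Steps.bwd (nat_lit 19) (Steps.fwd (nat_lit 16384) (Steps.bwd (nat_lit 9) (Steps.fwd (nat_lit 16384) (Steps.bwd (nat_lit 9) (Steps.bwd (nat_lit 1) (Steps.bwd (nat_lit 13) (Steps.fwd (nat_lit 32768) Steps.nil)))))))))))))))) (nat_lit 77) (nat_lit 16),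
  Rule.mk (nat_lit 19) (nat_lit 110) (Steps.fwd (nat_lit 73728) (Steps.bwd (nat_lit 10) (Steps.fwd (nat_lit 114688) (Steps.bwd (nat_lit 10) (Steps.bwd (nat_lit 17) (Steps.bwd (nat_lit 9) Steps.nil)))))) (nat_lit 67) (nat_lit 6),
  Rule.mk (nat_lit 9) (nat_lit 110) (Steps.bwd (nat_lit 10) (Steps.bwd (nat_lit 15) (Steps.fwd (nat_lit 131072) (Steps.bwd (nat_lit 17) (Steps.bwd (nat_lit 9) (Steps.fwd (nat_lit 24576) Steps.nil)))))) (nat_lit 71) (nat_lit 0),
  Rule.mk (nat_lit 15) (nat_lit 110) (Steps.fwd (nat_lit 24576) (Steps.bwd (nat_lit 9) (Steps.bwd (nat_lit 10) (Steps.bwd (nat_lit 9) (Steps.bwd (nat_lit 10) (Steps.fwd (nat_lit 24576) Steps.nil)))))) (nat_lit 60) (nat_lit 6),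
  Rule.mk (nat_lit 10) (nat_lit 94) (Steps.fwd (nat_lit 122880) (Steps.fwd (nat_lit 155648) (Steps.bwd (nat_lit 18) (Steps.bwd (nat_lit 11) (Steps.bwd (nat_lit 15) Steps.nil))))) (nat_lit 32) (nat_lit 3),
  Rule.mk (nat_lit 2) (nat_lit 270) (Steps.bwd (nat_lit 7) (Steps.fwd (nat_lit 73728) (Steps.bwd (nat_lit 4) (Steps.bwd (nat_lit 12) (Steps.bwd (nat_lit 2) (Steps.fwd (nat_lit 73728) (Steps.fwd (nat_lit 8192) (Steps.bwd (nat_lit 9) (Steps.fwd (nat_lit 8192) (Steps.fwd (nat_lit 155648) (Steps.fwd (nat_lit 139264) (Steps.fwd (nat_lit 90112) (Steps.fwd (nat_lit 32768) (Steps.bwd (nat_lit 1) (Steps.fwd (nat_lit 24576) (Steps.fwd (nat_lit 24576) Steps.nil)))))))))))))))) (nat_lit 76) (nat_lit 0),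
  Rule.mk (nat_lit 17) (nat_lit 142) (Steps.bwd (nat_lit 1) (Steps.fwd (nat_lit 90112) (Steps.bwd (nat_lit 13) (Steps.fwd (nat_lit 114688) (Steps.fwd (nat_lit 139264) (Steps.fwd (nat_lit 90112) (Steps.bwd (nat_lit 16) (Steps.bwd (nat_lit 2) Steps.nil)))))))) (nat_lit 47) (nat_lit 8),
  Rule.mk (nat_lit 14) (nat_lit 126) (Steps.bwd (nat_lit 17) (Steps.bwd (nat_lit 11) (Steps.fwd (nat_lit 81920) (Steps.fwd (nat_lit 24576) (Steps.bwd (nat_lit 14) (Steps.fwd (nat_lit 32768) (Steps.fwd (nat_lit 122880) Steps.nil))))))) (nat_lit 52) (nat_lit 5),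
  Rule.mk (nat_lit 16) (nat_lit 78) (Steps.bwd (nat_lit 18) (Steps.fwd (nat_lit 114688) (Steps.bwd (nat_lit 17) (Steps.bwd (nat_lit 14) Steps.nil)))) (nat_lit 40) (nat_lit 4),
  Rule.mk (nat_lit 1) (nat_lit 94) (Steps.bwd (nat_lit 1) (Steps.bwd (nat_lit 8) (Steps.fwd (nat_lit 57344) (Steps.fwd (nat_lit 16384) (Steps.fwd (nat_lit 16384) Steps.nil))))) (nat_lit 79) (nat_lit 3),
  Rule.mk (nat_lit 3) (nat_lit 158) (Steps.bwd (nat_lit 1) (Steps.bwd (nat_lit 12) (Steps.bwd (nat_lit 11) (Steps.fwd (nat_lit 131072) (Steps.bwd (nat_lit 2) (Steps.bwd (nat_lit 9) (Steps.bwd (nat_lit 15) (Steps.bwd (nat_lit 9) (Steps.bwd (nat_lit 3) Steps.nil))))))))) (nat_lit 63) (nat_lit 2),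
  Rule.mk (nat_lit 4) (nat_lit 270) (Steps.bwd (nat_lit 4) (Steps.bwd (nat_lit 2) (Steps.bwd (nat_lit 7) (Steps.bwd (nat_lit 9) (Steps.fwd (nat_lit 24576) (Steps.fwd (nat_lit 106496) (Steps.bwd (nat_lit 2) (Steps.fwd (nat_lit 73728) (Steps.fwd (nat_lit 8192) (Steps.bwd (nat_lit 9) (Steps.fwd (nat_lit 8192) (Steps.bwd (nat_lit 18) (Steps.bwd (nat_lit 16) (Steps.fwd (nat_lit 90112) (Steps.fwd (nat_lit 32768) (Steps.fwd (nat_lit 16384) Steps.nil)))))))))))))))) (nat_lit 76) (nat_lit 15),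
  Rule.mk (nat_lit 4) (nat_lit 110) (Steps.bwd (nat_lit 9) (Steps.bwd (nat_lit 16) (Steps.fwd (nat_lit 73728) (Steps.bwd (nat_lit 17) (Steps.bwd (nat_lit 14) (Steps.fwd (nat_lit 24576) Steps.nil)))))) (nat_lit 64) (nat_lit 0),
  Rule.mk (nat_lit 16) (nat_lit 110) (Steps.bwd (nat_lit 9) (Steps.fwd (nat_lit 131072) (Steps.fwd (nat_lit 73728) (Steps.fwd (nat_lit 32768) (Steps.bwd (nat_lit 3) (Steps.fwd (nat_lit 114688) Steps.nil)))))) (nat_lit 65) (nat_lit 4),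
  Rule.mk (nat_lit 14) (nat_lit 158) (Steps.bwd (nat_lit 9) (Steps.bwd (nat_lit 1) (Steps.fwd (nat_lit 139264) (Steps.bwd (nat_lit 10) (Steps.fwd (nat_lit 98304) (Steps.fwd (nat_lit 8192) (Steps.bwd (nat_lit 4) (Steps.bwd (nat_lit 4) (Steps.fwd (nat_lit 73728) Steps.nil))))))))) (nat_lit 62) (nat_lit 2),
  Rule.mk (nat_lit 12) (nat_lit 142) (Steps.bwd (nat_lit 11) (Steps.fwd (nat_lit 8192) (Steps.fwd (nat_lit 139264) (Steps.bwd (nat_lit 1) (Steps.fwd (nat_lit 131072) (Steps.bwd (nat_lit 11) (Steps.fwd (nat_lit 131072) (Steps.bwd (nat_lit 14) Steps.nil)))))))) (nat_lit 46) (nat_lit 8),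
  Rule.mk (nat_lit 10) (nat_lit 142) (Steps.bwd (nat_lit 13) (Steps.bwd (nat_lit 15) (Steps.fwd (nat_lit 139264) (Steps.fwd (nat_lit 90112) (Steps.bwd (nat_lit 16) (Steps.bwd (nat_lit 2) (Steps.fwd (nat_lit 131072) (Steps.fwd (nat_lit 16384) Steps.nil)))))))) (nat_lit 47) (nat_lit 1),
  Rule.mk (nat_lit 9) (nat_lit 110) (Steps.bwd (nat_lit 10) (Steps.bwd (nat_lit 9) (Steps.bwd (nat_lit 10) (Steps.bwd (nat_lit 4) (Steps.fwd (nat_lit 114688) (Steps.bwd (nat_lit 4) Steps.nil)))))) (nat_lit 60) (nat_lit 1),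
  Rule.mk (nat_lit 17) (nat_lit 110) (Steps.bwd (nat_lit 14) (Steps.bwd (nat_lit 4) (Steps.bwd (nat_lit 4) (Steps.bwd (nat_lit 9) (Steps.fwd (nat_lit 139264) (Steps.bwd (nat_lit 9) Steps.nil)))))) (nat_lit 64) (nat_lit 4),
  Rule.mk (nat_lit 2) (nat_lit 142) (Steps.bwd (nat_lit 17) (Steps.fwd (nat_lit 16384) (Steps.bwd (nat_lit 10) (Steps.bwd (nat_lit 13) (Steps.fwd (nat_lit 114688) (Steps.bwd (nat_lit 16) (Steps.bwd (nat_lit 10) (Steps.fwd (nat_lit 139264) Steps.nil)))))))) (nat_lit 47) (nat_lit 7),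
  Rule.mk (nat_lit 2) (nat_lit 142) (Steps.bwd (nat_lit 16) (Steps.bwd (nat_lit 1) (Steps.fwd (nat_lit 131072) (Steps.fwd (nat_lit 81920) (Steps.bwd (nat_lit 17) (Steps.bwd (nat_lit 14) (Steps.fwd (nat_lit 106496) (Steps.bwd (nat_lit 11) Steps.nil)))))))) (nat_lit 46) (nat_lit 1),
  Rule.mk (nat_lit 9) (nat_lit 190) (Steps.fwd (nat_lit 98304) (Steps.fwd (nat_lit 73728) (Steps.bwd (nat_lit 12) (Steps.fwd (nat_lit 131072) (Steps.fwd (nat_lit 16384) (Steps.bwd (nat_lit 14) (Steps.bwd (nat_lit 1) (Steps.bwd (nat_lit 1) (Steps.fwd (nat_lit 16384) (Steps.fwd (nat_lit 73728) (Steps.bwd (nat_lit 12) Steps.nil))))))))))) (nat_lit 74) (nat_lit 3),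
  Rule.mk (nat_lit 17) (nat_lit 110) (Steps.bwd (nat_lit 11) (Steps.bwd (nat_lit 14) (Steps.fwd (nat_lit 122880) (Steps.fwd (nat_lit 8192) (Steps.fwd (nat_lit 122880) (Steps.fwd (nat_lit 16384) Steps.nil)))))) (nat_lit 44) (nat_lit 4),
  Rule.mk (nat_lit 11) (nat_lit 126) (Steps.bwd (nat_lit 11) (Steps.fwd (nat_lit 24576) (Steps.fwd (nat_lit 122880) (Steps.bwd (nat_lit 3) (Steps.bwd (nat_lit 14) (Steps.bwd (nat_lit 14) (Steps.fwd (nat_lit 131072) Steps.nil))))))) (nat_lit 52) (nat_lit 7),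
  Rule.mk (nat_lit 2) (nat_lit 286) (Steps.bwd (nat_lit 11) (Steps.fwd (nat_lit 16384) (Steps.bwd (nat_lit 11) (Steps.bwd (nat_lit 2) (Steps.fwd (nat_lit 90112) (Steps.fwd (nat_lit 16384) (Steps.bwd (nat_lit 3) (Steps.bwd (nat_lit 3) (Steps.fwd (nat_lit 73728) (Steps.bwd (nat_lit 8) (Steps.bwd (nat_lit 11) (Steps.bwd (nat_lit 8) (Steps.bwd (nat_lit 3) (Steps.bwd (nat_lit 2) (Steps.bwd (nat_lit 4) (Steps.fwd (nat_lit 81920) (Steps.fwd (nat_lit 57344) Steps.nil))))))))))))))))) (nat_lit 56) (nat_lit 10),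
  Rule.mk (nat_lit 2) (nat_lit 94) (Steps.fwd (nat_lit 32768) (Steps.bwd (nat_lit 1) (Steps.fwd (nat_lit 16384) (Steps.bwd (nat_lit 4) (Steps.bwd (nat_lit 2) Steps.nil))))) (nat_lit 7) (nat_lit 3),
  Rule.mk (nat_lit 9) (nat_lit 110) (Steps.bwd (nat_lit 3) (Steps.bwd (nat_lit 3) (Steps.bwd (nat_lit 15) (Steps.bwd (nat_lit 16) (Steps.fwd (nat_lit 73728) (Steps.fwd (nat_lit 131072) Steps.nil)))))) (nat_lit 65) (nat_lit 0),
  Rule.mk (nat_lit 10) (nat_lit 110) (Steps.fwd (nat_lit 73728) (Steps.fwd (nat_lit 90112) (Steps.fwd (nat_lit 24576) (Steps.bwd (nat_lit 15) (Steps.fwd (nat_lit 24576) (Steps.bwd (nat_lit 9) Steps.nil)))))) (nat_lit 60) (nat_lit 2),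
  Rule.mk (nat_lit 15) (nat_lit 158) (Steps.fwd (nat_lit 73728) (Steps.bwd (nat_lit 3) (Steps.fwd (nat_lit 32768) (Steps.fwd (nat_lit 16384) (Steps.bwd (nat_lit 12) (Steps.bwd (nat_lit 11) (Steps.bwd (nat_lit 17) (Steps.fwd (nat_lit 8192) (Steps.bwd (nat_lit 9) Steps.nil))))))))) (nat_lit 63) (nat_lit 9),
  Rule.mk (nat_lit 12) (nat_lit 190) (Steps.bwd (nat_lit 9) (Steps.fwd (nat_lit 98304) (Steps.bwd (nat_lit 9) (Steps.bwd (nat_lit 2) (Steps.bwd (nat_lit 2) (Steps.bwd (nat_lit 2) (Steps.fwd (nat_lit 114688) (Steps.bwd (nat_lit 2) (Steps.fwd (nat_lit 139264) (Steps.bwd (nat_lit 13) (Steps.bwd (nat_lit 9) Steps.nil))))))))))) (nat_lit 75) (nat_lit 9),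
  Rule.mk (nat_lit 1) (nat_lit 110) (Steps.fwd (nat_lit 131072) (Steps.bwd (nat_lit 11) (Steps.fwd (nat_lit 122880) (Steps.fwd (nat_lit 122880) (Steps.fwd (nat_lit 8192) (Steps.bwd (nat_lit 14) Steps.nil)))))) (nat_lit 44) (nat_lit 3),
  Rule.mk (nat_lit 10) (nat_lit 206) (Steps.bwd (nat_lit 18) (Steps.fwd (nat_lit 131072) (Steps.bwd (nat_lit 9) (Steps.bwd (nat_lit 2) (Steps.bwd (nat_lit 2) (Steps.bwd (nat_lit 9) (Steps.bwd (nat_lit 1) (Steps.bwd (nat_lit 3) (Steps.bwd (nat_lit 3) (Steps.bwd (nat_lit 1) (Steps.bwd (nat_lit 4) (Steps.bwd (nat_lit 1) Steps.nil)))))))))))) (nat_lit 69) (nat_lit 7),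
  Rule.mk (nat_lit 16) (nat_lit 110) (Steps.fwd (nat_lit 8192) (Steps.fwd (nat_lit 114688) (Steps.bwd (nat_lit 1) (Steps.bwd (nat_lit 15) (Steps.fwd (nat_lit 114688) (Steps.bwd (nat_lit 10) Steps.nil)))))) (nat_lit 45) (nat_lit 4),
  Rule.mk (nat_lit 9) (nat_lit 110) (Steps.bwd (nat_lit 16) (Steps.bwd (nat_lit 11) (Steps.fwd (nat_lit 122880) (Steps.bwd (nat_lit 11) (Steps.fwd (nat_lit 73728) (Steps.fwd (nat_lit 155648) Steps.nil)))))) (nat_lit 66) (nat_lit 3),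
  Rule.mk (nat_lit 10) (nat_lit 110) (Steps.bwd (nat_lit 17) (Steps.fwd (nat_lit 73728) (Steps.fwd (nat_lit 147456) (Steps.bwd (nat_lit 9) (Steps.fwd (nat_lit 90112) (Steps.bwd (nat_lit 15) Steps.nil)))))) (nat_lit 67) (nat_lit 3),
  Rule.mk (nat_lit 17) (nat_lit 110) (Steps.bwd (nat_lit 17) (Steps.fwd (nat_lit 73728) (Steps.fwd (nat_lit 24576) (Steps.fwd (nat_lit 73728) (Steps.fwd (nat_lit 90112) (Steps.fwd (nat_lit 114688) Steps.nil)))))) (nat_lit 71) (nat_lit 3),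
  Rule.mk (nat_lit 14) (nat_lit 126) (Steps.bwd (nat_lit 17) (Steps.bwd (nat_lit 11) (Steps.fwd (nat_lit 81920) (Steps.fwd (nat_lit 24576) (Steps.bwd (nat_lit 14) (Steps.fwd (nat_lit 32768) (Steps.bwd (nat_lit 14) Steps.nil))))))) (nat_lit 52) (nat_lit 5),
  Rule.mk (nat_lit 14) (nat_lit 110) (Steps.bwd (nat_lit 1) (Steps.fwd (nat_lit 131072) (Steps.fwd (nat_lit 81920) (Steps.bwd (nat_lit 14) (Steps.fwd (nat_lit 122880) (Steps.bwd (nat_lit 2) Steps.nil)))))) (nat_lit 44) (nat_lit 2),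
  Rule.mk (nat_lit 16) (nat_lit 142) (Steps.bwd (nat_lit 1) (Steps.fwd (nat_lit 131072) (Steps.fwd (nat_lit 81920) (Steps.fwd (nat_lit 131072) (Steps.fwd (nat_lit 122880) (Steps.fwd (nat_lit 106496) (Steps.bwd (nat_lit 11) (Steps.fwd (nat_lit 8192) Steps.nil)))))))) (nat_lit 46) (nat_lit 2),
  Rule.mk (nat_lit 10) (nat_lit 158) (Steps.bwd (nat_lit 13) (Steps.bwd (nat_lit 2) (Steps.fwd (nat_lit 24576) (Steps.fwd (nat_lit 24576) (Steps.fwd (nat_lit 73728) (Steps.bwd (nat_lit 14) (Steps.fwd (nat_lit 73728) (Steps.bwd (nat_lit 1) (Steps.bwd (nat_lit 16) Steps.nil))))))))) (nat_lit 62) (nat_lit 6),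
  Rule.mk (nat_lit 14) (nat_lit 110) (Steps.bwd (nat_lit 14) (Steps.bwd (nat_lit 2) (Steps.fwd (nat_lit 122880) (Steps.fwd (nat_lit 16384) (Steps.fwd (nat_lit 131072) (Steps.bwd (nat_lit 11) Steps.nil)))))) (nat_lit 44) (nat_lit 6),
  Rule.mk (nat_lit 4) (nat_lit 110) (Steps.bwd (nat_lit 15) (Steps.bwd (nat_lit 4) (Steps.fwd (nat_lit 73728) (Steps.bwd (nat_lit 10) (Steps.fwd (nat_lit 73728) (Steps.fwd (nat_lit 90112) Steps.nil)))))) (nat_lit 60) (nat_lit 5),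
  Rule.mk (nat_lit 16) (nat_lit 126) (Steps.bwd (nat_lit 15) (Steps.fwd (nat_lit 98304) (Steps.bwd (nat_lit 4) (Steps.bwd (nat_lit 12) (Steps.bwd (nat_lit 3) (Steps.bwd (nat_lit 16) (Steps.bwd (nat_lit 10) Steps.nil))))))) (nat_lit 50) (nat_lit 6),
  Rule.mk (nat_lit 9) (nat_lit 110) (Steps.fwd (nat_lit 131072) (Steps.fwd (nat_lit 122880) (Steps.fwd (nat_lit 24576) (Steps.bwd (nat_lit 4) (Steps.bwd (nat_lit 9) (Steps.bwd (nat_lit 16) Steps.nil)))))) (nat_lit 64) (nat_lit 3),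
  Rule.mk (nat_lit 11) (nat_lit 110) (Steps.fwd (nat_lit 122880) (Steps.bwd (nat_lit 11) (Steps.bwd (nat_lit 9) (Steps.fwd (nat_lit 155648) (Steps.bwd (nat_lit 9) (Steps.bwd (nat_lit 16) Steps.nil)))))) (nat_lit 66) (nat_lit 5),
  Rule.mk (nat_lit 1) (nat_lit 286) (Steps.bwd (nat_lit 11) (Steps.bwd (nat_lit 2) (Steps.bwd (nat_lit 10) (Steps.fwd (nat_lit 16384) (Steps.bwd (nat_lit 3) (Steps.bwd (nat_lit 3) (Steps.fwd (nat_lit 73728) (Steps.fwd (nat_lit 57344) (Steps.fwd (nat_lit 81920) (Steps.fwd (nat_lit 57344) (Steps.fwd (nat_lit 32768) (Steps.fwd (nat_lit 8192) (Steps.bwd (nat_lit 4) (Steps.bwd (nat_lit 11) (Steps.fwd (nat_lit 57344) (Steps.bwd (nat_lit 2) (Steps.bwd (nat_lit 11) Steps.nil))))))))))))))))) (nat_lit 56) (nat_lit 12),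
  Rule.mk (nat_lit 8) (nat_lit 286) (Steps.bwd (nat_lit 11) (Steps.fwd (nat_lit 57344) (Steps.bwd (nat_lit 3) (Steps.bwd (nat_lit 2) (Steps.fwd (nat_lit 24576) (Steps.bwd (nat_lit 11) (Steps.bwd (nat_lit 8) (Steps.fwd (nat_lit 8192) (Steps.fwd (nat_lit 81920) (Steps.bwd (nat_lit 1) (Steps.fwd (nat_lit 81920) (Steps.bwd (nat_lit 2) (Steps.fwd (nat_lit 90112) (Steps.bwd (nat_lit 1) (Steps.bwd (nat_lit 3) (Steps.fwd (nat_lit 32768) (Steps.fwd (nat_lit 73728) Steps.nil))))))))))))))))) (nat_lit 56) (nat_lit 2),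
  Rule.mk (nat_lit 7) (nat_lit 126) (Steps.fwd (nat_lit 155648) (Steps.fwd (nat_lit 8192) (Steps.fwd (nat_lit 8192) (Steps.bwd (nat_lit 7) (Steps.fwd (nat_lit 155648) (Steps.fwd (nat_lit 65536) (Steps.bwd (nat_lit 19) Steps.nil))))))) (nat_lit 86) (nat_lit 5),
  Rule.mk (nat_lit 8) (nat_lit 286) (Steps.bwd (nat_lit 3) (Steps.fwd (nat_lit 8192) (Steps.fwd (nat_lit 24576) (Steps.bwd (nat_lit 11) (Steps.bwd (nat_lit 8) (Steps.fwd (nat_lit 8192) (Steps.bwd (nat_lit 11) (Steps.fwd (nat_lit 16384) (Steps.fwd (nat_lit 81920) (Steps.bwd (nat_lit 2) (Steps.fwd (nat_lit 90112) (Steps.fwd (nat_lit 16384) (Steps.fwd (nat_lit 32768) (Steps.fwd (nat_lit 32768) (Steps.bwd (nat_lit 9) (Steps.bwd (nat_lit 8) (Steps.fwd (nat_lit 81920) Steps.nil))))))))))))))))) (nat_lit 56) (nat_lit 4),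
  Rule.mk (nat_lit 1) (nat_lit 94) (Steps.fwd (nat_lit 16384) (Steps.bwd (nat_lit 1) (Steps.bwd (nat_lit 8) (Steps.bwd (nat_lit 2) (Steps.fwd (nat_lit 65536) Steps.nil))))) (nat_lit 83) (nat_lit 1),
  Rule.mk (nat_lit 14) (nat_lit 190) (Steps.bwd (nat_lit 1) (Steps.fwd (nat_lit 16384) (Steps.bwd (nat_lit 1) (Steps.bwd (nat_lit 9) (Steps.bwd (nat_lit 12) (Steps.bwd (nat_lit 9) (Steps.bwd (nat_lit 13) (Steps.bwd (nat_lit 9) (Steps.bwd (nat_lit 12) (Steps.bwd (nat_lit 17) (Steps.bwd (nat_lit 1) Steps.nil))))))))))) (nat_lit 74) (nat_lit 9),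
  Rule.mk (nat_lit 10) (nat_lit 94) (Steps.fwd (nat_lit 147456) (Steps.bwd (nat_lit 19) (Steps.bwd (nat_lit 15) (Steps.fwd (nat_lit 81920) (Steps.bwd (nat_lit 14) Steps.nil))))) (nat_lit 33) (nat_lit 0),
  Rule.mk (nat_lit 9) (nat_lit 110) (Steps.bwd (nat_lit 10) (Steps.bwd (nat_lit 4) (Steps.fwd (nat_lit 114688) (Steps.bwd (nat_lit 4) (Steps.fwd (nat_lit 73728) (Steps.fwd (nat_lit 90112) Steps.nil)))))) (nat_lit 60) (nat_lit 3),
  Rule.mk (nat_lit 15) (nat_lit 142) (Steps.bwd (nat_lit 16) (Steps.fwd (nat_lit 90112) (Steps.fwd (nat_lit 139264) (Steps.bwd (nat_lit 2) (Steps.fwd (nat_lit 131072) (Steps.fwd (nat_lit 16384) (Steps.bwd (nat_lit 10) (Steps.bwd (nat_lit 13) Steps.nil)))))))) (nat_lit 47) (nat_lit 3),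
  Rule.mk (nat_lit 15) (nat_lit 126) (Steps.bwd (nat_lit 13) (Steps.bwd (nat_lit 4) (Steps.bwd (nat_lit 12) (Steps.fwd (nat_lit 32768) (Steps.fwd (nat_lit 139264) (Steps.bwd (nat_lit 10) (Steps.bwd (nat_lit 16) Steps.nil))))))) (nat_lit 50) (nat_lit 7),
  Rule.mk (nat_lit 9) (nat_lit 158) (Steps.bwd (nat_lit 3) (Steps.fwd (nat_lit 32768) (Steps.fwd (nat_lit 16384) (Steps.bwd (nat_lit 12) (Steps.bwd (nat_lit 11) (Steps.bwd (nat_lit 17) (Steps.bwd (nat_lit 2) (Steps.fwd (nat_lit 73728) (Steps.bwd (nat_lit 15) Steps.nil))))))))) (nat_lit 63) (nat_lit 0),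
  Rule.mk (nat_lit 4) (nat_lit 110) (Steps.bwd (nat_lit 9) (Steps.fwd (nat_lit 90112) (Steps.fwd (nat_lit 73728) (Steps.bwd (nat_lit 10) (Steps.bwd (nat_lit 4) (Steps.fwd (nat_lit 114688) Steps.nil)))))) (nat_lit 60) (nat_lit 0),
  Rule.mk (nat_lit 15) (nat_lit 126) (Steps.bwd (nat_lit 3) (Steps.fwd (nat_lit 90112) (Steps.bwd (nat_lit 10) (Steps.fwd (nat_lit 139264) (Steps.bwd (nat_lit 15) (Steps.fwd (nat_lit 114688) (Steps.bwd (nat_lit 4) Steps.nil))))))) (nat_lit 53) (nat_lit 7),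
  Rule.mk (nat_lit 2) (nat_lit 94) (Steps.bwd (nat_lit 7) (Steps.bwd (nat_lit 1) (Steps.fwd (nat_lit 16384) (Steps.fwd (nat_lit 16384) (Steps.fwd (nat_lit 57344) Steps.nil))))) (nat_lit 83) (nat_lit 5),
  Rule.mk (nat_lit 9) (nat_lit 270) (Steps.bwd (nat_lit 2) (Steps.bwd (nat_lit 9) (Steps.fwd (nat_lit 8192) (Steps.fwd (nat_lit 155648) (Steps.bwd (nat_lit 16) (Steps.bwd (nat_lit 10) (Steps.bwd (nat_lit 3) (Steps.bwd (nat_lit 1) (Steps.bwd (nat_lit 4) (Steps.fwd (nat_lit 24576) (Steps.fwd (nat_lit 8192) (Steps.fwd (nat_lit 65536) (Steps.bwd (nat_lit 9) (Steps.bwd (nat_lit 4) (Steps.fwd (nat_lit 106496) (Steps.fwd (nat_lit 8192) Steps.nil)))))))))))))))) (nat_lit 76) (nat_lit 6)]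
noncomputable def R_84 : List (Rule) := [Rule.mk (nat_lit 2) (nat_lit 94) (Steps.bwd (nat_lit 7) (Steps.fwd (nat_lit 65536) (Steps.bwd (nat_lit 2) (Steps.fwd (nat_lit 8192) (Steps.fwd (nat_lit 8192) Steps.nil))))) (nat_lit 78) (nat_lit 0),
  Rule.mk (nat_lit 18) (nat_lit 126) (Steps.bwd (nat_lit 7) (Steps.fwd (nat_lit 147456) (Steps.bwd (nat_lit 7) (Steps.fwd (nat_lit 155648) (Steps.bwd (nat_lit 2) (Steps.bwd (nat_lit 2) (Steps.fwd (nat_lit 65536) Steps.nil))))))) (nat_lit 86) (nat_lit 2),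
  Rule.mk (nat_lit 18) (nat_lit 78) (Steps.fwd (nat_lit 8192) (Steps.fwd (nat_lit 147456) (Steps.bwd (nat_lit 1) (Steps.bwd (nat_lit 18) Steps.nil)))) (nat_lit 49) (nat_lit 2),
  Rule.mk (nat_lit 10) (nat_lit 286) (Steps.bwd (nat_lit 1) (Steps.fwd (nat_lit 32768) (Steps.bwd (nat_lit 3) (Steps.bwd (nat_lit 9) (Steps.fwd (nat_lit 57344) (Steps.fwd (nat_lit 81920) (Steps.bwd (nat_lit 8) (Steps.fwd (nat_lit 32768) (Steps.bwd (nat_lit 2) (Steps.bwd (nat_lit 4) (Steps.bwd (nat_lit 11) (Steps.fwd (nat_lit 57344) (Steps.fwd (nat_lit 8192) (Steps.fwd (nat_lit 81920) (Steps.fwd (nat_lit 16384) (Steps.fwd (nat_lit 81920) (Steps.fwd (nat_lit 8192) Steps.nil))))))))))))))))) (nat_lit 56) (nat_lit 15),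
  Rule.mk (nat_lit 9) (nat_lit 110) (Steps.bwd (nat_lit 19) (Steps.fwd (nat_lit 73728) (Steps.bwd (nat_lit 10) (Steps.fwd (nat_lit 114688) (Steps.fwd (nat_lit 90112) (Steps.fwd (nat_lit 131072) Steps.nil)))))) (nat_lit 67) (nat_lit 5),
  Rule.mk (nat_lit 2) (nat_lit 94) (Steps.bwd (nat_lit 3) (Steps.bwd (nat_lit 1) (Steps.fwd (nat_lit 16384) (Steps.bwd (nat_lit 4) (Steps.fwd (nat_lit 8192) Steps.nil))))) (nat_lit 7) (nat_lit 3),
  Rule.mk (nat_lit 1) (nat_lit 126) (Steps.bwd (nat_lit 3) (Steps.bwd (nat_lit 1) (Steps.bwd (nat_lit 3) (Steps.fwd (nat_lit 16384) (Steps.fwd (nat_lit 32768) (Steps.bwd (nat_lit 1) (Steps.bwd (nat_lit 3) Steps.nil))))))) (nat_lit 4) (nat_lit 1),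
  Rule.mk (nat_lit 3) (nat_lit 206) (Steps.bwd (nat_lit 3) (Steps.bwd (nat_lit 1) (Steps.fwd (nat_lit 24576) (Steps.fwd (nat_lit 16384) (Steps.bwd (nat_lit 10) (Steps.bwd (nat_lit 18) (Steps.fwd (nat_lit 131072) (Steps.bwd (nat_lit 9) (Steps.fwd (nat_lit 8192) (Steps.fwd (nat_lit 8192) (Steps.fwd (nat_lit 73728) (Steps.bwd (nat_lit 1) Steps.nil)))))))))))) (nat_lit 69) (nat_lit 2),
  Rule.mk (nat_lit 10) (nat_lit 110) (Steps.bwd (nat_lit 15) (Steps.bwd (nat_lit 17) (Steps.fwd (nat_lit 131072) (Steps.bwd (nat_lit 9) (Steps.fwd (nat_lit 24576) (Steps.fwd (nat_lit 73728) Steps.nil)))))) (nat_lit 71) (nat_lit 1),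
  Rule.mk (nat_lit 9) (nat_lit 110) (Steps.bwd (nat_lit 16) (Steps.bwd (nat_lit 11) (Steps.bwd (nat_lit 14) (Steps.bwd (nat_lit 11) (Steps.fwd (nat_lit 73728) (Steps.bwd (nat_lit 18) Steps.nil)))))) (nat_lit 66) (nat_lit 3),
  Rule.mk (nat_lit 2) (nat_lit 94) (Steps.fwd (nat_lit 8192) (Steps.fwd (nat_lit 24576) (Steps.fwd (nat_lit 16384) (Steps.fwd (nat_lit 16384) (Steps.bwd (nat_lit 3) Steps.nil))))) (nat_lit 6) (nat_lit 1),
  Rule.mk (nat_lit 16) (nat_lit 126) (Steps.fwd (nat_lit 90112) (Steps.bwd (nat_lit 16) (Steps.bwd (nat_lit 15) (Steps.fwd (nat_lit 98304) (Steps.bwd (nat_lit 4) (Steps.fwd (nat_lit 106496) (Steps.bwd (nat_lit 3) Steps.nil))))))) (nat_lit 50) (nat_lit 4),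
  Rule.mk (nat_lit 10) (nat_lit 126) (Steps.fwd (nat_lit 90112) (Steps.fwd (nat_lit 139264) (Steps.bwd (nat_lit 15) (Steps.fwd (nat_lit 114688) (Steps.bwd (nat_lit 4) (Steps.bwd (nat_lit 15) (Steps.bwd (nat_lit 3) Steps.nil))))))) (nat_lit 53) (nat_lit 1),
  Rule.mk (nat_lit 9) (nat_lit 110) (Steps.bwd (nat_lit 10) (Steps.fwd (nat_lit 73728) (Steps.bwd (nat_lit 10) (Steps.bwd (nat_lit 4) (Steps.bwd (nat_lit 15) (Steps.bwd (nat_lit 4) Steps.nil)))))) (nat_lit 60) (nat_lit 1),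
  Rule.mk (nat_lit 16) (nat_lit 270) (Steps.bwd (nat_lit 10) (Steps.fwd (nat_lit 32768) (Steps.fwd (nat_lit 16384) (Steps.bwd (nat_lit 4) (Steps.fwd (nat_lit 24576) (Steps.bwd (nat_lit 2) (Steps.fwd (nat_lit 65536) (Steps.bwd (nat_lit 9) (Steps.fwd (nat_lit 24576) (Steps.bwd (nat_lit 12) (Steps.fwd (nat_lit 8192) (Steps.fwd (nat_lit 73728) (Steps.bwd (nat_lit 2) (Steps.bwd (nat_lit 9) (Steps.fwd (nat_lit 8192) (Steps.fwd (nat_lit 155648) Steps.nil)))))))))))))))) (nat_lit 76) (nat_lit 11),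
  Rule.mk (nat_lit 7) (nat_lit 94) (Steps.bwd (nat_lit 2) (Steps.fwd (nat_lit 8192) (Steps.bwd (nat_lit 2) (Steps.bwd (nat_lit 8) (Steps.fwd (nat_lit 16384) Steps.nil))))) (nat_lit 82) (nat_lit 3),
  Rule.mk (nat_lit 7) (nat_lit 126) (Steps.fwd (nat_lit 147456) (Steps.fwd (nat_lit 65536) (Steps.bwd (nat_lit 18) (Steps.bwd (nat_lit 2) (Steps.fwd (nat_lit 8192) (Steps.bwd (nat_lit 7) (Steps.fwd (nat_lit 155648) Steps.nil))))))) (nat_lit 86) (nat_lit 3),
  Rule.mk (nat_lit 9) (nat_lit 190) (Steps.bwd (nat_lit 13) (Steps.bwd (nat_lit 9) (Steps.fwd (nat_lit 106496) (Steps.bwd (nat_lit 17) (Steps.fwd (nat_lit 16384) (Steps.fwd (nat_lit 122880) (Steps.bwd (nat_lit 1) (Steps.bwd (nat_lit 1) (Steps.fwd (nat_lit 16384) (Steps.fwd (nat_lit 73728) (Steps.bwd (nat_lit 12) Steps.nil))))))))))) (nat_lit 74) (nat_lit 3),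
  Rule.mk (nat_lit 4) (nat_lit 110) (Steps.bwd (nat_lit 9) (Steps.fwd (nat_lit 90112) (Steps.bwd (nat_lit 15) (Steps.fwd (nat_lit 131072) (Steps.fwd (nat_lit 131072) (Steps.bwd (nat_lit 9) Steps.nil)))))) (nat_lit 71) (nat_lit 6),
  Rule.mk (nat_lit 2) (nat_lit 126) (Steps.bwd (nat_lit 4) (Steps.fwd (nat_lit 8192) (Steps.bwd (nat_lit 4) (Steps.bwd (nat_lit 2) (Steps.bwd (nat_lit 4) (Steps.fwd (nat_lit 8192) (Steps.bwd (nat_lit 4) Steps.nil))))))) (nat_lit 5) (nat_lit 0),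
  Rule.mk (nat_lit 16) (nat_lit 206) (Steps.bwd (nat_lit 19) (Steps.fwd (nat_lit 81920) (Steps.bwd (nat_lit 2) (Steps.bwd (nat_lit 3) (Steps.fwd (nat_lit 8192) (Steps.bwd (nat_lit 4) (Steps.fwd (nat_lit 24576) (Steps.fwd (nat_lit 8192) (Steps.bwd (nat_lit 9) (Steps.bwd (nat_lit 1) (Steps.fwd (nat_lit 16384) (Steps.fwd (nat_lit 73728) Steps.nil)))))))))))) (nat_lit 68) (nat_lit 5),
  Rule.mk (nat_lit 9) (nat_lit 206) (Steps.bwd (nat_lit 1) (Steps.bwd (nat_lit 1) (Steps.fwd (nat_lit 73728) (Steps.bwd (nat_lit 16) (Steps.fwd (nat_lit 147456) (Steps.fwd (nat_lit 81920) (Steps.fwd (nat_lit 8192) (Steps.bwd (nat_lit 3) (Steps.fwd (nat_lit 8192) (Steps.bwd (nat_lit 4) (Steps.bwd (nat_lit 4) (Steps.bwd (nat_lit 2) Steps.nil)))))))))))) (nat_lit 68) (nat_lit 1),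
  Rule.mk (nat_lit 15) (nat_lit 158) (Steps.bwd (nat_lit 9) (Steps.fwd (nat_lit 32768) (Steps.fwd (nat_lit 32768) (Steps.bwd (nat_lit 1) (Steps.fwd (nat_lit 106496) (Steps.bwd (nat_lit 11) (Steps.fwd (nat_lit 131072) (Steps.fwd (nat_lit 8192) (Steps.bwd (nat_lit 9) Steps.nil))))))))) (nat_lit 63) (nat_lit 9),
  Rule.mk (nat_lit 13) (nat_lit 190) (Steps.bwd (nat_lit 9) (Steps.bwd (nat_lit 12) (Steps.fwd (nat_lit 131072) (Steps.bwd (nat_lit 1) (Steps.bwd (nat_lit 14) (Steps.bwd (nat_lit 1) (Steps.bwd (nat_lit 1) (Steps.fwd (nat_lit 16384) (Steps.fwd (nat_lit 73728) (Steps.fwd (nat_lit 106496) (Steps.bwd (nat_lit 9) Steps.nil))))))))))) (nat_lit 74) (nat_lit 4),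
  Rule.mk (nat_lit 1) (nat_lit 206) (Steps.bwd (nat_lit 9) (Steps.bwd (nat_lit 16) (Steps.bwd (nat_lit 19) (Steps.fwd (nat_lit 81920) (Steps.fwd (nat_lit 8192) (Steps.bwd (nat_lit 2) (Steps.fwd (nat_lit 73728) (Steps.fwd (nat_lit 16384) (Steps.bwd (nat_lit 3) (Steps.fwd (nat_lit 32768) (Steps.fwd (nat_lit 16384) (Steps.fwd (nat_lit 24576) Steps.nil)))))))))))) (nat_lit 72) (nat_lit 7),
  Rule.mk (nat_lit 14) (nat_lit 190) (Steps.bwd (nat_lit 1) (Steps.bwd (nat_lit 1) (Steps.bwd (nat_lit 1) (Steps.fwd (nat_lit 73728) (Steps.fwd (nat_lit 106496) (Steps.fwd (nat_lit 73728) (Steps.bwd (nat_lit 13) (Steps.bwd (nat_lit 9) (Steps.fwd (nat_lit 106496) (Steps.fwd (nat_lit 131072) (Steps.bwd (nat_lit 1) Steps.nil))))))))))) (nat_lit 74) (nat_lit 9),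
  Rule.mk (nat_lit 9) (nat_lit 270) (Steps.fwd (nat_lit 16384) (Steps.fwd (nat_lit 98304) (Steps.bwd (nat_lit 3) (Steps.fwd (nat_lit 73728) (Steps.fwd (nat_lit 57344) (Steps.bwd (nat_lit 1) (Steps.bwd (nat_lit 3) (Steps.bwd (nat_lit 3) (Steps.bwd (nat_lit 2) (Steps.fwd (nat_lit 24576) (Steps.fwd (nat_lit 81920) (Steps.fwd (nat_lit 131072) (Steps.fwd (nat_lit 147456) (Steps.bwd (nat_lit 1) (Steps.fwd (nat_lit 73728) (Steps.fwd (nat_lit 16384) Steps.nil)))))))))))))))) (nat_lit 77) (nat_lit 12),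
  Rule.mk (nat_lit 9) (nat_lit 270) (Steps.bwd (nat_lit 2) (Steps.bwd (nat_lit 9) (Steps.fwd (nat_lit 8192) (Steps.fwd (nat_lit 155648) (Steps.bwd (nat_lit 16) (Steps.bwd (nat_lit 10) (Steps.bwd (nat_lit 3) (Steps.bwd (nat_lit 1) (Steps.fwd (nat_lit 24576) (Steps.bwd (nat_lit 4) (Steps.fwd (nat_lit 8192) (Steps.fwd (nat_lit 65536) (Steps.fwd (nat_lit 73728) (Steps.bwd (nat_lit 4) (Steps.fwd (nat_lit 106496) (Steps.fwd (nat_lit 8192) Steps.nil)))))))))))))))) (nat_lit 76) (nat_lit 6),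
  Rule.mk (nat_lit 9) (nat_lit 206) (Steps.fwd (nat_lit 16384) (Steps.fwd (nat_lit 32768) (Steps.fwd (nat_lit 32768) (Steps.fwd (nat_lit 16384) (Steps.fwd (nat_lit 24576) (Steps.fwd (nat_lit 16384) (Steps.fwd (nat_lit 73728) (Steps.bwd (nat_lit 16) (Steps.fwd (nat_lit 147456) (Steps.bwd (nat_lit 11) (Steps.bwd (nat_lit 2) (Steps.bwd (nat_lit 2) Steps.nil)))))))))))) (nat_lit 72) (nat_lit 1),
  Rule.mk (nat_lit 3) (nat_lit 126) (Steps.bwd (nat_lit 1) (Steps.fwd (nat_lit 32768) (Steps.bwd (nat_lit 1) (Steps.fwd (nat_lit 32768) (Steps.fwd (nat_lit 16384) (Steps.fwd (nat_lit 32768) (Steps.bwd (nat_lit 1) Steps.nil))))))) (nat_lit 4) (nat_lit 0),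
  Rule.mk (nat_lit 8) (nat_lit 126) (Steps.bwd (nat_lit 18) (Steps.fwd (nat_lit 57344) (Steps.bwd (nat_lit 19) (Steps.bwd (nat_lit 8) (Steps.bwd (nat_lit 1) (Steps.fwd (nat_lit 16384) (Steps.bwd (nat_lit 19) Steps.nil))))))) (nat_lit 87) (nat_lit 4),
  Rule.mk (nat_lit 14) (nat_lit 110) (Steps.fwd (nat_lit 8192) (Steps.bwd (nat_lit 14) (Steps.bwd (nat_lit 1) (Steps.fwd (nat_lit 131072) (Steps.fwd (nat_lit 81920) (Steps.bwd (nat_lit 14) Steps.nil)))))) (nat_lit 44) (nat_lit 0),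
  Rule.mk (nat_lit 17) (nat_lit 126) (Steps.bwd (nat_lit 11) (Steps.bwd (nat_lit 17) (Steps.bwd (nat_lit 4) (Steps.bwd (nat_lit 13) (Steps.fwd (nat_lit 32768) (Steps.bwd (nat_lit 12) (Steps.bwd (nat_lit 14) Steps.nil))))))) (nat_lit 51) (nat_lit 3),
  Rule.mk (nat_lit 15) (nat_lit 110) (Steps.fwd (nat_lit 16384) (Steps.bwd (nat_lit 15) (Steps.fwd (nat_lit 114688) (Steps.bwd (nat_lit 10) (Steps.bwd (nat_lit 16) (Steps.bwd (nat_lit 2) Steps.nil)))))) (nat_lit 45) (nat_lit 6),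
  Rule.mk (nat_lit 16) (nat_lit 142) (Steps.bwd (nat_lit 1) (Steps.fwd (nat_lit 131072) (Steps.bwd (nat_lit 11) (Steps.fwd (nat_lit 131072) (Steps.fwd (nat_lit 122880) (Steps.fwd (nat_lit 106496) (Steps.fwd (nat_lit 81920) (Steps.bwd (nat_lit 2) Steps.nil)))))))) (nat_lit 46) (nat_lit 2),
  Rule.mk (nat_lit 14) (nat_lit 158) (Steps.bwd (nat_lit 9) (Steps.fwd (nat_lit 16384) (Steps.fwd (nat_lit 139264) (Steps.bwd (nat_lit 10) (Steps.bwd (nat_lit 13) (Steps.fwd (nat_lit 8192) (Steps.bwd (nat_lit 4) (Steps.fwd (nat_lit 24576) (Steps.bwd (nat_lit 9) Steps.nil))))))))) (nat_lit 62) (nat_lit 2),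
  Rule.mk (nat_lit 13) (nat_lit 190) (Steps.bwd (nat_lit 9) (Steps.fwd (nat_lit 8192) (Steps.fwd (nat_lit 8192) (Steps.bwd (nat_lit 2) (Steps.bwd (nat_lit 15) (Steps.bwd (nat_lit 2) (Steps.bwd (nat_lit 16) (Steps.bwd (nat_lit 13) (Steps.bwd (nat_lit 9) (Steps.bwd (nat_lit 12) (Steps.fwd (nat_lit 73728) Steps.nil))))))))))) (nat_lit 75) (nat_lit 11),
  Rule.mk (nat_lit 14) (nat_lit 158) (Steps.bwd (nat_lit 9) (Steps.bwd (nat_lit 1) (Steps.bwd (nat_lit 16) (Steps.bwd (nat_lit 10) (Steps.fwd (nat_lit 98304) (Steps.fwd (nat_lit 8192) (Steps.fwd (nat_lit 24576) (Steps.bwd (nat_lit 4) (Steps.bwd (nat_lit 9) Steps.nil))))))))) (nat_lit 62) (nat_lit 2),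
  Rule.mk (nat_lit 1) (nat_lit 206) (Steps.bwd (nat_lit 9) (Steps.bwd (nat_lit 16) (Steps.fwd (nat_lit 147456) (Steps.fwd (nat_lit 81920) (Steps.bwd (nat_lit 2) (Steps.fwd (nat_lit 32768) (Steps.fwd (nat_lit 8192) (Steps.bwd (nat_lit 4) (Steps.fwd (nat_lit 24576) (Steps.fwd (nat_lit 8192) (Steps.bwd (nat_lit 9) (Steps.fwd (nat_lit 16384) Steps.nil)))))))))))) (nat_lit 68) (nat_lit 3),
  Rule.mk (nat_lit 1) (nat_lit 110) (Steps.bwd (nat_lit 17) (Steps.fwd (nat_lit 81920) (Steps.bwd (nat_lit 14) (Steps.bwd (nat_lit 14) (Steps.fwd (nat_lit 8192) (Steps.bwd (nat_lit 14) Steps.nil)))))) (nat_lit 44) (nat_lit 3),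
  Rule.mk (nat_lit 10) (nat_lit 110) (Steps.bwd (nat_lit 17) (Steps.bwd (nat_lit 9) (Steps.fwd (nat_lit 147456) (Steps.bwd (nat_lit 9) (Steps.bwd (nat_lit 10) (Steps.bwd (nat_lit 15) Steps.nil)))))) (nat_lit 67) (nat_lit 3),
  Rule.mk (nat_lit 15) (nat_lit 110) (Steps.bwd (nat_lit 17) (Steps.fwd (nat_lit 131072) (Steps.bwd (nat_lit 9) (Steps.bwd (nat_lit 4) (Steps.fwd (nat_lit 73728) (Steps.bwd (nat_lit 10) Steps.nil)))))) (nat_lit 71) (nat_lit 2),
  Rule.mk (nat_lit 4) (nat_lit 94) (Steps.bwd (nat_lit 1) (Steps.fwd (nat_lit 16384) (Steps.bwd (nat_lit 3) (Steps.bwd (nat_lit 2) (Steps.bwd (nat_lit 2) Steps.nil))))) (nat_lit 6) (nat_lit 3),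
  Rule.mk (nat_lit 17) (nat_lit 190) (Steps.bwd (nat_lit 1) (Steps.fwd (nat_lit 122880) (Steps.bwd (nat_lit 1) (Steps.fwd (nat_lit 16384) (Steps.bwd (nat_lit 1) (Steps.bwd (nat_lit 9) (Steps.fwd (nat_lit 106496) (Steps.fwd (nat_lit 73728) (Steps.bwd (nat_lit 13) (Steps.fwd (nat_lit 73728) (Steps.bwd (nat_lit 12) Steps.nil))))))))))) (nat_lit 74) (nat_lit 7),
  Rule.mk (nat_lit 16) (nat_lit 126) (Steps.bwd (nat_lit 10) (Steps.fwd (nat_lit 139264) (Steps.fwd (nat_lit 114688) (Steps.fwd (nat_lit 98304) (Steps.fwd (nat_lit 24576) (Steps.fwd (nat_lit 106496) (Steps.bwd (nat_lit 3) Steps.nil))))))) (nat_lit 50) (nat_lit 4),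
  Rule.mk (nat_lit 10) (nat_lit 126) (Steps.fwd (nat_lit 90112) (Steps.bwd (nat_lit 16) (Steps.bwd (nat_lit 15) (Steps.bwd (nat_lit 15) (Steps.fwd (nat_lit 24576) (Steps.bwd (nat_lit 15) (Steps.bwd (nat_lit 3) Steps.nil))))))) (nat_lit 53) (nat_lit 1),
  Rule.mk (nat_lit 10) (nat_lit 142) (Steps.bwd (nat_lit 13) (Steps.bwd (nat_lit 15) (Steps.bwd (nat_lit 16) (Steps.fwd (nat_lit 90112) (Steps.bwd (nat_lit 16) (Steps.fwd (nat_lit 8192) (Steps.bwd (nat_lit 17) (Steps.bwd (nat_lit 1) Steps.nil)))))))) (nat_lit 47) (nat_lit 1),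
  Rule.mk (nat_lit 9) (nat_lit 110) (Steps.fwd (nat_lit 32768) (Steps.bwd (nat_lit 3) (Steps.bwd (nat_lit 15) (Steps.fwd (nat_lit 139264) (Steps.fwd (nat_lit 73728) (Steps.bwd (nat_lit 17) Steps.nil)))))) (nat_lit 65) (nat_lit 0),
  Rule.mk (nat_lit 16) (nat_lit 94) (Steps.bwd (nat_lit 10) (Steps.fwd (nat_lit 155648) (Steps.bwd (nat_lit 18) (Steps.fwd (nat_lit 131072) (Steps.fwd (nat_lit 81920) Steps.nil))))) (nat_lit 35) (nat_lit 5),
  Rule.mk (nat_lit 1) (nat_lit 142) (Steps.bwd (nat_lit 10) (Steps.bwd (nat_lit 13) (Steps.fwd (nat_lit 114688) (Steps.bwd (nat_lit 16) (Steps.fwd (nat_lit 90112) (Steps.fwd (nat_lit 139264) (Steps.fwd (nat_lit 8192) (Steps.fwd (nat_lit 131072) Steps.nil)))))))) (nat_lit 47) (nat_lit 0),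
  Rule.mk (nat_lit 2) (nat_lit 142) (Steps.bwd (nat_lit 16) (Steps.fwd (nat_lit 16384) (Steps.fwd (nat_lit 131072) (Steps.fwd (nat_lit 81920) (Steps.fwd (nat_lit 131072) (Steps.fwd (nat_lit 122880) (Steps.bwd (nat_lit 12) (Steps.fwd (nat_lit 81920) Steps.nil)))))))) (nat_lit 46) (nat_lit 1),
  Rule.mk (nat_lit 2) (nat_lit 94) (Steps.fwd (nat_lit 32768) (Steps.bwd (nat_lit 1) (Steps.fwd (nat_lit 16384) (Steps.fwd (nat_lit 24576) (Steps.bwd (nat_lit 2) Steps.nil))))) (nat_lit 7) (nat_lit 3),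
  Rule.mk (nat_lit 17) (nat_lit 142) (Steps.bwd (nat_lit 1) (Steps.fwd (nat_lit 90112) (Steps.fwd (nat_lit 98304) (Steps.bwd (nat_lit 15) (Steps.bwd (nat_lit 16) (Steps.fwd (nat_lit 90112) (Steps.fwd (nat_lit 139264) (Steps.bwd (nat_lit 2) Steps.nil)))))))) (nat_lit 47) (nat_lit 8),
  Rule.mk (nat_lit 16) (nat_lit 142) (Steps.bwd (nat_lit 1) (Steps.bwd (nat_lit 17) (Steps.bwd (nat_lit 11) (Steps.fwd (nat_lit 131072) (Steps.bwd (nat_lit 14) (Steps.fwd (nat_lit 106496) (Steps.bwd (nat_lit 11) (Steps.bwd (nat_lit 2) Steps.nil)))))))) (nat_lit 46) (nat_lit 2),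
  Rule.mk (nat_lit 9) (nat_lit 270) (Steps.bwd (nat_lit 2) (Steps.fwd (nat_lit 155648) (Steps.fwd (nat_lit 139264) (Steps.bwd (nat_lit 10) (Steps.bwd (nat_lit 3) (Steps.fwd (nat_lit 16384) (Steps.bwd (nat_lit 4) (Steps.bwd (nat_lit 4) (Steps.fwd (nat_lit 8192) (Steps.bwd (nat_lit 7) (Steps.fwd (nat_lit 73728) (Steps.fwd (nat_lit 24576) (Steps.fwd (nat_lit 106496) (Steps.bwd (nat_lit 2) (Steps.bwd (nat_lit 9) (Steps.bwd (nat_lit 2) Steps.nil)))))))))))))))) (nat_lit 76) (nat_lit 8),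
  Rule.mk (nat_lit 4) (nat_lit 126) (Steps.bwd (nat_lit 12) (Steps.bwd (nat_lit 3) (Steps.fwd (nat_lit 139264) (Steps.fwd (nat_lit 90112) (Steps.fwd (nat_lit 139264) (Steps.fwd (nat_lit 114688) (Steps.bwd (nat_lit 13) Steps.nil))))))) (nat_lit 50) (nat_lit 1),
  Rule.mk (nat_lit 10) (nat_lit 110) (Steps.fwd (nat_lit 139264) (Steps.fwd (nat_lit 8192) (Steps.bwd (nat_lit 15) (Steps.bwd (nat_lit 1) (Steps.fwd (nat_lit 114688) (Steps.bwd (nat_lit 15) Steps.nil)))))) (nat_lit 45) (nat_lit 3),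
  Rule.mk (nat_lit 15) (nat_lit 110) (Steps.fwd (nat_lit 90112) (Steps.fwd (nat_lit 139264) (Steps.bwd (nat_lit 2) (Steps.fwd (nat_lit 114688) (Steps.bwd (nat_lit 1) (Steps.bwd (nat_lit 15) Steps.nil)))))) (nat_lit 45) (nat_lit 2),
  Rule.mk (nat_lit 9) (nat_lit 190) (Steps.bwd (nat_lit 13) (Steps.fwd (nat_lit 73728) (Steps.bwd (nat_lit 2) (Steps.bwd (nat_lit 2) (Steps.fwd (nat_lit 8192) (Steps.fwd (nat_lit 114688) (Steps.bwd (nat_lit 2) (Steps.bwd (nat_lit 16) (Steps.fwd (nat_lit 98304) (Steps.bwd (nat_lit 9) (Steps.bwd (nat_lit 12) Steps.nil))))))))))) (nat_lit 75) (nat_lit 10),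
  Rule.mk (nat_lit 3) (nat_lit 110) (Steps.bwd (nat_lit 14) (Steps.bwd (nat_lit 3) (Steps.bwd (nat_lit 11) (Steps.fwd (nat_lit 73728) (Steps.fwd (nat_lit 81920) (Steps.bwd (nat_lit 9) Steps.nil)))))) (nat_lit 61) (nat_lit 1),
  Rule.mk (nat_lit 9) (nat_lit 158) (Steps.bwd (nat_lit 1) (Steps.bwd (nat_lit 16) (Steps.bwd (nat_lit 10) (Steps.fwd (nat_lit 98304) (Steps.bwd (nat_lit 2) (Steps.fwd (nat_lit 24576) (Steps.fwd (nat_lit 24576) (Steps.bwd (nat_lit 9) (Steps.fwd (nat_lit 122880) Steps.nil))))))))) (nat_lit 62) (nat_lit 3),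
  Rule.mk (nat_lit 10) (nat_lit 110) (Steps.fwd (nat_lit 24576) (Steps.bwd (nat_lit 15) (Steps.fwd (nat_lit 24576) (Steps.bwd (nat_lit 9) (Steps.bwd (nat_lit 10) (Steps.bwd (nat_lit 9) Steps.nil)))))) (nat_lit 60) (nat_lit 4),
  Rule.mk (nat_lit 18) (nat_lit 126) (Steps.bwd (nat_lit 2) (Steps.fwd (nat_lit 8192) (Steps.bwd (nat_lit 7) (Steps.fwd (nat_lit 155648) (Steps.fwd (nat_lit 65536) (Steps.fwd (nat_lit 147456) (Steps.bwd (nat_lit 7) Steps.nil))))))) (nat_lit 86) (nat_lit 6),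
  Rule.mk (nat_lit 2) (nat_lit 190) (Steps.bwd (nat_lit 2) (Steps.fwd (nat_lit 8192) (Steps.fwd (nat_lit 114688) (Steps.bwd (nat_lit 2) (Steps.fwd (nat_lit 139264) (Steps.fwd (nat_lit 98304) (Steps.bwd (nat_lit 9) (Steps.bwd (nat_lit 12) (Steps.fwd (nat_lit 73728) (Steps.fwd (nat_lit 98304) (Steps.bwd (nat_lit 9) Steps.nil))))))))))) (nat_lit 75) (nat_lit 1)]
noncomputable def R_85 : List (Rule) := [Rule.mk (nat_lit 18) (nat_lit 158) (Steps.bwd (nat_lit 7) (Steps.fwd (nat_lit 155648) (Steps.bwd (nat_lit 7) (Steps.fwd (nat_lit 155648) (Steps.fwd (nat_lit 65536) (Steps.fwd (nat_lit 155648) (Steps.fwd (nat_lit 65536) (Steps.fwd (nat_lit 155648) (Steps.fwd (nat_lit 65536) Steps.nil))))))))) (nat_lit 84) (nat_lit 0),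
  Rule.mk (nat_lit 18) (nat_lit 78) (Steps.fwd (nat_lit 155648) (Steps.fwd (nat_lit 155648) (Steps.bwd (nat_lit 18) (Steps.bwd (nat_lit 18) Steps.nil)))) (nat_lit 22) (nat_lit 0),
  Rule.mk (nat_lit 15) (nat_lit 78) (Steps.fwd (nat_lit 131072) (Steps.bwd (nat_lit 14) (Steps.fwd (nat_lit 139264) (Steps.bwd (nat_lit 18) Steps.nil)))) (nat_lit 40) (nat_lit 1),
  Rule.mk (nat_lit 9) (nat_lit 110) (Steps.fwd (nat_lit 139264) (Steps.bwd (nat_lit 11) (Steps.bwd (nat_lit 14) (Steps.fwd (nat_lit 81920) (Steps.fwd (nat_lit 73728) (Steps.bwd (nat_lit 18) Steps.nil)))))) (nat_lit 66) (nat_lit 3),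
  Rule.mk (nat_lit 11) (nat_lit 110) (Steps.bwd (nat_lit 9) (Steps.bwd (nat_lit 3) (Steps.fwd (nat_lit 122880) (Steps.fwd (nat_lit 32768) (Steps.fwd (nat_lit 81920) (Steps.bwd (nat_lit 9) Steps.nil)))))) (nat_lit 61) (nat_lit 6),
  Rule.mk (nat_lit 12) (nat_lit 190) (Steps.bwd (nat_lit 9) (Steps.bwd (nat_lit 13) (Steps.bwd (nat_lit 9) (Steps.bwd (nat_lit 12) (Steps.fwd (nat_lit 131072) (Steps.bwd (nat_lit 1) (Steps.bwd (nat_lit 14) (Steps.bwd (nat_lit 1) (Steps.bwd (nat_lit 1) (Steps.bwd (nat_lit 1) (Steps.bwd (nat_lit 9) Steps.nil))))))))))) (nat_lit 74) (nat_lit 2),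
  Rule.mk (nat_lit 2) (nat_lit 206) (Steps.bwd (nat_lit 9) (Steps.fwd (nat_lit 16384) (Steps.bwd (nat_lit 1) (Steps.fwd (nat_lit 90112) (Steps.fwd (nat_lit 155648) (Steps.fwd (nat_lit 131072) (Steps.fwd (nat_lit 73728) (Steps.fwd (nat_lit 8192) (Steps.bwd (nat_lit 3) (Steps.bwd (nat_lit 2) (Steps.bwd (nat_lit 4) (Steps.fwd (nat_lit 24576) Steps.nil)))))))))))) (nat_lit 73) (nat_lit 12),
  Rule.mk (nat_lit 4) (nat_lit 206) (Steps.bwd (nat_lit 2) (Steps.bwd (nat_lit 9) (Steps.fwd (nat_lit 16384) (Steps.fwd (nat_lit 16384) (Steps.bwd (nat_lit 9) (Steps.bwd (nat_lit 16) (Steps.fwd (nat_lit 147456) (Steps.fwd (nat_lit 81920) (Steps.bwd (nat_lit 2) (Steps.fwd (nat_lit 32768) (Steps.bwd (nat_lit 2) (Steps.bwd (nat_lit 4) Steps.nil)))))))))))) (nat_lit 68) (nat_lit 12),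
  Rule.mk (nat_lit 9) (nat_lit 110) (Steps.fwd (nat_lit 90112) (Steps.bwd (nat_lit 9) (Steps.bwd (nat_lit 10) (Steps.bwd (nat_lit 4) (Steps.fwd (nat_lit 114688) (Steps.bwd (nat_lit 4) Steps.nil)))))) (nat_lit 60) (nat_lit 1),
  Rule.mk (nat_lit 15) (nat_lit 126) (Steps.fwd (nat_lit 32768) (Steps.bwd (nat_lit 10) (Steps.bwd (nat_lit 10) (Steps.bwd (nat_lit 16) (Steps.bwd (nat_lit 15) (Steps.fwd (nat_lit 114688) (Steps.bwd (nat_lit 4) Steps.nil))))))) (nat_lit 53) (nat_lit 7),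
  Rule.mk (nat_lit 4) (nat_lit 126) (Steps.bwd (nat_lit 12) (Steps.fwd (nat_lit 32768) (Steps.fwd (nat_lit 139264) (Steps.fwd (nat_lit 90112) (Steps.fwd (nat_lit 139264) (Steps.bwd (nat_lit 15) (Steps.fwd (nat_lit 98304) Steps.nil))))))) (nat_lit 50) (nat_lit 1),
  Rule.mk (nat_lit 9) (nat_lit 190) (Steps.bwd (nat_lit 12) (Steps.fwd (nat_lit 131072) (Steps.bwd (nat_lit 1) (Steps.fwd (nat_lit 122880) (Steps.fwd (nat_lit 16384) (Steps.fwd (nat_lit 16384) (Steps.fwd (nat_lit 16384) (Steps.fwd (nat_lit 73728) (Steps.bwd (nat_lit 12) (Steps.bwd (nat_lit 9) (Steps.fwd (nat_lit 98304) Steps.nil))))))))))) (nat_lit 74) (nat_lit 5),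
  Rule.mk (nat_lit 4) (nat_lit 110) (Steps.bwd (nat_lit 9) (Steps.bwd (nat_lit 10) (Steps.bwd (nat_lit 15) (Steps.bwd (nat_lit 17) (Steps.bwd (nat_lit 17) (Steps.bwd (nat_lit 9) Steps.nil)))))) (nat_lit 71) (nat_lit 6),
  Rule.mk (nat_lit 16) (nat_lit 142) (Steps.bwd (nat_lit 1) (Steps.bwd (nat_lit 17) (Steps.bwd (nat_lit 11) (Steps.bwd (nat_lit 17) (Steps.bwd (nat_lit 14) (Steps.bwd (nat_lit 12) (Steps.bwd (nat_lit 11) (Steps.fwd (nat_lit 8192) Steps.nil)))))))) (nat_lit 46) (nat_lit 2),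
  Rule.mk (nat_lit 3) (nat_lit 206) (Steps.bwd (nat_lit 1) (Steps.bwd (nat_lit 4) (Steps.fwd (nat_lit 16384) (Steps.bwd (nat_lit 10) (Steps.bwd (nat_lit 18) (Steps.fwd (nat_lit 131072) (Steps.fwd (nat_lit 73728) (Steps.fwd (nat_lit 8192) (Steps.bwd (nat_lit 2) (Steps.fwd (nat_lit 73728) (Steps.fwd (nat_lit 16384) (Steps.bwd (nat_lit 3) Steps.nil)))))))))))) (nat_lit 69) (nat_lit 3),
  Rule.mk (nat_lit 10) (nat_lit 126) (Steps.bwd (nat_lit 10) (Steps.fwd (nat_lit 139264) (Steps.bwd (nat_lit 15) (Steps.bwd (nat_lit 15) (Steps.fwd (nat_lit 24576) (Steps.fwd (nat_lit 114688) (Steps.bwd (nat_lit 3) Steps.nil))))))) (nat_lit 53) (nat_lit 1),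
  Rule.mk (nat_lit 7) (nat_lit 126) (Steps.bwd (nat_lit 19) (Steps.bwd (nat_lit 7) (Steps.bwd (nat_lit 18) (Steps.fwd (nat_lit 8192) (Steps.bwd (nat_lit 2) (Steps.fwd (nat_lit 65536) (Steps.fwd (nat_lit 155648) Steps.nil))))))) (nat_lit 86) (nat_lit 3),
  Rule.mk (nat_lit 8) (nat_lit 126) (Steps.fwd (nat_lit 147456) (Steps.fwd (nat_lit 57344) (Steps.bwd (nat_lit 1) (Steps.fwd (nat_lit 16384) (Steps.bwd (nat_lit 19) (Steps.bwd (nat_lit 8) (Steps.bwd (nat_lit 18) Steps.nil))))))) (nat_lit 87) (nat_lit 6),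
  Rule.mk (nat_lit 1) (nat_lit 110) (Steps.bwd (nat_lit 15) (Steps.bwd (nat_lit 15) (Steps.fwd (nat_lit 90112) (Steps.fwd (nat_lit 139264) (Steps.fwd (nat_lit 8192) (Steps.bwd (nat_lit 15) Steps.nil)))))) (nat_lit 45) (nat_lit 0),
  Rule.mk (nat_lit 16) (nat_lit 126) (Steps.bwd (nat_lit 15) (Steps.fwd (nat_lit 98304) (Steps.fwd (nat_lit 24576) (Steps.bwd (nat_lit 12) (Steps.bwd (nat_lit 3) (Steps.fwd (nat_lit 139264) (Steps.fwd (nat_lit 90112) Steps.nil))))))) (nat_lit 50) (nat_lit 6),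
  Rule.mk (nat_lit 7) (nat_lit 126) (Steps.fwd (nat_lit 147456) (Steps.bwd (nat_lit 7) (Steps.bwd (nat_lit 18) (Steps.fwd (nat_lit 8192) (Steps.bwd (nat_lit 2) (Steps.bwd (nat_lit 7) (Steps.bwd (nat_lit 18) Steps.nil))))))) (nat_lit 86) (nat_lit 3),
  Rule.mk (nat_lit 15) (nat_lit 110) (Steps.bwd (nat_lit 4) (Steps.bwd (nat_lit 9) (Steps.bwd (nat_lit 10) (Steps.fwd (nat_lit 73728) (Steps.bwd (nat_lit 10) (Steps.fwd (nat_lit 24576) Steps.nil)))))) (nat_lit 60) (nat_lit 6),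
  Rule.mk (nat_lit 9) (nat_lit 110) (Steps.bwd (nat_lit 4) (Steps.bwd (nat_lit 9) (Steps.fwd (nat_lit 90112) (Steps.fwd (nat_lit 114688) (Steps.bwd (nat_lit 17) (Steps.bwd (nat_lit 17) Steps.nil)))))) (nat_lit 71) (nat_lit 5),
  Rule.mk (nat_lit 9) (nat_lit 158) (Steps.fwd (nat_lit 114688) (Steps.fwd (nat_lit 73728) (Steps.bwd (nat_lit 3) (Steps.fwd (nat_lit 32768) (Steps.bwd (nat_lit 1) (Steps.fwd (nat_lit 106496) (Steps.fwd (nat_lit 81920) (Steps.fwd (nat_lit 131072) (Steps.bwd (nat_lit 2) Steps.nil))))))))) (nat_lit 63) (nat_lit 8),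
  Rule.mk (nat_lit 8) (nat_lit 126) (Steps.bwd (nat_lit 19) (Steps.bwd (nat_lit 8) (Steps.bwd (nat_lit 1) (Steps.fwd (nat_lit 16384) (Steps.bwd (nat_lit 19) (Steps.fwd (nat_lit 57344) (Steps.fwd (nat_lit 155648) Steps.nil))))))) (nat_lit 87) (nat_lit 6),
  Rule.mk (nat_lit 13) (nat_lit 126) (Steps.bwd (nat_lit 3) (Steps.bwd (nat_lit 12) (Steps.bwd (nat_lit 14) (Steps.fwd (nat_lit 131072) (Steps.bwd (nat_lit 11) (Steps.bwd (nat_lit 17) (Steps.bwd (nat_lit 4) Steps.nil))))))) (nat_lit 51) (nat_lit 7),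
  Rule.mk (nat_lit 13) (nat_lit 126) (Steps.bwd (nat_lit 3) (Steps.fwd (nat_lit 106496) (Steps.bwd (nat_lit 14) (Steps.bwd (nat_lit 17) (Steps.bwd (nat_lit 11) (Steps.fwd (nat_lit 131072) (Steps.bwd (nat_lit 4) Steps.nil))))))) (nat_lit 51) (nat_lit 7),
  Rule.mk (nat_lit 14) (nat_lit 110) (Steps.fwd (nat_lit 8192) (Steps.bwd (nat_lit 14) (Steps.fwd (nat_lit 16384) (Steps.fwd (nat_lit 131072) (Steps.fwd (nat_lit 81920) (Steps.bwd (nat_lit 14) Steps.nil)))))) (nat_lit 44) (nat_lit 0),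
  Rule.mk (nat_lit 9) (nat_lit 190) (Steps.bwd (nat_lit 13) (Steps.fwd (nat_lit 73728) (Steps.fwd (nat_lit 8192) (Steps.bwd (nat_lit 2) (Steps.fwd (nat_lit 8192) (Steps.bwd (nat_lit 15) (Steps.fwd (nat_lit 8192) (Steps.fwd (nat_lit 139264) (Steps.bwd (nat_lit 13) (Steps.bwd (nat_lit 9) (Steps.bwd (nat_lit 12) Steps.nil))))))))))) (nat_lit 75) (nat_lit 10),
  Rule.mk (nat_lit 4) (nat_lit 270) (Steps.fwd (nat_lit 106496) (Steps.bwd (nat_lit 2) (Steps.bwd (nat_lit 9) (Steps.fwd (nat_lit 8192) (Steps.fwd (nat_lit 73728) (Steps.fwd (nat_lit 8192) (Steps.bwd (nat_lit 18) (Steps.bwd (nat_lit 16) (Steps.bwd (nat_lit 10) (Steps.fwd (nat_lit 32768) (Steps.fwd (nat_lit 16384) (Steps.fwd (nat_lit 24576) (Steps.bwd (nat_lit 4) (Steps.fwd (nat_lit 8192) (Steps.bwd (nat_lit 7) (Steps.bwd (nat_lit 9) Steps.nil)))))))))))))))) (nat_lit 76) (nat_lit 3),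
  Rule.mk (nat_lit 7) (nat_lit 286) (Steps.fwd (nat_lit 90112) (Steps.fwd (nat_lit 32768) (Steps.fwd (nat_lit 16384) (Steps.fwd (nat_lit 24576) (Steps.bwd (nat_lit 7) (Steps.bwd (nat_lit 10) (Steps.bwd (nat_lit 7) (Steps.bwd (nat_lit 9) (Steps.bwd (nat_lit 4) (Steps.bwd (nat_lit 4) (Steps.bwd (nat_lit 2) (Steps.fwd (nat_lit 81920) (Steps.bwd (nat_lit 1) (Steps.bwd (nat_lit 10) (Steps.fwd (nat_lit 8192) (Steps.fwd (nat_lit 90112) (Steps.fwd (nat_lit 16384) Steps.nil))))))))))))))))) (nat_lit 57) (nat_lit 10),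
  Rule.mk (nat_lit 9) (nat_lit 110) (Steps.bwd (nat_lit 3) (Steps.fwd (nat_lit 73728) (Steps.fwd (nat_lit 139264) (Steps.fwd (nat_lit 139264) (Steps.fwd (nat_lit 122880) (Steps.fwd (nat_lit 81920) Steps.nil)))))) (nat_lit 70) (nat_lit 1),
  Rule.mk (nat_lit 13) (nat_lit 126) (Steps.bwd (nat_lit 3) (Steps.bwd (nat_lit 12) (Steps.fwd (nat_lit 122880) (Steps.bwd (nat_lit 17) (Steps.bwd (nat_lit 11) (Steps.bwd (nat_lit 17) (Steps.bwd (nat_lit 4) Steps.nil))))))) (nat_lit 51) (nat_lit 7),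
  Rule.mk (nat_lit 10) (nat_lit 270) (Steps.bwd (nat_lit 3) (Steps.bwd (nat_lit 1) (Steps.bwd (nat_lit 4) (Steps.bwd (nat_lit 4) (Steps.bwd (nat_lit 2) (Steps.fwd (nat_lit 65536) (Steps.fwd (nat_lit 73728) (Steps.bwd (nat_lit 4) (Steps.fwd (nat_lit 106496) (Steps.bwd (nat_lit 2) (Steps.fwd (nat_lit 73728) (Steps.bwd (nat_lit 2) (Steps.fwd (nat_lit 73728) (Steps.bwd (nat_lit 2) (Steps.bwd (nat_lit 18) (Steps.bwd (nat_lit 16) Steps.nil)))))))))))))))) (nat_lit 76) (nat_lit 12),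
  Rule.mk (nat_lit 9) (nat_lit 110) (Steps.fwd (nat_lit 81920) (Steps.bwd (nat_lit 9) (Steps.bwd (nat_lit 3) (Steps.fwd (nat_lit 122880) (Steps.bwd (nat_lit 3) (Steps.fwd (nat_lit 81920) Steps.nil)))))) (nat_lit 61) (nat_lit 5),
  Rule.mk (nat_lit 10) (nat_lit 270) (Steps.bwd (nat_lit 3) (Steps.fwd (nat_lit 16384) (Steps.fwd (nat_lit 24576) (Steps.bwd (nat_lit 4) (Steps.bwd (nat_lit 2) (Steps.fwd (nat_lit 65536) (Steps.bwd (nat_lit 9) (Steps.bwd (nat_lit 4) (Steps.fwd (nat_lit 106496) (Steps.bwd (nat_lit 2) (Steps.fwd (nat_lit 73728) (Steps.fwd (nat_lit 8192) (Steps.fwd (nat_lit 73728) (Steps.fwd (nat_lit 8192) (Steps.bwd (nat_lit 18) (Steps.bwd (nat_lit 16) Steps.nil)))))))))))))))) (nat_lit 76) (nat_lit 12),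
  Rule.mk (nat_lit 2) (nat_lit 110) (Steps.bwd (nat_lit 15) (Steps.bwd (nat_lit 1) (Steps.fwd (nat_lit 114688) (Steps.fwd (nat_lit 114688) (Steps.fwd (nat_lit 90112) (Steps.fwd (nat_lit 139264) Steps.nil)))))) (nat_lit 45) (nat_lit 5),
  Rule.mk (nat_lit 10) (nat_lit 110) (Steps.bwd (nat_lit 15) (Steps.fwd (nat_lit 131072) (Steps.bwd (nat_lit 17) (Steps.fwd (nat_lit 73728) (Steps.bwd (nat_lit 4) (Steps.fwd (nat_lit 73728) Steps.nil)))))) (nat_lit 71) (nat_lit 1),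
  Rule.mk (nat_lit 13) (nat_lit 142) (Steps.bwd (nat_lit 15) (Steps.bwd (nat_lit 16) (Steps.bwd (nat_lit 10) (Steps.fwd (nat_lit 139264) (Steps.bwd (nat_lit 2) (Steps.fwd (nat_lit 131072) (Steps.bwd (nat_lit 1) (Steps.bwd (nat_lit 10) Steps.nil)))))))) (nat_lit 47) (nat_lit 2),
  Rule.mk (nat_lit 3) (nat_lit 126) (Steps.bwd (nat_lit 12) (Steps.fwd (nat_lit 122880) (Steps.fwd (nat_lit 131072) (Steps.fwd (nat_lit 81920) (Steps.bwd (nat_lit 17) (Steps.bwd (nat_lit 4) (Steps.bwd (nat_lit 13) Steps.nil))))))) (nat_lit 51) (nat_lit 0),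
  Rule.mk (nat_lit 2) (nat_lit 94) (Steps.bwd (nat_lit 2) (Steps.bwd (nat_lit 4) (Steps.fwd (nat_lit 16384) (Steps.fwd (nat_lit 16384) (Steps.fwd (nat_lit 32768) Steps.nil))))) (nat_lit 6) (nat_lit 1),
  Rule.mk (nat_lit 13) (nat_lit 126) (Steps.bwd (nat_lit 3) (Steps.fwd (nat_lit 106496) (Steps.fwd (nat_lit 122880) (Steps.bwd (nat_lit 17) (Steps.fwd (nat_lit 81920) (Steps.bwd (nat_lit 17) (Steps.fwd (nat_lit 24576) Steps.nil))))))) (nat_lit 51) (nat_lit 7),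
  Rule.mk (nat_lit 15) (nat_lit 94) (Steps.bwd (nat_lit 11) (Steps.fwd (nat_lit 122880) (Steps.fwd (nat_lit 90112) (Steps.bwd (nat_lit 19) (Steps.fwd (nat_lit 147456) Steps.nil))))) (nat_lit 33) (nat_lit 3),
  Rule.mk (nat_lit 17) (nat_lit 110) (Steps.bwd (nat_lit 11) (Steps.fwd (nat_lit 122880) (Steps.fwd (nat_lit 122880) (Steps.fwd (nat_lit 8192) (Steps.bwd (nat_lit 14) (Steps.fwd (nat_lit 16384) Steps.nil)))))) (nat_lit 44) (nat_lit 4),
  Rule.mk (nat_lit 3) (nat_lit 110) (Steps.bwd (nat_lit 11) (Steps.bwd (nat_lit 9) (Steps.bwd (nat_lit 11) (Steps.bwd (nat_lit 9) (Steps.bwd (nat_lit 3) (Steps.bwd (nat_lit 14) Steps.nil)))))) (nat_lit 61) (nat_lit 3),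
  Rule.mk (nat_lit 14) (nat_lit 110) (Steps.bwd (nat_lit 11) (Steps.bwd (nat_lit 9) (Steps.fwd (nat_lit 32768) (Steps.fwd (nat_lit 73728) (Steps.fwd (nat_lit 139264) (Steps.fwd (nat_lit 139264) Steps.nil)))))) (nat_lit 70) (nat_lit 6),
  Rule.mk (nat_lit 4) (nat_lit 286) (Steps.bwd (nat_lit 11) (Steps.fwd (nat_lit 57344) (Steps.bwd (nat_lit 2) (Steps.fwd (nat_lit 81920) (Steps.fwd (nat_lit 16384) (Steps.bwd (nat_lit 11) (Steps.bwd (nat_lit 2) (Steps.bwd (nat_lit 10) (Steps.fwd (nat_lit 16384) (Steps.bwd (nat_lit 3) (Steps.fwd (nat_lit 32768) (Steps.bwd (nat_lit 9) (Steps.fwd (nat_lit 57344) (Steps.bwd (nat_lit 11) (Steps.bwd (nat_lit 8) (Steps.fwd (nat_lit 32768) (Steps.bwd (nat_lit 2) Steps.nil))))))))))))))))) (nat_lit 56) (nat_lit 7),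
  Rule.mk (nat_lit 9) (nat_lit 286) (Steps.bwd (nat_lit 8) (Steps.fwd (nat_lit 81920) (Steps.fwd (nat_lit 57344) (Steps.bwd (nat_lit 3) (Steps.fwd (nat_lit 8192) (Steps.fwd (nat_lit 24576) (Steps.bwd (nat_lit 11) (Steps.fwd (nat_lit 57344) (Steps.bwd (nat_lit 2) (Steps.fwd (nat_lit 81920) (Steps.bwd (nat_lit 1) (Steps.fwd (nat_lit 81920) (Steps.fwd (nat_lit 8192) (Steps.fwd (nat_lit 90112) (Steps.bwd (nat_lit 1) (Steps.fwd (nat_lit 32768) (Steps.bwd (nat_lit 3) Steps.nil))))))))))))))))) (nat_lit 56) (nat_lit 1),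
  Rule.mk (nat_lit 15) (nat_lit 126) (Steps.fwd (nat_lit 98304) (Steps.bwd (nat_lit 4) (Steps.fwd (nat_lit 106496) (Steps.fwd (nat_lit 32768) (Steps.bwd (nat_lit 16) (Steps.fwd (nat_lit 90112) (Steps.bwd (nat_lit 16) Steps.nil))))))) (nat_lit 50) (nat_lit 7),
  Rule.mk (nat_lit 10) (nat_lit 270) (Steps.fwd (nat_lit 32768) (Steps.bwd (nat_lit 1) (Steps.fwd (nat_lit 24576) (Steps.bwd (nat_lit 4) (Steps.fwd (nat_lit 8192) (Steps.fwd (nat_lit 65536) (Steps.fwd (nat_lit 73728) (Steps.bwd (nat_lit 4) (Steps.fwd (nat_lit 106496) (Steps.fwd (nat_lit 8192) (Steps.fwd (nat_lit 73728) (Steps.fwd (nat_lit 8192) (Steps.fwd (nat_lit 73728) (Steps.fwd (nat_lit 8192) (Steps.fwd (nat_lit 155648) (Steps.bwd (nat_lit 16) Steps.nil)))))))))))))))) (nat_lit 76) (nat_lit 12),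
  Rule.mk (nat_lit 3) (nat_lit 126) (Steps.bwd (nat_lit 10) (Steps.fwd (nat_lit 90112) (Steps.bwd (nat_lit 16) (Steps.fwd (nat_lit 114688) (Steps.bwd (nat_lit 15) (Steps.bwd (nat_lit 4) (Steps.fwd (nat_lit 114688) Steps.nil))))))) (nat_lit 53) (nat_lit 0),
  Rule.mk (nat_lit 19) (nat_lit 78) (Steps.fwd (nat_lit 147456) (Steps.bwd (nat_lit 2) (Steps.fwd (nat_lit 155648) (Steps.bwd (nat_lit 1) Steps.nil)))) (nat_lit 48) (nat_lit 4),
  Rule.mk (nat_lit 8) (nat_lit 126) (Steps.fwd (nat_lit 16384) (Steps.fwd (nat_lit 16384) (Steps.fwd (nat_lit 147456) (Steps.fwd (nat_lit 57344) (Steps.bwd (nat_lit 18) (Steps.bwd (nat_lit 8) (Steps.bwd (nat_lit 19) Steps.nil))))))) (nat_lit 87) (nat_lit 0),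
  Rule.mk (nat_lit 19) (nat_lit 126) (Steps.bwd (nat_lit 8) (Steps.fwd (nat_lit 155648) (Steps.bwd (nat_lit 8) (Steps.bwd (nat_lit 19) (Steps.bwd (nat_lit 8) (Steps.fwd (nat_lit 16384) (Steps.fwd (nat_lit 16384) Steps.nil))))))) (nat_lit 87) (nat_lit 3),
  Rule.mk (nat_lit 13) (nat_lit 190) (Steps.bwd (nat_lit 9) (Steps.bwd (nat_lit 12) (Steps.bwd (nat_lit 17) (Steps.bwd (nat_lit 1) (Steps.bwd (nat_lit 14) (Steps.fwd (nat_lit 16384) (Steps.fwd (nat_lit 16384) (Steps.fwd (nat_lit 16384) (Steps.bwd (nat_lit 9) (Steps.fwd (nat_lit 106496) (Steps.fwd (nat_lit 73728) Steps.nil))))))))))) (nat_lit 74) (nat_lit 4),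
  Rule.mk (nat_lit 14) (nat_lit 110) (Steps.bwd (nat_lit 3) (Steps.bwd (nat_lit 11) (Steps.fwd (nat_lit 73728) (Steps.fwd (nat_lit 81920) (Steps.fwd (nat_lit 73728) (Steps.fwd (nat_lit 32768) Steps.nil)))))) (nat_lit 61) (nat_lit 2),
  Rule.mk (nat_lit 9) (nat_lit 110) (Steps.bwd (nat_lit 3) (Steps.fwd (nat_lit 32768) (Steps.fwd (nat_lit 114688) (Steps.fwd (nat_lit 139264) (Steps.bwd (nat_lit 9) (Steps.bwd (nat_lit 17) Steps.nil)))))) (nat_lit 65) (nat_lit 0),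
  Rule.mk (nat_lit 10) (nat_lit 270) (Steps.bwd (nat_lit 3) (Steps.bwd (nat_lit 1) (Steps.fwd (nat_lit 24576) (Steps.fwd (nat_lit 24576) (Steps.bwd (nat_lit 2) (Steps.bwd (nat_lit 7) (Steps.fwd (nat_lit 73728) (Steps.bwd (nat_lit 4) (Steps.bwd (nat_lit 12) (Steps.fwd (nat_lit 8192) (Steps.fwd (nat_lit 73728) (Steps.fwd (nat_lit 8192) (Steps.fwd (nat_lit 73728) (Steps.bwd (nat_lit 2) (Steps.bwd (nat_lit 18) (Steps.fwd (nat_lit 139264) Steps.nil)))))))))))))))) (nat_lit 76) (nat_lit 12),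
  Rule.mk (nat_lit 19) (nat_lit 126) (Steps.bwd (nat_lit 8) (Steps.bwd (nat_lit 1) (Steps.bwd (nat_lit 1) (Steps.fwd (nat_lit 147456) (Steps.fwd (nat_lit 57344) (Steps.bwd (nat_lit 18) (Steps.fwd (nat_lit 57344) Steps.nil))))))) (nat_lit 87) (nat_lit 7),
  Rule.mk (nat_lit 15) (nat_lit 126) (Steps.bwd (nat_lit 15) (Steps.fwd (nat_lit 24576) (Steps.fwd (nat_lit 114688) (Steps.bwd (nat_lit 3) (Steps.bwd (nat_lit 10) (Steps.fwd (nat_lit 90112) (Steps.fwd (nat_lit 139264) Steps.nil))))))) (nat_lit 53) (nat_lit 4),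
  Rule.mk (nat_lit 1) (nat_lit 110) (Steps.fwd (nat_lit 114688) (Steps.fwd (nat_lit 114688) (Steps.fwd (nat_lit 90112) (Steps.fwd (nat_lit 139264) (Steps.bwd (nat_lit 2) (Steps.bwd (nat_lit 15) Steps.nil)))))) (nat_lit 45) (nat_lit 0),
  Rule.mk (nat_lit 3) (nat_lit 126) (Steps.fwd (nat_lit 90112) (Steps.bwd (nat_lit 10) (Steps.bwd (nat_lit 16) (Steps.bwd (nat_lit 15) (Steps.bwd (nat_lit 15) (Steps.bwd (nat_lit 4) (Steps.bwd (nat_lit 15) Steps.nil))))))) (nat_lit 53) (nat_lit 0),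
  Rule.mk (nat_lit 9) (nat_lit 270) (Steps.bwd (nat_lit 1) (Steps.fwd (nat_lit 98304) (Steps.fwd (nat_lit 32768) (Steps.fwd (nat_lit 73728) (Steps.bwd (nat_lit 8) (Steps.bwd (nat_lit 1) (Steps.bwd (nat_lit 3) (Steps.bwd (nat_lit 3) (Steps.bwd (nat_lit 2) (Steps.bwd (nat_lit 4) (Steps.bwd (nat_lit 11) (Steps.bwd (nat_lit 17) (Steps.fwd (nat_lit 147456) (Steps.fwd (nat_lit 16384) (Steps.fwd (nat_lit 73728) (Steps.fwd (nat_lit 16384) Steps.nil)))))))))))))))) (nat_lit 77) (nat_lit 12),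
  Rule.mk (nat_lit 9) (nat_lit 190) (Steps.bwd (nat_lit 2) (Steps.bwd (nat_lit 2) (Steps.fwd (nat_lit 8192) (Steps.bwd (nat_lit 15) (Steps.bwd (nat_lit 2) (Steps.bwd (nat_lit 16) (Steps.bwd (nat_lit 13) (Steps.bwd (nat_lit 9) (Steps.fwd (nat_lit 106496) (Steps.fwd (nat_lit 73728) (Steps.fwd (nat_lit 98304) Steps.nil))))))))))) (nat_lit 75) (nat_lit 0)]
noncomputable def R_86 : List (Rule) := [Rule.mk (nat_lit 11) (nat_lit 206) (Steps.bwd (nat_lit 2) (Steps.fwd (nat_lit 32768) (Steps.fwd (nat_lit 8192) (Steps.bwd (nat_lit 4) (Steps.bwd (nat_lit 4) (Steps.fwd (nat_lit 8192) (Steps.bwd (nat_lit 9) (Steps.fwd (nat_lit 16384) (Steps.fwd (nat_lit 16384) (Steps.bwd (nat_lit 9) (Steps.bwd (nat_lit 16) (Steps.bwd (nat_lit 19) Steps.nil)))))))))))) (nat_lit 68) (nat_lit 7),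
  Rule.mk (nat_lit 14) (nat_lit 94) (Steps.fwd (nat_lit 90112) (Steps.bwd (nat_lit 19) (Steps.fwd (nat_lit 147456) (Steps.bwd (nat_lit 15) (Steps.bwd (nat_lit 11) Steps.nil))))) (nat_lit 33) (nat_lit 5),
  Rule.mk (nat_lit 17) (nat_lit 142) (Steps.bwd (nat_lit 14) (Steps.bwd (nat_lit 12) (Steps.bwd (nat_lit 11) (Steps.bwd (nat_lit 2) (Steps.fwd (nat_lit 139264) (Steps.bwd (nat_lit 1) (Steps.bwd (nat_lit 17) (Steps.bwd (nat_lit 11) Steps.nil)))))))) (nat_lit 46) (nat_lit 6),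
  Rule.mk (nat_lit 8) (nat_lit 126) (Steps.bwd (nat_lit 19) (Steps.fwd (nat_lit 57344) (Steps.bwd (nat_lit 1) (Steps.fwd (nat_lit 16384) (Steps.fwd (nat_lit 147456) (Steps.bwd (nat_lit 8) (Steps.fwd (nat_lit 155648) Steps.nil))))))) (nat_lit 87) (nat_lit 6),
  Rule.mk (nat_lit 14) (nat_lit 158) (Steps.bwd (nat_lit 9) (Steps.bwd (nat_lit 1) (Steps.bwd (nat_lit 16) (Steps.fwd (nat_lit 90112) (Steps.fwd (nat_lit 98304) (Steps.fwd (nat_lit 8192) (Steps.bwd (nat_lit 4) (Steps.bwd (nat_lit 4) (Steps.fwd (nat_lit 73728) Steps.nil))))))))) (nat_lit 62) (nat_lit 2),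
  Rule.mk (nat_lit 12) (nat_lit 190) (Steps.bwd (nat_lit 9) (Steps.bwd (nat_lit 13) (Steps.fwd (nat_lit 73728) (Steps.fwd (nat_lit 106496) (Steps.bwd (nat_lit 17) (Steps.fwd (nat_lit 16384) (Steps.fwd (nat_lit 122880) (Steps.fwd (nat_lit 16384) (Steps.bwd (nat_lit 1) (Steps.bwd (nat_lit 1) (Steps.fwd (nat_lit 73728) Steps.nil))))))))))) (nat_lit 74) (nat_lit 2),
  Rule.mk (nat_lit 1) (nat_lit 206) (Steps.bwd (nat_lit 9) (Steps.fwd (nat_lit 139264) (Steps.fwd (nat_lit 147456) (Steps.bwd (nat_lit 11) (Steps.bwd (nat_lit 2) (Steps.fwd (nat_lit 32768) (Steps.bwd (nat_lit 2) (Steps.bwd (nat_lit 4) (Steps.bwd (nat_lit 4) (Steps.fwd (nat_lit 8192) (Steps.fwd (nat_lit 73728) (Steps.fwd (nat_lit 16384) Steps.nil)))))))))))) (nat_lit 68) (nat_lit 3),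
  Rule.mk (nat_lit 2) (nat_lit 206) (Steps.bwd (nat_lit 9) (Steps.bwd (nat_lit 1) (Steps.fwd (nat_lit 16384) (Steps.bwd (nat_lit 9) (Steps.fwd (nat_lit 139264) (Steps.fwd (nat_lit 147456) (Steps.bwd (nat_lit 11) (Steps.bwd (nat_lit 2) (Steps.fwd (nat_lit 32768) (Steps.fwd (nat_lit 8192) (Steps.bwd (nat_lit 4) (Steps.fwd (nat_lit 24576) Steps.nil)))))))))))) (nat_lit 68) (nat_lit 0),
  Rule.mk (nat_lit 19) (nat_lit 126) (Steps.bwd (nat_lit 8) (Steps.fwd (nat_lit 16384) (Steps.bwd (nat_lit 1) (Steps.bwd (nat_lit 19) (Steps.bwd (nat_lit 8) (Steps.fwd (nat_lit 155648) (Steps.fwd (nat_lit 57344) Steps.nil))))))) (nat_lit 87) (nat_lit 7),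
  Rule.mk (nat_lit 8) (nat_lit 94) (Steps.fwd (nat_lit 16384) (Steps.fwd (nat_lit 65536) (Steps.fwd (nat_lit 8192) (Steps.bwd (nat_lit 2) (Steps.fwd (nat_lit 8192) Steps.nil))))) (nat_lit 82) (nat_lit 1),
  Rule.mk (nat_lit 15) (nat_lit 110) (Steps.fwd (nat_lit 16384) (Steps.bwd (nat_lit 15) (Steps.bwd (nat_lit 15) (Steps.fwd (nat_lit 90112) (Steps.fwd (nat_lit 139264) (Steps.bwd (nat_lit 2) Steps.nil)))))) (nat_lit 45) (nat_lit 6),
  Rule.mk (nat_lit 4) (nat_lit 206) (Steps.bwd (nat_lit 4) (Steps.bwd (nat_lit 2) (Steps.fwd (nat_lit 73728) (Steps.bwd (nat_lit 1) (Steps.bwd (nat_lit 1) (Steps.fwd (nat_lit 73728) (Steps.bwd (nat_lit 16) (Steps.bwd (nat_lit 19) (Steps.bwd (nat_lit 11) (Steps.bwd (nat_lit 2) (Steps.fwd (nat_lit 32768) (Steps.bwd (nat_lit 2) Steps.nil)))))))))))) (nat_lit 68) (nat_lit 11),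
  Rule.mk (nat_lit 9) (nat_lit 158) (Steps.fwd (nat_lit 32768) (Steps.fwd (nat_lit 32768) (Steps.fwd (nat_lit 16384) (Steps.fwd (nat_lit 106496) (Steps.bwd (nat_lit 11) (Steps.fwd (nat_lit 131072) (Steps.bwd (nat_lit 2) (Steps.fwd (nat_lit 73728) (Steps.bwd (nat_lit 15) Steps.nil))))))))) (nat_lit 63) (nat_lit 0),
  Rule.mk (nat_lit 10) (nat_lit 286) (Steps.bwd (nat_lit 3) (Steps.bwd (nat_lit 1) (Steps.fwd (nat_lit 24576) (Steps.bwd (nat_lit 7) (Steps.fwd (nat_lit 90112) (Steps.bwd (nat_lit 7) (Steps.bwd (nat_lit 9) (Steps.fwd (nat_lit 24576) (Steps.fwd (nat_lit 24576) (Steps.bwd (nat_lit 2) (Steps.bwd (nat_lit 11) (Steps.fwd (nat_lit 16384) (Steps.fwd (nat_lit 90112) (Steps.fwd (nat_lit 8192) (Steps.fwd (nat_lit 90112) (Steps.fwd (nat_lit 16384) (Steps.bwd (nat_lit 7) Steps.nil))))))))))))))))) (nat_lit 57) (nat_lit 11),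
  Rule.mk (nat_lit 13) (nat_lit 142) (Steps.fwd (nat_lit 114688) (Steps.bwd (nat_lit 16) (Steps.bwd (nat_lit 10) (Steps.bwd (nat_lit 16) (Steps.fwd (nat_lit 8192) (Steps.fwd (nat_lit 131072) (Steps.fwd (nat_lit 16384) (Steps.bwd (nat_lit 10) Steps.nil)))))))) (nat_lit 47) (nat_lit 2),
  Rule.mk (nat_lit 14) (nat_lit 94) (Steps.bwd (nat_lit 10) (Steps.bwd (nat_lit 19) (Steps.bwd (nat_lit 19) (Steps.fwd (nat_lit 114688) (Steps.bwd (nat_lit 11) Steps.nil))))) (nat_lit 33) (nat_lit 5),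
  Rule.mk (nat_lit 15) (nat_lit 110) (Steps.bwd (nat_lit 10) (Steps.fwd (nat_lit 131072) (Steps.bwd (nat_lit 9) (Steps.fwd (nat_lit 147456) (Steps.bwd (nat_lit 9) (Steps.bwd (nat_lit 10) Steps.nil)))))) (nat_lit 67) (nat_lit 2),
  Rule.mk (nat_lit 4) (nat_lit 126) (Steps.bwd (nat_lit 15) (Steps.fwd (nat_lit 32768) (Steps.fwd (nat_lit 90112) (Steps.fwd (nat_lit 90112) (Steps.fwd (nat_lit 139264) (Steps.bwd (nat_lit 15) (Steps.bwd (nat_lit 15) Steps.nil))))))) (nat_lit 53) (nat_lit 6),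
  Rule.mk (nat_lit 1) (nat_lit 206) (Steps.bwd (nat_lit 3) (Steps.bwd (nat_lit 3) (Steps.fwd (nat_lit 16384) (Steps.fwd (nat_lit 24576) (Steps.bwd (nat_lit 1) (Steps.bwd (nat_lit 10) (Steps.fwd (nat_lit 155648) (Steps.bwd (nat_lit 17) (Steps.fwd (nat_lit 73728) (Steps.fwd (nat_lit 8192) (Steps.fwd (nat_lit 8192) (Steps.bwd (nat_lit 9) Steps.nil)))))))))))) (nat_lit 69) (nat_lit 1),
  Rule.mk (nat_lit 10) (nat_lit 286) (Steps.bwd (nat_lit 3) (Steps.bwd (nat_lit 1) (Steps.bwd (nat_lit 4) (Steps.bwd (nat_lit 7) (Steps.fwd (nat_lit 90112) (Steps.fwd (nat_lit 65536) (Steps.fwd (nat_lit 73728) (Steps.bwd (nat_lit 4) (Steps.fwd (nat_lit 24576) (Steps.bwd (nat_lit 2) (Steps.fwd (nat_lit 81920) (Steps.bwd (nat_lit 1) (Steps.bwd (nat_lit 10) (Steps.fwd (nat_lit 8192) (Steps.fwd (nat_lit 90112) (Steps.bwd (nat_lit 1) (Steps.bwd (nat_lit 7) Steps.nil))))))))))))))))) (nat_lit 57) (nat_lit 11),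
  Rule.mk (nat_lit 15) (nat_lit 110) (Steps.fwd (nat_lit 90112) (Steps.bwd (nat_lit 17) (Steps.bwd (nat_lit 9) (Steps.bwd (nat_lit 19) (Steps.fwd (nat_lit 73728) (Steps.bwd (nat_lit 10) Steps.nil)))))) (nat_lit 67) (nat_lit 2),
  Rule.mk (nat_lit 13) (nat_lit 142) (Steps.fwd (nat_lit 114688) (Steps.fwd (nat_lit 139264) (Steps.fwd (nat_lit 90112) (Steps.bwd (nat_lit 16) (Steps.bwd (nat_lit 2) (Steps.fwd (nat_lit 131072) (Steps.bwd (nat_lit 1) (Steps.bwd (nat_lit 10) Steps.nil)))))))) (nat_lit 47) (nat_lit 2),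
  Rule.mk (nat_lit 14) (nat_lit 110) (Steps.bwd (nat_lit 1) (Steps.bwd (nat_lit 17) (Steps.fwd (nat_lit 81920) (Steps.fwd (nat_lit 122880) (Steps.fwd (nat_lit 122880) (Steps.fwd (nat_lit 8192) Steps.nil)))))) (nat_lit 44) (nat_lit 2),
  Rule.mk (nat_lit 16) (nat_lit 142) (Steps.bwd (nat_lit 1) (Steps.bwd (nat_lit 17) (Steps.fwd (nat_lit 81920) (Steps.bwd (nat_lit 17) (Steps.fwd (nat_lit 122880) (Steps.fwd (nat_lit 106496) (Steps.fwd (nat_lit 81920) (Steps.fwd (nat_lit 8192) Steps.nil)))))))) (nat_lit 46) (nat_lit 2),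
  Rule.mk (nat_lit 11) (nat_lit 286) (Steps.bwd (nat_lit 1) (Steps.fwd (nat_lit 81920) (Steps.bwd (nat_lit 2) (Steps.fwd (nat_lit 90112) (Steps.fwd (nat_lit 16384) (Steps.fwd (nat_lit 32768) (Steps.fwd (nat_lit 32768) (Steps.fwd (nat_lit 73728) (Steps.bwd (nat_lit 8) (Steps.fwd (nat_lit 81920) (Steps.bwd (nat_lit 8) (Steps.bwd (nat_lit 3) (Steps.bwd (nat_lit 2) (Steps.bwd (nat_lit 4) (Steps.bwd (nat_lit 11) (Steps.bwd (nat_lit 8) (Steps.bwd (nat_lit 2) Steps.nil))))))))))))))))) (nat_lit 56) (nat_lit 11),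
  Rule.mk (nat_lit 9) (nat_lit 110) (Steps.fwd (nat_lit 81920) (Steps.bwd (nat_lit 9) (Steps.fwd (nat_lit 32768) (Steps.bwd (nat_lit 14) (Steps.bwd (nat_lit 3) (Steps.bwd (nat_lit 11) Steps.nil)))))) (nat_lit 61) (nat_lit 5),
  Rule.mk (nat_lit 9) (nat_lit 110) (Steps.bwd (nat_lit 10) (Steps.fwd (nat_lit 24576) (Steps.bwd (nat_lit 15) (Steps.fwd (nat_lit 24576) (Steps.fwd (nat_lit 73728) (Steps.fwd (nat_lit 90112) Steps.nil)))))) (nat_lit 60) (nat_lit 3),
  Rule.mk (nat_lit 16) (nat_lit 270) (Steps.bwd (nat_lit 10) (Steps.bwd (nat_lit 3) (Steps.bwd (nat_lit 1) (Steps.fwd (nat_lit 24576) (Steps.bwd (nat_lit 4) (Steps.bwd (nat_lit 2) (Steps.fwd (nat_lit 65536) (Steps.fwd (nat_lit 73728) (Steps.fwd (nat_lit 24576) (Steps.bwd (nat_lit 12) (Steps.fwd (nat_lit 8192) (Steps.bwd (nat_lit 9) (Steps.bwd (nat_lit 2) (Steps.fwd (nat_lit 73728) (Steps.fwd (nat_lit 8192) (Steps.bwd (nat_lit 18) Steps.nil)))))))))))))))) (nat_lit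 76) (nat_lit 11),
  Rule.mk (nat_lit 1) (nat_lit 206) (Steps.bwd (nat_lit 3) (Steps.fwd (nat_lit 32768) (Steps.fwd (nat_lit 16384) (Steps.bwd (nat_lit 4) (Steps.fwd (nat_lit 16384) (Steps.fwd (nat_lit 90112) (Steps.bwd (nat_lit 18) (Steps.bwd (nat_lit 17) (Steps.bwd (nat_lit 9) (Steps.bwd (nat_lit 2) (Steps.bwd (nat_lit 2) (Steps.bwd (nat_lit 9) Steps.nil)))))))))))) (nat_lit 69) (nat_lit 1),
  Rule.mk (nat_lit 8) (nat_lit 270) (Steps.fwd (nat_lit 16384) (Steps.fwd (nat_lit 32768) (Steps.fwd (nat_lit 32768) (Steps.fwd (nat_lit 8192) (Steps.fwd (nat_lit 24576) (Steps.bwd (nat_lit 11) (Steps.bwd (nat_lit 17) (Steps.bwd (nat_lit 19) (Steps.bwd (nat_lit 1) (Steps.bwd (nat_lit 9) (Steps.fwd (nat_lit 16384) (Steps.fwd (nat_lit 73728) (Steps.fwd (nat_lit 16384) (Steps.fwd (nat_lit 98304) (Steps.bwd (nat_lit 3) (Steps.bwd (nat_lit 9) Steps.nil)))))))))))))))) (nat_lit 77) (nat_lit 0),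
  Rule.mk (nat_lit 15) (nat_lit 126) (Steps.fwd (nat_lit 32768) (Steps.fwd (nat_lit 90112) (Steps.bwd (nat_lit 10) (Steps.bwd (nat_lit 16) (Steps.fwd (nat_lit 114688) (Steps.bwd (nat_lit 15) (Steps.bwd (nat_lit 4) Steps.nil))))))) (nat_lit 53) (nat_lit 7),
  Rule.mk (nat_lit 2) (nat_lit 142) (Steps.bwd (nat_lit 16) (Steps.fwd (nat_lit 16384) (Steps.fwd (nat_lit 131072) (Steps.fwd (nat_lit 81920) (Steps.fwd (nat_lit 131072) (Steps.bwd (nat_lit 14) (Steps.fwd (nat_lit 106496) (Steps.bwd (nat_lit 11) Steps.nil)))))))) (nat_lit 46) (nat_lit 1),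
  Rule.mk (nat_lit 9) (nat_lit 158) (Steps.fwd (nat_lit 122880) (Steps.fwd (nat_lit 73728) (Steps.bwd (nat_lit 1) (Steps.bwd (nat_lit 16) (Steps.fwd (nat_lit 90112) (Steps.bwd (nat_lit 13) (Steps.fwd (nat_lit 8192) (Steps.bwd (nat_lit 4) (Steps.bwd (nat_lit 4) Steps.nil))))))))) (nat_lit 62) (nat_lit 1),
  Rule.mk (nat_lit 16) (nat_lit 142) (Steps.bwd (nat_lit 1) (Steps.bwd (nat_lit 17) (Steps.bwd (nat_lit 11) (Steps.bwd (nat_lit 17) (Steps.fwd (nat_lit 122880) (Steps.fwd (nat_lit 106496) (Steps.bwd (nat_lit 11) (Steps.bwd (nat_lit 2) Steps.nil)))))))) (nat_lit 46) (nat_lit 2),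
  Rule.mk (nat_lit 4) (nat_lit 190) (Steps.bwd (nat_lit 1) (Steps.bwd (nat_lit 3) (Steps.bwd (nat_lit 2) (Steps.fwd (nat_lit 24576) (Steps.fwd (nat_lit 16384) (Steps.fwd (nat_lit 32768) (Steps.bwd (nat_lit 2) (Steps.fwd (nat_lit 24576) (Steps.fwd (nat_lit 16384) (Steps.fwd (nat_lit 32768) (Steps.fwd (nat_lit 8192) Steps.nil))))))))))) (nat_lit 8) (nat_lit 2),
  Rule.mk (nat_lit 15) (nat_lit 126) (Steps.bwd (nat_lit 3) (Steps.bwd (nat_lit 10) (Steps.bwd (nat_lit 10) (Steps.fwd (nat_lit 139264) (Steps.bwd (nat_lit 15) (Steps.bwd (nat_lit 15) (Steps.bwd (nat_lit 4) Steps.nil))))))) (nat_lit 53) (nat_lit 7),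
  Rule.mk (nat_lit 10) (nat_lit 110) (Steps.bwd (nat_lit 15) (Steps.bwd (nat_lit 10) (Steps.bwd (nat_lit 17) (Steps.bwd (nat_lit 9) (Steps.fwd (nat_lit 147456) (Steps.fwd (nat_lit 73728) Steps.nil)))))) (nat_lit 67) (nat_lit 1),
  Rule.mk (nat_lit 7) (nat_lit 270) (Steps.bwd (nat_lit 9) (Steps.bwd (nat_lit 4) (Steps.bwd (nat_lit 12) (Steps.bwd (nat_lit 2) (Steps.fwd (nat_lit 73728) (Steps.bwd (nat_lit 2) (Steps.bwd (nat_lit 9) (Steps.fwd (nat_lit 8192) (Steps.bwd (nat_lit 18) (Steps.bwd (nat_lit 16) (Steps.bwd (nat_lit 10) (Steps.fwd (nat_lit 32768) (Steps.fwd (nat_lit 16384) (Steps.fwd (nat_lit 24576) (Steps.bwd (nat_lit 4) (Steps.fwd (nat_lit 8192) Steps.nil)))))))))))))))) (nat_lit 76) (nat_lit 1),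
  Rule.mk (nat_lit 7) (nat_lit 126) (Steps.bwd (nat_lit 19) (Steps.bwd (nat_lit 7) (Steps.fwd (nat_lit 155648) (Steps.fwd (nat_lit 8192) (Steps.bwd (nat_lit 2) (Steps.bwd (nat_lit 7) (Steps.fwd (nat_lit 155648) Steps.nil))))))) (nat_lit 86) (nat_lit 3),
  Rule.mk (nat_lit 18) (nat_lit 110) (Steps.bwd (nat_lit 9) (Steps.fwd (nat_lit 139264) (Steps.bwd (nat_lit 11) (Steps.fwd (nat_lit 122880) (Steps.bwd (nat_lit 11) (Steps.fwd (nat_lit 73728) Steps.nil)))))) (nat_lit 66) (nat_lit 2),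
  Rule.mk (nat_lit 13) (nat_lit 190) (Steps.bwd (nat_lit 9) (Steps.bwd (nat_lit 12) (Steps.fwd (nat_lit 131072) (Steps.fwd (nat_lit 16384) (Steps.bwd (nat_lit 14) (Steps.bwd (nat_lit 1) (Steps.bwd (nat_lit 1) (Steps.fwd (nat_lit 16384) (Steps.fwd (nat_lit 73728) (Steps.bwd (nat_lit 12) (Steps.bwd (nat_lit 9) Steps.nil))))))))))) (nat_lit 74) (nat_lit 4),
  Rule.mk (nat_lit 3) (nat_lit 110) (Steps.bwd (nat_lit 14) (Steps.fwd (nat_lit 32768) (Steps.fwd (nat_lit 81920) (Steps.fwd (nat_lit 73728) (Steps.fwd (nat_lit 81920) (Steps.bwd (nat_lit 9) Steps.nil)))))) (nat_lit 61) (nat_lit 1),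
  Rule.mk (nat_lit 2) (nat_lit 190) (Steps.bwd (nat_lit 3) (Steps.bwd (nat_lit 1) (Steps.fwd (nat_lit 24576) (Steps.fwd (nat_lit 8192) (Steps.fwd (nat_lit 32768) (Steps.bwd (nat_lit 1) (Steps.fwd (nat_lit 24576) (Steps.fwd (nat_lit 8192) (Steps.bwd (nat_lit 3) (Steps.bwd (nat_lit 1) (Steps.bwd (nat_lit 4) Steps.nil))))))))))) (nat_lit 9) (nat_lit 2),
  Rule.mk (nat_lit 2) (nat_lit 94) (Steps.bwd (nat_lit 8) (Steps.fwd (nat_lit 16384) (Steps.fwd (nat_lit 65536) (Steps.fwd (nat_lit 8192) (Steps.bwd (nat_lit 2) Steps.nil))))) (nat_lit 82) (nat_lit 0),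
  Rule.mk (nat_lit 19) (nat_lit 126) (Steps.bwd (nat_lit 8) (Steps.bwd (nat_lit 18) (Steps.bwd (nat_lit 8) (Steps.fwd (nat_lit 147456) (Steps.fwd (nat_lit 57344) (Steps.fwd (nat_lit 16384) (Steps.fwd (nat_lit 16384) Steps.nil))))))) (nat_lit 87) (nat_lit 3),
  Rule.mk (nat_lit 11) (nat_lit 286) (Steps.bwd (nat_lit 8) (Steps.bwd (nat_lit 2) (Steps.bwd (nat_lit 11) (Steps.fwd (nat_lit 16384) (Steps.bwd (nat_lit 11) (Steps.fwd (nat_lit 8192) (Steps.bwd (nat_lit 10) (Steps.fwd (nat_lit 16384) (Steps.fwd (nat_lit 32768) (Steps.fwd (nat_lit 32768) (Steps.fwd (nat_lit 73728) (Steps.bwd (nat_lit 8) (Steps.fwd (nat_lit 81920) (Steps.fwd (nat_lit 57344) (Steps.bwd (nat_lit 3) (Steps.fwd (nat_lit 8192) (Steps.bwd (nat_lit 4) Steps.nil))))))))))))))))) (nat_lit 56) (nat_lit 8),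
  Rule.mk (nat_lit 12) (nat_lit 190) (Steps.bwd (nat_lit 9) (Steps.bwd (nat_lit 13) (Steps.fwd (nat_lit 73728) (Steps.bwd (nat_lit 12) (Steps.bwd (nat_lit 17) (Steps.bwd (nat_lit 1) (Steps.fwd (nat_lit 122880) (Steps.bwd (nat_lit 1) (Steps.fwd (nat_lit 16384) (Steps.bwd (nat_lit 1) (Steps.bwd (nat_lit 9) Steps.nil))))))))))) (nat_lit 74) (nat_lit 2),
  Rule.mk (nat_lit 17) (nat_lit 142) (Steps.bwd (nat_lit 1) (Steps.fwd (nat_lit 90112) (Steps.fwd (nat_lit 98304) (Steps.fwd (nat_lit 114688) (Steps.fwd (nat_lit 139264) (Steps.bwd (nat_lit 10) (Steps.bwd (nat_lit 16) (Steps.bwd (nat_lit 2) Steps.nil)))))))) (nat_lit 47) (nat_lit 8),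
  Rule.mk (nat_lit 16) (nat_lit 142) (Steps.bwd (nat_lit 1) (Steps.bwd (nat_lit 17) (Steps.bwd (nat_lit 11) (Steps.bwd (nat_lit 17) (Steps.fwd (nat_lit 122880) (Steps.bwd (nat_lit 12) (Steps.bwd (nat_lit 11) (Steps.bwd (nat_lit 2) Steps.nil)))))))) (nat_lit 46) (nat_lit 2),
  Rule.mk (nat_lit 9) (nat_lit 206) (Steps.fwd (nat_lit 16384) (Steps.bwd (nat_lit 3) (Steps.bwd (nat_lit 3) (Steps.bwd (nat_lit 1) (Steps.fwd (nat_lit 24576) (Steps.fwd (nat_lit 16384) (Steps.fwd (nat_lit 73728) (Steps.fwd (nat_lit 139264) (Steps.fwd (nat_lit 147456) (Steps.bwd (nat_lit 11) (Steps.bwd (nat_lit 2) (Steps.bwd (nat_lit 2) Steps.nil)))))))))))) (nat_lit 72) (nat_lit 1),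
  Rule.mk (nat_lit 14) (nat_lit 158) (Steps.bwd (nat_lit 9) (Steps.fwd (nat_lit 16384) (Steps.fwd (nat_lit 139264) (Steps.bwd (nat_lit 10) (Steps.fwd (nat_lit 98304) (Steps.bwd (nat_lit 2) (Steps.bwd (nat_lit 4) (Steps.bwd (nat_lit 4) (Steps.fwd (nat_lit 73728) Steps.nil))))))))) (nat_lit 62) (nat_lit 2),
  Rule.mk (nat_lit 10) (nat_lit 94) (Steps.bwd (nat_lit 16) (Steps.bwd (nat_lit 19) (Steps.bwd (nat_lit 19) (Steps.bwd (nat_lit 11) (Steps.bwd (nat_lit 17) Steps.nil))))) (nat_lit 34) (nat_lit 3),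
  Rule.mk (nat_lit 10) (nat_lit 286) (Steps.fwd (nat_lit 16384) (Steps.fwd (nat_lit 65536) (Steps.fwd (nat_lit 90112) (Steps.bwd (nat_lit 3) (Steps.fwd (nat_lit 16384) (Steps.bwd (nat_lit 4) (Steps.bwd (nat_lit 7) (Steps.bwd (nat_lit 10) (Steps.bwd (nat_lit 7) (Steps.bwd (nat_lit 9) (Steps.fwd (nat_lit 24576) (Steps.bwd (nat_lit 4) (Steps.fwd (nat_lit 8192) (Steps.fwd (nat_lit 81920) (Steps.bwd (nat_lit 1) (Steps.bwd (nat_lit 10) (Steps.bwd (nat_lit 2) Steps.nil))))))))))))))))) (nat_lit 57) (nat_lit 8),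
  Rule.mk (nat_lit 15) (nat_lit 110) (Steps.bwd (nat_lit 10) (Steps.bwd (nat_lit 16) (Steps.fwd (nat_lit 8192) (Steps.fwd (nat_lit 114688) (Steps.fwd (nat_lit 16384) (Steps.bwd (nat_lit 15) Steps.nil)))))) (nat_lit 45) (nat_lit 2),
  Rule.mk (nat_lit 4) (nat_lit 126) (Steps.bwd (nat_lit 2) (Steps.fwd (nat_lit 24576) (Steps.bwd (nat_lit 2) (Steps.bwd (nat_lit 4) (Steps.fwd (nat_lit 8192) (Steps.bwd (nat_lit 4) (Steps.bwd (nat_lit 2) Steps.nil))))))) (nat_lit 5) (nat_lit 1),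
  Rule.mk (nat_lit 7) (nat_lit 126) (Steps.fwd (nat_lit 155648) (Steps.bwd (nat_lit 7) (Steps.fwd (nat_lit 147456) (Steps.bwd (nat_lit 7) (Steps.fwd (nat_lit 155648) (Steps.bwd (nat_lit 2) (Steps.bwd (nat_lit 2) Steps.nil))))))) (nat_lit 86) (nat_lit 1),
  Rule.mk (nat_lit 2) (nat_lit 94) (Steps.bwd (nat_lit 8) (Steps.bwd (nat_lit 1) (Steps.bwd (nat_lit 7) (Steps.bwd (nat_lit 2) (Steps.bwd (nat_lit 2) Steps.nil))))) (nat_lit 82) (nat_lit 0),
  Rule.mk (nat_lit 11) (nat_lit 286) (Steps.bwd (nat_lit 8) (Steps.fwd (nat_lit 8192) (Steps.bwd (nat_lit 11) (Steps.fwd (nat_lit 16384) (Steps.bwd (nat_lit 11) (Steps.fwd (nat_lit 8192) (Steps.fwd (nat_lit 90112) (Steps.fwd (nat_lit 16384) (Steps.bwd (nat_lit 3) (Steps.fwd (nat_lit 32768) (Steps.fwd (nat_lit 73728) (Steps.bwd (nat_lit 8) (Steps.bwd (nat_lit 11) (Steps.bwd (nat_lit 8) (Steps.fwd (nat_lit 32768) (Steps.bwd (nat_lit 2) (Steps.fwd (nat_lit 24576) Steps.nil)))))))))))))))))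 (nat_lit 56) (nat_lit 8),
  Rule.mk (nat_lit 11) (nat_lit 270) (Steps.bwd (nat_lit 17) (Steps.fwd (nat_lit 147456) (Steps.bwd (nat_lit 1) (Steps.fwd (nat_lit 73728) (Steps.fwd (nat_lit 16384) (Steps.fwd (nat_lit 73728) (Steps.fwd (nat_lit 16384) (Steps.fwd (nat_lit 98304) (Steps.fwd (nat_lit 32768) (Steps.bwd (nat_lit 9) (Steps.bwd (nat_lit 8) (Steps.bwd (nat_lit 1) (Steps.fwd (nat_lit 32768) (Steps.bwd (nat_lit 3) (Steps.bwd (nat_lit 2) (Steps.bwd (nat_lit 4) Steps.nil)))))))))))))))) (nat_lit 77) (nat_lit 6),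
  Rule.mk (nat_lit 17) (nat_lit 110) (Steps.bwd (nat_lit 11) (Steps.fwd (nat_lit 122880) (Steps.fwd (nat_lit 122880) (Steps.fwd (nat_lit 8192) (Steps.fwd (nat_lit 122880) (Steps.bwd (nat_lit 1) Steps.nil)))))) (nat_lit 44) (nat_lit 4),
  Rule.mk (nat_lit 8) (nat_lit 286) (Steps.bwd (nat_lit 11) (Steps.fwd (nat_lit 57344) (Steps.fwd (nat_lit 32768) (Steps.bwd (nat_lit 2) (Steps.fwd (nat_lit 24576) (Steps.fwd (nat_lit 81920) (Steps.bwd (nat_lit 8) (Steps.bwd (nat_lit 2) (Steps.bwd (nat_lit 11) (Steps.bwd (nat_lit 1) (Steps.fwd (nat_lit 81920) (Steps.bwd (nat_lit 2) (Steps.bwd (nat_lit 10) (Steps.fwd (nat_lit 16384) (Steps.fwd (nat_lit 32768) (Steps.fwd (nat_lit 32768) (Steps.fwd (nat_lit 73728) Steps.nil))))))))))))))))) (nat_lit 56) (nat_lit 2),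
  Rule.mk (nat_lit 1) (nat_lit 94) (Steps.fwd (nat_lit 16384) (Steps.bwd (nat_lit 1) (Steps.fwd (nat_lit 16384) (Steps.bwd (nat_lit 8) (Steps.bwd (nat_lit 8) Steps.nil))))) (nat_lit 79) (nat_lit 1),
  Rule.mk (nat_lit 0) (nat_lit 142) (Steps.bwd (nat_lit 8) (Steps.fwd (nat_lit 147456) (Steps.bwd (nat_lit 8) (Steps.bwd (nat_lit 1) (Steps.bwd (nat_lit 1) (Steps.bwd (nat_lit 19) (Steps.fwd (nat_lit 57344) (Steps.fwd (nat_lit 155648) Steps.nil)))))))) (nat_lit 87) (nat_lit 5),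
  Rule.mk (nat_lit 9) (nat_lit 270) (Steps.bwd (nat_lit 1) (Steps.fwd (nat_lit 98304) (Steps.fwd (nat_lit 32768) (Steps.fwd (nat_lit 73728) (Steps.fwd (nat_lit 57344) (Steps.fwd (nat_lit 16384) (Steps.fwd (nat_lit 32768) (Steps.bwd (nat_lit 3) (Steps.fwd (nat_lit 8192) (Steps.fwd (nat_lit 24576) (Steps.fwd (nat_lit 81920) (Steps.bwd (nat_lit 17) (Steps.bwd (nat_lit 19) (Steps.bwd (nat_lit 1) (Steps.bwd (nat_lit 9) (Steps.fwd (nat_lit 16384) Steps.nil)))))))))))))))) (nat_lit 77) (nat_lit 12)]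
noncomputable def R_87 : List (Rule) := [Rule.mk (nat_lit 9) (nat_lit 110) (Steps.bwd (nat_lit 3) (Steps.fwd (nat_lit 73728) (Steps.bwd (nat_lit 16) (Steps.bwd (nat_lit 16) (Steps.bwd (nat_lit 14) (Steps.fwd (nat_lit 81920) Steps.nil)))))) (nat_lit 70) (nat_lit 1),
  Rule.mk (nat_lit 11) (nat_lit 110) (Steps.bwd (nat_lit 9) (Steps.bwd (nat_lit 3) (Steps.bwd (nat_lit 9) (Steps.fwd (nat_lit 139264) (Steps.bwd (nat_lit 16) (Steps.fwd (nat_lit 122880) Steps.nil)))))) (nat_lit 70) (nat_lit 0),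
  Rule.mk (nat_lit 13) (nat_lit 190) (Steps.bwd (nat_lit 9) (Steps.bwd (nat_lit 2) (Steps.fwd (nat_lit 8192) (Steps.bwd (nat_lit 2) (Steps.fwd (nat_lit 114688) (Steps.bwd (nat_lit 2) (Steps.bwd (nat_lit 16) (Steps.fwd (nat_lit 98304) (Steps.bwd (nat_lit 9) (Steps.fwd (nat_lit 106496) (Steps.bwd (nat_lit 9) Steps.nil))))))))))) (nat_lit 75) (nat_lit 11),
  Rule.mk (nat_lit 9) (nat_lit 110) (Steps.bwd (nat_lit 11) (Steps.bwd (nat_lit 9) (Steps.fwd (nat_lit 32768) (Steps.fwd (nat_lit 122880) (Steps.bwd (nat_lit 3) (Steps.fwd (nat_lit 81920) Steps.nil)))))) (nat_lit 61) (nat_lit 5),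
  Rule.mk (nat_lit 8) (nat_lit 286) (Steps.bwd (nat_lit 11) (Steps.bwd (nat_lit 8) (Steps.bwd (nat_lit 3) (Steps.fwd (nat_lit 8192) (Steps.fwd (nat_lit 24576) (Steps.bwd (nat_lit 11) (Steps.fwd (nat_lit 57344) (Steps.fwd (nat_lit 8192) (Steps.fwd (nat_lit 81920) (Steps.fwd (nat_lit 16384) (Steps.bwd (nat_lit 11) (Steps.bwd (nat_lit 2) (Steps.fwd (nat_lit 90112) (Steps.bwd (nat_lit 1) (Steps.bwd (nat_lit 3) (Steps.bwd (nat_lit 3) (Steps.fwd (nat_lit 73728) Steps.nil))))))))))))))))) (nat_lit 56) (nat_lit 2),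
  Rule.mk (nat_lit 8) (nat_lit 126) (Steps.fwd (nat_lit 155648) (Steps.bwd (nat_lit 8) (Steps.fwd (nat_lit 147456) (Steps.fwd (nat_lit 57344) (Steps.fwd (nat_lit 16384) (Steps.bwd (nat_lit 1) (Steps.bwd (nat_lit 19) Steps.nil))))))) (nat_lit 87) (nat_lit 4),
  Rule.mk (nat_lit 10) (nat_lit 110) (Steps.bwd (nat_lit 9) (Steps.fwd (nat_lit 90112) (Steps.fwd (nat_lit 24576) (Steps.fwd (nat_lit 114688) (Steps.bwd (nat_lit 4) (Steps.fwd (nat_lit 73728) Steps.nil)))))) (nat_lit 60) (nat_lit 2),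
  Rule.mk (nat_lit 18) (nat_lit 110) (Steps.bwd (nat_lit 9) (Steps.fwd (nat_lit 139264) (Steps.fwd (nat_lit 81920) (Steps.fwd (nat_lit 122880) (Steps.bwd (nat_lit 11) (Steps.fwd (nat_lit 73728) Steps.nil)))))) (nat_lit 66) (nat_lit 2),
  Rule.mk (nat_lit 2) (nat_lit 206) (Steps.bwd (nat_lit 9) (Steps.bwd (nat_lit 1) (Steps.bwd (nat_lit 3) (Steps.bwd (nat_lit 3) (Steps.fwd (nat_lit 16384) (Steps.bwd (nat_lit 4) (Steps.fwd (nat_lit 16384) (Steps.fwd (nat_lit 90112) (Steps.fwd (nat_lit 155648) (Steps.bwd (nat_lit 17) (Steps.bwd (nat_lit 9) (Steps.bwd (nat_lit 2) Steps.nil)))))))))))) (nat_lit 69) (nat_lit 12),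
  Rule.mk (nat_lit 2) (nat_lit 94) (Steps.fwd (nat_lit 8192) (Steps.fwd (nat_lit 65536) (Steps.bwd (nat_lit 7) (Steps.bwd (nat_lit 2) (Steps.bwd (nat_lit 2) Steps.nil))))) (nat_lit 78) (nat_lit 5),
  Rule.mk (nat_lit 15) (nat_lit 190) (Steps.bwd (nat_lit 2) (Steps.fwd (nat_lit 139264) (Steps.bwd (nat_lit 13) (Steps.bwd (nat_lit 9) (Steps.bwd (nat_lit 12) (Steps.bwd (nat_lit 9) (Steps.bwd (nat_lit 13) (Steps.bwd (nat_lit 9) (Steps.fwd (nat_lit 8192) (Steps.bwd (nat_lit 2) (Steps.bwd (nat_lit 2) Steps.nil))))))))))) (nat_lit 75) (nat_lit 4),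
  Rule.mk (nat_lit 1) (nat_lit 94) (Steps.bwd (nat_lit 1) (Steps.fwd (nat_lit 16384) (Steps.bwd (nat_lit 8) (Steps.fwd (nat_lit 8192) (Steps.fwd (nat_lit 65536) Steps.nil))))) (nat_lit 83) (nat_lit 1),
  Rule.mk (nat_lit 19) (nat_lit 126) (Steps.bwd (nat_lit 8) (Steps.fwd (nat_lit 155648) (Steps.fwd (nat_lit 57344) (Steps.bwd (nat_lit 19) (Steps.fwd (nat_lit 57344) (Steps.bwd (nat_lit 1) (Steps.bwd (nat_lit 1) Steps.nil))))))) (nat_lit 87) (nat_lit 3),
  Rule.mk (nat_lit 15) (nat_lit 126) (Steps.bwd (nat_lit 3) (Steps.fwd (nat_lit 90112) (Steps.fwd (nat_lit 90112) (Steps.fwd (nat_lit 139264) (Steps.fwd (nat_lit 114688) (Steps.fwd (nat_lit 114688) (Steps.fwd (nat_lit 24576) Steps.nil))))))) (nat_lit 53) (nat_lit 7),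
  Rule.mk (nat_lit 7) (nat_lit 94) (Steps.bwd (nat_lit 2) (Steps.bwd (nat_lit 2) (Steps.bwd (nat_lit 2) (Steps.fwd (nat_lit 57344) (Steps.fwd (nat_lit 16384) Steps.nil))))) (nat_lit 82) (nat_lit 3),
  Rule.mk (nat_lit 11) (nat_lit 206) (Steps.bwd (nat_lit 2) (Steps.fwd (nat_lit 32768) (Steps.fwd (nat_lit 8192) (Steps.bwd (nat_lit 4) (Steps.bwd (nat_lit 4) (Steps.bwd (nat_lit 2) (Steps.bwd (nat_lit 9) (Steps.fwd (nat_lit 16384) (Steps.bwd (nat_lit 1) (Steps.fwd (nat_lit 73728) (Steps.fwd (nat_lit 139264) (Steps.bwd (nat_lit 19) Steps.nil)))))))))))) (nat_lit 68) (nat_lit 7),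
  Rule.mk (nat_lit 9) (nat_lit 206) (Steps.bwd (nat_lit 2) (Steps.fwd (nat_lit 32768) (Steps.fwd (nat_lit 8192) (Steps.bwd (nat_lit 4) (Steps.bwd (nat_lit 4) (Steps.bwd (nat_lit 2) (Steps.bwd (nat_lit 9) (Steps.fwd (nat_lit 16384) (Steps.bwd (nat_lit 1) (Steps.bwd (nat_lit 10) (Steps.bwd (nat_lit 18) (Steps.fwd (nat_lit 131072) Steps.nil)))))))))))) (nat_lit 73) (nat_lit 6),
  Rule.mk (nat_lit 16) (nat_lit 110) (Steps.fwd (nat_lit 73728) (Steps.bwd (nat_lit 17) (Steps.fwd (nat_lit 122880) (Steps.fwd (nat_lit 24576) (Steps.fwd (nat_lit 24576) (Steps.bwd (nat_lit 9) Steps.nil)))))) (nat_lit 64) (nat_lit 2),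
  Rule.mk (nat_lit 18) (nat_lit 110) (Steps.fwd (nat_lit 73728) (Steps.bwd (nat_lit 16) (Steps.fwd (nat_lit 81920) (Steps.fwd (nat_lit 122880) (Steps.bwd (nat_lit 11) (Steps.bwd (nat_lit 9) Steps.nil)))))) (nat_lit 66) (nat_lit 2),
  Rule.mk (nat_lit 4) (nat_lit 110) (Steps.bwd (nat_lit 9) (Steps.bwd (nat_lit 10) (Steps.fwd (nat_lit 114688) (Steps.bwd (nat_lit 17) (Steps.fwd (nat_lit 131072) (Steps.bwd (nat_lit 9) Steps.nil)))))) (nat_lit 71) (nat_lit 6),
  Rule.mk (nat_lit 9) (nat_lit 270) (Steps.fwd (nat_lit 57344) (Steps.fwd (nat_lit 16384) (Steps.fwd (nat_lit 32768) (Steps.bwd (nat_lit 3) (Steps.bwd (nat_lit 2) (Steps.fwd (nat_lit 24576) (Steps.bwd (nat_lit 11) (Steps.fwd (nat_lit 131072) (Steps.fwd (nat_lit 147456) (Steps.fwd (nat_lit 16384) (Steps.bwd (nat_lit 9) (Steps.fwd (nat_lit 16384) (Steps.bwd (nat_lit 9) (Steps.fwd (nat_lit 16384) (Steps.bwd (nat_lit 13) (Steps.bwd (nat_lit 3) Steps.nil))))))))))))))))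 (nat_lit 77) (nat_lit 16),
  Rule.mk (nat_lit 15) (nat_lit 110) (Steps.bwd (nat_lit 4) (Steps.bwd (nat_lit 9) (Steps.bwd (nat_lit 10) (Steps.fwd (nat_lit 73728) (Steps.fwd (nat_lit 90112) (Steps.fwd (nat_lit 24576) Steps.nil)))))) (nat_lit 60) (nat_lit 6),
  Rule.mk (nat_lit 2) (nat_lit 110) (Steps.bwd (nat_lit 14) (Steps.fwd (nat_lit 16384) (Steps.bwd (nat_lit 17) (Steps.fwd (nat_lit 81920) (Steps.fwd (nat_lit 122880) (Steps.bwd (nat_lit 14) Steps.nil)))))) (nat_lit 44) (nat_lit 1),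
  Rule.mk (nat_lit 1) (nat_lit 190) (Steps.bwd (nat_lit 14) (Steps.fwd (nat_lit 16384) (Steps.fwd (nat_lit 16384) (Steps.fwd (nat_lit 16384) (Steps.bwd (nat_lit 9) (Steps.bwd (nat_lit 12) (Steps.fwd (nat_lit 73728) (Steps.fwd (nat_lit 98304) (Steps.bwd (nat_lit 9) (Steps.bwd (nat_lit 12) (Steps.fwd (nat_lit 131072) Steps.nil))))))))))) (nat_lit 74) (nat_lit 8),
  Rule.mk (nat_lit 3) (nat_lit 94) (Steps.fwd (nat_lit 8192) (Steps.bwd (nat_lit 2) (Steps.fwd (nat_lit 24576) (Steps.bwd (nat_lit 1) (Steps.bwd (nat_lit 1) Steps.nil))))) (nat_lit 6) (nat_lit 0),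
  Rule.mk (nat_lit 10) (nat_lit 286) (Steps.bwd (nat_lit 3) (Steps.fwd (nat_lit 16384) (Steps.bwd (nat_lit 4) (Steps.bwd (nat_lit 7) (Steps.fwd (nat_lit 90112) (Steps.fwd (nat_lit 65536) (Steps.bwd (nat_lit 9) (Steps.fwd (nat_lit 24576) (Steps.bwd (nat_lit 4) (Steps.fwd (nat_lit 8192) (Steps.bwd (nat_lit 11) (Steps.fwd (nat_lit 16384) (Steps.bwd (nat_lit 10) (Steps.fwd (nat_lit 8192) (Steps.bwd (nat_lit 10) (Steps.fwd (nat_lit 16384) (Steps.bwd (nat_lit 7) Steps.nil))))))))))))))))) (nat_lit 57) (nat_lit 11),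
  Rule.mk (nat_lit 19) (nat_lit 126) (Steps.bwd (nat_lit 8) (Steps.fwd (nat_lit 16384) (Steps.fwd (nat_lit 16384) (Steps.bwd (nat_lit 19) (Steps.bwd (nat_lit 8) (Steps.bwd (nat_lit 18) (Steps.bwd (nat_lit 8) Steps.nil))))))) (nat_lit 87) (nat_lit 7),
  Rule.mk (nat_lit 2) (nat_lit 190) (Steps.fwd (nat_lit 24576) (Steps.fwd (nat_lit 16384) (Steps.bwd (nat_lit 3) (Steps.fwd (nat_lit 8192) (Steps.bwd (nat_lit 4) (Steps.fwd (nat_lit 16384) (Steps.fwd (nat_lit 32768) (Steps.fwd (nat_lit 8192) (Steps.fwd (nat_lit 24576) (Steps.bwd (nat_lit 1) (Steps.bwd (nat_lit 3) Steps.nil))))))))))) (nat_lit 8) (nat_lit 1),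
  Rule.mk (nat_lit 4) (nat_lit 126) (Steps.bwd (nat_lit 12) (Steps.bwd (nat_lit 3) (Steps.fwd (nat_lit 139264) (Steps.bwd (nat_lit 10) (Steps.bwd (nat_lit 16) (Steps.fwd (nat_lit 114688) (Steps.bwd (nat_lit 13) Steps.nil))))))) (nat_lit 50) (nat_lit 1),
  Rule.mk (nat_lit 9) (nat_lit 110) (Steps.fwd (nat_lit 32768) (Steps.fwd (nat_lit 122880) (Steps.bwd (nat_lit 3) (Steps.bwd (nat_lit 11) (Steps.fwd (nat_lit 73728) (Steps.bwd (nat_lit 11) Steps.nil)))))) (nat_lit 61) (nat_lit 0),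
  Rule.mk (nat_lit 8) (nat_lit 126) (Steps.fwd (nat_lit 147456) (Steps.fwd (nat_lit 57344) (Steps.bwd (nat_lit 1) (Steps.fwd (nat_lit 16384) (Steps.bwd (nat_lit 19) (Steps.fwd (nat_lit 57344) (Steps.bwd (nat_lit 18) Steps.nil))))))) (nat_lit 87) (nat_lit 6),
  Rule.mk (nat_lit 9) (nat_lit 158) (Steps.bwd (nat_lit 14) (Steps.bwd (nat_lit 9) (Steps.bwd (nat_lit 1) (Steps.fwd (nat_lit 139264) (Steps.fwd (nat_lit 90112) (Steps.fwd (nat_lit 98304) (Steps.bwd (nat_lit 2) (Steps.fwd (nat_lit 24576) (Steps.fwd (nat_lit 24576) Steps.nil))))))))) (nat_lit 62) (nat_lit 1),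
  Rule.mk (nat_lit 1) (nat_lit 158) (Steps.bwd (nat_lit 16) (Steps.fwd (nat_lit 90112) (Steps.bwd (nat_lit 13) (Steps.bwd (nat_lit 2) (Steps.fwd (nat_lit 24576) (Steps.fwd (nat_lit 24576) (Steps.fwd (nat_lit 73728) (Steps.fwd (nat_lit 122880) (Steps.bwd (nat_lit 9) Steps.nil))))))))) (nat_lit 62) (nat_lit 4),
  Rule.mk (nat_lit 18) (nat_lit 126) (Steps.bwd (nat_lit 8) (Steps.fwd (nat_lit 147456) (Steps.bwd (nat_lit 8) (Steps.bwd (nat_lit 1) (Steps.bwd (nat_lit 1) (Steps.bwd (nat_lit 19) (Steps.fwd (nat_lit 57344) Steps.nil))))))) (nat_lit 87) (nat_lit 5),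
  Rule.mk (nat_lit 11) (nat_lit 286) (Steps.bwd (nat_lit 8) (Steps.bwd (nat_lit 3) (Steps.fwd (nat_lit 8192) (Steps.fwd (nat_lit 24576) (Steps.bwd (nat_lit 11) (Steps.bwd (nat_lit 8) (Steps.bwd (nat_lit 2) (Steps.fwd (nat_lit 81920) (Steps.bwd (nat_lit 1) (Steps.bwd (nat_lit 11) (Steps.bwd (nat_lit 2) (Steps.fwd (nat_lit 90112) (Steps.fwd (nat_lit 16384) (Steps.fwd (nat_lit 32768) (Steps.bwd (nat_lit 3) (Steps.bwd (nat_lit 9) (Steps.fwd (nat_lit 57344) Steps.nil))))))))))))))))) (nat_lit 56) (nat_lit 3),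
  Rule.mk (nat_lit 17) (nat_lit 142) (Steps.fwd (nat_lit 122880) (Steps.fwd (nat_lit 106496) (Steps.bwd (nat_lit 11) (Steps.bwd (nat_lit 2) (Steps.fwd (nat_lit 139264) (Steps.fwd (nat_lit 16384) (Steps.fwd (nat_lit 131072) (Steps.bwd (nat_lit 11) Steps.nil)))))))) (nat_lit 46) (nat_lit 6),
  Rule.mk (nat_lit 1) (nat_lit 286) (Steps.fwd (nat_lit 90112) (Steps.fwd (nat_lit 8192) (Steps.bwd (nat_lit 10) (Steps.fwd (nat_lit 16384) (Steps.bwd (nat_lit 7) (Steps.bwd (nat_lit 10) (Steps.bwd (nat_lit 3) (Steps.fwd (nat_lit 16384) (Steps.fwd (nat_lit 24576) (Steps.fwd (nat_lit 65536) (Steps.bwd (nat_lit 10) (Steps.fwd (nat_lit 65536) (Steps.bwd (nat_lit 9) (Steps.bwd (nat_lit 4) (Steps.fwd (nat_lit 24576) (Steps.fwd (nat_lit 8192) (Steps.bwd (nat_lit 11) Steps.nil))))))))))))))))) (nat_lit 57) (nat_lit 5),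
  Rule.mk (nat_lit 16) (nat_lit 126) (Steps.fwd (nat_lit 90112) (Steps.fwd (nat_lit 139264) (Steps.fwd (nat_lit 114688) (Steps.bwd (nat_lit 13) (Steps.fwd (nat_lit 24576) (Steps.fwd (nat_lit 106496) (Steps.bwd (nat_lit 3) Steps.nil))))))) (nat_lit 50) (nat_lit 4),
  Rule.mk (nat_lit 16) (nat_lit 110) (Steps.bwd (nat_lit 16) (Steps.fwd (nat_lit 122880) (Steps.bwd (nat_lit 11) (Steps.bwd (nat_lit 9) (Steps.bwd (nat_lit 3) (Steps.fwd (nat_lit 73728) Steps.nil)))))) (nat_lit 70) (nat_lit 4),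
  Rule.mk (nat_lit 7) (nat_lit 270) (Steps.fwd (nat_lit 73728) (Steps.bwd (nat_lit 4) (Steps.bwd (nat_lit 12) (Steps.bwd (nat_lit 2) (Steps.fwd (nat_lit 73728) (Steps.fwd (nat_lit 8192) (Steps.fwd (nat_lit 73728) (Steps.fwd (nat_lit 8192) (Steps.bwd (nat_lit 18) (Steps.bwd (nat_lit 16) (Steps.fwd (nat_lit 90112) (Steps.bwd (nat_lit 3) (Steps.fwd (nat_lit 16384) (Steps.fwd (nat_lit 24576) (Steps.bwd (nat_lit 4) (Steps.bwd (nat_lit 2) Steps.nil)))))))))))))))) (nat_lit 76) (nat_lit 1),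
  Rule.mk (nat_lit 14) (nat_lit 110) (Steps.bwd (nat_lit 1) (Steps.bwd (nat_lit 17) (Steps.bwd (nat_lit 11) (Steps.bwd (nat_lit 14) (Steps.bwd (nat_lit 14) (Steps.bwd (nat_lit 2) Steps.nil)))))) (nat_lit 44) (nat_lit 2),
  Rule.mk (nat_lit 16) (nat_lit 142) (Steps.bwd (nat_lit 1) (Steps.bwd (nat_lit 17) (Steps.bwd (nat_lit 11) (Steps.fwd (nat_lit 131072) (Steps.bwd (nat_lit 14) (Steps.bwd (nat_lit 12) (Steps.fwd (nat_lit 81920) (Steps.fwd (nat_lit 8192) Steps.nil)))))))) (nat_lit 46) (nat_lit 2),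
  Rule.mk (nat_lit 9) (nat_lit 158) (Steps.bwd (nat_lit 1) (Steps.fwd (nat_lit 139264) (Steps.bwd (nat_lit 10) (Steps.fwd (nat_lit 98304) (Steps.bwd (nat_lit 2) (Steps.bwd (nat_lit 4) (Steps.bwd (nat_lit 4) (Steps.fwd (nat_lit 73728) (Steps.bwd (nat_lit 14) Steps.nil))))))))) (nat_lit 62) (nat_lit 3),
  Rule.mk (nat_lit 4) (nat_lit 206) (Steps.bwd (nat_lit 1) (Steps.bwd (nat_lit 10) (Steps.fwd (nat_lit 155648) (Steps.bwd (nat_lit 17) (Steps.bwd (nat_lit 9) (Steps.fwd (nat_lit 8192) (Steps.bwd (nat_lit 2) (Steps.fwd (nat_lit 73728) (Steps.fwd (nat_lit 16384) (Steps.bwd (nat_lit 3) (Steps.bwd (nat_lit 3) (Steps.fwd (nat_lit 16384) Steps.nil)))))))))))) (nat_lit 69) (nat_lit 5),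
  Rule.mk (nat_lit 10) (nat_lit 286) (Steps.bwd (nat_lit 1) (Steps.bwd (nat_lit 3) (Steps.fwd (nat_lit 32768) (Steps.fwd (nat_lit 73728) (Steps.fwd (nat_lit 57344) (Steps.bwd (nat_lit 11) (Steps.bwd (nat_lit 8) (Steps.fwd (nat_lit 32768) (Steps.fwd (nat_lit 8192) (Steps.fwd (nat_lit 24576) (Steps.bwd (nat_lit 11) (Steps.fwd (nat_lit 57344) (Steps.bwd (nat_lit 2) (Steps.bwd (nat_lit 11) (Steps.bwd (nat_lit 1) (Steps.fwd (nat_lit 81920) (Steps.fwd (nat_lit 8192) Steps.nil))))))))))))))))) (nat_lit 56) (nat_lit 15),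
  Rule.mk (nat_lit 17) (nat_lit 110) (Steps.fwd (nat_lit 73728) (Steps.bwd (nat_lit 19) (Steps.bwd (nat_lit 9) (Steps.bwd (nat_lit 10) (Steps.bwd (nat_lit 15) (Steps.fwd (nat_lit 90112) Steps.nil)))))) (nat_lit 67) (nat_lit 4),
  Rule.mk (nat_lit 14) (nat_lit 110) (Steps.fwd (nat_lit 16384) (Steps.fwd (nat_lit 131072) (Steps.bwd (nat_lit 11) (Steps.bwd (nat_lit 14) (Steps.fwd (nat_lit 122880) (Steps.bwd (nat_lit 2) Steps.nil)))))) (nat_lit 44) (nat_lit 2),
  Rule.mk (nat_lit 4) (nat_lit 286) (Steps.fwd (nat_lit 81920) (Steps.bwd (nat_lit 8) (Steps.fwd (nat_lit 8192) (Steps.bwd (nat_lit 11) (Steps.fwd (nat_lit 16384) (Steps.fwd (nat_lit 81920) (Steps.fwd (nat_lit 8192) (Steps.fwd (nat_lit 90112) (Steps.bwd (nat_lit 1) (Steps.bwd (nat_lit 3) (Steps.fwd (nat_lit 32768) (Steps.bwd (nat_lit 9) (Steps.fwd (nat_lit 57344) (Steps.bwd (nat_lit 11) (Steps.fwd (nat_lit 57344) (Steps.fwd (nat_lit 32768) (Steps.bwd (nat_lit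 2) Steps.nil))))))))))))))))) (nat_lit 56) (nat_lit 7),
  Rule.mk (nat_lit 0) (nat_lit 110) (Steps.bwd (nat_lit 7) (Steps.fwd (nat_lit 65536) (Steps.bwd (nat_lit 2) (Steps.bwd (nat_lit 2) (Steps.bwd (nat_lit 2) (Steps.bwd (nat_lit 2) Steps.nil)))))) (nat_lit 78) (nat_lit 0),
  Rule.mk (nat_lit 9) (nat_lit 206) (Steps.bwd (nat_lit 2) (Steps.bwd (nat_lit 2) (Steps.fwd (nat_lit 73728) (Steps.bwd (nat_lit 1) (Steps.fwd (nat_lit 32768) (Steps.fwd (nat_lit 32768) (Steps.fwd (nat_lit 16384) (Steps.fwd (nat_lit 24576) (Steps.fwd (nat_lit 16384) (Steps.bwd (nat_lit 10) (Steps.fwd (nat_lit 155648) (Steps.fwd (nat_lit 131072) Steps.nil)))))))))))) (nat_lit 69) (nat_lit 10),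
  Rule.mk (nat_lit 4) (nat_lit 270) (Steps.bwd (nat_lit 2) (Steps.bwd (nat_lit 7) (Steps.bwd (nat_lit 9) (Steps.bwd (nat_lit 4) (Steps.fwd (nat_lit 106496) (Steps.fwd (nat_lit 8192) (Steps.bwd (nat_lit 9) (Steps.bwd (nat_lit 2) (Steps.fwd (nat_lit 73728) (Steps.bwd (nat_lit 2) (Steps.fwd (nat_lit 155648) (Steps.fwd (nat_lit 139264) (Steps.fwd (nat_lit 90112) (Steps.bwd (nat_lit 3) (Steps.fwd (nat_lit 16384) (Steps.fwd (nat_lit 24576) Steps.nil)))))))))))))))) (nat_lit 76) (nat_lit 16),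
  Rule.mk (nat_lit 15) (nat_lit 110) (Steps.bwd (nat_lit 4) (Steps.bwd (nat_lit 9) (Steps.fwd (nat_lit 90112) (Steps.fwd (nat_lit 73728) (Steps.bwd (nat_lit 10) (Steps.fwd (nat_lit 24576) Steps.nil)))))) (nat_lit 60) (nat_lit 6),
  Rule.mk (nat_lit 3) (nat_lit 126) (Steps.bwd (nat_lit 12) (Steps.bwd (nat_lit 14) (Steps.bwd (nat_lit 17) (Steps.fwd (nat_lit 81920) (Steps.fwd (nat_lit 131072) (Steps.fwd (nat_lit 24576) (Steps.bwd (nat_lit 13) Steps.nil))))))) (nat_lit 51) (nat_lit 0),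
  Rule.mk (nat_lit 14) (nat_lit 142) (Steps.bwd (nat_lit 12) (Steps.fwd (nat_lit 81920) (Steps.bwd (nat_lit 2) (Steps.fwd (nat_lit 139264) (Steps.bwd (nat_lit 1) (Steps.bwd (nat_lit 17) (Steps.bwd (nat_lit 11) (Steps.fwd (nat_lit 131072) Steps.nil)))))))) (nat_lit 46) (nat_lit 7),
  Rule.mk (nat_lit 9) (nat_lit 158) (Steps.bwd (nat_lit 1) (Steps.bwd (nat_lit 16) (Steps.fwd (nat_lit 90112) (Steps.bwd (nat_lit 13) (Steps.fwd (nat_lit 8192) (Steps.fwd (nat_lit 24576) (Steps.fwd (nat_lit 24576) (Steps.bwd (nat_lit 9) (Steps.bwd (nat_lit 14) Steps.nil))))))))) (nat_lit 62) (nat_lit 3),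
  Rule.mk (nat_lit 12) (nat_lit 190) (Steps.bwd (nat_lit 9) (Steps.fwd (nat_lit 98304) (Steps.fwd (nat_lit 73728) (Steps.fwd (nat_lit 106496) (Steps.fwd (nat_lit 131072) (Steps.bwd (nat_lit 1) (Steps.fwd (nat_lit 122880) (Steps.fwd (nat_lit 16384) (Steps.fwd (nat_lit 16384) (Steps.bwd (nat_lit 1) (Steps.fwd (nat_lit 73728) Steps.nil))))))))))) (nat_lit 74) (nat_lit 2),
  Rule.mk (nat_lit 7) (nat_lit 286) (Steps.bwd (nat_lit 9) (Steps.bwd (nat_lit 4) (Steps.fwd (nat_lit 24576) (Steps.fwd (nat_lit 8192) (Steps.fwd (nat_lit 81920) (Steps.bwd (nat_lit 1) (Steps.bwd (nat_lit 10) (Steps.fwd (nat_lit 8192) (Steps.fwd (nat_lit 90112) (Steps.fwd (nat_lit 16384) (Steps.bwd (nat_lit 7) (Steps.fwd (nat_lit 90112) (Steps.bwd (nat_lit 3) (Steps.fwd (nat_lit 16384) (Steps.fwd (nat_lit 24576) (Steps.fwd (nat_lit 65536) (Steps.bwd (nat_lit 10) Steps.nil))))))))))))))))) (nat_lit 57) (nat_lit 17),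
  Rule.mk (nat_lit 16) (nat_lit 126) (Steps.fwd (nat_lit 90112) (Steps.bwd (nat_lit 16) (Steps.bwd (nat_lit 15) (Steps.bwd (nat_lit 13) (Steps.fwd (nat_lit 24576) (Steps.fwd (nat_lit 106496) (Steps.bwd (nat_lit 3) Steps.nil))))))) (nat_lit 50) (nat_lit 4),
  Rule.mk (nat_lit 19) (nat_lit 126) (Steps.bwd (nat_lit 8) (Steps.bwd (nat_lit 1) (Steps.bwd (nat_lit 1) (Steps.fwd (nat_lit 147456) (Steps.bwd (nat_lit 8) (Steps.fwd (nat_lit 155648) (Steps.fwd (nat_lit 57344) Steps.nil))))))) (nat_lit 87) (nat_lit 7),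
  Rule.mk (nat_lit 18) (nat_lit 126) (Steps.bwd (nat_lit 8) (Steps.bwd (nat_lit 19) (Steps.bwd (nat_lit 8) (Steps.bwd (nat_lit 1) (Steps.bwd (nat_lit 1) (Steps.fwd (nat_lit 147456) (Steps.bwd (nat_lit 8) Steps.nil))))))) (nat_lit 87) (nat_lit 5),
  Rule.mk (nat_lit 10) (nat_lit 110) (Steps.bwd (nat_lit 9) (Steps.bwd (nat_lit 10) (Steps.fwd (nat_lit 24576) (Steps.fwd (nat_lit 114688) (Steps.bwd (nat_lit 4) (Steps.fwd (nat_lit 73728) Steps.nil)))))) (nat_lit 60) (nat_lit 2),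
  Rule.mk (nat_lit 14) (nat_lit 158) (Steps.bwd (nat_lit 9) (Steps.bwd (nat_lit 1) (Steps.fwd (nat_lit 139264) (Steps.fwd (nat_lit 90112) (Steps.bwd (nat_lit 13) (Steps.fwd (nat_lit 8192) (Steps.fwd (nat_lit 24576) (Steps.bwd (nat_lit 4) (Steps.fwd (nat_lit 73728) Steps.nil))))))))) (nat_lit 62) (nat_lit 2),
  Rule.mk (nat_lit 13) (nat_lit 190) (Steps.bwd (nat_lit 9) (Steps.fwd (nat_lit 106496) (Steps.bwd (nat_lit 9) (Steps.bwd (nat_lit 13) (Steps.fwd (nat_lit 73728) (Steps.bwd (nat_lit 2) (Steps.fwd (nat_lit 8192) (Steps.fwd (nat_lit 8192) (Steps.bwd (nat_lit 15) (Steps.fwd (nat_lit 8192) (Steps.bwd (nat_lit 16) Steps.nil))))))))))) (nat_lit 75) (nat_lit 7),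
  Rule.mk (nat_lit 2) (nat_lit 206) (Steps.bwd (nat_lit 9) (Steps.bwd (nat_lit 1) (Steps.bwd (nat_lit 3) (Steps.bwd (nat_lit 3) (Steps.fwd (nat_lit 16384) (Steps.fwd (nat_lit 24576) (Steps.fwd (nat_lit 16384) (Steps.bwd (nat_lit 10) (Steps.fwd (nat_lit 155648) (Steps.fwd (nat_lit 131072) (Steps.bwd (nat_lit 9) (Steps.bwd (nat_lit 2) Steps.nil)))))))))))) (nat_lit 69) (nat_lit 12)]
noncomputable def R_88 : List (Rule) := [Rule.mk (nat_lit 14) (nat_lit 126) (Steps.bwd (nat_lit 14) (Steps.fwd (nat_lit 131072) (Steps.bwd (nat_lit 11) (Steps.fwd (nat_lit 81920) (Steps.bwd (nat_lit 4) (Steps.bwd (nat_lit 14) (Steps.bwd (nat_lit 3) Steps.nil))))))) (nat_lit 52) (nat_lit 4),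
  Rule.mk (nat_lit 9) (nat_lit 158) (Steps.bwd (nat_lit 14) (Steps.bwd (nat_lit 9) (Steps.fwd (nat_lit 16384) (Steps.fwd (nat_lit 139264) (Steps.fwd (nat_lit 90112) (Steps.fwd (nat_lit 98304) (Steps.fwd (nat_lit 8192) (Steps.bwd (nat_lit 4) (Steps.fwd (nat_lit 24576) Steps.nil))))))))) (nat_lit 62) (nat_lit 1),
  Rule.mk (nat_lit 8) (nat_lit 286) (Steps.fwd (nat_lit 32768) (Steps.fwd (nat_lit 8192) (Steps.fwd (nat_lit 24576) (Steps.bwd (nat_lit 11) (Steps.bwd (nat_lit 8) (Steps.bwd (nat_lit 2) (Steps.fwd (nat_lit 81920) (Steps.fwd (nat_lit 16384) (Steps.bwd (nat_lit 11) (Steps.fwd (nat_lit 8192) (Steps.fwd (nat_lit 90112) (Steps.fwd (nat_lit 16384) (Steps.fwd (nat_lit 32768) (Steps.bwd (nat_lit 3) (Steps.bwd (nat_lit 9) (Steps.fwd (nat_lit 57344) (Steps.bwd (nat_lit 11) Steps.nil))))))))))))))))) (nat_lit 56) (nat_lit 4),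
  Rule.mk (nat_lit 16) (nat_lit 142) (Steps.bwd (nat_lit 1) (Steps.fwd (nat_lit 131072) (Steps.bwd (nat_lit 11) (Steps.bwd (nat_lit 17) (Steps.fwd (nat_lit 122880) (Steps.fwd (nat_lit 106496) (Steps.bwd (nat_lit 11) (Steps.bwd (nat_lit 2) Steps.nil)))))))) (nat_lit 46) (nat_lit 2),
  Rule.mk (nat_lit 9) (nat_lit 270) (Steps.bwd (nat_lit 1) (Steps.bwd (nat_lit 13) (Steps.fwd (nat_lit 32768) (Steps.fwd (nat_lit 73728) (Steps.bwd (nat_lit 8) (Steps.bwd (nat_lit 1) (Steps.fwd (nat_lit 32768) (Steps.bwd (nat_lit 3) (Steps.bwd (nat_lit 2) (Steps.fwd (nat_lit 24576) (Steps.fwd (nat_lit 81920) (Steps.bwd (nat_lit 17) (Steps.fwd (nat_lit 147456) (Steps.fwd (nat_lit 16384) (Steps.bwd (nat_lit 9) (Steps.bwd (nat_lit 1) Steps.nil)))))))))))))))) (nat_lit 77) (nat_lit 12),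
  Rule.mk (nat_lit 3) (nat_lit 110) (Steps.fwd (nat_lit 122880) (Steps.fwd (nat_lit 32768) (Steps.fwd (nat_lit 81920) (Steps.bwd (nat_lit 9) (Steps.bwd (nat_lit 11) (Steps.bwd (nat_lit 9) Steps.nil)))))) (nat_lit 61) (nat_lit 1),
  Rule.mk (nat_lit 10) (nat_lit 126) (Steps.bwd (nat_lit 10) (Steps.bwd (nat_lit 16) (Steps.fwd (nat_lit 114688) (Steps.bwd (nat_lit 15) (Steps.bwd (nat_lit 4) (Steps.fwd (nat_lit 114688) (Steps.bwd (nat_lit 3) Steps.nil))))))) (nat_lit 53) (nat_lit 1),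
  Rule.mk (nat_lit 19) (nat_lit 126) (Steps.bwd (nat_lit 8) (Steps.fwd (nat_lit 16384) (Steps.bwd (nat_lit 1) (Steps.bwd (nat_lit 19) (Steps.fwd (nat_lit 57344) (Steps.bwd (nat_lit 18) (Steps.bwd (nat_lit 8) Steps.nil))))))) (nat_lit 87) (nat_lit 7),
  Rule.mk (nat_lit 9) (nat_lit 158) (Steps.bwd (nat_lit 15) (Steps.fwd (nat_lit 73728) (Steps.bwd (nat_lit 3) (Steps.bwd (nat_lit 3) (Steps.fwd (nat_lit 16384) (Steps.fwd (nat_lit 106496) (Steps.fwd (nat_lit 81920) (Steps.fwd (nat_lit 131072) (Steps.fwd (nat_lit 8192) Steps.nil))))))))) (nat_lit 63) (nat_lit 8),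
  Rule.mk (nat_lit 9) (nat_lit 110) (Steps.bwd (nat_lit 10) (Steps.bwd (nat_lit 15) (Steps.bwd (nat_lit 10) (Steps.fwd (nat_lit 131072) (Steps.fwd (nat_lit 73728) (Steps.bwd (nat_lit 19) Steps.nil)))))) (nat_lit 67) (nat_lit 0),
  Rule.mk (nat_lit 1) (nat_lit 142) (Steps.bwd (nat_lit 10) (Steps.bwd (nat_lit 13) (Steps.bwd (nat_lit 15) (Steps.fwd (nat_lit 139264) (Steps.bwd (nat_lit 10) (Steps.bwd (nat_lit 16) (Steps.bwd (nat_lit 2) (Steps.fwd (nat_lit 131072) Steps.nil)))))))) (nat_lit 47) (nat_lit 0),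
  Rule.mk (nat_lit 7) (nat_lit 126) (Steps.fwd (nat_lit 155648) (Steps.bwd (nat_lit 2) (Steps.fwd (nat_lit 8192) (Steps.bwd (nat_lit 7) (Steps.fwd (nat_lit 155648) (Steps.fwd (nat_lit 65536) (Steps.fwd (nat_lit 147456) Steps.nil))))))) (nat_lit 86) (nat_lit 5),
  Rule.mk (nat_lit 7) (nat_lit 126) (Steps.bwd (nat_lit 18) (Steps.bwd (nat_lit 2) (Steps.bwd (nat_lit 2) (Steps.fwd (nat_lit 65536) (Steps.bwd (nat_lit 18) (Steps.bwd (nat_lit 7) (Steps.bwd (nat_lit 19) Steps.nil))))))) (nat_lit 86) (nat_lit 5),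
  Rule.mk (nat_lit 4) (nat_lit 62) (Steps.fwd (nat_lit 57344) (Steps.bwd (nat_lit 3) (Steps.bwd (nat_lit 7) Steps.nil))) (nat_lit 80) (nat_lit 1),
  Rule.mk (nat_lit 9) (nat_lit 110) (Steps.bwd (nat_lit 3) (Steps.fwd (nat_lit 32768) (Steps.fwd (nat_lit 114688) (Steps.fwd (nat_lit 139264) (Steps.bwd (nat_lit 9) (Steps.fwd (nat_lit 131072) Steps.nil)))))) (nat_lit 65) (nat_lit 0),
  Rule.mk (nat_lit 14) (nat_lit 126) (Steps.bwd (nat_lit 3) (Steps.bwd (nat_lit 14) (Steps.bwd (nat_lit 14) (Steps.bwd (nat_lit 17) (Steps.bwd (nat_lit 11) (Steps.bwd (nat_lit 11) (Steps.fwd (nat_lit 24576) Steps.nil))))))) (nat_lit 52) (nat_lit 2),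
  Rule.mk (nat_lit 1) (nat_lit 270) (Steps.bwd (nat_lit 3) (Steps.fwd (nat_lit 32768) (Steps.fwd (nat_lit 8192) (Steps.bwd (nat_lit 4) (Steps.bwd (nat_lit 11) (Steps.fwd (nat_lit 131072) (Steps.fwd (nat_lit 147456) (Steps.fwd (nat_lit 16384) (Steps.fwd (nat_lit 73728) (Steps.bwd (nat_lit 1) (Steps.fwd (nat_lit 73728) (Steps.bwd (nat_lit 1) (Steps.bwd (nat_lit 13) (Steps.fwd (nat_lit 32768) (Steps.fwd (nat_lit 73728) (Steps.fwd (nat_lit 57344) Steps.nil)))))))))))))))) (nat_lit 77) (nat_lit 1),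
  Rule.mk (nat_lit 8) (nat_lit 126) (Steps.bwd (nat_lit 1) (Steps.bwd (nat_lit 1) (Steps.fwd (nat_lit 147456) (Steps.fwd (nat_lit 57344) (Steps.bwd (nat_lit 18) (Steps.fwd (nat_lit 57344) (Steps.bwd (nat_lit 19) Steps.nil))))))) (nat_lit 87) (nat_lit 0),
  Rule.mk (nat_lit 0) (nat_lit 302) (Steps.bwd (nat_lit 8) (Steps.fwd (nat_lit 8192) (Steps.bwd (nat_lit 11) (Steps.fwd (nat_lit 16384) (Steps.bwd (nat_lit 11) (Steps.bwd (nat_lit 2) (Steps.bwd (nat_lit 10) (Steps.fwd (nat_lit 16384) (Steps.fwd (nat_lit 32768) (Steps.bwd (nat_lit 3) (Steps.bwd (nat_lit 9) (Steps.bwd (nat_lit 8) (Steps.fwd (nat_lit 81920) (Steps.bwd (nat_lit 8) (Steps.fwd (nat_lit 32768) (Steps.bwd (nat_lit 2) (Steps.bwd (nat_lit 4) (Steps.fwd (nat_lit 81920) Steps.nil)))))))))))))))))) (nat_lit 56) (nat_lit 8),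
  Rule.mk (nat_lit 1) (nat_lit 94) (Steps.fwd (nat_lit 16384) (Steps.fwd (nat_lit 24576) (Steps.bwd (nat_lit 2) (Steps.fwd (nat_lit 8192) (Steps.bwd (nat_lit 3) Steps.nil))))) (nat_lit 7) (nat_lit 5),
  Rule.mk (nat_lit 9) (nat_lit 206) (Steps.bwd (nat_lit 1) (Steps.fwd (nat_lit 16384) (Steps.fwd (nat_lit 90112) (Steps.bwd (nat_lit 18) (Steps.bwd (nat_lit 17) (Steps.fwd (nat_lit 73728) (Steps.bwd (nat_lit 2) (Steps.fwd (nat_lit 32768) (Steps.fwd (nat_lit 8192) (Steps.bwd (nat_lit 4) (Steps.bwd (nat_lit 4) (Steps.fwd (nat_lit 8192) Steps.nil)))))))))))) (nat_lit 73) (nat_lit 0),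
  Rule.mk (nat_lit 1) (nat_lit 94) (Steps.bwd (nat_lit 7) (Steps.bwd (nat_lit 2) (Steps.bwd (nat_lit 2) (Steps.fwd (nat_lit 8192) (Steps.fwd (nat_lit 57344) Steps.nil))))) (nat_lit 82) (nat_lit 2),
  Rule.mk (nat_lit 9) (nat_lit 270) (Steps.bwd (nat_lit 8) (Steps.fwd (nat_lit 16384) (Steps.fwd (nat_lit 32768) (Steps.bwd (nat_lit 3) (Steps.bwd (nat_lit 2) (Steps.bwd (nat_lit 4) (Steps.fwd (nat_lit 81920) (Steps.bwd (nat_lit 17) (Steps.bwd (nat_lit 19) (Steps.fwd (nat_lit 16384) (Steps.bwd (nat_lit 9) (Steps.fwd (nat_lit 16384) (Steps.fwd (nat_lit 73728) (Steps.bwd (nat_lit 1) (Steps.bwd (nat_lit 13) (Steps.fwd (nat_lit 32768) Steps.nil)))))))))))))))) (nat_lit 77) (nat_lit 16),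
  Rule.mk (nat_lit 12) (nat_lit 190) (Steps.fwd (nat_lit 73728) (Steps.bwd (nat_lit 13) (Steps.bwd (nat_lit 9) (Steps.fwd (nat_lit 106496) (Steps.fwd (nat_lit 131072) (Steps.fwd (nat_lit 16384) (Steps.fwd (nat_lit 122880) (Steps.fwd (nat_lit 16384) (Steps.bwd (nat_lit 1) (Steps.bwd (nat_lit 1) (Steps.bwd (nat_lit 9) Steps.nil))))))))))) (nat_lit 74) (nat_lit 2),
  Rule.mk (nat_lit 9) (nat_lit 190) (Steps.bwd (nat_lit 12) (Steps.bwd (nat_lit 17) (Steps.fwd (nat_lit 16384) (Steps.fwd (nat_lit 122880) (Steps.bwd (nat_lit 1) (Steps.fwd (nat_lit 16384) (Steps.bwd (nat_lit 1) (Steps.bwd (nat_lit 9) (Steps.bwd (nat_lit 12) (Steps.bwd (nat_lit 9) (Steps.bwd (nat_lit 13) Steps.nil))))))))))) (nat_lit 74) (nat_lit 5),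
  Rule.mk (nat_lit 14) (nat_lit 78) (Steps.bwd (nat_lit 19) (Steps.fwd (nat_lit 131072) (Steps.bwd (nat_lit 15) (Steps.fwd (nat_lit 139264) Steps.nil)))) (nat_lit 41) (nat_lit 0),
  Rule.mk (nat_lit 9) (nat_lit 110) (Steps.bwd (nat_lit 19) (Steps.bwd (nat_lit 9) (Steps.fwd (nat_lit 90112) (Steps.fwd (nat_lit 114688) (Steps.fwd (nat_lit 90112) (Steps.bwd (nat_lit 17) Steps.nil)))))) (nat_lit 67) (nat_lit 5),
  Rule.mk (nat_lit 1) (nat_lit 126) (Steps.bwd (nat_lit 19) (Steps.bwd (nat_lit 8) (Steps.bwd (nat_lit 18) (Steps.bwd (nat_lit 8) (Steps.fwd (nat_lit 147456) (Steps.bwd (nat_lit 8) (Steps.fwd (nat_lit 16384) Steps.nil))))))) (nat_lit 87) (nat_lit 2),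
  Rule.mk (nat_lit 16) (nat_lit 158) (Steps.bwd (nat_lit 10) (Steps.bwd (nat_lit 13) (Steps.bwd (nat_lit 2) (Steps.fwd (nat_lit 24576) (Steps.bwd (nat_lit 4) (Steps.bwd (nat_lit 9) (Steps.bwd (nat_lit 14) (Steps.bwd (nat_lit 9) (Steps.bwd (nat_lit 1) Steps.nil))))))))) (nat_lit 62) (nat_lit 5),
  Rule.mk (nat_lit 16) (nat_lit 110) (Steps.fwd (nat_lit 81920) (Steps.bwd (nat_lit 14) (Steps.fwd (nat_lit 81920) (Steps.fwd (nat_lit 73728) (Steps.fwd (nat_lit 155648) (Steps.fwd (nat_lit 73728) Steps.nil)))))) (nat_lit 66) (nat_lit 4),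
  Rule.mk (nat_lit 4) (nat_lit 110) (Steps.bwd (nat_lit 4) (Steps.bwd (nat_lit 9) (Steps.fwd (nat_lit 139264) (Steps.fwd (nat_lit 73728) (Steps.fwd (nat_lit 131072) (Steps.bwd (nat_lit 14) Steps.nil)))))) (nat_lit 64) (nat_lit 6),
  Rule.mk (nat_lit 9) (nat_lit 110) (Steps.bwd (nat_lit 10) (Steps.bwd (nat_lit 15) (Steps.fwd (nat_lit 131072) (Steps.bwd (nat_lit 17) (Steps.fwd (nat_lit 73728) (Steps.bwd (nat_lit 4) Steps.nil)))))) (nat_lit 71) (nat_lit 0),
  Rule.mk (nat_lit 13) (nat_lit 126) (Steps.bwd (nat_lit 4) (Steps.bwd (nat_lit 12) (Steps.fwd (nat_lit 32768) (Steps.bwd (nat_lit 16) (Steps.fwd (nat_lit 90112) (Steps.fwd (nat_lit 139264) (Steps.bwd (nat_lit 15) Steps.nil))))))) (nat_lit 50) (nat_lit 0),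
  Rule.mk (nat_lit 17) (nat_lit 126) (Steps.bwd (nat_lit 4) (Steps.bwd (nat_lit 13) (Steps.bwd (nat_lit 3) (Steps.fwd (nat_lit 106496) (Steps.bwd (nat_lit 14) (Steps.fwd (nat_lit 131072) (Steps.fwd (nat_lit 81920) Steps.nil))))))) (nat_lit 51) (nat_lit 5),
  Rule.mk (nat_lit 11) (nat_lit 110) (Steps.bwd (nat_lit 9) (Steps.bwd (nat_lit 18) (Steps.bwd (nat_lit 9) (Steps.bwd (nat_lit 16) (Steps.bwd (nat_lit 11) (Steps.fwd (nat_lit 122880) Steps.nil)))))) (nat_lit 66) (nat_lit 0),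
  Rule.mk (nat_lit 14) (nat_lit 158) (Steps.bwd (nat_lit 9) (Steps.bwd (nat_lit 1) (Steps.bwd (nat_lit 16) (Steps.fwd (nat_lit 90112) (Steps.fwd (nat_lit 98304) (Steps.fwd (nat_lit 8192) (Steps.fwd (nat_lit 24576) (Steps.fwd (nat_lit 24576) (Steps.fwd (nat_lit 73728) Steps.nil))))))))) (nat_lit 62) (nat_lit 2),
  Rule.mk (nat_lit 12) (nat_lit 190) (Steps.bwd (nat_lit 9) (Steps.bwd (nat_lit 13) (Steps.bwd (nat_lit 9) (Steps.fwd (nat_lit 106496) (Steps.fwd (nat_lit 131072) (Steps.bwd (nat_lit 1) (Steps.fwd (nat_lit 122880) (Steps.bwd (nat_lit 1) (Steps.fwd (nat_lit 16384) (Steps.bwd (nat_lit 1) (Steps.bwd (nat_lit 9) Steps.nil))))))))))) (nat_lit 74) (nat_lit 2),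
  Rule.mk (nat_lit 13) (nat_lit 190) (Steps.bwd (nat_lit 9) (Steps.fwd (nat_lit 8192) (Steps.bwd (nat_lit 2) (Steps.bwd (nat_lit 2) (Steps.fwd (nat_lit 114688) (Steps.fwd (nat_lit 8192) (Steps.fwd (nat_lit 139264) (Steps.fwd (nat_lit 98304) (Steps.fwd (nat_lit 73728) (Steps.bwd (nat_lit 12) (Steps.bwd (nat_lit 9) Steps.nil))))))))))) (nat_lit 75) (nat_lit 11),
  Rule.mk (nat_lit 2) (nat_lit 110) (Steps.bwd (nat_lit 15) (Steps.bwd (nat_lit 1) (Steps.fwd (nat_lit 114688) (Steps.bwd (nat_lit 15) (Steps.bwd (nat_lit 10) (Steps.bwd (nat_lit 16) Steps.nil)))))) (nat_lit 45) (nat_lit 5),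
  Rule.mk (nat_lit 1) (nat_lit 110) (Steps.bwd (nat_lit 15) (Steps.fwd (nat_lit 114688) (Steps.bwd (nat_lit 10) (Steps.bwd (nat_lit 16) (Steps.fwd (nat_lit 8192) (Steps.bwd (nat_lit 15) Steps.nil)))))) (nat_lit 45) (nat_lit 0),
  Rule.mk (nat_lit 16) (nat_lit 126) (Steps.bwd (nat_lit 15) (Steps.bwd (nat_lit 13) (Steps.bwd (nat_lit 4) (Steps.fwd (nat_lit 106496) (Steps.bwd (nat_lit 3) (Steps.fwd (nat_lit 139264) (Steps.fwd (nat_lit 90112) Steps.nil))))))) (nat_lit 50) (nat_lit 6),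
  Rule.mk (nat_lit 9) (nat_lit 110) (Steps.fwd (nat_lit 131072) (Steps.bwd (nat_lit 9) (Steps.bwd (nat_lit 3) (Steps.bwd (nat_lit 3) (Steps.bwd (nat_lit 15) (Steps.bwd (nat_lit 16) Steps.nil)))))) (nat_lit 65) (nat_lit 5),
  Rule.mk (nat_lit 12) (nat_lit 190) (Steps.bwd (nat_lit 9) (Steps.fwd (nat_lit 98304) (Steps.bwd (nat_lit 9) (Steps.fwd (nat_lit 106496) (Steps.bwd (nat_lit 17) (Steps.fwd (nat_lit 16384) (Steps.bwd (nat_lit 14) (Steps.bwd (nat_lit 1) (Steps.bwd (nat_lit 1) (Steps.fwd (nat_lit 16384) (Steps.bwd (nat_lit 9) Steps.nil))))))))))) (nat_lit 74) (nat_lit 2),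
  Rule.mk (nat_lit 11) (nat_lit 142) (Steps.bwd (nat_lit 2) (Steps.fwd (nat_lit 139264) (Steps.bwd (nat_lit 1) (Steps.bwd (nat_lit 17) (Steps.bwd (nat_lit 11) (Steps.bwd (nat_lit 17) (Steps.bwd (nat_lit 14) (Steps.bwd (nat_lit 12) Steps.nil)))))))) (nat_lit 46) (nat_lit 0),
  Rule.mk (nat_lit 9) (nat_lit 270) (Steps.bwd (nat_lit 8) (Steps.bwd (nat_lit 1) (Steps.bwd (nat_lit 3) (Steps.bwd (nat_lit 3) (Steps.fwd (nat_lit 8192) (Steps.bwd (nat_lit 4) (Steps.bwd (nat_lit 11) (Steps.fwd (nat_lit 131072) (Steps.fwd (nat_lit 147456) (Steps.fwd (nat_lit 16384) (Steps.bwd (nat_lit 9) (Steps.bwd (nat_lit 1) (Steps.fwd (nat_lit 73728) (Steps.fwd (nat_lit 16384) (Steps.bwd (nat_lit 13) (Steps.bwd (nat_lit 3) Steps.nil)))))))))))))))) (nat_lit 77) (nat_lit 16),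
  Rule.mk (nat_lit 3) (nat_lit 126) (Steps.bwd (nat_lit 16) (Steps.fwd (nat_lit 90112) (Steps.bwd (nat_lit 16) (Steps.fwd (nat_lit 114688) (Steps.fwd (nat_lit 98304) (Steps.fwd (nat_lit 24576) (Steps.bwd (nat_lit 12) Steps.nil))))))) (nat_lit 50) (nat_lit 3),
  Rule.mk (nat_lit 1) (nat_lit 158) (Steps.bwd (nat_lit 12) (Steps.bwd (nat_lit 11) (Steps.fwd (nat_lit 131072) (Steps.bwd (nat_lit 2) (Steps.bwd (nat_lit 9) (Steps.bwd (nat_lit 15) (Steps.fwd (nat_lit 73728) (Steps.fwd (nat_lit 32768) (Steps.bwd (nat_lit 3) Steps.nil))))))))) (nat_lit 63) (nat_lit 3),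
  Rule.mk (nat_lit 17) (nat_lit 110) (Steps.fwd (nat_lit 122880) (Steps.fwd (nat_lit 24576) (Steps.bwd (nat_lit 4) (Steps.fwd (nat_lit 73728) (Steps.bwd (nat_lit 16) (Steps.bwd (nat_lit 9) Steps.nil)))))) (nat_lit 64) (nat_lit 4),
  Rule.mk (nat_lit 11) (nat_lit 110) (Steps.bwd (nat_lit 9) (Steps.bwd (nat_lit 3) (Steps.bwd (nat_lit 14) (Steps.bwd (nat_lit 3) (Steps.fwd (nat_lit 81920) (Steps.bwd (nat_lit 9) Steps.nil)))))) (nat_lit 61) (nat_lit 6),
  Rule.mk (nat_lit 18) (nat_lit 110) (Steps.bwd (nat_lit 9) (Steps.fwd (nat_lit 139264) (Steps.bwd (nat_lit 11) (Steps.bwd (nat_lit 14) (Steps.fwd (nat_lit 81920) (Steps.bwd (nat_lit 9) Steps.nil)))))) (nat_lit 66) (nat_lit 2),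
  Rule.mk (nat_lit 1) (nat_lit 206) (Steps.bwd (nat_lit 9) (Steps.fwd (nat_lit 139264) (Steps.bwd (nat_lit 19) (Steps.bwd (nat_lit 11) (Steps.bwd (nat_lit 2) (Steps.bwd (nat_lit 3) (Steps.bwd (nat_lit 2) (Steps.bwd (nat_lit 4) (Steps.fwd (nat_lit 24576) (Steps.fwd (nat_lit 8192) (Steps.bwd (nat_lit 9) (Steps.fwd (nat_lit 16384) Steps.nil)))))))))))) (nat_lit 68) (nat_lit 3),
  Rule.mk (nat_lit 2) (nat_lit 206) (Steps.bwd (nat_lit 9) (Steps.bwd (nat_lit 1) (Steps.fwd (nat_lit 16384) (Steps.bwd (nat_lit 9) (Steps.bwd (nat_lit 16) (Steps.fwd (nat_lit 147456) (Steps.fwd (nat_lit 81920) (Steps.fwd (nat_lit 8192) (Steps.fwd (nat_lit 32768) (Steps.bwd (nat_lit 2) (Steps.fwd (nat_lit 24576) (Steps.bwd (nat_lit 4) Steps.nil)))))))))))) (nat_lit 68) (nat_lit 0),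
  Rule.mk (nat_lit 3) (nat_lit 94) (Steps.fwd (nat_lit 16384) (Steps.fwd (nat_lit 16384) (Steps.bwd (nat_lit 4) (Steps.fwd (nat_lit 8192) (Steps.bwd (nat_lit 2) Steps.nil))))) (nat_lit 7) (nat_lit 4),
  Rule.mk (nat_lit 17) (nat_lit 142) (Steps.fwd (nat_lit 16384) (Steps.fwd (nat_lit 90112) (Steps.bwd (nat_lit 13) (Steps.bwd (nat_lit 15) (Steps.bwd (nat_lit 16) (Steps.fwd (nat_lit 90112) (Steps.fwd (nat_lit 139264) (Steps.bwd (nat_lit 2) Steps.nil)))))))) (nat_lit 47) (nat_lit 8),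
  Rule.mk (nat_lit 19) (nat_lit 126) (Steps.bwd (nat_lit 7) (Steps.bwd (nat_lit 18) (Steps.fwd (nat_lit 8192) (Steps.bwd (nat_lit 2) (Steps.bwd (nat_lit 7) (Steps.fwd (nat_lit 155648) (Steps.fwd (nat_lit 65536) Steps.nil))))))) (nat_lit 86) (nat_lit 4),
  Rule.mk (nat_lit 9) (nat_lit 270) (Steps.bwd (nat_lit 1) (Steps.bwd (nat_lit 13) (Steps.bwd (nat_lit 3) (Steps.fwd (nat_lit 73728) (Steps.fwd (nat_lit 57344) (Steps.fwd (nat_lit 16384) (Steps.bwd (nat_lit 3) (Steps.bwd (nat_lit 3) (Steps.fwd (nat_lit 8192) (Steps.bwd (nat_lit 4) (Steps.fwd (nat_lit 81920) (Steps.fwd (nat_lit 131072) (Steps.bwd (nat_lit 19) (Steps.bwd (nat_lit 1) (Steps.fwd (nat_lit 73728) (Steps.bwd (nat_lit 1) Steps.nil)))))))))))))))) (nat_lit 77) (nat_lit 12),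
  Rule.mk (nat_lit 15) (nat_lit 110) (Steps.bwd (nat_lit 17) (Steps.bwd (nat_lit 17) (Steps.fwd (nat_lit 73728) (Steps.fwd (nat_lit 24576) (Steps.bwd (nat_lit 9) (Steps.bwd (nat_lit 10) Steps.nil)))))) (nat_lit 71) (nat_lit 2),
  Rule.mk (nat_lit 18) (nat_lit 110) (Steps.bwd (nat_lit 9) (Steps.bwd (nat_lit 16) (Steps.bwd (nat_lit 11) (Steps.fwd (nat_lit 122880) (Steps.bwd (nat_lit 11) (Steps.bwd (nat_lit 9) Steps.nil)))))) (nat_lit 66) (nat_lit 2),
  Rule.mk (nat_lit 4) (nat_lit 206) (Steps.bwd (nat_lit 4) (Steps.fwd (nat_lit 8192) (Steps.bwd (nat_lit 9) (Steps.fwd (nat_lit 16384) (Steps.fwd (nat_lit 16384) (Steps.bwd (nat_lit 9) (Steps.fwd (nat_lit 139264) (Steps.bwd (nat_lit 19) (Steps.bwd (nat_lit 11) (Steps.bwd (nat_lit 2) (Steps.bwd (nat_lit 3) (Steps.bwd (nat_lit 2) Steps.nil)))))))))))) (nat_lit 68) (nat_lit 11),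
  Rule.mk (nat_lit 12) (nat_lit 126) (Steps.bwd (nat_lit 3) (Steps.bwd (nat_lit 16) (Steps.fwd (nat_lit 90112) (Steps.fwd (nat_lit 139264) (Steps.bwd (nat_lit 15) (Steps.fwd (nat_lit 98304) (Steps.bwd (nat_lit 4) Steps.nil))))))) (nat_lit 50) (nat_lit 2),
  Rule.mk (nat_lit 9) (nat_lit 158) (Steps.bwd (nat_lit 15) (Steps.bwd (nat_lit 9) (Steps.bwd (nat_lit 3) (Steps.fwd (nat_lit 32768) (Steps.fwd (nat_lit 16384) (Steps.bwd (nat_lit 12) (Steps.bwd (nat_lit 11) (Steps.bwd (nat_lit 17) (Steps.bwd (nat_lit 2) Steps.nil))))))))) (nat_lit 63) (nat_lit 8),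
  Rule.mk (nat_lit 7) (nat_lit 286) (Steps.bwd (nat_lit 10) (Steps.bwd (nat_lit 7) (Steps.bwd (nat_lit 9) (Steps.bwd (nat_lit 4) (Steps.bwd (nat_lit 4) (Steps.fwd (nat_lit 8192) (Steps.fwd (nat_lit 81920) (Steps.bwd (nat_lit 1) (Steps.fwd (nat_lit 90112) (Steps.fwd (nat_lit 8192) (Steps.fwd (nat_lit 90112) (Steps.fwd (nat_lit 16384) (Steps.fwd (nat_lit 65536) (Steps.bwd (nat_lit 10) (Steps.bwd (nat_lit 3) (Steps.bwd (nat_lit 1) (Steps.fwd (nat_lit 24576) Steps.nil))))))))))))))))) (nat_lit 57) (nat_lit 15),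
  Rule.mk (nat_lit 4) (nat_lit 158) (Steps.bwd (nat_lit 4) (Steps.bwd (nat_lit 9) (Steps.fwd (nat_lit 122880) (Steps.bwd (nat_lit 9) (Steps.fwd (nat_lit 16384) (Steps.bwd (nat_lit 16) (Steps.bwd (nat_lit 10) (Steps.fwd (nat_lit 98304) (Steps.bwd (nat_lit 2) Steps.nil))))))))) (nat_lit 62) (nat_lit 9),
  Rule.mk (nat_lit 11) (nat_lit 110) (Steps.bwd (nat_lit 14) (Steps.bwd (nat_lit 11) (Steps.bwd (nat_lit 9) (Steps.fwd (nat_lit 155648) (Steps.bwd (nat_lit 9) (Steps.bwd (nat_lit 16) Steps.nil)))))) (nat_lit 66) (nat_lit 5)]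
noncomputable def R_89 : List (Rule) := [Rule.mk (nat_lit 1) (nat_lit 142) (Steps.bwd (nat_lit 17) (Steps.bwd (nat_lit 11) (Steps.fwd (nat_lit 131072) (Steps.fwd (nat_lit 122880) (Steps.fwd (nat_lit 106496) (Steps.fwd (nat_lit 81920) (Steps.fwd (nat_lit 8192) (Steps.bwd (nat_lit 16) Steps.nil)))))))) (nat_lit 46) (nat_lit 3),
  Rule.mk (nat_lit 9) (nat_lit 158) (Steps.fwd (nat_lit 32768) (Steps.fwd (nat_lit 32768) (Steps.bwd (nat_lit 1) (Steps.fwd (nat_lit 106496) (Steps.fwd (nat_lit 81920) (Steps.bwd (nat_lit 17) (Steps.bwd (nat_lit 2) (Steps.bwd (nat_lit 9) (Steps.fwd (nat_lit 114688) Steps.nil))))))))) (nat_lit 63) (nat_lit 0),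
  Rule.mk (nat_lit 1) (nat_lit 94) (Steps.bwd (nat_lit 1) (Steps.bwd (nat_lit 8) (Steps.fwd (nat_lit 57344) (Steps.bwd (nat_lit 1) (Steps.fwd (nat_lit 16384) Steps.nil))))) (nat_lit 79) (nat_lit 3),
  Rule.mk (nat_lit 14) (nat_lit 110) (Steps.fwd (nat_lit 32768) (Steps.bwd (nat_lit 11) (Steps.bwd (nat_lit 9) (Steps.bwd (nat_lit 11) (Steps.bwd (nat_lit 9) (Steps.bwd (nat_lit 3) Steps.nil)))))) (nat_lit 61) (nat_lit 2),
  Rule.mk (nat_lit 9) (nat_lit 110) (Steps.bwd (nat_lit 19) (Steps.fwd (nat_lit 73728) (Steps.fwd (nat_lit 90112) (Steps.bwd (nat_lit 15) (Steps.bwd (nat_lit 10) (Steps.bwd (nat_lit 17) Steps.nil)))))) (nat_lit 67) (nat_lit 5),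
  Rule.mk (nat_lit 1) (nat_lit 94) (Steps.fwd (nat_lit 16384) (Steps.bwd (nat_lit 1) (Steps.bwd (nat_lit 8) (Steps.fwd (nat_lit 8192) (Steps.bwd (nat_lit 7) Steps.nil))))) (nat_lit 83) (nat_lit 1),
  Rule.mk (nat_lit 16) (nat_lit 142) (Steps.bwd (nat_lit 1) (Steps.fwd (nat_lit 131072) (Steps.fwd (nat_lit 81920) (Steps.fwd (nat_lit 131072) (Steps.bwd (nat_lit 14) (Steps.bwd (nat_lit 12) (Steps.fwd (nat_lit 81920) (Steps.fwd (nat_lit 8192) Steps.nil)))))))) (nat_lit 46) (nat_lit 2),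
  Rule.mk (nat_lit 9) (nat_lit 206) (Steps.bwd (nat_lit 1) (Steps.bwd (nat_lit 1) (Steps.bwd (nat_lit 9) (Steps.bwd (nat_lit 16) (Steps.fwd (nat_lit 147456) (Steps.fwd (nat_lit 81920) (Steps.bwd (nat_lit 2) (Steps.bwd (nat_lit 3) (Steps.bwd (nat_lit 2) (Steps.fwd (nat_lit 24576) (Steps.bwd (nat_lit 4) (Steps.bwd (nat_lit 2) Steps.nil)))))))))))) (nat_lit 68) (nat_lit 1),
  Rule.mk (nat_lit 2) (nat_lit 94) (Steps.bwd (nat_lit 4) (Steps.bwd (nat_lit 1) (Steps.fwd (nat_lit 16384) (Steps.bwd (nat_lit 3) (Steps.fwd (nat_lit 8192) Steps.nil))))) (nat_lit 6) (nat_lit 2),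
  Rule.mk (nat_lit 13) (nat_lit 126) (Steps.bwd (nat_lit 4) (Steps.fwd (nat_lit 106496) (Steps.fwd (nat_lit 32768) (Steps.fwd (nat_lit 139264) (Steps.bwd (nat_lit 10) (Steps.bwd (nat_lit 16) (Steps.fwd (nat_lit 114688) Steps.nil))))))) (nat_lit 50) (nat_lit 0),
  Rule.mk (nat_lit 11) (nat_lit 126) (Steps.bwd (nat_lit 4) (Steps.fwd (nat_lit 122880) (Steps.bwd (nat_lit 3) (Steps.fwd (nat_lit 122880) (Steps.fwd (nat_lit 122880) (Steps.fwd (nat_lit 131072) (Steps.bwd (nat_lit 11) Steps.nil))))))) (nat_lit 52) (nat_lit 0),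
  Rule.mk (nat_lit 10) (nat_lit 286) (Steps.bwd (nat_lit 2) (Steps.fwd (nat_lit 90112) (Steps.fwd (nat_lit 16384) (Steps.bwd (nat_lit 7) (Steps.fwd (nat_lit 90112) (Steps.bwd (nat_lit 3) (Steps.bwd (nat_lit 1) (Steps.bwd (nat_lit 4) (Steps.bwd (nat_lit 7) (Steps.bwd (nat_lit 10) (Steps.bwd (nat_lit 7) (Steps.bwd (nat_lit 9) (Steps.bwd (nat_lit 4) (Steps.bwd (nat_lit 4) (Steps.fwd (nat_lit 8192) (Steps.fwd (nat_lit 81920) (Steps.fwd (nat_lit 16384) Steps.nil))))))))))))))))) (nat_lit 57) (nat_lit 6),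
  Rule.mk (nat_lit 2) (nat_lit 158) (Steps.fwd (nat_lit 73728) (Steps.bwd (nat_lit 15) (Steps.fwd (nat_lit 73728) (Steps.bwd (nat_lit 3) (Steps.bwd (nat_lit 3) (Steps.bwd (nat_lit 1) (Steps.bwd (nat_lit 12) (Steps.bwd (nat_lit 11) (Steps.bwd (nat_lit 17) Steps.nil))))))))) (nat_lit 63) (nat_lit 7),
  Rule.mk (nat_lit 2) (nat_lit 126) (Steps.bwd (nat_lit 4) (Steps.bwd (nat_lit 2) (Steps.bwd (nat_lit 4) (Steps.fwd (nat_lit 8192) (Steps.fwd (nat_lit 24576) (Steps.bwd (nat_lit 2) (Steps.bwd (nat_lit 4) Steps.nil))))))) (nat_lit 5) (nat_lit 0),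
  Rule.mk (nat_lit 10) (nat_lit 110) (Steps.bwd (nat_lit 17) (Steps.bwd (nat_lit 9) (Steps.fwd (nat_lit 147456) (Steps.fwd (nat_lit 73728) (Steps.fwd (nat_lit 90112) (Steps.fwd (nat_lit 114688) Steps.nil)))))) (nat_lit 67) (nat_lit 3),
  Rule.mk (nat_lit 14) (nat_lit 126) (Steps.bwd (nat_lit 17) (Steps.fwd (nat_lit 81920) (Steps.fwd (nat_lit 131072) (Steps.bwd (nat_lit 4) (Steps.bwd (nat_lit 13) (Steps.bwd (nat_lit 3) (Steps.bwd (nat_lit 12) Steps.nil))))))) (nat_lit 51) (nat_lit 2),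
  Rule.mk (nat_lit 1) (nat_lit 142) (Steps.bwd (nat_lit 17) (Steps.fwd (nat_lit 81920) (Steps.fwd (nat_lit 131072) (Steps.bwd (nat_lit 14) (Steps.bwd (nat_lit 12) (Steps.fwd (nat_lit 81920) (Steps.bwd (nat_lit 2) (Steps.fwd (nat_lit 139264) Steps.nil)))))))) (nat_lit 46) (nat_lit 3),
  Rule.mk (nat_lit 8) (nat_lit 126) (Steps.fwd (nat_lit 16384) (Steps.bwd (nat_lit 1) (Steps.fwd (nat_lit 147456) (Steps.fwd (nat_lit 57344) (Steps.fwd (nat_lit 155648) (Steps.bwd (nat_lit 8) (Steps.fwd (nat_lit 147456) Steps.nil))))))) (nat_lit 87) (nat_lit 0),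
  Rule.mk (nat_lit 16) (nat_lit 142) (Steps.bwd (nat_lit 1) (Steps.fwd (nat_lit 131072) (Steps.bwd (nat_lit 11) (Steps.bwd (nat_lit 17) (Steps.fwd (nat_lit 122880) (Steps.fwd (nat_lit 106496) (Steps.bwd (nat_lit 11) (Steps.fwd (nat_lit 8192) Steps.nil)))))))) (nat_lit 46) (nat_lit 2),
  Rule.mk (nat_lit 9) (nat_lit 206) (Steps.bwd (nat_lit 1) (Steps.bwd (nat_lit 3) (Steps.fwd (nat_lit 32768) (Steps.bwd (nat_lit 1) (Steps.fwd (nat_lit 24576) (Steps.fwd (nat_lit 16384) (Steps.fwd (nat_lit 90112) (Steps.fwd (nat_lit 155648) (Steps.bwd (nat_lit 17) (Steps.fwd (nat_lit 73728) (Steps.fwd (nat_lit 8192) (Steps.fwd (nat_lit 8192) Steps.nil)))))))))))) (nat_lit 69) (nat_lit 0),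
  Rule.mk (nat_lit 3) (nat_lit 286) (Steps.bwd (nat_lit 1) (Steps.bwd (nat_lit 4) (Steps.fwd (nat_lit 65536) (Steps.fwd (nat_lit 90112) (Steps.bwd (nat_lit 7) (Steps.bwd (nat_lit 9) (Steps.fwd (nat_lit 24576) (Steps.fwd (nat_lit 24576) (Steps.fwd (nat_lit 8192) (Steps.fwd (nat_lit 81920) (Steps.fwd (nat_lit 16384) (Steps.bwd (nat_lit 10) (Steps.bwd (nat_lit 2) (Steps.bwd (nat_lit 10) (Steps.bwd (nat_lit 1) (Steps.fwd (nat_lit 65536) (Steps.fwd (nat_lit 90112) Steps.nil))))))))))))))))) (nat_lit 57) (nat_lit 12),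
  Rule.mk (nat_lit 9) (nat_lit 206) (Steps.bwd (nat_lit 2) (Steps.fwd (nat_lit 8192) (Steps.fwd (nat_lit 73728) (Steps.bwd (nat_lit 1) (Steps.bwd (nat_lit 3) (Steps.fwd (nat_lit 32768) (Steps.fwd (nat_lit 16384) (Steps.bwd (nat_lit 4) (Steps.bwd (nat_lit 1) (Steps.bwd (nat_lit 10) (Steps.fwd (nat_lit 155648) (Steps.bwd (nat_lit 17) Steps.nil)))))))))))) (nat_lit 69) (nat_lit 10),
  Rule.mk (nat_lit 17) (nat_lit 110) (Steps.bwd (nat_lit 14) (Steps.bwd (nat_lit 4) (Steps.fwd (nat_lit 24576) (Steps.fwd (nat_lit 73728) (Steps.bwd (nat_lit 16) (Steps.bwd (nat_lit 9) Steps.nil)))))) (nat_lit 64) (nat_lit 4),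
  Rule.mk (nat_lit 3) (nat_lit 126) (Steps.bwd (nat_lit 12) (Steps.fwd (nat_lit 122880) (Steps.bwd (nat_lit 17) (Steps.bwd (nat_lit 11) (Steps.fwd (nat_lit 131072) (Steps.bwd (nat_lit 4) (Steps.fwd (nat_lit 98304) Steps.nil))))))) (nat_lit 51) (nat_lit 0),
  Rule.mk (nat_lit 9) (nat_lit 270) (Steps.bwd (nat_lit 8) (Steps.fwd (nat_lit 16384) (Steps.bwd (nat_lit 3) (Steps.bwd (nat_lit 3) (Steps.fwd (nat_lit 8192) (Steps.bwd (nat_lit 4) (Steps.bwd (nat_lit 11) (Steps.bwd (nat_lit 17) (Steps.fwd (nat_lit 147456) (Steps.fwd (nat_lit 16384) (Steps.bwd (nat_lit 9) (Steps.fwd (nat_lit 16384) (Steps.bwd (nat_lit 9) (Steps.bwd (nat_lit 1) (Steps.fwd (nat_lit 98304) (Steps.bwd (nat_lit 3) Steps.nil)))))))))))))))) (nat_lit 77) (nat_lit 16),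
  Rule.mk (nat_lit 12) (nat_lit 190) (Steps.bwd (nat_lit 9) (Steps.bwd (nat_lit 13) (Steps.bwd (nat_lit 9) (Steps.bwd (nat_lit 12) (Steps.bwd (nat_lit 17) (Steps.fwd (nat_lit 16384) (Steps.fwd (nat_lit 122880) (Steps.fwd (nat_lit 16384) (Steps.fwd (nat_lit 16384) (Steps.bwd (nat_lit 1) (Steps.bwd (nat_lit 9) Steps.nil))))))))))) (nat_lit 74) (nat_lit 2),
  Rule.mk (nat_lit 19) (nat_lit 94) (Steps.bwd (nat_lit 11) (Steps.bwd (nat_lit 17) (Steps.fwd (nat_lit 90112) (Steps.bwd (nat_lit 16) (Steps.bwd (nat_lit 19) Steps.nil))))) (nat_lit 34) (nat_lit 0),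
  Rule.mk (nat_lit 14) (nat_lit 110) (Steps.bwd (nat_lit 11) (Steps.fwd (nat_lit 73728) (Steps.fwd (nat_lit 155648) (Steps.bwd (nat_lit 9) (Steps.bwd (nat_lit 16) (Steps.fwd (nat_lit 81920) Steps.nil)))))) (nat_lit 66) (nat_lit 6),
  Rule.mk (nat_lit 12) (nat_lit 158) (Steps.bwd (nat_lit 11) (Steps.bwd (nat_lit 17) (Steps.bwd (nat_lit 2) (Steps.bwd (nat_lit 9) (Steps.bwd (nat_lit 15) (Steps.fwd (nat_lit 73728) (Steps.bwd (nat_lit 3) (Steps.fwd (nat_lit 32768) (Steps.fwd (nat_lit 16384) Steps.nil))))))))) (nat_lit 63) (nat_lit 4),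
  Rule.mk (nat_lit 8) (nat_lit 286) (Steps.bwd (nat_lit 11) (Steps.fwd (nat_lit 57344) (Steps.fwd (nat_lit 32768) (Steps.fwd (nat_lit 8192) (Steps.bwd (nat_lit 4) (Steps.bwd (nat_lit 11) (Steps.fwd (nat_lit 57344) (Steps.bwd (nat_lit 2) (Steps.fwd (nat_lit 81920) (Steps.bwd (nat_lit 1) (Steps.fwd (nat_lit 81920) (Steps.fwd (nat_lit 8192) (Steps.bwd (nat_lit 10) (Steps.bwd (nat_lit 1) (Steps.fwd (nat_lit 32768) (Steps.bwd (nat_lit 3) (Steps.fwd (nat_lit 73728) Steps.nil))))))))))))))))) (nat_lit 56) (nat_lit 2),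
  Rule.mk (nat_lit 1) (nat_lit 126) (Steps.bwd (nat_lit 1) (Steps.fwd (nat_lit 147456) (Steps.bwd (nat_lit 8) (Steps.fwd (nat_lit 155648) (Steps.fwd (nat_lit 57344) (Steps.fwd (nat_lit 147456) (Steps.bwd (nat_lit 8) Steps.nil))))))) (nat_lit 87) (nat_lit 1),
  Rule.mk (nat_lit 19) (nat_lit 158) (Steps.bwd (nat_lit 8) (Steps.fwd (nat_lit 147456) (Steps.bwd (nat_lit 8) (Steps.fwd (nat_lit 147456) (Steps.fwd (nat_lit 57344) (Steps.fwd (nat_lit 147456) (Steps.fwd (nat_lit 57344) (Steps.fwd (nat_lit 147456) (Steps.bwd (nat_lit 8) Steps.nil))))))))) (nat_lit 85) (nat_lit 1),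
  Rule.mk (nat_lit 7) (nat_lit 126) (Steps.fwd (nat_lit 155648) (Steps.bwd (nat_lit 2) (Steps.bwd (nat_lit 2) (Steps.bwd (nat_lit 7) (Steps.bwd (nat_lit 18) (Steps.fwd (nat_lit 65536) (Steps.bwd (nat_lit 19) Steps.nil))))))) (nat_lit 86) (nat_lit 5),
  Rule.mk (nat_lit 9) (nat_lit 110) (Steps.fwd (nat_lit 24576) (Steps.fwd (nat_lit 73728) (Steps.fwd (nat_lit 90112) (Steps.bwd (nat_lit 15) (Steps.fwd (nat_lit 131072) (Steps.bwd (nat_lit 17) Steps.nil)))))) (nat_lit 71) (nat_lit 5),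
  Rule.mk (nat_lit 9) (nat_lit 190) (Steps.bwd (nat_lit 13) (Steps.fwd (nat_lit 73728) (Steps.bwd (nat_lit 12) (Steps.bwd (nat_lit 17) (Steps.fwd (nat_lit 16384) (Steps.bwd (nat_lit 14) (Steps.fwd (nat_lit 16384) (Steps.fwd (nat_lit 16384) (Steps.fwd (nat_lit 16384) (Steps.fwd (nat_lit 73728) (Steps.bwd (nat_lit 12) Steps.nil))))))))))) (nat_lit 74) (nat_lit 3),
  Rule.mk (nat_lit 12) (nat_lit 78) (Steps.fwd (nat_lit 122880) (Steps.fwd (nat_lit 155648) (Steps.bwd (nat_lit 13) (Steps.bwd (nat_lit 15) Steps.nil)))) (nat_lit 36) (nat_lit 3),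
  Rule.mk (nat_lit 4) (nat_lit 190) (Steps.bwd (nat_lit 2) (Steps.bwd (nat_lit 3) (Steps.fwd (nat_lit 16384) (Steps.fwd (nat_lit 24576) (Steps.bwd (nat_lit 2) (Steps.fwd (nat_lit 32768) (Steps.fwd (nat_lit 16384) (Steps.bwd (nat_lit 4) (Steps.bwd (nat_lit 2) (Steps.bwd (nat_lit 3) (Steps.fwd (nat_lit 16384) Steps.nil))))))))))) (nat_lit 9) (nat_lit 1),
  Rule.mk (nat_lit 14) (nat_lit 94) (Steps.bwd (nat_lit 10) (Steps.bwd (nat_lit 19) (Steps.fwd (nat_lit 147456) (Steps.fwd (nat_lit 114688) (Steps.bwd (nat_lit 11) Steps.nil))))) (nat_lit 33) (nat_lit 5),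
  Rule.mk (nat_lit 2) (nat_lit 158) (Steps.bwd (nat_lit 9) (Steps.bwd (nat_lit 15) (Steps.fwd (nat_lit 73728) (Steps.bwd (nat_lit 3) (Steps.bwd (nat_lit 3) (Steps.bwd (nat_lit 1) (Steps.fwd (nat_lit 106496) (Steps.bwd (nat_lit 11) (Steps.bwd (nat_lit 17) Steps.nil))))))))) (nat_lit 63) (nat_lit 7),
  Rule.mk (nat_lit 18) (nat_lit 206) (Steps.bwd (nat_lit 17) (Steps.bwd (nat_lit 9) (Steps.fwd (nat_lit 8192) (Steps.fwd (nat_lit 32768) (Steps.bwd (nat_lit 2) (Steps.fwd (nat_lit 24576) (Steps.bwd (nat_lit 4) (Steps.fwd (nat_lit 8192) (Steps.fwd (nat_lit 73728) (Steps.fwd (nat_lit 16384) (Steps.bwd (nat_lit 1) (Steps.bwd (nat_lit 10) Steps.nil)))))))))))) (nat_lit 73) (nat_lit 4),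
  Rule.mk (nat_lit 2) (nat_lit 126) (Steps.bwd (nat_lit 2) (Steps.fwd (nat_lit 65536) (Steps.bwd (nat_lit 18) (Steps.bwd (nat_lit 7) (Steps.fwd (nat_lit 147456) (Steps.bwd (nat_lit 7) (Steps.bwd (nat_lit 18) Steps.nil))))))) (nat_lit 86) (nat_lit 7),
  Rule.mk (nat_lit 7) (nat_lit 126) (Steps.bwd (nat_lit 19) (Steps.fwd (nat_lit 65536) (Steps.fwd (nat_lit 155648) (Steps.bwd (nat_lit 2) (Steps.fwd (nat_lit 8192) (Steps.bwd (nat_lit 7) (Steps.bwd (nat_lit 18) Steps.nil))))))) (nat_lit 86) (nat_lit 3),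
  Rule.mk (nat_lit 8) (nat_lit 126) (Steps.fwd (nat_lit 16384) (Steps.fwd (nat_lit 16384) (Steps.fwd (nat_lit 147456) (Steps.bwd (nat_lit 8) (Steps.bwd (nat_lit 18) (Steps.bwd (nat_lit 8) (Steps.bwd (nat_lit 19) Steps.nil))))))) (nat_lit 87) (nat_lit 0),
  Rule.mk (nat_lit 17) (nat_lit 110) (Steps.bwd (nat_lit 9) (Steps.fwd (nat_lit 147456) (Steps.bwd (nat_lit 9) (Steps.fwd (nat_lit 90112) (Steps.fwd (nat_lit 114688) (Steps.fwd (nat_lit 90112) Steps.nil)))))) (nat_lit 67) (nat_lit 4),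
  Rule.mk (nat_lit 15) (nat_lit 110) (Steps.bwd (nat_lit 10) (Steps.fwd (nat_lit 131072) (Steps.bwd (nat_lit 9) (Steps.bwd (nat_lit 19) (Steps.fwd (nat_lit 73728) (Steps.bwd (nat_lit 10) Steps.nil)))))) (nat_lit 67) (nat_lit 2),
  Rule.mk (nat_lit 1) (nat_lit 206) (Steps.bwd (nat_lit 10) (Steps.fwd (nat_lit 155648) (Steps.bwd (nat_lit 17) (Steps.bwd (nat_lit 9) (Steps.bwd (nat_lit 2) (Steps.bwd (nat_lit 2) (Steps.bwd (nat_lit 9) (Steps.bwd (nat_lit 1) (Steps.fwd (nat_lit 32768) (Steps.fwd (nat_lit 32768) (Steps.fwd (nat_lit 16384) (Steps.bwd (nat_lit 4) Steps.nil)))))))))))) (nat_lit 69) (nat_lit 6),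
  Rule.mk (nat_lit 3) (nat_lit 94) (Steps.fwd (nat_lit 8192) (Steps.bwd (nat_lit 2) (Steps.bwd (nat_lit 4) (Steps.bwd (nat_lit 1) (Steps.bwd (nat_lit 1) Steps.nil))))) (nat_lit 6) (nat_lit 0),
  Rule.mk (nat_lit 16) (nat_lit 158) (Steps.fwd (nat_lit 90112) (Steps.bwd (nat_lit 13) (Steps.fwd (nat_lit 8192) (Steps.bwd (nat_lit 4) (Steps.bwd (nat_lit 4) (Steps.bwd (nat_lit 9) (Steps.bwd (nat_lit 14) (Steps.bwd (nat_lit 9) (Steps.bwd (nat_lit 1) Steps.nil))))))))) (nat_lit 62) (nat_lit 5),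
  Rule.mk (nat_lit 17) (nat_lit 110) (Steps.bwd (nat_lit 17) (Steps.bwd (nat_lit 9) (Steps.fwd (nat_lit 24576) (Steps.fwd (nat_lit 73728) (Steps.fwd (nat_lit 90112) (Steps.bwd (nat_lit 15) Steps.nil)))))) (nat_lit 71) (nat_lit 3),
  Rule.mk (nat_lit 14) (nat_lit 126) (Steps.bwd (nat_lit 14) (Steps.bwd (nat_lit 17) (Steps.fwd (nat_lit 81920) (Steps.fwd (nat_lit 81920) (Steps.fwd (nat_lit 24576) (Steps.fwd (nat_lit 122880) (Steps.bwd (nat_lit 3) Steps.nil))))))) (nat_lit 52) (nat_lit 4),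
  Rule.mk (nat_lit 18) (nat_lit 78) (Steps.bwd (nat_lit 13) (Steps.bwd (nat_lit 15) (Steps.bwd (nat_lit 12) (Steps.bwd (nat_lit 14) Steps.nil)))) (nat_lit 36) (nat_lit 0),
  Rule.mk (nat_lit 9) (nat_lit 110) (Steps.bwd (nat_lit 3) (Steps.bwd (nat_lit 14) (Steps.fwd (nat_lit 32768) (Steps.fwd (nat_lit 81920) (Steps.fwd (nat_lit 73728) (Steps.bwd (nat_lit 11) Steps.nil)))))) (nat_lit 61) (nat_lit 0),
  Rule.mk (nat_lit 14) (nat_lit 110) (Steps.bwd (nat_lit 3) (Steps.fwd (nat_lit 81920) (Steps.fwd (nat_lit 73728) (Steps.bwd (nat_lit 11) (Steps.fwd (nat_lit 73728) (Steps.fwd (nat_lit 32768) Steps.nil)))))) (nat_lit 61) (nat_lit 2),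
  Rule.mk (nat_lit 2) (nat_lit 206) (Steps.bwd (nat_lit 3) (Steps.fwd (nat_lit 8192) (Steps.bwd (nat_lit 4) (Steps.fwd (nat_lit 24576) (Steps.bwd (nat_lit 2) (Steps.bwd (nat_lit 9) (Steps.bwd (nat_lit 1) (Steps.bwd (nat_lit 1) (Steps.fwd (nat_lit 73728) (Steps.bwd (nat_lit 16) (Steps.bwd (nat_lit 19) (Steps.bwd (nat_lit 11) Steps.nil)))))))))))) (nat_lit 68) (nat_lit 8),
  Rule.mk (nat_lit 13) (nat_lit 270) (Steps.bwd (nat_lit 3) (Steps.bwd (nat_lit 9) (Steps.fwd (nat_lit 57344) (Steps.fwd (nat_lit 16384) (Steps.bwd (nat_lit 3) (Steps.bwd (nat_lit 3) (Steps.fwd (nat_lit 8192) (Steps.fwd (nat_lit 24576) (Steps.bwd (nat_lit 11) (Steps.bwd (nat_lit 17) (Steps.bwd (nat_lit 19) (Steps.fwd (nat_lit 16384) (Steps.fwd (nat_lit 73728) (Steps.fwd (nat_lit 16384) (Steps.fwd (nat_lit 73728) (Steps.fwd (nat_lit 16384) Steps.nil)))))))))))))))) (nat_lit 77) (nat_lit 14),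
  Rule.mk (nat_lit 11) (nat_lit 110) (Steps.bwd (nat_lit 14) (Steps.fwd (nat_lit 122880) (Steps.fwd (nat_lit 8192) (Steps.fwd (nat_lit 122880) (Steps.fwd (nat_lit 16384) (Steps.bwd (nat_lit 17) Steps.nil)))))) (nat_lit 44) (nat_lit 5),
  Rule.mk (nat_lit 9) (nat_lit 110) (Steps.bwd (nat_lit 16) (Steps.fwd (nat_lit 139264) (Steps.fwd (nat_lit 122880) (Steps.bwd (nat_lit 11) (Steps.fwd (nat_lit 73728) (Steps.fwd (nat_lit 32768) Steps.nil)))))) (nat_lit 70) (nat_lit 3),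
  Rule.mk (nat_lit 3) (nat_lit 126) (Steps.bwd (nat_lit 16) (Steps.fwd (nat_lit 90112) (Steps.fwd (nat_lit 139264) (Steps.fwd (nat_lit 114688) (Steps.fwd (nat_lit 98304) (Steps.bwd (nat_lit 4) (Steps.fwd (nat_lit 106496) Steps.nil))))))) (nat_lit 50) (nat_lit 3),
  Rule.mk (nat_lit 17) (nat_lit 110) (Steps.bwd (nat_lit 14) (Steps.bwd (nat_lit 4) (Steps.fwd (nat_lit 24576) (Steps.bwd (nat_lit 9) (Steps.fwd (nat_lit 139264) (Steps.bwd (nat_lit 9) Steps.nil)))))) (nat_lit 64) (nat_lit 4),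
  Rule.mk (nat_lit 4) (nat_lit 94) (Steps.bwd (nat_lit 1) (Steps.bwd (nat_lit 1) (Steps.bwd (nat_lit 3) (Steps.fwd (nat_lit 8192) (Steps.bwd (nat_lit 2) Steps.nil))))) (nat_lit 6) (nat_lit 3),
  Rule.mk (nat_lit 3) (nat_lit 94) (Steps.bwd (nat_lit 1) (Steps.bwd (nat_lit 1) (Steps.bwd (nat_lit 4) (Steps.bwd (nat_lit 2) (Steps.bwd (nat_lit 2) Steps.nil))))) (nat_lit 7) (nat_lit 4),
  Rule.mk (nat_lit 10) (nat_lit 94) (Steps.fwd (nat_lit 147456) (Steps.fwd (nat_lit 147456) (Steps.fwd (nat_lit 114688) (Steps.bwd (nat_lit 11) (Steps.bwd (nat_lit 14) Steps.nil))))) (nat_lit 33) (nat_lit 0),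
  Rule.mk (nat_lit 17) (nat_lit 126) (Steps.fwd (nat_lit 81920) (Steps.fwd (nat_lit 81920) (Steps.bwd (nat_lit 4) (Steps.fwd (nat_lit 122880) (Steps.fwd (nat_lit 32768) (Steps.bwd (nat_lit 14) (Steps.bwd (nat_lit 14) Steps.nil))))))) (nat_lit 52) (nat_lit 6),
  Rule.mk (nat_lit 12) (nat_lit 190) (Steps.bwd (nat_lit 17) (Steps.fwd (nat_lit 16384) (Steps.fwd (nat_lit 122880) (Steps.bwd (nat_lit 1) (Steps.fwd (nat_lit 16384) (Steps.bwd (nat_lit 1) (Steps.fwd (nat_lit 73728) (Steps.bwd (nat_lit 12) (Steps.fwd (nat_lit 73728) (Steps.bwd (nat_lit 13) (Steps.bwd (nat_lit 9) Steps.nil))))))))))) (nat_lit 74) (nat_lit 6)]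
noncomputable def R_90 : List (Rule) := [Rule.mk (nat_lit 19) (nat_lit 126) (Steps.bwd (nat_lit 8) (Steps.bwd (nat_lit 1) (Steps.bwd (nat_lit 1) (Steps.fwd (nat_lit 147456) (Steps.bwd (nat_lit 8) (Steps.fwd (nat_lit 155648) (Steps.bwd (nat_lit 8) Steps.nil))))))) (nat_lit 87) (nat_lit 7),
  Rule.mk (nat_lit 1) (nat_lit 190) (Steps.bwd (nat_lit 9) (Steps.bwd (nat_lit 12) (Steps.bwd (nat_lit 9) (Steps.fwd (nat_lit 98304) (Steps.fwd (nat_lit 73728) (Steps.bwd (nat_lit 12) (Steps.bwd (nat_lit 17) (Steps.fwd (nat_lit 16384) (Steps.bwd (nat_lit 14) (Steps.bwd (nat_lit 1) (Steps.fwd (nat_lit 16384) Steps.nil))))))))))) (nat_lit 74) (nat_lit 0),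
  Rule.mk (nat_lit 10) (nat_lit 110) (Steps.bwd (nat_lit 4) (Steps.fwd (nat_lit 114688) (Steps.bwd (nat_lit 4) (Steps.bwd (nat_lit 9) (Steps.fwd (nat_lit 90112) (Steps.fwd (nat_lit 73728) Steps.nil)))))) (nat_lit 60) (nat_lit 4),
  Rule.mk (nat_lit 13) (nat_lit 126) (Steps.bwd (nat_lit 4) (Steps.bwd (nat_lit 12) (Steps.bwd (nat_lit 3) (Steps.fwd (nat_lit 139264) (Steps.fwd (nat_lit 90112) (Steps.bwd (nat_lit 16) (Steps.fwd (nat_lit 114688) Steps.nil))))))) (nat_lit 50) (nat_lit 0),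
  Rule.mk (nat_lit 11) (nat_lit 126) (Steps.bwd (nat_lit 4) (Steps.bwd (nat_lit 14) (Steps.fwd (nat_lit 32768) (Steps.bwd (nat_lit 14) (Steps.bwd (nat_lit 14) (Steps.bwd (nat_lit 17) (Steps.bwd (nat_lit 11) Steps.nil))))))) (nat_lit 52) (nat_lit 0),
  Rule.mk (nat_lit 1) (nat_lit 94) (Steps.bwd (nat_lit 1) (Steps.fwd (nat_lit 16384) (Steps.bwd (nat_lit 8) (Steps.bwd (nat_lit 2) (Steps.bwd (nat_lit 7) Steps.nil))))) (nat_lit 83) (nat_lit 1),
  Rule.mk (nat_lit 8) (nat_lit 126) (Steps.fwd (nat_lit 155648) (Steps.fwd (nat_lit 57344) (Steps.fwd (nat_lit 147456) (Steps.fwd (nat_lit 57344) (Steps.bwd (nat_lit 1) (Steps.bwd (nat_lit 1) (Steps.fwd (nat_lit 147456) Steps.nil))))))) (nat_lit 87) (nat_lit 4),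
  Rule.mk (nat_lit 8) (nat_lit 126) (Steps.fwd (nat_lit 155648) (Steps.bwd (nat_lit 8) (Steps.fwd (nat_lit 147456) (Steps.bwd (nat_lit 8) (Steps.bwd (nat_lit 1) (Steps.bwd (nat_lit 1) (Steps.bwd (nat_lit 19) Steps.nil))))))) (nat_lit 87) (nat_lit 4),
  Rule.mk (nat_lit 9) (nat_lit 190) (Steps.bwd (nat_lit 12) (Steps.fwd (nat_lit 73728) (Steps.bwd (nat_lit 13) (Steps.bwd (nat_lit 9) (Steps.fwd (nat_lit 106496) (Steps.fwd (nat_lit 131072) (Steps.fwd (nat_lit 16384) (Steps.bwd (nat_lit 14) (Steps.fwd (nat_lit 16384) (Steps.fwd (nat_lit 16384) (Steps.fwd (nat_lit 16384) Steps.nil))))))))))) (nat_lit 74) (nat_lit 1),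
  Rule.mk (nat_lit 9) (nat_lit 110) (Steps.bwd (nat_lit 16) (Steps.fwd (nat_lit 73728) (Steps.bwd (nat_lit 17) (Steps.fwd (nat_lit 122880) (Steps.bwd (nat_lit 4) (Steps.fwd (nat_lit 24576) Steps.nil)))))) (nat_lit 64) (nat_lit 1),
  Rule.mk (nat_lit 16) (nat_lit 110) (Steps.bwd (nat_lit 16) (Steps.bwd (nat_lit 14) (Steps.fwd (nat_lit 81920) (Steps.fwd (nat_lit 73728) (Steps.fwd (nat_lit 32768) (Steps.bwd (nat_lit 9) Steps.nil)))))) (nat_lit 70) (nat_lit 4),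
  Rule.mk (nat_lit 3) (nat_lit 126) (Steps.bwd (nat_lit 16) (Steps.bwd (nat_lit 10) (Steps.fwd (nat_lit 139264) (Steps.bwd (nat_lit 15) (Steps.fwd (nat_lit 98304) (Steps.bwd (nat_lit 4) (Steps.bwd (nat_lit 12) Steps.nil))))))) (nat_lit 50) (nat_lit 3),
  Rule.mk (nat_lit 14) (nat_lit 110) (Steps.fwd (nat_lit 16384) (Steps.bwd (nat_lit 17) (Steps.bwd (nat_lit 11) (Steps.fwd (nat_lit 122880) (Steps.fwd (nat_lit 122880) (Steps.fwd (nat_lit 8192) Steps.nil)))))) (nat_lit 44) (nat_lit 2),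
  Rule.mk (nat_lit 16) (nat_lit 110) (Steps.bwd (nat_lit 9) (Steps.bwd (nat_lit 17) (Steps.fwd (nat_lit 122880) (Steps.fwd (nat_lit 24576) (Steps.bwd (nat_lit 4) (Steps.bwd (nat_lit 9) Steps.nil)))))) (nat_lit 64) (nat_lit 2),
  Rule.mk (nat_lit 14) (nat_lit 158) (Steps.bwd (nat_lit 9) (Steps.fwd (nat_lit 16384) (Steps.fwd (nat_lit 139264) (Steps.bwd (nat_lit 10) (Steps.fwd (nat_lit 98304) (Steps.fwd (nat_lit 8192) (Steps.bwd (nat_lit 4) (Steps.fwd (nat_lit 24576) (Steps.fwd (nat_lit 73728) Steps.nil))))))))) (nat_lit 62) (nat_lit 2),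
  Rule.mk (nat_lit 8) (nat_lit 126) (Steps.fwd (nat_lit 16384) (Steps.bwd (nat_lit 1) (Steps.fwd (nat_lit 147456) (Steps.bwd (nat_lit 8) (Steps.bwd (nat_lit 18) (Steps.fwd (nat_lit 57344) (Steps.bwd (nat_lit 19) Steps.nil))))))) (nat_lit 87) (nat_lit 0),
  Rule.mk (nat_lit 10) (nat_lit 110) (Steps.bwd (nat_lit 4) (Steps.bwd (nat_lit 15) (Steps.bwd (nat_lit 4) (Steps.bwd (nat_lit 9) (Steps.bwd (nat_lit 10) (Steps.fwd (nat_lit 73728) Steps.nil)))))) (nat_lit 60) (nat_lit 4),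
  Rule.mk (nat_lit 9) (nat_lit 110) (Steps.bwd (nat_lit 4) (Steps.bwd (nat_lit 9) (Steps.fwd (nat_lit 90112) (Steps.bwd (nat_lit 15) (Steps.bwd (nat_lit 17) (Steps.fwd (nat_lit 131072) Steps.nil)))))) (nat_lit 71) (nat_lit 5),
  Rule.mk (nat_lit 10) (nat_lit 110) (Steps.bwd (nat_lit 9) (Steps.bwd (nat_lit 10) (Steps.bwd (nat_lit 4) (Steps.bwd (nat_lit 15) (Steps.fwd (nat_lit 24576) (Steps.bwd (nat_lit 9) Steps.nil)))))) (nat_lit 60) (nat_lit 2),
  Rule.mk (nat_lit 3) (nat_lit 110) (Steps.bwd (nat_lit 14) (Steps.bwd (nat_lit 3) (Steps.bwd (nat_lit 11) (Steps.bwd (nat_lit 9) (Steps.bwd (nat_lit 11) (Steps.bwd (nat_lit 9) Steps.nil)))))) (nat_lit 61) (nat_lit 1),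
  Rule.mk (nat_lit 17) (nat_lit 110) (Steps.bwd (nat_lit 14) (Steps.bwd (nat_lit 4) (Steps.bwd (nat_lit 4) (Steps.bwd (nat_lit 9) (Steps.bwd (nat_lit 16) (Steps.bwd (nat_lit 9) Steps.nil)))))) (nat_lit 64) (nat_lit 4),
  Rule.mk (nat_lit 12) (nat_lit 190) (Steps.bwd (nat_lit 17) (Steps.fwd (nat_lit 16384) (Steps.bwd (nat_lit 14) (Steps.fwd (nat_lit 16384) (Steps.fwd (nat_lit 16384) (Steps.fwd (nat_lit 16384) (Steps.bwd (nat_lit 9) (Steps.bwd (nat_lit 12) (Steps.bwd (nat_lit 9) (Steps.fwd (nat_lit 98304) (Steps.bwd (nat_lit 9) Steps.nil))))))))))) (nat_lit 74) (nat_lit 6),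
  Rule.mk (nat_lit 13) (nat_lit 190) (Steps.bwd (nat_lit 9) (Steps.fwd (nat_lit 8192) (Steps.fwd (nat_lit 8192) (Steps.bwd (nat_lit 2) (Steps.fwd (nat_lit 114688) (Steps.bwd (nat_lit 2) (Steps.bwd (nat_lit 16) (Steps.bwd (nat_lit 13) (Steps.bwd (nat_lit 9) (Steps.fwd (nat_lit 106496) (Steps.bwd (nat_lit 9) Steps.nil))))))))))) (nat_lit 75) (nat_lit 11),
  Rule.mk (nat_lit 16) (nat_lit 110) (Steps.bwd (nat_lit 2) (Steps.bwd (nat_lit 15) (Steps.bwd (nat_lit 1) (Steps.bwd (nat_lit 15) (Steps.bwd (nat_lit 15) (Steps.bwd (nat_lit 10) Steps.nil)))))) (nat_lit 45) (nat_lit 4),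
  Rule.mk (nat_lit 9) (nat_lit 206) (Steps.bwd (nat_lit 2) (Steps.bwd (nat_lit 2) (Steps.fwd (nat_lit 73728) (Steps.bwd (nat_lit 1) (Steps.bwd (nat_lit 3) (Steps.fwd (nat_lit 32768) (Steps.fwd (nat_lit 16384) (Steps.bwd (nat_lit 4) (Steps.fwd (nat_lit 16384) (Steps.fwd (nat_lit 90112) (Steps.bwd (nat_lit 18) (Steps.fwd (nat_lit 131072) Steps.nil)))))))))))) (nat_lit 69) (nat_lit 10),
  Rule.mk (nat_lit 9) (nat_lit 190) (Steps.bwd (nat_lit 13) (Steps.fwd (nat_lit 73728) (Steps.fwd (nat_lit 8192) (Steps.fwd (nat_lit 8192) (Steps.fwd (nat_lit 8192) (Steps.fwd (nat_lit 114688) (Steps.bwd (nat_lit 2) (Steps.bwd (nat_lit 16) (Steps.bwd (nat_lit 13) (Steps.fwd (nat_lit 73728) (Steps.fwd (nat_lit 106496) Steps.nil))))))))))) (nat_lit 75) (nat_lit 10),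
  Rule.mk (nat_lit 11) (nat_lit 110) (Steps.bwd (nat_lit 9) (Steps.fwd (nat_lit 32768) (Steps.bwd (nat_lit 14) (Steps.fwd (nat_lit 32768) (Steps.fwd (nat_lit 81920) (Steps.bwd (nat_lit 9) Steps.nil)))))) (nat_lit 61) (nat_lit 6),
  Rule.mk (nat_lit 1) (nat_lit 206) (Steps.bwd (nat_lit 1) (Steps.bwd (nat_lit 9) (Steps.fwd (nat_lit 139264) (Steps.bwd (nat_lit 19) (Steps.bwd (nat_lit 11) (Steps.bwd (nat_lit 2) (Steps.bwd (nat_lit 3) (Steps.bwd (nat_lit 2) (Steps.bwd (nat_lit 4) (Steps.fwd (nat_lit 24576) (Steps.fwd (nat_lit 8192) (Steps.bwd (nat_lit 9) Steps.nil)))))))))))) (nat_lit 68) (nat_lit 2),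
  Rule.mk (nat_lit 8) (nat_lit 126) (Steps.bwd (nat_lit 19) (Steps.fwd (nat_lit 57344) (Steps.bwd (nat_lit 1) (Steps.fwd (nat_lit 16384) (Steps.bwd (nat_lit 19) (Steps.bwd (nat_lit 8) (Steps.fwd (nat_lit 155648) Steps.nil))))))) (nat_lit 87) (nat_lit 6),
  Rule.mk (nat_lit 14) (nat_lit 110) (Steps.bwd (nat_lit 14) (Steps.bwd (nat_lit 2) (Steps.fwd (nat_lit 122880) (Steps.fwd (nat_lit 16384) (Steps.bwd (nat_lit 17) (Steps.fwd (nat_lit 81920) Steps.nil)))))) (nat_lit 44) (nat_lit 6),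
  Rule.mk (nat_lit 9) (nat_lit 158) (Steps.bwd (nat_lit 14) (Steps.bwd (nat_lit 9) (Steps.bwd (nat_lit 1) (Steps.bwd (nat_lit 16) (Steps.fwd (nat_lit 90112) (Steps.fwd (nat_lit 98304) (Steps.fwd (nat_lit 8192) (Steps.bwd (nat_lit 4) (Steps.bwd (nat_lit 4) Steps.nil))))))))) (nat_lit 62) (nat_lit 1),
  Rule.mk (nat_lit 9) (nat_lit 110) (Steps.bwd (nat_lit 19) (Steps.fwd (nat_lit 73728) (Steps.fwd (nat_lit 90112) (Steps.bwd (nat_lit 15) (Steps.bwd (nat_lit 10) (Steps.fwd (nat_lit 131072) Steps.nil)))))) (nat_lit 67) (nat_lit 5),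
  Rule.mk (nat_lit 7) (nat_lit 126) (Steps.bwd (nat_lit 19) (Steps.fwd (nat_lit 65536) (Steps.fwd (nat_lit 155648) (Steps.bwd (nat_lit 2) (Steps.fwd (nat_lit 8192) (Steps.bwd (nat_lit 7) (Steps.fwd (nat_lit 155648) Steps.nil))))))) (nat_lit 86) (nat_lit 3),
  Rule.mk (nat_lit 8) (nat_lit 158) (Steps.bwd (nat_lit 19) (Steps.fwd (nat_lit 57344) (Steps.bwd (nat_lit 19) (Steps.bwd (nat_lit 8) (Steps.fwd (nat_lit 147456) (Steps.fwd (nat_lit 57344) (Steps.fwd (nat_lit 147456) (Steps.fwd (nat_lit 57344) (Steps.bwd (nat_lit 19) Steps.nil))))))))) (nat_lit 85) (nat_lit 0),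
  Rule.mk (nat_lit 14) (nat_lit 190) (Steps.bwd (nat_lit 1) (Steps.fwd (nat_lit 16384) (Steps.fwd (nat_lit 16384) (Steps.bwd (nat_lit 9) (Steps.fwd (nat_lit 106496) (Steps.bwd (nat_lit 9) (Steps.bwd (nat_lit 13) (Steps.bwd (nat_lit 9) (Steps.bwd (nat_lit 12) (Steps.bwd (nat_lit 17) (Steps.bwd (nat_lit 1) Steps.nil))))))))))) (nat_lit 74) (nat_lit 9),
  Rule.mk (nat_lit 11) (nat_lit 78) (Steps.bwd (nat_lit 11) (Steps.fwd (nat_lit 81920) (Steps.fwd (nat_lit 81920) (Steps.fwd (nat_lit 81920) Steps.nil)))) (nat_lit 21) (nat_lit 0),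
  Rule.mk (nat_lit 14) (nat_lit 110) (Steps.bwd (nat_lit 11) (Steps.fwd (nat_lit 73728) (Steps.fwd (nat_lit 155648) (Steps.bwd (nat_lit 9) (Steps.fwd (nat_lit 139264) (Steps.bwd (nat_lit 11) Steps.nil)))))) (nat_lit 66) (nat_lit 6),
  Rule.mk (nat_lit 16) (nat_lit 110) (Steps.bwd (nat_lit 11) (Steps.fwd (nat_lit 122880) (Steps.bwd (nat_lit 11) (Steps.fwd (nat_lit 73728) (Steps.bwd (nat_lit 18) (Steps.fwd (nat_lit 73728) Steps.nil)))))) (nat_lit 66) (nat_lit 4),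
  Rule.mk (nat_lit 12) (nat_lit 142) (Steps.bwd (nat_lit 11) (Steps.fwd (nat_lit 8192) (Steps.bwd (nat_lit 16) (Steps.fwd (nat_lit 16384) (Steps.fwd (nat_lit 131072) (Steps.bwd (nat_lit 11) (Steps.bwd (nat_lit 17) (Steps.fwd (nat_lit 122880) Steps.nil)))))))) (nat_lit 46) (nat_lit 8),
  Rule.mk (nat_lit 13) (nat_lit 62) (Steps.fwd (nat_lit 139264) (Steps.bwd (nat_lit 12) (Steps.fwd (nat_lit 131072) Steps.nil))) (nat_lit 39) (nat_lit 2),
  Rule.mk (nat_lit 3) (nat_lit 126) (Steps.fwd (nat_lit 139264) (Steps.bwd (nat_lit 10) (Steps.fwd (nat_lit 139264) (Steps.bwd (nat_lit 15) (Steps.bwd (nat_lit 13) (Steps.bwd (nat_lit 4) (Steps.bwd (nat_lit 12) Steps.nil))))))) (nat_lit 50) (nat_lit 3),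
  Rule.mk (nat_lit 9) (nat_lit 190) (Steps.fwd (nat_lit 98304) (Steps.fwd (nat_lit 73728) (Steps.bwd (nat_lit 12) (Steps.fwd (nat_lit 131072) (Steps.bwd (nat_lit 1) (Steps.bwd (nat_lit 14) (Steps.bwd (nat_lit 1) (Steps.bwd (nat_lit 1) (Steps.bwd (nat_lit 1) (Steps.fwd (nat_lit 73728) (Steps.bwd (nat_lit 12) Steps.nil))))))))))) (nat_lit 74) (nat_lit 3),
  Rule.mk (nat_lit 9) (nat_lit 110) (Steps.bwd (nat_lit 19) (Steps.bwd (nat_lit 9) (Steps.fwd (nat_lit 90112) (Steps.fwd (nat_lit 114688) (Steps.fwd (nat_lit 90112) (Steps.fwd (nat_lit 131072) Steps.nil)))))) (nat_lit 67) (nat_lit 5),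
  Rule.mk (nat_lit 7) (nat_lit 126) (Steps.bwd (nat_lit 18) (Steps.fwd (nat_lit 65536) (Steps.fwd (nat_lit 147456) (Steps.fwd (nat_lit 65536) (Steps.bwd (nat_lit 18) (Steps.bwd (nat_lit 2) (Steps.bwd (nat_lit 2) Steps.nil))))))) (nat_lit 86) (nat_lit 1),
  Rule.mk (nat_lit 9) (nat_lit 158) (Steps.bwd (nat_lit 14) (Steps.fwd (nat_lit 73728) (Steps.bwd (nat_lit 1) (Steps.fwd (nat_lit 139264) (Steps.fwd (nat_lit 90112) (Steps.bwd (nat_lit 13) (Steps.bwd (nat_lit 2) (Steps.bwd (nat_lit 4) (Steps.bwd (nat_lit 4) Steps.nil))))))))) (nat_lit 62) (nat_lit 1),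
  Rule.mk (nat_lit 2) (nat_lit 270) (Steps.fwd (nat_lit 73728) (Steps.bwd (nat_lit 2) (Steps.fwd (nat_lit 155648) (Steps.bwd (nat_lit 16) (Steps.bwd (nat_lit 10) (Steps.bwd (nat_lit 3) (Steps.fwd (nat_lit 16384) (Steps.bwd (nat_lit 4) (Steps.fwd (nat_lit 24576) (Steps.bwd (nat_lit 2) (Steps.fwd (nat_lit 65536) (Steps.bwd (nat_lit 9) (Steps.bwd (nat_lit 4) (Steps.fwd (nat_lit 106496) (Steps.fwd (nat_lit 8192) (Steps.bwd (nat_lit 9) Steps.nil)))))))))))))))) (nat_lit 76) (nat_lit 7),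
  Rule.mk (nat_lit 9) (nat_lit 190) (Steps.bwd (nat_lit 2) (Steps.bwd (nat_lit 2) (Steps.fwd (nat_lit 8192) (Steps.fwd (nat_lit 114688) (Steps.bwd (nat_lit 2) (Steps.fwd (nat_lit 139264) (Steps.bwd (nat_lit 13) (Steps.bwd (nat_lit 9) (Steps.fwd (nat_lit 106496) (Steps.bwd (nat_lit 9) (Steps.bwd (nat_lit 13) Steps.nil))))))))))) (nat_lit 75) (nat_lit 0),
  Rule.mk (nat_lit 3) (nat_lit 206) (Steps.bwd (nat_lit 2) (Steps.bwd (nat_lit 4) (Steps.fwd (nat_lit 24576) (Steps.bwd (nat_lit 2) (Steps.bwd (nat_lit 9) (Steps.fwd (nat_lit 16384) (Steps.fwd (nat_lit 16384) (Steps.fwd (nat_lit 73728) (Steps.fwd (nat_lit 139264) (Steps.fwd (nat_lit 147456) (Steps.fwd (nat_lit 81920) (Steps.bwd (nat_lit 2) Steps.nil)))))))))))) (nat_lit 68) (nat_lit 9),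
  Rule.mk (nat_lit 10) (nat_lit 94) (Steps.bwd (nat_lit 19) (Steps.fwd (nat_lit 147456) (Steps.fwd (nat_lit 114688) (Steps.bwd (nat_lit 11) (Steps.fwd (nat_lit 122880) Steps.nil))))) (nat_lit 33) (nat_lit 0),
  Rule.mk (nat_lit 16) (nat_lit 110) (Steps.bwd (nat_lit 9) (Steps.fwd (nat_lit 131072) (Steps.bwd (nat_lit 14) (Steps.fwd (nat_lit 24576) (Steps.bwd (nat_lit 4) (Steps.bwd (nat_lit 9) Steps.nil)))))) (nat_lit 64) (nat_lit 2),
  Rule.mk (nat_lit 1) (nat_lit 206) (Steps.bwd (nat_lit 3) (Steps.fwd (nat_lit 32768) (Steps.fwd (nat_lit 16384) (Steps.bwd (nat_lit 4) (Steps.bwd (nat_lit 1) (Steps.bwd (nat_lit 9) (Steps.bwd (nat_lit 16) (Steps.bwd (nat_lit 19) (Steps.bwd (nat_lit 11) (Steps.fwd (nat_lit 8192) (Steps.fwd (nat_lit 8192) (Steps.bwd (nat_lit 9) Steps.nil)))))))))))) (nat_lit 72) (nat_lit 2),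
  Rule.mk (nat_lit 9) (nat_lit 110) (Steps.bwd (nat_lit 19) (Steps.fwd (nat_lit 73728) (Steps.fwd (nat_lit 90112) (Steps.fwd (nat_lit 114688) (Steps.bwd (nat_lit 10) (Steps.fwd (nat_lit 131072) Steps.nil)))))) (nat_lit 67) (nat_lit 5),
  Rule.mk (nat_lit 7) (nat_lit 126) (Steps.bwd (nat_lit 19) (Steps.fwd (nat_lit 65536) (Steps.bwd (nat_lit 18) (Steps.bwd (nat_lit 2) (Steps.fwd (nat_lit 8192) (Steps.fwd (nat_lit 65536) (Steps.bwd (nat_lit 18) Steps.nil))))))) (nat_lit 86) (nat_lit 3),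
  Rule.mk (nat_lit 1) (nat_lit 94) (Steps.bwd (nat_lit 1) (Steps.fwd (nat_lit 16384) (Steps.fwd (nat_lit 57344) (Steps.bwd (nat_lit 2) (Steps.bwd (nat_lit 7) Steps.nil))))) (nat_lit 83) (nat_lit 1),
  Rule.mk (nat_lit 1) (nat_lit 206) (Steps.fwd (nat_lit 16384) (Steps.fwd (nat_lit 73728) (Steps.bwd (nat_lit 16) (Steps.fwd (nat_lit 147456) (Steps.bwd (nat_lit 11) (Steps.bwd (nat_lit 2) (Steps.bwd (nat_lit 3) (Steps.bwd (nat_lit 2) (Steps.bwd (nat_lit 4) (Steps.fwd (nat_lit 24576) (Steps.bwd (nat_lit 2) (Steps.bwd (nat_lit 9) Steps.nil)))))))))))) (nat_lit 68) (nat_lit 2),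
  Rule.mk (nat_lit 12) (nat_lit 78) (Steps.bwd (nat_lit 19) (Steps.fwd (nat_lit 81920) (Steps.bwd (nat_lit 13) (Steps.bwd (nat_lit 10) Steps.nil)))) (nat_lit 19) (nat_lit 4),
  Rule.mk (nat_lit 8) (nat_lit 126) (Steps.bwd (nat_lit 19) (Steps.fwd (nat_lit 57344) (Steps.bwd (nat_lit 1) (Steps.fwd (nat_lit 16384) (Steps.fwd (nat_lit 147456) (Steps.bwd (nat_lit 8) (Steps.bwd (nat_lit 18) Steps.nil))))))) (nat_lit 87) (nat_lit 6),
  Rule.mk (nat_lit 16) (nat_lit 142) (Steps.bwd (nat_lit 1) (Steps.bwd (nat_lit 17) (Steps.fwd (nat_lit 81920) (Steps.bwd (nat_lit 17) (Steps.bwd (nat_lit 14) (Steps.fwd (nat_lit 106496) (Steps.bwd (nat_lit 11) (Steps.fwd (nat_lit 8192) Steps.nil)))))))) (nat_lit 46) (nat_lit 2),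
  Rule.mk (nat_lit 17) (nat_lit 190) (Steps.bwd (nat_lit 1) (Steps.fwd (nat_lit 122880) (Steps.bwd (nat_lit 1) (Steps.bwd (nat_lit 1) (Steps.fwd (nat_lit 16384) (Steps.fwd (nat_lit 73728) (Steps.fwd (nat_lit 106496) (Steps.bwd (nat_lit 9) (Steps.bwd (nat_lit 13) (Steps.fwd (nat_lit 73728) (Steps.bwd (nat_lit 12) Steps.nil))))))))))) (nat_lit 74) (nat_lit 7),
  Rule.mk (nat_lit 10) (nat_lit 158) (Steps.bwd (nat_lit 13) (Steps.fwd (nat_lit 8192) (Steps.bwd (nat_lit 4) (Steps.bwd (nat_lit 4) (Steps.bwd (nat_lit 9) (Steps.fwd (nat_lit 122880) (Steps.bwd (nat_lit 9) (Steps.fwd (nat_lit 16384) (Steps.bwd (nat_lit 16) Steps.nil))))))))) (nat_lit 62) (nat_lit 6),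
  Rule.mk (nat_lit 4) (nat_lit 110) (Steps.bwd (nat_lit 9) (Steps.fwd (nat_lit 90112) (Steps.bwd (nat_lit 9) (Steps.fwd (nat_lit 90112) (Steps.fwd (nat_lit 24576) (Steps.fwd (nat_lit 114688) Steps.nil)))))) (nat_lit 60) (nat_lit 0),
  Rule.mk (nat_lit 2) (nat_lit 110) (Steps.bwd (nat_lit 15) (Steps.bwd (nat_lit 1) (Steps.bwd (nat_lit 15) (Steps.fwd (nat_lit 114688) (Steps.fwd (nat_lit 90112) (Steps.bwd (nat_lit 16) Steps.nil)))))) (nat_lit 45) (nat_lit 5),
  Rule.mk (nat_lit 1) (nat_lit 110) (Steps.bwd (nat_lit 15) (Steps.bwd (nat_lit 15) (Steps.fwd (nat_lit 90112) (Steps.bwd (nat_lit 16) (Steps.bwd (nat_lit 2) (Steps.bwd (nat_lit 15) Steps.nil)))))) (nat_lit 45) (nat_lit 0),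
  Rule.mk (nat_lit 15) (nat_lit 110) (Steps.bwd (nat_lit 16) (Steps.bwd (nat_lit 9) (Steps.bwd (nat_lit 17) (Steps.fwd (nat_lit 73728) (Steps.bwd (nat_lit 3) (Steps.fwd (nat_lit 32768) Steps.nil)))))) (nat_lit 65) (nat_lit 3)]
noncomputable def R_91 : List (Rule) := [Rule.mk (nat_lit 3) (nat_lit 270) (Steps.fwd (nat_lit 16384) (Steps.bwd (nat_lit 4) (Steps.bwd (nat_lit 4) (Steps.bwd (nat_lit 2) (Steps.bwd (nat_lit 7) (Steps.fwd (nat_lit 73728) (Steps.fwd (nat_lit 24576) (Steps.fwd (nat_lit 106496) (Steps.fwd (nat_lit 8192) (Steps.bwd (nat_lit 9) (Steps.bwd (nat_lit 2) (Steps.fwd (nat_lit 73728) (Steps.bwd (nat_lit 2) (Steps.fwd (nat_lit 155648) (Steps.fwd (nat_lit 139264) (Steps.bwd (nat_lit 10) Steps.nil)))))))))))))))) (nat_lit 76) (nat_lit 13),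
  Rule.mk (nat_lit 2) (nat_lit 94) (Steps.bwd (nat_lit 2) (Steps.bwd (nat_lit 2) (Steps.bwd (nat_lit 2) (Steps.fwd (nat_lit 65536) (Steps.bwd (nat_lit 7) Steps.nil))))) (nat_lit 78) (nat_lit 3),
  Rule.mk (nat_lit 14) (nat_lit 94) (Steps.fwd (nat_lit 155648) (Steps.bwd (nat_lit 18) (Steps.bwd (nat_lit 11) (Steps.fwd (nat_lit 114688) (Steps.bwd (nat_lit 10) Steps.nil))))) (nat_lit 32) (nat_lit 4),
  Rule.mk (nat_lit 9) (nat_lit 158) (Steps.bwd (nat_lit 1) (Steps.bwd (nat_lit 16) (Steps.fwd (nat_lit 90112) (Steps.bwd (nat_lit 13) (Steps.bwd (nat_lit 2) (Steps.fwd (nat_lit 24576) (Steps.fwd (nat_lit 24576) (Steps.bwd (nat_lit 9) (Steps.fwd (nat_lit 122880) Steps.nil))))))))) (nat_lit 62) (nat_lit 3),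
  Rule.mk (nat_lit 15) (nat_lit 110) (Steps.bwd (nat_lit 17) (Steps.fwd (nat_lit 131072) (Steps.bwd (nat_lit 9) (Steps.fwd (nat_lit 24576) (Steps.bwd (nat_lit 9) (Steps.bwd (nat_lit 10) Steps.nil)))))) (nat_lit 71) (nat_lit 2),
  Rule.mk (nat_lit 13) (nat_lit 190) (Steps.bwd (nat_lit 9) (Steps.fwd (nat_lit 106496) (Steps.bwd (nat_lit 17) (Steps.fwd (nat_lit 16384) (Steps.fwd (nat_lit 122880) (Steps.bwd (nat_lit 1) (Steps.bwd (nat_lit 1) (Steps.fwd (nat_lit 16384) (Steps.bwd (nat_lit 9) (Steps.bwd (nat_lit 12) (Steps.bwd (nat_lit 9) Steps.nil))))))))))) (nat_lit 74) (nat_lit 4),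
  Rule.mk (nat_lit 16) (nat_lit 206) (Steps.fwd (nat_lit 147456) (Steps.fwd (nat_lit 81920) (Steps.bwd (nat_lit 2) (Steps.bwd (nat_lit 3) (Steps.fwd (nat_lit 8192) (Steps.bwd (nat_lit 4) (Steps.fwd (nat_lit 24576) (Steps.bwd (nat_lit 2) (Steps.fwd (nat_lit 73728) (Steps.fwd (nat_lit 16384) (Steps.bwd (nat_lit 1) (Steps.bwd (nat_lit 9) Steps.nil)))))))))))) (nat_lit 68) (nat_lit 5),
  Rule.mk (nat_lit 10) (nat_lit 158) (Steps.fwd (nat_lit 98304) (Steps.fwd (nat_lit 8192) (Steps.fwd (nat_lit 24576) (Steps.bwd (nat_lit 4) (Steps.fwd (nat_lit 73728) (Steps.bwd (nat_lit 14) (Steps.fwd (nat_lit 73728) (Steps.fwd (nat_lit 16384) (Steps.bwd (nat_lit 16) Steps.nil))))))))) (nat_lit 62) (nat_lit 6),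
  Rule.mk (nat_lit 9) (nat_lit 110) (Steps.bwd (nat_lit 16) (Steps.bwd (nat_lit 9) (Steps.bwd (nat_lit 17) (Steps.fwd (nat_lit 122880) (Steps.bwd (nat_lit 4) (Steps.fwd (nat_lit 24576) Steps.nil)))))) (nat_lit 64) (nat_lit 1),
  Rule.mk (nat_lit 16) (nat_lit 110) (Steps.bwd (nat_lit 16) (Steps.bwd (nat_lit 14) (Steps.fwd (nat_lit 81920) (Steps.bwd (nat_lit 9) (Steps.fwd (nat_lit 32768) (Steps.fwd (nat_lit 73728) Steps.nil)))))) (nat_lit 70) (nat_lit 4),
  Rule.mk (nat_lit 3) (nat_lit 126) (Steps.bwd (nat_lit 16) (Steps.bwd (nat_lit 10) (Steps.bwd (nat_lit 16) (Steps.fwd (nat_lit 114688) (Steps.fwd (nat_lit 98304) (Steps.bwd (nat_lit 4) (Steps.bwd (nat_lit 12) Steps.nil))))))) (nat_lit 50) (nat_lit 3),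
  Rule.mk (nat_lit 2) (nat_lit 142) (Steps.bwd (nat_lit 16) (Steps.fwd (nat_lit 16384) (Steps.fwd (nat_lit 131072) (Steps.fwd (nat_lit 81920) (Steps.bwd (nat_lit 17) (Steps.fwd (nat_lit 122880) (Steps.bwd (nat_lit 12) (Steps.bwd (nat_lit 11) Steps.nil)))))))) (nat_lit 46) (nat_lit 1),
  Rule.mk (nat_lit 1) (nat_lit 158) (Steps.bwd (nat_lit 16) (Steps.bwd (nat_lit 10) (Steps.fwd (nat_lit 98304) (Steps.fwd (nat_lit 8192) (Steps.fwd (nat_lit 24576) (Steps.bwd (nat_lit 4) (Steps.fwd (nat_lit 73728) (Steps.bwd (nat_lit 14) (Steps.bwd (nat_lit 9) Steps.nil))))))))) (nat_lit 62) (nat_lit 4),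
  Rule.mk (nat_lit 14) (nat_lit 126) (Steps.bwd (nat_lit 17) (Steps.fwd (nat_lit 81920) (Steps.bwd (nat_lit 17) (Steps.bwd (nat_lit 4) (Steps.fwd (nat_lit 98304) (Steps.fwd (nat_lit 32768) (Steps.bwd (nat_lit 12) Steps.nil))))))) (nat_lit 51) (nat_lit 2),
  Rule.mk (nat_lit 11) (nat_lit 110) (Steps.bwd (nat_lit 9) (Steps.fwd (nat_lit 32768) (Steps.bwd (nat_lit 9) (Steps.fwd (nat_lit 139264) (Steps.fwd (nat_lit 139264) (Steps.bwd (nat_lit 14) Steps.nil)))))) (nat_lit 70) (nat_lit 0),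
  Rule.mk (nat_lit 1) (nat_lit 206) (Steps.bwd (nat_lit 9) (Steps.bwd (nat_lit 16) (Steps.fwd (nat_lit 147456) (Steps.fwd (nat_lit 81920) (Steps.bwd (nat_lit 2) (Steps.fwd (nat_lit 32768) (Steps.fwd (nat_lit 8192) (Steps.fwd (nat_lit 24576) (Steps.fwd (nat_lit 24576) (Steps.fwd (nat_lit 8192) (Steps.fwd (nat_lit 73728) (Steps.bwd (nat_lit 1) Steps.nil)))))))))))) (nat_lit 68) (nat_lit 3),
  Rule.mk (nat_lit 2) (nat_lit 206) (Steps.bwd (nat_lit 9) (Steps.bwd (nat_lit 1) (Steps.fwd (nat_lit 32768) (Steps.bwd (nat_lit 3) (Steps.fwd (nat_lit 16384) (Steps.bwd (nat_lit 4) (Steps.fwd (nat_lit 16384) (Steps.fwd (nat_lit 90112) (Steps.bwd (nat_lit 18) (Steps.bwd (nat_lit 17) (Steps.fwd (nat_lit 73728) (Steps.bwd (nat_lit 2) Steps.nil)))))))))))) (nat_lit 69) (nat_lit 12),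
  Rule.mk (nat_lit 16) (nat_lit 142) (Steps.fwd (nat_lit 16384) (Steps.fwd (nat_lit 131072) (Steps.bwd (nat_lit 11) (Steps.bwd (nat_lit 17) (Steps.bwd (nat_lit 14) (Steps.fwd (nat_lit 106496) (Steps.bwd (nat_lit 11) (Steps.bwd (nat_lit 2) Steps.nil)))))))) (nat_lit 46) (nat_lit 2),
  Rule.mk (nat_lit 9) (nat_lit 110) (Steps.fwd (nat_lit 90112) (Steps.fwd (nat_lit 24576) (Steps.fwd (nat_lit 114688) (Steps.fwd (nat_lit 24576) (Steps.fwd (nat_lit 73728) (Steps.bwd (nat_lit 10) Steps.nil)))))) (nat_lit 60) (nat_lit 3),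
  Rule.mk (nat_lit 13) (nat_lit 126) (Steps.bwd (nat_lit 4) (Steps.fwd (nat_lit 106496) (Steps.fwd (nat_lit 32768) (Steps.bwd (nat_lit 16) (Steps.bwd (nat_lit 10) (Steps.fwd (nat_lit 139264) (Steps.fwd (nat_lit 114688) Steps.nil))))))) (nat_lit 50) (nat_lit 0),
  Rule.mk (nat_lit 18) (nat_lit 126) (Steps.bwd (nat_lit 2) (Steps.bwd (nat_lit 2) (Steps.bwd (nat_lit 7) (Steps.fwd (nat_lit 155648) (Steps.fwd (nat_lit 65536) (Steps.bwd (nat_lit 19) (Steps.bwd (nat_lit 7) Steps.nil))))))) (nat_lit 86) (nat_lit 6),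
  Rule.mk (nat_lit 10) (nat_lit 126) (Steps.bwd (nat_lit 10) (Steps.bwd (nat_lit 16) (Steps.bwd (nat_lit 15) (Steps.bwd (nat_lit 15) (Steps.fwd (nat_lit 24576) (Steps.bwd (nat_lit 15) (Steps.bwd (nat_lit 3) Steps.nil))))))) (nat_lit 53) (nat_lit 1),
  Rule.mk (nat_lit 8) (nat_lit 126) (Steps.bwd (nat_lit 18) (Steps.fwd (nat_lit 57344) (Steps.fwd (nat_lit 147456) (Steps.fwd (nat_lit 57344) (Steps.bwd (nat_lit 1) (Steps.bwd (nat_lit 1) (Steps.fwd (nat_lit 147456) Steps.nil))))))) (nat_lit 87) (nat_lit 4),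
  Rule.mk (nat_lit 15) (nat_lit 94) (Steps.fwd (nat_lit 90112) (Steps.bwd (nat_lit 14) (Steps.bwd (nat_lit 18) (Steps.bwd (nat_lit 18) (Steps.bwd (nat_lit 11) Steps.nil))))) (nat_lit 32) (nat_lit 2),
  Rule.mk (nat_lit 9) (nat_lit 270) (Steps.bwd (nat_lit 8) (Steps.bwd (nat_lit 1) (Steps.fwd (nat_lit 32768) (Steps.fwd (nat_lit 32768) (Steps.bwd (nat_lit 2) (Steps.bwd (nat_lit 4) (Steps.fwd (nat_lit 81920) (Steps.fwd (nat_lit 131072) (Steps.bwd (nat_lit 19) (Steps.fwd (nat_lit 16384) (Steps.fwd (nat_lit 73728) (Steps.fwd (nat_lit 16384) (Steps.bwd (nat_lit 9) (Steps.fwd (nat_lit 16384) (Steps.bwd (nat_lit 13) (Steps.bwd (nat_lit 3) Steps.nil)))))))))))))))) (nat_lit 77) (nat_lit 16),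
  Rule.mk (nat_lit 17) (nat_lit 110) (Steps.fwd (nat_lit 73728) (Steps.fwd (nat_lit 24576) (Steps.bwd (nat_lit 9) (Steps.fwd (nat_lit 90112) (Steps.fwd (nat_lit 114688) (Steps.bwd (nat_lit 17) Steps.nil)))))) (nat_lit 71) (nat_lit 4),
  Rule.mk (nat_lit 15) (nat_lit 110) (Steps.bwd (nat_lit 4) (Steps.bwd (nat_lit 9) (Steps.bwd (nat_lit 10) (Steps.bwd (nat_lit 9) (Steps.fwd (nat_lit 90112) (Steps.bwd (nat_lit 4) Steps.nil)))))) (nat_lit 60) (nat_lit 6),
  Rule.mk (nat_lit 2) (nat_lit 126) (Steps.bwd (nat_lit 4) (Steps.bwd (nat_lit 2) (Steps.bwd (nat_lit 4) (Steps.fwd (nat_lit 8192) (Steps.bwd (nat_lit 4) (Steps.bwd (nat_lit 2) (Steps.bwd (nat_lit 4) Steps.nil))))))) (nat_lit 5) (nat_lit 0),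
  Rule.mk (nat_lit 4) (nat_lit 158) (Steps.bwd (nat_lit 4) (Steps.bwd (nat_lit 9) (Steps.fwd (nat_lit 122880) (Steps.fwd (nat_lit 73728) (Steps.fwd (nat_lit 16384) (Steps.bwd (nat_lit 16) (Steps.fwd (nat_lit 90112) (Steps.bwd (nat_lit 13) (Steps.bwd (nat_lit 2) Steps.nil))))))))) (nat_lit 62) (nat_lit 9),
  Rule.mk (nat_lit 9) (nat_lit 110) (Steps.fwd (nat_lit 90112) (Steps.fwd (nat_lit 114688) (Steps.fwd (nat_lit 131072) (Steps.bwd (nat_lit 17) (Steps.bwd (nat_lit 9) (Steps.bwd (nat_lit 4) Steps.nil)))))) (nat_lit 71) (nat_lit 0),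
  Rule.mk (nat_lit 13) (nat_lit 126) (Steps.bwd (nat_lit 3) (Steps.bwd (nat_lit 12) (Steps.fwd (nat_lit 122880) (Steps.fwd (nat_lit 131072) (Steps.bwd (nat_lit 11) (Steps.bwd (nat_lit 17) (Steps.fwd (nat_lit 24576) Steps.nil))))))) (nat_lit 51) (nat_lit 7),
  Rule.mk (nat_lit 9) (nat_lit 190) (Steps.bwd (nat_lit 12) (Steps.fwd (nat_lit 131072) (Steps.fwd (nat_lit 16384) (Steps.bwd (nat_lit 14) (Steps.bwd (nat_lit 1) (Steps.bwd (nat_lit 1) (Steps.bwd (nat_lit 1) (Steps.fwd (nat_lit 73728) (Steps.bwd (nat_lit 12) (Steps.fwd (nat_lit 73728) (Steps.bwd (nat_lit 13) Steps.nil))))))))))) (nat_lit 74) (nat_lit 5),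
  Rule.mk (nat_lit 2) (nat_lit 110) (Steps.bwd (nat_lit 14) (Steps.fwd (nat_lit 16384) (Steps.bwd (nat_lit 17) (Steps.fwd (nat_lit 81920) (Steps.fwd (nat_lit 122880) (Steps.fwd (nat_lit 122880) Steps.nil)))))) (nat_lit 44) (nat_lit 1),
  Rule.mk (nat_lit 4) (nat_lit 110) (Steps.bwd (nat_lit 9) (Steps.bwd (nat_lit 10) (Steps.bwd (nat_lit 15) (Steps.bwd (nat_lit 17) (Steps.fwd (nat_lit 131072) (Steps.bwd (nat_lit 9) Steps.nil)))))) (nat_lit 71) (nat_lit 6),
  Rule.mk (nat_lit 16) (nat_lit 206) (Steps.bwd (nat_lit 19) (Steps.fwd (nat_lit 81920) (Steps.bwd (nat_lit 2) (Steps.bwd (nat_lit 2) (Steps.bwd (nat_lit 9) (Steps.fwd (nat_lit 16384) (Steps.fwd (nat_lit 32768) (Steps.bwd (nat_lit 3) (Steps.bwd (nat_lit 1) (Steps.bwd (nat_lit 4) (Steps.fwd (nat_lit 16384) (Steps.bwd (nat_lit 9) Steps.nil)))))))))))) (nat_lit 72) (nat_lit 9),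
  Rule.mk (nat_lit 2) (nat_lit 206) (Steps.fwd (nat_lit 32768) (Steps.fwd (nat_lit 8192) (Steps.bwd (nat_lit 4) (Steps.bwd (nat_lit 4) (Steps.bwd (nat_lit 2) (Steps.bwd (nat_lit 9) (Steps.bwd (nat_lit 1) (Steps.bwd (nat_lit 1) (Steps.fwd (nat_lit 90112) (Steps.bwd (nat_lit 18) (Steps.fwd (nat_lit 131072) (Steps.bwd (nat_lit 9) Steps.nil)))))))))))) (nat_lit 73) (nat_lit 7),
  Rule.mk (nat_lit 9) (nat_lit 110) (Steps.bwd (nat_lit 18) (Steps.fwd (nat_lit 73728) (Steps.bwd (nat_lit 16) (Steps.fwd (nat_lit 81920) (Steps.fwd (nat_lit 122880) (Steps.fwd (nat_lit 81920) Steps.nil)))))) (nat_lit 66) (nat_lit 1),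
  Rule.mk (nat_lit 7) (nat_lit 126) (Steps.bwd (nat_lit 18) (Steps.fwd (nat_lit 65536) (Steps.fwd (nat_lit 147456) (Steps.bwd (nat_lit 7) (Steps.fwd (nat_lit 155648) (Steps.fwd (nat_lit 8192) (Steps.fwd (nat_lit 8192) Steps.nil))))))) (nat_lit 86) (nat_lit 1),
  Rule.mk (nat_lit 3) (nat_lit 110) (Steps.bwd (nat_lit 3) (Steps.fwd (nat_lit 114688) (Steps.bwd (nat_lit 16) (Steps.bwd (nat_lit 9) (Steps.fwd (nat_lit 131072) (Steps.bwd (nat_lit 9) Steps.nil)))))) (nat_lit 65) (nat_lit 1),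
  Rule.mk (nat_lit 1) (nat_lit 206) (Steps.bwd (nat_lit 3) (Steps.bwd (nat_lit 3) (Steps.fwd (nat_lit 16384) (Steps.bwd (nat_lit 4) (Steps.bwd (nat_lit 1) (Steps.bwd (nat_lit 10) (Steps.fwd (nat_lit 155648) (Steps.bwd (nat_lit 17) (Steps.bwd (nat_lit 9) (Steps.bwd (nat_lit 2) (Steps.fwd (nat_lit 8192) (Steps.bwd (nat_lit 9) Steps.nil)))))))))))) (nat_lit 69) (nat_lit 1),
  Rule.mk (nat_lit 16) (nat_lit 142) (Steps.bwd (nat_lit 1) (Steps.fwd (nat_lit 131072) (Steps.bwd (nat_lit 11) (Steps.fwd (nat_lit 131072) (Steps.fwd (nat_lit 122880) (Steps.fwd (nat_lit 106496) (Steps.bwd (nat_lit 11) (Steps.bwd (nat_lit 2) Steps.nil)))))))) (nat_lit 46) (nat_lit 2),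
  Rule.mk (nat_lit 17) (nat_lit 142) (Steps.bwd (nat_lit 1) (Steps.bwd (nat_lit 10) (Steps.bwd (nat_lit 13) (Steps.fwd (nat_lit 114688) (Steps.fwd (nat_lit 139264) (Steps.bwd (nat_lit 10) (Steps.fwd (nat_lit 139264) (Steps.fwd (nat_lit 8192) Steps.nil)))))))) (nat_lit 47) (nat_lit 8),
  Rule.mk (nat_lit 14) (nat_lit 94) (Steps.bwd (nat_lit 18) (Steps.fwd (nat_lit 155648) (Steps.fwd (nat_lit 81920) (Steps.bwd (nat_lit 15) (Steps.fwd (nat_lit 90112) Steps.nil))))) (nat_lit 32) (nat_lit 4),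
  Rule.mk (nat_lit 8) (nat_lit 126) (Steps.bwd (nat_lit 18) (Steps.fwd (nat_lit 57344) (Steps.bwd (nat_lit 19) (Steps.bwd (nat_lit 8) (Steps.bwd (nat_lit 1) (Steps.fwd (nat_lit 16384) (Steps.fwd (nat_lit 147456) Steps.nil))))))) (nat_lit 87) (nat_lit 4),
  Rule.mk (nat_lit 14) (nat_lit 110) (Steps.fwd (nat_lit 81920) (Steps.fwd (nat_lit 73728) (Steps.fwd (nat_lit 155648) (Steps.bwd (nat_lit 9) (Steps.bwd (nat_lit 16) (Steps.bwd (nat_lit 11) Steps.nil)))))) (nat_lit 66) (nat_lit 6),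
  Rule.mk (nat_lit 17) (nat_lit 142) (Steps.fwd (nat_lit 122880) (Steps.fwd (nat_lit 106496) (Steps.bwd (nat_lit 11) (Steps.fwd (nat_lit 8192) (Steps.bwd (nat_lit 16) (Steps.fwd (nat_lit 16384) (Steps.bwd (nat_lit 17) (Steps.bwd (nat_lit 11) Steps.nil)))))))) (nat_lit 46) (nat_lit 6),
  Rule.mk (nat_lit 1) (nat_lit 110) (Steps.bwd (nat_lit 17) (Steps.fwd (nat_lit 81920) (Steps.bwd (nat_lit 14) (Steps.fwd (nat_lit 122880) (Steps.bwd (nat_lit 2) (Steps.fwd (nat_lit 122880) Steps.nil)))))) (nat_lit 44) (nat_lit 3),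
  Rule.mk (nat_lit 12) (nat_lit 190) (Steps.bwd (nat_lit 9) (Steps.fwd (nat_lit 98304) (Steps.fwd (nat_lit 73728) (Steps.fwd (nat_lit 106496) (Steps.fwd (nat_lit 131072) (Steps.bwd (nat_lit 1) (Steps.fwd (nat_lit 122880) (Steps.bwd (nat_lit 1) (Steps.fwd (nat_lit 16384) (Steps.fwd (nat_lit 16384) (Steps.fwd (nat_lit 73728) Steps.nil))))))))))) (nat_lit 74) (nat_lit 2),
  Rule.mk (nat_lit 17) (nat_lit 206) (Steps.bwd (nat_lit 9) (Steps.fwd (nat_lit 8192) (Steps.fwd (nat_lit 32768) (Steps.bwd (nat_lit 2) (Steps.fwd (nat_lit 24576) (Steps.fwd (nat_lit 24576) (Steps.bwd (nat_lit 2) (Steps.fwd (nat_lit 73728) (Steps.fwd (nat_lit 16384) (Steps.fwd (nat_lit 16384) (Steps.fwd (nat_lit 90112) (Steps.bwd (nat_lit 18) Steps.nil)))))))))))) (nat_lit 73) (nat_lit 5),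
  Rule.mk (nat_lit 2) (nat_lit 270) (Steps.bwd (nat_lit 9) (Steps.fwd (nat_lit 8192) (Steps.bwd (nat_lit 9) (Steps.fwd (nat_lit 8192) (Steps.bwd (nat_lit 18) (Steps.bwd (nat_lit 16) (Steps.fwd (nat_lit 90112) (Steps.bwd (nat_lit 3) (Steps.bwd (nat_lit 1) (Steps.bwd (nat_lit 4) (Steps.bwd (nat_lit 4) (Steps.bwd (nat_lit 2) (Steps.fwd (nat_lit 65536) (Steps.bwd (nat_lit 9) (Steps.fwd (nat_lit 24576) (Steps.fwd (nat_lit 106496) Steps.nil)))))))))))))))) (nat_lit 76) (nat_lit 5),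
  Rule.mk (nat_lit 3) (nat_lit 270) (Steps.bwd (nat_lit 9) (Steps.fwd (nat_lit 57344) (Steps.fwd (nat_lit 16384) (Steps.fwd (nat_lit 32768) (Steps.bwd (nat_lit 3) (Steps.bwd (nat_lit 2) (Steps.bwd (nat_lit 4) (Steps.fwd (nat_lit 81920) (Steps.bwd (nat_lit 17) (Steps.bwd (nat_lit 19) (Steps.fwd (nat_lit 16384) (Steps.bwd (nat_lit 9) (Steps.fwd (nat_lit 16384) (Steps.bwd (nat_lit 9) (Steps.bwd (nat_lit 1) (Steps.bwd (nat_lit 13) Steps.nil)))))))))))))))) (nat_lit 77) (nat_lit 15),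
  Rule.mk (nat_lit 2) (nat_lit 206) (Steps.fwd (nat_lit 24576) (Steps.bwd (nat_lit 4) (Steps.bwd (nat_lit 2) (Steps.fwd (nat_lit 73728) (Steps.fwd (nat_lit 16384) (Steps.bwd (nat_lit 1) (Steps.bwd (nat_lit 9) (Steps.fwd (nat_lit 139264) (Steps.bwd (nat_lit 19) (Steps.fwd (nat_lit 81920) (Steps.fwd (nat_lit 8192) (Steps.bwd (nat_lit 3) Steps.nil)))))))))))) (nat_lit 68) (nat_lit 10),
  Rule.mk (nat_lit 10) (nat_lit 110) (Steps.bwd (nat_lit 4) (Steps.bwd (nat_lit 15) (Steps.bwd (nat_lit 4) (Steps.fwd (nat_lit 73728) (Steps.fwd (nat_lit 90112) (Steps.fwd (nat_lit 73728) Steps.nil)))))) (nat_lit 60) (nat_lit 4),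
  Rule.mk (nat_lit 13) (nat_lit 126) (Steps.bwd (nat_lit 4) (Steps.fwd (nat_lit 106496) (Steps.bwd (nat_lit 3) (Steps.bwd (nat_lit 16) (Steps.fwd (nat_lit 90112) (Steps.fwd (nat_lit 139264) (Steps.bwd (nat_lit 15) Steps.nil))))))) (nat_lit 50) (nat_lit 0),
  Rule.mk (nat_lit 17) (nat_lit 126) (Steps.bwd (nat_lit 4) (Steps.fwd (nat_lit 98304) (Steps.fwd (nat_lit 32768) (Steps.bwd (nat_lit 12) (Steps.bwd (nat_lit 14) (Steps.fwd (nat_lit 131072) (Steps.bwd (nat_lit 11) Steps.nil))))))) (nat_lit 51) (nat_lit 5),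
  Rule.mk (nat_lit 11) (nat_lit 126) (Steps.bwd (nat_lit 4) (Steps.bwd (nat_lit 14) (Steps.bwd (nat_lit 3) (Steps.fwd (nat_lit 122880) (Steps.bwd (nat_lit 14) (Steps.fwd (nat_lit 131072) (Steps.bwd (nat_lit 11) Steps.nil))))))) (nat_lit 52) (nat_lit 0),
  Rule.mk (nat_lit 9) (nat_lit 110) (Steps.bwd (nat_lit 18) (Steps.fwd (nat_lit 73728) (Steps.bwd (nat_lit 16) (Steps.fwd (nat_lit 81920) (Steps.fwd (nat_lit 122880) (Steps.bwd (nat_lit 11) Steps.nil)))))) (nat_lit 66) (nat_lit 1),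
  Rule.mk (nat_lit 14) (nat_lit 94) (Steps.bwd (nat_lit 10) (Steps.fwd (nat_lit 147456) (Steps.bwd (nat_lit 19) (Steps.bwd (nat_lit 15) (Steps.fwd (nat_lit 81920) Steps.nil))))) (nat_lit 33) (nat_lit 5),
  Rule.mk (nat_lit 9) (nat_lit 110) (Steps.bwd (nat_lit 10) (Steps.bwd (nat_lit 9) (Steps.fwd (nat_lit 90112) (Steps.fwd (nat_lit 24576) (Steps.bwd (nat_lit 15) (Steps.fwd (nat_lit 24576) Steps.nil)))))) (nat_lit 60) (nat_lit 1),
  Rule.mk (nat_lit 2) (nat_lit 286) (Steps.bwd (nat_lit 10) (Steps.fwd (nat_lit 16384) (Steps.fwd (nat_lit 32768) (Steps.fwd (nat_lit 32768) (Steps.bwd (nat_lit 9) (Steps.fwd (nat_lit 57344) (Steps.bwd (nat_lit 11) (Steps.fwd (nat_lit 57344) (Steps.fwd (nat_lit 32768) (Steps.fwd (nat_lit 8192) (Steps.fwd (nat_lit 24576) (Steps.bwd (nat_lit 11) (Steps.fwd (nat_lit 57344) (Steps.fwd (nat_lit 8192) (Steps.bwd (nat_lit 11) (Steps.bwd (nat_lit 1) (Steps.fwd (nat_lit 81920) Steps.nil)))))))))))))))))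 (nat_lit 56) (nat_lit 14),
  Rule.mk (nat_lit 4) (nat_lit 126) (Steps.fwd (nat_lit 8192) (Steps.bwd (nat_lit 4) (Steps.fwd (nat_lit 8192) (Steps.fwd (nat_lit 24576) (Steps.bwd (nat_lit 2) (Steps.fwd (nat_lit 24576) (Steps.bwd (nat_lit 2) Steps.nil))))))) (nat_lit 5) (nat_lit 1),
  Rule.mk (nat_lit 3) (nat_lit 110) (Steps.fwd (nat_lit 114688) (Steps.bwd (nat_lit 16) (Steps.bwd (nat_lit 9) (Steps.fwd (nat_lit 131072) (Steps.fwd (nat_lit 73728) (Steps.bwd (nat_lit 3) Steps.nil)))))) (nat_lit 65) (nat_lit 2),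
  Rule.mk (nat_lit 9) (nat_lit 110) (Steps.bwd (nat_lit 3) (Steps.bwd (nat_lit 14) (Steps.bwd (nat_lit 3) (Steps.bwd (nat_lit 11) (Steps.fwd (nat_lit 73728) (Steps.fwd (nat_lit 81920) Steps.nil)))))) (nat_lit 61) (nat_lit 0),
  Rule.mk (nat_lit 15) (nat_lit 110) (Steps.bwd (nat_lit 10) (Steps.fwd (nat_lit 139264) (Steps.bwd (nat_lit 2) (Steps.bwd (nat_lit 15) (Steps.bwd (nat_lit 1) (Steps.bwd (nat_lit 15) Steps.nil)))))) (nat_lit 45) (nat_lit 2)]
noncomputable def R_92 : List (Rule) := [Rule.mk (nat_lit 9) (nat_lit 110) (Steps.bwd (nat_lit 10) (Steps.fwd (nat_lit 114688) (Steps.fwd (nat_lit 90112) (Steps.fwd (nat_lit 131072) (Steps.fwd (nat_lit 73728) (Steps.bwd (nat_lit 19) Steps.nil)))))) (nat_lit 67) (nat_lit 0),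
  Rule.mk (nat_lit 3) (nat_lit 126) (Steps.bwd (nat_lit 10) (Steps.fwd (nat_lit 90112) (Steps.fwd (nat_lit 139264) (Steps.fwd (nat_lit 114688) (Steps.bwd (nat_lit 15) (Steps.bwd (nat_lit 4) (Steps.bwd (nat_lit 15) Steps.nil))))))) (nat_lit 53) (nat_lit 0),
  Rule.mk (nat_lit 9) (nat_lit 190) (Steps.bwd (nat_lit 12) (Steps.fwd (nat_lit 73728) (Steps.bwd (nat_lit 13) (Steps.fwd (nat_lit 73728) (Steps.fwd (nat_lit 8192) (Steps.bwd (nat_lit 2) (Steps.fwd (nat_lit 8192) (Steps.fwd (nat_lit 114688) (Steps.bwd (nat_lit 2) (Steps.fwd (nat_lit 139264) (Steps.fwd (nat_lit 98304) Steps.nil))))))))))) (nat_lit 75) (nat_lit 8),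
  Rule.mk (nat_lit 1) (nat_lit 126) (Steps.bwd (nat_lit 1) (Steps.fwd (nat_lit 147456) (Steps.bwd (nat_lit 8) (Steps.bwd (nat_lit 18) (Steps.fwd (nat_lit 57344) (Steps.fwd (nat_lit 147456) (Steps.bwd (nat_lit 8) Steps.nil))))))) (nat_lit 87) (nat_lit 1),
  Rule.mk (nat_lit 9) (nat_lit 206) (Steps.fwd (nat_lit 139264) (Steps.fwd (nat_lit 147456) (Steps.fwd (nat_lit 81920) (Steps.fwd (nat_lit 8192) (Steps.fwd (nat_lit 32768) (Steps.bwd (nat_lit 2) (Steps.fwd (nat_lit 24576) (Steps.bwd (nat_lit 4) (Steps.bwd (nat_lit 2) (Steps.bwd (nat_lit 9) (Steps.fwd (nat_lit 16384) (Steps.bwd (nat_lit 1) Steps.nil)))))))))))) (nat_lit 68) (nat_lit 4),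
  Rule.mk (nat_lit 9) (nat_lit 270) (Steps.bwd (nat_lit 1) (Steps.bwd (nat_lit 9) (Steps.bwd (nat_lit 1) (Steps.fwd (nat_lit 98304) (Steps.fwd (nat_lit 32768) (Steps.fwd (nat_lit 73728) (Steps.bwd (nat_lit 8) (Steps.bwd (nat_lit 1) (Steps.fwd (nat_lit 32768) (Steps.bwd (nat_lit 3) (Steps.bwd (nat_lit 2) (Steps.bwd (nat_lit 4) (Steps.bwd (nat_lit 11) (Steps.fwd (nat_lit 131072) (Steps.fwd (nat_lit 147456) (Steps.fwd (nat_lit 16384) Steps.nil)))))))))))))))) (nat_lit 77) (nat_lit 10),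
  Rule.mk (nat_lit 4) (nat_lit 110) (Steps.fwd (nat_lit 114688) (Steps.bwd (nat_lit 4) (Steps.fwd (nat_lit 73728) (Steps.bwd (nat_lit 10) (Steps.fwd (nat_lit 73728) (Steps.bwd (nat_lit 10) Steps.nil)))))) (nat_lit 60) (nat_lit 5),
  Rule.mk (nat_lit 17) (nat_lit 110) (Steps.fwd (nat_lit 73728) (Steps.fwd (nat_lit 147456) (Steps.bwd (nat_lit 9) (Steps.bwd (nat_lit 10) (Steps.fwd (nat_lit 114688) (Steps.bwd (nat_lit 10) Steps.nil)))))) (nat_lit 67) (nat_lit 4),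
  Rule.mk (nat_lit 15) (nat_lit 110) (Steps.bwd (nat_lit 17) (Steps.bwd (nat_lit 17) (Steps.fwd (nat_lit 73728) (Steps.fwd (nat_lit 24576) (Steps.fwd (nat_lit 73728) (Steps.bwd (nat_lit 10) Steps.nil)))))) (nat_lit 71) (nat_lit 2),
  Rule.mk (nat_lit 13) (nat_lit 158) (Steps.bwd (nat_lit 2) (Steps.bwd (nat_lit 4) (Steps.fwd (nat_lit 24576) (Steps.fwd (nat_lit 73728) (Steps.bwd (nat_lit 14) (Steps.fwd (nat_lit 73728) (Steps.bwd (nat_lit 1) (Steps.fwd (nat_lit 139264) (Steps.bwd (nat_lit 10) Steps.nil))))))))) (nat_lit 62) (nat_lit 7),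
  Rule.mk (nat_lit 3) (nat_lit 94) (Steps.fwd (nat_lit 8192) (Steps.fwd (nat_lit 8192) (Steps.fwd (nat_lit 24576) (Steps.fwd (nat_lit 16384) (Steps.bwd (nat_lit 1) Steps.nil))))) (nat_lit 6) (nat_lit 0),
  Rule.mk (nat_lit 3) (nat_lit 126) (Steps.bwd (nat_lit 16) (Steps.bwd (nat_lit 10) (Steps.bwd (nat_lit 16) (Steps.bwd (nat_lit 15) (Steps.fwd (nat_lit 98304) (Steps.fwd (nat_lit 24576) (Steps.bwd (nat_lit 12) Steps.nil))))))) (nat_lit 50) (nat_lit 3),
  Rule.mk (nat_lit 13) (nat_lit 126) (Steps.bwd (nat_lit 3) (Steps.fwd (nat_lit 106496) (Steps.fwd (nat_lit 122880) (Steps.bwd (nat_lit 17) (Steps.fwd (nat_lit 81920) (Steps.fwd (nat_lit 131072) (Steps.fwd (nat_lit 24576) Steps.nil))))))) (nat_lit 51) (nat_lit 7),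
  Rule.mk (nat_lit 1) (nat_lit 94) (Steps.fwd (nat_lit 32768) (Steps.bwd (nat_lit 2) (Steps.fwd (nat_lit 8192) (Steps.bwd (nat_lit 4) (Steps.bwd (nat_lit 1) Steps.nil))))) (nat_lit 6) (nat_lit 5),
  Rule.mk (nat_lit 12) (nat_lit 158) (Steps.bwd (nat_lit 11) (Steps.fwd (nat_lit 131072) (Steps.bwd (nat_lit 2) (Steps.fwd (nat_lit 73728) (Steps.bwd (nat_lit 15) (Steps.bwd (nat_lit 9) (Steps.bwd (nat_lit 3) (Steps.fwd (nat_lit 32768) (Steps.bwd (nat_lit 1) Steps.nil))))))))) (nat_lit 63) (nat_lit 4),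
  Rule.mk (nat_lit 9) (nat_lit 190) (Steps.bwd (nat_lit 12) (Steps.bwd (nat_lit 17) (Steps.fwd (nat_lit 16384) (Steps.fwd (nat_lit 122880) (Steps.bwd (nat_lit 1) (Steps.bwd (nat_lit 1) (Steps.fwd (nat_lit 16384) (Steps.fwd (nat_lit 73728) (Steps.bwd (nat_lit 12) (Steps.bwd (nat_lit 9) (Steps.bwd (nat_lit 13) Steps.nil))))))))))) (nat_lit 74) (nat_lit 5),
  Rule.mk (nat_lit 16) (nat_lit 158) (Steps.bwd (nat_lit 10) (Steps.fwd (nat_lit 98304) (Steps.bwd (nat_lit 2) (Steps.bwd (nat_lit 4) (Steps.bwd (nat_lit 4) (Steps.fwd (nat_lit 73728) (Steps.bwd (nat_lit 14) (Steps.fwd (nat_lit 73728) (Steps.bwd (nat_lit 1) Steps.nil))))))))) (nat_lit 62) (nat_lit 5),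
  Rule.mk (nat_lit 4) (nat_lit 126) (Steps.bwd (nat_lit 12) (Steps.bwd (nat_lit 3) (Steps.bwd (nat_lit 16) (Steps.bwd (nat_lit 10) (Steps.fwd (nat_lit 139264) (Steps.fwd (nat_lit 114688) (Steps.bwd (nat_lit 13) Steps.nil))))))) (nat_lit 50) (nat_lit 1),
  Rule.mk (nat_lit 4) (nat_lit 94) (Steps.fwd (nat_lit 8192) (Steps.bwd (nat_lit 2) (Steps.fwd (nat_lit 32768) (Steps.bwd (nat_lit 1) (Steps.bwd (nat_lit 1) Steps.nil))))) (nat_lit 7) (nat_lit 1),
  Rule.mk (nat_lit 17) (nat_lit 126) (Steps.bwd (nat_lit 4) (Steps.bwd (nat_lit 13) (Steps.bwd (nat_lit 3) (Steps.fwd (nat_lit 106496) (Steps.fwd (nat_lit 122880) (Steps.bwd (nat_lit 17) (Steps.fwd (nat_lit 81920) Steps.nil))))))) (nat_lit 51) (nat_lit 5),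
  Rule.mk (nat_lit 16) (nat_lit 110) (Steps.bwd (nat_lit 9) (Steps.bwd (nat_lit 17) (Steps.bwd (nat_lit 9) (Steps.bwd (nat_lit 3) (Steps.fwd (nat_lit 32768) (Steps.fwd (nat_lit 114688) Steps.nil)))))) (nat_lit 65) (nat_lit 4),
  Rule.mk (nat_lit 2) (nat_lit 158) (Steps.bwd (nat_lit 9) (Steps.bwd (nat_lit 15) (Steps.fwd (nat_lit 73728) (Steps.fwd (nat_lit 32768) (Steps.bwd (nat_lit 3) (Steps.bwd (nat_lit 1) (Steps.fwd (nat_lit 106496) (Steps.fwd (nat_lit 81920) (Steps.fwd (nat_lit 131072) Steps.nil))))))))) (nat_lit 63) (nat_lit 7),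
  Rule.mk (nat_lit 7) (nat_lit 270) (Steps.bwd (nat_lit 9) (Steps.fwd (nat_lit 24576) (Steps.fwd (nat_lit 106496) (Steps.fwd (nat_lit 8192) (Steps.fwd (nat_lit 73728) (Steps.bwd (nat_lit 2) (Steps.bwd (nat_lit 9) (Steps.fwd (nat_lit 8192) (Steps.fwd (nat_lit 155648) (Steps.bwd (nat_lit 16) (Steps.fwd (nat_lit 90112) (Steps.fwd (nat_lit 32768) (Steps.bwd (nat_lit 1) (Steps.bwd (nat_lit 4) (Steps.bwd (nat_lit 4) (Steps.fwd (nat_lit 8192) Steps.nil)))))))))))))))) (nat_lit 76) (nat_lit 1),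
  Rule.mk (nat_lit 12) (nat_lit 126) (Steps.bwd (nat_lit 3) (Steps.fwd (nat_lit 139264) (Steps.bwd (nat_lit 10) (Steps.fwd (nat_lit 139264) (Steps.fwd (nat_lit 114688) (Steps.fwd (nat_lit 98304) (Steps.bwd (nat_lit 4) Steps.nil))))))) (nat_lit 50) (nat_lit 2),
  Rule.mk (nat_lit 11) (nat_lit 142) (Steps.bwd (nat_lit 2) (Steps.fwd (nat_lit 139264) (Steps.bwd (nat_lit 1) (Steps.bwd (nat_lit 17) (Steps.bwd (nat_lit 11) (Steps.fwd (nat_lit 131072) (Steps.fwd (nat_lit 122880) (Steps.bwd (nat_lit 12) Steps.nil)))))))) (nat_lit 46) (nat_lit 0),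
  Rule.mk (nat_lit 9) (nat_lit 158) (Steps.bwd (nat_lit 14) (Steps.fwd (nat_lit 73728) (Steps.fwd (nat_lit 16384) (Steps.fwd (nat_lit 139264) (Steps.bwd (nat_lit 10) (Steps.bwd (nat_lit 13) (Steps.bwd (nat_lit 2) (Steps.fwd (nat_lit 24576) (Steps.fwd (nat_lit 24576) Steps.nil))))))))) (nat_lit 62) (nat_lit 1),
  Rule.mk (nat_lit 2) (nat_lit 158) (Steps.bwd (nat_lit 9) (Steps.fwd (nat_lit 114688) (Steps.bwd (nat_lit 9) (Steps.fwd (nat_lit 32768) (Steps.fwd (nat_lit 32768) (Steps.bwd (nat_lit 1) (Steps.bwd (nat_lit 12) (Steps.bwd (nat_lit 11) (Steps.bwd (nat_lit 17) Steps.nil))))))))) (nat_lit 63) (nat_lit 7),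
  Rule.mk (nat_lit 1) (nat_lit 190) (Steps.fwd (nat_lit 122880) (Steps.bwd (nat_lit 1) (Steps.fwd (nat_lit 16384) (Steps.fwd (nat_lit 16384) (Steps.fwd (nat_lit 73728) (Steps.fwd (nat_lit 106496) (Steps.fwd (nat_lit 73728) (Steps.fwd (nat_lit 98304) (Steps.fwd (nat_lit 73728) (Steps.bwd (nat_lit 12) (Steps.bwd (nat_lit 17) Steps.nil))))))))))) (nat_lit 74) (nat_lit 8),
  Rule.mk (nat_lit 9) (nat_lit 190) (Steps.bwd (nat_lit 12) (Steps.bwd (nat_lit 9) (Steps.fwd (nat_lit 98304) (Steps.fwd (nat_lit 73728) (Steps.fwd (nat_lit 106496) (Steps.bwd (nat_lit 17) (Steps.fwd (nat_lit 16384) (Steps.fwd (nat_lit 122880) (Steps.bwd (nat_lit 1) (Steps.bwd (nat_lit 1) (Steps.bwd (nat_lit 1) Steps.nil))))))))))) (nat_lit 74) (nat_lit 1),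
  Rule.mk (nat_lit 17) (nat_lit 110) (Steps.bwd (nat_lit 9) (Steps.fwd (nat_lit 24576) (Steps.bwd (nat_lit 9) (Steps.fwd (nat_lit 90112) (Steps.fwd (nat_lit 114688) (Steps.fwd (nat_lit 131072) Steps.nil)))))) (nat_lit 71) (nat_lit 4),
  Rule.mk (nat_lit 13) (nat_lit 190) (Steps.bwd (nat_lit 9) (Steps.bwd (nat_lit 12) (Steps.bwd (nat_lit 17) (Steps.fwd (nat_lit 16384) (Steps.fwd (nat_lit 122880) (Steps.bwd (nat_lit 1) (Steps.fwd (nat_lit 16384) (Steps.bwd (nat_lit 1) (Steps.fwd (nat_lit 73728) (Steps.fwd (nat_lit 106496) (Steps.fwd (nat_lit 73728) Steps.nil))))))))))) (nat_lit 74) (nat_lit 4),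
  Rule.mk (nat_lit 12) (nat_lit 190) (Steps.bwd (nat_lit 9) (Steps.fwd (nat_lit 98304) (Steps.fwd (nat_lit 73728) (Steps.fwd (nat_lit 8192) (Steps.bwd (nat_lit 2) (Steps.bwd (nat_lit 2) (Steps.bwd (nat_lit 15) (Steps.fwd (nat_lit 8192) (Steps.fwd (nat_lit 139264) (Steps.fwd (nat_lit 98304) (Steps.fwd (nat_lit 73728) Steps.nil))))))))))) (nat_lit 75) (nat_lit 9),
  Rule.mk (nat_lit 11) (nat_lit 110) (Steps.bwd (nat_lit 9) (Steps.bwd (nat_lit 3) (Steps.bwd (nat_lit 14) (Steps.bwd (nat_lit 3) (Steps.bwd (nat_lit 11) (Steps.fwd (nat_lit 73728) Steps.nil)))))) (nat_lit 61) (nat_lit 6),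
  Rule.mk (nat_lit 19) (nat_lit 110) (Steps.bwd (nat_lit 9) (Steps.bwd (nat_lit 10) (Steps.fwd (nat_lit 114688) (Steps.bwd (nat_lit 10) (Steps.fwd (nat_lit 131072) (Steps.bwd (nat_lit 9) Steps.nil)))))) (nat_lit 67) (nat_lit 6),
  Rule.mk (nat_lit 15) (nat_lit 158) (Steps.bwd (nat_lit 9) (Steps.bwd (nat_lit 3) (Steps.fwd (nat_lit 32768) (Steps.bwd (nat_lit 1) (Steps.bwd (nat_lit 12) (Steps.fwd (nat_lit 81920) (Steps.bwd (nat_lit 17) (Steps.fwd (nat_lit 8192) (Steps.bwd (nat_lit 9) Steps.nil))))))))) (nat_lit 63) (nat_lit 9),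
  Rule.mk (nat_lit 13) (nat_lit 190) (Steps.bwd (nat_lit 9) (Steps.bwd (nat_lit 12) (Steps.fwd (nat_lit 131072) (Steps.bwd (nat_lit 1) (Steps.fwd (nat_lit 122880) (Steps.bwd (nat_lit 1) (Steps.fwd (nat_lit 16384) (Steps.fwd (nat_lit 16384) (Steps.fwd (nat_lit 73728) (Steps.bwd (nat_lit 12) (Steps.bwd (nat_lit 9) Steps.nil))))))))))) (nat_lit 74) (nat_lit 4),
  Rule.mk (nat_lit 18) (nat_lit 94) (Steps.bwd (nat_lit 18) (Steps.bwd (nat_lit 17) (Steps.bwd (nat_lit 11) (Steps.fwd (nat_lit 139264) (Steps.bwd (nat_lit 10) Steps.nil))))) (nat_lit 35) (nat_lit 1),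
  Rule.mk (nat_lit 4) (nat_lit 126) (Steps.bwd (nat_lit 13) (Steps.fwd (nat_lit 32768) (Steps.bwd (nat_lit 12) (Steps.bwd (nat_lit 14) (Steps.bwd (nat_lit 17) (Steps.fwd (nat_lit 81920) (Steps.fwd (nat_lit 131072) Steps.nil))))))) (nat_lit 51) (nat_lit 6),
  Rule.mk (nat_lit 12) (nat_lit 126) (Steps.bwd (nat_lit 3) (Steps.fwd (nat_lit 139264) (Steps.bwd (nat_lit 10) (Steps.bwd (nat_lit 16) (Steps.fwd (nat_lit 114688) (Steps.bwd (nat_lit 13) (Steps.bwd (nat_lit 4) Steps.nil))))))) (nat_lit 50) (nat_lit 2),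
  Rule.mk (nat_lit 7) (nat_lit 126) (Steps.bwd (nat_lit 18) (Steps.fwd (nat_lit 65536) (Steps.bwd (nat_lit 19) (Steps.bwd (nat_lit 7) (Steps.bwd (nat_lit 18) (Steps.bwd (nat_lit 2) (Steps.bwd (nat_lit 2) Steps.nil))))))) (nat_lit 86) (nat_lit 1),
  Rule.mk (nat_lit 14) (nat_lit 158) (Steps.bwd (nat_lit 9) (Steps.fwd (nat_lit 16384) (Steps.fwd (nat_lit 139264) (Steps.bwd (nat_lit 10) (Steps.fwd (nat_lit 98304) (Steps.bwd (nat_lit 2) (Steps.fwd (nat_lit 24576) (Steps.bwd (nat_lit 4) (Steps.bwd (nat_lit 9) Steps.nil))))))))) (nat_lit 62) (nat_lit 2),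
  Rule.mk (nat_lit 9) (nat_lit 110) (Steps.bwd (nat_lit 11) (Steps.bwd (nat_lit 9) (Steps.bwd (nat_lit 3) (Steps.fwd (nat_lit 122880) (Steps.bwd (nat_lit 3) (Steps.bwd (nat_lit 11) Steps.nil)))))) (nat_lit 61) (nat_lit 5),
  Rule.mk (nat_lit 3) (nat_lit 110) (Steps.bwd (nat_lit 11) (Steps.bwd (nat_lit 9) (Steps.bwd (nat_lit 11) (Steps.bwd (nat_lit 9) (Steps.fwd (nat_lit 32768) (Steps.fwd (nat_lit 122880) Steps.nil)))))) (nat_lit 61) (nat_lit 3),
  Rule.mk (nat_lit 2) (nat_lit 190) (Steps.fwd (nat_lit 24576) (Steps.bwd (nat_lit 1) (Steps.bwd (nat_lit 3) (Steps.bwd (nat_lit 2) (Steps.fwd (nat_lit 24576) (Steps.bwd (nat_lit 1) (Steps.bwd (nat_lit 3) (Steps.fwd (nat_lit 8192) (Steps.fwd (nat_lit 24576) (Steps.bwd (nat_lit 1) (Steps.bwd (nat_lit 3) Steps.nil))))))))))) (nat_lit 8) (nat_lit 1),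
  Rule.mk (nat_lit 7) (nat_lit 286) (Steps.bwd (nat_lit 10) (Steps.bwd (nat_lit 3) (Steps.bwd (nat_lit 1) (Steps.bwd (nat_lit 4) (Steps.bwd (nat_lit 7) (Steps.bwd (nat_lit 10) (Steps.fwd (nat_lit 65536) (Steps.bwd (nat_lit 9) (Steps.bwd (nat_lit 4) (Steps.bwd (nat_lit 4) (Steps.bwd (nat_lit 2) (Steps.bwd (nat_lit 11) (Steps.bwd (nat_lit 1) (Steps.bwd (nat_lit 10) (Steps.bwd (nat_lit 2) (Steps.fwd (nat_lit 90112) (Steps.fwd (nat_lit 16384) Steps.nil))))))))))))))))) (nat_lit 57) (nat_lit 10),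
  Rule.mk (nat_lit 10) (nat_lit 158) (Steps.bwd (nat_lit 13) (Steps.bwd (nat_lit 2) (Steps.fwd (nat_lit 24576) (Steps.fwd (nat_lit 24576) (Steps.fwd (nat_lit 73728) (Steps.bwd (nat_lit 14) (Steps.fwd (nat_lit 73728) (Steps.bwd (nat_lit 1) (Steps.fwd (nat_lit 139264) Steps.nil))))))))) (nat_lit 62) (nat_lit 6),
  Rule.mk (nat_lit 4) (nat_lit 126) (Steps.bwd (nat_lit 15) (Steps.bwd (nat_lit 3) (Steps.bwd (nat_lit 10) (Steps.fwd (nat_lit 90112) (Steps.fwd (nat_lit 139264) (Steps.fwd (nat_lit 114688) (Steps.fwd (nat_lit 114688) Steps.nil))))))) (nat_lit 53) (nat_lit 6),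
  Rule.mk (nat_lit 15) (nat_lit 110) (Steps.bwd (nat_lit 1) (Steps.bwd (nat_lit 15) (Steps.bwd (nat_lit 15) (Steps.fwd (nat_lit 90112) (Steps.fwd (nat_lit 139264) (Steps.fwd (nat_lit 8192) Steps.nil)))))) (nat_lit 45) (nat_lit 6),
  Rule.mk (nat_lit 16) (nat_lit 142) (Steps.bwd (nat_lit 1) (Steps.fwd (nat_lit 131072) (Steps.fwd (nat_lit 81920) (Steps.bwd (nat_lit 17) (Steps.fwd (nat_lit 122880) (Steps.bwd (nat_lit 12) (Steps.fwd (nat_lit 81920) (Steps.bwd (nat_lit 2) Steps.nil)))))))) (nat_lit 46) (nat_lit 2),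
  Rule.mk (nat_lit 11) (nat_lit 94) (Steps.fwd (nat_lit 122880) (Steps.bwd (nat_lit 10) (Steps.fwd (nat_lit 147456) (Steps.bwd (nat_lit 19) (Steps.bwd (nat_lit 15) Steps.nil))))) (nat_lit 33) (nat_lit 4),
  Rule.mk (nat_lit 9) (nat_lit 158) (Steps.bwd (nat_lit 1) (Steps.fwd (nat_lit 139264) (Steps.fwd (nat_lit 90112) (Steps.bwd (nat_lit 13) (Steps.bwd (nat_lit 2) (Steps.fwd (nat_lit 24576) (Steps.bwd (nat_lit 4) (Steps.fwd (nat_lit 73728) (Steps.bwd (nat_lit 14) Steps.nil))))))))) (nat_lit 62) (nat_lit 3),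
  Rule.mk (nat_lit 19) (nat_lit 126) (Steps.bwd (nat_lit 7) (Steps.fwd (nat_lit 155648) (Steps.bwd (nat_lit 2) (Steps.bwd (nat_lit 2) (Steps.fwd (nat_lit 65536) (Steps.bwd (nat_lit 18) (Steps.fwd (nat_lit 65536) Steps.nil))))))) (nat_lit 86) (nat_lit 4),
  Rule.mk (nat_lit 14) (nat_lit 158) (Steps.bwd (nat_lit 9) (Steps.bwd (nat_lit 1) (Steps.bwd (nat_lit 16) (Steps.fwd (nat_lit 90112) (Steps.fwd (nat_lit 98304) (Steps.fwd (nat_lit 8192) (Steps.bwd (nat_lit 4) (Steps.bwd (nat_lit 4) (Steps.bwd (nat_lit 9) Steps.nil))))))))) (nat_lit 62) (nat_lit 2),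
  Rule.mk (nat_lit 2) (nat_lit 158) (Steps.bwd (nat_lit 9) (Steps.bwd (nat_lit 15) (Steps.fwd (nat_lit 73728) (Steps.fwd (nat_lit 32768) (Steps.fwd (nat_lit 32768) (Steps.fwd (nat_lit 16384) (Steps.bwd (nat_lit 12) (Steps.fwd (nat_lit 81920) (Steps.bwd (nat_lit 17) Steps.nil))))))))) (nat_lit 63) (nat_lit 7),
  Rule.mk (nat_lit 12) (nat_lit 190) (Steps.bwd (nat_lit 9) (Steps.bwd (nat_lit 13) (Steps.bwd (nat_lit 9) (Steps.fwd (nat_lit 106496) (Steps.bwd (nat_lit 17) (Steps.fwd (nat_lit 16384) (Steps.bwd (nat_lit 14) (Steps.fwd (nat_lit 16384) (Steps.bwd (nat_lit 1) (Steps.fwd (nat_lit 16384) (Steps.bwd (nat_lit 9) Steps.nil))))))))))) (nat_lit 74) (nat_lit 2),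
  Rule.mk (nat_lit 13) (nat_lit 190) (Steps.bwd (nat_lit 9) (Steps.bwd (nat_lit 2) (Steps.fwd (nat_lit 8192) (Steps.bwd (nat_lit 2) (Steps.bwd (nat_lit 15) (Steps.bwd (nat_lit 2) (Steps.fwd (nat_lit 139264) (Steps.fwd (nat_lit 98304) (Steps.fwd (nat_lit 73728) (Steps.fwd (nat_lit 106496) (Steps.bwd (nat_lit 9) Steps.nil))))))))))) (nat_lit 75) (nat_lit 11),
  Rule.mk (nat_lit 7) (nat_lit 270) (Steps.bwd (nat_lit 9) (Steps.bwd (nat_lit 4) (Steps.fwd (nat_lit 106496) (Steps.bwd (nat_lit 2) (Steps.bwd (nat_lit 9) (Steps.bwd (nat_lit 2) (Steps.bwd (nat_lit 9) (Steps.bwd (nat_lit 2) (Steps.fwd (nat_lit 155648) (Steps.bwd (nat_lit 16) (Steps.bwd (nat_lit 10) (Steps.bwd (nat_lit 3) (Steps.fwd (nat_lit 16384) (Steps.fwd (nat_lit 24576) (Steps.bwd (nat_lit 4) (Steps.bwd (nat_lit 2) Steps.nil)))))))))))))))) (nat_lit 76) (nat_lit 1),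
  Rule.mk (nat_lit 17) (nat_lit 110) (Steps.bwd (nat_lit 11) (Steps.bwd (nat_lit 14) (Steps.fwd (nat_lit 122880) (Steps.fwd (nat_lit 8192) (Steps.fwd (nat_lit 122880) (Steps.bwd (nat_lit 1) Steps.nil)))))) (nat_lit 44) (nat_lit 4),
  Rule.mk (nat_lit 15) (nat_lit 110) (Steps.bwd (nat_lit 1) (Steps.fwd (nat_lit 114688) (Steps.fwd (nat_lit 114688) (Steps.bwd (nat_lit 10) (Steps.fwd (nat_lit 139264) (Steps.bwd (nat_lit 2) Steps.nil)))))) (nat_lit 45) (nat_lit 6),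
  Rule.mk (nat_lit 9) (nat_lit 110) (Steps.bwd (nat_lit 10) (Steps.bwd (nat_lit 9) (Steps.bwd (nat_lit 10) (Steps.bwd (nat_lit 4) (Steps.bwd (nat_lit 15) (Steps.fwd (nat_lit 24576) Steps.nil)))))) (nat_lit 60) (nat_lit 1),
  Rule.mk (nat_lit 3) (nat_lit 110) (Steps.fwd (nat_lit 122880) (Steps.bwd (nat_lit 3) (Steps.bwd (nat_lit 11) (Steps.bwd (nat_lit 9) (Steps.bwd (nat_lit 11) (Steps.bwd (nat_lit 9) Steps.nil)))))) (nat_lit 61) (nat_lit 1),
  Rule.mk (nat_lit 1) (nat_lit 158) (Steps.bwd (nat_lit 16) (Steps.bwd (nat_lit 10) (Steps.fwd (nat_lit 98304) (Steps.fwd (nat_lit 8192) (Steps.fwd (nat_lit 24576) (Steps.fwd (nat_lit 24576) (Steps.bwd (nat_lit 9) (Steps.fwd (nat_lit 122880) (Steps.bwd (nat_lit 9) Steps.nil))))))))) (nat_lit 62) (nat_lit 4),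
  Rule.mk (nat_lit 8) (nat_lit 94) (Steps.bwd (nat_lit 1) (Steps.fwd (nat_lit 16384) (Steps.bwd (nat_lit 1) (Steps.fwd (nat_lit 16384) (Steps.fwd (nat_lit 57344) Steps.nil))))) (nat_lit 79) (nat_lit 0),
  Rule.mk (nat_lit 19) (nat_lit 94) (Steps.bwd (nat_lit 15) (Steps.fwd (nat_lit 81920) (Steps.bwd (nat_lit 14) (Steps.fwd (nat_lit 90112) (Steps.fwd (nat_lit 147456) Steps.nil))))) (nat_lit 33) (nat_lit 2)]
noncomputable def R_93 : List (Rule) := [Rule.mk (nat_lit 1) (nat_lit 110) (Steps.bwd (nat_lit 15) (Steps.fwd (nat_lit 114688) (Steps.fwd (nat_lit 90112) (Steps.fwd (nat_lit 139264) (Steps.fwd (nat_lit 8192) (Steps.fwd (nat_lit 114688) Steps.nil)))))) (nat_lit 45) (nat_lit 0),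
  Rule.mk (nat_lit 4) (nat_lit 126) (Steps.bwd (nat_lit 15) (Steps.bwd (nat_lit 3) (Steps.bwd (nat_lit 10) (Steps.bwd (nat_lit 10) (Steps.bwd (nat_lit 16) (Steps.fwd (nat_lit 114688) (Steps.bwd (nat_lit 15) Steps.nil))))))) (nat_lit 53) (nat_lit 6),
  Rule.mk (nat_lit 9) (nat_lit 158) (Steps.bwd (nat_lit 15) (Steps.fwd (nat_lit 73728) (Steps.bwd (nat_lit 3) (Steps.bwd (nat_lit 3) (Steps.fwd (nat_lit 16384) (Steps.bwd (nat_lit 12) (Steps.bwd (nat_lit 11) (Steps.bwd (nat_lit 17) (Steps.fwd (nat_lit 8192) Steps.nil))))))))) (nat_lit 63) (nat_lit 8),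
  Rule.mk (nat_lit 16) (nat_lit 110) (Steps.fwd (nat_lit 81920) (Steps.bwd (nat_lit 14) (Steps.bwd (nat_lit 11) (Steps.fwd (nat_lit 73728) (Steps.bwd (nat_lit 18) (Steps.bwd (nat_lit 9) Steps.nil)))))) (nat_lit 66) (nat_lit 4),
  Rule.mk (nat_lit 19) (nat_lit 126) (Steps.bwd (nat_lit 7) (Steps.fwd (nat_lit 155648) (Steps.bwd (nat_lit 2) (Steps.fwd (nat_lit 8192) (Steps.bwd (nat_lit 7) (Steps.bwd (nat_lit 18) (Steps.fwd (nat_lit 65536) Steps.nil))))))) (nat_lit 86) (nat_lit 4),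
  Rule.mk (nat_lit 18) (nat_lit 126) (Steps.bwd (nat_lit 7) (Steps.bwd (nat_lit 19) (Steps.bwd (nat_lit 7) (Steps.fwd (nat_lit 155648) (Steps.bwd (nat_lit 2) (Steps.bwd (nat_lit 2) (Steps.fwd (nat_lit 65536) Steps.nil))))))) (nat_lit 86) (nat_lit 2),
  Rule.mk (nat_lit 19) (nat_lit 126) (Steps.bwd (nat_lit 8) (Steps.bwd (nat_lit 1) (Steps.fwd (nat_lit 16384) (Steps.fwd (nat_lit 147456) (Steps.fwd (nat_lit 57344) (Steps.bwd (nat_lit 18) (Steps.fwd (nat_lit 57344) Steps.nil))))))) (nat_lit 87) (nat_lit 7),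
  Rule.mk (nat_lit 9) (nat_lit 270) (Steps.bwd (nat_lit 8) (Steps.bwd (nat_lit 1) (Steps.bwd (nat_lit 3) (Steps.bwd (nat_lit 3) (Steps.fwd (nat_lit 8192) (Steps.fwd (nat_lit 24576) (Steps.fwd (nat_lit 81920) (Steps.bwd (nat_lit 17) (Steps.bwd (nat_lit 19) (Steps.fwd (nat_lit 16384) (Steps.fwd (nat_lit 73728) (Steps.bwd (nat_lit 1) (Steps.bwd (nat_lit 9) (Steps.bwd (nat_lit 1) (Steps.bwd (nat_lit 13) (Steps.bwd (nat_lit 3) Steps.nil)))))))))))))))) (nat_lit 77) (nat_lit 16),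
  Rule.mk (nat_lit 16) (nat_lit 206) (Steps.bwd (nat_lit 19) (Steps.fwd (nat_lit 81920) (Steps.bwd (nat_lit 2) (Steps.fwd (nat_lit 32768) (Steps.bwd (nat_lit 2) (Steps.fwd (nat_lit 24576) (Steps.fwd (nat_lit 24576) (Steps.bwd (nat_lit 2) (Steps.fwd (nat_lit 73728) (Steps.fwd (nat_lit 16384) (Steps.bwd (nat_lit 1) (Steps.bwd (nat_lit 9) Steps.nil)))))))))))) (nat_lit 68) (nat_lit 5),
  Rule.mk (nat_lit 16) (nat_lit 110) (Steps.bwd (nat_lit 16) (Steps.bwd (nat_lit 14) (Steps.bwd (nat_lit 11) (Steps.fwd (nat_lit 73728) (Steps.fwd (nat_lit 32768) (Steps.bwd (nat_lit 9) Steps.nil)))))) (nat_lit 70) (nat_lit 4),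
  Rule.mk (nat_lit 2) (nat_lit 94) (Steps.bwd (nat_lit 2) (Steps.bwd (nat_lit 3) (Steps.fwd (nat_lit 16384) (Steps.bwd (nat_lit 1) (Steps.fwd (nat_lit 24576) Steps.nil))))) (nat_lit 7) (nat_lit 2),
  Rule.mk (nat_lit 9) (nat_lit 110) (Steps.bwd (nat_lit 3) (Steps.fwd (nat_lit 32768) (Steps.bwd (nat_lit 15) (Steps.fwd (nat_lit 139264) (Steps.fwd (nat_lit 73728) (Steps.fwd (nat_lit 131072) Steps.nil)))))) (nat_lit 65) (nat_lit 0),
  Rule.mk (nat_lit 10) (nat_lit 110) (Steps.fwd (nat_lit 24576) (Steps.fwd (nat_lit 114688) (Steps.fwd (nat_lit 24576) (Steps.fwd (nat_lit 73728) (Steps.bwd (nat_lit 10) (Steps.bwd (nat_lit 9) Steps.nil)))))) (nat_lit 60) (nat_lit 4),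
  Rule.mk (nat_lit 19) (nat_lit 110) (Steps.fwd (nat_lit 73728) (Steps.fwd (nat_lit 90112) (Steps.fwd (nat_lit 114688) (Steps.bwd (nat_lit 10) (Steps.fwd (nat_lit 131072) (Steps.bwd (nat_lit 9) Steps.nil)))))) (nat_lit 67) (nat_lit 6),
  Rule.mk (nat_lit 12) (nat_lit 190) (Steps.fwd (nat_lit 131072) (Steps.bwd (nat_lit 1) (Steps.bwd (nat_lit 14) (Steps.bwd (nat_lit 1) (Steps.fwd (nat_lit 16384) (Steps.fwd (nat_lit 16384) (Steps.bwd (nat_lit 9) (Steps.fwd (nat_lit 106496) (Steps.bwd (nat_lit 9) (Steps.fwd (nat_lit 98304) (Steps.bwd (nat_lit 9) Steps.nil))))))))))) (nat_lit 74) (nat_lit 6),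
  Rule.mk (nat_lit 10) (nat_lit 110) (Steps.fwd (nat_lit 131072) (Steps.bwd (nat_lit 9) (Steps.fwd (nat_lit 147456) (Steps.bwd (nat_lit 9) (Steps.bwd (nat_lit 10) (Steps.bwd (nat_lit 15) Steps.nil)))))) (nat_lit 67) (nat_lit 3),
  Rule.mk (nat_lit 9) (nat_lit 158) (Steps.bwd (nat_lit 3) (Steps.fwd (nat_lit 32768) (Steps.bwd (nat_lit 1) (Steps.bwd (nat_lit 12) (Steps.bwd (nat_lit 11) (Steps.fwd (nat_lit 131072) (Steps.fwd (nat_lit 8192) (Steps.fwd (nat_lit 73728) (Steps.bwd (nat_lit 15) Steps.nil))))))))) (nat_lit 63) (nat_lit 0),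
  Rule.mk (nat_lit 9) (nat_lit 190) (Steps.fwd (nat_lit 8192) (Steps.fwd (nat_lit 8192) (Steps.fwd (nat_lit 8192) (Steps.bwd (nat_lit 15) (Steps.fwd (nat_lit 8192) (Steps.fwd (nat_lit 139264) (Steps.bwd (nat_lit 13) (Steps.fwd (nat_lit 73728) (Steps.bwd (nat_lit 12) (Steps.bwd (nat_lit 9) (Steps.bwd (nat_lit 13) Steps.nil))))))))))) (nat_lit 75) (nat_lit 0),
  Rule.mk (nat_lit 8) (nat_lit 158) (Steps.bwd (nat_lit 19) (Steps.fwd (nat_lit 57344) (Steps.bwd (nat_lit 19) (Steps.bwd (nat_lit 8) (Steps.bwd (nat_lit 19) (Steps.bwd (nat_lit 8) (Steps.fwd (nat_lit 147456) (Steps.fwd (nat_lit 57344) (Steps.fwd (nat_lit 147456) Steps.nil))))))))) (nat_lit 85) (nat_lit 0),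
  Rule.mk (nat_lit 8) (nat_lit 126) (Steps.fwd (nat_lit 155648) (Steps.bwd (nat_lit 8) (Steps.bwd (nat_lit 19) (Steps.fwd (nat_lit 57344) (Steps.bwd (nat_lit 1) (Steps.fwd (nat_lit 16384) (Steps.fwd (nat_lit 147456) Steps.nil))))))) (nat_lit 87) (nat_lit 4),
  Rule.mk (nat_lit 9) (nat_lit 110) (Steps.bwd (nat_lit 3) (Steps.fwd (nat_lit 73728) (Steps.fwd (nat_lit 139264) (Steps.fwd (nat_lit 139264) (Steps.bwd (nat_lit 14) (Steps.bwd (nat_lit 11) Steps.nil)))))) (nat_lit 70) (nat_lit 1),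
  Rule.mk (nat_lit 9) (nat_lit 110) (Steps.fwd (nat_lit 90112) (Steps.bwd (nat_lit 4) (Steps.bwd (nat_lit 15) (Steps.bwd (nat_lit 4) (Steps.bwd (nat_lit 9) (Steps.fwd (nat_lit 90112) Steps.nil)))))) (nat_lit 60) (nat_lit 3),
  Rule.mk (nat_lit 10) (nat_lit 142) (Steps.bwd (nat_lit 13) (Steps.bwd (nat_lit 15) (Steps.fwd (nat_lit 139264) (Steps.fwd (nat_lit 90112) (Steps.bwd (nat_lit 16) (Steps.bwd (nat_lit 2) (Steps.fwd (nat_lit 131072) (Steps.bwd (nat_lit 1) Steps.nil)))))))) (nat_lit 47) (nat_lit 1),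
  Rule.mk (nat_lit 9) (nat_lit 190) (Steps.bwd (nat_lit 13) (Steps.bwd (nat_lit 9) (Steps.bwd (nat_lit 12) (Steps.bwd (nat_lit 17) (Steps.fwd (nat_lit 16384) (Steps.bwd (nat_lit 14) (Steps.bwd (nat_lit 1) (Steps.fwd (nat_lit 16384) (Steps.fwd (nat_lit 16384) (Steps.fwd (nat_lit 73728) (Steps.fwd (nat_lit 106496) Steps.nil))))))))))) (nat_lit 74) (nat_lit 3),
  Rule.mk (nat_lit 15) (nat_lit 158) (Steps.fwd (nat_lit 73728) (Steps.fwd (nat_lit 32768) (Steps.fwd (nat_lit 32768) (Steps.fwd (nat_lit 16384) (Steps.bwd (nat_lit 12) (Steps.fwd (nat_lit 81920) (Steps.bwd (nat_lit 17) (Steps.bwd (nat_lit 2) (Steps.bwd (nat_lit 9) Steps.nil))))))))) (nat_lit 63) (nat_lit 9),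
  Rule.mk (nat_lit 9) (nat_lit 110) (Steps.bwd (nat_lit 18) (Steps.fwd (nat_lit 73728) (Steps.fwd (nat_lit 139264) (Steps.fwd (nat_lit 81920) (Steps.fwd (nat_lit 122880) (Steps.fwd (nat_lit 81920) Steps.nil)))))) (nat_lit 66) (nat_lit 1),
  Rule.mk (nat_lit 10) (nat_lit 110) (Steps.fwd (nat_lit 114688) (Steps.bwd (nat_lit 17) (Steps.bwd (nat_lit 17) (Steps.fwd (nat_lit 73728) (Steps.fwd (nat_lit 24576) (Steps.bwd (nat_lit 9) Steps.nil)))))) (nat_lit 71) (nat_lit 1),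
  Rule.mk (nat_lit 7) (nat_lit 158) (Steps.fwd (nat_lit 155648) (Steps.fwd (nat_lit 65536) (Steps.fwd (nat_lit 155648) (Steps.bwd (nat_lit 7) (Steps.fwd (nat_lit 155648) (Steps.fwd (nat_lit 65536) (Steps.bwd (nat_lit 18) (Steps.bwd (nat_lit 7) (Steps.bwd (nat_lit 18) Steps.nil))))))))) (nat_lit 84) (nat_lit 1),
  Rule.mk (nat_lit 8) (nat_lit 94) (Steps.fwd (nat_lit 16384) (Steps.fwd (nat_lit 16384) (Steps.bwd (nat_lit 1) (Steps.bwd (nat_lit 1) (Steps.bwd (nat_lit 8) Steps.nil))))) (nat_lit 79) (nat_lit 0),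
  Rule.mk (nat_lit 3) (nat_lit 126) (Steps.bwd (nat_lit 10) (Steps.bwd (nat_lit 10) (Steps.fwd (nat_lit 139264) (Steps.fwd (nat_lit 114688) (Steps.bwd (nat_lit 15) (Steps.fwd (nat_lit 24576) (Steps.bwd (nat_lit 15) Steps.nil))))))) (nat_lit 53) (nat_lit 0),
  Rule.mk (nat_lit 1) (nat_lit 142) (Steps.bwd (nat_lit 10) (Steps.fwd (nat_lit 98304) (Steps.bwd (nat_lit 15) (Steps.bwd (nat_lit 16) (Steps.fwd (nat_lit 90112) (Steps.bwd (nat_lit 16) (Steps.fwd (nat_lit 8192) (Steps.bwd (nat_lit 17) Steps.nil)))))))) (nat_lit 47) (nat_lit 0),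
  Rule.mk (nat_lit 1) (nat_lit 94) (Steps.fwd (nat_lit 32768) (Steps.fwd (nat_lit 8192) (Steps.bwd (nat_lit 2) (Steps.bwd (nat_lit 4) (Steps.bwd (nat_lit 1) Steps.nil))))) (nat_lit 6) (nat_lit 5),
  Rule.mk (nat_lit 15) (nat_lit 110) (Steps.fwd (nat_lit 114688) (Steps.fwd (nat_lit 90112) (Steps.fwd (nat_lit 139264) (Steps.bwd (nat_lit 2) (Steps.fwd (nat_lit 114688) (Steps.bwd (nat_lit 1) Steps.nil)))))) (nat_lit 45) (nat_lit 1),
  Rule.mk (nat_lit 17) (nat_lit 142) (Steps.bwd (nat_lit 1) (Steps.fwd (nat_lit 90112) (Steps.bwd (nat_lit 13) (Steps.fwd (nat_lit 114688) (Steps.fwd (nat_lit 139264) (Steps.fwd (nat_lit 90112) (Steps.bwd (nat_lit 16) (Steps.fwd (nat_lit 8192) Steps.nil)))))))) (nat_lit 47) (nat_lit 8),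
  Rule.mk (nat_lit 4) (nat_lit 110) (Steps.bwd (nat_lit 9) (Steps.bwd (nat_lit 10) (Steps.fwd (nat_lit 73728) (Steps.bwd (nat_lit 10) (Steps.fwd (nat_lit 24576) (Steps.bwd (nat_lit 15) Steps.nil)))))) (nat_lit 60) (nat_lit 0),
  Rule.mk (nat_lit 13) (nat_lit 190) (Steps.bwd (nat_lit 9) (Steps.fwd (nat_lit 8192) (Steps.fwd (nat_lit 8192) (Steps.bwd (nat_lit 2) (Steps.bwd (nat_lit 15) (Steps.fwd (nat_lit 8192) (Steps.fwd (nat_lit 139264) (Steps.bwd (nat_lit 13) (Steps.bwd (nat_lit 9) (Steps.bwd (nat_lit 12) (Steps.bwd (nat_lit 9) Steps.nil))))))))))) (nat_lit 75) (nat_lit 11),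
  Rule.mk (nat_lit 15) (nat_lit 142) (Steps.fwd (nat_lit 139264) (Steps.fwd (nat_lit 90112) (Steps.bwd (nat_lit 16) (Steps.fwd (nat_lit 8192) (Steps.fwd (nat_lit 131072) (Steps.bwd (nat_lit 1) (Steps.bwd (nat_lit 10) (Steps.bwd (nat_lit 13) Steps.nil)))))))) (nat_lit 47) (nat_lit 3),
  Rule.mk (nat_lit 1) (nat_lit 110) (Steps.bwd (nat_lit 17) (Steps.bwd (nat_lit 11) (Steps.bwd (nat_lit 14) (Steps.bwd (nat_lit 14) (Steps.fwd (nat_lit 8192) (Steps.fwd (nat_lit 122880) Steps.nil)))))) (nat_lit 44) (nat_lit 3),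
  Rule.mk (nat_lit 14) (nat_lit 126) (Steps.bwd (nat_lit 17) (Steps.bwd (nat_lit 11) (Steps.bwd (nat_lit 17) (Steps.bwd (nat_lit 4) (Steps.fwd (nat_lit 98304) (Steps.bwd (nat_lit 3) (Steps.bwd (nat_lit 12) Steps.nil))))))) (nat_lit 51) (nat_lit 2),
  Rule.mk (nat_lit 2) (nat_lit 126) (Steps.bwd (nat_lit 4) (Steps.fwd (nat_lit 8192) (Steps.bwd (nat_lit 4) (Steps.fwd (nat_lit 8192) (Steps.fwd (nat_lit 24576) (Steps.bwd (nat_lit 2) (Steps.fwd (nat_lit 24576) Steps.nil))))))) (nat_lit 5) (nat_lit 0),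
  Rule.mk (nat_lit 7) (nat_lit 270) (Steps.fwd (nat_lit 73728) (Steps.bwd (nat_lit 4) (Steps.fwd (nat_lit 106496) (Steps.bwd (nat_lit 2) (Steps.fwd (nat_lit 73728) (Steps.bwd (nat_lit 2) (Steps.bwd (nat_lit 9) (Steps.fwd (nat_lit 8192) (Steps.fwd (nat_lit 155648) (Steps.fwd (nat_lit 139264) (Steps.bwd (nat_lit 10) (Steps.fwd (nat_lit 32768) (Steps.bwd (nat_lit 1) (Steps.fwd (nat_lit 24576) (Steps.fwd (nat_lit 24576) (Steps.bwd (nat_lit 2) Steps.nil)))))))))))))))) (nat_lit 76) (nat_lit 1),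
  Rule.mk (nat_lit 1) (nat_lit 94) (Steps.fwd (nat_lit 16384) (Steps.fwd (nat_lit 16384) (Steps.bwd (nat_lit 8) (Steps.bwd (nat_lit 2) (Steps.bwd (nat_lit 7) Steps.nil))))) (nat_lit 83) (nat_lit 1),
  Rule.mk (nat_lit 17) (nat_lit 142) (Steps.fwd (nat_lit 81920) (Steps.fwd (nat_lit 131072) (Steps.bwd (nat_lit 14) (Steps.fwd (nat_lit 106496) (Steps.fwd (nat_lit 81920) (Steps.fwd (nat_lit 8192) (Steps.bwd (nat_lit 16) (Steps.bwd (nat_lit 1) Steps.nil)))))))) (nat_lit 46) (nat_lit 4),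
  Rule.mk (nat_lit 9) (nat_lit 270) (Steps.fwd (nat_lit 16384) (Steps.bwd (nat_lit 13) (Steps.fwd (nat_lit 32768) (Steps.fwd (nat_lit 73728) (Steps.bwd (nat_lit 8) (Steps.fwd (nat_lit 16384) (Steps.fwd (nat_lit 32768) (Steps.bwd (nat_lit 3) (Steps.bwd (nat_lit 2) (Steps.bwd (nat_lit 4) (Steps.fwd (nat_lit 81920) (Steps.bwd (nat_lit 17) (Steps.bwd (nat_lit 19) (Steps.bwd (nat_lit 1) (Steps.bwd (nat_lit 9) (Steps.bwd (nat_lit 1) Steps.nil)))))))))))))))) (nat_lit 77) (nat_lit 12),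
  Rule.mk (nat_lit 11) (nat_lit 286) (Steps.fwd (nat_lit 8192) (Steps.fwd (nat_lit 90112) (Steps.bwd (nat_lit 1) (Steps.fwd (nat_lit 32768) (Steps.fwd (nat_lit 32768) (Steps.bwd (nat_lit 9) (Steps.bwd (nat_lit 8) (Steps.fwd (nat_lit 81920) (Steps.bwd (nat_lit 8) (Steps.bwd (nat_lit 3) (Steps.fwd (nat_lit 8192) (Steps.bwd (nat_lit 4) (Steps.bwd (nat_lit 11) (Steps.fwd (nat_lit 57344) (Steps.bwd (nat_lit 2) (Steps.fwd (nat_lit 81920) (Steps.bwd (nat_lit 1) Steps.nil))))))))))))))))) (nat_lit 56) (nat_lit 13),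
  Rule.mk (nat_lit 10) (nat_lit 126) (Steps.fwd (nat_lit 90112) (Steps.fwd (nat_lit 139264) (Steps.bwd (nat_lit 15) (Steps.bwd (nat_lit 15) (Steps.bwd (nat_lit 4) (Steps.bwd (nat_lit 15) (Steps.bwd (nat_lit 3) Steps.nil))))))) (nat_lit 53) (nat_lit 1),
  Rule.mk (nat_lit 9) (nat_lit 110) (Steps.fwd (nat_lit 131072) (Steps.bwd (nat_lit 9) (Steps.fwd (nat_lit 32768) (Steps.fwd (nat_lit 32768) (Steps.bwd (nat_lit 15) (Steps.bwd (nat_lit 16) Steps.nil)))))) (nat_lit 65) (nat_lit 5),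
  Rule.mk (nat_lit 16) (nat_lit 110) (Steps.fwd (nat_lit 122880) (Steps.bwd (nat_lit 11) (Steps.fwd (nat_lit 73728) (Steps.bwd (nat_lit 3) (Steps.bwd (nat_lit 9) (Steps.bwd (nat_lit 16) Steps.nil)))))) (nat_lit 70) (nat_lit 5),
  Rule.mk (nat_lit 9) (nat_lit 206) (Steps.bwd (nat_lit 2) (Steps.bwd (nat_lit 2) (Steps.bwd (nat_lit 9) (Steps.bwd (nat_lit 1) (Steps.bwd (nat_lit 3) (Steps.fwd (nat_lit 32768) (Steps.fwd (nat_lit 16384) (Steps.bwd (nat_lit 4) (Steps.fwd (nat_lit 16384) (Steps.fwd (nat_lit 90112) (Steps.fwd (nat_lit 155648) (Steps.bwd (nat_lit 17) Steps.nil)))))))))))) (nat_lit 69) (nat_lit 10),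
  Rule.mk (nat_lit 12) (nat_lit 190) (Steps.bwd (nat_lit 17) (Steps.fwd (nat_lit 16384) (Steps.bwd (nat_lit 14) (Steps.fwd (nat_lit 16384) (Steps.bwd (nat_lit 1) (Steps.fwd (nat_lit 16384) (Steps.fwd (nat_lit 73728) (Steps.fwd (nat_lit 106496) (Steps.bwd (nat_lit 9) (Steps.fwd (nat_lit 98304) (Steps.bwd (nat_lit 9) Steps.nil))))))))))) (nat_lit 74) (nat_lit 6),
  Rule.mk (nat_lit 13) (nat_lit 126) (Steps.fwd (nat_lit 32768) (Steps.fwd (nat_lit 106496) (Steps.fwd (nat_lit 122880) (Steps.fwd (nat_lit 131072) (Steps.bwd (nat_lit 11) (Steps.bwd (nat_lit 17) (Steps.bwd (nat_lit 4) Steps.nil))))))) (nat_lit 51) (nat_lit 7),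
  Rule.mk (nat_lit 14) (nat_lit 126) (Steps.bwd (nat_lit 3) (Steps.bwd (nat_lit 14) (Steps.fwd (nat_lit 122880) (Steps.bwd (nat_lit 17) (Steps.bwd (nat_lit 11) (Steps.fwd (nat_lit 81920) (Steps.bwd (nat_lit 4) Steps.nil))))))) (nat_lit 52) (nat_lit 2),
  Rule.mk (nat_lit 15) (nat_lit 126) (Steps.fwd (nat_lit 32768) (Steps.bwd (nat_lit 10) (Steps.fwd (nat_lit 90112) (Steps.fwd (nat_lit 139264) (Steps.bwd (nat_lit 15) (Steps.bwd (nat_lit 15) (Steps.bwd (nat_lit 4) Steps.nil))))))) (nat_lit 53) (nat_lit 7),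
  Rule.mk (nat_lit 13) (nat_lit 190) (Steps.bwd (nat_lit 9) (Steps.bwd (nat_lit 12) (Steps.bwd (nat_lit 17) (Steps.bwd (nat_lit 1) (Steps.fwd (nat_lit 122880) (Steps.fwd (nat_lit 16384) (Steps.fwd (nat_lit 16384) (Steps.fwd (nat_lit 16384) (Steps.fwd (nat_lit 73728) (Steps.bwd (nat_lit 12) (Steps.fwd (nat_lit 73728) Steps.nil))))))))))) (nat_lit 74) (nat_lit 4),
  Rule.mk (nat_lit 7) (nat_lit 286) (Steps.bwd (nat_lit 9) (Steps.fwd (nat_lit 24576) (Steps.fwd (nat_lit 24576) (Steps.fwd (nat_lit 8192) (Steps.bwd (nat_lit 11) (Steps.fwd (nat_lit 16384) (Steps.fwd (nat_lit 90112) (Steps.fwd (nat_lit 8192) (Steps.fwd (nat_lit 90112) (Steps.bwd (nat_lit 1) (Steps.bwd (nat_lit 7) (Steps.fwd (nat_lit 90112) (Steps.bwd (nat_lit 3) (Steps.bwd (nat_lit 1) (Steps.fwd (nat_lit 24576) (Steps.bwd (nat_lit 7) (Steps.bwd (nat_lit 10) Steps.nil))))))))))))))))) (nat_lit 57) (nat_lit 17),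
  Rule.mk (nat_lit 3) (nat_lit 126) (Steps.bwd (nat_lit 10) (Steps.fwd (nat_lit 90112) (Steps.fwd (nat_lit 139264) (Steps.bwd (nat_lit 15) (Steps.bwd (nat_lit 15) (Steps.fwd (nat_lit 24576) (Steps.fwd (nat_lit 114688) Steps.nil))))))) (nat_lit 53) (nat_lit 0),
  Rule.mk (nat_lit 1) (nat_lit 94) (Steps.fwd (nat_lit 16384) (Steps.fwd (nat_lit 24576) (Steps.bwd (nat_lit 2) (Steps.bwd (nat_lit 2) (Steps.bwd (nat_lit 3) Steps.nil))))) (nat_lit 7) (nat_lit 5),
  Rule.mk (nat_lit 9) (nat_lit 110) (Steps.bwd (nat_lit 18) (Steps.fwd (nat_lit 73728) (Steps.bwd (nat_lit 16) (Steps.bwd (nat_lit 11) (Steps.fwd (nat_lit 122880) (Steps.bwd (nat_lit 11) Steps.nil)))))) (nat_lit 66) (nat_lit 1),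
  Rule.mk (nat_lit 10) (nat_lit 110) (Steps.bwd (nat_lit 9) (Steps.fwd (nat_lit 90112) (Steps.fwd (nat_lit 24576) (Steps.fwd (nat_lit 114688) (Steps.fwd (nat_lit 24576) (Steps.bwd (nat_lit 9) Steps.nil)))))) (nat_lit 60) (nat_lit 2),
  Rule.mk (nat_lit 4) (nat_lit 110) (Steps.bwd (nat_lit 9) (Steps.fwd (nat_lit 90112) (Steps.fwd (nat_lit 73728) (Steps.bwd (nat_lit 10) (Steps.fwd (nat_lit 24576) (Steps.bwd (nat_lit 15) Steps.nil)))))) (nat_lit 60) (nat_lit 0),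
  Rule.mk (nat_lit 12) (nat_lit 190) (Steps.bwd (nat_lit 9) (Steps.fwd (nat_lit 98304) (Steps.bwd (nat_lit 9) (Steps.fwd (nat_lit 106496) (Steps.bwd (nat_lit 17) (Steps.bwd (nat_lit 1) (Steps.fwd (nat_lit 122880) (Steps.fwd (nat_lit 16384) (Steps.bwd (nat_lit 1) (Steps.bwd (nat_lit 1) (Steps.fwd (nat_lit 73728) Steps.nil))))))))))) (nat_lit 74) (nat_lit 2),
  Rule.mk (nat_lit 13) (nat_lit 190) (Steps.bwd (nat_lit 9) (Steps.bwd (nat_lit 2) (Steps.bwd (nat_lit 2) (Steps.fwd (nat_lit 8192) (Steps.fwd (nat_lit 114688) (Steps.fwd (nat_lit 8192) (Steps.fwd (nat_lit 139264) (Steps.bwd (nat_lit 13) (Steps.bwd (nat_lit 9) (Steps.bwd (nat_lit 12) (Steps.fwd (nat_lit 73728) Steps.nil))))))))))) (nat_lit 75) (nat_lit 11),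
  Rule.mk (nat_lit 2) (nat_lit 270) (Steps.bwd (nat_lit 9) (Steps.bwd (nat_lit 2) (Steps.bwd (nat_lit 18) (Steps.bwd (nat_lit 16) (Steps.bwd (nat_lit 10) (Steps.bwd (nat_lit 3) (Steps.bwd (nat_lit 1) (Steps.fwd (nat_lit 24576) (Steps.fwd (nat_lit 24576) (Steps.fwd (nat_lit 8192) (Steps.bwd (nat_lit 7) (Steps.fwd (nat_lit 73728) (Steps.bwd (nat_lit 4) (Steps.fwd (nat_lit 106496) (Steps.bwd (nat_lit 2) (Steps.bwd (nat_lit 9) Steps.nil)))))))))))))))) (nat_lit 76) (nat_lit 7),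
  Rule.mk (nat_lit 19) (nat_lit 126) (Steps.fwd (nat_lit 65536) (Steps.bwd (nat_lit 18) (Steps.bwd (nat_lit 2) (Steps.bwd (nat_lit 2) (Steps.bwd (nat_lit 7) (Steps.bwd (nat_lit 18) (Steps.bwd (nat_lit 7) Steps.nil))))))) (nat_lit 86) (nat_lit 4)]
noncomputable def R_94 : List (Rule) := [Rule.mk (nat_lit 10) (nat_lit 110) (Steps.bwd (nat_lit 17) (Steps.fwd (nat_lit 73728) (Steps.bwd (nat_lit 19) (Steps.bwd (nat_lit 9) (Steps.bwd (nat_lit 10) (Steps.fwd (nat_lit 114688) Steps.nil)))))) (nat_lit 67) (nat_lit 3),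
  Rule.mk (nat_lit 14) (nat_lit 126) (Steps.bwd (nat_lit 17) (Steps.bwd (nat_lit 11) (Steps.bwd (nat_lit 17) (Steps.fwd (nat_lit 24576) (Steps.fwd (nat_lit 98304) (Steps.bwd (nat_lit 3) (Steps.bwd (nat_lit 12) Steps.nil))))))) (nat_lit 51) (nat_lit 2),
  Rule.mk (nat_lit 1) (nat_lit 94) (Steps.bwd (nat_lit 1) (Steps.fwd (nat_lit 16384) (Steps.fwd (nat_lit 16384) (Steps.bwd (nat_lit 8) (Steps.bwd (nat_lit 8) Steps.nil))))) (nat_lit 79) (nat_lit 1),
  Rule.mk (nat_lit 3) (nat_lit 126) (Steps.bwd (nat_lit 10) (Steps.fwd (nat_lit 90112) (Steps.fwd (nat_lit 139264) (Steps.fwd (nat_lit 114688) (Steps.bwd (nat_lit 15) (Steps.bwd (nat_lit 4) (Steps.fwd (nat_lit 114688) Steps.nil))))))) (nat_lit 53) (nat_lit 0),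
  Rule.mk (nat_lit 16) (nat_lit 110) (Steps.fwd (nat_lit 122880) (Steps.fwd (nat_lit 81920) (Steps.fwd (nat_lit 73728) (Steps.fwd (nat_lit 32768) (Steps.fwd (nat_lit 73728) (Steps.bwd (nat_lit 16) Steps.nil)))))) (nat_lit 70) (nat_lit 5),
  Rule.mk (nat_lit 4) (nat_lit 126) (Steps.bwd (nat_lit 12) (Steps.fwd (nat_lit 32768) (Steps.bwd (nat_lit 16) (Steps.bwd (nat_lit 10) (Steps.bwd (nat_lit 16) (Steps.fwd (nat_lit 114688) (Steps.bwd (nat_lit 13) Steps.nil))))))) (nat_lit 50) (nat_lit 1),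
  Rule.mk (nat_lit 3) (nat_lit 126) (Steps.bwd (nat_lit 12) (Steps.bwd (nat_lit 14) (Steps.bwd (nat_lit 17) (Steps.fwd (nat_lit 81920) (Steps.fwd (nat_lit 131072) (Steps.fwd (nat_lit 24576) (Steps.fwd (nat_lit 98304) Steps.nil))))))) (nat_lit 51) (nat_lit 0),
  Rule.mk (nat_lit 13) (nat_lit 126) (Steps.bwd (nat_lit 3) (Steps.fwd (nat_lit 106496) (Steps.fwd (nat_lit 122880) (Steps.bwd (nat_lit 17) (Steps.bwd (nat_lit 11) (Steps.fwd (nat_lit 131072) (Steps.bwd (nat_lit 4) Steps.nil))))))) (nat_lit 51) (nat_lit 7),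
  Rule.mk (nat_lit 7) (nat_lit 94) (Steps.fwd (nat_lit 8192) (Steps.bwd (nat_lit 2) (Steps.bwd (nat_lit 2) (Steps.fwd (nat_lit 8192) (Steps.fwd (nat_lit 65536) Steps.nil))))) (nat_lit 78) (nat_lit 2),
  Rule.mk (nat_lit 9) (nat_lit 110) (Steps.fwd (nat_lit 139264) (Steps.bwd (nat_lit 11) (Steps.bwd (nat_lit 14) (Steps.bwd (nat_lit 11) (Steps.fwd (nat_lit 73728) (Steps.bwd (nat_lit 18) Steps.nil)))))) (nat_lit 66) (nat_lit 3),
  Rule.mk (nat_lit 4) (nat_lit 126) (Steps.bwd (nat_lit 12) (Steps.fwd (nat_lit 32768) (Steps.fwd (nat_lit 139264) (Steps.fwd (nat_lit 90112) (Steps.bwd (nat_lit 16) (Steps.fwd (nat_lit 114688) (Steps.fwd (nat_lit 98304) Steps.nil))))))) (nat_lit 50) (nat_lit 1),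
  Rule.mk (nat_lit 9) (nat_lit 190) (Steps.bwd (nat_lit 12) (Steps.fwd (nat_lit 131072) (Steps.fwd (nat_lit 16384) (Steps.fwd (nat_lit 122880) (Steps.fwd (nat_lit 16384) (Steps.bwd (nat_lit 1) (Steps.fwd (nat_lit 16384) (Steps.bwd (nat_lit 9) (Steps.bwd (nat_lit 12) (Steps.fwd (nat_lit 73728) (Steps.fwd (nat_lit 98304) Steps.nil))))))))))) (nat_lit 74) (nat_lit 5),
  Rule.mk (nat_lit 16) (nat_lit 110) (Steps.fwd (nat_lit 73728) (Steps.bwd (nat_lit 17) (Steps.bwd (nat_lit 14) (Steps.bwd (nat_lit 4) (Steps.bwd (nat_lit 4) (Steps.bwd (nat_lit 9) Steps.nil)))))) (nat_lit 64) (nat_lit 2),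
  Rule.mk (nat_lit 14) (nat_lit 158) (Steps.bwd (nat_lit 9) (Steps.fwd (nat_lit 16384) (Steps.bwd (nat_lit 16) (Steps.fwd (nat_lit 90112) (Steps.fwd (nat_lit 98304) (Steps.bwd (nat_lit 2) (Steps.bwd (nat_lit 4) (Steps.bwd (nat_lit 4) (Steps.bwd (nat_lit 9) Steps.nil))))))))) (nat_lit 62) (nat_lit 2),
  Rule.mk (nat_lit 13) (nat_lit 190) (Steps.fwd (nat_lit 73728) (Steps.fwd (nat_lit 8192) (Steps.fwd (nat_lit 8192) (Steps.bwd (nat_lit 2) (Steps.fwd (nat_lit 114688) (Steps.fwd (nat_lit 8192) (Steps.fwd (nat_lit 139264) (Steps.bwd (nat_lit 13) (Steps.fwd (nat_lit 73728) (Steps.bwd (nat_lit 12) (Steps.bwd (nat_lit 9) Steps.nil))))))))))) (nat_lit 75) (nat_lit 11),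
  Rule.mk (nat_lit 3) (nat_lit 110) (Steps.bwd (nat_lit 14) (Steps.fwd (nat_lit 32768) (Steps.fwd (nat_lit 81920) (Steps.bwd (nat_lit 9) (Steps.fwd (nat_lit 81920) (Steps.fwd (nat_lit 73728) Steps.nil)))))) (nat_lit 61) (nat_lit 1),
  Rule.mk (nat_lit 16) (nat_lit 126) (Steps.bwd (nat_lit 10) (Steps.bwd (nat_lit 16) (Steps.fwd (nat_lit 114688) (Steps.bwd (nat_lit 13) (Steps.fwd (nat_lit 24576) (Steps.bwd (nat_lit 12) (Steps.bwd (nat_lit 3) Steps.nil))))))) (nat_lit 50) (nat_lit 4),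
  Rule.mk (nat_lit 2) (nat_lit 286) (Steps.bwd (nat_lit 10) (Steps.fwd (nat_lit 16384) (Steps.bwd (nat_lit 3) (Steps.fwd (nat_lit 32768) (Steps.fwd (nat_lit 73728) (Steps.bwd (nat_lit 8) (Steps.fwd (nat_lit 81920) (Steps.fwd (nat_lit 57344) (Steps.fwd (nat_lit 32768) (Steps.fwd (nat_lit 8192) (Steps.bwd (nat_lit 4) (Steps.fwd (nat_lit 81920) (Steps.fwd (nat_lit 57344) (Steps.fwd (nat_lit 8192) (Steps.fwd (nat_lit 81920) (Steps.bwd (nat_lit 1) (Steps.fwd (nat_lit 81920) Steps.nil))))))))))))))))) (nat_lit 56) (nat_lit 14),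
  Rule.mk (nat_lit 7) (nat_lit 94) (Steps.fwd (nat_lit 65536) (Steps.bwd (nat_lit 2) (Steps.bwd (nat_lit 2) (Steps.fwd (nat_lit 8192) (Steps.bwd (nat_lit 2) Steps.nil))))) (nat_lit 78) (nat_lit 1),
  Rule.mk (nat_lit 9) (nat_lit 206) (Steps.fwd (nat_lit 16384) (Steps.fwd (nat_lit 32768) (Steps.fwd (nat_lit 32768) (Steps.fwd (nat_lit 16384) (Steps.bwd (nat_lit 4) (Steps.fwd (nat_lit 16384) (Steps.fwd (nat_lit 90112) (Steps.bwd (nat_lit 18) (Steps.fwd (nat_lit 131072) (Steps.fwd (nat_lit 73728) (Steps.fwd (nat_lit 8192) (Steps.bwd (nat_lit 2) Steps.nil)))))))))))) (nat_lit 69) (nat_lit 0),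
  Rule.mk (nat_lit 4) (nat_lit 110) (Steps.bwd (nat_lit 9) (Steps.fwd (nat_lit 90112) (Steps.fwd (nat_lit 73728) (Steps.fwd (nat_lit 90112) (Steps.fwd (nat_lit 24576) (Steps.bwd (nat_lit 15) Steps.nil)))))) (nat_lit 60) (nat_lit 0),
  Rule.mk (nat_lit 7) (nat_lit 126) (Steps.bwd (nat_lit 18) (Steps.bwd (nat_lit 7) (Steps.bwd (nat_lit 19) (Steps.bwd (nat_lit 7) (Steps.bwd (nat_lit 18) (Steps.bwd (nat_lit 2) (Steps.bwd (nat_lit 2) Steps.nil))))))) (nat_lit 86) (nat_lit 1),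
  Rule.mk (nat_lit 9) (nat_lit 110) (Steps.bwd (nat_lit 17) (Steps.fwd (nat_lit 73728) (Steps.fwd (nat_lit 32768) (Steps.fwd (nat_lit 32768) (Steps.fwd (nat_lit 114688) (Steps.bwd (nat_lit 16) Steps.nil)))))) (nat_lit 65) (nat_lit 5),
  Rule.mk (nat_lit 16) (nat_lit 110) (Steps.fwd (nat_lit 81920) (Steps.fwd (nat_lit 122880) (Steps.fwd (nat_lit 81920) (Steps.bwd (nat_lit 9) (Steps.fwd (nat_lit 155648) (Steps.bwd (nat_lit 9) Steps.nil)))))) (nat_lit 66) (nat_lit 4),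
  Rule.mk (nat_lit 1) (nat_lit 158) (Steps.bwd (nat_lit 16) (Steps.fwd (nat_lit 90112) (Steps.fwd (nat_lit 98304) (Steps.fwd (nat_lit 8192) (Steps.bwd (nat_lit 4) (Steps.fwd (nat_lit 24576) (Steps.fwd (nat_lit 73728) (Steps.bwd (nat_lit 14) (Steps.fwd (nat_lit 73728) Steps.nil))))))))) (nat_lit 62) (nat_lit 4),
  Rule.mk (nat_lit 1) (nat_lit 206) (Steps.fwd (nat_lit 16384) (Steps.bwd (nat_lit 9) (Steps.fwd (nat_lit 139264) (Steps.bwd (nat_lit 19) (Steps.bwd (nat_lit 11) (Steps.fwd (nat_lit 8192) (Steps.fwd (nat_lit 32768) (Steps.fwd (nat_lit 8192) (Steps.fwd (nat_lit 24576) (Steps.bwd (nat_lit 4) (Steps.bwd (nat_lit 2) (Steps.bwd (nat_lit 9) Steps.nil)))))))))))) (nat_lit 68) (nat_lit 2),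
  Rule.mk (nat_lit 2) (nat_lit 270) (Steps.fwd (nat_lit 155648) (Steps.bwd (nat_lit 16) (Steps.bwd (nat_lit 10) (Steps.bwd (nat_lit 3) (Steps.fwd (nat_lit 16384) (Steps.fwd (nat_lit 24576) (Steps.bwd (nat_lit 4) (Steps.bwd (nat_lit 2) (Steps.fwd (nat_lit 65536) (Steps.fwd (nat_lit 73728) (Steps.bwd (nat_lit 4) (Steps.fwd (nat_lit 106496) (Steps.bwd (nat_lit 2) (Steps.fwd (nat_lit 73728) (Steps.bwd (nat_lit 2) (Steps.bwd (nat_lit 9) Steps.nil)))))))))))))))) (nat_lit 76) (nat_lit 9),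
  Rule.mk (nat_lit 8) (nat_lit 286) (Steps.fwd (nat_lit 81920) (Steps.bwd (nat_lit 8) (Steps.bwd (nat_lit 3) (Steps.fwd (nat_lit 8192) (Steps.bwd (nat_lit 4) (Steps.fwd (nat_lit 81920) (Steps.fwd (nat_lit 57344) (Steps.fwd (nat_lit 8192) (Steps.bwd (nat_lit 11) (Steps.fwd (nat_lit 16384) (Steps.bwd (nat_lit 11) (Steps.bwd (nat_lit 2) (Steps.bwd (nat_lit 10) (Steps.bwd (nat_lit 1) (Steps.bwd (nat_lit 3) (Steps.bwd (nat_lit 3) (Steps.bwd (nat_lit 9) Steps.nil))))))))))))))))) (nat_lit 56) (nat_lit 2),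
  Rule.mk (nat_lit 12) (nat_lit 78) (Steps.bwd (nat_lit 19) (Steps.fwd (nat_lit 114688) (Steps.bwd (nat_lit 13) (Steps.fwd (nat_lit 122880) Steps.nil)))) (nat_lit 37) (nat_lit 0),
  Rule.mk (nat_lit 17) (nat_lit 142) (Steps.fwd (nat_lit 81920) (Steps.fwd (nat_lit 131072) (Steps.bwd (nat_lit 14) (Steps.fwd (nat_lit 106496) (Steps.bwd (nat_lit 11) (Steps.bwd (nat_lit 2) (Steps.bwd (nat_lit 16) (Steps.bwd (nat_lit 1) Steps.nil)))))))) (nat_lit 46) (nat_lit 4),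
  Rule.mk (nat_lit 9) (nat_lit 206) (Steps.bwd (nat_lit 1) (Steps.fwd (nat_lit 32768) (Steps.bwd (nat_lit 3) (Steps.fwd (nat_lit 16384) (Steps.fwd (nat_lit 24576) (Steps.fwd (nat_lit 16384) (Steps.bwd (nat_lit 10) (Steps.fwd (nat_lit 155648) (Steps.fwd (nat_lit 131072) (Steps.bwd (nat_lit 9) (Steps.bwd (nat_lit 2) (Steps.bwd (nat_lit 2) Steps.nil)))))))))))) (nat_lit 69) (nat_lit 0),
  Rule.mk (nat_lit 1) (nat_lit 94) (Steps.bwd (nat_lit 4) (Steps.fwd (nat_lit 8192) (Steps.bwd (nat_lit 2) (Steps.fwd (nat_lit 32768) (Steps.fwd (nat_lit 16384) Steps.nil))))) (nat_lit 7) (nat_lit 0),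
  Rule.mk (nat_lit 17) (nat_lit 126) (Steps.bwd (nat_lit 4) (Steps.fwd (nat_lit 98304) (Steps.bwd (nat_lit 3) (Steps.fwd (nat_lit 106496) (Steps.fwd (nat_lit 122880) (Steps.fwd (nat_lit 131072) (Steps.fwd (nat_lit 81920) Steps.nil))))))) (nat_lit 51) (nat_lit 5),
  Rule.mk (nat_lit 9) (nat_lit 270) (Steps.bwd (nat_lit 4) (Steps.fwd (nat_lit 106496) (Steps.fwd (nat_lit 8192) (Steps.fwd (nat_lit 73728) (Steps.bwd (nat_lit 2) (Steps.fwd (nat_lit 73728) (Steps.fwd (nat_lit 8192) (Steps.fwd (nat_lit 155648) (Steps.fwd (nat_lit 139264) (Steps.fwd (nat_lit 90112) (Steps.bwd (nat_lit 3) (Steps.bwd (nat_lit 1) (Steps.bwd (nat_lit 4) (Steps.fwd (nat_lit 24576) (Steps.bwd (nat_lit 2) (Steps.fwd (nat_lit 65536) Steps.nil)))))))))))))))) (nat_lit 76) (nat_lit 2),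
  Rule.mk (nat_lit 13) (nat_lit 190) (Steps.bwd (nat_lit 9) (Steps.fwd (nat_lit 8192) (Steps.bwd (nat_lit 2) (Steps.fwd (nat_lit 8192) (Steps.fwd (nat_lit 114688) (Steps.fwd (nat_lit 8192) (Steps.bwd (nat_lit 16) (Steps.bwd (nat_lit 13) (Steps.fwd (nat_lit 73728) (Steps.fwd (nat_lit 106496) (Steps.bwd (nat_lit 9) Steps.nil))))))))))) (nat_lit 75) (nat_lit 11),
  Rule.mk (nat_lit 1) (nat_lit 110) (Steps.bwd (nat_lit 15) (Steps.fwd (nat_lit 114688) (Steps.fwd (nat_lit 90112) (Steps.bwd (nat_lit 16) (Steps.fwd (nat_lit 8192) (Steps.bwd (nat_lit 15) Steps.nil)))))) (nat_lit 45) (nat_lit 0),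
  Rule.mk (nat_lit 4) (nat_lit 110) (Steps.bwd (nat_lit 15) (Steps.bwd (nat_lit 4) (Steps.bwd (nat_lit 9) (Steps.bwd (nat_lit 10) (Steps.fwd (nat_lit 73728) (Steps.fwd (nat_lit 90112) Steps.nil)))))) (nat_lit 60) (nat_lit 5),
  Rule.mk (nat_lit 16) (nat_lit 126) (Steps.bwd (nat_lit 15) (Steps.fwd (nat_lit 114688) (Steps.bwd (nat_lit 4) (Steps.fwd (nat_lit 114688) (Steps.bwd (nat_lit 3) (Steps.fwd (nat_lit 90112) (Steps.bwd (nat_lit 10) Steps.nil))))))) (nat_lit 53) (nat_lit 3),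
  Rule.mk (nat_lit 10) (nat_lit 126) (Steps.bwd (nat_lit 16) (Steps.bwd (nat_lit 15) (Steps.bwd (nat_lit 15) (Steps.bwd (nat_lit 4) (Steps.bwd (nat_lit 15) (Steps.bwd (nat_lit 3) (Steps.bwd (nat_lit 10) Steps.nil))))))) (nat_lit 53) (nat_lit 2),
  Rule.mk (nat_lit 2) (nat_lit 142) (Steps.bwd (nat_lit 16) (Steps.fwd (nat_lit 16384) (Steps.fwd (nat_lit 131072) (Steps.fwd (nat_lit 81920) (Steps.bwd (nat_lit 17) (Steps.fwd (nat_lit 122880) (Steps.bwd (nat_lit 12) (Steps.fwd (nat_lit 81920) Steps.nil)))))))) (nat_lit 46) (nat_lit 1),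
  Rule.mk (nat_lit 9) (nat_lit 206) (Steps.bwd (nat_lit 16) (Steps.fwd (nat_lit 147456) (Steps.fwd (nat_lit 81920) (Steps.bwd (nat_lit 2) (Steps.bwd (nat_lit 3) (Steps.fwd (nat_lit 8192) (Steps.bwd (nat_lit 4) (Steps.fwd (nat_lit 24576) (Steps.bwd (nat_lit 2) (Steps.bwd (nat_lit 9) (Steps.fwd (nat_lit 16384) (Steps.bwd (nat_lit 1) Steps.nil)))))))))))) (nat_lit 68) (nat_lit 4),
  Rule.mk (nat_lit 8) (nat_lit 126) (Steps.bwd (nat_lit 18) (Steps.fwd (nat_lit 57344) (Steps.fwd (nat_lit 147456) (Steps.bwd (nat_lit 8) (Steps.fwd (nat_lit 16384) (Steps.fwd (nat_lit 16384) (Steps.bwd (nat_lit 19) Steps.nil))))))) (nat_lit 87) (nat_lit 4),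
  Rule.mk (nat_lit 17) (nat_lit 142) (Steps.bwd (nat_lit 1) (Steps.bwd (nat_lit 10) (Steps.fwd (nat_lit 98304) (Steps.bwd (nat_lit 15) (Steps.bwd (nat_lit 16) (Steps.fwd (nat_lit 90112) (Steps.fwd (nat_lit 139264) (Steps.bwd (nat_lit 2) Steps.nil)))))))) (nat_lit 47) (nat_lit 8),
  Rule.mk (nat_lit 9) (nat_lit 270) (Steps.fwd (nat_lit 8192) (Steps.bwd (nat_lit 9) (Steps.bwd (nat_lit 2) (Steps.bwd (nat_lit 18) (Steps.fwd (nat_lit 139264) (Steps.fwd (nat_lit 90112) (Steps.fwd (nat_lit 32768) (Steps.fwd (nat_lit 16384) (Steps.bwd (nat_lit 4) (Steps.fwd (nat_lit 24576) (Steps.bwd (nat_lit 2) (Steps.fwd (nat_lit 65536) (Steps.bwd (nat_lit 9) (Steps.bwd (nat_lit 4) (Steps.bwd (nat_lit 12) (Steps.bwd (nat_lit 2) Steps.nil)))))))))))))))) (nat_lit 76) (nat_lit 6),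
  Rule.mk (nat_lit 2) (nat_lit 94) (Steps.fwd (nat_lit 8192) (Steps.bwd (nat_lit 7) (Steps.fwd (nat_lit 65536) (Steps.bwd (nat_lit 2) (Steps.bwd (nat_lit 2) Steps.nil))))) (nat_lit 78) (nat_lit 5),
  Rule.mk (nat_lit 16) (nat_lit 142) (Steps.fwd (nat_lit 16384) (Steps.fwd (nat_lit 131072) (Steps.bwd (nat_lit 11) (Steps.fwd (nat_lit 131072) (Steps.bwd (nat_lit 14) (Steps.fwd (nat_lit 106496) (Steps.bwd (nat_lit 11) (Steps.bwd (nat_lit 2) Steps.nil)))))))) (nat_lit 46) (nat_lit 2),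
  Rule.mk (nat_lit 15) (nat_lit 110) (Steps.bwd (nat_lit 15) (Steps.bwd (nat_lit 10) (Steps.fwd (nat_lit 139264) (Steps.fwd (nat_lit 8192) (Steps.fwd (nat_lit 114688) (Steps.fwd (nat_lit 16384) Steps.nil)))))) (nat_lit 45) (nat_lit 1),
  Rule.mk (nat_lit 10) (nat_lit 110) (Steps.bwd (nat_lit 15) (Steps.bwd (nat_lit 10) (Steps.fwd (nat_lit 131072) (Steps.bwd (nat_lit 9) (Steps.bwd (nat_lit 19) (Steps.bwd (nat_lit 9) Steps.nil)))))) (nat_lit 67) (nat_lit 1),
  Rule.mk (nat_lit 1) (nat_lit 206) (Steps.bwd (nat_lit 3) (Steps.fwd (nat_lit 32768) (Steps.fwd (nat_lit 16384) (Steps.fwd (nat_lit 24576) (Steps.fwd (nat_lit 16384) (Steps.bwd (nat_lit 9) (Steps.bwd (nat_lit 16) (Steps.bwd (nat_lit 19) (Steps.bwd (nat_lit 11) (Steps.bwd (nat_lit 2) (Steps.fwd (nat_lit 8192) (Steps.bwd (nat_lit 9) Steps.nil)))))))))))) (nat_lit 72) (nat_lit 2),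
  Rule.mk (nat_lit 18) (nat_lit 126) (Steps.bwd (nat_lit 7) (Steps.fwd (nat_lit 147456) (Steps.bwd (nat_lit 7) (Steps.fwd (nat_lit 155648) (Steps.fwd (nat_lit 8192) (Steps.fwd (nat_lit 8192) (Steps.bwd (nat_lit 7) Steps.nil))))))) (nat_lit 86) (nat_lit 2),
  Rule.mk (nat_lit 9) (nat_lit 110) (Steps.bwd (nat_lit 17) (Steps.fwd (nat_lit 122880) (Steps.fwd (nat_lit 24576) (Steps.bwd (nat_lit 4) (Steps.fwd (nat_lit 73728) (Steps.fwd (nat_lit 139264) Steps.nil)))))) (nat_lit 64) (nat_lit 3),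
  Rule.mk (nat_lit 2) (nat_lit 206) (Steps.bwd (nat_lit 3) (Steps.bwd (nat_lit 2) (Steps.bwd (nat_lit 4) (Steps.fwd (nat_lit 24576) (Steps.bwd (nat_lit 2) (Steps.bwd (nat_lit 9) (Steps.fwd (nat_lit 16384) (Steps.bwd (nat_lit 1) (Steps.bwd (nat_lit 9) (Steps.bwd (nat_lit 16) (Steps.fwd (nat_lit 147456) (Steps.fwd (nat_lit 81920) Steps.nil)))))))))))) (nat_lit 68) (nat_lit 8),
  Rule.mk (nat_lit 1) (nat_lit 206) (Steps.bwd (nat_lit 3) (Steps.fwd (nat_lit 32768) (Steps.bwd (nat_lit 1) (Steps.bwd (nat_lit 4) (Steps.bwd (nat_lit 1) (Steps.fwd (nat_lit 73728) (Steps.fwd (nat_lit 139264) (Steps.fwd (nat_lit 147456) (Steps.fwd (nat_lit 81920) (Steps.bwd (nat_lit 2) (Steps.fwd (nat_lit 8192) (Steps.fwd (nat_lit 73728) Steps.nil)))))))))))) (nat_lit 72) (nat_lit 2),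
  Rule.mk (nat_lit 14) (nat_lit 94) (Steps.bwd (nat_lit 18) (Steps.fwd (nat_lit 155648) (Steps.bwd (nat_lit 11) (Steps.fwd (nat_lit 114688) (Steps.bwd (nat_lit 10) Steps.nil))))) (nat_lit 32) (nat_lit 4),
  Rule.mk (nat_lit 8) (nat_lit 158) (Steps.bwd (nat_lit 19) (Steps.fwd (nat_lit 57344) (Steps.bwd (nat_lit 19) (Steps.bwd (nat_lit 8) (Steps.bwd (nat_lit 19) (Steps.bwd (nat_lit 8) (Steps.bwd (nat_lit 19) (Steps.fwd (nat_lit 57344) (Steps.bwd (nat_lit 19) Steps.nil))))))))) (nat_lit 85) (nat_lit 0),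
  Rule.mk (nat_lit 2) (nat_lit 94) (Steps.fwd (nat_lit 8192) (Steps.fwd (nat_lit 32768) (Steps.fwd (nat_lit 16384) (Steps.bwd (nat_lit 1) (Steps.bwd (nat_lit 4) Steps.nil))))) (nat_lit 7) (nat_lit 2),
  Rule.mk (nat_lit 9) (nat_lit 110) (Steps.fwd (nat_lit 139264) (Steps.fwd (nat_lit 73728) (Steps.bwd (nat_lit 17) (Steps.fwd (nat_lit 122880) (Steps.fwd (nat_lit 24576) (Steps.bwd (nat_lit 4) Steps.nil)))))) (nat_lit 64) (nat_lit 1),
  Rule.mk (nat_lit 13) (nat_lit 190) (Steps.bwd (nat_lit 9) (Steps.fwd (nat_lit 106496) (Steps.bwd (nat_lit 17) (Steps.fwd (nat_lit 16384) (Steps.bwd (nat_lit 14) (Steps.fwd (nat_lit 16384) (Steps.fwd (nat_lit 16384) (Steps.fwd (nat_lit 16384) (Steps.fwd (nat_lit 73728) (Steps.bwd (nat_lit 12) (Steps.bwd (nat_lit 9) Steps.nil))))))))))) (nat_lit 74) (nat_lit 4),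
  Rule.mk (nat_lit 3) (nat_lit 94) (Steps.bwd (nat_lit 2) (Steps.bwd (nat_lit 2) (Steps.fwd (nat_lit 24576) (Steps.bwd (nat_lit 1) (Steps.fwd (nat_lit 16384) Steps.nil))))) (nat_lit 6) (nat_lit 0),
  Rule.mk (nat_lit 4) (nat_lit 94) (Steps.bwd (nat_lit 2) (Steps.bwd (nat_lit 2) (Steps.bwd (nat_lit 3) (Steps.bwd (nat_lit 1) (Steps.fwd (nat_lit 16384) Steps.nil))))) (nat_lit 7) (nat_lit 1),
  Rule.mk (nat_lit 9) (nat_lit 206) (Steps.bwd (nat_lit 2) (Steps.bwd (nat_lit 2) (Steps.fwd (nat_lit 73728) (Steps.bwd (nat_lit 1) (Steps.bwd (nat_lit 3) (Steps.bwd (nat_lit 3) (Steps.bwd (nat_lit 1) (Steps.fwd (nat_lit 24576) (Steps.fwd (nat_lit 16384) (Steps.fwd (nat_lit 90112) (Steps.fwd (nat_lit 155648) (Steps.fwd (nat_lit 131072) Steps.nil)))))))))))) (nat_lit 69) (nat_lit 10),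
  Rule.mk (nat_lit 18) (nat_lit 206) (Steps.bwd (nat_lit 17) (Steps.bwd (nat_lit 9) (Steps.fwd (nat_lit 8192) (Steps.fwd (nat_lit 8192) (Steps.bwd (nat_lit 9) (Steps.bwd (nat_lit 1) (Steps.bwd (nat_lit 3) (Steps.bwd (nat_lit 3) (Steps.fwd (nat_lit 16384) (Steps.fwd (nat_lit 24576) (Steps.bwd (nat_lit 1) (Steps.bwd (nat_lit 10) Steps.nil)))))))))))) (nat_lit 69) (nat_lit 8),
  Rule.mk (nat_lit 9) (nat_lit 110) (Steps.bwd (nat_lit 10) (Steps.fwd (nat_lit 73728) (Steps.bwd (nat_lit 10) (Steps.fwd (nat_lit 24576) (Steps.bwd (nat_lit 15) (Steps.fwd (nat_lit 24576) Steps.nil)))))) (nat_lit 60) (nat_lit 1),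
  Rule.mk (nat_lit 15) (nat_lit 158) (Steps.bwd (nat_lit 9) (Steps.bwd (nat_lit 3) (Steps.bwd (nat_lit 3) (Steps.fwd (nat_lit 16384) (Steps.fwd (nat_lit 106496) (Steps.bwd (nat_lit 11) (Steps.bwd (nat_lit 17) (Steps.fwd (nat_lit 8192) (Steps.bwd (nat_lit 9) Steps.nil))))))))) (nat_lit 63) (nat_lit 9)]
noncomputable def R_95 : List (Rule) := [Rule.mk (nat_lit 12) (nat_lit 190) (Steps.fwd (nat_lit 131072) (Steps.bwd (nat_lit 1) (Steps.fwd (nat_lit 122880) (Steps.fwd (nat_lit 16384) (Steps.bwd (nat_lit 1) (Steps.bwd (nat_lit 1) (Steps.fwd (nat_lit 73728) (Steps.fwd (nat_lit 106496) (Steps.bwd (nat_lit 9) (Steps.bwd (nat_lit 13) (Steps.bwd (nat_lit 9) Steps.nil))))))))))) (nat_lit 74) (nat_lit 6),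
  Rule.mk (nat_lit 17) (nat_lit 158) (Steps.fwd (nat_lit 8192) (Steps.bwd (nat_lit 9) (Steps.bwd (nat_lit 15) (Steps.fwd (nat_lit 73728) (Steps.bwd (nat_lit 3) (Steps.bwd (nat_lit 3) (Steps.fwd (nat_lit 16384) (Steps.bwd (nat_lit 12) (Steps.bwd (nat_lit 11) Steps.nil))))))))) (nat_lit 63) (nat_lit 6),
  Rule.mk (nat_lit 8) (nat_lit 126) (Steps.bwd (nat_lit 19) (Steps.bwd (nat_lit 8) (Steps.fwd (nat_lit 16384) (Steps.bwd (nat_lit 1) (Steps.fwd (nat_lit 147456) (Steps.fwd (nat_lit 57344) (Steps.bwd (nat_lit 18) Steps.nil))))))) (nat_lit 87) (nat_lit 6),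
  Rule.mk (nat_lit 4) (nat_lit 110) (Steps.bwd (nat_lit 4) (Steps.bwd (nat_lit 9) (Steps.bwd (nat_lit 16) (Steps.bwd (nat_lit 9) (Steps.fwd (nat_lit 131072) (Steps.bwd (nat_lit 14) Steps.nil)))))) (nat_lit 64) (nat_lit 6),
  Rule.mk (nat_lit 2) (nat_lit 126) (Steps.bwd (nat_lit 4) (Steps.bwd (nat_lit 2) (Steps.bwd (nat_lit 4) (Steps.fwd (nat_lit 8192) (Steps.fwd (nat_lit 24576) (Steps.bwd (nat_lit 2) (Steps.fwd (nat_lit 24576) Steps.nil))))))) (nat_lit 5) (nat_lit 0),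
  Rule.mk (nat_lit 13) (nat_lit 126) (Steps.bwd (nat_lit 4) (Steps.fwd (nat_lit 106496) (Steps.bwd (nat_lit 3) (Steps.bwd (nat_lit 16) (Steps.bwd (nat_lit 10) (Steps.fwd (nat_lit 139264) (Steps.bwd (nat_lit 15) Steps.nil))))))) (nat_lit 50) (nat_lit 0),
  Rule.mk (nat_lit 1) (nat_lit 190) (Steps.bwd (nat_lit 4) (Steps.bwd (nat_lit 2) (Steps.bwd (nat_lit 3) (Steps.fwd (nat_lit 16384) (Steps.bwd (nat_lit 4) (Steps.fwd (nat_lit 8192) (Steps.bwd (nat_lit 3) (Steps.fwd (nat_lit 16384) (Steps.bwd (nat_lit 4) (Steps.bwd (nat_lit 2) (Steps.bwd (nat_lit 3) Steps.nil))))))))))) (nat_lit 9) (nat_lit 0),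
  Rule.mk (nat_lit 17) (nat_lit 110) (Steps.fwd (nat_lit 81920) (Steps.fwd (nat_lit 122880) (Steps.bwd (nat_lit 14) (Steps.fwd (nat_lit 8192) (Steps.bwd (nat_lit 14) (Steps.bwd (nat_lit 1) Steps.nil)))))) (nat_lit 44) (nat_lit 4),
  Rule.mk (nat_lit 10) (nat_lit 142) (Steps.fwd (nat_lit 98304) (Steps.bwd (nat_lit 15) (Steps.fwd (nat_lit 139264) (Steps.bwd (nat_lit 10) (Steps.fwd (nat_lit 139264) (Steps.fwd (nat_lit 8192) (Steps.fwd (nat_lit 131072) (Steps.bwd (nat_lit 1) Steps.nil)))))))) (nat_lit 47) (nat_lit 1),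
  Rule.mk (nat_lit 9) (nat_lit 190) (Steps.bwd (nat_lit 13) (Steps.fwd (nat_lit 73728) (Steps.fwd (nat_lit 106496) (Steps.bwd (nat_lit 17) (Steps.bwd (nat_lit 1) (Steps.bwd (nat_lit 14) (Steps.fwd (nat_lit 16384) (Steps.bwd (nat_lit 1) (Steps.fwd (nat_lit 16384) (Steps.fwd (nat_lit 73728) (Steps.fwd (nat_lit 106496) Steps.nil))))))))))) (nat_lit 74) (nat_lit 3),
  Rule.mk (nat_lit 10) (nat_lit 286) (Steps.bwd (nat_lit 7) (Steps.fwd (nat_lit 73728) (Steps.bwd (nat_lit 4) (Steps.bwd (nat_lit 4) (Steps.fwd (nat_lit 8192) (Steps.fwd (nat_lit 81920) (Steps.fwd (nat_lit 16384) (Steps.fwd (nat_lit 90112) (Steps.fwd (nat_lit 8192) (Steps.fwd (nat_lit 90112) (Steps.bwd (nat_lit 1) (Steps.bwd (nat_lit 7) (Steps.fwd (nat_lit 90112) (Steps.fwd (nat_lit 32768) (Steps.fwd (nat_lit 16384) (Steps.bwd (nat_lit 4) (Steps.bwd (nat_lit 7) Steps.nil))))))))))))))))) (nat_lit 57) (nat_lit 16),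
  Rule.mk (nat_lit 18) (nat_lit 78) (Steps.bwd (nat_lit 13) (Steps.bwd (nat_lit 11) (Steps.fwd (nat_lit 106496) (Steps.bwd (nat_lit 10) Steps.nil)))) (nat_lit 18) (nat_lit 1),
  Rule.mk (nat_lit 8) (nat_lit 126) (Steps.fwd (nat_lit 147456) (Steps.bwd (nat_lit 8) (Steps.bwd (nat_lit 1) (Steps.bwd (nat_lit 1) (Steps.fwd (nat_lit 147456) (Steps.fwd (nat_lit 57344) (Steps.bwd (nat_lit 18) Steps.nil))))))) (nat_lit 87) (nat_lit 6),
  Rule.mk (nat_lit 4) (nat_lit 126) (Steps.bwd (nat_lit 12) (Steps.bwd (nat_lit 3) (Steps.fwd (nat_lit 139264) (Steps.fwd (nat_lit 90112) (Steps.bwd (nat_lit 16) (Steps.fwd (nat_lit 114688) (Steps.bwd (nat_lit 13) Steps.nil))))))) (nat_lit 50) (nat_lit 1),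
  Rule.mk (nat_lit 10) (nat_lit 206) (Steps.bwd (nat_lit 18) (Steps.fwd (nat_lit 131072) (Steps.bwd (nat_lit 9) (Steps.bwd (nat_lit 2) (Steps.fwd (nat_lit 8192) (Steps.bwd (nat_lit 9) (Steps.bwd (nat_lit 1) (Steps.bwd (nat_lit 3) (Steps.fwd (nat_lit 32768) (Steps.fwd (nat_lit 16384) (Steps.fwd (nat_lit 24576) (Steps.bwd (nat_lit 1) Steps.nil)))))))))))) (nat_lit 69) (nat_lit 7),
  Rule.mk (nat_lit 8) (nat_lit 126) (Steps.bwd (nat_lit 1) (Steps.fwd (nat_lit 16384) (Steps.bwd (nat_lit 19) (Steps.fwd (nat_lit 57344) (Steps.bwd (nat_lit 18) (Steps.bwd (nat_lit 8) (Steps.fwd (nat_lit 147456) Steps.nil))))))) (nat_lit 87) (nat_lit 0),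
  Rule.mk (nat_lit 9) (nat_lit 270) (Steps.fwd (nat_lit 24576) (Steps.bwd (nat_lit 12) (Steps.fwd (nat_lit 8192) (Steps.fwd (nat_lit 73728) (Steps.bwd (nat_lit 2) (Steps.bwd (nat_lit 9) (Steps.bwd (nat_lit 2) (Steps.bwd (nat_lit 18) (Steps.fwd (nat_lit 139264) (Steps.bwd (nat_lit 10) (Steps.bwd (nat_lit 3) (Steps.bwd (nat_lit 1) (Steps.bwd (nat_lit 4) (Steps.bwd (nat_lit 4) (Steps.bwd (nat_lit 2) (Steps.bwd (nat_lit 7) Steps.nil)))))))))))))))) (nat_lit 76) (nat_lit 2),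
  Rule.mk (nat_lit 18) (nat_lit 126) (Steps.bwd (nat_lit 7) (Steps.bwd (nat_lit 19) (Steps.fwd (nat_lit 65536) (Steps.fwd (nat_lit 155648) (Steps.bwd (nat_lit 2) (Steps.fwd (nat_lit 8192) (Steps.fwd (nat_lit 65536) Steps.nil))))))) (nat_lit 86) (nat_lit 2),
  Rule.mk (nat_lit 15) (nat_lit 78) (Steps.fwd (nat_lit 131072) (Steps.fwd (nat_lit 122880) (Steps.bwd (nat_lit 16) (Steps.bwd (nat_lit 18) Steps.nil)))) (nat_lit 40) (nat_lit 1),
  Rule.mk (nat_lit 15) (nat_lit 110) (Steps.bwd (nat_lit 15) (Steps.bwd (nat_lit 10) (Steps.bwd (nat_lit 16) (Steps.bwd (nat_lit 2) (Steps.fwd (nat_lit 114688) (Steps.bwd (nat_lit 1) Steps.nil)))))) (nat_lit 45) (nat_lit 1),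
  Rule.mk (nat_lit 9) (nat_lit 110) (Steps.bwd (nat_lit 17) (Steps.fwd (nat_lit 122880) (Steps.bwd (nat_lit 4) (Steps.fwd (nat_lit 24576) (Steps.fwd (nat_lit 73728) (Steps.fwd (nat_lit 139264) Steps.nil)))))) (nat_lit 64) (nat_lit 3),
  Rule.mk (nat_lit 14) (nat_lit 158) (Steps.bwd (nat_lit 9) (Steps.fwd (nat_lit 16384) (Steps.fwd (nat_lit 139264) (Steps.bwd (nat_lit 10) (Steps.bwd (nat_lit 13) (Steps.bwd (nat_lit 2) (Steps.bwd (nat_lit 4) (Steps.bwd (nat_lit 4) (Steps.fwd (nat_lit 73728) Steps.nil))))))))) (nat_lit 62) (nat_lit 2),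
  Rule.mk (nat_lit 13) (nat_lit 190) (Steps.bwd (nat_lit 9) (Steps.fwd (nat_lit 106496) (Steps.bwd (nat_lit 17) (Steps.bwd (nat_lit 1) (Steps.bwd (nat_lit 14) (Steps.fwd (nat_lit 16384) (Steps.fwd (nat_lit 16384) (Steps.fwd (nat_lit 16384) (Steps.fwd (nat_lit 73728) (Steps.fwd (nat_lit 106496) (Steps.fwd (nat_lit 73728) Steps.nil))))))))))) (nat_lit 74) (nat_lit 4),
  Rule.mk (nat_lit 1) (nat_lit 206) (Steps.bwd (nat_lit 9) (Steps.bwd (nat_lit 16) (Steps.fwd (nat_lit 147456) (Steps.bwd (nat_lit 11) (Steps.bwd (nat_lit 2) (Steps.bwd (nat_lit 3) (Steps.fwd (nat_lit 8192) (Steps.bwd (nat_lit 4) (Steps.fwd (nat_lit 24576) (Steps.bwd (nat_lit 2) (Steps.fwd (nat_lit 73728) (Steps.fwd (nat_lit 16384) Steps.nil)))))))))))) (nat_lit 68) (nat_lit 3),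
  Rule.mk (nat_lit 4) (nat_lit 110) (Steps.bwd (nat_lit 15) (Steps.fwd (nat_lit 24576) (Steps.bwd (nat_lit 9) (Steps.bwd (nat_lit 10) (Steps.bwd (nat_lit 9) (Steps.fwd (nat_lit 90112) Steps.nil)))))) (nat_lit 60) (nat_lit 5),
  Rule.mk (nat_lit 2) (nat_lit 190) (Steps.bwd (nat_lit 15) (Steps.fwd (nat_lit 8192) (Steps.fwd (nat_lit 139264) (Steps.bwd (nat_lit 13) (Steps.fwd (nat_lit 73728) (Steps.fwd (nat_lit 106496) (Steps.fwd (nat_lit 73728) (Steps.bwd (nat_lit 13) (Steps.bwd (nat_lit 9) (Steps.fwd (nat_lit 8192) (Steps.bwd (nat_lit 2) Steps.nil))))))))))) (nat_lit 75) (nat_lit 3),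
  Rule.mk (nat_lit 9) (nat_lit 206) (Steps.fwd (nat_lit 139264) (Steps.bwd (nat_lit 19) (Steps.bwd (nat_lit 11) (Steps.fwd (nat_lit 8192) (Steps.bwd (nat_lit 3) (Steps.bwd (nat_lit 2) (Steps.fwd (nat_lit 24576) (Steps.fwd (nat_lit 24576) (Steps.bwd (nat_lit 2) (Steps.bwd (nat_lit 9) (Steps.fwd (nat_lit 16384) (Steps.bwd (nat_lit 1) Steps.nil)))))))))))) (nat_lit 68) (nat_lit 4),
  Rule.mk (nat_lit 18) (nat_lit 126) (Steps.bwd (nat_lit 7) (Steps.bwd (nat_lit 19) (Steps.bwd (nat_lit 7) (Steps.bwd (nat_lit 18) (Steps.fwd (nat_lit 8192) (Steps.bwd (nat_lit 2) (Steps.bwd (nat_lit 7) Steps.nil))))))) (nat_lit 86) (nat_lit 2),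
  Rule.mk (nat_lit 9) (nat_lit 270) (Steps.bwd (nat_lit 4) (Steps.bwd (nat_lit 12) (Steps.fwd (nat_lit 8192) (Steps.fwd (nat_lit 73728) (Steps.fwd (nat_lit 8192) (Steps.fwd (nat_lit 73728) (Steps.bwd (nat_lit 2) (Steps.bwd (nat_lit 18) (Steps.fwd (nat_lit 139264) (Steps.bwd (nat_lit 10) (Steps.fwd (nat_lit 32768) (Steps.bwd (nat_lit 1) (Steps.bwd (nat_lit 4) (Steps.bwd (nat_lit 4) (Steps.bwd (nat_lit 2) (Steps.fwd (nat_lit 65536) Steps.nil)))))))))))))))) (nat_lit 76) (nat_lit 2),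
  Rule.mk (nat_lit 11) (nat_lit 110) (Steps.bwd (nat_lit 9) (Steps.bwd (nat_lit 18) (Steps.fwd (nat_lit 73728) (Steps.bwd (nat_lit 16) (Steps.bwd (nat_lit 11) (Steps.fwd (nat_lit 122880) Steps.nil)))))) (nat_lit 66) (nat_lit 0),
  Rule.mk (nat_lit 16) (nat_lit 126) (Steps.bwd (nat_lit 15) (Steps.bwd (nat_lit 13) (Steps.fwd (nat_lit 24576) (Steps.fwd (nat_lit 106496) (Steps.fwd (nat_lit 32768) (Steps.fwd (nat_lit 139264) (Steps.bwd (nat_lit 10) Steps.nil))))))) (nat_lit 50) (nat_lit 6),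
  Rule.mk (nat_lit 7) (nat_lit 270) (Steps.bwd (nat_lit 9) (Steps.bwd (nat_lit 4) (Steps.fwd (nat_lit 106496) (Steps.fwd (nat_lit 8192) (Steps.bwd (nat_lit 9) (Steps.bwd (nat_lit 2) (Steps.bwd (nat_lit 9) (Steps.bwd (nat_lit 2) (Steps.bwd (nat_lit 18) (Steps.fwd (nat_lit 139264) (Steps.bwd (nat_lit 10) (Steps.fwd (nat_lit 32768) (Steps.bwd (nat_lit 1) (Steps.fwd (nat_lit 24576) (Steps.fwd (nat_lit 24576) (Steps.bwd (nat_lit 2) Steps.nil)))))))))))))))) (nat_lit 76) (nat_lit 1),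
  Rule.mk (nat_lit 9) (nat_lit 190) (Steps.bwd (nat_lit 12) (Steps.bwd (nat_lit 9) (Steps.fwd (nat_lit 98304) (Steps.bwd (nat_lit 9) (Steps.bwd (nat_lit 12) (Steps.fwd (nat_lit 131072) (Steps.bwd (nat_lit 1) (Steps.bwd (nat_lit 14) (Steps.bwd (nat_lit 1) (Steps.fwd (nat_lit 16384) (Steps.fwd (nat_lit 16384) Steps.nil))))))))))) (nat_lit 74) (nat_lit 1),
  Rule.mk (nat_lit 1) (nat_lit 158) (Steps.fwd (nat_lit 139264) (Steps.fwd (nat_lit 90112) (Steps.fwd (nat_lit 98304) (Steps.bwd (nat_lit 2) (Steps.fwd (nat_lit 24576) (Steps.bwd (nat_lit 4) (Steps.fwd (nat_lit 73728) (Steps.bwd (nat_lit 14) (Steps.bwd (nat_lit 9) Steps.nil))))))))) (nat_lit 62) (nat_lit 4),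
  Rule.mk (nat_lit 1) (nat_lit 158) (Steps.bwd (nat_lit 16) (Steps.fwd (nat_lit 90112) (Steps.fwd (nat_lit 98304) (Steps.fwd (nat_lit 8192) (Steps.bwd (nat_lit 4) (Steps.bwd (nat_lit 4) (Steps.bwd (nat_lit 9) (Steps.fwd (nat_lit 122880) (Steps.fwd (nat_lit 73728) Steps.nil))))))))) (nat_lit 62) (nat_lit 4),
  Rule.mk (nat_lit 1) (nat_lit 94) (Steps.bwd (nat_lit 3) (Steps.bwd (nat_lit 2) (Steps.fwd (nat_lit 8192) (Steps.bwd (nat_lit 4) (Steps.bwd (nat_lit 1) Steps.nil))))) (nat_lit 6) (nat_lit 5),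
  Rule.mk (nat_lit 16) (nat_lit 78) (Steps.bwd (nat_lit 18) (Steps.fwd (nat_lit 114688) (Steps.fwd (nat_lit 131072) (Steps.fwd (nat_lit 122880) Steps.nil)))) (nat_lit 40) (nat_lit 4),
  Rule.mk (nat_lit 1) (nat_lit 142) (Steps.fwd (nat_lit 131072) (Steps.fwd (nat_lit 81920) (Steps.fwd (nat_lit 131072) (Steps.fwd (nat_lit 122880) (Steps.fwd (nat_lit 106496) (Steps.fwd (nat_lit 81920) (Steps.fwd (nat_lit 8192) (Steps.bwd (nat_lit 16) Steps.nil)))))))) (nat_lit 46) (nat_lit 3),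
  Rule.mk (nat_lit 13) (nat_lit 190) (Steps.bwd (nat_lit 9) (Steps.bwd (nat_lit 12) (Steps.bwd (nat_lit 17) (Steps.fwd (nat_lit 16384) (Steps.fwd (nat_lit 122880) (Steps.bwd (nat_lit 1) (Steps.bwd (nat_lit 1) (Steps.fwd (nat_lit 16384) (Steps.bwd (nat_lit 9) (Steps.bwd (nat_lit 12) (Steps.fwd (nat_lit 73728) Steps.nil))))))))))) (nat_lit 74) (nat_lit 4),
  Rule.mk (nat_lit 12) (nat_lit 190) (Steps.bwd (nat_lit 9) (Steps.bwd (nat_lit 13) (Steps.fwd (nat_lit 73728) (Steps.bwd (nat_lit 12) (Steps.bwd (nat_lit 17) (Steps.bwd (nat_lit 1) (Steps.fwd (nat_lit 122880) (Steps.bwd (nat_lit 1) (Steps.bwd (nat_lit 1) (Steps.bwd (nat_lit 1) (Steps.bwd (nat_lit 9) Steps.nil))))))))))) (nat_lit 74) (nat_lit 2),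
  Rule.mk (nat_lit 7) (nat_lit 270) (Steps.bwd (nat_lit 9) (Steps.bwd (nat_lit 4) (Steps.fwd (nat_lit 106496) (Steps.fwd (nat_lit 8192) (Steps.bwd (nat_lit 9) (Steps.bwd (nat_lit 2) (Steps.fwd (nat_lit 73728) (Steps.bwd (nat_lit 2) (Steps.fwd (nat_lit 155648) (Steps.fwd (nat_lit 139264) (Steps.bwd (nat_lit 10) (Steps.fwd (nat_lit 32768) (Steps.bwd (nat_lit 1) (Steps.bwd (nat_lit 4) (Steps.bwd (nat_lit 4) (Steps.bwd (nat_lit 2) Steps.nil)))))))))))))))) (nat_lit 76) (nat_lit 1),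
  Rule.mk (nat_lit 1) (nat_lit 270) (Steps.bwd (nat_lit 9) (Steps.bwd (nat_lit 1) (Steps.fwd (nat_lit 98304) (Steps.fwd (nat_lit 32768) (Steps.bwd (nat_lit 9) (Steps.fwd (nat_lit 57344) (Steps.fwd (nat_lit 16384) (Steps.bwd (nat_lit 3) (Steps.bwd (nat_lit 3) (Steps.bwd (nat_lit 2) (Steps.bwd (nat_lit 4) (Steps.fwd (nat_lit 81920) (Steps.bwd (nat_lit 17) (Steps.fwd (nat_lit 147456) (Steps.bwd (nat_lit 1) (Steps.fwd (nat_lit 73728) Steps.nil)))))))))))))))) (nat_lit 77) (nat_lit 11),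
  Rule.mk (nat_lit 13) (nat_lit 126) (Steps.bwd (nat_lit 4) (Steps.bwd (nat_lit 12) (Steps.fwd (nat_lit 32768) (Steps.fwd (nat_lit 139264) (Steps.fwd (nat_lit 90112) (Steps.fwd (nat_lit 139264) (Steps.fwd (nat_lit 114688) Steps.nil))))))) (nat_lit 50) (nat_lit 0),
  Rule.mk (nat_lit 12) (nat_lit 142) (Steps.bwd (nat_lit 11) (Steps.bwd (nat_lit 2) (Steps.bwd (nat_lit 16) (Steps.fwd (nat_lit 16384) (Steps.bwd (nat_lit 17) (Steps.bwd (nat_lit 11) (Steps.fwd (nat_lit 131072) (Steps.fwd (nat_lit 122880) Steps.nil)))))))) (nat_lit 46) (nat_lit 8),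
  Rule.mk (nat_lit 9) (nat_lit 206) (Steps.bwd (nat_lit 1) (Steps.bwd (nat_lit 3) (Steps.fwd (nat_lit 32768) (Steps.fwd (nat_lit 16384) (Steps.bwd (nat_lit 4) (Steps.bwd (nat_lit 1) (Steps.fwd (nat_lit 90112) (Steps.fwd (nat_lit 155648) (Steps.bwd (nat_lit 17) (Steps.fwd (nat_lit 73728) (Steps.bwd (nat_lit 2) (Steps.fwd (nat_lit 8192) Steps.nil)))))))))))) (nat_lit 69) (nat_lit 0),
  Rule.mk (nat_lit 7) (nat_lit 126) (Steps.bwd (nat_lit 18) (Steps.fwd (nat_lit 65536) (Steps.fwd (nat_lit 147456) (Steps.fwd (nat_lit 65536) (Steps.fwd (nat_lit 155648) (Steps.bwd (nat_lit 2) (Steps.fwd (nat_lit 8192) Steps.nil))))))) (nat_lit 86) (nat_lit 1),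
  Rule.mk (nat_lit 7) (nat_lit 126) (Steps.fwd (nat_lit 155648) (Steps.fwd (nat_lit 65536) (Steps.fwd (nat_lit 147456) (Steps.fwd (nat_lit 65536) (Steps.bwd (nat_lit 18) (Steps.bwd (nat_lit 2) (Steps.bwd (nat_lit 2) Steps.nil))))))) (nat_lit 86) (nat_lit 1),
  Rule.mk (nat_lit 18) (nat_lit 126) (Steps.bwd (nat_lit 7) (Steps.bwd (nat_lit 19) (Steps.bwd (nat_lit 7) (Steps.bwd (nat_lit 18) (Steps.fwd (nat_lit 8192) (Steps.fwd (nat_lit 8192) (Steps.fwd (nat_lit 65536) Steps.nil))))))) (nat_lit 86) (nat_lit 2),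
  Rule.mk (nat_lit 15) (nat_lit 110) (Steps.bwd (nat_lit 10) (Steps.fwd (nat_lit 139264) (Steps.fwd (nat_lit 8192) (Steps.fwd (nat_lit 114688) (Steps.fwd (nat_lit 16384) (Steps.bwd (nat_lit 15) Steps.nil)))))) (nat_lit 45) (nat_lit 2),
  Rule.mk (nat_lit 14) (nat_lit 110) (Steps.bwd (nat_lit 2) (Steps.fwd (nat_lit 122880) (Steps.fwd (nat_lit 16384) (Steps.fwd (nat_lit 131072) (Steps.fwd (nat_lit 81920) (Steps.fwd (nat_lit 122880) Steps.nil)))))) (nat_lit 44) (nat_lit 0),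
  Rule.mk (nat_lit 9) (nat_lit 158) (Steps.fwd (nat_lit 16384) (Steps.bwd (nat_lit 16) (Steps.bwd (nat_lit 10) (Steps.fwd (nat_lit 98304) (Steps.bwd (nat_lit 2) (Steps.fwd (nat_lit 24576) (Steps.bwd (nat_lit 4) (Steps.bwd (nat_lit 9) (Steps.bwd (nat_lit 14) Steps.nil))))))))) (nat_lit 62) (nat_lit 3),
  Rule.mk (nat_lit 16) (nat_lit 190) (Steps.bwd (nat_lit 13) (Steps.bwd (nat_lit 9) (Steps.bwd (nat_lit 12) (Steps.fwd (nat_lit 73728) (Steps.fwd (nat_lit 98304) (Steps.bwd (nat_lit 9) (Steps.bwd (nat_lit 2) (Steps.bwd (nat_lit 2) (Steps.fwd (nat_lit 8192) (Steps.fwd (nat_lit 114688) (Steps.bwd (nat_lit 2) Steps.nil))))))))))) (nat_lit 75) (nat_lit 6),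
  Rule.mk (nat_lit 8) (nat_lit 158) (Steps.fwd (nat_lit 147456) (Steps.fwd (nat_lit 57344) (Steps.fwd (nat_lit 147456) (Steps.bwd (nat_lit 8) (Steps.bwd (nat_lit 19) (Steps.fwd (nat_lit 57344) (Steps.fwd (nat_lit 147456) (Steps.fwd (nat_lit 57344) (Steps.bwd (nat_lit 19) Steps.nil))))))))) (nat_lit 85) (nat_lit 0),
  Rule.mk (nat_lit 10) (nat_lit 94) (Steps.bwd (nat_lit 18) (Steps.fwd (nat_lit 155648) (Steps.bwd (nat_lit 17) (Steps.bwd (nat_lit 11) (Steps.fwd (nat_lit 139264) Steps.nil))))) (nat_lit 35) (nat_lit 0),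
  Rule.mk (nat_lit 4) (nat_lit 110) (Steps.fwd (nat_lit 114688) (Steps.bwd (nat_lit 4) (Steps.bwd (nat_lit 9) (Steps.fwd (nat_lit 90112) (Steps.bwd (nat_lit 9) (Steps.bwd (nat_lit 10) Steps.nil)))))) (nat_lit 60) (nat_lit 5),
  Rule.mk (nat_lit 15) (nat_lit 126) (Steps.bwd (nat_lit 15) (Steps.bwd (nat_lit 4) (Steps.fwd (nat_lit 114688) (Steps.bwd (nat_lit 3) (Steps.bwd (nat_lit 10) (Steps.bwd (nat_lit 10) (Steps.fwd (nat_lit 139264) Steps.nil))))))) (nat_lit 53) (nat_lit 4),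
  Rule.mk (nat_lit 16) (nat_lit 142) (Steps.bwd (nat_lit 10) (Steps.fwd (nat_lit 139264) (Steps.bwd (nat_lit 2) (Steps.bwd (nat_lit 17) (Steps.fwd (nat_lit 16384) (Steps.bwd (nat_lit 10) (Steps.fwd (nat_lit 98304) (Steps.bwd (nat_lit 15) Steps.nil)))))))) (nat_lit 47) (nat_lit 4),
  Rule.mk (nat_lit 1) (nat_lit 158) (Steps.bwd (nat_lit 16) (Steps.bwd (nat_lit 10) (Steps.fwd (nat_lit 98304) (Steps.fwd (nat_lit 8192) (Steps.bwd (nat_lit 4) (Steps.bwd (nat_lit 4) (Steps.bwd (nat_lit 9) (Steps.fwd (nat_lit 122880) (Steps.bwd (nat_lit 9) Steps.nil))))))))) (nat_lit 62) (nat_lit 4),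
  Rule.mk (nat_lit 2) (nat_lit 190) (Steps.bwd (nat_lit 16) (Steps.bwd (nat_lit 13) (Steps.fwd (nat_lit 73728) (Steps.fwd (nat_lit 106496) (Steps.fwd (nat_lit 73728) (Steps.bwd (nat_lit 13) (Steps.fwd (nat_lit 73728) (Steps.bwd (nat_lit 2) (Steps.bwd (nat_lit 2) (Steps.fwd (nat_lit 8192) (Steps.bwd (nat_lit 15) Steps.nil))))))))))) (nat_lit 75) (nat_lit 5),
  Rule.mk (nat_lit 11) (nat_lit 126) (Steps.bwd (nat_lit 4) (Steps.fwd (nat_lit 122880) (Steps.fwd (nat_lit 32768) (Steps.fwd (nat_lit 122880) (Steps.bwd (nat_lit 14) (Steps.fwd (nat_lit 131072) (Steps.bwd (nat_lit 11) Steps.nil))))))) (nat_lit 52) (nat_lit 0),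
  Rule.mk (nat_lit 17) (nat_lit 142) (Steps.fwd (nat_lit 122880) (Steps.bwd (nat_lit 12) (Steps.bwd (nat_lit 11) (Steps.fwd (nat_lit 8192) (Steps.bwd (nat_lit 16) (Steps.fwd (nat_lit 16384) (Steps.bwd (nat_lit 17) (Steps.bwd (nat_lit 11) Steps.nil)))))))) (nat_lit 46) (nat_lit 6),
  Rule.mk (nat_lit 17) (nat_lit 110) (Steps.bwd (nat_lit 17) (Steps.fwd (nat_lit 73728) (Steps.fwd (nat_lit 24576) (Steps.fwd (nat_lit 73728) (Steps.fwd (nat_lit 90112) (Steps.bwd (nat_lit 15) Steps.nil)))))) (nat_lit 71) (nat_lit 3),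
  Rule.mk (nat_lit 7) (nat_lit 126) (Steps.bwd (nat_lit 18) (Steps.bwd (nat_lit 2) (Steps.fwd (nat_lit 8192) (Steps.fwd (nat_lit 65536) (Steps.fwd (nat_lit 155648) (Steps.fwd (nat_lit 65536) (Steps.fwd (nat_lit 147456) Steps.nil))))))) (nat_lit 86) (nat_lit 5),
  Rule.mk (nat_lit 2) (nat_lit 270) (Steps.bwd (nat_lit 18) (Steps.fwd (nat_lit 139264) (Steps.fwd (nat_lit 90112) (Steps.bwd (nat_lit 3) (Steps.fwd (nat_lit 16384) (Steps.bwd (nat_lit 4) (Steps.fwd (nat_lit 24576) (Steps.fwd (nat_lit 8192) (Steps.bwd (nat_lit 7) (Steps.bwd (nat_lit 9) (Steps.bwd (nat_lit 4) (Steps.fwd (nat_lit 106496) (Steps.fwd (nat_lit 8192) (Steps.bwd (nat_lit 9) (Steps.bwd (nat_lit 2) (Steps.fwd (nat_lit 73728) Steps.nil)))))))))))))))) (nat_lit 76) (nat_lit 9)]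
noncomputable def R_96 : List (Rule) := [Rule.mk (nat_lit 16) (nat_lit 110) (Steps.bwd (nat_lit 9) (Steps.bwd (nat_lit 17) (Steps.bwd (nat_lit 9) (Steps.bwd (nat_lit 3) (Steps.fwd (nat_lit 32768) (Steps.bwd (nat_lit 15) Steps.nil)))))) (nat_lit 65) (nat_lit 4),
  Rule.mk (nat_lit 17) (nat_lit 110) (Steps.fwd (nat_lit 131072) (Steps.bwd (nat_lit 9) (Steps.bwd (nat_lit 4) (Steps.bwd (nat_lit 9) (Steps.fwd (nat_lit 90112) (Steps.bwd (nat_lit 15) Steps.nil)))))) (nat_lit 71) (nat_lit 3),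
  Rule.mk (nat_lit 9) (nat_lit 158) (Steps.bwd (nat_lit 3) (Steps.bwd (nat_lit 3) (Steps.bwd (nat_lit 1) (Steps.bwd (nat_lit 12) (Steps.fwd (nat_lit 81920) (Steps.bwd (nat_lit 17) (Steps.bwd (nat_lit 2) (Steps.fwd (nat_lit 73728) (Steps.bwd (nat_lit 15) Steps.nil))))))))) (nat_lit 63) (nat_lit 0),
  Rule.mk (nat_lit 8) (nat_lit 126) (Steps.fwd (nat_lit 155648) (Steps.bwd (nat_lit 8) (Steps.bwd (nat_lit 19) (Steps.fwd (nat_lit 57344) (Steps.fwd (nat_lit 16384) (Steps.fwd (nat_lit 16384) (Steps.bwd (nat_lit 19) Steps.nil))))))) (nat_lit 87) (nat_lit 4),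
  Rule.mk (nat_lit 18) (nat_lit 126) (Steps.bwd (nat_lit 2) (Steps.fwd (nat_lit 8192) (Steps.fwd (nat_lit 65536) (Steps.fwd (nat_lit 155648) (Steps.bwd (nat_lit 7) (Steps.fwd (nat_lit 147456) (Steps.bwd (nat_lit 7) Steps.nil))))))) (nat_lit 86) (nat_lit 6),
  Rule.mk (nat_lit 12) (nat_lit 270) (Steps.bwd (nat_lit 2) (Steps.bwd (nat_lit 9) (Steps.fwd (nat_lit 8192) (Steps.fwd (nat_lit 73728) (Steps.bwd (nat_lit 2) (Steps.fwd (nat_lit 155648) (Steps.bwd (nat_lit 16) (Steps.bwd (nat_lit 10) (Steps.fwd (nat_lit 32768) (Steps.fwd (nat_lit 16384) (Steps.fwd (nat_lit 24576) (Steps.bwd (nat_lit 4) (Steps.fwd (nat_lit 8192) (Steps.bwd (nat_lit 7) (Steps.fwd (nat_lit 73728) (Steps.fwd (nat_lit 24576) Steps.nil)))))))))))))))) (nat_lit 76) (nat_lit 4),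
  Rule.mk (nat_lit 15) (nat_lit 78) (Steps.fwd (nat_lit 131072) (Steps.fwd (nat_lit 122880) (Steps.fwd (nat_lit 139264) (Steps.bwd (nat_lit 18) Steps.nil)))) (nat_lit 40) (nat_lit 1),
  Rule.mk (nat_lit 15) (nat_lit 94) (Steps.bwd (nat_lit 10) (Steps.fwd (nat_lit 122880) (Steps.bwd (nat_lit 18) (Steps.fwd (nat_lit 155648) (Steps.fwd (nat_lit 81920) Steps.nil))))) (nat_lit 32) (nat_lit 2),
  Rule.mk (nat_lit 15) (nat_lit 110) (Steps.bwd (nat_lit 16) (Steps.fwd (nat_lit 73728) (Steps.bwd (nat_lit 17) (Steps.fwd (nat_lit 73728) (Steps.bwd (nat_lit 3) (Steps.bwd (nat_lit 3) Steps.nil)))))) (nat_lit 65) (nat_lit 3),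
  Rule.mk (nat_lit 16) (nat_lit 126) (Steps.bwd (nat_lit 10) (Steps.bwd (nat_lit 16) (Steps.bwd (nat_lit 15) (Steps.fwd (nat_lit 98304) (Steps.bwd (nat_lit 4) (Steps.bwd (nat_lit 12) (Steps.bwd (nat_lit 3) Steps.nil))))))) (nat_lit 50) (nat_lit 4),
  Rule.mk (nat_lit 4) (nat_lit 126) (Steps.bwd (nat_lit 14) (Steps.bwd (nat_lit 3) (Steps.bwd (nat_lit 14) (Steps.bwd (nat_lit 14) (Steps.fwd (nat_lit 131072) (Steps.bwd (nat_lit 11) (Steps.bwd (nat_lit 11) Steps.nil))))))) (nat_lit 52) (nat_lit 1),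
  Rule.mk (nat_lit 14) (nat_lit 110) (Steps.bwd (nat_lit 4) (Steps.fwd (nat_lit 24576) (Steps.bwd (nat_lit 9) (Steps.bwd (nat_lit 16) (Steps.bwd (nat_lit 9) (Steps.fwd (nat_lit 131072) Steps.nil)))))) (nat_lit 64) (nat_lit 5),
  Rule.mk (nat_lit 17) (nat_lit 142) (Steps.bwd (nat_lit 1) (Steps.fwd (nat_lit 90112) (Steps.bwd (nat_lit 13) (Steps.fwd (nat_lit 114688) (Steps.bwd (nat_lit 16) (Steps.fwd (nat_lit 90112) (Steps.fwd (nat_lit 139264) (Steps.bwd (nat_lit 2) Steps.nil)))))))) (nat_lit 47) (nat_lit 8),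
  Rule.mk (nat_lit 2) (nat_lit 110) (Steps.bwd (nat_lit 15) (Steps.fwd (nat_lit 16384) (Steps.bwd (nat_lit 15) (Steps.bwd (nat_lit 15) (Steps.fwd (nat_lit 90112) (Steps.bwd (nat_lit 16) Steps.nil)))))) (nat_lit 45) (nat_lit 5),
  Rule.mk (nat_lit 3) (nat_lit 110) (Steps.bwd (nat_lit 3) (Steps.fwd (nat_lit 114688) (Steps.bwd (nat_lit 16) (Steps.fwd (nat_lit 73728) (Steps.fwd (nat_lit 131072) (Steps.bwd (nat_lit 9) Steps.nil)))))) (nat_lit 65) (nat_lit 1),
  Rule.mk (nat_lit 8) (nat_lit 126) (Steps.fwd (nat_lit 155648) (Steps.bwd (nat_lit 8) (Steps.bwd (nat_lit 19) (Steps.bwd (nat_lit 8) (Steps.fwd (nat_lit 16384) (Steps.bwd (nat_lit 1) (Steps.bwd (nat_lit 19) Steps.nil))))))) (nat_lit 87) (nat_lit 4),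
  Rule.mk (nat_lit 9) (nat_lit 158) (Steps.bwd (nat_lit 1) (Steps.fwd (nat_lit 139264) (Steps.bwd (nat_lit 10) (Steps.fwd (nat_lit 98304) (Steps.fwd (nat_lit 8192) (Steps.bwd (nat_lit 4) (Steps.fwd (nat_lit 24576) (Steps.fwd (nat_lit 73728) (Steps.fwd (nat_lit 122880) Steps.nil))))))))) (nat_lit 62) (nat_lit 3),
  Rule.mk (nat_lit 3) (nat_lit 158) (Steps.bwd (nat_lit 1) (Steps.bwd (nat_lit 12) (Steps.fwd (nat_lit 81920) (Steps.fwd (nat_lit 131072) (Steps.bwd (nat_lit 2) (Steps.bwd (nat_lit 9) (Steps.fwd (nat_lit 114688) (Steps.bwd (nat_lit 9) (Steps.bwd (nat_lit 3) Steps.nil))))))))) (nat_lit 63) (nat_lit 2),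
  Rule.mk (nat_lit 1) (nat_lit 190) (Steps.bwd (nat_lit 1) (Steps.fwd (nat_lit 73728) (Steps.bwd (nat_lit 12) (Steps.fwd (nat_lit 73728) (Steps.bwd (nat_lit 13) (Steps.fwd (nat_lit 73728) (Steps.bwd (nat_lit 12) (Steps.fwd (nat_lit 131072) (Steps.fwd (nat_lit 16384) (Steps.bwd (nat_lit 14) (Steps.bwd (nat_lit 1) Steps.nil))))))))))) (nat_lit 74) (nat_lit 11),
  Rule.mk (nat_lit 17) (nat_lit 190) (Steps.bwd (nat_lit 1) (Steps.fwd (nat_lit 122880) (Steps.fwd (nat_lit 16384) (Steps.fwd (nat_lit 16384) (Steps.bwd (nat_lit 1) (Steps.fwd (nat_lit 73728) (Steps.fwd (nat_lit 106496) (Steps.bwd (nat_lit 9) (Steps.fwd (nat_lit 98304) (Steps.fwd (nat_lit 73728) (Steps.bwd (nat_lit 12) Steps.nil))))))))))) (nat_lit 74) (nat_lit 7),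
  Rule.mk (nat_lit 4) (nat_lit 206) (Steps.bwd (nat_lit 1) (Steps.fwd (nat_lit 73728) (Steps.fwd (nat_lit 139264) (Steps.fwd (nat_lit 147456) (Steps.bwd (nat_lit 11) (Steps.fwd (nat_lit 8192) (Steps.fwd (nat_lit 8192) (Steps.fwd (nat_lit 73728) (Steps.bwd (nat_lit 1) (Steps.fwd (nat_lit 32768) (Steps.bwd (nat_lit 3) (Steps.bwd (nat_lit 1) Steps.nil)))))))))))) (nat_lit 72) (nat_lit 6),
  Rule.mk (nat_lit 14) (nat_lit 110) (Steps.fwd (nat_lit 24576) (Steps.bwd (nat_lit 4) (Steps.bwd (nat_lit 9) (Steps.bwd (nat_lit 16) (Steps.bwd (nat_lit 9) (Steps.bwd (nat_lit 17) Steps.nil)))))) (nat_lit 64) (nat_lit 5),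
  Rule.mk (nat_lit 11) (nat_lit 110) (Steps.bwd (nat_lit 14) (Steps.fwd (nat_lit 81920) (Steps.bwd (nat_lit 9) (Steps.fwd (nat_lit 155648) (Steps.bwd (nat_lit 9) (Steps.fwd (nat_lit 139264) Steps.nil)))))) (nat_lit 66) (nat_lit 5),
  Rule.mk (nat_lit 17) (nat_lit 158) (Steps.fwd (nat_lit 8192) (Steps.fwd (nat_lit 73728) (Steps.bwd (nat_lit 15) (Steps.fwd (nat_lit 73728) (Steps.bwd (nat_lit 3) (Steps.fwd (nat_lit 32768) (Steps.bwd (nat_lit 1) (Steps.bwd (nat_lit 12) (Steps.bwd (nat_lit 11) Steps.nil))))))))) (nat_lit 63) (nat_lit 6),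
  Rule.mk (nat_lit 16) (nat_lit 110) (Steps.bwd (nat_lit 2) (Steps.bwd (nat_lit 15) (Steps.bwd (nat_lit 1) (Steps.bwd (nat_lit 15) (Steps.bwd (nat_lit 15) (Steps.fwd (nat_lit 90112) Steps.nil)))))) (nat_lit 45) (nat_lit 4),
  Rule.mk (nat_lit 15) (nat_lit 190) (Steps.bwd (nat_lit 2) (Steps.fwd (nat_lit 139264) (Steps.fwd (nat_lit 98304) (Steps.fwd (nat_lit 73728) (Steps.fwd (nat_lit 106496) (Steps.bwd (nat_lit 9) (Steps.fwd (nat_lit 98304) (Steps.fwd (nat_lit 73728) (Steps.fwd (nat_lit 8192) (Steps.bwd (nat_lit 2) (Steps.fwd (nat_lit 8192) Steps.nil))))))))))) (nat_lit 75) (nat_lit 4),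
  Rule.mk (nat_lit 9) (nat_lit 206) (Steps.bwd (nat_lit 2) (Steps.fwd (nat_lit 8192) (Steps.fwd (nat_lit 73728) (Steps.fwd (nat_lit 16384) (Steps.fwd (nat_lit 32768) (Steps.bwd (nat_lit 3) (Steps.bwd (nat_lit 1) (Steps.fwd (nat_lit 24576) (Steps.fwd (nat_lit 16384) (Steps.bwd (nat_lit 10) (Steps.fwd (nat_lit 155648) (Steps.bwd (nat_lit 17) Steps.nil)))))))))))) (nat_lit 69) (nat_lit 10),
  Rule.mk (nat_lit 16) (nat_lit 110) (Steps.fwd (nat_lit 81920) (Steps.fwd (nat_lit 122880) (Steps.bwd (nat_lit 11) (Steps.fwd (nat_lit 73728) (Steps.bwd (nat_lit 18) (Steps.bwd (nat_lit 9) Steps.nil)))))) (nat_lit 66) (nat_lit 4),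
  Rule.mk (nat_lit 15) (nat_lit 110) (Steps.fwd (nat_lit 16384) (Steps.fwd (nat_lit 114688) (Steps.fwd (nat_lit 114688) (Steps.fwd (nat_lit 90112) (Steps.bwd (nat_lit 16) (Steps.bwd (nat_lit 2) Steps.nil)))))) (nat_lit 45) (nat_lit 6),
  Rule.mk (nat_lit 10) (nat_lit 286) (Steps.bwd (nat_lit 1) (Steps.fwd (nat_lit 32768) (Steps.fwd (nat_lit 32768) (Steps.bwd (nat_lit 9) (Steps.bwd (nat_lit 8) (Steps.fwd (nat_lit 81920) (Steps.fwd (nat_lit 57344) (Steps.bwd (nat_lit 3) (Steps.bwd (nat_lit 2) (Steps.bwd (nat_lit 4) (Steps.bwd (nat_lit 11) (Steps.fwd (nat_lit 57344) (Steps.bwd (nat_lit 2) (Steps.fwd (nat_lit 81920) (Steps.bwd (nat_lit 1) (Steps.bwd (nat_lit 11) (Steps.bwd (nat_lit 2) Steps.nil))))))))))))))))) (nat_lit 56) (nat_lit 15),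
  Rule.mk (nat_lit 9) (nat_lit 110) (Steps.bwd (nat_lit 10) (Steps.fwd (nat_lit 114688) (Steps.bwd (nat_lit 10) (Steps.bwd (nat_lit 17) (Steps.bwd (nat_lit 9) (Steps.bwd (nat_lit 19) Steps.nil)))))) (nat_lit 67) (nat_lit 0),
  Rule.mk (nat_lit 16) (nat_lit 126) (Steps.bwd (nat_lit 10) (Steps.fwd (nat_lit 139264) (Steps.bwd (nat_lit 15) (Steps.bwd (nat_lit 13) (Steps.fwd (nat_lit 24576) (Steps.fwd (nat_lit 106496) (Steps.bwd (nat_lit 3) Steps.nil))))))) (nat_lit 50) (nat_lit 4),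
  Rule.mk (nat_lit 8) (nat_lit 94) (Steps.fwd (nat_lit 8192) (Steps.fwd (nat_lit 65536) (Steps.fwd (nat_lit 16384) (Steps.bwd (nat_lit 1) (Steps.bwd (nat_lit 1) Steps.nil))))) (nat_lit 83) (nat_lit 4),
  Rule.mk (nat_lit 8) (nat_lit 158) (Steps.bwd (nat_lit 19) (Steps.fwd (nat_lit 57344) (Steps.bwd (nat_lit 19) (Steps.bwd (nat_lit 8) (Steps.fwd (nat_lit 147456) (Steps.fwd (nat_lit 57344) (Steps.bwd (nat_lit 19) (Steps.bwd (nat_lit 8) (Steps.bwd (nat_lit 19) Steps.nil))))))))) (nat_lit 85) (nat_lit 0),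
  Rule.mk (nat_lit 14) (nat_lit 158) (Steps.bwd (nat_lit 9) (Steps.bwd (nat_lit 1) (Steps.fwd (nat_lit 139264) (Steps.bwd (nat_lit 10) (Steps.bwd (nat_lit 13) (Steps.fwd (nat_lit 8192) (Steps.bwd (nat_lit 4) (Steps.fwd (nat_lit 24576) (Steps.fwd (nat_lit 73728) Steps.nil))))))))) (nat_lit 62) (nat_lit 2),
  Rule.mk (nat_lit 2) (nat_lit 158) (Steps.bwd (nat_lit 9) (Steps.bwd (nat_lit 15) (Steps.bwd (nat_lit 9) (Steps.fwd (nat_lit 32768) (Steps.fwd (nat_lit 32768) (Steps.fwd (nat_lit 16384) (Steps.fwd (nat_lit 106496) (Steps.fwd (nat_lit 81920) (Steps.bwd (nat_lit 17) Steps.nil))))))))) (nat_lit 63) (nat_lit 7),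
  Rule.mk (nat_lit 13) (nat_lit 190) (Steps.bwd (nat_lit 9) (Steps.bwd (nat_lit 2) (Steps.fwd (nat_lit 8192) (Steps.fwd (nat_lit 8192) (Steps.fwd (nat_lit 114688) (Steps.bwd (nat_lit 2) (Steps.fwd (nat_lit 139264) (Steps.bwd (nat_lit 13) (Steps.bwd (nat_lit 9) (Steps.fwd (nat_lit 106496) (Steps.fwd (nat_lit 73728) Steps.nil))))))))))) (nat_lit 75) (nat_lit 11),
  Rule.mk (nat_lit 1) (nat_lit 206) (Steps.bwd (nat_lit 9) (Steps.bwd (nat_lit 16) (Steps.bwd (nat_lit 19) (Steps.bwd (nat_lit 11) (Steps.bwd (nat_lit 2) (Steps.bwd (nat_lit 3) (Steps.bwd (nat_lit 2) (Steps.bwd (nat_lit 4) (Steps.bwd (nat_lit 4) (Steps.fwd (nat_lit 8192) (Steps.fwd (nat_lit 73728) (Steps.fwd (nat_lit 16384) Steps.nil)))))))))))) (nat_lit 68) (nat_lit 3),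
  Rule.mk (nat_lit 7) (nat_lit 286) (Steps.bwd (nat_lit 9) (Steps.bwd (nat_lit 4) (Steps.bwd (nat_lit 4) (Steps.bwd (nat_lit 2) (Steps.bwd (nat_lit 11) (Steps.bwd (nat_lit 1) (Steps.bwd (nat_lit 10) (Steps.fwd (nat_lit 8192) (Steps.fwd (nat_lit 90112) (Steps.fwd (nat_lit 16384) (Steps.bwd (nat_lit 7) (Steps.fwd (nat_lit 90112) (Steps.fwd (nat_lit 32768) (Steps.fwd (nat_lit 16384) (Steps.fwd (nat_lit 24576) (Steps.fwd (nat_lit 65536) (Steps.bwd (nat_lit 10) Steps.nil))))))))))))))))) (nat_lit 57) (nat_lit 17),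
  Rule.mk (nat_lit 15) (nat_lit 110) (Steps.bwd (nat_lit 15) (Steps.fwd (nat_lit 90112) (Steps.bwd (nat_lit 16) (Steps.fwd (nat_lit 8192) (Steps.fwd (nat_lit 114688) (Steps.fwd (nat_lit 16384) Steps.nil)))))) (nat_lit 45) (nat_lit 1),
  Rule.mk (nat_lit 4) (nat_lit 126) (Steps.bwd (nat_lit 15) (Steps.fwd (nat_lit 32768) (Steps.bwd (nat_lit 10) (Steps.bwd (nat_lit 10) (Steps.fwd (nat_lit 139264) (Steps.bwd (nat_lit 15) (Steps.fwd (nat_lit 114688) Steps.nil))))))) (nat_lit 53) (nat_lit 6),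
  Rule.mk (nat_lit 16) (nat_lit 126) (Steps.bwd (nat_lit 15) (Steps.bwd (nat_lit 15) (Steps.bwd (nat_lit 4) (Steps.fwd (nat_lit 114688) (Steps.bwd (nat_lit 3) (Steps.fwd (nat_lit 90112) (Steps.fwd (nat_lit 90112) Steps.nil))))))) (nat_lit 53) (nat_lit 3),
  Rule.mk (nat_lit 9) (nat_lit 110) (Steps.bwd (nat_lit 17) (Steps.fwd (nat_lit 73728) (Steps.fwd (nat_lit 32768) (Steps.bwd (nat_lit 3) (Steps.fwd (nat_lit 114688) (Steps.bwd (nat_lit 16) Steps.nil)))))) (nat_lit 65) (nat_lit 5),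
  Rule.mk (nat_lit 1) (nat_lit 142) (Steps.bwd (nat_lit 17) (Steps.fwd (nat_lit 81920) (Steps.bwd (nat_lit 17) (Steps.fwd (nat_lit 122880) (Steps.bwd (nat_lit 12) (Steps.fwd (nat_lit 81920) (Steps.fwd (nat_lit 8192) (Steps.bwd (nat_lit 16) Steps.nil)))))))) (nat_lit 46) (nat_lit 3),
  Rule.mk (nat_lit 8) (nat_lit 126) (Steps.fwd (nat_lit 155648) (Steps.bwd (nat_lit 8) (Steps.fwd (nat_lit 147456) (Steps.fwd (nat_lit 57344) (Steps.bwd (nat_lit 1) (Steps.bwd (nat_lit 1) (Steps.bwd (nat_lit 19) Steps.nil))))))) (nat_lit 87) (nat_lit 4),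
  Rule.mk (nat_lit 1) (nat_lit 126) (Steps.bwd (nat_lit 3) (Steps.fwd (nat_lit 16384) (Steps.bwd (nat_lit 3) (Steps.fwd (nat_lit 16384) (Steps.bwd (nat_lit 3) (Steps.bwd (nat_lit 1) (Steps.bwd (nat_lit 3) Steps.nil))))))) (nat_lit 4) (nat_lit 1),
  Rule.mk (nat_lit 10) (nat_lit 142) (Steps.bwd (nat_lit 13) (Steps.bwd (nat_lit 15) (Steps.fwd (nat_lit 139264) (Steps.bwd (nat_lit 10) (Steps.fwd (nat_lit 139264) (Steps.fwd (nat_lit 8192) (Steps.bwd (nat_lit 17) (Steps.bwd (nat_lit 1) Steps.nil)))))))) (nat_lit 47) (nat_lit 1),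
  Rule.mk (nat_lit 1) (nat_lit 190) (Steps.bwd (nat_lit 14) (Steps.bwd (nat_lit 1) (Steps.bwd (nat_lit 1) (Steps.fwd (nat_lit 16384) (Steps.fwd (nat_lit 73728) (Steps.fwd (nat_lit 106496) (Steps.fwd (nat_lit 73728) (Steps.fwd (nat_lit 98304) (Steps.bwd (nat_lit 9) (Steps.fwd (nat_lit 106496) (Steps.fwd (nat_lit 131072) Steps.nil))))))))))) (nat_lit 74) (nat_lit 8),
  Rule.mk (nat_lit 18) (nat_lit 110) (Steps.bwd (nat_lit 9) (Steps.bwd (nat_lit 16) (Steps.bwd (nat_lit 11) (Steps.bwd (nat_lit 14) (Steps.bwd (nat_lit 11) (Steps.bwd (nat_lit 9) Steps.nil)))))) (nat_lit 66) (nat_lit 2),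
  Rule.mk (nat_lit 14) (nat_lit 158) (Steps.bwd (nat_lit 9) (Steps.fwd (nat_lit 16384) (Steps.fwd (nat_lit 139264) (Steps.bwd (nat_lit 10) (Steps.bwd (nat_lit 13) (Steps.fwd (nat_lit 8192) (Steps.bwd (nat_lit 4) (Steps.bwd (nat_lit 4) (Steps.fwd (nat_lit 73728) Steps.nil))))))))) (nat_lit 62) (nat_lit 2),
  Rule.mk (nat_lit 2) (nat_lit 158) (Steps.bwd (nat_lit 9) (Steps.fwd (nat_lit 114688) (Steps.fwd (nat_lit 73728) (Steps.fwd (nat_lit 32768) (Steps.fwd (nat_lit 32768) (Steps.fwd (nat_lit 16384) (Steps.bwd (nat_lit 12) (Steps.bwd (nat_lit 11) (Steps.bwd (nat_lit 17) Steps.nil))))))))) (nat_lit 63) (nat_lit 7),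
  Rule.mk (nat_lit 1) (nat_lit 270) (Steps.bwd (nat_lit 9) (Steps.fwd (nat_lit 16384) (Steps.bwd (nat_lit 13) (Steps.fwd (nat_lit 32768) (Steps.fwd (nat_lit 73728) (Steps.bwd (nat_lit 8) (Steps.bwd (nat_lit 1) (Steps.fwd (nat_lit 32768) (Steps.fwd (nat_lit 32768) (Steps.bwd (nat_lit 2) (Steps.bwd (nat_lit 4) (Steps.fwd (nat_lit 81920) (Steps.fwd (nat_lit 131072) (Steps.bwd (nat_lit 19) (Steps.fwd (nat_lit 16384) (Steps.bwd (nat_lit 9) Steps.nil)))))))))))))))) (nat_lit 77) (nat_lit 11),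
  Rule.mk (nat_lit 17) (nat_lit 126) (Steps.bwd (nat_lit 4) (Steps.bwd (nat_lit 13) (Steps.fwd (nat_lit 32768) (Steps.fwd (nat_lit 106496) (Steps.fwd (nat_lit 122880) (Steps.bwd (nat_lit 17) (Steps.fwd (nat_lit 81920) Steps.nil))))))) (nat_lit 51) (nat_lit 5),
  Rule.mk (nat_lit 4) (nat_lit 126) (Steps.bwd (nat_lit 13) (Steps.bwd (nat_lit 3) (Steps.bwd (nat_lit 12) (Steps.bwd (nat_lit 14) (Steps.bwd (nat_lit 17) (Steps.bwd (nat_lit 11) (Steps.fwd (nat_lit 131072) Steps.nil))))))) (nat_lit 51) (nat_lit 6),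
  Rule.mk (nat_lit 9) (nat_lit 110) (Steps.fwd (nat_lit 90112) (Steps.bwd (nat_lit 9) (Steps.bwd (nat_lit 10) (Steps.fwd (nat_lit 24576) (Steps.bwd (nat_lit 15) (Steps.bwd (nat_lit 4) Steps.nil)))))) (nat_lit 60) (nat_lit 1),
  Rule.mk (nat_lit 12) (nat_lit 126) (Steps.bwd (nat_lit 3) (Steps.fwd (nat_lit 139264) (Steps.bwd (nat_lit 10) (Steps.fwd (nat_lit 139264) (Steps.bwd (nat_lit 15) (Steps.bwd (nat_lit 13) (Steps.bwd (nat_lit 4) Steps.nil))))))) (nat_lit 50) (nat_lit 2),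
  Rule.mk (nat_lit 7) (nat_lit 126) (Steps.bwd (nat_lit 18) (Steps.fwd (nat_lit 8192) (Steps.fwd (nat_lit 8192) (Steps.bwd (nat_lit 7) (Steps.fwd (nat_lit 155648) (Steps.fwd (nat_lit 65536) (Steps.bwd (nat_lit 19) Steps.nil))))))) (nat_lit 86) (nat_lit 5),
  Rule.mk (nat_lit 10) (nat_lit 206) (Steps.bwd (nat_lit 18) (Steps.bwd (nat_lit 17) (Steps.fwd (nat_lit 73728) (Steps.bwd (nat_lit 2) (Steps.fwd (nat_lit 8192) (Steps.bwd (nat_lit 9) (Steps.bwd (nat_lit 1) (Steps.fwd (nat_lit 32768) (Steps.bwd (nat_lit 3) (Steps.bwd (nat_lit 1) (Steps.fwd (nat_lit 24576) (Steps.bwd (nat_lit 1) Steps.nil)))))))))))) (nat_lit 69) (nat_lit 7),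
  Rule.mk (nat_lit 2) (nat_lit 126) (Steps.fwd (nat_lit 8192) (Steps.fwd (nat_lit 65536) (Steps.bwd (nat_lit 18) (Steps.fwd (nat_lit 65536) (Steps.bwd (nat_lit 19) (Steps.bwd (nat_lit 7) (Steps.bwd (nat_lit 18) Steps.nil))))))) (nat_lit 86) (nat_lit 7),
  Rule.mk (nat_lit 7) (nat_lit 126) (Steps.fwd (nat_lit 147456) (Steps.bwd (nat_lit 7) (Steps.fwd (nat_lit 155648) (Steps.bwd (nat_lit 2) (Steps.fwd (nat_lit 8192) (Steps.bwd (nat_lit 7) (Steps.bwd (nat_lit 18) Steps.nil))))))) (nat_lit 86) (nat_lit 3),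
  Rule.mk (nat_lit 17) (nat_lit 110) (Steps.bwd (nat_lit 17) (Steps.bwd (nat_lit 9) (Steps.bwd (nat_lit 4) (Steps.bwd (nat_lit 9) (Steps.fwd (nat_lit 90112) (Steps.bwd (nat_lit 15) Steps.nil)))))) (nat_lit 71) (nat_lit 3),
  Rule.mk (nat_lit 4) (nat_lit 206) (Steps.bwd (nat_lit 4) (Steps.fwd (nat_lit 8192) (Steps.fwd (nat_lit 73728) (Steps.bwd (nat_lit 1) (Steps.bwd (nat_lit 1) (Steps.fwd (nat_lit 90112) (Steps.bwd (nat_lit 18) (Steps.fwd (nat_lit 131072) (Steps.fwd (nat_lit 73728) (Steps.bwd (nat_lit 2) (Steps.bwd (nat_lit 3) (Steps.bwd (nat_lit 2) Steps.nil)))))))))))) (nat_lit 73) (nat_lit 10),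
  Rule.mk (nat_lit 15) (nat_lit 126) (Steps.bwd (nat_lit 3) (Steps.bwd (nat_lit 10) (Steps.fwd (nat_lit 90112) (Steps.bwd (nat_lit 16) (Steps.bwd (nat_lit 15) (Steps.fwd (nat_lit 114688) (Steps.bwd (nat_lit 4) Steps.nil))))))) (nat_lit 53) (nat_lit 7),
  Rule.mk (nat_lit 10) (nat_lit 110) (Steps.bwd (nat_lit 15) (Steps.fwd (nat_lit 90112) (Steps.bwd (nat_lit 17) (Steps.bwd (nat_lit 9) (Steps.fwd (nat_lit 147456) (Steps.bwd (nat_lit 9) Steps.nil)))))) (nat_lit 67) (nat_lit 1)]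
noncomputable def R_97 : List (Rule) := [Rule.mk (nat_lit 13) (nat_lit 142) (Steps.fwd (nat_lit 114688) (Steps.fwd (nat_lit 139264) (Steps.bwd (nat_lit 10) (Steps.bwd (nat_lit 16) (Steps.bwd (nat_lit 2) (Steps.bwd (nat_lit 17) (Steps.bwd (nat_lit 1) (Steps.bwd (nat_lit 10) Steps.nil)))))))) (nat_lit 47) (nat_lit 2),
  Rule.mk (nat_lit 2) (nat_lit 94) (Steps.bwd (nat_lit 7) (Steps.bwd (nat_lit 7) (Steps.bwd (nat_lit 2) (Steps.bwd (nat_lit 2) (Steps.fwd (nat_lit 8192) Steps.nil))))) (nat_lit 78) (nat_lit 0),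
  Rule.mk (nat_lit 19) (nat_lit 126) (Steps.bwd (nat_lit 7) (Steps.fwd (nat_lit 155648) (Steps.bwd (nat_lit 2) (Steps.fwd (nat_lit 8192) (Steps.fwd (nat_lit 65536) (Steps.fwd (nat_lit 155648) (Steps.bwd (nat_lit 7) Steps.nil))))))) (nat_lit 86) (nat_lit 4),
  Rule.mk (nat_lit 19) (nat_lit 78) (Steps.fwd (nat_lit 147456) (Steps.bwd (nat_lit 19) (Steps.bwd (nat_lit 19) (Steps.bwd (nat_lit 19) Steps.nil)))) (nat_lit 23) (nat_lit 0),
  Rule.mk (nat_lit 17) (nat_lit 110) (Steps.bwd (nat_lit 9) (Steps.bwd (nat_lit 3) (Steps.fwd (nat_lit 32768) (Steps.fwd (nat_lit 114688) (Steps.bwd (nat_lit 16) (Steps.fwd (nat_lit 73728) Steps.nil)))))) (nat_lit 65) (nat_lit 6),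
  Rule.mk (nat_lit 3) (nat_lit 126) (Steps.bwd (nat_lit 1) (Steps.fwd (nat_lit 32768) (Steps.bwd (nat_lit 1) (Steps.bwd (nat_lit 3) (Steps.fwd (nat_lit 16384) (Steps.bwd (nat_lit 3) (Steps.fwd (nat_lit 16384) Steps.nil))))))) (nat_lit 4) (nat_lit 0),
  Rule.mk (nat_lit 10) (nat_lit 286) (Steps.bwd (nat_lit 1) (Steps.fwd (nat_lit 32768) (Steps.fwd (nat_lit 32768) (Steps.fwd (nat_lit 73728) (Steps.fwd (nat_lit 57344) (Steps.bwd (nat_lit 11) (Steps.fwd (nat_lit 57344) (Steps.bwd (nat_lit 3) (Steps.bwd (nat_lit 2) (Steps.bwd (nat_lit 4) (Steps.bwd (nat_lit 11) (Steps.bwd (nat_lit 8) (Steps.bwd (nat_lit 2) (Steps.fwd (nat_lit 81920) (Steps.fwd (nat_lit 16384) (Steps.bwd (nat_lit 11) (Steps.bwd (nat_lit 2) Steps.nil))))))))))))))))) (nat_lit 56) (nat_lit 15),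
  Rule.mk (nat_lit 15) (nat_lit 110) (Steps.fwd (nat_lit 24576) (Steps.fwd (nat_lit 73728) (Steps.fwd (nat_lit 90112) (Steps.fwd (nat_lit 73728) (Steps.fwd (nat_lit 90112) (Steps.bwd (nat_lit 4) Steps.nil)))))) (nat_lit 60) (nat_lit 6),
  Rule.mk (nat_lit 13) (nat_lit 126) (Steps.bwd (nat_lit 3) (Steps.fwd (nat_lit 106496) (Steps.bwd (nat_lit 14) (Steps.fwd (nat_lit 131072) (Steps.fwd (nat_lit 81920) (Steps.fwd (nat_lit 131072) (Steps.bwd (nat_lit 4) Steps.nil))))))) (nat_lit 51) (nat_lit 7),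
  Rule.mk (nat_lit 9) (nat_lit 110) (Steps.bwd (nat_lit 3) (Steps.bwd (nat_lit 9) (Steps.fwd (nat_lit 139264) (Steps.bwd (nat_lit 16) (Steps.bwd (nat_lit 14) (Steps.fwd (nat_lit 81920) Steps.nil)))))) (nat_lit 70) (nat_lit 1),
  Rule.mk (nat_lit 10) (nat_lit 286) (Steps.bwd (nat_lit 3) (Steps.fwd (nat_lit 16384) (Steps.fwd (nat_lit 24576) (Steps.bwd (nat_lit 7) (Steps.bwd (nat_lit 10) (Steps.fwd (nat_lit 65536) (Steps.bwd (nat_lit 9) (Steps.fwd (nat_lit 24576) (Steps.fwd (nat_lit 24576) (Steps.bwd (nat_lit 2) (Steps.fwd (nat_lit 81920) (Steps.bwd (nat_lit 1) (Steps.fwd (nat_lit 90112) (Steps.fwd (nat_lit 8192) (Steps.bwd (nat_lit 10) (Steps.fwd (nat_lit 16384) (Steps.fwd (nat_lit 65536) Steps.nil))))))))))))))))) (nat_lit 57) (nat_lit 11),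
  Rule.mk (nat_lit 13) (nat_lit 190) (Steps.fwd (nat_lit 73728) (Steps.bwd (nat_lit 2) (Steps.bwd (nat_lit 2) (Steps.bwd (nat_lit 2) (Steps.bwd (nat_lit 15) (Steps.bwd (nat_lit 2) (Steps.fwd (nat_lit 139264) (Steps.bwd (nat_lit 13) (Steps.bwd (nat_lit 9) (Steps.bwd (nat_lit 12) (Steps.bwd (nat_lit 9) Steps.nil))))))))))) (nat_lit 75) (nat_lit 11),
  Rule.mk (nat_lit 9) (nat_lit 110) (Steps.bwd (nat_lit 10) (Steps.bwd (nat_lit 9) (Steps.bwd (nat_lit 10) (Steps.bwd (nat_lit 4) (Steps.bwd (nat_lit 15) (Steps.bwd (nat_lit 4) Steps.nil)))))) (nat_lit 60) (nat_lit 1),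
  Rule.mk (nat_lit 10) (nat_lit 286) (Steps.fwd (nat_lit 32768) (Steps.fwd (nat_lit 16384) (Steps.fwd (nat_lit 24576) (Steps.fwd (nat_lit 65536) (Steps.fwd (nat_lit 90112) (Steps.fwd (nat_lit 65536) (Steps.bwd (nat_lit 9) (Steps.fwd (nat_lit 24576) (Steps.fwd (nat_lit 24576) (Steps.bwd (nat_lit 2) (Steps.bwd (nat_lit 11) (Steps.bwd (nat_lit 1) (Steps.bwd (nat_lit 10) (Steps.fwd (nat_lit 8192) (Steps.fwd (nat_lit 90112) (Steps.fwd (nat_lit 16384) (Steps.bwd (nat_lit 7) Steps.nil))))))))))))))))) (nat_lit 57) (nat_lit 11),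
  Rule.mk (nat_lit 9) (nat_lit 190) (Steps.bwd (nat_lit 12) (Steps.fwd (nat_lit 131072) (Steps.fwd (nat_lit 16384) (Steps.bwd (nat_lit 14) (Steps.bwd (nat_lit 1) (Steps.fwd (nat_lit 16384) (Steps.fwd (nat_lit 16384) (Steps.fwd (nat_lit 73728) (Steps.bwd (nat_lit 12) (Steps.fwd (nat_lit 73728) (Steps.fwd (nat_lit 98304) Steps.nil))))))))))) (nat_lit 74) (nat_lit 5),
  Rule.mk (nat_lit 8) (nat_lit 270) (Steps.bwd (nat_lit 1) (Steps.fwd (nat_lit 32768) (Steps.bwd (nat_lit 3) (Steps.bwd (nat_lit 2) (Steps.fwd (nat_lit 24576) (Steps.bwd (nat_lit 11) (Steps.fwd (nat_lit 131072) (Steps.bwd (nat_lit 19) (Steps.fwd (nat_lit 16384) (Steps.bwd (nat_lit 9) (Steps.bwd (nat_lit 1) (Steps.bwd (nat_lit 9) (Steps.fwd (nat_lit 16384) (Steps.fwd (nat_lit 98304) (Steps.fwd (nat_lit 32768) (Steps.bwd (nat_lit 9) Steps.nil)))))))))))))))) (nat_lit 77) (nat_lit 0),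
  Rule.mk (nat_lit 15) (nat_lit 126) (Steps.bwd (nat_lit 4) (Steps.bwd (nat_lit 15) (Steps.bwd (nat_lit 3) (Steps.fwd (nat_lit 90112) (Steps.fwd (nat_lit 90112) (Steps.bwd (nat_lit 16) (Steps.bwd (nat_lit 15) Steps.nil))))))) (nat_lit 53) (nat_lit 5),
  Rule.mk (nat_lit 18) (nat_lit 94) (Steps.bwd (nat_lit 18) (Steps.fwd (nat_lit 81920) (Steps.bwd (nat_lit 15) (Steps.bwd (nat_lit 10) (Steps.fwd (nat_lit 122880) Steps.nil))))) (nat_lit 32) (nat_lit 5),
  Rule.mk (nat_lit 16) (nat_lit 126) (Steps.bwd (nat_lit 15) (Steps.bwd (nat_lit 13) (Steps.bwd (nat_lit 4) (Steps.fwd (nat_lit 106496) (Steps.bwd (nat_lit 3) (Steps.bwd (nat_lit 16) (Steps.fwd (nat_lit 90112) Steps.nil))))))) (nat_lit 50) (nat_lit 6),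
  Rule.mk (nat_lit 2) (nat_lit 142) (Steps.bwd (nat_lit 17) (Steps.bwd (nat_lit 1) (Steps.bwd (nat_lit 10) (Steps.fwd (nat_lit 98304) (Steps.bwd (nat_lit 15) (Steps.bwd (nat_lit 16) (Steps.fwd (nat_lit 90112) (Steps.bwd (nat_lit 16) Steps.nil)))))))) (nat_lit 47) (nat_lit 7),
  Rule.mk (nat_lit 16) (nat_lit 110) (Steps.bwd (nat_lit 2) (Steps.bwd (nat_lit 15) (Steps.bwd (nat_lit 1) (Steps.fwd (nat_lit 114688) (Steps.fwd (nat_lit 114688) (Steps.fwd (nat_lit 90112) Steps.nil)))))) (nat_lit 45) (nat_lit 4),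
  Rule.mk (nat_lit 10) (nat_lit 110) (Steps.bwd (nat_lit 4) (Steps.bwd (nat_lit 15) (Steps.fwd (nat_lit 24576) (Steps.fwd (nat_lit 73728) (Steps.bwd (nat_lit 10) (Steps.fwd (nat_lit 73728) Steps.nil)))))) (nat_lit 60) (nat_lit 4),
  Rule.mk (nat_lit 9) (nat_lit 190) (Steps.bwd (nat_lit 13) (Steps.fwd (nat_lit 73728) (Steps.fwd (nat_lit 8192) (Steps.fwd (nat_lit 8192) (Steps.bwd (nat_lit 2) (Steps.bwd (nat_lit 15) (Steps.fwd (nat_lit 8192) (Steps.fwd (nat_lit 139264) (Steps.fwd (nat_lit 98304) (Steps.bwd (nat_lit 9) (Steps.bwd (nat_lit 12) Steps.nil))))))))))) (nat_lit 75) (nat_lit 10),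
  Rule.mk (nat_lit 11) (nat_lit 286) (Steps.bwd (nat_lit 8) (Steps.bwd (nat_lit 3) (Steps.bwd (nat_lit 2) (Steps.fwd (nat_lit 24576) (Steps.fwd (nat_lit 81920) (Steps.bwd (nat_lit 8) (Steps.bwd (nat_lit 2) (Steps.bwd (nat_lit 11) (Steps.fwd (nat_lit 16384) (Steps.bwd (nat_lit 11) (Steps.fwd (nat_lit 8192) (Steps.bwd (nat_lit 10) (Steps.bwd (nat_lit 1) (Steps.fwd (nat_lit 32768) (Steps.bwd (nat_lit 3) (Steps.bwd (nat_lit 9) (Steps.bwd (nat_lit 8) Steps.nil))))))))))))))))) (nat_lit 56) (nat_lit 3),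
  Rule.mk (nat_lit 9) (nat_lit 158) (Steps.bwd (nat_lit 15) (Steps.fwd (nat_lit 73728) (Steps.bwd (nat_lit 3) (Steps.bwd (nat_lit 3) (Steps.bwd (nat_lit 1) (Steps.fwd (nat_lit 106496) (Steps.fwd (nat_lit 81920) (Steps.fwd (nat_lit 131072) (Steps.bwd (nat_lit 2) Steps.nil))))))))) (nat_lit 63) (nat_lit 8),
  Rule.mk (nat_lit 11) (nat_lit 110) (Steps.fwd (nat_lit 122880) (Steps.bwd (nat_lit 14) (Steps.fwd (nat_lit 8192) (Steps.bwd (nat_lit 14) (Steps.fwd (nat_lit 16384) (Steps.bwd (nat_lit 17) Steps.nil)))))) (nat_lit 44) (nat_lit 5),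
  Rule.mk (nat_lit 17) (nat_lit 110) (Steps.fwd (nat_lit 73728) (Steps.bwd (nat_lit 4) (Steps.fwd (nat_lit 73728) (Steps.bwd (nat_lit 10) (Steps.bwd (nat_lit 15) (Steps.bwd (nat_lit 17) Steps.nil)))))) (nat_lit 71) (nat_lit 4),
  Rule.mk (nat_lit 7) (nat_lit 94) (Steps.fwd (nat_lit 8192) (Steps.bwd (nat_lit 2) (Steps.fwd (nat_lit 8192) (Steps.bwd (nat_lit 2) (Steps.bwd (nat_lit 7) Steps.nil))))) (nat_lit 78) (nat_lit 2),
  Rule.mk (nat_lit 13) (nat_lit 142) (Steps.fwd (nat_lit 114688) (Steps.fwd (nat_lit 139264) (Steps.fwd (nat_lit 90112) (Steps.fwd (nat_lit 139264) (Steps.fwd (nat_lit 8192) (Steps.bwd (nat_lit 17) (Steps.fwd (nat_lit 16384) (Steps.bwd (nat_lit 10) Steps.nil)))))))) (nat_lit 47) (nat_lit 2),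
  Rule.mk (nat_lit 14) (nat_lit 126) (Steps.bwd (nat_lit 17) (Steps.bwd (nat_lit 11) (Steps.bwd (nat_lit 17) (Steps.fwd (nat_lit 24576) (Steps.bwd (nat_lit 13) (Steps.fwd (nat_lit 32768) (Steps.bwd (nat_lit 12) Steps.nil))))))) (nat_lit 51) (nat_lit 2),
  Rule.mk (nat_lit 2) (nat_lit 142) (Steps.bwd (nat_lit 17) (Steps.fwd (nat_lit 16384) (Steps.fwd (nat_lit 90112) (Steps.bwd (nat_lit 13) (Steps.fwd (nat_lit 114688) (Steps.bwd (nat_lit 16) (Steps.bwd (nat_lit 10) (Steps.bwd (nat_lit 16) Steps.nil)))))))) (nat_lit 47) (nat_lit 7),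
  Rule.mk (nat_lit 4) (nat_lit 94) (Steps.fwd (nat_lit 16384) (Steps.bwd (nat_lit 1) (Steps.fwd (nat_lit 32768) (Steps.bwd (nat_lit 2) (Steps.bwd (nat_lit 2) Steps.nil))))) (nat_lit 6) (nat_lit 3),
  Rule.mk (nat_lit 16) (nat_lit 190) (Steps.fwd (nat_lit 98304) (Steps.fwd (nat_lit 73728) (Steps.fwd (nat_lit 106496) (Steps.fwd (nat_lit 73728) (Steps.bwd (nat_lit 13) (Steps.bwd (nat_lit 9) (Steps.fwd (nat_lit 8192) (Steps.fwd (nat_lit 8192) (Steps.bwd (nat_lit 2) (Steps.fwd (nat_lit 114688) (Steps.bwd (nat_lit 2) Steps.nil))))))))))) (nat_lit 75) (nat_lit 6),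
  Rule.mk (nat_lit 10) (nat_lit 126) (Steps.bwd (nat_lit 16) (Steps.bwd (nat_lit 15) (Steps.fwd (nat_lit 98304) (Steps.fwd (nat_lit 24576) (Steps.bwd (nat_lit 12) (Steps.bwd (nat_lit 3) (Steps.fwd (nat_lit 139264) Steps.nil))))))) (nat_lit 50) (nat_lit 5),
  Rule.mk (nat_lit 9) (nat_lit 190) (Steps.bwd (nat_lit 12) (Steps.fwd (nat_lit 131072) (Steps.fwd (nat_lit 16384) (Steps.fwd (nat_lit 122880) (Steps.bwd (nat_lit 1) (Steps.bwd (nat_lit 1) (Steps.fwd (nat_lit 16384) (Steps.fwd (nat_lit 73728) (Steps.bwd (nat_lit 12) (Steps.fwd (nat_lit 73728) (Steps.bwd (nat_lit 13) Steps.nil))))))))))) (nat_lit 74) (nat_lit 5),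
  Rule.mk (nat_lit 19) (nat_lit 110) (Steps.bwd (nat_lit 9) (Steps.fwd (nat_lit 90112) (Steps.fwd (nat_lit 114688) (Steps.bwd (nat_lit 10) (Steps.bwd (nat_lit 17) (Steps.bwd (nat_lit 9) Steps.nil)))))) (nat_lit 67) (nat_lit 6),
  Rule.mk (nat_lit 1) (nat_lit 126) (Steps.bwd (nat_lit 1) (Steps.bwd (nat_lit 19) (Steps.bwd (nat_lit 8) (Steps.fwd (nat_lit 155648) (Steps.bwd (nat_lit 8) (Steps.bwd (nat_lit 19) (Steps.bwd (nat_lit 8) Steps.nil))))))) (nat_lit 87) (nat_lit 1),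
  Rule.mk (nat_lit 17) (nat_lit 142) (Steps.bwd (nat_lit 1) (Steps.fwd (nat_lit 90112) (Steps.fwd (nat_lit 98304) (Steps.bwd (nat_lit 15) (Steps.fwd (nat_lit 139264) (Steps.fwd (nat_lit 90112) (Steps.fwd (nat_lit 139264) (Steps.bwd (nat_lit 2) Steps.nil)))))))) (nat_lit 47) (nat_lit 8),
  Rule.mk (nat_lit 3) (nat_lit 158) (Steps.bwd (nat_lit 1) (Steps.bwd (nat_lit 12) (Steps.fwd (nat_lit 81920) (Steps.bwd (nat_lit 17) (Steps.fwd (nat_lit 8192) (Steps.bwd (nat_lit 9) (Steps.fwd (nat_lit 114688) (Steps.fwd (nat_lit 73728) (Steps.bwd (nat_lit 3) Steps.nil))))))))) (nat_lit 63) (nat_lit 2),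
  Rule.mk (nat_lit 16) (nat_lit 110) (Steps.bwd (nat_lit 11) (Steps.bwd (nat_lit 14) (Steps.bwd (nat_lit 11) (Steps.fwd (nat_lit 73728) (Steps.bwd (nat_lit 18) (Steps.bwd (nat_lit 9) Steps.nil)))))) (nat_lit 66) (nat_lit 4),
  Rule.mk (nat_lit 9) (nat_lit 110) (Steps.fwd (nat_lit 32768) (Steps.fwd (nat_lit 32768) (Steps.bwd (nat_lit 15) (Steps.bwd (nat_lit 16) (Steps.bwd (nat_lit 9) (Steps.bwd (nat_lit 17) Steps.nil)))))) (nat_lit 65) (nat_lit 0),
  Rule.mk (nat_lit 4) (nat_lit 110) (Steps.bwd (nat_lit 9) (Steps.bwd (nat_lit 10) (Steps.fwd (nat_lit 73728) (Steps.fwd (nat_lit 90112) (Steps.fwd (nat_lit 24576) (Steps.fwd (nat_lit 114688) Steps.nil)))))) (nat_lit 60) (nat_lit 0),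
  Rule.mk (nat_lit 14) (nat_lit 78) (Steps.bwd (nat_lit 19) (Steps.fwd (nat_lit 131072) (Steps.fwd (nat_lit 114688) (Steps.fwd (nat_lit 139264) Steps.nil)))) (nat_lit 41) (nat_lit 0),
  Rule.mk (nat_lit 14) (nat_lit 110) (Steps.bwd (nat_lit 14) (Steps.fwd (nat_lit 8192) (Steps.fwd (nat_lit 122880) (Steps.bwd (nat_lit 1) (Steps.bwd (nat_lit 17) (Steps.fwd (nat_lit 81920) Steps.nil)))))) (nat_lit 44) (nat_lit 6),
  Rule.mk (nat_lit 4) (nat_lit 126) (Steps.bwd (nat_lit 14) (Steps.bwd (nat_lit 3) (Steps.fwd (nat_lit 122880) (Steps.fwd (nat_lit 122880) (Steps.fwd (nat_lit 131072) (Steps.bwd (nat_lit 11) (Steps.bwd (nat_lit 11) Steps.nil))))))) (nat_lit 52) (nat_lit 1),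
  Rule.mk (nat_lit 1) (nat_lit 190) (Steps.bwd (nat_lit 14) (Steps.fwd (nat_lit 16384) (Steps.bwd (nat_lit 1) (Steps.bwd (nat_lit 1) (Steps.bwd (nat_lit 9) (Steps.fwd (nat_lit 106496) (Steps.fwd (nat_lit 73728) (Steps.fwd (nat_lit 98304) (Steps.fwd (nat_lit 73728) (Steps.fwd (nat_lit 106496) (Steps.bwd (nat_lit 17) Steps.nil))))))))))) (nat_lit 74) (nat_lit 8),
  Rule.mk (nat_lit 8) (nat_lit 94) (Steps.fwd (nat_lit 57344) (Steps.fwd (nat_lit 16384) (Steps.bwd (nat_lit 1) (Steps.bwd (nat_lit 1) (Steps.bwd (nat_lit 1) Steps.nil))))) (nat_lit 79) (nat_lit 5),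
  Rule.mk (nat_lit 9) (nat_lit 190) (Steps.fwd (nat_lit 106496) (Steps.bwd (nat_lit 9) (Steps.fwd (nat_lit 98304) (Steps.bwd (nat_lit 9) (Steps.fwd (nat_lit 106496) (Steps.fwd (nat_lit 131072) (Steps.fwd (nat_lit 16384) (Steps.bwd (nat_lit 14) (Steps.bwd (nat_lit 1) (Steps.bwd (nat_lit 1) (Steps.bwd (nat_lit 1) Steps.nil))))))))))) (nat_lit 74) (nat_lit 1),
  Rule.mk (nat_lit 9) (nat_lit 110) (Steps.bwd (nat_lit 3) (Steps.bwd (nat_lit 14) (Steps.bwd (nat_lit 3) (Steps.bwd (nat_lit 11) (Steps.fwd (nat_lit 73728) (Steps.bwd (nat_lit 11) Steps.nil)))))) (nat_lit 61) (nat_lit 0),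
  Rule.mk (nat_lit 13) (nat_lit 126) (Steps.bwd (nat_lit 3) (Steps.fwd (nat_lit 106496) (Steps.bwd (nat_lit 14) (Steps.bwd (nat_lit 17) (Steps.bwd (nat_lit 11) (Steps.bwd (nat_lit 17) (Steps.fwd (nat_lit 24576) Steps.nil))))))) (nat_lit 51) (nat_lit 7),
  Rule.mk (nat_lit 15) (nat_lit 126) (Steps.bwd (nat_lit 3) (Steps.fwd (nat_lit 90112) (Steps.fwd (nat_lit 90112) (Steps.fwd (nat_lit 139264) (Steps.bwd (nat_lit 15) (Steps.fwd (nat_lit 114688) (Steps.fwd (nat_lit 24576) Steps.nil))))))) (nat_lit 53) (nat_lit 7),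
  Rule.mk (nat_lit 10) (nat_lit 286) (Steps.bwd (nat_lit 3) (Steps.fwd (nat_lit 16384) (Steps.fwd (nat_lit 24576) (Steps.fwd (nat_lit 65536) (Steps.fwd (nat_lit 90112) (Steps.fwd (nat_lit 65536) (Steps.fwd (nat_lit 73728) (Steps.bwd (nat_lit 4) (Steps.bwd (nat_lit 4) (Steps.bwd (nat_lit 2) (Steps.bwd (nat_lit 11) (Steps.bwd (nat_lit 1) (Steps.fwd (nat_lit 90112) (Steps.fwd (nat_lit 8192) (Steps.fwd (nat_lit 90112) (Steps.bwd (nat_lit 1) (Steps.bwd (nat_lit 7) Steps.nil))))))))))))))))) (nat_lit 57) (nat_lit 11),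
  Rule.mk (nat_lit 9) (nat_lit 110) (Steps.bwd (nat_lit 17) (Steps.fwd (nat_lit 73728) (Steps.bwd (nat_lit 3) (Steps.bwd (nat_lit 3) (Steps.fwd (nat_lit 114688) (Steps.bwd (nat_lit 16) Steps.nil)))))) (nat_lit 65) (nat_lit 5),
  Rule.mk (nat_lit 1) (nat_lit 142) (Steps.bwd (nat_lit 17) (Steps.fwd (nat_lit 81920) (Steps.bwd (nat_lit 17) (Steps.fwd (nat_lit 122880) (Steps.fwd (nat_lit 106496) (Steps.bwd (nat_lit 11) (Steps.bwd (nat_lit 2) (Steps.fwd (nat_lit 139264) Steps.nil)))))))) (nat_lit 46) (nat_lit 3),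
  Rule.mk (nat_lit 1) (nat_lit 94) (Steps.fwd (nat_lit 57344) (Steps.bwd (nat_lit 8) (Steps.fwd (nat_lit 16384) (Steps.fwd (nat_lit 16384) (Steps.bwd (nat_lit 1) Steps.nil))))) (nat_lit 79) (nat_lit 4),
  Rule.mk (nat_lit 3) (nat_lit 190) (Steps.fwd (nat_lit 8192) (Steps.bwd (nat_lit 4) (Steps.bwd (nat_lit 1) (Steps.fwd (nat_lit 32768) (Steps.bwd (nat_lit 2) (Steps.fwd (nat_lit 24576) (Steps.bwd (nat_lit 1) (Steps.fwd (nat_lit 32768) (Steps.fwd (nat_lit 8192) (Steps.fwd (nat_lit 24576) (Steps.bwd (nat_lit 1) Steps.nil))))))))))) (nat_lit 8) (nat_lit 0),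
  Rule.mk (nat_lit 17) (nat_lit 126) (Steps.fwd (nat_lit 81920) (Steps.fwd (nat_lit 81920) (Steps.bwd (nat_lit 4) (Steps.fwd (nat_lit 122880) (Steps.bwd (nat_lit 3) (Steps.bwd (nat_lit 14) (Steps.bwd (nat_lit 14) Steps.nil))))))) (nat_lit 52) (nat_lit 6),
  Rule.mk (nat_lit 9) (nat_lit 110) (Steps.bwd (nat_lit 16) (Steps.fwd (nat_lit 139264) (Steps.fwd (nat_lit 122880) (Steps.fwd (nat_lit 81920) (Steps.bwd (nat_lit 9) (Steps.bwd (nat_lit 3) Steps.nil)))))) (nat_lit 70) (nat_lit 3),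
  Rule.mk (nat_lit 16) (nat_lit 126) (Steps.fwd (nat_lit 90112) (Steps.fwd (nat_lit 139264) (Steps.fwd (nat_lit 114688) (Steps.fwd (nat_lit 98304) (Steps.bwd (nat_lit 4) (Steps.fwd (nat_lit 106496) (Steps.bwd (nat_lit 3) Steps.nil))))))) (nat_lit 50) (nat_lit 4),
  Rule.mk (nat_lit 10) (nat_lit 126) (Steps.bwd (nat_lit 16) (Steps.bwd (nat_lit 15) (Steps.bwd (nat_lit 13) (Steps.bwd (nat_lit 4) (Steps.fwd (nat_lit 106496) (Steps.fwd (nat_lit 32768) (Steps.bwd (nat_lit 16) Steps.nil))))))) (nat_lit 50) (nat_lit 5),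
  Rule.mk (nat_lit 7) (nat_lit 126) (Steps.bwd (nat_lit 18) (Steps.fwd (nat_lit 8192) (Steps.bwd (nat_lit 2) (Steps.bwd (nat_lit 7) (Steps.fwd (nat_lit 155648) (Steps.fwd (nat_lit 65536) (Steps.bwd (nat_lit 19) Steps.nil))))))) (nat_lit 86) (nat_lit 5),
  Rule.mk (nat_lit 9) (nat_lit 206) (Steps.fwd (nat_lit 139264) (Steps.fwd (nat_lit 147456) (Steps.fwd (nat_lit 81920) (Steps.fwd (nat_lit 8192) (Steps.bwd (nat_lit 2) (Steps.bwd (nat_lit 9) (Steps.bwd (nat_lit 1) (Steps.bwd (nat_lit 3) (Steps.bwd (nat_lit 3) (Steps.fwd (nat_lit 16384) (Steps.fwd (nat_lit 24576) (Steps.bwd (nat_lit 1) Steps.nil)))))))))))) (nat_lit 72) (nat_lit 8),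
  Rule.mk (nat_lit 1) (nat_lit 110) (Steps.bwd (nat_lit 15) (Steps.fwd (nat_lit 114688) (Steps.bwd (nat_lit 10) (Steps.bwd (nat_lit 16) (Steps.bwd (nat_lit 2) (Steps.fwd (nat_lit 114688) Steps.nil)))))) (nat_lit 45) (nat_lit 0),
  Rule.mk (nat_lit 16) (nat_lit 126) (Steps.bwd (nat_lit 15) (Steps.fwd (nat_lit 98304) (Steps.bwd (nat_lit 4) (Steps.fwd (nat_lit 106496) (Steps.bwd (nat_lit 3) (Steps.fwd (nat_lit 139264) (Steps.bwd (nat_lit 10) Steps.nil))))))) (nat_lit 50) (nat_lit 6)]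
noncomputable def R_98 : List (Rule) := [Rule.mk (nat_lit 10) (nat_lit 142) (Steps.bwd (nat_lit 16) (Steps.fwd (nat_lit 8192) (Steps.bwd (nat_lit 17) (Steps.fwd (nat_lit 16384) (Steps.fwd (nat_lit 90112) (Steps.bwd (nat_lit 13) (Steps.fwd (nat_lit 114688) (Steps.bwd (nat_lit 16) Steps.nil)))))))) (nat_lit 47) (nat_lit 5),
  Rule.mk (nat_lit 2) (nat_lit 94) (Steps.bwd (nat_lit 2) (Steps.bwd (nat_lit 2) (Steps.fwd (nat_lit 8192) (Steps.bwd (nat_lit 7) (Steps.bwd (nat_lit 7) Steps.nil))))) (nat_lit 78) (nat_lit 3),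
  Rule.mk (nat_lit 9) (nat_lit 206) (Steps.fwd (nat_lit 16384) (Steps.bwd (nat_lit 3) (Steps.fwd (nat_lit 32768) (Steps.fwd (nat_lit 16384) (Steps.fwd (nat_lit 24576) (Steps.bwd (nat_lit 1) (Steps.fwd (nat_lit 90112) (Steps.bwd (nat_lit 18) (Steps.bwd (nat_lit 17) (Steps.bwd (nat_lit 9) (Steps.fwd (nat_lit 8192) (Steps.bwd (nat_lit 2) Steps.nil)))))))))))) (nat_lit 69) (nat_lit 0),
  Rule.mk (nat_lit 11) (nat_lit 286) (Steps.fwd (nat_lit 16384) (Steps.bwd (nat_lit 10) (Steps.bwd (nat_lit 2) (Steps.bwd (nat_lit 10) (Steps.bwd (nat_lit 1) (Steps.fwd (nat_lit 65536) (Steps.fwd (nat_lit 90112) (Steps.bwd (nat_lit 3) (Steps.fwd (nat_lit 16384) (Steps.bwd (nat_lit 4) (Steps.bwd (nat_lit 7) (Steps.bwd (nat_lit 10) (Steps.fwd (nat_lit 65536) (Steps.fwd (nat_lit 73728) (Steps.bwd (nat_lit 4) (Steps.bwd (nat_lit 4) (Steps.bwd (nat_lit 2) Steps.nil))))))))))))))))) (nat_lit 57) (nat_lit 4),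
  Rule.mk (nat_lit 10) (nat_lit 286) (Steps.bwd (nat_lit 3) (Steps.fwd (nat_lit 16384) (Steps.fwd (nat_lit 24576) (Steps.bwd (nat_lit 7) (Steps.fwd (nat_lit 90112) (Steps.bwd (nat_lit 7) (Steps.fwd (nat_lit 73728) (Steps.bwd (nat_lit 4) (Steps.fwd (nat_lit 24576) (Steps.fwd (nat_lit 8192) (Steps.bwd (nat_lit 11) (Steps.bwd (nat_lit 1) (Steps.fwd (nat_lit 90112) (Steps.bwd (nat_lit 2) (Steps.bwd (nat_lit 10) (Steps.fwd (nat_lit 16384) (Steps.bwd (nat_lit 7) Steps.nil))))))))))))))))) (nat_lit 57) (nat_lit 11),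
  Rule.mk (nat_lit 17) (nat_lit 110) (Steps.bwd (nat_lit 11) (Steps.fwd (nat_lit 122880) (Steps.bwd (nat_lit 14) (Steps.fwd (nat_lit 8192) (Steps.bwd (nat_lit 14) (Steps.fwd (nat_lit 16384) Steps.nil)))))) (nat_lit 44) (nat_lit 4),
  Rule.mk (nat_lit 4) (nat_lit 126) (Steps.bwd (nat_lit 13) (Steps.fwd (nat_lit 32768) (Steps.fwd (nat_lit 106496) (Steps.bwd (nat_lit 14) (Steps.bwd (nat_lit 17) (Steps.bwd (nat_lit 11) (Steps.bwd (nat_lit 17) Steps.nil))))))) (nat_lit 51) (nat_lit 6),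
  Rule.mk (nat_lit 13) (nat_lit 78) (Steps.bwd (nat_lit 11) (Steps.fwd (nat_lit 106496) (Steps.bwd (nat_lit 10) (Steps.fwd (nat_lit 155648) Steps.nil)))) (nat_lit 18) (nat_lit 2),
  Rule.mk (nat_lit 17) (nat_lit 126) (Steps.bwd (nat_lit 11) (Steps.bwd (nat_lit 11) (Steps.bwd (nat_lit 4) (Steps.bwd (nat_lit 14) (Steps.bwd (nat_lit 3) (Steps.fwd (nat_lit 122880) (Steps.bwd (nat_lit 14) Steps.nil))))))) (nat_lit 52) (nat_lit 6),
  Rule.mk (nat_lit 14) (nat_lit 142) (Steps.fwd (nat_lit 106496) (Steps.bwd (nat_lit 11) (Steps.bwd (nat_lit 2) (Steps.bwd (nat_lit 16) (Steps.bwd (nat_lit 1) (Steps.fwd (nat_lit 131072) (Steps.fwd (nat_lit 81920) (Steps.bwd (nat_lit 17) Steps.nil)))))))) (nat_lit 46) (nat_lit 7),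
  Rule.mk (nat_lit 12) (nat_lit 126) (Steps.bwd (nat_lit 14) (Steps.bwd (nat_lit 17) (Steps.bwd (nat_lit 11) (Steps.bwd (nat_lit 17) (Steps.fwd (nat_lit 24576) (Steps.fwd (nat_lit 98304) (Steps.bwd (nat_lit 3) Steps.nil))))))) (nat_lit 51) (nat_lit 1),
  Rule.mk (nat_lit 1) (nat_lit 94) (Steps.bwd (nat_lit 1) (Steps.bwd (nat_lit 8) (Steps.bwd (nat_lit 2) (Steps.bwd (nat_lit 7) (Steps.bwd (nat_lit 1) Steps.nil))))) (nat_lit 83) (nat_lit 2),
  Rule.mk (nat_lit 3) (nat_lit 126) (Steps.bwd (nat_lit 1) (Steps.fwd (nat_lit 32768) (Steps.bwd (nat_lit 1) (Steps.fwd (nat_lit 32768) (Steps.bwd (nat_lit 1) (Steps.bwd (nat_lit 3) (Steps.bwd (nat_lit 1) Steps.nil))))))) (nat_lit 4) (nat_lit 0),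
  Rule.mk (nat_lit 9) (nat_lit 206) (Steps.bwd (nat_lit 1) (Steps.fwd (nat_lit 32768) (Steps.fwd (nat_lit 32768) (Steps.bwd (nat_lit 1) (Steps.fwd (nat_lit 24576) (Steps.fwd (nat_lit 16384) (Steps.fwd (nat_lit 90112) (Steps.bwd (nat_lit 18) (Steps.fwd (nat_lit 131072) (Steps.fwd (nat_lit 73728) (Steps.fwd (nat_lit 8192) (Steps.bwd (nat_lit 2) Steps.nil)))))))))))) (nat_lit 69) (nat_lit 0),
  Rule.mk (nat_lit 17) (nat_lit 110) (Steps.bwd (nat_lit 14) (Steps.bwd (nat_lit 4) (Steps.fwd (nat_lit 24576) (Steps.bwd (nat_lit 9) (Steps.bwd (nat_lit 16) (Steps.bwd (nat_lit 9) Steps.nil)))))) (nat_lit 64) (nat_lit 4),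
  Rule.mk (nat_lit 16) (nat_lit 110) (Steps.bwd (nat_lit 11) (Steps.bwd (nat_lit 14) (Steps.bwd (nat_lit 11) (Steps.bwd (nat_lit 9) (Steps.fwd (nat_lit 155648) (Steps.bwd (nat_lit 9) Steps.nil)))))) (nat_lit 66) (nat_lit 4),
  Rule.mk (nat_lit 7) (nat_lit 126) (Steps.bwd (nat_lit 19) (Steps.bwd (nat_lit 7) (Steps.bwd (nat_lit 18) (Steps.fwd (nat_lit 8192) (Steps.bwd (nat_lit 2) (Steps.fwd (nat_lit 65536) (Steps.bwd (nat_lit 18) Steps.nil))))))) (nat_lit 86) (nat_lit 3),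
  Rule.mk (nat_lit 3) (nat_lit 126) (Steps.bwd (nat_lit 12) (Steps.fwd (nat_lit 122880) (Steps.bwd (nat_lit 17) (Steps.bwd (nat_lit 11) (Steps.bwd (nat_lit 17) (Steps.fwd (nat_lit 24576) (Steps.bwd (nat_lit 13) Steps.nil))))))) (nat_lit 51) (nat_lit 0),
  Rule.mk (nat_lit 11) (nat_lit 126) (Steps.bwd (nat_lit 4) (Steps.bwd (nat_lit 14) (Steps.fwd (nat_lit 32768) (Steps.bwd (nat_lit 14) (Steps.bwd (nat_lit 14) (Steps.fwd (nat_lit 131072) (Steps.fwd (nat_lit 81920) Steps.nil))))))) (nat_lit 52) (nat_lit 0),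
  Rule.mk (nat_lit 9) (nat_lit 110) (Steps.fwd (nat_lit 32768) (Steps.fwd (nat_lit 122880) (Steps.fwd (nat_lit 32768) (Steps.fwd (nat_lit 81920) (Steps.bwd (nat_lit 9) (Steps.bwd (nat_lit 11) Steps.nil)))))) (nat_lit 61) (nat_lit 0),
  Rule.mk (nat_lit 2) (nat_lit 142) (Steps.fwd (nat_lit 139264) (Steps.bwd (nat_lit 1) (Steps.bwd (nat_lit 17) (Steps.bwd (nat_lit 11) (Steps.fwd (nat_lit 131072) (Steps.bwd (nat_lit 14) (Steps.bwd (nat_lit 12) (Steps.bwd (nat_lit 11) Steps.nil)))))))) (nat_lit 46) (nat_lit 1),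
  Rule.mk (nat_lit 16) (nat_lit 142) (Steps.bwd (nat_lit 2) (Steps.fwd (nat_lit 131072) (Steps.bwd (nat_lit 1) (Steps.bwd (nat_lit 10) (Steps.bwd (nat_lit 13) (Steps.fwd (nat_lit 114688) (Steps.fwd (nat_lit 139264) (Steps.bwd (nat_lit 10) Steps.nil)))))))) (nat_lit 47) (nat_lit 6),
  Rule.mk (nat_lit 14) (nat_lit 110) (Steps.bwd (nat_lit 14) (Steps.fwd (nat_lit 8192) (Steps.bwd (nat_lit 14) (Steps.bwd (nat_lit 1) (Steps.fwd (nat_lit 131072) (Steps.fwd (nat_lit 81920) Steps.nil)))))) (nat_lit 44) (nat_lit 6),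
  Rule.mk (nat_lit 7) (nat_lit 126) (Steps.bwd (nat_lit 18) (Steps.bwd (nat_lit 2) (Steps.bwd (nat_lit 2) (Steps.fwd (nat_lit 65536) (Steps.fwd (nat_lit 155648) (Steps.bwd (nat_lit 7) (Steps.fwd (nat_lit 147456) Steps.nil))))))) (nat_lit 86) (nat_lit 5),
  Rule.mk (nat_lit 9) (nat_lit 110) (Steps.bwd (nat_lit 11) (Steps.bwd (nat_lit 9) (Steps.fwd (nat_lit 32768) (Steps.fwd (nat_lit 122880) (Steps.fwd (nat_lit 32768) (Steps.fwd (nat_lit 81920) Steps.nil)))))) (nat_lit 61) (nat_lit 5),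
  Rule.mk (nat_lit 16) (nat_lit 110) (Steps.bwd (nat_lit 11) (Steps.bwd (nat_lit 14) (Steps.fwd (nat_lit 81920) (Steps.fwd (nat_lit 73728) (Steps.fwd (nat_lit 155648) (Steps.bwd (nat_lit 9) Steps.nil)))))) (nat_lit 66) (nat_lit 4),
  Rule.mk (nat_lit 14) (nat_lit 110) (Steps.bwd (nat_lit 11) (Steps.bwd (nat_lit 9) (Steps.fwd (nat_lit 32768) (Steps.bwd (nat_lit 9) (Steps.bwd (nat_lit 16) (Steps.bwd (nat_lit 16) Steps.nil)))))) (nat_lit 70) (nat_lit 6),
  Rule.mk (nat_lit 1) (nat_lit 286) (Steps.bwd (nat_lit 11) (Steps.bwd (nat_lit 2) (Steps.fwd (nat_lit 90112) (Steps.bwd (nat_lit 1) (Steps.fwd (nat_lit 32768) (Steps.fwd (nat_lit 32768) (Steps.fwd (nat_lit 73728) (Steps.bwd (nat_lit 8) (Steps.fwd (nat_lit 81920) (Steps.bwd (nat_lit 8) (Steps.fwd (nat_lit 32768) (Steps.bwd (nat_lit 2) (Steps.bwd (nat_lit 4) (Steps.bwd (nat_lit 11) (Steps.bwd (nat_lit 8) (Steps.fwd (nat_lit 8192) (Steps.bwd (nat_lit 11) Steps.nil)))))))))))))))))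 (nat_lit 56) (nat_lit 12),
  Rule.mk (nat_lit 14) (nat_lit 190) (Steps.fwd (nat_lit 16384) (Steps.fwd (nat_lit 16384) (Steps.bwd (nat_lit 1) (Steps.bwd (nat_lit 9) (Steps.bwd (nat_lit 12) (Steps.fwd (nat_lit 73728) (Steps.bwd (nat_lit 13) (Steps.fwd (nat_lit 73728) (Steps.bwd (nat_lit 12) (Steps.bwd (nat_lit 17) (Steps.bwd (nat_lit 1) Steps.nil))))))))))) (nat_lit 74) (nat_lit 9),
  Rule.mk (nat_lit 1) (nat_lit 94) (Steps.bwd (nat_lit 1) (Steps.bwd (nat_lit 8) (Steps.bwd (nat_lit 8) (Steps.bwd (nat_lit 1) (Steps.fwd (nat_lit 16384) Steps.nil))))) (nat_lit 79) (nat_lit 3),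
  Rule.mk (nat_lit 3) (nat_lit 206) (Steps.bwd (nat_lit 1) (Steps.fwd (nat_lit 24576) (Steps.bwd (nat_lit 1) (Steps.fwd (nat_lit 90112) (Steps.fwd (nat_lit 155648) (Steps.bwd (nat_lit 17) (Steps.fwd (nat_lit 73728) (Steps.bwd (nat_lit 2) (Steps.bwd (nat_lit 2) (Steps.fwd (nat_lit 73728) (Steps.bwd (nat_lit 1) (Steps.fwd (nat_lit 32768) Steps.nil)))))))))))) (nat_lit 69) (nat_lit 3),
  Rule.mk (nat_lit 9) (nat_lit 270) (Steps.bwd (nat_lit 1) (Steps.fwd (nat_lit 98304) (Steps.bwd (nat_lit 3) (Steps.fwd (nat_lit 73728) (Steps.bwd (nat_lit 8) (Steps.bwd (nat_lit 1) (Steps.bwd (nat_lit 3) (Steps.fwd (nat_lit 32768) (Steps.bwd (nat_lit 2) (Steps.fwd (nat_lit 24576) (Steps.fwd (nat_lit 81920) (Steps.fwd (nat_lit 131072) (Steps.fwd (nat_lit 147456) (Steps.fwd (nat_lit 16384) (Steps.fwd (nat_lit 73728) (Steps.fwd (nat_lit 16384) Steps.nil)))))))))))))))) (nat_lit 77) (nat_lit 12),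
  Rule.mk (nat_lit 13) (nat_lit 190) (Steps.bwd (nat_lit 9) (Steps.fwd (nat_lit 106496) (Steps.fwd (nat_lit 131072) (Steps.fwd (nat_lit 16384) (Steps.fwd (nat_lit 122880) (Steps.fwd (nat_lit 16384) (Steps.bwd (nat_lit 1) (Steps.fwd (nat_lit 16384) (Steps.bwd (nat_lit 9) (Steps.fwd (nat_lit 106496) (Steps.bwd (nat_lit 9) Steps.nil))))))))))) (nat_lit 74) (nat_lit 4),
  Rule.mk (nat_lit 10) (nat_lit 110) (Steps.bwd (nat_lit 16) (Steps.bwd (nat_lit 2) (Steps.fwd (nat_lit 114688) (Steps.bwd (nat_lit 1) (Steps.bwd (nat_lit 15) (Steps.bwd (nat_lit 15) Steps.nil)))))) (nat_lit 45) (nat_lit 3),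
  Rule.mk (nat_lit 15) (nat_lit 110) (Steps.bwd (nat_lit 16) (Steps.bwd (nat_lit 9) (Steps.bwd (nat_lit 17) (Steps.fwd (nat_lit 73728) (Steps.fwd (nat_lit 32768) (Steps.bwd (nat_lit 3) Steps.nil)))))) (nat_lit 65) (nat_lit 3),
  Rule.mk (nat_lit 17) (nat_lit 110) (Steps.bwd (nat_lit 9) (Steps.fwd (nat_lit 24576) (Steps.fwd (nat_lit 73728) (Steps.bwd (nat_lit 10) (Steps.bwd (nat_lit 15) (Steps.bwd (nat_lit 17) Steps.nil)))))) (nat_lit 71) (nat_lit 4),
  Rule.mk (nat_lit 12) (nat_lit 126) (Steps.bwd (nat_lit 14) (Steps.fwd (nat_lit 131072) (Steps.bwd (nat_lit 11) (Steps.bwd (nat_lit 17) (Steps.bwd (nat_lit 4) (Steps.fwd (nat_lit 98304) (Steps.bwd (nat_lit 3) Steps.nil))))))) (nat_lit 51) (nat_lit 1),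
  Rule.mk (nat_lit 16) (nat_lit 110) (Steps.bwd (nat_lit 9) (Steps.bwd (nat_lit 17) (Steps.bwd (nat_lit 9) (Steps.fwd (nat_lit 32768) (Steps.bwd (nat_lit 3) (Steps.bwd (nat_lit 15) Steps.nil)))))) (nat_lit 65) (nat_lit 4),
  Rule.mk (nat_lit 12) (nat_lit 190) (Steps.bwd (nat_lit 9) (Steps.fwd (nat_lit 98304) (Steps.bwd (nat_lit 9) (Steps.fwd (nat_lit 106496) (Steps.bwd (nat_lit 17) (Steps.fwd (nat_lit 16384) (Steps.bwd (nat_lit 14) (Steps.fwd (nat_lit 16384) (Steps.fwd (nat_lit 16384) (Steps.fwd (nat_lit 16384) (Steps.bwd (nat_lit 9) Steps.nil))))))))))) (nat_lit 74) (nat_lit 2),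
  Rule.mk (nat_lit 1) (nat_lit 270) (Steps.bwd (nat_lit 9) (Steps.bwd (nat_lit 1) (Steps.bwd (nat_lit 9) (Steps.fwd (nat_lit 16384) (Steps.bwd (nat_lit 13) (Steps.fwd (nat_lit 32768) (Steps.bwd (nat_lit 9) (Steps.bwd (nat_lit 8) (Steps.fwd (nat_lit 16384) (Steps.bwd (nat_lit 3) (Steps.fwd (nat_lit 32768) (Steps.bwd (nat_lit 2) (Steps.bwd (nat_lit 4) (Steps.bwd (nat_lit 11) (Steps.bwd (nat_lit 17) (Steps.bwd (nat_lit 19) Steps.nil)))))))))))))))) (nat_lit 77) (nat_lit 9),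
  Rule.mk (nat_lit 14) (nat_lit 190) (Steps.bwd (nat_lit 1) (Steps.fwd (nat_lit 16384) (Steps.fwd (nat_lit 16384) (Steps.fwd (nat_lit 73728) (Steps.fwd (nat_lit 106496) (Steps.bwd (nat_lit 9) (Steps.bwd (nat_lit 13) (Steps.bwd (nat_lit 9) (Steps.fwd (nat_lit 106496) (Steps.fwd (nat_lit 131072) (Steps.bwd (nat_lit 1) Steps.nil))))))))))) (nat_lit 74) (nat_lit 9),
  Rule.mk (nat_lit 10) (nat_lit 142) (Steps.bwd (nat_lit 13) (Steps.fwd (nat_lit 114688) (Steps.fwd (nat_lit 139264) (Steps.bwd (nat_lit 10) (Steps.bwd (nat_lit 16) (Steps.fwd (nat_lit 8192) (Steps.fwd (nat_lit 131072) (Steps.fwd (nat_lit 16384) Steps.nil)))))))) (nat_lit 47) (nat_lit 1),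
  Rule.mk (nat_lit 7) (nat_lit 286) (Steps.fwd (nat_lit 73728) (Steps.bwd (nat_lit 4) (Steps.fwd (nat_lit 24576) (Steps.fwd (nat_lit 8192) (Steps.bwd (nat_lit 11) (Steps.fwd (nat_lit 16384) (Steps.bwd (nat_lit 10) (Steps.bwd (nat_lit 2) (Steps.bwd (nat_lit 10) (Steps.fwd (nat_lit 16384) (Steps.bwd (nat_lit 7) (Steps.bwd (nat_lit 10) (Steps.fwd (nat_lit 32768) (Steps.fwd (nat_lit 16384) (Steps.fwd (nat_lit 24576) (Steps.fwd (nat_lit 65536) (Steps.bwd (nat_lit 10) Steps.nil))))))))))))))))) (nat_lit 57) (nat_lit 17),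
  Rule.mk (nat_lit 4) (nat_lit 126) (Steps.bwd (nat_lit 12) (Steps.bwd (nat_lit 3) (Steps.fwd (nat_lit 139264) (Steps.fwd (nat_lit 90112) (Steps.fwd (nat_lit 139264) (Steps.bwd (nat_lit 15) (Steps.bwd (nat_lit 13) Steps.nil))))))) (nat_lit 50) (nat_lit 1),
  Rule.mk (nat_lit 14) (nat_lit 110) (Steps.bwd (nat_lit 1) (Steps.fwd (nat_lit 131072) (Steps.bwd (nat_lit 11) (Steps.bwd (nat_lit 14) (Steps.bwd (nat_lit 14) (Steps.fwd (nat_lit 8192) Steps.nil)))))) (nat_lit 44) (nat_lit 2),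
  Rule.mk (nat_lit 9) (nat_lit 206) (Steps.bwd (nat_lit 1) (Steps.bwd (nat_lit 3) (Steps.fwd (nat_lit 32768) (Steps.bwd (nat_lit 1) (Steps.fwd (nat_lit 24576) (Steps.bwd (nat_lit 1) (Steps.bwd (nat_lit 10) (Steps.fwd (nat_lit 155648) (Steps.bwd (nat_lit 17) (Steps.fwd (nat_lit 73728) (Steps.fwd (nat_lit 8192) (Steps.bwd (nat_lit 2) Steps.nil)))))))))))) (nat_lit 69) (nat_lit 0),
  Rule.mk (nat_lit 11) (nat_lit 94) (Steps.fwd (nat_lit 139264) (Steps.fwd (nat_lit 90112) (Steps.fwd (nat_lit 155648) (Steps.fwd (nat_lit 155648) (Steps.bwd (nat_lit 17) Steps.nil))))) (nat_lit 35) (nat_lit 4),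
  Rule.mk (nat_lit 4) (nat_lit 110) (Steps.bwd (nat_lit 9) (Steps.fwd (nat_lit 139264) (Steps.fwd (nat_lit 73728) (Steps.bwd (nat_lit 17) (Steps.fwd (nat_lit 122880) (Steps.bwd (nat_lit 4) Steps.nil)))))) (nat_lit 64) (nat_lit 0),
  Rule.mk (nat_lit 15) (nat_lit 158) (Steps.bwd (nat_lit 9) (Steps.bwd (nat_lit 3) (Steps.fwd (nat_lit 32768) (Steps.bwd (nat_lit 1) (Steps.fwd (nat_lit 106496) (Steps.bwd (nat_lit 11) (Steps.fwd (nat_lit 131072) (Steps.fwd (nat_lit 8192) (Steps.bwd (nat_lit 9) Steps.nil))))))))) (nat_lit 63) (nat_lit 9),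
  Rule.mk (nat_lit 1) (nat_lit 190) (Steps.bwd (nat_lit 9) (Steps.bwd (nat_lit 12) (Steps.bwd (nat_lit 9) (Steps.fwd (nat_lit 98304) (Steps.fwd (nat_lit 73728) (Steps.fwd (nat_lit 106496) (Steps.fwd (nat_lit 131072) (Steps.fwd (nat_lit 16384) (Steps.bwd (nat_lit 14) (Steps.fwd (nat_lit 16384) (Steps.bwd (nat_lit 1) Steps.nil))))))))))) (nat_lit 74) (nat_lit 0),
  Rule.mk (nat_lit 12) (nat_lit 190) (Steps.bwd (nat_lit 9) (Steps.bwd (nat_lit 13) (Steps.fwd (nat_lit 73728) (Steps.bwd (nat_lit 2) (Steps.bwd (nat_lit 2) (Steps.bwd (nat_lit 2) (Steps.bwd (nat_lit 15) (Steps.bwd (nat_lit 2) (Steps.bwd (nat_lit 16) (Steps.bwd (nat_lit 13) (Steps.bwd (nat_lit 9) Steps.nil))))))))))) (nat_lit 75) (nat_lit 9),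
  Rule.mk (nat_lit 9) (nat_lit 110) (Steps.bwd (nat_lit 19) (Steps.fwd (nat_lit 73728) (Steps.bwd (nat_lit 10) (Steps.fwd (nat_lit 114688) (Steps.fwd (nat_lit 90112) (Steps.bwd (nat_lit 17) Steps.nil)))))) (nat_lit 67) (nat_lit 5),
  Rule.mk (nat_lit 19) (nat_lit 94) (Steps.bwd (nat_lit 11) (Steps.fwd (nat_lit 131072) (Steps.bwd (nat_lit 10) (Steps.bwd (nat_lit 16) (Steps.bwd (nat_lit 19) Steps.nil))))) (nat_lit 34) (nat_lit 0),
  Rule.mk (nat_lit 17) (nat_lit 142) (Steps.bwd (nat_lit 11) (Steps.fwd (nat_lit 131072) (Steps.fwd (nat_lit 122880) (Steps.fwd (nat_lit 106496) (Steps.fwd (nat_lit 81920) (Steps.bwd (nat_lit 2) (Steps.bwd (nat_lit 16) (Steps.bwd (nat_lit 1) Steps.nil)))))))) (nat_lit 46) (nat_lit 4),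
  Rule.mk (nat_lit 12) (nat_lit 158) (Steps.bwd (nat_lit 11) (Steps.fwd (nat_lit 131072) (Steps.bwd (nat_lit 2) (Steps.bwd (nat_lit 9) (Steps.fwd (nat_lit 114688) (Steps.fwd (nat_lit 73728) (Steps.fwd (nat_lit 32768) (Steps.fwd (nat_lit 32768) (Steps.fwd (nat_lit 16384) Steps.nil))))))))) (nat_lit 63) (nat_lit 4),
  Rule.mk (nat_lit 2) (nat_lit 286) (Steps.bwd (nat_lit 11) (Steps.fwd (nat_lit 16384) (Steps.bwd (nat_lit 11) (Steps.fwd (nat_lit 8192) (Steps.bwd (nat_lit 10) (Steps.fwd (nat_lit 16384) (Steps.fwd (nat_lit 32768) (Steps.fwd (nat_lit 32768) (Steps.fwd (nat_lit 73728) (Steps.bwd (nat_lit 8) (Steps.bwd (nat_lit 11) (Steps.bwd (nat_lit 8) (Steps.bwd (nat_lit 3) (Steps.bwd (nat_lit 2) (Steps.fwd (nat_lit 24576) (Steps.bwd (nat_lit 11) (Steps.fwd (nat_lit 57344) Steps.nil))))))))))))))))) (nat_lit 56) (nat_lit 10),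
  Rule.mk (nat_lit 14) (nat_lit 110) (Steps.fwd (nat_lit 16384) (Steps.bwd (nat_lit 17) (Steps.bwd (nat_lit 11) (Steps.bwd (nat_lit 14) (Steps.bwd (nat_lit 14) (Steps.bwd (nat_lit 2) Steps.nil)))))) (nat_lit 44) (nat_lit 2),
  Rule.mk (nat_lit 17) (nat_lit 142) (Steps.fwd (nat_lit 16384) (Steps.bwd (nat_lit 10) (Steps.bwd (nat_lit 13) (Steps.fwd (nat_lit 114688) (Steps.bwd (nat_lit 16) (Steps.fwd (nat_lit 90112) (Steps.fwd (nat_lit 139264) (Steps.bwd (nat_lit 2) Steps.nil)))))))) (nat_lit 47) (nat_lit 8),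
  Rule.mk (nat_lit 9) (nat_lit 206) (Steps.fwd (nat_lit 16384) (Steps.fwd (nat_lit 16384) (Steps.bwd (nat_lit 9) (Steps.bwd (nat_lit 16) (Steps.bwd (nat_lit 19) (Steps.bwd (nat_lit 11) (Steps.fwd (nat_lit 8192) (Steps.bwd (nat_lit 3) (Steps.fwd (nat_lit 8192) (Steps.bwd (nat_lit 4) (Steps.fwd (nat_lit 24576) (Steps.bwd (nat_lit 2) Steps.nil)))))))))))) (nat_lit 68) (nat_lit 1),
  Rule.mk (nat_lit 1) (nat_lit 142) (Steps.bwd (nat_lit 10) (Steps.fwd (nat_lit 98304) (Steps.bwd (nat_lit 15) (Steps.bwd (nat_lit 16) (Steps.fwd (nat_lit 90112) (Steps.fwd (nat_lit 139264) (Steps.bwd (nat_lit 2) (Steps.bwd (nat_lit 17) Steps.nil)))))))) (nat_lit 47) (nat_lit 0),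
  Rule.mk (nat_lit 9) (nat_lit 206) (Steps.fwd (nat_lit 8192) (Steps.fwd (nat_lit 32768) (Steps.bwd (nat_lit 2) (Steps.bwd (nat_lit 4) (Steps.fwd (nat_lit 24576) (Steps.bwd (nat_lit 2) (Steps.bwd (nat_lit 9) (Steps.fwd (nat_lit 16384) (Steps.fwd (nat_lit 16384) (Steps.fwd (nat_lit 90112) (Steps.fwd (nat_lit 155648) (Steps.bwd (nat_lit 17) Steps.nil)))))))))))) (nat_lit 73) (nat_lit 6),
  Rule.mk (nat_lit 16) (nat_lit 110) (Steps.bwd (nat_lit 16) (Steps.bwd (nat_lit 14) (Steps.bwd (nat_lit 11) (Steps.bwd (nat_lit 9) (Steps.bwd (nat_lit 3) (Steps.bwd (nat_lit 9) Steps.nil)))))) (nat_lit 70) (nat_lit 4),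
  Rule.mk (nat_lit 8) (nat_lit 126) (Steps.bwd (nat_lit 19) (Steps.fwd (nat_lit 57344) (Steps.fwd (nat_lit 16384) (Steps.bwd (nat_lit 1) (Steps.bwd (nat_lit 19) (Steps.bwd (nat_lit 8) (Steps.bwd (nat_lit 18) Steps.nil))))))) (nat_lit 87) (nat_lit 6),
  Rule.mk (nat_lit 16) (nat_lit 206) (Steps.bwd (nat_lit 19) (Steps.bwd (nat_lit 11) (Steps.bwd (nat_lit 2) (Steps.fwd (nat_lit 32768) (Steps.bwd (nat_lit 2) (Steps.fwd (nat_lit 24576) (Steps.fwd (nat_lit 24576) (Steps.fwd (nat_lit 8192) (Steps.bwd (nat_lit 9) (Steps.fwd (nat_lit 16384) (Steps.fwd (nat_lit 16384) (Steps.fwd (nat_lit 73728) Steps.nil)))))))))))) (nat_lit 68) (nat_lit 5)]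
noncomputable def R_99 : List (Rule) := [Rule.mk (nat_lit 1) (nat_lit 142) (Steps.bwd (nat_lit 17) (Steps.bwd (nat_lit 11) (Steps.bwd (nat_lit 17) (Steps.bwd (nat_lit 14) (Steps.bwd (nat_lit 12) (Steps.bwd (nat_lit 11) (Steps.bwd (nat_lit 2) (Steps.bwd (nat_lit 16) Steps.nil)))))))) (nat_lit 46) (nat_lit 3),
  Rule.mk (nat_lit 8) (nat_lit 126) (Steps.bwd (nat_lit 1) (Steps.fwd (nat_lit 16384) (Steps.fwd (nat_lit 147456) (Steps.fwd (nat_lit 57344) (Steps.fwd (nat_lit 155648) (Steps.bwd (nat_lit 8) (Steps.bwd (nat_lit 19) Steps.nil))))))) (nat_lit 87) (nat_lit 0),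
  Rule.mk (nat_lit 9) (nat_lit 206) (Steps.bwd (nat_lit 1) (Steps.fwd (nat_lit 16384) (Steps.fwd (nat_lit 73728) (Steps.bwd (nat_lit 16) (Steps.bwd (nat_lit 19) (Steps.fwd (nat_lit 81920) (Steps.bwd (nat_lit 2) (Steps.bwd (nat_lit 3) (Steps.bwd (nat_lit 2) (Steps.fwd (nat_lit 24576) (Steps.bwd (nat_lit 4) (Steps.fwd (nat_lit 8192) Steps.nil)))))))))))) (nat_lit 68) (nat_lit 1),
  Rule.mk (nat_lit 9) (nat_lit 110) (Steps.bwd (nat_lit 11) (Steps.fwd (nat_lit 73728) (Steps.bwd (nat_lit 3) (Steps.fwd (nat_lit 122880) (Steps.fwd (nat_lit 32768) (Steps.fwd (nat_lit 81920) Steps.nil)))))) (nat_lit 61) (nat_lit 5),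
  Rule.mk (nat_lit 17) (nat_lit 126) (Steps.bwd (nat_lit 11) (Steps.fwd (nat_lit 81920) (Steps.bwd (nat_lit 4) (Steps.fwd (nat_lit 122880) (Steps.fwd (nat_lit 32768) (Steps.bwd (nat_lit 14) (Steps.fwd (nat_lit 122880) Steps.nil))))))) (nat_lit 52) (nat_lit 6),
  Rule.mk (nat_lit 1) (nat_lit 142) (Steps.fwd (nat_lit 90112) (Steps.fwd (nat_lit 98304) (Steps.bwd (nat_lit 15) (Steps.fwd (nat_lit 139264) (Steps.bwd (nat_lit 10) (Steps.fwd (nat_lit 139264) (Steps.fwd (nat_lit 8192) (Steps.bwd (nat_lit 17) Steps.nil)))))))) (nat_lit 47) (nat_lit 0),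
  Rule.mk (nat_lit 7) (nat_lit 126) (Steps.bwd (nat_lit 19) (Steps.fwd (nat_lit 65536) (Steps.fwd (nat_lit 155648) (Steps.bwd (nat_lit 2) (Steps.bwd (nat_lit 2) (Steps.fwd (nat_lit 65536) (Steps.fwd (nat_lit 155648) Steps.nil))))))) (nat_lit 86) (nat_lit 3),
  Rule.mk (nat_lit 8) (nat_lit 158) (Steps.bwd (nat_lit 19) (Steps.fwd (nat_lit 57344) (Steps.bwd (nat_lit 19) (Steps.bwd (nat_lit 8) (Steps.fwd (nat_lit 147456) (Steps.bwd (nat_lit 8) (Steps.bwd (nat_lit 19) (Steps.bwd (nat_lit 8) (Steps.fwd (nat_lit 147456) Steps.nil))))))))) (nat_lit 85) (nat_lit 0),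
  Rule.mk (nat_lit 9) (nat_lit 190) (Steps.fwd (nat_lit 98304) (Steps.bwd (nat_lit 9) (Steps.fwd (nat_lit 8192) (Steps.fwd (nat_lit 8192) (Steps.bwd (nat_lit 2) (Steps.fwd (nat_lit 114688) (Steps.bwd (nat_lit 2) (Steps.fwd (nat_lit 139264) (Steps.bwd (nat_lit 13) (Steps.bwd (nat_lit 9) (Steps.bwd (nat_lit 12) Steps.nil))))))))))) (nat_lit 75) (nat_lit 10),
  Rule.mk (nat_lit 1) (nat_lit 142) (Steps.bwd (nat_lit 10) (Steps.fwd (nat_lit 98304) (Steps.fwd (nat_lit 114688) (Steps.bwd (nat_lit 16) (Steps.fwd (nat_lit 90112) (Steps.fwd (nat_lit 139264) (Steps.bwd (nat_lit 2) (Steps.fwd (nat_lit 131072) Steps.nil)))))))) (nat_lit 47) (nat_lit 0),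
  Rule.mk (nat_lit 16) (nat_lit 158) (Steps.bwd (nat_lit 10) (Steps.fwd (nat_lit 98304) (Steps.fwd (nat_lit 8192) (Steps.bwd (nat_lit 4) (Steps.fwd (nat_lit 24576) (Steps.fwd (nat_lit 73728) (Steps.bwd (nat_lit 14) (Steps.bwd (nat_lit 9) (Steps.bwd (nat_lit 1) Steps.nil))))))))) (nat_lit 62) (nat_lit 5),
  Rule.mk (nat_lit 16) (nat_lit 110) (Steps.fwd (nat_lit 122880) (Steps.fwd (nat_lit 81920) (Steps.fwd (nat_lit 73728) (Steps.bwd (nat_lit 3) (Steps.bwd (nat_lit 9) (Steps.bwd (nat_lit 16) Steps.nil)))))) (nat_lit 70) (nat_lit 5),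
  Rule.mk (nat_lit 1) (nat_lit 142) (Steps.fwd (nat_lit 131072) (Steps.fwd (nat_lit 81920) (Steps.bwd (nat_lit 17) (Steps.bwd (nat_lit 14) (Steps.fwd (nat_lit 106496) (Steps.bwd (nat_lit 11) (Steps.bwd (nat_lit 2) (Steps.bwd (nat_lit 16) Steps.nil)))))))) (nat_lit 46) (nat_lit 3),
  Rule.mk (nat_lit 2) (nat_lit 94) (Steps.bwd (nat_lit 7) (Steps.fwd (nat_lit 65536) (Steps.fwd (nat_lit 8192) (Steps.bwd (nat_lit 2) (Steps.bwd (nat_lit 2) Steps.nil))))) (nat_lit 78) (nat_lit 0),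
  Rule.mk (nat_lit 18) (nat_lit 126) (Steps.bwd (nat_lit 7) (Steps.fwd (nat_lit 147456) (Steps.fwd (nat_lit 65536) (Steps.bwd (nat_lit 18) (Steps.bwd (nat_lit 2) (Steps.bwd (nat_lit 2) (Steps.bwd (nat_lit 7) Steps.nil))))))) (nat_lit 86) (nat_lit 2),
  Rule.mk (nat_lit 9) (nat_lit 190) (Steps.bwd (nat_lit 13) (Steps.bwd (nat_lit 9) (Steps.bwd (nat_lit 2) (Steps.bwd (nat_lit 2) (Steps.bwd (nat_lit 2) (Steps.bwd (nat_lit 15) (Steps.fwd (nat_lit 8192) (Steps.bwd (nat_lit 16) (Steps.bwd (nat_lit 13) (Steps.fwd (nat_lit 73728) (Steps.fwd (nat_lit 106496) Steps.nil))))))))))) (nat_lit 75) (nat_lit 10),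
  Rule.mk (nat_lit 4) (nat_lit 110) (Steps.bwd (nat_lit 9) (Steps.bwd (nat_lit 10) (Steps.fwd (nat_lit 114688) (Steps.fwd (nat_lit 131072) (Steps.bwd (nat_lit 17) (Steps.bwd (nat_lit 9) Steps.nil)))))) (nat_lit 71) (nat_lit 6),
  Rule.mk (nat_lit 2) (nat_lit 158) (Steps.bwd (nat_lit 9) (Steps.fwd (nat_lit 114688) (Steps.bwd (nat_lit 9) (Steps.fwd (nat_lit 32768) (Steps.fwd (nat_lit 32768) (Steps.bwd (nat_lit 1) (Steps.fwd (nat_lit 106496) (Steps.fwd (nat_lit 81920) (Steps.fwd (nat_lit 131072) Steps.nil))))))))) (nat_lit 63) (nat_lit 7),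
  Rule.mk (nat_lit 1) (nat_lit 206) (Steps.bwd (nat_lit 9) (Steps.bwd (nat_lit 16) (Steps.fwd (nat_lit 147456) (Steps.fwd (nat_lit 81920) (Steps.fwd (nat_lit 8192) (Steps.fwd (nat_lit 32768) (Steps.bwd (nat_lit 2) (Steps.fwd (nat_lit 24576) (Steps.bwd (nat_lit 4) (Steps.fwd (nat_lit 8192) (Steps.bwd (nat_lit 9) (Steps.bwd (nat_lit 1) Steps.nil)))))))))))) (nat_lit 68) (nat_lit 3),
  Rule.mk (nat_lit 19) (nat_lit 126) (Steps.fwd (nat_lit 57344) (Steps.fwd (nat_lit 155648) (Steps.bwd (nat_lit 8) (Steps.bwd (nat_lit 19) (Steps.bwd (nat_lit 8) (Steps.bwd (nat_lit 1) (Steps.bwd (nat_lit 1) Steps.nil))))))) (nat_lit 87) (nat_lit 3),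
  Rule.mk (nat_lit 10) (nat_lit 142) (Steps.fwd (nat_lit 98304) (Steps.fwd (nat_lit 114688) (Steps.fwd (nat_lit 139264) (Steps.bwd (nat_lit 10) (Steps.bwd (nat_lit 16) (Steps.bwd (nat_lit 2) (Steps.fwd (nat_lit 131072) (Steps.bwd (nat_lit 1) Steps.nil)))))))) (nat_lit 47) (nat_lit 1),
  Rule.mk (nat_lit 10) (nat_lit 110) (Steps.bwd (nat_lit 15) (Steps.bwd (nat_lit 10) (Steps.fwd (nat_lit 131072) (Steps.bwd (nat_lit 9) (Steps.fwd (nat_lit 147456) (Steps.fwd (nat_lit 73728) Steps.nil)))))) (nat_lit 67) (nat_lit 1),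
  Rule.mk (nat_lit 9) (nat_lit 158) (Steps.bwd (nat_lit 15) (Steps.fwd (nat_lit 73728) (Steps.bwd (nat_lit 3) (Steps.fwd (nat_lit 32768) (Steps.bwd (nat_lit 1) (Steps.fwd (nat_lit 106496) (Steps.fwd (nat_lit 81920) (Steps.bwd (nat_lit 17) (Steps.bwd (nat_lit 2) Steps.nil))))))))) (nat_lit 63) (nat_lit 8),
  Rule.mk (nat_lit 19) (nat_lit 110) (Steps.fwd (nat_lit 73728) (Steps.fwd (nat_lit 90112) (Steps.bwd (nat_lit 15) (Steps.fwd (nat_lit 90112) (Steps.bwd (nat_lit 17) (Steps.bwd (nat_lit 9) Steps.nil)))))) (nat_lit 67) (nat_lit 6),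
  Rule.mk (nat_lit 2) (nat_lit 190) (Steps.fwd (nat_lit 8192) (Steps.bwd (nat_lit 2) (Steps.bwd (nat_lit 15) (Steps.fwd (nat_lit 8192) (Steps.fwd (nat_lit 139264) (Steps.bwd (nat_lit 13) (Steps.bwd (nat_lit 9) (Steps.fwd (nat_lit 106496) (Steps.fwd (nat_lit 73728) (Steps.bwd (nat_lit 13) (Steps.bwd (nat_lit 9) Steps.nil))))))))))) (nat_lit 75) (nat_lit 1),
  Rule.mk (nat_lit 10) (nat_lit 158) (Steps.bwd (nat_lit 13) (Steps.bwd (nat_lit 2) (Steps.fwd (nat_lit 24576) (Steps.bwd (nat_lit 4) (Steps.bwd (nat_lit 9) (Steps.bwd (nat_lit 14) (Steps.fwd (nat_lit 73728) (Steps.fwd (nat_lit 16384) (Steps.bwd (nat_lit 16) Steps.nil))))))))) (nat_lit 62) (nat_lit 6),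
  Rule.mk (nat_lit 15) (nat_lit 110) (Steps.fwd (nat_lit 90112) (Steps.fwd (nat_lit 131072) (Steps.bwd (nat_lit 9) (Steps.fwd (nat_lit 147456) (Steps.fwd (nat_lit 73728) (Steps.bwd (nat_lit 10) Steps.nil)))))) (nat_lit 67) (nat_lit 2),
  Rule.mk (nat_lit 3) (nat_lit 126) (Steps.bwd (nat_lit 1) (Steps.fwd (nat_lit 32768) (Steps.fwd (nat_lit 16384) (Steps.fwd (nat_lit 32768) (Steps.bwd (nat_lit 1) (Steps.bwd (nat_lit 3) (Steps.fwd (nat_lit 16384) Steps.nil))))))) (nat_lit 4) (nat_lit 0),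
  Rule.mk (nat_lit 17) (nat_lit 142) (Steps.bwd (nat_lit 1) (Steps.fwd (nat_lit 90112) (Steps.bwd (nat_lit 13) (Steps.fwd (nat_lit 114688) (Steps.fwd (nat_lit 139264) (Steps.bwd (nat_lit 10) (Steps.fwd (nat_lit 139264) (Steps.fwd (nat_lit 8192) Steps.nil)))))))) (nat_lit 47) (nat_lit 8),
  Rule.mk (nat_lit 9) (nat_lit 270) (Steps.bwd (nat_lit 1) (Steps.bwd (nat_lit 13) (Steps.bwd (nat_lit 3) (Steps.bwd (nat_lit 9) (Steps.fwd (nat_lit 57344) (Steps.fwd (nat_lit 16384) (Steps.fwd (nat_lit 32768) (Steps.bwd (nat_lit 3) (Steps.fwd (nat_lit 8192) (Steps.fwd (nat_lit 24576) (Steps.bwd (nat_lit 11) (Steps.fwd (nat_lit 131072) (Steps.bwd (nat_lit 19) (Steps.bwd (nat_lit 1) (Steps.fwd (nat_lit 73728) (Steps.bwd (nat_lit 1) Steps.nil)))))))))))))))) (nat_lit 77) (nat_lit 12),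
  Rule.mk (nat_lit 11) (nat_lit 286) (Steps.bwd (nat_lit 1) (Steps.fwd (nat_lit 81920) (Steps.fwd (nat_lit 8192) (Steps.bwd (nat_lit 10) (Steps.fwd (nat_lit 16384) (Steps.fwd (nat_lit 32768) (Steps.fwd (nat_lit 32768) (Steps.bwd (nat_lit 9) (Steps.fwd (nat_lit 57344) (Steps.bwd (nat_lit 11) (Steps.bwd (nat_lit 8) (Steps.bwd (nat_lit 3) (Steps.bwd (nat_lit 2) (Steps.fwd (nat_lit 24576) (Steps.fwd (nat_lit 81920) (Steps.fwd (nat_lit 57344) (Steps.fwd (nat_lit 8192) Steps.nil))))))))))))))))) (nat_lit 56) (nat_lit 11),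
  Rule.mk (nat_lit 3) (nat_lit 206) (Steps.bwd (nat_lit 1) (Steps.bwd (nat_lit 4) (Steps.fwd (nat_lit 16384) (Steps.fwd (nat_lit 90112) (Steps.bwd (nat_lit 18) (Steps.bwd (nat_lit 17) (Steps.fwd (nat_lit 73728) (Steps.fwd (nat_lit 8192) (Steps.bwd (nat_lit 2) (Steps.bwd (nat_lit 9) (Steps.fwd (nat_lit 16384) (Steps.bwd (nat_lit 3) Steps.nil)))))))))))) (nat_lit 69) (nat_lit 3),
  Rule.mk (nat_lit 9) (nat_lit 110) (Steps.bwd (nat_lit 4) (Steps.fwd (nat_lit 73728) (Steps.fwd (nat_lit 90112) (Steps.bwd (nat_lit 15) (Steps.fwd (nat_lit 131072) (Steps.bwd (nat_lit 17) Steps.nil)))))) (nat_lit 71) (nat_lit 5),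
  Rule.mk (nat_lit 11) (nat_lit 126) (Steps.bwd (nat_lit 4) (Steps.bwd (nat_lit 14) (Steps.bwd (nat_lit 3) (Steps.bwd (nat_lit 14) (Steps.bwd (nat_lit 14) (Steps.fwd (nat_lit 131072) (Steps.bwd (nat_lit 11) Steps.nil))))))) (nat_lit 52) (nat_lit 0),
  Rule.mk (nat_lit 1) (nat_lit 286) (Steps.bwd (nat_lit 4) (Steps.fwd (nat_lit 65536) (Steps.bwd (nat_lit 10) (Steps.bwd (nat_lit 7) (Steps.fwd (nat_lit 73728) (Steps.bwd (nat_lit 4) (Steps.bwd (nat_lit 4) (Steps.bwd (nat_lit 2) (Steps.fwd (nat_lit 81920) (Steps.bwd (nat_lit 1) (Steps.fwd (nat_lit 90112) (Steps.bwd (nat_lit 2) (Steps.bwd (nat_lit 10) (Steps.bwd (nat_lit 1) (Steps.bwd (nat_lit 7) (Steps.bwd (nat_lit 10) (Steps.fwd (nat_lit 32768) Steps.nil))))))))))))))))) (nat_lit 57) (nat_lit 13),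
  Rule.mk (nat_lit 9) (nat_lit 110) (Steps.bwd (nat_lit 16) (Steps.fwd (nat_lit 73728) (Steps.bwd (nat_lit 17) (Steps.bwd (nat_lit 14) (Steps.bwd (nat_lit 4) (Steps.bwd (nat_lit 4) Steps.nil)))))) (nat_lit 64) (nat_lit 1),
  Rule.mk (nat_lit 3) (nat_lit 126) (Steps.bwd (nat_lit 16) (Steps.fwd (nat_lit 90112) (Steps.fwd (nat_lit 139264) (Steps.bwd (nat_lit 15) (Steps.bwd (nat_lit 13) (Steps.bwd (nat_lit 4) (Steps.bwd (nat_lit 12) Steps.nil))))))) (nat_lit 50) (nat_lit 3),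
  Rule.mk (nat_lit 1) (nat_lit 94) (Steps.bwd (nat_lit 1) (Steps.fwd (nat_lit 24576) (Steps.bwd (nat_lit 2) (Steps.bwd (nat_lit 2) (Steps.fwd (nat_lit 32768) Steps.nil))))) (nat_lit 7) (nat_lit 5),
  Rule.mk (nat_lit 16) (nat_lit 142) (Steps.bwd (nat_lit 1) (Steps.bwd (nat_lit 17) (Steps.fwd (nat_lit 81920) (Steps.fwd (nat_lit 131072) (Steps.bwd (nat_lit 14) (Steps.fwd (nat_lit 106496) (Steps.bwd (nat_lit 11) (Steps.fwd (nat_lit 8192) Steps.nil)))))))) (nat_lit 46) (nat_lit 2),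
  Rule.mk (nat_lit 10) (nat_lit 286) (Steps.bwd (nat_lit 1) (Steps.bwd (nat_lit 7) (Steps.bwd (nat_lit 10) (Steps.bwd (nat_lit 3) (Steps.bwd (nat_lit 1) (Steps.bwd (nat_lit 4) (Steps.bwd (nat_lit 7) (Steps.fwd (nat_lit 90112) (Steps.fwd (nat_lit 65536) (Steps.fwd (nat_lit 73728) (Steps.fwd (nat_lit 24576) (Steps.fwd (nat_lit 24576) (Steps.fwd (nat_lit 8192) (Steps.bwd (nat_lit 11) (Steps.fwd (nat_lit 16384) (Steps.fwd (nat_lit 90112) (Steps.bwd (nat_lit 2) Steps.nil))))))))))))))))) (nat_lit 57) (nat_lit 8),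
  Rule.mk (nat_lit 11) (nat_lit 286) (Steps.bwd (nat_lit 1) (Steps.fwd (nat_lit 81920) (Steps.fwd (nat_lit 8192) (Steps.bwd (nat_lit 10) (Steps.fwd (nat_lit 16384) (Steps.fwd (nat_lit 32768) (Steps.bwd (nat_lit 3) (Steps.fwd (nat_lit 73728) (Steps.fwd (nat_lit 57344) (Steps.bwd (nat_lit 11) (Steps.bwd (nat_lit 8) (Steps.bwd (nat_lit 3) (Steps.bwd (nat_lit 2) (Steps.bwd (nat_lit 4) (Steps.fwd (nat_lit 81920) (Steps.fwd (nat_lit 57344) (Steps.fwd (nat_lit 8192) Steps.nil))))))))))))))))) (nat_lit 56) (nat_lit 11),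
  Rule.mk (nat_lit 18) (nat_lit 126) (Steps.bwd (nat_lit 2) (Steps.bwd (nat_lit 2) (Steps.fwd (nat_lit 65536) (Steps.fwd (nat_lit 155648) (Steps.bwd (nat_lit 7) (Steps.bwd (nat_lit 19) (Steps.fwd (nat_lit 65536) Steps.nil))))))) (nat_lit 86) (nat_lit 6),
  Rule.mk (nat_lit 11) (nat_lit 142) (Steps.bwd (nat_lit 2) (Steps.fwd (nat_lit 139264) (Steps.fwd (nat_lit 16384) (Steps.bwd (nat_lit 17) (Steps.fwd (nat_lit 81920) (Steps.fwd (nat_lit 131072) (Steps.fwd (nat_lit 122880) (Steps.fwd (nat_lit 106496) Steps.nil)))))))) (nat_lit 46) (nat_lit 0),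
  Rule.mk (nat_lit 9) (nat_lit 206) (Steps.bwd (nat_lit 2) (Steps.bwd (nat_lit 3) (Steps.bwd (nat_lit 2) (Steps.bwd (nat_lit 4) (Steps.bwd (nat_lit 4) (Steps.bwd (nat_lit 2) (Steps.fwd (nat_lit 73728) (Steps.fwd (nat_lit 16384) (Steps.bwd (nat_lit 1) (Steps.fwd (nat_lit 90112) (Steps.fwd (nat_lit 155648) (Steps.fwd (nat_lit 131072) Steps.nil)))))))))))) (nat_lit 73) (nat_lit 6),
  Rule.mk (nat_lit 14) (nat_lit 158) (Steps.fwd (nat_lit 73728) (Steps.bwd (nat_lit 1) (Steps.bwd (nat_lit 16) (Steps.fwd (nat_lit 90112) (Steps.fwd (nat_lit 98304) (Steps.bwd (nat_lit 2) (Steps.bwd (nat_lit 4) (Steps.fwd (nat_lit 24576) (Steps.bwd (nat_lit 9) Steps.nil))))))))) (nat_lit 62) (nat_lit 2),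
  Rule.mk (nat_lit 3) (nat_lit 126) (Steps.bwd (nat_lit 12) (Steps.bwd (nat_lit 14) (Steps.fwd (nat_lit 131072) (Steps.fwd (nat_lit 81920) (Steps.fwd (nat_lit 131072) (Steps.fwd (nat_lit 24576) (Steps.fwd (nat_lit 98304) Steps.nil))))))) (nat_lit 51) (nat_lit 0),
  Rule.mk (nat_lit 14) (nat_lit 142) (Steps.bwd (nat_lit 12) (Steps.fwd (nat_lit 81920) (Steps.fwd (nat_lit 8192) (Steps.fwd (nat_lit 139264) (Steps.fwd (nat_lit 16384) (Steps.bwd (nat_lit 17) (Steps.bwd (nat_lit 11) (Steps.bwd (nat_lit 17) Steps.nil)))))))) (nat_lit 46) (nat_lit 7),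
  Rule.mk (nat_lit 9) (nat_lit 190) (Steps.bwd (nat_lit 12) (Steps.fwd (nat_lit 73728) (Steps.bwd (nat_lit 13) (Steps.bwd (nat_lit 9) (Steps.bwd (nat_lit 12) (Steps.bwd (nat_lit 17) (Steps.bwd (nat_lit 1) (Steps.bwd (nat_lit 14) (Steps.bwd (nat_lit 1) (Steps.bwd (nat_lit 1) (Steps.fwd (nat_lit 16384) Steps.nil))))))))))) (nat_lit 74) (nat_lit 1),
  Rule.mk (nat_lit 8) (nat_lit 126) (Steps.bwd (nat_lit 18) (Steps.fwd (nat_lit 57344) (Steps.bwd (nat_lit 19) (Steps.bwd (nat_lit 8) (Steps.fwd (nat_lit 16384) (Steps.bwd (nat_lit 1) (Steps.fwd (nat_lit 147456) Steps.nil))))))) (nat_lit 87) (nat_lit 4),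
  Rule.mk (nat_lit 9) (nat_lit 270) (Steps.bwd (nat_lit 4) (Steps.fwd (nat_lit 106496) (Steps.bwd (nat_lit 2) (Steps.bwd (nat_lit 9) (Steps.fwd (nat_lit 8192) (Steps.bwd (nat_lit 9) (Steps.bwd (nat_lit 2) (Steps.fwd (nat_lit 155648) (Steps.fwd (nat_lit 139264) (Steps.bwd (nat_lit 10) (Steps.fwd (nat_lit 32768) (Steps.bwd (nat_lit 1) (Steps.fwd (nat_lit 24576) (Steps.fwd (nat_lit 24576) (Steps.fwd (nat_lit 8192) (Steps.bwd (nat_lit 7) Steps.nil)))))))))))))))) (nat_lit 76) (nat_lit 2),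
  Rule.mk (nat_lit 10) (nat_lit 286) (Steps.fwd (nat_lit 65536) (Steps.fwd (nat_lit 73728) (Steps.bwd (nat_lit 4) (Steps.bwd (nat_lit 4) (Steps.bwd (nat_lit 2) (Steps.fwd (nat_lit 81920) (Steps.bwd (nat_lit 1) (Steps.bwd (nat_lit 10) (Steps.bwd (nat_lit 2) (Steps.fwd (nat_lit 90112) (Steps.bwd (nat_lit 1) (Steps.bwd (nat_lit 7) (Steps.bwd (nat_lit 10) (Steps.fwd (nat_lit 32768) (Steps.fwd (nat_lit 16384) (Steps.bwd (nat_lit 4) (Steps.bwd (nat_lit 7) Steps.nil))))))))))))))))) (nat_lit 57) (nat_lit 16),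
  Rule.mk (nat_lit 4) (nat_lit 126) (Steps.bwd (nat_lit 12) (Steps.fwd (nat_lit 32768) (Steps.bwd (nat_lit 16) (Steps.bwd (nat_lit 10) (Steps.fwd (nat_lit 139264) (Steps.fwd (nat_lit 114688) (Steps.bwd (nat_lit 13) Steps.nil))))))) (nat_lit 50) (nat_lit 1),
  Rule.mk (nat_lit 14) (nat_lit 142) (Steps.bwd (nat_lit 12) (Steps.fwd (nat_lit 81920) (Steps.fwd (nat_lit 8192) (Steps.bwd (nat_lit 16) (Steps.bwd (nat_lit 1) (Steps.bwd (nat_lit 17) (Steps.bwd (nat_lit 11) (Steps.bwd (nat_lit 17) Steps.nil)))))))) (nat_lit 46) (nat_lit 7),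
  Rule.mk (nat_lit 9) (nat_lit 190) (Steps.bwd (nat_lit 12) (Steps.fwd (nat_lit 131072) (Steps.fwd (nat_lit 16384) (Steps.fwd (nat_lit 122880) (Steps.bwd (nat_lit 1) (Steps.bwd (nat_lit 1) (Steps.bwd (nat_lit 1) (Steps.bwd (nat_lit 9) (Steps.bwd (nat_lit 12) (Steps.fwd (nat_lit 73728) (Steps.bwd (nat_lit 13) Steps.nil))))))))))) (nat_lit 74) (nat_lit 5),
  Rule.mk (nat_lit 16) (nat_lit 110) (Steps.fwd (nat_lit 73728) (Steps.bwd (nat_lit 17) (Steps.fwd (nat_lit 122880) (Steps.bwd (nat_lit 4) (Steps.fwd (nat_lit 24576) (Steps.bwd (nat_lit 9) Steps.nil)))))) (nat_lit 64) (nat_lit 2),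
  Rule.mk (nat_lit 13) (nat_lit 190) (Steps.fwd (nat_lit 73728) (Steps.fwd (nat_lit 106496) (Steps.bwd (nat_lit 17) (Steps.fwd (nat_lit 16384) (Steps.fwd (nat_lit 122880) (Steps.fwd (nat_lit 16384) (Steps.bwd (nat_lit 1) (Steps.fwd (nat_lit 16384) (Steps.fwd (nat_lit 73728) (Steps.fwd (nat_lit 106496) (Steps.bwd (nat_lit 9) Steps.nil))))))))))) (nat_lit 74) (nat_lit 4),
  Rule.mk (nat_lit 7) (nat_lit 126) (Steps.bwd (nat_lit 19) (Steps.bwd (nat_lit 7) (Steps.fwd (nat_lit 155648) (Steps.fwd (nat_lit 8192) (Steps.bwd (nat_lit 2) (Steps.fwd (nat_lit 65536) (Steps.bwd (nat_lit 18) Steps.nil))))))) (nat_lit 86) (nat_lit 3),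
  Rule.mk (nat_lit 7) (nat_lit 286) (Steps.bwd (nat_lit 10) (Steps.fwd (nat_lit 32768) (Steps.bwd (nat_lit 1) (Steps.bwd (nat_lit 4) (Steps.bwd (nat_lit 7) (Steps.fwd (nat_lit 90112) (Steps.fwd (nat_lit 65536) (Steps.fwd (nat_lit 73728) (Steps.bwd (nat_lit 4) (Steps.fwd (nat_lit 24576) (Steps.fwd (nat_lit 8192) (Steps.fwd (nat_lit 81920) (Steps.bwd (nat_lit 1) (Steps.bwd (nat_lit 10) (Steps.fwd (nat_lit 8192) (Steps.bwd (nat_lit 10) (Steps.bwd (nat_lit 1) Steps.nil))))))))))))))))) (nat_lit 57) (nat_lit 10),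
  Rule.mk (nat_lit 15) (nat_lit 142) (Steps.bwd (nat_lit 16) (Steps.fwd (nat_lit 90112) (Steps.bwd (nat_lit 16) (Steps.fwd (nat_lit 8192) (Steps.fwd (nat_lit 131072) (Steps.bwd (nat_lit 1) (Steps.bwd (nat_lit 10) (Steps.fwd (nat_lit 98304) Steps.nil)))))))) (nat_lit 47) (nat_lit 3),
  Rule.mk (nat_lit 2) (nat_lit 190) (Steps.bwd (nat_lit 16) (Steps.bwd (nat_lit 13) (Steps.bwd (nat_lit 9) (Steps.bwd (nat_lit 12) (Steps.bwd (nat_lit 9) (Steps.fwd (nat_lit 98304) (Steps.fwd (nat_lit 73728) (Steps.bwd (nat_lit 2) (Steps.fwd (nat_lit 8192) (Steps.fwd (nat_lit 8192) (Steps.fwd (nat_lit 114688) Steps.nil))))))))))) (nat_lit 75) (nat_lit 5),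
  Rule.mk (nat_lit 7) (nat_lit 270) (Steps.bwd (nat_lit 9) (Steps.fwd (nat_lit 24576) (Steps.fwd (nat_lit 106496) (Steps.bwd (nat_lit 2) (Steps.fwd (nat_lit 73728) (Steps.bwd (nat_lit 2) (Steps.fwd (nat_lit 73728) (Steps.bwd (nat_lit 2) (Steps.fwd (nat_lit 155648) (Steps.fwd (nat_lit 139264) (Steps.bwd (nat_lit 10) (Steps.fwd (nat_lit 32768) (Steps.bwd (nat_lit 1) (Steps.fwd (nat_lit 24576) (Steps.bwd (nat_lit 4) (Steps.bwd (nat_lit 2) Steps.nil)))))))))))))))) (nat_lit 76) (nat_lit 1),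
  Rule.mk (nat_lit 19) (nat_lit 126) (Steps.bwd (nat_lit 7) (Steps.bwd (nat_lit 18) (Steps.fwd (nat_lit 8192) (Steps.fwd (nat_lit 8192) (Steps.fwd (nat_lit 65536) (Steps.fwd (nat_lit 155648) (Steps.bwd (nat_lit 7) Steps.nil))))))) (nat_lit 86) (nat_lit 4),
  Rule.mk (nat_lit 8) (nat_lit 158) (Steps.fwd (nat_lit 147456) (Steps.fwd (nat_lit 57344) (Steps.fwd (nat_lit 147456) (Steps.bwd (nat_lit 8) (Steps.fwd (nat_lit 147456) (Steps.fwd (nat_lit 57344) (Steps.fwd (nat_lit 147456) (Steps.bwd (nat_lit 8) (Steps.bwd (nat_lit 19) Steps.nil))))))))) (nat_lit 85) (nat_lit 0),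
  Rule.mk (nat_lit 11) (nat_lit 126) (Steps.bwd (nat_lit 4) (Steps.fwd (nat_lit 122880) (Steps.bwd (nat_lit 3) (Steps.bwd (nat_lit 14) (Steps.bwd (nat_lit 14) (Steps.bwd (nat_lit 17) (Steps.fwd (nat_lit 81920) Steps.nil))))))) (nat_lit 52) (nat_lit 0)]
noncomputable def R_100 : List (Rule) := [Rule.mk (nat_lit 19) (nat_lit 126) (Steps.bwd (nat_lit 8) (Steps.fwd (nat_lit 16384) (Steps.fwd (nat_lit 16384) (Steps.fwd (nat_lit 147456) (Steps.bwd (nat_lit 8) (Steps.bwd (nat_lit 18) (Steps.bwd (nat_lit 8) Steps.nil))))))) (nat_lit 87) (nat_lit 7),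
  Rule.mk (nat_lit 18) (nat_lit 126) (Steps.bwd (nat_lit 8) (Steps.bwd (nat_lit 19) (Steps.fwd (nat_lit 57344) (Steps.fwd (nat_lit 16384) (Steps.fwd (nat_lit 16384) (Steps.fwd (nat_lit 147456) (Steps.fwd (nat_lit 57344) Steps.nil))))))) (nat_lit 87) (nat_lit 5),
  Rule.mk (nat_lit 11) (nat_lit 286) (Steps.bwd (nat_lit 8) (Steps.bwd (nat_lit 2) (Steps.bwd (nat_lit 11) (Steps.fwd (nat_lit 16384) (Steps.fwd (nat_lit 81920) (Steps.fwd (nat_lit 8192) (Steps.fwd (nat_lit 90112) (Steps.bwd (nat_lit 1) (Steps.fwd (nat_lit 32768) (Steps.bwd (nat_lit 3) (Steps.fwd (nat_lit 73728) (Steps.fwd (nat_lit 57344) (Steps.bwd (nat_lit 11) (Steps.fwd (nat_lit 57344) (Steps.bwd (nat_lit 3) (Steps.fwd (nat_lit 8192) (Steps.fwd (nat_lit 24576) Steps.nil))))))))))))))))) (nat_lit 56) (nat_lit 8),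
  Rule.mk (nat_lit 17) (nat_lit 206) (Steps.bwd (nat_lit 9) (Steps.fwd (nat_lit 8192) (Steps.fwd (nat_lit 8192) (Steps.fwd (nat_lit 73728) (Steps.bwd (nat_lit 1) (Steps.bwd (nat_lit 3) (Steps.fwd (nat_lit 32768) (Steps.fwd (nat_lit 16384) (Steps.bwd (nat_lit 4) (Steps.bwd (nat_lit 1) (Steps.bwd (nat_lit 10) (Steps.fwd (nat_lit 155648) Steps.nil)))))))))))) (nat_lit 69) (nat_lit 9),
  Rule.mk (nat_lit 1) (nat_lit 94) (Steps.fwd (nat_lit 24576) (Steps.bwd (nat_lit 2) (Steps.bwd (nat_lit 2) (Steps.fwd (nat_lit 32768) (Steps.bwd (nat_lit 1) Steps.nil))))) (nat_lit 7) (nat_lit 0),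
  Rule.mk (nat_lit 15) (nat_lit 94) (Steps.bwd (nat_lit 11) (Steps.fwd (nat_lit 122880) (Steps.bwd (nat_lit 10) (Steps.fwd (nat_lit 147456) (Steps.bwd (nat_lit 19) Steps.nil))))) (nat_lit 33) (nat_lit 3),
  Rule.mk (nat_lit 16) (nat_lit 110) (Steps.bwd (nat_lit 11) (Steps.fwd (nat_lit 122880) (Steps.bwd (nat_lit 11) (Steps.fwd (nat_lit 73728) (Steps.fwd (nat_lit 155648) (Steps.fwd (nat_lit 73728) Steps.nil)))))) (nat_lit 66) (nat_lit 4),
  Rule.mk (nat_lit 9) (nat_lit 110) (Steps.bwd (nat_lit 17) (Steps.fwd (nat_lit 122880) (Steps.bwd (nat_lit 4) (Steps.fwd (nat_lit 24576) (Steps.fwd (nat_lit 73728) (Steps.bwd (nat_lit 16) Steps.nil)))))) (nat_lit 64) (nat_lit 3),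
  Rule.mk (nat_lit 1) (nat_lit 142) (Steps.fwd (nat_lit 131072) (Steps.bwd (nat_lit 11) (Steps.bwd (nat_lit 17) (Steps.bwd (nat_lit 14) (Steps.fwd (nat_lit 106496) (Steps.bwd (nat_lit 11) (Steps.fwd (nat_lit 8192) (Steps.bwd (nat_lit 16) Steps.nil)))))))) (nat_lit 46) (nat_lit 3),
  Rule.mk (nat_lit 9) (nat_lit 270) (Steps.bwd (nat_lit 1) (Steps.bwd (nat_lit 9) (Steps.bwd (nat_lit 1) (Steps.bwd (nat_lit 13) (Steps.bwd (nat_lit 3) (Steps.bwd (nat_lit 9) (Steps.bwd (nat_lit 8) (Steps.bwd (nat_lit 1) (Steps.bwd (nat_lit 3) (Steps.bwd (nat_lit 3) (Steps.bwd (nat_lit 2) (Steps.fwd (nat_lit 24576) (Steps.bwd (nat_lit 11) (Steps.fwd (nat_lit 131072) (Steps.bwd (nat_lit 19) (Steps.fwd (nat_lit 16384) Steps.nil)))))))))))))))) (nat_lit 77) (nat_lit 10),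
  Rule.mk (nat_lit 17) (nat_lit 110) (Steps.fwd (nat_lit 122880) (Steps.bwd (nat_lit 4) (Steps.fwd (nat_lit 24576) (Steps.bwd (nat_lit 9) (Steps.bwd (nat_lit 16) (Steps.bwd (nat_lit 9) Steps.nil)))))) (nat_lit 64) (nat_lit 4),
  Rule.mk (nat_lit 14) (nat_lit 158) (Steps.fwd (nat_lit 73728) (Steps.fwd (nat_lit 16384) (Steps.fwd (nat_lit 139264) (Steps.fwd (nat_lit 90112) (Steps.fwd (nat_lit 98304) (Steps.fwd (nat_lit 8192) (Steps.bwd (nat_lit 4) (Steps.bwd (nat_lit 4) (Steps.bwd (nat_lit 9) Steps.nil))))))))) (nat_lit 62) (nat_lit 2),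
  Rule.mk (nat_lit 15) (nat_lit 158) (Steps.fwd (nat_lit 73728) (Steps.bwd (nat_lit 3) (Steps.fwd (nat_lit 32768) (Steps.fwd (nat_lit 16384) (Steps.fwd (nat_lit 106496) (Steps.bwd (nat_lit 11) (Steps.fwd (nat_lit 131072) (Steps.bwd (nat_lit 2) (Steps.bwd (nat_lit 9) Steps.nil))))))))) (nat_lit 63) (nat_lit 9),
  Rule.mk (nat_lit 1) (nat_lit 158) (Steps.bwd (nat_lit 16) (Steps.fwd (nat_lit 90112) (Steps.fwd (nat_lit 98304) (Steps.fwd (nat_lit 8192) (Steps.fwd (nat_lit 24576) (Steps.fwd (nat_lit 24576) (Steps.fwd (nat_lit 73728) (Steps.bwd (nat_lit 14) (Steps.fwd (nat_lit 73728) Steps.nil))))))))) (nat_lit 62) (nat_lit 4),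
  Rule.mk (nat_lit 14) (nat_lit 110) (Steps.bwd (nat_lit 4) (Steps.fwd (nat_lit 24576) (Steps.bwd (nat_lit 9) (Steps.bwd (nat_lit 16) (Steps.fwd (nat_lit 73728) (Steps.bwd (nat_lit 17) Steps.nil)))))) (nat_lit 64) (nat_lit 5),
  Rule.mk (nat_lit 17) (nat_lit 126) (Steps.bwd (nat_lit 4) (Steps.fwd (nat_lit 98304) (Steps.fwd (nat_lit 32768) (Steps.bwd (nat_lit 12) (Steps.bwd (nat_lit 14) (Steps.bwd (nat_lit 17) (Steps.fwd (nat_lit 81920) Steps.nil))))))) (nat_lit 51) (nat_lit 5),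
  Rule.mk (nat_lit 9) (nat_lit 286) (Steps.bwd (nat_lit 4) (Steps.fwd (nat_lit 24576) (Steps.bwd (nat_lit 2) (Steps.fwd (nat_lit 81920) (Steps.fwd (nat_lit 16384) (Steps.fwd (nat_lit 90112) (Steps.fwd (nat_lit 8192) (Steps.bwd (nat_lit 10) (Steps.fwd (nat_lit 16384) (Steps.fwd (nat_lit 65536) (Steps.fwd (nat_lit 90112) (Steps.bwd (nat_lit 3) (Steps.fwd (nat_lit 16384) (Steps.fwd (nat_lit 24576) (Steps.fwd (nat_lit 65536) (Steps.bwd (nat_lit 10) (Steps.bwd (nat_lit 7) Steps.nil))))))))))))))))) (nat_lit 57) (nat_lit 0),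
  Rule.mk (nat_lit 12) (nat_lit 190) (Steps.bwd (nat_lit 17) (Steps.fwd (nat_lit 16384) (Steps.fwd (nat_lit 122880) (Steps.fwd (nat_lit 16384) (Steps.fwd (nat_lit 16384) (Steps.fwd (nat_lit 16384) (Steps.bwd (nat_lit 9) (Steps.fwd (nat_lit 106496) (Steps.fwd (nat_lit 73728) (Steps.fwd (nat_lit 98304) (Steps.bwd (nat_lit 9) Steps.nil))))))))))) (nat_lit 74) (nat_lit 6),
  Rule.mk (nat_lit 9) (nat_lit 190) (Steps.bwd (nat_lit 2) (Steps.fwd (nat_lit 8192) (Steps.fwd (nat_lit 8192) (Steps.fwd (nat_lit 114688) (Steps.bwd (nat_lit 2) (Steps.bwd (nat_lit 16) (Steps.fwd (nat_lit 98304) (Steps.fwd (nat_lit 73728) (Steps.bwd (nat_lit 12) (Steps.bwd (nat_lit 9) (Steps.fwd (nat_lit 98304) Steps.nil))))))))))) (nat_lit 75) (nat_lit 0),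
  Rule.mk (nat_lit 7) (nat_lit 94) (Steps.fwd (nat_lit 16384) (Steps.bwd (nat_lit 1) (Steps.fwd (nat_lit 16384) (Steps.fwd (nat_lit 57344) (Steps.bwd (nat_lit 2) Steps.nil))))) (nat_lit 83) (nat_lit 0),
  Rule.mk (nat_lit 9) (nat_lit 158) (Steps.fwd (nat_lit 114688) (Steps.fwd (nat_lit 73728) (Steps.fwd (nat_lit 32768) (Steps.fwd (nat_lit 32768) (Steps.fwd (nat_lit 16384) (Steps.bwd (nat_lit 12) (Steps.fwd (nat_lit 81920) (Steps.fwd (nat_lit 131072) (Steps.bwd (nat_lit 2) Steps.nil))))))))) (nat_lit 63) (nat_lit 8),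
  Rule.mk (nat_lit 4) (nat_lit 190) (Steps.fwd (nat_lit 16384) (Steps.bwd (nat_lit 3) (Steps.bwd (nat_lit 2) (Steps.bwd (nat_lit 4) (Steps.fwd (nat_lit 16384) (Steps.bwd (nat_lit 3) (Steps.bwd (nat_lit 2) (Steps.bwd (nat_lit 4) (Steps.bwd (nat_lit 1) (Steps.bwd (nat_lit 3) (Steps.bwd (nat_lit 2) Steps.nil))))))))))) (nat_lit 8) (nat_lit 2),
  Rule.mk (nat_lit 3) (nat_lit 190) (Steps.bwd (nat_lit 1) (Steps.fwd (nat_lit 24576) (Steps.fwd (nat_lit 8192) (Steps.bwd (nat_lit 3) (Steps.bwd (nat_lit 1) (Steps.bwd (nat_lit 4) (Steps.bwd (nat_lit 2) (Steps.bwd (nat_lit 3) (Steps.fwd (nat_lit 16384) (Steps.bwd (nat_lit 4) (Steps.bwd (nat_lit 2) Steps.nil))))))))))) (nat_lit 9) (nat_lit 3),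
  Rule.mk (nat_lit 12) (nat_lit 190) (Steps.bwd (nat_lit 9) (Steps.fwd (nat_lit 98304) (Steps.fwd (nat_lit 73728) (Steps.fwd (nat_lit 106496) (Steps.bwd (nat_lit 17) (Steps.fwd (nat_lit 16384) (Steps.bwd (nat_lit 14) (Steps.fwd (nat_lit 16384) (Steps.fwd (nat_lit 16384) (Steps.fwd (nat_lit 16384) (Steps.bwd (nat_lit 9) Steps.nil))))))))))) (nat_lit 74) (nat_lit 2),
  Rule.mk (nat_lit 13) (nat_lit 190) (Steps.bwd (nat_lit 9) (Steps.bwd (nat_lit 2) (Steps.bwd (nat_lit 2) (Steps.fwd (nat_lit 8192) (Steps.bwd (nat_lit 15) (Steps.fwd (nat_lit 8192) (Steps.bwd (nat_lit 16) (Steps.bwd (nat_lit 13) (Steps.fwd (nat_lit 73728) (Steps.bwd (nat_lit 12) (Steps.fwd (nat_lit 73728) Steps.nil))))))))))) (nat_lit 75) (nat_lit 11),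
  Rule.mk (nat_lit 17) (nat_lit 126) (Steps.bwd (nat_lit 4) (Steps.bwd (nat_lit 13) (Steps.fwd (nat_lit 32768) (Steps.fwd (nat_lit 106496) (Steps.bwd (nat_lit 14) (Steps.bwd (nat_lit 17) (Steps.fwd (nat_lit 81920) Steps.nil))))))) (nat_lit 51) (nat_lit 5),
  Rule.mk (nat_lit 11) (nat_lit 126) (Steps.bwd (nat_lit 4) (Steps.fwd (nat_lit 122880) (Steps.fwd (nat_lit 32768) (Steps.bwd (nat_lit 14) (Steps.bwd (nat_lit 14) (Steps.fwd (nat_lit 131072) (Steps.fwd (nat_lit 81920) Steps.nil))))))) (nat_lit 52) (nat_lit 0),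
  Rule.mk (nat_lit 14) (nat_lit 126) (Steps.fwd (nat_lit 32768) (Steps.fwd (nat_lit 122880) (Steps.bwd (nat_lit 14) (Steps.fwd (nat_lit 131072) (Steps.bwd (nat_lit 11) (Steps.bwd (nat_lit 11) (Steps.bwd (nat_lit 4) Steps.nil))))))) (nat_lit 52) (nat_lit 2),
  Rule.mk (nat_lit 2) (nat_lit 206) (Steps.bwd (nat_lit 9) (Steps.bwd (nat_lit 1) (Steps.bwd (nat_lit 3) (Steps.fwd (nat_lit 32768) (Steps.bwd (nat_lit 1) (Steps.bwd (nat_lit 4) (Steps.fwd (nat_lit 16384) (Steps.fwd (nat_lit 90112) (Steps.bwd (nat_lit 18) (Steps.fwd (nat_lit 131072) (Steps.fwd (nat_lit 73728) (Steps.fwd (nat_lit 8192) Steps.nil)))))))))))) (nat_lit 69) (nat_lit 12),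
  Rule.mk (nat_lit 7) (nat_lit 158) (Steps.bwd (nat_lit 18) (Steps.bwd (nat_lit 7) (Steps.bwd (nat_lit 18) (Steps.fwd (nat_lit 65536) (Steps.fwd (nat_lit 155648) (Steps.bwd (nat_lit 7) (Steps.bwd (nat_lit 18) (Steps.bwd (nat_lit 7) (Steps.fwd (nat_lit 155648) Steps.nil))))))))) (nat_lit 84) (nat_lit 1),
  Rule.mk (nat_lit 14) (nat_lit 110) (Steps.bwd (nat_lit 11) (Steps.bwd (nat_lit 9) (Steps.fwd (nat_lit 155648) (Steps.bwd (nat_lit 9) (Steps.fwd (nat_lit 139264) (Steps.bwd (nat_lit 11) Steps.nil)))))) (nat_lit 66) (nat_lit 6),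
  Rule.mk (nat_lit 16) (nat_lit 110) (Steps.bwd (nat_lit 11) (Steps.bwd (nat_lit 14) (Steps.fwd (nat_lit 81920) (Steps.bwd (nat_lit 9) (Steps.bwd (nat_lit 18) (Steps.fwd (nat_lit 73728) Steps.nil)))))) (nat_lit 66) (nat_lit 4),
  Rule.mk (nat_lit 2) (nat_lit 286) (Steps.bwd (nat_lit 11) (Steps.fwd (nat_lit 16384) (Steps.fwd (nat_lit 81920) (Steps.bwd (nat_lit 2) (Steps.fwd (nat_lit 90112) (Steps.bwd (nat_lit 1) (Steps.bwd (nat_lit 3) (Steps.fwd (nat_lit 32768) (Steps.bwd (nat_lit 9) (Steps.fwd (nat_lit 57344) (Steps.bwd (nat_lit 11) (Steps.fwd (nat_lit 57344) (Steps.fwd (nat_lit 32768) (Steps.fwd (nat_lit 8192) (Steps.fwd (nat_lit 24576) (Steps.bwd (nat_lit 11) (Steps.fwd (nat_lit 57344) Steps.nil))))))))))))))))) (nat_lit 56) (nat_lit 10),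
  Rule.mk (nat_lit 9) (nat_lit 190) (Steps.bwd (nat_lit 12) (Steps.fwd (nat_lit 73728) (Steps.bwd (nat_lit 13) (Steps.fwd (nat_lit 73728) (Steps.fwd (nat_lit 106496) (Steps.bwd (nat_lit 17) (Steps.fwd (nat_lit 16384) (Steps.fwd (nat_lit 122880) (Steps.bwd (nat_lit 1) (Steps.bwd (nat_lit 1) (Steps.fwd (nat_lit 16384) Steps.nil))))))))))) (nat_lit 74) (nat_lit 1),
  Rule.mk (nat_lit 4) (nat_lit 270) (Steps.bwd (nat_lit 12) (Steps.fwd (nat_lit 8192) (Steps.bwd (nat_lit 9) (Steps.bwd (nat_lit 2) (Steps.fwd (nat_lit 73728) (Steps.bwd (nat_lit 2) (Steps.fwd (nat_lit 155648) (Steps.bwd (nat_lit 16) (Steps.fwd (nat_lit 90112) (Steps.fwd (nat_lit 32768) (Steps.fwd (nat_lit 16384) (Steps.bwd (nat_lit 4) (Steps.fwd (nat_lit 24576) (Steps.bwd (nat_lit 2) (Steps.bwd (nat_lit 7) (Steps.fwd (nat_lit 73728) Steps.nil)))))))))))))))) (nat_lit 76) (nat_lit 3),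
  Rule.mk (nat_lit 13) (nat_lit 190) (Steps.bwd (nat_lit 9) (Steps.fwd (nat_lit 106496) (Steps.fwd (nat_lit 131072) (Steps.bwd (nat_lit 1) (Steps.fwd (nat_lit 122880) (Steps.fwd (nat_lit 16384) (Steps.bwd (nat_lit 1) (Steps.bwd (nat_lit 1) (Steps.fwd (nat_lit 73728) (Steps.fwd (nat_lit 106496) (Steps.bwd (nat_lit 9) Steps.nil))))))))))) (nat_lit 74) (nat_lit 4),
  Rule.mk (nat_lit 4) (nat_lit 126) (Steps.bwd (nat_lit 13) (Steps.bwd (nat_lit 3) (Steps.bwd (nat_lit 12) (Steps.fwd (nat_lit 122880) (Steps.fwd (nat_lit 131072) (Steps.bwd (nat_lit 11) (Steps.bwd (nat_lit 17) Steps.nil))))))) (nat_lit 51) (nat_lit 6),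
  Rule.mk (nat_lit 10) (nat_lit 142) (Steps.bwd (nat_lit 13) (Steps.bwd (nat_lit 15) (Steps.fwd (nat_lit 139264) (Steps.fwd (nat_lit 90112) (Steps.fwd (nat_lit 139264) (Steps.bwd (nat_lit 2) (Steps.fwd (nat_lit 131072) (Steps.bwd (nat_lit 1) Steps.nil)))))))) (nat_lit 47) (nat_lit 1),
  Rule.mk (nat_lit 9) (nat_lit 110) (Steps.fwd (nat_lit 90112) (Steps.fwd (nat_lit 24576) (Steps.bwd (nat_lit 15) (Steps.bwd (nat_lit 4) (Steps.bwd (nat_lit 9) (Steps.bwd (nat_lit 10) Steps.nil)))))) (nat_lit 60) (nat_lit 3),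
  Rule.mk (nat_lit 4) (nat_lit 206) (Steps.bwd (nat_lit 1) (Steps.fwd (nat_lit 73728) (Steps.fwd (nat_lit 139264) (Steps.bwd (nat_lit 19) (Steps.fwd (nat_lit 81920) (Steps.fwd (nat_lit 8192) (Steps.bwd (nat_lit 2) (Steps.fwd (nat_lit 73728) (Steps.fwd (nat_lit 16384) (Steps.fwd (nat_lit 32768) (Steps.fwd (nat_lit 32768) (Steps.bwd (nat_lit 1) Steps.nil)))))))))))) (nat_lit 72) (nat_lit 6),
  Rule.mk (nat_lit 9) (nat_lit 270) (Steps.bwd (nat_lit 1) (Steps.bwd (nat_lit 13) (Steps.fwd (nat_lit 32768) (Steps.bwd (nat_lit 9) (Steps.fwd (nat_lit 57344) (Steps.fwd (nat_lit 16384) (Steps.fwd (nat_lit 32768) (Steps.bwd (nat_lit 3) (Steps.bwd (nat_lit 2) (Steps.bwd (nat_lit 4) (Steps.fwd (nat_lit 81920) (Steps.fwd (nat_lit 131072) (Steps.fwd (nat_lit 147456) (Steps.bwd (nat_lit 1) (Steps.bwd (nat_lit 9) (Steps.bwd (nat_lit 1) Steps.nil)))))))))))))))) (nat_lit 77) (nat_lit 12),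
  Rule.mk (nat_lit 8) (nat_lit 270) (Steps.bwd (nat_lit 1) (Steps.fwd (nat_lit 32768) (Steps.fwd (nat_lit 32768) (Steps.fwd (nat_lit 8192) (Steps.bwd (nat_lit 4) (Steps.fwd (nat_lit 81920) (Steps.bwd (nat_lit 17) (Steps.fwd (nat_lit 147456) (Steps.fwd (nat_lit 16384) (Steps.fwd (nat_lit 73728) (Steps.fwd (nat_lit 16384) (Steps.fwd (nat_lit 73728) (Steps.fwd (nat_lit 16384) (Steps.bwd (nat_lit 13) (Steps.bwd (nat_lit 3) (Steps.bwd (nat_lit 9) Steps.nil)))))))))))))))) (nat_lit 77) (nat_lit 0),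
  Rule.mk (nat_lit 11) (nat_lit 286) (Steps.bwd (nat_lit 8) (Steps.fwd (nat_lit 32768) (Steps.fwd (nat_lit 8192) (Steps.bwd (nat_lit 4) (Steps.fwd (nat_lit 81920) (Steps.bwd (nat_lit 8) (Steps.bwd (nat_lit 2) (Steps.bwd (nat_lit 11) (Steps.bwd (nat_lit 1) (Steps.bwd (nat_lit 11) (Steps.bwd (nat_lit 2) (Steps.fwd (nat_lit 90112) (Steps.fwd (nat_lit 16384) (Steps.fwd (nat_lit 32768) (Steps.bwd (nat_lit 3) (Steps.bwd (nat_lit 9) (Steps.bwd (nat_lit 8) Steps.nil))))))))))))))))) (nat_lit 56) (nat_lit 3),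
  Rule.mk (nat_lit 18) (nat_lit 94) (Steps.bwd (nat_lit 11) (Steps.fwd (nat_lit 114688) (Steps.bwd (nat_lit 10) (Steps.fwd (nat_lit 122880) (Steps.bwd (nat_lit 18) Steps.nil))))) (nat_lit 32) (nat_lit 0),
  Rule.mk (nat_lit 17) (nat_lit 126) (Steps.bwd (nat_lit 11) (Steps.fwd (nat_lit 131072) (Steps.fwd (nat_lit 24576) (Steps.bwd (nat_lit 13) (Steps.fwd (nat_lit 32768) (Steps.bwd (nat_lit 12) (Steps.bwd (nat_lit 14) Steps.nil))))))) (nat_lit 51) (nat_lit 3),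
  Rule.mk (nat_lit 14) (nat_lit 110) (Steps.bwd (nat_lit 3) (Steps.bwd (nat_lit 11) (Steps.bwd (nat_lit 9) (Steps.fwd (nat_lit 81920) (Steps.bwd (nat_lit 9) (Steps.bwd (nat_lit 3) Steps.nil)))))) (nat_lit 61) (nat_lit 2),
  Rule.mk (nat_lit 11) (nat_lit 110) (Steps.bwd (nat_lit 9) (Steps.bwd (nat_lit 3) (Steps.bwd (nat_lit 14) (Steps.fwd (nat_lit 32768) (Steps.bwd (nat_lit 11) (Steps.bwd (nat_lit 9) Steps.nil)))))) (nat_lit 61) (nat_lit 6),
  Rule.mk (nat_lit 18) (nat_lit 110) (Steps.fwd (nat_lit 73728) (Steps.bwd (nat_lit 16) (Steps.fwd (nat_lit 81920) (Steps.bwd (nat_lit 14) (Steps.bwd (nat_lit 11) (Steps.bwd (nat_lit 9) Steps.nil)))))) (nat_lit 66) (nat_lit 2),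
  Rule.mk (nat_lit 14) (nat_lit 158) (Steps.bwd (nat_lit 9) (Steps.fwd (nat_lit 16384) (Steps.bwd (nat_lit 16) (Steps.bwd (nat_lit 10) (Steps.bwd (nat_lit 13) (Steps.bwd (nat_lit 2) (Steps.bwd (nat_lit 4) (Steps.fwd (nat_lit 24576) (Steps.bwd (nat_lit 9) Steps.nil))))))))) (nat_lit 62) (nat_lit 2),
  Rule.mk (nat_lit 9) (nat_lit 110) (Steps.bwd (nat_lit 16) (Steps.fwd (nat_lit 73728) (Steps.fwd (nat_lit 131072) (Steps.fwd (nat_lit 122880) (Steps.bwd (nat_lit 4) (Steps.bwd (nat_lit 4) Steps.nil)))))) (nat_lit 64) (nat_lit 1),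
  Rule.mk (nat_lit 15) (nat_lit 110) (Steps.bwd (nat_lit 16) (Steps.fwd (nat_lit 73728) (Steps.fwd (nat_lit 131072) (Steps.fwd (nat_lit 73728) (Steps.bwd (nat_lit 3) (Steps.fwd (nat_lit 32768) Steps.nil)))))) (nat_lit 65) (nat_lit 3),
  Rule.mk (nat_lit 10) (nat_lit 126) (Steps.bwd (nat_lit 16) (Steps.fwd (nat_lit 114688) (Steps.fwd (nat_lit 98304) (Steps.bwd (nat_lit 4) (Steps.fwd (nat_lit 106496) (Steps.bwd (nat_lit 3) (Steps.bwd (nat_lit 16) Steps.nil))))))) (nat_lit 50) (nat_lit 5),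
  Rule.mk (nat_lit 4) (nat_lit 110) (Steps.fwd (nat_lit 114688) (Steps.bwd (nat_lit 4) (Steps.fwd (nat_lit 73728) (Steps.bwd (nat_lit 10) (Steps.bwd (nat_lit 9) (Steps.bwd (nat_lit 10) Steps.nil)))))) (nat_lit 60) (nat_lit 5),
  Rule.mk (nat_lit 17) (nat_lit 110) (Steps.fwd (nat_lit 73728) (Steps.bwd (nat_lit 19) (Steps.fwd (nat_lit 73728) (Steps.fwd (nat_lit 90112) (Steps.fwd (nat_lit 114688) (Steps.bwd (nat_lit 10) Steps.nil)))))) (nat_lit 67) (nat_lit 4),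
  Rule.mk (nat_lit 14) (nat_lit 78) (Steps.bwd (nat_lit 19) (Steps.bwd (nat_lit 17) (Steps.bwd (nat_lit 15) (Steps.fwd (nat_lit 139264) Steps.nil)))) (nat_lit 41) (nat_lit 0),
  Rule.mk (nat_lit 9) (nat_lit 110) (Steps.bwd (nat_lit 19) (Steps.fwd (nat_lit 73728) (Steps.fwd (nat_lit 90112) (Steps.fwd (nat_lit 114688) (Steps.fwd (nat_lit 90112) (Steps.fwd (nat_lit 131072) Steps.nil)))))) (nat_lit 67) (nat_lit 5),
  Rule.mk (nat_lit 7) (nat_lit 126) (Steps.bwd (nat_lit 19) (Steps.fwd (nat_lit 65536) (Steps.bwd (nat_lit 18) (Steps.fwd (nat_lit 8192) (Steps.bwd (nat_lit 2) (Steps.bwd (nat_lit 7) (Steps.bwd (nat_lit 18) Steps.nil))))))) (nat_lit 86) (nat_lit 3),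
  Rule.mk (nat_lit 9) (nat_lit 110) (Steps.bwd (nat_lit 16) (Steps.fwd (nat_lit 73728) (Steps.bwd (nat_lit 17) (Steps.bwd (nat_lit 14) (Steps.bwd (nat_lit 4) (Steps.fwd (nat_lit 24576) Steps.nil)))))) (nat_lit 64) (nat_lit 1),
  Rule.mk (nat_lit 16) (nat_lit 110) (Steps.bwd (nat_lit 16) (Steps.fwd (nat_lit 122880) (Steps.fwd (nat_lit 81920) (Steps.bwd (nat_lit 9) (Steps.bwd (nat_lit 3) (Steps.bwd (nat_lit 9) Steps.nil)))))) (nat_lit 70) (nat_lit 4),
  Rule.mk (nat_lit 3) (nat_lit 126) (Steps.bwd (nat_lit 16) (Steps.bwd (nat_lit 10) (Steps.bwd (nat_lit 16) (Steps.fwd (nat_lit 114688) (Steps.fwd (nat_lit 98304) (Steps.fwd (nat_lit 24576) (Steps.bwd (nat_lit 12) Steps.nil))))))) (nat_lit 50) (nat_lit 3),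
  Rule.mk (nat_lit 2) (nat_lit 94) (Steps.bwd (nat_lit 8) (Steps.fwd (nat_lit 16384) (Steps.fwd (nat_lit 65536) (Steps.fwd (nat_lit 8192) (Steps.fwd (nat_lit 8192) Steps.nil))))) (nat_lit 82) (nat_lit 0),
  Rule.mk (nat_lit 1) (nat_lit 94) (Steps.bwd (nat_lit 8) (Steps.fwd (nat_lit 8192) (Steps.fwd (nat_lit 65536) (Steps.bwd (nat_lit 1) (Steps.fwd (nat_lit 16384) Steps.nil))))) (nat_lit 83) (nat_lit 3),
  Rule.mk (nat_lit 8) (nat_lit 286) (Steps.bwd (nat_lit 11) (Steps.bwd (nat_lit 8) (Steps.bwd (nat_lit 3) (Steps.bwd (nat_lit 2) (Steps.bwd (nat_lit 4) (Steps.fwd (nat_lit 81920) (Steps.bwd (nat_lit 8) (Steps.bwd (nat_lit 2) (Steps.fwd (nat_lit 81920) (Steps.bwd (nat_lit 1) (Steps.bwd (nat_lit 11) (Steps.bwd (nat_lit 2) (Steps.fwd (nat_lit 90112) (Steps.bwd (nat_lit 1) (Steps.fwd (nat_lit 32768) (Steps.fwd (nat_lit 32768) (Steps.fwd (nat_lit 73728) Steps.nil))))))))))))))))) (nat_lit 56) (nat_lit 2),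
  Rule.mk (nat_lit 15) (nat_lit 158) (Steps.bwd (nat_lit 9) (Steps.bwd (nat_lit 3) (Steps.bwd (nat_lit 3) (Steps.bwd (nat_lit 1) (Steps.fwd (nat_lit 106496) (Steps.bwd (nat_lit 11) (Steps.fwd (nat_lit 131072) (Steps.bwd (nat_lit 2) (Steps.bwd (nat_lit 9) Steps.nil))))))))) (nat_lit 63) (nat_lit 9)]
noncomputable def R_101 : List (Rule) := [Rule.mk (nat_lit 15) (nat_lit 94) (Steps.bwd (nat_lit 11) (Steps.fwd (nat_lit 122880) (Steps.fwd (nat_lit 90112) (Steps.fwd (nat_lit 147456) (Steps.bwd (nat_lit 19) Steps.nil))))) (nat_lit 33) (nat_lit 3),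
  Rule.mk (nat_lit 9) (nat_lit 110) (Steps.bwd (nat_lit 11) (Steps.fwd (nat_lit 73728) (Steps.fwd (nat_lit 32768) (Steps.bwd (nat_lit 14) (Steps.fwd (nat_lit 32768) (Steps.fwd (nat_lit 81920) Steps.nil)))))) (nat_lit 61) (nat_lit 5),
  Rule.mk (nat_lit 14) (nat_lit 110) (Steps.bwd (nat_lit 11) (Steps.fwd (nat_lit 73728) (Steps.fwd (nat_lit 155648) (Steps.fwd (nat_lit 73728) (Steps.fwd (nat_lit 139264) (Steps.bwd (nat_lit 11) Steps.nil)))))) (nat_lit 66) (nat_lit 6),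
  Rule.mk (nat_lit 17) (nat_lit 126) (Steps.bwd (nat_lit 11) (Steps.fwd (nat_lit 131072) (Steps.fwd (nat_lit 24576) (Steps.bwd (nat_lit 13) (Steps.fwd (nat_lit 32768) (Steps.bwd (nat_lit 12) (Steps.fwd (nat_lit 122880) Steps.nil))))))) (nat_lit 51) (nat_lit 3),
  Rule.mk (nat_lit 1) (nat_lit 190) (Steps.bwd (nat_lit 14) (Steps.fwd (nat_lit 16384) (Steps.bwd (nat_lit 1) (Steps.fwd (nat_lit 16384) (Steps.bwd (nat_lit 9) (Steps.fwd (nat_lit 106496) (Steps.fwd (nat_lit 73728) (Steps.bwd (nat_lit 13) (Steps.bwd (nat_lit 9) (Steps.bwd (nat_lit 12) (Steps.bwd (nat_lit 17) Steps.nil))))))))))) (nat_lit 74) (nat_lit 8),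
  Rule.mk (nat_lit 14) (nat_lit 110) (Steps.bwd (nat_lit 11) (Steps.fwd (nat_lit 73728) (Steps.bwd (nat_lit 18) (Steps.bwd (nat_lit 9) (Steps.fwd (nat_lit 139264) (Steps.bwd (nat_lit 11) Steps.nil)))))) (nat_lit 66) (nat_lit 6),
  Rule.mk (nat_lit 7) (nat_lit 158) (Steps.bwd (nat_lit 18) (Steps.fwd (nat_lit 65536) (Steps.fwd (nat_lit 155648) (Steps.fwd (nat_lit 65536) (Steps.fwd (nat_lit 155648) (Steps.fwd (nat_lit 65536) (Steps.bwd (nat_lit 18) (Steps.fwd (nat_lit 65536) (Steps.bwd (nat_lit 18) Steps.nil))))))))) (nat_lit 84) (nat_lit 1),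
  Rule.mk (nat_lit 19) (nat_lit 126) (Steps.bwd (nat_lit 8) (Steps.fwd (nat_lit 155648) (Steps.bwd (nat_lit 8) (Steps.bwd (nat_lit 19) (Steps.bwd (nat_lit 8) (Steps.bwd (nat_lit 1) (Steps.bwd (nat_lit 1) Steps.nil))))))) (nat_lit 87) (nat_lit 3),
  Rule.mk (nat_lit 8) (nat_lit 286) (Steps.bwd (nat_lit 11) (Steps.bwd (nat_lit 8) (Steps.bwd (nat_lit 3) (Steps.fwd (nat_lit 8192) (Steps.bwd (nat_lit 4) (Steps.bwd (nat_lit 11) (Steps.bwd (nat_lit 8) (Steps.bwd (nat_lit 2) (Steps.bwd (nat_lit 11) (Steps.bwd (nat_lit 1) (Steps.fwd (nat_lit 81920) (Steps.fwd (nat_lit 8192) (Steps.fwd (nat_lit 90112) (Steps.fwd (nat_lit 16384) (Steps.bwd (nat_lit 3) (Steps.fwd (nat_lit 32768) (Steps.bwd (nat_lit 9) Steps.nil))))))))))))))))) (nat_lit 56) (nat_lit 2),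
  Rule.mk (nat_lit 11) (nat_lit 270) (Steps.fwd (nat_lit 131072) (Steps.fwd (nat_lit 147456) (Steps.fwd (nat_lit 16384) (Steps.bwd (nat_lit 9) (Steps.bwd (nat_lit 1) (Steps.fwd (nat_lit 73728) (Steps.fwd (nat_lit 16384) (Steps.fwd (nat_lit 98304) (Steps.bwd (nat_lit 3) (Steps.bwd (nat_lit 9) (Steps.fwd (nat_lit 57344) (Steps.fwd (nat_lit 16384) (Steps.fwd (nat_lit 32768) (Steps.fwd (nat_lit 32768) (Steps.bwd (nat_lit 2) (Steps.bwd (nat_lit 4) Steps.nil)))))))))))))))) (nat_lit 77) (nat_lit 6),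
  Rule.mk (nat_lit 16) (nat_lit 126) (Steps.bwd (nat_lit 15) (Steps.fwd (nat_lit 98304) (Steps.fwd (nat_lit 24576) (Steps.fwd (nat_lit 106496) (Steps.fwd (nat_lit 32768) (Steps.bwd (nat_lit 16) (Steps.bwd (nat_lit 10) Steps.nil))))))) (nat_lit 50) (nat_lit 6),
  Rule.mk (nat_lit 9) (nat_lit 158) (Steps.bwd (nat_lit 15) (Steps.fwd (nat_lit 73728) (Steps.fwd (nat_lit 32768) (Steps.fwd (nat_lit 32768) (Steps.fwd (nat_lit 16384) (Steps.bwd (nat_lit 12) (Steps.bwd (nat_lit 11) (Steps.fwd (nat_lit 131072) (Steps.fwd (nat_lit 8192) Steps.nil))))))))) (nat_lit 63) (nat_lit 8),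
  Rule.mk (nat_lit 11) (nat_lit 110) (Steps.fwd (nat_lit 73728) (Steps.bwd (nat_lit 3) (Steps.bwd (nat_lit 14) (Steps.bwd (nat_lit 3) (Steps.fwd (nat_lit 81920) (Steps.bwd (nat_lit 9) Steps.nil)))))) (nat_lit 61) (nat_lit 6),
  Rule.mk (nat_lit 14) (nat_lit 158) (Steps.fwd (nat_lit 73728) (Steps.fwd (nat_lit 16384) (Steps.bwd (nat_lit 16) (Steps.bwd (nat_lit 10) (Steps.fwd (nat_lit 98304) (Steps.fwd (nat_lit 8192) (Steps.fwd (nat_lit 24576) (Steps.bwd (nat_lit 4) (Steps.bwd (nat_lit 9) Steps.nil))))))))) (nat_lit 62) (nat_lit 2),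
  Rule.mk (nat_lit 1) (nat_lit 206) (Steps.fwd (nat_lit 16384) (Steps.bwd (nat_lit 9) (Steps.bwd (nat_lit 16) (Steps.fwd (nat_lit 147456) (Steps.bwd (nat_lit 11) (Steps.bwd (nat_lit 2) (Steps.bwd (nat_lit 3) (Steps.fwd (nat_lit 8192) (Steps.fwd (nat_lit 24576) (Steps.fwd (nat_lit 24576) (Steps.fwd (nat_lit 8192) (Steps.bwd (nat_lit 9) Steps.nil)))))))))))) (nat_lit 68) (nat_lit 2),
  Rule.mk (nat_lit 8) (nat_lit 94) (Steps.bwd (nat_lit 1) (Steps.fwd (nat_lit 16384) (Steps.bwd (nat_lit 1) (Steps.bwd (nat_lit 1) (Steps.fwd (nat_lit 57344) Steps.nil))))) (nat_lit 79) (nat_lit 0),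
  Rule.mk (nat_lit 9) (nat_lit 110) (Steps.bwd (nat_lit 18) (Steps.fwd (nat_lit 73728) (Steps.bwd (nat_lit 16) (Steps.fwd (nat_lit 81920) (Steps.bwd (nat_lit 14) (Steps.bwd (nat_lit 11) Steps.nil)))))) (nat_lit 66) (nat_lit 1),
  Rule.mk (nat_lit 2) (nat_lit 270) (Steps.bwd (nat_lit 18) (Steps.bwd (nat_lit 16) (Steps.fwd (nat_lit 90112) (Steps.bwd (nat_lit 3) (Steps.fwd (nat_lit 16384) (Steps.fwd (nat_lit 24576) (Steps.fwd (nat_lit 24576) (Steps.bwd (nat_lit 2) (Steps.bwd (nat_lit 7) (Steps.fwd (nat_lit 73728) (Steps.fwd (nat_lit 24576) (Steps.fwd (nat_lit 106496) (Steps.bwd (nat_lit 2) (Steps.bwd (nat_lit 9) (Steps.bwd (nat_lit 2) (Steps.fwd (nat_lit 73728) Steps.nil)))))))))))))))) (nat_lit 76) (nat_lit 9),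
  Rule.mk (nat_lit 7) (nat_lit 94) (Steps.fwd (nat_lit 65536) (Steps.bwd (nat_lit 2) (Steps.bwd (nat_lit 2) (Steps.bwd (nat_lit 2) (Steps.fwd (nat_lit 8192) Steps.nil))))) (nat_lit 78) (nat_lit 1),
  Rule.mk (nat_lit 16) (nat_lit 110) (Steps.bwd (nat_lit 11) (Steps.fwd (nat_lit 122880) (Steps.fwd (nat_lit 81920) (Steps.bwd (nat_lit 9) (Steps.fwd (nat_lit 155648) (Steps.fwd (nat_lit 73728) Steps.nil)))))) (nat_lit 66) (nat_lit 4),
  Rule.mk (nat_lit 12) (nat_lit 142) (Steps.bwd (nat_lit 11) (Steps.fwd (nat_lit 8192) (Steps.fwd (nat_lit 139264) (Steps.fwd (nat_lit 16384) (Steps.fwd (nat_lit 131072) (Steps.fwd (nat_lit 81920) (Steps.bwd (nat_lit 17) (Steps.bwd (nat_lit 14) Steps.nil)))))))) (nat_lit 46) (nat_lit 8),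
  Rule.mk (nat_lit 14) (nat_lit 110) (Steps.bwd (nat_lit 1) (Steps.fwd (nat_lit 131072) (Steps.bwd (nat_lit 11) (Steps.bwd (nat_lit 14) (Steps.fwd (nat_lit 122880) (Steps.fwd (nat_lit 8192) Steps.nil)))))) (nat_lit 44) (nat_lit 2),
  Rule.mk (nat_lit 17) (nat_lit 142) (Steps.bwd (nat_lit 1) (Steps.fwd (nat_lit 90112) (Steps.bwd (nat_lit 13) (Steps.bwd (nat_lit 15) (Steps.fwd (nat_lit 139264) (Steps.bwd (nat_lit 10) (Steps.fwd (nat_lit 139264) (Steps.bwd (nat_lit 2) Steps.nil)))))))) (nat_lit 47) (nat_lit 8),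
  Rule.mk (nat_lit 9) (nat_lit 206) (Steps.bwd (nat_lit 1) (Steps.bwd (nat_lit 1) (Steps.fwd (nat_lit 73728) (Steps.bwd (nat_lit 16) (Steps.fwd (nat_lit 147456) (Steps.fwd (nat_lit 81920) (Steps.bwd (nat_lit 2) (Steps.fwd (nat_lit 32768) (Steps.bwd (nat_lit 2) (Steps.fwd (nat_lit 24576) (Steps.fwd (nat_lit 24576) (Steps.fwd (nat_lit 8192) Steps.nil)))))))))))) (nat_lit 68) (nat_lit 1),
  Rule.mk (nat_lit 4) (nat_lit 206) (Steps.bwd (nat_lit 1) (Steps.fwd (nat_lit 90112) (Steps.fwd (nat_lit 155648) (Steps.bwd (nat_lit 17) (Steps.bwd (nat_lit 9) (Steps.bwd (nat_lit 2) (Steps.fwd (nat_lit 8192) (Steps.bwd (nat_lit 9) (Steps.fwd (nat_lit 16384) (Steps.fwd (nat_lit 32768) (Steps.bwd (nat_lit 3) (Steps.bwd (nat_lit 1) Steps.nil)))))))))))) (nat_lit 69) (nat_lit 5),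
  Rule.mk (nat_lit 7) (nat_lit 286) (Steps.bwd (nat_lit 9) (Steps.fwd (nat_lit 24576) (Steps.bwd (nat_lit 4) (Steps.fwd (nat_lit 8192) (Steps.fwd (nat_lit 81920) (Steps.bwd (nat_lit 1) (Steps.fwd (nat_lit 90112) (Steps.bwd (nat_lit 2) (Steps.bwd (nat_lit 10) (Steps.fwd (nat_lit 16384) (Steps.bwd (nat_lit 7) (Steps.fwd (nat_lit 90112) (Steps.bwd (nat_lit 3) (Steps.bwd (nat_lit 1) (Steps.bwd (nat_lit 4) (Steps.bwd (nat_lit 7) (Steps.fwd (nat_lit 90112) Steps.nil))))))))))))))))) (nat_lit 57) (nat_lit 17),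
  Rule.mk (nat_lit 7) (nat_lit 286) (Steps.fwd (nat_lit 90112) (Steps.fwd (nat_lit 65536) (Steps.fwd (nat_lit 73728) (Steps.fwd (nat_lit 24576) (Steps.fwd (nat_lit 24576) (Steps.bwd (nat_lit 2) (Steps.fwd (nat_lit 81920) (Steps.fwd (nat_lit 16384) (Steps.bwd (nat_lit 10) (Steps.bwd (nat_lit 2) (Steps.fwd (nat_lit 90112) (Steps.fwd (nat_lit 16384) (Steps.fwd (nat_lit 65536) (Steps.fwd (nat_lit 90112) (Steps.bwd (nat_lit 3) (Steps.bwd (nat_lit 1) (Steps.bwd (nat_lit 4) Steps.nil))))))))))))))))) (nat_lit 57) (nat_lit 15),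
  Rule.mk (nat_lit 10) (nat_lit 286) (Steps.bwd (nat_lit 7) (Steps.bwd (nat_lit 9) (Steps.fwd (nat_lit 24576) (Steps.bwd (nat_lit 4) (Steps.fwd (nat_lit 8192) (Steps.bwd (nat_lit 11) (Steps.bwd (nat_lit 1) (Steps.fwd (nat_lit 90112) (Steps.fwd (nat_lit 8192) (Steps.fwd (nat_lit 90112) (Steps.bwd (nat_lit 1) (Steps.fwd (nat_lit 65536) (Steps.fwd (nat_lit 90112) (Steps.bwd (nat_lit 3) (Steps.fwd (nat_lit 16384) (Steps.fwd (nat_lit 24576) (Steps.bwd (nat_lit 7) Steps.nil))))))))))))))))) (nat_lit 57) (nat_lit 16),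
  Rule.mk (nat_lit 1) (nat_lit 94) (Steps.fwd (nat_lit 16384) (Steps.bwd (nat_lit 4) (Steps.fwd (nat_lit 8192) (Steps.bwd (nat_lit 2) (Steps.bwd (nat_lit 3) Steps.nil))))) (nat_lit 7) (nat_lit 5),
  Rule.mk (nat_lit 9) (nat_lit 110) (Steps.fwd (nat_lit 139264) (Steps.fwd (nat_lit 139264) (Steps.bwd (nat_lit 14) (Steps.bwd (nat_lit 11) (Steps.fwd (nat_lit 73728) (Steps.bwd (nat_lit 3) Steps.nil)))))) (nat_lit 70) (nat_lit 3),
  Rule.mk (nat_lit 2) (nat_lit 190) (Steps.bwd (nat_lit 4) (Steps.fwd (nat_lit 16384) (Steps.fwd (nat_lit 32768) (Steps.bwd (nat_lit 2) (Steps.fwd (nat_lit 24576) (Steps.fwd (nat_lit 16384) (Steps.bwd (nat_lit 3) (Steps.bwd (nat_lit 2) (Steps.bwd (nat_lit 4) (Steps.fwd (nat_lit 16384) (Steps.bwd (nat_lit 3) Steps.nil))))))))))) (nat_lit 8) (nat_lit 1),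
  Rule.mk (nat_lit 16) (nat_lit 110) (Steps.bwd (nat_lit 2) (Steps.fwd (nat_lit 114688) (Steps.fwd (nat_lit 16384) (Steps.fwd (nat_lit 114688) (Steps.bwd (nat_lit 15) (Steps.bwd (nat_lit 10) Steps.nil)))))) (nat_lit 45) (nat_lit 4),
  Rule.mk (nat_lit 17) (nat_lit 158) (Steps.bwd (nat_lit 2) (Steps.fwd (nat_lit 73728) (Steps.fwd (nat_lit 114688) (Steps.bwd (nat_lit 9) (Steps.fwd (nat_lit 32768) (Steps.fwd (nat_lit 32768) (Steps.fwd (nat_lit 16384) (Steps.bwd (nat_lit 12) (Steps.bwd (nat_lit 11) Steps.nil))))))))) (nat_lit 63) (nat_lit 6),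
  Rule.mk (nat_lit 18) (nat_lit 78) (Steps.fwd (nat_lit 114688) (Steps.fwd (nat_lit 131072) (Steps.bwd (nat_lit 14) (Steps.bwd (nat_lit 16) Steps.nil)))) (nat_lit 40) (nat_lit 0),
  Rule.mk (nat_lit 9) (nat_lit 270) (Steps.bwd (nat_lit 8) (Steps.bwd (nat_lit 1) (Steps.bwd (nat_lit 3) (Steps.bwd (nat_lit 3) (Steps.bwd (nat_lit 2) (Steps.fwd (nat_lit 24576) (Steps.bwd (nat_lit 11) (Steps.bwd (nat_lit 17) (Steps.fwd (nat_lit 147456) (Steps.fwd (nat_lit 16384) (Steps.bwd (nat_lit 9) (Steps.bwd (nat_lit 1) (Steps.bwd (nat_lit 9) (Steps.bwd (nat_lit 1) (Steps.fwd (nat_lit 98304) (Steps.bwd (nat_lit 3) Steps.nil)))))))))))))))) (nat_lit 77) (nat_lit 16),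
  Rule.mk (nat_lit 11) (nat_lit 286) (Steps.bwd (nat_lit 8) (Steps.bwd (nat_lit 3) (Steps.bwd (nat_lit 2) (Steps.fwd (nat_lit 24576) (Steps.fwd (nat_lit 81920) (Steps.fwd (nat_lit 57344) (Steps.fwd (nat_lit 8192) (Steps.fwd (nat_lit 81920) (Steps.bwd (nat_lit 1) (Steps.fwd (nat_lit 81920) (Steps.bwd (nat_lit 2) (Steps.fwd (nat_lit 90112) (Steps.bwd (nat_lit 1) (Steps.fwd (nat_lit 32768) (Steps.fwd (nat_lit 32768) (Steps.bwd (nat_lit 9) (Steps.fwd (nat_lit 57344) Steps.nil))))))))))))))))) (nat_lit 56) (nat_lit 3),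
  Rule.mk (nat_lit 1) (nat_lit 142) (Steps.fwd (nat_lit 131072) (Steps.fwd (nat_lit 81920) (Steps.fwd (nat_lit 131072) (Steps.fwd (nat_lit 122880) (Steps.fwd (nat_lit 106496) (Steps.bwd (nat_lit 11) (Steps.fwd (nat_lit 8192) (Steps.bwd (nat_lit 16) Steps.nil)))))))) (nat_lit 46) (nat_lit 3),
  Rule.mk (nat_lit 17) (nat_lit 110) (Steps.bwd (nat_lit 17) (Steps.fwd (nat_lit 73728) (Steps.bwd (nat_lit 4) (Steps.bwd (nat_lit 9) (Steps.bwd (nat_lit 10) (Steps.fwd (nat_lit 114688) Steps.nil)))))) (nat_lit 71) (nat_lit 3),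
  Rule.mk (nat_lit 1) (nat_lit 190) (Steps.fwd (nat_lit 16384) (Steps.bwd (nat_lit 1) (Steps.fwd (nat_lit 73728) (Steps.bwd (nat_lit 12) (Steps.fwd (nat_lit 73728) (Steps.fwd (nat_lit 98304) (Steps.bwd (nat_lit 9) (Steps.bwd (nat_lit 12) (Steps.fwd (nat_lit 131072) (Steps.fwd (nat_lit 16384) (Steps.bwd (nat_lit 14) Steps.nil))))))))))) (nat_lit 74) (nat_lit 10),
  Rule.mk (nat_lit 14) (nat_lit 94) (Steps.bwd (nat_lit 18) (Steps.bwd (nat_lit 18) (Steps.bwd (nat_lit 11) (Steps.fwd (nat_lit 114688) (Steps.bwd (nat_lit 10) Steps.nil))))) (nat_lit 32) (nat_lit 4),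
  Rule.mk (nat_lit 7) (nat_lit 126) (Steps.bwd (nat_lit 18) (Steps.bwd (nat_lit 7) (Steps.bwd (nat_lit 19) (Steps.bwd (nat_lit 7) (Steps.fwd (nat_lit 155648) (Steps.bwd (nat_lit 2) (Steps.fwd (nat_lit 8192) Steps.nil))))))) (nat_lit 86) (nat_lit 1),
  Rule.mk (nat_lit 16) (nat_lit 142) (Steps.fwd (nat_lit 16384) (Steps.bwd (nat_lit 17) (Steps.fwd (nat_lit 81920) (Steps.fwd (nat_lit 131072) (Steps.fwd (nat_lit 122880) (Steps.bwd (nat_lit 12) (Steps.bwd (nat_lit 11) (Steps.bwd (nat_lit 2) Steps.nil)))))))) (nat_lit 46) (nat_lit 2),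
  Rule.mk (nat_lit 9) (nat_lit 158) (Steps.bwd (nat_lit 15) (Steps.fwd (nat_lit 73728) (Steps.fwd (nat_lit 32768) (Steps.fwd (nat_lit 32768) (Steps.fwd (nat_lit 16384) (Steps.bwd (nat_lit 12) (Steps.fwd (nat_lit 81920) (Steps.bwd (nat_lit 17) (Steps.bwd (nat_lit 2) Steps.nil))))))))) (nat_lit 63) (nat_lit 8),
  Rule.mk (nat_lit 17) (nat_lit 270) (Steps.fwd (nat_lit 147456) (Steps.fwd (nat_lit 16384) (Steps.fwd (nat_lit 73728) (Steps.fwd (nat_lit 16384) (Steps.bwd (nat_lit 9) (Steps.bwd (nat_lit 1) (Steps.bwd (nat_lit 13) (Steps.bwd (nat_lit 3) (Steps.bwd (nat_lit 9) (Steps.bwd (nat_lit 8) (Steps.bwd (nat_lit 1) (Steps.bwd (nat_lit 3) (Steps.bwd (nat_lit 3) (Steps.bwd (nat_lit 2) (Steps.bwd (nat_lit 4) (Steps.bwd (nat_lit 11) Steps.nil)))))))))))))))) (nat_lit 77) (nat_lit 7),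
  Rule.mk (nat_lit 18) (nat_lit 78) (Steps.bwd (nat_lit 15) (Steps.fwd (nat_lit 131072) (Steps.fwd (nat_lit 122880) (Steps.bwd (nat_lit 16) Steps.nil)))) (nat_lit 40) (nat_lit 0),
  Rule.mk (nat_lit 1) (nat_lit 110) (Steps.bwd (nat_lit 15) (Steps.bwd (nat_lit 15) (Steps.fwd (nat_lit 90112) (Steps.bwd (nat_lit 16) (Steps.fwd (nat_lit 8192) (Steps.bwd (nat_lit 15) Steps.nil)))))) (nat_lit 45) (nat_lit 0),
  Rule.mk (nat_lit 13) (nat_lit 142) (Steps.bwd (nat_lit 15) (Steps.fwd (nat_lit 139264) (Steps.bwd (nat_lit 10) (Steps.bwd (nat_lit 16) (Steps.bwd (nat_lit 2) (Steps.bwd (nat_lit 17) (Steps.bwd (nat_lit 1) (Steps.bwd (nat_lit 10) Steps.nil)))))))) (nat_lit 47) (nat_lit 2),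
  Rule.mk (nat_lit 9) (nat_lit 190) (Steps.fwd (nat_lit 106496) (Steps.fwd (nat_lit 73728) (Steps.fwd (nat_lit 98304) (Steps.bwd (nat_lit 9) (Steps.fwd (nat_lit 8192) (Steps.fwd (nat_lit 8192) (Steps.bwd (nat_lit 2) (Steps.fwd (nat_lit 114688) (Steps.fwd (nat_lit 8192) (Steps.bwd (nat_lit 16) (Steps.bwd (nat_lit 13) Steps.nil))))))))))) (nat_lit 75) (nat_lit 8),
  Rule.mk (nat_lit 10) (nat_lit 110) (Steps.bwd (nat_lit 17) (Steps.fwd (nat_lit 73728) (Steps.bwd (nat_lit 19) (Steps.fwd (nat_lit 73728) (Steps.bwd (nat_lit 10) (Steps.bwd (nat_lit 15) Steps.nil)))))) (nat_lit 67) (nat_lit 3),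
  Rule.mk (nat_lit 1) (nat_lit 190) (Steps.bwd (nat_lit 1) (Steps.bwd (nat_lit 1) (Steps.bwd (nat_lit 9) (Steps.bwd (nat_lit 12) (Steps.bwd (nat_lit 9) (Steps.bwd (nat_lit 13) (Steps.fwd (nat_lit 73728) (Steps.bwd (nat_lit 12) (Steps.bwd (nat_lit 17) (Steps.bwd (nat_lit 1) (Steps.bwd (nat_lit 14) Steps.nil))))))))))) (nat_lit 74) (nat_lit 10),
  Rule.mk (nat_lit 10) (nat_lit 142) (Steps.bwd (nat_lit 13) (Steps.fwd (nat_lit 114688) (Steps.fwd (nat_lit 139264) (Steps.bwd (nat_lit 10) (Steps.bwd (nat_lit 16) (Steps.fwd (nat_lit 8192) (Steps.bwd (nat_lit 17) (Steps.bwd (nat_lit 1) Steps.nil)))))))) (nat_lit 47) (nat_lit 1),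
  Rule.mk (nat_lit 9) (nat_lit 190) (Steps.bwd (nat_lit 13) (Steps.fwd (nat_lit 73728) (Steps.fwd (nat_lit 106496) (Steps.bwd (nat_lit 17) (Steps.fwd (nat_lit 16384) (Steps.bwd (nat_lit 14) (Steps.fwd (nat_lit 16384) (Steps.bwd (nat_lit 1) (Steps.fwd (nat_lit 16384) (Steps.bwd (nat_lit 9) (Steps.bwd (nat_lit 12) Steps.nil))))))))))) (nat_lit 74) (nat_lit 3),
  Rule.mk (nat_lit 4) (nat_lit 110) (Steps.fwd (nat_lit 73728) (Steps.bwd (nat_lit 10) (Steps.bwd (nat_lit 15) (Steps.fwd (nat_lit 131072) (Steps.bwd (nat_lit 17) (Steps.bwd (nat_lit 9) Steps.nil)))))) (nat_lit 71) (nat_lit 6),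
  Rule.mk (nat_lit 15) (nat_lit 158) (Steps.bwd (nat_lit 9) (Steps.fwd (nat_lit 32768) (Steps.fwd (nat_lit 32768) (Steps.fwd (nat_lit 16384) (Steps.fwd (nat_lit 106496) (Steps.fwd (nat_lit 81920) (Steps.bwd (nat_lit 17) (Steps.bwd (nat_lit 2) (Steps.bwd (nat_lit 9) Steps.nil))))))))) (nat_lit 63) (nat_lit 9),
  Rule.mk (nat_lit 12) (nat_lit 190) (Steps.bwd (nat_lit 9) (Steps.bwd (nat_lit 13) (Steps.bwd (nat_lit 9) (Steps.fwd (nat_lit 106496) (Steps.bwd (nat_lit 17) (Steps.bwd (nat_lit 1) (Steps.fwd (nat_lit 122880) (Steps.fwd (nat_lit 16384) (Steps.bwd (nat_lit 1) (Steps.bwd (nat_lit 1) (Steps.bwd (nat_lit 9) Steps.nil))))))))))) (nat_lit 74) (nat_lit 2),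
  Rule.mk (nat_lit 17) (nat_lit 142) (Steps.bwd (nat_lit 1) (Steps.bwd (nat_lit 10) (Steps.fwd (nat_lit 98304) (Steps.bwd (nat_lit 15) (Steps.fwd (nat_lit 139264) (Steps.bwd (nat_lit 10) (Steps.fwd (nat_lit 139264) (Steps.fwd (nat_lit 8192) Steps.nil)))))))) (nat_lit 47) (nat_lit 8),
  Rule.mk (nat_lit 10) (nat_lit 286) (Steps.bwd (nat_lit 1) (Steps.fwd (nat_lit 32768) (Steps.fwd (nat_lit 32768) (Steps.bwd (nat_lit 9) (Steps.bwd (nat_lit 8) (Steps.bwd (nat_lit 11) (Steps.bwd (nat_lit 8) (Steps.bwd (nat_lit 3) (Steps.fwd (nat_lit 8192) (Steps.fwd (nat_lit 24576) (Steps.fwd (nat_lit 81920) (Steps.bwd (nat_lit 8) (Steps.bwd (nat_lit 2) (Steps.fwd (nat_lit 81920) (Steps.bwd (nat_lit 1) (Steps.bwd (nat_lit 11) (Steps.bwd (nat_lit 2) Steps.nil))))))))))))))))) (nat_lit 56) (nat_lit 15),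
  Rule.mk (nat_lit 2) (nat_lit 190) (Steps.fwd (nat_lit 32768) (Steps.fwd (nat_lit 16384) (Steps.bwd (nat_lit 4) (Steps.bwd (nat_lit 2) (Steps.bwd (nat_lit 3) (Steps.fwd (nat_lit 16384) (Steps.bwd (nat_lit 4) (Steps.bwd (nat_lit 2) (Steps.bwd (nat_lit 3) (Steps.fwd (nat_lit 16384) (Steps.bwd (nat_lit 4) Steps.nil))))))))))) (nat_lit 9) (nat_lit 2),
  Rule.mk (nat_lit 9) (nat_lit 158) (Steps.bwd (nat_lit 14) (Steps.fwd (nat_lit 73728) (Steps.bwd (nat_lit 1) (Steps.fwd (nat_lit 139264) (Steps.bwd (nat_lit 10) (Steps.bwd (nat_lit 13) (Steps.fwd (nat_lit 8192) (Steps.bwd (nat_lit 4) (Steps.bwd (nat_lit 4) Steps.nil))))))))) (nat_lit 62) (nat_lit 1),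
  Rule.mk (nat_lit 4) (nat_lit 126) (Steps.bwd (nat_lit 14) (Steps.fwd (nat_lit 32768) (Steps.fwd (nat_lit 122880) (Steps.bwd (nat_lit 14) (Steps.fwd (nat_lit 131072) (Steps.fwd (nat_lit 81920) (Steps.bwd (nat_lit 11) Steps.nil))))))) (nat_lit 52) (nat_lit 1),
  Rule.mk (nat_lit 17) (nat_lit 142) (Steps.bwd (nat_lit 14) (Steps.fwd (nat_lit 106496) (Steps.fwd (nat_lit 81920) (Steps.bwd (nat_lit 2) (Steps.bwd (nat_lit 16) (Steps.bwd (nat_lit 1) (Steps.fwd (nat_lit 131072) (Steps.fwd (nat_lit 81920) Steps.nil)))))))) (nat_lit 46) (nat_lit 6),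
  Rule.mk (nat_lit 9) (nat_lit 110) (Steps.fwd (nat_lit 147456) (Steps.fwd (nat_lit 73728) (Steps.bwd (nat_lit 10) (Steps.bwd (nat_lit 15) (Steps.bwd (nat_lit 10) (Steps.bwd (nat_lit 17) Steps.nil)))))) (nat_lit 67) (nat_lit 5),
  Rule.mk (nat_lit 2) (nat_lit 158) (Steps.fwd (nat_lit 73728) (Steps.fwd (nat_lit 114688) (Steps.bwd (nat_lit 9) (Steps.bwd (nat_lit 3) (Steps.fwd (nat_lit 32768) (Steps.bwd (nat_lit 1) (Steps.bwd (nat_lit 12) (Steps.fwd (nat_lit 81920) (Steps.bwd (nat_lit 17) Steps.nil))))))))) (nat_lit 63) (nat_lit 7),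
  Rule.mk (nat_lit 3) (nat_lit 110) (Steps.bwd (nat_lit 11) (Steps.fwd (nat_lit 73728) (Steps.fwd (nat_lit 81920) (Steps.bwd (nat_lit 9) (Steps.bwd (nat_lit 3) (Steps.fwd (nat_lit 122880) Steps.nil)))))) (nat_lit 61) (nat_lit 3)]
noncomputable def R_102 : List (Rule) := [Rule.mk (nat_lit 16) (nat_lit 110) (Steps.bwd (nat_lit 11) (Steps.fwd (nat_lit 122880) (Steps.fwd (nat_lit 81920) (Steps.bwd (nat_lit 9) (Steps.bwd (nat_lit 18) (Steps.fwd (nat_lit 73728) Steps.nil)))))) (nat_lit 66) (nat_lit 4),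
  Rule.mk (nat_lit 12) (nat_lit 158) (Steps.bwd (nat_lit 11) (Steps.fwd (nat_lit 131072) (Steps.fwd (nat_lit 8192) (Steps.fwd (nat_lit 73728) (Steps.bwd (nat_lit 15) (Steps.bwd (nat_lit 9) (Steps.bwd (nat_lit 3) (Steps.bwd (nat_lit 3) (Steps.fwd (nat_lit 16384) Steps.nil))))))))) (nat_lit 63) (nat_lit 4),
  Rule.mk (nat_lit 9) (nat_lit 190) (Steps.bwd (nat_lit 13) (Steps.fwd (nat_lit 73728) (Steps.fwd (nat_lit 106496) (Steps.fwd (nat_lit 131072) (Steps.bwd (nat_lit 1) (Steps.bwd (nat_lit 14) (Steps.fwd (nat_lit 16384) (Steps.fwd (nat_lit 16384) (Steps.fwd (nat_lit 16384) (Steps.bwd (nat_lit 9) (Steps.bwd (nat_lit 12) Steps.nil))))))))))) (nat_lit 74) (nat_lit 3),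
  Rule.mk (nat_lit 4) (nat_lit 110) (Steps.bwd (nat_lit 9) (Steps.bwd (nat_lit 10) (Steps.bwd (nat_lit 9) (Steps.fwd (nat_lit 90112) (Steps.fwd (nat_lit 24576) (Steps.bwd (nat_lit 15) Steps.nil)))))) (nat_lit 60) (nat_lit 0),
  Rule.mk (nat_lit 9) (nat_lit 110) (Steps.bwd (nat_lit 19) (Steps.fwd (nat_lit 73728) (Steps.fwd (nat_lit 90112) (Steps.fwd (nat_lit 114688) (Steps.fwd (nat_lit 90112) (Steps.bwd (nat_lit 17) Steps.nil)))))) (nat_lit 67) (nat_lit 5),
  Rule.mk (nat_lit 8) (nat_lit 158) (Steps.fwd (nat_lit 147456) (Steps.fwd (nat_lit 57344) (Steps.bwd (nat_lit 19) (Steps.fwd (nat_lit 57344) (Steps.bwd (nat_lit 19) (Steps.fwd (nat_lit 57344) (Steps.bwd (nat_lit 19) (Steps.bwd (nat_lit 8) (Steps.bwd (nat_lit 19) Steps.nil))))))))) (nat_lit 85) (nat_lit 0),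
  Rule.mk (nat_lit 3) (nat_lit 126) (Steps.bwd (nat_lit 10) (Steps.fwd (nat_lit 90112) (Steps.fwd (nat_lit 139264) (Steps.bwd (nat_lit 15) (Steps.fwd (nat_lit 114688) (Steps.bwd (nat_lit 4) (Steps.bwd (nat_lit 15) Steps.nil))))))) (nat_lit 53) (nat_lit 0),
  Rule.mk (nat_lit 10) (nat_lit 110) (Steps.bwd (nat_lit 15) (Steps.bwd (nat_lit 10) (Steps.fwd (nat_lit 131072) (Steps.fwd (nat_lit 73728) (Steps.bwd (nat_lit 19) (Steps.bwd (nat_lit 9) Steps.nil)))))) (nat_lit 67) (nat_lit 1),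
  Rule.mk (nat_lit 16) (nat_lit 126) (Steps.bwd (nat_lit 15) (Steps.fwd (nat_lit 98304) (Steps.bwd (nat_lit 4) (Steps.bwd (nat_lit 12) (Steps.bwd (nat_lit 3) (Steps.bwd (nat_lit 16) (Steps.fwd (nat_lit 90112) Steps.nil))))))) (nat_lit 50) (nat_lit 6),
  Rule.mk (nat_lit 15) (nat_lit 126) (Steps.bwd (nat_lit 15) (Steps.fwd (nat_lit 24576) (Steps.fwd (nat_lit 114688) (Steps.fwd (nat_lit 32768) (Steps.fwd (nat_lit 90112) (Steps.bwd (nat_lit 10) (Steps.bwd (nat_lit 16) Steps.nil))))))) (nat_lit 53) (nat_lit 4),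
  Rule.mk (nat_lit 9) (nat_lit 158) (Steps.bwd (nat_lit 15) (Steps.fwd (nat_lit 73728) (Steps.fwd (nat_lit 32768) (Steps.fwd (nat_lit 32768) (Steps.fwd (nat_lit 16384) (Steps.fwd (nat_lit 106496) (Steps.bwd (nat_lit 11) (Steps.fwd (nat_lit 131072) (Steps.bwd (nat_lit 2) Steps.nil))))))))) (nat_lit 63) (nat_lit 8),
  Rule.mk (nat_lit 2) (nat_lit 190) (Steps.fwd (nat_lit 8192) (Steps.bwd (nat_lit 2) (Steps.fwd (nat_lit 114688) (Steps.bwd (nat_lit 2) (Steps.bwd (nat_lit 16) (Steps.bwd (nat_lit 13) (Steps.fwd (nat_lit 73728) (Steps.bwd (nat_lit 12) (Steps.fwd (nat_lit 73728) (Steps.bwd (nat_lit 13) (Steps.bwd (nat_lit 9) Steps.nil))))))))))) (nat_lit 75) (nat_lit 1),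
  Rule.mk (nat_lit 7) (nat_lit 286) (Steps.fwd (nat_lit 73728) (Steps.bwd (nat_lit 4) (Steps.bwd (nat_lit 4) (Steps.fwd (nat_lit 8192) (Steps.fwd (nat_lit 81920) (Steps.fwd (nat_lit 16384) (Steps.bwd (nat_lit 10) (Steps.bwd (nat_lit 2) (Steps.bwd (nat_lit 10) (Steps.bwd (nat_lit 1) (Steps.fwd (nat_lit 65536) (Steps.bwd (nat_lit 10) (Steps.bwd (nat_lit 3) (Steps.bwd (nat_lit 1) (Steps.fwd (nat_lit 24576) (Steps.bwd (nat_lit 7) (Steps.bwd (nat_lit 10) Steps.nil))))))))))))))))) (nat_lit 57) (nat_lit 17),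
  Rule.mk (nat_lit 3) (nat_lit 110) (Steps.fwd (nat_lit 122880) (Steps.fwd (nat_lit 32768) (Steps.fwd (nat_lit 81920) (Steps.bwd (nat_lit 9) (Steps.fwd (nat_lit 81920) (Steps.bwd (nat_lit 9) Steps.nil)))))) (nat_lit 61) (nat_lit 1),
  Rule.mk (nat_lit 10) (nat_lit 110) (Steps.bwd (nat_lit 15) (Steps.fwd (nat_lit 90112) (Steps.bwd (nat_lit 17) (Steps.fwd (nat_lit 73728) (Steps.bwd (nat_lit 19) (Steps.bwd (nat_lit 9) Steps.nil)))))) (nat_lit 67) (nat_lit 1),
  Rule.mk (nat_lit 9) (nat_lit 158) (Steps.bwd (nat_lit 15) (Steps.fwd (nat_lit 73728) (Steps.fwd (nat_lit 32768) (Steps.bwd (nat_lit 3) (Steps.fwd (nat_lit 16384) (Steps.bwd (nat_lit 12) (Steps.bwd (nat_lit 11) (Steps.fwd (nat_lit 131072) (Steps.fwd (nat_lit 8192) Steps.nil))))))))) (nat_lit 63) (nat_lit 8),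
  Rule.mk (nat_lit 17) (nat_lit 110) (Steps.bwd (nat_lit 14) (Steps.fwd (nat_lit 24576) (Steps.fwd (nat_lit 24576) (Steps.bwd (nat_lit 9) (Steps.bwd (nat_lit 16) (Steps.bwd (nat_lit 9) Steps.nil)))))) (nat_lit 64) (nat_lit 4),
  Rule.mk (nat_lit 13) (nat_lit 190) (Steps.bwd (nat_lit 9) (Steps.fwd (nat_lit 8192) (Steps.bwd (nat_lit 2) (Steps.fwd (nat_lit 8192) (Steps.fwd (nat_lit 114688) (Steps.bwd (nat_lit 2) (Steps.fwd (nat_lit 139264) (Steps.fwd (nat_lit 98304) (Steps.bwd (nat_lit 9) (Steps.fwd (nat_lit 106496) (Steps.bwd (nat_lit 9) Steps.nil))))))))))) (nat_lit 75) (nat_lit 11),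
  Rule.mk (nat_lit 2) (nat_lit 110) (Steps.bwd (nat_lit 14) (Steps.fwd (nat_lit 16384) (Steps.fwd (nat_lit 131072) (Steps.bwd (nat_lit 11) (Steps.bwd (nat_lit 14) (Steps.fwd (nat_lit 122880) Steps.nil)))))) (nat_lit 44) (nat_lit 1),
  Rule.mk (nat_lit 14) (nat_lit 126) (Steps.bwd (nat_lit 14) (Steps.fwd (nat_lit 131072) (Steps.fwd (nat_lit 81920) (Steps.bwd (nat_lit 11) (Steps.bwd (nat_lit 4) (Steps.bwd (nat_lit 14) (Steps.fwd (nat_lit 32768) Steps.nil))))))) (nat_lit 52) (nat_lit 4),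
  Rule.mk (nat_lit 9) (nat_lit 158) (Steps.bwd (nat_lit 14) (Steps.bwd (nat_lit 9) (Steps.bwd (nat_lit 1) (Steps.bwd (nat_lit 16) (Steps.bwd (nat_lit 10) (Steps.fwd (nat_lit 98304) (Steps.bwd (nat_lit 2) (Steps.bwd (nat_lit 4) (Steps.bwd (nat_lit 4) Steps.nil))))))))) (nat_lit 62) (nat_lit 1),
  Rule.mk (nat_lit 3) (nat_lit 110) (Steps.fwd (nat_lit 122880) (Steps.fwd (nat_lit 32768) (Steps.fwd (nat_lit 81920) (Steps.fwd (nat_lit 73728) (Steps.bwd (nat_lit 11) (Steps.bwd (nat_lit 9) Steps.nil)))))) (nat_lit 61) (nat_lit 1),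
  Rule.mk (nat_lit 1) (nat_lit 94) (Steps.bwd (nat_lit 1) (Steps.bwd (nat_lit 4) (Steps.fwd (nat_lit 8192) (Steps.bwd (nat_lit 2) (Steps.bwd (nat_lit 3) Steps.nil))))) (nat_lit 7) (nat_lit 5),
  Rule.mk (nat_lit 17) (nat_lit 142) (Steps.bwd (nat_lit 1) (Steps.bwd (nat_lit 10) (Steps.bwd (nat_lit 13) (Steps.fwd (nat_lit 114688) (Steps.fwd (nat_lit 139264) (Steps.fwd (nat_lit 90112) (Steps.fwd (nat_lit 139264) (Steps.fwd (nat_lit 8192) Steps.nil)))))))) (nat_lit 47) (nat_lit 8),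
  Rule.mk (nat_lit 9) (nat_lit 206) (Steps.bwd (nat_lit 1) (Steps.fwd (nat_lit 16384) (Steps.bwd (nat_lit 9) (Steps.fwd (nat_lit 139264) (Steps.bwd (nat_lit 19) (Steps.fwd (nat_lit 81920) (Steps.fwd (nat_lit 8192) (Steps.bwd (nat_lit 3) (Steps.fwd (nat_lit 8192) (Steps.fwd (nat_lit 24576) (Steps.fwd (nat_lit 24576) (Steps.fwd (nat_lit 8192) Steps.nil)))))))))))) (nat_lit 68) (nat_lit 1),
  Rule.mk (nat_lit 10) (nat_lit 286) (Steps.bwd (nat_lit 1) (Steps.fwd (nat_lit 65536) (Steps.bwd (nat_lit 10) (Steps.fwd (nat_lit 32768) (Steps.bwd (nat_lit 1) (Steps.bwd (nat_lit 4) (Steps.bwd (nat_lit 7) (Steps.bwd (nat_lit 10) (Steps.fwd (nat_lit 65536) (Steps.bwd (nat_lit 9) (Steps.fwd (nat_lit 24576) (Steps.bwd (nat_lit 4) (Steps.fwd (nat_lit 8192) (Steps.fwd (nat_lit 81920) (Steps.bwd (nat_lit 1) (Steps.bwd (nat_lit 10) (Steps.fwd (nat_lit 8192) Steps.nil))))))))))))))))) (nat_lit 57) (nat_lit 8),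
  Rule.mk (nat_lit 17) (nat_lit 110) (Steps.bwd (nat_lit 9) (Steps.bwd (nat_lit 3) (Steps.bwd (nat_lit 3) (Steps.bwd (nat_lit 15) (Steps.fwd (nat_lit 139264) (Steps.bwd (nat_lit 9) Steps.nil)))))) (nat_lit 65) (nat_lit 6),
  Rule.mk (nat_lit 18) (nat_lit 110) (Steps.bwd (nat_lit 9) (Steps.fwd (nat_lit 139264) (Steps.fwd (nat_lit 81920) (Steps.fwd (nat_lit 122880) (Steps.fwd (nat_lit 81920) (Steps.bwd (nat_lit 9) Steps.nil)))))) (nat_lit 66) (nat_lit 2),
  Rule.mk (nat_lit 14) (nat_lit 158) (Steps.bwd (nat_lit 9) (Steps.fwd (nat_lit 16384) (Steps.fwd (nat_lit 139264) (Steps.fwd (nat_lit 90112) (Steps.bwd (nat_lit 13) (Steps.fwd (nat_lit 8192) (Steps.fwd (nat_lit 24576) (Steps.fwd (nat_lit 24576) (Steps.bwd (nat_lit 9) Steps.nil))))))))) (nat_lit 62) (nat_lit 2),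
  Rule.mk (nat_lit 13) (nat_lit 190) (Steps.bwd (nat_lit 9) (Steps.bwd (nat_lit 12) (Steps.fwd (nat_lit 131072) (Steps.bwd (nat_lit 1) (Steps.fwd (nat_lit 122880) (Steps.fwd (nat_lit 16384) (Steps.bwd (nat_lit 1) (Steps.bwd (nat_lit 1) (Steps.bwd (nat_lit 9) (Steps.bwd (nat_lit 12) (Steps.fwd (nat_lit 73728) Steps.nil))))))))))) (nat_lit 74) (nat_lit 4),
  Rule.mk (nat_lit 1) (nat_lit 190) (Steps.bwd (nat_lit 9) (Steps.bwd (nat_lit 12) (Steps.fwd (nat_lit 73728) (Steps.fwd (nat_lit 98304) (Steps.bwd (nat_lit 9) (Steps.fwd (nat_lit 106496) (Steps.bwd (nat_lit 17) (Steps.bwd (nat_lit 1) (Steps.bwd (nat_lit 14) (Steps.bwd (nat_lit 1) (Steps.fwd (nat_lit 16384) Steps.nil))))))))))) (nat_lit 74) (nat_lit 0),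
  Rule.mk (nat_lit 14) (nat_lit 190) (Steps.bwd (nat_lit 1) (Steps.fwd (nat_lit 16384) (Steps.fwd (nat_lit 16384) (Steps.fwd (nat_lit 73728) (Steps.bwd (nat_lit 12) (Steps.bwd (nat_lit 9) (Steps.bwd (nat_lit 13) (Steps.bwd (nat_lit 9) (Steps.bwd (nat_lit 12) (Steps.fwd (nat_lit 131072) (Steps.bwd (nat_lit 1) Steps.nil))))))))))) (nat_lit 74) (nat_lit 9),
  Rule.mk (nat_lit 9) (nat_lit 110) (Steps.bwd (nat_lit 18) (Steps.fwd (nat_lit 73728) (Steps.bwd (nat_lit 16) (Steps.bwd (nat_lit 11) (Steps.bwd (nat_lit 14) (Steps.fwd (nat_lit 81920) Steps.nil)))))) (nat_lit 66) (nat_lit 1),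
  Rule.mk (nat_lit 1) (nat_lit 206) (Steps.fwd (nat_lit 16384) (Steps.bwd (nat_lit 9) (Steps.bwd (nat_lit 16) (Steps.bwd (nat_lit 19) (Steps.fwd (nat_lit 81920) (Steps.bwd (nat_lit 2) (Steps.fwd (nat_lit 32768) (Steps.bwd (nat_lit 2) (Steps.bwd (nat_lit 4) (Steps.bwd (nat_lit 4) (Steps.fwd (nat_lit 8192) (Steps.bwd (nat_lit 9) Steps.nil)))))))))))) (nat_lit 68) (nat_lit 2),
  Rule.mk (nat_lit 11) (nat_lit 110) (Steps.bwd (nat_lit 9) (Steps.fwd (nat_lit 155648) (Steps.bwd (nat_lit 9) (Steps.fwd (nat_lit 139264) (Steps.bwd (nat_lit 11) (Steps.bwd (nat_lit 14) Steps.nil)))))) (nat_lit 66) (nat_lit 0),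
  Rule.mk (nat_lit 13) (nat_lit 126) (Steps.bwd (nat_lit 3) (Steps.fwd (nat_lit 106496) (Steps.bwd (nat_lit 14) (Steps.fwd (nat_lit 131072) (Steps.bwd (nat_lit 11) (Steps.bwd (nat_lit 17) (Steps.fwd (nat_lit 24576) Steps.nil))))))) (nat_lit 51) (nat_lit 7),
  Rule.mk (nat_lit 15) (nat_lit 126) (Steps.bwd (nat_lit 3) (Steps.fwd (nat_lit 90112) (Steps.fwd (nat_lit 90112) (Steps.fwd (nat_lit 139264) (Steps.fwd (nat_lit 114688) (Steps.bwd (nat_lit 15) (Steps.fwd (nat_lit 24576) Steps.nil))))))) (nat_lit 53) (nat_lit 7),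
  Rule.mk (nat_lit 17) (nat_lit 142) (Steps.fwd (nat_lit 16384) (Steps.fwd (nat_lit 90112) (Steps.bwd (nat_lit 13) (Steps.bwd (nat_lit 15) (Steps.bwd (nat_lit 16) (Steps.bwd (nat_lit 10) (Steps.fwd (nat_lit 139264) (Steps.bwd (nat_lit 2) Steps.nil)))))))) (nat_lit 47) (nat_lit 8),
  Rule.mk (nat_lit 10) (nat_lit 286) (Steps.bwd (nat_lit 7) (Steps.bwd (nat_lit 9) (Steps.fwd (nat_lit 24576) (Steps.bwd (nat_lit 4) (Steps.bwd (nat_lit 2) (Steps.bwd (nat_lit 11) (Steps.bwd (nat_lit 1) (Steps.fwd (nat_lit 90112) (Steps.fwd (nat_lit 8192) (Steps.fwd (nat_lit 90112) (Steps.fwd (nat_lit 16384) (Steps.fwd (nat_lit 65536) (Steps.fwd (nat_lit 90112) (Steps.bwd (nat_lit 3) (Steps.bwd (nat_lit 1) (Steps.fwd (nat_lit 24576) (Steps.bwd (nat_lit 7) Steps.nil))))))))))))))))) (nat_lit 57) (nat_lit 16),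
  Rule.mk (nat_lit 16) (nat_lit 94) (Steps.bwd (nat_lit 19) (Steps.bwd (nat_lit 19) (Steps.bwd (nat_lit 11) (Steps.fwd (nat_lit 131072) (Steps.bwd (nat_lit 10) Steps.nil))))) (nat_lit 34) (nat_lit 4),
  Rule.mk (nat_lit 17) (nat_lit 110) (Steps.bwd (nat_lit 9) (Steps.fwd (nat_lit 147456) (Steps.fwd (nat_lit 73728) (Steps.bwd (nat_lit 10) (Steps.fwd (nat_lit 114688) (Steps.bwd (nat_lit 10) Steps.nil)))))) (nat_lit 67) (nat_lit 4),
  Rule.mk (nat_lit 15) (nat_lit 110) (Steps.bwd (nat_lit 17) (Steps.fwd (nat_lit 131072) (Steps.fwd (nat_lit 73728) (Steps.fwd (nat_lit 24576) (Steps.bwd (nat_lit 9) (Steps.fwd (nat_lit 90112) Steps.nil)))))) (nat_lit 71) (nat_lit 2),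
  Rule.mk (nat_lit 8) (nat_lit 94) (Steps.fwd (nat_lit 16384) (Steps.fwd (nat_lit 65536) (Steps.fwd (nat_lit 8192) (Steps.fwd (nat_lit 8192) (Steps.bwd (nat_lit 2) Steps.nil))))) (nat_lit 82) (nat_lit 1),
  Rule.mk (nat_lit 4) (nat_lit 110) (Steps.bwd (nat_lit 15) (Steps.fwd (nat_lit 24576) (Steps.fwd (nat_lit 73728) (Steps.fwd (nat_lit 90112) (Steps.fwd (nat_lit 73728) (Steps.fwd (nat_lit 90112) Steps.nil)))))) (nat_lit 60) (nat_lit 5),
  Rule.mk (nat_lit 17) (nat_lit 126) (Steps.fwd (nat_lit 81920) (Steps.bwd (nat_lit 11) (Steps.bwd (nat_lit 4) (Steps.fwd (nat_lit 122880) (Steps.bwd (nat_lit 3) (Steps.bwd (nat_lit 14) (Steps.bwd (nat_lit 14) Steps.nil))))))) (nat_lit 52) (nat_lit 6),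
  Rule.mk (nat_lit 17) (nat_lit 110) (Steps.bwd (nat_lit 17) (Steps.fwd (nat_lit 73728) (Steps.fwd (nat_lit 24576) (Steps.bwd (nat_lit 9) (Steps.fwd (nat_lit 90112) (Steps.fwd (nat_lit 114688) Steps.nil)))))) (nat_lit 71) (nat_lit 3),
  Rule.mk (nat_lit 17) (nat_lit 110) (Steps.bwd (nat_lit 9) (Steps.bwd (nat_lit 4) (Steps.fwd (nat_lit 73728) (Steps.bwd (nat_lit 10) (Steps.fwd (nat_lit 114688) (Steps.bwd (nat_lit 17) Steps.nil)))))) (nat_lit 71) (nat_lit 4),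
  Rule.mk (nat_lit 14) (nat_lit 126) (Steps.fwd (nat_lit 32768) (Steps.fwd (nat_lit 122880) (Steps.fwd (nat_lit 122880) (Steps.fwd (nat_lit 131072) (Steps.bwd (nat_lit 11) (Steps.bwd (nat_lit 11) (Steps.bwd (nat_lit 4) Steps.nil))))))) (nat_lit 52) (nat_lit 2),
  Rule.mk (nat_lit 3) (nat_lit 286) (Steps.fwd (nat_lit 16384) (Steps.fwd (nat_lit 24576) (Steps.bwd (nat_lit 7) (Steps.bwd (nat_lit 10) (Steps.fwd (nat_lit 65536) (Steps.fwd (nat_lit 73728) (Steps.bwd (nat_lit 4) (Steps.bwd (nat_lit 4) (Steps.bwd (nat_lit 2) (Steps.bwd (nat_lit 11) (Steps.bwd (nat_lit 1) (Steps.fwd (nat_lit 90112) (Steps.fwd (nat_lit 8192) (Steps.fwd (nat_lit 90112) (Steps.bwd (nat_lit 1) (Steps.fwd (nat_lit 65536) (Steps.bwd (nat_lit 10) Steps.nil))))))))))))))))) (nat_lit 57) (nat_lit 12),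
  Rule.mk (nat_lit 14) (nat_lit 110) (Steps.bwd (nat_lit 3) (Steps.bwd (nat_lit 11) (Steps.bwd (nat_lit 9) (Steps.bwd (nat_lit 11) (Steps.bwd (nat_lit 9) (Steps.fwd (nat_lit 32768) Steps.nil)))))) (nat_lit 61) (nat_lit 2),
  Rule.mk (nat_lit 7) (nat_lit 94) (Steps.fwd (nat_lit 65536) (Steps.fwd (nat_lit 8192) (Steps.bwd (nat_lit 2) (Steps.fwd (nat_lit 8192) (Steps.bwd (nat_lit 2) Steps.nil))))) (nat_lit 78) (nat_lit 1),
  Rule.mk (nat_lit 9) (nat_lit 110) (Steps.bwd (nat_lit 4) (Steps.fwd (nat_lit 73728) (Steps.bwd (nat_lit 10) (Steps.bwd (nat_lit 15) (Steps.fwd (nat_lit 131072) (Steps.bwd (nat_lit 17) Steps.nil)))))) (nat_lit 71) (nat_lit 5),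
  Rule.mk (nat_lit 17) (nat_lit 110) (Steps.fwd (nat_lit 122880) (Steps.bwd (nat_lit 4) (Steps.fwd (nat_lit 24576) (Steps.bwd (nat_lit 9) (Steps.fwd (nat_lit 139264) (Steps.bwd (nat_lit 9) Steps.nil)))))) (nat_lit 64) (nat_lit 4),
  Rule.mk (nat_lit 9) (nat_lit 110) (Steps.fwd (nat_lit 139264) (Steps.fwd (nat_lit 139264) (Steps.fwd (nat_lit 122880) (Steps.fwd (nat_lit 81920) (Steps.fwd (nat_lit 73728) (Steps.bwd (nat_lit 3) Steps.nil)))))) (nat_lit 70) (nat_lit 3),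
  Rule.mk (nat_lit 12) (nat_lit 190) (Steps.bwd (nat_lit 9) (Steps.fwd (nat_lit 98304) (Steps.bwd (nat_lit 9) (Steps.bwd (nat_lit 12) (Steps.bwd (nat_lit 17) (Steps.bwd (nat_lit 1) (Steps.fwd (nat_lit 122880) (Steps.fwd (nat_lit 16384) (Steps.bwd (nat_lit 1) (Steps.bwd (nat_lit 1) (Steps.fwd (nat_lit 73728) Steps.nil))))))))))) (nat_lit 74) (nat_lit 2),
  Rule.mk (nat_lit 13) (nat_lit 190) (Steps.bwd (nat_lit 9) (Steps.fwd (nat_lit 8192) (Steps.fwd (nat_lit 8192) (Steps.bwd (nat_lit 2) (Steps.bwd (nat_lit 15) (Steps.fwd (nat_lit 8192) (Steps.fwd (nat_lit 139264) (Steps.bwd (nat_lit 13) (Steps.bwd (nat_lit 9) (Steps.fwd (nat_lit 106496) (Steps.fwd (nat_lit 73728) Steps.nil))))))))))) (nat_lit 75) (nat_lit 11),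
  Rule.mk (nat_lit 2) (nat_lit 158) (Steps.bwd (nat_lit 4) (Steps.fwd (nat_lit 24576) (Steps.bwd (nat_lit 9) (Steps.fwd (nat_lit 122880) (Steps.bwd (nat_lit 9) (Steps.bwd (nat_lit 1) (Steps.fwd (nat_lit 139264) (Steps.fwd (nat_lit 90112) (Steps.bwd (nat_lit 13) Steps.nil))))))))) (nat_lit 62) (nat_lit 8),
  Rule.mk (nat_lit 16) (nat_lit 110) (Steps.bwd (nat_lit 14) (Steps.bwd (nat_lit 11) (Steps.bwd (nat_lit 9) (Steps.bwd (nat_lit 3) (Steps.fwd (nat_lit 73728) (Steps.bwd (nat_lit 16) Steps.nil)))))) (nat_lit 70) (nat_lit 5),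
  Rule.mk (nat_lit 16) (nat_lit 126) (Steps.fwd (nat_lit 90112) (Steps.fwd (nat_lit 139264) (Steps.bwd (nat_lit 15) (Steps.bwd (nat_lit 13) (Steps.fwd (nat_lit 24576) (Steps.bwd (nat_lit 12) (Steps.bwd (nat_lit 3) Steps.nil))))))) (nat_lit 50) (nat_lit 4),
  Rule.mk (nat_lit 16) (nat_lit 110) (Steps.bwd (nat_lit 16) (Steps.fwd (nat_lit 122880) (Steps.fwd (nat_lit 81920) (Steps.fwd (nat_lit 73728) (Steps.fwd (nat_lit 32768) (Steps.bwd (nat_lit 9) Steps.nil)))))) (nat_lit 70) (nat_lit 4),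
  Rule.mk (nat_lit 2) (nat_lit 142) (Steps.fwd (nat_lit 131072) (Steps.fwd (nat_lit 16384) (Steps.bwd (nat_lit 10) (Steps.bwd (nat_lit 13) (Steps.bwd (nat_lit 15) (Steps.bwd (nat_lit 16) (Steps.fwd (nat_lit 90112) (Steps.bwd (nat_lit 16) Steps.nil)))))))) (nat_lit 47) (nat_lit 7),
  Rule.mk (nat_lit 8) (nat_lit 126) (Steps.bwd (nat_lit 18) (Steps.fwd (nat_lit 57344) (Steps.fwd (nat_lit 147456) (Steps.bwd (nat_lit 8) (Steps.fwd (nat_lit 16384) (Steps.bwd (nat_lit 1) (Steps.fwd (nat_lit 147456) Steps.nil))))))) (nat_lit 87) (nat_lit 4),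
  Rule.mk (nat_lit 9) (nat_lit 110) (Steps.bwd (nat_lit 4) (Steps.fwd (nat_lit 73728) (Steps.fwd (nat_lit 90112) (Steps.fwd (nat_lit 114688) (Steps.fwd (nat_lit 131072) (Steps.fwd (nat_lit 131072) Steps.nil)))))) (nat_lit 71) (nat_lit 5),
  Rule.mk (nat_lit 17) (nat_lit 110) (Steps.fwd (nat_lit 73728) (Steps.bwd (nat_lit 4) (Steps.bwd (nat_lit 9) (Steps.bwd (nat_lit 10) (Steps.fwd (nat_lit 114688) (Steps.bwd (nat_lit 17) Steps.nil)))))) (nat_lit 71) (nat_lit 4)]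
noncomputable def R_103 : List (Rule) := [Rule.mk (nat_lit 11) (nat_lit 286) (Steps.bwd (nat_lit 1) (Steps.bwd (nat_lit 10) (Steps.bwd (nat_lit 2) (Steps.fwd (nat_lit 90112) (Steps.fwd (nat_lit 16384) (Steps.fwd (nat_lit 65536) (Steps.fwd (nat_lit 90112) (Steps.fwd (nat_lit 32768) (Steps.fwd (nat_lit 16384) (Steps.bwd (nat_lit 4) (Steps.bwd (nat_lit 7) (Steps.fwd (nat_lit 90112) (Steps.fwd (nat_lit 65536) (Steps.bwd (nat_lit 9) (Steps.fwd (nat_lit 24576) (Steps.fwd (nat_lit 24576) (Steps.bwd (nat_lit 2) Steps.nil))))))))))))))))) (nat_lit 57) (nat_lit 4),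
  Rule.mk (nat_lit 9) (nat_lit 110) (Steps.bwd (nat_lit 16) (Steps.bwd (nat_lit 16) (Steps.fwd (nat_lit 122880) (Steps.fwd (nat_lit 81920) (Steps.bwd (nat_lit 9) (Steps.bwd (nat_lit 3) Steps.nil)))))) (nat_lit 70) (nat_lit 3),
  Rule.mk (nat_lit 12) (nat_lit 126) (Steps.bwd (nat_lit 14) (Steps.fwd (nat_lit 131072) (Steps.fwd (nat_lit 81920) (Steps.bwd (nat_lit 17) (Steps.fwd (nat_lit 24576) (Steps.bwd (nat_lit 13) (Steps.bwd (nat_lit 3) Steps.nil))))))) (nat_lit 51) (nat_lit 1),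
  Rule.mk (nat_lit 2) (nat_lit 206) (Steps.bwd (nat_lit 4) (Steps.bwd (nat_lit 4) (Steps.bwd (nat_lit 2) (Steps.fwd (nat_lit 73728) (Steps.bwd (nat_lit 1) (Steps.fwd (nat_lit 16384) (Steps.bwd (nat_lit 9) (Steps.bwd (nat_lit 16) (Steps.fwd (nat_lit 147456) (Steps.fwd (nat_lit 81920) (Steps.fwd (nat_lit 8192) (Steps.bwd (nat_lit 3) Steps.nil)))))))))))) (nat_lit 68) (nat_lit 10),
  Rule.mk (nat_lit 14) (nat_lit 110) (Steps.bwd (nat_lit 2) (Steps.fwd (nat_lit 122880) (Steps.bwd (nat_lit 1) (Steps.fwd (nat_lit 131072) (Steps.fwd (nat_lit 81920) (Steps.bwd (nat_lit 14) Steps.nil)))))) (nat_lit 44) (nat_lit 0),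
  Rule.mk (nat_lit 8) (nat_lit 286) (Steps.bwd (nat_lit 2) (Steps.fwd (nat_lit 81920) (Steps.fwd (nat_lit 16384) (Steps.fwd (nat_lit 81920) (Steps.bwd (nat_lit 2) (Steps.bwd (nat_lit 10) (Steps.bwd (nat_lit 1) (Steps.fwd (nat_lit 32768) (Steps.fwd (nat_lit 32768) (Steps.fwd (nat_lit 73728) (Steps.fwd (nat_lit 57344) (Steps.bwd (nat_lit 11) (Steps.bwd (nat_lit 8) (Steps.fwd (nat_lit 32768) (Steps.bwd (nat_lit 2) (Steps.bwd (nat_lit 4) (Steps.fwd (nat_lit 81920) Steps.nil))))))))))))))))) (nat_lit 56) (nat_lit 9),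
  Rule.mk (nat_lit 9) (nat_lit 110) (Steps.bwd (nat_lit 4) (Steps.fwd (nat_lit 73728) (Steps.fwd (nat_lit 90112) (Steps.bwd (nat_lit 15) (Steps.bwd (nat_lit 17) (Steps.fwd (nat_lit 131072) Steps.nil)))))) (nat_lit 71) (nat_lit 5),
  Rule.mk (nat_lit 2) (nat_lit 270) (Steps.bwd (nat_lit 4) (Steps.fwd (nat_lit 81920) (Steps.bwd (nat_lit 17) (Steps.fwd (nat_lit 147456) (Steps.fwd (nat_lit 16384) (Steps.fwd (nat_lit 73728) (Steps.bwd (nat_lit 1) (Steps.bwd (nat_lit 9) (Steps.fwd (nat_lit 16384) (Steps.fwd (nat_lit 98304) (Steps.fwd (nat_lit 32768) (Steps.bwd (nat_lit 9) (Steps.fwd (nat_lit 57344) (Steps.fwd (nat_lit 16384) (Steps.bwd (nat_lit 3) (Steps.bwd (nat_lit 3) Steps.nil)))))))))))))))) (nat_lit 77) (nat_lit 4),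
  Rule.mk (nat_lit 16) (nat_lit 142) (Steps.fwd (nat_lit 16384) (Steps.fwd (nat_lit 131072) (Steps.bwd (nat_lit 11) (Steps.fwd (nat_lit 131072) (Steps.bwd (nat_lit 14) (Steps.fwd (nat_lit 106496) (Steps.fwd (nat_lit 81920) (Steps.bwd (nat_lit 2) Steps.nil)))))))) (nat_lit 46) (nat_lit 2),
  Rule.mk (nat_lit 17) (nat_lit 142) (Steps.fwd (nat_lit 16384) (Steps.bwd (nat_lit 10) (Steps.fwd (nat_lit 98304) (Steps.fwd (nat_lit 114688) (Steps.bwd (nat_lit 16) (Steps.bwd (nat_lit 10) (Steps.bwd (nat_lit 16) (Steps.bwd (nat_lit 2) Steps.nil)))))))) (nat_lit 47) (nat_lit 8),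
  Rule.mk (nat_lit 10) (nat_lit 286) (Steps.fwd (nat_lit 16384) (Steps.fwd (nat_lit 32768) (Steps.fwd (nat_lit 32768) (Steps.bwd (nat_lit 9) (Steps.bwd (nat_lit 8) (Steps.bwd (nat_lit 11) (Steps.bwd (nat_lit 8) (Steps.fwd (nat_lit 32768) (Steps.fwd (nat_lit 8192) (Steps.bwd (nat_lit 4) (Steps.fwd (nat_lit 81920) (Steps.bwd (nat_lit 8) (Steps.fwd (nat_lit 8192) (Steps.bwd (nat_lit 11) (Steps.bwd (nat_lit 1) (Steps.fwd (nat_lit 81920) (Steps.bwd (nat_lit 2) Steps.nil))))))))))))))))) (nat_lit 56) (nat_lit 15),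
  Rule.mk (nat_lit 7) (nat_lit 286) (Steps.bwd (nat_lit 9) (Steps.fwd (nat_lit 24576) (Steps.fwd (nat_lit 24576) (Steps.bwd (nat_lit 2) (Steps.fwd (nat_lit 81920) (Steps.fwd (nat_lit 16384) (Steps.bwd (nat_lit 10) (Steps.fwd (nat_lit 8192) (Steps.bwd (nat_lit 10) (Steps.bwd (nat_lit 1) (Steps.bwd (nat_lit 7) (Steps.bwd (nat_lit 10) (Steps.fwd (nat_lit 32768) (Steps.fwd (nat_lit 16384) (Steps.fwd (nat_lit 24576) (Steps.bwd (nat_lit 7) (Steps.bwd (nat_lit 10) Steps.nil))))))))))))))))) (nat_lit 57) (nat_lit 17),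
  Rule.mk (nat_lit 10) (nat_lit 110) (Steps.bwd (nat_lit 4) (Steps.fwd (nat_lit 114688) (Steps.fwd (nat_lit 24576) (Steps.fwd (nat_lit 73728) (Steps.fwd (nat_lit 90112) (Steps.bwd (nat_lit 9) Steps.nil)))))) (nat_lit 60) (nat_lit 4),
  Rule.mk (nat_lit 17) (nat_lit 126) (Steps.bwd (nat_lit 4) (Steps.bwd (nat_lit 13) (Steps.fwd (nat_lit 32768) (Steps.bwd (nat_lit 12) (Steps.bwd (nat_lit 14) (Steps.bwd (nat_lit 17) (Steps.bwd (nat_lit 11) Steps.nil))))))) (nat_lit 51) (nat_lit 5),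
  Rule.mk (nat_lit 11) (nat_lit 126) (Steps.bwd (nat_lit 4) (Steps.bwd (nat_lit 14) (Steps.fwd (nat_lit 32768) (Steps.bwd (nat_lit 14) (Steps.fwd (nat_lit 122880) (Steps.fwd (nat_lit 131072) (Steps.fwd (nat_lit 81920) Steps.nil))))))) (nat_lit 52) (nat_lit 0),
  Rule.mk (nat_lit 9) (nat_lit 158) (Steps.bwd (nat_lit 1) (Steps.fwd (nat_lit 139264) (Steps.bwd (nat_lit 10) (Steps.bwd (nat_lit 13) (Steps.bwd (nat_lit 2) (Steps.bwd (nat_lit 4) (Steps.fwd (nat_lit 24576) (Steps.fwd (nat_lit 73728) (Steps.bwd (nat_lit 14) Steps.nil))))))))) (nat_lit 62) (nat_lit 3),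
  Rule.mk (nat_lit 12) (nat_lit 190) (Steps.bwd (nat_lit 9) (Steps.fwd (nat_lit 98304) (Steps.fwd (nat_lit 73728) (Steps.bwd (nat_lit 2) (Steps.fwd (nat_lit 8192) (Steps.bwd (nat_lit 2) (Steps.fwd (nat_lit 114688) (Steps.fwd (nat_lit 8192) (Steps.bwd (nat_lit 16) (Steps.bwd (nat_lit 13) (Steps.bwd (nat_lit 9) Steps.nil))))))))))) (nat_lit 75) (nat_lit 9),
  Rule.mk (nat_lit 1) (nat_lit 206) (Steps.bwd (nat_lit 10) (Steps.fwd (nat_lit 155648) (Steps.fwd (nat_lit 131072) (Steps.fwd (nat_lit 73728) (Steps.bwd (nat_lit 2) (Steps.bwd (nat_lit 2) (Steps.bwd (nat_lit 9) (Steps.bwd (nat_lit 1) (Steps.bwd (nat_lit 3) (Steps.fwd (nat_lit 32768) (Steps.fwd (nat_lit 16384) (Steps.bwd (nat_lit 4) Steps.nil)))))))))))) (nat_lit 69) (nat_lit 6),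
  Rule.mk (nat_lit 9) (nat_lit 110) (Steps.bwd (nat_lit 16) (Steps.bwd (nat_lit 9) (Steps.fwd (nat_lit 131072) (Steps.bwd (nat_lit 14) (Steps.fwd (nat_lit 24576) (Steps.fwd (nat_lit 24576) Steps.nil)))))) (nat_lit 64) (nat_lit 1),
  Rule.mk (nat_lit 2) (nat_lit 142) (Steps.bwd (nat_lit 16) (Steps.bwd (nat_lit 1) (Steps.bwd (nat_lit 17) (Steps.bwd (nat_lit 11) (Steps.fwd (nat_lit 131072) (Steps.bwd (nat_lit 14) (Steps.bwd (nat_lit 12) (Steps.fwd (nat_lit 81920) Steps.nil)))))))) (nat_lit 46) (nat_lit 1),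
  Rule.mk (nat_lit 1) (nat_lit 158) (Steps.bwd (nat_lit 16) (Steps.fwd (nat_lit 90112) (Steps.bwd (nat_lit 13) (Steps.fwd (nat_lit 8192) (Steps.fwd (nat_lit 24576) (Steps.fwd (nat_lit 24576) (Steps.fwd (nat_lit 73728) (Steps.fwd (nat_lit 122880) (Steps.bwd (nat_lit 9) Steps.nil))))))))) (nat_lit 62) (nat_lit 4),
  Rule.mk (nat_lit 7) (nat_lit 94) (Steps.fwd (nat_lit 8192) (Steps.fwd (nat_lit 8192) (Steps.bwd (nat_lit 2) (Steps.bwd (nat_lit 8) (Steps.bwd (nat_lit 1) Steps.nil))))) (nat_lit 82) (nat_lit 3),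
  Rule.mk (nat_lit 4) (nat_lit 206) (Steps.bwd (nat_lit 1) (Steps.fwd (nat_lit 90112) (Steps.fwd (nat_lit 155648) (Steps.bwd (nat_lit 17) (Steps.bwd (nat_lit 9) (Steps.bwd (nat_lit 2) (Steps.bwd (nat_lit 2) (Steps.fwd (nat_lit 73728) (Steps.bwd (nat_lit 1) (Steps.bwd (nat_lit 3) (Steps.fwd (nat_lit 32768) (Steps.bwd (nat_lit 1) Steps.nil)))))))))))) (nat_lit 69) (nat_lit 5),
  Rule.mk (nat_lit 7) (nat_lit 126) (Steps.bwd (nat_lit 19) (Steps.bwd (nat_lit 7) (Steps.fwd (nat_lit 155648) (Steps.bwd (nat_lit 2) (Steps.fwd (nat_lit 8192) (Steps.bwd (nat_lit 7) (Steps.bwd (nat_lit 18) Steps.nil))))))) (nat_lit 86) (nat_lit 3),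
  Rule.mk (nat_lit 8) (nat_lit 126) (Steps.bwd (nat_lit 19) (Steps.fwd (nat_lit 57344) (Steps.fwd (nat_lit 16384) (Steps.fwd (nat_lit 16384) (Steps.bwd (nat_lit 19) (Steps.fwd (nat_lit 57344) (Steps.bwd (nat_lit 18) Steps.nil))))))) (nat_lit 87) (nat_lit 6),
  Rule.mk (nat_lit 9) (nat_lit 206) (Steps.fwd (nat_lit 16384) (Steps.bwd (nat_lit 3) (Steps.fwd (nat_lit 32768) (Steps.fwd (nat_lit 16384) (Steps.fwd (nat_lit 24576) (Steps.fwd (nat_lit 16384) (Steps.fwd (nat_lit 90112) (Steps.bwd (nat_lit 18) (Steps.bwd (nat_lit 17) (Steps.bwd (nat_lit 9) (Steps.bwd (nat_lit 2) (Steps.bwd (nat_lit 2) Steps.nil)))))))))))) (nat_lit 69) (nat_lit 0),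
  Rule.mk (nat_lit 9) (nat_lit 190) (Steps.bwd (nat_lit 13) (Steps.bwd (nat_lit 9) (Steps.bwd (nat_lit 12) (Steps.bwd (nat_lit 17) (Steps.bwd (nat_lit 1) (Steps.bwd (nat_lit 14) (Steps.fwd (nat_lit 16384) (Steps.fwd (nat_lit 16384) (Steps.fwd (nat_lit 16384) (Steps.fwd (nat_lit 73728) (Steps.fwd (nat_lit 106496) Steps.nil))))))))))) (nat_lit 74) (nat_lit 3),
  Rule.mk (nat_lit 12) (nat_lit 190) (Steps.fwd (nat_lit 131072) (Steps.fwd (nat_lit 16384) (Steps.bwd (nat_lit 14) (Steps.fwd (nat_lit 16384) (Steps.bwd (nat_lit 1) (Steps.fwd (nat_lit 16384) (Steps.bwd (nat_lit 9) (Steps.bwd (nat_lit 12) (Steps.bwd (nat_lit 9) (Steps.fwd (nat_lit 98304) (Steps.bwd (nat_lit 9) Steps.nil))))))))))) (nat_lit 74) (nat_lit 6),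
  Rule.mk (nat_lit 8) (nat_lit 286) (Steps.fwd (nat_lit 81920) (Steps.fwd (nat_lit 57344) (Steps.bwd (nat_lit 3) (Steps.bwd (nat_lit 2) (Steps.fwd (nat_lit 24576) (Steps.fwd (nat_lit 81920) (Steps.fwd (nat_lit 57344) (Steps.fwd (nat_lit 8192) (Steps.fwd (nat_lit 81920) (Steps.bwd (nat_lit 1) (Steps.bwd (nat_lit 11) (Steps.bwd (nat_lit 2) (Steps.bwd (nat_lit 10) (Steps.bwd (nat_lit 1) (Steps.bwd (nat_lit 3) (Steps.bwd (nat_lit 3) (Steps.bwd (nat_lit 9) Steps.nil))))))))))))))))) (nat_lit 56) (nat_lit 2),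
  Rule.mk (nat_lit 16) (nat_lit 110) (Steps.bwd (nat_lit 9) (Steps.bwd (nat_lit 17) (Steps.bwd (nat_lit 9) (Steps.bwd (nat_lit 3) (Steps.bwd (nat_lit 3) (Steps.fwd (nat_lit 114688) Steps.nil)))))) (nat_lit 65) (nat_lit 4),
  Rule.mk (nat_lit 12) (nat_lit 190) (Steps.bwd (nat_lit 9) (Steps.bwd (nat_lit 13) (Steps.fwd (nat_lit 73728) (Steps.bwd (nat_lit 2) (Steps.fwd (nat_lit 8192) (Steps.fwd (nat_lit 8192) (Steps.bwd (nat_lit 15) (Steps.bwd (nat_lit 2) (Steps.fwd (nat_lit 139264) (Steps.bwd (nat_lit 13) (Steps.bwd (nat_lit 9) Steps.nil))))))))))) (nat_lit 75) (nat_lit 9),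
  Rule.mk (nat_lit 11) (nat_lit 142) (Steps.fwd (nat_lit 8192) (Steps.bwd (nat_lit 16) (Steps.fwd (nat_lit 16384) (Steps.fwd (nat_lit 131072) (Steps.bwd (nat_lit 11) (Steps.bwd (nat_lit 17) (Steps.bwd (nat_lit 14) (Steps.bwd (nat_lit 12) Steps.nil)))))))) (nat_lit 46) (nat_lit 0),
  Rule.mk (nat_lit 4) (nat_lit 110) (Steps.bwd (nat_lit 9) (Steps.bwd (nat_lit 16) (Steps.bwd (nat_lit 9) (Steps.bwd (nat_lit 17) (Steps.fwd (nat_lit 122880) (Steps.fwd (nat_lit 24576) Steps.nil)))))) (nat_lit 64) (nat_lit 0),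
  Rule.mk (nat_lit 12) (nat_lit 190) (Steps.bwd (nat_lit 9) (Steps.bwd (nat_lit 13) (Steps.bwd (nat_lit 9) (Steps.bwd (nat_lit 12) (Steps.fwd (nat_lit 131072) (Steps.fwd (nat_lit 16384) (Steps.fwd (nat_lit 122880) (Steps.fwd (nat_lit 16384) (Steps.bwd (nat_lit 1) (Steps.fwd (nat_lit 16384) (Steps.fwd (nat_lit 73728) Steps.nil))))))))))) (nat_lit 74) (nat_lit 2),
  Rule.mk (nat_lit 1) (nat_lit 110) (Steps.bwd (nat_lit 15) (Steps.fwd (nat_lit 114688) (Steps.bwd (nat_lit 10) (Steps.bwd (nat_lit 16) (Steps.bwd (nat_lit 2) (Steps.bwd (nat_lit 15) Steps.nil)))))) (nat_lit 45) (nat_lit 0),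
  Rule.mk (nat_lit 10) (nat_lit 110) (Steps.bwd (nat_lit 15) (Steps.fwd (nat_lit 90112) (Steps.bwd (nat_lit 17) (Steps.fwd (nat_lit 73728) (Steps.bwd (nat_lit 19) (Steps.fwd (nat_lit 73728) Steps.nil)))))) (nat_lit 67) (nat_lit 1),
  Rule.mk (nat_lit 16) (nat_lit 126) (Steps.bwd (nat_lit 15) (Steps.bwd (nat_lit 13) (Steps.fwd (nat_lit 24576) (Steps.fwd (nat_lit 106496) (Steps.bwd (nat_lit 3) (Steps.fwd (nat_lit 139264) (Steps.fwd (nat_lit 90112) Steps.nil))))))) (nat_lit 50) (nat_lit 6),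
  Rule.mk (nat_lit 9) (nat_lit 110) (Steps.fwd (nat_lit 131072) (Steps.bwd (nat_lit 14) (Steps.bwd (nat_lit 4) (Steps.bwd (nat_lit 4) (Steps.bwd (nat_lit 9) (Steps.bwd (nat_lit 16) Steps.nil)))))) (nat_lit 64) (nat_lit 3),
  Rule.mk (nat_lit 9) (nat_lit 110) (Steps.bwd (nat_lit 19) (Steps.bwd (nat_lit 9) (Steps.fwd (nat_lit 90112) (Steps.bwd (nat_lit 15) (Steps.bwd (nat_lit 10) (Steps.fwd (nat_lit 131072) Steps.nil)))))) (nat_lit 67) (nat_lit 5),
  Rule.mk (nat_lit 2) (nat_lit 110) (Steps.bwd (nat_lit 15) (Steps.fwd (nat_lit 16384) (Steps.fwd (nat_lit 114688) (Steps.bwd (nat_lit 15) (Steps.bwd (nat_lit 10) (Steps.fwd (nat_lit 139264) Steps.nil)))))) (nat_lit 45) (nat_lit 5),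
  Rule.mk (nat_lit 9) (nat_lit 190) (Steps.bwd (nat_lit 13) (Steps.bwd (nat_lit 9) (Steps.fwd (nat_lit 106496) (Steps.fwd (nat_lit 131072) (Steps.bwd (nat_lit 1) (Steps.fwd (nat_lit 122880) (Steps.bwd (nat_lit 1) (Steps.bwd (nat_lit 1) (Steps.bwd (nat_lit 1) (Steps.bwd (nat_lit 9) (Steps.bwd (nat_lit 12) Steps.nil))))))))))) (nat_lit 74) (nat_lit 3),
  Rule.mk (nat_lit 16) (nat_lit 190) (Steps.bwd (nat_lit 13) (Steps.bwd (nat_lit 9) (Steps.fwd (nat_lit 106496) (Steps.bwd (nat_lit 9) (Steps.fwd (nat_lit 98304) (Steps.bwd (nat_lit 9) (Steps.fwd (nat_lit 8192) (Steps.fwd (nat_lit 8192) (Steps.bwd (nat_lit 2) (Steps.fwd (nat_lit 114688) (Steps.fwd (nat_lit 8192) Steps.nil))))))))))) (nat_lit 75) (nat_lit 6),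
  Rule.mk (nat_lit 10) (nat_lit 94) (Steps.bwd (nat_lit 18) (Steps.fwd (nat_lit 155648) (Steps.bwd (nat_lit 17) (Steps.fwd (nat_lit 81920) (Steps.bwd (nat_lit 16) Steps.nil))))) (nat_lit 35) (nat_lit 0),
  Rule.mk (nat_lit 15) (nat_lit 126) (Steps.fwd (nat_lit 114688) (Steps.bwd (nat_lit 4) (Steps.fwd (nat_lit 114688) (Steps.bwd (nat_lit 3) (Steps.fwd (nat_lit 90112) (Steps.bwd (nat_lit 10) (Steps.bwd (nat_lit 16) Steps.nil))))))) (nat_lit 53) (nat_lit 4),
  Rule.mk (nat_lit 9) (nat_lit 110) (Steps.bwd (nat_lit 10) (Steps.fwd (nat_lit 24576) (Steps.fwd (nat_lit 114688) (Steps.bwd (nat_lit 4) (Steps.bwd (nat_lit 9) (Steps.fwd (nat_lit 90112) Steps.nil)))))) (nat_lit 60) (nat_lit 3),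
  Rule.mk (nat_lit 16) (nat_lit 126) (Steps.bwd (nat_lit 10) (Steps.fwd (nat_lit 139264) (Steps.bwd (nat_lit 15) (Steps.fwd (nat_lit 98304) (Steps.bwd (nat_lit 4) (Steps.bwd (nat_lit 12) (Steps.bwd (nat_lit 3) Steps.nil))))))) (nat_lit 50) (nat_lit 4),
  Rule.mk (nat_lit 3) (nat_lit 110) (Steps.fwd (nat_lit 114688) (Steps.bwd (nat_lit 16) (Steps.bwd (nat_lit 9) (Steps.fwd (nat_lit 131072) (Steps.bwd (nat_lit 9) (Steps.bwd (nat_lit 3) Steps.nil)))))) (nat_lit 65) (nat_lit 2),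
  Rule.mk (nat_lit 12) (nat_lit 126) (Steps.bwd (nat_lit 3) (Steps.fwd (nat_lit 139264) (Steps.fwd (nat_lit 90112) (Steps.fwd (nat_lit 139264) (Steps.bwd (nat_lit 15) (Steps.bwd (nat_lit 13) (Steps.fwd (nat_lit 24576) Steps.nil))))))) (nat_lit 50) (nat_lit 2),
  Rule.mk (nat_lit 13) (nat_lit 270) (Steps.bwd (nat_lit 3) (Steps.fwd (nat_lit 73728) (Steps.bwd (nat_lit 8) (Steps.bwd (nat_lit 1) (Steps.bwd (nat_lit 3) (Steps.bwd (nat_lit 3) (Steps.fwd (nat_lit 8192) (Steps.bwd (nat_lit 4) (Steps.bwd (nat_lit 11) (Steps.bwd (nat_lit 17) (Steps.bwd (nat_lit 19) (Steps.bwd (nat_lit 1) (Steps.fwd (nat_lit 73728) (Steps.fwd (nat_lit 16384) (Steps.bwd (nat_lit 9) (Steps.fwd (nat_lit 16384) Steps.nil)))))))))))))))) (nat_lit 77) (nat_lit 14),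
  Rule.mk (nat_lit 15) (nat_lit 110) (Steps.bwd (nat_lit 15) (Steps.bwd (nat_lit 10) (Steps.fwd (nat_lit 139264) (Steps.fwd (nat_lit 8192) (Steps.bwd (nat_lit 15) (Steps.fwd (nat_lit 16384) Steps.nil)))))) (nat_lit 45) (nat_lit 1),
  Rule.mk (nat_lit 12) (nat_lit 126) (Steps.bwd (nat_lit 3) (Steps.fwd (nat_lit 139264) (Steps.fwd (nat_lit 90112) (Steps.fwd (nat_lit 139264) (Steps.bwd (nat_lit 15) (Steps.fwd (nat_lit 98304) (Steps.fwd (nat_lit 24576) Steps.nil))))))) (nat_lit 50) (nat_lit 2),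
  Rule.mk (nat_lit 14) (nat_lit 126) (Steps.bwd (nat_lit 3) (Steps.bwd (nat_lit 14) (Steps.fwd (nat_lit 122880) (Steps.bwd (nat_lit 17) (Steps.fwd (nat_lit 81920) (Steps.bwd (nat_lit 11) (Steps.fwd (nat_lit 24576) Steps.nil))))))) (nat_lit 52) (nat_lit 2),
  Rule.mk (nat_lit 10) (nat_lit 286) (Steps.bwd (nat_lit 3) (Steps.fwd (nat_lit 16384) (Steps.fwd (nat_lit 24576) (Steps.fwd (nat_lit 65536) (Steps.bwd (nat_lit 10) (Steps.fwd (nat_lit 65536) (Steps.bwd (nat_lit 9) (Steps.fwd (nat_lit 24576) (Steps.fwd (nat_lit 24576) (Steps.bwd (nat_lit 2) (Steps.bwd (nat_lit 11) (Steps.fwd (nat_lit 16384) (Steps.fwd (nat_lit 90112) (Steps.fwd (nat_lit 8192) (Steps.fwd (nat_lit 90112) (Steps.fwd (nat_lit 16384) (Steps.fwd (nat_lit 65536) Steps.nil))))))))))))))))) (nat_lit 57) (nat_lit 11),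
  Rule.mk (nat_lit 12) (nat_lit 126) (Steps.fwd (nat_lit 32768) (Steps.fwd (nat_lit 139264) (Steps.bwd (nat_lit 10) (Steps.fwd (nat_lit 139264) (Steps.fwd (nat_lit 114688) (Steps.bwd (nat_lit 13) (Steps.bwd (nat_lit 4) Steps.nil))))))) (nat_lit 50) (nat_lit 2),
  Rule.mk (nat_lit 13) (nat_lit 126) (Steps.fwd (nat_lit 32768) (Steps.fwd (nat_lit 106496) (Steps.bwd (nat_lit 14) (Steps.bwd (nat_lit 17) (Steps.fwd (nat_lit 81920) (Steps.bwd (nat_lit 17) (Steps.bwd (nat_lit 4) Steps.nil))))))) (nat_lit 51) (nat_lit 7),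
  Rule.mk (nat_lit 9) (nat_lit 110) (Steps.bwd (nat_lit 16) (Steps.bwd (nat_lit 9) (Steps.bwd (nat_lit 17) (Steps.bwd (nat_lit 14) (Steps.fwd (nat_lit 24576) (Steps.bwd (nat_lit 4) Steps.nil)))))) (nat_lit 64) (nat_lit 1),
  Rule.mk (nat_lit 3) (nat_lit 126) (Steps.bwd (nat_lit 16) (Steps.fwd (nat_lit 90112) (Steps.bwd (nat_lit 16) (Steps.fwd (nat_lit 114688) (Steps.bwd (nat_lit 13) (Steps.bwd (nat_lit 4) (Steps.fwd (nat_lit 106496) Steps.nil))))))) (nat_lit 50) (nat_lit 3),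
  Rule.mk (nat_lit 1) (nat_lit 158) (Steps.bwd (nat_lit 16) (Steps.fwd (nat_lit 90112) (Steps.bwd (nat_lit 13) (Steps.bwd (nat_lit 2) (Steps.fwd (nat_lit 24576) (Steps.fwd (nat_lit 24576) (Steps.bwd (nat_lit 9) (Steps.fwd (nat_lit 122880) (Steps.fwd (nat_lit 73728) Steps.nil))))))))) (nat_lit 62) (nat_lit 4),
  Rule.mk (nat_lit 2) (nat_lit 190) (Steps.bwd (nat_lit 16) (Steps.bwd (nat_lit 13) (Steps.fwd (nat_lit 73728) (Steps.fwd (nat_lit 106496) (Steps.bwd (nat_lit 9) (Steps.fwd (nat_lit 98304) (Steps.fwd (nat_lit 73728) (Steps.fwd (nat_lit 8192) (Steps.bwd (nat_lit 2) (Steps.fwd (nat_lit 8192) (Steps.fwd (nat_lit 114688) Steps.nil))))))))))) (nat_lit 75) (nat_lit 5),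
  Rule.mk (nat_lit 15) (nat_lit 190) (Steps.bwd (nat_lit 2) (Steps.bwd (nat_lit 16) (Steps.fwd (nat_lit 98304) (Steps.fwd (nat_lit 73728) (Steps.fwd (nat_lit 106496) (Steps.fwd (nat_lit 73728) (Steps.bwd (nat_lit 13) (Steps.fwd (nat_lit 73728) (Steps.bwd (nat_lit 2) (Steps.bwd (nat_lit 2) (Steps.bwd (nat_lit 2) Steps.nil))))))))))) (nat_lit 75) (nat_lit 4),
  Rule.mk (nat_lit 17) (nat_lit 142) (Steps.fwd (nat_lit 16384) (Steps.fwd (nat_lit 90112) (Steps.fwd (nat_lit 98304) (Steps.fwd (nat_lit 114688) (Steps.bwd (nat_lit 16) (Steps.fwd (nat_lit 90112) (Steps.bwd (nat_lit 16) (Steps.bwd (nat_lit 2) Steps.nil)))))))) (nat_lit 47) (nat_lit 8),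
  Rule.mk (nat_lit 17) (nat_lit 158) (Steps.bwd (nat_lit 2) (Steps.bwd (nat_lit 9) (Steps.fwd (nat_lit 114688) (Steps.fwd (nat_lit 73728) (Steps.bwd (nat_lit 3) (Steps.fwd (nat_lit 32768) (Steps.bwd (nat_lit 1) (Steps.fwd (nat_lit 106496) (Steps.bwd (nat_lit 11) Steps.nil))))))))) (nat_lit 63) (nat_lit 6),
  Rule.mk (nat_lit 2) (nat_lit 142) (Steps.bwd (nat_lit 17) (Steps.fwd (nat_lit 16384) (Steps.bwd (nat_lit 10) (Steps.fwd (nat_lit 98304) (Steps.fwd (nat_lit 114688) (Steps.fwd (nat_lit 139264) (Steps.fwd (nat_lit 90112) (Steps.bwd (nat_lit 16) Steps.nil)))))))) (nat_lit 47) (nat_lit 7),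
  Rule.mk (nat_lit 10) (nat_lit 158) (Steps.bwd (nat_lit 13) (Steps.bwd (nat_lit 2) (Steps.fwd (nat_lit 24576) (Steps.bwd (nat_lit 4) (Steps.bwd (nat_lit 9) (Steps.fwd (nat_lit 122880) (Steps.fwd (nat_lit 73728) (Steps.bwd (nat_lit 1) (Steps.fwd (nat_lit 139264) Steps.nil))))))))) (nat_lit 62) (nat_lit 6)]
noncomputable def R_104 : List (Rule) := [Rule.mk (nat_lit 15) (nat_lit 110) (Steps.fwd (nat_lit 90112) (Steps.bwd (nat_lit 17) (Steps.fwd (nat_lit 73728) (Steps.bwd (nat_lit 19) (Steps.fwd (nat_lit 73728) (Steps.bwd (nat_lit 10) Steps.nil)))))) (nat_lit 67) (nat_lit 2),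
  Rule.mk (nat_lit 16) (nat_lit 142) (Steps.fwd (nat_lit 8192) (Steps.bwd (nat_lit 17) (Steps.fwd (nat_lit 16384) (Steps.bwd (nat_lit 10) (Steps.fwd (nat_lit 98304) (Steps.bwd (nat_lit 15) (Steps.fwd (nat_lit 139264) (Steps.bwd (nat_lit 10) Steps.nil)))))))) (nat_lit 47) (nat_lit 6),
  Rule.mk (nat_lit 3) (nat_lit 270) (Steps.bwd (nat_lit 1) (Steps.fwd (nat_lit 24576) (Steps.bwd (nat_lit 4) (Steps.fwd (nat_lit 8192) (Steps.bwd (nat_lit 7) (Steps.bwd (nat_lit 9) (Steps.fwd (nat_lit 24576) (Steps.bwd (nat_lit 12) (Steps.fwd (nat_lit 8192) (Steps.fwd (nat_lit 73728) (Steps.bwd (nat_lit 2) (Steps.fwd (nat_lit 73728) (Steps.fwd (nat_lit 8192) (Steps.fwd (nat_lit 155648) (Steps.fwd (nat_lit 139264) (Steps.bwd (nat_lit 10) Steps.nil)))))))))))))))) (nat_lit 76) (nat_lit 13),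
  Rule.mk (nat_lit 9) (nat_lit 206) (Steps.bwd (nat_lit 2) (Steps.fwd (nat_lit 8192) (Steps.fwd (nat_lit 73728) (Steps.bwd (nat_lit 1) (Steps.fwd (nat_lit 32768) (Steps.fwd (nat_lit 32768) (Steps.bwd (nat_lit 1) (Steps.fwd (nat_lit 24576) (Steps.bwd (nat_lit 1) (Steps.bwd (nat_lit 10) (Steps.bwd (nat_lit 18) (Steps.bwd (nat_lit 17) Steps.nil)))))))))))) (nat_lit 69) (nat_lit 10),
  Rule.mk (nat_lit 4) (nat_lit 270) (Steps.bwd (nat_lit 2) (Steps.fwd (nat_lit 65536) (Steps.bwd (nat_lit 9) (Steps.bwd (nat_lit 4) (Steps.fwd (nat_lit 106496) (Steps.bwd (nat_lit 2) (Steps.fwd (nat_lit 73728) (Steps.fwd (nat_lit 8192) (Steps.bwd (nat_lit 9) (Steps.bwd (nat_lit 2) (Steps.fwd (nat_lit 155648) (Steps.bwd (nat_lit 16) (Steps.bwd (nat_lit 10) (Steps.fwd (nat_lit 32768) (Steps.bwd (nat_lit 1) (Steps.fwd (nat_lit 24576) Steps.nil)))))))))))))))) (nat_lit 76) (nat_lit 16),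
  Rule.mk (nat_lit 14) (nat_lit 126) (Steps.fwd (nat_lit 32768) (Steps.fwd (nat_lit 122880) (Steps.fwd (nat_lit 122880) (Steps.fwd (nat_lit 131072) (Steps.bwd (nat_lit 11) (Steps.fwd (nat_lit 81920) (Steps.bwd (nat_lit 4) Steps.nil))))))) (nat_lit 52) (nat_lit 2),
  Rule.mk (nat_lit 7) (nat_lit 126) (Steps.bwd (nat_lit 18) (Steps.bwd (nat_lit 7) (Steps.bwd (nat_lit 19) (Steps.bwd (nat_lit 7) (Steps.bwd (nat_lit 18) (Steps.fwd (nat_lit 8192) (Steps.fwd (nat_lit 8192) Steps.nil))))))) (nat_lit 86) (nat_lit 1),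
  Rule.mk (nat_lit 11) (nat_lit 110) (Steps.bwd (nat_lit 9) (Steps.bwd (nat_lit 3) (Steps.bwd (nat_lit 9) (Steps.bwd (nat_lit 16) (Steps.bwd (nat_lit 16) (Steps.bwd (nat_lit 14) Steps.nil)))))) (nat_lit 70) (nat_lit 0),
  Rule.mk (nat_lit 14) (nat_lit 94) (Steps.bwd (nat_lit 18) (Steps.bwd (nat_lit 18) (Steps.bwd (nat_lit 11) (Steps.bwd (nat_lit 15) (Steps.fwd (nat_lit 90112) Steps.nil))))) (nat_lit 32) (nat_lit 4),
  Rule.mk (nat_lit 9) (nat_lit 110) (Steps.bwd (nat_lit 11) (Steps.fwd (nat_lit 73728) (Steps.fwd (nat_lit 32768) (Steps.bwd (nat_lit 14) (Steps.bwd (nat_lit 3) (Steps.fwd (nat_lit 81920) Steps.nil)))))) (nat_lit 61) (nat_lit 5),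
  Rule.mk (nat_lit 16) (nat_lit 110) (Steps.bwd (nat_lit 11) (Steps.fwd (nat_lit 122880) (Steps.fwd (nat_lit 81920) (Steps.bwd (nat_lit 9) (Steps.bwd (nat_lit 18) (Steps.bwd (nat_lit 9) Steps.nil)))))) (nat_lit 66) (nat_lit 4),
  Rule.mk (nat_lit 7) (nat_lit 286) (Steps.fwd (nat_lit 90112) (Steps.bwd (nat_lit 3) (Steps.bwd (nat_lit 1) (Steps.bwd (nat_lit 4) (Steps.bwd (nat_lit 7) (Steps.fwd (nat_lit 90112) (Steps.fwd (nat_lit 65536) (Steps.fwd (nat_lit 73728) (Steps.bwd (nat_lit 4) (Steps.bwd (nat_lit 4) (Steps.fwd (nat_lit 8192) (Steps.fwd (nat_lit 81920) (Steps.fwd (nat_lit 16384) (Steps.fwd (nat_lit 90112) (Steps.fwd (nat_lit 8192) (Steps.fwd (nat_lit 90112) (Steps.bwd (nat_lit 1) Steps.nil))))))))))))))))) (nat_lit 57) (nat_lit 10),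
  Rule.mk (nat_lit 9) (nat_lit 110) (Steps.bwd (nat_lit 19) (Steps.fwd (nat_lit 73728) (Steps.bwd (nat_lit 10) (Steps.fwd (nat_lit 114688) (Steps.bwd (nat_lit 10) (Steps.bwd (nat_lit 17) Steps.nil)))))) (nat_lit 67) (nat_lit 5),
  Rule.mk (nat_lit 8) (nat_lit 158) (Steps.bwd (nat_lit 19) (Steps.fwd (nat_lit 57344) (Steps.fwd (nat_lit 147456) (Steps.bwd (nat_lit 8) (Steps.fwd (nat_lit 147456) (Steps.bwd (nat_lit 8) (Steps.bwd (nat_lit 19) (Steps.bwd (nat_lit 8) (Steps.fwd (nat_lit 147456) Steps.nil))))))))) (nat_lit 85) (nat_lit 0),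
  Rule.mk (nat_lit 8) (nat_lit 126) (Steps.fwd (nat_lit 16384) (Steps.fwd (nat_lit 16384) (Steps.bwd (nat_lit 19) (Steps.fwd (nat_lit 57344) (Steps.fwd (nat_lit 155648) (Steps.fwd (nat_lit 57344) (Steps.bwd (nat_lit 19) Steps.nil))))))) (nat_lit 87) (nat_lit 0),
  Rule.mk (nat_lit 3) (nat_lit 126) (Steps.bwd (nat_lit 12) (Steps.fwd (nat_lit 122880) (Steps.fwd (nat_lit 131072) (Steps.bwd (nat_lit 11) (Steps.bwd (nat_lit 17) (Steps.fwd (nat_lit 24576) (Steps.bwd (nat_lit 13) Steps.nil))))))) (nat_lit 51) (nat_lit 0),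
  Rule.mk (nat_lit 9) (nat_lit 190) (Steps.bwd (nat_lit 12) (Steps.fwd (nat_lit 73728) (Steps.bwd (nat_lit 13) (Steps.fwd (nat_lit 73728) (Steps.fwd (nat_lit 106496) (Steps.fwd (nat_lit 131072) (Steps.fwd (nat_lit 16384) (Steps.fwd (nat_lit 122880) (Steps.bwd (nat_lit 1) (Steps.bwd (nat_lit 1) (Steps.fwd (nat_lit 16384) Steps.nil))))))))))) (nat_lit 74) (nat_lit 1),
  Rule.mk (nat_lit 4) (nat_lit 270) (Steps.bwd (nat_lit 12) (Steps.fwd (nat_lit 8192) (Steps.bwd (nat_lit 9) (Steps.bwd (nat_lit 2) (Steps.bwd (nat_lit 9) (Steps.fwd (nat_lit 8192) (Steps.fwd (nat_lit 155648) (Steps.bwd (nat_lit 16) (Steps.fwd (nat_lit 90112) (Steps.bwd (nat_lit 3) (Steps.fwd (nat_lit 16384) (Steps.bwd (nat_lit 4) (Steps.fwd (nat_lit 24576) (Steps.bwd (nat_lit 2) (Steps.fwd (nat_lit 65536) (Steps.fwd (nat_lit 73728) Steps.nil)))))))))))))))) (nat_lit 76) (nat_lit 3),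
  Rule.mk (nat_lit 8) (nat_lit 126) (Steps.bwd (nat_lit 18) (Steps.bwd (nat_lit 8) (Steps.bwd (nat_lit 19) (Steps.fwd (nat_lit 57344) (Steps.bwd (nat_lit 1) (Steps.fwd (nat_lit 16384) (Steps.fwd (nat_lit 147456) Steps.nil))))))) (nat_lit 87) (nat_lit 4),
  Rule.mk (nat_lit 19) (nat_lit 94) (Steps.bwd (nat_lit 19) (Steps.bwd (nat_lit 15) (Steps.fwd (nat_lit 81920) (Steps.bwd (nat_lit 14) (Steps.fwd (nat_lit 90112) Steps.nil))))) (nat_lit 33) (nat_lit 1),
  Rule.mk (nat_lit 8) (nat_lit 158) (Steps.bwd (nat_lit 19) (Steps.bwd (nat_lit 8) (Steps.bwd (nat_lit 19) (Steps.fwd (nat_lit 57344) (Steps.fwd (nat_lit 147456) (Steps.bwd (nat_lit 8) (Steps.fwd (nat_lit 147456) (Steps.bwd (nat_lit 8) (Steps.bwd (nat_lit 19) Steps.nil))))))))) (nat_lit 85) (nat_lit 0),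
  Rule.mk (nat_lit 10) (nat_lit 110) (Steps.bwd (nat_lit 15) (Steps.fwd (nat_lit 90112) (Steps.bwd (nat_lit 17) (Steps.bwd (nat_lit 9) (Steps.fwd (nat_lit 147456) (Steps.fwd (nat_lit 73728) Steps.nil)))))) (nat_lit 67) (nat_lit 1),
  Rule.mk (nat_lit 9) (nat_lit 158) (Steps.bwd (nat_lit 15) (Steps.fwd (nat_lit 73728) (Steps.fwd (nat_lit 32768) (Steps.fwd (nat_lit 32768) (Steps.fwd (nat_lit 16384) (Steps.fwd (nat_lit 106496) (Steps.bwd (nat_lit 11) (Steps.bwd (nat_lit 17) (Steps.bwd (nat_lit 2) Steps.nil))))))))) (nat_lit 63) (nat_lit 8),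
  Rule.mk (nat_lit 12) (nat_lit 190) (Steps.bwd (nat_lit 17) (Steps.fwd (nat_lit 16384) (Steps.fwd (nat_lit 122880) (Steps.fwd (nat_lit 16384) (Steps.fwd (nat_lit 16384) (Steps.fwd (nat_lit 16384) (Steps.fwd (nat_lit 73728) (Steps.bwd (nat_lit 12) (Steps.bwd (nat_lit 9) (Steps.bwd (nat_lit 13) (Steps.bwd (nat_lit 9) Steps.nil))))))))))) (nat_lit 74) (nat_lit 6),
  Rule.mk (nat_lit 4) (nat_lit 126) (Steps.bwd (nat_lit 12) (Steps.bwd (nat_lit 3) (Steps.bwd (nat_lit 16) (Steps.bwd (nat_lit 10) (Steps.bwd (nat_lit 16) (Steps.bwd (nat_lit 15) (Steps.fwd (nat_lit 98304) Steps.nil))))))) (nat_lit 50) (nat_lit 1),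
  Rule.mk (nat_lit 4) (nat_lit 110) (Steps.bwd (nat_lit 4) (Steps.bwd (nat_lit 9) (Steps.fwd (nat_lit 139264) (Steps.fwd (nat_lit 73728) (Steps.fwd (nat_lit 131072) (Steps.fwd (nat_lit 122880) Steps.nil)))))) (nat_lit 64) (nat_lit 6),
  Rule.mk (nat_lit 13) (nat_lit 126) (Steps.bwd (nat_lit 4) (Steps.fwd (nat_lit 106496) (Steps.bwd (nat_lit 3) (Steps.fwd (nat_lit 139264) (Steps.fwd (nat_lit 90112) (Steps.fwd (nat_lit 139264) (Steps.fwd (nat_lit 114688) Steps.nil))))))) (nat_lit 50) (nat_lit 0),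
  Rule.mk (nat_lit 17) (nat_lit 126) (Steps.bwd (nat_lit 4) (Steps.fwd (nat_lit 98304) (Steps.bwd (nat_lit 3) (Steps.bwd (nat_lit 12) (Steps.bwd (nat_lit 14) (Steps.fwd (nat_lit 131072) (Steps.fwd (nat_lit 81920) Steps.nil))))))) (nat_lit 51) (nat_lit 5),
  Rule.mk (nat_lit 2) (nat_lit 190) (Steps.bwd (nat_lit 4) (Steps.fwd (nat_lit 16384) (Steps.fwd (nat_lit 32768) (Steps.fwd (nat_lit 8192) (Steps.fwd (nat_lit 24576) (Steps.bwd (nat_lit 1) (Steps.bwd (nat_lit 3) (Steps.bwd (nat_lit 2) (Steps.bwd (nat_lit 4) (Steps.fwd (nat_lit 16384) (Steps.fwd (nat_lit 32768) Steps.nil))))))))))) (nat_lit 8) (nat_lit 1),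
  Rule.mk (nat_lit 17) (nat_lit 142) (Steps.fwd (nat_lit 16384) (Steps.bwd (nat_lit 10) (Steps.fwd (nat_lit 98304) (Steps.bwd (nat_lit 15) (Steps.fwd (nat_lit 139264) (Steps.bwd (nat_lit 10) (Steps.bwd (nat_lit 16) (Steps.bwd (nat_lit 2) Steps.nil)))))))) (nat_lit 47) (nat_lit 8),
  Rule.mk (nat_lit 10) (nat_lit 286) (Steps.bwd (nat_lit 1) (Steps.bwd (nat_lit 3) (Steps.fwd (nat_lit 32768) (Steps.fwd (nat_lit 73728) (Steps.fwd (nat_lit 57344) (Steps.bwd (nat_lit 11) (Steps.bwd (nat_lit 8) (Steps.bwd (nat_lit 3) (Steps.fwd (nat_lit 8192) (Steps.fwd (nat_lit 24576) (Steps.bwd (nat_lit 11) (Steps.fwd (nat_lit 57344) (Steps.bwd (nat_lit 2) (Steps.fwd (nat_lit 81920) (Steps.fwd (nat_lit 16384) (Steps.bwd (nat_lit 11) (Steps.bwd (nat_lit 2) Steps.nil))))))))))))))))) (nat_lit 56) (nat_lit 15),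
  Rule.mk (nat_lit 9) (nat_lit 110) (Steps.bwd (nat_lit 10) (Steps.fwd (nat_lit 73728) (Steps.fwd (nat_lit 90112) (Steps.fwd (nat_lit 24576) (Steps.bwd (nat_lit 15) (Steps.fwd (nat_lit 24576) Steps.nil)))))) (nat_lit 60) (nat_lit 1),
  Rule.mk (nat_lit 13) (nat_lit 190) (Steps.bwd (nat_lit 9) (Steps.bwd (nat_lit 12) (Steps.fwd (nat_lit 131072) (Steps.bwd (nat_lit 1) (Steps.fwd (nat_lit 122880) (Steps.bwd (nat_lit 1) (Steps.bwd (nat_lit 1) (Steps.fwd (nat_lit 16384) (Steps.fwd (nat_lit 73728) (Steps.fwd (nat_lit 106496) (Steps.fwd (nat_lit 73728) Steps.nil))))))))))) (nat_lit 74) (nat_lit 4),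
  Rule.mk (nat_lit 16) (nat_lit 142) (Steps.bwd (nat_lit 1) (Steps.fwd (nat_lit 131072) (Steps.bwd (nat_lit 11) (Steps.fwd (nat_lit 131072) (Steps.bwd (nat_lit 14) (Steps.bwd (nat_lit 12) (Steps.bwd (nat_lit 11) (Steps.bwd (nat_lit 2) Steps.nil)))))))) (nat_lit 46) (nat_lit 2),
  Rule.mk (nat_lit 17) (nat_lit 142) (Steps.fwd (nat_lit 16384) (Steps.fwd (nat_lit 90112) (Steps.fwd (nat_lit 98304) (Steps.bwd (nat_lit 15) (Steps.fwd (nat_lit 139264) (Steps.fwd (nat_lit 90112) (Steps.fwd (nat_lit 139264) (Steps.bwd (nat_lit 2) Steps.nil)))))))) (nat_lit 47) (nat_lit 8),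
  Rule.mk (nat_lit 17) (nat_lit 142) (Steps.bwd (nat_lit 1) (Steps.fwd (nat_lit 90112) (Steps.fwd (nat_lit 98304) (Steps.bwd (nat_lit 15) (Steps.bwd (nat_lit 16) (Steps.bwd (nat_lit 10) (Steps.fwd (nat_lit 139264) (Steps.bwd (nat_lit 2) Steps.nil)))))))) (nat_lit 47) (nat_lit 8),
  Rule.mk (nat_lit 16) (nat_lit 190) (Steps.bwd (nat_lit 13) (Steps.fwd (nat_lit 73728) (Steps.bwd (nat_lit 12) (Steps.fwd (nat_lit 73728) (Steps.bwd (nat_lit 13) (Steps.bwd (nat_lit 9) (Steps.bwd (nat_lit 2) (Steps.bwd (nat_lit 2) (Steps.bwd (nat_lit 2) (Steps.fwd (nat_lit 114688) (Steps.bwd (nat_lit 2) Steps.nil))))))))))) (nat_lit 75) (nat_lit 6),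
  Rule.mk (nat_lit 13) (nat_lit 126) (Steps.bwd (nat_lit 3) (Steps.bwd (nat_lit 12) (Steps.fwd (nat_lit 122880) (Steps.fwd (nat_lit 131072) (Steps.bwd (nat_lit 11) (Steps.fwd (nat_lit 131072) (Steps.fwd (nat_lit 24576) Steps.nil))))))) (nat_lit 51) (nat_lit 7),
  Rule.mk (nat_lit 15) (nat_lit 126) (Steps.bwd (nat_lit 3) (Steps.fwd (nat_lit 90112) (Steps.fwd (nat_lit 90112) (Steps.bwd (nat_lit 16) (Steps.fwd (nat_lit 114688) (Steps.bwd (nat_lit 15) (Steps.bwd (nat_lit 4) Steps.nil))))))) (nat_lit 53) (nat_lit 7),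
  Rule.mk (nat_lit 19) (nat_lit 94) (Steps.fwd (nat_lit 147456) (Steps.bwd (nat_lit 15) (Steps.bwd (nat_lit 11) (Steps.bwd (nat_lit 14) (Steps.bwd (nat_lit 10) Steps.nil))))) (nat_lit 33) (nat_lit 1),
  Rule.mk (nat_lit 18) (nat_lit 158) (Steps.bwd (nat_lit 7) (Steps.fwd (nat_lit 155648) (Steps.bwd (nat_lit 7) (Steps.bwd (nat_lit 18) (Steps.bwd (nat_lit 7) (Steps.fwd (nat_lit 155648) (Steps.bwd (nat_lit 7) (Steps.bwd (nat_lit 18) (Steps.fwd (nat_lit 65536) Steps.nil))))))))) (nat_lit 84) (nat_lit 0),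
  Rule.mk (nat_lit 2) (nat_lit 126) (Steps.fwd (nat_lit 8192) (Steps.fwd (nat_lit 65536) (Steps.bwd (nat_lit 18) (Steps.fwd (nat_lit 65536) (Steps.bwd (nat_lit 19) (Steps.fwd (nat_lit 65536) (Steps.bwd (nat_lit 18) Steps.nil))))))) (nat_lit 86) (nat_lit 7),
  Rule.mk (nat_lit 9) (nat_lit 158) (Steps.bwd (nat_lit 15) (Steps.bwd (nat_lit 9) (Steps.fwd (nat_lit 32768) (Steps.bwd (nat_lit 3) (Steps.fwd (nat_lit 16384) (Steps.bwd (nat_lit 12) (Steps.bwd (nat_lit 11) (Steps.bwd (nat_lit 17) (Steps.bwd (nat_lit 2) Steps.nil))))))))) (nat_lit 63) (nat_lit 8),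
  Rule.mk (nat_lit 16) (nat_lit 110) (Steps.bwd (nat_lit 11) (Steps.fwd (nat_lit 122880) (Steps.bwd (nat_lit 11) (Steps.fwd (nat_lit 73728) (Steps.fwd (nat_lit 155648) (Steps.bwd (nat_lit 9) Steps.nil)))))) (nat_lit 66) (nat_lit 4),
  Rule.mk (nat_lit 11) (nat_lit 206) (Steps.bwd (nat_lit 2) (Steps.bwd (nat_lit 2) (Steps.fwd (nat_lit 73728) (Steps.bwd (nat_lit 1) (Steps.fwd (nat_lit 32768) (Steps.fwd (nat_lit 32768) (Steps.fwd (nat_lit 16384) (Steps.bwd (nat_lit 4) (Steps.fwd (nat_lit 16384) (Steps.fwd (nat_lit 73728) (Steps.bwd (nat_lit 16) (Steps.fwd (nat_lit 147456) Steps.nil)))))))))))) (nat_lit 72) (nat_lit 11),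
  Rule.mk (nat_lit 4) (nat_lit 206) (Steps.bwd (nat_lit 2) (Steps.fwd (nat_lit 73728) (Steps.fwd (nat_lit 16384) (Steps.fwd (nat_lit 16384) (Steps.fwd (nat_lit 90112) (Steps.bwd (nat_lit 18) (Steps.fwd (nat_lit 131072) (Steps.bwd (nat_lit 9) (Steps.fwd (nat_lit 8192) (Steps.fwd (nat_lit 32768) (Steps.fwd (nat_lit 8192) (Steps.bwd (nat_lit 4) Steps.nil)))))))))))) (nat_lit 73) (nat_lit 11),
  Rule.mk (nat_lit 15) (nat_lit 110) (Steps.fwd (nat_lit 24576) (Steps.bwd (nat_lit 9) (Steps.bwd (nat_lit 10) (Steps.fwd (nat_lit 73728) (Steps.bwd (nat_lit 10) (Steps.bwd (nat_lit 4) Steps.nil)))))) (nat_lit 60) (nat_lit 6),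
  Rule.mk (nat_lit 1) (nat_lit 94) (Steps.fwd (nat_lit 16384) (Steps.bwd (nat_lit 1) (Steps.fwd (nat_lit 16384) (Steps.fwd (nat_lit 57344) (Steps.bwd (nat_lit 8) Steps.nil))))) (nat_lit 79) (nat_lit 1),
  Rule.mk (nat_lit 8) (nat_lit 126) (Steps.fwd (nat_lit 16384) (Steps.fwd (nat_lit 16384) (Steps.fwd (nat_lit 147456) (Steps.fwd (nat_lit 57344) (Steps.bwd (nat_lit 18) (Steps.bwd (nat_lit 8) (Steps.fwd (nat_lit 147456) Steps.nil))))))) (nat_lit 87) (nat_lit 0),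
  Rule.mk (nat_lit 9) (nat_lit 158) (Steps.bwd (nat_lit 1) (Steps.bwd (nat_lit 16) (Steps.bwd (nat_lit 10) (Steps.fwd (nat_lit 98304) (Steps.bwd (nat_lit 2) (Steps.bwd (nat_lit 4) (Steps.bwd (nat_lit 4) (Steps.fwd (nat_lit 73728) (Steps.bwd (nat_lit 14) Steps.nil))))))))) (nat_lit 62) (nat_lit 3),
  Rule.mk (nat_lit 14) (nat_lit 110) (Steps.bwd (nat_lit 11) (Steps.bwd (nat_lit 9) (Steps.fwd (nat_lit 155648) (Steps.fwd (nat_lit 73728) (Steps.fwd (nat_lit 139264) (Steps.fwd (nat_lit 81920) Steps.nil)))))) (nat_lit 66) (nat_lit 6),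
  Rule.mk (nat_lit 12) (nat_lit 142) (Steps.bwd (nat_lit 11) (Steps.bwd (nat_lit 2) (Steps.bwd (nat_lit 16) (Steps.bwd (nat_lit 1) (Steps.fwd (nat_lit 131072) (Steps.fwd (nat_lit 81920) (Steps.bwd (nat_lit 17) (Steps.fwd (nat_lit 122880) Steps.nil)))))))) (nat_lit 46) (nat_lit 8),
  Rule.mk (nat_lit 3) (nat_lit 126) (Steps.bwd (nat_lit 16) (Steps.fwd (nat_lit 90112) (Steps.bwd (nat_lit 16) (Steps.fwd (nat_lit 114688) (Steps.bwd (nat_lit 13) (Steps.bwd (nat_lit 4) (Steps.bwd (nat_lit 12) Steps.nil))))))) (nat_lit 50) (nat_lit 3),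
  Rule.mk (nat_lit 9) (nat_lit 110) (Steps.bwd (nat_lit 10) (Steps.fwd (nat_lit 114688) (Steps.bwd (nat_lit 10) (Steps.fwd (nat_lit 131072) (Steps.fwd (nat_lit 73728) (Steps.fwd (nat_lit 147456) Steps.nil)))))) (nat_lit 67) (nat_lit 0),
  Rule.mk (nat_lit 15) (nat_lit 158) (Steps.fwd (nat_lit 73728) (Steps.fwd (nat_lit 32768) (Steps.fwd (nat_lit 32768) (Steps.fwd (nat_lit 16384) (Steps.fwd (nat_lit 106496) (Steps.bwd (nat_lit 11) (Steps.bwd (nat_lit 17) (Steps.fwd (nat_lit 8192) (Steps.bwd (nat_lit 9) Steps.nil))))))))) (nat_lit 63) (nat_lit 9),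
  Rule.mk (nat_lit 9) (nat_lit 110) (Steps.bwd (nat_lit 17) (Steps.fwd (nat_lit 73728) (Steps.fwd (nat_lit 32768) (Steps.fwd (nat_lit 32768) (Steps.fwd (nat_lit 114688) (Steps.fwd (nat_lit 139264) Steps.nil)))))) (nat_lit 65) (nat_lit 5),
  Rule.mk (nat_lit 17) (nat_lit 110) (Steps.bwd (nat_lit 17) (Steps.fwd (nat_lit 73728) (Steps.fwd (nat_lit 24576) (Steps.bwd (nat_lit 9) (Steps.bwd (nat_lit 10) (Steps.fwd (nat_lit 114688) Steps.nil)))))) (nat_lit 71) (nat_lit 3),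
  Rule.mk (nat_lit 14) (nat_lit 110) (Steps.fwd (nat_lit 24576) (Steps.bwd (nat_lit 4) (Steps.bwd (nat_lit 9) (Steps.bwd (nat_lit 16) (Steps.fwd (nat_lit 73728) (Steps.bwd (nat_lit 17) Steps.nil)))))) (nat_lit 64) (nat_lit 5),
  Rule.mk (nat_lit 4) (nat_lit 126) (Steps.fwd (nat_lit 98304) (Steps.fwd (nat_lit 32768) (Steps.bwd (nat_lit 12) (Steps.fwd (nat_lit 122880) (Steps.bwd (nat_lit 17) (Steps.fwd (nat_lit 81920) (Steps.bwd (nat_lit 17) Steps.nil))))))) (nat_lit 51) (nat_lit 6),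
  Rule.mk (nat_lit 16) (nat_lit 142) (Steps.bwd (nat_lit 2) (Steps.bwd (nat_lit 17) (Steps.bwd (nat_lit 1) (Steps.fwd (nat_lit 90112) (Steps.bwd (nat_lit 13) (Steps.fwd (nat_lit 114688) (Steps.fwd (nat_lit 139264) (Steps.bwd (nat_lit 10) Steps.nil)))))))) (nat_lit 47) (nat_lit 6),
  Rule.mk (nat_lit 17) (nat_lit 158) (Steps.bwd (nat_lit 2) (Steps.fwd (nat_lit 73728) (Steps.bwd (nat_lit 15) (Steps.bwd (nat_lit 9) (Steps.bwd (nat_lit 3) (Steps.fwd (nat_lit 32768) (Steps.bwd (nat_lit 1) (Steps.fwd (nat_lit 106496) (Steps.fwd (nat_lit 81920) Steps.nil))))))))) (nat_lit 63) (nat_lit 6),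
  Rule.mk (nat_lit 15) (nat_lit 190) (Steps.bwd (nat_lit 2) (Steps.fwd (nat_lit 139264) (Steps.bwd (nat_lit 13) (Steps.bwd (nat_lit 9) (Steps.bwd (nat_lit 12) (Steps.fwd (nat_lit 73728) (Steps.fwd (nat_lit 98304) (Steps.fwd (nat_lit 73728) (Steps.bwd (nat_lit 2) (Steps.fwd (nat_lit 8192) (Steps.bwd (nat_lit 2) Steps.nil))))))))))) (nat_lit 75) (nat_lit 4),
  Rule.mk (nat_lit 9) (nat_lit 206) (Steps.bwd (nat_lit 2) (Steps.fwd (nat_lit 32768) (Steps.bwd (nat_lit 2) (Steps.bwd (nat_lit 4) (Steps.fwd (nat_lit 24576) (Steps.bwd (nat_lit 2) (Steps.fwd (nat_lit 73728) (Steps.fwd (nat_lit 16384) (Steps.fwd (nat_lit 16384) (Steps.fwd (nat_lit 90112) (Steps.bwd (nat_lit 18) (Steps.fwd (nat_lit 131072) Steps.nil)))))))))))) (nat_lit 73) (nat_lit 6),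
  Rule.mk (nat_lit 8) (nat_lit 126) (Steps.fwd (nat_lit 155648) (Steps.bwd (nat_lit 8) (Steps.bwd (nat_lit 19) (Steps.bwd (nat_lit 8) (Steps.bwd (nat_lit 1) (Steps.fwd (nat_lit 16384) (Steps.bwd (nat_lit 19) Steps.nil))))))) (nat_lit 87) (nat_lit 4)]
noncomputable def R_105 : List (Rule) := [Rule.mk (nat_lit 9) (nat_lit 110) (Steps.bwd (nat_lit 16) (Steps.fwd (nat_lit 81920) (Steps.bwd (nat_lit 14) (Steps.fwd (nat_lit 81920) (Steps.fwd (nat_lit 73728) (Steps.fwd (nat_lit 155648) Steps.nil)))))) (nat_lit 66) (nat_lit 3),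
  Rule.mk (nat_lit 3) (nat_lit 126) (Steps.bwd (nat_lit 16) (Steps.bwd (nat_lit 10) (Steps.fwd (nat_lit 139264) (Steps.fwd (nat_lit 114688) (Steps.fwd (nat_lit 98304) (Steps.bwd (nat_lit 4) (Steps.bwd (nat_lit 12) Steps.nil))))))) (nat_lit 50) (nat_lit 3),
  Rule.mk (nat_lit 1) (nat_lit 158) (Steps.bwd (nat_lit 16) (Steps.bwd (nat_lit 10) (Steps.fwd (nat_lit 98304) (Steps.bwd (nat_lit 2) (Steps.bwd (nat_lit 4) (Steps.fwd (nat_lit 24576) (Steps.bwd (nat_lit 9) (Steps.bwd (nat_lit 14) (Steps.fwd (nat_lit 73728) Steps.nil))))))))) (nat_lit 62) (nat_lit 4),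
  Rule.mk (nat_lit 1) (nat_lit 94) (Steps.fwd (nat_lit 32768) (Steps.fwd (nat_lit 8192) (Steps.fwd (nat_lit 8192) (Steps.fwd (nat_lit 24576) (Steps.bwd (nat_lit 1) Steps.nil))))) (nat_lit 6) (nat_lit 5),
  Rule.mk (nat_lit 10) (nat_lit 110) (Steps.bwd (nat_lit 17) (Steps.fwd (nat_lit 73728) (Steps.bwd (nat_lit 19) (Steps.bwd (nat_lit 9) (Steps.bwd (nat_lit 10) (Steps.bwd (nat_lit 15) Steps.nil)))))) (nat_lit 67) (nat_lit 3),
  Rule.mk (nat_lit 2) (nat_lit 142) (Steps.bwd (nat_lit 17) (Steps.fwd (nat_lit 16384) (Steps.bwd (nat_lit 10) (Steps.bwd (nat_lit 13) (Steps.fwd (nat_lit 114688) (Steps.bwd (nat_lit 16) (Steps.bwd (nat_lit 10) (Steps.bwd (nat_lit 16) Steps.nil)))))))) (nat_lit 47) (nat_lit 7),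
  Rule.mk (nat_lit 14) (nat_lit 110) (Steps.bwd (nat_lit 14) (Steps.bwd (nat_lit 2) (Steps.fwd (nat_lit 122880) (Steps.bwd (nat_lit 1) (Steps.fwd (nat_lit 131072) (Steps.fwd (nat_lit 81920) Steps.nil)))))) (nat_lit 44) (nat_lit 6),
  Rule.mk (nat_lit 1) (nat_lit 110) (Steps.bwd (nat_lit 17) (Steps.fwd (nat_lit 81920) (Steps.fwd (nat_lit 122880) (Steps.fwd (nat_lit 122880) (Steps.fwd (nat_lit 8192) (Steps.bwd (nat_lit 14) Steps.nil)))))) (nat_lit 44) (nat_lit 3),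
  Rule.mk (nat_lit 1) (nat_lit 190) (Steps.bwd (nat_lit 9) (Steps.bwd (nat_lit 12) (Steps.fwd (nat_lit 73728) (Steps.bwd (nat_lit 13) (Steps.fwd (nat_lit 73728) (Steps.fwd (nat_lit 106496) (Steps.bwd (nat_lit 17) (Steps.fwd (nat_lit 16384) (Steps.bwd (nat_lit 14) (Steps.bwd (nat_lit 1) (Steps.fwd (nat_lit 16384) Steps.nil))))))))))) (nat_lit 74) (nat_lit 0),
  Rule.mk (nat_lit 7) (nat_lit 286) (Steps.bwd (nat_lit 10) (Steps.fwd (nat_lit 32768) (Steps.bwd (nat_lit 1) (Steps.fwd (nat_lit 24576) (Steps.bwd (nat_lit 7) (Steps.fwd (nat_lit 90112) (Steps.fwd (nat_lit 65536) (Steps.bwd (nat_lit 9) (Steps.fwd (nat_lit 24576) (Steps.bwd (nat_lit 4) (Steps.fwd (nat_lit 8192) (Steps.fwd (nat_lit 81920) (Steps.fwd (nat_lit 16384) (Steps.fwd (nat_lit 90112) (Steps.fwd (nat_lit 8192) (Steps.bwd (nat_lit 10) (Steps.bwd (nat_lit 1) Steps.nil))))))))))))))))) (nat_lit 57) (nat_lit 10),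
  Rule.mk (nat_lit 17) (nat_lit 142) (Steps.bwd (nat_lit 1) (Steps.bwd (nat_lit 10) (Steps.fwd (nat_lit 98304) (Steps.bwd (nat_lit 15) (Steps.bwd (nat_lit 16) (Steps.fwd (nat_lit 90112) (Steps.bwd (nat_lit 16) (Steps.fwd (nat_lit 8192) Steps.nil)))))))) (nat_lit 47) (nat_lit 8),
  Rule.mk (nat_lit 19) (nat_lit 126) (Steps.bwd (nat_lit 8) (Steps.fwd (nat_lit 16384) (Steps.fwd (nat_lit 16384) (Steps.fwd (nat_lit 147456) (Steps.fwd (nat_lit 57344) (Steps.bwd (nat_lit 18) (Steps.bwd (nat_lit 8) Steps.nil))))))) (nat_lit 87) (nat_lit 7),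
  Rule.mk (nat_lit 9) (nat_lit 270) (Steps.bwd (nat_lit 8) (Steps.fwd (nat_lit 16384) (Steps.fwd (nat_lit 32768) (Steps.fwd (nat_lit 32768) (Steps.fwd (nat_lit 8192) (Steps.fwd (nat_lit 24576) (Steps.bwd (nat_lit 11) (Steps.fwd (nat_lit 131072) (Steps.bwd (nat_lit 19) (Steps.fwd (nat_lit 16384) (Steps.bwd (nat_lit 9) (Steps.bwd (nat_lit 1) (Steps.bwd (nat_lit 9) (Steps.fwd (nat_lit 16384) (Steps.bwd (nat_lit 13) (Steps.bwd (nat_lit 3) Steps.nil)))))))))))))))) (nat_lit 77) (nat_lit 16),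
  Rule.mk (nat_lit 11) (nat_lit 286) (Steps.bwd (nat_lit 8) (Steps.fwd (nat_lit 32768) (Steps.bwd (nat_lit 2) (Steps.fwd (nat_lit 24576) (Steps.bwd (nat_lit 11) (Steps.fwd (nat_lit 57344) (Steps.fwd (nat_lit 8192) (Steps.fwd (nat_lit 81920) (Steps.bwd (nat_lit 1) (Steps.fwd (nat_lit 81920) (Steps.fwd (nat_lit 8192) (Steps.bwd (nat_lit 10) (Steps.bwd (nat_lit 1) (Steps.bwd (nat_lit 3) (Steps.bwd (nat_lit 3) (Steps.bwd (nat_lit 9) (Steps.bwd (nat_lit 8) Steps.nil))))))))))))))))) (nat_lit 56) (nat_lit 3),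
  Rule.mk (nat_lit 9) (nat_lit 270) (Steps.bwd (nat_lit 8) (Steps.bwd (nat_lit 1) (Steps.fwd (nat_lit 32768) (Steps.bwd (nat_lit 3) (Steps.fwd (nat_lit 8192) (Steps.bwd (nat_lit 4) (Steps.bwd (nat_lit 11) (Steps.fwd (nat_lit 131072) (Steps.bwd (nat_lit 19) (Steps.bwd (nat_lit 1) (Steps.bwd (nat_lit 9) (Steps.fwd (nat_lit 16384) (Steps.fwd (nat_lit 73728) (Steps.bwd (nat_lit 1) (Steps.bwd (nat_lit 13) (Steps.fwd (nat_lit 32768) Steps.nil)))))))))))))))) (nat_lit 77) (nat_lit 16),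
  Rule.mk (nat_lit 11) (nat_lit 286) (Steps.bwd (nat_lit 8) (Steps.fwd (nat_lit 32768) (Steps.fwd (nat_lit 8192) (Steps.bwd (nat_lit 4) (Steps.bwd (nat_lit 11) (Steps.bwd (nat_lit 8) (Steps.fwd (nat_lit 8192) (Steps.fwd (nat_lit 81920) (Steps.fwd (nat_lit 16384) (Steps.fwd (nat_lit 81920) (Steps.bwd (nat_lit 2) (Steps.fwd (nat_lit 90112) (Steps.bwd (nat_lit 1) (Steps.bwd (nat_lit 3) (Steps.bwd (nat_lit 3) (Steps.fwd (nat_lit 73728) (Steps.fwd (nat_lit 57344) Steps.nil))))))))))))))))) (nat_lit 56) (nat_lit 3),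
  Rule.mk (nat_lit 1) (nat_lit 94) (Steps.bwd (nat_lit 3) (Steps.fwd (nat_lit 8192) (Steps.bwd (nat_lit 2) (Steps.bwd (nat_lit 4) (Steps.fwd (nat_lit 16384) Steps.nil))))) (nat_lit 6) (nat_lit 5),
  Rule.mk (nat_lit 15) (nat_lit 126) (Steps.bwd (nat_lit 3) (Steps.fwd (nat_lit 90112) (Steps.fwd (nat_lit 90112) (Steps.bwd (nat_lit 16) (Steps.bwd (nat_lit 15) (Steps.bwd (nat_lit 15) (Steps.fwd (nat_lit 24576) Steps.nil))))))) (nat_lit 53) (nat_lit 7),
  Rule.mk (nat_lit 2) (nat_lit 206) (Steps.bwd (nat_lit 3) (Steps.fwd (nat_lit 8192) (Steps.bwd (nat_lit 4) (Steps.fwd (nat_lit 24576) (Steps.fwd (nat_lit 8192) (Steps.fwd (nat_lit 73728) (Steps.bwd (nat_lit 1) (Steps.fwd (nat_lit 16384) (Steps.fwd (nat_lit 73728) (Steps.fwd (nat_lit 139264) (Steps.fwd (nat_lit 147456) (Steps.bwd (nat_lit 11) Steps.nil)))))))))))) (nat_lit 68) (nat_lit 8),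
  Rule.mk (nat_lit 10) (nat_lit 110) (Steps.bwd (nat_lit 15) (Steps.fwd (nat_lit 90112) (Steps.bwd (nat_lit 17) (Steps.fwd (nat_lit 73728) (Steps.fwd (nat_lit 147456) (Steps.fwd (nat_lit 73728) Steps.nil)))))) (nat_lit 67) (nat_lit 1),
  Rule.mk (nat_lit 9) (nat_lit 286) (Steps.fwd (nat_lit 57344) (Steps.fwd (nat_lit 81920) (Steps.fwd (nat_lit 57344) (Steps.fwd (nat_lit 32768) (Steps.fwd (nat_lit 8192) (Steps.fwd (nat_lit 24576) (Steps.bwd (nat_lit 11) (Steps.fwd (nat_lit 57344) (Steps.bwd (nat_lit 2) (Steps.fwd (nat_lit 81920) (Steps.fwd (nat_lit 16384) (Steps.bwd (nat_lit 11) (Steps.fwd (nat_lit 8192) (Steps.bwd (nat_lit 10) (Steps.fwd (nat_lit 16384) (Steps.fwd (nat_lit 32768) (Steps.bwd (nat_lit 3) Steps.nil))))))))))))))))) (nat_lit 56) (nat_lit 1),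
  Rule.mk (nat_lit 12) (nat_lit 190) (Steps.bwd (nat_lit 9) (Steps.fwd (nat_lit 98304) (Steps.bwd (nat_lit 9) (Steps.bwd (nat_lit 12) (Steps.bwd (nat_lit 17) (Steps.fwd (nat_lit 16384) (Steps.bwd (nat_lit 14) (Steps.fwd (nat_lit 16384) (Steps.fwd (nat_lit 16384) (Steps.fwd (nat_lit 16384) (Steps.fwd (nat_lit 73728) Steps.nil))))))))))) (nat_lit 74) (nat_lit 2),
  Rule.mk (nat_lit 2) (nat_lit 190) (Steps.bwd (nat_lit 4) (Steps.fwd (nat_lit 16384) (Steps.bwd (nat_lit 3) (Steps.bwd (nat_lit 2) (Steps.fwd (nat_lit 24576) (Steps.fwd (nat_lit 16384) (Steps.fwd (nat_lit 32768) (Steps.fwd (nat_lit 8192) (Steps.bwd (nat_lit 4) (Steps.fwd (nat_lit 16384) (Steps.bwd (nat_lit 3) Steps.nil))))))))))) (nat_lit 8) (nat_lit 1),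
  Rule.mk (nat_lit 1) (nat_lit 206) (Steps.bwd (nat_lit 4) (Steps.fwd (nat_lit 16384) (Steps.fwd (nat_lit 90112) (Steps.bwd (nat_lit 18) (Steps.fwd (nat_lit 131072) (Steps.fwd (nat_lit 73728) (Steps.fwd (nat_lit 8192) (Steps.bwd (nat_lit 2) (Steps.bwd (nat_lit 9) (Steps.bwd (nat_lit 1) (Steps.fwd (nat_lit 32768) (Steps.fwd (nat_lit 32768) Steps.nil)))))))))))) (nat_lit 69) (nat_lit 4),
  Rule.mk (nat_lit 9) (nat_lit 110) (Steps.bwd (nat_lit 17) (Steps.bwd (nat_lit 9) (Steps.fwd (nat_lit 32768) (Steps.bwd (nat_lit 3) (Steps.fwd (nat_lit 114688) (Steps.bwd (nat_lit 16) Steps.nil)))))) (nat_lit 65) (nat_lit 5),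
  Rule.mk (nat_lit 10) (nat_lit 110) (Steps.bwd (nat_lit 17) (Steps.bwd (nat_lit 9) (Steps.fwd (nat_lit 147456) (Steps.bwd (nat_lit 9) (Steps.bwd (nat_lit 10) (Steps.fwd (nat_lit 114688) Steps.nil)))))) (nat_lit 67) (nat_lit 3),
  Rule.mk (nat_lit 14) (nat_lit 126) (Steps.bwd (nat_lit 17) (Steps.fwd (nat_lit 81920) (Steps.fwd (nat_lit 131072) (Steps.bwd (nat_lit 4) (Steps.fwd (nat_lit 98304) (Steps.bwd (nat_lit 3) (Steps.fwd (nat_lit 106496) Steps.nil))))))) (nat_lit 51) (nat_lit 2),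
  Rule.mk (nat_lit 2) (nat_lit 142) (Steps.bwd (nat_lit 17) (Steps.bwd (nat_lit 1) (Steps.fwd (nat_lit 90112) (Steps.bwd (nat_lit 13) (Steps.fwd (nat_lit 114688) (Steps.bwd (nat_lit 16) (Steps.fwd (nat_lit 90112) (Steps.fwd (nat_lit 139264) Steps.nil)))))))) (nat_lit 47) (nat_lit 7),
  Rule.mk (nat_lit 11) (nat_lit 158) (Steps.bwd (nat_lit 17) (Steps.fwd (nat_lit 8192) (Steps.fwd (nat_lit 73728) (Steps.fwd (nat_lit 114688) (Steps.bwd (nat_lit 9) (Steps.fwd (nat_lit 32768) (Steps.fwd (nat_lit 32768) (Steps.bwd (nat_lit 1) (Steps.fwd (nat_lit 106496) Steps.nil))))))))) (nat_lit 63) (nat_lit 5),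
  Rule.mk (nat_lit 8) (nat_lit 286) (Steps.fwd (nat_lit 8192) (Steps.bwd (nat_lit 11) (Steps.fwd (nat_lit 16384) (Steps.bwd (nat_lit 11) (Steps.bwd (nat_lit 2) (Steps.bwd (nat_lit 10) (Steps.bwd (nat_lit 1) (Steps.fwd (nat_lit 32768) (Steps.bwd (nat_lit 3) (Steps.fwd (nat_lit 73728) (Steps.fwd (nat_lit 57344) (Steps.bwd (nat_lit 11) (Steps.fwd (nat_lit 57344) (Steps.bwd (nat_lit 3) (Steps.bwd (nat_lit 2) (Steps.bwd (nat_lit 4) (Steps.bwd (nat_lit 11) Steps.nil))))))))))))))))) (nat_lit 56) (nat_lit 9),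
  Rule.mk (nat_lit 18) (nat_lit 94) (Steps.bwd (nat_lit 18) (Steps.bwd (nat_lit 17) (Steps.fwd (nat_lit 81920) (Steps.fwd (nat_lit 139264) (Steps.fwd (nat_lit 90112) Steps.nil))))) (nat_lit 35) (nat_lit 1),
  Rule.mk (nat_lit 7) (nat_lit 126) (Steps.bwd (nat_lit 18) (Steps.fwd (nat_lit 65536) (Steps.fwd (nat_lit 147456) (Steps.bwd (nat_lit 7) (Steps.bwd (nat_lit 18) (Steps.bwd (nat_lit 2) (Steps.bwd (nat_lit 2) Steps.nil))))))) (nat_lit 86) (nat_lit 1),
  Rule.mk (nat_lit 17) (nat_lit 110) (Steps.bwd (nat_lit 11) (Steps.fwd (nat_lit 122880) (Steps.fwd (nat_lit 122880) (Steps.fwd (nat_lit 8192) (Steps.fwd (nat_lit 122880) (Steps.fwd (nat_lit 16384) Steps.nil)))))) (nat_lit 44) (nat_lit 4),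
  Rule.mk (nat_lit 3) (nat_lit 110) (Steps.bwd (nat_lit 11) (Steps.fwd (nat_lit 73728) (Steps.bwd (nat_lit 11) (Steps.bwd (nat_lit 9) (Steps.fwd (nat_lit 32768) (Steps.fwd (nat_lit 122880) Steps.nil)))))) (nat_lit 61) (nat_lit 3),
  Rule.mk (nat_lit 12) (nat_lit 158) (Steps.bwd (nat_lit 11) (Steps.fwd (nat_lit 131072) (Steps.bwd (nat_lit 2) (Steps.bwd (nat_lit 9) (Steps.fwd (nat_lit 114688) (Steps.bwd (nat_lit 9) (Steps.fwd (nat_lit 32768) (Steps.bwd (nat_lit 3) (Steps.fwd (nat_lit 16384) Steps.nil))))))))) (nat_lit 63) (nat_lit 4),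
  Rule.mk (nat_lit 8) (nat_lit 286) (Steps.bwd (nat_lit 11) (Steps.fwd (nat_lit 57344) (Steps.fwd (nat_lit 32768) (Steps.fwd (nat_lit 8192) (Steps.fwd (nat_lit 24576) (Steps.bwd (nat_lit 11) (Steps.bwd (nat_lit 8) (Steps.bwd (nat_lit 2) (Steps.fwd (nat_lit 81920) (Steps.bwd (nat_lit 1) (Steps.bwd (nat_lit 11) (Steps.bwd (nat_lit 2) (Steps.fwd (nat_lit 90112) (Steps.fwd (nat_lit 16384) (Steps.bwd (nat_lit 3) (Steps.bwd (nat_lit 3) (Steps.fwd (nat_lit 73728) Steps.nil))))))))))))))))) (nat_lit 56) (nat_lit 2),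
  Rule.mk (nat_lit 2) (nat_lit 286) (Steps.bwd (nat_lit 11) (Steps.fwd (nat_lit 16384) (Steps.fwd (nat_lit 90112) (Steps.fwd (nat_lit 8192) (Steps.fwd (nat_lit 90112) (Steps.bwd (nat_lit 1) (Steps.bwd (nat_lit 7) (Steps.fwd (nat_lit 90112) (Steps.bwd (nat_lit 3) (Steps.fwd (nat_lit 16384) (Steps.fwd (nat_lit 24576) (Steps.fwd (nat_lit 65536) (Steps.fwd (nat_lit 90112) (Steps.fwd (nat_lit 65536) (Steps.bwd (nat_lit 9) (Steps.bwd (nat_lit 4) (Steps.fwd (nat_lit 24576) Steps.nil))))))))))))))))) (nat_lit 57) (nat_lit 3),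
  Rule.mk (nat_lit 9) (nat_lit 206) (Steps.bwd (nat_lit 1) (Steps.fwd (nat_lit 16384) (Steps.bwd (nat_lit 9) (Steps.bwd (nat_lit 16) (Steps.fwd (nat_lit 147456) (Steps.bwd (nat_lit 11) (Steps.fwd (nat_lit 8192) (Steps.bwd (nat_lit 3) (Steps.fwd (nat_lit 8192) (Steps.bwd (nat_lit 4) (Steps.fwd (nat_lit 24576) (Steps.bwd (nat_lit 2) Steps.nil)))))))))))) (nat_lit 68) (nat_lit 1),
  Rule.mk (nat_lit 7) (nat_lit 126) (Steps.bwd (nat_lit 18) (Steps.fwd (nat_lit 8192) (Steps.bwd (nat_lit 2) (Steps.fwd (nat_lit 65536) (Steps.fwd (nat_lit 155648) (Steps.fwd (nat_lit 65536) (Steps.bwd (nat_lit 19) Steps.nil))))))) (nat_lit 86) (nat_lit 5),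
  Rule.mk (nat_lit 8) (nat_lit 126) (Steps.bwd (nat_lit 18) (Steps.bwd (nat_lit 8) (Steps.bwd (nat_lit 19) (Steps.fwd (nat_lit 57344) (Steps.bwd (nat_lit 1) (Steps.fwd (nat_lit 16384) (Steps.bwd (nat_lit 19) Steps.nil))))))) (nat_lit 87) (nat_lit 4),
  Rule.mk (nat_lit 14) (nat_lit 158) (Steps.fwd (nat_lit 73728) (Steps.bwd (nat_lit 1) (Steps.fwd (nat_lit 139264) (Steps.fwd (nat_lit 90112) (Steps.bwd (nat_lit 13) (Steps.fwd (nat_lit 8192) (Steps.bwd (nat_lit 4) (Steps.fwd (nat_lit 24576) (Steps.bwd (nat_lit 9) Steps.nil))))))))) (nat_lit 62) (nat_lit 2),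
  Rule.mk (nat_lit 9) (nat_lit 206) (Steps.bwd (nat_lit 1) (Steps.bwd (nat_lit 1) (Steps.fwd (nat_lit 73728) (Steps.fwd (nat_lit 139264) (Steps.fwd (nat_lit 147456) (Steps.bwd (nat_lit 11) (Steps.bwd (nat_lit 2) (Steps.bwd (nat_lit 3) (Steps.bwd (nat_lit 2) (Steps.fwd (nat_lit 24576) (Steps.fwd (nat_lit 24576) (Steps.fwd (nat_lit 8192) Steps.nil)))))))))))) (nat_lit 68) (nat_lit 1),
  Rule.mk (nat_lit 10) (nat_lit 286) (Steps.bwd (nat_lit 1) (Steps.fwd (nat_lit 32768) (Steps.fwd (nat_lit 32768) (Steps.fwd (nat_lit 73728) (Steps.bwd (nat_lit 8) (Steps.fwd (nat_lit 81920) (Steps.fwd (nat_lit 57344) (Steps.fwd (nat_lit 32768) (Steps.fwd (nat_lit 8192) (Steps.bwd (nat_lit 4) (Steps.bwd (nat_lit 11) (Steps.bwd (nat_lit 8) (Steps.bwd (nat_lit 2) (Steps.fwd (nat_lit 81920) (Steps.bwd (nat_lit 1) (Steps.fwd (nat_lit 81920) (Steps.bwd (nat_lit 2) Steps.nil))))))))))))))))) (nat_lit 56) (nat_lit 15),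
  Rule.mk (nat_lit 11) (nat_lit 286) (Steps.bwd (nat_lit 1) (Steps.fwd (nat_lit 81920) (Steps.fwd (nat_lit 8192) (Steps.fwd (nat_lit 90112) (Steps.fwd (nat_lit 16384) (Steps.bwd (nat_lit 3) (Steps.fwd (nat_lit 32768) (Steps.fwd (nat_lit 73728) (Steps.fwd (nat_lit 57344) (Steps.fwd (nat_lit 81920) (Steps.bwd (nat_lit 8) (Steps.bwd (nat_lit 3) (Steps.fwd (nat_lit 8192) (Steps.bwd (nat_lit 4) (Steps.fwd (nat_lit 81920) (Steps.bwd (nat_lit 8) (Steps.bwd (nat_lit 2) Steps.nil))))))))))))))))) (nat_lit 56) (nat_lit 11),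
  Rule.mk (nat_lit 16) (nat_lit 110) (Steps.bwd (nat_lit 14) (Steps.fwd (nat_lit 81920) (Steps.fwd (nat_lit 73728) (Steps.fwd (nat_lit 32768) (Steps.bwd (nat_lit 9) (Steps.bwd (nat_lit 16) Steps.nil)))))) (nat_lit 70) (nat_lit 5),
  Rule.mk (nat_lit 14) (nat_lit 110) (Steps.bwd (nat_lit 14) (Steps.fwd (nat_lit 8192) (Steps.bwd (nat_lit 14) (Steps.fwd (nat_lit 16384) (Steps.bwd (nat_lit 17) (Steps.bwd (nat_lit 11) Steps.nil)))))) (nat_lit 44) (nat_lit 6),
  Rule.mk (nat_lit 9) (nat_lit 270) (Steps.fwd (nat_lit 8192) (Steps.bwd (nat_lit 18) (Steps.bwd (nat_lit 16) (Steps.fwd (nat_lit 90112) (Steps.fwd (nat_lit 32768) (Steps.fwd (nat_lit 16384) (Steps.fwd (nat_lit 24576) (Steps.bwd (nat_lit 4) (Steps.fwd (nat_lit 8192) (Steps.fwd (nat_lit 65536) (Steps.bwd (nat_lit 9) (Steps.bwd (nat_lit 4) (Steps.fwd (nat_lit 106496) (Steps.fwd (nat_lit 8192) (Steps.fwd (nat_lit 73728) (Steps.bwd (nat_lit 2) Steps.nil))))))))))))))))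 (nat_lit 76) (nat_lit 8),
  Rule.mk (nat_lit 12) (nat_lit 142) (Steps.bwd (nat_lit 11) (Steps.bwd (nat_lit 2) (Steps.bwd (nat_lit 16) (Steps.bwd (nat_lit 1) (Steps.fwd (nat_lit 131072) (Steps.bwd (nat_lit 11) (Steps.bwd (nat_lit 17) (Steps.fwd (nat_lit 122880) Steps.nil)))))))) (nat_lit 46) (nat_lit 8),
  Rule.mk (nat_lit 3) (nat_lit 126) (Steps.fwd (nat_lit 139264) (Steps.fwd (nat_lit 90112) (Steps.fwd (nat_lit 139264) (Steps.bwd (nat_lit 15) (Steps.bwd (nat_lit 13) (Steps.bwd (nat_lit 4) (Steps.bwd (nat_lit 12) Steps.nil))))))) (nat_lit 50) (nat_lit 3),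
  Rule.mk (nat_lit 4) (nat_lit 126) (Steps.bwd (nat_lit 14) (Steps.fwd (nat_lit 32768) (Steps.fwd (nat_lit 122880) (Steps.fwd (nat_lit 122880) (Steps.fwd (nat_lit 131072) (Steps.bwd (nat_lit 11) (Steps.fwd (nat_lit 81920) Steps.nil))))))) (nat_lit 52) (nat_lit 1),
  Rule.mk (nat_lit 9) (nat_lit 158) (Steps.bwd (nat_lit 14) (Steps.bwd (nat_lit 9) (Steps.bwd (nat_lit 1) (Steps.fwd (nat_lit 139264) (Steps.fwd (nat_lit 90112) (Steps.bwd (nat_lit 13) (Steps.fwd (nat_lit 8192) (Steps.fwd (nat_lit 24576) (Steps.fwd (nat_lit 24576) Steps.nil))))))))) (nat_lit 62) (nat_lit 1),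
  Rule.mk (nat_lit 2) (nat_lit 206) (Steps.bwd (nat_lit 3) (Steps.bwd (nat_lit 2) (Steps.fwd (nat_lit 24576) (Steps.fwd (nat_lit 24576) (Steps.bwd (nat_lit 2) (Steps.fwd (nat_lit 73728) (Steps.bwd (nat_lit 1) (Steps.bwd (nat_lit 1) (Steps.fwd (nat_lit 90112) (Steps.fwd (nat_lit 155648) (Steps.fwd (nat_lit 131072) (Steps.bwd (nat_lit 9) Steps.nil)))))))))))) (nat_lit 73) (nat_lit 7),
  Rule.mk (nat_lit 14) (nat_lit 110) (Steps.bwd (nat_lit 2) (Steps.bwd (nat_lit 14) (Steps.bwd (nat_lit 1) (Steps.fwd (nat_lit 131072) (Steps.bwd (nat_lit 11) (Steps.fwd (nat_lit 122880) Steps.nil)))))) (nat_lit 44) (nat_lit 0),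
  Rule.mk (nat_lit 17) (nat_lit 158) (Steps.bwd (nat_lit 2) (Steps.fwd (nat_lit 73728) (Steps.fwd (nat_lit 114688) (Steps.bwd (nat_lit 9) (Steps.bwd (nat_lit 3) (Steps.bwd (nat_lit 3) (Steps.bwd (nat_lit 1) (Steps.bwd (nat_lit 12) (Steps.fwd (nat_lit 81920) Steps.nil))))))))) (nat_lit 63) (nat_lit 6),
  Rule.mk (nat_lit 15) (nat_lit 190) (Steps.bwd (nat_lit 2) (Steps.bwd (nat_lit 16) (Steps.bwd (nat_lit 13) (Steps.bwd (nat_lit 9) (Steps.fwd (nat_lit 106496) (Steps.bwd (nat_lit 9) (Steps.bwd (nat_lit 13) (Steps.fwd (nat_lit 73728) (Steps.bwd (nat_lit 2) (Steps.bwd (nat_lit 2) (Steps.fwd (nat_lit 8192) Steps.nil))))))))))) (nat_lit 75) (nat_lit 4),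
  Rule.mk (nat_lit 4) (nat_lit 110) (Steps.fwd (nat_lit 73728) (Steps.bwd (nat_lit 10) (Steps.fwd (nat_lit 73728) (Steps.fwd (nat_lit 90112) (Steps.bwd (nat_lit 4) (Steps.bwd (nat_lit 15) Steps.nil)))))) (nat_lit 60) (nat_lit 0),
  Rule.mk (nat_lit 10) (nat_lit 142) (Steps.bwd (nat_lit 13) (Steps.bwd (nat_lit 15) (Steps.fwd (nat_lit 139264) (Steps.fwd (nat_lit 90112) (Steps.fwd (nat_lit 139264) (Steps.fwd (nat_lit 8192) (Steps.bwd (nat_lit 17) (Steps.fwd (nat_lit 16384) Steps.nil)))))))) (nat_lit 47) (nat_lit 1),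
  Rule.mk (nat_lit 10) (nat_lit 78) (Steps.fwd (nat_lit 8192) (Steps.fwd (nat_lit 106496) (Steps.fwd (nat_lit 16384) (Steps.bwd (nat_lit 10) Steps.nil)))) (nat_lit 42) (nat_lit 0),
  Rule.mk (nat_lit 3) (nat_lit 286) (Steps.fwd (nat_lit 16384) (Steps.fwd (nat_lit 24576) (Steps.bwd (nat_lit 7) (Steps.fwd (nat_lit 90112) (Steps.fwd (nat_lit 65536) (Steps.bwd (nat_lit 9) (Steps.fwd (nat_lit 24576) (Steps.bwd (nat_lit 4) (Steps.fwd (nat_lit 8192) (Steps.fwd (nat_lit 81920) (Steps.fwd (nat_lit 16384) (Steps.bwd (nat_lit 10) (Steps.bwd (nat_lit 2) (Steps.fwd (nat_lit 90112) (Steps.bwd (nat_lit 1) (Steps.bwd (nat_lit 7) (Steps.bwd (nat_lit 10) Steps.nil))))))))))))))))) (nat_lit 57) (nat_lit 12),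
  Rule.mk (nat_lit 14) (nat_lit 110) (Steps.bwd (nat_lit 3) (Steps.fwd (nat_lit 81920) (Steps.fwd (nat_lit 73728) (Steps.fwd (nat_lit 81920) (Steps.fwd (nat_lit 73728) (Steps.fwd (nat_lit 32768) Steps.nil)))))) (nat_lit 61) (nat_lit 2),
  Rule.mk (nat_lit 9) (nat_lit 110) (Steps.bwd (nat_lit 18) (Steps.fwd (nat_lit 73728) (Steps.fwd (nat_lit 139264) (Steps.bwd (nat_lit 11) (Steps.fwd (nat_lit 122880) (Steps.fwd (nat_lit 81920) Steps.nil)))))) (nat_lit 66) (nat_lit 1),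
  Rule.mk (nat_lit 3) (nat_lit 110) (Steps.fwd (nat_lit 122880) (Steps.bwd (nat_lit 3) (Steps.bwd (nat_lit 11) (Steps.bwd (nat_lit 9) (Steps.fwd (nat_lit 81920) (Steps.bwd (nat_lit 9) Steps.nil)))))) (nat_lit 61) (nat_lit 1),
  Rule.mk (nat_lit 17) (nat_lit 126) (Steps.bwd (nat_lit 4) (Steps.fwd (nat_lit 98304) (Steps.bwd (nat_lit 3) (Steps.bwd (nat_lit 12) (Steps.bwd (nat_lit 14) (Steps.bwd (nat_lit 17) (Steps.bwd (nat_lit 11) Steps.nil))))))) (nat_lit 51) (nat_lit 5),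
  Rule.mk (nat_lit 8) (nat_lit 286) (Steps.bwd (nat_lit 3) (Steps.fwd (nat_lit 8192) (Steps.fwd (nat_lit 24576) (Steps.fwd (nat_lit 81920) (Steps.bwd (nat_lit 8) (Steps.fwd (nat_lit 8192) (Steps.fwd (nat_lit 81920) (Steps.bwd (nat_lit 1) (Steps.bwd (nat_lit 11) (Steps.bwd (nat_lit 2) (Steps.fwd (nat_lit 90112) (Steps.bwd (nat_lit 1) (Steps.bwd (nat_lit 3) (Steps.fwd (nat_lit 32768) (Steps.fwd (nat_lit 73728) (Steps.bwd (nat_lit 8) (Steps.bwd (nat_lit 11) Steps.nil))))))))))))))))) (nat_lit 56) (nat_lit 4)]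
noncomputable def R_106 : List (Rule) := [Rule.mk (nat_lit 15) (nat_lit 110) (Steps.bwd (nat_lit 15) (Steps.fwd (nat_lit 90112) (Steps.fwd (nat_lit 139264) (Steps.bwd (nat_lit 2) (Steps.fwd (nat_lit 114688) (Steps.fwd (nat_lit 16384) Steps.nil)))))) (nat_lit 45) (nat_lit 1),
  Rule.mk (nat_lit 16) (nat_lit 126) (Steps.bwd (nat_lit 15) (Steps.bwd (nat_lit 13) (Steps.fwd (nat_lit 24576) (Steps.fwd (nat_lit 106496) (Steps.fwd (nat_lit 32768) (Steps.fwd (nat_lit 139264) (Steps.fwd (nat_lit 90112) Steps.nil))))))) (nat_lit 50) (nat_lit 6),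
  Rule.mk (nat_lit 4) (nat_lit 126) (Steps.bwd (nat_lit 15) (Steps.fwd (nat_lit 32768) (Steps.fwd (nat_lit 90112) (Steps.fwd (nat_lit 90112) (Steps.bwd (nat_lit 16) (Steps.fwd (nat_lit 114688) (Steps.bwd (nat_lit 15) Steps.nil))))))) (nat_lit 53) (nat_lit 6),
  Rule.mk (nat_lit 2) (nat_lit 126) (Steps.fwd (nat_lit 24576) (Steps.fwd (nat_lit 8192) (Steps.bwd (nat_lit 4) (Steps.fwd (nat_lit 8192) (Steps.bwd (nat_lit 4) (Steps.bwd (nat_lit 2) (Steps.bwd (nat_lit 4) Steps.nil))))))) (nat_lit 5) (nat_lit 0),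
  Rule.mk (nat_lit 1) (nat_lit 206) (Steps.fwd (nat_lit 90112) (Steps.bwd (nat_lit 18) (Steps.bwd (nat_lit 17) (Steps.fwd (nat_lit 73728) (Steps.bwd (nat_lit 2) (Steps.bwd (nat_lit 2) (Steps.bwd (nat_lit 9) (Steps.fwd (nat_lit 16384) (Steps.bwd (nat_lit 3) (Steps.fwd (nat_lit 32768) (Steps.fwd (nat_lit 16384) (Steps.bwd (nat_lit 4) Steps.nil)))))))))))) (nat_lit 69) (nat_lit 6),
  Rule.mk (nat_lit 10) (nat_lit 286) (Steps.bwd (nat_lit 3) (Steps.bwd (nat_lit 1) (Steps.bwd (nat_lit 4) (Steps.bwd (nat_lit 7) (Steps.bwd (nat_lit 10) (Steps.bwd (nat_lit 7) (Steps.bwd (nat_lit 9) (Steps.fwd (nat_lit 24576) (Steps.bwd (nat_lit 4) (Steps.fwd (nat_lit 8192) (Steps.bwd (nat_lit 11) (Steps.fwd (nat_lit 16384) (Steps.fwd (nat_lit 90112) (Steps.fwd (nat_lit 8192) (Steps.fwd (nat_lit 90112) (Steps.bwd (nat_lit 1) (Steps.bwd (nat_lit 7) Steps.nil))))))))))))))))) (nat_lit 57) (nat_lit 11),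
  Rule.mk (nat_lit 17) (nat_lit 110) (Steps.fwd (nat_lit 73728) (Steps.fwd (nat_lit 147456) (Steps.bwd (nat_lit 9) (Steps.bwd (nat_lit 10) (Steps.bwd (nat_lit 15) (Steps.bwd (nat_lit 10) Steps.nil)))))) (nat_lit 67) (nat_lit 4),
  Rule.mk (nat_lit 14) (nat_lit 126) (Steps.bwd (nat_lit 17) (Steps.fwd (nat_lit 81920) (Steps.bwd (nat_lit 11) (Steps.bwd (nat_lit 4) (Steps.fwd (nat_lit 122880) (Steps.bwd (nat_lit 3) (Steps.bwd (nat_lit 14) Steps.nil))))))) (nat_lit 52) (nat_lit 5),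
  Rule.mk (nat_lit 9) (nat_lit 110) (Steps.bwd (nat_lit 3) (Steps.bwd (nat_lit 14) (Steps.fwd (nat_lit 32768) (Steps.bwd (nat_lit 11) (Steps.fwd (nat_lit 73728) (Steps.fwd (nat_lit 81920) Steps.nil)))))) (nat_lit 61) (nat_lit 0),
  Rule.mk (nat_lit 13) (nat_lit 270) (Steps.bwd (nat_lit 3) (Steps.fwd (nat_lit 73728) (Steps.bwd (nat_lit 8) (Steps.fwd (nat_lit 16384) (Steps.bwd (nat_lit 3) (Steps.bwd (nat_lit 3) (Steps.bwd (nat_lit 2) (Steps.bwd (nat_lit 4) (Steps.bwd (nat_lit 11) (Steps.bwd (nat_lit 17) (Steps.fwd (nat_lit 147456) (Steps.bwd (nat_lit 1) (Steps.fwd (nat_lit 73728) (Steps.fwd (nat_lit 16384) (Steps.bwd (nat_lit 9) (Steps.bwd (nat_lit 1) Steps.nil)))))))))))))))) (nat_lit 77) (nat_lit 14),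
  Rule.mk (nat_lit 10) (nat_lit 110) (Steps.bwd (nat_lit 15) (Steps.bwd (nat_lit 10) (Steps.bwd (nat_lit 17) (Steps.bwd (nat_lit 9) (Steps.bwd (nat_lit 19) (Steps.bwd (nat_lit 9) Steps.nil)))))) (nat_lit 67) (nat_lit 1),
  Rule.mk (nat_lit 7) (nat_lit 286) (Steps.bwd (nat_lit 10) (Steps.bwd (nat_lit 3) (Steps.fwd (nat_lit 16384) (Steps.fwd (nat_lit 24576) (Steps.bwd (nat_lit 7) (Steps.fwd (nat_lit 90112) (Steps.fwd (nat_lit 65536) (Steps.fwd (nat_lit 73728) (Steps.bwd (nat_lit 4) (Steps.fwd (nat_lit 24576) (Steps.fwd (nat_lit 8192) (Steps.fwd (nat_lit 81920) (Steps.fwd (nat_lit 16384) (Steps.bwd (nat_lit 10) (Steps.fwd (nat_lit 8192) (Steps.bwd (nat_lit 10) (Steps.bwd (nat_lit 1) Steps.nil))))))))))))))))) (nat_lit 57) (nat_lit 10),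
  Rule.mk (nat_lit 16) (nat_lit 142) (Steps.fwd (nat_lit 16384) (Steps.bwd (nat_lit 17) (Steps.fwd (nat_lit 81920) (Steps.fwd (nat_lit 131072) (Steps.fwd (nat_lit 122880) (Steps.bwd (nat_lit 12) (Steps.fwd (nat_lit 81920) (Steps.bwd (nat_lit 2) Steps.nil)))))))) (nat_lit 46) (nat_lit 2),
  Rule.mk (nat_lit 17) (nat_lit 142) (Steps.bwd (nat_lit 1) (Steps.bwd (nat_lit 10) (Steps.fwd (nat_lit 98304) (Steps.fwd (nat_lit 114688) (Steps.bwd (nat_lit 16) (Steps.fwd (nat_lit 90112) (Steps.bwd (nat_lit 16) (Steps.bwd (nat_lit 2) Steps.nil)))))))) (nat_lit 47) (nat_lit 8),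
  Rule.mk (nat_lit 11) (nat_lit 286) (Steps.bwd (nat_lit 1) (Steps.bwd (nat_lit 11) (Steps.fwd (nat_lit 8192) (Steps.bwd (nat_lit 10) (Steps.fwd (nat_lit 16384) (Steps.bwd (nat_lit 3) (Steps.fwd (nat_lit 32768) (Steps.fwd (nat_lit 73728) (Steps.bwd (nat_lit 8) (Steps.fwd (nat_lit 81920) (Steps.fwd (nat_lit 57344) (Steps.bwd (nat_lit 3) (Steps.fwd (nat_lit 8192) (Steps.fwd (nat_lit 24576) (Steps.bwd (nat_lit 11) (Steps.fwd (nat_lit 57344) (Steps.bwd (nat_lit 2) Steps.nil))))))))))))))))) (nat_lit 56) (nat_lit 11),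
  Rule.mk (nat_lit 10) (nat_lit 110) (Steps.bwd (nat_lit 16) (Steps.fwd (nat_lit 8192) (Steps.bwd (nat_lit 15) (Steps.bwd (nat_lit 1) (Steps.bwd (nat_lit 15) (Steps.fwd (nat_lit 114688) Steps.nil)))))) (nat_lit 45) (nat_lit 3),
  Rule.mk (nat_lit 16) (nat_lit 110) (Steps.bwd (nat_lit 16) (Steps.bwd (nat_lit 14) (Steps.bwd (nat_lit 11) (Steps.fwd (nat_lit 73728) (Steps.bwd (nat_lit 3) (Steps.fwd (nat_lit 73728) Steps.nil)))))) (nat_lit 70) (nat_lit 4),
  Rule.mk (nat_lit 3) (nat_lit 126) (Steps.bwd (nat_lit 16) (Steps.bwd (nat_lit 10) (Steps.fwd (nat_lit 139264) (Steps.fwd (nat_lit 114688) (Steps.bwd (nat_lit 13) (Steps.fwd (nat_lit 24576) (Steps.bwd (nat_lit 12) Steps.nil))))))) (nat_lit 50) (nat_lit 3),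
  Rule.mk (nat_lit 1) (nat_lit 158) (Steps.bwd (nat_lit 16) (Steps.bwd (nat_lit 10) (Steps.fwd (nat_lit 98304) (Steps.bwd (nat_lit 2) (Steps.bwd (nat_lit 4) (Steps.fwd (nat_lit 24576) (Steps.fwd (nat_lit 73728) (Steps.fwd (nat_lit 122880) (Steps.bwd (nat_lit 9) Steps.nil))))))))) (nat_lit 62) (nat_lit 4),
  Rule.mk (nat_lit 8) (nat_lit 126) (Steps.bwd (nat_lit 19) (Steps.fwd (nat_lit 57344) (Steps.fwd (nat_lit 16384) (Steps.fwd (nat_lit 16384) (Steps.fwd (nat_lit 147456) (Steps.bwd (nat_lit 8) (Steps.fwd (nat_lit 155648) Steps.nil))))))) (nat_lit 87) (nat_lit 6),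
  Rule.mk (nat_lit 17) (nat_lit 126) (Steps.bwd (nat_lit 4) (Steps.fwd (nat_lit 98304) (Steps.fwd (nat_lit 32768) (Steps.fwd (nat_lit 106496) (Steps.fwd (nat_lit 122880) (Steps.fwd (nat_lit 131072) (Steps.bwd (nat_lit 11) Steps.nil))))))) (nat_lit 51) (nat_lit 5),
  Rule.mk (nat_lit 11) (nat_lit 126) (Steps.bwd (nat_lit 17) (Steps.bwd (nat_lit 4) (Steps.fwd (nat_lit 98304) (Steps.bwd (nat_lit 3) (Steps.fwd (nat_lit 106496) (Steps.bwd (nat_lit 14) (Steps.bwd (nat_lit 17) Steps.nil))))))) (nat_lit 51) (nat_lit 4),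
  Rule.mk (nat_lit 2) (nat_lit 190) (Steps.bwd (nat_lit 16) (Steps.fwd (nat_lit 98304) (Steps.bwd (nat_lit 9) (Steps.bwd (nat_lit 12) (Steps.fwd (nat_lit 73728) (Steps.bwd (nat_lit 13) (Steps.bwd (nat_lit 9) (Steps.fwd (nat_lit 8192) (Steps.fwd (nat_lit 8192) (Steps.fwd (nat_lit 8192) (Steps.fwd (nat_lit 114688) Steps.nil))))))))))) (nat_lit 75) (nat_lit 5),
  Rule.mk (nat_lit 17) (nat_lit 142) (Steps.fwd (nat_lit 16384) (Steps.fwd (nat_lit 90112) (Steps.bwd (nat_lit 13) (Steps.fwd (nat_lit 114688) (Steps.bwd (nat_lit 16) (Steps.fwd (nat_lit 90112) (Steps.fwd (nat_lit 139264) (Steps.bwd (nat_lit 2) Steps.nil)))))))) (nat_lit 47) (nat_lit 8),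
  Rule.mk (nat_lit 4) (nat_lit 158) (Steps.bwd (nat_lit 4) (Steps.bwd (nat_lit 9) (Steps.fwd (nat_lit 122880) (Steps.bwd (nat_lit 9) (Steps.fwd (nat_lit 16384) (Steps.fwd (nat_lit 139264) (Steps.bwd (nat_lit 10) (Steps.fwd (nat_lit 98304) (Steps.bwd (nat_lit 2) Steps.nil))))))))) (nat_lit 62) (nat_lit 9),
  Rule.mk (nat_lit 11) (nat_lit 126) (Steps.bwd (nat_lit 4) (Steps.bwd (nat_lit 14) (Steps.bwd (nat_lit 3) (Steps.fwd (nat_lit 122880) (Steps.fwd (nat_lit 122880) (Steps.bwd (nat_lit 17) (Steps.fwd (nat_lit 81920) Steps.nil))))))) (nat_lit 52) (nat_lit 0),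
  Rule.mk (nat_lit 9) (nat_lit 190) (Steps.bwd (nat_lit 13) (Steps.bwd (nat_lit 9) (Steps.fwd (nat_lit 106496) (Steps.bwd (nat_lit 17) (Steps.bwd (nat_lit 1) (Steps.fwd (nat_lit 122880) (Steps.bwd (nat_lit 1) (Steps.fwd (nat_lit 16384) (Steps.bwd (nat_lit 1) (Steps.bwd (nat_lit 9) (Steps.bwd (nat_lit 12) Steps.nil))))))))))) (nat_lit 74) (nat_lit 3),
  Rule.mk (nat_lit 15) (nat_lit 158) (Steps.fwd (nat_lit 73728) (Steps.bwd (nat_lit 3) (Steps.fwd (nat_lit 32768) (Steps.fwd (nat_lit 16384) (Steps.fwd (nat_lit 106496) (Steps.bwd (nat_lit 11) (Steps.bwd (nat_lit 17) (Steps.fwd (nat_lit 8192) (Steps.bwd (nat_lit 9) Steps.nil))))))))) (nat_lit 63) (nat_lit 9),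
  Rule.mk (nat_lit 8) (nat_lit 270) (Steps.fwd (nat_lit 16384) (Steps.bwd (nat_lit 3) (Steps.bwd (nat_lit 3) (Steps.bwd (nat_lit 2) (Steps.fwd (nat_lit 24576) (Steps.fwd (nat_lit 81920) (Steps.fwd (nat_lit 131072) (Steps.bwd (nat_lit 19) (Steps.bwd (nat_lit 1) (Steps.bwd (nat_lit 9) (Steps.bwd (nat_lit 1) (Steps.bwd (nat_lit 9) (Steps.fwd (nat_lit 16384) (Steps.bwd (nat_lit 13) (Steps.fwd (nat_lit 32768) (Steps.bwd (nat_lit 9) Steps.nil)))))))))))))))) (nat_lit 77) (nat_lit 0),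
  Rule.mk (nat_lit 12) (nat_lit 190) (Steps.fwd (nat_lit 131072) (Steps.bwd (nat_lit 1) (Steps.bwd (nat_lit 14) (Steps.bwd (nat_lit 1) (Steps.fwd (nat_lit 16384) (Steps.bwd (nat_lit 1) (Steps.bwd (nat_lit 9) (Steps.fwd (nat_lit 106496) (Steps.fwd (nat_lit 73728) (Steps.bwd (nat_lit 13) (Steps.bwd (nat_lit 9) Steps.nil))))))))))) (nat_lit 74) (nat_lit 6),
  Rule.mk (nat_lit 11) (nat_lit 110) (Steps.bwd (nat_lit 14) (Steps.fwd (nat_lit 122880) (Steps.bwd (nat_lit 2) (Steps.fwd (nat_lit 122880) (Steps.bwd (nat_lit 1) (Steps.fwd (nat_lit 131072) Steps.nil)))))) (nat_lit 44) (nat_lit 5),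
  Rule.mk (nat_lit 17) (nat_lit 110) (Steps.bwd (nat_lit 14) (Steps.fwd (nat_lit 24576) (Steps.bwd (nat_lit 4) (Steps.fwd (nat_lit 73728) (Steps.fwd (nat_lit 139264) (Steps.fwd (nat_lit 73728) Steps.nil)))))) (nat_lit 64) (nat_lit 4),
  Rule.mk (nat_lit 9) (nat_lit 158) (Steps.bwd (nat_lit 14) (Steps.fwd (nat_lit 73728) (Steps.fwd (nat_lit 16384) (Steps.bwd (nat_lit 16) (Steps.bwd (nat_lit 10) (Steps.fwd (nat_lit 98304) (Steps.fwd (nat_lit 8192) (Steps.fwd (nat_lit 24576) (Steps.bwd (nat_lit 4) Steps.nil))))))))) (nat_lit 62) (nat_lit 1),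
  Rule.mk (nat_lit 1) (nat_lit 190) (Steps.bwd (nat_lit 14) (Steps.fwd (nat_lit 16384) (Steps.fwd (nat_lit 16384) (Steps.bwd (nat_lit 1) (Steps.bwd (nat_lit 9) (Steps.bwd (nat_lit 12) (Steps.fwd (nat_lit 73728) (Steps.bwd (nat_lit 13) (Steps.fwd (nat_lit 73728) (Steps.bwd (nat_lit 12) (Steps.fwd (nat_lit 131072) Steps.nil))))))))))) (nat_lit 74) (nat_lit 8),
  Rule.mk (nat_lit 17) (nat_lit 142) (Steps.bwd (nat_lit 11) (Steps.fwd (nat_lit 131072) (Steps.bwd (nat_lit 14) (Steps.fwd (nat_lit 106496) (Steps.fwd (nat_lit 81920) (Steps.fwd (nat_lit 8192) (Steps.fwd (nat_lit 139264) (Steps.bwd (nat_lit 1) Steps.nil)))))))) (nat_lit 46) (nat_lit 4),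
  Rule.mk (nat_lit 10) (nat_lit 286) (Steps.bwd (nat_lit 7) (Steps.bwd (nat_lit 9) (Steps.bwd (nat_lit 4) (Steps.bwd (nat_lit 4) (Steps.bwd (nat_lit 2) (Steps.fwd (nat_lit 81920) (Steps.bwd (nat_lit 1) (Steps.bwd (nat_lit 10) (Steps.fwd (nat_lit 8192) (Steps.bwd (nat_lit 10) (Steps.fwd (nat_lit 16384) (Steps.fwd (nat_lit 65536) (Steps.bwd (nat_lit 10) (Steps.bwd (nat_lit 3) (Steps.bwd (nat_lit 1) (Steps.bwd (nat_lit 4) (Steps.fwd (nat_lit 65536) Steps.nil))))))))))))))))) (nat_lit 57) (nat_lit 16),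
  Rule.mk (nat_lit 9) (nat_lit 110) (Steps.bwd (nat_lit 3) (Steps.bwd (nat_lit 14) (Steps.fwd (nat_lit 32768) (Steps.fwd (nat_lit 81920) (Steps.fwd (nat_lit 73728) (Steps.fwd (nat_lit 81920) Steps.nil)))))) (nat_lit 61) (nat_lit 0),
  Rule.mk (nat_lit 3) (nat_lit 110) (Steps.bwd (nat_lit 3) (Steps.fwd (nat_lit 114688) (Steps.fwd (nat_lit 139264) (Steps.bwd (nat_lit 9) (Steps.fwd (nat_lit 131072) (Steps.bwd (nat_lit 9) Steps.nil)))))) (nat_lit 65) (nat_lit 1),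
  Rule.mk (nat_lit 14) (nat_lit 126) (Steps.bwd (nat_lit 3) (Steps.bwd (nat_lit 14) (Steps.bwd (nat_lit 14) (Steps.fwd (nat_lit 131072) (Steps.bwd (nat_lit 11) (Steps.bwd (nat_lit 11) (Steps.bwd (nat_lit 4) Steps.nil))))))) (nat_lit 52) (nat_lit 2),
  Rule.mk (nat_lit 10) (nat_lit 270) (Steps.bwd (nat_lit 3) (Steps.fwd (nat_lit 16384) (Steps.bwd (nat_lit 4) (Steps.fwd (nat_lit 24576) (Steps.fwd (nat_lit 8192) (Steps.fwd (nat_lit 65536) (Steps.bwd (nat_lit 9) (Steps.bwd (nat_lit 4) (Steps.bwd (nat_lit 12) (Steps.bwd (nat_lit 2) (Steps.bwd (nat_lit 9) (Steps.fwd (nat_lit 8192) (Steps.bwd (nat_lit 9) (Steps.fwd (nat_lit 8192) (Steps.fwd (nat_lit 155648) (Steps.bwd (nat_lit 16) Steps.nil)))))))))))))))) (nat_lit 76) (nat_lit 12),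
  Rule.mk (nat_lit 17) (nat_lit 110) (Steps.fwd (nat_lit 73728) (Steps.bwd (nat_lit 19) (Steps.bwd (nat_lit 9) (Steps.fwd (nat_lit 90112) (Steps.fwd (nat_lit 114688) (Steps.bwd (nat_lit 10) Steps.nil)))))) (nat_lit 67) (nat_lit 4),
  Rule.mk (nat_lit 7) (nat_lit 286) (Steps.fwd (nat_lit 90112) (Steps.bwd (nat_lit 7) (Steps.bwd (nat_lit 9) (Steps.bwd (nat_lit 4) (Steps.fwd (nat_lit 24576) (Steps.fwd (nat_lit 8192) (Steps.bwd (nat_lit 11) (Steps.fwd (nat_lit 16384) (Steps.bwd (nat_lit 10) (Steps.bwd (nat_lit 2) (Steps.bwd (nat_lit 10) (Steps.fwd (nat_lit 16384) (Steps.fwd (nat_lit 65536) (Steps.fwd (nat_lit 90112) (Steps.fwd (nat_lit 32768) (Steps.bwd (nat_lit 1) (Steps.fwd (nat_lit 24576) Steps.nil))))))))))))))))) (nat_lit 57) (nat_lit 15),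
  Rule.mk (nat_lit 2) (nat_lit 94) (Steps.fwd (nat_lit 8192) (Steps.fwd (nat_lit 24576) (Steps.bwd (nat_lit 1) (Steps.bwd (nat_lit 1) (Steps.bwd (nat_lit 3) Steps.nil))))) (nat_lit 6) (nat_lit 1),
  Rule.mk (nat_lit 12) (nat_lit 126) (Steps.bwd (nat_lit 14) (Steps.bwd (nat_lit 17) (Steps.bwd (nat_lit 11) (Steps.fwd (nat_lit 131072) (Steps.bwd (nat_lit 4) (Steps.bwd (nat_lit 13) (Steps.bwd (nat_lit 3) Steps.nil))))))) (nat_lit 51) (nat_lit 1),
  Rule.mk (nat_lit 9) (nat_lit 110) (Steps.bwd (nat_lit 19) (Steps.bwd (nat_lit 9) (Steps.bwd (nat_lit 10) (Steps.bwd (nat_lit 15) (Steps.bwd (nat_lit 10) (Steps.fwd (nat_lit 131072) Steps.nil)))))) (nat_lit 67) (nat_lit 5),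
  Rule.mk (nat_lit 7) (nat_lit 126) (Steps.bwd (nat_lit 19) (Steps.bwd (nat_lit 7) (Steps.bwd (nat_lit 18) (Steps.fwd (nat_lit 8192) (Steps.fwd (nat_lit 8192) (Steps.bwd (nat_lit 7) (Steps.bwd (nat_lit 18) Steps.nil))))))) (nat_lit 86) (nat_lit 3),
  Rule.mk (nat_lit 14) (nat_lit 142) (Steps.bwd (nat_lit 12) (Steps.fwd (nat_lit 81920) (Steps.bwd (nat_lit 2) (Steps.fwd (nat_lit 139264) (Steps.bwd (nat_lit 1) (Steps.bwd (nat_lit 17) (Steps.fwd (nat_lit 81920) (Steps.bwd (nat_lit 17) Steps.nil)))))))) (nat_lit 46) (nat_lit 7),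
  Rule.mk (nat_lit 1) (nat_lit 110) (Steps.fwd (nat_lit 131072) (Steps.fwd (nat_lit 81920) (Steps.bwd (nat_lit 14) (Steps.fwd (nat_lit 122880) (Steps.bwd (nat_lit 2) (Steps.bwd (nat_lit 14) Steps.nil)))))) (nat_lit 44) (nat_lit 3),
  Rule.mk (nat_lit 3) (nat_lit 110) (Steps.bwd (nat_lit 11) (Steps.fwd (nat_lit 73728) (Steps.fwd (nat_lit 81920) (Steps.bwd (nat_lit 9) (Steps.bwd (nat_lit 3) (Steps.bwd (nat_lit 14) Steps.nil)))))) (nat_lit 61) (nat_lit 3),
  Rule.mk (nat_lit 12) (nat_lit 126) (Steps.bwd (nat_lit 3) (Steps.fwd (nat_lit 139264) (Steps.fwd (nat_lit 90112) (Steps.bwd (nat_lit 16) (Steps.fwd (nat_lit 114688) (Steps.fwd (nat_lit 98304) (Steps.bwd (nat_lit 4) Steps.nil))))))) (nat_lit 50) (nat_lit 2),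
  Rule.mk (nat_lit 10) (nat_lit 94) (Steps.bwd (nat_lit 19) (Steps.bwd (nat_lit 19) (Steps.fwd (nat_lit 114688) (Steps.bwd (nat_lit 11) (Steps.bwd (nat_lit 14) Steps.nil))))) (nat_lit 33) (nat_lit 0),
  Rule.mk (nat_lit 9) (nat_lit 270) (Steps.bwd (nat_lit 4) (Steps.fwd (nat_lit 106496) (Steps.fwd (nat_lit 8192) (Steps.bwd (nat_lit 9) (Steps.bwd (nat_lit 2) (Steps.bwd (nat_lit 9) (Steps.fwd (nat_lit 8192) (Steps.fwd (nat_lit 155648) (Steps.bwd (nat_lit 16) (Steps.bwd (nat_lit 10) (Steps.bwd (nat_lit 3) (Steps.fwd (nat_lit 16384) (Steps.bwd (nat_lit 4) (Steps.bwd (nat_lit 4) (Steps.bwd (nat_lit 2) (Steps.bwd (nat_lit 7) Steps.nil)))))))))))))))) (nat_lit 76) (nat_lit 2),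
  Rule.mk (nat_lit 4) (nat_lit 126) (Steps.bwd (nat_lit 13) (Steps.bwd (nat_lit 3) (Steps.bwd (nat_lit 12) (Steps.fwd (nat_lit 122880) (Steps.bwd (nat_lit 17) (Steps.bwd (nat_lit 11) (Steps.fwd (nat_lit 131072) Steps.nil))))))) (nat_lit 51) (nat_lit 6),
  Rule.mk (nat_lit 9) (nat_lit 190) (Steps.bwd (nat_lit 13) (Steps.bwd (nat_lit 9) (Steps.fwd (nat_lit 8192) (Steps.fwd (nat_lit 8192) (Steps.bwd (nat_lit 2) (Steps.fwd (nat_lit 114688) (Steps.fwd (nat_lit 8192) (Steps.fwd (nat_lit 139264) (Steps.fwd (nat_lit 98304) (Steps.fwd (nat_lit 73728) (Steps.fwd (nat_lit 106496) Steps.nil))))))))))) (nat_lit 75) (nat_lit 10),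
  Rule.mk (nat_lit 1) (nat_lit 158) (Steps.fwd (nat_lit 139264) (Steps.fwd (nat_lit 90112) (Steps.fwd (nat_lit 98304) (Steps.fwd (nat_lit 8192) (Steps.bwd (nat_lit 4) (Steps.fwd (nat_lit 24576) (Steps.fwd (nat_lit 73728) (Steps.fwd (nat_lit 122880) (Steps.bwd (nat_lit 9) Steps.nil))))))))) (nat_lit 62) (nat_lit 4),
  Rule.mk (nat_lit 15) (nat_lit 158) (Steps.bwd (nat_lit 9) (Steps.fwd (nat_lit 32768) (Steps.fwd (nat_lit 32768) (Steps.fwd (nat_lit 16384) (Steps.bwd (nat_lit 12) (Steps.bwd (nat_lit 11) (Steps.bwd (nat_lit 17) (Steps.bwd (nat_lit 2) (Steps.bwd (nat_lit 9) Steps.nil))))))))) (nat_lit 63) (nat_lit 9),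
  Rule.mk (nat_lit 4) (nat_lit 126) (Steps.bwd (nat_lit 14) (Steps.fwd (nat_lit 32768) (Steps.bwd (nat_lit 14) (Steps.fwd (nat_lit 122880) (Steps.fwd (nat_lit 131072) (Steps.bwd (nat_lit 11) (Steps.fwd (nat_lit 81920) Steps.nil))))))) (nat_lit 52) (nat_lit 1),
  Rule.mk (nat_lit 9) (nat_lit 158) (Steps.bwd (nat_lit 14) (Steps.fwd (nat_lit 73728) (Steps.bwd (nat_lit 1) (Steps.fwd (nat_lit 139264) (Steps.bwd (nat_lit 10) (Steps.fwd (nat_lit 98304) (Steps.bwd (nat_lit 2) (Steps.fwd (nat_lit 24576) (Steps.bwd (nat_lit 4) Steps.nil))))))))) (nat_lit 62) (nat_lit 1),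
  Rule.mk (nat_lit 2) (nat_lit 190) (Steps.bwd (nat_lit 2) (Steps.bwd (nat_lit 2) (Steps.fwd (nat_lit 114688) (Steps.bwd (nat_lit 2) (Steps.fwd (nat_lit 139264) (Steps.fwd (nat_lit 98304) (Steps.bwd (nat_lit 9) (Steps.fwd (nat_lit 106496) (Steps.bwd (nat_lit 9) (Steps.fwd (nat_lit 98304) (Steps.bwd (nat_lit 9) Steps.nil))))))))))) (nat_lit 75) (nat_lit 1),
  Rule.mk (nat_lit 1) (nat_lit 206) (Steps.fwd (nat_lit 32768) (Steps.fwd (nat_lit 32768) (Steps.fwd (nat_lit 16384) (Steps.fwd (nat_lit 24576) (Steps.fwd (nat_lit 16384) (Steps.fwd (nat_lit 90112) (Steps.fwd (nat_lit 155648) (Steps.bwd (nat_lit 17) (Steps.bwd (nat_lit 9) (Steps.bwd (nat_lit 2) (Steps.fwd (nat_lit 8192) (Steps.bwd (nat_lit 9) Steps.nil)))))))))))) (nat_lit 69) (nat_lit 1),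
  Rule.mk (nat_lit 11) (nat_lit 110) (Steps.bwd (nat_lit 14) (Steps.bwd (nat_lit 14) (Steps.fwd (nat_lit 8192) (Steps.fwd (nat_lit 122880) (Steps.bwd (nat_lit 1) (Steps.fwd (nat_lit 131072) Steps.nil)))))) (nat_lit 44) (nat_lit 5),
  Rule.mk (nat_lit 4) (nat_lit 126) (Steps.bwd (nat_lit 14) (Steps.fwd (nat_lit 32768) (Steps.fwd (nat_lit 122880) (Steps.fwd (nat_lit 122880) (Steps.bwd (nat_lit 17) (Steps.fwd (nat_lit 81920) (Steps.fwd (nat_lit 81920) Steps.nil))))))) (nat_lit 52) (nat_lit 1),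
  Rule.mk (nat_lit 1) (nat_lit 190) (Steps.bwd (nat_lit 14) (Steps.bwd (nat_lit 1) (Steps.fwd (nat_lit 16384) (Steps.bwd (nat_lit 1) (Steps.bwd (nat_lit 9) (Steps.bwd (nat_lit 12) (Steps.fwd (nat_lit 73728) (Steps.fwd (nat_lit 98304) (Steps.fwd (nat_lit 73728) (Steps.fwd (nat_lit 106496) (Steps.bwd (nat_lit 17) Steps.nil))))))))))) (nat_lit 74) (nat_lit 8),
  Rule.mk (nat_lit 1) (nat_lit 94) (Steps.fwd (nat_lit 32768) (Steps.bwd (nat_lit 2) (Steps.bwd (nat_lit 2) (Steps.bwd (nat_lit 4) (Steps.bwd (nat_lit 1) Steps.nil))))) (nat_lit 6) (nat_lit 5)]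
noncomputable def R_107 : List (Rule) := [Rule.mk (nat_lit 2) (nat_lit 126) (Steps.bwd (nat_lit 4) (Steps.fwd (nat_lit 8192) (Steps.bwd (nat_lit 4) (Steps.bwd (nat_lit 2) (Steps.fwd (nat_lit 24576) (Steps.bwd (nat_lit 2) (Steps.fwd (nat_lit 24576) Steps.nil))))))) (nat_lit 5) (nat_lit 0),
  Rule.mk (nat_lit 17) (nat_lit 126) (Steps.bwd (nat_lit 4) (Steps.bwd (nat_lit 13) (Steps.fwd (nat_lit 32768) (Steps.bwd (nat_lit 12) (Steps.fwd (nat_lit 122880) (Steps.fwd (nat_lit 131072) (Steps.bwd (nat_lit 11) Steps.nil))))))) (nat_lit 51) (nat_lit 5),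
  Rule.mk (nat_lit 11) (nat_lit 126) (Steps.bwd (nat_lit 4) (Steps.fwd (nat_lit 122880) (Steps.bwd (nat_lit 3) (Steps.bwd (nat_lit 14) (Steps.bwd (nat_lit 14) (Steps.fwd (nat_lit 131072) (Steps.bwd (nat_lit 11) Steps.nil))))))) (nat_lit 52) (nat_lit 0),
  Rule.mk (nat_lit 8) (nat_lit 286) (Steps.fwd (nat_lit 81920) (Steps.bwd (nat_lit 8) (Steps.fwd (nat_lit 32768) (Steps.bwd (nat_lit 2) (Steps.bwd (nat_lit 4) (Steps.fwd (nat_lit 81920) (Steps.bwd (nat_lit 8) (Steps.bwd (nat_lit 2) (Steps.fwd (nat_lit 81920) (Steps.bwd (nat_lit 1) (Steps.bwd (nat_lit 11) (Steps.bwd (nat_lit 2) (Steps.bwd (nat_lit 10) (Steps.fwd (nat_lit 16384) (Steps.bwd (nat_lit 3) (Steps.fwd (nat_lit 32768) (Steps.fwd (nat_lit 73728) Steps.nil))))))))))))))))) (nat_lit 56) (nat_lit 2),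
  Rule.mk (nat_lit 2) (nat_lit 94) (Steps.bwd (nat_lit 8) (Steps.fwd (nat_lit 16384) (Steps.bwd (nat_lit 7) (Steps.bwd (nat_lit 2) (Steps.fwd (nat_lit 8192) Steps.nil))))) (nat_lit 82) (nat_lit 0),
  Rule.mk (nat_lit 19) (nat_lit 126) (Steps.bwd (nat_lit 8) (Steps.fwd (nat_lit 16384) (Steps.bwd (nat_lit 1) (Steps.fwd (nat_lit 147456) (Steps.bwd (nat_lit 8) (Steps.fwd (nat_lit 155648) (Steps.fwd (nat_lit 57344) Steps.nil))))))) (nat_lit 87) (nat_lit 7),
  Rule.mk (nat_lit 18) (nat_lit 126) (Steps.bwd (nat_lit 8) (Steps.fwd (nat_lit 147456) (Steps.fwd (nat_lit 57344) (Steps.bwd (nat_lit 1) (Steps.fwd (nat_lit 16384) (Steps.bwd (nat_lit 19) (Steps.fwd (nat_lit 57344) Steps.nil))))))) (nat_lit 87) (nat_lit 5),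
  Rule.mk (nat_lit 9) (nat_lit 110) (Steps.bwd (nat_lit 16) (Steps.bwd (nat_lit 11) (Steps.bwd (nat_lit 14) (Steps.fwd (nat_lit 81920) (Steps.fwd (nat_lit 73728) (Steps.bwd (nat_lit 18) Steps.nil)))))) (nat_lit 66) (nat_lit 3),
  Rule.mk (nat_lit 8) (nat_lit 126) (Steps.bwd (nat_lit 19) (Steps.fwd (nat_lit 57344) (Steps.bwd (nat_lit 1) (Steps.bwd (nat_lit 1) (Steps.bwd (nat_lit 19) (Steps.bwd (nat_lit 8) (Steps.fwd (nat_lit 155648) Steps.nil))))))) (nat_lit 87) (nat_lit 6),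
  Rule.mk (nat_lit 9) (nat_lit 206) (Steps.bwd (nat_lit 16) (Steps.bwd (nat_lit 19) (Steps.bwd (nat_lit 11) (Steps.bwd (nat_lit 2) (Steps.bwd (nat_lit 2) (Steps.bwd (nat_lit 9) (Steps.bwd (nat_lit 1) (Steps.bwd (nat_lit 3) (Steps.bwd (nat_lit 3) (Steps.fwd (nat_lit 16384) (Steps.bwd (nat_lit 4) (Steps.bwd (nat_lit 1) Steps.nil)))))))))))) (nat_lit 72) (nat_lit 8),
  Rule.mk (nat_lit 15) (nat_lit 158) (Steps.bwd (nat_lit 9) (Steps.bwd (nat_lit 3) (Steps.fwd (nat_lit 32768) (Steps.fwd (nat_lit 16384) (Steps.fwd (nat_lit 106496) (Steps.bwd (nat_lit 11) (Steps.bwd (nat_lit 17) (Steps.fwd (nat_lit 8192) (Steps.bwd (nat_lit 9) Steps.nil))))))))) (nat_lit 63) (nat_lit 9),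
  Rule.mk (nat_lit 4) (nat_lit 94) (Steps.bwd (nat_lit 2) (Steps.fwd (nat_lit 8192) (Steps.fwd (nat_lit 32768) (Steps.fwd (nat_lit 16384) (Steps.fwd (nat_lit 16384) Steps.nil))))) (nat_lit 7) (nat_lit 1),
  Rule.mk (nat_lit 9) (nat_lit 190) (Steps.bwd (nat_lit 2) (Steps.fwd (nat_lit 8192) (Steps.bwd (nat_lit 2) (Steps.bwd (nat_lit 15) (Steps.fwd (nat_lit 8192) (Steps.bwd (nat_lit 16) (Steps.bwd (nat_lit 13) (Steps.fwd (nat_lit 73728) (Steps.fwd (nat_lit 106496) (Steps.fwd (nat_lit 73728) (Steps.bwd (nat_lit 13) Steps.nil))))))))))) (nat_lit 75) (nat_lit 0),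
  Rule.mk (nat_lit 14) (nat_lit 158) (Steps.fwd (nat_lit 73728) (Steps.bwd (nat_lit 1) (Steps.fwd (nat_lit 139264) (Steps.bwd (nat_lit 10) (Steps.fwd (nat_lit 98304) (Steps.bwd (nat_lit 2) (Steps.bwd (nat_lit 4) (Steps.bwd (nat_lit 4) (Steps.bwd (nat_lit 9) Steps.nil))))))))) (nat_lit 62) (nat_lit 2),
  Rule.mk (nat_lit 12) (nat_lit 190) (Steps.bwd (nat_lit 17) (Steps.bwd (nat_lit 1) (Steps.bwd (nat_lit 14) (Steps.bwd (nat_lit 1) (Steps.fwd (nat_lit 16384) (Steps.fwd (nat_lit 16384) (Steps.fwd (nat_lit 73728) (Steps.fwd (nat_lit 106496) (Steps.fwd (nat_lit 73728) (Steps.bwd (nat_lit 13) (Steps.bwd (nat_lit 9) Steps.nil))))))))))) (nat_lit 74) (nat_lit 6),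
  Rule.mk (nat_lit 15) (nat_lit 190) (Steps.bwd (nat_lit 2) (Steps.bwd (nat_lit 16) (Steps.fwd (nat_lit 98304) (Steps.bwd (nat_lit 9) (Steps.bwd (nat_lit 12) (Steps.fwd (nat_lit 73728) (Steps.fwd (nat_lit 98304) (Steps.bwd (nat_lit 9) (Steps.bwd (nat_lit 2) (Steps.bwd (nat_lit 2) (Steps.bwd (nat_lit 2) Steps.nil))))))))))) (nat_lit 75) (nat_lit 4),
  Rule.mk (nat_lit 9) (nat_lit 206) (Steps.bwd (nat_lit 2) (Steps.fwd (nat_lit 8192) (Steps.fwd (nat_lit 73728) (Steps.bwd (nat_lit 1) (Steps.bwd (nat_lit 3) (Steps.bwd (nat_lit 3) (Steps.bwd (nat_lit 1) (Steps.bwd (nat_lit 4) (Steps.fwd (nat_lit 16384) (Steps.fwd (nat_lit 90112) (Steps.fwd (nat_lit 155648) (Steps.bwd (nat_lit 17) Steps.nil)))))))))))) (nat_lit 69) (nat_lit 10),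
  Rule.mk (nat_lit 9) (nat_lit 158) (Steps.bwd (nat_lit 1) (Steps.fwd (nat_lit 139264) (Steps.fwd (nat_lit 90112) (Steps.bwd (nat_lit 13) (Steps.bwd (nat_lit 2) (Steps.fwd (nat_lit 24576) (Steps.bwd (nat_lit 4) (Steps.bwd (nat_lit 9) (Steps.bwd (nat_lit 14) Steps.nil))))))))) (nat_lit 62) (nat_lit 3),
  Rule.mk (nat_lit 10) (nat_lit 286) (Steps.bwd (nat_lit 1) (Steps.fwd (nat_lit 32768) (Steps.fwd (nat_lit 32768) (Steps.fwd (nat_lit 73728) (Steps.fwd (nat_lit 57344) (Steps.fwd (nat_lit 81920) (Steps.bwd (nat_lit 8) (Steps.fwd (nat_lit 32768) (Steps.bwd (nat_lit 2) (Steps.fwd (nat_lit 24576) (Steps.bwd (nat_lit 11) (Steps.bwd (nat_lit 8) (Steps.bwd (nat_lit 2) (Steps.bwd (nat_lit 11) (Steps.bwd (nat_lit 1) (Steps.bwd (nat_lit 11) (Steps.bwd (nat_lit 2) Steps.nil))))))))))))))))) (nat_lit 56) (nat_lit 15),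
  Rule.mk (nat_lit 11) (nat_lit 286) (Steps.bwd (nat_lit 1) (Steps.fwd (nat_lit 81920) (Steps.fwd (nat_lit 8192) (Steps.fwd (nat_lit 90112) (Steps.bwd (nat_lit 1) (Steps.bwd (nat_lit 3) (Steps.fwd (nat_lit 32768) (Steps.fwd (nat_lit 73728) (Steps.fwd (nat_lit 57344) (Steps.fwd (nat_lit 81920) (Steps.fwd (nat_lit 57344) (Steps.fwd (nat_lit 32768) (Steps.fwd (nat_lit 8192) (Steps.fwd (nat_lit 24576) (Steps.bwd (nat_lit 11) (Steps.fwd (nat_lit 57344) (Steps.bwd (nat_lit 2) Steps.nil))))))))))))))))) (nat_lit 56) (nat_lit 11),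
  Rule.mk (nat_lit 17) (nat_lit 142) (Steps.bwd (nat_lit 1) (Steps.fwd (nat_lit 90112) (Steps.fwd (nat_lit 98304) (Steps.fwd (nat_lit 114688) (Steps.fwd (nat_lit 139264) (Steps.fwd (nat_lit 90112) (Steps.fwd (nat_lit 139264) (Steps.bwd (nat_lit 2) Steps.nil)))))))) (nat_lit 47) (nat_lit 8),
  Rule.mk (nat_lit 9) (nat_lit 206) (Steps.bwd (nat_lit 1) (Steps.fwd (nat_lit 32768) (Steps.bwd (nat_lit 3) (Steps.bwd (nat_lit 1) (Steps.bwd (nat_lit 4) (Steps.fwd (nat_lit 16384) (Steps.bwd (nat_lit 10) (Steps.bwd (nat_lit 18) (Steps.fwd (nat_lit 131072) (Steps.fwd (nat_lit 73728) (Steps.fwd (nat_lit 8192) (Steps.fwd (nat_lit 8192) Steps.nil)))))))))))) (nat_lit 69) (nat_lit 0),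
  Rule.mk (nat_lit 10) (nat_lit 110) (Steps.fwd (nat_lit 24576) (Steps.fwd (nat_lit 114688) (Steps.bwd (nat_lit 4) (Steps.bwd (nat_lit 9) (Steps.fwd (nat_lit 90112) (Steps.bwd (nat_lit 9) Steps.nil)))))) (nat_lit 60) (nat_lit 4),
  Rule.mk (nat_lit 3) (nat_lit 110) (Steps.bwd (nat_lit 3) (Steps.bwd (nat_lit 15) (Steps.fwd (nat_lit 139264) (Steps.bwd (nat_lit 9) (Steps.bwd (nat_lit 17) (Steps.bwd (nat_lit 9) Steps.nil)))))) (nat_lit 65) (nat_lit 1),
  Rule.mk (nat_lit 8) (nat_lit 126) (Steps.bwd (nat_lit 18) (Steps.fwd (nat_lit 57344) (Steps.bwd (nat_lit 19) (Steps.bwd (nat_lit 8) (Steps.fwd (nat_lit 16384) (Steps.bwd (nat_lit 1) (Steps.bwd (nat_lit 19) Steps.nil))))))) (nat_lit 87) (nat_lit 4),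
  Rule.mk (nat_lit 3) (nat_lit 110) (Steps.bwd (nat_lit 11) (Steps.fwd (nat_lit 73728) (Steps.fwd (nat_lit 81920) (Steps.bwd (nat_lit 9) (Steps.fwd (nat_lit 32768) (Steps.bwd (nat_lit 14) Steps.nil)))))) (nat_lit 61) (nat_lit 3),
  Rule.mk (nat_lit 12) (nat_lit 158) (Steps.bwd (nat_lit 11) (Steps.fwd (nat_lit 131072) (Steps.fwd (nat_lit 8192) (Steps.bwd (nat_lit 9) (Steps.bwd (nat_lit 15) (Steps.bwd (nat_lit 9) (Steps.fwd (nat_lit 32768) (Steps.bwd (nat_lit 3) (Steps.fwd (nat_lit 16384) Steps.nil))))))))) (nat_lit 63) (nat_lit 4),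
  Rule.mk (nat_lit 9) (nat_lit 270) (Steps.bwd (nat_lit 4) (Steps.fwd (nat_lit 106496) (Steps.bwd (nat_lit 2) (Steps.fwd (nat_lit 73728) (Steps.fwd (nat_lit 8192) (Steps.bwd (nat_lit 9) (Steps.bwd (nat_lit 2) (Steps.bwd (nat_lit 18) (Steps.bwd (nat_lit 16) (Steps.bwd (nat_lit 10) (Steps.bwd (nat_lit 3) (Steps.bwd (nat_lit 1) (Steps.bwd (nat_lit 4) (Steps.fwd (nat_lit 24576) (Steps.fwd (nat_lit 8192) (Steps.fwd (nat_lit 65536) Steps.nil)))))))))))))))) (nat_lit 76) (nat_lit 2),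
  Rule.mk (nat_lit 16) (nat_lit 126) (Steps.fwd (nat_lit 90112) (Steps.bwd (nat_lit 16) (Steps.bwd (nat_lit 15) (Steps.fwd (nat_lit 98304) (Steps.fwd (nat_lit 24576) (Steps.bwd (nat_lit 12) (Steps.bwd (nat_lit 3) Steps.nil))))))) (nat_lit 50) (nat_lit 4),
  Rule.mk (nat_lit 2) (nat_lit 142) (Steps.bwd (nat_lit 16) (Steps.fwd (nat_lit 16384) (Steps.bwd (nat_lit 17) (Steps.fwd (nat_lit 81920) (Steps.bwd (nat_lit 17) (Steps.fwd (nat_lit 122880) (Steps.bwd (nat_lit 12) (Steps.fwd (nat_lit 81920) Steps.nil)))))))) (nat_lit 46) (nat_lit 1),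
  Rule.mk (nat_lit 7) (nat_lit 126) (Steps.bwd (nat_lit 18) (Steps.bwd (nat_lit 7) (Steps.bwd (nat_lit 19) (Steps.bwd (nat_lit 7) (Steps.fwd (nat_lit 155648) (Steps.fwd (nat_lit 8192) (Steps.bwd (nat_lit 2) Steps.nil))))))) (nat_lit 86) (nat_lit 1),
  Rule.mk (nat_lit 8) (nat_lit 126) (Steps.bwd (nat_lit 18) (Steps.fwd (nat_lit 57344) (Steps.fwd (nat_lit 147456) (Steps.fwd (nat_lit 57344) (Steps.bwd (nat_lit 1) (Steps.fwd (nat_lit 16384) (Steps.fwd (nat_lit 147456) Steps.nil))))))) (nat_lit 87) (nat_lit 4),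
  Rule.mk (nat_lit 15) (nat_lit 126) (Steps.bwd (nat_lit 3) (Steps.bwd (nat_lit 10) (Steps.fwd (nat_lit 90112) (Steps.fwd (nat_lit 139264) (Steps.bwd (nat_lit 15) (Steps.bwd (nat_lit 15) (Steps.bwd (nat_lit 4) Steps.nil))))))) (nat_lit 53) (nat_lit 7),
  Rule.mk (nat_lit 9) (nat_lit 110) (Steps.bwd (nat_lit 10) (Steps.bwd (nat_lit 4) (Steps.fwd (nat_lit 114688) (Steps.bwd (nat_lit 4) (Steps.bwd (nat_lit 9) (Steps.bwd (nat_lit 10) Steps.nil)))))) (nat_lit 60) (nat_lit 3),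
  Rule.mk (nat_lit 2) (nat_lit 142) (Steps.bwd (nat_lit 17) (Steps.fwd (nat_lit 16384) (Steps.fwd (nat_lit 90112) (Steps.fwd (nat_lit 98304) (Steps.bwd (nat_lit 15) (Steps.fwd (nat_lit 139264) (Steps.bwd (nat_lit 10) (Steps.fwd (nat_lit 139264) Steps.nil)))))))) (nat_lit 47) (nat_lit 7),
  Rule.mk (nat_lit 19) (nat_lit 126) (Steps.bwd (nat_lit 7) (Steps.bwd (nat_lit 18) (Steps.fwd (nat_lit 8192) (Steps.bwd (nat_lit 2) (Steps.fwd (nat_lit 65536) (Steps.fwd (nat_lit 155648) (Steps.fwd (nat_lit 65536) Steps.nil))))))) (nat_lit 86) (nat_lit 4),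
  Rule.mk (nat_lit 9) (nat_lit 110) (Steps.fwd (nat_lit 139264) (Steps.fwd (nat_lit 81920) (Steps.fwd (nat_lit 122880) (Steps.bwd (nat_lit 11) (Steps.fwd (nat_lit 73728) (Steps.bwd (nat_lit 18) Steps.nil)))))) (nat_lit 66) (nat_lit 3),
  Rule.mk (nat_lit 13) (nat_lit 190) (Steps.bwd (nat_lit 9) (Steps.fwd (nat_lit 8192) (Steps.fwd (nat_lit 8192) (Steps.bwd (nat_lit 2) (Steps.fwd (nat_lit 114688) (Steps.fwd (nat_lit 8192) (Steps.fwd (nat_lit 139264) (Steps.bwd (nat_lit 13) (Steps.fwd (nat_lit 73728) (Steps.fwd (nat_lit 106496) (Steps.bwd (nat_lit 9) Steps.nil))))))))))) (nat_lit 75) (nat_lit 11),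
  Rule.mk (nat_lit 16) (nat_lit 110) (Steps.bwd (nat_lit 16) (Steps.bwd (nat_lit 14) (Steps.fwd (nat_lit 81920) (Steps.bwd (nat_lit 9) (Steps.bwd (nat_lit 3) (Steps.bwd (nat_lit 9) Steps.nil)))))) (nat_lit 70) (nat_lit 4),
  Rule.mk (nat_lit 9) (nat_lit 110) (Steps.bwd (nat_lit 19) (Steps.bwd (nat_lit 9) (Steps.bwd (nat_lit 10) (Steps.fwd (nat_lit 114688) (Steps.bwd (nat_lit 10) (Steps.bwd (nat_lit 17) Steps.nil)))))) (nat_lit 67) (nat_lit 5),
  Rule.mk (nat_lit 8) (nat_lit 270) (Steps.fwd (nat_lit 16384) (Steps.bwd (nat_lit 3) (Steps.fwd (nat_lit 32768) (Steps.bwd (nat_lit 2) (Steps.fwd (nat_lit 24576) (Steps.fwd (nat_lit 81920) (Steps.bwd (nat_lit 17) (Steps.bwd (nat_lit 19) (Steps.fwd (nat_lit 16384) (Steps.fwd (nat_lit 73728) (Steps.fwd (nat_lit 16384) (Steps.fwd (nat_lit 73728) (Steps.fwd (nat_lit 16384) (Steps.bwd (nat_lit 13) (Steps.fwd (nat_lit 32768) (Steps.bwd (nat_lit 9) Steps.nil)))))))))))))))) (nat_lit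 77) (nat_lit 0),
  Rule.mk (nat_lit 14) (nat_lit 110) (Steps.bwd (nat_lit 1) (Steps.fwd (nat_lit 131072) (Steps.fwd (nat_lit 81920) (Steps.fwd (nat_lit 122880) (Steps.fwd (nat_lit 122880) (Steps.fwd (nat_lit 8192) Steps.nil)))))) (nat_lit 44) (nat_lit 2),
  Rule.mk (nat_lit 9) (nat_lit 206) (Steps.bwd (nat_lit 1) (Steps.bwd (nat_lit 3) (Steps.fwd (nat_lit 32768) (Steps.bwd (nat_lit 1) (Steps.fwd (nat_lit 24576) (Steps.fwd (nat_lit 16384) (Steps.fwd (nat_lit 90112) (Steps.fwd (nat_lit 155648) (Steps.bwd (nat_lit 17) (Steps.fwd (nat_lit 73728) (Steps.bwd (nat_lit 2) (Steps.bwd (nat_lit 2) Steps.nil)))))))))))) (nat_lit 69) (nat_lit 0),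
  Rule.mk (nat_lit 11) (nat_lit 286) (Steps.bwd (nat_lit 1) (Steps.bwd (nat_lit 10) (Steps.bwd (nat_lit 2) (Steps.fwd (nat_lit 90112) (Steps.bwd (nat_lit 1) (Steps.bwd (nat_lit 7) (Steps.fwd (nat_lit 90112) (Steps.bwd (nat_lit 3) (Steps.fwd (nat_lit 16384) (Steps.fwd (nat_lit 24576) (Steps.bwd (nat_lit 7) (Steps.fwd (nat_lit 90112) (Steps.fwd (nat_lit 65536) (Steps.fwd (nat_lit 73728) (Steps.fwd (nat_lit 24576) (Steps.bwd (nat_lit 4) (Steps.bwd (nat_lit 2) Steps.nil))))))))))))))))) (nat_lit 57) (nat_lit 4),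
  Rule.mk (nat_lit 17) (nat_lit 126) (Steps.bwd (nat_lit 4) (Steps.bwd (nat_lit 13) (Steps.bwd (nat_lit 3) (Steps.bwd (nat_lit 12) (Steps.fwd (nat_lit 122880) (Steps.fwd (nat_lit 131072) (Steps.bwd (nat_lit 11) Steps.nil))))))) (nat_lit 51) (nat_lit 5),
  Rule.mk (nat_lit 4) (nat_lit 110) (Steps.fwd (nat_lit 73728) (Steps.fwd (nat_lit 139264) (Steps.bwd (nat_lit 9) (Steps.bwd (nat_lit 17) (Steps.bwd (nat_lit 14) (Steps.bwd (nat_lit 4) Steps.nil)))))) (nat_lit 64) (nat_lit 0),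
  Rule.mk (nat_lit 16) (nat_lit 142) (Steps.bwd (nat_lit 1) (Steps.bwd (nat_lit 17) (Steps.bwd (nat_lit 11) (Steps.bwd (nat_lit 17) (Steps.bwd (nat_lit 14) (Steps.fwd (nat_lit 106496) (Steps.bwd (nat_lit 11) (Steps.bwd (nat_lit 2) Steps.nil)))))))) (nat_lit 46) (nat_lit 2),
  Rule.mk (nat_lit 17) (nat_lit 142) (Steps.bwd (nat_lit 1) (Steps.bwd (nat_lit 10) (Steps.fwd (nat_lit 98304) (Steps.fwd (nat_lit 114688) (Steps.fwd (nat_lit 139264) (Steps.fwd (nat_lit 90112) (Steps.fwd (nat_lit 139264) (Steps.fwd (nat_lit 8192) Steps.nil)))))))) (nat_lit 47) (nat_lit 8),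
  Rule.mk (nat_lit 9) (nat_lit 158) (Steps.bwd (nat_lit 1) (Steps.bwd (nat_lit 16) (Steps.fwd (nat_lit 90112) (Steps.fwd (nat_lit 98304) (Steps.bwd (nat_lit 2) (Steps.bwd (nat_lit 4) (Steps.fwd (nat_lit 24576) (Steps.bwd (nat_lit 9) (Steps.bwd (nat_lit 14) Steps.nil))))))))) (nat_lit 62) (nat_lit 3),
  Rule.mk (nat_lit 14) (nat_lit 190) (Steps.bwd (nat_lit 1) (Steps.bwd (nat_lit 1) (Steps.fwd (nat_lit 16384) (Steps.bwd (nat_lit 9) (Steps.fwd (nat_lit 106496) (Steps.bwd (nat_lit 9) (Steps.bwd (nat_lit 13) (Steps.bwd (nat_lit 9) (Steps.bwd (nat_lit 12) (Steps.bwd (nat_lit 17) (Steps.bwd (nat_lit 1) Steps.nil))))))))))) (nat_lit 74) (nat_lit 9),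
  Rule.mk (nat_lit 10) (nat_lit 286) (Steps.bwd (nat_lit 1) (Steps.bwd (nat_lit 3) (Steps.bwd (nat_lit 3) (Steps.bwd (nat_lit 9) (Steps.bwd (nat_lit 8) (Steps.bwd (nat_lit 11) (Steps.fwd (nat_lit 57344) (Steps.fwd (nat_lit 32768) (Steps.bwd (nat_lit 2) (Steps.fwd (nat_lit 24576) (Steps.fwd (nat_lit 81920) (Steps.fwd (nat_lit 57344) (Steps.fwd (nat_lit 8192) (Steps.fwd (nat_lit 81920) (Steps.fwd (nat_lit 16384) (Steps.bwd (nat_lit 11) (Steps.bwd (nat_lit 2) Steps.nil))))))))))))))))) (nat_lit 56) (nat_lit 15),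
  Rule.mk (nat_lit 18) (nat_lit 126) (Steps.bwd (nat_lit 7) (Steps.fwd (nat_lit 147456) (Steps.bwd (nat_lit 7) (Steps.fwd (nat_lit 155648) (Steps.bwd (nat_lit 2) (Steps.fwd (nat_lit 8192) (Steps.fwd (nat_lit 65536) Steps.nil))))))) (nat_lit 86) (nat_lit 2),
  Rule.mk (nat_lit 1) (nat_lit 286) (Steps.bwd (nat_lit 7) (Steps.bwd (nat_lit 10) (Steps.fwd (nat_lit 32768) (Steps.bwd (nat_lit 1) (Steps.fwd (nat_lit 24576) (Steps.bwd (nat_lit 7) (Steps.fwd (nat_lit 90112) (Steps.fwd (nat_lit 65536) (Steps.fwd (nat_lit 73728) (Steps.fwd (nat_lit 24576) (Steps.fwd (nat_lit 24576) (Steps.fwd (nat_lit 8192) (Steps.fwd (nat_lit 81920) (Steps.fwd (nat_lit 16384) (Steps.bwd (nat_lit 10) (Steps.bwd (nat_lit 2) (Steps.bwd (nat_lit 10) Steps.nil))))))))))))))))) (nat_lit 57) (nat_lit 9),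
  Rule.mk (nat_lit 9) (nat_lit 270) (Steps.fwd (nat_lit 16384) (Steps.fwd (nat_lit 73728) (Steps.fwd (nat_lit 16384) (Steps.bwd (nat_lit 13) (Steps.fwd (nat_lit 32768) (Steps.bwd (nat_lit 9) (Steps.fwd (nat_lit 57344) (Steps.fwd (nat_lit 16384) (Steps.fwd (nat_lit 32768) (Steps.bwd (nat_lit 3) (Steps.bwd (nat_lit 2) (Steps.fwd (nat_lit 24576) (Steps.bwd (nat_lit 11) (Steps.bwd (nat_lit 17) (Steps.fwd (nat_lit 147456) (Steps.bwd (nat_lit 1) Steps.nil)))))))))))))))) (nat_lit 77) (nat_lit 10),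
  Rule.mk (nat_lit 7) (nat_lit 286) (Steps.bwd (nat_lit 9) (Steps.fwd (nat_lit 24576) (Steps.bwd (nat_lit 4) (Steps.bwd (nat_lit 2) (Steps.bwd (nat_lit 11) (Steps.fwd (nat_lit 16384) (Steps.fwd (nat_lit 90112) (Steps.bwd (nat_lit 2) (Steps.fwd (nat_lit 90112) (Steps.bwd (nat_lit 1) (Steps.fwd (nat_lit 65536) (Steps.bwd (nat_lit 10) (Steps.fwd (nat_lit 32768) (Steps.bwd (nat_lit 1) (Steps.fwd (nat_lit 24576) (Steps.bwd (nat_lit 7) (Steps.bwd (nat_lit 10) Steps.nil))))))))))))))))) (nat_lit 57) (nat_lit 17),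
  Rule.mk (nat_lit 18) (nat_lit 126) (Steps.bwd (nat_lit 8) (Steps.fwd (nat_lit 147456) (Steps.fwd (nat_lit 57344) (Steps.bwd (nat_lit 1) (Steps.bwd (nat_lit 1) (Steps.fwd (nat_lit 147456) (Steps.bwd (nat_lit 8) Steps.nil))))))) (nat_lit 87) (nat_lit 5),
  Rule.mk (nat_lit 16) (nat_lit 270) (Steps.fwd (nat_lit 90112) (Steps.fwd (nat_lit 32768) (Steps.fwd (nat_lit 16384) (Steps.bwd (nat_lit 4) (Steps.fwd (nat_lit 24576) (Steps.fwd (nat_lit 8192) (Steps.bwd (nat_lit 7) (Steps.fwd (nat_lit 73728) (Steps.bwd (nat_lit 4) (Steps.fwd (nat_lit 106496) (Steps.bwd (nat_lit 2) (Steps.bwd (nat_lit 9) (Steps.fwd (nat_lit 8192) (Steps.fwd (nat_lit 73728) (Steps.bwd (nat_lit 2) (Steps.bwd (nat_lit 18) Steps.nil)))))))))))))))) (nat_lit 76) (nat_lit 11),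
  Rule.mk (nat_lit 15) (nat_lit 142) (Steps.bwd (nat_lit 16) (Steps.fwd (nat_lit 90112) (Steps.fwd (nat_lit 139264) (Steps.bwd (nat_lit 2) (Steps.bwd (nat_lit 17) (Steps.bwd (nat_lit 1) (Steps.bwd (nat_lit 10) (Steps.bwd (nat_lit 13) Steps.nil)))))))) (nat_lit 47) (nat_lit 3),
  Rule.mk (nat_lit 3) (nat_lit 94) (Steps.bwd (nat_lit 2) (Steps.fwd (nat_lit 8192) (Steps.fwd (nat_lit 24576) (Steps.fwd (nat_lit 16384) (Steps.fwd (nat_lit 16384) Steps.nil))))) (nat_lit 6) (nat_lit 0),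
  Rule.mk (nat_lit 15) (nat_lit 190) (Steps.bwd (nat_lit 2) (Steps.bwd (nat_lit 16) (Steps.fwd (nat_lit 98304) (Steps.fwd (nat_lit 73728) (Steps.bwd (nat_lit 12) (Steps.fwd (nat_lit 73728) (Steps.bwd (nat_lit 13) (Steps.fwd (nat_lit 73728) (Steps.fwd (nat_lit 8192) (Steps.bwd (nat_lit 2) (Steps.bwd (nat_lit 2) Steps.nil))))))))))) (nat_lit 75) (nat_lit 4),
  Rule.mk (nat_lit 2) (nat_lit 190) (Steps.bwd (nat_lit 2) (Steps.fwd (nat_lit 8192) (Steps.fwd (nat_lit 114688) (Steps.fwd (nat_lit 8192) (Steps.bwd (nat_lit 16) (Steps.bwd (nat_lit 13) (Steps.fwd (nat_lit 73728) (Steps.bwd (nat_lit 12) (Steps.fwd (nat_lit 73728) (Steps.bwd (nat_lit 13) (Steps.fwd (nat_lit 73728) Steps.nil))))))))))) (nat_lit 75) (nat_lit 1),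
  Rule.mk (nat_lit 9) (nat_lit 206) (Steps.bwd (nat_lit 2) (Steps.fwd (nat_lit 8192) (Steps.bwd (nat_lit 9) (Steps.bwd (nat_lit 1) (Steps.bwd (nat_lit 3) (Steps.fwd (nat_lit 32768) (Steps.fwd (nat_lit 16384) (Steps.fwd (nat_lit 24576) (Steps.fwd (nat_lit 16384) (Steps.fwd (nat_lit 90112) (Steps.bwd (nat_lit 18) (Steps.bwd (nat_lit 17) Steps.nil)))))))))))) (nat_lit 69) (nat_lit 10),
  Rule.mk (nat_lit 16) (nat_lit 158) (Steps.bwd (nat_lit 10) (Steps.fwd (nat_lit 98304) (Steps.bwd (nat_lit 2) (Steps.bwd (nat_lit 4) (Steps.fwd (nat_lit 24576) (Steps.bwd (nat_lit 9) (Steps.bwd (nat_lit 14) (Steps.bwd (nat_lit 9) (Steps.fwd (nat_lit 16384) Steps.nil))))))))) (nat_lit 62) (nat_lit 5),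
  Rule.mk (nat_lit 2) (nat_lit 286) (Steps.bwd (nat_lit 10) (Steps.fwd (nat_lit 16384) (Steps.fwd (nat_lit 65536) (Steps.fwd (nat_lit 90112) (Steps.fwd (nat_lit 32768) (Steps.fwd (nat_lit 16384) (Steps.fwd (nat_lit 24576) (Steps.fwd (nat_lit 65536) (Steps.fwd (nat_lit 90112) (Steps.bwd (nat_lit 7) (Steps.fwd (nat_lit 73728) (Steps.bwd (nat_lit 4) (Steps.fwd (nat_lit 24576) (Steps.fwd (nat_lit 8192) (Steps.bwd (nat_lit 11) (Steps.bwd (nat_lit 1) (Steps.fwd (nat_lit 90112) Steps.nil))))))))))))))))) (nat_lit 57) (nat_lit 7)]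
noncomputable def R_108 : List (Rule) := [Rule.mk (nat_lit 18) (nat_lit 270) (Steps.bwd (nat_lit 16) (Steps.bwd (nat_lit 10) (Steps.fwd (nat_lit 32768) (Steps.fwd (nat_lit 16384) (Steps.bwd (nat_lit 4) (Steps.bwd (nat_lit 4) (Steps.bwd (nat_lit 2) (Steps.bwd (nat_lit 7) (Steps.fwd (nat_lit 73728) (Steps.bwd (nat_lit 4) (Steps.bwd (nat_lit 12) (Steps.fwd (nat_lit 8192) (Steps.bwd (nat_lit 9) (Steps.fwd (nat_lit 8192) (Steps.bwd (nat_lit 9) (Steps.bwd (nat_lit 2) Steps.nil)))))))))))))))) (nat_lit 76) (nat_lit 10),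
  Rule.mk (nat_lit 19) (nat_lit 126) (Steps.bwd (nat_lit 8) (Steps.bwd (nat_lit 1) (Steps.bwd (nat_lit 1) (Steps.fwd (nat_lit 147456) (Steps.bwd (nat_lit 8) (Steps.bwd (nat_lit 18) (Steps.bwd (nat_lit 8) Steps.nil))))))) (nat_lit 87) (nat_lit 7),
  Rule.mk (nat_lit 9) (nat_lit 110) (Steps.fwd (nat_lit 90112) (Steps.fwd (nat_lit 114688) (Steps.fwd (nat_lit 90112) (Steps.fwd (nat_lit 131072) (Steps.bwd (nat_lit 9) (Steps.bwd (nat_lit 19) Steps.nil)))))) (nat_lit 67) (nat_lit 0),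
  Rule.mk (nat_lit 13) (nat_lit 190) (Steps.bwd (nat_lit 9) (Steps.fwd (nat_lit 8192) (Steps.bwd (nat_lit 2) (Steps.bwd (nat_lit 2) (Steps.fwd (nat_lit 114688) (Steps.fwd (nat_lit 8192) (Steps.bwd (nat_lit 16) (Steps.fwd (nat_lit 98304) (Steps.bwd (nat_lit 9) (Steps.fwd (nat_lit 106496) (Steps.bwd (nat_lit 9) Steps.nil))))))))))) (nat_lit 75) (nat_lit 11),
  Rule.mk (nat_lit 7) (nat_lit 126) (Steps.bwd (nat_lit 18) (Steps.fwd (nat_lit 8192) (Steps.fwd (nat_lit 8192) (Steps.fwd (nat_lit 65536) (Steps.fwd (nat_lit 155648) (Steps.fwd (nat_lit 65536) (Steps.bwd (nat_lit 19) Steps.nil))))))) (nat_lit 86) (nat_lit 5),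
  Rule.mk (nat_lit 1) (nat_lit 94) (Steps.fwd (nat_lit 16384) (Steps.fwd (nat_lit 16384) (Steps.bwd (nat_lit 8) (Steps.fwd (nat_lit 8192) (Steps.bwd (nat_lit 7) Steps.nil))))) (nat_lit 83) (nat_lit 1),
  Rule.mk (nat_lit 3) (nat_lit 94) (Steps.bwd (nat_lit 1) (Steps.fwd (nat_lit 16384) (Steps.fwd (nat_lit 24576) (Steps.fwd (nat_lit 8192) (Steps.fwd (nat_lit 8192) Steps.nil))))) (nat_lit 7) (nat_lit 4),
  Rule.mk (nat_lit 9) (nat_lit 206) (Steps.bwd (nat_lit 1) (Steps.fwd (nat_lit 16384) (Steps.fwd (nat_lit 73728) (Steps.bwd (nat_lit 16) (Steps.bwd (nat_lit 19) (Steps.bwd (nat_lit 11) (Steps.bwd (nat_lit 2) (Steps.bwd (nat_lit 3) (Steps.fwd (nat_lit 8192) (Steps.fwd (nat_lit 24576) (Steps.bwd (nat_lit 4) (Steps.bwd (nat_lit 2) Steps.nil)))))))))))) (nat_lit 68) (nat_lit 1),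
  Rule.mk (nat_lit 1) (nat_lit 158) (Steps.bwd (nat_lit 16) (Steps.fwd (nat_lit 90112) (Steps.bwd (nat_lit 13) (Steps.fwd (nat_lit 8192) (Steps.fwd (nat_lit 24576) (Steps.fwd (nat_lit 24576) (Steps.fwd (nat_lit 73728) (Steps.bwd (nat_lit 14) (Steps.fwd (nat_lit 73728) Steps.nil))))))))) (nat_lit 62) (nat_lit 4),
  Rule.mk (nat_lit 10) (nat_lit 142) (Steps.bwd (nat_lit 13) (Steps.bwd (nat_lit 15) (Steps.bwd (nat_lit 16) (Steps.fwd (nat_lit 90112) (Steps.bwd (nat_lit 16) (Steps.bwd (nat_lit 2) (Steps.fwd (nat_lit 131072) (Steps.bwd (nat_lit 1) Steps.nil)))))))) (nat_lit 47) (nat_lit 1),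
  Rule.mk (nat_lit 3) (nat_lit 126) (Steps.bwd (nat_lit 10) (Steps.bwd (nat_lit 10) (Steps.bwd (nat_lit 16) (Steps.bwd (nat_lit 15) (Steps.bwd (nat_lit 15) (Steps.bwd (nat_lit 4) (Steps.bwd (nat_lit 15) Steps.nil))))))) (nat_lit 53) (nat_lit 0),
  Rule.mk (nat_lit 10) (nat_lit 78) (Steps.bwd (nat_lit 18) (Steps.fwd (nat_lit 98304) (Steps.fwd (nat_lit 81920) (Steps.fwd (nat_lit 106496) Steps.nil)))) (nat_lit 18) (nat_lit 0),
  Rule.mk (nat_lit 3) (nat_lit 94) (Steps.fwd (nat_lit 16384) (Steps.bwd (nat_lit 1) (Steps.bwd (nat_lit 4) (Steps.fwd (nat_lit 8192) (Steps.bwd (nat_lit 2) Steps.nil))))) (nat_lit 7) (nat_lit 4),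
  Rule.mk (nat_lit 14) (nat_lit 110) (Steps.bwd (nat_lit 11) (Steps.fwd (nat_lit 73728) (Steps.fwd (nat_lit 32768) (Steps.fwd (nat_lit 73728) (Steps.fwd (nat_lit 139264) (Steps.fwd (nat_lit 139264) Steps.nil)))))) (nat_lit 70) (nat_lit 6),
  Rule.mk (nat_lit 12) (nat_lit 158) (Steps.bwd (nat_lit 11) (Steps.fwd (nat_lit 131072) (Steps.bwd (nat_lit 2) (Steps.fwd (nat_lit 73728) (Steps.bwd (nat_lit 15) (Steps.bwd (nat_lit 9) (Steps.fwd (nat_lit 32768) (Steps.bwd (nat_lit 3) (Steps.bwd (nat_lit 1) Steps.nil))))))))) (nat_lit 63) (nat_lit 4),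
  Rule.mk (nat_lit 4) (nat_lit 270) (Steps.bwd (nat_lit 11) (Steps.fwd (nat_lit 131072) (Steps.fwd (nat_lit 147456) (Steps.bwd (nat_lit 1) (Steps.fwd (nat_lit 73728) (Steps.fwd (nat_lit 16384) (Steps.fwd (nat_lit 73728) (Steps.bwd (nat_lit 1) (Steps.fwd (nat_lit 98304) (Steps.fwd (nat_lit 32768) (Steps.fwd (nat_lit 73728) (Steps.bwd (nat_lit 8) (Steps.bwd (nat_lit 1) (Steps.bwd (nat_lit 3) (Steps.fwd (nat_lit 32768) (Steps.bwd (nat_lit 2) Steps.nil)))))))))))))))) (nat_lit 77) (nat_lit 5),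
  Rule.mk (nat_lit 12) (nat_lit 142) (Steps.bwd (nat_lit 11) (Steps.bwd (nat_lit 2) (Steps.bwd (nat_lit 16) (Steps.fwd (nat_lit 16384) (Steps.bwd (nat_lit 17) (Steps.fwd (nat_lit 81920) (Steps.fwd (nat_lit 131072) (Steps.fwd (nat_lit 122880) Steps.nil)))))))) (nat_lit 46) (nat_lit 8),
  Rule.mk (nat_lit 2) (nat_lit 286) (Steps.bwd (nat_lit 11) (Steps.bwd (nat_lit 1) (Steps.fwd (nat_lit 81920) (Steps.fwd (nat_lit 8192) (Steps.bwd (nat_lit 10) (Steps.bwd (nat_lit 1) (Steps.fwd (nat_lit 32768) (Steps.bwd (nat_lit 3) (Steps.bwd (nat_lit 9) (Steps.fwd (nat_lit 57344) (Steps.fwd (nat_lit 81920) (Steps.fwd (nat_lit 57344) (Steps.fwd (nat_lit 32768) (Steps.bwd (nat_lit 2) (Steps.bwd (nat_lit 4) (Steps.bwd (nat_lit 11) (Steps.bwd (nat_lit 8) Steps.nil))))))))))))))))) (nat_lit 56) (nat_lit 10),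
  Rule.mk (nat_lit 4) (nat_lit 286) (Steps.bwd (nat_lit 11) (Steps.bwd (nat_lit 8) (Steps.bwd (nat_lit 2) (Steps.fwd (nat_lit 81920) (Steps.fwd (nat_lit 16384) (Steps.bwd (nat_lit 11) (Steps.bwd (nat_lit 2) (Steps.fwd (nat_lit 90112) (Steps.fwd (nat_lit 16384) (Steps.fwd (nat_lit 32768) (Steps.bwd (nat_lit 3) (Steps.fwd (nat_lit 73728) (Steps.bwd (nat_lit 8) (Steps.bwd (nat_lit 11) (Steps.fwd (nat_lit 57344) (Steps.bwd (nat_lit 3) (Steps.fwd (nat_lit 8192) Steps.nil))))))))))))))))) (nat_lit 56) (nat_lit 7),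
  Rule.mk (nat_lit 8) (nat_lit 286) (Steps.bwd (nat_lit 11) (Steps.bwd (nat_lit 8) (Steps.fwd (nat_lit 32768) (Steps.bwd (nat_lit 2) (Steps.fwd (nat_lit 24576) (Steps.fwd (nat_lit 81920) (Steps.fwd (nat_lit 57344) (Steps.bwd (nat_lit 2) (Steps.bwd (nat_lit 11) (Steps.fwd (nat_lit 16384) (Steps.bwd (nat_lit 11) (Steps.bwd (nat_lit 2) (Steps.bwd (nat_lit 10) (Steps.bwd (nat_lit 1) (Steps.bwd (nat_lit 3) (Steps.bwd (nat_lit 3) (Steps.fwd (nat_lit 73728) Steps.nil))))))))))))))))) (nat_lit 56) (nat_lit 2),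
  Rule.mk (nat_lit 17) (nat_lit 142) (Steps.bwd (nat_lit 1) (Steps.bwd (nat_lit 10) (Steps.fwd (nat_lit 98304) (Steps.bwd (nat_lit 15) (Steps.bwd (nat_lit 16) (Steps.bwd (nat_lit 10) (Steps.fwd (nat_lit 139264) (Steps.bwd (nat_lit 2) Steps.nil)))))))) (nat_lit 47) (nat_lit 8),
  Rule.mk (nat_lit 3) (nat_lit 126) (Steps.bwd (nat_lit 12) (Steps.fwd (nat_lit 122880) (Steps.bwd (nat_lit 17) (Steps.bwd (nat_lit 11) (Steps.fwd (nat_lit 131072) (Steps.fwd (nat_lit 24576) (Steps.fwd (nat_lit 98304) Steps.nil))))))) (nat_lit 51) (nat_lit 0),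
  Rule.mk (nat_lit 1) (nat_lit 158) (Steps.bwd (nat_lit 12) (Steps.fwd (nat_lit 81920) (Steps.fwd (nat_lit 131072) (Steps.fwd (nat_lit 8192) (Steps.fwd (nat_lit 73728) (Steps.fwd (nat_lit 114688) (Steps.bwd (nat_lit 9) (Steps.fwd (nat_lit 32768) (Steps.bwd (nat_lit 3) Steps.nil))))))))) (nat_lit 63) (nat_lit 3),
  Rule.mk (nat_lit 3) (nat_lit 94) (Steps.fwd (nat_lit 8192) (Steps.fwd (nat_lit 8192) (Steps.bwd (nat_lit 4) (Steps.bwd (nat_lit 1) (Steps.bwd (nat_lit 1) Steps.nil))))) (nat_lit 6) (nat_lit 0),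
  Rule.mk (nat_lit 7) (nat_lit 94) (Steps.fwd (nat_lit 8192) (Steps.bwd (nat_lit 2) (Steps.fwd (nat_lit 8192) (Steps.bwd (nat_lit 8) (Steps.bwd (nat_lit 1) Steps.nil))))) (nat_lit 82) (nat_lit 3),
  Rule.mk (nat_lit 9) (nat_lit 190) (Steps.bwd (nat_lit 12) (Steps.fwd (nat_lit 73728) (Steps.bwd (nat_lit 13) (Steps.fwd (nat_lit 73728) (Steps.bwd (nat_lit 12) (Steps.fwd (nat_lit 131072) (Steps.fwd (nat_lit 16384) (Steps.bwd (nat_lit 14) (Steps.bwd (nat_lit 1) (Steps.bwd (nat_lit 1) (Steps.bwd (nat_lit 1) Steps.nil))))))))))) (nat_lit 74) (nat_lit 1),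
  Rule.mk (nat_lit 9) (nat_lit 270) (Steps.bwd (nat_lit 8) (Steps.fwd (nat_lit 16384) (Steps.bwd (nat_lit 3) (Steps.fwd (nat_lit 32768) (Steps.bwd (nat_lit 2) (Steps.bwd (nat_lit 4) (Steps.bwd (nat_lit 11) (Steps.fwd (nat_lit 131072) (Steps.fwd (nat_lit 147456) (Steps.bwd (nat_lit 1) (Steps.fwd (nat_lit 73728) (Steps.bwd (nat_lit 1) (Steps.fwd (nat_lit 73728) (Steps.fwd (nat_lit 16384) (Steps.fwd (nat_lit 98304) (Steps.bwd (nat_lit 3) Steps.nil)))))))))))))))) (nat_lit 77) (nat_lit 16),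
  Rule.mk (nat_lit 17) (nat_lit 110) (Steps.bwd (nat_lit 9) (Steps.bwd (nat_lit 19) (Steps.bwd (nat_lit 9) (Steps.bwd (nat_lit 10) (Steps.bwd (nat_lit 15) (Steps.bwd (nat_lit 10) Steps.nil)))))) (nat_lit 67) (nat_lit 4),
  Rule.mk (nat_lit 13) (nat_lit 190) (Steps.bwd (nat_lit 9) (Steps.fwd (nat_lit 106496) (Steps.fwd (nat_lit 131072) (Steps.bwd (nat_lit 1) (Steps.bwd (nat_lit 14) (Steps.fwd (nat_lit 16384) (Steps.fwd (nat_lit 16384) (Steps.bwd (nat_lit 1) (Steps.fwd (nat_lit 73728) (Steps.bwd (nat_lit 12) (Steps.fwd (nat_lit 73728) Steps.nil))))))))))) (nat_lit 74) (nat_lit 4),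
  Rule.mk (nat_lit 14) (nat_lit 126) (Steps.bwd (nat_lit 17) (Steps.fwd (nat_lit 81920) (Steps.fwd (nat_lit 131072) (Steps.fwd (nat_lit 24576) (Steps.bwd (nat_lit 13) (Steps.fwd (nat_lit 32768) (Steps.bwd (nat_lit 12) Steps.nil))))))) (nat_lit 51) (nat_lit 2),
  Rule.mk (nat_lit 4) (nat_lit 110) (Steps.fwd (nat_lit 24576) (Steps.fwd (nat_lit 73728) (Steps.bwd (nat_lit 16) (Steps.bwd (nat_lit 9) (Steps.fwd (nat_lit 131072) (Steps.bwd (nat_lit 14) Steps.nil)))))) (nat_lit 64) (nat_lit 6),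
  Rule.mk (nat_lit 16) (nat_lit 126) (Steps.fwd (nat_lit 90112) (Steps.fwd (nat_lit 139264) (Steps.bwd (nat_lit 15) (Steps.bwd (nat_lit 13) (Steps.bwd (nat_lit 4) (Steps.bwd (nat_lit 12) (Steps.bwd (nat_lit 3) Steps.nil))))))) (nat_lit 50) (nat_lit 4),
  Rule.mk (nat_lit 2) (nat_lit 158) (Steps.bwd (nat_lit 9) (Steps.fwd (nat_lit 114688) (Steps.bwd (nat_lit 9) (Steps.fwd (nat_lit 32768) (Steps.bwd (nat_lit 3) (Steps.fwd (nat_lit 16384) (Steps.bwd (nat_lit 12) (Steps.bwd (nat_lit 11) (Steps.bwd (nat_lit 17) Steps.nil))))))))) (nat_lit 63) (nat_lit 7),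
  Rule.mk (nat_lit 1) (nat_lit 190) (Steps.bwd (nat_lit 9) (Steps.bwd (nat_lit 12) (Steps.bwd (nat_lit 9) (Steps.fwd (nat_lit 98304) (Steps.bwd (nat_lit 9) (Steps.bwd (nat_lit 12) (Steps.bwd (nat_lit 17) (Steps.fwd (nat_lit 16384) (Steps.fwd (nat_lit 122880) (Steps.fwd (nat_lit 16384) (Steps.bwd (nat_lit 1) Steps.nil))))))))))) (nat_lit 74) (nat_lit 0),
  Rule.mk (nat_lit 12) (nat_lit 190) (Steps.bwd (nat_lit 9) (Steps.fwd (nat_lit 98304) (Steps.fwd (nat_lit 73728) (Steps.bwd (nat_lit 2) (Steps.fwd (nat_lit 8192) (Steps.fwd (nat_lit 8192) (Steps.bwd (nat_lit 15) (Steps.bwd (nat_lit 2) (Steps.bwd (nat_lit 16) (Steps.bwd (nat_lit 13) (Steps.fwd (nat_lit 73728) Steps.nil))))))))))) (nat_lit 75) (nat_lit 9),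
  Rule.mk (nat_lit 19) (nat_lit 78) (Steps.fwd (nat_lit 114688) (Steps.bwd (nat_lit 13) (Steps.fwd (nat_lit 122880) (Steps.bwd (nat_lit 12) Steps.nil)))) (nat_lit 37) (nat_lit 1),
  Rule.mk (nat_lit 14) (nat_lit 126) (Steps.bwd (nat_lit 17) (Steps.fwd (nat_lit 81920) (Steps.bwd (nat_lit 17) (Steps.fwd (nat_lit 24576) (Steps.bwd (nat_lit 13) (Steps.fwd (nat_lit 32768) (Steps.bwd (nat_lit 12) Steps.nil))))))) (nat_lit 51) (nat_lit 2),
  Rule.mk (nat_lit 14) (nat_lit 126) (Steps.bwd (nat_lit 14) (Steps.bwd (nat_lit 17) (Steps.fwd (nat_lit 81920) (Steps.bwd (nat_lit 11) (Steps.fwd (nat_lit 24576) (Steps.bwd (nat_lit 14) (Steps.bwd (nat_lit 3) Steps.nil))))))) (nat_lit 52) (nat_lit 4),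
  Rule.mk (nat_lit 8) (nat_lit 158) (Steps.bwd (nat_lit 19) (Steps.fwd (nat_lit 57344) (Steps.fwd (nat_lit 147456) (Steps.bwd (nat_lit 8) (Steps.bwd (nat_lit 19) (Steps.bwd (nat_lit 8) (Steps.bwd (nat_lit 19) (Steps.bwd (nat_lit 8) (Steps.fwd (nat_lit 147456) Steps.nil))))))))) (nat_lit 85) (nat_lit 0),
  Rule.mk (nat_lit 1) (nat_lit 126) (Steps.bwd (nat_lit 3) (Steps.bwd (nat_lit 1) (Steps.fwd (nat_lit 32768) (Steps.fwd (nat_lit 16384) (Steps.fwd (nat_lit 32768) (Steps.fwd (nat_lit 16384) (Steps.bwd (nat_lit 3) Steps.nil))))))) (nat_lit 4) (nat_lit 1),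
  Rule.mk (nat_lit 10) (nat_lit 78) (Steps.bwd (nat_lit 18) (Steps.fwd (nat_lit 98304) (Steps.fwd (nat_lit 81920) (Steps.bwd (nat_lit 12) Steps.nil)))) (nat_lit 18) (nat_lit 0),
  Rule.mk (nat_lit 2) (nat_lit 94) (Steps.bwd (nat_lit 2) (Steps.fwd (nat_lit 8192) (Steps.bwd (nat_lit 2) (Steps.bwd (nat_lit 7) (Steps.bwd (nat_lit 7) Steps.nil))))) (nat_lit 78) (nat_lit 3),
  Rule.mk (nat_lit 1) (nat_lit 94) (Steps.fwd (nat_lit 16384) (Steps.bwd (nat_lit 1) (Steps.fwd (nat_lit 57344) (Steps.bwd (nat_lit 2) (Steps.bwd (nat_lit 7) Steps.nil))))) (nat_lit 83) (nat_lit 1),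
  Rule.mk (nat_lit 9) (nat_lit 110) (Steps.bwd (nat_lit 3) (Steps.fwd (nat_lit 122880) (Steps.bwd (nat_lit 3) (Steps.bwd (nat_lit 11) (Steps.bwd (nat_lit 9) (Steps.fwd (nat_lit 81920) Steps.nil)))))) (nat_lit 61) (nat_lit 0),
  Rule.mk (nat_lit 3) (nat_lit 110) (Steps.bwd (nat_lit 3) (Steps.fwd (nat_lit 114688) (Steps.bwd (nat_lit 16) (Steps.bwd (nat_lit 9) (Steps.fwd (nat_lit 131072) (Steps.fwd (nat_lit 73728) Steps.nil)))))) (nat_lit 65) (nat_lit 1),
  Rule.mk (nat_lit 15) (nat_lit 126) (Steps.bwd (nat_lit 3) (Steps.bwd (nat_lit 10) (Steps.bwd (nat_lit 10) (Steps.fwd (nat_lit 139264) (Steps.fwd (nat_lit 114688) (Steps.fwd (nat_lit 114688) (Steps.fwd (nat_lit 24576) Steps.nil))))))) (nat_lit 53) (nat_lit 7),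
  Rule.mk (nat_lit 10) (nat_lit 110) (Steps.bwd (nat_lit 16) (Steps.bwd (nat_lit 2) (Steps.bwd (nat_lit 15) (Steps.bwd (nat_lit 1) (Steps.bwd (nat_lit 15) (Steps.bwd (nat_lit 15) Steps.nil)))))) (nat_lit 45) (nat_lit 3),
  Rule.mk (nat_lit 16) (nat_lit 110) (Steps.bwd (nat_lit 16) (Steps.fwd (nat_lit 122880) (Steps.fwd (nat_lit 81920) (Steps.bwd (nat_lit 9) (Steps.fwd (nat_lit 32768) (Steps.bwd (nat_lit 9) Steps.nil)))))) (nat_lit 70) (nat_lit 4),
  Rule.mk (nat_lit 7) (nat_lit 286) (Steps.bwd (nat_lit 9) (Steps.fwd (nat_lit 24576) (Steps.bwd (nat_lit 4) (Steps.bwd (nat_lit 2) (Steps.bwd (nat_lit 11) (Steps.fwd (nat_lit 16384) (Steps.fwd (nat_lit 90112) (Steps.bwd (nat_lit 2) (Steps.fwd (nat_lit 90112) (Steps.bwd (nat_lit 1) (Steps.fwd (nat_lit 65536) (Steps.fwd (nat_lit 90112) (Steps.fwd (nat_lit 32768) (Steps.bwd (nat_lit 1) (Steps.bwd (nat_lit 4) (Steps.fwd (nat_lit 65536) (Steps.bwd (nat_lit 10) Steps.nil)))))))))))))))))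 (nat_lit 57) (nat_lit 17),
  Rule.mk (nat_lit 17) (nat_lit 126) (Steps.bwd (nat_lit 4) (Steps.bwd (nat_lit 13) (Steps.fwd (nat_lit 32768) (Steps.fwd (nat_lit 106496) (Steps.bwd (nat_lit 14) (Steps.bwd (nat_lit 17) (Steps.bwd (nat_lit 11) Steps.nil))))))) (nat_lit 51) (nat_lit 5),
  Rule.mk (nat_lit 11) (nat_lit 110) (Steps.bwd (nat_lit 14) (Steps.fwd (nat_lit 122880) (Steps.bwd (nat_lit 2) (Steps.fwd (nat_lit 122880) (Steps.fwd (nat_lit 16384) (Steps.bwd (nat_lit 17) Steps.nil)))))) (nat_lit 44) (nat_lit 5),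
  Rule.mk (nat_lit 4) (nat_lit 126) (Steps.bwd (nat_lit 14) (Steps.fwd (nat_lit 32768) (Steps.bwd (nat_lit 14) (Steps.fwd (nat_lit 122880) (Steps.fwd (nat_lit 131072) (Steps.fwd (nat_lit 81920) (Steps.bwd (nat_lit 11) Steps.nil))))))) (nat_lit 52) (nat_lit 1),
  Rule.mk (nat_lit 2) (nat_lit 206) (Steps.bwd (nat_lit 9) (Steps.bwd (nat_lit 1) (Steps.fwd (nat_lit 16384) (Steps.bwd (nat_lit 9) (Steps.bwd (nat_lit 16) (Steps.fwd (nat_lit 147456) (Steps.bwd (nat_lit 11) (Steps.fwd (nat_lit 8192) (Steps.bwd (nat_lit 3) (Steps.fwd (nat_lit 8192) (Steps.fwd (nat_lit 24576) (Steps.bwd (nat_lit 4) Steps.nil)))))))))))) (nat_lit 68) (nat_lit 0),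
  Rule.mk (nat_lit 10) (nat_lit 94) (Steps.bwd (nat_lit 19) (Steps.fwd (nat_lit 147456) (Steps.bwd (nat_lit 15) (Steps.fwd (nat_lit 81920) (Steps.fwd (nat_lit 122880) Steps.nil))))) (nat_lit 33) (nat_lit 0),
  Rule.mk (nat_lit 7) (nat_lit 270) (Steps.bwd (nat_lit 9) (Steps.bwd (nat_lit 4) (Steps.fwd (nat_lit 106496) (Steps.bwd (nat_lit 2) (Steps.bwd (nat_lit 9) (Steps.fwd (nat_lit 8192) (Steps.fwd (nat_lit 73728) (Steps.bwd (nat_lit 2) (Steps.fwd (nat_lit 155648) (Steps.bwd (nat_lit 16) (Steps.bwd (nat_lit 10) (Steps.bwd (nat_lit 3) (Steps.bwd (nat_lit 1) (Steps.fwd (nat_lit 24576) (Steps.fwd (nat_lit 24576) (Steps.bwd (nat_lit 2) Steps.nil)))))))))))))))) (nat_lit 76) (nat_lit 1),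
  Rule.mk (nat_lit 10) (nat_lit 142) (Steps.bwd (nat_lit 13) (Steps.fwd (nat_lit 114688) (Steps.bwd (nat_lit 16) (Steps.fwd (nat_lit 90112) (Steps.fwd (nat_lit 139264) (Steps.bwd (nat_lit 2) (Steps.bwd (nat_lit 17) (Steps.bwd (nat_lit 1) Steps.nil)))))))) (nat_lit 47) (nat_lit 1),
  Rule.mk (nat_lit 9) (nat_lit 190) (Steps.bwd (nat_lit 13) (Steps.bwd (nat_lit 9) (Steps.fwd (nat_lit 106496) (Steps.bwd (nat_lit 17) (Steps.bwd (nat_lit 1) (Steps.fwd (nat_lit 122880) (Steps.bwd (nat_lit 1) (Steps.fwd (nat_lit 16384) (Steps.fwd (nat_lit 16384) (Steps.bwd (nat_lit 9) (Steps.bwd (nat_lit 12) Steps.nil))))))))))) (nat_lit 74) (nat_lit 3),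
  Rule.mk (nat_lit 1) (nat_lit 270) (Steps.bwd (nat_lit 13) (Steps.fwd (nat_lit 32768) (Steps.fwd (nat_lit 73728) (Steps.fwd (nat_lit 57344) (Steps.bwd (nat_lit 1) (Steps.fwd (nat_lit 32768) (Steps.fwd (nat_lit 32768) (Steps.fwd (nat_lit 8192) (Steps.bwd (nat_lit 4) (Steps.fwd (nat_lit 81920) (Steps.fwd (nat_lit 131072) (Steps.bwd (nat_lit 19) (Steps.bwd (nat_lit 1) (Steps.bwd (nat_lit 9) (Steps.bwd (nat_lit 1) (Steps.bwd (nat_lit 9) Steps.nil)))))))))))))))) (nat_lit 77) (nat_lit 13),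
  Rule.mk (nat_lit 14) (nat_lit 126) (Steps.bwd (nat_lit 17) (Steps.bwd (nat_lit 11) (Steps.bwd (nat_lit 17) (Steps.fwd (nat_lit 24576) (Steps.bwd (nat_lit 13) (Steps.fwd (nat_lit 32768) (Steps.fwd (nat_lit 106496) Steps.nil))))))) (nat_lit 51) (nat_lit 2),
  Rule.mk (nat_lit 2) (nat_lit 142) (Steps.bwd (nat_lit 17) (Steps.bwd (nat_lit 1) (Steps.fwd (nat_lit 90112) (Steps.fwd (nat_lit 98304) (Steps.bwd (nat_lit 15) (Steps.fwd (nat_lit 139264) (Steps.fwd (nat_lit 90112) (Steps.bwd (nat_lit 16) Steps.nil)))))))) (nat_lit 47) (nat_lit 7),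
  Rule.mk (nat_lit 16) (nat_lit 190) (Steps.fwd (nat_lit 98304) (Steps.fwd (nat_lit 73728) (Steps.bwd (nat_lit 12) (Steps.fwd (nat_lit 73728) (Steps.fwd (nat_lit 98304) (Steps.bwd (nat_lit 9) (Steps.bwd (nat_lit 2) (Steps.fwd (nat_lit 8192) (Steps.bwd (nat_lit 2) (Steps.fwd (nat_lit 114688) (Steps.bwd (nat_lit 2) Steps.nil))))))))))) (nat_lit 75) (nat_lit 6),
  Rule.mk (nat_lit 11) (nat_lit 286) (Steps.bwd (nat_lit 1) (Steps.fwd (nat_lit 81920) (Steps.bwd (nat_lit 2) (Steps.bwd (nat_lit 10) (Steps.bwd (nat_lit 1) (Steps.bwd (nat_lit 3) (Steps.fwd (nat_lit 32768) (Steps.bwd (nat_lit 9) (Steps.bwd (nat_lit 8) (Steps.bwd (nat_lit 11) (Steps.bwd (nat_lit 8) (Steps.fwd (nat_lit 32768) (Steps.bwd (nat_lit 2) (Steps.bwd (nat_lit 4) (Steps.fwd (nat_lit 81920) (Steps.bwd (nat_lit 8) (Steps.bwd (nat_lit 2) Steps.nil))))))))))))))))) (nat_lit 56) (nat_lit 11),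
  Rule.mk (nat_lit 15) (nat_lit 110) (Steps.bwd (nat_lit 10) (Steps.bwd (nat_lit 16) (Steps.bwd (nat_lit 2) (Steps.bwd (nat_lit 15) (Steps.bwd (nat_lit 1) (Steps.fwd (nat_lit 114688) Steps.nil)))))) (nat_lit 45) (nat_lit 2),
  Rule.mk (nat_lit 9) (nat_lit 110) (Steps.bwd (nat_lit 10) (Steps.fwd (nat_lit 24576) (Steps.bwd (nat_lit 15) (Steps.fwd (nat_lit 24576) (Steps.fwd (nat_lit 73728) (Steps.bwd (nat_lit 10) Steps.nil)))))) (nat_lit 60) (nat_lit 3)]
noncomputable def R_109 : List (Rule) := [Rule.mk (nat_lit 16) (nat_lit 126) (Steps.bwd (nat_lit 10) (Steps.bwd (nat_lit 16) (Steps.bwd (nat_lit 15) (Steps.bwd (nat_lit 13) (Steps.fwd (nat_lit 24576) (Steps.bwd (nat_lit 12) (Steps.fwd (nat_lit 32768) Steps.nil))))))) (nat_lit 50) (nat_lit 4),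
  Rule.mk (nat_lit 10) (nat_lit 126) (Steps.bwd (nat_lit 10) (Steps.bwd (nat_lit 16) (Steps.bwd (nat_lit 15) (Steps.bwd (nat_lit 15) (Steps.fwd (nat_lit 24576) (Steps.bwd (nat_lit 15) (Steps.fwd (nat_lit 32768) Steps.nil))))))) (nat_lit 53) (nat_lit 1),
  Rule.mk (nat_lit 7) (nat_lit 286) (Steps.bwd (nat_lit 10) (Steps.fwd (nat_lit 65536) (Steps.bwd (nat_lit 9) (Steps.bwd (nat_lit 4) (Steps.fwd (nat_lit 24576) (Steps.fwd (nat_lit 8192) (Steps.bwd (nat_lit 11) (Steps.fwd (nat_lit 16384) (Steps.bwd (nat_lit 10) (Steps.bwd (nat_lit 2) (Steps.fwd (nat_lit 90112) (Steps.bwd (nat_lit 1) (Steps.bwd (nat_lit 7) (Steps.fwd (nat_lit 90112) (Steps.fwd (nat_lit 32768) (Steps.fwd (nat_lit 16384) (Steps.fwd (nat_lit 24576) Steps.nil))))))))))))))))) (nat_lit 57) (nat_lit 15),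
  Rule.mk (nat_lit 1) (nat_lit 94) (Steps.fwd (nat_lit 16384) (Steps.fwd (nat_lit 16384) (Steps.fwd (nat_lit 57344) (Steps.bwd (nat_lit 2) (Steps.bwd (nat_lit 7) Steps.nil))))) (nat_lit 83) (nat_lit 1),
  Rule.mk (nat_lit 17) (nat_lit 142) (Steps.bwd (nat_lit 1) (Steps.fwd (nat_lit 90112) (Steps.fwd (nat_lit 98304) (Steps.fwd (nat_lit 114688) (Steps.fwd (nat_lit 139264) (Steps.bwd (nat_lit 10) (Steps.bwd (nat_lit 16) (Steps.fwd (nat_lit 8192) Steps.nil)))))))) (nat_lit 47) (nat_lit 8),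
  Rule.mk (nat_lit 17) (nat_lit 110) (Steps.bwd (nat_lit 9) (Steps.fwd (nat_lit 24576) (Steps.fwd (nat_lit 73728) (Steps.bwd (nat_lit 10) (Steps.fwd (nat_lit 114688) (Steps.fwd (nat_lit 131072) Steps.nil)))))) (nat_lit 71) (nat_lit 4),
  Rule.mk (nat_lit 13) (nat_lit 190) (Steps.bwd (nat_lit 9) (Steps.fwd (nat_lit 106496) (Steps.fwd (nat_lit 73728) (Steps.fwd (nat_lit 98304) (Steps.fwd (nat_lit 73728) (Steps.bwd (nat_lit 2) (Steps.fwd (nat_lit 8192) (Steps.bwd (nat_lit 2) (Steps.fwd (nat_lit 114688) (Steps.fwd (nat_lit 8192) (Steps.bwd (nat_lit 16) Steps.nil))))))))))) (nat_lit 75) (nat_lit 7),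
  Rule.mk (nat_lit 1) (nat_lit 206) (Steps.bwd (nat_lit 9) (Steps.fwd (nat_lit 139264) (Steps.bwd (nat_lit 19) (Steps.bwd (nat_lit 11) (Steps.fwd (nat_lit 8192) (Steps.fwd (nat_lit 32768) (Steps.bwd (nat_lit 2) (Steps.fwd (nat_lit 24576) (Steps.bwd (nat_lit 4) (Steps.fwd (nat_lit 8192) (Steps.bwd (nat_lit 9) (Steps.fwd (nat_lit 16384) Steps.nil)))))))))))) (nat_lit 68) (nat_lit 3),
  Rule.mk (nat_lit 14) (nat_lit 158) (Steps.bwd (nat_lit 9) (Steps.fwd (nat_lit 16384) (Steps.fwd (nat_lit 139264) (Steps.fwd (nat_lit 90112) (Steps.fwd (nat_lit 98304) (Steps.bwd (nat_lit 2) (Steps.fwd (nat_lit 24576) (Steps.bwd (nat_lit 4) (Steps.bwd (nat_lit 9) Steps.nil))))))))) (nat_lit 62) (nat_lit 2),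
  Rule.mk (nat_lit 12) (nat_lit 190) (Steps.bwd (nat_lit 9) (Steps.bwd (nat_lit 13) (Steps.fwd (nat_lit 73728) (Steps.fwd (nat_lit 106496) (Steps.fwd (nat_lit 131072) (Steps.fwd (nat_lit 16384) (Steps.bwd (nat_lit 14) (Steps.fwd (nat_lit 16384) (Steps.fwd (nat_lit 16384) (Steps.bwd (nat_lit 1) (Steps.bwd (nat_lit 9) Steps.nil))))))))))) (nat_lit 74) (nat_lit 2),
  Rule.mk (nat_lit 13) (nat_lit 190) (Steps.bwd (nat_lit 9) (Steps.bwd (nat_lit 2) (Steps.fwd (nat_lit 8192) (Steps.bwd (nat_lit 2) (Steps.fwd (nat_lit 114688) (Steps.fwd (nat_lit 8192) (Steps.bwd (nat_lit 16) (Steps.bwd (nat_lit 13) (Steps.bwd (nat_lit 9) (Steps.fwd (nat_lit 106496) (Steps.bwd (nat_lit 9) Steps.nil))))))))))) (nat_lit 75) (nat_lit 11),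
  Rule.mk (nat_lit 1) (nat_lit 206) (Steps.bwd (nat_lit 9) (Steps.bwd (nat_lit 16) (Steps.bwd (nat_lit 19) (Steps.bwd (nat_lit 11) (Steps.bwd (nat_lit 2) (Steps.fwd (nat_lit 32768) (Steps.bwd (nat_lit 2) (Steps.fwd (nat_lit 24576) (Steps.fwd (nat_lit 24576) (Steps.bwd (nat_lit 2) (Steps.fwd (nat_lit 73728) (Steps.bwd (nat_lit 1) Steps.nil)))))))))))) (nat_lit 68) (nat_lit 3),
  Rule.mk (nat_lit 2) (nat_lit 206) (Steps.bwd (nat_lit 9) (Steps.fwd (nat_lit 16384) (Steps.bwd (nat_lit 3) (Steps.bwd (nat_lit 3) (Steps.bwd (nat_lit 1) (Steps.bwd (nat_lit 4) (Steps.bwd (nat_lit 1) (Steps.fwd (nat_lit 73728) (Steps.bwd (nat_lit 16) (Steps.fwd (nat_lit 147456) (Steps.bwd (nat_lit 11) (Steps.bwd (nat_lit 2) Steps.nil)))))))))))) (nat_lit 72) (nat_lit 0),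
  Rule.mk (nat_lit 7) (nat_lit 286) (Steps.bwd (nat_lit 9) (Steps.fwd (nat_lit 24576) (Steps.bwd (nat_lit 4) (Steps.fwd (nat_lit 8192) (Steps.fwd (nat_lit 81920) (Steps.bwd (nat_lit 1) (Steps.fwd (nat_lit 90112) (Steps.bwd (nat_lit 2) (Steps.bwd (nat_lit 10) (Steps.fwd (nat_lit 16384) (Steps.fwd (nat_lit 65536) (Steps.fwd (nat_lit 90112) (Steps.fwd (nat_lit 32768) (Steps.bwd (nat_lit 1) (Steps.fwd (nat_lit 24576) (Steps.fwd (nat_lit 65536) (Steps.fwd (nat_lit 90112) Steps.nil))))))))))))))))) (nat_lit 57) (nat_lit 17),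
  Rule.mk (nat_lit 14) (nat_lit 110) (Steps.fwd (nat_lit 16384) (Steps.bwd (nat_lit 17) (Steps.fwd (nat_lit 81920) (Steps.fwd (nat_lit 122880) (Steps.fwd (nat_lit 122880) (Steps.bwd (nat_lit 2) Steps.nil)))))) (nat_lit 44) (nat_lit 2),
  Rule.mk (nat_lit 16) (nat_lit 142) (Steps.bwd (nat_lit 10) (Steps.fwd (nat_lit 139264) (Steps.bwd (nat_lit 2) (Steps.fwd (nat_lit 131072) (Steps.bwd (nat_lit 1) (Steps.bwd (nat_lit 10) (Steps.fwd (nat_lit 98304) (Steps.bwd (nat_lit 15) Steps.nil)))))))) (nat_lit 47) (nat_lit 4),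
  Rule.mk (nat_lit 2) (nat_lit 286) (Steps.bwd (nat_lit 10) (Steps.fwd (nat_lit 16384) (Steps.fwd (nat_lit 32768) (Steps.fwd (nat_lit 32768) (Steps.fwd (nat_lit 73728) (Steps.bwd (nat_lit 8) (Steps.fwd (nat_lit 81920) (Steps.fwd (nat_lit 57344) (Steps.bwd (nat_lit 3) (Steps.bwd (nat_lit 2) (Steps.fwd (nat_lit 24576) (Steps.fwd (nat_lit 81920) (Steps.fwd (nat_lit 57344) (Steps.fwd (nat_lit 8192) (Steps.bwd (nat_lit 11) (Steps.bwd (nat_lit 1) (Steps.fwd (nat_lit 81920) Steps.nil))))))))))))))))) (nat_lit 56) (nat_lit 14),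
  Rule.mk (nat_lit 1) (nat_lit 286) (Steps.bwd (nat_lit 10) (Steps.fwd (nat_lit 8192) (Steps.fwd (nat_lit 90112) (Steps.bwd (nat_lit 1) (Steps.bwd (nat_lit 7) (Steps.bwd (nat_lit 10) (Steps.fwd (nat_lit 32768) (Steps.fwd (nat_lit 16384) (Steps.bwd (nat_lit 4) (Steps.fwd (nat_lit 65536) (Steps.bwd (nat_lit 10) (Steps.fwd (nat_lit 65536) (Steps.bwd (nat_lit 9) (Steps.bwd (nat_lit 4) (Steps.fwd (nat_lit 24576) (Steps.bwd (nat_lit 2) (Steps.fwd (nat_lit 81920) Steps.nil))))))))))))))))) (nat_lit 57) (nat_lit 5),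
  Rule.mk (nat_lit 18) (nat_lit 78) (Steps.fwd (nat_lit 155648) (Steps.fwd (nat_lit 8192) (Steps.fwd (nat_lit 147456) (Steps.bwd (nat_lit 1) Steps.nil)))) (nat_lit 49) (nat_lit 1),
  Rule.mk (nat_lit 3) (nat_lit 126) (Steps.bwd (nat_lit 1) (Steps.fwd (nat_lit 32768) (Steps.bwd (nat_lit 1) (Steps.fwd (nat_lit 32768) (Steps.bwd (nat_lit 1) (Steps.fwd (nat_lit 32768) (Steps.bwd (nat_lit 1) Steps.nil))))))) (nat_lit 4) (nat_lit 0),
  Rule.mk (nat_lit 4) (nat_lit 190) (Steps.fwd (nat_lit 8192) (Steps.bwd (nat_lit 3) (Steps.fwd (nat_lit 16384) (Steps.fwd (nat_lit 24576) (Steps.bwd (nat_lit 2) (Steps.bwd (nat_lit 3) (Steps.bwd (nat_lit 1) (Steps.bwd (nat_lit 4) (Steps.bwd (nat_lit 2) (Steps.fwd (nat_lit 32768) (Steps.bwd (nat_lit 1) Steps.nil))))))))))) (nat_lit 9) (nat_lit 1),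
  Rule.mk (nat_lit 2) (nat_lit 158) (Steps.bwd (nat_lit 9) (Steps.bwd (nat_lit 15) (Steps.fwd (nat_lit 73728) (Steps.bwd (nat_lit 3) (Steps.fwd (nat_lit 32768) (Steps.fwd (nat_lit 16384) (Steps.bwd (nat_lit 12) (Steps.bwd (nat_lit 11) (Steps.fwd (nat_lit 131072) Steps.nil))))))))) (nat_lit 63) (nat_lit 7),
  Rule.mk (nat_lit 13) (nat_lit 190) (Steps.bwd (nat_lit 9) (Steps.fwd (nat_lit 106496) (Steps.bwd (nat_lit 17) (Steps.bwd (nat_lit 1) (Steps.fwd (nat_lit 122880) (Steps.fwd (nat_lit 16384) (Steps.fwd (nat_lit 16384) (Steps.bwd (nat_lit 1) (Steps.bwd (nat_lit 9) (Steps.bwd (nat_lit 12) (Steps.fwd (nat_lit 73728) Steps.nil))))))))))) (nat_lit 74) (nat_lit 4),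
  Rule.mk (nat_lit 4) (nat_lit 126) (Steps.bwd (nat_lit 12) (Steps.bwd (nat_lit 3) (Steps.fwd (nat_lit 139264) (Steps.bwd (nat_lit 10) (Steps.bwd (nat_lit 16) (Steps.bwd (nat_lit 15) (Steps.bwd (nat_lit 13) Steps.nil))))))) (nat_lit 50) (nat_lit 1),
  Rule.mk (nat_lit 1) (nat_lit 158) (Steps.bwd (nat_lit 16) (Steps.bwd (nat_lit 10) (Steps.bwd (nat_lit 13) (Steps.bwd (nat_lit 2) (Steps.fwd (nat_lit 24576) (Steps.fwd (nat_lit 24576) (Steps.fwd (nat_lit 73728) (Steps.bwd (nat_lit 14) (Steps.bwd (nat_lit 9) Steps.nil))))))))) (nat_lit 62) (nat_lit 4),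
  Rule.mk (nat_lit 17) (nat_lit 110) (Steps.fwd (nat_lit 81920) (Steps.bwd (nat_lit 14) (Steps.fwd (nat_lit 122880) (Steps.fwd (nat_lit 8192) (Steps.bwd (nat_lit 14) (Steps.bwd (nat_lit 1) Steps.nil)))))) (nat_lit 44) (nat_lit 4),
  Rule.mk (nat_lit 15) (nat_lit 110) (Steps.bwd (nat_lit 15) (Steps.bwd (nat_lit 10) (Steps.bwd (nat_lit 16) (Steps.fwd (nat_lit 8192) (Steps.fwd (nat_lit 114688) (Steps.bwd (nat_lit 1) Steps.nil)))))) (nat_lit 45) (nat_lit 1),
  Rule.mk (nat_lit 3) (nat_lit 110) (Steps.bwd (nat_lit 15) (Steps.bwd (nat_lit 16) (Steps.bwd (nat_lit 9) (Steps.bwd (nat_lit 17) (Steps.fwd (nat_lit 73728) (Steps.fwd (nat_lit 32768) Steps.nil)))))) (nat_lit 65) (nat_lit 2),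
  Rule.mk (nat_lit 11) (nat_lit 142) (Steps.fwd (nat_lit 8192) (Steps.bwd (nat_lit 16) (Steps.bwd (nat_lit 1) (Steps.fwd (nat_lit 131072) (Steps.bwd (nat_lit 11) (Steps.fwd (nat_lit 131072) (Steps.fwd (nat_lit 122880) (Steps.bwd (nat_lit 12) Steps.nil)))))))) (nat_lit 46) (nat_lit 0),
  Rule.mk (nat_lit 14) (nat_lit 110) (Steps.bwd (nat_lit 14) (Steps.fwd (nat_lit 8192) (Steps.bwd (nat_lit 14) (Steps.bwd (nat_lit 1) (Steps.bwd (nat_lit 17) (Steps.fwd (nat_lit 81920) Steps.nil)))))) (nat_lit 44) (nat_lit 6),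
  Rule.mk (nat_lit 2) (nat_lit 206) (Steps.bwd (nat_lit 3) (Steps.bwd (nat_lit 2) (Steps.bwd (nat_lit 4) (Steps.bwd (nat_lit 4) (Steps.fwd (nat_lit 8192) (Steps.fwd (nat_lit 73728) (Steps.bwd (nat_lit 1) (Steps.fwd (nat_lit 16384) (Steps.fwd (nat_lit 90112) (Steps.fwd (nat_lit 155648) (Steps.fwd (nat_lit 131072) (Steps.fwd (nat_lit 73728) Steps.nil)))))))))))) (nat_lit 73) (nat_lit 7),
  Rule.mk (nat_lit 11) (nat_lit 286) (Steps.fwd (nat_lit 16384) (Steps.bwd (nat_lit 11) (Steps.bwd (nat_lit 2) (Steps.fwd (nat_lit 90112) (Steps.bwd (nat_lit 1) (Steps.bwd (nat_lit 3) (Steps.fwd (nat_lit 32768) (Steps.bwd (nat_lit 9) (Steps.bwd (nat_lit 8) (Steps.bwd (nat_lit 11) (Steps.fwd (nat_lit 57344) (Steps.fwd (nat_lit 32768) (Steps.bwd (nat_lit 2) (Steps.fwd (nat_lit 24576) (Steps.bwd (nat_lit 11) (Steps.bwd (nat_lit 8) (Steps.bwd (nat_lit 2) Steps.nil))))))))))))))))) (nat_lit 56) (nat_lit 11),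
  Rule.mk (nat_lit 4) (nat_lit 94) (Steps.bwd (nat_lit 1) (Steps.fwd (nat_lit 16384) (Steps.bwd (nat_lit 3) (Steps.fwd (nat_lit 8192) (Steps.fwd (nat_lit 8192) Steps.nil))))) (nat_lit 6) (nat_lit 3),
  Rule.mk (nat_lit 3) (nat_lit 158) (Steps.bwd (nat_lit 1) (Steps.fwd (nat_lit 106496) (Steps.bwd (nat_lit 11) (Steps.fwd (nat_lit 131072) (Steps.bwd (nat_lit 2) (Steps.fwd (nat_lit 73728) (Steps.fwd (nat_lit 114688) (Steps.fwd (nat_lit 73728) (Steps.fwd (nat_lit 32768) Steps.nil))))))))) (nat_lit 63) (nat_lit 2),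
  Rule.mk (nat_lit 9) (nat_lit 206) (Steps.bwd (nat_lit 1) (Steps.fwd (nat_lit 16384) (Steps.bwd (nat_lit 9) (Steps.bwd (nat_lit 16) (Steps.bwd (nat_lit 19) (Steps.bwd (nat_lit 11) (Steps.bwd (nat_lit 2) (Steps.bwd (nat_lit 3) (Steps.bwd (nat_lit 2) (Steps.fwd (nat_lit 24576) (Steps.fwd (nat_lit 24576) (Steps.fwd (nat_lit 8192) Steps.nil)))))))))))) (nat_lit 68) (nat_lit 1),
  Rule.mk (nat_lit 12) (nat_lit 126) (Steps.fwd (nat_lit 122880) (Steps.fwd (nat_lit 131072) (Steps.bwd (nat_lit 11) (Steps.fwd (nat_lit 131072) (Steps.bwd (nat_lit 4) (Steps.bwd (nat_lit 13) (Steps.bwd (nat_lit 3) Steps.nil))))))) (nat_lit 51) (nat_lit 1),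
  Rule.mk (nat_lit 9) (nat_lit 158) (Steps.fwd (nat_lit 16384) (Steps.fwd (nat_lit 139264) (Steps.bwd (nat_lit 10) (Steps.fwd (nat_lit 98304) (Steps.fwd (nat_lit 8192) (Steps.fwd (nat_lit 24576) (Steps.fwd (nat_lit 24576) (Steps.fwd (nat_lit 73728) (Steps.bwd (nat_lit 14) Steps.nil))))))))) (nat_lit 62) (nat_lit 3),
  Rule.mk (nat_lit 17) (nat_lit 206) (Steps.bwd (nat_lit 9) (Steps.bwd (nat_lit 2) (Steps.bwd (nat_lit 2) (Steps.fwd (nat_lit 73728) (Steps.fwd (nat_lit 16384) (Steps.bwd (nat_lit 3) (Steps.bwd (nat_lit 3) (Steps.bwd (nat_lit 1) (Steps.fwd (nat_lit 24576) (Steps.bwd (nat_lit 1) (Steps.bwd (nat_lit 10) (Steps.fwd (nat_lit 155648) Steps.nil)))))))))))) (nat_lit 69) (nat_lit 9),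
  Rule.mk (nat_lit 2) (nat_lit 126) (Steps.bwd (nat_lit 4) (Steps.bwd (nat_lit 2) (Steps.bwd (nat_lit 4) (Steps.bwd (nat_lit 2) (Steps.bwd (nat_lit 4) (Steps.bwd (nat_lit 2) (Steps.fwd (nat_lit 24576) Steps.nil))))))) (nat_lit 5) (nat_lit 0),
  Rule.mk (nat_lit 4) (nat_lit 158) (Steps.bwd (nat_lit 4) (Steps.fwd (nat_lit 73728) (Steps.bwd (nat_lit 14) (Steps.bwd (nat_lit 9) (Steps.bwd (nat_lit 1) (Steps.fwd (nat_lit 139264) (Steps.bwd (nat_lit 10) (Steps.fwd (nat_lit 98304) (Steps.bwd (nat_lit 2) Steps.nil))))))))) (nat_lit 62) (nat_lit 9),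
  Rule.mk (nat_lit 12) (nat_lit 126) (Steps.fwd (nat_lit 32768) (Steps.bwd (nat_lit 16) (Steps.fwd (nat_lit 90112) (Steps.bwd (nat_lit 16) (Steps.fwd (nat_lit 114688) (Steps.bwd (nat_lit 13) (Steps.bwd (nat_lit 4) Steps.nil))))))) (nat_lit 50) (nat_lit 2),
  Rule.mk (nat_lit 4) (nat_lit 110) (Steps.bwd (nat_lit 9) (Steps.bwd (nat_lit 10) (Steps.fwd (nat_lit 73728) (Steps.bwd (nat_lit 10) (Steps.fwd (nat_lit 24576) (Steps.fwd (nat_lit 114688) Steps.nil)))))) (nat_lit 60) (nat_lit 0),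
  Rule.mk (nat_lit 16) (nat_lit 110) (Steps.bwd (nat_lit 9) (Steps.fwd (nat_lit 131072) (Steps.bwd (nat_lit 9) (Steps.fwd (nat_lit 32768) (Steps.bwd (nat_lit 3) (Steps.bwd (nat_lit 15) Steps.nil)))))) (nat_lit 65) (nat_lit 4),
  Rule.mk (nat_lit 14) (nat_lit 158) (Steps.bwd (nat_lit 9) (Steps.fwd (nat_lit 16384) (Steps.bwd (nat_lit 16) (Steps.fwd (nat_lit 90112) (Steps.fwd (nat_lit 98304) (Steps.bwd (nat_lit 2) (Steps.bwd (nat_lit 4) (Steps.fwd (nat_lit 24576) (Steps.fwd (nat_lit 73728) Steps.nil))))))))) (nat_lit 62) (nat_lit 2),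
  Rule.mk (nat_lit 2) (nat_lit 158) (Steps.bwd (nat_lit 9) (Steps.bwd (nat_lit 15) (Steps.bwd (nat_lit 9) (Steps.fwd (nat_lit 32768) (Steps.fwd (nat_lit 32768) (Steps.bwd (nat_lit 1) (Steps.bwd (nat_lit 12) (Steps.fwd (nat_lit 81920) (Steps.bwd (nat_lit 17) Steps.nil))))))))) (nat_lit 63) (nat_lit 7),
  Rule.mk (nat_lit 8) (nat_lit 158) (Steps.bwd (nat_lit 19) (Steps.bwd (nat_lit 8) (Steps.fwd (nat_lit 147456) (Steps.fwd (nat_lit 57344) (Steps.fwd (nat_lit 147456) (Steps.bwd (nat_lit 8) (Steps.bwd (nat_lit 19) (Steps.bwd (nat_lit 8) (Steps.bwd (nat_lit 19) Steps.nil))))))))) (nat_lit 85) (nat_lit 0),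
  Rule.mk (nat_lit 18) (nat_lit 94) (Steps.bwd (nat_lit 17) (Steps.fwd (nat_lit 81920) (Steps.bwd (nat_lit 16) (Steps.fwd (nat_lit 90112) (Steps.bwd (nat_lit 18) Steps.nil))))) (nat_lit 35) (nat_lit 2),
  Rule.mk (nat_lit 9) (nat_lit 110) (Steps.bwd (nat_lit 17) (Steps.bwd (nat_lit 14) (Steps.bwd (nat_lit 4) (Steps.bwd (nat_lit 4) (Steps.fwd (nat_lit 73728) (Steps.fwd (nat_lit 139264) Steps.nil)))))) (nat_lit 64) (nat_lit 3),
  Rule.mk (nat_lit 17) (nat_lit 110) (Steps.bwd (nat_lit 17) (Steps.bwd (nat_lit 9) (Steps.bwd (nat_lit 4) (Steps.fwd (nat_lit 73728) (Steps.fwd (nat_lit 90112) (Steps.bwd (nat_lit 15) Steps.nil)))))) (nat_lit 71) (nat_lit 3),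
  Rule.mk (nat_lit 17) (nat_lit 94) (Steps.bwd (nat_lit 11) (Steps.fwd (nat_lit 139264) (Steps.bwd (nat_lit 10) (Steps.fwd (nat_lit 155648) (Steps.bwd (nat_lit 18) Steps.nil))))) (nat_lit 35) (nat_lit 3),
  Rule.mk (nat_lit 14) (nat_lit 110) (Steps.bwd (nat_lit 11) (Steps.fwd (nat_lit 73728) (Steps.bwd (nat_lit 18) (Steps.fwd (nat_lit 73728) (Steps.fwd (nat_lit 139264) (Steps.fwd (nat_lit 81920) Steps.nil)))))) (nat_lit 66) (nat_lit 6),
  Rule.mk (nat_lit 11) (nat_lit 126) (Steps.bwd (nat_lit 11) (Steps.bwd (nat_lit 4) (Steps.bwd (nat_lit 14) (Steps.fwd (nat_lit 32768) (Steps.fwd (nat_lit 122880) (Steps.fwd (nat_lit 122880) (Steps.fwd (nat_lit 131072) Steps.nil))))))) (nat_lit 52) (nat_lit 7),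
  Rule.mk (nat_lit 2) (nat_lit 286) (Steps.bwd (nat_lit 11) (Steps.fwd (nat_lit 16384) (Steps.fwd (nat_lit 81920) (Steps.fwd (nat_lit 8192) (Steps.bwd (nat_lit 10) (Steps.fwd (nat_lit 16384) (Steps.fwd (nat_lit 32768) (Steps.bwd (nat_lit 3) (Steps.bwd (nat_lit 9) (Steps.fwd (nat_lit 57344) (Steps.fwd (nat_lit 81920) (Steps.bwd (nat_lit 8) (Steps.bwd (nat_lit 3) (Steps.fwd (nat_lit 8192) (Steps.bwd (nat_lit 4) (Steps.bwd (nat_lit 11) (Steps.fwd (nat_lit 57344) Steps.nil))))))))))))))))) (nat_lit 56) (nat_lit 10),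
  Rule.mk (nat_lit 9) (nat_lit 158) (Steps.bwd (nat_lit 15) (Steps.fwd (nat_lit 73728) (Steps.fwd (nat_lit 32768) (Steps.bwd (nat_lit 3) (Steps.fwd (nat_lit 16384) (Steps.fwd (nat_lit 106496) (Steps.fwd (nat_lit 81920) (Steps.fwd (nat_lit 131072) (Steps.bwd (nat_lit 2) Steps.nil))))))))) (nat_lit 63) (nat_lit 8),
  Rule.mk (nat_lit 11) (nat_lit 286) (Steps.fwd (nat_lit 16384) (Steps.bwd (nat_lit 11) (Steps.fwd (nat_lit 8192) (Steps.bwd (nat_lit 10) (Steps.fwd (nat_lit 16384) (Steps.bwd (nat_lit 3) (Steps.bwd (nat_lit 3) (Steps.fwd (nat_lit 73728) (Steps.bwd (nat_lit 8) (Steps.fwd (nat_lit 81920) (Steps.bwd (nat_lit 8) (Steps.bwd (nat_lit 3) (Steps.bwd (nat_lit 2) (Steps.fwd (nat_lit 24576) (Steps.bwd (nat_lit 11) (Steps.fwd (nat_lit 57344) (Steps.bwd (nat_lit 2) Steps.nil))))))))))))))))) (nat_lit 56) (nat_lit 11),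
  Rule.mk (nat_lit 9) (nat_lit 206) (Steps.fwd (nat_lit 16384) (Steps.bwd (nat_lit 3) (Steps.fwd (nat_lit 32768) (Steps.fwd (nat_lit 16384) (Steps.fwd (nat_lit 24576) (Steps.fwd (nat_lit 16384) (Steps.fwd (nat_lit 73728) (Steps.fwd (nat_lit 139264) (Steps.fwd (nat_lit 147456) (Steps.fwd (nat_lit 81920) (Steps.fwd (nat_lit 8192) (Steps.bwd (nat_lit 2) Steps.nil)))))))))))) (nat_lit 72) (nat_lit 1),
  Rule.mk (nat_lit 14) (nat_lit 110) (Steps.bwd (nat_lit 11) (Steps.bwd (nat_lit 9) (Steps.bwd (nat_lit 18) (Steps.bwd (nat_lit 9) (Steps.fwd (nat_lit 139264) (Steps.bwd (nat_lit 11) Steps.nil)))))) (nat_lit 66) (nat_lit 6),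
  Rule.mk (nat_lit 12) (nat_lit 158) (Steps.bwd (nat_lit 11) (Steps.fwd (nat_lit 131072) (Steps.bwd (nat_lit 2) (Steps.fwd (nat_lit 73728) (Steps.fwd (nat_lit 114688) (Steps.fwd (nat_lit 73728) (Steps.fwd (nat_lit 32768) (Steps.fwd (nat_lit 32768) (Steps.fwd (nat_lit 16384) Steps.nil))))))))) (nat_lit 63) (nat_lit 4),
  Rule.mk (nat_lit 4) (nat_lit 270) (Steps.bwd (nat_lit 11) (Steps.fwd (nat_lit 131072) (Steps.bwd (nat_lit 19) (Steps.fwd (nat_lit 16384) (Steps.fwd (nat_lit 73728) (Steps.fwd (nat_lit 16384) (Steps.fwd (nat_lit 73728) (Steps.fwd (nat_lit 16384) (Steps.fwd (nat_lit 98304) (Steps.bwd (nat_lit 3) (Steps.fwd (nat_lit 73728) (Steps.fwd (nat_lit 57344) (Steps.bwd (nat_lit 1) (Steps.fwd (nat_lit 32768) (Steps.fwd (nat_lit 32768) (Steps.fwd (nat_lit 8192) Steps.nil)))))))))))))))) (nat_lit 77) (nat_lit 5),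
  Rule.mk (nat_lit 1) (nat_lit 94) (Steps.fwd (nat_lit 16384) (Steps.bwd (nat_lit 3) (Steps.bwd (nat_lit 2) (Steps.fwd (nat_lit 8192) (Steps.bwd (nat_lit 4) Steps.nil))))) (nat_lit 6) (nat_lit 4),
  Rule.mk (nat_lit 9) (nat_lit 286) (Steps.bwd (nat_lit 8) (Steps.fwd (nat_lit 81920) (Steps.fwd (nat_lit 57344) (Steps.fwd (nat_lit 32768) (Steps.fwd (nat_lit 8192) (Steps.bwd (nat_lit 4) (Steps.fwd (nat_lit 81920) (Steps.bwd (nat_lit 8) (Steps.bwd (nat_lit 2) (Steps.bwd (nat_lit 11) (Steps.bwd (nat_lit 1) (Steps.fwd (nat_lit 81920) (Steps.bwd (nat_lit 2) (Steps.bwd (nat_lit 10) (Steps.bwd (nat_lit 1) (Steps.bwd (nat_lit 3) (Steps.bwd (nat_lit 3) Steps.nil))))))))))))))))) (nat_lit 56) (nat_lit 1),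
  Rule.mk (nat_lit 15) (nat_lit 158) (Steps.bwd (nat_lit 9) (Steps.bwd (nat_lit 3) (Steps.bwd (nat_lit 3) (Steps.fwd (nat_lit 16384) (Steps.fwd (nat_lit 106496) (Steps.bwd (nat_lit 11) (Steps.bwd (nat_lit 17) (Steps.fwd (nat_lit 8192) (Steps.fwd (nat_lit 73728) Steps.nil))))))))) (nat_lit 63) (nat_lit 9),
  Rule.mk (nat_lit 12) (nat_lit 190) (Steps.bwd (nat_lit 9) (Steps.fwd (nat_lit 98304) (Steps.bwd (nat_lit 9) (Steps.bwd (nat_lit 2) (Steps.bwd (nat_lit 2) (Steps.fwd (nat_lit 8192) (Steps.bwd (nat_lit 15) (Steps.bwd (nat_lit 2) (Steps.fwd (nat_lit 139264) (Steps.fwd (nat_lit 98304) (Steps.fwd (nat_lit 73728) Steps.nil))))))))))) (nat_lit 75) (nat_lit 9),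
  Rule.mk (nat_lit 9) (nat_lit 110) (Steps.bwd (nat_lit 11) (Steps.fwd (nat_lit 73728) (Steps.bwd (nat_lit 3) (Steps.bwd (nat_lit 14) (Steps.fwd (nat_lit 32768) (Steps.fwd (nat_lit 81920) Steps.nil)))))) (nat_lit 61) (nat_lit 5)]
noncomputable def R_110 : List (Rule) := [Rule.mk (nat_lit 14) (nat_lit 110) (Steps.bwd (nat_lit 11) (Steps.fwd (nat_lit 73728) (Steps.bwd (nat_lit 18) (Steps.fwd (nat_lit 73728) (Steps.fwd (nat_lit 139264) (Steps.bwd (nat_lit 11) Steps.nil)))))) (nat_lit 66) (nat_lit 6),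
  Rule.mk (nat_lit 12) (nat_lit 158) (Steps.bwd (nat_lit 11) (Steps.bwd (nat_lit 17) (Steps.fwd (nat_lit 8192) (Steps.bwd (nat_lit 9) (Steps.fwd (nat_lit 114688) (Steps.fwd (nat_lit 73728) (Steps.bwd (nat_lit 3) (Steps.fwd (nat_lit 32768) (Steps.bwd (nat_lit 1) Steps.nil))))))))) (nat_lit 63) (nat_lit 4),
  Rule.mk (nat_lit 2) (nat_lit 142) (Steps.bwd (nat_lit 16) (Steps.fwd (nat_lit 16384) (Steps.bwd (nat_lit 17) (Steps.bwd (nat_lit 11) (Steps.fwd (nat_lit 131072) (Steps.bwd (nat_lit 14) (Steps.bwd (nat_lit 12) (Steps.bwd (nat_lit 11) Steps.nil)))))))) (nat_lit 46) (nat_lit 1),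
  Rule.mk (nat_lit 9) (nat_lit 206) (Steps.bwd (nat_lit 16) (Steps.fwd (nat_lit 147456) (Steps.bwd (nat_lit 11) (Steps.fwd (nat_lit 8192) (Steps.fwd (nat_lit 32768) (Steps.bwd (nat_lit 2) (Steps.fwd (nat_lit 24576) (Steps.fwd (nat_lit 24576) (Steps.bwd (nat_lit 2) (Steps.fwd (nat_lit 73728) (Steps.fwd (nat_lit 16384) (Steps.fwd (nat_lit 16384) Steps.nil)))))))))))) (nat_lit 68) (nat_lit 4),
  Rule.mk (nat_lit 17) (nat_lit 110) (Steps.fwd (nat_lit 122880) (Steps.bwd (nat_lit 4) (Steps.bwd (nat_lit 4) (Steps.fwd (nat_lit 73728) (Steps.fwd (nat_lit 139264) (Steps.bwd (nat_lit 9) Steps.nil)))))) (nat_lit 64) (nat_lit 4),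
  Rule.mk (nat_lit 2) (nat_lit 270) (Steps.fwd (nat_lit 155648) (Steps.bwd (nat_lit 16) (Steps.fwd (nat_lit 90112) (Steps.bwd (nat_lit 3) (Steps.bwd (nat_lit 1) (Steps.bwd (nat_lit 4) (Steps.bwd (nat_lit 4) (Steps.fwd (nat_lit 8192) (Steps.fwd (nat_lit 65536) (Steps.bwd (nat_lit 9) (Steps.bwd (nat_lit 4) (Steps.fwd (nat_lit 106496) (Steps.bwd (nat_lit 2) (Steps.fwd (nat_lit 73728) (Steps.fwd (nat_lit 8192) (Steps.bwd (nat_lit 9) Steps.nil)))))))))))))))) (nat_lit 76) (nat_lit 9),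
  Rule.mk (nat_lit 16) (nat_lit 110) (Steps.bwd (nat_lit 16) (Steps.fwd (nat_lit 122880) (Steps.bwd (nat_lit 11) (Steps.bwd (nat_lit 9) (Steps.fwd (nat_lit 32768) (Steps.bwd (nat_lit 9) Steps.nil)))))) (nat_lit 70) (nat_lit 4),
  Rule.mk (nat_lit 3) (nat_lit 126) (Steps.bwd (nat_lit 16) (Steps.bwd (nat_lit 10) (Steps.bwd (nat_lit 16) (Steps.fwd (nat_lit 114688) (Steps.bwd (nat_lit 13) (Steps.bwd (nat_lit 4) (Steps.fwd (nat_lit 106496) Steps.nil))))))) (nat_lit 50) (nat_lit 3),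
  Rule.mk (nat_lit 2) (nat_lit 142) (Steps.bwd (nat_lit 16) (Steps.bwd (nat_lit 1) (Steps.fwd (nat_lit 131072) (Steps.fwd (nat_lit 81920) (Steps.fwd (nat_lit 131072) (Steps.fwd (nat_lit 122880) (Steps.bwd (nat_lit 12) (Steps.fwd (nat_lit 81920) Steps.nil)))))))) (nat_lit 46) (nat_lit 1),
  Rule.mk (nat_lit 1) (nat_lit 158) (Steps.bwd (nat_lit 16) (Steps.bwd (nat_lit 10) (Steps.fwd (nat_lit 98304) (Steps.bwd (nat_lit 2) (Steps.fwd (nat_lit 24576) (Steps.bwd (nat_lit 4) (Steps.fwd (nat_lit 73728) (Steps.fwd (nat_lit 122880) (Steps.bwd (nat_lit 9) Steps.nil))))))))) (nat_lit 62) (nat_lit 4),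
  Rule.mk (nat_lit 13) (nat_lit 126) (Steps.bwd (nat_lit 4) (Steps.bwd (nat_lit 12) (Steps.fwd (nat_lit 32768) (Steps.fwd (nat_lit 139264) (Steps.fwd (nat_lit 90112) (Steps.fwd (nat_lit 139264) (Steps.bwd (nat_lit 15) Steps.nil))))))) (nat_lit 50) (nat_lit 0),
  Rule.mk (nat_lit 17) (nat_lit 126) (Steps.bwd (nat_lit 4) (Steps.bwd (nat_lit 13) (Steps.bwd (nat_lit 3) (Steps.bwd (nat_lit 12) (Steps.bwd (nat_lit 14) (Steps.bwd (nat_lit 17) (Steps.bwd (nat_lit 11) Steps.nil))))))) (nat_lit 51) (nat_lit 5),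
  Rule.mk (nat_lit 9) (nat_lit 270) (Steps.bwd (nat_lit 4) (Steps.bwd (nat_lit 12) (Steps.bwd (nat_lit 2) (Steps.fwd (nat_lit 73728) (Steps.bwd (nat_lit 2) (Steps.fwd (nat_lit 73728) (Steps.bwd (nat_lit 2) (Steps.bwd (nat_lit 18) (Steps.fwd (nat_lit 139264) (Steps.bwd (nat_lit 10) (Steps.bwd (nat_lit 3) (Steps.fwd (nat_lit 16384) (Steps.bwd (nat_lit 4) (Steps.bwd (nat_lit 4) (Steps.fwd (nat_lit 8192) (Steps.fwd (nat_lit 65536) Steps.nil)))))))))))))))) (nat_lit 76) (nat_lit 2),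
  Rule.mk (nat_lit 17) (nat_lit 110) (Steps.bwd (nat_lit 14) (Steps.fwd (nat_lit 24576) (Steps.fwd (nat_lit 24576) (Steps.fwd (nat_lit 73728) (Steps.bwd (nat_lit 16) (Steps.bwd (nat_lit 9) Steps.nil)))))) (nat_lit 64) (nat_lit 4),
  Rule.mk (nat_lit 10) (nat_lit 110) (Steps.fwd (nat_lit 114688) (Steps.bwd (nat_lit 10) (Steps.fwd (nat_lit 131072) (Steps.bwd (nat_lit 9) (Steps.fwd (nat_lit 147456) (Steps.bwd (nat_lit 9) Steps.nil)))))) (nat_lit 67) (nat_lit 1),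
  Rule.mk (nat_lit 13) (nat_lit 190) (Steps.fwd (nat_lit 73728) (Steps.bwd (nat_lit 12) (Steps.bwd (nat_lit 17) (Steps.fwd (nat_lit 16384) (Steps.bwd (nat_lit 14) (Steps.bwd (nat_lit 1) (Steps.fwd (nat_lit 16384) (Steps.bwd (nat_lit 1) (Steps.fwd (nat_lit 73728) (Steps.bwd (nat_lit 12) (Steps.bwd (nat_lit 9) Steps.nil))))))))))) (nat_lit 74) (nat_lit 4),
  Rule.mk (nat_lit 1) (nat_lit 158) (Steps.bwd (nat_lit 16) (Steps.fwd (nat_lit 90112) (Steps.bwd (nat_lit 13) (Steps.fwd (nat_lit 8192) (Steps.fwd (nat_lit 24576) (Steps.fwd (nat_lit 24576) (Steps.bwd (nat_lit 9) (Steps.fwd (nat_lit 122880) (Steps.bwd (nat_lit 9) Steps.nil))))))))) (nat_lit 62) (nat_lit 4),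
  Rule.mk (nat_lit 2) (nat_lit 190) (Steps.bwd (nat_lit 16) (Steps.bwd (nat_lit 13) (Steps.bwd (nat_lit 9) (Steps.fwd (nat_lit 106496) (Steps.bwd (nat_lit 9) (Steps.fwd (nat_lit 98304) (Steps.bwd (nat_lit 9) (Steps.bwd (nat_lit 2) (Steps.fwd (nat_lit 8192) (Steps.bwd (nat_lit 2) (Steps.bwd (nat_lit 15) Steps.nil))))))))))) (nat_lit 75) (nat_lit 5),
  Rule.mk (nat_lit 17) (nat_lit 126) (Steps.bwd (nat_lit 4) (Steps.bwd (nat_lit 13) (Steps.bwd (nat_lit 3) (Steps.fwd (nat_lit 106496) (Steps.fwd (nat_lit 122880) (Steps.bwd (nat_lit 17) (Steps.bwd (nat_lit 11) Steps.nil))))))) (nat_lit 51) (nat_lit 5),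
  Rule.mk (nat_lit 9) (nat_lit 286) (Steps.bwd (nat_lit 4) (Steps.fwd (nat_lit 24576) (Steps.bwd (nat_lit 2) (Steps.bwd (nat_lit 11) (Steps.fwd (nat_lit 16384) (Steps.fwd (nat_lit 90112) (Steps.bwd (nat_lit 2) (Steps.bwd (nat_lit 10) (Steps.fwd (nat_lit 16384) (Steps.bwd (nat_lit 7) (Steps.bwd (nat_lit 10) (Steps.fwd (nat_lit 32768) (Steps.fwd (nat_lit 16384) (Steps.fwd (nat_lit 24576) (Steps.fwd (nat_lit 65536) (Steps.fwd (nat_lit 90112) (Steps.bwd (nat_lit 7) Steps.nil))))))))))))))))) (nat_lit 57) (nat_lit 0),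
  Rule.mk (nat_lit 9) (nat_lit 190) (Steps.fwd (nat_lit 98304) (Steps.bwd (nat_lit 9) (Steps.bwd (nat_lit 12) (Steps.bwd (nat_lit 17) (Steps.fwd (nat_lit 16384) (Steps.bwd (nat_lit 14) (Steps.fwd (nat_lit 16384) (Steps.bwd (nat_lit 1) (Steps.bwd (nat_lit 1) (Steps.fwd (nat_lit 73728) (Steps.bwd (nat_lit 12) Steps.nil))))))))))) (nat_lit 74) (nat_lit 3),
  Rule.mk (nat_lit 7) (nat_lit 286) (Steps.bwd (nat_lit 9) (Steps.fwd (nat_lit 24576) (Steps.fwd (nat_lit 24576) (Steps.fwd (nat_lit 8192) (Steps.bwd (nat_lit 11) (Steps.bwd (nat_lit 1) (Steps.fwd (nat_lit 90112) (Steps.fwd (nat_lit 8192) (Steps.bwd (nat_lit 10) (Steps.bwd (nat_lit 1) (Steps.fwd (nat_lit 65536) (Steps.fwd (nat_lit 90112) (Steps.fwd (nat_lit 32768) (Steps.fwd (nat_lit 16384) (Steps.fwd (nat_lit 24576) (Steps.fwd (nat_lit 65536) (Steps.fwd (nat_lit 90112) Steps.nil))))))))))))))))) (nat_lit 57) (nat_lit 17),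
  Rule.mk (nat_lit 3) (nat_lit 126) (Steps.bwd (nat_lit 12) (Steps.bwd (nat_lit 14) (Steps.bwd (nat_lit 17) (Steps.fwd (nat_lit 81920) (Steps.bwd (nat_lit 17) (Steps.bwd (nat_lit 4) (Steps.fwd (nat_lit 98304) Steps.nil))))))) (nat_lit 51) (nat_lit 0),
  Rule.mk (nat_lit 9) (nat_lit 190) (Steps.bwd (nat_lit 12) (Steps.fwd (nat_lit 131072) (Steps.fwd (nat_lit 16384) (Steps.bwd (nat_lit 14) (Steps.fwd (nat_lit 16384) (Steps.bwd (nat_lit 1) (Steps.bwd (nat_lit 1) (Steps.bwd (nat_lit 9) (Steps.fwd (nat_lit 106496) (Steps.fwd (nat_lit 73728) (Steps.bwd (nat_lit 13) Steps.nil))))))))))) (nat_lit 74) (nat_lit 5),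
  Rule.mk (nat_lit 9) (nat_lit 190) (Steps.bwd (nat_lit 13) (Steps.fwd (nat_lit 73728) (Steps.bwd (nat_lit 12) (Steps.fwd (nat_lit 131072) (Steps.fwd (nat_lit 16384) (Steps.fwd (nat_lit 122880) (Steps.bwd (nat_lit 1) (Steps.fwd (nat_lit 16384) (Steps.bwd (nat_lit 1) (Steps.bwd (nat_lit 9) (Steps.bwd (nat_lit 12) Steps.nil))))))))))) (nat_lit 74) (nat_lit 3),
  Rule.mk (nat_lit 8) (nat_lit 270) (Steps.bwd (nat_lit 1) (Steps.bwd (nat_lit 3) (Steps.fwd (nat_lit 32768) (Steps.bwd (nat_lit 2) (Steps.bwd (nat_lit 4) (Steps.fwd (nat_lit 81920) (Steps.fwd (nat_lit 131072) (Steps.fwd (nat_lit 147456) (Steps.fwd (nat_lit 16384) (Steps.bwd (nat_lit 9) (Steps.bwd (nat_lit 1) (Steps.bwd (nat_lit 9) (Steps.fwd (nat_lit 16384) (Steps.bwd (nat_lit 13) (Steps.bwd (nat_lit 3) (Steps.bwd (nat_lit 9) Steps.nil)))))))))))))))) (nat_lit 77) (nat_lit 0),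
  Rule.mk (nat_lit 19) (nat_lit 94) (Steps.bwd (nat_lit 19) (Steps.fwd (nat_lit 114688) (Steps.bwd (nat_lit 11) (Steps.bwd (nat_lit 14) (Steps.bwd (nat_lit 10) Steps.nil))))) (nat_lit 33) (nat_lit 1),
  Rule.mk (nat_lit 16) (nat_lit 142) (Steps.bwd (nat_lit 10) (Steps.fwd (nat_lit 139264) (Steps.bwd (nat_lit 2) (Steps.bwd (nat_lit 17) (Steps.fwd (nat_lit 16384) (Steps.fwd (nat_lit 90112) (Steps.fwd (nat_lit 98304) (Steps.bwd (nat_lit 15) Steps.nil)))))))) (nat_lit 47) (nat_lit 4),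
  Rule.mk (nat_lit 2) (nat_lit 286) (Steps.bwd (nat_lit 10) (Steps.bwd (nat_lit 1) (Steps.bwd (nat_lit 3) (Steps.bwd (nat_lit 3) (Steps.bwd (nat_lit 9) (Steps.bwd (nat_lit 8) (Steps.bwd (nat_lit 11) (Steps.fwd (nat_lit 57344) (Steps.bwd (nat_lit 3) (Steps.fwd (nat_lit 8192) (Steps.fwd (nat_lit 24576) (Steps.bwd (nat_lit 11) (Steps.fwd (nat_lit 57344) (Steps.fwd (nat_lit 8192) (Steps.fwd (nat_lit 81920) (Steps.fwd (nat_lit 16384) (Steps.fwd (nat_lit 81920) Steps.nil))))))))))))))))) (nat_lit 56) (nat_lit 14),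
  Rule.mk (nat_lit 7) (nat_lit 286) (Steps.bwd (nat_lit 10) (Steps.fwd (nat_lit 32768) (Steps.fwd (nat_lit 16384) (Steps.fwd (nat_lit 24576) (Steps.fwd (nat_lit 65536) (Steps.fwd (nat_lit 90112) (Steps.fwd (nat_lit 65536) (Steps.fwd (nat_lit 73728) (Steps.fwd (nat_lit 24576) (Steps.bwd (nat_lit 4) (Steps.fwd (nat_lit 8192) (Steps.bwd (nat_lit 11) (Steps.fwd (nat_lit 16384) (Steps.bwd (nat_lit 10) (Steps.bwd (nat_lit 2) (Steps.fwd (nat_lit 90112) (Steps.bwd (nat_lit 1) Steps.nil))))))))))))))))) (nat_lit 57) (nat_lit 10),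
  Rule.mk (nat_lit 7) (nat_lit 94) (Steps.fwd (nat_lit 8192) (Steps.fwd (nat_lit 8192) (Steps.fwd (nat_lit 8192) (Steps.bwd (nat_lit 2) (Steps.bwd (nat_lit 7) Steps.nil))))) (nat_lit 78) (nat_lit 2),
  Rule.mk (nat_lit 9) (nat_lit 158) (Steps.bwd (nat_lit 14) (Steps.fwd (nat_lit 73728) (Steps.fwd (nat_lit 16384) (Steps.bwd (nat_lit 16) (Steps.fwd (nat_lit 90112) (Steps.bwd (nat_lit 13) (Steps.bwd (nat_lit 2) (Steps.fwd (nat_lit 24576) (Steps.bwd (nat_lit 4) Steps.nil))))))))) (nat_lit 62) (nat_lit 1),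
  Rule.mk (nat_lit 2) (nat_lit 110) (Steps.bwd (nat_lit 15) (Steps.fwd (nat_lit 16384) (Steps.fwd (nat_lit 114688) (Steps.fwd (nat_lit 114688) (Steps.bwd (nat_lit 10) (Steps.fwd (nat_lit 139264) Steps.nil)))))) (nat_lit 45) (nat_lit 5),
  Rule.mk (nat_lit 1) (nat_lit 110) (Steps.bwd (nat_lit 15) (Steps.fwd (nat_lit 114688) (Steps.fwd (nat_lit 90112) (Steps.fwd (nat_lit 139264) (Steps.fwd (nat_lit 8192) (Steps.bwd (nat_lit 15) Steps.nil)))))) (nat_lit 45) (nat_lit 0),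
  Rule.mk (nat_lit 3) (nat_lit 110) (Steps.bwd (nat_lit 15) (Steps.fwd (nat_lit 139264) (Steps.bwd (nat_lit 9) (Steps.bwd (nat_lit 17) (Steps.fwd (nat_lit 73728) (Steps.bwd (nat_lit 3) Steps.nil)))))) (nat_lit 65) (nat_lit 2),
  Rule.mk (nat_lit 13) (nat_lit 158) (Steps.bwd (nat_lit 2) (Steps.bwd (nat_lit 4) (Steps.bwd (nat_lit 4) (Steps.bwd (nat_lit 9) (Steps.bwd (nat_lit 14) (Steps.fwd (nat_lit 73728) (Steps.fwd (nat_lit 16384) (Steps.bwd (nat_lit 16) (Steps.bwd (nat_lit 10) Steps.nil))))))))) (nat_lit 62) (nat_lit 7),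
  Rule.mk (nat_lit 17) (nat_lit 110) (Steps.fwd (nat_lit 81920) (Steps.fwd (nat_lit 122880) (Steps.bwd (nat_lit 14) (Steps.fwd (nat_lit 8192) (Steps.fwd (nat_lit 122880) (Steps.bwd (nat_lit 1) Steps.nil)))))) (nat_lit 44) (nat_lit 4),
  Rule.mk (nat_lit 9) (nat_lit 158) (Steps.fwd (nat_lit 114688) (Steps.fwd (nat_lit 73728) (Steps.bwd (nat_lit 3) (Steps.fwd (nat_lit 32768) (Steps.fwd (nat_lit 16384) (Steps.fwd (nat_lit 106496) (Steps.fwd (nat_lit 81920) (Steps.fwd (nat_lit 131072) (Steps.bwd (nat_lit 2) Steps.nil))))))))) (nat_lit 63) (nat_lit 8),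
  Rule.mk (nat_lit 3) (nat_lit 110) (Steps.bwd (nat_lit 11) (Steps.bwd (nat_lit 9) (Steps.fwd (nat_lit 81920) (Steps.fwd (nat_lit 73728) (Steps.fwd (nat_lit 32768) (Steps.bwd (nat_lit 14) Steps.nil)))))) (nat_lit 61) (nat_lit 3),
  Rule.mk (nat_lit 9) (nat_lit 110) (Steps.bwd (nat_lit 3) (Steps.fwd (nat_lit 73728) (Steps.bwd (nat_lit 16) (Steps.fwd (nat_lit 139264) (Steps.bwd (nat_lit 14) (Steps.fwd (nat_lit 81920) Steps.nil)))))) (nat_lit 70) (nat_lit 1),
  Rule.mk (nat_lit 8) (nat_lit 270) (Steps.bwd (nat_lit 1) (Steps.fwd (nat_lit 32768) (Steps.fwd (nat_lit 32768) (Steps.fwd (nat_lit 8192) (Steps.bwd (nat_lit 4) (Steps.fwd (nat_lit 81920) (Steps.bwd (nat_lit 17) (Steps.fwd (nat_lit 147456) (Steps.fwd (nat_lit 16384) (Steps.bwd (nat_lit 9) (Steps.bwd (nat_lit 1) (Steps.fwd (nat_lit 73728) (Steps.fwd (nat_lit 16384) (Steps.bwd (nat_lit 13) (Steps.fwd (nat_lit 32768) (Steps.bwd (nat_lit 9) Steps.nil))))))))))))))))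 (nat_lit 77) (nat_lit 0),
  Rule.mk (nat_lit 14) (nat_lit 110) (Steps.bwd (nat_lit 11) (Steps.fwd (nat_lit 73728) (Steps.bwd (nat_lit 18) (Steps.bwd (nat_lit 9) (Steps.bwd (nat_lit 16) (Steps.fwd (nat_lit 81920) Steps.nil)))))) (nat_lit 66) (nat_lit 6),
  Rule.mk (nat_lit 12) (nat_lit 142) (Steps.bwd (nat_lit 11) (Steps.fwd (nat_lit 8192) (Steps.bwd (nat_lit 16) (Steps.fwd (nat_lit 16384) (Steps.bwd (nat_lit 17) (Steps.bwd (nat_lit 11) (Steps.fwd (nat_lit 131072) (Steps.fwd (nat_lit 122880) Steps.nil)))))))) (nat_lit 46) (nat_lit 8),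
  Rule.mk (nat_lit 3) (nat_lit 110) (Steps.bwd (nat_lit 14) (Steps.fwd (nat_lit 32768) (Steps.fwd (nat_lit 81920) (Steps.bwd (nat_lit 9) (Steps.bwd (nat_lit 11) (Steps.fwd (nat_lit 73728) Steps.nil)))))) (nat_lit 61) (nat_lit 1),
  Rule.mk (nat_lit 4) (nat_lit 126) (Steps.bwd (nat_lit 14) (Steps.fwd (nat_lit 32768) (Steps.bwd (nat_lit 14) (Steps.bwd (nat_lit 14) (Steps.bwd (nat_lit 17) (Steps.fwd (nat_lit 81920) (Steps.fwd (nat_lit 81920) Steps.nil))))))) (nat_lit 52) (nat_lit 1),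
  Rule.mk (nat_lit 15) (nat_lit 126) (Steps.bwd (nat_lit 3) (Steps.bwd (nat_lit 10) (Steps.fwd (nat_lit 90112) (Steps.fwd (nat_lit 139264) (Steps.fwd (nat_lit 114688) (Steps.bwd (nat_lit 15) (Steps.bwd (nat_lit 4) Steps.nil))))))) (nat_lit 53) (nat_lit 7),
  Rule.mk (nat_lit 4) (nat_lit 206) (Steps.bwd (nat_lit 1) (Steps.fwd (nat_lit 90112) (Steps.fwd (nat_lit 155648) (Steps.bwd (nat_lit 17) (Steps.fwd (nat_lit 73728) (Steps.fwd (nat_lit 8192) (Steps.fwd (nat_lit 8192) (Steps.fwd (nat_lit 73728) (Steps.fwd (nat_lit 16384) (Steps.bwd (nat_lit 3) (Steps.fwd (nat_lit 32768) (Steps.bwd (nat_lit 1) Steps.nil)))))))))))) (nat_lit 69) (nat_lit 5),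
  Rule.mk (nat_lit 9) (nat_lit 206) (Steps.bwd (nat_lit 16) (Steps.bwd (nat_lit 19) (Steps.bwd (nat_lit 11) (Steps.bwd (nat_lit 2) (Steps.bwd (nat_lit 2) (Steps.fwd (nat_lit 73728) (Steps.bwd (nat_lit 1) (Steps.bwd (nat_lit 3) (Steps.bwd (nat_lit 3) (Steps.fwd (nat_lit 16384) (Steps.fwd (nat_lit 24576) (Steps.bwd (nat_lit 1) Steps.nil)))))))))))) (nat_lit 72) (nat_lit 8),
  Rule.mk (nat_lit 16) (nat_lit 110) (Steps.bwd (nat_lit 2) (Steps.bwd (nat_lit 15) (Steps.bwd (nat_lit 1) (Steps.fwd (nat_lit 114688) (Steps.fwd (nat_lit 114688) (Steps.bwd (nat_lit 10) Steps.nil)))))) (nat_lit 45) (nat_lit 4),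
  Rule.mk (nat_lit 9) (nat_lit 206) (Steps.bwd (nat_lit 2) (Steps.bwd (nat_lit 2) (Steps.bwd (nat_lit 9) (Steps.bwd (nat_lit 1) (Steps.fwd (nat_lit 32768) (Steps.bwd (nat_lit 3) (Steps.fwd (nat_lit 16384) (Steps.fwd (nat_lit 24576) (Steps.bwd (nat_lit 1) (Steps.bwd (nat_lit 10) (Steps.bwd (nat_lit 18) (Steps.bwd (nat_lit 17) Steps.nil)))))))))))) (nat_lit 69) (nat_lit 10),
  Rule.mk (nat_lit 10) (nat_lit 286) (Steps.bwd (nat_lit 2) (Steps.bwd (nat_lit 10) (Steps.bwd (nat_lit 1) (Steps.bwd (nat_lit 7) (Steps.bwd (nat_lit 10) (Steps.fwd (nat_lit 32768) (Steps.bwd (nat_lit 1) (Steps.fwd (nat_lit 24576) (Steps.bwd (nat_lit 7) (Steps.bwd (nat_lit 10) (Steps.bwd (nat_lit 7) (Steps.fwd (nat_lit 73728) (Steps.fwd (nat_lit 24576) (Steps.bwd (nat_lit 4) (Steps.fwd (nat_lit 8192) (Steps.bwd (nat_lit 11) (Steps.bwd (nat_lit 1) Steps.nil))))))))))))))))) (nat_lit 57) (nat_lit 6),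
  Rule.mk (nat_lit 14) (nat_lit 110) (Steps.fwd (nat_lit 81920) (Steps.bwd (nat_lit 9) (Steps.bwd (nat_lit 3) (Steps.fwd (nat_lit 73728) (Steps.bwd (nat_lit 16) (Steps.bwd (nat_lit 16) Steps.nil)))))) (nat_lit 70) (nat_lit 6),
  Rule.mk (nat_lit 9) (nat_lit 190) (Steps.bwd (nat_lit 12) (Steps.fwd (nat_lit 73728) (Steps.bwd (nat_lit 13) (Steps.fwd (nat_lit 73728) (Steps.fwd (nat_lit 106496) (Steps.bwd (nat_lit 17) (Steps.fwd (nat_lit 16384) (Steps.bwd (nat_lit 14) (Steps.bwd (nat_lit 1) (Steps.bwd (nat_lit 1) (Steps.fwd (nat_lit 16384) Steps.nil))))))))))) (nat_lit 74) (nat_lit 1),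
  Rule.mk (nat_lit 13) (nat_lit 190) (Steps.bwd (nat_lit 9) (Steps.fwd (nat_lit 106496) (Steps.bwd (nat_lit 17) (Steps.fwd (nat_lit 16384) (Steps.fwd (nat_lit 122880) (Steps.bwd (nat_lit 1) (Steps.bwd (nat_lit 1) (Steps.bwd (nat_lit 1) (Steps.bwd (nat_lit 9) (Steps.fwd (nat_lit 106496) (Steps.bwd (nat_lit 9) Steps.nil))))))))))) (nat_lit 74) (nat_lit 4),
  Rule.mk (nat_lit 1) (nat_lit 94) (Steps.fwd (nat_lit 16384) (Steps.fwd (nat_lit 16384) (Steps.bwd (nat_lit 1) (Steps.fwd (nat_lit 57344) (Steps.bwd (nat_lit 8) Steps.nil))))) (nat_lit 79) (nat_lit 1),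
  Rule.mk (nat_lit 9) (nat_lit 158) (Steps.bwd (nat_lit 1) (Steps.fwd (nat_lit 139264) (Steps.bwd (nat_lit 10) (Steps.bwd (nat_lit 13) (Steps.bwd (nat_lit 2) (Steps.fwd (nat_lit 24576) (Steps.bwd (nat_lit 4) (Steps.bwd (nat_lit 9) (Steps.fwd (nat_lit 122880) Steps.nil))))))))) (nat_lit 62) (nat_lit 3),
  Rule.mk (nat_lit 10) (nat_lit 110) (Steps.fwd (nat_lit 24576) (Steps.fwd (nat_lit 114688) (Steps.bwd (nat_lit 4) (Steps.fwd (nat_lit 73728) (Steps.bwd (nat_lit 10) (Steps.bwd (nat_lit 9) Steps.nil)))))) (nat_lit 60) (nat_lit 4),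
  Rule.mk (nat_lit 16) (nat_lit 110) (Steps.fwd (nat_lit 73728) (Steps.bwd (nat_lit 17) (Steps.bwd (nat_lit 14) (Steps.bwd (nat_lit 4) (Steps.fwd (nat_lit 24576) (Steps.bwd (nat_lit 9) Steps.nil)))))) (nat_lit 64) (nat_lit 2),
  Rule.mk (nat_lit 10) (nat_lit 142) (Steps.fwd (nat_lit 98304) (Steps.fwd (nat_lit 114688) (Steps.fwd (nat_lit 139264) (Steps.bwd (nat_lit 10) (Steps.fwd (nat_lit 139264) (Steps.fwd (nat_lit 8192) (Steps.bwd (nat_lit 17) (Steps.bwd (nat_lit 1) Steps.nil)))))))) (nat_lit 47) (nat_lit 1),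
  Rule.mk (nat_lit 9) (nat_lit 206) (Steps.bwd (nat_lit 16) (Steps.bwd (nat_lit 19) (Steps.bwd (nat_lit 11) (Steps.fwd (nat_lit 8192) (Steps.fwd (nat_lit 32768) (Steps.bwd (nat_lit 2) (Steps.fwd (nat_lit 24576) (Steps.bwd (nat_lit 4) (Steps.bwd (nat_lit 2) (Steps.bwd (nat_lit 9) (Steps.bwd (nat_lit 1) (Steps.bwd (nat_lit 1) Steps.nil)))))))))))) (nat_lit 68) (nat_lit 4),
  Rule.mk (nat_lit 12) (nat_lit 190) (Steps.bwd (nat_lit 9) (Steps.fwd (nat_lit 98304) (Steps.bwd (nat_lit 9) (Steps.bwd (nat_lit 2) (Steps.bwd (nat_lit 2) (Steps.bwd (nat_lit 2) (Steps.bwd (nat_lit 15) (Steps.bwd (nat_lit 2) (Steps.bwd (nat_lit 16) (Steps.fwd (nat_lit 98304) (Steps.bwd (nat_lit 9) Steps.nil))))))))))) (nat_lit 75) (nat_lit 9),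
  Rule.mk (nat_lit 7) (nat_lit 126) (Steps.bwd (nat_lit 18) (Steps.fwd (nat_lit 65536) (Steps.fwd (nat_lit 147456) (Steps.bwd (nat_lit 7) (Steps.fwd (nat_lit 155648) (Steps.bwd (nat_lit 2) (Steps.fwd (nat_lit 8192) Steps.nil))))))) (nat_lit 86) (nat_lit 1),
  Rule.mk (nat_lit 17) (nat_lit 158) (Steps.bwd (nat_lit 2) (Steps.bwd (nat_lit 9) (Steps.fwd (nat_lit 114688) (Steps.fwd (nat_lit 73728) (Steps.fwd (nat_lit 32768) (Steps.fwd (nat_lit 32768) (Steps.fwd (nat_lit 16384) (Steps.fwd (nat_lit 106496) (Steps.bwd (nat_lit 11) Steps.nil))))))))) (nat_lit 63) (nat_lit 6),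
  Rule.mk (nat_lit 11) (nat_lit 110) (Steps.bwd (nat_lit 14) (Steps.fwd (nat_lit 122880) (Steps.bwd (nat_lit 2) (Steps.fwd (nat_lit 122880) (Steps.fwd (nat_lit 16384) (Steps.fwd (nat_lit 131072) Steps.nil)))))) (nat_lit 44) (nat_lit 5)]
noncomputable def R_111 : List (Rule) := [Rule.mk (nat_lit 1) (nat_lit 190) (Steps.bwd (nat_lit 14) (Steps.fwd (nat_lit 16384) (Steps.fwd (nat_lit 16384) (Steps.fwd (nat_lit 16384) (Steps.bwd (nat_lit 9) (Steps.bwd (nat_lit 12) (Steps.bwd (nat_lit 9) (Steps.fwd (nat_lit 98304) (Steps.bwd (nat_lit 9) (Steps.bwd (nat_lit 12) (Steps.fwd (nat_lit 131072) Steps.nil))))))))))) (nat_lit 74) (nat_lit 8),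
  Rule.mk (nat_lit 9) (nat_lit 190) (Steps.bwd (nat_lit 12) (Steps.fwd (nat_lit 73728) (Steps.bwd (nat_lit 13) (Steps.fwd (nat_lit 73728) (Steps.bwd (nat_lit 12) (Steps.fwd (nat_lit 131072) (Steps.bwd (nat_lit 1) (Steps.bwd (nat_lit 14) (Steps.fwd (nat_lit 16384) (Steps.fwd (nat_lit 16384) (Steps.bwd (nat_lit 1) Steps.nil))))))))))) (nat_lit 74) (nat_lit 1),
  Rule.mk (nat_lit 10) (nat_lit 110) (Steps.bwd (nat_lit 16) (Steps.fwd (nat_lit 8192) (Steps.bwd (nat_lit 15) (Steps.fwd (nat_lit 16384) (Steps.bwd (nat_lit 15) (Steps.fwd (nat_lit 114688) Steps.nil)))))) (nat_lit 45) (nat_lit 3),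
  Rule.mk (nat_lit 2) (nat_lit 142) (Steps.bwd (nat_lit 16) (Steps.fwd (nat_lit 16384) (Steps.bwd (nat_lit 17) (Steps.fwd (nat_lit 81920) (Steps.fwd (nat_lit 131072) (Steps.bwd (nat_lit 14) (Steps.bwd (nat_lit 12) (Steps.bwd (nat_lit 11) Steps.nil)))))))) (nat_lit 46) (nat_lit 1),
  Rule.mk (nat_lit 1) (nat_lit 158) (Steps.bwd (nat_lit 16) (Steps.fwd (nat_lit 90112) (Steps.bwd (nat_lit 13) (Steps.fwd (nat_lit 8192) (Steps.bwd (nat_lit 4) (Steps.bwd (nat_lit 4) (Steps.fwd (nat_lit 73728) (Steps.bwd (nat_lit 14) (Steps.bwd (nat_lit 9) Steps.nil))))))))) (nat_lit 62) (nat_lit 4),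
  Rule.mk (nat_lit 17) (nat_lit 110) (Steps.bwd (nat_lit 11) (Steps.fwd (nat_lit 122880) (Steps.bwd (nat_lit 14) (Steps.fwd (nat_lit 8192) (Steps.fwd (nat_lit 122880) (Steps.bwd (nat_lit 1) Steps.nil)))))) (nat_lit 44) (nat_lit 4),
  Rule.mk (nat_lit 15) (nat_lit 110) (Steps.bwd (nat_lit 4) (Steps.fwd (nat_lit 73728) (Steps.fwd (nat_lit 90112) (Steps.bwd (nat_lit 9) (Steps.bwd (nat_lit 10) (Steps.fwd (nat_lit 24576) Steps.nil)))))) (nat_lit 60) (nat_lit 6),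
  Rule.mk (nat_lit 17) (nat_lit 126) (Steps.bwd (nat_lit 4) (Steps.fwd (nat_lit 98304) (Steps.fwd (nat_lit 32768) (Steps.bwd (nat_lit 12) (Steps.fwd (nat_lit 122880) (Steps.fwd (nat_lit 131072) (Steps.fwd (nat_lit 81920) Steps.nil))))))) (nat_lit 51) (nat_lit 5),
  Rule.mk (nat_lit 19) (nat_lit 126) (Steps.fwd (nat_lit 57344) (Steps.bwd (nat_lit 18) (Steps.bwd (nat_lit 8) (Steps.bwd (nat_lit 19) (Steps.bwd (nat_lit 8) (Steps.bwd (nat_lit 1) (Steps.bwd (nat_lit 1) Steps.nil))))))) (nat_lit 87) (nat_lit 3),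
  Rule.mk (nat_lit 9) (nat_lit 270) (Steps.bwd (nat_lit 1) (Steps.fwd (nat_lit 98304) (Steps.fwd (nat_lit 32768) (Steps.bwd (nat_lit 9) (Steps.fwd (nat_lit 57344) (Steps.fwd (nat_lit 16384) (Steps.bwd (nat_lit 3) (Steps.fwd (nat_lit 32768) (Steps.fwd (nat_lit 8192) (Steps.fwd (nat_lit 24576) (Steps.bwd (nat_lit 11) (Steps.bwd (nat_lit 17) (Steps.bwd (nat_lit 19) (Steps.bwd (nat_lit 1) (Steps.bwd (nat_lit 9) (Steps.bwd (nat_lit 1) Steps.nil)))))))))))))))) (nat_lit 77) (nat_lit 12),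
  Rule.mk (nat_lit 18) (nat_lit 126) (Steps.bwd (nat_lit 7) (Steps.bwd (nat_lit 19) (Steps.bwd (nat_lit 7) (Steps.fwd (nat_lit 155648) (Steps.bwd (nat_lit 2) (Steps.fwd (nat_lit 8192) (Steps.fwd (nat_lit 65536) Steps.nil))))))) (nat_lit 86) (nat_lit 2),
  Rule.mk (nat_lit 7) (nat_lit 158) (Steps.bwd (nat_lit 18) (Steps.fwd (nat_lit 65536) (Steps.bwd (nat_lit 18) (Steps.fwd (nat_lit 65536) (Steps.fwd (nat_lit 155648) (Steps.bwd (nat_lit 7) (Steps.bwd (nat_lit 18) (Steps.fwd (nat_lit 65536) (Steps.fwd (nat_lit 155648) Steps.nil))))))))) (nat_lit 84) (nat_lit 1),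
  Rule.mk (nat_lit 2) (nat_lit 94) (Steps.fwd (nat_lit 8192) (Steps.fwd (nat_lit 8192) (Steps.fwd (nat_lit 57344) (Steps.fwd (nat_lit 16384) (Steps.bwd (nat_lit 7) Steps.nil))))) (nat_lit 82) (nat_lit 4),
  Rule.mk (nat_lit 9) (nat_lit 270) (Steps.bwd (nat_lit 2) (Steps.bwd (nat_lit 9) (Steps.bwd (nat_lit 2) (Steps.bwd (nat_lit 18) (Steps.bwd (nat_lit 16) (Steps.bwd (nat_lit 10) (Steps.fwd (nat_lit 32768) (Steps.fwd (nat_lit 16384) (Steps.bwd (nat_lit 4) (Steps.bwd (nat_lit 4) (Steps.bwd (nat_lit 2) (Steps.bwd (nat_lit 7) (Steps.bwd (nat_lit 9) (Steps.fwd (nat_lit 24576) (Steps.fwd (nat_lit 106496) (Steps.fwd (nat_lit 8192) Steps.nil)))))))))))))))) (nat_lit 76) (nat_lit 6),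
  Rule.mk (nat_lit 1) (nat_lit 94) (Steps.bwd (nat_lit 8) (Steps.fwd (nat_lit 8192) (Steps.fwd (nat_lit 65536) (Steps.fwd (nat_lit 16384) (Steps.fwd (nat_lit 16384) Steps.nil))))) (nat_lit 83) (nat_lit 3),
  Rule.mk (nat_lit 11) (nat_lit 286) (Steps.bwd (nat_lit 1) (Steps.fwd (nat_lit 90112) (Steps.fwd (nat_lit 8192) (Steps.bwd (nat_lit 10) (Steps.fwd (nat_lit 16384) (Steps.bwd (nat_lit 7) (Steps.bwd (nat_lit 10) (Steps.bwd (nat_lit 3) (Steps.bwd (nat_lit 1) (Steps.fwd (nat_lit 24576) (Steps.fwd (nat_lit 65536) (Steps.fwd (nat_lit 90112) (Steps.bwd (nat_lit 7) (Steps.fwd (nat_lit 73728) (Steps.fwd (nat_lit 24576) (Steps.fwd (nat_lit 24576) (Steps.bwd (nat_lit 2) Steps.nil))))))))))))))))) (nat_lit 57) (nat_lit 4),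
  Rule.mk (nat_lit 8) (nat_lit 126) (Steps.bwd (nat_lit 19) (Steps.bwd (nat_lit 8) (Steps.fwd (nat_lit 16384) (Steps.bwd (nat_lit 1) (Steps.fwd (nat_lit 147456) (Steps.fwd (nat_lit 57344) (Steps.fwd (nat_lit 155648) Steps.nil))))))) (nat_lit 87) (nat_lit 6),
  Rule.mk (nat_lit 1) (nat_lit 94) (Steps.fwd (nat_lit 65536) (Steps.fwd (nat_lit 8192) (Steps.bwd (nat_lit 2) (Steps.bwd (nat_lit 2) (Steps.bwd (nat_lit 8) Steps.nil))))) (nat_lit 82) (nat_lit 2),
  Rule.mk (nat_lit 15) (nat_lit 190) (Steps.bwd (nat_lit 2) (Steps.fwd (nat_lit 139264) (Steps.fwd (nat_lit 98304) (Steps.bwd (nat_lit 9) (Steps.bwd (nat_lit 12) (Steps.bwd (nat_lit 9) (Steps.bwd (nat_lit 13) (Steps.bwd (nat_lit 9) (Steps.fwd (nat_lit 8192) (Steps.fwd (nat_lit 8192) (Steps.bwd (nat_lit 2) Steps.nil))))))))))) (nat_lit 75) (nat_lit 4),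
  Rule.mk (nat_lit 8) (nat_lit 286) (Steps.bwd (nat_lit 11) (Steps.fwd (nat_lit 57344) (Steps.fwd (nat_lit 32768) (Steps.fwd (nat_lit 8192) (Steps.bwd (nat_lit 4) (Steps.fwd (nat_lit 81920) (Steps.bwd (nat_lit 8) (Steps.bwd (nat_lit 2) (Steps.fwd (nat_lit 81920) (Steps.fwd (nat_lit 16384) (Steps.bwd (nat_lit 11) (Steps.fwd (nat_lit 8192) (Steps.bwd (nat_lit 10) (Steps.fwd (nat_lit 16384) (Steps.fwd (nat_lit 32768) (Steps.fwd (nat_lit 32768) (Steps.bwd (nat_lit 9) Steps.nil))))))))))))))))) (nat_lit 56) (nat_lit 2),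
  Rule.mk (nat_lit 4) (nat_lit 110) (Steps.bwd (nat_lit 9) (Steps.fwd (nat_lit 90112) (Steps.fwd (nat_lit 114688) (Steps.fwd (nat_lit 131072) (Steps.bwd (nat_lit 17) (Steps.fwd (nat_lit 73728) Steps.nil)))))) (nat_lit 71) (nat_lit 6),
  Rule.mk (nat_lit 2) (nat_lit 158) (Steps.bwd (nat_lit 9) (Steps.fwd (nat_lit 114688) (Steps.bwd (nat_lit 9) (Steps.bwd (nat_lit 3) (Steps.fwd (nat_lit 32768) (Steps.bwd (nat_lit 1) (Steps.bwd (nat_lit 12) (Steps.fwd (nat_lit 81920) (Steps.bwd (nat_lit 17) Steps.nil))))))))) (nat_lit 63) (nat_lit 7),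
  Rule.mk (nat_lit 13) (nat_lit 190) (Steps.bwd (nat_lit 9) (Steps.bwd (nat_lit 12) (Steps.bwd (nat_lit 17) (Steps.bwd (nat_lit 1) (Steps.fwd (nat_lit 122880) (Steps.fwd (nat_lit 16384) (Steps.bwd (nat_lit 1) (Steps.fwd (nat_lit 16384) (Steps.fwd (nat_lit 73728) (Steps.fwd (nat_lit 106496) (Steps.bwd (nat_lit 9) Steps.nil))))))))))) (nat_lit 74) (nat_lit 4),
  Rule.mk (nat_lit 3) (nat_lit 270) (Steps.bwd (nat_lit 9) (Steps.bwd (nat_lit 8) (Steps.bwd (nat_lit 1) (Steps.bwd (nat_lit 3) (Steps.bwd (nat_lit 3) (Steps.bwd (nat_lit 2) (Steps.fwd (nat_lit 24576) (Steps.fwd (nat_lit 81920) (Steps.fwd (nat_lit 131072) (Steps.bwd (nat_lit 19) (Steps.fwd (nat_lit 16384) (Steps.fwd (nat_lit 73728) (Steps.bwd (nat_lit 1) (Steps.bwd (nat_lit 9) (Steps.bwd (nat_lit 1) (Steps.fwd (nat_lit 98304) Steps.nil)))))))))))))))) (nat_lit 77) (nat_lit 15),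
  Rule.mk (nat_lit 1) (nat_lit 270) (Steps.bwd (nat_lit 9) (Steps.bwd (nat_lit 1) (Steps.fwd (nat_lit 98304) (Steps.bwd (nat_lit 3) (Steps.bwd (nat_lit 9) (Steps.fwd (nat_lit 57344) (Steps.bwd (nat_lit 1) (Steps.fwd (nat_lit 32768) (Steps.fwd (nat_lit 32768) (Steps.fwd (nat_lit 8192) (Steps.bwd (nat_lit 4) (Steps.fwd (nat_lit 81920) (Steps.bwd (nat_lit 17) (Steps.bwd (nat_lit 19) (Steps.fwd (nat_lit 16384) (Steps.fwd (nat_lit 73728) Steps.nil)))))))))))))))) (nat_lit 77) (nat_lit 11),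
  Rule.mk (nat_lit 14) (nat_lit 158) (Steps.fwd (nat_lit 73728) (Steps.bwd (nat_lit 1) (Steps.fwd (nat_lit 139264) (Steps.bwd (nat_lit 10) (Steps.fwd (nat_lit 98304) (Steps.bwd (nat_lit 2) (Steps.fwd (nat_lit 24576) (Steps.bwd (nat_lit 4) (Steps.fwd (nat_lit 73728) Steps.nil))))))))) (nat_lit 62) (nat_lit 2),
  Rule.mk (nat_lit 17) (nat_lit 110) (Steps.bwd (nat_lit 11) (Steps.bwd (nat_lit 14) (Steps.bwd (nat_lit 14) (Steps.bwd (nat_lit 2) (Steps.bwd (nat_lit 14) (Steps.bwd (nat_lit 1) Steps.nil)))))) (nat_lit 44) (nat_lit 4),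
  Rule.mk (nat_lit 9) (nat_lit 110) (Steps.bwd (nat_lit 11) (Steps.bwd (nat_lit 9) (Steps.fwd (nat_lit 32768) (Steps.bwd (nat_lit 14) (Steps.fwd (nat_lit 32768) (Steps.fwd (nat_lit 81920) Steps.nil)))))) (nat_lit 61) (nat_lit 5),
  Rule.mk (nat_lit 1) (nat_lit 142) (Steps.fwd (nat_lit 131072) (Steps.fwd (nat_lit 81920) (Steps.bwd (nat_lit 17) (Steps.bwd (nat_lit 14) (Steps.fwd (nat_lit 106496) (Steps.fwd (nat_lit 81920) (Steps.bwd (nat_lit 2) (Steps.bwd (nat_lit 16) Steps.nil)))))))) (nat_lit 46) (nat_lit 3),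
  Rule.mk (nat_lit 3) (nat_lit 126) (Steps.bwd (nat_lit 1) (Steps.fwd (nat_lit 32768) (Steps.fwd (nat_lit 16384) (Steps.fwd (nat_lit 32768) (Steps.fwd (nat_lit 16384) (Steps.bwd (nat_lit 3) (Steps.bwd (nat_lit 1) Steps.nil))))))) (nat_lit 4) (nat_lit 0),
  Rule.mk (nat_lit 8) (nat_lit 126) (Steps.bwd (nat_lit 1) (Steps.bwd (nat_lit 1) (Steps.bwd (nat_lit 19) (Steps.fwd (nat_lit 57344) (Steps.fwd (nat_lit 155648) (Steps.fwd (nat_lit 57344) (Steps.bwd (nat_lit 19) Steps.nil))))))) (nat_lit 87) (nat_lit 0),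
  Rule.mk (nat_lit 8) (nat_lit 270) (Steps.bwd (nat_lit 1) (Steps.fwd (nat_lit 32768) (Steps.bwd (nat_lit 3) (Steps.fwd (nat_lit 8192) (Steps.bwd (nat_lit 4) (Steps.fwd (nat_lit 81920) (Steps.fwd (nat_lit 131072) (Steps.fwd (nat_lit 147456) (Steps.fwd (nat_lit 16384) (Steps.fwd (nat_lit 73728) (Steps.bwd (nat_lit 1) (Steps.fwd (nat_lit 73728) (Steps.fwd (nat_lit 16384) (Steps.fwd (nat_lit 98304) (Steps.bwd (nat_lit 3) (Steps.bwd (nat_lit 9) Steps.nil)))))))))))))))) (nat_lit 77) (nat_lit 0),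
  Rule.mk (nat_lit 9) (nat_lit 110) (Steps.bwd (nat_lit 11) (Steps.fwd (nat_lit 73728) (Steps.bwd (nat_lit 3) (Steps.fwd (nat_lit 122880) (Steps.fwd (nat_lit 32768) (Steps.bwd (nat_lit 11) Steps.nil)))))) (nat_lit 61) (nat_lit 5),
  Rule.mk (nat_lit 15) (nat_lit 110) (Steps.bwd (nat_lit 16) (Steps.fwd (nat_lit 73728) (Steps.fwd (nat_lit 131072) (Steps.fwd (nat_lit 73728) (Steps.bwd (nat_lit 3) (Steps.bwd (nat_lit 3) Steps.nil)))))) (nat_lit 65) (nat_lit 3),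
  Rule.mk (nat_lit 7) (nat_lit 286) (Steps.bwd (nat_lit 10) (Steps.bwd (nat_lit 7) (Steps.bwd (nat_lit 9) (Steps.fwd (nat_lit 24576) (Steps.fwd (nat_lit 24576) (Steps.bwd (nat_lit 2) (Steps.bwd (nat_lit 11) (Steps.fwd (nat_lit 16384) (Steps.fwd (nat_lit 90112) (Steps.fwd (nat_lit 8192) (Steps.fwd (nat_lit 90112) (Steps.bwd (nat_lit 1) (Steps.fwd (nat_lit 65536) (Steps.bwd (nat_lit 10) (Steps.fwd (nat_lit 32768) (Steps.bwd (nat_lit 1) (Steps.fwd (nat_lit 24576) Steps.nil))))))))))))))))) (nat_lit 57) (nat_lit 15),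
  Rule.mk (nat_lit 8) (nat_lit 158) (Steps.bwd (nat_lit 19) (Steps.fwd (nat_lit 57344) (Steps.fwd (nat_lit 147456) (Steps.bwd (nat_lit 8) (Steps.fwd (nat_lit 147456) (Steps.fwd (nat_lit 57344) (Steps.fwd (nat_lit 147456) (Steps.bwd (nat_lit 8) (Steps.bwd (nat_lit 19) Steps.nil))))))))) (nat_lit 85) (nat_lit 0),
  Rule.mk (nat_lit 1) (nat_lit 126) (Steps.fwd (nat_lit 16384) (Steps.fwd (nat_lit 147456) (Steps.fwd (nat_lit 57344) (Steps.bwd (nat_lit 18) (Steps.bwd (nat_lit 8) (Steps.bwd (nat_lit 19) (Steps.bwd (nat_lit 8) Steps.nil))))))) (nat_lit 87) (nat_lit 1),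
  Rule.mk (nat_lit 18) (nat_lit 126) (Steps.bwd (nat_lit 8) (Steps.fwd (nat_lit 147456) (Steps.bwd (nat_lit 8) (Steps.fwd (nat_lit 16384) (Steps.bwd (nat_lit 1) (Steps.bwd (nat_lit 19) (Steps.bwd (nat_lit 8) Steps.nil))))))) (nat_lit 87) (nat_lit 5),
  Rule.mk (nat_lit 2) (nat_lit 110) (Steps.bwd (nat_lit 14) (Steps.bwd (nat_lit 1) (Steps.bwd (nat_lit 17) (Steps.bwd (nat_lit 11) (Steps.bwd (nat_lit 14) (Steps.bwd (nat_lit 14) Steps.nil)))))) (nat_lit 44) (nat_lit 1),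
  Rule.mk (nat_lit 2) (nat_lit 94) (Steps.fwd (nat_lit 65536) (Steps.bwd (nat_lit 7) (Steps.bwd (nat_lit 2) (Steps.fwd (nat_lit 8192) (Steps.bwd (nat_lit 2) Steps.nil))))) (nat_lit 78) (nat_lit 0),
  Rule.mk (nat_lit 4) (nat_lit 126) (Steps.bwd (nat_lit 14) (Steps.fwd (nat_lit 32768) (Steps.fwd (nat_lit 122880) (Steps.bwd (nat_lit 14) (Steps.fwd (nat_lit 131072) (Steps.bwd (nat_lit 11) (Steps.bwd (nat_lit 11) Steps.nil))))))) (nat_lit 52) (nat_lit 1),
  Rule.mk (nat_lit 2) (nat_lit 286) (Steps.bwd (nat_lit 10) (Steps.fwd (nat_lit 16384) (Steps.fwd (nat_lit 32768) (Steps.bwd (nat_lit 3) (Steps.bwd (nat_lit 9) (Steps.bwd (nat_lit 8) (Steps.bwd (nat_lit 11) (Steps.fwd (nat_lit 57344) (Steps.fwd (nat_lit 32768) (Steps.fwd (nat_lit 8192) (Steps.fwd (nat_lit 24576) (Steps.fwd (nat_lit 81920) (Steps.bwd (nat_lit 8) (Steps.bwd (nat_lit 2) (Steps.fwd (nat_lit 81920) (Steps.bwd (nat_lit 1) (Steps.bwd (nat_lit 11) Steps.nil)))))))))))))))))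 (nat_lit 56) (nat_lit 14),
  Rule.mk (nat_lit 7) (nat_lit 286) (Steps.bwd (nat_lit 10) (Steps.fwd (nat_lit 32768) (Steps.fwd (nat_lit 16384) (Steps.fwd (nat_lit 24576) (Steps.bwd (nat_lit 7) (Steps.bwd (nat_lit 10) (Steps.fwd (nat_lit 65536) (Steps.fwd (nat_lit 73728) (Steps.fwd (nat_lit 24576) (Steps.fwd (nat_lit 24576) (Steps.fwd (nat_lit 8192) (Steps.bwd (nat_lit 11) (Steps.bwd (nat_lit 1) (Steps.bwd (nat_lit 10) (Steps.fwd (nat_lit 8192) (Steps.bwd (nat_lit 10) (Steps.bwd (nat_lit 1) Steps.nil))))))))))))))))) (nat_lit 57) (nat_lit 10),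
  Rule.mk (nat_lit 2) (nat_lit 94) (Steps.bwd (nat_lit 2) (Steps.fwd (nat_lit 8192) (Steps.fwd (nat_lit 57344) (Steps.bwd (nat_lit 1) (Steps.bwd (nat_lit 7) Steps.nil))))) (nat_lit 82) (nat_lit 4),
  Rule.mk (nat_lit 16) (nat_lit 142) (Steps.bwd (nat_lit 2) (Steps.fwd (nat_lit 131072) (Steps.bwd (nat_lit 1) (Steps.bwd (nat_lit 10) (Steps.fwd (nat_lit 98304) (Steps.fwd (nat_lit 114688) (Steps.bwd (nat_lit 16) (Steps.fwd (nat_lit 90112) Steps.nil)))))))) (nat_lit 47) (nat_lit 6),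
  Rule.mk (nat_lit 15) (nat_lit 126) (Steps.bwd (nat_lit 15) (Steps.fwd (nat_lit 24576) (Steps.fwd (nat_lit 114688) (Steps.bwd (nat_lit 3) (Steps.fwd (nat_lit 90112) (Steps.fwd (nat_lit 90112) (Steps.bwd (nat_lit 16) Steps.nil))))))) (nat_lit 53) (nat_lit 4),
  Rule.mk (nat_lit 7) (nat_lit 94) (Steps.fwd (nat_lit 8192) (Steps.fwd (nat_lit 8192) (Steps.fwd (nat_lit 8192) (Steps.fwd (nat_lit 57344) (Steps.bwd (nat_lit 1) Steps.nil))))) (nat_lit 82) (nat_lit 3),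
  Rule.mk (nat_lit 19) (nat_lit 94) (Steps.bwd (nat_lit 15) (Steps.fwd (nat_lit 81920) (Steps.bwd (nat_lit 14) (Steps.fwd (nat_lit 90112) (Steps.bwd (nat_lit 19) Steps.nil))))) (nat_lit 33) (nat_lit 2),
  Rule.mk (nat_lit 17) (nat_lit 142) (Steps.fwd (nat_lit 16384) (Steps.fwd (nat_lit 90112) (Steps.fwd (nat_lit 98304) (Steps.bwd (nat_lit 15) (Steps.fwd (nat_lit 139264) (Steps.fwd (nat_lit 90112) (Steps.bwd (nat_lit 16) (Steps.bwd (nat_lit 2) Steps.nil)))))))) (nat_lit 47) (nat_lit 8),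
  Rule.mk (nat_lit 9) (nat_lit 206) (Steps.fwd (nat_lit 16384) (Steps.fwd (nat_lit 32768) (Steps.fwd (nat_lit 32768) (Steps.bwd (nat_lit 1) (Steps.fwd (nat_lit 24576) (Steps.bwd (nat_lit 1) (Steps.fwd (nat_lit 90112) (Steps.bwd (nat_lit 18) (Steps.fwd (nat_lit 131072) (Steps.bwd (nat_lit 9) (Steps.fwd (nat_lit 8192) (Steps.bwd (nat_lit 2) Steps.nil)))))))))))) (nat_lit 69) (nat_lit 0),
  Rule.mk (nat_lit 4) (nat_lit 286) (Steps.bwd (nat_lit 11) (Steps.fwd (nat_lit 57344) (Steps.bwd (nat_lit 2) (Steps.fwd (nat_lit 81920) (Steps.fwd (nat_lit 16384) (Steps.bwd (nat_lit 11) (Steps.fwd (nat_lit 8192) (Steps.bwd (nat_lit 10) (Steps.bwd (nat_lit 1) (Steps.fwd (nat_lit 32768) (Steps.fwd (nat_lit 32768) (Steps.bwd (nat_lit 9) (Steps.fwd (nat_lit 57344) (Steps.fwd (nat_lit 81920) (Steps.bwd (nat_lit 8) (Steps.fwd (nat_lit 32768) (Steps.bwd (nat_lit 2) Steps.nil))))))))))))))))) (nat_lit 56) (nat_lit 7),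
  Rule.mk (nat_lit 10) (nat_lit 286) (Steps.bwd (nat_lit 3) (Steps.fwd (nat_lit 16384) (Steps.bwd (nat_lit 4) (Steps.fwd (nat_lit 65536) (Steps.bwd (nat_lit 10) (Steps.fwd (nat_lit 65536) (Steps.bwd (nat_lit 9) (Steps.fwd (nat_lit 24576) (Steps.fwd (nat_lit 24576) (Steps.fwd (nat_lit 8192) (Steps.bwd (nat_lit 11) (Steps.bwd (nat_lit 1) (Steps.bwd (nat_lit 10) (Steps.bwd (nat_lit 2) (Steps.bwd (nat_lit 10) (Steps.bwd (nat_lit 1) (Steps.bwd (nat_lit 7) Steps.nil))))))))))))))))) (nat_lit 57) (nat_lit 11),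
  Rule.mk (nat_lit 4) (nat_lit 126) (Steps.bwd (nat_lit 15) (Steps.fwd (nat_lit 32768) (Steps.bwd (nat_lit 10) (Steps.fwd (nat_lit 90112) (Steps.fwd (nat_lit 139264) (Steps.fwd (nat_lit 114688) (Steps.bwd (nat_lit 15) Steps.nil))))))) (nat_lit 53) (nat_lit 6),
  Rule.mk (nat_lit 11) (nat_lit 110) (Steps.fwd (nat_lit 122880) (Steps.fwd (nat_lit 122880) (Steps.bwd (nat_lit 2) (Steps.fwd (nat_lit 122880) (Steps.fwd (nat_lit 16384) (Steps.bwd (nat_lit 17) Steps.nil)))))) (nat_lit 44) (nat_lit 5),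
  Rule.mk (nat_lit 2) (nat_lit 286) (Steps.bwd (nat_lit 11) (Steps.fwd (nat_lit 16384) (Steps.bwd (nat_lit 11) (Steps.bwd (nat_lit 2) (Steps.bwd (nat_lit 10) (Steps.bwd (nat_lit 1) (Steps.fwd (nat_lit 32768) (Steps.bwd (nat_lit 3) (Steps.bwd (nat_lit 9) (Steps.fwd (nat_lit 57344) (Steps.fwd (nat_lit 81920) (Steps.fwd (nat_lit 57344) (Steps.fwd (nat_lit 32768) (Steps.fwd (nat_lit 8192) (Steps.fwd (nat_lit 24576) (Steps.bwd (nat_lit 11) (Steps.bwd (nat_lit 8) Steps.nil))))))))))))))))) (nat_lit 56) (nat_lit 10),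
  Rule.mk (nat_lit 1) (nat_lit 110) (Steps.bwd (nat_lit 17) (Steps.bwd (nat_lit 11) (Steps.fwd (nat_lit 122880) (Steps.bwd (nat_lit 14) (Steps.fwd (nat_lit 8192) (Steps.bwd (nat_lit 14) Steps.nil)))))) (nat_lit 44) (nat_lit 3),
  Rule.mk (nat_lit 14) (nat_lit 126) (Steps.bwd (nat_lit 17) (Steps.bwd (nat_lit 11) (Steps.bwd (nat_lit 11) (Steps.bwd (nat_lit 4) (Steps.fwd (nat_lit 122880) (Steps.fwd (nat_lit 32768) (Steps.bwd (nat_lit 14) Steps.nil))))))) (nat_lit 52) (nat_lit 5),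
  Rule.mk (nat_lit 2) (nat_lit 142) (Steps.bwd (nat_lit 17) (Steps.fwd (nat_lit 16384) (Steps.fwd (nat_lit 90112) (Steps.fwd (nat_lit 98304) (Steps.fwd (nat_lit 114688) (Steps.fwd (nat_lit 139264) (Steps.fwd (nat_lit 90112) (Steps.fwd (nat_lit 139264) Steps.nil)))))))) (nat_lit 47) (nat_lit 7),
  Rule.mk (nat_lit 4) (nat_lit 126) (Steps.bwd (nat_lit 13) (Steps.fwd (nat_lit 32768) (Steps.bwd (nat_lit 12) (Steps.fwd (nat_lit 122880) (Steps.bwd (nat_lit 17) (Steps.fwd (nat_lit 81920) (Steps.fwd (nat_lit 131072) Steps.nil))))))) (nat_lit 51) (nat_lit 6),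
  Rule.mk (nat_lit 10) (nat_lit 142) (Steps.bwd (nat_lit 13) (Steps.fwd (nat_lit 114688) (Steps.bwd (nat_lit 16) (Steps.bwd (nat_lit 10) (Steps.fwd (nat_lit 139264) (Steps.bwd (nat_lit 2) (Steps.fwd (nat_lit 131072) (Steps.bwd (nat_lit 1) Steps.nil)))))))) (nat_lit 47) (nat_lit 1),
  Rule.mk (nat_lit 9) (nat_lit 110) (Steps.fwd (nat_lit 90112) (Steps.bwd (nat_lit 4) (Steps.bwd (nat_lit 15) (Steps.fwd (nat_lit 24576) (Steps.fwd (nat_lit 73728) (Steps.bwd (nat_lit 10) Steps.nil)))))) (nat_lit 60) (nat_lit 3),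
  Rule.mk (nat_lit 7) (nat_lit 270) (Steps.fwd (nat_lit 73728) (Steps.bwd (nat_lit 4) (Steps.fwd (nat_lit 106496) (Steps.bwd (nat_lit 2) (Steps.fwd (nat_lit 73728) (Steps.bwd (nat_lit 2) (Steps.fwd (nat_lit 73728) (Steps.bwd (nat_lit 2) (Steps.fwd (nat_lit 155648) (Steps.fwd (nat_lit 139264) (Steps.fwd (nat_lit 90112) (Steps.bwd (nat_lit 3) (Steps.bwd (nat_lit 1) (Steps.fwd (nat_lit 24576) (Steps.fwd (nat_lit 24576) (Steps.bwd (nat_lit 2) Steps.nil)))))))))))))))) (nat_lit 76) (nat_lit 1),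
  Rule.mk (nat_lit 17) (nat_lit 142) (Steps.bwd (nat_lit 1) (Steps.fwd (nat_lit 90112) (Steps.bwd (nat_lit 13) (Steps.bwd (nat_lit 15) (Steps.fwd (nat_lit 139264) (Steps.fwd (nat_lit 90112) (Steps.bwd (nat_lit 16) (Steps.fwd (nat_lit 8192) Steps.nil)))))))) (nat_lit 47) (nat_lit 8),
  Rule.mk (nat_lit 3) (nat_lit 158) (Steps.bwd (nat_lit 1) (Steps.bwd (nat_lit 12) (Steps.fwd (nat_lit 81920) (Steps.bwd (nat_lit 17) (Steps.fwd (nat_lit 8192) (Steps.fwd (nat_lit 73728) (Steps.bwd (nat_lit 15) (Steps.fwd (nat_lit 73728) (Steps.bwd (nat_lit 3) Steps.nil))))))))) (nat_lit 63) (nat_lit 2)]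
noncomputable def R_112 : List (Rule) := [Rule.mk (nat_lit 9) (nat_lit 206) (Steps.bwd (nat_lit 1) (Steps.fwd (nat_lit 32768) (Steps.bwd (nat_lit 3) (Steps.bwd (nat_lit 1) (Steps.fwd (nat_lit 24576) (Steps.bwd (nat_lit 1) (Steps.fwd (nat_lit 90112) (Steps.bwd (nat_lit 18) (Steps.bwd (nat_lit 17) (Steps.fwd (nat_lit 73728) (Steps.bwd (nat_lit 2) (Steps.fwd (nat_lit 8192) Steps.nil)))))))))))) (nat_lit 69) (nat_lit 0),
  Rule.mk (nat_lit 11) (nat_lit 286) (Steps.bwd (nat_lit 1) (Steps.fwd (nat_lit 81920) (Steps.fwd (nat_lit 8192) (Steps.fwd (nat_lit 90112) (Steps.fwd (nat_lit 16384) (Steps.fwd (nat_lit 32768) (Steps.bwd (nat_lit 3) (Steps.fwd (nat_lit 73728) (Steps.fwd (nat_lit 57344) (Steps.bwd (nat_lit 11) (Steps.bwd (nat_lit 8) (Steps.fwd (nat_lit 32768) (Steps.bwd (nat_lit 2) (Steps.fwd (nat_lit 24576) (Steps.bwd (nat_lit 11) (Steps.fwd (nat_lit 57344) (Steps.bwd (nat_lit 2) Steps.nil))))))))))))))))) (nat_lit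 56) (nat_lit 11),
  Rule.mk (nat_lit 4) (nat_lit 286) (Steps.bwd (nat_lit 11) (Steps.fwd (nat_lit 57344) (Steps.bwd (nat_lit 2) (Steps.bwd (nat_lit 11) (Steps.bwd (nat_lit 1) (Steps.fwd (nat_lit 81920) (Steps.bwd (nat_lit 2) (Steps.fwd (nat_lit 90112) (Steps.bwd (nat_lit 1) (Steps.bwd (nat_lit 3) (Steps.fwd (nat_lit 32768) (Steps.bwd (nat_lit 9) (Steps.bwd (nat_lit 8) (Steps.bwd (nat_lit 11) (Steps.bwd (nat_lit 8) (Steps.fwd (nat_lit 32768) (Steps.bwd (nat_lit 2) Steps.nil))))))))))))))))) (nat_lit 56) (nat_lit 7),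
  Rule.mk (nat_lit 7) (nat_lit 286) (Steps.fwd (nat_lit 73728) (Steps.bwd (nat_lit 4) (Steps.bwd (nat_lit 4) (Steps.bwd (nat_lit 2) (Steps.bwd (nat_lit 11) (Steps.bwd (nat_lit 1) (Steps.bwd (nat_lit 10) (Steps.bwd (nat_lit 2) (Steps.fwd (nat_lit 90112) (Steps.fwd (nat_lit 16384) (Steps.bwd (nat_lit 7) (Steps.fwd (nat_lit 90112) (Steps.fwd (nat_lit 32768) (Steps.fwd (nat_lit 16384) (Steps.bwd (nat_lit 4) (Steps.bwd (nat_lit 7) (Steps.fwd (nat_lit 90112) Steps.nil))))))))))))))))) (nat_lit 57) (nat_lit 17),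
  Rule.mk (nat_lit 8) (nat_lit 126) (Steps.bwd (nat_lit 1) (Steps.bwd (nat_lit 1) (Steps.fwd (nat_lit 147456) (Steps.fwd (nat_lit 57344) (Steps.fwd (nat_lit 155648) (Steps.bwd (nat_lit 8) (Steps.fwd (nat_lit 147456) Steps.nil))))))) (nat_lit 87) (nat_lit 0),
  Rule.mk (nat_lit 9) (nat_lit 206) (Steps.bwd (nat_lit 1) (Steps.bwd (nat_lit 1) (Steps.fwd (nat_lit 73728) (Steps.bwd (nat_lit 16) (Steps.bwd (nat_lit 19) (Steps.bwd (nat_lit 11) (Steps.bwd (nat_lit 2) (Steps.fwd (nat_lit 32768) (Steps.bwd (nat_lit 2) (Steps.fwd (nat_lit 24576) (Steps.bwd (nat_lit 4) (Steps.bwd (nat_lit 2) Steps.nil)))))))))))) (nat_lit 68) (nat_lit 1),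
  Rule.mk (nat_lit 11) (nat_lit 286) (Steps.bwd (nat_lit 8) (Steps.fwd (nat_lit 32768) (Steps.fwd (nat_lit 8192) (Steps.bwd (nat_lit 4) (Steps.bwd (nat_lit 11) (Steps.bwd (nat_lit 8) (Steps.fwd (nat_lit 8192) (Steps.bwd (nat_lit 11) (Steps.fwd (nat_lit 16384) (Steps.bwd (nat_lit 11) (Steps.bwd (nat_lit 2) (Steps.bwd (nat_lit 10) (Steps.fwd (nat_lit 16384) (Steps.fwd (nat_lit 32768) (Steps.bwd (nat_lit 3) (Steps.bwd (nat_lit 9) (Steps.fwd (nat_lit 57344) Steps.nil))))))))))))))))) (nat_lit 56) (nat_lit 3),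
  Rule.mk (nat_lit 15) (nat_lit 94) (Steps.fwd (nat_lit 90112) (Steps.bwd (nat_lit 14) (Steps.fwd (nat_lit 155648) (Steps.fwd (nat_lit 155648) (Steps.bwd (nat_lit 11) Steps.nil))))) (nat_lit 32) (nat_lit 2),
  Rule.mk (nat_lit 2) (nat_lit 158) (Steps.bwd (nat_lit 9) (Steps.bwd (nat_lit 15) (Steps.bwd (nat_lit 9) (Steps.bwd (nat_lit 3) (Steps.bwd (nat_lit 3) (Steps.fwd (nat_lit 16384) (Steps.bwd (nat_lit 12) (Steps.fwd (nat_lit 81920) (Steps.fwd (nat_lit 131072) Steps.nil))))))))) (nat_lit 63) (nat_lit 7),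
  Rule.mk (nat_lit 10) (nat_lit 158) (Steps.bwd (nat_lit 13) (Steps.bwd (nat_lit 2) (Steps.bwd (nat_lit 4) (Steps.fwd (nat_lit 24576) (Steps.fwd (nat_lit 73728) (Steps.fwd (nat_lit 122880) (Steps.bwd (nat_lit 9) (Steps.fwd (nat_lit 16384) (Steps.bwd (nat_lit 16) Steps.nil))))))))) (nat_lit 62) (nat_lit 6),
  Rule.mk (nat_lit 9) (nat_lit 190) (Steps.bwd (nat_lit 13) (Steps.bwd (nat_lit 9) (Steps.fwd (nat_lit 106496) (Steps.bwd (nat_lit 17) (Steps.bwd (nat_lit 1) (Steps.bwd (nat_lit 14) (Steps.bwd (nat_lit 1) (Steps.bwd (nat_lit 1) (Steps.bwd (nat_lit 1) (Steps.fwd (nat_lit 73728) (Steps.bwd (nat_lit 12) Steps.nil))))))))))) (nat_lit 74) (nat_lit 3),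
  Rule.mk (nat_lit 8) (nat_lit 270) (Steps.fwd (nat_lit 16384) (Steps.bwd (nat_lit 3) (Steps.fwd (nat_lit 32768) (Steps.bwd (nat_lit 2) (Steps.bwd (nat_lit 4) (Steps.fwd (nat_lit 81920) (Steps.fwd (nat_lit 131072) (Steps.fwd (nat_lit 147456) (Steps.fwd (nat_lit 16384) (Steps.fwd (nat_lit 73728) (Steps.bwd (nat_lit 1) (Steps.bwd (nat_lit 9) (Steps.fwd (nat_lit 16384) (Steps.fwd (nat_lit 98304) (Steps.bwd (nat_lit 3) (Steps.bwd (nat_lit 9) Steps.nil)))))))))))))))) (nat_lit 77) (nat_lit 0),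
  Rule.mk (nat_lit 4) (nat_lit 94) (Steps.bwd (nat_lit 1) (Steps.bwd (nat_lit 1) (Steps.bwd (nat_lit 3) (Steps.bwd (nat_lit 2) (Steps.fwd (nat_lit 8192) Steps.nil))))) (nat_lit 6) (nat_lit 3),
  Rule.mk (nat_lit 16) (nat_lit 142) (Steps.bwd (nat_lit 1) (Steps.fwd (nat_lit 131072) (Steps.bwd (nat_lit 11) (Steps.fwd (nat_lit 131072) (Steps.fwd (nat_lit 122880) (Steps.bwd (nat_lit 12) (Steps.fwd (nat_lit 81920) (Steps.fwd (nat_lit 8192) Steps.nil)))))))) (nat_lit 46) (nat_lit 2),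
  Rule.mk (nat_lit 9) (nat_lit 270) (Steps.bwd (nat_lit 1) (Steps.fwd (nat_lit 98304) (Steps.fwd (nat_lit 32768) (Steps.bwd (nat_lit 9) (Steps.bwd (nat_lit 8) (Steps.bwd (nat_lit 1) (Steps.bwd (nat_lit 3) (Steps.fwd (nat_lit 32768) (Steps.bwd (nat_lit 2) (Steps.bwd (nat_lit 4) (Steps.bwd (nat_lit 11) (Steps.bwd (nat_lit 17) (Steps.bwd (nat_lit 19) (Steps.fwd (nat_lit 16384) (Steps.fwd (nat_lit 73728) (Steps.bwd (nat_lit 1) Steps.nil)))))))))))))))) (nat_lit 77) (nat_lit 12),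
  Rule.mk (nat_lit 10) (nat_lit 286) (Steps.bwd (nat_lit 1) (Steps.fwd (nat_lit 32768) (Steps.fwd (nat_lit 32768) (Steps.bwd (nat_lit 9) (Steps.bwd (nat_lit 8) (Steps.bwd (nat_lit 11) (Steps.bwd (nat_lit 8) (Steps.fwd (nat_lit 32768) (Steps.fwd (nat_lit 8192) (Steps.bwd (nat_lit 4) (Steps.bwd (nat_lit 11) (Steps.fwd (nat_lit 57344) (Steps.bwd (nat_lit 2) (Steps.bwd (nat_lit 11) (Steps.bwd (nat_lit 1) (Steps.bwd (nat_lit 11) (Steps.bwd (nat_lit 2) Steps.nil))))))))))))))))) (nat_lit 56) (nat_lit 15),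
  Rule.mk (nat_lit 11) (nat_lit 286) (Steps.bwd (nat_lit 1) (Steps.bwd (nat_lit 10) (Steps.bwd (nat_lit 2) (Steps.fwd (nat_lit 90112) (Steps.fwd (nat_lit 16384) (Steps.bwd (nat_lit 7) (Steps.bwd (nat_lit 10) (Steps.bwd (nat_lit 3) (Steps.fwd (nat_lit 16384) (Steps.bwd (nat_lit 4) (Steps.fwd (nat_lit 65536) (Steps.fwd (nat_lit 90112) (Steps.fwd (nat_lit 65536) (Steps.fwd (nat_lit 73728) (Steps.bwd (nat_lit 4) (Steps.bwd (nat_lit 4) (Steps.fwd (nat_lit 8192) Steps.nil))))))))))))))))) (nat_lit 57) (nat_lit 4),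
  Rule.mk (nat_lit 7) (nat_lit 158) (Steps.bwd (nat_lit 18) (Steps.fwd (nat_lit 65536) (Steps.fwd (nat_lit 155648) (Steps.fwd (nat_lit 65536) (Steps.bwd (nat_lit 18) (Steps.bwd (nat_lit 7) (Steps.fwd (nat_lit 155648) (Steps.bwd (nat_lit 7) (Steps.fwd (nat_lit 155648) Steps.nil))))))))) (nat_lit 84) (nat_lit 1),
  Rule.mk (nat_lit 9) (nat_lit 286) (Steps.bwd (nat_lit 4) (Steps.bwd (nat_lit 4) (Steps.fwd (nat_lit 8192) (Steps.fwd (nat_lit 81920) (Steps.bwd (nat_lit 1) (Steps.bwd (nat_lit 10) (Steps.bwd (nat_lit 2) (Steps.bwd (nat_lit 10) (Steps.fwd (nat_lit 16384) (Steps.fwd (nat_lit 65536) (Steps.fwd (nat_lit 90112) (Steps.bwd (nat_lit 3) (Steps.fwd (nat_lit 16384) (Steps.bwd (nat_lit 4) (Steps.fwd (nat_lit 65536) (Steps.fwd (nat_lit 90112) (Steps.bwd (nat_lit 7) Steps.nil))))))))))))))))) (nat_lit 57) (nat_lit 0),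
  Rule.mk (nat_lit 17) (nat_lit 126) (Steps.bwd (nat_lit 4) (Steps.fwd (nat_lit 98304) (Steps.fwd (nat_lit 32768) (Steps.bwd (nat_lit 12) (Steps.fwd (nat_lit 122880) (Steps.bwd (nat_lit 17) (Steps.fwd (nat_lit 81920) Steps.nil))))))) (nat_lit 51) (nat_lit 5),
  Rule.mk (nat_lit 11) (nat_lit 126) (Steps.bwd (nat_lit 4) (Steps.fwd (nat_lit 122880) (Steps.bwd (nat_lit 3) (Steps.bwd (nat_lit 14) (Steps.fwd (nat_lit 122880) (Steps.bwd (nat_lit 17) (Steps.fwd (nat_lit 81920) Steps.nil))))))) (nat_lit 52) (nat_lit 0),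
  Rule.mk (nat_lit 1) (nat_lit 206) (Steps.bwd (nat_lit 4) (Steps.fwd (nat_lit 16384) (Steps.bwd (nat_lit 10) (Steps.fwd (nat_lit 155648) (Steps.bwd (nat_lit 17) (Steps.bwd (nat_lit 9) (Steps.fwd (nat_lit 8192) (Steps.bwd (nat_lit 2) (Steps.fwd (nat_lit 73728) (Steps.bwd (nat_lit 1) (Steps.bwd (nat_lit 3) (Steps.bwd (nat_lit 3) Steps.nil)))))))))))) (nat_lit 69) (nat_lit 4),
  Rule.mk (nat_lit 17) (nat_lit 110) (Steps.bwd (nat_lit 11) (Steps.fwd (nat_lit 122880) (Steps.bwd (nat_lit 14) (Steps.bwd (nat_lit 2) (Steps.fwd (nat_lit 122880) (Steps.bwd (nat_lit 1) Steps.nil)))))) (nat_lit 44) (nat_lit 4),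
  Rule.mk (nat_lit 9) (nat_lit 110) (Steps.bwd (nat_lit 17) (Steps.bwd (nat_lit 9) (Steps.fwd (nat_lit 32768) (Steps.fwd (nat_lit 32768) (Steps.fwd (nat_lit 114688) (Steps.fwd (nat_lit 139264) Steps.nil)))))) (nat_lit 65) (nat_lit 5),
  Rule.mk (nat_lit 9) (nat_lit 110) (Steps.fwd (nat_lit 139264) (Steps.fwd (nat_lit 73728) (Steps.bwd (nat_lit 17) (Steps.bwd (nat_lit 14) (Steps.bwd (nat_lit 4) (Steps.bwd (nat_lit 4) Steps.nil)))))) (nat_lit 64) (nat_lit 1),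
  Rule.mk (nat_lit 1) (nat_lit 126) (Steps.bwd (nat_lit 3) (Steps.bwd (nat_lit 1) (Steps.fwd (nat_lit 32768) (Steps.fwd (nat_lit 16384) (Steps.bwd (nat_lit 3) (Steps.bwd (nat_lit 1) (Steps.fwd (nat_lit 32768) Steps.nil))))))) (nat_lit 4) (nat_lit 1),
  Rule.mk (nat_lit 9) (nat_lit 206) (Steps.fwd (nat_lit 16384) (Steps.fwd (nat_lit 16384) (Steps.fwd (nat_lit 73728) (Steps.fwd (nat_lit 139264) (Steps.bwd (nat_lit 19) (Steps.bwd (nat_lit 11) (Steps.fwd (nat_lit 8192) (Steps.fwd (nat_lit 32768) (Steps.bwd (nat_lit 2) (Steps.bwd (nat_lit 4) (Steps.fwd (nat_lit 24576) (Steps.bwd (nat_lit 2) Steps.nil)))))))))))) (nat_lit 68) (nat_lit 1),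
  Rule.mk (nat_lit 14) (nat_lit 190) (Steps.bwd (nat_lit 1) (Steps.bwd (nat_lit 1) (Steps.fwd (nat_lit 16384) (Steps.bwd (nat_lit 9) (Steps.bwd (nat_lit 12) (Steps.fwd (nat_lit 73728) (Steps.fwd (nat_lit 98304) (Steps.fwd (nat_lit 73728) (Steps.fwd (nat_lit 106496) (Steps.fwd (nat_lit 131072) (Steps.bwd (nat_lit 1) Steps.nil))))))))))) (nat_lit 74) (nat_lit 9),
  Rule.mk (nat_lit 19) (nat_lit 126) (Steps.bwd (nat_lit 8) (Steps.bwd (nat_lit 1) (Steps.bwd (nat_lit 1) (Steps.bwd (nat_lit 19) (Steps.fwd (nat_lit 57344) (Steps.bwd (nat_lit 18) (Steps.bwd (nat_lit 8) Steps.nil))))))) (nat_lit 87) (nat_lit 7),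
  Rule.mk (nat_lit 18) (nat_lit 126) (Steps.bwd (nat_lit 8) (Steps.fwd (nat_lit 147456) (Steps.bwd (nat_lit 8) (Steps.bwd (nat_lit 1) (Steps.bwd (nat_lit 1) (Steps.fwd (nat_lit 147456) (Steps.fwd (nat_lit 57344) Steps.nil))))))) (nat_lit 87) (nat_lit 5),
  Rule.mk (nat_lit 9) (nat_lit 286) (Steps.bwd (nat_lit 8) (Steps.fwd (nat_lit 81920) (Steps.bwd (nat_lit 8) (Steps.fwd (nat_lit 32768) (Steps.fwd (nat_lit 8192) (Steps.bwd (nat_lit 4) (Steps.bwd (nat_lit 11) (Steps.bwd (nat_lit 8) (Steps.fwd (nat_lit 8192) (Steps.bwd (nat_lit 11) (Steps.fwd (nat_lit 16384) (Steps.bwd (nat_lit 11) (Steps.bwd (nat_lit 2) (Steps.fwd (nat_lit 90112) (Steps.bwd (nat_lit 1) (Steps.fwd (nat_lit 32768) (Steps.fwd (nat_lit 32768) Steps.nil))))))))))))))))) (nat_lit 56) (nat_lit 1),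
  Rule.mk (nat_lit 10) (nat_lit 110) (Steps.fwd (nat_lit 73728) (Steps.fwd (nat_lit 90112) (Steps.bwd (nat_lit 4) (Steps.bwd (nat_lit 15) (Steps.bwd (nat_lit 4) (Steps.bwd (nat_lit 9) Steps.nil)))))) (nat_lit 60) (nat_lit 2),
  Rule.mk (nat_lit 4) (nat_lit 110) (Steps.bwd (nat_lit 9) (Steps.bwd (nat_lit 10) (Steps.fwd (nat_lit 114688) (Steps.fwd (nat_lit 131072) (Steps.fwd (nat_lit 131072) (Steps.bwd (nat_lit 9) Steps.nil)))))) (nat_lit 71) (nat_lit 6),
  Rule.mk (nat_lit 13) (nat_lit 190) (Steps.bwd (nat_lit 9) (Steps.fwd (nat_lit 8192) (Steps.fwd (nat_lit 8192) (Steps.fwd (nat_lit 8192) (Steps.fwd (nat_lit 114688) (Steps.bwd (nat_lit 2) (Steps.bwd (nat_lit 16) (Steps.fwd (nat_lit 98304) (Steps.fwd (nat_lit 73728) (Steps.bwd (nat_lit 12) (Steps.bwd (nat_lit 9) Steps.nil))))))))))) (nat_lit 75) (nat_lit 11),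
  Rule.mk (nat_lit 2) (nat_lit 206) (Steps.fwd (nat_lit 32768) (Steps.fwd (nat_lit 8192) (Steps.fwd (nat_lit 24576) (Steps.fwd (nat_lit 24576) (Steps.fwd (nat_lit 8192) (Steps.fwd (nat_lit 73728) (Steps.bwd (nat_lit 1) (Steps.fwd (nat_lit 16384) (Steps.bwd (nat_lit 10) (Steps.bwd (nat_lit 18) (Steps.fwd (nat_lit 131072) (Steps.bwd (nat_lit 9) Steps.nil)))))))))))) (nat_lit 73) (nat_lit 7),
  Rule.mk (nat_lit 1) (nat_lit 270) (Steps.fwd (nat_lit 98304) (Steps.fwd (nat_lit 32768) (Steps.bwd (nat_lit 9) (Steps.fwd (nat_lit 57344) (Steps.fwd (nat_lit 16384) (Steps.bwd (nat_lit 3) (Steps.fwd (nat_lit 32768) (Steps.fwd (nat_lit 8192) (Steps.bwd (nat_lit 4) (Steps.fwd (nat_lit 81920) (Steps.fwd (nat_lit 131072) (Steps.fwd (nat_lit 147456) (Steps.bwd (nat_lit 1) (Steps.bwd (nat_lit 9) (Steps.fwd (nat_lit 16384) (Steps.bwd (nat_lit 9) Steps.nil)))))))))))))))) (nat_lit 77) (nat_lit 13),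
  Rule.mk (nat_lit 14) (nat_lit 110) (Steps.bwd (nat_lit 3) (Steps.bwd (nat_lit 11) (Steps.fwd (nat_lit 73728) (Steps.bwd (nat_lit 11) (Steps.bwd (nat_lit 9) (Steps.fwd (nat_lit 32768) Steps.nil)))))) (nat_lit 61) (nat_lit 2),
  Rule.mk (nat_lit 10) (nat_lit 286) (Steps.bwd (nat_lit 3) (Steps.fwd (nat_lit 16384) (Steps.bwd (nat_lit 4) (Steps.bwd (nat_lit 7) (Steps.fwd (nat_lit 90112) (Steps.fwd (nat_lit 65536) (Steps.bwd (nat_lit 9) (Steps.fwd (nat_lit 24576) (Steps.bwd (nat_lit 4) (Steps.fwd (nat_lit 8192) (Steps.bwd (nat_lit 11) (Steps.fwd (nat_lit 16384) (Steps.fwd (nat_lit 90112) (Steps.fwd (nat_lit 8192) (Steps.fwd (nat_lit 90112) (Steps.fwd (nat_lit 16384) (Steps.bwd (nat_lit 7) Steps.nil))))))))))))))))) (nat_lit 57) (nat_lit 11),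
  Rule.mk (nat_lit 16) (nat_lit 142) (Steps.bwd (nat_lit 1) (Steps.fwd (nat_lit 131072) (Steps.bwd (nat_lit 11) (Steps.bwd (nat_lit 17) (Steps.fwd (nat_lit 122880) (Steps.fwd (nat_lit 106496) (Steps.fwd (nat_lit 81920) (Steps.bwd (nat_lit 2) Steps.nil)))))))) (nat_lit 46) (nat_lit 2),
  Rule.mk (nat_lit 17) (nat_lit 190) (Steps.bwd (nat_lit 1) (Steps.fwd (nat_lit 122880) (Steps.bwd (nat_lit 1) (Steps.fwd (nat_lit 16384) (Steps.bwd (nat_lit 1) (Steps.bwd (nat_lit 9) (Steps.bwd (nat_lit 12) (Steps.fwd (nat_lit 73728) (Steps.bwd (nat_lit 13) (Steps.bwd (nat_lit 9) (Steps.fwd (nat_lit 106496) Steps.nil))))))))))) (nat_lit 74) (nat_lit 7),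
  Rule.mk (nat_lit 11) (nat_lit 286) (Steps.bwd (nat_lit 1) (Steps.fwd (nat_lit 81920) (Steps.fwd (nat_lit 8192) (Steps.fwd (nat_lit 90112) (Steps.fwd (nat_lit 16384) (Steps.fwd (nat_lit 32768) (Steps.fwd (nat_lit 32768) (Steps.fwd (nat_lit 73728) (Steps.fwd (nat_lit 57344) (Steps.fwd (nat_lit 81920) (Steps.fwd (nat_lit 57344) (Steps.fwd (nat_lit 32768) (Steps.fwd (nat_lit 8192) (Steps.bwd (nat_lit 4) (Steps.bwd (nat_lit 11) (Steps.bwd (nat_lit 8) (Steps.bwd (nat_lit 2) Steps.nil))))))))))))))))) (nat_lit 56) (nat_lit 11),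
  Rule.mk (nat_lit 19) (nat_lit 126) (Steps.bwd (nat_lit 8) (Steps.bwd (nat_lit 1) (Steps.bwd (nat_lit 1) (Steps.bwd (nat_lit 19) (Steps.bwd (nat_lit 8) (Steps.fwd (nat_lit 155648) (Steps.fwd (nat_lit 57344) Steps.nil))))))) (nat_lit 87) (nat_lit 7),
  Rule.mk (nat_lit 9) (nat_lit 270) (Steps.bwd (nat_lit 8) (Steps.bwd (nat_lit 1) (Steps.fwd (nat_lit 32768) (Steps.bwd (nat_lit 3) (Steps.bwd (nat_lit 2) (Steps.bwd (nat_lit 4) (Steps.bwd (nat_lit 11) (Steps.fwd (nat_lit 131072) (Steps.bwd (nat_lit 19) (Steps.fwd (nat_lit 16384) (Steps.fwd (nat_lit 73728) (Steps.fwd (nat_lit 16384) (Steps.fwd (nat_lit 73728) (Steps.bwd (nat_lit 1) (Steps.bwd (nat_lit 13) (Steps.fwd (nat_lit 32768) Steps.nil)))))))))))))))) (nat_lit 77) (nat_lit 16),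
  Rule.mk (nat_lit 14) (nat_lit 158) (Steps.bwd (nat_lit 9) (Steps.fwd (nat_lit 16384) (Steps.bwd (nat_lit 16) (Steps.bwd (nat_lit 10) (Steps.fwd (nat_lit 98304) (Steps.fwd (nat_lit 8192) (Steps.fwd (nat_lit 24576) (Steps.fwd (nat_lit 24576) (Steps.bwd (nat_lit 9) Steps.nil))))))))) (nat_lit 62) (nat_lit 2),
  Rule.mk (nat_lit 13) (nat_lit 190) (Steps.bwd (nat_lit 9) (Steps.fwd (nat_lit 106496) (Steps.bwd (nat_lit 17) (Steps.bwd (nat_lit 1) (Steps.bwd (nat_lit 14) (Steps.bwd (nat_lit 1) (Steps.bwd (nat_lit 1) (Steps.fwd (nat_lit 16384) (Steps.bwd (nat_lit 9) (Steps.fwd (nat_lit 106496) (Steps.bwd (nat_lit 9) Steps.nil))))))))))) (nat_lit 74) (nat_lit 4),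
  Rule.mk (nat_lit 12) (nat_lit 190) (Steps.fwd (nat_lit 73728) (Steps.bwd (nat_lit 13) (Steps.bwd (nat_lit 9) (Steps.bwd (nat_lit 12) (Steps.fwd (nat_lit 131072) (Steps.bwd (nat_lit 1) (Steps.fwd (nat_lit 122880) (Steps.fwd (nat_lit 16384) (Steps.fwd (nat_lit 16384) (Steps.bwd (nat_lit 1) (Steps.bwd (nat_lit 9) Steps.nil))))))))))) (nat_lit 74) (nat_lit 2),
  Rule.mk (nat_lit 9) (nat_lit 110) (Steps.bwd (nat_lit 4) (Steps.fwd (nat_lit 73728) (Steps.bwd (nat_lit 10) (Steps.fwd (nat_lit 114688) (Steps.bwd (nat_lit 17) (Steps.fwd (nat_lit 131072) Steps.nil)))))) (nat_lit 71) (nat_lit 5),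
  Rule.mk (nat_lit 16) (nat_lit 110) (Steps.bwd (nat_lit 14) (Steps.fwd (nat_lit 81920) (Steps.bwd (nat_lit 9) (Steps.fwd (nat_lit 32768) (Steps.fwd (nat_lit 73728) (Steps.bwd (nat_lit 16) Steps.nil)))))) (nat_lit 70) (nat_lit 5),
  Rule.mk (nat_lit 14) (nat_lit 126) (Steps.bwd (nat_lit 14) (Steps.bwd (nat_lit 17) (Steps.bwd (nat_lit 11) (Steps.fwd (nat_lit 81920) (Steps.fwd (nat_lit 24576) (Steps.fwd (nat_lit 122880) (Steps.fwd (nat_lit 32768) Steps.nil))))))) (nat_lit 52) (nat_lit 4),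
  Rule.mk (nat_lit 1) (nat_lit 190) (Steps.bwd (nat_lit 14) (Steps.fwd (nat_lit 16384) (Steps.bwd (nat_lit 1) (Steps.bwd (nat_lit 1) (Steps.fwd (nat_lit 73728) (Steps.fwd (nat_lit 106496) (Steps.fwd (nat_lit 73728) (Steps.fwd (nat_lit 98304) (Steps.bwd (nat_lit 9) (Steps.fwd (nat_lit 106496) (Steps.bwd (nat_lit 17) Steps.nil))))))))))) (nat_lit 74) (nat_lit 8),
  Rule.mk (nat_lit 3) (nat_lit 126) (Steps.fwd (nat_lit 16384) (Steps.bwd (nat_lit 3) (Steps.bwd (nat_lit 1) (Steps.fwd (nat_lit 32768) (Steps.fwd (nat_lit 16384) (Steps.bwd (nat_lit 3) (Steps.bwd (nat_lit 1) Steps.nil))))))) (nat_lit 4) (nat_lit 0),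
  Rule.mk (nat_lit 2) (nat_lit 286) (Steps.bwd (nat_lit 11) (Steps.fwd (nat_lit 16384) (Steps.fwd (nat_lit 81920) (Steps.fwd (nat_lit 8192) (Steps.fwd (nat_lit 90112) (Steps.fwd (nat_lit 16384) (Steps.bwd (nat_lit 3) (Steps.bwd (nat_lit 3) (Steps.bwd (nat_lit 9) (Steps.fwd (nat_lit 57344) (Steps.fwd (nat_lit 81920) (Steps.bwd (nat_lit 8) (Steps.bwd (nat_lit 3) (Steps.bwd (nat_lit 2) (Steps.fwd (nat_lit 24576) (Steps.bwd (nat_lit 11) (Steps.fwd (nat_lit 57344) Steps.nil))))))))))))))))) (nat_lit 56) (nat_lit 10),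
  Rule.mk (nat_lit 9) (nat_lit 270) (Steps.bwd (nat_lit 2) (Steps.bwd (nat_lit 18) (Steps.bwd (nat_lit 16) (Steps.fwd (nat_lit 90112) (Steps.bwd (nat_lit 3) (Steps.fwd (nat_lit 16384) (Steps.bwd (nat_lit 4) (Steps.bwd (nat_lit 4) (Steps.bwd (nat_lit 2) (Steps.bwd (nat_lit 7) (Steps.fwd (nat_lit 73728) (Steps.bwd (nat_lit 4) (Steps.fwd (nat_lit 106496) (Steps.bwd (nat_lit 2) (Steps.fwd (nat_lit 73728) (Steps.bwd (nat_lit 2) Steps.nil)))))))))))))))) (nat_lit 76) (nat_lit 8),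
  Rule.mk (nat_lit 11) (nat_lit 110) (Steps.bwd (nat_lit 14) (Steps.fwd (nat_lit 122880) (Steps.bwd (nat_lit 2) (Steps.bwd (nat_lit 14) (Steps.bwd (nat_lit 1) (Steps.fwd (nat_lit 131072) Steps.nil)))))) (nat_lit 44) (nat_lit 5),
  Rule.mk (nat_lit 2) (nat_lit 110) (Steps.bwd (nat_lit 14) (Steps.fwd (nat_lit 16384) (Steps.fwd (nat_lit 131072) (Steps.fwd (nat_lit 81920) (Steps.fwd (nat_lit 122880) (Steps.fwd (nat_lit 122880) Steps.nil)))))) (nat_lit 44) (nat_lit 1),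
  Rule.mk (nat_lit 16) (nat_lit 110) (Steps.bwd (nat_lit 14) (Steps.fwd (nat_lit 81920) (Steps.bwd (nat_lit 9) (Steps.fwd (nat_lit 32768) (Steps.fwd (nat_lit 73728) (Steps.fwd (nat_lit 139264) Steps.nil)))))) (nat_lit 70) (nat_lit 5),
  Rule.mk (nat_lit 14) (nat_lit 126) (Steps.bwd (nat_lit 14) (Steps.bwd (nat_lit 17) (Steps.bwd (nat_lit 11) (Steps.bwd (nat_lit 11) (Steps.fwd (nat_lit 24576) (Steps.fwd (nat_lit 122880) (Steps.bwd (nat_lit 3) Steps.nil))))))) (nat_lit 52) (nat_lit 4),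
  Rule.mk (nat_lit 17) (nat_lit 142) (Steps.bwd (nat_lit 14) (Steps.bwd (nat_lit 12) (Steps.bwd (nat_lit 11) (Steps.bwd (nat_lit 2) (Steps.bwd (nat_lit 16) (Steps.fwd (nat_lit 16384) (Steps.bwd (nat_lit 17) (Steps.fwd (nat_lit 81920) Steps.nil)))))))) (nat_lit 46) (nat_lit 6),
  Rule.mk (nat_lit 1) (nat_lit 190) (Steps.bwd (nat_lit 14) (Steps.fwd (nat_lit 16384) (Steps.fwd (nat_lit 16384) (Steps.bwd (nat_lit 1) (Steps.bwd (nat_lit 9) (Steps.fwd (nat_lit 106496) (Steps.bwd (nat_lit 9) (Steps.bwd (nat_lit 13) (Steps.fwd (nat_lit 73728) (Steps.bwd (nat_lit 12) (Steps.bwd (nat_lit 17) Steps.nil))))))))))) (nat_lit 74) (nat_lit 8),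
  Rule.mk (nat_lit 9) (nat_lit 270) (Steps.fwd (nat_lit 16384) (Steps.bwd (nat_lit 13) (Steps.fwd (nat_lit 32768) (Steps.bwd (nat_lit 9) (Steps.fwd (nat_lit 57344) (Steps.bwd (nat_lit 1) (Steps.fwd (nat_lit 32768) (Steps.fwd (nat_lit 32768) (Steps.bwd (nat_lit 2) (Steps.fwd (nat_lit 24576) (Steps.fwd (nat_lit 81920) (Steps.bwd (nat_lit 17) (Steps.bwd (nat_lit 19) (Steps.fwd (nat_lit 16384) (Steps.fwd (nat_lit 73728) (Steps.bwd (nat_lit 1) Steps.nil)))))))))))))))) (nat_lit 77) (nat_lit 12),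
  Rule.mk (nat_lit 3) (nat_lit 110) (Steps.bwd (nat_lit 11) (Steps.bwd (nat_lit 9) (Steps.fwd (nat_lit 81920) (Steps.bwd (nat_lit 9) (Steps.bwd (nat_lit 3) (Steps.bwd (nat_lit 14) Steps.nil)))))) (nat_lit 61) (nat_lit 3),
  Rule.mk (nat_lit 14) (nat_lit 110) (Steps.bwd (nat_lit 11) (Steps.bwd (nat_lit 9) (Steps.bwd (nat_lit 18) (Steps.bwd (nat_lit 9) (Steps.fwd (nat_lit 139264) (Steps.fwd (nat_lit 81920) Steps.nil)))))) (nat_lit 66) (nat_lit 6),
  Rule.mk (nat_lit 12) (nat_lit 142) (Steps.bwd (nat_lit 11) (Steps.fwd (nat_lit 8192) (Steps.bwd (nat_lit 16) (Steps.bwd (nat_lit 1) (Steps.bwd (nat_lit 17) (Steps.fwd (nat_lit 81920) (Steps.bwd (nat_lit 17) (Steps.bwd (nat_lit 14) Steps.nil)))))))) (nat_lit 46) (nat_lit 8),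
  Rule.mk (nat_lit 1) (nat_lit 94) (Steps.bwd (nat_lit 1) (Steps.fwd (nat_lit 32768) (Steps.fwd (nat_lit 8192) (Steps.fwd (nat_lit 8192) (Steps.fwd (nat_lit 24576) Steps.nil))))) (nat_lit 6) (nat_lit 4)]
noncomputable def R_113 : List (Rule) := [Rule.mk (nat_lit 17) (nat_lit 142) (Steps.bwd (nat_lit 1) (Steps.bwd (nat_lit 10) (Steps.fwd (nat_lit 98304) (Steps.bwd (nat_lit 15) (Steps.bwd (nat_lit 16) (Steps.fwd (nat_lit 90112) (Steps.fwd (nat_lit 139264) (Steps.fwd (nat_lit 8192) Steps.nil)))))))) (nat_lit 47) (nat_lit 8),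
  Rule.mk (nat_lit 9) (nat_lit 158) (Steps.bwd (nat_lit 1) (Steps.fwd (nat_lit 139264) (Steps.bwd (nat_lit 10) (Steps.bwd (nat_lit 13) (Steps.fwd (nat_lit 8192) (Steps.bwd (nat_lit 4) (Steps.fwd (nat_lit 24576) (Steps.bwd (nat_lit 9) (Steps.fwd (nat_lit 122880) Steps.nil))))))))) (nat_lit 62) (nat_lit 3),
  Rule.mk (nat_lit 10) (nat_lit 286) (Steps.bwd (nat_lit 1) (Steps.fwd (nat_lit 32768) (Steps.bwd (nat_lit 3) (Steps.fwd (nat_lit 73728) (Steps.fwd (nat_lit 57344) (Steps.fwd (nat_lit 81920) (Steps.fwd (nat_lit 57344) (Steps.fwd (nat_lit 32768) (Steps.fwd (nat_lit 8192) (Steps.fwd (nat_lit 24576) (Steps.bwd (nat_lit 11) (Steps.bwd (nat_lit 8) (Steps.bwd (nat_lit 2) (Steps.bwd (nat_lit 11) (Steps.bwd (nat_lit 1) (Steps.fwd (nat_lit 81920) (Steps.bwd (nat_lit 2) Steps.nil))))))))))))))))) (nat_lit 56) (nat_lit 15),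
  Rule.mk (nat_lit 19) (nat_lit 126) (Steps.bwd (nat_lit 8) (Steps.bwd (nat_lit 1) (Steps.bwd (nat_lit 1) (Steps.fwd (nat_lit 147456) (Steps.fwd (nat_lit 57344) (Steps.fwd (nat_lit 155648) (Steps.bwd (nat_lit 8) Steps.nil))))))) (nat_lit 87) (nat_lit 7),
  Rule.mk (nat_lit 18) (nat_lit 126) (Steps.bwd (nat_lit 8) (Steps.fwd (nat_lit 147456) (Steps.bwd (nat_lit 8) (Steps.fwd (nat_lit 16384) (Steps.fwd (nat_lit 16384) (Steps.bwd (nat_lit 19) (Steps.fwd (nat_lit 57344) Steps.nil))))))) (nat_lit 87) (nat_lit 5),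
  Rule.mk (nat_lit 9) (nat_lit 270) (Steps.bwd (nat_lit 8) (Steps.bwd (nat_lit 1) (Steps.fwd (nat_lit 32768) (Steps.bwd (nat_lit 3) (Steps.fwd (nat_lit 8192) (Steps.fwd (nat_lit 24576) (Steps.fwd (nat_lit 81920) (Steps.fwd (nat_lit 131072) (Steps.bwd (nat_lit 19) (Steps.bwd (nat_lit 1) (Steps.fwd (nat_lit 73728) (Steps.fwd (nat_lit 16384) (Steps.bwd (nat_lit 9) (Steps.fwd (nat_lit 16384) (Steps.bwd (nat_lit 13) (Steps.bwd (nat_lit 3) Steps.nil)))))))))))))))) (nat_lit 77) (nat_lit 16),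
  Rule.mk (nat_lit 11) (nat_lit 286) (Steps.bwd (nat_lit 8) (Steps.fwd (nat_lit 8192) (Steps.fwd (nat_lit 81920) (Steps.bwd (nat_lit 1) (Steps.bwd (nat_lit 11) (Steps.fwd (nat_lit 8192) (Steps.fwd (nat_lit 90112) (Steps.bwd (nat_lit 1) (Steps.fwd (nat_lit 32768) (Steps.bwd (nat_lit 3) (Steps.bwd (nat_lit 9) (Steps.fwd (nat_lit 57344) (Steps.bwd (nat_lit 11) (Steps.fwd (nat_lit 57344) (Steps.bwd (nat_lit 3) (Steps.bwd (nat_lit 2) (Steps.fwd (nat_lit 24576) Steps.nil))))))))))))))))) (nat_lit 56) (nat_lit 8),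
  Rule.mk (nat_lit 9) (nat_lit 206) (Steps.bwd (nat_lit 1) (Steps.bwd (nat_lit 1) (Steps.fwd (nat_lit 73728) (Steps.bwd (nat_lit 16) (Steps.bwd (nat_lit 19) (Steps.bwd (nat_lit 11) (Steps.bwd (nat_lit 2) (Steps.fwd (nat_lit 32768) (Steps.fwd (nat_lit 8192) (Steps.bwd (nat_lit 4) (Steps.fwd (nat_lit 24576) (Steps.fwd (nat_lit 8192) Steps.nil)))))))))))) (nat_lit 68) (nat_lit 1),
  Rule.mk (nat_lit 11) (nat_lit 286) (Steps.bwd (nat_lit 1) (Steps.bwd (nat_lit 11) (Steps.fwd (nat_lit 8192) (Steps.bwd (nat_lit 10) (Steps.bwd (nat_lit 1) (Steps.fwd (nat_lit 32768) (Steps.bwd (nat_lit 3) (Steps.fwd (nat_lit 73728) (Steps.bwd (nat_lit 8) (Steps.bwd (nat_lit 11) (Steps.bwd (nat_lit 8) (Steps.fwd (nat_lit 32768) (Steps.fwd (nat_lit 8192) (Steps.fwd (nat_lit 24576) (Steps.bwd (nat_lit 11) (Steps.fwd (nat_lit 57344) (Steps.bwd (nat_lit 2) Steps.nil))))))))))))))))) (nat_lit 56) (nat_lit 11),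
  Rule.mk (nat_lit 9) (nat_lit 206) (Steps.fwd (nat_lit 16384) (Steps.bwd (nat_lit 1) (Steps.bwd (nat_lit 9) (Steps.bwd (nat_lit 16) (Steps.fwd (nat_lit 147456) (Steps.bwd (nat_lit 11) (Steps.bwd (nat_lit 2) (Steps.bwd (nat_lit 3) (Steps.bwd (nat_lit 2) (Steps.bwd (nat_lit 4) (Steps.bwd (nat_lit 4) (Steps.bwd (nat_lit 2) Steps.nil)))))))))))) (nat_lit 68) (nat_lit 1),
  Rule.mk (nat_lit 9) (nat_lit 270) (Steps.bwd (nat_lit 1) (Steps.fwd (nat_lit 98304) (Steps.fwd (nat_lit 32768) (Steps.fwd (nat_lit 73728) (Steps.fwd (nat_lit 57344) (Steps.bwd (nat_lit 1) (Steps.bwd (nat_lit 3) (Steps.bwd (nat_lit 3) (Steps.bwd (nat_lit 2) (Steps.bwd (nat_lit 4) (Steps.bwd (nat_lit 11) (Steps.bwd (nat_lit 17) (Steps.bwd (nat_lit 19) (Steps.fwd (nat_lit 16384) (Steps.fwd (nat_lit 73728) (Steps.fwd (nat_lit 16384) Steps.nil)))))))))))))))) (nat_lit 77) (nat_lit 12),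
  Rule.mk (nat_lit 11) (nat_lit 286) (Steps.bwd (nat_lit 1) (Steps.bwd (nat_lit 10) (Steps.fwd (nat_lit 8192) (Steps.fwd (nat_lit 90112) (Steps.bwd (nat_lit 1) (Steps.bwd (nat_lit 7) (Steps.bwd (nat_lit 10) (Steps.bwd (nat_lit 3) (Steps.bwd (nat_lit 1) (Steps.fwd (nat_lit 24576) (Steps.bwd (nat_lit 7) (Steps.fwd (nat_lit 90112) (Steps.fwd (nat_lit 65536) (Steps.bwd (nat_lit 9) (Steps.bwd (nat_lit 4) (Steps.bwd (nat_lit 4) (Steps.bwd (nat_lit 2) Steps.nil))))))))))))))))) (nat_lit 57) (nat_lit 4),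
  Rule.mk (nat_lit 16) (nat_lit 110) (Steps.fwd (nat_lit 73728) (Steps.fwd (nat_lit 131072) (Steps.bwd (nat_lit 14) (Steps.fwd (nat_lit 24576) (Steps.fwd (nat_lit 24576) (Steps.bwd (nat_lit 9) Steps.nil)))))) (nat_lit 64) (nat_lit 2),
  Rule.mk (nat_lit 14) (nat_lit 158) (Steps.bwd (nat_lit 9) (Steps.fwd (nat_lit 16384) (Steps.fwd (nat_lit 139264) (Steps.bwd (nat_lit 10) (Steps.bwd (nat_lit 13) (Steps.bwd (nat_lit 2) (Steps.fwd (nat_lit 24576) (Steps.fwd (nat_lit 24576) (Steps.bwd (nat_lit 9) Steps.nil))))))))) (nat_lit 62) (nat_lit 2),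
  Rule.mk (nat_lit 9) (nat_lit 270) (Steps.fwd (nat_lit 8192) (Steps.bwd (nat_lit 9) (Steps.bwd (nat_lit 2) (Steps.bwd (nat_lit 18) (Steps.bwd (nat_lit 16) (Steps.fwd (nat_lit 90112) (Steps.bwd (nat_lit 3) (Steps.fwd (nat_lit 16384) (Steps.bwd (nat_lit 4) (Steps.bwd (nat_lit 4) (Steps.fwd (nat_lit 8192) (Steps.fwd (nat_lit 65536) (Steps.fwd (nat_lit 73728) (Steps.bwd (nat_lit 4) (Steps.bwd (nat_lit 12) (Steps.bwd (nat_lit 2) Steps.nil)))))))))))))))) (nat_lit 76) (nat_lit 6),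
  Rule.mk (nat_lit 11) (nat_lit 286) (Steps.fwd (nat_lit 16384) (Steps.bwd (nat_lit 11) (Steps.fwd (nat_lit 8192) (Steps.fwd (nat_lit 90112) (Steps.bwd (nat_lit 1) (Steps.fwd (nat_lit 32768) (Steps.bwd (nat_lit 3) (Steps.fwd (nat_lit 73728) (Steps.fwd (nat_lit 57344) (Steps.bwd (nat_lit 11) (Steps.bwd (nat_lit 8) (Steps.bwd (nat_lit 3) (Steps.bwd (nat_lit 2) (Steps.fwd (nat_lit 24576) (Steps.bwd (nat_lit 11) (Steps.fwd (nat_lit 57344) (Steps.bwd (nat_lit 2) Steps.nil))))))))))))))))) (nat_lit 56) (nat_lit 11),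
  Rule.mk (nat_lit 3) (nat_lit 126) (Steps.bwd (nat_lit 1) (Steps.fwd (nat_lit 32768) (Steps.bwd (nat_lit 1) (Steps.bwd (nat_lit 3) (Steps.bwd (nat_lit 1) (Steps.fwd (nat_lit 32768) (Steps.bwd (nat_lit 1) Steps.nil))))))) (nat_lit 4) (nat_lit 0),
  Rule.mk (nat_lit 9) (nat_lit 206) (Steps.bwd (nat_lit 1) (Steps.fwd (nat_lit 32768) (Steps.fwd (nat_lit 32768) (Steps.bwd (nat_lit 1) (Steps.fwd (nat_lit 24576) (Steps.bwd (nat_lit 1) (Steps.fwd (nat_lit 90112) (Steps.fwd (nat_lit 155648) (Steps.fwd (nat_lit 131072) (Steps.bwd (nat_lit 9) (Steps.fwd (nat_lit 8192) (Steps.bwd (nat_lit 2) Steps.nil)))))))))))) (nat_lit 69) (nat_lit 0),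
  Rule.mk (nat_lit 8) (nat_lit 270) (Steps.bwd (nat_lit 1) (Steps.fwd (nat_lit 32768) (Steps.fwd (nat_lit 32768) (Steps.bwd (nat_lit 2) (Steps.bwd (nat_lit 4) (Steps.fwd (nat_lit 81920) (Steps.fwd (nat_lit 131072) (Steps.fwd (nat_lit 147456) (Steps.bwd (nat_lit 1) (Steps.bwd (nat_lit 9) (Steps.fwd (nat_lit 16384) (Steps.bwd (nat_lit 9) (Steps.bwd (nat_lit 1) (Steps.bwd (nat_lit 13) (Steps.fwd (nat_lit 32768) (Steps.bwd (nat_lit 9) Steps.nil)))))))))))))))) (nat_lit 77) (nat_lit 0),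
  Rule.mk (nat_lit 15) (nat_lit 110) (Steps.bwd (nat_lit 1) (Steps.bwd (nat_lit 15) (Steps.bwd (nat_lit 15) (Steps.fwd (nat_lit 90112) (Steps.bwd (nat_lit 16) (Steps.bwd (nat_lit 2) Steps.nil)))))) (nat_lit 45) (nat_lit 6),
  Rule.mk (nat_lit 9) (nat_lit 206) (Steps.bwd (nat_lit 1) (Steps.bwd (nat_lit 1) (Steps.bwd (nat_lit 9) (Steps.bwd (nat_lit 16) (Steps.fwd (nat_lit 147456) (Steps.fwd (nat_lit 81920) (Steps.fwd (nat_lit 8192) (Steps.bwd (nat_lit 3) (Steps.fwd (nat_lit 8192) (Steps.bwd (nat_lit 4) (Steps.fwd (nat_lit 24576) (Steps.bwd (nat_lit 2) Steps.nil)))))))))))) (nat_lit 68) (nat_lit 1),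
  Rule.mk (nat_lit 9) (nat_lit 110) (Steps.bwd (nat_lit 3) (Steps.bwd (nat_lit 9) (Steps.fwd (nat_lit 139264) (Steps.fwd (nat_lit 139264) (Steps.fwd (nat_lit 122880) (Steps.bwd (nat_lit 11) Steps.nil)))))) (nat_lit 70) (nat_lit 1),
  Rule.mk (nat_lit 9) (nat_lit 110) (Steps.bwd (nat_lit 10) (Steps.fwd (nat_lit 114688) (Steps.bwd (nat_lit 17) (Steps.fwd (nat_lit 131072) (Steps.fwd (nat_lit 73728) (Steps.bwd (nat_lit 4) Steps.nil)))))) (nat_lit 71) (nat_lit 0),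
  Rule.mk (nat_lit 2) (nat_lit 94) (Steps.bwd (nat_lit 3) (Steps.fwd (nat_lit 16384) (Steps.bwd (nat_lit 1) (Steps.bwd (nat_lit 4) (Steps.fwd (nat_lit 8192) Steps.nil))))) (nat_lit 7) (nat_lit 3),
  Rule.mk (nat_lit 9) (nat_lit 110) (Steps.bwd (nat_lit 16) (Steps.fwd (nat_lit 73728) (Steps.fwd (nat_lit 131072) (Steps.bwd (nat_lit 14) (Steps.fwd (nat_lit 24576) (Steps.fwd (nat_lit 24576) Steps.nil)))))) (nat_lit 64) (nat_lit 1),
  Rule.mk (nat_lit 1) (nat_lit 158) (Steps.bwd (nat_lit 16) (Steps.bwd (nat_lit 10) (Steps.bwd (nat_lit 13) (Steps.bwd (nat_lit 2) (Steps.bwd (nat_lit 4) (Steps.bwd (nat_lit 4) (Steps.bwd (nat_lit 9) (Steps.fwd (nat_lit 122880) (Steps.fwd (nat_lit 73728) Steps.nil))))))))) (nat_lit 62) (nat_lit 4),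
  Rule.mk (nat_lit 19) (nat_lit 158) (Steps.bwd (nat_lit 8) (Steps.bwd (nat_lit 19) (Steps.fwd (nat_lit 57344) (Steps.fwd (nat_lit 147456) (Steps.bwd (nat_lit 8) (Steps.bwd (nat_lit 19) (Steps.bwd (nat_lit 8) (Steps.bwd (nat_lit 19) (Steps.fwd (nat_lit 57344) Steps.nil))))))))) (nat_lit 85) (nat_lit 1),
  Rule.mk (nat_lit 16) (nat_lit 110) (Steps.bwd (nat_lit 14) (Steps.bwd (nat_lit 11) (Steps.bwd (nat_lit 9) (Steps.fwd (nat_lit 32768) (Steps.bwd (nat_lit 9) (Steps.bwd (nat_lit 16) Steps.nil)))))) (nat_lit 70) (nat_lit 5),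
  Rule.mk (nat_lit 9) (nat_lit 158) (Steps.bwd (nat_lit 14) (Steps.fwd (nat_lit 73728) (Steps.fwd (nat_lit 16384) (Steps.bwd (nat_lit 16) (Steps.bwd (nat_lit 10) (Steps.bwd (nat_lit 13) (Steps.fwd (nat_lit 8192) (Steps.fwd (nat_lit 24576) (Steps.bwd (nat_lit 4) Steps.nil))))))))) (nat_lit 62) (nat_lit 1),
  Rule.mk (nat_lit 1) (nat_lit 190) (Steps.bwd (nat_lit 14) (Steps.fwd (nat_lit 16384) (Steps.bwd (nat_lit 1) (Steps.bwd (nat_lit 1) (Steps.bwd (nat_lit 9) (Steps.fwd (nat_lit 106496) (Steps.bwd (nat_lit 9) (Steps.bwd (nat_lit 13) (Steps.fwd (nat_lit 73728) (Steps.bwd (nat_lit 12) (Steps.fwd (nat_lit 131072) Steps.nil))))))))))) (nat_lit 74) (nat_lit 8),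
  Rule.mk (nat_lit 19) (nat_lit 126) (Steps.bwd (nat_lit 8) (Steps.fwd (nat_lit 155648) (Steps.fwd (nat_lit 57344) (Steps.bwd (nat_lit 19) (Steps.bwd (nat_lit 8) (Steps.fwd (nat_lit 16384) (Steps.bwd (nat_lit 1) Steps.nil))))))) (nat_lit 87) (nat_lit 3),
  Rule.mk (nat_lit 10) (nat_lit 142) (Steps.bwd (nat_lit 13) (Steps.bwd (nat_lit 15) (Steps.fwd (nat_lit 139264) (Steps.bwd (nat_lit 10) (Steps.fwd (nat_lit 139264) (Steps.bwd (nat_lit 2) (Steps.fwd (nat_lit 131072) (Steps.bwd (nat_lit 1) Steps.nil)))))))) (nat_lit 47) (nat_lit 1),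
  Rule.mk (nat_lit 8) (nat_lit 158) (Steps.bwd (nat_lit 19) (Steps.bwd (nat_lit 8) (Steps.fwd (nat_lit 147456) (Steps.bwd (nat_lit 8) (Steps.bwd (nat_lit 19) (Steps.fwd (nat_lit 57344) (Steps.fwd (nat_lit 147456) (Steps.bwd (nat_lit 8) (Steps.fwd (nat_lit 147456) Steps.nil))))))))) (nat_lit 85) (nat_lit 0),
  Rule.mk (nat_lit 16) (nat_lit 158) (Steps.bwd (nat_lit 10) (Steps.fwd (nat_lit 98304) (Steps.fwd (nat_lit 8192) (Steps.fwd (nat_lit 24576) (Steps.fwd (nat_lit 24576) (Steps.fwd (nat_lit 73728) (Steps.fwd (nat_lit 122880) (Steps.bwd (nat_lit 9) (Steps.fwd (nat_lit 16384) Steps.nil))))))))) (nat_lit 62) (nat_lit 5),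
  Rule.mk (nat_lit 7) (nat_lit 286) (Steps.bwd (nat_lit 10) (Steps.fwd (nat_lit 65536) (Steps.bwd (nat_lit 9) (Steps.fwd (nat_lit 24576) (Steps.fwd (nat_lit 24576) (Steps.bwd (nat_lit 2) (Steps.fwd (nat_lit 81920) (Steps.bwd (nat_lit 1) (Steps.fwd (nat_lit 90112) (Steps.fwd (nat_lit 8192) (Steps.fwd (nat_lit 90112) (Steps.bwd (nat_lit 1) (Steps.fwd (nat_lit 65536) (Steps.fwd (nat_lit 90112) (Steps.bwd (nat_lit 3) (Steps.fwd (nat_lit 16384) (Steps.fwd (nat_lit 24576) Steps.nil))))))))))))))))) (nat_lit 57) (nat_lit 15),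
  Rule.mk (nat_lit 2) (nat_lit 286) (Steps.bwd (nat_lit 10) (Steps.fwd (nat_lit 16384) (Steps.fwd (nat_lit 65536) (Steps.bwd (nat_lit 10) (Steps.bwd (nat_lit 3) (Steps.bwd (nat_lit 1) (Steps.fwd (nat_lit 24576) (Steps.bwd (nat_lit 7) (Steps.fwd (nat_lit 90112) (Steps.bwd (nat_lit 7) (Steps.bwd (nat_lit 9) (Steps.fwd (nat_lit 24576) (Steps.fwd (nat_lit 24576) (Steps.fwd (nat_lit 8192) (Steps.fwd (nat_lit 81920) (Steps.bwd (nat_lit 1) (Steps.bwd (nat_lit 10) Steps.nil))))))))))))))))) (nat_lit 57) (nat_lit 7),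
  Rule.mk (nat_lit 16) (nat_lit 110) (Steps.bwd (nat_lit 14) (Steps.fwd (nat_lit 81920) (Steps.fwd (nat_lit 73728) (Steps.fwd (nat_lit 32768) (Steps.fwd (nat_lit 73728) (Steps.bwd (nat_lit 16) Steps.nil)))))) (nat_lit 70) (nat_lit 5),
  Rule.mk (nat_lit 14) (nat_lit 158) (Steps.bwd (nat_lit 9) (Steps.bwd (nat_lit 1) (Steps.fwd (nat_lit 139264) (Steps.fwd (nat_lit 90112) (Steps.fwd (nat_lit 98304) (Steps.fwd (nat_lit 8192) (Steps.fwd (nat_lit 24576) (Steps.fwd (nat_lit 24576) (Steps.bwd (nat_lit 9) Steps.nil))))))))) (nat_lit 62) (nat_lit 2),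
  Rule.mk (nat_lit 13) (nat_lit 190) (Steps.bwd (nat_lit 9) (Steps.fwd (nat_lit 106496) (Steps.fwd (nat_lit 131072) (Steps.fwd (nat_lit 16384) (Steps.bwd (nat_lit 14) (Steps.bwd (nat_lit 1) (Steps.fwd (nat_lit 16384) (Steps.fwd (nat_lit 16384) (Steps.fwd (nat_lit 73728) (Steps.fwd (nat_lit 106496) (Steps.fwd (nat_lit 73728) Steps.nil))))))))))) (nat_lit 74) (nat_lit 4),
  Rule.mk (nat_lit 12) (nat_lit 190) (Steps.bwd (nat_lit 9) (Steps.bwd (nat_lit 13) (Steps.fwd (nat_lit 73728) (Steps.bwd (nat_lit 12) (Steps.fwd (nat_lit 131072) (Steps.bwd (nat_lit 1) (Steps.bwd (nat_lit 14) (Steps.fwd (nat_lit 16384) (Steps.bwd (nat_lit 1) (Steps.bwd (nat_lit 1) (Steps.bwd (nat_lit 9) Steps.nil))))))))))) (nat_lit 74) (nat_lit 2),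
  Rule.mk (nat_lit 2) (nat_lit 206) (Steps.bwd (nat_lit 9) (Steps.bwd (nat_lit 1) (Steps.bwd (nat_lit 1) (Steps.fwd (nat_lit 73728) (Steps.fwd (nat_lit 139264) (Steps.fwd (nat_lit 147456) (Steps.bwd (nat_lit 11) (Steps.fwd (nat_lit 8192) (Steps.fwd (nat_lit 32768) (Steps.bwd (nat_lit 2) (Steps.bwd (nat_lit 4) (Steps.bwd (nat_lit 4) Steps.nil)))))))))))) (nat_lit 68) (nat_lit 0),
  Rule.mk (nat_lit 7) (nat_lit 286) (Steps.bwd (nat_lit 9) (Steps.bwd (nat_lit 4) (Steps.bwd (nat_lit 4) (Steps.fwd (nat_lit 8192) (Steps.fwd (nat_lit 81920) (Steps.fwd (nat_lit 16384) (Steps.fwd (nat_lit 90112) (Steps.fwd (nat_lit 8192) (Steps.bwd (nat_lit 10) (Steps.bwd (nat_lit 1) (Steps.fwd (nat_lit 65536) (Steps.fwd (nat_lit 90112) (Steps.bwd (nat_lit 3) (Steps.fwd (nat_lit 16384) (Steps.bwd (nat_lit 4) (Steps.fwd (nat_lit 65536) (Steps.bwd (nat_lit 10) Steps.nil))))))))))))))))) (nat_lit 57) (nat_lit 17),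
  Rule.mk (nat_lit 9) (nat_lit 110) (Steps.bwd (nat_lit 11) (Steps.bwd (nat_lit 9) (Steps.bwd (nat_lit 3) (Steps.bwd (nat_lit 14) (Steps.bwd (nat_lit 3) (Steps.bwd (nat_lit 11) Steps.nil)))))) (nat_lit 61) (nat_lit 5),
  Rule.mk (nat_lit 4) (nat_lit 286) (Steps.bwd (nat_lit 11) (Steps.fwd (nat_lit 57344) (Steps.bwd (nat_lit 2) (Steps.bwd (nat_lit 11) (Steps.fwd (nat_lit 16384) (Steps.bwd (nat_lit 11) (Steps.bwd (nat_lit 2) (Steps.fwd (nat_lit 90112) (Steps.bwd (nat_lit 1) (Steps.bwd (nat_lit 3) (Steps.bwd (nat_lit 3) (Steps.bwd (nat_lit 9) (Steps.fwd (nat_lit 57344) (Steps.fwd (nat_lit 81920) (Steps.fwd (nat_lit 57344) (Steps.bwd (nat_lit 3) (Steps.bwd (nat_lit 2) Steps.nil))))))))))))))))) (nat_lit 56) (nat_lit 7),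
  Rule.mk (nat_lit 13) (nat_lit 126) (Steps.fwd (nat_lit 24576) (Steps.bwd (nat_lit 12) (Steps.fwd (nat_lit 32768) (Steps.bwd (nat_lit 16) (Steps.bwd (nat_lit 10) (Steps.fwd (nat_lit 139264) (Steps.bwd (nat_lit 15) Steps.nil))))))) (nat_lit 50) (nat_lit 0),
  Rule.mk (nat_lit 9) (nat_lit 110) (Steps.bwd (nat_lit 18) (Steps.fwd (nat_lit 73728) (Steps.bwd (nat_lit 16) (Steps.fwd (nat_lit 81920) (Steps.bwd (nat_lit 14) (Steps.fwd (nat_lit 81920) Steps.nil)))))) (nat_lit 66) (nat_lit 1),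
  Rule.mk (nat_lit 10) (nat_lit 286) (Steps.fwd (nat_lit 65536) (Steps.bwd (nat_lit 9) (Steps.fwd (nat_lit 24576) (Steps.bwd (nat_lit 4) (Steps.fwd (nat_lit 8192) (Steps.fwd (nat_lit 81920) (Steps.fwd (nat_lit 16384) (Steps.bwd (nat_lit 10) (Steps.bwd (nat_lit 2) (Steps.fwd (nat_lit 90112) (Steps.fwd (nat_lit 16384) (Steps.bwd (nat_lit 7) (Steps.bwd (nat_lit 10) (Steps.fwd (nat_lit 32768) (Steps.fwd (nat_lit 16384) (Steps.fwd (nat_lit 24576) (Steps.bwd (nat_lit 7) Steps.nil))))))))))))))))) (nat_lit 57) (nat_lit 16),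
  Rule.mk (nat_lit 16) (nat_lit 126) (Steps.bwd (nat_lit 10) (Steps.fwd (nat_lit 139264) (Steps.bwd (nat_lit 15) (Steps.bwd (nat_lit 13) (Steps.fwd (nat_lit 24576) (Steps.bwd (nat_lit 12) (Steps.fwd (nat_lit 32768) Steps.nil))))))) (nat_lit 50) (nat_lit 4),
  Rule.mk (nat_lit 9) (nat_lit 110) (Steps.bwd (nat_lit 10) (Steps.fwd (nat_lit 73728) (Steps.bwd (nat_lit 10) (Steps.bwd (nat_lit 4) (Steps.bwd (nat_lit 15) (Steps.fwd (nat_lit 24576) Steps.nil)))))) (nat_lit 60) (nat_lit 1),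
  Rule.mk (nat_lit 15) (nat_lit 110) (Steps.bwd (nat_lit 10) (Steps.fwd (nat_lit 131072) (Steps.fwd (nat_lit 73728) (Steps.bwd (nat_lit 19) (Steps.fwd (nat_lit 73728) (Steps.fwd (nat_lit 90112) Steps.nil)))))) (nat_lit 67) (nat_lit 2),
  Rule.mk (nat_lit 3) (nat_lit 126) (Steps.bwd (nat_lit 10) (Steps.bwd (nat_lit 10) (Steps.fwd (nat_lit 139264) (Steps.bwd (nat_lit 15) (Steps.fwd (nat_lit 114688) (Steps.fwd (nat_lit 24576) (Steps.bwd (nat_lit 15) Steps.nil))))))) (nat_lit 53) (nat_lit 0),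
  Rule.mk (nat_lit 1) (nat_lit 142) (Steps.bwd (nat_lit 10) (Steps.fwd (nat_lit 98304) (Steps.fwd (nat_lit 114688) (Steps.fwd (nat_lit 139264) (Steps.fwd (nat_lit 90112) (Steps.bwd (nat_lit 16) (Steps.fwd (nat_lit 8192) (Steps.bwd (nat_lit 17) Steps.nil)))))))) (nat_lit 47) (nat_lit 0),
  Rule.mk (nat_lit 17) (nat_lit 206) (Steps.fwd (nat_lit 73728) (Steps.bwd (nat_lit 2) (Steps.fwd (nat_lit 8192) (Steps.fwd (nat_lit 73728) (Steps.fwd (nat_lit 16384) (Steps.bwd (nat_lit 3) (Steps.fwd (nat_lit 32768) (Steps.fwd (nat_lit 16384) (Steps.bwd (nat_lit 4) (Steps.bwd (nat_lit 1) (Steps.bwd (nat_lit 10) (Steps.bwd (nat_lit 18) Steps.nil)))))))))))) (nat_lit 69) (nat_lit 9),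
  Rule.mk (nat_lit 2) (nat_lit 286) (Steps.bwd (nat_lit 10) (Steps.fwd (nat_lit 16384) (Steps.fwd (nat_lit 65536) (Steps.fwd (nat_lit 90112) (Steps.fwd (nat_lit 32768) (Steps.fwd (nat_lit 16384) (Steps.fwd (nat_lit 24576) (Steps.bwd (nat_lit 7) (Steps.fwd (nat_lit 90112) (Steps.bwd (nat_lit 7) (Steps.fwd (nat_lit 73728) (Steps.fwd (nat_lit 24576) (Steps.bwd (nat_lit 4) (Steps.fwd (nat_lit 8192) (Steps.fwd (nat_lit 81920) (Steps.fwd (nat_lit 16384) (Steps.bwd (nat_lit 10) Steps.nil))))))))))))))))) (nat_lit 57) (nat_lit 7),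
  Rule.mk (nat_lit 2) (nat_lit 286) (Steps.bwd (nat_lit 10) (Steps.fwd (nat_lit 16384) (Steps.bwd (nat_lit 7) (Steps.bwd (nat_lit 10) (Steps.fwd (nat_lit 32768) (Steps.fwd (nat_lit 16384) (Steps.fwd (nat_lit 24576) (Steps.bwd (nat_lit 7) (Steps.fwd (nat_lit 90112) (Steps.fwd (nat_lit 65536) (Steps.fwd (nat_lit 73728) (Steps.bwd (nat_lit 4) (Steps.fwd (nat_lit 24576) (Steps.fwd (nat_lit 8192) (Steps.fwd (nat_lit 81920) (Steps.fwd (nat_lit 16384) (Steps.fwd (nat_lit 90112) Steps.nil))))))))))))))))) (nat_lit 57) (nat_lit 7),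
  Rule.mk (nat_lit 3) (nat_lit 126) (Steps.bwd (nat_lit 12) (Steps.fwd (nat_lit 122880) (Steps.fwd (nat_lit 131072) (Steps.bwd (nat_lit 11) (Steps.fwd (nat_lit 131072) (Steps.fwd (nat_lit 24576) (Steps.fwd (nat_lit 98304) Steps.nil))))))) (nat_lit 51) (nat_lit 0),
  Rule.mk (nat_lit 12) (nat_lit 190) (Steps.bwd (nat_lit 9) (Steps.bwd (nat_lit 13) (Steps.fwd (nat_lit 73728) (Steps.fwd (nat_lit 106496) (Steps.fwd (nat_lit 131072) (Steps.fwd (nat_lit 16384) (Steps.fwd (nat_lit 122880) (Steps.fwd (nat_lit 16384) (Steps.fwd (nat_lit 16384) (Steps.bwd (nat_lit 1) (Steps.fwd (nat_lit 73728) Steps.nil))))))))))) (nat_lit 74) (nat_lit 2),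
  Rule.mk (nat_lit 14) (nat_lit 158) (Steps.bwd (nat_lit 9) (Steps.fwd (nat_lit 16384) (Steps.fwd (nat_lit 139264) (Steps.bwd (nat_lit 10) (Steps.bwd (nat_lit 13) (Steps.bwd (nat_lit 2) (Steps.fwd (nat_lit 24576) (Steps.fwd (nat_lit 24576) (Steps.fwd (nat_lit 73728) Steps.nil))))))))) (nat_lit 62) (nat_lit 2),
  Rule.mk (nat_lit 13) (nat_lit 190) (Steps.bwd (nat_lit 9) (Steps.fwd (nat_lit 106496) (Steps.fwd (nat_lit 131072) (Steps.fwd (nat_lit 16384) (Steps.fwd (nat_lit 122880) (Steps.bwd (nat_lit 1) (Steps.bwd (nat_lit 1) (Steps.bwd (nat_lit 1) (Steps.bwd (nat_lit 9) (Steps.bwd (nat_lit 12) (Steps.fwd (nat_lit 73728) Steps.nil))))))))))) (nat_lit 74) (nat_lit 4),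
  Rule.mk (nat_lit 12) (nat_lit 190) (Steps.bwd (nat_lit 9) (Steps.fwd (nat_lit 98304) (Steps.fwd (nat_lit 73728) (Steps.fwd (nat_lit 106496) (Steps.fwd (nat_lit 131072) (Steps.fwd (nat_lit 16384) (Steps.fwd (nat_lit 122880) (Steps.bwd (nat_lit 1) (Steps.fwd (nat_lit 16384) (Steps.bwd (nat_lit 1) (Steps.bwd (nat_lit 9) Steps.nil))))))))))) (nat_lit 74) (nat_lit 2),
  Rule.mk (nat_lit 1) (nat_lit 190) (Steps.bwd (nat_lit 9) (Steps.fwd (nat_lit 106496) (Steps.bwd (nat_lit 9) (Steps.bwd (nat_lit 13) (Steps.fwd (nat_lit 73728) (Steps.fwd (nat_lit 106496) (Steps.bwd (nat_lit 17) (Steps.bwd (nat_lit 1) (Steps.fwd (nat_lit 122880) (Steps.fwd (nat_lit 16384) (Steps.bwd (nat_lit 1) Steps.nil))))))))))) (nat_lit 74) (nat_lit 0),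
  Rule.mk (nat_lit 7) (nat_lit 286) (Steps.bwd (nat_lit 9) (Steps.bwd (nat_lit 4) (Steps.bwd (nat_lit 4) (Steps.bwd (nat_lit 2) (Steps.bwd (nat_lit 11) (Steps.fwd (nat_lit 16384) (Steps.bwd (nat_lit 10) (Steps.fwd (nat_lit 8192) (Steps.bwd (nat_lit 10) (Steps.bwd (nat_lit 1) (Steps.fwd (nat_lit 65536) (Steps.fwd (nat_lit 90112) (Steps.fwd (nat_lit 32768) (Steps.bwd (nat_lit 1) (Steps.fwd (nat_lit 24576) (Steps.fwd (nat_lit 65536) (Steps.fwd (nat_lit 90112) Steps.nil))))))))))))))))) (nat_lit 57) (nat_lit 17),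
  Rule.mk (nat_lit 9) (nat_lit 110) (Steps.bwd (nat_lit 18) (Steps.bwd (nat_lit 9) (Steps.fwd (nat_lit 139264) (Steps.fwd (nat_lit 81920) (Steps.bwd (nat_lit 14) (Steps.bwd (nat_lit 11) Steps.nil)))))) (nat_lit 66) (nat_lit 1),
  Rule.mk (nat_lit 8) (nat_lit 126) (Steps.bwd (nat_lit 18) (Steps.fwd (nat_lit 57344) (Steps.fwd (nat_lit 147456) (Steps.fwd (nat_lit 57344) (Steps.fwd (nat_lit 16384) (Steps.bwd (nat_lit 1) (Steps.fwd (nat_lit 147456) Steps.nil))))))) (nat_lit 87) (nat_lit 4)]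
noncomputable def R_114 : List (Rule) := [Rule.mk (nat_lit 15) (nat_lit 126) (Steps.bwd (nat_lit 13) (Steps.bwd (nat_lit 4) (Steps.fwd (nat_lit 106496) (Steps.fwd (nat_lit 32768) (Steps.bwd (nat_lit 16) (Steps.fwd (nat_lit 90112) (Steps.fwd (nat_lit 139264) Steps.nil))))))) (nat_lit 50) (nat_lit 7),
  Rule.mk (nat_lit 12) (nat_lit 126) (Steps.fwd (nat_lit 32768) (Steps.bwd (nat_lit 16) (Steps.fwd (nat_lit 90112) (Steps.bwd (nat_lit 16) (Steps.fwd (nat_lit 114688) (Steps.fwd (nat_lit 98304) (Steps.bwd (nat_lit 4) Steps.nil))))))) (nat_lit 50) (nat_lit 2),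
  Rule.mk (nat_lit 10) (nat_lit 142) (Steps.bwd (nat_lit 13) (Steps.bwd (nat_lit 15) (Steps.bwd (nat_lit 16) (Steps.bwd (nat_lit 10) (Steps.bwd (nat_lit 16) (Steps.fwd (nat_lit 8192) (Steps.fwd (nat_lit 131072) (Steps.bwd (nat_lit 1) Steps.nil)))))))) (nat_lit 47) (nat_lit 1),
  Rule.mk (nat_lit 9) (nat_lit 190) (Steps.bwd (nat_lit 13) (Steps.fwd (nat_lit 73728) (Steps.bwd (nat_lit 2) (Steps.bwd (nat_lit 2) (Steps.fwd (nat_lit 8192) (Steps.fwd (nat_lit 114688) (Steps.fwd (nat_lit 8192) (Steps.fwd (nat_lit 139264) (Steps.bwd (nat_lit 13) (Steps.fwd (nat_lit 73728) (Steps.fwd (nat_lit 106496) Steps.nil))))))))))) (nat_lit 75) (nat_lit 10),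
  Rule.mk (nat_lit 15) (nat_lit 158) (Steps.bwd (nat_lit 9) (Steps.bwd (nat_lit 3) (Steps.bwd (nat_lit 3) (Steps.bwd (nat_lit 1) (Steps.bwd (nat_lit 12) (Steps.bwd (nat_lit 11) (Steps.bwd (nat_lit 17) (Steps.bwd (nat_lit 2) (Steps.bwd (nat_lit 9) Steps.nil))))))))) (nat_lit 63) (nat_lit 9),
  Rule.mk (nat_lit 8) (nat_lit 286) (Steps.bwd (nat_lit 11) (Steps.bwd (nat_lit 8) (Steps.fwd (nat_lit 32768) (Steps.bwd (nat_lit 2) (Steps.fwd (nat_lit 24576) (Steps.fwd (nat_lit 81920) (Steps.bwd (nat_lit 8) (Steps.fwd (nat_lit 8192) (Steps.bwd (nat_lit 11) (Steps.bwd (nat_lit 1) (Steps.fwd (nat_lit 81920) (Steps.bwd (nat_lit 2) (Steps.fwd (nat_lit 90112) (Steps.fwd (nat_lit 16384) (Steps.fwd (nat_lit 32768) (Steps.fwd (nat_lit 32768) (Steps.bwd (nat_lit 9) Steps.nil))))))))))))))))) (nat_lit 56) (nat_lit 2),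
  Rule.mk (nat_lit 8) (nat_lit 126) (Steps.bwd (nat_lit 18) (Steps.bwd (nat_lit 8) (Steps.bwd (nat_lit 19) (Steps.fwd (nat_lit 57344) (Steps.fwd (nat_lit 16384) (Steps.fwd (nat_lit 16384) (Steps.bwd (nat_lit 19) Steps.nil))))))) (nat_lit 87) (nat_lit 4),
  Rule.mk (nat_lit 9) (nat_lit 110) (Steps.bwd (nat_lit 11) (Steps.fwd (nat_lit 73728) (Steps.fwd (nat_lit 32768) (Steps.fwd (nat_lit 122880) (Steps.bwd (nat_lit 3) (Steps.fwd (nat_lit 81920) Steps.nil)))))) (nat_lit 61) (nat_lit 5),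
  Rule.mk (nat_lit 12) (nat_lit 142) (Steps.bwd (nat_lit 11) (Steps.fwd (nat_lit 8192) (Steps.fwd (nat_lit 139264) (Steps.fwd (nat_lit 16384) (Steps.bwd (nat_lit 17) (Steps.bwd (nat_lit 11) (Steps.fwd (nat_lit 131072) (Steps.fwd (nat_lit 122880) Steps.nil)))))))) (nat_lit 46) (nat_lit 8),
  Rule.mk (nat_lit 4) (nat_lit 270) (Steps.bwd (nat_lit 11) (Steps.fwd (nat_lit 131072) (Steps.fwd (nat_lit 147456) (Steps.fwd (nat_lit 16384) (Steps.bwd (nat_lit 9) (Steps.fwd (nat_lit 16384) (Steps.fwd (nat_lit 73728) (Steps.fwd (nat_lit 16384) (Steps.bwd (nat_lit 13) (Steps.fwd (nat_lit 32768) (Steps.fwd (nat_lit 73728) (Steps.bwd (nat_lit 8) (Steps.bwd (nat_lit 1) (Steps.bwd (nat_lit 3) (Steps.bwd (nat_lit 3) (Steps.bwd (nat_lit 2) Steps.nil)))))))))))))))) (nat_lit 77) (nat_lit 5),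
  Rule.mk (nat_lit 2) (nat_lit 286) (Steps.bwd (nat_lit 11) (Steps.fwd (nat_lit 16384) (Steps.fwd (nat_lit 81920) (Steps.bwd (nat_lit 2) (Steps.bwd (nat_lit 10) (Steps.fwd (nat_lit 16384) (Steps.bwd (nat_lit 3) (Steps.bwd (nat_lit 3) (Steps.bwd (nat_lit 9) (Steps.fwd (nat_lit 57344) (Steps.fwd (nat_lit 81920) (Steps.fwd (nat_lit 57344) (Steps.fwd (nat_lit 32768) (Steps.bwd (nat_lit 2) (Steps.fwd (nat_lit 24576) (Steps.bwd (nat_lit 11) (Steps.fwd (nat_lit 57344) Steps.nil))))))))))))))))) (nat_lit 56) (nat_lit 10),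
  Rule.mk (nat_lit 8) (nat_lit 286) (Steps.bwd (nat_lit 11) (Steps.fwd (nat_lit 57344) (Steps.fwd (nat_lit 32768) (Steps.bwd (nat_lit 2) (Steps.fwd (nat_lit 24576) (Steps.bwd (nat_lit 11) (Steps.fwd (nat_lit 57344) (Steps.bwd (nat_lit 2) (Steps.fwd (nat_lit 81920) (Steps.fwd (nat_lit 16384) (Steps.fwd (nat_lit 81920) (Steps.bwd (nat_lit 2) (Steps.bwd (nat_lit 10) (Steps.bwd (nat_lit 1) (Steps.fwd (nat_lit 32768) (Steps.bwd (nat_lit 3) (Steps.bwd (nat_lit 9) Steps.nil))))))))))))))))) (nat_lit 56) (nat_lit 2),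
  Rule.mk (nat_lit 4) (nat_lit 62) (Steps.fwd (nat_lit 65536) (Steps.bwd (nat_lit 3) (Steps.bwd (nat_lit 8) Steps.nil))) (nat_lit 81) (nat_lit 2),
  Rule.mk (nat_lit 17) (nat_lit 110) (Steps.fwd (nat_lit 131072) (Steps.fwd (nat_lit 73728) (Steps.bwd (nat_lit 4) (Steps.fwd (nat_lit 73728) (Steps.fwd (nat_lit 90112) (Steps.bwd (nat_lit 15) Steps.nil)))))) (nat_lit 71) (nat_lit 3),
  Rule.mk (nat_lit 9) (nat_lit 110) (Steps.bwd (nat_lit 10) (Steps.bwd (nat_lit 9) (Steps.bwd (nat_lit 10) (Steps.bwd (nat_lit 4) (Steps.fwd (nat_lit 114688) (Steps.fwd (nat_lit 24576) Steps.nil)))))) (nat_lit 60) (nat_lit 1),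
  Rule.mk (nat_lit 3) (nat_lit 126) (Steps.bwd (nat_lit 10) (Steps.bwd (nat_lit 10) (Steps.fwd (nat_lit 139264) (Steps.fwd (nat_lit 114688) (Steps.fwd (nat_lit 114688) (Steps.fwd (nat_lit 24576) (Steps.fwd (nat_lit 114688) Steps.nil))))))) (nat_lit 53) (nat_lit 0),
  Rule.mk (nat_lit 17) (nat_lit 142) (Steps.bwd (nat_lit 1) (Steps.bwd (nat_lit 10) (Steps.fwd (nat_lit 98304) (Steps.fwd (nat_lit 114688) (Steps.fwd (nat_lit 139264) (Steps.bwd (nat_lit 10) (Steps.fwd (nat_lit 139264) (Steps.bwd (nat_lit 2) Steps.nil)))))))) (nat_lit 47) (nat_lit 8),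
  Rule.mk (nat_lit 9) (nat_lit 158) (Steps.bwd (nat_lit 1) (Steps.bwd (nat_lit 16) (Steps.bwd (nat_lit 10) (Steps.bwd (nat_lit 13) (Steps.fwd (nat_lit 8192) (Steps.fwd (nat_lit 24576) (Steps.fwd (nat_lit 24576) (Steps.fwd (nat_lit 73728) (Steps.fwd (nat_lit 122880) Steps.nil))))))))) (nat_lit 62) (nat_lit 3),
  Rule.mk (nat_lit 11) (nat_lit 110) (Steps.fwd (nat_lit 73728) (Steps.fwd (nat_lit 32768) (Steps.bwd (nat_lit 14) (Steps.bwd (nat_lit 3) (Steps.fwd (nat_lit 81920) (Steps.bwd (nat_lit 9) Steps.nil)))))) (nat_lit 61) (nat_lit 6),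
  Rule.mk (nat_lit 16) (nat_lit 126) (Steps.fwd (nat_lit 90112) (Steps.fwd (nat_lit 139264) (Steps.bwd (nat_lit 15) (Steps.fwd (nat_lit 98304) (Steps.fwd (nat_lit 24576) (Steps.bwd (nat_lit 12) (Steps.bwd (nat_lit 3) Steps.nil))))))) (nat_lit 50) (nat_lit 4),
  Rule.mk (nat_lit 12) (nat_lit 126) (Steps.fwd (nat_lit 122880) (Steps.fwd (nat_lit 131072) (Steps.fwd (nat_lit 81920) (Steps.bwd (nat_lit 17) (Steps.bwd (nat_lit 4) (Steps.bwd (nat_lit 13) (Steps.bwd (nat_lit 3) Steps.nil))))))) (nat_lit 51) (nat_lit 1),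
  Rule.mk (nat_lit 14) (nat_lit 110) (Steps.bwd (nat_lit 3) (Steps.bwd (nat_lit 11) (Steps.bwd (nat_lit 9) (Steps.bwd (nat_lit 11) (Steps.bwd (nat_lit 9) (Steps.bwd (nat_lit 3) Steps.nil)))))) (nat_lit 61) (nat_lit 2),
  Rule.mk (nat_lit 12) (nat_lit 126) (Steps.bwd (nat_lit 3) (Steps.bwd (nat_lit 16) (Steps.bwd (nat_lit 10) (Steps.fwd (nat_lit 139264) (Steps.bwd (nat_lit 15) (Steps.fwd (nat_lit 98304) (Steps.fwd (nat_lit 24576) Steps.nil))))))) (nat_lit 50) (nat_lit 2),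
  Rule.mk (nat_lit 13) (nat_lit 126) (Steps.bwd (nat_lit 3) (Steps.fwd (nat_lit 106496) (Steps.fwd (nat_lit 122880) (Steps.fwd (nat_lit 131072) (Steps.bwd (nat_lit 11) (Steps.fwd (nat_lit 131072) (Steps.fwd (nat_lit 24576) Steps.nil))))))) (nat_lit 51) (nat_lit 7),
  Rule.mk (nat_lit 10) (nat_lit 270) (Steps.bwd (nat_lit 3) (Steps.bwd (nat_lit 1) (Steps.fwd (nat_lit 24576) (Steps.bwd (nat_lit 4) (Steps.bwd (nat_lit 2) (Steps.fwd (nat_lit 65536) (Steps.fwd (nat_lit 73728) (Steps.fwd (nat_lit 24576) (Steps.fwd (nat_lit 106496) (Steps.fwd (nat_lit 8192) (Steps.bwd (nat_lit 9) (Steps.fwd (nat_lit 8192) (Steps.bwd (nat_lit 9) (Steps.fwd (nat_lit 8192) (Steps.bwd (nat_lit 18) (Steps.fwd (nat_lit 139264) Steps.nil)))))))))))))))) (nat_lit 76) (nat_lit 12),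
  Rule.mk (nat_lit 14) (nat_lit 110) (Steps.fwd (nat_lit 32768) (Steps.fwd (nat_lit 81920) (Steps.bwd (nat_lit 9) (Steps.fwd (nat_lit 81920) (Steps.fwd (nat_lit 73728) (Steps.bwd (nat_lit 3) Steps.nil)))))) (nat_lit 61) (nat_lit 2),
  Rule.mk (nat_lit 9) (nat_lit 110) (Steps.fwd (nat_lit 139264) (Steps.bwd (nat_lit 16) (Steps.bwd (nat_lit 14) (Steps.fwd (nat_lit 81920) (Steps.fwd (nat_lit 73728) (Steps.bwd (nat_lit 3) Steps.nil)))))) (nat_lit 70) (nat_lit 3),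
  Rule.mk (nat_lit 12) (nat_lit 126) (Steps.bwd (nat_lit 14) (Steps.bwd (nat_lit 17) (Steps.bwd (nat_lit 11) (Steps.fwd (nat_lit 131072) (Steps.fwd (nat_lit 24576) (Steps.fwd (nat_lit 98304) (Steps.bwd (nat_lit 3) Steps.nil))))))) (nat_lit 51) (nat_lit 1),
  Rule.mk (nat_lit 10) (nat_lit 126) (Steps.bwd (nat_lit 10) (Steps.fwd (nat_lit 139264) (Steps.bwd (nat_lit 15) (Steps.fwd (nat_lit 114688) (Steps.bwd (nat_lit 4) (Steps.bwd (nat_lit 15) (Steps.bwd (nat_lit 3) Steps.nil))))))) (nat_lit 53) (nat_lit 1),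
  Rule.mk (nat_lit 16) (nat_lit 94) (Steps.bwd (nat_lit 10) (Steps.bwd (nat_lit 18) (Steps.bwd (nat_lit 18) (Steps.fwd (nat_lit 131072) (Steps.fwd (nat_lit 81920) Steps.nil))))) (nat_lit 35) (nat_lit 5),
  Rule.mk (nat_lit 15) (nat_lit 126) (Steps.bwd (nat_lit 3) (Steps.bwd (nat_lit 10) (Steps.bwd (nat_lit 10) (Steps.fwd (nat_lit 139264) (Steps.bwd (nat_lit 15) (Steps.bwd (nat_lit 15) (Steps.fwd (nat_lit 24576) Steps.nil))))))) (nat_lit 53) (nat_lit 7),
  Rule.mk (nat_lit 10) (nat_lit 286) (Steps.bwd (nat_lit 3) (Steps.bwd (nat_lit 1) (Steps.fwd (nat_lit 24576) (Steps.fwd (nat_lit 65536) (Steps.fwd (nat_lit 90112) (Steps.fwd (nat_lit 65536) (Steps.fwd (nat_lit 73728) (Steps.fwd (nat_lit 24576) (Steps.fwd (nat_lit 24576) (Steps.bwd (nat_lit 2) (Steps.fwd (nat_lit 81920) (Steps.bwd (nat_lit 1) (Steps.fwd (nat_lit 90112) (Steps.bwd (nat_lit 2) (Steps.bwd (nat_lit 10) (Steps.bwd (nat_lit 1) (Steps.fwd (nat_lit 65536)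 Steps.nil))))))))))))))))) (nat_lit 57) (nat_lit 11),
  Rule.mk (nat_lit 2) (nat_lit 142) (Steps.bwd (nat_lit 16) (Steps.fwd (nat_lit 16384) (Steps.fwd (nat_lit 131072) (Steps.bwd (nat_lit 11) (Steps.bwd (nat_lit 17) (Steps.fwd (nat_lit 122880) (Steps.fwd (nat_lit 106496) (Steps.fwd (nat_lit 81920) Steps.nil)))))))) (nat_lit 46) (nat_lit 1),
  Rule.mk (nat_lit 3) (nat_lit 126) (Steps.bwd (nat_lit 10) (Steps.fwd (nat_lit 90112) (Steps.fwd (nat_lit 139264) (Steps.bwd (nat_lit 15) (Steps.bwd (nat_lit 15) (Steps.fwd (nat_lit 24576) (Steps.bwd (nat_lit 15) Steps.nil))))))) (nat_lit 53) (nat_lit 0),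
  Rule.mk (nat_lit 7) (nat_lit 286) (Steps.bwd (nat_lit 10) (Steps.fwd (nat_lit 32768) (Steps.bwd (nat_lit 1) (Steps.bwd (nat_lit 4) (Steps.fwd (nat_lit 65536) (Steps.fwd (nat_lit 90112) (Steps.fwd (nat_lit 65536) (Steps.bwd (nat_lit 9) (Steps.bwd (nat_lit 4) (Steps.fwd (nat_lit 24576) (Steps.bwd (nat_lit 2) (Steps.bwd (nat_lit 11) (Steps.fwd (nat_lit 16384) (Steps.fwd (nat_lit 90112) (Steps.bwd (nat_lit 2) (Steps.fwd (nat_lit 90112) (Steps.fwd (nat_lit 16384) Steps.nil))))))))))))))))) (nat_lit 57) (nat_lit 10),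
  Rule.mk (nat_lit 2) (nat_lit 286) (Steps.bwd (nat_lit 10) (Steps.fwd (nat_lit 16384) (Steps.bwd (nat_lit 7) (Steps.bwd (nat_lit 10) (Steps.fwd (nat_lit 32768) (Steps.fwd (nat_lit 16384) (Steps.bwd (nat_lit 4) (Steps.fwd (nat_lit 65536) (Steps.fwd (nat_lit 90112) (Steps.bwd (nat_lit 7) (Steps.bwd (nat_lit 9) (Steps.fwd (nat_lit 24576) (Steps.bwd (nat_lit 4) (Steps.fwd (nat_lit 8192) (Steps.fwd (nat_lit 81920) (Steps.fwd (nat_lit 16384) (Steps.bwd (nat_lit 10) Steps.nil))))))))))))))))) (nat_lit 57) (nat_lit 7),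
  Rule.mk (nat_lit 15) (nat_lit 126) (Steps.bwd (nat_lit 13) (Steps.fwd (nat_lit 24576) (Steps.bwd (nat_lit 12) (Steps.fwd (nat_lit 32768) (Steps.bwd (nat_lit 16) (Steps.bwd (nat_lit 10) (Steps.bwd (nat_lit 16) Steps.nil))))))) (nat_lit 50) (nat_lit 7),
  Rule.mk (nat_lit 10) (nat_lit 142) (Steps.bwd (nat_lit 13) (Steps.bwd (nat_lit 15) (Steps.fwd (nat_lit 139264) (Steps.bwd (nat_lit 10) (Steps.fwd (nat_lit 139264) (Steps.bwd (nat_lit 2) (Steps.bwd (nat_lit 17) (Steps.bwd (nat_lit 1) Steps.nil)))))))) (nat_lit 47) (nat_lit 1),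
  Rule.mk (nat_lit 9) (nat_lit 190) (Steps.bwd (nat_lit 13) (Steps.fwd (nat_lit 73728) (Steps.fwd (nat_lit 106496) (Steps.bwd (nat_lit 17) (Steps.bwd (nat_lit 1) (Steps.bwd (nat_lit 14) (Steps.fwd (nat_lit 16384) (Steps.bwd (nat_lit 1) (Steps.fwd (nat_lit 16384) (Steps.bwd (nat_lit 9) (Steps.bwd (nat_lit 12) Steps.nil))))))))))) (nat_lit 74) (nat_lit 3),
  Rule.mk (nat_lit 12) (nat_lit 190) (Steps.bwd (nat_lit 9) (Steps.bwd (nat_lit 13) (Steps.fwd (nat_lit 73728) (Steps.fwd (nat_lit 8192) (Steps.bwd (nat_lit 2) (Steps.bwd (nat_lit 2) (Steps.bwd (nat_lit 15) (Steps.bwd (nat_lit 2) (Steps.bwd (nat_lit 16) (Steps.fwd (nat_lit 98304) (Steps.bwd (nat_lit 9) Steps.nil))))))))))) (nat_lit 75) (nat_lit 9),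
  Rule.mk (nat_lit 3) (nat_lit 126) (Steps.bwd (nat_lit 12) (Steps.bwd (nat_lit 14) (Steps.bwd (nat_lit 17) (Steps.fwd (nat_lit 81920) (Steps.bwd (nat_lit 17) (Steps.fwd (nat_lit 24576) (Steps.bwd (nat_lit 13) Steps.nil))))))) (nat_lit 51) (nat_lit 0),
  Rule.mk (nat_lit 9) (nat_lit 110) (Steps.bwd (nat_lit 10) (Steps.bwd (nat_lit 9) (Steps.fwd (nat_lit 90112) (Steps.bwd (nat_lit 4) (Steps.fwd (nat_lit 114688) (Steps.fwd (nat_lit 24576) Steps.nil)))))) (nat_lit 60) (nat_lit 1),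
  Rule.mk (nat_lit 2) (nat_lit 286) (Steps.bwd (nat_lit 10) (Steps.fwd (nat_lit 16384) (Steps.bwd (nat_lit 3) (Steps.fwd (nat_lit 32768) (Steps.fwd (nat_lit 73728) (Steps.fwd (nat_lit 57344) (Steps.bwd (nat_lit 11) (Steps.bwd (nat_lit 8) (Steps.bwd (nat_lit 3) (Steps.fwd (nat_lit 8192) (Steps.bwd (nat_lit 4) (Steps.fwd (nat_lit 81920) (Steps.fwd (nat_lit 57344) (Steps.fwd (nat_lit 8192) (Steps.fwd (nat_lit 81920) (Steps.bwd (nat_lit 1) (Steps.bwd (nat_lit 11) Steps.nil))))))))))))))))) (nat_lit 56) (nat_lit 14),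
  Rule.mk (nat_lit 16) (nat_lit 142) (Steps.fwd (nat_lit 16384) (Steps.fwd (nat_lit 131072) (Steps.bwd (nat_lit 11) (Steps.fwd (nat_lit 131072) (Steps.fwd (nat_lit 122880) (Steps.fwd (nat_lit 106496) (Steps.bwd (nat_lit 11) (Steps.bwd (nat_lit 2) Steps.nil)))))))) (nat_lit 46) (nat_lit 2),
  Rule.mk (nat_lit 14) (nat_lit 110) (Steps.bwd (nat_lit 2) (Steps.bwd (nat_lit 14) (Steps.fwd (nat_lit 16384) (Steps.fwd (nat_lit 131072) (Steps.fwd (nat_lit 81920) (Steps.fwd (nat_lit 122880) Steps.nil)))))) (nat_lit 44) (nat_lit 0),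
  Rule.mk (nat_lit 17) (nat_lit 158) (Steps.bwd (nat_lit 2) (Steps.fwd (nat_lit 73728) (Steps.fwd (nat_lit 114688) (Steps.bwd (nat_lit 9) (Steps.bwd (nat_lit 3) (Steps.fwd (nat_lit 32768) (Steps.bwd (nat_lit 1) (Steps.fwd (nat_lit 106496) (Steps.fwd (nat_lit 81920) Steps.nil))))))))) (nat_lit 63) (nat_lit 6),
  Rule.mk (nat_lit 3) (nat_lit 190) (Steps.bwd (nat_lit 2) (Steps.bwd (nat_lit 4) (Steps.bwd (nat_lit 1) (Steps.bwd (nat_lit 3) (Steps.bwd (nat_lit 2) (Steps.fwd (nat_lit 24576) (Steps.bwd (nat_lit 1) (Steps.fwd (nat_lit 32768) (Steps.bwd (nat_lit 2) (Steps.fwd (nat_lit 24576) (Steps.bwd (nat_lit 1) Steps.nil))))))))))) (nat_lit 8) (nat_lit 0),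
  Rule.mk (nat_lit 9) (nat_lit 206) (Steps.bwd (nat_lit 2) (Steps.bwd (nat_lit 3) (Steps.fwd (nat_lit 8192) (Steps.bwd (nat_lit 4) (Steps.fwd (nat_lit 24576) (Steps.bwd (nat_lit 2) (Steps.bwd (nat_lit 9) (Steps.fwd (nat_lit 16384) (Steps.bwd (nat_lit 1) (Steps.bwd (nat_lit 10) (Steps.fwd (nat_lit 155648) (Steps.bwd (nat_lit 17) Steps.nil)))))))))))) (nat_lit 73) (nat_lit 6),
  Rule.mk (nat_lit 18) (nat_lit 110) (Steps.fwd (nat_lit 73728) (Steps.bwd (nat_lit 16) (Steps.bwd (nat_lit 11) (Steps.fwd (nat_lit 122880) (Steps.bwd (nat_lit 11) (Steps.bwd (nat_lit 9) Steps.nil)))))) (nat_lit 66) (nat_lit 2),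
  Rule.mk (nat_lit 14) (nat_lit 158) (Steps.fwd (nat_lit 73728) (Steps.fwd (nat_lit 16384) (Steps.bwd (nat_lit 16) (Steps.bwd (nat_lit 10) (Steps.fwd (nat_lit 98304) (Steps.fwd (nat_lit 8192) (Steps.bwd (nat_lit 4) (Steps.bwd (nat_lit 4) (Steps.bwd (nat_lit 9) Steps.nil))))))))) (nat_lit 62) (nat_lit 2),
  Rule.mk (nat_lit 8) (nat_lit 286) (Steps.fwd (nat_lit 81920) (Steps.bwd (nat_lit 8) (Steps.fwd (nat_lit 32768) (Steps.fwd (nat_lit 8192) (Steps.bwd (nat_lit 4) (Steps.fwd (nat_lit 81920) (Steps.fwd (nat_lit 57344) (Steps.bwd (nat_lit 2) (Steps.fwd (nat_lit 81920) (Steps.fwd (nat_lit 16384) (Steps.fwd (nat_lit 81920) (Steps.bwd (nat_lit 2) (Steps.fwd (nat_lit 90112) (Steps.bwd (nat_lit 1) (Steps.bwd (nat_lit 3) (Steps.fwd (nat_lit 32768) (Steps.bwd (nat_lit 9) Steps.nil))))))))))))))))) (nat_lit 56) (nat_lit 2),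
  Rule.mk (nat_lit 19) (nat_lit 126) (Steps.bwd (nat_lit 8) (Steps.bwd (nat_lit 18) (Steps.bwd (nat_lit 8) (Steps.fwd (nat_lit 147456) (Steps.fwd (nat_lit 57344) (Steps.bwd (nat_lit 1) (Steps.fwd (nat_lit 16384) Steps.nil))))))) (nat_lit 87) (nat_lit 3),
  Rule.mk (nat_lit 9) (nat_lit 270) (Steps.bwd (nat_lit 8) (Steps.fwd (nat_lit 16384) (Steps.fwd (nat_lit 32768) (Steps.fwd (nat_lit 32768) (Steps.fwd (nat_lit 8192) (Steps.bwd (nat_lit 4) (Steps.fwd (nat_lit 81920) (Steps.fwd (nat_lit 131072) (Steps.bwd (nat_lit 19) (Steps.fwd (nat_lit 16384) (Steps.fwd (nat_lit 73728) (Steps.bwd (nat_lit 1) (Steps.bwd (nat_lit 9) (Steps.fwd (nat_lit 16384) (Steps.fwd (nat_lit 98304) (Steps.fwd (nat_lit 32768) Steps.nil)))))))))))))))) (nat_lit 77) (nat_lit 16),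
  Rule.mk (nat_lit 11) (nat_lit 110) (Steps.fwd (nat_lit 73728) (Steps.fwd (nat_lit 32768) (Steps.fwd (nat_lit 122880) (Steps.fwd (nat_lit 32768) (Steps.bwd (nat_lit 11) (Steps.bwd (nat_lit 9) Steps.nil)))))) (nat_lit 61) (nat_lit 6),
  Rule.mk (nat_lit 12) (nat_lit 190) (Steps.bwd (nat_lit 17) (Steps.fwd (nat_lit 16384) (Steps.fwd (nat_lit 122880) (Steps.bwd (nat_lit 1) (Steps.fwd (nat_lit 16384) (Steps.fwd (nat_lit 16384) (Steps.fwd (nat_lit 73728) (Steps.fwd (nat_lit 106496) (Steps.bwd (nat_lit 9) (Steps.bwd (nat_lit 13) (Steps.bwd (nat_lit 9) Steps.nil))))))))))) (nat_lit 74) (nat_lit 6),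
  Rule.mk (nat_lit 13) (nat_lit 190) (Steps.bwd (nat_lit 9) (Steps.fwd (nat_lit 106496) (Steps.fwd (nat_lit 131072) (Steps.bwd (nat_lit 1) (Steps.fwd (nat_lit 122880) (Steps.bwd (nat_lit 1) (Steps.bwd (nat_lit 1) (Steps.fwd (nat_lit 16384) (Steps.bwd (nat_lit 9) (Steps.fwd (nat_lit 106496) (Steps.bwd (nat_lit 9) Steps.nil))))))))))) (nat_lit 74) (nat_lit 4),
  Rule.mk (nat_lit 3) (nat_lit 110) (Steps.bwd (nat_lit 11) (Steps.fwd (nat_lit 73728) (Steps.bwd (nat_lit 11) (Steps.bwd (nat_lit 9) (Steps.fwd (nat_lit 32768) (Steps.bwd (nat_lit 14) Steps.nil)))))) (nat_lit 61) (nat_lit 3),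
  Rule.mk (nat_lit 12) (nat_lit 142) (Steps.bwd (nat_lit 11) (Steps.fwd (nat_lit 8192) (Steps.bwd (nat_lit 16) (Steps.bwd (nat_lit 1) (Steps.fwd (nat_lit 131072) (Steps.fwd (nat_lit 81920) (Steps.bwd (nat_lit 17) (Steps.bwd (nat_lit 14) Steps.nil)))))))) (nat_lit 46) (nat_lit 8),
  Rule.mk (nat_lit 1) (nat_lit 158) (Steps.bwd (nat_lit 16) (Steps.fwd (nat_lit 90112) (Steps.fwd (nat_lit 98304) (Steps.fwd (nat_lit 8192) (Steps.bwd (nat_lit 4) (Steps.fwd (nat_lit 24576) (Steps.bwd (nat_lit 9) (Steps.fwd (nat_lit 122880) (Steps.bwd (nat_lit 9) Steps.nil))))))))) (nat_lit 62) (nat_lit 4),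
  Rule.mk (nat_lit 2) (nat_lit 190) (Steps.bwd (nat_lit 16) (Steps.bwd (nat_lit 13) (Steps.fwd (nat_lit 73728) (Steps.fwd (nat_lit 106496) (Steps.bwd (nat_lit 9) (Steps.fwd (nat_lit 98304) (Steps.bwd (nat_lit 9) (Steps.bwd (nat_lit 2) (Steps.fwd (nat_lit 8192) (Steps.bwd (nat_lit 2) (Steps.fwd (nat_lit 114688) Steps.nil))))))))))) (nat_lit 75) (nat_lit 5),
  Rule.mk (nat_lit 10) (nat_lit 286) (Steps.fwd (nat_lit 16384) (Steps.fwd (nat_lit 65536) (Steps.bwd (nat_lit 10) (Steps.fwd (nat_lit 32768) (Steps.bwd (nat_lit 1) (Steps.fwd (nat_lit 24576) (Steps.fwd (nat_lit 65536) (Steps.fwd (nat_lit 90112) (Steps.bwd (nat_lit 7) (Steps.bwd (nat_lit 9) (Steps.fwd (nat_lit 24576) (Steps.bwd (nat_lit 4) (Steps.bwd (nat_lit 2) (Steps.fwd (nat_lit 81920) (Steps.fwd (nat_lit 16384) (Steps.fwd (nat_lit 90112) (Steps.bwd (nat_lit 2) Steps.nil))))))))))))))))) (nat_lit 57) (nat_lit 8),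
  Rule.mk (nat_lit 15) (nat_lit 110) (Steps.bwd (nat_lit 1) (Steps.fwd (nat_lit 114688) (Steps.fwd (nat_lit 114688) (Steps.fwd (nat_lit 90112) (Steps.fwd (nat_lit 139264) (Steps.fwd (nat_lit 8192) Steps.nil)))))) (nat_lit 45) (nat_lit 6),
  Rule.mk (nat_lit 3) (nat_lit 126) (Steps.bwd (nat_lit 1) (Steps.bwd (nat_lit 3) (Steps.bwd (nat_lit 1) (Steps.bwd (nat_lit 3) (Steps.bwd (nat_lit 1) (Steps.fwd (nat_lit 32768) (Steps.fwd (nat_lit 16384) Steps.nil))))))) (nat_lit 4) (nat_lit 0),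
  Rule.mk (nat_lit 4) (nat_lit 190) (Steps.bwd (nat_lit 1) (Steps.bwd (nat_lit 3) (Steps.bwd (nat_lit 2) (Steps.fwd (nat_lit 24576) (Steps.fwd (nat_lit 16384) (Steps.fwd (nat_lit 32768) (Steps.bwd (nat_lit 2) (Steps.fwd (nat_lit 24576) (Steps.bwd (nat_lit 1) (Steps.bwd (nat_lit 3) (Steps.fwd (nat_lit 8192) Steps.nil))))))))))) (nat_lit 8) (nat_lit 2)]
noncomputable def R_115 : List (Rule) := [Rule.mk (nat_lit 8) (nat_lit 270) (Steps.bwd (nat_lit 1) (Steps.bwd (nat_lit 3) (Steps.fwd (nat_lit 32768) (Steps.bwd (nat_lit 2) (Steps.bwd (nat_lit 4) (Steps.fwd (nat_lit 81920) (Steps.fwd (nat_lit 131072) (Steps.bwd (nat_lit 19) (Steps.bwd (nat_lit 1) (Steps.bwd (nat_lit 9) (Steps.fwd (nat_lit 16384) (Steps.fwd (nat_lit 73728) (Steps.fwd (nat_lit 16384) (Steps.fwd (nat_lit 98304) (Steps.bwd (nat_lit 3) (Steps.fwd (nat_lit 73728) Steps.nil)))))))))))))))) (nat_lit 77) (nat_lit 0),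
  Rule.mk (nat_lit 11) (nat_lit 286) (Steps.bwd (nat_lit 8) (Steps.bwd (nat_lit 2) (Steps.fwd (nat_lit 81920) (Steps.bwd (nat_lit 1) (Steps.fwd (nat_lit 81920) (Steps.bwd (nat_lit 2) (Steps.fwd (nat_lit 90112) (Steps.bwd (nat_lit 1) (Steps.bwd (nat_lit 3) (Steps.fwd (nat_lit 32768) (Steps.bwd (nat_lit 9) (Steps.fwd (nat_lit 57344) (Steps.bwd (nat_lit 11) (Steps.fwd (nat_lit 57344) (Steps.bwd (nat_lit 3) (Steps.fwd (nat_lit 8192) (Steps.bwd (nat_lit 4) Steps.nil))))))))))))))))) (nat_lit 56) (nat_lit 8),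
  Rule.mk (nat_lit 11) (nat_lit 110) (Steps.fwd (nat_lit 73728) (Steps.fwd (nat_lit 81920) (Steps.fwd (nat_lit 73728) (Steps.bwd (nat_lit 3) (Steps.bwd (nat_lit 14) (Steps.bwd (nat_lit 3) Steps.nil)))))) (nat_lit 61) (nat_lit 4),
  Rule.mk (nat_lit 16) (nat_lit 126) (Steps.fwd (nat_lit 90112) (Steps.fwd (nat_lit 139264) (Steps.fwd (nat_lit 114688) (Steps.bwd (nat_lit 13) (Steps.bwd (nat_lit 4) (Steps.bwd (nat_lit 12) (Steps.bwd (nat_lit 3) Steps.nil))))))) (nat_lit 50) (nat_lit 4),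
  Rule.mk (nat_lit 12) (nat_lit 126) (Steps.bwd (nat_lit 14) (Steps.fwd (nat_lit 131072) (Steps.fwd (nat_lit 81920) (Steps.fwd (nat_lit 131072) (Steps.bwd (nat_lit 4) (Steps.fwd (nat_lit 98304) (Steps.bwd (nat_lit 3) Steps.nil))))))) (nat_lit 51) (nat_lit 1),
  Rule.mk (nat_lit 11) (nat_lit 110) (Steps.fwd (nat_lit 73728) (Steps.bwd (nat_lit 11) (Steps.bwd (nat_lit 9) (Steps.fwd (nat_lit 32768) (Steps.fwd (nat_lit 122880) (Steps.bwd (nat_lit 3) Steps.nil)))))) (nat_lit 61) (nat_lit 4),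
  Rule.mk (nat_lit 2) (nat_lit 190) (Steps.fwd (nat_lit 24576) (Steps.bwd (nat_lit 1) (Steps.bwd (nat_lit 3) (Steps.bwd (nat_lit 2) (Steps.fwd (nat_lit 24576) (Steps.bwd (nat_lit 1) (Steps.fwd (nat_lit 32768) (Steps.fwd (nat_lit 8192) (Steps.fwd (nat_lit 24576) (Steps.fwd (nat_lit 16384) (Steps.bwd (nat_lit 3) Steps.nil))))))))))) (nat_lit 8) (nat_lit 1),
  Rule.mk (nat_lit 17) (nat_lit 126) (Steps.fwd (nat_lit 24576) (Steps.fwd (nat_lit 98304) (Steps.bwd (nat_lit 3) (Steps.bwd (nat_lit 12) (Steps.fwd (nat_lit 122880) (Steps.bwd (nat_lit 17) (Steps.bwd (nat_lit 11) Steps.nil))))))) (nat_lit 51) (nat_lit 5),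
  Rule.mk (nat_lit 14) (nat_lit 158) (Steps.bwd (nat_lit 9) (Steps.bwd (nat_lit 1) (Steps.fwd (nat_lit 139264) (Steps.bwd (nat_lit 10) (Steps.bwd (nat_lit 13) (Steps.bwd (nat_lit 2) (Steps.bwd (nat_lit 4) (Steps.fwd (nat_lit 24576) (Steps.fwd (nat_lit 73728) Steps.nil))))))))) (nat_lit 62) (nat_lit 2),
  Rule.mk (nat_lit 15) (nat_lit 158) (Steps.bwd (nat_lit 9) (Steps.fwd (nat_lit 32768) (Steps.bwd (nat_lit 3) (Steps.bwd (nat_lit 1) (Steps.bwd (nat_lit 12) (Steps.bwd (nat_lit 11) (Steps.fwd (nat_lit 131072) (Steps.bwd (nat_lit 2) (Steps.bwd (nat_lit 9) Steps.nil))))))))) (nat_lit 63) (nat_lit 9),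
  Rule.mk (nat_lit 2) (nat_lit 158) (Steps.bwd (nat_lit 9) (Steps.fwd (nat_lit 114688) (Steps.bwd (nat_lit 9) (Steps.fwd (nat_lit 32768) (Steps.bwd (nat_lit 3) (Steps.bwd (nat_lit 1) (Steps.fwd (nat_lit 106496) (Steps.fwd (nat_lit 81920) (Steps.bwd (nat_lit 17) Steps.nil))))))))) (nat_lit 63) (nat_lit 7),
  Rule.mk (nat_lit 13) (nat_lit 190) (Steps.bwd (nat_lit 9) (Steps.fwd (nat_lit 106496) (Steps.bwd (nat_lit 17) (Steps.fwd (nat_lit 16384) (Steps.fwd (nat_lit 122880) (Steps.fwd (nat_lit 16384) (Steps.bwd (nat_lit 1) (Steps.fwd (nat_lit 16384) (Steps.bwd (nat_lit 9) (Steps.fwd (nat_lit 106496) (Steps.bwd (nat_lit 9) Steps.nil))))))))))) (nat_lit 74) (nat_lit 4),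
  Rule.mk (nat_lit 12) (nat_lit 190) (Steps.bwd (nat_lit 9) (Steps.fwd (nat_lit 98304) (Steps.bwd (nat_lit 9) (Steps.bwd (nat_lit 12) (Steps.bwd (nat_lit 17) (Steps.fwd (nat_lit 16384) (Steps.bwd (nat_lit 14) (Steps.fwd (nat_lit 16384) (Steps.bwd (nat_lit 1) (Steps.fwd (nat_lit 16384) (Steps.fwd (nat_lit 73728) Steps.nil))))))))))) (nat_lit 74) (nat_lit 2),
  Rule.mk (nat_lit 7) (nat_lit 286) (Steps.bwd (nat_lit 9) (Steps.bwd (nat_lit 4) (Steps.bwd (nat_lit 4) (Steps.bwd (nat_lit 2) (Steps.bwd (nat_lit 11) (Steps.fwd (nat_lit 16384) (Steps.fwd (nat_lit 90112) (Steps.fwd (nat_lit 8192) (Steps.bwd (nat_lit 10) (Steps.bwd (nat_lit 1) (Steps.bwd (nat_lit 7) (Steps.fwd (nat_lit 90112) (Steps.bwd (nat_lit 3) (Steps.fwd (nat_lit 16384) (Steps.bwd (nat_lit 4) (Steps.fwd (nat_lit 65536) (Steps.bwd (nat_lit 10) Steps.nil))))))))))))))))) (nat_lit 57) (nat_lit 17),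
  Rule.mk (nat_lit 3) (nat_lit 126) (Steps.bwd (nat_lit 16) (Steps.fwd (nat_lit 90112) (Steps.bwd (nat_lit 16) (Steps.bwd (nat_lit 15) (Steps.bwd (nat_lit 13) (Steps.bwd (nat_lit 4) (Steps.fwd (nat_lit 106496) Steps.nil))))))) (nat_lit 50) (nat_lit 3),
  Rule.mk (nat_lit 2) (nat_lit 142) (Steps.bwd (nat_lit 16) (Steps.fwd (nat_lit 16384) (Steps.bwd (nat_lit 17) (Steps.bwd (nat_lit 11) (Steps.fwd (nat_lit 131072) (Steps.fwd (nat_lit 122880) (Steps.fwd (nat_lit 106496) (Steps.fwd (nat_lit 81920) Steps.nil)))))))) (nat_lit 46) (nat_lit 1),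
  Rule.mk (nat_lit 1) (nat_lit 158) (Steps.bwd (nat_lit 16) (Steps.fwd (nat_lit 90112) (Steps.fwd (nat_lit 98304) (Steps.fwd (nat_lit 8192) (Steps.fwd (nat_lit 24576) (Steps.bwd (nat_lit 4) (Steps.bwd (nat_lit 9) (Steps.fwd (nat_lit 122880) (Steps.fwd (nat_lit 73728) Steps.nil))))))))) (nat_lit 62) (nat_lit 4),
  Rule.mk (nat_lit 7) (nat_lit 126) (Steps.bwd (nat_lit 19) (Steps.bwd (nat_lit 7) (Steps.bwd (nat_lit 18) (Steps.bwd (nat_lit 2) (Steps.bwd (nat_lit 2) (Steps.bwd (nat_lit 7) (Steps.bwd (nat_lit 18) Steps.nil))))))) (nat_lit 86) (nat_lit 3),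
  Rule.mk (nat_lit 1) (nat_lit 126) (Steps.bwd (nat_lit 19) (Steps.bwd (nat_lit 8) (Steps.bwd (nat_lit 18) (Steps.fwd (nat_lit 57344) (Steps.bwd (nat_lit 19) (Steps.bwd (nat_lit 8) (Steps.bwd (nat_lit 1) Steps.nil))))))) (nat_lit 87) (nat_lit 2),
  Rule.mk (nat_lit 10) (nat_lit 110) (Steps.fwd (nat_lit 73728) (Steps.bwd (nat_lit 10) (Steps.bwd (nat_lit 4) (Steps.fwd (nat_lit 114688) (Steps.fwd (nat_lit 24576) (Steps.bwd (nat_lit 9) Steps.nil)))))) (nat_lit 60) (nat_lit 2),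
  Rule.mk (nat_lit 1) (nat_lit 158) (Steps.bwd (nat_lit 16) (Steps.bwd (nat_lit 10) (Steps.fwd (nat_lit 98304) (Steps.bwd (nat_lit 2) (Steps.fwd (nat_lit 24576) (Steps.bwd (nat_lit 4) (Steps.bwd (nat_lit 9) (Steps.bwd (nat_lit 14) (Steps.bwd (nat_lit 9) Steps.nil))))))))) (nat_lit 62) (nat_lit 4),
  Rule.mk (nat_lit 15) (nat_lit 158) (Steps.fwd (nat_lit 73728) (Steps.bwd (nat_lit 3) (Steps.fwd (nat_lit 32768) (Steps.bwd (nat_lit 1) (Steps.bwd (nat_lit 12) (Steps.fwd (nat_lit 81920) (Steps.fwd (nat_lit 131072) (Steps.bwd (nat_lit 2) (Steps.bwd (nat_lit 9) Steps.nil))))))))) (nat_lit 63) (nat_lit 9),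
  Rule.mk (nat_lit 2) (nat_lit 190) (Steps.bwd (nat_lit 2) (Steps.bwd (nat_lit 2) (Steps.fwd (nat_lit 114688) (Steps.bwd (nat_lit 2) (Steps.fwd (nat_lit 139264) (Steps.bwd (nat_lit 13) (Steps.bwd (nat_lit 9) (Steps.fwd (nat_lit 106496) (Steps.fwd (nat_lit 73728) (Steps.bwd (nat_lit 13) (Steps.bwd (nat_lit 9) Steps.nil))))))))))) (nat_lit 75) (nat_lit 1),
  Rule.mk (nat_lit 13) (nat_lit 126) (Steps.bwd (nat_lit 3) (Steps.bwd (nat_lit 12) (Steps.fwd (nat_lit 122880) (Steps.fwd (nat_lit 131072) (Steps.bwd (nat_lit 11) (Steps.fwd (nat_lit 131072) (Steps.bwd (nat_lit 4) Steps.nil))))))) (nat_lit 51) (nat_lit 7),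
  Rule.mk (nat_lit 15) (nat_lit 126) (Steps.bwd (nat_lit 3) (Steps.fwd (nat_lit 90112) (Steps.bwd (nat_lit 10) (Steps.fwd (nat_lit 139264) (Steps.bwd (nat_lit 15) (Steps.bwd (nat_lit 15) (Steps.bwd (nat_lit 4) Steps.nil))))))) (nat_lit 53) (nat_lit 7),
  Rule.mk (nat_lit 1) (nat_lit 206) (Steps.bwd (nat_lit 3) (Steps.bwd (nat_lit 3) (Steps.fwd (nat_lit 16384) (Steps.bwd (nat_lit 4) (Steps.fwd (nat_lit 16384) (Steps.fwd (nat_lit 90112) (Steps.fwd (nat_lit 155648) (Steps.bwd (nat_lit 17) (Steps.fwd (nat_lit 73728) (Steps.bwd (nat_lit 2) (Steps.bwd (nat_lit 2) (Steps.fwd (nat_lit 73728) Steps.nil)))))))))))) (nat_lit 69) (nat_lit 1),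
  Rule.mk (nat_lit 12) (nat_lit 126) (Steps.fwd (nat_lit 122880) (Steps.bwd (nat_lit 17) (Steps.bwd (nat_lit 11) (Steps.fwd (nat_lit 131072) (Steps.fwd (nat_lit 24576) (Steps.bwd (nat_lit 13) (Steps.bwd (nat_lit 3) Steps.nil))))))) (nat_lit 51) (nat_lit 1),
  Rule.mk (nat_lit 9) (nat_lit 270) (Steps.bwd (nat_lit 8) (Steps.fwd (nat_lit 16384) (Steps.bwd (nat_lit 3) (Steps.fwd (nat_lit 32768) (Steps.fwd (nat_lit 8192) (Steps.fwd (nat_lit 24576) (Steps.bwd (nat_lit 11) (Steps.fwd (nat_lit 131072) (Steps.bwd (nat_lit 19) (Steps.bwd (nat_lit 1) (Steps.fwd (nat_lit 73728) (Steps.fwd (nat_lit 16384) (Steps.fwd (nat_lit 73728) (Steps.bwd (nat_lit 1) (Steps.bwd (nat_lit 13) (Steps.bwd (nat_lit 3) Steps.nil)))))))))))))))) (nat_lit 77) (nat_lit 16),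
  Rule.mk (nat_lit 2) (nat_lit 126) (Steps.bwd (nat_lit 4) (Steps.bwd (nat_lit 2) (Steps.fwd (nat_lit 24576) (Steps.fwd (nat_lit 8192) (Steps.bwd (nat_lit 4) (Steps.bwd (nat_lit 2) (Steps.fwd (nat_lit 24576) Steps.nil))))))) (nat_lit 5) (nat_lit 0),
  Rule.mk (nat_lit 13) (nat_lit 126) (Steps.bwd (nat_lit 4) (Steps.fwd (nat_lit 106496) (Steps.fwd (nat_lit 32768) (Steps.bwd (nat_lit 16) (Steps.bwd (nat_lit 10) (Steps.fwd (nat_lit 139264) (Steps.bwd (nat_lit 15) Steps.nil))))))) (nat_lit 50) (nat_lit 0),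
  Rule.mk (nat_lit 14) (nat_lit 190) (Steps.bwd (nat_lit 1) (Steps.fwd (nat_lit 16384) (Steps.fwd (nat_lit 16384) (Steps.bwd (nat_lit 9) (Steps.fwd (nat_lit 106496) (Steps.bwd (nat_lit 9) (Steps.fwd (nat_lit 98304) (Steps.fwd (nat_lit 73728) (Steps.fwd (nat_lit 106496) (Steps.bwd (nat_lit 17) (Steps.fwd (nat_lit 16384) Steps.nil))))))))))) (nat_lit 74) (nat_lit 9),
  Rule.mk (nat_lit 9) (nat_lit 206) (Steps.bwd (nat_lit 1) (Steps.fwd (nat_lit 16384) (Steps.bwd (nat_lit 9) (Steps.bwd (nat_lit 16) (Steps.bwd (nat_lit 19) (Steps.bwd (nat_lit 11) (Steps.bwd (nat_lit 2) (Steps.fwd (nat_lit 32768) (Steps.fwd (nat_lit 8192) (Steps.bwd (nat_lit 4) (Steps.bwd (nat_lit 4) (Steps.fwd (nat_lit 8192) Steps.nil)))))))))))) (nat_lit 68) (nat_lit 1),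
  Rule.mk (nat_lit 11) (nat_lit 286) (Steps.bwd (nat_lit 1) (Steps.fwd (nat_lit 90112) (Steps.bwd (nat_lit 2) (Steps.fwd (nat_lit 90112) (Steps.fwd (nat_lit 16384) (Steps.fwd (nat_lit 65536) (Steps.bwd (nat_lit 10) (Steps.bwd (nat_lit 3) (Steps.fwd (nat_lit 16384) (Steps.fwd (nat_lit 24576) (Steps.fwd (nat_lit 65536) (Steps.bwd (nat_lit 10) (Steps.bwd (nat_lit 7) (Steps.bwd (nat_lit 9) (Steps.fwd (nat_lit 24576) (Steps.bwd (nat_lit 4) (Steps.fwd (nat_lit 8192) Steps.nil))))))))))))))))) (nat_lit 57) (nat_lit 4),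
  Rule.mk (nat_lit 17) (nat_lit 142) (Steps.bwd (nat_lit 14) (Steps.fwd (nat_lit 106496) (Steps.bwd (nat_lit 11) (Steps.bwd (nat_lit 2) (Steps.bwd (nat_lit 16) (Steps.bwd (nat_lit 1) (Steps.fwd (nat_lit 131072) (Steps.bwd (nat_lit 11) Steps.nil)))))))) (nat_lit 46) (nat_lit 6),
  Rule.mk (nat_lit 8) (nat_lit 286) (Steps.bwd (nat_lit 2) (Steps.fwd (nat_lit 81920) (Steps.bwd (nat_lit 1) (Steps.fwd (nat_lit 81920) (Steps.fwd (nat_lit 8192) (Steps.bwd (nat_lit 10) (Steps.bwd (nat_lit 1) (Steps.fwd (nat_lit 32768) (Steps.bwd (nat_lit 3) (Steps.bwd (nat_lit 9) (Steps.bwd (nat_lit 8) (Steps.fwd (nat_lit 81920) (Steps.bwd (nat_lit 8) (Steps.bwd (nat_lit 3) (Steps.bwd (nat_lit 2) (Steps.bwd (nat_lit 4) (Steps.bwd (nat_lit 11) Steps.nil))))))))))))))))) (nat_lit 56) (nat_lit 9),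
  Rule.mk (nat_lit 8) (nat_lit 158) (Steps.bwd (nat_lit 19) (Steps.bwd (nat_lit 8) (Steps.bwd (nat_lit 19) (Steps.bwd (nat_lit 8) (Steps.bwd (nat_lit 19) (Steps.fwd (nat_lit 57344) (Steps.bwd (nat_lit 19) (Steps.fwd (nat_lit 57344) (Steps.fwd (nat_lit 147456) Steps.nil))))))))) (nat_lit 85) (nat_lit 0),
  Rule.mk (nat_lit 15) (nat_lit 126) (Steps.bwd (nat_lit 3) (Steps.bwd (nat_lit 10) (Steps.fwd (nat_lit 90112) (Steps.fwd (nat_lit 139264) (Steps.bwd (nat_lit 15) (Steps.fwd (nat_lit 114688) (Steps.fwd (nat_lit 24576) Steps.nil))))))) (nat_lit 53) (nat_lit 7),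
  Rule.mk (nat_lit 12) (nat_lit 142) (Steps.bwd (nat_lit 11) (Steps.fwd (nat_lit 8192) (Steps.bwd (nat_lit 16) (Steps.bwd (nat_lit 1) (Steps.bwd (nat_lit 17) (Steps.fwd (nat_lit 81920) (Steps.fwd (nat_lit 131072) (Steps.bwd (nat_lit 14) Steps.nil)))))))) (nat_lit 46) (nat_lit 8),
  Rule.mk (nat_lit 2) (nat_lit 286) (Steps.bwd (nat_lit 11) (Steps.fwd (nat_lit 16384) (Steps.fwd (nat_lit 90112) (Steps.fwd (nat_lit 8192) (Steps.bwd (nat_lit 10) (Steps.bwd (nat_lit 1) (Steps.bwd (nat_lit 7) (Steps.fwd (nat_lit 90112) (Steps.fwd (nat_lit 32768) (Steps.bwd (nat_lit 1) (Steps.bwd (nat_lit 4) (Steps.bwd (nat_lit 7) (Steps.bwd (nat_lit 10) (Steps.fwd (nat_lit 65536) (Steps.bwd (nat_lit 9) (Steps.bwd (nat_lit 4) (Steps.bwd (nat_lit 4) Steps.nil))))))))))))))))) (nat_lit 57) (nat_lit 3),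
  Rule.mk (nat_lit 9) (nat_lit 110) (Steps.bwd (nat_lit 17) (Steps.fwd (nat_lit 73728) (Steps.fwd (nat_lit 32768) (Steps.fwd (nat_lit 32768) (Steps.bwd (nat_lit 15) (Steps.bwd (nat_lit 16) Steps.nil)))))) (nat_lit 65) (nat_lit 5),
  Rule.mk (nat_lit 4) (nat_lit 126) (Steps.fwd (nat_lit 98304) (Steps.bwd (nat_lit 3) (Steps.bwd (nat_lit 12) (Steps.fwd (nat_lit 122880) (Steps.fwd (nat_lit 131072) (Steps.fwd (nat_lit 81920) (Steps.bwd (nat_lit 17) Steps.nil))))))) (nat_lit 51) (nat_lit 6),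
  Rule.mk (nat_lit 1) (nat_lit 142) (Steps.fwd (nat_lit 90112) (Steps.bwd (nat_lit 13) (Steps.fwd (nat_lit 114688) (Steps.fwd (nat_lit 139264) (Steps.bwd (nat_lit 10) (Steps.bwd (nat_lit 16) (Steps.fwd (nat_lit 8192) (Steps.bwd (nat_lit 17) Steps.nil)))))))) (nat_lit 47) (nat_lit 0),
  Rule.mk (nat_lit 17) (nat_lit 110) (Steps.bwd (nat_lit 9) (Steps.fwd (nat_lit 32768) (Steps.fwd (nat_lit 32768) (Steps.bwd (nat_lit 15) (Steps.bwd (nat_lit 16) (Steps.bwd (nat_lit 9) Steps.nil)))))) (nat_lit 65) (nat_lit 6),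
  Rule.mk (nat_lit 13) (nat_lit 190) (Steps.bwd (nat_lit 9) (Steps.fwd (nat_lit 106496) (Steps.bwd (nat_lit 17) (Steps.fwd (nat_lit 16384) (Steps.bwd (nat_lit 14) (Steps.fwd (nat_lit 16384) (Steps.bwd (nat_lit 1) (Steps.bwd (nat_lit 1) (Steps.bwd (nat_lit 9) (Steps.fwd (nat_lit 106496) (Steps.fwd (nat_lit 73728) Steps.nil))))))))))) (nat_lit 74) (nat_lit 4),
  Rule.mk (nat_lit 1) (nat_lit 190) (Steps.bwd (nat_lit 9) (Steps.fwd (nat_lit 106496) (Steps.bwd (nat_lit 9) (Steps.fwd (nat_lit 98304) (Steps.fwd (nat_lit 73728) (Steps.fwd (nat_lit 106496) (Steps.bwd (nat_lit 17) (Steps.fwd (nat_lit 16384) (Steps.fwd (nat_lit 122880) (Steps.bwd (nat_lit 1) (Steps.fwd (nat_lit 16384) Steps.nil))))))))))) (nat_lit 74) (nat_lit 0),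
  Rule.mk (nat_lit 12) (nat_lit 190) (Steps.bwd (nat_lit 9) (Steps.fwd (nat_lit 98304) (Steps.fwd (nat_lit 73728) (Steps.fwd (nat_lit 8192) (Steps.bwd (nat_lit 2) (Steps.bwd (nat_lit 2) (Steps.fwd (nat_lit 114688) (Steps.bwd (nat_lit 2) (Steps.bwd (nat_lit 16) (Steps.fwd (nat_lit 98304) (Steps.bwd (nat_lit 9) Steps.nil))))))))))) (nat_lit 75) (nat_lit 9),
  Rule.mk (nat_lit 2) (nat_lit 206) (Steps.bwd (nat_lit 9) (Steps.bwd (nat_lit 1) (Steps.fwd (nat_lit 16384) (Steps.bwd (nat_lit 9) (Steps.fwd (nat_lit 139264) (Steps.bwd (nat_lit 19) (Steps.bwd (nat_lit 11) (Steps.fwd (nat_lit 8192) (Steps.bwd (nat_lit 3) (Steps.fwd (nat_lit 8192) (Steps.bwd (nat_lit 4) (Steps.fwd (nat_lit 24576) Steps.nil)))))))))))) (nat_lit 68) (nat_lit 0),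
  Rule.mk (nat_lit 14) (nat_lit 110) (Steps.fwd (nat_lit 16384) (Steps.fwd (nat_lit 131072) (Steps.fwd (nat_lit 81920) (Steps.fwd (nat_lit 122880) (Steps.bwd (nat_lit 14) (Steps.bwd (nat_lit 2) Steps.nil)))))) (nat_lit 44) (nat_lit 2),
  Rule.mk (nat_lit 10) (nat_lit 286) (Steps.bwd (nat_lit 1) (Steps.bwd (nat_lit 3) (Steps.fwd (nat_lit 32768) (Steps.fwd (nat_lit 73728) (Steps.bwd (nat_lit 8) (Steps.fwd (nat_lit 81920) (Steps.bwd (nat_lit 8) (Steps.fwd (nat_lit 32768) (Steps.bwd (nat_lit 2) (Steps.bwd (nat_lit 4) (Steps.bwd (nat_lit 11) (Steps.bwd (nat_lit 8) (Steps.fwd (nat_lit 8192) (Steps.fwd (nat_lit 81920) (Steps.bwd (nat_lit 1) (Steps.bwd (nat_lit 11) (Steps.bwd (nat_lit 2) Steps.nil))))))))))))))))) (nat_lit 56) (nat_lit 15),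
  Rule.mk (nat_lit 7) (nat_lit 286) (Steps.bwd (nat_lit 10) (Steps.bwd (nat_lit 7) (Steps.bwd (nat_lit 9) (Steps.bwd (nat_lit 4) (Steps.bwd (nat_lit 4) (Steps.fwd (nat_lit 8192) (Steps.fwd (nat_lit 81920) (Steps.fwd (nat_lit 16384) (Steps.fwd (nat_lit 90112) (Steps.fwd (nat_lit 8192) (Steps.bwd (nat_lit 10) (Steps.fwd (nat_lit 16384) (Steps.bwd (nat_lit 7) (Steps.bwd (nat_lit 10) (Steps.fwd (nat_lit 32768) (Steps.fwd (nat_lit 16384) (Steps.bwd (nat_lit 4) Steps.nil))))))))))))))))) (nat_lit 57) (nat_lit 15),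
  Rule.mk (nat_lit 10) (nat_lit 110) (Steps.bwd (nat_lit 4) (Steps.bwd (nat_lit 15) (Steps.bwd (nat_lit 4) (Steps.bwd (nat_lit 9) (Steps.fwd (nat_lit 90112) (Steps.bwd (nat_lit 9) Steps.nil)))))) (nat_lit 60) (nat_lit 4),
  Rule.mk (nat_lit 14) (nat_lit 110) (Steps.bwd (nat_lit 4) (Steps.fwd (nat_lit 24576) (Steps.fwd (nat_lit 73728) (Steps.fwd (nat_lit 139264) (Steps.bwd (nat_lit 9) (Steps.fwd (nat_lit 131072) Steps.nil)))))) (nat_lit 64) (nat_lit 5),
  Rule.mk (nat_lit 11) (nat_lit 126) (Steps.bwd (nat_lit 4) (Steps.bwd (nat_lit 14) (Steps.bwd (nat_lit 3) (Steps.bwd (nat_lit 14) (Steps.bwd (nat_lit 14) (Steps.bwd (nat_lit 17) (Steps.fwd (nat_lit 81920) Steps.nil))))))) (nat_lit 52) (nat_lit 0),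
  Rule.mk (nat_lit 17) (nat_lit 94) (Steps.fwd (nat_lit 90112) (Steps.fwd (nat_lit 139264) (Steps.bwd (nat_lit 19) (Steps.bwd (nat_lit 19) (Steps.bwd (nat_lit 11) Steps.nil))))) (nat_lit 34) (nat_lit 2),
  Rule.mk (nat_lit 17) (nat_lit 190) (Steps.bwd (nat_lit 1) (Steps.bwd (nat_lit 14) (Steps.fwd (nat_lit 16384) (Steps.fwd (nat_lit 16384) (Steps.bwd (nat_lit 1) (Steps.fwd (nat_lit 73728) (Steps.bwd (nat_lit 12) (Steps.bwd (nat_lit 9) (Steps.bwd (nat_lit 13) (Steps.bwd (nat_lit 9) (Steps.fwd (nat_lit 106496) Steps.nil))))))))))) (nat_lit 74) (nat_lit 7),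
  Rule.mk (nat_lit 9) (nat_lit 206) (Steps.bwd (nat_lit 1) (Steps.bwd (nat_lit 1) (Steps.fwd (nat_lit 73728) (Steps.fwd (nat_lit 139264) (Steps.bwd (nat_lit 19) (Steps.fwd (nat_lit 81920) (Steps.fwd (nat_lit 8192) (Steps.fwd (nat_lit 32768) (Steps.fwd (nat_lit 8192) (Steps.fwd (nat_lit 24576) (Steps.fwd (nat_lit 24576) (Steps.fwd (nat_lit 8192) Steps.nil)))))))))))) (nat_lit 68) (nat_lit 1),
  Rule.mk (nat_lit 4) (nat_lit 110) (Steps.bwd (nat_lit 9) (Steps.bwd (nat_lit 10) (Steps.bwd (nat_lit 15) (Steps.bwd (nat_lit 17) (Steps.bwd (nat_lit 17) (Steps.fwd (nat_lit 73728) Steps.nil)))))) (nat_lit 71) (nat_lit 6),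
  Rule.mk (nat_lit 15) (nat_lit 158) (Steps.bwd (nat_lit 9) (Steps.bwd (nat_lit 3) (Steps.bwd (nat_lit 3) (Steps.bwd (nat_lit 1) (Steps.fwd (nat_lit 106496) (Steps.bwd (nat_lit 11) (Steps.fwd (nat_lit 131072) (Steps.fwd (nat_lit 8192) (Steps.fwd (nat_lit 73728) Steps.nil))))))))) (nat_lit 63) (nat_lit 9),
  Rule.mk (nat_lit 2) (nat_lit 158) (Steps.bwd (nat_lit 9) (Steps.fwd (nat_lit 114688) (Steps.bwd (nat_lit 9) (Steps.bwd (nat_lit 3) (Steps.fwd (nat_lit 32768) (Steps.bwd (nat_lit 1) (Steps.fwd (nat_lit 106496) (Steps.fwd (nat_lit 81920) (Steps.fwd (nat_lit 131072) Steps.nil))))))))) (nat_lit 63) (nat_lit 7),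
  Rule.mk (nat_lit 13) (nat_lit 190) (Steps.bwd (nat_lit 9) (Steps.bwd (nat_lit 12) (Steps.fwd (nat_lit 131072) (Steps.fwd (nat_lit 16384) (Steps.fwd (nat_lit 122880) (Steps.fwd (nat_lit 16384) (Steps.bwd (nat_lit 1) (Steps.fwd (nat_lit 16384) (Steps.fwd (nat_lit 73728) (Steps.bwd (nat_lit 12) (Steps.fwd (nat_lit 73728) Steps.nil))))))))))) (nat_lit 74) (nat_lit 4),
  Rule.mk (nat_lit 1) (nat_lit 206) (Steps.bwd (nat_lit 9) (Steps.bwd (nat_lit 16) (Steps.fwd (nat_lit 147456) (Steps.fwd (nat_lit 81920) (Steps.bwd (nat_lit 2) (Steps.fwd (nat_lit 8192) (Steps.fwd (nat_lit 73728) (Steps.bwd (nat_lit 1) (Steps.fwd (nat_lit 32768) (Steps.bwd (nat_lit 3) (Steps.bwd (nat_lit 1) (Steps.fwd (nat_lit 24576) Steps.nil)))))))))))) (nat_lit 72) (nat_lit 7),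
  Rule.mk (nat_lit 7) (nat_lit 270) (Steps.bwd (nat_lit 9) (Steps.bwd (nat_lit 4) (Steps.fwd (nat_lit 106496) (Steps.fwd (nat_lit 8192) (Steps.fwd (nat_lit 73728) (Steps.bwd (nat_lit 2) (Steps.fwd (nat_lit 73728) (Steps.bwd (nat_lit 2) (Steps.fwd (nat_lit 155648) (Steps.fwd (nat_lit 139264) (Steps.fwd (nat_lit 90112) (Steps.fwd (nat_lit 32768) (Steps.bwd (nat_lit 1) (Steps.fwd (nat_lit 24576) (Steps.fwd (nat_lit 24576) (Steps.fwd (nat_lit 8192) Steps.nil)))))))))))))))) (nat_lit 76) (nat_lit 1),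
  Rule.mk (nat_lit 13) (nat_lit 126) (Steps.bwd (nat_lit 4) (Steps.bwd (nat_lit 12) (Steps.fwd (nat_lit 32768) (Steps.bwd (nat_lit 16) (Steps.fwd (nat_lit 90112) (Steps.fwd (nat_lit 139264) (Steps.fwd (nat_lit 114688) Steps.nil))))))) (nat_lit 50) (nat_lit 0),
  Rule.mk (nat_lit 12) (nat_lit 158) (Steps.bwd (nat_lit 11) (Steps.bwd (nat_lit 17) (Steps.bwd (nat_lit 2) (Steps.bwd (nat_lit 9) (Steps.fwd (nat_lit 114688) (Steps.bwd (nat_lit 9) (Steps.fwd (nat_lit 32768) (Steps.bwd (nat_lit 3) (Steps.bwd (nat_lit 1) Steps.nil))))))))) (nat_lit 63) (nat_lit 4)]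
noncomputable def R_116 : List (Rule) := [Rule.mk (nat_lit 14) (nat_lit 126) (Steps.bwd (nat_lit 17) (Steps.fwd (nat_lit 81920) (Steps.fwd (nat_lit 131072) (Steps.fwd (nat_lit 24576) (Steps.fwd (nat_lit 98304) (Steps.fwd (nat_lit 32768) (Steps.fwd (nat_lit 106496) Steps.nil))))))) (nat_lit 51) (nat_lit 2),
  Rule.mk (nat_lit 2) (nat_lit 142) (Steps.bwd (nat_lit 17) (Steps.bwd (nat_lit 1) (Steps.fwd (nat_lit 90112) (Steps.bwd (nat_lit 13) (Steps.fwd (nat_lit 114688) (Steps.fwd (nat_lit 139264) (Steps.fwd (nat_lit 90112) (Steps.bwd (nat_lit 16) Steps.nil)))))))) (nat_lit 47) (nat_lit 7),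
  Rule.mk (nat_lit 4) (nat_lit 126) (Steps.bwd (nat_lit 2) (Steps.bwd (nat_lit 4) (Steps.fwd (nat_lit 8192) (Steps.bwd (nat_lit 4) (Steps.fwd (nat_lit 8192) (Steps.fwd (nat_lit 24576) (Steps.bwd (nat_lit 2) Steps.nil))))))) (nat_lit 5) (nat_lit 1),
  Rule.mk (nat_lit 13) (nat_lit 126) (Steps.bwd (nat_lit 4) (Steps.fwd (nat_lit 106496) (Steps.bwd (nat_lit 3) (Steps.fwd (nat_lit 139264) (Steps.bwd (nat_lit 10) (Steps.bwd (nat_lit 16) (Steps.bwd (nat_lit 15) Steps.nil))))))) (nat_lit 50) (nat_lit 0),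
  Rule.mk (nat_lit 11) (nat_lit 126) (Steps.bwd (nat_lit 4) (Steps.fwd (nat_lit 122880) (Steps.fwd (nat_lit 32768) (Steps.fwd (nat_lit 122880) (Steps.fwd (nat_lit 122880) (Steps.bwd (nat_lit 17) (Steps.fwd (nat_lit 81920) Steps.nil))))))) (nat_lit 52) (nat_lit 0),
  Rule.mk (nat_lit 14) (nat_lit 110) (Steps.bwd (nat_lit 14) (Steps.fwd (nat_lit 8192) (Steps.bwd (nat_lit 14) (Steps.fwd (nat_lit 16384) (Steps.fwd (nat_lit 131072) (Steps.bwd (nat_lit 11) Steps.nil)))))) (nat_lit 44) (nat_lit 6),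
  Rule.mk (nat_lit 9) (nat_lit 158) (Steps.bwd (nat_lit 14) (Steps.fwd (nat_lit 73728) (Steps.bwd (nat_lit 1) (Steps.fwd (nat_lit 139264) (Steps.fwd (nat_lit 90112) (Steps.bwd (nat_lit 13) (Steps.fwd (nat_lit 8192) (Steps.fwd (nat_lit 24576) (Steps.fwd (nat_lit 24576) Steps.nil))))))))) (nat_lit 62) (nat_lit 1),
  Rule.mk (nat_lit 3) (nat_lit 110) (Steps.fwd (nat_lit 32768) (Steps.bwd (nat_lit 15) (Steps.fwd (nat_lit 139264) (Steps.bwd (nat_lit 9) (Steps.bwd (nat_lit 17) (Steps.bwd (nat_lit 9) Steps.nil)))))) (nat_lit 65) (nat_lit 1),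
  Rule.mk (nat_lit 2) (nat_lit 270) (Steps.bwd (nat_lit 9) (Steps.fwd (nat_lit 8192) (Steps.fwd (nat_lit 155648) (Steps.fwd (nat_lit 139264) (Steps.fwd (nat_lit 90112) (Steps.fwd (nat_lit 32768) (Steps.bwd (nat_lit 1) (Steps.bwd (nat_lit 4) (Steps.fwd (nat_lit 24576) (Steps.fwd (nat_lit 8192) (Steps.fwd (nat_lit 65536) (Steps.fwd (nat_lit 73728) (Steps.bwd (nat_lit 4) (Steps.fwd (nat_lit 106496) (Steps.fwd (nat_lit 8192) (Steps.bwd (nat_lit 9) Steps.nil)))))))))))))))) (nat_lit 76) (nat_lit 7),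
  Rule.mk (nat_lit 12) (nat_lit 158) (Steps.bwd (nat_lit 11) (Steps.bwd (nat_lit 17) (Steps.fwd (nat_lit 8192) (Steps.bwd (nat_lit 9) (Steps.fwd (nat_lit 114688) (Steps.bwd (nat_lit 9) (Steps.fwd (nat_lit 32768) (Steps.fwd (nat_lit 32768) (Steps.bwd (nat_lit 1) Steps.nil))))))))) (nat_lit 63) (nat_lit 4),
  Rule.mk (nat_lit 8) (nat_lit 286) (Steps.bwd (nat_lit 11) (Steps.bwd (nat_lit 8) (Steps.fwd (nat_lit 32768) (Steps.bwd (nat_lit 2) (Steps.bwd (nat_lit 4) (Steps.bwd (nat_lit 11) (Steps.fwd (nat_lit 57344) (Steps.fwd (nat_lit 8192) (Steps.fwd (nat_lit 81920) (Steps.bwd (nat_lit 1) (Steps.bwd (nat_lit 11) (Steps.fwd (nat_lit 8192) (Steps.fwd (nat_lit 90112) (Steps.bwd (nat_lit 1) (Steps.fwd (nat_lit 32768) (Steps.fwd (nat_lit 32768) (Steps.bwd (nat_lit 9) Steps.nil))))))))))))))))) (nat_lit 56) (nat_lit 2),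
  Rule.mk (nat_lit 16) (nat_lit 110) (Steps.bwd (nat_lit 11) (Steps.fwd (nat_lit 122880) (Steps.bwd (nat_lit 11) (Steps.bwd (nat_lit 9) (Steps.bwd (nat_lit 18) (Steps.fwd (nat_lit 73728) Steps.nil)))))) (nat_lit 66) (nat_lit 4),
  Rule.mk (nat_lit 12) (nat_lit 142) (Steps.bwd (nat_lit 11) (Steps.fwd (nat_lit 8192) (Steps.fwd (nat_lit 139264) (Steps.bwd (nat_lit 1) (Steps.fwd (nat_lit 131072) (Steps.bwd (nat_lit 11) (Steps.bwd (nat_lit 17) (Steps.fwd (nat_lit 122880) Steps.nil)))))))) (nat_lit 46) (nat_lit 8),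
  Rule.mk (nat_lit 2) (nat_lit 286) (Steps.bwd (nat_lit 11) (Steps.bwd (nat_lit 1) (Steps.bwd (nat_lit 11) (Steps.fwd (nat_lit 8192) (Steps.bwd (nat_lit 10) (Steps.fwd (nat_lit 16384) (Steps.fwd (nat_lit 32768) (Steps.fwd (nat_lit 32768) (Steps.bwd (nat_lit 9) (Steps.bwd (nat_lit 8) (Steps.fwd (nat_lit 81920) (Steps.bwd (nat_lit 8) (Steps.fwd (nat_lit 32768) (Steps.bwd (nat_lit 2) (Steps.bwd (nat_lit 4) (Steps.fwd (nat_lit 81920) (Steps.fwd (nat_lit 57344) Steps.nil))))))))))))))))) (nat_lit 56) (nat_lit 10),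
  Rule.mk (nat_lit 7) (nat_lit 158) (Steps.bwd (nat_lit 18) (Steps.bwd (nat_lit 7) (Steps.fwd (nat_lit 155648) (Steps.bwd (nat_lit 7) (Steps.bwd (nat_lit 18) (Steps.bwd (nat_lit 7) (Steps.bwd (nat_lit 18) (Steps.bwd (nat_lit 7) (Steps.bwd (nat_lit 18) Steps.nil))))))))) (nat_lit 84) (nat_lit 1),
  Rule.mk (nat_lit 3) (nat_lit 110) (Steps.fwd (nat_lit 81920) (Steps.bwd (nat_lit 9) (Steps.fwd (nat_lit 81920) (Steps.bwd (nat_lit 9) (Steps.fwd (nat_lit 32768) (Steps.bwd (nat_lit 14) Steps.nil)))))) (nat_lit 61) (nat_lit 3),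
  Rule.mk (nat_lit 14) (nat_lit 110) (Steps.fwd (nat_lit 81920) (Steps.bwd (nat_lit 9) (Steps.bwd (nat_lit 18) (Steps.fwd (nat_lit 73728) (Steps.fwd (nat_lit 139264) (Steps.fwd (nat_lit 81920) Steps.nil)))))) (nat_lit 66) (nat_lit 6),
  Rule.mk (nat_lit 15) (nat_lit 158) (Steps.bwd (nat_lit 9) (Steps.fwd (nat_lit 32768) (Steps.bwd (nat_lit 3) (Steps.fwd (nat_lit 16384) (Steps.fwd (nat_lit 106496) (Steps.bwd (nat_lit 11) (Steps.bwd (nat_lit 17) (Steps.fwd (nat_lit 8192) (Steps.bwd (nat_lit 9) Steps.nil))))))))) (nat_lit 63) (nat_lit 9),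
  Rule.mk (nat_lit 2) (nat_lit 158) (Steps.bwd (nat_lit 9) (Steps.bwd (nat_lit 15) (Steps.bwd (nat_lit 9) (Steps.fwd (nat_lit 32768) (Steps.bwd (nat_lit 3) (Steps.bwd (nat_lit 1) (Steps.bwd (nat_lit 12) (Steps.fwd (nat_lit 81920) (Steps.bwd (nat_lit 17) Steps.nil))))))))) (nat_lit 63) (nat_lit 7),
  Rule.mk (nat_lit 12) (nat_lit 190) (Steps.bwd (nat_lit 9) (Steps.bwd (nat_lit 13) (Steps.fwd (nat_lit 73728) (Steps.fwd (nat_lit 106496) (Steps.fwd (nat_lit 131072) (Steps.bwd (nat_lit 1) (Steps.bwd (nat_lit 14) (Steps.fwd (nat_lit 16384) (Steps.fwd (nat_lit 16384) (Steps.fwd (nat_lit 16384) (Steps.fwd (nat_lit 73728) Steps.nil))))))))))) (nat_lit 74) (nat_lit 2),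
  Rule.mk (nat_lit 7) (nat_lit 286) (Steps.bwd (nat_lit 9) (Steps.fwd (nat_lit 24576) (Steps.bwd (nat_lit 4) (Steps.bwd (nat_lit 2) (Steps.bwd (nat_lit 11) (Steps.bwd (nat_lit 1) (Steps.fwd (nat_lit 90112) (Steps.bwd (nat_lit 2) (Steps.fwd (nat_lit 90112) (Steps.fwd (nat_lit 16384) (Steps.bwd (nat_lit 7) (Steps.bwd (nat_lit 10) (Steps.fwd (nat_lit 32768) (Steps.bwd (nat_lit 1) (Steps.bwd (nat_lit 4) (Steps.bwd (nat_lit 7) (Steps.bwd (nat_lit 10) Steps.nil))))))))))))))))) (nat_lit 57) (nat_lit 17),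
  Rule.mk (nat_lit 3) (nat_lit 126) (Steps.bwd (nat_lit 10) (Steps.bwd (nat_lit 10) (Steps.bwd (nat_lit 16) (Steps.bwd (nat_lit 15) (Steps.bwd (nat_lit 15) (Steps.fwd (nat_lit 24576) (Steps.fwd (nat_lit 114688) Steps.nil))))))) (nat_lit 53) (nat_lit 0),
  Rule.mk (nat_lit 7) (nat_lit 286) (Steps.bwd (nat_lit 10) (Steps.bwd (nat_lit 7) (Steps.bwd (nat_lit 9) (Steps.fwd (nat_lit 24576) (Steps.bwd (nat_lit 4) (Steps.bwd (nat_lit 2) (Steps.bwd (nat_lit 11) (Steps.fwd (nat_lit 16384) (Steps.fwd (nat_lit 90112) (Steps.bwd (nat_lit 2) (Steps.fwd (nat_lit 90112) (Steps.fwd (nat_lit 16384) (Steps.fwd (nat_lit 65536) (Steps.bwd (nat_lit 10) (Steps.bwd (nat_lit 3) (Steps.fwd (nat_lit 16384) (Steps.bwd (nat_lit 4) Steps.nil))))))))))))))))) (nat_lit 57) (nat_lit 15),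
  Rule.mk (nat_lit 10) (nat_lit 110) (Steps.bwd (nat_lit 15) (Steps.bwd (nat_lit 10) (Steps.fwd (nat_lit 131072) (Steps.fwd (nat_lit 73728) (Steps.fwd (nat_lit 147456) (Steps.fwd (nat_lit 73728) Steps.nil)))))) (nat_lit 67) (nat_lit 1),
  Rule.mk (nat_lit 16) (nat_lit 126) (Steps.bwd (nat_lit 15) (Steps.fwd (nat_lit 98304) (Steps.bwd (nat_lit 4) (Steps.fwd (nat_lit 106496) (Steps.fwd (nat_lit 32768) (Steps.bwd (nat_lit 16) (Steps.fwd (nat_lit 90112) Steps.nil))))))) (nat_lit 50) (nat_lit 6),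
  Rule.mk (nat_lit 2) (nat_lit 190) (Steps.bwd (nat_lit 15) (Steps.fwd (nat_lit 8192) (Steps.bwd (nat_lit 16) (Steps.bwd (nat_lit 13) (Steps.fwd (nat_lit 73728) (Steps.bwd (nat_lit 12) (Steps.fwd (nat_lit 73728) (Steps.fwd (nat_lit 98304) (Steps.bwd (nat_lit 9) (Steps.bwd (nat_lit 2) (Steps.fwd (nat_lit 8192) Steps.nil))))))))))) (nat_lit 75) (nat_lit 3),
  Rule.mk (nat_lit 9) (nat_lit 158) (Steps.bwd (nat_lit 15) (Steps.bwd (nat_lit 9) (Steps.fwd (nat_lit 32768) (Steps.fwd (nat_lit 32768) (Steps.fwd (nat_lit 16384) (Steps.fwd (nat_lit 106496) (Steps.bwd (nat_lit 11) (Steps.fwd (nat_lit 131072) (Steps.bwd (nat_lit 2) Steps.nil))))))))) (nat_lit 63) (nat_lit 8),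
  Rule.mk (nat_lit 1) (nat_lit 286) (Steps.bwd (nat_lit 4) (Steps.bwd (nat_lit 7) (Steps.fwd (nat_lit 90112) (Steps.fwd (nat_lit 65536) (Steps.fwd (nat_lit 73728) (Steps.bwd (nat_lit 4) (Steps.bwd (nat_lit 4) (Steps.fwd (nat_lit 8192) (Steps.fwd (nat_lit 81920) (Steps.fwd (nat_lit 16384) (Steps.bwd (nat_lit 10) (Steps.bwd (nat_lit 2) (Steps.bwd (nat_lit 10) (Steps.fwd (nat_lit 16384) (Steps.fwd (nat_lit 65536) (Steps.fwd (nat_lit 90112) (Steps.bwd (nat_lit 3) Steps.nil))))))))))))))))) (nat_lit 57) (nat_lit 13),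
  Rule.mk (nat_lit 9) (nat_lit 270) (Steps.fwd (nat_lit 16384) (Steps.bwd (nat_lit 13) (Steps.fwd (nat_lit 32768) (Steps.fwd (nat_lit 73728) (Steps.fwd (nat_lit 57344) (Steps.bwd (nat_lit 1) (Steps.fwd (nat_lit 32768) (Steps.bwd (nat_lit 3) (Steps.fwd (nat_lit 8192) (Steps.bwd (nat_lit 4) (Steps.fwd (nat_lit 81920) (Steps.bwd (nat_lit 17) (Steps.fwd (nat_lit 147456) (Steps.bwd (nat_lit 1) (Steps.fwd (nat_lit 73728) (Steps.bwd (nat_lit 1) Steps.nil)))))))))))))))) (nat_lit 77) (nat_lit 12),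
  Rule.mk (nat_lit 4) (nat_lit 126) (Steps.bwd (nat_lit 13) (Steps.fwd (nat_lit 32768) (Steps.fwd (nat_lit 106496) (Steps.fwd (nat_lit 122880) (Steps.fwd (nat_lit 131072) (Steps.bwd (nat_lit 11) (Steps.fwd (nat_lit 131072) Steps.nil))))))) (nat_lit 51) (nat_lit 6),
  Rule.mk (nat_lit 10) (nat_lit 158) (Steps.bwd (nat_lit 13) (Steps.fwd (nat_lit 8192) (Steps.bwd (nat_lit 4) (Steps.fwd (nat_lit 24576) (Steps.bwd (nat_lit 9) (Steps.bwd (nat_lit 14) (Steps.fwd (nat_lit 73728) (Steps.fwd (nat_lit 16384) (Steps.bwd (nat_lit 16) Steps.nil))))))))) (nat_lit 62) (nat_lit 6),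
  Rule.mk (nat_lit 9) (nat_lit 190) (Steps.bwd (nat_lit 13) (Steps.bwd (nat_lit 9) (Steps.fwd (nat_lit 106496) (Steps.fwd (nat_lit 131072) (Steps.bwd (nat_lit 1) (Steps.fwd (nat_lit 122880) (Steps.bwd (nat_lit 1) (Steps.fwd (nat_lit 16384) (Steps.bwd (nat_lit 1) (Steps.fwd (nat_lit 73728) (Steps.fwd (nat_lit 106496) Steps.nil))))))))))) (nat_lit 74) (nat_lit 3),
  Rule.mk (nat_lit 15) (nat_lit 158) (Steps.bwd (nat_lit 9) (Steps.bwd (nat_lit 3) (Steps.bwd (nat_lit 3) (Steps.bwd (nat_lit 1) (Steps.fwd (nat_lit 106496) (Steps.fwd (nat_lit 81920) (Steps.fwd (nat_lit 131072) (Steps.bwd (nat_lit 2) (Steps.bwd (nat_lit 9) Steps.nil))))))))) (nat_lit 63) (nat_lit 9),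
  Rule.mk (nat_lit 12) (nat_lit 190) (Steps.fwd (nat_lit 131072) (Steps.fwd (nat_lit 16384) (Steps.fwd (nat_lit 122880) (Steps.bwd (nat_lit 1) (Steps.bwd (nat_lit 1) (Steps.bwd (nat_lit 1) (Steps.fwd (nat_lit 73728) (Steps.fwd (nat_lit 106496) (Steps.bwd (nat_lit 9) (Steps.bwd (nat_lit 13) (Steps.bwd (nat_lit 9) Steps.nil))))))))))) (nat_lit 74) (nat_lit 6),
  Rule.mk (nat_lit 9) (nat_lit 270) (Steps.fwd (nat_lit 24576) (Steps.fwd (nat_lit 106496) (Steps.bwd (nat_lit 2) (Steps.bwd (nat_lit 9) (Steps.bwd (nat_lit 2) (Steps.fwd (nat_lit 73728) (Steps.fwd (nat_lit 8192) (Steps.fwd (nat_lit 155648) (Steps.bwd (nat_lit 16) (Steps.bwd (nat_lit 10) (Steps.fwd (nat_lit 32768) (Steps.fwd (nat_lit 16384) (Steps.fwd (nat_lit 24576) (Steps.fwd (nat_lit 24576) (Steps.fwd (nat_lit 8192) (Steps.bwd (nat_lit 7) Steps.nil)))))))))))))))) (nat_lit 76) (nat_lit 2),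
  Rule.mk (nat_lit 9) (nat_lit 110) (Steps.bwd (nat_lit 10) (Steps.bwd (nat_lit 15) (Steps.fwd (nat_lit 131072) (Steps.bwd (nat_lit 17) (Steps.fwd (nat_lit 73728) (Steps.fwd (nat_lit 24576) Steps.nil)))))) (nat_lit 71) (nat_lit 0),
  Rule.mk (nat_lit 1) (nat_lit 206) (Steps.bwd (nat_lit 10) (Steps.bwd (nat_lit 18) (Steps.fwd (nat_lit 131072) (Steps.bwd (nat_lit 9) (Steps.fwd (nat_lit 8192) (Steps.bwd (nat_lit 2) (Steps.fwd (nat_lit 73728) (Steps.fwd (nat_lit 16384) (Steps.fwd (nat_lit 32768) (Steps.bwd (nat_lit 3) (Steps.bwd (nat_lit 1) (Steps.bwd (nat_lit 4) Steps.nil)))))))))))) (nat_lit 69) (nat_lit 6),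
  Rule.mk (nat_lit 2) (nat_lit 286) (Steps.bwd (nat_lit 10) (Steps.bwd (nat_lit 1) (Steps.fwd (nat_lit 65536) (Steps.bwd (nat_lit 10) (Steps.bwd (nat_lit 3) (Steps.bwd (nat_lit 1) (Steps.fwd (nat_lit 24576) (Steps.bwd (nat_lit 7) (Steps.bwd (nat_lit 10) (Steps.bwd (nat_lit 7) (Steps.fwd (nat_lit 73728) (Steps.fwd (nat_lit 24576) (Steps.fwd (nat_lit 24576) (Steps.fwd (nat_lit 8192) (Steps.fwd (nat_lit 81920) (Steps.fwd (nat_lit 16384) (Steps.bwd (nat_lit 10) Steps.nil))))))))))))))))) (nat_lit 57) (nat_lit 7),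
  Rule.mk (nat_lit 16) (nat_lit 142) (Steps.bwd (nat_lit 1) (Steps.fwd (nat_lit 131072) (Steps.fwd (nat_lit 81920) (Steps.fwd (nat_lit 131072) (Steps.bwd (nat_lit 14) (Steps.fwd (nat_lit 106496) (Steps.bwd (nat_lit 11) (Steps.bwd (nat_lit 2) Steps.nil)))))))) (nat_lit 46) (nat_lit 2),
  Rule.mk (nat_lit 3) (nat_lit 206) (Steps.fwd (nat_lit 8192) (Steps.fwd (nat_lit 24576) (Steps.bwd (nat_lit 4) (Steps.fwd (nat_lit 8192) (Steps.bwd (nat_lit 9) (Steps.fwd (nat_lit 16384) (Steps.bwd (nat_lit 1) (Steps.fwd (nat_lit 73728) (Steps.bwd (nat_lit 16) (Steps.fwd (nat_lit 147456) (Steps.bwd (nat_lit 11) (Steps.bwd (nat_lit 2) Steps.nil)))))))))))) (nat_lit 68) (nat_lit 9),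
  Rule.mk (nat_lit 2) (nat_lit 110) (Steps.fwd (nat_lit 122880) (Steps.fwd (nat_lit 16384) (Steps.fwd (nat_lit 131072) (Steps.fwd (nat_lit 81920) (Steps.bwd (nat_lit 14) (Steps.bwd (nat_lit 14) Steps.nil)))))) (nat_lit 44) (nat_lit 1),
  Rule.mk (nat_lit 16) (nat_lit 110) (Steps.bwd (nat_lit 16) (Steps.bwd (nat_lit 14) (Steps.fwd (nat_lit 81920) (Steps.fwd (nat_lit 73728) (Steps.bwd (nat_lit 3) (Steps.fwd (nat_lit 73728) Steps.nil)))))) (nat_lit 70) (nat_lit 4),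
  Rule.mk (nat_lit 9) (nat_lit 110) (Steps.bwd (nat_lit 16) (Steps.fwd (nat_lit 139264) (Steps.bwd (nat_lit 14) (Steps.bwd (nat_lit 11) (Steps.bwd (nat_lit 9) (Steps.fwd (nat_lit 32768) Steps.nil)))))) (nat_lit 70) (nat_lit 3),
  Rule.mk (nat_lit 2) (nat_lit 142) (Steps.bwd (nat_lit 16) (Steps.fwd (nat_lit 16384) (Steps.fwd (nat_lit 131072) (Steps.bwd (nat_lit 11) (Steps.bwd (nat_lit 17) (Steps.bwd (nat_lit 14) (Steps.bwd (nat_lit 12) (Steps.bwd (nat_lit 11) Steps.nil)))))))) (nat_lit 46) (nat_lit 1),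
  Rule.mk (nat_lit 1) (nat_lit 158) (Steps.bwd (nat_lit 16) (Steps.fwd (nat_lit 90112) (Steps.bwd (nat_lit 13) (Steps.fwd (nat_lit 8192) (Steps.bwd (nat_lit 4) (Steps.fwd (nat_lit 24576) (Steps.fwd (nat_lit 73728) (Steps.fwd (nat_lit 122880) (Steps.fwd (nat_lit 73728) Steps.nil))))))))) (nat_lit 62) (nat_lit 4),
  Rule.mk (nat_lit 8) (nat_lit 158) (Steps.bwd (nat_lit 19) (Steps.bwd (nat_lit 8) (Steps.fwd (nat_lit 147456) (Steps.bwd (nat_lit 8) (Steps.bwd (nat_lit 19) (Steps.fwd (nat_lit 57344) (Steps.bwd (nat_lit 19) (Steps.fwd (nat_lit 57344) (Steps.bwd (nat_lit 19) Steps.nil))))))))) (nat_lit 85) (nat_lit 0),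
  Rule.mk (nat_lit 2) (nat_lit 286) (Steps.bwd (nat_lit 10) (Steps.bwd (nat_lit 1) (Steps.fwd (nat_lit 32768) (Steps.fwd (nat_lit 32768) (Steps.fwd (nat_lit 73728) (Steps.fwd (nat_lit 57344) (Steps.fwd (nat_lit 81920) (Steps.bwd (nat_lit 8) (Steps.fwd (nat_lit 32768) (Steps.fwd (nat_lit 8192) (Steps.fwd (nat_lit 24576) (Steps.bwd (nat_lit 11) (Steps.bwd (nat_lit 8) (Steps.fwd (nat_lit 8192) (Steps.bwd (nat_lit 11) (Steps.bwd (nat_lit 1) (Steps.fwd (nat_lit 81920) Steps.nil))))))))))))))))) (nat_lit 56) (nat_lit 14),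
  Rule.mk (nat_lit 16) (nat_lit 110) (Steps.fwd (nat_lit 73728) (Steps.bwd (nat_lit 17) (Steps.fwd (nat_lit 122880) (Steps.fwd (nat_lit 24576) (Steps.bwd (nat_lit 4) (Steps.bwd (nat_lit 9) Steps.nil)))))) (nat_lit 64) (nat_lit 2),
  Rule.mk (nat_lit 16) (nat_lit 190) (Steps.bwd (nat_lit 13) (Steps.fwd (nat_lit 73728) (Steps.fwd (nat_lit 106496) (Steps.bwd (nat_lit 9) (Steps.bwd (nat_lit 13) (Steps.bwd (nat_lit 9) (Steps.fwd (nat_lit 8192) (Steps.fwd (nat_lit 8192) (Steps.bwd (nat_lit 2) (Steps.bwd (nat_lit 15) (Steps.fwd (nat_lit 8192) Steps.nil))))))))))) (nat_lit 75) (nat_lit 6),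
  Rule.mk (nat_lit 10) (nat_lit 126) (Steps.fwd (nat_lit 90112) (Steps.bwd (nat_lit 16) (Steps.bwd (nat_lit 15) (Steps.bwd (nat_lit 15) (Steps.fwd (nat_lit 24576) (Steps.fwd (nat_lit 114688) (Steps.bwd (nat_lit 3) Steps.nil))))))) (nat_lit 53) (nat_lit 1),
  Rule.mk (nat_lit 16) (nat_lit 126) (Steps.bwd (nat_lit 10) (Steps.bwd (nat_lit 16) (Steps.bwd (nat_lit 15) (Steps.bwd (nat_lit 13) (Steps.bwd (nat_lit 4) (Steps.fwd (nat_lit 106496) (Steps.bwd (nat_lit 3) Steps.nil))))))) (nat_lit 50) (nat_lit 4),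
  Rule.mk (nat_lit 18) (nat_lit 78) (Steps.bwd (nat_lit 15) (Steps.fwd (nat_lit 131072) (Steps.fwd (nat_lit 122880) (Steps.fwd (nat_lit 139264) Steps.nil)))) (nat_lit 40) (nat_lit 0),
  Rule.mk (nat_lit 13) (nat_lit 142) (Steps.bwd (nat_lit 15) (Steps.fwd (nat_lit 139264) (Steps.fwd (nat_lit 90112) (Steps.bwd (nat_lit 16) (Steps.fwd (nat_lit 8192) (Steps.fwd (nat_lit 131072) (Steps.fwd (nat_lit 16384) (Steps.bwd (nat_lit 10) Steps.nil)))))))) (nat_lit 47) (nat_lit 2),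
  Rule.mk (nat_lit 2) (nat_lit 190) (Steps.bwd (nat_lit 15) (Steps.bwd (nat_lit 2) (Steps.fwd (nat_lit 139264) (Steps.fwd (nat_lit 98304) (Steps.bwd (nat_lit 9) (Steps.bwd (nat_lit 12) (Steps.fwd (nat_lit 73728) (Steps.bwd (nat_lit 13) (Steps.fwd (nat_lit 73728) (Steps.fwd (nat_lit 8192) (Steps.bwd (nat_lit 2) Steps.nil))))))))))) (nat_lit 75) (nat_lit 3),
  Rule.mk (nat_lit 10) (nat_lit 286) (Steps.bwd (nat_lit 1) (Steps.fwd (nat_lit 65536) (Steps.bwd (nat_lit 10) (Steps.fwd (nat_lit 32768) (Steps.fwd (nat_lit 16384) (Steps.fwd (nat_lit 24576) (Steps.fwd (nat_lit 65536) (Steps.bwd (nat_lit 10) (Steps.fwd (nat_lit 65536) (Steps.fwd (nat_lit 73728) (Steps.fwd (nat_lit 24576) (Steps.fwd (nat_lit 24576) (Steps.bwd (nat_lit 2) (Steps.fwd (nat_lit 81920) (Steps.bwd (nat_lit 1) (Steps.bwd (nat_lit 10) (Steps.bwd (nat_lit 2) Steps.nil))))))))))))))))) (nat_lit 57) (nat_lit 8),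
  Rule.mk (nat_lit 14) (nat_lit 110) (Steps.bwd (nat_lit 14) (Steps.bwd (nat_lit 2) (Steps.fwd (nat_lit 122880) (Steps.fwd (nat_lit 16384) (Steps.bwd (nat_lit 17) (Steps.bwd (nat_lit 11) Steps.nil)))))) (nat_lit 44) (nat_lit 6),
  Rule.mk (nat_lit 9) (nat_lit 158) (Steps.bwd (nat_lit 15) (Steps.fwd (nat_lit 73728) (Steps.fwd (nat_lit 32768) (Steps.bwd (nat_lit 3) (Steps.fwd (nat_lit 16384) (Steps.bwd (nat_lit 12) (Steps.fwd (nat_lit 81920) (Steps.bwd (nat_lit 17) (Steps.bwd (nat_lit 2) Steps.nil))))))))) (nat_lit 63) (nat_lit 8),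
  Rule.mk (nat_lit 3) (nat_lit 206) (Steps.bwd (nat_lit 2) (Steps.fwd (nat_lit 24576) (Steps.bwd (nat_lit 4) (Steps.fwd (nat_lit 8192) (Steps.bwd (nat_lit 9) (Steps.fwd (nat_lit 16384) (Steps.bwd (nat_lit 1) (Steps.fwd (nat_lit 73728) (Steps.fwd (nat_lit 139264) (Steps.bwd (nat_lit 19) (Steps.fwd (nat_lit 81920) (Steps.bwd (nat_lit 2) Steps.nil)))))))))))) (nat_lit 68) (nat_lit 9),
  Rule.mk (nat_lit 7) (nat_lit 126) (Steps.bwd (nat_lit 18) (Steps.bwd (nat_lit 2) (Steps.fwd (nat_lit 8192) (Steps.fwd (nat_lit 65536) (Steps.fwd (nat_lit 155648) (Steps.bwd (nat_lit 7) (Steps.fwd (nat_lit 147456) Steps.nil))))))) (nat_lit 86) (nat_lit 5),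
  Rule.mk (nat_lit 9) (nat_lit 206) (Steps.bwd (nat_lit 1) (Steps.bwd (nat_lit 1) (Steps.fwd (nat_lit 73728) (Steps.bwd (nat_lit 16) (Steps.bwd (nat_lit 19) (Steps.fwd (nat_lit 81920) (Steps.bwd (nat_lit 2) (Steps.fwd (nat_lit 32768) (Steps.bwd (nat_lit 2) (Steps.fwd (nat_lit 24576) (Steps.fwd (nat_lit 24576) (Steps.fwd (nat_lit 8192) Steps.nil)))))))))))) (nat_lit 68) (nat_lit 1),
  Rule.mk (nat_lit 10) (nat_lit 286) (Steps.bwd (nat_lit 1) (Steps.bwd (nat_lit 3) (Steps.fwd (nat_lit 32768) (Steps.fwd (nat_lit 73728) (Steps.bwd (nat_lit 8) (Steps.bwd (nat_lit 11) (Steps.fwd (nat_lit 57344) (Steps.fwd (nat_lit 32768) (Steps.fwd (nat_lit 8192) (Steps.bwd (nat_lit 4) (Steps.fwd (nat_lit 81920) (Steps.fwd (nat_lit 57344) (Steps.bwd (nat_lit 2) (Steps.fwd (nat_lit 81920) (Steps.bwd (nat_lit 1) (Steps.fwd (nat_lit 81920) (Steps.fwd (nat_lit 8192) Steps.nil))))))))))))))))) (nat_lit 56) (nat_lit 15),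
  Rule.mk (nat_lit 16) (nat_lit 126) (Steps.bwd (nat_lit 10) (Steps.fwd (nat_lit 139264) (Steps.fwd (nat_lit 114688) (Steps.bwd (nat_lit 13) (Steps.bwd (nat_lit 4) (Steps.fwd (nat_lit 106496) (Steps.bwd (nat_lit 3) Steps.nil))))))) (nat_lit 50) (nat_lit 4),
  Rule.mk (nat_lit 8) (nat_lit 126) (Steps.bwd (nat_lit 19) (Steps.bwd (nat_lit 8) (Steps.fwd (nat_lit 16384) (Steps.bwd (nat_lit 1) (Steps.bwd (nat_lit 19) (Steps.bwd (nat_lit 8) (Steps.bwd (nat_lit 18) Steps.nil))))))) (nat_lit 87) (nat_lit 6),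
  Rule.mk (nat_lit 10) (nat_lit 110) (Steps.bwd (nat_lit 4) (Steps.bwd (nat_lit 15) (Steps.fwd (nat_lit 24576) (Steps.bwd (nat_lit 9) (Steps.bwd (nat_lit 10) (Steps.fwd (nat_lit 73728) Steps.nil)))))) (nat_lit 60) (nat_lit 4)]
noncomputable def R_117 : List (Rule) := [Rule.mk (nat_lit 2) (nat_lit 126) (Steps.bwd (nat_lit 4) (Steps.bwd (nat_lit 2) (Steps.fwd (nat_lit 24576) (Steps.bwd (nat_lit 2) (Steps.fwd (nat_lit 24576) (Steps.bwd (nat_lit 2) (Steps.bwd (nat_lit 4) Steps.nil))))))) (nat_lit 5) (nat_lit 0),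
  Rule.mk (nat_lit 11) (nat_lit 126) (Steps.bwd (nat_lit 4) (Steps.bwd (nat_lit 14) (Steps.fwd (nat_lit 32768) (Steps.fwd (nat_lit 122880) (Steps.bwd (nat_lit 14) (Steps.bwd (nat_lit 17) (Steps.fwd (nat_lit 81920) Steps.nil))))))) (nat_lit 52) (nat_lit 0),
  Rule.mk (nat_lit 17) (nat_lit 126) (Steps.fwd (nat_lit 24576) (Steps.bwd (nat_lit 13) (Steps.fwd (nat_lit 32768) (Steps.bwd (nat_lit 12) (Steps.bwd (nat_lit 14) (Steps.fwd (nat_lit 131072) (Steps.bwd (nat_lit 11) Steps.nil))))))) (nat_lit 51) (nat_lit 5),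
  Rule.mk (nat_lit 8) (nat_lit 270) (Steps.bwd (nat_lit 1) (Steps.fwd (nat_lit 32768) (Steps.bwd (nat_lit 3) (Steps.bwd (nat_lit 2) (Steps.fwd (nat_lit 24576) (Steps.fwd (nat_lit 81920) (Steps.bwd (nat_lit 17) (Steps.fwd (nat_lit 147456) (Steps.bwd (nat_lit 1) (Steps.bwd (nat_lit 9) (Steps.bwd (nat_lit 1) (Steps.bwd (nat_lit 9) (Steps.fwd (nat_lit 16384) (Steps.fwd (nat_lit 98304) (Steps.bwd (nat_lit 3) (Steps.bwd (nat_lit 9) Steps.nil)))))))))))))))) (nat_lit 77) (nat_lit 0),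
  Rule.mk (nat_lit 8) (nat_lit 126) (Steps.bwd (nat_lit 18) (Steps.bwd (nat_lit 8) (Steps.bwd (nat_lit 19) (Steps.bwd (nat_lit 8) (Steps.fwd (nat_lit 16384) (Steps.bwd (nat_lit 1) (Steps.bwd (nat_lit 19) Steps.nil))))))) (nat_lit 87) (nat_lit 4),
  Rule.mk (nat_lit 13) (nat_lit 142) (Steps.bwd (nat_lit 15) (Steps.bwd (nat_lit 16) (Steps.fwd (nat_lit 90112) (Steps.fwd (nat_lit 139264) (Steps.fwd (nat_lit 8192) (Steps.fwd (nat_lit 131072) (Steps.bwd (nat_lit 1) (Steps.bwd (nat_lit 10) Steps.nil)))))))) (nat_lit 47) (nat_lit 2),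
  Rule.mk (nat_lit 2) (nat_lit 190) (Steps.bwd (nat_lit 15) (Steps.fwd (nat_lit 8192) (Steps.fwd (nat_lit 139264) (Steps.bwd (nat_lit 13) (Steps.bwd (nat_lit 9) (Steps.bwd (nat_lit 12) (Steps.bwd (nat_lit 9) (Steps.bwd (nat_lit 13) (Steps.bwd (nat_lit 9) (Steps.fwd (nat_lit 8192) (Steps.fwd (nat_lit 8192) Steps.nil))))))))))) (nat_lit 75) (nat_lit 3),
  Rule.mk (nat_lit 10) (nat_lit 286) (Steps.fwd (nat_lit 16384) (Steps.fwd (nat_lit 32768) (Steps.fwd (nat_lit 32768) (Steps.bwd (nat_lit 9) (Steps.fwd (nat_lit 57344) (Steps.fwd (nat_lit 81920) (Steps.bwd (nat_lit 8) (Steps.bwd (nat_lit 3) (Steps.bwd (nat_lit 2) (Steps.bwd (nat_lit 4) (Steps.fwd (nat_lit 81920) (Steps.fwd (nat_lit 57344) (Steps.bwd (nat_lit 2) (Steps.bwd (nat_lit 11) (Steps.fwd (nat_lit 16384) (Steps.bwd (nat_lit 11) (Steps.bwd (nat_lit 2) Steps.nil))))))))))))))))) (nat_lit 56) (nat_lit 15),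
  Rule.mk (nat_lit 9) (nat_lit 110) (Steps.bwd (nat_lit 10) (Steps.bwd (nat_lit 9) (Steps.fwd (nat_lit 90112) (Steps.fwd (nat_lit 24576) (Steps.bwd (nat_lit 15) (Steps.bwd (nat_lit 4) Steps.nil)))))) (nat_lit 60) (nat_lit 1),
  Rule.mk (nat_lit 7) (nat_lit 126) (Steps.bwd (nat_lit 18) (Steps.bwd (nat_lit 7) (Steps.bwd (nat_lit 19) (Steps.fwd (nat_lit 65536) (Steps.bwd (nat_lit 18) (Steps.fwd (nat_lit 8192) (Steps.bwd (nat_lit 2) Steps.nil))))))) (nat_lit 86) (nat_lit 1),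
  Rule.mk (nat_lit 9) (nat_lit 270) (Steps.fwd (nat_lit 24576) (Steps.bwd (nat_lit 12) (Steps.fwd (nat_lit 8192) (Steps.fwd (nat_lit 73728) (Steps.bwd (nat_lit 2) (Steps.bwd (nat_lit 9) (Steps.bwd (nat_lit 2) (Steps.bwd (nat_lit 18) (Steps.fwd (nat_lit 139264) (Steps.bwd (nat_lit 10) (Steps.fwd (nat_lit 32768) (Steps.bwd (nat_lit 1) (Steps.fwd (nat_lit 24576) (Steps.fwd (nat_lit 24576) (Steps.bwd (nat_lit 2) (Steps.bwd (nat_lit 7) Steps.nil)))))))))))))))) (nat_lit 76) (nat_lit 2),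
  Rule.mk (nat_lit 12) (nat_lit 158) (Steps.bwd (nat_lit 11) (Steps.fwd (nat_lit 131072) (Steps.fwd (nat_lit 8192) (Steps.bwd (nat_lit 9) (Steps.bwd (nat_lit 15) (Steps.bwd (nat_lit 9) (Steps.fwd (nat_lit 32768) (Steps.fwd (nat_lit 32768) (Steps.fwd (nat_lit 16384) Steps.nil))))))))) (nat_lit 63) (nat_lit 4),
  Rule.mk (nat_lit 4) (nat_lit 286) (Steps.bwd (nat_lit 11) (Steps.fwd (nat_lit 57344) (Steps.fwd (nat_lit 8192) (Steps.bwd (nat_lit 11) (Steps.bwd (nat_lit 1) (Steps.fwd (nat_lit 81920) (Steps.fwd (nat_lit 8192) (Steps.bwd (nat_lit 10) (Steps.bwd (nat_lit 1) (Steps.fwd (nat_lit 32768) (Steps.bwd (nat_lit 3) (Steps.fwd (nat_lit 73728) (Steps.bwd (nat_lit 8) (Steps.bwd (nat_lit 11) (Steps.fwd (nat_lit 57344) (Steps.fwd (nat_lit 32768) (Steps.bwd (nat_lit 2) Steps.nil))))))))))))))))) (nat_lit 56) (nat_lit 7),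
  Rule.mk (nat_lit 2) (nat_lit 286) (Steps.bwd (nat_lit 11) (Steps.fwd (nat_lit 16384) (Steps.bwd (nat_lit 10) (Steps.fwd (nat_lit 8192) (Steps.fwd (nat_lit 90112) (Steps.bwd (nat_lit 1) (Steps.bwd (nat_lit 7) (Steps.bwd (nat_lit 10) (Steps.fwd (nat_lit 32768) (Steps.fwd (nat_lit 16384) (Steps.fwd (nat_lit 24576) (Steps.fwd (nat_lit 65536) (Steps.bwd (nat_lit 10) (Steps.fwd (nat_lit 65536) (Steps.fwd (nat_lit 73728) (Steps.fwd (nat_lit 24576) (Steps.fwd (nat_lit 24576) Steps.nil))))))))))))))))) (nat_lit 57) (nat_lit 3),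
  Rule.mk (nat_lit 16) (nat_lit 110) (Steps.bwd (nat_lit 2) (Steps.fwd (nat_lit 114688) (Steps.bwd (nat_lit 1) (Steps.fwd (nat_lit 114688) (Steps.bwd (nat_lit 15) (Steps.fwd (nat_lit 90112) Steps.nil)))))) (nat_lit 45) (nat_lit 4),
  Rule.mk (nat_lit 17) (nat_lit 158) (Steps.bwd (nat_lit 2) (Steps.fwd (nat_lit 73728) (Steps.fwd (nat_lit 114688) (Steps.fwd (nat_lit 73728) (Steps.bwd (nat_lit 3) (Steps.bwd (nat_lit 3) (Steps.bwd (nat_lit 1) (Steps.bwd (nat_lit 12) (Steps.fwd (nat_lit 81920) Steps.nil))))))))) (nat_lit 63) (nat_lit 6),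
  Rule.mk (nat_lit 9) (nat_lit 190) (Steps.bwd (nat_lit 2) (Steps.bwd (nat_lit 2) (Steps.fwd (nat_lit 8192) (Steps.bwd (nat_lit 15) (Steps.fwd (nat_lit 8192) (Steps.bwd (nat_lit 16) (Steps.fwd (nat_lit 98304) (Steps.bwd (nat_lit 9) (Steps.bwd (nat_lit 12) (Steps.fwd (nat_lit 73728) (Steps.bwd (nat_lit 13) Steps.nil))))))))))) (nat_lit 75) (nat_lit 0),
  Rule.mk (nat_lit 14) (nat_lit 158) (Steps.bwd (nat_lit 9) (Steps.fwd (nat_lit 16384) (Steps.fwd (nat_lit 139264) (Steps.fwd (nat_lit 90112) (Steps.bwd (nat_lit 13) (Steps.bwd (nat_lit 2) (Steps.bwd (nat_lit 4) (Steps.bwd (nat_lit 4) (Steps.bwd (nat_lit 9) Steps.nil))))))))) (nat_lit 62) (nat_lit 2),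
  Rule.mk (nat_lit 8) (nat_lit 126) (Steps.bwd (nat_lit 19) (Steps.fwd (nat_lit 57344) (Steps.fwd (nat_lit 16384) (Steps.bwd (nat_lit 1) (Steps.bwd (nat_lit 19) (Steps.fwd (nat_lit 57344) (Steps.bwd (nat_lit 18) Steps.nil))))))) (nat_lit 87) (nat_lit 6),
  Rule.mk (nat_lit 9) (nat_lit 206) (Steps.fwd (nat_lit 16384) (Steps.fwd (nat_lit 16384) (Steps.fwd (nat_lit 73728) (Steps.fwd (nat_lit 139264) (Steps.fwd (nat_lit 147456) (Steps.fwd (nat_lit 81920) (Steps.bwd (nat_lit 2) (Steps.bwd (nat_lit 3) (Steps.fwd (nat_lit 8192) (Steps.bwd (nat_lit 4) (Steps.bwd (nat_lit 4) (Steps.bwd (nat_lit 2) Steps.nil)))))))))))) (nat_lit 68) (nat_lit 1),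
  Rule.mk (nat_lit 12) (nat_lit 126) (Steps.bwd (nat_lit 3) (Steps.bwd (nat_lit 16) (Steps.fwd (nat_lit 90112) (Steps.fwd (nat_lit 139264) (Steps.fwd (nat_lit 114688) (Steps.fwd (nat_lit 98304) (Steps.bwd (nat_lit 4) Steps.nil))))))) (nat_lit 50) (nat_lit 2),
  Rule.mk (nat_lit 16) (nat_lit 126) (Steps.bwd (nat_lit 10) (Steps.fwd (nat_lit 139264) (Steps.bwd (nat_lit 15) (Steps.fwd (nat_lit 98304) (Steps.fwd (nat_lit 24576) (Steps.fwd (nat_lit 106496) (Steps.bwd (nat_lit 3) Steps.nil))))))) (nat_lit 50) (nat_lit 4),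
  Rule.mk (nat_lit 2) (nat_lit 270) (Steps.fwd (nat_lit 24576) (Steps.bwd (nat_lit 11) (Steps.bwd (nat_lit 17) (Steps.fwd (nat_lit 147456) (Steps.fwd (nat_lit 16384) (Steps.fwd (nat_lit 73728) (Steps.bwd (nat_lit 1) (Steps.bwd (nat_lit 9) (Steps.bwd (nat_lit 1) (Steps.fwd (nat_lit 98304) (Steps.bwd (nat_lit 3) (Steps.fwd (nat_lit 73728) (Steps.bwd (nat_lit 8) (Steps.fwd (nat_lit 16384) (Steps.bwd (nat_lit 3) (Steps.bwd (nat_lit 3) Steps.nil)))))))))))))))) (nat_lit 77) (nat_lit 4),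
  Rule.mk (nat_lit 2) (nat_lit 286) (Steps.bwd (nat_lit 11) (Steps.bwd (nat_lit 1) (Steps.bwd (nat_lit 11) (Steps.fwd (nat_lit 8192) (Steps.fwd (nat_lit 90112) (Steps.fwd (nat_lit 16384) (Steps.bwd (nat_lit 3) (Steps.bwd (nat_lit 3) (Steps.fwd (nat_lit 73728) (Steps.fwd (nat_lit 57344) (Steps.fwd (nat_lit 81920) (Steps.bwd (nat_lit 8) (Steps.bwd (nat_lit 3) (Steps.fwd (nat_lit 8192) (Steps.bwd (nat_lit 4) (Steps.fwd (nat_lit 81920) (Steps.fwd (nat_lit 57344) Steps.nil))))))))))))))))) (nat_lit 56) (nat_lit 10),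
  Rule.mk (nat_lit 3) (nat_lit 206) (Steps.fwd (nat_lit 8192) (Steps.bwd (nat_lit 4) (Steps.fwd (nat_lit 24576) (Steps.fwd (nat_lit 8192) (Steps.fwd (nat_lit 73728) (Steps.fwd (nat_lit 16384) (Steps.fwd (nat_lit 16384) (Steps.bwd (nat_lit 9) (Steps.fwd (nat_lit 139264) (Steps.fwd (nat_lit 147456) (Steps.fwd (nat_lit 81920) (Steps.bwd (nat_lit 2) Steps.nil)))))))))))) (nat_lit 68) (nat_lit 9),
  Rule.mk (nat_lit 15) (nat_lit 126) (Steps.bwd (nat_lit 3) (Steps.bwd (nat_lit 10) (Steps.bwd (nat_lit 10) (Steps.fwd (nat_lit 139264) (Steps.fwd (nat_lit 114688) (Steps.bwd (nat_lit 15) (Steps.bwd (nat_lit 4) Steps.nil))))))) (nat_lit 53) (nat_lit 7),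
  Rule.mk (nat_lit 9) (nat_lit 110) (Steps.bwd (nat_lit 16) (Steps.fwd (nat_lit 81920) (Steps.fwd (nat_lit 122880) (Steps.bwd (nat_lit 11) (Steps.bwd (nat_lit 9) (Steps.fwd (nat_lit 155648) Steps.nil)))))) (nat_lit 66) (nat_lit 3),
  Rule.mk (nat_lit 16) (nat_lit 110) (Steps.bwd (nat_lit 16) (Steps.bwd (nat_lit 14) (Steps.bwd (nat_lit 11) (Steps.fwd (nat_lit 73728) (Steps.bwd (nat_lit 3) (Steps.bwd (nat_lit 9) Steps.nil)))))) (nat_lit 70) (nat_lit 4),
  Rule.mk (nat_lit 2) (nat_lit 142) (Steps.bwd (nat_lit 16) (Steps.fwd (nat_lit 16384) (Steps.bwd (nat_lit 17) (Steps.bwd (nat_lit 11) (Steps.fwd (nat_lit 131072) (Steps.fwd (nat_lit 122880) (Steps.bwd (nat_lit 12) (Steps.bwd (nat_lit 11) Steps.nil)))))))) (nat_lit 46) (nat_lit 1),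
  Rule.mk (nat_lit 1) (nat_lit 158) (Steps.bwd (nat_lit 16) (Steps.bwd (nat_lit 10) (Steps.fwd (nat_lit 98304) (Steps.fwd (nat_lit 8192) (Steps.bwd (nat_lit 4) (Steps.fwd (nat_lit 24576) (Steps.bwd (nat_lit 9) (Steps.bwd (nat_lit 14) (Steps.fwd (nat_lit 73728) Steps.nil))))))))) (nat_lit 62) (nat_lit 4),
  Rule.mk (nat_lit 1) (nat_lit 126) (Steps.bwd (nat_lit 19) (Steps.fwd (nat_lit 57344) (Steps.fwd (nat_lit 155648) (Steps.bwd (nat_lit 8) (Steps.fwd (nat_lit 147456) (Steps.fwd (nat_lit 57344) (Steps.fwd (nat_lit 16384) Steps.nil))))))) (nat_lit 87) (nat_lit 2),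
  Rule.mk (nat_lit 8) (nat_lit 158) (Steps.bwd (nat_lit 19) (Steps.fwd (nat_lit 57344) (Steps.fwd (nat_lit 147456) (Steps.fwd (nat_lit 57344) (Steps.bwd (nat_lit 19) (Steps.fwd (nat_lit 57344) (Steps.fwd (nat_lit 147456) (Steps.fwd (nat_lit 57344) (Steps.bwd (nat_lit 19) Steps.nil))))))))) (nat_lit 85) (nat_lit 0),
  Rule.mk (nat_lit 3) (nat_lit 126) (Steps.bwd (nat_lit 10) (Steps.fwd (nat_lit 90112) (Steps.bwd (nat_lit 16) (Steps.fwd (nat_lit 114688) (Steps.fwd (nat_lit 114688) (Steps.fwd (nat_lit 24576) (Steps.fwd (nat_lit 114688) Steps.nil))))))) (nat_lit 53) (nat_lit 0),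
  Rule.mk (nat_lit 16) (nat_lit 142) (Steps.bwd (nat_lit 10) (Steps.fwd (nat_lit 139264) (Steps.fwd (nat_lit 8192) (Steps.fwd (nat_lit 131072) (Steps.bwd (nat_lit 1) (Steps.fwd (nat_lit 90112) (Steps.fwd (nat_lit 98304) (Steps.bwd (nat_lit 15) Steps.nil)))))))) (nat_lit 47) (nat_lit 4),
  Rule.mk (nat_lit 2) (nat_lit 286) (Steps.bwd (nat_lit 10) (Steps.fwd (nat_lit 16384) (Steps.bwd (nat_lit 3) (Steps.bwd (nat_lit 3) (Steps.fwd (nat_lit 73728) (Steps.bwd (nat_lit 8) (Steps.fwd (nat_lit 81920) (Steps.fwd (nat_lit 57344) (Steps.bwd (nat_lit 3) (Steps.bwd (nat_lit 2) (Steps.bwd (nat_lit 4) (Steps.bwd (nat_lit 11) (Steps.fwd (nat_lit 57344) (Steps.bwd (nat_lit 2) (Steps.bwd (nat_lit 11) (Steps.fwd (nat_lit 16384) (Steps.bwd (nat_lit 11) Steps.nil))))))))))))))))) (nat_lit 56) (nat_lit 14),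
  Rule.mk (nat_lit 7) (nat_lit 286) (Steps.bwd (nat_lit 10) (Steps.fwd (nat_lit 32768) (Steps.fwd (nat_lit 16384) (Steps.fwd (nat_lit 24576) (Steps.bwd (nat_lit 7) (Steps.bwd (nat_lit 10) (Steps.bwd (nat_lit 7) (Steps.fwd (nat_lit 73728) (Steps.fwd (nat_lit 24576) (Steps.fwd (nat_lit 24576) (Steps.bwd (nat_lit 2) (Steps.bwd (nat_lit 11) (Steps.fwd (nat_lit 16384) (Steps.bwd (nat_lit 10) (Steps.bwd (nat_lit 2) (Steps.fwd (nat_lit 90112) (Steps.bwd (nat_lit 1) Steps.nil))))))))))))))))) (nat_lit 57) (nat_lit 10),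
  Rule.mk (nat_lit 1) (nat_lit 110) (Steps.bwd (nat_lit 17) (Steps.fwd (nat_lit 81920) (Steps.fwd (nat_lit 122880) (Steps.bwd (nat_lit 14) (Steps.bwd (nat_lit 2) (Steps.fwd (nat_lit 122880) Steps.nil)))))) (nat_lit 44) (nat_lit 3),
  Rule.mk (nat_lit 14) (nat_lit 126) (Steps.bwd (nat_lit 17) (Steps.fwd (nat_lit 81920) (Steps.bwd (nat_lit 17) (Steps.bwd (nat_lit 4) (Steps.fwd (nat_lit 98304) (Steps.bwd (nat_lit 3) (Steps.fwd (nat_lit 106496) Steps.nil))))))) (nat_lit 51) (nat_lit 2),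
  Rule.mk (nat_lit 2) (nat_lit 142) (Steps.bwd (nat_lit 17) (Steps.fwd (nat_lit 16384) (Steps.fwd (nat_lit 90112) (Steps.bwd (nat_lit 13) (Steps.bwd (nat_lit 15) (Steps.fwd (nat_lit 139264) (Steps.bwd (nat_lit 10) (Steps.bwd (nat_lit 16) Steps.nil)))))))) (nat_lit 47) (nat_lit 7),
  Rule.mk (nat_lit 16) (nat_lit 142) (Steps.fwd (nat_lit 16384) (Steps.fwd (nat_lit 131072) (Steps.fwd (nat_lit 81920) (Steps.fwd (nat_lit 131072) (Steps.bwd (nat_lit 14) (Steps.fwd (nat_lit 106496) (Steps.bwd (nat_lit 11) (Steps.bwd (nat_lit 2) Steps.nil)))))))) (nat_lit 46) (nat_lit 2),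
  Rule.mk (nat_lit 10) (nat_lit 110) (Steps.bwd (nat_lit 4) (Steps.fwd (nat_lit 114688) (Steps.fwd (nat_lit 24576) (Steps.fwd (nat_lit 73728) (Steps.bwd (nat_lit 10) (Steps.bwd (nat_lit 9) Steps.nil)))))) (nat_lit 60) (nat_lit 4),
  Rule.mk (nat_lit 13) (nat_lit 126) (Steps.bwd (nat_lit 4) (Steps.fwd (nat_lit 106496) (Steps.fwd (nat_lit 32768) (Steps.bwd (nat_lit 16) (Steps.bwd (nat_lit 10) (Steps.bwd (nat_lit 16) (Steps.bwd (nat_lit 15) Steps.nil))))))) (nat_lit 50) (nat_lit 0),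
  Rule.mk (nat_lit 17) (nat_lit 126) (Steps.bwd (nat_lit 4) (Steps.fwd (nat_lit 98304) (Steps.fwd (nat_lit 32768) (Steps.fwd (nat_lit 106496) (Steps.fwd (nat_lit 122880) (Steps.fwd (nat_lit 131072) (Steps.fwd (nat_lit 81920) Steps.nil))))))) (nat_lit 51) (nat_lit 5),
  Rule.mk (nat_lit 9) (nat_lit 270) (Steps.bwd (nat_lit 4) (Steps.fwd (nat_lit 106496) (Steps.fwd (nat_lit 8192) (Steps.fwd (nat_lit 73728) (Steps.bwd (nat_lit 2) (Steps.fwd (nat_lit 73728) (Steps.fwd (nat_lit 8192) (Steps.bwd (nat_lit 18) (Steps.fwd (nat_lit 139264) (Steps.bwd (nat_lit 10) (Steps.bwd (nat_lit 3) (Steps.bwd (nat_lit 1) (Steps.bwd (nat_lit 4) (Steps.fwd (nat_lit 24576) (Steps.fwd (nat_lit 8192) (Steps.bwd (nat_lit 7) Steps.nil)))))))))))))))) (nat_lit 76) (nat_lit 2),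
  Rule.mk (nat_lit 7) (nat_lit 286) (Steps.bwd (nat_lit 9) (Steps.fwd (nat_lit 24576) (Steps.fwd (nat_lit 24576) (Steps.bwd (nat_lit 2) (Steps.bwd (nat_lit 11) (Steps.bwd (nat_lit 1) (Steps.fwd (nat_lit 90112) (Steps.bwd (nat_lit 2) (Steps.fwd (nat_lit 90112) (Steps.fwd (nat_lit 16384) (Steps.bwd (nat_lit 7) (Steps.fwd (nat_lit 90112) (Steps.fwd (nat_lit 32768) (Steps.bwd (nat_lit 1) (Steps.fwd (nat_lit 24576) (Steps.fwd (nat_lit 65536) (Steps.bwd (nat_lit 10) Steps.nil))))))))))))))))) (nat_lit 57) (nat_lit 17),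
  Rule.mk (nat_lit 8) (nat_lit 126) (Steps.bwd (nat_lit 19) (Steps.fwd (nat_lit 57344) (Steps.bwd (nat_lit 1) (Steps.bwd (nat_lit 1) (Steps.bwd (nat_lit 19) (Steps.fwd (nat_lit 57344) (Steps.fwd (nat_lit 155648) Steps.nil))))))) (nat_lit 87) (nat_lit 6),
  Rule.mk (nat_lit 7) (nat_lit 286) (Steps.bwd (nat_lit 10) (Steps.fwd (nat_lit 65536) (Steps.bwd (nat_lit 9) (Steps.fwd (nat_lit 24576) (Steps.bwd (nat_lit 4) (Steps.fwd (nat_lit 8192) (Steps.fwd (nat_lit 81920) (Steps.fwd (nat_lit 16384) (Steps.fwd (nat_lit 90112) (Steps.fwd (nat_lit 8192) (Steps.fwd (nat_lit 90112) (Steps.bwd (nat_lit 1) (Steps.fwd (nat_lit 65536) (Steps.fwd (nat_lit 90112) (Steps.bwd (nat_lit 3) (Steps.bwd (nat_lit 1) (Steps.fwd (nat_lit 24576) Steps.nil))))))))))))))))) (nat_lit 57) (nat_lit 15),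
  Rule.mk (nat_lit 9) (nat_lit 110) (Steps.bwd (nat_lit 19) (Steps.fwd (nat_lit 73728) (Steps.fwd (nat_lit 90112) (Steps.bwd (nat_lit 15) (Steps.fwd (nat_lit 90112) (Steps.bwd (nat_lit 17) Steps.nil)))))) (nat_lit 67) (nat_lit 5),
  Rule.mk (nat_lit 8) (nat_lit 126) (Steps.bwd (nat_lit 19) (Steps.fwd (nat_lit 57344) (Steps.bwd (nat_lit 1) (Steps.fwd (nat_lit 16384) (Steps.bwd (nat_lit 19) (Steps.fwd (nat_lit 57344) (Steps.fwd (nat_lit 155648) Steps.nil))))))) (nat_lit 87) (nat_lit 6),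
  Rule.mk (nat_lit 2) (nat_lit 94) (Steps.fwd (nat_lit 65536) (Steps.bwd (nat_lit 1) (Steps.bwd (nat_lit 1) (Steps.fwd (nat_lit 16384) (Steps.bwd (nat_lit 8) Steps.nil))))) (nat_lit 83) (nat_lit 5),
  Rule.mk (nat_lit 2) (nat_lit 94) (Steps.fwd (nat_lit 8192) (Steps.fwd (nat_lit 8192) (Steps.bwd (nat_lit 2) (Steps.bwd (nat_lit 7) (Steps.bwd (nat_lit 7) Steps.nil))))) (nat_lit 78) (nat_lit 3),
  Rule.mk (nat_lit 14) (nat_lit 126) (Steps.bwd (nat_lit 17) (Steps.bwd (nat_lit 11) (Steps.bwd (nat_lit 17) (Steps.bwd (nat_lit 4) (Steps.bwd (nat_lit 13) (Steps.fwd (nat_lit 32768) (Steps.fwd (nat_lit 106496) Steps.nil))))))) (nat_lit 51) (nat_lit 2),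
  Rule.mk (nat_lit 2) (nat_lit 142) (Steps.bwd (nat_lit 17) (Steps.fwd (nat_lit 16384) (Steps.bwd (nat_lit 10) (Steps.bwd (nat_lit 13) (Steps.bwd (nat_lit 15) (Steps.fwd (nat_lit 139264) (Steps.fwd (nat_lit 90112) (Steps.bwd (nat_lit 16) Steps.nil)))))))) (nat_lit 47) (nat_lit 7),
  Rule.mk (nat_lit 7) (nat_lit 126) (Steps.fwd (nat_lit 155648) (Steps.fwd (nat_lit 65536) (Steps.bwd (nat_lit 19) (Steps.fwd (nat_lit 65536) (Steps.fwd (nat_lit 155648) (Steps.bwd (nat_lit 2) (Steps.bwd (nat_lit 2) Steps.nil))))))) (nat_lit 86) (nat_lit 1),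
  Rule.mk (nat_lit 9) (nat_lit 206) (Steps.bwd (nat_lit 1) (Steps.fwd (nat_lit 16384) (Steps.bwd (nat_lit 9) (Steps.fwd (nat_lit 139264) (Steps.bwd (nat_lit 19) (Steps.fwd (nat_lit 81920) (Steps.bwd (nat_lit 2) (Steps.fwd (nat_lit 32768) (Steps.bwd (nat_lit 2) (Steps.bwd (nat_lit 4) (Steps.fwd (nat_lit 24576) (Steps.bwd (nat_lit 2) Steps.nil)))))))))))) (nat_lit 68) (nat_lit 1),
  Rule.mk (nat_lit 9) (nat_lit 190) (Steps.bwd (nat_lit 13) (Steps.bwd (nat_lit 9) (Steps.bwd (nat_lit 2) (Steps.bwd (nat_lit 2) (Steps.fwd (nat_lit 8192) (Steps.fwd (nat_lit 114688) (Steps.bwd (nat_lit 2) (Steps.fwd (nat_lit 139264) (Steps.fwd (nat_lit 98304) (Steps.fwd (nat_lit 73728) (Steps.fwd (nat_lit 106496) Steps.nil))))))))))) (nat_lit 75) (nat_lit 10),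
  Rule.mk (nat_lit 15) (nat_lit 158) (Steps.fwd (nat_lit 73728) (Steps.bwd (nat_lit 3) (Steps.fwd (nat_lit 32768) (Steps.fwd (nat_lit 16384) (Steps.fwd (nat_lit 106496) (Steps.bwd (nat_lit 11) (Steps.bwd (nat_lit 17) (Steps.bwd (nat_lit 2) (Steps.bwd (nat_lit 9) Steps.nil))))))))) (nat_lit 63) (nat_lit 9),
  Rule.mk (nat_lit 12) (nat_lit 190) (Steps.bwd (nat_lit 9) (Steps.fwd (nat_lit 98304) (Steps.bwd (nat_lit 9) (Steps.fwd (nat_lit 106496) (Steps.bwd (nat_lit 17) (Steps.bwd (nat_lit 1) (Steps.bwd (nat_lit 14) (Steps.fwd (nat_lit 16384) (Steps.bwd (nat_lit 1) (Steps.fwd (nat_lit 16384) (Steps.bwd (nat_lit 9) Steps.nil))))))))))) (nat_lit 74) (nat_lit 2),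
  Rule.mk (nat_lit 4) (nat_lit 126) (Steps.bwd (nat_lit 12) (Steps.fwd (nat_lit 32768) (Steps.bwd (nat_lit 16) (Steps.fwd (nat_lit 90112) (Steps.fwd (nat_lit 139264) (Steps.bwd (nat_lit 15) (Steps.fwd (nat_lit 98304) Steps.nil))))))) (nat_lit 50) (nat_lit 1),
  Rule.mk (nat_lit 3) (nat_lit 126) (Steps.bwd (nat_lit 12) (Steps.fwd (nat_lit 122880) (Steps.fwd (nat_lit 131072) (Steps.bwd (nat_lit 11) (Steps.bwd (nat_lit 17) (Steps.fwd (nat_lit 24576) (Steps.fwd (nat_lit 98304) Steps.nil))))))) (nat_lit 51) (nat_lit 0),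
  Rule.mk (nat_lit 12) (nat_lit 190) (Steps.bwd (nat_lit 9) (Steps.bwd (nat_lit 13) (Steps.fwd (nat_lit 73728) (Steps.fwd (nat_lit 106496) (Steps.fwd (nat_lit 131072) (Steps.bwd (nat_lit 1) (Steps.fwd (nat_lit 122880) (Steps.bwd (nat_lit 1) (Steps.fwd (nat_lit 16384) (Steps.bwd (nat_lit 1) (Steps.fwd (nat_lit 73728) Steps.nil))))))))))) (nat_lit 74) (nat_lit 2),
  Rule.mk (nat_lit 16) (nat_lit 142) (Steps.bwd (nat_lit 1) (Steps.fwd (nat_lit 131072) (Steps.bwd (nat_lit 11) (Steps.fwd (nat_lit 131072) (Steps.bwd (nat_lit 14) (Steps.bwd (nat_lit 12) (Steps.fwd (nat_lit 81920) (Steps.fwd (nat_lit 8192) Steps.nil)))))))) (nat_lit 46) (nat_lit 2),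
  Rule.mk (nat_lit 17) (nat_lit 142) (Steps.bwd (nat_lit 1) (Steps.fwd (nat_lit 90112) (Steps.fwd (nat_lit 98304) (Steps.fwd (nat_lit 114688) (Steps.bwd (nat_lit 16) (Steps.bwd (nat_lit 10) (Steps.fwd (nat_lit 139264) (Steps.fwd (nat_lit 8192) Steps.nil)))))))) (nat_lit 47) (nat_lit 8),
  Rule.mk (nat_lit 9) (nat_lit 158) (Steps.bwd (nat_lit 1) (Steps.bwd (nat_lit 16) (Steps.fwd (nat_lit 90112) (Steps.fwd (nat_lit 98304) (Steps.bwd (nat_lit 2) (Steps.bwd (nat_lit 4) (Steps.fwd (nat_lit 24576) (Steps.bwd (nat_lit 9) (Steps.fwd (nat_lit 122880) Steps.nil))))))))) (nat_lit 62) (nat_lit 3)]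
noncomputable def R_118 : List (Rule) := [Rule.mk (nat_lit 10) (nat_lit 286) (Steps.bwd (nat_lit 1) (Steps.fwd (nat_lit 32768) (Steps.fwd (nat_lit 32768) (Steps.bwd (nat_lit 9) (Steps.fwd (nat_lit 57344) (Steps.bwd (nat_lit 11) (Steps.bwd (nat_lit 8) (Steps.bwd (nat_lit 3) (Steps.bwd (nat_lit 2) (Steps.fwd (nat_lit 24576) (Steps.fwd (nat_lit 81920) (Steps.fwd (nat_lit 57344) (Steps.bwd (nat_lit 2) (Steps.fwd (nat_lit 81920) (Steps.fwd (nat_lit 16384) (Steps.fwd (nat_lit 81920) (Steps.bwd (nat_lit 2) Steps.nil))))))))))))))))) (nat_lit 56) (nat_lit 15),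
  Rule.mk (nat_lit 16) (nat_lit 142) (Steps.fwd (nat_lit 16384) (Steps.fwd (nat_lit 131072) (Steps.fwd (nat_lit 81920) (Steps.bwd (nat_lit 17) (Steps.bwd (nat_lit 14) (Steps.bwd (nat_lit 12) (Steps.bwd (nat_lit 11) (Steps.bwd (nat_lit 2) Steps.nil)))))))) (nat_lit 46) (nat_lit 2),
  Rule.mk (nat_lit 11) (nat_lit 110) (Steps.bwd (nat_lit 9) (Steps.bwd (nat_lit 11) (Steps.fwd (nat_lit 73728) (Steps.bwd (nat_lit 3) (Steps.bwd (nat_lit 14) (Steps.bwd (nat_lit 3) Steps.nil)))))) (nat_lit 61) (nat_lit 4),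
  Rule.mk (nat_lit 19) (nat_lit 270) (Steps.bwd (nat_lit 1) (Steps.bwd (nat_lit 9) (Steps.bwd (nat_lit 1) (Steps.bwd (nat_lit 9) (Steps.fwd (nat_lit 16384) (Steps.fwd (nat_lit 98304) (Steps.fwd (nat_lit 32768) (Steps.bwd (nat_lit 9) (Steps.bwd (nat_lit 8) (Steps.fwd (nat_lit 16384) (Steps.bwd (nat_lit 3) (Steps.bwd (nat_lit 3) (Steps.fwd (nat_lit 8192) (Steps.bwd (nat_lit 4) (Steps.fwd (nat_lit 81920) (Steps.fwd (nat_lit 131072) Steps.nil)))))))))))))))) (nat_lit 77) (nat_lit 8),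
  Rule.mk (nat_lit 10) (nat_lit 286) (Steps.bwd (nat_lit 1) (Steps.bwd (nat_lit 3) (Steps.fwd (nat_lit 32768) (Steps.fwd (nat_lit 73728) (Steps.fwd (nat_lit 57344) (Steps.fwd (nat_lit 81920) (Steps.fwd (nat_lit 57344) (Steps.fwd (nat_lit 32768) (Steps.bwd (nat_lit 2) (Steps.bwd (nat_lit 4) (Steps.bwd (nat_lit 11) (Steps.bwd (nat_lit 8) (Steps.bwd (nat_lit 2) (Steps.fwd (nat_lit 81920) (Steps.bwd (nat_lit 1) (Steps.bwd (nat_lit 11) (Steps.fwd (nat_lit 8192) Steps.nil))))))))))))))))) (nat_lit 56) (nat_lit 15),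
  Rule.mk (nat_lit 11) (nat_lit 286) (Steps.bwd (nat_lit 1) (Steps.fwd (nat_lit 81920) (Steps.fwd (nat_lit 8192) (Steps.fwd (nat_lit 90112) (Steps.bwd (nat_lit 1) (Steps.fwd (nat_lit 32768) (Steps.bwd (nat_lit 3) (Steps.fwd (nat_lit 73728) (Steps.bwd (nat_lit 8) (Steps.bwd (nat_lit 11) (Steps.bwd (nat_lit 8) (Steps.bwd (nat_lit 3) (Steps.fwd (nat_lit 8192) (Steps.bwd (nat_lit 4) (Steps.bwd (nat_lit 11) (Steps.bwd (nat_lit 8) (Steps.fwd (nat_lit 8192) Steps.nil))))))))))))))))) (nat_lit 56) (nat_lit 11),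
  Rule.mk (nat_lit 14) (nat_lit 110) (Steps.bwd (nat_lit 4) (Steps.fwd (nat_lit 24576) (Steps.fwd (nat_lit 73728) (Steps.bwd (nat_lit 16) (Steps.fwd (nat_lit 73728) (Steps.bwd (nat_lit 17) Steps.nil)))))) (nat_lit 64) (nat_lit 5),
  Rule.mk (nat_lit 11) (nat_lit 126) (Steps.bwd (nat_lit 4) (Steps.bwd (nat_lit 14) (Steps.fwd (nat_lit 32768) (Steps.fwd (nat_lit 122880) (Steps.bwd (nat_lit 14) (Steps.bwd (nat_lit 17) (Steps.bwd (nat_lit 11) Steps.nil))))))) (nat_lit 52) (nat_lit 0),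
  Rule.mk (nat_lit 10) (nat_lit 158) (Steps.bwd (nat_lit 13) (Steps.fwd (nat_lit 8192) (Steps.bwd (nat_lit 4) (Steps.fwd (nat_lit 24576) (Steps.bwd (nat_lit 9) (Steps.fwd (nat_lit 122880) (Steps.bwd (nat_lit 9) (Steps.fwd (nat_lit 16384) (Steps.fwd (nat_lit 139264) Steps.nil))))))))) (nat_lit 62) (nat_lit 6),
  Rule.mk (nat_lit 9) (nat_lit 190) (Steps.bwd (nat_lit 13) (Steps.fwd (nat_lit 73728) (Steps.bwd (nat_lit 12) (Steps.fwd (nat_lit 131072) (Steps.bwd (nat_lit 1) (Steps.fwd (nat_lit 122880) (Steps.bwd (nat_lit 1) (Steps.bwd (nat_lit 1) (Steps.bwd (nat_lit 1) (Steps.fwd (nat_lit 73728) (Steps.bwd (nat_lit 12) Steps.nil))))))))))) (nat_lit 74) (nat_lit 3),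
  Rule.mk (nat_lit 3) (nat_lit 110) (Steps.fwd (nat_lit 73728) (Steps.bwd (nat_lit 16) (Steps.fwd (nat_lit 139264) (Steps.fwd (nat_lit 122880) (Steps.bwd (nat_lit 11) (Steps.bwd (nat_lit 9) Steps.nil)))))) (nat_lit 70) (nat_lit 2),
  Rule.mk (nat_lit 4) (nat_lit 110) (Steps.fwd (nat_lit 73728) (Steps.fwd (nat_lit 90112) (Steps.fwd (nat_lit 114688) (Steps.bwd (nat_lit 17) (Steps.fwd (nat_lit 131072) (Steps.bwd (nat_lit 9) Steps.nil)))))) (nat_lit 71) (nat_lit 6),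
  Rule.mk (nat_lit 15) (nat_lit 158) (Steps.fwd (nat_lit 73728) (Steps.bwd (nat_lit 3) (Steps.bwd (nat_lit 3) (Steps.fwd (nat_lit 16384) (Steps.bwd (nat_lit 12) (Steps.bwd (nat_lit 11) (Steps.bwd (nat_lit 17) (Steps.fwd (nat_lit 8192) (Steps.bwd (nat_lit 9) Steps.nil))))))))) (nat_lit 63) (nat_lit 9),
  Rule.mk (nat_lit 12) (nat_lit 190) (Steps.bwd (nat_lit 17) (Steps.bwd (nat_lit 1) (Steps.fwd (nat_lit 122880) (Steps.fwd (nat_lit 16384) (Steps.bwd (nat_lit 1) (Steps.fwd (nat_lit 16384) (Steps.fwd (nat_lit 73728) (Steps.bwd (nat_lit 12) (Steps.bwd (nat_lit 9) (Steps.bwd (nat_lit 13) (Steps.bwd (nat_lit 9) Steps.nil))))))))))) (nat_lit 74) (nat_lit 6),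
  Rule.mk (nat_lit 7) (nat_lit 126) (Steps.bwd (nat_lit 19) (Steps.fwd (nat_lit 65536) (Steps.fwd (nat_lit 155648) (Steps.fwd (nat_lit 8192) (Steps.bwd (nat_lit 2) (Steps.bwd (nat_lit 7) (Steps.fwd (nat_lit 155648) Steps.nil))))))) (nat_lit 86) (nat_lit 3),
  Rule.mk (nat_lit 10) (nat_lit 142) (Steps.bwd (nat_lit 13) (Steps.fwd (nat_lit 114688) (Steps.fwd (nat_lit 139264) (Steps.bwd (nat_lit 10) (Steps.fwd (nat_lit 139264) (Steps.bwd (nat_lit 2) (Steps.bwd (nat_lit 17) (Steps.fwd (nat_lit 16384) Steps.nil)))))))) (nat_lit 47) (nat_lit 1),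
  Rule.mk (nat_lit 9) (nat_lit 190) (Steps.bwd (nat_lit 13) (Steps.fwd (nat_lit 73728) (Steps.fwd (nat_lit 106496) (Steps.fwd (nat_lit 131072) (Steps.fwd (nat_lit 16384) (Steps.fwd (nat_lit 122880) (Steps.bwd (nat_lit 1) (Steps.fwd (nat_lit 16384) (Steps.bwd (nat_lit 1) (Steps.fwd (nat_lit 73728) (Steps.fwd (nat_lit 106496) Steps.nil))))))))))) (nat_lit 74) (nat_lit 3),
  Rule.mk (nat_lit 12) (nat_lit 190) (Steps.fwd (nat_lit 73728) (Steps.bwd (nat_lit 13) (Steps.fwd (nat_lit 73728) (Steps.bwd (nat_lit 12) (Steps.bwd (nat_lit 17) (Steps.fwd (nat_lit 16384) (Steps.bwd (nat_lit 14) (Steps.bwd (nat_lit 1) (Steps.bwd (nat_lit 1) (Steps.fwd (nat_lit 16384) (Steps.bwd (nat_lit 9) Steps.nil))))))))))) (nat_lit 74) (nat_lit 2),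
  Rule.mk (nat_lit 4) (nat_lit 270) (Steps.bwd (nat_lit 12) (Steps.bwd (nat_lit 2) (Steps.fwd (nat_lit 73728) (Steps.fwd (nat_lit 8192) (Steps.fwd (nat_lit 73728) (Steps.fwd (nat_lit 8192) (Steps.fwd (nat_lit 155648) (Steps.bwd (nat_lit 16) (Steps.bwd (nat_lit 10) (Steps.fwd (nat_lit 32768) (Steps.fwd (nat_lit 16384) (Steps.fwd (nat_lit 24576) (Steps.fwd (nat_lit 24576) (Steps.bwd (nat_lit 2) (Steps.fwd (nat_lit 65536) (Steps.bwd (nat_lit 9) Steps.nil)))))))))))))))) (nat_lit 76) (nat_lit 3),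
  Rule.mk (nat_lit 8) (nat_lit 270) (Steps.fwd (nat_lit 16384) (Steps.fwd (nat_lit 32768) (Steps.bwd (nat_lit 3) (Steps.fwd (nat_lit 8192) (Steps.bwd (nat_lit 4) (Steps.fwd (nat_lit 81920) (Steps.fwd (nat_lit 131072) (Steps.fwd (nat_lit 147456) (Steps.fwd (nat_lit 16384) (Steps.fwd (nat_lit 73728) (Steps.bwd (nat_lit 1) (Steps.bwd (nat_lit 9) (Steps.fwd (nat_lit 16384) (Steps.bwd (nat_lit 13) (Steps.bwd (nat_lit 3) (Steps.bwd (nat_lit 9) Steps.nil)))))))))))))))) (nat_lit 77) (nat_lit 0),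
  Rule.mk (nat_lit 3) (nat_lit 110) (Steps.bwd (nat_lit 11) (Steps.fwd (nat_lit 73728) (Steps.bwd (nat_lit 11) (Steps.fwd (nat_lit 73728) (Steps.fwd (nat_lit 32768) (Steps.bwd (nat_lit 14) Steps.nil)))))) (nat_lit 61) (nat_lit 3),
  Rule.mk (nat_lit 16) (nat_lit 110) (Steps.bwd (nat_lit 11) (Steps.fwd (nat_lit 122880) (Steps.bwd (nat_lit 11) (Steps.bwd (nat_lit 9) (Steps.fwd (nat_lit 155648) (Steps.fwd (nat_lit 73728) Steps.nil)))))) (nat_lit 66) (nat_lit 4),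
  Rule.mk (nat_lit 12) (nat_lit 142) (Steps.bwd (nat_lit 11) (Steps.fwd (nat_lit 8192) (Steps.fwd (nat_lit 139264) (Steps.bwd (nat_lit 1) (Steps.bwd (nat_lit 17) (Steps.bwd (nat_lit 11) (Steps.bwd (nat_lit 17) (Steps.fwd (nat_lit 122880) Steps.nil)))))))) (nat_lit 46) (nat_lit 8),
  Rule.mk (nat_lit 4) (nat_lit 270) (Steps.bwd (nat_lit 11) (Steps.fwd (nat_lit 131072) (Steps.fwd (nat_lit 147456) (Steps.bwd (nat_lit 1) (Steps.fwd (nat_lit 73728) (Steps.fwd (nat_lit 16384) (Steps.bwd (nat_lit 9) (Steps.fwd (nat_lit 16384) (Steps.fwd (nat_lit 98304) (Steps.fwd (nat_lit 32768) (Steps.fwd (nat_lit 73728) (Steps.fwd (nat_lit 57344) (Steps.fwd (nat_lit 16384) (Steps.bwd (nat_lit 3) (Steps.fwd (nat_lit 32768) (Steps.bwd (nat_lit 2) Steps.nil)))))))))))))))) (nat_lit 77) (nat_lit 5),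
  Rule.mk (nat_lit 8) (nat_lit 286) (Steps.bwd (nat_lit 11) (Steps.bwd (nat_lit 8) (Steps.bwd (nat_lit 3) (Steps.bwd (nat_lit 2) (Steps.fwd (nat_lit 24576) (Steps.fwd (nat_lit 81920) (Steps.fwd (nat_lit 57344) (Steps.fwd (nat_lit 8192) (Steps.bwd (nat_lit 11) (Steps.bwd (nat_lit 1) (Steps.fwd (nat_lit 81920) (Steps.bwd (nat_lit 2) (Steps.fwd (nat_lit 90112) (Steps.bwd (nat_lit 1) (Steps.bwd (nat_lit 3) (Steps.bwd (nat_lit 3) (Steps.fwd (nat_lit 73728) Steps.nil))))))))))))))))) (nat_lit 56) (nat_lit 2),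
  Rule.mk (nat_lit 14) (nat_lit 158) (Steps.bwd (nat_lit 9) (Steps.bwd (nat_lit 1) (Steps.fwd (nat_lit 139264) (Steps.fwd (nat_lit 90112) (Steps.fwd (nat_lit 98304) (Steps.bwd (nat_lit 2) (Steps.bwd (nat_lit 4) (Steps.bwd (nat_lit 4) (Steps.fwd (nat_lit 73728) Steps.nil))))))))) (nat_lit 62) (nat_lit 2),
  Rule.mk (nat_lit 15) (nat_lit 158) (Steps.bwd (nat_lit 9) (Steps.bwd (nat_lit 3) (Steps.bwd (nat_lit 3) (Steps.bwd (nat_lit 1) (Steps.bwd (nat_lit 12) (Steps.bwd (nat_lit 11) (Steps.fwd (nat_lit 131072) (Steps.bwd (nat_lit 2) (Steps.bwd (nat_lit 9) Steps.nil))))))))) (nat_lit 63) (nat_lit 9),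
  Rule.mk (nat_lit 2) (nat_lit 158) (Steps.bwd (nat_lit 9) (Steps.bwd (nat_lit 15) (Steps.fwd (nat_lit 73728) (Steps.bwd (nat_lit 3) (Steps.bwd (nat_lit 3) (Steps.bwd (nat_lit 1) (Steps.bwd (nat_lit 12) (Steps.fwd (nat_lit 81920) (Steps.bwd (nat_lit 17) Steps.nil))))))))) (nat_lit 63) (nat_lit 7),
  Rule.mk (nat_lit 13) (nat_lit 190) (Steps.bwd (nat_lit 9) (Steps.fwd (nat_lit 106496) (Steps.fwd (nat_lit 131072) (Steps.bwd (nat_lit 1) (Steps.fwd (nat_lit 122880) (Steps.fwd (nat_lit 16384) (Steps.bwd (nat_lit 1) (Steps.bwd (nat_lit 1) (Steps.fwd (nat_lit 73728) (Steps.bwd (nat_lit 12) (Steps.bwd (nat_lit 9) Steps.nil))))))))))) (nat_lit 74) (nat_lit 4),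
  Rule.mk (nat_lit 12) (nat_lit 190) (Steps.bwd (nat_lit 9) (Steps.bwd (nat_lit 13) (Steps.bwd (nat_lit 9) (Steps.fwd (nat_lit 106496) (Steps.fwd (nat_lit 131072) (Steps.fwd (nat_lit 16384) (Steps.bwd (nat_lit 14) (Steps.fwd (nat_lit 16384) (Steps.fwd (nat_lit 16384) (Steps.fwd (nat_lit 16384) (Steps.fwd (nat_lit 73728) Steps.nil))))))))))) (nat_lit 74) (nat_lit 2),
  Rule.mk (nat_lit 1) (nat_lit 206) (Steps.bwd (nat_lit 9) (Steps.fwd (nat_lit 139264) (Steps.bwd (nat_lit 19) (Steps.bwd (nat_lit 11) (Steps.fwd (nat_lit 8192) (Steps.fwd (nat_lit 32768) (Steps.bwd (nat_lit 2) (Steps.bwd (nat_lit 4) (Steps.fwd (nat_lit 24576) (Steps.bwd (nat_lit 2) (Steps.fwd (nat_lit 73728) (Steps.bwd (nat_lit 1) Steps.nil)))))))))))) (nat_lit 68) (nat_lit 3),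
  Rule.mk (nat_lit 16) (nat_lit 142) (Steps.bwd (nat_lit 1) (Steps.fwd (nat_lit 131072) (Steps.bwd (nat_lit 11) (Steps.fwd (nat_lit 131072) (Steps.fwd (nat_lit 122880) (Steps.bwd (nat_lit 12) (Steps.bwd (nat_lit 11) (Steps.fwd (nat_lit 8192) Steps.nil)))))))) (nat_lit 46) (nat_lit 2),
  Rule.mk (nat_lit 9) (nat_lit 158) (Steps.bwd (nat_lit 1) (Steps.bwd (nat_lit 16) (Steps.fwd (nat_lit 90112) (Steps.fwd (nat_lit 98304) (Steps.fwd (nat_lit 8192) (Steps.fwd (nat_lit 24576) (Steps.bwd (nat_lit 4) (Steps.fwd (nat_lit 73728) (Steps.bwd (nat_lit 14) Steps.nil))))))))) (nat_lit 62) (nat_lit 3),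
  Rule.mk (nat_lit 17) (nat_lit 190) (Steps.bwd (nat_lit 1) (Steps.bwd (nat_lit 14) (Steps.fwd (nat_lit 16384) (Steps.fwd (nat_lit 16384) (Steps.bwd (nat_lit 1) (Steps.bwd (nat_lit 9) (Steps.fwd (nat_lit 106496) (Steps.fwd (nat_lit 73728) (Steps.fwd (nat_lit 98304) (Steps.bwd (nat_lit 9) (Steps.bwd (nat_lit 12) Steps.nil))))))))))) (nat_lit 74) (nat_lit 7),
  Rule.mk (nat_lit 4) (nat_lit 206) (Steps.bwd (nat_lit 1) (Steps.bwd (nat_lit 10) (Steps.bwd (nat_lit 18) (Steps.bwd (nat_lit 17) (Steps.fwd (nat_lit 73728) (Steps.fwd (nat_lit 8192) (Steps.fwd (nat_lit 8192) (Steps.fwd (nat_lit 73728) (Steps.bwd (nat_lit 1) (Steps.bwd (nat_lit 3) (Steps.fwd (nat_lit 32768) (Steps.fwd (nat_lit 16384) Steps.nil)))))))))))) (nat_lit 69) (nat_lit 5),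
  Rule.mk (nat_lit 10) (nat_lit 286) (Steps.bwd (nat_lit 1) (Steps.bwd (nat_lit 7) (Steps.fwd (nat_lit 90112) (Steps.bwd (nat_lit 3) (Steps.fwd (nat_lit 16384) (Steps.fwd (nat_lit 24576) (Steps.fwd (nat_lit 65536) (Steps.fwd (nat_lit 90112) (Steps.fwd (nat_lit 65536) (Steps.bwd (nat_lit 9) (Steps.fwd (nat_lit 24576) (Steps.fwd (nat_lit 24576) (Steps.fwd (nat_lit 8192) (Steps.fwd (nat_lit 81920) (Steps.bwd (nat_lit 1) (Steps.bwd (nat_lit 10) (Steps.bwd (nat_lit 2) Steps.nil))))))))))))))))) (nat_lit 57) (nat_lit 8),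
  Rule.mk (nat_lit 9) (nat_lit 158) (Steps.bwd (nat_lit 1) (Steps.fwd (nat_lit 139264) (Steps.fwd (nat_lit 90112) (Steps.bwd (nat_lit 13) (Steps.bwd (nat_lit 2) (Steps.fwd (nat_lit 24576) (Steps.fwd (nat_lit 24576) (Steps.fwd (nat_lit 73728) (Steps.bwd (nat_lit 14) Steps.nil))))))))) (nat_lit 62) (nat_lit 3),
  Rule.mk (nat_lit 10) (nat_lit 286) (Steps.bwd (nat_lit 1) (Steps.fwd (nat_lit 32768) (Steps.bwd (nat_lit 3) (Steps.bwd (nat_lit 9) (Steps.fwd (nat_lit 57344) (Steps.fwd (nat_lit 81920) (Steps.fwd (nat_lit 57344) (Steps.bwd (nat_lit 3) (Steps.fwd (nat_lit 8192) (Steps.bwd (nat_lit 4) (Steps.bwd (nat_lit 11) (Steps.fwd (nat_lit 57344) (Steps.fwd (nat_lit 8192) (Steps.fwd (nat_lit 81920) (Steps.fwd (nat_lit 16384) (Steps.fwd (nat_lit 81920) (Steps.fwd (nat_lit 8192) Steps.nil))))))))))))))))) (nat_lit 56) (nat_lit 15),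
  Rule.mk (nat_lit 9) (nat_lit 110) (Steps.bwd (nat_lit 18) (Steps.bwd (nat_lit 9) (Steps.fwd (nat_lit 139264) (Steps.fwd (nat_lit 81920) (Steps.fwd (nat_lit 122880) (Steps.bwd (nat_lit 11) Steps.nil)))))) (nat_lit 66) (nat_lit 1),
  Rule.mk (nat_lit 8) (nat_lit 126) (Steps.bwd (nat_lit 18) (Steps.bwd (nat_lit 8) (Steps.bwd (nat_lit 19) (Steps.bwd (nat_lit 8) (Steps.fwd (nat_lit 16384) (Steps.bwd (nat_lit 1) (Steps.fwd (nat_lit 147456) Steps.nil))))))) (nat_lit 87) (nat_lit 4),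
  Rule.mk (nat_lit 7) (nat_lit 158) (Steps.bwd (nat_lit 18) (Steps.bwd (nat_lit 7) (Steps.bwd (nat_lit 18) (Steps.bwd (nat_lit 7) (Steps.bwd (nat_lit 18) (Steps.fwd (nat_lit 65536) (Steps.bwd (nat_lit 18) (Steps.bwd (nat_lit 7) (Steps.bwd (nat_lit 18) Steps.nil))))))))) (nat_lit 84) (nat_lit 1),
  Rule.mk (nat_lit 10) (nat_lit 110) (Steps.bwd (nat_lit 4) (Steps.fwd (nat_lit 114688) (Steps.fwd (nat_lit 24576) (Steps.bwd (nat_lit 9) (Steps.bwd (nat_lit 10) (Steps.fwd (nat_lit 73728) Steps.nil)))))) (nat_lit 60) (nat_lit 4),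
  Rule.mk (nat_lit 13) (nat_lit 126) (Steps.bwd (nat_lit 4) (Steps.fwd (nat_lit 106496) (Steps.bwd (nat_lit 3) (Steps.bwd (nat_lit 16) (Steps.fwd (nat_lit 90112) (Steps.bwd (nat_lit 16) (Steps.bwd (nat_lit 15) Steps.nil))))))) (nat_lit 50) (nat_lit 0),
  Rule.mk (nat_lit 17) (nat_lit 126) (Steps.bwd (nat_lit 4) (Steps.fwd (nat_lit 98304) (Steps.bwd (nat_lit 3) (Steps.bwd (nat_lit 12) (Steps.fwd (nat_lit 122880) (Steps.bwd (nat_lit 17) (Steps.bwd (nat_lit 11) Steps.nil))))))) (nat_lit 51) (nat_lit 5),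
  Rule.mk (nat_lit 9) (nat_lit 158) (Steps.fwd (nat_lit 114688) (Steps.bwd (nat_lit 9) (Steps.fwd (nat_lit 32768) (Steps.bwd (nat_lit 3) (Steps.fwd (nat_lit 16384) (Steps.bwd (nat_lit 12) (Steps.fwd (nat_lit 81920) (Steps.bwd (nat_lit 17) (Steps.bwd (nat_lit 2) Steps.nil))))))))) (nat_lit 63) (nat_lit 8),
  Rule.mk (nat_lit 4) (nat_lit 110) (Steps.bwd (nat_lit 15) (Steps.bwd (nat_lit 4) (Steps.fwd (nat_lit 73728) (Steps.fwd (nat_lit 90112) (Steps.bwd (nat_lit 9) (Steps.fwd (nat_lit 90112) Steps.nil)))))) (nat_lit 60) (nat_lit 5),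
  Rule.mk (nat_lit 16) (nat_lit 126) (Steps.bwd (nat_lit 15) (Steps.bwd (nat_lit 13) (Steps.fwd (nat_lit 24576) (Steps.fwd (nat_lit 106496) (Steps.fwd (nat_lit 32768) (Steps.bwd (nat_lit 16) (Steps.bwd (nat_lit 10) Steps.nil))))))) (nat_lit 50) (nat_lit 6),
  Rule.mk (nat_lit 7) (nat_lit 270) (Steps.bwd (nat_lit 9) (Steps.bwd (nat_lit 4) (Steps.bwd (nat_lit 12) (Steps.bwd (nat_lit 2) (Steps.fwd (nat_lit 73728) (Steps.fwd (nat_lit 8192) (Steps.fwd (nat_lit 73728) (Steps.fwd (nat_lit 8192) (Steps.bwd (nat_lit 18) (Steps.bwd (nat_lit 16) (Steps.bwd (nat_lit 10) (Steps.fwd (nat_lit 32768) (Steps.fwd (nat_lit 16384) (Steps.fwd (nat_lit 24576) (Steps.fwd (nat_lit 24576) (Steps.bwd (nat_lit 2) Steps.nil)))))))))))))))) (nat_lit 76) (nat_lit 1),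
  Rule.mk (nat_lit 17) (nat_lit 142) (Steps.bwd (nat_lit 1) (Steps.bwd (nat_lit 10) (Steps.bwd (nat_lit 13) (Steps.fwd (nat_lit 114688) (Steps.fwd (nat_lit 139264) (Steps.fwd (nat_lit 90112) (Steps.bwd (nat_lit 16) (Steps.bwd (nat_lit 2) Steps.nil)))))))) (nat_lit 47) (nat_lit 8),
  Rule.mk (nat_lit 1) (nat_lit 110) (Steps.bwd (nat_lit 15) (Steps.fwd (nat_lit 114688) (Steps.fwd (nat_lit 90112) (Steps.bwd (nat_lit 16) (Steps.fwd (nat_lit 8192) (Steps.fwd (nat_lit 114688) Steps.nil)))))) (nat_lit 45) (nat_lit 0),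
  Rule.mk (nat_lit 7) (nat_lit 286) (Steps.bwd (nat_lit 10) (Steps.bwd (nat_lit 3) (Steps.fwd (nat_lit 16384) (Steps.bwd (nat_lit 4) (Steps.fwd (nat_lit 65536) (Steps.bwd (nat_lit 10) (Steps.fwd (nat_lit 65536) (Steps.bwd (nat_lit 9) (Steps.fwd (nat_lit 24576) (Steps.bwd (nat_lit 4) (Steps.fwd (nat_lit 8192) (Steps.fwd (nat_lit 81920) (Steps.bwd (nat_lit 1) (Steps.fwd (nat_lit 90112) (Steps.fwd (nat_lit 8192) (Steps.bwd (nat_lit 10) (Steps.bwd (nat_lit 1) Steps.nil))))))))))))))))) (nat_lit 57) (nat_lit 10),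
  Rule.mk (nat_lit 12) (nat_lit 126) (Steps.bwd (nat_lit 3) (Steps.fwd (nat_lit 139264) (Steps.bwd (nat_lit 10) (Steps.fwd (nat_lit 139264) (Steps.bwd (nat_lit 15) (Steps.fwd (nat_lit 98304) (Steps.fwd (nat_lit 24576) Steps.nil))))))) (nat_lit 50) (nat_lit 2),
  Rule.mk (nat_lit 9) (nat_lit 158) (Steps.bwd (nat_lit 3) (Steps.fwd (nat_lit 32768) (Steps.bwd (nat_lit 1) (Steps.bwd (nat_lit 12) (Steps.fwd (nat_lit 81920) (Steps.fwd (nat_lit 131072) (Steps.fwd (nat_lit 8192) (Steps.bwd (nat_lit 9) (Steps.fwd (nat_lit 114688) Steps.nil))))))))) (nat_lit 63) (nat_lit 0),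
  Rule.mk (nat_lit 11) (nat_lit 110) (Steps.fwd (nat_lit 73728) (Steps.fwd (nat_lit 32768) (Steps.fwd (nat_lit 122880) (Steps.bwd (nat_lit 3) (Steps.fwd (nat_lit 81920) (Steps.bwd (nat_lit 9) Steps.nil)))))) (nat_lit 61) (nat_lit 6),
  Rule.mk (nat_lit 15) (nat_lit 158) (Steps.bwd (nat_lit 9) (Steps.bwd (nat_lit 3) (Steps.bwd (nat_lit 3) (Steps.fwd (nat_lit 16384) (Steps.bwd (nat_lit 12) (Steps.bwd (nat_lit 11) (Steps.fwd (nat_lit 131072) (Steps.fwd (nat_lit 8192) (Steps.bwd (nat_lit 9) Steps.nil))))))))) (nat_lit 63) (nat_lit 9),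
  Rule.mk (nat_lit 12) (nat_lit 142) (Steps.bwd (nat_lit 11) (Steps.bwd (nat_lit 2) (Steps.fwd (nat_lit 139264) (Steps.fwd (nat_lit 16384) (Steps.bwd (nat_lit 17) (Steps.bwd (nat_lit 11) (Steps.bwd (nat_lit 17) (Steps.fwd (nat_lit 122880) Steps.nil)))))))) (nat_lit 46) (nat_lit 8),
  Rule.mk (nat_lit 7) (nat_lit 126) (Steps.bwd (nat_lit 19) (Steps.fwd (nat_lit 65536) (Steps.fwd (nat_lit 155648) (Steps.fwd (nat_lit 8192) (Steps.fwd (nat_lit 8192) (Steps.fwd (nat_lit 65536) (Steps.fwd (nat_lit 155648) Steps.nil))))))) (nat_lit 86) (nat_lit 3),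
  Rule.mk (nat_lit 12) (nat_lit 190) (Steps.fwd (nat_lit 131072) (Steps.fwd (nat_lit 16384) (Steps.bwd (nat_lit 14) (Steps.bwd (nat_lit 1) (Steps.fwd (nat_lit 16384) (Steps.fwd (nat_lit 16384) (Steps.fwd (nat_lit 73728) (Steps.fwd (nat_lit 106496) (Steps.fwd (nat_lit 73728) (Steps.bwd (nat_lit 13) (Steps.bwd (nat_lit 9) Steps.nil))))))))))) (nat_lit 74) (nat_lit 6),
  Rule.mk (nat_lit 3) (nat_lit 126) (Steps.bwd (nat_lit 16) (Steps.fwd (nat_lit 90112) (Steps.bwd (nat_lit 16) (Steps.bwd (nat_lit 15) (Steps.fwd (nat_lit 98304) (Steps.bwd (nat_lit 4) (Steps.bwd (nat_lit 12) Steps.nil))))))) (nat_lit 50) (nat_lit 3),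
  Rule.mk (nat_lit 2) (nat_lit 142) (Steps.bwd (nat_lit 16) (Steps.bwd (nat_lit 1) (Steps.bwd (nat_lit 17) (Steps.fwd (nat_lit 81920) (Steps.fwd (nat_lit 131072) (Steps.fwd (nat_lit 122880) (Steps.bwd (nat_lit 12) (Steps.bwd (nat_lit 11) Steps.nil)))))))) (nat_lit 46) (nat_lit 1),
  Rule.mk (nat_lit 1) (nat_lit 158) (Steps.bwd (nat_lit 12) (Steps.fwd (nat_lit 81920) (Steps.fwd (nat_lit 131072) (Steps.fwd (nat_lit 8192) (Steps.bwd (nat_lit 9) (Steps.bwd (nat_lit 15) (Steps.bwd (nat_lit 9) (Steps.fwd (nat_lit 32768) (Steps.bwd (nat_lit 3) Steps.nil))))))))) (nat_lit 63) (nat_lit 3),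
  Rule.mk (nat_lit 9) (nat_lit 190) (Steps.bwd (nat_lit 12) (Steps.fwd (nat_lit 73728) (Steps.fwd (nat_lit 98304) (Steps.fwd (nat_lit 73728) (Steps.fwd (nat_lit 106496) (Steps.fwd (nat_lit 131072) (Steps.bwd (nat_lit 1) (Steps.bwd (nat_lit 14) (Steps.fwd (nat_lit 16384) (Steps.bwd (nat_lit 1) (Steps.fwd (nat_lit 16384) Steps.nil))))))))))) (nat_lit 74) (nat_lit 1),
  Rule.mk (nat_lit 10) (nat_lit 110) (Steps.fwd (nat_lit 24576) (Steps.bwd (nat_lit 15) (Steps.bwd (nat_lit 4) (Steps.bwd (nat_lit 9) (Steps.bwd (nat_lit 10) (Steps.bwd (nat_lit 9) Steps.nil)))))) (nat_lit 60) (nat_lit 4),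
  Rule.mk (nat_lit 14) (nat_lit 158) (Steps.bwd (nat_lit 9) (Steps.fwd (nat_lit 16384) (Steps.fwd (nat_lit 139264) (Steps.bwd (nat_lit 10) (Steps.fwd (nat_lit 98304) (Steps.fwd (nat_lit 8192) (Steps.bwd (nat_lit 4) (Steps.fwd (nat_lit 24576) (Steps.bwd (nat_lit 9) Steps.nil))))))))) (nat_lit 62) (nat_lit 2)]
noncomputable def R_119 : List (Rule) := [Rule.mk (nat_lit 13) (nat_lit 190) (Steps.bwd (nat_lit 9) (Steps.bwd (nat_lit 2) (Steps.fwd (nat_lit 8192) (Steps.fwd (nat_lit 8192) (Steps.bwd (nat_lit 15) (Steps.fwd (nat_lit 8192) (Steps.bwd (nat_lit 16) (Steps.bwd (nat_lit 13) (Steps.fwd (nat_lit 73728) (Steps.bwd (nat_lit 12) (Steps.bwd (nat_lit 9) Steps.nil))))))))))) (nat_lit 75) (nat_lit 11),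
  Rule.mk (nat_lit 8) (nat_lit 270) (Steps.bwd (nat_lit 1) (Steps.fwd (nat_lit 32768) (Steps.fwd (nat_lit 32768) (Steps.bwd (nat_lit 2) (Steps.fwd (nat_lit 24576) (Steps.bwd (nat_lit 11) (Steps.bwd (nat_lit 17) (Steps.fwd (nat_lit 147456) (Steps.fwd (nat_lit 16384) (Steps.bwd (nat_lit 9) (Steps.bwd (nat_lit 1) (Steps.bwd (nat_lit 9) (Steps.bwd (nat_lit 1) (Steps.fwd (nat_lit 98304) (Steps.bwd (nat_lit 3) (Steps.bwd (nat_lit 9) Steps.nil)))))))))))))))) (nat_lit 77) (nat_lit 0),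
  Rule.mk (nat_lit 3) (nat_lit 126) (Steps.bwd (nat_lit 16) (Steps.bwd (nat_lit 10) (Steps.bwd (nat_lit 16) (Steps.fwd (nat_lit 114688) (Steps.fwd (nat_lit 98304) (Steps.fwd (nat_lit 24576) (Steps.fwd (nat_lit 106496) Steps.nil))))))) (nat_lit 50) (nat_lit 3),
  Rule.mk (nat_lit 1) (nat_lit 158) (Steps.bwd (nat_lit 16) (Steps.bwd (nat_lit 10) (Steps.bwd (nat_lit 13) (Steps.fwd (nat_lit 8192) (Steps.bwd (nat_lit 4) (Steps.fwd (nat_lit 24576) (Steps.fwd (nat_lit 73728) (Steps.fwd (nat_lit 122880) (Steps.bwd (nat_lit 9) Steps.nil))))))))) (nat_lit 62) (nat_lit 4),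
  Rule.mk (nat_lit 15) (nat_lit 126) (Steps.bwd (nat_lit 3) (Steps.bwd (nat_lit 10) (Steps.fwd (nat_lit 90112) (Steps.fwd (nat_lit 139264) (Steps.fwd (nat_lit 114688) (Steps.bwd (nat_lit 15) (Steps.fwd (nat_lit 24576) Steps.nil))))))) (nat_lit 53) (nat_lit 7),
  Rule.mk (nat_lit 10) (nat_lit 270) (Steps.bwd (nat_lit 3) (Steps.bwd (nat_lit 1) (Steps.bwd (nat_lit 4) (Steps.bwd (nat_lit 4) (Steps.fwd (nat_lit 8192) (Steps.fwd (nat_lit 65536) (Steps.fwd (nat_lit 73728) (Steps.bwd (nat_lit 4) (Steps.bwd (nat_lit 12) (Steps.fwd (nat_lit 8192) (Steps.fwd (nat_lit 73728) (Steps.fwd (nat_lit 8192) (Steps.bwd (nat_lit 9) (Steps.fwd (nat_lit 8192) (Steps.bwd (nat_lit 18) (Steps.bwd (nat_lit 16) Steps.nil)))))))))))))))) (nat_lit 76) (nat_lit 12),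
  Rule.mk (nat_lit 7) (nat_lit 126) (Steps.bwd (nat_lit 18) (Steps.fwd (nat_lit 8192) (Steps.fwd (nat_lit 8192) (Steps.fwd (nat_lit 65536) (Steps.fwd (nat_lit 155648) (Steps.bwd (nat_lit 7) (Steps.bwd (nat_lit 19) Steps.nil))))))) (nat_lit 86) (nat_lit 5),
  Rule.mk (nat_lit 8) (nat_lit 126) (Steps.bwd (nat_lit 18) (Steps.fwd (nat_lit 57344) (Steps.bwd (nat_lit 19) (Steps.fwd (nat_lit 57344) (Steps.fwd (nat_lit 16384) (Steps.fwd (nat_lit 16384) (Steps.bwd (nat_lit 19) Steps.nil))))))) (nat_lit 87) (nat_lit 4),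
  Rule.mk (nat_lit 17) (nat_lit 126) (Steps.bwd (nat_lit 4) (Steps.fwd (nat_lit 98304) (Steps.bwd (nat_lit 3) (Steps.fwd (nat_lit 106496) (Steps.bwd (nat_lit 14) (Steps.bwd (nat_lit 17) (Steps.fwd (nat_lit 81920) Steps.nil))))))) (nat_lit 51) (nat_lit 5),
  Rule.mk (nat_lit 11) (nat_lit 126) (Steps.bwd (nat_lit 4) (Steps.fwd (nat_lit 122880) (Steps.bwd (nat_lit 3) (Steps.fwd (nat_lit 122880) (Steps.fwd (nat_lit 122880) (Steps.fwd (nat_lit 131072) (Steps.fwd (nat_lit 81920) Steps.nil))))))) (nat_lit 52) (nat_lit 0),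
  Rule.mk (nat_lit 8) (nat_lit 286) (Steps.bwd (nat_lit 11) (Steps.fwd (nat_lit 57344) (Steps.fwd (nat_lit 32768) (Steps.bwd (nat_lit 2) (Steps.bwd (nat_lit 4) (Steps.bwd (nat_lit 11) (Steps.fwd (nat_lit 57344) (Steps.bwd (nat_lit 2) (Steps.fwd (nat_lit 81920) (Steps.fwd (nat_lit 16384) (Steps.bwd (nat_lit 11) (Steps.fwd (nat_lit 8192) (Steps.fwd (nat_lit 90112) (Steps.fwd (nat_lit 16384) (Steps.fwd (nat_lit 32768) (Steps.fwd (nat_lit 32768) (Steps.fwd (nat_lit 73728) Steps.nil))))))))))))))))) (nat_lit 56) (nat_lit 2),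
  Rule.mk (nat_lit 2) (nat_lit 94) (Steps.fwd (nat_lit 8192) (Steps.bwd (nat_lit 2) (Steps.fwd (nat_lit 8192) (Steps.bwd (nat_lit 7) (Steps.bwd (nat_lit 7) Steps.nil))))) (nat_lit 78) (nat_lit 3),
  Rule.mk (nat_lit 4) (nat_lit 126) (Steps.bwd (nat_lit 12) (Steps.fwd (nat_lit 32768) (Steps.bwd (nat_lit 16) (Steps.fwd (nat_lit 90112) (Steps.fwd (nat_lit 139264) (Steps.fwd (nat_lit 114688) (Steps.bwd (nat_lit 13) Steps.nil))))))) (nat_lit 50) (nat_lit 1),
  Rule.mk (nat_lit 14) (nat_lit 142) (Steps.bwd (nat_lit 12) (Steps.bwd (nat_lit 11) (Steps.bwd (nat_lit 2) (Steps.bwd (nat_lit 16) (Steps.fwd (nat_lit 16384) (Steps.bwd (nat_lit 17) (Steps.bwd (nat_lit 11) (Steps.fwd (nat_lit 131072) Steps.nil)))))))) (nat_lit 46) (nat_lit 7),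
  Rule.mk (nat_lit 9) (nat_lit 190) (Steps.bwd (nat_lit 12) (Steps.bwd (nat_lit 9) (Steps.fwd (nat_lit 98304) (Steps.fwd (nat_lit 73728) (Steps.fwd (nat_lit 106496) (Steps.bwd (nat_lit 17) (Steps.bwd (nat_lit 1) (Steps.fwd (nat_lit 122880) (Steps.bwd (nat_lit 1) (Steps.fwd (nat_lit 16384) (Steps.fwd (nat_lit 16384) Steps.nil))))))))))) (nat_lit 74) (nat_lit 1),
  Rule.mk (nat_lit 8) (nat_lit 270) (Steps.fwd (nat_lit 16384) (Steps.fwd (nat_lit 32768) (Steps.bwd (nat_lit 3) (Steps.fwd (nat_lit 8192) (Steps.bwd (nat_lit 4) (Steps.fwd (nat_lit 81920) (Steps.fwd (nat_lit 131072) (Steps.fwd (nat_lit 147456) (Steps.fwd (nat_lit 16384) (Steps.fwd (nat_lit 73728) (Steps.fwd (nat_lit 16384) (Steps.bwd (nat_lit 9) (Steps.bwd (nat_lit 1) (Steps.bwd (nat_lit 13) (Steps.bwd (nat_lit 3) (Steps.bwd (nat_lit 9) Steps.nil)))))))))))))))) (nat_lit 77) (nat_lit 0),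
  Rule.mk (nat_lit 8) (nat_lit 126) (Steps.bwd (nat_lit 19) (Steps.bwd (nat_lit 8) (Steps.fwd (nat_lit 16384) (Steps.bwd (nat_lit 1) (Steps.bwd (nat_lit 19) (Steps.fwd (nat_lit 57344) (Steps.bwd (nat_lit 18) Steps.nil))))))) (nat_lit 87) (nat_lit 6),
  Rule.mk (nat_lit 11) (nat_lit 110) (Steps.bwd (nat_lit 9) (Steps.bwd (nat_lit 3) (Steps.fwd (nat_lit 122880) (Steps.bwd (nat_lit 3) (Steps.bwd (nat_lit 11) (Steps.fwd (nat_lit 73728) Steps.nil)))))) (nat_lit 61) (nat_lit 6),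
  Rule.mk (nat_lit 2) (nat_lit 158) (Steps.bwd (nat_lit 9) (Steps.fwd (nat_lit 114688) (Steps.bwd (nat_lit 9) (Steps.fwd (nat_lit 32768) (Steps.bwd (nat_lit 3) (Steps.bwd (nat_lit 1) (Steps.bwd (nat_lit 12) (Steps.bwd (nat_lit 11) (Steps.fwd (nat_lit 131072) Steps.nil))))))))) (nat_lit 63) (nat_lit 7),
  Rule.mk (nat_lit 13) (nat_lit 190) (Steps.bwd (nat_lit 9) (Steps.bwd (nat_lit 12) (Steps.fwd (nat_lit 131072) (Steps.fwd (nat_lit 16384) (Steps.fwd (nat_lit 122880) (Steps.fwd (nat_lit 16384) (Steps.bwd (nat_lit 1) (Steps.bwd (nat_lit 1) (Steps.fwd (nat_lit 73728) (Steps.fwd (nat_lit 106496) (Steps.bwd (nat_lit 9) Steps.nil))))))))))) (nat_lit 74) (nat_lit 4),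
  Rule.mk (nat_lit 12) (nat_lit 190) (Steps.bwd (nat_lit 9) (Steps.fwd (nat_lit 98304) (Steps.fwd (nat_lit 73728) (Steps.bwd (nat_lit 12) (Steps.bwd (nat_lit 17) (Steps.fwd (nat_lit 16384) (Steps.bwd (nat_lit 14) (Steps.fwd (nat_lit 16384) (Steps.fwd (nat_lit 16384) (Steps.fwd (nat_lit 16384) (Steps.fwd (nat_lit 73728) Steps.nil))))))))))) (nat_lit 74) (nat_lit 2),
  Rule.mk (nat_lit 14) (nat_lit 126) (Steps.fwd (nat_lit 131072) (Steps.fwd (nat_lit 81920) (Steps.fwd (nat_lit 131072) (Steps.fwd (nat_lit 24576) (Steps.fwd (nat_lit 98304) (Steps.bwd (nat_lit 3) (Steps.bwd (nat_lit 12) Steps.nil))))))) (nat_lit 51) (nat_lit 2),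
  Rule.mk (nat_lit 8) (nat_lit 126) (Steps.bwd (nat_lit 19) (Steps.fwd (nat_lit 57344) (Steps.bwd (nat_lit 1) (Steps.bwd (nat_lit 1) (Steps.bwd (nat_lit 19) (Steps.bwd (nat_lit 8) (Steps.bwd (nat_lit 18) Steps.nil))))))) (nat_lit 87) (nat_lit 6),
  Rule.mk (nat_lit 17) (nat_lit 142) (Steps.bwd (nat_lit 1) (Steps.fwd (nat_lit 90112) (Steps.fwd (nat_lit 98304) (Steps.fwd (nat_lit 114688) (Steps.fwd (nat_lit 139264) (Steps.fwd (nat_lit 90112) (Steps.bwd (nat_lit 16) (Steps.fwd (nat_lit 8192) Steps.nil)))))))) (nat_lit 47) (nat_lit 8),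
  Rule.mk (nat_lit 10) (nat_lit 286) (Steps.bwd (nat_lit 1) (Steps.fwd (nat_lit 32768) (Steps.fwd (nat_lit 32768) (Steps.bwd (nat_lit 9) (Steps.bwd (nat_lit 8) (Steps.fwd (nat_lit 81920) (Steps.bwd (nat_lit 8) (Steps.fwd (nat_lit 32768) (Steps.fwd (nat_lit 8192) (Steps.bwd (nat_lit 4) (Steps.bwd (nat_lit 11) (Steps.fwd (nat_lit 57344) (Steps.bwd (nat_lit 2) (Steps.bwd (nat_lit 11) (Steps.fwd (nat_lit 16384) (Steps.fwd (nat_lit 81920) (Steps.fwd (nat_lit 8192) Steps.nil))))))))))))))))) (nat_lit 56) (nat_lit 15),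
  Rule.mk (nat_lit 11) (nat_lit 286) (Steps.bwd (nat_lit 1) (Steps.fwd (nat_lit 81920) (Steps.bwd (nat_lit 2) (Steps.fwd (nat_lit 90112) (Steps.bwd (nat_lit 1) (Steps.bwd (nat_lit 3) (Steps.bwd (nat_lit 3) (Steps.fwd (nat_lit 73728) (Steps.bwd (nat_lit 8) (Steps.bwd (nat_lit 11) (Steps.bwd (nat_lit 8) (Steps.fwd (nat_lit 32768) (Steps.fwd (nat_lit 8192) (Steps.bwd (nat_lit 4) (Steps.fwd (nat_lit 81920) (Steps.fwd (nat_lit 57344) (Steps.bwd (nat_lit 2) Steps.nil))))))))))))))))) (nat_lit 56) (nat_lit 11),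
  Rule.mk (nat_lit 2) (nat_lit 94) (Steps.fwd (nat_lit 65536) (Steps.fwd (nat_lit 16384) (Steps.fwd (nat_lit 16384) (Steps.bwd (nat_lit 1) (Steps.bwd (nat_lit 8) Steps.nil))))) (nat_lit 83) (nat_lit 5),
  Rule.mk (nat_lit 18) (nat_lit 94) (Steps.bwd (nat_lit 11) (Steps.fwd (nat_lit 114688) (Steps.bwd (nat_lit 10) (Steps.fwd (nat_lit 122880) (Steps.fwd (nat_lit 155648) Steps.nil))))) (nat_lit 32) (nat_lit 0),
  Rule.mk (nat_lit 12) (nat_lit 142) (Steps.bwd (nat_lit 11) (Steps.bwd (nat_lit 2) (Steps.fwd (nat_lit 139264) (Steps.fwd (nat_lit 16384) (Steps.bwd (nat_lit 17) (Steps.fwd (nat_lit 81920) (Steps.fwd (nat_lit 131072) (Steps.fwd (nat_lit 122880) Steps.nil)))))))) (nat_lit 46) (nat_lit 8),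
  Rule.mk (nat_lit 4) (nat_lit 286) (Steps.bwd (nat_lit 11) (Steps.fwd (nat_lit 57344) (Steps.fwd (nat_lit 8192) (Steps.fwd (nat_lit 81920) (Steps.fwd (nat_lit 16384) (Steps.fwd (nat_lit 81920) (Steps.bwd (nat_lit 2) (Steps.fwd (nat_lit 90112) (Steps.fwd (nat_lit 16384) (Steps.fwd (nat_lit 32768) (Steps.fwd (nat_lit 32768) (Steps.fwd (nat_lit 73728) (Steps.bwd (nat_lit 8) (Steps.bwd (nat_lit 11) (Steps.fwd (nat_lit 57344) (Steps.fwd (nat_lit 32768) (Steps.bwd (nat_lit 2) Steps.nil))))))))))))))))) (nat_lit 56) (nat_lit 7),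
  Rule.mk (nat_lit 2) (nat_lit 286) (Steps.bwd (nat_lit 11) (Steps.fwd (nat_lit 16384) (Steps.bwd (nat_lit 10) (Steps.bwd (nat_lit 2) (Steps.fwd (nat_lit 90112) (Steps.bwd (nat_lit 1) (Steps.fwd (nat_lit 65536) (Steps.fwd (nat_lit 90112) (Steps.bwd (nat_lit 3) (Steps.bwd (nat_lit 1) (Steps.fwd (nat_lit 24576) (Steps.bwd (nat_lit 7) (Steps.fwd (nat_lit 90112) (Steps.bwd (nat_lit 7) (Steps.fwd (nat_lit 73728) (Steps.fwd (nat_lit 24576) (Steps.fwd (nat_lit 24576) Steps.nil))))))))))))))))) (nat_lit 57) (nat_lit 3),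
  Rule.mk (nat_lit 15) (nat_lit 190) (Steps.fwd (nat_lit 8192) (Steps.fwd (nat_lit 139264) (Steps.fwd (nat_lit 98304) (Steps.bwd (nat_lit 9) (Steps.fwd (nat_lit 106496) (Steps.fwd (nat_lit 73728) (Steps.bwd (nat_lit 13) (Steps.bwd (nat_lit 9) (Steps.bwd (nat_lit 2) (Steps.fwd (nat_lit 8192) (Steps.bwd (nat_lit 2) Steps.nil))))))))))) (nat_lit 75) (nat_lit 4),
  Rule.mk (nat_lit 9) (nat_lit 206) (Steps.fwd (nat_lit 16384) (Steps.fwd (nat_lit 16384) (Steps.bwd (nat_lit 9) (Steps.bwd (nat_lit 16) (Steps.fwd (nat_lit 147456) (Steps.bwd (nat_lit 11) (Steps.fwd (nat_lit 8192) (Steps.fwd (nat_lit 32768) (Steps.bwd (nat_lit 2) (Steps.fwd (nat_lit 24576) (Steps.fwd (nat_lit 24576) (Steps.bwd (nat_lit 2) Steps.nil)))))))))))) (nat_lit 68) (nat_lit 1),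
  Rule.mk (nat_lit 2) (nat_lit 286) (Steps.bwd (nat_lit 10) (Steps.bwd (nat_lit 1) (Steps.fwd (nat_lit 32768) (Steps.fwd (nat_lit 32768) (Steps.bwd (nat_lit 9) (Steps.bwd (nat_lit 8) (Steps.fwd (nat_lit 81920) (Steps.bwd (nat_lit 8) (Steps.bwd (nat_lit 3) (Steps.bwd (nat_lit 2) (Steps.fwd (nat_lit 24576) (Steps.bwd (nat_lit 11) (Steps.fwd (nat_lit 57344) (Steps.fwd (nat_lit 8192) (Steps.bwd (nat_lit 11) (Steps.bwd (nat_lit 1) (Steps.bwd (nat_lit 11) Steps.nil))))))))))))))))) (nat_lit 56) (nat_lit 14),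
  Rule.mk (nat_lit 7) (nat_lit 286) (Steps.bwd (nat_lit 10) (Steps.bwd (nat_lit 7) (Steps.bwd (nat_lit 9) (Steps.fwd (nat_lit 24576) (Steps.bwd (nat_lit 4) (Steps.bwd (nat_lit 2) (Steps.fwd (nat_lit 81920) (Steps.bwd (nat_lit 1) (Steps.bwd (nat_lit 10) (Steps.fwd (nat_lit 8192) (Steps.bwd (nat_lit 10) (Steps.bwd (nat_lit 1) (Steps.fwd (nat_lit 65536) (Steps.fwd (nat_lit 90112) (Steps.bwd (nat_lit 3) (Steps.bwd (nat_lit 1) (Steps.fwd (nat_lit 24576) Steps.nil))))))))))))))))) (nat_lit 57) (nat_lit 15),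
  Rule.mk (nat_lit 14) (nat_lit 110) (Steps.bwd (nat_lit 3) (Steps.bwd (nat_lit 11) (Steps.fwd (nat_lit 73728) (Steps.bwd (nat_lit 11) (Steps.fwd (nat_lit 73728) (Steps.bwd (nat_lit 3) Steps.nil)))))) (nat_lit 61) (nat_lit 2),
  Rule.mk (nat_lit 8) (nat_lit 126) (Steps.bwd (nat_lit 18) (Steps.fwd (nat_lit 57344) (Steps.bwd (nat_lit 19) (Steps.fwd (nat_lit 57344) (Steps.bwd (nat_lit 1) (Steps.fwd (nat_lit 16384) (Steps.bwd (nat_lit 19) Steps.nil))))))) (nat_lit 87) (nat_lit 4),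
  Rule.mk (nat_lit 2) (nat_lit 270) (Steps.bwd (nat_lit 18) (Steps.fwd (nat_lit 139264) (Steps.fwd (nat_lit 90112) (Steps.fwd (nat_lit 32768) (Steps.fwd (nat_lit 16384) (Steps.bwd (nat_lit 4) (Steps.bwd (nat_lit 4) (Steps.bwd (nat_lit 2) (Steps.bwd (nat_lit 7) (Steps.fwd (nat_lit 73728) (Steps.fwd (nat_lit 24576) (Steps.fwd (nat_lit 106496) (Steps.bwd (nat_lit 2) (Steps.fwd (nat_lit 73728) (Steps.bwd (nat_lit 2) (Steps.fwd (nat_lit 73728) Steps.nil)))))))))))))))) (nat_lit 76) (nat_lit 9),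
  Rule.mk (nat_lit 10) (nat_lit 110) (Steps.bwd (nat_lit 17) (Steps.fwd (nat_lit 73728) (Steps.bwd (nat_lit 19) (Steps.fwd (nat_lit 73728) (Steps.bwd (nat_lit 10) (Steps.fwd (nat_lit 114688) Steps.nil)))))) (nat_lit 67) (nat_lit 3),
  Rule.mk (nat_lit 14) (nat_lit 126) (Steps.bwd (nat_lit 17) (Steps.fwd (nat_lit 81920) (Steps.fwd (nat_lit 81920) (Steps.bwd (nat_lit 4) (Steps.bwd (nat_lit 14) (Steps.fwd (nat_lit 32768) (Steps.fwd (nat_lit 122880) Steps.nil))))))) (nat_lit 52) (nat_lit 5),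
  Rule.mk (nat_lit 11) (nat_lit 126) (Steps.bwd (nat_lit 4) (Steps.fwd (nat_lit 122880) (Steps.fwd (nat_lit 32768) (Steps.bwd (nat_lit 14) (Steps.fwd (nat_lit 122880) (Steps.fwd (nat_lit 131072) (Steps.bwd (nat_lit 11) Steps.nil))))))) (nat_lit 52) (nat_lit 0),
  Rule.mk (nat_lit 9) (nat_lit 270) (Steps.bwd (nat_lit 4) (Steps.fwd (nat_lit 106496) (Steps.fwd (nat_lit 8192) (Steps.fwd (nat_lit 73728) (Steps.fwd (nat_lit 8192) (Steps.bwd (nat_lit 9) (Steps.bwd (nat_lit 2) (Steps.fwd (nat_lit 155648) (Steps.bwd (nat_lit 16) (Steps.fwd (nat_lit 90112) (Steps.bwd (nat_lit 3) (Steps.fwd (nat_lit 16384) (Steps.bwd (nat_lit 4) (Steps.bwd (nat_lit 4) (Steps.fwd (nat_lit 8192) (Steps.fwd (nat_lit 65536) Steps.nil)))))))))))))))) (nat_lit 76) (nat_lit 2),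
  Rule.mk (nat_lit 16) (nat_lit 110) (Steps.fwd (nat_lit 81920) (Steps.bwd (nat_lit 14) (Steps.fwd (nat_lit 81920) (Steps.fwd (nat_lit 73728) (Steps.bwd (nat_lit 18) (Steps.bwd (nat_lit 9) Steps.nil)))))) (nat_lit 66) (nat_lit 4),
  Rule.mk (nat_lit 12) (nat_lit 190) (Steps.fwd (nat_lit 131072) (Steps.fwd (nat_lit 16384) (Steps.fwd (nat_lit 122880) (Steps.bwd (nat_lit 1) (Steps.bwd (nat_lit 1) (Steps.fwd (nat_lit 16384) (Steps.bwd (nat_lit 9) (Steps.fwd (nat_lit 106496) (Steps.bwd (nat_lit 9) (Steps.bwd (nat_lit 13) (Steps.bwd (nat_lit 9) Steps.nil))))))))))) (nat_lit 74) (nat_lit 6),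
  Rule.mk (nat_lit 13) (nat_lit 190) (Steps.fwd (nat_lit 73728) (Steps.fwd (nat_lit 106496) (Steps.bwd (nat_lit 17) (Steps.bwd (nat_lit 1) (Steps.bwd (nat_lit 14) (Steps.fwd (nat_lit 16384) (Steps.bwd (nat_lit 1) (Steps.fwd (nat_lit 16384) (Steps.bwd (nat_lit 9) (Steps.fwd (nat_lit 106496) (Steps.bwd (nat_lit 9) Steps.nil))))))))))) (nat_lit 74) (nat_lit 4),
  Rule.mk (nat_lit 17) (nat_lit 110) (Steps.bwd (nat_lit 17) (Steps.bwd (nat_lit 9) (Steps.bwd (nat_lit 4) (Steps.bwd (nat_lit 9) (Steps.bwd (nat_lit 10) (Steps.fwd (nat_lit 114688) Steps.nil)))))) (nat_lit 71) (nat_lit 3),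
  Rule.mk (nat_lit 14) (nat_lit 126) (Steps.bwd (nat_lit 17) (Steps.bwd (nat_lit 11) (Steps.bwd (nat_lit 17) (Steps.bwd (nat_lit 4) (Steps.fwd (nat_lit 98304) (Steps.fwd (nat_lit 32768) (Steps.fwd (nat_lit 106496) Steps.nil))))))) (nat_lit 51) (nat_lit 2),
  Rule.mk (nat_lit 8) (nat_lit 126) (Steps.bwd (nat_lit 19) (Steps.fwd (nat_lit 57344) (Steps.bwd (nat_lit 1) (Steps.fwd (nat_lit 16384) (Steps.fwd (nat_lit 147456) (Steps.fwd (nat_lit 57344) (Steps.fwd (nat_lit 155648) Steps.nil))))))) (nat_lit 87) (nat_lit 6),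
  Rule.mk (nat_lit 12) (nat_lit 126) (Steps.bwd (nat_lit 14) (Steps.fwd (nat_lit 131072) (Steps.bwd (nat_lit 11) (Steps.fwd (nat_lit 131072) (Steps.bwd (nat_lit 4) (Steps.bwd (nat_lit 13) (Steps.bwd (nat_lit 3) Steps.nil))))))) (nat_lit 51) (nat_lit 1),
  Rule.mk (nat_lit 4) (nat_lit 126) (Steps.bwd (nat_lit 14) (Steps.fwd (nat_lit 32768) (Steps.bwd (nat_lit 14) (Steps.bwd (nat_lit 14) (Steps.bwd (nat_lit 17) (Steps.bwd (nat_lit 11) (Steps.bwd (nat_lit 11) Steps.nil))))))) (nat_lit 52) (nat_lit 1),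
  Rule.mk (nat_lit 9) (nat_lit 158) (Steps.bwd (nat_lit 14) (Steps.fwd (nat_lit 73728) (Steps.fwd (nat_lit 16384) (Steps.fwd (nat_lit 139264) (Steps.bwd (nat_lit 10) (Steps.bwd (nat_lit 13) (Steps.bwd (nat_lit 2) (Steps.bwd (nat_lit 4) (Steps.fwd (nat_lit 24576) Steps.nil))))))))) (nat_lit 62) (nat_lit 1),
  Rule.mk (nat_lit 1) (nat_lit 190) (Steps.bwd (nat_lit 14) (Steps.fwd (nat_lit 16384) (Steps.bwd (nat_lit 1) (Steps.fwd (nat_lit 16384) (Steps.bwd (nat_lit 9) (Steps.fwd (nat_lit 106496) (Steps.bwd (nat_lit 9) (Steps.fwd (nat_lit 98304) (Steps.fwd (nat_lit 73728) (Steps.bwd (nat_lit 12) (Steps.bwd (nat_lit 17) Steps.nil))))))))))) (nat_lit 74) (nat_lit 8),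
  Rule.mk (nat_lit 15) (nat_lit 110) (Steps.fwd (nat_lit 114688) (Steps.fwd (nat_lit 90112) (Steps.bwd (nat_lit 16) (Steps.fwd (nat_lit 8192) (Steps.bwd (nat_lit 15) (Steps.bwd (nat_lit 1) Steps.nil)))))) (nat_lit 45) (nat_lit 1),
  Rule.mk (nat_lit 11) (nat_lit 286) (Steps.fwd (nat_lit 8192) (Steps.bwd (nat_lit 10) (Steps.fwd (nat_lit 16384) (Steps.bwd (nat_lit 3) (Steps.fwd (nat_lit 32768) (Steps.bwd (nat_lit 9) (Steps.bwd (nat_lit 8) (Steps.bwd (nat_lit 11) (Steps.bwd (nat_lit 8) (Steps.fwd (nat_lit 32768) (Steps.bwd (nat_lit 2) (Steps.fwd (nat_lit 24576) (Steps.bwd (nat_lit 11) (Steps.fwd (nat_lit 57344) (Steps.bwd (nat_lit 2) (Steps.bwd (nat_lit 11) (Steps.bwd (nat_lit 1) Steps.nil))))))))))))))))) (nat_lit 56) (nat_lit 13),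
  Rule.mk (nat_lit 14) (nat_lit 110) (Steps.bwd (nat_lit 11) (Steps.bwd (nat_lit 9) (Steps.bwd (nat_lit 18) (Steps.fwd (nat_lit 73728) (Steps.bwd (nat_lit 16) (Steps.fwd (nat_lit 81920) Steps.nil)))))) (nat_lit 66) (nat_lit 6),
  Rule.mk (nat_lit 16) (nat_lit 110) (Steps.bwd (nat_lit 11) (Steps.fwd (nat_lit 122880) (Steps.bwd (nat_lit 11) (Steps.bwd (nat_lit 9) (Steps.bwd (nat_lit 18) (Steps.bwd (nat_lit 9) Steps.nil)))))) (nat_lit 66) (nat_lit 4),
  Rule.mk (nat_lit 12) (nat_lit 142) (Steps.bwd (nat_lit 11) (Steps.fwd (nat_lit 8192) (Steps.fwd (nat_lit 139264) (Steps.bwd (nat_lit 1) (Steps.bwd (nat_lit 17) (Steps.fwd (nat_lit 81920) (Steps.bwd (nat_lit 17) (Steps.fwd (nat_lit 122880) Steps.nil)))))))) (nat_lit 46) (nat_lit 8),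
  Rule.mk (nat_lit 8) (nat_lit 286) (Steps.bwd (nat_lit 11) (Steps.bwd (nat_lit 8) (Steps.bwd (nat_lit 3) (Steps.bwd (nat_lit 2) (Steps.fwd (nat_lit 24576) (Steps.fwd (nat_lit 81920) (Steps.bwd (nat_lit 8) (Steps.fwd (nat_lit 8192) (Steps.bwd (nat_lit 11) (Steps.fwd (nat_lit 16384) (Steps.bwd (nat_lit 11) (Steps.fwd (nat_lit 8192) (Steps.fwd (nat_lit 90112) (Steps.fwd (nat_lit 16384) (Steps.bwd (nat_lit 3) (Steps.fwd (nat_lit 32768) (Steps.bwd (nat_lit 9) Steps.nil))))))))))))))))) (nat_lit 56) (nat_lit 2),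
  Rule.mk (nat_lit 1) (nat_lit 110) (Steps.bwd (nat_lit 15) (Steps.fwd (nat_lit 114688) (Steps.bwd (nat_lit 10) (Steps.fwd (nat_lit 139264) (Steps.fwd (nat_lit 8192) (Steps.fwd (nat_lit 114688) Steps.nil)))))) (nat_lit 45) (nat_lit 0),
  Rule.mk (nat_lit 13) (nat_lit 142) (Steps.bwd (nat_lit 15) (Steps.fwd (nat_lit 139264) (Steps.bwd (nat_lit 10) (Steps.bwd (nat_lit 16) (Steps.bwd (nat_lit 2) (Steps.fwd (nat_lit 131072) (Steps.bwd (nat_lit 1) (Steps.bwd (nat_lit 10) Steps.nil)))))))) (nat_lit 47) (nat_lit 2),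
  Rule.mk (nat_lit 13) (nat_lit 126) (Steps.fwd (nat_lit 32768) (Steps.fwd (nat_lit 106496) (Steps.fwd (nat_lit 122880) (Steps.bwd (nat_lit 17) (Steps.fwd (nat_lit 81920) (Steps.bwd (nat_lit 17) (Steps.bwd (nat_lit 4) Steps.nil))))))) (nat_lit 51) (nat_lit 7),
  Rule.mk (nat_lit 3) (nat_lit 126) (Steps.bwd (nat_lit 16) (Steps.fwd (nat_lit 90112) (Steps.fwd (nat_lit 139264) (Steps.fwd (nat_lit 114688) (Steps.fwd (nat_lit 98304) (Steps.fwd (nat_lit 24576) (Steps.fwd (nat_lit 106496) Steps.nil))))))) (nat_lit 50) (nat_lit 3),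
  Rule.mk (nat_lit 2) (nat_lit 142) (Steps.bwd (nat_lit 16) (Steps.bwd (nat_lit 1) (Steps.bwd (nat_lit 17) (Steps.fwd (nat_lit 81920) (Steps.bwd (nat_lit 17) (Steps.bwd (nat_lit 14) (Steps.fwd (nat_lit 106496) (Steps.bwd (nat_lit 11) Steps.nil)))))))) (nat_lit 46) (nat_lit 1),
  Rule.mk (nat_lit 1) (nat_lit 158) (Steps.bwd (nat_lit 16) (Steps.fwd (nat_lit 90112) (Steps.bwd (nat_lit 13) (Steps.fwd (nat_lit 8192) (Steps.fwd (nat_lit 24576) (Steps.bwd (nat_lit 4) (Steps.fwd (nat_lit 73728) (Steps.bwd (nat_lit 14) (Steps.fwd (nat_lit 73728) Steps.nil))))))))) (nat_lit 62) (nat_lit 4)]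
noncomputable def R_120 : List (Rule) := [Rule.mk (nat_lit 12) (nat_lit 142) (Steps.bwd (nat_lit 11) (Steps.fwd (nat_lit 8192) (Steps.fwd (nat_lit 139264) (Steps.bwd (nat_lit 1) (Steps.fwd (nat_lit 131072) (Steps.bwd (nat_lit 11) (Steps.fwd (nat_lit 131072) (Steps.fwd (nat_lit 122880) Steps.nil)))))))) (nat_lit 46) (nat_lit 8),
  Rule.mk (nat_lit 4) (nat_lit 270) (Steps.bwd (nat_lit 11) (Steps.bwd (nat_lit 17) (Steps.bwd (nat_lit 19) (Steps.bwd (nat_lit 1) (Steps.fwd (nat_lit 73728) (Steps.fwd (nat_lit 16384) (Steps.bwd (nat_lit 9) (Steps.fwd (nat_lit 16384) (Steps.fwd (nat_lit 98304) (Steps.bwd (nat_lit 3) (Steps.fwd (nat_lit 73728) (Steps.bwd (nat_lit 8) (Steps.bwd (nat_lit 1) (Steps.bwd (nat_lit 3) (Steps.fwd (nat_lit 32768) (Steps.bwd (nat_lit 2) Steps.nil)))))))))))))))) (nat_lit 77) (nat_lit 5),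
  Rule.mk (nat_lit 1) (nat_lit 286) (Steps.bwd (nat_lit 11) (Steps.fwd (nat_lit 8192) (Steps.bwd (nat_lit 10) (Steps.fwd (nat_lit 16384) (Steps.fwd (nat_lit 32768) (Steps.fwd (nat_lit 32768) (Steps.fwd (nat_lit 73728) (Steps.fwd (nat_lit 57344) (Steps.bwd (nat_lit 11) (Steps.bwd (nat_lit 8) (Steps.bwd (nat_lit 3) (Steps.fwd (nat_lit 8192) (Steps.bwd (nat_lit 4) (Steps.bwd (nat_lit 11) (Steps.fwd (nat_lit 57344) (Steps.fwd (nat_lit 8192) (Steps.bwd (nat_lit 11) Steps.nil))))))))))))))))) (nat_lit 56) (nat_lit 12),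
  Rule.mk (nat_lit 8) (nat_lit 286) (Steps.bwd (nat_lit 11) (Steps.fwd (nat_lit 57344) (Steps.fwd (nat_lit 32768) (Steps.bwd (nat_lit 2) (Steps.fwd (nat_lit 24576) (Steps.bwd (nat_lit 11) (Steps.fwd (nat_lit 57344) (Steps.bwd (nat_lit 2) (Steps.bwd (nat_lit 11) (Steps.bwd (nat_lit 1) (Steps.bwd (nat_lit 11) (Steps.fwd (nat_lit 8192) (Steps.bwd (nat_lit 10) (Steps.fwd (nat_lit 16384) (Steps.bwd (nat_lit 3) (Steps.fwd (nat_lit 32768) (Steps.bwd (nat_lit 9) Steps.nil))))))))))))))))) (nat_lit 56) (nat_lit 2),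
  Rule.mk (nat_lit 1) (nat_lit 94) (Steps.fwd (nat_lit 16384) (Steps.fwd (nat_lit 16384) (Steps.fwd (nat_lit 16384) (Steps.fwd (nat_lit 57344) (Steps.bwd (nat_lit 8) Steps.nil))))) (nat_lit 79) (nat_lit 1),
  Rule.mk (nat_lit 9) (nat_lit 270) (Steps.bwd (nat_lit 8) (Steps.fwd (nat_lit 16384) (Steps.fwd (nat_lit 32768) (Steps.fwd (nat_lit 32768) (Steps.bwd (nat_lit 2) (Steps.fwd (nat_lit 24576) (Steps.fwd (nat_lit 81920) (Steps.bwd (nat_lit 17) (Steps.fwd (nat_lit 147456) (Steps.bwd (nat_lit 1) (Steps.bwd (nat_lit 9) (Steps.bwd (nat_lit 1) (Steps.bwd (nat_lit 9) (Steps.bwd (nat_lit 1) (Steps.fwd (nat_lit 98304) (Steps.fwd (nat_lit 32768) Steps.nil)))))))))))))))) (nat_lit 77) (nat_lit 16),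
  Rule.mk (nat_lit 14) (nat_lit 158) (Steps.bwd (nat_lit 9) (Steps.bwd (nat_lit 1) (Steps.bwd (nat_lit 16) (Steps.fwd (nat_lit 90112) (Steps.bwd (nat_lit 13) (Steps.fwd (nat_lit 8192) (Steps.bwd (nat_lit 4) (Steps.fwd (nat_lit 24576) (Steps.bwd (nat_lit 9) Steps.nil))))))))) (nat_lit 62) (nat_lit 2),
  Rule.mk (nat_lit 15) (nat_lit 158) (Steps.fwd (nat_lit 73728) (Steps.bwd (nat_lit 3) (Steps.bwd (nat_lit 3) (Steps.bwd (nat_lit 1) (Steps.fwd (nat_lit 106496) (Steps.bwd (nat_lit 11) (Steps.fwd (nat_lit 131072) (Steps.bwd (nat_lit 2) (Steps.bwd (nat_lit 9) Steps.nil))))))))) (nat_lit 63) (nat_lit 9),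
  Rule.mk (nat_lit 9) (nat_lit 158) (Steps.bwd (nat_lit 14) (Steps.bwd (nat_lit 9) (Steps.fwd (nat_lit 16384) (Steps.fwd (nat_lit 139264) (Steps.fwd (nat_lit 90112) (Steps.fwd (nat_lit 98304) (Steps.fwd (nat_lit 8192) (Steps.fwd (nat_lit 24576) (Steps.fwd (nat_lit 24576) Steps.nil))))))))) (nat_lit 62) (nat_lit 1),
  Rule.mk (nat_lit 12) (nat_lit 190) (Steps.fwd (nat_lit 131072) (Steps.bwd (nat_lit 1) (Steps.bwd (nat_lit 14) (Steps.fwd (nat_lit 16384) (Steps.bwd (nat_lit 1) (Steps.bwd (nat_lit 1) (Steps.fwd (nat_lit 73728) (Steps.bwd (nat_lit 12) (Steps.fwd (nat_lit 73728) (Steps.bwd (nat_lit 13) (Steps.bwd (nat_lit 9) Steps.nil))))))))))) (nat_lit 74) (nat_lit 6),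
  Rule.mk (nat_lit 2) (nat_lit 190) (Steps.fwd (nat_lit 8192) (Steps.bwd (nat_lit 2) (Steps.bwd (nat_lit 15) (Steps.bwd (nat_lit 2) (Steps.bwd (nat_lit 16) (Steps.fwd (nat_lit 98304) (Steps.fwd (nat_lit 73728) (Steps.bwd (nat_lit 12) (Steps.fwd (nat_lit 73728) (Steps.bwd (nat_lit 13) (Steps.bwd (nat_lit 9) Steps.nil))))))))))) (nat_lit 75) (nat_lit 1),
  Rule.mk (nat_lit 1) (nat_lit 206) (Steps.bwd (nat_lit 1) (Steps.bwd (nat_lit 9) (Steps.fwd (nat_lit 139264) (Steps.fwd (nat_lit 147456) (Steps.bwd (nat_lit 11) (Steps.fwd (nat_lit 8192) (Steps.bwd (nat_lit 3) (Steps.fwd (nat_lit 8192) (Steps.fwd (nat_lit 24576) (Steps.bwd (nat_lit 4) (Steps.bwd (nat_lit 2) (Steps.bwd (nat_lit 9) Steps.nil)))))))))))) (nat_lit 68) (nat_lit 2),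
  Rule.mk (nat_lit 8) (nat_lit 286) (Steps.bwd (nat_lit 11) (Steps.fwd (nat_lit 57344) (Steps.bwd (nat_lit 3) (Steps.bwd (nat_lit 2) (Steps.fwd (nat_lit 24576) (Steps.bwd (nat_lit 11) (Steps.fwd (nat_lit 57344) (Steps.bwd (nat_lit 2) (Steps.bwd (nat_lit 11) (Steps.fwd (nat_lit 16384) (Steps.fwd (nat_lit 81920) (Steps.fwd (nat_lit 8192) (Steps.bwd (nat_lit 10) (Steps.bwd (nat_lit 1) (Steps.bwd (nat_lit 3) (Steps.fwd (nat_lit 32768) (Steps.bwd (nat_lit 9) Steps.nil))))))))))))))))) (nat_lit 56) (nat_lit 2),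
  Rule.mk (nat_lit 13) (nat_lit 270) (Steps.bwd (nat_lit 3) (Steps.fwd (nat_lit 73728) (Steps.fwd (nat_lit 57344) (Steps.bwd (nat_lit 1) (Steps.bwd (nat_lit 3) (Steps.bwd (nat_lit 3) (Steps.bwd (nat_lit 2) (Steps.fwd (nat_lit 24576) (Steps.fwd (nat_lit 81920) (Steps.bwd (nat_lit 17) (Steps.fwd (nat_lit 147456) (Steps.fwd (nat_lit 16384) (Steps.bwd (nat_lit 9) (Steps.bwd (nat_lit 1) (Steps.fwd (nat_lit 73728) (Steps.fwd (nat_lit 16384) Steps.nil)))))))))))))))) (nat_lit 77) (nat_lit 14),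
  Rule.mk (nat_lit 13) (nat_lit 142) (Steps.fwd (nat_lit 114688) (Steps.fwd (nat_lit 139264) (Steps.bwd (nat_lit 10) (Steps.bwd (nat_lit 16) (Steps.bwd (nat_lit 2) (Steps.fwd (nat_lit 131072) (Steps.bwd (nat_lit 1) (Steps.bwd (nat_lit 10) Steps.nil)))))))) (nat_lit 47) (nat_lit 2),
  Rule.mk (nat_lit 17) (nat_lit 126) (Steps.bwd (nat_lit 4) (Steps.fwd (nat_lit 98304) (Steps.bwd (nat_lit 3) (Steps.bwd (nat_lit 12) (Steps.bwd (nat_lit 14) (Steps.fwd (nat_lit 131072) (Steps.bwd (nat_lit 11) Steps.nil))))))) (nat_lit 51) (nat_lit 5),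
  Rule.mk (nat_lit 17) (nat_lit 110) (Steps.bwd (nat_lit 17) (Steps.bwd (nat_lit 9) (Steps.bwd (nat_lit 4) (Steps.bwd (nat_lit 9) (Steps.bwd (nat_lit 10) (Steps.bwd (nat_lit 15) Steps.nil)))))) (nat_lit 71) (nat_lit 3),
  Rule.mk (nat_lit 4) (nat_lit 110) (Steps.bwd (nat_lit 15) (Steps.bwd (nat_lit 4) (Steps.bwd (nat_lit 9) (Steps.fwd (nat_lit 90112) (Steps.fwd (nat_lit 73728) (Steps.fwd (nat_lit 90112) Steps.nil)))))) (nat_lit 60) (nat_lit 5),
  Rule.mk (nat_lit 10) (nat_lit 110) (Steps.bwd (nat_lit 15) (Steps.bwd (nat_lit 10) (Steps.fwd (nat_lit 131072) (Steps.fwd (nat_lit 73728) (Steps.bwd (nat_lit 19) (Steps.fwd (nat_lit 73728) Steps.nil)))))) (nat_lit 67) (nat_lit 1),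
  Rule.mk (nat_lit 16) (nat_lit 126) (Steps.bwd (nat_lit 15) (Steps.fwd (nat_lit 98304) (Steps.fwd (nat_lit 24576) (Steps.bwd (nat_lit 12) (Steps.bwd (nat_lit 3) (Steps.bwd (nat_lit 16) (Steps.fwd (nat_lit 90112) Steps.nil))))))) (nat_lit 50) (nat_lit 6),
  Rule.mk (nat_lit 9) (nat_lit 110) (Steps.fwd (nat_lit 131072) (Steps.fwd (nat_lit 122880) (Steps.bwd (nat_lit 4) (Steps.fwd (nat_lit 24576) (Steps.bwd (nat_lit 9) (Steps.bwd (nat_lit 16) Steps.nil)))))) (nat_lit 64) (nat_lit 3),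
  Rule.mk (nat_lit 7) (nat_lit 286) (Steps.fwd (nat_lit 73728) (Steps.bwd (nat_lit 4) (Steps.bwd (nat_lit 4) (Steps.bwd (nat_lit 2) (Steps.fwd (nat_lit 81920) (Steps.fwd (nat_lit 16384) (Steps.fwd (nat_lit 90112) (Steps.fwd (nat_lit 8192) (Steps.bwd (nat_lit 10) (Steps.fwd (nat_lit 16384) (Steps.bwd (nat_lit 7) (Steps.bwd (nat_lit 10) (Steps.fwd (nat_lit 32768) (Steps.bwd (nat_lit 1) (Steps.bwd (nat_lit 4) (Steps.bwd (nat_lit 7) (Steps.bwd (nat_lit 10) Steps.nil))))))))))))))))) (nat_lit 57) (nat_lit 17),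
  Rule.mk (nat_lit 7) (nat_lit 126) (Steps.bwd (nat_lit 18) (Steps.fwd (nat_lit 8192) (Steps.bwd (nat_lit 2) (Steps.bwd (nat_lit 7) (Steps.bwd (nat_lit 18) (Steps.fwd (nat_lit 65536) (Steps.bwd (nat_lit 19) Steps.nil))))))) (nat_lit 86) (nat_lit 5),
  Rule.mk (nat_lit 14) (nat_lit 110) (Steps.bwd (nat_lit 11) (Steps.fwd (nat_lit 73728) (Steps.fwd (nat_lit 155648) (Steps.bwd (nat_lit 9) (Steps.fwd (nat_lit 139264) (Steps.fwd (nat_lit 81920) Steps.nil)))))) (nat_lit 66) (nat_lit 6),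
  Rule.mk (nat_lit 4) (nat_lit 270) (Steps.bwd (nat_lit 11) (Steps.fwd (nat_lit 131072) (Steps.fwd (nat_lit 147456) (Steps.fwd (nat_lit 16384) (Steps.fwd (nat_lit 73728) (Steps.fwd (nat_lit 16384) (Steps.bwd (nat_lit 9) (Steps.bwd (nat_lit 1) (Steps.fwd (nat_lit 98304) (Steps.fwd (nat_lit 32768) (Steps.bwd (nat_lit 9) (Steps.fwd (nat_lit 57344) (Steps.bwd (nat_lit 1) (Steps.bwd (nat_lit 3) (Steps.fwd (nat_lit 32768) (Steps.bwd (nat_lit 2) Steps.nil)))))))))))))))) (nat_lit 77) (nat_lit 5),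
  Rule.mk (nat_lit 2) (nat_lit 286) (Steps.bwd (nat_lit 11) (Steps.fwd (nat_lit 16384) (Steps.fwd (nat_lit 81920) (Steps.bwd (nat_lit 2) (Steps.fwd (nat_lit 90112) (Steps.fwd (nat_lit 16384) (Steps.bwd (nat_lit 3) (Steps.bwd (nat_lit 3) (Steps.bwd (nat_lit 9) (Steps.fwd (nat_lit 57344) (Steps.bwd (nat_lit 11) (Steps.bwd (nat_lit 8) (Steps.fwd (nat_lit 32768) (Steps.bwd (nat_lit 2) (Steps.fwd (nat_lit 24576) (Steps.fwd (nat_lit 81920) (Steps.fwd (nat_lit 57344) Steps.nil))))))))))))))))) (nat_lit 56) (nat_lit 10),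
  Rule.mk (nat_lit 12) (nat_lit 142) (Steps.bwd (nat_lit 11) (Steps.fwd (nat_lit 8192) (Steps.fwd (nat_lit 139264) (Steps.bwd (nat_lit 1) (Steps.bwd (nat_lit 17) (Steps.bwd (nat_lit 11) (Steps.bwd (nat_lit 17) (Steps.bwd (nat_lit 14) Steps.nil)))))))) (nat_lit 46) (nat_lit 8),
  Rule.mk (nat_lit 2) (nat_lit 286) (Steps.bwd (nat_lit 11) (Steps.fwd (nat_lit 16384) (Steps.bwd (nat_lit 11) (Steps.fwd (nat_lit 8192) (Steps.fwd (nat_lit 90112) (Steps.bwd (nat_lit 1) (Steps.bwd (nat_lit 3) (Steps.bwd (nat_lit 3) (Steps.fwd (nat_lit 73728) (Steps.fwd (nat_lit 57344) (Steps.bwd (nat_lit 11) (Steps.fwd (nat_lit 57344) (Steps.bwd (nat_lit 3) (Steps.bwd (nat_lit 2) (Steps.bwd (nat_lit 4) (Steps.bwd (nat_lit 11) (Steps.bwd (nat_lit 8) Steps.nil))))))))))))))))) (nat_lit 56) (nat_lit 10),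
  Rule.mk (nat_lit 8) (nat_lit 286) (Steps.bwd (nat_lit 11) (Steps.bwd (nat_lit 8) (Steps.bwd (nat_lit 3) (Steps.bwd (nat_lit 2) (Steps.bwd (nat_lit 4) (Steps.bwd (nat_lit 11) (Steps.bwd (nat_lit 8) (Steps.fwd (nat_lit 8192) (Steps.fwd (nat_lit 81920) (Steps.bwd (nat_lit 1) (Steps.fwd (nat_lit 81920) (Steps.bwd (nat_lit 2) (Steps.fwd (nat_lit 90112) (Steps.bwd (nat_lit 1) (Steps.fwd (nat_lit 32768) (Steps.bwd (nat_lit 3) (Steps.fwd (nat_lit 73728) Steps.nil))))))))))))))))) (nat_lit 56) (nat_lit 2),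
  Rule.mk (nat_lit 14) (nat_lit 158) (Steps.bwd (nat_lit 9) (Steps.bwd (nat_lit 1) (Steps.bwd (nat_lit 16) (Steps.fwd (nat_lit 90112) (Steps.bwd (nat_lit 13) (Steps.fwd (nat_lit 8192) (Steps.fwd (nat_lit 24576) (Steps.bwd (nat_lit 4) (Steps.fwd (nat_lit 73728) Steps.nil))))))))) (nat_lit 62) (nat_lit 2),
  Rule.mk (nat_lit 15) (nat_lit 158) (Steps.bwd (nat_lit 9) (Steps.bwd (nat_lit 3) (Steps.bwd (nat_lit 3) (Steps.bwd (nat_lit 1) (Steps.fwd (nat_lit 106496) (Steps.fwd (nat_lit 81920) (Steps.bwd (nat_lit 17) (Steps.fwd (nat_lit 8192) (Steps.fwd (nat_lit 73728) Steps.nil))))))))) (nat_lit 63) (nat_lit 9),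
  Rule.mk (nat_lit 2) (nat_lit 158) (Steps.bwd (nat_lit 9) (Steps.fwd (nat_lit 114688) (Steps.bwd (nat_lit 9) (Steps.fwd (nat_lit 32768) (Steps.bwd (nat_lit 3) (Steps.bwd (nat_lit 1) (Steps.bwd (nat_lit 12) (Steps.fwd (nat_lit 81920) (Steps.fwd (nat_lit 131072) Steps.nil))))))))) (nat_lit 63) (nat_lit 7),
  Rule.mk (nat_lit 13) (nat_lit 190) (Steps.bwd (nat_lit 9) (Steps.fwd (nat_lit 106496) (Steps.fwd (nat_lit 131072) (Steps.fwd (nat_lit 16384) (Steps.bwd (nat_lit 14) (Steps.fwd (nat_lit 16384) (Steps.fwd (nat_lit 16384) (Steps.fwd (nat_lit 16384) (Steps.bwd (nat_lit 9) (Steps.fwd (nat_lit 106496) (Steps.bwd (nat_lit 9) Steps.nil))))))))))) (nat_lit 74) (nat_lit 4),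
  Rule.mk (nat_lit 12) (nat_lit 190) (Steps.bwd (nat_lit 9) (Steps.bwd (nat_lit 13) (Steps.bwd (nat_lit 9) (Steps.fwd (nat_lit 106496) (Steps.fwd (nat_lit 131072) (Steps.fwd (nat_lit 16384) (Steps.bwd (nat_lit 14) (Steps.fwd (nat_lit 16384) (Steps.fwd (nat_lit 16384) (Steps.bwd (nat_lit 1) (Steps.bwd (nat_lit 9) Steps.nil))))))))))) (nat_lit 74) (nat_lit 2),
  Rule.mk (nat_lit 7) (nat_lit 270) (Steps.bwd (nat_lit 9) (Steps.bwd (nat_lit 4) (Steps.bwd (nat_lit 12) (Steps.bwd (nat_lit 2) (Steps.bwd (nat_lit 9) (Steps.bwd (nat_lit 2) (Steps.fwd (nat_lit 73728) (Steps.fwd (nat_lit 8192) (Steps.fwd (nat_lit 155648) (Steps.fwd (nat_lit 139264) (Steps.bwd (nat_lit 10) (Steps.fwd (nat_lit 32768) (Steps.bwd (nat_lit 1) (Steps.bwd (nat_lit 4) (Steps.fwd (nat_lit 24576) (Steps.fwd (nat_lit 8192) Steps.nil)))))))))))))))) (nat_lit 76) (nat_lit 1),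
  Rule.mk (nat_lit 3) (nat_lit 270) (Steps.bwd (nat_lit 9) (Steps.bwd (nat_lit 8) (Steps.fwd (nat_lit 16384) (Steps.bwd (nat_lit 3) (Steps.fwd (nat_lit 32768) (Steps.fwd (nat_lit 8192) (Steps.fwd (nat_lit 24576) (Steps.fwd (nat_lit 81920) (Steps.bwd (nat_lit 17) (Steps.bwd (nat_lit 19) (Steps.fwd (nat_lit 16384) (Steps.bwd (nat_lit 9) (Steps.fwd (nat_lit 16384) (Steps.fwd (nat_lit 73728) (Steps.bwd (nat_lit 1) (Steps.fwd (nat_lit 98304) Steps.nil)))))))))))))))) (nat_lit 77) (nat_lit 15),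
  Rule.mk (nat_lit 1) (nat_lit 270) (Steps.bwd (nat_lit 9) (Steps.bwd (nat_lit 1) (Steps.fwd (nat_lit 73728) (Steps.bwd (nat_lit 1) (Steps.fwd (nat_lit 98304) (Steps.bwd (nat_lit 3) (Steps.bwd (nat_lit 9) (Steps.fwd (nat_lit 57344) (Steps.fwd (nat_lit 16384) (Steps.fwd (nat_lit 32768) (Steps.fwd (nat_lit 32768) (Steps.fwd (nat_lit 8192) (Steps.fwd (nat_lit 24576) (Steps.bwd (nat_lit 11) (Steps.bwd (nat_lit 17) (Steps.bwd (nat_lit 19) Steps.nil)))))))))))))))) (nat_lit 77) (nat_lit 9),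
  Rule.mk (nat_lit 3) (nat_lit 126) (Steps.bwd (nat_lit 10) (Steps.fwd (nat_lit 90112) (Steps.fwd (nat_lit 139264) (Steps.fwd (nat_lit 114688) (Steps.bwd (nat_lit 15) (Steps.fwd (nat_lit 24576) (Steps.fwd (nat_lit 114688) Steps.nil))))))) (nat_lit 53) (nat_lit 0),
  Rule.mk (nat_lit 7) (nat_lit 286) (Steps.bwd (nat_lit 10) (Steps.bwd (nat_lit 7) (Steps.bwd (nat_lit 9) (Steps.bwd (nat_lit 4) (Steps.fwd (nat_lit 24576) (Steps.bwd (nat_lit 2) (Steps.fwd (nat_lit 81920) (Steps.fwd (nat_lit 16384) (Steps.fwd (nat_lit 90112) (Steps.bwd (nat_lit 2) (Steps.fwd (nat_lit 90112) (Steps.bwd (nat_lit 1) (Steps.bwd (nat_lit 7) (Steps.bwd (nat_lit 10) (Steps.fwd (nat_lit 32768) (Steps.bwd (nat_lit 1) (Steps.bwd (nat_lit 4) Steps.nil))))))))))))))))) (nat_lit 57) (nat_lit 15),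
  Rule.mk (nat_lit 14) (nat_lit 110) (Steps.bwd (nat_lit 1) (Steps.fwd (nat_lit 131072) (Steps.fwd (nat_lit 81920) (Steps.bwd (nat_lit 14) (Steps.fwd (nat_lit 122880) (Steps.fwd (nat_lit 8192) Steps.nil)))))) (nat_lit 44) (nat_lit 2),
  Rule.mk (nat_lit 16) (nat_lit 142) (Steps.bwd (nat_lit 1) (Steps.fwd (nat_lit 131072) (Steps.fwd (nat_lit 81920) (Steps.bwd (nat_lit 17) (Steps.fwd (nat_lit 122880) (Steps.fwd (nat_lit 106496) (Steps.bwd (nat_lit 11) (Steps.fwd (nat_lit 8192) Steps.nil)))))))) (nat_lit 46) (nat_lit 2),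
  Rule.mk (nat_lit 9) (nat_lit 158) (Steps.bwd (nat_lit 1) (Steps.fwd (nat_lit 139264) (Steps.fwd (nat_lit 90112) (Steps.bwd (nat_lit 13) (Steps.fwd (nat_lit 8192) (Steps.fwd (nat_lit 24576) (Steps.fwd (nat_lit 24576) (Steps.bwd (nat_lit 9) (Steps.fwd (nat_lit 122880) Steps.nil))))))))) (nat_lit 62) (nat_lit 3),
  Rule.mk (nat_lit 17) (nat_lit 190) (Steps.bwd (nat_lit 1) (Steps.fwd (nat_lit 122880) (Steps.bwd (nat_lit 1) (Steps.bwd (nat_lit 1) (Steps.fwd (nat_lit 16384) (Steps.fwd (nat_lit 73728) (Steps.bwd (nat_lit 12) (Steps.bwd (nat_lit 9) (Steps.bwd (nat_lit 13) (Steps.fwd (nat_lit 73728) (Steps.bwd (nat_lit 12) Steps.nil))))))))))) (nat_lit 74) (nat_lit 7),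
  Rule.mk (nat_lit 10) (nat_lit 286) (Steps.bwd (nat_lit 1) (Steps.bwd (nat_lit 3) (Steps.bwd (nat_lit 3) (Steps.bwd (nat_lit 9) (Steps.bwd (nat_lit 8) (Steps.fwd (nat_lit 81920) (Steps.bwd (nat_lit 8) (Steps.fwd (nat_lit 32768) (Steps.bwd (nat_lit 2) (Steps.bwd (nat_lit 4) (Steps.fwd (nat_lit 81920) (Steps.fwd (nat_lit 57344) (Steps.fwd (nat_lit 8192) (Steps.bwd (nat_lit 11) (Steps.fwd (nat_lit 16384) (Steps.bwd (nat_lit 11) (Steps.fwd (nat_lit 8192) Steps.nil))))))))))))))))) (nat_lit 56) (nat_lit 15),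
  Rule.mk (nat_lit 11) (nat_lit 286) (Steps.bwd (nat_lit 1) (Steps.fwd (nat_lit 81920) (Steps.fwd (nat_lit 8192) (Steps.fwd (nat_lit 90112) (Steps.bwd (nat_lit 1) (Steps.fwd (nat_lit 32768) (Steps.fwd (nat_lit 32768) (Steps.bwd (nat_lit 9) (Steps.fwd (nat_lit 57344) (Steps.bwd (nat_lit 11) (Steps.bwd (nat_lit 8) (Steps.fwd (nat_lit 32768) (Steps.fwd (nat_lit 8192) (Steps.bwd (nat_lit 4) (Steps.bwd (nat_lit 11) (Steps.fwd (nat_lit 57344) (Steps.fwd (nat_lit 8192) Steps.nil))))))))))))))))) (nat_lit 56) (nat_lit 11),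
  Rule.mk (nat_lit 8) (nat_lit 270) (Steps.fwd (nat_lit 16384) (Steps.bwd (nat_lit 3) (Steps.fwd (nat_lit 32768) (Steps.fwd (nat_lit 8192) (Steps.fwd (nat_lit 24576) (Steps.bwd (nat_lit 11) (Steps.fwd (nat_lit 131072) (Steps.fwd (nat_lit 147456) (Steps.fwd (nat_lit 16384) (Steps.bwd (nat_lit 9) (Steps.bwd (nat_lit 1) (Steps.fwd (nat_lit 73728) (Steps.bwd (nat_lit 1) (Steps.bwd (nat_lit 13) (Steps.fwd (nat_lit 32768) (Steps.bwd (nat_lit 9) Steps.nil)))))))))))))))) (nat_lit 77) (nat_lit 0),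
  Rule.mk (nat_lit 9) (nat_lit 270) (Steps.bwd (nat_lit 8) (Steps.bwd (nat_lit 1) (Steps.fwd (nat_lit 32768) (Steps.bwd (nat_lit 3) (Steps.fwd (nat_lit 8192) (Steps.fwd (nat_lit 24576) (Steps.fwd (nat_lit 81920) (Steps.fwd (nat_lit 131072) (Steps.bwd (nat_lit 19) (Steps.fwd (nat_lit 16384) (Steps.fwd (nat_lit 73728) (Steps.fwd (nat_lit 16384) (Steps.fwd (nat_lit 73728) (Steps.bwd (nat_lit 1) (Steps.fwd (nat_lit 98304) (Steps.bwd (nat_lit 3) Steps.nil)))))))))))))))) (nat_lit 77) (nat_lit 16),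
  Rule.mk (nat_lit 11) (nat_lit 286) (Steps.bwd (nat_lit 8) (Steps.fwd (nat_lit 8192) (Steps.fwd (nat_lit 81920) (Steps.bwd (nat_lit 1) (Steps.bwd (nat_lit 11) (Steps.bwd (nat_lit 2) (Steps.bwd (nat_lit 10) (Steps.fwd (nat_lit 16384) (Steps.fwd (nat_lit 32768) (Steps.fwd (nat_lit 32768) (Steps.bwd (nat_lit 9) (Steps.fwd (nat_lit 57344) (Steps.bwd (nat_lit 11) (Steps.bwd (nat_lit 8) (Steps.fwd (nat_lit 32768) (Steps.fwd (nat_lit 8192) (Steps.fwd (nat_lit 24576) Steps.nil))))))))))))))))) (nat_lit 56) (nat_lit 8),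
  Rule.mk (nat_lit 10) (nat_lit 270) (Steps.bwd (nat_lit 3) (Steps.fwd (nat_lit 16384) (Steps.bwd (nat_lit 4) (Steps.bwd (nat_lit 4) (Steps.bwd (nat_lit 2) (Steps.bwd (nat_lit 7) (Steps.fwd (nat_lit 73728) (Steps.fwd (nat_lit 24576) (Steps.bwd (nat_lit 12) (Steps.fwd (nat_lit 8192) (Steps.bwd (nat_lit 9) (Steps.fwd (nat_lit 8192) (Steps.fwd (nat_lit 73728) (Steps.bwd (nat_lit 2) (Steps.bwd (nat_lit 18) (Steps.fwd (nat_lit 139264) Steps.nil)))))))))))))))) (nat_lit 76) (nat_lit 12),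
  Rule.mk (nat_lit 8) (nat_lit 270) (Steps.bwd (nat_lit 1) (Steps.fwd (nat_lit 32768) (Steps.bwd (nat_lit 3) (Steps.bwd (nat_lit 2) (Steps.fwd (nat_lit 24576) (Steps.bwd (nat_lit 11) (Steps.fwd (nat_lit 131072) (Steps.fwd (nat_lit 147456) (Steps.bwd (nat_lit 1) (Steps.bwd (nat_lit 9) (Steps.fwd (nat_lit 16384) (Steps.bwd (nat_lit 9) (Steps.fwd (nat_lit 16384) (Steps.fwd (nat_lit 98304) (Steps.fwd (nat_lit 32768) (Steps.bwd (nat_lit 9) Steps.nil)))))))))))))))) (nat_lit 77) (nat_lit 0),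
  Rule.mk (nat_lit 3) (nat_lit 126) (Steps.bwd (nat_lit 16) (Steps.bwd (nat_lit 10) (Steps.bwd (nat_lit 16) (Steps.bwd (nat_lit 15) (Steps.fwd (nat_lit 98304) (Steps.bwd (nat_lit 4) (Steps.bwd (nat_lit 12) Steps.nil))))))) (nat_lit 50) (nat_lit 3),
  Rule.mk (nat_lit 2) (nat_lit 142) (Steps.bwd (nat_lit 16) (Steps.fwd (nat_lit 16384) (Steps.fwd (nat_lit 131072) (Steps.fwd (nat_lit 81920) (Steps.fwd (nat_lit 131072) (Steps.bwd (nat_lit 14) (Steps.bwd (nat_lit 12) (Steps.bwd (nat_lit 11) Steps.nil)))))))) (nat_lit 46) (nat_lit 1),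
  Rule.mk (nat_lit 1) (nat_lit 158) (Steps.bwd (nat_lit 16) (Steps.bwd (nat_lit 10) (Steps.bwd (nat_lit 13) (Steps.fwd (nat_lit 8192) (Steps.bwd (nat_lit 4) (Steps.bwd (nat_lit 4) (Steps.fwd (nat_lit 73728) (Steps.bwd (nat_lit 14) (Steps.fwd (nat_lit 73728) Steps.nil))))))))) (nat_lit 62) (nat_lit 4),
  Rule.mk (nat_lit 10) (nat_lit 110) (Steps.bwd (nat_lit 17) (Steps.fwd (nat_lit 73728) (Steps.bwd (nat_lit 19) (Steps.fwd (nat_lit 73728) (Steps.fwd (nat_lit 90112) (Steps.bwd (nat_lit 15) Steps.nil)))))) (nat_lit 67) (nat_lit 3),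
  Rule.mk (nat_lit 17) (nat_lit 110) (Steps.bwd (nat_lit 17) (Steps.fwd (nat_lit 73728) (Steps.bwd (nat_lit 4) (Steps.fwd (nat_lit 73728) (Steps.bwd (nat_lit 10) (Steps.fwd (nat_lit 114688) Steps.nil)))))) (nat_lit 71) (nat_lit 3),
  Rule.mk (nat_lit 14) (nat_lit 126) (Steps.bwd (nat_lit 17) (Steps.bwd (nat_lit 11) (Steps.fwd (nat_lit 131072) (Steps.fwd (nat_lit 24576) (Steps.fwd (nat_lit 98304) (Steps.fwd (nat_lit 32768) (Steps.bwd (nat_lit 12) Steps.nil))))))) (nat_lit 51) (nat_lit 2),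
  Rule.mk (nat_lit 2) (nat_lit 142) (Steps.bwd (nat_lit 17) (Steps.bwd (nat_lit 1) (Steps.fwd (nat_lit 90112) (Steps.bwd (nat_lit 13) (Steps.bwd (nat_lit 15) (Steps.bwd (nat_lit 16) (Steps.bwd (nat_lit 10) (Steps.bwd (nat_lit 16) Steps.nil)))))))) (nat_lit 47) (nat_lit 7),
  Rule.mk (nat_lit 2) (nat_lit 286) (Steps.bwd (nat_lit 10) (Steps.fwd (nat_lit 16384) (Steps.bwd (nat_lit 3) (Steps.fwd (nat_lit 32768) (Steps.bwd (nat_lit 9) (Steps.fwd (nat_lit 57344) (Steps.bwd (nat_lit 11) (Steps.bwd (nat_lit 8) (Steps.bwd (nat_lit 3) (Steps.bwd (nat_lit 2) (Steps.fwd (nat_lit 24576) (Steps.bwd (nat_lit 11) (Steps.bwd (nat_lit 8) (Steps.fwd (nat_lit 8192) (Steps.fwd (nat_lit 81920) (Steps.bwd (nat_lit 1) (Steps.bwd (nat_lit 11) Steps.nil))))))))))))))))) (nat_lit 56) (nat_lit 14),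
  Rule.mk (nat_lit 7) (nat_lit 286) (Steps.bwd (nat_lit 10) (Steps.fwd (nat_lit 32768) (Steps.bwd (nat_lit 1) (Steps.fwd (nat_lit 24576) (Steps.bwd (nat_lit 7) (Steps.fwd (nat_lit 90112) (Steps.bwd (nat_lit 7) (Steps.fwd (nat_lit 73728) (Steps.bwd (nat_lit 4) (Steps.bwd (nat_lit 4) (Steps.bwd (nat_lit 2) (Steps.fwd (nat_lit 81920) (Steps.fwd (nat_lit 16384) (Steps.fwd (nat_lit 90112) (Steps.bwd (nat_lit 2) (Steps.fwd (nat_lit 90112) (Steps.fwd (nat_lit 16384) Steps.nil))))))))))))))))) (nat_lit 57) (nat_lit 10),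
  Rule.mk (nat_lit 2) (nat_lit 94) (Steps.bwd (nat_lit 2) (Steps.bwd (nat_lit 2) (Steps.bwd (nat_lit 8) (Steps.fwd (nat_lit 16384) (Steps.bwd (nat_lit 7) Steps.nil))))) (nat_lit 82) (nat_lit 4),
  Rule.mk (nat_lit 17) (nat_lit 142) (Steps.bwd (nat_lit 1) (Steps.bwd (nat_lit 10) (Steps.fwd (nat_lit 98304) (Steps.bwd (nat_lit 15) (Steps.bwd (nat_lit 16) (Steps.bwd (nat_lit 10) (Steps.bwd (nat_lit 16) (Steps.bwd (nat_lit 2) Steps.nil)))))))) (nat_lit 47) (nat_lit 8),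
  Rule.mk (nat_lit 15) (nat_lit 110) (Steps.bwd (nat_lit 17) (Steps.bwd (nat_lit 17) (Steps.bwd (nat_lit 9) (Steps.fwd (nat_lit 24576) (Steps.fwd (nat_lit 73728) (Steps.fwd (nat_lit 90112) Steps.nil)))))) (nat_lit 71) (nat_lit 2),
  Rule.mk (nat_lit 2) (nat_lit 142) (Steps.bwd (nat_lit 17) (Steps.fwd (nat_lit 16384) (Steps.bwd (nat_lit 10) (Steps.bwd (nat_lit 13) (Steps.bwd (nat_lit 15) (Steps.fwd (nat_lit 139264) (Steps.fwd (nat_lit 90112) (Steps.fwd (nat_lit 139264) Steps.nil)))))))) (nat_lit 47) (nat_lit 7),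
  Rule.mk (nat_lit 11) (nat_lit 286) (Steps.fwd (nat_lit 16384) (Steps.bwd (nat_lit 10) (Steps.bwd (nat_lit 2) (Steps.fwd (nat_lit 90112) (Steps.fwd (nat_lit 16384) (Steps.fwd (nat_lit 65536) (Steps.bwd (nat_lit 10) (Steps.bwd (nat_lit 3) (Steps.bwd (nat_lit 1) (Steps.bwd (nat_lit 4) (Steps.bwd (nat_lit 7) (Steps.bwd (nat_lit 10) (Steps.fwd (nat_lit 65536) (Steps.fwd (nat_lit 73728) (Steps.fwd (nat_lit 24576) (Steps.bwd (nat_lit 4) (Steps.bwd (nat_lit 2) Steps.nil))))))))))))))))) (nat_lit 57) (nat_lit 4)]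
noncomputable def R_121 : List (Rule) := [Rule.mk (nat_lit 12) (nat_lit 126) (Steps.bwd (nat_lit 3) (Steps.fwd (nat_lit 139264) (Steps.fwd (nat_lit 90112) (Steps.bwd (nat_lit 16) (Steps.bwd (nat_lit 15) (Steps.fwd (nat_lit 98304) (Steps.fwd (nat_lit 24576) Steps.nil))))))) (nat_lit 50) (nat_lit 2),
  Rule.mk (nat_lit 13) (nat_lit 126) (Steps.bwd (nat_lit 3) (Steps.fwd (nat_lit 106496) (Steps.fwd (nat_lit 122880) (Steps.bwd (nat_lit 17) (Steps.bwd (nat_lit 11) (Steps.fwd (nat_lit 131072) (Steps.fwd (nat_lit 24576) Steps.nil))))))) (nat_lit 51) (nat_lit 7),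
  Rule.mk (nat_lit 14) (nat_lit 126) (Steps.bwd (nat_lit 3) (Steps.fwd (nat_lit 122880) (Steps.bwd (nat_lit 14) (Steps.fwd (nat_lit 131072) (Steps.bwd (nat_lit 11) (Steps.fwd (nat_lit 81920) (Steps.fwd (nat_lit 24576) Steps.nil))))))) (nat_lit 52) (nat_lit 2),
  Rule.mk (nat_lit 17) (nat_lit 126) (Steps.fwd (nat_lit 81920) (Steps.fwd (nat_lit 81920) (Steps.bwd (nat_lit 4) (Steps.bwd (nat_lit 14) (Steps.bwd (nat_lit 3) (Steps.fwd (nat_lit 122880) (Steps.bwd (nat_lit 14) Steps.nil))))))) (nat_lit 52) (nat_lit 6),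
  Rule.mk (nat_lit 1) (nat_lit 94) (Steps.bwd (nat_lit 8) (Steps.fwd (nat_lit 57344) (Steps.bwd (nat_lit 1) (Steps.fwd (nat_lit 16384) (Steps.fwd (nat_lit 16384) Steps.nil))))) (nat_lit 79) (nat_lit 4),
  Rule.mk (nat_lit 19) (nat_lit 126) (Steps.bwd (nat_lit 8) (Steps.fwd (nat_lit 16384) (Steps.fwd (nat_lit 16384) (Steps.bwd (nat_lit 19) (Steps.fwd (nat_lit 57344) (Steps.fwd (nat_lit 155648) (Steps.bwd (nat_lit 8) Steps.nil))))))) (nat_lit 87) (nat_lit 7),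
  Rule.mk (nat_lit 18) (nat_lit 126) (Steps.bwd (nat_lit 8) (Steps.fwd (nat_lit 147456) (Steps.fwd (nat_lit 57344) (Steps.fwd (nat_lit 16384) (Steps.bwd (nat_lit 1) (Steps.bwd (nat_lit 19) (Steps.fwd (nat_lit 57344) Steps.nil))))))) (nat_lit 87) (nat_lit 5),
  Rule.mk (nat_lit 11) (nat_lit 286) (Steps.bwd (nat_lit 8) (Steps.fwd (nat_lit 8192) (Steps.fwd (nat_lit 81920) (Steps.bwd (nat_lit 1) (Steps.fwd (nat_lit 81920) (Steps.fwd (nat_lit 8192) (Steps.bwd (nat_lit 10) (Steps.fwd (nat_lit 16384) (Steps.bwd (nat_lit 3) (Steps.fwd (nat_lit 32768) (Steps.bwd (nat_lit 9) (Steps.fwd (nat_lit 57344) (Steps.fwd (nat_lit 81920) (Steps.bwd (nat_lit 8) (Steps.fwd (nat_lit 32768) (Steps.fwd (nat_lit 8192) (Steps.fwd (nat_lit 24576) Steps.nil))))))))))))))))) (nat_lit 56) (nat_lit 8),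
  Rule.mk (nat_lit 11) (nat_lit 286) (Steps.bwd (nat_lit 8) (Steps.fwd (nat_lit 8192) (Steps.fwd (nat_lit 81920) (Steps.bwd (nat_lit 1) (Steps.bwd (nat_lit 11) (Steps.bwd (nat_lit 2) (Steps.fwd (nat_lit 90112) (Steps.fwd (nat_lit 16384) (Steps.bwd (nat_lit 3) (Steps.fwd (nat_lit 32768) (Steps.bwd (nat_lit 9) (Steps.bwd (nat_lit 8) (Steps.bwd (nat_lit 11) (Steps.bwd (nat_lit 8) (Steps.bwd (nat_lit 3) (Steps.fwd (nat_lit 8192) (Steps.bwd (nat_lit 4) Steps.nil))))))))))))))))) (nat_lit 56) (nat_lit 8),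
  Rule.mk (nat_lit 9) (nat_lit 286) (Steps.bwd (nat_lit 8) (Steps.bwd (nat_lit 11) (Steps.fwd (nat_lit 57344) (Steps.bwd (nat_lit 3) (Steps.fwd (nat_lit 8192) (Steps.fwd (nat_lit 24576) (Steps.fwd (nat_lit 81920) (Steps.fwd (nat_lit 57344) (Steps.bwd (nat_lit 2) (Steps.fwd (nat_lit 81920) (Steps.bwd (nat_lit 1) (Steps.bwd (nat_lit 11) (Steps.fwd (nat_lit 8192) (Steps.bwd (nat_lit 10) (Steps.fwd (nat_lit 16384) (Steps.fwd (nat_lit 32768) (Steps.bwd (nat_lit 3) Steps.nil))))))))))))))))) (nat_lit 56) (nat_lit 1),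
  Rule.mk (nat_lit 14) (nat_lit 158) (Steps.fwd (nat_lit 73728) (Steps.bwd (nat_lit 1) (Steps.fwd (nat_lit 139264) (Steps.fwd (nat_lit 90112) (Steps.fwd (nat_lit 98304) (Steps.bwd (nat_lit 2) (Steps.bwd (nat_lit 4) (Steps.bwd (nat_lit 4) (Steps.fwd (nat_lit 73728) Steps.nil))))))))) (nat_lit 62) (nat_lit 2),
  Rule.mk (nat_lit 12) (nat_lit 190) (Steps.fwd (nat_lit 73728) (Steps.bwd (nat_lit 13) (Steps.bwd (nat_lit 9) (Steps.bwd (nat_lit 12) (Steps.fwd (nat_lit 131072) (Steps.bwd (nat_lit 1) (Steps.bwd (nat_lit 14) (Steps.fwd (nat_lit 16384) (Steps.fwd (nat_lit 16384) (Steps.bwd (nat_lit 1) (Steps.fwd (nat_lit 73728) Steps.nil))))))))))) (nat_lit 74) (nat_lit 2),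
  Rule.mk (nat_lit 17) (nat_lit 158) (Steps.bwd (nat_lit 2) (Steps.fwd (nat_lit 73728) (Steps.fwd (nat_lit 114688) (Steps.fwd (nat_lit 73728) (Steps.fwd (nat_lit 32768) (Steps.fwd (nat_lit 32768) (Steps.bwd (nat_lit 1) (Steps.fwd (nat_lit 106496) (Steps.bwd (nat_lit 11) Steps.nil))))))))) (nat_lit 63) (nat_lit 6),
  Rule.mk (nat_lit 9) (nat_lit 190) (Steps.bwd (nat_lit 2) (Steps.fwd (nat_lit 8192) (Steps.bwd (nat_lit 2) (Steps.fwd (nat_lit 114688) (Steps.bwd (nat_lit 2) (Steps.fwd (nat_lit 139264) (Steps.fwd (nat_lit 98304) (Steps.bwd (nat_lit 9) (Steps.fwd (nat_lit 106496) (Steps.fwd (nat_lit 73728) (Steps.bwd (nat_lit 13) Steps.nil))))))))))) (nat_lit 75) (nat_lit 0),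
  Rule.mk (nat_lit 14) (nat_lit 158) (Steps.fwd (nat_lit 73728) (Steps.bwd (nat_lit 1) (Steps.fwd (nat_lit 139264) (Steps.fwd (nat_lit 90112) (Steps.fwd (nat_lit 98304) (Steps.bwd (nat_lit 2) (Steps.bwd (nat_lit 4) (Steps.bwd (nat_lit 4) (Steps.bwd (nat_lit 9) Steps.nil))))))))) (nat_lit 62) (nat_lit 2),
  Rule.mk (nat_lit 15) (nat_lit 190) (Steps.bwd (nat_lit 2) (Steps.fwd (nat_lit 139264) (Steps.bwd (nat_lit 13) (Steps.fwd (nat_lit 73728) (Steps.bwd (nat_lit 12) (Steps.bwd (nat_lit 9) (Steps.bwd (nat_lit 13) (Steps.bwd (nat_lit 9) (Steps.fwd (nat_lit 8192) (Steps.fwd (nat_lit 8192) (Steps.fwd (nat_lit 8192) Steps.nil))))))))))) (nat_lit 75) (nat_lit 4),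
  Rule.mk (nat_lit 9) (nat_lit 190) (Steps.bwd (nat_lit 2) (Steps.bwd (nat_lit 2) (Steps.fwd (nat_lit 8192) (Steps.bwd (nat_lit 15) (Steps.fwd (nat_lit 8192) (Steps.fwd (nat_lit 139264) (Steps.fwd (nat_lit 98304) (Steps.fwd (nat_lit 73728) (Steps.bwd (nat_lit 12) (Steps.bwd (nat_lit 9) (Steps.bwd (nat_lit 13) Steps.nil))))))))))) (nat_lit 75) (nat_lit 0),
  Rule.mk (nat_lit 17) (nat_lit 110) (Steps.fwd (nat_lit 122880) (Steps.bwd (nat_lit 4) (Steps.bwd (nat_lit 4) (Steps.bwd (nat_lit 9) (Steps.bwd (nat_lit 16) (Steps.bwd (nat_lit 9) Steps.nil)))))) (nat_lit 64) (nat_lit 4),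
  Rule.mk (nat_lit 3) (nat_lit 126) (Steps.bwd (nat_lit 16) (Steps.bwd (nat_lit 10) (Steps.bwd (nat_lit 16) (Steps.bwd (nat_lit 15) (Steps.bwd (nat_lit 13) (Steps.fwd (nat_lit 24576) (Steps.fwd (nat_lit 106496) Steps.nil))))))) (nat_lit 50) (nat_lit 3),
  Rule.mk (nat_lit 4) (nat_lit 126) (Steps.bwd (nat_lit 12) (Steps.fwd (nat_lit 32768) (Steps.bwd (nat_lit 16) (Steps.bwd (nat_lit 10) (Steps.bwd (nat_lit 16) (Steps.bwd (nat_lit 15) (Steps.bwd (nat_lit 13) Steps.nil))))))) (nat_lit 50) (nat_lit 1),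
  Rule.mk (nat_lit 3) (nat_lit 126) (Steps.bwd (nat_lit 12) (Steps.fwd (nat_lit 122880) (Steps.bwd (nat_lit 17) (Steps.fwd (nat_lit 81920) (Steps.bwd (nat_lit 17) (Steps.fwd (nat_lit 24576) (Steps.fwd (nat_lit 98304) Steps.nil))))))) (nat_lit 51) (nat_lit 0),
  Rule.mk (nat_lit 9) (nat_lit 190) (Steps.bwd (nat_lit 12) (Steps.bwd (nat_lit 17) (Steps.bwd (nat_lit 1) (Steps.bwd (nat_lit 14) (Steps.fwd (nat_lit 16384) (Steps.fwd (nat_lit 16384) (Steps.bwd (nat_lit 1) (Steps.fwd (nat_lit 73728) (Steps.bwd (nat_lit 12) (Steps.bwd (nat_lit 9) (Steps.bwd (nat_lit 13) Steps.nil))))))))))) (nat_lit 74) (nat_lit 5),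
  Rule.mk (nat_lit 13) (nat_lit 190) (Steps.bwd (nat_lit 9) (Steps.fwd (nat_lit 106496) (Steps.bwd (nat_lit 17) (Steps.fwd (nat_lit 16384) (Steps.bwd (nat_lit 14) (Steps.fwd (nat_lit 16384) (Steps.fwd (nat_lit 16384) (Steps.fwd (nat_lit 16384) (Steps.bwd (nat_lit 9) (Steps.bwd (nat_lit 12) (Steps.bwd (nat_lit 9) Steps.nil))))))))))) (nat_lit 74) (nat_lit 4),
  Rule.mk (nat_lit 7) (nat_lit 286) (Steps.bwd (nat_lit 10) (Steps.fwd (nat_lit 65536) (Steps.bwd (nat_lit 9) (Steps.bwd (nat_lit 4) (Steps.bwd (nat_lit 4) (Steps.fwd (nat_lit 8192) (Steps.bwd (nat_lit 11) (Steps.fwd (nat_lit 16384) (Steps.fwd (nat_lit 90112) (Steps.bwd (nat_lit 2) (Steps.fwd (nat_lit 90112) (Steps.bwd (nat_lit 1) (Steps.fwd (nat_lit 65536) (Steps.fwd (nat_lit 90112) (Steps.bwd (nat_lit 3) (Steps.fwd (nat_lit 16384) (Steps.bwd (nat_lit 4) Steps.nil))))))))))))))))) (nat_lit 57) (nat_lit 15),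
  Rule.mk (nat_lit 17) (nat_lit 126) (Steps.bwd (nat_lit 4) (Steps.fwd (nat_lit 98304) (Steps.fwd (nat_lit 32768) (Steps.fwd (nat_lit 106496) (Steps.bwd (nat_lit 14) (Steps.bwd (nat_lit 17) (Steps.bwd (nat_lit 11) Steps.nil))))))) (nat_lit 51) (nat_lit 5),
  Rule.mk (nat_lit 9) (nat_lit 270) (Steps.bwd (nat_lit 4) (Steps.bwd (nat_lit 12) (Steps.fwd (nat_lit 8192) (Steps.fwd (nat_lit 73728) (Steps.fwd (nat_lit 8192) (Steps.fwd (nat_lit 73728) (Steps.fwd (nat_lit 8192) (Steps.bwd (nat_lit 18) (Steps.fwd (nat_lit 139264) (Steps.fwd (nat_lit 90112) (Steps.fwd (nat_lit 32768) (Steps.bwd (nat_lit 1) (Steps.fwd (nat_lit 24576) (Steps.bwd (nat_lit 4) (Steps.bwd (nat_lit 2) (Steps.bwd (nat_lit 7) Steps.nil)))))))))))))))) (nat_lit 76) (nat_lit 2),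
  Rule.mk (nat_lit 13) (nat_lit 190) (Steps.fwd (nat_lit 73728) (Steps.bwd (nat_lit 12) (Steps.bwd (nat_lit 17) (Steps.bwd (nat_lit 1) (Steps.fwd (nat_lit 122880) (Steps.fwd (nat_lit 16384) (Steps.bwd (nat_lit 1) (Steps.bwd (nat_lit 1) (Steps.fwd (nat_lit 73728) (Steps.bwd (nat_lit 12) (Steps.bwd (nat_lit 9) Steps.nil))))))))))) (nat_lit 74) (nat_lit 4),
  Rule.mk (nat_lit 14) (nat_lit 110) (Steps.bwd (nat_lit 11) (Steps.fwd (nat_lit 73728) (Steps.fwd (nat_lit 32768) (Steps.fwd (nat_lit 73728) (Steps.bwd (nat_lit 16) (Steps.fwd (nat_lit 139264) Steps.nil)))))) (nat_lit 70) (nat_lit 6),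
  Rule.mk (nat_lit 12) (nat_lit 158) (Steps.bwd (nat_lit 11) (Steps.bwd (nat_lit 17) (Steps.fwd (nat_lit 8192) (Steps.bwd (nat_lit 9) (Steps.bwd (nat_lit 15) (Steps.fwd (nat_lit 73728) (Steps.fwd (nat_lit 32768) (Steps.fwd (nat_lit 32768) (Steps.fwd (nat_lit 16384) Steps.nil))))))))) (nat_lit 63) (nat_lit 4),
  Rule.mk (nat_lit 2) (nat_lit 286) (Steps.bwd (nat_lit 11) (Steps.fwd (nat_lit 16384) (Steps.bwd (nat_lit 11) (Steps.fwd (nat_lit 8192) (Steps.fwd (nat_lit 90112) (Steps.bwd (nat_lit 1) (Steps.bwd (nat_lit 3) (Steps.bwd (nat_lit 3) (Steps.bwd (nat_lit 9) (Steps.bwd (nat_lit 8) (Steps.bwd (nat_lit 11) (Steps.bwd (nat_lit 8) (Steps.fwd (nat_lit 32768) (Steps.fwd (nat_lit 8192) (Steps.fwd (nat_lit 24576) (Steps.bwd (nat_lit 11) (Steps.bwd (nat_lit 8) Steps.nil))))))))))))))))) (nat_lit 56) (nat_lit 10),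
  Rule.mk (nat_lit 8) (nat_lit 286) (Steps.bwd (nat_lit 11) (Steps.fwd (nat_lit 57344) (Steps.bwd (nat_lit 3) (Steps.fwd (nat_lit 8192) (Steps.bwd (nat_lit 4) (Steps.bwd (nat_lit 11) (Steps.fwd (nat_lit 57344) (Steps.bwd (nat_lit 2) (Steps.fwd (nat_lit 81920) (Steps.bwd (nat_lit 1) (Steps.fwd (nat_lit 81920) (Steps.fwd (nat_lit 8192) (Steps.bwd (nat_lit 10) (Steps.bwd (nat_lit 1) (Steps.bwd (nat_lit 3) (Steps.fwd (nat_lit 32768) (Steps.fwd (nat_lit 73728) Steps.nil))))))))))))))))) (nat_lit 56) (nat_lit 2),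
  Rule.mk (nat_lit 4) (nat_lit 126) (Steps.bwd (nat_lit 2) (Steps.fwd (nat_lit 24576) (Steps.fwd (nat_lit 8192) (Steps.bwd (nat_lit 4) (Steps.fwd (nat_lit 8192) (Steps.bwd (nat_lit 4) (Steps.bwd (nat_lit 2) Steps.nil))))))) (nat_lit 5) (nat_lit 1),
  Rule.mk (nat_lit 9) (nat_lit 158) (Steps.bwd (nat_lit 15) (Steps.fwd (nat_lit 73728) (Steps.fwd (nat_lit 32768) (Steps.bwd (nat_lit 3) (Steps.bwd (nat_lit 1) (Steps.fwd (nat_lit 106496) (Steps.bwd (nat_lit 11) (Steps.fwd (nat_lit 131072) (Steps.bwd (nat_lit 2) Steps.nil))))))))) (nat_lit 63) (nat_lit 8),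
  Rule.mk (nat_lit 8) (nat_lit 286) (Steps.bwd (nat_lit 11) (Steps.bwd (nat_lit 8) (Steps.fwd (nat_lit 32768) (Steps.bwd (nat_lit 2) (Steps.fwd (nat_lit 24576) (Steps.bwd (nat_lit 11) (Steps.fwd (nat_lit 57344) (Steps.fwd (nat_lit 8192) (Steps.bwd (nat_lit 11) (Steps.fwd (nat_lit 16384) (Steps.bwd (nat_lit 11) (Steps.bwd (nat_lit 2) (Steps.fwd (nat_lit 90112) (Steps.bwd (nat_lit 1) (Steps.fwd (nat_lit 32768) (Steps.bwd (nat_lit 3) (Steps.bwd (nat_lit 9) Steps.nil))))))))))))))))) (nat_lit 56) (nat_lit 2),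
  Rule.mk (nat_lit 7) (nat_lit 286) (Steps.bwd (nat_lit 9) (Steps.bwd (nat_lit 4) (Steps.fwd (nat_lit 24576) (Steps.fwd (nat_lit 8192) (Steps.bwd (nat_lit 11) (Steps.bwd (nat_lit 1) (Steps.fwd (nat_lit 90112) (Steps.bwd (nat_lit 2) (Steps.fwd (nat_lit 90112) (Steps.bwd (nat_lit 1) (Steps.fwd (nat_lit 65536) (Steps.fwd (nat_lit 90112) (Steps.bwd (nat_lit 3) (Steps.bwd (nat_lit 1) (Steps.fwd (nat_lit 24576) (Steps.fwd (nat_lit 65536) (Steps.bwd (nat_lit 10) Steps.nil))))))))))))))))) (nat_lit 57) (nat_lit 17),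
  Rule.mk (nat_lit 4) (nat_lit 126) (Steps.bwd (nat_lit 13) (Steps.fwd (nat_lit 32768) (Steps.bwd (nat_lit 12) (Steps.bwd (nat_lit 14) (Steps.bwd (nat_lit 17) (Steps.fwd (nat_lit 81920) (Steps.bwd (nat_lit 17) Steps.nil))))))) (nat_lit 51) (nat_lit 6),
  Rule.mk (nat_lit 10) (nat_lit 142) (Steps.bwd (nat_lit 13) (Steps.bwd (nat_lit 15) (Steps.fwd (nat_lit 139264) (Steps.bwd (nat_lit 10) (Steps.fwd (nat_lit 139264) (Steps.fwd (nat_lit 8192) (Steps.bwd (nat_lit 17) (Steps.fwd (nat_lit 16384) Steps.nil)))))))) (nat_lit 47) (nat_lit 1),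
  Rule.mk (nat_lit 9) (nat_lit 190) (Steps.bwd (nat_lit 13) (Steps.fwd (nat_lit 73728) (Steps.fwd (nat_lit 106496) (Steps.bwd (nat_lit 17) (Steps.bwd (nat_lit 1) (Steps.bwd (nat_lit 14) (Steps.fwd (nat_lit 16384) (Steps.bwd (nat_lit 1) (Steps.bwd (nat_lit 1) (Steps.fwd (nat_lit 73728) (Steps.bwd (nat_lit 12) Steps.nil))))))))))) (nat_lit 74) (nat_lit 3),
  Rule.mk (nat_lit 1) (nat_lit 206) (Steps.fwd (nat_lit 32768) (Steps.fwd (nat_lit 32768) (Steps.fwd (nat_lit 16384) (Steps.fwd (nat_lit 24576) (Steps.fwd (nat_lit 16384) (Steps.fwd (nat_lit 90112) (Steps.fwd (nat_lit 155648) (Steps.fwd (nat_lit 131072) (Steps.bwd (nat_lit 9) (Steps.bwd (nat_lit 2) (Steps.fwd (nat_lit 8192) (Steps.bwd (nat_lit 9) Steps.nil)))))))))))) (nat_lit 69) (nat_lit 1),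
  Rule.mk (nat_lit 8) (nat_lit 270) (Steps.bwd (nat_lit 1) (Steps.fwd (nat_lit 32768) (Steps.bwd (nat_lit 3) (Steps.bwd (nat_lit 2) (Steps.bwd (nat_lit 4) (Steps.bwd (nat_lit 11) (Steps.fwd (nat_lit 131072) (Steps.fwd (nat_lit 147456) (Steps.bwd (nat_lit 1) (Steps.fwd (nat_lit 73728) (Steps.fwd (nat_lit 16384) (Steps.fwd (nat_lit 73728) (Steps.fwd (nat_lit 16384) (Steps.fwd (nat_lit 98304) (Steps.bwd (nat_lit 3) (Steps.bwd (nat_lit 9) Steps.nil)))))))))))))))) (nat_lit 77) (nat_lit 0),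
  Rule.mk (nat_lit 3) (nat_lit 126) (Steps.bwd (nat_lit 16) (Steps.fwd (nat_lit 90112) (Steps.fwd (nat_lit 139264) (Steps.bwd (nat_lit 15) (Steps.fwd (nat_lit 98304) (Steps.fwd (nat_lit 24576) (Steps.fwd (nat_lit 106496) Steps.nil))))))) (nat_lit 50) (nat_lit 3),
  Rule.mk (nat_lit 2) (nat_lit 142) (Steps.bwd (nat_lit 16) (Steps.bwd (nat_lit 1) (Steps.fwd (nat_lit 131072) (Steps.bwd (nat_lit 11) (Steps.bwd (nat_lit 17) (Steps.fwd (nat_lit 122880) (Steps.bwd (nat_lit 12) (Steps.bwd (nat_lit 11) Steps.nil)))))))) (nat_lit 46) (nat_lit 1),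
  Rule.mk (nat_lit 10) (nat_lit 110) (Steps.bwd (nat_lit 15) (Steps.bwd (nat_lit 10) (Steps.fwd (nat_lit 131072) (Steps.bwd (nat_lit 9) (Steps.bwd (nat_lit 19) (Steps.fwd (nat_lit 73728) Steps.nil)))))) (nat_lit 67) (nat_lit 1),
  Rule.mk (nat_lit 16) (nat_lit 126) (Steps.bwd (nat_lit 15) (Steps.fwd (nat_lit 98304) (Steps.fwd (nat_lit 24576) (Steps.bwd (nat_lit 12) (Steps.fwd (nat_lit 32768) (Steps.bwd (nat_lit 16) (Steps.fwd (nat_lit 90112) Steps.nil))))))) (nat_lit 50) (nat_lit 6),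
  Rule.mk (nat_lit 9) (nat_lit 158) (Steps.bwd (nat_lit 15) (Steps.bwd (nat_lit 9) (Steps.bwd (nat_lit 3) (Steps.bwd (nat_lit 3) (Steps.fwd (nat_lit 16384) (Steps.bwd (nat_lit 12) (Steps.fwd (nat_lit 81920) (Steps.fwd (nat_lit 131072) (Steps.bwd (nat_lit 2) Steps.nil))))))))) (nat_lit 63) (nat_lit 8),
  Rule.mk (nat_lit 13) (nat_lit 190) (Steps.bwd (nat_lit 9) (Steps.fwd (nat_lit 106496) (Steps.fwd (nat_lit 131072) (Steps.fwd (nat_lit 16384) (Steps.bwd (nat_lit 14) (Steps.bwd (nat_lit 1) (Steps.bwd (nat_lit 1) (Steps.fwd (nat_lit 16384) (Steps.fwd (nat_lit 73728) (Steps.fwd (nat_lit 106496) (Steps.bwd (nat_lit 9) Steps.nil))))))))))) (nat_lit 74) (nat_lit 4),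
  Rule.mk (nat_lit 8) (nat_lit 286) (Steps.bwd (nat_lit 11) (Steps.bwd (nat_lit 8) (Steps.bwd (nat_lit 3) (Steps.fwd (nat_lit 8192) (Steps.fwd (nat_lit 24576) (Steps.bwd (nat_lit 11) (Steps.bwd (nat_lit 8) (Steps.fwd (nat_lit 8192) (Steps.bwd (nat_lit 11) (Steps.fwd (nat_lit 16384) (Steps.bwd (nat_lit 11) (Steps.bwd (nat_lit 2) (Steps.bwd (nat_lit 10) (Steps.bwd (nat_lit 1) (Steps.bwd (nat_lit 3) (Steps.bwd (nat_lit 3) (Steps.bwd (nat_lit 9) Steps.nil))))))))))))))))) (nat_lit 56) (nat_lit 2),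
  Rule.mk (nat_lit 18) (nat_lit 110) (Steps.bwd (nat_lit 9) (Steps.bwd (nat_lit 16) (Steps.bwd (nat_lit 11) (Steps.fwd (nat_lit 122880) (Steps.bwd (nat_lit 11) (Steps.fwd (nat_lit 73728) Steps.nil)))))) (nat_lit 66) (nat_lit 2),
  Rule.mk (nat_lit 3) (nat_lit 110) (Steps.bwd (nat_lit 9) (Steps.bwd (nat_lit 16) (Steps.bwd (nat_lit 16) (Steps.bwd (nat_lit 14) (Steps.bwd (nat_lit 11) (Steps.fwd (nat_lit 73728) Steps.nil)))))) (nat_lit 70) (nat_lit 2),
  Rule.mk (nat_lit 14) (nat_lit 158) (Steps.bwd (nat_lit 9) (Steps.bwd (nat_lit 1) (Steps.bwd (nat_lit 16) (Steps.fwd (nat_lit 90112) (Steps.fwd (nat_lit 98304) (Steps.bwd (nat_lit 2) (Steps.bwd (nat_lit 4) (Steps.bwd (nat_lit 4) (Steps.bwd (nat_lit 9) Steps.nil))))))))) (nat_lit 62) (nat_lit 2),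
  Rule.mk (nat_lit 15) (nat_lit 158) (Steps.bwd (nat_lit 9) (Steps.bwd (nat_lit 3) (Steps.fwd (nat_lit 32768) (Steps.fwd (nat_lit 16384) (Steps.bwd (nat_lit 12) (Steps.bwd (nat_lit 11) (Steps.fwd (nat_lit 131072) (Steps.bwd (nat_lit 2) (Steps.fwd (nat_lit 73728) Steps.nil))))))))) (nat_lit 63) (nat_lit 9),
  Rule.mk (nat_lit 2) (nat_lit 158) (Steps.bwd (nat_lit 9) (Steps.fwd (nat_lit 114688) (Steps.fwd (nat_lit 73728) (Steps.bwd (nat_lit 3) (Steps.bwd (nat_lit 3) (Steps.fwd (nat_lit 16384) (Steps.fwd (nat_lit 106496) (Steps.fwd (nat_lit 81920) (Steps.bwd (nat_lit 17) Steps.nil))))))))) (nat_lit 63) (nat_lit 7),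
  Rule.mk (nat_lit 13) (nat_lit 190) (Steps.bwd (nat_lit 9) (Steps.bwd (nat_lit 12) (Steps.bwd (nat_lit 9) (Steps.bwd (nat_lit 13) (Steps.fwd (nat_lit 73728) (Steps.bwd (nat_lit 2) (Steps.bwd (nat_lit 2) (Steps.bwd (nat_lit 2) (Steps.bwd (nat_lit 15) (Steps.bwd (nat_lit 2) (Steps.bwd (nat_lit 16) Steps.nil))))))))))) (nat_lit 75) (nat_lit 7),
  Rule.mk (nat_lit 1) (nat_lit 206) (Steps.bwd (nat_lit 9) (Steps.bwd (nat_lit 16) (Steps.bwd (nat_lit 19) (Steps.bwd (nat_lit 11) (Steps.fwd (nat_lit 8192) (Steps.fwd (nat_lit 32768) (Steps.fwd (nat_lit 8192) (Steps.bwd (nat_lit 4) (Steps.fwd (nat_lit 24576) (Steps.bwd (nat_lit 2) (Steps.bwd (nat_lit 9) (Steps.fwd (nat_lit 16384) Steps.nil)))))))))))) (nat_lit 68) (nat_lit 3),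
  Rule.mk (nat_lit 2) (nat_lit 94) (Steps.bwd (nat_lit 2) (Steps.fwd (nat_lit 32768) (Steps.fwd (nat_lit 16384) (Steps.fwd (nat_lit 16384) (Steps.fwd (nat_lit 24576) Steps.nil))))) (nat_lit 7) (nat_lit 2),
  Rule.mk (nat_lit 17) (nat_lit 158) (Steps.bwd (nat_lit 2) (Steps.bwd (nat_lit 9) (Steps.bwd (nat_lit 15) (Steps.bwd (nat_lit 9) (Steps.fwd (nat_lit 32768) (Steps.fwd (nat_lit 32768) (Steps.bwd (nat_lit 1) (Steps.fwd (nat_lit 106496) (Steps.bwd (nat_lit 11) Steps.nil))))))))) (nat_lit 63) (nat_lit 6),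
  Rule.mk (nat_lit 9) (nat_lit 190) (Steps.bwd (nat_lit 2) (Steps.bwd (nat_lit 2) (Steps.fwd (nat_lit 8192) (Steps.bwd (nat_lit 15) (Steps.bwd (nat_lit 2) (Steps.fwd (nat_lit 139264) (Steps.fwd (nat_lit 98304) (Steps.bwd (nat_lit 9) (Steps.bwd (nat_lit 12) (Steps.fwd (nat_lit 73728) (Steps.fwd (nat_lit 98304) Steps.nil))))))))))) (nat_lit 75) (nat_lit 0),
  Rule.mk (nat_lit 9) (nat_lit 190) (Steps.bwd (nat_lit 12) (Steps.fwd (nat_lit 73728) (Steps.bwd (nat_lit 13) (Steps.fwd (nat_lit 73728) (Steps.fwd (nat_lit 106496) (Steps.bwd (nat_lit 17) (Steps.fwd (nat_lit 16384) (Steps.bwd (nat_lit 14) (Steps.fwd (nat_lit 16384) (Steps.bwd (nat_lit 1) (Steps.bwd (nat_lit 1) Steps.nil))))))))))) (nat_lit 74) (nat_lit 1),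
  Rule.mk (nat_lit 14) (nat_lit 190) (Steps.bwd (nat_lit 1) (Steps.bwd (nat_lit 1) (Steps.fwd (nat_lit 16384) (Steps.bwd (nat_lit 9) (Steps.fwd (nat_lit 106496) (Steps.bwd (nat_lit 9) (Steps.bwd (nat_lit 13) (Steps.bwd (nat_lit 9) (Steps.fwd (nat_lit 106496) (Steps.bwd (nat_lit 17) (Steps.bwd (nat_lit 1) Steps.nil))))))))))) (nat_lit 74) (nat_lit 9),
  Rule.mk (nat_lit 16) (nat_lit 110) (Steps.bwd (nat_lit 14) (Steps.bwd (nat_lit 11) (Steps.bwd (nat_lit 9) (Steps.fwd (nat_lit 32768) (Steps.fwd (nat_lit 73728) (Steps.bwd (nat_lit 16) Steps.nil)))))) (nat_lit 70) (nat_lit 5),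
  Rule.mk (nat_lit 10) (nat_lit 110) (Steps.bwd (nat_lit 17) (Steps.bwd (nat_lit 9) (Steps.fwd (nat_lit 147456) (Steps.bwd (nat_lit 9) (Steps.fwd (nat_lit 90112) (Steps.fwd (nat_lit 114688) Steps.nil)))))) (nat_lit 67) (nat_lit 3),
  Rule.mk (nat_lit 17) (nat_lit 110) (Steps.bwd (nat_lit 17) (Steps.bwd (nat_lit 9) (Steps.fwd (nat_lit 24576) (Steps.fwd (nat_lit 73728) (Steps.bwd (nat_lit 10) (Steps.bwd (nat_lit 15) Steps.nil)))))) (nat_lit 71) (nat_lit 3),
  Rule.mk (nat_lit 14) (nat_lit 126) (Steps.bwd (nat_lit 17) (Steps.fwd (nat_lit 81920) (Steps.bwd (nat_lit 17) (Steps.fwd (nat_lit 24576) (Steps.fwd (nat_lit 98304) (Steps.fwd (nat_lit 32768) (Steps.fwd (nat_lit 106496) Steps.nil))))))) (nat_lit 51) (nat_lit 2),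
  Rule.mk (nat_lit 2) (nat_lit 142) (Steps.bwd (nat_lit 17) (Steps.fwd (nat_lit 16384) (Steps.fwd (nat_lit 90112) (Steps.bwd (nat_lit 13) (Steps.fwd (nat_lit 114688) (Steps.bwd (nat_lit 16) (Steps.fwd (nat_lit 90112) (Steps.bwd (nat_lit 16) Steps.nil)))))))) (nat_lit 47) (nat_lit 7)]
noncomputable def R_122 : List (Rule) := [Rule.mk (nat_lit 9) (nat_lit 110) (Steps.bwd (nat_lit 19) (Steps.bwd (nat_lit 9) (Steps.fwd (nat_lit 90112) (Steps.bwd (nat_lit 15) (Steps.fwd (nat_lit 90112) (Steps.fwd (nat_lit 131072) Steps.nil)))))) (nat_lit 67) (nat_lit 5),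
  Rule.mk (nat_lit 3) (nat_lit 126) (Steps.bwd (nat_lit 1) (Steps.fwd (nat_lit 32768) (Steps.bwd (nat_lit 1) (Steps.bwd (nat_lit 3) (Steps.bwd (nat_lit 1) (Steps.bwd (nat_lit 3) (Steps.bwd (nat_lit 1) Steps.nil))))))) (nat_lit 4) (nat_lit 0),
  Rule.mk (nat_lit 17) (nat_lit 142) (Steps.bwd (nat_lit 1) (Steps.bwd (nat_lit 10) (Steps.fwd (nat_lit 98304) (Steps.fwd (nat_lit 114688) (Steps.bwd (nat_lit 16) (Steps.fwd (nat_lit 90112) (Steps.fwd (nat_lit 139264) (Steps.fwd (nat_lit 8192) Steps.nil)))))))) (nat_lit 47) (nat_lit 8),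
  Rule.mk (nat_lit 9) (nat_lit 158) (Steps.bwd (nat_lit 1) (Steps.bwd (nat_lit 16) (Steps.fwd (nat_lit 90112) (Steps.bwd (nat_lit 13) (Steps.bwd (nat_lit 2) (Steps.fwd (nat_lit 24576) (Steps.fwd (nat_lit 24576) (Steps.fwd (nat_lit 73728) (Steps.fwd (nat_lit 122880) Steps.nil))))))))) (nat_lit 62) (nat_lit 3),
  Rule.mk (nat_lit 11) (nat_lit 286) (Steps.bwd (nat_lit 1) (Steps.bwd (nat_lit 11) (Steps.bwd (nat_lit 2) (Steps.fwd (nat_lit 90112) (Steps.bwd (nat_lit 1) (Steps.fwd (nat_lit 32768) (Steps.fwd (nat_lit 32768) (Steps.bwd (nat_lit 9) (Steps.fwd (nat_lit 57344) (Steps.bwd (nat_lit 11) (Steps.fwd (nat_lit 57344) (Steps.fwd (nat_lit 32768) (Steps.fwd (nat_lit 8192) (Steps.bwd (nat_lit 4) (Steps.bwd (nat_lit 11) (Steps.bwd (nat_lit 8) (Steps.bwd (nat_lit 2) Steps.nil))))))))))))))))) (nat_lit 56) (nat_lit 11),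
  Rule.mk (nat_lit 8) (nat_lit 286) (Steps.fwd (nat_lit 32768) (Steps.fwd (nat_lit 8192) (Steps.fwd (nat_lit 24576) (Steps.bwd (nat_lit 11) (Steps.fwd (nat_lit 57344) (Steps.fwd (nat_lit 8192) (Steps.bwd (nat_lit 11) (Steps.fwd (nat_lit 16384) (Steps.bwd (nat_lit 11) (Steps.bwd (nat_lit 2) (Steps.fwd (nat_lit 90112) (Steps.bwd (nat_lit 1) (Steps.fwd (nat_lit 32768) (Steps.bwd (nat_lit 3) (Steps.bwd (nat_lit 9) (Steps.fwd (nat_lit 57344) (Steps.bwd (nat_lit 11) Steps.nil))))))))))))))))) (nat_lit 56) (nat_lit 4),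
  Rule.mk (nat_lit 18) (nat_lit 126) (Steps.bwd (nat_lit 8) (Steps.bwd (nat_lit 19) (Steps.bwd (nat_lit 8) (Steps.bwd (nat_lit 1) (Steps.fwd (nat_lit 16384) (Steps.bwd (nat_lit 19) (Steps.bwd (nat_lit 8) Steps.nil))))))) (nat_lit 87) (nat_lit 5),
  Rule.mk (nat_lit 9) (nat_lit 286) (Steps.bwd (nat_lit 8) (Steps.fwd (nat_lit 81920) (Steps.bwd (nat_lit 8) (Steps.fwd (nat_lit 32768) (Steps.bwd (nat_lit 2) (Steps.fwd (nat_lit 24576) (Steps.bwd (nat_lit 11) (Steps.fwd (nat_lit 57344) (Steps.fwd (nat_lit 8192) (Steps.fwd (nat_lit 81920) (Steps.bwd (nat_lit 1) (Steps.fwd (nat_lit 81920) (Steps.bwd (nat_lit 2) (Steps.fwd (nat_lit 90112) (Steps.fwd (nat_lit 16384) (Steps.fwd (nat_lit 32768) (Steps.fwd (nat_lit 32768) Steps.nil))))))))))))))))) (nat_lit 56) (nat_lit 1),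
  Rule.mk (nat_lit 14) (nat_lit 158) (Steps.bwd (nat_lit 9) (Steps.fwd (nat_lit 16384) (Steps.fwd (nat_lit 139264) (Steps.bwd (nat_lit 10) (Steps.bwd (nat_lit 13) (Steps.bwd (nat_lit 2) (Steps.fwd (nat_lit 24576) (Steps.bwd (nat_lit 4) (Steps.bwd (nat_lit 9) Steps.nil))))))))) (nat_lit 62) (nat_lit 2),
  Rule.mk (nat_lit 15) (nat_lit 158) (Steps.bwd (nat_lit 9) (Steps.fwd (nat_lit 32768) (Steps.fwd (nat_lit 32768) (Steps.bwd (nat_lit 1) (Steps.bwd (nat_lit 12) (Steps.fwd (nat_lit 81920) (Steps.fwd (nat_lit 131072) (Steps.bwd (nat_lit 2) (Steps.bwd (nat_lit 9) Steps.nil))))))))) (nat_lit 63) (nat_lit 9),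
  Rule.mk (nat_lit 12) (nat_lit 190) (Steps.fwd (nat_lit 131072) (Steps.bwd (nat_lit 1) (Steps.bwd (nat_lit 14) (Steps.fwd (nat_lit 16384) (Steps.bwd (nat_lit 1) (Steps.fwd (nat_lit 16384) (Steps.bwd (nat_lit 9) (Steps.bwd (nat_lit 12) (Steps.fwd (nat_lit 73728) (Steps.fwd (nat_lit 98304) (Steps.bwd (nat_lit 9) Steps.nil))))))))))) (nat_lit 74) (nat_lit 6),
  Rule.mk (nat_lit 12) (nat_lit 190) (Steps.bwd (nat_lit 9) (Steps.bwd (nat_lit 13) (Steps.fwd (nat_lit 73728) (Steps.bwd (nat_lit 12) (Steps.fwd (nat_lit 131072) (Steps.bwd (nat_lit 1) (Steps.fwd (nat_lit 122880) (Steps.bwd (nat_lit 1) (Steps.bwd (nat_lit 1) (Steps.fwd (nat_lit 16384) (Steps.bwd (nat_lit 9) Steps.nil))))))))))) (nat_lit 74) (nat_lit 2),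
  Rule.mk (nat_lit 16) (nat_lit 142) (Steps.bwd (nat_lit 1) (Steps.fwd (nat_lit 131072) (Steps.fwd (nat_lit 81920) (Steps.fwd (nat_lit 131072) (Steps.fwd (nat_lit 122880) (Steps.bwd (nat_lit 12) (Steps.fwd (nat_lit 81920) (Steps.bwd (nat_lit 2) Steps.nil)))))))) (nat_lit 46) (nat_lit 2),
  Rule.mk (nat_lit 17) (nat_lit 142) (Steps.bwd (nat_lit 1) (Steps.bwd (nat_lit 10) (Steps.fwd (nat_lit 98304) (Steps.fwd (nat_lit 114688) (Steps.fwd (nat_lit 139264) (Steps.bwd (nat_lit 10) (Steps.fwd (nat_lit 139264) (Steps.fwd (nat_lit 8192) Steps.nil)))))))) (nat_lit 47) (nat_lit 8),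
  Rule.mk (nat_lit 9) (nat_lit 158) (Steps.bwd (nat_lit 1) (Steps.bwd (nat_lit 16) (Steps.fwd (nat_lit 90112) (Steps.fwd (nat_lit 98304) (Steps.fwd (nat_lit 8192) (Steps.bwd (nat_lit 4) (Steps.bwd (nat_lit 4) (Steps.fwd (nat_lit 73728) (Steps.bwd (nat_lit 14) Steps.nil))))))))) (nat_lit 62) (nat_lit 3),
  Rule.mk (nat_lit 3) (nat_lit 206) (Steps.bwd (nat_lit 1) (Steps.bwd (nat_lit 4) (Steps.fwd (nat_lit 16384) (Steps.fwd (nat_lit 90112) (Steps.fwd (nat_lit 155648) (Steps.fwd (nat_lit 131072) (Steps.bwd (nat_lit 9) (Steps.bwd (nat_lit 2) (Steps.bwd (nat_lit 2) (Steps.fwd (nat_lit 73728) (Steps.fwd (nat_lit 16384) (Steps.bwd (nat_lit 3) Steps.nil)))))))))))) (nat_lit 69) (nat_lit 3),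
  Rule.mk (nat_lit 10) (nat_lit 286) (Steps.bwd (nat_lit 1) (Steps.bwd (nat_lit 3) (Steps.bwd (nat_lit 3) (Steps.bwd (nat_lit 9) (Steps.fwd (nat_lit 57344) (Steps.bwd (nat_lit 11) (Steps.fwd (nat_lit 57344) (Steps.bwd (nat_lit 3) (Steps.fwd (nat_lit 8192) (Steps.bwd (nat_lit 4) (Steps.fwd (nat_lit 81920) (Steps.bwd (nat_lit 8) (Steps.fwd (nat_lit 8192) (Steps.bwd (nat_lit 11) (Steps.bwd (nat_lit 1) (Steps.fwd (nat_lit 81920) (Steps.fwd (nat_lit 8192) Steps.nil))))))))))))))))) (nat_lit 56) (nat_lit 15),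
  Rule.mk (nat_lit 11) (nat_lit 286) (Steps.bwd (nat_lit 1) (Steps.bwd (nat_lit 10) (Steps.fwd (nat_lit 8192) (Steps.fwd (nat_lit 90112) (Steps.fwd (nat_lit 16384) (Steps.bwd (nat_lit 7) (Steps.bwd (nat_lit 10) (Steps.fwd (nat_lit 32768) (Steps.fwd (nat_lit 16384) (Steps.bwd (nat_lit 4) (Steps.fwd (nat_lit 65536) (Steps.bwd (nat_lit 10) (Steps.fwd (nat_lit 65536) (Steps.fwd (nat_lit 73728) (Steps.bwd (nat_lit 4) (Steps.bwd (nat_lit 4) (Steps.bwd (nat_lit 2) Steps.nil))))))))))))))))) (nat_lit 57) (nat_lit 4),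
  Rule.mk (nat_lit 4) (nat_lit 126) (Steps.bwd (nat_lit 13) (Steps.fwd (nat_lit 32768) (Steps.bwd (nat_lit 12) (Steps.bwd (nat_lit 14) (Steps.bwd (nat_lit 17) (Steps.bwd (nat_lit 11) (Steps.bwd (nat_lit 17) Steps.nil))))))) (nat_lit 51) (nat_lit 6),
  Rule.mk (nat_lit 12) (nat_lit 190) (Steps.fwd (nat_lit 131072) (Steps.fwd (nat_lit 16384) (Steps.bwd (nat_lit 14) (Steps.bwd (nat_lit 1) (Steps.fwd (nat_lit 16384) (Steps.fwd (nat_lit 16384) (Steps.fwd (nat_lit 73728) (Steps.bwd (nat_lit 12) (Steps.fwd (nat_lit 73728) (Steps.bwd (nat_lit 13) (Steps.bwd (nat_lit 9) Steps.nil))))))))))) (nat_lit 74) (nat_lit 6),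
  Rule.mk (nat_lit 8) (nat_lit 270) (Steps.bwd (nat_lit 1) (Steps.fwd (nat_lit 32768) (Steps.fwd (nat_lit 32768) (Steps.bwd (nat_lit 2) (Steps.bwd (nat_lit 4) (Steps.fwd (nat_lit 81920) (Steps.fwd (nat_lit 131072) (Steps.bwd (nat_lit 19) (Steps.fwd (nat_lit 16384) (Steps.fwd (nat_lit 73728) (Steps.fwd (nat_lit 16384) (Steps.bwd (nat_lit 9) (Steps.fwd (nat_lit 16384) (Steps.bwd (nat_lit 13) (Steps.bwd (nat_lit 3) (Steps.bwd (nat_lit 9) Steps.nil)))))))))))))))) (nat_lit 77) (nat_lit 0),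
  Rule.mk (nat_lit 1) (nat_lit 110) (Steps.bwd (nat_lit 17) (Steps.bwd (nat_lit 11) (Steps.bwd (nat_lit 14) (Steps.fwd (nat_lit 122880) (Steps.fwd (nat_lit 8192) (Steps.fwd (nat_lit 122880) Steps.nil)))))) (nat_lit 44) (nat_lit 3),
  Rule.mk (nat_lit 2) (nat_lit 142) (Steps.bwd (nat_lit 17) (Steps.fwd (nat_lit 16384) (Steps.bwd (nat_lit 10) (Steps.bwd (nat_lit 13) (Steps.fwd (nat_lit 114688) (Steps.fwd (nat_lit 139264) (Steps.fwd (nat_lit 90112) (Steps.bwd (nat_lit 16) Steps.nil)))))))) (nat_lit 47) (nat_lit 7),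
  Rule.mk (nat_lit 17) (nat_lit 94) (Steps.bwd (nat_lit 11) (Steps.fwd (nat_lit 139264) (Steps.bwd (nat_lit 10) (Steps.fwd (nat_lit 155648) (Steps.fwd (nat_lit 155648) Steps.nil))))) (nat_lit 35) (nat_lit 3),
  Rule.mk (nat_lit 14) (nat_lit 110) (Steps.bwd (nat_lit 11) (Steps.fwd (nat_lit 73728) (Steps.bwd (nat_lit 18) (Steps.bwd (nat_lit 9) (Steps.bwd (nat_lit 16) (Steps.bwd (nat_lit 11) Steps.nil)))))) (nat_lit 66) (nat_lit 6),
  Rule.mk (nat_lit 4) (nat_lit 270) (Steps.bwd (nat_lit 11) (Steps.bwd (nat_lit 17) (Steps.bwd (nat_lit 19) (Steps.fwd (nat_lit 16384) (Steps.bwd (nat_lit 9) (Steps.bwd (nat_lit 1) (Steps.bwd (nat_lit 9) (Steps.fwd (nat_lit 16384) (Steps.fwd (nat_lit 98304) (Steps.bwd (nat_lit 3) (Steps.bwd (nat_lit 9) (Steps.fwd (nat_lit 57344) (Steps.fwd (nat_lit 16384) (Steps.fwd (nat_lit 32768) (Steps.bwd (nat_lit 3) (Steps.fwd (nat_lit 8192) Steps.nil)))))))))))))))) (nat_lit 77) (nat_lit 5),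
  Rule.mk (nat_lit 2) (nat_lit 286) (Steps.bwd (nat_lit 11) (Steps.fwd (nat_lit 16384) (Steps.fwd (nat_lit 81920) (Steps.fwd (nat_lit 8192) (Steps.bwd (nat_lit 10) (Steps.fwd (nat_lit 16384) (Steps.fwd (nat_lit 32768) (Steps.bwd (nat_lit 3) (Steps.bwd (nat_lit 9) (Steps.bwd (nat_lit 8) (Steps.bwd (nat_lit 11) (Steps.fwd (nat_lit 57344) (Steps.fwd (nat_lit 32768) (Steps.bwd (nat_lit 2) (Steps.bwd (nat_lit 4) (Steps.bwd (nat_lit 11) (Steps.fwd (nat_lit 57344) Steps.nil))))))))))))))))) (nat_lit 56) (nat_lit 10),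
  Rule.mk (nat_lit 8) (nat_lit 286) (Steps.bwd (nat_lit 11) (Steps.bwd (nat_lit 8) (Steps.fwd (nat_lit 32768) (Steps.bwd (nat_lit 2) (Steps.bwd (nat_lit 4) (Steps.fwd (nat_lit 81920) (Steps.fwd (nat_lit 57344) (Steps.bwd (nat_lit 2) (Steps.fwd (nat_lit 81920) (Steps.fwd (nat_lit 16384) (Steps.bwd (nat_lit 11) (Steps.bwd (nat_lit 2) (Steps.bwd (nat_lit 10) (Steps.fwd (nat_lit 16384) (Steps.bwd (nat_lit 3) (Steps.fwd (nat_lit 32768) (Steps.bwd (nat_lit 9) Steps.nil))))))))))))))))) (nat_lit 56) (nat_lit 2),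
  Rule.mk (nat_lit 2) (nat_lit 286) (Steps.bwd (nat_lit 10) (Steps.bwd (nat_lit 1) (Steps.bwd (nat_lit 3) (Steps.fwd (nat_lit 32768) (Steps.bwd (nat_lit 9) (Steps.fwd (nat_lit 57344) (Steps.bwd (nat_lit 11) (Steps.bwd (nat_lit 8) (Steps.bwd (nat_lit 3) (Steps.bwd (nat_lit 2) (Steps.bwd (nat_lit 4) (Steps.fwd (nat_lit 81920) (Steps.fwd (nat_lit 57344) (Steps.fwd (nat_lit 8192) (Steps.bwd (nat_lit 11) (Steps.bwd (nat_lit 1) (Steps.bwd (nat_lit 11) Steps.nil))))))))))))))))) (nat_lit 56) (nat_lit 14),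
  Rule.mk (nat_lit 7) (nat_lit 286) (Steps.bwd (nat_lit 10) (Steps.bwd (nat_lit 3) (Steps.bwd (nat_lit 1) (Steps.fwd (nat_lit 24576) (Steps.fwd (nat_lit 65536) (Steps.bwd (nat_lit 10) (Steps.fwd (nat_lit 65536) (Steps.fwd (nat_lit 73728) (Steps.fwd (nat_lit 24576) (Steps.bwd (nat_lit 4) (Steps.fwd (nat_lit 8192) (Steps.bwd (nat_lit 11) (Steps.fwd (nat_lit 16384) (Steps.bwd (nat_lit 10) (Steps.bwd (nat_lit 2) (Steps.fwd (nat_lit 90112) (Steps.fwd (nat_lit 16384) Steps.nil))))))))))))))))) (nat_lit 57) (nat_lit 10),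
  Rule.mk (nat_lit 2) (nat_lit 142) (Steps.bwd (nat_lit 16) (Steps.fwd (nat_lit 16384) (Steps.bwd (nat_lit 17) (Steps.fwd (nat_lit 81920) (Steps.bwd (nat_lit 17) (Steps.fwd (nat_lit 122880) (Steps.bwd (nat_lit 12) (Steps.bwd (nat_lit 11) Steps.nil)))))))) (nat_lit 46) (nat_lit 1),
  Rule.mk (nat_lit 1) (nat_lit 158) (Steps.bwd (nat_lit 16) (Steps.bwd (nat_lit 10) (Steps.bwd (nat_lit 13) (Steps.bwd (nat_lit 2) (Steps.bwd (nat_lit 4) (Steps.fwd (nat_lit 24576) (Steps.bwd (nat_lit 9) (Steps.fwd (nat_lit 122880) (Steps.bwd (nat_lit 9) Steps.nil))))))))) (nat_lit 62) (nat_lit 4),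
  Rule.mk (nat_lit 7) (nat_lit 126) (Steps.bwd (nat_lit 18) (Steps.fwd (nat_lit 8192) (Steps.bwd (nat_lit 2) (Steps.bwd (nat_lit 7) (Steps.fwd (nat_lit 155648) (Steps.bwd (nat_lit 7) (Steps.bwd (nat_lit 19) Steps.nil))))))) (nat_lit 86) (nat_lit 5),
  Rule.mk (nat_lit 8) (nat_lit 126) (Steps.bwd (nat_lit 18) (Steps.bwd (nat_lit 8) (Steps.bwd (nat_lit 19) (Steps.fwd (nat_lit 57344) (Steps.fwd (nat_lit 16384) (Steps.bwd (nat_lit 1) (Steps.fwd (nat_lit 147456) Steps.nil))))))) (nat_lit 87) (nat_lit 4),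
  Rule.mk (nat_lit 2) (nat_lit 94) (Steps.bwd (nat_lit 7) (Steps.fwd (nat_lit 65536) (Steps.bwd (nat_lit 2) (Steps.bwd (nat_lit 2) (Steps.bwd (nat_lit 2) Steps.nil))))) (nat_lit 78) (nat_lit 0),
  Rule.mk (nat_lit 19) (nat_lit 126) (Steps.bwd (nat_lit 7) (Steps.bwd (nat_lit 18) (Steps.fwd (nat_lit 8192) (Steps.bwd (nat_lit 2) (Steps.fwd (nat_lit 65536) (Steps.fwd (nat_lit 155648) (Steps.bwd (nat_lit 7) Steps.nil))))))) (nat_lit 86) (nat_lit 4),
  Rule.mk (nat_lit 8) (nat_lit 126) (Steps.fwd (nat_lit 147456) (Steps.bwd (nat_lit 8) (Steps.fwd (nat_lit 16384) (Steps.bwd (nat_lit 1) (Steps.bwd (nat_lit 19) (Steps.fwd (nat_lit 57344) (Steps.bwd (nat_lit 18) Steps.nil))))))) (nat_lit 87) (nat_lit 6),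
  Rule.mk (nat_lit 3) (nat_lit 94) (Steps.bwd (nat_lit 1) (Steps.bwd (nat_lit 1) (Steps.bwd (nat_lit 4) (Steps.fwd (nat_lit 8192) (Steps.fwd (nat_lit 8192) Steps.nil))))) (nat_lit 7) (nat_lit 4),
  Rule.mk (nat_lit 17) (nat_lit 142) (Steps.bwd (nat_lit 1) (Steps.fwd (nat_lit 90112) (Steps.bwd (nat_lit 13) (Steps.bwd (nat_lit 15) (Steps.bwd (nat_lit 16) (Steps.bwd (nat_lit 10) (Steps.bwd (nat_lit 16) (Steps.fwd (nat_lit 8192) Steps.nil)))))))) (nat_lit 47) (nat_lit 8),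
  Rule.mk (nat_lit 9) (nat_lit 158) (Steps.bwd (nat_lit 1) (Steps.bwd (nat_lit 16) (Steps.fwd (nat_lit 90112) (Steps.bwd (nat_lit 13) (Steps.bwd (nat_lit 2) (Steps.fwd (nat_lit 24576) (Steps.bwd (nat_lit 4) (Steps.bwd (nat_lit 9) (Steps.fwd (nat_lit 122880) Steps.nil))))))))) (nat_lit 62) (nat_lit 3),
  Rule.mk (nat_lit 10) (nat_lit 286) (Steps.bwd (nat_lit 1) (Steps.fwd (nat_lit 32768) (Steps.fwd (nat_lit 32768) (Steps.bwd (nat_lit 9) (Steps.bwd (nat_lit 8) (Steps.fwd (nat_lit 81920) (Steps.fwd (nat_lit 57344) (Steps.fwd (nat_lit 32768) (Steps.fwd (nat_lit 8192) (Steps.bwd (nat_lit 4) (Steps.fwd (nat_lit 81920) (Steps.fwd (nat_lit 57344) (Steps.fwd (nat_lit 8192) (Steps.bwd (nat_lit 11) (Steps.fwd (nat_lit 16384) (Steps.bwd (nat_lit 11) (Steps.bwd (nat_lit 2) Steps.nil))))))))))))))))) (nat_lit 56) (nat_lit 15),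
  Rule.mk (nat_lit 11) (nat_lit 286) (Steps.bwd (nat_lit 1) (Steps.fwd (nat_lit 81920) (Steps.bwd (nat_lit 2) (Steps.fwd (nat_lit 90112) (Steps.bwd (nat_lit 1) (Steps.bwd (nat_lit 3) (Steps.fwd (nat_lit 32768) (Steps.bwd (nat_lit 9) (Steps.bwd (nat_lit 8) (Steps.fwd (nat_lit 81920) (Steps.bwd (nat_lit 8) (Steps.fwd (nat_lit 32768) (Steps.fwd (nat_lit 8192) (Steps.bwd (nat_lit 4) (Steps.bwd (nat_lit 11) (Steps.fwd (nat_lit 57344) (Steps.bwd (nat_lit 2) Steps.nil))))))))))))))))) (nat_lit 56) (nat_lit 11),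
  Rule.mk (nat_lit 16) (nat_lit 158) (Steps.bwd (nat_lit 10) (Steps.bwd (nat_lit 13) (Steps.bwd (nat_lit 2) (Steps.bwd (nat_lit 4) (Steps.bwd (nat_lit 4) (Steps.bwd (nat_lit 9) (Steps.bwd (nat_lit 14) (Steps.fwd (nat_lit 73728) (Steps.fwd (nat_lit 16384) Steps.nil))))))))) (nat_lit 62) (nat_lit 5),
  Rule.mk (nat_lit 15) (nat_lit 190) (Steps.bwd (nat_lit 2) (Steps.bwd (nat_lit 16) (Steps.bwd (nat_lit 13) (Steps.bwd (nat_lit 9) (Steps.fwd (nat_lit 106496) (Steps.fwd (nat_lit 73728) (Steps.fwd (nat_lit 98304) (Steps.fwd (nat_lit 73728) (Steps.bwd (nat_lit 2) (Steps.bwd (nat_lit 2) (Steps.bwd (nat_lit 2) Steps.nil))))))))))) (nat_lit 75) (nat_lit 4),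
  Rule.mk (nat_lit 9) (nat_lit 190) (Steps.bwd (nat_lit 2) (Steps.bwd (nat_lit 2) (Steps.fwd (nat_lit 8192) (Steps.fwd (nat_lit 114688) (Steps.bwd (nat_lit 2) (Steps.bwd (nat_lit 16) (Steps.bwd (nat_lit 13) (Steps.fwd (nat_lit 73728) (Steps.bwd (nat_lit 12) (Steps.bwd (nat_lit 9) (Steps.bwd (nat_lit 13) Steps.nil))))))))))) (nat_lit 75) (nat_lit 0),
  Rule.mk (nat_lit 15) (nat_lit 190) (Steps.bwd (nat_lit 2) (Steps.fwd (nat_lit 139264) (Steps.fwd (nat_lit 98304) (Steps.bwd (nat_lit 9) (Steps.fwd (nat_lit 106496) (Steps.fwd (nat_lit 73728) (Steps.bwd (nat_lit 13) (Steps.fwd (nat_lit 73728) (Steps.fwd (nat_lit 8192) (Steps.bwd (nat_lit 2) (Steps.bwd (nat_lit 2) Steps.nil))))))))))) (nat_lit 75) (nat_lit 4),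
  Rule.mk (nat_lit 9) (nat_lit 190) (Steps.bwd (nat_lit 2) (Steps.fwd (nat_lit 8192) (Steps.bwd (nat_lit 2) (Steps.fwd (nat_lit 114688) (Steps.fwd (nat_lit 8192) (Steps.fwd (nat_lit 139264) (Steps.bwd (nat_lit 13) (Steps.fwd (nat_lit 73728) (Steps.fwd (nat_lit 106496) (Steps.bwd (nat_lit 9) (Steps.fwd (nat_lit 98304) Steps.nil))))))))))) (nat_lit 75) (nat_lit 0),
  Rule.mk (nat_lit 16) (nat_lit 110) (Steps.fwd (nat_lit 73728) (Steps.bwd (nat_lit 17) (Steps.fwd (nat_lit 122880) (Steps.bwd (nat_lit 4) (Steps.bwd (nat_lit 4) (Steps.bwd (nat_lit 9) Steps.nil)))))) (nat_lit 64) (nat_lit 2),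
  Rule.mk (nat_lit 3) (nat_lit 126) (Steps.bwd (nat_lit 12) (Steps.fwd (nat_lit 122880) (Steps.fwd (nat_lit 131072) (Steps.fwd (nat_lit 81920) (Steps.fwd (nat_lit 131072) (Steps.bwd (nat_lit 4) (Steps.fwd (nat_lit 98304) Steps.nil))))))) (nat_lit 51) (nat_lit 0),
  Rule.mk (nat_lit 2) (nat_lit 110) (Steps.bwd (nat_lit 15) (Steps.fwd (nat_lit 16384) (Steps.fwd (nat_lit 114688) (Steps.fwd (nat_lit 114688) (Steps.bwd (nat_lit 10) (Steps.bwd (nat_lit 16) Steps.nil)))))) (nat_lit 45) (nat_lit 5),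
  Rule.mk (nat_lit 15) (nat_lit 110) (Steps.bwd (nat_lit 15) (Steps.fwd (nat_lit 90112) (Steps.bwd (nat_lit 16) (Steps.bwd (nat_lit 2) (Steps.bwd (nat_lit 15) (Steps.fwd (nat_lit 16384) Steps.nil)))))) (nat_lit 45) (nat_lit 1),
  Rule.mk (nat_lit 16) (nat_lit 126) (Steps.bwd (nat_lit 15) (Steps.fwd (nat_lit 98304) (Steps.fwd (nat_lit 24576) (Steps.bwd (nat_lit 12) (Steps.bwd (nat_lit 3) (Steps.bwd (nat_lit 16) (Steps.bwd (nat_lit 10) Steps.nil))))))) (nat_lit 50) (nat_lit 6),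
  Rule.mk (nat_lit 9) (nat_lit 158) (Steps.bwd (nat_lit 15) (Steps.bwd (nat_lit 9) (Steps.fwd (nat_lit 32768) (Steps.fwd (nat_lit 32768) (Steps.fwd (nat_lit 16384) (Steps.fwd (nat_lit 106496) (Steps.fwd (nat_lit 81920) (Steps.bwd (nat_lit 17) (Steps.bwd (nat_lit 2) Steps.nil))))))))) (nat_lit 63) (nat_lit 8),
  Rule.mk (nat_lit 13) (nat_lit 190) (Steps.fwd (nat_lit 73728) (Steps.fwd (nat_lit 106496) (Steps.bwd (nat_lit 17) (Steps.fwd (nat_lit 16384) (Steps.fwd (nat_lit 122880) (Steps.fwd (nat_lit 16384) (Steps.bwd (nat_lit 1) (Steps.fwd (nat_lit 16384) (Steps.fwd (nat_lit 73728) (Steps.bwd (nat_lit 12) (Steps.bwd (nat_lit 9) Steps.nil))))))))))) (nat_lit 74) (nat_lit 4),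
  Rule.mk (nat_lit 9) (nat_lit 190) (Steps.bwd (nat_lit 12) (Steps.fwd (nat_lit 73728) (Steps.fwd (nat_lit 98304) (Steps.bwd (nat_lit 9) (Steps.fwd (nat_lit 106496) (Steps.fwd (nat_lit 131072) (Steps.bwd (nat_lit 1) (Steps.fwd (nat_lit 122880) (Steps.bwd (nat_lit 1) (Steps.bwd (nat_lit 1) (Steps.fwd (nat_lit 16384) Steps.nil))))))))))) (nat_lit 74) (nat_lit 1),
  Rule.mk (nat_lit 13) (nat_lit 190) (Steps.fwd (nat_lit 73728) (Steps.bwd (nat_lit 12) (Steps.fwd (nat_lit 131072) (Steps.fwd (nat_lit 16384) (Steps.fwd (nat_lit 122880) (Steps.bwd (nat_lit 1) (Steps.fwd (nat_lit 16384) (Steps.bwd (nat_lit 1) (Steps.fwd (nat_lit 73728) (Steps.fwd (nat_lit 106496) (Steps.bwd (nat_lit 9) Steps.nil))))))))))) (nat_lit 74) (nat_lit 4),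
  Rule.mk (nat_lit 8) (nat_lit 270) (Steps.fwd (nat_lit 16384) (Steps.fwd (nat_lit 32768) (Steps.bwd (nat_lit 3) (Steps.bwd (nat_lit 2) (Steps.bwd (nat_lit 4) (Steps.fwd (nat_lit 81920) (Steps.bwd (nat_lit 17) (Steps.bwd (nat_lit 19) (Steps.bwd (nat_lit 1) (Steps.bwd (nat_lit 9) (Steps.bwd (nat_lit 1) (Steps.bwd (nat_lit 9) (Steps.fwd (nat_lit 16384) (Steps.fwd (nat_lit 98304) (Steps.bwd (nat_lit 3) (Steps.bwd (nat_lit 9) Steps.nil)))))))))))))))) (nat_lit 77) (nat_lit 0),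
  Rule.mk (nat_lit 2) (nat_lit 142) (Steps.bwd (nat_lit 17) (Steps.fwd (nat_lit 16384) (Steps.bwd (nat_lit 10) (Steps.bwd (nat_lit 13) (Steps.bwd (nat_lit 15) (Steps.bwd (nat_lit 16) (Steps.bwd (nat_lit 10) (Steps.fwd (nat_lit 139264) Steps.nil)))))))) (nat_lit 47) (nat_lit 7),
  Rule.mk (nat_lit 4) (nat_lit 126) (Steps.fwd (nat_lit 8192) (Steps.fwd (nat_lit 24576) (Steps.bwd (nat_lit 2) (Steps.bwd (nat_lit 4) (Steps.bwd (nat_lit 2) (Steps.bwd (nat_lit 4) (Steps.bwd (nat_lit 2) Steps.nil))))))) (nat_lit 5) (nat_lit 1),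
  Rule.mk (nat_lit 14) (nat_lit 110) (Steps.bwd (nat_lit 14) (Steps.fwd (nat_lit 8192) (Steps.fwd (nat_lit 122880) (Steps.bwd (nat_lit 1) (Steps.fwd (nat_lit 131072) (Steps.fwd (nat_lit 81920) Steps.nil)))))) (nat_lit 44) (nat_lit 6),
  Rule.mk (nat_lit 11) (nat_lit 110) (Steps.bwd (nat_lit 14) (Steps.bwd (nat_lit 14) (Steps.fwd (nat_lit 8192) (Steps.bwd (nat_lit 14) (Steps.bwd (nat_lit 1) (Steps.fwd (nat_lit 131072) Steps.nil)))))) (nat_lit 44) (nat_lit 5),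
  Rule.mk (nat_lit 12) (nat_lit 126) (Steps.bwd (nat_lit 14) (Steps.bwd (nat_lit 17) (Steps.bwd (nat_lit 11) (Steps.fwd (nat_lit 131072) (Steps.bwd (nat_lit 4) (Steps.bwd (nat_lit 13) (Steps.fwd (nat_lit 32768) Steps.nil))))))) (nat_lit 51) (nat_lit 1),
  Rule.mk (nat_lit 4) (nat_lit 126) (Steps.bwd (nat_lit 14) (Steps.fwd (nat_lit 32768) (Steps.bwd (nat_lit 14) (Steps.fwd (nat_lit 122880) (Steps.bwd (nat_lit 17) (Steps.fwd (nat_lit 81920) (Steps.bwd (nat_lit 11) Steps.nil))))))) (nat_lit 52) (nat_lit 1),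
  Rule.mk (nat_lit 9) (nat_lit 158) (Steps.bwd (nat_lit 14) (Steps.fwd (nat_lit 73728) (Steps.bwd (nat_lit 1) (Steps.bwd (nat_lit 16) (Steps.fwd (nat_lit 90112) (Steps.bwd (nat_lit 13) (Steps.bwd (nat_lit 2) (Steps.bwd (nat_lit 4) (Steps.bwd (nat_lit 4) Steps.nil))))))))) (nat_lit 62) (nat_lit 1)]
noncomputable def R_123 : List (Rule) := [Rule.mk (nat_lit 1) (nat_lit 190) (Steps.bwd (nat_lit 14) (Steps.fwd (nat_lit 16384) (Steps.bwd (nat_lit 1) (Steps.bwd (nat_lit 1) (Steps.bwd (nat_lit 9) (Steps.bwd (nat_lit 12) (Steps.fwd (nat_lit 73728) (Steps.fwd (nat_lit 98304) (Steps.fwd (nat_lit 73728) (Steps.fwd (nat_lit 106496) (Steps.fwd (nat_lit 131072) Steps.nil))))))))))) (nat_lit 74) (nat_lit 8),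
  Rule.mk (nat_lit 15) (nat_lit 190) (Steps.bwd (nat_lit 2) (Steps.fwd (nat_lit 139264) (Steps.fwd (nat_lit 98304) (Steps.bwd (nat_lit 9) (Steps.fwd (nat_lit 106496) (Steps.fwd (nat_lit 73728) (Steps.bwd (nat_lit 13) (Steps.bwd (nat_lit 9) (Steps.bwd (nat_lit 2) (Steps.fwd (nat_lit 8192) (Steps.bwd (nat_lit 2) Steps.nil))))))))))) (nat_lit 75) (nat_lit 4),
  Rule.mk (nat_lit 9) (nat_lit 190) (Steps.bwd (nat_lit 2) (Steps.fwd (nat_lit 8192) (Steps.bwd (nat_lit 2) (Steps.bwd (nat_lit 15) (Steps.bwd (nat_lit 2) (Steps.bwd (nat_lit 16) (Steps.fwd (nat_lit 98304) (Steps.bwd (nat_lit 9) (Steps.fwd (nat_lit 106496) (Steps.bwd (nat_lit 9) (Steps.bwd (nat_lit 13) Steps.nil))))))))))) (nat_lit 75) (nat_lit 0),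
  Rule.mk (nat_lit 7) (nat_lit 126) (Steps.bwd (nat_lit 19) (Steps.fwd (nat_lit 65536) (Steps.fwd (nat_lit 155648) (Steps.fwd (nat_lit 8192) (Steps.fwd (nat_lit 8192) (Steps.fwd (nat_lit 65536) (Steps.bwd (nat_lit 18) Steps.nil))))))) (nat_lit 86) (nat_lit 3),
  Rule.mk (nat_lit 17) (nat_lit 158) (Steps.bwd (nat_lit 2) (Steps.fwd (nat_lit 73728) (Steps.fwd (nat_lit 114688) (Steps.fwd (nat_lit 73728) (Steps.fwd (nat_lit 32768) (Steps.fwd (nat_lit 32768) (Steps.bwd (nat_lit 1) (Steps.bwd (nat_lit 12) (Steps.bwd (nat_lit 11) Steps.nil))))))))) (nat_lit 63) (nat_lit 6),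
  Rule.mk (nat_lit 15) (nat_lit 190) (Steps.bwd (nat_lit 2) (Steps.bwd (nat_lit 16) (Steps.bwd (nat_lit 13) (Steps.fwd (nat_lit 73728) (Steps.bwd (nat_lit 12) (Steps.fwd (nat_lit 73728) (Steps.bwd (nat_lit 13) (Steps.bwd (nat_lit 9) (Steps.bwd (nat_lit 2) (Steps.fwd (nat_lit 8192) (Steps.bwd (nat_lit 2) Steps.nil))))))))))) (nat_lit 75) (nat_lit 4),
  Rule.mk (nat_lit 9) (nat_lit 190) (Steps.bwd (nat_lit 2) (Steps.fwd (nat_lit 8192) (Steps.fwd (nat_lit 8192) (Steps.bwd (nat_lit 15) (Steps.bwd (nat_lit 2) (Steps.fwd (nat_lit 139264) (Steps.bwd (nat_lit 13) (Steps.fwd (nat_lit 73728) (Steps.bwd (nat_lit 12) (Steps.fwd (nat_lit 73728) (Steps.bwd (nat_lit 13) Steps.nil))))))))))) (nat_lit 75) (nat_lit 0),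
  Rule.mk (nat_lit 18) (nat_lit 110) (Steps.fwd (nat_lit 73728) (Steps.bwd (nat_lit 16) (Steps.bwd (nat_lit 11) (Steps.bwd (nat_lit 14) (Steps.bwd (nat_lit 11) (Steps.bwd (nat_lit 9) Steps.nil)))))) (nat_lit 66) (nat_lit 2),
  Rule.mk (nat_lit 15) (nat_lit 158) (Steps.fwd (nat_lit 73728) (Steps.bwd (nat_lit 3) (Steps.fwd (nat_lit 32768) (Steps.fwd (nat_lit 16384) (Steps.fwd (nat_lit 106496) (Steps.fwd (nat_lit 81920) (Steps.fwd (nat_lit 131072) (Steps.bwd (nat_lit 2) (Steps.bwd (nat_lit 9) Steps.nil))))))))) (nat_lit 63) (nat_lit 9),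
  Rule.mk (nat_lit 3) (nat_lit 126) (Steps.bwd (nat_lit 12) (Steps.fwd (nat_lit 122880) (Steps.bwd (nat_lit 17) (Steps.fwd (nat_lit 81920) (Steps.bwd (nat_lit 17) (Steps.fwd (nat_lit 24576) (Steps.bwd (nat_lit 13) Steps.nil))))))) (nat_lit 51) (nat_lit 0),
  Rule.mk (nat_lit 9) (nat_lit 190) (Steps.bwd (nat_lit 12) (Steps.fwd (nat_lit 73728) (Steps.bwd (nat_lit 13) (Steps.fwd (nat_lit 73728) (Steps.bwd (nat_lit 12) (Steps.bwd (nat_lit 17) (Steps.fwd (nat_lit 16384) (Steps.fwd (nat_lit 122880) (Steps.fwd (nat_lit 16384) (Steps.fwd (nat_lit 16384) (Steps.fwd (nat_lit 16384) Steps.nil))))))))))) (nat_lit 74) (nat_lit 1),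
  Rule.mk (nat_lit 8) (nat_lit 270) (Steps.bwd (nat_lit 1) (Steps.bwd (nat_lit 3) (Steps.fwd (nat_lit 32768) (Steps.fwd (nat_lit 8192) (Steps.bwd (nat_lit 4) (Steps.fwd (nat_lit 81920) (Steps.bwd (nat_lit 17) (Steps.bwd (nat_lit 19) (Steps.fwd (nat_lit 16384) (Steps.fwd (nat_lit 73728) (Steps.fwd (nat_lit 16384) (Steps.fwd (nat_lit 73728) (Steps.fwd (nat_lit 16384) (Steps.fwd (nat_lit 98304) (Steps.bwd (nat_lit 3) (Steps.bwd (nat_lit 9) Steps.nil)))))))))))))))) (nat_lit 77) (nat_lit 0),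
  Rule.mk (nat_lit 7) (nat_lit 126) (Steps.bwd (nat_lit 18) (Steps.fwd (nat_lit 8192) (Steps.fwd (nat_lit 8192) (Steps.bwd (nat_lit 7) (Steps.fwd (nat_lit 155648) (Steps.bwd (nat_lit 7) (Steps.fwd (nat_lit 147456) Steps.nil))))))) (nat_lit 86) (nat_lit 5),
  Rule.mk (nat_lit 10) (nat_lit 206) (Steps.bwd (nat_lit 18) (Steps.fwd (nat_lit 131072) (Steps.fwd (nat_lit 73728) (Steps.bwd (nat_lit 2) (Steps.fwd (nat_lit 8192) (Steps.fwd (nat_lit 73728) (Steps.bwd (nat_lit 1) (Steps.fwd (nat_lit 32768) (Steps.bwd (nat_lit 3) (Steps.bwd (nat_lit 1) (Steps.fwd (nat_lit 24576) (Steps.bwd (nat_lit 1) Steps.nil)))))))))))) (nat_lit 69) (nat_lit 7),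
  Rule.mk (nat_lit 4) (nat_lit 110) (Steps.bwd (nat_lit 4) (Steps.fwd (nat_lit 73728) (Steps.bwd (nat_lit 16) (Steps.bwd (nat_lit 9) (Steps.fwd (nat_lit 131072) (Steps.fwd (nat_lit 122880) Steps.nil)))))) (nat_lit 64) (nat_lit 6),
  Rule.mk (nat_lit 13) (nat_lit 126) (Steps.bwd (nat_lit 4) (Steps.fwd (nat_lit 106496) (Steps.bwd (nat_lit 3) (Steps.bwd (nat_lit 16) (Steps.fwd (nat_lit 90112) (Steps.fwd (nat_lit 139264) (Steps.fwd (nat_lit 114688) Steps.nil))))))) (nat_lit 50) (nat_lit 0),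
  Rule.mk (nat_lit 17) (nat_lit 126) (Steps.bwd (nat_lit 4) (Steps.bwd (nat_lit 13) (Steps.fwd (nat_lit 32768) (Steps.bwd (nat_lit 12) (Steps.bwd (nat_lit 14) (Steps.fwd (nat_lit 131072) (Steps.fwd (nat_lit 81920) Steps.nil))))))) (nat_lit 51) (nat_lit 5),
  Rule.mk (nat_lit 10) (nat_lit 110) (Steps.bwd (nat_lit 4) (Steps.fwd (nat_lit 114688) (Steps.bwd (nat_lit 4) (Steps.fwd (nat_lit 73728) (Steps.fwd (nat_lit 90112) (Steps.bwd (nat_lit 9) Steps.nil)))))) (nat_lit 60) (nat_lit 4),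
  Rule.mk (nat_lit 13) (nat_lit 126) (Steps.bwd (nat_lit 4) (Steps.fwd (nat_lit 106496) (Steps.fwd (nat_lit 32768) (Steps.bwd (nat_lit 16) (Steps.fwd (nat_lit 90112) (Steps.bwd (nat_lit 16) (Steps.bwd (nat_lit 15) Steps.nil))))))) (nat_lit 50) (nat_lit 0),
  Rule.mk (nat_lit 8) (nat_lit 286) (Steps.fwd (nat_lit 8192) (Steps.bwd (nat_lit 11) (Steps.bwd (nat_lit 1) (Steps.fwd (nat_lit 81920) (Steps.bwd (nat_lit 2) (Steps.bwd (nat_lit 10) (Steps.fwd (nat_lit 16384) (Steps.fwd (nat_lit 32768) (Steps.bwd (nat_lit 3) (Steps.fwd (nat_lit 73728) (Steps.fwd (nat_lit 57344) (Steps.fwd (nat_lit 81920) (Steps.bwd (nat_lit 8) (Steps.fwd (nat_lit 32768) (Steps.fwd (nat_lit 8192) (Steps.bwd (nat_lit 4) (Steps.bwd (nat_lit 11) Steps.nil))))))))))))))))) (nat_lit 56) (nat_lit 9),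
  Rule.mk (nat_lit 9) (nat_lit 110) (Steps.bwd (nat_lit 17) (Steps.bwd (nat_lit 14) (Steps.bwd (nat_lit 4) (Steps.bwd (nat_lit 4) (Steps.fwd (nat_lit 73728) (Steps.bwd (nat_lit 16) Steps.nil)))))) (nat_lit 64) (nat_lit 3),
  Rule.mk (nat_lit 17) (nat_lit 110) (Steps.bwd (nat_lit 17) (Steps.bwd (nat_lit 9) (Steps.bwd (nat_lit 4) (Steps.bwd (nat_lit 9) (Steps.fwd (nat_lit 90112) (Steps.fwd (nat_lit 114688) Steps.nil)))))) (nat_lit 71) (nat_lit 3),
  Rule.mk (nat_lit 2) (nat_lit 142) (Steps.bwd (nat_lit 17) (Steps.bwd (nat_lit 1) (Steps.bwd (nat_lit 10) (Steps.bwd (nat_lit 13) (Steps.fwd (nat_lit 114688) (Steps.fwd (nat_lit 139264) (Steps.bwd (nat_lit 10) (Steps.bwd (nat_lit 16) Steps.nil)))))))) (nat_lit 47) (nat_lit 7),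
  Rule.mk (nat_lit 9) (nat_lit 110) (Steps.bwd (nat_lit 3) (Steps.fwd (nat_lit 122880) (Steps.fwd (nat_lit 32768) (Steps.bwd (nat_lit 11) (Steps.bwd (nat_lit 9) (Steps.fwd (nat_lit 81920) Steps.nil)))))) (nat_lit 61) (nat_lit 0),
  Rule.mk (nat_lit 12) (nat_lit 126) (Steps.bwd (nat_lit 3) (Steps.bwd (nat_lit 16) (Steps.bwd (nat_lit 10) (Steps.fwd (nat_lit 139264) (Steps.fwd (nat_lit 114688) (Steps.bwd (nat_lit 13) (Steps.bwd (nat_lit 4) Steps.nil))))))) (nat_lit 50) (nat_lit 2),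
  Rule.mk (nat_lit 13) (nat_lit 270) (Steps.bwd (nat_lit 3) (Steps.bwd (nat_lit 9) (Steps.bwd (nat_lit 8) (Steps.bwd (nat_lit 1) (Steps.bwd (nat_lit 3) (Steps.bwd (nat_lit 3) (Steps.fwd (nat_lit 8192) (Steps.fwd (nat_lit 24576) (Steps.bwd (nat_lit 11) (Steps.bwd (nat_lit 17) (Steps.fwd (nat_lit 147456) (Steps.fwd (nat_lit 16384) (Steps.bwd (nat_lit 9) (Steps.fwd (nat_lit 16384) (Steps.bwd (nat_lit 9) (Steps.fwd (nat_lit 16384) Steps.nil)))))))))))))))) (nat_lit 77) (nat_lit 14),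
  Rule.mk (nat_lit 2) (nat_lit 94) (Steps.bwd (nat_lit 7) (Steps.fwd (nat_lit 65536) (Steps.fwd (nat_lit 8192) (Steps.fwd (nat_lit 8192) (Steps.fwd (nat_lit 8192) Steps.nil))))) (nat_lit 78) (nat_lit 0),
  Rule.mk (nat_lit 19) (nat_lit 126) (Steps.bwd (nat_lit 7) (Steps.fwd (nat_lit 155648) (Steps.bwd (nat_lit 2) (Steps.bwd (nat_lit 2) (Steps.fwd (nat_lit 65536) (Steps.fwd (nat_lit 155648) (Steps.bwd (nat_lit 7) Steps.nil))))))) (nat_lit 86) (nat_lit 4),
  Rule.mk (nat_lit 18) (nat_lit 126) (Steps.bwd (nat_lit 7) (Steps.fwd (nat_lit 147456) (Steps.bwd (nat_lit 7) (Steps.bwd (nat_lit 18) (Steps.fwd (nat_lit 8192) (Steps.fwd (nat_lit 8192) (Steps.bwd (nat_lit 7) Steps.nil))))))) (nat_lit 86) (nat_lit 2),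
  Rule.mk (nat_lit 9) (nat_lit 110) (Steps.bwd (nat_lit 16) (Steps.fwd (nat_lit 81920) (Steps.bwd (nat_lit 14) (Steps.fwd (nat_lit 81920) (Steps.bwd (nat_lit 9) (Steps.bwd (nat_lit 18) Steps.nil)))))) (nat_lit 66) (nat_lit 3),
  Rule.mk (nat_lit 17) (nat_lit 126) (Steps.bwd (nat_lit 4) (Steps.fwd (nat_lit 98304) (Steps.fwd (nat_lit 32768) (Steps.bwd (nat_lit 12) (Steps.fwd (nat_lit 122880) (Steps.fwd (nat_lit 131072) (Steps.bwd (nat_lit 11) Steps.nil))))))) (nat_lit 51) (nat_lit 5),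
  Rule.mk (nat_lit 11) (nat_lit 126) (Steps.bwd (nat_lit 4) (Steps.fwd (nat_lit 122880) (Steps.fwd (nat_lit 32768) (Steps.bwd (nat_lit 14) (Steps.fwd (nat_lit 122880) (Steps.fwd (nat_lit 131072) (Steps.fwd (nat_lit 81920) Steps.nil))))))) (nat_lit 52) (nat_lit 0),
  Rule.mk (nat_lit 4) (nat_lit 110) (Steps.bwd (nat_lit 9) (Steps.bwd (nat_lit 10) (Steps.bwd (nat_lit 9) (Steps.bwd (nat_lit 10) (Steps.fwd (nat_lit 24576) (Steps.bwd (nat_lit 15) Steps.nil)))))) (nat_lit 60) (nat_lit 0),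
  Rule.mk (nat_lit 14) (nat_lit 158) (Steps.bwd (nat_lit 9) (Steps.fwd (nat_lit 16384) (Steps.fwd (nat_lit 139264) (Steps.fwd (nat_lit 90112) (Steps.fwd (nat_lit 98304) (Steps.bwd (nat_lit 2) (Steps.bwd (nat_lit 4) (Steps.bwd (nat_lit 4) (Steps.bwd (nat_lit 9) Steps.nil))))))))) (nat_lit 62) (nat_lit 2),
  Rule.mk (nat_lit 15) (nat_lit 158) (Steps.bwd (nat_lit 9) (Steps.bwd (nat_lit 3) (Steps.fwd (nat_lit 32768) (Steps.fwd (nat_lit 16384) (Steps.fwd (nat_lit 106496) (Steps.bwd (nat_lit 11) (Steps.bwd (nat_lit 17) (Steps.bwd (nat_lit 2) (Steps.bwd (nat_lit 9) Steps.nil))))))))) (nat_lit 63) (nat_lit 9),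
  Rule.mk (nat_lit 2) (nat_lit 158) (Steps.bwd (nat_lit 9) (Steps.bwd (nat_lit 15) (Steps.bwd (nat_lit 9) (Steps.fwd (nat_lit 32768) (Steps.bwd (nat_lit 3) (Steps.fwd (nat_lit 16384) (Steps.fwd (nat_lit 106496) (Steps.fwd (nat_lit 81920) (Steps.fwd (nat_lit 131072) Steps.nil))))))))) (nat_lit 63) (nat_lit 7),
  Rule.mk (nat_lit 13) (nat_lit 190) (Steps.bwd (nat_lit 9) (Steps.fwd (nat_lit 106496) (Steps.bwd (nat_lit 17) (Steps.fwd (nat_lit 16384) (Steps.bwd (nat_lit 14) (Steps.fwd (nat_lit 16384) (Steps.bwd (nat_lit 1) (Steps.fwd (nat_lit 16384) (Steps.bwd (nat_lit 9) (Steps.fwd (nat_lit 106496) (Steps.fwd (nat_lit 73728) Steps.nil))))))))))) (nat_lit 74) (nat_lit 4),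
  Rule.mk (nat_lit 12) (nat_lit 190) (Steps.bwd (nat_lit 9) (Steps.bwd (nat_lit 13) (Steps.bwd (nat_lit 9) (Steps.fwd (nat_lit 106496) (Steps.bwd (nat_lit 17) (Steps.bwd (nat_lit 1) (Steps.bwd (nat_lit 14) (Steps.fwd (nat_lit 16384) (Steps.bwd (nat_lit 1) (Steps.bwd (nat_lit 1) (Steps.fwd (nat_lit 73728) Steps.nil))))))))))) (nat_lit 74) (nat_lit 2),
  Rule.mk (nat_lit 1) (nat_lit 190) (Steps.bwd (nat_lit 9) (Steps.fwd (nat_lit 106496) (Steps.fwd (nat_lit 73728) (Steps.fwd (nat_lit 98304) (Steps.bwd (nat_lit 9) (Steps.bwd (nat_lit 12) (Steps.bwd (nat_lit 17) (Steps.bwd (nat_lit 1) (Steps.fwd (nat_lit 122880) (Steps.fwd (nat_lit 16384) (Steps.fwd (nat_lit 16384) Steps.nil))))))))))) (nat_lit 74) (nat_lit 0),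
  Rule.mk (nat_lit 7) (nat_lit 270) (Steps.bwd (nat_lit 9) (Steps.fwd (nat_lit 24576) (Steps.bwd (nat_lit 12) (Steps.bwd (nat_lit 2) (Steps.bwd (nat_lit 9) (Steps.fwd (nat_lit 8192) (Steps.bwd (nat_lit 9) (Steps.fwd (nat_lit 8192) (Steps.fwd (nat_lit 155648) (Steps.fwd (nat_lit 139264) (Steps.fwd (nat_lit 90112) (Steps.bwd (nat_lit 3) (Steps.fwd (nat_lit 16384) (Steps.fwd (nat_lit 24576) (Steps.fwd (nat_lit 24576) (Steps.fwd (nat_lit 8192) Steps.nil)))))))))))))))) (nat_lit 76) (nat_lit 1),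
  Rule.mk (nat_lit 9) (nat_lit 110) (Steps.bwd (nat_lit 3) (Steps.bwd (nat_lit 14) (Steps.bwd (nat_lit 3) (Steps.bwd (nat_lit 11) (Steps.bwd (nat_lit 9) (Steps.fwd (nat_lit 81920) Steps.nil)))))) (nat_lit 61) (nat_lit 0),
  Rule.mk (nat_lit 13) (nat_lit 126) (Steps.bwd (nat_lit 3) (Steps.bwd (nat_lit 12) (Steps.fwd (nat_lit 122880) (Steps.bwd (nat_lit 17) (Steps.fwd (nat_lit 81920) (Steps.fwd (nat_lit 131072) (Steps.bwd (nat_lit 4) Steps.nil))))))) (nat_lit 51) (nat_lit 7),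
  Rule.mk (nat_lit 9) (nat_lit 110) (Steps.bwd (nat_lit 16) (Steps.bwd (nat_lit 16) (Steps.bwd (nat_lit 14) (Steps.bwd (nat_lit 11) (Steps.bwd (nat_lit 9) (Steps.bwd (nat_lit 3) Steps.nil)))))) (nat_lit 70) (nat_lit 3),
  Rule.mk (nat_lit 13) (nat_lit 126) (Steps.bwd (nat_lit 4) (Steps.fwd (nat_lit 106496) (Steps.bwd (nat_lit 3) (Steps.fwd (nat_lit 139264) (Steps.bwd (nat_lit 10) (Steps.fwd (nat_lit 139264) (Steps.fwd (nat_lit 114688) Steps.nil))))))) (nat_lit 50) (nat_lit 0),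
  Rule.mk (nat_lit 17) (nat_lit 126) (Steps.bwd (nat_lit 4) (Steps.fwd (nat_lit 98304) (Steps.fwd (nat_lit 32768) (Steps.fwd (nat_lit 106496) (Steps.bwd (nat_lit 14) (Steps.bwd (nat_lit 17) (Steps.fwd (nat_lit 81920) Steps.nil))))))) (nat_lit 51) (nat_lit 5),
  Rule.mk (nat_lit 9) (nat_lit 270) (Steps.bwd (nat_lit 4) (Steps.fwd (nat_lit 106496) (Steps.bwd (nat_lit 2) (Steps.bwd (nat_lit 9) (Steps.fwd (nat_lit 8192) (Steps.bwd (nat_lit 9) (Steps.bwd (nat_lit 2) (Steps.fwd (nat_lit 155648) (Steps.bwd (nat_lit 16) (Steps.bwd (nat_lit 10) (Steps.fwd (nat_lit 32768) (Steps.bwd (nat_lit 1) (Steps.bwd (nat_lit 4) (Steps.bwd (nat_lit 4) (Steps.bwd (nat_lit 2) (Steps.fwd (nat_lit 65536) Steps.nil)))))))))))))))) (nat_lit 76) (nat_lit 2),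
  Rule.mk (nat_lit 13) (nat_lit 190) (Steps.bwd (nat_lit 9) (Steps.bwd (nat_lit 12) (Steps.bwd (nat_lit 17) (Steps.bwd (nat_lit 1) (Steps.bwd (nat_lit 14) (Steps.fwd (nat_lit 16384) (Steps.fwd (nat_lit 16384) (Steps.bwd (nat_lit 1) (Steps.bwd (nat_lit 9) (Steps.bwd (nat_lit 12) (Steps.bwd (nat_lit 9) Steps.nil))))))))))) (nat_lit 74) (nat_lit 4),
  Rule.mk (nat_lit 8) (nat_lit 158) (Steps.bwd (nat_lit 19) (Steps.fwd (nat_lit 57344) (Steps.fwd (nat_lit 147456) (Steps.bwd (nat_lit 8) (Steps.bwd (nat_lit 19) (Steps.bwd (nat_lit 8) (Steps.bwd (nat_lit 19) (Steps.fwd (nat_lit 57344) (Steps.bwd (nat_lit 19) Steps.nil))))))))) (nat_lit 85) (nat_lit 0),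
  Rule.mk (nat_lit 16) (nat_lit 110) (Steps.bwd (nat_lit 2) (Steps.fwd (nat_lit 114688) (Steps.bwd (nat_lit 1) (Steps.bwd (nat_lit 15) (Steps.bwd (nat_lit 15) (Steps.bwd (nat_lit 10) Steps.nil)))))) (nat_lit 45) (nat_lit 4),
  Rule.mk (nat_lit 15) (nat_lit 190) (Steps.bwd (nat_lit 2) (Steps.fwd (nat_lit 139264) (Steps.bwd (nat_lit 13) (Steps.fwd (nat_lit 73728) (Steps.fwd (nat_lit 106496) (Steps.fwd (nat_lit 73728) (Steps.bwd (nat_lit 13) (Steps.bwd (nat_lit 9) (Steps.fwd (nat_lit 8192) (Steps.bwd (nat_lit 2) (Steps.fwd (nat_lit 8192) Steps.nil))))))))))) (nat_lit 75) (nat_lit 4),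
  Rule.mk (nat_lit 9) (nat_lit 190) (Steps.bwd (nat_lit 2) (Steps.fwd (nat_lit 8192) (Steps.bwd (nat_lit 2) (Steps.bwd (nat_lit 15) (Steps.fwd (nat_lit 8192) (Steps.fwd (nat_lit 139264) (Steps.bwd (nat_lit 13) (Steps.fwd (nat_lit 73728) (Steps.bwd (nat_lit 12) (Steps.bwd (nat_lit 9) (Steps.fwd (nat_lit 98304) Steps.nil))))))))))) (nat_lit 75) (nat_lit 0),
  Rule.mk (nat_lit 17) (nat_lit 158) (Steps.bwd (nat_lit 2) (Steps.fwd (nat_lit 73728) (Steps.fwd (nat_lit 114688) (Steps.bwd (nat_lit 9) (Steps.bwd (nat_lit 3) (Steps.fwd (nat_lit 32768) (Steps.fwd (nat_lit 16384) (Steps.bwd (nat_lit 12) (Steps.fwd (nat_lit 81920) Steps.nil))))))))) (nat_lit 63) (nat_lit 6),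
  Rule.mk (nat_lit 15) (nat_lit 190) (Steps.bwd (nat_lit 2) (Steps.fwd (nat_lit 139264) (Steps.bwd (nat_lit 13) (Steps.fwd (nat_lit 73728) (Steps.fwd (nat_lit 106496) (Steps.fwd (nat_lit 73728) (Steps.fwd (nat_lit 98304) (Steps.bwd (nat_lit 9) (Steps.bwd (nat_lit 2) (Steps.bwd (nat_lit 2) (Steps.fwd (nat_lit 8192) Steps.nil))))))))))) (nat_lit 75) (nat_lit 4),
  Rule.mk (nat_lit 9) (nat_lit 190) (Steps.bwd (nat_lit 2) (Steps.fwd (nat_lit 8192) (Steps.bwd (nat_lit 2) (Steps.bwd (nat_lit 15) (Steps.fwd (nat_lit 8192) (Steps.bwd (nat_lit 16) (Steps.fwd (nat_lit 98304) (Steps.bwd (nat_lit 9) (Steps.fwd (nat_lit 106496) (Steps.bwd (nat_lit 9) (Steps.bwd (nat_lit 13) Steps.nil))))))))))) (nat_lit 75) (nat_lit 0),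
  Rule.mk (nat_lit 9) (nat_lit 158) (Steps.bwd (nat_lit 1) (Steps.fwd (nat_lit 139264) (Steps.bwd (nat_lit 10) (Steps.bwd (nat_lit 13) (Steps.fwd (nat_lit 8192) (Steps.fwd (nat_lit 24576) (Steps.bwd (nat_lit 4) (Steps.fwd (nat_lit 73728) (Steps.bwd (nat_lit 14) Steps.nil))))))))) (nat_lit 62) (nat_lit 3),
  Rule.mk (nat_lit 14) (nat_lit 190) (Steps.bwd (nat_lit 1) (Steps.fwd (nat_lit 16384) (Steps.fwd (nat_lit 16384) (Steps.bwd (nat_lit 9) (Steps.bwd (nat_lit 12) (Steps.fwd (nat_lit 73728) (Steps.bwd (nat_lit 13) (Steps.bwd (nat_lit 9) (Steps.fwd (nat_lit 106496) (Steps.bwd (nat_lit 17) (Steps.bwd (nat_lit 1) Steps.nil))))))))))) (nat_lit 74) (nat_lit 9),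
  Rule.mk (nat_lit 10) (nat_lit 286) (Steps.bwd (nat_lit 1) (Steps.fwd (nat_lit 32768) (Steps.fwd (nat_lit 32768) (Steps.bwd (nat_lit 9) (Steps.bwd (nat_lit 8) (Steps.fwd (nat_lit 81920) (Steps.bwd (nat_lit 8) (Steps.bwd (nat_lit 3) (Steps.bwd (nat_lit 2) (Steps.bwd (nat_lit 4) (Steps.fwd (nat_lit 81920) (Steps.fwd (nat_lit 57344) (Steps.fwd (nat_lit 8192) (Steps.bwd (nat_lit 11) (Steps.bwd (nat_lit 1) (Steps.fwd (nat_lit 81920) (Steps.bwd (nat_lit 2) Steps.nil))))))))))))))))) (nat_lit 56) (nat_lit 15),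
  Rule.mk (nat_lit 1) (nat_lit 190) (Steps.bwd (nat_lit 14) (Steps.fwd (nat_lit 16384) (Steps.bwd (nat_lit 1) (Steps.bwd (nat_lit 1) (Steps.fwd (nat_lit 73728) (Steps.fwd (nat_lit 106496) (Steps.fwd (nat_lit 73728) (Steps.bwd (nat_lit 13) (Steps.fwd (nat_lit 73728) (Steps.bwd (nat_lit 12) (Steps.fwd (nat_lit 131072) Steps.nil))))))))))) (nat_lit 74) (nat_lit 8),
  Rule.mk (nat_lit 9) (nat_lit 190) (Steps.fwd (nat_lit 106496) (Steps.fwd (nat_lit 73728) (Steps.fwd (nat_lit 98304) (Steps.bwd (nat_lit 9) (Steps.bwd (nat_lit 12) (Steps.fwd (nat_lit 131072) (Steps.fwd (nat_lit 16384) (Steps.fwd (nat_lit 122880) (Steps.fwd (nat_lit 16384) (Steps.fwd (nat_lit 16384) (Steps.bwd (nat_lit 1) Steps.nil))))))))))) (nat_lit 74) (nat_lit 1),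
  Rule.mk (nat_lit 19) (nat_lit 126) (Steps.bwd (nat_lit 7) (Steps.bwd (nat_lit 18) (Steps.bwd (nat_lit 2) (Steps.bwd (nat_lit 2) (Steps.fwd (nat_lit 65536) (Steps.bwd (nat_lit 18) (Steps.bwd (nat_lit 7) Steps.nil))))))) (nat_lit 86) (nat_lit 4),
  Rule.mk (nat_lit 18) (nat_lit 126) (Steps.bwd (nat_lit 7) (Steps.bwd (nat_lit 19) (Steps.bwd (nat_lit 7) (Steps.fwd (nat_lit 155648) (Steps.bwd (nat_lit 2) (Steps.bwd (nat_lit 2) (Steps.bwd (nat_lit 7) Steps.nil))))))) (nat_lit 86) (nat_lit 2),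
  Rule.mk (nat_lit 10) (nat_lit 286) (Steps.bwd (nat_lit 7) (Steps.fwd (nat_lit 73728) (Steps.fwd (nat_lit 24576) (Steps.bwd (nat_lit 4) (Steps.fwd (nat_lit 8192) (Steps.fwd (nat_lit 81920) (Steps.bwd (nat_lit 1) (Steps.bwd (nat_lit 10) (Steps.bwd (nat_lit 2) (Steps.fwd (nat_lit 90112) (Steps.fwd (nat_lit 16384) (Steps.fwd (nat_lit 65536) (Steps.fwd (nat_lit 90112) (Steps.fwd (nat_lit 32768) (Steps.fwd (nat_lit 16384) (Steps.fwd (nat_lit 24576) (Steps.fwd (nat_lit 65536) Steps.nil))))))))))))))))) (nat_lit 57) (nat_lit 16),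
  Rule.mk (nat_lit 1) (nat_lit 286) (Steps.bwd (nat_lit 7) (Steps.bwd (nat_lit 10) (Steps.fwd (nat_lit 32768) (Steps.bwd (nat_lit 1) (Steps.fwd (nat_lit 24576) (Steps.fwd (nat_lit 65536) (Steps.fwd (nat_lit 90112) (Steps.fwd (nat_lit 65536) (Steps.fwd (nat_lit 73728) (Steps.fwd (nat_lit 24576) (Steps.fwd (nat_lit 24576) (Steps.fwd (nat_lit 8192) (Steps.bwd (nat_lit 11) (Steps.bwd (nat_lit 1) (Steps.bwd (nat_lit 10) (Steps.fwd (nat_lit 8192) (Steps.bwd (nat_lit 10) Steps.nil))))))))))))))))) (nat_lit 57) (nat_lit 9),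
  Rule.mk (nat_lit 16) (nat_lit 158) (Steps.fwd (nat_lit 90112) (Steps.bwd (nat_lit 13) (Steps.bwd (nat_lit 2) (Steps.bwd (nat_lit 4) (Steps.fwd (nat_lit 24576) (Steps.fwd (nat_lit 73728) (Steps.bwd (nat_lit 14) (Steps.bwd (nat_lit 9) (Steps.bwd (nat_lit 1) Steps.nil))))))))) (nat_lit 62) (nat_lit 5)]
noncomputable def R_124 : List (Rule) := [Rule.mk (nat_lit 9) (nat_lit 190) (Steps.bwd (nat_lit 12) (Steps.bwd (nat_lit 9) (Steps.bwd (nat_lit 13) (Steps.bwd (nat_lit 9) (Steps.fwd (nat_lit 106496) (Steps.fwd (nat_lit 131072) (Steps.bwd (nat_lit 1) (Steps.fwd (nat_lit 122880) (Steps.fwd (nat_lit 16384) (Steps.bwd (nat_lit 1) (Steps.bwd (nat_lit 1) Steps.nil))))))))))) (nat_lit 74) (nat_lit 1),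
  Rule.mk (nat_lit 14) (nat_lit 190) (Steps.bwd (nat_lit 1) (Steps.fwd (nat_lit 16384) (Steps.fwd (nat_lit 16384) (Steps.bwd (nat_lit 9) (Steps.bwd (nat_lit 12) (Steps.bwd (nat_lit 9) (Steps.fwd (nat_lit 98304) (Steps.fwd (nat_lit 73728) (Steps.bwd (nat_lit 12) (Steps.bwd (nat_lit 17) (Steps.bwd (nat_lit 1) Steps.nil))))))))))) (nat_lit 74) (nat_lit 9),
  Rule.mk (nat_lit 14) (nat_lit 110) (Steps.bwd (nat_lit 14) (Steps.fwd (nat_lit 8192) (Steps.bwd (nat_lit 14) (Steps.bwd (nat_lit 1) (Steps.fwd (nat_lit 131072) (Steps.bwd (nat_lit 11) Steps.nil)))))) (nat_lit 44) (nat_lit 6),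
  Rule.mk (nat_lit 18) (nat_lit 126) (Steps.bwd (nat_lit 8) (Steps.bwd (nat_lit 19) (Steps.bwd (nat_lit 8) (Steps.bwd (nat_lit 1) (Steps.fwd (nat_lit 16384) (Steps.fwd (nat_lit 147456) (Steps.fwd (nat_lit 57344) Steps.nil))))))) (nat_lit 87) (nat_lit 5),
  Rule.mk (nat_lit 11) (nat_lit 286) (Steps.bwd (nat_lit 8) (Steps.bwd (nat_lit 2) (Steps.bwd (nat_lit 11) (Steps.fwd (nat_lit 16384) (Steps.bwd (nat_lit 11) (Steps.fwd (nat_lit 8192) (Steps.fwd (nat_lit 90112) (Steps.bwd (nat_lit 1) (Steps.fwd (nat_lit 32768) (Steps.fwd (nat_lit 32768) (Steps.bwd (nat_lit 9) (Steps.bwd (nat_lit 8) (Steps.fwd (nat_lit 81920) (Steps.bwd (nat_lit 8) (Steps.fwd (nat_lit 32768) (Steps.fwd (nat_lit 8192) (Steps.bwd (nat_lit 4) Steps.nil))))))))))))))))) (nat_lit 56) (nat_lit 8),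
  Rule.mk (nat_lit 14) (nat_lit 110) (Steps.bwd (nat_lit 3) (Steps.fwd (nat_lit 81920) (Steps.fwd (nat_lit 73728) (Steps.fwd (nat_lit 81920) (Steps.fwd (nat_lit 73728) (Steps.bwd (nat_lit 3) Steps.nil)))))) (nat_lit 61) (nat_lit 2),
  Rule.mk (nat_lit 12) (nat_lit 126) (Steps.bwd (nat_lit 3) (Steps.fwd (nat_lit 139264) (Steps.bwd (nat_lit 10) (Steps.fwd (nat_lit 139264) (Steps.bwd (nat_lit 15) (Steps.bwd (nat_lit 13) (Steps.fwd (nat_lit 24576) Steps.nil))))))) (nat_lit 50) (nat_lit 2),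
  Rule.mk (nat_lit 13) (nat_lit 126) (Steps.bwd (nat_lit 3) (Steps.fwd (nat_lit 106496) (Steps.fwd (nat_lit 122880) (Steps.fwd (nat_lit 131072) (Steps.bwd (nat_lit 11) (Steps.bwd (nat_lit 17) (Steps.fwd (nat_lit 24576) Steps.nil))))))) (nat_lit 51) (nat_lit 7),
  Rule.mk (nat_lit 10) (nat_lit 270) (Steps.bwd (nat_lit 3) (Steps.fwd (nat_lit 16384) (Steps.fwd (nat_lit 24576) (Steps.fwd (nat_lit 24576) (Steps.bwd (nat_lit 2) (Steps.fwd (nat_lit 65536) (Steps.bwd (nat_lit 9) (Steps.fwd (nat_lit 24576) (Steps.bwd (nat_lit 12) (Steps.bwd (nat_lit 2) (Steps.bwd (nat_lit 9) (Steps.fwd (nat_lit 8192) (Steps.fwd (nat_lit 73728) (Steps.bwd (nat_lit 2) (Steps.bwd (nat_lit 18) (Steps.bwd (nat_lit 16) Steps.nil)))))))))))))))) (nat_lit 76) (nat_lit 12),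
  Rule.mk (nat_lit 9) (nat_lit 190) (Steps.bwd (nat_lit 13) (Steps.bwd (nat_lit 9) (Steps.bwd (nat_lit 12) (Steps.bwd (nat_lit 17) (Steps.bwd (nat_lit 1) (Steps.bwd (nat_lit 14) (Steps.fwd (nat_lit 16384) (Steps.bwd (nat_lit 1) (Steps.fwd (nat_lit 16384) (Steps.bwd (nat_lit 9) (Steps.fwd (nat_lit 106496) Steps.nil))))))))))) (nat_lit 74) (nat_lit 3),
  Rule.mk (nat_lit 1) (nat_lit 270) (Steps.bwd (nat_lit 13) (Steps.fwd (nat_lit 32768) (Steps.fwd (nat_lit 73728) (Steps.bwd (nat_lit 8) (Steps.bwd (nat_lit 1) (Steps.bwd (nat_lit 3) (Steps.fwd (nat_lit 32768) (Steps.fwd (nat_lit 8192) (Steps.fwd (nat_lit 24576) (Steps.bwd (nat_lit 11) (Steps.fwd (nat_lit 131072) (Steps.bwd (nat_lit 19) (Steps.fwd (nat_lit 16384) (Steps.bwd (nat_lit 9) (Steps.bwd (nat_lit 1) (Steps.bwd (nat_lit 9) Steps.nil)))))))))))))))) (nat_lit 77) (nat_lit 13),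
  Rule.mk (nat_lit 16) (nat_lit 158) (Steps.bwd (nat_lit 10) (Steps.bwd (nat_lit 13) (Steps.fwd (nat_lit 8192) (Steps.bwd (nat_lit 4) (Steps.bwd (nat_lit 4) (Steps.fwd (nat_lit 73728) (Steps.bwd (nat_lit 14) (Steps.bwd (nat_lit 9) (Steps.bwd (nat_lit 1) Steps.nil))))))))) (nat_lit 62) (nat_lit 5),
  Rule.mk (nat_lit 9) (nat_lit 110) (Steps.bwd (nat_lit 4) (Steps.fwd (nat_lit 73728) (Steps.bwd (nat_lit 10) (Steps.fwd (nat_lit 114688) (Steps.bwd (nat_lit 17) (Steps.bwd (nat_lit 17) Steps.nil)))))) (nat_lit 71) (nat_lit 5),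
  Rule.mk (nat_lit 17) (nat_lit 126) (Steps.bwd (nat_lit 4) (Steps.bwd (nat_lit 13) (Steps.bwd (nat_lit 3) (Steps.bwd (nat_lit 12) (Steps.bwd (nat_lit 14) (Steps.bwd (nat_lit 17) (Steps.fwd (nat_lit 81920) Steps.nil))))))) (nat_lit 51) (nat_lit 5),
  Rule.mk (nat_lit 4) (nat_lit 110) (Steps.bwd (nat_lit 15) (Steps.bwd (nat_lit 4) (Steps.fwd (nat_lit 73728) (Steps.bwd (nat_lit 10) (Steps.bwd (nat_lit 9) (Steps.bwd (nat_lit 10) Steps.nil)))))) (nat_lit 60) (nat_lit 5),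
  Rule.mk (nat_lit 10) (nat_lit 110) (Steps.bwd (nat_lit 15) (Steps.bwd (nat_lit 10) (Steps.bwd (nat_lit 17) (Steps.bwd (nat_lit 9) (Steps.fwd (nat_lit 147456) (Steps.bwd (nat_lit 9) Steps.nil)))))) (nat_lit 67) (nat_lit 1),
  Rule.mk (nat_lit 9) (nat_lit 158) (Steps.bwd (nat_lit 15) (Steps.fwd (nat_lit 73728) (Steps.bwd (nat_lit 3) (Steps.fwd (nat_lit 32768) (Steps.fwd (nat_lit 16384) (Steps.fwd (nat_lit 106496) (Steps.fwd (nat_lit 81920) (Steps.bwd (nat_lit 17) (Steps.bwd (nat_lit 2) Steps.nil))))))))) (nat_lit 63) (nat_lit 8),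
  Rule.mk (nat_lit 13) (nat_lit 190) (Steps.fwd (nat_lit 73728) (Steps.bwd (nat_lit 12) (Steps.bwd (nat_lit 17) (Steps.bwd (nat_lit 1) (Steps.bwd (nat_lit 14) (Steps.fwd (nat_lit 16384) (Steps.fwd (nat_lit 16384) (Steps.bwd (nat_lit 1) (Steps.fwd (nat_lit 73728) (Steps.bwd (nat_lit 12) (Steps.bwd (nat_lit 9) Steps.nil))))))))))) (nat_lit 74) (nat_lit 4),
  Rule.mk (nat_lit 8) (nat_lit 270) (Steps.bwd (nat_lit 1) (Steps.fwd (nat_lit 32768) (Steps.bwd (nat_lit 3) (Steps.bwd (nat_lit 2) (Steps.fwd (nat_lit 24576) (Steps.bwd (nat_lit 11) (Steps.bwd (nat_lit 17) (Steps.bwd (nat_lit 19) (Steps.fwd (nat_lit 16384) (Steps.fwd (nat_lit 73728) (Steps.fwd (nat_lit 16384) (Steps.bwd (nat_lit 9) (Steps.fwd (nat_lit 16384) (Steps.fwd (nat_lit 98304) (Steps.bwd (nat_lit 3) (Steps.bwd (nat_lit 9) Steps.nil)))))))))))))))) (nat_lit 77) (nat_lit 0),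
  Rule.mk (nat_lit 11) (nat_lit 110) (Steps.bwd (nat_lit 14) (Steps.bwd (nat_lit 14) (Steps.bwd (nat_lit 2) (Steps.bwd (nat_lit 14) (Steps.bwd (nat_lit 1) (Steps.fwd (nat_lit 131072) Steps.nil)))))) (nat_lit 44) (nat_lit 5),
  Rule.mk (nat_lit 2) (nat_lit 110) (Steps.bwd (nat_lit 14) (Steps.bwd (nat_lit 1) (Steps.bwd (nat_lit 17) (Steps.fwd (nat_lit 81920) (Steps.bwd (nat_lit 14) (Steps.fwd (nat_lit 122880) Steps.nil)))))) (nat_lit 44) (nat_lit 1),
  Rule.mk (nat_lit 4) (nat_lit 126) (Steps.bwd (nat_lit 14) (Steps.bwd (nat_lit 3) (Steps.fwd (nat_lit 122880) (Steps.bwd (nat_lit 14) (Steps.bwd (nat_lit 17) (Steps.bwd (nat_lit 11) (Steps.bwd (nat_lit 11) Steps.nil))))))) (nat_lit 52) (nat_lit 1),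
  Rule.mk (nat_lit 9) (nat_lit 158) (Steps.bwd (nat_lit 14) (Steps.bwd (nat_lit 9) (Steps.fwd (nat_lit 16384) (Steps.fwd (nat_lit 139264) (Steps.fwd (nat_lit 90112) (Steps.bwd (nat_lit 13) (Steps.bwd (nat_lit 2) (Steps.fwd (nat_lit 24576) (Steps.fwd (nat_lit 24576) Steps.nil))))))))) (nat_lit 62) (nat_lit 1),
  Rule.mk (nat_lit 12) (nat_lit 190) (Steps.fwd (nat_lit 131072) (Steps.fwd (nat_lit 16384) (Steps.fwd (nat_lit 122880) (Steps.bwd (nat_lit 1) (Steps.fwd (nat_lit 16384) (Steps.bwd (nat_lit 1) (Steps.bwd (nat_lit 9) (Steps.bwd (nat_lit 12) (Steps.fwd (nat_lit 73728) (Steps.fwd (nat_lit 98304) (Steps.bwd (nat_lit 9) Steps.nil))))))))))) (nat_lit 74) (nat_lit 6),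
  Rule.mk (nat_lit 2) (nat_lit 190) (Steps.bwd (nat_lit 2) (Steps.bwd (nat_lit 2) (Steps.fwd (nat_lit 114688) (Steps.fwd (nat_lit 8192) (Steps.bwd (nat_lit 16) (Steps.bwd (nat_lit 13) (Steps.bwd (nat_lit 9) (Steps.bwd (nat_lit 12) (Steps.fwd (nat_lit 73728) (Steps.fwd (nat_lit 98304) (Steps.bwd (nat_lit 9) Steps.nil))))))))))) (nat_lit 75) (nat_lit 1),
  Rule.mk (nat_lit 8) (nat_lit 270) (Steps.fwd (nat_lit 16384) (Steps.fwd (nat_lit 32768) (Steps.fwd (nat_lit 32768) (Steps.fwd (nat_lit 8192) (Steps.bwd (nat_lit 4) (Steps.bwd (nat_lit 11) (Steps.fwd (nat_lit 131072) (Steps.bwd (nat_lit 19) (Steps.fwd (nat_lit 16384) (Steps.bwd (nat_lit 9) (Steps.bwd (nat_lit 1) (Steps.fwd (nat_lit 73728) (Steps.bwd (nat_lit 1) (Steps.fwd (nat_lit 98304) (Steps.fwd (nat_lit 32768) (Steps.bwd (nat_lit 9) Steps.nil)))))))))))))))) (nat_lit 77) (nat_lit 0),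
  Rule.mk (nat_lit 2) (nat_lit 158) (Steps.bwd (nat_lit 9) (Steps.bwd (nat_lit 15) (Steps.fwd (nat_lit 73728) (Steps.fwd (nat_lit 32768) (Steps.bwd (nat_lit 3) (Steps.fwd (nat_lit 16384) (Steps.bwd (nat_lit 12) (Steps.bwd (nat_lit 11) (Steps.bwd (nat_lit 17) Steps.nil))))))))) (nat_lit 63) (nat_lit 7),
  Rule.mk (nat_lit 13) (nat_lit 190) (Steps.bwd (nat_lit 9) (Steps.fwd (nat_lit 106496) (Steps.bwd (nat_lit 17) (Steps.bwd (nat_lit 1) (Steps.bwd (nat_lit 14) (Steps.fwd (nat_lit 16384) (Steps.fwd (nat_lit 16384) (Steps.fwd (nat_lit 16384) (Steps.bwd (nat_lit 9) (Steps.bwd (nat_lit 12) (Steps.bwd (nat_lit 9) Steps.nil))))))))))) (nat_lit 74) (nat_lit 4),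
  Rule.mk (nat_lit 12) (nat_lit 190) (Steps.bwd (nat_lit 9) (Steps.bwd (nat_lit 13) (Steps.fwd (nat_lit 73728) (Steps.bwd (nat_lit 12) (Steps.bwd (nat_lit 17) (Steps.fwd (nat_lit 16384) (Steps.fwd (nat_lit 122880) (Steps.bwd (nat_lit 1) (Steps.fwd (nat_lit 16384) (Steps.bwd (nat_lit 1) (Steps.bwd (nat_lit 9) Steps.nil))))))))))) (nat_lit 74) (nat_lit 2),
  Rule.mk (nat_lit 1) (nat_lit 190) (Steps.bwd (nat_lit 9) (Steps.fwd (nat_lit 106496) (Steps.fwd (nat_lit 73728) (Steps.fwd (nat_lit 98304) (Steps.fwd (nat_lit 73728) (Steps.bwd (nat_lit 12) (Steps.bwd (nat_lit 17) (Steps.fwd (nat_lit 16384) (Steps.bwd (nat_lit 14) (Steps.bwd (nat_lit 1) (Steps.bwd (nat_lit 1) Steps.nil))))))))))) (nat_lit 74) (nat_lit 0),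
  Rule.mk (nat_lit 7) (nat_lit 270) (Steps.bwd (nat_lit 9) (Steps.bwd (nat_lit 4) (Steps.bwd (nat_lit 12) (Steps.bwd (nat_lit 2) (Steps.fwd (nat_lit 73728) (Steps.fwd (nat_lit 8192) (Steps.bwd (nat_lit 9) (Steps.bwd (nat_lit 2) (Steps.fwd (nat_lit 155648) (Steps.bwd (nat_lit 16) (Steps.bwd (nat_lit 10) (Steps.fwd (nat_lit 32768) (Steps.fwd (nat_lit 16384) (Steps.fwd (nat_lit 24576) (Steps.bwd (nat_lit 4) (Steps.fwd (nat_lit 8192) Steps.nil)))))))))))))))) (nat_lit 76) (nat_lit 1),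
  Rule.mk (nat_lit 18) (nat_lit 158) (Steps.bwd (nat_lit 7) (Steps.bwd (nat_lit 18) (Steps.bwd (nat_lit 7) (Steps.bwd (nat_lit 18) (Steps.bwd (nat_lit 7) (Steps.fwd (nat_lit 155648) (Steps.fwd (nat_lit 65536) (Steps.bwd (nat_lit 18) (Steps.fwd (nat_lit 65536) Steps.nil))))))))) (nat_lit 84) (nat_lit 0),
  Rule.mk (nat_lit 2) (nat_lit 142) (Steps.bwd (nat_lit 16) (Steps.fwd (nat_lit 16384) (Steps.bwd (nat_lit 17) (Steps.fwd (nat_lit 81920) (Steps.fwd (nat_lit 131072) (Steps.fwd (nat_lit 122880) (Steps.fwd (nat_lit 106496) (Steps.fwd (nat_lit 81920) Steps.nil)))))))) (nat_lit 46) (nat_lit 1),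
  Rule.mk (nat_lit 1) (nat_lit 158) (Steps.bwd (nat_lit 16) (Steps.bwd (nat_lit 10) (Steps.fwd (nat_lit 98304) (Steps.fwd (nat_lit 8192) (Steps.fwd (nat_lit 24576) (Steps.bwd (nat_lit 4) (Steps.fwd (nat_lit 73728) (Steps.fwd (nat_lit 122880) (Steps.fwd (nat_lit 73728) Steps.nil))))))))) (nat_lit 62) (nat_lit 4),
  Rule.mk (nat_lit 7) (nat_lit 126) (Steps.bwd (nat_lit 19) (Steps.bwd (nat_lit 7) (Steps.fwd (nat_lit 155648) (Steps.bwd (nat_lit 2) (Steps.bwd (nat_lit 2) (Steps.fwd (nat_lit 65536) (Steps.fwd (nat_lit 155648) Steps.nil))))))) (nat_lit 86) (nat_lit 3),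
  Rule.mk (nat_lit 1) (nat_lit 126) (Steps.bwd (nat_lit 19) (Steps.fwd (nat_lit 57344) (Steps.fwd (nat_lit 155648) (Steps.bwd (nat_lit 8) (Steps.fwd (nat_lit 147456) (Steps.bwd (nat_lit 8) (Steps.fwd (nat_lit 16384) Steps.nil))))))) (nat_lit 87) (nat_lit 2),
  Rule.mk (nat_lit 9) (nat_lit 190) (Steps.bwd (nat_lit 13) (Steps.fwd (nat_lit 73728) (Steps.bwd (nat_lit 12) (Steps.fwd (nat_lit 131072) (Steps.bwd (nat_lit 1) (Steps.fwd (nat_lit 122880) (Steps.bwd (nat_lit 1) (Steps.bwd (nat_lit 1) (Steps.fwd (nat_lit 16384) (Steps.fwd (nat_lit 73728) (Steps.bwd (nat_lit 12) Steps.nil))))))))))) (nat_lit 74) (nat_lit 3),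
  Rule.mk (nat_lit 12) (nat_lit 190) (Steps.fwd (nat_lit 73728) (Steps.bwd (nat_lit 13) (Steps.fwd (nat_lit 73728) (Steps.bwd (nat_lit 12) (Steps.fwd (nat_lit 131072) (Steps.bwd (nat_lit 1) (Steps.bwd (nat_lit 14) (Steps.bwd (nat_lit 1) (Steps.fwd (nat_lit 16384) (Steps.fwd (nat_lit 16384) (Steps.bwd (nat_lit 9) Steps.nil))))))))))) (nat_lit 74) (nat_lit 2),
  Rule.mk (nat_lit 8) (nat_lit 270) (Steps.bwd (nat_lit 1) (Steps.fwd (nat_lit 32768) (Steps.bwd (nat_lit 3) (Steps.bwd (nat_lit 2) (Steps.fwd (nat_lit 24576) (Steps.fwd (nat_lit 81920) (Steps.fwd (nat_lit 131072) (Steps.bwd (nat_lit 19) (Steps.bwd (nat_lit 1) (Steps.fwd (nat_lit 73728) (Steps.fwd (nat_lit 16384) (Steps.bwd (nat_lit 9) (Steps.bwd (nat_lit 1) (Steps.fwd (nat_lit 98304) (Steps.bwd (nat_lit 3) (Steps.bwd (nat_lit 9) Steps.nil)))))))))))))))) (nat_lit 77) (nat_lit 0),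
  Rule.mk (nat_lit 3) (nat_lit 126) (Steps.bwd (nat_lit 10) (Steps.bwd (nat_lit 10) (Steps.bwd (nat_lit 16) (Steps.bwd (nat_lit 15) (Steps.bwd (nat_lit 15) (Steps.bwd (nat_lit 4) (Steps.fwd (nat_lit 114688) Steps.nil))))))) (nat_lit 53) (nat_lit 0),
  Rule.mk (nat_lit 2) (nat_lit 286) (Steps.bwd (nat_lit 10) (Steps.bwd (nat_lit 1) (Steps.bwd (nat_lit 3) (Steps.bwd (nat_lit 3) (Steps.bwd (nat_lit 9) (Steps.fwd (nat_lit 57344) (Steps.fwd (nat_lit 81920) (Steps.fwd (nat_lit 57344) (Steps.fwd (nat_lit 32768) (Steps.fwd (nat_lit 8192) (Steps.fwd (nat_lit 24576) (Steps.bwd (nat_lit 11) (Steps.fwd (nat_lit 57344) (Steps.fwd (nat_lit 8192) (Steps.bwd (nat_lit 11) (Steps.bwd (nat_lit 1) (Steps.bwd (nat_lit 11) Steps.nil))))))))))))))))) (nat_lit 56) (nat_lit 14),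
  Rule.mk (nat_lit 7) (nat_lit 286) (Steps.bwd (nat_lit 10) (Steps.fwd (nat_lit 65536) (Steps.bwd (nat_lit 9) (Steps.bwd (nat_lit 4) (Steps.fwd (nat_lit 24576) (Steps.bwd (nat_lit 2) (Steps.bwd (nat_lit 11) (Steps.fwd (nat_lit 16384) (Steps.fwd (nat_lit 90112) (Steps.fwd (nat_lit 8192) (Steps.bwd (nat_lit 10) (Steps.bwd (nat_lit 1) (Steps.bwd (nat_lit 7) (Steps.bwd (nat_lit 10) (Steps.fwd (nat_lit 32768) (Steps.fwd (nat_lit 16384) (Steps.bwd (nat_lit 4) Steps.nil))))))))))))))))) (nat_lit 57) (nat_lit 15),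
  Rule.mk (nat_lit 8) (nat_lit 126) (Steps.bwd (nat_lit 19) (Steps.fwd (nat_lit 57344) (Steps.bwd (nat_lit 1) (Steps.bwd (nat_lit 1) (Steps.fwd (nat_lit 147456) (Steps.fwd (nat_lit 57344) (Steps.fwd (nat_lit 155648) Steps.nil))))))) (nat_lit 87) (nat_lit 6),
  Rule.mk (nat_lit 4) (nat_lit 126) (Steps.bwd (nat_lit 12) (Steps.fwd (nat_lit 32768) (Steps.fwd (nat_lit 139264) (Steps.bwd (nat_lit 10) (Steps.fwd (nat_lit 139264) (Steps.fwd (nat_lit 114688) (Steps.bwd (nat_lit 13) Steps.nil))))))) (nat_lit 50) (nat_lit 1),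
  Rule.mk (nat_lit 3) (nat_lit 126) (Steps.bwd (nat_lit 12) (Steps.fwd (nat_lit 122880) (Steps.bwd (nat_lit 17) (Steps.bwd (nat_lit 11) (Steps.bwd (nat_lit 17) (Steps.fwd (nat_lit 24576) (Steps.fwd (nat_lit 98304) Steps.nil))))))) (nat_lit 51) (nat_lit 0),
  Rule.mk (nat_lit 13) (nat_lit 126) (Steps.bwd (nat_lit 3) (Steps.fwd (nat_lit 106496) (Steps.fwd (nat_lit 122880) (Steps.fwd (nat_lit 131072) (Steps.bwd (nat_lit 11) (Steps.bwd (nat_lit 17) (Steps.bwd (nat_lit 4) Steps.nil))))))) (nat_lit 51) (nat_lit 7),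
  Rule.mk (nat_lit 4) (nat_lit 110) (Steps.bwd (nat_lit 9) (Steps.fwd (nat_lit 90112) (Steps.fwd (nat_lit 73728) (Steps.bwd (nat_lit 10) (Steps.fwd (nat_lit 24576) (Steps.fwd (nat_lit 114688) Steps.nil)))))) (nat_lit 60) (nat_lit 0),
  Rule.mk (nat_lit 14) (nat_lit 158) (Steps.bwd (nat_lit 9) (Steps.fwd (nat_lit 16384) (Steps.fwd (nat_lit 139264) (Steps.fwd (nat_lit 90112) (Steps.bwd (nat_lit 13) (Steps.bwd (nat_lit 2) (Steps.fwd (nat_lit 24576) (Steps.fwd (nat_lit 24576) (Steps.fwd (nat_lit 73728) Steps.nil))))))))) (nat_lit 62) (nat_lit 2),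
  Rule.mk (nat_lit 2) (nat_lit 158) (Steps.bwd (nat_lit 9) (Steps.fwd (nat_lit 114688) (Steps.bwd (nat_lit 9) (Steps.fwd (nat_lit 32768) (Steps.fwd (nat_lit 32768) (Steps.fwd (nat_lit 16384) (Steps.fwd (nat_lit 106496) (Steps.fwd (nat_lit 81920) (Steps.bwd (nat_lit 17) Steps.nil))))))))) (nat_lit 63) (nat_lit 7),
  Rule.mk (nat_lit 12) (nat_lit 190) (Steps.bwd (nat_lit 9) (Steps.bwd (nat_lit 13) (Steps.fwd (nat_lit 73728) (Steps.bwd (nat_lit 12) (Steps.bwd (nat_lit 17) (Steps.bwd (nat_lit 1) (Steps.fwd (nat_lit 122880) (Steps.bwd (nat_lit 1) (Steps.fwd (nat_lit 16384) (Steps.bwd (nat_lit 1) (Steps.fwd (nat_lit 73728) Steps.nil))))))))))) (nat_lit 74) (nat_lit 2),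
  Rule.mk (nat_lit 1) (nat_lit 190) (Steps.bwd (nat_lit 9) (Steps.bwd (nat_lit 12) (Steps.fwd (nat_lit 73728) (Steps.fwd (nat_lit 98304) (Steps.bwd (nat_lit 9) (Steps.bwd (nat_lit 12) (Steps.fwd (nat_lit 131072) (Steps.fwd (nat_lit 16384) (Steps.bwd (nat_lit 14) (Steps.bwd (nat_lit 1) (Steps.bwd (nat_lit 1) Steps.nil))))))))))) (nat_lit 74) (nat_lit 0),
  Rule.mk (nat_lit 13) (nat_lit 190) (Steps.bwd (nat_lit 9) (Steps.bwd (nat_lit 12) (Steps.fwd (nat_lit 73728) (Steps.fwd (nat_lit 98304) (Steps.bwd (nat_lit 9) (Steps.fwd (nat_lit 8192) (Steps.bwd (nat_lit 2) (Steps.fwd (nat_lit 8192) (Steps.bwd (nat_lit 15) (Steps.fwd (nat_lit 8192) (Steps.fwd (nat_lit 139264) Steps.nil))))))))))) (nat_lit 75) (nat_lit 7),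
  Rule.mk (nat_lit 7) (nat_lit 270) (Steps.bwd (nat_lit 9) (Steps.fwd (nat_lit 24576) (Steps.bwd (nat_lit 12) (Steps.bwd (nat_lit 2) (Steps.fwd (nat_lit 73728) (Steps.fwd (nat_lit 8192) (Steps.fwd (nat_lit 73728) (Steps.bwd (nat_lit 2) (Steps.bwd (nat_lit 18) (Steps.bwd (nat_lit 16) (Steps.bwd (nat_lit 10) (Steps.bwd (nat_lit 3) (Steps.bwd (nat_lit 1) (Steps.fwd (nat_lit 24576) (Steps.bwd (nat_lit 4) (Steps.bwd (nat_lit 2) Steps.nil)))))))))))))))) (nat_lit 76) (nat_lit 1),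
  Rule.mk (nat_lit 10) (nat_lit 286) (Steps.bwd (nat_lit 7) (Steps.bwd (nat_lit 9) (Steps.bwd (nat_lit 4) (Steps.bwd (nat_lit 4) (Steps.bwd (nat_lit 2) (Steps.bwd (nat_lit 11) (Steps.fwd (nat_lit 16384) (Steps.fwd (nat_lit 90112) (Steps.fwd (nat_lit 8192) (Steps.bwd (nat_lit 10) (Steps.fwd (nat_lit 16384) (Steps.bwd (nat_lit 7) (Steps.fwd (nat_lit 90112) (Steps.fwd (nat_lit 32768) (Steps.bwd (nat_lit 1) (Steps.fwd (nat_lit 24576) (Steps.fwd (nat_lit 65536) Steps.nil))))))))))))))))) (nat_lit 57) (nat_lit 16),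
  Rule.mk (nat_lit 16) (nat_lit 110) (Steps.bwd (nat_lit 11) (Steps.bwd (nat_lit 14) (Steps.bwd (nat_lit 11) (Steps.bwd (nat_lit 9) (Steps.fwd (nat_lit 155648) (Steps.fwd (nat_lit 73728) Steps.nil)))))) (nat_lit 66) (nat_lit 4),
  Rule.mk (nat_lit 12) (nat_lit 142) (Steps.bwd (nat_lit 11) (Steps.bwd (nat_lit 2) (Steps.bwd (nat_lit 16) (Steps.fwd (nat_lit 16384) (Steps.fwd (nat_lit 131072) (Steps.fwd (nat_lit 81920) (Steps.fwd (nat_lit 131072) (Steps.bwd (nat_lit 14) Steps.nil)))))))) (nat_lit 46) (nat_lit 8),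
  Rule.mk (nat_lit 4) (nat_lit 270) (Steps.bwd (nat_lit 11) (Steps.fwd (nat_lit 131072) (Steps.bwd (nat_lit 19) (Steps.fwd (nat_lit 16384) (Steps.bwd (nat_lit 9) (Steps.fwd (nat_lit 16384) (Steps.fwd (nat_lit 73728) (Steps.bwd (nat_lit 1) (Steps.bwd (nat_lit 13) (Steps.bwd (nat_lit 3) (Steps.fwd (nat_lit 73728) (Steps.bwd (nat_lit 8) (Steps.bwd (nat_lit 1) (Steps.fwd (nat_lit 32768) (Steps.fwd (nat_lit 32768) (Steps.bwd (nat_lit 2) Steps.nil)))))))))))))))) (nat_lit 77) (nat_lit 5),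
  Rule.mk (nat_lit 2) (nat_lit 286) (Steps.bwd (nat_lit 11) (Steps.fwd (nat_lit 16384) (Steps.fwd (nat_lit 81920) (Steps.bwd (nat_lit 2) (Steps.bwd (nat_lit 10) (Steps.fwd (nat_lit 16384) (Steps.fwd (nat_lit 32768) (Steps.bwd (nat_lit 3) (Steps.fwd (nat_lit 73728) (Steps.bwd (nat_lit 8) (Steps.fwd (nat_lit 81920) (Steps.fwd (nat_lit 57344) (Steps.fwd (nat_lit 32768) (Steps.fwd (nat_lit 8192) (Steps.bwd (nat_lit 4) (Steps.fwd (nat_lit 81920) (Steps.fwd (nat_lit 57344) Steps.nil))))))))))))))))) (nat_lit 56) (nat_lit 10),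
  Rule.mk (nat_lit 8) (nat_lit 286) (Steps.bwd (nat_lit 11) (Steps.fwd (nat_lit 57344) (Steps.bwd (nat_lit 3) (Steps.bwd (nat_lit 2) (Steps.fwd (nat_lit 24576) (Steps.bwd (nat_lit 11) (Steps.fwd (nat_lit 57344) (Steps.bwd (nat_lit 2) (Steps.fwd (nat_lit 81920) (Steps.bwd (nat_lit 1) (Steps.bwd (nat_lit 11) (Steps.fwd (nat_lit 8192) (Steps.bwd (nat_lit 10) (Steps.fwd (nat_lit 16384) (Steps.bwd (nat_lit 3) (Steps.fwd (nat_lit 32768) (Steps.bwd (nat_lit 9) Steps.nil))))))))))))))))) (nat_lit 56) (nat_lit 2),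
  Rule.mk (nat_lit 9) (nat_lit 190) (Steps.bwd (nat_lit 12) (Steps.fwd (nat_lit 131072) (Steps.bwd (nat_lit 1) (Steps.bwd (nat_lit 14) (Steps.fwd (nat_lit 16384) (Steps.fwd (nat_lit 16384) (Steps.fwd (nat_lit 16384) (Steps.bwd (nat_lit 9) (Steps.fwd (nat_lit 106496) (Steps.fwd (nat_lit 73728) (Steps.fwd (nat_lit 98304) Steps.nil))))))))))) (nat_lit 74) (nat_lit 5),
  Rule.mk (nat_lit 4) (nat_lit 270) (Steps.bwd (nat_lit 12) (Steps.fwd (nat_lit 8192) (Steps.fwd (nat_lit 73728) (Steps.bwd (nat_lit 2) (Steps.fwd (nat_lit 73728) (Steps.fwd (nat_lit 8192) (Steps.fwd (nat_lit 155648) (Steps.bwd (nat_lit 16) (Steps.fwd (nat_lit 90112) (Steps.fwd (nat_lit 32768) (Steps.fwd (nat_lit 16384) (Steps.fwd (nat_lit 24576) (Steps.fwd (nat_lit 24576) (Steps.bwd (nat_lit 2) (Steps.bwd (nat_lit 7) (Steps.bwd (nat_lit 9) Steps.nil)))))))))))))))) (nat_lit 76) (nat_lit 3),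
  Rule.mk (nat_lit 10) (nat_lit 270) (Steps.bwd (nat_lit 3) (Steps.fwd (nat_lit 16384) (Steps.bwd (nat_lit 4) (Steps.bwd (nat_lit 4) (Steps.fwd (nat_lit 8192) (Steps.fwd (nat_lit 65536) (Steps.bwd (nat_lit 9) (Steps.fwd (nat_lit 24576) (Steps.bwd (nat_lit 12) (Steps.bwd (nat_lit 2) (Steps.fwd (nat_lit 73728) (Steps.fwd (nat_lit 8192) (Steps.fwd (nat_lit 73728) (Steps.fwd (nat_lit 8192) (Steps.bwd (nat_lit 18) (Steps.bwd (nat_lit 16) Steps.nil)))))))))))))))) (nat_lit 76) (nat_lit 12),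
  Rule.mk (nat_lit 18) (nat_lit 94) (Steps.bwd (nat_lit 17) (Steps.fwd (nat_lit 81920) (Steps.fwd (nat_lit 139264) (Steps.bwd (nat_lit 10) (Steps.fwd (nat_lit 155648) Steps.nil))))) (nat_lit 35) (nat_lit 2),
  Rule.mk (nat_lit 11) (nat_lit 126) (Steps.bwd (nat_lit 17) (Steps.fwd (nat_lit 24576) (Steps.bwd (nat_lit 13) (Steps.fwd (nat_lit 32768) (Steps.bwd (nat_lit 12) (Steps.fwd (nat_lit 122880) (Steps.fwd (nat_lit 131072) Steps.nil))))))) (nat_lit 51) (nat_lit 4)]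
noncomputable def R_125 : List (Rule) := [Rule.mk (nat_lit 14) (nat_lit 126) (Steps.bwd (nat_lit 17) (Steps.fwd (nat_lit 81920) (Steps.fwd (nat_lit 131072) (Steps.fwd (nat_lit 24576) (Steps.bwd (nat_lit 13) (Steps.bwd (nat_lit 3) (Steps.bwd (nat_lit 12) Steps.nil))))))) (nat_lit 51) (nat_lit 2),
  Rule.mk (nat_lit 2) (nat_lit 142) (Steps.bwd (nat_lit 17) (Steps.fwd (nat_lit 16384) (Steps.fwd (nat_lit 90112) (Steps.bwd (nat_lit 13) (Steps.fwd (nat_lit 114688) (Steps.fwd (nat_lit 139264) (Steps.fwd (nat_lit 90112) (Steps.fwd (nat_lit 139264) Steps.nil)))))))) (nat_lit 47) (nat_lit 7),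
  Rule.mk (nat_lit 16) (nat_lit 142) (Steps.bwd (nat_lit 1) (Steps.bwd (nat_lit 17) (Steps.bwd (nat_lit 11) (Steps.bwd (nat_lit 17) (Steps.bwd (nat_lit 14) (Steps.fwd (nat_lit 106496) (Steps.bwd (nat_lit 11) (Steps.fwd (nat_lit 8192) Steps.nil)))))))) (nat_lit 46) (nat_lit 2),
  Rule.mk (nat_lit 10) (nat_lit 286) (Steps.bwd (nat_lit 1) (Steps.fwd (nat_lit 32768) (Steps.bwd (nat_lit 3) (Steps.fwd (nat_lit 73728) (Steps.fwd (nat_lit 57344) (Steps.bwd (nat_lit 11) (Steps.bwd (nat_lit 8) (Steps.fwd (nat_lit 32768) (Steps.fwd (nat_lit 8192) (Steps.bwd (nat_lit 4) (Steps.bwd (nat_lit 11) (Steps.bwd (nat_lit 8) (Steps.fwd (nat_lit 8192) (Steps.bwd (nat_lit 11) (Steps.bwd (nat_lit 1) (Steps.fwd (nat_lit 81920) (Steps.bwd (nat_lit 2) Steps.nil))))))))))))))))) (nat_lit 56) (nat_lit 15),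
  Rule.mk (nat_lit 11) (nat_lit 286) (Steps.bwd (nat_lit 1) (Steps.bwd (nat_lit 11) (Steps.bwd (nat_lit 2) (Steps.fwd (nat_lit 90112) (Steps.fwd (nat_lit 16384) (Steps.bwd (nat_lit 3) (Steps.bwd (nat_lit 3) (Steps.fwd (nat_lit 73728) (Steps.fwd (nat_lit 57344) (Steps.bwd (nat_lit 11) (Steps.bwd (nat_lit 8) (Steps.bwd (nat_lit 3) (Steps.bwd (nat_lit 2) (Steps.fwd (nat_lit 24576) (Steps.fwd (nat_lit 81920) (Steps.bwd (nat_lit 8) (Steps.fwd (nat_lit 8192) Steps.nil))))))))))))))))) (nat_lit 56) (nat_lit 11),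
  Rule.mk (nat_lit 17) (nat_lit 142) (Steps.bwd (nat_lit 1) (Steps.fwd (nat_lit 90112) (Steps.fwd (nat_lit 98304) (Steps.fwd (nat_lit 114688) (Steps.bwd (nat_lit 16) (Steps.fwd (nat_lit 90112) (Steps.fwd (nat_lit 139264) (Steps.bwd (nat_lit 2) Steps.nil)))))))) (nat_lit 47) (nat_lit 8),
  Rule.mk (nat_lit 9) (nat_lit 158) (Steps.bwd (nat_lit 1) (Steps.bwd (nat_lit 16) (Steps.bwd (nat_lit 10) (Steps.bwd (nat_lit 13) (Steps.bwd (nat_lit 2) (Steps.fwd (nat_lit 24576) (Steps.fwd (nat_lit 24576) (Steps.fwd (nat_lit 73728) (Steps.fwd (nat_lit 122880) Steps.nil))))))))) (nat_lit 62) (nat_lit 3),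
  Rule.mk (nat_lit 10) (nat_lit 286) (Steps.bwd (nat_lit 1) (Steps.fwd (nat_lit 32768) (Steps.bwd (nat_lit 3) (Steps.bwd (nat_lit 9) (Steps.fwd (nat_lit 57344) (Steps.bwd (nat_lit 11) (Steps.bwd (nat_lit 8) (Steps.fwd (nat_lit 32768) (Steps.fwd (nat_lit 8192) (Steps.fwd (nat_lit 24576) (Steps.fwd (nat_lit 81920) (Steps.fwd (nat_lit 57344) (Steps.fwd (nat_lit 8192) (Steps.bwd (nat_lit 11) (Steps.fwd (nat_lit 16384) (Steps.bwd (nat_lit 11) (Steps.fwd (nat_lit 8192) Steps.nil))))))))))))))))) (nat_lit 56) (nat_lit 15),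
  Rule.mk (nat_lit 17) (nat_lit 110) (Steps.bwd (nat_lit 11) (Steps.bwd (nat_lit 14) (Steps.bwd (nat_lit 14) (Steps.fwd (nat_lit 8192) (Steps.bwd (nat_lit 14) (Steps.fwd (nat_lit 16384) Steps.nil)))))) (nat_lit 44) (nat_lit 4),
  Rule.mk (nat_lit 12) (nat_lit 142) (Steps.bwd (nat_lit 11) (Steps.bwd (nat_lit 2) (Steps.bwd (nat_lit 16) (Steps.fwd (nat_lit 16384) (Steps.fwd (nat_lit 131072) (Steps.fwd (nat_lit 81920) (Steps.fwd (nat_lit 131072) (Steps.fwd (nat_lit 122880) Steps.nil)))))))) (nat_lit 46) (nat_lit 8),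
  Rule.mk (nat_lit 2) (nat_lit 286) (Steps.bwd (nat_lit 11) (Steps.bwd (nat_lit 1) (Steps.fwd (nat_lit 81920) (Steps.fwd (nat_lit 8192) (Steps.fwd (nat_lit 90112) (Steps.bwd (nat_lit 1) (Steps.bwd (nat_lit 3) (Steps.fwd (nat_lit 32768) (Steps.bwd (nat_lit 9) (Steps.bwd (nat_lit 8) (Steps.fwd (nat_lit 81920) (Steps.fwd (nat_lit 57344) (Steps.bwd (nat_lit 3) (Steps.bwd (nat_lit 2) (Steps.bwd (nat_lit 4) (Steps.bwd (nat_lit 11) (Steps.bwd (nat_lit 8) Steps.nil))))))))))))))))) (nat_lit 56) (nat_lit 10),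
  Rule.mk (nat_lit 8) (nat_lit 286) (Steps.bwd (nat_lit 11) (Steps.bwd (nat_lit 8) (Steps.bwd (nat_lit 3) (Steps.fwd (nat_lit 8192) (Steps.fwd (nat_lit 24576) (Steps.fwd (nat_lit 81920) (Steps.bwd (nat_lit 8) (Steps.fwd (nat_lit 8192) (Steps.bwd (nat_lit 11) (Steps.bwd (nat_lit 1) (Steps.fwd (nat_lit 81920) (Steps.bwd (nat_lit 2) (Steps.fwd (nat_lit 90112) (Steps.bwd (nat_lit 1) (Steps.fwd (nat_lit 32768) (Steps.bwd (nat_lit 3) (Steps.fwd (nat_lit 73728) Steps.nil))))))))))))))))) (nat_lit 56) (nat_lit 2),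
  Rule.mk (nat_lit 9) (nat_lit 190) (Steps.bwd (nat_lit 13) (Steps.fwd (nat_lit 73728) (Steps.fwd (nat_lit 106496) (Steps.fwd (nat_lit 131072) (Steps.fwd (nat_lit 16384) (Steps.fwd (nat_lit 122880) (Steps.fwd (nat_lit 16384) (Steps.fwd (nat_lit 16384) (Steps.bwd (nat_lit 1) (Steps.fwd (nat_lit 73728) (Steps.fwd (nat_lit 106496) Steps.nil))))))))))) (nat_lit 74) (nat_lit 3),
  Rule.mk (nat_lit 3) (nat_lit 110) (Steps.bwd (nat_lit 3) (Steps.bwd (nat_lit 15) (Steps.fwd (nat_lit 139264) (Steps.bwd (nat_lit 9) (Steps.fwd (nat_lit 131072) (Steps.bwd (nat_lit 9) Steps.nil)))))) (nat_lit 65) (nat_lit 1),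
  Rule.mk (nat_lit 4) (nat_lit 110) (Steps.fwd (nat_lit 73728) (Steps.bwd (nat_lit 10) (Steps.bwd (nat_lit 15) (Steps.fwd (nat_lit 131072) (Steps.fwd (nat_lit 131072) (Steps.bwd (nat_lit 9) Steps.nil)))))) (nat_lit 71) (nat_lit 6),
  Rule.mk (nat_lit 15) (nat_lit 158) (Steps.fwd (nat_lit 73728) (Steps.bwd (nat_lit 3) (Steps.bwd (nat_lit 3) (Steps.fwd (nat_lit 16384) (Steps.bwd (nat_lit 12) (Steps.fwd (nat_lit 81920) (Steps.fwd (nat_lit 131072) (Steps.bwd (nat_lit 2) (Steps.bwd (nat_lit 9) Steps.nil))))))))) (nat_lit 63) (nat_lit 9),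
  Rule.mk (nat_lit 12) (nat_lit 190) (Steps.bwd (nat_lit 17) (Steps.fwd (nat_lit 16384) (Steps.bwd (nat_lit 14) (Steps.fwd (nat_lit 16384) (Steps.fwd (nat_lit 16384) (Steps.fwd (nat_lit 16384) (Steps.bwd (nat_lit 9) (Steps.fwd (nat_lit 106496) (Steps.fwd (nat_lit 73728) (Steps.fwd (nat_lit 98304) (Steps.bwd (nat_lit 9) Steps.nil))))))))))) (nat_lit 74) (nat_lit 6),
  Rule.mk (nat_lit 2) (nat_lit 190) (Steps.fwd (nat_lit 8192) (Steps.fwd (nat_lit 8192) (Steps.bwd (nat_lit 15) (Steps.bwd (nat_lit 2) (Steps.fwd (nat_lit 139264) (Steps.bwd (nat_lit 13) (Steps.bwd (nat_lit 9) (Steps.fwd (nat_lit 106496) (Steps.fwd (nat_lit 73728) (Steps.fwd (nat_lit 98304) (Steps.bwd (nat_lit 9) Steps.nil))))))))))) (nat_lit 75) (nat_lit 1),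
  Rule.mk (nat_lit 8) (nat_lit 270) (Steps.fwd (nat_lit 16384) (Steps.bwd (nat_lit 3) (Steps.bwd (nat_lit 3) (Steps.bwd (nat_lit 2) (Steps.bwd (nat_lit 4) (Steps.fwd (nat_lit 81920) (Steps.fwd (nat_lit 131072) (Steps.bwd (nat_lit 19) (Steps.fwd (nat_lit 16384) (Steps.fwd (nat_lit 73728) (Steps.bwd (nat_lit 1) (Steps.fwd (nat_lit 73728) (Steps.bwd (nat_lit 1) (Steps.fwd (nat_lit 98304) (Steps.bwd (nat_lit 3) (Steps.bwd (nat_lit 9) Steps.nil)))))))))))))))) (nat_lit 77) (nat_lit 0),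
  Rule.mk (nat_lit 7) (nat_lit 286) (Steps.bwd (nat_lit 10) (Steps.fwd (nat_lit 65536) (Steps.fwd (nat_lit 73728) (Steps.fwd (nat_lit 24576) (Steps.fwd (nat_lit 24576) (Steps.bwd (nat_lit 2) (Steps.bwd (nat_lit 11) (Steps.fwd (nat_lit 16384) (Steps.bwd (nat_lit 10) (Steps.bwd (nat_lit 2) (Steps.fwd (nat_lit 90112) (Steps.bwd (nat_lit 1) (Steps.bwd (nat_lit 7) (Steps.bwd (nat_lit 10) (Steps.bwd (nat_lit 3) (Steps.fwd (nat_lit 16384) (Steps.bwd (nat_lit 4) Steps.nil))))))))))))))))) (nat_lit 57) (nat_lit 15),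
  Rule.mk (nat_lit 2) (nat_lit 286) (Steps.bwd (nat_lit 10) (Steps.bwd (nat_lit 1) (Steps.bwd (nat_lit 7) (Steps.bwd (nat_lit 10) (Steps.bwd (nat_lit 3) (Steps.bwd (nat_lit 1) (Steps.fwd (nat_lit 24576) (Steps.bwd (nat_lit 7) (Steps.bwd (nat_lit 10) (Steps.bwd (nat_lit 7) (Steps.fwd (nat_lit 73728) (Steps.bwd (nat_lit 4) (Steps.fwd (nat_lit 24576) (Steps.fwd (nat_lit 8192) (Steps.bwd (nat_lit 11) (Steps.bwd (nat_lit 1) (Steps.fwd (nat_lit 90112) Steps.nil))))))))))))))))) (nat_lit 57) (nat_lit 7),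
  Rule.mk (nat_lit 7) (nat_lit 126) (Steps.bwd (nat_lit 18) (Steps.bwd (nat_lit 7) (Steps.bwd (nat_lit 19) (Steps.fwd (nat_lit 65536) (Steps.fwd (nat_lit 155648) (Steps.fwd (nat_lit 8192) (Steps.bwd (nat_lit 2) Steps.nil))))))) (nat_lit 86) (nat_lit 1),
  Rule.mk (nat_lit 7) (nat_lit 126) (Steps.fwd (nat_lit 147456) (Steps.fwd (nat_lit 65536) (Steps.bwd (nat_lit 18) (Steps.bwd (nat_lit 2) (Steps.fwd (nat_lit 8192) (Steps.bwd (nat_lit 7) (Steps.bwd (nat_lit 18) Steps.nil))))))) (nat_lit 86) (nat_lit 3),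
  Rule.mk (nat_lit 9) (nat_lit 110) (Steps.bwd (nat_lit 10) (Steps.bwd (nat_lit 4) (Steps.bwd (nat_lit 15) (Steps.bwd (nat_lit 4) (Steps.bwd (nat_lit 9) (Steps.fwd (nat_lit 90112) Steps.nil)))))) (nat_lit 60) (nat_lit 3),
  Rule.mk (nat_lit 3) (nat_lit 126) (Steps.bwd (nat_lit 10) (Steps.fwd (nat_lit 90112) (Steps.fwd (nat_lit 139264) (Steps.bwd (nat_lit 15) (Steps.fwd (nat_lit 114688) (Steps.fwd (nat_lit 24576) (Steps.bwd (nat_lit 15) Steps.nil))))))) (nat_lit 53) (nat_lit 0),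
  Rule.mk (nat_lit 7) (nat_lit 286) (Steps.bwd (nat_lit 10) (Steps.bwd (nat_lit 7) (Steps.fwd (nat_lit 73728) (Steps.fwd (nat_lit 24576) (Steps.fwd (nat_lit 24576) (Steps.fwd (nat_lit 8192) (Steps.fwd (nat_lit 81920) (Steps.fwd (nat_lit 16384) (Steps.bwd (nat_lit 10) (Steps.bwd (nat_lit 2) (Steps.fwd (nat_lit 90112) (Steps.bwd (nat_lit 1) (Steps.bwd (nat_lit 7) (Steps.bwd (nat_lit 10) (Steps.fwd (nat_lit 32768) (Steps.fwd (nat_lit 16384) (Steps.bwd (nat_lit 4) Steps.nil))))))))))))))))) (nat_lit 57) (nat_lit 15),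
  Rule.mk (nat_lit 1) (nat_lit 94) (Steps.bwd (nat_lit 1) (Steps.bwd (nat_lit 1) (Steps.fwd (nat_lit 57344) (Steps.fwd (nat_lit 8192) (Steps.bwd (nat_lit 7) Steps.nil))))) (nat_lit 83) (nat_lit 1),
  Rule.mk (nat_lit 9) (nat_lit 158) (Steps.bwd (nat_lit 15) (Steps.bwd (nat_lit 9) (Steps.fwd (nat_lit 32768) (Steps.fwd (nat_lit 32768) (Steps.bwd (nat_lit 1) (Steps.fwd (nat_lit 106496) (Steps.bwd (nat_lit 11) (Steps.fwd (nat_lit 131072) (Steps.bwd (nat_lit 2) Steps.nil))))))))) (nat_lit 63) (nat_lit 8),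
  Rule.mk (nat_lit 13) (nat_lit 190) (Steps.fwd (nat_lit 73728) (Steps.bwd (nat_lit 12) (Steps.bwd (nat_lit 17) (Steps.bwd (nat_lit 1) (Steps.bwd (nat_lit 14) (Steps.fwd (nat_lit 16384) (Steps.fwd (nat_lit 16384) (Steps.bwd (nat_lit 1) (Steps.fwd (nat_lit 73728) (Steps.fwd (nat_lit 106496) (Steps.bwd (nat_lit 9) Steps.nil))))))))))) (nat_lit 74) (nat_lit 4),
  Rule.mk (nat_lit 8) (nat_lit 270) (Steps.fwd (nat_lit 16384) (Steps.bwd (nat_lit 3) (Steps.fwd (nat_lit 32768) (Steps.fwd (nat_lit 8192) (Steps.fwd (nat_lit 24576) (Steps.bwd (nat_lit 11) (Steps.bwd (nat_lit 17) (Steps.bwd (nat_lit 19) (Steps.fwd (nat_lit 16384) (Steps.bwd (nat_lit 9) (Steps.fwd (nat_lit 16384) (Steps.bwd (nat_lit 9) (Steps.bwd (nat_lit 1) (Steps.fwd (nat_lit 98304) (Steps.bwd (nat_lit 3) (Steps.bwd (nat_lit 9) Steps.nil)))))))))))))))) (nat_lit 77) (nat_lit 0),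
  Rule.mk (nat_lit 11) (nat_lit 286) (Steps.bwd (nat_lit 8) (Steps.fwd (nat_lit 32768) (Steps.bwd (nat_lit 2) (Steps.fwd (nat_lit 24576) (Steps.fwd (nat_lit 81920) (Steps.bwd (nat_lit 8) (Steps.fwd (nat_lit 8192) (Steps.bwd (nat_lit 11) (Steps.fwd (nat_lit 16384) (Steps.fwd (nat_lit 81920) (Steps.fwd (nat_lit 8192) (Steps.fwd (nat_lit 90112) (Steps.bwd (nat_lit 1) (Steps.fwd (nat_lit 32768) (Steps.bwd (nat_lit 3) (Steps.fwd (nat_lit 73728) (Steps.bwd (nat_lit 8) Steps.nil))))))))))))))))) (nat_lit 56) (nat_lit 3),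
  Rule.mk (nat_lit 3) (nat_lit 126) (Steps.bwd (nat_lit 10) (Steps.fwd (nat_lit 90112) (Steps.bwd (nat_lit 16) (Steps.bwd (nat_lit 15) (Steps.fwd (nat_lit 114688) (Steps.bwd (nat_lit 4) (Steps.bwd (nat_lit 15) Steps.nil))))))) (nat_lit 53) (nat_lit 0),
  Rule.mk (nat_lit 7) (nat_lit 286) (Steps.bwd (nat_lit 10) (Steps.fwd (nat_lit 65536) (Steps.bwd (nat_lit 9) (Steps.fwd (nat_lit 24576) (Steps.fwd (nat_lit 24576) (Steps.bwd (nat_lit 2) (Steps.bwd (nat_lit 11) (Steps.bwd (nat_lit 1) (Steps.fwd (nat_lit 90112) (Steps.fwd (nat_lit 8192) (Steps.bwd (nat_lit 10) (Steps.fwd (nat_lit 16384) (Steps.bwd (nat_lit 7) (Steps.fwd (nat_lit 90112) (Steps.bwd (nat_lit 3) (Steps.bwd (nat_lit 1) (Steps.fwd (nat_lit 24576) Steps.nil))))))))))))))))) (nat_lit 57) (nat_lit 15),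
  Rule.mk (nat_lit 2) (nat_lit 286) (Steps.bwd (nat_lit 10) (Steps.fwd (nat_lit 16384) (Steps.fwd (nat_lit 65536) (Steps.bwd (nat_lit 10) (Steps.fwd (nat_lit 32768) (Steps.bwd (nat_lit 1) (Steps.fwd (nat_lit 24576) (Steps.fwd (nat_lit 65536) (Steps.bwd (nat_lit 10) (Steps.fwd (nat_lit 65536) (Steps.fwd (nat_lit 73728) (Steps.bwd (nat_lit 4) (Steps.bwd (nat_lit 4) (Steps.fwd (nat_lit 8192) (Steps.bwd (nat_lit 11) (Steps.fwd (nat_lit 16384) (Steps.bwd (nat_lit 10) Steps.nil))))))))))))))))) (nat_lit 57) (nat_lit 7),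
  Rule.mk (nat_lit 16) (nat_lit 142) (Steps.fwd (nat_lit 16384) (Steps.bwd (nat_lit 17) (Steps.bwd (nat_lit 11) (Steps.fwd (nat_lit 131072) (Steps.bwd (nat_lit 14) (Steps.fwd (nat_lit 106496) (Steps.bwd (nat_lit 11) (Steps.bwd (nat_lit 2) Steps.nil)))))))) (nat_lit 46) (nat_lit 2),
  Rule.mk (nat_lit 9) (nat_lit 110) (Steps.bwd (nat_lit 10) (Steps.fwd (nat_lit 24576) (Steps.bwd (nat_lit 15) (Steps.bwd (nat_lit 4) (Steps.bwd (nat_lit 9) (Steps.bwd (nat_lit 10) Steps.nil)))))) (nat_lit 60) (nat_lit 3),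
  Rule.mk (nat_lit 1) (nat_lit 142) (Steps.bwd (nat_lit 10) (Steps.fwd (nat_lit 98304) (Steps.bwd (nat_lit 15) (Steps.bwd (nat_lit 16) (Steps.bwd (nat_lit 10) (Steps.bwd (nat_lit 16) (Steps.bwd (nat_lit 2) (Steps.bwd (nat_lit 17) Steps.nil)))))))) (nat_lit 47) (nat_lit 0),
  Rule.mk (nat_lit 2) (nat_lit 286) (Steps.bwd (nat_lit 10) (Steps.fwd (nat_lit 16384) (Steps.fwd (nat_lit 32768) (Steps.fwd (nat_lit 32768) (Steps.bwd (nat_lit 9) (Steps.bwd (nat_lit 8) (Steps.fwd (nat_lit 81920) (Steps.bwd (nat_lit 8) (Steps.bwd (nat_lit 3) (Steps.bwd (nat_lit 2) (Steps.bwd (nat_lit 4) (Steps.bwd (nat_lit 11) (Steps.fwd (nat_lit 57344) (Steps.bwd (nat_lit 2) (Steps.bwd (nat_lit 11) (Steps.bwd (nat_lit 1) (Steps.fwd (nat_lit 81920) Steps.nil))))))))))))))))) (nat_lit 56) (nat_lit 14),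
  Rule.mk (nat_lit 7) (nat_lit 286) (Steps.bwd (nat_lit 10) (Steps.bwd (nat_lit 3) (Steps.bwd (nat_lit 1) (Steps.bwd (nat_lit 4) (Steps.bwd (nat_lit 7) (Steps.fwd (nat_lit 90112) (Steps.fwd (nat_lit 65536) (Steps.bwd (nat_lit 9) (Steps.bwd (nat_lit 4) (Steps.fwd (nat_lit 24576) (Steps.bwd (nat_lit 2) (Steps.bwd (nat_lit 11) (Steps.bwd (nat_lit 1) (Steps.fwd (nat_lit 90112) (Steps.bwd (nat_lit 2) (Steps.bwd (nat_lit 10) (Steps.bwd (nat_lit 1) Steps.nil))))))))))))))))) (nat_lit 57) (nat_lit 10),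
  Rule.mk (nat_lit 16) (nat_lit 142) (Steps.bwd (nat_lit 1) (Steps.fwd (nat_lit 131072) (Steps.bwd (nat_lit 11) (Steps.bwd (nat_lit 17) (Steps.fwd (nat_lit 122880) (Steps.fwd (nat_lit 106496) (Steps.fwd (nat_lit 81920) (Steps.fwd (nat_lit 8192) Steps.nil)))))))) (nat_lit 46) (nat_lit 2),
  Rule.mk (nat_lit 9) (nat_lit 206) (Steps.bwd (nat_lit 1) (Steps.fwd (nat_lit 16384) (Steps.fwd (nat_lit 73728) (Steps.bwd (nat_lit 16) (Steps.bwd (nat_lit 19) (Steps.fwd (nat_lit 81920) (Steps.bwd (nat_lit 2) (Steps.bwd (nat_lit 3) (Steps.fwd (nat_lit 8192) (Steps.bwd (nat_lit 4) (Steps.fwd (nat_lit 24576) (Steps.fwd (nat_lit 8192) Steps.nil)))))))))))) (nat_lit 68) (nat_lit 1),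
  Rule.mk (nat_lit 10) (nat_lit 286) (Steps.bwd (nat_lit 1) (Steps.fwd (nat_lit 32768) (Steps.fwd (nat_lit 32768) (Steps.fwd (nat_lit 73728) (Steps.bwd (nat_lit 8) (Steps.bwd (nat_lit 11) (Steps.fwd (nat_lit 57344) (Steps.bwd (nat_lit 3) (Steps.fwd (nat_lit 8192) (Steps.bwd (nat_lit 4) (Steps.bwd (nat_lit 11) (Steps.fwd (nat_lit 57344) (Steps.fwd (nat_lit 8192) (Steps.fwd (nat_lit 81920) (Steps.fwd (nat_lit 16384) (Steps.bwd (nat_lit 11) (Steps.bwd (nat_lit 2) Steps.nil))))))))))))))))) (nat_lit 56) (nat_lit 15),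
  Rule.mk (nat_lit 11) (nat_lit 286) (Steps.bwd (nat_lit 1) (Steps.fwd (nat_lit 81920) (Steps.fwd (nat_lit 8192) (Steps.fwd (nat_lit 90112) (Steps.bwd (nat_lit 1) (Steps.bwd (nat_lit 3) (Steps.bwd (nat_lit 3) (Steps.bwd (nat_lit 9) (Steps.bwd (nat_lit 8) (Steps.fwd (nat_lit 81920) (Steps.bwd (nat_lit 8) (Steps.bwd (nat_lit 3) (Steps.bwd (nat_lit 2) (Steps.fwd (nat_lit 24576) (Steps.fwd (nat_lit 81920) (Steps.bwd (nat_lit 8) (Steps.fwd (nat_lit 8192) Steps.nil))))))))))))))))) (nat_lit 56) (nat_lit 11),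
  Rule.mk (nat_lit 16) (nat_lit 142) (Steps.bwd (nat_lit 1) (Steps.fwd (nat_lit 131072) (Steps.fwd (nat_lit 81920) (Steps.fwd (nat_lit 131072) (Steps.fwd (nat_lit 122880) (Steps.fwd (nat_lit 106496) (Steps.bwd (nat_lit 11) (Steps.bwd (nat_lit 2) Steps.nil)))))))) (nat_lit 46) (nat_lit 2),
  Rule.mk (nat_lit 10) (nat_lit 286) (Steps.bwd (nat_lit 1) (Steps.bwd (nat_lit 3) (Steps.fwd (nat_lit 32768) (Steps.fwd (nat_lit 73728) (Steps.bwd (nat_lit 8) (Steps.fwd (nat_lit 81920) (Steps.bwd (nat_lit 8) (Steps.fwd (nat_lit 32768) (Steps.bwd (nat_lit 2) (Steps.bwd (nat_lit 4) (Steps.fwd (nat_lit 81920) (Steps.fwd (nat_lit 57344) (Steps.bwd (nat_lit 2) (Steps.fwd (nat_lit 81920) (Steps.fwd (nat_lit 16384) (Steps.bwd (nat_lit 11) (Steps.fwd (nat_lit 8192) Steps.nil))))))))))))))))) (nat_lit 56) (nat_lit 15),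
  Rule.mk (nat_lit 11) (nat_lit 286) (Steps.bwd (nat_lit 1) (Steps.bwd (nat_lit 11) (Steps.bwd (nat_lit 2) (Steps.bwd (nat_lit 10) (Steps.bwd (nat_lit 1) (Steps.bwd (nat_lit 3) (Steps.bwd (nat_lit 3) (Steps.bwd (nat_lit 9) (Steps.bwd (nat_lit 8) (Steps.fwd (nat_lit 81920) (Steps.bwd (nat_lit 8) (Steps.bwd (nat_lit 3) (Steps.fwd (nat_lit 8192) (Steps.bwd (nat_lit 4) (Steps.bwd (nat_lit 11) (Steps.bwd (nat_lit 8) (Steps.bwd (nat_lit 2) Steps.nil))))))))))))))))) (nat_lit 56) (nat_lit 11),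
  Rule.mk (nat_lit 8) (nat_lit 270) (Steps.bwd (nat_lit 1) (Steps.bwd (nat_lit 3) (Steps.fwd (nat_lit 32768) (Steps.fwd (nat_lit 8192) (Steps.fwd (nat_lit 24576) (Steps.bwd (nat_lit 11) (Steps.bwd (nat_lit 17) (Steps.fwd (nat_lit 147456) (Steps.bwd (nat_lit 1) (Steps.fwd (nat_lit 73728) (Steps.bwd (nat_lit 1) (Steps.fwd (nat_lit 73728) (Steps.fwd (nat_lit 16384) (Steps.fwd (nat_lit 98304) (Steps.fwd (nat_lit 32768) (Steps.bwd (nat_lit 9) Steps.nil)))))))))))))))) (nat_lit 77) (nat_lit 0),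
  Rule.mk (nat_lit 3) (nat_lit 126) (Steps.bwd (nat_lit 10) (Steps.fwd (nat_lit 90112) (Steps.fwd (nat_lit 139264) (Steps.bwd (nat_lit 15) (Steps.fwd (nat_lit 114688) (Steps.bwd (nat_lit 4) (Steps.fwd (nat_lit 114688) Steps.nil))))))) (nat_lit 53) (nat_lit 0),
  Rule.mk (nat_lit 7) (nat_lit 286) (Steps.bwd (nat_lit 10) (Steps.bwd (nat_lit 7) (Steps.fwd (nat_lit 73728) (Steps.fwd (nat_lit 24576) (Steps.bwd (nat_lit 4) (Steps.bwd (nat_lit 2) (Steps.bwd (nat_lit 11) (Steps.bwd (nat_lit 1) (Steps.bwd (nat_lit 10) (Steps.fwd (nat_lit 8192) (Steps.bwd (nat_lit 10) (Steps.fwd (nat_lit 16384) (Steps.bwd (nat_lit 7) (Steps.bwd (nat_lit 10) (Steps.fwd (nat_lit 32768) (Steps.bwd (nat_lit 1) (Steps.bwd (nat_lit 4) Steps.nil))))))))))))))))) (nat_lit 57) (nat_lit 15),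
  Rule.mk (nat_lit 2) (nat_lit 286) (Steps.bwd (nat_lit 10) (Steps.bwd (nat_lit 1) (Steps.bwd (nat_lit 7) (Steps.fwd (nat_lit 90112) (Steps.bwd (nat_lit 3) (Steps.fwd (nat_lit 16384) (Steps.fwd (nat_lit 24576) (Steps.fwd (nat_lit 65536) (Steps.bwd (nat_lit 10) (Steps.bwd (nat_lit 7) (Steps.fwd (nat_lit 73728) (Steps.bwd (nat_lit 4) (Steps.bwd (nat_lit 4) (Steps.bwd (nat_lit 2) (Steps.fwd (nat_lit 81920) (Steps.fwd (nat_lit 16384) (Steps.bwd (nat_lit 10) Steps.nil))))))))))))))))) (nat_lit 57) (nat_lit 7),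
  Rule.mk (nat_lit 4) (nat_lit 126) (Steps.bwd (nat_lit 13) (Steps.bwd (nat_lit 3) (Steps.bwd (nat_lit 12) (Steps.fwd (nat_lit 122880) (Steps.bwd (nat_lit 17) (Steps.fwd (nat_lit 81920) (Steps.bwd (nat_lit 17) Steps.nil))))))) (nat_lit 51) (nat_lit 6),
  Rule.mk (nat_lit 9) (nat_lit 190) (Steps.bwd (nat_lit 13) (Steps.fwd (nat_lit 73728) (Steps.fwd (nat_lit 106496) (Steps.fwd (nat_lit 131072) (Steps.bwd (nat_lit 1) (Steps.bwd (nat_lit 14) (Steps.bwd (nat_lit 1) (Steps.fwd (nat_lit 16384) (Steps.fwd (nat_lit 16384) (Steps.bwd (nat_lit 9) (Steps.fwd (nat_lit 106496) Steps.nil))))))))))) (nat_lit 74) (nat_lit 3),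
  Rule.mk (nat_lit 8) (nat_lit 286) (Steps.bwd (nat_lit 11) (Steps.bwd (nat_lit 8) (Steps.bwd (nat_lit 3) (Steps.bwd (nat_lit 2) (Steps.bwd (nat_lit 4) (Steps.fwd (nat_lit 81920) (Steps.fwd (nat_lit 57344) (Steps.bwd (nat_lit 2) (Steps.bwd (nat_lit 11) (Steps.fwd (nat_lit 16384) (Steps.bwd (nat_lit 11) (Steps.bwd (nat_lit 2) (Steps.bwd (nat_lit 10) (Steps.bwd (nat_lit 1) (Steps.bwd (nat_lit 3) (Steps.fwd (nat_lit 32768) (Steps.bwd (nat_lit 9) Steps.nil))))))))))))))))) (nat_lit 56) (nat_lit 2),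
  Rule.mk (nat_lit 14) (nat_lit 110) (Steps.bwd (nat_lit 3) (Steps.bwd (nat_lit 11) (Steps.bwd (nat_lit 9) (Steps.bwd (nat_lit 11) (Steps.fwd (nat_lit 73728) (Steps.bwd (nat_lit 3) Steps.nil)))))) (nat_lit 61) (nat_lit 2),
  Rule.mk (nat_lit 12) (nat_lit 126) (Steps.bwd (nat_lit 3) (Steps.fwd (nat_lit 139264) (Steps.fwd (nat_lit 90112) (Steps.bwd (nat_lit 16) (Steps.bwd (nat_lit 15) (Steps.bwd (nat_lit 13) (Steps.fwd (nat_lit 24576) Steps.nil))))))) (nat_lit 50) (nat_lit 2),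
  Rule.mk (nat_lit 13) (nat_lit 126) (Steps.bwd (nat_lit 3) (Steps.fwd (nat_lit 106496) (Steps.bwd (nat_lit 14) (Steps.bwd (nat_lit 17) (Steps.fwd (nat_lit 81920) (Steps.bwd (nat_lit 17) (Steps.fwd (nat_lit 24576) Steps.nil))))))) (nat_lit 51) (nat_lit 7),
  Rule.mk (nat_lit 10) (nat_lit 286) (Steps.bwd (nat_lit 3) (Steps.bwd (nat_lit 1) (Steps.bwd (nat_lit 4) (Steps.bwd (nat_lit 7) (Steps.bwd (nat_lit 10) (Steps.fwd (nat_lit 65536) (Steps.fwd (nat_lit 73728) (Steps.fwd (nat_lit 24576) (Steps.bwd (nat_lit 4) (Steps.bwd (nat_lit 2) (Steps.bwd (nat_lit 11) (Steps.fwd (nat_lit 16384) (Steps.fwd (nat_lit 90112) (Steps.fwd (nat_lit 8192) (Steps.bwd (nat_lit 10) (Steps.bwd (nat_lit 1) (Steps.bwd (nat_lit 7) Steps.nil))))))))))))))))) (nat_lit 57) (nat_lit 11),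
  Rule.mk (nat_lit 19) (nat_lit 126) (Steps.bwd (nat_lit 8) (Steps.bwd (nat_lit 1) (Steps.fwd (nat_lit 16384) (Steps.bwd (nat_lit 19) (Steps.bwd (nat_lit 8) (Steps.fwd (nat_lit 155648) (Steps.fwd (nat_lit 57344) Steps.nil))))))) (nat_lit 87) (nat_lit 7),
  Rule.mk (nat_lit 18) (nat_lit 126) (Steps.bwd (nat_lit 8) (Steps.bwd (nat_lit 19) (Steps.bwd (nat_lit 8) (Steps.fwd (nat_lit 16384) (Steps.bwd (nat_lit 1) (Steps.fwd (nat_lit 147456) (Steps.bwd (nat_lit 8) Steps.nil))))))) (nat_lit 87) (nat_lit 5),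
  Rule.mk (nat_lit 9) (nat_lit 270) (Steps.bwd (nat_lit 8) (Steps.bwd (nat_lit 1) (Steps.bwd (nat_lit 3) (Steps.bwd (nat_lit 3) (Steps.bwd (nat_lit 2) (Steps.bwd (nat_lit 4) (Steps.bwd (nat_lit 11) (Steps.fwd (nat_lit 131072) (Steps.fwd (nat_lit 147456) (Steps.fwd (nat_lit 16384) (Steps.bwd (nat_lit 9) (Steps.fwd (nat_lit 16384) (Steps.bwd (nat_lit 9) (Steps.bwd (nat_lit 1) (Steps.fwd (nat_lit 98304) (Steps.fwd (nat_lit 32768) Steps.nil)))))))))))))))) (nat_lit 77) (nat_lit 16),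
  Rule.mk (nat_lit 11) (nat_lit 286) (Steps.bwd (nat_lit 8) (Steps.bwd (nat_lit 2) (Steps.fwd (nat_lit 81920) (Steps.fwd (nat_lit 16384) (Steps.bwd (nat_lit 11) (Steps.fwd (nat_lit 8192) (Steps.bwd (nat_lit 10) (Steps.fwd (nat_lit 16384) (Steps.bwd (nat_lit 3) (Steps.fwd (nat_lit 32768) (Steps.bwd (nat_lit 9) (Steps.bwd (nat_lit 8) (Steps.fwd (nat_lit 81920) (Steps.bwd (nat_lit 8) (Steps.fwd (nat_lit 32768) (Steps.bwd (nat_lit 2) (Steps.bwd (nat_lit 4) Steps.nil))))))))))))))))) (nat_lit 56) (nat_lit 8),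
  Rule.mk (nat_lit 16) (nat_lit 110) (Steps.bwd (nat_lit 11) (Steps.bwd (nat_lit 14) (Steps.fwd (nat_lit 81920) (Steps.bwd (nat_lit 9) (Steps.bwd (nat_lit 18) (Steps.bwd (nat_lit 9) Steps.nil)))))) (nat_lit 66) (nat_lit 4),
  Rule.mk (nat_lit 2) (nat_lit 286) (Steps.bwd (nat_lit 11) (Steps.fwd (nat_lit 16384) (Steps.fwd (nat_lit 81920) (Steps.fwd (nat_lit 8192) (Steps.fwd (nat_lit 90112) (Steps.bwd (nat_lit 1) (Steps.fwd (nat_lit 32768) (Steps.fwd (nat_lit 32768) (Steps.bwd (nat_lit 9) (Steps.bwd (nat_lit 8) (Steps.bwd (nat_lit 11) (Steps.fwd (nat_lit 57344) (Steps.bwd (nat_lit 3) (Steps.bwd (nat_lit 2) (Steps.bwd (nat_lit 4) (Steps.bwd (nat_lit 11) (Steps.fwd (nat_lit 57344) Steps.nil))))))))))))))))) (nat_lit 56) (nat_lit 10),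
  Rule.mk (nat_lit 4) (nat_lit 286) (Steps.bwd (nat_lit 11) (Steps.bwd (nat_lit 8) (Steps.bwd (nat_lit 2) (Steps.bwd (nat_lit 11) (Steps.fwd (nat_lit 16384) (Steps.fwd (nat_lit 81920) (Steps.bwd (nat_lit 2) (Steps.bwd (nat_lit 10) (Steps.bwd (nat_lit 1) (Steps.fwd (nat_lit 32768) (Steps.bwd (nat_lit 3) (Steps.fwd (nat_lit 73728) (Steps.bwd (nat_lit 8) (Steps.bwd (nat_lit 11) (Steps.bwd (nat_lit 8) (Steps.bwd (nat_lit 3) (Steps.fwd (nat_lit 8192) Steps.nil))))))))))))))))) (nat_lit 56) (nat_lit 7)]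
noncomputable def R_126 : List (Rule) := [Rule.mk (nat_lit 8) (nat_lit 286) (Steps.bwd (nat_lit 11) (Steps.bwd (nat_lit 8) (Steps.bwd (nat_lit 3) (Steps.fwd (nat_lit 8192) (Steps.bwd (nat_lit 4) (Steps.bwd (nat_lit 11) (Steps.fwd (nat_lit 57344) (Steps.bwd (nat_lit 2) (Steps.bwd (nat_lit 11) (Steps.fwd (nat_lit 16384) (Steps.bwd (nat_lit 11) (Steps.fwd (nat_lit 8192) (Steps.fwd (nat_lit 90112) (Steps.bwd (nat_lit 1) (Steps.bwd (nat_lit 3) (Steps.fwd (nat_lit 32768) (Steps.bwd (nat_lit 9) Steps.nil))))))))))))))))) (nat_lit 56) (nat_lit 2),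
  Rule.mk (nat_lit 10) (nat_lit 110) (Steps.bwd (nat_lit 17) (Steps.bwd (nat_lit 9) (Steps.bwd (nat_lit 19) (Steps.bwd (nat_lit 9) (Steps.bwd (nat_lit 10) (Steps.fwd (nat_lit 114688) Steps.nil)))))) (nat_lit 67) (nat_lit 3),
  Rule.mk (nat_lit 9) (nat_lit 110) (Steps.bwd (nat_lit 19) (Steps.fwd (nat_lit 73728) (Steps.bwd (nat_lit 10) (Steps.bwd (nat_lit 15) (Steps.fwd (nat_lit 90112) (Steps.fwd (nat_lit 131072) Steps.nil)))))) (nat_lit 67) (nat_lit 5),
  Rule.mk (nat_lit 8) (nat_lit 126) (Steps.bwd (nat_lit 19) (Steps.fwd (nat_lit 57344) (Steps.fwd (nat_lit 16384) (Steps.bwd (nat_lit 1) (Steps.fwd (nat_lit 147456) (Steps.bwd (nat_lit 8) (Steps.bwd (nat_lit 18) Steps.nil))))))) (nat_lit 87) (nat_lit 6),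
  Rule.mk (nat_lit 17) (nat_lit 158) (Steps.bwd (nat_lit 2) (Steps.bwd (nat_lit 9) (Steps.fwd (nat_lit 114688) (Steps.bwd (nat_lit 9) (Steps.fwd (nat_lit 32768) (Steps.bwd (nat_lit 3) (Steps.bwd (nat_lit 1) (Steps.fwd (nat_lit 106496) (Steps.fwd (nat_lit 81920) Steps.nil))))))))) (nat_lit 63) (nat_lit 6),
  Rule.mk (nat_lit 9) (nat_lit 190) (Steps.bwd (nat_lit 2) (Steps.fwd (nat_lit 8192) (Steps.bwd (nat_lit 2) (Steps.bwd (nat_lit 15) (Steps.bwd (nat_lit 2) (Steps.bwd (nat_lit 16) (Steps.fwd (nat_lit 98304) (Steps.bwd (nat_lit 9) (Steps.fwd (nat_lit 106496) (Steps.bwd (nat_lit 9) (Steps.fwd (nat_lit 98304) Steps.nil))))))))))) (nat_lit 75) (nat_lit 0),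
  Rule.mk (nat_lit 3) (nat_lit 206) (Steps.bwd (nat_lit 2) (Steps.fwd (nat_lit 24576) (Steps.fwd (nat_lit 24576) (Steps.bwd (nat_lit 2) (Steps.bwd (nat_lit 9) (Steps.fwd (nat_lit 16384) (Steps.fwd (nat_lit 16384) (Steps.bwd (nat_lit 9) (Steps.fwd (nat_lit 139264) (Steps.fwd (nat_lit 147456) (Steps.fwd (nat_lit 81920) (Steps.fwd (nat_lit 8192) Steps.nil)))))))))))) (nat_lit 68) (nat_lit 9),
  Rule.mk (nat_lit 8) (nat_lit 126) (Steps.bwd (nat_lit 19) (Steps.fwd (nat_lit 57344) (Steps.fwd (nat_lit 16384) (Steps.bwd (nat_lit 1) (Steps.bwd (nat_lit 19) (Steps.fwd (nat_lit 57344) (Steps.fwd (nat_lit 155648) Steps.nil))))))) (nat_lit 87) (nat_lit 6),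
  Rule.mk (nat_lit 9) (nat_lit 270) (Steps.bwd (nat_lit 4) (Steps.fwd (nat_lit 106496) (Steps.fwd (nat_lit 8192) (Steps.fwd (nat_lit 73728) (Steps.bwd (nat_lit 2) (Steps.fwd (nat_lit 73728) (Steps.fwd (nat_lit 8192) (Steps.bwd (nat_lit 18) (Steps.fwd (nat_lit 139264) (Steps.fwd (nat_lit 90112) (Steps.fwd (nat_lit 32768) (Steps.fwd (nat_lit 16384) (Steps.bwd (nat_lit 4) (Steps.fwd (nat_lit 24576) (Steps.bwd (nat_lit 2) (Steps.bwd (nat_lit 7) Steps.nil)))))))))))))))) (nat_lit 76) (nat_lit 2),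
  Rule.mk (nat_lit 4) (nat_lit 126) (Steps.bwd (nat_lit 12) (Steps.fwd (nat_lit 32768) (Steps.fwd (nat_lit 139264) (Steps.bwd (nat_lit 10) (Steps.fwd (nat_lit 139264) (Steps.bwd (nat_lit 15) (Steps.bwd (nat_lit 13) Steps.nil))))))) (nat_lit 50) (nat_lit 1),
  Rule.mk (nat_lit 9) (nat_lit 190) (Steps.bwd (nat_lit 12) (Steps.fwd (nat_lit 131072) (Steps.fwd (nat_lit 16384) (Steps.fwd (nat_lit 122880) (Steps.fwd (nat_lit 16384) (Steps.fwd (nat_lit 16384) (Steps.fwd (nat_lit 16384) (Steps.bwd (nat_lit 9) (Steps.bwd (nat_lit 12) (Steps.fwd (nat_lit 73728) (Steps.bwd (nat_lit 13) Steps.nil))))))))))) (nat_lit 74) (nat_lit 5),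
  Rule.mk (nat_lit 13) (nat_lit 190) (Steps.bwd (nat_lit 9) (Steps.bwd (nat_lit 12) (Steps.fwd (nat_lit 131072) (Steps.bwd (nat_lit 1) (Steps.fwd (nat_lit 122880) (Steps.bwd (nat_lit 1) (Steps.fwd (nat_lit 16384) (Steps.bwd (nat_lit 1) (Steps.bwd (nat_lit 9) (Steps.bwd (nat_lit 12) (Steps.bwd (nat_lit 9) Steps.nil))))))))))) (nat_lit 74) (nat_lit 4),
  Rule.mk (nat_lit 8) (nat_lit 286) (Steps.fwd (nat_lit 81920) (Steps.bwd (nat_lit 8) (Steps.bwd (nat_lit 3) (Steps.bwd (nat_lit 2) (Steps.bwd (nat_lit 4) (Steps.fwd (nat_lit 81920) (Steps.bwd (nat_lit 8) (Steps.fwd (nat_lit 8192) (Steps.fwd (nat_lit 81920) (Steps.fwd (nat_lit 16384) (Steps.fwd (nat_lit 81920) (Steps.bwd (nat_lit 2) (Steps.bwd (nat_lit 10) (Steps.fwd (nat_lit 16384) (Steps.bwd (nat_lit 3) (Steps.bwd (nat_lit 3) (Steps.bwd (nat_lit 9) Steps.nil))))))))))))))))) (nat_lit 56) (nat_lit 2),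
  Rule.mk (nat_lit 16) (nat_lit 110) (Steps.bwd (nat_lit 16) (Steps.fwd (nat_lit 122880) (Steps.bwd (nat_lit 11) (Steps.fwd (nat_lit 73728) (Steps.fwd (nat_lit 32768) (Steps.fwd (nat_lit 73728) Steps.nil)))))) (nat_lit 70) (nat_lit 4),
  Rule.mk (nat_lit 1) (nat_lit 158) (Steps.bwd (nat_lit 16) (Steps.fwd (nat_lit 90112) (Steps.fwd (nat_lit 98304) (Steps.bwd (nat_lit 2) (Steps.bwd (nat_lit 4) (Steps.bwd (nat_lit 4) (Steps.bwd (nat_lit 9) (Steps.fwd (nat_lit 122880) (Steps.bwd (nat_lit 9) Steps.nil))))))))) (nat_lit 62) (nat_lit 4),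
  Rule.mk (nat_lit 9) (nat_lit 206) (Steps.bwd (nat_lit 1) (Steps.fwd (nat_lit 16384) (Steps.fwd (nat_lit 73728) (Steps.bwd (nat_lit 16) (Steps.fwd (nat_lit 147456) (Steps.bwd (nat_lit 11) (Steps.fwd (nat_lit 8192) (Steps.fwd (nat_lit 32768) (Steps.fwd (nat_lit 8192) (Steps.bwd (nat_lit 4) (Steps.bwd (nat_lit 4) (Steps.fwd (nat_lit 8192) Steps.nil)))))))))))) (nat_lit 68) (nat_lit 1),
  Rule.mk (nat_lit 19) (nat_lit 270) (Steps.bwd (nat_lit 1) (Steps.bwd (nat_lit 9) (Steps.fwd (nat_lit 16384) (Steps.fwd (nat_lit 73728) (Steps.fwd (nat_lit 16384) (Steps.fwd (nat_lit 98304) (Steps.bwd (nat_lit 3) (Steps.fwd (nat_lit 73728) (Steps.fwd (nat_lit 57344) (Steps.fwd (nat_lit 16384) (Steps.fwd (nat_lit 32768) (Steps.bwd (nat_lit 3) (Steps.fwd (nat_lit 8192) (Steps.fwd (nat_lit 24576) (Steps.fwd (nat_lit 81920) (Steps.fwd (nat_lit 131072) Steps.nil)))))))))))))))) (nat_lit 77) (nat_lit 8),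
  Rule.mk (nat_lit 11) (nat_lit 286) (Steps.bwd (nat_lit 1) (Steps.bwd (nat_lit 11) (Steps.bwd (nat_lit 2) (Steps.fwd (nat_lit 90112) (Steps.bwd (nat_lit 1) (Steps.bwd (nat_lit 3) (Steps.fwd (nat_lit 32768) (Steps.fwd (nat_lit 73728) (Steps.bwd (nat_lit 8) (Steps.bwd (nat_lit 11) (Steps.fwd (nat_lit 57344) (Steps.fwd (nat_lit 32768) (Steps.bwd (nat_lit 2) (Steps.bwd (nat_lit 4) (Steps.fwd (nat_lit 81920) (Steps.fwd (nat_lit 57344) (Steps.bwd (nat_lit 2) Steps.nil))))))))))))))))) (nat_lit 56) (nat_lit 11),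
  Rule.mk (nat_lit 10) (nat_lit 286) (Steps.bwd (nat_lit 1) (Steps.bwd (nat_lit 7) (Steps.fwd (nat_lit 90112) (Steps.bwd (nat_lit 3) (Steps.fwd (nat_lit 16384) (Steps.bwd (nat_lit 4) (Steps.bwd (nat_lit 7) (Steps.bwd (nat_lit 10) (Steps.bwd (nat_lit 7) (Steps.bwd (nat_lit 9) (Steps.fwd (nat_lit 24576) (Steps.bwd (nat_lit 4) (Steps.fwd (nat_lit 8192) (Steps.bwd (nat_lit 11) (Steps.bwd (nat_lit 1) (Steps.bwd (nat_lit 10) (Steps.bwd (nat_lit 2) Steps.nil))))))))))))))))) (nat_lit 57) (nat_lit 8),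
  Rule.mk (nat_lit 8) (nat_lit 286) (Steps.bwd (nat_lit 2) (Steps.fwd (nat_lit 81920) (Steps.bwd (nat_lit 1) (Steps.bwd (nat_lit 11) (Steps.bwd (nat_lit 2) (Steps.bwd (nat_lit 10) (Steps.fwd (nat_lit 16384) (Steps.fwd (nat_lit 32768) (Steps.bwd (nat_lit 3) (Steps.fwd (nat_lit 73728) (Steps.fwd (nat_lit 57344) (Steps.fwd (nat_lit 81920) (Steps.bwd (nat_lit 8) (Steps.bwd (nat_lit 3) (Steps.fwd (nat_lit 8192) (Steps.fwd (nat_lit 24576) (Steps.bwd (nat_lit 11) Steps.nil))))))))))))))))) (nat_lit 56) (nat_lit 9),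
  Rule.mk (nat_lit 9) (nat_lit 158) (Steps.bwd (nat_lit 1) (Steps.bwd (nat_lit 16) (Steps.bwd (nat_lit 10) (Steps.bwd (nat_lit 13) (Steps.bwd (nat_lit 2) (Steps.fwd (nat_lit 24576) (Steps.bwd (nat_lit 4) (Steps.fwd (nat_lit 73728) (Steps.bwd (nat_lit 14) Steps.nil))))))))) (nat_lit 62) (nat_lit 3),
  Rule.mk (nat_lit 10) (nat_lit 286) (Steps.bwd (nat_lit 1) (Steps.bwd (nat_lit 3) (Steps.fwd (nat_lit 32768) (Steps.bwd (nat_lit 9) (Steps.bwd (nat_lit 8) (Steps.fwd (nat_lit 81920) (Steps.bwd (nat_lit 8) (Steps.bwd (nat_lit 3) (Steps.fwd (nat_lit 8192) (Steps.fwd (nat_lit 24576) (Steps.bwd (nat_lit 11) (Steps.bwd (nat_lit 8) (Steps.bwd (nat_lit 2) (Steps.bwd (nat_lit 11) (Steps.bwd (nat_lit 1) (Steps.fwd (nat_lit 81920) (Steps.bwd (nat_lit 2) Steps.nil))))))))))))))))) (nat_lit 56) (nat_lit 15),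
  Rule.mk (nat_lit 11) (nat_lit 286) (Steps.bwd (nat_lit 1) (Steps.bwd (nat_lit 11) (Steps.bwd (nat_lit 2) (Steps.fwd (nat_lit 90112) (Steps.bwd (nat_lit 1) (Steps.bwd (nat_lit 3) (Steps.fwd (nat_lit 32768) (Steps.bwd (nat_lit 9) (Steps.fwd (nat_lit 57344) (Steps.fwd (nat_lit 81920) (Steps.bwd (nat_lit 8) (Steps.fwd (nat_lit 32768) (Steps.bwd (nat_lit 2) (Steps.fwd (nat_lit 24576) (Steps.bwd (nat_lit 11) (Steps.fwd (nat_lit 57344) (Steps.bwd (nat_lit 2) Steps.nil))))))))))))))))) (nat_lit 56) (nat_lit 11),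
  Rule.mk (nat_lit 7) (nat_lit 126) (Steps.bwd (nat_lit 19) (Steps.fwd (nat_lit 65536) (Steps.bwd (nat_lit 18) (Steps.bwd (nat_lit 2) (Steps.bwd (nat_lit 2) (Steps.bwd (nat_lit 7) (Steps.fwd (nat_lit 155648) Steps.nil))))))) (nat_lit 86) (nat_lit 3),
  Rule.mk (nat_lit 4) (nat_lit 126) (Steps.bwd (nat_lit 12) (Steps.fwd (nat_lit 32768) (Steps.fwd (nat_lit 139264) (Steps.fwd (nat_lit 90112) (Steps.fwd (nat_lit 139264) (Steps.fwd (nat_lit 114688) (Steps.fwd (nat_lit 98304) Steps.nil))))))) (nat_lit 50) (nat_lit 1),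
  Rule.mk (nat_lit 9) (nat_lit 190) (Steps.bwd (nat_lit 12) (Steps.fwd (nat_lit 131072) (Steps.fwd (nat_lit 16384) (Steps.fwd (nat_lit 122880) (Steps.fwd (nat_lit 16384) (Steps.bwd (nat_lit 1) (Steps.fwd (nat_lit 16384) (Steps.bwd (nat_lit 9) (Steps.fwd (nat_lit 106496) (Steps.bwd (nat_lit 9) (Steps.fwd (nat_lit 98304) Steps.nil))))))))))) (nat_lit 74) (nat_lit 5),
  Rule.mk (nat_lit 13) (nat_lit 190) (Steps.fwd (nat_lit 73728) (Steps.fwd (nat_lit 106496) (Steps.bwd (nat_lit 17) (Steps.bwd (nat_lit 1) (Steps.fwd (nat_lit 122880) (Steps.fwd (nat_lit 16384) (Steps.fwd (nat_lit 16384) (Steps.bwd (nat_lit 1) (Steps.bwd (nat_lit 9) (Steps.fwd (nat_lit 106496) (Steps.bwd (nat_lit 9) Steps.nil))))))))))) (nat_lit 74) (nat_lit 4),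
  Rule.mk (nat_lit 8) (nat_lit 270) (Steps.bwd (nat_lit 1) (Steps.fwd (nat_lit 32768) (Steps.fwd (nat_lit 32768) (Steps.bwd (nat_lit 2) (Steps.fwd (nat_lit 24576) (Steps.fwd (nat_lit 81920) (Steps.fwd (nat_lit 131072) (Steps.fwd (nat_lit 147456) (Steps.bwd (nat_lit 1) (Steps.fwd (nat_lit 73728) (Steps.bwd (nat_lit 1) (Steps.bwd (nat_lit 9) (Steps.fwd (nat_lit 16384) (Steps.bwd (nat_lit 13) (Steps.fwd (nat_lit 32768) (Steps.bwd (nat_lit 9) Steps.nil)))))))))))))))) (nat_lit 77) (nat_lit 0),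
  Rule.mk (nat_lit 4) (nat_lit 126) (Steps.bwd (nat_lit 14) (Steps.bwd (nat_lit 3) (Steps.fwd (nat_lit 122880) (Steps.fwd (nat_lit 122880) (Steps.bwd (nat_lit 17) (Steps.fwd (nat_lit 81920) (Steps.fwd (nat_lit 81920) Steps.nil))))))) (nat_lit 52) (nat_lit 1),
  Rule.mk (nat_lit 9) (nat_lit 158) (Steps.bwd (nat_lit 14) (Steps.fwd (nat_lit 73728) (Steps.fwd (nat_lit 16384) (Steps.fwd (nat_lit 139264) (Steps.fwd (nat_lit 90112) (Steps.fwd (nat_lit 98304) (Steps.bwd (nat_lit 2) (Steps.fwd (nat_lit 24576) (Steps.fwd (nat_lit 24576) Steps.nil))))))))) (nat_lit 62) (nat_lit 1),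
  Rule.mk (nat_lit 1) (nat_lit 190) (Steps.bwd (nat_lit 14) (Steps.fwd (nat_lit 16384) (Steps.fwd (nat_lit 16384) (Steps.fwd (nat_lit 16384) (Steps.fwd (nat_lit 73728) (Steps.bwd (nat_lit 12) (Steps.fwd (nat_lit 73728) (Steps.fwd (nat_lit 98304) (Steps.bwd (nat_lit 9) (Steps.fwd (nat_lit 106496) (Steps.fwd (nat_lit 131072) Steps.nil))))))))))) (nat_lit 74) (nat_lit 8),
  Rule.mk (nat_lit 14) (nat_lit 158) (Steps.bwd (nat_lit 9) (Steps.fwd (nat_lit 16384) (Steps.bwd (nat_lit 16) (Steps.fwd (nat_lit 90112) (Steps.bwd (nat_lit 13) (Steps.bwd (nat_lit 2) (Steps.fwd (nat_lit 24576) (Steps.fwd (nat_lit 24576) (Steps.bwd (nat_lit 9) Steps.nil))))))))) (nat_lit 62) (nat_lit 2),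
  Rule.mk (nat_lit 15) (nat_lit 158) (Steps.bwd (nat_lit 9) (Steps.fwd (nat_lit 32768) (Steps.fwd (nat_lit 32768) (Steps.fwd (nat_lit 16384) (Steps.fwd (nat_lit 106496) (Steps.fwd (nat_lit 81920) (Steps.bwd (nat_lit 17) (Steps.fwd (nat_lit 8192) (Steps.bwd (nat_lit 9) Steps.nil))))))))) (nat_lit 63) (nat_lit 9),
  Rule.mk (nat_lit 2) (nat_lit 158) (Steps.bwd (nat_lit 9) (Steps.bwd (nat_lit 15) (Steps.fwd (nat_lit 73728) (Steps.fwd (nat_lit 32768) (Steps.fwd (nat_lit 32768) (Steps.bwd (nat_lit 1) (Steps.bwd (nat_lit 12) (Steps.bwd (nat_lit 11) (Steps.bwd (nat_lit 17) Steps.nil))))))))) (nat_lit 63) (nat_lit 7),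
  Rule.mk (nat_lit 13) (nat_lit 190) (Steps.bwd (nat_lit 9) (Steps.bwd (nat_lit 12) (Steps.bwd (nat_lit 17) (Steps.bwd (nat_lit 1) (Steps.bwd (nat_lit 14) (Steps.fwd (nat_lit 16384) (Steps.fwd (nat_lit 16384) (Steps.fwd (nat_lit 16384) (Steps.bwd (nat_lit 9) (Steps.bwd (nat_lit 12) (Steps.bwd (nat_lit 9) Steps.nil))))))))))) (nat_lit 74) (nat_lit 4),
  Rule.mk (nat_lit 12) (nat_lit 190) (Steps.bwd (nat_lit 9) (Steps.bwd (nat_lit 13) (Steps.fwd (nat_lit 73728) (Steps.fwd (nat_lit 106496) (Steps.fwd (nat_lit 131072) (Steps.fwd (nat_lit 16384) (Steps.fwd (nat_lit 122880) (Steps.bwd (nat_lit 1) (Steps.bwd (nat_lit 1) (Steps.bwd (nat_lit 1) (Steps.fwd (nat_lit 73728) Steps.nil))))))))))) (nat_lit 74) (nat_lit 2),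
  Rule.mk (nat_lit 7) (nat_lit 270) (Steps.bwd (nat_lit 9) (Steps.bwd (nat_lit 4) (Steps.bwd (nat_lit 12) (Steps.fwd (nat_lit 8192) (Steps.fwd (nat_lit 73728) (Steps.bwd (nat_lit 2) (Steps.fwd (nat_lit 73728) (Steps.bwd (nat_lit 2) (Steps.bwd (nat_lit 18) (Steps.bwd (nat_lit 16) (Steps.fwd (nat_lit 90112) (Steps.bwd (nat_lit 3) (Steps.fwd (nat_lit 16384) (Steps.bwd (nat_lit 4) (Steps.bwd (nat_lit 4) (Steps.fwd (nat_lit 8192) Steps.nil)))))))))))))))) (nat_lit 76) (nat_lit 1),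
  Rule.mk (nat_lit 16) (nat_lit 142) (Steps.bwd (nat_lit 1) (Steps.fwd (nat_lit 131072) (Steps.bwd (nat_lit 11) (Steps.bwd (nat_lit 17) (Steps.bwd (nat_lit 14) (Steps.bwd (nat_lit 12) (Steps.fwd (nat_lit 81920) (Steps.bwd (nat_lit 2) Steps.nil)))))))) (nat_lit 46) (nat_lit 2),
  Rule.mk (nat_lit 17) (nat_lit 142) (Steps.bwd (nat_lit 1) (Steps.fwd (nat_lit 90112) (Steps.bwd (nat_lit 13) (Steps.fwd (nat_lit 114688) (Steps.bwd (nat_lit 16) (Steps.fwd (nat_lit 90112) (Steps.bwd (nat_lit 16) (Steps.fwd (nat_lit 8192) Steps.nil)))))))) (nat_lit 47) (nat_lit 8),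
  Rule.mk (nat_lit 9) (nat_lit 158) (Steps.bwd (nat_lit 1) (Steps.fwd (nat_lit 139264) (Steps.fwd (nat_lit 90112) (Steps.bwd (nat_lit 13) (Steps.bwd (nat_lit 2) (Steps.bwd (nat_lit 4) (Steps.bwd (nat_lit 4) (Steps.fwd (nat_lit 73728) (Steps.fwd (nat_lit 122880) Steps.nil))))))))) (nat_lit 62) (nat_lit 3),
  Rule.mk (nat_lit 10) (nat_lit 286) (Steps.bwd (nat_lit 1) (Steps.fwd (nat_lit 32768) (Steps.bwd (nat_lit 3) (Steps.bwd (nat_lit 9) (Steps.fwd (nat_lit 57344) (Steps.bwd (nat_lit 11) (Steps.fwd (nat_lit 57344) (Steps.fwd (nat_lit 32768) (Steps.fwd (nat_lit 8192) (Steps.bwd (nat_lit 4) (Steps.bwd (nat_lit 11) (Steps.bwd (nat_lit 8) (Steps.bwd (nat_lit 2) (Steps.bwd (nat_lit 11) (Steps.bwd (nat_lit 1) (Steps.fwd (nat_lit 81920) (Steps.bwd (nat_lit 2) Steps.nil))))))))))))))))) (nat_lit 56) (nat_lit 15),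
  Rule.mk (nat_lit 11) (nat_lit 286) (Steps.bwd (nat_lit 1) (Steps.fwd (nat_lit 81920) (Steps.bwd (nat_lit 2) (Steps.fwd (nat_lit 90112) (Steps.bwd (nat_lit 1) (Steps.bwd (nat_lit 3) (Steps.fwd (nat_lit 32768) (Steps.bwd (nat_lit 9) (Steps.fwd (nat_lit 57344) (Steps.fwd (nat_lit 81920) (Steps.bwd (nat_lit 8) (Steps.bwd (nat_lit 3) (Steps.bwd (nat_lit 2) (Steps.bwd (nat_lit 4) (Steps.bwd (nat_lit 11) (Steps.bwd (nat_lit 8) (Steps.bwd (nat_lit 2) Steps.nil))))))))))))))))) (nat_lit 56) (nat_lit 11),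
  Rule.mk (nat_lit 9) (nat_lit 270) (Steps.bwd (nat_lit 8) (Steps.bwd (nat_lit 1) (Steps.fwd (nat_lit 32768) (Steps.fwd (nat_lit 32768) (Steps.bwd (nat_lit 2) (Steps.bwd (nat_lit 4) (Steps.bwd (nat_lit 11) (Steps.fwd (nat_lit 131072) (Steps.fwd (nat_lit 147456) (Steps.bwd (nat_lit 1) (Steps.bwd (nat_lit 9) (Steps.fwd (nat_lit 16384) (Steps.bwd (nat_lit 9) (Steps.bwd (nat_lit 1) (Steps.fwd (nat_lit 98304) (Steps.bwd (nat_lit 3) Steps.nil)))))))))))))))) (nat_lit 77) (nat_lit 16),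
  Rule.mk (nat_lit 11) (nat_lit 286) (Steps.bwd (nat_lit 8) (Steps.bwd (nat_lit 2) (Steps.fwd (nat_lit 81920) (Steps.fwd (nat_lit 16384) (Steps.bwd (nat_lit 11) (Steps.fwd (nat_lit 8192) (Steps.bwd (nat_lit 10) (Steps.fwd (nat_lit 16384) (Steps.bwd (nat_lit 3) (Steps.bwd (nat_lit 3) (Steps.fwd (nat_lit 73728) (Steps.fwd (nat_lit 57344) (Steps.bwd (nat_lit 11) (Steps.bwd (nat_lit 8) (Steps.bwd (nat_lit 3) (Steps.bwd (nat_lit 2) (Steps.bwd (nat_lit 4) Steps.nil))))))))))))))))) (nat_lit 56) (nat_lit 8),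
  Rule.mk (nat_lit 9) (nat_lit 110) (Steps.bwd (nat_lit 18) (Steps.bwd (nat_lit 9) (Steps.bwd (nat_lit 16) (Steps.fwd (nat_lit 81920) (Steps.fwd (nat_lit 122880) (Steps.fwd (nat_lit 81920) Steps.nil)))))) (nat_lit 66) (nat_lit 1),
  Rule.mk (nat_lit 9) (nat_lit 158) (Steps.bwd (nat_lit 1) (Steps.fwd (nat_lit 139264) (Steps.fwd (nat_lit 90112) (Steps.bwd (nat_lit 13) (Steps.bwd (nat_lit 2) (Steps.bwd (nat_lit 4) (Steps.bwd (nat_lit 4) (Steps.bwd (nat_lit 9) (Steps.fwd (nat_lit 122880) Steps.nil))))))))) (nat_lit 62) (nat_lit 3),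
  Rule.mk (nat_lit 10) (nat_lit 286) (Steps.bwd (nat_lit 1) (Steps.bwd (nat_lit 3) (Steps.bwd (nat_lit 3) (Steps.bwd (nat_lit 9) (Steps.bwd (nat_lit 8) (Steps.fwd (nat_lit 81920) (Steps.bwd (nat_lit 8) (Steps.bwd (nat_lit 3) (Steps.fwd (nat_lit 8192) (Steps.fwd (nat_lit 24576) (Steps.bwd (nat_lit 11) (Steps.fwd (nat_lit 57344) (Steps.fwd (nat_lit 8192) (Steps.bwd (nat_lit 11) (Steps.fwd (nat_lit 16384) (Steps.bwd (nat_lit 11) (Steps.bwd (nat_lit 2) Steps.nil))))))))))))))))) (nat_lit 56) (nat_lit 15),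
  Rule.mk (nat_lit 11) (nat_lit 286) (Steps.bwd (nat_lit 1) (Steps.bwd (nat_lit 10) (Steps.fwd (nat_lit 8192) (Steps.fwd (nat_lit 90112) (Steps.bwd (nat_lit 1) (Steps.fwd (nat_lit 65536) (Steps.bwd (nat_lit 10) (Steps.fwd (nat_lit 32768) (Steps.fwd (nat_lit 16384) (Steps.fwd (nat_lit 24576) (Steps.bwd (nat_lit 7) (Steps.bwd (nat_lit 10) (Steps.fwd (nat_lit 65536) (Steps.bwd (nat_lit 9) (Steps.bwd (nat_lit 4) (Steps.fwd (nat_lit 24576) (Steps.fwd (nat_lit 8192) Steps.nil))))))))))))))))) (nat_lit 57) (nat_lit 4),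
  Rule.mk (nat_lit 19) (nat_lit 126) (Steps.bwd (nat_lit 7) (Steps.fwd (nat_lit 155648) (Steps.fwd (nat_lit 8192) (Steps.fwd (nat_lit 8192) (Steps.fwd (nat_lit 65536) (Steps.fwd (nat_lit 155648) (Steps.fwd (nat_lit 65536) Steps.nil))))))) (nat_lit 86) (nat_lit 4),
  Rule.mk (nat_lit 10) (nat_lit 286) (Steps.bwd (nat_lit 7) (Steps.fwd (nat_lit 73728) (Steps.bwd (nat_lit 4) (Steps.fwd (nat_lit 24576) (Steps.bwd (nat_lit 2) (Steps.bwd (nat_lit 11) (Steps.bwd (nat_lit 1) (Steps.bwd (nat_lit 10) (Steps.bwd (nat_lit 2) (Steps.bwd (nat_lit 10) (Steps.bwd (nat_lit 1) (Steps.bwd (nat_lit 7) (Steps.fwd (nat_lit 90112) (Steps.fwd (nat_lit 32768) (Steps.fwd (nat_lit 16384) (Steps.fwd (nat_lit 24576) (Steps.fwd (nat_lit 65536) Steps.nil))))))))))))))))) (nat_lit 57) (nat_lit 16),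
  Rule.mk (nat_lit 17) (nat_lit 110) (Steps.fwd (nat_lit 73728) (Steps.bwd (nat_lit 19) (Steps.fwd (nat_lit 73728) (Steps.bwd (nat_lit 10) (Steps.fwd (nat_lit 114688) (Steps.bwd (nat_lit 10) Steps.nil)))))) (nat_lit 67) (nat_lit 4),
  Rule.mk (nat_lit 15) (nat_lit 110) (Steps.fwd (nat_lit 90112) (Steps.fwd (nat_lit 131072) (Steps.bwd (nat_lit 9) (Steps.bwd (nat_lit 19) (Steps.fwd (nat_lit 73728) (Steps.bwd (nat_lit 10) Steps.nil)))))) (nat_lit 67) (nat_lit 2),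
  Rule.mk (nat_lit 13) (nat_lit 142) (Steps.bwd (nat_lit 15) (Steps.fwd (nat_lit 139264) (Steps.fwd (nat_lit 90112) (Steps.bwd (nat_lit 16) (Steps.fwd (nat_lit 8192) (Steps.bwd (nat_lit 17) (Steps.bwd (nat_lit 1) (Steps.bwd (nat_lit 10) Steps.nil)))))))) (nat_lit 47) (nat_lit 2),
  Rule.mk (nat_lit 3) (nat_lit 110) (Steps.bwd (nat_lit 11) (Steps.bwd (nat_lit 9) (Steps.bwd (nat_lit 11) (Steps.bwd (nat_lit 9) (Steps.fwd (nat_lit 32768) (Steps.bwd (nat_lit 14) Steps.nil)))))) (nat_lit 61) (nat_lit 3),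
  Rule.mk (nat_lit 14) (nat_lit 110) (Steps.bwd (nat_lit 11) (Steps.bwd (nat_lit 9) (Steps.fwd (nat_lit 155648) (Steps.bwd (nat_lit 9) (Steps.fwd (nat_lit 139264) (Steps.fwd (nat_lit 81920) Steps.nil)))))) (nat_lit 66) (nat_lit 6),
  Rule.mk (nat_lit 12) (nat_lit 142) (Steps.bwd (nat_lit 11) (Steps.bwd (nat_lit 2) (Steps.fwd (nat_lit 139264) (Steps.bwd (nat_lit 1) (Steps.fwd (nat_lit 131072) (Steps.fwd (nat_lit 81920) (Steps.bwd (nat_lit 17) (Steps.bwd (nat_lit 14) Steps.nil)))))))) (nat_lit 46) (nat_lit 8),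
  Rule.mk (nat_lit 4) (nat_lit 270) (Steps.bwd (nat_lit 11) (Steps.bwd (nat_lit 17) (Steps.bwd (nat_lit 19) (Steps.bwd (nat_lit 1) (Steps.fwd (nat_lit 73728) (Steps.fwd (nat_lit 16384) (Steps.fwd (nat_lit 73728) (Steps.fwd (nat_lit 16384) (Steps.bwd (nat_lit 13) (Steps.bwd (nat_lit 3) (Steps.bwd (nat_lit 9) (Steps.fwd (nat_lit 57344) (Steps.bwd (nat_lit 1) (Steps.bwd (nat_lit 3) (Steps.fwd (nat_lit 32768) (Steps.bwd (nat_lit 2) Steps.nil)))))))))))))))) (nat_lit 77) (nat_lit 5),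
  Rule.mk (nat_lit 8) (nat_lit 286) (Steps.bwd (nat_lit 11) (Steps.fwd (nat_lit 57344) (Steps.fwd (nat_lit 32768) (Steps.fwd (nat_lit 8192) (Steps.bwd (nat_lit 4) (Steps.bwd (nat_lit 11) (Steps.fwd (nat_lit 57344) (Steps.bwd (nat_lit 2) (Steps.fwd (nat_lit 81920) (Steps.fwd (nat_lit 16384) (Steps.fwd (nat_lit 81920) (Steps.fwd (nat_lit 8192) (Steps.fwd (nat_lit 90112) (Steps.fwd (nat_lit 16384) (Steps.fwd (nat_lit 32768) (Steps.bwd (nat_lit 3) (Steps.fwd (nat_lit 73728) Steps.nil))))))))))))))))) (nat_lit 56) (nat_lit 2),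
  Rule.mk (nat_lit 2) (nat_lit 286) (Steps.bwd (nat_lit 11) (Steps.bwd (nat_lit 1) (Steps.fwd (nat_lit 90112) (Steps.bwd (nat_lit 2) (Steps.bwd (nat_lit 10) (Steps.fwd (nat_lit 16384) (Steps.bwd (nat_lit 7) (Steps.fwd (nat_lit 90112) (Steps.fwd (nat_lit 32768) (Steps.bwd (nat_lit 1) (Steps.fwd (nat_lit 24576) (Steps.bwd (nat_lit 7) (Steps.fwd (nat_lit 90112) (Steps.bwd (nat_lit 7) (Steps.bwd (nat_lit 9) (Steps.fwd (nat_lit 24576) (Steps.fwd (nat_lit 24576) Steps.nil))))))))))))))))) (nat_lit 57) (nat_lit 3),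
  Rule.mk (nat_lit 10) (nat_lit 270) (Steps.bwd (nat_lit 3) (Steps.bwd (nat_lit 1) (Steps.bwd (nat_lit 4) (Steps.bwd (nat_lit 4) (Steps.fwd (nat_lit 8192) (Steps.bwd (nat_lit 7) (Steps.fwd (nat_lit 73728) (Steps.bwd (nat_lit 4) (Steps.bwd (nat_lit 12) (Steps.bwd (nat_lit 2) (Steps.bwd (nat_lit 9) (Steps.fwd (nat_lit 8192) (Steps.fwd (nat_lit 73728) (Steps.fwd (nat_lit 8192) (Steps.fwd (nat_lit 155648) (Steps.bwd (nat_lit 16) Steps.nil)))))))))))))))) (nat_lit 76) (nat_lit 12),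
  Rule.mk (nat_lit 9) (nat_lit 110) (Steps.bwd (nat_lit 16) (Steps.fwd (nat_lit 73728) (Steps.fwd (nat_lit 131072) (Steps.fwd (nat_lit 122880) (Steps.bwd (nat_lit 4) (Steps.fwd (nat_lit 24576) Steps.nil)))))) (nat_lit 64) (nat_lit 1),
  Rule.mk (nat_lit 16) (nat_lit 110) (Steps.bwd (nat_lit 16) (Steps.fwd (nat_lit 122880) (Steps.bwd (nat_lit 11) (Steps.bwd (nat_lit 9) (Steps.bwd (nat_lit 3) (Steps.bwd (nat_lit 9) Steps.nil)))))) (nat_lit 70) (nat_lit 4),
  Rule.mk (nat_lit 1) (nat_lit 158) (Steps.bwd (nat_lit 16) (Steps.fwd (nat_lit 90112) (Steps.bwd (nat_lit 13) (Steps.bwd (nat_lit 2) (Steps.fwd (nat_lit 24576) (Steps.fwd (nat_lit 24576) (Steps.fwd (nat_lit 73728) (Steps.fwd (nat_lit 122880) (Steps.fwd (nat_lit 73728) Steps.nil))))))))) (nat_lit 62) (nat_lit 4),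
  Rule.mk (nat_lit 7) (nat_lit 126) (Steps.bwd (nat_lit 19) (Steps.bwd (nat_lit 7) (Steps.fwd (nat_lit 155648) (Steps.bwd (nat_lit 2) (Steps.bwd (nat_lit 2) (Steps.fwd (nat_lit 65536) (Steps.bwd (nat_lit 18) Steps.nil))))))) (nat_lit 86) (nat_lit 3)]
noncomputable def R_127 : List (Rule) := [Rule.mk (nat_lit 4) (nat_lit 126) (Steps.bwd (nat_lit 13) (Steps.fwd (nat_lit 32768) (Steps.fwd (nat_lit 106496) (Steps.fwd (nat_lit 122880) (Steps.bwd (nat_lit 17) (Steps.bwd (nat_lit 11) (Steps.fwd (nat_lit 131072) Steps.nil))))))) (nat_lit 51) (nat_lit 6),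
  Rule.mk (nat_lit 12) (nat_lit 126) (Steps.bwd (nat_lit 3) (Steps.fwd (nat_lit 139264) (Steps.bwd (nat_lit 10) (Steps.fwd (nat_lit 139264) (Steps.fwd (nat_lit 114688) (Steps.bwd (nat_lit 13) (Steps.bwd (nat_lit 4) Steps.nil))))))) (nat_lit 50) (nat_lit 2),
  Rule.mk (nat_lit 11) (nat_lit 270) (Steps.bwd (nat_lit 17) (Steps.fwd (nat_lit 147456) (Steps.bwd (nat_lit 1) (Steps.bwd (nat_lit 9) (Steps.bwd (nat_lit 1) (Steps.bwd (nat_lit 9) (Steps.fwd (nat_lit 16384) (Steps.fwd (nat_lit 98304) (Steps.bwd (nat_lit 3) (Steps.bwd (nat_lit 9) (Steps.fwd (nat_lit 57344) (Steps.bwd (nat_lit 1) (Steps.fwd (nat_lit 32768) (Steps.fwd (nat_lit 32768) (Steps.fwd (nat_lit 8192) (Steps.bwd (nat_lit 4) Steps.nil)))))))))))))))) (nat_lit 77) (nat_lit 6),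
  Rule.mk (nat_lit 9) (nat_lit 158) (Steps.bwd (nat_lit 1) (Steps.fwd (nat_lit 139264) (Steps.bwd (nat_lit 10) (Steps.bwd (nat_lit 13) (Steps.fwd (nat_lit 8192) (Steps.fwd (nat_lit 24576) (Steps.fwd (nat_lit 24576) (Steps.fwd (nat_lit 73728) (Steps.fwd (nat_lit 122880) Steps.nil))))))))) (nat_lit 62) (nat_lit 3),
  Rule.mk (nat_lit 10) (nat_lit 286) (Steps.bwd (nat_lit 1) (Steps.fwd (nat_lit 32768) (Steps.fwd (nat_lit 32768) (Steps.fwd (nat_lit 73728) (Steps.fwd (nat_lit 57344) (Steps.fwd (nat_lit 81920) (Steps.fwd (nat_lit 57344) (Steps.fwd (nat_lit 32768) (Steps.bwd (nat_lit 2) (Steps.bwd (nat_lit 4) (Steps.fwd (nat_lit 81920) (Steps.fwd (nat_lit 57344) (Steps.bwd (nat_lit 2) (Steps.bwd (nat_lit 11) (Steps.fwd (nat_lit 16384) (Steps.bwd (nat_lit 11) (Steps.fwd (nat_lit 8192) Steps.nil))))))))))))))))) (nat_lit 56) (nat_lit 15),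
  Rule.mk (nat_lit 11) (nat_lit 286) (Steps.bwd (nat_lit 1) (Steps.bwd (nat_lit 11) (Steps.bwd (nat_lit 2) (Steps.fwd (nat_lit 90112) (Steps.bwd (nat_lit 1) (Steps.bwd (nat_lit 3) (Steps.bwd (nat_lit 3) (Steps.bwd (nat_lit 9) (Steps.fwd (nat_lit 57344) (Steps.bwd (nat_lit 11) (Steps.bwd (nat_lit 8) (Steps.fwd (nat_lit 32768) (Steps.bwd (nat_lit 2) (Steps.bwd (nat_lit 4) (Steps.fwd (nat_lit 81920) (Steps.bwd (nat_lit 8) (Steps.bwd (nat_lit 2) Steps.nil))))))))))))))))) (nat_lit 56) (nat_lit 11),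
  Rule.mk (nat_lit 19) (nat_lit 126) (Steps.bwd (nat_lit 7) (Steps.fwd (nat_lit 155648) (Steps.bwd (nat_lit 2) (Steps.bwd (nat_lit 2) (Steps.bwd (nat_lit 7) (Steps.fwd (nat_lit 155648) (Steps.bwd (nat_lit 7) Steps.nil))))))) (nat_lit 86) (nat_lit 4),
  Rule.mk (nat_lit 7) (nat_lit 126) (Steps.bwd (nat_lit 19) (Steps.bwd (nat_lit 7) (Steps.fwd (nat_lit 155648) (Steps.fwd (nat_lit 8192) (Steps.fwd (nat_lit 8192) (Steps.bwd (nat_lit 7) (Steps.fwd (nat_lit 155648) Steps.nil))))))) (nat_lit 86) (nat_lit 3),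
  Rule.mk (nat_lit 19) (nat_lit 126) (Steps.bwd (nat_lit 8) (Steps.fwd (nat_lit 16384) (Steps.bwd (nat_lit 1) (Steps.bwd (nat_lit 19) (Steps.bwd (nat_lit 8) (Steps.fwd (nat_lit 155648) (Steps.bwd (nat_lit 8) Steps.nil))))))) (nat_lit 87) (nat_lit 7),
  Rule.mk (nat_lit 9) (nat_lit 270) (Steps.bwd (nat_lit 8) (Steps.fwd (nat_lit 16384) (Steps.bwd (nat_lit 3) (Steps.fwd (nat_lit 32768) (Steps.fwd (nat_lit 8192) (Steps.fwd (nat_lit 24576) (Steps.fwd (nat_lit 81920) (Steps.fwd (nat_lit 131072) (Steps.fwd (nat_lit 147456) (Steps.fwd (nat_lit 16384) (Steps.fwd (nat_lit 73728) (Steps.bwd (nat_lit 1) (Steps.fwd (nat_lit 73728) (Steps.fwd (nat_lit 16384) (Steps.fwd (nat_lit 98304) (Steps.fwd (nat_lit 32768) Steps.nil)))))))))))))))) (nat_lit 77) (nat_lit 16),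
  Rule.mk (nat_lit 11) (nat_lit 286) (Steps.bwd (nat_lit 8) (Steps.fwd (nat_lit 8192) (Steps.bwd (nat_lit 11) (Steps.bwd (nat_lit 1) (Steps.bwd (nat_lit 11) (Steps.bwd (nat_lit 2) (Steps.fwd (nat_lit 90112) (Steps.fwd (nat_lit 16384) (Steps.fwd (nat_lit 32768) (Steps.fwd (nat_lit 32768) (Steps.fwd (nat_lit 73728) (Steps.bwd (nat_lit 8) (Steps.fwd (nat_lit 81920) (Steps.fwd (nat_lit 57344) (Steps.bwd (nat_lit 3) (Steps.fwd (nat_lit 8192) (Steps.bwd (nat_lit 4) Steps.nil))))))))))))))))) (nat_lit 56) (nat_lit 8),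
  Rule.mk (nat_lit 14) (nat_lit 110) (Steps.bwd (nat_lit 3) (Steps.bwd (nat_lit 11) (Steps.bwd (nat_lit 9) (Steps.fwd (nat_lit 81920) (Steps.fwd (nat_lit 73728) (Steps.bwd (nat_lit 3) Steps.nil)))))) (nat_lit 61) (nat_lit 2),
  Rule.mk (nat_lit 12) (nat_lit 126) (Steps.bwd (nat_lit 3) (Steps.bwd (nat_lit 16) (Steps.bwd (nat_lit 10) (Steps.bwd (nat_lit 16) (Steps.bwd (nat_lit 15) (Steps.fwd (nat_lit 98304) (Steps.bwd (nat_lit 4) Steps.nil))))))) (nat_lit 50) (nat_lit 2),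
  Rule.mk (nat_lit 10) (nat_lit 270) (Steps.bwd (nat_lit 3) (Steps.bwd (nat_lit 1) (Steps.fwd (nat_lit 24576) (Steps.fwd (nat_lit 24576) (Steps.bwd (nat_lit 2) (Steps.fwd (nat_lit 65536) (Steps.bwd (nat_lit 9) (Steps.bwd (nat_lit 4) (Steps.fwd (nat_lit 106496) (Steps.fwd (nat_lit 8192) (Steps.bwd (nat_lit 9) (Steps.bwd (nat_lit 2) (Steps.bwd (nat_lit 9) (Steps.bwd (nat_lit 2) (Steps.fwd (nat_lit 155648) (Steps.bwd (nat_lit 16) Steps.nil)))))))))))))))) (nat_lit 76) (nat_lit 12),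
  Rule.mk (nat_lit 10) (nat_lit 270) (Steps.bwd (nat_lit 3) (Steps.fwd (nat_lit 16384) (Steps.fwd (nat_lit 24576) (Steps.fwd (nat_lit 24576) (Steps.fwd (nat_lit 8192) (Steps.fwd (nat_lit 65536) (Steps.bwd (nat_lit 9) (Steps.fwd (nat_lit 24576) (Steps.bwd (nat_lit 12) (Steps.bwd (nat_lit 2) (Steps.bwd (nat_lit 9) (Steps.fwd (nat_lit 8192) (Steps.fwd (nat_lit 73728) (Steps.bwd (nat_lit 2) (Steps.fwd (nat_lit 155648) (Steps.fwd (nat_lit 139264) Steps.nil)))))))))))))))) (nat_lit 76) (nat_lit 12),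
  Rule.mk (nat_lit 13) (nat_lit 270) (Steps.bwd (nat_lit 3) (Steps.bwd (nat_lit 9) (Steps.bwd (nat_lit 8) (Steps.bwd (nat_lit 1) (Steps.bwd (nat_lit 3) (Steps.fwd (nat_lit 32768) (Steps.bwd (nat_lit 2) (Steps.bwd (nat_lit 4) (Steps.fwd (nat_lit 81920) (Steps.bwd (nat_lit 17) (Steps.fwd (nat_lit 147456) (Steps.bwd (nat_lit 1) (Steps.bwd (nat_lit 9) (Steps.bwd (nat_lit 1) (Steps.bwd (nat_lit 9) (Steps.bwd (nat_lit 1) Steps.nil)))))))))))))))) (nat_lit 77) (nat_lit 14),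
  Rule.mk (nat_lit 14) (nat_lit 158) (Steps.bwd (nat_lit 9) (Steps.bwd (nat_lit 1) (Steps.fwd (nat_lit 139264) (Steps.bwd (nat_lit 10) (Steps.fwd (nat_lit 98304) (Steps.bwd (nat_lit 2) (Steps.fwd (nat_lit 24576) (Steps.bwd (nat_lit 4) (Steps.bwd (nat_lit 9) Steps.nil))))))))) (nat_lit 62) (nat_lit 2),
  Rule.mk (nat_lit 15) (nat_lit 158) (Steps.bwd (nat_lit 9) (Steps.fwd (nat_lit 32768) (Steps.fwd (nat_lit 32768) (Steps.bwd (nat_lit 1) (Steps.bwd (nat_lit 12) (Steps.fwd (nat_lit 81920) (Steps.fwd (nat_lit 131072) (Steps.fwd (nat_lit 8192) (Steps.fwd (nat_lit 73728) Steps.nil))))))))) (nat_lit 63) (nat_lit 9),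
  Rule.mk (nat_lit 2) (nat_lit 158) (Steps.bwd (nat_lit 9) (Steps.bwd (nat_lit 15) (Steps.fwd (nat_lit 73728) (Steps.fwd (nat_lit 32768) (Steps.fwd (nat_lit 32768) (Steps.fwd (nat_lit 16384) (Steps.bwd (nat_lit 12) (Steps.fwd (nat_lit 81920) (Steps.fwd (nat_lit 131072) Steps.nil))))))))) (nat_lit 63) (nat_lit 7),
  Rule.mk (nat_lit 13) (nat_lit 190) (Steps.bwd (nat_lit 9) (Steps.fwd (nat_lit 106496) (Steps.bwd (nat_lit 17) (Steps.fwd (nat_lit 16384) (Steps.bwd (nat_lit 14) (Steps.fwd (nat_lit 16384) (Steps.fwd (nat_lit 16384) (Steps.fwd (nat_lit 16384) (Steps.bwd (nat_lit 9) (Steps.fwd (nat_lit 106496) (Steps.fwd (nat_lit 73728) Steps.nil))))))))))) (nat_lit 74) (nat_lit 4),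
  Rule.mk (nat_lit 12) (nat_lit 190) (Steps.bwd (nat_lit 9) (Steps.bwd (nat_lit 13) (Steps.fwd (nat_lit 73728) (Steps.fwd (nat_lit 106496) (Steps.bwd (nat_lit 17) (Steps.fwd (nat_lit 16384) (Steps.bwd (nat_lit 14) (Steps.fwd (nat_lit 16384) (Steps.fwd (nat_lit 16384) (Steps.bwd (nat_lit 1) (Steps.bwd (nat_lit 9) Steps.nil))))))))))) (nat_lit 74) (nat_lit 2),
  Rule.mk (nat_lit 1) (nat_lit 190) (Steps.bwd (nat_lit 9) (Steps.fwd (nat_lit 106496) (Steps.bwd (nat_lit 9) (Steps.bwd (nat_lit 13) (Steps.fwd (nat_lit 73728) (Steps.bwd (nat_lit 12) (Steps.fwd (nat_lit 131072) (Steps.bwd (nat_lit 1) (Steps.fwd (nat_lit 122880) (Steps.fwd (nat_lit 16384) (Steps.bwd (nat_lit 1) Steps.nil))))))))))) (nat_lit 74) (nat_lit 0),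
  Rule.mk (nat_lit 7) (nat_lit 270) (Steps.bwd (nat_lit 9) (Steps.bwd (nat_lit 4) (Steps.fwd (nat_lit 106496) (Steps.fwd (nat_lit 8192) (Steps.bwd (nat_lit 9) (Steps.bwd (nat_lit 2) (Steps.bwd (nat_lit 9) (Steps.bwd (nat_lit 2) (Steps.fwd (nat_lit 155648) (Steps.bwd (nat_lit 16) (Steps.fwd (nat_lit 90112) (Steps.bwd (nat_lit 3) (Steps.bwd (nat_lit 1) (Steps.bwd (nat_lit 4) (Steps.fwd (nat_lit 24576) (Steps.fwd (nat_lit 8192) Steps.nil)))))))))))))))) (nat_lit 76) (nat_lit 1),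
  Rule.mk (nat_lit 19) (nat_lit 126) (Steps.bwd (nat_lit 7) (Steps.bwd (nat_lit 18) (Steps.fwd (nat_lit 8192) (Steps.bwd (nat_lit 2) (Steps.bwd (nat_lit 7) (Steps.bwd (nat_lit 18) (Steps.bwd (nat_lit 7) Steps.nil))))))) (nat_lit 86) (nat_lit 4),
  Rule.mk (nat_lit 12) (nat_lit 142) (Steps.bwd (nat_lit 11) (Steps.fwd (nat_lit 8192) (Steps.fwd (nat_lit 139264) (Steps.bwd (nat_lit 1) (Steps.bwd (nat_lit 17) (Steps.fwd (nat_lit 81920) (Steps.fwd (nat_lit 131072) (Steps.bwd (nat_lit 14) Steps.nil)))))))) (nat_lit 46) (nat_lit 8),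
  Rule.mk (nat_lit 4) (nat_lit 270) (Steps.bwd (nat_lit 11) (Steps.fwd (nat_lit 131072) (Steps.bwd (nat_lit 19) (Steps.bwd (nat_lit 1) (Steps.fwd (nat_lit 73728) (Steps.bwd (nat_lit 1) (Steps.fwd (nat_lit 73728) (Steps.bwd (nat_lit 1) (Steps.fwd (nat_lit 98304) (Steps.fwd (nat_lit 32768) (Steps.fwd (nat_lit 73728) (Steps.bwd (nat_lit 8) (Steps.bwd (nat_lit 1) (Steps.fwd (nat_lit 32768) (Steps.fwd (nat_lit 32768) (Steps.fwd (nat_lit 8192) Steps.nil)))))))))))))))) (nat_lit 77) (nat_lit 5),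
  Rule.mk (nat_lit 2) (nat_lit 286) (Steps.bwd (nat_lit 11) (Steps.fwd (nat_lit 16384) (Steps.bwd (nat_lit 11) (Steps.bwd (nat_lit 2) (Steps.bwd (nat_lit 10) (Steps.fwd (nat_lit 16384) (Steps.bwd (nat_lit 3) (Steps.fwd (nat_lit 32768) (Steps.fwd (nat_lit 73728) (Steps.bwd (nat_lit 8) (Steps.fwd (nat_lit 81920) (Steps.bwd (nat_lit 8) (Steps.bwd (nat_lit 3) (Steps.fwd (nat_lit 8192) (Steps.fwd (nat_lit 24576) (Steps.bwd (nat_lit 11) (Steps.fwd (nat_lit 57344) Steps.nil))))))))))))))))) (nat_lit 56) (nat_lit 10),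
  Rule.mk (nat_lit 4) (nat_lit 126) (Steps.bwd (nat_lit 13) (Steps.fwd (nat_lit 32768) (Steps.bwd (nat_lit 12) (Steps.bwd (nat_lit 14) (Steps.bwd (nat_lit 17) (Steps.bwd (nat_lit 11) (Steps.fwd (nat_lit 131072) Steps.nil))))))) (nat_lit 51) (nat_lit 6),
  Rule.mk (nat_lit 9) (nat_lit 190) (Steps.bwd (nat_lit 13) (Steps.fwd (nat_lit 73728) (Steps.bwd (nat_lit 12) (Steps.bwd (nat_lit 17) (Steps.bwd (nat_lit 1) (Steps.bwd (nat_lit 14) (Steps.fwd (nat_lit 16384) (Steps.fwd (nat_lit 16384) (Steps.bwd (nat_lit 1) (Steps.fwd (nat_lit 73728) (Steps.bwd (nat_lit 12) Steps.nil))))))))))) (nat_lit 74) (nat_lit 3),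
  Rule.mk (nat_lit 4) (nat_lit 110) (Steps.bwd (nat_lit 9) (Steps.fwd (nat_lit 90112) (Steps.bwd (nat_lit 15) (Steps.bwd (nat_lit 17) (Steps.bwd (nat_lit 17) (Steps.bwd (nat_lit 9) Steps.nil)))))) (nat_lit 71) (nat_lit 6),
  Rule.mk (nat_lit 15) (nat_lit 158) (Steps.bwd (nat_lit 9) (Steps.bwd (nat_lit 3) (Steps.fwd (nat_lit 32768) (Steps.bwd (nat_lit 1) (Steps.fwd (nat_lit 106496) (Steps.bwd (nat_lit 11) (Steps.bwd (nat_lit 17) (Steps.bwd (nat_lit 2) (Steps.bwd (nat_lit 9) Steps.nil))))))))) (nat_lit 63) (nat_lit 9),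
  Rule.mk (nat_lit 12) (nat_lit 190) (Steps.fwd (nat_lit 131072) (Steps.bwd (nat_lit 1) (Steps.fwd (nat_lit 122880) (Steps.fwd (nat_lit 16384) (Steps.bwd (nat_lit 1) (Steps.bwd (nat_lit 1) (Steps.fwd (nat_lit 73728) (Steps.fwd (nat_lit 106496) (Steps.bwd (nat_lit 9) (Steps.fwd (nat_lit 98304) (Steps.bwd (nat_lit 9) Steps.nil))))))))))) (nat_lit 74) (nat_lit 6),
  Rule.mk (nat_lit 8) (nat_lit 270) (Steps.fwd (nat_lit 16384) (Steps.fwd (nat_lit 32768) (Steps.fwd (nat_lit 32768) (Steps.fwd (nat_lit 8192) (Steps.bwd (nat_lit 4) (Steps.bwd (nat_lit 11) (Steps.fwd (nat_lit 131072) (Steps.bwd (nat_lit 19) (Steps.bwd (nat_lit 1) (Steps.bwd (nat_lit 9) (Steps.bwd (nat_lit 1) (Steps.fwd (nat_lit 73728) (Steps.bwd (nat_lit 1) (Steps.fwd (nat_lit 98304) (Steps.bwd (nat_lit 3) (Steps.bwd (nat_lit 9) Steps.nil)))))))))))))))) (nat_lit 77) (nat_lit 0),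
  Rule.mk (nat_lit 10) (nat_lit 270) (Steps.bwd (nat_lit 3) (Steps.fwd (nat_lit 16384) (Steps.fwd (nat_lit 24576) (Steps.fwd (nat_lit 24576) (Steps.fwd (nat_lit 8192) (Steps.fwd (nat_lit 65536) (Steps.fwd (nat_lit 73728) (Steps.bwd (nat_lit 4) (Steps.fwd (nat_lit 106496) (Steps.fwd (nat_lit 8192) (Steps.fwd (nat_lit 73728) (Steps.fwd (nat_lit 8192) (Steps.bwd (nat_lit 9) (Steps.fwd (nat_lit 8192) (Steps.fwd (nat_lit 155648) (Steps.bwd (nat_lit 16) Steps.nil)))))))))))))))) (nat_lit 76) (nat_lit 12),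
  Rule.mk (nat_lit 16) (nat_lit 142) (Steps.bwd (nat_lit 1) (Steps.fwd (nat_lit 131072) (Steps.fwd (nat_lit 81920) (Steps.fwd (nat_lit 131072) (Steps.fwd (nat_lit 122880) (Steps.fwd (nat_lit 106496) (Steps.fwd (nat_lit 81920) (Steps.fwd (nat_lit 8192) Steps.nil)))))))) (nat_lit 46) (nat_lit 2),
  Rule.mk (nat_lit 17) (nat_lit 142) (Steps.bwd (nat_lit 1) (Steps.bwd (nat_lit 10) (Steps.bwd (nat_lit 13) (Steps.bwd (nat_lit 15) (Steps.bwd (nat_lit 16) (Steps.bwd (nat_lit 10) (Steps.bwd (nat_lit 16) (Steps.bwd (nat_lit 2) Steps.nil)))))))) (nat_lit 47) (nat_lit 8),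
  Rule.mk (nat_lit 10) (nat_lit 286) (Steps.bwd (nat_lit 1) (Steps.bwd (nat_lit 3) (Steps.bwd (nat_lit 3) (Steps.fwd (nat_lit 73728) (Steps.fwd (nat_lit 57344) (Steps.fwd (nat_lit 81920) (Steps.bwd (nat_lit 8) (Steps.fwd (nat_lit 32768) (Steps.fwd (nat_lit 8192) (Steps.fwd (nat_lit 24576) (Steps.bwd (nat_lit 11) (Steps.bwd (nat_lit 8) (Steps.fwd (nat_lit 8192) (Steps.fwd (nat_lit 81920) (Steps.bwd (nat_lit 1) (Steps.bwd (nat_lit 11) (Steps.bwd (nat_lit 2) Steps.nil))))))))))))))))) (nat_lit 56) (nat_lit 15),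
  Rule.mk (nat_lit 11) (nat_lit 286) (Steps.bwd (nat_lit 1) (Steps.fwd (nat_lit 81920) (Steps.fwd (nat_lit 8192) (Steps.bwd (nat_lit 10) (Steps.fwd (nat_lit 16384) (Steps.fwd (nat_lit 32768) (Steps.fwd (nat_lit 32768) (Steps.fwd (nat_lit 73728) (Steps.fwd (nat_lit 57344) (Steps.fwd (nat_lit 81920) (Steps.bwd (nat_lit 8) (Steps.fwd (nat_lit 32768) (Steps.bwd (nat_lit 2) (Steps.bwd (nat_lit 4) (Steps.bwd (nat_lit 11) (Steps.bwd (nat_lit 8) (Steps.bwd (nat_lit 2) Steps.nil))))))))))))))))) (nat_lit 56) (nat_lit 11),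
  Rule.mk (nat_lit 19) (nat_lit 126) (Steps.bwd (nat_lit 8) (Steps.bwd (nat_lit 1) (Steps.fwd (nat_lit 16384) (Steps.bwd (nat_lit 19) (Steps.fwd (nat_lit 57344) (Steps.bwd (nat_lit 18) (Steps.fwd (nat_lit 57344) Steps.nil))))))) (nat_lit 87) (nat_lit 7),
  Rule.mk (nat_lit 11) (nat_lit 286) (Steps.bwd (nat_lit 8) (Steps.bwd (nat_lit 2) (Steps.fwd (nat_lit 81920) (Steps.bwd (nat_lit 1) (Steps.fwd (nat_lit 81920) (Steps.bwd (nat_lit 2) (Steps.bwd (nat_lit 10) (Steps.fwd (nat_lit 16384) (Steps.bwd (nat_lit 3) (Steps.fwd (nat_lit 32768) (Steps.bwd (nat_lit 9) (Steps.fwd (nat_lit 57344) (Steps.fwd (nat_lit 81920) (Steps.bwd (nat_lit 8) (Steps.bwd (nat_lit 3) (Steps.bwd (nat_lit 2) (Steps.bwd (nat_lit 4) Steps.nil))))))))))))))))) (nat_lit 56) (nat_lit 8),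
  Rule.mk (nat_lit 9) (nat_lit 286) (Steps.bwd (nat_lit 8) (Steps.fwd (nat_lit 81920) (Steps.fwd (nat_lit 57344) (Steps.fwd (nat_lit 32768) (Steps.bwd (nat_lit 2) (Steps.fwd (nat_lit 24576) (Steps.bwd (nat_lit 11) (Steps.bwd (nat_lit 8) (Steps.fwd (nat_lit 8192) (Steps.fwd (nat_lit 81920) (Steps.fwd (nat_lit 16384) (Steps.bwd (nat_lit 11) (Steps.fwd (nat_lit 8192) (Steps.bwd (nat_lit 10) (Steps.bwd (nat_lit 1) (Steps.fwd (nat_lit 32768) (Steps.bwd (nat_lit 3) Steps.nil))))))))))))))))) (nat_lit 56) (nat_lit 1),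
  Rule.mk (nat_lit 14) (nat_lit 158) (Steps.bwd (nat_lit 9) (Steps.bwd (nat_lit 1) (Steps.fwd (nat_lit 139264) (Steps.bwd (nat_lit 10) (Steps.bwd (nat_lit 13) (Steps.fwd (nat_lit 8192) (Steps.bwd (nat_lit 4) (Steps.bwd (nat_lit 4) (Steps.bwd (nat_lit 9) Steps.nil))))))))) (nat_lit 62) (nat_lit 2),
  Rule.mk (nat_lit 15) (nat_lit 158) (Steps.fwd (nat_lit 73728) (Steps.fwd (nat_lit 32768) (Steps.fwd (nat_lit 32768) (Steps.fwd (nat_lit 16384) (Steps.fwd (nat_lit 106496) (Steps.fwd (nat_lit 81920) (Steps.fwd (nat_lit 131072) (Steps.bwd (nat_lit 2) (Steps.bwd (nat_lit 9) Steps.nil))))))))) (nat_lit 63) (nat_lit 9),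
  Rule.mk (nat_lit 12) (nat_lit 190) (Steps.bwd (nat_lit 17) (Steps.bwd (nat_lit 1) (Steps.fwd (nat_lit 122880) (Steps.bwd (nat_lit 1) (Steps.bwd (nat_lit 1) (Steps.bwd (nat_lit 1) (Steps.fwd (nat_lit 73728) (Steps.bwd (nat_lit 12) (Steps.bwd (nat_lit 9) (Steps.bwd (nat_lit 13) (Steps.bwd (nat_lit 9) Steps.nil))))))))))) (nat_lit 74) (nat_lit 6),
  Rule.mk (nat_lit 13) (nat_lit 190) (Steps.fwd (nat_lit 73728) (Steps.bwd (nat_lit 12) (Steps.fwd (nat_lit 131072) (Steps.fwd (nat_lit 16384) (Steps.bwd (nat_lit 14) (Steps.bwd (nat_lit 1) (Steps.fwd (nat_lit 16384) (Steps.fwd (nat_lit 16384) (Steps.fwd (nat_lit 73728) (Steps.fwd (nat_lit 106496) (Steps.bwd (nat_lit 9) Steps.nil))))))))))) (nat_lit 74) (nat_lit 4),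
  Rule.mk (nat_lit 12) (nat_lit 126) (Steps.bwd (nat_lit 3) (Steps.bwd (nat_lit 16) (Steps.fwd (nat_lit 90112) (Steps.fwd (nat_lit 139264) (Steps.fwd (nat_lit 114688) (Steps.bwd (nat_lit 13) (Steps.fwd (nat_lit 24576) Steps.nil))))))) (nat_lit 50) (nat_lit 2),
  Rule.mk (nat_lit 13) (nat_lit 126) (Steps.bwd (nat_lit 3) (Steps.bwd (nat_lit 12) (Steps.fwd (nat_lit 122880) (Steps.fwd (nat_lit 131072) (Steps.fwd (nat_lit 81920) (Steps.bwd (nat_lit 17) (Steps.fwd (nat_lit 24576) Steps.nil))))))) (nat_lit 51) (nat_lit 7),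
  Rule.mk (nat_lit 10) (nat_lit 270) (Steps.bwd (nat_lit 3) (Steps.fwd (nat_lit 16384) (Steps.fwd (nat_lit 24576) (Steps.bwd (nat_lit 4) (Steps.fwd (nat_lit 8192) (Steps.bwd (nat_lit 7) (Steps.bwd (nat_lit 9) (Steps.bwd (nat_lit 4) (Steps.fwd (nat_lit 106496) (Steps.bwd (nat_lit 2) (Steps.fwd (nat_lit 73728) (Steps.bwd (nat_lit 2) (Steps.fwd (nat_lit 73728) (Steps.bwd (nat_lit 2) (Steps.fwd (nat_lit 155648) (Steps.bwd (nat_lit 16) Steps.nil)))))))))))))))) (nat_lit 76) (nat_lit 12),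
  Rule.mk (nat_lit 16) (nat_lit 142) (Steps.bwd (nat_lit 1) (Steps.bwd (nat_lit 17) (Steps.bwd (nat_lit 11) (Steps.fwd (nat_lit 131072) (Steps.fwd (nat_lit 122880) (Steps.fwd (nat_lit 106496) (Steps.fwd (nat_lit 81920) (Steps.bwd (nat_lit 2) Steps.nil)))))))) (nat_lit 46) (nat_lit 2),
  Rule.mk (nat_lit 10) (nat_lit 286) (Steps.bwd (nat_lit 1) (Steps.bwd (nat_lit 3) (Steps.fwd (nat_lit 32768) (Steps.fwd (nat_lit 73728) (Steps.bwd (nat_lit 8) (Steps.bwd (nat_lit 11) (Steps.bwd (nat_lit 8) (Steps.bwd (nat_lit 3) (Steps.bwd (nat_lit 2) (Steps.bwd (nat_lit 4) (Steps.fwd (nat_lit 81920) (Steps.bwd (nat_lit 8) (Steps.bwd (nat_lit 2) (Steps.fwd (nat_lit 81920) (Steps.bwd (nat_lit 1) (Steps.fwd (nat_lit 81920) (Steps.fwd (nat_lit 8192) Steps.nil))))))))))))))))) (nat_lit 56) (nat_lit 15),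
  Rule.mk (nat_lit 11) (nat_lit 286) (Steps.bwd (nat_lit 1) (Steps.fwd (nat_lit 81920) (Steps.fwd (nat_lit 8192) (Steps.bwd (nat_lit 10) (Steps.fwd (nat_lit 16384) (Steps.fwd (nat_lit 32768) (Steps.fwd (nat_lit 32768) (Steps.bwd (nat_lit 9) (Steps.bwd (nat_lit 8) (Steps.fwd (nat_lit 81920) (Steps.bwd (nat_lit 8) (Steps.fwd (nat_lit 32768) (Steps.fwd (nat_lit 8192) (Steps.fwd (nat_lit 24576) (Steps.bwd (nat_lit 11) (Steps.fwd (nat_lit 57344) (Steps.bwd (nat_lit 2) Steps.nil))))))))))))))))) (nat_lit 56) (nat_lit 11),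
  Rule.mk (nat_lit 7) (nat_lit 94) (Steps.bwd (nat_lit 2) (Steps.fwd (nat_lit 8192) (Steps.bwd (nat_lit 2) (Steps.fwd (nat_lit 8192) (Steps.fwd (nat_lit 65536) Steps.nil))))) (nat_lit 78) (nat_lit 2),
  Rule.mk (nat_lit 16) (nat_lit 110) (Steps.bwd (nat_lit 2) (Steps.fwd (nat_lit 114688) (Steps.fwd (nat_lit 16384) (Steps.bwd (nat_lit 15) (Steps.bwd (nat_lit 15) (Steps.bwd (nat_lit 10) Steps.nil)))))) (nat_lit 45) (nat_lit 4),
  Rule.mk (nat_lit 18) (nat_lit 126) (Steps.bwd (nat_lit 2) (Steps.fwd (nat_lit 8192) (Steps.fwd (nat_lit 65536) (Steps.bwd (nat_lit 18) (Steps.bwd (nat_lit 7) (Steps.bwd (nat_lit 19) (Steps.fwd (nat_lit 65536) Steps.nil))))))) (nat_lit 86) (nat_lit 6),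
  Rule.mk (nat_lit 17) (nat_lit 158) (Steps.bwd (nat_lit 2) (Steps.bwd (nat_lit 9) (Steps.bwd (nat_lit 15) (Steps.fwd (nat_lit 73728) (Steps.fwd (nat_lit 32768) (Steps.bwd (nat_lit 3) (Steps.bwd (nat_lit 1) (Steps.fwd (nat_lit 106496) (Steps.bwd (nat_lit 11) Steps.nil))))))))) (nat_lit 63) (nat_lit 6),
  Rule.mk (nat_lit 15) (nat_lit 190) (Steps.bwd (nat_lit 2) (Steps.fwd (nat_lit 139264) (Steps.bwd (nat_lit 13) (Steps.fwd (nat_lit 73728) (Steps.bwd (nat_lit 12) (Steps.fwd (nat_lit 73728) (Steps.fwd (nat_lit 98304) (Steps.fwd (nat_lit 73728) (Steps.fwd (nat_lit 8192) (Steps.fwd (nat_lit 8192) (Steps.bwd (nat_lit 2) Steps.nil))))))))))) (nat_lit 75) (nat_lit 4),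
  Rule.mk (nat_lit 9) (nat_lit 190) (Steps.bwd (nat_lit 2) (Steps.fwd (nat_lit 8192) (Steps.bwd (nat_lit 2) (Steps.bwd (nat_lit 15) (Steps.bwd (nat_lit 2) (Steps.fwd (nat_lit 139264) (Steps.fwd (nat_lit 98304) (Steps.bwd (nat_lit 9) (Steps.fwd (nat_lit 106496) (Steps.fwd (nat_lit 73728) (Steps.fwd (nat_lit 98304) Steps.nil))))))))))) (nat_lit 75) (nat_lit 0),
  Rule.mk (nat_lit 17) (nat_lit 126) (Steps.bwd (nat_lit 4) (Steps.fwd (nat_lit 98304) (Steps.bwd (nat_lit 3) (Steps.bwd (nat_lit 12) (Steps.bwd (nat_lit 14) (Steps.bwd (nat_lit 17) (Steps.fwd (nat_lit 81920) Steps.nil))))))) (nat_lit 51) (nat_lit 5),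
  Rule.mk (nat_lit 11) (nat_lit 126) (Steps.bwd (nat_lit 4) (Steps.bwd (nat_lit 14) (Steps.bwd (nat_lit 3) (Steps.bwd (nat_lit 14) (Steps.fwd (nat_lit 122880) (Steps.fwd (nat_lit 131072) (Steps.bwd (nat_lit 11) Steps.nil))))))) (nat_lit 52) (nat_lit 0),
  Rule.mk (nat_lit 17) (nat_lit 110) (Steps.bwd (nat_lit 9) (Steps.fwd (nat_lit 32768) (Steps.fwd (nat_lit 32768) (Steps.fwd (nat_lit 114688) (Steps.bwd (nat_lit 16) (Steps.fwd (nat_lit 73728) Steps.nil)))))) (nat_lit 65) (nat_lit 6),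
  Rule.mk (nat_lit 14) (nat_lit 158) (Steps.bwd (nat_lit 9) (Steps.bwd (nat_lit 1) (Steps.fwd (nat_lit 139264) (Steps.bwd (nat_lit 10) (Steps.fwd (nat_lit 98304) (Steps.fwd (nat_lit 8192) (Steps.fwd (nat_lit 24576) (Steps.bwd (nat_lit 4) (Steps.fwd (nat_lit 73728) Steps.nil))))))))) (nat_lit 62) (nat_lit 2),
  Rule.mk (nat_lit 2) (nat_lit 158) (Steps.bwd (nat_lit 9) (Steps.fwd (nat_lit 114688) (Steps.fwd (nat_lit 73728) (Steps.bwd (nat_lit 3) (Steps.bwd (nat_lit 3) (Steps.fwd (nat_lit 16384) (Steps.bwd (nat_lit 12) (Steps.fwd (nat_lit 81920) (Steps.bwd (nat_lit 17) Steps.nil))))))))) (nat_lit 63) (nat_lit 7),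
  Rule.mk (nat_lit 13) (nat_lit 190) (Steps.bwd (nat_lit 9) (Steps.fwd (nat_lit 106496) (Steps.bwd (nat_lit 17) (Steps.fwd (nat_lit 16384) (Steps.fwd (nat_lit 122880) (Steps.fwd (nat_lit 16384) (Steps.bwd (nat_lit 1) (Steps.fwd (nat_lit 16384) (Steps.fwd (nat_lit 73728) (Steps.fwd (nat_lit 106496) (Steps.fwd (nat_lit 73728) Steps.nil))))))))))) (nat_lit 74) (nat_lit 4),
  Rule.mk (nat_lit 12) (nat_lit 190) (Steps.bwd (nat_lit 9) (Steps.bwd (nat_lit 13) (Steps.fwd (nat_lit 73728) (Steps.bwd (nat_lit 12) (Steps.bwd (nat_lit 17) (Steps.bwd (nat_lit 1) (Steps.fwd (nat_lit 122880) (Steps.fwd (nat_lit 16384) (Steps.fwd (nat_lit 16384) (Steps.bwd (nat_lit 1) (Steps.fwd (nat_lit 73728) Steps.nil))))))))))) (nat_lit 74) (nat_lit 2)]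
noncomputable def R_128 : List (Rule) := [Rule.mk (nat_lit 1) (nat_lit 190) (Steps.bwd (nat_lit 9) (Steps.fwd (nat_lit 106496) (Steps.fwd (nat_lit 73728) (Steps.bwd (nat_lit 13) (Steps.bwd (nat_lit 9) (Steps.bwd (nat_lit 12) (Steps.fwd (nat_lit 131072) (Steps.bwd (nat_lit 1) (Steps.bwd (nat_lit 14) (Steps.fwd (nat_lit 16384) (Steps.bwd (nat_lit 1) Steps.nil))))))))))) (nat_lit 74) (nat_lit 0),
  Rule.mk (nat_lit 7) (nat_lit 270) (Steps.bwd (nat_lit 9) (Steps.bwd (nat_lit 4) (Steps.fwd (nat_lit 106496) (Steps.fwd (nat_lit 8192) (Steps.fwd (nat_lit 73728) (Steps.bwd (nat_lit 2) (Steps.fwd (nat_lit 73728) (Steps.bwd (nat_lit 2) (Steps.bwd (nat_lit 18) (Steps.fwd (nat_lit 139264) (Steps.fwd (nat_lit 90112) (Steps.fwd (nat_lit 32768) (Steps.bwd (nat_lit 1) (Steps.bwd (nat_lit 4) (Steps.fwd (nat_lit 24576) (Steps.bwd (nat_lit 2) Steps.nil)))))))))))))))) (nat_lit 76) (nat_lit 1),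
  Rule.mk (nat_lit 15) (nat_lit 190) (Steps.bwd (nat_lit 2) (Steps.fwd (nat_lit 139264) (Steps.fwd (nat_lit 98304) (Steps.fwd (nat_lit 73728) (Steps.fwd (nat_lit 106496) (Steps.bwd (nat_lit 9) (Steps.bwd (nat_lit 13) (Steps.fwd (nat_lit 73728) (Steps.bwd (nat_lit 2) (Steps.fwd (nat_lit 8192) (Steps.fwd (nat_lit 8192) Steps.nil))))))))))) (nat_lit 75) (nat_lit 4),
  Rule.mk (nat_lit 9) (nat_lit 190) (Steps.bwd (nat_lit 2) (Steps.bwd (nat_lit 2) (Steps.bwd (nat_lit 2) (Steps.bwd (nat_lit 15) (Steps.fwd (nat_lit 8192) (Steps.fwd (nat_lit 139264) (Steps.fwd (nat_lit 98304) (Steps.bwd (nat_lit 9) (Steps.bwd (nat_lit 12) (Steps.bwd (nat_lit 9) (Steps.fwd (nat_lit 98304) Steps.nil))))))))))) (nat_lit 75) (nat_lit 0),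
  Rule.mk (nat_lit 1) (nat_lit 126) (Steps.bwd (nat_lit 19) (Steps.fwd (nat_lit 57344) (Steps.bwd (nat_lit 18) (Steps.fwd (nat_lit 57344) (Steps.bwd (nat_lit 19) (Steps.bwd (nat_lit 8) (Steps.fwd (nat_lit 16384) Steps.nil))))))) (nat_lit 87) (nat_lit 2),
  Rule.mk (nat_lit 10) (nat_lit 110) (Steps.bwd (nat_lit 16) (Steps.fwd (nat_lit 8192) (Steps.bwd (nat_lit 15) (Steps.fwd (nat_lit 16384) (Steps.fwd (nat_lit 114688) (Steps.fwd (nat_lit 114688) Steps.nil)))))) (nat_lit 45) (nat_lit 3),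
  Rule.mk (nat_lit 9) (nat_lit 110) (Steps.bwd (nat_lit 16) (Steps.fwd (nat_lit 73728) (Steps.fwd (nat_lit 131072) (Steps.fwd (nat_lit 122880) (Steps.fwd (nat_lit 24576) (Steps.fwd (nat_lit 24576) Steps.nil)))))) (nat_lit 64) (nat_lit 1),
  Rule.mk (nat_lit 2) (nat_lit 190) (Steps.bwd (nat_lit 16) (Steps.bwd (nat_lit 13) (Steps.fwd (nat_lit 73728) (Steps.bwd (nat_lit 12) (Steps.bwd (nat_lit 9) (Steps.fwd (nat_lit 98304) (Steps.bwd (nat_lit 9) (Steps.bwd (nat_lit 2) (Steps.fwd (nat_lit 8192) (Steps.bwd (nat_lit 2) (Steps.bwd (nat_lit 15) Steps.nil))))))))))) (nat_lit 75) (nat_lit 5),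
  Rule.mk (nat_lit 17) (nat_lit 110) (Steps.fwd (nat_lit 81920) (Steps.fwd (nat_lit 122880) (Steps.bwd (nat_lit 14) (Steps.bwd (nat_lit 2) (Steps.fwd (nat_lit 122880) (Steps.bwd (nat_lit 1) Steps.nil)))))) (nat_lit 44) (nat_lit 4),
  Rule.mk (nat_lit 8) (nat_lit 126) (Steps.bwd (nat_lit 19) (Steps.bwd (nat_lit 8) (Steps.bwd (nat_lit 1) (Steps.fwd (nat_lit 16384) (Steps.bwd (nat_lit 19) (Steps.bwd (nat_lit 8) (Steps.fwd (nat_lit 155648) Steps.nil))))))) (nat_lit 87) (nat_lit 6),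
  Rule.mk (nat_lit 16) (nat_lit 142) (Steps.bwd (nat_lit 1) (Steps.bwd (nat_lit 17) (Steps.fwd (nat_lit 81920) (Steps.bwd (nat_lit 17) (Steps.bwd (nat_lit 14) (Steps.bwd (nat_lit 12) (Steps.bwd (nat_lit 11) (Steps.bwd (nat_lit 2) Steps.nil)))))))) (nat_lit 46) (nat_lit 2),
  Rule.mk (nat_lit 17) (nat_lit 142) (Steps.bwd (nat_lit 1) (Steps.bwd (nat_lit 10) (Steps.fwd (nat_lit 98304) (Steps.bwd (nat_lit 15) (Steps.bwd (nat_lit 16) (Steps.bwd (nat_lit 10) (Steps.fwd (nat_lit 139264) (Steps.fwd (nat_lit 8192) Steps.nil)))))))) (nat_lit 47) (nat_lit 8),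
  Rule.mk (nat_lit 9) (nat_lit 158) (Steps.bwd (nat_lit 1) (Steps.bwd (nat_lit 16) (Steps.fwd (nat_lit 90112) (Steps.bwd (nat_lit 13) (Steps.bwd (nat_lit 2) (Steps.bwd (nat_lit 4) (Steps.bwd (nat_lit 4) (Steps.fwd (nat_lit 73728) (Steps.bwd (nat_lit 14) Steps.nil))))))))) (nat_lit 62) (nat_lit 3),
  Rule.mk (nat_lit 10) (nat_lit 286) (Steps.bwd (nat_lit 1) (Steps.fwd (nat_lit 32768) (Steps.bwd (nat_lit 3) (Steps.fwd (nat_lit 73728) (Steps.fwd (nat_lit 57344) (Steps.fwd (nat_lit 81920) (Steps.fwd (nat_lit 57344) (Steps.bwd (nat_lit 3) (Steps.fwd (nat_lit 8192) (Steps.bwd (nat_lit 4) (Steps.fwd (nat_lit 81920) (Steps.bwd (nat_lit 8) (Steps.fwd (nat_lit 8192) (Steps.fwd (nat_lit 81920) (Steps.bwd (nat_lit 1) (Steps.fwd (nat_lit 81920) (Steps.fwd (nat_lit 8192) Steps.nil))))))))))))))))) (nat_lit 56) (nat_lit 15),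
  Rule.mk (nat_lit 15) (nat_lit 110) (Steps.bwd (nat_lit 10) (Steps.fwd (nat_lit 139264) (Steps.fwd (nat_lit 8192) (Steps.fwd (nat_lit 114688) (Steps.fwd (nat_lit 16384) (Steps.fwd (nat_lit 114688) Steps.nil)))))) (nat_lit 45) (nat_lit 2),
  Rule.mk (nat_lit 7) (nat_lit 126) (Steps.bwd (nat_lit 18) (Steps.fwd (nat_lit 65536) (Steps.fwd (nat_lit 147456) (Steps.fwd (nat_lit 65536) (Steps.bwd (nat_lit 18) (Steps.bwd (nat_lit 2) (Steps.fwd (nat_lit 8192) Steps.nil))))))) (nat_lit 86) (nat_lit 1),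
  Rule.mk (nat_lit 8) (nat_lit 126) (Steps.bwd (nat_lit 18) (Steps.fwd (nat_lit 57344) (Steps.fwd (nat_lit 147456) (Steps.bwd (nat_lit 8) (Steps.bwd (nat_lit 1) (Steps.bwd (nat_lit 1) (Steps.fwd (nat_lit 147456) Steps.nil))))))) (nat_lit 87) (nat_lit 4),
  Rule.mk (nat_lit 13) (nat_lit 126) (Steps.bwd (nat_lit 3) (Steps.bwd (nat_lit 12) (Steps.fwd (nat_lit 122880) (Steps.bwd (nat_lit 17) (Steps.fwd (nat_lit 81920) (Steps.fwd (nat_lit 131072) (Steps.fwd (nat_lit 24576) Steps.nil))))))) (nat_lit 51) (nat_lit 7),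
  Rule.mk (nat_lit 10) (nat_lit 270) (Steps.bwd (nat_lit 3) (Steps.bwd (nat_lit 1) (Steps.bwd (nat_lit 4) (Steps.fwd (nat_lit 24576) (Steps.fwd (nat_lit 8192) (Steps.fwd (nat_lit 65536) (Steps.bwd (nat_lit 9) (Steps.bwd (nat_lit 4) (Steps.bwd (nat_lit 12) (Steps.bwd (nat_lit 2) (Steps.fwd (nat_lit 73728) (Steps.fwd (nat_lit 8192) (Steps.fwd (nat_lit 73728) (Steps.bwd (nat_lit 2) (Steps.bwd (nat_lit 18) (Steps.fwd (nat_lit 139264) Steps.nil)))))))))))))))) (nat_lit 76) (nat_lit 12),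
  Rule.mk (nat_lit 16) (nat_lit 110) (Steps.bwd (nat_lit 16) (Steps.fwd (nat_lit 122880) (Steps.bwd (nat_lit 11) (Steps.fwd (nat_lit 73728) (Steps.bwd (nat_lit 3) (Steps.fwd (nat_lit 73728) Steps.nil)))))) (nat_lit 70) (nat_lit 4),
  Rule.mk (nat_lit 3) (nat_lit 126) (Steps.bwd (nat_lit 16) (Steps.fwd (nat_lit 90112) (Steps.fwd (nat_lit 139264) (Steps.fwd (nat_lit 114688) (Steps.bwd (nat_lit 13) (Steps.fwd (nat_lit 24576) (Steps.bwd (nat_lit 12) Steps.nil))))))) (nat_lit 50) (nat_lit 3),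
  Rule.mk (nat_lit 1) (nat_lit 158) (Steps.bwd (nat_lit 16) (Steps.fwd (nat_lit 90112) (Steps.bwd (nat_lit 13) (Steps.fwd (nat_lit 8192) (Steps.fwd (nat_lit 24576) (Steps.fwd (nat_lit 24576) (Steps.fwd (nat_lit 73728) (Steps.bwd (nat_lit 14) (Steps.bwd (nat_lit 9) Steps.nil))))))))) (nat_lit 62) (nat_lit 4),
  Rule.mk (nat_lit 3) (nat_lit 110) (Steps.fwd (nat_lit 81920) (Steps.bwd (nat_lit 9) (Steps.fwd (nat_lit 81920) (Steps.fwd (nat_lit 73728) (Steps.fwd (nat_lit 32768) (Steps.fwd (nat_lit 122880) Steps.nil)))))) (nat_lit 61) (nat_lit 3),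
  Rule.mk (nat_lit 14) (nat_lit 110) (Steps.fwd (nat_lit 81920) (Steps.bwd (nat_lit 9) (Steps.fwd (nat_lit 155648) (Steps.bwd (nat_lit 9) (Steps.bwd (nat_lit 16) (Steps.fwd (nat_lit 81920) Steps.nil)))))) (nat_lit 66) (nat_lit 6),
  Rule.mk (nat_lit 15) (nat_lit 158) (Steps.bwd (nat_lit 9) (Steps.bwd (nat_lit 3) (Steps.bwd (nat_lit 3) (Steps.fwd (nat_lit 16384) (Steps.bwd (nat_lit 12) (Steps.bwd (nat_lit 11) (Steps.bwd (nat_lit 17) (Steps.bwd (nat_lit 2) (Steps.fwd (nat_lit 73728) Steps.nil))))))))) (nat_lit 63) (nat_lit 9),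
  Rule.mk (nat_lit 2) (nat_lit 158) (Steps.bwd (nat_lit 9) (Steps.bwd (nat_lit 15) (Steps.bwd (nat_lit 9) (Steps.bwd (nat_lit 3) (Steps.bwd (nat_lit 3) (Steps.fwd (nat_lit 16384) (Steps.fwd (nat_lit 106496) (Steps.bwd (nat_lit 11) (Steps.bwd (nat_lit 17) Steps.nil))))))))) (nat_lit 63) (nat_lit 7),
  Rule.mk (nat_lit 13) (nat_lit 190) (Steps.bwd (nat_lit 9) (Steps.bwd (nat_lit 12) (Steps.fwd (nat_lit 131072) (Steps.fwd (nat_lit 16384) (Steps.fwd (nat_lit 122880) (Steps.bwd (nat_lit 1) (Steps.fwd (nat_lit 16384) (Steps.bwd (nat_lit 1) (Steps.fwd (nat_lit 73728) (Steps.bwd (nat_lit 12) (Steps.fwd (nat_lit 73728) Steps.nil))))))))))) (nat_lit 74) (nat_lit 4),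
  Rule.mk (nat_lit 1) (nat_lit 206) (Steps.bwd (nat_lit 9) (Steps.bwd (nat_lit 16) (Steps.fwd (nat_lit 147456) (Steps.bwd (nat_lit 11) (Steps.bwd (nat_lit 2) (Steps.bwd (nat_lit 3) (Steps.fwd (nat_lit 8192) (Steps.bwd (nat_lit 4) (Steps.bwd (nat_lit 4) (Steps.fwd (nat_lit 8192) (Steps.bwd (nat_lit 9) (Steps.fwd (nat_lit 16384) Steps.nil)))))))))))) (nat_lit 68) (nat_lit 3),
  Rule.mk (nat_lit 7) (nat_lit 270) (Steps.bwd (nat_lit 9) (Steps.fwd (nat_lit 24576) (Steps.bwd (nat_lit 12) (Steps.bwd (nat_lit 2) (Steps.fwd (nat_lit 73728) (Steps.bwd (nat_lit 2) (Steps.bwd (nat_lit 9) (Steps.bwd (nat_lit 2) (Steps.fwd (nat_lit 155648) (Steps.fwd (nat_lit 139264) (Steps.fwd (nat_lit 90112) (Steps.fwd (nat_lit 32768) (Steps.fwd (nat_lit 16384) (Steps.bwd (nat_lit 4) (Steps.fwd (nat_lit 24576) (Steps.fwd (nat_lit 8192) Steps.nil)))))))))))))))) (nat_lit 76) (nat_lit 1),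
  Rule.mk (nat_lit 4) (nat_lit 126) (Steps.bwd (nat_lit 12) (Steps.fwd (nat_lit 32768) (Steps.fwd (nat_lit 139264) (Steps.bwd (nat_lit 10) (Steps.fwd (nat_lit 139264) (Steps.fwd (nat_lit 114688) (Steps.fwd (nat_lit 98304) Steps.nil))))))) (nat_lit 50) (nat_lit 1),
  Rule.mk (nat_lit 9) (nat_lit 190) (Steps.bwd (nat_lit 12) (Steps.fwd (nat_lit 131072) (Steps.fwd (nat_lit 16384) (Steps.bwd (nat_lit 14) (Steps.fwd (nat_lit 16384) (Steps.bwd (nat_lit 1) (Steps.fwd (nat_lit 16384) (Steps.bwd (nat_lit 9) (Steps.fwd (nat_lit 106496) (Steps.bwd (nat_lit 9) (Steps.fwd (nat_lit 98304) Steps.nil))))))))))) (nat_lit 74) (nat_lit 5),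
  Rule.mk (nat_lit 13) (nat_lit 190) (Steps.fwd (nat_lit 73728) (Steps.bwd (nat_lit 12) (Steps.fwd (nat_lit 131072) (Steps.bwd (nat_lit 1) (Steps.fwd (nat_lit 122880) (Steps.bwd (nat_lit 1) (Steps.fwd (nat_lit 16384) (Steps.fwd (nat_lit 16384) (Steps.bwd (nat_lit 9) (Steps.bwd (nat_lit 12) (Steps.bwd (nat_lit 9) Steps.nil))))))))))) (nat_lit 74) (nat_lit 4),
  Rule.mk (nat_lit 8) (nat_lit 270) (Steps.bwd (nat_lit 1) (Steps.bwd (nat_lit 3) (Steps.fwd (nat_lit 32768) (Steps.bwd (nat_lit 2) (Steps.fwd (nat_lit 24576) (Steps.fwd (nat_lit 81920) (Steps.fwd (nat_lit 131072) (Steps.bwd (nat_lit 19) (Steps.fwd (nat_lit 16384) (Steps.fwd (nat_lit 73728) (Steps.fwd (nat_lit 16384) (Steps.bwd (nat_lit 9) (Steps.fwd (nat_lit 16384) (Steps.bwd (nat_lit 13) (Steps.bwd (nat_lit 3) (Steps.bwd (nat_lit 9) Steps.nil)))))))))))))))) (nat_lit 77) (nat_lit 0),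
  Rule.mk (nat_lit 9) (nat_lit 158) (Steps.bwd (nat_lit 1) (Steps.fwd (nat_lit 139264) (Steps.bwd (nat_lit 10) (Steps.bwd (nat_lit 13) (Steps.fwd (nat_lit 8192) (Steps.fwd (nat_lit 24576) (Steps.fwd (nat_lit 24576) (Steps.fwd (nat_lit 73728) (Steps.bwd (nat_lit 14) Steps.nil))))))))) (nat_lit 62) (nat_lit 3),
  Rule.mk (nat_lit 14) (nat_lit 190) (Steps.bwd (nat_lit 1) (Steps.fwd (nat_lit 16384) (Steps.bwd (nat_lit 1) (Steps.fwd (nat_lit 73728) (Steps.bwd (nat_lit 12) (Steps.fwd (nat_lit 73728) (Steps.fwd (nat_lit 98304) (Steps.bwd (nat_lit 9) (Steps.bwd (nat_lit 12) (Steps.bwd (nat_lit 17) (Steps.bwd (nat_lit 1) Steps.nil))))))))))) (nat_lit 74) (nat_lit 9),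
  Rule.mk (nat_lit 10) (nat_lit 286) (Steps.bwd (nat_lit 1) (Steps.fwd (nat_lit 32768) (Steps.bwd (nat_lit 3) (Steps.bwd (nat_lit 9) (Steps.fwd (nat_lit 57344) (Steps.fwd (nat_lit 81920) (Steps.fwd (nat_lit 57344) (Steps.bwd (nat_lit 3) (Steps.fwd (nat_lit 8192) (Steps.fwd (nat_lit 24576) (Steps.bwd (nat_lit 11) (Steps.bwd (nat_lit 8) (Steps.fwd (nat_lit 8192) (Steps.bwd (nat_lit 11) (Steps.bwd (nat_lit 1) (Steps.bwd (nat_lit 11) (Steps.bwd (nat_lit 2) Steps.nil))))))))))))))))) (nat_lit 56) (nat_lit 15),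
  Rule.mk (nat_lit 11) (nat_lit 286) (Steps.bwd (nat_lit 1) (Steps.fwd (nat_lit 81920) (Steps.fwd (nat_lit 8192) (Steps.bwd (nat_lit 10) (Steps.bwd (nat_lit 1) (Steps.bwd (nat_lit 3) (Steps.fwd (nat_lit 32768) (Steps.fwd (nat_lit 73728) (Steps.fwd (nat_lit 57344) (Steps.bwd (nat_lit 11) (Steps.bwd (nat_lit 8) (Steps.bwd (nat_lit 3) (Steps.bwd (nat_lit 2) (Steps.bwd (nat_lit 4) (Steps.fwd (nat_lit 81920) (Steps.fwd (nat_lit 57344) (Steps.fwd (nat_lit 8192) Steps.nil))))))))))))))))) (nat_lit 56) (nat_lit 11),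
  Rule.mk (nat_lit 10) (nat_lit 94) (Steps.bwd (nat_lit 18) (Steps.bwd (nat_lit 18) (Steps.fwd (nat_lit 131072) (Steps.fwd (nat_lit 81920) (Steps.bwd (nat_lit 16) Steps.nil))))) (nat_lit 35) (nat_lit 0),
  Rule.mk (nat_lit 16) (nat_lit 126) (Steps.bwd (nat_lit 15) (Steps.fwd (nat_lit 98304) (Steps.bwd (nat_lit 4) (Steps.fwd (nat_lit 106496) (Steps.bwd (nat_lit 3) (Steps.bwd (nat_lit 16) (Steps.fwd (nat_lit 90112) Steps.nil))))))) (nat_lit 50) (nat_lit 6),
  Rule.mk (nat_lit 9) (nat_lit 158) (Steps.bwd (nat_lit 15) (Steps.bwd (nat_lit 9) (Steps.bwd (nat_lit 3) (Steps.bwd (nat_lit 3) (Steps.fwd (nat_lit 16384) (Steps.fwd (nat_lit 106496) (Steps.bwd (nat_lit 11) (Steps.bwd (nat_lit 17) (Steps.bwd (nat_lit 2) Steps.nil))))))))) (nat_lit 63) (nat_lit 8),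
  Rule.mk (nat_lit 13) (nat_lit 190) (Steps.fwd (nat_lit 73728) (Steps.fwd (nat_lit 106496) (Steps.bwd (nat_lit 17) (Steps.fwd (nat_lit 16384) (Steps.bwd (nat_lit 14) (Steps.bwd (nat_lit 1) (Steps.bwd (nat_lit 1) (Steps.fwd (nat_lit 16384) (Steps.fwd (nat_lit 73728) (Steps.fwd (nat_lit 106496) (Steps.bwd (nat_lit 9) Steps.nil))))))))))) (nat_lit 74) (nat_lit 4),
  Rule.mk (nat_lit 8) (nat_lit 270) (Steps.bwd (nat_lit 1) (Steps.fwd (nat_lit 32768) (Steps.bwd (nat_lit 3) (Steps.fwd (nat_lit 8192) (Steps.fwd (nat_lit 24576) (Steps.fwd (nat_lit 81920) (Steps.fwd (nat_lit 131072) (Steps.fwd (nat_lit 147456) (Steps.fwd (nat_lit 16384) (Steps.bwd (nat_lit 9) (Steps.bwd (nat_lit 1) (Steps.fwd (nat_lit 73728) (Steps.bwd (nat_lit 1) (Steps.bwd (nat_lit 13) (Steps.fwd (nat_lit 32768) (Steps.bwd (nat_lit 9) Steps.nil)))))))))))))))) (nat_lit 77) (nat_lit 0),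
  Rule.mk (nat_lit 10) (nat_lit 110) (Steps.bwd (nat_lit 4) (Steps.bwd (nat_lit 15) (Steps.fwd (nat_lit 24576) (Steps.bwd (nat_lit 9) (Steps.bwd (nat_lit 10) (Steps.bwd (nat_lit 9) Steps.nil)))))) (nat_lit 60) (nat_lit 4),
  Rule.mk (nat_lit 9) (nat_lit 110) (Steps.bwd (nat_lit 4) (Steps.fwd (nat_lit 73728) (Steps.bwd (nat_lit 10) (Steps.fwd (nat_lit 114688) (Steps.fwd (nat_lit 131072) (Steps.fwd (nat_lit 131072) Steps.nil)))))) (nat_lit 71) (nat_lit 5),
  Rule.mk (nat_lit 11) (nat_lit 126) (Steps.bwd (nat_lit 4) (Steps.fwd (nat_lit 122880) (Steps.fwd (nat_lit 32768) (Steps.bwd (nat_lit 14) (Steps.fwd (nat_lit 122880) (Steps.bwd (nat_lit 17) (Steps.fwd (nat_lit 81920) Steps.nil))))))) (nat_lit 52) (nat_lit 0),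
  Rule.mk (nat_lit 10) (nat_lit 94) (Steps.bwd (nat_lit 18) (Steps.bwd (nat_lit 18) (Steps.bwd (nat_lit 17) (Steps.bwd (nat_lit 11) (Steps.bwd (nat_lit 16) Steps.nil))))) (nat_lit 35) (nat_lit 0),
  Rule.mk (nat_lit 17) (nat_lit 110) (Steps.fwd (nat_lit 73728) (Steps.fwd (nat_lit 24576) (Steps.fwd (nat_lit 73728) (Steps.bwd (nat_lit 10) (Steps.bwd (nat_lit 15) (Steps.bwd (nat_lit 17) Steps.nil)))))) (nat_lit 71) (nat_lit 4),
  Rule.mk (nat_lit 12) (nat_lit 142) (Steps.bwd (nat_lit 11) (Steps.fwd (nat_lit 8192) (Steps.bwd (nat_lit 16) (Steps.bwd (nat_lit 1) (Steps.bwd (nat_lit 17) (Steps.bwd (nat_lit 11) (Steps.bwd (nat_lit 17) (Steps.fwd (nat_lit 122880) Steps.nil)))))))) (nat_lit 46) (nat_lit 8),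
  Rule.mk (nat_lit 4) (nat_lit 270) (Steps.bwd (nat_lit 11) (Steps.bwd (nat_lit 17) (Steps.fwd (nat_lit 147456) (Steps.bwd (nat_lit 1) (Steps.fwd (nat_lit 73728) (Steps.fwd (nat_lit 16384) (Steps.bwd (nat_lit 9) (Steps.bwd (nat_lit 1) (Steps.fwd (nat_lit 98304) (Steps.bwd (nat_lit 3) (Steps.bwd (nat_lit 9) (Steps.fwd (nat_lit 57344) (Steps.bwd (nat_lit 1) (Steps.bwd (nat_lit 3) (Steps.fwd (nat_lit 32768) (Steps.fwd (nat_lit 8192) Steps.nil)))))))))))))))) (nat_lit 77) (nat_lit 5),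
  Rule.mk (nat_lit 2) (nat_lit 286) (Steps.bwd (nat_lit 11) (Steps.bwd (nat_lit 1) (Steps.bwd (nat_lit 11) (Steps.bwd (nat_lit 2) (Steps.fwd (nat_lit 90112) (Steps.fwd (nat_lit 16384) (Steps.fwd (nat_lit 32768) (Steps.fwd (nat_lit 32768) (Steps.bwd (nat_lit 9) (Steps.bwd (nat_lit 8) (Steps.bwd (nat_lit 11) (Steps.fwd (nat_lit 57344) (Steps.fwd (nat_lit 32768) (Steps.bwd (nat_lit 2) (Steps.fwd (nat_lit 24576) (Steps.fwd (nat_lit 81920) (Steps.fwd (nat_lit 57344) Steps.nil))))))))))))))))) (nat_lit 56) (nat_lit 10),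
  Rule.mk (nat_lit 8) (nat_lit 286) (Steps.bwd (nat_lit 11) (Steps.bwd (nat_lit 8) (Steps.bwd (nat_lit 3) (Steps.bwd (nat_lit 2) (Steps.bwd (nat_lit 4) (Steps.bwd (nat_lit 11) (Steps.bwd (nat_lit 8) (Steps.bwd (nat_lit 2) (Steps.fwd (nat_lit 81920) (Steps.bwd (nat_lit 1) (Steps.bwd (nat_lit 11) (Steps.fwd (nat_lit 8192) (Steps.bwd (nat_lit 10) (Steps.bwd (nat_lit 1) (Steps.fwd (nat_lit 32768) (Steps.fwd (nat_lit 32768) (Steps.fwd (nat_lit 73728) Steps.nil))))))))))))))))) (nat_lit 56) (nat_lit 2),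
  Rule.mk (nat_lit 14) (nat_lit 110) (Steps.bwd (nat_lit 1) (Steps.bwd (nat_lit 17) (Steps.fwd (nat_lit 81920) (Steps.bwd (nat_lit 14) (Steps.bwd (nat_lit 14) (Steps.bwd (nat_lit 2) Steps.nil)))))) (nat_lit 44) (nat_lit 2),
  Rule.mk (nat_lit 16) (nat_lit 142) (Steps.bwd (nat_lit 1) (Steps.bwd (nat_lit 17) (Steps.fwd (nat_lit 81920) (Steps.bwd (nat_lit 17) (Steps.bwd (nat_lit 14) (Steps.bwd (nat_lit 12) (Steps.bwd (nat_lit 11) (Steps.fwd (nat_lit 8192) Steps.nil)))))))) (nat_lit 46) (nat_lit 2),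
  Rule.mk (nat_lit 17) (nat_lit 142) (Steps.bwd (nat_lit 1) (Steps.bwd (nat_lit 10) (Steps.fwd (nat_lit 98304) (Steps.bwd (nat_lit 15) (Steps.fwd (nat_lit 139264) (Steps.bwd (nat_lit 10) (Steps.fwd (nat_lit 139264) (Steps.bwd (nat_lit 2) Steps.nil)))))))) (nat_lit 47) (nat_lit 8),
  Rule.mk (nat_lit 9) (nat_lit 158) (Steps.bwd (nat_lit 1) (Steps.bwd (nat_lit 16) (Steps.bwd (nat_lit 10) (Steps.bwd (nat_lit 13) (Steps.fwd (nat_lit 8192) (Steps.fwd (nat_lit 24576) (Steps.fwd (nat_lit 24576) (Steps.fwd (nat_lit 73728) (Steps.bwd (nat_lit 14) Steps.nil))))))))) (nat_lit 62) (nat_lit 3),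
  Rule.mk (nat_lit 10) (nat_lit 286) (Steps.bwd (nat_lit 1) (Steps.fwd (nat_lit 32768) (Steps.bwd (nat_lit 3) (Steps.bwd (nat_lit 9) (Steps.fwd (nat_lit 57344) (Steps.fwd (nat_lit 81920) (Steps.fwd (nat_lit 57344) (Steps.fwd (nat_lit 32768) (Steps.bwd (nat_lit 2) (Steps.bwd (nat_lit 4) (Steps.fwd (nat_lit 81920) (Steps.fwd (nat_lit 57344) (Steps.bwd (nat_lit 2) (Steps.bwd (nat_lit 11) (Steps.bwd (nat_lit 1) (Steps.bwd (nat_lit 11) (Steps.fwd (nat_lit 8192) Steps.nil))))))))))))))))) (nat_lit 56) (nat_lit 15),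
  Rule.mk (nat_lit 11) (nat_lit 286) (Steps.bwd (nat_lit 1) (Steps.fwd (nat_lit 81920) (Steps.bwd (nat_lit 2) (Steps.bwd (nat_lit 10) (Steps.fwd (nat_lit 16384) (Steps.fwd (nat_lit 32768) (Steps.fwd (nat_lit 32768) (Steps.fwd (nat_lit 73728) (Steps.bwd (nat_lit 8) (Steps.fwd (nat_lit 81920) (Steps.fwd (nat_lit 57344) (Steps.bwd (nat_lit 3) (Steps.fwd (nat_lit 8192) (Steps.fwd (nat_lit 24576) (Steps.fwd (nat_lit 81920) (Steps.fwd (nat_lit 57344) (Steps.fwd (nat_lit 8192) Steps.nil))))))))))))))))) (nat_lit 56) (nat_lit 11),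
  Rule.mk (nat_lit 16) (nat_lit 142) (Steps.bwd (nat_lit 1) (Steps.bwd (nat_lit 17) (Steps.bwd (nat_lit 11) (Steps.bwd (nat_lit 17) (Steps.fwd (nat_lit 122880) (Steps.fwd (nat_lit 106496) (Steps.bwd (nat_lit 11) (Steps.fwd (nat_lit 8192) Steps.nil)))))))) (nat_lit 46) (nat_lit 2),
  Rule.mk (nat_lit 17) (nat_lit 142) (Steps.bwd (nat_lit 1) (Steps.fwd (nat_lit 90112) (Steps.bwd (nat_lit 13) (Steps.fwd (nat_lit 114688) (Steps.bwd (nat_lit 16) (Steps.bwd (nat_lit 10) (Steps.fwd (nat_lit 139264) (Steps.fwd (nat_lit 8192) Steps.nil)))))))) (nat_lit 47) (nat_lit 8),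
  Rule.mk (nat_lit 9) (nat_lit 158) (Steps.bwd (nat_lit 1) (Steps.bwd (nat_lit 16) (Steps.fwd (nat_lit 90112) (Steps.fwd (nat_lit 98304) (Steps.bwd (nat_lit 2) (Steps.fwd (nat_lit 24576) (Steps.fwd (nat_lit 24576) (Steps.fwd (nat_lit 73728) (Steps.fwd (nat_lit 122880) Steps.nil))))))))) (nat_lit 62) (nat_lit 3),
  Rule.mk (nat_lit 10) (nat_lit 286) (Steps.bwd (nat_lit 1) (Steps.bwd (nat_lit 3) (Steps.bwd (nat_lit 3) (Steps.fwd (nat_lit 73728) (Steps.fwd (nat_lit 57344) (Steps.bwd (nat_lit 11) (Steps.bwd (nat_lit 8) (Steps.fwd (nat_lit 32768) (Steps.fwd (nat_lit 8192) (Steps.fwd (nat_lit 24576) (Steps.fwd (nat_lit 81920) (Steps.bwd (nat_lit 8) (Steps.bwd (nat_lit 2) (Steps.bwd (nat_lit 11) (Steps.bwd (nat_lit 1) (Steps.bwd (nat_lit 11) (Steps.fwd (nat_lit 8192) Steps.nil))))))))))))))))) (nat_lit 56) (nat_lit 15),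
  Rule.mk (nat_lit 11) (nat_lit 286) (Steps.bwd (nat_lit 1) (Steps.bwd (nat_lit 11) (Steps.bwd (nat_lit 2) (Steps.fwd (nat_lit 90112) (Steps.fwd (nat_lit 16384) (Steps.bwd (nat_lit 3) (Steps.fwd (nat_lit 32768) (Steps.fwd (nat_lit 73728) (Steps.fwd (nat_lit 57344) (Steps.bwd (nat_lit 11) (Steps.bwd (nat_lit 8) (Steps.fwd (nat_lit 32768) (Steps.fwd (nat_lit 8192) (Steps.fwd (nat_lit 24576) (Steps.fwd (nat_lit 81920) (Steps.fwd (nat_lit 57344) (Steps.fwd (nat_lit 8192) Steps.nil))))))))))))))))) (nat_lit 56) (nat_lit 11),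
  Rule.mk (nat_lit 16) (nat_lit 110) (Steps.bwd (nat_lit 16) (Steps.bwd (nat_lit 14) (Steps.fwd (nat_lit 81920) (Steps.bwd (nat_lit 9) (Steps.fwd (nat_lit 32768) (Steps.bwd (nat_lit 9) Steps.nil)))))) (nat_lit 70) (nat_lit 4),
  Rule.mk (nat_lit 3) (nat_lit 126) (Steps.bwd (nat_lit 10) (Steps.bwd (nat_lit 10) (Steps.bwd (nat_lit 16) (Steps.fwd (nat_lit 114688) (Steps.fwd (nat_lit 114688) (Steps.fwd (nat_lit 24576) (Steps.bwd (nat_lit 15) Steps.nil))))))) (nat_lit 53) (nat_lit 0)]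
noncomputable def R_129 : List (Rule) := [Rule.mk (nat_lit 7) (nat_lit 126) (Steps.fwd (nat_lit 155648) (Steps.fwd (nat_lit 65536) (Steps.fwd (nat_lit 147456) (Steps.fwd (nat_lit 65536) (Steps.fwd (nat_lit 155648) (Steps.bwd (nat_lit 2) (Steps.bwd (nat_lit 2) Steps.nil))))))) (nat_lit 86) (nat_lit 1),
  Rule.mk (nat_lit 4) (nat_lit 270) (Steps.bwd (nat_lit 11) (Steps.bwd (nat_lit 17) (Steps.fwd (nat_lit 147456) (Steps.fwd (nat_lit 16384) (Steps.fwd (nat_lit 73728) (Steps.bwd (nat_lit 1) (Steps.bwd (nat_lit 9) (Steps.bwd (nat_lit 1) (Steps.bwd (nat_lit 13) (Steps.fwd (nat_lit 32768) (Steps.fwd (nat_lit 73728) (Steps.fwd (nat_lit 57344) (Steps.fwd (nat_lit 16384) (Steps.bwd (nat_lit 3) (Steps.fwd (nat_lit 32768) (Steps.bwd (nat_lit 2) Steps.nil)))))))))))))))) (nat_lit 77) (nat_lit 5),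
  Rule.mk (nat_lit 8) (nat_lit 286) (Steps.fwd (nat_lit 8192) (Steps.fwd (nat_lit 81920) (Steps.bwd (nat_lit 1) (Steps.bwd (nat_lit 11) (Steps.bwd (nat_lit 2) (Steps.bwd (nat_lit 10) (Steps.bwd (nat_lit 1) (Steps.fwd (nat_lit 32768) (Steps.bwd (nat_lit 3) (Steps.bwd (nat_lit 9) (Steps.fwd (nat_lit 57344) (Steps.bwd (nat_lit 11) (Steps.bwd (nat_lit 8) (Steps.bwd (nat_lit 3) (Steps.fwd (nat_lit 8192) (Steps.fwd (nat_lit 24576) (Steps.bwd (nat_lit 11) Steps.nil))))))))))))))))) (nat_lit 56) (nat_lit 9),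
  Rule.mk (nat_lit 2) (nat_lit 286) (Steps.bwd (nat_lit 11) (Steps.bwd (nat_lit 1) (Steps.bwd (nat_lit 11) (Steps.fwd (nat_lit 8192) (Steps.bwd (nat_lit 10) (Steps.fwd (nat_lit 16384) (Steps.bwd (nat_lit 3) (Steps.fwd (nat_lit 32768) (Steps.fwd (nat_lit 73728) (Steps.fwd (nat_lit 57344) (Steps.bwd (nat_lit 11) (Steps.fwd (nat_lit 57344) (Steps.bwd (nat_lit 3) (Steps.bwd (nat_lit 2) (Steps.bwd (nat_lit 4) (Steps.fwd (nat_lit 81920) (Steps.fwd (nat_lit 57344) Steps.nil))))))))))))))))) (nat_lit 56) (nat_lit 10),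
  Rule.mk (nat_lit 7) (nat_lit 94) (Steps.fwd (nat_lit 8192) (Steps.bwd (nat_lit 2) (Steps.bwd (nat_lit 2) (Steps.bwd (nat_lit 2) (Steps.fwd (nat_lit 65536) Steps.nil))))) (nat_lit 78) (nat_lit 2),
  Rule.mk (nat_lit 10) (nat_lit 270) (Steps.bwd (nat_lit 3) (Steps.fwd (nat_lit 16384) (Steps.fwd (nat_lit 24576) (Steps.bwd (nat_lit 4) (Steps.fwd (nat_lit 8192) (Steps.fwd (nat_lit 65536) (Steps.bwd (nat_lit 9) (Steps.bwd (nat_lit 4) (Steps.fwd (nat_lit 106496) (Steps.fwd (nat_lit 8192) (Steps.fwd (nat_lit 73728) (Steps.fwd (nat_lit 8192) (Steps.fwd (nat_lit 73728) (Steps.fwd (nat_lit 8192) (Steps.bwd (nat_lit 18) (Steps.fwd (nat_lit 139264) Steps.nil)))))))))))))))) (nat_lit 76) (nat_lit 12)]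
noncomputable def R : List (List (Rule)) := [R_0, R_1, R_2, R_3, R_4, R_5, R_6, R_7, R_8, R_9, R_10, R_11, R_12, R_13, R_14, R_15, R_16, R_17, R_18, R_19, R_20, R_21, R_22, R_23, R_24, R_25, R_26, R_27, R_28, R_29, R_30, R_31, R_32, R_33, R_34, R_35, R_36, R_37, R_38, R_39, R_40, R_41, R_42, R_43, R_44, R_45, R_46, R_47, R_48, R_49, R_50, R_51, R_52, R_53, R_54, R_55, R_56, R_57, R_58, R_59, R_60, R_61, R_62, R_63, R_64, R_65, R_66, R_67, R_68, R_69, R_70, R_71, R_72, R_73, R_74, R_75, R_76, R_77, R_78, R_79, R_80, R_81, R_82, R_83, R_84, R_85, R_86, R_87, R_88, R_89, R_90, R_91, R_92, R_93, R_94, R_95, R_96, R_97, R_98, R_99, R_100, R_101, R_102, R_103, R_104, R_105, R_106, R_107, R_108, R_109, R_110, R_111, R_112, R_113, R_114, R_115, R_116, R_117, R_118, R_119, R_120, R_121, R_122, R_123, R_124, R_125, R_126, R_127, R_128, R_129]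
def LW : List Word := [[], [0], [1], [2], [3], [4], [5], [6], [7], [10], [20], [21], [22], [23], [24], [25], [26], [27], [28], [29], [0], [1], [2], [3], [4], [5], [20], [21], [22], [23], [24], [25], [26], [27], [28], [29]]
def par : Par := ⟨13, 6, 19, 32, 8191, 524287, 4294967295⟩
theorem hpar : par.ok := by decide
theorem hR0_0 : lall (ltake (ltake (R) 68) 24) (fun l => lall l (ruleOK r44 LW par)) = true := by decide +kernel
theorem hR0_1 : lall (ltake (ldrop (ltake (R) 68) 24) 22) (fun l => lall l (ruleOK r44 LW par)) = true := by decide +kernel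
theorem hR0_2 : lall (ldrop (ldrop (ltake (R) 68) 24) 22) (fun l => lall l (ruleOK r44 LW par)) = true := by decide +kernel
theorem hR0_3 : lall (ltake (ldrop (R) 68) 21) (fun l => lall l (ruleOK r44 LW par)) = true := by decide +kernel
theorem hR0_4 : lall (ltake (ldrop (ldrop (R) 68) 21) 21) (fun l => lall l (ruleOK r44 LW par)) = true := by decide +kernel
theorem hR0_5 : lall (ldrop (ldrop (ldrop (R) 68) 21) 21) (fun l => lall l (ruleOK r44 LW par)) = true := by decide +kernel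
theorem hR0 : lall (R) (fun l => lall l (ruleOK r44 LW par)) = true := (lall_split 68 (lall_split 24 hR0_0 (lall_split 22 hR0_1 hR0_2)) (lall_split 21 hR0_3 (lall_split 21 hR0_4 hR0_5)))
theorem hR : RulesOK r44 LW par R := rulesOK_of rfl hR0
def cols : List (ℕ × ℕ) := [(8192, 2), (24576, 4), (40960, 6), (57344, 8), (73728, 9), (81920, 11), (98304, 13), (114688, 15), (131072, 17), (147456, 19)]
theorem hcols : lall cols (colOK r44 LW par) = true := by decide +kernel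
noncomputable def JS0 : List ℕ := [nat_lit 0xe104600041044006c410c00140018410c015104200051042005041040130000004800180018000c4104410001a0001103f0003103f006440f8000c40f800f103d0003103d0060001440f80020002040f4017103c000700070005103c005840ec0014001840ec015103a0005103a005040e4013000000480018000c0020002040e8004840e8000c40e00110001103700031037004040d8001040d800f103500021035003840d8004c00480048004c0048004c00400030003440d840d400d103400040004000700061034003040cc0010001040cc00b103200050005103200280000000400000091031000b000900080008103100200008000440c0001840c00008007102f0009000700090006102f001840b8002800280018001440b8005102d0009000500090007102d0010000000240024002400000030008000800080008102c000840ac001840ac001,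
  nat_lit 0x6000c001f002e00c4000c00000000417800a0417802100000004000b00040080000c002c000c000401f000000480004002000280024002800304180416801e1059000d000e000d105900c000280070416002f0001000b105b0004105800b8415c0008415c02d0009105900020007105700b0000000080000009105600081056000100030002000300ac415c005c0018415402a105400081054000200a4414c0028414c0004028105200051052009c4144001841440260010105110500094001c415800cc00cc00cc00b800cc00b400bc4158001c0240006001e001a1052008c0014008800140004000000100000022000300000000104d0008104d00840000000c0084000c0200002002300020001007c00000120000001e002000210020104e00021049007841340000412001d0003004c0008001000100000411c01c00061047000900091046005c41140020002000184114016,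
  nat_lit 0x21088005210881076012c00040144421c014441d40451086005010860050107401284214013c4214013c41d0002107300531073000441e441f00088003441cc049107600090021000c107201200004000c41d0003041c40471070000a0020000a1070011800080058003c41d441c004510750015000e1074106f011000080010007041d441bc0431073002710770020106e010841b4007841b4001000210700023001e106d0104002441bc0088007441b00400017000200031073106c00fc001c003841b8008841ac03e106a0022106a000441b4007841ac001441a803d106f001f106b000b106900f0000c002841a800d000780080009441d0013441d0001c03b106a001b10680002000900e800080008000400e0000400000391066002c00320031106d002c106d106600e000184198006841a8004c006041940371064002b002b002a106b106400d8418c005800400058418c0351062002b002b1062002c00d40088419c4184034000110680026106000cc417c009c417c032,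
  nat_lit 0x1108c107e018c000042384244000441f8062108d109000000001107e0184422c0048423041f80600012108e107d017c0000422c01e405d0011107e107c01704230422c422041f441f005e0000000c107c01740034422841f005c00031081107c016c41ec04c00010006107b01604210420041e805a107c107b107a01640030000041e805800001080006e015c001841ec41e405410821080107d107a107901580000000441e4055000210801079015000000130002000300081078014c41dc0130000004c0000018c000841d8052107601440000000841d8050006010791076013c018441e041d804e006010771076013441d804c,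
  nat_lit 0x10ad1095108a01e000080024422805810911090108901cc0004000c4224077108c108b108801640000429442200760029000d108801d40000002c421c074000d000010870160000000944260073109e1087108601c800000080421807300200000108601c80000425000b407100071086108501c00000000c421406f0003002d108501b84238004842140000000c03a00021085109d10a000100011108401b4000400940088420c0340088002a109a108201b00000003400a4009006b000d001e108101a8420c4230003c4208420403d0010000b000a109b108101a40000421c003c0680007108a1080019c425842084200066107f0130420442380050420041fc03d0015000500041096107f0194000042040050064,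
  nat_lit 0x18000310a6109f109e0228004c005c000842944278089000f00030006109f109e022042900038000800144278087000b0046000010af0218009c00200010000408500000044004b10af0210000004c000010a90041020c0068000c42640821098014400000004000800bc426008100000001002e00071098020000044264005407f10c300430001109701ec42580120000013042e84270425407e000010ab10a301f40008012109500050000001701f042c800a00000000807b000100031093002501e80000012000100030006108f01e442680004423c05b108e01300004007c004405f00030021001f108d008c423001300000002000401cc0008003c422c072,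
  nat_lit 0x70005110d6007310ad028801c04370017042b842b40a1000010b010ea0280001801c042b009f10ee005e005f000510ac02780054004842b0000c42ac09d0015005a10da000310aa0270434043a043ac42c842a809b10d700580011000f10a90268000400080010003442a009910cc0047004a10cd10a8026000044364429c0970002000710ab000810a7025842a4001842a8001c429809510a70003004810ca10a6010c429c4350015c4328429408b000010a7000310a610d30250000c0118432000104290093004700070005000410a302480000429000040110431408d0051004010c310d010a20244014c430400f001404288090000010a310dd023c00040138428408e000210be004b004a10a1010400e042f401280124428004000460001000210d810a000fc00d800e442f04350427c08010c3004710ba0035109f00f44354434842e800dc427808d0000004b0006001c109e023001280014006c0070427808b,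
  nat_lit 0x6310c30000000f02cc0004051000110c20002005110e102540000018843240b210c00000004f00760049004810bf02c40198001400000ac0000004800000060017842f40b000010130000842f00004012c00d80af000010fd10c302b80124013400e0436c42ec000042e80ad005d0002000002b000000120001000f10df10b801e443e842f442e006610b70130002842f001b043b042dc04510b710bc0006000410b602ac003042e801a843a842d404a10c5110010b402a843a00004000c42e442d00a9000610b4000210b810b302a001e8000c42d0019442cc049000710b5006510e410b2029c42d442d80194018c42c40a6002100660065006210b002940000001042c4000843c00a3000310b0000110e210af0284437c018042c0000842bc03a10ee10d90056007210ae0290000401c84378017842b80a3,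
  nat_lit 0x110000010002006510d8031c007000b40078019c435c0c6005f110510e0001b10d7023001880194007000ac43580c500760077001210db10d603100020001c0160002443540c300000002000510d910d403080004000c0014002443500c10072005c00a110d810d303000004000c001c435c434c0bf000c000e000910d610d2010800040148000c001043480be000a006f006e005810d10110014000040008015c43440bd000510d2009b005610d00184013c43440010002443400bc009910d00003000810cf02340008001c001401a843ac03c000110fd0019020c000001cc00400bb00040002006700660050009510cc02e80060002843f0432c0b0000a0027009710ca014801a0435800000b90001004c01b4432c000c43200b8000d000c000210c702dc4318013004510eb10c60001001202d8000001b0432000240b500100001004a0047005310e910c402d0001443b0430c0b2,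
  nat_lit 0x1000310ed004810e902f8025c02084494441443a00c5000110eb0046110410e80354011c44080120440c439c0cf10e9111a10e8000210e703500114023c024c01f8439808710ff00451100111910e6026c01f000004398445c43940d30000004310fe111e007b034843f00104022c01d843900d100b00089003a10e910e4026c0020001c01fc0024438c0c300000002000510e710e203080004000c001400d043880c100ac007f007e10f510e103400004000c00c843d043840bf003410f4003310f310e0033c000401e4000c001043800be0032008100a8007b10df023401dc0004000801e8437c0bd002f10ef0078007910de033801d843b800b843bc4378096007610ed002d10ee10dd033443ac01ac4424002843740a910e000071108000910dc02a00000000843780024436c04700020034002310e810db0330009000cc0088439c43680cb000100031104006510da0328008801ac01a001d0436402c000210e41109007310d903240078438c442001c843600c8,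
  nat_lit 0xe0001001003a4000005110f90000000b02c843f00048000800180e810fe000d00fb0001039c000001310f40002113100df00f311840160015d0160015d0160015d0160015f015f118300fc0398001443ec43d0000843cc09610fb10fa10f3000110f2025443f8000443c409f000000100081000610f10394002c0030000c43c843c40e4000010f710f3000110f1038c43d843c8000043cc43c40e2000000c8008310f710f10384020c43c843c40e00000007e10f1037c01f0449043d043c843c40de00ee000210f1007403c0000443c40dd00ef000010f10370000001311611172013801020100010201381172014101411173014700e811230080111f10ef036c00104530447c01f043bc0da00be0079111d112010ee036403344528447401e843b40c0112100cb10ec00b401c001c8446801d443b00ca00ca113d00bb007810eb0260026c025c0134002043ac0d8000a10ef112010ee10ea035c000000080014001843a40d6,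
  nat_lit 0x1111002f110d03cc001c44380000443c4434096110f112011211122110d03d4001000984460443844340f400030017110d0154447c008844340f300011114110c03c80000007404700f1000a110c110b02a8446c443c442c0f00023111311121110110b028400280024444c006c44280c3000200eb00a8001c110903bc00080010001c008844240c1001f1111111511141108030045140084441c09f00010004001f1112110702fc442c00604428444444180ee0002110c00140015110602f84424442800684430441404a009b11111104018c442400440048442844100bd1105110c110d110911030184004c003404300e911050006001d010703a04430000000540ed00130003110903b000540000003c0e91100000010ff03b000300018000c44000eb110400020000110103ac00580018001000040ea,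
  nat_lit 0x111f11211120041c0008447847240678067044800018447c4474106111c0004111c041400080010447806680670471c4470104111b11c601a201a2019b0199111b040c446806644468102111b0196111b111a04044464000444640ff111911c20197019501940194111904004460065444600ff010d0001111900740474000044640fe0000004c466004bc063c045c45a844600fd000a00100012112511180284447400484484004c445c0fc0004112d112c001711160394000c00a044cc0550002002f111f0374000844700010001444500fb00061116111500041113033844ac446044480011119000b111a111811120304000c001000180024444408d1114000300021112111102504450449400b4446444400fa0000000100031119000803e4000400404468445c443c0f40001000400020003110f03e04464445044380aa0002000000010003110e03dc000444540048005444380f6,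
  nat_lit 0x11cf0000112f04580000012000b1130112e0470000404fc44b80ac112d0130056444e844c044b411b00020004112c046844ac013000000480008005c004444a811900000002000404600008471c44c444a41170012000c11280458000844c044a0115014d1131112704500004000804ac449c113000b11c11126044800040008449805f012911271126044444940130000000711a91125044044a0002c449410f0001000b11240150000c0024449010e1123004c00004490002c10d000111ba112204304490050c448410b01411123112104284484000000200014000409a112211200001112000020005000004240004448006744480108,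
  nat_lit 0x6114b002a114304d00004450c00b0450813300401153114104c800004520454400cc131114700260029114004c0457005d844fc12f00000013003f04b844fc000c452044f812d115901730019113d04b0006c451c44f012b0000004844f00008002c44ec12a113a00480000012000600011141113904a444e00120011001d0000000104a00004474000701270000001111370498053c4524008c44d412500001136113402b800080040003444d012400000048000800a0451044cc123113b001e1132048844cc004044c812100250011113104800000013000011321130047c000044cc44c011e0003000f000c000b1130047444bc013,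
  nat_lit 0x3600231164019a115404740058005c4840454c11b1152004c00004550455c4548148000000091152013c002c0000454c454814700001153001100140057115805180000454c45441450000115311510510000c065007cc064c05f4454414300001152120a050800104550454014100141154114f0460002c0028453810b00000048000845c445c8063c453414000050018114c04fc000c003c453013e0054000f114b04f4000001300010013116c004b114a04f001080130452413b114b0000114904e800000120002116800471163114804e447ec003c452013800030005114704dc01340028451804d001c001d114601e045740108451410f00030048114404d8000000204584135,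
  nat_lit 0x101ab11650564004c000445940731225000111640560000048a800d41570199116400011163055800d000cc4860458c15500001164119311620550000000c401d0458812500310034006b1162054c000406504640458415200020065116101bc488801c0458010f0001004c4624067c457c15100001161115e047c00040020457811e00010164115e0528012800100014066c4578150115d004c0000013000400541177002f115c053c009400bc456c14e0042002d115a043c068c45b4456414d0044000100041159053000f80018456014b000100541174044400000120053005f001011560464000c457845541140003014f11550528000c455c4574484c066c4554149,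
  nat_lit 0x11118005b445f4002001d845e8134000111ae0083117905b0004846c045e0132000900050070000005ac000046ac01a816a007c0000117604580000012000300010065117505a4000c013000311a6007b006d05a0000801c800b816700010063119d0598000001d0465c13511a20074000111700594000c000445bc11600010003007305900000012000200510064116d04640134020c000845b411001af00050002116c058c013845b045ac1120000116c11711173008305880010013c45a805f000101bd116b0584000048d4013c16001b900091168057c000445a4459c15e1185000611660574000448bc459815c000111681166056c06cc0010459415a,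
  nat_lit 0x21191118f05f446c0017c463817c00770075118d05ec0000463c463415a000111bc118d05e8005000104638463415300b0118e118c05e40000051124e0000118b03b000084728474c49941780001008d008305dc0000012009c11c81188118705d8000400a0461c07d000111b81193118705d4461801211b60073000105d0000001200000003118c001a05cc00000704460c14a0000004c0000007000780700172000600001181045800000120000000111af118005c4001001d8005046001700073000f117f044445f8013000011830078020c000c001045fc45f416f11ab0009117c042c0004460001e016e,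
  nat_lit 0x40059002811a4063003a049e00014000002300000018000505b446a44694468818b0004000511a1057446f40024468004e00000048085447e0036447d0467c18a00140098119e062400100330467405c00070058008f0092119d0620084c47d0035447bc467018700af008f0090119b06180050023c466811a1199004c0000466846e00ae0002119a00041198061401740014465c17c005100031196058400000148465818411b411971196060c000c07a0465814a0001000b00830082127706080000002446d8072119600011194013407e84650464c1810000004800040210023449cc464818011c31193119205fc02000000464404e0003004802dc4704464017e,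
  nat_lit 0x1022b11ec11b6067c00100224022046d419e022b007c11b711b5052008bc021c46e046d419d0000000211b40428000001f8477c46d019c12a700f5000b11b40660000046d446cc15a000200ec11e311b3066c000801300a611b511b2046003a4001846c419a0001000311b0066447cc02cc00bc46c01980002001911af04280000012000100e400ac003111ae050046d4039400b446b4197120b00ee11ec11ad0658000046b846b011e0003120b022911ac06540004481c4a781940000002811b8064c037c027446a819200e811e611a906440088026846a01900000004c0008031847a402a0469c13c11e200e300bd11a6063c000401311e700a1001e11a50638000000080020469018d,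
  nat_lit 0x1009800df0580489c04500448000847301ac1200000411cb057c0368472c47281ab0002120300a2120606a8000001300010003010e00d611c806a4026c0348471c1a80004004111c70564000001212331235123700dd11c6069c03c84868471406f00bf00d311c4042800f4036c470c15a0000000411c2015000000130005010a122f123111c10698030048bc47001a5024a122f11bf06240348045446f81a400bb0047003311be0550000c006c46f41a3010011d011bc0644474003f40410472446f01a2000311bd001a11bb06840058006446e811a11b9004c0000012000012100099009711b80628486803dc005046e01a0000211bc11b704540070470046d8073,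
  nat_lit 0x11ee00fc11e206a0001004d04784136121700ac00fe000000540000007003f4190001c010e00af11df06f000100014486c47781bb00fc00ae11dd06e80004477402c402c01b9009d124a0122000006e000000014492c02f000700be00bd123711da06dc02a8494403f447641b6123c00f400f311d806d4025848e0475c12e00010128123c00ff04a00000012124c00f800e511d711d506d047f0001847501b30000000311d306c800000121217012700e400e311d206c4018847e8474411e0002122911d004d800084750037047401b00062006311cf044447380130003012f11ce06bc0504473c47381370001015211ce05040004000c48ac035c47381ae12bb003611e311cd06b4000c4878473405c,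
  nat_lit 0x2004c0510002447dc1c8010d11f911f604480004001447d4199001d0020120111f50680000800c847d01c7000200480288487447cc1c0007a007711f20718000c01d447c41c50001004804e40474042847c018e00030104010711ef048c4858023847b81c20005005011ee07100450484c47b41c00100006b11ec048000040130109010a005811eb0680000c0170482447a81c31201120811e90708000847ac47a41c1123b11fe11e8070001040100479c1bf000000d611e70694035c037847ec479c19d0002003d11e601c8000001211ff00020003002911e506f800e400bc00a84790195000000ca00c800c706f448b004d4478c10f,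
  nat_lit 0x1512160033120d0698005400ac4838483419d0000004800004838486400a048301d4000300901321120c0520000c013000600181216120b074c4a1048ec48281d212390093120904bc0028024448201900001004c4a284a500ac4481c1d1000400630065120606344828019048141c2000012061210074000100074482448101cf014700101203066801880040480812000d7010d00231202073801f4008c48041cd00020004120007300000012000401001280010511ff072c02180358034c47f819500741263125a11fd06300070040c47f01a50004001311fc046003e8005847ec19a0001004c0a784a10485047e81ca00030110005211f907240040014447e01c7,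
  nat_lit 0xad003700200780025c016c487848741d5000000480000000c028c016048701cb0002009c1221121c077c0474054c496c48701de00020004121b01e0494c02ac48681a812290096121a052c4868025048641dd0184009212180770029c4928485c1831280124a121707480000486048581450000121812160568000401100238485819b0004121c1216076c0108487048541c00000004c000c00540048006448501da1238007c122312130764002000a448481a50001004c005c485048441d8000012121210047c00004884484013f00a40019001412111210075c483c0130000004800000084003c003848381d6121e0080120f120e07540000013,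
  nat_lit 0x10003122e071449c4014400d448b81ed00021246122d07b00000013000100dd126e00af122c07684918012c02b848ac1eb00dc00611243122b077c000048b048a806e00000001122d122a07a80004001c490048a81e90002124f122a01640014016448a41e8009f00011229079c022848a448a01c40001122c12ad043000040160489c077000400d212260798492448a04898121024b02dc135d02e300f612721227122607944894012000000cb122501d00000000848940fe00ce00050006125b01640161122507904d5c4b14067c4aa448901e31223004c0008022002141e20000004c000c009c48d448841e1011d02cc1220057002504d20487c1d200c900b20002121f073848bc00004878077,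
  nat_lit 0x3a125c07dc003c492000804910107018d124e12430644000c0084490816e00000048000c49dc01e401e0490418a12691272124007b8499049b048fc1f600030004004c123f04c049cc015048f81dc005b126700f0000b123e07d400b40010001c48f41f400560008123c07cc011448f448ec1f2123a00480000013000100f600c100c0127c0698000003d800b01f11280000e1237066848dc48f048d81f00002004c000001dc49681a5005d0040123407200008010048cc11f1261009f0006123306800004000848c807312371234123104500004003048c41120002123a1239123107bc48d448e048c01ee00010048038c001848bc1c8,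
  nat_lit 0x60008001c001f125b081c4af004e800804968206127b001e125904780000012000101ac00ec00eb003c0814000006bc030020401aa00a90077125607b400104a144954203006b006c125404ac496c4978494c20200031255125307040028002449481d800060005125107c049cc0180494420100001252125007e400000008494006f0002127412500564005c4a0001584940200000200030058124f07fc49e849bc49381fe01a6130d0328124e07f40004001803fc49341fc00fd00fe124c056800144994010c499849301fb124b00480000012000112a70196019412560500000003ec02cc1fa12a500ff000c124807b449cc0028491c1f90000030a003807e00000013,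
  nat_lit 0x12ef014c1272126e04204d5049c049b81161350126f126e08400004099449b820f126d01300bbc0004000849c0044449b420e0001004c00d400bc49b014b0006127b126b04d4000801200041294126a059c002c49b449a416e002000761268083401104b14041c49a019b000600c8010a126707a801c40424499820c000500480000012007c1294002000030001082c01044a6c498c17e000200041262068c028c022c498420a001c0089126005840000030049801890003000412871260082401984a14497c050012f013212c4125f0778000800140448497820800b800ba125d01e002fc03ec497010a00031280125c076c0000012,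
  nat_lit 0x127f00480000002c49fc04f13621361015e1303127f0290000004444c1449f821b0111011200000004127e02640000045c045007f000000480000004c024421a00110002127b0510002449ec49e81b2000101300010001449e418b13d8127b12780864000049fc4d5c142000d000112770860001c49dc49d821700011279000904ec0008000c49d41111274004c00000120000000202360361127300680008043049cc216007e014e0001000008544d3449cc49c821400830000127103f8000401300011272127005144a8408c449bc21300001272126f0568000000044d2049bc2120001012e002200210028126f08440bd400f400a449b8133,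
  nat_lit 0x19b129a12920408001000504a4422900010007009b08a04c0801dc01e005d04de805184a402270006019301880148128f08980474086c08684c2c4a3822500100145128d04384a300130000128d018c02b800084a3400104a2c10812c40004128a08604c744a344a241c50000131e1289071c06144a284a241bf000201811289017c0000000c024c2240006013b013c01791288088c4a1c013000012be01f808884ac801a84a18141016e00a112850884046c02844a101db00021285128306684d104b104a082170000000112840710000405b84a0422012820001009c1281087c05a002684a0021e01bd128212800874000000044a0c00404a0009100011324128006c800044a0805c84a0021c,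
  nat_lit 0x2000712a604dc04104a9c4a981e7000012a8022a03bb03ba131012a608dc00144aa04aa84a9823601af01390000016c0000012131c026e0275022612a408d44c7c4dd04a8c234015f016312a20534000c08844a8413600000138026c1392137208cc01e401e84dcc4e3c4cf000184a8023200160006129f08c4000000044a7800902210011129e0430000c00444a74230000003a10219016c0e640d4c0df00e4406640000000c002822f000012a1015a047c00384b584a6822e014a009a129908b44a6400044a600dd0192009b129708b00000013000000a712d1066400404a584a5422b013b0000129401380004012000112951293066804dc00344a4812600001294129204284a4c000400104a4822a,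
  nat_lit 0x3001412b801bc002000544adc11e0038001612b60908000c4cd44ad813712be013712b508b400104af04ad40720008000912b404280508002c4acc242000200a21358144501cd004212b3090400104b2c4ac8137000f003d12b101344bc84ac84ac4218000112cc01c5021600a700a812b10900000400104ac406f0042000d12b004d8000406a84ac00550003000512b712b008fc4c80003c4abc14112b3000c12ae06fc04f008f84e3c0738071000184ab823e0000000212ad0610000c4cc4090809144cf04c884ab423d12b2011612ac0850000c4ab800204ab010712f112b112ab08f0003400244aa80ff13520039003812aa08ec00044ba84aa413e133312aa12a9079c028c00004aa023a000112ab00b208e40004042006604e7805a805a04a9c238,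
  nat_lit 0x19d000200bc091000040120266004d0059000200001317093c02d84e1406440164000414012eb0000019907480658000000700e90000004c4d8c0004006424e00000048004c0000025c0b8824d1305009813080002001109300014000800004e1024b13af0043005112c409284b0c00004b10067c15300020004004f12c2053001a4013c4b0414b12e412e112c00924000400f806684b00248000012de12da07044b104b004afc22012c0000412bf07c00000052c4b10246028f000112be0860002c4af84af41990001000e015206c84af4000c002c4af024712bb004800004b584b00246004112bb12ba0914000c00004ae424400000130000800f04ae0243,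
  nat_lit 0x612ee12ea057000bc00444ba420a0065001112e8083400000130001003912ef0664001001704b9806f12f212fd12e5043c001c01604b9014d0004016612e409604bc04da84b8c22e12fe015f12e208b4000c014c4b88072004212f412e10568055c014c4b80136003f12e112e0095c4bdc00004b7c210000300484c74001c01f04b781851307007d12dd059c006800704b70191137b130412db047006dc07dc00004c042560075000113c5139909544c5c000801c44be016f01b301b4131a000105544c54000001c84bf4254000000901311094c02380fb051a85178002001b42520129000000f1019803b80000072404a4251017d000103d9135209400000013,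
  nat_lit 0x2139f130208c0074c08d44c0412001930004000601661301088c003000244c0025c12ff004c4d744e34000026700000193018609984e3c06ac06b400204bf4265028e0278000512fc0754057c000c4bec21601f6000001710990046c4be800044de02630000016013540748057809d0000020c00011391027f13de02730988000001300020003011212f5098400040120002131d003112f4063803a003a400b04bcc260010a040312f20528021800f44bcc4bc819e0005003412f2017c00040510050825f0009131213e313b712f10978097c0abc500c08944bc025d0077021212ef09704d804ed04bb801412ed004c0000023c019825b008d001b001212ec09684c404c544bc04bac259,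
  nat_lit 0x1319004c00000121415141602c40000131809b4000005100000003131702c8000c084c01700b0825602c8020a020b137c1316088c08080c500b4404b04c5426c00060182012d131405c04f2804b04c4c26b1312004c000c012000601ac13b21311074c4e9806804c4016702a913c6130f06444e4c08304c3817b01bb01ae019c0015130e09a8001c05fc4e9400544c34269141c02fc14240015130c09a00688004c4c2c10e130a004c000c012000401021309071004b84e5c4c2011801090167130704804e3406184c18217000200030100130608244d744d7c4c141c2021013d3023b130508000008000c075c4c101eb00fb13ca130306944fc84fb84c0c118,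
  nat_lit 0x1500030a040bbc0014006c2800019000409fc4cd0000c27e136e0004132e09f44cb8000c27c0010000209d00b9800144cb427b1328000609e84d8c001400382791330000409e0005c000c2770017000209d803000004002c275132d000009d002fc012800004c84273000101e4004200411337004509c80000079401c012e13cc132b1329131e09c400044c7c00104c741cf02d3000e131c085c00004ca000584c7021b13c801c20000131c061400004c900050006c27013220006131b08304c844c784c6c1fa145a131c131b08b850700d604c6c26f0000131c131a0704000000044c6813700010355131a04d8000850604c6826e,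
  nat_lit 0x484d10000000a44d0c28f134d1344134305e4000000040a7c1c00000029b001213420a3800004d0c00144d1805544d0828d00000266142b029c0a300990000400084d041861340004c09804d0c4d0006f00000001133f0428000450504cfc17a000113410051133f0a2c4ff8024c4cf802f00000242133e0a28000400104cf801d0002022d0467016c0a2400044fe80bfc08fc1bd006f00d40222134f133c0a20023c01284cec10e133a004c0788004000002870001004c506051084ce028613740012133704d44fe4040400041920093009400000a14005c000c2841335000209d04cec000c27f001f00020a0c03e400100054282,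
  nat_lit 0x13e513530a28000000044d4c29913e313d91353046000004d504d4812000000003135204fc0008008405ec4d4829a143802b9135b135207ac0004000c4d4413f001d1359135007f80004004409b44d4029a025d000113500a64003000044d3c29800001354142305f44d40000c4d38297134d004850644d34000421d0000000113a40a58000002c80de04d2c2950118134c0002134b0a504d2801302ab02a3134a0a4c4d2c50cc4d242020001134b000f134906740190003c4d2015b00020291134805e800000130001136f02a513470a480a440a904d1829100330000000113460a4000004d1c00a812000021347134504444d10013,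
  nat_lit 0x132014300e30a8404c80a000b0c4d942a0000102bd136401bc02bc094450ec4e684d9025e02ba024814340088136305400008086c023402184d8829f1361004c0000012142601cc1402020f13600a78000050204d7c14e01d901d713ff0182135f05400008000c00144d7811b135d004c0000012000113620011000f135c082c0008001400504d7029d13601364135b054405ec4d784d6c06f00010003135a0534004c004807b44d6829c00021409135901b84d8806304d6012b0001135a00091358055006a44d704d5c17c000013f1135707b00720001c4d5c1af0000135813f40480000800104d581111355004c00000120001000201c513540a6c4d604f704d50027,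
  nat_lit 0x14680001137d076000104df44df01c500001380029714660aac002c000400084dec1a1137a004c069000ac4de815b0000002813790428000000084e604de419b0001138e13830700016400080030001c4e804de02aa139e005f13770aa44dd801300000001139a0aa000040120068147002c11471145d13740a9c0018001c06b403cc4dcc2a6000300484e6c001c00002870000004c001c03f003e0529802444dc02a5146602be01c113a8136f0a784f540a5802444db8198019313ff0092136d0a90099402444db015a01af02840285136c09c00a5c0a6055004dac15500040005136a059c4f6403a04da41dc000102b0149f028f13d709a4000001202af029a13f7136b13670a8c0008001400244d982a2,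
  nat_lit 0x138f139d0480000000044e3413f00000001001f138d0ac800004e544e3428a13b8138e0000138d0a4000004e484e341f9138f0000138d007400000130000011701d400d5138c0ac455c050e44f4c4e6800ac000400084e302b00001004c057001804e2c291138b13af138a09104e2c4ebc4e2828613e10061138905f00018001c0bc44e24155139403d913880abc00080ab451ec0e0053440c404f602ae0001147b02b20ab400a852280bd051fc4e1825e02ab038c03c202c113850058001001ec0ae84e101b0015302bd13830aa40ba851ec4e080141381004c000400184e042290078029f138006bc000000044e00234000413830032138f13800ab000c04e384dfc26e137e004c0004012,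
  nat_lit 0x14fb030c13a6072003c40a584e94179004700a413a40448016c01684e8c2b90003004800c000b44e8817e0007005313a1068c067801504e8019103050055139f05ec0c340db00db40948000009000010009013202200ae00000012000a017a017b0127139c075002904ff44e6c1a5004c1401139a06240000013139b000102f304d4000001214a602f40254000100030adc00000130000003f025205b40104079c03a04e502b61395139e13930ad40af44fa84e481c00001000f1393047c524852980bd8510007804f1c4f104e442b4139b139d0076139006d400004e444e3c1ba000000081397138f054c4e5401cc4e3c02600061393138f0700522400104e382b3,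
  nat_lit 0x5014713bf04444ef8013000014a9142a0508090c00544ef426f0004001113bc046053144f004eec1bf0142001313ba049800000014064c50e81c900061471032714d7021d147413b90b08002c51f84ee02310188029313b7091851c0064400002c1000000480634062450ac05644ed42c0000514bc13b4079805440bb04ecc2bf148d018d00000af8000052c050d414202ca14c1032102291472000213b10af450c805f84ec44ec02bc13b1000113af01d80000000c08b82280003016d017d017913ae08984eb40130000146e1421050808a408a000100024019810d44eb02bb01650166014e13ab05c4001c01300ec02fc031113aa0a744eb003f84ea4121033d14bf13a80ae84f5808044e9c21d,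
  nat_lit 0x500000b28089c00044f5c27b000200000a0c000000040000000400002c90225000113d40af8024000044f4c2c80003002902280b1c0000001402282c600061456145d01b713d10978003806d406d84f401a1002801b513cf04684f380130000008e01a10b0c4fdc11844f340ff000413d713cc05b8066405e44f2c17b0000000602b10af80018513c067851244f282c5000b019313c904380098063c4f2011a13c7004c00040948007c2c4000002ad01aa0b0c095000044f14218144f13c513c4085c0000000c0950228000301941446144d13c308984f08013000002591443090c523400044f04218014d13c113c0085c0000000c52a423a,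
  nat_lit 0x1d800760b540000013026c000801df14810b5000000130252024d00000ae4010c00382d3004f000d0b304ff40030277004e000b09d8012c002827e002f000a0b304fc80024277002e000809d800ac001c27e003f000b0b4c011000282cc004200090b3c00fc00202ce003f00070a0c00f000182d202b9000700200b4452ac00184f9c282001a00050b40008000102cf001d00030b380074000828302520006000f0b34003000142cc14a20004000c0b2c4f70000c277000c000209d8001c000427e,
  nat_lit 0x1516151d14120acc50940e2850442dd000514dd14d10b70000c019c51481e700020018038208a40000001c0bb8549c0e100e1805d82db000901ee01f0140d0a50019407cc503010e001901ee140b005050280130004004c000453f0525c14214d402e1001814080b680b9c5050501c1e7005100551406071005ac0050501411f01e300561404085c00040510003000114030840012c500c500800900000048000453480b7c0b7450041d60254002b025302510250059114010b6453340a14164050002d80147160b13ff05285304000053042c70000005402600170000001314be02c600110ae40000098401342d714bf000002c8040801cc000053002d6,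
  nat_lit 0x1043e019e14250ba4523805540f7c50942e5043c158f14240ba0000001205a9040f157c03fb14230b9c00080014509850882a0043203f8142101c80000508c001c15b142100001500028a028c034e009f14200b9853fc0b300ed00fe8000050800210000142103f7077000000004507c1840000000103f2141f0b94000011a8507c1b315a500010002141f0b905618508050782e315a301e501e314a201e1015a141e0b88507810d85074298155403b603840000141e0161141d0b84000405140e040540003141d015f141c008c506c0130000004c000451dc06180a1454201da000000c1144200c70b8004dc0010001c021810bc50602df00d31475042d141705b0001401300050007038b14160b780a600e5454fc50541cf0372038b1414076c10f40e2c504c19a,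
  nat_lit 0x105bb1436016c50d404c164704af143614350bcc50d00130000143904ad14340bd0001850dc50d450d02f31433004c5610568450e050cc209000014341432071c000410f00fa850c82f20001004c10e850d050c419100001432143006400000129050c018915ca15cb159a143114300bc450bc01300001598142f0624572050c050bc1d20001000b0233155004a1142f0bc001b803e450bc04e00040000142e03a4000001300000066029500f80bbc000005100000005022a0bb80000080850a82bf00000048000c50a8068c5664177c595c0f3c07c42ed0000142801450bb000005334113c178018fc1780175016482eb14cc044a044914260ba800000004509406f,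
  nat_lit 0x2a20000144d085c00040510001034c02cf15350396144c0bf854781034512c132156202ee144c144b0bf40000051000002eb144a06e854e00008000c03bc0a7051282fc000000020077090c0008026000082fb000102c102e304d40010001c5254511c1ca0118011914460be8000c012011a04140165000006540008511400202f90001000500e40a580000000c521c16100030123011214410be05234044851001b30000004c529c52985204000c50fc13c011e00f40002143e0bdc000855bc56680760001039c14a60a280000093403c42f60002143b143d00050bd407f453f000002af0001044a158d071c0000112c0e5405b15ac15da143a143707d050d8012,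
  nat_lit 0xdf0090145f04700000012000203251565037a145e0500524c561451741f60091145e145d062c02cc0000517004e0002004800085174516c145002302e2145a0c200d900ba0516420d0000145b14590960000c0fc00fcc0c74022c022851643070002004856340558516015100030156145708c053b852e051581c503260324031501e614560c1800080048079c5154305015514ed14540444514c01300081454145305f000005154514c30400000369015114530c0c0bec000c5150514c16f01ec006400630001052055dc0b3400003020001006b00670c04000001c00bd01e6007201dd01e300021450144f0c0000105140513c2ff000001e202a5096c538c11bc513c5138271,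
  nat_lit 0x4bc161115d4002e14720c4011a00f1400ac51c430f00000028147006c800000120000157c0389030d148007500ca80cb4002c51b82a00002146f146d05380000013006a03030325009f146c0c38000055a8026051ac19b157303210006146b0a680008000c51a817a000000480bbc0924095c56f80c6051a430d14690385031914680c30000456740e1451a030b0099009c1467017051a40000519c13a00000048000051a00008519816900000121011f158d0316031714660c2852d8519c51982180000013000000004519414200030524146504d8000000c452c052ec1fc002f0313031200b414640894001003a456bc518c1701462004c0000518c03942220004149714610c24518c0248518014b,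
  nat_lit 0x215960514000c0120522821601a314a114890c580000001c54f0315000715da1488096001140118521c31400cd000003d406c8573c000400ec21803e9000000380c4c000000080f9c2c60000022c035c149607bc54d00cb4521052081d50000000114810c48000c0120006003c148008e80f5400f451fc1db000a1482147e0668573400f451f410b00000048000c0e680344034051f0180007e15801584147b0678523c0c8451e81ee0004000b147a079c5624003451e419a0000004814101250124013d051e020b02da03f314770538001411b851d811e0012000004be08a00004001051d831100011614161d159d05e00000012,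
  nat_lit 0x23002914a30b700e1452fc52881d203c70039000007e8000001214b30388038703de14a00c7000680d340e3c527c31b14a1038e149e0c68000804a0527413b00e600e315b8010d149d078c001004a0527010e149b004c0000527004c4222000614e9149a079c0d240390526415114f000e21498085c00000910526c055025700060000083c0000012000603c2037a15b614950500538c56dc52501ee00390000022c0c6408a40388524c000031800380003000700de14920c5c137c00385244218033e00dd1490088456b80374523c19a00000130000457680084222000200040007148d08fc0f6c003852301410044000b148b0ae8000808b0522c257,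
  nat_lit 0x14bd004800000110144425f008100170015001d14bc0c90025c0e3c0ff000fc52ec32314bb003f14ba0c80003800ec52e41f214b80048000000bc146822414c0007b0079004114b70c880e2457f409bc010452d8321002f14bf14b50c8052d00120002006415fa08a40000001800c421a0006054e14b2095c0134142852c42c40005054e14b001540110011852bc31414b8025f14ae0c7c00000130010000f0004000514ad0c78151400c852b01360466000800000c7400000130008038c038f039314aa0c3852f80e4c52a431a006a039114a808300f7057b40e2c0014000026800000144000457c052f418100070014006414a5074c105000a45290245,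
  nat_lit 0x3c003c2004014d10a700008001053441370473000514d0013406c806cc11c4534032e0002166814cf01500000000c11c81350003154114ce095c0d30067c533422c000000480f8c58300f980004533032d01f214cc14cb0cb000040510002000300ee1518168d04a014ca0cac5834127c532422c00010330034a024c1522005c00040bb053202be14c7013056945320531c17e000002e614c701bc0b900000531c21000020048001401ac53181a3050304d214c50c2015b81350531020d0000004859e0147809d05538530c32a029f01e601e714c20ca4535c53a85304328000314e714c00c9c0018001c005853385300326010d15e2008a008814bf0c940190022852f8320,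
  nat_lit 0x153f0544166e04a5000214e50cf05adc5ae45394539033b0111000314e306cc000804680d101c00000004c57ac09c856a81588538433a153e056114e008d0000853840b640c2c33900000144539c028453783380000000214dd03b4000053fc06d406d0577c0b585374022004014de000314dd0a5053700130000000403b903b807f000100100536c06e1505003e14da08080000536c051809b01550337000214de14d905040ed0540c53601d80044009914d706bc0010000c02b8535c336000014d814f214d60cd4000000040108535833400010002005d14d60cd002ac0b90597c06e0002453583330001000614d50cc80164099c1524016053543310002000014d403a40000013000103fc03fa03a914f80cc0000811d05a3012c8595800fc534832f,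
  nat_lit 0x316e8052501fc00000120535053b05af14f704a8004012a053d81f314f50048000014b45ac8000453d4344052c16b10000000114f50d0c00105ba05ac405f0006178a05b914f40c1412d816585b7053cc34216af054314f20970012c5b9453c411a14f0004c00100020147c53c034115b316a214ef07745bb45a9453b8291059d05a6059614ee04b4096059fc53b40760000167214ec01f40000012000116a104960d00000453b053a80500517051914e906100000000453a417d0001051714e90cfc0000145053a4074169c14ea14e90b8c00005da05d9c1ba41bf853a433e16bc0000159908a40f1059040004000c01000031544013b08e40008044c585433d,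
  nat_lit 0x5511704150b05d0542801216da0001150a045800045b5c1550164000000481588000c001454201761508000205dc1511150c025400045c0815745b5434b0000056316d6096c176454385434002800245418541434a056716990001150401e45b200004540c116000116c6053904b6046c0000012053807031506150109340008540854040010347150315010d240000000400085414540408100000001150415051501020000041c04540407d000116c3054015010d205400012001000001500013c0004012000416f716f814ff0920540c1528153053f83470001004c5b105b0c5af853f43460535055016bd14fc0d145ba814f053ec10e14fa004c000000045ae002f,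
  nat_lit 0x57f16f51529152100a815fc15d0005454802bc00030015151f01f40ae00cd400002030000000605950a5800141d4054945474354151c0048000404c151b000116f4057b151d025400005bd0011808316f20579172500090007151a15190d285eac0004546001d00010727074d15280d4c00000130558055e151915160d480000000800105c80545808100010003171f0573151602000000000400843510003151715150528000401316e416e3000215140d185480157c0004544c3451512004c0000544c5e801574350000200051514151516db055415110d3c15641550544003200000001151c00bc00145ed0543c2a80002004800a8006c0004000034e0003056505e3150d0d34006454741788543034c,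
  nat_lit 0x379168e041c012c15370d74000404b054d835c00010004153604dc0460000454d40fe000300f215350afc00000131750153400000ae4000454d81d1454cc35b153200480004555854c815b0001071a153201f4015c54cc001c1d0854c832615310048000400bc54fc0830000006007540d6855385c0c014054bc155000600650052152e055054b400041d1055102470030004f152c05ec17fc551854ac24400000005059e02ec001854b4009454a8359059e057b00291529072415d800a054a01c7000200520051056c0d600004558815c001583570000009c173817290d5800040018549408215240144557800b4000012f000105820591002a0d54000015fc5bf00ae,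
  nat_lit 0x3ab0616154e00bc1e4417a4553811e0005052f154d015000085d00148c5da01100001063b00780d9000001e4014ac1f717fe0004154a0b1010a0000455242100472000515480918001801200ad000100000d885fe05d300420551836300ad158415450d88001855285510167045a15a815430644041804f8550816e042b013c15410834163c0e100000066000000480fe00004001054fc361000c000d153e0a280e100014000012f0000153e00030b100004003054f0360153b0144003454f054ec2490001153e153b0c9c0df80010001454ec175153a0048000c00001778002035f1734037900000d780000012,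
  nat_lit 0x30442044115660420153c1a2455941c104cd0453156408c000045d145cb0559021b043f04020403156305b05d1c000400185b10558c3680002004816cc16440a045588367000702a5162015610ac806a406980a08558012c02a50283155f0c100ab80a0455781f9044c027d155d0094000001201a805b41653030b155c0cb40e200c30556c36600040005155a06a00004012155a000516a915590a6816bc5cf85ba055602bc005604c2155701b80a600e70555820303050384155507b000180004555412103220304155405e40c0c0c80000c070065f177a052c05e2000003e80008000c0014178c36502f4155100010874000000080ec0308000103b102f1154f0a880008000c189c5d88553c0f4,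
  nat_lit 0x61d003a02b85e10000855f855f4377003b0004157c08340004563018981150000003c07c905a800e4000055e8116000000480008000c042055e437600000005061618430dd40014002419641a3055e00ef0033002f068a15770dd00f84170855d83730000004c03d015981544154855d41821776057815740dc800145cf855cc13606070571000009b8000003dc5cd0154c154837100f702eb05990597173a00e015710dc0193c190418c8037455c036f000715b7156f04dc15a4037455b822c0003054e055a175700ee0a200008152c5e44196436e0001054b00b000a00db4000001200030004156c0454156a0db000ac5b2855a410a016f045115680908000455a41164115c36b0000000205460da800085bd85598369,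
  nat_lit 0x50006014b014c15950e085ca4581805b4565021f017d017c1593051057f8070413a0000038100000555054804e50e005d440018001c56441d501d5164e15900858149c0974563c018029b0004000205b70dfc000014e00fd002f04db16bb0007158d09545ce00f0400185630154174a0003158b059c591c00045628249000303be03ed171c0df800000edc072007301fd1746056305ab175015880df4001018c05e78159c561c37c03bd056515860dec56140120003158e1585045419985d64561005a17900590158305605e381f480008560c37a0010000015820458000401215820001158415810a740038002c560012600000002078815800de4001000fc0f540f505c785e8c5eac5600378068e0672157f099c1eb819cc55f811e,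
  nat_lit 0x13000f15ab07d80000074858e8386163804f0000004e0000405f85cf805c00000144060456a0569c15d15a8000015a604e800000120001167802aa161d15a50b9c0004000c569413702b8055015a4015400080b34569013600040014175c04fa15a408985d7413e4568c26b15a2004c00040120004163901e415a10cd0003858e858dc56801760000004812fc5cdc5d545d5c567c2e7000301660544159e08205a4c150c56741a800000005018505b400085b20567025816220546159b08b4060c151c566824603b6161000000b20000001215990005171a032b15980e140008077413545d1c072c384000101d903ca174405bd0e0c0000012,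
  nat_lit 0x6a9054d01341adc00080c60398177806b400010e5c000417bc5e84171019801b7862bc20ec2264226822802288228c2288631c20d81f543960015000005ee17fd0e5417ac0ef4000023a00080193019201ae04d061741e7000081ca01ca83940799000107280e4c6118000060b839207220721000307e218590e441cec60a800081f88203c390071e0001184502a81c7000001da038f07df01a800010003188b0720071d0e3807d058e40000002038d000203ab03e001ba162f01770e30001800040ea4191000004a806130e2c129c14785c58090c09080004000038a0004030302fd17a4026f164015b40e2459b4074456cc0dd026c163e15b206040080077056c806f0002164315b104280c04076c56c0136030e042505a2173b04d3000315b00e200014000c56bc06e0000004c000400180600589806b02b10000000404d10e1c00180034003056b019c,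
  nat_lit 0x6131816000401e30e801968000059a00788251000106c306d00e7c09f41b0c6054002c2f41814000a01d70e78076c001c27a01d800060a1006f4001427f166300040b400758000c27c01a9000209dc069c000427601d500000a0c1ad860280004074439d0637083800000e700570000c39b1639000209dc056c00042760158000009f80520000c00245788056039a003c00080002000a06840004051860081c016d315d100000145170306885b78142813dc5740399051502c715cf09145dc013cc5738167023104ef15cd068c0fb45d6857301d20372037415cb0c20011013c0572816e0017013c162505280058051,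
  nat_lit 0x480b0800400014002c58083a8033c16e4043916010e9c14dc10e8580031a026616e515ff083000080af00afc3a617a1044305a015fe0954002818fc167c57f4154178b02d615fc0e9415305ee057ec159061c059a15fa07701504166057e42490440059915f805b85b700d1857dc190000002b100810e905b0c5fb419005e28000c32205ef06160661052900020c841688182c11c4000421c05e9052a000005d0000004c031a000315f10e8c0088000057c00e90004004c5e94143c57bc14b02ae02a915ee07745ae40a8857b41d2006b023f15ec05b857b0143057ac2130000004c6068004805c824e16650000028e0e880a3c1b0c001c06f83a1,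
  nat_lit 0x480ef019a85868586434c161800480010104419a058603481617004800041cd81ccc1c841c4000f03b2000006f116e006cc1118111c17000004000c58543b103a502ac16140ec000080d7c17783af00030789019103540352036116130eb80aa85c5c101c0d8458483ad1611004c1708112c11201130113c5d04100858443ac00000001056d16100eac1e106124584025700010008160f03f8079c0810017800081080662005f000104081414017c00002300002008200620ea85dec103c000800003810004000618411842160a0ea4021000dc610458241a11741184016080050581c013000000480000002009c00e4c58181cb0007024b024a1606077c1b9800a858140700004172903e51727051c58100b1400002c8,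
  nat_lit 0x108af18a1059c000c1a041bf458d01fc192806fc16330dc81ec001b400000dd067f000101cb0e9400000158115405701c704e400000ee8000001217940002067b0ee4000401316330383173a039e00070ee00e100e700018001c3b70000013000001a38607812e0670066d1812062a06a217aa0000162a0ed858a000005e805e94251048e177a00000004092c00145c900e7014a00040144000804c0000000317820e88000c0b9c58841371787057e16200ed401b015f0587c22c01d801d30001161f0ed05be40004587826f0000066e169c015400205878587432c00000005161d013400080730000024200020394039704ed01ca0ecc00040ef810545d1c12d,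
  nat_lit 0x3810002070a0c486210000005943c601620001069f0f141cdc000003901a4185318551651164800000795078b0f101e54000800100070591c3c3000a000d1646044459140130000000218ad0f08000803ec591006f194001361643043c1e08230c590c1c100f7193c164205440000590c1ddc3c100020005000c16410f005900013000000480008004022f8233458fc3bf074c073905db05dc00030006163f0ef803e86118003c58f822a000c1782163d05100008001061c01a303bd05d40006163c06486094001c58ec2dc00030005163a07705df458ec58e43080000163b0703045400101d2458e01cd08b2188816370cfc1730173860cc1d280008000c58dc3bc192b0003000216360eec18c0110858d4058,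
  nat_lit 0x2180a16670cc8000004c18bb000316660e8c6384000059940ed0003004c00040120779000d16630b7000080014598811c169e000a16610640000c013001f00370029166005501ed00098597c1dd00621665165e09245978008c59742440000004c04b4000400583ce000000485968000404b43cd0000004c04b419f00044004859603cc0774165c1657068c143400041e083c71897000102530f2c1d0400000df03c903790002073f0f1c0e08000462d03110250000007360f281e0400085d0c23a0781000103840f240e14001409fc5bec3c803810004073b0f1c5d04000c1cf4309,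
  nat_lit 0x185500df1681048412440fdc5a001db16c3015a05b2182400000f5400005a0060882f9000204c4167e09605a44131059f422d062504c0167c0918623059f40000006c6094169859f03d40017167d000606eb167c0c9859ec0120001000702390f4c000000e41bac3a6000a000b16790e94166859e859e02490237000e167708346248003c59d82440000004800100058169421a022e0000000405f8000465dc1d2c04e804e42ac0000004800d000500054639859c42c0000f078a16700cfc00b41efc59bc1e80005077c166e0c485e4016b816b423b865a423b000003d200020137013518a908fe0f44000408b41a6c0f8c3d00000004808ac61a81dd800043cf00000048000000041dc420d,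
  nat_lit 0x10048189800045a603a506370002169705ec0008000c18342bf0000004818c4618c00085a543dd16940048000400ec00805a7461e80e5c18283dc0000184205d206220f6c64680cac00085a483da05321692169101f8000001200001691000203341768072c5a400008195c5a3c29a0002004c221c002800105a383d906d6168e168d07c0120c00045a3019900000048000000145e5c5f283d800000002168a0aa00008012000006cf051d007a0c0c1b3c1db065585a2038d0001088116870584039818d45a1c00f0000063016860cfc18b800100000115087a0324017100000f5c000c124c0d800d8c0f7c0fe40c7005c03d607dd00e216830504025003e45a08102,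
  nat_lit 0x90d193616b20fa400005acc64ac5ac8117000016b3012b0b100000000c1094033803340ac85ac43e8000617b6084716b10f9c0004109810b86270189409a002803e6000017c218280508107810801ca41928192c0fd45abc3e50545058403f516ae0a3c18940f005ab417a0003000716ac080c0f880f985aac28a16c6000000040644001418ec02245b143e40004187616d001dc18d4000c0004003800281880000000d1799037a054c003419205a982c403ea064116a50154003c00405a903140009000403eb099807300000000828600010000176101cc0f8c18d40dc400001dd013000040f8804c0000c3e1012d00020f8004ac00043df16d2000009f80000000419ec5b443de036a062d169a0798000000045a64312,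
  nat_lit 0x5810001057705cf18570fc8000015e018843f101fc000017640c440a08000407c023a17c0000001ed08a000145b1813f01fa41710170c0e603f0055f000006180da800000014101c168416643ef00000144242c631c00000b2000300e206620661051c00085bcc07880784019063904f0182a16bf07bc0004000c02dc5af819700df182816bd04fc0ffc613c00085af8073c5af43ee00ff06ee171f16bc066c1cc4073c5aec1a5000016bc05ad18530fb4000007285ae836901c618e500040006183716ba0fb000041370152824318d417c4001416b90e6410d4003c5ae00ff03af001016b7059c1ca8002c5ad819117c416bc16b50a44152c00305ad020d000016b502e903bb04e118cf06ff0fac000400145acc23c000116b507b716b30920000824381edc5ac83ea,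
  nat_lit 0x13062bc000014e43fc0802080f0860197b074700010fec1aa0000062b424318ab000404671804058e186d0fe861b861c4169000002710455000e09e85ffc00342840455000c0f84114c002c2cc0455000a09e0114c00243f9045400080e6c0f4c001c277045400060fe00f2c0014276044a00040fdc126000183e2037b00050b4012540010278049300030fd818ac000811303f5180b000109dc124c000027616dd000204910fd000a400042ca002900000a04133000085b542d1002000010b480078000027404c70001059f0588001d0fcc16640000111005b,
  nat_lit 0x170817060b100000057c653417245c18407034100010002170609c000040dc85f60199015b0534054d1706170503d80dc800185c102c419230007170308400db400085c082460344170200021018606410901a0c1988000c20b048b048a04cb000207781018197c000415b036d039f00000428000412fc10d040500001834074d088812f8000016941d7805400cf05bec40418a60033185f0c240f6400001f784030275000003d50c485fd400ac1710213c09d4402043804c4052e0320034716fe0000100413c40098012024509580177001d100007080004143023c17440000184d040814240000253831319e80173001808785d2802d45c405c38000c13c000001301874000062cc3ff000100e6004616f800bc078d078a0ff80000038403880328029c3fd,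
  nat_lit 0x171b000103f1171902045c6800000fc000685c64080182004eb05520000171901780004635c6568136000305ed18c818ce17180ab05c5c013000017181721020c00045c60000c5c5818505e8171917150470000000585c54184001417161715060c00045c685c5405f00010002030f030d0563054d1715102c5c500130003171617140c9c0000105c10580c3840a0416041703b9000717130c8c0dd800205c482971711004860340f7800180004255000b17100000091405180538000813f03d3000000020ebc00080b280b206014185000103da03b30c5400000d680d6c17d00020004170a095c63e8000060140f5036503d500001709189506cf102400005c300044601440800050161076f18931707101c00005c2017445c18248,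
  nat_lit 0xfd086500000aa0000014cc62580bec41905320541187a0001173210605cc4012000001b1052604f80a30004000505cc029918770000008c105c0048003c10c061d84161733000109d00060000041504f018730006002f0017105061900014009826400330000188906b5095406a45de8000000c424b0000014105f618740500069b104c5da0000000bc41217340001000704e800005c9413c407f000000480084059c00041260001058a057505fd0a8000000588058015a0441032b17e8036e180e069404f81720104460e85f3c0bb405745da85c7c41001360655003704f5171e103c5c7800880fe060a45c7440e173403fc03fb171c00d0608065bc636800001d90000057400651034156c1e401bb85c6840c0000171c171902800004000c5c6409f,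
  nat_lit 0x418ec174401505fec213021201db85d10268066707d1076e1743108c000c5d101dac5d08178077e196f174109705d0001300000048000420f420e80ae45cfc385000119630766173f1088229821101da05cf818e06fc0376173f173e108400000120000036d036b173d10800f5c1be85cf85cf419e0002196e06fa173d06381668197c19881fec27cc5cf441f0004000209d8173c065c1df4674c69c05cec19e089e01380001107827585dec00001140000173c0149177a1074000c00005ce00e90000004c0008001865885cdc35200001738014509f608a908a51808107000045ce05cd836017350144000002c05ddc5cd441b00af013a07de075a038000001735106800001e6c069001d0329173517340aa0000003f05cd002f,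
  nat_lit 0xe000d000b175c0764631062985d6c18901271832175a10000028001c0a4828600000130000062802498083189a04d90000175810b8001800001328625c42d04c5008b00000d780000012057c057d18d5027e000210b00a285f7c09f0000442b04f917dd000001dc0000000809f436a0000052e174f0da414b014c05d405d3c42a18aa174f174e0484000014345d380590001174f174e0454000467b01b30188c646c4290000089f012a012610a0227820181c4c0374000400185d345d304270998016700d600000005174c10980010192c19381318036842500f01a0d00010454000400100a701dc0000000406c40a44001000205d2025718fd0783174708b45de81c685d1831f000006c006c6029c1090029818145d14072,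
  nat_lit 0x101301a841a8c000431417e301ed0000090c000000101c841f7443300051775177304ec000815c815cc177401244320001072004b70e9800001c6c1a402d7071d05d5020d18dd05710005177010c415a815a400105dbc345176e004c15b41f1000001ba000201bc19a519b00fb4000406f003803c7000017cf051f047c0000000c5da8137000317c601990c485ed05da8001c65c45da4430046e05f2190a17680d205ec41c885d9c3201766004800045eec6af819318b7014417af1765092805b804d05d901920004000917630c24206c04d45d88190000417cd06f41984047c10bc000c07ec63680d045f1426c000217cb06f1023604a0000407e4080411a0000004807ec17a41fe414205d741cb,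
  nat_lit 0x70a000200c40938000401204350005022b06f805f91104001008ac6b801c1844018950003027601980714152800000dcc43f185d000001cb056110f8072419a4662c1a14000802140dcc43d022508600684000117be10f061b80000028043b17ba00ac00010007068210e811f40000000405b00030007048318b010e40000012000007060708070017d5072c0ab40ab81aec5e100190006056517830cfc1dec1ae85e081e806c3195917810c5800081c081c0c2f9009e009f17b30676178010e00008659467e45dfc40c19a419f9177e0850156419105df40fe06dd06da0741000500040705177d10dc076c1b081b0c67341c185df043605d5055f000002b8000c69206734637c3a000021a48180a079c000469201c044350000092e073e0f3465ac1bec07dc00005ddc434,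
  nat_lit 0x189a189b17a208c41ad022a45e8404d0002000f17a10538625865c05e8023400c1196e179f09085e985e805e7c1181893000a179f0d98000000085e7810a000203c8179e01b8000c1a34079807bc5e7844a17a1000804d2179d0fa81a78040c5e7001d0001179e17a0179c058c66845e805e6c102000001ec01e006ff179b1124683400005e705e6c4480000010f085e0c64658800005e682910000063700f201a8600c077419f45e685e640690000179b1799023c000413345e64393000100130696199c1799111c0e0c003c076419e45e6044600110694199a067817981114000065545e5c08e17980000001100bc179703140058665c19d4654c5e5c44400c20000071405f81c480004030044300c70001071b17e9017c055f11080000013,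
  nat_lit 0x173015917b60d9805a060385ed41a80478000017b505e8000405b8646c157011f04510001000417b40af85ecc04c000001940a120a810a8e0ab2095917b31140000004c0000016401f40508058c07d02a942560624c00185ec444f18ae03e70004060c00006230255c041405900f4038a000300000cb060300000000428500000002000c0089180c1138000400305ec800401d3000017b003991134002402245ea844c17a9004800005ea80c98246000217aa17a805045eb05ea85e9c1d8031f000317a6047c000061745e981b3031e000017a603a40000013007e0000000117a717a50c38000404c000108bd17a40b105f1820185e8c31f08ab17a417a3079c001003105f741c601c7022a45e8c44b,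
  nat_lit 0x17d2004c0014233001c0057000117d1197a05df195c05e41184000416a4193c08a061544600000194419a618c40dfc168c22b86938215c68f0189865d85f3845f053118c60003000417cd117861e80c040018000c5f300a501b40327194f17cb06b4089418985f2807e00030304187903e71174000400101d0818900840000004800180d1862280fc05f1c45c02fd03f017c6116c000067201330641845a00000130000021e41b0c083067f067e068607fd023a17c311642ad0001c00345f081ef0156015917c10624002000005fd805f079a077f077d19e1084306c90aa100041160000064f41a182dc0480000900000769115c049865f408d4000000144560005017101fe02340a3000106074685445517bb000019f311501e1805380540000c00044530000004c0008637c68ac05585edc452,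
  nat_lit 0x66419a107481988182813a85fb83ea0001000617ed0074139c1744184c1bf000041800002007d190602a908e41a0e079e11a0000412d827a40ed000617ec05d105cf04e4013117ea119c12c060fc60f45fa4395193a013117e80960137c04b85f9c181052c1a0e1905190318f5043d02c517e711981d4c099c09a05f982a40269026717e50dc800480b2c5f9013617f50000001001d61194003c0910671019a000000480f98000461742170000004c2ad800000f940f90464000001306c40000401bc25b0702023d00080007106c08ec001c00182940128000300930855085a085c1a4708de0752118c1c441ec40000243000001cc089f0b1801c80014003061185f5c3c300911968088105bc17d60c1808a816d016e85f540b70a3b01bd184317d4118808c816e85f4c2a9,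
  nat_lit 0x1b8c180804ec001001304340000042311c81088107c0004601847100030008017a07bd00400008601c1d881c100010008095806640004600c10b8600819f0003042d180107b80000600862004700000042a1800047810a400000004600046f0003042f042811b8000425440dcc6200086446d000000486ad422dc22401d585ff446c0431075617fc047800201d5c5fec136000100480000000417ec65f412d00000755097a020c0d301d54223822b0250800001cb0000180309a91aad11ac013060000104059823a8663c5fd846a0431062617f504dc000400105fd00fe19f1062617f308b000005fd013b45fd0000046900051a13017117f20d18098c18845fc411117f0004c0004055c62702c7,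
  nat_lit 0x1004c0c040c6413d000386094608c47b03000317000000071824182211e818941d0068c4000c1fc00000148067e0aa000000120002045b0610052405220171187e11e40004116823346b0468c401700000048009800780074092460702c0000800d1181b0afc654800100004025c3a100010004002b002a106c11900200000006e00031a601a5d01f611e000080120000028d18aa18ab028a013f187611dc00980034000c002460544760831080700cb18140f74604c01200030002022c08f518a711d40004007800243ce0000022a08da11d062446248604047300de1893180f062c236408e8603815e0005000c180d0574030008d860300e9000000481858231025702c60602c180020407b21a29180a065c00586b10602431a,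
  nat_lit 0x183d0014183408080014004860cc2a800021834000e05dc003000080004480000000480010002c002860c007a000a1836182f113060b8012000018370af102b8003460d460c860b415518320005182c0584000829b860b013b00010acd182c04d800000510aed182c182b02c8000000042cc460ac47f00020144000004c0ae70003182911f8000060a860a01ba0000182a0ae518280420000060a460a01ec00001829182806bc000060a400242b8016c000200090adf182711f4000060a460a847c0002182918260570001400186094190000000010ab418250e340004000060942160ab50002182509602ad0000060900dd,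
  nat_lit 0x184b0002000109ac00000130005002a000c184903a8002c0030612026b1847004c000000102bd019400020af318460b1861282c50611428718440144000061100004157000018440002000e073c0000610c610814d0000184318420564612c002c61083720002001d184104d800000074002c190184900030004184012186120001060fc13200001843001d18411214004400582d3460f812d0001183e183d0c100008001860f01ec0000000e183f00181210002c61142d2460ec12400041842183a06bc2b80000400484830a7f00000010120860f8000400002c004810b44000500091837086c0044001460e460d81330000183600010d900000005460fc005c1d3,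
  nat_lit 0x4b61889186007600ffc0210617c1c50007188303dc1234001001206cc01a9000102e400000510000000401d6057400281490243c6c5c2640200c616848c188407de092c0802185908d419bc1e6c6a1861602a4005c1a8a185708d0169c20f8210c00001ef0000036703521a290855122c000005100010400036102c81c1c26486d4c29586c08614c48a194003f20a160942185212246d1c2dd4250061443ea032d093c18500074000061a42d981e218531850184f0e4c00006144613c13e0000093c184f0238283c0fac0fb82da861946140613c4880000000118610036184f0314000400086edc613c153001418511850184f11f40004000061381c70b0900080003184e0dd42c20002800106134487001e0015000800010490002c00180000221,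
  nat_lit 0x8d308550a8a0bb500000004000b12580008208c250c253c2ed001700011ab107b21ab512540000012081c1aa807431a0c18791250002017b461e005c000106b301890c04003c65a41098225026306cb061dc4931a66077309850970187612486c78289825a825ac61d449103740220021b075e187412406bc06d10268425ac61cc48f0544092a096c187205c019e825ac61c426e1870004c69dc702805a400080850002008d029307100004022c1a941990000008200850714023061b461b022004cf0007186b057c0584001c61a815e1b2f000718690ce01028000061a004e0008004800040008131c0a640a5c46d0000004800086c501fb01e18663436c04c40093008b1864123864380224618c1c11b1100861862046003600210618421d,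
  nat_lit 0x1b4d097f0a5e03111951034d128464f400000a006e4841b027f0001193b128009f400000aac1c002ab00060003027c11ac000809ec6e3818406180332033107f505f400020006127c27101f9417cc000449e02781c1d05f4000005d4001004c05ee000300010c506ddc283429700c500c546480623449d000318ed0180188c12702b6c096c622c0550256025c188a090c6a186470622400900050006188904ec05f01ba068d8006c000c492000e0433002400010660004c0000000c3a6000302b300bf00aa001e0fbc000864bc6cf8622449b0001004c620c69c0188869c0620c49a192c00000002188209840000620c62146ce8499000106711881013c69b0187c620037307ff09b30005000818801260000004c00001af602fe0ffc153c0000234c497,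
  nat_lit 0x37b03800646066d18b40c3808b819b062cc20c1a1c0806081a000012ac000c04c1b2e03bb195d000012a8000000100b644a900070113010618af12702050040c62b814200fe00fd18ad00241d8c297065dc00043460000004c000069140f140f300da04a806261b0906730670060a001d18aa129c0308001c002862a419b02da002118a8100064e40300001428600021bd306d312980000072c04e404f01c70b820aba0001129400000120001051100e300df02ee0e140000144002ec1f119de06b0085f08480519000518a11290145c000c628021000130016189f03f800046a700c9c4a30001051507f2074012880000012051305fe000c000004a81df00000001c1c5000001446f540d38000022c,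
  nat_lit 0x38203860046004a094418c912cc66701ba81bc863204ab000218c9197a18c712c80714250c631829718c5004800006320631411e00060001196e003b02e618c512c463100121be4000e0003051400000130a7803bf056305640000069800086320154415782de000118c6000c094c00080a20702062fc47f000e003e18be016000000130778198b18be18bd0b50000c0dc462f407d000118be0a6406681540155816180dc462f04b0000300020aa7037218bb12bc62e8012000118bb055708c0297862e40000286000000010a4818b812b800046868155462e04ad041b000118b80874150c62e062dc1d8000000280024199d05200004000c08c462d81ff0001004c00b062dc00180008687c19bc62d44ac,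
  nat_lit 0x1f2195701e0000108a800040014255c2fb00000003087d074800140f3863881f301e40a0218e107c8638001208770953000003a4000066f80f3c2bf0000004800040e0820e40f2412a00000048002000240df80e1c636c35d000b1b1018da0a6000180e006e3c26444b8000519aa19a90460000c00280ed865703590001016f02ee1b6109351ab6191e12dc000005a4002847c016719ad052a08ee07e91adc18d512d800180ee46b6c63503450377079e18d3043866a01bdc634801418d1004c0008012000200050851084f087c00040020002c291000018cf19aa08340008217c63343320902086018cc08780e30668400041931b0608fa000012d40000666c0df803c403b80b8c6d144b4,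
  nat_lit 0x48660c211c22046ae863ec20702ea06eb18fa01c80c381bb863e411e19eb06ee18f80dc800141ba863dc054197f1bad1bb21ba918f7075c00100b88266c63d802308af0948097618f50bcc2534252c63d02a919e6093b18f3005063c8013199f0000000118f212f01f506bfc63c8299000107bd18f1079800040e4c63c417a07bc07cc18f0080c0008000063c03730000004c0008002027a41c9464fc059c66c063bc4bb0396039e01d218ef12e8687c68bc63b84b90007054418ed01f400080f846f14315000103e1044e0c2000000f840ff416119cb03d718ea095c1a88282c63a422e0004000818e801341ad026f4639c3140684068518e60508000c000007cc121,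
  nat_lit 0x4a303a1191308602a3868e864481180b2c050319110b7430c40000644401d0000004c70a86aa46444644035200000656065b19100b606a906444000464404bf000000480008119c11d8643c12a190e00480000012045f001d001c0338190d069c00000034643015a000f001b045e1a04190c0b14642c013000105b60ace0c9c26fc103869b8000821c000100480004179810386f2047f01c2000005b512f8000405100011a831a870c0406f000006a041ab00030001196901bc12f4002406c46700000414701c501b30000076c00046e300c9c18b0000099f03800b5c0004001c63f82be18fd013000080bb06df4454,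
  nat_lit 0x192c0cec192708b4649833a0649822c0000000300101d23192c1926132c00007484338874883394649c4ca0cd80cea0ceb1d22000e19251324000800400038649029d000d1927192308e8649c3358335433b0339c648c4c819260cd50cd70ceb0ce61922131c000404c19210ce7192105fc64947470648021919240ce1191f013800000028002c002c00004c619230ce50ce50cce0cd10ce0191e131464887460337c74603380338464744c4191c0ce1191c08c464803370646c210191a0cdd191a08b074483328332c3330647064684c300000001191908ac64687448334c3350333c64644c219191d111d100cd30cce1918130464643374646417f000101446460336c646023119170cd91917002400000ce80d0833d1a3c1917191608b81760000064540dd0003004c001431b468ec141c64504c0,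
  nat_lit 0x70cfe0cfe0cfd1d440cff19511350001833ec33f833ec3448345065404d300050cf9194f01540000013193d000400070007193d1348001c0064001064f01fd00060004193b053864e8001064e81a80cfa193a19390150000000480054005400004c6193d0cff0cff0cfe1d3c0cfa1938134464f074e833e474e833e833ec64dc4c419360cfb193608c464e833d864d421019340cf7193408b064dc74c0334064f064d04d0193300190019193306ec0004000c001864c830300000003000300000d2c000c74ac331464e064c44cf0000004c00140008000c000c64c04ce192f0002192f07d833b064bc64b81a40001013064b433c864b415f19310cee192c0e8c64c033c464ac13d00000010001300130000131864bc33c833c874a833c474a464a84cd192e0cea1d280cea0ceb0cec1929133064a033b064a022e,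
  nat_lit 0x20000000101dc00e4000c0010000400d4349400d44e300330008000019631388001c0000002000104e10047003619620d25196200300002138000d4658000c4348000c4000400004df00420031002e000001e8000404c19550d191955057c00b43450655015e19660d1219530ce000ac345c654805d19640d0f195103a4000400400048010000fc010c4de195000100010000c1950007000100018003c003c653c4dd003e00060003194e13706534002c00346534462194c000c194c09ac652c013000501306528004c0040002800300038653065284db0007000b00410009000e1949136865543384751c652c65204d91947001300131947002c6518003c003c651800a0003000b194504b800080020001400c800d400f0001800084d80001000b0cf00cf51946135c00000018001800004d600091d450cf60cf5194800101942135465040040650417f,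
  nat_lit 0x1001b000a020c0000006c66081ba00210024001f0058001a00230008197813bc01a0660465e00004000065dc4ee000b000b00090008197613b40028002065d865d44ec000c000219740a6465d4001c65cc074197200071972006000040070017c65e84bf000000150048020c0080018001300058011c65c0146001e000a0007196f0000000113ac001800340034001065b81800005196e0043196d12b400140100010465b01d9196b0041196b07f8000065cc003400f44ea00010002003c00481972196a0a940018002801540040005c0034011065c02e600050009005400170016003e0fe8001065c000540040003c65b84e900030038196a0025196913a0000865bc347075b065984e700010006196b02b80000001c00e40bb003a00050011000a003d0007003819621398658400d865841a80008000000071394001c00040000072000000030002080c00d4000400e400e04e4,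
  nat_lit 0x1d5500000bf2007400000130c160c1d0cab00010bff0bef13f8074000202fc87430000436f000001db0cb213f4076c32c4000015c0bf11d031d04000619df0acb0caf13f006c8000827a19ef000109f0070400002d21cfc0bf80006018e018f01c013ec061c0008284018700010b48061c00083e20be8000119d513e8675400002ca0be90000018719d413e4675c32640004102047c0c0000021d150ca20ce51b9213e02fbc00000004309c1340bf300000c16120c000001380128020801ec00084f7005119870020000f00030007000c00020c0013d8662c017c00cc00b000042fbc4f519940d571993007000000c0d13d075f83564665c000c0024665c35547638356c763c764035b4764035643570665c4f30003001a0014000000220002000313c801bc000400241b2002d000000020b540010664c762c357835703574763035a435a476303554664c4f10003006a00201987002400270026198513c000080090009c6618016c66102fe,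
  nat_lit 0x1c000c0c100c52003819d019cf142400a4000000c41790cc900080d14013c280400000ee00f203b800010ba008540853142000002e7c214c2148712050708d400001ca314182b4c3030302c3038000074c46fbc5050c36000700000aa4301c004c003c0028000014f0005000100090998310c00003114219000c0c0500020ae80004000c002c315001300000c30097030fc00003014483000000030c2f069430fc30a430943054000c000430f45040d2d0c1400020c280c240d2d140c31100008303c00045020c2f001f00000970000405100100001001c06fc743c000032d00b20c42000200040bf7140430a8006c00040140000004c2fd80004302000600064500000000483010000432d000104ff1d1100000cf8096c002c00000018183,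
  nat_lit 0xc560c65005719ec19ea19d914800170018c016467a867a4676051f0027001419d70798000033c814b808f003b0c2e00180dae1de50dc20dbb0dbc0dbf0dc10dc20dc10dc10dc21de61d3e147831c800487778365436c8779036e036dc36e436e436dc36e435642d142c1c70b051d009900a10d990016003b00001470022067a836ac36c036c07784005430ac30b80084003c000051b0c6b0c6a000300bf1468677c000427f00b7000009e00070000002f002d851919e20d850d830d821dd61dd7009b0008000114600204023400003194012c013c5171d410c33000719ce00a3005e005d0001006819cf0099008f14583600360435fc3608029c028c0004675c3610360c361077405150063000000a31450675400200068000067246728513004b005e0062005e0003002614480188000830c0010c6738024451119c800011d3d0c5c0c4b0015144002000180000000940100023850f0016000619da0046004b00650070006b0063143802b4000c27a00ab0002143402a4000427e00b800031434314c000802a850c00b900030a106748000850b0c16000119cf142802d400002ca,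
  nat_lit 0x1a4b000d09dc080000303f80201000b09d807f400283f701fa00090b4832b40020691452c022e000e0b4c695c00342841a55000c14ac08b0002c39b0211000b09e8084400283e2020b000914a80810002039b0d1c000701ef14a40858001c2d31a4600060f8808780014277021e00040f80087c000c276021d00020f7c75e4000469185280c9e00001a3d149c14d400000150086c5260c6a0001005a0028149414c8000033c42c30c8000050000000200040c6f149067bc77ac007831cc31900008523001c002d00010e8c67700004015c000852200000c4900380ab4319000480034001c00206768521,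
  nat_lit 0x1a1800e400db00da1a1e1a1714ec03f803e803ec0430032c685853a00cf00cf00cc1a1c1a1514e4685003286850000453800001a1300cc1a130ca46848033068482ff009900461a1106c800100388012c246000200011d970ca500511e170dbd0dbd0db71a2400ce000614dc000400040000766c011003285360063003c1a1400cb0004000014d4000c0328030c03100350683453400001a0c004800d11a0c14cc6868371878580368682c5321a161a151a1200cf1a0a14c403100330035868245301a0800d21a080dcc009c04c055a00210d6714bc00000131a6c02460000084c32d8004001b469ac52e007a0001055503b400000510cb8000402000d682f7476640004342830d075282ee452d0200000a0b4c080000243e20200000814ac6930001c39b0204000f09e808000038284,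
  nat_lit 0xd9900001a3208400000012009c1dad00010007000a00f3006b1dad1a311530048c01a000002460000001d0062009d007a0067152c0064691c374c375c38583854790c01dc68bc54a00560010000f00961a2e0c7002240244322868b419c006300731a2c06940014021468ac20c000600741a2a04ec0000351015985490cac006c00500052000b000e1a2915200398018076dc0170046468a0547008400530008000b1a27124432c402240018001068981d70091006b1a250050689001300021a270114064c028c03a0039c03800394038c002c0048688c5461a3a0102005b00c500ca011400cf00b61a221514012c029002a402a068946884544005f1a2600b61a2500b61a20150c01240288029c0288688c687c542009f010701040006000d1a1e1504766001dc01c80160688468745401a3400fc005500b900b31a1c14fc68cc03ec68a8015402c4686c53e0002011100490b0c0000013000b0069004f00dc1a201a1914f404340260329001480134686053c,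
  nat_lit 0x1a6c1e5d1a3603c068dc381c68dc2451a3e0e061a39087868f8381468e44001a440e031a3c0a1c68ec0511a430e011a3b0d7868e804c1a430144690c04c1a5c0dff1a43155404ac795869085541a561e551a420d240000012000400090138008a00890e1000890da81a41154c691002bc6900299000000c21dc000250df835680288772868fc11300c000671a3e072068f8333c68f42b3075c0a800a810a9b00001d90154878f436b436b8756018440e5c0e5800006a7c00042a64551026900001ce91ced0aea0891154073a0737029c00f586c3801b43380020404bc0000000c09a454f0000000b0c9d0c9a0086153800380238771868e01100d9c00950cd31a370de4014c164468d810200ae00351a3508a468d4000068d44a90000004c00000148013c0988000054d,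
  nat_lit 0x1a30014468c004c1a601e7f0e2f0e2a0e3f1e791a30157869803890383c79e83938382c68c055d1a440e091a34156c6910382068d039c1a35014468d404c1a751e731a3515606a08381468d0557013d1e711a3403c869303828385038343840381468d01031a330e051a330408692c381479ac37e038a879bc68cc55c1a320e031a3203fc68e4380868c845b1a390e011a32090868dc380068c83c51a370dff1a320690696037f068c855b1a580dfb1a320e7068cc0511a330130692c384838d0387079b037f068cc55a1a4b1e690e2f1e610dee1e601a331564691037e468e82871a390144690c37dc68e435e1a38013069b8798068e05581a5f0df51a37155c04a037d068dc556,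
  nat_lit 0xaca00050e6c2b2800102cf092c00030f802b1400082ce092800010f7c7a4c0000249856a0e2000001b6808960ac515a438846928001404f1a4e00000fd878002ae011c46ef00000388469345681a42000109f0003000002d21bb91b4b0004000b159c10b010ac000c08200020144000c71841cf81cfc0d680d801be45660002098a0a8907a0000c000410ac565045000010000098700b20d2715901774179c70a000001ef0000000c000b00061bfb072e07c00f9868f0385c68d4242000000060501050607320b161d37158c68e4385468d03c51a390e141a3406906908384468d055b1a420e101a340e70000413dc1c801c78562000004f91aef0da413dc37c87794000068c80008561000000e700a51580037c375c02e038b402bc7a0039307a1839146a1c053c03f069f838b479ec68c055f,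
  nat_lit 0x6500100a046a2400402840054000f15e06a20003c2d30053000e15dc6a28003827c1a8b000e14a8015000382cf1a8c000d0b38014400302810d85000c005513e87948002c014c5761a8a000a09f80cbc00286a28575058f00091a8b15d0163000206a2c573058f00071a9015c8164000186a4056d1cd300121a7815c42640004469e0570098e00101a7b15bc7344003c69f056e0989000e1a7e15b41204003469fc56c0e3a000c058615ac74ec00302d30811000b0a102b3800283e1047000090b3024e0002027c083400070fd82494001852a,
  nat_lit 0x1570029142c00a0074000a057b1aea002709f8000402ec00985811e760025019214a036a4009002ec580002401a0002415fc6b68008c27f019900220b40066c0084278019500200fd80668007c52b0194001e15f800740658007457d0147001c142c3670006c016857c001a0192001a15ec0658006428300010102001815e8365c005c6b1456b0d940016018914a46a88005c2840054001615e46a8800582d01aa2001609fc01ac00583f81aa600150fdc0198005027e006700130a0401a4004c2cf1aa300120b38018c004427e,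
  nat_lit 0x3200ea0032161c0088039c00c458b002200dd0030161800bc03b000bc585002000d9002e1628007803a400b457d00e3002c14340074035400ac589001b00de002a15ec0004038800a458800e300280b483704009c038456b002701b2002715fc009806b4009858701a0002509f0005006980090586002301ac002316140048068800885841aec00210fe00468008050d000f01a5001f160c067400783f71aea001d0b2836bc00700690529003101d700311608075c00c03e101c5002f0b40074800b827801c0002d0fd8074400b052b01bf002b15f800a8073400a857d,
  nat_lit 0x3d002a14a800a407e800a457d002801fe002815ec6c90009c27e003201e7003216080094079c00c4591004000300b40008c078800bc5900040002e0fd80084078400b458f0040002c15f800ac077400ac57d018a002a142c7ab800a402f858e002801df002815ec6c4c009c27e003301c70033160800c8070c00c8587003101c600311614036400c050b0022013e002f1634068000b82d2002e00ee002e160800b403ac00b45871aff002c0fd800ac03a800ac58c00e7002a0b3c032400a450b00df00280b3803a0009c2d21ac0003009f800cc03a000cc57f,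
  nat_lit 0x486c30020c14c41a300b8800041b6459b1c1b00001c5916681b580008162c2c71f2200011f060c443988000039e03ca0e100e1200020e740e5e16643a0000047c045981f0400000e740f2439c8383400107b5c38285970e090e0e00030e9f0e5a16581638000879683090e0e00010e9f0b58382800007c6c1f805d31c6a0008002f165408b0001c6b8c1e7073100061ae309141ca800146b8c312056300041ae9145006dc070c071807ec000008d1c64000001a7165002c8000857800b2000115dc6b9800002ca072405c91ec800030eb70eb90eb51ae5164c37e000086c341b21b0d000009f019b837dc00006c305921b12001009f800b4080400b4582003b002c09fc00f000ac27c,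
  nat_lit 0xe1100031ef2038000087ad4180822000010d3f05fc017400001d9017f440d0ed600030e410af817d835ec000840d0e1300090dfd00020e730eb90eb616a437e037e8000439c83ae45a80dfc00001f12169c39b87c2000087b9037e85a61f060e5e00011f141ee216943970000038f41051f1200001ee800080e440e471f051690382c383000087b807c445a30e0f0e0d00010df50df316883834000037e40010df700011ee6168437ac000039c05a00e7f00111f391f3a1f2500140e86167c7c5039f800403af87ca859e0e740e71000f1f370e4916743834003839143931ee1000d0e4a0e483a60003039e44971d3e0000000608a40014238c239026c4020000001446c686c4800001ab1d5a053c00000b2000000121c161e991c630002167039c01ba000041f3,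
  nat_lit 0x6000c16c00e38003827a017b000d0a100e2c0030277017b000b0f800e2c0028276017b00090fdc386000206f2400145af038b000809e8060c001c52a1bc7000615f87c7c00140e1c5ae0e6c0004037a16000dfc001c6f145711bc1000609fc001c00142d000160004037d14280de000100e085ad0005000309fc0dd400082cc0371000109f805d000106ee42d10174000303740a080dd000083e11bb500010b3005a8000027e1f2a00020e47016916b0385000047bd00670e4700000e4800070ebe002b0e9016ac39187c1c00183af43a585aa06a800050858085912707bd0001038285a7,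
  nat_lit 0x32001a0b306fe4006452a001a001815f83960005c0f2c5ae01ab001a0b4c0ef400643e203c300180b3c0f00005c2ce0e3b001603c015ac0ebc007427a1bee001c09fc0088006c2d00041001a03bf14280ed000742d301a0001c0a10003c0ed4006c5841be5001a0f8000340ec8006458303b400180f7c051c005c27e0ee8001603ac14a0062400582d3038e00150a1006240050277038f00130fe0062400482ce1bd200110fdc00e8004000602751bd600030a100e60000852a018d000115f8388800000e5c56b,
  nat_lit 0x6b000e03f916cc06e0005428401ba001414a87df4004c0ed45800020001e0b4c705c00742840029001c09dc0724006c3e01f4e001a1bff16c800a000642ce01c800180fdc0880005c27e0e6d001603e716b80fa400682d31c11001914a87cf800600fa05ae03ca001b0b4c00bc006828403da001909dc00bc00603e003d9001709d800bc00583f70212001509f839a000500e88580000f03c6001b16c40f1800683e2000d03c30019163c6fe4006057e015a0017143406b400742d30029001c0a1000c8006c3e1,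
  nat_lit 0x41e00090b307100002c2d3041e001609e8005800542840018001409dc1070004c3f81c3e0012142c005c00442ce041700100fdc08ec003c27e0082000e1c3916cc1044005027a1c3600130b407e10004810385291c1a00140a10071c004c27701c7001209d808fc004427e1c1400150f8808ec005027e002400170b4c074000582840024001514a80740005057e017d0013142c39fc004808a456a1c2600140b4c06e4004c3e201b7001209dc0ff400443f801b4001009d80fe4003c3f7,
  nat_lit 0x7004001fa0001053007e407e8000017c1f8600060eae01f816d83af8000000143aac34b00040008001400291700000c00a400a020d000201ea001204d4000000e800e45bf00380ea800041fa116f8000c3ba0004c7e0c3350ea40002000e0efe0d5400d40250000423a002101e40000049800246f8c1cf85bd000801a300220b0c1e6474483890345000000611f440da50da60003064616f000187c4400080670da31f420cf400001d0f16ec0004368c36887d0433cc5ba06420d0f0e1f1d0d0000021c36903bd0000c3b7c7f203d701e485b91f461fa31f9b0ef200020ede1f4316e006643bcc00043620dab1f950ee70eda00031f8106a316dc3b6000083aa000505b60002000500010ae87c443c1400043b547e407f0c1f145b51f7800061fa2000016d01080003027a000c000b0a100030002827f,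
  nat_lit 0xe7b00050c3f0d68368400182840da100050f84264c00102cc0160000309e0183400083f61f2b000115f817c800002d21f8400400ecf05f1170c3b3400fc39b839205880ebe1fa31fd400330f1d0e28170800c00000007830800310001001605f0000800c80000076001b0001002e0e7800b8000000b01120f0000001fc10074000001300020001002e05b4000001200000047004608340294003402fc482000c00230025071000280004004017e00b100000f0a057400180000080428500460001000705f80030000007fc36a00ad0000000e03f87eb000007e2c0ec0003000200010abc7d143c1000083a787e983bac37085c1,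
  nat_lit 0x7c407cf1d580001010b0f8b00dc173024ac31d834d800002080f1a00000b8a07cf1d56172c7c0035f0037417e0e060f9a00930edf0edd0ede1f681728021c000001bc159006d00000240068c01b4000402405c9006b000000840ae8039801fc03700fe1d241fcf0ef71ff600761fc81f8c172037c40000011459406ef0f220f130eee006720120df2171c00000131f5a0f670063091000643c3c1ddc4a901080f1c000010343a3c3a3000543d5c3c385c6019a06411d5b1e491e48000013a400042e842bd84a60000013072d0001c7c502430515000405da048472c4000c0ea45c51cb0000104db17101448000020682ba063006321e0000030c2c17502848284c000819c1dfe00011cac12807c34000014381d8050e00010e7e03b40000051,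
  nat_lit 0x1d5200001c1301e61758000004c07131d3e00000f4c04b021801bf4049c5d501da1fc8000015502cb4002800f01f81e520000082f0f1c21ec00042714598087d00001e0b175027140000765c5d2086e000209cd174c231400042084598087c00001e080690272c000422fc2450abb000008bf015076b80008791c3a51f6200010b1c04087d7c00002c70598010501040dd51748138403ec16885d1000301300d4c0d5c00043c7c478059f00060aee1def17403cd800141ef4718c1700f2700041df101f8316c317400001f202561edc000008041d6c10b42004316400007a105cf00021ff006b806b417382ba87a0800043cc8478000107c8090d05b907283c8400001f1c2de45cd,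
  nat_lit 0x10d4706ee1d65177000000130d250d270ead0da70bf20013100b1c33176c7bd0004871082031c3b1c3c000c0055086e17687440000470ec70fc31b0566000002070f4c00102f7c19f832581950002070e0e0207e800007b6c33e42ad0c301ed400031c3707a430643074000870ec1ca0be100011c340748306c000070c81c01c3500010fd8080400002d20c180c100bf6004c00011c3317641568000070bc135020300040b3c70d8000c2ce01fd000209f807bc00042741c2c000109fc73c8000007e050a05171cdd07550ed701410ff71c2a176070b43fd007b0000808500010048108400043fc870a80841f1c0420000001e9175c07a400082cf1c1e00010b3807680000274,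
  nat_lit 0x904730453056808fc0020784c5e71d5a0c960b980bad00020058322430487b9800045e60000004c000c2150367836f02fcc5e50002085509360890344c7d1834942504073c410471dc5e41ffa10110711071401ce1c77178c21282120073471c833b093b01cc1c6e05640724825441144118824c406407b45e208320f570f590f5a019f2030083717843da80640712805c0611070c00001fbb086b1780395c000479f823a000100a50de6177c2bc400007ee42180ec000000aef0f1400001f5c3af8239000001f206121e7b0a3800003f1c1f540ed2046016c10131778160c1658000408304850001059206220ebc000005106ec1f1b00000604000c1bf42cc02c600011cfd08e008db08c21774000001204f804f906fe000105c4000070d870e4076,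
  nat_lit 0x23b023f1c67071471fc4138419882fc41bc82e4719c5f2021710421059104e104b10481c6617c47194412471940ff087a02251c640a180008012000005000c490c4717c013ec204820241954089808e471885ef094e094f023202371c610068719c410c718045b1c8620ae0218020872344128415c410040f440ec08385ee00000fe4068917b4826407f872041b205a0079501f100bc00007eb4380c11a41341dab01ec10421c8004b4000c725c725014e1efa0d7d00010c7c095472540010310c29400030c410ec317b00008162c74b01db1c8d1c92000105f0000030fc30443cd1efc06a61e8f01e317ac0010012091e07e30001016c00041784178072fc3c00000004811b011bc7a28076c71fc5ea0b430b4001da1c8017a40028251436e031b02b945e8,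
  nat_lit 0x1cbf02181ee51ee9023a1c7c17fc087c837042c041f8837841a071f05fe1c90106c107620dc10a520d71c7b17f47ddc08d4418c71e82fd004f00501c7907001bb4090471e01791f011d140001021b07d717f07230419841a042084290418871dc5fb1cba20d9109f20d11c7600001d1217e8086441a8426083484184417c71d45f907d9022f105c1c740614762808ec71d029908b204b404ae00000f5c0004402c3fd81aa015d05f800001008010404e88264011871c84000a65023110561c7217dc71fc415c71c455b022c10541c72020871c4051022b10521c71019871c004c000008ce1d9c01a82314067c414c414471bc5f6039e20c11c6e17d47334414071b4557000500480874412841f0832041c482fc71b05f41c8320c0107720c31066104f1c6b17cc71a8413c71a810202311c6c1c69070421f408a871a0229,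
  nat_lit 0x1c940144726841f8725035e1c930130743483cc724c5581d0c107d1c92155c00000e9c07d03f2408643f2407d00e9c7430742c0dcc83c8435841f441f841e872486061d0b107b1c9103cc742883bc72400f01c8f03491c8f08b03d780014000c142207a0005000208b0723483b0431c83f4433841dc7234103039503c803ce03dc036c1c8c1814722c41d8722c10202b90f841c8a04600d943d9c7224230033d0f831c8807000d883dd0721c2dd03350f831c8607143ddc0014000c3a30002000502b7090c72108388431041b441ac41a872106040390039503d2038e03621c83180c720841b072080ff032f0f7a1c8105f80d683d3472002dc02b50f791c7f07480cc83de871f811c03580f691c7d084c14a01494209035dc000020ac60200001c7e023c0d0e0d530e4318043d783db80c684250424c839042884274428073780ddc0c400edc837c419471f4600,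
  nat_lit 0x8e708e81f3f00011caa10911840304c301400000ae000000900f4e1df20716183c2df8163c1e1078048074729c60e0b76085c1ca60f1400103c1c3248243c60d0002000a1d51037c00001f9478482d70b7008581ca40f247290842c728c5141ca2014400280130002004c06200a101b540a180008001c60c057b028d02911cbc000110c00a000000001c199000101307d100d5400080f0028200df00010508000409487364077000006db00e008a030087dec7d88328c32883cbc726060b0d0520f81c9700000aba18282ae0819472581440000004c725483e8420c4394421472546091c951087210e10d810da20fc1c9517f472500d5872501c81c94108510d820fa108310841c941820724c0d50724c28600010353035310820f9520b7181c726c42007254287,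
  nat_lit 0x705b505b40b84017701741860000878d03bec10d000107fd0f86064c05b8417805a883bc8450424472f461707fd10ac1cbc08f078801ed072ec61609651e8e1cba04bc3b20813c72e42af205b10b01cb80470826042c072dc2131e3503a70001023c7738197c00000ed000300980c8c0e980db90d220bce185400080120000004c3ac87714190c7ee878601ea872c8614009808ea091510a81cb104e410bc811472c015b000101303a1c365435f435f00b8472cc6131f8e0e081cb20c7c1f504268429c72c801908190e7e1cb10858145821e872c045b0c160e591cb007b03294840072bc55b0868087f08690d791fc81caf184800202dd41fa840d1d5420540eb5099d086108780bb100001844000c04c0000014407900000032c181,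
  nat_lit 0x4053f1d9f05300ec1073d06181884000401300010939093c1e4b07e41dc91880000030b83514257061f1f46089c10cd21471cd31878251084fc851c734861d000300060a7802b000000120001000605000af6046400141354135c230000404d21d880480000001309d80d23208600001870000078943cb40ac077104f410911cca0ca413ec3c50732436900001fcc0d4d09603528430873243601cc80144000804c04a710b410bf1cc7127034103b0c73180dd0b270e8f1cc50c7c000878d824a815e000107ef0f8c11f08280848c428c83c8059c417c731861b07ef10b61cc508e81f101ef8731061a0983205a1cc306bc828842f073082dd092710ba1cc10714077c0000002016d816e41240619,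
  nat_lit 0x1e9c10ea1cee0ae4000001202c002be0b1910ad1ced18b07e7c7a9c017073b062b1fec0d4c1ceb01dc2804352c73ac0781ceb00010fd80008000028109c61ec71ec6074a0000000118a87cfc06b806b0074837140cac43c843d043a073a000006290ce4079d079a0eb821611ce718a074044398739c55b000001300014052c04183d3006f000005dc00130016095b189c00047394856c4380834c0e506260000004800001464384c2d342a607b5827d8625001c1ce610e01ce20c3c00347390738421e1cfc0fe30003060c0018418c845407740c886240005106800d601a0001041a402d4594000301dc08af188c000807704000482000101df0fff0b5c0000077422b04a9005000401cee215110d61cd918887380853c73645140120105f1cd802e4735c051,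
  nat_lit 0x845081600040c5418c4000080a880b478d019f0dad0000000404e80000012202201570cd3000109347ec80000000c203c0b30001063305521dd50bc418c0746c4424741431d063510971d0402e4740c051081e0000074101507948000020785ec083d1d010002079c0ed8852c000054900021cff110210f718bc19d019cc000417f1fe71f0900000574000828f47c1c3c700011eae1ea905e4000028f035a83ce0524084d1cf908b80028013000510ae0b2c016c0020000c2594792834207a8103d01f52132108010881cf618b8089c8468845440c805ec420473d462d0f821ea7092d1cf4051c258824b824b073cc2b610ee1cf20002072b11e0001473c873c4151095100611cf01868344c354473bc179,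
  nat_lit 0x1d7703271018000d07be0a7218ec000c0130a4d0ae60003076c2e107d4400081d81f4c0ae1000107c028f02b88000011f212700051ec212080fd04020847c84b0334800047a7863a1def0000082f18e420bc00007fb00f21fec1028213221330404211d000018e01bd4002427a06f000080a101bb0001c2d01e4e000609f01bac00143f606ef000414ac1ba8000c57e06ec00020b3c1ba800042ce06ed00000b48846084b0001420581bb063703e210bc000415600f1842dc000c6360002084e05400374000020d080a406a0002077b216c214c027e18d40004191823588620856c6340819081a00000c5209c47eb800047a3821206330a1c0c640000082e05cc7a28205800143190632,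
  nat_lit 0x4f1d4d1d49087883402278228075244aa1eaa09be21c81d48084822742278751c1ee00b008851d4606247518452c450044fc45287518642000008300efd01ef0f8f022820b81b7c000035e003500483bcc83083ef0000000d8641087b002c03f7218a21af113c210e17c40eb440d000a0556001000480010761c76141db1f3300010ba70ad70eac0eab19003f6c00002e982e9c204c7aac63f0ba1000002a009c91f051f0b18f800080e082b7c380c38082e8063d00012112027504f800003dd421b005d1ebf01dc00040e1c7b902084000c35e00020130143c00001ca0558000101db0e6318f00a5c1c9000002431ea5013200030648000879a434b01c11d771d7b000106440000138c13981261e3d0690000104380000013,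
  nat_lit 0x20a80ba8083705230001114c000001300010bce1fdc0c0f1e1a114800007e701afc14d002c1db0036301e402c71d5b192c2c443a9c06f4435c86700b20757064a07a200010a71086000001a280b1405d1f5900030000192400000130003115f0071079c1920000413f414007c186471f2f08951d571918069c864c75582871d550144000045783ebc197c6451d5401307e4c821806c0864043200aec75506440ec10006000308f0325c0000002019fc06b000000480c98016c223c84f800100590896100f00030060000002ec75bc0a400a3480d864300001d4f1d500c50000435f821fc811862f00000d7f087c013419e80ac475303ba1d4b0130000004c089e089f1d4a0c7c000029901f8c4a9,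
  nat_lit 0x10e0bcf0f9e0f970001026a199c7fbc34b881a03e5800001224666047d00ac0ab80b12078c078b06d206df0b5800010f9419943b303b342c942d68000085286640fe921120f5b08d000000b59198c2d7400001b9c7a58015806ec662085b0af40af50af9000a0b0c19847e5c00242c2035800af043d4660000108511fe11fe21254000001208440002102d000c06dc0e9e197c352c00043fd03fcc14907a4c65e1f200003084d08490a160b421974229c81b082e421040008210465c0eb90ebb0b2d0b4100000ec0196c2fd80ac80ad02c1c00082be051f1f1c09720ad80ad700011f1d19682c0000007e502298840c7e6c6590af40aef20af0e5e00051f4719607d943bc03bbc34e4000025b06571f1f00000bf50e5b20ad0d3a195830a0228c3bd436c4000032c8655201220bd0e9206d0000008a0195040c43b3c3ac03ac400081b446530a0b08a802aa01ca0001083a194821800008812c811434e02c7c65108370af301c621a700010d5219403670000845c045c415d878d064f20480d490ece2156000102d1193822bc00000b400c0076e800f464d1d640000142c2264818039d80000758045b0758c64c,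
  nat_lit 0xabb0d010ec100010c6c7f183ac483a00000676000006000e1f17b417f48884764c598061b0a251d92083c764404c01111dc2221f1d9119d41f7002d076480771e0b03831d91116c04b080102f9001400148887c468076444e6037d03811d9004d8000004c00000df51f0204b83670316026e83dd04670763867400000048283027682760466c76346731fe602f51d8c1000000016902bf02bfc2a405a1059f119a1d8c0c3c76384660762c000067205a50fed1d8a0da4034816903fa82390000823346711f860f870f840f6800000ef8195c365400947c602380237c3d9c6700c4d08c70ef90d9400241f1719bc7cd000602bb800007b28179466e07810c5f02c71102000c0ae919b4382427880e380e940000785c66c00001db21f1408b4038d03a419ac0004099c0f8866a0265000101100bd1105c217f19a40000386825cc25c8885076bc668,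
  nat_lit 0x95c21971db00568000000301e5017b817c00a3000b079305ed014300e819f01b6c280800004b5000801c90a39050404f800001904594013000000b8e15607fd00008233c02bc11e888348174132804b867b1ff4000108cf17d41e3000100004000002ec67a009d05e5078b0003000019e40048006488e0769802a0d170d160acf1da519d41f4c862c7690202078611b81da3156c001432681bd41bcc1f807c4c67807af00000003156000040864022063c1fb91f7f0a381da104c085c088c476803a50ae20a351d9f0d88841c46c8767820a0b8d20211d9d05b800081608161479f419c0000004c18c83b9c3720860488a8766c677095c210211ad1d9a07f42c188070766415b06f206f61d9905e825cc8898766055b000001440010187c7f74181,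
  nat_lit 0x10bb1e0a000108a4781447e8478c77240008810c305c686000120ad015a0dec00000130d860e4921b8226f11f811e01dc61a140020771c771415b0001004c2db8001c000c1c80c2400040002066400003bf8017835a0efc06c706c60a270a2800011a1077e886e400002e8000209c309c709b10aed10051a0c00042da02d2c2d28264418a00001ffa0b3305e41a08297c296c894c76f42091fd411d51dbe192476f40510002203d086e1234000480e8306468103e71ed708f100011a00307041ac00001b30001013710670174000004d407385ed1de911cd1db70b041f00887876d835e1db50130000030701bb835a0ce403c203c1064e001c1db822471db419fc7b50193c194c866c76cc67e0e9f20770add1db219f42b84866476c411e,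
  nat_lit 0x1e17227e1dd703c0778047fc77682871dd90144777c47f4776435e1dd80130778489e877600f00000014400002318232035a1f960ef1214821d411fa1ddc1a2c219c87a077743970002014e0207177c010c0114034804a804b4886c777068a077601011ddb0504784847e07768221000f1ddb1dd9054487c047d4776021d0a7a22721dd707000064776c77582b30006004c13e4439813fc4664890c468077546891e0c11f11dd40648800c03e0774c0ff000b1dd41dd20b70777089ac774419121e911ec1dd00a18006c0080773c244000001441e70398c0000193000100a30e610c24000077b025106881deb11f111e61dcb1a1c1cd01ccc898c77284ec,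
  nat_lit 0xc760c781ee7017e032d1dec1a480000852009e80570056c691000301700f0821be229b1ded1a10000c181c0fd0493c0a80446869000000ec105fc04e83b08000805a859a00011e341e35015417fc3b4400000e9000100000eab0a7e0a8301183ab4428c8a50779c0841e3012131de6156c0000779c8a48489808041620003072609331f9910e40008828c29f016602c811a61de415600c8c8a34778c557022122091de206500b844784778404e09f822891de012d477840c180c10778430c000001440008000000081ab00000b5303e41e8503e000001a3c00040c10322033fc3ef82d4468e1de712071ddd0c747770051000202ff02fd000219140000779447f8119801fc19a068d1de412031dda0ee8776404c0ffa0efd0ef8214102fd1dd91a30787047fc7760349,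
  nat_lit 0x20480e370def20b000c01dfe1a64785848f848e077f46980ac722b81dfc156018e048d477ec554000110d710a0020c880c48e08a2047640d3c8a7877e85fb10af10b012341df90ddc880448d077e017b0b90220c12321dfb0d9c823c442077ec2fa203c203b0b5300141e021dfc1a5c784c0d0477ec2980000004c77e80d040cd80d0077e86960491033e1df905680000013000000230000058078380cec77dc3280000004878340c440c400cec77d831c1e0c03381df507d878300cdc77d42010000004c782c13680cd877d06951e0a03341df30560000c000035b06940df107c708910003051c000001300030f660cb10c8a08db1a4c0008856c2ebc3a40001041a041d05680000326431d8224,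
  nat_lit 0x10d611a9050622ba22ef22d71e111a7c42c84950784017d1e3b124e1e131a787a604a00463c1514151845f0785069d1e5312530006000213700004013025906aa00010ae818f07e44000011f00010fc40fd60823086c00003ef08720271035721c822cf1e0f0198783804c00041e751e730704000c070443b03cd021e0a23125822cb1e0c1a7014388a94782c555052822c81e0a155c06e883cc782447301d5100b1e08062c28c03554781c3d31e16035e049e049d0008000a1e071a6c83d8000000104504451445180b2c69a0005227508bf18f00008154c48fc147c1530001113d04af04b0051c000013f87b601c004a1049f1e0207b813f0153c78041fe034a123d1e0004ec00047b481240124c15544c01e20123b1dff192477f8051,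
  nat_lit 0x102110a40d68408c40bc8bd478a4110126d1e2800000e081aa4004478a8789c230000e1e281e26072089e849b878942b31e2a126c1e24071888ac427c788c2dd0b430b451e22071400042dfc2df81ba10d711b803911266126a12671e211aa040d843388bac788038d03d203ca1e1f0c240018788078781451e2312641e1d04bc89c8499078702af206d10961e1b084c00047968795c17d07ca0f8d0f8c221b22e41e1a1a9c796049c4498078646a6000210601e940c100004883037dc2f600000d520d541a94417c88740ae8848c0798496078586a4087a11a5030922b81210120e1e181a8c2ae800047860785c1471118125b1e160480001013f442dc89202aec6a20000082808720bf80b9e1a842098000082906390c090000082403c83ffc0b1088b4468c0df049447848000043586a0,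
  nat_lit 0x37103f11e3e03fc79408c4c78f417e1e44128c1e3c0abc78fc0510b780ba9000105e80004334c09a809ac12c46b0000006e206d606d3191c3354497078f035e1e3b0130892c45c00014000806cc11f47c0c6af000101b302e30bb88a2c4778478047840cdc47dc78e86ae1ea203f71e3909bc78f44a0878e01510e1b00131e3708a445b08c1878d81790dfa020d1e350b7443b48c684a8048940e308b1878d46ad10f122dd0335125022f5125f1e341ab02b500fc078cc0ff1e37127b1e32052c25e48bd478c42dc112222ff1e300a4406b80fb078c43601e30014478c0000003b80ed0000004c00003d740b7c2b882b780a340a1803ac6ab03c1119522981181030a12491e2d1aa828d8853800002a81e351e320007000407fc00042db081c025b,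
  nat_lit 0x1e8312931e550a1c795005100041e551e540b040c680fe4794c20f1e80128f1e520d78794404c116a1187103600020680002840c8000405808c810360000071c00001a9c1a8c6bb06b1126a11de11dc0aa012891e4d1ae82a90312c4abc4a20793043809a2122a122c1218044312171e4c1ae489e049c411208c404a384a34792c100206d0aeb12761e4a0e3444104a7879241671126129c1e480c2079348c88791c17c10281124129a1e4806307ce84bd04bd44b7c126049c479246b80b4809ed12b512701e481adc7ce010981050791c6b6043e120d1e460d2411488b9c791469e1e58129803c311e711e611e41e451ad445648c984a9c49800e4c47b879106b41e461e43000100131acc79548c6479082ba1e4912921e410acc2b848c5879001200a0322ee123f1243034111de1e401ac844e48ba40d74498449d449e478fc6b1,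
  nat_lit 0x113312c81e63068c28e84b20798817d20de08111e6105ec00000130000031c1f2f1f35072428c828d84b1079806c008ee08ec1e5f07f8447828940000058000012c10a33206705c0797804c202308e81e5e095c46c049ac0f4848c848d08cd879785e20a1d126b231e12d003a7122e1e5d1afc23948d0c79701c11e6212bc1e5b05442c508d0879681bf00030048798048780dc448c44a504a5c79646be1e5f12b81e58052c8a488cf8795c1830cc0031f1e56083410348a408cf0795c1d91e58013079cc49b4158c4864485c486079646bd1195126b126d12830571232c1e581af02c148ce4795c118229212b11e5607180030797079581921e5c23361e5505f844904ab8795017d000021a70acf0e7c3ab844884ab079501ff,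
  nat_lit 0x1e790130000401300021ef513050850084d0333132d1f831b3486b40004000c2b900000048000400083fd0396c6cc0271015f0000066800081b901b6c02706cb000106ea1fbf0e871b2808104aa88c60482c2b748cec79c46c9003f1e8d127a233a1e701b202ce04acc498c8cbc1210496479c06c71ea412db1e6f0ad424148d8879b811222b712fb12b623300490125f1e6e1b18277c496812708cb48cc4499079b469f1ea112d71e6c077479c88d7879ac18300001e6e1e700154000027a40cdc0d7c22286c509e712641e6c02e479ac0511e6b01307d788e044c408e0413504ab41148497079ac000000046c402be0a292328125b1e6a03d87cb40bf0113c79a46c3048f12531e680d2411e44924799c0f00005004845ec8d804b804b840f6848ac79986c20a43127903ea230c2328126d1e651b0479ac8d44799017e,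
  nat_lit 0xb0d09040e1c277c1d844bf07a3030f1f9005570096238812fb1e8d1b540dcc8d8c7a346d41e8c01441e60876c000406f0001238710fc22b21fdf06f908eb0d591b4c00004bd8281c8258282c6d21e8901304958496006508c508c584cd44c6411848d747a24000086846d1035a039c047a1e881b0c828c49cc10444b7c499c49a07a206d01eb9234b126f126d03e8125e1e8717f4274c11387a181e71ebc23801e85048429684bd87a101af1e8b12f61e8307187cd87cdc000829911611311238412b205a812611e821b3c7af84acc0ed88cf48d404a407a046ce1e821e8000020098084800447a1479fc15c09cb04451e7e09147ad08ddc79f42851e8412ee1e7c04bc29a04bb079ec16e00061e801e7c04ec79f40510a290bbd000001dc000027c00d300550745043d1e7b0b2000d48d1479e80ac,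
  nat_lit 0x1ec913231ea307180030003c7a881c5000500487b1c8e7810748dbc4c284c247a845f11efb04a31ea009147adc8e9c7a7c2851ec4131d1e9e04bc7a944c6c7a742af000400081e9c0584000001221822180000200061e9c06008610000800148e8401246db00010004131600171b6800082d648a6434a46d900010b570d2c218204947bcc12607a64514038f23731e980a1c7a5c051218b04951e970b207a5804c00341ea612af236f1e961b2084e433044be04bdc7a546d80baa12cb03c92352235623891e951b5c464c8de08ddc4b0410c48d4c7a506b41e961e93000120941acc7a684c2c7a482b50ba623931e9105e48c248edc4c9c4b300f888e107a4455d1ecf12de0410126b12e7238a1e901b5828444c007a3c1671e9613061e8e077445fc8e387a34291,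
  nat_lit 0x1fd5054b04c51eba187414504b207ae434904fa23bb1eb81a780168292c7adc13703a821b21eb60c50011c1e747ad42460aa312ec0415238e12b2238f1eb51b8848d08e844ba88e8810004c6c7ad06e1235104aa1eb308607ae84cdc7ac82b51ef313371eb105447b948f007ac01bf1ee512d82398129e042823891eb015747adc4c78113c4ac44b408e547abc6e0231a04a41eae09147bbc4cc87ab414b1eb413301eac07747b808ee87aac1830a3c132c1eaa0a447c70127c7ab45141eac014435ec12747ab01fa1eab013003107bc84c688ec07aac6df000800487aac7aa80000281015520b700e51ef7133605ef13111ea91b7848488e7c17ac8dcc4a644c407aa06dd1eee12fe12fb239503ed23741ea71b70485012a87a981e71ebd23ae1ea504847ab04c8c7a902b3,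
  nat_lit 0x125123e91ece07140008010c010815e0a7712f612f112ee04fa23da1ecd1ba02ed88ee815084ba04bcc4d607b306ac1ef804e41ecb0e947ee40e407b282451f3923e31ec904707ef40e387b243161fbd038d1ec90cb07bdc137c7b243c51ef704de1ec906907b384d407b2455b0009004c0020001c7b3800a04e40bb023b0051012dc12da12db1ec81b9c7bb04b784b744cb814188f387b1c6e6212c04d51ec608607b684d307b141211f1323d81ec40ae828b01ebc7b0c19a11d6134b1ec206bc7b184d247b041c60d820d8a1ec0066400003bc445403a400d51f0d23d21ebf1b947d8813307b005141ebf014401e87b80015000003c0000600631ed70664000412f4098406a00b41efe133c133d1ebc1b9001dc7b8c4b644b5c7aec6e3,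
  nat_lit 0xeec0a151edb0cb031ac13d47b6c21e1f4013611edb0094000803dc00343ff000100450043064c7b884b6c122c4be88fec4d707b686ea1f3704eb1ed904088e484db87b602b91edf136f1ed7042c7ce413a07b643c51f3904e71ed906907bd48ff07b640250000004c4698100011907b601b81ef323f91ed71018000404a42f8c099009940900000009b000e04347cfc13d47b582211edc13671ed5042c00080270004010d000100ec00eb064c29304d604e144b6011944d287b4c5f21f3b04f01ed206487b604d887b4417b0459135f1ed0091031ec13b47b4832711b904ec1ed204ec00108df44520840c2b80001034703960b0c84fc4bc814e84bc44d008f7c7b446e91fbf03971ed008607bf013a47b3c102,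
  nat_lit 0x1f9906691ef107d8000019a007006ee1ef10144000819981360131c070046d000104d904d701bf11680000199006f81641eee013019f090388f788f602e944c347bb86ed1f4f241c1eed0d247c844e087bb069e1f93065f1eeb04e0292c2e887bac3161f2c04ef1eeb087831684e007bac07d000b009f009e057800280474047019309fd000121381550229826101f780a582b10000c84786ec00020a47032f033009d802d884d4000429cc6360eac00010efa0161016512a206b82091117c1bac29100cb00cb400000a985bc0002000003bc18d849e84bd8120c8f584bb08f507b8c5fe1ee31ee20002008e07783bd428707b842181f5004fc1ee008843c4413f07b7c61a0cc90de01ede06bc7ec44dc87b742b90a6224071edc0498228c37747b7015b,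
  nat_lit 0x400bd00d5057431e0000010bc5df00030000054e18d80ab890884da04d94127c4cd07bf863a053a240704bf241213ad13a11efd1bd47d1c14fc7bf03a5045a04601efb091430484e7c7be820d0a9913a11ef9084c7d1c14ec7bec3c51f47053a1efb06907df44e687bec02502b9130306cc23df12cf12d100021bd00c8806d40004145000106e30e7e1bcc00002d7c8f941370afb02da00000b20000001202e4218a13941ef505a40d2c4e487bd005f1eff05041ef70f147bfc140c7bdc1a4000001ad07ad07708ba0463c000432000000048000005e005dc0cd48d546f2034f1ff00342035204da1ef51bc4176036643af002b413a07bd06f0000100000001048400007e6c13c47bcc6ef1f9a066b1ef20ca07e68137013787bc81d9,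
  nat_lit 0x2570376015c09602edc4798466840784c3400006fb000221a211410e8c07f400042e8c2ab066a108622dd0ba800001f0b04b91be82e8c43b84a4800087c347c286f91f0a01447c2804c0000204706170614217e23d81be0185412fc150c7c2440c1ff613b61f0803cc7d9c91507c1c0f01f110144000012681248122400006f71f1001307d4c4ecc7c400f31f7f24511f0f03c0002401fc01f815e000800c600da05740000012000100851f420714000c7c307c48005c19e00021f0b1f0f069431b890ec12d84d2890744d007c246dd119813912438138d04d724201f081af07c207c1c000c20a402006f61f0b1f06000101c81acc7d4015247c1410200121f0b1f0406bc2a8c4eb07c0c11f219e13a81f02042c001402f4150c3d3,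
  nat_lit 0x1ffd1420141913d1068b000500021c180f74001c000413e063c000700000650821092e451c0830c1bb483048320930c521452385154514492ec832c19d0000470500010687247113c906d917d800001a2c19c801d01d101d5135d24471f261c100f9c4f607c94549059013a01f24023c2ffc13c47c8c13e04de04d81f2205fc2ff413c87c8405d04dc04da1f2003a4003401200011fe50509066800080050426c41a810e810e4703000104cd001605dc000001204b704b0000302061fe11c0800047f5415482460002000404e2000605d4076c080800043620000000104c508c00008000c11bc080407f870100011f1604c408c000000004136c474000103ed210f090b249020111c0000000fb00960086c08600d906ff204d2053000c1f161f1200001bf87c44130013047c441970985030d037600011f1104c11bf400187c400004096886982ecc6fc,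
  nat_lit 0x1f56000009f08018801c00047d487d5471804e11f510000048400c400d8000417f0000003800000ce0000c2db825048510108800d87170000000212e2206802b805201c580004482c8f284c844b80000471510dc21770a1b10f82367236800091f511f4d1c508f1c2ae88d9c00207d407d28713216310f82366000718748c282ad40018210218b0ab600050e5c0004892008a400a480f80cec7120000004835f0219c21a00004136c7d3471104d800020fd10aaf0aae0b571c40136c00042d3c2d442188219870f1f4704fc00000b4e21b60aac1c383f382e44483c24c8000c15b070d218d103e103f0930000206c61c30000001200061071106e0b60241d12200bb91c2c14247d1400142e40482c24b870a0004107211060af8095c00083f8201400010fdc095000002d22057144524cc149b149b24cc20d507bb05dc05db245e05b60009000107f920e702531c248c7c2e341fd81fe0000000181a5c1a6c90cc13cc920c7cfc708000a03df12231133113107fd1c1c00244d488140112,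
  nat_lit 0x4c00300004283011dc0530000004c282c2e2c2e8887a0002c1da0009004c85c826cc002800187250ba721e500080005072813b40000088c3150222201e20210000075414c4000408a85c900071f620000090880d4515080b0094800047d80724030b23f700000d70000c234423340848084c094072300020f4112350b02031317a00004233c84c4255c2a4000009a711111c883d5824c424d0102c14a47d687210000004800d81d480fa80fb081f872000000cb6221521e91c7c000004c1fbc1fb700000c7c280c143891f44ea87d88004c400822184b182e1c28b804a071e05151f6100120884086608671c7413bc00000b0c1d80213000504e908740000146c1464000071c0518051702400000004f1c6c7d7400003f6023d202220210000051004ed04ec1f5c1c68143c7d50001c000c0844719,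
  nat_lit 0x53d050e00750bc8142814e801d800043bb000003420000016800041c9401dc01d873200000722007612007ddc051000007220720000011687dd804c209e24d21f760d24809850c47dd469e0c0b22170ae421df06871f751cc400000131f9e0597056405631f740ce80e300e3c196419603e802b8487701a107dd0730000000487e7c161416207dd45e9000313ab0c41155000081cb81b8c47c0423079921080791079607dc211405f01f731cbc1cf81ce41cc81ef01ef41818180c50a87dc872e063906380635062405e91f711cb418e017c017d417c417ac7dc072c073d0613061205f005ee1f6f1cac83fc18141828184417a47db872a0000004c08c40004000c13500000048000408bc002c13e00030729054a07151463203700021f6c1f6b1ca0002814f47da872700141f6e1f6a0000005011851c98014416b07da41a4,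
  nat_lit 0x107a3008b0085070e13cd1cec106051547e446461f90014400080f2c0f340f3c0d6c0d7073a0001079b07a606fd11687e3c51447e382c11f8d013000000130000057e0033003402621ce41d201670177c7e40000c7e347e30738003c05561f8b051000000131f9c056f052805541f8a1cdc001c50987e241a41f8e14491f89156c00000121f88055105541f8817a47e3051187e1c39c00030085035203522099209b1cd80008152014bc146401f846d000105470517007d11e0000001205460547000a000e1f831cd401d815d47e082ff000113da1fb50aa00bac942c863c26180174000473400000048000802401594161003f04e805701f7e07bc7df41cac1ca47df44bc003d07281f7c062400080008000401c801bc12a4733,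
  nat_lit 0x201447f1400002d00292000105981fc41d0c09c0000032943a600022083208601d87f14000052a0287000005941fc41d0801e07f4000000180741005400040f880148000c2cc1fbd00020fd8013c00043e0004d00000f7c7f2815780010012c013c74000032078207d014015a4000809ec179055c000100190e1891e80cb00018000c15647f3873f00171fa31fa6000210840004155c7f2c1fa099f0a8414c814ca20da00021814155c018c00041c800001fa2056b1cf8000016300c9c722000104211fa001cc39b8893c326832608340000473d0000027a208705ab0db4000004c0004000002570c7c81781eb41d680008196000005ea1f9f07e8097081741cc8000000080018001473c,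
  nat_lit 0x4c7fdc16b4162c000874e00012008200b01d8014451b8000040600670002057f05871390000415f87fcc74d000025061feb02b0026800047f64267009a000005c70a587f68000057e0098009b00051fd81fd91d300000013005d0c6b0000000105a21fe91d2c0010002c244831804f988eb074a0003001f057d0575057a130000080a9c0b4c04500600001209b05de05d31d240000013000505e405e205e31fd006980a748254826000104211ff8000109f003fc00002d202a1000105de1ff61d20000017787f2c1890454105c246512c0122f0c500c51090700001d1c0050025c24403144314024187460013057c07120af815f415c4164c7f640004745000000488294173c16a0000474420a405a6000004887f547f600024078,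
  nat_lit 0x20092008000020011d68800c000c52a008c00020b3c022800042ce1ff2000209f0019400040220759006600000b48809c809000287fc07fbc7580138012b000904301860808800202290006004c38e08c242e4c44b444c82e6c95300000809875720260000142c838000008094756062a201d00010491212500ca20df1d540000849484a0055048d0051004f078107ee05b800031d507f9816cc000800047531fe505af000108047fd816bc0000202000000de14440d44038851f000e00b04007880587520027001d060b0cf480185120004055b0002004829c8000c00040000173082b870f05ca20c5000308a400080b6000082170a060b3b2247055e000000011d44001002cc24b886ec2e3415707500003058e00a01d3c174817d817d4802c0004223,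
  nat_lit 0x3004c80e8000027c015e000005c520391da00c7883d4001016f816f07670159000305bd04d480e01714000021e20430630063114b30000006c006e1d98001405588124190476507b205f90125000404b01818805800041a320ef15160775077400cf00011d9080a816e000002ff201306050606065a20ec000300cd1d8c00081dc81f1001ec8020802c0194762014f000102df1668000003281968142076e038b071d000020ed20e81d8483b019540090808c80a0036876020ea065400230690002c012002c000013a30113201e20191d7c4e90025c0004004c17f400a475e000000480068006c00141880802826d009300000a940585141602b21d7490d40000005c000c187480c4669001600000ad30fb2058122331d702554257011bc11cc0244001075b00030016001800fd06141860801000082290001200b05dc05f400000044004821a,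
  nat_lit 0x439043a14f32597202e1dd40348959880b454907a914ee202c155045f82f8c80ac1ab0b080be4202a03a418940ee4000033800020ce2247c1556155821681dd00000013215625bc046504d5202700021dcc04ec81181a0c17fc20e8809877202ef02f00095009720251dc40000872020e0809001921c70839202300380020962c9628539c923c1028104077004f104f0000309148584518800082af046604640787078800001dbc00041e8c044804501e6076e000007a3082625500d2c1e801fe0205420585368807476d006b20e7152214442581201c1db0839c20d420a8806c1d9082d082f201a069416e4537c806413b045b04600000080400001360203c517876b04d6081a14d3201711f4805820a820a080581a004d7257920150e70008c532000440ac24650eeb0eea0597003a000f1da804b8172016f80010769,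
  nat_lit 0x20490130001c012000212b10cea02ec328811642a781f1c1f305434811c77b030c030b0832150e150f25b320461de84a4c92dc543c81143e7119a0c00204405f8920c9578810c1dd1171121c20420a180030003c81041610c030bfd2040084c810c81000000862055d421b421d821f021c821b8208422842068208421dc13e0779012d25ab203f0aa0000001322730001249e05b40000012126a126c00010004048c000001300010afb0afe24a324a00c384c1c28dc00082300c4f0a790001076089b02b2400001f0000022a70acd120c001880dc80d831d213f14fc20350a1c80d00510003045c2302214207a828e84c504c482f20481c48240000778011b1224133024ca11c0000220321ddc2e588b948e184210420c46dc000477622a31172117411bd00000058000010e4479046f40b5,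
  nat_lit 0x58701c601c9000505481a68857000101e701be0000095a09560c080c0b1e10403047683af0160800000df878321560000142c160c8cfc00041e2001ac8560855478221961464122800000787006a1e041e3406cc82a0828800080000780249d0b1400030ad412d49808479c0004052000324b1127524e60c1f224e09c10146005b1dfc000811e811f02ab047f44630479077e0001125512420ba106f00000452812c00bb0e8e13f80395215c152520561df4338841e455a055e0971c815477c04502591205404ec000001300000db40db70db5217e06a48cb411908148070121725c220510aa085849704814440621b221b300000a1400004664153811e119a0e8e000104603a6c3a3800001c500010e95236d062c00003a4c3a583d304452585204c192485385458812c287204a014485345450812835e,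
  nat_lit 0x32235e068c82108200000012b24bb0f690000045800403b103b5c3da836e0250000102ae0138000004c0b370000020704b8081447f0928c48203afc00300028182878c21f721fc0000076000d881e0000011a0001014400103d748e703d30003060905c7057434845288527c96a42218550481d078b03e0218525e820731e2881dc81c8000c8bc4209047525b1207105703350122481c00ff00052070206f0b70006081c481b814500250029206d058487481eac000810b00d20409000000030b380aca1e24000848c40db4489878800010de40792095c00001594158c1420cb30480206804d83090948c46bc0070008881a0787068c000010b71000105024821e1890984520957c9844867c000c785000214c42182037c000496ac83cc0a0,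
  nat_lit 0x1a5019e000000c80000000000082528235c577c87c005c40674799000109350569056f082100041e601e281e381dbc22945354826879708d6075807530909088220991e58053015d00dc885dc55b08260795082708a908a808bb20971e50207c22a05344825819d056f08a5209505340000013055405531563089f089e14e814e920941e4c85c85598824c55b21ef14ba25ba08bb14eb15aa1565087a0904087a20931e48204c5590824839c0b3c0b3a05e20004129418641a20425890e4927c000879107dd05db0001090c82548248000c1714525000205dc11bb1e4000041f848834161000100060591249d11720c301e3c0000822c82381440003011b011c019805d207d81e3800041f14164422223b3000a20892088112032f41284821c14104b9049d2086046000ec010882141c520cb20c70000016801088220000c00041700000004c8310559c8d743770000078d,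
  nat_lit 0x20ba08f2000008ac865c447892144f8c50d800004c20007000013ce13df13e214351e884f3495bc91d843c42e5c1a8898441cc402cc02bc214400047a10391039301c101bf000019e4000405b85454561822607a00000001e001f03910f6805b8232c53e053cc544c82bc79f051008df08cf20ae108421b023a482b41440827082620ac0bfc19b055fc82ac3c5050509f209f3018b157e20ab1e7882ac05100000453257e126510b810b61e74236c898000041c4009b081e000006bc00040e9804201e2000003a3010712a4041c55dc82982be20a50130000008449734591c59245924591c5924591c579087a80dd879c0210088d1577157520a417d827109870828c5f50e51157420a2155c85f422c0828802720b8157320a1156c8284226023ac2258979c97a09790215856ec22b8828479b217b08ad20a0107882d855c0827c39c0003000401550e98157087c4995c58d4578887c0000479a,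
  nat_lit 0x211506cd20d10ba003901adc83407270005015107da227a05fa0df21ea4001005501c001c40002264721d202b0000001320cc069e069d06c720cc1ea0067c0f0c051c832c6b3014c06b020ca069406d81b1083241890104010700fe000019f4000483d41c301c241c587a70000004c04641a601aac83181b8011506aa20c5048884241af883102fa01e0159820c310188464375800002c1000000485424982097f821948a0c8a202300566083047a6227b08cd20c00a6486c41bf400003c90000004c0e848694577c5420565082f87a503a4001120be20bd0660000c237882f026721a108c720bb01e00e8423dc82e8372000008eb08ea00000e04003c82e4000020c8215497a47a4083208c3219e0007077c86e098b002dc02cc216497c400047a3,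
  nat_lit 0xf57242f0d3100020ba420ec34d400043322106051800000f140030000c10e810e48ea448f00010a3f0a3d0ff50c730c7404cc1ecc011c83c8000095b44d204ac47b2256c0e7b0e7a0e9e0577057300021ec48888358800047270c5d0523000006c8001884481d7c1250985035787b00005004c84a81d9400045140008155200001b5000000130000019806fe070921e6133805b805bc0008838422841b7c1d847af210b075800010007003c20e71eb8842c1d5c000021e00010004012b21ed07131eb40000012000101ce01cd06b020dc13b400548378836c35c211d06d720da073004a81b0483641e820e015b220d8116c1be403bc0018001c00047ac0000004c001000040014135000000480000090403b004b83d8213315560004000720d420d31eac00288350834800007aa,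
  nat_lit 0x4c049409301c7c2364842413c011e06d406df21080c2c047c1b901b60841c212011e06db06dc21060764046c1c70235484142900003000400000ae806d009101b3c009800087b8072f220c00010760000010a400001bf000101200020120c0000057c007c0f1011f077d20ff1450056c576083f86d420fd01440840883857b0575883f454e21df15d420fc03cc8954574883ec69e213b06eb20fb0ba000081ba808c87b70175077720fa0d8005e4574c83e46d420f80144082c84d41dd083e06b6220e15cf20f703cc8770573483d869e213806e320f5085006ac848000500030489448907b60000004800083d643d6002ec02e020b05b712b9253c25c504da04d600041ed42dac8fb83a6c8ed88eb4000c7b4,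
  nat_lit 0x2006701b2120c0004019c053013700000062000003c484bc57fc84903ba21230130000099d01e605942679267d0618000100001f0c892c9b709abc03d803bc8a888aa0000484849a881c0c85e07c2023802390000000505540000371849b4053c86041dac1db857f01e809a0c85a4097c7c10a4305b40058212815f8211e1f0084bc57fc57dc84746b6226b15f5211c0d2489b89a88846c0f0217106f9211a08c4065c5670000435e00010724072306b701d61efc000001208f4073a0015001b21171ef8000000ec1bb48458329003a06ed21151c9c88b8000050b125f25f8256411e924760cab0000213e070b070e16011603222d1ef432a8382411180000000c032456281e4458001c341c2884f47bc000200c70115011a08c015490710267c079c2693221f1eec0004031c1e501cf05d5000000c4032f02800314561806780004061499c8024c84a084b07ba0000004c110c0018000406747b9214315db00010c74882c9a2c0000082,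
  nat_lit 0x23e01b221431f3485fc1e50850810f21a8079221410dc800001f24863820f018f018e01782140072805ec1e4084fc1c721a8078e213e056085009b1c84f440601bc26a50002016c942c2bd41368136411c400007cc00010762091c06dc04721f2c0000012076b07470006000e213906d0009884f01c2c84e06800001022e071821370b94017c1c4084d82e8022c0717213506cc00140000374891d83e6091dc64d0a410a43024b025108e208e6267e073e26ce0279000200041f281d0408a0000419a00000226000006fc000c01ac053c2570002006900541f2400040190014c7c800000061014c037484e0582484b431d019826b4212c0a1c84ac05112db257111a42371000200071f1c001484d484d0016c1e181de41ee07c600040064074801aa01ab01a601511f14000c84cc582c025002382dd47c4,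
  nat_lit 0x25940bd5215d1868339c151485701c800020c6c0e2804be0728000001211de11e006f807ea16850808215a1f482f582f60856400f057806a621580c580004000c8ee819a22eb08bd0000084c000c35b820203f100020d6a08050bb8000036602f08304c7d10bce0bd12153099c15781a7c854832c00000da1245a013c369058c0854439c0000020b01740e9808201f3800001b200020178008d215f091e1eb400080004000c24e000000480004000086d01e84853435d21b3079e214c0a6086201e78852c00e0000214b079e21b1016d01ab017b1f40002005e801602fb0004004c000805e410c488fc2ea42eac7cf00010048120c05949b448518000402307ce01a0077207a3079821451180022c1dcc1dc01e58851067e,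
  nat_lit 0xde90e09270c217404408920204885cc221000421742172054489f05a40590458381da4594885c87d70e0f0e1d270821710e348914203885c019225990718216f0c209004001c85c885bc7d6128e0716216e003c4a301c5485b82670001048f04910d701f5400004a0854b043e87d4127f12840712216c0b941c28201885ac32700020e76153410f80638000440c08fe811500000e7014c9016c414496381c3485a06b3223c0801216710000000974c36f416c43da05af05b426f8216609402eac5920859414a07bc1646216615541d7c58f885946360e91162a216404f41c5c9bb8858c4b507e615f7075216371636164121631f4c35949b5857d457dc1ee4590c858862d1442150e26f12161044090b415a4908885801472430080e215f04080024858085781c1,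
  nat_lit 0x2230774218f085819601e7c86381e6008d023b00000f24000c0130001004835ec129009cc0a081db8862c7df0282076e079a076b218a0b9c87341e741e681e6486247de02400241027e21880778872c1e5c861c234027e076a21860568001c584c06d039f0005004c07500000058886dc173438047dd05b626df05c00e63000000021f70000409bc8a908aa0133853247db00000048875c1e441e401d8086001be0051079107a80762217f0c380754001c85fc85f818f01cf078c217d04fc0004012000201dc01c921cb07bb1eb40004071c06fc07645d700000048076086f81d6085e42bc01c3075a2178080486f01e1485dc0262299270f217600943c2c1dd49a189c541dec596085dc7da26be167e07d72710270b165721761f648b809c7059f05b041f34597485d47d8,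
  nat_lit 0x30507be00d500d200021fb403440000000439e0003078d00d300d01fb000081ee40c087eb21f1168f21a60c7409305a30869428721a4014400049bec5c48384833242b607ea00af22cf2743168821a31fa426e85ab45a28868849c2303168821a103cc3b549cf486800f2220607b0219f08b8000807f438100354035006387e8220702b104be22b9273c219e1f9c8b281fec1fe486747e6222107ec07ef219c1b9487c45a2086703ba22b92738219b0198866804c2487023f025b023e01d2219a1f9404248b085b9c9cd486647e4009221b22738168221981f8c3b2459fc865c55622f5167f21961a78059c1fbc865413706e00000000406440ad40c3a0477229216d724ea24e91f88001008f42dbc2dc43b601b847e1000000488b108b0c0a341ef808980284029000007e000001636221502e4038c039c8640077,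
  nat_lit 0xdbb00000f7b17d43de40cd488fc59d81f845a9c86e8000037747f20ddf274f07c616642784276421b91fc455c0219c86e015c0ac8077221b70c2086f85aa086d817b00000ad205ba1a502b181dbc86d400f0fc5086221b608789c20218486d84002287275c21b6101800041104015410d225b16d32772274007b7168f21b617cc3494218486d423a1103076e21b4048087145a8086cc10b0002042e00540ffc56dc5c445c489e3c1fcc59ac86c87f0232e276907fd274616d6168d21b11fbc8a40216c86c03a50f20076821af05f487005a6886b817b25b2076621ae01d03c703c741d9486bc1ff228f085621ae06908a545a1886b839c011201fd04ac000c21b121af1d84035888481f1086b86ef00d521d1079321ad108488401efc86b02ff0004000100d4056497e446083ad43acc0bfc000c7ee,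
  nat_lit 0x161127a3170a16940843168421d41fe858302218874c23a1349088221d2186898e431cc87441c6087c16c221d0066487e05b08873c10b0001004800042c6c2c684e6876500000b1a23fd0f6005a48ff431b487301cd00010048319c17c017b454c839c021e4872c7f924930d7c05da16bb21ca1fe0404c21e887241b222b9277721c910180018941c2b3047404a7279a16a605cb131b0984087721c900021fdc4fb033ac33b0509498b0319487207f601ed08a616b9277321c71fd413681bec5c045adc871869104e7167021c517d4055459c08710554089a05fb21c311cc225c17d48708219073416b121c104e83c345ab0870040d00020d370012043489909d6c2020599859909d3886fc7f421c61680167d167c07e616ac21be1fcc575421b486f410c21c416af21bc042c000c1100004c10d,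
  nat_lit 0xf250001000a06320756075420143de80000002418c853b44ec48040008062e11ce0e9b132f2588200c00089cb418c010d22a4173016e616a0085f278f21ec200887d89e1021f05b705b789e7c87ac80115d0089d21ea05704d141eec87a41670f8e089a21e8074848242260879c249000b21e821e604bc18985b6c879417b00020ee314bb1150000023101e308000e2a0f79089221e30dfc0004878c878814e0ea4089021e106a000100d381b101db0001004800043a7c3a7439f4255c1ef89b587ff00000f9915aa0c510c4f1ff83e6056a0223487742b2034b25cf088b21dc1ff452381eac876c06e26df088821da0a288afc9e2c876402512be0b7f0000017c00044e5890342cf03ab03aa498687fc05b815bf148d148c07a621d718884e4c512c385417701e9487587fb00020e8c009f0434000458343a1015d,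
  nat_lit 0x4800043218917c2fe433081d400000c850c81203032243a90599c5e40a01023a0881080b01e0043127be2203021000c088345bdc8808361151307db220101c032a85bd8880055b237f16f522000e700008129002dc47c22b016bc081e16c416c227a521ff202888245ae89e745acc22585bd887f86ae230408b021fd04083e601f4887f01c6222616f221fb0b740008128802d447c2225170d27fb170a0804279f21fa17ec9cdc9fac21f05b105cec9ec887e480922ff08aa21f80e94001c87e887dc1dc0f9207cb21f604bc88805bac87d42130000138624330b6a08703e301f2087d0074251e07c721f4053800084d389d743e908080001264a04a40f0400004d2c12d816a134a0f8807c321f1201c8be0227c87c03c522cb27a521f01018084000003cb04cb83a6c43b8806,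
  nat_lit 0x2321171822230e700008582c3b883d3154e281e088216f916fb16fe2222205040885e785d585d5021785bcc8884813276809072220040854c81ff0887c118112207fa221e08c000688880887412008d81714221c0714001057dc00f03ff000315f50900064c23cc5d605db45b5422145bd4886878b066516d90837170f1722171122191b5853a89824481c43d01864886081215f308fd221708f0000c885c88581dc25b607f022150514887c5c2c885011c0e8727cf2213064000043f4018f0811000000483f389d4023345c1c884426d0c91000c22112210201c2cb023d0883c3c5000c004819b05a6c5a609e7c29b85a2c0020810260016930a74278d167e278f0007203c2a44000c2d30596000215e491a0000480e0c1700000b4849f4001000089e2c2a3480d,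
  nat_lit 0x2249173522370b7489645ccc88d810b0003050c00a00ffc000813e0013847c0ff5178017961723093f27f722341ab43ad09fe825c85ca85f109fec88cc69a2352092322320e9490f024d088c40ff2253172c223005ec89045cb088bc21324410931222f116c910424c088bc242105f091d222f06c847d4247088bc1a423b627f2222f1018001c0058957839fc18f41e9060200030ff20013043400083be8043047c22fc17150931171327e827ed222d205c8ffc252888b026f0fef0919222b088433c83a9888a81122267172322290b7488b49fa888a0217000313380c9d0c9c205800084cd8527c0ac00000fa30638259e15291154205451e019d0194000088898889479d0ea40e9f2224003c8ff82500888c45b23a5090f222308788e942438888c400,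
  nat_lit 0x222530934038601f401f6207c198c3cdc4dec599043ec1b901b9834580f8821a8894881e0dfb159412fd061923ce0fac007f008722ed086c22512074968040b897bc0024003c894081c00de00dd000006fc00040d1003785bd0000034000dd015c0dfc24b4893481b22ef1739224c0a1c892c05100050000000401640f100d20000817900042285037a239a08b908ba09122068000c04043d88020c021c407c8190002010502d7095c000403f0054c057000000ff036e0c508a00248c89102c822e6172f22430d78890804c017222eb282c172d22421b7c0a600a84247c89043952373172c224003cc8f44a00888fc0f022730883223e08b800149610028c10d000404fe005111f095fc111c8c505cb02520a00088f08182243172f0989172c172a27ff223b205c95fca0005cb45cbc24fc5ccc88e85b82444093d223909bc3ffc24a888e023a,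
  nat_lit 0x40048000801300000fe602d122ee079b079d079f20a00be804d804c889b418e232a091f08ec226c1a548afc244023b089ac17101f802e2226a016804ac23a489a41c702f808e722681d348c545d58899c39c0ed8000009670a1b18241835183a1835289c1849184f1849249c0ac60ac9284a05a0209c000800003b7095bc34d14ff14fb0d4900020f9c000c029402a00fc8522000212b60eca209800043a98941c11e000015ab0f5c0af8395c39604b98135c237c8980825152a15c027cf02e2030c225f20903038059c05a80004897c898c8230164016700000c5000000b780c2822400e6229308a3225c0c3c03948bd821dc896c807229108a3225a0bfc58905a6037e037ec380494e0000082224c20c4f0fd90c72000300072084445833c000001810004118c276115ce2766144924f00088000c988c541c9ca08200002118b0c730f080004981097c828a,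
  nat_lit 0xaba22ea00020700117c078c00041af000303180c6e0c710c94077b20b800080c7007685bd0001032e044f0b1000000c900c880550316096f2286206c8a140510005036508c3232b03dd0347012820b400108f888f7c0f6022ec0d440d2c41c0003034c012616f4000817b00d24137000105e90348015400000d0c048c0f103490967227f07e80d3c5db089f8066227d013049100840085006c406ac89f482c01b5232d176d176b227c20ac90545dac89ec0f323b52843227a03c08d00241c89e413822b80907227808c400100f605bcc52901d6417c082a0002004c0000012031b08f608f508f722750c708c1c2470246823d089d082902ef02ee02ec2273066c07d007e00ca889c86c0031708f222710c688c0c23c089c01f6,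
  nat_lit 0x200480000241095d495d895e0382c8370901037e063e020001fc000d22a722a620d80e6c2500252824888a94385241c0aed093f091f22a420d406dc003c8a908a8c2f2241a091e22a20c680e5c24708a8420c01c2098722a01000004c0008002c3a5001300010009040800380000001449700010cb5251527451183000b1dd0001c000032d032dc0a940a708340f6202a202a40e8e038a000120cc00000120001014c01ec038a01e80000012014d23f80913229720c80e081aac8a582030385090f229508049030243c8a50202229617852293156c45dc0000000804dc8b5404ec83100050332263b14b227391177198806600f7c1efc1a945e088a4483023ff0acf092422900e9c8d582b3824948a3c1ff22d0094c0920228e0c308b3c24808a3431a2353091e228c07d8963442881df80008001c8a3082f,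
  nat_lit 0x106dd17391656155b25fe1e740000016c0168074096c094309ad044b01e001e122c220f4000000040e9824808b043822351091d22c00ca00e9024748afc1b3236a09a622be0f1421dc3dc861a491980f2800087cc01d50378037a00000ae0000801701fec0d948e088e140d7083c00010056035b01540000015c263c243005701801507000e22bb22b920ec23d424381128112c8ae072903c8234b08b722b71a001100909024988ad88072423092322b50ca001e8248c8ad0727000123170ae9000020e8001090589054103823c42b74263083900030175016d09600008187819187c90001016d016b01340000186819104052411098d22ae0b200e705e7c8ab406622ac0130378020040fb4903826288ab083823d3179e22ab03cc8e94a1e08aa80f02419091522a904e00010013,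
  nat_lit 0x302b5022a0228048822e0211c00048bd4a2cc5f5c8b98846177d0b7a2885288b1792106417fa17de17dd048b00860081000d000e17d0106522df211402c008885ea8a2688b787a023b109b4106322dd1a6013008eac12e0001800084dd03c917ca000a00010c140000013249b187d038309a609820002211000141bd4257090f4107409f40864843000403cb22da00170984243d03632108000c2034928ca40c92440bd4841000206f0036316f400040f240f147c900000809000003c410a426c08b4c20f239e17c222d20d788b4404c242c1864179c288b105517c022d121003ba0064406480090007c8b407e504b223a1183617be22cf1b204804a2748b380df23e417bd22cd1a788e2025248b3021423340b0222cb08c4002401222d10001142c010c000028324af24b3046c237628900004000103ac17bf22cf20fc000001303ac0236016200001920000825bc90a010808de00eac08d4057883e,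
  nat_lit 0x4800283b8822809468639c946c8bec8542869071b03f503f10a7c22fa214c4a8c9e68390422588be485200ab26350a7a22f808ec990c22588bdc13a0001080e07a50b0c24645e58131c8bd8851080d04c722f50d880bfc0bc88bd01a304cc04c222f305148ed88ef08bc818325f104c522f105ec57483af8000405b0002034e0351251818c124f6214000040120798189f190e18ab09d70dc622ee213c001800240c7440048bb431007dd0674255422ec087c0008967c4e14592446fc0b9084e000010670dcd04b898c855643ad800081550dc7073025e8000121341b203b70000023c000027780e310ee71e2852c812388b9c00188bb85f7c274ca2cc24b024fc0f048b9884c0dc90dc625b902b302b822e5212c0c3807dc07d82c540efc8b9084a0002099628ce0196019503b503b204c917d828b7180a231d0156243e28d80b782897212400042b70910422000002513022707882b602d7c5dcc25ac5f70275860648cbc065812248b84848,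
  nat_lit 0x20000000105e4038c038800001c60003068800e416f4000810100a403f10001045300e2015c000010180a38405046109f4231214501020601c8c446d423100144000019dc9238a408282c60602614258c10100fbc5cd000288570047231918061804230f1b2021cc427427bc8c38856241e28e4230d0d24912860088c3069e2381095b230b08508c9c254c8c2823100050dfe06781cf8000405106b50ced172b000100041e8055b05cb400001ba00000e01159c15811580164119e002e402f01bfc8c1442b0dfc249d23040cfc00001bf08c0c2bf000000480000000c1fd433bc36a4425000a0ef609202301065420801c58000006e000007ed07170d901fc433a45c6800048552613171400000ec0000400301ed84b9812d,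
  nat_lit 0x6ac06ad0004233221888cc4013000006c101e423891871292f09690110010c2184144c903028000fc8106400008600001239f09f0040f217c00000968260c12501ea02520001232d013800048e98265c266013581b9065300000048001400188d2404248cac85e000123d609ed239802470255024e21740000117c0f20057045f03cc0024001c232d2329217003a88d1425a08ca068000e9237b095c2327201c8e7825e88c982e82342097223251c9c0fa02878000081b000123d728fb06e82b1c9424005c8c988c8c00086fe03c8040303fd03f9181a2322216c12e01344262025d08c8413c2320096c095f232008488f5c2614254c8c7c1ff04bf09570971231e12f012f025a48c7431a0446096f231c06244c5c598400003380000247e14e20d800bdc09b48e2ca4440fd41ad8120460448c6885a07c225f70012000a231b231921641d0419fc19f811a027ec8c60858,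
  nat_lit 0x2aa033505460208234d024001ec8d7c08288d30248000318462486037c0008611092840a0000006f916f415f70eb9263221b002e0001400188d2425909e623f823480c240cb890b86134a49c8d2086b029d10e40a362347103091c461048d180f3128c183f234502808d7027248d1021423f20b9a234308c40014084c0844086840a00030001000402ae00be035a21a8000001300010272009e009b23600225000321a4000009c828ec900413d8a33c86800f200f103f300030007000c233e219c219825f82600289c8d0800608cf4866022523ed23ec233c1bbc09840f5810448cec8070002001901012393045f21940004005c004416400000048004c078c0ae0003c8ce036c00062339233704d8024813ac25cca46428c48fdc13b0a2f80000864000106ba041709fa087027b3218c00001ae8001810a0413041806b90005233400700bb40bb8098800188ccc48f,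
  nat_lit 0x25e80d1825eb269b0f170d510d57236821eca0708df40010001c353435588d9c87a0afa2596091d25f7236621e48d94013000001300000023056e03ff0089082000000b180000013000500060792159c1171236121e03de04ae425c445d045c08d808770002032c23eb0bcf0bab09e604d521d8000496981b3c1b3400048750000004813dc13e02df8a4e02ae02acc2a9413e08d74874004f23690a4c10fa04fc235c21cc969013e88d6c2980004184c24b4037c000c6130925c0f209150b2b02b62359044002280acc0ae88d6087200a300a202b9235721c426a88f4c8d581e7032902b4235504301ba41ba803fc041026b026d0626862706300901c00008d54870000006c30a50240621581af432342d782864a54462806308939013980b748d4c86f23d2295618ae23d5235203d40014013801488d441170081236402dd23500cd400206118292c12240a3c0a480c180c1050c0223c626c28b0292417ac08348d4086e106401b901b5290b17fa0083008423780a56189223ad234f21b45fcc5fc00ae408208d385a5,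
  nat_lit 0xd8f104700020f4c99303940000413a14e0105f000012d4000021181630884083a06f000a200092381220c209460e4001c8e00374287d13402380237f05d88e04005400048df861c13280002237d0074001002703df402f000209a623d8050400000130006237b0504048804870b1223900096237a2208268820ac9e108de48810091009423780aa0000401311e62732000107103d043988000019900010642299d0e61007c000017dc4c808800006000e23730dcc000097c4a0a047c0d15087d0007057057401c38001816707d4000113ae13ad0a6923ba01db293121fc8e8425ec0000078157700050001045418dc06a006ac1f30000487e07d007cc00000dcc00084fbc4e7c5c20a5c01f2487d0001157c087621f0000055f05cbc228,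
  nat_lit 0x40725294c182e0944000c947864c893c03e70000004c92c0a718947000040000829000227bd292617c2239c0f441c845f008e6c11a239a004c4e283ed43ed82da86454a79c6408640c6410622461e4a5e461b4000c00084c2c8e688861389130b239906e84ad49e1c0000001838d0007186a0839017c001805100032559193d24d8201c0ac006a006a406dc58a89e088e54885000807e212e312e9278123941ce807f436c04bf88e4c61d0800130423920b101fcc4c008e4404d0a8b277d23900024000445a89de414200061162114b238f055045b045208e38309112f26f4238d05f44bb045148e3016100000048443ca1f4a0989e348e2c3d5111b000a000d238a06789be44cd88e2431a000427ea17461662217c0004001899285f513d426160000002400003630357c4a3,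
  nat_lit 0x102bd17761650000090cc90ec19402ba0ecb0ec809ce0005000723ba22408f0800f85498549c9fac8ee44e900010048000427b00fc81c0000009ed28900498004800443fb0410c17349c088ed888f00de004523bd003b23b50350171c99f88ed009f0000087f23b30414242c00043b3061e43170a634440c0f840f8888e08fc000027b003c80024003024180df000308f40f9c05c326fb0035003622344a809dec99080000675000008b90d88223022e839c047e09f984c505f8c000488b2598180600000ca000108eb0421c3cf49a9c5980877059e05990fdf000400032228000c00080018078c07b80d801f001ed0f07000300012224000000109c4445183c385e00006000806a20f2c0f2f289523a622203f68504c5278a2508e9488728ef0c4a23a41a786234588c8e8c2c4000114640f8e0fb4054c0000518851f436427f027ef23a107b8001825bc8e8013b,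
  nat_lit 0x1359163528b200011c94000845844590458c0154899000113de286d15350a5000000122802180f17fc00012459245d226007e408240820000007c007a489702f7000007c607c5296a17fa18f4a018a02056e8a4dc570c9c003f1011d811dc0000438489608f1017900050006047805a5225428d811e400081c001780359000107c005e005d40000112000302ce049b095c00080b300d407c9000102c601771f2000000b20171031402c50add23ca0c7413a063408f2428723c801445680a4385ca0a4940008000c894000601870a3104ad04a504ca047d224c0014061c0df0916c306c12e00a6c892000401800430042f15d110f12244000c061811e82570002018602981f24000405f80a5c0570000017e04770c508fd02b488f003ba018018c523bf02b08ef804c23be000302c10848085b10f000080afc1e345df,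
  nat_lit 0x24a329e100011450000c228c4b78a06447d0002004c52248fd00008278c12d412c08a00df71309140f0fe1106d23f32140227450f0584458548fc81da09e515c828bf23f107bc2788584c8fc0189000a161423ef04ec0020a4204cc44e2889f0005004c0000002c063896381ee0009c89e000e02c012e201d601d023ec22742290462c5b50a3e08fac017284b1785184116b323ea0058927065945ac08fa40b80de3189c16af23e80d14a4645b4ca3d08f9c18616d128f323e600508f940130001017505072270124013fc1468140863b08f9089b24db0ad80ac523e32268904c2a982ac88f8819724540aa50aa923e1076496002b402abc8f80676257f0ac123df0c6891442ab48f781f6116113810000083c0000012138114670998000604a80014012,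
  nat_lit 0x796268a1a4f268a0d660cbe18d20cc0241322a413d0905400703398001c002890488a8292104bb04cb059d0aae2411229c104030b499b431c89040456040f0cee240f04449038013000124ed0aaa064c461c4194418859bc0ef490348a603cd03cf240c040833740fcc902c2ba240a03f1240a07600fbc0fb490241f00ce6040024080b740000000400105a7c0414040c8a50000000f000e000022900020158ca7b03198308890188a303fc0c2024050a5c901001200020000249f19700369164522880f14900c00002c60000004c002033486404638467ac97f47950001055a0c1901a80000101810246bb03ee03f229f0190623fe22841df41e08642064188ff48520b3e29ef23fc17d4264c64148fec08f11ab0ae523fa04f82ae02acc8fe417f0ab70ab623f8013846a02b988fdc40d,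
  nat_lit 0x9004c38cc26101ec01eb8335466c49380000c00248b4288c0fd30ef1279917e8000022cc001012980670066811c83d0c8b2000304a017b817b7109822c40008127411ac8b00001049d096522bc94bca730000400f04990e3700000c58000ca744a340148c14b414bc8ae000215a92866013422b4000461f020607eb0000004ca734470800340030908c8ac0801127c25e62422066c00100028908420c026705f0242006900a9c000c00001dac9e508ab25a119e2260f095c0e3300011eac00040a749e3047c0000029d29fe0b5c0a745e98583446744664511800088aa130616c92927291d0001069849d85b945abc000020000031037119f278e0f90000840d44d0c07400010e06083c0858000040d44eb41e6103314ae05bb25000a7a2415209000000510000000100da0e9800141004904c05c,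
  nat_lit 0x244a004c91282fb0661c661466102efc66242e902ea02fb091288c024f619582449156c00000122657265509d72448098093d06554911c39c000000480000a318246045a48bf0ea30ea7082708260974000022f8000499bc2ed044484450a85025cc8bd00000a34112f281a18ac06ec0700085826d4994064e83230139c91088bc095226280944094204e9244122ec9b58000000088ba0004000805ec0134000c910061b42460001122226ca06f20bd400005b7040f00ae294428ed094b243c0ddc002c252490ec36204970494243a058461a4252490e41902639263d000124391861160222e40000012000424ee19bb05e022e0001400005adc40316b8047f000009080000221467f80ee4022802248b70142000d001302860f140f19243322d8114c3e749cd83c5c3c6090c88b5106513ac0a5d16b9185924310fec9878a71090c02e8,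
  nat_lit 0x5c927e018c628a40f42231894f865e0919064925f4197524630a1c918805100030d312a4c0cb40cb00cfc0d5a0d0d2a57231400001714112c4fd253a197324600b0497c065c0917c35e245e013024b433c424b045082088982468c8aa686624071c071814e0144c1478677065c091788c4013c25101970196c245d112405f897cc68ac65b0917042924e219cd196d245b1a602500a96491685581223196a2459155c0fa434dc916022b0004250d250e01d800000120001000500092458175c000001200040c840b3e0b710b0315120410000d2454230c11b49158914c07700020bc419e7199619940bf30d760d770d7a0cf0250823080000012000300060441245102c031fc10f0914037300010048000494006510976c1df000024ff0d1625da0af093f83458000012b000005642a4401a89770674893f8119416d864ec9130912c8c1,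
  nat_lit 0xcb70d2b2a6f0d632550247e2348167814c091f437b05bf0533247c120091ec01204190000000a09f9098a0f662344001c9c8438e427142724179c8d000000144976c975c000000925de0f8b00001a310bc025d61c389690000050b0ffa00020001000a0a020a010c9f07a825f20bbf2a96119712fb18c22a221a2a25a3233c0000002414b835a000424750a030a010cb926ed063724732338a54053445e5838bc18c091c88cd052c052c052d0a0b06372471233027b8355018e891c0381000000480010126000081c5000209f90d870d840d780d720d700d920d8c09f90002232c000427e800948800000268426860c1027e891b0000091ac29025280d37246b08080008012252419620d070d020d0f2a6d246a23289a0865e834d091a48c925fd0d35196424680980949034c8919c12204db10771078000007f00000077092c408cc51e09f908c801db0b97097d097b24662465231c0008007091ac0088356,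
  nat_lit 0x19822a900cf80ccf249a23801294128c33cc3338926449a09b92acc2ac70b34249810e8364066989c34925c8df061019b60ccc24960cd00024334c333492548de0d3400b200af249419201524151c000c0b204b60a1304b604b800012374000028400000000412d48dc00010db90e0c0dbb0da00c121a330c1e0c1f271a04b904b6236c000036ac30243020676c30a89c6037b037b436c812e012cc8da0d8f0c2919dc0bfd0bfe0bf919dc0c26248f2364000065e8666066a034ec34f892388d80a220a1f0cca0ccd1967248d235c9c14357c3580356492305ea06010a270d57248b0c2c33743574657c92281950a1d0d552489069412cc335092201890002004404b200402358923030406754674c67442fc8674c305c30683074921c8d526a4199c2486009c01043340921428a24890d4f24840808000001326a1199b0d4d24831a549a80665c920841e24860d4b24810488149c6560920005f0001047825370d1b1984124e03802350003c27f8170817006638331c14c491fc8d3,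
  nat_lit 0x24ea068824b60730954415d415cc996c9968177892d802b170629a915de29440a5b24b523a828e815c815c092d019605fb19b924b3099c9b34673092c836624b9068224b106a000009adc3be49dd853ac467c82a26b60ef8089208930641000223a49b1c9b20000028500010869063f08800000219818f840d063c127c24ac0e1c92ac04c0001194a2a7818c1137123a000000130855085618f4192d2a6d066219e11a0c19f00b852a96000f0015083e0362035e24a9239c9d084cac38a892a03740360036424a70458003000680064142000b0cfe0d00091807702248485c48ec201c027000008e6000013ba009c1b500aa0338026f40028001c66289c7017b017ac5be49a708e524ac00010b4092a8000050d0a27199d2aa2198d000500020c4f0c5319bc24aa239000049cd89cd4369c36ac36c436c89ca413208e30000273527340e0f0dc10a2f238831283120313c67ac315067ac30e0367836b49c64334892748e119a20d72061404a8049f249c0c0035b435f46610660c3348926c690,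
  nat_lit 0x1ad01ac0bd22689027724d223cc93483640379036506700ab3866d035d867b036a893488f2259d0d290d2b0db00653065024d123c49be067c096681404194867b493408f024e80650064e24cf0eec965c36b893382fa24d22adc24cd10181e64aa300004072000204e3049e059c000427a03bec5c5000009e613ef0d00279c4d209324194133f134024c808640014002c931c0e9000711ae07c5018c018e10f809c723bc00184c74534002f0a980a94000012d40004642c24042408236160b296102ca000124c30b271036103523b83ee80b200000312000024c20a6917e117a902c823b40028066026ac2310232493008ec131816a7133c24bf0c143fd43ff092f811109ea133b24bd09ac92f001304a8129200021660931cab1000040660001085e085d0d5b000123ac000001227330cfb265d05e124b800689b48674892dc075,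
  nat_lit 0x119f00020006071000000120001000317a10fff23fc00083ca43c9006e000100ea00e20c100004000005d48fe0f1f2abc0002000909df17b729a124ea23f4344832ec93a429724e8004865d462584c9c00000ea00010f470f4c1330132923f0000042ac489038b10ab12b20eac0eaf1406001224e523ec214c5edca800002c93908fa086c132d0534000824e323e423900038938821409d6000224e1013466d4002093802432891000c24df08b00030012093026bf091d000a000023e029645d9c14b00004648000229f716011602071d03400004941c0580059014e08f7000010c6014506e8420c42105f0862f866a4000087d000413f4128216871668195719ac23d895e0000050b01540000000202e625370c18257723d40004a338523405446820000091308d820300b803464349c67849350001800b009e0934c8f4,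
  nat_lit 0x17ed09e2250a066824f4278c942411f014401422508085c00144220421442181242510138d000212d40000013000111b416ff173a0b26241c0000060405f020f11af155f09da25030a802db02770940823425df2b1725010cb011a417802e68190818b4001490610540f3300040c2403f403ec000c16718910f320002051466bca194000005f0002261726110717068400041c743cb010e00000048152007e811c41068274493e4905025009d124f804fc000097a46a88acf096e886b25e81aa31ae926c1050826a22b631af012b9141909cb24f8241004685fe0506c505c272893dc90325cf09df0f23012b012c24f6240809a027604aec4a8c272093d490126c326bf03f403f209c724f424009b784c7893d0298000b115a24f30c48000001210cb017a00060d1a05d821543c90985c00102de,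
  nat_lit 0xd3000100070860159c0000001031625261a4c26d400f80003000200b32430000401326d20df31b681b6d2bba1b551b541b841b860df52524242c02c02ae42920ae741898314c4c08ace0948c90a00f70e0525220a4c03c435fc948420326ce0e07252004ac00200120985000006ed0d241688167c5e105cb000000cf0983000011b517d446d05e6ca8385cec6880acc01494001c000c157c35d06b1035f835f032b4adc054cc909000000550053091894f4689c685c381437e868fc94688f025ec0e030e002519068097b8384037f4946090825ea0e011a2e25170980948037e0945830226c30dfb25150be81470aca0945039c0006055f0d380888000c582025100bb00030001149b056a05750192155816e05f14acb8386c68c0ac8868d894446d72add1a411a3c1a3d0df52b2625101b7058142c60ac8c943c1530f24115409e9250e08fc978cac90943421809ec2b0f250c088400449434942c230,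
  nat_lit 0x2068f132b1a5c017e016e2575245000041aa0154c623000006a4055212a41a944ca495042c6255d2b5b2540020894fc0510004001600120b1c1800180868ac00004ba000000051a2901c800280050005c04440058039c94f091300ca00eb010b010d0011253b24480064033094e837b253900480000382039a43974397839f439749f343960382000009110e2a010f00010a440024956c000016100000017010b07c80048041804100010001494d4910000a255625340f4c000803f094cc1ab000800fc25321034000c9558691498181df0002000400df0d889544954c0038001495501af094c090f260306bd252f009c95481aec94b8201000400000002000724380414953403d00008002402e490d00d90001000b08a40408000c00003c5000926d81a3a2600077c156400000340228,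
  nat_lit 0x26ca0cc7134a255f08ec2c746a2c957854925bf1a89255d18d8608c61706178ab900010000891e00000555018e13f41900301499dc1ca40048000491d018e019500000dec0000ab80ace06514a5bc004091c17d104f31afa1b021a9225832582003d2558246c1654166439446920390c0090009c955c91a2b73255e255601f80008161c09e005400b12556000801772555005c98b86bf8161895504dc2553004c0d3015ec00003870000004815dc9f7c0038004c954401a0171057c0e05255007a4958c69a8953c075010f1a6e254e003c05a8241495341e6000009570955064c9d486d646d846d7868cc5ff80004919149200000003019402c925a924600008065043f443f021500010197186c07981a909520000006485958a92c917018f019708f706a006a3254724581d006b5898e00014001c951891501700177000105380380364c000015b,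
  nat_lit 0x1431a9c257501d49ec06a5895d000f00030001275d1b7d0c7915ff228800001cec4da015d097309722991003325720002248c43204f244f30a64000c895c4922013d01410ab20ab12570053c95bc06dc06d095bc92127aa1a8f256e099c069406c895b414d0f9611a00b89256d092805fc060c6a6c95b038d021116740b87256b05309cc84d7495a83a527b00b862569185847b060d06a5c95ac08401b12b8e256a00940000a81c6960424c19e29fe095d095f25690520a7f02e0095a01840a4c2b8a2567017c2a3095ec000c000012d262126240000099c000825682564adcc41b012f49202728135225650f2402306a3495900b9256301449c984d3c958c59828301a8a25620198958404c26f11ae10bd21a602b6f2b802561247c2370327869d4adfc95807f5,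
  nat_lit 0x87006a25a5000c259124bc01a4021805d8001096404b005e7000c258f0a5c05c000309638174258d00480018003c175003f843f0000016b016905e405b125c324b801cc04b401f401f005d0000892d005d006d007800011ad8002005c4000024300000165016b014825b6007624b005a41760a0e03c0c3b383b20a0e43b483b542d28961c92b000b258a2bb10dfa012201230725258624a896d02d28961429325850b4a2584009c9f2c9f28960c12b016405d7258207b0049001a000042c60069006c0000206c0004013259326911af81af61af40d3a2bc60d440d480d4b257f24a417101ba8aea82d082d183928392495f8928013d013e0b38257d0ac896d03a7495f0202000a1ab1257b00949cf8397ca080043004082cd495ec92726651a9e0df305cb05c81ab0257a249899846a7c3a6495e48c925b00e98257804880e100e08000040d00002946060926660621028f24942e241810331c96dc06fc95d8924,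
  nat_lit 0x25ab01445fa45f505ef05d405d38a5744a3029606410000496ac939007c25ab25aa0168a5841a141a1839d0020496a893825a9007d007c25a92484005c25c800000b90000035b09750e980d64178c17802bcc96bc00f8969c02b01d725eb05e105e025a60ce801d8381c39c0969420625ac1ad225a4099c1c506b5c968c3660073284425a20dc800001e5c97f405903d114e310fb05900591000024dc00101b74aa28ae2ca6dc42c8936000306e606e9188c00080eb401741e2000106de06e713f400000e90016c4a906d91397259b1660967c6b50966835e259901306a703aa86d604de82dd42ddc6e006da86c280f6c0f6814980d400d546bdc4e50966493503990b662bca2bc325981fd40c9c9820af0c6b40965c4e726090ce51391259624d033886ae8965455400000d362bde1b121b610d2a1b090d340d350d36000024cc2d702d686b043a38af1496e8001c965093205eb0171000c0011000c259324c401d001f4060405c8002c9648930,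
  nat_lit 0x2a9207ce0753075205ef05e900000001000025c817422528a0586ffc700870086ff8a0481a2808b4985cac905d00971c94906ec06dc06db1b29262d02e527d014f925c62520002000401a4c489ca4f40740072853dc971494728130ecd280d0779173d25c42518970c58f458fca5f84df0970c94503ee06ce1a74133909f60001251000000130b650001000205be09f5250c0000012000005be0b4a033d033f08100b6525089ab09aa817b026480c6800009410003062b03f30e2c0e372bf82bf713bc1b20031b03160318250018a80008000019dc2a6c93f0678188c1388138a175a12672be725bb24f8aebc6994addc61ac4930625096e893d0342034413a41251189325b924f0a6800794078896e0019010a026825b707300768076c96d801826b91af425b5116c00042d98000463c000027fa280004f81a5c1a64358c6e189b3817bc17c40630064097c0064c0c4c2e1cafb06bc096cc93b000600b10c1422bc00009bb89ba435c2623000000010710000000041ff80cb893a000118a002ff062c00005f8c2d282d711182bd425ad191819f06ba496b031d,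
  nat_lit 0xa262a37138c138d1b1125e22554589848e4000c12006750e0b0002085c001046ac2f6c2f680b800b902c0c954000311ad1a041896254c000846aca548257000111a911ae04dc0000469c19c82c311380478047d2b572b300d3525db2548ac94131c133c97681df00000a8f11ec0a6f0fa929142544315c4f6c976c64918cb0d3125da145098006c1c976428725d8014400009c7c9c6c15b06f30cb103b125d706540ec80ec400000c6002a0565000005130514254026fc0ec0000413a02b8051203ae0000040201f0000400300ebc3af00000144003017c8138894f082d0ce40ce526940001253800000130006281d1c061c091c091c052819069102340231023c03c225340014001800142e283cd094c00040b8a0f330f300f33252c000c2e28000c6bb0000004c9c24319c3190a15834e800007ae,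
  nat_lit 0x6022c0229035d28421339133725700014afe44fc00e6099f81d6c7c40004010a0c6a1bcc000c4af4ad342c4000217cc17b401340004089808a80dd00001aa219470604afcc6cb097dc3ba25fc1b2925f60d7897d404c00020aa4196419652b7d1993256c0440987c6ca497d016b0ad7000625f425f311205fb4354097c81e70d5213f825f10430005897d097c0120109900010ad20af902d4265502dd2568410c2bd84c902c28424800002b489590000000412380863109103e4001c30901eb0694292914a50005000418dd169202e52560000812b055dca370408c29f49570000125802b202ec49642bb86c7497a4956269813ee25e8064863743510979c30904db04de25e60644002497a0979417d02b302ae25e4084c63c8395c35289a70136c979092416840d3f25e30c580000013,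
  nat_lit 0x1e00281b4f261712e830d8a31c36e098581ed18651b4a26150aa0289800180024985400005850a68c2fe41f9096216171b482614017c9b18509098543c928fa1b4926140a1c984c051059f0c780003000011fca010a01c00002990001138c1a3019ac2bab2c0818cc0a1e25849b0450789840598138c1b43260f02b0983804c000027942c741baf283a2118239c35b86d086d00983485227c70d6c1419260c24d09a406cfc982c5550bec2c45260a155063ac1ba00008229026c026b000000031546080606d725800008495c4750619819e095f00012adf0801096000005078480005715431b3b26050d8098286ce098102872603014449fc0028003001d14881a3a13590ab5032d01ed01ef26d21bbc0d790413040f040e04120004000b2578664c0018000005810802b9b18a418a619c429a80001257452084d4ca6a84cd80000829,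
  nat_lit 0x2f0269e00010b04ae6cae30000005b000000484c0861886274621498b44600b1d085e085d262c0a80334c335caf9498ac1fc2a092adf262a0d984c14ab4c98a411e04682be226280568a0406d94989c24212ec1b612627009400000d800d7c02b4967016926620b35158314231c5a1445099e002326301b602626259820c8a2e872003724a8ac30a4a26471e4394c64fc5b84989496506741a411028102e16e026242590a02461c0aec0664c5b7c988c5e3271c271a061206d216de2622258c5e7419c819dcb1a8b1c4b19898886d00b102b241b5d26210490a6f000109884988014726d51435261f04080b2c1688987821d28cc0dc3261d0720001c98809870120000003af03ae02cf02d0139c2ef04f546d58986c95626d0142f261a0e94a32036f8986420a296311c40c3b00000c6c0004000c30e833d06960c5800000c200000ae5847c4476c355,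
  nat_lit 0x13352c0a1b8b264b04902a8030004c3c992887217e417e5130e264921c44cf451a8992010c168d130d26470ad45f244c38991861a12ff193a264507c0a6dc497099102b900010a0b0bef0add097c25b400000120a0a18012b3f130b264210b054b033d833e499041d512fb193426400a644250aac46df89900367265d2c87263f00945f20001cb06c3c717cf0000168b0c243244000425c859812fe263d00030e9425cc001c00083620001000006d306c825b0323863dc00082990c8c1a7c000107980000000c25a422400010b1f1a6617ab2a8415c10c6c0c6a25ac041099986e34b1f098d896a003326421b721b71263510a49f7c3680514898d096906091b6d26331524994c6db498c8557000a046b16ea22bc0004af34670064e464e064f0620c6874968,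
  nat_lit 0x3f9040026fd08ce266606a41be82334999411e086818572664053499ecb2c4998c32c0001004800049b48ae802f9000002de0b7f08680b70614899803321b95266000000b4e04ce04cb039f26e72cc60dd6064906470626061f0b130ea425cc63d441f0a57450044fe4b2ac997c8ca0550184f265e0be8000401214cf0baa000107186300a7d000001c500022a1c0b9c095c00044f904324137000013df07001f20a880b28c9960514265701440000a8504ea4574844009720482013a013d02aa02a8000025c4000429d84e6057403984a4280df00dfcb2cc37509d5c0e109700000285c1c872cd70c9625bc29d02df06e1c6e24994c6e414591b9b2c9c265218740818b26899445560ee91b8e26501a78a57060f8993c2140a6b0a66264e050805e804300434000c000896e000200010039003a0ac8033400004ce8499c0b2,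
  nat_lit 0x23f1bc526820280abec48589a041380294019d0000069000080468047809c809b43fd0001012a012b0192018a25b40000012026d026e0c6a267d0a6ca3cc6efc99f007001851bbb267b080c9aa83f2899e802602db1bb826790094000409b407dc2ee26bd0f8d1d1e0f8d2cd12cd01bdd0f492cc41bb7267825e09b543df03de831b431ac6ee899dc97726c51bd50fc526762420a3b06edc99d405a26a40fc3267407080b4c6ec499cc05f000507920152015128e028e12458ae38b164b16865206510a82400049760000004c00040d080d1c4b480520000004c0cdc51e0a26c1098109099b8975063f063a270f04270423266d25d00380235499b01e826832cba266b0c58001001326d20000000508a400049e0c9e101c540a588eb000000481be82ed0003c0048999c139,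
  nat_lit 0x26d40ff40fda269d09809a8c6f889a7030226f10fd6269b056000104d20a91cb16c98000010d570d53122e0c0907eb194c0000012138808dc058f058d26980a98a9f062d848bc9a5c21216b0122f269607d800409a649a5413b00000c6f000018f00b28aef8b1ccb03848ac9a5400827c0137a18fa05860587269425fc1df41e4463dc63d448a49a4c97e128714b300040b7000040130acb0aca1133180b1809000125f442f0a6585eec5ef0000097c00020383038214aa14a82b71180025ec000452c853182200000188a1211078800089a349a302c1110f2cdc268b0b209a2804c0389038319400002226800101e284a4c121c122419f497a000307821326057400081e1caf4c0ed00000cb02d4f1c61278017d82ab42ed86eecb3309a1497927b01bea2cd4268418743c906f149a0c0f3,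
  nat_lit 0x157c0fc41c361c3a1cab1c1f1c37027700060003186b262c9cd41c2400001ab000002c30709206c06c006ac13e42ae00c709cc09ad898a120008d20e3b14e70f9126b526240cdc40040c8c0c989ad045c07280fda26b30d7009c03fb89ac807427cc100a26b1006000080a0840c8403c7458745c74583fa0745c70a49c509880000000a016e0b5c00282a5c1d00079401009abc98702850ca426b826ae26189ab401200040fb210620fc51c9f2d471ca328ae0aa8298b00042614000c3ebc40109ad472500020fb10fe228a7048c00043eb89c6c058000008d1089f016c3eac3d903d9c3ed4b4449c289aa098402a3028726a711cc2a340a149a9815e0a8c028226a503b4000c09943a943aa07048b410b42c234c23383d58a280983000101d901dc06fb0d6400000130160000500040007022626a2260809889be09a840590004000526a0006009ec08949a7c45b000100489a783ed8403ca5dc1ecc1ec43ce43cf06f4c6f489a78981,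
  nat_lit 0x22d272c1c3405f805f2000026600000447832942b40997111c12d7000012d40008001c55e813a813bc37889960001000509560fc4000000146aec2ee00070c5626cf0afc630801400164000019f00021aba2a9e0c1c0b630b622654000455d03c80a57c99400001ab90f240da46adcb3d424701bb8102c9b2c9930692068c27e127e3040a26ca264800100c449b2444c26c80048001c2d2873109fd812d0006004800000120003004e2b491370030b1ff8000462c462a86e841074108099103ef2c2800030000000911b4002000241f041efc4a206ae09b0899000460cf50c06144e1ab926c1263c2cf45d645d606ae09b0072919a31ab826bf06cc58844ccca9ac4cdc000498e0003189d0c9a29332ce21b90138f21d80008627060c8609c49500012c162a6009b8000001219822c151ac90005000926ba2634235039281cac9f5c9f549ae498c,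
  nat_lit 0x10cfa10411c2f1dac00009cc4068c25b0cf910381c3f26ef01809bb8249824a09bb83bb01bc08ee092526ed070c0a78002c00409bb0123089d29cd26eb0c08245c24889ba81142829103d26e90be83380b5189ba005f000314ad136412d20c390c3e2943267800000120000115f2a111198119d2adc00992674457c4888a8e437e037ec9b9499c14a914aa13be0000000726e420bc001401e001d8a5ac7540a5a005509c644eec99b000327990e1a10100fc5271e0177266800081408223c623000104fc0ae10b5c000013f40b2840d04fe0df426df0b1807e070b09b786d426dd0144241c9dcc0000058000404ec295f295908da277204122664000c13b4222c623000204eb08cf062c0004138c233805d000004e3088817b4139037ac9b5c2be26df1c2326d60d789b5404c,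
  nat_lit 0x28050dd0270e1660313c71749c34066270c01300004a394a3843270000013000100000190c5e71ba51ba4000001400004326457d801d29651cf70d6400cd27221c58270726983268366c7150715c9c189a528de0ea40dc6270524d01dd4b58c9c1055804522d5c2703023c01780b74001400107d50003004800000c941e3c0b2032303280796282d10511c411c5127002690a160a16c24cc2c1c007800909bfc69b018f02ef001e002326fe04e40ad40ae424d424d89bf431e27630934093726fc0658a41841249bec7cd000626fb26fa056c9da024c89be42340ce5104d26f806a000041160071015d283213ec2c3e130c130e0001268c1154b500b48cb390b37c000000800050cfb1c62274d023807540837038617c02688001033ec719840b840cc0c800c780c109a1000a0cec000a0003081d268000082070206833ac206899f,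
  nat_lit 0x27481c7d27250d789c9004c0f5229fa000207001200120825a81bfc160400009ad000227882d9d081b048905801a3400040a389f5c48300000287133c06049e14b6189c7c2c8271e01306d20b7c075b875bc4204b5fc9c789ac295e2d9c107c1c641c731c76271d26aca06037949c703a52b4d170517022b2915500c651c72271c26a80000aaa4a9e4498015f43b90173c1734691c9a91332180e151c151b1468000026a00004305cabc01dc00002ace04e705b810dc10ec9c6428a27371c6e2718156c00040510001152317e71a461a452c8d269c0000549028e835a15240c5b1c6827150d649ebc10d49c5018411a61c68271305280004b00c3b0029f46ca280a0dd627130f243150718c9c480822711014410d010d400002dc00021576175317520494000455cc68d8aec44bf,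
  nat_lit 0x28c228c027410060000000109d0031200090048589c752442bcb6b47278b6a49cfc9591a982def1cd61cd210a21c8a273e26bc6414b170386c9cf42b628ba0e20273c08845ec4386c9cec1c1164f0e19273a05449d88386c9ce461a0f760e1927380668b5c038689cdc2b30006000b273607143604a80c38589cd889f16900e13273501b8001c269c584c70dcb4549ae0e611d612936000204040ac80ab400041d21c270b0300000abc000857582bfc3f1000115d10eed0134a2b438449cbc64916050dce272e0d80269072189cb46d4272c0144000000101f9081b00002b5315fe2b5210a863d0685000004b900022ac313672750010b18e41a1620b40004b42c37205bd28a50e0827270b0463bc37149c983ba,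
  nat_lit 0x2ca7000000030d9e14ee14d122f8001838f4675466cc9b8000309be27ee03cb04e4280f194800043f603f4c48200000d950d980b5c001c9d6c9d6864609bb1cb627590c749d7072d09d60287275701441764af08ae202f1800089b700000048000c7170713c22a41f0c02809b600021c5b0bcb299c299b26d4000453984aec4af033900001c510be70510b6482294234422a438bc9d449b40125277a1cad1cab2750153803a89dc4b6e472a49d3c0f629681cbc1caa274e1ad8422c72809d3434910242db7274c03c834f86d949d2c2140bb51294274a0604001801302ff0ceb2c3206be059d059b00011b3c12101d4c1d5026d429742c8800009b3000500001a7c0b2126c83e90b8f43f780004085000000480008000403e40b1c9b1000000f60c0802bc26c09d9826f09d08075,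
  nat_lit 0x2d0e0e5e277b0640000c11380cfc02489e3c9e446120001004c225c4b4860e860ec0138015073609de49c40e081a0427ae018602322778270c112016f02f9c2f984b149ddc9c2085401ae01ac1a970e582776270420b420ac37fc395c9dd49c019ff1cd427740afc0004542033800f100000db90db8088836e036dc000800001f2000009bf000004bc14341427098b28a426f803189e2c1f8c232c39449dc09bd00ba00bd07df08ca0e50276f26f033d8354058f8394c73309db82f02cf612480d9c0d9d1cca276d1df039006e249db01fe0017276e276b100000002b242b3076c4a4ec2a90159c9bb0156000000020c4c0000056c05483270003004800000122d9629100a3f00000980000ca4303a6016e00020a321bd8086800040000aba421d2ae8134512ae2762077c20a46df49d8412b29932e3e1dbe1dc11dbb1db81cf01ce00d790809080203b719b700002db12d7a26e86ef834cca79c3c20752cb9206f58af5000009b9,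
  nat_lit 0x2196e2c9a0700000465c0b43811200002cbb197207dcb22419dc9e4c11427bd2e062792101865c82d80000006f00010031002c2a452a430de112fc0b602728a4e43b2c9e443c927961cf227900a1c9e3c0510001136b2bcc0b492724a4d83b1c9e3859811a91cee278d0d789e3004c0d450b3b29891d760f351dbf15df2e072e042dfc278c2720b1ec38d473b073ac9e2c9c729940f410ec2278a24d013b473949e245f5080e1ce7278818d800102d482d4425b000319662d1e02c8000000080004b1f84e409c6000100002c7d0c311409271463b44e186e8c9e108512ca90e681ce32783096800d09e1c9e0815c2c601ce2278103fc002c9e049e0014b2b4c2c21277f07744d944b349df81912afe1197277d05b8008c00a09df0161,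
  nat_lit 0x1b5206cc04e86d403a9c9ebc38706842e2727ae016c9eb404c000b01440008002040e016b816b02f705d486dd0001000807212867051a0bdc121427309f009f0c000017c00020d26145e00a82744000434a84efcadd89d000000d2508a0007402f09f10744c74349e989cf002127ae2e1e2e1d27a506b0a84c3df83a6c9e9069810301d0927a315241f2473f89e88636066d04e727a1064c12546f2474249e841531912190a068827a02738a5303b7c9e7c1020bfb0bfc279e0874001c9e849e741af00000130000015602d3008305580e861d02279d27341ae0b8449e702a80e4f006d0003064c001c1ef80f4c0f38142c20ec47fc81400060e47071907180823083b173b2730001465ccb26859c89cb00040e4627a40504000c59f0592846e,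
  nat_lit 0x12d7e15ea0a4406c4022401a2277800006358069c0f11b8a0248024b2823000427cc277400249f2cb9184e4c57bc57a859a863ec55e89dc000c00060f84002800142cc000b000414a80034000c3f827c700020fdc002400042d2000900000a04a068a05408a4000c00041c0000149db170f070000000c9c0004089c08ac3408b0d01bf49da0000004c089408a4b5a0000c00149efc9d916b316b600010160ae3c4f2c000005a00001bc70569056b0515005a005d27603a383ad49ef064627eb2e3527bb02089ee805128bb0e8c1b752df90000078f275c1e300004002c3ac43a2455889d600060edf1bee0ed72e131cce2dac27540014327863a862a86bf8686465100030769071502b0a2e876aca2d80010000855d4349065e09d41cda1cd113a1078a0f9506d10003274c59643d94a2d0000822a2bac154d06d00001274855e01b400000328,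
  nat_lit 0x5000216f91418658439b8714c7850459075589fa400045bd09e42d09139f0e2a0498049a1d4b27e81bb01cc81cc42218b9ac756c75549f9c9e316390d471d5427e62788a3803b8c9f94192004227eb27e40d8800109f909f8c2dc28380ec627e20644aaa841789f84616000f27e227e004bc00449f889f7c16e00011d212c3f0dec00000132e441a8913870e5e2aa9105927dd278400309f789f70366000a1605046000745540ae9800180004333c30349e000000449044705785e684a1400006460000004c56b0354c0000190000015be13880d510d5c05e405fcb9489f5402a024c282b0eb627d4077c6bdc003000349f4c361042c0023002827d2277c34dc74f49f4455b16f30513000007040000b228145414d0cec051927cf01409f9c74e49f3839c,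
  nat_lit 0x286d02cb000a001028070cb4a32415ac43604624a01814f09dd2b0f10d928050778107030d430d8a0102080c38115c2803099c386045e8a0083662a3511842801043c052030c8a0001a80000089a2db11b511ad31ad427a4227ca1940004159014602c000000abc000c18640aec560000209bb0c311208000426f830c02d70000060e02b812a426e43d6c9fe42c6288c1d6527f80a1c9fdc05129242eba0d76000900070d3a1df5292c27a0001003ec3c742461b681e6411761d5e1d5b1d5927f51b9c5bd4bb947870bb0045c075889fd09e72cf513c12e7327f30bf45e0000309fcc9fc82b6004f27f927f10504a3ac3bbc9fc02212ab8106d27ef1868a1103b4c9fb81d8001927f027ed0480010401149fb02b9000c0009284228462798000c2a08171c14b8a2989e5,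
  nat_lit 0x187a1441020c13f0140c41e8000c9ef0d8e0d8b2d250002279854a0548c6768000417119dd19da0000056000086f10b1805be05bd03a8c41d49ee000115f61566156b0d2e1b7227b4298850b000005f5000018fc2bc6038007a4000057cc3490ed22f31116d1dc41d8a1d8500080007000d03db04022eb81dc504da04d5026a01ef27b0000022c83d2c3cfca6c429c499108bc04570001068c0d1c0d18000017c000209b60457188c0004227c0648194000009af08a012a426b43e10a0502be28141d7d28130d78a04804c00030048a1fc41284028a64022c422bc29b829d8ba6875eca0449eb28a71155116528102798a270460445d4a03c3bb289b11801184280e1d10a29075dca0342e328431d77280c0168a23845cca02c158000300480000270ca63c15d2a631e7b11632958000a0012280927a8b1445c30b240b2503408a0208cd,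
  nat_lit 0x2dbe093b1e591df911c7284227e4abbcabb80028004ca1049f8299211b5284001d4060805f0a0fc1cd043311c2283e08580008b8704ba010d0001077004ce11f0b8d4585c3bd440bc5d54b24440bc7b987ba47bb47bcc7bd4bd84465476a0a0f09f72c342c330d862ea700f61aad1ab21bee2f462f4b1ebe1dcb2ecc1db51da6283b27d828d4229c22b82348234ca0e89f512e31ba01b0000200028283927d0a3984014a728001c0024a0e09f3017a01700002052c05a405a0000418304e1047000000a44000c266c11c4560000208af04e207880004276411bc4fd000008a904e017b426543e88a0c42c603731d9b28300a1ca0bc051160600100a7b16500018000070c4b860702c62849f21c302e172e161b80000d143c27c40000b244b7380740eed0000143e03f8000001319c40cdf0000143927c0000459c4aa4c15b0000166716690478b32c000050d4210,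
  nat_lit 0x2153518c9003d280ca968a970000421d00002d3b2a9d0514640400007b0ca96875a2a5100010fd8000400002ca18ff02ad000400002808a938a94c000451412d00be100001b5000000130bde2cef00fb28720f541b922e0228522804a700bb68a144070096804d0000e2855285301280010070c13147c8000328891c8309180000001832dc1e64a0000000e40126e01c838f44c506e481fcc1fe000049ff01c32890020401fd0ca0000027f80004a6ec6e446e3c1fc41fc89fd0000098a1b481c7f0d3026246cfc682c162c163457b4a12c9fc0cb12df4284a11cc06ac521ca12417f29b62ecd284806acae784be4a11c13a12c11db1284603b412dc12d83c78bb24a1189fb0512051312f7284500cc000c0120000033f07ed0d800d001218279c23ac00b000cca10c9fa,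
  nat_lit 0x14d0161f1622287b19f43390b8a4a1e811e2c3414bc2879053400a8a1f4a1e0136000328a728a305b800001284304401d00000299029a1ae3197703d839182ec42f00000834d018a0bc400010a5c0000012049b0c0719f3293505940599000d2828000001318f800042d5116de0ce50ce428882824b508000c647c2180bc000011b8c14182b2c003c00085491cf8000d00011550004400002ef04032a562a5800010c58aa647b7caa7c000ca080008000600020460aa6caa74000421d182418a52c5c0ba2000203d8a94ca93400042140ba9000000020c44000002100b085d2c73f87420760832b02ea8a0705b7048e1ebf2a39058800002818aa5c7b30a98800046722a602a6100000a181618161c00101ee000017fc150e148b1b0e2814521c59446bc4b0400000a04,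
  nat_lit 0xf032ce62895051000003da8582489c17e81e08289401d86fb03dd8a24c07d1abb0000000401bc01bb23e80004a40017141720173c5ce0a140000004c0378b8fc6f3ca24018d1d401e02288f10785ca03dc0a23839c000100000d78284c4dd87490b8d86ed8a2340ce28922f18288c0004000000f835d40f228912f16288b02a800080804142813a012915be2c7c2c9d16361637288a267857006da8b8c06ec0a224a12003f288e2f122888187404dcb34ca21c25810ea130b00010ce000242ba02bd0a2f4075c0150a1100080ae70abc0aa72e0e13072840001c4b845b9c3c148ad0006004caba07c1840004158293c1a90000ca0f0ac706a6000201dc000066185ae45ad021802194a0e038516ef0ad616241626287f2834a200a1f8000853485a301a88a0c2883287d000012d81cf32ecb282c4b706e9c6ea0b8aca1f014f,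
  nat_lit 0x2c7f2ec828ad0a60691c78a0a2b415b053a007828bf2f4128af01000004000845d432d47c08a988a1b000000480010653c5898b01834c2bb7111100000a4c000474dc74cc5a986ca17ac0f7d28aa166074d874dca2a405b28a8013000200120e3309a4099618c7000310a410bc10b000085581ced1217000118d856105b34000021900021b431cf71af61af716fb1db328680004b8646cb427b427ac13900002e1d1a68025f07f46cfcb2382c0041d82bf0a284a19186c143b1438165328a028602710000ca280a27c3ab2c2f2cf0289e0a604e846f7ca274018135a2f2c289c0c48001826f027001570f6816190ba00ba30001285c0004a27ca268327000000140ee81298000001200000214085c0a1b0141001128580848147065cc73e00014a260a258a15,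
  nat_lit 0x3b61e5b0fe10ce60ce41e421e461e4628c328941b68bdccb3c01224121ca3087ae166b0e2811d61e5f102610221f161f521d921d901d8f1e002f591e3b1e461e4628c22890ac54341c29501488097c0004a23097c29150000086400002d682d7c5c1074800978a222b812b830aba000628c128bf190011c40008a300a2f842b192c0edb2b821f752f5a28be19680008012000005de160c19ae0e4206d728841770bc1475ec7d207f447f4c7f4cbd5ca2f0a20064f064e0006000828bb09b4a9144858a2e821e2b0a2b0c01a301a016850000287c00082acc61d461cc5154515ca1e0001022b022c071015f72a3c28740000085008201932a41121128b6100000002844192c4a92a3b120f28b71924a2d805100002b7e2b8001743b984830a2d42c128b40130000004c28b928b3000008640b600b5800001fa00002cba15dd096c5850529c5278726472d47510750ca2c0a1c15d2290d02c5195628af1dc46a0078a8a2b8075,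
  nat_lit 0x28e41e2411d313eb13e71b102f111e651e621e5e28de28c4151c5a2839c879dca42c04cc5b787970a374a30067b1b1a2f5c1e5f1e5f28dc28bca9a428d40ec00eac7978a36ca2e2d830000088c22c02a9c6c60783cbd8c78b078bc78c4788478887980795c003800300ea0160815fc27b8a2d29052906000201e00ed40ed8691c16ec1a8c0000a2c000203f6023b023229c806a328ac0004b4ecba70709c04bca2a000000485f3833d433e80000176000408b308b017c20d0c28a4000cb3f4127413e0002169b0ecb120800045a64b1e005d00000e370b4a17b45a647940a338646039c1e4f28cd206c33ec7928a3306d428cb0144a33079245a5439a0b5b85d2055085504a32ca2800112d13175d1541154028ca289c000c07803fac3ed4b59c74ec6bdca26000001440000745061d80bb1d151e401e4828c802100758bd1ca31c0760cf22f6428c60a283b107920a31455b06e003af000005780000a544a54020f,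
  nat_lit 0xc7c0d1404be29b000000fef28f44080408846284410abdc0000a3c2e650ddb0dd915c32d0b000128ecb4387844b5ac000012900000cec0ce917e228e833e8082808442ed4000006500001e012d6818180c6f28e43ea4378400040a016331afc000008b0000c00cc3bd87b887b8c1b781b641b6c0f080f1827bc3a6ca38000200310d210880000400bc082815d0000002c0fe001740014000826d0be8c49a04b244b684b584c6c4ab44af4b0c0458c7bec7bf0abaca370e581045000b000e28ee28d84108779c00280034a3b45070de20dde0d9a0d9c28ec136412f0006c0070a3aca351de31e680eea28ea28d0009860443ba8a3a430318690ee728e811f8001400846c60688000201440008777c777823182314a3300011dde1ddd2f7c103728c80000637061040bb1dde1e2d1e6328e312e8a39c7990a38812b0d081e6428e107e43b687984a380025023b023e00000ce00004a6a0a698360,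
  nat_lit 0xbf81d851bd32918006ca45c01300031578182818270fb4000855e8729447400000bf611ca2ee408e803cb29142fd4473c4714a45045d15751818291311cc71846054a44818b1c9c18152911086456345b98a44013a00040be22add1f7f1f831fd030451416291059ec00000024636000003aa03a6036503660250580c2f782f847aec48680bc40bcc18f8000ca432d8c30430f3b000229082f9c2fa80004121003c00360000046000086d043cd8482000114151412043400006d000bfc4a916ac16a929060f2467e87a10a41481b29040144000834185c287cec4190bf88b4dc404879dca410c050bc4021e29030d9c00640104a40817a0d07021829010a2830600850a40055b00140d310d3318802900a5bc409c40a4441cac480004a3f0000139a13990e90b1b05a345a4c0000ac34ac40a3e,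
  nat_lit 0x9d80912293401d01f901f94a4cc1cc011a011b29320afcaeecaef8000029900010157015901340000107800002ee041c2f3b1dcd1dd11eb4292f2940243c1bb01ba47abca4b80000a4f292d1dce1dcf1ebc1eb2292d29380004012120a10072cff000a000d0014292c29345824540053fc6490a4aca4c029d0ee7292a0ba0000c05100000de01eb02fb01cb70014228c376c587857ec3d4c00087041ab9169616690f510001292c378c379000001ab00012a3f10c00cb617ae2bf82928000001307dc1bf21bd11bd2292325f040003fe06f60a4882a40ea41bd4292101e059b86f3ca48010a00082eb6291f01500000476830042ee0e0c072d000029240000059c058ca8281a48a48153901cf01d01ebe2fcf12be0b5705fb29fa2fed1f511f3f2add0b8d2cf11bd4291c291c511cb290bb5cbac8a46c7ac172d1be61bc02eac291a29186440bac46fb86f4ca4648f8,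
  nat_lit 0x10b11ed5294f1684000479807f4cad1c3410d550d9618501ea0294e02043618361c76f4bf94a534a59008e0d861dbc2fe4294c023401a47b40a52c0670ac10ac30a28061c04ab04a8294b29602ec442841fd0a5281952a6010db07f4294907fc001019c4a52005c1925090209050007000429481c741028103030e419aca51ca5709e81f33067029460c14a514199c19a8a5141862944004c00041c001c001c102498a98019ac95c000006fe000003c41c041ee000081fa0001013000040028002800044d60000000b09e904b800301084a7547c487c80c2088188c24cb2704e083e44103010000ffc1eb80feca4f8a5608e7072e0415007b0071293d29546440b7e4106401e801c0a4f0a54293b0048001c3e304dfc3e34101c1020001ca530003004c00042bdcac40ac3c1fd00002aed0b8e053800240028a4e077642444a4dca5200000b3c2c0b1dd60910293629442400aa40aa48a4d41d5,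
  nat_lit 0x40c7206e217d4000c01a41aa063c00021b0b0f89088000046c2401c0482000017a715eb0174557c5584a5983c91a6b1eef29650d80a590051000000060c9c03c4002832f840a0a58c45d0e210e1f296215545e984090a58455400091b1629600650a5800000b038b7bc29a0e7c12182c5000010a50000001300020fe42c4e04d43c74246021181e441e3c1f2ca5706bd2d8f09182a5b070d09bb0c1c295b1ab80018001c0f6ca568a602b672b6e29590860000006ac628408f1439143b2d4d2d580000297c324000080004519cb55ca5e00001465104600bc41040e605a800ee4a554a5d0fd903fe03f803b7295410a4a784a760a54c22b16161f4c10f0305e2fe80cde000029700000aa78c124adbc3e708a62a921f5310ae1f972ab6093f1ed82951296c02303664614c7a8ca540a5a,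
  nat_lit 0x22f551c591a0400000132c022039303729831d38bfa0c0d8a6081c21a59300629811d3477fc77f8a60014a0cb90cab0ca8298127bc001861b0a6001150d74186d297f1d3423643c2ca5f840600022b571ffe2bc01e2800041e7c1c081c00a650ca2091f297c00000006299031601e641c001bf0a5ec0a2086c0872090f297a298c68842478a5e40322dfd108000011450000005100000798079406e8314c619cb7b8a5d812d29893026297501c00a707b1ca5d028a0d981efe297307e432307bf0a5c802500010b6c1102082a1d04204c24e445407f887f00ab5424e87844a5c4a620ea112322d7b2d7a16461eab1eba1efb297029841f945b4074287ae47be8a5bc94100012dff0f8a0bb03dd0b0ec3dac10641070000430018be18bd000000bc00146c2801400160017044a,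
  nat_lit 0x1ed5304c1f30299b0420afbc80c87cc0a66844807022c1d1f2f29990ad86d7441bca660141302630542997085c000005ac69806462eb72c1a000100000c6caef8af0c05b4332433283360a654a682c181f29299400380000013003d0cdb2c151f272993299c3ac0bab4a64815b2c151f252991043c000005129d3173a000000c80004ba8404cc04c4b7300922c121f21298e1c9c3418342ca6341b200001a070e36096c6814c0ec7c74a6302b8000829903044298b0d84b0387c70a6282022c173043298b0060b05cc108a62c2342d7e160718001e321f1b298b2998b058c100a6282ff18db00000002060c000801f4020001d1cb52feb1f1729882734b04cc0f0a61c0260c791e05298601f4000c0f3c6e585ec,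
  nat_lit 0xca60ca72df429b729c80c947be87d34a6d874e1e261f4729b50c0862e87d2ca6d01140cf71f4c29b30e706bb45ee0000013600051eda1eef306630680f0c00107b68c11462ec23b4a7100031ed920630dbc0db40008c0f478f478f017800011ed730450444000001206d908c908c7000e29ae29ac29c000f03644000814b30320d9100010b700008254c7b0cc15024c4a6f00012b0b1ffb2bf31e2800002534092002f0912003600331f3e29a729b800040010b6f405000010d5610d5070b070c29b40000343c342006a0d570dea1e0c30541dd9044614c6000129b00004c0046244115000017cc2dfc01407924c3c45decb7b47cf0c178a684a6b17a91f3429a008ac50105008a67c13d17a11f22299e03a400087b5c7b2825b00001eb42fe50de2058e29a87c0053dc44c8c25c4510c230ae6c32dca670a69,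
  nat_lit 0x10111cf50498b3147db0a7442311cd51f6429d003f8be94781ca73c31f0000004800045238523c526c52601d402580255194c20872c330001000429cd29e8601879dc79d0c0b4bbfca7302fe000614a920842c310ca4000401200022ac606af06ae29e400041a7c3ae06b54a78000006a10ea401601a743ac87d88a71ca7714991f6029c605105288c21ca7142ff000106f12fa22dec05e000000122b4f200711fb1e6f17d129c329d801487d74b80434040000a7500041e2910f90d031264000c279825200ac0000004c719cc174c1fc7d5ca6fca7418b31e19307429be07f0c024c1f8a6f42671ef21f5429bc042862e4c1c4a6ec15a2a312a3300000f1422705a80c02078b00010000ca732a2a2a3100000f2400003e480ca035a,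
  nat_lit 0x2b5d2b5a07040000b508b50c1e810b3000500001078ad68444c00003660002001a1468071000040068bf081261607116829e70280a7ac7e0ca7982311ced1f7f29e50c50745c7874a790243000303aa071701cc00040010691c68e862e0a460000004800186bfc6c007b78a78431003a91d4d1eda29e00b942d74b74ca77c21e000100081a291a931b2429f80000012000a0ed80ed91efa29dd1ef80be83b887beca77083a2f181ef529db0bfc0000000c68905adc8080000040407fb01a810141a6861c47cac52c80000a7d00001a201a7614b2066c60dc3e547e7ca8c80950a75ca7c056106f514db18fb18fc29d60bf01d501d445fbca75433b04d60eb2309929d40b94b3207dc0a74c727024e29d400000c58b5605118b558073c259c0000a7b,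
  nat_lit 0x2bb30cb2a08085860a47ea4a81c1e800050038078d09984bc8b4a04bf04bdc6854000076d0002061a0f2d0f31106c0004185c1da83c12d3e21072d2f10fb1e402a032a141428141c7e90a808a772a081fa22a011c9c0000012000112f112f52d24048ca8cc7e80a7fc00000c840c90b4b083fc83f483ecb444a8406770a980b5501922a411ed41ed81f2a1f2930c829fe2a0c0088bd20015ca82c7e70a7f4a82000000071480206c000809acaac0aacc1fc2eaa20ea2ebb027b00042a047bf866b809e8000c9ce2a572a5900020ae8baac09ec00041af0158015100000448000051dc00a0194000d29f729f51918a7d00510004098b00610f34030803187c70c2eca7cca8000c800ca01351e6c29f229fc644c45cca7c45553051117329f018d8260c7e34a7bc13e29fc1f8b29ee08645fdc7e20a7b440d,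
  nat_lit 0x1b4d1fc52a220510bbb8bbb4679c7f04a8880951d332a232a22037c000c000444900e9003114a900010f4cb87452d00000193000004f72f7b14b6254c13d477a45f2c5f1455540000a8f00090fc616ef16ee17c415542a381758000460d4558056700001a5c03c87dc80e300e281c1400040c00d3f000005d317d41ad000040e280e201c0ca8d017000001531284c7db821100ba00ba4000403e07040000016e15501ab83d083d047a547edca8580004c2887c54c594c5bc4e80636cc438c44c7fcc2688a8c19ea19e81fa52a152a2c7c60c2a07caca8500b0002230e030df2a1318707a447ec8a84804f2ed71f142a112a2800200b007a5045c8008400886478a891f8e1eba1c78179e077002d800002a30000200052a722a732a20a8bc00040008521c7c58c3347e347ae471dc5e741dbc0b5ca8700040fac17dd095701ac000c2890273c0ac00010288095300682a1c14852a1800000122a6c2a6b001300182a0a27e0602c7eb0a824074,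
  nat_lit 0x2cd31121fe22a3b01803ae07f447f88a8e81191f531f6d2a39071cb2a8c634b2840efc2814a8e4a9500001a0f2f122f132a3f00b86838bc44bc487f74a8e00ee1a0b2f092f081a022a380258682cbc20bc1c6804a8dc0cd00030fc81b01166861b861b00028002ca8e03cf8a8d8a9414b119b80f3c2a3510ac3c883c94a8d000f006e00702a33073000000120001006403610ff105cc7e147dccc3600838aa48c4507c44433880b8ac500008a9300600069000110180008c198c1a079a068200011e3c1e3d05c60bdc000078dc78d480c2e8c18052b8e2a2c19f400141d98a8ac136004600002a2b2f761fc01fc22a480004768072a0c274219c21ac6c3c1ca809d409cc272ca911a5e2a2a00071b542a2909a442703cec3ce4a8a0423005200592a270468a8980130075076700012a261e8e1d4a112e2a406a206a446314000001000002f701b420f04425cb4b87f14a88c83a,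
  nat_lit 0x67009c2d6520012a552a740e4c0e34c490a950a772a60312e2a530ba0a9b07e28a9482ff2f201a0d1a0f312b2a522968003442b47ac4c2c06bdcbdcca9c01f801f61bf7000012780020bae0afd827f427e81d40007182d18ac18af0bdc7bd401c8000408f2a8b312a2a620000000410a11c6e0d080cf40f060f050b022a6c000c3db03db4b9e0ba0cba0801b4a9a00020bd7056105630b8b28d800043b8c3b9042dc967000010a01f531d470c0cb54885247fc0c480a92000043f3449d4af24a991009100b02d802d62f1b1ff12a472a603f8074ec61a8a918a971d65311e2a450850b54c7fb4a910210169b1a372a4303f8c0a87ca0a90831f0000004802e0b2b084447fb0a904a962ea01e8a30971eb21fea2a4119d03cb45e5ca90021e00003099306c0a6d1f447a507db87dc0a8fc6c0172c310d2a3e083067780000001067e401500031a2019d904480000069806b0083,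
  nat_lit 0x1836196a05783f847f5c3fd45b10b9e0a9c8aa60063006f2a7104dc5b68802ca9c004d1d3d1ed21f592f580fd100012a940bdc3f487074c31800000038aa4000b023e1ec70afc44b4b67000104724affc29407cf00321ec5047a2b1631622052205304bf135e2d9b00022a8c0fd000182d303f200050b300fcc001057e03f500030b3cac0400082ce03f100010b480fc400002812d9321762177217731e8133b21590fed189c00070003023803f02a88af5446bc62207b9c0c5c08d40008aa10001004800080cbc811440f00840001032e031202322a800000012032818a52158200b2a5e13b461f0c4b8a974074189431382a5c07300024a9d87e48a9808072dff182a1e5e0004000118c813222dc42a7c0004a9688018854c834cafac43618c81ae11ad600000c6c000801986c98bdac6b50a9e00001e5c0064096c7964609458b0b968c4c0a95868b,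
  nat_lit 0xc50005000117ca031f2ab400005f240c900c74af10aac0daf0690068c2a882aac04100408aa1c115202b20392a86014010847fd0aa1412216c516cb2a8410180000013031f057101b301b6172000002aa800045c485f00aa916db2e8f2a8300010ed0c27080d0aa081cd03381a702a810cfc001caa14aa0045b15d220312a801f340040aa10aa0032700001a39312c1fb32f550258bd48bd4c69006908a9fc0ce00312f521a3f1a412a7f023068d8c4a47ec0c570a9f8095199a000400000c74000001300010bd32c4b2c5006e000004634155c4542dcc119d16b716ba31ec20272a7a2aa06f4c001ca9e8a9e4236006c00772a7808ac40408038a9dc40d177f000200002f1401ac000804c003900002a7531511fa52a9c000463b43da000e400e0489,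
  nat_lit 0x1205c1b582adc56ec5794aa9805b2aa501301a903de0b5a44abc26f00004ab6000308f116e80b7a0b8b2ad40008afd43fb0167000108ee09a80924000023a4c31c16008eb3169200f2aa0055868d08040814caa7c1332baf070520512a9e03acc31c7e80aa74132000f102e00f500f30a5a0a5b1988003001200002c25197812cf2fc12fbf2ad0b090b08428c86bf4b9880004ab300000048bd8c0008569811c0001004c569000046bf06c106c34bcf4ab200001af80a2d058305851a252ac46bec6d040d300d5800003ff09910ffb000300011986101c1a812ac00000bec85e94268818c19471f5d317c205131762a912abc559455bc64d81a501a54aa406a7159d1591158d31742a8f1c08011caa688108aa3830f190a20402a8d0cc8bb4029bc2130000c40803f515c30e770e76000003f528f00fd00554054420200dc40264ab2421280004000830dc30e0aae,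
  nat_lit 0x127a01390134014e2af931ac2ac12b042c082c6c2c64bcc8ab000d510d720221f5b0f5c2abf2b000008aafcaaf80970ead1454015b015c00002afc0018c4f8514c0568056cabe0005313d200c319d1a1025b8016440ec80b07ccc67a00000abd0000186719652aa4bc8cbd106374637081508148aae4abc2dda0000142c6d70aadc000c70f85024873cb764abb1f540f522ab6155cabb4c67caad422b0a5720272ab4062c63ac81acaacc0ed00011aff1bea0f16191c0000bdbc3bf025b15e915ea15f42ab12aac3bf0808881a0aac01231ff131992aaf01ccaad4819caab81221bef20212aad061000000130b13175517570001070c7b685d70000074d00012b1d1e5c17582ae800000a246e4020f004803391c991c971ee91dbf1c6018de2aa82ae4001075c075c47bac40f061ccab80003318f31921fef315b114c00087eb07db4c2d0178,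
  nat_lit 0x2ae220982ade0e8c42288228ab7413a191220932adc12d4000c047c04746810002012030dc04980000073c39885f500471b83105e1930317c2ad92b20ac18c710ab6022e11cb208d2ad70e5c789cc5e4ab5814200020a120a102f9001552b1c000443d038c408b06ca000010ea005502ec37c037bcbd18ab4ca722adc31c031be2ad22420ac606814ab442e3319120882ad00168ac18c6ecab3c1c20f1d20432ace061039343e48ab34406000900487014702078c0001800001a2cac60be4037a18ce193c2c2800022b1400040131e660939000000012c2317502b1000001498149c30bc24d0233091e078502442b2418f000002b0c000c645cbd3c16700022f861f63055c000429dc29e01dc00001a0e1b0205846824be0849c8c604516480d8ab08ac2,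
  nat_lit 0x2bc72100126f2e86144700002b4402b000000010210000000480294071c00141610a450000002103c8abe8abdc00003492e852e8700010f1400083c90650886404c04c88cb5943b500a50ad000010f24180c018a07a40000b600b60407001070f2020ca20c91fb912a531e12af22b3c0f380f58295c69dcabc40bf046a046300052af12af02b380024b8e0b8e440d05152d1d2d210e2c140613fe13f811c600002b340fdc0004001c0fe000001440000109c0fd835a045d01c201b91a23128c20912aeb2b303a4c6998699c68e84a6cc760aba8acb0a4d1f95317020922ae901040a107e50c5bc8244aba00d000042ae82ae7027c0034aba0ab98aca0005011f003411d000002b640f000f2029280f60f0520382084209f3188193c122600012b2400040e1447d48af00002fb71353015c69e40020ab88ab842362b0e31cd2ae008ac42d08210ab7c18b,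
  nat_lit 0x1046000100131e552b470134118701fb01fe2b6806280000ac5cc22c21e829f4ad900111e531f9e000400002b3d29140410700cc1786ff842840008ad800730b83125c0001014c00000130002000a2fa8197519712b5c0004002c43487e64ad6000000051f9d083c00282dd82ddc027c027804d0ac387c603f601352b0d04e00ee404c4ac30210013c00001fa10cb07e70000000045d10003142e1045050805061e91318d2b54000850b450b004f0ad40000004804bc04b80fa88314ac1c42c2f9431f82b06003c43188310ac1400e1e4019402b04116c159845206ed402080210000893c000000480004c0c46e786e300414ad300001beb3029161d067071f8677042e4c020c7b4ac08ad20743073f20bf2b01201c40c082a0ac002e82b2d31ef2aff0bfc0000227cc27888c00002ca72ca9045400001590227004f,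
  nat_lit 0x2dc31852185120f12b2e2b6c0024acbcacb40752b5220ed2b2c07343d8c8204acac2162b5432252b2a0060000804dc6ee0be1041b000015f2013f2b6131f513a057dc7e54c6907ea083b4aca067400f92b4d20e72b2720e8720081ecac983282b4f321f2b250bfc3b3c3b600000070000020de321b1b43191cc86483a4839cac8c9ef2b4d321b2b2207086c4881d4ac8474d000004d30f5904982c5cc860ac8c22000aa00b12b2208642c248380ac8413a000201031909190309280004ad1081e81dc000000e200ec0a44031881b4ac78138189832112b1d08b828fc8188ac7031400001ae6206704d46b90819881a4ac6c1bc20602073320d2b1a05b06ca481688180ac64a63206520d12b1806e80010013,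
  nat_lit 0x32b4a1b6f064106472b9800ac0008ad246db81a580421b6f0029000101f8ad4cad34000013200033213013d00292b94001800086d40ae41b081b611b60000006252b8cbfac0f0816c41a406da0ad0c00006ce1b3a304520812b42092000c0c84cc850ad04ae21b691fff20032b402b846d3c8404acfc04f1b2721022b3e00bc0db400040008ae011810367000001f4000400a45ab00e400e3c1b3c6ab0c1840d98adf0000002801cb04e82dd232bf2dd42b78000005100002b3d2b4309180044be542e382cec2ca82ca4ace0add05ea1f5b1f5d31f232342b372b7005c8adec83ecacd83292e2e20fc2b351c9c0000000c03148af00052c242c1d0afc001004c0002001b01720c04be484b38acc85562e2a20f62b3108c4ace083d8acc039706110f872b2f090c0000012,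
  nat_lit 0x12ba065d000302b8182c00046e406e38ada4a8d004a001700010004060a2bbc006c19900000000c18240b600022f5117a530ed06622bb800045a843320aed000016a1063d1aec181418180024ad84ad80ace000101300008ad7cad8008f2b752b7100010c7c000000047f1cc2b0710cc2a0aec00001fc610f620e71c19006c2bacc708692c10b410a862acbf24768047fc369436380004aea1471146b1794000005c400041ac07cd05e50303000006a804ca02b8003c00ec0048ad64ad5cae900011291013b01407e5865b85da82b102b1c68d42c305fa8ad58ae812980d110d15300a1f6620192b552b9c4a488250ad50473199e21162b530138adec845cad484b50000048d19071e8930d9028c123064187a200004444c0a1064c0000111103c82b08000064186391eec179b116b1169000001082b00000038e85df06a00002110d284c00000010ad2c6dc06dc8048,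
  nat_lit 0x1d501d02b8208b8aec88520ae042102b9d21492b800e5c00086d84c1fc81100010048ae08ae1400f8019cadf8af31b601bab30992b7d02c06db08508adf004f1b1a21432b7b2a280208809c000413d16f51c42000012d40004c09067b84f5c4f58674c80a8af20000004845200214ae2c8500addca961af2203f2b7601d00de082e8add41e800022ba5215122aa00d91c092bc40004052c705070307028a4600000048053c0780c3e484e8adc8a9d05782c4320392b71201caee482d0adc07270d3818072b6f06c8b850cbe8ba2800087aa1acb2e89000108740004278827804e5000010f910f8053443d85a6869382c906008adac723180d18140cfe00080a68000804c2b6b2b69000018d8c5387394738c62b448f48734873c394c7888c55c19a40010af0,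
  nat_lit 0x203c30ab1b9f20ef2ba104f01fa81fb44894ae806b30b9b0bab1caf00190a5000600132e4e332e2e55000119c800045b38be2c40284240000022802212be85b3004c804bc00004b200000130be4c5c70000047e2e0b2290141f143122e522e722e32f10000b1ec13135189c2be41ad0025802a0305000240014af8000e000006a01550b2488720bd0c5408361435fc00147f42c7d21bc21db32ce11e911e7000417205b9418ac1898000c1241d00092d118d000221c86618462c0004199182d118d000007140000bbfcbc1020c141a164619771a0220a620aa00062bdc2440842c0664066c80100014af631a920a6000408b466108008000c2432fca324c00020024083000000020072000220a5314c016b0175199c206921792bf0027d05292bd4bbfc5328302c051c001400049030000321e03fb04021abf30582bd082847ee07dd47dd845c8ae1468c06df00422b840d24180c00e8ae0c0a0,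
  nat_lit 0x9201d050e7cb458c7747634662cbedc5becaee87f62bba00002bb904e80000012000306d81cd6043230f92faf2bf8000405385bc06a902de86158afd0b961f292bb604dc00080014aed421006d51da12bb40374000449207ca83401b6f144611a92bb32a5cbbeccae4aec82142bd321772bb108c47c948184aec024300001d602ca305e80008001caebc01d10f61c8b2c0402391c2c30ed0002079032d8c0d863e8758400001ae000117f71d2420100d20000044244430c1bcafc17f8180718991e0531711e142bab2bec81104660c330aeac0020aea87e8307d1e102ba90840c4307834aea000900020048471c1ad400007cd00022ca82ca5070400041b1008843cd3099309f2ba4000019c807c407ccae8c36900042ba42ba208780000013,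
  nat_lit 0x66206e62188218b2bd72bd619481c3830c80008af5419d0a2100022bd41f3400083a08000835a00000e2f141d0c2e1f50b5681628161c8244c8d0c71841f441ecc9f88534af48b0d0ca90cab15a222b322f92ed110f721162bd12c301790177c7a887a6ccb58af40b0b2bcf32d5218921de21962bcf2c28c1087f9c000430200022e5933392d7f2c2400043eb0c514b0801370138102b32d72bcc2c1c3eb0c1900a480a44af2cb06081f108c1b4832d52bca00b00010703cc8acc74442200021b051b032faa0c0904932c14000472281134b041d1b21be2c24026431532bc72c0c72206abc74b0af1821f1c0d1d1f1d2a2bc50b9400100018af102ff0fa031190003000016f707852c08000004c000000052bc30b0c00100020c784c588c4306870af04b012d2709890985215221532bc02c0069a8c52ccac8aefc680314931c62bbe0ca00004012000206482ca92caa06380004191c19187298aff,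
  nat_lit 0x3105802a209980008413004a048d00011057029716fc00003f1c04bc3641052039703982c78038a21b82bee2c544380c23848c848d0afb40fb0c5d015a015b12332bec0338afc486d8afacb140002004c00083efc04a443500010fd5011f16fc00003f54c5901990fcf1094329732d413c521b02be72c4c2e88054c055048b0af9808c0c6c0c6d20af21762be52c4831b431b082b885d4af9044602ae21ad2be3027c28c02ce4000047e000017320b202d841462229e139d0eff0b3d2c446828879883881bc01bb4af84b100a2f10e210e30e492be019f8b8d450b03880af7c19611880e482bde01c828b03918af7410f000509282bdc01507d905bb02770279c24a0af70b0f09f20753075607ba2bdb0978b41834d834d424a0af68b0e07d133142d372bd90d18b4102498af602a92bd7004c000828883c1c3c18816,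
  nat_lit 0x11aaf1f56326e306f049d2c062c68000413e42acc2adcb0183441aad1f541ffd1f692c05023413dc2ac42ad47da0b01434304f21aab1f521ffb2c0502540004b01cbc308cd8bc00b014b192c4732f22c05003c000415d8b0102bf00022c072c7e33312f092c042c60b00c01200012c042c03083cb00804c0000039803952d440859225a1b1e149b2e9b2c5c424c4108113827540000b004b162c0200062c7e13432c782c01264437940024000c35e2dac22a323172164000100040cf00414040c8590000083a0001000904442ee0216209b000000120008044e044809ce2bfc1bc80c48b9e8b9f8afec19600002f152f1301d0000000147534aa900010dc20dc4013c3778406c00c800ccafe07e431321ccb30970fdf2bf71fa4b15c3f7cafd869e2e8e2e872bf508b810cc3f68afd021000052eb222a6146204c40010bac4bac80ba09cb,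
  nat_lit 0x4c0014be008d408d384b70c86452d8ba70a01000200001e620e88798849e80000000446b00002f6e2f6a0480466c5e305e2879744da8cbf0b068b1f04260db11c8a21df2c1900b837f037f48454cb90b060b1e07850dfc211432e32c172c74b29c87acb05802d11f73012193d3093120900002c70000400386a6848247d40000000c12c90c0205c800384b9c1df01df434ec6a6cb04c23700ac00a60caf2c12215874304ee8b0440f02c4702702c100850bd5cc374b03c22e013b013d2c0e0c5027ec27e4b0340090000190013700c44000001200020f490f4b13c718d6307f18fe2c6c00043d203d2c67e478e8451000000484af06b547b8c8768b02045c30d11a7921db2c0710ac3bc48580b0180181ed91fc32c050c58b02ccc88b0185a12c0b33212c060414c610b01cb0185f5,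
  nat_lit 0x206401cb2c39155c1dd80730b0e0194019a019d2c37013800001cb849004bc83a0072c1ecd044700212c3b220c2c362cac685c25f825f03f38b0d4b2a08b00ddc1d0d21fe2c340184b144cd58b0cc5a100022c3402410d440f6c2ca4000032bc2a280e1c0e240e1c2a2cb280e890b482c31009c00102d28b0c007d0d3d0d3a0eee0b5300000c840000b78c8b402d64b270b1d0a8c0a8b00020d3d023b2c2e2c98b0b40e54b0b40fe0b5503962c2c0508000c00002acc2ad84fecb8f02a602a1cb250c6e006c00000208000801300000ce02e2e14c1146d14b90e932c903bd069a469a08570cc28b0a0b23006906cc07491a811a882c2711e846d415f4720027f8281822781e680018000cb22196209e52da409e733092c2600021b3c00000132dfd22ed2e2300011d38b894b88800001c200001ab30cc02c20498810b80020b088b084b2107910db91c9221e72c200200b2c087d4b07cb20,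
  nat_lit 0x192000f1000a000c13bf1abe332b2c5626a87d9c85dccb607f04b1544ed1f9720121fc22c5407a4c3708558b14c00f18031f2e2c520cfc7b688560b14400e2f5c23941f811d91305200012cd4b8484fb4000029900000a6e0a7301400f740f64cb4c0000b34000000e81273175617542ccc039864541d54b5b06df84fd0b130b323215314a2c4b0f4c001c0000b12804e00000048001cc1246ed83400005174019941a50000cbf9056d033b433b84e102f54b31000112442f9614fa18c302ef14400000788c836483608c5cb88c9a81e221e211ac31dd10bd800012c442cc04eb048607d8c4854c2a4b10cb2f2c42000013de2e061b001df063fcb10433200051d6d05491014000405a4b1f80a885c9c7280b2e0000004c059c05a0b2246afc074cb0f8b2d0006000a008f01c72c3d1c1021f40c940c8c071cb0f0b2c31c31d292c842c3b17546f700718b0e8558,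
  nat_lit 0x2c9600c30cf10acd000000032d08000c3e503e6c80184fac57a83898b4100020f930f8c1d08175c00040120db410a41b9c345033982c6c2d006d24ca447d708924b1ac3bf1aff314a33962c6a0040067c84e8b1a4299079b218b2c680730b1e08918b19c00e1f6120232c660c5840801d2c000021e00021148114710b910b609b000040121cbe1cc0338e2c632cfc7cf0c9f488fcb18883207351f752c61080c1ce888f8b1801f9000100483a74c41083607dcc7dc8b17cb3e0d5506dc06e01f5520192c5e2cf43a348d3458ec3df488e4b174b3c000020c520c40c4811862f762f750ee222270afd05a12cec80c880c47f0088ccb17805e18ba1ac822362c5d0f5cbb3c50b44fac7c54c3980000b3a19270fa3233633f123a22f6f07b80ad00acf000000082ce40014c49c634846c02b2c2b34b3800041f69223321bf21be2cdc000c7dac85e8764447800011fd51fa51a4708da2db40b540f7818a12cd800007f506894083,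
  nat_lit 0x213ed1c1f083c0000461046144708402c4044b4b13dc1ec51fff2c8900a848a4bf38cedcb220675103731e22c8701d863f069ecb21828a1f5b22612c8507b078b8c928b21055b2c851fef2060190f19061a5c1f9d215907c107c62c842d2836a83c803c5c2e8c4fecb20cb490acc09ce208512d712d62c82245800044b706430817405c0b480001000012da18d84b60398039748108b2040cf2c85225c2c802c50002c00284b5c55820fd2c7f000003c0b9ac551c001864900001ac72e51045030f8b948b95400042f30000004c00004b1049fc3148b4714390d220705070419bc00002d18000448dc7ce87fb07c206958694066f4b4500000e810e8702c822c43950394480d8b1d806212cd18fd204e1fdd2c75021cb1e4893cb1d0a490005004800080304330036605204bb4034e82bacb442eef14fa14df150f0eaa0dbe00012d0c0f740f800000299,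
  nat_lit 0x59e05a631eb241a1811122412232ca62d441c84c8ac6efcceb480506a88b294b501f3621e721e921ea33d72ca4136864806a748a10b28ca352d2f1e3c2ca201f86e607df0b2841320001000807a32ca116d0ce0cb728b2801f0000707772ca00aa000000121806121a07760000110000080f24199c19801974385000103c7046e048a12f400000f1c19907944b4f0002000d154f1552116409102c9b2d3840ec2450b26822b077209122c990f4c002c197c0f0c68800042f97116f2d34000001231b8000109060868000001311640001000300070edc00000130001000e332011632d300000013000c334409cd09ce134233e312052c9012ecbf40bf3cb23c07008f308f02c8e080c27a427b4b234201000001301964390000003a3,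
  nat_lit 0x127f33f82cbf0cfc30f062bcb2f8018000a2cbf2cbd0afc0000c7e4715816631f823e22f4200012d700000012000211c70ce910442d6c8518b31c00003492f6213e600010b04000004c0040000013e201f80028001017f817e0b5a000130f4188f1b251b422d6400000121917242421f71e8e1edc1d2e2cb32d608234ce5c87f4862076b46f50b2c8b570e990e0a0053005922962cb1148c4ce44e58ce688a50b2c0b5613120e660e651d3e2caf2d5449104dd8b2b85f519e212d52cad023c6244626cb2b02201bdb33e22cab05fc3a6074a4b2a83d31b061ba02ca903b40000011cb2a4097004f2caa2ca9037cc61c7f24b2ac00140848b5419bc19b819b71a5600021fa400082b1c4bb41a280da0b5300010ac720e332b71ba32d4800002afc607825f,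
  nat_lit 0x1c0622c32cda0a644a78d058b3641e60508050d2cd80afcc0c0d300910c8dd44dd44dcc0008b663398348f168c1229122712260001203c5874c2a40000249000132e5142504fc00005650566020f32e31c131c0c2cd3227cc0a0d038b3480261b5722ba2cd101f4000cba943d4c07100000b950f842f5314de347d14da104110402d942e5831086e8088b88b186ae8cd88355cb340b6400bb0755075a0de80d582ccf2d8c30cc5314bb84b33819c00040d512ccd04ec00082fe43c6002fc2d205f6000d0fa60df30dfb2ef72ccc2d883740bbc836ec3780b32c2690d4a345a0ddd2cca0c14b324013000600484db07e5c877c82881d8c0008b6100010048b8202b440d200d2849f0000c000835d4b6000010d761a87075e2d7cc148d2e4cf146148613cc714b310b5e0d71328c1311131231c42cc32d74c05872b428e428e0b308a183367335d1d3e2cc110ac76f86f90b300299,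
  nat_lit 0x1e2c1df322e32cf714c04c80003c00006490002004c00003028300c51dc7bf02570b68104b104a217f003900382cf41f7c00347660c9984ab0b3cc4521835219212ae2cf20a80c10cd36cc130b3c4921327912ad2cf00d9876144aa0b3bc11e304a30492cee06a050e44aa0b3b4242000012a91c420d684a90c9787798b3b01242246245834292ceb0c606384d0a4d0a0b3a81cf0525051f2ce909bc4c448024b3a023a1aa21bea2ce707100028b39cb39815131f31c202ce50668703c8b38b3901f0000f2ce52ce3048070b88028b3882b900020048000c49582950293c3dfc30d0b6700021cd03039125c125e23e00004735067906a9caa000000048c850c93875c46ffcb3749f8127812731ac32cdc115cce2870647054b36c1ce,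
  nat_lit 0x3e120b8000401dc7688cdd8000c31613a40000000119a71dac000848904894619c618838500011a491f691f681ed42dc8000069246f906fb8ad61a452207220c220f22f82d0c2dc4c8546ff87ae8b42c16c13a01ebe2d0a02b8cba0d130b42413200000db91bc7231412ab12ac2dc036e8ceac70f4b4202d80dc41c382d071d34837cd124b41805f083000051bbc02620260039b2dbc0d30000071c0721cb6e000100001820034a10fc6088ca3871ac00000b70002082a146132da1c2b1e171c6a2db40004000018680e10d14cb53cb6c2d9d0001142c0004000027e08253188000100002dacb6686ecc2b3c7adc8bacb3fcb6a181722ea2cfe0c7c719070bcb3f422c00030eed21130574000448fc2bb40f130812479234e14bd1c2c2cfb2da448f080408340d0e4b3e85970eec20d122ec34382cf90e506b1468207098b3e0855,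
  nat_lit 0x2592d8d23502dd003f718a92d2b2df84c4062d862a862a0b4a813905fc1c6323202d2907f4ca8cd1c8b4a02671edb1edd2d2704280024b4acb498136000000071ee81ee722d8025f02612df400187b7c4f0483d8823c2a3850cc2a388238b7c00052316346c24a43097133a2dec00107b940e580d600824b7a000323181c5a1e391c92137400087b587068706c0bd88eb00013469231b203e2de400007b502bd88112d2101300008013000003ff1ad3056c10000f60b6f475e46c047b54b47cb7801b21a0813071df4230c2d1e2ddc002801300010c951b6e17d4000048c05b2c3d3304330440002069065f8d0688cc04144412c0000b76000205c12e08348c105710492dd40004170016dc48dcb74000018801885079861f870b863148c088c0cb4582521a561a551ec52d150cd85204cbac7b24b450b73227120a334572d13098462346224b4483b0,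
  nat_lit 0x74609d02d460b10ba2463f4b51422d09bb09bc2d44002400188bc81ca88260000074512d017d41d0c727c0000aca0001074b06a106a80a880a871cb12e100000209073d425b082918f523352d3f11f473d0d2b4d22cb4f8420347523352d3d0c087be8d218b4f01c7075a23302d3b0be80010c9a02d9c2c30001021101f30284102800000840010c1a50dc91a5533441c5c1c5b33951f881bee2d382e0c00f00f600a74b69c8cb8b4dcb8232d8207e2084133a232d2d362e042d682d5c724c57b86facb4d4a760d6406a406a30bff2d350320001c012000003151cd5223c223f1e022e000c9070b87ba8b4cc1cf1a1e18572d3204307bcc7bd4b4c4118232223242d3008a471a48c9cb4bc1c81b4434792d2e044862b862b0b4b41c50002004800140000b72cb7240ef060fcb7f,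
  nat_lit 0x2d6b2d6a00392d600778cfa4d2c4b57c26720bc235a2d5e047811888d58b5741a81eb81c1e2d5c0cb00008bdb891845888895ccf747e5000100481144279827a4b5702f40d92209119152d5b0980110c2b7cb56805018f2191a2d591d3478b08d48b56039c000006cc06cb0c272d5d0324362c2b8c1da01da8b55c02c2dac349f234534a2237434b220fd00012e200000012000000120017083c22fc1cec649cd0c07f087f140008b031b241ef834973499228100012e1c14d814e07b98000032900031a1809500951094d21242e18000868786dbc7c900011a151a131f20000068646ce040531dd19072d4d0b20b53004c00042f0d0b9732c610e4000412a012a801f8020c8644cdb8b850e8f0001000015586a4871306408b5243950a8203d02d480d2464306414b51c138,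
  nat_lit 0xd8411022d7a09b8b5e401303410346000001f8000436d436c843fc1aa000011f6307005841aa81ad0000428a31bd0ae300000098000487c02b80aed00000bcc0bd200747bf431643154b5ccb5c8b8d00000048000c77f88cb8d370b80c46000013310203620e51bbc0000cc3c19586881e4c1eac03510002073c77e80d3800041182162034e0000044800004d88c7040d3c6d90c490c4c2d6c02b0b5ac04c00002d7b189b0c50016063d01108b86c8954cfccb5a8b8c004e0009000d1ec91faf20f32d692e2c0d7877844d788950cfc4b5a0b8a027d212b213d2d6707bc0004002411b81b7036d000000480014852c85848364b8900030043040c07e8000474608d1093b84e48a71000000487454d3348ebc8d70b58420b,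
  nat_lit 0x706fc06fb0437047d2d972e5c299cb688000026700002e1d2e1c033f216100422e580a900aa489bc7e2479e80004b9504031e7b00000e5c00040ecc79e02d500000144b8acb89cb6441ab000800002d9003a4000001300072389002800202e502f242f082efc560cba800000b930001059a0599045400004b102a10b92149632e500000ec00004cb2c124012381e700f400001d461c501f2436d836d0b6205142d87014400081bf42e5031cc151c08d000107001c0802c823e82f60bd401aa4000409d06fa0b9112be06ab000003580004052886f8b9f817881ac4b9100000151132a0b18052c36dc36f04424b6043c3203922ec1cb71bb52d802e404b806ef48ba06ed4b5fcb8f1d500342034332702d7e0bc4485800280014b5f4b8e0d720dab11042d7c05c07fc86ec4b5ec10e,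
  nat_lit 0x102230222034f1c7c00000121277350a350d2dae1080b9008eb4b6b430204c304c52dac071c36505e38d42c10a410bc0004b9d00002dad2dae0c50000063c86ae43a6037f410bc89e18f11ab7141707872ed82432160a168925100ae01adc00012e707bd81f741f7c51ec770051902b942b8c0000b9b00010cd00038003e3433221c00001d4c1d5085142f5076623a32da7016cb69804c1ec11ebd1c6b2da61ad8c4c48e88b69422d1c051c0d1b4b00000bc80000cd847c70cdd484140f28b9a1eed23a90bcd2da3021000142f44b688304000000480008c3b8d650c1fc2bc00000e2032dd3498228c32a218c42e640f8c000c00180e24b67cb9812ef003500382d9e1b2c4bb08f880e20b67430300011e5c322f0d9b1f440000cccc7ad40ac1a25008600001f3400000914021c40531f5000600000b200000012,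
  nat_lit 0x5d807932dc4116cc2a4d4b4b710267333e07912dc304d8000419c8522cd6c8608c62b063d45c905ca45cb4d80096c496c4d8009640c73cba50006000006762e9019c419b4000830812e8244212e812e531c7179300002e8c00082a5429f406e00010a9512e807e400002a343f046a52f680d070d0b0f04111535b624b524b30cef07882dbe2e88bc8c6f987d8c56781e20b6f4ba10aa20aab000007b000088f088f0c66645210520c69745250ba0000107890759075611fc0000d47c94a8c27c7492dbb0144000001312b02526351c2dbb18704fa472201e2c001cb6f0b6ecb9f0db034cb23ba2dba0dfc67208d6cb6e407204d004d32db804780004013000207861c83168c2fe10e161d74000484f07a8001c4b470000004c1e0cd4d44f889540d450b6d0b9e1b9933a1253e255035132db31e1c0ef873248eccb6c821f2e1c23b02db10ba000104a08376c1e7,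
  nat_lit 0x65915c1016c19741330000007400020043047704607dac766876647d6c5000b770ba71efd1f021cb12ddb0e54b7bc8fa4b768231098534f92dd90508000400247a145ec2dd92dd80000000508d906de22a22e98b7648f988f94b75c374000101444910ccac7fe08930d3d0b758b4b1dd8238a2dd506e8000c26a826c00df0002095308d422bc000406f806ec246009100052dd32dd2051c789c1e88b74414107b007a02dd007c0c2d0d4ecb73c1bf07a807a32dce0ae40018012000404dd04df1a50c6c0c6d800001f02dcf2dcb000007f8c6d0c6c81e64b7280291e1d07992dc90d88c2b4d4ccb720183000f00132dc70470000817646ac00640b1f07942dc601dcc2a8d4bcb71400f,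
  nat_lit 0x4002006782b80809050b47c9838103808b7dcbad073507360e012df60e541a7c5800b7d40a0319c35682df408b8b7e89018b7cc0fe33682401240215fd2df30278530c54740ed40ec4b7c8bac12f703a903ab0dfb2df12978c37895acd58cb7c033605960509050f2def2a2cb7d49000b7b837300041dca3559361c144f1f2c000c0120000004c1dd0bc8857fc5b3889a0d440b7acbab159c30510bf333f6355d2dea2ea87708142414208ff0b7a432d33a123a42de81f34b7ec8fecb79c10f0000004809b014108fe0b7982601fcf35572de501ccb7e48fdcb7901220004140b1f671cca34fd1f242ea47d04013c00041db3475005000000448000011f8012c19400052de32de20e1cb78404c1936140d1d8434c3000500002ea02638924873640000648,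
  nat_lit 0x25338e242724282e142edc1e800f480f50909cb84c59e19ef19ed15ce24262e122ed85480196419588db8b844bb51cb2235b235a2e1004d074a888dc8db8b83c4bf107906ee06ed2e0e0d380f449088b83447e00010837083824b524c018a01890136e137335e3361d250d151619a90ac30ac61f702ed0000001202ce2e902e1500381fa400002ecc0004ca1074e477285120d248bb2000002fa02f705381484bb9c907cb82030f0ac50d13241b2e070b94035c14a8b81833231ae357c2e050bfc001866dc6578055000033bb120c1298000001200021f7e1f271f232a80000401230421476074307420e0d2e002ec47394cfa47e1850b09058b7fcbb019b21f641f67000000062dfe20bc00002c5866f4040c03f07c04baf0b170886000101cc0008b84cd5d096c4863039003904bae000100581a230f830f80088c0889224800000160386425700550e052df9206cb7e0051,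
  nat_lit 0xcb60cc022d422d324472e2f11087ff0b8b800001c6872506db24442e2d0ba0bc80d69cb8b02ff00082f742f76017400003544354c8818d4d4846073606f9000002e4000801300000048c468c45800380048b89c49406f7139c243b243c2e262ef0d0d8d67cb8941ee1ffe243a2e2406240f8c0fa0b88c05c000000a133a80ea72eec000005100001f8d00a10d68d4a8919890d8b8804ba2f1235982e1f00981be890d4b87855b0005000015da284c90c0396cc15495305bb0d7d0c1943a940008bba31253631310900012db800c448c00000126000107b907ba0960000009a400b4222345715d62e190d804ce890b0b8606d42e17014400041ea8214c51b00f8cbb9000007aa0785044b06541eb05454d0d08090d570b854bb8,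
  nat_lit 0x45e2e7602c8d4488f20d720b91c02a2e4f24642e4608088a70d710b91407d00000048c5e84c3c4c3483e05824b910bc000010031001000110490000000bc0188199002c245d23950f530f51059100032efccda43258325c16280008bbe1f6b064c0000037c49f44c1c0010000c40c0002064a2f2e1524000419304d482200000064a05f60ffc000cb8f4b8f064920ed15fe2e3b14504d74d6e0b8e80b92e390144bd202180000029300010e551cdf0d440000394c16ccb080e5705232f1635de24c335b32e362ef416fc16e07988d6c8b8d4a121295244d2e34095c0ff09134b8cc2c42f2735b02e330060000001331a525df35dd35ae2e321e34bc94d6b4b8c4234000001440000092409181ba,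
  nat_lit 0x2f79167a0d8c0d052f0c198084b4413024902488169cbd5cd858d6848ef0b984bc231ed35e62e600ba01c689208b97c727000101440004587c562813a49c900001f7313e102ecd40890e891f4b9704ba09f234772e5b000111acc79cd77cb96812b2e5e247b2e59080823e48ec8b96055b00011afd1af71512331b0cc400006c146f34aed036003660f6d23af2e57297427283a84b9585f50a9c13d42e551550587491d0b95013e31e035d62e5305fc3a2859e4b94805d0a9813cf2e51103400005914d58c5918bc1162c35b32e500d70b95891bcb93c00e0002004c0000012314716d7001200172e4d081cbd08d7f4d73c91acb93067e2e52246a2e4b043c0000013000000d830a816720f5a0f592fd828240000051,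
  nat_lit 0x32441d810c503ab43ab0b9ec5142e7a0144d060543082b83ab03aa8b9e8bce06323389057405752e792f341f801f7c3aa0b9e03952f1716d82e7703ccc8e49268b9d8138309f309d00000c7c0000c24037843870d7e3090148a237135f82e742f3037bcd564d5605064d550b9ccbcb2e73249613e00ba5304d17a20e860e8200012f2814a092a01484bd4c325c0000bc900012f2904140115011404592f20000015341f5840d054900452e7c35f72e6f2f1c56201aac1aa0d7c4b9b8bc62e82249824912e6d28d43e208f308fccb9b03751d9a3544243d2e6b2f141590d7c4b9a80ae0002004800000120004000331f5262331e80d7400081770bda0d87cbd8cbc4000009bf14e21b8c2f0426f090e0b99429931f135ec2e640730b9a49220b98c00e2e6924872e63043cc7bcd7a4b9881a8,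
  nat_lit 0x4000000ba2f4402e8c0500004302000108050a550f03054c2f7e2f400000201831200772fe60d3300020a14d2885414000417c08ea150300000584000c162454106230002058907ef0f4c0004be08be0c05d00000559055c103416107654ba382c62e8d0144001492c87a2017341724226000436171e951d9d04421efc000cd858db084e18128000224ad1e9d1e9c05e00004d85053f817700001e8400be2044ba1c04c0000047704c8017411e8192800043870000013000084d54191025b1b660000026718d87a1cba0800004d44d0180f912c412c01d3917b02e812f3cc2f4da14d828ba0016530da30d90772000214e00da00684000420a07770771000004bc00043acc3adc137,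
  nat_lit 0x32bb26a0161f00010214000001200020c1e0c1f11df161b1bc8000420081ffc2af8bdd00000c1c0abd1c88c8d864302f602f3c2f34bac0bdc0009004a2eb9364100ae2f6c000001331152605311a000300011e340000c1c4c1bc0740b041cf101d101cf24c024c2340900002f6800043ed43ed054ec5c940f6000031fd25f33116058c4e747bb07bb4baa400000412ebc363b1eeb1eec2ea82f6418f4190c19007bacba9cbd8157b15850bbd0bc22ea62f5cc49098309334ba943ea0c5f0c5c2ea40ec0000080bc54747c8203022570f120edc0edd17d62ea31becccf46a109328ba8821f0bb40bb624c72ea12f58c9a8d8b8ba802e8014f1e9e2e9f0da400087a4811483d300000758075404f01d94224041644d3421cc21c82140028c029ccfe89308ba74bd504cf04dd333424c424c32e9c2f500f2c0f3c76bc5400d8a0ba6cbd300003225322305384e8000008144d29c5afcc4683ebc71b0bd2,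
  nat_lit 0x209700826082030bf1e50000447ec30fc2b808a400000c3f0adf2f9c1d240000bb3021000030048bb308d486c4c7f104438bb2c4c82ffa1b161b141fc3110d2eca150cc600c5e8bb240000c0001d34be60744081908150e6411012ec82f9400100120000004800047f7c8f2459484598c308be400001e0d1cc31cf326507f78529c52a895ec57ec57e8bb14be31eee2346234924e92ec410b0d6e0d950bb0c1cc000307c407c80cd30cd020b62f8800040ba88c8810d00002f44161511f00ba4139c139870fc8d109390bb00be1113632c232bf0c8330bb2ebf2f8041782064205c511c42b0baf8bdf231e243a24e324e12ebd0db01c3c1c4c7b707b60baf031e1ae8364b2ebb06a009705364bae832c000000480004d1bc9a74d1e42bc000016cb21a90570d1b4d918badc12b2fad24282eb6156c0c243fc447e4539456b80008bde,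
  nat_lit 0x9620fa81d3000012158000c75a88e887a5c7a64291029141020b5100021d671d9e1c281d8d2fb40004759045d40e546ca00001a7d048202ec75988e788f6c92409440bb9887d04b42fb5367b2ee51084c514c5100000001c158019a4bec0007241d23c10f4e1090289c0e7000040a000031ea41fee08b108b9022800087a8c817051e80e64beb00011e98224422431ab21a440000d17409080bb1ea22261359b24d025072ede20c0bf2c95d09410d9c4bb747372416369b36712edc063000084dd8d3e416d00000d532efa037435341900bf9cd0840008bea321026781d6d00012a2c00103cd01c081c141878be900030f3504ee04ed139f1e800008c4c8c4cc0e5435800010f350f962ff00c0c00003cccd3c825b0a592ff4069f132d00690068348105d605dc369a24fb2ed32fa06fac5d58bb4c0df15ae15692ed21a7811a09394bb440fe00032ed1000704300000012,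
  nat_lit 0x3682258325342f07063cca489b5094c8bc1830c2f0a369e2f0507b8d0a494c0bc101f620db3528002c2f09369c2f042fe0000016c4199c1a9c4bcc4d94bf7049d000000050a18000c0000126cbf613fe21210004000208544f2c4f20bc00349207b196e2eff1a78caec94a0bbf81382f0236942efd08b87510948cbbf0314112202651f2834962380304907ba000b2efc2fd400145f309b34dc6c99a448203f8835243510350c8778bf4225b000033fa0408cfe80004518c3c71c57000014610b1c518885300008bbdc45ac2f582f3cbf3045c0b050bde30d815ae00012fc800000008718001d0000366e04262fac157515760da50daa36092fc45bc05bcc8c3c914420800004bf00000004c00047b0cd3c081882094bef00001ec31ed70e1c7b0481b87a08844000180028bbbcbee03f314ee2eee0650001805100000130bbbcbbb0000031f,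
  nat_lit 0x104a356725402f201f9891fc96d8daf8bc7c19e3018254d2f1e07f83f949530bc8418b0fde254c2f2004e811a07d6c92900010000471407a80470c44a844a073f0bfc00001c5905d10d687164769800f4bc783e704ad000c000d2f1d041c850400e0bc7030924a02f212f1b092413bc00e8bc6817d03cf00362f1905f012f000bcbc602130005065d0659115013147588000831d000101440004394839347dfcc40c42900000efb355702ec3bf8909c90a8942494fcbc4c2fc1516151725402f1220e8cb3c94f8bc443282f1536aa2f100bfcc08881780004a490006000434881eab1e6c05a305a706092fec0d5856f40004000c79dcbfa00021e76205b25b606ab2fe4000479d8873487386b2c85200001e7a027202c879d48de08de495b894d4bc281461cea2593259425352f090c38c998c9905000bc20212,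
  nat_lit 0x301825692f3900605c407978bce02bf248c1ace1c94000221c8822c6b44000411f00020596066d06763321270532a43000000409c409c825800003023353a091816408310832465b09594bcccbff1ad815f105e705e815b400012ff80568d2589a78616c000032500011b7b1cfc35952c9c00006d9c5b7006a33f00f2c255036d22f310fc816e0d7fc7948bcc06c33029255f2f2f04e05c109568bcb822e2fed25582f2d08b4d0bc9524bcb00fe231a247f2f2b090c0010185090f8dd38c63823c0b6200011c7935260ffc0000cf1019a015d0f1435731d7b36c82f282ff48000800c9548bc9c3e9061936f725552f260cd4817497249548bc9417608b336e925542f2401487d5c9534bc8c06a000000b100b22aa4bfecdb08bc8800f301a25512f21073000080a40c51036d024a,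
  nat_lit 0x1004f00500c860d9c000001205060507305725852f4f21786d080aec0ad020d8c2e87894582cdcb09600dbe4bd3cc0536e0256536f92f4e07640010000881308128c08c4460001204b2049302404ba021c0000d4e01414083204b24df36f42f4b29c8c09cdc8095f8bd2874404991fff2f4910181710800cd46cdbc4bd28c0420073723257736f02f4903b8c110dc8895d8dbbcbd24c032001351635151ffb2f4802588008d454d4507fe8bd1c0cd101825762f4704e8000c1aac09e8688000205a402840e18000046b843b83664367899b0c58c35904b00995c99582eb8c0205f13043256f36e82f441b203d0cdb94bd0c2581d9c20102f4208c4766495bcbd042100f9a31ae245900010ba4000819100328033c19947974929cc010001064634b41e831b821eb400000120643090234b725702f3d1170c0ec95b8bcf02991e4725702f3b01d0c0d495b8bce8298,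
  nat_lit 0x2f8025a02f6507d8000419c819c4dc48428000006910c8b04b81a4c9894dc60bd8c35914fc371c259b2f62108080f09670bd841c7258f259a2f601d34001004c04270003000000bc0cbc1974c1f8dc48bd84a4b2f6425972f6011ccbde49654bd7c15f0fa035bb2f5e05781d489654bd7405d00000e071d60096c36c436c0842498389650bd70c08349c260224fb24f72f5b0ea09530dcfc9650bd682f21d5625922f5904fc1840d4c08058dc24bd68096001605db201a35322f59301cd4bcd4b88050dc1cbd60095000002db1f4910402bf00b6c12a815b08e5c7a049638bd5cc06303c258c2f5608ac40f851b4bd5415d302a37032f55003c000883fcd5dc5e682d8000000481658961cdcb09628bd4c20b357336ff2f52099cbd8476c800043ba,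
  nat_lit 0x206125c425bd2f7e05a4be48dce4bdf41c200042f812f7c0e7028581be03e54bdfc23b2f9337362f7e08acc1bc96d8bdf404e09b725b02f7c12d403d0d86400003b5000217c0218a08f00004d56403cc34000002031202d058080d8153c1540bde04863562205a372e2f7705b094cc989096c0bdd83d7259625aa2f7502c800080120000004c000858a8d3f476081c30001162304da00272e2414a055d4d760bdc442b162525aa2f70003cbe2896acbdbc298149025ab2f6e07a000000008417c3af0004004ccbe8cbf800042c81f5c14b000000d78000001214a9250f250e25a32f690f54bdd496a896c8968cbda08ac24ec262725a02f670630bdb09688bd9831a,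
  nat_lit 0x208830bb000002c80000d62c15b415b0439208020a420a72f972a2c821897649754be588de2051371f253d2f950d48bee49754be503b00000004802581570c21c9758be4cc0d2fa737522f9200600c185ab0000435e000121d9277032ea0210000001235fb25d525d825d12f8f06c417c0972cbe382672fa2374c2f8d08d03bb83ba800002930000000315950ee11dac00000c787e305fa0de4cde48c408c0c30a81dfe00000b20000001221d60554307b25c92f88302cbe70dd14be1c2ff04d20fa22f8606c800000122fa825d7377125c52f850c700104be5cdd04be1019f250c25bf25be2f830678be5cdcfcbe081ee00030028002420713028000480dc26d897c8d744c0900003561205f02b880d8974896f4bdfc47f,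
  nat_lit 0x2cb02d22638254000c0007e0000304c00041af8d8a402004780000004819f819fcc3b0ddd8bec47350aa50aa6255d2fb00b94c28097d0bebc7270524254e000006ac00081974227cc67863d89240c12000109540142014010fc0000013095116b936db000a070c267848f0002405a0478307e00060c740004c0a03958157cc11000001e001e306400a08842c0af800106cb0762060f02c000030dd40a740a600ae400083da074d262102c000010c0c1da00af000001ba337127a618ef1f9226c037b926a4097200010002062102bd304000048008d5bcae0000020a1096e303c18780afc0af40c4c1818be78b2300ac34ed369400052fa02f9d29d800042dc81630162834622e8097e01e601e71d9e000130382db81d7800002990000053506701234c2309770be6c4731ee125dc2f9a04f4815419f8000412e,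
  nat_lit 0x303f303c023809781614de589844bf14c1b015a20b820bd2fc43068832898249828bf0c07920a927cd37922fc20d4880b4982cbf0402f2ff9260f2fc107340008c694c69806e1be21bdf1b791b78260a2fc03064bf70985c9830befc1ff0b6006b306b72fbe0a40820c8370836cde30bf000d0338926072fc008b4c384de2cbf002670000004cc5f4c6001d343fa49820bf04609065205fd05ff262623c823c5028a00003060000419140a2c4e51f2305742fc003cc3f94980cbefc04d050e00030006017cd52c598c090c0908859c0000c1700031685385225ab1ff11f0c373f305800085a0493788a14597494a0c15000116832756182404b4000001205b800a52fdf377f2fb92860befc97f4bee0075202125652fb7003cc29c97f0bed800e07b900000002305000000b680b70405,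
  nat_lit 0x202509561fc70eb83244000130800000013000003380ec20ec506e0c20c381438183ce8d07cdeccbf88c1f30de262b2fe108c4c36098acbf803970000004c78788c648c780028000813c17e336a3000600010e9c7938d924002000004bc14560000001512a4006001300160048000c013000016f01f25264a23ea23a1236e04053078da708c5c00081671f933642000105b83204da340000190000d000f0169188c00108ac0599062745b1877a8c1d000101305190de8883c4001c000443a000025180ba9020c7cf809a0c120c12409bc83c00014c1c359e200b24f12553165d0004130cbf7c83c0000c4731f2120f10002017426c0836c000440d0baf0263000235de20e80308c100c10800040aa026500001d5103c0839cde60984cbf1c0004446,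
  nat_lit 0x48000015641d1847430fe264d2fff1c9c0074c008bff821e0001004cdc685b4c4288ca8ce1707c5416b40064bff4c28258409c709c520f92ffc309c270426f084c8bfec212177c343837ce2ffa0764c3e09918bfe431a183120f52ff807f800200a68308404f003400070001000200031dbc000000040008845cd838c26000000012116002d0bdd0291000530940000845400b00008bff00c12114002b000137c7300102fc2f640000bfec0f02ff8000020382f600a300000bfc098fcbfdcc24028b0bd7002721112fef2e3400105ad487fc12035c935ca1db20000308c00043de479a07948c2200000f7709a311503dd060ac5880cfc0a030def4bfacc2116b126352fea04f843448390bfa418b1ba31ba42fe808645aa08470bf9c1ab16d526322fe61034bf98000011bcc2e40c500c60baa,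
  nat_lit 0x130a326af07c9061400000b6420fc29102d737f0301509600b0cd8e8c05023133eb2663301308b40000c04cd8881150003361738ad159c30ac000001335f53631213a214d30101e346f5c9990c03c14e20e0214b300e0428000801300000048c0881768001c002cc0341be357e20e420e120e8300c30a8c44899809978c02c18f361c361d37e3265c300c0184843084248418d860c03004a20ee20ed20ea000105d8d89086000000116000300ce01a900ad00aa20e020e630a40008033c17e417381bc000100cf070b008a04940000c0bc83a008300c8265430060208c0140511823366b187b0000046c00040511a57184b37d72650300306b061d4d894c0081930821265030011034c13c993cc004397,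
  nat_lit 0x16ff2576257725e32684302c0bf0571ce044c0ac36902f202f7302a06c8c0e0000050b1cb41c891c8105e20004000003ae329f01960192380f2688303730b80020806c3c440eb45ce3708000000080a1800142458c7186278d8909558dc30c2d0000313f1dd5019017480620000020f000100486288247024749950731472a0d4bc22d4c088c2c15e033ff33fe15da302106f88f60e00ce014c0807e6266e210b2109301f07a8c090e00cc0781ee0bda2107301d083000001cb802bcc120c118ae9072d00ae30472672301c010800008490d8d899e4c08c0452126212936383639301c0200001c84a0d8dcd8e0c07002e21213633267637fd301b01007e34dff4c06c0770000004823742388cfc899b4c06818a36fe2153364330192268dfac99a8dfdcc0606760000211e211b362d302101148480d8bcd8c0dfd8c0600ee0011362e362f37f530180188846c8460d8a899b4c05c04a,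
  nat_lit 0x4e204db303f009c83908394c0f82a80b81238f238e04df04d9303e18485974597883a0838cc0fc0c53043382a303f1684c10ce0a4c0fc105095d241936a6203a303f30ccc4b89c209a50c0f8a3516631f862670303d0028000001231282704385326923824303c30c839707a80d770927cc0f00800000004c00080458d090d08c5734b5200010117305a00981aa40000c1dcdb6015b01103820303901c0c84863bcc0e012b15d3372f303708080000c7a4c7a014e0995157100170016372d303630c40000012000105750574094c30c0000001233dc33db155515ee30331dc4d7b49a30c0c8075304d21643031003c55848470c0c029830363816302f00607d5062c8c0b8312000023e336d00164dc90836420c0c6a89cd89a18c0b4c2f,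
  nat_lit 0x226b426b6310001480004e128a1d0cf7874900003848150a30ecc158051033f0f3f0f4000030b900c3815fc0008406000337af252237950ac10abe0f0232cb0e0f30e80008216c21601bfc71f000138433860165e116800002164216010e30500130000004c0c6722ba304f090c0014de10e08c9ce49d2c9d389c0cc408c390004004c00043f9436702c308f3365e272a2775387226b126a7304c30e03f8c77a080789a1c9aa4e0ecc12cc3721b509660968030e30ed26a4304a182c6d445f14d288a27c9a88c124c361ede22bc3909391926a1304830d436783f9cd28c9a80c11c32a03bd263e30460ba01fb09388c1141b230493834304500045f106388d93c83acc11408730483832304402a800140430c2209b04c2a4b56000200484c54832483e42bf02bf89458c108c342146214c382f30410ac800bc00b89a6cc100376,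
  nat_lit 0xc2153000108047834784800001ec000103c803d0214e191c00000e980eb821704d607491d1d306602b0c19404c306c26cc306504e000000131713370d22d326ca30640608c3e09b28c18c7cd306a3860306206a00a58c3dc9b20c18883a3069385e30610ba00008e174df208548128000126c5271732f20a500000e16c006817730610130c1a8e164c184214060805fb000017d40000c6901f1829440e8c0e9030b4c3e0692262e225a225b22650221021b305f30f4d1e0e158c17800f0c413854305d0038d1dce150c17426724c237bd305c0d9800000510df73758000006e800002170d6ac765834d085c3473384f30590ca463f8d9ac841c9adcc16c0890001004c000c9ad49ae0932c4ce04cf8ce0c3c94c3c,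
  nat_lit 0x76600030fdc1dac000828309c7000415e4c96c000c80e09c7000207683118c92c000880e324b000215e4266800042708c44325700033248311428080008c920c44324f000315e42704000880e1919000109c11428002000002742147118b05f700040007310c000c10bc0cb419a000205f335a2049889485bd420e80fdc0fcc000cc42000230770c5e18f0c6a49480000422e0764233600000c500000c9105268685065ace3cc526864904494448c97b0789c78a472f072dcdf34c413243256b37eb26d930733100648895a8dfa89b60c1c804021bd30b5000101ccc3009bac64580dd0000449a3133313100000dcc03c4002000000ac000200485fa435f44bf0ce786e006e0c68d86264576cd114a0d868b08c180ce00ce40000c3f0001001000260338061400000034600c0db42bc,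
  nat_lit 0x2055631b538d6319503400004962078d8601860144e70000261d25e1382b12fc3ee03f0cd75875387578c288a0e0930381330a1000110740b7427e0e290c28032930a7270c309f0ca00c648c50c2781b311b011aa197419293559000000d8000c0c7037dc37e03480002031a22420e7c00000130057005d389e2706309a22b0c50c9d64e270c2641d9374d2704309807d8008001210562160001c013c5d480050c988636326e0012326115601e00003cc9b455800000a26326d38ef26ec16e83b9c00304dfc3b9c289494b077d000b174d18d8521c000095ac0f01d4b09d20008137c174a093109331f8109a509a4227516c0378f16c116c622051215311c1dc8002827a076e000909fcc7c800202d0027d000709e01db4001852b05a7000515f81da000103f8,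
  nat_lit 0x353c2656383b25ba272830be31483e64c9c02494d5349ca4c2f4c5131e027b127b238c4272630bc31407b0c823494b4e13cc2f003c00070e2f0e2c0e640e65313c00107d8860c002a447f0002078425dc03c400041df841f02220000077b12ff09181df0448cd4f89c749c60e2f0c2dcc4e0d560299314b38da272730b631340ce8c5949df09ddc9c98c2d4c4c107018621d5e272530b40c40c33ce2ecc2cc2e8223438a130b21c9c001401232cd39200f3b00011294000001200000db10a5f0a60342319de0f39312c36d075d475dc9908e2c8c2b8c4a352a399021951d8b1d8930ad3124180c991499189c3ce2c0c2b0a7000010144000c22d822e405500020a053154091859e09c60c2a8000429043be43bec59dc0d040d089db89e7897186614a008652c57c0c480ef7195f25a7382730a901100060e2a8c2a0a490a2e000a30a930a807f4c528e2b0c29c26730ae271430a60dc891703244c294054,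
  nat_lit 0xcef0ced1362273030da0000317cc7ac7bccd9cce3749cbcc364c5e31eb27c8391a39d1274430d831744fa03e2c0014c364c36004a30db274430d700b4c7c80000000863600020f8813e50a481609317028709738907c90809ca4c354c5b0dc624d33762210530d430cc3df8371837149744c34cbb51f2a2751273d30d21b2cc7a89c20e31cc34400b1da21da4273530d000d07c207c2c9ce4c33c03300000a1533d728c0294027f327ef323b3168000805100021ebc338b108904fc04fd3164000497b0cdb4142000036631ee5060497a833fc340c7c149ccc9cd4c328c58009e191104d604d322a0273730c9315c13609c88a024e494e348c320c5626c62549254d383b255630c731543f0c3cdc3cace340c3187be0b7c3555273230c50ba4791c79189284c31042124bc273230c305107ea09bc4c3082ff14c51ed530c10f14001001200023274092b20f1351410293150d464a46091807eb87eb092f096ec9ca4c2fcc53,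
  nat_lit 0x7b511ac00010570cf5ccf6c000019100020207020405dc000408501cb0ab700000048084007c40878c3c824d00043119267824b3227c4ee0866887448728dc909a38c3c4c62020d000930f130f02734078488689d6cc3bc89f0a1437fc30ee01d8c4509d5cc3b42012367275430ec156ccf6ccf64102000009e60000167904040c0459e4e704d36c2468000418804110633062e0916000009a8000405133f428dd340302de000122b00b6c00000014c6100070e7f239b2826209302db3180001814a814ac45b0134000517aa08040d680004c3889d24663801d4337000000010f3a22c00004e3b0c3a40970f4213da0001000030df03100160cb18e5209d14c37896e17a61da5275338e930dd112813384a489d14c370335210f274530db01a80008013,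
  nat_lit 0x1ef61d32270c31130594134408b408bcc448176379c213e3921311109842b0c9dd8c44006a31132778310f0dcc00040510c053753230b37a1268f310e0bf8c4f8e470c4341320007151d0848083e015c015d31980018546c7b681810003184c1d61167f167e1882197d319400043078307462e0597896f00000257025504b85a700054c428c4209561f7526f638ec3107074c1b0c1b2cc41815c0620061d310509141f1ce320c4101670ad124b13103068cde20e444c408191217826c53101092492049da8c40017d26dd276830ff05840008001cc3f824400050611322807580749178f319087a887b0d9bc00041ca1e7c1e6400000488000417345d2426cc26b87714d9b4c63000005cf1d200b5c17341af4c3e4387060b060f30f80b20c3dc04c,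
  nat_lit 0x25ef25f3240f22fd312b0c8400241b44def0c4a834c06bc22fc31290c80c4a001238fc06cd0001016c00081dec612860e0e634cb34c6e0001090506c904341b4c1b58dd340008c4940034a8607781847277920ec20ee312431b4c87c95d4dff00040c49cc48cc6c21af2340233f181a20ec312231ac1b10d6e8d6ec641c9e3cc484c6a35e635e900040ae800b47a447a9800001710005106d107027f4173e173d18ec31a400101ca08ab8549000307280bb7155000081814180c194000105f5002a0ffc000074d023a840d106525dc311b0b18c468051000506340635341b39ce350031a000005eec5ef007723d317900000009c00008f1823c423c8d6b0e820d5b4c671241124225d6311624d01dc4e404c454194183c277d311403a48b8cdfa4000431f04d3214400000604000074c08f08790,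
  nat_lit 0x20bd27b1314309180004639c913c39f172423fb24f224f13958314231d4e09492909eb0c504a6305dd05380539314012141704815c00006d40000004c3ef03f18279c279827ec9a7c9a8cc4f8c74355e3a2d3958313d19d45d349ea8c4f006e37323917313b009ce1fc9e9cc4e812b000101440004d2c0d2c4314000013a010a6253c4e2ce2707dc4dba0dcd4c4dcc730a5e20dc20db213f27a331361b5400000b7894f01e736d81f4026a331370cd87cd87cf09e7cc4d828b0002082209280c51286f29942937344931c8000401205381fb2285e28292302313431c413fcc8cca09c8c04c4ccc0b2542255723013132201c00248c08c4c4327000d04ce0001064c001097d8e2a834241ea0003126004c9083c000006e8e090757c75787568c7001b924261830241022ff312d31bc0a147c5c75508bf4c4b0475,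
  nat_lit 0x202227cd315d05fc3870e460c57015e267827ce315b064cc57c9f2cc56804e00001a17270f1f9131f86d3047a0479cd8089f849f2cc564c7d10c706d306d23937271a315831f0dfbc9f18c55c21420de27b0315604dcc5689f14c55421037ea24b931540e5cdc24e5ccc54c0093172390625e421442147207327c42746184a3969315331eccccc848cdd9095bce5c8c548c7a3203282a286728653971315131e41c041c080044c554c5480c800031dfc20340998000096344210148436d38a7182d0f01241d28a727bf315031e0651491780034c544c53c9a51df927be314e04f895a0e5a8c5341ab0005000425c725df3192022400082a642a7c16f8170030e0001202720111328078000008068858020f20261df41dfb19cf05420543314931dc97083b2c3b1c7d50c520c760fab24560004314831471f8c84f4e57cc5182581efb27b4314508c414d814ccc51022d,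
  nat_lit 0x1bdb253c317a2a280020c5f0c5e8097000018f60633062f1770000c051170d24f803ee000107f4cfd05fb00fb000002ea0001241a29d927df39940577057003e5321c000090489a7035a0ee10c1a0c1d2097317432180004c5d0c5cc09f0013062f0626155800443a208c50813c176cc85000e268c390639041906088c1e0c000000343a04647000c206d26b50e31175c002c89a0def41810b7900000a650c570c55160b3a0436b03210cd3084640008027332728be09b309b60000320c000436803678377c37900f600001274132b01a80d100cf44228dd740008bcd03f803f200010d245b5482a000002c435e535e10000253b253a205c3208e254000069a4319c318017f07840ed226073163000318eb15bd15bb217527da29ec35d8138c1536284e24030d753204818060586068a004e64ce60cc588c80339a0ccc19c70751074e277a316131fc39d88c00e1509810c58044918e800073160315f08d890cc9ee4c57822b,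
  nat_lit 0x110601067106e14cb30cc0000e1e481e40ae105e0ead0eac25b91fbf0de1000232402ca896e07ef8378000040c30000319303f506e8000437d0a4a8cfcc0600000004c37bc7a287a2084700004c8f1f9a1f45000018580000d06040e4d1285f4c2f1cc8e0006318e25aa2543376c2049264028343a0918ac318d32348270a2a096c4868883887df4c630c8c26c40bd9089d318b19d48d787df0dcb4c6288813967273b1f78318920c811541138c6202931f261f753187080c00043db43ae8301362c2a2339bb282839ab3186178c56a8e4449998e3b897a0c614c8b1a231c2f00073186318502000018309430a89b3c531830b4c8a0004261c38f80918c73c98789818010c0004c60ce698e6b065ec60a447e4c89096e17b0004600000800000052e87d0401103e414be14c115d2190b26e631800c00e3d8986481d09664c5fc8e01c32010c010d381a317e3220e3d882889fc0c5f437420c9209b2588317c27c07e3c9fa4c5ec06a,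
  nat_lit 0xe6a0e71076c509899bc001013e1a261a2300030e8c81e49758000815d01ac01a9000104f46514821c00000ed00031a6e3763264e392b3258000869b469b02578256cbd8000136912a621c572c9c00005d640d383511a6a1fc31fc431a931a8325400100190174c43536f30002000110e91094097d09800960325000008860df7417103c025f332cc05eb24832907281c31a7324c9584933c68686880c698c9231b239cc31a508ac9744a060c6903381c0c21b131a3013881bca054c6880e9000300480004948c96f4920c380000037ab1e4e04fcdea88490d2acc67c2b20d4f24021085319e0a3c2460cd1cc674076000135ca35c604ec00000510c330000169c15948c540e74c95c7ce000480040880830c4c91000501440014000841843ac0039408d,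
  nat_lit 0x762000012a4ccd8a3f4a3c0a120a118c72c9030d60102510861084220f31ca32803a7453d040600004c730c7246680eaa19a03673283e39f431c8327c405c87d487dc837016d816c80000c620003193b296e343f08e318f0219026a01e0c3278000000acded49b5c22343a90c9d00250d8f0d4d340f280939f331c721507fe4e250cfd00fc40fc889fcc718c9c13620e6f343e24b824b931c5326c8080808483f899c8c71033121b939ec31c30e8cc720a0e8c708338118d27ec31c112d4c8e4a214d8082b040000829000110de10e217fc17fb33ac08440000e21009d80bb21b11e211e23371231be326867149f9cc6f402f000221e03943060401ec167088648d9887b019200008c990cfa15442017064b000131bb32608788191c000032c00021c431c4121eb0645114c000482bc99b49a1007a00000048710071088fe0d21c0034002cc6d8c971f8b2143399131b507a479989d7cc6d01e80e460e4719420f81000118b013ac13a8000000f,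
  nat_lit 0x1ec32a4d1e911e90374a329885b4a978a190c79829a39483a1831e501c07934a184c7902031712286231e30804dfdc9f04c78802606e5266331e10aa0209820b038649988c7880cd0002000618211281221d32940004c784c78800305448ca4046f047000000003328c00186344287c07f00a5394d224300000d300004e794a9e48908440000027db1e220d446068386438449968c76cc920bb727b631da0880c778a154c76415f21d1285231d80f4cc7bce81cc75c1ab202f203131d60174d82ceb7cd86c00047e600032078262b222601ac0008ded4a46c6008ad40001038a03881d34729076746fec6fe8a7306fec7660dc0c76847680684834bc3488c74800040e58ca2202a202b31d101a896549650c740a8a0f3a000000030003000501e532840010359c4268d1a808400030bd00bce3337046c00041d9c35883d3,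
  nat_lit 0x3623362400010a1845384528000012f0024084b08510e4400051287000032b80f7000044a2863903dd000015d516500000c82c9ae085100f7c0d2320a26b72143000113ab32b4819400004ea4558000100003770284c7b74ce7c0038c7f4c7e80800b1921f931f90380ce6cce740030c7ecc7e4cac000201f201f30256177000003d3843887b18ea5cd0202db4cab0f4e168f1b4d35050fe5000132a844588c8cd29800000b70000332e0661067137990fe032a4510067b867d8a3ace8a0c7d073a01720176000531f431f331d8e32495ecc7c80fe1114214431f1090c3f74e890c7c0181000108ee12ac12a6278b207e32a07970c7bc0000ce44ce3c08d01ee01ec0000016c000001204fa07633a1d31ec2378153887b4c7ac3b03917257231ea0dcc3c483c449878809000000cd000701460f10261d2023329c0000013,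
  nat_lit 0x23f00070b3008f00018278327d000515f808ec00102cf023700030b3808dc00082830234000109d008e40000415333a1a040bbe0bbd0012023232d0cb64000080e2700001032da32d832cc13341320868400041ed33423341000912be391d32c800208660e0b8aed32503a59289c384d1eb1000121284f10a260e9302ecc2e980000668000234130fd80fdb1fa31eaf1fa8c850c848000434900000b4b122d04e800007be00054cb11efb00000b4a17d43be8003893d40004ccf4ccf018987f112b439130000333c333732c018a4000084688b032cb000015e485240000cb2ccb28caf19d8002c000103cc9488c83800000f003a60d4600050570cb200f88001024508570851000307740bc00bb4000820a,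
  nat_lit 0x14452180004270835a0b7e00021ae50b951734003c00046a70cc000001ae334460610473000000010116000700480010000c489c28611ca0b75000000bcce10a588a5dca1e4615c5cc02cb813845d7c46c4c8e40000cbf0028003f13e712c312c41612161333aa07c817e911b0323832f8487448a0a550a62cea58a4acea5c46ccc8dccbd338629623a60277a11aa323632f0dbbcab6c7b38de6c46c8c8d4c9f11c7350410f010f311b2323432ec44e470846df05a84d464c8cccba00001f20159335be29f834ba32e47c8c7cd43904391862380000cb8000214ff1500352d1247188d32dc00043c702dac18b0000375b368a064c00b884eccfa008e0000004c009c29f012c412c812c01a60fd3000039d003c801540144013c558c000004003cc00020050004e1562034c00840f3494385fac25ac234ccb6002003ca2019254c012732d4c8b4c8b0007c55822043344000617d405ac0020284,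
  nat_lit 0x101300008e3bc61d48b03525107500010e8cdcccdcc8000004e23eb19b60004025c5934000005e4a1300010781078407871302028c05dc00005bb4554077f078207850001328b02844be0000066bc5f53287000020384a800018e7d0ca18cc304bd00040f8412f4000c3f833300002142c12e000043df04b8000009f8e388889c000012dc5ac0009140b06c106be12080268c9fc000057915fb000019a4327e33082e84000866946390ba00000186033048f5c27a4000c556271f340b000203c00004d14c4fbc5ed279416b51b8b1b9015c600041ed82e6c57d05c60000ca9700023407221c023c1cdc5c8c000425736173615000003f80004d8005704b4d,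
  nat_lit 0x378c379000000a641fc81fd856ec56e88a104650000c00046c20ccd000028072804280329b133e0333096ec99449e1480c452ec000cccb12a312a814bb14bd00020894465c4a944a9c52e80004cca0000004c002859a8ed8852f0cc90009167e129d0d44e964dd006a40d8305068000c91737ee0004000203ccd700d6fc00040fe391b000114171560c9dc89d8000002d000021bb272f328200c31dbc8374000450508b0384900000fd2165059e00008ccd0012c027c02e48368cc80001045221b7272b327c331c4ccc000011300df044d0000152003c00004d0a485ec55635e435df000006ac00004a1c547881b0004000a0f3d000008200004472447147c947d4cd3c4cc60000222616d822f11dbf35e0244005c805ac2980d3b8ec686e24a808a814a80c4a180000cc509e900121284013c0000e5c8eb74a858ec5c49f8cc4191a19151a66220d10ca000132e0e3c80008433013a,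
  nat_lit 0x4c0008a09499d839c039bc04b404a8325ccd600010c430c441a8a33bf0260000031045f6c5f60b2725b932a700d122a1329d02904fcc4fc8a478ca701ad0d482631262b329b0f68690081d48a80ca683030acd0ad0329901f801880180016800082550e6100040001068c7548d27c00001831150358036033b852ac735df143b361b2ae73b8b3620000233540004d274d26415b000105b205b4078e33e83abd3b102a0f2a172a14349333500000303c389839b8d87cd874cd30c080b460b3f0b3e02100001334848d80830000031f00510080007b057001402f2c3df42fb004f0bcb0ed6092401382f2c4aa021a0bdd0000249e18e4d0bc000c579009e000215dc000c0004281009000003344d2405dac00000004cd00005000712ab12b112ae1c413659333c00100050509c003c02344440003329037e615580004cfc4d9d0abe843246dcccce,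
  nat_lit 0x232bf32c0001c220203d80004004003400bbc113000000110e061aec001000000294ec6ccde0cdc27a6001f32bd32bb0003336c366c3674002c00086cb00161a9c0006000103ac17b8000c00001ba335929943b163376000133681130000000140f00005335929923b1433741dbc17c018001804000471f00011530153339621982197d1a40000054bc54c442a442a83711b34152e1541157d3766293432b1336454c857b08ad8cac049c03d7000832af0d244ba487fccab825732b3293132ad08c4948498f4cab03143763292e32ab08b0db90db9c00185140d530d5634df00040b500004caa800303138313c0a30004391f248524872885330d1368ca9c000c8f90cf240234cd832a732a6000223e333c80334000426b426b034f0967000023e418970d688f806a3c312431200018ca90ca8ccd7263d263232a22a28001409200938230,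
  nat_lit 0x8f405fb00010430277817dc000015100213a7a064705f82c24008050fc2bc42bcc350001f20b420b32c202f5063703798000428f18060de0000001d80000295837808260a570663066929d81f911ac11ac3001733906d98a578a448ebe0926400582fe0bcd17d1001502c80000004c2f4807d00020048000006800678094040a33a329c80aff000100090d7f1ac51f6d376a338cd4686f80dfdc73b0d7b4121c0000ce20001256439b70b3a0afc33840018000095902e325620d2b000005440004e52c34a0c0f0000246e2480079891a863c463bca5888be85d005d1c0024ce00133012e2295173f17460008337c33f899688b40001c4bf0d76387a20a4000603ac2bd450a4001407e15c6364b364a0001077ce09c57b000000270001248715ee01a800006ab431a46bb000100040009336333623378cdf4cdf0000c00200010cdd,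
  nat_lit 0x1004920d833621229a3af433b0003c12582a94220000e04940d691208e75400007d848b00001341d2558019000102ab0d2a836900030a9f385520000000d53c3a080f70c2211902134201c387927bb3a7e0005133022b47ec88f2835cc35bc0010c420a9b065d06620d6c14f9000333ac0008d0588b5c0680f9f2784000101340f489e1000002460000000233b033af047d1ff8200033a80000325c3258015001480031adc242d004c32f032ee033c00e0cbb8cbb408e000022f332ec2c509854000058a00f2156d0034226e18e4dac0ad4cac28ac64de44000030d40008dd0ca9d0d3e4ce90c34000137422b812b3e3be12b8e2c062b993c13379033a030c8000030d8ce70c2a000113050c331390d3c0d3b000004b91301354e00000009386720090f0a0f050f3d0f3e0c2b339800142784e3f4a3a09f943bb4ce50029000403f02f44387000006e24cc108f700000afd0d244e64ce0800000f2,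
  nat_lit 0x142e09aa09a60fa90fad331b33e03604eeb4a66ca670a678cc68cf7092609a925661a422312331933d818d0233c232c3ea43ea8cc60cf50000004800280d480d5820d000101d325da3711000f001033d07e180000e99c24501d125d837100c1a0005000233cc0000314c6c585dc83c383c403e389344e1e8cf20c4f29653ba92936099c099b230a331233c40600268c267426688c24cc44cf009f414f608980891331026b8654465e0225c2240cc3ccef186b08be0898088f330e103c3da83da43e703e78cc340fa09f309fc0b49330c05580704d8fc73bccc2c00b150a14721471330a01b07e00ed10cc240b2093015fa2aef2aed2aeb16c1139a139812201221330933b8dc5cf060a634cc201ed18403b42330701c07dd48c34cc18203187f2258330504ac7ddca628cc101f9006533073303156c000c01336bd36bc16982a0b2a0c33f8048c048f200c3b1d000333b4d8d8d8d03608360c80040008a950f961a4625572551255000013124d21cd22824d8ea68a48c0000915,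
  nat_lit 0x2282027e5152904cc0004a06c80043dac428000028063a1c217f0bd43e783e7020305308ccd4c040000027933340e4c09dc0a7c000008f0000000105600d800014160415fc6a0c7d400001d5036750150000001300010008080a080b03a800000130006145b0467332d01482c2c1188ccb006a0b640007000414591a8c227039e625150e110e103bc124a533ec000c01300001df21d3f15246f10a0106a206a28f15ca6c0cca4cfa18fc241129af33280638d954ad247434cc9c69518f023203326045463fc742ccc941c70b5e0b63332406100030cc94cc8c39c00081491058c17b4000ccc885228521ca4c4eb3ccf9000200481cd0882c0004001049e00031a732bcd39a004b4000869c869c069b0aa000011a7020d120aa11680000012,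
  nat_lit 0x20003217509df25bb35353414d5e4d5cc3348e848eb809f6c0000d040003100927e017b0000801a0018448d00011005391808c03f90a5f4016801b0ed80cd40d0310043b5d334f04f81650908ccd3818b0fe529d7334d05786ccc000c0db88af00010032003704fa21f900553408000000c400b016ec1960d011a9a2b6d3674144c07d100043400ced055081f38000c0000af311ea1545154607d300022f3c3cb01f20000402f00010e18058a1150000068f41f1005b1af720f420f32c0029d329ce33442eb86f8c50ec510c5140ee0ccd0c73a005d3b5133420508d10cee04cd040090f7b2282395e3bd810f810fc181c1b672baf3c221cdb2b232b212b182af72812000133fc384000000e280df0001250722420fa70fa902a00e2000009410639107902020004333e038533f8941041e00804000cccf4cfd33e92a250a370001065c00145a205a308dc0e5d05498c8a00041c0e164916811ad90a3333f0000c382038188a00cd78b2c,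
  nat_lit 0x337a29ff336f1078a5e4a024cdb814a00090b27108e037c4b3c89f8000039c0003291e287812fb36642053204a343c00088ba4e71c15e000124270aa813f40000a4708bec40d1aa42ace3bba29f629f5336834382b6c2ba46e20001c002ccd9cd0d1aa027eb27ef0017336b3366334c6a807f2486200060cda8cd94d0c257c22fa22fb000500083364342c000467d86d881740808000019b51915016c7fd0875ca194000480714d6286500000ca00008861027b896480cfc0d0cd0a00012182218b3bf51adc22f53424000085fc75f4057000f3361335f0d80cd780510007336000151ab11ad709493420000001314633ad63a91000106348a488a3c000005a000205a00e30390b20ee254726fc341c0004002c00181e20000059c071f10340048cd64cd5c387335601300fe0366c3fb88d10d4d80000d06,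
  nat_lit 0xa5200000006055d22482a7d343f346400141574df10659c2b942954d180002004c251cedf8ee7cce148c9353c3c282a18338407445618a024ee74ce0c1c933892a17338210781560a85cce0405035190b680b6700011b9400086ab46ba06b4cec9022a8d1700012a121fd738e924dc34580000ef281ec81eb87ec337f0144400865eca6bcb134f01ca0440000d1500031c1416c716ca07670765281234500008583458440a9c1c300010d0f0d0d00302bfc00003c5c268845400db00e02290025d33b03bc3337a344c98a09894a640a6546a8ccde4d1206af3b8e337804f82858a6f8cddc17f337f2a0733760e8ccee4a81ccdd43380d0c2a02337412d400003d3410d88800f482a0033732a28000005133a83bb9337204c8185c76508bf8000c00001ec8907ce93024d424c83704d9a0d110afc0ac70ad2149624643bb83371344024082e68eedccdc0209,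
  nat_lit 0x10f400000a0424a8001c01f8dc5cdc58d21352d352c00010af8000089443fa04a600030048d530000050b39ac000006fd36283c6f2b803c78366611682b172b09354b34804bec2498d49c000c666c89c8d1f0002071b06ce01d101cd347800042b642aac01d04ad00000bdd0778005107a866580000d48c13a00030048000005100000a160a040bb8e66489600038002010acd0c0d0a8d1d199619970572056d000d0a7812f000142d3345e000409fc141c000c3f60509000214ac141c00042cf050500000b382440000c140cd1c091200020b3cd45000042ce090f00000a0c12f412f015182c800008243cd1b0ee93c2d224c00010a80eedce62800000723511358818e900002a7f224a3468d100000050b,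
  nat_lit 0x2004812bc1cd81d500000048404980488a31802840268129cd300102068837d01de637fd000434bc1a04000c19ec19e8aa01a6429102a2b3c6f3c370a410a2e000734be34b8167c00143f937ce000415f81d34000c2cf074b00020b381380000428119000000105419e4d2f8ab680000289016c81664d2d34b80000142c007cd130112c0000e110f0ecd2dcd2c353e00232558252f044334ac0004051000108ba18dd192422c2086e086b02a802aa286f15b934a80000d480d4901ba08bc27fa29532319231523140000353d34a40000387c388c8f70a2b8d281aec2c1d3cc11b9a03dd0358035528963c1a34310000353a349cd4e400002c600fc0d2638ad38a90004000609353538320829a4dc388978110c000864b0d25000105bb34953c1d3442043434903e8cd8a4f1e4f1f09150b0ccdf38000cdc70556c29c429c8d2337ca37cd00022bf5225b04401c74dc80000050b38a31c78244e1dcb37cb0000371f3488dc68000c27f15aa000214ac43d8000457e,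
  nat_lit 0x36bf188a120c120623a633e12f70265ca3f0ee94f080a8eccf80cc600080048104c104090e03f0c09d0001c00004a40cc422d30000069000081f281f4c4a8c4a74aa149054d35000128c928e70bb85dc87110801c8024790878f8f2c4aea8775898c092209228aa7caa24a9c4cf74d3428c32957036a036d33dc32580a4c8c6ca17ccf6c1173b8c23352a6e33da0fa809b03edca9b0cf648de274223073b4d33d814c0d070a9b0cf5c3b0057d20ff33d60074000c2db08a6057486a9000028dc3b8f1c021660165e1666375f3ce12c2318051802143f1437160a105334cc9cf43ed03ec4cf509ef35153c5f3c2233d308242d9ca7e8cf4805015d73b6933d1071c011cf024cf4074d22ce282933cf017cd5600114a87406f28101c7700011b500004059401002548006c0c2cd320000004c058c00f8dfb0b194b198e090d31000021b72c0f372411fc000405138543853354e003439c308b81864251c00cc734c181,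
  nat_lit 0x4c0da8410840f8e7548874886ca77ccfecd3d084f24ba247d33fa17dceae8f1c4aa48cfe41ed2849284a2a8b33f80a6cedd0aa3ccfdc02704743c4c33f60a28d5a8aa30cfd42020fbf000128b206e806ea03ca24e934f031b889c49f2c00085f6409327c6000116c6177c56c40004f110ef58a558d8b40f3481417a7000027c518d8eee4000000105f5000201c923503b1a1bda34ec000435a035940628356000001d137100d6807240734573051e45e605f685e64deb87b008c4891b8cfb0d3a17a109a23582108e109133eb34e462d0f230ad08a9fca9f0cfa8915000308e208dd0da844e4ef188454e624a9fccfacd382938293728be2a7733ea01a4d1b8aac0f0eccfa4486229c2b372a7b33e804cc53f8868ced00cf9ca340691219b2a7533e601b033a033989ecca438a9e0a9e4cf9800003fc447fc47f8591cd3736683caa0df8000112940000012000112501204120215d71d970df634d8000048fc4388071,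
  nat_lit 0x4f100b80534a0148dc88b0824e0005cd254d46093600163498166064e8847cb2e8b304e1500000d453490106a0000166000000121068270010ad000019d9385135106758847093188af024c8003cd430431000a347e01700000d50cd4f432700000048459c9fdc9c28000029b0002225e3b370164d1e8000050b1a41047c047a0a4d00010f0b3479350800003c1cd4f43140f0c000122590b1c0024002cedb8edec0028003cd4139f90008042f174cd1e0000027e2252000104110a08d1f4000027e39ee0003041a09e410cc00083e0043300010f7cd208000027e224a0000347f34813500000800182164897c619c25fcd618d61c0674067806b4895cd3f1052347d000103a40000001474449f3817c43878d3e00040748041f081000080a340a3c12e,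
  nat_lit 0x3c00927000001640004001c0898455000300000008003c00246bbce3447590620c5a24d0ccd503c241628110b36e314c33432353c0d245a24d0c425813ff168434300134df04def8d0bc31f0f8215eb0ba6393b2d20394716a037430000000338cf3d431e4c376e147a1199353800084fecdd140d0c0d0826a00010048d498a3b4a290a234ab08d0b0bcc1af12aec2aea2ac92ac1342b29c0e31cb3c877e06dc0aaf0d0a89bf3a4c2a1d342a1684d0bcaaf8d0a4b14342f2abd34292924000809c409cc2dc000120be15a50a5868b06ad02108212058440010d0a0a1ec23e023d0d09cd4d20bc23a43594342635300000012000316f118401c820cf0352c0008deec768460d8d4a000116ee379801bcd8f0ab7491e091dc986854245410e724d088d4916eb37b81f7618b82ab6342135201af40b0842a0000c2b828b7228500020094d244000050b0dab28033b80000234983c8c3490351c0004eccc9ae83a4,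
  nat_lit 0x24301ed2e48092000080028116000634803766216d3a5522e1356c001409201298ab7000400483d30d12c00000f00dbb3b2e000002380010d128000098208edc99f2607022f00020003344935680910502408e000040b0195c36820000013c0000d118002401880194d5900001c3c1c3a0f4234440188edec8ec4d1140018d11008811961195182d22342369000335600004013000214681469146e3ca41032355c0004519cdda88a68485cd0100002210274123673558e8588848b47cf5688908d0fcd5500001c343b7423aa343e3550f044d0fcd0f834910340fe000000578000c36e83f84309000236701f250514000436d840c83400f2e36a336a60f57173a343b354c36c85c90d0e833f000a16ae34390c480000000cd6c0f37864280154d5200052ac12b9f2760247a16ab35440cb80008dd3c5bf,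
  nat_lit 0x6b6000f0fe01acc003850d06ae000d0b381ab800303f706b4000b0a0c1aa80028cd1099d000c09e82674002c3e20993000a09fcd7b400242d00997000809e0265c001c52b0990000615f8264c00142cf098c0004142c263c000c2ce3654000206a23588263000042ca098d00000a0430b82c8000002628d612228000118843b8e239a3a9626dc2393279c231210b210ab197c22200989098b0b1f3580a0ec00006b78594137d0002283b17d450b400a806d800001ed0004226537e913893c3817b2380c2cdb3d7f2cdc3920357cd16c000480e345900000b48dd7879c8785c6834e8dc0004d160d5e0000225d3cc43db83db239403574e8d4946c9454a6f4d2f40004d5c00000048d148000409240f88173,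
  nat_lit 0x2621261f3d1b00091dbb04bc35a81bf89d48000005900020000275a05641ab41ab8114800080004d6900001a0f38b8058468341cf000082580454073c00010b106818d66c00002433651248c000016841ce411a8ad6496f49708003ca664d68367c000015e4f1f80034922cd9ecd671b3b000c299a18d821e0001400004061a242d3538dc00000a5000041f1428bc34606a08b52000035ab35aa056c1f0c28c42d8856c8d69c1ebc7a40df880004d6605df355d355f058e01b401bc01aa00003594000c2364a16c764c5818d6400020408040416f4000423585a70137000008d4168e090c000091f4d90c09f298a00010927040334e104020404358c000024885a5896b496c804809270000298c22bc2cc8006089100df06bb001309e8d5d8004827f06b500110b301ad800402cf,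
  nat_lit 0x1cbd1ddb3b480000358935d8d61c000080e3b461dd91cbb0001263d358635d4da90f4e098f0000013d4d740184000215e0d4e0000480e04f100000a0c98e0f4d0da800008ae34d4d8d730c7e00011106156031f0000002bc8af352d00002038da70f4c098d098d80048d4b0d720815001100ac22c076ec0040440463636673664000c0d24dd24dd1c000005a07770007000205f000041db01d603cd1129112400011f34dd0cdd000000234000528e528e62b422b402b3b1c2c111d35c400108d348d64f01cf07c69b0d702664366300000003162335bc000876bc36a81d240040630000128e11ad707781b280000a3881d3435a161f001800013658365935b8593869285880005c0000d6d3656365a0000161d001635b097601230a8640030b068b05cd964d6b351a000115e412f40000577,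
  nat_lit 0x1da500001a0916506c0c21a821a000047684d7e000327a4150014fc361b0188d530000080e3c9900011132354b35f46a500000a06455427a014fc14f8262a0003033cd5240000579243c0001112e354835f0deac00006a40a1328ed001d01f6020514f214f4262635ecd67c994c006804e2a32079607940001190119e8f2cca8c41e541e4c00000d0189900002a141650ad180000279455802ac0c903b7f3b7e264d00142b4435e8000401300100c9f26610b3235e4003c3288ede4183061f000e0c8f07092bb40034323cede001d03f100003c0b03c0851400000fc863925a100040c8d22bc21486bac6bb4000453cc0f927be00003b3903c80000213821406ba46bacd783c8002cc2bc4358d00031cc13c6335dc0030011c00000008730076f00011cbe018f0192004510240000602425c025c4487,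
  nat_lit 0x9c22fb3af819f519f834ee362462bc7f307f4c7f34f530d3b4d8839971f041ee138ed19f634ec361c000023dcf198aa10d8608fc11311693168e0934000036140000060c061424d084d0a2e1dd924d339db1d283d4834e93610d4a0d4940d6842f0adf8d3a0d8324021cc21c7e24ae34e703d8865cadd4f510d3986c308550e2d34e51558db887990d39069e14922b7a34e304e08dd4ad48d38822e0df619e934e10134f2dcadd4d3800fe2557255934df0c7cd8d487bcd37800922c622c11d081d0a370f008d36080c58509450a47ad8e16450100218d81182c37e5008506043cc001fca6803fa88898130097709af00890095009402c13c9e0cab007036002e58015073e45580849004625c122bc9f7c0034036c8b0015f00010dea156077dc0000dbf8cc10de528b20930092d0001032c9b84000005705581df400001da7165000046c1421b021a88d14d7f,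
  nat_lit 0x17160dfc000b000d000b0dff350b3658676c67645828e0cc286cd428d950000142028ac19dc16dd16033650507ca2acaad8f60889340008d9338151ee41ed915cb00000a98001837e037e037dc635c64485720d9200050df81b8d19191d97224a3644001037c400108af00030df811fb1f24000837c000080f100010df41429090c000037bc632094f0df518121815181413c929cc2b95262426262c7614e435003640001862b842504234d3fc44434fe14e034fe0dcc0010e3088350de04420c49e449d4d8f0003108e108a037c0008423042240f2000118a80001253c2424d94c4190dde031e031d877185b9cd3e8d8e1379072b072e0f4d0f4e136934f93634655cf564d3e400305654d3e0d8c174718e82d2918aa16e734f7362cd3d85b946e745ba0d3d873718cb1d4116e834f512b4e640e6445b98d3d030c14d816e634f30694378c5b90d3c820c000400480008026812840fb8d8a00010098157f0c540000004c0c38291,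
  nat_lit 0xb800b860b8311e7352836702e3c46302e002e78d49cd9b249d2a1f11e411e53526101c3558354c457c4790d49453114402d1037e0352418700cd80cc0d48c01d39852dc2391c12320000000709cb09d81c7f236424c9366800002728da609c54674048dc65e000100001a34000036645e5c2724000023000010aec151209c6086c00002ba856b425b0aeb0aef10c810c7351d111056b0b530e170d47007909c515c2351b013c001c0120005004c2830283c75b0f964e51c0000661000539281f4c0e5705500010284028441c100031a4629600e8800086918136068100011a4724a90f3800006914740c1c5167103fc03fa0c350c332b8b351236606cf839c839e46dc4d4440960de20de10d1e0d21351002f86df439c039dc6dbcd43c0cd1cac2ba2350e018c3968f5c0d43410500013894389101d0f1d89954994cb000a7d8921028a82890d430d97,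
  nat_lit 0x23c42a6b1e4d20540e49000336a013e813d0d58c06080008056354600190e4900011b2c91cc913c391c00003d7397b3e831eee37b6102a2614260b1cad27a329f6000a0000369c390cedc4001c39c3bc50983092e092f36f60b42000136982e802d100000174000001302d002d48000415e1f5337f800000574000859c480e8e9bc2d942d7cda50001166c3d643dea25db0b463690000059b8a694f2d4290166c1e6b37860ee508830005000a04903538368c3dd83dccf0ec974c123cd4dcda21c3e27a63de43698049035363684888031609ed8dc44314c6d20b1f0d9a40008da000c000bd000102b8413021f8000003200030ff60fef087a126400087474a8f4f3cc1b800011d1d224516c404640000745c25e011410d10003000c352f063035bc11b8d4b8400000703be03c0200120032839283e367c0018a9085c0c5c2868088e20d9e00053cfa10d1120c00100ed80edc0dd0002040e129106e81b28db902f342e80d4a4d9d,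
  nat_lit 0xa01410ebc002c000000082ee00013560256414a51a4b395d36d0de84b4889638508c3f983f6c53fcef14d57cdb303243d7e3a631db02562355e294031bca1d4a1e0ed1c8d1cd574db2000310851c461d943bc2355c36c4000400183b600464424035903340000080c00080228047806a1088208d15b415b5128e3826128b12833ac73e551fdb2da2393b146d146b355936c054e8f988e504686082a48210d560daf18b319011906208335571dd4e5487b747ba4d55823b38223ac2355508ace42c8204d55015f0364207c35531034001005135d2015a1abf1ac00445000236b820dc110800040f300020746074825bc0744025400041d141d1037cc10f4dad000016f2100402ec884c9650af94d53408429b33cf43db4354c077c631c632cd52c2a8047d15b80000354b18ca125312551598159e2a54047d36b000042930139056f0dab356135640179057e35d92c382c3b2c441ca62b77354936a8db40b2b4aa40a740a7a803bc03acaf7cd520da90000084f16f7121b1c702144a8c8dde4397cdddc00104da,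
  nat_lit 0x48462c00003c4cdf209b1000000020360118a36f40008648c3c404a900000143013902b00d60f3205304968c9688b4e44a244a2063fcb05cd5e8dbc3a782e6f3e0701210122357936ecdee4efa4ea1877847780d5e0dba0efd1dce22de22e0295035773318001c0120005004c00186460ee346a283a50db900050111010f07040010643c92c836a0003190f11bf08a4000864506fe01c00001190e2a4e07dc00003e0c3e14126190f1a331a31210f3ea22c0b356e36e02ba849e863c4b024d5b40bc0d1a0af20af10f19356c35d849e849e063bcb01cd5ac08914d51dd1356a018c84b4b010d5a4067000a000417ed20d93a060379356936dc3bd4ef40d5a400300058d5a0db61ca31ca82297229c0376356736d4d59801200081304033a04f8001ce11c5fa04fd000535a635a7155800100ca88a300f2,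
  nat_lit 0x2000d14e1017cdccc000c5790aac00022038001c00042760ab600000b2800000014dc30c9c0c01006000000724001400200034e4e0b7c8e3e40198dc200040219020717c41270000c150014f819400023bb7022f057800042aac2abc15d00000217020817b40008003c529052a8e5e0b77c80448048805880d4fab4801c850887946e30d640dc12a172be72a583d561d0d2dea1fda2e4d39cc1b111b88358f3700e7606d043e08e7b8e7ccd638bc0000527b83df724641dac09c009c40008193000000cd27ac17d46b586f445818b720b7187d10a544ab609ed40008000448d0dbf000017d826760cfa36f85f58efb8f0bc3bd43bc477c8d6245e4258625883df535882aac2fdc8e34b098d61c8c92a442a452a8a358605c4957ca57cd6140580131012e35840168f52cb088d60c12216bf29f635820610adc4b07cd60414a00001495137813f4ea4cea5c0000598,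
  nat_lit 0x35bf2ac22b7a291b3d2235bb373c6bf800004f848af1e3e039e1ac800050004220c00082b4c091009140aec12a0421c4200dce00010ad00548014f015037344ca4a8d8f5e4aa0caf8c74d095a8942c9e0c9434d6dc0008dcc001d001f00280236395317e735b6372c7530754c94dcf404d6d44d71ac21c0e1dbe1dc035b40fc85fa05f90d6cc22c1abf000026a015500004ed28000808405df89c6269e0000170a284ced200000083804803198dca02102436000800946be00000daa4da881d3c1c2063f076628da0751074f0000006100661565156e3e5736dc08a6372416283ed83bb40004e7f4e7f0dc80000004c0b90000800102b9000100480008e7e8b9a0a2ac3bd83bb866b00010ee725f135e720c800003b98f61416600003cd53b3e1d340004183808102ae4f01c1a6ce74cb97cb928fbb4e7d8dc728850000060b054c054d080d37180040d688e81c7fb4b97cb9c4f964a98ca20cdc51e97387e000c05e4075807640038000467d3938393a17ce0009359f1b933710e8407b600020397,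
  nat_lit 0x1657188e3b272eed3b1a0c0e23ad07b507b210ae17c7396b2e532e7739be35d7376c06740654570ce434d75829f00010005126935d50d40d750013000915ae35d40528000003d84f5040500fb16841457000210206618516c00044b50002005e005b36522bc914e913ce13d1126437680004e05c979c5a1046284624dd90000004c204820dc0040004801ec0ec4d738dd81e421d331f9e210f163235cd375c3d7858c0d73011135cb004c41e83e5800043733a4a3a4b000110b51c172e9e2e8120013a543758000042d432f047443e4c69110b5000004be04c41b491b4c1b4d1b4c3b2320992e723a493754e028e02c3cb00190000801b861505a784c104c0ce12cdd40007000035c803c0f44c0644065407ec000404901f800000002016c001020a04fac4fb850504aec07e8dd30f5f380e0f4f3ce30061000137480000012000023173b8523243ce2005f374449ec49f8f0d897d4e014d6fc6050827080135be088400080124d6f41c401810f3635bc0720d864b23099649960f48cd6f0dd0,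
  nat_lit 0x114221bcc000871547814f7943a8c3a7442e4de200011b0800450044003f034000005eb05ebc0bb1c531e591f4e35f011f421d4e1e0b254d7bc2f417aa1f582c9435ee06e08a38b24cd7b4122034d155e35ec06100010013383d383e0f8711b101cc000300023784000401238382dbc2dbc2db938360f6b27e41f4635e93780ddcc53a0539c5e14f970d7a085801cb1ddb23da000a000c35e7377c6270000000240f200090de01490037c00005bdce5085ba88f689060dde16111615392315e6110f00041814481443a043ac443c000cddd09460997110e00022db80df00dec443400042da0952095b0000044800048f48443448200003bd22411057879507968d77464917783e4f35dc1450d76c0510005004c0fa45bdc6640e3c052b80000ddc0003000205820aeb15b81dfe198c0000e49068e889c,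
  nat_lit 0xe670e692869000210885e48f994a33c000418e07e107e222b200001080000870849950f240b524b51ca2e4dec00011c2125141f240000ea00ea0c14200000fde3641027c01240128440000082040cd8112c0001393a177c0898000056940f200020fde0046004710fd1dbce4dc000438885f515a20000082d03c03880d814000024704040f8943564dfec3550dda423c423ccadd0ad284dd0b8205674deb09171668166a02590005000a028402870da00e1f360437a8a0407754775075847588359030b0d80cde91bbf271223050d630c2b360236a00004013000317ea153029ba392500f137a000085f9863d8ec907a385194bcb00003c4e23d123d2265a0250379cf134f13c2870288890e87d78d7f8de616160f710f7b131d199c35fd249009441388666cd7f01e938842ca235fb0038ac30f9c0d7e83160a771d783cde3c060001000637949154000000301c0000917bb1dc32452245437904d6c00001f245f5000000031c8418f0001421f03530356835541f0cde3,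
  nat_lit 0x36a1000215e4153400041b48df036ef0003369e31141b480008da78c4406d8000415e0dbc0000c80e24a9000206ce14a4dbd8000857906e8000115dc506400001b4852c141f37b8000a36f335f00004a32427401d142d80000395515b51a50f508abb40ac0000018f0b0a000502cb03a40aa0001c27f06ed00060fe41ba0001452b06e8000409dc0a98000c50d06e8000209d8dba800042ca06e500000a04deac669c00047d0484f01b90def3d36000100ee07cc07d107cf280a37b88d98000003d855800f0001028b3284c5ec4003420d88b000011ed62f2c3b5211f40000013000000073a8720502e8f39a311e8000846a80af00a58ed107b4cded,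
  nat_lit 0x37b4000109f828300000e010df50bfc000037af37b237d07cd47d0c00001b2000224ec3e892c562800000491ec5e3caa93c7f13160d230be9000437cc6b6c2fcc2f94000c4231df40be80002043834682f98000426b0000004cde9899b87434f5e0319c0038a0481ed01ecc9fa8fae0b35cb75c7820829434502f8cdf23813000d1800177c3188002cdc283493811000a1f8315502ca4000059b063629c1000700241418f46ca030a024a0180000044056e0004280b2808280537c400009560f250ad5cdbd402e25573c932b562b41000000b00000df3c973806837cd0b22001e370a2a5c1be0000c578370400022038dbf4001057906e4000315dc315800081b885ae06d7000415e0dbcc000c80e0c52000206d415a8da84000880e,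
  nat_lit 0x371100000b381b8800000a4cdc40dfb24e3244a000001b8000032d032ac06a00033cc32587154306e637e80008ae14adc0ad601654a6a0d550ce20cee00002c760e7c0e7f37e464f800d47e00558193f00343c7a03c00000013000011c23c3129d236c104ea37e01b941b8800081c8391f3921000107c00dc80dcc000012036c40512002d0cb438350d1e0cd337dc64d800b07e60a130390001b0c8d16500000a4f4b4a8da744bf3d930c0c000a076c2857374506fe37d8a370001c38d00df026b02672b32000430680ab80000f7000f028f0000002b122c0e04000085790c09000115dc301c00002812b2c00060c050a00e02c0014579380900040a0c271c00102d30a1000030f84281800082cc,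
  nat_lit 0x2533253527612a871616161825f405970594180902a20000076a07730a02003138044e2c4e24ae68a8ec40ec000c0000e0002a01bd80fdd1ba21ba316e416e81ba5000137fc71648f0098f8000037f0000103726140c5040d447e047e4da3040838ed3f02368b08ac6cbcf84cda281940085099f010a17b40aa0016c7f205f508a8005a374d03c00ed400002efc5df02a50057184016507ee80148dbd4554052600090e6d1550001801200060d0f0d3e3d5c3d5d004c053037f800140540053c30a463200040955095711b8000c442844a41c000023950394b06bc00044d14a668112000004a004cb0f34341ca1e8a1e0b648011cfc14db74dfd1f8f004636ea1560f9f4ad901684002cf2201c381c54dfc00073c8a0bbe04281acc00142d306a300040a101ac0000c52a06ae000215f81ac000042cf,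
  nat_lit 0x36af01440008f1b08eac8ea8e0707c900003c6801c80010f14ca678719c72c4be10ed48e06000301131c7d04dc0ab800000ae859a375002373d7c0075197f1dc3018901810010000500032388238c1ca310c310c1000038140fc400048e74245010b00003c620c44000c00440fac2d500000144000000248e0c35a0007051305190bfa11f400180130000004c000012c05c9c5ca01940b7204a93eb0000110592e792f872f982fa33ba9381000004154f49c14e0006000002bc0dc508a80ae09c5c6d000010e03238d238c1b3f000300a08dfc6cf800082913bfc2fbc216028d23f03000500031fda3754380800086ea432c859400012af81c71188c0000f87841384821200120436961660001cda58da543ba3efd2d3a36940198da4c04c0f2729a6000001d0001cebb8bd9442904e2,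
  nat_lit 0x184c29b836c801609768f4dcdb1c05018542cc936c60450f420b310db142fa000a266536c405280000679866801931eec265c0b3a000112702304143c00000f200000603373e3d3c3cf10b3d38241390dc645a549004f23cdb0081f2cf017c7135d135c36bf1eb07640f49099fc9984daf81500c6c1e771e763d1f36bd2538ee7900289968daf00b81a631a6a265936bb03a8dae801308340835387c03612879000011640008ddf0a198a19ca1d43fd0001075c02f302e902d338200000012075b13373f3336b60a6c9040904cdad420304eb2d6136b407e4dae0b57cdacc55b2aa02d6136b3056ce454fcbcdac82340003004cb504f978000006f00033ce32587396f132513000008ac44f980ac3cf8e448b0001001e00150521126c0000fca4a6d47eb,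
  nat_lit 0x118f1054404d304d1383c0000594c001835a17c50fb6000002b000000120fb617a11daf190136e00db0001c5e785e84640cdb7c4521b3120dd190136de0a805ba85b94db747cd164f17c10fb000010ddc00046c7481acea20aba00001da30faf07c45af85afc5afce87c6e1c0020db687af1f692a253fb43f5a36da36d915906df0000cdb6004d0ff7000036d70374001401300031b821bb5142c0f4000080120000144e05c02b80512ca0a0f774a420a438db4ce0e1b692cc52cc63f512d8136d230c85034444842fc4334b5f8db44e0d17ba2a02266e285a2dea3eb32bc10604000138307718fb8c9d6c9b1c17fc00009d900031bb62cee23eb23ec05fe382c00085dd813585bd00011bb63a950c500000ee60ee7024606da2d7936cb2c50000075b0154415341528e0a1d683c872bdf36ca11fc2380fcc8b490db242d8,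
  nat_lit 0x28ca2db0370107e4000401337c43fac3f182c932c923700312400d0de00b7b8bb58b6b0dbfca4e0006376a376b023c68b4000c2d685df0b5900001db7177c5cf800003794a1300010005000c177d173e386c378c00006cac5940003000a177b04e625c138680050005864146c8c0008b980fcc17dc000102b80004b028b9f8ba44bab0ba64ff509f580844e190000262d1ae23bcf21382f3120f317e117dd3860fc18de9c0c3c65ac5e605c2c2f042f0c0d2c5000dbd0e1719f620b01af336f306383f185fcc65d0dbc874e0226022536f10168004c65c8dbc01140014191f36ef0be85dc45de8dbb805f00041de029332b252c6b2d093858000c01300231bd919bd18e50000000104c938540000133466200d04339c3394e1404ca166220ef2f7e1b1d0003384c7774bf84eec0000861c1e4005953754375200032b989a301344639c13500008e12374f37500001000318f3384413480000000841901648e10,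
  nat_lit 0x500080be80da8001000202f7c68100000123093516c71ec2387cdd904cfc38a8305c0000b1200002bbb133e0e290c163878fcd4df78dc64636000400b5371804f84ebc02e0dc5c05d0aff18bf18c2040a0405371705187988add4add8dc5819f1e772b6e3ec6371519d8defc4e94dc5040000041e0e1e0d17ca17cc1bcc2f642f662fde1b1f3bff387400044a4cbc38e6c412d0000004800380040a354f7ccdc441b1074728e9371001c891bcf7e4dc3c0782b2c2055370e0cb000001d38821888c074a0abb3878007e0086008e000038700000dc68dc7005d00002c5a37970e4c631400000004a13000338fe2ebc390202ba267c0008e3f4e3ec015801744e800010dae0daf08cd0bd400003784a43012e0ddd2dab2dad370517dcf800fedcb6c8dc1012c127d2c96370312e4a3b0b694dc0812b,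
  nat_lit 0x1300008757c272412e000010a310a61f4219ac3894428842a44358b798dce47040e55393a2ee23fc0373806b029ec4848dcdc54912af12a83736155c6454b790dcd413e10372de237340650e114b78cdccc4b50a3000000ed32a7f26a7291f1a38003c003837b45008f0f4bf0c860ceef41b041af0170c16fce243a7b3a7c170e1d482fa72fa82fbf218220a439e0000128e640b3217a2f7217280561388ce078000c579085c000215dc207c0004281081d00003344e76ce7644aec0fac33f0000000243c189be82ab820882070e2216d00dda058f00030618000001200040957095808ed086918b0000c254024a0bf600020967058b04d44a744a5cdc980f3120811ff37251a78e154b744dc9013839132dd1372308c43b08b744dc883970580092d372106047e207e090144bddcbfb46d5878947194602c2f6c000ce210000004879f0a91033d878f0a1ac2f9c0000e20,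
  nat_lit 0x4f204f32974297337583034e61cb81cdd5c00f0feb2e083756085899b8b820dd541e8001c375837540afc00180014e1eca510009028e0e2b398c1d91000003cc0008ab40a7f83fe03fe4e2a00012bf53fe32e1424382cb000005c4025541ba2bfa2cd63f693fe63fda374f38a4e1d4ba990054b7fcdd3873718ec3e112dff374d2268b6f4bc74b7ecdd3019e060110c32dfc374b0c307658b7f0dd281a5387c2dfa374907d80084dd30dd20400000510ea10e718af122f38a0001043a44398b7d84aec03c000310e810b810b00ab3389c00087ec8ba88431064700011faf3e2e096c00007ebc385435a1fb02eef3fcc37420d642624e1b02540dd041ca39362ef72df137403898f8b0a568a560dcfc7441ddd2def373e071c42d0b7b4dcf474d28c92deb373c0528001c36082110127,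
  nat_lit 0x60558055937e42e6337de04e138e80014025802dcbf6036605a9059a00ed000109b0000001300002d2b2d351e631fcd3c9538e44900e980be30be28be1c83e0980c0ea40e9861acddbce380004000614d1376e0ae0155061b4ddb42010005000000010bb80000ddb063ecee1871f00030e37379b14143a461c7718fa376b1308ddac4808480c6ba863d4dda8e360573023c024100000a50000408e009001350007181714b8376808d808d452f0dd9c1943a603a5e376606ac5d9c52d0dd940ed00001805072d38d45ffcb020b0f0b7e099f498c498d0b544dd90e3405543fae2e7240122e0e376338cc71c90128b3a8b3acb3bcdd88945107f107a1779177a2e0c376138c80020012000109631d9d3bf10e7138c4000001308cc08990da700030984000c8754410c412836d036fcdff0e30000218cf0f7d0f7e39ac38bc00047cdc7344731c29e4e2e00001f352f04404a193e38b4f2d482749efcb7bcbc14bc20ff94dd64e2c,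
  nat_lit 0x11dac26b23c250a400000f068f07420c000a000c06ad378e0a70786891b0de3402700033a363a3004d80004ab1c35dc014c6820d842a963ee4052a00020894fbdcfbd42b102af0000448f0000004c0000e58cf1a0f1a47a1ce8c49100447297c08f8388f2eba10f63d7024ec24ec205d18d3378738fc3b1c003400486340de18e3e21fe28d428d018d2378538f4f038c018ec28de108df002f18ca378304581a946328de0801d000300040b801bcc0008001020ac0640000004800189d2c9d3903c88790385000504d904cf083c000c3af43aec3ad03af0775ca304e3c00020ebc0eb61d061d0438a000043aec28f4e310a324bed00001cfe1cff0e990bd474307934b890dde408427441595159337780ac8e739001cdddc0703e022e23377608047458b884ddd41f918d219dd37740094e01c92b89298381c38181978e304b878ddd0e3b,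
  nat_lit 0x1b5e1ee9000a00090001022875140000001494789c98e4b000420f60164016c208f3928000cb7c02b842b948bf000220f522d42bb40004b7b442ccb0837a837a7000020f222ed392483c48bb006b80620de98e48018e2b4937a5168419307e607e6ca7550058de94e472087014206e8202e37a439186a6837943798ad18de8ce4500f11e5e2cd337a20d587958f5e0b938de8434e3840000015e4acf40000e104e0fce44072a00b81e870615000100002ccc390cb7d4e0681918de78439381e285f1e2a379d390831585b185af8de7038d000c000e379b0564f170f178de6819109cb09ca3799060c78f47898de6017c0892000314acead0000857e0126000109f852c40000cd11cef16b413390001000214b0390400004cdc75c405d3a4d3a5113472f65308a3c270001390052b85d2c26e0000047d,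
  nat_lit 0x7000110e810eb1ad716c115ba15a302a4029f0a4439580000439853cc12e10e610e91ac91ac80003024435b4701c000801d0d6918de302821681ccd0000395400045fc45fc0713842400000d161ad5016c5ffc7ba43ae83b28f97cbdec7c107c08008cdf1cdf14e5437da2e872ead2eac2e7437c4188807b007a419ec1a106048df0cd0c10d63c1e30ad3c190018394c005c0120e330e312db001a301c92307000a39483e387db4b428a02c0030000ce512cd9092f092c00001084000c0000667c91ac9e705270e5019a020f60005016037bc5c50001007300010144e47cbcd102b8ba7cf6bc810c52e052d83acc35f0065c0004e4f26660192000006e80014fb944a804aa84a8c94e494e899e00644e4e00042a1f2e0518db10fd3a2120f53934000cfb9083c013e000229d208e40650000426e814dc2d700002a1927fe10340000e4c4e4bcaca00000a410966089b0897281428f80000e4bc0f0392b00002038af9882480008000050842d38e48ce4a8e4c,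
  nat_lit 0x3a3b3a40000239112f4713a522e40004012293240ea40ec264f000b00022080112f11351139226e1fd22ab8e43812b8001c0004843ce8f4e62098139c800060000210f3af832809c9453c453b452783ab83aa83a9c12849c5c2dc8000ce6104520bbe0b740002108814ec0004001007206720b7200000450000412a82dbc4e5037520332151000a00110de827f11f9128a11cfa37e0398012a43d1079648c2c837473c0f00cf010df7ce5f138f1a4c1a4b30001cf537de3978df7400009910580418a80af0c290c221338133737dc397416ac4ba46698df6ca8b1973196737da2a287000001000201f013590735073703fe00000172397046a8fe8c23ec131400000544e5b04c5140f000100030011000f0d760d731c00140f04c53968000872c87b3cb6210024b688c7000011ae81bf80164000048ec111489c000d001018fe3b5a21a119ed190d37d3396443c843c4ee4067b06430df48e580d771828182737d106f0378c679c6424df401bb0dd51916190c37cf28d00f940000083431937f721541d141d13144f145139120001000900071acc03ee395c64504630292000003d7,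
  nat_lit 0xfb3295238070134545d0158e01814201dd2eb638050918000405109433f4f2adf3f604053380539a0e024bad0e010032000900011775155012842604154c000813e408a197600010006177c2b5c000013d00f20000049f049e097e0550399c76b40000000c0df002126651622064b1f80399800007af005400558057cbb7401a001e1d1217d413b8260826180000a97001b108b0e5822700054154027204543ab713a900190013046739533951399400040510001049404951da41f7810e80000161816fc15d097419560000100000302634270026c826bce64000b00480000012000210b53cc8416f3c580ca800000120ae60b25395310a700021fe0e904e8f800042ff0de90df100000f14eb68c040a18ca1ac98dd0518f2244ea80000e63,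
  nat_lit 0x205b93ba01d472dff1c381c62196d196f1d31228b419e3c521d481ae81aec39c80004ea90691c47c000011e118330b5c0054e090e08408e0486130438200004f4ec8a98866cab1c4a80003ce713b0f3b13003700000aef09e639c0e5d0a5e4000480d0fb045fec4b5c4b742d3820b80f780f68e6f1b9700003fd73f8b21800bd939b8ff8c1170062000040008a5c8e6d0000004c0004255c04cc04d006141a6204a1d07418430dc41851c3718c318c118bc1ad2000239b02550e59c992000041df000126462d9b39e70d58e064e05c0000116264328502c68000327bc16c9010cb1a400081d140143fd200010be8b83cb190000039c000138a30717405331443d4d209739ac00009a484a484050fb312f238100b20e03c04c00060ba601e40580001011b8472c5542e882bbe2adc1fca151a0001195400046e706eac25e418e00001b9b2331151e29e06e7034383440989d0290baf0e028e6a1fbd3ba2197c2df54059380939a454b0bae0e020257,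
  nat_lit 0x90d392502c806c800a4e11ce104a7239b92fcc2ef6384006807a6ca638fc54e0fc1693be421bd383e1078e281036ce0f405a04d02ef1383c0be8002801300060cc20c6c0b0c4100edc02ec02ed4e6b00000e7a00032aba25680ba239e40008a5dca5ecba8cd4a00010cfb0cf601c40000ab00ab0c15a3f732b362eb4002b3839383539e03eb4a090aef8a5fcfc24e0d0e773a362ffd2ebf2ebd40d0383331e83194f534f53c004c0094e0c8e760e5d12f31bbc0fe13f06383118240028127c69603cd39122f631fcd184a1848000039d400041084613c33d000004251a6207dc10885e8c000422e3bf63bf400000024e0b04c3c000002d1a53006b00670001049030981164000069002a8000700000063006b006511042a9c0c080c1c5814622455b855c06f9cb7a4b7a87ca00008e74387f2f112e7e2dfc1f27000117fce10cb8ec94fc94f882540000e73,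
  nat_lit 0xcf10c95003038632f17385c1c841644b620b024b5a8b5b8e16cd0d004200543865005809c4385a39fcbb208ba106f88060b5b0e164da5000025f20ee30ede39f897a4b5ace16802f2cd81acc000001dc0000f0bcf0cc05013091adb2d6a3858298c001022482c4824325e23fde209e046a002c385b38571ba04994a09901e8130800c8e164e158e7d2986293c293d00213857385539f015b4b554bc28e150130088a133a38530c25013903c4e14817e3bf521d13851077443e0bc1ce14020a3fb040a5384f1858b28cbc18e13817d3f233f24384d05ec00041f8014e414e803100001e5d071c1154f37cc53cf39400041eb3ce63ce4000007f80000f334f32c78ac37f00001e8406c506c1398a3987192c6aa41604000c00000b7c78b8e7b0003014427ec15f80004338000209060cb3292f38fe16780004241432c45488160c6c5]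
theorem S0_c : blocks (facts 13 6 19 32 8191 524287 4294967295 16 65535 14 16383 A R 32) 32 JS0 4395 = true := by decide +kernel
theorem S0 : On (Step.{u} r44 LW par A) 4395 17195 :=
  steps_of_blocks hpar hR S0_c (by decide +kernel)
noncomputable def JS1 : List ℕ := [nat_lit 0x200480000013000314200cdd09a03a2000084a784a6c95d0a780001275c2dfd1150000050a02d080ac189d049b39cb121312163af60749390a2f814117386e3a1ce2fc0e20e70c2b382b344bd00030e1c4e1b4e860e0910f6254000020006386c3a14e5e4e5ec263000000014e1ac6f00001097a0eeb0ee919e819e93a1094f4f938667ca1a8a8c4000485039762fc33f6f000008480004bc905c085c0cf918e8300002f25055d30ece1a005105e5000200000f240000013000327f60d943a353a08000407c81794239000004ac2cb1099812a8e360bc78e18c5eb3ef42f1a38620dcc000005121774105386102c8162c3b003b10878c87dcecc40010e81000013540167016610fc0004051000209ce13700f4c000427644d383a6000009ca13190174e5d904e8bbc903d4bc54e174e80,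
  nat_lit 0x3c7e3c8001406c880d640d38000071f0000067300cc00c507332dc87c40a97cad00ff8504b0e234e6827b04137388c02c8000c3260339059a00011a281a2a1a60409f2b3a3a440000819c9b10abb8e900f98081f0821275b3ff1275a0760076238893a3ce8b8f9c0fcc40008001ce220902202a3a360cd50d150fa238872a54eb0cc17cea543bbc206c000ce8e289a2b1c2b1a41883f8e10e300003a34000cbd04bf90bf88438ce8c00022f4128d226a82eec000504b420947eb00002f2e0eef1edce2040510002004c0000f5150880f5342f21efb30212f3d387f0b60e3c0be18bcf8e1f8e2627ba2f37387d01cce3c4bcf0e1f01221ef9411e387b1d340000e664e6543270000004800003338317427544200ccd0cca0e8500002f58000079b47adcf4804b103a1ce8b2ba5000400090e152058153b153c1eaa20af31a731963d563a28e770a384a91080e0baa4e4b42010bbbc000ce89,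
  nat_lit 0x129a618983c242bcd02913a6028bca2cca2d4bcc4a7fc624c0004e9729e105c805c000000d640000001c2a2c02f00080868147f38a80d34e29c012000100480010e790c068c064ab0889900030a8709a509a401e8000829d429cc10e00010a8727dc2adc00000120a8510af10ad000238a11fe0218096600000e28032900001b192ed73e8f0a50000c04c000039912e6301a0176c5f1c000002d0001389e2f5a06e01cdf043a40f33a58000000344d7812e389c389b000a2bb50efe0efc1bb11ff503bb03b638de389a3a546b0c0004502c504433ecd6f000100041e7c1bcc000000086c680f200000ceb0ce1083cae8453b812d8000c3bb0da105d605d31fa600000334000811f8175417487e94e94000128fa3aeb0446093d1c100000b7f0e3d402f2e042e0521333de84251424e3dd921051b7b3ca941e3011a011c0c3f257438913a4cad94ad8cb4208158b81ce240e92,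
  nat_lit 0x10d70ed00ece00001408000442fc42f472b80b500001626162b00bc8614860440644058003ce31ce318ea12f1240232b8a135a135338c53a802f28ebc83f88e31049c3f3d2f7e38c308503d4d05cce30822e2e3e2f7d38c10134a3550580e30014227732f7c38bf0918000068d4f23cf2402be0e9f1a320d3a000204e8000000146b944f304f40a50cfe0cc7d4f760e9e00040751074e0afe01bc119b3a74000c6b8c51ec34d478800021f0c29d3037c00047c30989c0f20000074d0749050806c006bc001ce2e0e2dce9c088d3983416638b6045c7c50fce4bdbce2d428b259c2f6f38b40458077403e84f980004e2d0bdc0acb487c83828e9b2a5040a7409e0daf0dae13e600003a680004780451304f9023600001ebc12e822bc069ce384be38bb7cb5d0a26c559024dc24e03f30e2c0e99086e3979415e38af05b09eb8bdb8bdace2b834e2a482f6938ad06e800146b24ebe4312,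
  nat_lit 0x10460f4b000300020968000403902b241c100003bf33bf1076c3f4c4278a19cfdf00060be84e388ea60be10bdf12123f6a38e132b007c899e4e3800630eb13f5d38df2b2800000130f582689268b0002070c20ec2100000405a000e2689000007080008a3f4ee544d1486108874a9a8d07000120e241fb2f9a2c0003ad3a940000a3e02c205ed28093f5538d80b04822499bce35c2c838d6013000180122aec000200082bfa0c9002ca3a90001ce358002c435c44085df0ea300062f3c4163106410630ab00014be44c110ac50ac0ce6400044184399f089d10a623ac000cbe44e364012408400022f902f930058175c0004be38c02499dc1700000418008a42044e33404c20a9000038cd141800243d40ef38c43470ac709902b84e904e98ea20c57000000080e6c148800142f54432c13a,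
  nat_lit 0xb2425f241b83900237c22f897bd06c8e3fc3342a0742142fbf38fe14c0fe2cbef0e3f437300000e710e72090509063ab073e873e4b8bcb8b0b5f50388b81ce3f0eab088d39c4405640e12e0638fb3aa8e734bf1506c4e3e81b53aed2fb938f900c802980000000c0ed0005004c0000018422fc25b005d000b000c38f60bf41a280a6ce3d421802953efc38f4046098cc98c8e3cc1f007b307af38f20b740a980a88e3c41c5000310d52c3211d23d933d9833e400080121b2141952fb038ef0bd0401cacd0beb8e3b82d81104419d2fac38ed10802a88beb4e3b01c7282a282b38eb0be80a4c0a88e3a805f20663f6938ea2c8014fce76cc0e4bf6506acc2f10818c32cec90412800002fa82f9cfff4ab141b84ea9000700020fde121a12183aa000043f8057c404f00013b4f421630773a501f903f60000042803d280010ea7,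
  nat_lit 0x9914162391902387fc09ecc9934992ce46403c00031149190d117f111d11b4000845201ef408c83c0000111462079168305c000000120ed40ed114263cf023a12fd639153ae04114bf5ce45013e0b302fd3391303a4001c796c795c19341824180203b0000065c000cf23064d064c8eb70001004c2ed4548c54a1098909dd09c8a8fc8e450a0486c498fce43ceb6030a2fcb390e000018963c5d17593afa3ad4625484cca814a80506e0e434eb412a2129926b042df2fcc390c0ec8a7d09e90990098ece42ceb307dd07dc2fba390a2a2c8294fcbd0710e42461c390c2fc739080dcc00005fc8f7450aecf76044b4eb217f11350178431da31db1e1a268115c415bd202b390700003ac4e680e67c195880a4e4188a100000c293905088013bd0500e414b2004fd413f39052b280008a72d08c883890b34f92ceb03905390400013fe022133abc0000a724aedc2ee29c42420223b22943f84413b39023ab83d7cb014b8b10499061ce404ead,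
  nat_lit 0x250d630d671b271b252ffa39363af8480d03d0b094e4d440829f603353934155c41a107cce4cc22b03372e62393205fce4d8bfd0e4c43380aaf2fee393012d40008a7a050bc50cc67b40d200003e8a3e8701d0399c39906bb0f3f48b6100bcaa98e4b8ebd2e8c2f352ea1032c392d0344e70cc02107ace4b01b5000101a801ae2b2e14a730e303333af00000eb90a6b054903361ac40005166080e10234b6d4b6e1077c0000ebb00002628262d3f2d20580004e49cbfb0b8eca8e8ec0800a0eba0002213a213f108c10852cdc0004fafcfb00852098b496d0000004884dd0ac0c94cc9b4ca24ca18bf9ce48ceb93ff832782fe639220eac84a50780e48405929c62fe6392007a0002ce488e47c2bf000121271f3d080c87707d60000428521271f54000005b80009044c7d7062300012dc106a9078800007d907d545ed,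
  nat_lit 0x4004c0010f9ac8eb477f46f14e68cec50003207d41d807100008365c3670230000120782c240d90000081d900281f7207740043012394c17ac5700a0e8b9ace52c28b0350300c394a04581694e52ce528257000f000e04150416306939d4394a1fc0000ceca909aced283baca36000c000200003b473b4917f0ed18104c1048002c0004ec4034a394700000dcc26402644104810400024ec32f3204093d2d32043d0b00013b080000013396100fc00070001242047f4001400004061ad72b3429cd32972630262a0003343c99a819e400001cd0004300430fd210c2f96067b1a48000cc0083f2029c429c87ed000230020d790d7417f83b040004bff0b8b063a047f000041fc00f41face4e80510c460c430c401b3f08fd0001334c00080094095c2df87ee0c9b4c81cf450ec00001393d41e92cee065406503afc000000909e28898045a,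
  nat_lit 0xc512f943038396d106cef24c4e108d0e5b02091b592ea43033396b04642db4c0cce5a8050067830343969071c1b70ba34e5a02fa15b62e5f39671018001c842060245490006218e198d165000140df0011010d000100480004a4cd00f845acad40000169616922fe2048ca4c0aa0101a08c2d0754bd58e6e40b90e8acc0a8e584eca1b1642310d2e0d292c4e39601c8c2ed44074795885a0c09ce57c54421660f230f1e2ad43025395e3b2446d84705094cc2b4c094e574ec8212439fa067b2e8d2e8f395c251400e80dc08acc0004002ce56cec7119411930fde0fe03021395a3b188aa0b7bcb7c8be0c5040000c6030937093b000205f8aae050280004145412f140c0000060c00083edca0ec56000010fba2c5312080000052c054c0ed0fb62c4039550af82b5c2b60e5503ba00053954395302b0e54804c,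
  nat_lit 0x3480000001818e400905764a43d00401ce094c001301c001c13ac642953acc3b5900a86f2447dc47eca824a8410984e7600038ed50005000e2b540164f104f11000000780264000016051606047a11441e944db800003020266000039f20e1810c4405c1b301b40b730b748002000109d688748e7e4ed40003275d21841b44016501692b0139af3b4c00089d7422ac22b057ec8a78ed22e3b25b72fbb1d7817010f7b000720283d4c3d48b828b82cc58cee480018ed1275b13a70f77000504904c8487ec3dd40010872207d20800f7600030de44b3c3ddc000810c2dca0f6f000108a4879c3dc000001f039c739c4026502a0029f000013043dc4466411f811e40c200c2c0004f290f28839604b08ed00215030a000001600718b2f00004002c2de0a360a38cecf1b640c6700000574001831544a5481b230e00012b8116503c9229573b38243c0004ae2c3c483c4cb93c8b92b7f164e164d090c00002b883b350299029c0000000506c46434262c0580058c29b88158242cecc000041b0190c098a015f01620a6c2bcf2bce2b8840a540a63b2ca6200094e5cce5b8a72,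
  nat_lit 0x1a2f1b1701bb00040bb33b7c000c4c1023c05ec000213041e5407100004f1386bec230000013031ac205e4000859901640afdcf03046302eb4ede12ff0001166215604c0400004044cc1157700011c05021d02192fe855d0000006bc3491abe000015743304e808000080e147100003a053a013b740de0280cff4c16b4c1fc20147814000451e4edc1ad7000015c503c857143fb03fb40014c190200c780cedb179a00042efc22bc5f400004103c6390bd4000117cc1418102c00005f18cc117980001000318b204090334e654000480e399300000a045e4c6828783862b80000e648eda18ae04050bc9399239913b64000411b011c829b426c4dcd000004690f19206c11906510b250b2550964e644ed839b430703057399028d4e6910958c144e63c1bb3a7e3054398e00c800040098576ca444a4dced7,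
  nat_lit 0xf5c000211b116b8ecd4000c5790bec000215dc746800042fa45ae0be90000105470a85cd05cc86a7c6a8000002fa0ee83e0f23de1aec1aef00012be83b9cfbc884687d646bf00000c2a000b3d691559155a1ab11afe3b980028012076d0188000304080004faf091e088e8b00c8270ee50000004c000c83b8eeec3c60ee4000220ef01870ea8000401d801e01f9000020e92eda0c64fb6cfb647948c96cf5905c7c0024af7400010e10fad8ee33f390000142caf6c001c58f054400494049c0b3ce8250a44c6d10c38cca8fce0ee2023202301e7e1e8123cb436a1eb600063b847ad00010f074558210500033c1d03c883700004af3416984b2c4b350340ee01eb100002353284c465c00105783c1600032038465000082740bcf000315e0ec60000880e171200010bcc15ac2ed00000cd1,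
  nat_lit 0x1031054b3a691b15000200b06c90000452bca133a67004b1b133a6705492a346db840b81520e99801280422f9c004104e1284c00eced20ed2408f1a68003642f6317d31873b5607cd3bc4699000d4ed405581b0100183b4f155074dc0054afec17548e4903fcae64ef0196800142381177c47340004134c5061ccc00113c47037c65940040f1145540d512fd630e805a0000428cc27e05f0065e066008ad88ad4af20387c38884b404b50c6610c48c40ce9b000004bc8eef12f205cd2bf12bef31713b3d00003bb8e9a887bc7b707b74a9840000eed0002001f43ab332b437b286329cc2e12292f0c32109b3bb00000000400790e88fb500074fbe50ddccb150dec783ceeb0000000514251154afe4004c001ca8a1a40000531773b4607c807cd07ab3ba8f5f0000c7e24a132bf600001e1102c8f898793c0000075000b1e75246525c1246f1ee720f53ba447a000105783c3a000320382f5400082743c33000415e446cc000c577,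
  nat_lit 0x131a28d5048600001a547f24000000106bb0009004c7ef0000060f80df006e000100031be3220f386c00086f888838130412b8080000100733a060c3b04781878f058bbd8a27901b107ace7f400086aec3c94ef901fb01f80b0414153cc5421441ea39fc3be035541b600020001c3598e7ecef714613cea1bd02e5239fa1eb03cf4021002203fd8e7e4ef6200720091db839f83bd48705077cb93ce7dc29439f6004c000004c200407d500010e8c35741f60000005d00002a8d3b69025d08e4e7cce7c83493a9e2b762b7500db3a0b42bf39f23bd0ea70ea8804040408e8250af8e7c8ef3000301890fe41234000427341a7c16015e115e211fa11ed39f01038eb6cc2e8c2d4e7bc1b63a1642be42b939ee06ecea14c2d4e7b4032192817f1005901a8585800006dcc5f51b7300011033054d3a6b3bc852c400006dc4554,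
  nat_lit 0x1cec11d60d80a94c93b88968a5f90310c3a8e884f011c250dee0ded0a0c0a053a203c007c8843a4320428282810e87ceff13132ad93f840a0b0a033a1e3bf84a6cab14c394e87442b3fa142ec3a1c003c7090c378e86c1cc3a3030e43a1a00380028e868e86445b3b3a000215e4ecf4000c57909a9000215dd06b400042bdcd62044400000a04b3b406d80000110cefd000500020b4e339c8400a30c9d7400240000a7501091760176900020d1832a86860687000042940000004c000906b488e905b0a274fdc0efc000141ab2d1130fb30f73a3b3bec0000b51c87b0aa78b3bc4994b682b842b8830be09fd09ef3a0b1cccef58c75cf1ac27dc27b8e828efa0157415125ba2df2306f3a0924409d582274e8205f53a1f30d03a0711cc1078bd20e8183a3120730cb3a0503a40000013,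
  nat_lit 0x213230e4e0ada0d48000401301110115190e3a3d2324f3509cf86434e8f06950df60df53a3b016105e86420e8e805a0b62190a3a39071c0034f6c8e8e005f0a9701060110051700003c28f0acf0b80000043c1458f09000000020f33177c0000c07803fc067428f0a03000217d47888280400045543b223b21000003a40004354105b0f1c4432c27dcf0800000d4b15522acd2e4e42063c1c354067d0438c438893f4e8bcf06222f27502a5e27283a2e068879187178716ce8b402322ce11f411f53a2c0bcce8ac01300051add435e41641f546980f45c5528b884b5b40000f0500012a5841002d6c2b5800009d24045c04542f22a58308a41362b900006000e3a273c1063d049e84af000200034e898f0311eb11e71d673a2520e849b049b8e8902ff074f0e170e1b31a63b7a0bda00013c08284028440000219,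
  nat_lit 0x1a6a3da10d690d683cec31263a5d3c543a783a803b94428034243438e970f14178317821c532b463a5b3c4c43545c94c074e9685d53a5f31213a5911cced2d0cb0e96017f0e3d31013a570f4c699c7190e9581932269311c3a5503b40018a9983d5c47c3f7733b1436131ca300f42ba1f53169000013c48b110b108c2b87d485a380000f110001171830112faa19a9168a2dd400005c5c180417f8f10171741e62e152fcf31153a503c3c5fb419c019b4c55cc45ce93cf0e2b602b3c2b392b383a4e3acc24fc24f4c450e934374015f14f4431f3a4c30683d443d68c450e92c0520c8d31103a4a007442eca5050980625400740044004080f000e1a79154708e008e415b03c340a7c4060a6a4b2bcee580020f0c0007004c000405100010004226518f00000002071043a6000128dd3b2b02383f3c8aa078c078b4000406228d9302a2fb9301100000334000c47283554ef70ab8505eccba90f3c9948cd687c9c429842a042987bf87c147c0cf0b,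
  nat_lit 0x202a00000d19037c531c14bc14c000085e20088128b0000024d1650000447a85bfcbdf05300a05024b000015e2165047a05bf4bde800180028ae640f512ad129f2f19445329b2111a00023c7c08f020448a008a9844600004f1e0a7301d101c101bf000006280014b69cb64cc948b1f106c8f2e0f1d000430c12e5343700f530f4c28d03c70000c302c303841fc4218be90f1b0002005d42ee15500004c314aae41940000433e278e0ffd0cd4b9a4e9a82c620662fed3a690a1ce9a005127dc20180002116c00000120003215e3f7831f221343c6800083f943f9c1db0001214d144511c00000fed0fec01200901291d2b6d2b6e00003a633a623c6400006c608738ad4caddcf181b1721cd292608fe312b3a623a613c5c000108bc33c4ce742311da100021078000869bca3ccb3702f04455cf1600011a6c17cf0e40361800002624260476c0294,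
  nat_lit 0x134b134e01344d3909d000042c800020569128c177c00044e0c4e043d300001c6f1c4f17b4fa049598ffe88a703388ea44f260145014827bf27be0ce13a903c94b9a509e03388ea3cf2409cd076207653a8e05d400243390ea342971a5a0ce43a8c05d0ea2c01200013c622b2d057800003a944b0c3a60ea640d12861299f293209ad00003c8c0000c42ced880771c8e2d7b2d7f2de72de83a873124aca0c61ceb580b20c544ea18bb312aa2d7d42cc0018001e3a851bc04ac50894b6f4006c0074ea10915000010eb174a18e818ea3c721f3c0c140c1041fc757c000042c00011f123383251225223f131d5c3c88000086e07ea87ee0c27c0bf4f213fb024f61b891b86040000023c801008102073e0101000040fc1d2103fc00000074000c73a4100c2528100809c00021ce61db610750d600004739043840ae00001c053acd06e87394234810000ff4e9e4d76,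
  nat_lit 0x1d65438e3ab204547598c490eac418400003ab23ab12c5097f0ae7d06e48fb0000404201d700003ab018e4000c1ff066c804b04a5906dc8fa8f2c0002080229bd2c300df80000b5e50eb4c6188a383c9cf2b2d782b4f2ec73aac1a601ff8c470eaac18b2af631773aaa04e821e89f7ceaa40e90000013000040028403425b000b3ed1338b25af343c343e343e343c44ad26e933403e1a3e1218b931c83b1e3ca8002875e43814381c18527d40875087d00011174bb4421e4000063600000c542ffe083c31584ac445ec34441348ea88f29018611403ceb2f5004ce3aa13ca02aa50d90498c134cea802262b012b033e8904ce3a9f0b144bd84bf0c4cc1340ea7829f2b0929b804ce3a9d1c7ca5b41338ea7010e125d04ce3a9b09acea68013000d02eb03112955327d3c8604591dc00030699d022c9928c2b1c1400090007313043581d513ebb444e33a1444f401b3c9c165000080004636,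
  nat_lit 0x2dd731183acf0f4ceb4d0eb4eb381ab006c319c3acd017445e8be0ceb3040d001800060000022913ea019408a8c6f4ebf000002b800030e7f01fe339c00043c6c3c74b6503d8cf2f03dc43db90914f350000125d12a5425722b129b23cd0497890ac7358f3341540eb1cf33000a000f403527da15643ac63cc8eb1cb17873f0eb1407b2827281e1cfc3ac412c8eb0c01200003ac33ac40140001c485cc6ccb77cb7781474f350f31000002231d9c057808904b3c8ac4ca884c740004f30000000480001094d09b06a28f534f2f248c446d22c7030903053abd148039a08b04ad84c1c50e68eaf0f2e2b012b0741a2318c3abb2a58436043690e60eae84ec047131663ab90164abd4c4b0eae033f22c5313a3ab707a0000c012112c000200010c9b05920e8c3cb4000033840c8c20f0d22439a43913ab4052105b0c4a0c60ceacc171,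
  nat_lit 0x106d3d09253c50c482106f146f186128612cebb0f3f3e6e4325433e3aeb27c000040024eba801d0005004c000d0b30699c69904990001302f23971a450a950a902b553edc3cf80000c0b90ce10e3cb1aca2a2ec62e532dba286a0014001a3ae627f0babcad5c2a3429fc29f0463ceb94f3d23c8325411b23d383d363ae43cf04610f4d04648eb8c969063e11903ae211cc60fc4630eb841ab3b0c000115e407c4000057728630004199a09d609b109b21c3a00010ef701f03cec84c000047a045df0ef000001f8203c0889026c43644abd8c560000012c0f3a285c00000d5c0d5e1c573a50f97c0020001c5552ec800080006155c0000eb7509b4b73c8b680004f39002d2c3e2c3700003ce00008c408b358b354169000131021d162aa4000007b807e005043703dbf154228202ed631833ad33cdca150d1749a5cbb308b5ceb48f362ae606bc3ad115610cf81af0eb4008f,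
  nat_lit 0xa800ae3b09206cec2005100072cdb2d6901b8a854000000080ed0004004c0000027430000643fd13fd400000b2000000122114202620282f67325c306143e43b023d2024dc24e8c588ec0435224d031d43b000dcc0008c5a111585b0c5af47248a404f470001316843711a200dd302203d180000b06c088c47c095a06331fc232da3cbf005d0008000e3afd3d14f3dc65bc65c0bc2c5e582920ebf0f4411ee11f6289528980004000c3afb3d0ca2502910ebe821417960a413af908401f401f38ebe03972c640a423af7091800005b8c42204210421487b887b4f4231064388326e326b2ae700013aa8418cada8ab8c0000356000229f524e023aa23a729c03d04000436581e941fa00083ebd33b233b144941d8d18791c7b1d61057b3af23d002ad81f4415ecebc41ed1eca3b773af012e41f1015d8ebbc2a80002143616d604dc000450c88218057,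
  nat_lit 0x218e0e2f0d6884e80098eca4ec9847f3b713231440b3b25082438b8c5c8c63cec901c302fa0017001c3b2309804694c634ec881c21d2d44003b211d348568ba3cec804060b9d0b9e1f43000909c451140005084851140168e492b7c00001576037c2864286843e829dc29f400000304f4d00c23b1c000217d400005b785b74f924b941a9f1aa13f19251a3e1e164900013d30ae5907a0000005400051639163541f01f021f01269d266800103064304806800031a7720680788000869e08f243d300011a74229811f0000069c066d413a011542c43b1200b447885c3455fc00045e90c8415820000017c0018471c66c85358537111485624f4b000511c5235329b8408c02403d280010f5988cc08cc88c88b76cf4900030c6c02ec0fc4000847050e1405500010268026f03740000f588f58c142,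
  nat_lit 0x2b9f2a2b04e874ac74bc759d05eca1f4ed0cf543dec32e93336234032123b422f4c0000c78d0dbc06e28df000200010d981fc80018000024207e2194a41ca0cc20cc3089200023d4ca3681f5c1f6000041700000004c0000a9191130f01061c0000014400005bbc1f98181073c28703b39018c0028ffccffdc06e1579000012991550ede0000057924fd00003b793b773d480ad08bbc454cf5b8ccfcf5a400100000c064f5125202a4b1d311d273b342b986d086d106d14ac80eccc09d001221642b202b1f3b322ff50e00a3905b085b10ecc444a112d185c2b743b300fa4f9f4ced50c8cecbc16512b517cc3b2e00bd039892ecfa7c00003b4000024b93e9e0cfc0ea40e503468f284f27c000098c073f07561d5d2a8611ed0de40de600003b2b0cda0cde3d40000c863c609460886cac6ca851cc51dc5c584c847d6845ecf4f000214373ddc337214673d3800048640396825b,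
  nat_lit 0xddb000016ef408440800a743d602aec0000000c37b44accf3f878900033dd23dd4128612810497049b2d62328716b516c03e6f16c9243122a00a0f13c23d5c0004f40cf418246000d000e04f004e91cc60a3e3b5d3d5837c03868ed701e712aa177c3b5b043037804a20ed681c12aea405c3b5908a43494348ced601c815f212823b5706bc38003848ed5819900010048000411f0ac2053f420d450e4678000004810df30def2ad9062811fc885c758ced4c42b321f1d633b520734fd68fd64ed441cc000500333b5007980004aa6029dc1340138409300001e30165d06e9080caa4cc2d0ed380602212324832273b4d06807840c7351040ed301c93b4f44343b4b0b8c095ca214ed280504211440d3b49048800005a10506c47fc440168f42ba2db7213c000006b8000cae844e681234292c7d7c12b8ef0c38fc38f4b6d484ecf550002441514100ffc00050da447f83a6,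
  nat_lit 0x30d632063b7d0428b47d119cedf015a0f522c3a3b7b0cb0001001200003f152896139a125c00723d8469aca26458a4000442b026f08e9000000600004f20c408c407c51c07700f6000000b4f309343d605cc1b402d2850dc50d877506f00fcf06ee509fc8fc885300fec0f94f118c384edd4f5f28d40e103d1d334844d92d4c197419762093321a3b743d782d6c5130a3fd0cb4b0c4edcccc40000027b027e0a449054c1c10afc000c1cf2d3b2d6800020704c624b5a000041af1114110d0000042c00047d3c5d9c19400001f802a0c0f4c28a8bebcedb0067000000191e2d1e2c21ab21a83e2b3d740068af04000011500011e3a4316325732553b8c016a3d705d605d788cb08ccc1a781a70fe04fdf823602374c34ceda4f5b10c308f83c3e30d23b683d6809d8c7b0c7b4ed9c1b5114b114f32423b660d38003c384437b437c1013cd32101c088b19bd0187000115548a141910000008f4020450d3425263125cc33d427c041771a721a7317aa179d3c4d00011dda12de3d6429d40000377012d40b140b18917,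
  nat_lit 0x8000205ba1280000059683d003cf0178400945753523352e41292115211b06f600033da8320c30141cc41ce0c1c01bb40008f693cf533483cef0cc106ec00013da0000825c425c80b8c19f000128e728e906f10a8400002580c1d41fa0ae31444146414622d1d3b933d9ca374a380b48cee481bb18b6327244803b9112146d8c6d94ee401320008019e4248037c000c0120000004c1750ee9804100058ee3cee34f66227844c344b43269447a3b8c3d94af7ca344a334c9acee2ca96025e18ea44793b8a07a4a9a111d4ee242982bda32123b880798bb70b11cee1c312000400480004ab10ab0c82fc3720371c381cf6400002d6742cf085403c20344b0e44ef40944095075b8cb98c3c4ee10f6314590b9d0ba4325f44703b833d88b4a0c844c964c984ee0823530d04477446f3b8119f4ba810de511acee002a4306332263b7f01c87908ac28edf806f,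
  nat_lit 0x3324b2c20188c0008c92c4f7c48200012d613df505740000b0980ca85ed2f842c173bb516600018eed4eed03ba3bb301300020f92113c4f49c3290001142e1dfc1e9502cd02c53dc8000017d40ae80ae43b4ca2a3e570bad0bb111e011e3328f3bb03dc47074031803000b8c6df06e14eebcf7016f83f193f16127e2c0f3bae2e7449f4b0308f090b7cb4e0eeb4f6f110a08e000153bad3bac273c76349a88b030eeac5d513be2d3c3baa088001bcca1ceea418b145b42e03ba80e8c50845074ee9c3382c6832863ba60174000000044cb44f506b4d01ccac6000201304cb822fc8bbc22d023540008c6e00013db63db8023cf41cf400000031f0a71438f2c013ba100093db800002798262806409e2437f3cd00c6b05023c2200033db462ec62e817040009078463a0f6c00000048000c3228f354210d016d017cf6b,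
  nat_lit 0x3231e3559413f19e319e619e63dec00085bac5bbc8f80cc4cf194f7a0001170e42e03124332b43f73c180000013231a355241130003187000047e50681c09c009c8d9c100730d130d43cf80b853cd944ef23d03c06000200073de47e4809b038e8f0140004f783c033c0400000005007400f4000c0838084009c81aa00020dd80dd90d883739133ccab8ef2c18e1e4743063bca04547920caacef24184002f3bcd3bc80e70001c274827d8281811b0000004800001be41bfc3ea8119158c2461074500010bc8000452583f203ff00001bae074417b50030d310ff34f9ac50ecef086d51fb80c6a03d703d542fc3bc13ddc3f00bb890e040070ef0cef00c322ac34269129911b200003dd800043518b5b48f5095a046ccf7500000d453dfd0be20be128ff27e4351c421400000580007324e292a2922299b299718b63dd000187538395439444c58f73000500f505a917d4001012402ee8554,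
  nat_lit 0x3d1000209d823bc000428108f300002bbd3e182228000cf92c23c4f850002092402c0055c0004249025d473e000009210c430d002434233c000c1380c3f08cc00020508119411f000040093cb400022038220c00042ca02dc000209e823280008f09cf8402db000115e024480000f090f832b642d314399000444be02da02e902d93e08000c2310f2bcb4b8af48f810cc808c33cae2d2d00020128f1200000579259400002f173c473e00964c31cc2248000c0004678867c0d250d239163482a86d24692c6900677851d10e28f7f0001000019da03c0676851d4000c556088b088a118b037e055b00013df832c831b0f43032ac0000c0b0001226830b52bdb2fa22c0a0ca73df40001037d0374646226d2956012f012c12c512bf440c3bd93df0a4a4a4acc9f0ef601562cee32b432b93bd703ac32ed12c8ef58032,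
  nat_lit 0x400488b688bb4f7143ab800000044f89000d01f302022e533dc40ead3e2000305e84c424296000b105b105f0a4400285e8c785421a000913a913ac064000041a9d0fd41590000061f0f730be41a903f04001018b16ad1c3d000303a400300028aef00000c77426b034d4f87001400092bbb2bbc00000184aeecbf10afb80004bf10ae63ccb32bd00002924000c2e110ba05940fbc0fba00020850890d0fbc00042c4223543ef00000604f418af3c00045a10012092e0d3b0d3a280d0b9000305792bc9000b0a0423f4002c27a08fb000a0f8823e400243e1042a00080b4023d8001c27808f200060fd8f320001452a03d6000409dc23c0000c50b,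
  nat_lit 0x42bf02c162b6b2b5a3b5c0f7c0000ac880df24603d1603020000243110cf0e113e340000ada0ad5d0bbc0beca052b672b5642ee000925012b9862d40c000be40020423099f245e00021467037cafa462cc62d0afe400bc0008bdccf8c23f3300b094b0001156a2b8c25300000bdb0cc100010fdb23f1300909493e2c5eec000491646390fe000002f6915510f8c0004801c2eb8f4b4f4b000885f42f730000200316506fc000003d10558000119730b940b911bf01dbc3d080000ab545062c190001452c3cf50590058f0f443ba8b06c00004c5c5583c86000020390c5000ecbd58f214f8a3cf9450d448d002e09800018013000400480000366c36841792f9a43ed144e00040e650e945138000c1dd2271144e00020abcfd285138000417b13ab13a400000910af7c005c24d8137,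
  nat_lit 0x40c9a3315177c000c32606f6055430df04e204cd0e53000300062b422b393c4f3e4ca72d0a9078e01f281f08b7b4b7f4f138f923e52033603322dec2dfc3c4d337c325881bc51b8b820f1304e80e4f13232bc030983c4b02480da0cbb5148cf128a35147332de45403c4906ecad04b2e0ccb8f12035604000006000010010185018879bc001c381000000012b3e2ca307d901200000acf4b2882b1cfff0ae62cb13c460000101904bd18f1058800084bc41634161000107f839f08c240000400000117c32312464041681e601e5f3e4400005f0c8c3831417c41e8400663c413c403e40b7e0cc80f0fc3b025f2005b08f11418c82430e030e4000027a0f48491ac00283860f8f1f140000123c155048f44d7c5fb40000380c37f91040f8e0018431c2bfe25dd27e9028c52b000005ba459416eb0e860e5a0001046c024c7ae8000011c80f0047000001098037c424c001511788ff03f98003050807f4,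
  nat_lit 0x2ffb306c3c6c0b180fd0527cf1ac5143c6a0144003801200a50000000a0374002c01304dd000409e00010000c52b04da000209dc136c00042763cdf000009d010043a710cf4001c0000f9600030e920e1c04d707808b1505641230122000000270f95000200003de03de409720ba03e5002dc02fc7928be851594cd1cf178f230ea0336333463c5d0638f1951565155cf1709081e8432fa33403c5b048cafd91554f1681140f5a000000020cfc067102f817711ab40004913881fc6f9c6f9044900002a632b2b2bb433e439640038f168f160b1e0c180c1700010454f3ecb130000030200002de12c491aec45d039580028f158f1549cf44042d2130a23c541a60b47d152cf14c220148233333c5201740484ccd8f1440ed,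
  nat_lit 0xc6e00002bef1560b6a0001031b8594091900001ab8284c0998f2ecb6947ac800040ce19e00000091715502454001c70d01420ce00b68c7ac0ee000061c2b23962dca2da6386cfa88000c579116b000215dc450c00085783e9a0001203881440000450056a16c500001c2811403e7870908e3cb70cf1f800000a10c610c60218221641e1a1e161f971a2116550ff20ff100023e74f4107db07db47d50466c46750d101b5c0360036c0004f9c3d3529f023f332ad1cf300003e6c00107e849d509bd0923873c8f9a00031fa3091a0fc40009034d035405500011f9e4073090c6dfc75709048b65cf1d809502d514aa3c7502a80b4cc1d4f1d00672a381982197b000010800018c000b6b8b6bd0d04af5d0e38f9900051e9219b919bc19c225fa04063e6000105d6d10890b603e643e5cf9700032ffe2cea04f80008b8a0fae819400012ffa2ce20ffc0000a6a831d05ed,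
  nat_lit 0x51baa1bab1772177420ea32dc00100ccc535c5490003191709340880000830bc1e6c10d0001426d4272064c000087b0887440d21d733332ec71c501c553ca331e8002c87d49b3d01a87150f288fa208013fd8353426b526b23ca12e58f548c9741d3c1d2cb210f280a2e093a000200053cd13e8474e424e8000414b1fe10931000009100000009024d42f6001f16e116b400020f5c7f60556c000412e00011ba51c4123ac0268023000006e8c760090d854f00961ba31c3f23aa2dde3c98022c0c885334f25c0011de90937001d083400680130762000021873304863400441d8863900bf0000197418e46f78003803040f2117c0742197500000a0e0a8829e9079210823e802840000865c48af023500000a1718d828481d086d9c0024d27cfa902a1c089008acf9f1bd900082f88037c4574000085f8554,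
  nat_lit 0x4c804bf3cc5013800100280fca454900002a262a2714fa007b3ea4cdcd169d1715127400001d700000e9e15582fd9447f23f03a6845d445e4ba3ccfb0ceacf304fa811c111c213c92fc92fc53cc03e9c402cfa443fd45110cea4f2fcfa6449245be3cbe08b8b9c0c8acf2f431400712fc13cbc0508bff4ce94f2ec22c0005004c000c37b837b48d3cbc3842f00020ded0de705dc00040121b6f1b764060451730c9261222cd22ce1009051630533cb73e942a4c2a747b88f2d80792a202a232a253cb501489aa0c884f2d002f00070b201e7f024918345b28006c0004082000001440004000c003c15d0b190d2600000c7c0000c4d8b3fd0d74ae8508fcfa41cdc1cd4444d20b93e763cae332c00341e84f57c3ea8f2b42ac0b1816ef0fab3cac3e8c17340da83ea0f2ac1783caa004c1db80008002437b,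
  nat_lit 0x2c8203ce03cd1ee7345f45e53ce13ec87c48cf34f3800501f1531023cdf1d3433583380f37805f025b0a980a9f0aa107e0000025d000110675068406e23b22eb830bd1bc71bcc2ef41649021a3d0725083cdc00023ec4f790c98868646858f36cfb014250bfe0bb30cdb3cda3ebcf77cf7802ec83368f364fae18d033463cd800bc00047f4c4c4011500001068104a016c9f90b52cc4e0c9f0fbc80000000cfad00010f4e0419041313e411da11863eb0000055183e1c40500013cd53cd4027c003cf354f34caca000800ae048c22bc54251074cdc4000434c177805690005000316ae3352177141f241f13eac00085ac0b0a116bcb8900011697169f0160000022d822b805016b02b5b4403344f432c2a3f3ccd3ea875004b384b4c9a2093d0f330d12038704be04c330693ccb2284af200028f32cf328969029245ca3cc90880fc68ba24f32017f30ea33b03cc708645404cec0f318193,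
  nat_lit 0x3e083e0b0c352fcf0b8d1ec400003ee8000c1af47b148b01ec50b90000a3cfb3cfa220cf3e8f3e40008000059d4e100bfe00083cf93cf800013670f82ccae0c4ccf3dc00008e00c7301d601d5185b3cf6133c284c9a09175cf3d4648150a444830183017303c000033dc0008489046c846e8133c1354fb900011a5615dd14bc0f9000004794478489c1a531a721a71250c444144b931293cf13ee03f483f5cb4f0c4acf3c00a4047115d631283cef0f5c0004000cf3bc074411f3605410c001e00003cef00200014469800701150001091e0921406140623edc0000fb40fb340741072457534ac462033f933f73d2e3cec3ed80024f764f75c0c20f3acfb51a551f3903103cea1b2c506c95140c2cf3a43561a40030d3ce806e9040503f80000234000100061ece40fe40fd1fb40000f398c42ccb507490001014400040014337824bc7c80fb40e320732000006e800042b3c2b285c60be444a843310296cfb3,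
  nat_lit 0x16981eae000e3d1c3d1a3f087b98f6a80048f468f464ace063d187f3d1816841b64c554f45c09705d2000b0026177c26940008beac11617701c1c1c1a19ac19b000003f0400041ca02f5c8be8871093c8fc0000007270bd2090c0000620912a406318773d11000203c800008ab479b823042ef22ab1fb91fb6208600013efc1c804b6c000005c000505ca20a327b7429020863b4800040010f67000440058fbe001216881e9e0000000303f000081714282867fc733c846000105c908b9096c0000170887041ba3d971ed00b9a1a521a4933f93d073ef4f860d244f8502f983438cfe0f418fbc3d4231423d0529240038900828800bb1455145b1a483d2d0001022068cc07b400000ae00001cb71cc14409099709950a7f01ee3eec30f030e40010159424242440003064413e413d4000812f322b23fb000105f01d381d280000190,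
  nat_lit 0x101b70a8e17d400004934feec4fd055d05603d340f246b986b9cf4cc81b3d320144001008ec8f2091849d709d790d2c1544fcc00020048f670acdcd028d9549cecd094f4c4fcb3e27463b34243d30082476bd175cc5b4f4bc7443d5d463a3d2e0168f4d8d088f4b41580007051230be0f4c00001224f8a8caf4f54c50704883e2932bc3d5100033f280004012000228a4434c26ca28000004a28ca2ac2a6411900002be901df016caaf0aae4d1251d711d10db050bc02ed02ebd182cf498fc93d9b34573429463846303d2531e89ba09b9912d8a47d182cf490fc8041e0428342a3429462e3d233f1c0a3cc1b87db87dc4c578f488005114a03053d65342b31603d2130c8001086b4821c82208520c814fc6000322d21291036c135700133f140008794479410a7493207ad00011e501e4b046800000120bc73de808ac15ef157014c414cc1fb6150214fa1e2e093c2b0a439a2d6b315a3d1c3f10f8bcd29cf8a400800098f474f46cfc3,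
  nat_lit 0x504861e7418ba18b90e8a07993f540000986c4e8806e28e4436e26ec000005c000010624da011dacd48d1ab4ca04ad5cfd41ac61ac7117b117f3d4e0158f750d2391974f5341563db132e032e23d4c06d4ad44d10cf52c032000313db13da0c42078031b02a60000051400000ff50a8505743fd43f343f309690dc00d100f520fd3242d46c0343f3d47063829a4cb88cb7cf518908242627543d45016090bccb74f5101143e3f46533d430be8d008cc28f50805f00003edd149514990bd00024f50cf51006a000101440008fbd0fbd408f3edc3ed90001002494ccbba4bbac6b9425c00004002d101caa651754c6b8b704b700069406881e30fd2096509ac1a76000000043f44000053f811e011f0b8bcb8349789164cfd0150625913fc81442463f00013f3c1538b8c07644764c7e440000fce000109c500280bf13f2310b410730d973e7d341834173f340000b29c3ac03abc7d52ae42adf45e300022f582b44ccd00004328,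
  nat_lit 0x1fbb33083d6e0450f99d1a04f5b42fa0000000b0f821150001c3d982ecc2eac24741c336aa2c4e000112940000012000332f31b061b03349725e73f780008cbe83d383d3000108a808ac01740000cbe86c844a915b915cb18f51fc1345d3d653f74fc291b38d218d1f4d170f5905ff19a034a846933f7311973d633f70f9a519e0d1849680d168f588b81100418fe4312345d345a3d613f6c3d18d1c513109690cb7cf580fda0f3011933d6003800d9c7ea808580020fd90005004c1330fc9cd564d26c15740004fd803320334055b000024840018d1489cb035ec1564fd7000534532faf2fb011f93b040010cb5ccad849d047f000332d645af270522b40008d145122c4a08bbb000132ee020d0a5c0001199c2b407b73d5501442890000800005f53d653d680000000400181228cbfc34ec34f00e3002a0fd6,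
  nat_lit 0xbbe2b9b2df11830000002a00004174c2cfc07d00010ce23ead3eaa0cdd3eaa3eae05d33d883f9cf61c0121cf813370cf30cf445550d2300013d873f98f618013000006080d292230000c0018f6140580fa320820afc0afd3d8500003f94f6391a68fa380000fe4000205cd04eb188c0000bd9cf87404f2f6114c014c41b72230b26390d510b52001000140af93d813f8cfd50d610fd682be42be0f600fe23f5a24801476062106203d7f314800d800182d304ba00050f8812dc00102cc04b5000315f812d8000857804b200012038f78800002743f3e35714044107800080000002f3f84001800d01b3c1b64117400a4fe005c905c600000c74000c01300330003000116a6062516c83f7c7ec4c470cc34f5cc725405b35f2346d3d7207442d111804cc2cf5c49083d75346a3d70107841c0d1a0f5bc050,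
  nat_lit 0xd410d441b230cdd000332b4cbe861b04f10339000080d305360cdc000101a81ecc1ed8000001d420427b825f1000142fd47cf47ce372f431e13c10ce13fc803551954000005a0003274f464e464f2de400090f70a68417700010048fd8c56a800348f0023a41f78ff11f9c0df60df5000c24bd42f72ecc00080000b36c308198f198c000000011ea800010a54a0901dc42944293000516343fc00004662d11d41fc8fef000021b62db520990a510a40000405a2aff0cd700001018fc84d5e514d8c0901740f8b0d3842c2450681c780008fee4068360e2e9844db246c070f3e483e4900013fb41c4cf91cf92000010a310a44fec19540001249824690ca9071f3fac8ec90a30a06c65540000566cfea24963f7000150000000100051fa000000024004c2d700050bc53d8f2b28000c2f549044473c85f194e0000274a18e452e00008000069e194d2cb52af43388057f0075007302541a30183300023fa4653cbc8034b834b060bc0004fe8,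
  nat_lit 0x74d000415dc3eb0000c276074d00021054fdb8000880e0f6b00010a04704c00001d245291c9f478f2d5d00020f693fe0ae20b838b5700004ef52bcc2bdd44b6000011880008051028b452500021078f758c7e8000405a2d59000030780d68000c0060cee4509050790810a2d0ff711f8456d00020d24fd58c1d8000469e000000170ba017b400043e14bb106ce83e28aa700000f8a3075301c20553fd81a901a8ca680004c18500001b441b4021b933952edc6db80018b60c5583f09000315e4392c00085773f03000215e438a4000457724a700000e293e0c929c0000cffcfc00ff5000100031da41bf31bf23fd00000001833a04f203514ff3000407b115312d780c14000814d454ed1508808,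
  nat_lit 0x8004c00090b752010af8891ec91f1001000102ba1c16177c00000ae071ec59400024340481045910d78005a005d40002c4c002c0000c270fe282224fff309b3f8c0fc924db08e900013ff80000000c09e409dc1280004255e3fd9073c203208e73ff4000c9574ff6445e05d3cffc0002126e01b901bc3a4000050d510d5c1b3000024572455200091582214221031c42c34000cffb03c106011b3b0b09000218c10cd50cc0000431f077c199708e108e00003033cfb5461cc00085a10abd000023d822c02c100008000c076466500e2000100021e350898187419f00004074c58e461cc236cff4000001d203ab1b330b0129b499b11e9c708800144a525192ce945c6460d2d6d2467233e000143343fe853b01f5c1f6cb5d800010cd860243340000142cb5d1130c0034002070740008da0d1e491e98dce0de28ddd90cccff9059b2d702d7144c2000c0f0c3ec4001c277412e0006142c1d340014578,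
  nat_lit 0xbb50bbd47253245456f3e0825903bbc3bcd1b051c98ba54f81c00500b312ae122e122d269a3e062cf0fef4d7e51decff6c00000fc0001156045b210b204c4000055983e3c1af00cb0082007206cc0100b03018f42ec003e004c48f83f34012401200000cef1cd1003930ba0046004740186c1c00009870cc11cda0036476b35e635e315541b0c4015017000d467c05581ccd00343fa403c8050400082b485df00002d1f30b647673f9c21ac3f301278000404e8000009600ad3e00049d000001391dbc711000b83e8048c012710041c43002a3f980d24033c18842c940080034001f002a1c4201a802b002980000027c4af50033df904970002009500f500f000000f000aa00a30001040800001448124c30840392f680000247018b203153e2c470a3e0740080038fba5173c0a0070206fe000c07700a240a04002c2af,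
  nat_lit 0x431b431e00001b671a140b0f403015f8000401080fe000001440000001011b81ba000518b9009c009d0d6400100130000004c000474343660366486fd00b000016d6046e01d09d94d1c0d1c4d5249a20bc90f87500a0ca50cf941392f272f263e1c3134350c61fc44f100148914f86cb2f000919d2301c2f262f243e1a21dcc424b148b13cf8646ef21b42f173e180ba0b3651570f85c727223a22403e1606c86858a1347c7c00000ea00003ed72e7b2d2e1f22402420504d488a408a247cf45814f851008000d00c413441aac1aab16073e1336104c486cec8438582cf848c7619cd1aff26e3160b3e1118791764c090582cf8406b6316f40c93e0f037cb4505814f838258138715f93e0d0c5068285804f8302431f1a15fd3e0b091800085404f9f805d000105a805b003b4fe643e640014001042d8ba8c9960ba54f825007,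
  nat_lit 0x2e282c8a2c8f1e161e153120311e3e424058505050705094f90402a085c0858475d3e400ac91aa91d6cf8fc29304ec25db3e3e080ca7e4a7ccf8f402600030ada0d2c05e400043de8627415d415c36d536d636da368933303331195c195d47303e3b4054fedcd844d4d11d511d54f8e8fdd0a4745041eb61ebb47543e3940510254c454c44cc9b4c9b4f8e10131899276a2c7f328635363e374048001d0d550d4032700030c9f0c940c7722561493263c000471f107a07234541814010bf01fc24c11900464034e14733474e3e3440447a1879fc9ce917d0c434f8cd01027ce2a1a140f14143e322afc9ed8be3d1c9cf8c41bc2712327b352e3e300f5c92851c8cf8bc0ae00061c7942212c45101c00fd403c000506f8bf4909dc05942264182100e0000004d06f0dbcd06e432e832d8630463046308000100d0000000a18c10d44002001200a480a34f8a8f13059f05003e2904f83aa81400f8a013d000c0d3218801bcc002c267826940f2,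
  nat_lit 0x5fd0ba40ba80c9b0cd5369017f85d98d154590058fc00089a70c5826cd26cb000128d0316031649b18000048500000003323b1d0515b9407400083ef03ee88400386cd280001323b37f445f72d7c0000759c7598421101c32372687048a047e3e5820ac002c003011c8f95c3952d4204733e5615591c3011ccf9540f00f4c046b3e5408b45e4011ccf94c0fe205d04733e520ed41c18119cf94422c0005000415b34100364d400b0b98438f438e406c000c563cb0d00f20001103d12d10e88000040f44b281af103d4763090416060007001008ba1cc53e4d406828282834f9300aa04631cc03e4b00b448b89910cca4003400310ec0df68a36d204d072c6d188b21019000b43af296b27f44476447440610ec10eb800280024cd64b7c064f33360dd40dd50892000a00023393405cccecfbcc1d3c22cc0024000058006cf158f10c8000117d45604559c00005570003284d156507e80000013,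
  nat_lit 0x134013b3588358b48c7365530a43e7d4094000493c90e7828807068f9f1024067d21ab3e7b07342b842b78c8f800001ce000310b910b81f200000d0e039d439d83f1502334370e740e751e213e7803380004f9e0f9dc08e090e32ca3e760004002cb7bc50c903750370b1d3f88000015e448ac000813a02803eda00012038fb6000002d212260e560001000c2d44025302550bb304e33ed7408800003950539853a434c0e580e6b1e1a284719e7000140848b5d1548baccc02467a40001020000019c719c919e311aca66c5a585a4880f8d59d1e28f9b101f01760a320e393fa9356c3e6b4078b78c398c39987848f9a88871f6532bb32bc3e69187423f823f0f9a034923ff35093e670850a104d3d4f99822e4723351d3e6508407b9c7b88f9900dd279a2caf3e630508fe84d58cf98822c04873e620000091503b42f44001c111,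
  nat_lit 0x41b4218e2ff12f5e2c84000040c40000c004c008c8e0b2007bf32d9301526b7428e1e6d05c03e9940c11c18d4a4506c5070c78c1700fa6102f0f2e351b483b301d31f83f0e3e9740b83d143d0085fcfd7c16ecfa5902d263805bf3e9504f8516416fcfa5019432d105b93e930574bc7416d8fa4813d33562869286a282a00010c4000083af03af8b7e0be44d0fc312431110ba90bb42820281d02c0001137c130c130f469828273a2c00005efc795012e17bc1eb509d13e8e2aac004815b015acfa3414844d944d43e8c0b8c0018002048b41c103a22fb22fb5211017dc1164209a0004001040acaa54a7210b248264000c003502a0000022f3f8218f10895089c00003c540934813484727a627a5312700110010000240a4003c00045804436d01351ac10280000160010da10d82e594134409c70590f790f6883801fac0000c59000c0000000103f800140134085408900011660000448d098bc196836d0000004848b4b7ecb7f069ac69b01d641d551824f9f9026,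
  nat_lit 0x10a290a3501740000d1ecd39c40d347534743eb60b046f84d368fad43ba00033eb53eb40d78facc04c000b0048001c198c10f435a0d2f0d1d0cf900042ae8fbec538019d04b1c4e280004fe220c428692faa160b138d000014fc00081728b9d4c5b45ba84e2c66c000105cc19d5041a0674000017345b484bacfef05d03f1f05b71b6b0e5c0e5b156c156a3eab40d0c6d06ac0d198d19cfaa84410a0b0a0c35803ea90dd01d00d188d5bcfaa0c1a0701309735ac3ea702c0fbf4691ccf0cfa989f0335535a53ea50ec017ecb0ac9d2000001c900000797274401bc1e6c1e6084dcb0151a2cd5ccd68cfa8d033182333a81f281f2d47c53ea2316c6a606a549e34d310fa8440e2647352035a03ea003ac17d0d68cfa7c47e03a90001337c24180f5c25d640c80000cded1bf4fdb82a40000000203a81154000ccead1bf006f,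
  nat_lit 0x64345aa00011078cc491aac0000406001712eb42aa42a90b8e0b8b2de740ec00584bac1b84137001512e415b4101400501d101d28243001340ef40f2091855580024c2b010fc1108a0283f3503a0706362a344900010180000c4fbccb8c5e584364b37000213f12f36344940e400044fac3bac1640000411e14012044000004c154f000013e90ffc4c3833f011ecfc94cd000008cf510e90952061d0622454c000124591908cf589c911c2800005531038000612d8366947fb47f23323255c552800144b5cd7e89c084e6d03747e64155000403c0000c4b643b98220000212d913a0120800044b446fc440d12d600020c1b0c1a34c80ef706d617f4000468e45529036000032d83fc8025c3061054c30640020001828d028c4bb90bac08d8886bc86cc50c850e51ac44b3d03500050ebe0ebf03f903eb326800111db47b3413e000334804790062c00091a246fe03a6,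
  nat_lit 0x43a743a21f441f49191400002504000c99f8b4e49c8877c8644c70300020def3fdf0a1704a8000480e4ff5811a0000004899f074247438872c2370237c23887cdcdfe8a6b4e06123c898c898c49f84d460fbc50420b8e34b03ef002382eb4d458fbbc09700000a740a730db31f50362c37682e5c00083c00001004c00048ba46c1829f809f009bd041000022e90b9d0b9f01488b9c6c106bec8338b4e80000a4e00050c0343bf297024b545934100001030042e6c2e5809950060003076d07720b1000082ff892dc05500010baa2258060451c0d79cfb900000280c282048b837082740274885fc9964dc504ba04b9c987c51cd03f0bf935093ee329242fd0d284fb88aca002e340033ff0bcf11680000c1f0c2d0ce728a44524452328aa4055002340f8008800a901b014c0ca74e661c1926870ff0002119200008495cdc105f785f8c1b8903d0001125640db123a161d40f014c8001400004944a00125131dd31d6000323244c00c720c7540008695,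
  nat_lit 0x1ab308d265c412c000804c0004088b0884261610a540b640b84128000c23ec8bc45940002077101a80ffc534c272cab0c000c003882c423f023b423b09ab492106fb10a586fdc6fc8fc3904903072e442fa90e3d3f0d412038f89048fc30b2017bc0e0c3f0b0004aaf4ab09134c9d183bc00000f39000001303470347c000c3b50003121f122130b643cb23cd316e16b332a1329e2730411c0008487848805060041c0f90001121d121f30c0266f309800004870486c56b900b50462cd0466d33b93f040d9cd170d174d82cfc0c29a44c5482a3f0204acffc4d814fc0402618fc18fb3f000094001401300031bf4230a230d456e2c3c287f28812bb728841b8b1b83411400086fc8000863c0bcb36882ed91f981f9b1fa21f9d2cae3efd4110fff8da50d17cd1e0d974ceb8ceb0cec0fbf104342862179217820d620d73efb31e905c4b9e4b9dd1fb8d5fcfbe80041d1c029702b300001214000028642a7807f0003004913f4e3a0e3a1256514c41cdc17a817bc0004de0,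
  nat_lit 0x3f6e000020384cbcfcbc00004050c4b0fdb505527610fb9409736333f2e38f4a110a108cae8fcb48de352736333f2c01a800142a680bc42d7000107ae1ffe02c43528735c736490d490b47440000905407b01d10000108b41ee8743400000dd00003f2700022bc749071dc31bca1bc44825221a1d09202520221d0b1d191d16414d14ace454b034b05cb058b034e09caf70e0a8e45114acfc990522c1528973f2500013f253918b050b054b050a254fc90a7545283911391245283f231340009870707074fc88486202d162800000538000516f81ab011a011b90741073d05100002d00470c277e3273101e41402b742b890e00c34c8714001104f1c9921c00003023cc6108700000813e0a080a0c00010175166c86fc000040d0003449d38dc38ed493f43d621b9413800089a2093188ad47f8104d0001449b495d4975450c15380000251cb3d40b20001000401ae3fcc3fcb07c1277f43653f164130891089209f084d484d44fc5451c000931d6449701340000012,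
  nat_lit 0x3f4d361d357c2d7b17960f7600153f503f4d4179022cdc18dc28dc2d21e8fd3105d1dcf1f3e240f1f90352f3f4b3f3c1b241b2d0d50d5e4d868fd28ba142d41c19359b361d36193f494170019401b831b4948921d8fd2051c033a3f8b314701e5000025b800001b401b3c07881853fd648900bc32701270048313f463ef040a8d930fd1402d0007345709d809dc2ec4483e3166416c00187f547f5c383c38388d2505a000511e711e6356c3330112800102f6508dc560000334502aec06500008d141132c19300012e2d2e2a13f40000be78702040d47b436433f3d0b0484a4d828fcf03ba3f3b013000180020075c0df0f5f3120163f0004065487104b14000822c12ca30492a75438a04ad00004164000c4f38603060340f500f447fb8811012ad058000213cc17fc21ca1f6b12c7415c00044f44ddd508345da058d4bf7000013ca17fe0d804f1c33e833ecd2792078fccd05601cd312f3f7303213f3238f845c440484ccc4cc4fcc4a8d,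
  nat_lit 0x4208489a3f69000400052154d728c7789ff4385000029b136f842d91a2d241d1998a6e487bc87b4560455f8fd9c7af02f145343828494035f13f66419070cd0bcc8d3477c8ca14fd94ffb35b9491948943f642a5c02c802b0fd8c0df2eec2eed3f6208b855dc55c8fd8404d1dec1dee3f600ed50abcd7a8fd7c0090f9000a800a547af295e0000418c00045e385e344ed415c015bd062000017e3121e17b42a042a084d744d54fd710463571354635ef488a3f5b1260bb24bb78bb90fd683751b5024fc32783f590d5856bc55c455b8fd6034e2964365f3f5701f8001038746f345560003028a0f0303c80004384c858036a00000ae922d511b83840a1d43658362009c00b68fd4d06140110279027202d93f52165c6028c85409b40b60fd44bfd07e002e13f5001a800180121d991da617a7179e466f185a424e36c83779377b36583f4f41803c283c147390bb08d3c4a1790b584df04de4cb78fd3905f,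
  nat_lit 0x141bc309501a00008000034dc054116a0c8600000878000c26d403e4128819d0000004c0885010d00f820104e9468fc00a4fe18fe09067030742d0360f3f8119d46864c4e8fe0017a40f0368c3f7f009c83b82cc40000183000008e708de04fd0804bc34c3a91bd4c460c45924d122bcfdf50660a9123dc23e230c531353f7c001902d480c52454dd5cda1cfdec53f000d00100f700f6e1de50fc007a0205000000120009255133de33df0b9e0b971b131b19419400141f941fa035c401911c7000000c800081c601dd4471cae50001071a2d2f1a0400001c6c1d983ce0716000400071f241b941b88000c1c141ef07100002186912c912d400041d82548261d000007c0001018cc18b8257000309f709a804dc0000fdb0fdb40a0000033944085027cce509df04d984d94fda80ee,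
  nat_lit 0xd307943ff3fa308fc291c290cfe882b5010e01073fa10ae816141600fe8061a1caf21d03f9f07184d348740fe7811f08f008ee0000023c0000d5acdc34d9344c284c1c651906c2de62dcb2dcf2d56275e2591258b000141ad072c9828000047e000125f917a817a226052ca400009a145e384ec4b5f26831ea11e9d126e0760075c29af3f9841a8c550da98fe5c07446f248c93f960a6000100130002100d100b2d2c3ff404b141a40004a0405cd45cd836700000048585858705d592314fe4906846862ed2369648c33f910c383ff83fec5f0cfe404aa185d48c13f8f0830468c46945b48fe3c209122b48c13f8e01600004c380275c203468a0003000105143d4408a8000017c16200a1700040880000c089c071805504ad04a9000203a40014000845a8970424f424fccb8,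
  nat_lit 0x26642667266c266d3fbf1a5861206124fef82671f8a26693fbd01e0999d1fb0fef015a00010ed70fff0e0e0f3129d400003b583ff8fff40c88087096f096d19923fba0d64159c15bc5e08fee47251759127612713fb8063861c475ccfedc115441e36c73fb60c086fbca5a066386634fed802c40582df23fb52c8025106dccfed0001000822fa1d591947381c00000468878c15d011d06ec00000af80000012470e001b000d00123fb00b9ca164e45111284d7cfebc14f10a546eb135a3fae067449ec49cc4d70feb43813103135d3fac05388b9c4d6cfeac10f13c513593faa05681e3c1e2cfea432c00061016100d488e0dbe0dc241b8000c4cf90700c714002906d0001307341c302c91d040020004023b901d086f8fe9895946ff08fd08ff3fa50bf513f0e3e51000fe90318,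
  nat_lit 0x315f52a2f186b460345fd2ebc0000013034a29f949153fda070c48d8dbb4ff6411515ee473c3fd80140ff852448ff5c1c200051433312804b800102305028c35a436d1c9b25ed000107f400049db8b090b2a5124c8fcc946c94508e4507b0000276f283737cb379b2f7e41e87f507f610ed879847a4c79e079dc8ae0174c172053b8ff490790ae7038a039214ed3fd141e07120712908e453b0ff410772ef4000700093fcf05d888d488dccb1cff38ae117c926cb3fcd00bc00041054105c2af81ef000013d913d141d8c00cbf74729d0d946bb86bb0d7f80d140d102fe8ff2d0751762182d2ff60bf33fca41d0528052846d402fc8ff245a52eef095309510bf23fc81224002c820c2fd0ff1c33514e10bf83fc601a80004c6804bd04bc86a704290000483b29f31bbd1bbc41ccc618cbbd1ee8c7d8472447211e24000107200031abf2046167106e706e141c400080131d7c0ed80007000b0649064b33a63fc141c070ac5394106c10646120ff0106f,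
  nat_lit 0x700590e21123712362f4b3ff942105914125c1278ffe0e2646f62f483ff7101800040018086c18c45bb8cd80000000b0b8e02c8002c6f6cd7fc328c329cd6810a40ffd5083068f06900d3011603ff429d05f64427c428cffcc37f005908a53ff2053800182e08271c2ec0209020b00000198000870ec6f4815e000134dd1a9b13f4005c0038d940d908d7a87af8ffb86e733ea28413fed04311e351734ffb01d80b8124893feb06bc6f44a0f4ffa81260a110a1a246a1aa2167302ce02cf00f60005444c444b4208000036a00d2405741502f5b12fe276100000118001102e4d404d2fd081000306ff08c60b70000824443d803150001091400f90a58000024482820291000401dc40924465393a44444200c4d51bd4bd686b90000507f2f6d2ff032de1ae200000344001c0000cfbc6b9507e1ace08bf035b402740290372115d418d1a2248892984000141f407680000ff74dbc5022c1f3102c824b0c2d060fc243507c,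
  nat_lit 0x19350000000333040004cae4474847584a84d78000300002a47141870c024e800005570004009d120d0f1c00083cec0e9c0ea03a1460a39c934351c631c6437274010422c2940c761003c06e0f39494e400e080d0078dc990034202015800bc000c00071c180e0c14a142280008da00d838616c616020500012079207a37ae439104f043f07aa9283caec8e584ae20ae24ae30b2e0b508b2fcb43cb45003f803e500290891ef81ef930aa31541dda1dd040094220159815750e9c7364a750c9490021087166d33d733fa34e534e731cf40074218bc60cc30cc38c12500188871c101c151daf1dad40052f34d968e1dcdc690010a970fec161b4003037c3fcc574500080f24741493f400104e1004cdc6100002311d4a1dcd3fff01543f183f1cfff831423cb49383ffd0508703cc918fff018100052f47037e037d43bd38f338f543c91ba7474311da3ffc421470812668e055071cffec4d000010005168001540000001c88a82ee,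
  nat_lit 0x404b374f4975403206d415ccc278c26500c448517b03747403004b8004c0132883000625ed1418000c012122b12271f34000305491f55184800081211d13287e00010acc149c58b000002170013000209e900a8000480e402800000b48589c722c0001009d08f00022483247301d8d0dc45cc45c87134000833006c0141c1c4800010678aa0091d4712c000030c000900000d3d03a4000001300010d422f9047372f9542380018000077781ab04eb04f10e540e58229c000209481ed82b049d6800046480d9a0db3000000bc0004c0ccbec0d8cc0a7108d00010000346818d8c0c4beb8d8c524dd0060061000047314017025c97310061005c34942743870425e12130001176117601d63401742304eac000400185f5,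
  nat_lit 0x126b0005000902d045e127a2426c0004ca88d0f8ab7000000481ccc6dbd0ef52904aa58c93c6c9463c063bd2364a4ec84008408d33c41f401c0000509a14c349930b3627cf27d100700000426400042c3001b88af00003312422603752088e198e1a92824676024e037d05c1901210980e5e1bf509d7413041350a094047425c66ec25dc9af4a820000c0011011902e02c003b622c80de51703404542586d308359011013d0003003632ee1207120817b40ff04254000800d8d56023920d420d8308d404212e904ecdd750104027404649854040009800043aec84e817d415c47e7092f47e747f0236a04a904ae000c4040403f42511894be1cbe2cbe14c29d00f905d4140413f00010b8c00045f00613061103e283d99093000017bd1c4d0b411770489ce168b1f0ba205e48000909218f81793000104e8229449b000000ed00022a54045f03805a6400009b648b04884307f40360001334510921094424400040000d150c1f900d4049048e304a3453307d40340120d9b8dab8d8d4dd3100cd090,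
  nat_lit 0x1bbf1bc7406a06c8000820c11724af1922f068110a0000103840383227083fc004101a901a047f411f49b040670b8d1378c555019805a40763784406504880a5c4884000412e192629c8000002c800105514550c7f1c439000312a612a22101227c0008c4a4b8602f9000112a412a305f400012094be9838628e931242fb625f6290e405e150c1b1ca3e8a3dce728c52d0174c8e154022f722f628eb314a405c427c185418591dbcdf49268d016c8c744e639d52bba31ab31aa405a42790254c95c43804370a4250164c5d000101300008606426486230001181426d30ffc000027fc27f04a917eb4332433117da40552ff47850a4110150116000009e009e913d031a047d2318a389b42734274432105ac2f2d0588737424d4000c003cd0ed033d014d09c30a502a0343a40ce40523a509b80172501441160e9b05c540500074002106684b3c0ac,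
  nat_lit 0x40df0001142c0fb800002d2090545344aca4687000200064759122038ab127c03f440dd42b4000400151d60bb55081408d029602a100000074000424b0248c65942b80000004824a82498ba391d24d07861c502090ac212e33f7323648e213801382408142acd51525084e9d1e8c990061ad02010aa16ed1c36179317941800407f42a52080c9cca40122a05ffd01f90a8429e186e407d057c576061a101f04b5344f00010dac1560d59409a8d7f00004564c00e400bd0a713a00000159318d856280008180c5064144000015e4181400006161050ccc20603499c372e367c495a313331352fcc2fc12903155a15562ac40009000615f94298001478ac61782c300030941094340fe06501578429400009d8823fc24049de04c3047e10a435b7047d00000a6411c0ab212aa0c58501c40010dc6811ed0a30b24052f053219931bc71bcd40703c1049e049f0d3a06f286f3101bd0a207ba07c1481128ed378c406e42846154a4609820a47d01b4a9d32be4827378b406c201c4a54de2d01ac1b3,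
  nat_lit 0x30664088908990d940008199c63141d200010663086405f4000019a0ba402910662004c004e02d9292540a0131c1fbc08a0089c545867a5027cbb11465089e41634a0349ed409e31788bccddb8ca6c678c679d0274da223fe2c09317129272921409c42c03a20156815642214a481026d0af000100480008aa4d24706fe41b800012a932eeb059d29e000005ad05ac40ac2cd22a9b33d649e849e437b94099134c66906660bbb4c7b4dee502610542a9649dc4097096021f4a45d025804d1bf537b64095091800040cec0cfc0d002f800000b2d033722002cb894dd024c01d130a00080b4d0a70001c52a0a8100060e6c4d3c00142cf134b000415e4320c000c80e134a00020b384d280004281134b00001055185518609f24b9b4a77ce7549630e8d115849368a64ca500001502286030320431fd0ae,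
  nat_lit 0x1b71000000013184000102fc2c302c1c442844390b5435a435802f702f00b0b40be24346ff0dc612988df88df8d02f4937261e33e0163c000b40bd40bc36200000bf94d3d4bef481e8702460328f646aa4a94394237e74a0c40bb42d0421877c076b86818681cdf8102e90b32636263c45b30f660f6340b93778196c87c90694280502e069c49a8249d249b40b7102002042d8d02d855819af0b5a40b518d832d47db102d013e2ada37d840b308651e18bb5102c815d0af70af440b101749594957d02c00e900010048000c1c6c12ac12b0700d23287340002414c237a0bd142c800040120743073f08ef3268293140ac42c41c681a081a04a4c902ac1d432ad1998199a40aa0c2c40507d80df3902a419e000f40ad40a810008e6927e102a005806a006a340a701400028c05c3a5894f05cd05ce00040e708be044ec0000132,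
  nat_lit 0x2555302639b53982398439874a7036f440dd4300880489408930ac492021037066807cf4b72470b2a712b5140db42fc0030743d0d0806f00030131145c8590732c574000106c8168915ce000315586c40572c00080f2167415d200010508d054574800002460002377321f817c917c815d242f848bd034c0004a98c0bf40be10bd000049f2392c320729d2169b42f0ddc0a2d8346c34585834d87103450bb341137d24a1737f540d00758a6fc84748489033c7e62ce537ec37f640ce065c11c5286928750334aba2116211f40cc04fc71512600d8aca744b3a4aa74aa7121a4a59cdc1400010ba00011068423838b34a6838bb36ed316d375449c71cf31cf142e400007e647e6d132c4851f9f000740ca2eed109f0e34420e119f1199175126be40c942e11b792d4d1b509af5032000148e924ea35af2b9f2c0d469040c742dc32fc3f35031808f20ed268840c508807d20a255031019424ee268540c305790308a24503080e9000526274b1745a00210000d110d111070207c0c2bd50b6,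
  nat_lit 0x419b000223b023b3300316ed432c0004ca38e3d8e78ce78d11810ca000026d31f3c1f3a2a85421d43248eb48ecce104e4390a7800050960ca111ef00000579065cdd6c0000a490014000b1e6218d8493800143e242ab00040b40492c000c52b1247000215e0491c00042ca124700000a05118911804670466c4dec000449150c81d522010439b16fc0000146c431c4de4466438c438d4000079c8fc60b4b0b4c2b3e157600000b4b43182d25076c28508ff00004000c8a348fb88c48308030910c507f50a0f0a1323fb000033bc000828202804127c1270a8e8809d2ce0eba52cdd16650c4000117e11af213948a2cb0d0ae2cb0ed17f89ac5039d0c317de260a25de4acb26b240e64308b3eccb64cb34e2ec9ac5039471325d0260f40e401dc1f009aa5038c298000124db40e2079847548431038431224d824dc000001d800041f241f585c7c3da0000272007c506e8972899a8003c0048c50cc510d230da48d9e4e2b8dbd503790c1,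
  nat_lit 0x15502f8a2f8932fe368141192e685bdc17b017b48ddd04604e82a6e2907290637b04117285d055ce0752989045800b186a300d383f41150d586b48c360e05104503d7419a383e411311f8a068d9e504480b200001e39205b0da47240723c787c7884789000110d32550205a20561e631e24000343487f20836c7890000834d1e2d1e2700011200000001200001e1b1f8c20c920ca28b41e214344786482ac95708148814d042d0d026a14749474b410a06787208814504241a444fa1dba000402e40004012000100071fff1c8600001b48720879611314000034c0002204d204b255520a31e1231a800047864784c3a6000020ea28aa17b483ac94d05a4c5a40d1112448d0d4904c0064008447d904090cf2d6f2d6c3a262083208444c3410143388118789904001381f7c1e2140ff08401d481cec00045f502430c5f024d024f16f600014334310430fc99ec9b5c5bb800010cc,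
  nat_lit 0x223d532c841de003c28c800048f50cb20a5188a410dd000023d42349096d1720eaf43b6460203b983cd08e5504cd0dc208b2b242b223025302d385f4132436d13e479c479a89b909b6104c50da02410240386739c44a8a41303cb81db86ec8e4f4e178e17104bca7d2346309848d63831412e0d745df90f9d2a1d04b41d541b2385a412c01d40d54da5504ac05930903855412a0cfc6a5928dd04a42bf000c096337e118f0969c000052380df115c000025a933052944df48d52c08680000095115a0000021f165120e8000052285df14af0c7f0003412323842383302a436524852488a7212dacb2991ee0a1f4a1fca1f43f803f9400050d844be44bf000001e000083764567c57b07478d2b00010ddc0c8b043800000120ddc16af2b2b0d86288d3a6d25742165216d2174060741a14a9041a60002411f411d435c2550dedd04705a147a92c9d247b45e045dd063b00004358000c639c63543ab8ae4018e50d500020441044415502e302e74e369270ccc54cbfcda0904690d4,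
  nat_lit 0x1075278a0cc70037415738814153438d29f0dfec0051054d0548b1d0dcb37df415100b438fd0a34713c279d08f8159800010e200000dbd00f312980000012415d1a4c1a47000005c40000000921d0c31c7320011014415fcc534c54400001c3000847af47a92a311c700008c338cfb077804d600011d711d6a02b80000379037a40bb486e0c7807f700030614779c1fe800082dc365441f40001047037cc1fe800001904146386f41420003001c14d107f23bd04458443082048200a6b905042df293436322a392a3d33244140316c77dc00782868287504fd0e137e7154c154a37cb413e06dd060ce1652a4904f4a3515281b8a382b413c0f5d06e12a5904ec07e0da7369e413a02c800048a788a7caafccc050f850e000001ea31ea0213149484767437c000c003d11d8d60cdbb4ddd0ddb50c2504e10de104004860e24413707a82b08388d04d820c,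
  nat_lit 0x10d9e3687053941e843af43b000003678837c3a60d9c3685355630df30da416f43ac24a42498d52526cce18105b90ea1e4a3204367237d437d3416d28308370df8cdf94e17ce17905b09ad000000480000a648c4c0e038e0310ce4b3d476126832cb0335f2ab2000043a400107388967817a0000416e416f005729de43a0009820708ff041f400200004e0c10e700090000382118e52a40e03c00a0009c000808a1ce30066006700010f5c83e879f000001ba0005270e275e38952b2d4b9220ed20f41e7b4398001119dd19ec9d649908002400350e50003266e3aa720e52b0f479f20d82e64000893c47fa813e00012373236d07880000926872a013a128137eb415c0238001c01248c437fd37fe4a7220c90000439000187878787483309cb00052b053a7d200c26180010ac0898e8435000321121e1a11b800088314832019a00011ce61ce806bc0000ac011e401c5,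
  nat_lit 0x2f582f5f000000bc0018233023346fcc8870a29000529e21bcf17d400107e385d34594000330253085062c0008c07113d01930001301f31f701740000c06cc2a440d4879382141861660001d061906143ba17ed17ec41840199060c04c000027cf000000051dbb2bc043c89f4099c12b58d570447c000878629e8094409431121000111485a904478000007800001fca113d112035587f251798b06c9e48e06105f90f11db54a893817417d1020aed52b6d05f022b224a2247417b0578df88e2a105e813a00781e36112c0005000318841127000543c00005117c44a410d000017c721ba11f05f1478dc78ec79600028002d05dd0ef116f116547b92b2520e8417643b92520d2d8c2412244839905d50ed112614e50006000841741e511ed4ac880088006d05cc4d214e420e5417205383b80839905c415a,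
  nat_lit 0xa400a10000019800100120002340f350638ea41d001960a9c00001740a5c00a0152932ec3038303a3594359341a72088d02d2b8cb04d25c0c58906990f9000a000e1efa358f41a541a0b0a8e5cd27d9069021205d605d1321c41a312f08a7d247d06881a521b3321a41a10624001090eca99ccb34c750e4b0003242c495c037c000890b077308af000124291df71014000090cc8f30243243401fe01f931760024419f419c43e0abfca6548a1117dc89d489a9066d0f723ca4af338cf38cd419a19ccce08dbd92bed06641ef41aa4afa419807b87b94e08d065c1fe08120d2909151800419743d911012dfd11785ffd06580ce00051bd51bd449c0312a43d40b540b3cb6352064000800010f4165016480000192400000130c041ac81ac638bf000e00004820482143cc726472886e186e04c680000c7a41be44acf31a000022b840fc4c448000404f,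
  nat_lit 0x1f4f26512a5b26cf004c0001295498b4b358b368d980014c0001100000133782ffd004b2a800000c844701c16433763378325d325f39074b2941c532000af00af454ec7a30464107110ff0c6a188d1aff1afc41c325a8474c4678467d070845d0003000c41c118d90760e3cd070047341c538f141bf0e8c462d0d1906f83380f4d0444000601505408000062185541af71af441bc000011a002210d190d1000006360003070529160f7f449f0f5f0c7c43f800081c102df42df041b000107074918156b280000001c1410d8058070246823b6947e12b052e901191119241b643f506d40000dbec0f1000000f936fa03c303c41aec41b443f09764001c00305f50a8a00001c8218e4791000042a28cc123a8088825d400024a6031801b7d43ec92f80004790c8b01ec5000042d518d90b44000057925cf000000011b79318012e64b4a42d043e800006de0c5ecdb543c30b1d,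
  nat_lit 0x430c0001142c1fb000004154465446600060004096249741cba0c82430f430a44180000e3fccb2cce74634224b1cd31cd025dd25da0003441512ace190c43cc42cc418c51000091041fa032a7490f314600010c40257c3ba03b98000022a0005072f075a093709381a7d269c00101cac457471ec5a7c09c0003072a31c111a00bf92c7400081cb830dc30e01bc00010725072400b6259c000109d87e4c083002541dc41d90a1d076005100010f5811ec37f33295440c00003d70537c0720f5938393358257f25b7000144087d848b911bad1b9c96c80000c5e000645fe23a5257e258225b6440400148484993527ec7400f730004212729fe04f8000c8068807019400022124462611f00004847889c04fd00002118120b17b4469046ad0734387000341cd41cc0ee9072c04c000743563170316f2c16237400047e78153088c,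
  nat_lit 0x42420942040504e25ce4e9080c1c11e602e3342021868c7352da908041c00031003842000664009800a507fc1c5000201304edc40b8b0ed0ef8000c001500c04711317000203c03d250ef00004243000503b12d762d6e28ab28a63b1400101d644c6c5ec0003447a4476066800000858dcd82ad01e142224b5f41f719d4dda8e4b107d80270753392c41f507e44fb86cc507d02a816dd34b0000401cc2c1917987f4c7f440008001cd5b00032c302a2547f54c8e48010bea0bee44200008b0bca890a8a4cad4553d107000123774668337c3373249f13a40000acd0ace4d50c3d71b2d1b2a003c41f241ee30104754dcdc00f000ed07b4b0611d43736003b41f041ec03b83250472d07acb20002141ed41ea025ca3900000a7005942347000016a41418002400381cd4c73030200af,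
  nat_lit 0x13424b8b421f02c80010178c179014200034432495e091800040b305af85aec8118c6d910c36882ac34b88421c0e800b406cb52e1d086c1cf147e19af421a079c15b8b0fd086423a300039504218071033fc33e9085c1c8421a395042160718c6c09b910854199072607224214085c0000051000007ab09ec253c1e9c66312b64d6ac66846699084910b086d0870170a1aec1aee4211286cd6a52e092ded08401ef10d9394a3948420f063d08bd2de508381ee051d2c32420d01710f34e2180000b14000000cc0f0c0f140f7a0f774b2f358d08b12dd5082c1c219991ae6420a101895e8e35802c0aa40b83cb0b5082910a21ea45de1f1e280026d11d611bd2025b000344244f9032b8a6e809640008be90357025b000101f80394096c00000b2000019511953126202552ca4a92ca928e4f50814448,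
  nat_lit 0x444100050fd850fc00103e0000b00030b3850f000083df143e00010b48012c00002740003000119cc1b19143a44480000527452642d6cc0a19ca09f909ff153130b6396f4236444489504a184788031909192e8908d511044e217c317bd05fb05f842342ddc2ca8c6f5273108cc45d0794396d423204f842e0c06d08c417f1434364142300f4c6718e5a508bc19315453333422e1034002c1cc04d543ce134c000023dc22c09c48000000188af000711231cff15588e684eec4ee872ccdea40dd0000d10f02f903010001000203722ab3443800000010c0682c6000209e1030202ff067c0004279124180ddc682000009e537a108102358236c521c17a4179d089110d301743aa054c0554422330250af8e66ce571088800b1bf049bc33264221298c91312e24e55d0880485,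
  nat_lit 0x25154a1d0413040b082634923952425a446096c824ec78143b4ce1ace269096511715951b9f1b3d1b3a4aa54258445853405e247778d23ce53d095d1151b1739813990425605590bed2f8d2f1509541bb2484335e3990425428d0709ccd812f05094c34e0009000616030ae820f02104000005b00030048000401332763277398b424f06810a30cd50e6310938e26430439863988424d09809578d981093005842523988424b0c089590e62109281c70a9b303642490be88824882019141c241d1cc0d509291140012001707ab143e109029640004d71850644e20003335022c05d340008295859444e000000c5203c831380000705420a8000911307d049e11c1408290001028c46c054982d9c000034e174a0000000a0ebc0030000c6e206be843f0009103210350d1e0b390f0c510800183e2,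
  nat_lit 0x42d1c33553359106c000cc8a91be8685c1480001024046df0da843b0034400010aa068bc083023d24e62ecf2cc34a8935804c564497056342f338b7427344889ecc8ee88ed8e070db59340520205568006509d509c91212b32250b25092b3d2b39427143accdb8b82893d493cce5ad09c11201a221a8f30ad00084271426f19a05254d6481d6c002d09c109b911f0000000a075542af106c0004552c152488c19cc23811f6b08df4332341c25290089008c125e00024478497c497400041151107182c000001cc00008d2114a002f158e154e000e426a42691124d80ccf24dd2d09a0408241c000b426718d90bf52f5d099822b432039a0426505fc1d38e661099013a4268399d426303a40004003026fc2e084780000004800281ab81aa42194215062c000044542cd501a02a902a94001c0018568c5688ca2d11d240f00014bce038316851686392244710b60e27909740004550911b425c000015410df2003344691248d528758917dca14090849080cd38ac68e271096d119,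
  nat_lit 0x7ec24cf15d215d0000244ac85d4881800043d330fd2206000005740000cc952cfccc30cc2c5e845e7512a332537b329a446f222ed428e429485ccd81485c88bd88bb10a3512933672060205839c9428c2860a1a0ccd8e7290a2c1ce2b5739ca428a0d703400e71d0a2433f32124bff42880798dbb12ef90a1c45b43603a1c160315fb003300000002054544a0000415111d44f0f920e000d1127000005570ab901c4150c530d2a1cd54d2ba0e810e7010a1912616b037eb4b554b59397c42854494bb0cbaed28752ee10a1112442a739cf4bf7428306d45b30e54ce6f10a08485428639be428111f80020120411fcc98c629912300030048000401315453a3439bd427e0b609670e7f92fc509f418d43ae39b14bee427c1d1058d8e5dd09ec05843114bee427a07090cd4e6dd09e42fa0019427c42780e7000181ba915bc08f,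
  nat_lit 0x1d5f0e9742ae0140000c38f013a033d00020a060e990d900031226cbef91edd104838290ab113834d04b7e3a974c6543f142ab1f3038dc1a650aa81e6061f00050009041e11e0b380bbd83f403f44000031000061461449e4bc122cd200244dc001447f51d349424940cc6fd1360004192a27dd0177254c000c3d10e4b46f3000211f011ee09600004649099f4314000011f8250605086494ab44926497789b349b409ee51d08578c5784003d0a851352419000c42a02a28002c04c14d7000134bb469d2067287928704a0137dc44d032ac32a4a4b40001200c240513348050000142c534400002a5d20e4b8bcf251201113214d048064d2f29aa0000037f44c40df0973c97409a009b9d1bec464438140000001c883d13000010e110e0b1aec63bc901883a483ac83708fcc001101f16231f721fd01fd7286f20d6000344bc8478846c7c307c188f74000912e44dc09c0000103cd1c711c60000031f0000220a27fa23df23e023ed44b4000c002d2974d120e1612f44e4c115b90a4912c,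
  nat_lit 0x43e043f22ce42cd0c6d1c951c990b301a4001c0048005c3d3d10b81ba000d004866146608a3d00000e83c23782b0514042d200002038a2f400010b490b44cb3231f000000683304d9ad17f000180df0005231e471d0f4c000c828808c038b00014943493e020a020e01f844fc000046f446f014e2f0f465a1d9f00020cec827c0004001033d2315271000000f14000d0d5c1aa8470486808c351c8513e0002451e275b0fe70e1b0e1944f4000514749d74cb0c74d47469018000016511d8107990d4c10d410c891ac48f0001030011e90fd10f3c000305d8498000044704470838f8d3b444e30bb30bd11c5000332b400080004000117b117bc5fc45eb11bc11be0001000044f04938341834104718000113b000101311f261f021efa4b77069d431003bd250a11d511c544e8000004d00f540f48c7f43cd06ff012c330133fc4721237d36aa4b172b6d34e20e9b42b044e40008001438e90abc119,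
  nat_lit 0xa000c273812160041004042ea452c9274b8c523acabf90d890ba514a124d052342e801c83b5014910b9c15b0005004877400008000d0ed914906d90001000322e84520000408606428e1dc11090d3475207528b2711470000000c000f00172cd63c49494e4518002c0038004d1c1cbf411fc50b89145222d222e045d046242e109b4a3d8403111290b8021f0024273342df0ba11fad1fb50b783c50ff40ffd0ff1000510e459d87694001024911db11dd000304bc00290b8000003b500042ced4a1934333b9945bb151008280004000cb3a4000d0b6509b00022ceb4a1734323453466d15080004b39cb39cb3a463d8082905900002ce72b892df424081dbc3c1cb3947d307d3896350ff90b544f400040c940c9242d4006d0b4c013215f0040000105080009279ce254e250d648c65094889494ae24d17490091440001252147772d9947590041450c0000ad6ca40ca410effc8564d5131880169016b19590ac50ac62bfb22ca42cf45091058cd98bc48f0e91ca10b39141,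
  nat_lit 0x21a2076b0f45340f3410000227483bb90ec8000057922970000341c43b145649b7c00000ed463603ab00000003177c001c407c134d0dd50dd11580003232b3a0c4c8225d001fc01fa24902482455c00088c980ff40ff8e6e117eca2f00011e641e6a0d490d4726da455800008ca8ce4cdda8ddbc949d15523272d8f290528f728f828fc284c281a238a100f047c42fe45509b74010801183bb10bf8004011e50bf5153436e436a42fc000006e8454840604079119011e50bec0a41c151263047642fa0f5c862011b10be447e000809f01fe0177c001c27b479b008f02fe20d900040a1d2050f3812458ad18846c846092500654000515149ab3d743d7449a801880000001400091bf4f0e4e538e6d00655150000120d400261200000001346fa4cb244430e840e8142f1453c7a5ca06cef051a2c3b790bc114e06e40e510edd42ef087d1a291a343b750bb914d24a00004000642ed0ca4000d10f039b88eb07734773114c000149892d53283a240b240c2cbc0000013,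
  nat_lit 0x120ee109808ab458400003f98857055420ec3b722bdf3c534d6d4710202a08ee08e9441a44194323458073c873d0c6e458d82c110c8915f43d136d61acc1ace0afd432144542670267827d90c8015613cf13d40b00431f04946750674c2bf90c7803314a1000000080873080508000a7445780020718832c05540005004c88044d143acd11c0c0e53208cc70cc607f887bb07bc52ba0efe0d75c7b4c000115d0004233023321ed918c8000c88a888ac1c100022226222a08a4000520b0c048364000021c4209807dc29882c39103d104024c8e9510c5515c1c5638264314168444b844d10c4c0e047693034302200012420812c8e0c000005f0007470e22d722d928e02fc330d0456c001882548c048b8c814408dc8d10005209522881ebf1ebc21c1456800101c7841a80f20003209521be095c0008823c8a1805500012050204e0c50000081451bf82ee071c11294309018ca0b80000867c0f0,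
  nat_lit 0x1e711e70343139dc434203e90dccea8133110d0415643533a8e3a7e4340002cc6b88f311ed50cfc03446fd3c683a7b433e00287058e9f50cf447e000232ce0958010717380004cb68425c2032a7a081300100011433b1eb0cb550cec00410ce801508540132433904390ce0013000b2a681875227000200008b7040e800e701698168c070006f5165000800012dc0039f039d1e37190000080000b6fcbb24bb313034547364c2ad32ad637a33398339707e507ee47484749000245912f1d1ab431ac00049e614b8174f0c69000005a4000470241bfc1c183d7000004c204e7096d2c6ce9bccb010cbc4ba000f001032c3432e2cfd184529fd0cb4070495f32c2432c12e42010cb1d0cac30401242574432a07e4000c32ec32e035c090208fd08ff1f9e08af0003458c22b0000800181fe92368a9751620dc608a9000108b45a4c22ac00000fe,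
  nat_lit 0x1dcf4cfc3a9c435d04cc53e4eb08ea610d70bc51aec4aa4335b435b0f5ccbc933850d6812e2aa42aa3435900c922f8f584be18f734f78cf78cf73538e12914c1cd25448d708d692ea06c290d6516c1d661d261c7046b246b31c521b0c4358454c5a10000d0d6005c10d5d07f0c22000a4357016f43563c28530c513405ac05b90d54c091cbb1c551b0843540d38002116c116c80a000060c1d4a7031ef3445444d31043060000c2af0000004c000825bc23280710c220001095d01062aa4000025bc305916b011b011c46d61ca61f8107af00060007434d45a8305c1934193005910d31169122e1233120b0163434b3e4000040008a07881e400289a0384c397444e10b3f0000019400041eb51488b51936ad369088287a107a24b36c7a388cc1168000007a84cac023c1e98ea110d1c5a1015b39e243460004a06081cc00110d1d0d180cb43b23a8143450414ce74ce5c75f839c839e000009980001207426b747f325914b1b2f614a0b2fca459c5dac81848bc82dcc2de43e983eb83e98c7bce5d10d0d166,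
  nat_lit 0x3a120dc90002037d23d123cc000421002792542000000240004028ce2c93119322ce5310de8004c4a544a78371c372917b000000a343ed06e8001c0024a4a0a308aeec9ddc9b6d21a88bd4b41cd9610dd917a24bd337c3b5a4d3d3c0e3c063c043657437545e512b0ed64ea752fbd2e410dd0c8b04be3ae53c4034593657437345e0000c02849e343ff00001091109232ef453c140245dd2744f6e0f674cba0105410347aa8c6cd0dc5176457a4d624cce39533b8b4a92321b3943437045d40264e290d1dcd1f12d450dbcf5424a847682097209331b0436e45d0a4c4bbf0b9d0b9d8cdb90db517328ab00020f20166f012e45c802f8000005a85540167000123d5141852ac0000a5c48af28c229b73d0b2e9e3cea2799279727a3009800920007000012e4444f0a3d0b4b4c5d45c45ac45ad8a9f800000e700001e5e4dac3e283dae2cb745c03d2d1320b4c0b4c42eac2ea8a1492d1d0d9916f0386037b0ecd0961096909d13365436545b8e92c381838053419341533a8ea750d9116d2dbd091509132bb5363343632dc4e6e9350ceb9533a0ea6d0d88ed82be94a863934393343612718848c8488d164e4c90d8045e2bb604d504d131a0435f4240a114ea20ea250d78134,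
  nat_lit 0x11361396a2b622b661e40461800004d802c644d804d7cab711564545209920a628b728b9296f28041f491f4a23ff439646146738672ce7ccea64dea4de9cde990e55184157318df18e443940210ab88eb450e4c293170e4d19439201d87b7534590e443041ee237de439000940024c00d293d39dcf89d39c52878b6c5344518300004a283e043e474e732fb82fb946085100512535dd1b406f2400091810007299d00010c9c00082880287c92cc8fd08fc4f0d000121382415299c1aa4000050ac50b8072479747981ae818fd19072e4743894600a320a38083c883d0b9290e2117f39d439db387c2e4943870c84b7f52bd50e182974385004800180520e21c8b00004004c000001246753c5435a8139e44530000427800000a0c0a1c0a4c44a4256517e0004000d04d01e7b12e012de438045f52784edd5131c320c31dd0dfd17c254b49e73ddd4dc626cc437e1d8495643e104ab50df422a472d26ca437c08780008051,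
  nat_lit 0x145d845d911ac118b4645130c000800005710bd10a630a61000205f872945e7000042dc10a1109c000005f000012630acec7b7085a24a011a04b4b341400034628acccd02000083d32b4c1d8a0001064c0008ce452ca42cd42cf0094000121fd068a46240000ce981a285a0338e4b260b320b1443aa3ec06310b4e020d42c4d0ea409c12a74552454f43a80d1d2a983d910e9c1162360000600050a6518df0d5f158b462000044aa433f433d02a94879000000487f88acc4acb4000007a00002b203d702b2c05cc1b108fb08fb850c450d44db0003000483539137098a50e891870a5f352a362a362643a110e0c620b7d10e800f21d651d6a439f0851260cd8950e7823105c315ac439d015464a464ad0e703972680267c439b0ed4484cbf18000808f1e4a1e4300010f4d1a288c20000004e,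
  nat_lit 0x481b300010610021a0ccd00002a8603c000047d105b7c5acc2168b1d00001f452b1e107d13591e5d1e70000408200000144aa040064544c15d000200010c0e000004194638e0b88c0017b8177c17380000303518d44de44e0000210185fcc5fc80000173118c00011ae31dbd180e12641728000030985bf07a00780000501d0000001200010d530d510f0d0f6000012970f8dcb78ccc930262f7f2618136300031878c6f11a68000834905d20002000108b470844d54000022c44680007000419240004013037c05cc000000030d18000800141714171c0530ca80714070d00011c7c0000013000217f132f113592d1c0001190d19201930869086f0862000700010000462c0000002d266cbda8f5d92240e39,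
  nat_lit 0x45c53b3543f00804692ce26d0fbc0260000004875fc760c767000041710c9a0c9f00000c08000511849b9d2330f70523409c05198000004752c55155011cd2f3d0fa808e000000031479203d19f4000531ac9348191c19106b5d197000035d535d32bb4e2653408271027090fa00fa45b83c263b2943e728d4b8893294e23d0f9837549de36ff000143e6244923a74658001434f476411d8cda1c71cc49f049e44c20021c023464a0649c753875289a84510d19500042a2f1ae846f13cc54c2e36f64c134650000ca8c0bab0b97c91d091bd193000245180d3b337f473a02540005145c346c483512a0c33000026d5143e06e9145434bc3e99152000190f81146c363490f091090f7d1920354158233b14b51388543de0a344bb490e52f3d0f74248192d19304d5b43dc2a2d111441d90f6c116000339963994453119f40008e650cc2c14e00014cb62b3513943a2d0f6400c4c71cf8b8f8b1288050c90f61191209c209b1a37143a126843d746400004740d1cf4f1c1190911ad18f,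
  nat_lit 0x3b40aca17b40ed8d98510346460ca93544440c0d81102c051000000050807081000212f5cee786e24d8a05132a5e0001080c000c005caf94afa003a0039119f00024408360020980004002c10e422404fb04f7018738660b8f440546780054698cd3a8d399101044e0dcf4bd135443862440346741fa87a50e18d100821c353d386344010c81100001238770000000e15fb461d16d91c740034ad092714ad3845d4888919c1f75171016e41d08000003400030000d35f0e9d846d83c08df7d19b2b2d000300000174111810d8b2c8001040821a306950003156135e410b0000855418ea18ee0001064d2af12ae800000e900020355342f063e49ef2bbe46680004d0b88d880a80ef50000004c936c8dfc8deccffcd000ece4ecdd0fcd19920b42bb73b3543f20a7129a5360d0fc4070,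
  nat_lit 0x506272722770d5b0d570f3d442c469c74bc7488e985156c340110ad1a612f8203e480c480f206a442a469430082fe0610d10a44aa12b31842442807b8003c819d109c05c387b386d1d2200002ae92441243c002c00289e6000512d41b9d19d60e00000058a007c40681961196600010b1800040030e4ece4e0da713830e590d0691a40000000d26ae02c80055330ce1dce1e4e3c47ee91fd8f58483cc0ab49db0a2083ab83aa4b1c4817910811a312d047583cab466716bc441f46889cd49f452f4081651078cca18e018de2053441d0d149188a3e88161107011b1d1948182055441b0a509ce0815510681111811205344190469106001300041c020f810f7d45ae45ac05cc4684000135a8b6f43011b90166c166b1bc70004062021792f80c884c850000c42f26a61ba71bc500020684c834c84400041110000004c000d119476c476b4d9a130552c751a000020234023004f800040ec83dfc2d7,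
  nat_lit 0x11e1a36d01ce70a8000006e006dfc3a41e174e6a4e6d470c444846b49da0004c0051111c34c1cdb331c1950444612c8642c643511141f3270e194f444405d1110c0120008183818f50f4c001c60e880f015d000544c805a61bd01dee380d46b000103fdc0db03080000007e007d0c8a2025271801f401f03224000033dd1ab0002000027f718e4cffc5ab937cd177c203c002510f0814207318ce051a000f443b46a80088004d10e8221042c0010443907044cc4003910e01510519000b4437186863b910dd10d81c01a7e0007443504492fa0001510d011f193d000844330498002c003c201806800060048585c7dfc00002870000004cd330cda0cc3000001c90001050e3364330b46a4cfc05a745a5ceebc51b851c03540351510b51a8,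
  nat_lit 0x197115f74cb60cb400a9000146ec19d80000000c19100040db40cd100aa0bd00004211071c0897538104cc0a54d1ba211c15b42ac6491c263b49233e15300b28472845267026744aea4f4e3110446446e421085f083c04080c00311191118d1b809e609dd000c44634462237436b0e51111843b021854d1b38ed36ac36ab36ae0002224c0010cb24e05d3474d9e480545fbd1b7000332c7384c2d474cdb062746d8000829c5151131a040c00010a691ffb177c000063fc18ac47c0a6e0a680a730adc3453388b38bb3ba0445b46d512ed12f4118066849bac0128014cee8111691b444db1af11af60a860a83383d3939445946cc172017005778cb24e1cd1160fe801ed09da361b0dfb445729d427445efc9ae0e4e511591b2150f3bf94dec445504d05f80ee6511501320b240000045922bc6664001000040df000024152774043402d8590c0000105000226e245970e113599448c00047344735cac989ba51b100001cd01cd60e1c0e1846c0134413301b7c31285df800051af051d187100000c580008671c656465612d4c76f11ae,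
  nat_lit 0x12d94d694c8300010eec00213404efa0eb1136f48104d1cc7c600073811381032b932b6367f367c4700001933a890b490a89ca46eb07b150aa000538513cb83cba466804b0410000106390ad8c556000317f2272603c80008e144e2a0257000138514d191f24000064a427604054cf83962447c0ee8006111f511ec35e447a01300010df34bb18c2b8e07041a041991bf000337cf46ca03b40004a4e498f85b247d1000029382dfb18652bfc6c3c671d1d24d5f8da0ceef511d91be09920991395a44751b0cec74386911d00a0208d4e0c4473095c758ce4d911c8137185d388e4471090c213400340020032419d0000014431f031ec000022c47d2360300000414000114d0e60c55608da05c505bf028700002eb0000013900a0c05b04df1ebd09e90014446b446a000017a546dc3d0d47de46f52924c03cf93d3d28d755311d3aa51eb400091bc,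
  nat_lit 0x168c2c5a2c9837514c5335545a3021742164b1ecdacd12891c4104e1fe61837183344a141dc391cb4991c9c60c91280bd8367420b220b636d3449f2f5c03180314e58912783362ee82ee33be7449d0a2c5f2ce5e512703b04c0738ff449b2a285724000c00180df000307ca1c2a1c2b36f51a8712370a8e0a9245810a8344a9470d3270000000081f2539ac121848e862d000107c6366320aa20ae26b800001f1c3ead1eeceec8e2e07c3129100001b5000005da44aa815d17691cd71cda276027963adb449447091508eb6ceb69124c1d1128b395c3959449206346fdcef71124430245444e2c44900be800dd1251123c14a00020048a5fca6142c8000001470004198f2c7a0b1f05a0000c6640906c5a1029b0002198c240c0740000466287e00bf60000198d23150a582a509b345114213d1501388d12211c102210a0e364f0e2f4487301c2a50e5b51218a49,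
  nat_lit 0x457d4e5e44bf01f800341e6c1e7077292d892d951ca000c079e23b50154e90c24c8000006f00004daa4dad4daf339a09324724000005100062520251b06e853b88a948a9872e4f5211bf000086c6111311171cbf1cbe1997170b00011ab1293d293839b8000002910110c98000100003f911be0dfd03fe0d2784074324400011c8000100000785101c0c900358ad744a281e20000400003370002349a4c39001544b201881e14004912c4a490e59001244b000b4d25d30d8004912c912c00cf0009001a349a01a000042be0299029881e1195719560988098a22cf34ad3aa74e27193c00010000471d1d611d700000299000327b53c724e7e3c9f3d8a4e65193a471800089ed8d779337c5c6c1e6ced200011bb30fd20e3c03ac00009ed46e2412e100e4c2d000944a944a80188124ce611129c063000f36db44a60414610086945f491c691c5c0004d2f0000004800045a34aea84afd3aed1c551c5,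
  nat_lit 0x10ad529a00700be3cad907c447c3c9a949aa8b950e608fc0cfab8c3f4c400fddcfde4fd8cc4fd13711d104d10cc00cba003744e03c2b44db47407284727c40713b64bcb0bc9913691cf0fcc036103632f2544d90354d320d324bca8bc911360080004439d944d702381cc8e75d13580970008004c001801239253c4d0d250d2110ca000126711730d854d28034a434a000011ce00051cc0348f02ff02fc1d8b2b140010619812f8688000310c810cc0514000872fc6ccc73e00011cb71d560834000072f135c413517f21c9010091c5e1c5f3c1a44cc47340d2853d800211331132d1cc2f6014f5000744cb44ca01101c94e725132409f0001004c0004609c2c182bcc2bc422491cb000025e036ec38cb4d5517940a580a4c6adc68e91e98ee20e70d131906b0fb6469a2f152f0f44c52920791d143c0d40bc391310b9814ea450e035939c244c3103812ace6c0f03d13086cb4c783123312244c12f14bbc0e55ce6f51300303,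
  nat_lit 0x635063846c43d4346c1142344fa476c506d1afd1b00508913e40ce46c639db44f8000400292d5934e406e4aae4aac000007b747681ed00000001013a0001462d463302b8000036ac22f80bb0daa08bc096509fe2991243624322539294f294b4a2830104fa128f3354a0000476400051d1cf6391d505f3d32609570e9635bd3903000f44f141dc1f2c97f9265c003913c11d80dca2f3d44f044ef0d1c22e41f20000913b83520752000344ed0dcc1f3400000029264c97fc84982d1c2d1032fd1d70009390107c62c2000101d2c567d1b60d220d22c525cf62cf6193c18e094e09934c4e040475035fd18751d60003004c4b842b440000349000014ce016d01710ace0ad14754cc6ca370b4f4a454a45c2d882da4a13c50f050b5139d1d4074d0c39459908310015001e002444e944e6474c8134f0c9139417a1c763c3444e40c1061ecf0d1138c1f9001b44e544e2156c000004c000a1fb819e30b0d2444dcc0c1f8fb18fb0d3e3cb92cb920f08850184ff05214002000186fd83fa00b8d1d200030add16a3046000082b6c564833d,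
  nat_lit 0x21d021cf160e160a45161f0c8c5c8c605838582514551e44b223f414fe44af0451403e82eb035303535144c3da28112b2f451201f935e4ad0c0014003022ec22d0233919989e88a7c114491e34d4334be45110a4c30e846111a889d380004f0a0c4a2758000011f800007d3c9d989d7406b1f4f2df21c6b00011b00000c3305188cf3b0ed413908802c8038f4793be4acf51e200024ea43c364ea63aee3aed4d3e36701c6647840004d7c93378d8693de123c0700000035f14e4720aa48f248ef4170d7c13370d870f15d1429142460225c325bb49a820f7000b450826d07dd00009141c04d20fc0000450603f800200130006004800088eb80008001082002fc2a31000400000c0c1164114c905c978c3e403e5011291588f188f144f13d14091e023aa3b842773187a478e4eeb37c517a3179e3c534501477d2670c6e1266896213a9114011de0a074dff3c863c493c4c44ff47752e0cfde8fde0f528e78913f8bc020eb3bc04c2c2eb72eb644fd2938000c507d1b0d1b1050910231d354d113a3b2f541057105647420a360000477000012ab12aa41dc,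
  nat_lit 0x34ba338f453305747fc8ce5114c805d2ef1338e453103b40018179817ac77647758944510703c7147c1c6f1c7820bc2c8b0002360412948c74b21c000449c485a2c8400001a7800053914eb9cba549584958c9b849bb12080369c36987e0cdca4e439234c7cb91ed0000004d390cd0681b901b84254098b527553b1114ad1d34cce35633acd452a17dcb4a4ec84f1e914a429c335f363f452805e8825cf1e5149c07646b63c7945260804b260f1e5149420203a74ebd4524156c0018a9d8a570a56470683ac83ad91ec0000272501ca2f9c18d418e40000070000146a5202c14b51b28000043488cdc1ba10cf11cb2a73295529562d592d5a2b482b5c3ac23ac1451f47acae413da0f020ecb8f400eb18eb08eb0114791ea2a771f611f6227483633451d427ca9dd3379353123807f2514711e9000204382ca9091920920e4c47a00004081408180b440c10f2f1ff329a54f94327c250125082510250e1fa511af46b011b411b635532b37451a479d15dcdd6cb9d0b9bce76cea70acdd14651e6114c2683160e160c4518292099cc99c8a800a7fd145d1e5,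
  nat_lit 0x215b2ec5455002b1153c04c464b23aa23ab471913f519802f940004454f47d0e888061c001d153807b09452218000e454d0d6c2484002515301f2454b0048002c9360be3817a00002cc320cc245749b749b432e4b1d0000002b01258125c4d951f300b100bf000000072c5f2c5e400400052ddcc4712c70031802f8897000020c123b7152456545674000010500020167238629ff3bdb2fa4000405c46efc4ca11f200004560456306e805a400180040b6508c880f040f0d15051f12d0820c220c445400a90694c694514fc06f00041b052ef84bc43d913574465c000c6c193b68d8dc8bf0002187b187d4cb847c000041c581c4004f00001afc100800bc6bf8d46886c82178b3d13598384038485e3c7398ce4d14e91ef36b315cf03bf03b60b6d0b71453947b888ac92c0ce5914e045d0c3c0c3e453718d934f0ce5914d813e357133964535057cdc64ce3914d0219,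
  nat_lit 0x29ed1cd40efb0001201c000cdf4141c8ff84fa88fa853f453f08f9f4fb04fb08bcecb7ac80348040b88cd1991fe000237cd4db738751f972dc72dc54f070ef247f40004d1a4bd4c9fa49d006ea51fc000037d4346404430439201f47ecdf349db528f8c468fcacc9d8ab08b05915a51fa0008000c000e264727b932752ac1456847e4bca04a10f59453889f80aad5159d1f81ba327642763456628d44cc4a5dcb05115941b51e9f29a32abd456400cc6e80ab05158c07e132e2971456200c800180120003067e1500057400012894a00cc228fd852a091f726f62ddb355336164d2e2740273f2ed5455f47d8af692bacae991578000400051f545f61c0f03d203d14f09455d31b51570ea5cea6cf29cf2a91570b3a1fd5155847363a483a96455b432487bc87c8f048f054f2a9156860949713ec82eb5000304041d181c80000815934ef37bc00010b700010b05cd9f4549000334bd359d08800008d2ec9a1c18b000134bc37a80b5c0000d2f04a4c4a92a7c2b9945520b04d840ea2d15441fa,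
  nat_lit 0xf1c48a03930393135491e851e804a4526c53ce13cdd458b4819313900a500b100b8c5e0fc2cea353d7cba353b7d162920524a54f853cff4f393cdb45893e912fbd2fb4b8e8e9d8e9d91620a9549e6243b24393cd63a754587314013f53668e45ceb14e9d9161897100000087008a0f1b0f1e2a09481125d925e484a809e009ecd7bcdb2cd538000d20327ee2ddd0059458b33e9000233d433a1422d422941f0d5440004b961ce836f32e150252024a000027640014ad9cada8c1fcfd04c4bd29389cf49d25202000427a327a41ce504d0000caf90a720721076b0002281b1ce306e8d838f69cf254001115f40a10cbd0cc22df00008457c0274ae34ab2d15f4003115ecbcf0f1328fb27b60006457a1268ad74001915e404f000900122dd0037c32f4b7ac000c0000a030088043b04362203365d365e11ff1204383c3e36480818e31ec91eca2075207b241d00004804000ca70cefb014c814e4aa7d2000002297629772ba42bf523ac0004adb4fe812f2008400000048a6609e609e69220d15c89f811eb11f145710a6447a847b115c0298000c1bb1456f0c48a424a428a41921f8000d1ff,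
  nat_lit 0x21e991676167312100004be68be840ae03670005000f46a33d72468809ea09ff45a64820d0d0d0a092e116941531fc724b645a4043125a074c1168c61a302d24b645a20498402cd684000828700021280035a17d4000449ec857863c00002d091947064c1b2c1b50000459806ad1cd000000b200000012000a000c08163b32459b08d44cfc4cec928d3ab9166878d497e4f983b2f45990818578ce999166036607ab3b2845970534000001201b001b915901069000106280000000808b408bcb44cd3dc67e0082520700013b6e3b70106508200000a56c927c06f4ebf3ce545920a4c35b835a11644027181537a845900a29191d3cfd163c026000524ac243a0ffc00105bd4141c193251a119f00000a180004c87925a81f9,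
  nat_lit 0x3bac4f003d1945c5227cee913de1171017a49fd359445c3009ceeccf069170828a10963d1845c107e4002419c81d903b006cc00071f931f901d98186d4848e8dc6b385fe844147e5400106d68f1718e6141a47883e154f9a3c063be5064a06492476247545be48447270727933bce8c8e194df90dfa516f52100f881bd825362e733d1045bc2d2c56f4842484188dacd62d16ed20f1ac31ac045ba00011f8d48391798d714658d3bf916e440f123412321dc2246f45b8015819953ae8f03916dc48604653b663d0c45b604942d6cde68f14516d4a631204341637e045b40f5d1c34f42116cc47e4625462204f328394e9519341588156600024834e238000000083a20002000f0b8412c512db478314532f2248300004001c1f5078dc1fd0000000607d7047800313ad8d95d34dcd534a6844970496516b920b08cf03740376053c053a27c537af35f545ad4828d6dcd7e116b002f00070fee1930192d1fa51d034824001856a8374c0684ac24abf00010168000cd0d07e3c1f38357,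
  nat_lit 0x469f4f0d3bb210bb10bf476b45e348640a040a00577808ec08e1178882c000b001045e108400bf01fe517803b54951494f000403c03c5891bca0803550e55c00080030b84057239280d540d5210590000000b486000084bbc4bc84bd44150e2e000112ee12f1291112ed0235342d3430001000004bb449a12f61368000102b000043d9c8448dbb4d2585fc4804000000481c381c34386c3b1000042a311c50ec4000006c80004e98d3a903b101fd00003bc64ee401c80044004842b91d69174c5da000610a645d212011744012136c4eec000e000d0a902630262ca878a880ffc9013901814308f9fd4008fa08fa1d21bc5698561431bc00192170003392f0992023c00082f282f383d30000004c1bb41ba06158df946158000400212161851186500000c9c000c22f8c66d2e0c1b84507521500022bf80e140e133bd400040130c7827681c7e2a3f0d250d272788278629422c4045c74850d7ecd7f53db8f49cf480f478f46d1719213,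
  nat_lit 0x261d000100051560a1240000000c0f00001158f27981c4e1c5128d80000f3242bf40833cc13cbe4dbe45fc092d39ecc33517ec192000a143345fa0d8863cc63c517e417e17414db945f80b712c68d9b117dc6164ebb30cb45f60c202bac50b117d420d000038eb25020d687220b7b4b7b917d047d0af63c543d4945f3068059f477f8f51d17c81c329b53d4845f101405030f12517c01840005004800000130bb10bb4138b0ee0000019f800041c300e70e9ed3af83b7921b0807080645ed00040000071028fc1c404e644e8c4e984e9117ac98903000b0400d300d045ea117118e53c5917a429902ed3bbd45e807a0001c0c19179c3120000139a1cbc4b8c4b8502ff48689ac49aacc9d8bfc8bfc00001115000108362e7b24890d18000020c888406d942ab,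
  nat_lit 0xac736ba461d08c04104dacd18701c00e354dee461b04480000002cdc84f185250c048000a37203c604941028748a40fbc7258d94c21bc000922800042b0a37ea2680268506e106e2489c000cac2cdbd4eb30dcf4e4ac9c79226000225ce25d13f2937b8087248940004abe030b005611a900002b0311aa4890ac2085b4559055800b05184d2234a5b4a5e240826b002c046124888177c4a388d780b091844f764f884f853c9502c346104884d88936f51929183c21c2ae202c2460e0c811834012460d0003469d17d400240008b4580f00a0a0a0d4b184001320740bb40bd40bd40bb40d533653f80255321df05d0000448808118f3fcad24ad20176c000d21f117511580c2e05d2000238bc7348f134dc34174800051b21aad2ec405cd00000c0c00046f006f1c2d082d00d814b210c4452b7830ac173d21e00004e86126548740024003c2c083b68da49373d181121c1d0138a038a33a7c3a683690460330012f252f0c56f457807f5d1808e691430368c46010c5000143518a7e45f5,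
  nat_lit 0x31e810d5d0d56190208281d7d48bce229254c000863600011e810a4d120c000079ec3b3c40519e200080002083c000404c46d218b72f8c30b01ee100010fb034847b6c000007e000247b5503c3f5e49b721ac0004422482c004f0000109115f11aec423082b482b8c22118c40da30ee20ac20ad30874630021c6770eca118bc0631612071700090a1c1c700000054922e00000048001058a026182624a4e828d0dd100004aad4aa60afc00000120000399048c4197c1bf013b348b47f007ec91b2c000441a0e4b4fd44fd00da7d37b137ad22c16230f4b0f4d07130000071648ac41940490049415440020001510c0004004c0000b798b9b86f444d4cf8b000300000861284c6a0800200050abc8f33824e1188922a04000008000b087824a9093846211b701c24106c1090b721188103c02a602ab461f0504b7a0dac118781c4,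
  nat_lit 0x2d163d7e5000134c2a1a0000209548e06be022a0e424000011c03c4140104d2ca865237046e00041b7504de0ccc08a7390848d82fd51e7141411e143650000c6dd12353c5900004784348c175b15e12a7b48d00000cbcc0b3000240010f8132f200011663348a478241fc00005988d2251e0436400e3099332c00001000602c948cc276827600000132000014671d25245c36b84f9848c8512cf9b14031193c209296b3b583da5464e05a46990f699193407346533da8464c05600b14c291192c05f001f0a29000001f400049dac21b082600001ecc1ece13949da8ef3402c8029400092310e3a0e404653000104a4000001200020dfb29470be005a6009d3d18000437d0916859400000df10921043437cc92fd19083934b634b601e98000008180024000c3fcc3fc93d10daac446444512300008000109ec0000136808753c444da8511892300004000027ac895279a4fc2083800010eec646c20c0000041e,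
  nat_lit 0x15581413483a0ead09b049d049b0607000040b01bf4181d00002a2800045fdc88dc9be46075242000002ff46b2020d22794070f670c55119c403d47d33e4a3a6519dc00040000490534e1047ccbe540dceabce9a4676c000d2400be629963a834f1f46d1000048fc0008da58725411941b800015021399048f8000034fc35200503dad2ed930463ddd3b933dc1466b48f5370d430ccd18a530a53519a923c0cb84782120b498838ba466948ec6094609d19a05f5477f5026466705fced90f709199815e46c73dc046650ce0df4cf6f1199004e201938fd466312d4000119900b711d246b0d198d23a0006500c3ae92db32f040000067006801e74772504e474f000216d865c42a4c00041a30000465f1b7d08c00000eb7c871c2a489e23adc47ec07154b614b62071b080c000d001202d5465d48e4c3046de46de919706764a3b00002d4b03c849cc00008494639,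
  nat_lit 0x1307f325e390c33b14daf3ee4db5c74692714a0e8a0f8b0dc120d1bd8f8c4f7ad1a4524a30862f352f341cca1cd14690397893bc14b014b9218541491a3cd574854500d4e813749468e030cdd08dd0cdddcdd211a352493751375231313134468c11048b388b4d3b011a2c855270126ff3de6468a0cd0f714c5c0f7911a240b0383c30113c66468827c11b24f7691a1c3b02fc63c5f4686007400000004889531f503ccb7191a192480006000806dc15a2107a1076077e491c0008393479d82625330132f5246000117562713207c10fc000001317552379101f1194044446822944d3b01f011a042990ed907c14680003800181f2119fc2bf000006d220951acb01ac1b24b7481ee4000124500012f9a0bcc0bcb291305cf05ca01820189096f09750d3317d617da3dc75062473149100000e4184e0072345974ed4459a8acdc32dd2433903467c467b03c045b4002119e821007c300034679090c00000130187396a3b143b1300000608000455585a105a14dfb0451,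
  nat_lit 0xe379d376d46b246b025a86264f734e2b400911abd2504f543780002246ae1a60513000691ab45580bc6001f46ac023cc10400851aac4732d14002146aa0650bd3000691aa415e3de5001446a80138c24000551a9c0ed017e2e423747511e3b871e851e841b23033503440005493c000934bd3c44076145b00004e9d177c000521c921cc52206234e4605bb36d000000074510000280018565454c129989f409f442e44ed88de34de3924e000515981e461c0d1c0929a63e9800103464345c545c6e14a9e0003004800040132d0440df302336d41845184a22d2000449347ad4ebb06e0c6e109a60000d24c04d604d50c693a080002217876a48b408b3c00046ef04c73a07000006cc00002e386c00da30c510c50924b485f50174e8b375346972964f4e540593a28dd491a5808d46c23bc3469502a80020464d410c25b00060b960b8f15500014dd90c0b015d,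
  nat_lit 0xe140002100549600230001c27a008a00060f84021c001427846d6000414a80218000c2cf0082000209d80208000427400860000105400040020000c300c2ff49be003580211257000700020e0d007b1b4a49580018000438311ff51ff00cb00002a4947c904b812ac12b046591b0402a0bee351d485b46c00a6c3904466d1afc06e3ca6119946be01d8039c125d1af41ec0002119a46bc01f40000000896143c2001427341ab61ab74eb32be32be846bb49551ae8012175717652748059300080898202888ec8de4163c001c25d2f6030dd058d0006014c13c013bc164000152540004004c64706460e7fc933c539c53b4559400012760a790c4d52531cd03c5936fa1df91dff3cd84f5a00050003488348810897088c2977295624d0494843804384c04ceed13e14084c085415a522f53d6400100009251172617313655309c000a000139a000000038bea4161861f,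
  nat_lit 0x704084946ec2a28943864952530c8008ffc45b40005262000000041283023c002091204de04a384a4840e0427921a4c3d46ab852b045a5261000724e030a44fe4381a3016390331084c4028892bd8498000180ea91cd0c7d8e0a471f525f00051f79225d0da509e7267c00107de08970f4612300087000308fa08f30cdf0ce610a400087dd863f023e823c8aac000124dc27bc187e0dd400009368ecf0ee982f503a3472d31eb4e890c110021002546e1497800a400991b80075002009cc021501bc0000012001d0c0818c8055501e8074c19e493bcbe48f4cd412d1c8806e406fc0c905d545d64f66090f009580d78000125d001a0e25481648150015024c000805148c33d5647ec008e00000388000400142a702a5c023525c00000002025702ec000c31e0da2487293305037ccc19065906690669066137cd25b00020a9947c150cc3e5a3e3d2759275a276418880ff503da4968000431d89a20094c64700000c7422490d6831c02b8c00000660000004827b41cb01c8c4b743ff8000925918280be70bed100700011cdc3fc92109210c00001d9,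
  nat_lit 0xf3b25510d6838c038e80008003c0ba83d411c2526a36f2358c358a485a4708111847643d351c1c02d00060d4948571550023c0250000c0df09f02a31000004b80008dcccb4ecb510b4f4dbecede0f1712690001254e0f7901d0000074ac74bc2c62552179517930ed40ed81a44071d470149a0d6a8ec24e46ce4647a9c1c6d1c012671c791c764a934a8f479d46ff3c184de84de40990097d1bf826c10421043071846fd006c86ec003400411bf07690266026c46fb04440b5c1c691be826b46f9004cbfdce0fc002c002871f000512433b321bcc0010e40891602ee000200480000a128a13424acd4a3d49400b515e40123eb5088e088d084b46f44998ece87a807a853958bed0b094213d1bcd26538f55094377813121313084b46f24990f65cf660fd30f664211d1bc526347bf48363d29084946f038f4dedcdcec21291bbc5eb244d000d000e46ee27c089c4212d1bb43b0,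
  nat_lit 0x23cb35771c161c104a7814051402472849c801f801d097f89f489f591c9d0103a22509f4f61395e3c1f472649c4000c00045784ac70000203842b85bc800091c8d1dbc000527010a548a4038e476e472202511db51c8400009b1d2b1008b26c3370d395d395f472003848af143d143a91c7c48650013baf471e02b816340000003c636000d2066244e163147972b98000401200011fb91fba217b14600a7c0000b938b92ca840b5b4e3d332939994c3f03ab000049bc00144150412824c824a810f481846a6d273127346a905c1126e000415242a1201c4000c4148414015a068306810000044800012cf52cfc15a4b3c23b6471300040fdd0fda142f3a6b0ee53a6b3a6949b149b454e877e094bcde608ea12cfc8ed51c4926c0b8323b347110001205a446cbaa0565056688ec91c40b98204b3556172f23b0470f49ad21d4d55cdc608ec11c391e412f523ac23b0470d0c0cbbd48eb11c301324b75256800000b7400043cf8d5b89598358,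
  nat_lit 0x6121e4a072f2e203215941ea649dc000051c451d83a3c1e04bb44bb12592000007780000c11ce058e040f838f61d412d306527610c748c603b04790474201892b9c9ba400891d0d1d051cc372b26e800214742474001104854e6011cfc0aa00072418241e1d08100c0234117878887884542011cc000471318170a8c187511701174000300012a861e5849d53a3084cc84d0f778c29c00080000aa352742a87250a2504000002dc0000c2a0e320e51c1e133423a6c3e9651d740be3e9847394218b088b07ca414a40cfa611ce12732410241503a44784473731d88e34915400591cdd1cd861e50cb51014735085020653dcd1cd02c41414141b47330840c794fa411cc80fe27de27e147310ed4e504f0911cc01810000004cd5b40000003c598c1c3000d26d51b1b1b1622e042e800213f940f02c8f0577058000001a2c15fe1b74182042e000140e54639281d08b600001558000029f82a0c387,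
  nat_lit 0x31e1f1176117349e400086ed800385df33602efb0003476130f939241b8d0d600d5e2ee8372e30a322f822f323f823ff07ff49f886d0dedc29d949ad35c4665010801074000800007870e8e527d1e1d343c1e1d1e1b3a3c33661167115f0423041c000149f00d401040103cbbe400009c60000280a2ef42ef900c4c14937b4fa88f84cfa053b68d9f11d7127b092a0265026050a4475b46b4f6007814780495ed1d68e53037003733679475916700018f5191d602974757004839b410080004556000137102f3f204420433b413e1e51994fb332a440493f2d3cdb38b8223d223b191c49e80000dc3ccd4866352791402140b00000b18000001322b922c03dfe51193a7d280428054752466477ec77e4f1211d446754de33eb247500a4d1e8d44791d3c12b36fc36fd370036d5375720d74b0a000149e068c0376c377c83592c240000ebb000010dd1a5016222a4629bc4368c14c00291d351d30b2110f348d003ba479a474b033c00311d311d2808e176b398b4749000474680020000455647494748000003c039fc68b000003c5,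
  nat_lit 0x31641ccc0cc50a4050d1000e47804a18b9f800311dfc1372e76000d477e0134000001211f81a3f0b0b0000249410e347f078e078f4c19c778c000029f00001dd01dcf1ddf0a48e81cefe82ef0000848507430748000102c800046bb8c3194a21077ccded3624643c9cd5285477700004a2f51cf4a0a0bba4a106bd0801cc320000815328d83d5e000105e4f584f580000010b0002049b0d2f120c0004126c17280f10000000847720888001c002d2784ebf068c42bf91dc12830000000647d105c6093631304a08001c04c38c90bbb0bbc0008000004aa4a0412bd3b2c97cc0004832494625ed000012e4000047785cfc97c06ca4905518c3fda4eea368e368b476a4a00123526f526ec54a4b97d1da527f4b5425b6476818d81f4542911d9c3a304a550b047660574000800391d9413a000b0048002020e020cc4e5,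
  nat_lit 0x615369b4f1c1b2b479d2f642bf11ea002606cad1e700901350135115ab479b18700028df4c98508af00060048001880748094aab00eb80ec510c00052125018747b70df800112d60c18c1d00003212024162fd800088480d7482490001212030530e1800003f683f6c20d12e63bc600a700af09d7190e47924a303204b200f97145891e440814f613ef4479029248e1945851e3c02d279b0f26000215249b4c3bdc000408f07f407ef000012d4000071f834b83494ea30407000c000d2e8925ae25ab28b428b54c6828ab2b5a2a5c2a55023c02361b32478b4a2c00240014873c34921b74a571b7c28c80a3a000027e40008378c3fa84358434d4624fdad21b445f00010de20fe93a4a3a4c0afc4a280000377ceee08384484000100061386276a0c0d1d2a4aa14a24a61ca60cead437880000fb000001a93205d205f250325042af60ddd4a20000004c00004b904b95057806d8f4e42a694a5d042ce5206bf8002d1e05287,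
  nat_lit 0x12f62647264247b90920076050fcb8391ee03ea38b938e047b72a28000001232d6367c2757275c00010b9cc0e94654c26000002a00001211e0d2d0d210fe70ff211021105275a4a5c000084a0e53d406cea94ee51296000100020591482847b201041bdc16011ec410500060f314b6d03c8001132d525b84e7c3460001004c000454ec54f4506850745560554014752950000177f294508fa05c926cca4b00008001c00389e78f25542e4e3bd260d1eb12942e573f0f3e6639bf39c73e7938d751cb491f108c47ab4a4ca5d4c1709e589d4854fd1ea92920000311e31223a8227bd48ed0eb40ebc18c14a44f2f8fc8d41f0000067d000110954b251f602650000026b42695224109130f9425541d4338e47a64a411e986ce91e94116000017f017ec064cdf9cf07800001a400013443343f3c1f35280000e284a0d42be3c0b3c090010001239a0485007ee1b2b47a14a3c54d843e43d2c129c12a46cb91e8128e17b117af26fa486d090f479f3ad0db00db0540412a546ca51e7928d,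
  nat_lit 0x22e84dd852ea4e27012e00014a8000085b545b5c564808ad29f0001364b05220521012b38200000012101910182f6f1a2747d330346855291929211f481d52e261a2747d101d40038689d1f401e80000000c13c622000029259c475c0eb81700008049904941e7d050c020d4a7800200008def8defccb14eb9c667cdb5866e466e07578758cec30c7e4c7f4c821262929d0a6d3da63585501340f94108401635564fe540e729d2195f19581a00148c148f00024a707448523c523800044083ba3269e0000155c00092a69030d493903d48d008cf129b00011b993ce7121912173bc800003aa43ac012e0d98000647c747c612e8681cbda0e3ad1f142b23639363838eb47c40dd930a8fcb11f0c2931a2438e747c2080c017c992d1f042020001071b071d0794078c008a4a680000888c72607254363c205304f304841664c0f16f40000263c000c92149220ca44fab05c0d299000200d60087096c00040ea80ed41ba4ab0522c525a2227222a2b0338093c3937883785519247bb4a6094b8fa29464146451ee8444,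
  nat_lit 0xd052f4922a111c911e1000043e4000c5df53f800d1c0d20bc950f10002328c03a3039c0b6e082c00053c353c2814e0000046804642f9c5de53f7060402e8c2e951fb8a0c00012b272b250ba50ba447ed2cf400052c49402806a2bd631f4417b417c417a417e4136223622381d5919d519d61d45398a2f122f1547ec4a947614d0188dc08dc91fac9cf04bd04b5515d325847ea271cd00cc9591fa45574eda4ed147e808ac000c00151f9c0e9000332664ecf066400011f9c64c063c0007109e0ac40ac63bca3c5f47e54a907294899438bd24711f9107332613f643e6847e30494c93d45b51f880b204fd06190511051215a64bc82f0b00054a8c0000bedc36c836c12dfc58bd2a22fb539b02edb38d730d830dc31f131ec209b2099249124c34099409b5251329800024a84000c89f54174842041a02370237c5fe000222731f57109b18c8000489f144501e700004dd74dd40704000c0008418c419c80ec83651f6cdb81ce6237e382c20d547da2ba44bb84be4419841840000a36000131862bf01067106002480000c32489d8594,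
  nat_lit 0x18000152964b571e5e0d5050e916e07ba8000c5794b71000220387ba800042ca102800003344004c00007a787ba12ac00150363035c4aac005005100062745274301ea35280004045499f5070d07150ab90afd0b294c1135e040bc40952aa49010ad7011600010180000137f8d95c45500014c8c267a01124aa4000001315401ce8000c000a0001323d3bbd3bc4000017e4df94df700000060001c0024745c1590001213337f84fc109033b5c251893a093912c44000400111f7212d38f614f314f50000024c0000897473c873d50061487900b44c984c945310531c75292a8225c50db4157526940e62ac22225000000014a9c000823a023ad2a98ab0488907c00001326b32bb4ca1082000013b913b9c15a47fa000247f80134742c00091fdc3142f2a000447f60604002001200030048000034106b402a512a6,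
  nat_lit 0x4800400274df80c8a8a5bca5d8084520bc01e1d7a28342535253d0948020d482e4ac075c0945c25e80098009120b52af22d522d433160212482c46ac8ddc4a48251c082920acbac483c375d10070212482a38f48154d42c082920a4261001b020f4828013c001400044b305061ee1107010741a6d028000024ab84b3409ec00045541338027f000004e800040fc44ce80a00dbe00004877487915580f9869c8000031200004e203cf10f04483c3b452080116482b0ed8481f2a2800c0002c2d30030000a0f8400ac002427c002900080fe4009c001c52a002a000615f800b000142cf002700040f812060000c50b002000020b38008000043df481400000b4925c4f1740001204d2ad,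
  nat_lit 0xb7629a91c1701810001028486b083f80628060400012b70000257d12eb02b05ddc5e88435c000000108abca57041d441ac010121252b600034c3b4c3801d00000e4286ea92c18f51061182fe00bf00c7241909364847221cfcd024d121180a000020008484503f800143bc03bb41e7414800044db54db6045434f0a9ac0000aca000148433fb33f1f2a6c4ad4000000284eac2f1c2f14080000b03df03e12f78123231c231c62f6014600934093648404ad085208525245d20fc86209310934483e005120f401300020048000047b0965939d539c85c812b34c274c28000104847318730c000010b00010fd80b3c22914ac800000b540b3c04f1faa249e3a573efe4837025892849274e958fbf520d80cd03d638724835018c00040184acb85f50000483b1a8c064c018c003c000859800000006234e234d336426494ac4000400287ba80ffc0fec0014703,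
  nat_lit 0x56c056b00000024000019346a9c2be48ee06582ab14c86085e00014b000000012000348663fda4e0823cb085c4afc00092194534453409808980c6430001000c23af062d06054af80000000c530051e0eb7000b23b82a9630d02a1012a8486145f457d88eac40f9218042114d812a4485f0ca0000c62cc8ee440d0001064c064d02b800007ce860ec35a19d215f015e90a600a662d222e0a3fcf485c4af529f53f58dbc947f0e6d9216c62214c91882187e0728071f485a4af03320f7f8e71ce724e6d12165014160732175015380838ca48584aed31b4e97499f452e8530d215d2ba4c6f41f228450726071b48563e6c0000dac04dc894f01320590162a51aa3b7200004ae40014e3dd46946c5c18e8edc8c9d0004268e1f121f110d30000ce3d0a090177000250440b8e09b800040120005000421b2118f11962d8034212e0f4eef1f1e484f4ae09a249a0d2eb5213824d27a01f18484d01a87c887c652130373,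
  nat_lit 0x332f3af8319910f210e948853aa81fcc1fd0ff6d49712211228504b220300e500e6488313647b18f1e8f4252208bc50867085f1edb4881121404503bd9220012e000448d93dd4265f07fe08020130012c4b1d271c4fa00004558000e177a0000064c00007e848230afe0afe92a490e00dee0df95158045f0459487c4b18104063e4c7ec8810243121ed2c50f3d0f3c0f46090b487a4884000c1a6c242521e44ab48780048001c4018a9285f50000004c00054550f78146b41a3823300001091109300d21d04f2cd45454a70fbf0923c225d21d12c40009492f40545280111b089c48734b0c116811646c888970226521c92c202ad02af02b60896487123e4769089dd24c121c085638bc0899486f08b406109b65427400000520002507739431a3c2f143fb43e9550392d9b2b4d1457145917a717a621873a604b0400044d94061c47c000d0cd80a72495b402448e4486c1ae43528166d21ac19206f8059b486a03fc0025294857f0156c499,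
  nat_lit 0x1348a348a2048145a8f4ad22842b909630000000c4b3241844f0d4b2c004d46c817b40bd00bcc25952ca3eb61a5a000f03fc7558695c003812f0006014400000510bf50001110e04c80004515d3785379441b110d0000145916fc4cdc4ccc6a700000a340a3b000600071a5111200015225922601ba000000483008a5a4a31800008bf00051a612484268d268b4e0c42ec345e537b4e8e0e6d2faf1da11da3515d2aa828c44b2400106efc35d035b875fce6600031bbe0d7349bf49bd2c74000933014d41333828d46b0000113d113d214bc05b000006ee8a2fc0bb24022da85267488d0d9cf58d0015223006e000000480004b148b48016501640b532e36509d407152373bc23b872da55263488a4b2060bc541861906178ffc922251902eb5194f195f1edf1ee348884a493cecdcf8ca5843b443b1221cc5e000419fe19f3011a1080b250ef1cca780824082122182fe,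
  nat_lit 0x128403b48bf065142b14aa922f81ab50e7391c48bd0174f020f01522f04b50006399a50d0334623fc001015bcc0080f100022bd12bd249730857446836354a810e453e6cc9e922e52d04afc374e1f1d0fca0fc248b83960e1d8b32cb329009922dc1b7021d021c31df07ff48b60390003d22dd00c122d46cb027a027f48b401f800001ed81eec3621cdc295b00000c80000c316138c10ba937c4af24fb48f22d2cf00020c593f4c26c226c12967296a4b38000431746ea8ef342d400000c5925fd220031645df852052a00cf80002522b8c7d19912a592a582b8b000c48ad4b35006122b522b0137512d000248ab03f8bd0c001922a83b53923000648a90918001c0134939150214fb50b900000274000092bca5f0f70011a011912cc1115110d48a60484fded007d22941db0227022948a40874e47d4a35228c1c0,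
  nat_lit 0x2338b3a3353b529b329154b60000401300010026389b0225490b490d1fb848da4b5c5cd498084ab850807ee123652d60003014408bc08c408d40000000c0f90000079a022e023002341dbc3e24fe0d2bc0453c000496e000048d548d806e800106b800108453863200012359021649034b5400013369335c15b235352bf48d101c12359013923402011ae9403c48cf07b0001c01205d600000005099c000c59e0173c4e5000112444abf0b970a2400004905376c46e0851085321f121f252b748ca4b5059b027502748002123292324b0b49bf37702a5f0fd60fd448c82514ade4f6f8e7dc00292321231d11f4df234dd349f3599392748c62774000542bce448cffccb24b591da5402a13e503490347073b080f48c50002217921734a564b4d24f816d13530c59cc5b100f923112d23268326532fe32ff0290028f48c34b445950594c002d230d2308f1332be297a403148c108d804e500ad2300220,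
  nat_lit 0xb02ff08150d6800005348535d0000ecb808e008f0977c9794d788ad94ad98b4e49e08851084f52df1725000048f722c000000328035051d451cc09800cc09f80003052800000130003237b237c53645215076800086c846c78161820000014f7c4f7724d90bdc00006c7c6c68189076a076e0adf3f130059000548ef4b7891b53b613b68bf38c67123bd23b8c7f04c804c30a66000748ed494008b0000d23b055824d6000648eb0650c294000923a80ed00041aab0063077000092bc86a102d4808a92dd0000004cb990669866a0971c97314b610199239d2dc0a6011c33c1748e600a9349d4b55239412b17ba17b7318a318b48e5025445800000124817e12ff0000000912e40014ca204bfc45500023a1b34fc439743bf442243bf439a519b3c9822a618c54ec5430534f342e8374a4b6c00180004e398cdc4c5487c7530d8f7cd483c381838212da32c70a6902300224005a005300034b64e8613b843a043a146c200008cf405c604100404000107f4f33ca45c000015b,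
  nat_lit 0xbec0004000004c84ba8000001a017342be491e102810301f8028dd497a049349154ba43db42f342f4030a8a3dc2f7524512e8099321a84cbf0bd949134b9d287d2875244807e00103b8637d330e310a000241a90364455602b102a1178600012db04e242acf4ed6439143d731d42b8e2b8b2d862ef0340c4b993d98d4a93a40b494000070092e50af30af54f89420a4bbf0005194000048130813c8af8ddbc8ab12e40000259f51cb42962cbc4b8c8128813533c8c7e4f680f4407d7000112e20fb20fb11f5c00030eacee5d3190000800f2d1e1f5b000108582da4462000003124bb7263b263a000000030289314800089d68574c576082f8afe4f4390605015ce410e418e0952e10001214d0983177c850532c54e212f7c1360137c005800648358834d240d2e017ea12680e430e47121f39d749023c8d4a5d4240dedd24040601313140a490004501fe83c0123fc18400011e754c2e1e68503850324308c2b86af4c4e0c2ec004c000cfeb1b021b04318c000d000209b0a994937c002800042f327e92097000f000049500000051,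
  nat_lit 0x167d167f333d345b4935023524e94ca124d00aa0002409944115017146c4caa4354000420f4210013a280740d740d538793876387449324b0ccd2cc7894c9124c461d402f16a34930028135cd02bd24bc1382e7140ac492e04dcb93cec1924b404d29ee40a7492c03f8e6a4e69d24ac3b5001709ac27c20c0222fc00047458f15826600000cbf0cbb123400012690e60d447053554e8d2f012ee05ba511e2550000800013a5027682fbd249800200000bcf4a3a013700001b50000c01300000048040003f84ba89a4d400951d8d5393e50c5989540952c000d2ed2218221a236a269250015475354d4f933165254f254a00024bb004d89eb0f70c0004352065d3dc40000013c0000002927d09538951c0ef00080f734998018c534082c85de0c9950f6cdaed41f8a5a8a5914facd368d4c90c9150393a1800152eb306a14e000040374132c000827c4f1a000115f8c0b40000415,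
  nat_lit 0x1ea33fea000104e8000c9f6cd0490b3134142de8d4300021fb24cb43be9117400049f6473f422200002e6c1b3c0bb8d0c4b9b944f8bb0cbb054d11253d2f314e039c840ce494e1c946cd50331033525341c31cf53b2d3b28494c05a4f5b10339252c1152000388e494a014026c9032525241144d8b40ca49480560f814d1b9251c14a0001325e3254162406743055294cf4bc00046753a303d3000000a4c000098f498dcc864a870a86d4855485124d00010144101c30104100410800100005281000c0000318206acc6090fe8f360f35800147ed122200020000128d0c500c85186547acf31091f800003cf000616a51b6a174517491f9c0e471e3600b800aa0a0b1d831d85233e41ae425f24814bc8001436cc36dc6ef4cc0ce9f0d574320098192f100043cc13cbf42222fb22fb332c71f084bc0000c723c724147d035800023cbf24792480121c00048b7cf3680ae00003cc5247b02ecf308f3014ef05aa924d92ef,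
  nat_lit 0xf0e100e0f10783be619c723eb48e0000001215df15e015e41588158229531a8a00034bec5d2400002fc4a1328000000000c17d4000c24dd2b64ef0cb340be9000215dd10fd4ad60e030308000457705778a3fc96305aa00001737135402ec5c545c386c546c5819c419ccaf2125a52fa000e000e496938ae31f549681bf455789380aec8aec5259c14f1d9a24e62b344966248404501d8925940720705070d496401e062a4aeb5258c10f24b12b30496205345ce0c7bd2584242000600001566090c55842614260800001df000000351839183e1c891c8514ee11b911b74be400000510002495d496009180008cfc8ef2ccfb8ef30d04cd0a12f8000133f13bc533e8250303440000cfc0ef14cfc000012f733ef3bc3080c52b5132a133515a32d6d3ffc348149594bd821a80b8d26540c14e764e75d25612f525bd25b920da20d939d649574bd0e4b0d8f8d8fceccd25583104d9740d849550ca0cffd03552550369,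
  nat_lit 0x31e331e2b1e301def4c9653f938332a4c2a4f07294c200008ef652f50215c2154f788f09550d53445307000139a039a3400240dd4d204c1800002aa82a9cad544fb44fa9305399e2ed12bf92c011474498b4c1056c0651c41e441d5262854e077319c32d6b1477498923e544752f1926203490da40dac498708b864e051c1261814213eb146e498506046a905834000815e1739160b0001064c000cc6e4c6dc7c787c5cb2ad292424700d680d792645303000252b652c0298532af160b4c080004ebd53994a6755054657930100003e8a22841614161217354c00fa34cb0cf3b0642d2ebcec4ceba06fec6ff0c93125fd2ff000a0008067a067b4f67351e2e6e2e6c497e4bf804c81cd8b81125f44ba24ef2e6a497c0aa0001125f0bb106f30001207113db06bc000065c0acf01124cf542d453e851cc382600004bf400101174690068f88eb4e0c48910003045d30522aad3b8d4da74bf000081174c9148264643495f000104590b3622bc000011706a44405045540ea497302a8a36c00000044554,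
  nat_lit 0x1cf0013501320b6549ac026c2df02e003a543a4d26ad0744dfe4dff25b82a7749aa4c440de80dfc6e6526a434715f118d525d449a82b854e7504b5269c1162630262b49a62a280018004811e81810913272e17d70000065c00082d60226c227c26ec5f5131000014aa353d153d0292e292c356c00000120b541a1728c252823c6304984a022f6351062ec028ed49a14c3c23dd298c23a01ca41ca8baf8c854a3ad268130e0007199a251028c6499f238023bc5f309f012678c1a2916548c4e64499d09846d789e31267002f0987097f27d71465146c3d53000400001b5a4c346d6867110af0f555496cf548000c6d70004014d0150254b193b0e274c30000c1e4ce54cf6a4ca84ca8930b000207902b5b1991128800041e5036b8811000000481e4c58d458d04fcd265432d0468162213f4499407f0582c4631264c072000d13f1499204d8001c56e064f064ec1ded30a00064b8319932bab1210002800141d0d309,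
  nat_lit 0x17011709105d027b49c94c68743c09f1272011600094cac233b14684ddb4dde33d931790a7c6ec1387952814cd4000d31949c60000139f138f53a432452844283b33e8331031812d854c60748031e400001b3000451db12db12dc0c790c7e4a64000c5bd880888094fe9ca64000251da3bcc434c4d8e41cc000001215460e140e15081015153ec650670ab249c04c5d47584b584b5000140030722d2ab526fd3161d4b03ce03d949be07a420742ab926f445b0000096b174031c501e8000004c00010817096a0ffc0000513c51402d71e18353e335433983ad81e521e5124833a633a6549b94c5457e800400048f0114bc0fb08f20526e0de93ba632d33a313c6949b7444d4588e2e8e980e98926d931422db3a32332f3c6749b54c4d3b38130c130926d01252582257e348449b30f6948e0f16926c80ae00080048001896d144e80bb000122bb3a0d066853fd08f108fd090550412ec45b00b0f526bcb9b16ed3005078753cc4af10e9649ae4c492b3019581944698869b126b52d8,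
  nat_lit 0x4800004b6854d854c80ee510312d552873fa741f9548019cb143e144249e54c88e1bc5ddcb844b841279132103062e0f49e3000032a53c60ca88ca70ca6caacd2788e3d04722683267f49e10d1d4a0505a927803b033bf33ba49df2a283fbc3fb0a2193a4d3a4000013200000074c0748115482f082f4000402f0003000f0f3711f11c7805f34c7c000927700a3841bce30cf730001000f2c1517d40000003481445940003000003c40b554054d8595461401087d80000ec6000252c813e813e2157032863e3b3f5f516a1d951d99518a4c780004f7f8c60008300000952000b0d68ce28ce1c89f9274c3594cb05315228149d22798002474708a0127441c91db31daf225849d00980e40089fd273c1152176227c49ce1d3400003c6008e808e145950ed0f238d78540e531d0f2711e7185b000e0010072902944a04027f105a027f49cd4c707e947eacfaa409f5273131b2c004d1e027b027d49cb2fe9347009e809f1272800000fc,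
  nat_lit 0x10bfb0bf82bdb2e8441b64a5b4ca94239134113bd11f8d3ac9cb89cc0ca3000040001280d3290bf90bfa0bf70bf94a0223e4d2acd90d424928048562eb22eb44a000d24a7d0c9f127fc0a0089000001fb003c07eac3c60e9ccea107c10000c002d328345532591a591a5a058c00001a30000c4d184170162849c000210f7186b177c000443e07c0463c0000220103ea0f4c3edc1a9400002c60000004d2a15065d1320ff64f108ef54ef4d27d932703c7001049f749f504b40fa43a054fd527d09b122353d5449f3080d463d4fc927c82012624417c49f1080800000135098449f50091f0100011e340004e1ed2e604c10000c001025d837ac37944bc04bc4113d32600001f450db04b171f4b4d274d281f321efe4c94e1e52e5c4be84be127b4ace32ae32af000a49ed49ec0108711caaf527ac08e094e417349ea00046574e254642c2fc42fcc77c80001324000632ab32aa2ea62a802a8113084b93425142ab3a504c8c0014c36864d425b,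
  nat_lit 0x218a44df410250652064727cb072f07294cbd2c1d2c1829ac9ddd507106b12884e00288a39212faf2fb152814a20487c065c06689630961d4b05287d2713a0c01bd4a4141a94a1e02883c3d06ad508128741b51e8903e303e24a1c0f68cfd0f081069d286c3031d3f1d4c4a1a02b845604568c8dd1385421800002d8932e000116711674056c0000d4213bb814d000a00040b5f08412d3d08fd2d28000400180f7d32d1c2922960e03000019f40000577c380caa915e53738373700020d5810781080000447e0002274834c124e702e74cb000049d849d8c8be08bc87e300000e750e74043c28e89d1529980028003ca80ca631283932b21c529894a0d0504d3f13ba1283023a01e001e54a0b05e408d5449544a0000019d10c7000000080374000c01300004edb4edd0478a5b8105400081db02310229000108c012e010580000199,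
  nat_lit 0x3000802c723e50c111db80008002cb260d3ac3da0001000c399e0c1f27240000001c34000b200022006200726c7530755ae55af5595442a441844164eb34cd80004f4ace31947483d71a450001000035723d7604371cab4cd4d5c550ed06f05e2000000c100004a720846023c0aeccbd4fdbd02a14c7cb240000d33426ce3ab13b752c8d0002005ccef949ccb23000041860000004c0004e64ce634b2302ef0000004d4b809910991c9fd128c4696034332f331464a3007f13b109fc928bc11e2c7f31444a2e05680028c51d28b413600003d904ec327f827f54ccd4b6cf668eaa8edc0d5f0be4528b1332169d4c28412e20f820f92f914a2b4cc47ca0cbb5069d50a528a863030a609934a2903ccc0385dcd28a00f00192019a4a27095cabf550a9289822e4e7e41b04a2508400f9c0f7d289039737162f884a230918001ce610e61cd1dc9698969d3c3d547d3be5330,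
  nat_lit 0x931074c074223ee3d521ed11bf34d0424d887c887e8d32d137513191210bda4bd8cdff0e0c513c55654ce8cbf4c8f512975340110811071f7a235e23d84a5c4cfd352d0e0154b1393d296c05e4b30140e08e608d84a5a103c059c19b819bd296413420142019201f4a580d5824c08f41295c1ba00000669100310061ffc0c340c2f4cf8199cbf59405c00041c30139013e00000b8c00049be9079151809d509d3cbe2933d000026f71ef80ffc9bec3cf1446114d55714de1d0888fcb4f54800640095294933c5417400a3c702c852c7a2c7b2cc32cc441cb374100254a514cec5c907e7075a93491349475d00091294133a4b5b426439a039a600244a4f40409c684b644b78a20c00ad2938da8054605411f4d00244a4d292025a507447d30008d29300482d47002f4a4e4a4d4a4b136425b025cc009129281bc2b262b2800244a4906b419540079292047e000500070c133f4441cb35fc8118648864910c1131d40001339000119ae06f206f119003328000001219ab1d840d0f0d080000000434f14eb74ce00018002885d93fad55c4d9e15568ca6868e0d141569d56bd56b914b514b0cf40341933700050008357a4a5300dc03e530a0fcf43030000000100fc,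
  nat_lit 0x43d3c2cd44fbf33622bd23cd03a9e3a9b3b2d34cb22062208256425cf35ca4d28000d4c5082c1379d54cc8ea105a0002105e105f06500004f5f52f343d300003d78539d064cf4dcf4c95268b0ecb0c551f929d93492be92be83f223f21031503124a754d203d45080151f129d01d10f713bbc3afa4a7305c46bf06bfd29c80583dea41704a7101cc118107fd29c074d00050f1e158a158d2a681698169716954d1c00103c643c548002b632ac72ac62ca30000033400043cf4ab18ab14b288e9400001b9f011501180a4e34a097f4d1354fe90278c9454325564cda48fb94f4f8ac70ac5cd12540d0bf8929ad3460c114b7854a841793dcd3d942fe02fe14a6a4d146a6c692c6964b41d51c529a51e84c71392c179417921af44a6825140000d475462807380755344351b26a51e7e342c342b1af31af24a674d0ce68508ccf9d86bc86bc5299924107bc07c728362fdb4a65320c0f740f844164bf692990c3339ac1e314aa302fe4a632ed52a29080107bd29881b61bff33a841ed4a6112fcce34fc60eb9529803d700041be91bed123928533f288c54eec8fe29353c77d86fc80001342,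
  nat_lit 0x149f00000a230f894c684d4425540cf80cec000050f050ec52793500cd100010006156000103e403308068000309b20cd0165000087b98ef6c15e00014dac33cc11f12aed08d1088d2a4934f1ee6549c4a9108f00ccc0cbd2a40245420141904a8f05f86c146c752a381a325ba54974a8d0770001d2a352a301451cbb1cc94a8b0c2000492a312a2816e52d83b124a8905ed458908612a20244000c2230222a01a0002c88c088a863c00033c7254a142382b9d2b9a4d380008f1b843645bd000152ed4a8b05080000c070a67094f3b15310a31183f40032103204a824d34d328f31d0484f48c6c406c3d2a0534c00610e2607441f8554894a804d2ca654fcc50881083d29fc4ce296c417d417e4a7e066c11d811b9083529f430c3463420c4a7c08309c49521529ec1a4,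
  nat_lit 0x116010def04b80000e68033380bb1611161a42424ab400a81ff41fd52acc0704ad642434ab208041de87ee92ac42a825a353a10dc90db40b1d4b05040352cc00014d5c26b026d026e026fc6e5800013560002126a301a397439724277302521354e2f4e2e212c52ca4d5400049a3cbc4cd4ecc294c2ad1250000268f2f620d68499cce544a7d08e52ab13542fa305a44b2005a74aab4120b6d0eec10d2508dd2aa80020a62423a4aa902380000a050b4f0b4dcd6a4c111353281252c734fa245e138e00024b6108192d9023700004b73242c139600002a28001c85f4d2dcd4544e3d3520006217f3b6317d4001485f49e8c5940004217f2901188c000c85f427c04820002217654960f4c000485f484902d7000021723a8517b485c108b52a7464931b033684a9c206d0205089d2a6c0b94a9a01440028bcd4df80c4e8db294134d4f,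
  nat_lit 0x3194d1d9423673ec128a800093a2c65cc904412a00010d9c0da305dc00000120e0802e502e80569172919383b603d2e3b62024a000400012413123b12394d084d054d7ce70099f4c79000052b40415935e2f2617240000028000094d3d2da41dd8a0b0f2acca7d35d00013d284f1025f706c00000ed7409346a53d29213a213934a244b44f5f1a4000024d714364dc65449000052b289b7935b00000048000cecdc882d436cdc5d4488b970002058c05873e154a9800054b7004b0332000052da00ed0da4637c7154a09c2c6c2c7084ac84a4cae12b110c01ca6332239f136e951284ac34d68004007f00864688000550d445723711510311312ea40010a7250420335034c0a030000114215506398001c000455800000664094b02807428632000182c80005013025cc00041d34a1314013fa74c0b00010e9a03e41d30000025d85df0e9d1dbf3b113ea920281d010000000607821fc142483046304a177a17761bb90f514d6400085824504d31e4fd243d103d24f6dc4618461c82c890594e5cf9e8d7a06375358,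
  nat_lit 0x19c20f4a4c3d4c3c3e406704b24cd8dd54052bc83f22bfc00b54af11a78960550b92bc022c00072c4f1603096c199c1990001017915e41abd00010f4c000cbc24bc0cc854bc0c17f817ec8699368000250e0318233aa15e915e21abf4d9c0004b778b769336842000002ddd25ad1d34bc088ba08b909dcd4068b288b4f800700098c6212ba53663216321936fc456c372950422dc43d5e4ae84d95480559951784ec14fba48430843cee892b9d3644bd239f50d720d7a536f4ae64d8c4cc44cc835c835e54db92b953622f861161115e210c3b9f4ae4312857e8d59096d096c8ee792b8d11f001400000229177cd3bc13c44a18105cbc812bd0007069a00041fa64c2a0d70000ca57c28d805931f20001135703c0c96863d535b47310004cc7c5361136010030012037ca5849bbc00440dd0006004800013438fd0c06400013e5c243220eb20a54e3c1df04d80000082c83ae03acc1ca24f124f40001099c001146491658dc4945846e6930b,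
  nat_lit 0x201a2a9a00000878000c671867290f6ce818aa68e8b1e51103f0c1f000000024d44000445f045d130543060b2c0000233c3bd104b8670867190f61564511910eb90a792c2d36c54871fea1bff1bfc4b0a1c8005d405f52c2429913bc34f04b0801d0000472d9430cc378298c2990c664b084b0700001560561856080018362291f131a0005059c06252c8400102dc2cec1582000318587d584c6000083082bbe157b00010abca66455ec000011c00014d6d3b7d088a2ea650803dd44fd314a72efb274001b401b31c3d269d13144dac000063aca6600830abd0cd74008428f4afd300c03240344d90d54352bf0cda00cd00d03642550c4afb025400192bf12be802d03ba3e4b4afa05fc6fbc6fb52be413d000801440b040b082a203fac3fd442408fbc000403c536a0f6e227d076a23e60000062838ac00080004c9a4d6d548988f9536927700f430001023c1a281a1c000013d,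
  nat_lit 0x1176e27e927e84d0714f9558f4cef145b4dd09f3494d9578139307dd14e4d13bd0130317031880015373047904702252000417a404e480408034000437f4d27411a00000d98000cf4354e64f710f70d4d54efacf4d49ca0002418e40311c21259c00055358d21c89449c90000281c1769020d535d54e12c8c0824b220144000405b805ac26e000000488b988bbc9ccc55d055c0a2992c81111331329a2442155334b1f4dc92c8d0acd2c7815f1e8c40124b1d03a47a7cf08cf07851904df92c74ea010283e0b366742af4b1c25e52c810abd2c6c138000100073c6b3bb542382729272e1a8c0000001508210881105c3a80ba9537100011f2c1dd71bb800000134e2f44594e29149f0df700014dc0fc240118010c00003ab00020dc9545455d545f151992e9f125e4dbc000437245aa05aa470fce3e00000dc94219422e536b4d44371c3c64d13550fcb264b26cf1dccaeccb28cb3c314d2c4936e144c1e2e0000000913c630c130bf3c4c18494c204b114db400000e780e6010813b3137b8abd,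
  nat_lit 0x23c2a537d418d418f18a14de80004fac4983c985435600005409206e02ec75a473cd377d55792d1c0fb000f001000174b474b462b3865b5378c00340df00001050331e2f234de42f442b702e4c4bc04bbc664880b00001378000024352ac30da890d0391c1034000137700111d5044e04f1611f8040f4dd814cc002827f053300090fd814d0002039b053200070b3c14b800183f84ba6000515e414c800102ce052a00030fdd2e8800082d2053000010a0414b40000cd14dd24dd31ce000060005052c4dd40010750479f879c034b0003020e020f041210a000087514951095049c900011d42103a04b800007508668035a270e3a85443355454b2f111c7368b050d9f10b112cb8b1e000100050c280e900000001c3190071,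
  nat_lit 0x1f8343024b67056800194e103c283c24cd6000015e400080000f4e1335538623ac23a82a4555553d9045104499449844ad55df43fe44fe36fa201d201c2ea900014e1400048749488d489cd0e4fde0abb94158abdd38400004eeb4eea1a942ea74e0c873c5298528c9398d14cd148d14ceae911a155e92d8538201d301dc42fa4b6007a818b10be52d7c1f629e705a1000103cca9352f4400000f200001a841a7f1a7d14181419058d4e0496505060506400009210002086c08691cd7217c0004a0dca0e4807caba000028da2f2e07e93fd93fe8a3892d6029c22e707d3404e4b570d4cd5150bbd2d582013d6f42ed4b55156ccac8002c0008000138019cc000200010c80000001252fc2777207a00024dfc81108120000437b0002518c56ad3798464352613599334f4b5b008d260312e54df80005462cdc58456c2c842c9137d000009ae09b101dd4624dc553f743c043bf4000068f000436874fb51eb21eb7238b29c829c3169d0b524ea24ea34df0000cfacd1181577d10c5111d49a0a7e537b,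
  nat_lit 0x6a4b8d4b850d889e18a4492e101dc002f4b874b8304bd4494f1c86d6cd9b11198f67473a8003c000538c0c160005000015593ef4da3000302c1001200032a393cd454d610bd34ed401400480008872450600770000144433046b384e54f334f29cac240018003d3282a353cd03f952b09000501106674001000385f5000000480000061d465518ecdb1901a030f430e138b01800f833f461193119600004640000c4b7c4b6c4f7c3b293528537c4fa84f986988b9f07e0d38a00021cdf1a921a8e1c8c292000047388d46c394871bd37200001cdb3b80020c45dc45d15545096958cd11f956392dcd25e036c2517501728ff4b720000048104844e2505b553e0013c01512dc401a0b1b0b1828fd4b7010ac5b690c252dbc29900154b714b6e01d12ddd0c252db429800514b734b6c0afc000c0edc0f006d400010f2215cc15cd1a140f2b4e2000000130f2020852086431743034b694e1c33e50c052da0078,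
  nat_lit 0x54ba34ba20ee92e8404c000237f637fe0e3911e219c44e580005069d4ea407212de4d393e244bb000c7349e347234732dbf2dbe433a4b9f4e54ccc0ccb0d021088cf8545c2d2e792d1065b065712ce00044b9e4b9d4e50c62028512e70555308819034b9b1550001801300013a9b26f228ca17e8028d4e4c0000036444bccb814731472c79d00d8092c09233423342000024e48001400102229326d32653910004000308894c9a35194e400008222854c478f08bf0001068416e6155a4e3c0000222c81e83510885018e4bb055ae4b9221ac236c63e12e440df07030a074b9002807ef093092e3c2434c5e000015e495f4000156493174cc2214e000042ea22c00010000cdb84b7cc63fc04228c828c604b504ad004e4b914b8b2040d9f8f0a412d8128800f92e3d2e2938e245d4e8f1f3314d913f34b894e34fb7d56950c952e2025542e9561155a34b870614fb8cfb910c8d2e18399,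
  nat_lit 0x2956295343604bbf20e8009d2f0d2ef821e0d050d0753f63b0e5398271f272300054e7400087aa07b705df000154b61ed8023c00003cd8535415d0f0100180000087800108e8c8e98af6c3cf03cd035b4004939c000355073378337605a40008ce0486f8050000140b23a5c2be80000544854380ac337e33c722ab22a535b8302211d21506142343544bb44e6c45b445e134a445804740cc483b4893a92ecd39a00e832c52774277617234bb24e640008f6c1330417a0001543117070ea80000efd931181f923a018b94dd72e83139513a8325831f235290c9e00014e603c991a70d094d45032600000cc4000232c04349352b56e2467d380f369834963db73dda55d4444f562f4ed402bc4e5c000468d068cc7c4c46080870000334340ca1cb12724caf50d1d2ea80824ba901440018192c9abc0f2000004d90d59080c1358606c00042911afc18190000091000054dc05c2813e00003aa71708064c00312e952e8c2c1,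
  nat_lit 0x9bf53474711370d432d000248fc8b388b3557b957cc00053a34be755ff55f600001798001824d8dbdd584912cd139957d53a20005093d243644db44e042d436e0416c001024d8d978594000309392711062c000824c10c983d30001093a3ac90b5c000024e8d79c0ed092e34ba4bd3191830050dc92f4881b4bd101440025315819bc485c39b8e0cd2c600080048aec40000570863620ba0001000010e32cae484880f52fec09312f3424a29b13304436c4bcc05540470046c09292f2c1071d1e25034bca09252f410dad2f2412f1d06173a4bc80a44006000812f1c16109b90001000803c00010ebf8b458b45d350846b40da80da4332d3a10003510d2d9719203f224bf7027d4e80000476a470d86208621122900001dab542b01a876b4d3f931301ac493e92f0939f3b0b40f83aa334a543604bc14e79337033b05cc92f002e9,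
  nat_lit 0x2b422fb62fb43c4d3c4900004eb00000f048cd38d820d7f4e168e17cdecc9de09dd0fee47fdd3c75152cfd45530900c13ab03bf4c43561b439a4bf803000ac4c5cd2fdca49072243994bf62b2800104058be9cb6a4b690d778d77c0dd80ddd3aa000200ae33680d68000014d14e2c0f220a740333c0236d736d543954bf34ea469e483d083e52fc82501013332b332c4bf11c9542f4cc8ccc852fc020954ad332c332a4bef1d387bacb9912fb8058273f27404bed016882b8d9012fb074d4bf2438e4beb0e7000180124fc5453c4f081341133b24ed1db44e8a3ebb3c9500064ea0bae42b902b9472ec3874388100f496d096c5549800153a7503654ad11f911fb3c0d3c0f3c1240c300044e9876e87708a4d4a7490300000d3a5070e53fb3c0f3c1040c100024e90c78d5088ece14efcec5400050591db71dbe2d7e40c040bf000045d0000c05387390736d420d5490abd0002015013b831ed325306b800040544bc005940000014d30af01752fe8d31d2f7cb200bb0437f4bde038000080250d770ed90ab48080,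
  nat_lit 0x50429984c170d81305d0eed30582874c15014400148cc94c58e2091bf11cc0ff9d3b1000234844542470b52c314094a0800046fe809d009c4178000000487ae47ad8da9d304436121ae36f54c1005e8fe390ec1303c203000a416241611f89302836a8000081d8a7042e902e85315d3b04f4300000003330400102ed8447137ec064808700034d153599020c967c3694000015e00004f90455a503f265c0d9f294088bcb1c0b1ccaec531dc1558b0750b810aa90ea130213af0bb30bb50bc34c0709410054e46ce471301841b020101ff391b4c051a5555e1056cda6530105e91d6143a34c030160521cdb99300805a1f4b39174c01071c97fd588d300074d316343a24bff017c00000120002284429b629b501e800040124e6e431f3dab20464f2d455843b94c3602e20e6300024eb8a0fca710a6f4b30100d800053ad,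
  nat_lit 0x1c30e8e10f40a0c26813160c748c67d30c93b60bc743f9565b4c310d8ca898e5310f6530c025a550829b44c2f0d88fdd8c66930b815931a7319b4c2d05f02674c65d30b01900000004c00144fa06ef4a4d14334dc1009413b5123b139f0005000301d301c70dd14ed00008b9c8b4f94594d638a72928a00011e341e36149e14ac03e40000b1c8b19d45bc4852e192e1543ce4c2612e834803479309402722c9564d4c24009400042f10c82d32f400c8e2d00000bbe0bcc000310a02ef0a7642fed0f2530880f715fe4d200be143c84c2102600004a760a76804f4d1d4d1e0bdf43c64c204e442ff00fa931b95919307cc4015f703e94c6d56454c1e03400f2c0f70140c000095000040dcb08cf08d1169f1f9405024ecc000d353159fcdea8dea14e48e2153b200020dc340aa01a0000434ac34a013e00000dc805000ffc3720771d30602c6,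
  nat_lit 0x4c4f004c0008003849ac1180001000c175c066800000018052c179000c003c00384c4c0920a924c7ad312c373102800010171048400041b301b554a7d1cc14a953be0146000010274ef4498800180000076014002b00ccd000410840000ab906e7074809a00dcd0dcc90fc458713bc2ae31efa1efc24d01b6900012fc00000013000105ec05e904c504c730922dd3518e1eef4eec000034e434dccf80cf91140939493ba125e43e74c4101d9311d59ad31000260006004800044b984b911038c001477d5e454b1cab9d3b90000078d079002581c704ba4cdc8e2a0d35887c087b400013b80003000017ad0e89505cdb3c000000080290001301734f904800000d2f94bb01c51c4636e620c520c90c1456624c384edc0f2932142f38d6b530dc04103cc4c840bcd35ac4c360100001492d934041ba16cb0000037222c03b64000c0004070c39f5212,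
  nat_lit 0x176a1ec04c6c062cac39067531ac04e1f1f41a04c6a03b40000012000140cd348428a52c9c0000d964abc006a02ce02cb54563bde35dc320e1e9a014e01471bd115134c6725942824281089f03f643e6931993c8000800120393039903fe013e4f1c0010051000018600f6911c08db81bac1bb4330465d07d2400052ee1ff24028402e1f470000025400045abc83c080547d28ef200001a9d374102ec6a6cb004f2595208eff4be38be49317d3c624823d8c4c5e01c80039530131741362fb806ab06b1252d348f11c800014f140004d240822d3e51170516e55cad3e313c400001c011bfd11c52dd070007004a41c83d42bc8567856a8000d3c3363f54e9522a00021da49008900c00040140000004d38587e707e79411877446774ac1c2db02dd04a740001315898086d386d48d7808ff93c2000016a6558c40f241e955e7434f41e343b01c044f824f8018844e7a3d0318e34f0412ac12ec9b80bdf952d931513c0129a129c118a118b4c534efc001c2788277d31481b03e3b3e3f3d7d4c51108c2b642b913140111,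
  nat_lit 0xf080f1008ea08ed19904c891c4c00348c2c8c14664d322045c22ec1e064ec54c87004076a0665132181cd230c19924c850730000c432c4348613064700011558155705789c453a30102137389f209f1cd68d53ecf509105d320d3cf24b82dd70bb80bbb3f2d3f2a4c824f386d8915c90cd9320447f415356b1442e4c802798b938fcb0fc9d31fc1483f1b1e6d1e624c7e10809a2d10a931f40731de9442a4c7c071cb7c95a8d31ec1580e9d11530000007400085ab06a68ba4c6a506a48d464a084a058ae7ccce045513cd00010a8c0a8911f06a41152cedb45cd05ce513e113e90cb131e13cc4ea118c6035e036644234c7733dd39f95c355cc93ca0796531d872c4ca63d2c4d750bcf44214c754bf42b1c2b2c2b3c7990795d31d0ddf00070b20211f11d72dce121a45004e37001e4f2c88cc8d7400042933da65025000012e400086f8c6e386e5442800010edf0ee204ff1358000093ecb3dc08324fa2eda0fae0fa50fe215204c6f00084c6e4f2810c010dc180418142830284531b53c9,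
  nat_lit 0x1d2b1f7f020c63cc63d4a7fd329816b22381c3f1c624ca508fc15c457d1329026f00b31ffb4ca308e824a824b5328812122c722c54ca10544654d0ea9328022943b643ac4c9f04808b648b45327810b4435507a000217d40930091c00045571ff30f1c000006ac001043a5383109203c9091c13d71e37101618a3202a0e64010b00c100014f58000001200000045368400bb05cc01044b3ca6f4fe3d610d61054f543b20003400488c7d325d3d5137441533053277650f522cc22ca1be84c964d143c994009186543888c7532552fc2a3825160d850d84162b4c94322c7fa93e7d532c933c8c71324d3d4000216da00110ffc00045b603b0015d212520292026405c000103014044a7680000105000116e220272024405a4d44000000cc00d400f8a4d93831ad23d2c37d416d916dc1c0019994c8d4f4c7f3c7b6c801c704c6ffc666132313d2138c13591358135e19924c8b4f443ad8820c9854eed0664532293d0,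
  nat_lit 0x3bf4092d17b4fd84e6ece6ccef38dcf51ccd1ea54c389e7080a8929533113e3001116e716e81b922631579a1b8f4cc34f8899c895cc95c9547c6e3d33093e130525491194924a24cc110e86744810c6e2d330037a222322211b8d4cbf14c098a86e3932f83b00df424a04cbd00bc6f60430042f94a594a6000013e00002268e2673461b50f826d32e394f7c00044f984f8888c927900002695233908809a444b044b14f4b8957c674d3becaeb900dd5dfd119932e53de4d7137bb37c130e50c8f0c8e254a50b8457f44664cb84f746f6c6f8063d53b94e1111179118132dd3dc16a016a65750436f44654cb64f6cee053a7c580857f932d40d823af23a9311d44614cb4322110f1117932cc1161a491a8d4cb20dcc00308a48ee1094709478557d3da00024e0d450c549e0c370c351d78000036682a680bb1a07167e000300020f9c3f406a982ae800041070a9b0abd0000084d3a8915713aa859ec6ae5109004f002f400053d94ea911cd0c6700b500004f602ad00000001834900021d331ea60354035738b8000474c87a9403f403ec0af,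
  nat_lit 0x329c90bb553fa4039342627d227cf40793efd3efe211c4f9c00086d245ae85c805c9104d000129c429e029d727240000a708c54025b28e226af26ae4cde12e84d4cdf14f87933753e642f943154cdc009c97d50c55336c201000a2a924cda0aa096d8d4549f0097fc00080170001004c000946f51bd4aa40b27000104f604f425f602d400000044005801d2a712a7045a83e0f4cd51b6013381335550933506c3080107fe4cd30d247a9c7a8d33482583530553d4cd101549da0c01933403b50000004800145d0cdb3c0f6c29b000417431f331668000cd0d08bb42c70002531f3ea9077000045cfcdb3029606a606a506b42de32de20008000d0349528652874cca4f945cf023393324184217c18df4cc81018000c56813a8d159554c496c860c860d87e1c05a492d942d093bc93249320b72451b93e40002269d000e0434000493ec93e4193,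
  nat_lit 0x150653f936232e92570f4cff352022a894587c4d3f015cdd33f93f02e692e655255447957364cfd1ca8001c0130005004800007578758006a1fd113a900000e70001102e537501225355d35641284c1c0681867f44ead3ef000355f03f5945f945f74f682458000902e497d902c095001a0d3ee000155ec398636e83f5550304fb4000157b557a894f894f4c2d50bf398a39b1478c352930730662066d26c929f5307545c3460a23c123c4013201364cf44fb155e15c11109d128133cc0610dee445f4cf20e4c4a95127d33c40e000090d3a09e509df40dd46364fe74fac0010013000200494e10e520ffe8fa810d700000c5e000306e504331dd51dd24df508de06e7000300010a950a934fa800081b78cad86d043d8000106d312ed12e8407000001b68229402f4d794d7a06ed3f764ce92964f8d135e41bb0fdd533a0089129744944ce702a849c111493398067000a163823381a6a57ae1a8d271514fd2fc94fa5550d360c1e2c001020952bc52b730f6000305c4347ccba8cbac0004001c18a018cd3e8,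
  nat_lit 0xaa10a9f28744d1c082452e8be3d115d346c1b81cb32ec438b14d1a0465528ce1c93464302310c44544d18071c9c215d45345c158016044c74d160e70567cad6d0f6060740020000884d93f70003000116561550590c373c07f407f8b30c7e78000509711c51084000015540008af0d3fbc20f00002bba2bb856d316a701174fd8f88842b0e624faa0e07934413f543894381381d4d0f00408f8c8f993438299180f23f54d0d0038002001200050d4c3317195d19610228c03cc040d1b94d78000441800000048000105a10219020105b8ccd4d51553e1062105a2a6a166116673f60445f1afb1af72c3b4d084fd0543d5009500536dc211d341d3f30d463311195711fe4d063564000c0014c53d3414a8b2f3e152415294d0402c0000cc51d340c06a000408b32e7706045428c018000031a000052d23228322343440c0843a32f3d23f223f5313f4fc8c528cf24e2d0cbdccbccea54eb791f391f595128bfa8d17c34fd387912b934013f1,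
  nat_lit 0x2f5a2e7c4d39084c0010003ccd0c59400021adb1b221ae7276f15573631171c00046b683d240cf028b1dd522d12da92dab382c4d364ff841c041d934d4189000f16154d3404ec01e4002883c455411d21178117600061494426941d5605541dd34c800040d7c1eb077448c78c4f53fd000015c716a926a8110c1fe74ff14b414b44c284c67c6f9045840008de100010048000855bc55b85a4803ac42f000116151be0115e36180000505836d036e41704f1121282130309e308b308f30da000c001501790aa41d8835f935f617f717fa4d2b4fecc78c54689bc06b18bc24853534a93fa20ed4d2900020c0033a41d523fd34fe4296430f80c340c3850a934a0fe830040bbd0bbb214a4d273918301138a8456c45553498cdb4f0b214a4d2500c80028012000528913cab224810a00010a25052f00b20002273c516756b246c544244fe00004c410e15c5f5000030ce2bf718f0c415123514a4a214a1c0a1dd347c3bc2897460b44564d1e11fcb0bd55d9116534742f4,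
  nat_lit 0x24b024b34d5603f8314c7cad355418100011094169e05780000425098d005d0dff0e064087562c3f4a10b94d531a74832c38a038b5354842004a810ba4d51045400303a89354005f0000348c365b0f2b227cd22cd2b400082010006069e0666065e1417012a500c0014f06c6c5cae0000403584d94339d541407640004549356f01d3000008640000c9a007608840b5c0ab40006000f2a802a7d37c21d331d3213d013d3222934ee34ed0eaf0e9c4d485008159015b4eabc15b415a83a5d351d4014388080351dc29370e994d465000fd74a9b83a7535140534d44004c34942ab000040552f660aaf00000508000145142aa1036258d1afd4164154532680008000a03454d414ffd001d5a6caf302a582a4d35006181d981d891d314d3f0964ba20ba0d34f81922b901d2d4d3d0774ca094a5534f019134431d2c4d3b05f4026c2d4134e817c,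
  nat_lit 0x139115f3562f373c571f4d731470820d5e791a70ff695c7935c897111c005230003037c2760148c00082460002367d368137ee458540460a434e4b50280004a14d477947741fd00004f570501089089e889eca1143b3935b45da09d40c610c754d6c4dfd35ac0120002004808bc24e417601794d3f000014090003000c025302541f440008002c34e8352842000010010086b2aa40000002429d074d000f02200225153519b334ba19f41e9c261c4efd4d65502093a0f9fcfa00fea4fea122016415224951d04a553591407120a4fdc5823467d57c74e140855129d4d6350182c18003400240550244024b000418680008012000331f431f212161f500008ccd95f5539ac18d00013e073767101d048c0000f81834b418455a8296d27392736530c530e4d5c5014a97c669454a854b1356c887065734e33737310b4d5a501000193b205671356440c06da06d44d5804e072c472bd355c22d,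
  nat_lit 0x1384a04c413f40000db40db4c0ed572d3f5f4d8f0f240019363d363831d2b2644d34d8d1b51363005106754281379f52c4000029d00004a36441604168dbd8b6e5410000030bd2b3b2b3e2dc3300c503ccf1495000b740b7c6315362540e3f7c56534dca02de18c44d88503540f8f7b8f7b114f5361ca802c162c9a3f554d861754b6e514f9361447355df44cb4d8405fc19a5132d360c15e37e2414e4d8210354279619c9f0000206765153515424a93e6600024e44001c5358ae3cae343e5c3e5903f940c00061417562e01a000145358f98863c00041245124404f8000c5338faa03d3000214ce1710057400053d00fe1c4fd000014d327ab1034533d5e0d0a710a810c4935e0cf70f162a3d2a40371b43634d77502c5a3868e911f10c450c4135d8fc715f615fe3ff73f6d3f754d753f6c86949834dd4917dd0d7d35d1306,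
  nat_lit 0x727af565f53a0106d44c4e3bd5dc03ce03cf8000141900032f231ae11ae21e191e39510250ff177650600008e40cc0b4c0c4f8d8957cb4b00013b0824fd25024f202fa40000604060340b238ba38bb55e93df54da9505d556d2480eab536a05eb279d3df54da701a8000c002867bc2c30002000400210bb80008a6b8a6c0e2582bfcae3000129ad29af3896389928c80000a6b0a6b4a6b000006c520b820b744b744b95963475e44e94da25058aa40aa7104a104b15aa105c1368541500191634163018e218de4da0505057d13f10bb78bb58cdd9367d4132c832c7f2c712c72416d4d9e46bc20d820f000140045367445c450c337133734d9c00408499057d366c2990dd157df4d9a01642be51389366433f38eb45534d980038cc6cab84000c16700072615261755e72768270c270925d114a1232d362531435048001891f892195b50151c14f475c541100052c403f7a023c0010dbdcab6c560000343122f4b07880008ca7875bc10d,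
  nat_lit 0x2aef2aeb01a894a4556c559455a9372d4203388456d451545864dca033c74515fe13724b204ee945854dc82c50053048c448c90b9d3f1810f010fc000941f535936d134323d3736dc0001434800245be93f091a01629918bc3fb141e0008339f3f9936c134902cba5074001cb490b498cd3cc994a2900063399372d177c0014ce5cfb2c594000453de53e204f8000c2d4408701e20002339836d905740004ce4901e84fd000033903e731034ce515fa936f03874eda45774dbb0ee9060515d536e80ac4db90130001075045d7415e000355a9221911f000044924c44048a448a0e120000124d4f444f4512375070501400180020d5a8d5ace2c083d883dd36d541b3cb244a0518124ad20f420f64db450681088108476095ba8b5e136cc8cc1757440920f520f44db2081c25a10530b5d136c42a005ff3f082d744db00ba94b694b7136bc267,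
  nat_lit 0x1132112c0002088551e951f0000421d0a07053a000006680008ff7414e942600013fdb38f107e400015a38ba246d40004000b13803f703f7156293e354de9003b362a4de450955335242c4648fb4ca3403560357505ad5ab0d8e5378d4241c9002c502c82ba2320a4de22a5469ec22942270227cc82537854230c4c0fd30fce353035320000377c0000854ca0f89b381a481a50a5f551b4f55d42221532b542b594ffe1803265d00015084d324fc08000015e00000607060c2000f2d865e000340050153c155937713420e162ca7576b4ddb0040d368fd253768077137443364dd9073400009fb943d033f27ec361754875488000309789f84a268d86c000871f361f54860001046800000130001209a0f600f670d4000001c101c30aed00001288128450545050011441e547396381147116353744000c95919b751cc452f307c307e00050002040c6598256825900008b3f4e3c36e700010a4c824ca804000012b,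
  nat_lit 0x402ad0b8e1550000d0e2c40e813e000215791580057800050e2d473415d00003764516603b4df08df1050b93edd3ee4510c7e386ad117791bc116f5380d42d1d04348d094c09444efe0bd136dd371d233c233a4e0250b042948828882d164116e8deccee54decd380542b017e1acf451944dd45b84e00355c32c917548ce48cdd37fc0d7315131573f5345b84dfe02400581386d16e937f4248264a279427924dfc2379609116e537ec3b0043a088750983d053d0724d7188418850bcc0bcd000150a800044ad425d05c500005456545105f4005c004400003200004013005080004000054900030781284428b807014df550a40505469937d0555406151a64df318d844d41bfd37c83d3000254853a7a48fd48ff5471044050a000001a401a3c9054aec8a6a068f068e24140004000146ac150c5668567c0024000142707771a8b0000016c002c012000138ea0b4117d40000e39cea40554,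
  nat_lit 0xa694f0443e9063900034e26154e0d600d5f445e4e2550e02068b3ac43fc440160fd3ad01b381b5d3891437121435c71af02d2532c93976397c40784e2321688ae473848d854698e5ad388943600030be006380b5c382159e4f42947b09340dc10850085105b44553855253885435171005be0d5a15484e2050d04a293f605524551d387d4334f1a454b154915464e1e3ed40004d42c813caf0861a0676d1ca00002b552b530b0cfd10b36c9690968112b51759387143224c500114e1c4e1b12e8517ce1d9174d38682b22bb644bb58654e190a6d08f11755386029344c145d34e1701d8af2917513858202234a234e4e15009400081384e2f0ec9d5fc90195431000104df063c063b506d2264000001204e24f1a0c81000323786a4400042d180df1a8d00000ec8284c2cf93d3cdf38001426f0ae602b202b3000409bb1a8950c0ccf00000093055800000003333418f0001cbea502385eb04974093142f0006438f4577024601914e2a50b826e000240014556,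
  nat_lit 0x2e419dc19da441126ae089650fc0b8d0e5d0e58ae00000c7940a0341e52b7a000208214c454c4c0004267256a2b7c000001bc000840555e451405140113b8adf143e0001040b041115500000404539f015e523b45f74e3b2c8040cc40f138e800101ff02050efc0efa2ebd22862283000150f400000130000228051992289228117a0a1295bad1b5563851b4d1ba912c138dd43c202d37d1584b414758174e364a649fc8d0b8d0d0fcf912a938d4b9a5266482439633b4b4e34011917451748e5c4ed2538cd124000b1c3444ac4e3206f15924f7655fd138c41ad40ee3b483b444e3028d0e5691d5912a138bc3031a1a1d441fac00051d4c000161b53d80097000200051c2e0e3a50821abc00031220001070e1616c79f832493b04179943b00031c37459b592142252fe4000870d4c6f0c6f561a469100011c293dd057cc0dd4000070b8685035a1c330266026f24512453290129042e5c2e5f407a407c4e2750e90e80d918d6e01cd00370036c7de428382824fd513899439,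
  nat_lit 0x129d729ce37aa38a92cb000014bdd16c95d983da29da2f912cfa00cc00cf4e5e1a9c8f808a148a1d397483a00bb00c24e5c0cc958855875396c2ff31d231d74e5a06c80014673cde591ecd45644684c540004509f45f001900008a5d08d648d68a6355b951ab93dd83538967542c944a0001297b00d700d91e1c0471532959a053563a780000a5c4dddd4d7cb430dd51449296f2ec22ebc4879487c487148754875487252f500094e5551206738ce88ca30b69cc554caed425c5bcd411514e1395539514474281588605970599054600074e5351181ce0a1588990000d39480c4074025cc338d000b4e5103940984097c0a44001139405a533c300014e4f013c002059b546940df00032a35310f05780008a8ccc2485ed054305442fa82faa3178254218030dcb0dcf2c812c7e4e4c511546e91b10f5bc8a8c8aa11e0d1bfd14b9392d4442a321ef61ef42a662c7c4e4a510d42d564551ea11475147939249024ec43f252f832c772c7a4e484774c420433043654cf4b209391d44254b53abc3a9a3910451b4e464fc000009b9c84ac8af04b304b2000100034f193ec73fa6510400040b8cc80cc8191c711da0e5c01ad1440,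
  nat_lit 0x10b0618c305242eec00000130afc5546554222fd22fa000025c4000cfd48ac51421c5f3ccabcae58ae74a6d4664066548c6545100023f541e154f720bc618d40004fd40fd3cac6c174cd6d000022ee4f5d0ab8187cfd38ab603fd43fd139dcc953f5e42d23fe43f614e760108003001200062ab84767593b46e24fc71848f704000539d026d06344d3b00030cbf0cc32fda3d9c056c20700009413457905f50001504e504f023c00003ac415a81931379513647a347a447b6514c20782ffb30042e5409b14e6f51414ca9636519a4a778a79800400050ca2d1dbc72c826b939b944f0e6d0e79098f4f36138f09ad4e6d5138153c15347b4cc4bc26a939b12af18c809ab4e6b00000736021c632015a44e3026a939a9078185f32bf09aa4e692dcc4dc8269539a03730000004873e873f881c05afc0004794000729df437a44a132232c1528232a402a202a1b425a2224513400194bf491bc91a4c7f90d556465414544c000529e1290a25a025a353e93b480010a774c424c0a8ae4cac7000329dd2980298153e738b80008a77108e8a0805e0144b,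
  nat_lit 0x42f552f540ea00ea64b9c000cbfc0dd6c58b858a0090000213ca202d01a00004bfcd09a03d300002ff740290e98bfcd0d05216d66d160fd10553a5d45505a305a00f1e0f1f3f044e9651514a54a7f8b8714f18a0353a5476020bb20c542fd44124e94118100895ce11811631d3a4c4d225c4465146534e9208200abd087d3a4426700074e914e90056d0be519413a3c1a82df837ed4e8e04d80000002808d4aa9000a04b101720448ccec6cec000c0df0629062700021a7894c494ac0004246000318d418ba511b51211844184d514c00089118416841755728f5bd4520001244529150e2cfac4fab8fdc93a189ef244145f758b84e850bd094a50bb110053a101194eb046444e830c08432162d53a081c701f646414e81061118e117bd3a0005f00064e8037dd15244a54dc4800101ba,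
  nat_lit 0x226341e321e36121c000498d078a145604d6000026301969096c98d459bc59a4d21d3ad80d500fc26261658165a4eb5010ce408e400d220d2153ad00cf0f7c38b94eb30380000d0f48f868f87497c097a54610002404f2529253030002ff913a400055c18fc48e80540ec0d13de439545a243c9e3b3e3873372023820567056b00080013001d001b05d44eb051815c10fc40e7fce73d3abd45f56314a1c563b4eae0cd84814173017453ab428b37562841000404b94be54bd0000c132076b076750ba50bb00010184d960a0f800040010bde4bde8f464f4795a24f448ee2d2574eec4ee2cf468f0e545e00032a0f2a0d33eb34f82c2d2c2c4831482f51f2227e32da290852e527d550b951740008e6240008000509b866a9439d1e50a10145c00012a0d118b118d38290791516c0000bd4cbd44f968f98509b145a342854c73ceb53702b5b2b5a31fe2e0f4ea551653eed19801164118c004800593a91458384541e241cc595f50a3178b4ea3515cc600eb8cd3c95740b8393a88c3639032827282041123eee4ea15158a13509e0e00cb8313a807be120f12124e9f0ba0e490fbb13a787270004000f4e9d06c80000000458a941fc5a9106d,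
  nat_lit 0x566d5669000412e400100000e22013a38864f0f000004b8000d0a5d5ec95ea5058511b086e80b2946c00023936562a4a265616082c00050a5ce80014e00003a27403c0af870bc70ad5ca10fc8b7701d9892dd3b4146b000a07a44ecf01701e9500e0e890b4586624000546a00055058448e5058121703e003e451a40010483059205928a7a0663d46800031210206417d40008485c3f7c18b00011210020c13f400002b082b104a9120f147c444130b654510ae70aeb1fcd40484047418a332333265722001400154ec8519c3e5d5ba8f99d465d3b1c08a3fb9443900074ec600281e78000d3b140b2000151f322b1074000240038041c155c1550641146621a3079c079200081a98000003f48cb88cd11a900ff2b232b242b2a000151940000013000b000150150fd0146f146c44315190671815d415e876e465b80009463555749df3e4626f11969000129ccdb5555989bb865a00000b9000042636328938bd497f49583ac5550e35e53cbf49b0349f1e7538993b713a44196d5188000c411041089b14208020944da,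
  nat_lit 0x383a3ea346c246b9594e4ef439fc695140b83acd1a5d1aed3bcc60900061b2e3c26096c000405100032f5c3f5a1f200008b2acb2bc2460010001727ca2e77279727951b072d392a0915da50c715e115de3178448d455a4eef51cc6ccc65fc65e8e8293bb8d9c0b240b250b273a094eed14cc6cad60810c38e9f93bb00902f501236123a4eeb0a2cf06d6b34f0cd3ba8079007a2b8e4ee901a9121915453ba002f0f990000000e03c8000c242d1915648919846b615d494723fa71fbd1fbc1fe118c518c41e32000351c442f0e31d618168594cf80008ec21909190c1e331e3000012e4024087a44000010e000817821788226017b10322031f51c0001d07f95f4d0fcc7edc12d412dd46f000657db1e4f2eb930713078156e51b800155f5022442250a2f88d5946d0004423729550880000d08c8a2d410d00021c0b1c15064c0004f73ca60813a0000423204c817b4000400213b6408e22e6009f4ed8025c002000443eac554,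
  nat_lit 0x4f39061a0617000121442b4032580000244000011071c3a06942a382a34d860eb0ce16400713c404a455243b02361832121c68001a4f0f51f01538f1a51b391b3d3c3d3c3947b028f0ec50ec6369500174f0d39a4635c00453c30349010200114f0b028050a4000d3c2804d4f8500014f0903f82b3000493c201420014004c00280020e1382c333d32e6000020c2076acc764000007e00031a9b1a9831443ba05ab03b3131e031dd51e800089c1cc96caa08a9f0aa494790001270940bd11101116315b24dc00014c394c3c7cb8695c696547827024541454246c84f00000342a4aa38aa353f802b080020000909235f31a7d515046c64efe00012c64d7fc00080000549509c18ca00002c5000010004a7f83a183a20a05400029fd0e850e880000367400095874e118c8a42b342b51477000133e126161c4d17400000da00712d4760eae0eb32c692e032dff34943a6846584ef651d44e2c4e38d058d91165413bd5474,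
  nat_lit 0x2270229216421654743574c2f1b2f1a4f30521409f94a994a9c1a3c41b00d8002a4027d3cbd4841d7414604f2e037c190c18f13cb40a008972a274f2c095c002400353cac0fe0ea90eab4f2a0919413d1d2ceb494fb8ad50e8ed6500ab650ddd4988000d48356394a4b4a6249f74a07553207360001520869581ce8000007500011b33194d0e130deb0de426154fbb5204000063d863bc1a842f5567449fe3bbb5b035af85af7498749853bb1372a4f255200170cdcf111c93e0c11cc9e213c9147f20fe21012e3f2e404f2323e5590cef0d574d3c8839531ef322c4f21037c70ecd9f53c800f22a5653bb4f1f0960bc1c9e093c78009000311790cb30caa12640008ac803658366872500012e9f0a6d0a6a04640000ba78352816a5099116e2e2725f53aa617ff17f9287f288439ec39ef482341043d4b4ffd4f1a51f89580d38cedc558fc2b793c6547d56f835550add4f18103032882b593c5c2140009000e4f160840bdf02b5d3c540dd366a0ad84f140ed487c415187e287e240008001c4d2cd7a,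
  nat_lit 0x404a053700164f4f4f4e273c70b11c79024d02453d348521bb646df59ac4f4c175542311c553d2c473121e12194f4a057c2b642b453d242190e790e7a4f4806ad66891c3d3d1c13d0513050f4f4612d4addc00006a045941b311606052a05281200000a138f04f314435230000000200d5cb5f4d1c45b4c5b587b6ca94d48b000306e608a708a33fb547562a533df400081b4d1880207820995d4548a07c40000219f095d40fd200f201615fc148d5224000400181f385944fc906d4000003740000770d63a805c0000004c00013e0065514bc8b310b321488034c4fa546a601d001ce2e3e2e3f331728d028d12f0a2f0955505ada34274f3b521c56405fd51c0d3ce80004147447d548607c9424b407e407c4f3933bc149cb0fd07e1665d3ce12e730d6120412054f3728d4878567551bfd3cd81ad24a5050304f64f350f68d4a51e511bf13cd00eb3e4a3e4b4f3301f800200510006386e406e01d00010225c115c1d2,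
  nat_lit 0x1215123d4f6b0c1118611cdd3da8202002f4f6d4f69156c320091dc857400042a0044f19b2215d000024840004626c8d948d90857ca2a000000486274280c1190118c66506644ad78c8803c843c64f9e4f9c4f9d8f9fc00953da13d95494511c5a1e174148d340ac40aa4f64473c1f0d67153d8c5a1000f4f644f62025c04cc04f0201c002800048524f624f6100001560267c4478000081b0000004c27fc2d347c654e2ce4d112391165462400114930000194d21772f3e432726c556a94a74564b5248653d401820c8f9ec580c580858301b1000014910002130909e107f506c4524000044c20606c609837e00001306179905994439684544cc5848489848a13d6148f07e9426b409e409c4f57300c4ded66dd3d5806714a42086208c208944cf0000033e16e00bdc0bc070d0001c001804900042af22afa54e2312733943391371425c4253525393713375b5b0d3b78544015c652380004ab4072806ed8075ca7100002acf0beb0bed0db4ab350361191d1c8d1c951c713d4548d2049206c263d1f091f073e694f5031fd44285180d52cb778b76d3d3d305,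
  nat_lit 0x194113d313d7104f0001122c6320413c000014b00033a003cc6104d274400084eb84ec4615c8b8000139ff4681183a187c0000e7ed5ed402f050c05212a972a954f83310014841480aa58aa513e080d0044d59e54f81018c0ff00fe8000c2dc2ab13a3d5a99435b0000299c001860b060c5200d0cd90cd50d6499a0005593c39fc59da2a98525c00116568f2b413e00033f3e3f360788000916d8aad43a600013ad03d1004e8000116c9493040d45b259d94f780e1c9a2d67693ddc1fa00fb01084f76016d3dd404c27cf363a36200e7c000a00010aa15258621035c000045f516a9019a000018d8000435480b740b7062f00000d5b37bf090c35540d2c00003600000004c0d21105547d476c06fcc6fd4b7f53db94951b1751cc473b4f6d07b5186165c11ce13db0361,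
  nat_lit 0x9a659c44fa506e8b514b4fc24b824bc000006100010eb90ebb16c1543e2ac307130716593d456f47cf458642a342a55065092e528000004578456c0bf80bf0905c734c7354ff9d27dd524149f3ecf48e040c4141914142e8a1e34275500015278079cdf6800003270001191106ef11ae0e3037d9527400010d80ed0c24340e440e11e3c1e3359a75a054f9e30d0e86566ed1d953e741df4660467047674f9c0a6c8e051da13e6c06e2cf447684f9a009d19b91bb13e6428a4fb947644f9808085e3caab13e5c025245054dc0005000419d80000012000055105b11362d22e0c11cc104c0e8cce4900ca9ecceb50d0d0d1922411d813e5149c158d218021735a5e5a2e407e053c05332aa92aa74f93526d3e4967e167d005ec05f80d580490049d3e4949a2f2c5a4b5a7d48c0475b4f915264823c0118013d67c967d93e405411a711cc41de81deb475b4f8f526000001e0140a055650b959f34f8e00040020013000600480cf40000001860e0faa06440644cc1f00001883299e446d421b2cb819a06218a724b1f4a848413c00086fa,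
  nat_lit 0x4130339cb28b92f085b383cc53cc93df03e593e513e923e663e4a3e4c3e923d6a5294000c4c08cdf0087c08883dd029894a400025299529c028000044bf405ec243000012fb3870091844b844b53ef80aa1c9a47874fbd2b28ba1d119800081dd000546df06f9504c504b06f20f5d528c001009a809d8554000346de4568088000090668b83819400011de2543813f400011b705a804a946d7477f4fb60e1c447c448d3ed42c8345b46bd4fb402b13ecc04c0008182d0cea22bc001861e0570459409af594e0bdc0000048c0004cfe02f504e5504f08b205f205f031be1eec1ef4430b4321399d46b74faf5288a88d50c52745260565bd15251acd3eb94a140fc418f4195464847764fad2d2ceb587400740505391ce13eb0c7553bb5adc42d146b34fab117913d41bc41b991ac93ea840f0f752d26111511164fa90384be451a751aa93ea01bc2be55a145a0e4fa70dd4be2ce4911aad3e98303,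
  nat_lit 0x1186708ea02b800006b28c4200b21acb1ad332dc32e332dc32e036a75704570a391746eb4fdf52b94c0d2574e6fd0b24e510ca38a5d8a5f8e96568053f794ad0ff8328d209920722f1641965153114e4fdd52b15d5d2d0cfcd8e210e20d22e11c1d1ba13f714ab2047499c49d15b1346e44fdb52a941f49b609b5153bcb87d3f685e3334a3f5b5a8a514f114a4fd94d694248789cc0f4451045253f60bc0558a55895588325146e04fd742c0002821d485685940002384b0d0f0528154d4a0d6a60e705140913b96294ec2000194a91eae30da3b0057735778000552a00010013000408633b1e1714000c2190567c1d2000208652b970c200004218c4c8029100000864089704d5476d228c55f8e420e4111b613f354a7086b47974fcc023844f444ed3f2c001000015dd33f32cf4234213ba4dd85774968d4e2000000840001157f158125b01028000055f80ee01a5157d15822926292b0003529805ec25c425c8000812a293f2a592ab6000112c87d307d5800001f2,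
  nat_lit 0x456c466e4ffe0aa00004b0dcea0c2ec03fe094f112a1e9a22bd000152e0832483208c7c00002f700010795135313601e9822bb52dc00001e641e7821a42b8000001300020000c0970219000024862c1f1e742eef059052d903b0b2d503f8fe0cb280b27cee00000d4b53f5a3f573f53000219d40950eaa40004070000206be5896000c000d2c7400041af007a007b476b00000191019802c81aed624c78209b753fc14b44ff85a5b4fef000400003098a1a0a194938c208d4b350ed48373aa00ce40cda0cd72aab53c5000252c8e49565a499dc98b898b00004b87285c26ad262800001a00000ca5b0a58d0e34cefc989098f000228df28dc4872514c10a052c400051e2c661823f45b40000477c07c41aec77bc949cae2119553f9ccc7252525262b8746544fe603153fb969413f940aa04bc47ac4fe4019c002110d1103910280c7c0c84bd594b0000759355b32592744101825331f52bc0004051,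
  nat_lit 0x2acc2ad12ad612fcab30b9c0c5e917480c400c183ad4e179406d4c0360f578e3afd43e500850083501a52fc089cdccce17140642362c362c3b501808ac09a162e5405c15f528b58b95016086482f482e140541ab5547415c5014013812f05009404c0ed000a004910a510bc8d208d300000095000252fb52fd02be02c01c5b24184620000051b4519867441ca146c146d51c0000226185f24514000044800000004800084a284a195821581c65b465c851fc51314be0001112d2333233711ac00004a200f0c6d4079524140003000b59bf3b3d06210628148210e0500952f558255820aab019a819ad40214bc233758b64a2d548610dc500752ec0010012000139d010491048241052e91b88c570d69cd694c3c4c3d129a55480b9b0d65140154b957604b705775006e500c5a71500431886d8d11411f3d400c89f27b4541547cd50020d8405516259400406e414d46465000080d49ad1f313ffc202,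
  nat_lit 0x152f452f700bc036c03706fd000f40008b8f1f471f4000390001008c00000130002242424271b9a003653240004945d6615628c6c0000025161a1d04fc945168dc3dfd69700000000d4c80002000104fc2dfe2e015a5b531c000013ed1a88ead0ead869894c650994836483737655bc256a50d6a0d6d31820005000e004406fd022502265030531545a16a7940bc5a1502f47f6502e2c500024ee3104dc9970782cc26205220540bf80bfc24c4070d000553100000013000a2f233dc211b611b40002530d5e25652c46f40004206000304c62323092009213f5d4a040008132d46a01c40001508b070911c00000131907a836404c30741074420521df947f050254570ee0904b477ad1fb140900bf38ee38ec2653050050232e3540991fbd4088b140008012d012b0280c5d0bb84001000214c21190119b000312e46a50b600b6049d2425a000013560002260317bf17bc091309101d9d1d92096653040004ab34a558a5554e806c686c60a630cf1,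
  nat_lit 0x2a0005505748b80004007852204b7c45a40b5052e000107c0009414b000002170003073950c0095c00081cd470880570001002d00250b0c00001cd093ac24650e431b131af2f092f102f450a732741038d038f10d431ea305a511e09db504f534026a8b0655c3cf4715ec941390b71aa51aa1504d152427cc27e9413055400020007504b03b565b826d15f0d2ef55eb80000ec2000311a23dbe3a1c187c0004003c402818245950000504924e0023c003438f14ba46b04b1ad18e118e435cd411d4cf07be07bf5160515f50465338c0f094d035bd41140333a180d70504402c820607b34e020ffb4e1100000f6200002c082c6c37bf5334357035743584e120e11081ac00014cc0003290929cb47f63469346a430f5309532c0008a418fd4d61781bc0001290146ed331210a000005c6c5c95166c2f554863a4f1387008800832b3638c924bb32511f8652f452fb0003000f0015503d532947902dc144a569b940f0c402afb0b6f51285a6d503b034017d85cd540e802d,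
  nat_lit 0x3266a38ad38ab1f50000498e81440083000026381ef002ec95f496210cd8ab14ab1c500c500000054d81496149d0000016400056a3cbfe85b0436b436c14d700001979197838cf3d37050645e11ce087c917e55cc066a141b4a061ee858a33fdc529a506c0c784880669541ac3660ad05298506a042814b84a2941a41a80002266c266d245d0d830819535800014f4d4f54549206c0d7500010b1945282b9c00003600000004d52b50e595198866485d804b004d541914d5128312813faf506307b49890000400245580005189b2b8a177c00105b085b3055400031ee331230ffcc268a310000039c000022bb22bc1f281f232ee822b722bc53515f95712d1140e26c9348934c094c095d41754d3530140bb40c058fc4186505c3f894cf526c10df506110615416d1dd2e9f37283721359e5aaf505a534810d810d47b20cb19060d41654d1311655d7426645ff482450583430ba3428cc0000299,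
  nat_lit 0x51a7468b509103f89c5551f942403b527aa279f00040dcc00014e294e3454909240d1a0001019c0010c5085084509850b4711c4da0003250a250c340517ad025400083cec3458343c9e8d4de00013141021f021812100000c4f4759c12e1e5e000f0014206a381f1d603ad23b2b580b580d3b3a5a04458726d026d51bdd508853754e654e6c8bf05a3c5a386f7d421d4dc39371f9e1f962f7b52f35086536c4c944c90e3dd4bc942151ff1bd01bd7508407cc11bc11c1420c44c508200480028ce54cc249efc9f094c70786c785c7870785069cd4da0b880000374022c0dd0c3d783d805f489218000800286d024840001000a18d8000ce878bb84bb80bc95426925f00023bba3bb91e63248338a00004eee466903dc439b85960000225e225d0d6886b886bcca4d0cc88f7013cc13d941e94d9129c0add000f001050790c78c74414c814ad41e01980a18053e50770d98001c003541d810a0b83053e507505342e60150141d0136,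
  nat_lit 0x1acd53032de806ec06f050af40c4830d4418118cb80942b801a1e1406ec06ee50ad004038dcb80d42b035c053c2e0550ab016411b8b80942a833f16cf2e0250a907980028b81542a02bf00030d4812e051840a8e13bb22ed535c1f7e57093b4653880008350c80647f987f8cbf908a988a949a194e1000106de06e22a9f1aeb1ada36c4000146f120006bc86bc0c0254e00013000b293a2729272a50a42f3868d068cc91989c91428cbcd0611059750a203cc4e2899814284257000a001050a008409db89db1427c397580e580c509e0c7ceac4e9f542741812e500007000603cc000405c805b8899442200005667336a33652e24e0e0d2e428d028f0ffa921a94268afb29432952465049115b105099537cd3fc2884287c6be942606df01140a240a293a72509703d862754aa16c35425861d2e491b1050951558ba2484e942500a02f6a5b09509309608cd52159424822e,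
  nat_lit 0x1a77274b00010864916c9d340000338000054b6274720009c909cb454c840400030005543294e91ae6490d3b0b3ae718b250c953a069ccca609770978462c543214e7026d1afe1b0f41a218b350c71dc86dc06dbc0fec0fe54318bc446e9430918b150c500640df862c943101cd0007067318ab04b8001462816d110e90b7aca3e04ea4dfe000418a036c13b392de928f61ce751c94958d204ca5c23f823fc00014e6000152131cf51b661b6b090753940000013000a0016001c45b64365549105ed05f2235c2360147050be539062854928496142f4363066f23f7146c50bc096869f051b142ec1921525146d50ba0d8916c051ad42e41dd1802146750b80748673c519542dc2860243145b50b60c204754476542d411c000c00021634284c000046108b00ff8117dc3fd54e31188197813b113ae27380002305c69ec19f8000454920a1278a00000574000169086260626906149e20a50,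
  nat_lit 0x82007f39422ba32ba450e931305564809ca34943a06804049404348bc50e72f58d48d6d9143982ff047a2fc450e50f143558354400043b5013f0131000008b0000457a0acbc83a083a804d004c1227000015e81298206c579153596d7943842e451fa46e05b5d50e01d38a9dca9ecae65437c1191b815b4150de0454a30ca31943740730e165b5950dc0708cca56d45436c15800021ed559960fca1ccf18fe1cd0000401206911fdb242122e022da000153b47adc93dc953cbbc000001cb000001ca0615090901d501d9316c072c11481160becd43584cf2ac92b9250d5013d4a951b814350373229a146757834c173b6d000030800000a734d16485b553e522d04964495c9f214ec29c9302e439e431143195ac55b3350d253ad6810af7caf816b116cc943454ea0d160d132b8850d00d38eda52285433c0b200011a7d062001fc5200190800085f5,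
  nat_lit 0x511548df5107080821c8ee954418025000c15a148993b1d3563571a4bf256f853e8002c5658056845427f827f3527b11b80f86000153e400000130001217352450f650f8d53e0000078d078ec3322b5d21830815081b1ce8517805b91db51dbb0ced000153dc12b87adc33bc0000356527b527e00001db90ceb53d876d80000a5d00f01451d23f40e200e1d07b844884490ba2c43044318d2401de01dd54f510ec00001db203c0dfc0108c00200000bf0c7f3843c54f42fc2164c20542520000250d056346a606a700004a6354042520000000c800041a301a3c814494750e80000068406832b28b7d125a9268929b4b4d8b4d529ad50048bc550c950c0742cc00c00240040104d43d54f31f91158403cd03d30da71680326523800e510e4e534f53531b495b515a1c39a950f453c88bbc6c186c3543ccf240417157850f207cd43c4012000b00002c0c03c0290546401f187b20000c0fc000000480008ad6c157415549e0d12554f100012b5a272a011f0118274053c00000d499291161907110712539e352543b643b7527e000950ec50eb53bc10881068838c836cbf2543a94ee,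
  nat_lit 0x530053424a0b4a0f5b0c51254b40ad3512c8503c502c9fdd44904e90b3815cf10641061512336b45da85d9956f94488a3453ae309b3ac3512100287a811b99448007e2e58000b000a27ca02383fcc0000012031609ce00f400064dfc001401200052133238305d2540c001084b8dbd4229000307d005c611c0000884bcb6681af0001212d340c0d9000002b2403a41c554904acc5c4e4ad9558a1f44511654082aac06740220021d4454c402e4c0abe0abd1ac451145404e3dc066c02180215444c040000435dd511202a824d81c601c4d479828d028c81dcc1df546a81d5cb9455858b8d91594001c00055000009000007ec07ee0954825482588264a19000054ff000354ef54ee17ca30a606e100d653f800082ea45e780df000108ea53430190000153b153c414254eb2eb7453f19bf5a66000053f400043ee495089300715871504940493cf3294fc000013361a9d1cf91cf4076817681771013c831d1f5d237944214fb,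
  nat_lit 0x610c25a6c44c0143f14173cbc54300014431c9d9c53b8536550b000410c9118a04f8000c431c74101e2000210c252f70f4c00054a894a9005d000010c63062103442f1245544ec64654584913513a0c74acb5044944e4082513801445b88103410183aa03a900000c71000446110cf60382038508d00fec000ccd6c3000303861f5229000154a24ae954af252925b154280000358035a0112150415da513304508c4458c544c839c0004121f2e0e007423555265525810c8107c000550900010f2c035307880000458c3c8c2d7115f3b294c034c023d6f42664968435125ee25eb1eaf512e542147c025f90f852dad0c647ab944b55072681421043771ead512c54180020002d44ac21058355831512a0c7c001d5a195a24050000553f553f915255930ad38000c0004235c236d505000008d608d40758075a0b344f007a98ea98cfc8c000afdc03f8003c0050005c7c987c90dca4643464444e684e714499504,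
  nat_lit 0x1c0c2b9f56092c162c0f515e409c646c6484a7dc17a417b14574937164646a126715515441e515c30c8001467ec75140df000320191874187338ad2ad00bb002ae02ab2b49449b541c5458000890ec9bc4083000124382eca02ec5b94001c003040313294f901130d2ffd73ad738cbb85456151524392f142edf515705ac9c089c0d455821824672edb515504612124bb6545501af274a2793515304815994bb6d45482dd26ea2ae1515107145de85de54c580044006018340001514000024890a650a6224650608544d20d0dbc4dbcce2c8e2d0f220be40be50b844b839453d512017a4928514e04ad45516f49453402624d1437d514c156c00048f0828ec0570a8a158a2dba437b514b00f151b124914528a4952894924514900b421540000562853a853d45a70d9e9511158914e914e000060000111947c8549853a0537c00155105bb72ee92ee8333458ed4cca44925aee18ee182f0b4b0b461cb53aff14680002543c4e707b907bb8b3805188000550e0d910d901468000005e0001c4314a4292d1d17752678518950d,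
  nat_lit 0xa517d039a0397517c035152f5256145eca4952f65c02517a0414000cf06d6fbd0a3880dc36e836dd52100023958291f2922461a318f54800e300e5545e0000c24046e146e1d51f05b4161c161230884b0e495351775478ace8acd4e3e92485250945d80361fc92bf9039503925175292023f07f200e500e4545d009408f445b7038f03905173165948ad6af51565253945c840e5a625bf7494a51710558f0656fe1253545c01253cbb44925b65516f0d58a3b0a3b4b15545b834e09a209a52da80173016b000023f95b06488429ab29a310e754748fdc002c00115ec1322931fd320932957511745130912fd50009742cc6988fe151c00032c372c3a2c1a2adc25ea023726ec0004d6a0f0cc38b1f820c280004000527ff287c558255832889377b460b210658eb58ec0317030c546cd69116b516b954707fb0cfb86d414efd4f10583c000d51a1a621a581543160e000230cc557c54f4000407e53455340000004c800081cfc1d206afc5834ca40001092e0931145b274400009e215c991a5c440113d3f1c3b4b12cf08f4550c4b365cc72e912c182c1351625464e184e188eb6479e079fd4ae040c89b94b4c4b4c1458551828061f8e0008000f26f543d53e4c44225160545c8d89190d14009f2c9f41457c8bb,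
  nat_lit 0xf08af31c7498b374d519954a45560a35cd430e160dd414660b400fcb000300042a18571f519754a09278c089465805900030d2a5a6d155000083488c7243ff0fc52e981cd71ccd2780290a55bb464a09ba07a007a45194549ca84525d9707cb3755979744559588a8d464d5260d220f6c0f7207a107a2519236ec002cb99cb9ad5a688a9946446922a0e4a503b6a07a607a051903238ee3d265925b046244611463c91631c256652d1c2d1d22a0518e20700010a69ccb4c3a60000269132f4016d55192db955249aacbcf49bc000280040006d4639463152508991294129733c63660365f5cbc4969518b298446256b491900a7a09944992c0ec40ea5462952455cb442c5a953af33c62518931e95139728127dcf17cf18546211dd22c14a274a2a5cb8496551872504cb28c96c4738475cb1bd4618c5d0008014400000120914456b49aa470800000a780018236c23684a8039e039f955d56d555230005090f18720792079126e654880010241c99c5193d13984d7d19300000003000e518151802c740008241cedac46314909372000108d608de0c9f0f6800002410717c35a,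
  nat_lit 0x24d22e3b51b601c04cd970dd46d407651d35c4151b404ac07a5264d46cc20220a62310479542630002114c2ee02ec45384a4f400044901f211f264261000005e000150a4571a50ee914351449096d52e00045a4f16dd126853364881287254b4000c4200420413e000212011202065000050a59096c3ff00004291412512a50a3d262946a86462865498a51a90c749808980d46a06d451a701440000000921254ae0208000445fa58dd01542c4d143d6090e099171cac311b050ced0bc50bcd469552c4353436f3497119c11a051a42fc915ccd77cd7752545708d468cd380ad411fc25fd25fc51a201256c3117c9550497ed468552b37a15c4a49cb498051a046c8f135261970a9467c21b43d74980497c519e002c0cbd1cb91e9946744870003004c000001300000001519d497831a332e550500001467125e8ee88dd3d466952a,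
  nat_lit 0x45a03ea23ea1483949a351d313a547ad719926d147481b652b347cc47cd51d12f144a946418f339474030351d449b051cf00c843bca214801cd7e00004bd900020ff70b4e0b4f209c463625d925db54d4000476f55299529c5b5553400002069361006e805f805fc4e7d71091e3506801a51472d5330520052106382e37068e51ca23a82dfc2e34031002f947242b108d201c701c951c80cb89af81a39471c07801bf01c751c606a0002c02014714136455218b9000403cc4d484d4c000c14200000b6048d722cf14882d8426a8269400002e900025b902fa6586e4d1558832c0000050e80b96d6e6cb8b4e25000043a2437a5be80f611bb50ea8636863506bdd5e01472546f9532133e0008000a007951bd54c56ee807cc01e146f125401ee007751bb09ad46e80130003550e48b71f571f6027e354c000000130dfb5b6f43a5237122cd11b111b651b854bd500c6c3d0c1d46dc29a,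
  nat_lit 0xa165653ce4ac853d7169146515b645b631abc51ef54ecb760eb808f1947b829a1cd423c651ed01b88b248f1947b002716d923c651eb0c1000049845563574dcaf3884bd53a000058204cf959051f7f265054e4b0cd1c1d16516cb522f547a5461260e2c3247033b5051e84790001072a472ac78e5479ccdb166c166d3d7351e60f694f1d250d7071479406c264748b551e402c800007284c4f42461c9f3eb63c3e1b06542a5c7451e354e0d82120dd2711478818d3d6249b351e10b8c5ba5270947801c20f3249c351df056000194781477839c000314811b2b1b2e106c000851fd6d01184c2d80001147e011f05a8b120b20117ad17b03a6805500558190419205961553d55386f286f3126f9476d53714813cdb51da045836a51f45476402f00000048000838956ff09a4c08340830f7500010e241ddd1dde21b821b9303800003874019401bc00ed2be0e252a1a19e719e25b11483b49a551d554d816f149287d5801d401f9475110d,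
  nat_lit 0x34452bf087335c135b941fb347f347b0b510b56000155185294c5f4c404c3ec2d640001545000400da00dc0c140c160b595510000c51cc8b0c7b65543000214741d2f1d2d5508000451c4d3a448d0000147157e508c051b838e14ccd73587ff97124932927b148155411d9f49ea5204027c001423f055f488486dc4b4f866100021c8c1ba911b800016b5423fc0830ce82ca92c9b53b40cea548e2d152d13000a5202520155002f59313c89a40cb400194805480153f0027520449e551ff0cd423e895045c2d47f88de1b6b2abc51fd013c0010a0f957dca0c41910025153e0002051c5291529210300004147041e45df0000051803251650146407d007c44a64c42911096ff9723147e51b509c509c43a7358fc5dd03de00f260f2151f854f56d0cd8c0d8c57011720d47dd4ea3bf449dd49db51f61b2d484d721d275947d41bb3a3c4809484c51f4121c7da47db0aab547cc34e52015c8551f204c800005989604160442d8165927f747c54d6f5ace231b00003604000000187bc0e7a0e7c48c5d53c,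
  nat_lit 0x39e93aa53c343d0c2ec659465e30594a206e2072367c5229553c655910f96d4d122d124121f1283548a154e0f1a0f1d2c0c487b4a0c5227445548c12841283148981b63c285cc35cbc52250dd4f6392a31210548904bf1fba2b412bdd52230f5d11a92829488803253a71b2200031560a54c6880000863621a91b2b000108640b700b40000004e000047a34acc1e77544919a75534d1e8001c003d5f05331d33113308dc28c3b87b95487554c348d349341b15a7b36681eeb521c552c6cbcbfd07b9d486c52541652ff71ee6521a24204c1c7b8d486474d18601ee152180e70df307dec7df08b780000729000600111c6d1c6a1dae1de23b6c552800140040d27ce238e220d1c15490004001134ef3b6736f8000d48555a145560002000e1482095c0004001052c43140000000b349b05080030d3acdaa0daa4e4f4e3b0e3b4f091290573094ba5484154807b50265026a520f0594cae02969483802f0000033953d304b9494c3860e1f4e4fcdec0c230c224ba00b9f859842d840009547,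
  nat_lit 0x25181a3f1a352fe85777524655580024c5b8532822f9491477507e807f3524415608f7422fd490c0e9000a017447e228e428e1102c10ef555400100130000004c00003d754e15676576a0bebcd5d0f640f7017cf53f113f9433b17721770523f34b8b438b5b914cd4f884de0d2bd48f95543c71585536242bfd2bf9523d313495ec95e490f490d490d148f15531c411c3e34ad523b08a907356a6d289148e883a16f24a2152390ca14969734548e02ff1fc1368c523706c80008736472f847c000000489a70ae749a1091c400041402181246b000004ec0004017891b42300000005e259311c001794951732548c48df003452354a1752300de8ac390889286148bcae15428484d522e0dcc002072c0734d5495549889f8786955216e216e3299c18911893000200065544c10524c4eab06e4c43e00000d43000158e73e483e455a3025c925c8554000007ca8b13c63c,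
  nat_lit 0x19900007001016911649164852635564a481738559814988108266513bc13c152610e8171284ef44f01498023f3ac92886525f06680894087949781f002d402d3525d04801ddca20949701c5198553a9000115504b540010000c88882c242c40fdf0002221d0fb7083c0000a430318831706f4caeb0114c11381f91558115c0ac40ac952580940887cb4bcdad1495c1ca12d52b4752560160d32528fd49543021d1d49fb525404505a5128d1494c2fa0008000f2a16155000151d2d6b0071207d1000311df11e117fd52c1055d555c00040cc46f24ae903d0000000480cac0658065c5c4549381d41ee8194d1711524d06551ead749d50fd493019e013152691710524b2ae800045c2d492813b533214281389138700011244000001300012644469f2bbc1bb65324000099149b5c6f54290,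
  nat_lit 0x234d845e4377005c80004d3641824180c3db0000271c2694016c644d52692de5076c4f1c4f2149f955b157c159528632dce527d10e00d900d8c2c9549f03951f321850527b155856f4618149e80a01c3826675279095c0008003949e00fe2371237452770c7c64b064a149d822c06a106a400000170000807a067ac1ac0808000101e21a7f248a2800000007a44efc4ef0c2201e3191a247c1a041a0612b6527255694bd006c806ac81c149c454e22820bec5337096d52700dbc426025ad49bc0f3476c5689526e03c0161c160d49b41380ae712ae526c013423304b0949ac0dd0b120b10526a08b0000001200085abc1f7b13c323fcf02967a537c979dd6664000d47b0783095e00020918000908ad73394e2437405070001422f558a018c000108984de8cb1,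
  nat_lit 0x1caf3ad700030f4c9db97420000815d580d44d4000103a5532867906784d118d0f83c843ca4ea1c000000047c24f19074889ac89ab55ec0bc1955f00001f08121a121b219f558045423e543e5a5bc13c2621d42c47085817a13b9555788e988eacdfb4dfa8e6ace63d7a117a25374ce2d94a6955d31e35d032408138013815a9b3e67529928044684503c505d4a602b807941fae4a83529719d49220868c86894a5836152b65d34529501c0425442314a504b918b318b452930094002c42dd6e107c80ff42d72546e00001da4000405101a51d331d22000101b05770b65800001ba53ef4a21429c08e70000473000014fbd28810a6c2398f810004000222e018d80000f0c08e2052405244462155c5c954c692db72dbb272d528a2da5562556288bb08e0d4a240e22f2e22de236e236d52884d444298c4548dac8db14a1cc96229656445de4564a5286112823a429409c9d4a143350007000d528404582e6870d14a0ca8a00052d7157514c6e5bb527ac44940011225434b8349c356,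
  nat_lit 0x1bd0f4e5650572b09d252bc5598ab8cdc44c15c4cd427354aec3fb3c8f44d946504651538952ba5594d37c274d4ae41b30002140c48d05cd24bb255082fc80000004c54515514352001518b35ca33cef1c975529420c1c6f1c6c53240537107d25f63fbb3ba752b75590500507e17060ee994ad84382288369e369d52b52a5d165cee8d4ad05563b533ba152b3028167c567b54ac8214088f088d52b101342720b28d4ac031452b01ca552af0c7c7500ae554ab822c151e1f56000115247900334000005570004261214a914ab5cac17e14c08da54da4872814aac000ca3f95630001075a075501da1f44b844b14cb15452a4529481a481acd604d5ece59c3cec3cdcea54003800594aa5562280a29662968467e4bdb551d52a85584a3e825581f594d3c6ee14a9d5602dfa11ad000e001352a61f9025d825bd4f883bb94a9436f10501c9d52a404e0da406ed54a8c22d448218c352a20374668066914a842432d6f1a6200051554c1d45acc0010554,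
  nat_lit 0x9c43c6721385d75476f237d2e652e6449694bba54b9161110f210ee12b5167952d955bd7018e494e49d6e89140d748926bd4b6127b2611013d01390c0a0c0952d755b8047077cc119c119430214b5956d00060005049b1ab12ef052d555b11d1829d429c8bbbd4b5156b52d3004800116c093aa102b4b275b4d439d439c498045e945ea52d2131568997b94edc4328508707fb54b4556a049a58a73863380745e052d026d00a35022ca500a4f94b3c54e405340523e6d441852ce23e4bee923c575c14b34a9721a620d452cc1559709083b14b2c0f055d545d852ca03f8fa752ae94b243b5000219cd19c112a57401104919284ae14b205bc09df4586448b12b652c735515a851b94f9e04ad54b185313df23dee057c057b52c555a4002c4e344af14b10248093b12b652c3013c001801346fc2c690001037c2f902f8400000f000022cf746931bde1bda2ad02aca55a000041a141a28115000038f63cc01a50b3d94dfc015c014475ac001400354af5567,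
  nat_lit 0x8004c001801254d34ba8228f228b3b9f088b088d271f0143014a000155dc29350e7c863c249424900000cc400055636451945165c6128092e000010866857482c2889f0003255a00fd056400088660619417d0001255904390584000085d4835816d0a5e0a5b04b704c22f1a369452ec55d800145f8ce748691c36203610590957500035d154a7d55ff011203d80009245d53d43f5d574000149143c0d0d44000125694bf801d0cf60cf818aa088152e725e422b822054b982582d400ce753f700010009024c000436ccc49806800000db330961650a48ca491595c1c301c116f7c000957307bc07b65af74070046a000150000000013000200ca52f118201034102e298a2cd05741141104785340008500861405050555c80004048422fd61592d1cc60051b95710000012701ba01dc049c4f2d4b742030009245252dc01f449b449bd12cd12d56f6502113aa4f954f9507c3c92d10f216e58fb4cea910fe00001570000109c443f522bc0000270035d47c8,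
  nat_lit 0x3220307f308c1028561c55fc5b945bb8005d4c514c4957c0da746054da25eb3377e378053110ef94e5cfa3174812be52c114c40752451b3633363143f8530f1c08bfc0bfd10ac94c3846f104a1048377c530d1d69645d76d54c302ff000a530d530b0878000c0130001004800091d95724c29100015ca95a65083400011e1cb15c1602d98206d206f236323592355530655ec5bd15b3d79bc8fe54c14b21234f2352235723535304000951252be54c0cb14085533b0219e00010d180000013000130cf33b1219c03a800007f087ef47b75846584530c12654264e57324d27572d2505250618852d682c1f2329234d52ff55e8917d7129752d26856eed0f954bf93eb344736c747d647d54af252fd55e572b8bac15fe4d47118394bf1578561049234af052fb1b0d14588fb54be855652fe5da052f908b90f3d0f6d4be004d5601460852f70e5cc3212ba14bd8243,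
  nat_lit 0x2558d4c5848901168000470888a58ab70000004870848a14aea4a5115cd95ccca4b8ecf067e8662866194cb958110df10db28c817554ece5f504e9f5a18020f020a532d5600d7f06ec4083808254cb0faf5921081702090208532b0e51185134717a555bc14ca844a00052a7d2a78091800041c78944425b0a6c5cc827cc56f45e94241e5328205d4ef08de48de14c9c2fd35a544785dd053262db834143411773d4c942da42ac4b1c5324050400954c994c8c10c32a53aac532204850b250b194c841514b0e4b15532008a400494c814c7c1c82e08378e531e05e4370cbca14c741c6457a4631531c0664941910154c6c1c50ba13d5c3634000e000c05cf05d95323005c28562e943aea3d982e4c2e505c8f55fc000804c3519130800030d24e6e04c0c00080f2471213080001050970a552b8000000900022b022b0738a4389f3e57130755f80004e57cf3b96e41191466f557d,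
  nat_lit 0x4c6fa4f214bd7c447844740004f6f16db174a000018d8000c0af8a8380bc80be8c2f5622d37d537ec5de8ce555e9958c0002538902d402d11ad21407562c002000040ae0549c547d58a000002c2064404b80afc9c30cae94d20084206f2f554b3f5347227c952512052ccd4d1829b03a24b3f53450a4c11bce6694d1020314eb4b3453430a294d492ced4d0820217ca2314534100946f18a5ac21a52d6172e11d400005589000219e7002e003204232bbc000476a4cc046f951d38e28000022053301020c0c980ca478282af42ad4872c768c57d057cccab0cab94cf55883540353725b425b323115c9d1476147449b84b464b35533c561cd844f3d4f4e4aa5c96fc5a385a3528ccf6012cbd4ced5862a8d2a943ed23eba0fc80fc0185532ab533a561557553211253175712cc94ce4dcf3129133554d44b715de35338289d574cd8885af05adce6314cdc945330b330d3d015df75de153362f00d540854d2d4127ccbc988500001558400061c260274026603bc199a1dec1de9560c001470949e50b6f872e0b3700041c222d362d37274d5608000c7090655c6570df3ce08,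
  nat_lit 0x1079107c3b3d2d2b072b072d074507431b241b201a191a1722351c27328853ac536c5650064c065d4dac2143c9402da536a0154001400354da40dd407d02d653680ed400001b3d4fd831543138fc2460746078cb949cd85eac0b055930d080d0257c3001c001d00033ee456e8216c0004554072e0860000008640004075438443838571821d82175592000001d8001f00192b5807483f248db48da00b394d895913b310155015601b453615640001cc5040b2d4d800b807260b0302ca535f0d1411b4062c06254d781a101aa01b0535d04454d70013535c0001042703b4ec80250cecd40ed00ef000088a70001004c000912d5111511096fb10e3d129cc4e958f00010b4f0b4803af0edc00000130460079a276e0109010155161a8f3ba53c5c5aa45aa3177c1784178737ef1751535656384af46fc4f2385050c5914d552cd000857af342153541ad853c0d07d4d4c13807c72b1653520134003000287da84084000000313200009207647805cd1303530315bb71f691020563495880b2d4e3c54a8549400145f846b5,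
  nat_lit 0x102959e14ecd59e625f1000224e027d027e800040780003175a28c520b747a100751a4800085d648a448a4931895b58534000114bf14c22c4c1cc800005d581f0cc3b157819415b1f408459d853842ddd55f84a114e0c3a3000a000e53820138000c8d688d748d7882c094e559a0002235127d427e7453c34ac000460440f140f2434c000023531fe004b01c7c8d548d28412c414429fc2a082a3c01a001702b1cfa79277d16991471146976b94df959956f74d2a4c994c955caa1d311d39537d5660a2ed1a2117f074c074e14df1597233d26b21d6b1d6d537b39191e54e1f8ac2887a14de80d10d5e0d5d1d651d6b53793db8371c6178618075a94de0c331d5c1d5f55fc4b725377029001452cd92dc14dd81251c875d4f5da55375121c5ee85f394dd00ae234a4b6c537306e83860718cfdc975ecf6580010ba80003004c0011186082f482e903ed04050c90c81959600032da23c2a543909751cf4565400091854242c241847f000146145ddf3d9022b40000a4d0985887185dc,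
  nat_lit 0x3ccb2da12da038a453a70194b5a8b59cbca14e9800b0ad20acb3c9153a50d38f054f0894e9012e479c3c8e53a306e800340040aa2caa3502ec20d420cc33e033d55a1000501314f784c704254000c00000c02ca11e3d131b109400023ebd5ab05c8000005550003039d0ad7308711d505fd541c258000094fb035e035e442386b000010394167902b800000e5114a00b2039403b609cb09c03a03437532de539a56817788afccf9ecce34cb794e64039315526e126dd539806608bdc8dbd4e5c7cd45df591b539601e0002c2e094e54054000131b80a020a013f1e3f203bd3567c000013a460d0556044a044e000000040008e0c0c3dcb8a0077d4eeca9b4a9cd228d242535d119fc761876009e2018d159e000117d917da275f5cfe476e4b203e853e842355183418315674292c656cdc04db1cdb2138fd63500060003c556c555d11cd12010e7c2de54e4159c03da53e30a460a470b7b538f566c4a787e1d51f54e3811b0fac0fa70b7c538d495065282de94e3010e11b00b7a538b09ad4e28013,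
  nat_lit 0x2d0d4c5347a11a8053c50ab170f13211321557f14f10225363449205e5d1a7d53c30f4524b57bed796869e14f089b719d73c4b1a7653c10c143eed78c069e14f003c05dc01a7953bf0aa51e2469e54ef826e53bd004c002425e06bd86f300082a82450a0918001801200025c484a014a3b29e40004d1b8d1c55fd81480000439245c045ac25e4260169617f1d7fd13ddd7fd93c95185d2ec14edd5a956535d28479e49df4bb353b656a0f7d53280a120a11d79a14ed4dba16df5de946a44cee5e6753b421605b7c1ee41ef021c52e8d4eccbff30c32d532d542d5f4ba253b2364d60486e30b864c14c2d58000060615a709ce09c213c341a23dd13ce40005000a2d75098618cf1a880672066e07bc0b4a5698646064582284229c011800055a547a35d245b640045000014e4000cae1cae242d582d600c7d4ecd5a400023fb047cd4552175e0001196800046ad86ae00a000003ee25b0d0374ee542778275558b158b475c45e5d56a8b68ce29d4ea95a3064d27a42d29585158502d213c8053a95688d801734cf064f08d4ea0088,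
  nat_lit 0x48182c26cc26d426f026e00cd81eec6a4c1bf80034005862ec771875a875bc98a54f895ae371e33f6333a14a414a7573353e156b567f4da3cda3498a54f815ac216621673a1b262553df3254fb4098a54f78b20378c262953dd025c62e8ac2400083d3212b239700010ce00005186d2d6d60f4ae48bb7000014df14e1027c96455c3d2ca40040006c15894f647d729d0287c562a1b93559853d815484bbc6d7453d94f5ca03312338d814ef53d60d041b9898a853c14f5424b5cb114f753d40d8853f853cd4f4c167296014f353d207740dc80da14f441912ed214ec53d00a18f4cc53b54f3c1831c4214eb53ce0a44849053bd4f3420d18a614f053cc06400000b3cd7458a444356155f15643fb441a93fa045b345e245ae0780077d000356ac417c41643980000840c45f30e5e00011558fe7553d000000f000001322580e438b29d90e5256a8b9007ab41fa01fac69dd4f188a7,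
  nat_lit 0xe0ae810795a0154002118a8184c904c8855854ffc36f182e182930d553fe103068bcd9914ff422d3c45365d53fc03f8a434d9794fec1811e400f7e0f8815f3000456d0644c95407c04000c2a00dcb1f040002056c3044f3e5173c35f03600cf78fd10053000015b300040ae50ead03df03da18162cc12c3c2c3a5f3f3f49014b56c8000c2b943b45158d13d4e0d4e0e95a8d5b100020ae70261025a1b6400042b844604971c303000054d7390502ec2b8005a405a0679d4fc8d763deb4a032343234253f1011062052fc14fc009f01be1854122b122a00001c8000046480a640a52d73dd73e132c4b9215b00000192201b7096c64740c0800002870000004c0becd11832994fac648458e0ca253ea013c2bcc326d4fa43730001004c8a78f7ccad44ad493281558847f12fc49e249e3000055af304b497848e648e746b1000011e8000c183813301350fa40fa587b600020613217021671914000418389280ab7,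
  nat_lit 0x1515257c16c00000541d0934092f56e0000c30145b0c6f30002089b04f522bc000069e8f79035a1a781ac41abf5419061430288e2550603620d7a0f57541705640840408150581a348ed57b1541509243ab83a8150501832d8b23825413084c00008c348a648a608f955cad5cb15b74555000900000a1c00040131110327b1ed12f75582254102834000c3e6c3e78d224a7d5503cb4659125f9a5820540e07783d303d19503426700031425142b301634f934fb487c000912dd65a8c7e8e988955527100013a743a753dd30bd443a480b45628472c9b00a4715028d8421a2219e25de292354091b7d775924f974f4a47950208f930e0291b540704e00020002d50180fe09e41f06383529db2917000156d8a45400000014a84043f00030009391844c94f615a801043103f303146f05a01364c334333463c21384d291d56d4000800442bc957b157b85fc000100100af1017a01720234000000181ef81f20303,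
  nat_lit 0x1a1b000c543a02800068004150e42103d10000d54380c500028c410ca4154102a000092498249601c859cc0000f7c88b0347d000146d833049a808ca5162d33b937b11c1cfbb13bc5020505913e0d3cf4f9d91bd82528000d5c0566a0000203854c400582518000400142661353d59a55bf56711edc237f094c000050d0000438bc8df48df8252d5be00005e1459002b28b99c3bfd55a8d790d79d60a46d546d64f2e927a471f137ad1e111e0c4470445c000d5bd30f85c0a4fef4a223a55000256f169b93d90f41400044a50000004800040018f410f40c5d700000048002417bcb07497b45f445f5c548157b0c398295c295074ac74a922f860c950a15bb0000066b066e080d55907cb8567c00001eb0001002d002a583f584315a00fb800000123c7120d32be020b74d8357551ffd4c715ee3240a00b454335edd46864acf4687542456e897b928188ff4c831508d5b93e9217c917ca17d05422325457d457d8c81cc8295084bbe155e21e554200e4d52717b69507c0013bd600000f7c22c1559000015780cc1,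
  nat_lit 0xdec0de50d250d2654572e344418cbb1515839354dc4c5954552c5000240120001005c2a631a651d5f1a5e5cee5718000001502834315005d070f00000858000c25e81c4406e0002097c3ca42200000425e8b4b831910ca0b3e0b4233bf46ab4f214c3e243818f201230004000c3c942f992f9306ee544e571425e83f583f40f2b08e301bf01bc151348fd2cad2cb228c0581e581b544c5710b4001be01bb9512ca3a544a0048045c0f3c58e858d400089ae1c64184e16391634000133bc5a3458d80000032000338db2ca7163312640008f4cd23b8454000128a1060c071c0000b734b72c74d2eb0024e02460005000b45a73abc3ac13dad1fb15443570c7da87dac658c66387ebd51095c21e7e3ff6110d11080002075c8eecb9709e54000411b0000004c0000ca1566a09e54c7e32824b024b013d1535a90011543e345452a8270826fc62dc002550f55c1113d113b000d543c0e546b9c002950ec556,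
  nat_lit 0x138470a6a0a66106400016abd04bced502f7383f34ba317c59c031b0001554735739125095b55d780040003151c901e37f43b0113ce000e547131d86514002151c034925da000e546f08c4c6a4002951b82101f4e0001546d03f951b0001951b022c000e004cb4c09ca49c98000434e0315361507c307bc1f1e194300015735583c650c0000000ccdf15cc00051348193a22bc0c584b68000401d000213c235cc3338333b35bb436b43485c6a33760000572c00044f044f884a00cde15ca000010c3319f020c4efcebd51f552a251ae57d7133bd30f57c6ce9f8e9e9518d5c921e5259e01bb01b3444e5462544d5e5d73c1103129857a3951855c8585f5dbf3e463e454c6554602c2c3c2156643ba925d125e5517ce0e31924564455445524c63545e34315da129e511491131112551755c700062122111513f4000001ac0aa00a9c1fc006b02d6000201b82db40b68000407600010dee0de718b6106d2c180001278c0b5caed,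
  nat_lit 0x158ba479504340000ab2c5b9440d2ac93f1854900f2565fd3251523c514548e0144000522055af862d87724774c24995db0f3755cc5f033f0c458c4fe84fe960a6506a505f3b6560be3d9e18f22639263e00035769644098dc00080f223670f150001090c000917f920915fcc7494c85000145fd5e8045f734195764000117d4eba0aed5e91440926b026ae000a0011000a0edf0edb2c4e54875760c388c385151d1540b13552195d7315d59e6605c5a102e5f54851db007c46e986ea1521019e000a375c346302eced00e120e11534255a1000095d60cc50cc3000106ace4bd3a853bbcdd74001c000c3b603b58132013386d7c65f866007a1039f039d15d500021c991c964d054d06568157500004cc58cc50fd7525c4c1855d300000fb50faf127b1279000057487258726497c897795ed0cc10cc28fffcfffcec9089f151f55d138253957395425dd57b3330333093ffe3ffe3b23227b547c5740665066448938b0695dd151ecd55547a227557722272547a573ccbfccc34ec7889e151e4532226b5770227d547809200570055889c551dc2615476227354760dcc0008e114e714e12000094c9,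
  nat_lit 0x1fb824df44de3260326138e633b633ad5784235c236479d479dd13c115c92004fc6552bd5e0248808ac55644b64471c54ae2c70a36901cd01d17dc552b430e21962f4f2f4d54ac067c3fa17dc532cd52ac2f23434406f5f6e54aa2ae85940bd2952a413f34385f6c54a80830a2bcfcc5529c1a4554545915d8506800000010800301e60621c3138314100d81a015df000519810821081e5aef5af10a1908dc0000326c27fc27dc028802755de00000130000443a843c43d3000012330279064c7b347b5ca154e7596cb9169152809273da241b047c75dfd47ba4ca5549f5774d5c88d755e7d5278060164c16432f3d549d1494b4196ca1168152703bb54ce2f302f3b549b1d38543d26ed52682e3078f2f395499045101717d6d5260158406647045497101850bc5b645b602900178c0000e5e000522570293028454ca0b4317560b370b30086705e457700010112d53ccfb4d28652be17a213a200032311231858f5482a4d352def528c0008ab4c71b8482,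
  nat_lit 0xa076455684d2249e842765d180039002c1e560cfa3de337ef37f6155c57a000005cc976e4bca02288226ced6172d2fec56a21604228b0001579c886c888c000036600052a4a39ed39ec4a3e4d74228a579800103b5818d05df00030754138616500008a924e3dc56000012a490039078800016345080440d2a432e8954c30f252b893329530836054c1014461ec620000042105c2e493d00000e5c000000209344933124e8e2a0007395c496d5e7c54be49409f1ca3c152f422032cb497054bc05fd629125c152ec04e3973493854ba1034000079aca634a56885f1e6d2979297341ce5b2000010bf84a795ca9723916ece54c0000d38000201ca01c514cb01eb54de3882310c18b718ab18eb087d08805ded5de946d23953579400041ad4a0dc64ac6464a2696978e7795e4000000482094ec38ec51268916b85728573470b1576837c9011c4ab5580c3fa80008003552d15e316971699409b42a71abd28c054b357895cc8a2e152c85a14c814c7f4c975db6000103e8a364bb68000047e,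
  nat_lit 0x677067a3a7e3a7d54ea55a4e1ad402ceef153a41765f4b4bc04bbf10a30002302cb2ec407c000055400042d3016963d71507e5bd834fa34f956421080579c4cab5fa14dc0486126432ab657c0000c78c478d538d5762c427510700022d261eb72b10447132c557bc00045a5119b000e000d8be9000040d747d2020c78b478c52399239d79c139f179f953892e20b070b0354e101d41c3c1c55538007456f1491654df0a61570d2459537800e000e0e8454dd0afc60c800280010549000302a802ad101407e803800000000c50c82b255ee00000e813d0c00e42d3020a0208c5210b87cbdac94a822dd5640e3385e7c31a01be01be873a50351773d53655ed56ba115f0bd400fa00f502411eae1eaf4dc45ff83b5954d857b050b571c122556aa8d5200034005918ad535d5eb582e2c2719a2199d1cd01cd1446354d657a83890ac34ac9cd2c977215354bb82e7459891cd01ccf446154d457a51b495b9461ac8529534d07f0aa00aa2186a214954d2141d62153b458161771d5344bb55f0d2df42df554d00f6820782071533c07e00d7462054ce06e8556c00003fc88af,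
  nat_lit 0x55bf484e0fc556522c932c8d486f398e32b54a31000157e154bd346cceb0cea0ffbc0000d880000001740413ef1133b133e1b761b793de657dc004c0074e228dff857f457ec770d54195f623c55c11420a3edd38c01dc3550557d4dd14e2f8770954101ca38b408ae08b25503070c22cc22e1540805808b208b455010610faa07745540040655720000000818d855580048f6d05df00040872086d07870bdc4fd00ca80000026000013b9032a05384ee8a8dc89cc31ac31783174000cc7f4a984a9a5f064db356c10002555c19d019bd599136c95b0000055f458fd1550000006515eacd3600000a49154d000834d61650000c02240235793d61449c6540d000254ff009d0c7710200004024400040f10000008938730b0d53f0025cd020da696bbcd67c998d60cd60dc6b506dbc00440050006c4c5953c55f35e5b4913491206fc06fa5d7b212d11e411dc3cc13bc154f057c95c7133815a7c4c5153bccad2983000122e43bbf54ee573d5c600004579143e000020388b84eef153ac00015c555c595f1,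
  nat_lit 0x5878474226d20017001a552657f44b717b31006400041fc0003000212e530b4463000057435742c1c1000040203b9504485be4aa846378637c63957fb954895fc06d80180017618d210611068552157ec4b902128059c058d5480b0646b018cc105f1066551f03385904590154785a10a950d0512c20008000f11b92db01a6888d888c900c4b240b244001123f14d815b81e5a1e5900030ea48678d1c8fb380008346080d1ddf1de20001046c0234795079580000015000726c15b4c38545f2447a73ecb504400189aed66153dc9230d232118455fa000514e714e915240010546c546008f000326bb26a0120800089ad4b21c15e00012696268e017400009ae4d0744a9162e163155100f251c697f65543c31d104e1054550e02e5543405100070d580d5b064c000c01200000615022402201bda02681828c300de7cd32cd338e520e50d258d3e5d276d27713c4d3c5543554398ffb800095f9,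
  nat_lit 0x55b8056c3e6d5cb8510d49d23a0719b104c604c704dd04de57683a8c3a8b55445814f7552aac74bc74b8878887951b31550d43c2b2e09d609d540a44611458f458d5542581019a019f11b1d55040000507575718bf27f14822554046c89bfc9c0d207954fc16c34cb3cba4132553e121cd380ea1154f412e249a18cb3aa04b7c4b7a4744025b02561c123de733aa33ad0000000806b106ab15d2580c0000cc38cc3ce73cdc9c0b6330d330e39ce3022000016f000150dd9442d732c12d000400480000012000026cf474e4cc14c221bb34c189b5d5be8478c477cb4349c21622d622554d9602054924283135214421432702553558050dacef68002c003954d03a805460548553307f8001c147d5a4006800062610230418f000147830782c3a6000115fe3281364f12fc00005808fb0012e15f9354a60694dfd5fe44ccc47ab4d054d07106d1076552e5800dc98faf90dd540d1849984a90311627c90dd1a6154b55ff552c5ff83aed2e362e39164b10721074552c57f8f1610b8576041110110154ac96436580ec10ec50019001e552a1cb0ef2d13f1772c113010f954a50275b2f1c771c70462f5e25552827d45d2c5d391ce11cd17fcd549cc32,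
  nat_lit 0x23200000000a47a720803fd00028491ca0680f25bb850b151254f7233ab33aa45970003582d5b144460b870c2f4c2e4000960a036e03742e830001006c7ec41f3c1f340000186000218a62c902fb005c800046284a5e523e000018a303c12e48629cb9b09e845c2c5c40a7c155645cc593124f43dde117f1230555849fd1e70c2e45bf45bcd555c9c71243122f122e555608ed65296509555421930ad20225554064c0000a98891805c885c787fe13012762275f47924b030005000800380f2100025824273c0004001c00dc3c80273cdc400025e830439074000041c35013c6880000475048c30a5957841bf55a7137e51d597a4955396081db7008400825e91554d03542c9463b48730874155314202763370f47535e8f554b02615539806555285a122013b0d554900048add71a107dd03c97599759400016070000014417e017cc000422c0000000112e4105b105d1c6e3a9400004b8c8a689c8c17dc17c5606,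
  nat_lit 0x579a579917cf17cd585063d09fb49fbcbd08bd24e73955f8fcb5be65be339cd557d082440012f3955f005004ad5f9b557b048800411f0955e814a14fd00004b0203c160b8000080e15011502202746681178117b000000081826323c4cf75eb41bcd1bd511ff12035831582d584c002558013724a1b8eb6ceb7492c561200000048000879e160b87f0c3d800014cd04d054b0402d40000b5946670aed10753af046620ab40ab525ba25c025b121cd21c9000d000e320c0a4b0a41557258456724144c14617834ffc85f8d55c47c65a324ffa61375a342eb95775557058404a784a745b90290428f955bd60f099009910a3d556e1b0c19d05f8955b425815121510556c08b89fa05f7155ac04d45a9576f556a06048734871c000033800005f8b1b8258397e300010c0a06714d77c672955a160d0a930a8b5567091416a8662d559817e1f5f19bf55650774c808672d55901612f0f2ee1232300000003000c5f7058300008002d1ea082040000446,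
  nat_lit 0x126a0dd7559b07043824378956682dd366c0000206f1560ad9433007a6000007a50dd0cd9c0d771e93000000062a5d5828444c0014a971609c708c707cc850000004d671caed0ae00ae1400044d25cb94249000006a000016b14849c7294722c7234612352c2d0950265a62135f1f6c33070da30da100015592586425600011564439c0005220234160134000116891690feacfea13f14fa48fa0c22502268c0dd618418259c32ba432a4358437b416fa16fd2aac496e4b1d5edc5edb47cf5ed7558f585c412825a025a57b5956380f709551be30008558e558d010c41515b851e717b51563044521fd2733558b2c50002088549d180dd1a0d1f421c1600020b60089453186dec0004123096b1c150000107800046fb87a04704448500001bec021f02b841295b651e517b3156153d856474df34d7a605755845859234d37c935e58159560c0c058d627295582027c00103ed43ef81ac818c5ae35ae2329313e1033a033b25c160b64e8c17d317cf00015854ea704204000000140038e49,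
  nat_lit 0x5856225655b918d89d91373156e04733fb9608e55b705fcd681372d56d83382cd32cca55b50138d42cd41556d04b50a1655b40000069028f0290c000c23015eb16ba000206bc258cd474d465176573c40000b3d00031ed227de143414383e31588000092964b0d85bd00012ef708111f200001296cb08c40521e217600f835da15da555ac587c6e186e1556ac5581b621b6155aa18d82564a3d156a43380e310e4255a804f4216c474400001a859984fd02530000c00091af25878001c38a838940bb000000486508ad98ae10ae90000020700011a4f02a502ab288218700e3a0e2c2ba3587400015f7936895d84541c02c57dd57da0736002e00391ab355a15870eaf84294ae79592c20ac6ac956813b00506560c5d173ec80dde559f586c38d837bc37ad5678124086908630dd9559d5868c4e560f9567023a,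
  nat_lit 0x2af661734fec5fa91a5e1a632741608a593f24be000058ac00000d19179117b16514a02d62a034433d833d63ff018b918c155d558a524bcdda4dda8948c949157514ee35c460ee4fc560d44deb55d358a0b6d97d7133a0b3c4b3a9574862000ca00d446e8392f393255d1589d2b692048b3a8b3a157407f849af49aa4de655cf11bc12417c9128d9573832946e060a655cd0cc840bd378957301b32515251b55cb06c8001c012000033f14da72b982b9c02a0cfc13698ae5c2b80000531b000156293bdf014000001240de38694048e19e157f63553354c4f6a4dd24dc44e6d4dd955c65898026c9dd907851ce8751c75249e047554629462c15715625562603055601264f262f08bf08b1392455c45890d7f10fe0d9a8bf7d826d570d6235624273527cc27c44dd855c256a000140133fbe3ffa500459dd2b2c00013f3cd6a983093b710590f39800013d4000038fe249802f902fd37461940d4116dacfe1cad88627862a156f96220ded05af5636218c3fe74a2355bd5884dd18ed8cf07937c1374956f0c9b2ad749793916391a55bb06b056009410942156e8408,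
  nat_lit 0x480c4afa4786495055f400f070b1833557cc02d1999198c000508b174b9891942b96c60000433a000500093c5037d637d91a8b0e8a0e8e58d800100038b2d8b2d0c584c59940ecc5e89ca000300073c4e385e15f215ee562c000800351985334133386034da80001000610c610c7198558d400000030ae680b2000e341a341c028b028d60b961394fb5593126114a7f55eb58d162450288e96cdf90df70f1e53e4d3e557f392b5d29fd57a9633219e2ae02add4ae74a7e55e958c885dc78ac78b878d0e87957a16310004395f0004000a3416341558c00008f74573817378e04d7ab034a434a0cb8d62f000120bd587315500001770d296015e40284b2e4fee4d642d042cfd55e458b8e56cf248f25c00715795578c6fd46cd4af12d002cfb55e208d57ab1837182ed578432e18c118cd55e001e106b937d9577c10f568460b855de06a00075578157741360008180057131558001c2030069806400063c523c530508d61ce964e73970d14489737ccf948b688b500004001524cd82c4f050f04157e962d0000004800002210221c64b4b4655918146d63a562c,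
  nat_lit 0x94d094f2b951f440038003c90746164615ccbe4ed7ced6d254528d958454ad028e4b604a1d2ce82cee56102670b548b565184d28c528c1583cd0e00103b5a3ac0138a138b560e2408170020ccb468b46528b9583563a580649560fc80fc133d6560c263084cca22ca21cb1a0b1a5582ce760a540a52041e041f1387560a27743ea0a1a8a1a44e004e19582400400005cf8430b5cba0bd0e7cd6d185c200000bd6000200033dbd5d0d5d0757f058e4000909a97c2118c969e47818a2f00013dbb3dc3474a47533b6c231c0000f6e8507850715ea800014e05f1c2520289b224e224b13ac13a4000d00104bb10fbc574e3b143b113ba2560358e0903cf7a4ee8158083d756013ba0560100c8002001300060048001d5f09022861f560410898a8e000615504a8b0564001455412d1c5c5000415482f611a20000c551932981450002154a47710e1800043ad41a541610000154c2f7804d45510712c430043212545834957dd63717dc4afc4788495255f603246074cc011dd97c4557d5501,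
  nat_lit 0x1002517d21a5d4098425a140c0000007d7d2c12e0024214f5f50562d0d9c191c2ddc412d58b02b25f46281a2819562b0af15a8938a558a8293291d5b71562901d959e1389958a02011f4f1f5656270094000017c15a9c5df1c1835da00001000000c34b43d8041cce7e0000004c0ecc24d55b88640833c9588cdf819090cf35622099c34a833c558840780bfd0006000556835682306c460ca971775143816d3c000541400025f594f164fec4fe9618e58f558f00004779c77a47c80000227603a7037517e517f11d806e7c6e9cb9c83ef15d9c0cc40cb82f39587163b567d293e29360bcc561b44ad5c595c4d586863610260bc156190880460c2f0d586015e11ae0bbc561704e80024171c567c3c242e5000615985fb0155000152d5c84f410d00040a470a44064c000509f181ed821841b,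
  nat_lit 0x1e041e0a119b119a0001590cc8d4018401ac00003da00020ee9298601f4000404c60890534053500010eac7fcc000000543d3000011c00d700d75053b053351e1692d69346c353ec8bde0a81c00095914004d642195d1959000111f830eca81400001ba00045a9750a33f6f1b411b1306c606cb5904000c2fc82fb80448fba9764d64000020bf1564500285f7e2bd2262400041c3016d4077000300010663040123585fd05fd800082b558f22291000107c02f1c2eec000010b0000310f5a1a095cc430cac8cb01889d44016dcc433c000158e563f56380002292631d82b7210d04da5036c000958dc558000700055636023c157c001558d413d000200001eb018d9621c09ed59a55dc800000ee000000012e3703c80004157158c80540001000b3ac03f645173517042ff62823e2a39452f172f153a543361336356a5563258f958c40134da935b300010878000800880ac8458059d82490248c98d8000163d,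
  nat_lit 0x12ee619048e1332f3330000038340018e338defcdb0cdb18dc94f498056c05717230e1192229648000538cb3a443bfa2e302e312d2c0010060405fc0674e828e5f8426000338c83a3e12e405b000084a3c4a38c9983da000138cb38d6228127240000e3084b840b238c83a2b1f153a0827694e6356624608162816155aa00df559840cd59014e625660292580e92641597c02d000e004c00200714070c1dc0002014468d103e8e46422b022ac7da4476000096470f1e0f2511d300010004141d5afc4760000003200002e1e0f1c0f2311d1591849a4498834815db0351c996559605fd12ee12f80009000e05c05657591414341be436b559583a02acd0dae0dac565527384bd417fc17ed59507494b0524cd565308e8abc492c559481c80aa9076256510718136817dd59402b95650000c0c430374683c17c817d416dc0014007564400023f6b05f505f80521593c0004c040abe0bbb,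
  nat_lit 0x21a170eb00888000447cc47ec24615cf175b5f9a348957e7000656851f4cc8e4001d5a1014104b2000c56830430118800295a082b52aee0007568108c000515a055a001d80d3c0006567f042c000436e843448af000017290d390889017836e40fd00fc00000bac00002c7825f9524f5dce3f13280c0db103e959356af16ae888f000a959f159ed0d02b332b9e10030ffb0005567a53b434c87944eedc001959e41cb044d15f7000a56780c6c006959e159dc05c3b53410f462631733174366a16032d5721dd21e121eb3ac13ae223d91502120500015930bbdcbbe8e9d419f800000a100011d9915ab1204128800000121d971d7e1d7d27c827c500225673592ca3f0a3e85f4c0b640b48008959c964a59fc616711eb001956715925660d2364007959c09692e350018566f023c825559c159b82201d0d0019566d057ca18c004559b03a304e90012566b04f4d88d06c43994398caf300004612,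
  nat_lit 0x75007584ea856a42154414d5fed3a995a8c33515134d5f56a200bc0008c930af8d74a548757554b9e00012cb90f1520dd263d113e2bac9ca8a2b0a2bceca0ef69271d06650fd0fce577d510017a60a2c09c7d6ad927695a816552eff281f14bb14be3fa03f9e3f9b10f210f3313f6186569f595082f06abc6ac571b910497c850a3d5a78a7a5b4d512650274ff5465646585fdc569d594d5a70000018301b0c0000e1a2b181f4d593e6182569b336c48613a813a715a686cb56df4ed64e9c5699002ccfcd31c935615a604bf10a938f6428856970d38ef693a555a58132055c10f10001023c48dc3f6400003d300000f6b0f680ab56240c5fc135c00081a0479523ba3c550e4e0006000206ae594800056b896b9006a00001d3904db2c20b0a483b483a8891c89446cf400155a3d65121cc21cf4b695a961b3c0004568e5940946c5d884968497800155a3564f0b2d5a9a5a9d1d2f000c568c1dc800455a315a2c0181f220006568a116d77250d5509403694368400049150004323d618f241e24160726079b5938000cab30bd14702c68ac68c0cb6,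
  nat_lit 0x11039049c0f0968ad7e0c0fb00fa8e63cc7dcb22cb23c46a046900564054c0dd0b7bc163000b95b0565e3f382a5a10cc10cb4b2f0725003b56c456c05974779c778d6070335000d95afd65c04b00a41004356c256be596c0e64954400cd5af44a52c9d254a003256bc12acb2f400cd5aec17456ba004801f4ade4cf78526d77e58c794a614a9579786c44000165a00041c305724052b2d63331524cf24c733175cc65b5f2ebd145e145f591d59195964000ca9948d98c43cac352e700025aab5aac023c000470b0ebc015e00001b561b4211f070ad3c0d283d0bb57c15060d5ad16580307324b3247470c368c619c56b32b547094c1113add5ac841b5d45417f418056b106806ce536193ad55ac0e262b962b9a42a256af04645d517fbd5ab841e146e4eb356ad0c090a6d3ac55ab012221d54eaf56ab1d3400109c8caca48b0000129c631394ad44ca133fc3bec0000a6fd05cc8248824c6b8965729bd48ec414d1a8728a43b89294129402f09000956a956a859581a2cb44d2b5905dd05d55a9d3db448a1148000556a756a60e449d109cfc00155a995a951d8,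
  nat_lit 0x600b48714ee356df0d855dd187295b7807029df498356dd12e55bb13b8d5b7020118d34ee156db07e49a70f0915b6855b0007004c000c241c83e166946ba06b9566200020a7c21e121e30a80828c000003000f2000456d64edb571703240e051990598429dd5b94000c2ba113200be00020760b264030000041c6046800be0000047c00052494745d322c74688050744d051002e5660000049241d164c2a16641dc31dbf597d24852208093809315b3c3431232123356ce2c80331d3b315b340010006004849cc957c00003b5000017aa17b01918c234b09499355b285f004bc000b000e56c909648a7c992d5b201455e15264b56c70abcb65c992d5b1820d0c792cc856c504d400200121f331e9b1e9000000bc80008fcfcff34eeb4593c59387a389fa,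
  nat_lit 0x4b73000756fc0a6400415bf15bec05902fe000956fa0a60000c0124d3b3266326304cd157719e40199019d0000599c00106ec4c5355d60127880515de0003293b13fe13ff1bfc599800090181016cb6a8aa000012a895ac14b6a302800000123145314a000c56f30464a1c000095bc82e302ec000956f11d34009d5bc55bc0406000721fc21f9059c0974c264c32d2eb8000814f12765b024bd600010dfc000c037800900f20002009900a5037400041600c5a422200000580025a09195d74a87ca684a68d6a118a4143e8d9ecffb000815ba5665269a267256eb56e80a2cc458c46c00895b9cb732db9001b56e6045800144774629c02a96644c75149800021560d0245258000408f2c16292c0000064c0000d998bcc8bcc12ea4807cf084cf73d5e52215220630a3e9b3c693c6e3e673cbc56e1598c1c281c2464a55b8029c,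
  nat_lit 0x2c4358320f4c32f800195c6022101a5000657170720342d5c5d5c5821700020efc0f011de31dea3b784534225f225e59c000046785621c46586af8ca700001a7a4cc023d2103159bc6a48b581333906f48be88bd583f12f896cb42f00341d5c4d66e031a0323091609135be80d0457124cd0067442d042dc4a282efd5c4566d31922cc902a602ab05205710364400455c40001c33fd5c3c4dd570e004c00180000631c28522545e5552e75ee31af0000159b0000c39b5270569bc9dc4bba4aee566b00020e6b1d930432042d1af63080000439a40c3c0c182e900000e6e2b820a44399c00395c2032810dd0009570706ccb65800195c183c504580454000411f8c7a0d2dc000c0b21b8b4c0c2b2336d30000025400108f616a2d22592240903ceed966a000323d7140a58a613f05ae95aec59a4000983b92eed2ed01bd000118ca18c70504000183ac6d203cd60ea4bd562f1354035414c45611649a041bc3b89000656fe59a0c338c33d019000295bf435d,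
  nat_lit 0x143a138940000543000d573659e4a46c664000195cd41de04c100045734056c003d5cd15ccc0540005454860aa09cc06403828b179897523a52398663400096785eb8404e199c1990000120d41d4c6668663c0000aba000027cd27cb198f2b510dacf93cf394a29c2ddc2de0b7fd33d929e456b056bc756d6b40a7c4001d5cb967745565f7d431341b5529152935da73b411df91dfa000a572d59d8a8bc1160115c81c800295cb16750634000c572b095c6fb000395ca82310530000357290840839800295ca03b5001057285727002400257b0d01bc4a304a38754d6740008004800080134ba12a5625e75c515c5325ae00041fbd308984849670000c8514bfa2ca4259d000200a0ae28967400043082b49259b00000a4400001e181e34966967320db1b831b961c8c13d20003571e59c839fc343c344c001d5c741cb000e571d571c07b81a941ff892a892bc4f2c000065b00032d1b22eb00d900d513c459c400043cc41dc81dbc36141ae,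
  nat_lit 0x5cb239d6058032dc1e24034921a04bf15d495d4568130633ece07705751575052d04098bf14fc90f56c2a942a9d6b991ed4d724d68c000568012c94f9857ac046a359d0000409000090d04bc28a8bca8b50f64d68967f00014341264c11160fd859f800010cf8474c47545f0146e147233ee000a000e574b00d9637924a0a1740dd55d296431f9f0976098312f3574959f46680922092344bc95d2167c1c1707700771574706d441e0451c4bb95d184bf12b912f1574511f8193419395d101ba070a44b131ce0fa20f900002261c32f50b1800041f300000048000c1da81da46db8839c6f2000212ea2e5147200dfc00044ba86c94072000058cd0c770e1c191800155cf40500009573d573c0708000c18f08aa00cf55e008bd9645000001440000a36472a415d28db00025739088400395ce55ce02ba00015b515b560898088e122e59ed02f8b1c44c6c4c58b19000155cdd67a,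
  nat_lit 0x3e6d000018701650d3e4e1cc0004000161f45be8fef16880caf2d682d6426c7000029d400040734e56c76405ecd420000001c837d000bc072ce564000d5dad5da8b2a3aaa000037d8284ce120e55c00055da4290c28e0eac96870c4d181439262cf92cfc00001098000032a00710071ce5556860ca72d602d5c4f6b576600f0001401300023fad2e612aa40005624c3974073075227f220cc20c818fc18fe57635a14eb68eb650a70f670f56189655d896844b9f50e950ec523135ae57611ccc2f542f3c2f38aeb989595d8168327f8225f2d544f63575f26940c380c3cbb495d789340b960b97575d04f8289c28d55d7018b07482ed0575b0ce01d8cb8895d6805d0597255a575903b40020227163b924e17268a360005004c00355d5c0000f4c4c8b94343d30322d338a3a973a993a9b5f6f53495edb1ab900005a08000ccdb134b5328132886b9c6510002336c3c5e07480004cdb4000473e,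
  nat_lit 0x2e67474d1ccf1cd321d7578c3128c90cd4d8b800544c54455e2d68e1d441d414d7b21d621d5578a3620d8a4c41cc414bae0badd5e2460911b310670008000721e5009f5a3400180122cb4257025723383000102780f3d07a0c020c1a00000ff4000049de42ad3be43067542ce97cc85d72857280b94cb9455e1168c2768322e12015901192257835a2c92ccb1ed72794948d74d5e0968a21dd30af2e512e4e57810b9c417451bc647d5e0067d0bd60a590a5c577f2484f8a189e55df80720bbe0bbb577d043c00655e015df013600053afa43e812ab40f238b80010ebe50f9c3424341c08d00033afc345c3031191c00081f901f9c12e00012b8259a206e8cdfd835c90108fec305d61dd836c9cb548e0d71d5ddd68931c031c535c757760d64a0b02ed82ec95dd48c90bad0ba70bb1577438986ddcb908b8fd5dcc5e9060d2eea577201402ed82eb95dc412243854f775770052880f0dff000101c7,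
  nat_lit 0x51d051529b429bd0e275264147014681514a6e8a6e58ac143a984590f58ed94ed995ea56990e243d853fab3adf3ae357a85a6005bcbe34eb5ced915e9c76f304630493b673b6357a6101ced0825a825a15e9424d3f34530a3d3957a414c03890f4c95e8c01d07f102a700050ed482dd5f70001000900054a0e1d1e17d417d6378a1298129b4b24504359b35a5c0010aef45ba18e20fbb4f3188f588f50a2648f708f8569600036118611a599f17fa422f416400089a916438458d78180555695000161155a1b1d7a251057d75a5000018455844d0ae92b8c82096932f612f624cef1b34004c579b5a496ba945f96bb09c0001315e69691303e3d793d7a004957992694def8fc28c2c801395e609c72b220044579717d401555e755e5863633b2004a57950650fa6801095e5005d0005245730e424b230bc30b919e55a40000c32cc32b815e00022b9d353d064c0000efe523a0d1ed1a93bf243974ad8085c085b0049004835e457905a3c9e8432583254bac4bab95e3c72d5afd5181279f279d2ebc578e150d674c2ffc2ff4baacbab15e35632,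
  nat_lit 0x587805ad000000c80000db345979668566800cc3e7158fb0e97484c57c50008a278a1295f10b2010421fcd57c3025cf5cd6c18000424323e423e6000008b00000896c0c545a00eac0eaa3de63c0930c9000857c05a7589c4604c39083904518c00215efc6dc09004333129e128d000c57be5414f5595efc003d5ef4448000e000d57bc0704ec3000295eec1c8000c57bb57ba05e4f59400195ee42b91d0e000857b8042cc3008230ee90515c000cf7814545af73ba314560002038cfb8c515c000407e1d0b1455000006e8000458a033d033d463bce930f4290b20e6d0e6cceeb0514d69c00001281593a12ac372337215a6cc708c54d363910f90ff4a178a19ca1b0a1c000255ec969a3b013f47000657b1227c7414a2b8002d5ec0832000c000757af01d8002c00115eb81ec3d3f57ae57ad0aa0001837a437a82c30005304a3d320918fedc38a400001c0,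
  nat_lit 0x21d3f242324240c140008000400116a800001d3e3b9a02e474dd00fd010914ad4ee17bf4003d5f896a7601f601c435b3ff6001157e15a98f4351410f9dd3bbc002d5f816a51d3a3f4364585f08000f57df12ccfb70f79800415f796a4002757de57dd11315f70012009120cf20ce3f7f02c902c5601e601f3a66019d00025a8c397c5208065000043563ddf0198000004b800041c85611014655ff4096000007210d2c46241c88227060e460bcf7f860b58a2c00655f5d6a211a422292fcb28002270001757d65a8529dd29f13cbc248c00615f556a000053d84001c57d400013f5cfc4400a15f555f4c318002b002657d457d2073d5f4c00595f442b53f6d001657d006695f4400595f3c2b33d7d001657ce047c00042b302b205344dab159f159a020301ff118909f909ff2d1400025a7d00057618543c541525e8000569e075b07160715088c00000f540004e38965fc526d4c200005dec233a0ea8e36c6e2816bc0004485,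
  nat_lit 0x5aff500e58020dcc0384b34c000c55632bb5c2b000203c0f4b4847c0004181000136ad5dc65dcb231b33b9394840754074489f48a248a8612d026502613f375ab80000de1d60cc09bce1b88475694378a39443946419f32fa28a128bc005a57fd5ab564d526ec34c434c001715ff070e03d403cd584c264d580257fb42c4006d5fec0028016d5fe9068001f0027005557f91f995fe15ff8013d5fe01eb0e79005357f707b8001038f9015c907146447f0120a96ac00030e3d4214241a29dd3360000838ecfbb425b00010e340e7a0d6918a428d81660165400315fcd6ab0e372437000d57f209c5075ca3f800515fc48721d471d4a001357f00a7490d000255fbc1e71d45000d57ee0ad4751c00395fb41513bf1000c57ec1868751400255fac2b31d41000657ea071800615fa95fa42b94041000a57e8042cfbc090b4000422c00041d3a58c60a9261704ab54c7b63ff63f72f9544185aa8000c750c909cf610ef08ef1090b56a9,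
  nat_lit 0x3f5d0023582158202db8037c00a96081607c1cf0cb2000f581e088400a0003d60741c100dc0008581c0ae8eda40039606c61a5822000e581a07216064003960641c63c22000e58180498eba875e862d41dbcefa80fe8000911730c003f5000101f8f08c0fd400000b200011e4a1e4850e750e850eb5c6525f325f72589040758695acc00018449226522706e28033d6b248af634a5061379e001758132ebc8d508d64d0ec007160496b13e25343b001b581121c883fc004d60402180ca30014580f04300334005960382b53b5b0013580d08c00195603960301c0580b0014580b06fcf0480045602810b000521dc199a066800000510001238800e40e9800001c8c1c940ed23822ea227f727f431934bb42d400c230c270ef00ef158065ac00580824c17601764afa0589058bcbbcccaf98c2160156af1ceb1ced4c5358040fa419041915600c06a,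
  nat_lit 0xf64111111152cd02cd4000a583e51c8f198c3b0004d60f4872148c3d91000f583c0de45244eb1c003d60ed6b8583a000a583a054415a4002960e461a3e20000a583807200034003160dc1204098000a5836047c005d60d960d421702cf02d03f512676000201240e4161fcfd4099d40004cef3d712671000004b800010c650cb12948c308f27d0da12a69420d10e1013899cd6b74b7e35002aa123d0001358312ea160c0004403c4005160c025d0569003758315830582f56403ad4018960d4005160b82685b51245b0015582d008d02390248005160b0ef5001a582c0012582b0d08006560ad60a825c5829004cede4000864e40f20009000038f60d24e25ca66d28647898f7e961680008e4318bb077e5859000100053de0fdcc093c00001ba0001388817033df258575ad800100000e2240f035cc07d407d22cf03af5000a58225ad415c015d986b52304003960856b4,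
  nat_lit 0x144c108f00001558000967c89c8c9c541e482a7c2a94c42574e8dd48dd345330533c58cc69e8423d6c10001004c117811757c797c64309561616c003cc05c832201cc158571148a02072fd6158267000a050622be091800088668784858943b54e0a00011f3e1f4504b83110763c7640ca38575800056bf1e7906a806aa2b1615d000005af80000bd705764bf62f5631d51fea1f771f7b585052a975654c81478947794161613cfc72ebc63f2520a2531252d584e2c2c48d4b8d572b941798d556134c5e386c1612161019c5252b584c36c413e98bc1472d6bb47dd9612d6bd5b3f325a084408411f75584a42bc00050868fa8430243015302d302d302858d96bc0d500d4f09bf09bc16655efb64af54385439505358495aed10dd2394bc7cbc78f33d41698d3d61216ba5bb863cc5052584728d56d098f7d413d61181ad19d419d31f6f58450f5d6869412d6110032000025a33eee3ef44b6a49631fa82c7837445acc35f8000967d42640d76000102b8041035d000001ba00002e62592a0b2b0d7c0258b988444444500b740b68002960fd6b9,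
  nat_lit 0x2080a29e4088800042028055024618f90d530d525b2b507758761e902034bf341548155161d4634090408fd289658740cd0a7747c387c7d61cc0b0014c63675076587227c16bc141f161c43b0262d262858700dcc15e015d400040750bff273d00000c48000c5398537c567856a04f454bb000214e55a2514d806045b0c0004b07ca81067ac9b80000004cb074122c001961a805320ef0400000c5869108cbd00002161a02a90011586858670051619801300060e281d4901540000012048429fb29f500002b880004685c691c6944b1216c200004f075a2903813dec7204ceb85148bc58001561845b95cf35ce80004586014b838900015617c3091cc9585f585e05f80fd0001d617417d08de08d208d3109200021b7cbc40be904264424800043f2,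
  nat_lit 0x2124002f58950734103c00c162502982c82002e589307a0001105b4d14012e0003416d1b390d68ed6988b505cc8084000008900004523622c41722020448cec7d3c190d3d288588c077256c318e71623d6cd275b059605932285191300195890588e5b30c660c674c7058fe147fd8e6962356cb436c381e293029385095588c5b288308831977297724cd61622d6c9344a4cde64176397588a081c6cd08e254929425562241a95d0c63945091588807798d154235621c2673d14509258860478764c7661621432c00005c45320a304025c725ce25cc033858ca5b20699c100010045fe45ff0000145400024b06386b303925a7048c048d0aef16b616b82eda2ead5b1c00058c14596c53ec1220122923150fc139ad365491d16c6133c08070005000025b81d525b146c186c1cdcccbfb4bfc0e0501500151800056c403360b99000006e8000964b061a861b02e486240001054c0b93023c000018f419004a907ff28a5587b2c802020763161e80010004080c1561155f2c042c0b27c353f8000c201c2ca0314,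
  nat_lit 0x3003300158b305fc1120ba2d62c815e4c1c50bc58b10ce00094d14962c005d023a298258af03b4000966c00b100b14723ca1756d300010c47140f0ff90ff538c4000031148f508f482ef59ad1ee81ee51bfe001458ac2cb47e90cf749d64003d62ac4490c39451e10d4000d58aa271c1d4c0640004162a423b1deb000858a817d4071c0019629c5540622001258a6057c00e9629962942194158000258a40574b1200011628c04e34d2000458a203b40010430d8add875527292f392f3107816d2000310ca4d8d27504d303ef8000843253631362973500c500010008000202b80000431178941ba10c622031e7413e20ff80516051815d515d70393038900015b449d24cf38d2fc91dc91b4d19cc6d8c6ccf43d7cfd7d0400016d000021bea5d69259b042004212d87038c038757dc00046f88b3c043b4551455016cf00001bea017e206c240d6568d2c0d2d905b000c562616ce27333266003d589b589727e042d400a5625835c,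
  nat_lit 0x63572f9b2f9558d111fca1d591f98f8563402e400073061636358cf0b609014bde58f7d633874e5e433476347258cd17a4baa4ba9d63301155d8150d858cb0c0975518f6d63281c241c04ef658c9101822201aa965548d28c8ecc8e800056d630562f452f4100001c7c0000051052e489a000006e80008b54ccf48d14186a909000012d514b64037400001c41655c94f000458c358c22c500000001000209680b2800ee00010e880e8d10fc12e0000180f580ec1db03ab26cd328a4dee25e3000500015b5573914c3d37a897880010cad5ce05ce12c9a259b000338442e3c7850000802f00034f6d52356428161328a800098d9d3e992ee87f5c46d00014fbf6228453b0f4000013ef9446c1140aa04fbd5127080107f83d9f634958b752357a8546912d75483d4a61430d62d96d44e605c2e28af58b5117530598f0d62d0220,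
  nat_lit 0x12ad01e8403c40001741d742c1422d4563534ced610e2f431d1461a461a858ec5b74016001504474227422604ec563ad6dc41c942e228b2476361a658ea5b6d234c8428646c4ebd63a4331054413ad58e81554581c4eb9639c0e900000a670ef90ef83dff05d15b68299c8ee8af0c63ac5e400000cb900011b76450f3e303e333f972de92dea32ee32c632c832dc2105210751095ad65b6400004a2c4a105941b704197000008780008d30875f475fd06616d80001240e17a414a904a0000001234bc16f5000a58df5a9000d5637d637837b58dd00480010b34505d43a6000218ad18b001a8000462e463886bb094409405f0a12da01fd003658da5b5c62d4569400d96364439004958dc58d80e94408800b1635c17e2f6f003758d6051431cc00b16354190000206020d6b16500004a324b8703ff000028c723f00e997125713405a805b08d298d996349658,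
  nat_lit 0x2e6a32fb32fc000d590b18b037940025642807725fc0003590901d0b9600019642031638571f1629244adf30ca0000001631956424000c00105060e320e2c3316000029dc0014813481992d012d0578bcbf200045bb851221d0159fe28cc000d6edd448572384f28a3200025bb64c724ad930c438a80004684468403c8864700002049330702b88118aa44a9a42234002163fd6e10ff00ff61161000458fe12508d400ad4002163f44ad02b5000758fc0c68908d63f163ec05c000143b92630262c246f2474456634303106026402675b80000134c13aa989d81b84d2e521c1ec01ec13e032f5900005b7c000166c070996d6cbd6d63559af3b851341134258f71a7131984db163d855702ab075f58f50880a35455b963d03382da8241d58f3013800080bd80bbc16400001ae1297901646b7492f493181c000ac800052bb114a0874087719d502ac000036c40008a284b54ccbe43f7c0abd6de,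
  nat_lit 0x1985091b000011f800045e185e085424543c548454752c64e1043a40085008396e800005ef25ef5596e034839225b9c9300930cd9a4c91c0021649550e25f12e99000f59243e8cbbdc8b740035648c71f0014592459220051648401300065d845d860508c8153a44d9b065ac000004100004eea4e90366b196a19e53ba53a3d3a38dd40dd440035647d6e6323e4f554f545a5b0012591e5b94d52c8a8c0039647478a20a7000f591c0e94b9c8004d646c0ff027e000c591a05640079646964642852db5000259180a188b400039645c17d2e77000b591605ec0028b9d8948c947cb6c47ad1496148500070ce00008d4d84db035a00004c44425b3c223c242815310d0968f0848a380008ae6352e321531b52294000132204b716a788a44000064800025a4b5a49074a07452d7732a05cdb24de24e72ece22975b9000043b750724921092287428741c79650e341b800cbc09c56e300005a495a480ed721ed1cf35b883b70782090d9643964356430f2e,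
  nat_lit 0x3bc03a0f3a0e511b0001021c6c78000000305f500011fcd3a0d3a0c51193ebc0000bc4015701568572461e5db35db72f2f080f033600015bbc09600cc4000007500045945003522cb2e5b0d630d5e03325bb8000c011c97e13ea0033c03296ed000200472dec5d894e5c219400040110cc9ca48caa000000049650164fc0084003164ec4602976000a593a0538004164e964e41a8209d00065938090800101ed9726435a5ebe2803000006ac0001798d798809f2e252c152c19223736bd000859355bb0a7ec4c1c4c10004964d16eb07ae080c000c59330e34826c003164c83090f23000559310748a5bc003564c017d00145930592f047097f4002964b821359f159f20006000036b916f044ac44a4001855600003ebb5f380f220820deccb0e8b0c547852a34c390246c000d6ea2283245d2c665d07458432de091b00025ba42b88245567b167b40004f0a,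
  nat_lit 0x5963004c0008a6103a483a509de074256f9000129861fba1fb52c1e11b40000a61410a403b811b29861af31af11b351b3b516c59605be0357014781470a6a5815d17e5657d6f7123862d04b594d5150645171595e5bd8cde18dbc3610361d3d0d65756f52bff2c014db1595c24d1177ca0d5656c558349c2812595a155d709191d1656422b20952093595805fd3d8945a1655c15e297951685956064d6fd94595655404e19334f82595403b40000013000133bb33bf42de0634077c0778c8749af000045bc341126c30000013c000971ad45e945dd17b58078f910a09022782eac2ee09b0d6f400010c4127cb17d40000556c555440d240f0e210e2224c84458252625293514355222c022c63fd93bc73bc80007594d5bccb3cc260425f9069d2b452b51375537657990cabd920547304970496c002965316f233530284027f5d6c2d8433184ce2135413522f190009594b5bc442b0174c171017157768ce747a78244c0984002565296f01e3a33d7335d004a000e59491304a410be04bda8006d652565200061fe34bf35da6033a00075947312481908184000c47e,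
  nat_lit 0x30cd000c59810c2000716605660017c3109000d597f0834001805117ac346242e46144096f00015bfc000000096ed863c0004091619ec1e1f0ff9096b5bf8000c3b9cea385f5000204391ab0165000057d817d9815e00001e972cee11f0a9000c64000032700012d640d5b5a8f2eb3031656d80000385c388174f47410be0052c052a606e606c000659742ca09e94c1ac001965cc9cd34340023597359720d858e40001d65c429359ab000c59700c100bd0002165bc07d0009000703221f85310226c83a271dec00002694268cfbf0c618c630fbfd6fd306230d44f0254271f93410f486d41f03d2d3a4b14fd05091a663d002d1a0022596d5bf18515850801e400cd65b965b16fb08d408d12d390023596b124939f4d220cdd0008165a83060b2226502a46002259695be85a8c5aa45dc0006d65a08790318300b0015596702e144710c2000796599254107d001e596504380aa80071659026e,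
  nat_lit 0x5e405e3f2dd31e6100053c4c3ca43c907988e9dc001085242571e5c00031524fb107970000808f00303a72000106ad7f697f6000000e9000216841e5a081000001a881a84af84c7008a0d6304bda232d23353e3d33eb33e9384734555f33000859975c0c0e356788002166581d15998599759965995048ca124001d66503022d0d000a599305605ef08f24dd9039b0000034300010e5e0e6217d40000a57876b815d196321ac21ad5df03119001159905c08d8a0ca6ca5dc1a6c0035663d70128380a650a6825c9000b598e5c013ac5961ccea000296634b9026bd297e297c0007598c0f44b648c44c0031662cef51db00005598a0aa4002d662966240145988004c000c20c08f5422202fd59c4001759870954c8680cb000416618339297402d9001559854d3c20c000216610309339c00125983059c0cb000316608286,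
  nat_lit 0x3a8b000a59bc0e9418d8001166ec30901db000b59ba052c1520001966e41a3001559b959b806456870000966dc17c00005c874fc94f34370f5c2c866079f0000002500042e231e476120611d06ea5a463b131e7b5c28000c48806b5c5728573c575170900021bb5435861971e9c1da85c2000044878031c031909e4ea097070000004c6ec8c290007966c566c0fbf01cc02ca000c59af065c005566bd66b81fe308531115e70546b4d3332cd2f3a009e0098329e33cf4760141d1420000000085c18001cc21036a036b0d90cf1e0f1d90850d6ecd6e590d8deb170500fa00010006308359c00260431403d800001ba00005e4f25292dfd0f2e0f3500f85c10c21176e800040f24fe8307f0002000162a102280000d51803e439349941be72df95e445e48000759a64365792979500049669425559c0015f001159a4074c0af4003d668c14b1a95000a59a20a14006166896684183003f000b59a005ec0030000c79c879ccb7e40cb00ce05b8,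
  nat_lit 0x18e0190000a000659d906885d880075676967601b032272680001459d705e1675801336800aed000501f800ec2bb400100b20cad44b45a4b05a65d7152045c9a212d07d107d400025c40002441544168000441b0851084e08ac00000680001021888a048a1cbf4d82a9566d9a258fd170f00030863062f062e0aec5c38000821940604061436300015a7e0088008522e000000e2001b800f101c08590b0d5ab751bf59cc01041a9847c9672ca495ea54ddb59ca0414781032603268bc7178d50ebc000d70d1546233e4283000221593ec90eb000040f3430042fe000003c000003da4203c203970a871a90c6970c1e90001159c659c5005400556715671001459c3004c000450757ffd80004d7169a0671000000480dc80dc01b3c00081710002385b3b5145194c4a4d4400045cb45c9402f002ec0ee000038581e4b1aece168ea7c003d66f53b6,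
  nat_lit 0x324d324b02f202f65a3302e438865c64d8388dc48da44e344e30a334000571800015f863558355730531a840000bf2cbf090365f843d0534bc34c14b8540d440d1371b37171c7b1c791fcf2f533ce72f7b00025c5d8aa121d0ed7cf348f364be3579a17998000571634466280464f618f2f7a00005c540008414c62d420442038bde8659000101bb01b630ca0ae0000001201a701a61bf5000e59ed0e0897c4af90001167b021f35b63ecc000b59eb274822cc001d67a8328001159ea59e90bfc0488000d67a01b202e902ec09292d341a1a012300025c509e34049000045495b5201260000064c000059bcd3146724048d71316701f91000959e40e8022b87e280021678c1cf5d19000459e205045fa4002967841af3ec2000459e006fc00756781677c2170001160e376c4d93215238bc95e97944d150d148d29d0d98000571216121c171c1c00000180000481448154301000000fc0101303c81391298d5c084688488c1e128b400596769711,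
  nat_lit 0x1855001d5a1304e0d9496855684818100032895289105780000e4d8ef1c6bb814822a722af5e76661a54985e5f2d042d0739df39e15a105c90ef4c7c7829fc2a003e40b2582d242d21683d7233f864d88329f5f0a521f5a0e240cde60f4e0f4e54d3594d568357223ad64eb152c252c1521d5a0c2404f22195814ae5462d93e9682c68f29bc29c05ce10b420b435a0a5c8400040d205098d4c41ca1b6a1b6716e416dc3e3355a6561e55a845b226c800035c800d0801bc018ce0442710270cc6194bd96d8c4164000971f0c315b09170c171226cb00015c782ae02aec2af02b104734000072b00010556183b17905cb2539e3ee308022d89104e10565c740000155030c43bfc341055532495ef452125a03010466a81ae41aec368168095014c0432475ef252105a01034098b98f35680002d0003002017fa64a401a0019e2613643864394f3c030a5c70000800849aad2964881573611374d25cd23d71b5bff3e865d3925b525e15e6754842a0659fe5c6986b5589d868967f47e659fd001342ef59fc0801876187550bbd67ec1ff17ef25bb345659fa0bdd8685867967e41ee2b8c345459f806240000012,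
  nat_lit 0x91000095a300828b380001168bc30800145a2f5a2e05f0aa900004001063600042ccf1de6110e111913bc13cb5ca0000cb338860c2fbcb338e6600012f0d2cf52cf15f9b0ee60ee15c9c0000bc2cd0c02c32929292643a920a920a6000f5a295c98bff85814002568a05f70907084300065a27227c915c9144003d689812c043400035a2501c05d9c002d689007600105a245a2304ac37b56d1c1448144c111000004f5000018eb1d58050d05120443209063a84c6c000c05d43245bef000002c8000c540c8c845434147000214fe0284028726180004448c4494141308300020000077453ec5d28c1000015686d72500245a1b5a1a0914c174000d68642850d3600015a1809257ec80009685c161000310976188618a0a6800097304c0fc16700011852365405802ea8bd710e59592d87d0006d685155b,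
  nat_lit 0x225cc3412340f50154aa728400004cefca2886fac5dc0000004c9734973d7bbd7bb47a4c004400300025692d72e510b460d000a5a4a0210d304d2f4003969246752f5000105a480a4c1878000d691c0762005000f5a460c105780003d69141f914031eaf1eb10003005480180f940f98fd88bef000053e102001be727b7440b5665566b566c47e54766602b11713cb01dac1db0000200082abd5cb4001d1631367911f519fd5a919c9d9c958ae40004000972c000647016041360e3eab5b800f1a581c00150540fd8876a076a86240004480847da62762158000cf320ee94068000242754270023c00049144912010d000032c3280f12a58c45201984256d7c001968e972b01ff068713100def00055a395ca8bd00d164e4b0001d68e123100125a385a3707cc572c000d68d81745a35004800000008fdf0d4fd1395138939fcbf480cf572900012fab626a55475fa00deb1a3457102f28004168cd34f2f1700095a3203fd0ea8003168c4167,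
  nat_lit 0x431352625a6b04140014a9b086600dd0d955ec55ec800050002152c0c1a0c180def5ccc000454aca28012e00001523249a06e854a8008969a1699c1082c1b5d3b00125a6621c4d1b8004169941412f61000e5a640430bf300029698c1c12657000b5a621868c630002569841c850e000065a6007c051f80031697c1c6346d00025a5e066458a80009697412600062374280e177c000cc618d98c227422717321627289050d9000026c40000bfbcce240742ff04d534ca54ca42f07062e00125a595cc57c84acac2a2c2a30002569617302648457c2f07062c00105a5734e045ad6f1cd50400316958fb544af4e345114000b5a5502945fe45fe8003d69501ad147233c400085a530d580045694d694812e161c00045a5104c8000009ac09d00a060e6508f283b071807191fc300005cbc000c97343b343b24946494816c5,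
  nat_lit 0xcd9510c5a8809716a1c01300014edc326f3270058d058b5cec00013b75149c0834edf505f50705a8500a853205318f6716a102b232a25f75529b5a8304b0555c55416a084b914be4ebd5a810c1133ed4a556a001ec2ea04ce45a7f0094001d02608e9c12e00000299028f04df1be83e765ce80be86c506c48da2800000960001254b1b131b11368935e00000300c17bc884254925523ada262e262d39621d201d2138de43b8560f414c5200659c52725a7a5ce490bc90c915813d74f394f1105cc45ce1324d337569e573841e9051305113aa63aa03c062c8d2c963d7b3d835a785cdd023c09d009bc5becfbf42e596db949d969dd7363e99602537103689368664a24f6e50605a765cd581212bf92be4e80ce80969d52fd5e055127512839ff39fe5a7436e981192bf0de80de68e7f569cd09e0004004c00116a0c03556fa81cf000300c806120564000803187e381a3000100c75a9e0924000002f4311816d00be38be38bc300d300f4ea75a6d5cd05cc05ca93215333d69b0446,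
  nat_lit 0x2120b52000998000459345e781db00000c4c0c52047d7705912cdbccdba0db9d3a516a8d7465c77653e44984cc04d0a52ba5aa25d1403b912789a889a916a840da41b1449d26a126a35aa0021d7ee14a596a7c10500051f083d96090c000408a008796f30694831f50710000004c0898089494c094b44c3400000fd00001a4516c71629143b130a5d117321731468e137013708c0d0c0c800356a697431f02613110d610db50f2000b5a995d092cd15af59d75101800316a61741442831b11ee10f7900075a97365588f95b2188ec00316a59740368f6029511b5a965a9506d023842368002d6a5083a5ed343650000192400200132f8c0f410f450f78000138bc2dcc2dec3d103ddc000173f0002626c626e3c8f249d249e13914d015bd65cf80004c098c0a195497bac435d5d20000277b1ad825df25e350e75cf4c0906b646b81102081e16a3573c43f96261380651105a8c137573e534f595056a2c5e62ef65cfe1d1f5a8a039c00c56a3400b16a2411b,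
  nat_lit 0x2b70268e000206bcbd109ae09b00000018d00025d7145b72146213f1b871b7e3d9b516d557336ab5d3c00047fe87fe4ace8ab449a1974e000020286062472d390f1d705d347fe07fc4806c7ca000a16afd74c269726904f5600295abe1b2061cc61d87658009d6af54040df21f2400255abc12710e68009d6aec1383068001d5aba0134dc6400796ae40fe00275abb5ab80c7c0014013604466f555645f3b00015d2c0728071800003730001180218060be70bf03036283800007784617830115371d41618c568261ad00025d28826cbeccbedcc03c000478d24ec300e000008d00000dc34d910d80191f8ea3470547058d3c977549454c035749370e377b55605f3b28c95e2c4605525b525d28da28de2d1c3faf50af51815aaf5d217215952d129140f5945546016ab974733e033e16514517f5aad2ef97f154a916ab05a130604c4b5aab038000180130001004cc9347ae47b0c7ac47ab00008a9210a63b9e471552020001299d722948000000078,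
  nat_lit 0x31c8000a5ae1047c9f6400296b8010b000a1d472586321835f812633343172800200120000156463f363f54e205d1719c1152c5c9c5d445b505b4c3544000829c27230d51000101d80008755575448ac01f04044000160042aec0d4a12fc00000aec0ad41ba117911765ad95ad82aacc71d0e9800356b5c1c927d036d500045ad61080c784002d6b5412243bd00085ad4052834a99639580981b000054653166316b36d30000006c0000b42445b445c16d10154d75017af17a72291228f25815ad15cc000f11ce193b111e96b40a4830e51daa1da944775acf29d49a593879223111e16b38e2a0d3464394c4844775acd02950ee06214620cfdb96b30cdb00374f6662c05acb086cdaa8d55cd5616b281b509162ada35785ac912fcc63111d56b200ae36c344735ac706e8001801300005e133f5c64dc36a129a8000c001c61ec61e9927910bc00245b7,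
  nat_lit 0x497840be40bb359b359d4e7141425aff5d5d6bfc003d04f56bf829a153d413d5afd01b80040012441000000005284c00181b281b489f990f2008a000d00002c9e181918202a9d5d58b26cbbf94ab07d6c7d4000097555f2f44c000010ed43fe9711c64f8003d6bdc0005452d754000040a221c032c486b992b5376c7fa173485abcc4cc00356bd575306c4018a000d5af4049197a400816bd16bcc15231fd001e5af35af227383c8000316bc41c11600000c5af006687e1c00316bbc2b3005e000c5aee0718bc3c00316bb411f2eb4000c5aec0498002c012000800561a9c13c3258a6208679763623850384f2c0d5d4800096c2005a00b20000192f5c380fe40fe11a84c4945a845a50f7bc1f5000356ba06ae017b1f24000f5ae7054d4ae4c7c800456b98147272900095ae507045b70001d6b9019a0d5d00095ae307c000616b8d6b881bf,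
  nat_lit 0x14ce84cea21ad01175d8000013399763002f31bb5fd2654d4bfe4bfa5dc400175b1b5d7c28ec9f94af449ffc9fec003d6c6975e002e5b1c5b1d00135b1909a075a5975000356c600ea41565b195b185b170a50307800256c5810e00175b165b1500516c500130005000a00fe2dc90003033400005a285a4197001ebd75d1689168f65bf00000fdc03103f800000000d75819b048810baf87b2d96f575c00025d5f33c86027560160361edc1708000439d039bc14120352d5165c9000202e04eb44ef0000425c0000004c000091598c515d719f6ce24175b28de191f1d5f4cf3000a5b0a5d6803e032c800196c249565f365f3500075b0814e0552400296c1c14b5b0900085b060770bc0800116c142861f935b055b040a440014008c00f000cc1ea20d2195500000208000801300003cb322a416f516fa187f1490148e170c5d65921cfcdc9e089e00b1490c1d9eb11f1d282589716c01758,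
  nat_lit 0x4487630b00030444000801300000048000c45a8afccaf892da97548d02000211692bf0630863070dc40004459597bd46c8d560000116c12d90e2c4594730872ecc8e8851485256cd176700145b340013002600305b332491801958197ff85ac0851d6cc97661576002c002e5b3100413a98bd2d6cc00750d900d935b2f07346e6c6e5400201ba000400480010aea9173cc6d8c6d576e879311a100032ba73b513b4f54bf1f0331de5ad400084040403823000012f2b51de0480000040e840c03cd5f58504300000bfc00101b7455798b199fc55dbd1229121d76500035bb6423746131f5400081b681f00c8b4afc000106d70022045400001b70b72807306da1b0c30cc401d524919fb0ada0add315f00075b225d9027e827d42a2c1a1c00056c846d527f9446528f600175b215b205d8c04d004c4ce59864827e427f0047400097620bd30115000101f80008d828e528545435a435bd761,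
  nat_lit 0x513b513a67295e8b000b5b5814d09170d9d0e66d95e4002d6d5cd5750550ed000045b562b89341c001d6d5411600145b555b540dcc2c8838fce6f54cac00084531c6952be664c00011c7c3b314ca94ca40000178000529cb29d3530a5320667266735db80010667d0470549000351cd4625188c00094ca120143ff000139ad25cc017400013a8124540ed00165b4c5b4b0b18293c00296d2831d5b490144000845f446097d4957019dc558157f74c42994416f3018f11efcd710d70900149cb176d0001183250bf50c365b02b2a34745c930fce256b5e6e5e6c0b222a33506a50685db000003659719436994744e3415e45124176b0000000404bc5baa00045da8000c1380580c5810d94193c094009411384919ed19fc9ab11064c8f4c8ec60bd76900025bab04f004ee04cc0004138cc75cc76c356000004e3115f116b0c0c137112a0951890e090fc003d6d0576809280925000b5b4024d10f3800116cfc13e27175b3f5b3e08650ef4000d6cf405d197e00035b3c12d40000a42d39e19828b3b180bd80ad6b9,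
  nat_lit 0x3658747fa0b1000091b451b4805500014f931e2a03c400013edd957c2434fb053965b720c7400116dc96dc46d45b700144002063e0af54243000718f815a5253c5b085adc7a7800009e60002196c26951eb10b120b161ff01ff91d001696168c5dc8000465d82e9c2e98484996bd5f855d7d89b4e9e000019750ba60baa0bc40bbf5ac865ac873cd0f0edccedeca04057e457c510f47e108c9d6da97711b7236f551b64e7b653d5b694f850151015d1a0d1ae96da05bc18f20289028d23245b672380dd908cbc8c888c8d6d98d6d65765cf9134266a35b65024186b15b799a8d6d908df344c3bbe468e5b630a2cc59d2025957d6d888de15942d954b965b610985748939256d80a8a13180053000602800000beb524d83d32faa368c1d9d1d9921de00011510001064b864d4c598f88897f577000035144529c4f02604c21db5dbc0009450d3a448ad83e40001513f2002303c000144fd7c302c6,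
  nat_lit 0x57a057500040abc1b74776400000f00004266750406054324e60b64a80000c353c354854e8351d77900022289298801a0000495d0291822000002114211c064c99953ce98fe81840183800e96e35778481946855e5d219700315b8c34c8530c1558155c00c56e2c223371f0bcc5c8400335b8a59987a1d1a5c8b9c00c56e2445610413a7f00355b880c1535b1422800d16e1c0532022202a00345b860d096e1401300021ac23dbe1ad5106c0008000104400f0411421cc6074566b5154660d22822f4822865e634ecf4d584de44c1f64c566c35b835ddc6b047130cad0cad936451f98b6f8b6ed92b12ee56e097765ef2559f678767844f505b813d5185395b455b4559f14e316e00c4919bf19c164ad000207fcb744b75544d0e0540000702000b4fc253ae55af53fb6140381f5dd400293e8536999474521452110f0577400094fbe54c94e914e9065b849555dcc00213ef11b1d1b1903c503cd04000073f583f5c2b4b28f70cdc001853ec1320556000518ed18f103c800113edceee0483,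
  nat_lit 0x2a0b355164f44c3e4c5c5bb15d983424342145b131696ec062c25cf25cc3e615baf13b0da2d035d6eb835c08b708bd5bad016587814f516eb000e5bb066ef5bab0c5800289e6598282460000510f17bf17c12aae2aaa06ff5e01983544294425981800000d00001613956d850fe66044b7400006b886b840ae2d2d673428844f8e4127412a669e44fd6386687a496a563a67c466d54c4d5ba65dfc7d806640664535f1312531099a90e8a4e8a931316e9577e1d113402473c47963493348d40c262a462a540cc5ba45df4855d19093a494f2d9b996e8cdba1a3c1a3b1a3b1a3d43da5ba2231d85cd1ddd1dc93dbd9b916e84c50278f073107333fe54c495ba05df0b4283d383d35456d31216e7d77b00012fd1204a096d1b193da1211d918000496e7977a037a037b000c5b9d055486b4c11c00496e705f01bda0a58000c5b9b041c99d000356e6815c266d00075b990c246f24003d6e601dc2bd8000d5b970514e91400416e5817d11b700015b9505b800f96e556e50161,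
  nat_lit 0x27171d951c1200375bcf0eb4dcb07b50700c00e56f38ef61def1df0003c5bcd006c3ddcb3b400e56f303422bbe003b5bcf5bcb0684701c00c96f282a900465bcd5bc900516f20013393e393b000111f8e884e874000013200001a9139cb1875186b5e0c6a5072584aac4a9c98dd1f156f14d3c33e21c961c9d4d464f53471c5bc41f60a7e8a7e0a7d4008d6f156f0ce8e61d4572f53eb5bc211218a39117d4fa96f0448e46f267055bc0079d318d94196efc10c396439665bbe0874f9ccf9c16ef41d8355140e65bbc06bd1de5319d6eec199473d4c655bba04980e8c0e8400105585c4a1db6000318d91ea94c70000815e3b1f4eae000106ac0004e0004af44ae456200003808530e0e2ce00197ed430d1d551d51317d6ed1782479c4fde60be00095bb45bb35e05118cfa4cf9acf9a0f9916ec90e9,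
  nat_lit 0x21db810a0096c000007857ee000000004e120d3c0d3600155beb095470bc015000356fa825a0c400c4100135be90e64432000256fa019226a200095be70d893a8400396f982dc2a095be65be5060c4260002d6f9020d321400095be3084c433000340014012912d97890003333033b446c5652445a35cb15e20000442fccc643d300000e8b0e8611f174ed382121d50ae8ef00a7f96f7d787332b160e160d2dbf2dc22a055bde5e196f780040a8096f7406041b2431129ff5bdc0bd041cceeeca7e96f6c1ca397b398029fd5bda0724cc559cd4a7e96f642604e9329f65bd80160db58a7d16f5c07322f929f25bd60610d37ca7e56f5414a00030a6e37100574000490ac235d722d51ecf0157850000242b2ec008a090a11b588cf88cf039e039dd93dc01016f488a904d904d40c2a059e059c00405bd15e11217801200108b02400e56f4159b,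
  nat_lit 0x28e500020000155cb108c8cc8f888f6cd5480001795000360f436da4f51533d525d39de39e5361061674dfb354c5e500014000983ccdb740000446000160f236dc0864085f5e4c0000cd4cd57c35a3278327c11a5103f103516d705eb02d502ce16c426bb230726e34c19652c00105c055e48a800a7d04e3c4e200ab00031701179112bb205602ad000b5c0309a9311d7f74003d700830532ea2def000e5c013e8c43100061700570007690a19000f5bff09ad6ff80130007369b37ef155800189f6c9f500640000217d217805788520654c29dc7a3c7a2800057900002331c0ae30ae7074e5c9265f1678e550c327025165e3c000513a97704575875084f6c4f7cafa04f4178e000044e95dc015d8327e029c5e3416b0111c112831ec27d427d92928fd30fd1c00456fdd78c616a4c804c8247b126b3000f5bf65e2d7c2476fc002d6fd447f242d10b9000b5bf40bd0b78442a0003d6fcc1693f2e000c5bf2107842c800216fc4122000f5bf15bf00610b23400116fbc14a00061f571f5b11f0001175243c783ca042a4df9d78a,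
  nat_lit 0x5c29000e12dc5c280a80698834ac34b5709c2080c3e218e5c2601c814448249709432c0031002f00010e8d73240b34000033800005c3200e701540153263803508add7c753154de78ac6cac354528000579936c7684d514e5147000006a400002a642a451a7191ed45257980b8e0b901eef32cf000c5c1f5e5c201881cc82040049707862c0b00122700055c1d07a5781800157070299051d000e5c1b01d00061706d70681cc24f300095c1907a03478002570602bf000630da64124dc13737158e33f00014c36894b113dc487000430dc3b17096c000cc370e0ac0b2128c128e26d9200133b3000d5c145e58cafc78fc78f185640029704cac61f420a4000135c12280cc354cd64003170449561a8a0a3f00115c10055085940015703c3625278000a5c0e0b70145c0035703417d001c5c0d5c0c0470d5900029702c213,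
  nat_lit 0x44d2156cf67e15dca00b000081e1c3e144e500000a2b20b60e3b0e4246a94822395a395756675fb95e8c289c81a8bc90bc98d12c0e180d1c0d09732026402614bb10bb582b9c0049710d7a207813694369056f160a8000d5c425e853470afb4f830002571057a03eab50b7344900095c402148006d710170fc22b0c4900085c3e06508ba8000170f44b500000048001574f48b903400003344347463a782fcc2fd23a523f723c9e3ca14ff73f535e7c0008de357d6c12e0000675c4765476d589b64372ce52cdd5e78f80849d4336818912b30002d70e07da31b1314f000c5c370bf4310837b8002970d8b09067b0a7b000e5c355e7434ed70d570d01180c59000c5c3308c170d4002970c819a0ad8000b5c3104809588001970c01c55f783145000400c833405e814298c500000c0000640cc655028664248754876000000b0000c5f749754e060e06ccce8cd014b114b156201603128bd28cd63d963c1a4fd2b1179c00025df415c215c9169a3c8a466d28c22e5566ab20d320c72107109910960de35e6c000577cc571ce43ce4209af57db958ada06d51bd1cd8c4f179a00000293028802901a82151b1c540a480a549fd49fd0824170a44f5,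
  nat_lit 0x345d92b41143f142f4b8c0008bd5181bd4130902c0a5000145ce3c960d685bd49f40b454fee4feeda27d5ccd842c9ae883d4002171817a90cf50cf71b351b332c470b9f00085c5f5ea00914092083d8001971784d200125c5e5c5d06a01834001d717024200040ba619301933032d3ef8000c2e709ae835a000120f148a64af10a24000083c4a97422920ee2101000e5c580d042e6cd1640039715c25a258b000f5c5606497348002971540ff00165c555c540a18c828002d714c17d0eda00045c5205b8070000097144213000527b24fa70190000001301bc225a358e35900b4e0b5000015e9c5a7c5a84000015b0000070408a863695855636e4ef8f234f24cf2448bc48be8003d71317a632ca610f630600115c4c5c4b5e950a8cdd28dd1ceae8003571297a43448550109f509f600095c4919d0c7f83e18000d7120bd6000e5c485c4706c80014bfacbfb4bddc4a75123,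
  nat_lit 0x4c5ee4c69183a04210000d71fd7b01dd71dd20a4a00115c7f5c7e42881c6c1c546dc841bc000571f57af5edc5edd00015c7c2f5800049668c52041fc3b70000259a1e4d1ccc1cc89114005571ec0078000097c000313d32d7e3b60354735464cc73cbd5eb800084f3ca3f073cc16217ad000113ce345a0fa10fa72e6000004f40b5e4e53c4bf13cc34532ebf000d5c751a442f90002971d0549131f000a5c73155c005d71cd71c817f066b00045c71086441c8002971c019303ab00035c6f03a4591c1984000407700054cb854a66188084a3133276a276e550753a8527924bf24c541d110940a3a5eb0001196a8b0b8b0bd514c0d9572b80d197ab00034cb6243e0d682bf4bad0000800044c511ab2503250229052e4d283900055c6a5ea84c54a40d57c8926850cc001971a46f42683268200095c680f9c90580015719c3a5000f5c675c6605f890e4001d719419028340ce80ceb31f2000002540010ad1553f503b0c7ccac7,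
  nat_lit 0x135c9e5c9d03c092fc00097270314180c00065c9b090c0000e3bc3fb02a8000600480b200b28a65514fd14cc00057b3000511d32a3d2a41054c001042884284118000311cc24b50cf4000847306028470000111cd3966048000004734e3a847411cf159c5e5455be1b8b00095c925ec80035724972440630003274a67515d31106c000833541c541c2ce88000053bd5f96002c22e08200688c68706834685037783770b228aea4aea8004172397b1224122422fa42f9e1cd600115c8d55a9893d894c5d8c5d680039723160f26c52bc2000d5c8b1030c7ac001972280a01b8300085c8904dc18f8002172200fe5c895c885c87090d79500025721822c1c971c950004048400012b8177243e5599cc0e34adf5dc80f94127b000116f010ac8f54000001d00021ddd1de337fa01f0000441f841dc7eb,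
  nat_lit 0x5cba004c00186640662c1420000020f02150668bc5c91e483157dd954cd5135514486d9a6cd6501948800057be042309f800000730000196fd9715742410708d0140f387963d458ae697a4aa758b264bc4652491032fc00095cb55ef4dbcce4bccbf0002172d0d543939393a617500075cb35ef17d54adf8cbec001972c97bb0ad10ad3478000065cb11128cd4850ac000572c0ae200115cb05caf0dcd79484ff8000802f060e06fe06fd46712c440bda0bdd167b16800c3f00005ee80014ee946bb86bbc200020097b900043b8a490345b732f35ee0000cee8cee911dc84080002290427121bcc00047e5c7e600a000003b8747931f20004972a1729c81b5ca6014400085f4c5f2462a0fb248cf0ca5c803880417b700001af515d7159415955ed886791ae4a449809c5474000514f17d917ee152100000a88000450f459b887ac4a504a39296000011eb11f101a80990415041410a290a2c9c2c9c38aafda0b19a44003d72817b55ee51bbb1bb937a05015288d288b5e070cc50cc000075c9f5ed11e2cf220ee60ee5400217279304,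
  nat_lit 0x23da04650462286b3bf900105cd85f181ea81e9199bd3e3c752c0031735d7c51928629b629e14bf00095cd65f101fe0003d7354473177600065cd40f4c004d7351734c15d1bcd00085cd2013874c4000973444b5000a5d765585558356171a641a6b5f0c000d73400045899948a889a08500002004800106f04433c434443607e4ca27491d109357c2000317eb17f022d31cdf14c0201000097c497cd57cd88de00011bc05f3c5f370d9c00000121bbf044000135cca5cc90adc7aa4001173202672490000a5cc7056c1f7c0029731810f0007004c0f7c0c90000c0f200032817280e06760670156825bf1b5f1b5a26011ea45f04000987f987e4d63507dc690869106960aadd7c0000130ce2ac25347191d187d34900000b3558a3516b516b00c98aeb0e3f0e3d2ad22acb000b5cc05efc0f400f1c003d72fc4dc1b243361000e5cbe006c635810c0001972f52542f1c00045cbc0aa57440001172ec26e,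
  nat_lit 0x10b87600b177c00002e3507243d35de2687d4835260025ff42265cf45e1c1ddc1ded9cb09549803950b173cd7ce0011006a006c5cf211f51abd902d088d73c41ca496c55bc67f55cf009809c2598d573bc1155fd0540d5cee0168880d50a573b41583e924f5d5cec101800117c5d59897c506940a8105c517cd000061bc61ba01d0cdc18d258d1c932400115310eb80265026818ad000310bd2ee597d02424241000088791a6224c500010aa400000130003005c005d008a014c00081d9c1dcca28cbbb0001166f334422de5f30000001307a307ac4f103c62014a0141082b2292228e1a155f050c27071e5d73070200035ce15f2ceaf89400941400257381391192d00095cdf027c0039737d737806717b9616d52255227156412cf12d7000100031e7500035f28000cf2d91040ea3cea386e246e0c0d197c9000239b62692269533561b625f200004ef040d840d7444000003cb73ffa01a8f2cda0b8bec583a93a693a6157a8c18c752c003973657c7,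
  nat_lit 0x87a39550f34067c06843ba439cd7905551974497d225c22f212f1a3e2d3e2c55385d114c6461a0c29400317445744004530a530a4000b00085d0f03e0c290c28c0029743d74380442f8d4fd65d0d018d836154c5743002d0004554937021f711f7649c64bcc49cd55b05657459f63f841135898634328f55f44edc0edc9613560596055a5b15529742d2722f8222322a9960dd691455475d0a5f4189295568b184b1795511742573000cf1ee31ee466f5552d5d0853a955108f999bf55511741ca4860d25151533d55435d063ed428502828dbed550974151e44bbe4bb349a74fcc5d04336ce9c9589d54a5740c21b2b1b689a55355d020dd494c5032d9ff57404a343f8d3f98553f5d0000cc001034d834c410d0000004c20b576a4806424ac24a8adf0ade5366453545344003d73f97cf5da9528c00105cfd0955772459fc004173f0e420b9500075cfb06486a60003173e816723aa000a5cf90b7150d173e573e0183222800075cf705ec5c7d7b689460947400000ce,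
  nat_lit 0x125600075d300835952566899494000867500030b641f6c1b131f6b109c10a04be000082d8c7d946f4c6f440d100010b6004be04c3121c0000059805cc12e0b601f6238d538d80567056005530e1e087400315d2b5f6804d804bccfd1882c00c974a97d9124e0e920e8f00355d2921788b146b1c00c574a030f3803380400325d2729dc00e574a974982e810d8002d5d2508780020013000600480004308d787d787830713510000168f168e0d446fcd7da9493143c551c556658414b6f18d94f2612f0574857d842b42d9c2d9f41b932c032be3efa52285226552a5d205f5d82bd5a9d36accbe0cbf15c55a4855579747d7d665c56a3958385834555f5d1e150c303043c179f53f993f9d7474a2e1e661e6a1e723d90555d5d1c26b400200120006004c5bc45bbc0e580e54894c000d7d5134c351e475314bf126e00005f5000142218995449cd7d30004088462f10710000c2210cebc36a00020887362516fc000421f05be411f,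
  nat_lit 0xb004c00040eb40e84d050e7480df00deccf54973497489d345c9c1bac1b9928918d397e00fa065004b426a4b6a6a67c800015f7c131021c421c089ed4ad000006840002128c038c038667be2194000449f849fcf330128000000484a1ca7554b98c60cc61c00017de5da16065257839a7525150d5300e30002fff4f821b8761db2d96340d000100085f7400106a506a641c400033136340d06bc0008c4cc444812000013133319607dc0000c4d4e6543cd1430143327aa27a81ada30ab5d415f70bf1140259c9d53f9750004149e75008672654fd5d3f0100a99d40f974f809f1dfa36895d3d0414000c486848740ae00011bef1bed226f134e1350135e303f09e509e309c009be5f6c991c6f806f7c00340054003574ec55c316446c800145d3a10e4058c0590003974e4377192700435d395d380ce4b7f0b7ec004574dc39910ec00115d3606486f70002d74d436223f3000c5d34059ce630000d74cc20a003a5d335d320a18e038002974c417d,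
  nat_lit 0x29482735000c5d6c5f94a57ca258003975ad34f00195d6b5d6a05f80b7c002175a41dc28f800085d6818597de00021759c17d279700085d6605b800085b48ead478c056b1229000116d51e9b240160df5f9000005b4152cd58498138bfd0b2d19ca0774077832412b6366ac000f5d635f8c606c615c1c801c7c002d7588b1002dd3347000b5d610a8054f0641c003d75801fc00295d605d5f099c9e28000d75783662889000c5d5d0569a0fceb440030000000100a7312b1d853131312b000326b8059005acd2b800080332b3d34ab000104b9a0e5896c00001320000118d193f2056299d3451473a383c34ac5f883c703c50e6b5a5a9835c9c7871ec71e14b140071755d7e146ad39b100245d560b60610860d8007d7554e261b6b127c00255d541d10904c0081754c3021fa0001c5d52071c0099754d7544184317600175d500e700034012,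
  nat_lit 0x5d8901440034013000663a5411c0434000071445bd8009800912b51c5425ab4993470f0e350e3a2e904645146214640f420f3a60d7699355ac5d865fa8eb5d535d7fd076280de00df4a52ca548c8c498817db05d10d8898b0d434576157e92be33c6a3d553d5666886ab24c1456e7427442755d845fa056b52624e4d0e4cd8d84e79518c44dbc4dad54c9760d7e7667f5a495a495a45667045b848d855a85d823780ee554a6da67139fd39f976044ca21563a5f4e674e6a4e7d5d8031e4ff7545655190e9a4e9a175fca271f1667b362b5360b51145d7e2e590440f7b0f5b0e994e99975f542328c64117439d439a68e05d7c20bc74d19ee5a11551d5a37d75ecd5d0006041d041e076c001417a4b20046e06c6335c38b539be00115d792cb548d952f003f4002575e05f616b71221122700095d7729fc9f14001575d855817fa00035d7518d81790002575d013e00105d745d73062c1b08001975c815e000117e05f6601a000003674368c08f540a350c121a121f0001167803d89e4948b0ce78000009200012f972fab2fa7671f373d24ce24ca5f98000094810d48946094505c20c70,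
  nat_lit 0x11da30c060c0b1ae70348078007847e454e6d4e89a17547fda564ec88c710b74c00097ed1fe0647f1af71af00001024c2b9c2bb4000012e0003286f287d2de30d2000087730771c6de0a780001013301360454613c00340025768089a6105286000055d9f0bc80129767d76781a4000030dc5f2a009000924aa362775068c368788c6310638c9c915df5823000057ec390a334a292a292922fb00003ce40000a16ca1688d14b8962442de362fe1c4b006c5da05d9a5fad9eb1445cec4c0139766444939e000405d98152400300129765c13e00365d9b5d960578caa40105765413d325432ca2857000104641e601e4400002e300071fe6477e09970738073b2850318c00187f8cc33456517d4c2f150280005603660b2265626571224001025e825d025a916100031fe13d4e177c000825cc869c55400010500050505780000306c30845ed00235d8d5d8b0f245b2c00517628287,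
  nat_lit 0x112e5394c0c648c5c8a88783815540069770d7f10f9a00115dc45dc2061804240049770410e00205dc25dc0046976fc013000161c261c4152400008ecc1c5c3ff23b0168d00000c9c000922b539d947c99fe85a34e8b0001294347ff2a932a9926b8000122b53b851e7c4d6280625df25e35db900a8a83ceb14eba576e029a5e475e4607045db70a3c017c9fad76d817a0431365b5db501d8c005271976d028a2fe855db5db307b147c5a46976c80250f8c00035db216fc000003e872ec3ce00f1236e612357dd6194113f00005fc0000cb768da64ad40dd7428e028f57ef0002235411f511fc0f680004b6f5849c0ae52ef2e8106a3069d1feb00075dac5fb89340932c002176ac38d5e1400095daa05f85064002576a41dd00125da95da8064477480021769c17d,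
  nat_lit 0x28572856252a00125de12178a1a0a1d0003d778080700135de05ddf0ba0327c002977781b309f500045ddd06c8631c634c001032c09c236ee36ec09f10002292c28057aa00004554252109ec000006ac00086bc8eb4802a802c427b57f700011af21f1d11ee11f33f5c00000131aed34292091000d5dd65fd89594825000317754a034357264b000c5dd439097a3400397751774c46b2a3600075dd2077494bc0015774430800105dd15dd005f094640015773c20d000501e15df601ef673e24af68c82e8626455fd4000c01211ba11c6252c000008240000a89c948c3012a2b2fc72fa330cb60ca23eb60fa2941085900045dcb5fd077dc0095772d77283611ba300095dc9080498d8001177202a8000267b72bf92c0060392edc000023b18ec4a84ca831421c2f682f7421617f3074a5e5c13083276395500015fc99ed0afd8aff44f58000009e,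
  nat_lit 0x700045dfe09100000d8a90fb016b02a03628439220fc0589058700005ff8000432d001ec01c462d103e837b837c57fd00000cb20fe201ce175c32c43f7c333c334089e0003577e97fc5480547840f763ba0fc1000e5df92aa09c60001177e05575ee200065df708ac0710000d77d83d30cb05df65df505741fe0001177d013a38ee2b8b0001155c000c1f9c7cec92d54281428d6079858d0a3000207dc628a58b6539141cc00041f9c8cdc8c891f200005e935e9502b81f80091c08fc0a10311431109bfc1f3019ac19b577bd7fb07f428b728650cab5dee0b9cb868c98832b177b4198001b5ded000e5dec0cb83eac32a577ac072049706685dea01bc003048a4fcb463c00070048001401300003c6012001201185500b0ae784b984b90cb10a2f0a300518c831800017fa00013999399733261077108620c720c55fe400014d954de001cc2f204b404b63249603909f8000a5de35fe17e40835c837c94b0004d778914f,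
  nat_lit 0xefe4ee85e1b02e57868051000815cb15d4091872e011e811e4381c00098080001004c00106da46d7c5b59807000323360e090f3835297d443c2882c95481816800006ec000032c91b9a0bd8856069342b51172d1718edb4b81c8828880c778c7788b684b66141ec0019784d806233568942bad68fb3774000b5e1260158c896490add000297844e9c2dce2dcf2b6f00095e1049246a6000357841783c9f000062bad4af03c0746610972097960100010012000262a06a6762970390038f2efe434147ea600c00048cac8cb19178a6b85f0980200001b9c1b9d2bac1ea10dbd60048c046f000025782818e044a0439000a5e0905a43311782578202fa274600025e071018002001300021a89483908d608d134ec00046a28c0c4c0d585287a000001a85042e020c6a00de24b8ed335d9c296b599c301058104d9b2d2fb1aba998b4ae9832f1780d80025dd25d606970691306f0cb85e025ffc6ed97c2178041d254000cba5e0005f410b832dd77fc20d,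
  nat_lit 0x2e2450c950ca535100075e39603895589568002d78e033b296a1bfd000c5e370ca465f0003978d814437a7000e5e351c9c2ff0001978d01b200015352531b4539266f267026c55fa060357f1cb9fcefccefc82ff8001180c0985098960340bfe000344ad05182fc4000855544580bfa0001155c05082fc000003d3000423fc654e655029ca29c90bf1602c000c8ff098dcdf710d803c300020dea0dee0141412c000584a5a8446ff045a000000488fe57d48005178a429b196600155e2804acb9ac0059789c1f9001a5e285e260aa000000120f2f0f0c000604999ced32d19b18725c7278000545402e802dd000001bc00103430b321415c59085915844980a00030d050bb80bc11039103560240008340cb16008f00010d060c46188c000034197d6818b0d0226565e1d19185444cfc57870360,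
  nat_lit 0x628469ca5e5601f8921c917179540b25235637b000315602a382a4c00081ab0004438349af279f40af3a0713166040000c65346550cf6425600025fd012720b1c0004c6944c242f900006580657d05b90df926b0001579385b428bc000a5e4d05040061793579301180e4700075e4b186804f4000d79282170004004d20610ef804e000040230000004c00000ef89b28ddd4484404e953e03c60282028630632e955e464a05841cb9ec95e095cd79147de00115e45000f5e440820c5c4b9fd790c054000401971e8e099061c22b9837f8a15000040a0251b373d00000604000013a4137c333c3f7c3f8180f0a274af455100e0e0e0900023c9406549e709e6c00047d5000000480004d56417a41794a7a01d6000035a3667266732513069803d803e0991c9028004578e8ad2,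
  nat_lit 0x22757275104f8000522c46834194000037f409d50578dcdcdcb979c464908fe08f95e70145179bc05100073163083605780014371086e42ee000033291e495528696b3c73607158f5a709a6ccf6c4ea493dc95dcd6050d51c004979b579b181b029e029b638c397250751b201b2263d356a256a05e6b60686708625862646468647579a98191eaa0e64000d5e6a5e6919e436e50ec0002979a579a0e9c688d3ac0000c5e685e674760dc58c554c56d79988df082f509f69da5e6505d8995c91a091b1799035251a756955e630dcc00009258f59cfc14fc110eb9a308d7dc61d581824902c701008100117b10000605c000ca370309c30b8c81487cd81600023c200b410a5b0a5f0b9c000069848b100f22db4294c02ad02a900c800cb2eaa3e91489c569228425e5e6054f0648df8f064a3608ea196bd6a196b3d6b31222179758140e5667d939663963593e2ec447b0248b246328405e5c604cead4e6b1907d90842ebd7d34918c9189796d8122ce266634c5666d648ef003b0044568e5e5a6044131d316cad7cad80c2117964b9a26cc26c608c108dd5e5849586d447300c52d795c375,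
  nat_lit 0x712391cba1cb824be608453a869e0000431f0001616461620d700000740c73f889c6089183f00875e965e9500465e8e60801ab055542e342e4401197a3581f25bf25c0005d00445e8c2e408048b7b04d2400fd7a2c4561230483600445e8a254053a8d05000ed7a2435000485e8d5e880970dda400f57a1c26b5e86004cdd117a1800000f0009a0260000406c895087ac07ad4992400081880b8601a85ea501b6000112444a944a988b0c000049b0005270c5082508c5083433748d866e848db4afc5a6e4c205a8e49b4271561c228bd607800109c3110846ad420f17cad81d0003270a2b9501f51dac00087ae07adc8530485000161bc28b902b80000766983a00bb26f226ec08e709035e7b02ad073c39dc008179f579e804409e00f8e0689068b00010b9d48b01f64000006f0006670f4a3150a921bd068206892668001516fcc2ac6c186c14c9a0004305b4f13177c000ca8342548594,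
  nat_lit 0x8b70003000963d259ce63bc1b5960b5a6b58f40aa4caa440008e4948402a892a90000100073918320caa2800001ba0002621d58d948a42691269422f022f260b000040bc80bac2bb02b9c5da182b00001561049301d04c204c18918d8de58df4d1717aa582a007e5eb100625eaa002015075ea860a48d18aadc06f806fd10ed7a9c8780cce08e108e50d3634595ea65afcca3c97e89808980110e57a958280c7460d41adc44385ea40e089220e83110d97a8c9d265f065ed5ea20ba0b100ed397a84369540344325ea00878001ceb0106c992084bf00063abd5175020c0014241824041ba1ac8000043970d24a2f4000c0004b0d86b011b026f3451a66166b9a5aec44ed1a6d007100775ebe69ba559d566a5fff111147945e9b609cb0d0e058bb6d5e29a95d44ecbba8bb68de5d5b51a8497a6982622f214c914c339243656365949b823be23bd2ebf5e996094bd1850e850c0cedd92e92e30655065657a6182402245ec3023268b45fdb0f7638733eef5e97608cc3751f919a7d9a711f717a590591ad91afc14a30d0b0d075e9536204cc84cf0976c561d3d497a50d0b0dfd35e1277727734f515e932c281b580000002d8fc1643189e4971c6fcc6fe1822,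
  nat_lit 0x58f36194bcf56f56a3f5ecc3f6d24080184018ca2e5a91d7b2d7632717271e378e378f6a465eca377c00086d78392459400011b592e160ffc0f7da8e527f1396d1670ea3cea092ed536b45a3400058301b5a1690000010000004046491045a1c20800005edb010f01bc045c8a5c8a6d906800217b10f00137a137c397300035ec31dc400357b0d7b083120e6500025ec2165063812cd959cd08400000b8f00020d892b542b5119570e440e45420e60bc00043614c4f00a280a200c600005ece00ca1b4e4ac83624363c367816f416e400197af582e1ee60ac20abf056e5ebd5ebc59d0af352138bfdc00117aec630159900015eba03c815a97ae97ae400900000ac820ab22c065fc660c00042c8244a244b0000016c0000012021002131f5106e405695eb559e05594127812897ad01ef073b074105655eb308017acc004015817ac818c056a5f1e5eb1062400204fa88d58246,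
  nat_lit 0x13a6002a5eea0d880504009d7ba414b002d5eeb5ee8068d8300008d7b9c1d22b6200235ee6060c9bd000917b9420d0000004da364bd40a3700000e2600062ae32bd62f5e2f5c00b800bc60e0001496799df1696992cc7348b1900042ade0851084f25a3012860dc000c725c7258057462f00022ad943de1bcc0004ab7120648af00002ada0e10090ca318aa3025582534d618fc897b718363321635957155edb19d4384893b1a95d7b6829b655b521e5ed904ac0d952c397b6007d177d177b37ae64373f721982000460d49c8c6600000c3a31e29198500020174acc95801a654e188000003c00025f2e55ff6994386126800004122c15e1835c62b00de000004810cd70d4412048ee48ef4b9c8b9d50239188cb5d0b5bd8a5c7b9985715905a3ed48797b4583419182233223d1d581d56266a3fa36a3a5ed060cc0fa97c740f717fd95f5d5811492d48717b3d8320e3d0e41198b198a6a4a5ece34348fe4e398af44af50ccb57b35831,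
  nat_lit 0x2ae700065f0833040004e749108d8a78901491153f10f205841000039cd3dc63dca0edcbdf4a84ca4b1830c5524000584003470310030d000010840010766491e4c65da6c167bd8e9d83f0003183301265f1a0dd9341d588000086f206f28556000135d64886015c00007658169440535d5585e6ad82d2f6653665143fd1d101d122a8100065efe60f8f5f8f5f58a7400157bf4a5d0eea000a5efc057ce7257bf17bec3d33dbc00055efa064d81e800097be413d0000629825b92053205200b0a9f461c061b000044dc0000004c000400d89c18560c55d8e9f245f1313052705293a525ef560f57bd400308d597bd042b1ae41af25ef301d03b7464697bc81cc00060042003e05780010b8d0e5e8998c999ca1c914f183c00032e33397c0787079128ac150960ec000001343f1440219bb19be002e0028040b0555055600355ef15eee60e914c4960870006ff8102c009d7bb5839448b040100265eec278984a400997bac15c,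
  nat_lit 0x2e7954553e5c5f2505b0f938f958f97d7c9003349c63e595f2304b800240130007004982e943052f04de14ddec000184500070afb69f358170d0b0d0f5c0400182c004ec44ed584400050afe0aff171000102bed090831500030af513b20c2000097ff84eb473e00010af943b0058400002bcc33a41350af010ff3cbc15a615a5001d5f18610c4f304f50f668006d7c5c0bc20e244dd2af500165f1661084f584f48f66000657c54089289b00175f14027c00717c557c4c06704870580000219180004051000127a12c1604b800009e5c15ec0bb625968850c480c4a5033501c68a25f0f43715355b16db0f134a99f592ba17c394150a8132be4938378c378a5f0d26249ff07370737997557c3035d13932ba337885f0b0040ca68ca6d7c28299171a501c5f090165a0b5368d7c20298,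
  nat_lit 0x971000d5f4304dc37a800417d0821000175f425f4103f81aa800157d0031f1e7500005f3f09180be40bdc1cb000042b20dee050c050400000af0002c56dc0c757df00ca021b0e285849000a15b32d12516425ef1d901d981070002456c403c803b068801a91848000815b500fb5f4800ba07645358001c56e05720571c6ba8d64000603335f7a22c0001583f584040a0000415ab096d16f4000c56a40be8137000215b106c40154000456940c54405000015ad605005081a2000257cc43600be75f315f3002e57cbc05100003ba3516369065ae1274561fd60004cb44cb0f92d51e184a03b943ba987856388f930abe98be8f99d7cb9847386a537759e06b8559d44c6d3e685f2d45b829d42e302e443d4410ac10b8f9857cb0f7c14ee12a260ae5868599c3e645f2b6118ac284fd04fc8f9917ca8e2f13df13eb13f13e635f2902a01a0d81bcfd2cf9897ca040f002b360158863e605f27449043bc43b84a457c98156,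
  nat_lit 0x1440e07f607eb0bde07eb07f6440e4240423e1e4c1e4823c10e0660810dd70dd161391d98b094a715879000557d857d8062e475b2c260e3200ae00ad000d5f5f1fe989ec78303da0058800217d7866d317d0561000e5f5d049003a498a800257d7042a036a000e5f5b09bd7ddc00317d6810c34b600065f590710d2ac00117d601c838c600065f57044886e800057d5811f0008036803942fd80f610159613588bca578a588000c74e34a74938641d000007a4000c1564d4815961157915850b1cd2fc9a1000205541a760d7f0d7a382800041570e71cff709c900000559224b0d68154469cc7ab4000d7d3c0bd016700085f4e023800597d397d340e0000504a404a824b43aec0cb40cb93e112bf6190b615661300000633867ec67f421c18d40967096900001da40000e22d5b2c79f0b4764c0573e51d351d1599162d62a4751fa588522cb22c96270595862750c0300195f49612ce8289b6c6424643037cc00297d2073c11fd3d24490f495e000d5f47612827dd805000557d186b66059000e5f450d257e08003d7d10257,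
  nat_lit 0x2020c174e174d3379289f28a610f56150000408308b58ae00000020822e5339c08245d2c5d4dab3080a41cc0000185300010c552aa6118e0724600b54e80000315824301fa0c51132f132c00085f783bd83cc03cb800257ddc01b00115f775f7600517dd4013496219ab19aa1738173600012eb420402030000022c00011d6d21a60430000066ec66e4681122607580762000b5f7161484c8c00257dc01dc5f715f705f6f0c2008bc00257db817b0007004c00144c8024ac24a4939893acf8f1851000306cc60b860b706c528c800081b3c08a012e00006090170b625a62572307409d215f2164662040d01c2b60e91279212e33196140391ca86d8b20a1f8b5e8b5e4f44550f0d30800417da584f06cb2cbd000b5f6811fc4c6cd490003d7d9c18e160400125f675f66242008a5252800117d94420344c000b5f6404540018e73c871435a0132026c305630550001078c0000013,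
  nat_lit 0x251a16a68585d16e916f064f83805559c00055eb92584733473307ed0000519f3848135e2d1c62e462fcbfd4fb08fb197e658560978014b01446afa20425f985b6c4cd84ce930914fe17e5ca5d3090308a00105f975f9644ac0a4938e97e5454961ac4c185f9418d9a33138dd7e4c4731a59387b5f92062d4b295a417e4415e135633f25f900574de3c0000002031f000350c43fc437922f740009a565b050bc34d4a000110b40b0a139400100000bc7c3ff514a32e232d849374c923fb5527420345f8b397d4134fcb810781068fad97e298553d251379137d4e2d5f8938f86084609130514fa17e20e1e5f8753e753e853e75f874925123c768c76954b017e184414e1c5c7a4e285f8509213118e1a0e1b17e1028b2f12580a57c75f832379a5fd87e078397e08ae10af157c25f81007419641974001c3d317a817ac698410fa0001026922a92694dc3043f00000489,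
  nat_lit 0x6517919081aec00040a7c862455600006047406a01900a906848684457884bf400004c800010b4b35ad3ab3617f12fc1bf000000130b494a0d1a6d000700165fb45ec0f41cf42d27b0fb90fb897ecc67850fb0aac0aa6000600145fb25ebda880a004a01400917ed17ec42fc3898389b5fb00ba1a38d39557ebc7274b8852eb5fae0878fd84f54492709268a410a849000cbe7c00098593cd43cd53ee73ee248bc49df0001274d280d27d1277400002e900043ecf280d152415282194000cfb201148113071f00021db11db2016111680004fb18e21010e00000048fb0906fd07111834bf14723987e51d49b2ed343db24d6e9d2735234c793c5ad400058585fc601bf29f516a100002ca80008042922445df000164da53a1023c000089412b38194224c52dd5fa1191800217e857e8031d00135fa15f9f1b517e7805141b041b6411466646c814f2b4a184a194847483f0001615ce63d40f40000076,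
  nat_lit 0x1b6e26b9169113a8000405100011b4f1b4a29551bc300f000006d406d700b21b4d1b4831184e845fd33010c891412d8d0c6efd7f48b2a00005fd25fd1025c00140f5194ad94a858fd85c000310a42e6832b04aff08b1616c00084274e0f5005d006c007985a00011097652e01c8000042702c3015b109e6438643a22a022a66b585fcc47b80f406edd7f2c08f18ed4bb45fca088000712eb57f243d369054e775fc804f4495849417f1c4b50001189e227d0aa054545450594c77209500000901e096c096d00010c7c771094f8000022c000009e72545019c27a4ab198350356553c801197f093f91007100136692f30114000475fc15ffc279cab0801397f00a030961004a5fbf0e940954011d7ef81dd034200475fbd092401417f057ef011c189000485fbb084c001d45e5a58c04f,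
  nat_lit 0x3d91a43000b5ff40f5c30f8001d7fcc47e00365ff35ff204c800080510002015b0a0b1550000472c868e83ff00001cb239760e9872cc4aa0000810c1bcf12a60001070149984aa000002b3000018322d290513050612a0619060e4b8b872507240e6499044c40cb6d40a4c00bd7fa98630080008100305fe9046401d17fb17fa0184019f121a0003023c0e108a708a853aeca0e814bc0001862000300940093261c630d630925e22f01199819940535618400080618a1e4a1cc81140c500010185288a20492c9561800000060180a00bb017a26bc27571c341c354ca94e945fe2617cd4ddb0e1a8a5383049b849d57f8585e2c2412941291128f128a5fe01900fe3dadb57f7c077154d25a95fde0164195560917f7433f15464bc85fdc0060001001339470ba6000101c0148c147c000020300021b7053074d146b5c6b5d1e7f0ba2617400046d744c184bf0ec8426dc75d,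
  nat_lit 0xf30001460120ad489a8006d804415128e6001860100761817c0071803c1af0c630013600e0ae428ec0045803410b423300080001152505700020000008f2586345b05a3059b15b1000061a800088dd49674ae8c971856d9869000110e310e41554154f3cbc0001a329a32414e341b64806b2f530e53105850600758882d01567193a9849007f807e9801902e06876085020501f960052d5919cc6fd180105584ac70b6e6003155d801d613180084734cdb5546600108658025612d800013d41e738de5fff12d43c5d5af12d81af0183ec000986843826560152b15220c4a00012ff98335633431180000f3800031e47234e60da0ace0c4850b80008792c7940f09059500011e3e263a01a0000078f8a3245ed1e480eeb095b0953258f259100415ff95ff8619c892dad154cac80188024692000397fdd8660a9a29482dca331412ad000b5ff6619466184ab400297fd41bb,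
  nat_lit 0x18670006603003c8d07c004d80bc25825ea0011602e0b102594001180b42103c020004602c03752e80002580ac1422294602b602a06040014706861948b000043c6f09680888000d548d03d02ee0001387f3882247624710adb6105175d093c093620c761c00000e1f8e205600c02c986f6a080536052f270d4f0547f446215613534e40b3602561b916e98e0c98a49888e108e10d809186d673b554756366c4840b160235b8479b479c8c65164e102c9808986c095c002e6022001360210f54efc48eec8efd02b58080bbc1c581c5d40ab601f07fd0285028d02ad80781eb0c6d0c73601d07b91ced02a580701fe000623e123ec5729661d32e132e50e70507c00105b18ac9012e000362fe40a702ec00015685566cd594d5a009455f0350430b929636346001f60181f6543c943b96d9d0e740069805d6a022ec0030601860160420a9783cc4005d805586b508e001a601408618a300071804c221,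
  nat_lit 0x108700a3008860586be2604e1f3c10701080bf45176181344d713ad2fba604c037d845027c1812c0f01f845591604a095c487c489d812422e4b836bdc6048060400048e80a4283d30000633c45c4064c8e892668ed2412b012cc3af83af4002c00093d1000098780001143b61e54eeb4cf161dc000050e9879148c0db3141c4d3a59d35bab5b885a8e5a8d3a53604361d87e543bac3bb95ae56a30e9498108f6936ba36bd654a310e310760414308fbc0ef18eed0c42cc419810097504c5001e6040000d3105603f61d4a42119dcabdcabd980f8bc456256b0f65ef603d0755038ce93580f01cd34f234f4603b07308ac4952980e83120000523a3afa22a60bbcac14ac2d326081648154821cd729adc94f918e0c9f4195e8df54be050fb8005980e5874310958e76b6d2b5109730017603861cc5e385e410e3071b471c4006180dd8722eed642c338638566037603661c51585157d67690404005580d52cb1cad2fab36e3001160341538be78bee4e230003980cc6d830fe369d000e603212700314002d80c40df,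
  nat_lit 0x1477146d0033606c0955a61da61800a181ac155699069910031606a0e648ef0009581a415c22ea0030606803fcf1dc00a1819c14b2b89606960660a15594000a981941dc2b3d002460640515043000a5818c17d292e0026606205eca6ec008d81841900003074f05791150000001314bb14c0169452422c002bfe000361f00008000c8cb08c70001c00092b3074a0a07000101c89060d54c00003660005412e4135131f131c28af355061ec00107b747b9cb6883fb03fb587a000325cb16ae01a000081ea81ee008f0001574f0be1017400008c748c504a90003605660550e1d06e135b581501fa60530130579988608c488c4c00002c00002117a4a052d9905b205b66b7d61e4000445f49e309e2ce9000001180423e0e2c45c445b92e2da9d84c05af8d813c885,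
  nat_lit 0xdfc58ca608904dd8235635d82200fe53f96c1660870ed549ed49f1821824600064741635d22a012de0698069a217738a338a027b853994d7348fc414e41571ca962100014ea2cea3d6b516b656b9990ac122012102e4c2e300c198830004473d1ca702ec0009ad096e15b431ad18d9c00012e2964dc52e7425a620800008c7473200970a530a4d427925c752de000c608026accc542ed4003181fc25a17490009607e07751090001d81f41d220a3607d607c0a1981f4002981ec12f1e3e1a4f0000028000004a5c4a4813b0000004c0009949d6de96df96fbdab4d1aec695988100016526652c2e2101dd609961d400019495ad3510702de35172b9f61a8018d0193209c60756201371971559c7cdd18826181d187f0b9f4b6039013906631d60734e7848944878825581c830f6072000d209360710b940014172817180ae0004311529c102ec00093db83354334cdbdcedd42050206187212da8f27cf26987e52626c094d044d023967002c606e486000d1341c954c5190519800b181b587d,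
  nat_lit 0x2c602cb0280402c9ea00000316000000f803530f0803d897041eb01ebd59859630000188b0000028e60d4033f034235c335d3363562288e8405d405ddab14008d828d8289889024a0248624f14e8000660a1264c73540071828582803dd2e40640d0009609f62218b1400258278297609d004808dc1be40010349000413cc30c730c8676e555e6937621c000c493c49393719a40098808a6000213cd443e671b0dfc00044f4465f414e000013ce06f60e1c4f392474bd3cbd38006d825d88629660037001c609612c8007d825d825437b6094004800001bf81c04230074111b70fe10fe2112400000bc40000f72cf73156bc2ef464855be6d5a6b5f564656453dc366c44b744b7349655cfa547c4c4f6a3f51a16091621414d8ac08ac1529752bd959d18240d8414f411cf11c911fe58df608f42d4dbc463586365467982386df379e379d3f7a3f7b608d2f3535c0fde182300df2b6628b2608b1a792619b0898228257,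
  nat_lit 0x117117db34da384d60c410a49c788461830c54905eb591260c2062d27192a0d830415e4de9591360c00ce13bf1523182fc13a4a83590c60be03b400087399110443a443940af00000dea1a7411f037b961554bc94bed51a0003982f18921cf2001c60bc60bb0d64ec2c83d4001582e8525610a5845000b60b906806998698c000d82e09083867000460b70b8c09d8002982d839c09262177043d02aa02b320ee000062440010df7cdf89aec5b35d8d993a50003340d64b42f7c6bbd574062400008e280945c8ff09015449d88f0001391c392047dc34ac0ae747f0000144f93011ab396c39960d23b331300ee00e80a9b5647355b355d2cc42cbc1017000a60b0623997fce17cd87c40404044002582bd88d1a610f7d018d018c000d60ae497c244195d595d8aeb8002182b44260aaa050530a0000560ac623045088f24003582aca35002b60ac60ab60aa12fc03ec001582a447e35da000960a800c8001c012,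
  nat_lit 0x435000960e104ec80e0011000101421eb800410003060439447e84fb90d9fc0004a5910430000000503c8000c2fd03014682c683891b4d8d46ac0002630700421e4000046af0f58017d0000044d044706406af83e943eb0008d83647b8042e001e60d80430e2300089835c2b5043c001f60d6072000b5836183541bf62fa001e60d4047c24682474154c1558000d5690d020d0a2a3f0002093437743794afd400043520937093300000ec0001422f823082328afc8091000408bc1f3501a0000c66e42a2c482000219b61b7c0578000466d8374c1930000109e10a804e995d937d9832802d1bde1bd034ad34b237cf23e2026900006258000962c9b0b5622962316e55950409a9895000136d2124c121c121711eb62500001b0e964485b1471f58ad4008400a412649fa49fc60c6624c3a4c3a607d40d8a164598315856,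
  nat_lit 0x8c108c438a738ab4b4426963c335c245c1d65e3366760ff627c3394337c7ee18d8c763d83f8ed8329a33373323332460fd28d83ed188f4cc88cc8d83f0f0a1e78324a324b329260fb62798be121b8cc7ccc8583e8bb61a10595060f902b8f1f9920000085580f6c1c790001064c00082d8c5e2cbd14d940fcb83a683a58d728e159068989d00010b610f4a1fc71c7d178000002d7d2ef58aec58043f20b6262f22ac8498649b649b342ed0744074129b829ba0e660964095c0c3c000860f46271129512880861846c002983cd89b21c408c208bb001f60f360f262685a645290087d8464002183c5899622b0c37000460f01670f1a02578002983bc4b2112c000b60ee120183b401222b70a4b47d400fa00f8000000096260000437b8a1951a0d0f7d0d018794c0c00000ded643f54a83ca122c437b467ccb68c99f808700000d3900001ebb661566170211611033947ae9985198641100004183a0ff128230f810f7e247d000860e7625c1c6400c9839d839819f003c003e001060e507fcf5a46b18002d839030c002c60e460e307b86b140025838820c,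
  nat_lit 0x14a134a151588158753240000b5ed93c556b81e04a926959695c00020520103c105c00042e327f9282900000e700014383c385c4fdd2b35776da5658a500041d165aa263101245123e3a035078000c744c7e8856000021d0f297d062c000451d851fc3d300001921191e0b5c7434d9f184486460004611261110d8184400511a4a1a4f20141d92637500006290000d0609b29d3d305c745c9cb380002418522f622f73559313c00042f382f543bec3bbc26900004183418242f31da4eda44698469c014584456589842d7fc1b1539f622fa37676c8c610a4c149d107a30003984298424449244f3345332f333061084dc95538ca85841c5554187329e610615506c4c765d841421941776ca561040574942c9d24a40cb090697800098a3038c03902da118d818da000162880004b540b5303f4c3f50c95c77481ef80e498520688d8a100002d85195319522c211a5b5a38b5f8727472bce5fce5eccd3d9519951c9ba49bad8af0564504e104cd655d84018a0,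
  nat_lit 0x2009200a20072421613a4794910c913d008184e435656826cdc613804b8000474f50df406842990003000003c81ec187a400005980000281f08fb0b0ca07ca0a0ad6c3cec3cd0a28c00058ac00024e2755a9373408da08d21c3d2d250fbc0fbe23ca24412448264d645f3c5a429662ac0004e9b8c694a2892a90000004c89f889b0bfb406d406dd64edb2d584c18aa09790978335a612f00a8a209005d662184b829a08ec0016001e612d26c58571b34184b00700ec15822612b0a280028013000513660d8a177c00118b604c443ff000129a764982f214707444e58d33623269e269d265562a40000e26426246bb356b1ec71ec438a93e836dcc44e844e608c108c80984098606b506b03350612662a12231771176b9b965a36d20311e491e591e4565fd84958a71fb7369165d535b46cc7612400200364431c43100040004d848c72c006a4f6735a21db01db6612262984c21475c86ec0055848d8484db119f6014a014b000e0010612025c4003400001e00cc146cf05ba05b205f70000030000104d6016e416c417d8faf,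
  nat_lit 0x6157004800093319911c80d853dc0af00016ca8338902c8388d89d454505c1401ad85558b43d3b3cfd006661540bf4736c0191854c1021bd9006761520705b200019585442301f6c00686150048001d5855d853c2b917032fb72a9e228b000338bcae80bed0aa748a2800080a81dd11a71000111f8900069bc00001ba000053dc1a771a700d190e5c349834b9240d428db8dd7481748d32c9b3bd85298b31b732b9e1fcf1fbc1fb7203e202f31891153115a614962c86559298509a0d0f05a445a2819f419f185218b1171117144b966dde59a1614736c83e883e9c432c19ec19e98518a0c200810ea10eb65f6599f614562c048ec492470241a501a3d85106121c1b4d4b54a00676067761435c8477246ea06eb52c99546585096930003001200160290283d549d69650af400093058e060979591918af000017e417e56288101101985125077508410838f02ceb50bbbcb56459f45a0019cc19c984fd8ae5336552b6ba86d855b6855135514613e5eac81288120fdf9b1d960c584f5010029c029e0d2206840686613c62b45af421381b681b6d84ed07f,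
  nat_lit 0x17b2405f406261750821ad01674185d0366203b59ce617304285385017d85c81a82c264b4561710cb00000c5b4440c44051be00944b994c21398406c90002022836cc1b480004032000315fc0dd20dc7070306fe339d33b333b4375e43631c9f62f40008c359110910f556a10e40e4001b358bc0001276936883dd232f720c920c7323000009db0d88038715f815f61930000f616a24bc0945875415dc001d85a44182927001a616961680d30e2d0b3480039859c4b20b7d000e6166120185940120007158f1590420042013462201c20255222235b1f781f7062ec0019b2f168016798731c732c422823818ba00056cbb59ff563c1e871e813fa000116271b7c57145a9c9080d8b900033b993b98423a420238a00008ee60ee5ce0d8e0e003c00013e2d3e263e833e8110a40000ee58ee6d1e8d1e286c541c255005a455a4354e966ea21be21c6477248bf48bc5ae248a4173f173a0009615d62e0744d5289528526747b507b4d8e78002985718b72628263040cf56db3dfd1bdd0009615b62d9130c71946f68002185698b51916190a00096159622001c18565856044c,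
  nat_lit 0x37aa000361920ad58f1c0021864419a0791079400030d2417b44c1c00080f2076b05b105b22689277c277e19d400005cc40004261c72952dd5bba5a89cfe3467498c60000098936d80af825e825e4c821a4c5a4d4004986318c51064106301ea01f40006618b24c03a943a84b0ac7ec0001586298c463be056b0565000d61895298b2f42b8000358620b340021618861871131861801200072ca4234c0b5c7254725c734c7344b040c9788f648f50a8e8a9140aa0000d8c33659244b589f328a2a4902a7000263080a98100810240a98000450840be02aa000011f8000108ec99ec9a013649a9f1363986d18c1262415bd0eda0ed73c8446cf4004400158400023618261806300072c0095860585fc7492a4a0013617e04082b94005185f41db02660014617c07202b58005585ec1200022617c617a0ae400184d584d850bd11294239023c58bf0001004c62d84ac44abd5aa55b7985e18be00bb00bf6cf959d261770c78511d5b795b7185d867d,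
  nat_lit 0x563f7364f076c0010708d2d0433d0003026a61dd16fc00087088ed5c68100011c1f2c39066400000798079c1261c162f052f155c1e29e86d3161aa633cc38992dc93b9aeb186a4a592c752c773d174ab861a86338c37992d493b1aea9869c0894c4a4ee661a600b4d2c4d2791de8d8d0000c88a181d182447793633000233bc8fc08fc8d4c0d8c80004fb568ce362f000001f8000cfa293995425d55115c25b550d8bd8cd00022bc43b38078505c56215633000043018168d8844b740000093a093d07a0fa14f65057998d81652d93f461f8002986798cb69d65e645e6d4b410e730e700009619d6328bfb8979c005986758670a5723ae23ba0005619b2e398671866d86681116199004c001061dcdc6935019eb8cbc07c8c02a98699868c01ed8c93e2d0105010e24c15b03633f147b000761986320a01803940390495817cc001d865d8c7282b2b11000f6196051c5a2cdea40019865421501e10016619561941d255cc00019864c1e7,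
  nat_lit 0x251564de3107405f00030278e068b270b278f4f800080c308b425d925d200010a2c0e64f4b8000037300030505475d35790b8c0b9226a726a0269c2c9b3d3b6364000814083030303c7cdc7cd8544000105022d5c2d5b34331e0f6360000013fcf8d89e509e5c2dc568e04fd106308fa627a09130c291d1a24e961c6635ca754ed4499840c600c4987158d609db09dd16200eb80ec461c44e781fb58f600c5c0c41870c1b407af185961c2087800180120c350004000a17d434dc11381150908c00044900000004c001415998ffc6f44e5089d7c9d74908d8d5000405682aaf2ab6288a27cc160f6350000c158425018c598c54ff400020561234f28b3110000041578643c3510000056905730074158cca9ca880a8a09ba09b9c9a1893142c8817bc006186e18d32f0320646458645b1e7405490541001c61b76348c92d9e545abc008d86e186d98d1270e27031fdd0034001c61b53de8030cb8f05ac0008586d986d172224d51d060c150c1b001661b327d4001c0120005004c6a451f392685a6842acc2ad926718b2c37805150000d8d0,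
  nat_lit 0x73307302e5261eb0d39b299692987a807e000718210fc617d400199ce9584863c00021749174a170516fd0e100004d4c116551638e8b4e64000035303d533d4d175ca7845e8895f45edc5ee45a905a88f6bda049a044b165963c9eb454785470004187958df47a94982650925e61b4d1b4e69465e33502745dd30a21f551f53001c61e561e463782734124988ec0d7c0d7467980041878d8dd2768127c0fba0fbe1820000e61e263704d9c4d8c003d87841bc32673283000b61e028d068f4bf100031877c3d7001561df61de04b8a7640019877413200022b242c2b177c00043f403f2063c000066a62fc20434da4d1c2c000021e0003301b058e05913e0b470c636c0009a995b2a0643018e56c300014c1b2c4429cf1770000001328fa653c473447374d9850385761000b61d56368dbe4f038e01d9bc8fce0002d875112a0374036b001061d304b022d40019874820119cc000961d100980034012282634710006050882e4d02cf3353a5db2580010534,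
  nat_lit 0x1c8e1c8c63b714e641ff620963912f6db1f0b9e8b9c5882020b1eae5a735a6a620707f03cfca57d881814e54005a67620501e0617db645881011e4be05a6662030dc80001880d8808242000000480009a5e979b52e408b80001154d1557013c000075059178b080478047f1f7130bf31cf31db33f344bd13b213b52e812e894af2398039872f7c61fe638d5d813dd53ddd561955a1412987f58e2628d07563105310841f161fc63840eb59b213d0987ec4083b3a2f7861fa1524f0b0bef187e408f251b6d8461f804f98845696587dc15f4f366da661f6064cb984b97187d413a2f635a5761f41034000c708cba4ca85d95aca1a53f800021c1d054d05401bc0101f43540004515403785df00001c222cbf0b5c708850e850d4b614da259db5759176717441ba613cd987c18e04ccf1f3d1f385692569365d62e5661ef454d8c4839481e381e3d87b8bb761fc5a565a4e61ed28d4d3a163e5b5dd87b0133,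
  nat_lit 0x1394939482e620d30000101045460111403d6c4d413d413765a42a710fb80fb525a314ee14fa24a824a2274427380fe3622563a4402400f9889400458890e49004b6228622400106223028c3c3094fc0038003d8888f5a25bb37272763636462214c519de99de40038003588800e4300317a20fdc621f05b0b3d09cbc3f71887848707aa04740475621d1214b9583f55887047e40330fd7621b04c8b4a95df5b6b568c8000426c0001100e13c113b539982f0e385800004ee501b168c43b713be117e637d3c382ceb3d35680f3e2736c11a790216021c573959bf6d350032621863a1b0ed932084f4dca5033c5cd000c9885d8e712bc0dcc1e8703c20049621a62164fe98decf0b8f0a85cc800c188555972535274a003e6218621436b58d549e709e7400d1884d8e60929092a00426216621203900f045db000cd88446cb1eea3d7b002d62100f68493cd57400b5883c3d713b40032620e02b9656000c1883403200011a8337751550000069fcbdf43d31a87567a3b0e3b0f2e7c2e74620b639435a98c6dac517b414161882974a,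
  nat_lit 0x1662456244060c0ef0002d890c190322f374600050d980c5027788ffc900c000c7e430e1155a00020d2490fd975400040f239d92b6f0000090c000560999c30dbc87be47bd8db200002f3600250026555d373e5e61b49960a560a8149c14a55d899828b2999100002d88f18f01d174b93445843ce1fe41c790010623b63bcc20c13f413e8296c7f60002188e98ee2ca1278f000762390eece7446d24002588e01b807e30004623704547184002988d874d0ecf62366235101800240130003004828642854520400001ef000018d71e78081b081c2075269b0c760c7563b46360af8c1a0419e511f01f241f18a2e8b524b53162c588c58ec1c402f1e2fad4b512ac865b758b1623063ac55993518ae08018c0160b21988bd8ea0f0c0f143c103d3b478d622e1228006d88b80030971988b4c5c0a390a3b0a44622c059438003820b22188ac052061458ad622a01a8200c2030e1e14d912e74000569e00036a9f4c360a540a5b12d03f1800090109ab8177c92e805dd,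
  nat_lit 0x21a0343b626201bc2e10d101898413613bf335547b554523949215c18cf6462646113c763f859fa64fc20323e834f91000763e80018013000215ca15cb1d0638c11848185463e4000001310e5270927073a823a1213490cb60001405870a832e000001f90002324132391fc11fc7236c6b0a6fcf6e7f36740cb363e00005aa31423d2a292a452c398f7000015d06418261b26186c7f42dcd0c1a05dbb419890b6498e8040a026182038004589618f63a893a8c455c4555085303ce0014625763d46fc8d9448d047788780400418958f2313ab0230022d6dab3c28000d625563d030588220002d89500602cb72c3e000d62530b602030002d894841e000f625262510be916ac0019894039c00061cd403c70d68000001300024455385034a62f1f2f2041a43cd73cda43895e7043e343e267f3104c10471c7263cc00047640761ca054a050f770f778f77da4a17975a55d117518fd34a4da4c77458f247fd480045580e300e39000b624c63c5115cf955025453243b880059892c6172b4f64970014624a09540c498a10001d892425a2b7b000a624809158b8c0041891c2dc2c30000d62460828748400298914616,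
  nat_lit 0x4bb24ff2551d4614628039218c58ab4d981557c989fc0cf0000627f627e025c001428e028d8827c8288c260002203d203e05a405a80e10000480f07b8d93e412800002b1005db05d919140fe80fb13a793be13f0d6b8589e99002d8e3b95318831935aca62795bd428c828d197f557a989e0429314a358d55ea627708ed321d182589d8636247e42f562750880bda0bf3989d015e2b0a32b6627306ac849484b189c813d024d5558627112d4003401300060e9e1513151026183b9721bb54b800143a6c86e43ff000318a613e113d810b210a6486823a6161c63fc0008c9d4a570167000133f7253c1a200000c9a919b429117a6644f2d9e4860284b2852000163f99914deb4000010500012420242146eb4869486b501f50215ef74b3669ad407f237a23766c86675b63f400009298928926bc46e8a4b24a41a141a13293326271df0001a6267000e343f626663f06f4c86a899c05bf8540854306c1189958fb65795c8f55eb55e96824626413d4869c867c907cbb9d898c7de,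
  nat_lit 0x146a355625d405c0a6cd3642000011a911b402c646a1409f15ee15f3000d629c641d288922d4b94800318a6d90622cc1812000d629a0f3cbf4cd29c002d8a65888002b629962980ded8a5c01200046567180b11f000099a350f6cbf181ea990503bc03c443aa23d01646002962951b3c74e1a7c10bd096b000c98a506fa2f223153002b6293280c3afc00ad8a48192637a003262910d88bc5d8a4d8a401591c03002c628f08291d3000958a383081802002c628d06400014012000121a4219c2c4139e40001065077283a41134112f11422649304259306dff55f151dd57dc4d220000641000101888188c190418fd2fe4cf9000300fc00f90cb60cb559980008c3a932f13f6834c000130e820f520fc05e0000001266a06dec6d984025229521d41487148816713ccd3ccb6c606c623659365a461c6284640c4458050404e80c2c0c0d0c118a0d902420a5d52683c2ad7660855f56282640538cd201d1fe957d18a040f7,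
  nat_lit 0x862bc62bb0ee96a0d596d8ae80ac62b901300001675d3f8c05959d9680900000160000017901cc41cb49db1990558b9194d19357889a02191205e94b5a43ab2421241a4e934e8f4bdc3f8c3f8a4720471a47185e2d6d2b565562b6644481cc4aec4afd3b594019b9c58ad5685140513f710a935c667355b1d62b4644088708948895476a959498acd90f0a5e0a633c3a565262b249409b8cd00959418ac4698557b529762b017d5b70d22498abc63662b35b1862ae11cd0d096c618ab41942075376962ac0574332cd7d18aac13d0005004997551195a6c125491ad115d8bce0bcdc000990e000444a617b117a948fe3b9d684d6d4b24ae6434000d129d280d2465a9ad7cc939dc8754875d90c000244a64a024389438e669f4aec00045bbc5bc5af81af7cd2ad90b000044a94fd065a618d218c745d0f08cf09cd010cec19bf59bf8b571153902b4d1758b0c0679673d554800198a9190a3ca169ac4255425646d9000662a32240605400598a8d8a883da22dd22d4000762a10d39a6a430a4000c0a046eb227d000006e80008401040045824721c72088b1c89d1909,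
  nat_lit 0x3333b433045fe1b9a02400008a4891a4c5490001333a1ba404e800003e983ec00ed333c003562d5191800fd8b618b5008262d3014520901648000808f09ad260e000006040010d635563d56396dd902ed02fce440e4316958982d9170003358a36083907555e55625bec6ee455c83377059064580008d630ef4883d883dcfef5a484a7d87cd191500013061048c048a30bf64500000d62d7040cd943d7358c563a566e62cc04b4293134d9ba258b2c1df09a4643f361662ca0af18c696cd98b24201066b5b3462c80809173117418b1c55b000155b85835076d06fcfb8ce4899fe1be317a0db4f82f942fac4670000d91355b73d133d0f000221547784baf4000406a648c165200000074001471f071e48908466150b000436d66ca517d4000cdb5903d855400023049304804f800047681948c2d70000407b423f17b4e0bd59718af0387,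
  nat_lit 0x13532352f2c100000d488d334722409d43a8001262f40801169d8bd58bcc05c24dd4e64248524c900013f28ca58934c0000116000065251b690c6551895179b4dc000467655e66d36000007d800147a90aa3c470446e051f9924d91c00041e8523df0859085d0ece44dc000c75d87444746cd1206708fc000021e851c7d019000047a048f7c7c800001e9d2a890c5075c875c18ba01fa3de14ef462e7016d8b9804c00014bcf520b69541373061c00012f38d2dd18243c022cb65b6230c230e2315248862e4646c8b088b1073446edc6ec504dd8b8d91a54d66e03575d575c459662e26384001d0c390c312be1165d8b8518a000b334762e00f4d2f25a8198b7c1ab6815394462de04e968057221bc1d9458001009b66f966f80c4e0c524a7927f527f4467b467c5657000264650235074ceb60eb65062c5c4054f454f89d516a40000591834dc56e94f4c4f4d5a8e000019a000119c89bdd1732d732969eca1e,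
  nat_lit 0x9e009f4c525b8846b8455c3f46109e10a4000863136488203000518c4d8c482e417bb4bfe000a63110b60003d8c458c4011400760006630f1d351145160c000415e31bf45810000064c0004813c8fe48fed571915fc7740000205656675ae65c3a673726b481346a1c6a41542c00358c2d8b42a072a03000e630a051ca758cc3c00358c2487143be0008630807053f4800298c1c19a452900016306071800418c198c1419945253152000101a800082f191a28c0d83038a4800010bcf0bcd4b85314c2118000002ac027865e46ca0bc34805462c435c22c965d35d1048154b034737234923451cfe1cf92746000863016485a775ba1400a400858c058c0192007fa31c131c3434a000862ff647d53f554215431a72c001d8bf87c74fc74be8001b62fe62fd394d02d8001d8bf044c62fb0048001d0b0d0af8554432f432d43304fa7539a4fa644394438000364789ce1abbd5aa5710d70ad7c39a7490e6c820c82090cf8000591d67246d8a46c446c34339000039cc0009a591bf8d5119c04da70c746,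
  nat_lit 0x1bf9000463300508c80800298cbc24600021bf32fd047d41074000062b09d1407218ae333e1c0c1c081d1c303d000364b45a185a359cc9777d9cf4000922326e315dc15da20aa000164b0cd10c1bcc0ec00003cf00000549090c2f9b1da11d7016b616b8199b3d4e102010211993199704826380047764ac1520242cbe90bf507bcc7c1549217f714b4543452745273cf1cc779c00558ca192a545e14a714ad595b6e3c4642463d4ada5df46fc3572c50e96867399a0011632764a4f3091f80d5116494a5ed39b551991a111a196df800518c99928350d399a231d231c001463254cfc5aa993d05a8800458c9040e2f51000d632301f800698c918c8813204b804ba00020f2400083f846778677cedcc29c192700016ad55fbd6ae21d24000001349240b300b2b4e87300a300b3bf3631e6499909c34a45c78100c063006518c759251cba575c4f28631c273401658dd1bb7d8c6c1df05703836631a080ca8f1bb498c6420149785b8963180809543154218c5c07d00035b6c4eb9646f10f7139a139b147526114a85685464900004774da9d913345d500001dcb3ef2028195f0cc50cc21b848d4c11ced1ce85fe85fdc5fe45fe1987970d59d6000298c51923,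
  nat_lit 0x434c009a00a022d565a8000a634e64e55dc5551d41152ae400418d35938270700b00011634c0fb4a19c5b0c00258d2d937003e003f000f634a21c43ac000218d2423a0011634963480460d5f000258d1c1c8237c0003634606bccd4400258d141c615f0000563440b7474c44ce000085f531b016bc000001dc0008579c9e5c9e4d00d45af9936000115ea3b4e3d443d49133864d4000001315ec4566468567730635000b633f64d0d48513f521152bd400258cf99334aa657656dd54af40008633d64c874f800098cf07cd00a10009633b043c00618ced8ce832c1d342324085c0000063c000c5d645d69929047806c4421d18f818f7993100024af05532428f2495236564c000052bbd394939557cada6a192f00004aef47e5448c448e320a54f92bb531092528d4c400418cd4cf9062c41c258c86746000b633464b901a1a3fc00358ccc6c32fcb000763320b107044003d8cc4055,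
  nat_lit 0x5748517b50e76b791d3b45595d1d6a216a256da800518dad64516f6653f0018636a1120289000418da410c477600106368070400798da18d9c2ba18b40003636608a401e400418d941c84426001063640481163c00358d8c11f000b5b5e58054c4b033e033552a152a118ab6500c6cc00019de80f00887000049e40d2515f50be48334832c9f7c9f683c743c81bcd98ec01098a270a274d7909824000c000193f0003013062b08d78944c9450000593e2f8f2f2c67542a79000064f40008095809545f5000130a0088104340001a989ab3819344eb236c23661a791a780009635964f11da1c1fd1f99042c00458d6193b404e404f5abb6df0000a635764e88d14030000718d5d8d581823536358b000e63550a810450003d8d507cd6635000d6353056c00458d4d8d4810a00080eb3411711f0000001300025779577b60674e9b29a8404800009fe59a6d9a689fbcd9c,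
  nat_lit 0x14261d89000e63894d3c84e000118e203a512f90006638705148e4000298e1812f209a0002638505f0005d8e158e1024400021ab0212c206c0000a954b6f8ce72a5155ef6a5833900011638245fc6a9c02ac02b1532c00398e059464ae846d546d96d6d000d63803ce4cf94ce4528f4ce3000398dfd88631f32a5231c1000d637e4884999000518df98df421c23852389000d637c091c75d000258dec320637a00489de871287124d55c0004be900ae00ad1c48355600002edc000802a504dcdfaccf254a2db32528d128cd2300d6cd945000100ae67ad35bc54e235bc5b680000029cc6d03a400ab1c574b574b5e4782000d637565108e9c0298029d5d4c00258dd194346d746d26f10574e00086373650821b821d91a8c00298dc98b53380007e637b000c63716504ce0d166800358dc00852359235b000b636f091c00418dbd8db844c636d0049166874e80000142,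
  nat_lit 0x280c23ec23e9255920c1002363a6652c00a98ea18e942e80faa001e63a40c9d280cbbac1a100000b3400054e225af4240621d9666153106ce24edc508b042e04340e171a971a92068265280010371036fcf3bcd0e0592513700031fd752c4037c0008cc654a4c064000136f926eb088800001498148494f4e19411109a006c106c42e55639d6494d2c8d2a4d2898e7036726ed30004db8639b0a3ca464a34d8e6807063a46f66639912e49921bd858e603042f355c0f639707b01eb936c18e580251fb5180d1808291b2915212f0639063a2b9e3f4c2da34eaa60ad60676bac4c360006652400140120001096f660c1e9c097000015f5400118ebc05e8412442e00030166644b171000080598b658315000163ab014e0c200000059c1494161015f1ebd1ebf55f9330f6f56638e6521a13510d58e34b202d342e43638c0004000cad0c22d847c000166a73f94198c65e4252e253535aa4f57651d6aa93e0d1b951b9800298e296e5,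
  nat_lit 0xc200c30137001163c455acab34ab3000498f0c4a54160418d001163c201e801558f20000d8f05245001963c163c00decc81c00298efc17463be00480000ab1c9f749f84be2c764c016041c0c94487d00000004000803200328324d21d4e2e0004000100c700c90c92654c00006e006e140b20fde0fed2194561e091609121799179c4bb0256917446595174b3a3b000f63b965491d28c3d0c3c9a1056210001d8ee055d44fb450041654158001063b7654448e8c9d000458ed84392a8e322f001063b50e64400000298ed01591664000863b3074800b18ecd8ec828600c4000863b10911391c6de06decaae0000c0a92d031b791b7a2ab70002654002f0aadc00040ae2a972a95000002c800153fc4ba809cc87fd87ffcb7d155395739573505d4aad194f00043bb33bb058a2589f6dd54f084f10126312672a0c3b50000d4135416144dc2cfd92202c70eee8597594e0002504c505751354b3568f45ac80004ce09a79c83fc840002e594d0000504a3c9c3ca33caf25c111e93faca64486fc8721b7416b256b24007d8e9d94c,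
  nat_lit 0x14891484000000740010047872f19a2c8440c09109450949171098d0902595f0003011c5bac512b51331d9a6578000804846c446c1c77a995d0001011c1ba001a0000004609f543ff0114448963dc019c00182be02be444b959e8d0bd088c8b740e153cc00b4000200090d248dacbab1a139a134d401a155a160d6e50230310830f5589d5a711e35acd59904000195c000206044fa7378b377f47e73623361f41966b5634483446361036144b7725c81de8656c000402f58f940a063de0064448363d7000564f60e63082008262ed73e1c6562136465715d4d70a068b4656818053e9173fc486448586ad86ad47c007c18a090a0718f5995947896b3032a832a53fbc402b3ab33ab022791319131c63d565606059445d2105ad2d3d159c94a0698f519571af21af55bf35c1100fc01005c4e63d349e057f457d003dc03fd71358f499560b400b3c131d131863d13d6997fd76416c2511f18f4005e334d6f9c5c4b63cf1b2ca4ed142571218f38bc51b4e1b3e281363cd0d399aadbe718f3007e000900491d8594f400040df488b000f000003c000045a28491489c63da00e51dd71dcb1c961246001263c865546461b509b5288f0800518f1d9544d134b984b945075000f63c63ce48558855dad048f0400498f144b1,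
  nat_lit 0x1cee1cea63ff0470ab74c92d8ff81351c6233c967ee2f51000338bc6535533d9fb4bd4000089c63fce1f751f762f4f000113a15384bd20000013200005b39519c519f4d211ec966752f5667e967ea2f4d659d199d19a535dd35e1bf0d71d98fe42e21ae31ae6219c5164373163f86598affc934c933ca1018fdca96027b666d38bc63f600649461bf218fd407729345c7363f408587f09bf058fcc1e8000a00831bb616500000022d8fec01dccab85ab403019001965688f689331473112218000011e5c77259b24860000002080003000a1cc516af16ae005c000800201d708d1c71f0001000a4ae523591914000001263ec372351563b9a3b993c24434a293a293f430b09c409c12c4008240823355163eb6591b778b13ca988aa38fd34fd3cfe9d5f655f696f19c021a270231023184ccd8fa9963169b136665745d5b38395c6763e94ca801dd12598fa03930cf3354d63e7000400088d48f4b84da04dac3cc0001234f3105075665885d385d64ab30981c987498654c5906a8000d9610193019e1d7444ad241000026580458c456800043b0,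
  nat_lit 0xa340a3214e80893088e641d1e7cf63ce3b8e395727190707f8048a27e02c80641b0ba45769b9e9bf9d906996d37e15c9664190ba077a0777990601b20001655c10045ae76b7c3a5132403fde42d249a071436ac81d66692370f13ee165b00000e728e7252024aa00df70d100d1330944e06000029d8001c80c4c6a8c6ad54943cad95206bd0ef0596b00061c761c7d56641471147428d801b465a80014394c061405ec4f483ca8cfc00042029053e05401b2529d4000c80accaa8ca806cb0002202927e142fb12100004809c9bbc25b00001264125b06e8809014e4150844b590358421f6a2c14640c292477747741902c067000c004c00280120004199b66fa01a82bf44a504a60ce7902585dcd90213f964d50a8b6f9c23c823cc177b640765a46e5d1184f401a719a71d901860314ab0058640a004a640565a0666401140125901027067bf004700486403041ca4b0a4b59008285641000c46401074802740255900012f,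
  nat_lit 0x362a477e42cc243824390040643b430c423c666090cc6f5400dd90e99716e7421681445010b003b6439303921612368d75400f190e04ed0113644b0039643710ac921c00c190d807732836439643507301d1000d190d01e800052c3738db0918000c76f4b5185f500021dc141140ffc00005a505a59b9e4108169316945cae643004c076fc77d990bc23c2c3a2c38642e03fd71b5bfed90b42dc0012642d642c08283ee43f0190ac249080007ff642a060d1e79bffd90a42916ffa5ca9642805ecc79115a5909c213000a0048001801300001a0c50675064700a5cc35c58134c682966e166e8ba0cde40000109f0002071a1f5d6bc860bc612161206ce11fa11f96369265c000041c849ae8e700a7900000718017a11501c881cd565b9a06c835c8358b215908196f1552155f20e25ca05c9f641f1d2c840027b427bc3ea43ec9907996e,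
  nat_lit 0x645801300008df4088f488f0bdd000012fa12fd1cba15ab15ae34c8e1fd7a719dc49890cf78cf892175216dc511a724c464c47059f85a0094e094d99159979570951f450be3d523d595cdc702d645565e0350ce9e5995864bd91500a316a516ad191f192e645330cc008d9155734d91481334c2f4e7c702964511214e1e57341914012e4a9714ae000417d52b945404000c08f015025ed00020e8c000972a9c2811aad1ab18161634963353fa970dda23997700015caa5d130997098b189f189e189e18a265d8000172a9720d7211670497ad9753043303416fb16fd37fc3803240424066a180011644a65d1918004c80124012ca2e8a2fc0039912597316361f1b000a64480ae079719cec0041911c29a11c90009644605e80125911991144b90186000f64440c101d3c003d910c20242a52e24000618d807fc080c000031f0001485d1dd804ec90d0070d918806dc00040a3485d280c000006e800092c2cad54ad45a159a1545d345d500709918006d5972000128b228a911c3355800014dfdac5081b,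
  nat_lit 0x424f424d6d587044002f64764c411149113d32655db000b991d59804bbd336c3363003164743dd84338ec087a3c00bd91cc321015e648d002c64721f5591e801ec009d91c498601b0002f64700a5c74c400bd91bc174646e00480000cc10d4492a0139f0ed7330335114a7f1bc7000038f8000829502948a7290e490fe8d4b5460077c597f000138f30014001613100e4b65f80000e554285813881fd0a51024e024b6ab2073164f60749646965f4c6353c813a1cbcbc952c952991a197c0ab4703a5cea646712b5132598e85b3d91981eb0fff5ce8646506945654e22d91901a4032f2f58090309080e1c22ed22e83057000065ec00001b101b0057c057cce8c1ddc4c414c3e000118706fecbe48000037300064ecb4ec9278027831d980d080d05297c6a72570565e80015b52db524853c852cc034957d1c000042e54302303c8000ce3b4d29825700024f4c1a0a1f240005050c00200f100001dcb66bb253c94d494e991643ba,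
  nat_lit 0x14af1d4d1d53290a291000166494661d0f7932e0998099680039924cba81ea11e9f24e9000c64920898503d15ad159c0039924411d423e001b00216491649056405d792d8c0045923c0230169174f0010648e3bd592740370003992343c068d136d90006648c118807359231922c25c2afb0004648a09b9922401300036b6453d204340004db29c29d02d0d1e09064905cbaec78999863d6426df67b056a301c7648766149370005c005992181cf446664a8648508e80438070192101c4455801c26483076c06b1928d92082303b1101c564810721229806f592001f000cd00c5647f06fd362806f191f810b00011c8d273e15580000db4523c424336d06bff4952494c4d46000066100009228982d182c582c160e15b99beb467b06764bced983000148a33df7392d2f04000065086501360c2926bef4aaa546550d01f48020c020a003664786609ac15c685ac107a5000cd91dd981,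
  nat_lit 0x2780275000008b00000ce392dbc383409fc09d198e3389422742304534000e64b01d6cc5b85100004592bc16f1ecc1ecb001464ae21c5933c003592b42b50139001064ac076c008992b192ac21d1772000f64aa07199ac0002992a411f1102000b64a8049800280120007196b6ab06642144819664f1f65770aa33c3b0c450c483304405940506f21059d66340018013000b00000c0e330598f89040905420840000c1b000046f40de90dee0228022a2b97339a2415241408206631219cd44cd449c26d741d71ed0fa0003d928998b24cd002a64a4005c14be000d64a1662993080728ce451a2ccc54005192819891964596f012a001c64a0649f662050bc08b808b47a100015927868424ee68e4001d649e649d1ef804a004a8002d927046f175e00f9000e649b20e807a4003d92681b314a1000564990878001052c91acd1ae52f55339c7a0146e0003663f51183083308208165bf80008233c23300680001064d0658023c000052a405b8193,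
  nat_lit 0xef45a646014458e64cf665d9389c2b5755193381564eff70ae5d5564cd04959f49c2b1933007e1c0628a6000409180008012250d2f1e00000abc000864317871786129f9a3b89010001190b70f3522454231a2d4c180000642937e92f30f87ca285996190726454a793105139a13a21d6a658864c66654ccf5131c024c025d20442791931599438d11868186e371109df64c4664c056c05847b70278d930d06801d3198609d964c207bc7628761c277d93043a764c1000c09dc64c01b00002001200051b5a18a7333118a600b0000c013000138fb391c3dab6a865b7f70225d235d2460706a8866480001254d26dd0da01f4c1f4999148b7098309823765707d7026339f000b64bb6640cec910f404580464004992e998f243233b333af2b2d000e64b95e90492890b090ac4454004192e087724d91a201116000f64b72a759329932c002992d830f48de4296000b64b52748a4b4001992d0328001364b464b30bfc000c7658766c35a,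
  nat_lit 0x1d701dd002664ed0530a328009d93b02450200002b64eb0774281193b593a81d23368002664e9185993b400a993a017d2505001f64e705b851d00095939820d1a50001f64e5091000201090c5c03d30007042519e0064c000db825c230b76cb78145cd35113504c6f8c6f13ee19a00002310137a2379e379c252c00041ef81f1566e12870ff30000506956a101a81ef01f0d66ed9ec08ba44fcc302430384b284b31937d99f66250bf80bf518a06f7e541c4c96673212c812cb64de66784c304c219974a96042ec42e4aca4ac9d937599d041c679221bc21a2679064dc1888a2aca2c4a2bc86819e3d936d99c3948067f068124ab24ad64da666cd4b539a13bdc92b492b193650c919d618f718f9226e227264d8377c1e7cb30000002e300002555300857831fb19f7179f99ad85de45d205d0492488eb4718c974c200595c81fe4144c145cd239935999a0b0a0351034a6b62515f3bd6288a2885682a2b212b1e64d5666464d99b556a91bf71c0ed9e6489b593519986549024102401ff070b064d30fb034ac34b8ac7cac6d934943416993aaa3dda348964d12224d624e9a4ac88ac659341046,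
  nat_lit 0x42de37643386015e6524005a650b31f52ee570600674019194419428af65acd677c1eb412a3005665093e9914f914a1121cd018014d94216752439004d65070d24a63c015d9418138253a0057650508c46cec0125941004d695b004a650303744a6c013d940822c0e3501c001610164000141fc08c44e5800001ba00002c03139a0aa0000001200001292189c4ff13e272731668c4a2cd49d142094399fec006193f4ba331c031ba6925483f000d64fc53a017859d0c71709dc0004593ec789022d46631486001464fa2b6c01d801b8003d93e43ab2516001164f801d40184003d93dc1cd003864f764f607309520002193d400e3363000864f4116c00145ee85214016c014932c005400550876246a00025cfc7a587a5400040ae02be02c3000002c800012099947c09b4a549588576c9c3c5c2b174609424919d9a2482b495e290c1928002b64ef66849b7cc698009d93b824a,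
  nat_lit 0x33bf22ef40aa00a9c2d4f5cec0008338833850db11bb59ab00010ce10ce03ec3383c01100000efc080a4808961d44096a93539e61e26cf144366525116594c9c43176e9c4259490fbf05e171065daf652312b404fc051484219488212130b131524c46521063129cdc429c41594801eb1a235dab651f06946b55c40d947818942144212651d04ec001001322ea439f0002056ce50921dcba80ba705a3000019aa000446d646d546d1715366e666a4000db1151bd51bd10e799a8000246d346a310a22e5000051b509b249b2d6b80000004c4948b62cb61910596ca4ccb95f6980e963a97a20d774d7e8a10ca118a0d8e18d94559a733aa201d19c519c465140104f26880706710670d944c040189b368e65122924102c000194485df000621c421cb15506c5c9b3400040031525954e92030bd719a61b1626cc0000000143b30ec62d2c00010ed521fd21f945f41a6251a25141e0d020001fa005b650d6694070c071463d99dbcc744017194319a4,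
  nat_lit 0x54bf153bf4e5657856e953f7800112fd11c8c62300034bf4483e12080009b4fd46e047c00014beb472013f400012fb920ec5ed2e8f654165400af8012c001d94fc20f653e01300030a55ce068432c00004ed00014824482335dc35dd668e66bc00009c5077f0be73bf53bf84dd047d747d42e8d653b2de03c6562a16920f6b4ba1994e89d745894dab328f2e8c65392284aee4aef4af1994e040859506908653717d45580ba2994d82200008107a6535064c9b94ba2594d013a31822e89653303b49ba8ef29205dc5a1223000099ae294b471e00010cfd9b892230000000e00010001000210732782395c6b3d66b4000441d9a080925138c8b758baa00001077000012a441c8009594b42c16535652f652c07e994ac04c00001b1000d0253c221c2220de8c2c1c2c2800019ac,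
  nat_lit 0xb14b314b617e81fa86702208d1dfc0000001450600071bce1bcf3c881bcd66cc00007560e540f0b45d004c004ba323b0cac0cb9000266c91e2433b800040df2c161d73000006040005ae2dae3d010500f0a044a058fff96d89aac0b508b298dff941bcca84f7e075c59b10000004cd4c8d51ce7ece7f06c546c4162e1956d4b53c0359c65195655a04b424dc24c9779d95641ed12df12db20a565580a6c93fd7799955c06e4be45de665560804765d778995541ec435a435b65540aa071947198000c12022ca3558434d00000c3000148890947841c841b118810d1d9b00004201520182346234c0ad3332c000c889081ec4830002213a02980fc40004886cd6c40550000221917c2101480408055953020f59d35185654b02b1952804c52216d750001099d22ad356c000006f00074996453c6c334e6d6ca1482f3d4c00191e2d1e4d3ab527c927c1001,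
  nat_lit 0x41226ccb51a25cc9021e658166d1a341670111bc54500881960118a10681067021e657f1a610634086995f85f500dc00e1657d0f4c002c085d95f00ed031933802d812d8445ad2fff2ffa413b59043501000366e136a54b415370e2d0e2b51378f8f4f8e0fca8d3f800099b76b7a614b5f9d42fa350500012129aba17fc95a755a70d41400011ce0006664b0adb0acd42e3350366d8001409ac09c51bddbdf8e01081c0004031c031f32411e524d48000c2b19a6e03ac48560002023e00371650000408b406a456000000ac438020e98050d95c995c459800bd0006657002b195bc04c3ed53ed30000099c000897d5738d73a1c6d5ad612bb0001687c48db47c047c3030c66d4000097b5b2b13138d194d1b0f3c25eb54a354a45dda0137656b66d00324c8d05da004e195a8429002b01306569023c790004ed95a047301a9013965670650d19804d9959833800fb01096565013809fc04b195904b5,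
  nat_lit 0x2028165cd0276438900c300c4011351b00004c99c7a047a0969652fc99c0000034b8251a01c4b3300dc40dc8a2b527500bbd96717145a71280a68da57cd02f1659b66fd326121fd974d96685d50133013f659908ac003996b99660194468702ec65970ce132b40bbd965805d01db02ed659510352810bf4cbec4bebd6e81075400199be00011f4a1f492a0b35d3399537fc0ae866f40000966c9675320129a52be4ac2261c00290028029d000166f0c63c0a4c00000780005012449d7375c375d35da029666ec0010046c7d185490003011c37e8188c000804791c983d300010116010713f4000004593b4c5ed011a658b658a0b18bec0002996243603795000665880a1d961c051000069f469f5000f0018002466e850b450a854a8dfb093f07e8c7e9800053dc000219396785192b673c29d4000479f079f4de2c97c54de000000db00d8348d1214de38de548b0c8b00d7117750b588088596099b9,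
  nat_lit 0x827d05fa83d1f074907424114439c526861e5619e61525bb55bb453490b4d00736730001497d897b0ea20df1c7770381c3838ed7c4344434d7308b5353535281127edb5319cb000425fd015a015c3429029702944a7e6728000c97d0097c09785554b2f0b2dcb2c19c9000225fc3013301102d82148000497c9a31cca006ca000025f6328617bb0bd497e522f938785074507058bc42dce680d8a5622cdf84d13804c404bc59f996d99c870fe71673eb13eb2439f65b5671da9d9839934651a90981596d104f4eea68f5260065b317542ac8546196c808f3920438965b10f4d2fedb16596c015d1357134b65af04f4002859d596b80ed67b229b5691a47a838c80005001406b0069c6ec5175044f0450ce10c4ac4489c48907a890e453434cc940c4c0c1400099c6330532f031ac31aa0307000167140c440c100000a8a00051675188c188d00400043240924024ee74de7489065e46710001059cc6240624cb2807e9c7e919c30003166d52e851d751d638be67080009a3b908dc0680001024765a904f8000059b4d7301e202f765a565a40af86adc0025968c20f1a82000365a20199968404c4cb04cb86db14ee52f4d28380a820a8731270dff0dfc12461540093601110115000167049e6c02fc02f469dc0000cdb,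
  nat_lit 0x6bd06bd101b8fd88a0eca0e90ca876107624bfc5447d2bac962000019d1000c6e5c599365d90004399636ec36ee68dc67405cd99ec053905379b3b166c197619cf1ce937712e9e3c505af35af765d767387ef47f29bcb94c1d4c1997599cd1e3a1e3c52e6585b65d53c4c321432354849485597507a06ec7546e598d65d325a51b1134e997485f54a0e50cb65d1023c11f9c701974022068765e6265cf057ca45978e59738219500b5e6165cd064cb8b9797597304b5000526243c740574000cde21b5bc25b00010373660b02c118c976f8203999900b5597f8004197257ff1c7802ee000f65c83f90979497800045971c25a261d65c765c60e953c08004997140ff095b000a65c4056528440021970c1a34afb001365c208280074004d970414517ca000965c0060c9f04001d96fc2914c0d000265be0470e4b8002596f4213,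
  nat_lit 0x314a914a515a21a08be3809cc000c08f2a91027d00020e8cf28409e000041ab283a0273000004f40004d8c5185d1d3cd1402d582d7ca7f8b4152be0b43809cd9d700002d1c195a195928006758d8c9c26d4bd56c854bdd2ca9a8b4004d97c99d5233c2338362f2029202a43cd000765f16750da253cfc075807407ea4003997c09e170cc2ec31822181d000765ef674c01f401f0caec003d97b81b1363e65ee65ed01c895e4003d97b010f0fcb000865eb04d8090c08e808cc08c400000a900061d5b1d5727eb18c318c83e25452043da43d91391138b674800153dc53dd15175bc213db466a89bb00042c682c703352335927734da4000d38792535252c78800020a421546037c0004b194b1b0243000012da12dd253d2670e0343c7c3c8c3ce83cd9978d8f428f803bd03bf65e21c94a3e0667c667597841481f9503c403bd65e0063400a59784008d977c123006a006c65de01680f080ee997741c2394d394f65dc0be80b84d381976c14a,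
  nat_lit 0x3bf35213661602b1985404c4a5a43df00040ce052f8aa50d98400087254bf1281e2822197b00000d0c00095d598d8dcf458605cc398619cc59866986c150413f051535152d27912794660d9dd0001575243b646e56c1c3832383334af037c03791f1667700000fb4cfb3d0f9d0fb1b2dd6e216f916f31e300a630a600fef1582663802420008660f676d34843db83da076f10d8c003d9838e6534833482000b660d12e9b68cd94c004d9830376397f000f660b01b8a7ec003598280271dfd000966090c10007198259820026033500066607156c0010c9acd949c9dd6eacf2f002e002d429699b4029a49d719da000302c202c804b8000806c406c01ba082b082a1183196c2f95000c66046764be3845e845e54370a0580041980d9d86629022500116602054d98f40cf0005598044481bbd1bbc0014660021c43f9c005197fc26f0286000a65fe0408a7c0001197f41c4002165fd65fc0ae86650001997ec19a31ff000a65fa047ce5b8002d97e4126,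
  nat_lit 0x6cd3440744136cde0026663442889a9802ec02e4539c008598cd9e32d4703d1667b03df002866322e1ce1d49a6c0bcc0bd8009998c49a80059005825c1002666300e0867ccd6dc009998bc2e9004632f8001f662e0b94aac4009d98b41b343f5001e662c0f1400181a881a78193010558e05a45357b00012edc6fc903ac00000b200011511151316d20d180000abc8ab2062c8e7e352b1f161f17268b38c347ca035d666503515ebc662767883480cfad3e550cf50cf8f784f7714891989905e2a0e2a142a122eb2721a6625132807683b503b311e35c8659890c791532153828982bd12e8b66232e848c988c9ceded1e31c85d98899e117e917ee1a165e84720766214aeda15d7639123c0010002d98814426b3e53bb54c159df5eb7661f571c0001c0fd5e5574f8e36c6ea46eb469a59e04f384eb96f2e63646f3b4d771dd31dd26ce56ce40001677ccf64cf814eddacc4ebe800019de00030bf934d82519295b4490326000082fc82c2463c00010bf91a660e9800002fd048680ed0bf84fc166180af8b818b9f9985c3ba]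
theorem S1_c : blocks (facts 13 6 19 32 8191 524287 4294967295 16 65535 14 16383 A R 32) 32 JS1 17195 = true := by decide +kernel
theorem S1 : On (Step.{u} r44 LW par A) 17195 29995 :=
  steps_of_blocks hpar hR S1_c (by decide +kernel)
noncomputable def JS2 : List ℕ := [nat_lit 0x40bb06aa5037c000c5b5ca05c0f200011e1c1e26368d3f9e3f9a1ec800000131e1a68b568b81e4e0014664e6101b0e4fdb0fdd00e640035993475f02b91d0625e36ab1000e664c3720017cda4132b8e39c0045992d23a6664017f19fe1a010008664a67a12a84d7500029992421f0017664966480bfc0e38001d991c327000547c80005000400142680000c004c00551f1c005499f0002269e26ab096c0004d4c8e1a80b23ec65f275f3439c1000b6643679d1aed1f1000459908153038d038a00146641051c0e34005199002211a040010663f054400e198fd98f821d19db0006663d05e59904003998f01c6331b0006663b0b74e350002998e8126000543943a660888000c013000126c226c626ce357d3580679800009aece90cce726b2388d71733526003b663966366795a9e18490da10da1800ad98d59e4,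
  nat_lit 0x384000f666f06cc9b04002199b821e5cb142a442a35cae000502a4d448d5d9481cb34cd181c3794ec5288528609e009e0cb3c0c7e8d9d8fe38000d9f16e1f56576e854d6b23d66949000267c0007cfe3c000405526813f8c00000ed40008d8296345355d3568fe2d9ef00016ae9369f71a95ca858500000da8d68a4594357c71a733363337202a000c6666124c07c007f0d3e8d7ccea4c004199959ee396c28e726be028d0008666467b401ec01d86810003d998cb8f2bb72023000866620d1899e4809c001d99840b719fb000c66600439997c013000202850d0517d400040a0c36085540000668702450ffc09f8795c00003c50001010000fc00fa0bb92d701e5b67b0000000800070688468899eb3881445a4aa74d504cbd4cbb5f3066f908580009665967a88898a4c1008900a500ad508d64d02184215c002199619e902e30173000d665712e8b65801c0002d99581ed3830000c66550a4c67e4003199501f902b90007665301f400152d592d695019ba6d3c74d37d55a,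
  nat_lit 0x602d802d90fd4102000140d412a4c8b00004035a0bf1095c000c0d54a4787c900020359035e013400040d280d004050000035336d00b0c0d3d9a1d9a1881b66850144c24d34043f743f58781c3f203f493acca1b0691c69090ed92a74e4a8e4a49bc59a159f5668426f438cf6b0b034f034c668467d0d4c00e000e14e28d115c9bd19a0d9f339cb003500186683001466821fa04e7c9b889bb09bb59a046c8496e448538aa26ed668003d8b3649ba199fc0a0038c0387667e08c4e3149b4199f404d026c0271667c090c0030001426c0980579f86a8848fd68700030f7c4d974d4048d63b40342400083dd0274c0f200010f7538e8013400003de401c42c30f7a4e4970d636190011667730480e0802959a00023c004d99d87ab69f22b102b1400216676667567c80dc45094064c065c003199d062800722db5001e667466730ca8023c00a4001d99c830f26f926fc000566710be135b8d608000d99c09d2,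
  nat_lit 0x1cd0001b66ab66aa04a51d391c7800159aa44b266a80048000928704bec4be9bbb55bf13b189e3d9fd311349c22ea32e9d02b302b57178483e2493002066a767f05e2c5e35162800659a98e944a1a4be843d2001966a511291b5800799a90116002466a566a30dcc002401300020a940a9624dc34f138a000042a4c2a54be44792803c00004652251e020cc688487448704884b1a91414c710b251ba6d513d9a7d9fb6da456f553202c286a3942324d375f39669e67e850645054807dc855cd7d7ce19a759f92ff5314c314453ed5f34669c283495301ac41ad8c7d94a119a6d9f825162eed72cd5f35669a06c50d2d5e616ff170059a655b432c0454f5f3066980778930db8bd77719a5c37f2b8c5f3266960539ba3951159a540782f8e5bfc669408d092c177619a4c14d411d412366920cb11af5149c738c000012c000a035903fa03f838b738b11ce667dc00240d79a6c027342745a6c8607d9f60008035b36dd36df4d8b220e332c001c0d6c77d077dd15c0444,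
  nat_lit 0x3134c13520fc4000827fc281c0dd0001273e2c26050800009cfc9d182ee048804876b12486346eb45a226c726c648c83a0539fd481c4823047b000966c46814e90ce961655ce2e445fc4611b07530cd61d91568004d9b0da0416f917091fa23775000b66c214d0f66c74507460a42800159b05263038426e90476000566c038f8f6691b0c00359afc374289c1ce866bf66be05d8a2cd395400219af426101a1000866bc0075a838a3eda8351d851d81162800084c504720fc800011a792549161c000022c00056dcc47313aff6bb1621f373c14af14b172e567a50c211bee1bf069a824a6680c0011b72d2549b8ed5c258c41c289396da020003472426c726c428fc6dc8680400091c9923f923f4053000147264990499e3f6400000136dc6494f49704ebd242024271d0d1cda66b36801b70c002400219ac89df30c301c266b112e4740c735d9ac02a8243430c246da410100005440000515d530d903d903f137200004572470b108604d115b922cdb8155ae95b8db8d8002000019ff00011cd31cd81d1f1d1e1e692230001f66ad67f80000012,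
  nat_lit 0x4a16132a00bd2844e768000007d000147443bbf22300000e500308c2c649b415901593000c000a66e1682cd1b9c1b1c1b88c0000159b816a51eca1ec13da622fb000466df68299b78001d9b780000016da09000966de66dd11319b7001200020240357e0bb88bacabd54bcd4ddc00259b6c65019490063000f66da0ad99c00002d9b6414145bd000b66d805459b5c00119b5c1d8000f66d766d605e5274000059b5419929714f934f8f000001e80000001ceeb91cc1cccd239da0800040212167e44d9296c020e00046470000c0834a39499a5a7994db550e000202030e6622c00004082ca5a82c30000020b44d406059bcc07e010a00f340f3800299b38a1a45a9000666cd01c05c1c00299b30027004e000c66cb07e400459b2d9b28025671f048026fc32fa330013550001681c0010283c28340ed40ea84d444d4da06,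
  nat_lit 0x418d968fc22c0000dacf121a806400020262002a101400040f980fc02430000138c138e253c724158c1a4a82a982a842a442a5046b846bc9b6da875178917a927bc003d9bf9a1246ef46f162d761ef600b566c3c9d1cb91cbc000d66fd684468180864087c755ca66c00499bf1a100019001f001166fb0b6000999bf19bed9be874e48d649bf000766f9048ca38800319be041e001566f866f704512808001d9bd839c000d004c00180f71385cfe31688d0b245e65a0f10d81961000b000428d0000001300013a6b4850485559fb49b426b443e1a0fc43b4769476a4bc28bc3000259bc5a0e3a672fb81ed81edc001166f068352800a62000499bbc147006b006c001166ee0ad8d16c001d9bb423a28db000b66ec0ad401a0002d9bac61a0068000c66ea07004cd800119ba41bf000f66e966e80ae56c8cd17c000408f00024a1539dd002b66ea0034001e001a0222357f36c53c131cce1cd21cde12a700d668300005b9a93954e4c8d18098e,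
  nat_lit 0x4d77424267200651b5cdb5b59c7c21969611c86671e057535bd08ed9c7413a00021d2113ce13cb1a731b74269c61240004b5e4b8800a00000117f044e0bb85c0c5bfc2ec02eb835a903fc0001a1900004239431b2efc1fd369a122532251224f2585258a6860655c5fe4602c7838781ce9dc656c4bc99c61a17044668370eb9266912ec67176858b76848c848d8b0b84bad9c58b8720ac28a512eb67151bbc52eda2399c50369000603f703f4050800149d7db2801812b051de561806aa60a590a52334e001067126854d9ace7e8e80968b800519c44e8e1d693dce00090006671068512370e82000619c3c3ed023202290016670e58687294003d9c341411a1a0010670c04311758004d9c2c1c100330009670a0ae8004800399c2419a01fb0004670807c000699c219c1c1bf28e6000c67060b74382800319c141260415009c009a0a4433400002000d684c00140df40e091389144c0a2007f07b3,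
  nat_lit 0x36fe567a673d027c5f4c883874684c1075047adc0009862358c35905161492a492b000043a40014fbb5614177e577e97c0970f55199a2300043ef213280f2268620f33060e060f6888000cbe7057645774287896f00020f050f0422730d6000047ce87d0c8e7c37500003eee5e6a136d191cfbb9628c77d476987678001d9cd564e25cc2696164c16516735673440b45f3000119ccc3d3092a000267320138006400019cc40e90005004c000c01200012653165d0f040001b329b3240ac33541dd9698e73ae69b01f914d104d144d582ee6672d68859f6c246487f08808bba99cb0cbb0014672c000e47162ee8672b2f2c19bc19dcbbf52cc4e0c40005a2042595aa05aa300000d14000979a971dd00fd00d54b65c69167e1763db1ecb35902708eb1389d6665329132a9a1f00015e315c843dc23dbb4216174e0bb46878000178bdad80b6acb6b48465e6345e645ed6a932a3d42292c6e2c6a196a1966672668743d5c46ec46f4d159443909159c95a1c722f3669366b3d733d7042456724686cbeacbe7482dc0038002d9c8da1a206323c26722155cca7d09119c84473,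
  nat_lit 0x1ff73ec73170000006600000f435c21192e97bbcc5b5a2c3f8f5e7e62e962fc5d7d1b571b542992000168ac00081c409940aaec7664766062a5a2a00010713372d11c000001c2846b83ce070d264c354546f635c34b691291000b675568a4b4319d559d500aa3ed4446e26a20001054c588c97e0000061a000109aa09a925f62c6d68a00000856885d9672c47d2159217109060000126c0000009800ed09d50d659ff10246750001d22c822c71e461e3e674e689dc0e5d485541030dc301430099d35a260a2112153ecd08f908f4674c2e54bb60f27d9d2c69e68ba127f674a096078c478e19d24210687a0f8c67480c509c9849e19d1c31f67f208ee6746091800000133e463e8b3e904464000111488ec11184000026700030535052e0f610f5f065706636b82381c6dec6dea689400081e01cbf905ec62a462b068b068c9a240001078218fa1ef01ef56a3a57a400001df46a184e9064707820b9f03f203e8673f63395ab5c83c6cc5a5959cf8044,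
  nat_lit 0x166b166f3a4e407a1f580356035500040ac19ee00d780d50000c06c52bf6a18000204b81c001be400040320005000235f338f23f873f891ec468c400045b005af0ae3484b9a3000001a3b1a2546249108911d6d7470b070b800559dc888d2c7e282c283318b1001a677267711a69a34046d400299dc0a031c442d830009676f4d3c018400399db80ff0a76000a676d0a14838400119db020a3ed90006676b0a180b4800399da812f256f000a67690835121c00059da024420dc2d9b0a6e0004006400009ab4fbbc20d2d783ed800000ba000100150126da22c3becfb65a2f000300542e2e3a78384a2ddd6134000801381260055000100523aa1090c00019da04d14246004c6b185e4718b218b118c518c43bf5540b3f970007676068b82e09a0f82dc065cc65d065a4d964d96097c462c0001d9d7da2d1da41d9c000b675f675e46acbc0ccb9062bc00159d74d5402c10000675c01a80014013,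
  nat_lit 0x167a17426796085864f85d099e5400e0a320a3b67940c4800180130004074a074e33411f3603b8799964296e4173a1c0c8d150000086600001df31df03279329c22f16a5c5152381c68dc65f065d806300638b69d9e41a36679000135a7e3599678f2e40719c0e840ead9e3834636c603a903aa678d126c7170a99ca9a59e3011b29512952358d678b00547d30d6319e2811a6789004c00087020d01c06800011c06010f023c0001a6f4e05c10d1c0206bf00001000000ca41cfe58fe3c288c28881b052ce000229074857178b17890532052f68d400049568954ce0401b9000028fc1d6e05e8a404913c4630463d6c84c160c1419e05a340b130179679d60042776678068ccece1c8444b284b319dfc7452479247d2777677e0f759df80054f0bd9df42473c3c3c2f677c0a5c0d94efa19dec1f2677a0048cf5dbb75bb81260146d16998694c69400015a32,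
  nat_lit 0x4c00044eb8740da5fc0520000004c3e8c3e9da3a400399ec49b569230ff3000d67b00ad8fc1000259ebc1411787000967ae0884309c00119eb415128a9000267ac0720baf800259eac12069543f404bbc2ab828796aed6131492049216bf5001767ab68fca275af59af54b81cb835023140f55c98b710003d9ea9a3e0c180e260e225211273427353a94000f67a968f4f7203a243a190cd50cd9a5f19ea59ea1a3c189c27091e83000967a7035cfc4d86bda85400219e980de697d697e1781000767a55eec1b4c3a843638001d9e904cf0fe5128b000e67a309204f8800019e883b013e40d880004064c1f841f917734842479d000092901bc3364d257f1e7d00010361ac39ac449c0079e800010740002019d01955352534b477d438547781e725cd80004067006603628363153a43631a3b00006cda74b66cd00d9401a368e8b6cd9e70002d1e085d059e6da3951e035866c1547821740679a68e04f5c38ac38a45d019e6472036fe174767980d71a1285d159e5c1cd,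
  nat_lit 0x12ebf2ebe6c8e5ebe691000016d0506b8f794a3a0f650f6238454082334c22b5171a001e67d0690c6cf46d086ccc49fc49f000759f3da4245ac25b70ac70aca001e67ce690485b07ffc5c54006d9f342e728c828cb002167cc08184ffc4b1800719f2c2ea2ee0002067ca1f34026800519f24078002267ca67c808d04b1000619f1c3723f19001867c604d800086870ed44ecf834206f700011a2260dc5355175c0000686819701958c0a1a204816481a619a6198606467c35ff07f2080a91874f12ccef0cf059f08b321d04145414524b9f4faa67c13f7c97fdac59ac5ca5899f00775143814433afa605c67bf494155157f297f259ef823b3e592d2367bd17d4980cb48d9ef05540d03601c67bb08ad318981759ee815f401d401f67b90f4c6849cf219ee015d6c8e605367b70139523981519ed80e9000858c4706c01c800104ab05a705a4980f4c711263da40,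
  nat_lit 0x69c869c90ff30ff10319a71da7205e810e2d0e39174097689784c624e6000005a49700670033c2433fb33fc00002e840004543c7c307c2092910ad513058698e5fd32f00002e3f2e434ec65009315b692014b812a012ada36c31999fada473ce73cea39fa203567ea072c8198497c3edc3ed99fa41a63f4a67e9001267e807bc59d03e483e5d9f9c1d95b380fb20fb367e612f00008003d9f941ee0fad0fb167e407f80ae80ae59f8c13b24a32059000112d4000cc64cc6492458b414ff600021eb36a5374706a7241cc000501f101fc0ae00002d4010cb0d68b2c0b2acfec4a470a478721c72199f79a461f3b6946123543c8326e67dd659843346e309a2549d0c9b59f71a4567dc000d51bf327a327b67db4fd4e7a43f143f18beb59f6862c10de3271327967d907a46fd9cf4d9f6007739c13a0367d70165bb6136fd9f582981545604067d507a001981e441e54ce2000080943dea728b000102b90329cd480000032,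
  nat_lit 0x51c3047fc5b6a4a9d1eb4001070b073082ea412d00031a8b6a241ab23028000800d400e043c845a00011c2c356a2adc0000012060d06172b8c61e76e2f333d6c3b62f759667241610a4df62fde2fec5fab73dc680869380008f214fe75ae841054106923e123e8e2f4e2f0faa16c19ca896fa18299a01da4d069006966cf46365610c60a568066930edc9b3c5842d8291a0140cf24415be468041684bf85cf5da00cb1400002ffa2fc90a5ce468ced0334000043450cbc68f9000009b8000055b855a0b7289290333d4e02f847494232823302e2d477b17bf17c02ac753fb3d9767ff630c5ce85ce4c01cc02949d0ec84ec759ff9a4b52c03a233a2b3f60001500133d9467fd338114c9baa91458cde4bdc99ff09a72eea204567fc00113d9267fb337d9fe8000964c4c1140008e1a40f85b0d73a23d9167f91178e89578197c94f6419fe00a539cd2604078b078767f703842d642d182ce99fd8bc51048121f3b1467f503ace41cf6399fd047e0cc03d8c67f300c881d4c57c001807e48ee3169000506e800045e650aa88975aab105e127fd2801c32dc320dee946651760ddf4dde430a1a36da4a,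
  nat_lit 0x11040e460e53041e0008682b4c2c42044200f7180031a0a9a5130b03ae2000d682910301129a0a5a0a00df73d4000a6827028076c00001a0983970003004883402f08000026700036dfd6dfb3d590bc3114c0008111da1cd83c410585dd0001237935743cdd175c0000012381f41ed5273514a5b4e5b516123746221ca07af68b33a4c5cfb61de3a57306f6820694021ac21883eac3e8900a075307560727c7264b2198a418618e800e7e16565a07da4f3db968210029306c681e3254f6e1a08000a1655da07408b3a49306b681c025c001001300020048000027e05138515d6fd09a009f50b1a141945815213555f578b578d6819690ccbb1d3155e0d5e31a0602b73b814186418c5ab1681756d182458d19d0ada05819d122e5bbe5fe168150cb853a8ddcda05036614965aad681308d0ed657f79a0481a823f973e668110908002070c4d604d6090ba045100071a8f1a8e734c068e0e10001870b4c235528c6d2ca7e,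
  nat_lit 0x2245e245a2ba802d400049a18024435100005fa36c1a00bd08e9b9d91000b874b780b75cafeccbc8d2e442b02f7da119a580efb4ab64ab849eb464d4647522c0f830f8a0bde6845695c61b48f395080f5cc2f89a11109621ae21b21c3e093d093c684349fc7c8c7c9c522052482f71a10891053230943093a68411020986c2f5da1005f55f85697f683f15506df02f59a0f83a300070bd9683d04e9703525c925d0f088000cfca6f3575b864b475c2589e64a16f3446f36f6a2b9900016958de0825442550252c25280000a0c0003034e03525bc94dd14dd25ee04bc54b252fa42f837017650856fc760f52930a51695400086e4452c07ccc7d052b700010e5639d101a00000796472bc4a91e5b000d68361918004da0d9a0d481b404a000668340a1da0cc0512cfa416d39406f49093c00006950000c51d4028c0280090c250981d00021410041704100d5400040040003889403d700002ac62acf0d688e1875c9aa00e4ed20652048c2e5b08d737dcf6c0041a0b9a5323b00e3f0e420e5d2385000d682d6949cea153148908f5902f300021a0b1331,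
  nat_lit 0x146867686607cda19401200061dd31dd2160927241a8c1a90000015e000013851384027c99d099c51d30ca6537840035a1885f232ef32f14747329a50ec000b68616980841c1ea41eb8ae9c0045a1810e46b4741f241ef6860685f697ca18095c00031a17825a3ce30005685d056520b9a175a17028522870002685b0828c5100031a16816e26e9000968590641b5d58f8dd0b000001de000525676b944d241d171cff1b2a1b2f39640010959c9bb035a50e242554258425b000000080005a15800403c31488173b5487c1588158129293d4ceaccd7b0d7c0bc30bc293755a5e000000482fbd2f1cf3acd160d1591cb11cc14d19a14da5d6b4c38ef05d705d25bba251d4a686852697154b954b14b054af907910781a145a5b03b803bd1d945bb52dc068506968d86d6ea5a3d42290b6fda13da590da00da9684e01ddc5b5c5b9a1343160003004c2184c58400001a300047404481c315f2788000c9ba09bad20692b2,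
  nat_lit 0x26ed26e2688402c8001c18f418f9aef50dc9bed4f068f06c01ada6924af248b000311f83ebca5cc00081ba003b0047004e1cfc126900003ad00005d021762cfc5c498108d00001630162f37d237cc03257cbdd01d77a12f18595c0035a1f9a6859e3502e37c61b881b830014687d699d1abc69c4699869900029a1f0fe50cc53fbc0012687b14b906e8003da1e8192484d0009687909145bb40039a1e01673e13000b6877051404d8003da1d812f2a38000868750abc3e7c0031a1d017b0015687468730910001dab2876e03ff00027190573d65bd71954a8a253f0096009327eb6ba23a456998000499b1ae0547d459359ab0000266b266a4a874a8813a1c6355ce9c4bc956c5801a895d38189618c58ef58ef2c41ac41c4c330c31c0045a1bda65726766306630661a57ce57d055e56a58186d3ebb383d05a068d868d905c4000d686e6990a8a0d194f8b5b30caefc9c289c440045a1b5a633e6e1af01ae927bd000c686c5a95c94d5f41c7889ecc002da1ada6221f4011001082233000f686a6984703870080041a1a40851ec83215000f686801e8049820c40009a19c986,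
  nat_lit 0x527c527953a231b431b968a21f71a29000a033d033fda28443026144ab631bf68a0129554f9c0b4c6f9a27c07a1bde31b9689e0dec01680161a274480689c0048001063501dfc1ded0b51569596ddd99998b19885973595058b70f3f8f418ead9a6f000313cc13c925964dbf66ac00084f2c4f209668ecc80d0000113ca6a1f13a9004b58d40001aa2daa341ba16fe16ff52312bfa2bf968974ce549c12cd52aac0025a25da259a6e18e52e112e166137689507688cf0e7a4f889a2504ad0997615e6136689306542d4c2d589bc5a24819e580b580c6133689107acf858f879a24031a21fa6131688f0624fe10fe19a23840006dc10db69d770064aa3000069b400009ba861c461d5c0152a8856126f526f85638583508f308f02c821154114d3164211d211e5c32736b5c3874a6688c69b070458040fcf0fcfd6e716e796bb16bc0ffd1b9313a5d393d39289020b030b029a22da6b1e0d1b866ab61c261c2a4b7b22b522b9005400552beb688a69a8408c2aa02ab8afa9a22403a69600999099d2be9688859f1ace8b81d84a1a21c15619356a7718b7688600cc702dd14da2140ae,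
  nat_lit 0x6f8c081b00000ce00001a6dc336c3584358c2065a780b580b5d397f37574f0621f621f420bc20cb000e68be69dc3c31a77c3c295a2d030cad34da64003da2f5a766a37133a1d2f1d3568bd68bc69d41f407b507b5c0049a2ec09045e33bc4000868ba2dcd00c8a0900019a2e4ae113b5000268b80ec012840009a2dc373000c008260655be915b50bbc6998554800180130000004c8a555074f86800080521d831d8900010ec0eefcf850000001d000248966fd248b069750a4d0a755ee456790e7d69c80e6969d00005811cf120b560b568f5d981c00002c5b2c5c5ca574f11a9525c4b1681c81a4d41d6135ad299d364db7dda2b9a731b681b6a28b30ef00ec30eba68ad69c9a2b4002c011daf5c9e95a2b0fc51ad11ad41d2868ab07bc01ec749da2a81ee0e950ea368a90691a6182bcc00040df22816b62000008b000086c4d04ac92a5ae49ae5108fda7100011b1313860b9500c400006c25263817a1b0d38de647962d9567d61f76caf68a469c0d83d226c9b849b88c6e9a28d223,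
  nat_lit 0x32ff10f510f73e9d001b68de69f402d000d5a37da374fe4080d6972002268dc0ddc95884d340081a36d4cd0779001c68da08f1030c0075a36414b0d0c001b68d808284d300071a35c6166a5f001f68d605f41320007da3542af1be7001b68d408345370006da34c19000020cf431f031eb6bad02684f5c4f4405c805fc474c000cdae52d81eec6b41206c11d5000269f033c847400004556163111d200000918000d33895b055b09898dd589013d0130740073e54814a614b42cb43ccaa0b9104731a7b00024ce96013162d69e80005112c93a8cc045dc0000004d3399804d529c25d825d088e888e5a329a7948a61c0c6aff68c90d9c20e05be9d271a32029a214e74e768c705e86e68d2e9a3180272728616b68c507e4dd055859a3100253e8107b607b40d68081e00042c58c84c2088000c549001908200002023c26d8206800043d3,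
  nat_lit 0x63dbd413e4f1c39923592473c235917b76aab15cc14506a140014f709bbdca868c96cc924c919a84000431173118537871f5000760dc000ca85052108b000021be5193002800004f6ec7c04483000031133111090cc448a470a45d28086c500025a3d5a83030e1b221af01aec73de000d68f46a09b559d7d9bb5c13900039a3cda811bb51bb6694d000d68f20e096fed22c00035a3c430f0c170c1168f168f02f58bc840031a3bc144000109d91295064d3af8eaacfb64e7e4000808009dc0da900010e4c11b011b40000001000504d737e248e348e248c843fb43fe3c7b3c8a3e7e3e7b2eb640f71362046d046c6a00001013686c406c3d1d1c6c3c6e19a7f000304dd14d61f160c923820000813548b308b4c176000102fa02f7603f04a00000012003068e6001268e50981227c53bda39005a2f1814ed68e30560fd2853bda38814a000e004dac51193c000022c00013301153f531771c4464e69f857a12888ea0c02c800dc0079a37c88d,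
  nat_lit 0x83e023964395f56245c191f5a19a519a92298489a73693904268a107b0d580d5b6a30360d04d8aa79cf78bc9c0001a8b00026a5c6a5b10a528000004431843ec4e90172000010c23348014042e8aeac1fc9a6a8203800ec00fd4c314c615975845184515975596caa05a455a8a0a3300f200f7194c194f753869141334e5707c4c7c6587dc1aa41a95a44c2380f620f5b2474700b61b969126a2466f866fd73b5731da445a51021230da6910037cda19d4c9a43c258096c4b26690e04dd003986d9a43422d0d7e5cb8690c05095b5986c9a42c1810d776a0d0d6a22901ea4177d00016a206fb05df40000075000209fd57e74aad61e817736a1c000427d4284806248ad000009f615022e431cc827dc3715419cba70ba652965110cd1a4d1bdb621b618cedd2a185189aa5c0029a419a86282b281628134569145c000969051ae07fa513017040004c0029a4112c209d93672000e69031b0c64d40029a4080df14880008690103c001600025a40013739a7000968ff08400049a3fda3f831f0183000a68fd09196ac082185144000034e,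
  nat_lit 0x2ec32ec461e5755e6937081c8729d539a4d814e694b61e069350d99ae2d2d3da4d02346c45755969330dc8aa8caa9da4c82426a72108e0b2a0b2200010c8409081a4400001f2000573e9741b5d0554c254c44ff64f454f4139da361153034cc85e724872487030cc6a3c001120408ab48aac03f003e0c074bcb1a8e0003323e323f747b5db541b241af2aeb6a340008c8f4c8f14d4c3da00013b743b76321427240001202cc31c1ba3b0b6c6828ba49ac692a3011cf8ccfbccfd926ada4a4445000f692a69280238aa58aa6da49cb1473d9079e00050775b0d41e90001017d19ee07a4000305b867701e68000819000064b956b7c152400152e4d85cc59400046cc3079b188c000c3bc03bd418b00021fe419d5064c00045df9abc44fd00005511538d17b40019a475a4703872a8d2a8e691b083da46804c,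
  nat_lit 0x2568256236d169551021acf4623da5505f56b1e171b6953023cab25d5e9a54822b1ed661f66951062c9b19b191a5403a305bd61f5694f0574b29587dda53804e07cd07d2694d03a4280c01fc00040ae1461007d000006e800006ef4c710501001d90e81bbe28dc28d839e6197c004c694a6a517208a378a37d069180b40131a5258c73ebb00a1004c694811200175a531a51c2180a280047694608848cf00129a5141db492d003d694408c0cc7400f5a50c1af0215003f694206fc27ec00fda50411f01c9003c6940085c0010cd6496dc5540003346133b104340008d184f45c15d000018311835252c2529321465106524d8b83e643e68733dd45dd58da4f1a93345f4274427956af61ea7562693b6a487ad92964e77d1e318791a4e9a911998532271fe60fd2aa869392f7c7fd068b068c507c973c5a4e1a90,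
  nat_lit 0x3d0117c817d31a761a8022ed3918545a548533ea69736a6cd1b4d1d400b1a5cc00402430243da5c98aa0af6094b0940697117dc3464b6b4b6d1a5c02b22ab92ab3696f009c89150c01a5b830425ea3d3e696d009465a45728572c70046ff4779c0009a9a5343252200010f4c6c9094b8000005d0005307061bc61b90736072a5f5d23ec23eb6a640010be6435c835c099509958d11c1df5a9800032f980d716a650d346b3b3fa00008fa8cde9056c0fd4ccd80001198219836b8a05b00000c1adad7c0ae1e976bcb3fee2a5f2a5b44284ddd49c7333b002269646a5c29708d2c2a442884008da58c535234600ba00686964696225f009000081a5847cd3339001e69600d980171a585a57c10a01f70018695e04d8709ca5c0a5c81750000445300031e0513941391001a001637896a5800087808cf50cf541738693000115f315f105380000780c482806f1dff355722d222d46001613b69596a54b5ecdd50b439aeec79d1a5609d76df437ef4107551d69571fd43291bebce9d184d1a55869c,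
  nat_lit 0x22dbc31cd31303126352c470753a56a8c0004786878602f9825e48dd00006e6b6e6c309c28960d0cebd4fcb07ad47ae9ce11ce0ccd64cd792b88003da639aa218f41dc36be2281009630966545b000c698d6a845f685f70614893b40039a631aa00620062a0e200e21000c698b31a042c43e603e5db49c003da629a9f09830da0000469890630249da629a625a6201eb001269886987062425a80021a61840000071fb930110574000d05b505ac50a829c429dcf2716b0dd9f9b64cbe71a9e00024fae41d00c300c321a5f1cac0001af407594d8b81be8f8b6bcf1d6430ce10e010e4000a69824e38a488a47ccf14e9880039a60490673db225a00126980095495ac2c300039a5fc3e713ff0009697e0e949d380025a5f430946b9000d697c07743490002da5ec20a6faf697b697a0a44bd88001da5e41902f5f13f600030f4c61c061d095ac4124000009800030c880c9445a245606f7a3a853ba63bb44cc124c524be4cf55f01256c10486a740008203806000621af29040c07c407c865ada9c00013a55181d181f2ee813f143800000953c9544a3e4bb1ca10454b,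
  nat_lit 0x46f5245469ae049909fc7f0c000406f0007237a6d4d2d0320ca20cb0bc46ab000188de8e1d4e1c80190014c71e57910005237675f962b126ec24bc61e800102420242870407019aab00036d276d2915240008ae3d0b5455400010fc803d5158000006f74714013a000469a669a50e1c186c1861a6902c844f545e669a302b1a68804c000600056ca95f4433523aa93aac5721651d62c656ae56b34ac34ac445b0288b6cdc6aa80001afa09fac9fc58a848dadaa91d0f0fb70faf10be11690700070523c2301c3b4214986b35761c45d545e269a06aa01a28a3f09e449e6d6221d72da67caf708340836083a74f85d105d1c699e6a9d71d83f743f7097701780176da6748426ca34d1d24e66c89401845de699c1b249ebd4f38565056597539a66daa609292a601e131e175d18699a6a94845896049609176da66463018aa189969980d24cce095f9a65c0a0538562426996096162018909a6540551d095d4769940ed4002026d0cc4425b0000004dbc5dbc6451ac51bcc270260425ec2fa4810881318efc81e081dd4ee5aee025f00005aa4,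
  nat_lit 0x12000c69cc076132a53295a72c1f00a421e4769ca07155e40a7181e941e81d6c956e00015ab2086408693ba02e8a2e870004208cc274ddd8000c0df30af3372000203c8207caa2c000431f07a22e8300000918000d4c34bf418090dcccdcd5ab1000240156f676f683ff20b3d6ac0000478f85fc85fd153092bf95200000530a2710206d50cd9c71c9d526b58710da4c0045a701aaf6a57082769c069bf1d381e5505a80041a6f817137ec000c69bd0455b0cc0031a6f0302246469bc69bb045000d40019a6e81581e60000469b90e700014040424bc243000400f753d00bb837ec578d7add8f598d85b261a6ddaae16de16dd19543b73245a69b66ab4d6ece9849171a6d43a0002f46ed245b69b4073c03f89179a6cc1416b3d142969b208851b909159a6c42b50c960c9269b0054420682059a6bc2b9,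
  nat_lit 0x16866fc77749774b653360c160bb69ea484c1e30ea91b40440ec40f0bed5a7a5ab569ea001e56ae69e80a3cfbb0fbb9a79c070004e60b069e60a28479d82d5a79407d00030157015b02b8000433f85b185b31b61ca0b0a0b8bdf0d19800c400c0e7687db0584818a81899ab401183d823d975d9f5da031e469e334f03410f600ee54ee658efcc789a7894721c604a715d9d69e105ad56d156c18a3da7804484c067611628e69df0a7407e807f5a778102255f760d69dd0ae869246911a77021d5fda628869db0700bc54bc35a7682b34bf94e0a69d904809d9cbdb1a7601c5000512310a4c096c000c01300006c301e10309b26045d750608253143b93be07460747da754d3c6cf1085608542e1c2a9e69d421a800e0219cdfa4dfb5a74dab312353fda402569d2054c8f48df98dfada74415274a2544369d008617f354c65a73c10c5e22544269ce076dcb31cb39a73421d,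
  nat_lit 0x187d560e1e4f1e48051200106a086ae424f401b80089a821a81cc27103b103f000c6a060c2d2020e6b80039a81420060d76a066a056a0407ac40100025a80c1a500156a036a02062483180021a80440000076ea36ea90578001421802194230000320386c860d681a541a5c92148eec8f100031a7f8edb01a501a13fb61e42001269fd204888f401980059a7f0a0321a91485000e69fb061495c401a80051a7e815420df000d69f908f01410003da7e00ff399f001069f7052c85fc001da7d817d60c569f669f50a44e0440031a7d020d168e000969f3084c7bb0e855a96016200014f7830a730a06a5705870004038c44e044cc000c07e40451477000202c885dc5da45dbc0000bd600021e2f44aa08a908b01c321bfc1bef1bed6ae0000478acda54df9cb88c404821b0218851c1ab700001e3033031000100620d55535b12157ed673dd0419cc99a659ddd9cc9df595abda7adab6,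
  nat_lit 0x23f5529e3034304b40004fd50fd590b0812a4c78641b63b441a441a1558561164f114f0e647d7086356b6a240002358a214516446b10fd480079a8900044e085bbdda88dac31b231e4049bb62d55e7270646a226b08d290c0353149314dc1910f09a885ac12f57765574f74cd72a476a205038cce0884da87c5572b6e43bd6a1e0880328c3295a87417f2a412a4c6a1c0f4c69a469b1a86c15d2daf2d966a1a04f511bcd579a8640ed0f290f24000200c800086c589784978127c53510001309350a81ba81bac02600000c26ceef1563d5185ac030997158302b3b4c73156790731d3c380c45000a6a156afc218820d002dc02e061140031a851abe09ae09af225200186a146a136af4326c324975010c300021a848b1c25a66b45000e6a110c2ce0158704002da840197502a210a000d6a0f07a84034002da83831a210b000b6a0d07d86f14002da8304000003187f0947253c0005bbfd12009df89e0031000c540c4c5c305c0c9bd030e5abc00001081108630a925f225f334ef125d0eb30ead227a6aecefb978f178f50e9cd234993c99480031a825aba,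
  nat_lit 0x32bf02bf4096c0008175817780b2490048fc4dc74dc55e0917366a426b2541dcc1cd760d7d35db1c5cd9a9045c85d5774fd6c086a400420257c25985cd5a8fc5b40df5172d6a3e05045c905c99a8f410228dc172d6a3c070443d85c99a8ec11845a4172d6a3a186800344139a8e4179621e172f6a38071853185c95a8dc11f180917236a36085c00200120006004c001dadadadb0419cf04cf061ac800061041093c093f0a24001441150fc41db0004103c37b111b8000c40fd820c4700002103b55fe0d90000440fd09c01f70000103a0b2111d040d90bc1189dc0f48bb40039a8b1ac709566ada096b0f3f0f3d000a6a2b6b18b798871c85340025a8a9ac540170f3c0f3b00086a2903184211a8a5a8a05a124573fe600000d70000dc4dd60697ef898a498b1155cfefdbe9d20b,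
  nat_lit 0x24885cfb6a6100bc00251f28ce7c6f300085c1942db0b0c001d80b51a4094f000146fa3947394371ce6707781167225810682474456b3c00010d81afb03c0c3c00af1cada0ada82cc1ace46f83945394171cc71cb32de6e7565536f9100136a5c6b347b10bfac4dd806a402cc02c094040041a96cc3a4194391c3913001b6a5b6a5a3c3c51494135416dbb5c0035a964e13334348be6f8d000f6a5838795b24de4cde3c0039a95dacc5d9c46453e93000d6a563acc2dd42de507780045a9544411461256d000f6a54092106dc75f00035a94c33542cf37d700056a5205d91a11b4340029a944052096100006a5000bc0000012000610c4733a67c573360db00004a96c155c1538200000007396ad16ee90bc8b5a1b924d1a9424c81f881ec74c874c40001acb00013782378550c470d5256500ab00b31cc81cc41e4b24f16b280001bdf922bc66a447b52293e8610cc10d04841000f6a495e9042f1ae300035a9202e919be19b9000f6a4729dc75bc001da91814417386a466a450bfcbe78001da910327,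
  nat_lit 0x6ce608646a7f04c878a5600147ecf334f304aa48aa290094571c56fd79c910751068b108a3c4a3bda9fdad426b426ba31a03e7e3e814bbb4bc039d439d146e84758606e4759471361c5765f6a7e6b4c67e848544875b17105d942a580f180e5a9f5ad23e003e09654a470f713c4e7961fa6a7c3b4d1115ca71ca7539e187e5a9ed1152c2e1158025d025c6a7a28d9789d86b5854d56d1a9e40936a7a00246aa1025a6a7859f50871089c09780965a9dcc0912c44163600476576a7646c9532d93add95da9d41346d69293a293b6a7406b4d7c8a388a38da9cc3566c9e62a861fa6a720d389a9c9abda9c412e1e1a61f76a7006e8001cae3d4c500df00062b8f39130b0c0014ae3cd8b42ee000073554db4585e3bc538f923b49564c074c0652f652f6955517019a04de204c2118c7da9b1ad1514956d05f006f383a486fa86615710e46635dc06a6b6b4103650d45d71997258c71a9a93db2c4147bf5dc2631c6a6941d0ae1503194ef58c6da9a098e1d381d3147ca63176a672f5d0e410e458c69a9983743eb86f9d631a6a650cd4e410fa3cfa5da9901766ece06c106b96a6314c17f018c61a98806a,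
  nat_lit 0x136a9e6a9d0dedaa7001200051f731f6f06e84cb4090809045289057c0055aa6dad93edd3a0f28a90284027f00166a9a1fbc2a28983184452aa0003daa646fa12484cd700156a9810e48d2c45c4004daa5c34108c308856a976a96092d20000021aa542451d32000b6a94059c3ccc002daa4c2dc0cfe00046a920771aed40029aa4461617d0000e6a9005f48d300039aa3c2af1f5600026a8e0910e6c8d5246748676c8e7155880000f4400024a9b7017245f43b851726b60000447b047ec4c6552c07d39306000002e202e103102aaa1ed36b5d0d6c6e6c2c282b2c2b286305d6757db9be1cbd6421d5aa29ad64cb864584b964b992794279208706a896b541de41dd0b980bd515a11d9f821b1aa216530f4b2abd2ab8767d086b6a873aed78d44b444b3c21c1aa18e2f000b000f12ce086f6a8565404591389938a1ac85aa113144bbc4bb908726a8328d423c803400345aa08bc5257628dc08686a810d387d18218daa0012e,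
  nat_lit 0x4125c12601550000d8339249862300024a5a3676062c000425c025ac05d000060c856cb17b5d8956285aad82c15e5b63686ab502b1aad004c0004004c0008aaec73687348fd8818700006f54120a1200320232055a39c0618055da0524e524f50638a674a690bc9577bc22d022ccaca4b2f9db95aac5adc211a21182e822e7f491b63606ab06a68c1c8b9182c942cad3391aabd69124fd360a423248936aae1c102cb9adfd625daab423623bc23b66aac155c03ad82e1aaac22071c176e66aaa05fc22302201aaa433848076cf41cf04c13000226b820808a4c8a489da800040d140654c12000002c8000096305c905c8c1b035b634b234b63eae47a045b72c1f00126aa56b6c83842480246c343c0049aa911002b950334032f0a96000a6aa36b69b75804e5aad804bc0025aa88f3927d426e41d37000d6aa124bc759d60280049aa804a51594159500116a9f12ad8724d1440039aa784b2,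
  nat_lit 0x936ae300ad6e12003a6ad95de8c6d07c9400f9ab613b6425a425900346ad705545c806f4000f1ab581542bcd00356ad50648a02c00d9ab50167211800326ad30775880400ddab4812f30d3002f6ad105b83bfc00d1ab4020d003c6ad36acf0910000c7fec69a4699cac34cc2d33adadf00021ffa12ad04490450024c00047ff4030c0ae00001ffd22b906e9b524ba80e87d585961bd8d558dfdab2dade10851093604b5f035f0162806aca67e42ee472d82b282b318dedab24a0d0d5100c800c23c462b9f6ac81970030ce32d89f989f5ab1c20b22bd542060d660d56ac60609ab898e31dc0dab149210a4576fa6ac405392e698de1ab0c36628ed60d16ac20429c755dbfdab041a8000d6ac26ac004d80000fa8c8668455560925620000056c001d8344bf90bee0e2d0e2dc957dadd0006089608a363c62859285a440400144c644c8c549,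
  nat_lit 0x6004c56204c49b1904ca8f278d844d400d3ed13247e7c0001ae600050ec54056570324f01f9b6b9400103af879981180003022f023508a400083af917f419a00010ebe4e98048000003afc84f03ce6c616f25129e6c54129461076aef3bcc3da48e8497a0bbb1d6a9dcb9abb9ae442f82eee2ef0772b6aed02f1263cbbb4bbbddca9abb008d1a56495b6aeb02a92aa16381aba806700001cdc193f193c29ce4b74dc98f8fd02dd0079007d03f0f0640001ae30003006700621fb1740c740f1c8400083ec49aa8a164a16c5085ae200010fb24c455f47018000000130063005f004b6ae56ae43efce5e0a06c003dab8c3a7263c76b000106ae21b00a4b40101ab89ab842f70f75000a6ae00c68b5b00029ab7c40026e036c830650a416b9d0a4e00026b851a28cd6c00043b50f06258800000918000170c9c444aca5df85c346f5223c5483e00356adb6b801db41d888b408acc769800f5ab689e3,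
  nat_lit 0xc1f0997099913d36b142c38d2a806940675ac4c0b700316b13000e6b122188980c4f41ac442a96b10004c000ce064de643a741d841d4849855b800026faa4c7f02ec000002840294da58a6d5b97166d1a2d56715d25d500d291d2920adacada93991ae955661329132e144a00286b0d6ba0e05cdd380095ac3016b63680fa6002d6b0b21c9024cf0e40091ac282de6dfc0fa9002b6b091238b0dc00adac2010c15f800216b07071084ec0095ac181db6b096b086b0507004f080095ac101af1d6400236b0307183f480081ac082dd0005004c000c012000000ec00f52e9b4ab12a712f88878487a4ddd15f215f19abfdae70006390e0d910d8f41d66afe64c95635904ddcf58ec9abf432d1d182ed64aa261156afc0c79d2d5d2cd5f09abec1de72127760773b6afa0cb925d58ec1abe415b2a7f77396af80535259125a1abdc32c,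
  nat_lit 0x4207478646f646f5674756554b4b4b466b326bc57ad17749d9e99b19e1e955c955d1acc5af00c9c382038216e571f5d1f5e22426b306bbc320431eca340a348e4e5acbd11622c4644877726b2e04d1afd58bc98bcdacb41ad0b340b3763e56b2c0d58f53553b155b9acac485225563e26b2a02b80008ba58bfd0bfec012c011daee00010ad40ae003c8385cab4cab50ab7ce89000050c27476747800000c58000462bc62b053ac53d4f6612b89aed0000241e393423f330c03fc03fdca1e46f90caccef252fe8c0282334234c49e8005400684fb04f99ac95ac91aec56d7605c5752674867956226618a59196bea0aa7000a6b236bac4f801000100d0b540029ac89aea10c610c3552f00086b2103e898409894003dac801ad6d9234b7000c6b1f28d006b406a5ac7dac7800a23ea00076b1d02b83fa00029ac701ba6db4107200021558cb1878d000040f04acc2a8d00000c7c000115b5159064611b911bc306e306d1ecb000235608f398f0c7b28000419d1b931b9c000001bc00003070c3387b34997,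
  nat_lit 0x6b530031113e10666b4f3e41adfc0b3844e04195ad39afb44e1355a106d6b4d17ac98d8791c41a5ad30ae2186b10606b4b0ec11c9c4179ad28a8a00090048001c0130d580d5a72f760e274bd00034c8065398d9d7d798a95d9144a0839540001afa000625fb3d2361c73633363465006502576c70400dbd0db83d1d704f127d0e546be400142cf42cdd13e8108000425fb41430da8000c5bb45bd8179000225f52607048000043e183e101f700000fde00670f3497d5df957e399441376d8c1dacfdaf86f062f0a11b711bb6b3e00f9dba164edacf4b202f182f196b3c0005038163d944a544950f6d0f716e0de1b985115a150639030902f186a9c3d448c80005af7047271d871d9469c123000004eb0000c65d9891572717261c5e9117932451a70c9c0c9b0d314b23cb2149d5048b5af6000219751c381c372788000465c179f006a0000197029fa2c2065e179e9290162d8e7880a7c0a545195c435575901f0abd0a8f4a90555d155e9acd9af56d1b53314cb84cb94dcd62fc6b356bd1033d64c5acd002d225f6547523d5137385f38562a712a662a5c115d1151440938d909cf09d52f0f6b346bcca040567856886974ff94f191d2c5d2c846a846b9accdaf2,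
  nat_lit 0x73a6f566641bb712561e06c0c00183f843f88503c1cf0005086a086d059c00100124013c1a3000311ed11f40770000833b5b16824900013180080505980000fbcca6e021a501a501c57171f341f3177ad6b656c0802009a489a38dc99ad9104847671f281f2f77ab6b63022d59cd83e1ad880e01a841787000005640014b79d8818d0d0a994480c4830a83dbacca800522852348ab4a6f0a6fc5e19b0100042ddf6e52259a51693918000c24582480ed9d5de4e2e00020915091e27c10c732fe40004b7a0eef5b55835600002de326770d6891ec920575217ad40460045ce039208d07a04005b230402920051fe8a9ec0021ad6db00179a1799779a31e5109c10a1473800106b5a6bfc4e8d339857fc0b38002dad64ba835b535b444ed000b6b585be8870160cc002dad5c4dc26402641000a6b56006dad5401300012a7b44f604b90f1d1d64586db40c58e88bc9b849b84c8bd8450041adad51afe2a6d771520d90d2e0d2955db369d35951144106a6b536bf4a894a8b44c044bec6b9430e031084058693441adad49afc184718435ef31b6d106d6b511e3c86184525b264419dad40ff4,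
  nat_lit 0x433600096b8a08298cec0025ae246161dc100096b880abd8db5d43d5cb56428915888140005b0b0000004c00048bdc8bf586bc2e602e50f751b8bdb0a000028b628b22e826fc82ca5d1fdd1f07d255a35d355a3f5dc540051ae11b09312e5ab073d92b2700066b833560ffbccd6ccd682e900019ae0865c12d212d500046b8119f4ef5c00a9ae05ae009211db2000e6b7f0d980099adfdadf81a816c20008000203cc000496f096e840d0b99288d51cc1717170d6c850e1f165217152bbe4bca00046c20a0d40809ae7d2f24000db07262e47d94bc900020d5959112f14000407e3d673832000006e800042d582d451f752f15b0600000b550b5447e86f0d3671b4c029d896cc96b8878c007dadd5b051ff8179a00146b7409646a4c0049adcc1673bca001b6b72051467140055adc417c00256b726b7004709a380069adbc2130008004886ec994499284c084bfcc11851745160947d87880001b04,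
  nat_lit 0xafe6c75781d64d74b774b7b00076ba86c45b79c3510350c38b00039ae9cf39369146020060000e6ba611d48dd80061ae99ae94f240ad20af5000e6ba4091c888c0039ae8c2970cba00056ba207c9ae84012000447654c7a77845fb93590000d15449f789f7cd2f8cb500024b5c43823a631e200004d5e4d36806400000fb50fba09611534d304d3213ce9be44c424275027317e755499e68d54297e95decc0045ae71b10221223d92d950623062a6f635fad00106b9b6c3c6579b63083e4fd440019ae69b0e0eb41b6a1b723f5000056b994b18014114c914d00031ae60f760fae0faf3539000d6b9755ac2c25b1900019ae5924500106b966b950dedae50012242672e14b524b506d7d0002356c1f1c63c400040df48ec18f500000ed400047c70d22d4fc863cdb0d00001f1c57720b0912107c711a040029ae3c24b39c11dc0000f6b8e6c318dc80015ae3415c00196b8d6b8c05f90dac0021ae2c1dd,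
  nat_lit 0x30d4724ba188c0009b2e033d048200010d3a0bd60b5c0000351435204a90d3e0f456bc21919af08002daf040b96bc0014488f04a68001424355d7129c00040918b5d9c220e7ec1ba41bb800012bb00061737173534383432772532022f3f2f3d0f360f296c68001439adb32db3282f8db1900041735173335381cc00260000c5cd1b5fc5cf04a71b18000243502b59224e0d04000502e404780474a6500001791179901a83ce1b35c3e15b9243384338088f488ddaed9b176ca30ce374af694574b724866bb56c5832ec41084125aed047d1fee000500106bb31c949a489ae8920daec82d800176bb2000e6bb11d3964d09209aec005a0007000c6baf07080015afbd15f9160885f9b92ce990e2a1b1500046bee457d6ea225c32b8d13688e105f6000001ab0000092e059646247e247e1d3ddd486d5975e69da3a5e6a17a597c1cef799b08d644d648d3a00035aeadb14160a160b0622062c229c229a1c161c101c0806cd06cb42cf59bc66c16fec000c6baa6c4c0e49517d3c153c31390121b4702c0b640b5c8afcd6487e007e255dacd3380025aea5b12,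
  nat_lit 0x9e46c9c6c9a09c82fd5494c6be46c798acc0065af90003c59a5af8c9240ad1708f0fa00fa1494a6be25bbc6e7c59a8599daf841d52f914ad76be00d70b060b079af7c059175f437c6bde073013b4c205af74312134f13532b3e44a0639e50fa50f971ec3561355d00006c74000d22bd25847a447a3cdd48659000213ed13f30450044a114c00052e1992655a993ce8b9000004b8564990bf111e072fc72f104809250924c0055af61a9a1ab50e3d0e360bea00136bd72ddc3a5509a5c1440035af58c9210756d0d106c00146bd51a45b618354c0049af506984329000c6bd317d404ec0029af486364b96000c6bd1088093180029af4017f1cc000026bcf0e8d2dec0009af3819331436bce6bcd03b45d14c8ec000841e55ec72c931ee31eb628800006c70002035145e8c5e650de4f5854149cf8936f8fe48fe8962317ac5d96934451c1db1b00070d442b4a2b4743392fa12ced622c0018350878ede1f1c10cc9a00050d3f6bde17d40010322c3234554,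
  nat_lit 0xa44632f62020c0024fdf4fe201ba0007027670967097321600f80b7c0b74e050c9499f25c610e958c838000db2716f116f470b962cf4765088100016c98c0b9034c2220000018c000215341536192862644763087f6c940004848c84a084b9b240000235332ca01b851d451e0e9d442d042e4bfcd2b597d310b9592f1afe5b23026e708e670663b93c571a941a8e28a3290b3f316bf86c8805740580b078b6b0b6bc61186109e119afddb2104f504f86daf6db016be6bf63a002a1c2a14527c5278c031afd49412f52006d006e300f300b6bf429d8a3b947ec40d800180039afccd0b25d73cbf286d000b000d6bf2377c0001d42da6358f3cc0a565e497514b1000105a4736052cc00001c70007738473880b3f6cbf0b3214ad466000191cc11ca5b4403d5c4dd44da9b20000534283427350b32d3103151a000101d281d1c5f500033f86404418f00008622c621456000010189018e05780000fe20ae884fd3c3243dd6be70f24c000bff1af9831d6be5014400004ce44cbc8499c6295869b1f,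
  nat_lit 0x3e6c206c1f095cd7000011b078055252d00026c1d0e5c6f680029b0702460001014443e833f400040ae1b650cef000004c8000906c04bb84bd433d1b2b000141af427a435542593e2c0000898c899488c879a5b2a41ab14ea14f40af86ce200376c161564947cbf2c00e1b055b29051d003a6c140d890fd1b05db04c1a31bd400346c1207710fa800c1b044616327600346c1004bc6b6800c9b03c16e6f366f32000001f8000c82c4d91caf88401c40089f6db28000220a92bec01a0000482a589b808f000020b11a0b0ffc82b9352ce9d0e9cc00740099b02970c0b0071ba71b7000f6c0a6c0931646824d0dc007c0091b02013928054bd273584bb76c0756d08ea593099325b01832e6c1a64c96c050d98a0612ed1b01010a56d364c66c030534c074c069b008136,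
  nat_lit 0x32ec1f9e6c3d15607c187bfdb0f0636000f418e6c3b0880dab8fa75b0e815f005800506c390e8d59d131a1b0e019313bc13b86c3704e80004d0f0742c745091449134c494c8b8c0a4c08847dc46a446b51311464d16651671b3116d40ddd0dda3fd528b500026cc190852bd12cc53fd0a3140005b2f0ba80bb0000001c80019c6f96915e21d1a58354035558200005219d21a337b9493521723c6c00109360fc845f500034183565b1208000874687464193000119e96e2a13f4000105e959504a9417d00086c2c0e1c006db0b1b0ac2c803e900086c2a0d79b0a404c0003566012fa12c112b813380009d4c5e6ddc94019e000110f20df60df01d040001279ce440e35371637104e732502250400096c256cb8a27dd9a9d9bc4de8004db091b2d409516b416be1be200116c236cb1b19cbf9833f80025b0895063916223a1e74000a6c2103d909740021b0800f2,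
  nat_lit 0x4ccb748ef068840049b169b363a7601b600076c590491b5700029b16014104d600106c5708845bcc0029b1581c14cb0000a6c550544989c001db150230001a6c546c530760097c0025b1482b301af4467057e6cb4000003bc00083780b030b0490fb97deceb70eb690c646a386a61b2d1b35000107ec05ec22c0000020f821300f20de21d071d0a0074007100106c4e6cd056445050504468fc31840019b13438a6e08001700116c4c22688b6403080025b12c19514a06dd500076c4a07640960bff0003db1241ea001b000d6c48069412edb121b11c1a401ce01d03da057d0786900012acc4c99b6c5e19c00016a4000200af50f043e7724a78676ccc000402d06c083a4000000b814a21395b1340298dcd9e2456925cea1b109b321bfa1bf920a701d701d86c41275ce0f8e0e9310d3125b1007751d821d751d7245326c3f1a706aa86acc6ad9b0f85d5,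
  nat_lit 0x336510c6a0c6b17d0221c0008264c2664904c90685a80001364c0a6b020c0000082808081ba364b54eb48de383138345ead60116c756cf028fc0aec0ad5bd39bd2c9101b1d1b3b138d140013fc447378cb6c73394429a43aa9ba046b9db1c801a1743174278c96c7113b1ce9194e9b1c007529bd41026c6f01658099e309b1b8216284965366c6d0798616d28a1b1b03160007004d1bd49d00000032800030eb625422f8b2ed5273848e800083acc4a5c5210455809800010eb21293257258175c4c00003ac034a4b080cdf0ce2554855a355a955a71671166f46b307356ce906fb06ff0e02000e6c666ce86e906e81bd494df94dfd7cb9e8d1440963540025b195b394563456a4da00b450b41263600106c646ce05ce98c49c9203845b5a4002db18c3e51e4d235e00096c6212e85330a11c0039b18489f746c000b6c600a4cf2640025b17c07600156c5f6c5e009800106bfc5d9c51d451a4e0a2f1309de6d1209ee4ace558359bf4cd94cd14e8c05b405b23c22402e3e4700006cdc0004d50470146ff8964896396d3,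
  nat_lit 0x1a541aa300050ad55dd40ea4000c12e35c403a9000204c80014d28182cd8235355cff4000459a1452d2c682c6703b8000c75b475cccdfc0eace1f0002772c1a421a3f2c24000566892d7d3ff83d80000599e573d013d667112bc5f345f48a1d4a1e95bbcf780f77514b90fd5b239b48410453232bdc49044b3e3ba675f16a42489f60626c8d6d1d31690258f8bca721bf51b231b46020e02110c9f0c9e43f26c8b1888d17cd159b22c002c16a9b22872c4b6344dc1820181d43f06c891feced0ced096a8c33f433e5b220e7f3c334a795c845a854a8441532ce100036d158c0d376537595d4cb398000821149f2645445562cd9000103e90d4dc044000012e00006f3121f257892ce06d1071f9bacd4c1d15c84ae82fcdb5843011678162cc80b880b41278127c22f82f95b20db433fa63fa827540019002214e76c826d085214522400b1b20c00845399b205b4110391700439238a438a06c806d001688ab20386438785391b1fdb3f20193515350c6c7e108c53345345b1f41116c7c004c0018d07cbeacbea822e8125c123c00e80108f9558609c9810cb97a5d682808480821b3e000530c430bf1350135128442f262a152a1c3d72100c6cf40010d074f8b95d0890b904d,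
  nat_lit 0x590675081784178c773477351b871b8d335e39d56cb46d5c4cb44cc9473931d8d2c8d2bca918a921b2cdb566cb3000c348e348b39cf6cb23de815b000cc000015e00057370693061b077be5ace6020797964824a20002d6d540011cdbdcdc48428842de611c141b540003484c3a177172682164c32abc0008eb20eb3c2f402f2d1b00001432f253a1c526d4c0001212129b404f05eb05ef641e486146030be10beb50f458811aab14766e31146864ed40a7000d6cab6d4894f495214a5d5330f0a4f090c7d8c7e0f824ac9c74c8609146411af91ad4002db2a9b51026935726eb91af71c2f1c2b00116ca96d4051f5b8c0522475a9b2a5b2a0d433df845494a26000f6ca72e40d208d684d6880011b29894e6d05056d00076ca52e3991419148001db2903c06079000a6ca30439b28801300021bac6ebf5fa85fa735a06d3c000172796a8ce6c4e6b0f8110ef10e918b518ad4e6d4084407404bf04c004c604d504d75e1e25a225a51d6b6ca06d39541c80fc81011e90798079887dc18b51e649be7c75a1b27db4d409a1937193d78a23696369735ed70761c611c6a1d606c9e6d30d8b4d8b0033c0338b204aa70aa8cf4e09b8c758db275b4b3a300c9b0c9a0d920d994efe4efc53b82a061d636c9c6d28f7c1caa80a0db31c09a152fc99b47591b26db4975c35717322632271d5c6c9a3a01b268004441e841f0756db26563a27b71587159241db1d626c982c2c34546e183c303c147561b25d0cc,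
  nat_lit 0x1a7c1af80f0869f0aba458c4000006c000543344958642d6e7b01a400110d7d2f112f051ef12b700030ce00ce1177c0008e30cd310482000131312c6004340000a87ca8781931d1f1d171d196ccc6ccb6cca6d715f5104a9048c50540039b325a811d271d261415000d6cc821791e780045b321b31c22a79081b1f000c6cc629dc3fbc0019b3142e8000900480014012000536fd36f636f357d076226d6c001104294c5864c045f045f5b5a00031e901e97439e43a03a500009040846c046b0976d06d000141061ca06dea0d8c00010405696c8c4cb273807380f42c036b821e421db2c7700076cbd6d655c45124c74247429b2f5b2f04f51406389c389b00056cbb1bc86c5c0019b2e814e3d3c3d36000108654b4513e80000193000363e6647f64f2640b61b972df6d6000098f9591f51e3441b00014103410146f72bf000018f958929cc50119,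
  nat_lit 0x49b049804a100096cef02a440a8126812800021b3b99500dfb6df20e0400076ced6d84dcf0dce80051b3b5b3b049826df04b800086ceb06d807f807d4000821e42ad453a4b9500002d7c00083d60603043c843bc43fc43e8862886348b488ac88acd8384a4c4a4d0c96969edb6000012ab02aa52aa70213020d4dd800001260124840890c3c09326a826aa26b0583d4fe24fe30579057564347202000d6ce66d7c3e083e106c2c0051b39c0041b39556a0dfa00076ce41a7812b80041b38c2582ba1000e6ce208c451140019b38405526c900046ce00c51c00c001db37c14201ca6cdf6cde00240008051013d013700021a789b2c77d8000431f14411df4000009180005bff4c3a03a543a503fb918b00002814419d2ca8129d12a331a00678064870586cc80705b361b5e0fea0feb1df501bd6cd70769c0746a040701b3584ad6cd6001001bd6cd5063069f006f9b3501a50ff401b96cd30624000469e86480645cc968618850c050cdb5d,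
  nat_lit 0x792358b8646b45ba45bd1ac86d0d6d9db814355524fc6b1db4307f53b431ac76d0b1555cee06b01b4286366f1c1ac16d09065000386b05b4203d3578e1ac16d0706ad1f206aedb41804e13bf1ac56d051035c08862c03851b82c00140d324c80e350e3a4ce0703f292e180b132e1327639042a900006d980001bc38e9ed4d8103a4e90c834883210ab1b651ac943fb488f00010bd1bfed223c000041e000521c638f018561859225722546d9000108728b12c3831b8154970003721a721c023c000887115d60623000121c013e107880000870d5d404a921bf00096cfa191862380031b3e431d00146cf96cf80209b3dc051000300487da08da4000435c236c24b400000798000498dc7e487e6d033493750f2000026322f9e05ab05a91e7348b5bfb9e1ad54c93fe5d3513fbd61289af49adc9ad40031b3c9b631894188d3850260a11e16e451025000c6cf16d88522052192340b2200021b3c1299,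
  nat_lit 0x32330b4a6d5f02da4c4d7cd57cc9d1e92ff8a7c4a7c00045b4a83ac4b70282228251fd31fcd00166d296c788210820c60b8608c004db4a19aa6529577b129012916d286d276dc4a8d8cab15eb5c6e00021b499b7079090869085d25b000126d253da11f50994099440045b491b6f372c00046d2301d510100019b48800f1b2e000a6d2108586b5c0031b4802bf000833630577057c4d1a3f0a459f30fd393c6db8398c3975bc38000067600040e950e2404260422275a6d3c000cb28d26ad0e1d0ecca36000241360b310b2827240005bd78716812e000072735f4606e904d47cd47cb983096bf52408fab4fac1b465b6d47b83e8042714bcf35fa30d430d249186d186db0f98ccd3c3090307c4949b45c90216556ec3165d33a1491b6d1647149c149c249c089bf9245db455b6b1acc6ff664e81251124f6d146da90a24ef6c546849304939b44ce3900131433142b000024200009e4b432ac32a8a1f4d82d0105b69000164e04bf0120c000110edbc8804d792d64db67a95cdc6b0877252c681acd6d0f6da0de3c8ebc8ead35d1bfbc6b15b438854,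
  nat_lit 0x126d496d480a28000c18fc191c0ae000209a547f60d686b814b556664920c3084002db5193a0102811a011a12d9900146d455de818dc18d8003db51037733e2000a6d430e95e5e40049b50814b2b5b000e6d410b7113d40045b5001dc1c63000d6d3f051447b80019b4f82916f0d00096d3d08340065b4f5b4f02440006506312600f1d0f1c3ef800154188497c498030300c500040454044a1c7b6f6725bc000d41809ec89f04c7d52f700022ef3299d29bf12fc00050994d6946cc09c9000033b617ea04b8933c992c4dc03e3c3e40abb181a50110ebd8a634a64cd9c8d9e12ce52cdc002db4d5b75011101191b0c1684144500096d346dd0d230b994823c8240002db4cda2c63dc1683147d1480000c6d326dcc283c28606124a94c002db4c5a0a79666535796400096d306dc92aed14851480001db4bc1f51b32000d6d2e0a5db4b40120002323532314ce74d9328100004c8d0c8c111311129793,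
  nat_lit 0x208e2096159a159400056d6657105791bc18575c0029b594326360e360a000c6d6462200035b591b58c1f36d7400056d621201b58401200025f0077f7683f671059c42fe71e3b1e36707967e9548d6de000057c1111f435a05c571ac71ad351050d3000f6d5f1fc0d87cbbcc004db57825a00f06f7300156d5d074c743c0035b5703093bca00116d5b052c77200045b5682dc791000066d590a1921b40009b56012f444500026d570910e8c50fc110f8000407a486a4f2d44410000091c0024bb8157d948ad48b1535d558d7c7c40280af80af0ce4015541568bfccbfd110fdb7700082ee31c2c6f7b3f4e3f4f3f513c9014c76dd8001cbb8cc9510b45cbe190a925f00062ede2773276f6ff5168244940014bb70baec6bec6be52dd0004710734380756075528cc000dc419c414bb0dc1144e800027105789d61f53d2b16580004bb88dba012e00002ee244360d68bb4c2694001db52c9cd3bb600086d4a0a4c76e40021b524076,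
  nat_lit 0x69006852a4c31cb001f6d846e013cb15c0cc600bb200055b60d88606416f6518da00146d820df1126400b1b60db604f2448d0369d001d6d8012c8e9740075b5fc3206d7e004800047a11173c41dc74118751870191d45384ba059a559a21cf5112e112d00026dfc79e9ca5d3ce93cfd8abd3c893c84d6000005b7e150d2d6835893580357f000064bc001ccc843b183b489d944f644f5982edc5889e2035c035e5c1c9e9e4c8e81a801a95b7d000645494ee63aa03a9c40e83bfd602800140b500b4d6d65c4d843a0004331d49f717d4000d14b4b538560000245461bf9062c000453adbc083ff000045244fe50b5dce4d6d6db5c864928bf28c46d710c74732d8995b5c06d46d6f0144083c084115c931a8ced4000441000042ea514fa14fc3b293590000c6ecc6ed48a84ced1b7c00022e9a474615580004aaa4aac00a000002e9a43c6015c6ebc6eb128f975d80361b5e47910bfb445e445d9e4bcaa5c76b876c0003db5a5b7b06841f281f2046a956e659f86fcd000e6d686de923a455f82c442c680019b59db79,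
  nat_lit 0x18797366437e491262dc294e294c45131603160a000e6da26e10e375c8b0e2f8bb64bb60eefc0031b685b833de8442a4b7a3c00000a6da04e1d9711251525180045b67cf2f06f6066d000c6d9e07f462300065b679b6749214ac3000c6d9c053890800031b66c15b164600066d9a043c0049b669b66414d39a000056d98090800098641293025b000138aa38950d68efe510c8005db65843935993598000c6d95055459010f940055b6501d3440e00096d930915b80c0041b6481dc642b000c6d91185923840041b64012f258300096d8f05b924d00035b63817b002d6d8e6d8d0910e4988c6800080df1f7e1f7d0001028124b1cdb0000000900030459045233f53f990f450f4d64f000088b808b70cbe4023000124091dee0f080000a4d80c280b9293502fb02f133c227b01f8d1ed7001d6d866e0991291aa85174518c0081b615b81,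
  nat_lit 0x4e2d4d374d35669b6dc03249368936708b888b61b6fc9c7028858fd541b6dbe117566c55061b6f4555638054186dbc023d62b59a5db6ec473753454146dba057c0635b8a9b6e4193360a35f76db804e8001437a837a4e77019589ae00042d2612db096c000cb498a25435a000142ce4641257c06b703b80000dfa8dfbc06a259025921a541a5d2ca12c9f001800136db36e29c4f935dc950494f9085471787191b6c9b8931573156797100216db200116db16e206f601ae41ab510d4f7e5b6c1b876dbe00e41ed927e41f026daf41bc4b40695000540039b6b82e7251f3a8f26f026ee6dad0c78540510d0f7d5b6b01fd1d3519366f956dab07f1c1c88295b6a814e70b226ea6da9042864d5be49b6a037200060cb56e926e8e0c7a444c0014e371e7b412e00041c591c5706e8079032cc71bc719c00008dd0001187c2562256a7a427b275b3f6aae6aa86aaa767056415cfa6af675fc1f306e180001bdf46214e269c718ce59b85,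
  nat_lit 0x2926625b6eba0bee163d36246dde5154381038fc55205528e385b77568a1ee4703d362d36226ddc11b0c1acc1b19b059ae5b76ca670f1738ef38ed6dda19f4335966ad50d5b7641fc6ecf7a466dd801e163299ad5b75c11e754c54326dd60dc80039b75db75413600003ba531de05390bb8758000043021345134f00000450001dbf3c691037803788008c00a140c00061a3b2a0f18dd166e6f7d3260001468ed1249698842fdaab00041a342eb001a0000c0fc1316c59400021a354db8188c000468c896b04fd00000547054912a468cd50a1b7282c1136c22e36dc902b1b72004c0006004c000891cc3754374864c8748874a0b62c951c9538b90db9000011d48117c0f200f2301946e3c0000a71c46bc46b402280239b8e52224bd24bdb4bdd0f2c0f2f5ac3246824655a0c3bcf3bcb5219730440616dc46e34a770a7886ba06bb16231e8bdb70db8c3c34007f007444af4056405f6dc26e2cafa4fd34fcb1cf99164db705691,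
  nat_lit 0x22d022174767bb66a6a6876271927185f94064d0649288b19a219a1339b040600016e58f6f42ac42a9533e01030000179500002714198f199205c905ca4c354c364c50040e04086e549c5c96ec7e107e2550900029b7e4ecf3ceb466646657219000f6df8575ceb7510612f4d694c0035b7dd3fe16b32f6a2f6b00096df607501cd0459045980045b7d4829448431f5000f6df40c2c8d288d3c001db7cc3a737bf794f00076df20bc8bcf80031b7c431a003e6df16df0017041b841bc0000299000000ee0d5a0d5710816f22307403cd23bcd885e385889c7be47bf488b488c18c0d90c0c64cc63d1189cca80101b7b9b9439fe246b1dbc1dbd153f00446ded3af8c1d0c4a83f243f10a44400edb7b1b9360b9350234fe1df91dfd00446deb686c5108511d0c1c00e9b7a8704338b2d6d2d58003a6de910a44234ffc800e9b7a0698069500326de715608ce800d1b79863631e3003f6de511cd071c00fdb79015f39f66de76de30574000c9f8ce0e8b768b76c098000129c2546102b80000a725396035a29ca6f170e300e2b0bec0bee488f27fe27fc7a4e6de06e48639c63a0a45ca3f8336dbb30d88cd895b77db91,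
  nat_lit 0x1113f059205970a704f3c5bec5d6377a73810000044dc808c80796389ddb95d411351c5a1c613dc83dc92e48256a09df09e32ee46e186e64701c70293409a39977f577e18999b85d52f145b1466653e6e162cfd014dcd619bb1b85412c660966ef6e1401c0356d22bdb84c02725c446f66e120a28ae99ea09b844026443e4d8b6e1000940018b5fdc689c2107f40c55844259f700044b0a45c3177c000d2ef92f0808f0002642674f40f4c00059090c9dc15d1409140a582e56fa4e2f67e545d63c813c8048a66e0b6e61e6a1edf1ec5d8c758c0194c5b829b9779f132b22aa42aa55a035b716e092328d948d9459ba1b82047f65c665c47a776e070b91166994ad94b5b818209327666f17a756e05063528c58a659b69b8101194894489e6e030454ff819b71b80805a17347a716e0104511b891b8db8002fa4d764d796dff017c000cf7045adc24300023dc107410bb80000c60dd888b269c5f009a,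
  nat_lit 0x177a000f6e3705101de80035b8d81b300011d431d44682862e562e75a25034d034e6e8000003b4406ec2ee3be70a750000292400002ea8ece8eb5c29f9b9f0ba8226f226e3d4708c308c41c7d1c7f768853b325931e201e163e1c7342000f6e326e7959ddecd91ee093a0378837b86c8457285734eff18c69e5ccda5c6f080b440031b8c5b9d45cb3a763a7a661b3eb93eae000f6e306e709744973cfaa40039b8bcb906e3c00cc00406e2f6e2e33281c4dbaa8003db8b49506e4901a3000e6e2c014cdf28dfec0031b8ac3c01a98702e00066e2a118800ddb8a9b8a425c176100046e2809adb89c013475f61b51bb902c60001336c1bf40b1800000b200001a9a02d86e5610e45d700380036c00bdb891b9b3deb002a6e2309bd12cc00c1b8882b53e9a00306e21076c00fdb88db8801d837ee002f6e1f07181bd800a9b8781260006004cf1a53184000c338706d0a3c0a4621a10000022c000844f879152fe8e4d5229c9e549e589ee09ef49ec86cd86d0086e1c2d08681b9a,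
  nat_lit 0x179a6e566e5507b839980025b95013b000534b934c63f0822db22d43118730c3cc56e98001034a434bc7ab46c386c4cb9a000333f8006f096c0008e95cddbc35a00004a8b61e24d34329235512a34a630a634367c3678a6d5b93cf563a533caf3ca36e4e054c0c5c00440059b93431803fc547f6e4c0504772c7741b92c10c76ab76ad6e4a0484be10c445b9241180d8c0d876e480accd8b5225db91c1bf37693c996e46047c0198c93db9141c5000a0048001dddfdb01ddf1d52fd51d5ba500003c6b45857459745818e41767700017556e90000c051000300850083021834f715641be000094a9d68d0549000152a763b918f00000a924a93415d52a7298d11181121000e6e3d6e8c8864a9240395b92c0039b8f1ba203be20492043209e000a6e3b6e85be1446c0006db8edb8e832a31043101000a6e3911bcd6f0df880035b8e0807,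
  nat_lit 0x384a384800596e7307fc651dc1ec014db9c8aba00826e776e7107b85b8c0145b9c01f605160607000215584bcc4b94000469e19e429f3000009180005398d3988d0e03851bdc038792d9000010ab10ad01b864e0097809ac09dc0b6c0b3c002db9adbab00eb6e7800d51953000b6e6a6ea841cc41d0fb940049b9a447511ed008b00246e696e680c95087cc12c0019b99c21c19e0271200056e6604a80b300b580031b99401f366c46a6000e6e6412c85e800039b98c4806e6200480008c84cc851ce9898f498f85221bf94525816c016bd7249a935efc9a2a18bf9ba900001a0a270e270c11007e0861ac61b50439a25503a400106ed65207432447070921cee00036ea1c81d032103b1039c00086e474657464000103c0c1090370000014200000e7c0e7d10982a1b40d56e9c39ec39f95615534952100041b9690f7120d121101ab01ae5483000f6e59670ddafddaf1b965b9604aa2ec02ec3000e6e57065ce8f8d8f4003db9581ff,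
  nat_lit 0x235a2ad46e9104e002f80319ba4022e4c224d886e8f03f839503965ba38243031703156e8d0918c4d46d880010636009a00a200030865d955d93c00081ab1cc11c531c522e6d29010000192c00104109c9fdc9f9c6f8a531116c1919bbdc18f13188a3edbb000030263026a072474bf7c3f64ef4f757b304eda232323276ebc000829342944bae44b15b190001103f2e6b25e51ee525e400004108419457048bf0356003a6e87002c000f6e8454a131ac5c745c840035ba0cadb108f00676e836e8200406548003dba0435c40d9000d6e800735c0cc003db9fc2161a5e000d6e7e0038de780015b9f445b00044b4375844f0f16b916ac43a26eb8000c940894146b38939809900022dd3146122c000052d0113602c3000028931c8a253cde6c00d000c4bed119300169b9e1bad2d57384f419e419a00596e776eb067a05ce81d500175b9d8673001c6e76001200566e7522b0fb2c0221b9e9b9d019f,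
  nat_lit 0x2133212e00046eaf082473ad53780039bab8695080f000e6ead1d355441bab5bab0406000823bb3c5d0508000c7ca8d134d158f0fce3cdbb40000004d26956565eba58dfcea18ea10474c4765c4c883a483a8ca50ca3c9bcce0411239baa5bb32e602e643b0e35bc1330131b13191ea1713020e47a576ea86ec87c94db04db2130a930c5ba9dbb1204920480034002c4a0d6ea64a40568ccc48cc4d667dba94fca1567703759e17a536ea40275c58986b986c5e949ba8cbea4c15590c5df37a516ea235b40b3c002c003180c1ba84bd777077cd064d36ea0237d1924b7a4b7d1ba7cc1a3c4d461a59bc6e9e01e4e0111221ba7404f3f2f17f617f831e111e1000269b85f805885c0f44778000414001d101cf2d7311de00000c38000007e007f1bf9841b00236e9a00160e1b0e15315d6e995b7d8c7dbf4843d93a313a3dd86dba6121921ca3240128712883be96e975d300adcaa4cbaa0bab1ba586b7322c323329ec29ed6e955f905560555cef99ba506c3235c235b6e930d245044503dba4869e,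
  nat_lit 0x52c052f02a1000c6ecd59240d680d700041bb3045d0c7a000b6ecb1524a6ac002dbb2808f00176eca6ec9062c3b7c0009bb201ab114400056ec704f4d8d4000dbb184b500014213421445c173b00ed66ee80000eb04eb11327cb26c44f1bb91a6e1a6929fb29f3233423384dc1029b00026ee07d6c0a7400040ae02876eee000000c800002ee867dc763c0a51bb708e108df524e4187661600096ec05b5c721471f8d6fc915c9350004dbafc9b34661082000116ebe10e553f154840045baf43412c85000b6ebc06485a8c0031baec1dc3463000a6eba18580069bae9bae418323a800046eb80a4473d00025badc1906608752400030d24bcc9d488000869e1cf62a7d0001090c0004a76ca77dc6009165bdf82c947f307f39d1b9d1bdbb60000232d168910ec10f2716d5168608060851cc902782fb42fbcd425df85df800029bac9bb5792b792f07330730702a00066eb11a74ba34eab00041bac09e6,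
  nat_lit 0x61c2075607543a415ca26eeb10d886b9e6e98cb98c257289bba9bc0200a2007424f424a4db96ee943e53324d3ac8ba48ba1bba01a600226ee8000f6ee70849c6d4d3d8d3d1bb9818f1fae1fb422e56ee507ade469e459bb901ee22de22e36ee3062565196551bb881a40005173b2970096c1a68927409540940d6b0d6ac210420d80001bbf000037a148ac457c35e800b8de8ce038a3fca3e4a70c0055bb7c6e82169457a2901258f0c8f00136ede6ef8596cd2c49eb5c3840031bb74ab8173b2771000f6edc255820d420d00049bb6c154001e6edb6eda0e940ee40035bb640ff22d700066ed8077493440041bb5c1dc185f00106ed60514211c0019bb5418315ef00016ed405b89dec000dbb4c16121430391038d46eb5b037b8d79a05c8d16071ab400016ef48b384305c02043345dd000008c700021ee41eeb2e502e652096209526ff01310136140b70d46ef000047b78a418a42413e413d56c149dfdbbb00001ede083a00747b847bc0fad00041bb385f6,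
  nat_lit 0x118d518b76f776f90ac446312bf0011000e097780055bc21bc871be0f8e70260fa91a3000136f0717300d756879c71c0ccc0045bc1930519f00840083d1a36000d6f056f1d2dcd17846e140025bc109cf35bd355d072200096f0344adbe5c21880025bc0845d38d9000f6f0111cc0d54000dbc0021900136f006eff057472780001bbf80ed000307201ca00d680004676c206c20800be00ba5bc600000533572b519e3a0745606de94294053005480f6d355487080045bbedbc56f76070831342985298079f5000f6efa6f11e05575d5da493d6c86f8003dbbe54551a232b460467047200086ef813d5c480b30dc9d13340002dbbddbc3792c79296ef76ef60779bcb126340049bbd42ea1a14000e6ef40538970c0039bbcc3662801000e6ef2043ca8b0a8f8001014221bc42ea00030604000d330d34813488e044dfe4dff8692869453929c999bc200024cc4536b544a53b14ad40005330534788d108cfd06d00004cc0657b0e250e2b35b532f1711d6ec17b81e475080d0845e6edeea1728dbbb1bc1,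
  nat_lit 0x527f540e00046f2525580059bc95bc9023c521100006f2305f540c8bf60bf414add497c0055bc8cd131ffd51f608d000156f2211255d9d465145bc0055bc849c7249d00156f201524007dbc85bc7c6360006004c0019d065ab19abb1ab999dd1ae500053d173ff8046000104d9c4da023000032d842d850e8800082904291012700013c3054601a040000336025403ce114f00fa00f62f742f76617c6f176f2debfd70d570ddedddbc580bc3e64405e3ff83ff46f1535b93ced70cd70d5edd5bc5008d1e1b223d6f1302a832a5ec7dbc4802d1988090d00010668000822f10c95466c34543464aa20aa192b008d9c8da14f307d747d794ccc7355bca000108bc3a194b8324b945a6090c6f24000022dd49306bb08ba51c941f5000a6f0e32c14565c8c880f80029bc340bf351e352735c700096f0c03180041bc31bc2c393083c16021604280c00010f0c18fc1904a02c0001254,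
  nat_lit 0x11a841792178e1c3301040000786c0c80022c0238bb71e162c2c0c990c9239502ae52ae162c62d2c2d242a6607750778596808a7000b6f406f5098e898340019bcfc4a56fe6093b00056f3e01e8bfd14bd0002dbcf4b34000b6f3d6f3c1131bcec0120001004cc3254b4c259025890cd50b3d38edcb402b902b980005bd309350930216d000027c0000492c0ac211e1885a404b000024ae4f0e12ae12ad6f4892add6c1f41152193ca9bcddbcd9bd1089775ae549054944fc8000a6f35631c66e098080011bcd05d06f3500096f3304314ba40015bcc8112001222c771e072c360110d6f0d6761947a0a4ca94fc97d366c20602f7d83589300036f4097fcc6f54d8d4daddc893fc13fc80008fb625fe31c04e6a4fef4ff100012e68003d623800000b200010c6b0c6237174ddb21ac000070515dd4b081c1252e94c384f206f2c6f3d3ef9ae9151e93c79bcac098000337596f2a0e4c000c249c00701c419ac4fd80b730b713186318d76704d0c17dd17e113b513b047254754735100006f380001ce5c74a94668d001bcd07af01e901eb02d61a371a321a5900076f276f3073cc73b00011bc9852e,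
  nat_lit 0x6f5f00489fc89ff53c394dbc2410242d4c414c294055dc3d40d02ff42fec2d9c24ac0009be00009033b6f9903497004000100076f7cc91d482d4f6110f42da024a40001bde00000014090408fa0af50af0090408fd6f75bd714c555e994bd0003dbd6d920324f324d506252f56f5b6f5a488c252d4749474d4c41bd69bd65bdc524c4ec74ec94ecd000c6f586f6d4928c040c028002dbd5d19d51a251aa00116f560d217ef174180031bd544b23249000e6f540c814bb00019bd4c4806f520048001cdce166705df0006578b51c80e980008f9c0f9c965e4907c9091a0047fa770a528e528f579952e7000226f54cc14b9d4ba5605d4ba40004850530452e700000c69bd314c080004000c2468246d46313fdd414dbda70fe690e6bd17bb95b625b5e347d0d947046534d534e757a75792259225c6f4b6f65e095b3d971dd9a0d2ca1361099b899b17535a4fdce08d344e225cef8dc85bd29bd85cf360885cfd500950105821582258235cff776a6f496f5cc72825bc25c51b194a254a215e494bfdbd21bd62ffc32343239323d52ff6f476f5541353af4c8e4c8f14bf9bd185434eb83234733e5ae652fd6f4514f8001cbff40064050094753611c401c3b1c3b000139a0251870e400001ba,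
  nat_lit 0x1000056f7c017001794b7400040b20005312a41ec1f571f5442386f826f980010c4a508f90904dd9142414239be500033118729a283e3a4002300008c45dca64a0f510880b6000173587357027c0000c48c99305a0312442392f4e2f4911450b50704500066f756f91bdf00011bdd0118003b00026f73070000800011bdc81c600526f726f7107140008006d499801548080001001900532aa42de43034303d4119b1a1b1a53fe13cbcf440f4395939322d1d00edd4edd1cd39bdbdbe36f6f000d2e056f6e046dbdb401300053261736904345c1060c000080df71f00f9f000103c0000941d541e141ec000c0005be20000532150820b19bda800715ed149640045bda1063507151e0507e095d000e6f6766014d294aa53b7425580035bd99be1508752aa5257000e6f650c842c8c0069bd95bd9021c5083001f6f646f630d3183a97f200035bd88b343256000d6f610c80c0500035bd80480,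
  nat_lit 0x9a4022f22bdc124267801c401c82d680029be65be950a0536257b0779300086f980519be65be680025be5c3a77396004f000a6f96063c0039be59be541890005718948ff0190000d4864006c12e000252173aaf0d68691c9c20be388484d108002dbe486b20927266600146f9110e45cf05cec0039be40377098f000a6f8f0c25be40003dbe381676f8f6f8e6f8d0748012c0039be3017d0011000a6f8b05ec68340029be28213000d00000bae0d24c17837adc228377c000408b0005770e4efe4efb53503aa332a00010260dc0cc25a03774a04000309827032096709276fa00008260425e13be82614bed00014eca005d04b800013b2068240b24ec452025d2779b700086f826f9c0104011d0c90011c0039be050210b3f004d6f8700056f80309c00300120002dbdfc2000027002d000c6f7e07fc01500009bdf41fe,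
  nat_lit 0x50db50ce000b6fb727480061beddbed82ff09bc00056fb50c9c000c352164d065f065e1bef0001526f3ad3096c000149b4026835a526e53dd00126fb2054c25b802c8002dbec487209b3000e6fb0040801f00021bebc1c1001a00056fae0544024c0015beb422950c7000f6fac048002440035beac11f00166fab6faa085c00d800e80018243001409b309b200000ba40000020000a400b800ec01f801ddbee007f00800081008409a009a632f000016fb40291c160273c00005eb00031a3d31a857f632e96fb0000852cc52d8a20c1820d7800011a3c006a0e4c0001c669c6600971a393f1a151f15264bec4bbf4bc0560b4f404c4c3eae1187118953c809ad00086fa16fad5f69b549826df6b5b2513db4a1cdcb18a264a23927e95d4cf198f1a5392c0021be81bea09a500246fa16fa06f9f253875dc75cc000dbe780e750bd328f00076f9d108dbe7001371847c874c3d2085000032b40005c13026fcc14c821895f,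
  nat_lit 0x5379008c006f0001108c000001300015a085b556da36da76dab7bb829fc24b816c516c20a0c0a063a9a4f1b0057005d6fd00000fd10fd0d72415990e6724ac24b114cc13d813dc000b6fd117f53c785e040021bf402fd6fd50058000e6fcf21c400f40029bf3826f6fdb00066fcd04082748001dbf30121001600026fcb08a40049bf2dbf282b9009e1cc300ab00a609d3000060a00011bf34010000fc010c008000694fe000300333086008b00874490000800c402c402a89530001002d19ab037c000000ac0094057002f50cf320a3e2d2af82af7767752e945db45de43ea43e8525c2d5c2d5a00056fc46fcdbf40013800f0002dbf0c475706f00c500026fc202142728002dbf041746fc0004800100513334211e211f47a1000200f0000c0184017c26f826f5de05445d4f950a3cc3d4c3c09a71bf200020b8d60137a5560576ce8521b00c06fc400042df85d5c59105918e4600000b8300be0d682e298041485148540021bee8be20026000f000c000e6fb96fc1bef000d00029bee030f,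
  nat_lit 0x48000e6ff207a0023c0005bfc445b0000008c09ca22bc0074009000003160004784659ae7a2d60ed6d2d536800c76198000de11566b543554358034125f0004000200a3009b0002562800040288026ccb8c00f86c50000524400f2096c0261bfd802302e11c2f9d23ce89ce889cb8899a888cc88b54b6c285428440041bfa9bf700486fee0042000e6fe94884264c00a00021bfa021c002a6fea00076fe70f740244c2980035bf982476ff0000d6fe50a5dbfcc0035bf901746fe300480014015c6a780df000400531d900190000001200001dbe1dbb1dbe00b400176fd80324000c0001bf7c68000146fe300400ba5002b00136fde1ca0015801d401c401600164003dbf75bf5222000b2001a6fde00116fdc22d4030cd318030c01d00021bf6c7ce50bc32761788178a000a6fda0bf14e014e740011bf649d2005100096fd80ca00039bf61bf5c2ff00a800096fd60c9c0015439c01080bb,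
  nat_lit 0x585c513300127010002d4eecc3480029c03c0345dbe5401000c700e0f5c0061c039c03407e58ee0005700c02c94c24030800083380b650b661a181a190b660b6428cc0ad10acf76ba674a5639607200c4000100006ff80010c33c02ec03054c1c001dbfd000330ce33055125512200bd37640014cbf8cc08001000088f8000130cb60d0608c1fb0000001330c8459500890076700d0065000e70056ff0280d4c0d4c153e24baa0004dc011bfb32fd0075000f700307b54a306a500035c0083761a930004700105e8006dc005c0004b90a14000c6fff080401600031bff8202005d700500701a8a000019f8001181618175819960e560f9e37c6a344f00003743d352f383763742bbc000944800278028c01145a80001581b1a8a02b80001815403ac35a7a9560677a9959f159ea54f2000e6ff86fe80244001c002400cc0061bfe1bfddbf909c8004a004e001c6ff76ff66fe027f8010c00f00039bfd4c0d003f003b000b6ff40738280c0039bfcc298,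
  nat_lit 0x486938693da2f9985956cca4aca4959979f228b1e1ce9dce90536c5381cf15a435c0b5c0711577c597df16c6a3f1568cb702c2b04961dd7198a55ec61c0ac0c64bd86906702a2c812e61a425c0a409700001fc01a371a383e64552348ec7f0c895cb05dcd889ee09ed9aa79af61efec00400059c0a1c06587451510077702f008100a800a4702756610e110e7d89ece08000580051c099c05004d004b0060703000a37025282c02e1c0c402a002940285c09112529d200197024001170233de035783890001c0041c088c09010900b3702f702128d403ec01340131c08016c008e005a0051701f121c02080225c0b5c0780eb00d700bd701d00c82dfc00000004387830102fe8e9994e849aac9aa8d620d635a285f0e58dd98de80011c0400000e1c0b78155838783548355d529db5b5e8a91321131d2a4053d453d0d12cd1318e3d8e54279c0001c030000784809fa70cf01e963ed73cd94d9f0f5931d738d0cc57729fafd8415841d86bd518544b4c3740051c065c025764576719d519d619dc4ab42eb073c02ebe0a170014701870055d210e5d0e51e0a9f91983bd82840041c05dc0000fd00f80a250a230a293ae1001470166ffd63f97759e10803640325c0900055c055a2253695316531430db000c70144b41617d4c48032dc088004dc04d20f00a1009b0a1a000e701202914d9945080049c0441b6,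
  nat_lit 0x457050003d704f704c00e90fe803500379c139c12dc0d0be40c290d8c002a704a02894c8c753800a9c1246cb60b35548002170481214ce6000adc11c0ae213f0029704600c919e01a5c000c3d321cb069b00020ce099b41a8000044b500020c017a1a6e2979ea33d336ce29762971784f52ef187b18760f8e0f883694703000042fecae10ae00e6741a68a2200000bfa11f111f22ff82ffd450c2fede319fa1db6adb6b1e2ed499d5d355f295255c101c0b422a759f5cc86ba84bde4bdd745b33da703f70290f55d6e1a335c0f81ed218272d0691c703d04b0b1559819c0f017a4a547cd0703b080c8415a2cdc0e828a4b7a68d9703907b0cf40cf4dc0e02a80000243b63e40d6890c8a05ca05524fd3fb55ad952b95ea40001c0900082bf961f01180064c065361c4001cafe99feda0c12de4453000622fc22f622132215061c0014afddf1ad9f34778426900042bf81ba41ba0222d7020000c712c7124f5d10b2000222f8059305940f000004afdcaff47e50294,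
  nat_lit 0x332159873b5277fd7e836c805e3d78961d7b1d7f0011706a70594d8d4d9151654d694d74004dc1a5c150016000a001b002162040014706870514bc14bc4c49cc4bc0049c19c523274c010200ff000d70662148a4f80029c1945575359000c706411cc0065c191c18c17f534d000b70620e8cc4a4000dc18433853540001706001754b4d46f0000c15e534d51ba00020ce0c47562ad51354b714b6800010ca00011c001bfa2ccc3ca53ca22224190b4fc54fc66d6161736e235c3058bc53475337704c00000d240d1d60e204a20472cb82cad1dd61dd42406000f705b70493ef93f080045c16843922a8003c705a7059092d4d514cdc003dc16134f5421000870570774c46c0021c15820a540000087055051587c00031c15016e31180001705305ed4b200005c148190214b0e130e1a756856c756bc56a156a35e2d62bc62bd43ba01600071006e002b70527044ce88cea004e804d80524b281205d7f3d95611804f7550aa50ac5d560363000c5c145c1000050be25d697d1969c56b5d626247af191219114ae86149770033a500347050703c285c2850cbd0cbdcce94ce9800a9c13dc0e2147214c1d527287002c704e445828842894ce7cce9000a1c1358ad,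
  nat_lit 0x4647340770872c50000cea4c44c044acc2081d59c4301d089fd47aa47ab5c1c0001282228374b6c340533fd453c7e18688a4920491d5269706c0000ac1cac1435a4e52487a1c5d7084042114d0279427b1c20c3a0365109e309eb70820b6823bc23cc716dc204749724a18277080070522487149c1fc1182eda1c53707e08a514dc7155c1f41c63c4b1c56707c06640004026c0274001800009c654be5a093fd00dbd005e707e00027068c5b800c000040a03141002d000008b000014dbc00cc2285373537152ff53010010707752e0006dc1ddc1d8000d50f8000dc190c250c250c280c52000f70753021e2d5e2cd44e8cc980029c1d11bb78aa543f5421000a707319cde2a54ba80029c1c83a75402545c000e707119d947240031c1c031a535c000c706f0830003dc1bdc1b81a451ca51c6536352f552f7000070600008cc7d50b9471547194d45c17000174753d543d512b4326800000cc5d502804f,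
  nat_lit 0x60c000170a50e5c54e00019c290009000800480004012721a05c500010460e0c017240000217000571dc110205ca611000104499262c5c400031123722d092400081e781dc0166000171db11261cf800004484180021a111a3417709b001150bb4005709a473d1f295570e3fd0011c26593d525b42293727372670982b00aec8fa7542e10009c25c0cf14711478709600055001f5642d3c2d2c46100010bf21f9a1f99170a16fd11790003396122f49d9445e800083563597117c000102b8630c45e800000320005234e2f752f7c32cc3a3c3a3466a27d345eee5f306e6f6e0c791d359c117a709000108d249e149e29f719cfb88e79cd38d2edd301940c1415c230003234a43777812780e0da80bd10bc724470cec0ce8708800088d1deadd7730897c8979c210001234b25a908f808f9275164bc00008ef81db41dbd250062d1c202353231c231b68de644d638901c301c4236f2395239710cd10ce3ab53880340c708b707dc849f5c9dd252a787c2dcb9dc229c1e37146a2b1c7d708a0006340170897074768800100014d001c2200ce,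
  nat_lit 0x20f14674d5f2c4b2d4b2a3e9800043c70963c8fb043645dd00000f1f45242dcf2a803c750d1dab3d1c8c0b980b74cb64e601d621754da16c67e867d8e050960c003dc305c293daa587a56641d0e1d11489e67785c2f5c2e000f70c070a0fd59b1751f6ceae0eaa0c94c0069c2fdc2707a5354135403252001970be3aec74d8ff90bf480045c2f49ae3c593c542fd1001070bc33bcac88bfacbf48003dc2ece2a5b20527f002370bb70ba336c553055340045c2e4a35155d155c001170b806b41ab41a980015c2dc03473a125f2000270b603ac1f580019c2d447e0f10000470b406e800041a881a8497bc0530000004c95c9d8910b288cb88c3c7de87dc8d7c8d7d16d14a42dd859b2a1d850ff480065c2c9c265c2036ab36ac78a15298001070b11291a635d51ce6ed9678c8a80051c2c155a07c8210320fe240e20e0000d70af51f1ca6066c8445844480041c2b8d5b154a051d0519060f001270ad7094bf0155d51f78004dc2b063057103467001570ab1b0cbf19c2adc2a80df1174001270a91a7844ac0039c2a013805d4000770a708b94a2c000dc298210,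
  nat_lit 0x1183000b70e107d8003dc385c38005c00053e293e32051b051a237400011e491e45dc719f987bf5c247f6c7a881580157d001370de5be10b490b2cca88408c4090003dc3750971f3d1f3c2c2f2c33001470dc70bc8f180864084c42f4003dc36cb775bda1db1156f001570da273df514fed8f208004dc364b55217d045d001470d808d88609c361c35c6362fee000f70d6057d1cf80015c3543a3186f000a70d406ade0fc0001c34c13d0009004c000001372131162470600021a553a9d1bfc00042e347464704000004880015785579bc97f497e55e00c9a8c9c520c55e091c09c2e00047afc7afd545f54fb5c66669e481f48240a650a5e70b4000d2b652b5dad95ab25a39c1074107042ada9c00023cc135532e172e19612f7b6d28d520f270b00004083808041115c4641179a2c00003cbf0fff088908901d6f25c5252c7164716d24f526d82898289c8b4cd9212feddf00111c113085b085b5c321c2b7486694b7c1250477354216c70c770a8f1b850e050c085adc3190f61559127d1277142870c5508011104585c3105a1,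
  nat_lit 0x280749b63216320f314c314e47372d861864131270ff70ec01440174ddd528d932c5776c4c3dc3f9c3a26a1373338353d453d49130c70fd70e56178b211d1c4d5704c25c3f1c3804aa04a1482b1864130e70fb70dc565856482edc2ee84c21c3e9c36001570fa000e725b70f922b0e828f1a04c25c3e018c12ea7258725970f72ae84bedc961c3d81f6146c130970f504ec0008136813601b881b7538b495c495d93d39a3a542a942b55dacff64ff71d489c35000172c11871481273ef1678000061b0b36025b0de90df1390838ff4fc338fa2d3d2d391ec457f4773b2ca324fa73ca250b000f70f270d0b12c8f948f78005dc3c9c3c5392141447e94f08001e70f170f0536d334933440049c3c1c3bd1ff2c131d08000870ee4dfd2ef0ff5c002dc3b58881192000b70ec0c804bd40011c3ac1f270ea0049f0a5dc0000000f000021d0a5ccf09d309c9328246b870cc000473a073b8a3ec60c094c00001d0a22c334ab2740741811f411ed5761407926a5ddb5b5d1f54c0035c399c322be1108d108947674766000670e570c47f307f2c8f648f400025c391c3050223e6321f721fa000a70e3216cab98abb00015c3881ff,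
  nat_lit 0x52f8532b532c7495711d16799535a34da439d251c47167c78354e5749532cae711b71014c2c1c9c1ca1c46813419f54f2e2cad711904951cb9c464003dc460a63716904802ca7711701b074b88769c45812e18a418a1711502c83c30917491710b58000ce2f06e906f2245b42d500026540ee7502e9030c0004bc5748942d1000000c80004805c8b70c1101b00000201b343a01b88071e34946381a4c1a6926551c91c43dc3f717e05e005df14971fef710e70f8c0b8c0c4d5b47fd07fb9c435c3d16781322710d00171fed710c1cd0db9002480260ae11c42d1ad0464715b0471710a01ecb26011c411c1c4243dd2dbc301471080decc460c049c41c174710600489cd4428c00103b5319e10a6000308b00010a021d7f5fa6db2793190dd90dd8cdc094589a0ad1d0d269da43d95f595edc3c000326eb3d4523100a6638480008a00c9fec29a829cc0c60001280228012d0b109d4e0c00006344634c9efd2b2,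
  nat_lit 0x283575536c43652765240020713c000f4b8f3666366a7b966f806e857f7c5406713b71240784e490e494e4bd3f75548154e954ed665d5109e57dc4e9c481f2a55875587464f4650713900d89b5c8e408e4de575c4e1113022902262392795c713748cc3448f9dcbd68bd71c4d80e11bdc596c54007135298cd8d8ab90aba1c4d006c282d33f1713306e8000c012000526d526ce0e690e5e0ab000105389cadc53b00b18c4f0003217614d614d5472022640008739073a0ea0034c00015838630c7ccc191400000124b804b885dbf54395b1e15b415a82db22d762d7412cc12c1048b04924d330011712c711cfa59a0c1fc2ddd8cc170c160c465a6d9fa3958bd58b5fc59de6cb2fdc4b1c4adc46031335b05628562a1a050011712a7114bf2d5b2963c5ac9dd289c4a9c4a5c44501476e32cba7129712856e455b41d5dc6b40025c49cb21195075d7749f712771260d0c43f80021c494b20072000087124025c0f5c28c8595400001ef00011d3f1cbe1cc028fb3a0c000074d462586254b941d3921e0221b59b873fe1ece1ed17ad36ec360926e8159312b06778d77902cb47121710c3a1c932471d071d478642aa82a8c89ddc481c4210ea17ba4b5f67b87caf5f062caf711f7105c68c1d05d739d259c478a36,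
  nat_lit 0x34ec22d622d7263671572810002d493d5481c558133015b0154799c7155298c2cf5c8882d35c55006c00083c8a58b254dc53e053e31a15232e4388567259525b5e5b6159c159bc341a28517140001cd060ca90ca8d4da9592137ed37ddf325f2f995c59935b209ae61db9c08f5c4f00060ba20ba448fc53bb0b4a0b4771534d0c0015493531d02dcc2dc80c50004524b574d300075101db8000d43f543f06ffc13400020b9e0b9d0b941b2800054929494c06389c90000341128490d6943f1c531c52c066714a01300008079c06e006d950908939cfa807240025c4e000101e601b701ba024a026671340030c9e5c8b031d882f882e9743960511605050d04fdc8e434914398c014c029c521c4c01e3772e67d467d70fa10faf726a0fb74c1b4cc84cbd52ea0e0f0e0c50f77147712c2dc5c8602e2d43f1c518cef0f8f0f9029802982714503e8cbf568d143edc510356543030043005714312140018d26dc5080b2321350e300032a280010c9c5c89031b4c99d54b549d80564055c07fd552c06fdc4a0003349b45021ca61caa17f00008d2691404089c08940af0001756359304e2d4f89292c0000d269504c06a09c93496713d713c0199c4ec04c,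
  nat_lit 0xb2e020900000528000c09b4099c06cc06c8073c08291c000020279027801d701c701c8715c0005ce352c086f300001c251c5103c8003dc5c1c5bc1fa54fd0006716e02b1c5b404c54750009001000002ae80004066c069000ac8080000719902640450070c071dc65c0774077c0039c5a955a019f019d019701c6000671697159673151c551580035c5a06c83a39540a74bf000871670dbdd7580019c5980df71990007716503c80035c595c5900fe5474001000010d70001d054505411199410154a4c90008ac088dc638090806e9c5500067979510b0b6c0b6a0b5b0b5c71636a380015e5e1442944316b9c704dc540004544d0b3e0b3822ca3998000d51302cf42cdc8b0d8ce0002544b0b3c02817190382800054f494445c5801340000544a54e302652725510dc571c56c0b9715a01440000060dc5d1c5cc05699f2cdc7895609569e5954e414e39d9882a1029ec6011c533314551e528a3475022d718202370f040f0340c740ca71597148a15ca2786c786c6d03110325c561c51,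
  nat_lit 0x272680bad102529321c700023717c0005c99c2edc08e008c40c6000072660bad305400453acc2e7545057ba9eec8d96ce209169951a567d800a5c639c5e02120211027b1eb478914cb501c40027718d7175c6340028086c00700085c631c5c345534564919491c0026718b0519c6d408e8008dc62818f01410b67002171890a4070f80081c6201fe02bc002d00021560013d259899bde7a4c818c938869c86a40001c5b00020b905a0002980299026000042e3d50b1d38000a440700000b8a0d8e31f6329e5f902e157bc9555165b9555555700038001dc60dc5a029002890283028200087182716407f80019c60414e54850001718001e00151c601c5fc054000534283427454810a00009c69407a407840a140a2c2ec9712000101e771a1004606380000074c0738002418d02080ba50ba7027a027b2879717b39a809e008cc084c0794077dc5e9755013671900125287b71797160cd3ca1f1c5e0556464a749a717703c8001c70a9c5d818100000024555401c8008808340004050,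
  nat_lit 0x36000971ae0a5dc6b401200020d5a1faa02c8000037fcadec34a034b8d540e042ab374ee0849084b29121c5d1c600d8d0080007a00774010022201e201de71ab71a8358436c83f3006bdc72c0725515807280705c72c06e1c6a9c69014c53231fa60c060c030c075152306f0057005b71a971a00844a2b5510d50f400f800e0d1600a4409f409a1c6a1c67003902394759345e34650bd4024e025771a7380800980adc0ac00ab16ce87b1c06c006d1c699c66002e029271d8029e71d471a5343400d8089008b8092c0951c690c5271a571a9004f005171d271a327740b25c7640734074dc745c6893560004006a0228001500101c597194000556487aec0aa1c7540af0000558e001d06e95645bc157e296aa83f44310430f8f80c51a051683838384c95d0a020ca780051c67dc643f2b0716071a3346787278744bca79015631414d4153415b369375f875f6000a719e718c01a1503db441693d6b50d1b805300051c675c6201e20239024b0247000f719c36440138014c00d1c671c66c94e00187271000c719a299408e5c710003dc6644235599289c0010719805c000740019c65c25c0065000e719609b9c654013001802ba01fa01fc0047000544b8d9b0a204d294d281f37c850071e800980009c610000004c000c2e84c9b005340564050805282dc1c60,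
  nat_lit 0x22771f402160270000a71cc71c400ac00a40079c731c72d3bf0bfd0232001071ca1c7d4d080045c729c724294009b000a71c80439c725c721c71c11a71c6004c012c0129535c2ea001b401b00005c700000004c00006f49cf64ab10aafcb491d521da35d550b6e00bf00bd8b52d2a59084d081c01d9c6f15f615ef2de341574975001371c31b800995c7bc087c08740041c709c6e34760053001371c1280d4aa54aa80025c70015500985467000671bf530800e400c00041c6f934f0029000771bd08f001dc002dc6f0167006e000371bb0829c788002dc6e817d545a000071b90a44000001240105c6f400dc01715331c6d71c1542b529b529d554c00005cc0000c0155688953097e1c8b1000271bd0034003a1020000401580bdc0df000000543cff22bc01456d14f2b07aa05ef05f0cc89c9dec34103404340037b034d834dc34f40021c6cdc6c0be3026a71e0026371b371b271ac01ac013001240035c6c44750c0c0c0e000e71b01295c759c75c001dc6bcb34,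
  nat_lit 0x67006100a500b00052001071ea71e002d002b4004dc7a48c900c40057000e71e8074402c802b40045c79ce260041002071e771e617a403040025c79430200b1000e71e404887f8c0039c78c1580be1000971e20528000c0610062808700884a750002018301890220021766cc00040608061406d800e4e27000054d1008e02ede92189896ea5592954a554b16c0d1818e9dd623d9fdd25806b05cf6c6ab40035c779c770212026202677214001171dd319802c0007dc7780031c77011d000200000049001371db5be9c77c013800b80035c7682680bdd001971da71d906c002200055c765c7600ea02080c07000d71d70f0002a40039c75810e0036000e71d509adc7500130002515b54ce3d0d749417f0000545695334087808600af00005159546d546a006b2a9d4566002d7ed54b354af8323032010245ac948109d114d69c0550053c1d2c0045c745c7671d171d0000035080ccb0cc80f451eee54e7243a02ce000371d51bd5e80d53a55759e8ad51a40059c73dc74005771d51c8900760075000a71ce71cdc73dc741c7f80284001dc735c72,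
  nat_lit 0x55333ae70011720810e4031c02fc0039c81c3e723c4001172060d88d5d8003dc81414b72e0001072040b700030002dc80c14572e00007720205b8081c0039c80417b54f8000e7200084c001802e1c89812e000500b87a5f0d6800008e2c8e31283862d86a1359f25a817d817d5445b31f675e575e71bc674117f126bcf66af7f63532d532c71fd71f80b3409bdc8a809e4eb4c9519d369d36494d9f3d9c7f1c7d0bfc2ef12f0066954ea9237a2371602c594b7e3571fb71f1df49b905481d4708a328a334a349f8819015f3d1c7e9c7b00a3002271fa001755cd57fa184a184871f96f58eb41acfdb095d9a0df09f7319e619755c7e1c7a3acf65e446512cc12cbc71f7131cd581f91918511831701dc7d98450d450d3d32f232f5561971f52e042f7919217cc5f135f8bdc7d093701f010cf10d62cc75c0471f358c5397939ade9c8b2d4b2ddc7c86097cbe6353639a7ccc63a263617cc4634e62f95605000171e40708071de8b553e954300000c8b000501a15a6f7a46019c019748240011c83c06cd4d9840c000301a82379177c0008068066dc08f000101a3019c0ffc000006755398193,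
  nat_lit 0x437b6c4545ee34cf34cd60d660db7226720c93301ee1cad5adadadb9ac2dc894e6516f316ef76e47224273512d174d19c2dc88c1df1e4274bb6b0a722220c9d7ddabd5c884070642567067220080de8a9fb4dc87c12b15496722721e07b0c8499b29c8740255614234a0de6000006e00018610841284124a994a984378dc820005333c333e7cbb6089765162c0001040cc40c4946dd3d0950c7c400033c8a7df71bcc0008f2295e9c8af00011030102c08880000ccdcccec246354b379226b826b43855000f7215286837f0004c0040302c65f40021c851c81721c008a000c72132735351c92080045c8483760dc6000c721101b830200031c84007600167210720f04ad54bc0019c83807d5508197100010f4c91f865e80000193000053261971027d4c98aa28aa2c95a495900039c82dc806982429e2fd20dfb02dc000e720a1b815629563558d558b9c829c825c7f,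
  nat_lit 0x2ba65e667dc60be4e6b1f26342900da00d803590360732b0ca70cac00ac00117244722ca7accb2ccdac03300321cc785bb45bc4d71cd70c01e401f80d2409340051c90dc8a024700137242000275ab026d000d724272247b4553296271fa20002dc904dd22b6a2b642e227e8c000a724072203814382c8dbc003dc8fc1fb724400660011723e12958b19eab80041c8f407a0e0e2357000e723c091c00adc8f1c8ec1f30e270006723a1201c8e40120005009901e102c900190720b05cb03d3b680085c8e1c8745bf77d559293a5a5aae002a723717b9a8f4bce0bcbc95600075c8d86610261475f00277235280c389156cc009dc8d0341009700a6002172330f9c00ec00c5c8d1c8c8e030f8f001d72310d8837b00081c8c016702370020722f0b7037e4004dc8b818356970011722d0640000917a079103ff000145e840cb05747aa87aa150f550e4000404245e056a300000e4c0005cd919b5df755bb797ebc60dc60c14b384bf84c00db9c4c944c8d8115810d6ad5c86000010ea3daf58c977bc44982e612e653e7872144394ca3514accdb8b018b00514a4b06c420041fdc89dc84,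
  nat_lit 0x13d007200760cd00cc90015001372627244042c31c5cd183215288c96c096d5c985aef72755370536f25af25b472603b61d2c062b503315385c97c0490128537054fa54e0725e4118021c08200855537dc9745960f280f2b255b7790725c46c80d607e5d5381c96ca340229725b000b725a03ac040d5385c9640ae0003518f769535ca0e19004b003f67b800085318531cb5d4a97000130a87de515240001463d536447c309823791ee50014000b1f91725572410fd10fd5a02db9f1e025c951c8f35d30257025e24ca7253062001547df87e011a01c9483d131281f7f025b0258725111580d440d307e31c9405e654d31f8a1f8b724f126dc93c004d19edc93811b0cb10ca624c4724d0618c48d19e9c93010e004e24c2724b0469c9280130001003a003225747ab31f8372396ef95e880008193552e57a4000104f40004d7bcc03c68546408bb7000075c92d507234d7bd3ed84e781a9c1aac5e801fd01fc9fc01d7747241d19871fd02a11d840039c915c8c,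
  nat_lit 0x728d00c830ec02e80309ca6955999b711195ec0106ade5885540553535416a494935ca61c9fdc9903440390038f030f030e0152727e726008dc03880390039c03a40531c9f5c9702af00a9728700b9014a727c419002d002e9caf404fc0521c9edc963365336c52497293727a135c00accdd910500531c9e461e00c70012001172782a5c15180525c9dc0a0728b012e727604e003d9ca35c9d439700ce011c727405080294028403b003ac00093bf7adc00e900ea0001061803740368000025c0009013e00ad00ae00c5010e010655400020050c0cd00cdc0a880a8c0e91c9500070143551500c100bf00ca727c7250001804f80c9c0e00399c0bd8f970005013f440753f825be4d48001004f4eb6c5940003012200f60880000804e003f415e00017280000b0b5c000004f402904a9012b00097267191802540025c99831d54ed726672650209c9900510000036b0371032e02a4010d724c3970039003880011c98d53a95499ea3dc98dc92,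
  nat_lit 0x57e747bd47be0d3b73900d2e729e727c354435490c7d34c4b1fcb1f9ca759a40bab0baf3dd12e8e2e8a729c3e989465d5cdac4d6334ce95ca6d57840614065381876a4729a221ddc1cea4cea3cce9dca647e956335a7c33a172982a5c3e44a661ca5c5563860339c729603c034803471ca54210213b33a472940c51607cce69ca4c31f10b22e80729209180040001000a000840009c9e56ad001f0020000106840000013000a0144011c00f800f700fa00fc727400240e740bd80b91cb09cb040b25c9c00080c7d55a80105010200fb010325ec001c0ea00c640c5c0d680ce5c9b000603a70318001e001b012072680014022c022956e48ee043a00041d530930177c000dd2e5d2e808f00020150002b188c000404c1ca7048200000103010713f403540031ca10649015272847283206d49180021ca08287728101447278bd50bd5cbd6cef44050000006bc,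
  nat_lit 0x425d0d4973af0d3937d6001372bc72888f3130c1f98c89080045caecc66781533471163001772ba4e8c5d485d40b291cae9cae41e32cab0df673b8001472b80eb50f596e017510003dcadc26845f5587c000d72b62540aea442840021cad4a6525b625bd000e72b40d08390438f00041cacc1700dfe000e72b20aa5cfcc0039cac426e72b0004c000ce104ea9ccefca6c803c0002383a5925096c00004248e0b5dae4ced4c85109054cf54d05710570e2caa2ca52c9272ad2fc4e0e8b75dd8e0f85546790a9cb24dcab1ca15eeb809c78b448772c8e72ab283488a8d4c12965a198b241caa993a37c237c4407f2c8e72a91e511821181cb22dcaa01de0e230e480e4472a7248517d0b219ca9807233ae2c8772a501bc37a4b239ca9010f0e3b0e4072a3053503edd851ca880542dd6113f10c7000005e000043cfdcee43dcc05300005cc233c11edd560555fd33e1d8b0b76193c4dfccdff1f259891d5a250ced2938ebd0e099daa5ca7dca0,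
  nat_lit 0x23ec23eb76b33174040872da72a8397c39600058005dcb647ac0e700e782cc5040872d80a205c0c3554102dcb5c5e60dc60d57040a72d602dc394c3930101dcb542f3336772d5001272d40a51046c1021cb4c2a90009001072d20051cb4401300030c0b0c1715240009dc6d418c63c00010ef50ef405780000425c424847c11040d7c0d7a25d025d94638000072a4000429902989584d58615321532553f153e9ba49e70dca800004c9255ca51bc0ef30ef04c15323936013604821881f88208e56021c421d16015cb29ca70f480f5011a811a23afd0e300e3672c97299ed7960d56481edfd8661ef71cb2108b72c972c8000d0ee30edf5ae272c772943eac3eb5ed5dcb184ba34424d3372c505e8386d0509cb100762eb75ae172c30c100fd16151cb080261084561a72c101f5d3a073ac000481b000118ef4fe70d510d450234000063c0aec80b218f443e943dd42cd42ce7c217c1e55eb696f1bba1bc44a1c64e86e3c7739001272be7291fbbd248c77e877f4e51127e523506cc0619861a81c7c1c541c355dc168f0006dcaf5ca3,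
  nat_lit 0x2554766f16f166f14787d3bec000555016ed6017604051931cb600001f961f973883343040c767355501a6d0c324115c116c9ea1d7f89ed439dc39d439cd64496420b6d0b6b9cbd5cb510cb10ca78216ed37819297472f472d1cbd000303e1cb6b1cbccfc20cd7394272f22c800014d048af943d30004340b596c0e980008813c81391c1511e911e1332133192a152a10166816401c90131013003dcdd02dcb30001676d68b066c46123075907622c2c26da72c800019d9d319931b559f4d1cdcb1676968cb655e655c7fff5d3258d2557a782a119f11a072ed72c04644464d61996460c6eddb2c06e805d005d43459cbb1caf0e0b0e0227a72a342a3531566925345572eb72b955100c25cc840c75cf643451cba910a72ea00110e740e6c345272e965811fb8e1a4b690b680d13dcba1cad0f7d017301700d1172e710e8ffa90a0cd145cb9885500320031344d72e5093400f800e84349cb902610d62170a72e301a83d743d4dcb88a8a480c2a642a657b6f0002021c00110bb10bbd0bb4400c4019167dee1dcac00030fb90fb6110728c25b5b136800090b88a594893c8940a48000142e31d311d365c496c340000860086180b242e742ed335c170517043ff941e16f91798e405e49aa45d11d62001c0021041372dc72ac42e036a03689027c3574103dcb6d75e,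
  nat_lit 0x132d26052255008c31c431dc2a75cf599e3d11400041cc55cba1d3a1ea47cdd5e7200147314418c6061d3586020b3040031cc4c9311b807b5b7b58405f000b731272e45a2cea04fcb927740029cc452c669bc69bd6b59000e731011d448d05d540041cc3c7d515311532000f730e12ac4fa5d1fc0009cc35245244d730d730c1131cc2c0120004375f375e13fe2724000d2bb45d401ba44312d062d592451244e244d7309205de1acd88090a1d725b69dd735cc207f3060b73760539053b7386730762d14904b5549139cc1816b11ff11fc1e1973052db90ef89135cc1014135fd244d73030431fe60910dcc082ba4b2b244373010874deac910dcc001d81748243d72ff047c0020013000600480004bbb928c813f01411d471b49de08c81c46a0103f179376fe000107b4bbc9693800001f900047b257b2729452949294f2a4c2a512a9b37f55a4872e0000d5504cbc5dbc518a50a58b394b398d14569543985cb7,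
  nat_lit 0x790965d87e5b370829a894d9d72c8974c4a0c4a4ce88ce811c10edecede0fdfd9bf1e9a4e5cce5d1cccdcc136dd481a4de331ca31ce33370b330b2e1cfb39737332730072945d085d05ccc8004458885895ccc42b423872385761425cc25d83971733072fc8028801950781390137dccbdcbe0ad71cf81cf7396f732e0194fbac4ad04acdccb41b53ebd3eb93dd0732c28d1d7205888587dccac4853a6c3a66732a02c80018e49013483a60003103a7bbb583a531253194b384b3662e664973880387d55945597558944be297772f40008410cc1a1016c6308e66000110423067157c157e4c28000040f8a5d0083103a1f6575e375e224067a8b7a8c0afb0af10afb732572f049b99e40cfecc564c5689ac05c885ccdcc91cbb1625162a492e1c9f1733173273232f85501943a143a55049ea25cc884f504cb372b1961196632a8732125546a94e8d0fc7dcc8019807e207ec36dc731f0ba8de18ca99cc7814e0aef0af3731d01e057bc5c29cc7010a160136d8731b0568acf8ca81cc682420000024d023f40d8495c4950891c893c0008e4905de05df2246224e000148cc1d741d640000032,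
  nat_lit 0x1f2b231600000dcc002524f8a2849e8886ec86e120482fbc2fc89e049e11cc7000834e534e865e758645859778a7314001df67195054b2df0c981a59b600063e0d3e0a48024ed635077318001516d4215c5df000478f240381550000d80ececf81e200026037777105740004e0a0aa1813a00006036655a03b580e20029cd1c38769b86b3a7346083dcd1404c00002e942b252231ed65ed5800002e3000a505d56967b9b57d43f3e3f3f731400252dcd0200e9c4e9dd17e8c191cc400087c26711566c36ae066fb6578001c66dc66f4f840515c5125cc30006433f433e1a841a7932680015414d95ac5f5000450556abb023c000d4155a87c13e00024bdd4bdf064c0004dcb8dcd805d0000193f194112a53c580021cce038736e400057337083c6dcdccddccd805b73350130957c956cd550af78ecc503c131ad60d4ebacebb52af8fd78e664e66ce69cdc140001cc2,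
  nat_lit 0x11be00e000e1564a564955aa535a31ff31f66587737073304d14732414d814e9f9c58cb4008400a1cdbdccb5030421e16f416f34042662c462b4623736e732942cca5e5cdb80040b314fcb831343151cdb5cc93d903846215c21563583736c25918119ae25acf9ff7df9e1cdac902001c382c382e35843581736a00189014ca08ca1918991879cda464b58657bfa6b65223a223873682631811dff54f678f6851871cd9c8f36bad4271408d408f7e7373663694f66c95d895f1b191f9c9cd94915000245b37ac3816c79a649e425ae7320000516c9185cd57cd5703c300000038003a23e404a1448943e9eb7e05553c2ca5c1cd8948d3dfe3dfd551562257ed9768c73612af14519451544994494a5a1cd80d254f8e45ed7909559b296c735f413cc3d0ad60ab38a5c9cd785f630db30e43eda2969735d4941eb7569aca59dcd709697af82965735b1560b2fca58dcd6855438bf296b735911cc0084a5adcd601941c0d1c0a735708654280a59dcd583383f5e295a73550138f874a56dcd500e900011f31238405e800007cb46680880,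
  nat_lit 0x4250a74fa02c8b72cb0d8b108b8bcc16c0035ce35cd375d71ec248b76d0b7f34000c738c5564fecccb9522c9e48515140031ce2dcd23b4f08ea08e422320010738a21a9d968f1280031ce2416b188c001473880504ce94002dce1c10c0687738773860ae824240039ce14230077b000c7384072017700039ce0c2b3752b000c738207184bc00021ce042dd00033c3474dd06e8000489288951a039a02521200003c226cfd6d64794a3a512b4d9651cdfc0060ef384f484f4c89d1cdf9cd13c335e6213cf13d34dd72612227b737d7341f8f5f9082c5c2c486eac89c9cdf1ccf15a276327b6353d4227b737b66f1d93c1a901a7d197c89bdcde88cd060e060d152e3a7d2274737903f4882cf0e089e1cde02a0327606790677737707f1d47c89ddcdd87cd05cb22777375056c817089ddcdd0242000778557858064c000c4d35327425b741008b0602b30681f251733172d4a1a143674e874e90aa70aa83db03db16586737273387cfd8e81a50dfd750ee9e3a4946c9491e23cffb9cdc5ccd,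
  nat_lit 0x41c59278029ff2bf7770f730c000c649864b455400021c5b07e1120800047150e1443a600001c1f009f13f4714c0025ce98387001473a673a507e84c600019ce9035e73a301300001399c6b746b5ca654e67006900720fef0ff07e78643e42eb4dee42e15e7f73a27368214c215dafd97afd7c257c29ce85cd9761620ba4ab54b204b1a4fb473a0736085b4602460306c306c39ce7d87174fd74fc12fd5a51739e2848dedde00179e9ce7461d7d727d71739c084088288815ce6c3971b011b09739a00245fd07f7800101322bd90ac20abf113d0001027822e01ea81eb844fc0000d7800034b7b5a444542250d2515449a448507ae07ad113e735c00092de1fdd8b35cb34ce7309b349b3862b9cd60001489b1eb815ac086b086c1fd61fd41fdb735400008dec8de0729072845fc5cd4237a05b073fb05a3000973931e5888a01e280039ce4820602d3000f739105383b180035ce4015b00157390738f08d062280019ce38242,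
  nat_lit 0x1003e06cc06d230c90c310c2657df57e05beb50e9524750e92c862c8b5b9e760a738c0001cf3000fcb81d27c927c20000eaf5ce200352012161a161937a03a443a3c43e200fb00fc11b455ee55eb60da782b000a73c7738536ada8d9d7842a842a68adcc4c944cbc51d8300c0035cf19ce032b8468705ad05a40a1b0a104cba24d70c07000c73c5737d208829f429ec4edc6a646a6c001dcf11a241fcc1fce0c05000a73c348a1ac31ac2c30340025cf09b07775f256e256f000a73c12f18204c20640031cf001ad37b858bc000373bf12fcdf88df200005cef83d7002b000373bd00c8df1962d562e4000034c000021b608c5745b08d0082c148dd06c14c95015896c722dceeda1c20090607742805f7508c1c8373ba73782fe03110c6a4c6b10d1c720dcee5cdd1c481c4b1cd41c9875d373b85a48d028de347211cedc9695b841c7e73b6155567547201ced45543ebb1c8673b411cd79c87211cecc1943c7a1c8573b20578def87201cec41935f651c7673b004f400247191cebc0ed00006add535d339cdb5ca264a271fd240bfc0000a1f000675c41c541dde75e4609d717a7d7d5ebf5ec251b251b068e86a041b2502fa73700015d70c71181b35d09c1b04c081cdb,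
  nat_lit 0x73ed000e73e607a05f8c0001cf9445b17d907c20000000400087341da98cdbc1f1ce6600011ccf76a576a4138e031400007345033c12e1cce195a195c779f6f0177ab3115330c782336561ce31ce243040857084e001173e1739cc0c4d2fc07600774cbc8bfb00045cf81ce61d27386d7cb67cb0000d73df4c40c5ecaf88af8d69f40031cf792c62229282b003e000673dd4884bd94af3c002dcf70348787e2bd1000a73db0f3c0c99d04c0045cf68b3415ae000b73d90c800049cf65cf6044c73d70049cf6c6d29d7586cdc2f602f640005ce51f151f1600000c7c0001763429b8cb15b4c00200022314a527277431e6b000b73d47391753cfbb56801e55110d00041cf4c5f305fc05fe42684b47000c73d22478a64c754075640045cf45b360835001e73d173d00bf4bf6d0188003dcf3c872755f15ed000e73ce21c53f24002dcf342211342000873cc076ccb080019cf2c61a280e000c73ca0acc0c680029cf241c6,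
  nat_lit 0x394400037404155c64000039d00c3a3001f000c74020ce07c6c0015d00413a39403c0f3ba411f911fb2b1e2b22781a360335f850f158585855818077782d09000073c800119839982dbf191fa4600060207c7600fc94c43e583e4c3e155a00a220a1fd61b1cf100036bb680776c4040eb34cc3a6000094709ee35abfa00d14095cf00001516156cf01b301ab3bc8000161bd61a012e6bbc6994099f09a27830819e6f616c4e53ac0775077673fb73bc6be9f865f858a1d48f788f7c99b58894571c535dcfe9cee78c878c93ced49914d1650a33b0a7b577b5814db73f973b543e97c78b224e370e378170416f1237d238c5369cfe1cec1c0934644ea7786c14d673f736c80064c63d05fc93785345cfd9ceb18e9796c68c2407614d173f541648688869000101ab21bd143f14435ebb0002444c0169d5606be46bc40004a33749e5ed8000011f80008aef0aed999697b89f689c8a57c01cea0001344524cc24c63048304d488d73a400001bdc1be08bdc25a4d4b08a208a5748a0896001073ee4295d1a41b29d39cc628003dcfb5ce84a7a4a5a0050001673ed73ec24f06180618503780041cfac35d07f007e3000d73ea0eac2a600025cfa435c38ab000e73e80734bf200039cf9c216,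
  nat_lit 0x42ad42a41bb01bac1320131821af80b4742273ed6329251cc818c824647864755745b38dd085cfa787b62b37edf62a780f1742073e5e85dc20e0c09bd0db379d07cfe2453c453f4e59818080ef741e2c286f753e65b0f80000ef5000051be61307e827e7f612a48ed43e13e89ed59ab2dab1d6ed56c193e08ce2cce08d10dd071cf80d3f0d3b60187aa078c4391660d4482979e86cdb741b73dcf86d5ac5675d676e02add06915f28ac4d714d706051692d74192e68ba35e09de0a0d0fdd060e4626c368067827343e741700e94730c900c8fcd0f5d05859e608d681b689e6cd474150178b9740244025cd0edd050035780f6f5d6cd7741328d53e81b3f1b355d0481ad4e694e6b6a0e74112f146f41b349d0400ae25222524740f04c800086038df745c183775cf6000175cd75cc17f50a5000006030a74016475cc18231d61381e381f000e740c73d4a74ca750c8f4f7f4f7fc0045d02da953e453e3338cc14ec740b740a40c9f8cdf8d8d1f870700049d025cf4322b408f070e07170009740873ccf67cf68de35c0039d01c704112011263b13000b740649409de00021d014558,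
  nat_lit 0x137e5f11440e33af33a9744053a0548dd111d10dd1000061d0fc924141a2aa505d205d31e30743e11841e988b51e0bccb9dd0f44ed528700080015743c13b128e4d191d0ec077293c2939743a003c87b8d191d0e4216477834647438003800012a783250455608069a161907d7d2e612e5f2e6f0df800017400815dda8c37d400003cf00024e1f0d580d5c05a400056f852ce811500004e1d2f542e49f52918b5107d103ccc440099d0c9cff03d324a743905b24002974312a94e874e85cf72c00add0c0f132b4e1146114c002b742f2d55d90000e9d0c5d0b823b4215002a742d1554f10c00a9d0b008f29ef0020742b062dd49c0075d0a8219404000207429064c495800a1d0a005d32520026742712d400114a9d716435a00007bb76855780b1f2c16e9eed911ec92c892b5584a036183789a409a30d705e14cd6ad9d99b795b395d095cfe217c054104d704d81f06769a59fa59f66a3c80286ce3742473f5d08db399194cfbf9e3848b542624262c94e094e5d08dcfc,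
  nat_lit 0xfb70f0a756f05ae05a8745e66d0fc283b643b71e099b469d17504f60536d3d786133c1745c228434e0c4d9a8d5d16c5d5403c403d745a1561e8c204b5d16422b3e476d1674580650fc21a99dd15c3d36a9c6d157456064ccc44cc55d15404e55af6944745403a40005dc6092dc96b496a82c50000771724b82c0f046d34f1e3c0e984e9797ce80059d149d0546e35fde4b427ab650770017745174100e4c0e445f105f0c0045d141c2f00d34c93207b2082000e744f32a5e459e45450a80041d138f134a1245cf3afe000b744d494137040019d13055821ff0012744b057c0345d12dd1283d31390000974490ce01ecc0011d12004e2021202025bb57422ca8000061580011a059aeb55390e30ce308b2a5d0300034ac378f83ba93afc2bbc0008ebd4ebd0ebe0ebdcae30001680d07a4096c000046dc46d41ba680e3c99343a344140167fdc78557442740945f9535209bd89bc78d478cdd105d01,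
  nat_lit 0x277f63284d8141a73e753e791ce61ced747c7428a178f15c786078707ae5d1ec912198d104a103d20211eba747a650dd1e800608159db7c7ae5d1e4930183a156b11e211ed1eb874783ff9d20c030c060805f1d1dc37d1fdb384f454c1eb474764674725072387ac5d1d408540af24f51eb67474622062d86335d1cc37b2f7c1eb374721201d1c401228202de00004090c82b48240000c2462cfd1ec31ec436cf0001027893885d845d8d0cc4000076f000181384027402c3ed53ed1198a19881caa42206d4e8213822e64c883687f4274240001b458f4c08c448c20b3b9d0869402085207f325762cb3832382b001c746b741cdbfc98a506f803c00071d1a9a6d7abc7ab92cca0024746b746923a451885160de9115ec0071d1a089b0b891c5f315e31e3001a746774188230e224e2300055d1981cb281718e018e3001b746520a4652d1bec0051d1902f202683883001974632ae82eec0061d18820c00207463746101700001aae9a959a960db983844e784e7460f860f7715f6d2074603c5455a455ad7299082ccf0ccf11d17c401,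
  nat_lit 0x337a0e5b072607270013749a65443629d6380061d264a0300a93d2d001474980d05b1a9b1840031d25c3e7144d000874960d885b20003dd25414b132a000b74940b712e740039d24c20a1247000a749218592ea0003dd24412f4aa4000674900abc62980031d23c17b001d748f748e09105114949800000aa0001064906542b1577d72b1c0001852c627008306470183018a2ccb417d41797fce7a322ed02ed16abb82c66f594e7c086e000c748b74392a55d73c475c0a500a5cd2640055d229d0d1757187b2a961fea00137489743048e0e47c9401d92c0041d2219460dac0dae16d916df000f74872ff85ae002e1d248003dd218f764b8f51cb1fe8000f74856505809ddb2dd215d21034d18951ec0748474830d312e61a3b40039d2084b218b9000e74810c81d20001214872c6b0001037c00049afc79b079ac218d5be000026c826cf019c9b00d945e2e9e2ecd964d8f8d8e90c91e7a9a6290bf50c103c01d630150414f9d1f5d0b,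
  nat_lit 0x18f2000374b70bfd7f9c0015d2d83274aea0e7f008974bf00b800024c2c2034205c000424300011b131ea21ea5403d421818eb5e0000006c50d21c3931b13417e4cc4525063c96a1061ef61ee4e38251a25202c976f82822577c100c174b2745df9fd9201fb6d09d509ec02f5d2c5d16177e002974b2001974b072785bc004d003940315d2bc3061516609200ba74ae1798e8d4e8d002e5d2b40b74b8b4c1500c074ac0f01215400700051d2ac1a1001d001374aa0051d2a40130002610200020d68370c7a38cb6cd365b5c5abb4dd68dd66018c05bc05c8d9f9671dee993aad83b5d2a1d155aad61155a5f588234db213c77243a113a063eb674a77451728c7cec7ce87d216c84076c0761a50dd299d131f5b693c1318131c81c35d995d9b6c2974a57449786d4c9ceaa8eac1d2900011d11781e6a735d985d996c2774a33f39fcc9abe9ac05237d2375d28868f1eac01fa01f84e8b74a1000174403b683b7c43b9e529b575d280e32749f6c236c246d7e6d5c749f5064001da470ee880b2258225860001057400051cf56d408c448c34f8100007b927b8f025d13dc87d087f4dad0daf4c4f51ac40039d26dd0f,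
  nat_lit 0x2333000474d505edd5e80019d350190000134dc21c820262028203a5ce80001e3ad507c35134dc388f404e62da62db735b7261726557c157b357ad581b58ed52441e57001074d27470a4e10a800245d36001d80059d345c150972237c152676554bc1000f74d06e4c111d2dd908ecba68ba800059d33c5cc0916606b41d2001e74cf74ce2ddcb47d8e19b0d8003dd3346910869086a001674cc1a6079480025d32c5580c49000774ca18d805040045d3241940915000b74c805788d340009d31c338094a000674c604e804540019d3140ed2340093d0936040804160000477800151f051eec2478245c18cdd4d818f85ffdd1b00046c2b71507b230c3b267c000db0a9c53dec9078fd79300026c2b71617b2d12fc0005496d2f2c08300006bd86c1b06e9b099c52dec712ded2100184c183d3ccc54b00041d2f9d1a1d431d412e610d8c0d95001274bd7464dfe4dff066f80351d2f5d2f1d180b910b8c00ee00d274bc74bb5ebd2f1d43c40325d2edd2e82a350fd7b1f000d74b92748eefc0039d2e0144,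
  nat_lit 0x34b515fd9177c0009441171185940001329c32a1057800015c9824b8193049e04ab000106c800048c2464c4485c485203594c24fc78dbb92cb8bd0dd2200002306397239654cf41957195552fe38fa74848c0c5b945bb9dad462b8e3c8e3d1ad9083bc002dd3b5d20093281454c8e2a1b2a1d1b501b51000d74ec747dd5e41fad0cc50cad2df00041d3add1e4ddf152e000d74ea12e94d3d0a640045d3a429c51162349001374e820c8c6980035d39c2938133000d74e6009c005dd399d39412b41b0000574e4156c001854bc8d0012e00050ae3093702ec0009e885e8987b8c7b80ba8cba747950792c6b346b546b3c6b38b398b3908391d1d000035363533783c2be861703a51d7983a405678d35c0039d3804f841b10153001674df280c8d88d38c0031d3789e20a6c0a6b001074dd0ddc0099d375d3703a52a38000f74db0d8826040029d36814b2041000574d90a14256c0049d3601dc012a001274d71858f3b8000dd35817c,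
  nat_lit 0x22c8f2c882f420072267c0004b238a8ede11d35fd0dd00002cd831ae02c8b36200f8f4b80334027c0268c46834a034c568418f1da9e5a9ed9e9c95f095f9d43dd2617db2b832b8a30593055621063d62cf82cf700140010750e7494bad4bac4cc04e848e845d435d244b4b0027750d000e750c06201c1c10ec10f078b5d42c9b7431743114bde750a006d2f392ecd2ec5d42476923880012000a7508068448f12f71d41c10e0012000875060051d41401300073ce23d010578001113a51fec1ba00011d881d8615c815c21b151b194d2b4b6a3ee73eea4b43089a08a508ba75a0748c0000761c760879ee0098f817bd17bd842a52cb12cba001d750126ad9c6411d0006dd400a03392c392f001574ff25592f4811d80065d3f81543cdf000d74fd05701fc00045d3f00ff383f001474fb052d45040051d3e82dc0428001074f90770e4280029d3e02862f4e000874f7060c0065d3ddd3d817c5125000d74f505ec24f00021d3d0213,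
  nat_lit 0x4c1a0008752f0499f7ec804400085582625201900010ce000049ce517f8bbf0bbe40ee000027385732639e201917809cd93ae8b22caf78af7405cc05e40045d4add2d3057305d4f5e76e117d45070000f752a74b1ff7dff71491190200041d4a5d2b183c1dae1da8001f7529752874a8e8b8587c12580035d49c46c125b00207527752606744a904a6c0041d4942ea68f9000c75240538f1800031d48c15b09d9000c7522047823f8000dd48432c00007c6e08af08b076b62edcca94562c00040a004851d0d000008b00004462dfc318284240c24109870000118717a0179c1aab790474a446251c3deee60d012d8c0041d4704ac54ad7f0027a3781d000c751b31a1d5a812512fc1d46dd4685ea63f77d2f00067519084948412f70003dd4601ff09740977001175170c302728003dd45831a1611000f751507d93608000dd45005c00042ce22eff2f003a2061de49333d8f3e2a79c72b051dbb74a0000cb3850fc51b949910991ccee0ced9d27,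
  nat_lit 0x436f000b754d06400010c6a054e854e4f054ae3000331a71539011f01182f6c0008c699e88db7010868bed000131a53d610bf60bed43740000c685342035a319f4f8368cd307b307a38af79b54aa938d438cb2bdf2b600a5a0a5506fa06f8754874bde332082866d05e4c5e3dd51d6fb14f144a61939193a75460ea4e75c0085d5180035d5144906cb76c984c1725d5754409b1105906349749d50c5e64d02418925d17542126d287d06b09745d50411b19a3192e19347540005464bc64cdd4fc014753e004c000c9634964025b0978230d386c3362337048666a5e0010753d74b88690c749a3f962ed63000035d4f1939385a385c0a850a880012753b1d6c3c443c400041d4e81243cc83cc60017753921c864ac64a80059d4e0871091b0016753705046bb40029d4d823a1853000d75350ad40081d4d5d4d02ba07db000e753308c12ddc0031d4c81c83c6b000e753106bd28e80031d4c0120,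
  nat_lit 0xa200a2e03b40049d5add5a82c61e64000975690d80f8e0001dd5a06d475670145249825802594d41c6a546a510aa10a7c841c84040001d31000208e908f001c800054d013c044e50000511d511b05350b24d079eec206f882640051d58dc1406e275e075e13143000c75622c598290090008d40031d5844291e611540000c756008d93c90001dd57c5553f160007755e155c004dd579d57418b00270001755c01390dd40005d56c0ed000563980022020c0011a7c50dd835a0002313c7c186df63e322ff374c13c651c3063a863849b90002dd560f8737b90a0c0a103c1b3c19001475571b80c4d9d7501ba4a254003dd5599a11cf01cef000d75550ddc54e00029d5503a51501000d75530776068c0039d54820a07a3000c7551051528cc003dd54017d77b7000f754f05b8005dd53dd538161,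
  nat_lit 0x173217a9758904fc3970c825d62020c501c32017587100000159f3d9f4953ece9547ba0772c770d23c17d9123b604d949d5338d337c9024902dd37000480bd1b841b7e80bd3ef8000e02f06e0c6e00f8e530a00023dab3daa179f10a000048ff0901c12e000080ba791a06ea02e06dfc6de1431d0f054e84ea55e90cf310eb75d605d365310355435583e4e0018001637f12705758068ad722548d548c1c649f0d888848861d5fdd351939194064067d3218ee18e8757e1ca01ca01c9cafe0ee709704d9b9d5f444f2ef18075807c0f450f3d757c63588f542380239c63906395d5ed2f41dc3055905530f420f3b757a1e1ccef488548849d5e421f0d361940193f757874d0c254eb51d5dc14435d23ad47576087800009d38f24c059274b32821f611f66235c235e000074cc002521f8853478d078d8a85c8d8dd3200088041655e374e37504eff4efd31a4001c82bddf7882f41df01e149e655fa0006300d238b239309cb09ca482400159065a5c868583994c9a00043801380a17d4000c8bd08bec55400022c76235e04340005840c964805d,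
  nat_lit 0x1f75a875a705f8d358003dd6981dc6adb000f75a5185825e8003dd69017d683c000f75a305b838340029d68821300015a066042043400019fb438343a667eb6b8283145ff47f34847873797e8b2eeb2ee542f5000274e8c3d4bf24bf290bbc0004fca110830ef1a1f1a1d00000268000853285348205020790bbd39e0001149b0d1e0d282503402c0000a058a06c89c4228503142da7975759b759a5150318c5331865183f80019d664cb60dff17781740000f759806a45eb45ee1d661d65c1de179b0e66000e75960e0465780029d6547cd5a27000a75940d9839bc002dd64c3720003109b1cbc1cba6954645a602f36a536ac74e4000842511839ab6017f80d000011097626449b93b2e23dc00004251894435a10941db06cc16102320b758f51dd5984cadc5da021202109d639d38624f36263218320e758d0cc047b4ecd0c829d6303a7758c00143200758b06316861e594c82dd62830c,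
  nat_lit 0x4539230a2301000a75c548cc9814de88e7800025d710dad2a0645335c88000875c3302484903d943d840025d7084d92528252b001075c128d42938007dd705d7003da552a2677000c75bf0c0d2d040019d6f847e461c4531230222f9000243843aa5aa788c048be00004c83789f5b0e000004c8000d91bda2460615a93c921c9218990d8c100021646164347553892389c5b9e3d7400055f14c2102c61c040efe0f012919387342aa000d75b85a9d21192f44f0a0d3980045d6dd98161177fa20d8b0d8c000a75b63ff839fcf8b458c858e0003dd6d556c275f26f026eb000e75b4641899a930cc0045d6cd6a477de097e000e75b2091c0059d6c9d6c437b2045000675b005d1d6bc012000535f7608811f0e665e8bd8ab8b65044680041d6b97aa0f170f131063105a1a2d001075ad74ed8a4dbe4d121031ec004dd6b06fa482a2c3f001875ab280c8100b0f4005dd6a934f35f9000975a90570c3500035d6a0245,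
  nat_lit 0x10f310ee1e0b609a2beb26d4750cc91110f83248324d3bbc0051d789d420f424e4470547a973acd000f75e17505f0255fd0987898880035d7807850eab0e9b0ea02710001075df7500591858fceb200031d7788a12d9a2789001075dd1a603fb80011d7705492971000a75db05fc3aa8000dd7683d32d35000575d906ac0059d765d7600e92a042a0a76c00cee30bc30b8000774fc0000b3e4b3f0454075e0768000101c8a9d8a9ec0000078000678d070ab831060aa32312d2974f800149dfd2a545fc85fb545f0c98000427810a610a603abb0244000c9df8a3f02200002277e27c7062c00049c149bfc4fd00000da30da703b498480025d734649001b75cd75cc0209d72c0514b4e398d33be2236223b0d1d0cde0ce16a2c6b833289434928722871797f001275cb74f5a581a57da57de4501ec41eccea90ea9c7ddc7df8003dd729d3c62ac70db81a06a87463e2689001675c949b1def86c34fc8cfc94594859540045d7212780ec20ebf154a605a000d75c73fa0bdc0ebe05944594c003dd719271,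
  nat_lit 0xed2000e76000510b5900005d7fc32700002d66007f0e98b120b11d1e780010a9710023d7b00031559f514f33000080f2000228c665db52f830cc30c96330000478307820ae0000028c62ed72270a310a2d80079d7e5d7e13bf61f00f6a0f75000c75f72c39310c76780045d7d84dc006f1d99001075f53bd4fff80045d7d5d7d01a10da7000875f304380051d7cdd7c801475f1004c00107d08764825b0001135136fc77060f850ed562f9db082ed9a9488e5ce3bc0029d7bdd4513543f4b450a7c18000e75ee5de8669c66a80049d7b44390f5b76fe000b75ec0ddc3da03da40041d7ac399001b75eb75ea08f07f280031d7a436226de000575e80a143920003dd79c14501a9000275e605b87628000dd79420d00042c777946455d4fef582378b225755e6250a150f727530396039c04c604c17510ffcc9b6c000035c,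
  nat_lit 0x131a45397737000b761e0c981728172465e00031d87556b2b2036c5000e761c1f5452b4dafc0035d86c3cf000e761b761a0dedd86401200034c3336bd02ec0000bfb60acd0f4d0f2c9c989c9c175c175932d017e817f06e2c6a546a78aec9d4b2fec2d1d13131311433d000b76177528d818ae5c0059d858a032b882b8b000e76152558634c0055d85015c0fa000127613059c9f140035d8481dd1971000f761108280079d845d84028646db0005760f0a44dad40029d838190797a2d0e48d532110d510000752400158689d001d005d061cf2979e979dd0ec90ed0bc3415c815a03f384025dcb43561d4800045ceb50bd50c53372336f3f17405c000d73a85658566c2d400930002619f619e5b641dac00054924355008300006122612606e9739856485650aa18aa0464385ce85d01ded80045d81dd4700880094246d60f33d363134000b76067519e3e89cf0d8b4d8b108d40045d814ade4a1c4ad5283b001d76057604746122e86d486d5987f40031d80c764688e688c0eef00137603760229f0bb90c3400019d8046ef,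
  nat_lit 0x199f000b763c08c15c600019d8ec1c0549f0013763a06bc7a9c0045d8e4120572e000f7638047c3cf80035d8dc10b00086adf44ab0b0c001e08995cb894f00006243661363b66154403f403982a739c5754989103de83dfc4060b01cb05030dc30c1e8815b09d8d1d514cd94cda6d087d9351df28ad28aa4b12763375418321851c0258024122e1d8c9d4f002176320013132b6a287631498c5b7888f898b898c1d8c0e3e095f330b7a1b56bd762f035d5684f5c4f5b95af1d8b97bc1813181456ba56bb762d5eec2dfc040c04112289d8b043a1b992d6881ca762b0fa5126ddfc86309d8a80b0572373a76861762918707a609bd1d8a004f54886a1c76270dcc000cb4ecb3e4b3cde33408a00022d3a2cf81cb31cab382800053435d8e404a848500004da214b5096c9a25e418c7e8c7d8762076082049dad5a111a119f77950d973b0762c76140039d88dd4e1d4f78d24574199919a13e270da20da10d200d231e5518d8163677b71628000b76227534a050801400ec00d84e305804a08c003dd885d4c77f3702b41dc1986000f76203cc801049dcc3778378c001dd87d18f,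
  nat_lit 0x1389f389b017400004d9c4d9040d21ff000a76580b043909d961d95c1fa2f100007765602b1d95404c00014f6d7d3c7d3d4f72309c0002007996a80b4871c512251250d0c0d0a3fe73ac0765312917d40cfcde9407a103b9c3b69d949d55388d41c062421865186f765136b8670466f49e283c643c51d9412cb276627611977197d764f284887bc61b461b1d93861d238b1973764d15591641f50dd9300f23abb3ab9764b08b8ff84eacdd92821077570f097649037499049915d92022c00040b670b692174217541154ee74ec70634062d4ce76dd07550000c037c039425b0002175e176502c850a03efc3f20991025f40059d915d5314aa0fbd775d0fb877e0001476441af02ecddc4c005dd90c1531c8a1bab00177642051cb5f86ec00059d90448e279d0012764005043ba80049d8fc10c1d1c000c763e0705b6300029d8f41db,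
  nat_lit 0x4c932d830e840e8c767856d0f5140048002dd9dc19619993a72767601c83a103a25d9d42341dbe4c7f76740cb0f3e0f3f20d3c3574356c5a600001d5a0003105a10608139813d31fa31fb44e545464541507a49977564000822b422bcdd7e0754a04000108ac08ae7ab63db766cc00008ad52e780837977283f283d2e322e362e2d7ac22db37cdf7ce27792104065130e230e2b2671766f7561a4a9a4ace36090009004268026a5d9b9a3431ea6d5e3d6d6dc12678766d66044e9c4e84de052fe099bdd9b165c266a766d001b38a2266e766b66004e9152bc0044004899b5d9a8ffe43827020794976690d3520bd20c9e521d9a03dd1ae420c621af7667261881488691d99837b1a211a27766505d1d99001200001bc87981293130650e3b45f86f04dad8d52cd560e40800093e16a9b4b1200010ec0f2ecf30c0000373000738d0388a35a27eb46cd331033104796428017eb484fb5b805a225a254b0b755c00192f991a6cec50ec4cb6a4b6add560005414b3427152400112f887b4863c00034be7336a088000092f9d62d018b,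
  nat_lit 0x109219bd001176960f015e8401ec0025da54462001d769576940971da6c001dda4c26e7692004c001189084a5008300010c6f617b1d0f01ff46c022ec7e69c390d1654b6c5c585c7c0035da41d600c6d2a853f13408236c5000c768f757d44c944c144e609ac0051da396a052d852d90011768d05bc01e03770005dda302b6560a4ca60013768b5ae1e2d00059da2826f0e69000e7689070516a9da25da2011800a60008768708a4c820003dda181c819ab000f768507184a04002dda1010b0003000036b503c008c4089c2a2c824c00100c800011dab7a6a0ffc00007600761015d1da4267c0000087800045a94aba4b6d8ebbc99fc3fb0000022102220a86208e26804de03db43dc520b501256d4c4edc4ee5d9f5d5e53da1de51b0f78711b1d3cc73cc8767c75740060009099fdd9f0003dd9edd5c23d623d12e7010067799767a756ccbbdc16ddf744ed5d9e4207,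
  nat_lit 0x5664001276b404f80051dad1dacc3d3005f000276b205743b0c0011dac404e35a2000476b003b400110c2d83b9b315a61170056fd930f5d6800034305435d2d012e1a3ef800090c10270826d898740a5000123070eb702b800010c14d68035a79ca295d37d337d86225252c000d76ab759cbf08bef09f849f8c9f9c004ddaa9d66359e58bd55906938000f76a93bfc419d3d0d8a80cd140045daa1d650ebe45cb002076a876a72f1087a09abc0039da980198266001076a501d40b0c0039da901cd0099001076a30a6133000039da8800e0003251d3b503b5528ea5e4ccce47720000031f000006d5001d02381b74eabceac5be9193ac29bc29c861bc2ee82ec8a9802d302d487d6077880055da7dd64251e4ee14edd552365b183211a951a9822767d1f84e17d4348a94ffe5e1f0011769e758c86193fc8e958e9292bc52be00049da758bc295722f522f03f536a923d760014769c758835607b6446cc46c44a70005dda6dd61458c49786148614b000c769a5efc3a5440700095da69da654650643064d321a0012769823e0ccc84a6c004dda5cef5,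
  nat_lit 0x396017f1000876d22995e41c29e80041db443424b254b1c000776d005c0005ddb41db3c25c76ce004c00092ed4cf980832c4c16db786c16d53343001876cd75b8731c5b6c5b74c2b5ab1c0031db306c73ccc3ccd001476cb0490074807300059db28448319e31a3001576c90a74c9380049db2026f002576c876c70408d9a8001ddb1812177be000a76c505452d9c0051db1023045eb001276c306697cd40011db081790a69000776c1071801a80011db001260006003f36f536f87bb1712447c87e73737783396dfd2246224a542b36d536d036ca75b4000801a0cf503dd03de011d0001006733d63c0a04a0001cccc9eebdeeb8fb89111948cd12b912d4ef1ca454a468be1c0b940065daf5d6c006c007828b228b321fd001676bc4444b0c09790977c988560a40059daedd6b6f737e8354ef02b276e7001676ba75a8778d3274b578b568003ddae5d693ecf108a77de001076b85e80f664fdb10c380031dadc8522e87262a000876b624d0b8800019dad4636,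
  nat_lit 0x429042076f0060db2085d35dbbc16e3b4d175376ee05eca6685d4ddbb41900004288d289704b8000c7c6404c80bb00006b6c7a292af0300b75c93109091d8d0481e082000045dba9d71342a7ae7297c7a0a001276e975c07c11e49c002ddba02711e067914001876e71238017c0031db9821876f3000d76e5043036b00039db902b577db000e76e3076d884c0039db882301e1d000e76e107219e280041db801af0a9f000e76df071804800031db782dd001576de76dd085c000096960ed8d2185d9dbd20905005000011a780400016000003b50000024e004d0238093409405dc4c25cc24123e9729456642cb42c988c848c60d3b05cac5ca40031db65d6f00d31a49298529e033e9001876d80eb915291504dcd0dccc004ddb5c71d0d9a31aa31ac000d76d64e8c375d17a5df3c0041db54b5962615685002176d576d459987851332517ec0041db4c26c,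
  nat_lit 0x2ed4000a770e0a4c02c1dc39dc344b92f3c000c770c0c1010f40031dc2c1f943f96f9f7c0302ec00010234000c0248027879915f621549cf3e052d8bd466906694d241d7700021e352ae17a463d1724e802ed75d8000478d0fca4fc90f7ac5aa00001e327a5002b878387824b8dc91a443f843dc0281dc19d7582bc63aa632634842714770f770575d0a400a40ca7a45104028ddc10f0018dd18e03c3b00a4770313b4c314c310025ddc083ab4bbb009c77010d7083bc028ddc00216176400a376ff07a05ca80251dbf83160006002e1eaa04b8001400b8a69435a000183d734a734a120936e7c0000785cb7cc32f1df79d7383d43de66d4e7e1f32cd175976fa60e54671b7e9b7edc3f1e289dbe455232d132d7175776f83909dbe000405d51dbdc38d43fa175776f6064833885d61dbd43622fd3175676f4052ca7a05d5ddbcc1dd30b5175276f208284274424ddbc4616,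
  nat_lit 0x20a56437a22bc0004295d4dc40f100000a5f10a3090c296db0bddca481b6ba78424772802e5dc9c05180d6861a751b85ee5f3d5f405f5b5f573a262fee000175f4bc8d880c9df09de8bfc40000e7300043448008300820f880f8d2bb0000cd120deb006800020d340d3218f00004d18c006c3d30000346349fa0574d1013ef5582c83b4839411a5dc81d7c2f074bb503c103b903ae0464771f75ed7e355f781185dc789ef4cb428a97767771d1c94281c284c1195dc702d87c9e28a37765771b0635dc6c003ddd8ddc681194724046077190140a2a1dd89dc6011426fc045b7717052870887f1c00105f50fa30fa2000318d80e353378000819300021c291c2f67de631e757780e6413c413f35e72fc175e8000470ed54f153712745f3f87cb060d060c5d7900001c312ae84c445dec275665d470b925fd71ac629462785a9010cc10c851cc001ddc45d7800c71e41000a77102735dd240df80031dc3c28f,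
  nat_lit 0x72b07230858612871809fa092f892fc0004a2c3f6e2d532d5a1f6c1f780000760c002069dc69d94f651d0c8dd5e7988e415725d1b00075a787fd728df24ad19611381137e760800194bc1571c23f423f8fd6512500055a7569e6128d129017f0001169d1a7943b283b2008d00035a731f37798506c52fe4000969c50881f1d5f1d085200015a71502d113e113a4bdc000169c569b8f9583560f26773f773e0209dcf4051000079561b350dec74314551abe9903590309e049dd9e8b98c799cc9151878847894d95541843cb9dcf1d81199e19995ebc5c99801533bb00ce00cc773b760146a9f9ba0dbdb5920dc1c3c43cb5dce9d7f1bca0485773b001d22ef22ed0f1f773975f8d565b90db84ca61c3c9ddce0bf26a247d5377800451773739249f209f2d41683ca1dcd91241a8016c00f2177351218a1fde8f83c75dcd0034784c84660f26773300cc74083c69dcc80ae0000285b285e7b5711e0a0c8a0c5086d089c000473569cf69cb7efb00000b940014299042a8e529160824d024c07af00040a6310a64fa5238d238c4da4000c2960cec48b0,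
  nat_lit 0x599a0000776704f4001c0130007180c7b8235ac446f40e23b140018602888681c40005180b4d6412340010602d480023000030e990daa11c000083b843b881af000118092d440d900000602566303ce180d599671df733c485a389b775e2c683cac3be83bd867addd74a6e19e61f38345a3894775c02f8d3883be03bd067a5dd6c03c487e3893775a00b400087db5e6847df460e026a0001352d3f682880287e0a7c0000d4b8f591127cb794256476e747c71906f826fbd79b71c140c440c431c6f27f77a862209220e27bc775776186a8c6aa1b055bed172217208fb48fb6527e994a53595217cb9e0b9d0121c11f9dd59d85781f0b694f02557a5eac7f1e1ed91ee3360231a931a1140e140d479e3d96775576103c943c84d368f661dd5088a0ee50eef34d93d9777530120245024608140f659dd48b987ca37ca42412240f775127ecf1312c893138f651dd4059600117b6e35c4774f0494db48db24f639dd383031a9a1a9b774d01f9092df07ddd30132000300480005e4186148301,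
  nat_lit 0x3adb257f000417d4ce5db040000c3a30302030500020574000d33a15fd556b4cfc80a080a04a6e5180d17fce841d8e00027db86c996c9b83b01cb21cb43f4243ed76340004d688d685f8b5bbfcd5bdd8c0000409f35a70d9e0d9f1aab762d3394929892a0b7f90230d6987eac7ea0067c0035ddfdd8a338c836b640e225622587d776d7d000f777e7625bcf9951c003dddf44ba324d323b0015777c07b5572cc9fc001dddec37646b00007777a0a4c41b40009dde42031401000e777808092ef00021dddc07d0002327c32c3105e10662e400004c9eded49bf6c36d0000327a32bd05903e843e94eff83961e1cc0045ddd1d8846aa59a32a932a8b2d57001377732cc80640cb0540ad03b00031ddc903250b47fd86c9b434300177771761c1ed41ed8e4e9e1940039ddc0f6f4b9d28860f420012776f17d94ed07d3467e40049ddb89c750a7664e0013776d1174e291ddb5ddb05f54c6b0010776b023c4fd00031dda813e13ad000577690f4c8890000ddda01ab,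
  nat_lit 0x77a30048998c9990000c219416233da000203a539c0aa60aa6486e800000c600025223111901dd01de32e729b029b2296e01b601ae0f063e233e243e3021b976500005fba5caa993e96bc556504950493556715430cf885a945a8de741e74879c5d930000429642a042ac0ddd0a150a173dd30ad90add53a97649486cd0e8e080e08ce08910b9535db4309a400031de75d91326324c324c6409e706353140012779c764166558244002dde6c12d46787b6e0011779a0a6944340039de6406e32dd000c779801d93f400025de5c20100147797779607b15dd40019de5407d00042c142531096c000c38c9e24435a000037807bd77bd6200e16e9f2b92c7d7950fdb4fda00031de49d8f0b8b0b8a35b940b10012779175c183058310004dde4012443db24540017778f21c9575091500059de3848e10d2000c778d08e90f78004dde301c15cca0011778b05454c000021de28229325b000d778906680051de25de201790e3f00097787047d575c002dde18126,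
  nat_lit 0x56f086efc02b80010811c81300b2000017695ebd01d601d161bc5da03d703d79e68069bcc07ce315f06d4f3d54795569defdd9f81db75cf869c76658258529452926c4f7b212cfa77be76796ebd6ee587e1f150ecf1930cab2cab4a12fdc26ddef5d9d6f04540354056f2d7f6d54fa64dc84c077bc76714700fd3cfd351140a1dca1e4a2212145deedd9b4294555326c126c62daa6d746c286c2977ba76687979e7ac7a5d0bb55551dee472d42c650156efb7f8a55c077b84af07a40ffd8ffe53a5d5549dedccbc849471166d9664c8709377b65c54d01174b1eae8a209212dded4a952e3d2e3c4cbb7d79484a77b428b912f5b649940150c556eddecd6bd289c39f320bf20b755ba77b245e0345434680000132000015cf0547054225770105f5edf5f122558fc18d4528e8eed4eea905e905e4de48b238b244c97887340041dec1d997c6922f622f57cea430f7d6b740752524c904388842f4628462e474f001777af76602d142d1010e010e497d9a9dc0065deb9d9744572bdb2bd039a3001377ad7658834483388ff148b0003ddeb16a5180e4a6d47ac522d000e77ab7654807dedacc590ce240035dea8ffe502e502f5044001077a90c981bdc289428640039dea190623c023cb000b77a712acc39142580021de992451199000e77a50a5c27d00039de90174,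
  nat_lit 0x7959853163811d8015d015c568a076ac76a8669575e7680a86bb80fe16a816a977e076983ec0ee3041cc41a042d085b1e93870e9df7dda5366446714dbc2ef62efe45031c3277de2d448255e8e88214c10870e5df743ec1787178b4a0d1c3677dc0124003c0045283070d5df6d2280f032b694a091c3477da2e61eca1b1ad286870cddf640467d06421c16aa16a177d80288944074a470b1df5c00b0412040d79da77d628d0d908d8e470a5df5406c794d1c2b77d401f8e3e070c5df4c032000044336e3b5d2a2e5033b433d890c9e9fc289428a88f548f595df9322d31ed49610b35f2c4f9586c91df49da46e31864f85ca7c9b25202514250f11e411ea214723ec77d1768c93ec93f134ec0155df54018c07e4c1ccc1c4e761df41da23a1d4f60585a826e76426a103025302a77cf7685f059c3dce0c4aebcaec53444fc85df39da002fe030454140b2a0b2277cd3d9d2a991c6834c034c5df30e461775000c000f1b1d77cb19e927e8708c707cd76ddf294ce25e76c1b0d2a0d2e77c93d682961e2002a45df2048624f50a160a1477c706d400cddf200081df18a63328f23eb23e077c51214337c3379df100ae39d139cc77c300c80019bc292a70077407559b3,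
  nat_lit 0x51158507850b4f13000f77fe638485048508ea4542a40055dff5daa51af27300db8000e77fc273c3b71e40d4a900039dfec4e757a84599000877fa1020f2d80025dfe45551b91000c77f811cc2ec1dfe1dfdc17f78a9000c77f60579fda00029dfd41933797000077f412d4de5d0f28000415e31df31dd0000064c0008850c850891f5696601b15d40db618702f351f3a84d943b16a960ba077f176a42c202bf9372cf26913642e71dfc1da84f0384fb74cf54bf78bc77ef769c3698fc102e8ddfb93b6384e384d0ba077ed0ddc6e2cdb6c2e85dfb01540b9278b777eb052c28282e85dfa82dc44410b9777e906455b882e71dfa014553cd0b9777e7060d4a8c2e4ddf9816e27f20b9b77e50834de282e75df901900003010201062a940197019266a4000804040410f22c673d6c3000115043a327c4503a8000046744668480,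
  nat_lit 0x689f284b284a2ad83551a278287028680c900c888ce0a16ca18603ed202920091ff197f19c7605ec0001db000011ab97a011ad02159215a504c00007d5c7d780590cd10cdd303b2ff00f220018781876bca304a2d53cb800a9e065e05ddae42a340e71cd41cd2002378163d04cb442b302b2d8d840051e0547ce18433e1400167814201c9a6c0075e04c1440021781478120f1400187c1c7c107becb6f519d9f6c5f6c10f7ddad0005639607bb07be1b57022800118e541ee81eec334530a0003639455e74f544e892a9c00098e4c6738335c336586000012b1f0e090e051b280001727877d035a639163956393780b11fdfc21fe1d4f21e028525276f53bc7f857809068077acb5d94f19e02074e433944f378070160b51dc3a1e0180503e9a53c37805070886c14829e01018423a823a9780310187e147e393fed4e4000013bf00010cf5820081ff634c0608000033cc3c148260cf363503ffd3fff52b3001a780076b0f7f539fc855085453c580061dffddab,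
  nat_lit 0x7fe0006783903cc70a80011e0e00f02d22000e783704e0488c0011e0d80550015783678350c7c00041fdcc448081804e1b44000007f644651c2f7a3602681fd8753c95e03e603e451528209820a0f1e8884888314588fc856fd16dc56dc00005db30000004c00047e9ccfa8cfb159f8eac00007a78162b01647e90425c425439a839b8004de0bcc2f10cc2cdd42b24057000d782e49199cce1c55dacd8e94003de0b5db20c1f0c190003782c0c3c878c5ebc0031e0ad14d0e1b0e1a000d782a29dc0055e0a9e0a42e80e230e240f100f0c10db10dc191e000176c4277043b800000ae000154921574157626f75da800015245aa0c86bc86b409a54924c205250494342af000f782513e003680ba00b7c99040029e091c7f40e430b9001078234ed82774be800025e088292380a000f78210648c10c0025e0800ff17a40007781f077400a1e07de078286184d0009781d04bcd284000de07017c,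
  nat_lit 0x4ec80a7b0a74785708714e7c29d029cde158f24794c0dea78551201e1500120ff00fe900010e8c0c1c0c1800001ab00000d860d85723480800cf80d0d3ba431740061e14551f6c6801ab01b741327fd600167850182075d0dfb4dfa46c380041e13c6fa29af2d3c0017784e280df240deb0004de13452e3fd33fd40011784c0ddc37c089980025e12c9940020784b784a091448d8004de12414b1b46000a7848077089a00015e11c2864f710009784604bc43440025e1142af2281000478440584dcb80009e10c1350002004c0009e8b91b991b95bfdddbae0b3c81608179db700011afc7a2b18941891406b76d800006bf529a9127cce3d018dd6914e114df1fea1fe537ca37c8796a0011783f76d4a86ce06c8200820542f00035e0f9ae14f663c3e07c907c42d870013783d2eb842f4016c0160cce51f800041e0f1db42406020e013f0006783b1addfefe149192e40035e0e87e9,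
  nat_lit 0x3fc878777876000d787556d02e3c2e2de1d07cd000c000b787308d0d79d4c01e1c837225f8345e7871015000147878eb755b512a7943e868a068999544a2f0a2dddba2ded32320001090cd944d1800000009000119a7209b40d88ab066186644a074a0900031e1b5d71039103857a3c0c360c31000c786c76e43bac3b9cb8d0beb40045e1ad50538972371000c786a04207a05e5880051e1a444852f50e13001378680ad89ad4002de19c2b50031000d78660544360c0029e19461a347f000c7864066a132c0019e18c1af257e786378620ae510f8002de18410b281726f801e101e200024384f4ac9be807800784000450753ad2362000002c80001bd1d42e48da0bc1181a1183118b2db484f50244023e785d76e064cc64d8a988d65c8969e170f320d7035597f0b75457f10785b463cbe6d1b111b2dfc45fc3de16873d785a000c37ae2575785910c0d1c83bb03b888959e1601f5,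
  nat_lit 0x35c3619e61a00016789319f8dff0e004002de24867d2bab2bae001578910e040069e245e24026733440007788f01bc09ac0045e23811e02f50011788d056844480029e2301361c75297200051524b8911e2c00103a3263e3d04000305740010f5898f0413a413b42f051918b9e0b9c5653ca2edee3d47f947ed58a55891dc200033d631555155b509a603b7cee1d17136c136e16e577040008609860a08549ebc8859ce4d1f3a52e19dc000013d5a7e321d551166116a544c0001f024bb09e698415c98e5dbf3d5427210207020c10a519f519de19d41cda000e788476f9f1c0ceed047cf8ccf8d5b62520f40039e20ddbd3fff350535043f3c260e00117882552cc880c7180021e20447f306b26d9000d78800bd0b8709b400031e1fc1b8530c787f787e01cc9b4c0029e1f41c735f5000a787c05600008b275ef59ef50b1e4ae300012c9c7bd56d1801ac28c80000c705f8dc0b231bd321980334e3e330a330d534e787976f037b8ae94476c47688add4c2de1e1dbb2d3283af83ac0f030f0678775b2a0ae1a1759df803b0039de1d88cd,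
  nat_lit 0x375a000978b108295f20002de2c06160cab000478af060d9670001de2b816e2379000178ad0584a998000de2b0190000265c42ba7237522b40005a57d9cac32985dc0000004cd1d0d1e062f462d4ab5cab4dc0b958cd9e7d124086fc3f6c3f5c5d94d821e2a5dc61a9c1a9d7ccf21031166116778a87715b6a0c24000a1e2a00051f309e29d7272079406a1608160033bd78a633e593780a6c0a951cf9f309e294db42ac74fd435fe360378a454186b086b186ad46ad1e28c86b3f1c35f978a20d2492c8d7e5e2840f01171117578a0095c455c4539e27c21018073600789e0c508db8ced1e2742460004105c35de096c000c4170d75035a00017f17756c7f414fa8448c000089608970898120f932c1bea7a9626f8356035614cce2649001478997710412ca6fe026dc24a16d5a55c005de2609a47b53863272516661264600127897770c3a90b9152d6152fc003de258d5810d22bdb2bb22bb40011789564c8372437609918003de25029e,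
  nat_lit 0xca3000778cf068c40e00045e3381dc50d4001178cd05143cb4000de3302af41e4000578cb0835e358000de3282440c3f3b520598058f16d2145f145c1e9d0eed0ee82bc42bbc2be52bf0695800ba0002772c3c85487000000750001402002b002b51fd024b27fed5e1b4d0400002e682e8002f0b5b005578cb4420310b30fa27a578c6772839443934e2d00adc0ac44659e315dc9228171bb0cf90d03125d78c4275c478216ac02a80299e30c4490c3a161f161c279d78c210a5746114989e6de30423b2251225578c018d802e09e71e2fc15e487b7bac78be0574415c670de2f405d7bab279878bc03b4001c79091b1022200042c167be706e94bd182e1bf3c35a435ac0061e2e9dc8514945a224c81ade1ad9001678b9771c08d1e78c43f857580049e2e177a0d730d79001778b710e4a89ca8980049e2d837711571156001578b50e6478f1e2d5e2d0309532a001478b3052c5ae80051e2c82dc,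
  nat_lit 0xf51000e78ed07215774000de3b01f050f478ec78eb06fc40080031e3a82dd2bf4000c78e9042c002181fd823d576c64710000f3400030f4cd2383cd400081ab50ed850c7668575d000011140004ae68d2b4d2b83cd02dc82db04768475079dc79b079accaaccab59ea55d71dd000002ba10199019a45430f334380ae6d1b9d1b95d36153195329822c36c036b08901e38ddcf4aa4845f6b996ba06ba1277c278078e277383a0c21882180d29cd2995209e385dcd5fd95fda547e78e029c8005de3800049e37c20900ec00eb547b78de06e1acd5c62d51e5e37412346fc46f378dc0b8d1c1151d5e36c05a644a547778da04898f6151e1e36439c00053653366302b800109ee402f01ba00015fd52796279230de19e4000119c0121c12244485dcc5ff848f16b4f4be911f3001278d5771c4be83020301c8a480041e3510e40d3e0c4d001178d3096831f9e34de34823c35ca001078d10d88b990002de34014b,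
  nat_lit 0x40350008790b11f971680021e4281ba00086dae2a29096c001d2a1cb9680bb09f0308f468d73af7d7e298f0003775c1f24c2491a28d1f0c9d4a63400087fa4f817f9285a3405840570000625c000500a500887ab007a807940771dd600000ccc0cc70ea92cbc9538952847b047b6166cf848f860b2e8b2e5e40ddd51a721a641a5a1d686f5b6d0b5f0a59ad21f021f67902775133d133dd3dbdfd451949194c495de915e405dd305a505a027c90485048d79003f8807c0864479347960ca39e3fc97f0ee10ede1b840d940d9578fe36ea0d95a45d9dfd9dfa0511e3f498c2a1851873f7c0d970d9378fc774830fc4a7546b52cc0ca29e3ecda17c73352635213a21328978fa1824001153b8b02008300031c0f1c0502ed5b2da051d9e5d9ed5dc0004de3e1dd1577f6514851c646250fd001178f718b477284774475caecc004de3d8e8e82428243001578f505bd604160300069e3d03ed83128311001978f321c469100045e3c81410f44000d78f108e92fcc0051e3c01c1471d001478ef05452ad00031e3b861a,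
  nat_lit 0x4b5b502b0f930f9d70e54fde80c96d5d54ae31cc31cd1ee01edd81013ba3000a79297778a9f4a564a55899286c2c0ef8001de4a1ddd06767b281c39000b792707ec71b0fe20e734002de499ddc0d540ef6000d79251f5571900ef8000de490a3a000e7924792307cde4880120003014f014806e800000daca210a2040ebdddb7958037a19c119bd217d000f79207200ee644d91e9dc4dd51cbc0045e47db055519001b791f791e0555efb80039e47415c0b220008791c052c229c0025e46c6164148000d791a04bcac000035e46416e0ee500037918084c0005719c333c33302e882ea4d2f00007d5437aa3f7b0def061d7198b854ce54ce6c5ed05ec475107528e54ca7c8a7e9270e03f95cbcb9940071e459dda403f41307e2672607c55220e5ae95c4313a604c20449795c378f37910c59001a791577642c5436b48c19ee788cd0a4dc0061e451dd831c431c144206060000d7913391c224d22d122c518840055e4483ec0a7b0a766dab0010791122283c2c3c39b6a8003de4400482640493464a3000e790f38a91c712110313c004de4380a24f722e570013790d121cb1bca8bc0041e4303d7,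
  nat_lit 0x57b8000e79470774f708003de5181dc51d9000479450514a8300041e51012f25e20010794305b8c68de50de5081617a6c000c7941084d262cb824b36099d099bc0009de45441809d000103c843d4e4dc000031f00003fcb3fbe40d8ff28dd70dd816d6981b581edb49dddca20d9ddb594259421bbc9db3a0528923de4f5de334c034c956ba359b7d4e3b1a602860276199880d5c01139413993e40249e249c793c77891c71526d0001000cdc94dca1e4edca22d380b6b7a030e8b0e8f793a229c4c8c2bb82be0df21e4e4188793900157d7837c879382d6549e1c145c148df11e4dc2f132f6371d37237936137043b4dc80dc89e4d4ef52781278437c579340d08a6cd9f60df09e4cc1a10e0d37c179320051e4c401300063935393243cd7e7c701160af2b8a2b8556de1ac8134577840015afdcccccccbd15dd4339434484a097548a583f41de000046bf773cd42ed42f031784de8000dafd4ccc4ccc943dce2800026bf433301f031f01021c0005afcce404e3e406dcf4e000066065c6c020ce4b8e4ad99d1ee6c873194fe1f0a1d95fb791ed018d818cd5811f124a8640031e4a9ddf,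
  nat_lit 0x137d1afd02630007796510a52b19175c002de59023b1f0a00067963155543f40019e5885572b530011796104f80065e585e5802197b680005795f01749fe8000de5784b5025b0fc60fc534c300042cb1ee507bb4000c54950ee7ed4000218d89fd4d1ac00043d301f902000000057400001614162836021ad137b137e410f110a0017795877a09face8320a820a68002de55dde7302751653dc9110600157956759400c400d0c6cc004de55442c25df3dd3000e79540eac97c40041e54c0752bb7000e795201d00069e549e5441cc7c170006795007a00004271ca5680ae000009c510fa02ec26f96404b95cb96c60885c305c20d2809610962541492e080099e5400059e539de667f467ef7da512dc12de0010794d779581111841183d17940049e5316e52c920e2c0019794b095439a1e90c0061e5283993db6000e7949064825980029e520309,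
  nat_lit 0x3479857983040840a40065e6081211cdb002379810721e6fc0051e60017950e60014797f06fc26800061e5f82dd0b6a0016797d0498000cef747b987b80ad445fc00023bdc1ee51d521d4d02bc0004ef6cf08db99dba35860000036ee36f502b81a041a194d74a304a30db151ba1de5e531664ff26ed223822340d500d52797877bc873036141308132522c9e5dddee0255025483946984726279761e742f6915491cbc355c353de5d493c0edb0ee330fe44de797413b55f920ff1c97de5cc01903480345797201dc69692305e5c40740eea868c79700cfd24e5c969e5bc1e60eed0eec796e0c580014012000350504ba822482247808887a77f080f090f0d03bb77b400094311fbd87c607c642628262cf618f61d18191bb1dec000150c437ed05c105c0335b77ac000131004b1c07f0010400f59b52fd56fa66a0282805f827184864271c8720d810216a57afd290929080017796977a8d298d29c1618160497d40051e5a1de90983096605910594000f79674628b2093074c0f00041e5985f6,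
  nat_lit 0x4527bbc1da579a10d20e11076ac7691e6803cf2a2d2c8e2bac799f0d50abb50761f381e67898600912bab799d1201e6700127eac7ea8000504c8000001200050a072bce4c64820e5a895a8665ce4d6d51d944fc4500134613477cc5731e29c777d80010281478943850384df051df50003032c032d28473e7a3848000828255598fa4892b0098000109ff05a405a5412b2ca400002814057005743410a02365813f77af5140530b430b12f3d23aa000e799477d0660c6624c66cc67154ed1ed9fd080031e64ddf319253564091d091f0f45000e799277c9f274391c3934879c87a4003de645df1253756d034a8007a000d799066444ee44ecc2df40049e63c67310300026798f798e12a92ad543d40039e6346c00030798d798c07b801c00021e62c13b000422aa0b77096c000c8e6ce8c81ba0358034d251218f418f80028798977c142250411041564d5bbdc0099e6216b50c0f0c13437950df001f79875a8030c830c40089e61816f0354034b0025798511212b940085e61026f,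
  nat_lit 0x1c5446551192c9502000701875d03f08a901c881c7839dc39d9e6f9e00119511973c5f2522252334f9719d79bd77fc0e380e0934643cac39dc39d1e6f1dfe329856814c12664286db79bb6a45f36183013c6c8f348f45e6e93e0598d52a352a586d679b9114a0301db7a1b61e6e019623aa62db72a779b70e0435097145e6d80720d5c72a579b505683cb03cc5e6d032c00052e672e7147d905ca05bf48da77f400101524154c04d052b0526000115607f588a74000063600001fcf1feb65a3658e46823a5c08f84bf44c18f0d8e6ade8901c080035e6bddfc33c32dfa2df7352b1cc0000779ae5cbcb334012c011c41380029e6b5dfb22620bcb000a79ac0ba498e00031e6ac32800a1000d79aa1c9d86dcd249425072b5eec40008ad91ced1cbc000108b000045284527c7928d5140e30000181a1ca51680605975857588638c63761ab9ceb17f457f55ba41fa8d0094422c422110b0aec5e699dfa294e11d511d6135e411571c02bb479a577e43b0d33d8a41ca420aeb5e691df81043104542e042d92baf79a377dde9bc2ec4118c11b1e688430,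
  nat_lit 0x3218f219980ce76f5777971194ab64ab11122111e2f51783000091365136c7cc40bec0be07868500c5029439832a1e0b000144d844da1f3002fa01c201ca667673e286e720247828000068806894a3549c689c6d6e780c5617e582d582c575181b076df80a879d97825e764004974e40f6c0f4de760d8b0ced0f9b019b79f179d719ccbde4be04bda49c2de75873743010f8b0f8479d5226992bcbd989c25e7501ea0f8b0f8279d30c68738c9c1de74820c667f507b000500c800087e7815b015bd44cddafe01cd25a07491e0800011f9b0c1b0c1d2b0b222c222a7d582f36781c00004df04de9e784047cc84540f7c111bcf1bcd2656515258ec4c321db31db04c54238e238f31161263125f0000781800086884494dec3c4978a0500011a1e12527b0e125d78140000730085140631cc5274359b03a703a71820d6cbf6cbd6e06120c120e269230e42d1e1ffc001a79ca7810788d1508debda9c6140194a594a9ab1db009a18c13c413b87fb47f98b71c0075e725e0333de61ef30e430e547c63d985c0c2f6f2f6e467c46805a6086d886d7001679c8780840ac0f980fac62584e744e78006de71de0122967c447c43001b79c60c996ff4c42c0065e71537f453f1fe3001679c4091cc8440065e70c3204044001979c21201e70401200036e0765550d6800040701a145a1421874faf,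
  nat_lit 0x53f902730010001179fb06b085044edc4f01e7e893407b007a779f91554575c5735e7e06362d272d2179f711cc0f000f39e7d818b31ff410079f505786a306a35e7d01ab1770176e79f304f477d477ade7c84b500023a9f46a92d5a2d57101c101829a7783c0001fe0450cc2fc81c91773176d862f678288a388a47000864369646faa7fe34afc665751dc001779f0783826142624dd689a1899d1215c9a69f30a1e857c941780179df0d07ef00049e7bdc991d1130ae135f7b430d08001779ee498878503d81ebe43d31e7b9e7b530b395a80a076e74c6e001679ec31b80980b4c4bd800039e7aca127f8d50f40cb7000e79ea2f3403a09cac003de7a4856182b000a79e80d25eda80021e79c0a07bf2001479e60960019c0049e7942c40cfc000479e408b562680009e78c3140035000a79e205082f95e789e78418152d94b33000311f833e0819800080b215c0193d193c7d0d000003b80010dfb4c930c951bf21d508ca2815a41594ba8e0541dcb624d624ce131d90a0d565e0d,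
  nat_lit 0x5b19808404cc04d36f2d31a57a197852093a219cf3783d9c3dd1e861e135c67593a85a9179717967a1778493a6217c0eae8005c0091e8595536e6e75cf86aa0f720f717a152abe062dd511d5156f14c675e8519e82b1d2b1b319e7a1311bc7ce43e283e19e848329446d7dcb7a110cc85e305e3de8401b200000db27eb541e61504382836c4f239eeb836e400084e77d090db60001023c3e5436e40000193000081a30db3206d963d1bad023443dc43e5f1e5e82db2534ec49cd49ce49d542637a0a7845101910ae0681962dcbf1e8259080f9a433649dc872c7a080068d78a0825cbe9e81c1ce038403857a060a64882c8859e81405901490de57a04085961b9cbd5e80c1e600021a691a6a2f4733f81efc000469a0699db52c76900003aa10f030eff05e0849c84a5cb4e1c61a4311d21e8016f819d0868e6ea66d296d2a474879ff784010885cfc0d040d14b34de7f8b167dc2322212387b3d124a79fd2ddc8ce48ce1fe85fe81e7f0a80,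
  nat_lit 0x17e917e33b8e7b98000b7a3724761d6173494c7c50480029e8d9b806fb02c092b6e000f7a356dc84900e3b911180041e8d037c34055c9400137a330214d94c9f580041e8c988800177a327a310decd87c001de8c04807a2f004800119289724035a04b90795079c19ce19ec000e7a2e4fe519386760677064806488005de8b5e17140d815a53a3316c00107a2c769c4db5123c0069e8aca0355ac553a00167a2a0968e6cce6c80061e8a4399554000187a2806499a080041e89c3622b6500137a26059c29280031e8942dc8617000f7a240828c6b1e891e88c2861f4a00107a2204bd6c3c001de88417c3dee00087a20084c767d196403e003c800000d000061f067b6f132855635560499857a0519b33a8267426712a5d07460751819d35af785800140130001004c000928d52bfd2bf9bc10c571e1500015b1981461d5f1d601400000209fe09f4074,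
  nat_lit 0x6807abf0642063c0e9f873e72c46f757a557878f7cc1c6c1c78fdc5cd29e95136236743664333c333758c37a5332391bde0966096d633568b5e94999b447713c802f302f655f87a5141643f8c3f7c03c0039968ade940a2e2fa7433e09fe09f473457a4f32e933d4372c3704b105cd11e9396937a7f030d0001060400045d2c5d187d9ced6c0d200002b7d3d14019cadd8db3620e50ca4cb6ccbc0d3ecd4061d6da5c12ef9df760905613a05480039e92de1d16ec16fa2b6e2b722ead374f52c6666041cb5b1e1c891c8c1c4a7c481c5f000f7a4a7870d6553fd93ff981b5a254d0780059e925e1b2b872b8a2cc9125000147a48660446480f240f1c0f400045e91db810d0f45f921a321a200107a463cc130e46f9c6f909f18003de9149fd130113005114000f7a440c991e0517e84930003de90d56b138400187a437a4201ec0c4c0089e909e904f24241d3650000e7a40091c61840039e8fc3203628000e7a3e05d1e8f40120001368346e41fd71fd52b8c0000da091b8d1ba125ec0d036822726272b40b1236b236c7eb303f804012ee92eeb0aba0ac06e9e64a600117a3b78699a36224200c92d2869ac6984d40c910490ec147014744e244e0c297c0055e8e9e193e124960261f262100157a3968b0c7688688867c50700031e8e1e18,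
  nat_lit 0x2a912a9b00137a7328d4311097a80045e9c813330636390000d7a710d59bb14db81e9c5e9c04851c79000d7a6f11f800f8002de9b8032638b376800010ed400048e508e38868476f46a1000026b337550e4c9ac9968403d403ed03fce279fad4ed851b2c294c294173a1539d5398f17dfa45e9ade2746e08551854e687e69b036d97a6a7899ae08e051fa94dff0db75e9a46604a644c2119e519da7a681eb0deadc9519dc4db61e99c26a276536f035b035b17a6659993c211a5d1a58db55e9949b76382696036d37a64006de99400946219e98c3c01c6419d519d47a620a509748d6b1e98425c19d119d27a600051e97c01300033cb93cfe0f4c0008f2dd7fc815d00002ffc0117010f036b4d44bfdd0aac08f9ea00092c0e0879c5f20c0df80e0c7efdfdfdfe110a3dbdf1e971e257f017f05044f038303821fa91fae41b042a126742670811e8646114911477a5b7890c500c4e8b974b998e440e44dbab0510050e6127225a60ee12f5d2f4997d9e969e230d641b664f680e360e37538b367e0028002473487a597888ea8460dc60c17ef88551f2ea1a39499c89d889d5e961e21371087d374827f1b3e024cd0396a5a427a5778806b21fa25d79de035c025633d634568c5e959e1f,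
  nat_lit 0xfbb0fb27a9108516d95f779ea4022e36ce2c827a8f01356d3cb209ea380fe0e0e0e047a8d0c7c001001200073ff27e58328c349a0ecc0018ffd00f400f54b66cc4f000511a411a02c054e18564000100f140f1851a5efbc8eb00031c981ca136d90d300008ffc108693cec71f000103c203a6204400000122fd904b303dc03d84cf93a043a0649b810b010a755f255f75a255b91540c21ba7a8478c0bce01cb81ca4dc099ff5171ced98eda104f504dd2118dda4ddac776c7755ea0de2f41b25f05327e0f2b0f231dd47a8255ec81e081ec7744774dea055b97a81000c39a621ac7a800328b5bc3c903c807745e9fc0ce182d21b17a7e0e4c867df395e9f409700031f901f934f5c8547790e84e54a9a56b84d8b4d8961a81a03119c11a40f2178b80130010d271601683754066406302d702d64b4013e655b1d5b3db5ad8e580061e9f1e2d1c851c7e7d4c693e19fa19eb82694043404967ab506d735c46115dea7eaf000f7a7b78b0059c00dc00f034a034d0db91fa811379138c0055e9e9e2b4fcb4cbe29877d86838772f937be00127a7978a8cea4ce78f68cf6a9bea929fc0041e9e1e2932c186506dcb277800117a7739a1f59d8fd98fd529f40039e9d9e28239721aa1dc600087a75024ce66d6bfcddc40021e9d0cdb,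
  nat_lit 0x14c01527aaf0a6542c86ebdeab807405931baf7aad07a034b834f5eab0312000414967c16096c000c5244f63c35a0001339b5cca4cd50a0d252c0000ce65356d489c55f586f05be05c02b8024ef24f2053a053c0f807aa878d4524112e93888ab50ab2931a1bf35ea9de3425557ab100af37b60f800f7e7aa678cc82ddf3ec83020ed5ce7dea950ee2444243d6f7b0a560a4e7aa4716452cc3dd43dd03dedea8c32d5a8c6018539c539d7aa20c7a06fddf5dce6dea841983fcb3fcd87cc7aa008203c792d45ea7c072139d73967a9e01e1f6ad4e61ea742347aab87c87a9c06a00011057d05745074508014301434d8591c880d0c0d24cbbccbf53f78aee0aef1e3281b077d077d1645e25a525a03bc73bcb56c456c656c78835529a4ca42c917a9b78c433183320fca0eda54178b259ea6903a0a270a251b1502bd02ba2c937a996690e8b53c053bf59b0543ccb241ea61718182b182e3fb63fb82c8e7a9751f4090440b5405561f4b245ea590ec047d048612cc2c8b7a9523e99cf0d5101e0c1e1dea517e40137012a2c8a7a931ad8ecf4b20dea480f2,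
  nat_lit 0x3c12ee7232d00127acd3bd8986498600015eb3001b50cd2d9c00127acb1c7c41e441b80029eb2925400177aca7ac90971eb200130000004898489850b075352da7ac71140005c150001224322447ca307a502d80001f71470f409f2906149914a233fa2674000b7ac448a854105420547d28f80045eb0c91e738887db000c7ac205bc506816b40051eb04448369312fc000f7ac00f6434fc004deafc26f7ca87abf7abe0484af140025eaf41db3b9200077abc08c1f4f4002deaec19a305c000b7aba0accb624002deae41200002737a35762a1f2668024c0005cde4d5d41ea41eac0440000737b47e50d698165815dbe6209c95ced61186ec5ead9e393b892cbc274422dc1bc07ca67ab578e0b061be6c054805686ecdead1e372b961ee8103310371bb27ab378d838b838b50eb175346eadeac8ab412e372861bcd7ca37ca27ab146bc8bf4e2fc6ea5eac01e9,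
  nat_lit 0x15d38562a87031300147aeb1378afd4afd8cd480051eba842c1eb000107ae901d5a0b80041eba01cd56ff00097ae708580061eb9deb9801848ba00087ae50afc0015ff6100619b20a7a8a7b19ef92ef9e3d0004586236b8020c000d9a080c200bb00010002000050f350f978f151e10931def205e904e0003deb858bf66815ac371816f5b871c000b7ae06ab99a0199fc0039eb7c12405d905e000157ade0a7439cc0025eb7421833a500097adc08e965d80035eb6c61a03c7000d7ada0668dc60003deb641af681f000d7ad804800c08002deb5c11f00177ad77ad6085d0674399c00041420002412b816d716870096e7c000504a439843930000412733a003810480f0d8f0e56105610d1e90d05cd0819750fa9e00fd17608920419c41ac004deb49e3b5aad5aaa2178216d5c2c6e9939e139e35b3c620577536a5982ea4d3362f0000f7ad178e88ebcd730fa0c7140002deb413c003dc2c372bd800127acf2e40ad5416fc0089eb3deb38a57,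
  nat_lit 0xf150f0e7d14000e7b097914a8cdf885fca80029ec200cf12be000b7b0702388fc5ec1dec1800110f32d2b12c912d400000b0000083c884454446875008b608b71e4400010f1f12be12bd0f610f66328000003c78d8c11e3d1e34aa0c92e7c080f2a237201987b1a01807b02790c6e6c011800f5fc04d4f08fcdec05e422fc507b307a607e626b023f07b00790400a9fc846abc061005f5ebfc8037f1f36c924e023e77afe221c3ca9368151a08fadebf47e912bc1c2a23e87afc215874248fa1ebec0f323f57d8e7afa095c4dfc8fa1ebe4231173423e07af808b48f5df629ebdc142018201747af608b000196a157120b01cb0152254d1294cbd2e292e3d7a3de3522781da3a23e9c1614a79e4000055a87755076aa890576c96f2452d065a800116a14da8865cc580ce2e00035a8436a11fd11fce02bc00096a0dc4060b3d3cf85a800010f8e0f85020c00016a0d4a6035a83315a8d4a357ec3330373c800107aef78fd5fb54f34f4e52a600c60005debb898a0f40387d35f735f600087aed78f832f853d90b600f5c0049ebb079d,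
  nat_lit 0x1b3b7d0c000d7b270fa87dc09da00041ec980b04dc22eed000e7b25192105900001ec901160006324d324808880015170d60801810000251773788147112e112724f224f0038b793c945574719431aaf81321edb813403c903cb80061ec85e4e45390e8a0e8481095c762c34000d00127b2079343d3919d2015c005dec7c09e1d390f240f2b00157b1e387916fc7b307b080051ec7498e273e1f647d5300137b1c2f6021e47aac0041ec6c2481b1c324d00107b1a0cd10574b2fc0015ec6417658601e8200077b1827c049e00005ec5c1162d6300017b1600bc0024012000700480005355cb2b888c2c2e41951e7900011c94339c33a400002e3000200070f1d0f160364036f57214a7b3dda3d5e1e797930000400255201e02dde21c901a7bda7a5340de4b00000008547f81b37f3d12a9322c0019f424cf34cf3a2419dfda089101a501899bcd011093402a642a6c6e6c0029ec39e4a000623fc7b0e7b0d0000126b1383276627677e4c746a804602fb03022e142d592e1079240da1ed0c1e8c1e541fac6d906dac8f8c8f8981f9cea9c02d0789fc683cf0003dec31e4800fa0109457e2082139000127b0b791d247548094730db69fcb00031ec29e46,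
  nat_lit 0x2eb3001e7b450488d49c0079ed1074d00227b457b43017c000c64092140e19d8dc4a0400021901484f80ec4cc700f000044400440c12e000019043e220d686405b791c30daa49a92581798165ecfc9a4360864a74eb34eb1400540067b3e794c516cb314b3014601d0f5ecf5b87381549893bc13bc03bc67b3c5a280b440b641511000decec20754be511f5121743b7b3a114a06fe26f5d0e5ece41986de6053105307b380e05ed4221adecdc26734ab5e107b3601bc50f9d0d9ecd410f0524052c7b340dc873647391eccc05400071f6c7d6b0b0c001894309424246000034bf4b084b0f2bbb2bbd7948d3109b649b80735c9b80908c90707da400a1ecc5ecc1e510307030004e004e34a69363035110ec70ec9000f7b2f7941429d42ad0aededa00031ecb9a757f5100310032000e7b2d02783cd03ce80091ecb5ecb0d542417241c00267b2c7b2b101cb75071880091ecadeca849a0f430f44525a000d7b291104ba3deed40035eca0855,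
  nat_lit 0x4ba3000c7b631201ed88012000102302dba7318731b882a1fbb1fb845441b731075796c0001ee0c08dd77c20e2c2d2d9b502251f401f4547f76a0c6a246496364436432d1313790446043d80b780b27b6079693ed152c18e152b9ca358a345ed7de591242124153d6450280b480b07b5e2af13500003c00409ef09efded75d4005700574146044e57b5c29745ec1a3a2038d137ded6c7a0824e824d44df7b5a24d0f4d51365ed645f55ae044da7b58023c9f2c9f39ed5c22b5ccb44de7b56065172ed1371ed5415e281944347b5401747ecc7ed9ed4c0e90006255325580574000083d92a612aa21decd7820f35a2d5a305a874b02575d5096508f76fd69ff6a007a527a537a5386685ecc00027960000401300012c6343ad1f011d7d10bc10bd30a8375d869a869c795c0000b18615f9a8f9a8f610a1d690875087887784e5572fb8a17786b82332db8001d7b4d7958481047e19d60f0b0f0a00079ed31e5567bf83110466046a253300217b4b7950036c03700089ed28a7215952eb000227b49106c96491a200069ed202d82c9f2eb200207b4707249fb40059ed182e3,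
  nat_lit 0x47d000017b810f144df84dfc00006360003815c4a3f690242d43b083b0579800009173444144411c2f850800014af860fc096c00012be13c5c35a044d045017ff1de13560355800107b7c5058710470f42db9f0ec006dedf1eded41559d4291d291a1eb600127b7a43089b3c9b40d6e87ad00045ede5129201232dd32e61bdd00077b7827e44d2c4d1ca0fc0091ede1eddc4ee85e585e4678100107b760d74a8e80029edd435c556e000f7b740734c988003dedcc2982554000f7b7207a04900000dedc43121bd30ffe100615a84b4f124a000261cd8e344908000422c0001188618902feb176b028c0000dc1848ec0677f8e76f77f6b7f6935123b76333d334364a876e63f183345334c30bf30c100157b6d797ca69cdcb0dca4f4d857745761036e068453ac53d5338d8cc8468414c014ec0045edb1e5e2a30552521f71d371d3963610b4f000a7b6b7974789078b80889ee300029eda9e5c20112016201c283200157b693cc87aa47b6c08a9ee280021eda09fd2217220d000a7b6702151281127c0025ed984ab53f226a300077b6512c8c92c0039ed90320,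
  nat_lit 0x518e000a7b9f090945b1ce85681c001432932af1b81000302b8aaf46dfc00080320f700f6b346d449600000338000ca79150a8c2c4b900ae04ade0ee44a2c5fa4556a956c9bf32226d12591255e680002016d01651e4367a6860367af2e727f0b68e667121b80799c000405b005a8ca34ca448aa88aa60ece0ec5d12000029db4c5d47ce2f9b2f965750a764da7d0b190b1c1f501f554b5d0d6041a00031ee5de667f5c770a781f59f759f6001d7b977b9679950618cb4ccb493b7966280035ee55e64745d04aa000e7b94227d53041a640039ee4c28f5343000e7b9201b94a840039ee443042579000e7b900808978c0021ee3c07d000624f506990b0c0010c8397f6034e034f034f9f1c571958c8229dd71e5ff58e2f19efe1825af5a13ade630003004c0000417c5468d5b9bbc9bbb9ff383aa03ab18c203a843a68fd1469c04bac4b89c1d9e6210537cc4747a7479409e1a921a9300137b8b7985f5e86f6e0edca538a51c0055ee2994b207e20844902679900137b8921e1cc60d11cd1411f580021ee214ee037c03834e2b44bb000c7b870ccc12648ccdf8219e800041ee1923a068b00b100b4000f7b8529314cdd677c0029ee102e9529100107b83051095880041ee08727,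
  nat_lit 0x1410f422845db5c6e0f577cc40f3c124b805e4f1e57e7531544c544c451595d9179bc0000438df38624c9c111c9f1ca499fa4e7f482b082a5e6e064f064d3377387d88ac74356bdb84837bbc79b5175d06b506d1532865bc65a9eeede6c4025402753d25b835b827bba79ad08b10895252e05f9718deee59ac86187a127194700059237bb876c844200e500e449be56dfdeedca7c049a018c018a3a4b5c617bb62f89206539ad39b96df5eed42a31daa65045c597bb40ba5731573117169eecca77496e52e97bb20ca146b946adeec42ff72c45c5a7bb00c9c00109dbcd3d4d3a1d204a330003276e34f434f12db2034000089dbcda80da9dd1b085200012512251102b80000856885700bb276e332e332d460d46131b8a00117bab79a914e6189de9ddba71535c005deea9e694807814057be57bc00157ba966f1d0d9bba202b8a7a80045eea10ed541c55b154d600147ba7082d05f9062557a80059ee98a67375d5be300117ba507f60bce0bd0004dee90381516700047ba305380065ee8dee88078555e00117ba1043cb9c0003dee8015a,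
  nat_lit 0x53b8737c7381556104b904b47c4006317bdc79e03954396571419090cd10cd15ef6cf3f330d33c857db57dd74e17bda3ab565d9b9a1cb20f544f535ef6529005500534053011f37bd82b984790e740970896e9ef5c0d70e550e5033377fa67bd679dc74c89f7496dc96e1ef54a5f7470700970067bd42379b961e61e243def4c35241a174d47bd204590a71d35def4401d000606da55de02b800141b60db441ba2a5d2a5e655d61000000032c0004a964a975957183fd9d600002352235b013d9fc8dc24dc5c656c6571b9d5b9cdb99db9b1b9e1cae9ef31e762fd65ae970ab3f0e3f176fc04fa83dcf3dd172817bcb79d41b55267cefce01560150ef79a4fe2161ef29e7483e1881e5fcb5d085ee4583c308930887bc979ccbf2400c800d545854560f088f0710119ef21e7228be6ae580cf413e72b57bc779c523cd228122796515cad1ef19e70693a53e253db308530847bc536ea047a048515d532513231ef10c4955fb5602354b308130827bc364bca290a2b15639563dcad5ef08da17f222db96104615872b47bc111e8001d24cd208c2c30005004dbc3dda52018cf4800000002,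
  nat_lit 0x10bd23feb096c000023e823d00bb0bcc535553564e904e9100257bfa7bf87a014d3188cd88b06220620e24d1efdde7f06bc3b9142d3065c064d7bf679f868c4c7d81905f1681931efd5e7d1b651b271b1d892f7bf42b6c7f1cf5bcf5a5efcc0106b4f70267bf201d6104e24bdefc400f4ac952167bf00cfc1361a275efbc01833507fc07bee0afc001c013000500480000c7c8443c442070292f01e7c31ef490f478900000c6c0018913458745878810cbfb521c50e114161b9fe05dde7b000505620546054c0fb20fb405e505e314202990299279e80010913149f4c3eca91ca908e550003244c444e44470f6000089130e584e5a11f00001103702ed2bb40000910890dcb081cc439dd25cf25c77be30104ccbc47e1f46847f9ef880f839e139db25cd25c57be10100ccf1fec5ef8009f00043e243e29090c000d60e9b9882ee00013e713e6d00c93528d62c69c869b1306cbc08bc14d834e75497209701ef75e79,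
  nat_lit 0x2a0c2a0f68dc2fb22fb349b149ad7c18566114b1c77dc6a21f5dbd15d1cdf05de8259dd55e955ef87ce6f137c16487caed1db59602d26b926a9f055241172917282ac83e047c144959100d41ca100dd1bdf04d12408a3745d745e7c1204d14c81d19dd199f04416c53f661b072c17c10298c1234121522e1f03c00a4a48569d7c0e02c800100559a8e825b000301566aca02c93924e6d8e6e0aa7caa780101f031d71119d39b439b2524c614300407c0b4ca1d185d1762299cc05f039f029e810153071e00427c0904912e2948c80115f0201477c0a68b6003e7c070f65520c011df01826f290800417c050884bb40010df0101c173e100417c03076cc02800f5f008230096e003b7c010668a96000d9f0001f0301200377bff0481ce2c0101eff82dd743e003d7bfd042c00102f41fa4090fccd4ce6600030bcf7e8f244547ac4c2800082f3890dd4621463152b,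
  nat_lit 0x25602557c6f7c3621c570980eb5f0d426f01b07c6e7c3408e970e40e91f0cc1c4388703a67c32076d51b80eb9f0c461a140303ac7c3007204b280e7df0bc2b3046003a07c2e0ae40bac0e81f0b412607027c9e00040578d634662c663c0008aba00064b76373d53bb492181de81df0edb7d290ec8118c7a2c0014d97cabbc0c040c14ba4cdc4cb8708785e8a00044b793abf3abb4db268527afc7ada863a7a24000cbd5406dc06e13f4c1c1889e00024b773abd3abe49834e4c184800061f6417a817901818181d3ee0000380505b805bc4ce24cdf64bcf0ace0ee017a068e01a8c948c95c512c145df1d4eaa20240afa44db0290828f1f091e881e31606b0d140d160af40b017c237a1c55e5d1d16851794d7950ab5df08968102340fe63d5b2ad67c2103edf084003510660395f0800ca2ada2ad85e512ad47c1f03382d882d6df078b140001004800048888889ce47c7e3c7e248d9c4f244f45767ccc3ccc30cc15940584dc3254324de8600004a54888020d2412d295441d441e892018f4000f5f07a256069cc69e96f696f49e61de6462b65cb31f06de852fdd297d033d0254025204be35a289237c1a7a102460a3cc3f443f7cb651230d2309f065e83,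
  nat_lit 0x20e220e1000c7c540a70537c539c0015f14c3760c9000087c520a4c0bfc0021f1440767db9000e7c500c1056840039f13c20251b6000b7c4e01f475b475bcad760c890edd7f49e99216698ae58ae2094873e458a43ccc3cb047d1f139e924bb92fb404e904f311fe06ac06aa1402431f43204d3729762971213621335adc7c4d7a44de493b5a1a7a2de9eaea1ab8cca4516851380ae00b05f131e900058153e15415d961dd11dca0eaa0eb77c4b7a3c322878008e108e1cbebc47d847c1f129e8e06d516142d102a8a2a83312d5ad97c497a340b140afd9ff21a661a61f12110d154824032400312b5ad77c4753a83a4c3a2443904389f118e494c993dc410e310e17c4548cd2df842e042c84381f111313748e628c62905ad27c4301580e940988098df10813403b87c42000b7c4106ec4749f5d04799f1004854bab4ba77c3f01f875747595f0f80b200052b5002f2096c00104064405835a0002019e01a3148e03e603df37323573803b374b375a7a3029cdf0f0006456494d300ed1f0ed8bf0e02001b0019024e7d4b03a97c3a17855309a18e1ad498b40eb9f0e486a10017d4903af7c3805bc52e80e65f1c1f0dc448,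
  nat_lit 0x11f011e336a000f7c7255ad65419334002df1c47d5219d33f6000a7c700f3c9ab18ecc0039f1bc4b2206e000e7c6e0a5ce6a40039f1b41747c6c0048000dfbc48afc736c2664e6600027ef022be7da7125603140005fbbc8e400b200b2cc330000239c325e0d688e64bb0cbeb1404dd5f5d6003149f1a1e97500b500925aa095809517c672864db0cdb0044c425502541f1989750013000d0c707d347d337c653cb87c7c3b781f5df3881f1df191e96011d01127d317c63075424a824b5f1882994c120c4c7c6101d077443131f18029840f00c457c5f006001e03109f1783125719092f00041524d32c24a4000c3d35150092c00020ce0000842b95029703d398ddea982a02eb02e182a442a102a082f9205199ced5f39e95000110b14f184f1242fe32972bb42bb22d1a7fa60f3c7a50000042bd2e112e0d5188249d97510a42980143614356f506f4b7a148480006c000d7c58729c329832aca9248efc8f1c55780041f15d3272568256b259a43e043e400127c567a4c478cd569f159f1542b8,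
  nat_lit 0x1f811f7a00137c900e06127c003df23c7cd247e000f7c8e056d03600041f23415a012e00027c8c01513ead3eb0000431f000171c062566254688d35e00001aa11a2905de6a8d53e353e056e93223322523452347572819c519c417ce17c95a501dad1db77c897a786ff51c4d453966111705751574e2074c229c2291a5ea2fda1d707574756ca859f221e9d07b17d0207a520d221f021ec7c8722a0da4ca3cca3dd0c30a855f218af820a120a548282a167c852e40e12cc858bb18a859f2116fa7c84001639c42a137c8309b095d487a0879df2081b0441921ed21e67c8102dd873226b9fe39f200769246f12f512f07c7f0618bafca841f1f82a912f512ee7c7d0051f1f00130002401421a0020c0000ffca02a4dfc58f000a33f1d34c734c66f746f7183f956e45789578180b310901081108589b309b1000e7c7a7a72057de181bd9552c898549840fe0e0534b9d9093d4984d4e8d4d48ee88ed80045f1e5e9b820e8a5272a58b2450ae5cd05cd6867e7ac785d963874f0c41080c5f7c797c787a687d4082b90f8978000051f1dd981132143ed467a557000117c767a6465787df20eb155d00041f1d4987245f246858035571000f7c74722117b1281927f00031f1cde98,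
  nat_lit 0x305d38177cae292468d868e1f2b402d00052c583efb04b80010b161f9b00b2349334950f820f801a0100127cab7a889bf8d868ab30ab10c06c0049f2a9ea12bd541532d93286700157ca92048d240d228006df2a02552c553e0800107ca70f9c8a54fdb40065f2983997deb000f7ca5057005500061f2900ff00267ca47ca305f8a4b80035f2882dc413700107ca10828d5180041f280145422500107c9f05f4f0b80041f27816e342c000a7c9d05ec66340029f27019000044a13342504b8000d2841f9b80b2000118a018a533c11b0b35bc0000c02414e80b640b740c642172392238f0530053630da2a247c997c987a80ed2ced60be4cbe496d207028003df25de9f12d610ca10d020f02a287c977c9643bd164913a51a8c00c40049f2550ee7f7b1f481f47267c000e7c945a284cedf7704c15f251f24c2071a901354135d00147c92053d049400d00039f2441fd,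
  nat_lit 0x106c070d07124bb1761376128302431b45fc5a6668475bb56fef6ff38bc375d47ccd7aa8ffd1dbc9dea160a1451144f227f5eb3630e23149ededb359ed7e1f4803a80375f331ea97f1f2027202c3cc03cc157ca57c85f417ccb7aa214fa14e172edbe65e40224e5caa1f329ea7124c124f323d358a35867cc92084353121fd49894999f320a363677367c526152657cc7141df34402bc02c54991f319ea626af899c899b6c037cc517e203f22b5149754989f3100e409533b794c147cc306f1fb51d71dd719f3081b50c675c7d75c87cc10d59736a21f9ca79f3003d73fe775c77cbf02b841744161f2f80b2000a004800200130009030103031ffe829682920a807a9400206cb5c9d1af6197fccb9480500071b301b8e099800186cb98a9811800051b301ba90cf400106cb8fa703a200031b2f5f5216fc00086b35fa3068100017e911b1e066400006cb582f01c50019001c8284793b828938177cb23c65d24969d063946384c860c871f2c5ea47cb000000a5c0a6600006d102995f56829c867b5f2bdea3,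
  nat_lit 0x533930ccb155800118e4619082460000385b6b1a87fb8b0563987ac00b240b353c218f360b44712c71148fb0d1346addf3a1eaf18914af83bdb8167816637ce64ab66101a807eb77ce77ab8f075166cd12c6ad5f398ff42b9d27a527ab1ab47ce541dc6f092bd8d1306acdf3911d84d760c31000f000d7ce31128610116806ac9f38824845a24af27eb57ce10594645464446aa9f380347190018ff1ab27cdf192000206ac06e002c300071aab3edc0bb8b41418d418f85ed5f9e05eac3919f734394d7b89f375ead0b830c00619160b30c410c420be20bda488b5ee07cdc7ab1f36d7b717b917b957bae1629f36c002d012deab7d910b3f3c6246755ee37cda65802d7d4b053cb53ca17b6df36448a26c23f6880ea36897cd838f9223c393839357b71f35cd541aa4343a458f5edb7cd6165dd25d230d9dc97b69f3543940c1c17f417f585837cd42f5c2df82dfd7b69f34c3740b560b550db87cd22a2cbac038283841f34417640fb65e85ed67cd0192100e102bdf33c04f46695ed67cce2a280000858c8591f5d82950223,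
  nat_lit 0x3004c0000dba521d4f850f84da3f4e60c0be80c00e9f4615deb636e4741e7950472d3f3d3f408612000d7d077ad53d3c2b542b6c6e58d1c00029f419eb42f382f3d185d186400157d056859387588f5d9da0618003df41085c1a591a554aad324f00117d035d05f4106b5863a863c40049f409eb31bf51bb11bae2407000e7d017ac92ab471980045f40030f18ad00197d007cff10850be40045f3f83281868000f7cfd06ccefb8001df3f032780dd5cd559f13a7d3a7656fa78e88b366a8989c400013e719d05e689e3add1f9d1f4000072b0004817b766b723f6c6a6c692af4000c185418585df000214dd14e2023c0004efbd8bd03ff000019fa19f411f06d39fab06490e66062940039f3d5eb167a467a56c5069e663a0000f7cf475ed16a136240041f3cc9ef185d7e9a00107cf227990a3c6128003df3c41b8507241b800107cf005a471540019f3bc0731842000c7cee071d16c00031f3b41581ab57ced7cec017c001c6814680410d,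
  nat_lit 0x4dda37cd7d2606906cac6ca0000055700057edf195c37d71c3d1b231b207aec001069086916193cfcb4fcd928a00031b79199501e401e3292000086ded1b098784fc6d2e300011b7c3f0704b800006df0f0600b21a3d1a4050e13f3f1aed1af8000e7d1f7ae8c368f9560749ad24002df478a193488348c3f546160000a7d1d5e05056d0564df6cdf940035f4707724ef6192c1923000d7d1b13b549013c74002df468019003300057d1901dd0c61f465f46000f2d72000c7d170a6061a80029f45800e00034d3732850ffc0005acfd32a806c806d9f5b4163454e949f549e109fd0a156aad6ab5d9e495c1eb9000055a138e038e13b8f29bd29b8534602f902f8002e7ae0180c180946812d4d2d55c0b920492041e4e50c45f44deb71b7e1b021afb31aa31b2430f7d1257d51745172208e9f444aab00157d1100127d1014953c25174d0c31f43c20918d618e23e4d7d0e048d0b810c35f4341150004000e7d0c0450b5910c45f42c74d4da1430f7d0a0e700015389c0014064,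
  nat_lit 0x70b557f010bb8000171c171d971f1b85a22f8e0e1fce1fca87238725364d364a752e4bbe4bc300137d437b0d2d64f0f203f0ca354f3e101de972100d48cc0065f509ec24d9582053f0e65f300167d413ab57368e4b8e488dfb5f505f501cad1af809d709d6000b7d3f3f282d802d712ef80039f4f80c30b471bd94bc1000d7d3d18d02e482e28c5380031f4f05a5457e187d188300157d3b1104fd20fd38004df4e82481bca1bc2000c7d392dcc6e5c726c0041f4e00521b2000017d37013c00e00005f4d8a8a000728271b290888000c012000334eb385a4769476a4ad400092ec82d402d450c0541c00011be9190a190827880001179e095c00b88b8494f85938c2c7c1d44a377437f94220d390837dc7d307b045a90ea89ce6178a50964c26cc280df65f4bdec06417640e62952b4c2b4a2b5d7d2e7afc88508834df08c740b638b625f4b5ebe1b172faf2fad0b2b0b297d2c7af5316d317984e5732cdf61f4adebc001b7d2b00137d2a12a93161316cdf45f4a46e51c91389537ce7d280678000c0041f49c13f,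
  nat_lit 0x759636490088800059bed64d62ae1817d80dd7ee17ec5979dec9000066f67169716c89f32b977b20ad809310931d9d9da26d90d990d5639563919dc5f581ec7208b416e65696823817236af47e56429851758e57d5f7b18001592158df21ab8e82e06d93d297df9f579ec50118011f83ed516c7d5d0360fd75638d63819db5f57067928f928f3684c676c7d5b3a7000ec657465819dadf5685a558255829657368897d594add921e32259da1f560079807e67467d5704580020f3ac6ee0193000319a5616604b9f8f00254026827b51e34005df5546e20e4200957d5d52fb1b1300157d547b10c5dcc5e090ac90b00041f54c75b19a837f500177d52054c64a86470005df5448723f373f5f00167d500ad82d900049f53c26f60d200127d4e0884fdb40031f5341c16c0700087d4c04613850002df52c2301b6a00087d4a06687110004df5241af1bfb00117d480481fcb0003df51c11f615a000d7d46049800202d558f102c3,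
  nat_lit 0x75c4799e799f7458000b7d8069f596e40075f601f5fc101001f001b7d7f7d7e041df5f4002df5f41dd3454000b7d7c077190b8002df5ec1457d7b000b7d7a04bda1a0002df5e417b65fa2a810000060400002f682f64aca0cf60c450c420f092b19000c7d771b183ad43ab22904ac4d96c0004df5d9ecd742e6acd4a264a22000b7d755b959e15f5d80041f5d02554244000a7d730571f5c80035f5c8285344c000a7d710829908c000df5c0286000b7d707d6f0c219f8c0021f5b817b0004392839270578000d188518f405d0821081b42d72b090000018400018ac06c6c6c4d630812cdf6d48dd08ddce6cce504e5190430793c7934ac21ecc62a85249524c3b253b3672cd837c28d228d6000a7d6a7b2d3cf93d018af4ae3082380029f5a5eca3c893c88000f7d6811fcae1082480021f59c1d1640c6414000e7d660465f594001df594302000d00037d6406119661f591f58c406,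
  nat_lit 0x26573eb3159015940e097d9e7b486c59081907f8380df6749cf08d532832b9f0e017d9c214909501268126df66c23b80a87e847d9a08ad11843801f664194804d0e017d980578af703805f65c3380478047c7d960138130c37e5f6540ed000186e663a563a67b2a8553629000019a859a8d9ee40000bef66a0669e67a92c542bcc000e7d937b461c099ec59840aa80006c0061f649ed05891634d79b075d600117d9166d0bdbc61d861d54ae80041f641ecf5c9b668067fd00107d8f17d998599dfa08740021f6384e7173d000b7d8d15542434002df6305572bc4000d7d8b11cc004df62df62818b7d89000c7d8906ada09c0005f62013a0a0900037d8703a40000f2999a5812e3ca9323a2bc500002734000428099f71ef21b3a598d998d0aee52d70000004c2800adf43d083b603b64a41e026d8fed8fdc00380045f60dece19f019f15ec18071187d000c7d8217ed59a8d6c18540a41d8ed00035f604617,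
  nat_lit 0x8158310e37214a987dbc1f8c8d588d5d1795f6ec3950ae40ae07dba03c100dd2a51f6e41382b874a927db80b1154b12a35f6dc04d81202ed67db6037554ed2a31f6d414233474a8c7db40918000d2d5d516c23ac0060e6600024b51533a2a4d135800060e5d1af808300003ead3eab06e92d59639d0bd8253425387ea07ebdf6c1ed7575206ab7e1806977fff213b7daf6cec2a501c3c1c348d212031f6b9ed628872888296f5517480b7dad54a508242d042d2449bc49cdf6b1ed58514851b37bb213421377dab46bcb5a4b5a868646855f6a89f8098f126912707da913b072e072bdf6a00772b3f34ae7da70cfc89bd2009f6981e6174517547da50c580008afd2034cb458b444af04aee54615b3e46018121812103828058c05b14c9c4261ed400012bf1042104142eac1f2c0000afc111850d643c02be5729534a00fd80fd50e047da22150ded8dec48d2c6c6c5bdc3825f6856f734543ea45aa44c394c3c0e0c7da07b4c9cf89cf597e181b43809f67d692,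
  nat_lit 0x2ee93ea57dda155cacf4ad01f76422b61946afb7dd80651afaa2319f75c21972906af67dd60175384d8405f7540ed00090048001c013000838ff2c7d2c855de32ceb7b78001cd5acd5b41c1000609097e630da8001545a945a046e00044186418a0668000e24b224941af0002299a299d048000044c80252c1f7000069f369f5071503b0f6845e845e9892980049f729edd1f7709ac09a115dd547e00107dc97b710b24c47a05940031f7211cc0a597e6f3e96000d7dc77b6ce36cc472058c0029f71804403407dc67dc502a81a2c0025f710aca0002531d63822eaa1f5000054c756d08cd681720000443002d402d704654c6138fa2f9d97c591519145a345a349b5be343a1e3599bd9be9a4352a59f705eda13ec13f721d720a120ae42677dc07b6417acbcacbcc4e0a92a5df6fded8093f0946209b20982edf7dbe49cd7885da7860e860e5f6f4c76,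
  nat_lit 0x8b4f77047df80b74ed4d7829f7dc217000669f65a09020c0015d15d5a1c1ba00005b14855557635d60399d6c4d95797a4cf4e8f4e1c7c1dd622db5ca254a4da664ad907cbc7cdd727df7d1ee875788ac879ed82ad7e9a0a5e510f56ef50d687407df37b9c5e205e41c2fc47044718a7cc26e826ecd8c4d8e1f7c9ee657e2246524610e000dff69da311712cf12d1873e7df17b962a318bacfa1c45944599447939c22d21f7c1ee459c34de114e914f239a022e9806122f17def7b8d426d7831158115892479cac9e7addbedf7b9ee237103da0271c271a499d7ded13291c0d1e74254825197e25f7b06f10b0b7e9f0b1e1ece5dfd7deb1cb0e9604fa04f9926712669f7a80063b873f6349a112d712d57de93125232896f8970c8bc48ba9f7a08582e8e279b80b627905df97de77b84533c53544181fbf977e1f7995fd0002403540344d3544700e10000500d100c90df412800000049c91e27fd87c187b21bf5ac1df78dee0175c4a496b255e443ab53ab17de27b7ccb50c60cc528ae84ae7966f1f784ae71a965e316c804176416d7de0275cb018b02992f1c475ac05f77cf3c5ad868ad001600177dde2d58e465dd1dfa1829c1f7747a05faf791d6afd7ddc1754e3e8cc79f76c555,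
  nat_lit 0x9c00a100c100c0000000580000cb799ab99ab0c2232d532cf664f86725d38612c7e157ba8f4e8f4f19c999489948184b1f8518383b47193919365ff887037e137ba4fd58fd4d2294f4fcf4f9f849a7c643b669c66a050747e1128498e258e2002dc02c9f840bcd400918ac18ad7e0f2a5c23342309f8383492bc72bbe7e0d1a78f4c8f4f5f83025732cb32c47e0b0b10cb28cb05f82804d3d2f3d3d7e09037593621be1f820009000420af20b404b8000dc399dc480bb1cc51c181c21386d82373ae87e061728e7f07059ffc0bcdcbcecc295f8145fd469a12891288001c7e057e045ad1c3963121dc45f80c124714e5fa15fa07e020c60ed4578417e7df80423f807423037e00079c10f572adf7fc10c0b0712eb7dfe0484454126b9f7f411875678b557dfc08a41790b2c1f7ec1c0317736417dfa05e4e1de1d1df7e4120,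
  nat_lit 0x40003000012e4000162ba089cd63cd74422642274238ca7d4f3791449eef5d2e3e603e6776b37c0e69fa069906983333334050bb6b292d9a2da01c3c7e337bb8f55d9bb2201a201c69846999f8c92d246864f43590e66d93db31c3b7e317bb5354d98e19c41b7e6213470e5f8c1eec68b8623b1d920bff0bf57e2f2dddacec683c682070e5f8b896a59c959603a251c3a7e2d292d3134756870f1f8b0969517d80187e2b17d4df6870e1f8a8636000f1a8f7e290880fe0470c1f8a03a338ef1c2e7e270ce1102870d5f89804e1c291c247e2512d5140a0db9df06280dae140004c5e00091a8187fd6dba64756472467b318c00206a1101ca2909c9fe2485eeb00071a8a1d0a1d0b8bd5645e4354001803700375502d8e9843a00051a831ab017d400103bec3bf408f00031a8282571208000869f0761c47c00017fe81a720b5c00006a0548444a91a78000b7e1a0b05688df869f8641fa5a2300077e1802b1f85c04c,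
  nat_lit 0x60205f8082f6e256873686e61806177688e00137e537bcccc3993b8a440a4314dca2571b1e80080008c005df949ef2675884894d6a4d7200177e517bc624f1c039a315928c005df9417f2416458040744000d7e4f3ec1357935a1a2240039f93896e828761ae61ad000d7e4d0e4535d999a999a40031f9305a52fbf1b8c1b87000e7e4b38f525c80079f92df9288df4c7046a9000a7e490de925ad25bc0041f9208de59e9003100107e471921648c0005f91804f684d00017e450dcc001927dd6480142000559e36914253c00001cf54be5cc69220ce1b7eb3071f8106271e470c3180715900187e427bc22965e539e535ce500039f904e8e654a002000177e4011211a7c00880059f8fc29d4c6300127e3e09bc7111f8f9f8f423a001f00077e3c0ad51a6c0029f8ec151293900157e3a18699218004df8e41c8469800047e3807c00068001df8dc1c668c500077e36047cf574000df8d410b,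
  nat_lit 0x1d9f1cf5806b1d0680767e71497e117e11706a686a49f9c0049073035b51a991a917e6f0251f9bc004c6a586a41f9b9046618d825a1a961a8f7e6d4790784c78586a6600e9f9b00a450ca1bc8804f7e6b1b2e0d246f7c6f79f9a816c1dca1d9d1d8e7e6900d0e45501587629f9a003387c21d887e6704b872547241f998132000800f71a8e0b0c001c03dc675c2ee31cb31c682af82b039e23fb81c921c9136de1b897e647bd877646a706aa14900c84c3b303b206ec46edc6e2df98def54d724c8e64f287d17557889f64d91b857e627bd150c13d2d33dc6e460101f9852d83fb30c510c462dd01b867e600eca0dd5afd07cc06c95f97cfb01859342536d81b837e5e387803ada360fee46e09f9746341b9923ba3fb61b817e5c00c034f034d4400e00d1f96c4410157014c1b857e5a17ad0ce512d46e0df9643341a821a841b797e5801e4672191786e01f95c64833d91b747e56013d3cb46dd5f954373000738ea4c7805080018c140c148246,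
  nat_lit 0x245fa45f206c80d4000049a64886435100001689169000749a78885c887924e54dd16ea97e8d5f25164d8f598285439131e88e9002500271fa31eff04300310030c777963f94c8384866620661f84404a4351ce2538253157504c627e8b7bf85349fadc0b800fa00f9a2fa9fa29efd271d814a02dd02df2dd477967e897bf01ff82ba61001de71fa20cac068e5ea47e87019c0014f6b8e5502c30004687c88440918000805f005e46f186f10677c6761949dd8313e953ea5efb00011cf122a211e211e93ebc000005e805dc6a646a4906d1be21be68984898346a84e341da77e8300160c867e827be9a679a671a430a4d8a4d4320dfa05b3486f786f81cc31cc00c847e80107c318c3170762c74543221f9fd0f91d5219cd19cb0c7d7e7e06f94a2c313431243211f9f430e4d0d10750c847e7c0c2c001c00443201f9ec1974df952a60c787e7a06306af4ece03201f9e467610730c807e780694eccc31f9f9dc20c3b331a40803e1a5200001eb00000ff487858788c49b87d063a0524c59d7672c6dc78c4180a81fe33156443131ab2af763271aa880437e757be59ca4075c076c7304d8e8d8d5845cd6e06a786a59f9d1ef83a15196619651dee1dea259440591d967e737bdc67c4de306e346e387588d4787651f9c943c,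
  nat_lit 0x257d002b7ead03c1fdf400ddfab01383ffb00357eab08c4e5d80095faa804d638700257ea9037597bc00adfaa03b50ca77eaa7ea700240014012000832ad3a5d44a05eb586041ed8001ccab6216621699a6c451000632b24f3e4f342d4329c40014cab14431442d50e4cca000432b12424241f24e921e4000cca98f15cc1045d7000232ae87ac624e0db40004ca946724670c17800000048caa5de7c2cf42ce8c7f1326932cdb705a9ada9a178457850dbd8dbe530253031fa75f057ec954ee54eb23c323be8bfd7e9c7c109cc605747ea4f31e1051dec1fa6d90146a24603840f77af7e9a56b09918204c0045fa69fa64b210afb0afa841177ad7e9801090f2d7ad5fa5c5a1000b004c001801314483272278f278c26aa00007c0c001c0f240f3916714a10949814181420ecd88880887df02000645fb469a590e861a2011168b16872f7f6c2983bd7c040014abb0abcd0c88a069fd342e4c5e4ce6b9f0000041e750c480c44464e6a195f20000d17e11a5c2bcc2bc931b,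
  nat_lit 0xb1b37ce7ecb065050f4da15fb281ab2ac32ac97ec903b512aca8f4001415e32972a3b0004064c001450ec04140408b7dccf80203c20442d81f0c0004143c8c2886483f513f4e0fec000c495449652cda037cca70002143980e480e01ec90008000450e07c241b581b3c5a3000010de10db00bc50d5643927a127bc02b00230024d66916680010dfb080044df78ad38ad19fb05f0b21bd21b6312b312a4340604d811921eb2431242c7ec07c29128a332d5a940dbc0da8abf4abf9fafdc60488c48975cc2301c2b472b437ebe0f947cd47cd0f0c5faf43672d360260025c7ebc19d4c9fcea88ea9dfaec9b125cb3b187eba080c87108731fae412b0f893c2a7eb80098000103c4e58cd2002ef018a01941cca1ccb069a069943f382a1354613d513d6643a692a5e7600397eb77c2593006a806a84d048d05000e9fad8f441a4f1a4c344252e54e37003d7eb57c211dfd427942751e451e4800edfad1f0742f3359b359f0cb87eb67eb34c2d3c8e14f5eec19b6000ddfac9f061cb280b41d9000337eb11b7ceac0069006a800c1fac1a512cbc691400307eaf103058c400b5fab80df,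
  nat_lit 0x40a3409a4c977ee919d8902c9039fba01ee465b4c957ee70830f118f0edfb984000008469a43c20888001801368a52da62da573a100000d0c000829d56338963c9635a9cd71dda2c1083d0829458cb110b0f9cc7ddf41ce81f1300010a7186208d7b6b786324632373cd803113c04d0a7c48000029c600e451505144ffc907a0a6b4e743272327507be07ba119c000e7ee07c44fcb02be42bc94d048b880029fb7d7df0c282c972c91803800087ede7c40ea64b5fcb620bff5fb79fb75f0f6aab09e30591058e00067edc6d6cd808d7ecac60ac70002dfb6ca6643b08c3d145200047eda06d090e605800015fb644217f8b000d7ed80510f404002dfb5c72737d77ed77ed606c800081871fcd41638161c2b10001150222d1053800005408918c071061906150f480f4e183b36917ed37c38464524ccb5e8b5f0bfc5fb49f0d22c23cf216b916bc7ed125a8f1152e11ab98df49fb40852823b82f282f17ecf08ecaf5caf65fb3855813ae13a07ecd155ce4c0df2dfb30220,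
  nat_lit 0x822d022d604b8001d6ddcf5981ba00002489248e08c09541d3d13e1c7c884c2e01184bfcb7880001f2000005ce567e82ab72abd25b973919f998f6c392c35d435dc35ec359035817e653760f5c512004cd44ce1fc0df1f3db7820d2ac107ee07f3558130c3140213f88c627f027c781d8c1dca1a19f221eec5208893749390f105c6fdfc05f1d0b9e5d5a4f918d3a6e7038fe39073c485fd58c607f007c7175f18279b41d7315731156713e46318dfbfdf1b87ad87b060253e973e984a46780e8c617efe60c946351dece4860e2142ddfbf44ca21861fed1fec3c553c4d7efc43a86359adcc4c98002c0055fbeccc4246a247748841279126e7efa190914d514c51b75fbe8004dfbe57212b4e4ee51fbd1fb73c497ef843304c4c4c641a401a30f121fbdcc5d0006131b84cb088800144c8053dc2ee15616a6d260125bc0000010800096f091de11ddc9c949c9ceab4eaf513c81fdc1fd415f415f131cc981096edf1a00015bc387347bb28505254b1f791f78368b368711a07c6400016f0a1ccdeec614112cdcd718d738dcc1c7dd20adf1886f566e44da54da856e386218dc686297ef17c5c4c7016b816e0abc51afd1b4dfbc1f1638ac33e133d952084c9a7eef7c541810180045a445cd3275fbb9f148844864a1585805c15727eed235c539c874d358d3269fbb073723aa23b024117eeb07bdfbac004d3269fba8200,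
  nat_lit 0xacd0ad37f250aa000102e902e801ba189a18a1485a1d091d0a000f7f247c91746134955fee2bc93ea80039fc8d584133713292246224f2b47000e7f227c8c55705560deed7d100049fc856a05c035c10000e7f20049081d881dc0059fc7c871130100167f1e050457d80031fc742215397000c7f1c07041261fc71fc6c1185dfd000e7f1a08c03de00031fc641c87f81000e7f1806bd5f1c0031fc5c1c6814200087f160b74000e0d5c7ecc0b24f9b8ae38ae22b3a000002240000725a2b8a2b84ace4d6f1c9708fa06c406c881a9250e04ab04a77f137c896f6d6f662775f849acfdabd53221fc49f2115e12819281230be04a404a57f112df94d8c535453608e34c0edfc40be04693469889c78e9c89dc7f0f23a87eb4a4c429382955fc38a74152f818430387f0d066177ac120c1221fc3092157b84c7f7f0b05381a84d425fc2806f0a460a507f0908d04f7131e5fc20054,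
  nat_lit 0x784a4f571779e1253c402bd42bf4de35a2a5b075f841b8658481848d8b0d8b218cfd90d12229fd0df2a168b5f736d8e5c0b47e507757fb7078208b9287c357e3581466d674674ce50637f427ca489048908c04029ec29c8c6edfd05f282046487d40d431b082e07f406d009ea09e6c82648261fcfc7ac4cb404bd7f8604a07f3e10bd542400cdfcfc007dfcf4490254620a0817a20c27f3c075ca4a8a4b0c6d5fcec0b82c422ff531b47f3a03a8c8fd6f396f2dfce4862386d209020917f38061800880065fcdc25c7f36004cb7880268001421937ff0098000406ad35f1be4e238c00084220b6a0b743ffa47e70000000800091c298159ae7cd174882c00440038b2dcb2e49c5c5a245a1dcec11f9d1f99f2700013c0c83a9573772b583772ff81298129929115d427c9800011c14b064b08555000248ccc470b46aa5b555b566b034dc34dc745d345d14fc47f2f7c95ad1cdea88a888aa8c05e0958b031fcb8eb5837239b12916290e0b250b287f2d41b0c89d4b25e115fcb03678c8d8c8e8c927f2b07b4dfddb4f5e111fca883205d405d07f290a4c33b833ddfca0203440944027f270804ff1a3239fc981ec,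
  nat_lit 0x1136705ad05780000d534d54815d31162c0e2c0a588215ed00177f607cb4d374d36051585149de440049fd7df2c13685b4f000e7f5e11fc50900085fd79fd7442215ca80cf00137f5c0744b19c0089fd71fd6c90805ac20b600147f5a05a539200035fd6441e3bac000d7f5801400081fd61fd5c1c207b100087f561d3433680019fd5414a00045b4220a704b8000d4d40ae800b28089128e077a0779312600107f537cac071490b8fc58c0e8b1540035fd498f906a106a32954205b00117f512ebce7185a440039fd4016b0cd21fe700187f4f21c87fda05f4005dfd38871776c00097f4d086139080035fd301c1465b000d7f4b076d44680035fd2861a15dd000d7f490668c94c003dfd201c62b92000d7f470b748281fd1dfd181c50aa50aab0001090c0004c45c1da81db0b1205ba,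
  nat_lit 0x8da0ab80ab92b782b707f804c408ef48f0d2f70add0adbdfdfcf300b622eba226322622b6e7f7e27f421a421a8e574e571fdf44755ba54a0049fe554f7f7c106091a15cc55531fdec7d5553e574f554b7f7a0f3de019e0155559fde4b34141655547f780c81d2c1552dfddc1f27f760048001dd77560900830000004e1f89f49e3879f139d3ed2399e912340d48994928e7f4e7f13d1173b52c492c580001f3600006b4a49f849f25e276171ad25ad518c758c69953d955dcb68c564c57d679966ed66d60c0cc4a40049fdc9f355075266f2671086508643fa62f8d14c000217f727f717cd20b58bcb9aff14818bb1cbb0cbe3052fc0081fdc5fdc1f3349e956c132e932ea467f24a324a820921763000a7f6f7cc9d7615a095a0413e013d484d603100045fdb9f312bf15af15af65bdd360536073c5e000e7f6d1cbc60dc60eca82cea6d11e92ce44dc40039fdb1f303c5f3b473b493bbd00137f6b2e09139e12a1ad2416dc0041fda8543166a1668348e3bc100117f6957202ce42d08f160f1640025fda0cb985a38a086fee89d9000e7f6747383278327405f00600001dfd98d0c1efb124e125305b4000b7f657cbc00160ab8b711d1d0d9fe0d9603cdf2e00030293029717d400080a940a9808f,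
  nat_lit 0x23eb2fe512a37f9e1b0c79484a91fe740f31d1e12a27f9c03c0a8604ab1fe6c1381457129e7f9a03f802084a91fe64142129380d17f9808b00014195c353201b91db11dac8780762000406521e6522c0000c193c38840a000020657413104dc0005ffd419102c300000651396c0bb81924c8acc8a5338d0e345694479419e019cc5a76044d2d28902c2f582f3dfe49f3d849467501638163119071902384406cb06d580e57f917cf1080c59a859b0ff08ff0c50b5fe40fcb1ca41ca514307f8f29c823a000380059fe3842217f94a12142a7f8d0824e5a1fe340051fe301c340984cbf14297f8b0980501a0379fe281151443142b7f890c0800180041fe201c20bd20bc47f870e7000085af05b0012e000024748c215e544a69028c91c120d120d520c01f341f24240c3230edd508204b104b28a5e56355ef69557dfe15f3b423c59895d3c3ee6179817921e8b34c23e613e5d1b360a9d0a9f6cee6d01555f7f847ce8f7c12cad2c895bec4fac4c504c494b3d776c89b01638164cdcc4bd9cbd95fe0df392d1f2eda2ed082e058c67bd6863b7f827ce01f5c00b1fe08006d5551fe05f37,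
  nat_lit 0x2c625e9b351c35157fbc4490007176817685feec13420a1792a5e317fba04cd2861287978a5fee4a6315a15c165e2d7fb80d3802bd72c1fedc0ae612a5e2c7fb600c8000ce918075c07520c10b869d328c5116d20002278034ba2dd9103b3bc80005b6051ae812e00008d1e2f1002ed824939d217355f795f7d732c0049fec9f4206358010061f6176009d000b7fb17d04b204b1fd5830907608b40049fec1f4014411446375938a8000d7faf3bfd7f9132891fdc95a40025feb864021a525471017009c00077fad2b4414f1fff002640019feb1f3f3415255b00067fab07385700001dfea835c532800057fa907342b800035fea021612ba7fa87fa70c5800000262076880f80ea0091542954038654600e884b7db7884e43b8417e41804f494f4c5f8212ae7fa67cf89578a5ec976066c84b06037dfe95bae53377c144d284aec4a8712b27fa47cb9475081fc81e4e20ce1fc4ab5fe8dab239c239c30353034d80db7fa233e494c494a8c6e203e44ab9fe850b5455237b137bb12a87fa023e8298829988c444aadfe7c6d8,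
  nat_lit 0x1589bc89b968514a1f7fda3ce4f2fcf2f5af4d804d5255ff65f493ba40c090c087fd83c9092a892b9ff5c1f3461b54937fd61131ff540126ce576074688468b0a090a0138972be11a221a1f344534560ac10ac9394024387fd57d211b6456b856c4ba8953751efa151090c5ff51f471f2586694314430a626a4d7c242d7fd37d194121741939b90289028502c490b5ff497316b6347a63ba43b45242f7fd15cc0ff85859502c902bc90adff40d388c4720412c7124337fcf26b800380048b1c090c9ff3922862b93396340b24317fcd2e6078eccd48cd6c90c1ff305961ebf1ec53938242e7fcb10388368ae9890a9ff2821b385f3331242a7fc906ed49f96cec90b5ff203561daa1da924217fc700cdb3589089ff1847e613a613d6a80646a646b6e257e8a7eb97e306ab988645fdb61d8336b336a5e367fc67d1402f572657259b85178391b8de872194d51ccf410f409d0e0f70cf6e0d474d479ff15f443be85d91741b7ed08acc5e3d5e397fc40b98f97d10b170691785177154f57585ff0df433fdf67917c4e7c5788157fc2136a34ba326554e954ed757dff04ed84234247f24835dd37fc041fe30d8edf41ecc1eb5fefc0d15281340734095dd17fbe167868f8870577557741fef4c09,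
  nat_lit 0x15660b9a80b000127ff818b1836d97b80041ffdc3ab001e7ff77ff60a655c0c0021ffd400f0b4f00107ff4085887400041ffcc1e8004300087ff20c598ba082b000183a30b7b20ae00050ce20abc0f040f142a000000445000518651e2b1e282c8f2c8c596e59e759e82183102780f8101e282f28290a7f7d4c0010618129c56fb13c013c104d7c4da89b54de681a9df520003185f4a705beb4eff4f00611b5065346334664d7f7d4400086180ce0059b059bd6ee16eed7c5cfe39f500001185b4344476f404920a07d3c00006168c9b51fc84a984ab1f4e185a54a8749e6eff6ef9640f5b8c5b870032000f7fe97d35b1616a24e2d4e2bd03d00d440031ffa0a0177bd305800047fe72cfe02702da80039ff9828f803100087fe501d82d200035ff90304462b000d7fe307e400109118c535747ca338a348b9649fa00023b694cbe04b800022eee2ef141d14a080d23c4e475f185614aa14ac6c1c0a810a825345675338a78e707642083d083f488c7fe07d30e4d9afb1c1a5fb362a519b015045dfd910486440643d6b39d895f625db055269ff7df4b243d347334768c2974938e9e866f7fde7d281368c4e4c665778d5265ff749120341236204bc04c14a217fdc6e04fb289688966941912881ff6cf26,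
  nat_lit 0x82ca0008801609149624003600541674eed000b80140b717b300036004c20a4a54000b801218592f04003a004417d4dd1000e801005b800760042003c11c00024de04de4498483b704a704b57d580005377d37961eb49af1b0d00002882232802ed336a13e8fb40fb4941b541b8086008760ea8c791dcde36158114d4b912dc003e0031f554f9a8bf542ea4c200b750b7e2a112a162bed86a48bf94edb4eda67bf072e000c800b7d5059b451ea058c5230004200297bf0b7d025b0262001580091248039c03b8d03c003600203b8440c21dd825a001480072919b1414f094f04003e001826c217448b9000d800525408c6515b800320010053221a221f000e80030d08afc0afcc003a00092546c4d000d800109ae00000138093187e44b044ac000222281c82300912bd12ac000409409e109db000000c80002139d9d0585b585c1b4c833e41a7561e4127412e6c6a00147ffc4920cff9bdda2ac061c80049ffecf003b3d37bc20a920a700137ffa1e74d9c1733a2031b1980045ffe5a48,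
  nat_lit 0x208035001058871c46803467a155d62b4a2b54710600cc72927bd27c41c41803211bcbd4435dc35e600c44213d581c4780300ca082ec711600bc1b323048215802e06c916552a08000047e0002406e84fd850140aa7d6c000501b501d10a592a0ce6700006f3e26b00e4dbcf4cdb4cdac234823619ed0bdb0bdb5555e39ddda0db938a324a31059d0003600a9f5a81861072106b3160220c001a80297d64e998faa0162c1640003600a1f58586f58700027802880274efcf68096260b040046009811d843f756a84cd000e80252c39b1de2b497b78004600908f84f402204001480231372126c87fc004e00880534c9e4bd3001080211c7d0208007e008600801863ea60008801f0aa4006e007e0078014801d004c0014fa892c452c2d34c0849859adf5714e414c700000ce0000003f003d809713bb13af36b22fd821860015801a1b8202301d6c5c8c5a04003e006577a1087108e0017801810e612f9b198005a005d34f,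
  nat_lit 0x6d0f4f7c80538052126de14d1f10003a014442364a757a20010805011895e80003e013c26b804e004c0008315d606e1d38f440f439cd2630f1f6300010c5278797d9e877103140000314493986550656967d0c528d6e7870787e61b54755072607222bda615c359535916fc57af152144f73804b7d8852ee069852d0b1d4b1b9903d9041fa75f0e9d269d2663218f618f614fc84fc760129f61289a4a931c64804a00114f7280497d82039c283c8b187784778e0120ef7216e347e57ff4f7280470f0cab5d52cde0dd3dca011826922c022cb3815382080450059847de07d3db601103052c6c2c7144e78043046ddf21e1693db601081705cd34f6d804104395e3d3dae010026e803f004c001daff55608243000000480000a4820c70336c3365d9d9b54cef2c018c01a9347cef34282028002948a3988595f5f417c6c663d6d13a50000031800046504220c221477a0512c512891ad6115785d9f6d9ee93b913b68f5984e91f5e000088100e870e8a85924919125012561fbc1fc188c67d7612c029c029d61bf5f595bea90734711a00e5f5c4f604f6161e169c05ba41c4480386625afe064d464bceefe087a00dc53c3d74630b4a464a401c5080365e9084b884c4ea41185c710e00d4e55,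
  nat_lit 0x8d835d05001180700f5d80a8003e01bc0ae30ec000d806e00c80011145114680ae0003869d603502ed493cce4cce50d26d50ec004a01b16ec523e4dcf543e85e330e80013806b17e4fa40b2dcb2e232f8004e01a977a4f965823001080690f9cee45e188006601a03997648000c80670e960398002a0198245545800108065052c99f8003a01901dd19b90010806308289334003a018814530dd0010806105f5806c004201802af001f8060805f047180a0003201781902cf0083c00011a79b45820dc000014200014c3b08391778000107f107d0884542a36c236cb36353639530a1a36157c157523516d1f5e68083f084e1969000e805a7d9d6041e219e2223cf95de18d4e258d8d5610e0d45c767474fc852431420474003a0165f6613e013e662b355a955af77db001680587d94d3dcd3e0e120a298003a015df6418e418f057a5001680564e8d510cead8ead4001e015422524b74e055ce4001380540f46081e08186628003a014c8f8,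
  nat_lit 0xaa00a8280178633bde47cc35c819b819ba317268516cfa75847588872b809a808f7dba026893d21a79eeba0e843bf43bf03be8417216f8bf748654862499e0006400620239f6d4755195d195b3d033d10395c395b00be808d49d524592c086b586b48d074d07002fa0231dd80d0d5a305c9e5506323e059900b8808b7db1674458d059000ff802e2022973b092a0930323a059700b6808933c0b2f07884788c02ce02209ae0189018b1e2200b2808748a0420d4d58f04802c602187c30cc50487047e00b08085165929e4b2240040003a0210cdb2a9683a900b680831b2c32cc32f602360208a6348553c5800b380810c0e023002b2020047e009a8089807f06e8c3f4c3f9bbe98d398d3e38c1489038003811338d715d7ecd8079bc59812c008601fdf6b603960387804615b003c003304e104e82766275c283a3de73df3268c084a0018807e7da9603453a853b88ba88ba1049c2ab204902a688268005201f5f69460174ec7559741b74225d13001d807c54d4a650d1f9be01b0f5b0f0e18c005e01edf682fd55c023a0333f50018807a39a0682468048ce0e184005601e520f22a422a74fa3000f80780126226a22753e88003a01dd22800a01e101e14000d80762e6083ec83f13e74003201d404623682362083d000e80744492361c009601d201cc13478943b9c000a807206b5e2c980e0004e01c4034,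
  nat_lit 0x3a963a98077d8120076c6ca980ad7dc0006c003c1dc0ecd0ecbe02b0dc623ae0d2801ef01f080ab0ea48728aadca664a65602a826a18d418d225f725f880a9295cbf1d731a2cfa2d0602a08790c750c6d6ca380a72541576de761b28a0298ef504798348261b80a51c7cfe0c077807a6029029425ee25f280a309700780079e028801480a1004c0016346a19fc0ae00040cda0cd206e80658064868b468c40000bbe0000075f41bc869a612760ef00fe00ff193b193c5858585755161a3f825b1a307dbe04341cec9170fc049cb6027490682aa271c8355809c4ed961f961ac9ca6026c24b3361271c8353809a4d3c020001d202641922c46272c809803fc840e0d46025c1590186018380960a149d009c9a025420a3257272680940514cd9c9c9a024c12f07590754809205f133789c8202441611a4d1a508090064000001d5906e411a,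
  nat_lit 0x47672806280b385080cb21182a1c2a242d64e24603288f9258225862f7a80c91875e6661ab203200df356c355480c703c014d4e246031825834df34d480c508c53ee8e242031022d2631262a80c30e5da104e22203081422664388980c10604f43895140010219426f254500030574000c89cc88e088d5337d211567285dd05dec99da0da89a34a7353d156e4c3154316df75000284635b160c180c1b58065808488440e8112a11305a580004c9e45230524c3558354843384368c2c0da300001358109a109b57bd253f57501e441e15a4f9e155e169f2a214bcf1cc7658466e02edf7440db2e6d2e6a1a3c1a441a52119680ba4b70243c6cc4b36832a432ac466202e5f7315010793079980b80210a6a154dc466602dc89f07df07dc119980b60dd8f79c466602d406e825b119980b4009cbf14466602cc2013334119980b208093a2c466602c455b0001113a11434e8403302fac000058cd57a80bb163f8e757ad18748061a0627199d199f19ae3c3b685838053802384d2add2ae980af7dca037c0d0468d468dc690c7a2d4c5d98bd98c1d049d56c6584659d3f2c29ec29e602b9f71,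
  nat_lit 0x17620284028306ba80e911d85104510823fa03a04a508a608a708fd80e701e88730b52823f60398247237c08fe80e50a5c4cb423f2039048080e30048001001200074465625a54c837520ab0001911ad8d5de0443551cf6000586027c8e4793476f5998001111a11519c8a0ec202880003446568363cb4175c0009119c394839743c000012e792e7c1a7d2de40000012445f68935a1f5a1830a630ae275b2404240325684ca9256525630bc70aa20a9880da7df5a449a44174357438275c275531ac9df89ddde30210f4bdf8be2e0368003e0365f7c4c774b134b1656612992299b80d87ded17203580357d1de000300036035df7a08e73582000f000c80d652d1df31d7fdd7f612de0354b8d355c47710009000a80d40184f450d546034c08e37ce355180d22c50000124bc94dc94d02ef2471247827e36f8760c30641064615c515d22e2d47b088c47e9988ca3852385680d17de49cc89cbd464012c012c4e2760341b2e88e18d9761a057fb5801389980cf7de20d44927e0d4c92a4dec8debe0339f773b373b383f8c7640389580cd6a24d97cd969620098d099020331f76,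
  nat_lit 0x1a3c000f810707214958003e04181af05dc000f8105048135b0002604102dd371e000a8103042c56ece0102cd82cd4000cbe901ec01f90b350b340002141d3598876400040ae1476147d000004c80004cd7823dc23e12efc874dab000008167028d206ccd7dc1f97c4855c8003c005a03f49fa3cbb3cb753ce8af0097580fc7b5935758088879087bc25d203edf82276a2e6e30133676097880fa4060dc4cdc5022ec22e603e4c0d157c157f097680f80eacf84025c603dc29921b4097580f60734257a062203d400e1753097080f40afc00081b9825bc2c30000697e385b85106e12281453b807c007c4db3d25645d685d5cedd4f48211ac18c818dce1d4a0d0a0bc240603c9f81815b06f14004400d37e237e153f587748776094009450629814f0636478f090080f17e001828dcb8dce21208c6ed66b169756a31466d4239051504f5aa059158eb04240a03c1f7f1780827c7b31628c3769000d001980ef7d285584ee6d50041ae81afe03b9f7e15ca15c3845d4fd2090280ed4c405bf0200c1ff962f8240603b1cb913bf13bd8bb48bb9090080eb36d44d204d1d702605da03a837d,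
  nat_lit 0xbf50bef81250ec031602f8204903730005002f2a7104b8001000b582d035a1e051dfe48f948fb0b7a0b7881225bb127dd58e41be81bbccab0a9220485dc7145414ea14ee36e62a3f812039f0a140a138a90e047c851811f00112a41811e0e34af20af1ca906047413048b12a45811c05706e20a90e046c36200b100a8811a05f81ef4926e04642dc40952a39811807708648a8de045c1453a912a388116060c2e802e8e045417c840c2a3a811404718298a8e2044c13500061686168205080014e8b4edb41812bba422b2bd62bd215ca000e81117e1163792a144f7c08f80924003a04405e10c6c05e305e20a760015810f7e0caeddb2a0006604383ed351a3d780018810d0a745da00062043026f02a9000d810b0408262e042e04281214146000d8109076c5a4c002e0420230,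
  nat_lit 0x4222e3dfb096c000c0184017c1ba00016e452e802e8557c11a040b4b81f30b5f37772240224166e42bc4052005177e24323c32056e3563409fd4005a0505f885b534aba5edc306409e200148140631c88a8b6a4005a04fc12419f482fa0016813e051c68660bdc005604f448e81ce0012813c09bc5e68002a04ec22113b9000c813a0ad581d4002a04e41db3a5e000b8138186a0f64001604dc1c01b630011813604805bc0003e04d411f3dea000d8134049800085e3d81903ff0001178f16f10e980000388038b440d82be6d014fe808de08d634724fbe82a015ec38370bee81317e1e268a268d7fc8f314f4502a382a58e9ace9bc2fd604c1f8629742928292470b3629d88d20a5f0a5e812f7e141ecc1ed8932d941c2fca04b9ef13bc245e05e320be081e8812d498c27216de162e82fae04b0e3e27db3a683a6a0bf0812b38782591228d22902fbe04a898e2e4d114711430be68129326a0b8466342fc204a08552e842e8c0bee81272dcc5b98b8882f9e0498352,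
  nat_lit 0x18a0832392528e80d0c063807c007b111cd5d5d5d69422000660585f8f0ee63b633b5c5e5a29eb29de001481605681bf052330a4d8a4d0a588005e057c02257d81a221a1d1a250014815e7e388a948a988aac8aa0003a057593a85773869507f0014815c118068ac68c074a40056056c1a91e0f35d70010815a0818e518e504005205642ea001f81598158099e38f8001e055c0781d2700108156043cbd8400420554372591800078154090800147a1141ec3ff00040c8c057e064c2b742b90c780e8d4000008b00016cd94b2830b130b76e956b3764bb3b28360436033dd46d14705f70d5516d5c0b7e3400013f962a6d968990e190e483be0e28838936c584d1f8c4fe3314b314c518a266a26634cbb4c4d3e650015814f7e2c79e8bac893b093bc9944005e05390000d5f0d65393136cf09790011814d7e292d7888d8003605309ef396c001f814c814b0b900f6c0f74004e05281a005710024814a8149242062686288005205201195b1e000e81470140008e051e05181c25b22000881451d3467f4001a051039c,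
  nat_lit 0x3fef2777277b0f620ec38180282cba00569c56a0c82c3aee05fde280ebe291629110ec4817e5cfe07c01db81dc43b0e05f4fb53fc2198f19900ec2817c6d853320803c3b403b0205ec40e16a482f50ebb817a0dd4a67ca6703ae205e4bc50c210ec00ebf81780c0c68103aca05dc12e54310eb4817602c80005b55c0564054142c4c4f00006d566d5077e61c7db6ca025e308539ed3c8930d605d18e2291429167ac07ac17b3159e6817332703aece55e12ac2188219c5f2605c9d0419051906510c7bbb59de81711e14cd60a5bca590b344b32e05c19cd6d7d61bf61cd7643816f25a80aedb7b8dbc0dbce05b87a01047104c7644816d1a623845d90a05b054966f48dda816b18d8cd74cd8a05a8220415b41608169062c964c963a05a03a342c642cb81670574d550d54a059813d467061fe816503a400103b898f7c12e00030ee02e1f0d6800040624a01e0bc05e71351,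
  nat_lit 0x5c360010819e08848fc8002a06741c106ea0008819c076ca200002a066c2303f4b0008819a06699120003e06641c634d800028198047cdc4c0002065c12647d957e86190635563575df04dde8a2a1ff01ff53b533b525cc817da17d3424f81977e5d5e355e1d828db3f63a4508c908e5545c314c315d2d05526cc755400d33a133920659f96693b6f677a6c7219805a80c190a5894481957e560a2611746d8c6d997b7108d619fe0651ea754e18a8a5e4789b989b85e405b86819358121cc1eda23be1a4e16e1a064841028dd28db5e3a5e3e5b8481910fb206400000a4a6133c000cd6f29240ed681900014818f48cd049c1e340044004e0638bc70d230d2200110012818d0390b7845a305a41336a06304985506693e5b81818b06b5dc550905090a0628bc53041422c867481890d395dfd5dda06200ae47c95b7c818706e800054d848f0c8f10cf2cdd48ca641af41b0cec0960056dda24d0b734b74cb80a1315f941a1355865589701862d362d58c6a8c67495358253b243b1e171017112e000ec681867e4d51000a58076c078c70888e885cdc5cc44f844f7d012901256ff94c221b8c3b120615f92221f22143bc485e685e53bb63ba73ad93acc67823eaf07a181f911c10ec181847e451bfd8751b64574a225e80050003db595b599051c3b26060df90382514c714c43a10001d00100ec98182637422a02becd1dcef34c044c8343af60604cf1,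
  nat_lit 0x3af87a158ee781bc0630e9a0b0f4b10206ec4bc0154015a81ba07b8b0e4b0fa06e41fe26a22dbe81b80690001404c804c015e00040422042f057617a50b810b8d0b880000bbe00012acd2acf0a030a00276f2531228a226e22670a4c0a4558cf0889088742e17e700001b9d0d5a0d5b9b975b96e350a0486352ce63027cdf9b5a1638f585d843844c5d179e179d67de2403001681b37e6a2e322e3940914098fd78006206c9eb1268a4bb64664465f4bfa001281b17e656a796a94003a06c047f393f001f81b081af0b90a784fd84005206b81d10770001881ae81ad0634e488dca8005606b07442400000e81ab10781bf8003a06a8302002181aa81a90708e448002206a01582b21000681a7052800116a60dc7c08300035a9634e002ed17845b103ba2069c00ac00560695d6e65be16c216c731c2293b001581a47e6238a5eea9e431a530003a068d9385a955b5681a381a209c4ac79652c005a0684147390652d8001581a00ad95340004a067c26f,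
  nat_lit 0x611c000581da02b8e970001607641ba000546dc46e658dd51ea025400116758c65825b00030f270f2506e8397039746e5a1a1d1f819061906639e1dd85554d403a2c5e0106379ca9ea0759fa500110010566f692477ef6e6d30872c962a8f84c881d57e91b3a5b0f1b045f4bde2218b3d23a902010214a9e60751fa350083922315631584891396a86002a7681d37e891a156a50cef0019c0189303d3034a9d20749fa139018eee78579156716a8dce7b112a7981d17e80f7792f3512251204a9ea0740544898b5bf0374c0e9d0e9881cf38cd64497606272d728ca9e207389016f977aaf4c0e4c082a6f81cd404dc20dbf25bf2e1504a9de07312bb318e44b044b38b542a6d81cb36c4ff9cffa907783a543a4e0728bff5d7f8a408a3e0e9a0e9281c927cc001457d857c814200040202020a060400042d4c2d64a114a118ff40000565f69148f73326461bcce2e15e13914b8205620563e2475e74a3bb23bb60715f9f5da62a0029f55c875c8a7d164e464e4581c47e78c94c3784376093309328affa070df9d0e120e18204f6e6d6e6858ca81c2665091d58dd43160313a3ba607055d74a1549492ddf2dd981c00ea1415cc938b10cb11206fc1a62ae80156015e81be1f983edd1d8d1d7206f4195,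
  nat_lit 0x6778b8e9d704e29154a7c0015aeb2308230859500c4f0004525240a740ad6b902a78000cdd94dd919a1834c00026ba9244d244c1c7c0004e800e7f0905445a00000049c108de60de79a84db681a89035083531b684a4ba132031c831f46ee49d90b2be07c9fac61406144614363630fe80fe734ad34b70ca482b60c9329e3856606d006d181f17ead1c851c811c720eec6cc4b2c207c15e251db605d35930012001006cf81ef476d144d14481b1c1b3a07b8b070e720e756ec92cac81ed2b38006a07b400341b3207b008b42222ca981eb1684c0e8b2ae07a80973a6d52ee52f552fc6ad770ee914764f64b13543390bd885f537769fb5da2002181ea7ea984ac0a6c0a7db98a3b80dbf11a55a62dcd1cd574929892ae28ed8bc5a7ec007e07a5fa937da19ac19ae213c3fda6a23780f001b81e87ea0cc78cc8cbaecbaf0cc28c6940072079dfa74300477a477b5f4d7d6f709d001a81e67e9a1ba5724c3ea43ebc0052079533f401f5516551a709b001881e40fb114191bb51b9c0042078c0490e6b46f046e6000f81e202520c2c497d0884003a078445e0cf02fe78548000d81e0103c1af63c45e8080056077d1246e0674d0000f81de1b2cd5f96498003e07741336df15d90001381dc0d58c97e15980042076c033,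
  nat_lit 0x59b35c6b39b439b34fdd001a001c82177105322e3bdd1eb11e9992ea085933f5a6468b25721571b6d2982150844f64011e411e17d4608500e38884535c5ee75f50821336b408d51b7e1d917d3e08480e487e54cf64cf16d2b82111365154000880086084013416ee64b864b9820f05b0be000048004e0838485332f55b1820d04b8b2b4e116083013200056ee42f8204b800117d317d1c1ba388e63688fe567de70e867dc820a200906291671169119d973f5be7e082460850dc61ef3e433e41544982087eb63c81aec5aef2081c8518d368d356f588206055630b630b9aeea0814130756c7799820405723b51c152080c0ff8ea77795820205f988ed8dc608042dc525f525c82000645de9a3aa607fc2863a073a0b81fe060d3f15555a07f42912f7b376c81fc0584002c002607ec2440004004a1985a2a8a43c00002ea,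
  nat_lit 0x2c80550f34cd82c1091682357ed898609824974c2460245608d10690025171a77896acc82331139338a301e03f630da08c84180e67335d335b82310d213e14cd6ccd6a08c04ab7add8f986aca822f2cd065d465ce08b81f316f65d03822d113208b00120006004c00213b9d55d0a0be13b8a0849754975dfb500073841384452d85afd51337ed0001937513754041e08dc03d1fb30005383f38453c8a012d013434c8001036a836bc371c9bcce3100034dd14dcf2ba62ba5122c00093b812fb103e4b9400014ee13690368f1cc80000013262086eb0eaa830a77f841b931491b1d1b2173a59204736c71550f9e0fa6000a82227ec89b585ab60e685ae05bfc004a0885edd8a0c6bd2459757384562001082207ec526ce40d933e0003a087c0cc33735efa8775000a821e7a8cf67640d133d800320874b1d023d000a821c29257c0c0022086caca00002bc62bce4d1c40e4b2ecd99cd9a8f9641d701d90a3882f702f5c618a0ec4614517b1e7c8004c007e0869fb0333b556b55725d3e6fb06db176758e6f60276032213f1ff21feb6a8690926d3382197ebc6c186c0166b1789e1918e61dd671b4ae0861fae,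
  nat_lit 0x46b55e9668bc0006825311811afd7a4906a8004a09484525ea46bac000682510a8152d8001a094014e4db10006824f056d068c003a093810f1f46824e824d0150002c000000303b941a046b046aa6aa40b8f0b8c825d01381e2a2260225b13af13ae14032e1c824c7ef18c1d8c199d6d9d6997b0bfae092d87366ef66418b97860f34742fe7824a5c361170760075cc7ca47c747c7a0924d5046b703cd03c811141116824859d0ab04c2d012b412b07d12091d0b56cb46ba22e142e1682461b90dd2dbd119dbcbf8609146e314831484213482440e5591c4bf72090c0df5d4f2fdc824202804428445a090425734732fe1824008c59778bf5e08fc21034712fdd823e0ed44418442e08f418100013a05151e0c6e0c6f17f00000e808fbf80832feb1b5d1b5883d707a907b424be8e3d3e7b3e7d358b358c5d2a5d325d625d61823b7eec91d091b5202e3cfdb6ad8545853c1ff4025002450bc9aba135d91614d400d3f608e9fba024e4f1c4f1150b889ee89ec086d08792c99078a82ac079e07a30bb10bb482397ee499dc99ec24220b09df764365ab4a08e1fb80ea50eab8c2a81118c3b82372acccee41fc41fac2488245e08d9fb7,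
  nat_lit 0x11558384114434af1156000e82717f04c5ecc5d8002a09c04ba6cfb317e0010826f0a713b053a44004a09b837668db000c826d0a4cb810002209b0201001c826c826b00980011a64d3a7012e0003699346ca02c8ef221b21e869e85932bc004609a46a356813c8d7e597bd26179000f82687f01cec1ceda415de480004e099d6b46990680e001082660490e63dea04005e099414746cb46ca0016826421c44504005a098c1416ccd000d82620ad40086098a09842ba6f78000682600874c5c8003a097c19a6b21000f825e0acd1b10002e097411f46c20009825c042c0015a0011aec12e0004680046c60d680008c32da05dc481c8e1b535296000130c37a058f6d616a4ad40000c33596dd417d327003e30c563c01fe41fdf045a82970450000a82577efce610e5f41498149414a5b45400420959cd06cbd76c86b1c6b1f000a82557efa3ce9cdfd5dc95dac00320951fbd,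
  nat_lit 0x11e23697604480002123c17681f71e1f7ad17ad07aa94eb80011828d36e0de0d68c94259aba94408003e0a31fc70025002769b4000d828b296481b0da70891800260a298ce0026002569b2000b828902253a6800260a20a498390000782872b280005ab4da7b9a7a9a3fcc4f00006ba769048c2b698221d5979ce5d81db01db63f0526712669a16a30498a0d8a19b4e59799a3f53ac400360a15fc6002000297aa24ec74eb089e17f7b88d051974fe64fe37cdb6860210113a0001382847f152309509078707865768da3c9be7c005a0a0dfc450f34262425f62ce46e646e5001482826b5488e8e6bd979000460a0404810948389109e001082802e617b01a801a78c003e09fc0461f53136f83ba000d827e710143b8b888004609f46cb4ea84e9c0011827c0494b870b864000e09ecbc532dc54df000c827a0f5c005609ea09e407e65da0001827802c8001a0ed84f244f3450348549b4fdc0a546dd46cd4c65890da6a1093d094d3a69fc300051395301930156c8d672d67317f0800104e4483b0b618dbe0003138c5695037c00084e3945408af0001138b61c70b0c00004e2d3b04181,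
  nat_lit 0x67ba1df082ad0461946877c20ab022946f81dea82ab072050c6129a0aa81796c431def82a906fd1b9877c20aa011f67b41dec82a707140012134c007425b0003209c6c2d02c877b51aad1ab5263ceae4eada0a95d53137c137a87ea50c8498644ba82a47f2194899495e08d9fa112fa0a8d6b4209a27dd87bc82a204421370118011ae0a8415242630469046a82a02739ae4512e20a7c1e7110d83ae829e04307cd912d60a741c48c3944b8829c0545a4e912ca0a6c21d10a83f98829a06695c1d12e20a642b31f443d8982980481a77512c60a5c2b900091e3682960714001c01300071e3157a03e673e60725d2014001878a4183426600051e2e2837046000121248788022900031e2e509f0e880008788d22e45bf,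
  nat_lit 0x864048ae82cb08b5c3e1de420b2839735bc533882c9090d43ca3cde0b2024600040048001cc2b50ae8b520b5082ac000628cc27cf27d63bdf313c0014c2b03d083d049fe0cca0004056d056e01a401a626dc000cc2ae198090c8aa0000228c828c766341da40004c2acbec0be9817800000048c2b8c47cc4a91904194c196194822f3994bd94a84664464a1024511876f000360afdfcb59974999884b5f0a5f0d66de64e664e26d7166d653d653d15b768a41000b82be7f28d66d22f082b4007000660afa0af5f7b405b40621229122f126f000982bc7f248fe836cc36b000220aed5ac489e034b034c000582ba791599c449c849b0001a0ae444525e1000982b82c807dbc001e0adc09700033719371c02b800091a1919f81ba849c1cf538c13b74226d1df582b51f611c099f00526e101852b60ad08a646881de584ae82b305bd1a5d1a5077ee0ac83ed14b714be1dfa82b121c58df477ca0ac021813f313ee82af040999f077e20ab81c1,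
  nat_lit 0x54fe7ec5609e0725540e27d5556a186cb71c7fa07f96425a1caceaf01dfc1e1492e0bd62186e0ba5fd05c975c9a8ef23f863f81878a3f3e60e861ee5b845a2e0e880e8050962dc782e87f3c005c0040057c05749534b7320b9d03a29a129a910b410aa5c852dc982e608e16c5985581e0c1e0492ce0b94d5b4b6d89097fc5890b2dcb82e44b35425944d93d68b70a0b8c54e599c17b317b82dc082e25010d7e0cb24b71e0b846b60d2d0d2f82e003cd1820b6ee0b7c0f08aac2dbf82de09601dccb6fe0b742c461382db982dc0134a758b6da0b6c0dd43882dba82da0c7c9294929e0b64009000035c88fe651040bbcd72a330606de38b1ac48e754cdec0a700a5c2b1433c8ec3436bc36d129f60b61fce29d13fe13fde70cf48be48bf82d731dddfe9dfede51e4101edd9de520b58e6a886f47ad42f642f44e3c60fd82d57f34429d7641de35de463d0e0b507e55f51361f014d01428f4382d37f3075c6130d29d929de0b48846130913030f870f8382d11b8c8d396905de520b40a9783980cd782cf1559ee9169020b380a06b87779082cd095d37a1de460b30231,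
  nat_lit 0x1985272704b82f302f602ea0277c2784a14c2fb42fd06d786d70bd4e409e46161e18f69000560c1dfdb324f487d4879487a4aaa3f873f8a0286028343ac43b04d7f7b516002001a83067f68e12ce118f0acf09e0da81a6c00420c15fd938b538c04a525c840013830477e0975c3d7c3d69362e0c120c0d91f0f7f0f7c0fa84d87830383022f79541c68a868c0a5e60c0a0c0473d169e18951891001383006dc85e69202d4664003a0bfd9414dce48ae001482fe1294e53122d0004e0bf56a45abb211b000982fc12c8c99400360bec3201059000282fa11320be40120006631048aa0d6800046024ee8cee9557621940413dfd80000180144e26f8b0f64399c60011360e98ce9a16fa143814370599c597d582e022629b94384b38cb3860bd9fd715ae3a6f29fe2a04028302874a027c9170ce4d7b82f57f58f5c9caf5dfa1ab393eb623f5ff056bed0849086e0bd1fd521120127011b40e440e040de416388b17f994d7982f37f522eddf175f17919f919e0c390039c03a60bc9fd338586f9a31b52f5686452f54296e296882f17f48328ca378161c16158eadd07dd07935ce0bc1fd12f4a56784ad54acf4d5a82ef0020c92d2be430002ffc4bc60bb94aa23eb130112fd296a296482ed19a159c111311135ab5623160bb168e100b2326232112f212ee82eb5e55227d932c8fd04bdc4bb60ba90bf,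
  nat_lit 0x161c0bef0bf93dcb87f883263dc800500048b608fa50fa4e0c95c25446263a20ef30ef183241539755df0315661565e0c8cbcd0cd727c627c7832218740a342e6e0c840df24bf24f983201a78bd78fe3a0c7c1381dbe621f831e0b1041a571320c7404d38ba3e89831c0e5c27fd886e0c6c1423dc387ec831a08b015a815b400142190ccd16bc00040ce0e3987ebc7eb6210400000ee00032d6e89b889be41e341e65eb36c6d6eaf6b7e269b26a14f425ec4459e88407f84000a1900e8a0e8993c5d3c59abd9c488ae4cae609491fe000012d6d8388079339a3399f6aab6aac40707f7c0000b5c976d98104b4e85ae9fde18bf18c128f574a41c211c1951ad1904190b091a83137f74a1d0ccb08d7c8d6cc138c140244e0c4952f00268312001116ae2389091e83117f71b375c92024660c4012d16cd572d090f830f077c3320f01424520c3828f415c090b830d01c0da94242e0c302034b250913830b0c120f40243a0c281ec093609138309156c000612ccacb8ac8979a0a33,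
  nat_lit 0x4c51144b14483ab6444636c5195492a892893281e93dda1d51d476a00010001567754a254a1a2c5d18d111060d0dfe90b070b0b6b8075365d8f43f450904c9e4c9d90e95bee5bf76add6ad8442d442a83427fa2278201d5fafa443980d110de0d055e203678372035419bf0f640f5f83407f9c757075683d943d7a0cfd0f61da224e824ec442f833e2c197518f2043d843d720cf406149454439833c2c5217cc9f74138c112c113cd9d4f3c82448243541a19cda325a4ad5c5ed9ca96a9e0cf1fe6725f7a368439101b354c1c191c1f4d2d890b7974329b708925c525be3b744937833b7f9475fc75fa0f942c8d8e698e65cfb96a8e0ce91b43f2e3f2f63de68af78e38481144183397f90b6909964995124d53761376d59ae0ce1fe3437e8dc892f78dce5a9b8337497cdd7111a928b5376559a60cd9e280f3f0f304ad95a9d83353de12c712c812b616a720cd12331134112d86dc5a9b83332f1d2c399c959ea16a6a0cc80e418ea04b604ba492d83310195c971f6c16a720cc021b87c142844283832f06d4ec5d56cd6a660cb8356360814371435832d01b1c9416a5a0cb00ae85e227ce832b02c800002828f770f76c0530a0733f433ef350386f45add5adc250b2504029402905b1a5d5a0f000ef7832a7f881d013cb4699c69996181716e0ca42414e5e4e4f45fa13c113b93f85832839aa14287308c0f8b0405f4c5f6e0c9dfcd,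
  nat_lit 0x38154018400f836204d21448148c14920d841b53615589b400b8360121d575cfb44fb4e0d7c48540105d5a835e01f81355001a0d740b200000189018a23ba22b61cb46c046bf4ad30ad34579c57a0b46cb854b324b3403d2c3d3d18cc00760d71ff03b97881922f422eb1a5e0019835b1ebcae78ae81701d556529e400460d69fef662d3b3a37163170278f001383597fb8952cdc04dc09bd3400460d61aa51a434b145db7445a001383577dd87d4875d475d0005e0d58630026a2e1b1dba00178355187925454c5400620d506c34450835483530d247d3400560d480a01a0c001183510960e4d4003e0d402c41a500003834f08411150000e0d3839735d90005834d090c8ebc00160d3018100090048001801200068f6857bf2a9111a311ab579d8d06523a3e5b3e5e7fb40014caa0caacc18c61e461e09ca4ac362c5243cd29a1fec00048f655826582376a549d322ee85a035d47fac000d111906e506e0a3989ecc9a006d306d19fea0002444541b825e91a321a333bec00040c940cac352cfe59d919e52,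
  nat_lit 0x900d614a838004f4e3cce3b60dfc0ed000978366eaf090c0021c871c88418105520546085c08641d5405f305f82884288720ca837d7fe5cc3d62910ed8de30de481bf60f941ba96870833a0df1ff867ec36d036d337de39c73aa63aa785a8837b7fdc883888653e7200f94718831e0de9ff666ff879338ee43f520c883797fd5ae2d04090429c1e883060de11c4531953226d7220c1837703116170a21ca200830e0dd9ff470653102310520c2837541dd478226f5bb4c83060dd05a5582e493724e720c3837338f5a06c332433360dc828b018c018020bd83710934c408c3e082fa0dc0530534f20b6836f013cb95482da0db801d04e688364e5789574e684e64485d513a0ba40baa669b8ca881d8910a668f4019836e7fcd007c8e5c8e68c99e17448e8c8ee615006fa4a24e12c4503d81c0f2ac0a140a1a0db5ff2323d3383337f850718c7004100334018836c57ad0ed637fe4cba38108e1c8e20fb7e0dad126299148e844054b7b8e09829f8e11836a7fc441eccaba1bfce678f77e0da4f670bea0d208e08829d8e0f836800da0d9c000164613734000d9d62c482b582b53400d8366271a28462841258d00320d9445e027a000f0010400b83646d852068b8b409e409f20d8c0fa,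
  nat_lit 0xa085522bcd2bc90268027c0a480a642ff92b70f508aa1a1a24a9de3b120be58521f0dc21e821fa0e7a00203bb1a080d020d0885757e206cff6d0468387247839d80053879efc243ce43d2021e2734a1a4a1c82564257a0e72000315565b058b1621e622146f346f00013000e7245839b7ffcce2d65f165fa2a498155813da581dc520e69ffe71917a9f7aa29034506e5072360f360c839945d98851da61ad3149d949c18420628c62860e61ffd717c7cd9621b621c77108397343902ed36b1369d6895689a0e58ec969a369ac5e505e52770e839558ea2f6e4499a550d828d81e0e51ffc607e7cb53114310b71668393327d9b7201c247d4d840d8160e48a7660007cc17c755a225a218391433141b941c421dc21ed68820e409ad0001665066516ebb58ad0e100001993d92b992f47696d8d71e5632c632b6afd6153838e7fecab0476e47725c9763e7d855a0e35ffa0cf10cef2b9f2b9a3ab65a52838c17307f8c7f888078808c80aa0e2c9d73bea3be5672a6cd1614d838a48edc515e932293d61820e247f55c2c8fc0772e8bf083881e80d8b4d8b9673e0e1c93457c745fe838615562050fa060e1408f7216614c838404f9a8e5852a0e0c15f7c136146838208659fa9850e0e04338,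
  nat_lit 0x601786b46253c0e800e65e290c9021d20ebf805ac05c4cb89ab5e0ef20046d1b5f5a4ffa4fef0269026d411466fe6e5c719c83bb800c4280cb54cb34f520f5260ee8e5e55246dff73b5826c6ed483b941585ffc1278129d1a320ee0cad2ee22ee532dd6ad283b7027405d0c905ab41ab460ed84070715073f073d6ad083b52ff41b05802180320ed00796b3e934a6e6b83b30d4a0ec9cab20ec837300015188500141c241a31efc0001461d4621633412812b112b60ef20ef35929592183b070546e8d0c21c5723c0a08923f460ebcb323cf23cef11b711b12eeb8a0083ae7b407fb87fc8add4adc623120eb519c563e0e1e0e1c21bb8fcc83ac5a0cb38070046ffd9b4a0eac775082d0d330d344f4d83aa4dc886418b255d460ea44083b7d409483a817d41bf8e5720e9c08f45a745ac83a60880e881db520e9418b5c3676d583a40e8d4da9db4e0e8c3380d510d4f83a204f5023d024e0e844b50006339066ec096c001461e461d81ba,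
  nat_lit 0x8441000a83da04980018e6201b3010d0004631763165562555f00278024000840bdb4a0e7e0f130cd80001102e6d276347504202bc000040b1ab6435a102d2f8c674b88183b0f3b083b06779f000f001583d58021c6d1b6fd6149615dbdb210f01b90005a0f51fbf398e59866ebd326c326e001583d376ed0a71fcd9fb21de7800320f4a007634b6344535d5360000883d180181b0e10d41ad8004a0f402356c436f73000e83cf0a801880184800260f3838183cd000d83cd01e0004e0f360f302340177000783cb04d800180604c99c2c30005017f6a730bb9b36cacf47d387d35a780004a0f2600564b63d4904b604b8469b001183c817899f7cf53026c826cc791c003e0f1d6b577927c727b7b6853000a83c662d04299b9fe0f1a0f14b0983da000e83c409bc1c8c003a0f0c22138e2000983c21869bd90001a0f041c883c0000e83c006fda99000320efc2dd06c3000a83be0498001c06081b202c3,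
  nat_lit 0x3910000d83f804bdbb2000360fdc16e83f6000183f6084d417dba2dab854dc40008000200f83f52f8a2f866ee72f6e2f6a1cb01cb92eda1d0c1d0740f388c267fe698e6cf483f58038ffa817601779b34e1d161d10be41b3ca0fd200d53676f9c2ff92f262f2e2f872f8883f38030e44ce461c549bc55cfbdb519b3be0fca00b8782328c6d466d456cee83f13aa8b430bcdcbce9b3c20fc088a258b622d61f4502183ef02204aa04ac19f61b3ba0fb952b000b50376d516cec83ed02898871b471b3a20fb048656ac6cf56cec83eb28d16108be00bdfe0fa806c83e96ce383e900c8001c7ea81b9c3ff000550336c510bb8113c1118f408f154f170003e0f9e00a612242ef3058304f6067000f83e615792dddccc8bfc8bfb8004e0f958b46d5110c7001883e40fb60f94007c005e0f8c29d4860001783e209bc7e8c003a0f8410c83e2000783e00484006e0f820f7c2ba4360001083de1869ac7c003a0f7419a83dc000f83dc06fdb10c002a0f6c2dd,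
  nat_lit 0x2b472b5084160cb0000134d1352962780ea1fd91fda39d28a9373f03ea53ead4a376f7e0650065321490056005501ca8415804c8f76374e3749aa9c069c06a21051ce58e2a747b6b6269e932a0329b8413804900d9ac8c0690068d41b8ed6a10487fc666b666c6cb26fad3b57841161c489c48bc1a721a710ed6a10412733fe93fef01c301c4840f135c492049159e28ed561039a5122db890e3b56840d1b0c8f848f7a1030349019b0199840b03c09e949e66102813820b33b4e84090b100680069e102021056493b4b840703f81c1c1c26101831f588c3b4b8405002400010e7c00001ab000015b31f65018c55a855987cad365cb49c004e100e011852c67ae67cc4d9525a7001384028041a1b9b741b822392c003610050e4003e10e70014840010e400b21004004a0ffc52e6ee36cfa83ff83fe0e347cc0003e0ff43625376000983fc052db20800260fec2dc5066000483fa0829b26800220fe4145,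
  nat_lit 0x4719900040d680000975189d988f4b55476f25d3623b8bac5a450896088f1dec0f2c84630332631d419f888e3c42648f84338074be01bae1e302017e43281b3c1b4c35959bec093c094e10ca01c6ed48c1f5ec0880f319111b311b287170f580f618431806db491b499d2520e5dd3823809ad55922610c201a6cc692bc88aa3d9f7e9d939d939e8d14842f806631c1eaf9eb02343991da10b897f48b948b365c3648a842d00058060c69a25411710094c093610b10276e8e805292c2939a8d10842b28bc18d1ac2c0e2c0dfcfa4210a88c707284d664a574a5584290001805d29c929dd3539618991c210a0d8784278d0c8d07646c646f842729380011609d0f4025b00035827659d02c800052f44d3741020101c8dd0000582b582d58305837321475cc75e55abd5ac13892280a4b79e1fa108e016581a197d197a5caf598e59915d7984225365320d1d791d7160da02c5e1f21086015127a12773a3c7aa6787a84208050072055548aec8e688e7a107c65243be800092d67879841e0db1c5b19be99c05deee1074452738f7ccb7876841c0a8166d11fa91fa2106c38184fc5426841a1f3640f1e1c2106407877b977b68418043d1f751f92105c372,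
  nat_lit 0x220020071f0722618c8ca2611e671e557421e1215b215a2f7b879f2f6c001984538095b5f5ae39ae51812d812421dc21fd7e997fa5b0718565a72da70e2fbe2fb80052114a02401ef4fd34fd766b03c62328e3c6266b06cf900148451808ce4908b688b5c025401500170e5c400661142022844f00163cce6d386eca6eba0017844f46cdb551bde5d2263b40004a113827228ed28e26cf50010844d50d01d3c1d5db3d0003e11300a8235912c712d2000e844b3ed61141b541c6b8003611291e4683301b001af000b8449424180fcf324004e11201b6603e3ccb000e84470d39b5c40016111812e00148446844504c80014bf08f33410d00042fc42fd60e983d812870c938c94c00000ce0001674d72fb91208ce3286686ff572543fc89400a3b088f088b25e425ed3252808400019d4a27d527592744ce7845d845dc766c7679bc160204e950dad0db33af467cd67cc67cd67ce065300168440807cbed4f31cf3010f399ee8004210fdeca38b938be1f411f454a8c0016843e8079c685c694003610f447f48bf31b30010843c27994f3db368003210ec1a031b631b4000e843a1a54f2d8002c004a10e44200651000e843810799ec4003210dc30231b2000a84360488f2c8001e10d474d,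
  nat_lit 0x245b22a922b28c3173f05aac8471809c2a602a7821f021f5399211c19e40e22110f1115392e527b846f1d8645241b881bb109e96a8e11b87ab3ebb4acc51214e5f4e61846d60a1f19d7e5d7e6603b22dde11b0d955e9d098809804e5f846b1ca4b8a8c3a10d8211a822a88bf7fc95aa3846920e965316a8211a0328602b5aa0846706cd49c549ca119821e00066a3e317b02ec000c01336930c7f0c800c810c83317a84647794c4c09d1c46a84694bf8cbf76118c6e0780c650865046e8c317084622ae00019bd9cc5b61184000a02630083002317184600405c035a8e0c5d2117c3772d004458316f845e0530ee8cc5d6117415c139b3173845c0d880834c056116c16771923166845a0b71ab8cc5a611641916ce6316784580a194f60c5aa115c3086dba3168845605f0c598c58a115421300012fac2fad43f511680000beb10fd0ab7,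
  nat_lit 0x39bc39b7848f08f07ea87e9612382456d8239af848d05f80044e6be12301a371cf39b1848b07701a8c1a6e12282866d7a39a7848904bc02440262122017c39a839ac8487084c000801500154f435bc1c2230001005300486f5030280000c8141da41d7c178004d005060f460316b24302b848480b59b4dc6790aed0aa8c0a6120e02c5ac15ac088dd2fc32fc6848280ad107db085b088c0b212057a06b236bd54478302484802cb07f48916c917211fc4088986301f847e15258390c07611f4557302f3026847c11ccc0461f4e11ec194302d3023847a0e8cc03cc05211e415d4d2a301b847804f5bb2cc06611dc40d0007054505460508001401341bf41bd104910480000018400041d141d00ee5cd320d33cd355615d50ee2bb951094f60125012384144411e02a000061ad446611e884a203265e9565c365be63af62fa80a586b647893319330ca1e21cbc3718371e11ca028,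
  nat_lit 0x400032009200684ad47fc50cc50d5768212b021c73bf73bd5d9f84ab0d3080fc8110811e12a89862005200484a907ccf459767a12a044c84a7004800098fc9d9ddca51d88daf9a02f00015428542b5441000115340001128112a014e542654270019001c110d2fbc84a440be32ca2c6550e5510a3344bf22128cf37446d2c342c2c73112fc184a2467212c1ae85ae88bf1212857a06f286fd656322fbe84a006b21afc81448122127c23b5cce2fba849e155463d0bee2127408f8cca2fc2849c04f844121fae126c194849a2fba849a0ce00914bf02126413d703d2fb5849810340019ae48e6e00b20003004cdbc0dbb11ac9596dffce296e1259ea2137c1371478946558830334584951a25e225e235fbf182ece6e21251c6e0006000f39b68493000280ba14101e70e6ce1248851703f6b8d39b184910e3510a110a4e6c61240130,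
  nat_lit 0x14f414ec4f6d84cb0d388e3c8e06132807e8abe7a4784c900c85228ef32245494c21d14959a326a0aa9d281be3558262d81da31daddda51b94e132603930c4394d394e69f54ee38ae781a48ad90e640e6529b23fcb377637784b16593284c880e0599059cc52e4001a131db94db99e3c42131e037142644d244d5200720081407141084c680d8c304e528e52122e122f0818481a61316035148513a113ab688068f984c440404df196e59c24817c819e130e03479a01ff21ff68e5f84c238bc40ac58c07fd6397a1305950860b141b140e8e5d84c06c1ccffd9df19dd2397212fdb6121c07d226317592884be4492182996f1b92e12f41b685f2687b68f084bc06b458ddac6db91612ec356861a1403140484ba01b0c2d5b91a12e447e14796e4484b800c800085929cf2c25b000055917054554d50cf02a0ab0a1e8449384925003cf7f4f7d962093ec628dccddd2eb60219cd462d1555f212da033164a585a35cf35ce271c26e626f114a414a51628161e13a785ec13b985f6144584b580ca2d612db52db0c2be205d999634f98bba01419bd452cc52ac5ba4cfeccff212d203133f533fb84b30004205369c05da584b380c237759c8122f0803c802e12c989a48aa48ac903982828c5984b12c6143241b601b55e4c6316212c1fb665da6a1b8e51827e8c5784af41a48140e4d8e4c9769612b8f76,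
  nat_lit 0x56826e3184e90a5e36c9ae3613a044c84e70048000591c55a5d5a355a595a34002e0410000646e00000d6991b1b0d4045c04541f5c1f741f6e1394378340a6f4b6f6f6f6284e4000200028101b619f5da17c845484536138e03f898e9381811193836f5184e2674e1385bd9dbda5bda2138433a003c0048114a84e019f5bdcdb629b63e137c20860e8536484de099e3d1e3d2a13740786f606f6384dc0429ad91b62e136c14d48e648f184da0cb22b3d40fe2b91477147695429542649b11f9548e957898b751b8d0f98c788c792136a03e239e2399482b483249104e32557b3cc1232808830881881d2f381084108625ba84d980f4764814f014ec5fa01908190c54c454be136203c32eb8d8d94448d894416441c4f7984d780ecd2dcd3055768e508e505b4e5b632135a03a15372d9d5d86620e919284d5269d5f44d598d59db4ddb62a13504e904651a9f49a749a584d3391815b856ad26992692134803a85b112cb12c749a384d17a98175d844d26b1268a1340c091e971e9925b725b084cf03e91e811e7939561338156291950226d8884cd0dd5b498c748c75a13303da,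
  nat_lit 0x5d643c69850704d40000d37cd368e01049b3ae86bfa6b7054c654c14aaf348c3481462122ff0162006a006c872c479985068118228c228084e4eb3d007d007a14144d1533e4b8446c346bc1390139385048048eb2883c21cb482fc83251d06140ddb4654d6f843c4e2194218b85024c2ce642248203aa305d6d6a140492d59a159ca479247938500153958d958e96541653e13fd7e4202c5480595784fe12716d751e3613f40df35a1595184fc03c8870c86ea13ec2142c6353f884fa04dd0031006613e404d59415b4c84f80e5ceb6d521a13dc1422187217f84f6002400080004004592040026045000000176f5504b80034004c0069a7d1a7dda7cdbac1bcb1bc5642864289a231a201a1fdb0b5a1f213d2044647b6c33075007513ca73cb2484448436a2f6b95516830b830bc84f3000664870006810e2274d0712e888364835083922fae4cce1efca5917a6d966da1edb595b58e13ca04201260121013d572d573584f1264c836c88f888dca0815cd213c1fb66a4c395439518d8a573384ef41a40014d064d085b1e213b84306c4d6c4e302b302884ed0c959209827dae2e13b021c514851556b8a84eb0f74000636d1ae2a13a84b2,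
  nat_lit 0x1462e941d825b000418b23fc802c996ad2b2ccab6228e4dfa25be14585f252e54d24437543714f013c73851517e4d0a5057d05751fccf1e214516e560dc0e220e25851304061a9061fccc6a144838d5fd80e220e238511041d29a0f1da14401927e2b3c76850f0d8941bcf1ba143815942f53c6e850d0a140dc40dba1430191130a1308850b0a184720f1a614283085d2c3c6685090a45f25cf1ae1420161]
theorem S2_c : blocks (facts 13 6 19 32 8191 524287 4294967295 16 65535 14 16383 A R 32) 32 JS2 29995 = true := by decide +kernel
theorem S2 : On (Step.{u} r44 LW par A) 29995 38475 :=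
  steps_of_blocks hpar hR S2_c (by decide +kernel)
theorem D0_c : allB (defOK 13 19 32 8191 4294967295 4388 A K) 33 2 = true := by decide +kernel
theorem D0 : On (fun r => defOK par.W par.WL par.E par.mW par.mE 4388 A K r = true) 256 4480 :=
  On.of_allB D0_c
noncomputable def JW0 : List ℕ := [nat_lit 0x7c02c258642ad2a547bb5c856210e2f76890ae4a76a0ce72a5c94414a9920cb6a32594e941951f2072a3c90894845a1297211a72dab7d62531d212084a6422a609cb27c695264a09a0a9f219484564153254d32a34904c424864139092882c7268d6116f059190504249252150977821dca9120d8aedeb8444c1b0a431d2a6776be4703a38251c166558ca51dceb71c1a7764361a6430521847bba4a2ba12e9218894fc4a98e12c7092a8349c155e51f506cb952f4867a53e9096f95354251e14690a368519426ee14712a9584c3c28be14612a9294a2425f612f7097984bfca51a552f2a6c851fc28ea14810a4285224291a14912a94851ec292a14990a4e,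
  nat_lit 0x94914a47208af05cd7df7b99f23710fbe880d841b1dcc76c94f3ecdb0cb5d0e5219f4853ba1c5b0bed8b37590c7d0a3e8cdf437592bb5921174eb29843ac2235d58b1f2a6fa4c7cc9d4c8f90684593a98e10d308b082fac0ebe5139059284b6485ea112b096b84b4ca8ba0bd3091d91ed424b60d93210c95204a492421d094884f8c27b213df09f684fac279a131b09f284f54aa26137109b084da426f2135d09aa84d1c26fe136f09b290da41d3a0edd21b883c63bdce54e3078b84c4c2606145509fb8514428b2143eeefb95374287245490a2694a0ca4f20a63292c837bc70120e1106f2838541c1a52850677943241a2e0d231c0a838841a320e2706fd,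
  nat_lit 0x7d6c07efcc551252b7228a4d71f64ae43e7d8fbec9a0b40f0838c83416760b4ab93f7da6c168a321905a63094acc25b094614330e5c86243a0261ba495c361325190f20291a941b0612e5217e84a2c25c654b52a6190524a8aa4151092782d5482aa111f05a990564a8c65277057f8276ca4a209431bec6ddec127a0de905ec8340ca18a0cdb290d82f93834db64705f994824a12a48b12463615abdf75ef471c026f43bde81bc46e741826dc155209df05588112461f934db022d7a52c9e999bd6e86a90ceb1b0dd0c2479d6b2d3a191d0a66c6d8330403364fc50445810a46a995887021b832bc6ab1f6b4fb5c57e3bed7952768e615c8d2a4d97c9cfa9f,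
  nat_lit 0x3a3baf039590c45916555237bd65e11c1965542cbd08bbe48176556ace11379a58db59b726f41955cafe36dac20add66e455e521a136d3db6a8435b6da936d41de98e87c8f9147c91c01ae79e94f9c7ca2115d29ec6c95a370c4ed6af153b1b92a5dc3a076286c24b8739b0e08dbb5433ab3d88734d8666c3510e99a3ead86490c0b9261cfece7f873fd36411cfe4e7f173fa46fe9a73ec8f874053a039d024e80174033a015d010a8b14388c952cb2e52548739ec335196fee6d06799bedd99208cba3740b3a089d03c806a740a3a075d032c6df3f3eb5ef6430ec3b369e0b5c750786d3a673a79eb764898f4e39228ba601eefe76a67389bddf1eee2f777,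
  nat_lit 0x737239b6dd7951e708427c79ca0f9b084c75e8ca735872ec6e745f184eb9d04ae8266e71ba0a12ef65c1e74a8043089262b38b47c7c89047ae28f9c6f6eb5c95c20a8f5d57982cb5c8bdf21e1668e91761dafcdc924bf047035062c0049654332a314de4ca88654590cad1ed0ca6d47af2cb68e098ca9036c41c12d1eae42e02346aae563822b2305e08b2a5863c4bc08654d038855e6eca9c49e11224d9542ca9f4e86b2a8d95489d1d449f28e3158fb1c1523809de8c26f846ea563f0464565b0b2df2451acb7565d6b2e002dc2cb8965ce43b17c9848d91f24cf92e502b2262ddd8ca0697c92b8f5e4ae4f31b66bdbef911bd867846a6da3825cebae2e9,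
  nat_lit 0xba6ae32505086c530bbe268c9c0a6177921889fe0e0db906da820bc1a8a524cc069715bc1b3e374d290883444a38a08bf05eb82ed3b7a1c5ef05d38d7e41a1deff3095e7bfec2455cd73214e94da4854242a5085f8317c256e0223091a9475317560fab06457e37c24ddcb2ec81890c6aeda5cb20c504038239635412e06d7821f410d65020e3d2821e39b71413b043993a33c469fc32fe547e65c52291732edea8a464523a29211494758dba8323e6ceb1d7027c7ce253ef1f3c8f9f422d1d508ea728f6b3b9e5be22e0e8844537c7a3db529e37d8035071d2f12500928ca94955612fb020391bebf20bbb06bd829ec1a864a74cdbf92863ed6636e105c9,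
  nat_lit 0x94794848a51ecf8de937a4849a0f7300c183b4c253a4d14ff5379c549c39c92f20b29519482d20ebf0930904bb906dc88ce44a722728c59c75ee4412921b4e6d94f2e429722d39179c8c01fd3722a3914c2e76ca6790154a87e405d090c71a0c80c20fd32034901b42126411d2a167222ca8b5d079209094d83a0fe412908e45f481417e4136e4631cd7268c144c639a123fc99679c8d2b5d3450bb91b9a0aa8528552ab41482f0ae46d933b9ef9dfee4ff747055a68d0e96ae0ac3b4bbd2d8148e1fd53625ba035f5b8a8fb517bbeb6cdddf250b929e4a28a31d128ab7d8ec63a955e6fb1a8c7841669d7ff1fb875f83f6ea11c31fbe94cc42389d7dd08c9,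
  nat_lit 0x8f8247c1a3e151f0e6f40c7c42113f1f1494c24a7be0a570529819cc10460a64db9e6b20414b60a5cff1382713f7f607772830827045ee19ca704df827340189cd9321916cad289358566ca8d72e730ac1b022d0b37efdbe24e0655010b937d2cc4e294d00d59237452a24ff502cf84a8ca08a0681213294f440cfe12a508ab7418232fdc69b21935c4c99b85566cb8940bb1ba0ca0835010c81aaaa26e0830b650538ec10564ea4e4956c74ba0d1aecedff56e5d4865449d2dcb96c6a3588dde9ed59377a8bbcb5a9a2eecb83d94763a0f6907ae7998bcca593a6c3c37a792afdceeacf4eb7a773d3b250cd052381b2c109e0a8918764d38c15260aa5187a,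
  nat_lit 0x946948379fb472898849cc839254752a3875f3424f24222d55d72af395899bb0d78e72aab37b5cab4e55669de395b1cae0c53572b9186bdb472e56572b401a94cc0b211572bda1351a320925146663463dcaf20fa972c2b4d6dcb00e58a72c409e15aa84e5875f983495e4251212a9523498c1cc16e79c951b484ba54972a487233b05ddc893211928dbaa461676851ac255cb79ed8a6ee59d72ccaef35cb36bb9c3a66b964d5a42de7f759dbacfe3f48eb9370e6b7d6654171faa8fd64235d0d9acfe4653021ba5c1e521a965afb83d1c1ec689b72d539695cb5ae5a76797a6f39824ecf2072d81b2163e2d294c8165bd4d1ed211f1a8451bda4e0f2729f1,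
  nat_lit 0x837c4a3620a4b06e1826ab98f1c72f04d27b9eca3520ce906068194c18ae0ce2df2b71bdc19b9f21106118304c259e0a1b2a5082b6485d253c1057390bc4a771accad7f790cbba0e1d07610c53dc53a109d090e8468196ca012062f03d794344613a30a504f579da3c7c926e6a2f5518628bc80bdaa3249287817380562fadf75a9bad563d34eb946db3b78e610dd1e9c8f4f421c9d576eab570983a95dc05ae13c8433380aa3d3108627252b86d5d09ebf1d742a11efdacb3219b74283a12e51f327567b2aca39a04df1a9c8d5040992073901717f9a3e40569def73391b338c49b6aef3c17c99b357df3a1216274204088e12af21688441ca939d8130964,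
  nat_lit 0x83814a4da51fd06d9949c46ffa0df506f1838241bfdefa8f7d17415bdf49ef1ed6117146bde29ceb2bc617bf4be005f004f7f7922d19ed5c7faf7cf78d903d4e0bff2a568283c2575e699216c951f3cd0e42e12a5872beb957642aac7174cc72015143e8998d736002bd9cd8ce6c26844a91bdc13845f66892b8224b1c2d0a5709a39b28fc24e0467099c856566a2e12721aab09419958d3a1706d331e5cea4443e60cdc856d6afae74d7bb74913da200c5257bb19220dce20f7606ef9b9d29ced0ddf53dc92b4c4b1dae0246db89634dcec6ce91922047b01e7591ec28428c7b1210f30854760dc22023d58b07b8f5a47ada10c2b0778436ca741d7d1087c,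
  nat_lit 0x29cb3f7e2a6c2d816a84b77655708d50669e3ba20dde38e8b17450c761a0f58ec8d94b941eae5315298077b53b8c5dd7f1d2a83c43b30652ed077983a8c1e55ddf10723913547139de88eefa94a8bbd0dddfd072190d148699de4b07707442c86a2130921ac90d84260a140b09fc84ffc280a1400eef1953c427e5d9c709db85124aa4614430a23954748a5a54f90a1b7662c2701e0deefc9782cbbeeddf9aef727443bbf564546ef8578393b2cdd96eecbb7838350edd11ef0757766bbf691e500dc76535920748aeb1c0556f691588f68e43bf418aab2c5598eca412c91c702d950859161462a72ae0e0129068332c1ad60cfd1c08949f41a160e1f070c,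
  nat_lit 0x850cc284a142b0a168505bbbd613ab0a087623c27a2138f09c284e2c273a1396eede84ccc272213992a81769a3b4e1da78ed4076a2486ea1314ed4884c8c263a4404e9ad910548839d34b2210953dba69e134b09a085084aa36141b0a0f954548a7a54e90a07762fca9fa4366d438744f0bac5d144e898744b3a249d134def56ee8ba2c9c0ca0549745c3a2b1d154e8a67457b3b15de2107a68ebc475f1d14aeca783a9ba255dc11072d77b4c1d25dc4f1cca77953b1660e9aef2f6a20c1d1ddc431efc83d447c01d16eeece8450ba2a2531908a47035bbb060eed1d9a779b3b3765322ef3583cbc1ed9a43ecfcf6916c86dd9f9a2c395144b3f29a608e87f,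
  nat_lit 0x90244244e40992a2071c9c813a0fa7205090294216640e52a26903b4a8a5fb9320788404bf71a40f508f65db586776421669a872a60de84fd3ce54f2df8b5f95770ea5ed7aaead1d5754253e01c87aea705586f4ca23efa51cd4ab4947007f3c84348be00fd62687a4a21d528eabf7021ba981c24ae14884483848a3dc129e5774abae7a41e8eb4372a4b7926124720fa907e422e5f540581210db9af59f54c7d036246bea74987e633682f033a3636ed1b7882e8c6dea36fd05ce7b113ec4e3cf11e7c8f4047a0a10571e8494ca42091d7ad29cf5dcbb954977205b7f155b0de05ca962ad12e1010c3e13c509e084ee4aa1e13bceedf95414275e13b109e4,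
  nat_lit 0x8262c04ce0a96fbed82f8c6691d55105f69463b28d6055f07168156470c2053ee0e05bcac0a6a386ce9f4809bc0595e42efcbc4b94c56722b3d15a081d62f68e4ef70270813c31ccd239aa999899324709cfc6e61382a3abb4606ff04517de54630a318cfbcf944d3e83df596fa2954f13eb59881aa3bb5199b1020cc3b250992bc3f30e5114fb1763b3aeebd55fcc74b91c34a2a5bc9ab70146eb90ef15df1217b6f1fab7a5b96ede4075adbb8064205210675a6b72ae5486eb4f84a0c250dd564dfb78f7347ba1dcc6e0b194f3bbaca110f08938353492f1c79ae4758352c6c69d4a906a88d8e4130e5186e3df8cc83920e0bcb19927192c178a33292848,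
  nat_lit 0x7b052d681aa7a9d747a403b5953cc4f47f7afebd821d6d91ec86fd8c7b29d6e0e85b843fbadd1d7d929df759137dfe3c411e227593478925366eb2a75eec2001b19e7da144bfa8d21b18edcae4e7f36301bffad1646c44b804a3e5adfe06c438248d6646d8726da4b5f3db89ad1610106c5d21be8adb9b4821b7d1dbe98d8616fb2c2959bea51f316f97b7cd55c34df2c6fa838071bfdea34454c6a259dc042dfe838b3b8079bfcee0227c8699745f247249711debe41d7f9823d17c852ef75d58cd8c56e24b7fb1d594eacc83f73ab41d7b707f27561c7a8a3d48dd4f7534b4ede10eeea6675f54a7660945026b9426c1275f49517466d02be9460948ca75,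
  nat_lit 0x4813240692058901743a924061204887658a7aa4081ffec851e87783ffd48c826b0d46f443bc96e7f0ef46f6c47c85bdae2d036f6837b492150decf6f66a419db0b2d85c6c2bb614db0a065a748523613d1b7274a0015780c1806100316018a00c08061803010188429f5b152d8ad6c53b62955ab71d66061f2b558231a68c96f8b47d05be3200996e15b81515740dc286e6cb7c51bf1610196bbf80535c0b0df315167b815daf32df8d6ddaab6ae3e8adf3d6f9fb8168cc6edf266e5eb7ce5b27e062b51a31955dbf48df9b6525b7e8db6c6df9f7063b831241a6df927270300c1669ce4df7095b736db2a2014508179f65db746db9c5bb836e81c0fcdefb,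
  nat_lit 0x3966a0279667e276f59ad2cd724a52b35e92923ec8c8748b37c55108bc680484b37463a10099566ec59197dabbefa96ccefabb5d99a80d89eeabb2892bb3eade02b2c3ed53da44829fd7ab90b59bc3fae1ef6688496372bef9e234511a49396b99dd66e301b4735bbd9fdf660136d52952e39df5fec62c92933ebe1e8332531726e9876191ead78a76ff398e4f81eedfd6f90b7145d614e63f8f0937ef9d61ce64094d7bac51d7c107f830f6a298c04fa936802e381b4546a005bc64a929e15d526df9c7059b7105d5bee0e683f23ab85d78307df3eca88cb4fb1e7d8a3ec9c4daca4d27d8c3ec898495865c936d452c29de58650c326516230c880b46ad59,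
  nat_lit 0x458a0ec2cee0aa7f119e69ab06321233e50213ae4a15280a93c393bc5d1615d04b1c5498829a48c3e0a117eb91f02d53f4ff567fac0f39e1bc8ff5574ef437997ca4461d39442aeb5700093620211adff4965b1a037daa2fd7dea86c4fb7d99b98b64a6cfb2e7a103ed420d9b06338221c16fa0b32e66f574ac165a035b28b86358bdf6dc11ae390620db99ec8ff8c4187352110d60d750623806ec6d218c0b1b4a5977c6d41f8571b526362b1cf6370ec4d15ce38e534540cb9c4344382ef608b500e194102e9f608a716e0574c41132039f16e282e5b17a632b0fb05627a4656a32b8c4fd633e4a2ee51992a538282ca891cd42e67d845fc8529ef890955,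
  nat_lit 0x810c3fc2d3084f54579b5b76722504f3758109bfd7e4eb701a4810f30060e6471284894444a2a0439128c7c663e3420c8f1a686b59b6a0634d8d6b08d374a3bd709f15762b0bb07c1499056b5266ba9344a6e4c1ee7d593ed8983bb253f7d67a292da208fad25f31bed9015140a788575829d414de0a760539829b015180a7c800bc00c64d650036801a2e25d9adb003387ca335c4736b0fd128d9146e8a35451b40c14946bca3504c6657e72bf295f7117bb57e116a30fbdeafc157de94e0589bee40911a7bebe9748255a85577ae8f131a3251b473a239c11cc514cb4438a39805fe6886439db8d2a0aca69a5426ec8ec68717a94d5929c8e2b534c4fb4b,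
  nat_lit 0x36370c14494601b0326d09a750d8d04d913635447e609d104ea81c1c108e4ce917bc8be03fdc609bb17c282bcbd946068b2838942846b1a359504b39480bd4ad83a51aa348a5b0739838ac1c80ca8b06e18386178b7b26c9a21f1ef00d0576dc42aa2158aedf92234032e4f990005607ec0e2a0710e07c8a9940e1e04cf153460f13078183b31aa5236180c8c96c246ac60eb2c196506700db93e72ed0e088cd1148b60411064e6916c459bdb07990104271e5c2ac6a9cfe20b85247cf9209907c083e317b4a0e44cdf113da41e219bed078c83c863e14892cb85115ba384b95b355888708d56242884a0cc50515942d411860cbee0e770f44197251faffb3,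
  nat_lit 0x79aa3a175e6a6a488407db463139da80e43acea21f16deabfae80373e14600e0e85a8810401b58572ff9d608146a0581ecc0fe607ab03955d6ac0f05764b03e0a37f221b72093a198f61e99302d441ec30b52863a0636331ae236dac6b36213a9e6d0be2c42450b2936588f40457723d31173c8f50479c23c991e5c59b6479e805a3835d9766dab678ddc4199d0c6f1df91783c6d5e7e2e0a37e7917f7dfea09cb572e8bfd3e4b74f48c68d347455a33cc7f968cab466584fad1926532b46819e28ed6676afae724fe50936f05ad9fcf5c36e1ae7825b3d835d449176a7514c5db1aceaea2a74343d1f54a9c9d34529fa3f714a80a5484ff1a95494a94a546,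
  nat_lit 0x5b7b2dba230fab6dd5b6f2db84c614b6e55b7c2622601a7047b93d6413c245fd17c48be43c875ee9eb6ed217e90ae56dfaadbe2124c61fc59a6423459721156596f4cb69901ea0740960a0b9f65be92c64693a95ba52f8a7699b4ce5cfa5850aaf8534dcb09846ab1d7220dd52846828bca4c251211bd6650fc1575e79f06e98113408a9ff86bf6139d5c4a422529129693ac322e5e94523a94883aab3de93a4a0046acbd269a2a2f477939144aea4ecb12bc7df0b16ad2b73257080dcc066e02e9279868a9be9dd8c1cdf3491d03185e058f01637437c987dfbc0c73f742f2af6593ace85964f5c76e99bbab6f166ef31f9d9baeacd566f3337519bc8cde2,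
  nat_lit 0x615b46b1553b2c29b61569d2a52334c2aa6154a2b25781aac8f22f4a8e41064f1c034970a0c6177f884967931bee0e0c9cf8c9924146a09cda8f8739240419351bfede8e6f4829511bd2848b76f4437a15aaa2d19d922b3df9248caccfd7bf1801d5861af7e06811b6f25f3fcf9fd9266ae6e5783ad8dd43beaf049daace9f76f0e37891bc4c4f656f0a46689aa94de196f103781d84ec9c5634359f11584e898968d5fb09cd84fcc27a7ff2a651deb0b269d221b92d05a3350ecc56bcb2b660ab70571943f4160a4e2918ce512bc04e64755016c826c41346019f04d693b445ec22f69024f81ccc05ae50c0f23d817ac158a4ee518848c444098e03f32784,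
  nat_lit 0x836b41b56081f04928369c6e59d54306d08dce4a4ae092ec5a18ccd328960b81199c7552c171e333d05ee8341419660af705df826046bc190ff04c7833ec179dba5b1f697066b7e45c19ce0d247a8b8325c196df6e5ead199484a6acdb2750e27dbde4dcea1b7200b1594185e561320239e511b61695ff6d9236bf9b64cc557948cc1aca510d28c48357b1dc6367906ac8da041a3e0930c8458b9a45cda09211738670f4126a2e7904947be63df29839ae6ab7bcf3534dce5cf79d739bb9cea48a8f7a8704f31abdef4cca9e8ede3de95ceaae73f9181bc8e9e47cbeab791b983756ed8f2347304a5d15333c99928ae7a6645332802ab4cbfa662d33409989,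
  nat_lit 0x903f424164105091e7208c82120f7720889045423ccd36314669053afa2c733acb741c7a8e600ba98cb6c8b9026fdd2b5ce43d124501d5483cc24922e76b90e8433f0b1052fd9dc3d4bef20ab3efca97d0438c04cf35ee82264c5860a439296a7e118e16fb2a4bc8beca1751ace1d8c893ecf9f5dd19144d1fbebce323528b18fe947f5a3fb528de8478b524e118308ee7607423a8ba5eb9991800aa818b9e681956e79973962714977983774a40a511d2916824335d8a37c5048d8376ca4480536c98964c73261993211bed313b3262e35742441949ac6f1a4c091bcc949946f39d55906e77148c13223d56539a1c9692391b63e84116ddf36c59b784dbba,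
  nat_lit 0x7d261ce59e45efa4973feb30fdc2dee7ee7d22be91df3c2aebb79b631dadd022dd8475533a00a0bf5048e5e0fc9e456a32b77b6659b62dd3b04cca46a9aa75a95d72ac9878f2b197593a8e536658bb2791e414f2056a9fad5e642fab211500d35cbd62b4a02673ddac575e67c50a53f1a2d9d9e65460745774bccd5e680d9f05e1dc5d094c91251740979c0e955f2813a337abebd98ecb1b5e91ba4a2ca0d2ee6df517ec1a5236d129213392b504459aa40b7453bc85fd469a8a6864a6b4b3e4146e3f75a37391358e064a2e71f8b1bf829eae4726511b900d4fd6e45d5d448fb25c900ba842e95391de40750910901f4243dc6db2040840ec8112408d0829,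
  nat_lit 0x53393b914db6b98a5cc413b797304b9574d90c643d3772614d4ddb984d4c3669bb38afb986a537889bc28885984b0c2606132309b18488c23a6121239a9849a16560eb0075a03ae01d780ea6075183a841d5c0ea86c8b3871da2e2d9123068963fd52aa60b746e32a571377e612f59852cc44c342b30601ba98635660ab32430a818520c29461468886984f49244615221ed185153f689fb01a34246a53f5c17a34fd3a7ea460d6915d0e8e074683a130c0f0e88074381d4a1d020e8587478c38261c4888418738c39861c230e3186f44e6f1117239889d1ce59292bc46df24ae8d0008dc5495b9d1a152cc028d54ad806dd52c4a95e48aa2a56152aca96a,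
  nat_lit 0x3779948a5cf18c04538592deee4a4670bb7217b367d527e769f235b3ec65730e4ad32c8a2e56084cf252163d1c93e2360925409487b9b81890706988d833136df6e2fb742792bedcde746db74529d3ce8062caf8fc9154bc1f94860b8d3784231de11adef07d91532524920fc25da48401a64d21051a5b334724219211018d75c892986539020b185c862e42898c2b909530986091f6db18f28c7b49442515ab8875587c167a3205251462353119588dc9c2f4809ae4f988a490068d8a9b565f67413f15b39b125df670e66744483ecd53d96fb365c9a2e4c57278b92b5c962c4fc6ecab9388c85c55c97290b94a001baa2f94c08b9404d2fa980c1b3a7bdb,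
  nat_lit 0x738ba621df1daffd35fdb12405ce28bfc57bb9928fca0aa812160c3bd60e47d68e5a66b5bd619d2baf580932e9f42a3b80ff3e33e2c4b317b5067d074af1f8ed026e812a3e0a204e50262813340a0204f4deaa5fb14678bc3a8e2ef22c958e91cd251bc4b1e7485cbc3b218761fbc0fe007f103f901fa90fd807eb43f741fb40a91054482a3815200a8c054502a0e150d0a88023ccc56052f80f6f98aacc54e4618170998a90c5404d1904fdae32a1574fae3545ba8ef1f5c2a8ac3163beb919c011c850fe8337f8a0d6935d66f9141a07ab28b975cc28f06ce41f19ab5e1ba4d7d4f76bc34040eaf0f07a4c3d1e1e8d0f4907a383d0f1e888f45c7a542523,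
  nat_lit 0x5ba707b2a311ab74548511b0ed442290c1488b2dd0c6d527ade3d6bc4cac6d944d9f3d6c8db2431da7ae07bc0bdd45ef0cb61c7bc1accddc3c0f7849229bcd9e477089f57bad2e445eebc69fa736b3dd5deeb0e5182cc03a5f91beb21f370413623cd476e0811f75bb62113faf10165a0a90ae476eada75fdc3d3a1e9c2f4e48148b943605689d32815b364ba277102b393ca39414a7706c3f36221b10a23ea6c3a361e9b130d88c32ab5c8aa90b9843621bb74c2165453b60e983611599f4c9112484b23c099e601b5476a71f9683734508676b57de6bb3b9e64677e67bbdb94b816f6f77892b32b1b6510928808186c14e60cd11abc8d604199e0cd52858,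
  nat_lit 0x3c65af7b4b32cbd0a4a52c79cd8da49491636bab2a50d9486ac436921ac90d6040d7436421b3a284686c03f358fb8cfce47e7a3f3b1f9a4fcca7e6f3f3f06be5a298e7424381b447dcae91a9a3bf5395dde96098eb1f79b46ddaf7497616aaa477c555bcd5416bdca822a052ea1d773a2a1d65f4c313be496e3e94a054113c20a9295c08adee56f92b7915bf8adde57040d3d95be9877497628d818cb95876e9019555030ec1877836cc6a00c775dae2ecef0166635c70583e2ce56b8a8b54cfe6acf298eeaa7b5dae209d22394c35c3dae184f5d68d2b4eeda76ac78f69d54759d849ad3b18eb234ebd6b20b59448ba2d62931c2410b396b263ed6b181679,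
  nat_lit 0x7c153dd2df052f72c7c1390b54eba2f82c32e3bd23e4d5af8857dbc27cf5f1fd1d124a9bbe4b5a1e2f59b725133c098064d425724db76a9c940e4a6905bb6b9d920ec8fa6484b23f1921c76196480c6f659214c8ff65d632e6d9768cba165d4b2e9d6ecacb9d8e21a01147de03edb1f7d0fb7c7dba3ee41f770fbd21cd23ee67a73bc3fa47609f5592259a31d67d4f75291da318cd00de005f403a1543ced5a806b35ca9daa900ba806d39cd1ee22447213757410b79215bfee81a767bba51a0cf5285e7effc19e20b0ae05b8d74415f19f5b060b7f8eb3e91828aa6e87a6e11985dec8f4d77f4dbfec185144ff96142b0a243686a3ab614806cc58524c28e,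
  nat_lit 0x77473a83dc172ee926e52ba0020facdca28ef04a67d946eca766537c701d94e039a262a7329cd0716ca7a545c1735ca936a8ab545a21fbd514aa8af4b0daa2f1aa2ad5136a8b33255aa1f1d9d5c2bb5430e63ed510438721c110e0c8718438a21c050e1086ff43854509cd79ad51d35d3a318daa548ed55b583547d096c57cd4b6821abd2d9459944b61a5b212d9c96d44b661662cb2fe59832cb8965d4b31859772cbec41bcb21a597986690a3a851c428dc14774335451b028d500d68a36904d4826c41342099904be0e3d39b9209b904b648ed7bca3de59ef30c77f7bcd18275cd9af79373ab36f059e72cf3e4b9109944b2071cb31a43163d59e6acf37,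
  nat_lit 0x71a7a362c3a82e35171a344db1b0dae343683bb8d4a4b26fc1172cf819e1f8cae6646baabf189f8e0f92008c9015d8229f0b5608cc046182314118308c742d64871e439c21d490e788764038921d1c3b0c87584399773b3a9d5b202eb056c31b83be534f1e068f0441f8da12c45e56540847c150b4d1ee68fb2a1863a46d1f06c1d44e98e8d48ef94be5b9301c98c97c8905fb5f5594baca4e652fb293194d0ca51649fc700594c4ca596c83b642d4620d9026c873641546bb1e1b21d7a29499470c8e96515c6ff59458abe76517b28cd7d02ca3a545db27cd6940ca2664fca28e59438ca2825e53288194b4c9e169cc31ea5a724030361aeb4e89a72ed39c,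
  nat_lit 0x3b1a1092cec5c0e79089ac4b1c08be11243b181d8b0d40aca944be82c8bc21b2d8446871842fa3c0ad843566fa3e68f0f67625599a376adbb60b32d8f7bb76b1b0de0e2b5662123116700dfe270af2ce0d59b6dc8e6b94a289d6d82969321be9f8f9b9c043916850b5cd4853aabc055e11fa6157886757242baaee489e247994512236d2296e438446db236cc42268dad46de20bf84dac272d47db23ec91f468fbe47dc23ee91e708fb45432aa1a950a480ac404345cc450b68095542e9161c83c041d620ed1072083bc41d820e21073083a841dc4b4a10e1d59f4acf8136245e34485226b3542aa5eea00ed019f93bcad7c56aeed8674d3c2d61604ecd25f,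
  nat_lit 0x77943bc520f011efa77933bba253d6ef1683d1c2271c3aa42f9250390da95b86df237242ab6e1a6eae1016c96043ec86bab52e4117b6489b24c821e3506b649021d08dce46e6208891ba114b946e023724f0dc44fa138709c084dea270c138409c004de026fb137f09c184ee4276413b609dc21974276613af89d6421a227605427c3d1952e0b2f95b82c6b1d1ee6b6fa85292cbcd5e0e822b5422a6f2d0140af055787a02655e18af17254712a8895304a91254612a5895084a8b254d12a9996de533365b532d98ffe2a4e470e99ff99a502e2ea71e838f393f5a54965d3c86bfdafb6ba766870b8f52153e056202b3015a80adc055602aa015440ac0055a,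
  nat_lit 0x535e29af94d8a96f95353a9b062e16a6c3536329aea1d74434521af10d2c86a4435021ab10d621d7a43496ba132915954c8f362a8db5cf19ac655046b9f47775a6e297c14773924751e2b1f116e5aa3c21b966dcb1675891165a80e4439744039e7566db21ab6fb08a5b9c22b1ca277a4c72919dff1ca68398c72a9d5a729616f76249d9bdd0dede1677c7671bdc02d096f7737b8ddead1c5077583bd01bdaae645839737b2dd62f07276768910f1bdeedef32e4aac03d9d785c8456d4b7be1f76af3577ddc1c441f720e79f723c3ee4e4ac6fbb667712f01d988ad409700234adc738b1f2770010a86d9de4cecd677c32f1d2792e0074e8a24f05c0142eec,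
  nat_lit 0x8b3c24d0d1eb08f0a49a2a4d1a2cec934849a590b45b07ab2324781ac8d62ee8d839451faaf75b07d1e03883181b00b1c858e82c7516368b1b058d02c71163708baa591f2273a3e3490f89bcf7d86121ec88be41d0072689b015e74afdf57f345ef4fc8aafe14bf4aafb9b36072d159c7284f44ed2d9666cd609d71b354d8476e7a89bc88754473f219eb8545c2a8432270a91a81d50d2b316246c9071c87dcb312598a10fed5992abed1388a0ae9056843394159c4f2c295a82b02420116d84d74025f02b489af44d8626c6865989ad04d9811ff239c10cc4abcc55e12af64409c60ac55db22dc15789e21085a97882ac47e459adb4e42303c429e206e488,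
  nat_lit 0x3cdb23cb51e3c4807479823cb8f7628f222035a3c708f86ac90240ca01dc922117815164124355918ac8967cd1f564ec28ac844062c730d9f2880c267cb1088e1dce458a22c7115848b2445841712115fc88f243f34700237c91bec8e0446f5237b8b1ae8e0646fd237f21e3f0f1c244312240912848822440121e49114488447cca0c151f228fa04039a3e4e27ec807047cac538e1dda45e222f3117aa1dd445dc22ed9175c8bc026e5566e2b34159c0acd35666ab350e8c6acc38bc4ab3621e28481024091203e1e2e4814208892080901a481a8bbbaafe957e0a39355faaafd957d4abf255fc0bc95a3586df259a39d1c55906de9674442b202435f15a4,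
  nat_lit 0x48b63c6bcef84f41564cd363bc640ec9a372b58cd0e4e5d25746f1bc06ce037a93a84c8bc06f95a8af68078d5429b9e642f31d91a7925b5a246f326798ab0f7d6a34b5205a88460c56a1cb5145a832d4356a02b50b3bdd335e19642cd7c66c01170cfc54cd6966b9335b9e89caa8566dcbd130e84c0a3756f91d095123218457a0f3d074b186928e7380333b1183ee6ff6e069ffaca33a678e33c319e00cf18678533bf19de4cf1067926a6f1545e29b88f0c47b6b5349a9b88f548ec8b53501f040f6907c503dac1eec0f7407c003e1a166e0f7806e2037201b6c0db206d6036d01b7c0dca06de036e8e8de747a23db116c4e8da747237141d1f0e8e86dff,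
  nat_lit 0x69554751da3ccd2a6378ca462cc1666f0a694f0b7340b08057902be816040ae2057502c6015380b2005887c34be1b1f0ccf86e78cb3815461e0f1957c322edee4b73249476b43f3a5ec0cca91681e3d83d936a505332ea9afede72cc3a949e691cbcd2ee93df91762558d1368f92a7c943e3a1d2768f8948ec3a4e1e9e31398040c0202010240816040702028100207fd040302009f282c3ad4c11b6cbc007ee669362f8007917acba7544c91edb5130a899444c3a26291306899644be840d5813ef256792f3c991e4b48f3d72e6bc975d05f230711e6a8198e634790e502ca36c9030ea05b502e28181e88c91f0798b3d0fdbd26e13d648ab7a09cab269ad,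
  nat_lit 0x89c044d82260112902c1044a8224e05730896044f1671249452447abc0d95051c0959f1329f194feb395897a2cb5093d48f216abd23668fde2d57d6abf2cb4800b800600027001280088004c002b0018800a8005267cca8e3c90e20db16523c7c6c926cca3d675aa5eb1a13c496b597412144fac71ce721899f599a138d09a24541226c8dfa489824501229030ee489f244e906dd01facafe8e16af90d95fab2e12854b2be995eccaf48553817800bc805e802f5017580ba805d10178817680b9801af0095c2a940b66022f02dd816fc0b6f0aa222c4a72d900d09cba4e5c272d1031c9cb04b85a72a5ae72894713c0a5f4d95332127683cb2a49b918d9a9,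
  nat_lit 0x21589faa0fd4811551374c4decfd3826ce3f4d9fa8901bc48bf406c2037101ac80d44060a0345019e80cd22769157d1278894244a5451643b1c893b44a2225008a9c49ec479328e2a29b5172d123fa3ccce6e2a84d2337119a88cbb0ef72331119808cac4658232f8162da6e4abca654792484217b1d5f3fc584271a6dcd36c3bd844b8cef3c77aa3bd01de88ef2e77953bcd9de924c56fe1c7dfe8d065fc3cb0e7516bbf8558ce65c0909cb42ddc270c139009c504b5426f6138309bf80ca48df046fa237a11bb48e0446f2237811ba4235a46f608bda749c83ee9d1e4e902748d3a549ceb4e9711ec9a51a11a265f234945ab54d286516ab56a5ab4c29f5,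
  nat_lit 0x18ec03cdc63ce31d50c068c77463c217fb18f50c77ccf4a47b824ba9f57e2c2519a33d8d272f63340a780246610e80919448c7246892350834e48dc8791123681c600e280711038b81c4c0e17070d8385616380e1c2499124a8925849278796924b81ddc4934167592495398917ad241a9229d5e66af344e85abcb15e5e42954190ab2c8930d14de8bc2ab2d11edcacb63474a022dbb0046058ed3121ccdbcf20b3674b9b7d1bb06db6b24199e1ac8a0e478708fa469eccffe11e349e2929e5aaead5786ab4b55cdaad91da54e8db559daad4d5647a01c91fe46d8f6dc47e6b62018eb88fc578e0395455e9680ba212290a316bb1184f4e812d7756bc09cd5,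
  nat_lit 0x34ff919f08ae669f634fc1a7ee239269f535051a820e09e45af3828113ac008470488aa68019451d20e6f49da0a39d277493a649d824ea5276493b88aa08a9f487f2473c135c91d008e5a474523a491ca88e984743217d43ad085e042e3217a10b9485bc42ed217390bf957b4477f55e72af4557acabd826612af5557a68a2d234743be48d00468a234111a108ce04672233f815661e00995708639182d57371a833aeb2ae58896242ad2280114108a10450c2288113f089e644f62079913f88cda482d24c2925e89318497f24c1c3cd4931049816b27301d9ac96b22d6b26b2a5d9204d6486b2a3348c29b414c70a7105314299c14c80a6c0537a171614d0,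
  nat_lit 0x22bda5f8d2fae591b4bed25f74fc9097e54bf509d8d064483242333922b5065113d723aa20c6d063c474624dc47074884ccabe335da9d9d236066af5525856e42832907c537b994914df2a6f42a8329c094df855504caa453591f0499504cac4572404b2994f4ca9009459ea11cb567a333d31690acf4857e8ad1f99e8a2e0508909b01e169d13a34052202882b608096404ea02a086504332219b10ce8867c23c1219310c8486584325086b04320219410de086d04310219c10c1086942d351e328f6a47b1a3d6d1eca8f678da6a3d211ec08f751d0f079ee1c243a281d160e860742c3a151d100e868db3c6d92890895fb4db286d9006e09b62cdb406d96,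
  nat_lit 0x7460042c49236b38622fd486eda50645f2745f372464464ecf1911d488f9d9f7224084d6bb3f613a509a75b2e2d9916cd0a59b5b372d9456caab6535b2f2d95e1c983d031eba0f5ca1c9e3d691eb58f6087aec3d7a8eec81594dc19177259ceaa74dae46b38c6b9635c99c2048f174e651e1f492d322112e12125cdc20edcdf90e948759daab21de76c1c878254ef21e484cdc265a00470f6c800f40091cc3e81b774e439871d39726566689ae75d7b7ecd0e8a4e2ec999a3c8c6b8e32b3459b6e4b3df219a809254d58db686db729ac5a9b2db6c6e4e23b5d2de041bf60f4b7251b930c1e46e4b35d051dec8ee88a6a9659d1de08eeb4770a3bbd1de449fe,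
  nat_lit 0x38d01c780e28070c039242ae40e140709038b42ad9763ac6e84a789de458d9ec6cb21e3b1ba98dc4c6cc027ec7afdb80aa5c336c7333bd18386d8d3cfb331910c468be03cc016c8917aa8bde45eca2f6d17b88be63769498255a68e5827ed73648d5c6afdb147ebba384129613a009d384eb4275213a509da04e70255613b08214c10be06dabaa3829f3a09d66cf053b93a0461aa3bbcb5da41132bcfa2ee065c270282af1dae60d099504c2823448a65627504a25cc9059ea0898b2fa4f4e03d301c937bec4891fc42bf8a43afbf8596f5512284bb525d952edc6e714bb34569d2ed097774bb8a5dd4b8645c1619159705221425c2c2e11970d0b8545c1b,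
  nat_lit 0x90f3ad86587d20f9a523589819db08a4686cf3a365d726edad68f37a77c9180eccc7552c22fc1b5b4683080a8b9bd972eaa79d9320399ea22acfec37bdc1ae3d0b4a98f580ec3cebdf02cd49b57033e04e23ecf48b3d3783e48c7ca8c4c2ae89a464e7e055ca09dbb6b71d612dff16fffb64edd6bee63d83e53ad8dd7a507c57544b64e5c168df8f7545b83860f9cea7175ea4a66e3cc51e6475e2b8eae10751e6894d4420fdd79129cb6d76282d1b5e4bd9c6d6f92e45b5d4daee8f3ab6b920c0b095881ecc246651c1214083e3c1896428508576401320116c140dde6400b089185eec80612f596c758730bb21430d824e587264f35551730e698728a509,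
  nat_lit 0x5ddc8b2c92e6c57bb5b0bb0ea955e8b60c61d030e89e8ab238c0bb4bd188c7028e7b558518de5774cf46182eac175e084b05d9945a465da32f505b78cbe4a2fd75ff1b6b51eb313158d52c68826c7b1a918d1ac6a7831a3213201cb1b567e59b331a36b4fcb092c13cf96522ac6497aa9c6c8a0b7ab08b8d94416e236591b2e3ccc444724e21111e5695336fa2244ad276006c04b1aedd1de48ef5a9e3d4652d78f517c28c490946c1ba3c799e40420c3119451870fb95f5a0a2f121e2a8cde3cd64ecb6d62032a1b590c72e6d6036afdb584c85e62bfc87adcdce7a6d6d4bb9b8dc30eda8673742a1fd62431e6d6d67826ddb5a2ab7451b136b300efeccf7,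
  nat_lit 0x6e54372863daadca78d3f2d08cdf64c0eb2105c45a1ac34dcc43c73b7329b984d48948dab730487165ba775403a9bdac26ea826f84476920f78df016b95ca64e47f8f5d86f5e81eadc34ae0e95dfcb8689bd5ec6456e6ab7334c146dcd36e6e245a1573f1ed92149b1b51c37ae1b89079b7c6cc272921b481c984791463145e664cafc616c4ccc9e664e31dc1714acc9b63feb1c059910cc8e6649332598efac360664331de99914cc7f6a112f7d53e9716806a102949917dcd41f511bc75d50de026224379a1b510dd486e1437b21b9cd47886f47d572882c164a5fc17d5614730b6defaa926262e8fd4892aabe4a3a97b154de0a5240fcfa9c155572a458,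
  nat_lit 0x45d516661173e4cd145d09c46507388bac45d20d15d179436f345e022f20386a8bbe45e607064ffb114937574ba84641d4eaed729dbace2127f20ee9078424edd5d4ea126e33babb9b16aeaf083fb4783a3c2107f470173809e3e6ae029083cb809472441068415c81875b99ee0383046b80e9c06ee032242c380d1577c02757598ba82db9a2eb356e2cb777e0fa2dc566ba6c1f25333adcfc6e83a86f9b9f71f390411b73e1ba081ddf6bdab8114c336e0417025380fced811f3b46ef9edd1b8bedc5b6e8fb813112eedcf74e80a25d16bbec34d75813a9e1be06ea8e70aec7dea118d1f7e8fc04a809d520ea776f833a9f1b912dc788442c7b423da529d4,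
  nat_lit 0x93e13f9b1f95f15f27e89c57d22bf0fd0c6662c57f1fa6d03217e09b0d5a05dad13b483640b81f28d25e2931fbdb949c62563b7e2eb99ad1b54fc567bdb32aedf34ada8f808cb8efe0240e67956f54047cfdbb270d7dffa4045e2ee6d737e64b11593bc6fcc65e34a136dfc22f6d37383c0c79faa8eb398a433f541f1e2bbac1a0d958dca7f6377445b222d5516b68b5f45b022daa504904ff81a9aee060a6d185a53eec14d603c6f81d45b8a2dd516ee8b7945b99acf107268b6c41cfa2dba03db01558d2023329fcaeb1b253ad3f96624c8e61b45c797dc11706539e20b2a2e25171a41582cd0a2e1e06b4f98892c3369be4fa6b124505440d71fcb6d959,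
  nat_lit 0x36901b0c0d7c06c9036381b42156a06bc036e01b625077045c81febd58e08b316e454a8c115203cef4d8523845acd48ce880551f39e6a948b6a3d2522e0adee505ef9a17cc5b8f96085ac3ab5558410a9f91e9aeb81f540f864b609fa181f33991e2c3103e57f0dbe16d98df25452767bedbde74ce6dd6b36bce94bfc6e6a6523ea91d9216ea478260444c722d6a4bfd52402180de2e0e62591718571d8c6ac62a504f318690eb6890752f02c3454324b8df61e02c4b0fa88c3bf50209f52d491ca48552482921d4882737f43042912e2d7314cc50f2a92794940a4a852532926a282ca493525145aede250f11d376c28365e24ce7fe513bbc48de248f11f,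
  nat_lit 0x7b6238c0de39128e89506a3ea6534908de75dc42372418120c492fe4832a542920cc9504423edd82108e963fd31fc63746c7ed63f2ad83d11b0c7e220bab1fb909b31b81638916f6d491ac50755532922948e60ad7640f2fe4e3756c811640bb140d5c5ac8122f08a6275f8dafcde72c7a44b9f892c501614fbf119f9c0fc6a5db62ed76331e33535db01f178aefcbb654fc5aed8d8a4d1b336289aeced28f6c50556f7a51a98a3a49615c6310994b492b4182acc1b32d55b45581295dae304e9e0c3b863cf0cb7da280c3d7365eb44fd8f3b17667eed2ffce4c36fdd98dc22d9c14e18c7376afcc49322a169102488224355221090f4487b243e0cbfe90fe,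
  nat_lit 0x755cba9b1c258ea586cd3c78a2100d1e2c8f174a6a9cd58e6b5614b2e9a5736a592b59b52e6c9cd66e6a951f0b9ac1c1145122735db9abdb35ee6bc5b30b41d63c9903a575014794a5388e64e8401c20ddd833083c8f4447a323d1d1e90842ec7a4a0ff7085a75efc2102525f061b81eabe6f60c731bac750a418d9f970d68083164180e086ee3e1831431c7ddce706277e4632205e2d0bddb78b2b0f3e45c2ad2350563c5a94176197f808749c2dfa62da79937f443e8c6eb00e97e30c43f1f86b258463c43d56dfa0ac5d4723ebf40a4b8af91f5f901ed7561a87dbd927bc48f86b54fa907d44a88b251c900ff8236c6941f7e71a524e87befc1f81cd7e8,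
  nat_lit 0x9004b8af01abae2be0dfc22751c5701c138d7238ad1f3ece9537cf6be7c594aed23f62e6329518b8ef9ef92cfb67d0d48e6b80334c3b7a5566866ad7e4e19b5df35b0601808e38eed90b2d60c753f3215a3378c7b50cfab8bf163d6e2fe25a1b2805c5f04b3a551bab5d5f3d097147cf22ecdda728923763dbb4e95f3bef9e6922fbdf5948daf5686291b5839c62ec5208d610309d99ff24697bf8b8e0e48c0e630750cbdf7d47d2bc56638cb1fde429ab4035135274d8c9e0a2695129a1f7648ccf7fe7b6d48f89e3f625e3660abc7f1eff4566f55c8a4074281e7cb83c62c853caa6c78ae383f8d885d678eb408f0b3ad11b242d87583ff478723c3d07fc,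
  nat_lit 0x377a1bb94ddd465d3373d0eef4ddd86e890fdc9bbc077921c45377122489123c3a714488a2455122c5cf93d7d1ca086feee78a6f32215112a8ade634aa6a34406f8c37b81be00def06f840adb1bd80ded06e830de80b749b180d8a84f6c36278b33cd8b86c62362d1b161880e3e3a0fa5b1040144a9a33620502818ec7b1b090b9791fb475c647f123f991fa21e2647e623fb11fae1764178085da85dfc2f04177b0bb905ddc2f241786218b10c04863c4302218510c148628431a875c90c30ff025f333fbe00c84fefc12573fc41fddcff0c7f84685f342e1bbc4d0af53d2301a077bea7a94085c8e9e40c6e39d4dacb8a5d7d8a9c4d71d82fb09511cc5ca,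
  nat_lit 0x650a0ebddd7e6bfa776019ee69b42eec00722c9732dda04fdb8670ac01124d90910f7461c00fdec60f87c1d7a969bdc3e2e1fe1b2f26605580636511c3aaf790354a4ad08fddae549729c8fa851772e535c4043569933743d5111830019935cb3d0155b9001c74f2c3d61074e1ba54668c7ef5850430112c4b30a046f6ce2045fd53cd1dfb78fdbe7edba028d5c6cfdb47ed9b903c8e3299824f4624b5cf2591fbf4fbd1e48d3efa3d93934cbfe3dd230f8f97feea07edc958ffda7b163cf124035090a900f4a875c6232020950048092404d2a0e291f14900a4745235292243f6ca45c522a2919948d82e9c173c0b9f05b8e176217420b9a85d402e801748,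
  nat_lit 0x46772338519d88717466f8f63d0b8e8ce94673c52ac3fc81fd60fec07fb03fd01fd20fee07f3c3fc10c3d87284394c7b5c3db41ed80f6c87b4e3da31e8a0d9fc13f809ea04f70280013c809e604f80280813e809f854862a4047350a9034284aa3e9521485068b9faa41a514eea458c6e4163174a8ca038c702e9757ceafb400544c639d0a76b8ae4e5192d7550469c9e42a0142364d890029802641605f44f18d672553e889c31ad65157e6ae2d17118b8b659e39564116acb3c92ad1a78a17514b86111b6aea0c45f686b7392c08bb830cab8f11e3a8fcdc70109aa1414fc63ac9f1c829c27c8a6a923f6e850570fb387e1c3f4af876d2ab877dc3e8c9f1,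
  nat_lit 0x7fbb261f4ddd2987e295ca21b53c3652a41f2bbd6497a44b54c5e942f46d317e8d405e90262f2339abd1c80333dd0dfbe6d9f9916844058ef70f12d7b57c018622266198306698670c33c619430c918628950661963a5d83c6ce9780f053a6144aace966749989541d2dd119088c4445bc5135117c88bc4455222ed1168247d55181f79477f0e0a95271adcc9c2aea4d6718a451b9549e1eb3900eb4f3c748a8fae3a578e8d5c15cac223b511da80ed2712d11f268e8fce9223e4a39239da91fed8ff666aeead9ade6769e8457ec3cce1fecaff6a7a5f48ebd04fea1947a5ebab34b738f4b47a5cb22c615c80a38051e0291014800a360518028a8145e0a34,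
  nat_lit 0x450f22869140f146b45092198c7ba68a114505228814fc86e45446aa9fb826770daa0cbc04d54b9eea7e27b5e2e87d506ad7fd6503a14a5b604ca1158eec9094e39271cb38ec1c710e3a44df838eb1c73e24e26a9d5c50c736da0a2d058393cb27ed56a2726e66d52c218479423bb11ea000ec478423c0037888f3a18fe23c4932abfcb1faaeb1347f8c9858d28beff167f20256a9f42c8a4d1d30c93554ae2832e3571a95f4e6a2fa189429c5d61ff0304b4551da450523771762671fc0a2a477ef5207a8f3c831067678db354720cd874f2c3d43df09ef7c06727be43df81efa4467513450eee9a5599a8c764a66a0b350d2b468132669ba56599a7acd48,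
  nat_lit 0x757247f123f911fcc8476c7f3a118b08e675f2ca84516f6be8f5f462fa50b45d1a1350529686c2e28be9340e9a073d03bc65f940df1c661038e81c189daa0720a0e6505c28309418ca0f4505a2837c3ee4a0e8506c0e922080119b8d42e3d1fc85a539ca7a3a09ccb50b4736439a71cd58e6b4736239a387068e678737439a54394450ac3dfa872643921abcc775c8723438fa1c8525b2f3fa73e048dc41ede2701448283db00732e46532d719674cb5465ac035c99698a5fc069832d219655c8d500575678c016983be7224893a3076940d526d94746239f91d108e8e4295a39e2182485394742144b91982b5d42844c61356b9ca3ba46522d734a0ee3367,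
  nat_lit 0x5c3bb8ced0896e33803edabe3cd92a07f546c1215323cad1e5a74fec797a10851e6094d04211dd77729c99046b8995c838e41e72102be69c82ce4151ee8af58d9c4ce42a5ae8b90b19c32b7337212338119c06bdb77b8fc23f63fe109007ec1c7fca102b25ee8ffb420bda71ed380721934e2ddb6861754a84c88a5cc223cad5aebad1150aa726d7936928eda1fd1005160b243fb9463a869f255ea8c887783209110e20eec14628a3210fdb9ac14f55cdae1721820499668520931edbaae259c1726b78009c0050e6aa7f914ff29cd38d4f6ea2666fa1a9e03f86590960b8264cdb252c16f1eb6390e23f091f888fc647e4211a91f9283f8ca81dd81708cd,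
  nat_lit 0x7fd7b69365001047580c045c6955c3017f7f32c5c79c922b5bf37e61a8adc91cdf306caa3922da126a9bd931b47389d479264c92df4739a0eb8fcf9839dc1d66352290b026b1305394634a3173fc6a8c649ab2b5cb82454092e042f04847cfac5cc1de0ef9f28241b910e091302297fb4bed4df3c4af498bcb3e7ae50bae4579014b8c711d0ee31e713c084b1c630e28b45072800d63c2e32e523f38cc970e29a0271932e1b9c654c35940eeb0bb99710c2ed2d3305d0d3b6c5a6565c5088b548f4e3294736b8c88860e8e5b570910c75c668578939e092570106697ec1e2ac80c53cda3c4c57c40fda97e960a190ef1b3281c66c8e7a63ad480cd3cecd563,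
  nat_lit 0x6abb3f34dacbf25ad7c70b25556638f8e37c042d295f0e2f5ad8045b5ad56b4adf9a88472d6ae00faa8956096bc8cde790c1176c1ab9305c0c0d8287c72ba369f0bf007b7c2ebdfcda226d73d83b3473fa52d50761825e3fcce4d0d177e7c0cc5e022f04f81a825cc12e9ff7effc16b61bff1246bcde444973bcdf646b8bae967d33e4107c5e965b7c122b5fd4ac0f82f7c9aa57de4ed7230480c4ac920eed2e149510cc4b724e70f3b060a399d89e718c45e376737de450ee6ed679c7197364ce51c1e7fc241c5195ab1c205bc6c7099d39b29495372a594515b8b6d96e04b33c9642edc06590e404a1de40ee1d83b9482c1de24eef084533bcf20f3f07b1,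
  nat_lit 0x820fca0ae07df23d05b36b98be2d30b65880adc5a68d82ab6c22164abd056d89187749602dafd267e80d3716da57897cae06fd717111b4996c1201365b28865c293e7965584ba78219a5a81f64d39334b9c7880d5f7fb7c9a3a071b054179113a2f16ed0f22d9446c15096dac52cd5b672db6946e41d0f5b66a8df54cf8b6d29478be1edec8b06498062c69e9de1b00c2805bc19298202e60069d4b9809cbf8e0335bc2b97fdcc0cb6b972df212316e2ecbfa72dd03a053ba2e5b74c45af6360ca3254e83294a3b20152e4d5623b40289a21f262472ed069f5cb8d21252dc6a6dbdcb8a5b8672e4b9771f8f2cbff7c632daf5f2f2da8410cdbe5d97fcaf8dc,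
  nat_lit 0x7997300bde66ca5dc7996924bdc3c6f33291a8af461a1dad0ef687313c9da1e860bf4656c73f59fead0eb601a3c505ae0ab0d6923cb7fa4afeaf848923a3e1199398addd3f2ca71c5938ec9c943bf3274237eabd0360953046582608c2d609024d018250c12e8d42b0488eeb6774c3baf9dd28eea245553baa9dd74eec4775379133c7a1a04ca5327912ab63027fef22a9180bc879fe8e3783932f3fd20fa9a665d72e99f521d2c6f1a082a8ca1f2077b288882bbb94f544ab0574944fc6331a20cf63d79f9a8f6dec6c8a5f65f63d919c1c8a0708279c9ed20787046f7f88b761e3074ff088c1f406124fab02db605fc0d9a0460d5a43e16c08be4eb914ec,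
  nat_lit 0x7275b7f09b87721056dbdb636d46acdb786c693950db1fadb610182b63dd92cadf565182325a0ec72a308078c03c701e140f06077f83c201e250b2e078803c39ac32d61d33c5b5851ac48cd8b35bbc76dd673e649165e4b50c0b916cf4f0082b50c966a600ea6ca20b62e3b5628c76acab5659ab30d58e47a935635ab2068da73d9a4ebdcf6add91225d485b5cf5a44d373dc35115ab76dd7a6adebbcc1984f1c48838f47131d65b294f77b3b92e9dbcaef028ed43761652bcd58b7571ca58e0344e90c80b39db6e4808eeca88bf3d76d6a6f272565ef0a1ac8894d4bf6a63353058ec71d8d6a610a68d9838d4c96a65b4aa4ddf890f54f451bbeda998a371,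
  nat_lit 0x9414c10765030c6f791e6398b22d20f54b938d45a4944f0a26f513e2899944e8a27032d0289ea2d12a2645a30248807df2b45d5a2dc48d96776b4648c0bad179b7051ea18bce36df9b1cadb77442236389b1acdb7d6c7536398012b1e156c70b63714578d8de6c6cb63b0024e232e119508c9046690c75119108c84466002cd00d4006c0036801b800dd00680033c019900d500690013ed7648ef1b5d6daec0d76356d035d7d92c668b700b40054c02e4015500ae0056802cc016c853180578c95a682a341386d94db4e9d5a51681b69232e26f9f864988e2c49f424fc1277093b049d424e4127b093c9b702dfc864bfc835dbfeedff25776b7fe1abd0dcbf,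
  nat_lit 0x1e849d3247c7c74da3a63067bce99c74cb1062c4ab58be727f58ac645639d3729b785599ba6d1e402e9b231519f0607e967c233e0f9f05cf84c7c2a37121f091713cb89a5c47ae27153d2b8965c48aa7985802a6835af3bd1458872f4564a942660156a695275dd2c8e442ebc17660bb505db82ee017580bab05d4c2ec0175a5ad42b4e96b0eb5a35a2c908e154b4b4678c23ad69a081903d18204aef860824e65d8b3d4102e0406f852512845a1d44840acb512328920c9e6a23e5120c5809513ca8984fcfaa271512d11b454462a24d5144a8916caf3cfddafd6f40079ff225596764f3fd69acaed3d812ae5ef8ed1397d9cbe40ee6538db97c5c2865499,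
  nat_lit 0x4bd2a15a48a2d213171a5b18f8ba52e3486833b7ac606b2fd337e85c5d4a080f16708b3941011fce6f6944a73907e56dfeb25b4e56484cd1db09caf4e5925f79dbeb20b8905d3bcfddc0ae6428499bb80a1269092f76f1c7bb1dd6aef056ed4c7bc211351ef4844bc22624f2d1c3893cd3dc4e0e351c3c5bc541c6652951c4481a149ee1b2f503468ed9331422988d5e7819ec5319e232f13191699c215e26a42916ed7bc4b9e270e355802eb0561cc1b005e5c59a07098878b8b0621fc9b7519848c9746594528d19748ca34657232e5196a89e32a51973852344b4a65a4f27571681ab4a34e05c608c103666e5337399ba47e7666e088c48fca4cde466ee,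
  nat_lit 0x8e80b0ed198eeaa6801adb445587b6033c688e344613fde7cbe2655059c538484cf75e8fa70c5a168d0b19313be27dfbf0fe007b2d8bc485722f65f7c19a2d25f11ce14b7c4b3e261f134ded354dd3e22df120f88c93d449f01f9ab032593e4b56155c1b0330939e3f53cdcca63ed39e39b374682a67018a528d031199d12720dd196d60379e4ac140b7205b0eb7a81673ae5205ce4730f44b0bc4bd194ca12afa338f0194097746f466466d2334cbc5c8cd5303322d501f8a6073446da335a0675032f7d2ec9f2e066b14ba6634c0cca066f14bc81d9be2bdcbd7035781db456b1cde103b581dc32686491cfe046ab83f4d205a0d2878a0740b3628211412,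
  nat_lit 0x7290933e5fe8b26633e35a7615d2c27c6474b224855ac8685866b231eb68175c31f96b1f82f35ac88938b8d3ab02916dd6c0aa605711775240cc099605130271fe34f3cb4c49a61a648f8486d70f33e165ed9eff15517196eb55ee4060757b6c5ee545c0af6a30719ad9dfe750d7e5e93c996c63dea3866d1d43601b478ff39251e888f8f946cb484efdabd459ca89df0672b16351d05af86079fa36a7d839693476f0db0719c342c24670a3b8505c28ada956d25c7d849562da3066e6a33ada122d96463063657525a31e251a1224b11b012bb674c79263d931c498e64c6fa63a131dc98f84c7622040b1bed8126c0a2dd85b006456d64db360012426d80e,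
  nat_lit 0x6aafbc76de39922da8164c745a0f2127a494b341e3a3e0681536c131fb599ffe48a5656db3ff1a676ddf0680f39cc1937e798f78dcb63c06e2af1b67def31795bc62d536413029beda28a028b405534539bc5e046f44109dece3e12d0bd6ef3b77793bbedde06ae0b7771bcb2de506f2f33451bca4de553ba2b796dbcc0de576f0187e8ce02d1f0d39229416cc30a724f59e5b79a09ed6a7016f0f9b1fd8cd8bb9d5bc3319ad6f06de6a6f3ab79b195d6621f6f3e0421c8a311f136f3c2d149bc2696d335e1a2e8c06cad75c53e080dfda6aa346f7386c75623ab4e70873854757a0f40e70394ae41dadb750898d61a42a649b748db9f515f36e65b346db97,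
  nat_lit 0x7b412dc31ec92bff97b1cb6e2e27fcf63a93d13ce21817ac0a772d749595273a78ed56fe24e4dd298c054679833caa3962c7dd6792b3c9c936ccf2265d2b3c7cd90c652888fd9a27cd90054ee363a1b1cc1eca6c7d815f3d2ea0578f53f6843c4f59a666d0848edf34ece0384f68e3bd4c0702031cdb3f88e24063556e6b0664c78b7ad9bd724ed37076c7deda628e0ea68dfb361ce862cb975ec147c653e0aaf8e06a6a7c5d3f96de9852a6bd4c1ea668e477a97b98d584e2f53a5ee2b96cdbd5a7e1e6f5337aa9bd64896e2d98c7c75a352c2f37b4e3da61ed2ef0c58baa363096820a9df91792ef2ceeb0deba6f64162459756de976f6232ec63e3edec0,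
  nat_lit 0x6c8435878f1f8d61770e2379147a251fa959bf0069dd692dd466dc8b7e81dd48e7ff83f63baa1d77f07ea75b5c7e59bf531f9e75b7c7e821088eb7375d9c1f9d404a58f650159d3a9403844725011a80a5405836924ab7255c92abc95604aab929f52ad095744ab3255919fe51ccd64f3098819fdccff04cec33fb59fcc415b89e3a09e104f85e0d414111d1104e8827389e2209dc7b203d96051f8f6687b383d8e1ec60f6187b122f6148eab54e23b4290936a98809356d6ad52e6a93b54e8d116251f344e1a25cd118228f34499a2406d6468987ef1c9885fbc9261c74362ccf5a660e8576486932d5ba06e5a976bd2d8b9db0061230de04878dd2267173,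
  nat_lit 0x629c314c63672bb576297b115d3272c52c622c314a806a684cf426896fd509ae84cb4263a132109bc84cd8cc62ef0e3332bbc75ddd173396652bbc95de000dc4e9cc74e03a7b8d2d4e9de74e289579d3d4e9f436b763a0bf779fbb926163d95b583ced7c7b1c340b9332528b24f833b6415e8d17a4bbae50c022fae332e65fd56871a0215a32ac4e5688c5e3c4182ad12568bab429a569038f594c40e41bd4915425547b7a8dba1ae5956e41386ee3f46d85430a7b7bf11d7e613b02af804f5d6f0eb568eda3adf1ac76de3a94cbc76e1bc8707c190054a86e401d09067173c804211b32014900b4236a40c9091790344a861c797206a83f0c81ba40e1084b,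
  nat_lit 0x7e84bf0158a6634737f15a8339772afe287f163f8c226e8b49389bb44de2052b137a471840a624f17137c7dd7b7405e482bef932d4b4779c98a65a27d2ac957d4360a1ab50d6a86bd435288bd3abfa8698959c75802833305e182c71a9760ba029dca5b6c1731e7b05664e2bc501938a59c51224ce1a1738a39c580e290714f617c070a55166c2f16174a7fe8a460c2e63fb6b0bd0782e9592419caa4883fcea9194d1087f310c8ca91b2b7aa1a9c143a86a88a108e8650d2a86aa85f314024a60603fc100e94bd8a6143865297ec3faca60c52fb23fa92ae8957d0f48256112abc95644aa91cf392ad11fa6a9d44cd3a83c553b8a9d22a4a2a72d5398a9da,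
  nat_lit 0x6aabb554daa8ec81b6aad113f5aa9ad5596ab035511a6d0038d69ae2f7757056d35659d8ae0799c9ed35e60493021d811cc090604530220ffbcc085604129f9c1b86279413c309de04efc278413c709e584f18278a93704982a51eafdc3804bb5de23519009960eac6a397e7cbf325f9b2fcf17e7474735f952fca52728bf2f8e6cb4121a094d04c682724d78a084d03f682334109a4b07f7b692e0e9943316345b2657065f1a4b4d2547d2b355bdcac2fa5e605d913159c0ec0b892713c985cbc91a7272b7b97b181f640cd6063b03b1cbccc09b6bf6bcf98cc12949a79ed815d10aeaf3d85fd8a9d74e2ba4f9947d3c84b551fe967e54bcaa3f07524e5fa,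
  nat_lit 0x5e9292de5ca48e51b0c19ac0f5ca3c18199073b40be3ff509028fff423fdc55b200094d648012400d29c664d7326759354c9ac64d423d99271ec9a764d2b267a1564cd929203ac5940d9eaf356b2b01b31ebb8e5de30db186d0c1d7111530d6986b8c34461a6250e986e00d4c06ae035901ad80d7406a0034f01a6c0d5006a23301197c0cc14034932fd197d4cc0065ef88ba93ac4071c039001c900e980744038801cb00e1c07350a8579f4be96dcaff24e78eb604581417ad3f37b458062d24d292534935a4971249e92508a93a493124d87ae712310362848a80d1112250913848ac2466122d091701f440f9507cc83e741f420f9107d503e301f5c0fa6,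
  nat_lit 0x7cdac84da4274e7798467c84f2537908d07606423298198b951910fb02b4101ab07373d701fe9d234e5168306467124c0105697267ac165c996e4c8714ec11f179f320dd552824d4d06d630c45632a0d9158cc38ae5e7fa6288666eb7ef0e8b824f518361d0511852345d7a0a780f9070adf5c1a6e328152db03491c54ee5037ed08cc3dbc121f7119bfaa90529f2338d7155bd2a57a261cb5423ac838d9152b0493fe432290c8aee514944b462a9fb1f276c5c0ac62b95cfb18b657d9c15a8d04a8d752a139812cfb9320e501a01f7199b7a5ad5754db7f75bfd6df8875463838e10d4ea7b754b42195d6b920d0906a48361d61b20da843dbac4dd79929d6,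
  nat_lit 0x54f92553d30f4a9f03dd793578d3007b9c8a240d4152cbb244334093069dee62e6737122bdca9d82ea81975c237559bed8dba775c438c4e0f84eb8c75e7c1efe4cb2c2ae7b0ac35e1fe608f0e46fcbfcddf9d6cc6d79df3ced9e73ef3bc79dd2bbecea96f3b279cdb9d44641ab4fa4d5facb3550249f8366b22a04638eecd5c90af99d19cef8e77e73c00f405cee4e76b720cb9dd1f3a87af6669f3e759f36e987875553e6c9c84f24c54fadc8584e6a6e7881e83a1490eb4a3cf50d72ac2059a7403e97d08be87896b649ab2f5992da5d3acf73a17c8823fd850d21671ba38adddcb8637345f07b9e5a0478fb8e811c9e69dcecce00650ff39d864e610221,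
  nat_lit 0x7b273d949ecacf6587b2e33b7913b8f6605a8bc9e86390ece0e670933858ed3aa76567041da519c1877c9831d4690a5058ce8e7e60b98aa348cfcbe7e5dbe9f4e90843ea8a722ce411b631a9d3dda236b91e48b3930d8ec2fb1452ec10760868733e353ec10a6088287eca5ae95c91c719f4398358b03c60da306c58344754793bac0985fe1efcb5575fb7428ff6aaec581343944e04b101767adc3e9adf502a95f623cbe9f9ed0b02539222bdd01e314f7385ad730c9c2498b5c17b9f38da6074127ef93f340e796a3a974f60d0ad40a2ae0d0c1792a3c915e4a48c3c792525f71cb94f24d792728e747c6eb4f20b6fc60bd602e436c4587ac0122cb05683,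
  nat_lit 0x64f1b27791406c9dc64f625f0993b31bf764f41e2f59e11138270d69897dc3671fa143c0b86c193967dd068dcb46d1a37625e168e02b539a3631d1968de3118cf56878543d569eac4f5667aa73d5c1ea902a4e7ab65f8d989613658581d5f922fc5950411a354a50afc7e1e1847c0878791ed48f7647be23d511eb88f8841f5681bbc6c1e33cf1a378d4920c5d098f1a66578bc6919f86f93767883e509f9daacb572ea3f3b9595ae5d74b8d2baf0a13c04c357602bb0a371aaec68dc52bb298db47e956122b22d5f4e090c66641493a58af6776794504a13a0a37064393fc3854235a903b193fb40b06041d235a7fd5afe0e028ad4053e19c04ea040e7c3d,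
  nat_lit 0x51a528ba4050ea2ea30ef28b95755461d3308528bec0bba937849c024ded2709153d4032a4df4488a78f108d904690234c11bc08dc046782354119d08d742d6e14ee02b4015c00af4057c02aa015400a94056402ac6c2d3856dbe1edeff4ddeb5840e2c89bba070fb0361abeedb5e016cb57c5a2e8db5b51aab45cd4d64936680aea37c5d33901da7f4fb78e13c32fe9874cf2790dac60d91a003cb58a8c226d8ee65241841d682aa985755e3ab023ebcea5f70a7c7d8211851f648fb34a7f9b674d79b8f4ab65bd4f26ab6d57eba9e094d92a6b975433a96a3bdcea5d6c4dc77c25346d8968efa41f6db68edb40077b36625b698db3e598f47a5d6634a17f,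
  nat_lit 0x924536abe079303cc7f943471d5c14ff277f1fc05ea4f7b03147dce40c620603147459fbc0bfa03aecb4c8089c0f4a4f8915de806fc578172fb00d67e22c5798976f105218051748d43e499218c28a87dd43f10caa258119f80ea605a761ab6144e5288c35873aa6c4ac940c6cedb78cc071dd97aa48d536a0b2f29e338f1925af20fdcd157cb01b35a99c2c44c866b4c5af1c6155169a72e0670dbc7d9368cb8860c9aa6d3d034d22f90305017f00be606080301017f80bee05f10187817e126e9153b49b524dc00c02936e4446817b805c251a144aca2549129c895b44aa2255d12c0895d44b24516c042402160108429a804390a6d01020080404300206,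
  nat_lit 0x2af490d185e2c0e2d5424485d51158a8474de984355cfc26bcb72872f2f5cfc8d0c70a84485ddca227fcb9449495a24e09056f812bb9912317d025080fabe82dadf8e7ea524b231b9cfcea6c06e4db9fb1cfd0cd196b3b35989acced6615b779168dacbab6e26b37b59c1aff4d7f56c0235fe56e32c0db1101adc3a3bf6d7ff7dd039c15d06d25577c5d36d689adef8b97c06ad1b0f71a7b823dc89c424f7307b803dbfc4cf4f7287b842c8544194b1f459062c7e163f8b1e058f22c7c96402002326c0935740139957b0fda51ccb2ae1ece4e84474b41fd65d19326614486a9d2dc3d8890274b3bd65e0a4d287678774a1b20a4318405580c147a3091184a,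
  nat_lit 0x902ab8e69634ae2c10a5da10b5c73014a70927139ddceee750f926ebe8edf38acf4118ad3e70191c2fa34830746741fb2f28948ee1467517b56d68d8ced4a341babe68cf0309b0359b87adf2a5163b70e1b2d4d9a564fab8a7d37f2e4042f1230b6dc7fc5e231b8baf84590c0e3800571b8d8d898312d671be312f94acea8c97d1e8d9bdf470fa407ce7ab0a97c1af9cc6716c937e51af19de8cf13f5f5911319e66507b21e98adb0612830b4938250f106148254b7f8dd41304a665a3c67aa099f28ca81e5ca33a0acab35d7558c1579adfd19c073ef00d9e42e6e7d573ec34ed96442e7d70120b9f6e079f050b7f1dc140dff52ceb88c0a3fe81fc790115,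
  nat_lit 0x737e271b1b5e2986c737daf885bdb4e6d874ad3378578c68861602b91019b65624756d30b6c81b794c5c35081c7abd033aa65152cfab0f4b560a5a6183b9e9d110c638b9558e2c1f958bf201156faab151616a2ada58c014e0e3d66aa9b32031bf713c2e641f6ded1cc8580b21da36dee8907cda00186f38191b45db7c8dbe19380c03b1f92ee9fe92e73995d5c74fd277cbab9ef4883ad26e415fb6f9cf27a32cc04779e51921e6dbea2007487050e98e8d60c7dac1d86db818ee03e4887ac99765e7b6df90da9c16da1bc46df702e363d76cfb8902b4a88a40b5090971d6c81725409205e90304234e3ff2e2928857389ad3c18b0be71472789592523167,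
  nat_lit 0x5abf2d564e7447a075aae902a56aaeb5828c1ead5e99332cd82676aa2f459db31ca72b1fb3b581efa847f925c86bb4b3b4e76470c7a1515b392e17e7603b2104f3167edf4f540c8bd5a5aad2233942b4915a645ddf5fec852456172b2842ef0a9d019d305dd28e50b3a4a3d7adbfe6e00309e1b596d60d6dfb36af1b7f8dbfa5ee4a84b58dc2760773769fa01d42ce6f2755139b3d426aa5286e0ba0d7db8208ad83ee6b705558d6d0d1673193d1dcd1ed6d2734a2c6ccba70e69373483d73cec1283543bc037074f4e49f7e61371e9c55188dc1e3d0f9e651ac00324d6412c7b154832c82237b6ab101ee6af7368f23479221068e67894e0420c5d8390832,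
  nat_lit 0x5965028ec2d20b2ce596396ab1658ab2d04f7cacb2238aac7a5663a2c9bd98f4c68b66353319d98e489c122228a2b48892443a2220910fc87b8444722260a62e0544fa4f7ba333335ce92a84b52d239d19aa64dbe9818240bf5f6f700f144e1c5181a62f1462707837975eedaf78c7b1f2ebf5ef21178670f2bde240d56e7397de13dd997e72bca07989b66695bf6f3107ddf9d6bd83a2d1094969b43f1a1fcd103623ab4435a00ec4485c3c4636508ceb8725c36a22591ac0b86a42af23626055702b07a5344eaa4f1ca76a89d640a96275ce9f87ff5a24c5cbb326b124b1a220cd8ef0f30650930495cebe06ad3bb030081b0320ec56491b6031e892e76d,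
  nat_lit 0x7097394b0c37ee1297299394bcd29520ed13bb807bdc090e13b30b6b5ebdc26ee13847a638468865ead8330b498590fc1861573f071f84626e27e153f0e1f861af64d7ad30d8b5ec1af54d7a63057b5e9494040161443a4511cb57688724434221b8d2f8886722198f6b549866f7f131a2d9216c89178e59a6ad8e8b1711869075583b2537680ee44dec263a4751a9be74ded26f8dbeccdf5f8fccb7da5b766cf881ed2b6ec1c350df6a3db5b095184a71ab93db8adb80c8ce7b6230e4b09599968ca524c724716d995400fd6163b32a5994cccb63f92b60823bfeb93362d903974e434c5af254e988c5a2967e7968a3c7424cbe626c74d359981da292d0f3,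
  nat_lit 0xf6007aac3d901ead0f5b07ab83d7c1ec2861587ae088ac284b3790a018900c0805537da2013c1d1b139d07c2b4ae1683ac724695d475262b88d2ad695731fd515f64fbb4a2d25122283094543a91a18962aaa944b058542bcc15f00b04857802bf015e00aef034582bfa4ddf0085920c491a9ec83106c77873d90a4dd89feb7b5139b15ed3cc5d38d1b14630fff6bf436c3bafd19a11cd07f684534231229a01e9683ea4569a100c4a92307117f88c0045fc8777917dc62144610230111821c142e09b47e7b8261c10d1f5933aa382140dbe175d61219d3959922acfc689c344acf92ed12d68983449e39d2ae68685519c3456e866553c5c0ad85a150d0a6,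
  nat_lit 0x5e72af6f57626bdcc5edda83ad5196bdce5ee12f7181ebc0f6007ab03d381ecd0b3507a503d1c1eb00f4c7d21491724834f9cb79218a125c5daf2303ab53e8fdf3bb246c943a417f1e6bf19ac7211bcd71a7cefa3669ebb766642d6bc6d73d1844ad37e2e7a073d3074ce0a10f80b7b65321cdfe4ad62c5959bfc8a300118048ecf354652ba2bc8673df2aef15c93216f411eab905e6a0f34e79a4b68b5823ae0ee575b30469820a79a569f8b03bdcf8aa229594d103a9ca82b2a973e539f21ba1cd1976e89b7425ba411ef1557d37455ba204e9701cfb4f45a7b4bf0369eaa3efd4156d3d88eb59c555f4d324f1735f3ea09cf8d14b84541b9f0ded0cb2bb,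
  nat_lit 0x240fa0c4227aa80db4184a0c2d05f28306140b2029d397e8f3f55cc125e55739176d422b2ae4ce37675eb542f919a5597669fc245a45e1d597e48c3566509bf59e34cf0e678b310a6395ecf185785b3c719e1a7ac77914ba555e35aa5167bae8410490fcf7547de4a617cb2225920877116470b24d10672c891643c818c273d14188a320519428cc14680a2f8517828b4145c8a3001c668ecf4766a3b711da68ed43d6023b7a197c8eda4070a3e059484c79723c2c6ffd8ec04770651fa738979cd15865e6e9f27979b4bcd8273eaf3a979c0bce207aea1a156d507f4d061b895d578b80c165e2f466bc210867ae33d58426405fa67b433dc00b88cf5b1197,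
  nat_lit 0x76663b341d9a8ecd8766d3b3721030ece076724204dd960ec3d761fbb105d97cecc084103b309d98d081e6a23350f1a87ccf776a26350e99f82d4296a21475dd9306d94d6eaab632dd11477d374463a245a312d18577f2bbf75d93aefe2763abbb3da2f0ec79776dbbf815e02279355fea0c4d2fb0ade4134ea5f5401e6af1908fc047ac23de11f308fb8479c23ca11e00901047f091790f20245c04374916648b617e2923009174471e22be115ae1dca456922b7115b08aca4567876c115c10160473b0720a02bc1c4a80b3405c83849016a80b720329133c02027b3c3d9c9ed0cf6887b363da40b12486e043b621e509c2c878443c021dc90f221d8a43bb,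
  nat_lit 0x7828bbb4dddb22e7b913648a7dce1eee237827b9eaa4342cbd9743bb56b924c4d52d743a2497c0142ddc26f78b4a4dd0f4e7a965e19d5b5d0f0cbba64c2b5159a82921a56a0b3490d5352e07d5195aa689c12a2e466f72475c1c22f07a46a0dba2f60f371d727c894a625cf611d2e73db41de9baced2b083b1b7591f221297a7777bbb41ddaa8eac7706c8a5dce5aee077779b56ce43d121ec90f8487d1d37721f684cf3a6f5d8fb099c7683c8871d492ed0d7687c889a1350ed11768cca9c9e0aaefcb781bbbef9e0a6ddc976ddbc15a4533228877e8bbf19dfb0efb877e7b5165d856efd2913ebbe5ddf21227777bfbbe31deeaeee54badbbe0ddef6ef86,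
  nat_lit 0x7762489d5dd74cf67775b3bb09c93eeeb8775eb8421a45c290b1482c74a5a454d22863aab489da444d230691c0b485a46c624867c0b30ad56f6cf7c6919347adde66ef197791c75a20f04eee494b741e1652c929876ec9c7479dcd9078668f6b49160edb1d207c8cca5e5dc20e89d6ee78ba5da8beec77681ab513ddc28edf31643b4b51a406d2d18ea68b170a1d0d2d86966b2fa45cfacc326616229b12656cc2a3121a4c988240cc258e3c496f238f8f0ac751f347be0e52ea418e4141cddce30e71a738f39c899ca2d84583a047239ce51073e7716c1c91de351cbc779dbbbb652b0ef387719c1d15de3eee0f770fc75520efceef494c1c1dd60e57297c,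
  nat_lit 0x7fbdc99e0b716ffd72141c3ab158090eae7100ab03d571c9d7355c528a095718621751b3aae1d5706a28c6a3c351d85d542d776a3a33d482692d47367bdb51e92620cf6269e4a8ae45a3e2e7333228b42da63ed50a6994a4ce526602f076a5ab3db956f8d4ae72433533d9f0ad32766178bcc99862d3c255c0330a1a788d3cc5e249a3b5788e6f1f5e22c66b557d2bc425e1f2f101a958d21b162ac7615a946d46b4d0335281a5fcd2c96a5b01505a9642ee302a6c351139e6052c67edb4fddd8fcec8076423b219d914ec8c94dfbb241d9290817725bb8001dccb077c69fec75220eaad3fa7c8dc1e71dc5cee3477140b451dc6d226f66f4bb895dc54dee7,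
  nat_lit 0x16260b0ee1a282c3f16230b0e058942c50868b8b101a40ad4e08ec147bfdbba8d4ec2201b774da606ddd667e933f419f931cc947500b09c65dc8e9567e233f51a9f6ddb21635c7be458e28e974fbc8b165a5eaddb4696bb4c39a5fb1d53698534c21450cd307697d47508021400f6007c003d214ba00fc00768043001f4010217540ba905d4c2e1f175c435145d3e2ea117570bab2153a053e02a1015180a9405320298014bc0a78053667f033e0d9ebc414367ee33f6139e0cfd7475eb3f892630931449890b825263a8eae312024c692644931686968b6485b28297f16cb0032c5b102d7f16c8003c5266e412202a28bbb8824cddd803b99047da46addda,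
  nat_lit 0x76243b131d8a0ec54762b3b1621020ec5c7634c2035c33d1cce728347349e378d83894b43c6fe39ad073d6d2240b16397cda0f67d7c730a0e951cc48e634a551dc26d463745aa4cd5bb9aec67770bb7705dc30e4b06a33b7719a86c41286ee537721a8a4ddbd6ee2376f9a5e68e9a474e476663b2cd5021c2b35405a5eed5046a24b81b1c0cc9321703747d35bd86e06370343763da9522c2f67e3352a8585ad4a463a98b085a602d499691034871a41d1d27690c348580a4ed21269083482da8e0d46c6a34c75ec5886d46a58820b14d1d4ecc6169030b115a3f8d1fa8e92b47e0c498d20868ff3472e19b82939149f8a5ae19be297814ba8a60852e2297c,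
  nat_lit 0x36aba629b038c67173ccb6369233ae79a74d4a44c493bee9866834c88349aceb16d43d7135d5a0c8eda653d71e31d8e8c566632bc286e954e2656774c8bb6a1bbd6cd776ef63a5b9db54613c1f29c884ddb3eb5397a2cba8cc0716900b254a37dcd15964a8791cabd1724491224c761ac8951dba722569542c8969d87309d190df4870a4388ed4f7475c8722132921cc74b642649e066efbc91463bf0de062e89976eabc0d2451eefb57816bbf15dfaeefc078153a2b5d1e2f02978173c09d9d9ccebb6763b3b059d90ceb9675fb3acd9d6cced2764c3b269d93ceca076523b29a5376ecaa76564203da8c8d4606a2e33d65a896d4586a2835099a8b4d455,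
  nat_lit 0x92483b4dd815302dc934a35e9e2848ffd974bb3d671ec308fc94122bd859696e05d74ef42d2d2482924177f95afcd5da76a6677fd3378ed326effa57f3fa46b5ebea84b97ed43f2a50c66dff34a7ea18b24c0efda57fc6298a1023eed3f7fc1abee9553cff7e74e83a3964b8cfe2592e521a2588bae6e18a1d31181a266e8e9818e3f9d9a68327bf76a1acc1e28fced477f4045201e7230e5c92422b469fb58dd444ef3bf6adec3f23ee9100ba625bc22c46969a61e6b1d9dad34b76cc1a19d1b4ee98f036229eb1d34448157481ba631db3a778d6ae7c8814b1ce6f7b69a2b80f93b5ad32c74c9add4a02e4827b4b63c4be9e7c3153c5539bcf89ec43025c,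
  nat_lit 0x7eebaebbe4c3239995d149b4dd6654ba265de22b530c7926d2e368e96bd4a29a4400369314590da306d246263b8e381546692d15a4b1a393b762b5d2e1e87c554396b6305b1c2d8cd61bca43c53f0ac3be30c6b62d2dc00e64cb6f01e832dbe16dd8b6d85b6b2db416de86f1437841bbf0de386ef8378005590de4011d204836beeaa6d0872643e946eeb5cb9b9e08dd26e7734da8b7e45be82df616f9cb7c634cd2df096fd8b7dc2b1d15640aac844ea2acc155c0aae8557c2ace15600ab11d874ec4b7627bb14dd8851f4c84113b111d927081b7699b9405f6fd27b27ef745721d1eefded7f19c5729f112fcf57af83f445e70e47ff748b3ce4dfaa67557,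
  nat_lit 0x6f3b1f110f6a89004663ab0d007728cc429631714ca53a8fd88f3f974f0e4d66ab511411c951b62099d45da396ca975c217d96744a65852dd4ce8a6d8911b05e136c7c85ff0ba7b918f4db754aa0a31e49efae307293ea23f4318a1f2503dba00215cb807d50cc0b6c50a7d63abd40bdc4c2956791e8545882aced0304ab39757b3825a3ea4dfcb7564c7d6210a4eacf75ecca6723c651e368f1d478f210591e3e94dc4209dd82b29c33e53888c6449ee73358ca264b9ab6ab193761939cd18970c4ba5d338ce7189660d31625b312f18962843c5dcc2ee69771e752e2f608602577245ead43eda11961ece4c40261d130f21ec84c33261b130c455f84c38,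
  nat_lit 0x5d9ec6dcc5646772b113e95364f1aa225c4e3087ce589de765b8dbab0b8c64d6a8d730828c9598de44dac5da2a78cd8dea249b5276b1a449670a4e65d1295f858e08b25109a2b1bf4c67e6e6f0d5818cbcc9ceba022a44c32b135523c593c08c6dec41e6780745da22eed674eb3a13b5426531674ab3a28dbeacea56754c709565c125f56660b33947bfaccd98e1c8f445997b1c31f61cb0a58cb3250bdf617196a5181bec2232e4fad57d5e18d914b1c63435d03aa35083a4ba017b134947e3ceec7c0627394825b38686bb6d7c366c9b5f419f1649e837497692527b6ce89a29db608d9c46d830687463671e7b189981458554278925aaa0aa796a86db0d,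
  nat_lit 0x927f1f70043aafaa3929aa68355660fb48064008bcd9976ccb805818c7f551025d623806aa1b8bff6ccbe2c10441549754581a2c0816050988e58082c069603865a832da196e0614c65c032cd0d268cb3c19a21a5d0595886d0437021bc10e0086b8435821a710d904014bf8667e3059702884d7b2576888f59af500e666bde1bc49f404fa0c7d083e8a1f4087d77135b045b88b4c2b428a9f1e97224b9a4e89a3c4d20474f5a4e09a444e16b43549b24d0d215e58b01172482bc6686b2e5e5740a5da72a1eab8a9f54a87eb27473ea6828e7251d319e444ec471a6340319d8c904c660632c319c98cd60b86bfd58cc1416b5f62b198459f8bec41ec4b05bb,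
  nat_lit 0x4ada9a7583a2aa7da4ea8a56f94fa89d53290fa9f581fdd0b3d07ee03fa81fc00fe207e983f6412f00fe45c321be5570bb18d5349b1e250fe1869354a372d09416c609871e57c3de49a2c0c892683934549a1405238b823a8124f6117065377c5c222e19170e8b8827554248e93f6321395ab1251a0fe33f21a4a2905fa7b256bcfb6cde3dbadc316bc9abb74bc4ed79007249879daf8cd7ca4dee36d0db9d8aec336b247b7d8326c2656c50b668241d2d9950827b847d6ede103254dca258dc382d8f5017bb86fc00fa59764421801a15b8a937f70e13731ca324dcc972a237918fe6720f960f5a8b99c394d6343451b8720c500d62611ce989d485de7d99,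
  nat_lit 0x6468b8e953b48e2a30a4ca780dc532148871db321a2017e8631804ab5ab569bb1096884c2d38e010ef55f78a3a5751e99e9b7d7a692bc1093b2f4cd7a6822854d5746ab235549aae0ccd66ab43557999c0d54e121123f011f708f970f1123e48aaec8f9e47d305af91f88ad8c56cb2b6295b62206c56cc2b6715b04ada510392479a2c21049e9d6d3e678f98505487cf445dca75b846eab98f4ea6ae650a9d2b0421f35953e0be0b0e603a328906985d678d31e66a9571922c3cc18dedb0b813acc0f5b1a2fa753d3ac512ec387a2752d3abc2b099351bff85521efff239df9e4a15c2a73b468372b81490ec486a242a921d090dc486c24319219c90d0485e,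
  nat_lit 0x19809a638d320332634ca023f4d30a698726d784bf406f665f762dab10c9afe692bb23d6b5fc1afded42b5dc22c33d537ebb825dbe1e500c41abb792f63aedddc71af5617abb1552c564ab19d4d348ac69eae6834d52f70f98d400aa5e74f1ea908077069e4188ff22a45538ec35391eb44ec941fe755506bda83d8ca56f3ea5a38ad1a94fa6b47611aba7e01389e2339371f4606467fa53e318170849c082653e129ee810d47a7253ec86ff0e3b871e038fc1c738e3a871e438fe15588e3d8723039081c850e470720839061c860e478722039143e961c9b4553097845c6e08c14fa52b8d7264b193517548a3c74eb088dcd4b3288d11533a965864c27062,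
  nat_lit 0x76303b189d906ec647651bb19a1014eca976354a6dcfb886cb739321744a49fb116c29543ea60d03c1c8d62f6af8b5b7acb85e5d0ca62b8948cba162522b4f70d92e4a2d52e3b35511aba5def71f623545c7d4e3e68ff047f923fd0fd85847ac7fb253f52a127609c23e189581dc28d8cb127d8944b0584b0531294b79ec49c2de6acff16800337654762cedd689ca8f959fc2583433a219de0ce60674833c90bdb0ce50671c33b10bd80e6d8301d8fd4bc7d7aacc36c1104af5568a2008efc66aa69b234d29a6a8cfc84c531c4019ff4ba8669ae1bd30de6c6f4437aa1bce8de806f2a37ac1bc98de9083f441f020f6c3a961d4441f220f29078c83d441fc,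
  nat_lit 0x903eb8a54ba02e3f85c2d14551c7e4b8592b68b2514f9029add1fcdc5768c597199340b018b84c08481657ab33d591ead4e35b5d3114355c8e2ba6191eeb24e56808c4a09025b1269777a5b7759932eef99d0c51090576aedfd208aa8002880271a10c8850ff55a68af6d0ba6695d3e21ac9e996ab204f26c3b2d4834becb4e92a14951c9d36960379d4b52495beef3aa2000ba4d54ad65c3f38540ff7d568a8bbf6ba22ad299d2ab65b7cdf38ecdb4e4e3fb5fe9a1519c4babfce8a5816d858b4ae3b952f4b8f898bce9ab171ed3178a23f9108861e60864e40ea33603b2c05964d9d0765759559b390497e845039f02af78fa0b20794d151f441168aabe3,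
  nat_lit 0x7271b82fa4202dfa7729437de0d29ae52b7298b71d5c9d2a99b3a5698759c9cecfa1519a39391ca72d16393b79f9552abac6dc7d33b72a9319afa647b44404f5d5b91f6a7060c7dc9d5331f74841cbaa71d7c508056e9747b8dba4add2a6e94b3660ed70dd266e9137465c9e2d78802e2b0d2dbf771e0054a937ee1bf54e5476ea1374ca3dcac9816e9db072545fcdd386e39b74f1baa0af7554b081855ba98dd4527cfb752db90edd49726bc83fdc122dfde703934319227ae0716be6b73adbab8c34f44a622605bab4cf193f73b7565b66add6072e092a49705324877c3bb82c0c746f874609f3d79931602ae745e20f0a017d31b1b2ecd82f586b328d14,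
  nat_lit 0x408cb2c418bf22b4b658731a29569ecb0d6585b2c49f7eebed392d398dc426f2bdf24ee704d59f988bee5639ab1f56373e32674fe2a59804e2c9fbc63ef1c90e30d8ffc981faaeb256cfec3fb49aac61b987eccad35d9881374efe8c76c63b431d455ca8c74863a6c6e45e880f0b591c01e0d587ca9eb45545b0fc4d443119a59cc2ce6887fa849f5789c601d51b0af0822fa80144e59c1113396510d30e57d1285395d9cb0c240246652506a37551bb047282532452ecf83a4a6646ed1f06c87bc4720239111c9c21ea472e8782843808e640db95e67aaaf62934639b5322a9b2dbc78a638668d9d1655b82115313a5abbc55dfeaefa57952bbf12f9f17a4,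
  nat_lit 0x941bbf46e5028ba35529bb2fc53fbf16d28b6a45b600212b84420489bc1c822b18c323ac104100286b4784003c3610bb4a18ab38539c0aa318a70a257269c0bca1a223132fd19f3f44d22224b5c23099fd706aa5b85d2bbeb196786fac99283a8ee15cfcfacc5f42a04fd3938cb044aa5470bc738e7bb2500a0e75cdd54cb067d163e8a9ea2f24d91e03215716f2c3c1f47099f31cb9447b123d83c4ccc7afa7b091fdc8f598f1b07b0354f62a7a953cb1757536b0f6cd4270a6d50971aa7b9faca7cd74ca2bf5b1fad4637d51983f5a5d3b10b5c330b99864cc1c6610096799854cc4012ef88bb93e6e0b2925a48227ca2f252231b0e8d8941a79e87afb61,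
  nat_lit 0x48f42479923c426040490a3df523b6091e3bb2a475cf5447aa03d4fc4c94ab1e7a982d499563088fe75063d999e86d8e605ecd4f6ab1cbc95109ee7639593c0d52d2a99c00f999230fb46a99821001f620c27c614048e91cc41239491d0435f10b91238e86b535de2471502a0815440a3a0521028a009137a9a055902946f41498324bf92600930a497da23a49292930c498124c1035e220b9391181ad49dee90ac093893c34e4ea925482583c84e046b28347de9b4a455c3efbd08256c12b95d9caed244dd2bb60a16aaedc63a2142895dc4767d93efb5ae22a3527d8490baa5b1482d151e812aadd1d677cb3c039deacf10c0165a8f595a180007c42b3ce,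
  nat_lit 0x809a404c15daafbf574a5354b15faae9497fb12f43e4e2ccae793292fb5a37e4d62788b53270e4e3cf8225766bc841e428f21878f500bb54caaf1e7790748be888da97044b8025bf900b3159d34c120158043696fc4ec8276193b100d2e1585a76113b022af54ec52763017a853e42995084f505186f614b8620a6d2e24970f4b8e9dd392e4213d54b8b8166d25c8971f4b9225c64ed8497304b9d1fc100f2297334b9f01ec52e7315a35ed20c44d59ff19e55ecf14ce52e80bda12f752f699dac1027593bfc4cd1ae12e641899b35c2a04f9027b407f203da275280e940752035501e280ed4079a03e204e5023f8136c4c5a47f5131850cc3d72e4eeecb09,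
  nat_lit 0x1364aa5111444a77e54a345d1ca382a9432455921863f06723e2cfdb85e1c2f4b07270b838595c2ecce2f8f25a8f75b41885e46cf781e55b40cd9e06d043341494e2af57592ec3ad885af19a53cdf10b1d7816acc09267be809f408c41d413128b90cef8827166cba7ccd95dd1c2b6572987d995c6004d656e32b7995c2c28d7a56c0ea9a56503a97deb456493052fbdb8acb456609e86b7764b14addf16efc63f98e19ade014cba7cf993c6c932a4890b9ea4389acdd524b086fa89c244e19029e7f39658fac50d2d890a6c4708a5b5d96489ac289a644d4226a502837ea12908626b0fd4789af40a11f30b02e87c69af195f2ced9f73e70be591f278d525,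
  nat_lit 0x2dc89bb9d0a14850e10419c8f22bc620953d80887363b90bbb7600a100e580c8e666439ab01cd0c24c06119050c7dc08e231f318ff0c7e0641031f186c18c8017fac5f4d4f1baff1cbb8a5b3b5fe4976c97f9499ab5450a6bfd77a2a7ed5def18ac977aabbdb2f4faef65b198c8f78e8832545b190d8c328bcb62fdb1a0d16a6c45362123c16d8836c3e362048f28d87b6c46361fdb89474a432aa2a63db296d75d2684b6501b88edc4e6dc945d2a34f8af706dc736e288caadb876dc2345a5c02b20cf704737f95c020e4d454bfb803db31edb4b6ddb35da5b75b1ea76dd7b3c98a726dbaa6b10b6ee1d4d6e0936ca3b7f39d5f2e8ba83ee3abf5d76d07d9,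
  nat_lit 0x812640921ff70c5fe7904b98dd5c38f20681232f50dbe82c97b6f9d47d55bec4df3651af37d55b21ad7a949402014524f69275493fa49c12504926e49421ebb4208810460825040dc20741040081f040e41cd610423ecf809e402e25ba354c52900952f4a9834de3aa605f098fdc193079d9fdac130c0659a5358196c7d1ba838be98abd10f48880443ca2208d2fe8886443bc44a0ce74673c339a19cb4ce81118f339399cacce6c2ec0017780adc1e02243f12244321c487424371223090f0cbac65c488b899700cb7e65c332db996f0cbb065c844dba26c113726a4b01189244d1366021e44de226b2012300748050a60524c45102688143f7ae00e5102a,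
  nat_lit 0x68ecc7471a3a6d2be6965316a966411d4b69630a8ddaf8ad7c9075bb5f01afa0d198489f477ccdc220e9156da2b6c15b58adb256d72b6995b46ada50037ab66ce94401fb61a180a751310c9c8104ca2666166010757cfd49e4de93e947d8154b6e6a274902a66f1aba7ce22f26640331e14058cc8466383319998accc7c6634482524101208c904e481999fad1bc090301c99a40f9b29cc0df3462b23c1b290ce4859aa3650db132d9522e4817248b90e44bf203dc42ac6f94405c2e460b670c154609f30501823cc14c609c304a18260836260a4004e00238012c009a004900240010c00890046001ad4eeac26a6134a9d8984d91abd2bb8b099c1d5a0ed1,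
  nat_lit 0x6fd7b5df55edc0209727737ecd6816e4ed6c8eb6d95ba82df128fb6b74f9bf30e0d03ca137e5dba2edb5d6c9e2254637c8101b6c9b364bcc160d9316b1bb58e4124ea0656b89ac420fcc2dcaf0af81f929ec06f60455d7aae9901cf121655db2ae9139dd176f55d92aea17f806ed0502fae51d5b92a1685fde2b78d7f7417c133c89e3b8209251963c759e3b0f1ca78e821bbc4bfcb7545b992dd416e90034510972dd00066cb73e5b9a0139009e804fc02820142009b804d802670134809c012480913048b8246c12320922856b82438125c092a3acdb2bc9f728be006f14b25bd6632de1692a88744de9bcf3b96026b702e4764df375a07bd355e9b69fab,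
  nat_lit 0x7dc2208e64a9ac36932e7b6e7562ea65b87dbebee0221fe6089304518218c12060753040181e0c0ec6082603f2d35980f0901e60400186523dec075603e469c64824f19b8a8c496d1e90e7b7203f5bd20a481cf4904904a47e9241a920048fe23ba9240a920b49082480d3af49d704ebf0c284fd2259b834a09fa1a2c469d765bec9f81e315a8e034f399e5d50db49e7f3c9aa1b0debfcf47a7acf49009aa5201373c8db5489ebf7240d0d838d5590b8686dc0c70a1ae90d8e18d457b0a1b7df913259d63188e4fdf274c61c4f353e4e4f23ef8c06e1747b1db84ad76b6e1334d5c90b6dc216e11363cdb884655c6bc69d275b87cdc371294b70d5b866d891,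
  nat_lit 0x853900a380520029e014400a28052402a100e980a601d240e84074303a701d300e800745039fc1d1d0b296a06ac005a93ccbdb6a4e35268336ed4976a458a56c0c510aa8030d018580c2006180311018b00c40061e08159956ccab2656232af195805b8c65650829182e1a3c6d1dc68f2b476ccbd6d1df4cbe19769a3d02f3750bca85b542e0a17450b7a85a542e4a17d4df6a85dd14b4cb3b659932cd0b75f1c3d44b596e58a34a7e17601c300d95b949b32601e300c58052c027601646994c18660da313e989f8c126627b8893981ec85ba6278009f005180294014e00a8004d80268012f00a0004e820501015081800558202c101c0813040b616821020,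
  nat_lit 0x62b0314818940c3b062742c10187a0c430622031695aaa74bf56a91d2e137acad4f4527a6f900b1f17956dcaaa594029205b46dc6b2e99465edb886c58b459cd19868d002f39a304d17c68c634651a34ccf6660d800ff9edb8f6f27b6600fb9edce267601de3dbd181f0d6be6b716bb6816acf1eacdc40be29e3884e4ec26203138178c03660e9b0307b5de4c942062f6bbab0389b88a02156195b4579bf04df3248df37e05be52df866bd035e5e3bdad7956bb9b29414674d77047de28cfa221e616a30aa185b8c2e0616230b018560c2ba6166709036275c23ad89f0833b02246a9c1051137c35e1003f801f800f80079c03e801e800f28078403d50a68,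
  nat_lit 0x41540f77c7b3e828138abab3951bce7152108d198ee14c074a7074180a04e95474a88af59d278e96267c1853dc29e005e802f9017d00bb005d402e5017900b9805bc02c5016d00b7005a802d2016380b2c05a002ce2327118e88c8646502323119140616465201958cc2dad6c8af33d0b9b41c38b84fad3069871f4b7fabb3e083e8422c21070b46018984218211c02fe084942d25b316d98d076fb5f0db324aba54e01478ad2deb171800920043c0258011300880046002440129852f80469b154d8ae705d394d0e982e53751969d26939ce020b85a10417820c4104d016b8416020ac02c2082e04168e0da789b3c4803ff4f13a78953c541e260563078aa,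
  nat_lit 0x35901ac54d6306b1e358e1ac30d61c6b1035899ac6a000326ab8ba04000a4d48718f5bd23ffe5a0c4e345231b880047c24462e2316118a08c6a463d1ef5918c5ae3f226976fd38020ce46e6363c2d99c6244cc2f0b32f619784cbd065e62252445cccbba449b85551978dbb46dd9e6ac3b76823a88dd9d54a5b4a75bb4c2df316800b3d859f42d0416768b3c059cc2d0616790b3f1f83aa69d78b60303df1aa710159763e35d20470b72485d242cd215490be8a6407e551bca8e57485a8cbec5aba2d6b17698a9ae1a7c2a3d09988b98c5a8668e76e40b7211b8f6dc7d5987371fd0f10b30d47682bfda4faf02e792c8453ba06dd14f0481ec0da5fd7714f6,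
  nat_lit 0x4f61a7ad92056546e4f59a7ad53d7a9ec54f6427aed21304b9348502423d21281c651728a421629fe907b184fa6aa8655e36380e5cc7f3d104e1ca30b0fc30104c1e25fd1309898004c1226071305898444c2c26033f4ba1d5d0ed03ff343ae21d408fca87628a18a1d38e7844430212d44a64e774365439d81cee4e76673c4877d49a58cc4b26a768bf346061dfcd17d4144b4f952240911e488cc5435221a91151ae3a44492236908b428e8e976280a85180f9fa144c3b7c1f2c8a0105bf48d92b6945b46c61cc3ec6afa214fc87d482666b6982312118808c3646221e38918648c263c6e23131185ca95854ba0433152c6201414952a5a1522c49870c02,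
  nat_lit 0x289f95dac98e257662bbd15da4aee4576d2bbb08eaca4c22f43292d055c032465264292f864643a18526220c324f18816a01072072c550ca4d840ee3ecea4ef5bf791aea30f79a309b26ad1024defb64c9be48d91f32442299114c08a57452ea2978c34a8a503c81986a94eeca77053b929db41d2ea76b4df0039f01da69be96bbd24e0cc90cc3458ef335e1946c2d7838ef483c358674c334619b1c6c16e56c3320099adc798662c33802d40164c0b2a05ac02cc0166a154005ae02d001691b33ad99f6cccb6658212ed99b516084200e5aac3244814800cd422c31955058a843d4216a0c38b35a84357fbc5c0d3d02aeabd80c4ab754cf9b01c180d6afc5,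
  nat_lit 0x31359ed68f6a858573dac1ed2cf69e7b4d3b5d1ed80741a7c053e061f01cec8672153e081d93a26927c086e30371563d9adc5d07813714931500f1f8bd70408dbfa0dfd26fea47dc5bfacde2d2881b7f61b9d2d9916fbeb7e11bee91f9d6fbbb7decc168df706bd1b80c00b9661db119498754c3c461e030f518742223261e41cfaa11ad11511cc14459242b5111488b13e00b3354e27accc23daba0d1d7baab23649b2af74986e6ce4131419832592acc95a44d4b2551469e899a2159b25600b4e059d53c5a9e18a335171b28e71461d4f20a78d54ca00454f6d28a5554c4c6f5ceedca9863095a6f05e256f8157c2b013ade287136a2144bc4edf0a8da6c,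
  nat_lit 0x5d9704f054a34ba0b5d9a2ec9d6528bb2b5d96465fd73dab9ee50938894d73a9192d253a2e74d739eb9d185ba84da826dc137209bb04d7826b8135909b404d893dc615514fe08cb153f6f164b13c8a7efd3f849fb8529a9ce0d4a5a6d7e5298a949c9a02a5224ea1a94bd71d6b05c10fda672971e433963d2d463fc37b8b8e97314310de427e15e96001b18b4f898bffc89312fd951752c230666d82e1d99bd1c5f4deab337599b0819b4f6001c75422b15744e98b993488c29d3c7b813d05d5c48b7b12a913ebd0d7b492eb139c1af4c4d4f252f6ea981725532ed781726d37dc91d80e4d96f8e3727d9b4691cf6f278505ddab8e63823e63b58ddad662d5,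
  nat_lit 0x6c51362563c1ad89333e1b623966c867b059b0b5ddce54470dc0a1aa0ba105b682ea416fa0b4505dc82ec320ba214110a434d503311feb9107e06554425192924e56f4436861ba4b2035c7b4a40a6c06ad8a52aee534271a120d088684c34231a10878fe683e34291a0f0d0e0686e34341a164d0d8685b342b9a184d0c46874631cb0dddf09c76693d0cb99d8307c7a0c525ec91ec23f6b33b5667ab22d6682b33c7d902cd116692af11343f9a1d8596c38fb34440009c526511a734421a1e60398a55174cba6a324c70e66c5759bfaa5ef5d11d82552abc715e4ca5ba35f444fe15e506be73f29c5e9de436ff0c738ea8fc5d27ceaf186a83a50a4ad52612,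
  nat_lit 0x12e00980049c024a01220093004ac0262012a00949022c8112408608a29021c8103353620425020a811a5fae9e7364af65dda09faaffb0786a13d87dfc3934589ee5de391e74941571ca370057252e3b8ece8fac4463e280ed406a30275021280dcd4a51655486fa80c02afeaf9e373fabe64e078172353dc9c0d8b3be7a5f87d393e009ef44f8627c413dd89ee64f7127bf0d639f562ce11682bbead5f57059e43cfa4940d9b52faab93a1c077d6c02d6f27f27a71cd174efe516d5dc485187cec2173c60a4c2587c521f761ee30fb987d4c3e053d8a9e814f668b3032a79a10d4f30653a53db29e98dac06d5c15b8065a4d3ca6d5736a81a7a0daaa0671,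
  nat_lit 0x5e37b5a8e428a0cdf388b344a93bac712709b3aa411d784f7ea7cc845fd9b42317f86dfab6809ef9317fa76363b1b9d8e0ec727644bb1da53faec8f763d422f5791cd6f162c1b9a5dcd38a22f623e48525cd3099085e512ebc5b43e14bd58e0b14094e28b1be5e61ac6d9f51ebcc0530d3ea49f518bcc776133ea2e49e4fa7a54d98398553584a0b54d72a6c62ea2a9b73b0d9262dafbcb35959cba01f09412d7d36bec127f5afacd4d7495f9287d5087172b217baa129508242ea2c9289e25aeae118456de1288d39d2d8b66c5c274a1b082d1f320e0106b61d4226ed178f106a483562f1120e1106c85e402f15178c8bc76196c2f13179309c4c5e542f22,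
  nat_lit 0x5d3f2c5e51fe2b9935d3d063e4f14aba71193a15fe8c80659b64bfb15c949f1716e152da13db94b62a5bc7a172607e46faa56d78552f8f4f346f0af7a14bc29d46f2a5c1049ba6314aff8823442eb15fc50beea5a982e2498423299194e7d61c654232a8fabe62663eb058bd4bec758be3178561569aae89f72c2b5005a75666269bf745fbaa67f95d62a781167dcbac25da9acf606e349a9385de139a86057195b08840c1245f861fb3627c176f549d622fd62499f0e49e82c4873b30aa4e575605c2f400c992f96d16694f51652da2232beb6917ce4bdf6590eee39f6d15a9851d2b0da287840c9305f35ef7f475e338e9d794f19b271aec66d9ef86f9c3,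
  nat_lit 0x63093182d8c12c6143abb90f0500f4755f5b89ad0c5f898f8cf639da067df290b7a3027dbe52df89ca585626a1da1e3642240d19439d718133e327362538333472b839501ca90e59072c4394c1caa0e51c72b10e0716c68b6fe1a6c2a02171109e985c1a2e1116b78b8505302299714c88a7f453dc2a0515048a7ec52682a005ce52604a3256b9c359071e8042412b21b48669dc652196966a2cab848852cd096612030a597e2304966305c182f2017740bb605d802ee017840bca05e002ef98544c2a4614a1445555ac0d994506aab55853849d580732c4ce01c4b1846603a8658bc88cc0092cb401e606d5281e92c54599a4578a6f550843c35dfd40a460,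
  nat_lit 0x2483047a0920448f913bd1240091fa2799247dc3c909000458d240212020901447fe0fd791fec90041111620f46c2d8828bab55cf8aed2d3b6ab9cd620b9a8d4251250fd29b4096cca6cc5364246994d748eb6535e2215910bc102244240f93910a486801f0a1d118534e0c6128dc94353f7357ecee6468d1e468f9f804fa63642a4687a08e71a225f6db33ba344d1a285560c977a01b0a65f4f9cb6f664d20e668885b3ff35f1b3009d5569ad98d21a64e5162f846d2c6786c5ef62fbae7ca5236f9ab8232c6d0a0d70c72c723f41addf922e4cd6300ac90d47ecba1b0260317ec429404e3534fc68b9e396e7a578eb3c5ede3a601a15a09bc771e3b0f1ce,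
  nat_lit 0x5fb1afd657eb65dc15faba84387372bf543533ae7a0f6607b2c3d931ec54f6507b223cdd1ec78f6427b347aa428fb5e19af5463bffaed29cbc277ee7aa08e2355576be4540808ab2d7c7cbe465cbf2f9317c90be4188c2268e03e869a504d2707ea1723099d10f5ea692572e4b9675cbb0ada8e19eb9703de41c30d72f69a677a113d06956ee476b91bca30fc3d50f424854c08ff5f60d191c8c903ecb5f68b192262473ed0a324cfb4e835841906084328c0834eb996e366d069a749441aad2c62f40d91bb888cc9daae66e16db13ad94ddabcf45f562fa997d50b69c461897f5c75b88c105efec2b014390a1b850e8286dd437aa1bb3aee287322cfaa1c4,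
  nat_lit 0x10531ca100fee728635960afe625266b2939509ca2d7c243cc74a572f8597b5ea0f85ee0af6c9515119f554ff8e7bd1258a9f6550024d8d525d1761549912fc4dac68fdf45970d684ac7b20854d2e158a8e11c9a65021601068083c0430020a01058084004320212010a2210a5ab82d4196af0b5805aad2d5916abc3e365ab65c0284c803586b7ff5c032beecfbfd18b557db9be4477e04b22259312cc896404b1d257992cd096504b2a885f1763cbb143c0b2e8d17640bb0c5d0b2ec6976020c3d19f69420467e17c76e6498cfe467fa34011a0482da317f2089305b29299464b23260fb3d91c14162d28fc946d8aab889e49e588bdf2f2193d3529009478,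
  nat_lit 0x50902868143c0a2205130283814180a09050a42b89fae23a0792f53f5d1f43ab575698d3e869d3b6b5511af91a44016aae25a6f0599bf529ecde0c337f092a879dc3cec1e750f37879b43ce61e6a8f36479e03ce11bb10dd6419ea375d1bb08dd421bc6374c1bb30dd5c6ef00d7186d20ddcc2b12376f1bb5056a46ef437768ff7b89889a8ae26871361f6bdc4bce259053da5951f4430dee7fad3fd709bfabb9e86f813825d3bb266c8abc9c8992b3295a0897906b84312878694ace2562cb5b45acc2d3896b44b5ac5ac92d6296b4c3e925adc8d03998684158be645f340f0457cbabe5f1dfeaf980770c3b6e1dc80edd476e23b7a1dc20ee2a1c5a3b7c,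
  nat_lit 0xec0876082c021d970ecd0761c3b1b0c170eca8764cf2ee4d5d8fd8a9fc83512082963ac869a9c3b0a7f635659ab1437d26ac235661ab0064686ace88ebc3d4055dc2add15700ab7a19fe2ae415690abc055c42ae819ee0cf8067a21a8e19e78c89467a633e219e5436800fdc07d703fc01f640fc407e003f601fca158a07e4671db38d89378ce39548f9b6ed236ca91c671e43f30e4fc727c2350c49fce4107272229e9c81c78c6728031a29a50ca9f49430317bc81ad286c62e4369f250f111488442444fa2286289688974447a229911384f39680aac7ed79760ba95fc8c79a55cd8bf8c6d5c36ad014c80a58052d0298a15cc0a5605290292414a80a5e,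
  nat_lit 0x58d52c6a134c023dd58d320d996342b19f58d12c6ba1f0e4dd687c21373c9bb831c30226937089ba84dc67f53c9280ca7c9a5a2fbcaf80c5d445f857bdfbd434476e3b2c87120ecc076643b221d900ec6476503b244a61811d43286872f06b0a535129960d488ab0a52fcc7dc63ea31f118f48c7cc63d5294098f74c7bc542386fa0e2c86fc238b086fe8e2d8715038c21c5a0e2e9162c8b054581985c87a626ffc27508f50516408b195258207c066b882054104207dd373a82118b5ea92b8756a3b010d338ec4875fc3b081d828ebf4762c3b0604ba025c012bf0adb04b20258812b6095604b0825d8ee0e1a3f3b811dc30119312d73b7e822a0ee00770b,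
  nat_lit 0x60a6a39bc3a951a93524e23974fbeca499464930541c9a6e5f97ec43cf7a4be0202585bc3f61cf49e5f41539d28eb14e7e8e66539ac73d4119aa732539e28e161abc187f17ff0bfdc60042ffa17f80bfd05ff830065ba68fd46313ab7484732a397d2fe68e681dc0a80457e988134443f2fd3d7e928c8e8d1cafd111cb0bf52786abe5604b8a646f633db18995828c6807caba39ac696c34ae1a510598c695834b01a550d29819fe34a415de0af0057602bac15d30aeb8576c2ba515da4342a2058564e270c88ecc70a635ec2b208e0e4ac8856544dcba695c3b151248433d92db89c0686784e20271193ee49f6a4fb4a7dd001469f6e43c3803153ee05edb,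
  nat_lit 0x626e178d4491cc4d94a19805fd890294390803b1220d2566927126a82a1c458311b5348f08a88090a1ef12f1cb3530a442e40d31aaa6abd5c06635223eab902e1c1639901cca0e658733431841cc30e60c731c0c8511a208d3046a0235411ac08d00467c2337119e88d08ab6455b02ade44078250a55a92847849b0ab6855ac69a93181da6904e395791009bd5620af1f69a7b4d1e0636fe5e91754a00e078ede47557840f11fcccc3a44a168faa4a9ceba3957131d7d06b20ae235d1dae9112954631d115da9f254f8e2aa38b8ea9e594fa0a7ce0805a6324336203f64699262be2b7e8d2f4c672632d1ce69e784f3aa79f10d3a7dca4f3721a613ce06989,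
  nat_lit 0x507a45994e1daa0df5073a83a87976a0e45071146c61ed64c68262e931a898e84c5e26311319098d83ccb218ca14b10a64852f429381f850a6885368a03a0e35a08aa9f87ff3c9ad5ea2a93606b35bd449ec56d6737ff849a68f1bb26a157c6c3b795cb4af8a682fc3b80269a24a012468925a18e50c8d124408c7c493824985c091c56503aad7e02d5496a3545bc5a86231fb8f2608d0f99981f1c5ba208cd16ea4a32c118df92516f40f4aafa5d23e4b4bf0f34c737d15761e483ef98d75e00b326d44bd1c9b6d5f9284594c9a2bef9159effa30bc8a81e140d9165b2527a81d0fbd84a5d5039a81e8a710535787fa8ca38a6f6537429b694de0a7145376,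
  nat_lit 0x60c5ab599e702f3844fb0882dc9d7a9f6479bfc8d86001c88c38005c0030938a6fa36d80c3ce1ecf0d54839adc9359ea0d0038277a9c9cd5cf70f9c87cf2b9d49d004e82273a139c89ce003d7273d13a1033ee4e788612879683cbc1e620f330794035e81e4b0f2c07935e706ca0580252dbcdcf0aca02768439e09ec5d26d13c7044bf4a37278de33099e368111266233c6b8d10c73167ff23ff6146f4ffdc7fe52cd89ffa4305a4c4a15cb99ae084f450a0297a946d4cd6453043358941e43070181f0c0d860ba177e18200c11860e8304e182a27f997278b92e5c981eb197284b9503d472e55172903e0e201a100f080804044200f100808034402c2012,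
  nat_lit 0x7da3bea5cfa6609ff7db48d8d9888efb660636a50edc50ce2882601389ed40a26614714128139c500e27e25a682a146292e30a1bf988384fb4a37ea3ee738c343caa81b5053fa06f0e51a81b68a8e9ca38ee924cdc46b9235d91ac6361146b4972c414e28d782adba35a8639c049118e50c730638c31c218db8c6ec638031be5ab72d5896ac2b5690541c84f56ad80a6a56752d5a90ee0877227e8a1de8ff46080b269d9fe610ede87782849141f89f4e50812843141f0a120509687dd9422a20440ac3881295724a6c44bd12ae394d84abb00a8142ab9ba9c7bfb140b42b2215750ab4856342b00d69a0036e30e8016c9b0e4d78ca0087c44009dd3c07d13,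
  nat_lit 0x57f784a6558b0b8505b252b0dc26b6b64f583526124c8306410061499070a84a640c0d5195080c814641409539392d2b1c4d034ac60900d2b0e95894ac09a491656c92ee60f6471b51ace252514cf235913b52cd322b1204964ac305628049915844ac3409552b0e1588130c6964520b4a9b7409c8a6ca3d748141d212ea6e62b5e440d0ad5e56ba2b5c15ad07cfc56a904fb95ada18444cea1fb31337899dd0f75266a1336099c84ce05346a17bd0d0e0b67582f46f3c4050b0635830952dd499ca4ca52661f544f142361247481e2b4a6aa9053399e0e354e664733e06f19ccb0e64a0de0399a1cce0f7c475143bbdc51c5008e8a4a2cf5200d02d56254f,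
  nat_lit 0x73c3b9dee4d8d26cb3a6ba5e4d0f1474c4730aa1a3d8036c00f600b9b9544c7ec01111f3899557ed60de9045a9cb68e5c672e517c19cb72250e2f75397617450e5fc0afb39789cbd4e602663939829cc24e6187303398b9cc38e63215631f708a26877323ef7398e0e955f196fc8a5ffbb6f8dad5ee6620a4335a980062f8c265fe18fd028b2540d61d332fbd556ec3af63880ce05fb8b1a58831fbf739803b1a5a8d2f46981e1411a665b5d95014ed0682c71f65a1ae434de3ebf5757b016a470ac6877a15ba48d4a84da803a6f295552822c2df43e2a1ef843002ad70eb28934e34d61d7b1aefa47b533f237064545a90710f5283d25ba021ec133e8a41f,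
  nat_lit 0x384e1c260e1241929384a12bf0964a708a38489ac2a50f705117c59ca0f20a30db698c154144df06ee9218188bc3e5f74f03e981b045e31cda7035f825f37a2d849051713641957f1164c85948d5ba2cc9849cc24a7fa116d00eaa0ff414c4aa6bd1a758989a6443b4cdd307a97f04c20a5fbd2fe8627a33efa60fd3088983937d29ad54e522729b39491acea2502729d3919869dce55e72ad39558df941b4672a4395a03624e57072b279b83cdc9241cf36e79b4b71f925d0f36479b1a9b85f42b0df66932bfd80711e8fa44007437e1d39cc9c493b3c9d8a0484d604679ec4b18f3aacf3a81202b176034cde7180a1c9c49eba2d1c35548bd7324e4f0197,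
  nat_lit 0x8fe88f22c677ebe677108ab07dc416e20671113887c5ee02f5b17b50bdb85ecc2f6415108bd645ec42f5e28a0145109936512d289a144e0a2785146289d0ed15070883861b3598a6d071c837e41bba0de506f513e30b0e82dc4b04836e50af6c4f6c57be15d0275120d1495dc4ae6257843d3095ec4aea06c712b8c31430f4f338519c106d4a176d337b19c00b286670e0d8499c2012980950049f024e81268093c04a3025481288094251bd1d7d946ec67d704dd8260ccc90099a51baa7a498b1cc5904e0a3161d8b12bf0762c5b16498b1887d0447f26281313252b1366f2625ca2406ce332c84305158a6ac3e2bcb2b0e15899177d0ff82b11d58b47403,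
  nat_lit 0x5d80465d575eabafa40888132cae5681065d79a145e038cf5396236ba499fdeb11ce5758bfbc1ef5723c65260292f84bf2a4c6526226c9caa56a4bb525bc5b0c837aabba02bd23ec04e40abbd382b89c608a06abc84048432f04e5280814042a0221011c8092403ca02304e64272e8591432e44e482722138a89c6c4e38273482553ef15fe5f0103811dc5d395c41023680f9c0a24fe447f143f901fc58fe3c11453f7f1fc74fe247f09012da9aa62a5872c7088cc633d250e110c4181117e0907448292417120ae1e3248302411120f0831e483641f9a0fd81202174b2aff20fbce85a55f141e69cfb41c1b1fd53fb9af9fd07b8392b2e2420f6c36210a86,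
  nat_lit 0x19800c640674031b019200c88065c0334853f80c98c3fab1c44b1a29d3d637717f9552bac6d16384b1b925b205ee496d84b5525a992d7096c44b5087ab92d608d8c46b9877e91ac48d7846b5086691abc8d9446be66dda6a8c3f22de0f710d0ae0154a6e21957d23887038e81c660aa6071e038bc1c640e35071e838e01c6e6150b143d41de2b276284314193fb8c4ff6288a4d66069900ef7e21b6f464944e65a8a683e575fde6c6785d40aed0141fa13515d18a0edc0242ba2e5d5fc4be12e2281ef0e168f7d8482e702b8b5f890c5496455294ec7a7ecd48bc9a1429721ff4cae0252ec525a0c9da0894fc9f81b8c5b214a42b2008b6645b3a4790aa39,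
  nat_lit 0x3bfd1dff0efe677e23c0144ba4efd277f13bfb1a87d6a24f33d79ce284c4b2decca3548416619403ec1379394c8e21bbd101a880a444638d42f014749eabd92e0708f8f3730249f86070315248a9440df20489152a48ac454bd259092d44885a4b30859890fb4961a4b3a069f163c92e13d556502d163e8b2040fddfd8f16420b81889c4a59e92ec400fa4baa2a628020497b0dc9c6c56929e0c0e167352544768b492ba4a6cff7212736af2bff562a7d27e57992b84793cc8f31e812f2dfda03ed01d574cac9d124c511238891d3f84e4e97123c563cc790d5a3aaff34a07b67d86e3893ff4f6fb67cc269c134009a304d482672133c099b84cd02684134a,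
  nat_lit 0x26d2136709b3418e787c1936783fb64da626ca936621ade30d886b60c37061c030c518670c32c61ac30d257f82bfa55fd4aff451571be213ca8a2b74f2b2bfb03c3e5ffe4b3a259d82d3a3b7b8d6485a69857483e74c0c9db3d304e66d30aaf97808fccc1548615e025064b2ac3677c253d5e9f2d8be3041e03e5cc38c2f8c55b6ab06b8e662f52952e222a483c9ea5c958423d49d22ae914848a8a451d22bc42a20744c544406e691530ed68e0ad562e8177068fa5e2d82680d006099aac6617a0195e0ca7065a832cc195c0cab0654832b419644241a20f1106c88302df2a20a110585bf9441d220b9f1dcf8f47c75be3e9ce4a105945ac39c9cb312d82b,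
  nat_lit 0x3f179f880fc667e243f1e11bccfc5313733f1b1f89c997c4ca72654932da1ee24ca526569330099664cb119180c8886458321b19140c8906432321719100c87060d10d6711278c18860b6305318250c13060aa305c4ff627f6cd8c89ff02b32262953fcc56634ff44593c947446d42514928ac94664a2f87a19289818724a403f761fb50fdc46c713f6904efcfdc87eee3f6d1fba036081afc079dc2fa836001afe0d7986bdc35f4092934ec9a3e4d3a469d034e61a754d3c069dd1fcb9a7059a4b0dc493323fd3125430dc63633a4a617b6b266940172009900460f3f400e8ceed005080324012200a8c73e5eba31c88bdb4c738638f88a198e34c7483c85,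
  nat_lit 0x5c202dc816ec0b8805b702d0416f00b8a05be02e0016c80b5205ab02da016980b4e05ac02da816b80b603f9b1fce8fe547f2c3f3a9d22cfe607e6c3f93c4e0035dd0be80d7406b6435d41ae00d6b86b4835ba1ae255b845da556d494ec3bd3aadb07f1e77923a02aada650aed963751dbfb2dec2717787785bd87250a8f67b7fa538d95fe7b26678b452b0f0b33ea29d5eb0b69253a768c733f478c37d3a889d373a0e4586d3a800d35276213b309da04e9f276b13aec9d7c4eb9276313b011fc830db47f023f991fb65b5b3222a3fa068948fe281ba3f485390f14f87b85a952629f8f708921845401edf92433783b3d5e53e46c5fa476327c692c66c6f1,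
  nat_lit 0x23c511de8216a4778878591df08ee4478c143491e08f45641bb541f208841c6d1729305d8395c8f224929166f0b34059ac2ce214768b33859b028d202e0c346822766c0d36059b03cd8226c0988f79b0088eec44d86802b83619ff0b1f901d0c7dd5981e0384706a42ac1a01ed5cc6ae430e0dab9410714ef035715aba0d5c335411a9f0d4e66a8435371a9d0d4ee6a860d0d9aa0201f9266a9244403ea4dbcdc534cebc01a5fc1481af67c8bd0150968fcf678c2b70d96878f1917e78bd214bfc05fd42fc384a1cbfb45fd62fe517f24bfa45fce6d58be019ed6728707f90371963014ff1f8c063c3a649c8fcd768d1bf371f778285f611fbeeedf3f2fc69,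
  nat_lit 0x24a8bfde1eb10e7211d6da3978d84b0e208711339dd8f20c78b8dcab12ad8d826a3f5546b1af115d6c78c62153004a361a32894848b10853582909f6216452f8eb72799e3cd01e6a0f30a799223839e5f0f335130f50a9a85809f0a38dd50b3459c475e6a15b50ae0d3264fb703738a8245419bd42da7f4d5db7a79d29ec6bf33cd11e8c8c0e679d22ca99e80cf28458133d389cac4ef88efb23d2a3c191e007b811640a3bfd1dfa807e878d921209098478e2429121082458483e2423121108ba445c422e4117408b9845c222dd916fc8b8045ca6b17b58cd92bcd6298df3358b48f36c95d5b81aa645b9ccdb3d54b936d11c298e13f23bac7d8d50dac33e,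
  nat_lit 0x5321ac58562b0b15e58aaac5986a82b1684d8dac58d7104b87e8c6dae1f4f538b16c58b89ea6d71084c1e224a112308902449222450b26c8906447d224c1121cffeab3036172acc00fa3658443e279f460f8ea0c674ca526520350315c74ca0264c53274993f4c9ec4ec2188020368621880b4407020241015880c44084203a884196a783cfe5aa22d5316a38b5165a900ffc96a693e51163b2cdd0ac3d3e3c8751398927c74f0029f2063f4318de3742c4ec63eda7cd5427cc7d850a1c2be9f8ccfc5f635d1fb344ba6e6634653096e9f8b2c6b75b02a9e8d86fa5c4c61bfa9e68d67ec37a8d7cb0e0646f6f0b058a4145b1e858b5fa4e7c3d09d6252cd59,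
  nat_lit 0x32d89d630eb2875983ac91d638eb0a75893ac51d60c1a0c0d1c068a034381a450b1306850340c1a2c0d0c5c16afeb57f52bf9c5fd0908854b54bf9e376eafe88d4986a4035221a8cc0e426a3e351c01c18d46c6a482ace0f840417a55972acd92734ab40557e2ad21567a0a3900f98181c10c5ff7b183291f93feea4add006b6cbfb65f59ba6d98248f2c78a4fc3691de4b93b6610892e7a343d221e8dc84d6177a3d189095e263606357e83bf1f58fc06cf9130db99310c510ca693161b42512f6ad5160732b5741d7ec0e4128683a78839cc0e81e9485c95023a8123409212ffd03d8812940a18d4f523d6cfb06796897059f66493e67df33ed59f78cfba,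
  nat_lit 0x93cfc0aee4758dae36bf137cce27c0d7e75b73c05bcef5e8da246cea367e296a8d9b46c9a36a11b308d956463208643f04c8c164621d0580be8c8c32326b2329f4d88754689ab22da49dec50070c23e9e1d846c9b935aca54b094be95304a9713b9a2ad295074655a54cd86c482f160029ab217764cbf07a372eec509bacb803beeba8c407026543411b99585e8d0824391cec8e69ea6ea18d7a9ea4a51e186077772f13c301cde8d63c76bc3376a46b2c7997480b5220c852e8f432d985a8df755235679ac26011bce67b421316379d9f74b255b3abd1d5c2257270f13ab91d5b0eaca755c3abe1d5d1b2e0d9688f13b5e74d6ead18d21cb9ad904dbe05c3,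
  nat_lit 0x55682ab3155922b3f8b3627b42344aa137556329ea84eea4a04012390f361e7e4a01208e9283821570f3c1a468d2004b2a34911a47c36c4691234821a4c0d248d96a8d463c53a35211a988d4146a9a35391aab14af7ba4bc881bd52dc1974b935038ec98e9753f38c46297b330ba24af3bf64dfb302af64ee4bf654df26f49880ce445ba03409749680dc45c9555ed0165808c0660eb6c75a93ad81d6840f1e70cd3ad101db8eb5a75ba0dc286c84c08e74d93ae21d71e257e75c334829d7389ca696702ba39430a27bc07bb4adb20d8e27b8657f580abef8d103ac6d080dd446b9069f01b7676ec0651ec00f4797ad0bd754d792e8bb7a389aeee4814f495,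
  nat_lit 0x64762a0dd82bb1bd5647113fb591b0c8e55041b23ba0dbf1bae827dc6ec2523d1bb28dda41afdf85b06e293b0b047e0315012b6f5f44aa935cedec780e2be084e6b8735839a6c4a3c9a6e734839a293498e694735e206c901c4e6d4736039b2c4a4449207362014b9cd98cd4e737d39c0150ace70e737e39c71cde0e56e738c39ce9ce48e74213e539ca18654d6c0739f39d21ce6591743ff44415c6f2d73b83c81156aae79cc88ec8bc7a50bd2b81f12c5f45ac40155d3e30b5977a551a1024fdb039a93ee40e55ee8b15644f0f3dd3647e1156679e83cf0d6972d9eb79e3b78b09782f3d279e6257b4ea36727b3a8e9d4903c3275173a8c87840ea402caf,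
  nat_lit 0x8b22a7e393f209f944fcb27e153f109f874fc602a4017450afd05cc02e9817380b9e005982e54161a0ba05ecb446f97b12b75b5eca264bcff2cbd8f5ecd2f62c96202401257d12c5096024afd258312c5896144b0c6d3bb69d63cba5cf151e2aa22cfa54a3b16d3d06d647cba55b94ecb27678a6f82ae513f514dc53b45162b5006a710d568621576d351b29db4c4da5f6d3230c6cb9fa5cfe1de697410acec00a70e7215a2cad645d021b8891f6cb5ca9a0f5a7b2af81ae40b4f966b08f5bc977009af25d4c3d74976035b125d092ebc974d0f5a4f17c6b841eaa499a5858b0b713ba8b0b358362c1a208fcc5b87c50b20ce041b172858edc0829e98cdbf9,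
  nat_lit 0x875990ad82312422f215e10a8c855442a7215a10ab9aeb042133b1509d4422ea036b6ba904599aea0d74e5ace10a642236b598215fc610525c442a45acd1f5a4ec66422956dda5394d825179f0e539b005579a79b114310a1b050cc282b14380a17850b8285902ef8a180849c423c8755908ec847c4239210c108dc84a0424285a5842b8216410b6085d042882140109b08560429a1db8455c22ab115308aa2455414c31152881b643e565c3b0bed9704fd8b3a9a42eb0730a753371728acf46712cb7665bc2fa21ad0cb08f0011b5a162384948785b784c182614130e098804be825f012f3098204bf9ad161cf565c22e041c49ab06e6de3b8909c592c30b,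
  nat_lit 0x5b8dae0923176b81b5c13106a0c3d2b81d5c17178cd7fdebebb8daab18bd6bdec61951b2ad7a9761e6fd35d1b2e8c93d2e23191100ab07916a421e2336ca5a98089e18a5318b0e00c663263142cbd0cc08c620630e4c462620d0c5c416d37df26200da1e6fc88adca18e64df928427cbe278edfa3ebdd68be83f4624b350081491fac00900a444a657fec5f153792affa53b72bfe0e23e98004bfe031dd2ffc81028be3a6034f3ce98024b561efd0e07e96a926a023ebd2d764d523b29a07a4e628fbdc917e12e65af7ee6434b5fb5eddfbcefde858092459556deb01c580c2c0395558b00d580445f2d67b87ea759f2ab79c8466b3e18c049087167cc8f77,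
  nat_lit 0x4e922bd4c226642d92467c5ec5017c48df4071a9df13cb2127f442e934493c9a7ff98bd9a79415eb866731b6da783d3c2877250d24a06450df81a2c4f0e9997e0422f34a94223214a02d2cf4957edc05824e9d24d05b8e2dc26310614435b8a0385900ceb71137e8adc2e05f4f3ee817b40be2030ee13e5f2d40609fdbf144e1458adca0893e28df5b92c62149596b72249bbadc80f2c6b69e5b4d0d2542e1636d38c4385bb121d6b6af28ecadcbcc9de59f05b961ae256e68b73137d79f3a64e40f30e7fdbaf8d4f70d130089821ee3a03baf81e93a6c9cfa3b6101e57f6db2f062488fed880fd3da91faf1188a8c4749dc16f96af9b8c4a462595f4f0561,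
  nat_lit 0x546884e797536266f5e5681cc637c2bcae64a0324ed5948ac9b564fc41795946458556552b249595caca67fefc9a00a0a2ffe2428da9b4da146852070f9bc925ffd8ffe9876a3ffb88d52b573876b11a51917c7837220f0569488110ecb2209110048814441102959108205bf27ff792c40f05ad9adefd5574b5af62b80f59825a512cf896884b4801e612d00663c03ef259e051324ab2fb9f69dfbeea1b30ed981636c365de4990fba34237211b108ab13f33a89a116108b87527422f948e55ae03a2556b4ab5ad5adead6256bb2b5795af4ad721e2dc30c9353caa87873826dba31a23f5d1dcfaaa21f28af97162110fc9df9ce797a512c3f3913e5666ed,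
  nat_lit 0x412ec669d78344f335e0b9b0213ad2bc1448e4910564f5d02f37e4336f35ffa2e66a571c3ff3a4950d81b680eb40855938078b68121843577a71cd548bcaff45102a880f440b1a12e287e02d34404a20891030881e89942547164eade056eff29b46265cddfd5b47c9df49ed0141527af13d989ec44f5527ab93d4e1f444f587af1ba8b1b016fccd7e6819e85b466fccf924916694f94835db3e4d44d54196e4aeb3e4a03284f9427ca8515a28ab4274418352bf7821110f1857da093aa8ac106c254383c16077d016027d794cf202bd635ae9c593e1f078042d727bab36a79f0e0f86c6d390de59f0e8b6505b2403af96c78b64c5b2c884696c6cb6645b21,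
  nat_lit 0x5e022d21d7804affe6752b470925bcce9c3dbeb3a684e6243b4424da1280e5a713f9424a9cb0091fe762180e937a35d33701cb80c9c47896c41019066c8ac61ce86474203a0c9d0d8e836742804a49d0e0389e742e62dfbdf9db556f9b17ced0b3c5d53ef9d979eebe74d63c4b1d458eb2c791639639ff58ec2c7212f3cb1de63c0b33e19a02c8626356b33cd99e2c6aa6681333d4010400770038001fe14aa007400330021000e4007a618c2a03447df0bde348d97a65863c690619abb0c718610c303587fb0c1d7c5688f88d73af8a177acc2fd03f8a8114ea3ca05450291f7a14096a04945544595d737519295cd52e6d9363eb9af25bda6c39735ab9b1,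
  nat_lit 0x3abca66d1333299a84cd11bc0d336099b64cd7266b0b4c45a6c2d39169d220f85a682d2a1694cb4be5a6055d5ad099683693f35a0f2d0895978b4284ccb9e70d32f057794cb6a65d532e495bf179ca65c62b9a99760b5094ec9272c596d4cc22680d340a99874d0426b2098184c01238a9301c98164bfe260912fe898284c0e1230a0b5cf33a8afe45779ca9515e88b00457b22be2472e4649503bad4fcd9a6b4721f769b30d7740f45e55370cbf554ceaa6b5536a449954c2aa5e3332aa98d15888abd4560a2048939e8ac28a3e92785159867752484927bc93d249f824f8927c880fa49e424fa12798fac9139e54312a16150ae06a102e9aa1462e5e72c5,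
  nat_lit 0x51d48da154748a3a60d95c5ce547341b0f51d128e7991d6ce29465eb38919c60c63c54534722d9c54ce2054670253d51a4525018129d4dd519830088b9daa31951e8a8f65475aa39151d29aac54772a3994a1685316b6530505ad88d6d06b671b7a9ad90d6c06b63c7734ec144e6389619d80ce5f675f53afe9cc18ec18760180042e57d81a30007933d34601990aff7d75fcbcc21e472f7657de32f89595d2df5732efb2b59818acdc0888298398c1d060ed306f183708c9660d4307218380714a81d70d00ae88509f63d535bb1213f2385282ad925831741f33e9dab9259989856ecef9a66334be675f75a999b91aa29739d222d4c01ea7ba429cbd3255d,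
  nat_lit 0x618030d018540c24060d42c14183c0c19061603088c8f29e983227999b8a8ce9d5d4f47151453d2a9e9c201f100c464922fbc2016100a8807840428741900cdf2c2a08e7cb436ca6456ca65950c1bc27d7768c69f3ca51e5305f571307132c1e504f272265e29009e5412bde95f9379b258112c0095fe1866257ed2bea95f362aa2a1c18aa2c3143cac1f5ea3676795562a6315618accc31259ebaa0c18ac0b0c262b53158d8adcc56862be315e58b0872fd62b89a8658aeec5808d9fb15d1510d17334401aa07550e84d7f543daa1cd50eea87d642330c0135f25cd96421021ad8b28c83f641e3212176a015ac5daa2ed6176b5140054e7aed3567f6039d,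
  nat_lit 0x107c6bb80c0a7b6561a846bc41a10c347084898a1586aa8b671a1d101401ec6a0f98d7983d11861ec35a8ddc99628671eb7c62d7129d0590fa5af96190b2209c07adc7044d1b82d9c2b0cff13c51c7df422da011d5ea804b1545462be75eb204a757ab319d95eaf2f534ac0455fb2afb85e3cac0255f22b05157b8ac1c5606096485fc4c6270e3c332719950cc96664d1273199587f52c7074d4da6a5d1a07205d1e0023400ba3e62fe12960114c4a6c1f8e128e894904a542530864bc3250a3005172183094608a2dc1b7528bb14610a2e8517c15fe8f1cd2a491c7f66daaaf9956a8cdac57d0b3545928408571abaaf9ddc4609eea6d44b88a5c458c828,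
  nat_lit 0x8f2a8d05c181269da6d2e064ddb4acda536d2c2efd63d0e732f1f669f3c9b5fa21556d8c36bd1b6351bd263c146e4d4496a8835d7cb1de433d6baf68d9831ddd6c6ec79a628f312d18f2b1b9754a731e498a34b4d88240c9319f12b24b4826645e79946104cb8bd03dcbd8f56c7a052ed31e998f5c941f4aa146e658f58ba8763dd13c758f7cb19b63d8b1cb58f70c7bc8dcdb1ec98f9cc7d02e05b1f198f96244f56ebb1f484c72a5015442b2170158e5b046377a13b56acac6ec5db7b21918b44c59e5864b165d8b390d9a540bb1664b0dac5a65df796c5529681a0534dc46674342269cb88e02efb551e6bbfa5dc612c4cbd528b3b5dfb17a40b66a4c11,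
  nat_lit 0x64570ff9cd34282160e7f95c9cf8901ce03e230b02591644bf58de4adfe53424854757e9a6804300c91c193010ccd4642286566b47a78093c56d6914f133d7e63f8236351ab12e009c41cac206d7bb8825c418bd6f837246ef1fb3b25f27120c6f09c3dee238715db2335b79edbc591e991f1cc8da23df2775191a8bcbb0a5829d314e34a71d0ff729ce89a2ca728539629cc94ea13c609e344f1c15a0510ae9e3e91fba2119eb7e9e2d1c9b0e4a4725c39401c9e0e4a8726039270a55438153e808b924f9d27cfa23989f344f989a9453e5e6bbe247a123c048670f2724741238c715648e72470123d908301309420d2103d07668410420b20ee627d68412,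
  nat_lit 0xc35a5330c9baaa052f7ea064933d05f02873d26780ba2c8d424a6007f1dc80c6caf269f4821c6f32592d392f15f9ce4b672683931c49f4e4ac72602c119c99e45b922d63b9dc8b7d82aa132738a63054916fef16240d0b6f798994ba902f732065074625ef3584faea4e21745d552ea997544bab415fb155697564baae5d4e8859972d442c25cee24d0872cc8dde49912e73973a17c2a086d53caae3097a9c5b2d64a42f5719294c9463e499e07111de88f685e9223a0e758196f1b3ec5144e6da7b4168e4474699882d1c617eeb30e1931a932500ebb09794f1260a9612d9d63c6cf6c260246bb097191591bc50c71929307582402b43c18eaa86ace6680,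
  nat_lit 0x5c318d7a9552f1c891f578e3ace6863ea23556b373cfd9681a540cb9d158c8a319153d5e19100d3168199117f977cd34fcc6fa92890c2b555c8faed4a67bebc0109e40083eb9afa0c25863841608704ac56aa63ded45409999a3fb21c551fdb9f6f821c83fb0711927ee86b027a8e12ab882746a5e21952ec28d52dc468b96b2baf8fc3c5568f0863e58a0f4c166a7cae2bc7c8aae34111a0c8d083369d9b631a128d0b336ba3435062051d09fdd1d1bae8d8608981971c21ec114746f392742a0014fe0a7c053b429f814f00a740539429e4150425e2861a45fce5d2c885a114d4ba4c5d072e92098ec0e8e977d26bb9c7092f02978a8ad4a5df92f1c978c,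
  nat_lit 0xf10430843c281e1c0ef38782c3c101dd60f078383c2c890ba10b1a059002c70163a0b16858c41f5a163c0a3e83235734072e64db42c10d73489b6d25d99760cbcb69d488c8f937961b640fff387d8d2e54be46055862e0874043a421dc10ec08738438621cb10e48875a4bc2e2d77ea29ef65862ca6ce859030c4596b6a5fd026d01378099804c802620132809a804e00269013401124089a044f02288114c088c04450221c1128088e86ca0ccb86660332586cb8ccc8663a333a19918cc84168e62bd124398b10a93a62c0015395238c57c5cac6245980e536c8c40f7d752c6714672fae70236beba0ea5b1911286fae1d44aa41da10c2e89594456a2015,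
  nat_lit 0x5df4b8b28aae2e2ce1a4faac9dc58c348565b938acd22de916648b9a458d22c291692f4a245c522ec916b5401aa0194ff717232871958405b4050d753fe0df4cdc9209c734e7a6ff137fc9c4c8c09a6fc9150a9c53446fa569ccb1c95b123ecc78fc28cc47d024c9243f00ed0076403ae01d4c0ec0075403a881d340eac076c7c523da85f154f89d7c53b563d4364f8a89246be2882c100cd70aff058182c0415fa0afb057b82bea136110c8886284344218d0a3c8865043381464862d84f9c19f80cee067b033e819e40cf006720338c19d80ce887ff0af24dace6d742a059b5a4aede541536bb1b5ad7f2abc6b78bca97e586de4f772c2430dc17dfac603,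
  nat_lit 0x2d89b8d814ce4e3313b981de11c6bc772f1adf8c07d4ce2a7e94cfea39d9176099203f58a2ecda9208e2e88a20d1756094b04c5ea5c81054e1ebd482bdaac1512c0e5fa61357afd41c6d4342f45c54810dc6ced6f73b96b135c4aeee27734b88ad34a95c696e864d080cc6b7a25615aa4a33e1a919177c71ba3523dc6e4e37019b59dc46410299ed581b2c0cd3452b0354d11268b138005f00202bb8fd555289f7f4e042aa4d69e89c0d44efa273d13c889e644eb8e2dd13b289e144ed1a3f0cb30658932c691484cb0d116d29f81964c69b665966b72b5b809d54d6e86b7132dd44decd6df1884c77442ccc16560b30059902cb816580b278592c2ca81650,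
  nat_lit 0x5a922d49a2318a9a48664460ccbe5a283351a10b19459ba2cf5339010300ce3a671e338999c68c3b86717167fb504859f2926420523503d09c240a36a0c0bb60e36c71b838d9105e8519f126f38d48a2dce36871ae142a0a0d4508c284486658a12050762856141e8a1321d1640b0205943a20817040a8204f90274815c40aa87a512b7095a84ac4256d12b4895904acc256b12b824ea3271c4c1744959fcdee6ae49a63f9c5a027125a453a10628504a8a70453c451d402ca8a678a39229b85af42d6c86958a9585ad229a916b28b5985af82d701f6a0346c7d9c3ed21f618fb2064243ebc1f630fb124072e3585402b8c84d25e89d371ab1a48c63a6bcb5,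
  nat_lit 0x5b3a19aad6cf221ff5b0dad9c46be0b6245b3d25000485a8185412814101049230524126a0960f0188252374eb2fd03c7acbf359610f5a1e8e8b2c114418ef747b0255842ac49562c7b565591886a8f6a0a08e395b39062673878a6a64a29d69c58886c653aa1fa2c5c04e080650b3818c49445942703b381a8b244e0527042026c962bccd3eb99b5f8a2975d20e2bf1332a8adf256414b1418db097964e9d0b13e36df1d3c98cbc8b9a3bf626eade630221974be962fd3b84e97a4e3b813cd3a70a03c43b38aa71ee22e6de483abdc51ee1ec89e633a319bd8cec4da35f862186545b4bf0f8db3c4df98d08c4034ebe9518d38cec5cf516c271fd8d04c67f,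
  nat_lit 0x13aa09d104e90275213a709d084e7c273b13a009d3069aef5243c9dbd48d0fd287ea2aef21f990fca6e1900b5ab6022f32ad7d00acab5f8cf78016f30c71826968c673fd5a4e2d2356928b48f54a42d2623042b496662610409988ccc4a6621330f946b4cc3b661e09f350078803e401ca013100904fd74021200dce3a3139b2859bc78a45e8738a78f82ce8d01dcf1ed78f748bdcaf9c4c202be915f14644e57c62be08c852209e57ca1c080e01c7016380d0a8b8e014702c150a1c0d0e051213679fd590a0c2050ddab2128d22a1b91641ab21e285814298a13a50b8285b1138ca154509a285643ef4e42666b739011c82ce38e7214893b9c730e42c7204,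
  nat_lit 0x93e84a06df8e7164881fdc592a2c9903f893223420d03663bd448d2a28251c3c6ffa48cf23875234315170bd742edc2f3c17a8062885e882f300c400bce84cb6181a1cf20e7b073e839f81ce80e730738c39e01cec644287465ad10aa7b2db295f60d4fe5b505df3b5a0c0d1e9129489587418fd866f608a879fb3d226c91320e9d074843a581d230e97074a83a701d3c8608874c1086c842b33f79e8e010c2842c42178210108668431308c18450c220611600e098430c20401dd3087184256548b2a6594e24394ef6c61c359501def9653cb29012890940c4a1025160eff894184a021df312870944222b2649e324d992b8c96c64a8325319264c96064aa,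
  nat_lit 0x56c834629a30cd17a68b64744da2eed16f4baa34609b22ad91956c536444c1dec0b25a031835c21e2c8f3888198318c19460cf8880182f8c17860ad30621830137d60eb354ba03b2d52eca96d8c0eaa5be2740a97d8287ca1c9fc10f992823cc606a303d04769165405f406f0036101c100d8c06d8036a01bb00df21506036e077883b881dea0ebb077483b9c1dda0ef3077c03bac89dd0edb226f113a089ba44e2226a11368889e421121e810f484e0a43ce21eb90f5459d043e121f110f653f4916470341a238d3f3b0a942e7a27e60bcd68fc1500526e540c8e3bd8500327fecbf98a0014ffea803868f434451a3b0d1d21b590daf1a360d19c68f03470,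
  nat_lit 0x1ce80e6fc73b439bc1ce18e730739c39d487078e7049a664ed9277693b889db84ee7277493b6c9de02bec1eaa0f5207ab83d601eb20f5487aa03d441eab0f52cc0122b89231529b7cf840a6d83f201f04c411b1713317c175dcc5e862f0317618b8cc5d062e7889818ba9126ab0f25caa2e58172c48fa58cfdae56d73010a8c93283fed64d1acc0a767926eca1cf8ecf47deac4b2875483aa01d4d0ea1875383a881d450ea3875323aa878ac3c5c9e2dc1db95ffdb189cc234bfea3f469499de1b922c14f88bc3690892b1cc076aa111963a05775076c03b001dc00ec3076603b101dac0eda859683b39e6c0f35b6d23b9a79e4a20ea73dbb3c919b2f076d5,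
  nat_lit 0x7e95ac994e5f2fd2c74f484cf4b52ee9f0562805865eba6b7756e01a00c5725c2cb0529cae4edcd1af49230ff18808c3f014cd31034446cc3e261f530fd06cc80ed66c7a2c3306c282c1e80090e0f858301962957a62003101180ccc3c45017b0fe987f8a03e16659c7e400580034001c000f000800026001200084005c00287cc7492bdf30cea014f9bae504d11e9f2c130cb8b85fa488ad58ee536c7572886ddb3346ae50c48befd22501c298254c1ca5fe5303c5bad1832a6002c9aa982c1b500da406c6c2c6c1b340d9806c8836181b260d96863408a70451b0c6b114808a3845022287114408a80f7b87bd33de79ef10f7a313433de39ef2cf7987bd7,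
  nat_lit 0x635ae3f92ff61bbd264ea7bad55d64c8f55762897573f4b9f945ce2e7d89c54b9f431ec138f6326663d637ba2fdc17ed89c5c5351a615847e8a6905fb707aecacd09c283800a709c6ebc94410ac18dd3d385469eb4a80253a129e495024a7722e2129f495044a7aa53f8caf6900e48018af5105c514f14802a0b8520186ccf132701e5c26e22652131e813bc4c830ca8132409932072d27eb81c9c5561e81f155a66093d0419822c4675bb9b33298ca846dc6667474354d68ccd066691e52427dc13f209f504f8427f10b7d09ee04f6c27d813e24f700991d3db09ecf4f6d27b445f369ee48b1ba7b718920681b110ab12618928167562213121132571b17,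
  nat_lit 0x12f8097644bf425dd12f2097884bdc25f4865289798bc2c5e052f101781cbc1c5e032f0a1786a21962fa120b81058082d4416e20b31058882aa415320af1057031d50bcb0c6c06390262618dc0c6784bc031a618de2794ae43dcdf20b0774e18c585d19ee9c474e39de754c3a9b77530b0551d4c3ca6154f2ec5bc4393e98114e3c271bcbc3e30ff4e35a71c938ca9c7c8b06a71d016580b28058dc2bd416440b20058a82c38163a0b172cde96700b38459c88835166e41626595f2cda441cd71a88d450a98ae33571a0189f50f52e33d31fa99bf88de2274631ea69a3584d22748f7d4b09d4f7a068e40cda9a0a55901fd84976aab268d4392e91565474d3,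
  nat_lit 0x46332315d18bc8c6446301b64518a68c59462a0c87cb35286ef6119a20e5846c94556120308d6356ac23887cd43e849e344eb5278f13c809e2e4f11278913c609e884f48279b0d3989e5c4f34279f13d289e784f3a18ba0c5c062d0315718b60c58062b2315f18b10c5e1797c8c5065cfa357de11486e0560dbc224eb5522ad521aa90b51900a428521b284a5442b16ad510b290cc26ca13c409e304f5827a413be09e504eec279d0b7b783c3c1e98e2abeec8b412fac0ab56a22b760f961bc6084304418140c0c860583034181e0c118607430384a4f25289292a94994a534556d0a96948e27959b23cb34c599c2cc9166b8b358599a252196644b3451071,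
  nat_lit 0x862808470424821281090084784228210f10880845cdd8c6ec2358bc48bcdd786eb900ce9baec2f863d1937ad1bd1cde9c6f5e371115b78dea06e3937a61bd5a1c32031f1d2f0e9882af63a4f1d290559874b43a563aad837e932ba99684cafa6580ef10996a2daea65916f8445290f63adf156f7eb7ba3a0aadee0789eb7bd37419c2d0e16c70b888ee1c2c05ac46b2388ed17a0a0401015f6805407f9fcc2d2b657ee3f98e03fae78f6593b36699b40bc774aac336662f44957766d209a8d74b073575b49ae96974a68ca001112e938105a0a333d441ea0cf50a7a8a1c0719b880e9e3801330644c8c84c44268212f1097084d90ead205e1094c84c02135,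
  nat_lit 0x69f734fa5a7c01c8b5a1034fa99be2b42b69f1b4fb15bb2d70050ed35be1ae05180651e835badadd8d6fb3a6ac75849a50b55e66fe078bd33bacdef88ef2e570b77a5d4687f01752a21705d332e9d974c4ba805d3e1ce99ba34dd306e9a374b1ba50dd146e91298d9ba3c78303c091e028f03878043c101e0a0f0703f0e3c1231791765cc1ecae292fde885d170645fac37a1ab918a0ac3d2187db940fca098504928229412ca0b0504e256fa0e84742483a441c1a0e51072c838041cdc4f9572c8af8387244979a4cfc531353de3fe2578710e4a1e9da05e011823d2340ac82bf41efe818a40baa06202f96b2763fddac9e50b643d0e8ca1a16c43e98b27c,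
  nat_lit 0x485023d811f008f4856a823f011da090c047d024083dcd0c2d0f6b07b803db01a730f6687b4c3d9e1eda889692f38b86d112a315a18acc375462b7315c17c1c3ece60042ffe98040c0183e010c5a9800c40e710f33dd30785cf7507bac38c61ee6cc48a718231561ee8a188c2081104b081f841102086103e8824a1892208a2fe2443b4bf745fbe2fdb97ed4bf525faf2fdc97ec80e88073c039a01d080e740730039681ca40e90072e51e4279214780521035c3a8ef547066b8451d9a8f30ad7e54b92f9a17ca4be6c2baf08d497c9cbe605f2e503e47e1cae20d1b266fd879452c2ecdf82b75b37da1c5f0e2a1dd20ee9877541c431dcd0ee4877403b9c,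
  nat_lit 0x3fd3829283c3722c778730100cff1cf0e548570854de1ecf0fa6046bc3c5e1e6e0fc597e3c3f0d73a0f2b2cfb1679cb3f859ef2cf1967940f4259f8883b967a0a600f14d101eb00fde2c07dcb2154bc57d434af15b1f248f8f47c823e450fe58f93a1cbe1faa1f2a0f90cb19458ba2c6016320b18858be070c162d4b17831ed7ec842e3919c4d14392fa232893502fd8d6874ad4147b7e3dba1ee60f70c7b9c3dca1eea0f75a1caa3dc65b9e8f3882a367e5d5be80821cedceb7cf3cb620a602cd218480c280547c3098184a0c20860f4308c1842284a8b28e18a8854e8a04854550a86855842a40c6f48e350f03238711c5876e4206923820ee348e10150f,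
  nat_lit 0x8eab9df39a67ca69869a1127cda668d32f699e308ed8318c18860c1c6a6582faa56e5e58305f98302c18e412b810651680f57e17d9ac228a8fe2f9425f9c8fa49f44210127d413e5c9f2a4f9327d013e921f524f9c3375c8fb4ea06f58a361807cf4ec766c2f3a86086c5acf887a74cb1b59eca4b8475d6b34149adacfcd6793b3286fbced0876803b3644b34ece0767b3b379d9dc6542259119528ca4065583297194ec3634654c329b33ed44664cf9667d407fc94dd4cf8c100f33e4951340df2d51a38c035481c6107dae3ed6c808ccd6a1be50fbf87db83f021f720f5887db43ef21ec50fc207dd4e2f46c4938b59c5e0e2e8716338b69c5c4e2de6c57,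
  nat_lit 0x1fa09b0d8d86711f31dd69b0b0d84e3b9536151b0e16c469f574e9f0876d6c54b60e5b0fc61856c507c674e3db08454a78c20e610aa0b5569fcc2188d58b083220d025fe2caa16500b2b459502ca496534b29c59580e4b0726039201c880e504301c390a1c830e49072194c22c2288d59b088d843ec2254ed9b0870b288c227639349fa62a8d15486f4e4552a2a9cde9b8aa8399447e850e6f1f950fcf0784c3f381f970f0f47e663f315ac7c95b1f7b0962d706fb4ac4ac2ae0dc43629582558ecac7256372b184d45ea51829db1a84558d2ac7a818940c3a4b5d27bb8184c51b1de1103068185c9e71f2d70e9a92553a7ed87f0e66d556cb0f1e360125d4,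
  nat_lit 0x42d3216a90b3c859c42cc105f10afa85ac0b68216892adaa0206658b44dd697adf225a94ad31deb74e97044fd227a5140889ef44f58046513f089fe8a34a27c99684cb386595a80c9967c75e35f03b2cc5965acb3764e7b5bbe4f12c2138147b834512d1028c81492f604fc12773d40f0c4edd03cc81c340e22079441b43f8a3f162ff0c12289eb86814340ada064d0386818340b4a77653ae29da94ec0a78431450d68c3fe4a7790af840f5ae1a56e731c3b65ca109d13b72cb933eeb2342c3ed01f580fad07d5a186a1f5e0fa787da83eb81f603ef01339cff7a7fd03fe19b0b4ff8c7fc03620c4e44db8e6e7c37401ba18dcee6e7936dc1b9d0b3ea652d,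
  nat_lit 0x208910430821c4118208b1042881f8410700b1c3a4cc710638424f1c4504a642637c31bb14c30c6f6638a0ef5077383bc01dcc0ef2077443ba61dd90eed077b17a0c24738ce3add2d4e72b0485749a9cd95d20bd011b4c8d4dc6d3c369c86ea8da806d2e36aa1b4a8da4436881b360d9c06cd217e21b3a0d9606d1810ee1b401aa38ff086a229521514f9c281454ca2a051529409196a2352367349c0699ccc21e91779b39ac2606ce701b458d60cede10dd03d6916f162cd27ad13b748d92e1bac36d01b6b0db602f4a36d20e3f05e6c6d8c36ce0b4105a182cec16720b36059d02cd616880b3e059e981a41aa76065469e50a1897e6606421445819ec0d4,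
  nat_lit 0x86c80cbf865d70d9319738cba465e232f9197a85e5c38a41c390e230715838801c420e240716038981c50339cc75bda7f2d3fe38deb4fac9f1a71ac69fa0bc05c2251d80708c383fdc14ee0fd7088382923eb6e10c677ab3bb99dee5c8920bba8760bcfe418c677d0b5d458642c2416150b0c052122c26160d8a3f0586c2c1c9132b5205dbf0e10a6b8db6601b7dad71875b3bb7c45d342e8a17460b9861a862e8e17428ba705d0c2e9416af0b5245a9600e386948a8645a8a2d6016a78b5596984b4c15a652d34d69a2671f8c13ad311699ab4d45ade2d64d6a64b5b135d7aa6c0cde26b925ad9ad6e1b824a5136e07a716ddb18656a2802487e5b3f6bd2a,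
  nat_lit 0x410e0ee8d042b13bd0e939c7ad041c1d3f30c4a084d0450822c253da026883dd13bf85af107a08ce88225411f208cd048c72b031460461cece4629f89e0a08e87b78a07f3d55a82194108a0751ca1282047033165d5bea8f0e4ade0b7f02295abe191d24451253fa82f8430aa3310198a0cc586634330819830cc1466180c49371885e364272862738ee15bfd0b9a71e97139a1624702656e9052e95b68add856df2b73c40ecadc656e12b8c15c3cae2657152b8b95c2832265708881e15c3434f01a7e0d4106a1835141a720d38069b4142e1a74472a23940b5968e520e1e2164c64e21c5b429195bf50ec2a0b750630c46d4166a0ae505f283022cc284f5,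
  nat_lit 0x2da316d0c1bec5b3e2d9e16ce8b6985b392da716d28f1905e0b3c5f1e2c4f18478b53c5b9e2ccf17478cc2f0caf78d0dc430bf5ef4c67bce354bde64fa29004d7a2830bd5532467257a1025893dd0af4347e16bd1612f9898784c66261d1313898944c562631131b098a61d1e4084206f9038081c440d6148a1035404ee2e886929a29cdab38d2bd8ed69f9a05d06d5a26acd8a46cdc10c1944b4bb0641543d1a9b36c2aa874faae831d79ccb52e9f0d4246548c490e24cea291975a57bd2cc93480b512477c3cdc699e499724c70d310932a49a6815ca92550da2a0b97e6dc4f2924b6fcd8814ec4f3143c4a1dc50ef287a143cca1d9499da874d43c1167f,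
  nat_lit 0x2a8a15460aa20550c2a8f4405caa1455032a891542223ce6ba035d21aea0d758119f002c9ae44d73c6b985ac0bd721d28ac82067f5249c5eb86cfe97ae3bd6447ca24d3415c1134b89a710f7b26929348c9a604d2c82b3c626a4bf1025b553fabded5c1eaa8157d5c08259f52cf9c33b7259259f44cfa0199f33e7d9f5432034c47ad2c0cb968ade609d840751fd4c14860a1304e1edaef69b751cbfa719f1a497e70ce33e299aeaf6294d6fa6d0cc6989b440c53a6bb9367e188d2027a6d2012124ffa18e493ff4a0044fff87d89401c6e40500a311d131bcc4646229311a188b8c44a622d2c03988f1926cb9bd15afa9f28bce2a3aa12f69798637bec932,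
  nat_lit 0x7f073dac64b54fe0c7c41c32192a68f8807f03c3220ec3876173b079d84cd40676183b089a800ec4512c517c7435585f082f8c17c30bddc5ef62f7217c90bdf9975f1cad67822f7e19e00015b145db3c2d9e0e7ba5927530e3e49da70ad63141c4c5c306c6257d3a31901553a3298220baaa60e874163b8c149d134ccf23ee920b9a2b5915b6732a4570a2b6515d08ad2437ca2b99e20f22cf788636b4de22680b27377bc441e21eacef65a2bd30968d2a60d7a60b5d212f38f4c47a64339753e989f4f4fa492eb13ea3163f3a15a7d18e1d29f525fdfbc75245dc070f8ee93838967d2d70778f01eef45ea02f3c17ab0bcf85e8c15bf15180bd4a1aaa2f4a,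
  nat_lit 0x173f0b9b85cd62d5b86a08b9c85ccc2e8017380b9d9b06c82646c1633980fe351e0141ac1fc65b05cd8324d8b26c7136229b074d86c5784e8fc9b0a4d8a26c201c9c0e34071d039481c700e3c0721039501c8c0e4a62e0316dd8b768c0962deb16b2368ac5a88ae8317112a2a950e1e06a54407b803de029420f6e61870950c2265c7bad9840dd684b84c72c9235e96fa6eb118919a4cf0e307ac73fe1877fe910e4ee5c38d21c6cf5a29238ad47df060bdcb42cd3725503b685af431ab32bcfbbe1e393ef11f750fbb7136d3ed31f760a77e7dd3216d10b04841e424d216910b50858442c4216590b39f10ccf8f7c3ca2e11827878733bcc3052df0fee8d5,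
  nat_lit 0x35e71af1223d26bc135d989d9cd7686bb835e81af19a004957167fdb3301a000c34161ffb3fdcefb21cd3425d212f1097c84af42621b811098084b1425944ff43ef9141d4325a19683d4e4aae432687a290ca6865108ca9d24d2e989cdc4e6c25b262c2e9cde4e67a73850c7416db431b219010c7841f340f1218ac7c73141b35cd966112ba695e04aef25758f27c95cf314bc55f451ca9e8345351cda53d109e851ec5a7a1cc92a9e912d2713f80b47e5a4c2d25441e851ac5a3c2d2316910e7086a230389819912832941e141fa505227a0941b69611068da588dd746eb7316b52f0cdd6d6eb542968548429ff14b68a91852a42a3c151d8a544547c28e1,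
  nat_lit 0x2e6daf59cdc871bf959259768d93deb2555eab327d8669d0d9919a20cd40480e334a199e88fe06682334c1553a28d47ff0246c451ba28e114788a48452022910979a4bbe87af92f1897a44bd025e112ef097b04bc956b20e91d9432b8216504c7fcc1e90ca17650d328295034a80b2aa3aa078ea78a8142d7f9d511501317252e6e1733221625cc22e609733cb9905cbe2e6f17344a94854a02a49c403446e24e8a2a4688d78a92054a61594a58492c1c24db2727a1fb92c124e3e0eb9935b42a060ffb03e0a1c710fc687ec8ac2a1f812c3025e968f048985bb48edde1427a1c01681028376fda0b4d56b76f83558052f3a52bba80893331a5731eb62870d,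
  nat_lit 0x21c610e0c872826be21bd90e202ffb0ebe876090df9b1f4d5ef015db63e0d162d8f1395e1a295046205d9002d965a8915c46ff242ec41b4b2c848642cb41284a1e5649180023c3ca0923c49121d8f12428921e49146836341c4e4a2d06a0ea91ea99a0f41d438e70b41ca05defc5b92d0451115a3ecc0c6e452b455d778e2af477623d008b4a4839479da3cf029ae8f3447a110d3cdbe245c736f49b7e88a1e6deb189e913e4dbdb12194be3a4cf52f7c97b84be2a5f0e2b5e97bc4be645349b17a9cd75777929b95eb2e53c729f2bd51c986dd7f291ec682e2560be7c455b9bae17cf68ab8422da0fa8b60e5b162aac96c00b6045b0a2d7e96c60b6205b0e,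
  nat_lit 0x42b5a363103fb14b346c3236111af48d7c46c0a3641036040590e7ca063623a881aa40d49aafd03580f7b4a4ec93d4069ab9e32ce2b99c4edfc59b27610b3965f812fbfb640a019364b02e6344e7e3f059623224950348019140d080692033e019fa155c0694034401a31f8a5249c41738e2fcd0f4e66525c31a201ef58a3fd210a1072e1d4e41ff21041081484064207210b1083022b0114685aa8450c22901144089f8450422b4114c08bc0457822e0115c08b90458422c6116908b5045f056542b1e0056895e61a062b1708c00acb03b20138544e51db78113a89c48a329f5e022c889cc1d95a27181ce675d42179a538c232f15651713845f88b048ee5,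
  nat_lit 0x3d1612324f44c7a203d1744c64065a7a253d141e88cebc875e6215d9d7b8ebb275e23aed9d77cebc112c15a5d46094d7dea15e5a599076529b0b4a95a55126752d30969a3a43839450939159314dda12648aa4467a49578c3f530e098744c3502714f57e987640d1a61c8483a2413121a09050483224201215090ba190a242200df80720038801d800e100718039801da00e80075249b6fa2e671a3e8c182d8ad631520b05ad9c66885b4c0b25cb630ae0fb725c7ab3d0b4b84b9f5af92d7a5342c88d39063a7c08adae640d65ae95b09c5be5e4655a407620339c82947aba0637534f723e171e3a69f0e67638ed4cbdc74dd78a0ac0b5b652f13d6da2d260,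
  nat_lit 0x1c7c848653df67f54342ea064dc2c2685e4521b49f4722e6703648d9b8d4b8ee1d866c5d971962548d0df3f271f958fcb47e5e3f311f8fcfc8e7e4d3f2809095ae6c44e106d7915e48d0ed02a4bb9119e5ae651ddb214f10a68850d0eb120dc90a40851641ae214790a821d520e3f2115108b084604220210d9087c844c422433b499d60ceda675e33bb19d58cecb119333b819d681d2ac1c160de306f942d6c340382ca85e81df60efd02ae91c91145c8a294519451b4f8528a2b89531c1504dcc26e0137109bb84dd426d8136989b444db50cb5023d011d808cb0a910235011a008c2045a0233811f175d8147b5d71a2d3cdc98ac213b131b96429aabae7,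
  nat_lit 0x299f14c9ca6745064299694ce0a65e5340299b14cd149dc6b7a527426a14daf8a4e50b171b5ee1674a4f28a1ea1ff91000555d43fd126590ff087f105fd9385487ec43ed21ff015b487ce43f021fa43b1a1d9210a52097104c0824b0e9520960ba3c0aa6412b168d904c8589f1d936977b53a9a9cad21724fdb53885906cea121b990d8086c84366073a90db486de0e5821ba10da41ce00e620732039e81cec0e5c07340396c1cd90b272eaf860c4a40e833d0a772bd41a50814eb8ea0b49f8558e3283114ba52cc60be98b368720c13e39f6d0dd085499e7e29b28f11418623c3cd0188301478d2372cf0e8787824829e1f8f10078723c381e1b0f0ec4380,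
  nat_lit 0x80f0c9cd9870a9c367f6736a0a2434fed58d7d4487822ae97524ba5c2d48dc06974e4bac1b7f12eac975c6ba52bd354d54af45214bb5d25ae8e42856b9dab35cf5886b390be89eb30f59c742913ad1eaec8d667ac24c302615130b298504c332615d1d94984f4c29456d61e804a6b253692a0094fc4a7c25349298c94e44a772458122348d1210b947bda3df01e4a8f47874f23de5048275684247a0b9217544a173b0f85bad0924849052062453c9542a4091f15a900cf19e3e240498c5a9cc80063f731fd190109f5e63f8281793f14c7fd114b316d444b8c5ac62ce3166048e49e0e62de1b1192a7dd260e92b685d4894dd25ed9de2b9cba4917606ecf9,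
  nat_lit 0x662b1cdbd98b8d1d668e82d23805d2d1cd68e74331924e515226754b50299d96d40405e2b3b09a8042a0d207c103d881d10e912073903ac6a3040f11199903e84faa2a2286720a840541e2a18150f433a852ee2a1c2e47c711d977ccbc43d9fb2f011dc47b3a65de8b8d5b558daa36d53c799db5520f094e89b6a91576adab269b134f49e3851a485fd9b7ec98ebf1a4c8d27418f05c882ee617740a85c5c6e29f386a58b8c05de82ef069e5b76e1a6422df96992b76d93a20d3126a58b76e9e049227a913c3be3ddf36eee971f7bbe51ddc5228b087f043e021ec10f20875843b821ce10e20880043b02e60171c0b8f05c6a175e17220b8985cc82e401728,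
  nat_lit 0x6d1bc71a9ca471c6e66adc71c20e6b1c747573ca55d98b240dd662db315198c4cc513833c714d98bd0cf424a1924f0909e27832272924fc927044d724a304545f762ed7692b0850e4eb2228bf669c1d619f4b2fbb2870a0797474730e171d200e8f8745c3a321d1e8e928287e712238898325ce22a7118388e1c490e21e711a24ee1272093a449c71d4f9273093b43a91879dc38011720fcff7e87219fd15c4a271723d22b45847b0e026a42347159dccd47e8ebf9afc51082d4866a3ec33c1989e92496772a49f19dd8cedf515dc72a59dd02a5b4923a5c1d2480923d5e00a926cf632bbfe00f6814d5a906bc4b6ffdb3aadbf8065f4577537f1dc9506252,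
  nat_lit 0x4dbfac49d6246789e58952c49539f717e903d2ac4755bb4adde56e72b7315b8e43d456ea2b7815ba4add04b7925bbc836a057e239b1beed2dda474a4b7b4566d1c168648391b377e995663f4f48d9b2ad1956e310f7dc63cd11f70ec0077dc510d44d7c2fb896021aca00dbf27d5a3eae1f5808ab67d533eb611524fadc7d6a22311115488d0289622289116884ab0ece8768911719d5c6f29493c33ab19d4cb4ad233bb3a7d9d4429cd75213a919d494ea4c6721b404652b71c8c752741ce638ad1c5876a8471719a0f1c5e838ec7189d4a50732725a33b81c966deeb339fa575db5d2672e725c392be39211c947510472618d329a3d94a931a6dd4470742,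
  nat_lit 0x23c4a3ca91e2645ed23de24d05436847b114529fa8072f674553a2d1d148792a744e3a300f1ece8bc745c61c630e417ffe217061c4b0e2cdbdcc38660059da65b9cad96d8faeb6ce40b2ed5c635db816c55fcaa6b65a763c620d8a2a15178c3b659d286af18e78c63416c302818100c0506048301c18080bff85fe2177418030a60052d0296414b085c4852d8295214c20924852e11f1514e147c323e148b5a8f88135b11658821226cb37071b82cdc0e6e002af59b8142e2e55dc36fb916ac8b6445a687749142c8b5045a222cf1166c8b6845a170d7b6095ca13133893c0b5e1d131f02807285409fa4e9127183a07c0815fcf7126e3e183f9f64eab241e,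
  nat_lit 0x14a589f905324298c14cd4338453102985148b0a1945af22e1b170e8a9145b090ce0172f0b60c5a8f0d202237111c488e828512229911cc5a9a4465223b0b0a595db234d79832c6f1e61a8f926890bcc2981422f8180f749cc9245701eb7f22349111f2cfe4380f8448c88c1a496587971259c92dc496c0bf5925c21e670b249131b4b01bafaede676ee85b5dca3aedda7557bb78558008ef541871196939a717792e71a731957fc112f865881cfc4d590c1c135809a804d3c269b135409a90ecf05f5c7ee5ad71c648e23a5578d8c8da2ef4e79324a02ccc823d88f0544a4c745da354893868d71091c922e9cd02cb0127dd398316154e61a73253998116f,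
  nat_lit 0x35b71adc8d6d86b6a33c1c478cd6c6677a17949ada07c680f711f180f8c87c5810ef10698f88c478e3e281dc49e498f2420f733c959e4a4f26479243c9b1e4c0236a44a114539127089540f752257112a40c1a44ac49d224e79273493a249c4836d5271893903dcba4e64d022680406d09a018d03014533405c4674d0286803371905d94dc5c6e361da79b8b0dc4e3b5e37150c160f364747933d19c14cf36879ad8b7e9e6bc8116437990e8ba3f1d1fca43e6f15a3cbdd1f0de32747d13c521d0e406e2034101d080f0406210479017c80d84066535725d449442111f3af6a4b3546a475d22a8e9e6e52ebe26dd4bd91b0152f6d15ad4bd725ead2f68493b,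
  nat_lit 0x1fbc8f15c57c7238f5bf9169fc2892b7f51de58ccad353a94288fe3a6a611a184e5a35352343dc4240445921a48ad1621c31a5921b898916526f70c7b83b65594264a12a5097139949e46a128509113c39424aa11f23b48c68cf9808d0849480eac4fffc92b5890320005449eda996d4e02ba58530cced55acb0a9db5368b35270296728b3b259ce2cf0110a0b3a710752cee04a5e29328c2446142305d185c8c1503ff2304d184437394b36b1c8cdbae1243638eb1c78f62ec71a39c8b1c808c703ac6096d9e92cf493131d09481e91879d27a4c28c7946442112519528cc94634a344518828d314678f1f4518b083b9e3dcf2091301250a9e3e614e078fe,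
  nat_lit 0x4c7f264680cc05d7b4c8698c813228991c4c89264415a72ab64569bab5295a90406356a02b4f55a8d179366c7471ec0d6296e566c43362988e6cd854912b36300478022c011b008e80464022e011280884045402264b3c26b392cf89acd8aec259fcf5a89acb4b41a0f5450a6d298141cad4885156b51551b50a281a52ed29a0b40ab97d0d7ac44c5a7e278fc8908b509344a34320ef7a09103be09631cef9411e6034ec4b94ef8877b515fd04b5c57c82bf115fa8afe21a222be815f98afbcb19ab11568aa2b995e868e656497e3d0cd370e929d5951a4e8643b2593b66bfb61d0f86acd6676b72fb664716c1f266db3d1155f5cc1f5572c2bec13fb26999,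
  nat_lit 0x12e6097404b8c25be12eb4328c4b7825b912e402015f2de24515af68fb44f22cda8357189e41d6c2ac05e202095ec0dc9e84f25d560d5e53b78bab36d982e9b91322c0dc51470045c0270c0da0956804c581c01095078bc517512e289780763a25bd12d80edd405ea25cd230cc9948df7a187ce7f6281f55559d0352202ad0885281e44c4c96790b3c8a9e462260679083c8e1e430620430e786b88c3a461d430ed18778c3cc61e830f6450e94208e2b7178b56712b39159ccaced252aab3c92f4c85514bccc56ad2f2a97924bcda5e5893ae97a860273012d27c2c040602389c8c0e54c05054e815ee4093622e528669a5a8d2ce0f9088dd9a590d2f06974,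
  nat_lit 0x6061469dd816ac0c0605bb02cc0c4ac0b039d38e4d5592cc9ba64de27a95938010a35f93326cd9362760535fc1aff0d7e42cbe35f61afc0d7ec6bfe35fa1af9127b4881b49f11700927a093cb49ec24f722a8a88327efa2d3a9eb5ea0936024431d162e4c053727f3ce548858495b24aa92538400e495724ac87fd07486494d3527ab43649300c21784cc2df0e9fcf0964a2bc9294047e6fc05a72ba4dd965cdb76311332ca5d9fe722f041d42b1810600827041a020a0104a08210415020f93ec69f5c3b4da7d792a2606e54106254293ecc867717e4a13bd09e2081528f3213b2347651e517fc08834412271c135921c6f879c872118a748f35ce6ea53c1,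
  nat_lit 0x6580b3c49d210b0e566cea0c29d208cd94748393b0e437a83f586ac3a329083895c074622109dc47acaf86e16c7e55be1aad9e6e9b37950f104dd356f85357ac23aa246b123b07b8c48f0247412400920a1916247a6ac435601a54a67338d7635610fb0ac33d6ac1105352324918248c0245fd230a918a48c8246522a2a918c6eca3314e3ddedd8d6951b7619bb10d2a06ecb3762cde286f1637870b384236f123705e804668de206f0c86998b7485bac2a7a16ed09f9804d62dcb16e80b7380b0e7494136a1d220e904748a3a471d258e91874807e193f0858fe61ccc7e183108176e4fc2f45cabe18d3074d5da6ae9b5789abc0d5d809ef35755abaed5de,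
  nat_lit 0x65f09128997c6cbdc65f524f28e88f1c4b65f30a4dd276e9e80692734755a498d24a34a83491da49027f9402fa48d088ce11bb491d248d8e0b492314919248b1ab70d59f6adf356b59e96d5a56adb33d0e3b5ed5b016330b1a058d82c6e16390b17458c02c56162f8b188532b0ce614f68a7a44fc029f214fb09fb853d611b1089142d44220e111c088a044582204110f08828442cb8245c0e2dffc427cb80d0ab82dfd97014b803109c2be8c458803127f033f7dc71c4fdfa7f0738321fc06050ebb8944762012dfa82ac3589b23f4f226d127871bec9b4b498aa1ba141791aec4912e82f7417d20bd43110187a0c3e061e2178a186e0c398622817b61880,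
  nat_lit 0x1a058d0061b4e340219ff84ae46812340f1a080d01d61d0b0e358782c36961c2b0e619d02c3b22fb6a23d807b3f14586bcb07d5048b997987b0a09b688dc4fb0272aa9285495aa49c9558a56f8c2e92aad5258890f0eaa075243a9a1d510b95875143ab417110eae0755841f41389108208420421420f6107a083c441f820f8298f14c58271e5324299114c48a630530f298e43fb591211bbb644704e4d02d6a4f70dc1a05a2151caf77097404b6025b812ea096804b5025bc12ec096904b91269c93503b909deb4271b1c212ac104e0126ac38d16e35b71bc0396dc696e3b3718ccc3f1ecf4e96c29d08884b7276944a4ea9a51ed2902a1734a51a5150cf8,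
  nat_lit 0x4fd1c7965225895b24eb288d0501949d462f4224b1c39de663019a39c540e8a26f684e839d19e2544a1d593dba9011cb7b27024c42c5161d19a98917f1a3a31d39b4af434bd8abd195e7aaf484e842bd395e72a77b5fa0b4429480d1e516d21c5cb1b468da4048f0b6938e80c73f73a081cfe4e7fc01c739ec9d02a253e74003bed1df44efc070d33be61df48598e77de89739df5a448e453768568bd14c7d25bc4768298f69b37ae8d17f25bfb24d4b0da717f242e5c51d04fe47689ea1839f31afd387e03b696df302cbee1bd9be5f84bab25d97f603dba1200069f17f1144ba1176cfe277bdebd438d4b8656e917414ff64afa93e627f13f0017e14d693,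
  nat_lit 0x2f7017b78bd9e5ed72f2b8c770bda25e542f710e9d616660f34079c03cf01e800f28079303c8c1e640f2c00c98532d685ab4382c39a1fb51ee258604da9c603cd1d468ee34709a378d1e511af346e9a356235868e33e598c64d0b0aae605e9e17e28ce22bd3b2baa06000f9dd1d33200c9108ca4160bb922de147c0a4de14af78c1ba8ddcfa4f5df9204c585193b6f5e444dfb44bc42810c52109b084f84270212d006b884cc428821315252b2f48b20ab64765eb471251224cbcd65e832f3a4840f6d43beac90bd4814484370f5a9004ef8ef6757b713db99446a9d937a05b99d45a5923727a09bdb851fa914e73ab7a3f411f9443f145f2a3f091f8e8b7d,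
  nat_lit 0x497808a6d581885e9251c959d401de4a363239ab040453e2b47868208b3c569c2b4c15ab0ad6a1a0e2b50261217a8429c2651e328d0bee0ca266519328a021e58348948b561dad510ebe63b410e369d7c0a896da001add08b346b6c35b81ada0d6c06b5235a41ad70c0dc32590bcf0c8e06498323c14c90c8a064583236192018f221704cf984b5628e226ac0d85051dd66ab450512548a2943e36a8a694530a2925145a8a14257aa2902ecc8c75cfebaa9215f521b2987a6ebea329ebc6875821286d618f4493ec6df264a90e258dba478f8fa943e39c4d8cfa867d4e32719f4fcf8a464d33ea01f51cb0f26c9a36448c768d918184b36491b270d92055cd,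
  nat_lit 0x3e8f9ea4445f27a863183990d4faaa630089b38e874653c24b129e3a24a91a7d1e613b59a34ed1a788d3087b993330999c36b426691331889664cc526650fc8d1d16f0e0915f48b0d08d314ac3af421189639ed0cd640ebc571e2a019d578aa13ae8e34ef1535ef8b49e4dc340b8e2c0c9b07833c26e13227a86710bb77121d286e08dac6e1450db87df143508b3050d31a8e85c65919282af4321bf5da4bda7a9924bbbf5f87ed0fd7b4fa1be5ee495a0f517cb1afc5c904af95e6b559fc3ded59236e69a8bdad1c9f04685681d393ddaca6d0418e33a17b59a50cd2a1b0db1dc8ebf4362f66932fcb429baa7230950b39cd9cf083ee591e472759ce836ea,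
  nat_lit 0x36cea6dd13706705f4dc426de5370315ef4dc226dcce10c707c892a96014e0ee707938391c1d0e110707b4d9b1b66561a6725d586c1db34b4af17d92cdf1e84cc4d0625b3138160ecc4c4626013d71895e224a6264789b9ae8de2786d9b916aacf819a18f148789fa5e8620a257dd2bf415f90afae57d928ac15f50a25657de74a0b9234046a941d601d9c125db36c02a76e1b0614586ad2f06975c7545a5bed2291a7d34b9da5da93ad14eb8a00454bc2a7015318a9cc54ea2a6f13dc8a9e64d3cfffe3d21c9aa5fffab57487833ffe9a0c30f083f429fa48e9f01cbb3f419fa048e387e893f450bf0443df100236c3183fe18bc50ef217408786241e6d82,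
  nat_lit 0x660fb3060897acc1a3478b305d458468e46611104ec899844d022631130088f644c4226443b4889842dbb4b81ad2216900b47d491cc606cc786922e5a412d1ed1d6a8eb747588bb2d1d508eaf4759a3aec5d6a8eaa16de8b7845a7a29f1869a0a8105c022dfb16d28b7fe2034549f2aad155784ae455562aa78959c1e6255540ae542e642b7415c40ad5856f82b5e15b70ad9857010a045a852d0aa1400f5e85ac800bc9ebf109fc84f90f43079e03cf81e840f40079d83ce41e6e0f3a078cc74143a0487080e820740439fe16f50e7e4741c39fd0de996dc8d2143a2728001f4884cb84ff788f81f4915498aa3f552300e947456a76448dc0e8422ecaaa44,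
  nat_lit 0x388644984e1f07106312e9c40046fe626d387f832cd184281158f22ab0199a1115a6623db3485b3f8c19681b149ff5f78303be4c25b0cce2b6115b28097456da1ab42fb617e70bed02fac2fb917e305fde1aba2fbe22a191d808ec4476c23a911d708eae476e23b211d99958323c124a92bb5d34a4c1f4204026965c60019d724d6126a4937649b015c3926a8936a2ba124df126cc69b10db51a650d348697634cc10f28d31c698634c14b5c239f62f6eaf65444da9d992d3a889802089ba4d4dfeb2194d890c195a2b8be3c33d44743da2aca7ff0a0d0501a16fe14030a0405010280213fd0a0e05030ca606527236b09484ca44547a3297194ca22ca2570,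
  nat_lit 0x52ca9903e2dba54ec52c88ca587fc6a58c192aa9364d66e3d791ceca54892a3c7be84a9d254ad2a7281631e850f3ec79fc3cfc87238f40079e43d0c0d678f4107f981b871fe48f5fc2cb63fc4157c059204cf03fc76f3748755d21c39486efbb84e5178cddee604b873acb4a25c9d8a1a487743f18570b43c787e9ce33eed725875ae6f98826c9305e3db017128d0bc72628cba6fe4ce08cfd935dc0084b3a08ac387b116759d3c523682642131e899004c82263e118a498ee4c790f1182348b3a87bbf1c4437ad0d5f820f7698c9abd5cc40c1b3668826c659cbf1c975e46b396d9a16bc906638b39924800ccc95e6f128d1b5b284ca6640b6b51991af5d6,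
  nat_lit 0x25cbc4c54f3f4737b3cff1e800f3e079ef3cf91e7e0b8631ced4c818e46cb8ae0b4f625797138ebfca4fd2d97a1ee50f9887d343e58cd2d0fb087ce3e4c21f59084816850d929ba1455d621af2f8b0ab6508410cfc301a180a4b7703e46887a170b4c06460273018980bc1a325143897b4871cb838502739d7970994970e8e22e1d0adc82c7e5c441a18970e42792341c1113079a9d9d4f1206722a6e9d13d8ade574aba2805e6ecf3787249491c9901e9406788b817fc1524f1146cb027e690664cacd1001c88f523f08e5c20ab247dd23e8edb34a10a502d8d68ab234d9828fad35709b2531febb44d47e4a6ea66021906d282ccc0d91cfa5095e8d40fbf,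
  nat_lit 0x3d0e1d6d4f4287a0b3d019e838be7079ec3d0804ece086501058201c5a7147ff169e8b5145a91f8f7008d51599f2701bac7c713835ac0c91e94706129b5991c4d01d1b82416c8498dac16bc845388b57f9b3fc8570259794ad8a56852a3295e43f94a55852a725af94ab81b4e5953310d944c6279e82d40bba20b7105a6195937c01be08ded46f6537bbc48fca6de6f6e37b39bde0dcc46e602e2a8621cdcbc096329e79b96c9c866e665eefafc117f1c218e5f592fe2cb440beaf52e52fe596f4cb7a85bcf8590d6f42b7a25bd72dd7828aeb79b5d85ad7fd2edabb095d83465dd46d0bb0d55bf2ec10dcda163737359b9c82b866e6e3290056d0c6d71227,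
  nat_lit 0x4b7125b60fdc296e64b6d99a8cd94296e84b6f25b800efa79862c539e640f318797b38389e5fcf305130d4c16a6081301e87c03532a609585906a564c1920764ddaa6ec837651bb30ddc027432923448c4ddb4579b06f2037541bb20ddd06ed83746163e0dce06f7037a8ef1c475f3bc385b14ef047785342a9de2c603712e1528329414d05aa4fb39e786574adc873cc5286293f8330c16b30cb98660a17aa19710cbb8663832f619884da5a8e50d262a389454c84e9122228a8c1df1a6e28ac46c5430682314fc2754051d4ee604e6d709ac5404e1926a2cb88219bd4e1c1d10414989c3d15980ed8425510b69092e84a882534129c094784a542526129e,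
  nat_lit 0x38cb1ffc38d2db097849c68c044c4f09027d948ac056b319612724095648da262c1036d91b79166e0711037d01ba00dd806fe037101b900ddc0700037901bd9763cbb224b6e2ec5d762abb101858aec917634bb1858898718d3dd2665a5ef7b1b287c12bdea7bdd3d224d4386a2435141a8b0d4606a1835099a838d42a6a1a027f0140809e004ec0273013b809f00504027b013d220b858ac2c5216264b1504f21031b96274b13c58b2801516829fabd26bf66a243dd11a26cd3574ea43dd918d2bc885e49af2297930bc854a9fc66d5792c075b45f4a53aa2f2087d45b01c616d5c5cb5f55b082cee10c40861403c4a18450c3886184305218310c2c5bcb,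
  nat_lit 0x36a39bcc86c0f22ae2aba960546afe556b2dba0ad4c381e690f04c59a45a2366691834849a47066e2691362eea8915b52455d56d11b6a15b514da126d462d598abae0adf2b258358ca6b69af5181f94d1cd0cae33f8e8147419d43d1d0a6b4b4743252ead6a57c8741d942aba4b89026392e68971a4b9025c292e7097290f52946dbe71a50dce3b5830e467b9d56f06198cf9315ca0236ea0781ed457a24e10e67433ddc04254c8f01797343b9a01444a00bf4b33c850562ec96645b3eae20472bea43958d819474fda0bcc65e661fb617994bcc85519a00ed544caa2a5514172802e6caa1b551a2a8644c5cc61e7d391b8858c46c61d649531881f4dea4f8,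
  nat_lit 0x80a7c6fc1d33301577b689f8413bb8f6cc6ef228efcc7e2986f53cf8651c574519e72ebf0af0cdcba52888533191f8c90a648b32401920cc924648f324b1856909561c9b42560e0b4598684a5078a8b300f38f13fb35c19ade4d6fe3e93294c9ae20d714528735c6447964e76e0fb80e8b6b1df022cc1659e93e03a23d8b27e3dfd22214d6a2ac2f5616ab0ac8c2aac285508ab070f38a62015f652d0dcb156bed05719962697d9ebed5065f032e819450b0d0657032b0194e0c9e065583300e5ec7a6a3d321b534ab821b3b8b509569a15b07a6704d4026c0136809b804de026881342099d04d5026913bfcc694462731a598a8f21c94ee9b15118d388343,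
  nat_lit 0x641bbe6a1f3471bd05fbfa9d118edcbf7c1cabb9bad2812a0d45069283362cc6a0cf2707283682aaea0d67ccb321b9f3343e735334b18606c7ca65227adbe652157e078203c342af00f18077603ba01dc40f00077a2a230197a200a543b2a1f04714a86a54332a24150d92c5c77f94b150d72d2c4c14054764a587d2c40961d8f20aab29429012a56cf63677db372d9e36cf416c34f6bebcb8588d1b2b57988a2235389c66ed2e68872c4efa277d8f4d09df84efe43a01eb7a9def2b0f8861d18188bff4600a300e292e416345fca303917e48bfa341c1a0ccd05c374910b70956e2342217c341d1a08602a523ca5cfec4521fd9ab1673209bfb11ef83114c,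
  nat_lit 0x6278313c989d713922f6ea29f511125ed85daf833acedac394f3b6815f08ed7a76cc3b691db1ced9512d3311018850c4384c7327b098858c41c4f5031091884565168c278092afdccf3d7111a52d79e765738285a1311f0b4a85e5a2a8d169d8a72622422d30170c9892854282963312810284537c2ef9312a0a6f4541628c30a2f9c4863442b9a25f5b2fac4e250beb55139977b4c10a89a644d0006f1135514611527226751348899f641a230159060c30464171e83d77d4c82d3111b20ae4b80e6894253c4601429ee6e21f13285199096f61018bbb145db44053506d1236869b430da156d0e31dd09cfe8e0d70b9b605dc3208e7970c438605c314c8e7,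
  nat_lit 0x5fc3b213d4cc6c8513ce9c6ecc479279c05221a534cdb627c6850f7a2f3d4e4d1d3b42e429cad4e58a729126e88d2cea568452281d9317d19c8502b34ac12addf96cbe337e50ac2a427a2e6724eec04ee1f95ac8a77e0f3f08a45c8f5707e0db18acd2b6fc244ebc88d1d89911b1f4b08b13084532405343e108a110f923ad963253191947865e2931b798c5507d263666321b19318df2b0bc7aa808d4dea9e25070663bd530bda809a74ffaa7fd93fe4494b292aa7fe6364e5248573b2b9e55ccc3131329aab9c55cc66f6904f9ab9cd1124ae6f945bc64e23279193e82d8ac2fe328905ae6cb9c652189c487b65d25947b589c21a372f32b13923656a9e1,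
  nat_lit 0xfd007e903f2c1f920fc587e503f390c360fcd077f459882cb5165c8b2f459762cb1868f8b2b459901933882515eca209a57ae2bd602374af5257ab2bde15ed877e63be41dfb8efa077d41f6c1df68efd477f50c180b609f20cabea7c900ca5849f4a01c192e28069f239124a9fcc2916a7f393fa839cd0e9ba7f5d1d009bf45941ac930ad1ab24f3f7cac11632f27ef64714aca1964ceb26a59362c9c164c26a8a0514ac9c8616802296d13b1a8e3c9e795a4621961f958308c346d171e62547c4a3e44f9282aa547b3169f51e7a8f5147bc4a538083443ba01ea9e4a5638b1a24d554ac6358a21aac10bce0a9f1c1aa17e10bbe85e342eca17690be485f4,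
  nat_lit 0x61b51caa635ea7a614a27b0d84d242944c01aeb0d917bf6bc833840af7dd7bfcbdf30b53c67c4f32c7187511d288c62d0aa2333879a88b917da70d42764a35b54418a208510218085440ca1ed50fe2880e2b84a20e0c0b94744a39651c328e3147361f9c51da87e99475971d8991936c098bbd741009e72fb5ae7f8bec31935294f14a3a1fc6528d294914a2ca504527f295014a5098b04c480a5286f461ed24c5226221316898a025c352231ecbd48985ea70a09a90f5488813fa8b57a90ecdbc693f049f61454127d293e72c4124f9127e85887886b44364bd565ec22f5b17af8bd625eaf2f5e97ae59812ffc67fe522155d27ab9f5615fba4ca4b911222,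
  nat_lit 0x883f168c0b4fb10812d40169f83e525a7b0f760784e0298f68d46d2c0529ed6edcf633e73daa91018dbd48119226bd9f6cf0d13f11b71e625387e3093afc4a80815aa9a649df101dd5355174f2cb1aa67e2e98a9a1925d9eb2d2b3ee76f70bea9b65c476e1627130b166c0f50079803ce01eb00f24079403cf01eb80f4407a68efe377e5c334712f69b391df5c330d3643f1cb8699b8d8dcd6612cb9499ba38dc6428f93746d5eb623274913248652444921e490e24868dba292288a9087e26267c967262d8aa88cf8071342570cc4d1a2695278340af205747f4a1e41379894a28bec66f2e2eb717d901f8e759e2eeeaaa8d002aaa408c6fa004844deb8a3,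
  nat_lit 0x389f1c500c4de162b38969c4c0e2707142389b1c4d178e0bc678cd8833e4286282eb4ef20509027ee44891a320d160689a34531a300d168689e34461a248d150d8363719300c1b07466da57c7360b8cd881af26c2044e4a712cba229c542994a712138a053431d9f4581c6672699c04f68f610d33c3f152f869a66cd32e1ba81b78437606de836f61b7d0db806ddc36e61b7107f8c384c1c2a0e17070c8386c1c200e0e0705838361c2285fc06f2217f61bc7048286f14378408ea0dea06f3076967fd58a199ff586f3e7fd23fee8debcffc07fdb85a2041ec20d610650160841c020de02a20839041f93367236b6e7f9671d5744d24b63e6aaec1e7aaf3d7,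
  nat_lit 0x4d7026b88bbee9ae43ae6465ad35d075bf34f1a2d75b542f7ee7b6cb8e2d8a18e64a31993142defd8d0d99403413f2503917d2827cb98ba2fad04f67e1fc5f7a06a103237f17c8f620696e670591440d21fca6f3ed861487a683d3c1ea286130295c3d1c1e890f4c07a49a712d38769bf34e323ac685124d2334e41a6f2d2732293084ec8a44451d229643b7c8a364515229211478d6b46b5635a4c4784d6846b3d35a21ad04d68e6b5c2fbf17dccbf105f6e2fbb8553c45d45f82887497dd5626e317345c0ac2516260b12d31642c4bd627447d78dee957e06e76c91c2e3e1329192485c83648997ad5ede0fdd27b76a4135ede8c3d63e44bdbd9d84b2615,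
  nat_lit 0x7e0ac96a1e2acab467e3ab99607c3efc7692d9ae64645cee62678ba05815cfa30a804ee3b9f382882e7cd7e8aa96fd7d721daf122627048c9d624697351bd7b012e668fa347a9a3fc794865ba88d88f284d2046900375a94c40c2f4bbaa65fc2ee7e4746cbf77a393d1b4a7a003af020ea2c1916146d528a42a2c3506ea8b1d45a5022f516848b50459fa2cea29048b3c45a34522516d256518906267aca74687ba184594e81371c6f722b19158e057a00d6e2b1706d4c3bde562d2b1a158c136bc9b5c45b1a6d4536b45b0b20cfa6d5536ac9b621a140dd5043430ffc2a0008e24a7f053ef10f894fcc56f28b2d05baa2ca89ba089d545929371516702bb3,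
  nat_lit 0x590147415792870073030b44e95ca2605063a7b03cd18ec8c70463fa31d1190c599b4636c527d19048c5b12e5be4fd8fac5ee9588bb9964ca70b10a924d96e25c5b9158036a4b8b65c586c6902ab1b8ac196c415db7f5248ae8e1a3102e92c626090a68afc557bd8bd4458bb4a46462ef156fc62dec5ce62ec0c572368ec5c827119389c9c650f8c2714938b09c404e3a2717138d24b1ea0e939538e13d42c6da7e283828561ef6ae4f34ed09574c68265cb753438da0cf11ca67b5d39b8ef608e0da0b8178ac0ba024f16fa8b7f40489a2b31702307e17574c1e261003079183e85bfa60f5307c4441e4b464e247311075f9f94e135f4eedbf291cd16d694,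
  nat_lit 0x1de30eee82e8e3bc41ddf0eef0776a3bb31ddc0eed828c10b800a27c2e0c28a814520a258511028a214620eba0757c2bca1d760eb306ebc3ad41d780eb7075c040b82052102a0816840b01d2b102408114408c20568a29a23cd12144b310c41a23e511f61871448414fdd0bfe83d731cca0f610bf855f34302218050c0c0d770b7305b602db816e40b7005b582da416cc0b6a42ea207bafe4c534b4581205cae65f5913c0b89644ab6094dd626eb93742529b4dd1c57d537369b9e4dd426e94d84666283fad8f711381c7d7b4e0226fbc474515fb2e08a70600f369c1c37c2a704d380e6f714e082706a064f280a7e71c59420800b9ae8b2940ffe4b6cfd2f,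
  nat_lit 0x10759f6ca3f167dab108c07740fb60210c70c907e6456d02b6615b78adb456c82b7686848ad8c56fc2b7c518f11c4495b2a411448e8e1f235a6891a4b60aaacde192f6ee7b7527db141db15d2560ba8381b836c4e89407c0f7df830da698079b99722c1500ea8b073f5265026f98393174587207e0c45b8b1040fb5fd7d162459343edac1f2c95f171c28d80d4598e3780e54afed163e2a474526938bc473d25a6931ca0e77549b639cb52efa6ca94bb07d3d52f129759306116e74642a63054336a18e5062a291d4344a197500cc59d5433c9a1d528a2508d3d8c544352882946520dca50f528e2832e24bc99c24cddc4bc0b27f15d3385f964a133809595,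
  nat_lit 0x92c43f251f17a34634e443992d28ba9c977e7e900d4aac2a66d858a299b849b319854b95093290b7c381f0ae4b0f2187961c3161e8c7fb4e3aac3d2539006664178e6ff738011c020dffc6ffd37fc9c028e0085eed81bd40de1dad9037748bdad2b1235715125a6731e1d9b8e91dc66e4965759ba0cdc51cef472059b94cdc38a81a4340b26e5749486b2431c703890c54867243209e144ef9277f01b28750a4f0027820e9a09dfa3ffd91c9ba8d23bf065744244b7de9164684867a2d3d14d300ca26c52e828984c43316e54aaa98828b11aa5cd78633c2fd292ca46373422ec45640ce6835090b133e262279ca3ce700644b12679ab3cde96200f3906b97,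
  nat_lit 0x884d96f48b7a85bd82dee0ddb83ada5bc92de81449c39b81cd80e624302c39a01cce0e648730839961cde0c1bc4d3c32e87c6e3e2d9f17cf8a87c583e251f18e208c516226110df14af1457862bbe15e14af0657815e52af27462d6bc9f3102a723d0b7061f23da881de574d719812889ae635741e9f8239fa2e830e7aa1ff70945049d824f0099185b3849f024de128c093d04a09718a08395f392ca5c57ec5d602eb58afac2b0ebe6d7e55212a186eaab1b4578050bd56ae8aed8ee347710ca1e6cd6366244804d9986cca365f1b300d9926cd84f09aad7956c04efa0d2ac5b7915441a6555ae0c62634ae145d5ffa2eb913036bfed4e7aa60717fe06edf,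
  nat_lit 0x182085e863ffa817c046f98e38ab8808d14cad205f9ecc4f6647b3440b0dea131cde83ab3d429f239296d1d8ac830c261a1d4e0dc91b848986a1b911fe7a679d7de2bc7f2debc8324c79a64d818d698ee87db2e3c15cf001a0573b6b9e43c25c83344096784452c1960ce3a611d3474b5474e1a4f71d3a83ccc74f9f22f297f38f99c7c4e3dc71f50d049c7a8e3f819e638ff1c7e97f08bf7b589c052757eee7b234a31afdd17ef26d43302cafc217e2090765f80afc1920e4befe8d19aa4454d3670c9534a875894d491709468329a3d4d40a692857702b7015c00aea057302b6815b00ad5031c82b91f508fa8642692fb84393a7919761607201d85ce3e9,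
  nat_lit 0x57c0a39382e4eaf7f018ec62bc670a03375506abde0c0dc606a1f58981c036d23822295f86d2c42b634042c0f96144fb7608a13ee19f6fe2faa7db43edc9c3964e0ebc9a808044391648c78b444672ca3d61b8fd3f941fc11aa05d6b0bb7e51b39693ccefc9a7e4cc029438e6b61325c52ff756c871a5310d5ad8f57fc4b88a6988b4805a5f120af6a78b4c258eacd4ee6912b53158c231df75a64a88e53348d7d2338aa66e57046cd317b610e9f5e38ef1d170fe9dc59cee2e1dc718dc90a5ed7eaa4878e2b4d81d7fa1f137115bafe9c65b242b60bdc7ebd9c46d54f69c29f0593448d3823a68a2c6e487ae2fb5a21bdc81ee443f3971ecbdc75c67a963d,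
  nat_lit 0x5579447e1a0050e1288d144661f8e51252894075658a2ad0fa73194560a4fe6c7505478c0e99e3fce9b729a9a5854cd0a24bd60d518d285b0cc1a98977369413d371e8b2f7a95a8ca8e62667591d951a9748e869b8a2148f11ea5923c25592acbf95bf0ab2974f32005cf29ec53c17e6b14eca4ea68a642c8149c8a4aedb32118e8fa14ccd29a86414747a4d3504829106ada6a24f412c02309f4992d44bbf1bad552e097dd8e7252b37b600e251c4cee7dd56b6272857aa6ad615ab84909d7bc0605d8cf6af76428b6bdd74c1b0511d306abdd17e051a98de2ce344192bfb993cda52fc0c508888d84c0b4605e302b936e4c0c910fb0f9a18136152c6052,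
  nat_lit 0x1ff297180c97a204e3263993a4c9f064ca327b9930190e8c871643c321acbfb2a249060e17f1a376ec86c2b3015968176656592b36077ecacae566b2b3915924f96a7cba2f3c1f30cf96e7cbd89ab9f314a2ce7cc80ced857f43b761db50ee5076f43b830c1b00c286444aa8455402aa415530a1ee553f2a9a943a8aa70553a48732438921c0574c486d13d50c09c90dd48741c3d86c5036171b180d8646c3836131b130d8b21b9a361e5f132f864bfbaaea05f0f2f88054ecbe1d3133ab4a174d9194b288e9d50974ca7d232e232e978b8a242812c98164b8b270593c8830164a860e058cf2c991628d3e4ef3f90e4794ba921b2c0104ee2a4309e81039b7,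
  nat_lit 0xe0606fd838281bfb0e010700010e61c1085ff8701124cd1d2d691d34900812ad23e268810219a47a2e1751faa617547dc6aed39c428fa89612737751fc0c90e4b9aac757e8e3a7b13762be47335e26e61fa2eaaa5335401404cd40669b334b99a88cd266694335219a70cda257c9336a19b28cd9066c6336199b6a230e66c485ee867e833fc1a020d03067b833d819e90cfc067c963e4b1ee1443c5ff4f9bab1e851bf9f38d5424b1f49321bdbcccae42bab7e80b98c5677afcfa7be31270d78b2bc54367e2f14d518239078cebaa3095112bc5a6b5031e11ad34d69950e0b5a7156b4a1cf6b4f2edc0562652de297394ba4a5c422e6297914bbca5b84fe9,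
  nat_lit 0x3fbc17e3107e0777f17a020fb107ca2f5517be12f54b69256b041e821e8d0f5a57ff8a1ca1ea90f6487a01c670e35871b438de1c700e328719038c5186a8e33024cd0b62092d0499024c0125609280492824a8125e44780fe042cdee91c1ac4190f9420e358d5082bb404d0a258b687d2473c572d2c05d260cae5b128eed0c45cefa44953f271a2d31db8ff153b8263a8201da356c779c3bd305f28ef5c77a20b2187198ef6c77c0348a2c1a160e0b00258272c1f160b8b058582b0560960c17d90b6a129bfafb04031a37370aeb805d17d7e556c06b30355a162e0d5106ac035501a9e0d4b06b401f9e4032e2f24b59b8bd0b410911471771680d4aeeca0c,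
  nat_lit 0x1ba20da8c6e78374a86ef0dcd86e7c37331ba1437843c601e3a0f1f079083c8c1e2e0f160789c3c681e2b3fd41fe9099c7138d3fcf1fe40ff2a7f9d3fcd1a77d15ca687c5dd4ad56d88a2c45a5d6531150e9faad4345639564835b4c44b621dac7a63622c4405c49b11394c54886a23f7298b0eef27b080c681dda94c4f16f31d248eb7c75c83ae61d700ebb075e03af81d750eba0373c1b9685fb86e541c000fbb0dc7037ce17e81b9a18a890c24f9b07cda3e6f1255a31267ce43e731f3a84af8133f12b7895e84a0a257412b5094644a9a256d278487dd80dd68e141c4c90c111c1c38a724e08c2bd2aa49550488ec55bc3c8a82864aa3078912a924f79,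
  nat_lit 0x7b5305d16483a863f36de23eb51c306dcf0fefb2c8e4cfb14547ac6bf7c0963c786534de12cdd524ae5b91c39a5a3d1242cac23fe6a21b0e2d07fbe38bf812be1c361e9d1d3f0ea0874e43a701d368e9ac74f43a7633a5168ecce8467490d6f1684623221ad533a919d386cb820a001e89d65cf6084f923d7cc4cc4f5fc7af201f28dfb86ff037fa1bfa0dfc01a5237e90f1b8dfb41c140dfd06fa0380c1c100df906ff837c41c200e063aac0def8ea9e6ef71c819d550eaa639212d76c4adcfeae87df1bdd8ef0c2d5e32c18b6585b2d49e814f72fb417d9c189a172d86f50c412325e37c90dae97db4ac0b1fc388d4281bd4232b3b650c5a84686d36c55c,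
  nat_lit 0x4f108d25cd542cd4a66a9287b143111c7366a72af9437e01bec0df306f8437d41bd70dec86f8c37be1bf418100c04860290d6018070c0406030300d180e4358c96fa4cf5267e0e1b499e64cf6267f1341099e222b161bca97564c1b0bfc4ba3b98ad3d7c972f5b1a98d24e458721c39149c8ace4407225893c9c87ce43272305554a59ed0732b0f44fe929da0e1b09fd1550545f757d307a3340dcafa6d7d406e2d0207c686484febe9d4f8927c353e0c9f144f7f875110b749efc4f87a7c207be881f389dda07f9040c81fa40faa080d03f00b375618877a51952c9fd5613480854146ac2571822c959089d13f14222a11309fb23ac8421d13f2908801739,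
  nat_lit 0x3eb89ea3109c84ff126f0c500509c44dec4273a13a217c81aa80d4d06a5835241a980d5006a4414581a9e19ed8f4b011c23d3c1e990f4d056883d3e0dcc8d5edebd4af245fd2bd7cdeb4e61e191d23d69246c4f5ef37d31b35441cb124389161be88c2be6eb737d09bea06aba35501ab08832c6aa435591aad8d57c6ac824f14f111a71c9a369e074f05a7816306a9e002b068969550741a27464cc5c9d504e75165416aa0915052a83c25bf093e496ea4b8025b892dbc96e64b8225bb0957411cd0ad3046b0238811b408dc04650233811aa0891397583155075883b041da20ed8e83c83ba41de1cf5c18b21bb80ddd06ef837641bae0dd606e9837681bb0,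
  nat_lit 0x118008bd218e222ed117b08b9c45d222f11181029446ae6358411708d5bc6ad635780ded436f86aec357c0c360616e1786185904e08268c30bc09e10c308619826501323098d84c58264a132685b884c50263e132e09738f19c78d23c6d1e3586af478ca3c5d1e300f1d8cca251e93182a6a997a6a9aad43c8af4c8a058b455410d881307b3313c94150a0a1d054682ab107fa0a9c34501a240d0c0682c34401a160d0986830342a1a2a801e3e8cdf44b003b60b49c840ccfcc1663d6494e44714438930d0f80da4713438961c500e2461bf6389c1b380d9486cd036611b360d9546cb2364e1b320d98870e038621c350e1b870d038641c2c8e17470c03515,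
  nat_lit 0x4ce6443e135660a6104f19e24d338c0a054d5a2672416900b3a059e02ce215ee0b40059982d28167d0ae03d20aa448b444a914041b879dce824081e548b02fe4107a66de3d4b24e187c32a6d056f88f8583a6a3dfb553c074a43d42aa7c2d6c8e25e31925ac65c24052340c9e6d7155a020a5c7276ab3f43270e490294654ff2d00441e4b41c5a162d0396840b3fe5a042d06968490eec9c9b4b46a729939489ca03efe27264593116113b9f9bb061c88b86742aac635cee70853c2d1ca30dcd25075293a9f9d50445967536895a88b7cd2f67548863b08d9046cc2362863c88da00948237604ea88db8f07a545457350fe7d25f286b612b4a4c3cc7587d1d,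
  nat_lit 0x52bc1ff149636a57a4b55204b14aea96a552b98c34496ce4df42706137ec9bfc4df91d811381a1f164df78b63c49a8e34aa4de527023eb0c726a4d5264487b54e49712d93b8f1dc88ee2877172ffa1dc68ee3a5ff2194599b3a32ca632453a38f2e4c12ea7420ae6aeb047d710e651f4e0fac87d543eac08128fa947d423e9f39241c8e0e4a47241391d1c8f4e46a724c893d87291c2d806e76563385d5c2d26b270970b8599c328b22b5bae8f681657cf5b740e623284e7e481cb3a113d25c6d1836731b3a8da021ba6368208468da386cf212bf4af2827a4c5a08cf32d8444d812bd05afb4af5455fe159c51d22e8707facba325d0c0fbd17420ba405d1c,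
  nat_lit 0x18a90c53862830d7718a30c510627e313918a18c550f0a671ec01fd385adc4e83a890d1847fd4969e7bef025bc46e4d28e694934b19a538d2a8696088db1a578990e76413b221d920e022504889649c038eca0763f1f4b0fa407d143e941f470fa1c7d023e7a1f4d0fa08fa18250b5aa51efb16a8c6ad24ab5ad53ce5de697333ecc56f5313e98bb4c61262990fe898b74c5c0c6a472f8396b87048e5b472d239711cb98e59872fc3974809f4954a00ca79d1565037188cfeaac9580a02d6dcfdd6a632531e932f54c6d16fb30c8a98ed4c7ca6354463a228e4d05002e7d09c3de9655efa0c5d2843e016892b1ed5023389bd11706e7850c3a22b9409aa1a1,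
  nat_lit 0x4f27c3fc985b26aa35848b0b691ffcb0888d6f9532169c093cf5a732d36d69221117489aad26e305ab4de6725b203447a6c3f4672333924e276ce4d44fb9c09440dc2074103b081e2188820680cca8818440e0206a7eb30c5364bd2fd617eb1a8ed0bc26fd5a74e99e0206a88352c86dd0d4cc6a6235381aa10d5221b7a353a35751ab70d5bc6ad9356b9ab4cd5c06aee35721aba17ce27b1143ba2f9b8357e9140410586ab0e07291427a8e3d46e477af51869bea64c82de0d37a1c4f877249a430ca00ac71aa90d53c6a8b35481aa6cd52a6a97419a8e1e83e46833e4198a0cbc2a6a832b0f4bc4f6529c094de1dc7c558c99da852549eb9336d29b682cc,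
  nat_lit 0x87130ed2076770e291da10ed0076723b341d9e8ed31193aaf62164fc90edee3246b4500bbdc599605243886000cdb866d0335a19b94366c66b233650699825a53cf68a194f80bc3608e263a4e4f7b91c2c8d3a32d346c7a2abca042cb4a75fa2d1cddb78ebf79116b8dbd0d4486a02d50c507d0cc286624332a197892be86a42e759b918dc77122129119b900766e521c2fcb9b06111c02163446b22391119688d04466a2398ad0a88dc0608c36a02b7b0b001a1fc36ac194a34341a1c88de82d32168f0b4985a5c2d2a169e85d385a282d5016a41fad880fcfbcf136f3ef59f7a4fbe27e0338ef1f8280812c9ff394abc4ca45b2c9fa19af3c5386ffecb91,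
  nat_lit 0x376298e0c76a7126d38d11c664e33671a138ce06a749cce6d7941a989a4c9d4c397041ad93a9506ac835c10a18f8287be63dfe1ef80f8007c0c3df91f020f808a7a8379729e594f48a7b451180dc614f14a7b10ffb553bae0357010b80f2d619ba5536765aaa57c22e028b4505a332d1596894b44f107b2d0f96870b46c4c9227fa43ebc9fd44fee27ef13fb09fb84fe727f28d99d5410a4dd5516a27c1196d22275053232c57d0caa030f8207bd03df41f020f7f07be03ddc1eea0f7b07bc8b3d86b06357c9abdcd6006af217629ac2074026afb15cc0ae2857182b9c15c28ae04571c2b9e15c90ae510e66168c31bf9aead0e621e0a3e6521ce10e5646e3,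
  nat_lit 0x31c399430ca0311611444993f818fc2872327e19440e7d68a882574267dcb68863d48b0496cdd367a99f0727eaa75d0916e4fb33b04836c759c676a603db93d048210c8311ff0902847e0240211fb88fec47e6240430111805c29f66012300f14b2c115a601d01de9806d126c89320d4ac515c74ce812719ec8e930149c33d52f1d178f0933e5e36886444334bc5a5e012f18178ada6ef2135277739839c86cb5724a8b390d52a3099433b718daf5175f1f8f3b89ab02852e476fa200ab865954e81f1f098e247fcfbeb1f934da01f80040a099e2129798c2009621ac75ec99d58d5c00bd90710a142fca2fe30972f36c7f2d450066fc42bd289fcc872e216,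
  nat_lit 0x3dea2165de11a7f0a0d11a1648baca1a0f419697d690ca83d955ba82556d6eb06f62436cadd5d5f20b755787abe2c1cbeaf8b47c5b102345138f8ad4aedb39b4ee4e772828799dccc092e4cc70f468120045aa77344e228aefc3ac0095c4345aef3d7246868d4eca267bc42ce096f4149214f888326d68042391034f04ada7c8e75473b9b7e31cf2686dc73d252e31cf87c8ac1d6d7b627fb01aa6956517b70582f5e26467a4b98cbdac30be87518c2ec617e0d46185d222221aab30c30504479683cb21e4e4390479543c9a1e4f0f2a4756e3cb6802a389c50acf00527b36c3f91344ef66f70ebac0c56894b44637524604553f88d855a1d2a7d40fd2b44c,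
  nat_lit 0x1c428e1dc710e387802028e1f470fe03f01c450c3e55388a9c00e6aa9f651fea95a501caa3fb10b1ea9c81447a7c28752d1ce55312082894308a62353103425059502ca416494347459382c9a164a8b238592e2caa1d539358475024d6526b41357c9ae04d7287bf935a89aa24d4626aa9350c9ab43aed269e43df49aac4d48111b431884454223407cf0355444420f8f111d088a52d6e96ae4b5825ad12d420a0f8acaa5a792d7a7fa1234c11a788d4446a6235507d7c8d264691234d11a5c78963c50871d8f0f83dba3c441e2487b421c703c432bf19c11ce08a64da892998bece0b8706e28869c1a07ef43f6d1fb80fdba1ce617591faf8fdf07ec81653,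
  nat_lit 0x7ad598a39eb528afd64cb89b6442f4c99233b9bd6c807cc03ea01ec00f50079c03d601f000fb007bc03dc1b818dc146e12370d1b878dc061bba36fc19028dc494ad087c6370a234680c96a55d52b1818c94abf16d75922a31154dc6b28c3881ac8de2ba870fd59202ca20408272971ef31dd04a1083804896d94264ee8c77420e4aa8885443863bd49f7a8889443493ea510fa889874b312de37a43498d5f2e3e1b3e302be509de6d26814480a23050fb0ccf14400a1f850f62875143c0a2487104aa250ab932b3d9596af7a366332b2195a02aa94b20c562cd10452c44b2b9d38d2c9896524b27a5960df8e6fb837e59bef0dfa86fba37db4491cdf9c6fc3,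
  nat_lit 0x4a64a6ad832c6718911ed9f2f133a623ed258788a548db646cd1ae6012b48d9e46d3236c91b848dcc26610a5042e1c291c149a0a49052502904148b0a4285258297e795229a71a6f8f2ae3d353cb01e598f2bc795c5ec28471d967acbb8644d199f56ed4c89d5b9bb2ed8a5a852c81c6c8de34a5a452ca296094b08635652d000ca0060214ca017d00c1005f802f6017700cb00618a70ea6884340234d54cf073e3130629a054cfe0fdb64550d1f567ff1bc1368f20fb53b5c6d3189021b2c4fd567eac3f571fae85f74152f36730bf2c9b167eb42dc916e38b70b1095103d86a64369e20621b2d16e516d566ac63b2e9fae56d4862e25b5b2dab56d671875,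
  nat_lit 0x346cc48d4ddfe65e537801bc088b3a6ef9080f9bc105c162dd520a48a6bc5bba295717ae0b7205b1ea36d699cba8b9e2fc6a5f78c01f549ad76f17d6b5f3445e15bc0cb92c010618c7cbc57fe2bfb8f9e4152857f90f72880647e9a3f581faa0fd387e923f471db68fd48e21679e83cf21e770f3c313133ceb1e778f3b679e20040ab6495b0aad9c56c32b6355b1ead9708a5c5e6c625666592f27445e8bfc8665c88be97fc4430a6660648ca092848124491043e988bd087c08626496324bd0900698d423ba121108e6847c1e4c211ec611d13f51919932e53202990605cd8dab630720b923985a642a4baeb2624a6b9c7d9c5a20cf14cfdb8b1196e215f9,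
  nat_lit 0x56dbc6fad92eec97964be2620592e4c97556ccb25adabe8d5ec1221b57c95b12d5d957792b6515de805fb34553258192d8c9668df4b25b800dac97021208022c81a040c82065103161d1a40cc205d10348817e40c235f5352f1a9700d9455b3350cc814eab635a458bd34525a2a6013d41a3584f402f2e8a7d89e7c01b6419b6ebb903d5bae2cc49725f33289227520bd725e09eec1fda666c1e4691a940a36067f333b014604b6e66745a9d2d4d16a56b5405a9e106644b40b52d48c7c60ddab4228146ebc375cdbb34dd0b3b5bc7bcdba6229dc37931bc4cde44286f3795448e4aeb66f1b37921bc74536429a614918a6c0535829a814d20a6844fee28a9,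
  nat_lit 0x5d2401d9d74981b7953a489a84c7e4a7308ca39c0b0d044681c3414180ecb02e03ad0b0a9602e233e5a990dab06d6836c41b660db506d4836a01b480da686d506936753b125c96864638a9d5b43f90c6e0a662ae9a36d70588cdb5a6db436d9053c497cc6da336d44484c49ea5036281c43eb0a07850262818140a0a068503211ca08e0847082380863d88e2046f0239611c308e3845b62562127181f7c4aa2255a1253c32604abc2554159a8ace8567024ff1117894f05666222515a10acd9796e709b5b4181f3db3a424ed6ce53671db3988bf6126f0927c49a024ce864889348498e24e0025e893583c0a7c793c0b9f1f8f8f85ebf2c779f1ecc06e7c77,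
  nat_lit 0x93f8c0e898e53157a4b12a85357ca0962251fdae5bc2d8416b60b5d05b182d6016b40b5685b2011e216be0d66882e8417c20cc105a082d82eaa20ce106108318a82054072a018cf5ca81236a12a071504a200233ad1b0699334c974637211d799338c9ea239b19e2854f4157c0ac4056402b3215d80aba055c02ac4156e0abc5e974673c6daabd2c5e78ac3ed31b0bcee4c6d0e115455466872a0b8f298e65264e8434b1cd04c81086905b20afda1e860c22d7854938b4707af0a491bfbc28991300bed34d3322599128a8d65a28b224d0af2b456112b0893218c8225411280892844822245112188920d17068ac34591a2f0d17468ae345a1a284d15311ab,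
  nat_lit 0x3a24a15b10adc49af2e9b95e1e281a5d3442bb215c8bd1a32c342c0a160d08e0555742c6211e10afc858a0797812e50b8817b442da932410b7885d40d1ea1741507219fd7b8dc90fdee4ec63f45fa3dc9170f6f72889e91e09c98868171289917c52298651494719238b0310b115c2e319b38012da1617471b025651c70618247220aa511c7c8e48471d0cccd1c548e4a3679a390182bc4d4c46bfb056d82ae83954cedb0582352a1c2526a72323119168c918a50a323cfbf68c9e464a23268801a4007200d100448004400415449005a1cfe400b10ef9f4d4618c07413e9844d84fa6e7d2f31d39f4ea497cde672705c930c9cdc71db4b1d93a1dd808e3dd,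
  nat_lit 0x67378d4364bca7bc17ea542cd109eefd4d64453601c60468cc95e54900954012a6cf2d74a7ff9795519b92e2e95974e7905c7f36b78c0d625366d6c39e90794cb5e25b53884896afcb6ac5b5a180b96d5621145b5e01e097c4ce7ca73e939ef1cf88125a73dd39f71cf9d85fcc8ce1f33af5a8be92816d641397ce976e8c8d22fc0bd0194b666fe46afeb992128c0d5fa5fc4b300c76b849d127369c798c2f271da122c98604e3c471e4466c823656b88b5c8587b2165555c4b0f94ad4ad70dd23e83a95929c888d4c5cb2ff33b3298c52332e91507e403f301f780fb807da83eea16700fce07e103f02193f0c9c12c9096584b34258812c3096044b1c2582,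
  nat_lit 0x38100e724e032701d380f93c04e04c701230039c088985c4c2626150da2498590f60260b1307098344c2853af85c1d6562b2bc5956293d8d9deb2b91f37c600dc72a5c5937341930deadca3870a733d5b58c7723df53a829d614e98a760364529d294e326c9f538f45c5c3ad234231a108cfe46856342e1a138d078443e342c1606a34a517863cdd3317a62c931a4662c0caa1df940176a0dd31df240bc244a52658d458481235105ca76b6d0d3d4ebf11dcf6b6c2c3e85ef0d6d76b6ab5b716298b1472798979bd629479933549ac5422fdaa66a01aa00d60069c034601af42a040684033f01a800d10d0e6783f685ba23d5352a7f4076c3a6a41b39e50af,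
  nat_lit 0xaee936ce40ce30312fab22ca43cda5f59058f04f351a94bc8004d9aba0dc7843b232646c81b50ffaaf672b43159e4ad1c567d2b3d959d2206056888819959fa17de1b1e0d9106c9836501b160d8a06c3010a21b1a0c748daf86d8436c41b5c0dab06d5c36b01b5d0c4a1f878fc407c5f48f51f8708c14116bbf0ecbefa3ec011c9953a8a97a46bb2a80153bca9eb10152a7e153c462031e352ffb12fb154286d5362a4aa85cd8f056d50e1f27f1e341e9fc81fbaa61e4f8ae3f6257c91d3b1e8709eb155bc114c1e86ec38a1597bd0e941a039896c182f0616b6b23fe6c1199208fa70d81e7af4c9044b110588e0274c4168b128587f213b161f4b1145884,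
  nat_lit 0x52e9a870d7dea4c571cb0c68c415a039442c50afbdc2b44158b0ac8056502b1a15960acf056982b38159a280e14044a044501528098ed8ca034501e87d981cde27127c5d29271fdc0fed20a9b3fb29fd88fedc7f6a020300ffc07f203f502008100a151603f2854401030e328718b32839c648e320718e2bf99c614a61234f106bf034fc1b080d6d01d4835c81af803cb858c835d073e439ec1cf50e7c070ce211f1cf08e16873ec39e42bcc44120af4057a42bd305f7caf2257932bce15e54521ed2d3697434b71a5c4d2da3127b4b923a9eceeb0980b2232401aaa3d3eba2520909d47d870c2bc2db0aaf6a67543b5a5a8a15b8a6762d2c82664ffc6876c,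
  nat_lit 0x2f7b155dcdfae4d4a3546876f13b366a982e38a7671106834a156802b418b7bf2001335f16f186306ad025745aba19318e78567154262914b5920030c5f8e7884eae1177072f843f494484a1602cf9284494344a1887cb13ab21f320462056793aa457720ab51a3f93ab85d6e931f67aa8b8f6396ecf534161b3d699eac9260171f912dc89727ae520a089ffe265a413e17271eb8c1f4a4e98274e09a609d124e8b274a13a349d264e910584886a1254e62d371c42064122f8e387489cba6acc5b262bb379a9bcf4de590dae379c1bcfcde886f3b3e691f344f9aa7cf13e669e940af7c7cf7133b9f3e932ce83df51cb1bd7592401bd674693247dc49680f5,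
  nat_lit 0x6a1034f01a700d40069d034c01a560d2706a3034b64bf50bc04afec97da4bfc5fef1eedbf67c6bf6f5f619bc8cdec67201ea519ba0c67c670c338a86ce8ce08397c1cac0e57072aa18121cb2072287300396017e34721a28ed255092b049491a4ed255492b23f64a4ab069f034f61a70c36dc69d834ea1a718d37469ca34e81f8499180c8b83c91184e97bf8c8a6308d323119164a83e541b2a14150b02a863fe12a0c054a0a83a3cf8887b0d850ba924d2a3024130c8c08060451e51180f8c6daa75758531a4ce35b6a81511ae30b49859e6d231f4c9d128e87e743d2ddd1d100e8885bb13a211c2ad7ae2e2a02f84b8a906bca37d1714d0d7d072265fd1,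
  nat_lit 0x23c82d0d19fc9ac48aeb832b43ea09ac64d5e2130e1b72350a1a870d4486a0434ff1a7e0d4046a102fda3c45932654eaaae3f03b18feb0bf54074a04d6ab8f579f519c34f082f3d979e651073b572f3b04a4e6ff141b6a0da02f4e836f2576a0d9d06e44ae4318620dc179f898b41989adf4ccb36a88a43fb99614a9a864c41b20063d07f823e0f3fd61febe271e7fab3fdb1fec84612231007f488c68462c2304118608c18461c23140c9d06500328819480ca6064d815e619310c9e064e048dc07bd3c058fd5e25d65c383c021e04846925f9586c40c9e464fc327c86c58ca0064dc328c0ee38c9ec7f283f981fce0fe087f443f7e1fc80fe107f1a3f92,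
  nat_lit 0x3012c50a50e347aa82e6a9f5d8ce0e5cd239ed9651a1bb437281b960dc8c6e60372a1b8f8dc945f4e372e4d9a9c20d36509b224d9c26c9809af15e54ce2a6cbd1816ccfb6d48b23757c47116654152f8697e4724b7380a448aa26827bb903709eeccf76e07033de11eee8315818a80c49862883122189e0c4b86238315c189c4ae525718243a7cfe4ae2257052b3695c31bb49c2f120ca90511f8895344634316df52d08c6d54b44470c462423119188016fb461d230f918668c39462506c65481e92cb579017ded69e2cf89195a2d3a19f24cf871bfe81f7519ea8cf70bdbc52b42cfe17cf26749cb60b6c6c91019d316a95c45e5ee4712338899c490a833,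
  nat_lit 0x5d75ae69d9076f1f533661ff91647e66dd641c3c7e03b3a1da40a3b876c03b3c1da00ed4076c80cea1daa04ca026101310099204c70260812fc097b04c002631fcbb26477af0bfb45fc70d5c71df73f8ddfdac94531c9cc4c79b2e923e720172c23912be404589843d5f17b0c4d7c8cf09d0d57af88235516eaf5fca3aa7f2f2e5d172c812d65cb8194a972c0040432a28854172bc9b784db626da136e818f64db1014a831709b804dab86660a2b823430cd1144a0a26c513e28a3144c8a2c99ed08eb867b60b7659ec2cf5c08e6b3daa3972cf652912c4748fe8b1cdd1f46a1ae188883e7d07f8b4170d60678623c289e164f0cc78643c301e170f0be385f,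
  nat_lit 0x7d0389a345e927fcf5f2a343e55c84be590ddbc934cc64e60693ffb9ec28086c7ff83ffe01164f8831395110e08840442c221a059388838440e0b1111048882893464d1f2909c3f64a41c5215290d94834a42e52262fce83f7d14fe792e1fd0a29f228ee3f8735f1a29ed752ea5023259863254aac2fd559fa295923316b3cd4d8026bf135ec6e3d4d7d26bbcd6969af32c1b86260481e67ec33f8168d4cfcc67ea33f919fe8cfba67f62d790e5dcb5bd10862d7014d94b5cc5af62d7516bb932500c714c92a0ebcc46e2ffb4c91988a93258603d890498b746b3a6d4a369a9b4d8da766d32369e9b5102af8156e0ab6055ac2af2157685ca855a02b081580,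
  nat_lit 0x33a69d40098fe750b3a8485a7c57fe75043a8819d14deb2837c7b543d6d5cc2ed0100c82b9860ae36ed5b7cdcb780096d6d0193538a9b4979666a8954173e6ed7a702c130c27adced7a6ca8d54403af4c4a9e48d185ea217fa17a2119d35e9f28a4cc0febd411f8faf518f95a645b4c569f2a9608f19d540632c10131547b535eb92ef901396bd6937ce83740b9886f8a4211af5b191a8e37f2ae1b8b355d3ca67771d12bab071c911d05eba467746d8249ca1d87a2ca074de3afa1a9fc4b397af464b80b2fa0a2d7af0847d3e28af5dc46f83fd15902ac7f118ba0bb558ff2c8062ffeb1f759111b3d650110500940645f81627b17e24c6ac5faa2fdd0116,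
  nat_lit 0x3f5b8cf7d058082c8415e9ccb4587882ca08e9a0b10bbf85df02efa177e8bb2a5dee0b5e97624bbd65df802909480c2582463208e08dd446dd811df12bfc54245f442fa817d60bec0319a2f9e17ce062c05f482f991e410f218791c3c921e4b0f20074a23c791e440ee587dae6d1207d81b3fcda065d3236861b450da146d050c84063dc321c18f10c7e063e0320c190a85e6863f80f9807be03e101f400f6807ba03d981f480f8c07ca8630887d043f021fc10df887a043cc21a410f9087b221a05e7c1a798d4d0bd105e862f3b17a00a2f650f10667a7dda40b212f48585206ac9b500c9d8925109615d54bb38094086ffd58109f8189272b04c242e7133,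
  nat_lit 0x6b5425145ac04a5865ff3b5a748304bfda4e0b2ea7c64a0323f19250c93864883240191d0c8e44526323d2c58a7ab0d44e9e9f4f51c58c4e64c9ea04f551cbcd1ff6a1003f62a389520ba9c49299ea415141f652f118420c1f860da3082183e011043e1e3075183c0c1bcf4fc7a78368d0dbfc24767a761154048a0f4c67a7a43418e12c3b4e1593442f0bdd8896888594426971994796b09258bdac60cd5b63e868bf99abc56310b17f37f00ec70dfb26fdf29e61bf74dfb653c919f71bf893606b0cc586326fed6194b0c32c202c314b0861b7d0328018f00c7c063a8556819080c6206520320019211c44a64f1cb7a9930a95494403b58152c928841233,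
  nat_lit 0x27df13ea872944fc027d893eb09f6a4fc227dc13ef0623c3110188a0c4706230310518860c41e15fc31162b6497c44be365f1d887097c54718e5f242f8c1561c9fb696904b43c56452d14886f4b40a5a252d080d9f5b439cf28db542c170606a52dd083c0bf25b40461c4259412c6021dc2dac257412b8095984ab8256e12cc323b030ce22a40fd4323208a98c8e8647a88aa991a61a302c7a163f0b22058ec2c78084f8b22858442c8456828cb6598f8d0f659d7343e188feb3ad1896b4444e8128da18e68ad7d9a01a68af2a7b34021308e8659569729904e20a9905601244c493de0c01f8d31ae84e2188018f2eecc431cbb8c5dc82ee797754bbac5de6,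
  nat_lit 0x14170a0805044282c14140a0785032281b140e0a099986e2e9117498bc15a644cfd9332334c740a76d32a88e525031280694054a094552ce9ba93fb1322a4ff22b1296424b23256452c9470db4b1ba58e517fa963e47fc23fd8d9d46ab747f91d13d10168fef195da3ff0fe943cb13fa31fd38fe7e7f41081e9fd40fe847f4862a93216cab76bbf05b5131dcd50f0b6a71c69b2368aa627f5e2b491803c0e729ad033db81c98aaa515f129d29bfccd5a28673433e219c62fca86753573a19bdfb363349540787ad621249c690d9796e0c381295bd2080111ac81fc805b492545494cf2e924349220bacc54662a2915158a89054702a271516c33be19d82a2f,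
  nat_lit 0x6f8a93054242a6c152e8a9902c990cf286610a9a0dc3a217238521c2b83b6e70a12f3a87710bb99125987e0143e0a1ce4c04287a143b8a1da50e51a8392b1c521828f214810a3c0520c28f5147c8a3fc52002910174ca4ca082362e574996814ccbba0932f499919cc45a4acc35173a9053c5cf2cf7e2ee50b9922a70cefd869e8b8ee1a7427c517108aa0c5c962e0e17268b925df6eefa777d4bbe7ddf48eeec71bbbbecdddc2efaf77d0bbe71df16ef9377c4c89b9c50aef8077bb3be61e040ef7c77d53c089df44eec376143bec1def0f01e67bc472ec5a3a2dc167ba33dbcbd92cf73173633dc4830a41892067105e48320417d1fb043a748302417f,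
  nat_lit 0x58a7a7b496ef25e8b2cd5c66cc6c4a598e5e3c154f07d6f1c6987311cd18bafb0bda2ef49759c881c5759112ca6c149cb83525592f9bfecf73cb2585392949c61a982e53172d09e885dca27c917870bbae1a9e2f0817988bbd85aaa27e216ac8bcbe1aa62d50179d0bcd0834000ff20ca10658832441980bca10690023e419c86a48b69c5b322ede176a0a5045db82ed117700bb5d1d442c5b163ea3a7c58ea8e968a678b2351d488e9914da8a47c55082a8e153f8aa08550d0cf614f38aa285a4c2d221689c34945a302d0e16860b45c5a230d22697034c35a9eed4fd6a7c8a3d08808d4f4690a353f9a8ded4a66906353c9a9d2d4ed4eccb539851ed1d95,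
  nat_lit 0x13e089f584f9427c613e109f204f7c27d813e809f38538229ca14dc0a74219c429c814e18a6dc533229c614a40a5084fe42946866c0a5005262292f149e0a4e84fd827a400688a790018e29e014ec803a453b629de028f014340a220515028981472153605080294014921cd70e6619428fbf47e0c3ead1f7f8fc147e18208550899e441621a31352f04c5f8d39ee5e1d58882c4185b542da316cd8a59e1a5e2a260ce48b6b05b3e2da8209c904f45bea2945874b8a5e4826841441717104dc5b842db586988a63c5b5c2db316d80b6e45b88284100700033801a400e400640032801a800e6006c0037075a042721f9a109c084de427501f1909e484f803db,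
  nat_lit 0x10760837841b220dc86278838041a020ee037ac3130ca92656d32b88dd68caee656b32c0195a0cb04657c1576971b0bfda3b6743334895cbda4866d3f59a19ac24d293f9289ba1e91dba0b06f62a548965b3aa7f664d47238f0acbe360b2b26a629d4f9856426cebaacb408561b9d41d586a15d1ccab3e1a354872dc49ea7c46493b1578367e6dcb469131a3d07128d2b7128b24d5635ac86715d4a52ed0bc2756276eb217ee44bae27d3b840695d8ab4e8ed39740883dd1e472df90e7ba3b8813040962039901fc8124408c204190224811c409a14af0a53852b82968866d0a55852a8294d14b00a56054a6297b14b28a95454922a4b082a8a96453882a51,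
  nat_lit 0x42f588adc6f0e03d307a1c6544ede60f203b7b1dbe449810c8f01d9892e8495e24b21252092a0495a24b4043d021b810e00882043f021a810e80865043442b340938048802450121a1526048e023f81278091804945f738735cb7d6bef25827ac1113b7eb0515f771613499402abd0b7f8241e1ede4c91264593288992a084b192f4361864c832681936092cc4fa632590cf18c96844d42272113b089e844fc226111320897c44d8226619da0cedc092633b219dc8cee8678033b019de0cf1855482a970e5b8476455362aa2867d8aa48555c2aaa532d299814cc853854c32a99614cac984c0a05a389d1564288b1081c51ed15588aaa455322a94ff248ab4,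
  nat_lit 0x36959e130f08e5b672ba51717c5e1a57633c241e138c79c63c131e318f12228e60fb23a818f401a4263ca367b9fb04fd7c3979322f8d4e4fd7a645419791fb18e1c470ea38771b484e1c070da386b9c37ce1cc4e0128ae94584a2a6514f28b514554a2b70fcb87e41455c15580a9c055002aa8154c0a9a054b02a3815300aa4621a80d5d8860c42e4bfc46c3d1a0a980a09e19e8f618621f1c0f9007c62185c1f120f8687c243ce01f100a1e050b0286c143a0a19050b8283e14270a150508c674a339a19cc07994675c339719c94367c6750339f3d2b0df7cf4aa042f3d291e944f4b07a5d294896dc21f6850c6286494314a19c0ccb285e142e8a19650c1,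
  nat_lit 0xaa09e25e3c727f5352121db74a556a4236cec290996d089c5e53972347468783f7f56740d0ddb3b4c2216117b5bd1a250e9eb9159a129188e2f09436eeb9a6c0f72199d1601080d4428c95a41e2f88538f918d9dc065e93accdab694d158cc1530cb830b19758c8c5fd419340c8a06470326019280c880641031f0190c0c920a3f051ba170a08c50a38051b028d614690a40051d2161e0cd4066c0337019c00cca06640330c19a40cc4157f8ac1856082b1015860abdc55f62af2158a0ac0139209c924e450fc4d390a9c8e4e41a7251391885141a281b36cd9d86cfa1f810ec24d9e03f01196bc480d74540fcb8c9da000c60f61c2140208c1c97458ba23,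
  nat_lit 0xbf705fc82fc017d50bed05f782fd017f40bf305f90da22996e52c08bebe2db63c9b3c68296294afea588785bbc275e172db0f50c8afb455ca6a19c785d3c2c8a3f852040bee87fc8a3f014b728fd147dca3fc51f5133a949d8321a1f4520138190ca4b0401e87ef0e7ea179218c285e306318319418b80c5b062cc318018bc1a6fc6b658596253e581d1cb7413a2b03f5cecac0e61c3e3aba0d21c3870757c3ab01d570eab475703ab210958ea8cf2e279733cb59e5d0edd679683cb79e5e0b90315ff1b6f1f6a11a425dc946932347904aa8d248f18a70d14ab22feb6ce0062e5b374d9b56cdf366d8e13e6d5f43de8668537265fb4290c26e31290820d6,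
  nat_lit 0x1339066144cd826701334099984cb6265713320998935a85d4552559c800168a685a433482cc1495917f12a3aa55f520288bbd4ac1037e03816957f4abca5612201c54ce042d952a0a99654c22a6095318a9a43b7f52c92213cc8fa54dd11099933c9b9422053728aeb18bbca635d31b0444f0c6bc4ffe31b198da469df113f2a2e15180a8bc54642a2c14850a89c54572a29951686360319d86bd0c66861c6319e18d70c3221afa31a63c199e100f05078213c188d5605db6782a3c1d1e0e21aea312e86b404ad21ae4088d06308c48c175a312401e100ec0076803c601d500eb0076c03c801dd00efa21445c5a0b13c4294a7fe2f9f2e2594fd09cc05a6b,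
  nat_lit 0x863608b1445c422c711680301445b022dc863788b20bbfe6356310418d44c69e634b067318d1891d6635a319418c8e22725c9b1fe518c84c63e3fbf31950e8e8a9c434bc880815358a9b654d805fb95392202654de39e8a7088174a9c1f0ec283ca533be1d7c4e31169e43e8c1f3a0f99808e43e801f3c0f9507cbc3e601f363b331d950ecbc766a07d917434de960fd10b869d98936c2b1004dc88276d3bdb15dc538b2794d61f8b1020d6506ae835881ac80d6006af035661aaf0d5c06ad0c9ca64de0c9299380c9ae64d932761934222b63c404a13949e46c8c942a25f1449f01cce4be1286c4554ca90c52532a3e1521048e2547b2a3c89214498a5481,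
  nat_lit 0x1f2c8f9907cd03e741f2d0f98065a23e761f360f9c0659032b9195f0caf21b1e32c0195b8cb282be432b185f00694434d01a4e0d298696034c01a6285f18696820100ff5080903fdc20000ffe07f984032167e10023c0f81428f03278223c0dc4bb47f127814300a9377e15960854042c42b2010bc084504240210c10a4084c8568822e8117c08c20463022c0115c08ab045c022c86ee023a929f3a2a813477192341a0a690d163e9a2e86898b04058282c0e160c0b01417202c070c9f8b028579a2bcf066d8af4c57ae242186878af121a182bdc2ed6161a0bb5110c02ed517688bb3a5d9f2ed016ad4610e5e4d2f2897928bca710cc2f20178f843325e48,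
  nat_lit 0x8584831b818e50b06063c0319018c40c5f005b831a224826f8e19499be58df346f890a101be361748258b31ac9a51069a2693830169a4e8d27c602a349e145a413b25efa2f8717be49a3a5eff2f659343221be5f0a487724184a2965f2a3c1702f7521da7843471aa43c216c01236092004910247812380917848ac24681230321b4453cc860642b3219190d0c84064223212990b81b0223a611d608ed0476023a411cf08e60477023a106a2a4699343499fe4d08a68322f9e9a1e4d0c8caca4ba0ccbd58c74974dc75234fe58c538e81631a0b972eba175e221784ee104529758cbae0088485cb175c862425fe6197617fac0cf65fee887881a5cbff018bb,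
  nat_lit 0x1c608ac0ced1237a91c741da28ed1839013b481da38a88aab1f2a36a6d9d71b640052fccae36136e09b7a169f9051c5d7a415017648a78482942ebf1701c3a66173615cf0af1057982bd415970aec0574c2bc015d52f4d17a88bd483570886917a60bd2c5e8f2f4e17a48b7665bb513358ae6c97ae30ec2ddf12ee8b7803dc9355e9106d08528e1a2b50a19c11c2e569e1954c53042424121a090f04888244c120c09050481c2428120e2b9f95cd22086573a2ba106c5cae6e5741882015cf497ee2fd026c1135ec9af04d7e26c2136309b004d88871f0be5c79903cd21e670f2e079783cbe1e61c390c97ca4bf825ef12fac97d30f61126412f6846b64bee,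
  nat_lit 0x85eb066a4336419be0cd60669c336819c00cdc066e818240bfe060002ff216060c0405fa8305018040c0a0e5e8ffdc69663ffb1ff8065c07ffc3fef05bf86404618030ba185b0c2e0615230ac18538c2c8618430aa4824aa70d7dc4a3ae89901f5dcde107a8191f28c9749ba6835041a5a0d24ae3c553e32da15cccac8e28852c2c9b2e0d95251c936551b2b8d9446cba36529b2c831348a872ec9a2a7115348a9318bf22a3d152d147919fd0cfd867e4210719fa089802aa633ea86d10cfc43c0c1e020efbc307c08e61dfa0ef8011743bf21b8a1929988e4dc966e56324e1b9049b9264a315aa9b94a214c5c7b2e3c883a4a7d232e8083694f78484e20b1,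
  nat_lit 0x889a98bf6226456dd199698be84b0a33283181050a61f8a5110288543f08a22c51062882143eca21c3a941fea8ffa07fa43ba91fec0ff821cf03fea1b078ff5caaf1101c1da395598aae4556e2ab2155a0731a557c5f172ba8d4d0a6f995a1a870041bdab4324d7888f9494b04a4925301292c94a0287f252b1296a1e8a12535851ac8e0d6f83eb54c8726b450b6e991f2372ac14e3fbe8434257f2fa79c44a586b6cf2b8881c47ce237257ac7f8cfafe83a341e71e9dccd8083f9454aa9f0cbe468e208ff3a1970bf1c91275eaa17e85c4a43d4c19d146b88ea7281bb4a54b0b74933094ac712a25374b53a448f0f30b4f797cf2507d58b72f9a875aefd81,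
  nat_lit 0x36e41b708db886dcc10739b6e8db6e20d536e0179a542a8a14127db284ee2cdea14c50a2a855942943e8808eb046fc239011da08e104710239411dc08e7047417c6eb1c74c2d29d493d5ebe31517627a997c7095d97cadc9299f29b162e4f66c58c0f90b16347b7cc58e17c10be0a46159327d62acbe023ab0ac5ad7c0884391e1b0f09478403c221e150f0b878643c3a1e180f0b0455c22b8115e08af8458422a7115508a94456422ac05f702fa817c40bcf05f302f7017a60bd905ef02fc032da359a1acf0d6886b2c0c651aca0d62a1b8035934d6916ed8a9069ad74bc1c57752e7a97884d6d26b606a5035201a8f0d49863e8146d1a8d8c83c6a543517,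
  nat_lit 0x5e002a8015c00c0005200298016000c2005a002e0708c384c86f90e14070a838401c1f0e0d8709038420995881907a84091c1f0a8f86a1cb63e0c872c0f87207e526927e1bb6cb5ee0ada1b4761bdc01edff162c869c0b81c5c5229cf171c0a9945c562e3317200b8b50015139740069d700dc3e569827a71b8590022729f5d4a29b315c2e18f25d4788da536d4ba988cab9c9c221c454cc2fd20edd8bf205f8b2fcd17e7a21d65f92134a09a104d0c2682865789a284cf42696134409a384152209b105588278416420a300f1c312c415c20a516539bac0dd526eb237568f72cdd406ea2374f9baba1ce83faf1fd58fddc7f4e3fad1fdd0fecc112f0e77,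
  nat_lit 0x37e22d4c5600ec3f3640590810c4e4c808496d8344dfa7431fb92edbc23d77c50b122d2d2efc866fa69b72fa717d28be8435e82fa3011a43c505f3d2f9f17d40bb705db62edf1770a218448e22076176c444785db40bf6c3f5436c23f3f1fed136c0a3c23fed0c3a14789f410815a44759f771298e6bb0516925310188efa01177f0b9705ae62a34172c8bbe05df82e4317810bbec42c82158862b8853442b8215410a48854442d0215e2f78100de21b4088118c697b94bddc317a886e881b4fa2e7a923e901ea56226c6d561a5f18c6626ba3aef1af306ff46bee35e31afe0d7b46bdf0dc91afc025f440be20e31eec8f7707bdc3de11ef2c395c7bd03de3,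
  nat_lit 0x18510c2446128309286b5835cc611030a40b238c26847d255451d97a52f0496e94b64a5c0928ccfd3155f2ca50973cdbbc642c36f01b768dba46dd436ec9b790401215741d698eb08404c3ac91d66880b875a83acb0be405ec42fa417b30bde05ee82f8c17cc85dc85ef84f60280214020a0404ffa27fe14030a0485010280c202d0ddb61d0a4049202a101488096404d1fda8701d914095ac8ddfa42f4be42bbce2a7097c799144a0c886f68df706fac37e21bf30df406f9e37cd1bed0df5053a6299c14d59ebac55022db23d780aa4619d07aee17660baec5caa280f86a38a9285d862ece16f60bb18c530628b314818a18c510445b121c18a70c5286292,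
  nat_lit 0x4831241787e2e54bf482d0105d0f0a9057400da393076d43b571dac8eda076c83b621dad8ed4076aa1ab710648f56cd6646b2b35981ac9897446b2f359a09a003e2e1ffc0fff07fea187e17bb0ff7880283cae200460042fbe97f025f553ad99c1e1529a75a760001fbcc5bcc2de416f18a78c5bec2a7216f80b7785bde2de916a04349c5a6c292916940a474425c2d3316978b4e17d7a98088d7ba6498edb2b21301641db11438e3ea738cbc49a0d9a27bf63dfc0f0bcf7e67bfd3dff0891d1562c39d1091b0e79125246441111a249919131aff3e938ce54d36a3a371b438873cfaf836773ec09f608f10e63973c440be2cd06e556f3c429a0d0f11873a9,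
  nat_lit 0x1998ede4eef8675d3bbb08038eee2776d3bba1ddca200c5470184cc402461f619a62a348c3900eb2547604df82720139809dc04e102710139c09de04e902758658e80044834810f465c71bc350090cbd82bbe907818cb0c6406314318618c70c6146300317d18cc000ac6c8636321b2284c606c9836371b1ec373c6c90363b88a899128c8983cd1321d190fc97ba64433224190f6173e16200b12058a2173816160b088582c2c26161a78691a90c4c28a59c785ec3289641322b87865bc3386b9e35d11ae40d7486bc10dc71ae28d70c6bb035d40b8205c202e0016f80b8742eb42dec16ef0b7a05bc8ad4c56971e6295a90ad3656992b4895a504b1a569d,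
  nat_lit 0x353019514d4b6343335344473cb59c6a55303180d2d3054b5fc38951710e30b2b5fb3b9bad8196bf21e9132a519530ca82653732a94459c788c653d32a319414577669e71ba99a7c8d3dc1ce927e41a7b4c7c311c703350196c0cb206570334019740ce40667033b019b82ab4078509de055902ac0154e0aaa0552c2ab10b9312a2894e84a92253912a0894f40f8a254712a542b08aa5c5521028707d94aa4834b12a96154ca20325526882b16138afd618042c2a16114b08c584b056916148ae58572e064892be4ae425726881f15cc0ae50572287eb43f74a3d63ac417e913aa02d9c2fd9292614928a2bc3f192bb215d5cae9c18212bae15d82208a5753,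
  nat_lit 0x87f88ac84a6b0259987f30cc24a69252d929a694d2c132e25a812d8096d04b5825aa12cf896744b4c25a215a0939149c984e4687c8c32309c824e5426e643e384f66279a13da89e704f7827a713d6c33044f6c27ab271bc4974e18c4ddb38651c3303dd070c038629ad3c9b7e5bc24f7705ead3dda08b10eea27bc87074082f33138636ca3be76e13b729db70edd876ee896a95c181756216c10bf885ac4310217510bcc31644304217728f79beac36ee6c3488af0d3acdf5864fb37d807d542f5a1a400d220691834941a360d1a068bc34741a335079bdb7933787a7d732ab998120d6e652528f968b149e26ad4482c88e44a8825d91481a950c1206c040b,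
  nat_lit 0x111c887dc8e9c4e5f87c99396c9cac4e68272c8ec3408a004540221010f8087004400225011580890044685f906cf436de1b7a0db886dd037001b8804b386df857b24e1c270b0ec449c3436e11b2b138449c244e1e0cc69f22986d83be70cd599b1d3a0819c3693b076648a88452e229c0fef48a644534229d115188a7c45401c180e08418ea382e1c140e08c40ce38271c190e094325619610ccf0668833480abb0ccb066443334199319e498c68d2d85a42128d8ac580d0e25334a5845574bb5e6c99294baded144007d3e3edba87c56f64b7b757462ba1420226afe5744a1eee366aae8e0c81a22555d52aea442ee2ba7125ea048f0505a4bc8ae8aaea7,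
  nat_lit 0x27ea91b1438744fd227e313f5867d24fcd27e743ea91ae31c935b26a4a58b07a16b52c2e160a0ab9e55af2e5e83548d1ecb3db469c2178a34ba8d3746962cfb0600a40211fee87c0480510e8114ea900745e9e402317f1066bc5fd02fec17f70bf505fbc2fd617f20bf80094604ba0259012a8097d0a95025301284096804a830368be24fde89f580db9220a436261b6d4e1da70f81aca23d7863e08f6447c023de0f0608faa190223e22c3b161d0b0e05865882c161a8b0be585b2c31161e8af1a5750328b03811a19c65bb4064c73dda1943b2792ee89aacc992ac33716aab0d8badae2d219d5889a49bd61b5f26f88f57c9bc438cb26f4937bc9be44de7,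
  nat_lit 0x3344002a4ae38667b85b2199f0039e126b334119a2929189488091f894546bba94832a628d70057c2900913ef09f684fe227dc13fd09f9c25ef0cc513fa09fa5742119374b378126618cc9ff80e638896cace2b9a886e14372c6c00360806b50d8084cfa0d831aff8d8115ed2f0df298abc38862968aab348a8c4ed541f22c534869a7204b5e4b471ad984834d37635ac34e21a7087e483f1a193182174626e3f141f8e0c49c7e410e6d31d818eb8c76463b431dc0bd944a8463aa2bcf967cc60cf10ce2f330d554bce4372b2b559797cbcc624cd6349b5b98196afd28646b04bed4700c8df399b858cc63a26968267d9d91d96b05e873b7ab2d5e1ac88415,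
  nat_lit 0xdf99313cbe8a08e52fa90696621ce5f5f0a9c975a0dfd252e137f580f14dfcc25ab17349bfd0dfd86fee2e37171c8b8e85c6919f31717851f433ed2e3596900525400cd149043358524c291c14898a464501629240a9f054b42a650b8c0aa2054b82a6c152b0a9d42e45e2948737375fbc51568801ef937c32d0fd19f67e05]
theorem W0_c : blocks (rows 13 6 19 32 8191 524287 4294967295 17 131071 170 A 38475 3906 cols 12) 12 JW0 0 = true := by decide +kernel
theorem W0 : On (Row.{u} r44 LW par A 38475 3906 cols) 0 3912 :=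
  rows_of_blocks hpar (by decide) hcols W0_c (by decide +kernel)
theorem idx : Idx.{u} r44 [[0], [2], [4], [6], [10], [20], [22], [24], [26], [28]] [[0], [2], [4], [20], [22], [24], [26], [28]] 3906 :=
  idx_of_cert hpar hR (K := K) (by decide +kernel) (T := 4388) (T' := 4480) (by decide) D0
    (subs := [1,3,5,10,12,14,16,18]) (by decide +kernel) (T1 := 4395) (by decide) (N := 38475) (On.trans S0 (On.trans S1 S2))
    (by decide) (n' := 3912) (by decide) W0 (by decide +kernel) (by decide +kernel)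
end T2
theorem b_ab : Bound.{u} r44 [[0], [2]] 480 := .of_idx T0.idx (.nil _) (by decide)
theorem b_P : Bound.{u} r44 [[0], [2], [4], [20], [22], [24], [26], [28]] 1500000 := .of_idx T1.idx b_ab (by decide)
theorem bound : Bound.{u} r44 [[0], [2], [4], [6], [10], [20], [22], [24], [26], [28]] 5859000000 := .of_idx T2.idx b_P (by decide)
end
end CA.LyTC
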