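import Cfsg.Agent.Lib.Comp.CLink2
import Cfsg.Agent.Lib.Spor.LyTC
import Cfsg.Prelude.Def_ChevG2

/-! The relators 1-44 of the Lyons group hold for generators of `G₂(5)`. -/

set_option autoImplicit false
set_option linter.all false
set_option maxRecDepth 100000
set_option Elab.async false

namespace CA.LyG2
open Cfsg CA.CNet CA.CWord CA.CMat CA.CLink CA.CLink2 CA.CTodd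

instance : Fact (Nat.Prime 5) := ⟨by decide⟩
abbrev e14 : Lie.chevG2.Idx ≃ Fin 14 := finSumFinEquiv
abbrev el : ℕ → ZMod 5 := fun a => a
def ms : List (Mat × Mat) := [([[3,4,0,0,0,0,2,0,0,4,0,0,0,0],[0,1,0,0,0,0,0,0,0,0,0,0,0,0],[0,0,2,0,0,0,0,0,0,0,0,0,0,0],[0,0,0,3,3,4,0,4,0,0,0,0,0,0],[0,0,0,3,4,0,0,3,0,0,0,0,0,0],[0,0,0,2,0,1,0,4,0,0,0,0,0,0],[3,1,0,0,0,0,3,0,0,3,0,0,0,0],[0,0,0,3,1,1,0,2,0,0,0,0,0,0],[0,0,0,0,0,0,0,0,4,0,4,3,3,0],[4,3,0,0,0,0,2,0,0,3,0,0,0,0],[0,0,0,0,0,0,0,0,4,0,2,0,1,0],[0,0,0,0,0,0,0,0,4,0,0,3,2,0],[0,0,0,0,0,0,0,0,1,0,2,3,1,0],[0,0,0,0,0,0,0,0,0,0,0,0,0,3]],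
  [[3,4,0,0,0,0,2,0,0,4,0,0,0,0],[0,1,0,0,0,0,0,0,0,0,0,0,0,0],[0,0,3,0,0,0,0,0,0,0,0,0,0,0],[0,0,0,1,1,3,0,3,0,0,0,0,0,0],[0,0,0,1,3,0,0,1,0,0,0,0,0,0],[0,0,0,4,0,2,0,3,0,0,0,0,0,0],[3,1,0,0,0,0,3,0,0,3,0,0,0,0],[0,0,0,1,2,2,0,4,0,0,0,0,0,0],[0,0,0,0,0,0,0,0,2,0,2,4,4,0],[4,3,0,0,0,0,2,0,0,3,0,0,0,0],[0,0,0,0,0,0,0,0,2,0,1,0,3,0],[0,0,0,0,0,0,0,0,2,0,0,4,1,0],[0,0,0,0,0,0,0,0,3,0,1,4,3,0],[0,0,0,0,0,0,0,0,0,0,0,0,0,2]]),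
  ([[1,0,0,0,0,0,1,0,0,0,0,0,0,0],[0,1,0,0,0,0,0,0,0,0,0,0,0,0],[0,0,1,0,0,0,0,0,0,0,0,0,0,0],[0,0,0,1,0,0,0,0,0,0,0,0,0,0],[0,0,0,4,1,0,0,0,0,0,0,0,0,0],[0,0,0,4,2,1,0,0,0,0,0,0,0,0],[0,0,0,0,0,0,1,0,0,0,0,0,0,0],[0,0,0,4,3,3,0,1,0,0,0,0,0,0],[0,0,0,0,0,0,0,0,1,0,0,0,0,0],[3,1,0,0,0,0,4,0,0,1,0,0,0,0],[0,0,0,0,0,0,0,0,4,0,1,0,0,0],[0,0,0,0,0,0,0,0,1,0,3,1,0,0],[0,0,0,0,0,0,0,0,1,0,2,3,1,0],[0,0,0,0,0,0,0,0,0,0,0,0,0,1]],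
  [[1,0,0,0,0,0,4,0,0,0,0,0,0,0],[0,1,0,0,0,0,0,0,0,0,0,0,0,0],[0,0,1,0,0,0,0,0,0,0,0,0,0,0],[0,0,0,1,0,0,0,0,0,0,0,0,0,0],[0,0,0,1,1,0,0,0,0,0,0,0,0,0],[0,0,0,4,3,1,0,0,0,0,0,0,0,0],[0,0,0,0,0,0,1,0,0,0,0,0,0,0],[0,0,0,1,3,2,0,1,0,0,0,0,0,0],[0,0,0,0,0,0,0,0,1,0,0,0,0,0],[2,4,0,0,0,0,4,0,0,1,0,0,0,0],[0,0,0,0,0,0,0,0,1,0,1,0,0,0],[0,0,0,0,0,0,0,0,1,0,2,1,0,0],[0,0,0,0,0,0,0,0,4,0,2,2,1,0],[0,0,0,0,0,0,0,0,0,0,0,0,0,1]]),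
  ([[1,0,4,2,4,1,0,0,0,0,0,0,0,0],[0,1,0,2,1,3,0,0,0,0,0,0,0,0],[0,0,1,0,0,0,0,0,0,0,0,0,0,0],[0,0,0,1,0,0,0,0,0,0,0,0,0,0],[0,0,4,0,1,0,0,0,0,0,0,0,0,0],[0,0,2,0,0,1,0,0,0,0,0,0,0,0],[0,0,1,2,3,0,1,0,0,0,0,0,0,0],[0,0,2,0,0,0,0,1,0,0,0,0,0,0],[0,0,1,3,2,0,3,0,1,0,0,0,0,0],[0,0,4,0,2,1,0,4,0,1,0,0,0,0],[1,4,1,4,0,4,4,0,0,0,1,0,0,0],[3,0,1,1,0,0,3,4,0,2,0,1,0,0],[4,2,4,1,3,2,0,3,0,4,0,0,1,0],[4,3,0,1,2,2,2,4,3,3,4,3,0,1]],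
  [[1,0,4,3,1,4,0,0,0,0,0,0,0,0],[0,1,0,3,4,2,0,0,0,0,0,0,0,0],[0,0,1,0,0,0,0,0,0,0,0,0,0,0],[0,0,0,1,0,0,0,0,0,0,0,0,0,0],[0,0,1,0,1,0,0,0,0,0,0,0,0,0],[0,0,3,0,0,1,0,0,0,0,0,0,0,0],[0,0,1,3,2,0,1,0,0,0,0,0,0,0],[0,0,3,0,0,0,0,1,0,0,0,0,0,0],[0,0,4,3,2,0,2,0,1,0,0,0,0,0],[0,0,4,0,3,4,0,1,0,1,0,0,0,0],[4,1,4,4,0,4,1,0,0,0,1,0,0,0],[2,0,4,1,0,0,2,4,0,3,0,1,0,0],[1,3,1,1,3,2,0,3,0,1,0,0,1,0],[4,3,0,4,3,3,2,1,2,3,1,2,0,1]]),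
  ([[1,4,0,0,0,0,0,0,0,0,0,0,0,0],[0,4,0,0,0,0,0,0,0,0,0,0,0,0],[0,0,0,0,0,0,0,0,0,0,0,0,0,4],[0,0,0,0,0,0,0,0,1,0,0,0,0,0],[0,0,0,0,0,0,0,0,0,0,1,0,0,0],[0,0,0,0,0,0,0,0,0,0,0,4,0,0],[0,0,0,0,0,0,1,0,0,0,0,0,0,0],[0,0,0,0,0,0,0,0,0,0,0,0,4,0],[0,0,0,4,0,0,0,0,0,0,0,0,0,0],[0,0,0,0,0,0,0,0,0,1,0,0,0,0],[0,0,0,0,4,0,0,0,0,0,0,0,0,0],[0,0,0,0,0,1,0,0,0,0,0,0,0,0],[0,0,0,0,0,0,0,1,0,0,0,0,0,0],[0,0,4,0,0,0,0,0,0,0,0,0,0,0]],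
  [[1,4,0,0,0,0,0,0,0,0,0,0,0,0],[0,4,0,0,0,0,0,0,0,0,0,0,0,0],[0,0,0,0,0,0,0,0,0,0,0,0,0,4],[0,0,0,0,0,0,0,0,4,0,0,0,0,0],[0,0,0,0,0,0,0,0,0,0,4,0,0,0],[0,0,0,0,0,0,0,0,0,0,0,1,0,0],[0,0,0,0,0,0,1,0,0,0,0,0,0,0],[0,0,0,0,0,0,0,0,0,0,0,0,1,0],[0,0,0,1,0,0,0,0,0,0,0,0,0,0],[0,0,0,0,0,0,0,0,0,1,0,0,0,0],[0,0,0,0,1,0,0,0,0,0,0,0,0,0],[0,0,0,0,0,4,0,0,0,0,0,0,0,0],[0,0,0,0,0,0,0,4,0,0,0,0,0,0],[0,0,4,0,0,0,0,0,0,0,0,0,0,0]]),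
  ([[1,0,0,0,0,0,0,0,0,0,0,0,0,0],[0,1,0,0,0,0,0,0,0,0,0,0,0,0],[0,0,1,0,0,0,0,0,0,0,0,0,0,0],[0,0,0,1,0,0,0,0,0,0,0,0,0,0],[0,0,0,0,1,0,0,0,0,0,0,0,0,0],[0,0,0,0,0,1,0,0,0,0,0,0,0,0],[0,0,0,0,0,0,1,0,0,0,0,0,0,0],[0,0,0,0,0,0,0,1,0,0,0,0,0,0],[0,0,0,0,0,0,0,0,1,0,0,0,0,0],[0,0,0,0,0,0,0,0,0,1,0,0,0,0],[0,0,0,0,0,0,0,0,0,0,1,0,0,0],[0,0,0,0,0,0,0,0,0,0,0,1,0,0],[0,0,0,0,0,0,0,0,0,0,0,0,1,0],[0,0,0,0,0,0,0,0,0,0,0,0,0,1]],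
  [[1,0,0,0,0,0,0,0,0,0,0,0,0,0],[0,1,0,0,0,0,0,0,0,0,0,0,0,0],[0,0,1,0,0,0,0,0,0,0,0,0,0,0],[0,0,0,1,0,0,0,0,0,0,0,0,0,0],[0,0,0,0,1,0,0,0,0,0,0,0,0,0],[0,0,0,0,0,1,0,0,0,0,0,0,0,0],[0,0,0,0,0,0,1,0,0,0,0,0,0,0],[0,0,0,0,0,0,0,1,0,0,0,0,0,0],[0,0,0,0,0,0,0,0,1,0,0,0,0,0],[0,0,0,0,0,0,0,0,0,1,0,0,0,0],[0,0,0,0,0,0,0,0,0,0,1,0,0,0],[0,0,0,0,0,0,0,0,0,0,0,1,0,0],[0,0,0,0,0,0,0,0,0,0,0,0,1,0],[0,0,0,0,0,0,0,0,0,0,0,0,0,1]]),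
  ([[1,0,4,2,4,1,3,0,0,0,0,0,0,0],[3,4,0,4,2,0,4,0,0,0,0,0,0,0],[0,0,0,3,0,0,0,0,0,0,0,0,0,0],[0,0,2,0,0,0,0,0,0,0,0,0,0,0],[0,0,1,3,4,0,0,0,0,0,0,0,0,0],[0,0,2,0,1,0,2,0,0,0,0,0,0,0],[0,0,2,3,3,3,0,0,0,0,0,0,0,0],[0,0,4,4,3,0,2,0,4,0,0,0,0,0],[0,0,0,2,3,1,0,4,0,0,0,0,0,0],[2,3,2,4,0,3,2,0,4,0,2,0,0,0],[2,4,2,2,0,4,3,2,0,3,0,0,0,0],[1,4,2,1,4,0,0,1,1,3,1,4,0,0],[0,2,1,4,3,1,2,2,4,4,0,4,0,3],[4,3,3,1,1,1,1,0,4,1,1,3,2,0]],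
  [[1,0,4,2,4,1,3,0,0,0,0,0,0,0],[3,4,0,4,2,0,4,0,0,0,0,0,0,0],[0,0,0,3,0,0,0,0,0,0,0,0,0,0],[0,0,2,0,0,0,0,0,0,0,0,0,0,0],[0,0,1,3,4,0,0,0,0,0,0,0,0,0],[0,0,2,0,1,0,2,0,0,0,0,0,0,0],[0,0,2,3,3,3,0,0,0,0,0,0,0,0],[0,0,4,4,3,0,2,0,4,0,0,0,0,0],[0,0,0,2,3,1,0,4,0,0,0,0,0,0],[2,3,2,4,0,3,2,0,4,0,2,0,0,0],[2,4,2,2,0,4,3,2,0,3,0,0,0,0],[1,4,2,1,4,0,0,1,1,3,1,4,0,0],[0,2,1,4,3,1,2,2,4,4,0,4,0,3],[4,3,3,1,1,1,1,0,4,1,1,3,2,0]]),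
  ([[1,0,0,0,0,0,0,0,0,0,0,0,0,0],[0,1,0,0,0,0,0,0,0,0,0,0,0,0],[0,0,1,0,0,0,0,0,0,0,0,0,0,0],[0,0,0,1,0,0,0,0,0,0,0,0,0,0],[0,0,0,0,1,0,0,0,0,0,0,0,0,0],[0,0,0,0,0,1,0,0,0,0,0,0,0,0],[0,0,0,0,0,0,1,0,0,0,0,0,0,0],[0,0,0,0,0,0,0,1,0,0,0,0,0,0],[0,0,0,0,0,0,0,0,1,0,0,0,0,0],[0,0,0,0,0,0,0,0,0,1,0,0,0,0],[0,0,0,0,0,0,0,0,0,0,1,0,0,0],[0,0,0,0,0,0,0,0,0,0,0,1,0,0],[0,0,0,0,0,0,0,0,0,0,0,0,1,0],[0,0,0,0,0,0,0,0,0,0,0,0,0,1]],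
  [[1,0,0,0,0,0,0,0,0,0,0,0,0,0],[0,1,0,0,0,0,0,0,0,0,0,0,0,0],[0,0,1,0,0,0,0,0,0,0,0,0,0,0],[0,0,0,1,0,0,0,0,0,0,0,0,0,0],[0,0,0,0,1,0,0,0,0,0,0,0,0,0],[0,0,0,0,0,1,0,0,0,0,0,0,0,0],[0,0,0,0,0,0,1,0,0,0,0,0,0,0],[0,0,0,0,0,0,0,1,0,0,0,0,0,0],[0,0,0,0,0,0,0,0,1,0,0,0,0,0],[0,0,0,0,0,0,0,0,0,1,0,0,0,0],[0,0,0,0,0,0,0,0,0,0,1,0,0,0],[0,0,0,0,0,0,0,0,0,0,0,1,0,0],[0,0,0,0,0,0,0,0,0,0,0,0,1,0],[0,0,0,0,0,0,0,0,0,0,0,0,0,1]]),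
  ([[1,0,0,0,0,0,0,0,0,0,0,0,0,0],[0,1,0,0,0,0,0,0,0,0,0,0,0,0],[0,0,1,0,0,0,0,0,0,0,0,0,0,0],[0,0,0,1,0,0,0,0,0,0,0,0,0,0],[0,0,0,0,1,0,0,0,0,0,0,0,0,0],[0,0,0,0,0,1,0,0,0,0,0,0,0,0],[0,0,0,0,0,0,1,0,0,0,0,0,0,0],[0,0,0,0,0,0,0,1,0,0,0,0,0,0],[0,0,0,0,0,0,0,0,1,0,0,0,0,0],[0,0,0,0,0,0,0,0,0,1,0,0,0,0],[0,0,0,0,0,0,0,0,0,0,1,0,0,0],[0,0,0,0,0,0,0,0,0,0,0,1,0,0],[0,0,0,0,0,0,0,0,0,0,0,0,1,0],[0,0,0,0,0,0,0,0,0,0,0,0,0,1]],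
  [[1,0,0,0,0,0,0,0,0,0,0,0,0,0],[0,1,0,0,0,0,0,0,0,0,0,0,0,0],[0,0,1,0,0,0,0,0,0,0,0,0,0,0],[0,0,0,1,0,0,0,0,0,0,0,0,0,0],[0,0,0,0,1,0,0,0,0,0,0,0,0,0],[0,0,0,0,0,1,0,0,0,0,0,0,0,0],[0,0,0,0,0,0,1,0,0,0,0,0,0,0],[0,0,0,0,0,0,0,1,0,0,0,0,0,0],[0,0,0,0,0,0,0,0,1,0,0,0,0,0],[0,0,0,0,0,0,0,0,0,1,0,0,0,0],[0,0,0,0,0,0,0,0,0,0,1,0,0,0],[0,0,0,0,0,0,0,0,0,0,0,1,0,0],[0,0,0,0,0,0,0,0,0,0,0,0,1,0],[0,0,0,0,0,0,0,0,0,0,0,0,0,1]]),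
  ([[1,0,0,0,0,0,0,0,0,0,0,0,0,0],[0,1,0,0,0,0,0,0,0,0,0,0,0,0],[0,0,1,0,0,0,0,0,0,0,0,0,0,0],[0,0,0,1,0,0,0,0,0,0,0,0,0,0],[0,0,0,0,1,0,0,0,0,0,0,0,0,0],[0,0,0,0,0,1,0,0,0,0,0,0,0,0],[0,0,0,0,0,0,1,0,0,0,0,0,0,0],[0,0,0,0,0,0,0,1,0,0,0,0,0,0],[0,0,0,0,0,0,0,0,1,0,0,0,0,0],[0,0,0,0,0,0,0,0,0,1,0,0,0,0],[0,0,0,0,0,0,0,0,0,0,1,0,0,0],[0,0,0,0,0,0,0,0,0,0,0,1,0,0],[0,0,0,0,0,0,0,0,0,0,0,0,1,0],[0,0,0,0,0,0,0,0,0,0,0,0,0,1]],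
  [[1,0,0,0,0,0,0,0,0,0,0,0,0,0],[0,1,0,0,0,0,0,0,0,0,0,0,0,0],[0,0,1,0,0,0,0,0,0,0,0,0,0,0],[0,0,0,1,0,0,0,0,0,0,0,0,0,0],[0,0,0,0,1,0,0,0,0,0,0,0,0,0],[0,0,0,0,0,1,0,0,0,0,0,0,0,0],[0,0,0,0,0,0,1,0,0,0,0,0,0,0],[0,0,0,0,0,0,0,1,0,0,0,0,0,0],[0,0,0,0,0,0,0,0,1,0,0,0,0,0],[0,0,0,0,0,0,0,0,0,1,0,0,0,0],[0,0,0,0,0,0,0,0,0,0,1,0,0,0],[0,0,0,0,0,0,0,0,0,0,0,1,0,0],[0,0,0,0,0,0,0,0,0,0,0,0,1,0],[0,0,0,0,0,0,0,0,0,0,0,0,0,1]]),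
  ([[1,0,0,0,0,0,0,0,0,0,0,0,0,0],[0,1,0,0,0,0,0,0,0,0,0,0,0,0],[0,0,1,0,0,0,0,0,0,0,0,0,0,0],[0,0,0,1,0,0,0,0,0,0,0,0,0,0],[0,0,0,0,1,0,0,0,0,0,0,0,0,0],[0,0,0,0,0,1,0,0,0,0,0,0,0,0],[0,0,0,0,0,0,1,0,0,0,0,0,0,0],[0,0,0,0,0,0,0,1,0,0,0,0,0,0],[0,0,0,0,0,0,0,0,1,0,0,0,0,0],[0,0,0,0,0,0,0,0,0,1,0,0,0,0],[0,0,0,0,0,0,0,0,0,0,1,0,0,0],[0,0,0,0,0,0,0,0,0,0,0,1,0,0],[0,0,0,0,0,0,0,0,0,0,0,0,1,0],[0,0,0,0,0,0,0,0,0,0,0,0,0,1]],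
  [[1,0,0,0,0,0,0,0,0,0,0,0,0,0],[0,1,0,0,0,0,0,0,0,0,0,0,0,0],[0,0,1,0,0,0,0,0,0,0,0,0,0,0],[0,0,0,1,0,0,0,0,0,0,0,0,0,0],[0,0,0,0,1,0,0,0,0,0,0,0,0,0],[0,0,0,0,0,1,0,0,0,0,0,0,0,0],[0,0,0,0,0,0,1,0,0,0,0,0,0,0],[0,0,0,0,0,0,0,1,0,0,0,0,0,0],[0,0,0,0,0,0,0,0,1,0,0,0,0,0],[0,0,0,0,0,0,0,0,0,1,0,0,0,0],[0,0,0,0,0,0,0,0,0,0,1,0,0,0],[0,0,0,0,0,0,0,0,0,0,0,1,0,0],[0,0,0,0,0,0,0,0,0,0,0,0,1,0],[0,0,0,0,0,0,0,0,0,0,0,0,0,1]]),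
  ([[1,0,4,2,4,1,0,0,0,0,0,0,0,0],[0,1,0,2,1,3,0,0,0,0,0,0,0,0],[0,0,1,0,0,0,0,0,0,0,0,0,0,0],[0,0,0,1,0,0,0,0,0,0,0,0,0,0],[0,0,4,0,1,0,0,0,0,0,0,0,0,0],[0,0,2,0,0,1,0,0,0,0,0,0,0,0],[0,0,1,2,3,0,1,0,0,0,0,0,0,0],[0,0,2,0,0,0,0,1,0,0,0,0,0,0],[0,0,1,3,2,0,3,0,1,0,0,0,0,0],[0,0,4,0,2,1,0,4,0,1,0,0,0,0],[1,4,1,4,0,4,4,0,0,0,1,0,0,0],[3,0,1,1,0,0,3,4,0,2,0,1,0,0],[4,2,4,1,3,2,0,3,0,4,0,0,1,0],[4,3,0,1,2,2,2,4,3,3,4,3,0,1]],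
  [[1,0,4,3,1,4,0,0,0,0,0,0,0,0],[0,1,0,3,4,2,0,0,0,0,0,0,0,0],[0,0,1,0,0,0,0,0,0,0,0,0,0,0],[0,0,0,1,0,0,0,0,0,0,0,0,0,0],[0,0,1,0,1,0,0,0,0,0,0,0,0,0],[0,0,3,0,0,1,0,0,0,0,0,0,0,0],[0,0,1,3,2,0,1,0,0,0,0,0,0,0],[0,0,3,0,0,0,0,1,0,0,0,0,0,0],[0,0,4,3,2,0,2,0,1,0,0,0,0,0],[0,0,4,0,3,4,0,1,0,1,0,0,0,0],[4,1,4,4,0,4,1,0,0,0,1,0,0,0],[2,0,4,1,0,0,2,4,0,3,0,1,0,0],[1,3,1,1,3,2,0,3,0,1,0,0,1,0],[4,3,0,4,3,3,2,1,2,3,1,2,0,1]]),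
  ([[1,0,0,0,0,2,0,0,0,0,0,0,0,0],[0,1,0,0,0,1,0,3,0,0,0,0,0,0],[0,0,1,0,0,0,0,0,0,0,0,0,0,0],[0,0,2,1,0,0,0,0,0,0,0,0,0,0],[0,0,3,0,1,0,0,0,0,0,0,0,0,0],[0,0,0,0,0,1,0,0,0,0,0,0,0,0],[0,0,4,0,1,2,1,0,0,0,0,0,0,0],[0,0,0,0,0,0,0,1,0,0,0,0,0,0],[4,4,3,0,3,2,1,1,1,0,0,0,0,0],[0,0,0,0,0,0,0,3,0,1,0,0,0,0],[2,3,0,0,0,1,0,4,0,3,1,0,0,0],[0,0,0,0,0,0,0,1,0,4,0,1,0,0],[0,0,0,0,0,0,0,0,0,0,0,0,1,0],[0,0,0,0,0,0,0,2,0,2,0,1,3,1]],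
  [[1,0,0,0,0,3,0,0,0,0,0,0,0,0],[0,1,0,0,0,4,0,2,0,0,0,0,0,0],[0,0,1,0,0,0,0,0,0,0,0,0,0,0],[0,0,3,1,0,0,0,0,0,0,0,0,0,0],[0,0,2,0,1,0,0,0,0,0,0,0,0,0],[0,0,0,0,0,1,0,0,0,0,0,0,0,0],[0,0,4,0,4,3,1,0,0,0,0,0,0,0],[0,0,0,0,0,0,0,1,0,0,0,0,0,0],[1,1,2,0,3,2,4,1,1,0,0,0,0,0],[0,0,0,0,0,0,0,2,0,1,0,0,0,0],[3,2,0,0,0,1,0,4,0,2,1,0,0,0],[0,0,0,0,0,0,0,1,0,1,0,1,0,0],[0,0,0,0,0,0,0,0,0,0,0,0,1,0],[0,0,0,0,0,0,0,3,0,2,0,4,2,1]]),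
  ([[1,0,3,3,3,1,0,0,0,0,0,0,0,0],[0,1,0,3,2,3,0,0,0,0,0,0,0,0],[0,0,1,0,0,0,0,0,0,0,0,0,0,0],[0,0,0,1,0,0,0,0,0,0,0,0,0,0],[0,0,4,0,1,0,0,0,0,0,0,0,0,0],[0,0,4,0,0,1,0,0,0,0,0,0,0,0],[0,0,1,4,3,0,1,0,0,0,0,0,0,0],[0,0,3,0,0,0,0,1,0,0,0,0,0,0],[0,0,1,1,2,0,3,0,1,0,0,0,0,0],[0,0,1,0,3,2,0,4,0,1,0,0,0,0],[1,4,2,1,0,4,3,0,0,0,1,0,0,0],[1,0,4,3,0,0,2,4,0,2,0,1,0,0],[1,3,2,1,4,3,0,1,0,3,0,0,1,0],[3,1,0,3,3,4,3,4,2,3,3,3,0,1]],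
  [[1,0,3,2,2,4,0,0,0,0,0,0,0,0],[0,1,0,2,3,2,0,0,0,0,0,0,0,0],[0,0,1,0,0,0,0,0,0,0,0,0,0,0],[0,0,0,1,0,0,0,0,0,0,0,0,0,0],[0,0,1,0,1,0,0,0,0,0,0,0,0,0],[0,0,1,0,0,1,0,0,0,0,0,0,0,0],[0,0,1,1,2,0,1,0,0,0,0,0,0,0],[0,0,2,0,0,0,0,1,0,0,0,0,0,0],[0,0,4,1,2,0,2,0,1,0,0,0,0,0],[0,0,1,0,2,3,0,1,0,1,0,0,0,0],[4,1,3,1,0,4,2,0,0,0,1,0,0,0],[4,0,1,3,0,0,3,4,0,3,0,1,0,0],[4,2,3,1,4,3,0,1,0,2,0,0,1,0],[3,1,0,2,2,1,3,1,3,3,2,2,0,1]]),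
  ([[1,0,0,0,0,1,0,0,0,0,0,0,0,0],[0,1,0,0,0,3,0,0,0,0,0,0,0,0],[0,0,1,0,0,0,0,0,0,0,0,0,0,0],[0,0,0,1,0,0,0,0,0,0,0,0,0,0],[0,0,4,0,1,0,0,0,0,0,0,0,0,0],[0,0,0,0,0,1,0,0,0,0,0,0,0,0],[0,0,1,0,3,0,1,0,0,0,0,0,0,0],[0,0,0,0,0,0,0,1,0,0,0,0,0,0],[0,0,1,0,2,0,3,0,1,0,0,0,0,0],[0,0,0,0,0,0,0,4,0,1,0,0,0,0],[1,4,0,0,0,4,0,0,0,0,1,0,0,0],[0,0,0,0,0,0,0,4,0,2,0,1,0,0],[0,0,0,0,0,0,0,0,0,0,0,0,1,0],[0,0,0,0,0,0,0,4,0,3,0,3,0,1]],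
  [[1,0,0,0,0,4,0,0,0,0,0,0,0,0],[0,1,0,0,0,2,0,0,0,0,0,0,0,0],[0,0,1,0,0,0,0,0,0,0,0,0,0,0],[0,0,0,1,0,0,0,0,0,0,0,0,0,0],[0,0,1,0,1,0,0,0,0,0,0,0,0,0],[0,0,0,0,0,1,0,0,0,0,0,0,0,0],[0,0,1,0,2,0,1,0,0,0,0,0,0,0],[0,0,0,0,0,0,0,1,0,0,0,0,0,0],[0,0,4,0,2,0,2,0,1,0,0,0,0,0],[0,0,0,0,0,0,0,1,0,1,0,0,0,0],[4,1,0,0,0,4,0,0,0,0,1,0,0,0],[0,0,0,0,0,0,0,4,0,3,0,1,0,0],[0,0,0,0,0,0,0,0,0,0,0,0,1,0],[0,0,0,0,0,0,0,1,0,3,0,2,0,1]]),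
  ([[1,0,2,0,0,0,0,0,0,0,0,0,0,0],[0,1,4,0,0,0,0,0,0,0,0,0,0,0],[0,0,1,0,0,0,0,0,0,0,0,0,0,0],[0,0,0,1,0,0,0,0,0,0,0,0,0,0],[0,0,0,0,1,0,0,0,0,0,0,0,0,0],[0,0,0,0,0,1,0,0,0,0,0,0,0,0],[0,0,0,0,0,0,1,0,0,0,0,0,0,0],[0,0,0,0,0,0,0,1,0,0,0,0,0,0],[0,0,0,2,0,0,0,0,1,0,0,0,0,0],[0,0,0,0,0,0,0,0,0,1,0,0,0,0],[0,0,0,0,2,0,0,0,0,0,1,0,0,0],[0,0,0,0,0,3,0,0,0,0,0,1,0,0],[0,0,0,0,0,0,0,3,0,0,0,0,1,0],[0,3,1,0,0,0,0,0,0,0,0,0,0,1]],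
  [[1,0,3,0,0,0,0,0,0,0,0,0,0,0],[0,1,1,0,0,0,0,0,0,0,0,0,0,0],[0,0,1,0,0,0,0,0,0,0,0,0,0,0],[0,0,0,1,0,0,0,0,0,0,0,0,0,0],[0,0,0,0,1,0,0,0,0,0,0,0,0,0],[0,0,0,0,0,1,0,0,0,0,0,0,0,0],[0,0,0,0,0,0,1,0,0,0,0,0,0,0],[0,0,0,0,0,0,0,1,0,0,0,0,0,0],[0,0,0,3,0,0,0,0,1,0,0,0,0,0],[0,0,0,0,0,0,0,0,0,1,0,0,0,0],[0,0,0,0,3,0,0,0,0,0,1,0,0,0],[0,0,0,0,0,2,0,0,0,0,0,1,0,0],[0,0,0,0,0,0,0,2,0,0,0,0,1,0],[0,2,1,0,0,0,0,0,0,0,0,0,0,1]])]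
def XS : List Mat := [[[1,0,0,0,0,0,0,0,0,0,0,0,0,0],[0,1,0,0,0,0,0,0,0,0,0,0,0,0],[0,0,1,0,0,0,0,0,0,0,0,0,0,0],[0,0,0,1,0,0,0,0,0,0,0,0,0,0],[0,0,0,0,1,0,0,0,0,0,0,0,0,0],[0,0,0,0,0,1,0,0,0,0,0,0,0,0],[0,0,0,0,0,0,1,0,0,0,0,0,0,0],[0,0,0,0,0,0,0,1,0,0,0,0,0,0],[0,0,0,0,0,0,0,0,1,0,0,0,0,0],[0,0,0,0,0,0,0,0,0,1,0,0,0,0],[0,0,0,0,0,0,0,0,0,0,1,0,0,0],[0,0,0,0,0,0,0,0,0,0,0,1,0,0],[0,0,0,0,0,0,0,0,0,0,0,0,1,0],[0,0,0,0,0,0,0,0,0,0,0,0,0,1]],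
  [[1,0,0,0,0,0,0,0,0,0,0,0,0,4],[0,1,0,0,0,0,0,0,0,0,0,0,0,3],[0,1,1,0,0,0,0,0,0,0,0,0,0,4],[0,0,0,1,0,0,0,0,1,0,0,0,0,0],[0,0,0,0,1,0,0,0,0,0,1,0,0,0],[0,0,0,0,0,1,0,0,0,0,0,4,0,0],[0,0,0,0,0,0,1,0,0,0,0,0,0,0],[0,0,0,0,0,0,0,1,0,0,0,0,4,0],[0,0,0,0,0,0,0,0,1,0,0,0,0,0],[0,0,0,0,0,0,0,0,0,1,0,0,0,0],[0,0,0,0,0,0,0,0,0,0,1,0,0,0],[0,0,0,0,0,0,0,0,0,0,0,1,0,0],[0,0,0,0,0,0,0,0,0,0,0,0,1,0],[0,0,0,0,0,0,0,0,0,0,0,0,0,1]],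
  [[1,0,0,0,0,0,0,0,0,0,0,0,0,3],[0,1,0,0,0,0,0,0,0,0,0,0,0,1],[0,2,1,0,0,0,0,0,0,0,0,0,0,1],[0,0,0,1,0,0,0,0,2,0,0,0,0,0],[0,0,0,0,1,0,0,0,0,0,2,0,0,0],[0,0,0,0,0,1,0,0,0,0,0,3,0,0],[0,0,0,0,0,0,1,0,0,0,0,0,0,0],[0,0,0,0,0,0,0,1,0,0,0,0,3,0],[0,0,0,0,0,0,0,0,1,0,0,0,0,0],[0,0,0,0,0,0,0,0,0,1,0,0,0,0],[0,0,0,0,0,0,0,0,0,0,1,0,0,0],[0,0,0,0,0,0,0,0,0,0,0,1,0,0],[0,0,0,0,0,0,0,0,0,0,0,0,1,0],[0,0,0,0,0,0,0,0,0,0,0,0,0,1]],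
  [[1,0,0,0,0,0,0,0,0,0,0,0,0,2],[0,1,0,0,0,0,0,0,0,0,0,0,0,4],[0,3,1,0,0,0,0,0,0,0,0,0,0,1],[0,0,0,1,0,0,0,0,3,0,0,0,0,0],[0,0,0,0,1,0,0,0,0,0,3,0,0,0],[0,0,0,0,0,1,0,0,0,0,0,2,0,0],[0,0,0,0,0,0,1,0,0,0,0,0,0,0],[0,0,0,0,0,0,0,1,0,0,0,0,2,0],[0,0,0,0,0,0,0,0,1,0,0,0,0,0],[0,0,0,0,0,0,0,0,0,1,0,0,0,0],[0,0,0,0,0,0,0,0,0,0,1,0,0,0],[0,0,0,0,0,0,0,0,0,0,0,1,0,0],[0,0,0,0,0,0,0,0,0,0,0,0,1,0],[0,0,0,0,0,0,0,0,0,0,0,0,0,1]],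
  [[1,0,0,0,0,0,0,0,0,0,0,0,0,1],[0,1,0,0,0,0,0,0,0,0,0,0,0,2],[0,4,1,0,0,0,0,0,0,0,0,0,0,4],[0,0,0,1,0,0,0,0,4,0,0,0,0,0],[0,0,0,0,1,0,0,0,0,0,4,0,0,0],[0,0,0,0,0,1,0,0,0,0,0,1,0,0],[0,0,0,0,0,0,1,0,0,0,0,0,0,0],[0,0,0,0,0,0,0,1,0,0,0,0,1,0],[0,0,0,0,0,0,0,0,1,0,0,0,0,0],[0,0,0,0,0,0,0,0,0,1,0,0,0,0],[0,0,0,0,0,0,0,0,0,0,1,0,0,0],[0,0,0,0,0,0,0,0,0,0,0,1,0,0],[0,0,0,0,0,0,0,0,0,0,0,0,1,0],[0,0,0,0,0,0,0,0,0,0,0,0,0,1]],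
  [[1,0,0,0,0,0,0,0,0,0,0,0,0,0],[0,1,0,0,0,0,0,0,0,0,0,0,0,0],[0,0,1,0,0,0,0,0,0,0,0,0,0,0],[0,0,0,1,0,0,0,0,0,0,0,0,0,0],[0,0,0,0,1,0,0,0,0,0,0,0,0,0],[0,0,0,0,0,1,0,0,0,0,0,0,0,0],[0,0,0,0,0,0,1,0,0,0,0,0,0,0],[0,0,0,0,0,0,0,1,0,0,0,0,0,0],[0,0,0,0,0,0,0,0,1,0,0,0,0,0],[0,0,0,0,0,0,0,0,0,1,0,0,0,0],[0,0,0,0,0,0,0,0,0,0,1,0,0,0],[0,0,0,0,0,0,0,0,0,0,0,1,0,0],[0,0,0,0,0,0,0,0,0,0,0,0,1,0],[0,0,0,0,0,0,0,0,0,0,0,0,0,1]],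
  [[1,0,0,0,0,0,0,0,0,0,0,0,4,0],[0,1,0,0,0,0,0,0,0,0,0,0,4,0],[0,0,1,0,0,0,0,1,0,0,0,0,0,0],[3,4,0,1,0,0,0,0,0,0,0,0,4,0],[0,0,0,0,1,0,0,0,0,1,0,0,0,0],[0,0,0,0,0,1,0,0,0,0,0,0,0,0],[0,0,0,0,0,0,1,0,0,0,0,4,0,0],[0,0,0,0,0,0,0,1,0,0,0,0,0,0],[0,0,0,0,0,0,0,0,1,0,0,0,0,4],[0,0,0,0,0,0,0,0,0,1,0,0,0,0],[0,0,0,0,0,0,0,0,0,0,1,0,0,0],[0,0,0,0,0,0,0,0,0,0,0,1,0,0],[0,0,0,0,0,0,0,0,0,0,0,0,1,0],[0,0,0,0,0,0,0,0,0,0,0,0,0,1]],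
  [[1,0,0,0,0,0,0,0,0,0,0,0,3,0],[0,1,0,0,0,0,0,0,0,0,0,0,3,0],[0,0,1,0,0,0,0,2,0,0,0,0,0,0],[1,3,0,1,0,0,0,0,0,0,0,0,1,0],[0,0,0,0,1,0,0,0,0,2,0,0,0,0],[0,0,0,0,0,1,0,0,0,0,0,0,0,0],[0,0,0,0,0,0,1,0,0,0,0,3,0,0],[0,0,0,0,0,0,0,1,0,0,0,0,0,0],[0,0,0,0,0,0,0,0,1,0,0,0,0,3],[0,0,0,0,0,0,0,0,0,1,0,0,0,0],[0,0,0,0,0,0,0,0,0,0,1,0,0,0],[0,0,0,0,0,0,0,0,0,0,0,1,0,0],[0,0,0,0,0,0,0,0,0,0,0,0,1,0],[0,0,0,0,0,0,0,0,0,0,0,0,0,1]],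
  [[1,0,0,0,0,0,0,0,0,0,0,0,2,0],[0,1,0,0,0,0,0,0,0,0,0,0,2,0],[0,0,1,0,0,0,0,3,0,0,0,0,0,0],[4,2,0,1,0,0,0,0,0,0,0,0,1,0],[0,0,0,0,1,0,0,0,0,3,0,0,0,0],[0,0,0,0,0,1,0,0,0,0,0,0,0,0],[0,0,0,0,0,0,1,0,0,0,0,2,0,0],[0,0,0,0,0,0,0,1,0,0,0,0,0,0],[0,0,0,0,0,0,0,0,1,0,0,0,0,2],[0,0,0,0,0,0,0,0,0,1,0,0,0,0],[0,0,0,0,0,0,0,0,0,0,1,0,0,0],[0,0,0,0,0,0,0,0,0,0,0,1,0,0],[0,0,0,0,0,0,0,0,0,0,0,0,1,0],[0,0,0,0,0,0,0,0,0,0,0,0,0,1]],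
  [[1,0,0,0,0,0,0,0,0,0,0,0,1,0],[0,1,0,0,0,0,0,0,0,0,0,0,1,0],[0,0,1,0,0,0,0,4,0,0,0,0,0,0],[2,1,0,1,0,0,0,0,0,0,0,0,4,0],[0,0,0,0,1,0,0,0,0,4,0,0,0,0],[0,0,0,0,0,1,0,0,0,0,0,0,0,0],[0,0,0,0,0,0,1,0,0,0,0,1,0,0],[0,0,0,0,0,0,0,1,0,0,0,0,0,0],[0,0,0,0,0,0,0,0,1,0,0,0,0,1],[0,0,0,0,0,0,0,0,0,1,0,0,0,0],[0,0,0,0,0,0,0,0,0,0,1,0,0,0],[0,0,0,0,0,0,0,0,0,0,0,1,0,0],[0,0,0,0,0,0,0,0,0,0,0,0,1,0],[0,0,0,0,0,0,0,0,0,0,0,0,0,1]],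
  [[1,0,0,0,0,0,0,0,0,0,0,0,0,0],[0,1,0,0,0,0,0,0,0,0,0,0,0,0],[0,0,1,0,0,0,0,0,0,0,0,0,0,0],[0,0,0,1,0,0,0,0,0,0,0,0,0,0],[0,0,0,0,1,0,0,0,0,0,0,0,0,0],[0,0,0,0,0,1,0,0,0,0,0,0,0,0],[0,0,0,0,0,0,1,0,0,0,0,0,0,0],[0,0,0,0,0,0,0,1,0,0,0,0,0,0],[0,0,0,0,0,0,0,0,1,0,0,0,0,0],[0,0,0,0,0,0,0,0,0,1,0,0,0,0],[0,0,0,0,0,0,0,0,0,0,1,0,0,0],[0,0,0,0,0,0,0,0,0,0,0,1,0,0],[0,0,0,0,0,0,0,0,0,0,0,0,1,0],[0,0,0,0,0,0,0,0,0,0,0,0,0,1]],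
  [[1,0,0,0,0,0,0,0,0,0,0,3,0,0],[0,1,0,0,0,0,0,0,0,0,0,2,0,0],[0,0,1,0,0,3,0,0,0,2,0,0,1,0],[0,0,0,1,0,0,3,0,0,0,3,0,0,4],[1,0,0,0,1,0,0,0,0,0,0,4,0,0],[0,0,0,0,0,1,0,0,0,3,0,0,1,0],[0,0,0,0,0,0,1,0,0,0,2,0,0,4],[0,0,0,0,0,0,0,1,0,0,0,0,0,0],[0,0,0,0,0,0,0,0,1,0,0,0,0,0],[0,0,0,0,0,0,0,0,0,1,0,0,4,0],[0,0,0,0,0,0,0,0,0,0,1,0,0,4],[0,0,0,0,0,0,0,0,0,0,0,1,0,0],[0,0,0,0,0,0,0,0,0,0,0,0,1,0],[0,0,0,0,0,0,0,0,0,0,0,0,0,1]],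
  [[1,0,0,0,0,0,0,0,0,0,0,1,0,0],[0,1,0,0,0,0,0,0,0,0,0,4,0,0],[0,0,1,0,0,1,0,0,0,3,0,0,3,0],[0,0,0,1,0,0,1,0,0,0,2,0,0,2],[2,0,0,0,1,0,0,0,0,0,0,1,0,0],[0,0,0,0,0,1,0,0,0,1,0,0,4,0],[0,0,0,0,0,0,1,0,0,0,4,0,0,1],[0,0,0,0,0,0,0,1,0,0,0,0,0,0],[0,0,0,0,0,0,0,0,1,0,0,0,0,0],[0,0,0,0,0,0,0,0,0,1,0,0,3,0],[0,0,0,0,0,0,0,0,0,0,1,0,0,3],[0,0,0,0,0,0,0,0,0,0,0,1,0,0],[0,0,0,0,0,0,0,0,0,0,0,0,1,0],[0,0,0,0,0,0,0,0,0,0,0,0,0,1]],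
  [[1,0,0,0,0,0,0,0,0,0,0,4,0,0],[0,1,0,0,0,0,0,0,0,0,0,1,0,0],[0,0,1,0,0,4,0,0,0,3,0,0,2,0],[0,0,0,1,0,0,4,0,0,0,2,0,0,3],[3,0,0,0,1,0,0,0,0,0,0,1,0,0],[0,0,0,0,0,1,0,0,0,4,0,0,4,0],[0,0,0,0,0,0,1,0,0,0,1,0,0,1],[0,0,0,0,0,0,0,1,0,0,0,0,0,0],[0,0,0,0,0,0,0,0,1,0,0,0,0,0],[0,0,0,0,0,0,0,0,0,1,0,0,2,0],[0,0,0,0,0,0,0,0,0,0,1,0,0,2],[0,0,0,0,0,0,0,0,0,0,0,1,0,0],[0,0,0,0,0,0,0,0,0,0,0,0,1,0],[0,0,0,0,0,0,0,0,0,0,0,0,0,1]],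
  [[1,0,0,0,0,0,0,0,0,0,0,2,0,0],[0,1,0,0,0,0,0,0,0,0,0,3,0,0],[0,0,1,0,0,2,0,0,0,2,0,0,4,0],[0,0,0,1,0,0,2,0,0,0,3,0,0,1],[4,0,0,0,1,0,0,0,0,0,0,4,0,0],[0,0,0,0,0,1,0,0,0,2,0,0,1,0],[0,0,0,0,0,0,1,0,0,0,3,0,0,4],[0,0,0,0,0,0,0,1,0,0,0,0,0,0],[0,0,0,0,0,0,0,0,1,0,0,0,0,0],[0,0,0,0,0,0,0,0,0,1,0,0,1,0],[0,0,0,0,0,0,0,0,0,0,1,0,0,1],[0,0,0,0,0,0,0,0,0,0,0,1,0,0],[0,0,0,0,0,0,0,0,0,0,0,0,1,0],[0,0,0,0,0,0,0,0,0,0,0,0,0,1]],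
  [[1,0,0,0,0,0,0,0,0,0,0,0,0,0],[0,1,0,0,0,0,0,0,0,0,0,0,0,0],[0,0,1,0,0,0,0,0,0,0,0,0,0,0],[0,0,0,1,0,0,0,0,0,0,0,0,0,0],[0,0,0,0,1,0,0,0,0,0,0,0,0,0],[0,0,0,0,0,1,0,0,0,0,0,0,0,0],[0,0,0,0,0,0,1,0,0,0,0,0,0,0],[0,0,0,0,0,0,0,1,0,0,0,0,0,0],[0,0,0,0,0,0,0,0,1,0,0,0,0,0],[0,0,0,0,0,0,0,0,0,1,0,0,0,0],[0,0,0,0,0,0,0,0,0,0,1,0,0,0],[0,0,0,0,0,0,0,0,0,0,0,1,0,0],[0,0,0,0,0,0,0,0,0,0,0,0,1,0],[0,0,0,0,0,0,0,0,0,0,0,0,0,1]],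
  [[1,0,0,0,0,0,0,0,0,0,4,0,0,0],[0,1,0,0,0,0,0,0,0,0,2,0,0,0],[0,0,1,0,2,0,3,0,1,0,0,0,0,0],[0,0,0,1,0,0,0,0,0,0,0,0,0,0],[0,0,0,0,1,0,3,0,4,0,0,0,0,0],[4,1,0,0,0,1,0,0,0,0,4,0,0,0],[0,0,0,0,0,0,1,0,1,0,0,0,0,0],[0,0,0,0,0,0,0,1,0,2,0,2,0,4],[0,0,0,0,0,0,0,0,1,0,0,0,0,0],[0,0,0,0,0,0,0,0,0,1,0,2,0,1],[0,0,0,0,0,0,0,0,0,0,1,0,0,0],[0,0,0,0,0,0,0,0,0,0,0,1,0,1],[0,0,0,0,0,0,0,0,0,0,0,0,1,0],[0,0,0,0,0,0,0,0,0,0,0,0,0,1]],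
  [[1,0,0,0,0,0,0,0,0,0,3,0,0,0],[0,1,0,0,0,0,0,0,0,0,4,0,0,0],[0,0,1,0,4,0,2,0,3,0,0,0,0,0],[0,0,0,1,0,0,0,0,0,0,0,0,0,0],[0,0,0,0,1,0,1,0,1,0,0,0,0,0],[3,2,0,0,0,1,0,0,0,0,1,0,0,0],[0,0,0,0,0,0,1,0,2,0,0,0,0,0],[0,0,0,0,0,0,0,1,0,4,0,3,0,2],[0,0,0,0,0,0,0,0,1,0,0,0,0,0],[0,0,0,0,0,0,0,0,0,1,0,4,0,4],[0,0,0,0,0,0,0,0,0,0,1,0,0,0],[0,0,0,0,0,0,0,0,0,0,0,1,0,2],[0,0,0,0,0,0,0,0,0,0,0,0,1,0],[0,0,0,0,0,0,0,0,0,0,0,0,0,1]],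
  [[1,0,0,0,0,0,0,0,0,0,2,0,0,0],[0,1,0,0,0,0,0,0,0,0,1,0,0,0],[0,0,1,0,1,0,2,0,2,0,0,0,0,0],[0,0,0,1,0,0,0,0,0,0,0,0,0,0],[0,0,0,0,1,0,4,0,1,0,0,0,0,0],[2,3,0,0,0,1,0,0,0,0,1,0,0,0],[0,0,0,0,0,0,1,0,3,0,0,0,0,0],[0,0,0,0,0,0,0,1,0,1,0,3,0,3],[0,0,0,0,0,0,0,0,1,0,0,0,0,0],[0,0,0,0,0,0,0,0,0,1,0,1,0,4],[0,0,0,0,0,0,0,0,0,0,1,0,0,0],[0,0,0,0,0,0,0,0,0,0,0,1,0,3],[0,0,0,0,0,0,0,0,0,0,0,0,1,0],[0,0,0,0,0,0,0,0,0,0,0,0,0,1]],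
  [[1,0,0,0,0,0,0,0,0,0,1,0,0,0],[0,1,0,0,0,0,0,0,0,0,3,0,0,0],[0,0,1,0,3,0,3,0,4,0,0,0,0,0],[0,0,0,1,0,0,0,0,0,0,0,0,0,0],[0,0,0,0,1,0,2,0,4,0,0,0,0,0],[1,4,0,0,0,1,0,0,0,0,4,0,0,0],[0,0,0,0,0,0,1,0,4,0,0,0,0,0],[0,0,0,0,0,0,0,1,0,3,0,2,0,1],[0,0,0,0,0,0,0,0,1,0,0,0,0,0],[0,0,0,0,0,0,0,0,0,1,0,3,0,1],[0,0,0,0,0,0,0,0,0,0,1,0,0,0],[0,0,0,0,0,0,0,0,0,0,0,1,0,4],[0,0,0,0,0,0,0,0,0,0,0,0,1,0],[0,0,0,0,0,0,0,0,0,0,0,0,0,1]],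
  [[1,0,0,0,0,0,0,0,0,0,0,0,0,0],[0,1,0,0,0,0,0,0,0,0,0,0,0,0],[0,0,1,0,0,0,0,0,0,0,0,0,0,0],[0,0,0,1,0,0,0,0,0,0,0,0,0,0],[0,0,0,0,1,0,0,0,0,0,0,0,0,0],[0,0,0,0,0,1,0,0,0,0,0,0,0,0],[0,0,0,0,0,0,1,0,0,0,0,0,0,0],[0,0,0,0,0,0,0,1,0,0,0,0,0,0],[0,0,0,0,0,0,0,0,1,0,0,0,0,0],[0,0,0,0,0,0,0,0,0,1,0,0,0,0],[0,0,0,0,0,0,0,0,0,0,1,0,0,0],[0,0,0,0,0,0,0,0,0,0,0,1,0,0],[0,0,0,0,0,0,0,0,0,0,0,0,1,0],[0,0,0,0,0,0,0,0,0,0,0,0,0,1]],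
  [[1,0,0,0,0,0,0,0,0,4,0,0,0,0],[0,1,0,0,0,0,0,0,0,0,0,0,0,0],[0,0,1,0,0,0,0,0,0,0,0,0,0,0],[0,0,0,1,2,2,0,4,0,0,0,0,0,0],[0,0,0,0,1,2,0,1,0,0,0,0,0,0],[0,0,0,0,0,1,0,1,0,0,0,0,0,0],[2,4,0,0,0,0,1,0,0,4,0,0,0,0],[0,0,0,0,0,0,0,1,0,0,0,0,0,0],[0,0,0,0,0,0,0,0,1,0,2,3,1,0],[0,0,0,0,0,0,0,0,0,1,0,0,0,0],[0,0,0,0,0,0,0,0,0,0,1,3,4,0],[0,0,0,0,0,0,0,0,0,0,0,1,1,0],[0,0,0,0,0,0,0,0,0,0,0,0,1,0],[0,0,0,0,0,0,0,0,0,0,0,0,0,1]],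
  [[1,0,0,0,0,0,0,0,0,3,0,0,0,0],[0,1,0,0,0,0,0,0,0,0,0,0,0,0],[0,0,1,0,0,0,0,0,0,0,0,0,0,0],[0,0,0,1,4,3,0,2,0,0,0,0,0,0],[0,0,0,0,1,4,0,4,0,0,0,0,0,0],[0,0,0,0,0,1,0,2,0,0,0,0,0,0],[4,3,0,0,0,0,1,0,0,1,0,0,0,0],[0,0,0,0,0,0,0,1,0,0,0,0,0,0],[0,0,0,0,0,0,0,0,1,0,4,2,3,0],[0,0,0,0,0,0,0,0,0,1,0,0,0,0],[0,0,0,0,0,0,0,0,0,0,1,1,1,0],[0,0,0,0,0,0,0,0,0,0,0,1,2,0],[0,0,0,0,0,0,0,0,0,0,0,0,1,0],[0,0,0,0,0,0,0,0,0,0,0,0,0,1]],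
  [[1,0,0,0,0,0,0,0,0,2,0,0,0,0],[0,1,0,0,0,0,0,0,0,0,0,0,0,0],[0,0,1,0,0,0,0,0,0,0,0,0,0,0],[0,0,0,1,1,3,0,3,0,0,0,0,0,0],[0,0,0,0,1,1,0,4,0,0,0,0,0,0],[0,0,0,0,0,1,0,3,0,0,0,0,0,0],[1,2,0,0,0,0,1,0,0,1,0,0,0,0],[0,0,0,0,0,0,0,1,0,0,0,0,0,0],[0,0,0,0,0,0,0,0,1,0,1,2,2,0],[0,0,0,0,0,0,0,0,0,1,0,0,0,0],[0,0,0,0,0,0,0,0,0,0,1,4,1,0],[0,0,0,0,0,0,0,0,0,0,0,1,3,0],[0,0,0,0,0,0,0,0,0,0,0,0,1,0],[0,0,0,0,0,0,0,0,0,0,0,0,0,1]],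
  [[1,0,0,0,0,0,0,0,0,1,0,0,0,0],[0,1,0,0,0,0,0,0,0,0,0,0,0,0],[0,0,1,0,0,0,0,0,0,0,0,0,0,0],[0,0,0,1,3,2,0,1,0,0,0,0,0,0],[0,0,0,0,1,3,0,1,0,0,0,0,0,0],[0,0,0,0,0,1,0,4,0,0,0,0,0,0],[3,1,0,0,0,0,1,0,0,4,0,0,0,0],[0,0,0,0,0,0,0,1,0,0,0,0,0,0],[0,0,0,0,0,0,0,0,1,0,3,3,4,0],[0,0,0,0,0,0,0,0,0,1,0,0,0,0],[0,0,0,0,0,0,0,0,0,0,1,2,4,0],[0,0,0,0,0,0,0,0,0,0,0,1,4,0],[0,0,0,0,0,0,0,0,0,0,0,0,1,0],[0,0,0,0,0,0,0,0,0,0,0,0,0,1]],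
  [[1,0,0,0,0,0,0,0,0,0,0,0,0,0],[0,1,0,0,0,0,0,0,0,0,0,0,0,0],[0,0,1,0,0,0,0,0,0,0,0,0,0,0],[0,0,0,1,0,0,0,0,0,0,0,0,0,0],[0,0,0,0,1,0,0,0,0,0,0,0,0,0],[0,0,0,0,0,1,0,0,0,0,0,0,0,0],[0,0,0,0,0,0,1,0,0,0,0,0,0,0],[0,0,0,0,0,0,0,1,0,0,0,0,0,0],[0,0,0,0,0,0,0,0,1,0,0,0,0,0],[0,0,0,0,0,0,0,0,0,1,0,0,0,0],[0,0,0,0,0,0,0,0,0,0,1,0,0,0],[0,0,0,0,0,0,0,0,0,0,0,1,0,0],[0,0,0,0,0,0,0,0,0,0,0,0,1,0],[0,0,0,0,0,0,0,0,0,0,0,0,0,1]],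
  [[1,0,0,0,0,0,0,0,0,0,0,0,0,0],[0,1,0,0,0,0,0,0,4,0,0,0,0,0],[0,0,1,4,0,0,0,0,0,0,0,0,0,0],[0,0,0,1,0,0,0,0,0,0,0,0,0,0],[0,0,0,0,1,0,0,0,0,0,0,0,0,0],[0,0,0,0,0,1,4,0,0,0,0,0,0,0],[0,0,0,0,0,0,1,0,0,0,0,0,0,0],[2,2,0,0,0,0,0,1,4,0,0,0,0,0],[0,0,0,0,0,0,0,0,1,0,0,0,0,0],[0,0,0,0,0,0,0,0,0,1,1,0,0,0],[0,0,0,0,0,0,0,0,0,0,1,0,0,0],[0,0,0,0,0,0,0,0,0,0,0,1,0,0],[0,0,0,0,0,0,0,0,0,0,0,0,1,1],[0,0,0,0,0,0,0,0,0,0,0,0,0,1]],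
  [[1,0,0,0,0,0,0,0,0,0,0,0,0,0],[0,1,0,0,0,0,0,0,3,0,0,0,0,0],[0,0,1,3,0,0,0,0,0,0,0,0,0,0],[0,0,0,1,0,0,0,0,0,0,0,0,0,0],[0,0,0,0,1,0,0,0,0,0,0,0,0,0],[0,0,0,0,0,1,3,0,0,0,0,0,0,0],[0,0,0,0,0,0,1,0,0,0,0,0,0,0],[4,4,0,0,0,0,0,1,1,0,0,0,0,0],[0,0,0,0,0,0,0,0,1,0,0,0,0,0],[0,0,0,0,0,0,0,0,0,1,2,0,0,0],[0,0,0,0,0,0,0,0,0,0,1,0,0,0],[0,0,0,0,0,0,0,0,0,0,0,1,0,0],[0,0,0,0,0,0,0,0,0,0,0,0,1,2],[0,0,0,0,0,0,0,0,0,0,0,0,0,1]],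
  [[1,0,0,0,0,0,0,0,0,0,0,0,0,0],[0,1,0,0,0,0,0,0,2,0,0,0,0,0],[0,0,1,2,0,0,0,0,0,0,0,0,0,0],[0,0,0,1,0,0,0,0,0,0,0,0,0,0],[0,0,0,0,1,0,0,0,0,0,0,0,0,0],[0,0,0,0,0,1,2,0,0,0,0,0,0,0],[0,0,0,0,0,0,1,0,0,0,0,0,0,0],[1,1,0,0,0,0,0,1,1,0,0,0,0,0],[0,0,0,0,0,0,0,0,1,0,0,0,0,0],[0,0,0,0,0,0,0,0,0,1,3,0,0,0],[0,0,0,0,0,0,0,0,0,0,1,0,0,0],[0,0,0,0,0,0,0,0,0,0,0,1,0,0],[0,0,0,0,0,0,0,0,0,0,0,0,1,3],[0,0,0,0,0,0,0,0,0,0,0,0,0,1]],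
  [[1,0,0,0,0,0,0,0,0,0,0,0,0,0],[0,1,0,0,0,0,0,0,1,0,0,0,0,0],[0,0,1,1,0,0,0,0,0,0,0,0,0,0],[0,0,0,1,0,0,0,0,0,0,0,0,0,0],[0,0,0,0,1,0,0,0,0,0,0,0,0,0],[0,0,0,0,0,1,1,0,0,0,0,0,0,0],[0,0,0,0,0,0,1,0,0,0,0,0,0,0],[3,3,0,0,0,0,0,1,4,0,0,0,0,0],[0,0,0,0,0,0,0,0,1,0,0,0,0,0],[0,0,0,0,0,0,0,0,0,1,4,0,0,0],[0,0,0,0,0,0,0,0,0,0,1,0,0,0],[0,0,0,0,0,0,0,0,0,0,0,1,0,0],[0,0,0,0,0,0,0,0,0,0,0,0,1,4],[0,0,0,0,0,0,0,0,0,0,0,0,0,1]],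
  [[1,0,0,0,0,0,0,0,0,0,0,0,0,0],[0,1,0,0,0,0,0,0,0,0,0,0,0,0],[0,0,1,0,0,0,0,0,0,0,0,0,0,0],[0,0,0,1,0,0,0,0,0,0,0,0,0,0],[0,0,0,0,1,0,0,0,0,0,0,0,0,0],[0,0,0,0,0,1,0,0,0,0,0,0,0,0],[0,0,0,0,0,0,1,0,0,0,0,0,0,0],[0,0,0,0,0,0,0,1,0,0,0,0,0,0],[0,0,0,0,0,0,0,0,1,0,0,0,0,0],[0,0,0,0,0,0,0,0,0,1,0,0,0,0],[0,0,0,0,0,0,0,0,0,0,1,0,0,0],[0,0,0,0,0,0,0,0,0,0,0,1,0,0],[0,0,0,0,0,0,0,0,0,0,0,0,1,0],[0,0,0,0,0,0,0,0,0,0,0,0,0,1]],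
  [[1,0,0,0,0,0,0,0,0,0,0,0,0,0],[0,1,0,0,0,0,0,1,0,0,0,0,0,0],[0,0,1,0,0,0,0,0,0,0,0,0,0,0],[0,0,4,1,0,0,0,0,0,0,0,0,0,0],[0,0,0,0,1,0,0,0,0,0,0,0,0,0],[0,0,0,0,0,1,0,0,0,0,0,0,0,0],[0,0,0,0,0,4,1,0,0,0,0,0,0,0],[0,0,0,0,0,0,0,1,0,0,0,0,0,0],[3,3,0,0,0,0,0,4,1,0,0,0,0,0],[0,0,0,0,0,0,0,0,0,1,0,0,0,0],[0,0,0,0,0,0,0,0,0,1,1,0,0,0],[0,0,0,0,0,0,0,0,0,0,0,1,0,0],[0,0,0,0,0,0,0,0,0,0,0,0,1,0],[0,0,0,0,0,0,0,0,0,0,0,0,1,1]],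
  [[1,0,0,0,0,0,0,0,0,0,0,0,0,0],[0,1,0,0,0,0,0,2,0,0,0,0,0,0],[0,0,1,0,0,0,0,0,0,0,0,0,0,0],[0,0,3,1,0,0,0,0,0,0,0,0,0,0],[0,0,0,0,1,0,0,0,0,0,0,0,0,0],[0,0,0,0,0,1,0,0,0,0,0,0,0,0],[0,0,0,0,0,3,1,0,0,0,0,0,0,0],[0,0,0,0,0,0,0,1,0,0,0,0,0,0],[1,1,0,0,0,0,0,1,1,0,0,0,0,0],[0,0,0,0,0,0,0,0,0,1,0,0,0,0],[0,0,0,0,0,0,0,0,0,2,1,0,0,0],[0,0,0,0,0,0,0,0,0,0,0,1,0,0],[0,0,0,0,0,0,0,0,0,0,0,0,1,0],[0,0,0,0,0,0,0,0,0,0,0,0,2,1]],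
  [[1,0,0,0,0,0,0,0,0,0,0,0,0,0],[0,1,0,0,0,0,0,3,0,0,0,0,0,0],[0,0,1,0,0,0,0,0,0,0,0,0,0,0],[0,0,2,1,0,0,0,0,0,0,0,0,0,0],[0,0,0,0,1,0,0,0,0,0,0,0,0,0],[0,0,0,0,0,1,0,0,0,0,0,0,0,0],[0,0,0,0,0,2,1,0,0,0,0,0,0,0],[0,0,0,0,0,0,0,1,0,0,0,0,0,0],[4,4,0,0,0,0,0,1,1,0,0,0,0,0],[0,0,0,0,0,0,0,0,0,1,0,0,0,0],[0,0,0,0,0,0,0,0,0,3,1,0,0,0],[0,0,0,0,0,0,0,0,0,0,0,1,0,0],[0,0,0,0,0,0,0,0,0,0,0,0,1,0],[0,0,0,0,0,0,0,0,0,0,0,0,3,1]],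
  [[1,0,0,0,0,0,0,0,0,0,0,0,0,0],[0,1,0,0,0,0,0,4,0,0,0,0,0,0],[0,0,1,0,0,0,0,0,0,0,0,0,0,0],[0,0,1,1,0,0,0,0,0,0,0,0,0,0],[0,0,0,0,1,0,0,0,0,0,0,0,0,0],[0,0,0,0,0,1,0,0,0,0,0,0,0,0],[0,0,0,0,0,1,1,0,0,0,0,0,0,0],[0,0,0,0,0,0,0,1,0,0,0,0,0,0],[2,2,0,0,0,0,0,4,1,0,0,0,0,0],[0,0,0,0,0,0,0,0,0,1,0,0,0,0],[0,0,0,0,0,0,0,0,0,4,1,0,0,0],[0,0,0,0,0,0,0,0,0,0,0,1,0,0],[0,0,0,0,0,0,0,0,0,0,0,0,1,0],[0,0,0,0,0,0,0,0,0,0,0,0,4,1]],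
  [[1,0,0,0,0,0,0,0,0,0,0,0,0,0],[0,1,0,0,0,0,0,0,0,0,0,0,0,0],[0,0,1,0,0,0,0,0,0,0,0,0,0,0],[0,0,0,1,0,0,0,0,0,0,0,0,0,0],[0,0,0,0,1,0,0,0,0,0,0,0,0,0],[0,0,0,0,0,1,0,0,0,0,0,0,0,0],[0,0,0,0,0,0,1,0,0,0,0,0,0,0],[0,0,0,0,0,0,0,1,0,0,0,0,0,0],[0,0,0,0,0,0,0,0,1,0,0,0,0,0],[0,0,0,0,0,0,0,0,0,1,0,0,0,0],[0,0,0,0,0,0,0,0,0,0,1,0,0,0],[0,0,0,0,0,0,0,0,0,0,0,1,0,0],[0,0,0,0,0,0,0,0,0,0,0,0,1,0],[0,0,0,0,0,0,0,0,0,0,0,0,0,1]],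
  [[1,0,0,0,0,0,1,0,0,0,0,0,0,0],[0,1,0,0,0,0,0,0,0,0,0,0,0,0],[0,0,1,0,0,0,0,0,0,0,0,0,0,0],[0,0,0,1,0,0,0,0,0,0,0,0,0,0],[0,0,0,4,1,0,0,0,0,0,0,0,0,0],[0,0,0,4,2,1,0,0,0,0,0,0,0,0],[0,0,0,0,0,0,1,0,0,0,0,0,0,0],[0,0,0,4,3,3,0,1,0,0,0,0,0,0],[0,0,0,0,0,0,0,0,1,0,0,0,0,0],[3,1,0,0,0,0,4,0,0,1,0,0,0,0],[0,0,0,0,0,0,0,0,4,0,1,0,0,0],[0,0,0,0,0,0,0,0,1,0,3,1,0,0],[0,0,0,0,0,0,0,0,1,0,2,3,1,0],[0,0,0,0,0,0,0,0,0,0,0,0,0,1]],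
  [[1,0,0,0,0,0,2,0,0,0,0,0,0,0],[0,1,0,0,0,0,0,0,0,0,0,0,0,0],[0,0,1,0,0,0,0,0,0,0,0,0,0,0],[0,0,0,1,0,0,0,0,0,0,0,0,0,0],[0,0,0,3,1,0,0,0,0,0,0,0,0,0],[0,0,0,1,4,1,0,0,0,0,0,0,0,0],[0,0,0,0,0,0,1,0,0,0,0,0,0,0],[0,0,0,2,2,1,0,1,0,0,0,0,0,0],[0,0,0,0,0,0,0,0,1,0,0,0,0,0],[1,2,0,0,0,0,1,0,0,1,0,0,0,0],[0,0,0,0,0,0,0,0,3,0,1,0,0,0],[0,0,0,0,0,0,0,0,4,0,1,1,0,0],[0,0,0,0,0,0,0,0,3,0,3,1,1,0],[0,0,0,0,0,0,0,0,0,0,0,0,0,1]],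
  [[1,0,0,0,0,0,3,0,0,0,0,0,0,0],[0,1,0,0,0,0,0,0,0,0,0,0,0,0],[0,0,1,0,0,0,0,0,0,0,0,0,0,0],[0,0,0,1,0,0,0,0,0,0,0,0,0,0],[0,0,0,2,1,0,0,0,0,0,0,0,0,0],[0,0,0,1,1,1,0,0,0,0,0,0,0,0],[0,0,0,0,0,0,1,0,0,0,0,0,0,0],[0,0,0,3,2,4,0,1,0,0,0,0,0,0],[0,0,0,0,0,0,0,0,1,0,0,0,0,0],[4,3,0,0,0,0,1,0,0,1,0,0,0,0],[0,0,0,0,0,0,0,0,2,0,1,0,0,0],[0,0,0,0,0,0,0,0,4,0,4,1,0,0],[0,0,0,0,0,0,0,0,2,0,3,4,1,0],[0,0,0,0,0,0,0,0,0,0,0,0,0,1]],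
  [[1,0,0,0,0,0,4,0,0,0,0,0,0,0],[0,1,0,0,0,0,0,0,0,0,0,0,0,0],[0,0,1,0,0,0,0,0,0,0,0,0,0,0],[0,0,0,1,0,0,0,0,0,0,0,0,0,0],[0,0,0,1,1,0,0,0,0,0,0,0,0,0],[0,0,0,4,3,1,0,0,0,0,0,0,0,0],[0,0,0,0,0,0,1,0,0,0,0,0,0,0],[0,0,0,1,3,2,0,1,0,0,0,0,0,0],[0,0,0,0,0,0,0,0,1,0,0,0,0,0],[2,4,0,0,0,0,4,0,0,1,0,0,0,0],[0,0,0,0,0,0,0,0,1,0,1,0,0,0],[0,0,0,0,0,0,0,0,1,0,2,1,0,0],[0,0,0,0,0,0,0,0,4,0,2,2,1,0],[0,0,0,0,0,0,0,0,0,0,0,0,0,1]],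
  [[1,0,0,0,0,0,0,0,0,0,0,0,0,0],[0,1,0,0,0,0,0,0,0,0,0,0,0,0],[0,0,1,0,0,0,0,0,0,0,0,0,0,0],[0,0,0,1,0,0,0,0,0,0,0,0,0,0],[0,0,0,0,1,0,0,0,0,0,0,0,0,0],[0,0,0,0,0,1,0,0,0,0,0,0,0,0],[0,0,0,0,0,0,1,0,0,0,0,0,0,0],[0,0,0,0,0,0,0,1,0,0,0,0,0,0],[0,0,0,0,0,0,0,0,1,0,0,0,0,0],[0,0,0,0,0,0,0,0,0,1,0,0,0,0],[0,0,0,0,0,0,0,0,0,0,1,0,0,0],[0,0,0,0,0,0,0,0,0,0,0,1,0,0],[0,0,0,0,0,0,0,0,0,0,0,0,1,0],[0,0,0,0,0,0,0,0,0,0,0,0,0,1]],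
  [[1,0,0,0,0,1,0,0,0,0,0,0,0,0],[0,1,0,0,0,3,0,0,0,0,0,0,0,0],[0,0,1,0,0,0,0,0,0,0,0,0,0,0],[0,0,0,1,0,0,0,0,0,0,0,0,0,0],[0,0,4,0,1,0,0,0,0,0,0,0,0,0],[0,0,0,0,0,1,0,0,0,0,0,0,0,0],[0,0,1,0,3,0,1,0,0,0,0,0,0,0],[0,0,0,0,0,0,0,1,0,0,0,0,0,0],[0,0,1,0,2,0,3,0,1,0,0,0,0,0],[0,0,0,0,0,0,0,4,0,1,0,0,0,0],[1,4,0,0,0,4,0,0,0,0,1,0,0,0],[0,0,0,0,0,0,0,4,0,2,0,1,0,0],[0,0,0,0,0,0,0,0,0,0,0,0,1,0],[0,0,0,0,0,0,0,4,0,3,0,3,0,1]],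
  [[1,0,0,0,0,2,0,0,0,0,0,0,0,0],[0,1,0,0,0,1,0,0,0,0,0,0,0,0],[0,0,1,0,0,0,0,0,0,0,0,0,0,0],[0,0,0,1,0,0,0,0,0,0,0,0,0,0],[0,0,3,0,1,0,0,0,0,0,0,0,0,0],[0,0,0,0,0,1,0,0,0,0,0,0,0,0],[0,0,4,0,1,0,1,0,0,0,0,0,0,0],[0,0,0,0,0,0,0,1,0,0,0,0,0,0],[0,0,3,0,3,0,1,0,1,0,0,0,0,0],[0,0,0,0,0,0,0,3,0,1,0,0,0,0],[2,3,0,0,0,1,0,0,0,0,1,0,0,0],[0,0,0,0,0,0,0,1,0,4,0,1,0,0],[0,0,0,0,0,0,0,0,0,0,0,0,1,0],[0,0,0,0,0,0,0,2,0,2,0,1,0,1]],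
  [[1,0,0,0,0,3,0,0,0,0,0,0,0,0],[0,1,0,0,0,4,0,0,0,0,0,0,0,0],[0,0,1,0,0,0,0,0,0,0,0,0,0,0],[0,0,0,1,0,0,0,0,0,0,0,0,0,0],[0,0,2,0,1,0,0,0,0,0,0,0,0,0],[0,0,0,0,0,1,0,0,0,0,0,0,0,0],[0,0,4,0,4,0,1,0,0,0,0,0,0,0],[0,0,0,0,0,0,0,1,0,0,0,0,0,0],[0,0,2,0,3,0,4,0,1,0,0,0,0,0],[0,0,0,0,0,0,0,2,0,1,0,0,0,0],[3,2,0,0,0,1,0,0,0,0,1,0,0,0],[0,0,0,0,0,0,0,1,0,1,0,1,0,0],[0,0,0,0,0,0,0,0,0,0,0,0,1,0],[0,0,0,0,0,0,0,3,0,2,0,4,0,1]],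
  [[1,0,0,0,0,4,0,0,0,0,0,0,0,0],[0,1,0,0,0,2,0,0,0,0,0,0,0,0],[0,0,1,0,0,0,0,0,0,0,0,0,0,0],[0,0,0,1,0,0,0,0,0,0,0,0,0,0],[0,0,1,0,1,0,0,0,0,0,0,0,0,0],[0,0,0,0,0,1,0,0,0,0,0,0,0,0],[0,0,1,0,2,0,1,0,0,0,0,0,0,0],[0,0,0,0,0,0,0,1,0,0,0,0,0,0],[0,0,4,0,2,0,2,0,1,0,0,0,0,0],[0,0,0,0,0,0,0,1,0,1,0,0,0,0],[4,1,0,0,0,4,0,0,0,0,1,0,0,0],[0,0,0,0,0,0,0,4,0,3,0,1,0,0],[0,0,0,0,0,0,0,0,0,0,0,0,1,0],[0,0,0,0,0,0,0,1,0,3,0,2,0,1]],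
  [[1,0,0,0,0,0,0,0,0,0,0,0,0,0],[0,1,0,0,0,0,0,0,0,0,0,0,0,0],[0,0,1,0,0,0,0,0,0,0,0,0,0,0],[0,0,0,1,0,0,0,0,0,0,0,0,0,0],[0,0,0,0,1,0,0,0,0,0,0,0,0,0],[0,0,0,0,0,1,0,0,0,0,0,0,0,0],[0,0,0,0,0,0,1,0,0,0,0,0,0,0],[0,0,0,0,0,0,0,1,0,0,0,0,0,0],[0,0,0,0,0,0,0,0,1,0,0,0,0,0],[0,0,0,0,0,0,0,0,0,1,0,0,0,0],[0,0,0,0,0,0,0,0,0,0,1,0,0,0],[0,0,0,0,0,0,0,0,0,0,0,1,0,0],[0,0,0,0,0,0,0,0,0,0,0,0,1,0],[0,0,0,0,0,0,0,0,0,0,0,0,0,1]],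
  [[1,0,0,0,2,0,0,0,0,0,0,0,0,0],[0,1,0,0,3,0,0,0,0,0,0,0,0,0],[0,0,1,0,0,0,0,0,0,0,0,0,0,0],[0,0,0,1,0,0,0,0,0,0,0,0,0,0],[0,0,0,0,1,0,0,0,0,0,0,0,0,0],[0,0,1,0,0,1,0,0,0,0,0,0,0,0],[0,0,0,1,0,0,1,0,0,0,0,0,0,0],[0,0,0,0,0,0,0,1,0,0,0,0,0,0],[0,0,0,0,0,0,0,0,1,0,0,0,0,0],[0,0,4,0,0,3,0,0,0,1,0,0,0,0],[0,0,0,1,0,0,2,0,0,0,1,0,0,0],[4,0,0,0,4,0,0,0,0,0,0,1,0,0],[0,0,1,0,0,3,0,0,0,2,0,0,1,0],[0,0,0,4,0,0,2,0,0,0,2,0,0,1]],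
  [[1,0,0,0,4,0,0,0,0,0,0,0,0,0],[0,1,0,0,1,0,0,0,0,0,0,0,0,0],[0,0,1,0,0,0,0,0,0,0,0,0,0,0],[0,0,0,1,0,0,0,0,0,0,0,0,0,0],[0,0,0,0,1,0,0,0,0,0,0,0,0,0],[0,0,2,0,0,1,0,0,0,0,0,0,0,0],[0,0,0,2,0,0,1,0,0,0,0,0,0,0],[0,0,0,0,0,0,0,1,0,0,0,0,0,0],[0,0,0,0,0,0,0,0,1,0,0,0,0,0],[0,0,1,0,0,1,0,0,0,1,0,0,0,0],[0,0,0,4,0,0,4,0,0,0,1,0,0,0],[3,0,0,0,1,0,0,0,0,0,0,1,0,0],[0,0,3,0,0,2,0,0,0,4,0,0,1,0],[0,0,0,2,0,0,3,0,0,0,4,0,0,1]],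
  [[1,0,0,0,1,0,0,0,0,0,0,0,0,0],[0,1,0,0,4,0,0,0,0,0,0,0,0,0],[0,0,1,0,0,0,0,0,0,0,0,0,0,0],[0,0,0,1,0,0,0,0,0,0,0,0,0,0],[0,0,0,0,1,0,0,0,0,0,0,0,0,0],[0,0,3,0,0,1,0,0,0,0,0,0,0,0],[0,0,0,3,0,0,1,0,0,0,0,0,0,0],[0,0,0,0,0,0,0,1,0,0,0,0,0,0],[0,0,0,0,0,0,0,0,1,0,0,0,0,0],[0,0,1,0,0,4,0,0,0,1,0,0,0,0],[0,0,0,4,0,0,1,0,0,0,1,0,0,0],[2,0,0,0,1,0,0,0,0,0,0,1,0,0],[0,0,2,0,0,2,0,0,0,1,0,0,1,0],[0,0,0,3,0,0,3,0,0,0,1,0,0,1]],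
  [[1,0,0,0,3,0,0,0,0,0,0,0,0,0],[0,1,0,0,2,0,0,0,0,0,0,0,0,0],[0,0,1,0,0,0,0,0,0,0,0,0,0,0],[0,0,0,1,0,0,0,0,0,0,0,0,0,0],[0,0,0,0,1,0,0,0,0,0,0,0,0,0],[0,0,4,0,0,1,0,0,0,0,0,0,0,0],[0,0,0,4,0,0,1,0,0,0,0,0,0,0],[0,0,0,0,0,0,0,1,0,0,0,0,0,0],[0,0,0,0,0,0,0,0,1,0,0,0,0,0],[0,0,4,0,0,2,0,0,0,1,0,0,0,0],[0,0,0,1,0,0,3,0,0,0,1,0,0,0],[1,0,0,0,4,0,0,0,0,0,0,1,0,0],[0,0,4,0,0,3,0,0,0,3,0,0,1,0],[0,0,0,1,0,0,2,0,0,0,3,0,0,1]],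
  [[1,0,0,0,0,0,0,0,0,0,0,0,0,0],[0,1,0,0,0,0,0,0,0,0,0,0,0,0],[0,0,1,0,0,0,0,0,0,0,0,0,0,0],[0,0,0,1,0,0,0,0,0,0,0,0,0,0],[0,0,0,0,1,0,0,0,0,0,0,0,0,0],[0,0,0,0,0,1,0,0,0,0,0,0,0,0],[0,0,0,0,0,0,1,0,0,0,0,0,0,0],[0,0,0,0,0,0,0,1,0,0,0,0,0,0],[0,0,0,0,0,0,0,0,1,0,0,0,0,0],[0,0,0,0,0,0,0,0,0,1,0,0,0,0],[0,0,0,0,0,0,0,0,0,0,1,0,0,0],[0,0,0,0,0,0,0,0,0,0,0,1,0,0],[0,0,0,0,0,0,0,0,0,0,0,0,1,0],[0,0,0,0,0,0,0,0,0,0,0,0,0,1]],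
  [[1,0,0,1,0,0,0,0,0,0,0,0,0,0],[0,1,0,1,0,0,0,0,0,0,0,0,0,0],[0,0,1,0,0,0,0,0,0,0,0,0,0,0],[0,0,0,1,0,0,0,0,0,0,0,0,0,0],[0,0,0,0,1,0,0,0,0,0,0,0,0,0],[0,0,0,0,0,1,0,0,0,0,0,0,0,0],[0,0,0,0,0,0,1,0,0,0,0,0,0,0],[0,0,1,0,0,0,0,1,0,0,0,0,0,0],[0,0,0,0,0,0,0,0,1,0,0,0,0,0],[0,0,0,0,1,0,0,0,0,1,0,0,0,0],[0,0,0,0,0,0,0,0,0,0,1,0,0,0],[0,0,0,0,0,0,4,0,0,0,0,1,0,0],[2,1,0,4,0,0,0,0,0,0,0,0,1,0],[0,0,0,0,0,0,0,0,4,0,0,0,0,1]],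
  [[1,0,0,2,0,0,0,0,0,0,0,0,0,0],[0,1,0,2,0,0,0,0,0,0,0,0,0,0],[0,0,1,0,0,0,0,0,0,0,0,0,0,0],[0,0,0,1,0,0,0,0,0,0,0,0,0,0],[0,0,0,0,1,0,0,0,0,0,0,0,0,0],[0,0,0,0,0,1,0,0,0,0,0,0,0,0],[0,0,0,0,0,0,1,0,0,0,0,0,0,0],[0,0,2,0,0,0,0,1,0,0,0,0,0,0],[0,0,0,0,0,0,0,0,1,0,0,0,0,0],[0,0,0,0,2,0,0,0,0,1,0,0,0,0],[0,0,0,0,0,0,0,0,0,0,1,0,0,0],[0,0,0,0,0,0,3,0,0,0,0,1,0,0],[4,2,0,1,0,0,0,0,0,0,0,0,1,0],[0,0,0,0,0,0,0,0,3,0,0,0,0,1]],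
  [[1,0,0,3,0,0,0,0,0,0,0,0,0,0],[0,1,0,3,0,0,0,0,0,0,0,0,0,0],[0,0,1,0,0,0,0,0,0,0,0,0,0,0],[0,0,0,1,0,0,0,0,0,0,0,0,0,0],[0,0,0,0,1,0,0,0,0,0,0,0,0,0],[0,0,0,0,0,1,0,0,0,0,0,0,0,0],[0,0,0,0,0,0,1,0,0,0,0,0,0,0],[0,0,3,0,0,0,0,1,0,0,0,0,0,0],[0,0,0,0,0,0,0,0,1,0,0,0,0,0],[0,0,0,0,3,0,0,0,0,1,0,0,0,0],[0,0,0,0,0,0,0,0,0,0,1,0,0,0],[0,0,0,0,0,0,2,0,0,0,0,1,0,0],[1,3,0,1,0,0,0,0,0,0,0,0,1,0],[0,0,0,0,0,0,0,0,2,0,0,0,0,1]],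
  [[1,0,0,4,0,0,0,0,0,0,0,0,0,0],[0,1,0,4,0,0,0,0,0,0,0,0,0,0],[0,0,1,0,0,0,0,0,0,0,0,0,0,0],[0,0,0,1,0,0,0,0,0,0,0,0,0,0],[0,0,0,0,1,0,0,0,0,0,0,0,0,0],[0,0,0,0,0,1,0,0,0,0,0,0,0,0],[0,0,0,0,0,0,1,0,0,0,0,0,0,0],[0,0,4,0,0,0,0,1,0,0,0,0,0,0],[0,0,0,0,0,0,0,0,1,0,0,0,0,0],[0,0,0,0,4,0,0,0,0,1,0,0,0,0],[0,0,0,0,0,0,0,0,0,0,1,0,0,0],[0,0,0,0,0,0,1,0,0,0,0,1,0,0],[3,4,0,4,0,0,0,0,0,0,0,0,1,0],[0,0,0,0,0,0,0,0,1,0,0,0,0,1]],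
  [[1,0,0,0,0,0,0,0,0,0,0,0,0,0],[0,1,0,0,0,0,0,0,0,0,0,0,0,0],[0,0,1,0,0,0,0,0,0,0,0,0,0,0],[0,0,0,1,0,0,0,0,0,0,0,0,0,0],[0,0,0,0,1,0,0,0,0,0,0,0,0,0],[0,0,0,0,0,1,0,0,0,0,0,0,0,0],[0,0,0,0,0,0,1,0,0,0,0,0,0,0],[0,0,0,0,0,0,0,1,0,0,0,0,0,0],[0,0,0,0,0,0,0,0,1,0,0,0,0,0],[0,0,0,0,0,0,0,0,0,1,0,0,0,0],[0,0,0,0,0,0,0,0,0,0,1,0,0,0],[0,0,0,0,0,0,0,0,0,0,0,1,0,0],[0,0,0,0,0,0,0,0,0,0,0,0,1,0],[0,0,0,0,0,0,0,0,0,0,0,0,0,1]],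
  [[1,0,1,0,0,0,0,0,0,0,0,0,0,0],[0,1,2,0,0,0,0,0,0,0,0,0,0,0],[0,0,1,0,0,0,0,0,0,0,0,0,0,0],[0,0,0,1,0,0,0,0,0,0,0,0,0,0],[0,0,0,0,1,0,0,0,0,0,0,0,0,0],[0,0,0,0,0,1,0,0,0,0,0,0,0,0],[0,0,0,0,0,0,1,0,0,0,0,0,0,0],[0,0,0,0,0,0,0,1,0,0,0,0,0,0],[0,0,0,1,0,0,0,0,1,0,0,0,0,0],[0,0,0,0,0,0,0,0,0,1,0,0,0,0],[0,0,0,0,1,0,0,0,0,0,1,0,0,0],[0,0,0,0,0,4,0,0,0,0,0,1,0,0],[0,0,0,0,0,0,0,4,0,0,0,0,1,0],[0,4,4,0,0,0,0,0,0,0,0,0,0,1]],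
  [[1,0,2,0,0,0,0,0,0,0,0,0,0,0],[0,1,4,0,0,0,0,0,0,0,0,0,0,0],[0,0,1,0,0,0,0,0,0,0,0,0,0,0],[0,0,0,1,0,0,0,0,0,0,0,0,0,0],[0,0,0,0,1,0,0,0,0,0,0,0,0,0],[0,0,0,0,0,1,0,0,0,0,0,0,0,0],[0,0,0,0,0,0,1,0,0,0,0,0,0,0],[0,0,0,0,0,0,0,1,0,0,0,0,0,0],[0,0,0,2,0,0,0,0,1,0,0,0,0,0],[0,0,0,0,0,0,0,0,0,1,0,0,0,0],[0,0,0,0,2,0,0,0,0,0,1,0,0,0],[0,0,0,0,0,3,0,0,0,0,0,1,0,0],[0,0,0,0,0,0,0,3,0,0,0,0,1,0],[0,3,1,0,0,0,0,0,0,0,0,0,0,1]],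
  [[1,0,3,0,0,0,0,0,0,0,0,0,0,0],[0,1,1,0,0,0,0,0,0,0,0,0,0,0],[0,0,1,0,0,0,0,0,0,0,0,0,0,0],[0,0,0,1,0,0,0,0,0,0,0,0,0,0],[0,0,0,0,1,0,0,0,0,0,0,0,0,0],[0,0,0,0,0,1,0,0,0,0,0,0,0,0],[0,0,0,0,0,0,1,0,0,0,0,0,0,0],[0,0,0,0,0,0,0,1,0,0,0,0,0,0],[0,0,0,3,0,0,0,0,1,0,0,0,0,0],[0,0,0,0,0,0,0,0,0,1,0,0,0,0],[0,0,0,0,3,0,0,0,0,0,1,0,0,0],[0,0,0,0,0,2,0,0,0,0,0,1,0,0],[0,0,0,0,0,0,0,2,0,0,0,0,1,0],[0,2,1,0,0,0,0,0,0,0,0,0,0,1]],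
  [[1,0,4,0,0,0,0,0,0,0,0,0,0,0],[0,1,3,0,0,0,0,0,0,0,0,0,0,0],[0,0,1,0,0,0,0,0,0,0,0,0,0,0],[0,0,0,1,0,0,0,0,0,0,0,0,0,0],[0,0,0,0,1,0,0,0,0,0,0,0,0,0],[0,0,0,0,0,1,0,0,0,0,0,0,0,0],[0,0,0,0,0,0,1,0,0,0,0,0,0,0],[0,0,0,0,0,0,0,1,0,0,0,0,0,0],[0,0,0,4,0,0,0,0,1,0,0,0,0,0],[0,0,0,0,0,0,0,0,0,1,0,0,0,0],[0,0,0,0,4,0,0,0,0,0,1,0,0,0],[0,0,0,0,0,1,0,0,0,0,0,1,0,0],[0,0,0,0,0,0,0,1,0,0,0,0,1,0],[0,1,4,0,0,0,0,0,0,0,0,0,0,1]]]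
def TW : List Word := [[], [7,4,3,5,2,5,3,4,2,6], [7,4,1,5,0,5,1,4,0,6], [7,4,1,4,0,5,1,5,0,6], [7,4,3,4,2,5,3,5,2,6], [], [7,1,5,5,0,2,5,3,6], [7,1,4,0,2,5,5,3,6], [7,1,5,0,2,4,4,3,6], [7,1,4,4,0,2,4,3,6], [], [7,2,5,3,6], [7,2,5,5,3,6], [7,2,4,4,3,6], [7,2,4,3,6], [], [7,3,4,2,4,2,5,5,3,6], [7,4,3,4,2,4,2,4,3,3,4,2,6], [7,5,3,5,2,5,2,5,3,3,5,2,6], [7,3,5,2,5,2,4,4,3,6], [], [0,0,3,0,3,3,0], [2,2,0,3,1,3,3], [2,2,0,2,1,3,3], [0,0,0,2,2,0,2], [], [7,4,3,5,2,4,2,5,3,6], [7,5,3,5,2,2,5,5,3,3,5,2,6], [7,4,3,4,2,2,4,4,3,3,4,2,6], [7,5,3,4,2,5,2,4,3,6], [], [1,4,4,0,2,4,3], [1,5,0,2,4,4,3], [1,4,0,2,5,5,3], [1,5,5,0,2,5,3], [], [2],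 [2,2], [3,3], [3], [], [2,4,3], [2,4,4,3], [2,5,5,3], [2,5,3], [], [3,4,2,4,2,5,5,3], [4,3,4,2,4,2,4,3,3,4,2], [5,3,5,2,5,2,5,3,3,5,2], [3,5,2,5,2,4,4,3], [], [4,3,5,2,4,2,5,3], [5,3,5,2,2,5,5,3,3,5,2], [4,3,4,2,2,4,4,3,3,4,2], [5,3,4,2,5,2,4,3], [], [4,3,4,2,5,3,5,2], [4,1,4,0,5,1,5,0], [4,1,5,0,5,1,4,0], [4,3,5,2,5,3,4,2]]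
def gens : List Word := [[0], [2], [4], [6]]
theorem hX : ∀ (r : Fin Lie.chevG2.nroots) (t : ZMod 5),
    Lie.chevG2.xMat (ZMod 5) r t = mval el e14 (nth XS [] (5 * r + t.val)) := by decide +kernel
theorem hT : allR 60 (fun j => meq 14 (mword (arP 5) 14 (lets ms) (subst gens (nth TW [] j))) (nth XS [] j)) = true := by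
  decide +kernel
theorem hinv : invOK (arP 5) 14 ms = true := by decide +kernel
theorem hr : lall LyTC.r44 (CLink.relOK (arP 5) 14 (lets ms)) = true := by decide +kernel

theorem main : ∃ γ : ℕ → GL Lie.chevG2.Idx (ZMod 5), (∀ r ∈ LyTC.r44, ev γ r = 1) ∧
    Lie.chevG2.group (ZMod 5) ≤ grp γ gens := by
  have hA := soundP 5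
  let ρ := Units.coeHom (Matrix Lie.chevG2.Idx Lie.chevG2.Idx (ZMod 5))
  obtain ⟨γ, hL, -, -⟩ := exists_let e14 hA ρ hinv (S := ⊤) fun x hx => by
    obtain ⟨g, hg⟩ := exists_GL e14 hA (lall_iff.1 hinv x hx)
    exact ⟨g, trivial, hg⟩
  refine ⟨γ, rels_hold ρ e14 hA Units.val_injective hL hr, (Subgroup.closure_le _).2 ?_⟩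
  rintro s ⟨r, t, e⟩
  have := t.val_lt
  have : (r : ℕ) < 12 := r.2
  have h : ev γ (subst gens (nth TW [] (5 * r + t.val))) = s :=
    Units.ext ((ev_eq ρ e14 hA hL _ (allR_spec hT (by omega))).trans (e.trans (hX r t)).symm)
  exact h ▸ subst_mem_grp γ gens _

theorem bound : Bound.{0} LyTC.r44 gens 5859000000 :=
  LyTC.bound.of_le [([0], [0]), ([2], [2]), ([4], [4]), ([6], [6])] (by decide +kernel) fun q hq =>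
    Der.of_triv 1000 0 (by revert q; decide +kernel)

end CA.LyG2
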