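import Cfsg.Agent.Lib.Comp.CPres
import Cfsg.Prelude.Def_Spor_Ly

set_option autoImplicit false
set_option maxRecDepth 100000

namespace CA.LyRel
open CA.CWord CA.CPres Cfsg.Spor

def gen (i : ℕ) : Ly.Gen := [.a, .b, .c, .d, .z, .e, .a1, .a2, .a3, .a4, .c1, .c2, .c3, .c4, .c5, .u, .x23, .x24, .x25, .x29, .x47, .x96, .x129, .x162, .x163, .x164, .x165, .x166, .x167, .x168, .x169, .x364, .x365, .x366, .x367, .x368, .x369, .x370, .x371].getD i .a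

def idx : Ly.Gen → ℕ
  | .a => 0
  | .b => 1
  | .c => 2
  | .d => 3
  | .z => 4
  | .e => 5
  | .a1 => 6
  | .a2 => 7
  | .a3 => 8
  | .a4 => 9
  | .c1 => 10
  | .c2 => 11
  | .c3 => 12
  | .c4 => 13
  | .c5 => 14
  | .u => 15
  | .x23 => 16
  | .x24 => 17
  | .x25 => 18
  | .x29 => 19
  | .x47 => 20
  | .x96 => 21
  | .x129 => 22
  | .x162 => 23
  | .x163 => 24
  | .x164 => 25
  | .x165 => 26
  | .x166 => 27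
  | .x167 => 28
  | .x168 => 29
  | .x169 => 30
  | .x364 => 31
  | .x365 => 32
  | .x366 => 33
  | .x367 => 34
  | .x368 => 35
  | .x369 => 36
  | .x370 => 37
  | .x371 => 38

def rels : List Word := [[0,0,0,0,0,0,0,0], [2,2,2,2,2], [0,2,0,2,0,2,0,2], [1,1,3,0,0,2], [1,3,0,2,1,3,0,2,1,3,0,2], [20,5], [22,1,5,0], [24,3,5,2], [26,2,5,3], [28,23,21,22,20], [20,20,20,20,20], [28,28,28,28,28], [21,29,20,28], [23,29,22,28], [25,29,24,28], [27,29,26,28], [21,25,20,24,28,28], [21,27,20,26,29,29], [23,25,22,24,28], [23,27,22,26], [25,27,24,26,28], [1,22,0,20,20], [1,24,0,27,21,24,24], [1,26,0,27,21,27,24,22,21], [1,28,0,29,29], [3,22,2,26,20,26,25,23], [3,24,2,24,24,27,21,21], [3,28,2,29], [10,7,21,7,2,1,3,21,7,1,21,0,21,1,20,0,2,2], [10,10], [11,20,10,20,3,25,3], [11,24,10,0,26,20,23,1,3,3], [11,26,10,27,24,3,3], [11,28,10,26,21,24,21],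 [10,0,0,10,26,29,21,1,2,1,3,3,1], [11,2,10,26,26,24,21], [10,0,2,2,0,3,0,10,26,29,21,1,1], [10,22,10,23,10,22,27,0,24,0,0,0], [6,11,3,22,1,11,1,11,1,28,26,20,2,0,3,3,1], [6,6,1,1,1,1], [3,7,2,6], [7,0,6,1,1,1], [6,28,6,28,6,28,6,28,6,28], [6,28,6,29,6,28,1,1], [12,1], [14,2,1,3], [16,2,2,1,3,3], [18,3,3,1,2,2], [30,1,1], [32,7], [34,6], [36,3,5,0,3,3,4,7,4,0,5,1,4,3,3,0,2,0,3,3], [38,5,3,5,7,2,2,5,7,2,5,3,5,1,4,3,3,0,3,3,0,3,1], [40,6,4,3,0,4,0,6,4], [42,7,3], [44,2,6], [46,1,3,4,1,2,4,3,0,2,0], [48,3,5,3,0,5,1,2,2], [50,1,3,1,5,0,2,0], [52,3,1,2,5,3,0,2], [54,4,2,2,5,1,3,5,2,0,3,3], [56,0,0,0], [58,0,0,2,0,3], [60,0,2,2,1,3,3,1], [62,2,1,3,1,2,1,4,0,2,4,3,6,4,3,0,4,2,7,0], [64,6,2,5,0,5,1,5,7,4,4,0,3,4,3,5,0,2,2,1], [66,5,3,5,7,2,2,5,7,3,5,3,3,5,2,0,2,2,0,2,1,3], [68,2,0,3,1,3,3,1,3,4,2,2,4,2,6,4,3,3,6,4,2,4],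 [70,2,2,0,2,4,2,2,5,1,4,0,6,4,1,2,4,1,6,4,0], [72,2,1,2,2,1,2,4,2,0,3,6,4,2,0,3,6,4,0], [74,0,3,0,2,2,0,5,0,2,1,6,4,0,5,3,5,1,6], [76,3,0,2,0,2,5,1,5,0,5,6,4,3,5,0,4], [9,20,8,47], [9,22,8,49], [9,24,8,51], [9,26,8,53], [9,28,8,55], [9,12,8,57], [9,14,8,59], [9,16,8,61], [8,8,31], [18,8,18,8,18,8,30], [40,8,62,8,70,8], [9,34,9,72,8,32,8,38], [8,66,8,64,9,68,9,74], [8,42,8,36,9,44,9,76]]

def gens : List Word := [[0], [2], [4], [6], [8], [10], [12], [14], [16], [18], [20], [22], [24], [26], [28], [30], [32], [34], [36], [38], [40], [42], [44], [46], [48], [50], [52], [54], [56], [58], [60], [62], [64], [66], [68], [70], [72], [74], [76]]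

theorem enc : Enc Ly.edges Ly.extra gen 39 rels :=
  enc_of idx []
    [[0,0,0,0,0,0,0,0], [2,2,2,2,2], [0,2,0,2,0,2,0,2], [1,1,3,0,0,2], [1,3,0,2,1,3,0,2,1,3,0,2], [20,5], [22,1,5,0], [24,3,5,2], [26,2,5,3], [28,23,21,22,20], [20,20,20,20,20], [28,28,28,28,28], [21,29,20,28], [23,29,22,28], [25,29,24,28], [27,29,26,28], [21,25,20,24,28,28], [21,27,20,26,29,29], [23,25,22,24,28], [23,27,22,26], [25,27,24,26,28], [1,22,0,20,20], [1,24,0,27,21,24,24], [1,26,0,27,21,27,24,22,21], [1,28,0,29,29], [3,22,2,26,20,26,25,23], [3,24,2,24,24,27,21,21], [3,28,2,29], [10,7,21,7,2,1,3,21,7,1,21,0,21,1,20,0,2,2], [10,10], [11,20,10,20,3,25,3], [11,24,10,0,26,20,23,1,3,3], [11,26,10,27,24,3,3], [11,28,10,26,21,24,21], [10,0,0,10,26,29,21,1,2,1,3,3,1], [11,2,10,26,26,24,21], [10,0,2,2,0,3,0,10,26,29,21,1,1], [10,22,10,23,10,22,27,0,24,0,0,0],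 [6,11,3,22,1,11,1,11,1,28,26,20,2,0,3,3,1], [6,6,1,1,1,1], [3,7,2,6], [7,0,6,1,1,1], [6,28,6,28,6,28,6,28,6,28], [6,28,6,29,6,28,1,1], [12,1], [14,2,1,3], [16,2,2,1,3,3], [18,3,3,1,2,2], [30,1,1], [32,7], [34,6], [36,3,5,0,3,3,4,7,4,0,5,1,4,3,3,0,2,0,3,3], [38,5,3,5,7,2,2,5,7,2,5,3,5,1,4,3,3,0,3,3,0,3,1], [40,6,4,3,0,4,0,6,4], [42,7,3], [44,2,6], [46,1,3,4,1,2,4,3,0,2,0], [48,3,5,3,0,5,1,2,2], [50,1,3,1,5,0,2,0], [52,3,1,2,5,3,0,2], [54,4,2,2,5,1,3,5,2,0,3,3], [56,0,0,0], [58,0,0,2,0,3], [60,0,2,2,1,3,3,1], [62,2,1,3,1,2,1,4,0,2,4,3,6,4,3,0,4,2,7,0], [64,6,2,5,0,5,1,5,7,4,4,0,3,4,3,5,0,2,2,1], [66,5,3,5,7,2,2,5,7,3,5,3,3,5,2,0,2,2,0,2,1,3], [68,2,0,3,1,3,3,1,3,4,2,2,4,2,6,4,3,3,6,4,2,4], [70,2,2,0,2,4,2,2,5,1,4,0,6,4,1,2,4,1,6,4,0], [72,2,1,2,2,1,2,4,2,0,3,6,4,2,0,3,6,4,0], [74,0,3,0,2,2,0,5,0,2,1,6,4,0,5,3,5,1,6],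 [76,3,0,2,0,2,5,1,5,0,5,6,4,3,5,0,4], [9,20,8,47], [9,22,8,49], [9,24,8,51], [9,26,8,53], [9,28,8,55], [9,12,8,57], [9,14,8,59], [9,16,8,61], [8,8,31], [18,8,18,8,18,8,30], [40,8,62,8,70,8], [9,34,9,72,8,32,8,38], [8,66,8,64,9,68,9,74], [8,42,8,36,9,44,9,76]]
    (fun t => by cases t <;> decide) (by decide) (by decide +kernel) (by decide +kernel) (by decide +kernel)
    (by decide +kernel) (by decide +kernel)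

end CA.LyRel
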