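import Cfsg.Agent.Lib.Spor.LyM
import Cfsg.Agent.Lib.Spor.LyRel

/-! The Lyons group: the index of `G₂(5)` and the suborbits. -/

set_option autoImplicit false
set_option maxRecDepth 100000

namespace CA.LyO
open Equiv CA.CNet CA.CWord CA.CLevel CA.CSimple CA.CPoint CA.CTodd CA.CPres CA.CLow CA.TCos CA.LyM
open CA.LyRel (rels enc)
open Cfsg.Spor

noncomputable section

def q (i : ℕ) : Perm (Fin C.n) := C.ev (nth W [] i)
abbrev H := grp q gens
theorem H_eq : H = C.grp gens :=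
  (grp_lmap_subst C.g W gens).symm.trans (congrArg _ (by decide +kernel))
theorem hq : ∀ r ∈ LyTC.r44, ev q r = 1 := fun r hr => by
  have : C.eqW (red 0 (subst W r)) [] = true := by
    rcases (by decide +kernel : ∀ r ∈ LyTC.r44, r ∈ (LyTC.r44.drop 0).take 11 ∨ r ∈ (LyTC.r44.drop 11).take 11 ∨
      r ∈ (LyTC.r44.drop 22).take 11 ∨ r ∈ (LyTC.r44.drop 33).take 11) r hr with h | h | h | h
    exacts [lall_iff.1 r0 r h, lall_iff.1 r1 r h, lall_iff.1 r2 r h, lall_iff.1 r3 r h]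
  have h := Ctx.eq_of_eqW hC this
  rw [Ctx.ev, ev_red (im := 0) (by simp), ev_subst] at h
  exact h
theorem card_le : Nat.card (C.grp gens) ≤ 5859000000 := H_eq ▸ (LyG2.bound _ q hq).2
theorem card : Nat.card H = 5859000000 := H_eq ▸ low0.card card_le
theorem base : IsBase H B := H_eq ▸ low0.2 card_le
theorem ev_q (w : Word) : ev q (subst gens w) = C.ev w := by
  rw [ev_subst]; congr 1; funext i
  rcases i with _ | _ | _ | _ | i
  · exact (ev_gen q 0).trans (ev_gen C.g 0)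
  · exact (ev_gen q 1).trans (ev_gen C.g 1)
  · exact (ev_gen q 2).trans (ev_gen C.g 2)
  · exact (ev_gen q 3).trans (ev_gen C.g 3)
  · rfl
theorem mem (w : Word) : C.ev w ∈ H := ev_q w ▸ subst_mem_grp q gens w
def o : Fin C.n := ⟨0, by decide⟩
theorem trans (a : Fin C.n) : ∃ g ∈ H, g o = a := H_eq ▸ trans_of_clo hC (p := o) cl0 a
theorem stab (g : Perm (Fin C.n)) (hg : g ∈ H) (h : g o = o) : g ∈ C.grp SW := by
  rw [H_eq] at hg
  refine (stab_of_card (m := 19530) hSW (fix_of_mapsP hlk (p := o) fixSW) ?_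
    (card_le.trans (Nat.mul_le_mul_left 19530 low1.1))).le ⟨hg, h⟩
  have : ∀ i, ∃ x ∈ C.grp gens, x • o = i := H_eq ▸ trans
  simp only [this]
  rw [Nat.card_congr (Equiv.subtypeUnivEquiv fun _ => trivial), Nat.card_fin]; rfl

abbrev g : ℕ → Ly := pg Ly.edges Ly.extra LyRel.gen
abbrev K : Subgroup Ly := grp g gens

theorem sub_rel {V : List Word} (h : ∀ i < 39, g i = ev g (nth V [] i)) : ∀ r ∈ lmap (subst V) rels, ev g r = 1 := by
  intro r hr
  rw [lmap_eq] at hr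
  obtain ⟨r', hr', rfl⟩ := List.mem_map.1 hr
  rw [ev_subst, ← ev_congr h ((by decide +kernel : ∀ r ∈ rels, ∀ a ∈ r, a < 2 * 39) r' hr'), enc.hold r' hr']

theorem of_rel {i : ℕ} {w : Word} (h : ev g (2 * i :: winv w) = 1) : g i = ev g w := by
  rwa [ev_cons, lv_even, ev_winv, mul_inv_eq_one] at h

def W1 : List Word := (W.set 5 [10]).set 14 [28]
theorem s1 : ∀ i < 39, g i = ev g (nth W1 [] i) := fun i hi => by
  rcases (by decide +kernel : ∀ i < 39, nth W1 [] i = [2 * i] ∨ (2 * i :: winv (nth W1 [] i)) ∈ rels) i hi with h | h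
  · rw [h, ev_gen]
  · exact of_rel (enc.hold _ h)
theorem s2 : ∀ i < 39, g i = ev g (nth W [] i) := fun i hi => by
  rcases (by decide +kernel : ∀ i < 39, nth W [] i = nth W1 [] i ∨ i = 5 ∨ i = 14) i hi with h | rfl | rfl
  · rw [h, ← s1 i hi]
  · exact of_rel (ev_of_triv (sub_rel s1) (k := 57) (s := 0) (by decide +kernel))
  · exact of_rel (ev_of_triv (sub_rel s1) (k := 19) (s := 0) (by decide +kernel))
theorem memK (i : ℕ) (hi : i < 39) (h : i ≠ 4) : g i ∈ K := by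
  rw [s2 i hi, (by decide +kernel : ∀ i < 39, i ≠ 4 → nth W [] i = subst gens (nth W [] i)) i hi h]
  exact subst_mem_grp _ _ _
def R2 : List Word := (lmap (subst W) rels).drop 72
theorem hR2 : ∀ r ∈ R2, ev g r = 1 := fun r hr => sub_rel s2 r (List.mem_of_mem_drop hr)
theorem zz : ev g [1, 1, 8, 8] = 1 := ev_of_triv hR2 (k := 17) (s := 2) (by decide +kernel)

def fz (w : Word) : Word := w.flatMap fun a => if a = 9 then [1, 1, 8] else [a]
theorem ev_fz (w : Word) : ev g (fz w) = ev g w := by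
  induction w with
  | nil => rfl
  | cons a w ih =>
    rw [fz, List.flatMap_cons, ev_append, ← fz, ih, ev_cons]
    congr 1
    split_ifs with h
    · subst h
      have := zz
      rw [show [1, 1, 8, 8] = [1, 1, 8] ++ [2 * 4] from rfl, ev_append, ev_gen] at this
      exact eq_inv_of_mul_eq_one_left this
    · simp
def RZ : List Word := (R2.drop 8 ++ (R2.drop 8).map winv).map fz
theorem hRZ : ∀ r ∈ RZ, ev g r = 1 := by
  intro r hr
  obtain ⟨r', hr', rfl⟩ := List.mem_map.1 hr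
  rw [ev_fz]
  rcases List.mem_append.1 hr' with h | h
  · exact hR2 r' (List.mem_of_mem_drop h)
  · obtain ⟨r'', hr'', rfl⟩ := List.mem_map.1 h
    rw [ev_winv, hR2 r'' (List.mem_of_mem_drop hr''), inv_one]
def wd (R : List Word) (w : Word) : Word := R.foldl (fun w x => x ++ 2 * 4 :: w) w
theorem hRL : ∀ R ∈ RL, ev g (wd R []) = 1 := fun R hR => by
  obtain ⟨k, -, h⟩ := (by decide +kernel : ∀ R ∈ RL, ∃ k ∈ KS, triv RZ (wd R []) k.1 k.2 = true) R hR
  exact ev_of_triv hRZ h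

theorem tw0 (i : ℕ) : MulAut.conj (g 4) (ev g (subst gens (nth SW [] i))) = ev g (subst gens (nth KW [] i)) := by
  by_cases hi : i < 4
  · obtain ⟨k, -, h⟩ := (by decide +kernel : ∀ i < 4, ∃ k ∈ [0, 10, 12, 14],
      triv R2 (2 * 4 :: (subst gens (nth SW [] i) ++ 9 :: winv (subst gens (nth KW [] i)))) k 1 = true) i hi
    have := ev_of_triv hR2 h
    rw [ev_cons, lv_even, ev_append, ev_cons, ev_winv, ← mul_assoc, ← mul_assoc, mul_inv_eq_one] at this
    exact this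
  · obtain ⟨i, rfl⟩ : ∃ j, i = j + 4 := ⟨i - 4, by omega⟩
    exact map_one _

def PW : List Word := [[], [8], [8,7,8], [8,7,8,7,8], [8,3,7,8]]

theorem exφ : ∃ φ : H →* Ly, ∀ w, φ ⟨_, mem w⟩ = ev g (subst gens w) := by
  obtain ⟨φ, hφ⟩ := DCos.hom_of_bound LyG2.bound hq card.ge (g := g)
    fun r hr => enc.hold r ((by decide +kernel : ∀ r ∈ LyTC.r44, r ∈ rels) r hr)
  exact ⟨φ, fun w => (congrArg φ (Subtype.ext (ev_q w).symm)).trans (hφ w)⟩

def φ : H →* Ly := exφ.choose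
theorem hφ (w : Word) : φ ⟨_, mem w⟩ = ev g (subst gens w) := exφ.choose_spec w
theorem ex_w (h : H) : ∃ w, h = ⟨_, mem w⟩ := by
  obtain ⟨v, hv⟩ := exists_subst h.2
  exact ⟨v, Subtype.ext (hv.symm.trans (ev_q v))⟩
theorem φ_mem (h : H) : φ h ∈ K := by
  obtain ⟨w, rfl⟩ := ex_w h
  rw [hφ]; exact subst_mem_grp _ _ _
theorem φ_surj {x : Ly} (hx : x ∈ K) : ∃ h, φ h = x := by
  obtain ⟨v, rfl⟩ := exists_subst hx
  exact ⟨_, hφ v⟩

def S : Sys C H (Ly ⧸ K) KW SW where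
  ρ := (MulAction.toPermHom Ly _).comp φ
  Z ξ := g 4 • ξ
  p j := ev g (nth PW [] j) • ((1 : Ly) : Ly ⧸ K)
  mem := mem
  tw v ξ := by
    show g 4 • φ _ • ξ = φ _ • g 4 • ξ
    have : MulAut.conj (g 4) (ev g (subst gens (subst SW v))) = ev g (subst gens (subst KW v)) := by
      rw [ev_subst, ev_subst, ev_subst g, ev_subst]
      refine (map_ev (MulAut.conj (g 4)).toMonoidHom _ v).trans (congrArg (ev · v) (funext fun i => ?_))
      rw [← ev_subst, ← ev_subst]; exact tw0 i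
    rw [hφ, hφ, ← this, smul_smul, smul_smul]; simp
  h0 h := (QuotientGroup.eq.2 (by simpa [PW] using φ_mem h) : ((φ h * (1 * 1) : Ly) : Ly ⧸ K) = (1 * 1 : Ly))

theorem ρ_w {w : Word} (h : subst gens w = w) (ξ : Ly ⧸ K) : S.ρ (S.w w) ξ = ev g w • ξ := by
  show φ ⟨_, mem w⟩ • ξ = _
  rw [hφ, h]

theorem app_eq {R : List Word} (h : ∀ x ∈ R, subst gens x = x) (w : Word) (ξ : Ly ⧸ K) :
    S.app R (ev g w • ξ) = ev g (wd R w) • ξ := by
  induction R generalizing w with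
  | nil => rfl
  | cons x R ih =>
    refine Eq.trans (congrArg (S.app R) ?_) (ih (fun x hx => h x (by simp [hx])) (x ++ 2 * 4 :: w))
    show S.ρ (S.w x) (g 4 • _) = _
    rw [ρ_w (h x (by simp)), ev_append, ev_cons, lv_even, mul_smul, mul_smul]

theorem relS : ∀ R ∈ RL, S.Rel R := fun R hR ξ => by
  have := app_eq ((by decide +kernel : ∀ R ∈ RL, ∀ x ∈ R, subst gens x = x) R hR) [] ξ
  rwa [hRL R hR, ev_nil, one_smul] at this

theorem hA : ∀ e ∈ A, S.Holds e := fun e he => by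
  obtain ⟨a1, a2, a3, a4⟩ := (by decide +kernel : ∀ e ∈ A, e.t = 1 ∧ e.h = [] ∧ subst gens e.w = e.w ∧
    nth PW [] e.j = 2 * 4 :: (e.w ++ nth PW [] e.i)) e he
  refine ⟨fun h => by omega, fun _ => ?_⟩
  rw [a2, S.w_nil, map_one, ρ_w a3]
  show g 4 • ev g e.w • ev g (nth PW [] e.i) • ((1 : Ly) : Ly ⧸ K) = ev g (nth PW [] e.j) • ((1 : Ly) : Ly ⧸ K)
  rw [a4, ev_cons, lv_even, ev_append, mul_smul, mul_smul]

theorem holds : ∀ e ∈ F, S.Holds e := fun e he => by
  have h0 := allD_sound (S := S) hlk base hA relS (t := 0) (by simp) hD0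
  have h1 := allD_sound hlk base hA relS (t := 21) h0 hD1
  have h2 := allD_sound hlk base hA relS (t := 42) h1 hD2
  have h3 := allD_sound hlk base hA relS (t := 63) h2 hD3
  obtain ⟨i, hi, rfl⟩ := exists_nth_of_mem ⟨0, 0, [], 0, []⟩ he
  exact h3 i hi

theorem edge (i : ℕ) (hi : i < 5) (j : ℕ) (h : H) (hm : (M i j).testBit (h.1⁻¹ o) = true) :
    S.Z (S.ρ h (S.p i)) ∈ S.O j := by
  refine S.edge hC hlk rfl stab holds (fun w hw => ?_) h hm
  rcases (by decide +kernel : ∀ i < 5, ∀ w ∈ nth GW [] i, i = 0 ∨ (⟨0, i, [], i, w⟩ : Fact) ∈ F) i hi w hw with rfl | h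
  · exact S.h0 _
  · exact ((holds _ h).1 rfl).symm

theorem tabM (i : ℕ) (hi : i < 5) : (∀ a : Fin C.n, ∃ j < 5, (M i j).testBit a = true) ∧
    ∀ j < 5, cnt C.n (M i j) = nth (nth MM [] i) 0 j := by
  have : okM i = true := by
    interval_cases i
    exacts [hM0, hM1, hM2, hM3, hM4]
  simp only [okM, force_eq, Bool.and_eq_true, decide_eq_true_eq] at this
  refine ⟨fun a => ?_, fun j hj => ?_⟩
  · have h : (M i 0 ||| (M i 1 ||| (M i 2 ||| (M i 3 ||| M i 4)))).testBit a = true :=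
      sub_spec this.1 (by simp [testBit_full])
    simp only [Nat.testBit_or, Bool.or_eq_true] at h
    rcases h with h | h | h | h | h <;> exact ⟨_, by decide, h⟩
  · rw [← this.2]; interval_cases j <;> rfl

theorem hzz (ξ : Ly ⧸ K) : S.Z (S.Z ξ) = S.ρ (S.w [0, 0]) ξ := by
  have := zz
  rw [show [1, 1, 8, 8] = lapp (winv [0, 0]) [2 * 4, 2 * 4] from rfl, ev_lapp, ev_winv, inv_mul_eq_one, ev_cons g (2 * 4),
    ev_gen, lv_even] at this
  rw [ρ_w (by decide +kernel), this, mul_smul]; rfl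

theorem all (ξ : Ly ⧸ K) : ∃ i < 5, ξ ∈ S.O i := by
  obtain ⟨x, rfl⟩ := QuotientGroup.mk_surjective ξ
  have h1 : ∀ x ∈ K, ∀ ξ : Ly ⧸ K, (∃ i < 5, ξ ∈ S.O i) → ∃ i < 5, x • ξ ∈ S.O i := by
    rintro x hx _ ⟨i, hi, h⟩
    obtain ⟨k, rfl⟩ := φ_surj hx
    exact ⟨i, hi, S.O_smul h k⟩
  have h2 : ∀ ξ : Ly ⧸ K, (∃ i < 5, ξ ∈ S.O i) → ∃ i < 5, g 4 • ξ ∈ S.O i := by
    rintro _ ⟨i, hi, h, rfl⟩
    obtain ⟨j, hj, a⟩ := (tabM i hi).1 (h.1⁻¹ o)
    exact ⟨j, hj, edge i hi j h a⟩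
  have h3 : ∀ ξ : Ly ⧸ K, (∃ i < 5, ξ ∈ S.O i) → ∃ i < 5, x • ξ ∈ S.O i := by
    have hx : x ∈ grp g LyRel.gens := enc.top LyRel.gens (by decide) ▸ Subgroup.mem_top x
    have hw : ∀ w ∈ LyRel.gens, ∃ i < 39, w = [2 * i] := by decide +kernel
    induction hx using Subgroup.closure_induction'' with
    | mem x hx =>
      obtain ⟨w, h, rfl⟩ := hx
      obtain ⟨i, hi, rfl⟩ := hw w h
      rw [ev_gen]
      by_cases e : i = 4
      · rw [e]; exact h2
      · exact h1 _ (memK i hi e)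
    | inv_mem x hx =>
      obtain ⟨w, h, rfl⟩ := hx
      obtain ⟨i, hi, rfl⟩ := hw w h
      rw [ev_gen]
      by_cases e : i = 4
      · intro ξ h
        obtain ⟨j, hj, a⟩ := h2 ξ h
        refine ⟨j, hj, ?_⟩
        have b := hzz ((g 4)⁻¹ • ξ)
        have c : (g i)⁻¹ • ξ = S.ρ (S.w [0, 0])⁻¹ (g 4 • ξ) := by
          rw [e, map_inv, Perm.eq_inv_iff_eq, ← b]
          show g 4 • g 4 • _ = _
          rw [smul_inv_smul]
        exact c ▸ S.O_smul a _
      · exact h1 _ (inv_mem (memK i hi e))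
    | one => simp
    | mul x y _ _ a b => exact fun ξ h => by rw [mul_smul]; exact a _ (b _ h)
  have := h3 (S.p 0) ⟨0, by decide, 1, by simp⟩
  rwa [show x • S.p 0 = ((x * (1 * 1) : Ly) : Ly ⧸ K) from rfl, mul_one, mul_one] at this

section
variable (hz : g 4 ∉ K)
include hz

theorem d0 : ∀ j < 5, S.O j = S.O 0 → j = 0 := fun j hj h => by
  rcases (by decide +kernel : ∀ j < 5, j = 0 ∨ ∃ e ∈ F, e.t = 1 ∧ e.i = j ∧ e.j = j) j hj with h0 | ⟨e, he, a1, a2, a3⟩
  · exact h0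
  obtain ⟨k, hk⟩ : S.p j ∈ S.O 0 := h ▸ ⟨1, by simp⟩
  have b := (holds e he).2 a1
  simp only [S.h0] at hk
  rw [a2, a3, ← hk, S.h0, S.h0] at b
  have b : ((g 4 * (1 * 1) : Ly) : Ly ⧸ K) = (1 * 1 : Ly) := b
  exact absurd (by simpa using QuotientGroup.eq.1 b) hz

omit hz in
theorem A_of {i j : ℕ} (hi : i < 5) (hj : j < 5) (hd : ∀ j' < 5, S.O j' = S.O j → j' = j) :
    S.A i j = 300000 * nth (nth MM [] i) 0 j := by
  have := S.A_eq hC trans (fun j _ => edge i hi j) (tabM i hi).1 hj hd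
  rw [card, (tabM i hi).2 j hj, show C.n = 19530 from rfl] at this
  omega

theorem d1 : ∀ j < 5, S.O j = S.O 1 → j = 1 := fun j hj h => by
  have := S.A_congr h 0
  rw [A_of hj (by decide) (d0 hz), A_of (by decide) (by decide) (d0 hz)] at this
  exact (by decide : ∀ j < 5, 300000 * nth (nth MM [] j) 0 0 = 300000 * nth (nth MM [] 1) 0 0 → j = 1) j hj this

theorem dist (i : ℕ) (hi : i < 5) : ∀ j < 5, S.O j = S.O i → j = i := fun j hj h => by
  have := S.A_congr h 1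
  rw [A_of hj (by decide) (d1 hz), A_of hi (by decide) (d1 hz)] at this
  exact (by decide : ∀ i < 5, ∀ j < 5, 300000 * nth (nth MM [] j) 0 1 = 300000 * nth (nth MM [] i) 0 1 → j = i) i hi j hj this

theorem cardO (i : Fin 5) : Nat.card (S.O i) = ![1, 19530, 968750, 2034375, 5812500] i := by
  have h : ∀ i < 5, ∀ j < 5, 300000 * nth (nth MM [] i) 0 j * Nat.card (S.O i) =
      300000 * nth (nth MM [] j) 0 i * Nat.card (S.O j) := fun i hi j hj => by
    rw [← A_of hi hj (dist hz j hj), ← A_of hj hi (dist hz i hi), S.A_mul, S.A_mul, S.c_symm hzz]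
  have h0 : Nat.card (S.O 0) = 1 := by
    rw [show S.O 0 = {S.p 0} from Set.eq_singleton_iff_unique_mem.2 ⟨⟨1, S.h0 1⟩, by rintro _ ⟨k, rfl⟩; exact S.h0 k⟩]
    simp
  have h1 : 300000 * 1 * _ = 300000 * 19530 * _ := h 1 (by decide) 0 (by decide)
  have h2 : 300000 * 63 * _ = 300000 * 3125 * _ := h 2 (by decide) 1 (by decide)
  have h3 : 300000 * 36 * _ = 300000 * 3750 * _ := h 3 (by decide) 1 (by decide)
  have h4 : 300000 * 42 * _ = 300000 * 12500 * _ := h 4 (by decide) 1 (by decide)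
  fin_cases i
  · exact h0
  · show Nat.card (S.O 1) = 19530; omega
  · show Nat.card (S.O 2) = 968750; omega
  · show Nat.card (S.O 3) = 2034375; omega
  · show Nat.card (S.O 4) = 5812500; omega

theorem index : K.index = 8835156 := by
  have := S.O_fin
  have : Function.Bijective fun x : Σ i : Fin 5, S.O i => x.2.1 := by
    constructor
    · rintro ⟨i, ξ, a⟩ ⟨j, η, b⟩ (rfl : ξ = η)
      obtain rfl : i = j := Fin.ext (dist hz j j.2 i i.2 (S.O_eq a b))
      rfl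
    · intro ξ
      obtain ⟨i, hi, h⟩ := all ξ
      exact ⟨⟨⟨i, hi⟩, ξ, h⟩, rfl⟩
  rw [Subgroup.index, ← Nat.card_congr (Equiv.ofBijective _ this), Nat.card_sigma]
  simp only [cardO hz]; decide

end

theorem orbit_eq (i : ℕ) : MulAction.orbit K (S.p i) = S.O i := Set.ext fun ξ => by
  constructor
  · rintro ⟨⟨x, hx⟩, rfl⟩
    obtain ⟨k, rfl⟩ := φ_surj hx
    exact ⟨k, rfl⟩
  · rintro ⟨k, rfl⟩
    exact ⟨⟨_, φ_mem k⟩, rfl⟩

theorem normal_top (N : Subgroup Ly) (hN : N.Normal) (h : K ≤ N) : N = ⊤ := by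
  have h4 : g 4 ∈ N := by
    have a := enc.hold [18, 8, 18, 8, 18, 8, 30] (by decide +kernel)
    have b := enc.hold [8, 8, 31] (by decide +kernel)
    rw [← QuotientGroup.eq_one_iff]
    have c : ∀ i < 39, i ≠ 4 → QuotientGroup.mk' N (g i) = 1 := fun i hi e =>
      (QuotientGroup.eq_one_iff _).2 (h (memK i hi e))
    have a' := congrArg (QuotientGroup.mk' N) a
    have b' := congrArg (QuotientGroup.mk' N) b
    simp only [ev_cons, ev_nil, lv, map_mul, map_one] at a' b'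
    norm_num only [if_true, if_false, map_inv, c 9 (by decide) (by decide), c 15 (by decide) (by decide), one_mul, mul_one, inv_one,
      OfNat.ofNat_ne_zero, one_ne_zero] at a' b'
    rw [b', mul_one] at a'
    exact a'
  rw [eq_top_iff, ← enc.top LyRel.gens (by decide), grp_le_iff]
  intro w hw
  obtain ⟨i, hi, rfl⟩ := (by decide +kernel : ∀ w ∈ LyRel.gens, ∃ i < 39, w = [2 * i]) w hw
  rw [ev_gen]
  by_cases e : i = 4
  · exact e ▸ h4
  · exact h (memK i hi e)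

theorem K_eq : (Subgroup.closure ({Ly.a, Ly.b, Ly.c, Ly.d} : Set (FreeGroup Ly.Gen))).map
    (PresentedGroup.mk (coxRelators Ly.edges ∪ {r | r ∈ Ly.extra})) = K :=
  map_closure_eq (gen := LyRel.gen) gens (l := [_, _, _, _]) rfl
    (fun x => by simp only [Set.mem_insert_iff, Set.mem_singleton_iff, List.mem_cons, List.not_mem_nil, or_false]; rfl)

end
end CA.LyO
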