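import Cfsg.Agent.Lib.Spor.LyG2
import Cfsg.Agent.Lib.Spor.LyRel
import Cfsg.Agent.S1059

/-! Words in the generators of the Lyons group other than `z` are tested in `G₂(5)`. -/

set_option autoImplicit false
set_option linter.all false
set_option maxRecDepth 100000
set_option Elab.async false

namespace CA.LyS
open Cfsg CA.CNet CA.CWord CA.CMat CA.CLink CA.CLink2 CA.CTodd CA.LyG2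

def ms2 : List (Mat × Mat) := [([[3,4,0,0,0,0,2,0,0,4,0,0,0,0],[0,1,0,0,0,0,0,0,0,0,0,0,0,0],[0,0,2,0,0,0,0,0,0,0,0,0,0,0],[0,0,0,3,3,4,0,4,0,0,0,0,0,0],[0,0,0,3,4,0,0,3,0,0,0,0,0,0],[0,0,0,2,0,1,0,4,0,0,0,0,0,0],[3,1,0,0,0,0,3,0,0,3,0,0,0,0],[0,0,0,3,1,1,0,2,0,0,0,0,0,0],[0,0,0,0,0,0,0,0,4,0,4,3,3,0],[4,3,0,0,0,0,2,0,0,3,0,0,0,0],[0,0,0,0,0,0,0,0,4,0,2,0,1,0],[0,0,0,0,0,0,0,0,4,0,0,3,2,0],[0,0,0,0,0,0,0,0,1,0,2,3,1,0],[0,0,0,0,0,0,0,0,0,0,0,0,0,3]],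
  [[3,4,0,0,0,0,2,0,0,4,0,0,0,0],[0,1,0,0,0,0,0,0,0,0,0,0,0,0],[0,0,3,0,0,0,0,0,0,0,0,0,0,0],[0,0,0,1,1,3,0,3,0,0,0,0,0,0],[0,0,0,1,3,0,0,1,0,0,0,0,0,0],[0,0,0,4,0,2,0,3,0,0,0,0,0,0],[3,1,0,0,0,0,3,0,0,3,0,0,0,0],[0,0,0,1,2,2,0,4,0,0,0,0,0,0],[0,0,0,0,0,0,0,0,2,0,2,4,4,0],[4,3,0,0,0,0,2,0,0,3,0,0,0,0],[0,0,0,0,0,0,0,0,2,0,1,0,3,0],[0,0,0,0,0,0,0,0,2,0,0,4,1,0],[0,0,0,0,0,0,0,0,3,0,1,4,3,0],[0,0,0,0,0,0,0,0,0,0,0,0,0,2]]),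
  ([[1,0,0,0,0,0,1,0,0,0,0,0,0,0],[0,1,0,0,0,0,0,0,0,0,0,0,0,0],[0,0,1,0,0,0,0,0,0,0,0,0,0,0],[0,0,0,1,0,0,0,0,0,0,0,0,0,0],[0,0,0,4,1,0,0,0,0,0,0,0,0,0],[0,0,0,4,2,1,0,0,0,0,0,0,0,0],[0,0,0,0,0,0,1,0,0,0,0,0,0,0],[0,0,0,4,3,3,0,1,0,0,0,0,0,0],[0,0,0,0,0,0,0,0,1,0,0,0,0,0],[3,1,0,0,0,0,4,0,0,1,0,0,0,0],[0,0,0,0,0,0,0,0,4,0,1,0,0,0],[0,0,0,0,0,0,0,0,1,0,3,1,0,0],[0,0,0,0,0,0,0,0,1,0,2,3,1,0],[0,0,0,0,0,0,0,0,0,0,0,0,0,1]],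
  [[1,0,0,0,0,0,4,0,0,0,0,0,0,0],[0,1,0,0,0,0,0,0,0,0,0,0,0,0],[0,0,1,0,0,0,0,0,0,0,0,0,0,0],[0,0,0,1,0,0,0,0,0,0,0,0,0,0],[0,0,0,1,1,0,0,0,0,0,0,0,0,0],[0,0,0,4,3,1,0,0,0,0,0,0,0,0],[0,0,0,0,0,0,1,0,0,0,0,0,0,0],[0,0,0,1,3,2,0,1,0,0,0,0,0,0],[0,0,0,0,0,0,0,0,1,0,0,0,0,0],[2,4,0,0,0,0,4,0,0,1,0,0,0,0],[0,0,0,0,0,0,0,0,1,0,1,0,0,0],[0,0,0,0,0,0,0,0,1,0,2,1,0,0],[0,0,0,0,0,0,0,0,4,0,2,2,1,0],[0,0,0,0,0,0,0,0,0,0,0,0,0,1]]),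
  ([[1,0,4,2,4,1,0,0,0,0,0,0,0,0],[0,1,0,2,1,3,0,0,0,0,0,0,0,0],[0,0,1,0,0,0,0,0,0,0,0,0,0,0],[0,0,0,1,0,0,0,0,0,0,0,0,0,0],[0,0,4,0,1,0,0,0,0,0,0,0,0,0],[0,0,2,0,0,1,0,0,0,0,0,0,0,0],[0,0,1,2,3,0,1,0,0,0,0,0,0,0],[0,0,2,0,0,0,0,1,0,0,0,0,0,0],[0,0,1,3,2,0,3,0,1,0,0,0,0,0],[0,0,4,0,2,1,0,4,0,1,0,0,0,0],[1,4,1,4,0,4,4,0,0,0,1,0,0,0],[3,0,1,1,0,0,3,4,0,2,0,1,0,0],[4,2,4,1,3,2,0,3,0,4,0,0,1,0],[4,3,0,1,2,2,2,4,3,3,4,3,0,1]],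
  [[1,0,4,3,1,4,0,0,0,0,0,0,0,0],[0,1,0,3,4,2,0,0,0,0,0,0,0,0],[0,0,1,0,0,0,0,0,0,0,0,0,0,0],[0,0,0,1,0,0,0,0,0,0,0,0,0,0],[0,0,1,0,1,0,0,0,0,0,0,0,0,0],[0,0,3,0,0,1,0,0,0,0,0,0,0,0],[0,0,1,3,2,0,1,0,0,0,0,0,0,0],[0,0,3,0,0,0,0,1,0,0,0,0,0,0],[0,0,4,3,2,0,2,0,1,0,0,0,0,0],[0,0,4,0,3,4,0,1,0,1,0,0,0,0],[4,1,4,4,0,4,1,0,0,0,1,0,0,0],[2,0,4,1,0,0,2,4,0,3,0,1,0,0],[1,3,1,1,3,2,0,3,0,1,0,0,1,0],[4,3,0,4,3,3,2,1,2,3,1,2,0,1]]),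
  ([[1,4,0,0,0,0,0,0,0,0,0,0,0,0],[0,4,0,0,0,0,0,0,0,0,0,0,0,0],[0,0,0,0,0,0,0,0,0,0,0,0,0,4],[0,0,0,0,0,0,0,0,1,0,0,0,0,0],[0,0,0,0,0,0,0,0,0,0,1,0,0,0],[0,0,0,0,0,0,0,0,0,0,0,4,0,0],[0,0,0,0,0,0,1,0,0,0,0,0,0,0],[0,0,0,0,0,0,0,0,0,0,0,0,4,0],[0,0,0,4,0,0,0,0,0,0,0,0,0,0],[0,0,0,0,0,0,0,0,0,1,0,0,0,0],[0,0,0,0,4,0,0,0,0,0,0,0,0,0],[0,0,0,0,0,1,0,0,0,0,0,0,0,0],[0,0,0,0,0,0,0,1,0,0,0,0,0,0],[0,0,4,0,0,0,0,0,0,0,0,0,0,0]],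
  [[1,4,0,0,0,0,0,0,0,0,0,0,0,0],[0,4,0,0,0,0,0,0,0,0,0,0,0,0],[0,0,0,0,0,0,0,0,0,0,0,0,0,4],[0,0,0,0,0,0,0,0,4,0,0,0,0,0],[0,0,0,0,0,0,0,0,0,0,4,0,0,0],[0,0,0,0,0,0,0,0,0,0,0,1,0,0],[0,0,0,0,0,0,1,0,0,0,0,0,0,0],[0,0,0,0,0,0,0,0,0,0,0,0,1,0],[0,0,0,1,0,0,0,0,0,0,0,0,0,0],[0,0,0,0,0,0,0,0,0,1,0,0,0,0],[0,0,0,0,1,0,0,0,0,0,0,0,0,0],[0,0,0,0,0,4,0,0,0,0,0,0,0,0],[0,0,0,0,0,0,0,4,0,0,0,0,0,0],[0,0,4,0,0,0,0,0,0,0,0,0,0,0]]),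
  ([[1,0,0,0,0,0,0,0,0,0,0,0,0,0],[0,1,0,0,0,0,0,0,0,0,0,0,0,0],[0,0,1,0,0,0,0,0,0,0,0,0,0,0],[0,0,0,1,0,0,0,0,0,0,0,0,0,0],[0,0,0,0,1,0,0,0,0,0,0,0,0,0],[0,0,0,0,0,1,0,0,0,0,0,0,0,0],[0,0,0,0,0,0,1,0,0,0,0,0,0,0],[0,0,0,0,0,0,0,1,0,0,0,0,0,0],[0,0,0,0,0,0,0,0,1,0,0,0,0,0],[0,0,0,0,0,0,0,0,0,1,0,0,0,0],[0,0,0,0,0,0,0,0,0,0,1,0,0,0],[0,0,0,0,0,0,0,0,0,0,0,1,0,0],[0,0,0,0,0,0,0,0,0,0,0,0,1,0],[0,0,0,0,0,0,0,0,0,0,0,0,0,1]],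
  [[1,0,0,0,0,0,0,0,0,0,0,0,0,0],[0,1,0,0,0,0,0,0,0,0,0,0,0,0],[0,0,1,0,0,0,0,0,0,0,0,0,0,0],[0,0,0,1,0,0,0,0,0,0,0,0,0,0],[0,0,0,0,1,0,0,0,0,0,0,0,0,0],[0,0,0,0,0,1,0,0,0,0,0,0,0,0],[0,0,0,0,0,0,1,0,0,0,0,0,0,0],[0,0,0,0,0,0,0,1,0,0,0,0,0,0],[0,0,0,0,0,0,0,0,1,0,0,0,0,0],[0,0,0,0,0,0,0,0,0,1,0,0,0,0],[0,0,0,0,0,0,0,0,0,0,1,0,0,0],[0,0,0,0,0,0,0,0,0,0,0,1,0,0],[0,0,0,0,0,0,0,0,0,0,0,0,1,0],[0,0,0,0,0,0,0,0,0,0,0,0,0,1]]),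
  ([[1,0,4,2,4,1,3,0,0,0,0,0,0,0],[3,4,0,4,2,0,4,0,0,0,0,0,0,0],[0,0,0,3,0,0,0,0,0,0,0,0,0,0],[0,0,2,0,0,0,0,0,0,0,0,0,0,0],[0,0,1,3,4,0,0,0,0,0,0,0,0,0],[0,0,2,0,1,0,2,0,0,0,0,0,0,0],[0,0,2,3,3,3,0,0,0,0,0,0,0,0],[0,0,4,4,3,0,2,0,4,0,0,0,0,0],[0,0,0,2,3,1,0,4,0,0,0,0,0,0],[2,3,2,4,0,3,2,0,4,0,2,0,0,0],[2,4,2,2,0,4,3,2,0,3,0,0,0,0],[1,4,2,1,4,0,0,1,1,3,1,4,0,0],[0,2,1,4,3,1,2,2,4,4,0,4,0,3],[4,3,3,1,1,1,1,0,4,1,1,3,2,0]],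
  [[1,0,4,2,4,1,3,0,0,0,0,0,0,0],[3,4,0,4,2,0,4,0,0,0,0,0,0,0],[0,0,0,3,0,0,0,0,0,0,0,0,0,0],[0,0,2,0,0,0,0,0,0,0,0,0,0,0],[0,0,1,3,4,0,0,0,0,0,0,0,0,0],[0,0,2,0,1,0,2,0,0,0,0,0,0,0],[0,0,2,3,3,3,0,0,0,0,0,0,0,0],[0,0,4,4,3,0,2,0,4,0,0,0,0,0],[0,0,0,2,3,1,0,4,0,0,0,0,0,0],[2,3,2,4,0,3,2,0,4,0,2,0,0,0],[2,4,2,2,0,4,3,2,0,3,0,0,0,0],[1,4,2,1,4,0,0,1,1,3,1,4,0,0],[0,2,1,4,3,1,2,2,4,4,0,4,0,3],[4,3,3,1,1,1,1,0,4,1,1,3,2,0]]),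
  ([[3,4,0,0,0,0,2,0,0,4,0,0,0,0],[0,1,0,0,0,0,0,0,0,0,0,0,0,0],[0,0,2,0,0,0,0,0,0,0,0,0,0,0],[0,0,0,3,3,4,0,4,0,0,0,0,0,0],[0,0,0,3,4,0,0,3,0,0,0,0,0,0],[0,0,0,2,0,1,0,4,0,0,0,0,0,0],[3,1,0,0,0,0,3,0,0,3,0,0,0,0],[0,0,0,3,1,1,0,2,0,0,0,0,0,0],[0,0,0,0,0,0,0,0,4,0,4,3,3,0],[4,3,0,0,0,0,2,0,0,3,0,0,0,0],[0,0,0,0,0,0,0,0,4,0,2,0,1,0],[0,0,0,0,0,0,0,0,4,0,0,3,2,0],[0,0,0,0,0,0,0,0,1,0,2,3,1,0],[0,0,0,0,0,0,0,0,0,0,0,0,0,3]],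
  [[3,4,0,0,0,0,2,0,0,4,0,0,0,0],[0,1,0,0,0,0,0,0,0,0,0,0,0,0],[0,0,3,0,0,0,0,0,0,0,0,0,0,0],[0,0,0,1,1,3,0,3,0,0,0,0,0,0],[0,0,0,1,3,0,0,1,0,0,0,0,0,0],[0,0,0,4,0,2,0,3,0,0,0,0,0,0],[3,1,0,0,0,0,3,0,0,3,0,0,0,0],[0,0,0,1,2,2,0,4,0,0,0,0,0,0],[0,0,0,0,0,0,0,0,2,0,2,4,4,0],[4,3,0,0,0,0,2,0,0,3,0,0,0,0],[0,0,0,0,0,0,0,0,2,0,1,0,3,0],[0,0,0,0,0,0,0,0,2,0,0,4,1,0],[0,0,0,0,0,0,0,0,3,0,1,4,3,0],[0,0,0,0,0,0,0,0,0,0,0,0,0,2]]),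
  ([[0,3,0,0,0,0,2,0,0,2,0,0,0,0],[0,1,0,0,0,0,0,0,0,0,0,0,0,0],[0,0,2,0,0,0,0,0,0,0,0,0,0,0],[0,0,0,1,2,2,0,4,0,0,0,0,0,0],[0,0,0,4,1,4,0,4,0,0,0,0,0,0],[0,0,0,4,4,4,0,1,0,0,0,0,0,0],[4,3,0,0,0,0,2,0,0,3,0,0,0,0],[0,0,0,4,2,3,0,4,0,0,0,0,0,0],[0,0,0,0,0,0,0,0,3,0,1,4,3,0],[4,3,0,0,0,0,3,0,0,2,0,0,0,0],[0,0,0,0,0,0,0,0,2,0,3,3,3,0],[0,0,0,0,0,0,0,0,3,0,3,2,3,0],[0,0,0,0,0,0,0,0,3,0,4,4,2,0],[0,0,0,0,0,0,0,0,0,0,0,0,0,3]],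
  [[0,3,0,0,0,0,2,0,0,2,0,0,0,0],[0,1,0,0,0,0,0,0,0,0,0,0,0,0],[0,0,3,0,0,0,0,0,0,0,0,0,0,0],[0,0,0,2,4,4,0,3,0,0,0,0,0,0],[0,0,0,3,2,3,0,3,0,0,0,0,0,0],[0,0,0,3,3,3,0,2,0,0,0,0,0,0],[4,3,0,0,0,0,2,0,0,3,0,0,0,0],[0,0,0,3,4,1,0,3,0,0,0,0,0,0],[0,0,0,0,0,0,0,0,4,0,3,2,4,0],[4,3,0,0,0,0,3,0,0,2,0,0,0,0],[0,0,0,0,0,0,0,0,1,0,4,4,4,0],[0,0,0,0,0,0,0,0,4,0,4,1,4,0],[0,0,0,0,0,0,0,0,4,0,2,2,1,0],[0,0,0,0,0,0,0,0,0,0,0,0,0,2]]),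
  ([[4,1,0,0,0,0,0,0,0,0,0,0,0,0],[0,1,0,0,0,0,0,0,0,0,0,0,0,0],[0,0,2,0,0,0,0,0,0,0,0,0,0,0],[0,0,0,0,0,0,0,4,0,0,0,0,0,0],[0,0,0,0,0,2,0,0,0,0,0,0,0,0],[0,0,0,0,4,0,0,0,0,0,0,0,0,0],[0,0,0,0,0,0,0,0,0,3,0,0,0,0],[0,0,0,2,0,0,0,0,0,0,0,0,0,0],[0,0,0,0,0,0,0,0,0,0,0,0,3,0],[0,0,0,0,0,0,2,0,0,0,0,0,0,0],[0,0,0,0,0,0,0,0,0,0,0,4,0,0],[0,0,0,0,0,0,0,0,0,0,3,0,0,0],[0,0,0,0,0,0,0,0,4,0,0,0,0,0],[0,0,0,0,0,0,0,0,0,0,0,0,0,3]],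
  [[4,1,0,0,0,0,0,0,0,0,0,0,0,0],[0,1,0,0,0,0,0,0,0,0,0,0,0,0],[0,0,3,0,0,0,0,0,0,0,0,0,0,0],[0,0,0,0,0,0,0,3,0,0,0,0,0,0],[0,0,0,0,0,4,0,0,0,0,0,0,0,0],[0,0,0,0,3,0,0,0,0,0,0,0,0,0],[0,0,0,0,0,0,0,0,0,3,0,0,0,0],[0,0,0,4,0,0,0,0,0,0,0,0,0,0],[0,0,0,0,0,0,0,0,0,0,0,0,4,0],[0,0,0,0,0,0,2,0,0,0,0,0,0,0],[0,0,0,0,0,0,0,0,0,0,0,2,0,0],[0,0,0,0,0,0,0,0,0,0,4,0,0,0],[0,0,0,0,0,0,0,0,2,0,0,0,0,0],[0,0,0,0,0,0,0,0,0,0,0,0,0,2]]),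
  ([[0,3,0,0,0,0,3,0,0,3,0,0,0,0],[0,1,0,0,0,0,0,0,0,0,0,0,0,0],[0,0,2,0,0,0,0,0,0,0,0,0,0,0],[0,0,0,4,2,3,0,4,0,0,0,0,0,0],[0,0,0,4,4,4,0,1,0,0,0,0,0,0],[0,0,0,1,4,1,0,1,0,0,0,0,0,0],[1,2,0,0,0,0,2,0,0,3,0,0,0,0],[0,0,0,4,3,3,0,1,0,0,0,0,0,0],[0,0,0,0,0,0,0,0,2,0,1,1,3,0],[1,2,0,0,0,0,3,0,0,2,0,0,0,0],[0,0,0,0,0,0,0,0,2,0,2,3,2,0],[0,0,0,0,0,0,0,0,2,0,3,3,3,0],[0,0,0,0,0,0,0,0,3,0,1,4,3,0],[0,0,0,0,0,0,0,0,0,0,0,0,0,3]],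
  [[0,3,0,0,0,0,3,0,0,3,0,0,0,0],[0,1,0,0,0,0,0,0,0,0,0,0,0,0],[0,0,3,0,0,0,0,0,0,0,0,0,0,0],[0,0,0,3,4,1,0,3,0,0,0,0,0,0],[0,0,0,3,3,3,0,2,0,0,0,0,0,0],[0,0,0,2,3,2,0,2,0,0,0,0,0,0],[1,2,0,0,0,0,2,0,0,3,0,0,0,0],[0,0,0,3,1,1,0,2,0,0,0,0,0,0],[0,0,0,0,0,0,0,0,1,0,3,3,4,0],[1,2,0,0,0,0,3,0,0,2,0,0,0,0],[0,0,0,0,0,0,0,0,1,0,1,4,1,0],[0,0,0,0,0,0,0,0,1,0,4,4,4,0],[0,0,0,0,0,0,0,0,4,0,3,2,4,0],[0,0,0,0,0,0,0,0,0,0,0,0,0,2]]),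
  ([[1,0,4,2,4,1,0,0,0,0,0,0,0,0],[0,1,0,2,1,3,0,0,0,0,0,0,0,0],[0,0,1,0,0,0,0,0,0,0,0,0,0,0],[0,0,0,1,0,0,0,0,0,0,0,0,0,0],[0,0,4,0,1,0,0,0,0,0,0,0,0,0],[0,0,2,0,0,1,0,0,0,0,0,0,0,0],[0,0,1,2,3,0,1,0,0,0,0,0,0,0],[0,0,2,0,0,0,0,1,0,0,0,0,0,0],[0,0,1,3,2,0,3,0,1,0,0,0,0,0],[0,0,4,0,2,1,0,4,0,1,0,0,0,0],[1,4,1,4,0,4,4,0,0,0,1,0,0,0],[3,0,1,1,0,0,3,4,0,2,0,1,0,0],[4,2,4,1,3,2,0,3,0,4,0,0,1,0],[4,3,0,1,2,2,2,4,3,3,4,3,0,1]],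
  [[1,0,4,3,1,4,0,0,0,0,0,0,0,0],[0,1,0,3,4,2,0,0,0,0,0,0,0,0],[0,0,1,0,0,0,0,0,0,0,0,0,0,0],[0,0,0,1,0,0,0,0,0,0,0,0,0,0],[0,0,1,0,1,0,0,0,0,0,0,0,0,0],[0,0,3,0,0,1,0,0,0,0,0,0,0,0],[0,0,1,3,2,0,1,0,0,0,0,0,0,0],[0,0,3,0,0,0,0,1,0,0,0,0,0,0],[0,0,4,3,2,0,2,0,1,0,0,0,0,0],[0,0,4,0,3,4,0,1,0,1,0,0,0,0],[4,1,4,4,0,4,1,0,0,0,1,0,0,0],[2,0,4,1,0,0,2,4,0,3,0,1,0,0],[1,3,1,1,3,2,0,3,0,1,0,0,1,0],[4,3,0,4,3,3,2,1,2,3,1,2,0,1]]),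
  ([[1,0,0,0,0,2,0,0,0,0,0,0,0,0],[0,1,0,0,0,1,0,3,0,0,0,0,0,0],[0,0,1,0,0,0,0,0,0,0,0,0,0,0],[0,0,2,1,0,0,0,0,0,0,0,0,0,0],[0,0,3,0,1,0,0,0,0,0,0,0,0,0],[0,0,0,0,0,1,0,0,0,0,0,0,0,0],[0,0,4,0,1,2,1,0,0,0,0,0,0,0],[0,0,0,0,0,0,0,1,0,0,0,0,0,0],[4,4,3,0,3,2,1,1,1,0,0,0,0,0],[0,0,0,0,0,0,0,3,0,1,0,0,0,0],[2,3,0,0,0,1,0,4,0,3,1,0,0,0],[0,0,0,0,0,0,0,1,0,4,0,1,0,0],[0,0,0,0,0,0,0,0,0,0,0,0,1,0],[0,0,0,0,0,0,0,2,0,2,0,1,3,1]],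
  [[1,0,0,0,0,3,0,0,0,0,0,0,0,0],[0,1,0,0,0,4,0,2,0,0,0,0,0,0],[0,0,1,0,0,0,0,0,0,0,0,0,0,0],[0,0,3,1,0,0,0,0,0,0,0,0,0,0],[0,0,2,0,1,0,0,0,0,0,0,0,0,0],[0,0,0,0,0,1,0,0,0,0,0,0,0,0],[0,0,4,0,4,3,1,0,0,0,0,0,0,0],[0,0,0,0,0,0,0,1,0,0,0,0,0,0],[1,1,2,0,3,2,4,1,1,0,0,0,0,0],[0,0,0,0,0,0,0,2,0,1,0,0,0,0],[3,2,0,0,0,1,0,4,0,2,1,0,0,0],[0,0,0,0,0,0,0,1,0,1,0,1,0,0],[0,0,0,0,0,0,0,0,0,0,0,0,1,0],[0,0,0,0,0,0,0,3,0,2,0,4,2,1]]),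
  ([[1,0,3,3,3,1,0,0,0,0,0,0,0,0],[0,1,0,3,2,3,0,0,0,0,0,0,0,0],[0,0,1,0,0,0,0,0,0,0,0,0,0,0],[0,0,0,1,0,0,0,0,0,0,0,0,0,0],[0,0,4,0,1,0,0,0,0,0,0,0,0,0],[0,0,4,0,0,1,0,0,0,0,0,0,0,0],[0,0,1,4,3,0,1,0,0,0,0,0,0,0],[0,0,3,0,0,0,0,1,0,0,0,0,0,0],[0,0,1,1,2,0,3,0,1,0,0,0,0,0],[0,0,1,0,3,2,0,4,0,1,0,0,0,0],[1,4,2,1,0,4,3,0,0,0,1,0,0,0],[1,0,4,3,0,0,2,4,0,2,0,1,0,0],[1,3,2,1,4,3,0,1,0,3,0,0,1,0],[3,1,0,3,3,4,3,4,2,3,3,3,0,1]],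
  [[1,0,3,2,2,4,0,0,0,0,0,0,0,0],[0,1,0,2,3,2,0,0,0,0,0,0,0,0],[0,0,1,0,0,0,0,0,0,0,0,0,0,0],[0,0,0,1,0,0,0,0,0,0,0,0,0,0],[0,0,1,0,1,0,0,0,0,0,0,0,0,0],[0,0,1,0,0,1,0,0,0,0,0,0,0,0],[0,0,1,1,2,0,1,0,0,0,0,0,0,0],[0,0,2,0,0,0,0,1,0,0,0,0,0,0],[0,0,4,1,2,0,2,0,1,0,0,0,0,0],[0,0,1,0,2,3,0,1,0,1,0,0,0,0],[4,1,3,1,0,4,2,0,0,0,1,0,0,0],[4,0,1,3,0,0,3,4,0,3,0,1,0,0],[4,2,3,1,4,3,0,1,0,2,0,0,1,0],[3,1,0,2,2,1,3,1,3,3,2,2,0,1]]),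
  ([[1,0,0,0,0,1,0,0,0,0,0,0,0,0],[0,1,0,0,0,3,0,0,0,0,0,0,0,0],[0,0,1,0,0,0,0,0,0,0,0,0,0,0],[0,0,0,1,0,0,0,0,0,0,0,0,0,0],[0,0,4,0,1,0,0,0,0,0,0,0,0,0],[0,0,0,0,0,1,0,0,0,0,0,0,0,0],[0,0,1,0,3,0,1,0,0,0,0,0,0,0],[0,0,0,0,0,0,0,1,0,0,0,0,0,0],[0,0,1,0,2,0,3,0,1,0,0,0,0,0],[0,0,0,0,0,0,0,4,0,1,0,0,0,0],[1,4,0,0,0,4,0,0,0,0,1,0,0,0],[0,0,0,0,0,0,0,4,0,2,0,1,0,0],[0,0,0,0,0,0,0,0,0,0,0,0,1,0],[0,0,0,0,0,0,0,4,0,3,0,3,0,1]],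
  [[1,0,0,0,0,4,0,0,0,0,0,0,0,0],[0,1,0,0,0,2,0,0,0,0,0,0,0,0],[0,0,1,0,0,0,0,0,0,0,0,0,0,0],[0,0,0,1,0,0,0,0,0,0,0,0,0,0],[0,0,1,0,1,0,0,0,0,0,0,0,0,0],[0,0,0,0,0,1,0,0,0,0,0,0,0,0],[0,0,1,0,2,0,1,0,0,0,0,0,0,0],[0,0,0,0,0,0,0,1,0,0,0,0,0,0],[0,0,4,0,2,0,2,0,1,0,0,0,0,0],[0,0,0,0,0,0,0,1,0,1,0,0,0,0],[4,1,0,0,0,4,0,0,0,0,1,0,0,0],[0,0,0,0,0,0,0,4,0,3,0,1,0,0],[0,0,0,0,0,0,0,0,0,0,0,0,1,0],[0,0,0,0,0,0,0,1,0,3,0,2,0,1]]),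
  ([[1,0,2,0,0,0,0,0,0,0,0,0,0,0],[0,1,4,0,0,0,0,0,0,0,0,0,0,0],[0,0,1,0,0,0,0,0,0,0,0,0,0,0],[0,0,0,1,0,0,0,0,0,0,0,0,0,0],[0,0,0,0,1,0,0,0,0,0,0,0,0,0],[0,0,0,0,0,1,0,0,0,0,0,0,0,0],[0,0,0,0,0,0,1,0,0,0,0,0,0,0],[0,0,0,0,0,0,0,1,0,0,0,0,0,0],[0,0,0,2,0,0,0,0,1,0,0,0,0,0],[0,0,0,0,0,0,0,0,0,1,0,0,0,0],[0,0,0,0,2,0,0,0,0,0,1,0,0,0],[0,0,0,0,0,3,0,0,0,0,0,1,0,0],[0,0,0,0,0,0,0,3,0,0,0,0,1,0],[0,3,1,0,0,0,0,0,0,0,0,0,0,1]],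
  [[1,0,3,0,0,0,0,0,0,0,0,0,0,0],[0,1,1,0,0,0,0,0,0,0,0,0,0,0],[0,0,1,0,0,0,0,0,0,0,0,0,0,0],[0,0,0,1,0,0,0,0,0,0,0,0,0,0],[0,0,0,0,1,0,0,0,0,0,0,0,0,0],[0,0,0,0,0,1,0,0,0,0,0,0,0,0],[0,0,0,0,0,0,1,0,0,0,0,0,0,0],[0,0,0,0,0,0,0,1,0,0,0,0,0,0],[0,0,0,3,0,0,0,0,1,0,0,0,0,0],[0,0,0,0,0,0,0,0,0,1,0,0,0,0],[0,0,0,0,3,0,0,0,0,0,1,0,0,0],[0,0,0,0,0,2,0,0,0,0,0,1,0,0],[0,0,0,0,0,0,0,2,0,0,0,0,1,0],[0,2,1,0,0,0,0,0,0,0,0,0,0,1]]),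
  ([[1,0,0,0,0,0,0,0,0,0,0,0,0,0],[0,1,0,0,0,0,0,0,0,0,0,0,0,0],[0,0,4,0,0,0,0,0,0,0,0,0,0,0],[0,0,0,3,0,0,0,0,0,0,0,0,0,0],[0,0,0,0,3,0,0,0,0,0,0,0,0,0],[0,0,0,0,0,3,0,0,0,0,0,0,0,0],[0,0,0,0,0,0,1,0,0,0,0,0,0,0],[0,0,0,0,0,0,0,3,0,0,0,0,0,0],[0,0,0,0,0,0,0,0,2,0,0,0,0,0],[0,0,0,0,0,0,0,0,0,1,0,0,0,0],[0,0,0,0,0,0,0,0,0,0,2,0,0,0],[0,0,0,0,0,0,0,0,0,0,0,2,0,0],[0,0,0,0,0,0,0,0,0,0,0,0,2,0],[0,0,0,0,0,0,0,0,0,0,0,0,0,4]],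
  [[1,0,0,0,0,0,0,0,0,0,0,0,0,0],[0,1,0,0,0,0,0,0,0,0,0,0,0,0],[0,0,4,0,0,0,0,0,0,0,0,0,0,0],[0,0,0,2,0,0,0,0,0,0,0,0,0,0],[0,0,0,0,2,0,0,0,0,0,0,0,0,0],[0,0,0,0,0,2,0,0,0,0,0,0,0,0],[0,0,0,0,0,0,1,0,0,0,0,0,0,0],[0,0,0,0,0,0,0,2,0,0,0,0,0,0],[0,0,0,0,0,0,0,0,3,0,0,0,0,0],[0,0,0,0,0,0,0,0,0,1,0,0,0,0],[0,0,0,0,0,0,0,0,0,0,3,0,0,0],[0,0,0,0,0,0,0,0,0,0,0,3,0,0],[0,0,0,0,0,0,0,0,0,0,0,0,3,0],[0,0,0,0,0,0,0,0,0,0,0,0,0,4]]),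
  ([[1,4,0,0,0,0,0,0,0,0,0,0,0,0],[0,4,0,0,0,0,0,0,0,0,0,0,0,0],[0,0,0,0,0,0,0,0,0,0,0,0,0,4],[0,0,0,0,0,0,0,0,1,0,0,0,0,0],[0,0,0,0,0,0,0,0,0,0,1,0,0,0],[0,0,0,0,0,0,0,0,0,0,0,4,0,0],[0,0,0,0,0,0,1,0,0,0,0,0,0,0],[0,0,0,0,0,0,0,0,0,0,0,0,4,0],[0,0,0,4,0,0,0,0,0,0,0,0,0,0],[0,0,0,0,0,0,0,0,0,1,0,0,0,0],[0,0,0,0,4,0,0,0,0,0,0,0,0,0],[0,0,0,0,0,1,0,0,0,0,0,0,0,0],[0,0,0,0,0,0,0,1,0,0,0,0,0,0],[0,0,4,0,0,0,0,0,0,0,0,0,0,0]],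
  [[1,4,0,0,0,0,0,0,0,0,0,0,0,0],[0,4,0,0,0,0,0,0,0,0,0,0,0,0],[0,0,0,0,0,0,0,0,0,0,0,0,0,4],[0,0,0,0,0,0,0,0,4,0,0,0,0,0],[0,0,0,0,0,0,0,0,0,0,4,0,0,0],[0,0,0,0,0,0,0,0,0,0,0,1,0,0],[0,0,0,0,0,0,1,0,0,0,0,0,0,0],[0,0,0,0,0,0,0,0,0,0,0,0,1,0],[0,0,0,1,0,0,0,0,0,0,0,0,0,0],[0,0,0,0,0,0,0,0,0,1,0,0,0,0],[0,0,0,0,1,0,0,0,0,0,0,0,0,0],[0,0,0,0,0,4,0,0,0,0,0,0,0,0],[0,0,0,0,0,0,0,4,0,0,0,0,0,0],[0,0,4,0,0,0,0,0,0,0,0,0,0,0]]),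
  ([[1,4,0,0,0,0,0,0,0,0,0,0,0,0],[0,4,0,0,0,0,0,0,0,0,0,0,0,0],[0,0,0,0,0,0,0,0,0,0,0,0,0,4],[0,0,0,0,0,0,0,0,4,0,0,0,0,0],[0,0,0,0,0,0,0,0,0,0,4,0,0,0],[0,0,0,0,0,0,0,0,0,0,0,1,0,0],[0,0,0,0,0,0,1,0,0,0,0,0,0,0],[0,0,0,0,0,0,0,0,0,0,0,0,1,0],[0,0,0,1,0,0,0,0,0,0,0,0,0,0],[0,0,0,0,0,0,0,0,0,1,0,0,0,0],[0,0,0,0,1,0,0,0,0,0,0,0,0,0],[0,0,0,0,0,4,0,0,0,0,0,0,0,0],[0,0,0,0,0,0,0,4,0,0,0,0,0,0],[0,0,4,0,0,0,0,0,0,0,0,0,0,0]],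
  [[1,4,0,0,0,0,0,0,0,0,0,0,0,0],[0,4,0,0,0,0,0,0,0,0,0,0,0,0],[0,0,0,0,0,0,0,0,0,0,0,0,0,4],[0,0,0,0,0,0,0,0,1,0,0,0,0,0],[0,0,0,0,0,0,0,0,0,0,1,0,0,0],[0,0,0,0,0,0,0,0,0,0,0,4,0,0],[0,0,0,0,0,0,1,0,0,0,0,0,0,0],[0,0,0,0,0,0,0,0,0,0,0,0,4,0],[0,0,0,4,0,0,0,0,0,0,0,0,0,0],[0,0,0,0,0,0,0,0,0,1,0,0,0,0],[0,0,0,0,4,0,0,0,0,0,0,0,0,0],[0,0,0,0,0,1,0,0,0,0,0,0,0,0],[0,0,0,0,0,0,0,1,0,0,0,0,0,0],[0,0,4,0,0,0,0,0,0,0,0,0,0,0]]),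
  ([[1,2,1,0,0,1,3,2,4,3,0,3,2,3],[0,0,0,1,4,0,0,3,2,0,2,2,4,0],[3,1,4,1,1,4,4,3,4,4,1,0,3,2],[0,3,1,2,4,1,4,2,2,1,0,4,0,2],[1,0,0,0,3,0,3,0,3,1,3,2,3,0],[2,2,4,1,1,2,1,3,3,2,2,3,0,3],[1,2,1,2,4,3,3,2,0,3,3,4,3,3],[2,3,3,2,2,3,3,4,0,0,4,4,2,1],[2,0,1,2,4,1,4,4,4,4,4,0,2,2],[1,2,1,4,0,0,3,2,4,3,4,2,2,3],[3,1,1,2,2,0,0,2,1,2,2,0,2,2],[4,4,4,0,3,2,0,3,4,1,1,3,3,3],[3,3,2,1,0,1,3,2,2,4,3,0,2,4],[1,2,3,3,3,2,3,4,2,3,3,0,4,4]],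
  [[1,2,1,0,0,4,3,3,1,3,0,2,3,3],[0,0,0,4,1,0,0,2,3,0,3,3,1,0],[3,1,4,4,4,1,4,2,1,4,4,0,2,2],[0,2,4,2,4,1,1,2,2,4,0,4,0,3],[4,0,0,0,3,0,2,0,3,4,3,2,3,0],[3,3,1,1,1,2,4,3,3,3,2,3,0,2],[1,2,1,3,1,2,3,3,0,3,2,1,2,3],[3,2,2,2,2,3,2,4,0,0,4,4,2,4],[3,0,4,2,4,1,1,4,4,1,4,0,2,3],[1,2,1,1,0,0,3,3,1,3,1,3,3,3],[2,4,4,2,2,0,0,2,1,3,2,0,2,3],[1,1,1,0,3,2,0,3,4,4,1,3,3,2],[2,2,3,1,0,1,2,2,2,1,3,0,2,1],[1,2,3,2,2,3,3,1,3,3,2,0,1,4]]),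
  ([[3,1,0,0,0,0,0,0,0,1,2,3,2,0],[2,1,0,0,0,0,0,0,0,4,0,0,0,0],[0,0,0,0,0,0,0,0,0,0,0,0,4,0],[0,0,0,0,0,0,0,4,0,4,0,2,1,2],[0,0,0,0,0,0,0,0,0,1,0,1,3,4],[0,0,0,0,0,0,0,0,0,0,0,4,2,2],[3,2,0,0,0,4,0,2,0,1,4,1,4,0],[0,0,0,0,0,0,0,0,0,0,0,0,0,1],[2,4,1,0,1,1,2,4,2,2,2,4,4,0],[0,0,0,0,0,0,0,0,0,0,4,1,4,0],[1,2,0,0,4,4,1,1,4,1,4,3,3,0],[1,2,0,0,0,0,1,0,3,1,3,1,1,0],[0,0,0,0,0,0,0,0,4,0,4,3,3,0],[0,0,0,4,4,2,0,2,0,0,0,0,0,0]],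
  [[1,4,0,0,3,3,0,2,0,2,0,0,0,0],[3,3,0,0,0,0,0,0,0,1,0,0,0,0],[0,0,0,0,0,0,0,0,1,0,1,2,2,0],[2,4,0,3,3,4,2,4,0,2,1,4,1,4],[1,2,0,1,1,3,1,3,0,1,4,1,4,0],[4,3,0,3,3,4,4,4,0,4,0,0,0,0],[3,0,0,0,1,1,0,4,0,1,0,1,3,0],[0,0,0,4,4,2,0,2,0,0,0,0,0,0],[0,0,2,0,0,3,0,4,0,1,0,0,4,0],[0,0,0,0,1,1,0,4,0,0,0,0,0,0],[0,0,4,0,0,4,0,2,0,4,0,0,0,0],[0,0,3,0,0,4,0,2,0,0,0,0,0,0],[0,0,4,0,0,0,0,0,0,0,0,0,0,0],[0,0,0,0,0,0,0,1,0,0,0,0,0,0]]),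
  ([[2,4,1,2,0,0,0,4,0,3,0,0,0,0],[3,4,0,4,1,4,0,0,0,2,0,0,0,0],[0,0,4,4,3,3,0,1,0,0,0,0,0,0],[4,2,0,2,0,0,4,0,3,0,1,4,3,0],[4,3,4,2,0,3,2,1,0,3,0,0,0,0],[0,0,2,0,3,1,0,3,0,0,0,0,0,0],[0,2,4,1,2,3,2,1,0,1,1,3,4,0],[0,0,2,0,0,0,0,0,0,0,0,0,0,0],[0,2,1,3,1,2,3,4,4,1,4,4,4,3],[0,0,1,0,0,1,0,1,0,0,0,0,0,0],[0,4,1,1,3,0,1,4,0,0,0,2,2,0],[0,0,1,0,1,1,0,2,0,3,0,0,0,0],[0,0,4,0,0,0,0,2,0,0,0,0,0,0],[1,3,0,4,4,2,0,2,0,2,0,0,4,0]],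
  [[4,1,2,0,0,2,0,2,0,1,0,2,3,0],[2,2,2,0,0,4,0,4,0,2,0,0,3,0],[0,0,0,0,0,0,0,3,0,0,0,0,0,0],[0,0,4,0,0,1,0,4,0,2,0,0,3,0],[0,0,0,0,0,2,0,3,0,3,0,0,3,0],[0,0,0,0,0,0,0,3,0,1,0,0,2,0],[4,0,4,0,3,0,0,2,0,1,0,3,0,0],[0,0,0,0,0,0,0,4,0,0,0,0,3,0],[4,3,2,2,1,2,3,4,0,3,4,3,0,1],[0,0,0,0,0,1,0,1,0,2,0,2,3,0],[1,1,4,0,1,0,1,4,0,3,1,3,0,1],[4,4,3,0,1,3,0,2,0,2,3,0,0,1],[0,2,4,0,0,3,0,3,0,3,0,1,2,4],[1,2,0,4,3,3,3,1,2,2,1,2,0,4]]),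
  ([[1,4,0,0,0,0,1,0,0,0,0,0,0,0],[0,4,0,0,0,0,0,0,0,0,0,0,0,0],[0,0,0,0,0,0,0,0,0,0,0,0,0,4],[0,0,0,0,0,0,0,0,1,0,0,0,0,0],[0,0,0,0,0,0,0,0,4,0,1,0,0,0],[0,0,0,0,0,0,0,0,4,0,2,4,0,0],[0,0,0,0,0,0,1,0,0,0,0,0,0,0],[0,0,0,0,0,0,0,0,4,0,3,2,4,0],[0,0,0,4,0,0,0,0,0,0,0,0,0,0],[3,1,0,0,0,0,4,0,0,1,0,0,0,0],[0,0,0,1,4,0,0,0,0,0,0,0,0,0],[0,0,0,4,2,1,0,0,0,0,0,0,0,0],[0,0,0,4,3,3,0,1,0,0,0,0,0,0],[0,0,4,0,0,0,0,0,0,0,0,0,0,0]],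
  [[1,4,0,0,0,0,4,0,0,0,0,0,0,0],[0,4,0,0,0,0,0,0,0,0,0,0,0,0],[0,0,0,0,0,0,0,0,0,0,0,0,0,4],[0,0,0,0,0,0,0,0,4,0,0,0,0,0],[0,0,0,0,0,0,0,0,4,0,4,0,0,0],[0,0,0,0,0,0,0,0,1,0,2,1,0,0],[0,0,0,0,0,0,1,0,0,0,0,0,0,0],[0,0,0,0,0,0,0,0,4,0,2,2,1,0],[0,0,0,1,0,0,0,0,0,0,0,0,0,0],[2,4,0,0,0,0,4,0,0,1,0,0,0,0],[0,0,0,1,1,0,0,0,0,0,0,0,0,0],[0,0,0,1,2,4,0,0,0,0,0,0,0,0],[0,0,0,4,2,3,0,4,0,0,0,0,0,0],[0,0,4,0,0,0,0,0,0,0,0,0,0,0]]),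
  ([[1,4,0,0,0,0,4,0,0,0,0,0,0,0],[0,4,0,0,0,0,0,0,0,0,0,0,0,0],[0,0,0,0,0,0,0,0,0,0,0,0,0,4],[0,0,0,0,0,0,0,0,4,0,0,0,0,0],[0,0,0,0,0,0,0,0,4,0,4,0,0,0],[0,0,0,0,0,0,0,0,1,0,2,1,0,0],[0,0,0,0,0,0,1,0,0,0,0,0,0,0],[0,0,0,0,0,0,0,0,4,0,2,2,1,0],[0,0,0,1,0,0,0,0,0,0,0,0,0,0],[2,4,0,0,0,0,4,0,0,1,0,0,0,0],[0,0,0,1,1,0,0,0,0,0,0,0,0,0],[0,0,0,1,2,4,0,0,0,0,0,0,0,0],[0,0,0,4,2,3,0,4,0,0,0,0,0,0],[0,0,4,0,0,0,0,0,0,0,0,0,0,0]],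
  [[1,4,0,0,0,0,1,0,0,0,0,0,0,0],[0,4,0,0,0,0,0,0,0,0,0,0,0,0],[0,0,0,0,0,0,0,0,0,0,0,0,0,4],[0,0,0,0,0,0,0,0,1,0,0,0,0,0],[0,0,0,0,0,0,0,0,4,0,1,0,0,0],[0,0,0,0,0,0,0,0,4,0,2,4,0,0],[0,0,0,0,0,0,1,0,0,0,0,0,0,0],[0,0,0,0,0,0,0,0,4,0,3,2,4,0],[0,0,0,4,0,0,0,0,0,0,0,0,0,0],[3,1,0,0,0,0,4,0,0,1,0,0,0,0],[0,0,0,1,4,0,0,0,0,0,0,0,0,0],[0,0,0,4,2,1,0,0,0,0,0,0,0,0],[0,0,0,4,3,3,0,1,0,0,0,0,0,0],[0,0,4,0,0,0,0,0,0,0,0,0,0,0]]),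
  ([[1,0,0,1,0,0,0,0,0,0,0,0,0,0],[0,1,0,1,0,0,0,0,0,0,0,0,0,0],[0,0,1,0,0,0,0,0,0,0,0,0,0,0],[0,0,0,1,0,0,0,0,0,0,0,0,0,0],[0,0,0,0,1,0,0,0,0,0,0,0,0,0],[0,0,0,0,0,1,0,0,0,0,0,0,0,0],[0,0,0,0,0,0,1,0,0,0,0,0,0,0],[0,0,1,0,0,0,0,1,0,0,0,0,0,0],[0,0,0,0,0,0,0,0,1,0,0,0,0,0],[0,0,0,0,1,0,0,0,0,1,0,0,0,0],[0,0,0,0,0,0,0,0,0,0,1,0,0,0],[0,0,0,0,0,0,4,0,0,0,0,1,0,0],[2,1,0,4,0,0,0,0,0,0,0,0,1,0],[0,0,0,0,0,0,0,0,4,0,0,0,0,1]],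
  [[1,0,0,4,0,0,0,0,0,0,0,0,0,0],[0,1,0,4,0,0,0,0,0,0,0,0,0,0],[0,0,1,0,0,0,0,0,0,0,0,0,0,0],[0,0,0,1,0,0,0,0,0,0,0,0,0,0],[0,0,0,0,1,0,0,0,0,0,0,0,0,0],[0,0,0,0,0,1,0,0,0,0,0,0,0,0],[0,0,0,0,0,0,1,0,0,0,0,0,0,0],[0,0,4,0,0,0,0,1,0,0,0,0,0,0],[0,0,0,0,0,0,0,0,1,0,0,0,0,0],[0,0,0,0,4,0,0,0,0,1,0,0,0,0],[0,0,0,0,0,0,0,0,0,0,1,0,0,0],[0,0,0,0,0,0,1,0,0,0,0,1,0,0],[3,4,0,4,0,0,0,0,0,0,0,0,1,0],[0,0,0,0,0,0,0,0,1,0,0,0,0,1]]),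
  ([[1,0,0,2,3,2,0,0,0,0,0,0,0,0],[0,1,0,2,2,1,0,1,0,0,0,0,0,0],[0,0,1,0,0,0,0,0,0,0,0,0,0,0],[0,0,4,1,0,0,0,0,0,0,0,0,0,0],[0,0,3,0,1,0,0,0,0,0,0,0,0,0],[0,0,4,0,0,1,0,0,0,0,0,0,0,0],[0,0,0,4,1,4,1,0,0,0,0,0,0,0],[0,0,2,0,0,0,0,1,0,0,0,0,0,0],[3,3,0,3,3,4,1,4,1,0,0,0,0,0],[0,0,0,0,2,2,0,3,0,1,0,0,0,0],[2,3,0,1,1,3,3,3,0,1,1,0,0,0],[1,0,0,2,2,1,3,1,0,4,0,1,0,0],[4,2,0,1,1,3,0,3,0,3,0,0,1,0],[0,0,0,0,0,0,0,0,3,0,3,1,1,1]],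
  [[1,0,0,3,2,3,0,0,0,0,0,0,0,0],[0,1,0,3,3,4,0,4,0,0,0,0,0,0],[0,0,1,0,0,0,0,0,0,0,0,0,0,0],[0,0,1,1,0,0,0,0,0,0,0,0,0,0],[0,0,2,0,1,0,0,0,0,0,0,0,0,0],[0,0,1,0,0,1,0,0,0,0,0,0,0,0],[0,0,0,1,4,1,1,0,0,0,0,0,0,0],[0,0,3,0,0,0,0,1,0,0,0,0,0,0],[2,2,0,3,3,4,4,4,1,0,0,0,0,0],[0,0,0,0,3,3,0,2,0,1,0,0,0,0],[3,2,0,1,1,3,2,3,0,4,1,0,0,0],[4,0,0,2,2,1,2,1,0,1,0,1,0,0],[1,3,0,1,1,3,0,3,0,2,0,0,1,0],[0,0,0,0,0,0,0,0,2,0,2,4,4,1]]),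
  ([[1,0,0,0,0,4,0,0,0,0,0,0,0,0],[0,1,0,0,0,2,0,3,0,0,0,0,0,0],[0,0,1,0,0,0,0,0,0,0,0,0,0,0],[0,0,2,1,0,0,0,0,0,0,0,0,0,0],[0,0,1,0,1,0,0,0,0,0,0,0,0,0],[0,0,0,0,0,1,0,0,0,0,0,0,0,0],[0,0,1,0,2,2,1,0,0,0,0,0,0,0],[0,0,0,0,0,0,0,1,0,0,0,0,0,0],[4,4,4,0,2,4,2,1,1,0,0,0,0,0],[0,0,0,0,0,0,0,1,0,1,0,0,0,0],[4,1,0,0,0,4,0,3,0,3,1,0,0,0],[0,0,0,0,0,0,0,4,0,3,0,1,0,0],[0,0,0,0,0,0,0,0,0,0,0,0,1,0],[0,0,0,0,0,0,0,1,0,3,0,2,3,1]],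
  [[1,0,0,0,0,1,0,0,0,0,0,0,0,0],[0,1,0,0,0,3,0,2,0,0,0,0,0,0],[0,0,1,0,0,0,0,0,0,0,0,0,0,0],[0,0,3,1,0,0,0,0,0,0,0,0,0,0],[0,0,4,0,1,0,0,0,0,0,0,0,0,0],[0,0,0,0,0,1,0,0,0,0,0,0,0,0],[0,0,1,0,3,3,1,0,0,0,0,0,0,0],[0,0,0,0,0,0,0,1,0,0,0,0,0,0],[1,1,1,0,2,4,3,1,1,0,0,0,0,0],[0,0,0,0,0,0,0,4,0,1,0,0,0,0],[1,4,0,0,0,4,0,3,0,2,1,0,0,0],[0,0,0,0,0,0,0,4,0,2,0,1,0,0],[0,0,0,0,0,0,0,0,0,0,0,0,1,0],[0,0,0,0,0,0,0,4,0,3,0,3,2,1]]),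
  ([[1,0,3,1,3,3,0,0,0,0,0,0,0,0],[0,1,0,1,2,4,0,2,0,0,0,0,0,0],[0,0,1,0,0,0,0,0,0,0,0,0,0,0],[0,0,3,1,0,0,0,0,0,0,0,0,0,0],[0,0,2,0,1,0,0,0,0,0,0,0,0,0],[0,0,4,0,0,1,0,0,0,0,0,0,0,0],[0,0,1,4,4,3,1,0,0,0,0,0,0,0],[0,0,1,0,0,0,0,1,0,0,0,0,0,0],[1,1,4,4,3,2,4,1,1,0,0,0,0,0],[0,0,1,0,1,2,0,2,0,1,0,0,0,0],[3,2,3,1,1,0,3,4,0,2,1,0,0,0],[1,0,1,1,0,1,4,1,0,1,0,1,0,0],[2,1,3,4,3,3,0,4,0,3,0,0,1,0],[3,1,0,2,2,1,3,1,4,3,3,4,2,1]],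
  [[1,0,3,4,2,2,0,0,0,0,0,0,0,0],[0,1,0,4,3,1,0,3,0,0,0,0,0,0],[0,0,1,0,0,0,0,0,0,0,0,0,0,0],[0,0,2,1,0,0,0,0,0,0,0,0,0,0],[0,0,3,0,1,0,0,0,0,0,0,0,0,0],[0,0,1,0,0,1,0,0,0,0,0,0,0,0],[0,0,1,1,1,2,1,0,0,0,0,0,0,0],[0,0,4,0,0,0,0,1,0,0,0,0,0,0],[4,4,1,4,3,2,1,1,1,0,0,0,0,0],[0,0,1,0,4,3,0,3,0,1,0,0,0,0],[2,3,2,1,1,0,2,4,0,3,1,0,0,0],[4,0,4,1,0,1,1,1,0,4,0,1,0,0],[3,4,2,4,3,3,0,4,0,2,0,0,1,0],[3,1,0,3,3,4,3,4,1,3,2,1,3,1]]),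
  ([[1,0,4,0,0,0,0,0,0,0,0,0,0,0],[0,1,3,0,0,0,0,0,0,0,0,0,0,0],[0,0,1,0,0,0,0,0,0,0,0,0,0,0],[0,0,0,1,0,0,0,0,0,0,0,0,0,0],[0,0,0,0,1,0,0,0,0,0,0,0,0,0],[0,0,0,0,0,1,0,0,0,0,0,0,0,0],[0,0,0,0,0,0,1,0,0,0,0,0,0,0],[0,0,0,0,0,0,0,1,0,0,0,0,0,0],[0,0,0,4,0,0,0,0,1,0,0,0,0,0],[0,0,0,0,0,0,0,0,0,1,0,0,0,0],[0,0,0,0,4,0,0,0,0,0,1,0,0,0],[0,0,0,0,0,1,0,0,0,0,0,1,0,0],[0,0,0,0,0,0,0,1,0,0,0,0,1,0],[0,1,4,0,0,0,0,0,0,0,0,0,0,1]],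
  [[1,0,1,0,0,0,0,0,0,0,0,0,0,0],[0,1,2,0,0,0,0,0,0,0,0,0,0,0],[0,0,1,0,0,0,0,0,0,0,0,0,0,0],[0,0,0,1,0,0,0,0,0,0,0,0,0,0],[0,0,0,0,1,0,0,0,0,0,0,0,0,0],[0,0,0,0,0,1,0,0,0,0,0,0,0,0],[0,0,0,0,0,0,1,0,0,0,0,0,0,0],[0,0,0,0,0,0,0,1,0,0,0,0,0,0],[0,0,0,1,0,0,0,0,1,0,0,0,0,0],[0,0,0,0,0,0,0,0,0,1,0,0,0,0],[0,0,0,0,1,0,0,0,0,0,1,0,0,0],[0,0,0,0,0,4,0,0,0,0,0,1,0,0],[0,0,0,0,0,0,0,4,0,0,0,0,1,0],[0,4,4,0,0,0,0,0,0,0,0,0,0,1]]),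
  ([[3,4,0,0,0,0,2,0,0,4,0,0,0,0],[0,1,0,0,0,0,0,0,0,0,0,0,0,0],[0,0,2,0,0,0,0,0,0,0,0,0,0,0],[0,0,0,2,2,1,0,1,0,0,0,0,0,0],[0,0,0,2,1,0,0,2,0,0,0,0,0,0],[0,0,0,3,0,4,0,1,0,0,0,0,0,0],[3,1,0,0,0,0,3,0,0,3,0,0,0,0],[0,0,0,2,4,4,0,3,0,0,0,0,0,0],[0,0,0,0,0,0,0,0,1,0,1,2,2,0],[4,3,0,0,0,0,2,0,0,3,0,0,0,0],[0,0,0,0,0,0,0,0,1,0,3,0,4,0],[0,0,0,0,0,0,0,0,1,0,0,2,3,0],[0,0,0,0,0,0,0,0,4,0,3,2,4,0],[0,0,0,0,0,0,0,0,0,0,0,0,0,3]],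
  [[3,4,0,0,0,0,2,0,0,4,0,0,0,0],[0,1,0,0,0,0,0,0,0,0,0,0,0,0],[0,0,3,0,0,0,0,0,0,0,0,0,0,0],[0,0,0,4,4,2,0,2,0,0,0,0,0,0],[0,0,0,4,2,0,0,4,0,0,0,0,0,0],[0,0,0,1,0,3,0,2,0,0,0,0,0,0],[3,1,0,0,0,0,3,0,0,3,0,0,0,0],[0,0,0,4,3,3,0,1,0,0,0,0,0,0],[0,0,0,0,0,0,0,0,3,0,3,1,1,0],[4,3,0,0,0,0,2,0,0,3,0,0,0,0],[0,0,0,0,0,0,0,0,3,0,4,0,2,0],[0,0,0,0,0,0,0,0,3,0,0,1,4,0],[0,0,0,0,0,0,0,0,2,0,4,1,2,0],[0,0,0,0,0,0,0,0,0,0,0,0,0,2]]),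
  ([[0,3,0,0,0,0,2,0,0,2,0,0,0,0],[0,1,0,0,0,0,0,0,0,0,0,0,0,0],[0,0,2,0,0,0,0,0,0,0,0,0,0,0],[0,0,0,4,3,3,0,1,0,0,0,0,0,0],[0,0,0,1,4,1,0,1,0,0,0,0,0,0],[0,0,0,1,1,1,0,4,0,0,0,0,0,0],[4,3,0,0,0,0,2,0,0,3,0,0,0,0],[0,0,0,1,3,2,0,1,0,0,0,0,0,0],[0,0,0,0,0,0,0,0,2,0,4,1,2,0],[4,3,0,0,0,0,3,0,0,2,0,0,0,0],[0,0,0,0,0,0,0,0,3,0,2,2,2,0],[0,0,0,0,0,0,0,0,2,0,2,3,2,0],[0,0,0,0,0,0,0,0,2,0,1,1,3,0],[0,0,0,0,0,0,0,0,0,0,0,0,0,3]],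
  [[0,3,0,0,0,0,2,0,0,2,0,0,0,0],[0,1,0,0,0,0,0,0,0,0,0,0,0,0],[0,0,3,0,0,0,0,0,0,0,0,0,0,0],[0,0,0,3,1,1,0,2,0,0,0,0,0,0],[0,0,0,2,3,2,0,2,0,0,0,0,0,0],[0,0,0,2,2,2,0,3,0,0,0,0,0,0],[4,3,0,0,0,0,2,0,0,3,0,0,0,0],[0,0,0,2,1,4,0,2,0,0,0,0,0,0],[0,0,0,0,0,0,0,0,1,0,2,3,1,0],[4,3,0,0,0,0,3,0,0,2,0,0,0,0],[0,0,0,0,0,0,0,0,4,0,1,1,1,0],[0,0,0,0,0,0,0,0,1,0,1,4,1,0],[0,0,0,0,0,0,0,0,1,0,3,3,4,0],[0,0,0,0,0,0,0,0,0,0,0,0,0,2]]),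
  ([[4,1,0,0,0,0,0,0,0,0,0,0,0,0],[0,1,0,0,0,0,0,0,0,0,0,0,0,0],[0,0,2,0,0,0,0,0,0,0,0,0,0,0],[0,0,0,0,0,0,0,1,0,0,0,0,0,0],[0,0,0,0,0,3,0,0,0,0,0,0,0,0],[0,0,0,0,1,0,0,0,0,0,0,0,0,0],[0,0,0,0,0,0,0,0,0,3,0,0,0,0],[0,0,0,3,0,0,0,0,0,0,0,0,0,0],[0,0,0,0,0,0,0,0,0,0,0,0,2,0],[0,0,0,0,0,0,2,0,0,0,0,0,0,0],[0,0,0,0,0,0,0,0,0,0,0,1,0,0],[0,0,0,0,0,0,0,0,0,0,2,0,0,0],[0,0,0,0,0,0,0,0,1,0,0,0,0,0],[0,0,0,0,0,0,0,0,0,0,0,0,0,3]],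
  [[4,1,0,0,0,0,0,0,0,0,0,0,0,0],[0,1,0,0,0,0,0,0,0,0,0,0,0,0],[0,0,3,0,0,0,0,0,0,0,0,0,0,0],[0,0,0,0,0,0,0,2,0,0,0,0,0,0],[0,0,0,0,0,1,0,0,0,0,0,0,0,0],[0,0,0,0,2,0,0,0,0,0,0,0,0,0],[0,0,0,0,0,0,0,0,0,3,0,0,0,0],[0,0,0,1,0,0,0,0,0,0,0,0,0,0],[0,0,0,0,0,0,0,0,0,0,0,0,1,0],[0,0,0,0,0,0,2,0,0,0,0,0,0,0],[0,0,0,0,0,0,0,0,0,0,0,3,0,0],[0,0,0,0,0,0,0,0,0,0,1,0,0,0],[0,0,0,0,0,0,0,0,3,0,0,0,0,0],[0,0,0,0,0,0,0,0,0,0,0,0,0,2]]),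
  ([[1,0,3,0,3,4,4,0,0,0,0,0,0,0],[3,4,2,1,2,0,0,0,4,0,0,0,0,0],[0,0,0,1,0,0,0,0,0,0,0,0,0,0],[0,0,2,2,0,0,0,0,0,0,0,0,0,0],[0,0,2,2,2,0,0,0,0,0,0,0,0,0],[0,0,3,0,1,0,3,0,0,0,0,0,0,0],[0,0,4,4,0,1,1,0,0,0,0,0,0,0],[0,0,2,2,1,0,1,0,3,0,0,0,0,0],[1,1,4,4,0,0,0,2,3,0,0,0,0,0],[4,1,3,4,1,4,2,0,1,0,1,0,0,0],[1,1,2,2,4,4,4,2,3,2,3,0,0,0],[4,1,1,2,0,2,1,2,3,4,1,3,0,0],[0,3,2,0,0,1,0,3,0,4,0,1,0,3],[3,1,0,1,1,3,3,3,4,3,2,0,1,4]],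
  [[1,0,3,3,1,0,1,0,0,0,0,0,0,0],[3,4,0,1,3,4,3,3,0,0,0,0,0,0],[0,0,4,3,0,0,0,0,0,0,0,0,0,0],[0,0,1,0,0,0,0,0,0,0,0,0,0,0],[0,0,0,2,3,0,0,0,0,0,0,0,0,0],[0,0,4,0,1,3,1,0,0,0,0,0,0,0],[0,0,1,3,4,2,0,0,0,0,0,0,0,0],[3,3,4,0,4,4,3,3,3,0,0,0,0,0],[0,0,3,3,1,1,0,2,0,0,0,0,0,0],[3,1,1,0,1,4,2,0,2,1,3,0,0,0],[3,1,1,2,2,4,4,0,0,1,0,0,0,0],[4,0,2,0,0,4,1,0,2,0,1,2,0,0],[2,2,1,0,1,1,2,4,2,2,0,1,2,1],[2,0,0,2,3,1,4,4,2,2,4,1,2,0]]),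
  ([[1,2,1,4,3,0,1,0,0,2,1,3,4,1],[0,0,0,0,1,1,0,1,2,0,2,0,2,0],[1,2,3,2,2,0,1,3,0,2,1,4,4,3],[0,2,2,4,2,3,0,4,4,0,2,2,1,3],[4,0,2,3,0,3,3,0,3,2,0,2,0,3],[4,1,3,2,2,4,2,1,4,4,2,0,3,2],[0,0,0,1,0,3,0,3,1,0,0,2,2,0],[1,1,0,0,0,0,0,3,2,2,2,4,4,0],[0,1,1,3,4,1,0,3,3,0,4,4,2,4],[2,4,2,3,3,2,2,3,0,4,2,3,4,2],[3,2,1,0,3,1,1,1,0,4,3,4,4,4],[0,1,1,4,2,2,3,0,0,4,2,0,2,4],[4,3,3,2,2,2,4,4,0,0,1,4,3,2],[4,3,2,2,2,0,4,3,0,3,1,4,4,2]],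
  [[1,2,4,4,3,2,1,1,0,0,1,3,2,1],[0,0,0,0,1,1,0,2,3,0,3,2,4,0],[1,2,2,2,2,2,1,4,0,0,1,4,3,3],[3,2,4,3,1,2,2,2,4,1,4,0,1,4],[1,2,3,3,0,4,3,3,3,2,0,2,4,3],[0,2,2,2,2,3,2,3,4,0,2,0,4,2],[4,3,1,0,4,4,4,0,4,0,4,2,0,4],[4,4,0,0,0,0,0,3,2,3,2,4,4,0],[2,2,3,4,0,3,4,3,3,4,3,0,4,3],[2,4,3,3,3,1,2,0,0,0,2,3,0,2],[4,4,0,4,2,1,2,2,0,3,4,3,1,0],[0,1,4,4,2,3,3,3,0,0,2,0,4,4],[4,3,2,2,2,0,4,3,0,3,1,4,4,2],[1,2,2,3,3,3,1,1,0,0,4,1,2,3]]),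
  ([[3,1,0,0,0,3,0,4,0,2,0,4,0,0],[2,1,0,0,0,0,0,0,0,4,0,2,1,0],[0,0,0,0,0,0,0,0,0,0,0,0,2,0],[0,0,0,0,0,0,0,1,0,0,0,0,0,0],[0,0,0,0,0,0,0,1,0,3,0,0,3,0],[0,0,0,0,0,0,0,4,0,4,0,4,1,0],[0,0,0,0,0,2,0,1,0,4,0,0,2,0],[0,0,0,0,0,0,0,1,0,4,0,3,3,2],[0,0,3,0,0,1,0,3,0,1,0,0,2,0],[4,1,0,0,0,3,0,4,0,4,3,3,4,3],[1,0,3,0,4,0,0,4,0,3,0,1,0,0],[4,4,3,0,3,4,2,0,0,2,1,1,4,3],[1,3,2,0,3,2,4,4,1,2,3,2,3,1],[1,2,0,3,3,4,1,4,0,1,4,1,4,3]],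
  [[1,4,1,2,0,2,1,0,0,0,0,0,0,0],[3,3,0,2,1,3,3,0,0,0,0,0,0,0],[0,0,3,1,4,0,4,0,2,0,0,0,0,0],[2,2,4,3,2,0,2,2,3,1,3,4,0,2],[1,4,2,4,1,1,3,0,1,0,4,0,0,0],[0,0,3,1,1,0,3,0,0,0,0,0,0,0],[0,4,2,4,2,3,4,2,3,4,4,3,0,0],[0,0,0,1,0,0,0,0,0,0,0,0,0,0],[4,3,4,4,0,2,2,3,1,3,2,3,1,0],[0,0,2,3,2,0,0,0,0,0,0,0,0,0],[1,2,3,4,4,0,3,2,0,2,0,0,0,0],[0,0,1,1,3,4,0,0,0,0,0,0,0,0],[0,0,3,0,0,0,0,0,0,0,0,0,0,0],[0,0,0,2,4,4,0,3,0,0,0,0,0,0]]),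
  ([[1,4,1,2,0,2,1,0,0,0,0,0,0,0],[3,3,0,2,1,3,3,0,0,0,0,0,0,0],[0,0,3,1,4,0,4,0,2,0,0,0,0,0],[2,2,4,3,2,0,2,2,3,1,3,4,0,2],[1,4,2,4,1,1,3,0,1,0,4,0,0,0],[0,0,3,1,1,0,3,0,0,0,0,0,0,0],[0,4,2,4,2,3,4,2,3,4,4,3,0,0],[0,0,0,1,0,0,0,0,0,0,0,0,0,0],[4,3,4,4,0,2,2,3,1,3,2,3,1,0],[0,0,2,3,2,0,0,0,0,0,0,0,0,0],[1,2,3,4,4,0,3,2,0,2,0,0,0,0],[0,0,1,1,3,4,0,0,0,0,0,0,0,0],[0,0,3,0,0,0,0,0,0,0,0,0,0,0],[0,0,0,2,4,4,0,3,0,0,0,0,0,0]],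
  [[3,1,0,0,0,3,0,4,0,2,0,4,0,0],[2,1,0,0,0,0,0,0,0,4,0,2,1,0],[0,0,0,0,0,0,0,0,0,0,0,0,2,0],[0,0,0,0,0,0,0,1,0,0,0,0,0,0],[0,0,0,0,0,0,0,1,0,3,0,0,3,0],[0,0,0,0,0,0,0,4,0,4,0,4,1,0],[0,0,0,0,0,2,0,1,0,4,0,0,2,0],[0,0,0,0,0,0,0,1,0,4,0,3,3,2],[0,0,3,0,0,1,0,3,0,1,0,0,2,0],[4,1,0,0,0,3,0,4,0,4,3,3,4,3],[1,0,3,0,4,0,0,4,0,3,0,1,0,0],[4,4,3,0,3,4,2,0,0,2,1,1,4,3],[1,3,2,0,3,2,4,4,1,2,3,2,3,1],[1,2,0,3,3,4,1,4,0,1,4,1,4,3]]),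
  ([[4,3,4,1,4,4,2,3,0,0,4,1,4,0],[3,4,2,4,1,4,0,4,0,1,0,0,0,0],[0,0,1,4,4,2,0,2,0,0,0,0,0,0],[1,1,3,2,2,1,0,4,2,2,2,4,4,0],[4,2,1,4,4,4,3,1,2,0,2,4,4,0],[3,2,1,4,1,0,4,0,3,2,3,1,1,0],[3,1,4,1,2,1,3,3,0,4,1,4,1,0],[0,4,0,3,2,4,4,1,2,1,2,4,4,0],[2,4,0,3,4,1,4,3,1,1,2,1,0,2],[3,3,4,4,4,1,2,3,0,3,4,1,4,0],[4,2,2,4,2,4,3,3,1,1,2,4,4,2],[1,0,2,0,4,0,2,1,1,3,2,2,3,2],[2,2,1,4,0,1,4,1,4,3,3,0,3,3],[1,3,4,4,3,3,0,3,0,4,0,0,4,0]],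
  [[1,0,2,0,2,4,0,2,4,4,2,4,0,0],[2,2,2,1,3,4,2,0,3,0,1,4,3,0],[0,0,0,3,1,1,0,2,0,0,0,0,0,0],[4,3,4,3,4,2,2,0,4,3,3,2,4,0],[2,4,0,0,2,4,1,2,3,4,1,4,3,0],[3,1,0,1,2,2,4,4,4,1,3,2,4,0],[4,4,3,1,3,1,3,2,2,4,2,0,4,0],[0,0,0,4,3,3,0,1,2,0,4,1,2,0],[1,4,3,1,3,4,4,3,1,4,0,3,4,2],[4,3,0,3,2,3,2,3,3,3,4,3,0,0],[4,2,1,2,0,4,1,2,3,1,0,4,2,4],[2,0,1,0,4,2,4,3,4,2,1,4,4,3],[4,0,4,4,0,2,2,3,3,3,2,2,2,4],[3,2,4,1,1,1,2,0,0,2,3,3,3,1]]),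
  ([[3,1,0,0,0,0,0,0,0,1,2,3,2,0],[2,1,0,0,0,0,0,0,0,4,0,0,0,0],[0,0,0,0,0,0,0,0,0,0,0,0,4,0],[0,0,0,0,0,0,0,1,0,1,0,3,4,3],[0,0,0,0,0,0,0,0,0,4,0,4,2,1],[0,0,0,0,0,0,0,0,0,0,0,1,3,3],[3,2,0,0,0,4,0,2,0,1,4,1,4,0],[0,0,0,0,0,0,0,0,0,0,0,0,0,4],[3,1,4,0,4,4,3,1,3,3,3,1,1,0],[0,0,0,0,0,0,0,0,0,0,4,1,4,0],[4,3,0,0,1,1,4,4,1,4,1,2,2,0],[4,3,0,0,0,0,4,0,2,4,2,4,4,0],[0,0,0,0,0,0,0,0,1,0,1,2,2,0],[0,0,0,4,4,2,0,2,0,0,0,0,0,0]],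
  [[1,4,0,0,2,2,0,3,0,2,0,0,0,0],[3,3,0,0,0,0,0,0,0,1,0,0,0,0],[0,0,0,0,0,0,0,0,4,0,4,3,3,0],[2,4,0,2,2,1,2,1,0,2,4,1,4,4],[1,2,0,4,4,2,1,2,0,1,1,4,1,0],[4,3,0,2,2,1,4,1,0,4,0,0,0,0],[3,0,0,0,4,4,0,1,0,1,0,4,2,0],[0,0,0,1,1,3,0,3,0,0,0,0,0,0],[0,0,2,0,0,2,0,1,0,1,0,0,1,0],[0,0,0,0,4,4,0,1,0,0,0,0,0,0],[0,0,4,0,0,1,0,3,0,4,0,0,0,0],[0,0,3,0,0,1,0,3,0,0,0,0,0,0],[0,0,4,0,0,0,0,0,0,0,0,0,0,0],[0,0,0,0,0,0,0,4,0,0,0,0,0,0]]),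
  ([[1,1,4,4,1,2,4,2,3,4,2,4,2,4],[4,2,0,2,1,3,4,0,0,0,1,1,2,0],[4,3,4,2,2,1,0,2,3,3,3,1,0,4],[3,4,0,2,0,0,3,0,2,0,4,1,2,0],[4,1,3,4,1,2,4,4,4,2,2,2,2,2],[1,1,4,2,2,3,1,2,2,1,2,2,3,1],[3,1,1,0,1,4,0,3,0,1,1,2,0,1],[2,1,4,2,2,1,0,4,0,4,0,0,2,0],[2,4,3,3,0,2,2,4,3,4,1,2,0,2],[2,3,4,2,4,2,2,1,2,1,2,0,2,1],[1,0,3,1,4,4,1,4,1,4,3,2,0,2],[2,0,3,2,4,2,1,1,2,3,4,0,0,1],[0,1,2,4,0,4,3,0,2,4,2,3,3,1],[3,1,0,4,3,3,4,1,3,1,4,3,0,3]],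
  [[1,1,3,1,4,2,3,2,4,4,0,1,1,4],[4,2,0,2,1,3,4,0,4,0,4,3,1,0],[4,3,3,1,3,1,3,2,0,3,3,1,0,4],[1,3,0,3,0,0,1,0,2,0,4,1,2,0],[2,0,1,1,0,2,0,4,0,2,2,2,2,2],[3,2,3,4,4,3,2,2,0,1,2,2,3,1],[3,1,2,3,3,4,1,3,3,1,1,2,0,1],[3,1,3,2,1,3,1,3,0,0,1,2,2,3],[2,4,1,0,3,2,3,4,4,4,1,2,0,2],[4,2,3,1,1,1,2,4,0,0,1,4,1,0],[1,0,1,3,2,4,2,4,2,4,3,2,0,2],[1,3,1,0,4,4,4,0,4,1,2,1,0,4],[3,2,4,4,1,3,1,3,2,0,1,2,2,2],[4,3,0,2,4,4,2,3,4,3,2,4,0,4]]),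
  ([[4,3,1,1,4,4,3,2,4,1,0,2,2,2],[0,0,0,4,3,0,0,2,1,0,1,3,4,0],[2,4,4,3,3,1,4,3,4,3,3,0,3,3],[0,3,4,1,3,1,1,3,4,3,4,1,1,2],[4,0,0,0,3,0,4,0,2,1,4,0,2,0],[1,1,3,1,1,0,4,1,4,3,4,4,3,4],[2,4,3,2,1,0,4,1,0,3,2,4,4,1],[4,0,2,4,4,3,2,2,0,0,2,1,4,1],[4,2,4,1,3,1,1,0,2,2,3,0,3,2],[1,2,4,3,2,4,2,3,1,4,1,1,3,3],[2,4,1,4,0,1,1,2,1,0,0,0,2,3],[0,2,3,3,4,0,3,1,3,4,1,3,1,4],[1,0,4,1,4,2,1,1,4,4,3,0,1,2],[1,2,2,1,1,2,2,1,3,4,1,0,1,4]],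
  [[4,3,1,4,1,1,3,3,1,1,0,3,3,2],[0,0,0,1,2,0,0,3,4,0,4,2,1,0],[2,4,4,2,2,4,4,2,1,3,2,0,2,3],[0,2,1,1,3,1,4,3,4,2,4,1,1,3],[1,0,0,0,3,0,1,0,2,4,4,0,2,0],[4,4,2,1,1,0,1,1,4,2,4,4,3,1],[2,4,3,3,4,0,4,4,0,3,3,1,1,1],[1,0,3,4,4,3,3,2,0,0,2,1,4,4],[1,3,1,1,3,1,4,0,2,3,3,0,3,3],[1,2,4,2,3,1,2,2,4,4,4,4,2,3],[3,1,4,4,0,1,4,2,1,0,0,0,2,2],[0,3,2,3,4,0,2,1,3,1,1,3,1,1],[4,0,1,1,4,2,4,1,4,1,3,0,1,3],[1,2,2,4,4,3,2,4,2,4,4,0,4,4]])]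

def r72 : List Word := LyRel.rels.take 72

noncomputable def OK (w : Word) : Bool := CLink.relOK (arP 5) 14 (lets ms2) w

theorem hinv2 : invOK (arP 5) 14 ms2 = true := by decide +kernel
theorem hr2 : lall r72 OK = true := by decide +kernel

def okO : List ℕ → List Word → Bool
  | _, [] => true
  | _, [] :: _ => false
  | kn, (a :: w) :: rs => (a % 2 == 0) && w.all (fun b => decide (b / 2 ∈ kn)) && okO (a / 2 :: kn) rs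

def knO : List ℕ → List Word → List ℕ
  | kn, [] => kn
  | kn, r :: rs => knO (r.headD 0 / 2 :: kn) rs

theorem ev_mem' {P : Type*} [Group P] {p : ℕ → P} {S : Subgroup P} :
    ∀ w : Word, (∀ b ∈ w, p (b / 2) ∈ S) → ev p w ∈ S
  | [], _ => S.one_mem
  | a :: w, h => by
    rw [ev_cons]
    refine S.mul_mem ?_ (ev_mem' w fun b hb => h b (List.mem_cons_of_mem _ hb))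
    have := h a List.mem_cons_self
    unfold lv; split
    · exact this
    · exact S.inv_mem this

theorem mem_ord {P : Type*} [Group P] {p : ℕ → P} {S : Subgroup P} :
    ∀ (rs : List Word) (kn : List ℕ), okO kn rs = true → (∀ r ∈ rs, ev p r = 1) → (∀ i ∈ kn, p i ∈ S) →
      ∀ i ∈ knO kn rs, p i ∈ S
  | [], _, _, _, h => h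
  | [] :: _, _, h, _, _ => by simp [okO] at h
  | (a :: w) :: rs, kn, h, hr, hk => by
    simp only [okO, Bool.and_eq_true, beq_iff_eq, List.all_eq_true, decide_eq_true_eq] at h
    refine mem_ord rs _ h.2 (fun r hr' => hr r (List.mem_cons_of_mem _ hr')) fun i hi => ?_
    rcases List.mem_cons.1 hi with rfl | hi
    · have h1 := hr _ List.mem_cons_self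
      rw [ev_cons, lv, if_pos h.1.1, mul_eq_one_iff_eq_inv] at h1
      show p (a / 2) ∈ S
      rw [h1]
      exact S.inv_mem (ev_mem' w fun b hb => hk _ (h.1.2 b hb))
    · exact hk i hi

def ord : List Word := ([5, 6, 7, 8, 9, 28] ++ List.range' 44 28).map fun i => r72.getD i []

theorem mem_all {P : Type*} [Group P] {p : ℕ → P} (hr : ∀ r ∈ r72, ev p r = 1) (h4 : p 4 = 1)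
    (h39 : ∀ i, 39 ≤ i → p i = 1) (i : ℕ) : p i ∈ grp p gens := by
  by_cases hi : 39 ≤ i
  · rw [h39 i hi]; exact Subgroup.one_mem _
  refine mem_ord ord [0, 1, 2, 3, 4] (by decide +kernel)
    (fun r h => hr r ((by decide +kernel : ∀ r ∈ ord, r ∈ r72) r h)) (fun j hj => ?_) i
    ((by decide +kernel : ∀ i < 39, i ∈ knO [0, 1, 2, 3, 4] ord) i (by omega))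
  have h : ∀ j < 4, p j ∈ grp p gens := fun j hj => by
    rw [← ev_gen p j]; exact mem_grp p ((by decide : ∀ j < 4, [2 * j] ∈ gens) j hj)
  simp only [List.mem_cons, List.not_mem_nil, or_false] at hj
  rcases hj with rfl | rfl | rfl | rfl | rfl
  exacts [h _ (by decide), h _ (by decide), h _ (by decide), h _ (by decide), h4 ▸ Subgroup.one_mem _]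

theorem hword {P : Type} [Group P] {p : ℕ → P} (hr : ∀ r ∈ r72, ev p r = 1) (h4 : p 4 = 1)
    (h39 : ∀ i, 39 ≤ i → p i = 1) (w : Word) (hw : OK w = true) : ev p w = 1 := by
  have hA := soundP 5
  let ρ := Units.coeHom (Matrix Lie.chevG2.Idx Lie.chevG2.Idx (ZMod 5))
  obtain ⟨γ, hL, -, -⟩ := exists_let e14 hA ρ hinv (S := ⊤) fun x hx => by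
    obtain ⟨g, hg⟩ := exists_GL e14 hA (lall_iff.1 hinv x hx)
    exact ⟨g, trivial, hg⟩
  obtain ⟨δ, hM, -, h0⟩ := exists_let e14 hA ρ hinv2 (S := ⊤) fun x hx => by
    obtain ⟨g, hg⟩ := exists_GL e14 hA (lall_iff.1 hinv2 x hx)
    exact ⟨g, trivial, hg⟩
  have hG : Lie.chevG2.group (ZMod 5) ≤ grp γ gens := by
    refine (Subgroup.closure_le _).2 ?_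
    rintro s ⟨r, t, e⟩
    have := t.val_lt
    have : (r : ℕ) < 12 := r.2
    have h : ev γ (subst gens (nth TW [] (5 * r + t.val))) = s :=
      Units.ext ((ev_eq ρ e14 hA hL _ (allR_spec hT (by omega))).trans (e.trans (hX r t)).symm)
    exact h ▸ subst_mem_grp γ gens _
  have hγδ : grp γ gens = grp δ gens := CPres.grp_congr (k := 4) (fun i hi => Units.ext (by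
    have e1 := gen_eq ρ e14 hL i
    have e2 := gen_eq ρ e14 hM i
    rw [(by decide +kernel : ∀ i < 4, nth (lets ms) (mone 14) (2 * i) = nth (lets ms2) (mone 14) (2 * i)) i hi,
      ← e2] at e1
    exact e1)) (by decide)
  have hδ : ∀ r ∈ r72, ev δ r = 1 := rels_hold ρ e14 hA Units.val_injective hM hr2
  have hδ4 : δ 4 = 1 := by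
    rw [← ev_gen δ 4]
    exact ev_eq_one ρ e14 hA Units.val_injective hM (by decide +kernel)
  let q : ℕ → GL Lie.chevG2.Idx (ZMod 5) × P := fun i => (δ i, p i)
  have hq : ∀ r ∈ r72, ev q r = 1 := fun r h =>
    Prod.ext ((map_ev (MonoidHom.fst _ _) q r).trans (hδ r h)) ((map_ev (MonoidHom.snd _ _) q r).trans (hr r h))
  have h44 : ∀ r ∈ LyTC.r44, r ∈ r72 := by decide +kernel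
  obtain ⟨hf, hc⟩ := bound _ q fun r h => hq r (h44 r h)
  obtain ⟨hf', -⟩ := bound _ δ fun r h => hδ r (h44 r h)
  have e1 : (grp q gens).map (MonoidHom.fst _ _) = grp δ gens := map_grp _ _ _
  have hN : 5859000000 ≤ Nat.card (grp δ gens) :=
    (Cfsg.Agent.S1059.result (F := ZMod 5) (q := 5) (ZMod.card 5)).ge.trans
      (Subgroup.card_le_of_le (hγδ ▸ hG))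
  have hm : ev q w ∈ grp q gens := ev_mem (mem_all hq (Prod.ext hδ4 h4)
    fun i hi => Prod.ext (h0 i hi) (h39 i hi)) w
  have := inj_of_card (MonoidHom.fst _ _) (by rw [e1]; exact hc.trans hN) hm
    ((map_ev (MonoidHom.fst _ _) q w).trans (ev_eq_one ρ e14 hA Units.val_injective hM hw))
  exact (map_ev (MonoidHom.snd _ _) q w).symm.trans (congrArg Prod.snd this)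

end CA.LyS
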