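import Mathlib
import Cfsg.Agent.Lib.Comp.CWord

/-! Relations with central tags. -/

set_option autoImplicit false

namespace CA.LyS
open CA.CWord

variable {Γ : Type*} [Group Γ]

theorem cen_l {t : Γ} (ht : t ∈ Subgroup.center Γ) (x y : Γ) : t * (x * y) = x * (t * y) := by
  rw [← mul_assoc, ← Subgroup.mem_center_iff.1 ht x, mul_assoc]

theorem cen_conj {t : Γ} (ht : t ∈ Subgroup.center Γ) (x : Γ) : x * t * x⁻¹ = t := by
  rw [Subgroup.mem_center_iff.1 ht x, mul_inv_cancel_right]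

theorem conj_word {u v : ℕ → Γ} {Y : Γ} {τ : ℕ → Subgroup.center Γ}
    (h : ∀ i, Y⁻¹ * u i * Y = v i * τ i) (W : Word) :
    Y⁻¹ * ev u W * Y = ev v W * (ev τ W : Subgroup.center Γ) := by
  induction W with
  | nil => simp
  | cons a W ih =>
    have h1 : Y⁻¹ * lv u a * Y = lv v a * (lv τ a : Subgroup.center Γ) := by
      unfold lv; split
      · exact h _
      · have := congrArg (·⁻¹) (h (a / 2))
        simp only [mul_inv_rev, inv_inv] at this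
        rw [mul_assoc, this, Subgroup.coe_inv]
        exact (Subgroup.mem_center_iff.1 (Subgroup.inv_mem _ (τ (a / 2)).2) _).symm
    rw [ev_cons, ev_cons, ev_cons, Subgroup.coe_mul]
    calc Y⁻¹ * (lv u a * ev u W) * Y = (Y⁻¹ * lv u a * Y) * (Y⁻¹ * ev u W * Y) := by group
      _ = _ := by
        rw [h1, ih]; simp only [mul_assoc]; rw [cen_l (lv τ a).2]

/-- exponent sum -/
def ex (i : ℕ) : Word → ℤ
  | [] => 0
  | a :: w => (if a / 2 = i then (if a % 2 = 0 then 1 else -1) else 0) + ex i w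

theorem ev_prod {C : Type*} [CommGroup C] (τ : ℕ → C) {n : ℕ} :
    ∀ W : Word, (∀ a ∈ W, a < 2 * n) → ev τ W = ∏ i ∈ Finset.range n, τ i ^ ex i W
  | [], _ => by simp [ex]
  | a :: W, h => by
    rw [ev_cons, ev_prod τ W fun b hb => h b (List.mem_cons_of_mem _ hb)]
    simp only [ex, zpow_add, Finset.prod_mul_distrib]
    congr 1
    have := h a List.mem_cons_self
    rw [Finset.prod_eq_single (a / 2) (fun j _ hj => by rw [if_neg (Ne.symm hj), zpow_zero])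
      (fun hj => absurd (Finset.mem_range.2 (by omega)) hj), if_pos rfl]
    unfold lv; split <;> simp

theorem ev_single (τ : ℕ → Subgroup.center Γ) (n i : ℕ) (W : Word) (kn : List ℕ) (e : ℤ)
    (hk : ∀ j ∈ kn, τ j = 1)
    (h : (∀ a ∈ W, a < 2 * n) ∧ i < n ∧ ex i W = e ∧ ∀ j < n, j = i ∨ j ∈ kn ∨ ex j W = 0) :
    ev τ W = τ i ^ e := by
  let _ : CommGroup (Subgroup.center Γ) :=
    { (inferInstance : Group (Subgroup.center Γ)) with
      mul_comm := fun x y => Subtype.ext (Subgroup.mem_center_iff.1 y.2 x) }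
  rw [ev_prod τ W h.1, Finset.prod_eq_single i (fun j hj hji => ?_)
    (fun hj => absurd (Finset.mem_range.2 h.2.1) hj), h.2.2.1]
  rcases h.2.2.2 j (Finset.mem_range.1 hj) with e | e | e
  · exact absurd e hji
  · rw [hk j e, one_zpow]
  · rw [e, zpow_zero]

theorem tri_move {Z h1 h2 h3 u1 u2 u3 v1 v2 v3 c : Γ} (hc : c ∈ Subgroup.center Γ)
    (e1 : Z⁻¹ * u1 * Z = v1) (e2 : Z⁻¹ * u2 * Z = v2) (e3 : Z⁻¹ * u3 * Z = v3)
    (h : Z * h1 * Z * h2 * Z * h3 = c) :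
    Z * (v1 * h1 * u2⁻¹) * Z * (v2 * h2 * u3⁻¹) * Z * (v3 * h3 * u1⁻¹) = c := by
  subst e1 e2 e3
  rw [← cen_conj hc u1, ← h]; group

theorem tri_loop {Z h1 h2 h3 a v t c : Γ} (hc : c ∈ Subgroup.center Γ) (ht : t ∈ Subgroup.center Γ)
    (e : Z⁻¹ * a * Z = v * t) (e1 : v * h1 = h1 * a) (e2 : v * h2 = h2 * a) (e3 : v * h3 = h3 * a)
    (h : Z * h1 * Z * h2 * Z * h3 = c) : t * t * t = 1 := by
  have h' := tri_move hc e e e h
  have k : ∀ x, v * x = x * a → v * t * x * a⁻¹ = x * t := fun x hx => by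
    rw [mul_assoc v, ← Subgroup.mem_center_iff.1 ht x, ← mul_assoc, hx, mul_assoc x a t,
      Subgroup.mem_center_iff.1 ht a]; group
  rw [k _ e1, k _ e2, k _ e3, ← h] at h'
  simp only [mul_assoc, cen_l ht] at h'
  simpa [mul_assoc] using h'

theorem tri_inv {Z h1 h2 h3 u d : Γ} (hd : d ∈ Subgroup.center Γ) (e : Z * Z * u⁻¹ = d)
    (h : Z * h1 * Z * h2 * Z * h3 = d) :
    Z * (u⁻¹ * h2⁻¹) * Z * (u⁻¹ * h1⁻¹) * Z * (u⁻¹ * h3⁻¹) = d * d := by
  have e' : u⁻¹ = Z⁻¹ * (Z⁻¹ * d) := by rw [← e]; group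
  have h' : h3⁻¹ = d⁻¹ * (Z * h1 * Z * h2 * Z) := by rw [← h]; group
  rw [e', h']
  simp only [mul_assoc, mul_inv_cancel_left]
  simp only [cen_l hd]
  have := Subgroup.mem_center_iff.1 hd Z
  simp only [← this, inv_mul_cancel_left]
  rw [cen_l hd Z, inv_mul_cancel_left]

theorem tet {Z h1 h2 h3 k1 k2 k3 l1 l2 l3 n1 n2 n3 u c : Γ} (hc : c ∈ Subgroup.center Γ)
    (e : Z * Z * u⁻¹ = 1) (h : Z * h1 * Z * h2 * Z * h3 = 1) (k : Z * k1 * Z * k2 * Z * k3 = c)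
    (l : Z * l1 * Z * l2 * Z * l3 = c) (n : Z * n1 * Z * n2 * Z * n3 = c)
    (e1 : l1 = u⁻¹ * h2⁻¹ * k1) (e2 : n1 = h1 * k3⁻¹) (e3 : n3 = l3 * h3) (e4 : l2 = k2 * u * n2) :
    c = 1 := by
  rw [mul_inv_eq_one] at e
  have : (Z * h1) * (Z * k1 * Z * k2 * Z * k3) * (Z * h1)⁻¹ * (Z * n1 * Z * n2 * Z * n3) =
      (Z * h1 * Z * h2 * Z * h3) * (h3⁻¹ * (Z * l1 * Z * l2 * Z * l3) * h3⁻¹⁻¹) := by
    subst e e1 e2 e3 e4; group
  rw [h, k, l, n, cen_conj hc, cen_conj hc, one_mul] at this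
  simpa using this

theorem quad_move {Z h u1 v1 u2 v2 : Γ} (e1 : Z⁻¹ * u1 * Z = v1) (e2 : Z⁻¹ * u2 * Z = v2)
    (e : v1 * h = h * u2) : (Z * h * Z)⁻¹ * u1 * (Z * h * Z) = v2 := by
  have : u2 = h⁻¹ * v1 * h := by rw [mul_assoc, e]; group
  subst e1 e2 this; group

end CA.LyS
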