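import Cfsg.Agent.Lib.Spor.LyS1
import Cfsg.Agent.Lib.Spor.LyS2

/-! The relators 73-86 of the Lyons group in a central extension that splits over `G₂(5)`. -/

set_option autoImplicit false
set_option maxRecDepth 100000
set_option Elab.async false

namespace CA.LyS
open CA.CWord

def us : List Word := [[20], [22], [24], [26], [28], [12], [14], [16]]
def vs : List Word := [[46], [48], [50], [52], [54], [56], [58], [60]]

noncomputable def EQ (u v : Word) : Bool := OK (lapp u (winv v))

variable {Γ : Type*} [Group Γ] {g : ℕ → Γ} (hw : ∀ w, OK w = true → ev g w = 1) {Z : Γ}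
include hw

theorem eqw {u v : Word} (h : EQ u v = true) : ev g u = ev g v := by
  have := hw _ h
  rwa [ev_lapp, ev_winv, mul_inv_eq_one] at this

theorem conjK
    (hc : ∀ i < 8, Z⁻¹ * ev g (nth us [] i) * Z * (ev g (nth vs [] i))⁻¹ ∈ Subgroup.center Γ) {d c : Γ}
    (hd : d ∈ Subgroup.center Γ) (hc' : c ∈ Subgroup.center Γ) (e : Z * Z * (ev g [30])⁻¹ = d)
    (h : Z * ev g [18] * Z * ev g [18] * Z * ev g [30, 18] = c) (W : Word) :
    Z⁻¹ * ev g (subst us W) * Z = ev g (subst vs W) := by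
  have h8 : ∀ i, 8 ≤ i → Z⁻¹ * ev g (nth us [] i) * Z * (ev g (nth vs [] i))⁻¹ = 1 := fun i hi => by
    rw [CLink.nth_ge (l := us) _ hi, CLink.nth_ge (l := vs) _ hi]; simp
  let τ : ℕ → Subgroup.center Γ := fun i => ⟨Z⁻¹ * ev g (nth us [] i) * Z * (ev g (nth vs [] i))⁻¹,
    if hi : i < 8 then hc i hi else by rw [h8 i (by omega)]; exact Subgroup.one_mem _⟩
  have key : ∀ W, Z⁻¹ * ev g (subst us W) * Z = ev g (subst vs W) * (ev τ W : Subgroup.center Γ) := fun W => by
    rw [ev_subst, ev_subst]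
    refine conj_word (fun i => ?_) W
    rw [Subgroup.mem_center_iff.1 (τ i).2]
    exact (inv_mul_cancel_right _ _).symm
  have tag : ∀ W, band (OK (subst us W)) (OK (subst vs W)) = true → ev τ W = 1 := fun W h => by
    have := key W
    rw [hw _ (band_iff.1 h).1, hw _ (band_iff.1 h).2] at this
    exact Subtype.ext (by simpa using this.symm)
  have one : ∀ (i : ℕ) (W : Word) (kn : List ℕ), (∀ j ∈ kn, τ j = 1) →
      ((∀ a ∈ W, a < 2 * 8) ∧ i < 8 ∧ ex i W = 1 ∧ ∀ j < 8, j = i ∨ j ∈ kn ∨ ex j W = 0) →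
      band (OK (subst us W)) (OK (subst vs W)) = true → τ i = 1 := fun i W kn hk h1 h2 => by
    have := ev_single τ 8 i W kn 1 hk h1
    rwa [tag W h2, zpow_one, eq_comm] at this
  have t4 := one 4 [8, 3, 1, 2, 0] [] (by simp) (by decide +kernel) (by decide +kernel)
  have t0 := one 0 [11, 2, 10, 0, 0, 11, 0, 10, 3, 11, 2, 10, 0, 0, 11, 0, 10, 3, 1, 1, 1, 1, 1] [] (by simp)
    (by decide +kernel) (by decide +kernel)
  have t1 := one 1 [2, 11, 1, 10] [0] (by simpa using t0) (by decide +kernel) (by decide +kernel)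
  have t2 := one 2 (wpow [11, 4, 10, 7, 1, 4, 4, 0, 3, 5, 6, 0, 6, 11, 7, 10] 3 ++ [5, 5, 5, 5, 5]) [0, 1]
    (by simpa using ⟨t0, t1⟩) (by decide +kernel) (by decide +kernel)
  have t3 := one 3 [5, 5, 0, 6, 11, 5, 10] [0, 2] (by simpa using ⟨t0, t2⟩) (by decide +kernel) (by decide +kernel)
  have t5 : τ 5 = 1 := by
    have s1 : ev τ [10] = τ 5 := ev_gen τ 5
    have s2 : ev τ [10, 10] = τ 5 * τ 5 := by simp [lv]
    have k2 := key [10, 10]
    have hu : Z⁻¹ * ev g [30] * Z = ev g [30] := by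
      have : ev g [30] = d⁻¹ * (Z * Z) := by rw [← e]; group
      rw [this, ← cen_l (Subgroup.inv_mem _ hd)]; group
    rw [eqw hw (u := subst us [10, 10]) (v := [30]) (by decide +kernel),
      eqw hw (u := subst vs [10, 10]) (v := [30]) (by decide +kernel), hu, s2] at k2
    have k3 := tri_loop hc' (ev τ [10]).2 (key [10])
      (by simp only [← ev_lapp]; exact eqw hw (by decide +kernel))
      (by simp only [← ev_lapp]; exact eqw hw (by decide +kernel))
      (by simp only [← ev_lapp]; exact eqw hw (by decide +kernel)) h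
    rw [s1, ← Subgroup.coe_mul, left_eq_mul.1 k2, one_mul] at k3
    exact Subtype.ext k3
  have t6 := one 6 [12, 10, 12, 11, 13, 11] [5] (by simpa using t5) (by decide +kernel) (by decide +kernel)
  have t7 := one 7 [14, 12, 14, 13, 15, 13] [6] (by simpa using t6) (by decide +kernel) (by decide +kernel)
  have all : ∀ i, τ i ∈ (⊥ : Subgroup (Subgroup.center Γ)) := fun i => by
    rw [Subgroup.mem_bot]
    by_cases hi : 8 ≤ i
    · exact Subtype.ext (h8 i hi)
    · have : i < 8 := by omega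
      interval_cases i
      exacts [t0, t1, t2, t3, t4, t5, t6, t7]
  rw [key W, Subgroup.mem_bot.1 (ev_mem all W), OneMemClass.coe_one, mul_one]

variable (hK : ∀ W, Z⁻¹ * ev g (subst us W) * Z = ev g (subst vs W))
include hK

theorem d_one {d : Γ} (hd : d ∈ Subgroup.center Γ) (e : Z * Z * (ev g [30])⁻¹ = d)
    (h : Z * ev g [18] * Z * ev g [18] * Z * ev g [30, 18] = d) : d = 1 := by
  have h2 := tri_move (Subgroup.mul_mem _ hd hd) (hK []) (hK [10, 10, 10, 10]) (hK []) (tri_inv hd e h)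
  simp only [← ev_lapp, ← ev_winv] at h2
  rw [eqw hw (v := [18]) (u := lapp (lapp (subst vs []) (lapp (winv [30]) (winv [18]))) (winv (subst us [10, 10, 10, 10])))
      (by decide +kernel),
    eqw hw (v := [18]) (u := lapp (lapp (subst vs [10, 10, 10, 10]) (lapp (winv [30]) (winv [18]))) (winv (subst us [])))
      (by decide +kernel),
    eqw hw (v := [30, 18]) (u := lapp (lapp (subst vs []) (lapp (winv [30]) (winv [30, 18]))) (winv (subst us [])))
      (by decide +kernel), h] at h2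
  simpa using h2

theorem c_one {c : Γ} (hc : c ∈ Subgroup.center Γ) (e : Z * Z * (ev g [30])⁻¹ = 1)
    (h : Z * ev g [18] * Z * ev g [18] * Z * ev g [30, 18] = 1)
    (k : Z * ev g [62] * Z * ev g [70] * Z * ev g [40] = c) : c = 1 :=
  tet hc e h k (tri_move hc (hK [15, 4, 13, 11, 4]) (hK [5]) (hK []) k)
    (tri_move hc (hK [1, 14, 2]) (hK [14, 5, 10, 15, 13]) (hK [1, 12, 3, 12]) k)
    (by simp only [← ev_lapp, ← ev_winv]; exact eqw hw (by decide +kernel))
    (by simp only [← ev_lapp, ← ev_winv]; exact eqw hw (by decide +kernel))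
    (by simp only [← ev_lapp, ← ev_winv]; exact eqw hw (by decide +kernel))
    (by simp only [← ev_lapp, ← ev_winv]; exact eqw hw (by decide +kernel))

theorem quad {c : Γ} (hc : c ∈ Subgroup.center Γ) (x P Q R : Word) (A B : List Word)
    (h : (Z * ev g x * Z)⁻¹ * ev g P * (Z * ev g x * Z) = ev g Q * c)
    (h0 : A.length ≤ 3 ∧ B.length ≤ 3)
    (h1 : ∀ j < 3, EQ (lapp (subst vs (nth A [] j)) x) (lapp x (subst us (nth B [] j))) = true)
    (h2 : OK (subst (P :: lmap (subst us) A) R) = true) (h3 : OK (subst (Q :: lmap (subst vs) B) R) = true)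
    (h4 : (∀ a ∈ R, a < 2 * 4) ∧ 0 < 4 ∧ ex 0 R = 1 ∧ ∀ j < 4, j = 0 ∨ j ∈ [1, 2, 3] ∨ ex j R = 0) : c = 1 := by
  let τ : ℕ → Subgroup.center Γ := fun i => if i = 0 then ⟨c, hc⟩ else 1
  have k := conj_word (Y := Z * ev g x * Z) (u := fun i => ev g (nth (P :: lmap (subst us) A) [] i))
    (v := fun i => ev g (nth (Q :: lmap (subst vs) B) [] i)) (τ := τ) (fun i => ?_) R
  · rw [← ev_subst, ← ev_subst, hw _ h2, hw _ h3, ev_single τ 4 0 R [1, 2, 3] 1 (by simp [τ]) h4] at k
    rw [mul_one, inv_mul_cancel, one_mul, zpow_one] at k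
    exact k.symm
  cases i with
  | zero => exact h
  | succ j =>
    have e1 : nth (lmap (subst us) A) [] j = subst us (nth A [] j) := nth_lmap (subst us) A [] j
    have e2 : nth (lmap (subst vs) B) [] j = subst vs (nth B [] j) := nth_lmap (subst vs) B [] j
    have e3 : τ (j + 1) = 1 := if_neg (Nat.succ_ne_zero j)
    simp only [nth_succ, e1, e2, e3, OneMemClass.coe_one, mul_one]
    refine quad_move (hK _) (hK _) ?_
    by_cases hj : j < 3
    · simp only [← ev_lapp]; exact eqw hw (h1 j hj)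
    · rw [CLink.nth_ge (l := A) _ (by omega), CLink.nth_ge (l := B) _ (by omega)]
      show 1 * _ = _ * 1
      rw [one_mul, mul_one]

end CA.LyS
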