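import Mathlib

/-! Group-theoretic lemmas for the automorphisms of the Lyons group. -/

set_option autoImplicit false

namespace CA.LyU
open Subgroup MulAction
open scoped commutatorElement Pointwise

variable {G : Type*} [Group G]

theorem comm_mem {T : Set G} {c : G} (hc : ∀ t ∈ T, Commute t c) (h : ∀ s ∈ T, ∀ t ∈ T, ⁅s, t⁆ ∈ zpowers c) :
    ∀ x ∈ closure T, Commute x c ∧ ∀ y ∈ closure T, ⁅x, y⁆ ∈ zpowers c := by
  have h0 : ∀ x ∈ closure T, Commute x c := fun x hx => by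
    induction hx using closure_induction with
    | mem x hx => exact hc x hx
    | one => exact Commute.one_left c
    | mul x y _ _ a b => exact a.mul_left b
    | inv x _ a => exact a.inv_left
  have cj : ∀ x ∈ closure T, ∀ n ∈ zpowers c, x * n * x⁻¹ ∈ zpowers c := fun x hx n hn => by
    obtain ⟨k, rfl⟩ := mem_zpowers_iff.1 hn
    rw [((h0 x hx).zpow_right k).eq, mul_inv_cancel_right]; exact hn
  have key : ∀ y, (∀ s ∈ T, ⁅s, y⁆ ∈ zpowers c) → ∀ x ∈ closure T, ⁅x, y⁆ ∈ zpowers c := fun y hy x hx => by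
    induction hx using closure_induction with
    | mem x hx => exact hy x hx
    | one => simp
    | mul a b ha _ h1 h2 =>
      have : ⁅a * b, y⁆ = a * ⁅b, y⁆ * a⁻¹ * ⁅a, y⁆ := by simp only [commutatorElement_def]; group
      rw [this]; exact mul_mem (cj a ha _ h2) h1
    | inv a ha h1 =>
      have : ⁅a⁻¹, y⁆ = a⁻¹ * ⁅a, y⁆⁻¹ * a⁻¹⁻¹ := by simp only [commutatorElement_def]; group
      rw [this]; exact cj _ (inv_mem ha) _ (inv_mem h1)
  refine fun x hx => ⟨h0 x hx, fun y hy => key y (fun s hs => ?_) x hx⟩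
  rw [← commutatorElement_inv]
  exact inv_mem (key s (fun t ht => h t ht s hs) y hy)

theorem mem_norm [Finite G] {N : Subgroup G} {x : G} (h : ∀ y ∈ N, x⁻¹ * y * x ∈ N) : x ∈ normalizer (N : Set G) := by
  have : x⁻¹ ∈ normalizer (N : Set G) := mem_normalizer_fintype fun y hy => by rw [inv_inv]; exact h y hy
  simpa using inv_mem this

theorem pz {p : ℕ} {x : G} (hx : x ^ p = 1) : IsPGroup p (zpowers x) := by
  rintro ⟨_, k, rfl⟩
  exact ⟨1, Subtype.ext (by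
    show (x ^ k) ^ p ^ 1 = 1
    rw [pow_one, ← zpow_natCast, ← zpow_mul, mul_comm, zpow_mul, zpow_natCast, hx, one_zpow])⟩

theorem pstep [Finite G] {p : ℕ} {N : Subgroup G} {x : G} (hx : x ^ p = 1) (hN : IsPGroup p N)
    (h : ∀ y ∈ N, x⁻¹ * y * x ∈ N) : IsPGroup p (N ⊔ zpowers x : Subgroup G) :=
  IsPGroup.to_sup_of_normal_left' hN (pz hx) (zpowers_le.2 (mem_norm h))

/-- Sylow's theorem inside a subgroup -/
theorem syl [Finite G] {p n : ℕ} [Fact p.Prime] {M P X : Subgroup G} (hP : P ≤ M) (hX : X ≤ M)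
    (pP : IsPGroup p P) (pX : IsPGroup p X) (hn : p ^ n ≤ Nat.card P) (hM : ¬ p ^ (n + 1) ∣ Nat.card M) :
    ∃ m ∈ M, ∀ x ∈ X, m⁻¹ * x * m ∈ P := by
  obtain ⟨P1, h1⟩ := (pP.comap_of_injective M.subtype M.subtype_injective).exists_le_sylow
  obtain ⟨P2, h2⟩ := (pX.comap_of_injective M.subtype M.subtype_injective).exists_le_sylow
  obtain ⟨m, hm⟩ := exists_smul_eq M P1 P2
  obtain ⟨k, hk⟩ := IsPGroup.iff_card.1 P1.isPGroup'
  have hkn : k ≤ n := by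
    by_contra hh
    exact hM ((pow_dvd_pow p (by omega)).trans (hk ▸ P1.toSubgroup.card_subgroup_dvd_card))
  have e : P.comap M.subtype = P1 := eq_of_le_of_card_ge h1 (by
    rw [hk]
    exact (Nat.pow_le_pow_right (Fact.out : p.Prime).pos hkn).trans
      (hn.trans (Nat.card_congr (subgroupOfEquivOfLe hP).toEquiv).ge))
  refine ⟨m, m.2, fun x hx => ?_⟩
  have : (⟨x, hX hx⟩ : M) ∈ (P2 : Subgroup M) := h2 hx
  rw [← hm, Sylow.coe_subgroup_smul, mem_pointwise_smul_iff_inv_smul_mem, ← e] at this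
  exact mem_subgroupOf.1 (by simpa using this : m⁻¹ * ⟨x, hX hx⟩ * m ∈ P.subgroupOf M)

theorem comm_of_dvd [Finite G] {X Y : Subgroup G} (pX : IsPGroup 5 X) (h : X ≤ Y) (hY : ¬ 25 ∣ Nat.card Y) :
    ∀ x ∈ X, ∀ y ∈ X, x * y = y * x := fun x hx y hy => by
  haveI : Fact (Nat.Prime 5) := ⟨by decide⟩
  obtain ⟨k, hk⟩ := IsPGroup.iff_card.1 pX
  have hk1 : k ≤ 1 := by
    by_contra hh
    exact hY ((pow_dvd_pow 5 (show 2 ≤ k by omega)).trans (hk ▸ card_dvd_of_le h))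
  haveI : IsCyclic X := isCyclic_of_card_dvd_prime (p := 5) (hk ▸ pow_dvd_pow 5 hk1)
  exact congrArg Subtype.val (IsCyclic.commGroup.mul_comm (⟨x, hx⟩ : X) ⟨y, hy⟩)

theorem card_orb {Ω : Type*} [MulAction G Ω] (X : Subgroup G) (ξ : Ω) :
    Nat.card (orbit X ξ) * Nat.card (X ⊓ stabilizer G ξ : Subgroup G) = Nat.card X := by
  rw [← Nat.card_congr (orbitProdStabilizerEquivGroup X ξ), Nat.card_prod]
  congr 1
  exact Nat.card_congr ⟨fun x => ⟨⟨x.1, x.2.1⟩, x.2.2⟩, fun x => ⟨x.1.1, x.1.2, x.2⟩, fun _ => rfl, fun _ => rfl⟩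

theorem five_le [Finite G] {Ω : Type*} [MulAction G Ω] {X : Subgroup G} (pX : IsPGroup 5 X) {ξ : Ω}
    (h : ¬ ∀ x ∈ X, x • ξ = ξ) : 5 ≤ Nat.card (orbit X ξ) := by
  haveI : Fact (Nat.Prime 5) := ⟨by decide⟩
  haveI : Finite (orbit X ξ) := (Set.finite_range _).to_subtype
  obtain ⟨k, hk⟩ := pX.card_orbit ξ
  rcases k with _ | k
  · refine absurd (fun x hx => ?_) h
    haveI := (Nat.card_eq_one_iff_unique.1 hk).1
    exact congrArg Subtype.val (Subsingleton.elim (⟨_, mem_orbit ξ (⟨x, hx⟩ : X)⟩ : orbit X ξ) ⟨ξ, mem_orbit_self ξ⟩)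
  · rw [hk, pow_succ]; exact Nat.le_mul_of_pos_left _ (by positivity)

theorem zpow3 {t : G} (ht : t ^ 3 = 1) {x : G} (hx : x ∈ zpowers t) : x = 1 ∨ x = t ∨ x = t⁻¹ := by
  obtain ⟨k, rfl⟩ := mem_zpowers_iff.1 hx
  rw [zpow_eq_zpow_emod' k ht]
  have : k % (3 : ℕ) = 0 ∨ k % (3 : ℕ) = 1 ∨ k % (3 : ℕ) = 2 := by omega
  rcases this with h | h | h <;> rw [h]
  · simp
  · simp
  · exact Or.inr (Or.inr (eq_inv_of_mul_eq_one_left (by rw [← ht]; group)))

/-- elements of order `3` of a group whose order is not divisible by `27` -/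
theorem three [Finite G] {M : Subgroup G} {s t x : G} (hs : s ∈ M) (ht : t ∈ M) (hx : x ∈ M) (s3 : s ^ 3 = 1)
    (t3 : t ^ 3 = 1) (x3 : x ^ 3 = 1) (hc : Commute s t) (s1 : s ≠ 1) (hst : t ∉ zpowers s)
    (hM : ¬ 27 ∣ Nat.card M) :
    ∃ m ∈ M, ∃ a ∈ zpowers s, ∃ b ∈ zpowers t, m⁻¹ * x * m = a * b := by
  haveI : Fact (Nat.Prime 3) := ⟨by decide⟩
  have hn : ∀ y ∈ zpowers s, t⁻¹ * y * t ∈ zpowers s := fun y hy => by
    obtain ⟨k, rfl⟩ := mem_zpowers_iff.1 hy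
    rw [mul_assoc, (hc.zpow_left k).eq, inv_mul_cancel_left]; exact hy
  have pT := pstep t3 (pz s3) hn
  obtain ⟨k, hk⟩ := IsPGroup.iff_card.1 pT
  have c3 : Nat.card (zpowers s) = 3 := by rw [Nat.card_zpowers]; exact orderOf_eq_prime s3 s1
  have h9 : 3 ^ 2 ≤ Nat.card (zpowers s ⊔ zpowers t : Subgroup G) := by
    by_contra hh
    have hk1 : k ≤ 1 := by
      by_contra h2
      exact hh (hk ▸ Nat.pow_le_pow_right (by decide) (by omega))
    have := eq_of_le_of_card_ge (le_sup_left : zpowers s ≤ zpowers s ⊔ zpowers t)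
      (by rw [hk, c3]; exact Nat.pow_le_pow_right (by decide) hk1)
    exact hst (this ▸ mem_sup_right (mem_zpowers t))
  obtain ⟨m, hm, h⟩ := syl (sup_le (zpowers_le.2 hs) (zpowers_le.2 ht)) (zpowers_le.2 hx) pT (pz x3) h9 hM
  have := h x (mem_zpowers x)
  rw [← SetLike.mem_coe, coe_mul_of_right_le_normalizer_left _ _ (zpowers_le.2 (mem_norm hn))] at this
  obtain ⟨a, ha, b, hb, e⟩ := this
  exact ⟨m, hm, a, ha, b, hb, e.symm⟩

/-- an automorphism with `1 + x + x² = 0` on `Q / Z` only centralises central elements -/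
theorem fpf {Q : Subgroup G} {c x d w : G} (hQ : ∀ u ∈ Q, Commute u c ∧ ∀ v ∈ Q, ⁅u, v⁆ ∈ zpowers c)
    (c5 : c ^ 5 = 1) (hx : ∀ u ∈ Q, x⁻¹ * u * x ∈ Q) (hxc : x⁻¹ * c * x = c) (hd : d ∈ Q) (hxd : Commute x d)
    (hw : w ∈ Q) (hF : w * (x⁻¹ * w * x) * (x⁻¹ * (x⁻¹ * w * x) * x) ∈ zpowers c) : Commute d w := by
  have cz : ∀ u, Commute u c → ∀ n ∈ zpowers c, Commute u n := fun u hu n hn => by
    obtain ⟨k, rfl⟩ := mem_zpowers_iff.1 hn
    exact hu.zpow_right k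
  have xc : Commute x c := by
    show x * c = c * x
    conv_lhs => rw [← hxc]
    group
  have bil : ∀ u ∈ Q, ∀ v ∈ Q, ⁅d, u * v⁆ = ⁅d, u⁆ * ⁅d, v⁆ := fun u hu v hv => by
    have : ⁅d, u * v⁆ = ⁅d, u⁆ * (u * ⁅d, v⁆ * u⁻¹) := by simp only [commutatorElement_def]; group
    rw [this, (cz u (hQ u hu).1 _ ((hQ d hd).2 v hv)).eq, mul_inv_cancel_right]
  have inv : ∀ u ∈ Q, ⁅d, x⁻¹ * u * x⁆ = ⁅d, u⁆ := fun u hu => by
    have e : d = x⁻¹ * d * x := by rw [mul_assoc, ← hxd.eq, inv_mul_cancel_left]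
    have : ⁅x⁻¹ * d * x, x⁻¹ * u * x⁆ = x⁻¹ * ⁅d, u⁆ * x := by simp only [commutatorElement_def]; group
    rw [← e] at this
    rw [this, mul_assoc, ← (cz x xc _ ((hQ d hd).2 u hu)).eq, inv_mul_cancel_left]
  have h1 := commutatorElement_eq_one_iff_commute.2 (cz d (hQ d hd).1 _ hF)
  rw [bil _ (mul_mem hw (hx w hw)) _ (hx _ (hx w hw)), bil _ hw _ (hx w hw), inv _ (hx w hw), inv _ hw] at h1
  obtain ⟨k, hk⟩ := (pz c5) ⟨_, (hQ d hd).2 w hw⟩
  have h5 : ⁅d, w⁆ ^ 5 ^ k = 1 := congrArg Subtype.val hk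
  have h3 : ⁅d, w⁆ ^ 3 = 1 := by rw [← h1, pow_three']
  have := pow_gcd_eq_one.2 ⟨h3, h5⟩
  rw [Nat.Coprime.gcd_eq_one (Nat.Coprime.pow_right k (by decide)), pow_one] at this
  exact commutatorElement_eq_one_iff_commute.1 this

end CA.LyU
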