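import Cfsg.Agent.Lib.Spor.Ly111D

/-! An element of the representation of degree 111 whose order does not divide `|G₂(5)|`. -/

set_option autoImplicit false
set_option maxRecDepth 100000

namespace CA.LyZ
open CA.CNet CA.CWord CA.CMat CA.PkM CA.PkW CA.CPres CA.Ly111 Cfsg.Spor Matrix

theorem v1 : veq 5 111 (aw 5 F (List.replicate 37 [12, 0, 8, 16]).flatten 1) 1 = true := by decide +kernel
theorem v2 : veq 5 111 (aw 5 F [12, 0, 8, 16] 1) 1 = false := by decide +kernel

theorem veq_of {p : ℕ} : ∀ {n x y : ℕ}, (∀ i < n, dg i x % p = dg i y % p) → veq p n x y = true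
  | 0, _, _, _ => rfl
  | n + 1, x, y, h => by
    refine band_iff.2 ⟨Nat.beq_eq ▸ h 0 (by omega), ?_⟩
    show (force (x / 65536) fun x' => force (y / 65536) fun y' => veq p n x' y') = true
    rw [force_eq, force_eq]
    exact veq_of fun i hi => h (i + 1) (by omega)

theorem mev_rep (w : Word) : ∀ n, mev 5 111 F (List.replicate n w).flatten = mev 5 111 F w ^ n
  | 0 => rfl
  | n + 1 => by
    rw [pow_succ', ← mev_rep w n, List.replicate_succ, List.flatten_cons]
    simp only [mev, List.map_append, List.prod_append]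

theorem not_pow : mev 5 111 F [12, 0, 8, 16] ^ 5859000000 ≠ 1 := fun h => by
  have a1 : vec 5 111 1 ᵥ* mev 5 111 F [12, 0, 8, 16] ^ 37 = vec 5 111 1 := by
    rw [← mev_rep, ← vec_aw (by decide) (by decide) hF _ (by decide +kernel)]
    exact funext fun j => (ZMod.natCast_eq_natCast_iff' _ _ 5).2 (veq_spec v1 j j.2)
  have a2 : vec 5 111 1 ᵥ* mev 5 111 F [12, 0, 8, 16] ≠ vec 5 111 1 := fun e => by
    rw [← vec_aw (by decide) (by decide) hF _ (by decide +kernel)] at e
    have := veq_of (p := 5) (n := 111) fun i hi => (ZMod.natCast_eq_natCast_iff' _ _ 5).1 (congrFun e ⟨i, hi⟩)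
    rw [v2] at this
    exact absurd this (by decide)
  generalize mev 5 111 F [12, 0, 8, 16] = A at h a1 a2
  have a3 : ∀ n, vec 5 111 1 ᵥ* (A ^ 37) ^ n = vec 5 111 1 := fun n => by
    induction n with
    | zero => rw [pow_zero, vecMul_one]
    | succ n ih => rw [pow_succ, ← vecMul_vecMul, ih, a1]
  have a4 := a3 2691972973
  rw [← pow_mul, show 37 * 2691972973 = 5859000000 * 17 + 1 by norm_num, pow_succ, pow_mul, h, one_pow, one_mul] at a4
  exact a2 a4

end CA.LyZ
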