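import Cfsg.Agent.Lib.Spor.LyZa
import Cfsg.Agent.Lib.Spor.LyZb
import Cfsg.Agent.S1710

/-! The Lyons group: the subgroup `G₂(5)` is simple, has the right order and does not contain `z`. -/

set_option autoImplicit false
set_option maxRecDepth 100000

namespace CA.LyZ
open CA.CNet CA.CWord CA.CMat CA.PkM CA.PkW CA.CPres CA.Ly111 Cfsg.Spor Matrix

theorem iso : ∃ (K : Type) (_ : Field K) (_ : Fintype K), Fintype.card K = 5 ∧
    Nonempty (grp (pg Ly.edges Ly.extra LyRel.gen) LyG2.gens ≃* Cfsg.Lie.chevG2.group K) := by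
  have := Cfsg.Agent.S1710.result
  rwa [map_closure_eq (gen := LyRel.gen) LyG2.gens (l := [_, _, _, _]) rfl
    (fun x => by simp only [Set.mem_insert_iff, Set.mem_singleton_iff, List.mem_cons,
      List.not_mem_nil, or_false]; rfl)] at this

theorem cardH : Nat.card (grp (pg Ly.edges Ly.extra LyRel.gen) LyG2.gens) = 5859000000 := by
  obtain ⟨K, _, _, h, ⟨e⟩⟩ := iso
  rw [Nat.card_congr e.toEquiv, Cfsg.Agent.S1059.result h]
  norm_num

theorem simpleH : IsSimpleGroup (grp (pg Ly.edges Ly.extra LyRel.gen) LyG2.gens) := by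
  classical
  obtain ⟨K, _, _, h, ⟨e⟩⟩ := iso
  obtain ⟨a, -, ha⟩ := Finset.exists_mem_notMem_of_card_lt_card (s := ({0, 1} : Finset K)) (t := Finset.univ)
    (Finset.card_le_two.trans_lt (by rw [Finset.card_univ, h]; decide))
  have := (Cfsg.Agent.S1055.result (F := K) ⟨a, by simpa using ha⟩).1
  exact e.isSimpleGroup

theorem z_not : pg Ly.edges Ly.extra LyRel.gen 4 ∉ grp (pg Ly.edges Ly.extra LyRel.gen) LyG2.gens := fun hz => by
  obtain ⟨g, h1, h2⟩ := exists_gl (p := 5) (n := 111) (by decide) (by decide) hF hI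
  obtain ⟨φ, h5⟩ := LyRel.enc.hom _ _ fun r hr => h2 σ r (lall_iff.1 Ly111.rels r hr)
  have m : ∀ i < 4, pg Ly.edges Ly.extra LyRel.gen i ∈ grp (pg Ly.edges Ly.extra LyRel.gen) LyG2.gens := fun i hi => by
    rw [← ev_gen (pg Ly.edges Ly.extra LyRel.gen) i]
    exact mem_grp _ ((by decide : ∀ i < 4, [2 * i] ∈ LyG2.gens) i hi)
  have e : ∀ i < 5, ((φ (pg Ly.edges Ly.extra LyRel.gen i) : GL (Fin 111) (ZMod 5)) : Matrix (Fin 111) (Fin 111) (ZMod 5)) =
      val 5 111 (F (2 * i)) := fun i hi => by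
    rw [h5 i (by omega), (by decide +kernel : ∀ i < 5, nth σ [] i = [2 * i]) i hi, ev_gen, h1 i (by omega)]
  have k := congrArg Subtype.val (pow_card_eq_one' (x := (⟨_, mul_mem (m 3 (by decide)) (mul_mem (m 0 (by decide))
    (mul_mem (m 2 (by decide)) hz))⟩ : grp (pg Ly.edges Ly.extra LyRel.gen) LyG2.gens)))
  rw [cardH, Subgroup.coe_pow, Subgroup.coe_one] at k
  have k' := congrArg (fun x => ((φ x : GL (Fin 111) (ZMod 5)) : Matrix (Fin 111) (Fin 111) (ZMod 5))) k
  simp only [map_pow, map_mul, map_one, Units.val_pow_eq_pow_val, Units.val_mul, Units.val_one] at k'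
  rw [e 3 (by decide), e 0 (by decide), e 2 (by decide), e 4 (by decide)] at k'
  refine not_pow (Eq.trans (congrArg (· ^ 5859000000) ?_) k')
  simp only [mev, List.map_cons, List.map_nil, List.prod_cons, List.prod_nil, mul_one]

end CA.LyZ
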