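import Cfsg.Agent.Lib.Spor.LyU1
import Cfsg.Agent.Lib.Spor.LyO
import Cfsg.Agent.Lib.Spor.LyZ
import Cfsg.Agent.Lib.Spor.LyS3
import Cfsg.Agent.Lib.Comp.CBack

/-! The Lyons group on the cosets of `G₂(5)`: stabilisers and fixed points. -/

set_option autoImplicit false
set_option maxRecDepth 100000
set_option Elab.async false

namespace CA.LyU
open CA.CNet CA.CWord CA.CLevel CA.CSimple CA.CPoint CA.CPres CA.CLow CA.LyM CA.LyO Cfsg.Spor Subgroup MulAction
open CA.LyS (us vs)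
open scoped commutatorElement

theorem cardK : Nat.card K = 5859000000 := LyZ.cardH
instance finK : Finite K := Nat.finite_of_card_ne_zero (cardK.trans_ne (by decide))
theorem idx : K.index = 8835156 := LyO.index LyZ.z_not
theorem z_not : g 4 ∉ K := LyZ.z_not
instance finG : Finite Ly := Nat.finite_of_card_ne_zero (by rw [← K.card_mul_index, cardK, idx]; decide)

theorem φ_inj : Function.Injective φ := fun a b h =>
  ((Nat.bijective_iff_surjective_and_card fun h : H => (⟨φ h, φ_mem h⟩ : K)).2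
    ⟨fun x => (φ_surj x.2).imp fun _ e => Subtype.ext e, LyO.card.trans cardK.symm⟩).1 (Subtype.ext h)

noncomputable def okw (u : Word) : Bool :=
  band (decide (subst gens (subst W u) = subst W u)) (lall u fun a => Nat.blt a 78)
noncomputable def mw (u : Word) : H := ⟨_, mem (subst W u)⟩
theorem φw {u : Word} (h : okw u = true) : φ (mw u) = ev g u := by
  rw [mw, hφ, of_decide_eq_true (band_iff.1 h).1, ev_subst]
  exact (ev_congr s2 fun a ha => Nat.blt_eq.mp (lall_iff.1 (band_iff.1 h).2 a ha)).symm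
noncomputable def EL (u v : Word) : Bool := band (band (okw u) (okw v)) (eqQ lk B (subst W u, subst W v))
theorem eqL {u v : Word} (h : EL u v = true) : ev g u = ev g v := by
  obtain ⟨h1, h2⟩ := band_iff.1 h
  rw [← φw (band_iff.1 h1).1, ← φw (band_iff.1 h1).2]
  exact congrArg φ (S.w_eq hlk base h2)
theorem memL {u : Word} (h : okw u = true) : ev g u ∈ K := φw h ▸ φ_mem _
theorem neL {u : Word} (p : ℕ) (h : okw u = true ∧ p < C.n ∧ C.maps (subst W u) p p = false) : ev g u ≠ 1 := fun e =>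
  Ctx.ne_one_of_moves hC h.2.1 h.2.2 (congrArg Subtype.val (φ_inj ((φw h.1).trans (e.trans (map_one φ).symm))))

def p0 : Ly ⧸ K := ((1 : Ly) : Ly ⧸ K)
noncomputable def p1 : Ly ⧸ K := g 4 • p0
theorem fix0 {x : Ly} : x • p0 = p0 ↔ x ∈ K := by
  show ((x * 1 : Ly) : Ly ⧸ K) = (1 : Ly) ↔ _
  rw [QuotientGroup.eq]; simp
theorem fixy {x y : Ly} : x • y • p0 = y • p0 ↔ y⁻¹ * x * y ∈ K := by
  rw [← fix0, mul_smul, mul_smul, inv_smul_eq_iff]

theorem hK (V : Word) : (g 4)⁻¹ * ev g (subst us V) * g 4 = ev g (subst vs V) := by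
  have := LyS.conj_word (Y := g 4) (u := fun i => ev g (nth us [] i)) (v := fun i => ev g (nth vs [] i))
    (τ := fun _ => 1) (fun i => ?_) V
  · rwa [← ev_subst, ← ev_subst, mem_bot.1 (ev_mem (H := ⊥) (fun _ => one_mem _) V), OneMemClass.coe_one,
      mul_one] at this
  by_cases hi : i < 8
  · have := LyRel.enc.hold _ ((by decide +kernel : ∀ i < 8,
      9 :: lapp (nth us [] i) (2 * 4 :: winv (nth vs [] i)) ∈ LyRel.rels) i hi)
    rw [ev_cons, ev_lapp, ev_cons, lv_even, ev_winv, ← mul_assoc, ← mul_assoc, mul_inv_eq_one] at this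
    exact this.trans (mul_one _).symm
  · rw [CLink.nth_ge (l := us) _ (not_lt.1 hi), CLink.nth_ge (l := vs) _ (not_lt.1 hi)]; simp

theorem zz' : g 4 * g 4 * (ev g [30])⁻¹ = 1 := by
  have := LyRel.enc.hold [8, 8, 31] (by decide +kernel)
  simpa [lv, mul_assoc] using this

theorem card_st (ξ : Ly ⧸ K) (i : Fin 5) (h : ξ ∈ orbit K (S.p i)) :
    ![1, 19530, 968750, 2034375, 5812500] i * Nat.card (K ⊓ stabilizer Ly ξ : Subgroup Ly) = 5859000000 := by
  rw [← cardO z_not i, ← orbit_eq, ← orbit_eq_iff.2 h]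
  exact (card_orb K ξ).trans cardK

theorem Sp1 : S.p 1 = p1 := congrArg (· • p0) (ev_gen g 4)
theorem card_st1 : Nat.card (K ⊓ stabilizer Ly p1 : Subgroup Ly) = 300000 := by
  have := card_st p1 1 (Sp1 ▸ mem_orbit_self _)
  simp only [Matrix.cons_val_one, Matrix.cons_val_zero] at this
  omega

theorem tri (ξ : Ly ⧸ K) : ξ = p0 ∨ ξ ∈ orbit K p1 ∨ ¬ 25 ∣ Nat.card (K ⊓ stabilizer Ly ξ : Subgroup Ly) := by
  obtain ⟨i, hi, h⟩ := all ξ
  rw [← orbit_eq] at h
  have := card_st ξ ⟨i, hi⟩ h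
  interval_cases i
  · obtain ⟨k, rfl⟩ := h
    exact Or.inl ((congrArg (k.1 • ·) (one_smul Ly p0)).trans (fix0.2 k.2))
  · exact Or.inr (Or.inl (Sp1 ▸ h))
  · exact Or.inr (Or.inr (by have : 968750 * _ = _ := this; omega))
  · exact Or.inr (Or.inr (by have : 2034375 * _ = _ := this; omega))
  · exact Or.inr (Or.inr (by have : 5812500 * _ = _ := this; omega))

theorem sw_fix {m : H} (hm : m.1 ∈ C.grp SW) : φ m ∈ stabilizer Ly p1 := by
  obtain ⟨v, hv⟩ := exists_subst hm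
  rw [show m = ⟨_, mem (subst SW v)⟩ from Subtype.ext hv.symm, hφ, ev_subst, ev_subst]
  refine ev_mem (fun i => fixy.2 ?_) v
  have h := tw0 i
  have hu : g 4 * g 4 ∈ K := mul_inv_eq_one.1 zz' ▸ memL (by decide +kernel)
  rw [← ev_subst]
  have e : ∀ s, (g 4)⁻¹ * s * g 4 = (g 4 * g 4)⁻¹ * MulAut.conj (g 4) s * (g 4 * g 4) := fun s => by
    rw [MulAut.conj_apply]; group
  rw [e, h]
  exact mul_mem (mul_mem (inv_mem hu) (subst_mem_grp _ _ _)) hu

theorem stab_iff (m : H) : φ m • p1 = p1 ↔ m.1 o = o := by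
  refine ⟨fun h => ?_, fun h => sw_fix (stab _ m.2 h)⟩
  have e : ((C.grp SW).subgroupOf H).map φ = K ⊓ stabilizer Ly p1 := eq_of_le_of_card_ge
    (by rintro _ ⟨x, hx, rfl⟩; exact ⟨φ_mem x, sw_fix hx⟩) (by
      rw [card_st1, card_map_of_injective φ_inj,
        Nat.card_congr (subgroupOfEquivOfLe (H_eq ▸ hSW : C.grp SW ≤ H)).toEquiv]
      exact low1.1)
  obtain ⟨x, hx, e'⟩ : φ m ∈ ((C.grp SW).subgroupOf H).map φ := e ▸ ⟨φ_mem m, h⟩
  exact φ_inj e' ▸ fix_of_mapsP hlk (p := o) fixSW _ hx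

theorem same {m m' : H} : φ m • p1 = φ m' • p1 ↔ m.1 o = m'.1 o := by
  rw [← inv_smul_eq_iff, ← mul_smul, ← map_inv, ← map_mul, stab_iff]
  exact Equiv.Perm.inv_eq_iff_eq

noncomputable def fixA (ws : List Word) : ℕ :=
  List.rec (motive := fun _ => ℕ) (full C.n) (fun w _ ih => Nat.land (CBack.fixM C (subst W w)) ih) ws

theorem fixA_spec (ws : List Word) (i : Fin C.n) (h : ∀ w ∈ ws, (mw w).1 i = i) : (fixA ws).testBit i = true := by
  induction ws with
  | nil => exact (testBit_full _ _).trans (decide_eq_true i.2)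
  | cons w ws ih =>
    show (CBack.fixM C (subst W w) &&& fixA ws).testBit i = true
    rw [Nat.testBit_and, (CBack.testBit_fixM hC _ i).2 (h w List.mem_cons_self),
      ih fun w hw => h w (List.mem_cons_of_mem _ hw)]; rfl

theorem fixO {ws : List Word} (hw : lall ws okw = true) {ξ : Ly ⧸ K} (h : ξ ∈ orbit K p1)
    (hf : ∀ w ∈ ws, ev g w • ξ = ξ) : ∃ m : H, ξ = φ m • p1 ∧ (fixA ws).testBit (m.1 o) = true := by
  obtain ⟨k, rfl⟩ := h
  obtain ⟨m, hm⟩ := φ_surj k.2
  refine ⟨m, by rw [hm]; rfl, fixA_spec ws _ fun w h => ?_⟩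
  refine (same (m := mw w * m) (m' := m)).1 ?_
  rw [map_mul, mul_smul, φw (lall_iff.1 hw w h), hm]
  exact hf w h

theorem bit_mem {x : ℕ} {l : List ℕ} (h : ∀ i < 9, x.testBit i = true → i ∈ l) (hx : x < 2 ^ 9) {i : ℕ}
    (hi : x.testBit i = true) : i ∈ l := h i (by
  by_contra hh
  rw [Nat.testBit_lt_two_pow (hx.trans_le (Nat.pow_le_pow_right (by decide) (by omega)))] at hi
  exact absurd hi (by decide)) hi

def QW : List Word := [[20], [22], [24], [26], [28]]
abbrev Q : Subgroup Ly := grp g QW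

theorem fixQ1 {ξ : Ly ⧸ K} (h : ξ ∈ orbit K p1) (hf : ∀ x ∈ Q, x • ξ = ξ) : ∃ j < 5, ξ = g 1 ^ j • p1 := by
  obtain ⟨m, rfl, hm⟩ := fixO (ws := QW) (by decide +kernel) h fun w hw => hf _ (mem_grp g hw)
  rw [(by decide +kernel : fixA QW = 295)] at hm
  obtain ⟨j, hj, e⟩ := (by decide +kernel : ∀ i ∈ [0, 1, 2, 5, 8], ∃ j < 5,
    band (okw (wpow [2 * 1] j)) (mapsP C lk (subst W (wpow [2 * 1] j)) 0 i) = true) _
    (bit_mem (by decide) (by decide) hm)
  refine ⟨j, hj, ?_⟩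
  rw [← ev_gen g 1, ← ev_wpow, ← φw (band_iff.1 e).1, same]
  exact Fin.ext (mapsP_spec hlk (p := o) (band_iff.1 e).2).symm

theorem fixK1 {ξ : Ly ⧸ K} (h : ξ ∈ orbit K p1) (hf : ∀ w ∈ us, ev g w • ξ = ξ) : ξ = p1 := by
  obtain ⟨m, rfl, hm⟩ := fixO (ws := us) (by decide +kernel) h hf
  rw [(by decide +kernel : fixA us = 1)] at hm
  exact (stab_iff m).2 (Fin.ext (List.mem_singleton.1 (bit_mem (l := [0]) (by decide) (by decide) hm)))

theorem cenK {x : Ly} (hx : x ∈ K) (h : ∀ V, Commute x (ev g (subst vs V))) : x = 1 := by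
  obtain ⟨m, rfl⟩ := φ_surj hx
  have hc : ∀ V, okw (subst vs V) = true → ∀ i, m.1 ((mw (subst vs V)).1 i) = (mw (subst vs V)).1 (m.1 i) :=
    fun V hV i => by
      have : m * mw (subst vs V) = mw (subst vs V) * m := φ_inj (by rw [map_mul, map_mul, φw hV, (h V).eq])
      exact congrArg (fun y : H => y.1 i) this
  have fx : ∀ (l : List Word) (p : Fin C.n), lall l (fun V => band (okw (subst vs V))
      (mapsP C lk (subst W (subst vs V)) p p)) = true → (fixA (lmap (subst vs) l)).testBit (m.1 p) = true :=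
    fun l p hl => fixA_spec _ _ fun w hw => by
      rw [lmap_eq] at hw
      obtain ⟨V, hV, rfl⟩ := List.mem_map.1 hw
      have := band_iff.1 (lall_iff.1 hl V hV)
      rw [← hc V this.1]
      exact congrArg m.1 (Fin.ext (mapsP_spec hlk this.2))
  have f0 := fx [[0], [10], [12], [14]] o (by decide +kernel)
  rw [(by decide +kernel : fixA (lmap (subst vs) [[0], [10], [12], [14]]) = 1)] at f0
  have g0 : m.1 o = o := Fin.ext (List.mem_singleton.1 (bit_mem (l := [0]) (by decide) (by decide) f0))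
  let o3 : Fin C.n := ⟨3, by decide⟩
  have f3 := fx [[10], [12], [14]] o3 (by decide +kernel)
  rw [(by decide +kernel : fixA (lmap (subst vs) [[10], [12], [14]]) = 9)] at f3
  have g3 : m.1 o3 = o3 := by
    have := bit_mem (l := [0, 3]) (by decide) (by decide) f3
    simp only [List.mem_cons, List.not_mem_nil, or_false] at this
    rcases this with e | e
    · exact absurd (m.1.injective ((Fin.ext e : m.1 o3 = o).trans g0.symm)) (by decide)
    · exact Fin.ext e
  let n := mw [6, 5, 1, 4, 0]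
  have : n⁻¹ * m * n = 1 := Subtype.ext (base _ (n⁻¹ * m * n).2 fun i hi => by
    obtain ⟨V, -, q, -, e⟩ := (by decide +kernel : ∀ i ∈ B, ∃ V ∈ [[], [0, 0, 11, 1, 15, 0], [0, 13, 1, 15, 0]],
      ∃ q ∈ [3, 2658, 1357], band (okw (subst vs V)) (band (mapsP C lk (subst W (subst vs V)) 3 q)
        (mapsP C lk (subst W [6, 5, 1, 4, 0]) i q)) = true) i hi
    obtain ⟨e1, e2⟩ := band_iff.1 e
    have e3 : n.1 i = (mw (subst vs V)).1 o3 :=
      Fin.ext ((mapsP_spec hlk (band_iff.1 e2).2).trans (mapsP_spec hlk (p := o3) (band_iff.1 e2).1).symm)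
    show n.1⁻¹ (m.1 (n.1 i)) = i
    rw [Equiv.Perm.inv_eq_iff_eq, e3, hc V e1, g3])
  rw [show m = 1 by simpa [mul_assoc] using congrArg (fun y => n * y * n⁻¹) this, map_one]

theorem cardQ : 5 ^ 5 ≤ Nat.card Q := by
  have h : Low (C.grp [[4], [1, 4, 0], [3, 4, 2], [2, 4, 3]]) 3125 [3] := low_clo hC hlk (us := []) 3 (by decide)
    [0, 2, 4, 6, 0, 4, 2, 6, 0, 4, 2, 6, 0, 4, 6, 2, 0, 2, 0, 2] (m := 3125) (grp_mono _ (by simp)) rfl
    (by decide +kernel) (low_nil C) rfl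
  have h2 : C.grp [[4], [1, 4, 0], [3, 4, 2], [2, 4, 3]] ≤ (Q.comap φ).map H.subtype := (grp_le_iff _).2 fun w hw => by
    obtain ⟨u, hu, e1, e2⟩ := (by decide +kernel : ∀ w ∈ [[4], [1, 4, 0], [3, 4, 2], [2, 4, 3]], ∃ u ∈ QW,
      okw u = true ∧ subst W u = w) w hw
    exact ⟨mw u, by show φ (mw u) ∈ Q; rw [φw e1]; exact mem_grp g hu, by rw [← e2]; rfl⟩
  refine h.1.trans ((card_le_of_le h2).trans ?_)
  rw [card_map_of_injective H.subtype_injective, ← card_map_of_injective φ_inj]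
  exact card_le_of_le (map_comap_le _ _)

end CA.LyU
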