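import Cfsg.Agent.Lib.Spor.LyU2

/-! The normaliser of the subgroup `5^{1+4}` of the Lyons group. -/

set_option autoImplicit false
set_option maxRecDepth 100000
set_option Elab.async false

namespace CA.LyU
open CA.CWord CA.CPres CA.LyM CA.LyO Cfsg.Spor Subgroup MulAction
open CA.LyS (us vs)
open scoped commutatorElement

theorem hQ : ∀ u ∈ Q, Commute u (ev g [28]) ∧ ∀ v ∈ Q, ⁅u, v⁆ ∈ zpowers (ev g [28]) :=
  comm_mem (T := {x | ∃ w ∈ QW, ev g w = x}) (by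
    rintro _ ⟨w, hw, rfl⟩
    show ev g w * ev g [28] = ev g [28] * ev g w
    rw [← ev_lapp, ← ev_lapp]
    exact eqL ((by decide +kernel : ∀ w ∈ QW, EL (lapp w [28]) (lapp [28] w) = true) w hw)) (by
    rintro _ ⟨u, hu, rfl⟩ _ ⟨v, hv, rfl⟩
    obtain ⟨k, -, e⟩ := (by decide +kernel : ∀ u ∈ QW, ∀ v ∈ QW, ∃ k < 5,
      EL (lapp (lapp (lapp u v) (winv u)) (winv v)) (wpow [28] k) = true) u hu v hv
    have := eqL e
    rw [ev_lapp, ev_lapp, ev_lapp, ev_winv, ev_winv, ev_wpow] at this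
    rw [commutatorElement_def, this]
    exact npow_mem_zpowers _ _)

theorem normW {ws : List Word} {n : Ly} (h : ∀ w ∈ ws, n⁻¹ * ev g w * n ∈ grp g ws) :
    ∀ y ∈ grp g ws, n⁻¹ * y * n ∈ grp g ws := fun y hy => by
  have := (grp_le_iff g (H := (grp g ws).comap (MulAut.conj n⁻¹).toMonoidHom)).2
    (fun w hw => by simpa using h w hw) hy
  simpa using this

theorem normW' {ws : List Word} (n : Word) (l : List Word)
    (h : ∀ w ∈ ws, ∃ v ∈ l, EL (lapp (lapp (winv n) w) n) (subst ws v) = true) :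
    ∀ y ∈ grp g ws, (ev g n)⁻¹ * y * ev g n ∈ grp g ws := normW fun w hw => by
  obtain ⟨v, -, e⟩ := h w hw
  rw [← ev_winv, ← ev_lapp, ← ev_lapp, eqL e]
  exact subst_mem_grp _ _ _

theorem na : ∀ y ∈ Q, (ev g [0])⁻¹ * y * ev g [0] ∈ Q :=
  normW' [0] [[2], [1, 1], [5, 5, 0, 6], [0, 3, 5, 6, 0, 6], [8, 8]] (by decide +kernel)
theorem nb : ∀ y ∈ Q, (ev g [2])⁻¹ * y * ev g [2] ∈ Q :=
  normW' [2] [[4], [2, 4, 7, 1, 7], [0, 0, 6, 5, 5], [0], [8]] (by decide +kernel)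
theorem nz : ∀ y ∈ Q, (g 4)⁻¹ * y * g 4 ∈ Q := normW fun w hw => by
  obtain ⟨i, -, rfl, v, -, e⟩ := (by decide +kernel : ∀ w ∈ QW, ∃ i < 5, subst us [2 * i] = w ∧
    ∃ v ∈ [[0, 5, 0, 7], [1, 1, 2, 2, 4, 7, 4, 7], [2, 6, 6], [0, 3, 5, 5, 6], [8, 8]],
      EL (subst vs [2 * i]) (subst QW v) = true) w hw
  rw [hK, eqL e]
  exact subst_mem_grp _ _ _
def Q2W : List Word := [[2], [20], [24], [26], [28]]
theorem ne2 : ∀ y ∈ grp g Q2W, (ev g [10])⁻¹ * y * ev g [10] ∈ grp g Q2W :=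
  normW' [10] [[2, 5, 7, 7], [0, 4, 0, 3], [0, 3, 4, 0, 8], [0, 0, 5, 6], [2, 5, 2, 7]] (by decide +kernel)

theorem pow1 {w : Word} {k : ℕ} (h : EL (wpow w k) [] = true) : ev g w ^ k = 1 := (ev_wpow g w k).symm.trans (eqL h)
theorem mQ {w : Word} (h : w ∈ QW) : ev g w ∈ Q := mem_grp g h

theorem pQ : IsPGroup 5 Q := by
  have st : ∀ {N : Subgroup Ly} (w : Word), w ∈ QW ∧ EL (wpow w 5) [] = true →
      (N ≤ Q ∧ ev g [28] ∈ N ∧ IsPGroup 5 N) → (N ⊔ zpowers (ev g w) ≤ Q ∧ ev g [28] ∈ N ⊔ zpowers (ev g w) ∧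
        IsPGroup 5 (N ⊔ zpowers (ev g w) : Subgroup Ly)) := fun w hw h =>
    ⟨sup_le h.1 (zpowers_le.2 (mQ hw.1)), mem_sup_left h.2.1, pstep (pow1 hw.2) h.2.2 fun y hy => by
      rw [show (ev g w)⁻¹ * y * ev g w = y * ⁅y⁻¹, (ev g w)⁻¹⁆ by simp only [commutatorElement_def]; group]
      exact mul_mem hy (zpowers_le.2 h.2.1 ((hQ _ (inv_mem (h.1 hy))).2 _ (inv_mem (mQ hw.1))))⟩
  refine (st [20] (by decide +kernel) (st [22] (by decide +kernel) (st [24] (by decide +kernel)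
    (st [26] (by decide +kernel) ⟨zpowers_le.2 (mQ (by decide)), mem_zpowers _,
      pz (pow1 (by decide +kernel))⟩)))).2.2.to_le ((grp_le_iff g).2 fun w hw => ?_)
  simp only [QW, List.mem_cons, List.not_mem_nil, or_false] at hw
  rcases hw with rfl | rfl | rfl | rfl | rfl
  exacts [mem_sup_right (mem_zpowers _), mem_sup_left (mem_sup_right (mem_zpowers _)),
    mem_sup_left (mem_sup_left (mem_sup_right (mem_zpowers _))),
    mem_sup_left (mem_sup_left (mem_sup_left (mem_sup_right (mem_zpowers _)))),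
    mem_sup_left (mem_sup_left (mem_sup_left (mem_sup_left (mem_zpowers _))))]

abbrev P5 : Subgroup Ly := Q ⊔ zpowers (ev g [2])
theorem pP5 : IsPGroup 5 P5 := pstep (pow1 (by decide +kernel)) pQ nb
theorem leK {ws : List Word} (h : lall ws okw = true) : grp g ws ≤ K :=
  (grp_le_iff g).2 fun w hw => memL (lall_iff.1 h w hw)
theorem QK : Q ≤ K := leK (by decide +kernel)
theorem Q2_le : grp g Q2W ≤ P5 := (grp_le_iff g).2 fun w hw => by
  rcases (by decide : ∀ w ∈ Q2W, w = [2] ∨ w ∈ QW) w hw with rfl | h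
  exacts [mem_sup_right (mem_zpowers _), mem_sup_left (mQ h)]
theorem cl3 : ⁅⁅ev g [2], ev g [20]⁆, ev g [2]⁆ ≠ 1 := by
  simp only [commutatorElement_def, ← ev_winv, ← ev_lapp]
  exact neL 3 (by decide +kernel)
theorem ncm : ¬ Commute (ev g [20, 24]) (ev g [20]) := by
  rw [← commutatorElement_eq_one_iff_commute]
  simp only [commutatorElement_def, ← ev_winv, ← ev_lapp]
  exact neL 3 (by decide +kernel)
theorem mQc : ev g [20, 24] ∈ Q := subst_mem_grp g QW [0, 4]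

theorem FX {X : Subgroup Ly} (hX : X ≤ K) (pX : IsPGroup 5 X) {ξ : Ly ⧸ K} (hf : ∀ x ∈ X, x • ξ = ξ) :
    ξ = p0 ∨ (∀ x ∈ X, ∀ y ∈ X, x * y = y * x) ∨ (ξ ∈ orbit K p1 ∧ ∃ h ∈ K, ∀ x ∈ X, h⁻¹ * x * h ∈ Q) := by
  rcases tri ξ with h | h | h
  · exact Or.inl h
  · refine Or.inr (Or.inr ⟨h, ?_⟩)
    obtain ⟨k, rfl⟩ := h
    obtain ⟨m, hm, e⟩ := syl (p := 5) (n := 5) (M := K ⊓ stabilizer Ly p1) (P := Q)
      (X := X.map (MulAut.conj k.1⁻¹).toMonoidHom) (fun x hx => ⟨QK hx, fixy.2 (QK (nz x hx))⟩) (by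
        rintro _ ⟨x, hx, rfl⟩
        refine mem_inf.2 ⟨K.mul_mem (K.mul_mem (K.inv_mem k.2) (hX hx)) (K.inv_mem (K.inv_mem k.2)), ?_⟩
        show (k.1⁻¹ * x * k.1⁻¹⁻¹) • p1 = p1
        rw [inv_inv, mul_smul, mul_smul, inv_smul_eq_iff]
        exact hf x hx) pQ (pX.map _) cardQ (by rw [card_st1]; decide)
    exact ⟨k.1 * m, mul_mem k.2 hm.1, fun x hx => by simpa [mul_assoc] using e _ ⟨x, hx, rfl⟩⟩
  · exact Or.inr (Or.inl (comm_of_dvd pX (Y := K ⊓ stabilizer Ly ξ) (fun x hx => mem_inf.2 ⟨hX hx, hf x hx⟩) h))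

theorem UF {X : Subgroup Ly} (hX : X ≤ K) (pX : IsPGroup 5 X) {x y : Ly} (hx : x ∈ X) (hy : y ∈ X)
    (hn : ⁅⁅x, y⁆, x⁆ ≠ 1) {ξ : Ly ⧸ K} (hf : ∀ x ∈ X, x • ξ = ξ) : ξ = p0 := by
  rcases FX hX pX hf with h | h | ⟨-, k, -, h⟩
  · exact h
  · rw [commutatorElement_eq_one_iff_mul_comm.2 (h x hx y hy)] at hn
    simp at hn
  · refine absurd ?_ hn
    obtain ⟨n, e⟩ := mem_zpowers_iff.1 ((hQ _ (h x hx)).2 _ (h y hy))
    have : ⁅⁅k⁻¹ * x * k, k⁻¹ * y * k⁆, k⁻¹ * x * k⁆ = 1 := by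
      rw [← e]; exact commutatorElement_eq_one_iff_commute.2 ((hQ _ (h x hx)).1.zpow_right n).symm
    rw [show ⁅⁅x, y⁆, x⁆ = k * ⁅⁅k⁻¹ * x * k, k⁻¹ * y * k⁆, k⁻¹ * x * k⁆ * k⁻¹ by
      simp only [commutatorElement_def]; group, this]
    simp

/-- the fixed points of `Q` -/
def L : Set (Ly ⧸ K) := {ξ | ∀ x ∈ Q, x • ξ = ξ}
def T : Set (Ly ⧸ K) := Set.range fun j : Fin 5 => g 1 ^ j.1 • p1
theorem cardT : T.ncard ≤ 5 := (Finite.card_range_le _).trans (by simp)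
theorem finT : T.Finite := Set.finite_range _
theorem L_orb {ξ : Ly ⧸ K} (h : ξ ∈ L) (h0 : ξ ≠ p0) : ξ ∈ orbit K p1 := by
  rcases FX QK pQ h with h | h | h
  exacts [absurd h h0, absurd (h _ mQc _ (mQ (by decide))) ncm, h.1]
theorem L_sub {ξ : Ly ⧸ K} (h : ξ ∈ L) (h0 : ξ ≠ p0) : ξ ∈ T := by
  obtain ⟨j, hj, e⟩ := fixQ1 (L_orb h h0) h
  exact ⟨⟨j, hj⟩, e.symm⟩
theorem L0 : p0 ∈ L := fun _ hx => fix0.2 (QK hx)
theorem L1 : p1 ∈ L := fun x hx => fixy.2 (QK (nz x hx))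
theorem p10 : p1 ≠ p0 := fun h => z_not (fix0.1 h)

abbrev N : Subgroup Ly := normalizer (Q : Set Ly)
theorem cN {m x : Ly} (hm : m ∈ N) (hx : x ∈ Q) : m⁻¹ * x * m ∈ Q := (mem_normalizer_iff''.1 hm x).1 hx
theorem L_smul {m : Ly} (hm : m ∈ N) {ξ : Ly ⧸ K} (h : ξ ∈ L) : m • ξ ∈ L := fun x hx => by
  have := h _ (cN hm hx)
  rwa [mul_smul, mul_smul, inv_smul_eq_iff] at this

theorem orb_sub {X : Subgroup Ly} (hX : X ≤ N ⊓ K) {ξ : Ly ⧸ K} (h : ξ ∈ L) (h0 : ξ ≠ p0) : orbit X ξ ⊆ T := by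
  rintro _ ⟨x, rfl⟩
  exact L_sub (L_smul (hX x.2).1 h) fun e => h0 (by
    rw [← fix0.2 (inv_mem (hX x.2).2), ← e]; exact (inv_smul_smul x.1 ξ).symm)

theorem orbT {X : Subgroup Ly} (hX : X ≤ N ⊓ K) (pX : IsPGroup 5 X) {x y : Ly} (hx : x ∈ X) (hy : y ∈ X)
    (hn : ⁅⁅x, y⁆, x⁆ ≠ 1) {ξ : Ly ⧸ K} (h : ξ ∈ L) (h0 : ξ ≠ p0) : orbit X ξ = T ∧ T.ncard = 5 := by
  have h5 : 5 ≤ (orbit X ξ).ncard := five_le pX fun hf => h0 (UF (hX.trans inf_le_right) pX hx hy hn hf)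
  have e := Set.eq_of_subset_of_ncard_le (orb_sub hX h h0) (cardT.trans h5) finT
  exact ⟨e, le_antisymm cardT (e ▸ h5)⟩

def PW3 : List Word := [[0], [2], [4]]
abbrev P1 : Subgroup Ly := grp g PW3
theorem QN : Q ≤ N := le_normalizer
theorem P1_le : P1 ≤ N ⊓ K := le_inf ((grp_le_iff g).2 fun w hw => by
  simp only [PW3, List.mem_cons, List.not_mem_nil, or_false] at hw
  rcases hw with rfl | rfl | rfl
  exacts [mem_norm na, mem_norm nb, eqL (u := [20]) (v := [4]) (by decide +kernel) ▸ QN (mQ (by decide))])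
  (leK (by decide +kernel))
theorem memP {u : Word} (h : EL u (subst PW3 (subst W u)) = true) : ev g u ∈ P1 := eqL h ▸ subst_mem_grp _ _ _
theorem P5_le : P5 ≤ P1 := sup_le ((grp_le_iff g).2 fun w hw =>
  memP ((by decide +kernel : ∀ w ∈ QW, EL w (subst PW3 (subst W w)) = true) w hw))
  (zpowers_le.2 (mem_grp g (by decide)))
theorem mb : ev g [2] ∈ P5 := mem_sup_right (mem_zpowers _)
theorem mc : ev g [20] ∈ P5 := mem_sup_left (mQ (by decide))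

theorem card_orb' (X : Subgroup Ly) (ξ : Ly ⧸ K) :
    (orbit X ξ).ncard * Nat.card (X ⊓ stabilizer Ly ξ : Subgroup Ly) = Nat.card X := card_orb X ξ

theorem cardNK : ¬ 9 ∣ Nat.card (N ⊓ K : Subgroup Ly) := fun h => by
  obtain ⟨e, e5⟩ := orbT (P5_le.trans P1_le) pP5 mb mc cl3 L1 p10
  have e' : orbit (N ⊓ K : Subgroup Ly) p1 = T := (orb_sub le_rfl L1 p10).antisymm (by
    rw [← e]; rintro _ ⟨x, rfl⟩; exact ⟨⟨x.1, P1_le (P5_le x.2)⟩, rfl⟩)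
  rw [← card_orb' _ p1, e', e5] at h
  have := card_dvd_of_le (inf_le_inf_right (stabilizer Ly p1) (inf_le_right : N ⊓ K ≤ K))
  rw [card_st1] at this
  exact absurd (h.trans (mul_dvd_mul_left 5 this)) (by decide)

theorem st0 : stabilizer Ly p0 = K := Subgroup.ext fun _ => fix0

theorem cardN : ¬ 27 ∣ Nat.card N := fun h => by
  have h1 : (orbit N p0).ncard ≤ 6 := (Set.ncard_le_ncard (t := insert p0 T) (by
    rintro _ ⟨x, rfl⟩
    exact or_iff_not_imp_left.2 (L_sub (L_smul x.2 L0))) (finT.insert _)).trans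
    ((Set.ncard_insert_le _ _).trans (Nat.succ_le_succ cardT))
  have h2 := cardNK
  have h3 : 0 < (orbit N p0).ncard := (Set.ncard_pos (Set.toFinite _)).2 ⟨_, mem_orbit_self _⟩
  rw [← card_orb' _ p0, st0] at h
  generalize (orbit N p0).ncard = n at *
  interval_cases n <;> omega

end CA.LyU
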