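import Cfsg.Agent.Lib.Spor.LyU3
import Cfsg.Agent.S2121

/-! Every automorphism of the Lyons group is inner. -/

set_option autoImplicit false
set_option maxRecDepth 100000
set_option Elab.async false

namespace CA.LyU
open CA.CWord CA.CPres CA.LyM CA.LyO Cfsg.Spor Subgroup MulAction
open CA.LyS (us vs)
open scoped commutatorElement

noncomputable def Y (n : Word) : Ly := ev g n * g 4 * (ev g [30])⁻¹
noncomputable def cv (V : Word) : Word := lapp (lapp [30] (subst vs V)) (winv [30])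
theorem tconj {n u V : Word} (h : EL (lapp (lapp (winv n) u) n) (subst us V) = true) :
    (Y n)⁻¹ * ev g u * Y n = ev g (cv V) := by
  have := eqL h
  rw [ev_lapp, ev_lapp, ev_winv] at this
  rw [cv, ev_lapp, ev_lapp, ev_winv, ← hK, ← this, Y]; group
theorem YN {n : Word} (h : EL n (subst PW3 (subst W n)) = true) : Y n ∈ N :=
  mul_mem (mul_mem (P1_le (memP h)).1 (mem_norm nz)) (inv_mem (P1_le (memP (by decide +kernel))).1)

theorem fp (n : Word) (l : List (Word × Word × ℕ)) (hn : EL n (subst PW3 (subst W n)) = true)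
    (h5 : band (EL (lapp (lapp (winv n) [28]) n) (subst us [8, 8])) (EL (cv [8, 8]) [28]) = true)
    (h : ∀ w ∈ QW, ∃ e ∈ l, band (EL (lapp (lapp (winv n) w) n) (subst us e.1))
      (band (EL (lapp (lapp (winv n) (cv e.1)) n) (subst us e.2.1))
        (EL (lapp (lapp w (cv e.1)) (cv e.2.1)) (wpow [28] e.2.2))) = true)
    {d : Ly} (hd : d ∈ Q) (hc : Commute (Y n) d) : ∀ w ∈ Q, Commute d w := fun w hw => by
  refine (mem_centralizer_singleton_iff.1 ((grp_le_iff g (H := centralizer {d})).2 (fun w hw => ?_) hw)).symm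
  obtain ⟨e, -, he⟩ := h w hw
  obtain ⟨e1, he⟩ := band_iff.1 he
  obtain ⟨e2, e3⟩ := band_iff.1 he
  refine mem_centralizer_singleton_iff.2 (fpf hQ (pow1 (by decide +kernel)) (fun u hu => cN (YN hn) hu)
    ((tconj (band_iff.1 h5).1).trans (eqL (band_iff.1 h5).2)) hd hc (mQ hw) ?_).symm
  rw [tconj e1, tconj e2, ← ev_lapp, ← ev_lapp, eqL e3, ev_wpow]
  exact npow_mem_zpowers _ _

theorem h82 : g 4 * ev g [18] * g 4 * ev g [18] * g 4 * ev g [30, 18] = 1 := by
  have := LyRel.enc.hold [18, 8, 18, 8, 18, 8, 30] (by decide +kernel)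
  rw [ev_cons, mul_eq_one_comm] at this
  simpa [lv, mul_assoc] using this

theorem t2_3 : Y [18] ^ 3 = 1 := by
  have e1 : ev g [30] = g 4 * g 4 := (mul_inv_eq_one.1 zz').symm
  have e2 : ev g [30] * ev g [18] = ev g [18] * ev g [30] := by
    rw [← ev_lapp, ← ev_lapp]; exact eqL (by decide +kernel)
  have e3 : ev g [30] ^ 4 = 1 := pow1 (by decide +kernel)
  have e4 := h82
  rw [show ev g [30, 18] = ev g [30] * ev g [18] from ev_append g [30] [18]] at e4
  have c : Commute (ev g [18] * g 4) (ev g [30])⁻¹ :=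
    (Commute.mul_left e2.symm (by rw [e1]; exact (Commute.refl _).mul_right (Commute.refl _))).inv_right
  have e5 : (ev g [18] * g 4) ^ 3 = (ev g [30])⁻¹ := by
    rw [← mul_assoc, mul_eq_one_comm] at e4
    rw [eq_inv_iff_mul_eq_one, ← e4, pow_three']; simp only [mul_assoc]
  rw [Y, c.mul_pow, e5, ← pow_succ', inv_pow, e3, inv_one]

theorem t2_fix : Y [18] • ev g [2] • p1 = ev g [2] • p1 := by
  have h := LyS.tri_move (one_mem _) (hK [15]) (hK [10, 13, 15]) (hK [10, 10]) h82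
  simp only [← ev_lapp, ← ev_winv] at h
  rw [eqL (v := lapp (winv [2]) [18]) (u := lapp (lapp (subst vs [15]) [18]) (winv (subst us [10, 13, 15])))
      (by decide +kernel),
    eqL (v := lapp (winv [30]) [2]) (u := lapp (lapp (subst vs [10, 13, 15]) [18]) (winv (subst us [10, 10])))
      (by decide +kernel), mul_eq_one_iff_eq_inv, ev_lapp, ev_lapp, ev_winv, ev_winv] at h
  rw [p1, ← mul_smul (ev g [2]), fixy]
  have e : (ev g [2] * g 4)⁻¹ * Y [18] * (ev g [2] * g 4) = (g 4 * g 4)⁻¹ *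
      (g 4 * ((ev g [2])⁻¹ * ev g [18]) * g 4 * ((ev g [30])⁻¹ * ev g [2]) * g 4) := by rw [Y]; group
  rw [e, h, mul_inv_eq_one.1 zz']
  exact mul_mem (inv_mem (memL (by decide +kernel))) (inv_mem (memL (by decide +kernel)))

theorem mt1 : ev g [12, 15] ∈ P1 := memP (by decide +kernel)
theorem t1_3 : ev g [12, 15] ^ 3 = 1 := pow1 (by decide +kernel)
theorem t1_ne : ev g [12, 15] ≠ 1 := neL 1 (by decide +kernel)

theorem claim {x d w : Ly} (hx : x ∈ N) (x3 : x ^ 3 = 1) (hd : d ∈ Q) (hc : Commute x d) (hw : w ∈ Q)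
    (hn : ¬ Commute d w) : ∃ ξ ∈ L, x • ξ = ξ := by
  have c12 : Commute (ev g [12, 15]) (Y [18]) := by
    have := (tconj (n := [18]) (u := [12, 15]) (V := [10, 13]) (by decide +kernel)).trans
      (eqL (v := [12, 15]) (by decide +kernel))
    rwa [mul_assoc, inv_mul_eq_iff_eq_mul] at this
  obtain ⟨m, hm, a, ha, b, hb, e⟩ := three (P1_le mt1).1 (YN (n := [18]) (by decide +kernel)) hx t1_3 t2_3 x3 c12 t1_ne
    (fun h => z_not (by
      have := zpowers_le.2 (P1_le mt1).2 h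
      rwa [Y, K.mul_mem_cancel_right (inv_mem (memL (by decide +kernel))),
        K.mul_mem_cancel_left (memL (by decide +kernel))] at this)) cardN
  have fin : ∀ ξ ∈ L, (a * b) • ξ = ξ → ∃ ξ ∈ L, x • ξ = ξ := fun ξ h1 h2 =>
    ⟨m • ξ, L_smul hm h1, by rwa [← e, mul_smul, mul_smul, inv_smul_eq_iff] at h2⟩
  have c' : Commute (a * b) (m⁻¹ * d * m) := by
    rw [← e]; simpa using hc.map (MulAut.conj m⁻¹)
  have n' : ¬ ∀ w ∈ Q, Commute (m⁻¹ * d * m) w := fun h => hn (by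
    simpa [mul_assoc] using (h _ (cN hm hw)).map (MulAut.conj m))
  have f1 := fp [12, 15, 18] [([1, 7, 1, 5, 7], [4, 7, 7, 4], 0), ([1, 1, 3, 3, 6, 6, 5, 5], [1], 4), ([3, 3], [2, 7, 7], 0),
    ([3, 5, 3], [1, 3, 5, 7, 5, 3], 3), ([8, 8], [8, 8], 3)] (by decide +kernel) (by decide +kernel) (by decide +kernel)
    (cN hm hd)
  have f2 := fp [14, 13, 18] [([1, 1, 3, 3, 4, 6], [2, 2], 2), ([4], [0, 0, 3, 3, 4, 6, 6, 4], 0), ([5, 6, 6, 5], [3, 4, 4, 6], 2),
    ([1, 2, 2, 7, 7, 1], [0, 4, 3, 4, 6], 0), ([8, 8], [8, 8], 3)] (by decide +kernel) (by decide +kernel)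
    (by decide +kernel) (cN hm hd)
  have y1 : Y [12, 15, 18] = ev g [12, 15] * Y [18] := by simp [Y, mul_assoc]
  have y2 : Y [14, 13, 18] = (ev g [12, 15])⁻¹ * Y [18] := by simp [Y, lv, mul_assoc]
  have hL : ev g [2] • p1 ∈ L := L_smul (mem_norm nb) L1
  rcases zpow3 t2_3 hb with rfl | hb
  · exact fin _ L0 (fix0.2 (by rw [mul_one]; exact zpowers_le.2 (P1_le mt1).2 ha))
  rcases zpow3 t1_3 ha with rfl | ha
  · refine fin _ hL ?_
    rw [one_mul]
    rcases hb with rfl | rfl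
    exacts [t2_fix, inv_smul_eq_iff.2 t2_fix.symm]
  refine absurd ?_ n'
  rcases ha with rfl | rfl <;> rcases hb with rfl | rfl
  · exact f1 (y1 ▸ c')
  · refine f2 (y2 ▸ ?_)
    have := c'.inv_left
    rwa [mul_inv_rev, inv_inv, ← c12.inv_left.eq] at this
  · exact f2 (y2 ▸ c')
  · refine f1 (y1 ▸ ?_)
    have := c'.inv_left
    rwa [mul_inv_rev, inv_inv, inv_inv, ← c12.eq] at this

section
variable (β : Ly ≃* Ly) (hS : ∀ x ∈ P5, β x ∈ K)
include hS

omit hS in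
theorem cl3' : ⁅⁅β (ev g [2]), β (ev g [20])⁆, β (ev g [2])⁆ ≠ 1 := by
  rw [← map_commutatorElement, ← map_commutatorElement]
  exact fun h => cl3 (β.injective (h.trans (map_one β).symm))

omit hS in
theorem fixn {X : Subgroup Ly} (hX : ∀ x ∈ X, β x ∈ K) {n : Ly} (hn : ∀ y ∈ X, n⁻¹ * y * n ∈ X) :
    ∀ x ∈ X.map β.toMonoidHom, x • β n • p0 = β n • p0 := by
  rintro _ ⟨x, hx, rfl⟩
  exact fixy.2 (by simpa using hX _ (hn x hx))

theorem m_e : β (ev g [10]) ∈ K :=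
  fix0.1 (UF (X := (grp g Q2W).map β.toMonoidHom) (by rintro _ ⟨x, hx, rfl⟩; exact hS x (Q2_le hx))
    ((pP5.to_le Q2_le).map _) ⟨_, mem_grp g (by decide), rfl⟩ ⟨_, mem_grp g (by decide), rfl⟩ (cl3' β)
    (fixn β (fun x hx => hS x (Q2_le hx)) ne2))

theorem m_a' (hQ' : ∀ x ∈ Q, β x ∈ Q) : β (ev g [0]) ∈ K := by
  by_contra ha
  have eQ : Q.map β.toMonoidHom = Q := eq_of_le_of_card_ge (by rintro _ ⟨x, hx, rfl⟩; exact hQ' x hx)
    (card_map_of_injective β.injective).ge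
  have hN : ∀ n ∈ N, β n ∈ N := fun n hn => mem_norm fun y hy => by
    obtain ⟨x, hx, rfl⟩ : y ∈ Q.map β.toMonoidHom := eQ.symm ▸ hy
    simpa using hQ' _ (cN hn hx)
  let R := P1.map β.toMonoidHom
  have hR : R ≤ N := by rintro _ ⟨x, hx, rfl⟩; exact hN x (P1_le hx).1
  have ma : β (ev g [0]) ∈ R := ⟨_, mem_grp g (by decide), rfl⟩
  obtain ⟨e, e5⟩ := orbT (X := P5.map β.toMonoidHom)
    (by rintro _ ⟨x, hx, rfl⟩; exact ⟨hN x (P1_le (P5_le hx)).1, hS x hx⟩) (pP5.map _) ⟨_, mb, rfl⟩ ⟨_, mc, rfl⟩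
    (cl3' β) (L_smul (hR ma) L0) fun h => ha (fix0.1 h)
  have h0 : p0 ∉ T := by
    rintro ⟨j, h⟩
    exact p10 ((eq_inv_smul_iff.2 h).trans (fix0.2 (inv_mem (pow_mem (memK 1 (by decide) (by decide)) _))))
  have eo : orbit R p0 = insert p0 T := Set.Subset.antisymm (by
    rintro _ ⟨x, rfl⟩
    exact or_iff_not_imp_left.2 (L_sub (L_smul (hR x.2) L0))) (by
    rintro ξ (rfl | h)
    · exact mem_orbit_self _
    · rw [← e] at h
      obtain ⟨s, rfl⟩ := h
      exact ⟨⟨s.1 * β (ev g [0]), mul_mem (map_mono P5_le s.2) ma⟩, mul_smul s.1 _ p0⟩)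
  have x3 : β (ev g [12, 15]) ^ 3 = 1 := by rw [← map_pow, t1_3, map_one]
  obtain ⟨ξ, hξ, hx⟩ := claim (hR ⟨_, mt1, rfl⟩) x3 (hQ' _ mQc) (Commute.map (by
    show ev g [12, 15] * ev g [20, 24] = ev g [20, 24] * ev g [12, 15]
    rw [← ev_lapp, ← ev_lapp]; exact eqL (by decide +kernel)) β) (hQ' _ (mQ (w := [20]) (by decide)))
    fun h => ncm (β.injective (by simpa using h.eq))
  obtain ⟨r, rfl⟩ : ξ ∈ orbit R p0 := eo ▸ or_iff_not_imp_left.2 (L_sub hξ)
  have h3 : 3 ∣ Nat.card (R ⊓ K : Subgroup Ly) := by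
    haveI : Fact (Nat.Prime 3) := ⟨by decide⟩
    have := (R ⊓ K).orderOf_dvd_natCard (x := r.1⁻¹ * β (ev g [12, 15]) * r.1)
      (mem_inf.2 ⟨mul_mem (mul_mem (inv_mem r.2) ⟨_, mt1, rfl⟩) r.2, fixy.1 hx⟩)
    rwa [orderOf_eq_prime (p := 3) (by
      rw [show r.1⁻¹ * β (ev g [12, 15]) * r.1 = MulAut.conj r.1⁻¹ (β (ev g [12, 15])) by simp, ← map_pow, x3, map_one])
      (fun h => t1_ne (β.injective (by simpa [mul_assoc] using congrArg (fun y => r.1 * y * r.1⁻¹) h)))] at this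
  have h6 := card_orb' R p0
  rw [eo, Set.ncard_insert_of_notMem h0 finT, e5, st0, card_map_of_injective β.injective] at h6
  exact cardNK (Dvd.dvd.trans (by rw [← h6]; omega) (card_dvd_of_le P1_le))

theorem m_a : β (ev g [0]) ∈ K := by
  rcases FX (X := Q.map β.toMonoidHom) (by rintro _ ⟨x, hx, rfl⟩; exact hS x (mem_sup_left hx)) (pQ.map _)
    (fixn β (fun x hx => hS x (mem_sup_left hx)) na) with h | h | ⟨-, k, hk, h⟩
  · exact fix0.1 h
  · exact absurd (β.injective (by simpa using h _ ⟨_, mQc, rfl⟩ _ ⟨_, mQ (w := [20]) (by decide), rfl⟩)) ncm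
  · have := m_a' (β.trans (MulAut.conj k⁻¹)) (fun x hx => by
      simpa using mul_mem (mul_mem (inv_mem hk) (hS x hx)) hk) fun x hx => by simpa using h _ ⟨x, hx, rfl⟩
    simpa [K.mul_mem_cancel_right hk, K.mul_mem_cancel_left (inv_mem hk)] using this

theorem m_K : ∀ y ∈ K, β y ∈ K := fun y hy => by
  have h1 : K ≤ grp g [[0], [2], [20], [22], [26], [28], [10]] := (grp_le_iff g).2 fun w hw => by
    obtain ⟨v, -, e⟩ := (by decide +kernel : ∀ w ∈ gens, ∃ v ∈ [[0], [2], [4], [0, 2, 2, 1, 3, 5, 9, 11, 0, 12, 0, 12, 0, 7, 2, 12]],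
      EL w (subst [[0], [2], [20], [22], [26], [28], [10]] v) = true) w hw
    exact eqL e ▸ subst_mem_grp _ _ _
  refine (grp_le_iff g (H := K.comap β.toMonoidHom)).2 (fun w hw => ?_) (h1 hy)
  simp only [List.mem_cons, List.not_mem_nil, or_false] at hw
  rcases hw with rfl | rfl | rfl | rfl | rfl | rfl | rfl
  exacts [m_a β hS, hS _ mb, hS _ mc, hS _ (mem_sup_left (mQ (by decide))), hS _ (mem_sup_left (mQ (by decide))),
    hS _ (mem_sup_left (mQ (by decide))), m_e β hS]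

end

theorem endgame (γ : Ly ≃* Ly) (h : ∀ y ∈ K, γ y = y) (x : Ly) : γ x = x := by
  have hu : ∀ V, ev g (subst us V) ∈ K := fun V => leK (by decide +kernel) (subst_mem_grp g us V)
  have hv : ∀ V, ev g (subst vs V) ∈ K := fun V => leK (by decide +kernel) (subst_mem_grp g vs V)
  have cj : ∀ y ∈ K, (g 4)⁻¹ * y * g 4 ∈ K → (γ (g 4))⁻¹ * y * γ (g 4) = (g 4)⁻¹ * y * g 4 := fun y hy hy' => by
    rw [← h _ hy', map_mul, map_mul, map_inv, h y hy]
  have hL : γ (g 4) • p0 ∈ L := fun y hy => fixy.2 (by rw [cj y (QK hy) (QK (nz y hy))]; exact QK (nz y hy))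
  have h1 := fixK1 (L_orb hL fun e => z_not (γ.injective (h _ (fix0.1 e)) ▸ fix0.1 e)) fun w hw => by
    obtain ⟨i, -, rfl⟩ := (by decide +kernel : ∀ w ∈ us, ∃ i < 8, subst us [2 * i] = w) w hw
    exact fixy.2 (by rw [cj _ (hu _) (hK _ ▸ hv _), hK]; exact hv _)
  have h2 : (g 4)⁻¹ * γ (g 4) = 1 := cenK (fix0.1 (by rw [mul_smul, h1, p1, inv_smul_smul])) fun V => by
    have := cj _ (hu V) (hK _ ▸ hv _)
    show _ * _ = _ * _
    conv_lhs => rw [← hK, ← this]
    rw [← hK]; group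
  have : grp g LyRel.gens ≤ γ.toMonoidHom.eqLocus (MonoidHom.id _) := (grp_le_iff _).2 fun w hw => by
    obtain ⟨i, hi, rfl⟩ := (by decide +kernel : ∀ w ∈ LyRel.gens, ∃ i < 39, [2 * i] = w) w hw
    rw [ev_gen]
    by_cases h4 : i = 4
    · subst h4; exact (inv_mul_eq_one.1 h2).symm
    · exact h _ (memK i hi h4)
  exact this (by rw [LyRel.enc.top _ (by decide +kernel)]; trivial)

theorem innerK (θ : K ≃* K) : ∃ x, ∀ y, θ y = x * y * x⁻¹ := by
  obtain ⟨F, _, _, hF, ⟨e0⟩⟩ := LyZ.iso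
  have e : K ≃* Cfsg.Lie.chevG2.group F := e0
  haveI : Fact (Nat.Prime 5) := ⟨by decide⟩
  haveI : CharP F 5 := charP_of_card_eq_prime hF
  have h := Cfsg.Agent.S2121.result (F := F) 5 1 hF (by decide)
  haveI := (Nat.card_eq_one_iff_unique.1 h).1
  obtain ⟨x, hx⟩ := (QuotientGroup.eq_one_iff (N := Cfsg.Inn _) (e.symm.trans (θ.trans e))).1 (Subsingleton.elim _ _)
  refine ⟨e.symm x, fun y => e.injective ?_⟩
  simpa using (MulEquiv.congr_fun hx (e y)).symm

theorem inner (α : Ly ≃* Ly) : ∃ x, ∀ y, α y = x * y * x⁻¹ := by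
  haveI : Fact (Nat.Prime 5) := ⟨by decide⟩
  obtain ⟨ξ, hξ⟩ := (pP5.map α.toMonoidHom).nonempty_fixed_point_of_prime_not_dvd_card (Ly ⧸ K)
    (by rw [← Subgroup.index, idx]; decide)
  obtain ⟨x, rfl⟩ := QuotientGroup.mk_surjective ξ
  have ex : (x : Ly ⧸ K) = x • p0 := congrArg _ (mul_one x).symm
  let β := α.trans (MulAut.conj x⁻¹)
  have hβ := m_K β fun y hy => by
    have : α y • (x : Ly ⧸ K) = x := hξ ⟨_, y, hy, rfl⟩
    rw [ex] at this
    simpa [β] using fixy.1 this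
  obtain ⟨k, hk⟩ := innerK (MulEquiv.ofBijective ((β.toMonoidHom.comp K.subtype).codRestrict K fun y => hβ y y.2)
    (Finite.injective_iff_bijective.1 fun a b h => Subtype.ext (β.injective (congrArg Subtype.val h))))
  refine ⟨x * k, fun y => ?_⟩
  have := endgame (β.trans (MulAut.conj k.1⁻¹)) (fun y hy => by
    have : β y = k * y * k.1⁻¹ := congrArg Subtype.val (hk ⟨y, hy⟩)
    simp [this, mul_assoc]) y
  simp only [β, MulEquiv.trans_apply, MulAut.conj_apply, inv_inv] at this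
  conv_rhs => rw [← this]
  group

end CA.LyU
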