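import Mathlib

/-! A simplicity criterion for a group of rank five and degree 8835156 over a simple subgroup. -/

set_option autoImplicit false

namespace CA.LyZ

theorem simple_of {G : Type*} [Group G] [Finite G] (H : Subgroup G) [IsSimpleGroup H] (hi : H.index = 8835156)
    (p : Fin 5 → G ⧸ H) (hp : ∀ ξ : G ⧸ H, ∃ i, ξ ∈ MulAction.orbit H (p i))
    (hn : ∀ i, Nat.card (MulAction.orbit H (p i)) = ![1, 19530, 968750, 2034375, 5812500] i)
    (hN : ∀ N : Subgroup G, N.Normal → H ≤ N → N = ⊤) : IsSimpleGroup G := by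
  classical
  have : Nontrivial G := H.subtype_injective.nontrivial
  refine ⟨fun N hNn => ?_⟩
  rcases (hNn.subgroupOf H).eq_bot_or_eq_top with h | h
  swap
  · exact .inr (hN N hNn (Subgroup.subgroupOf_eq_top.1 h))
  have hd : ∀ x ∈ N, x ∈ H → x = 1 := fun x hx hx' => by
    have : (⟨x, hx'⟩ : H) ∈ N.subgroupOf H := hx
    rw [h, Subgroup.mem_bot] at this
    exact congrArg Subtype.val this
  have inj : ∀ x y : N, ((x : G) : G ⧸ H) = (y : G) → x = y := fun x y e =>
    Subtype.ext (inv_mul_eq_one.1 (hd _ (N.mul_mem (N.inv_mem x.2) y.2) (QuotientGroup.eq.1 e)))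
  have cj : ∀ (k : H) (x : G), k • (x : G ⧸ H) = (((k : G) * x * (k : G)⁻¹ : G) : G ⧸ H) := fun k x => by
    show (((k : G) * x : G) : G ⧸ H) = _
    exact QuotientGroup.eq.2 (by simp [mul_assoc])
  choose f hf using hp
  have uq : ∀ ξ i, ξ ∈ MulAction.orbit H (p i) → f ξ = i := fun ξ i hξ => by
    have e : MulAction.orbit H (p (f ξ)) = MulAction.orbit H (p i) :=
      (MulAction.orbit_eq_iff.2 (hf ξ)).symm.trans (MulAction.orbit_eq_iff.2 hξ)
    have := hn (f ξ)
    rw [e, hn i] at this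
    exact ((by decide : ∀ i j : Fin 5, (![1, 19530, 968750, 2034375, 5812500] i : ℕ) =
      ![1, 19530, 968750, 2034375, 5812500] j → i = j) _ _ this).symm
  let F : N → Fin 5 := fun x => f ((x : G) : G ⧸ H)
  have cc : ∀ x : N, ∀ ξ ∈ MulAction.orbit H (p (F x)), ∃ k : H,
      ξ = (((k : G) * x * (k : G)⁻¹ : G) : G ⧸ H) := fun x ξ hξ => by
    rw [← MulAction.orbit_eq_iff.2 (hf ((x : G) : G ⧸ H))] at hξ
    obtain ⟨k, rfl⟩ := hξ
    exact ⟨k, cj k x⟩
  let b : Fin 5 → Bool := fun i => ∃ x, F x = i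
  have fib : ∀ i, Nat.card {x // F x = i} = if b i then ![1, 19530, 968750, 2034375, 5812500] i else 0 := fun i => by
    by_cases e : ∃ x, F x = i
    · rw [if_pos (decide_eq_true e), ← hn i]
      obtain ⟨x, rfl⟩ := e
      refine Nat.card_congr (Equiv.ofBijective (fun y => ⟨((y.1 : G) : G ⧸ H), by have := hf ((y.1 : G) : G ⧸ H); rwa [show f ((y.1 : G) : G ⧸ H) = F x from y.2] at this⟩) ⟨fun y z e => ?_, fun ξ => ?_⟩)
      · exact Subtype.ext (inj _ _ (congrArg Subtype.val e))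
      · obtain ⟨k, hk⟩ := cc x ξ.1 ξ.2
        exact ⟨⟨⟨_, hNn.conj_mem _ x.2 k⟩, uq _ _ (hk ▸ ξ.2)⟩, Subtype.ext hk.symm⟩
    · rw [if_neg (by simpa [b] using e)]
      have : IsEmpty {x // F x = i} := ⟨fun x => e ⟨x.1, x.2⟩⟩
      exact Nat.card_of_isEmpty
  have h1 : Nat.card N = ∑ i, if b i then ![1, 19530, 968750, 2034375, 5812500] i else 0 := by
    rw [← Nat.card_congr (Equiv.sigmaFiberEquiv F), Nat.card_sigma]
    exact Finset.sum_congr rfl fun i _ => fib i
  have h2 : Nat.card N ∣ 8835156 := by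
    have e1 : Nat.card H ∣ N.index := by
      have := Subgroup.card_dvd_of_injective ((QuotientGroup.mk' N).comp H.subtype)
        ((injective_iff_map_eq_one _).2 fun x hx => Subtype.ext (hd _ ((QuotientGroup.eq_one_iff _).1 hx) x.2))
      exact this
    obtain ⟨c, hc⟩ := e1
    have e2 := H.card_mul_index
    rw [← N.card_mul_index, hc, hi, mul_left_comm] at e2
    exact ⟨c, Nat.eq_of_mul_eq_mul_left Nat.card_pos e2⟩
  have h3 := (by decide +kernel : ∀ b : Fin 5 → Bool,
    (∑ i, if b i then ![1, 19530, 968750, 2034375, 5812500] i else 0) ∣ 8835156 →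
    (∑ i, if b i then ![1, 19530, 968750, 2034375, 5812500] i else 0) = 1 ∨
    (∑ i, if b i then ![1, 19530, 968750, 2034375, 5812500] i else 0) = 8835156) b (h1 ▸ h2)
  rw [← h1] at h3
  rcases h3 with h3 | h3
  · exact .inl (Subgroup.card_eq_one.1 h3)
  exfalso
  have ex : ∀ i : Fin 6, ∃ x : N, orderOf x = ![1, 2, 3, 11, 37, 67] i := fun i => by
    have k : ∀ q : ℕ, q.Prime → q ∣ 8835156 → ∃ x : N, orderOf x = q := fun q hq hq' =>
      haveI := Fact.mk hq
      exists_prime_orderOf_dvd_card' q (h3 ▸ hq')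
    fin_cases i
    exacts [⟨1, orderOf_one⟩, k 2 (by norm_num) (by norm_num), k 3 (by norm_num) (by norm_num),
      k 11 (by norm_num) (by norm_num), k 37 (by norm_num) (by norm_num), k 67 (by norm_num) (by norm_num)]
  choose x hx using ex
  obtain ⟨i, j, hij, e⟩ := Fintype.exists_ne_map_eq_of_card_lt (fun i => F (x i)) (by simp)
  obtain ⟨k, hk⟩ := cc (x j) _ (by rw [← show F (x i) = F (x j) from e]; exact hf ((x i : G) : G ⧸ H))
  have e1 : x i = ⟨_, hNn.conj_mem _ (x j).2 k⟩ := inj _ _ hk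
  have e2 : orderOf (x i) = orderOf (x j) := by
    rw [← Subgroup.orderOf_coe, ← Subgroup.orderOf_coe, e1]
    exact (MulAut.conj (k : G)).orderOf_eq (x j : G)
  rw [hx, hx] at e2
  exact hij ((by decide : ∀ i j : Fin 6, (![1, 2, 3, 11, 37, 67] i : ℕ) = ![1, 2, 3, 11, 37, 67] j → i = j) _ _ e2)

end CA.LyZ
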