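/-
Overgroups of small subgroups of the Mathieu groups: invariant sets of points, involutions, Sylow 11-subgroups.
-/
import Cfsg.Agent.Lib.Spor.M24Iso
import Cfsg.Agent.Lib.Spor.CGNorm
import Cfsg.Agent.S2062

set_option autoImplicit false

namespace CA.M24Max
open Cfsg CA.NatBits CA.OrbBfs CA.CGroup CA.CGConstr CA.CGParts CA.CGCert CA.CGRank CA.CGDec CA.Perm24 CA.Golay
open CA.M24Core CA.M24Sub CA.M24Tools MulAction
open scoped Pointwise
open CA.M24St2 CA.M24Syl CA.M24Cls CA.CGIso CA.CGLin2 CA.M24Iso CA.CGNorm CA.CGFus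
set_option maxRecDepth 100000

variable {H K : Subgroup M24} {l : List ℕ} {N : ℕ}

/-- the union of the masks -/
def orL : List (ℕ × ℕ) → ℕ
  | [] => 0
  | p :: l => Nat.lor p.2 (orL l)

theorem tb_orL {ys : List (ℕ × ℕ)} {i : ℕ} : tb (orL ys) i = true ↔ ∃ p ∈ ys, tb p.2 i = true := by
  induction ys with
  | nil => simp [orL, tb_eq]
  | cons p l ih =>
    rw [List.exists_mem_cons_iff, ← ih, tb_eq, tb_eq, tb_eq, ← Bool.or_eq_true, ← Nat.testBit_or]
    rfl

/-- the masks in `xs` cover all points and lie in the orbits of the given points -/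
noncomputable def uniOK (l : List ℕ) (xs : List (ℕ × ℕ)) : Bool :=
  allL xs (fun p => Nat.ble (Nat.succ p.1) 24 && orb ap8 l p.1 fun t _ => allLt 24 fun i => !(tb p.2 i) || t.mem i) &&
    allLt 24 (tb (orL xs))

theorem inv_mask (hl : mG.In l H) (xs : List (ℕ × ℕ)) (h : uniOK l xs = true) {Y : Finset GolayPt}
    (hY : H ≤ stabilizer M24 Y) : ∃ ys ∈ xs.sublists, Y = ds (orL ys) := by
  rw [uniOK, Bool.and_eq_true, allL_iff, allLt_iff] at h
  have h1 : ∀ p ∈ xs, ∀ q : GolayPt, tb p.2 (gix q) = true → (q ∈ Y ↔ gpt p.1 ∈ Y) := fun p hp q hq => by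
    have h2 := h.1 p hp
    rw [Bool.and_eq_true, blt_iff, ← mPt_act] at h2
    obtain ⟨t, n, h3, h4⟩ := orb_spec hl.ok (sPt' h2.1) h2.2
    have h5 := allLt_iff.1 h3 _ (gE.ix_lt q)
    rw [show gE.ix q = gix q from rfl, hq] at h5
    obtain ⟨g, hg, rfl⟩ := mem_orbit_sub.1 ((h4.mem_iff (sPt q)).2 h5)
    have h6 : g • Y = Y := hY (hl.gen_le hg)
    conv_lhs => rw [← h6]
    exact Finset.smul_mem_smul_finset_iff g
  refine ⟨xs.filter fun p => gpt p.1 ∈ Y, List.mem_sublists.2 List.filter_sublist, Finset.ext fun q => ?_⟩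
  rw [mem_ds', tb_orL]
  refine ⟨fun hq => ?_, fun ⟨p, hp, hq⟩ => ?_⟩
  · obtain ⟨p, hp, h2⟩ := tb_orL.1 (h.2 _ (gE.ix_lt q))
    exact ⟨p, List.mem_filter.2 ⟨hp, decide_eq_true ((h1 p hp q h2).1 hq)⟩, h2⟩
  · exact (h1 p (List.mem_filter.1 hp).1 q hq).2 (of_decide_eq_true (List.mem_filter.1 hp).2)

/-- the possible orbits of a point under an overgroup of known order -/
theorem orb_cases (hl : mG.In l H) (hN : Nat.card H = N) (xs : List (ℕ × ℕ)) (a : GolayPt) (i : ℕ)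
    (hi : ∀ q, gix q = i → q ∉ orbit H a) (ms : List ℕ)
    (h : (uniOK l xs && allL xs.sublists fun ys => force (orL ys) fun m => Nat.ble (Nat.succ m) (2 ^ 24) &&
      (!(tb m (gix a)) || (Nat.ble (Nat.succ i) 24 && tb m i) || !(Nat.beq (N % pc24 m) 0) ||
        anyL ms (Nat.beq m))) = true) : ∃ m ∈ ms, H ≤ stabilizer M24 (ds m) ∧ orbit H a = ds m := by
  rw [Bool.and_eq_true, allL_iff] at h
  have hY : H ≤ stabilizer M24 (Set.toFinite (orbit H a)).toFinset := fun g hg =>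
    Finset.eq_of_subset_of_card_le (fun y hy => by
      obtain ⟨z, hz, rfl⟩ := Finset.mem_smul_finset.1 hy
      rw [Set.Finite.mem_toFinset] at hz ⊢
      exact inv_orbit le_rfl a g hg z hz) (Finset.card_smul_finset g _).ge
  obtain ⟨ys, h1, h2⟩ := inv_mask hl xs h.1 hY
  have h3 : orbit H a = ds (orL ys) := by rw [← h2, Set.Finite.coe_toFinset]
  have h4 := h.2 ys h1
  rw [force_eq, Bool.and_eq_true, blt_iff] at h4
  simp only [Bool.or_eq_true, Bool.and_eq_true, blt_iff, anyL_iff, beq_iff, Bool.not_eq_true'] at h4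
  rcases h4.2 with ((h5 | h5) | h5) | ⟨m, hm, h5⟩
  · have h6 := mem_ds'.1 (Finset.mem_coe.1 (h3 ▸ mem_orbit_self a))
    rw [h5] at h6; cases h6
  · have h6 : gix (gpt i) = i := (sPt' h5.1).symm
    exact absurd (h3.ge (Finset.mem_coe.2 (mem_ds'.2 (h6.symm ▸ h5.2)))) (hi _ h6)
  · have h6 := Subgroup.relIndex_dvd_card (stabilizer M24 a) H
    rw [← ncard_orbit_eq_relIndex, h3, Set.ncard_coe_finset, card_ds h4.1, hN] at h6
    rw [beq_iff.2 (Nat.mod_eq_zero_of_dvd h6)] at h5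
    cases h5
  · exact ⟨m, hm, h5 ▸ h2 ▸ hY, h5 ▸ h3⟩

theorem no24 (a : GolayPt) : ∀ q, gix q = 24 → q ∉ orbit H a := fun q h => absurd (gE.ix_lt q) (by
  rw [show gE.ix q = gix q from rfl, h]; decide)

theorem no23 (hH : H ≤ stabilizer M24 (none : GolayPt)) (a : ZMod 23) : ∀ q, gix q = 23 → q ∉ orbit H (some a) :=
  fun q h hq => by
    obtain ⟨g, hg, rfl⟩ := mem_orbit_sub.1 hq
    have h1 : g • some a = g • none := (pt_eq (c := 23) h.symm).trans (hH hg).symm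
    cases smul_left_cancel g h1

theorem card_tr {n : ℕ} (hN : Nat.card H = 24 * n) (h : orbit H (none : GolayPt) = ds 16777215) :
    Nat.card ↥(H ⊓ stabilizer M24 (none : GolayPt)) = n :=
  card_stab_eq hN (by rw [h, Set.ncard_coe_finset, card_ds (by norm_num)]; decide +kernel) (by norm_num)

theorem exists_order {p : ℕ} (hp : p.Prime) (h : p ∣ Nat.card H) : ∃ g ∈ H, orderOf g = p := by
  have := Fact.mk hp
  obtain ⟨g, hg⟩ := exists_prime_orderOf_dvd_card' p h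
  exact ⟨g, g.2, (Subgroup.orderOf_coe g).trans hg⟩

/-- no element of order 7 fixes a 12-set -/
theorem no7 {s : Finset GolayPt} (hs : s.card = 12) (h : H ≤ stabilizer M24 s) : ¬ 7 ∣ Nat.card H := fun h7 => by
  obtain ⟨g, hg, ho⟩ := exists_order (by norm_num) h7
  obtain ⟨r, hr, k, -, rfl⟩ := cls7.of_order (by norm_num) (Subgroup.mem_top g) ho
  obtain ⟨h1, h2⟩ := (by decide +kernel : ∀ r ∈ [565587411654148890411261753127179844348567342767045017856,
    564344489347047102886337730077983985870698644935902822656], okM [r] = true ∧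
      uniOK [r] [(0, 1), (1, 2), (2, 3672836), (3, 118952), (4, 4596816), (23, 8388608)] = true) r hr
  have h3 : elt r ∈ stabilizer M24 (k⁻¹ • s) := by
    rw [mem_stabilizer_iff, smul_smul, eq_inv_smul_iff, smul_smul, ← mul_assoc]
    exact h hg
  obtain ⟨ys, h4, h5⟩ := inv_mask (in_cons (elt_R h1) h3 (fun _ h => absurd h List.not_mem_nil)) _ h2 le_rfl
  obtain ⟨h6, h8⟩ := (by decide +kernel : ∀ ys ∈ [(0, 1), (1, 2), (2, 3672836), (3, 118952), (4, 4596816),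
    (23, 8388608)].sublists, orL ys < 2 ^ 24 ∧ pc24 (orL ys) ≠ 12) ys h4
  exact h8 (by rw [← card_ds h6, ← h5, Finset.card_smul_finset, hs])

theorem cls_cov {p r : ℕ} {lB cs : List ℕ} (hK : St l K N) (hc : Cls K p [r]) (hp : 1 < p) (hB : mG.Ok lB)
    (h : (okM [r] && okM cs && covO cj24 l lB r cs) = true) {u : M24} (hu : u ∈ K) (ho : orderOf u = p) :
    ∃ c ∈ cs, mG.R c (elt c) ∧ ∃ b ∈ mG.gen lB, b * elt c * b⁻¹ = u := by
  rw [Bool.and_eq_true, Bool.and_eq_true, ← mCj_act] at h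
  obtain ⟨r', hr, k, hk, e⟩ := hc.of_order hp hu ho
  rw [List.mem_singleton.1 hr] at e
  obtain ⟨c, h1, h2⟩ := covO_spec hK.ok hB (sCj r h.1.1) (okCj h.1.2) h.2 (y := toCj u)
    (mem_orbit_sub.2 ⟨k, hK.gen.ge hk, e⟩)
  have h3 := elt_R' (ok_of h.1.2 c h1)
  exact ⟨c, h1, h3, h2 (toCj (elt c)) h3⟩

theorem big_of {lB : List ℕ} (hB : mG.In lB H) (L : List (ℕ × List (ℕ × List (List ℕ))))
    (h : allL L (fun q => lowM q.2 (q.1 :: lB) N) = true) {c : ℕ} (hc : c ∈ L.map Prod.fst) (hR : mG.R c (elt c))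
    {b : M24} (hb : b ∈ mG.gen lB) (hu : b * elt c * b⁻¹ ∈ H) : N ≤ Nat.card H := by
  obtain ⟨q, hq, rfl⟩ := List.mem_map.1 hc
  exact le_card_of_lowM (in_cons hR (((conjTo_of_mem (hB.gen_le hb)) _).1 hu) hB) _ (allL_iff.1 h q hq)

theorem uniq_fix {D : Type*} [Group D] [Finite D] {G : CG D} {X : Type*} [MulAction D X] {A : CAct G X}
    {P : Subgroup D} {l lP : List ℕ} (hl : G.Ok l) (hP : G.In lP P) {c : ℕ} {x : X} (hx : A.S c x)
    (h : uniqFix A.act l lP c = true) {g : D} (hg : g ∈ G.gen l)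
    (hy : ∀ a ∈ lP, ∀ u ∈ P, G.R a u → u • g • x = g • x) : g • x = x := by
  obtain ⟨t, n, h1, h2⟩ := orb_spec hl hx h
  obtain ⟨d, v, h3, h4⟩ := h2.forall h1 (x := g • x) (mem_orbit_sub.2 ⟨g, hg, rfl⟩)
  rw [Bool.or_eq_true, beq_iff, anyL_iff] at h4
  rcases h4 with rfl | ⟨a, ha, h4⟩
  · exact A.S_fun h3 hx
  obtain ⟨y, hy', h5⟩ := hP a ha
  have h6 := A.S_act h5 h3
  rw [hy a ha y hy' h5] at h6
  rw [beq_iff.2 (A.S_inj h6 h3)] at h4
  cases h4

/-- the stabiliser of two points -/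
abbrev K22 : Subgroup M24 := stabilizer M24 (none : GolayPt) ⊓ stabilizer M24 (some 0 : GolayPt)

/-- an element of order 11 -/
def c11 : ℕ := 565304915062338598708047418345708567974721582464642909696

/-- generators of `11:5` -/
def g55 : List ℕ := [c11, 564444771749146482317740530879913119408112366143318790656]

theorem in55 : mG.In g55 K22 :=
  inS mPt (inS0 mPt (ok_of (by decide +kernel)) (sPt none) (by decide +kernel)) (sPt (some 0)) (by decide +kernel)

theorem in11 : mG.In [c11] K22 := in_of_subset in55 (by decide +kernel)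

theorem nrm11 : Nat.card (mG.gen [c11]) = 11 ∧ ∀ g ∈ mG.gen g55, ∀ x ∈ mG.gen [c11], g * x * g⁻¹ ∈ mG.gen [c11] :=
  nrmOK_spec (cj := cj24) R_cj R_inj in11.ok (by decide +kernel)

theorem le55 : 55 ≤ Nat.card (mG.gen g55) :=
  le_card_of_lowM in55.ok.in_gen [(1, [[0, 3]]), (2, [])] (by decide +kernel)

theorem stC11 : St [564630712693615262354129390869051009753162628218334873856]
    (stabilizer M24 (ds D0) ⊓ stabilizer M24 (some 0 : GolayPt) ⊓ stabilizer M24 (none : GolayPt) ⊓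
      stabilizer M24 (toCj (elt c11))) 11 :=
  stabM mCj stL211 (sCj c11 (by decide +kernel)) 60 [[0, 2, 0, 3]] [(1, [])] (by decide +kernel)

theorem norm11 : Nat.card ↥(K22 ⊓ Subgroup.normalizer (mG.gen [c11] : Set M24)) ≤ 55 := by
  have h0 : mG.R c11 (elt c11) := elt_R (by decide +kernel)
  have h1 : K22 ⊓ Subgroup.normalizer (mG.gen [c11] : Set M24) ≤ mG.gen gL211 := fun g hg =>
    stL211.gen.ge ⟨⟨norm_le_stab (A := mSub) st22.ok st22.gen in11.ok.in_gen (sS (m := D0) (by decide))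
      (inS0 mSub in11.ok (sS (m := D0) (by decide)) (by decide +kernel)).gen_le (by decide +kernel) hg.1 hg.2,
      hg.1.2⟩, hg.1.1⟩
  have h2 := card_norm_le (cj := cj24) R_cj R_inj stL211.ok in11.ok h0 (CG.mem_gen List.mem_cons_self h0) h1
    inf_le_right 5 (by decide +kernel)
  have h3 := Subgroup.card_le_of_le (inf_le_inf_right (stabilizer M24 (toCj (elt c11))) (h1.trans stL211.gen.le))
  rw [stC11.card] at h3
  omega

theorem eq55 : mG.gen g55 = K22 ⊓ Subgroup.normalizer (mG.gen [c11] : Set M24) :=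
  Subgroup.eq_of_le_of_card_ge (le_inf in55.gen_le (le_normalizer_of nrm11.2)) (norm11.trans le55)

theorem card55 : Nat.card (mG.gen g55) = 55 := le_antisymm (eq55 ▸ norm11) le55

theorem syl11 (hH : H ≤ K22) (hx : mG.gen [c11] ≤ H) :
    ∃ n, n % 11 = 1 ∧ (Nat.card H = n * 11 ∨ Nat.card H = n * 55 ∧ mG.gen g55 ≤ H) := by
  have := Fact.mk (by norm_num : Nat.Prime 11)
  obtain ⟨n, h1, h2⟩ := sylow_count (p := 11) (a := 1) hx nrm11.1 fun h => by
    have h3 := h.trans (Subgroup.card_dvd_of_le hH)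
    rw [st22.card] at h3
    exact absurd h3 (by decide)
  rw [← inf_eq_left.2 hH, inf_assoc, ← eq55, inf_eq_left.2 hH] at h2
  have h3 := Subgroup.card_dvd_of_le (inf_le_right : H ⊓ mG.gen g55 ≤ _)
  have h4 := Subgroup.card_dvd_of_le (le_inf hx (CG.gen_mono fun c hc => List.mem_singleton.1 hc ▸ List.mem_cons_self) :
    mG.gen [c11] ≤ H ⊓ mG.gen g55)
  rw [card55] at h3
  rw [nrm11.1] at h4
  rcases (by decide : ∀ m ∈ Nat.divisors 55, 11 ∣ m → m = 11 ∨ m = 55) _ (Nat.mem_divisors.2 ⟨h3, by norm_num⟩) h4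
    with h5 | h5
  · exact ⟨n, h1, Or.inl (h5 ▸ h2)⟩
  · exact ⟨n, h1, Or.inr ⟨h5 ▸ h2, (Subgroup.eq_of_le_of_card_ge inf_le_right (by rw [h5, card55])).ge.trans inf_le_left⟩⟩

/-- involutions that generate `M22` together with `11:5` -/
def inv55 : List (ℕ × List (ℕ × List (List ℕ))) := [(565881867759151152007409359652478653701936361297368187136, [(1, [[5, 2, 1, 3, 0, 4, 4, 1, 4, 0], [2, 2, 4, 4, 0]]), (2, [[3, 0, 2, 2], [1, 2, 0, 2, 0, 3, 1]]), (3, [[0, 3, 0, 2, 0], [2, 1, 2, 2, 2], [3, 0, 3, 3, 0, 2, 1]]), (4, [])]), (565301178020091299866585972641782000325402515447806361856, [(1, [[2, 1, 4, 4, 3, 0, 4, 4, 1, 4, 0], [2, 2, 4, 4, 0]]), (2, [[3, 1, 1, 3, 0, 3], [1, 3, 3, 3]]), (3, [[1, 1, 3, 1, 1, 3, 3, 1, 3], [0, 0, 2, 0, 0, 0, 3], [2, 0, 3, 1, 3, 3, 0, 3]]), (4, [])]), (565112980516672242241616392226268253686027038851217035776, [(1, [[1, 5, 1, 3, 0, 4, 4, 1, 4, 0], [1, 5, 2, 2, 4, 4, 0]]), (2, [[0, 3, 3, 1, 3, 1],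 [2, 0, 3]]), (3, [[3, 3, 0, 2, 2, 1], [3, 0, 3, 1, 1, 3, 3, 0], [1, 2, 1, 1, 2, 1]]), (4, [])]), (565876255592998041372793125584328947715956122994299961856, [(1, [[3, 1, 3, 3, 0, 4, 4, 1, 4, 0], [4, 4, 0]]), (2, [[1, 2, 1, 2, 0, 3], [1, 3, 0, 2, 2]]), (3, [[3, 0, 2, 2, 2, 1, 2, 2, 2], [3, 1, 3, 1, 3, 3, 0, 2, 1], [3, 1, 3, 1, 2, 0, 0, 3, 3, 1, 2, 2]]), (4, [])]), (565786066344241424116012400136157368031537700771537227776, [(1, [[2, 2, 1, 4, 3, 0, 4, 4, 1, 4, 0], [5, 2, 2, 4, 4, 0]]), (2, [[1, 2, 1, 2, 2, 0, 3, 0], [1, 3, 1, 3, 1, 3, 3]]), (3, [[2, 1, 2, 2, 2], [0, 3, 3, 3, 0, 2, 1], [0, 3, 3, 1, 2, 2]]), (4, [])]), (564154065908438015926070400563538298631973368420078324736, [(1, [[3, 3, 0, 4, 4, 1, 4, 0], [1, 4, 2, 2, 2, 4, 4, 0]]), (2, [[1, 1, 3, 0, 3, 0], [2, 1, 1, 2, 1, 3]]), (3, [[3, 1, 2, 1, 2, 2, 1], [3, 0, 3, 1], [3, 3, 1, 2, 0]]), (4, [])]), (565395450721705253490690747638442773801865583644672005376, [(1,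 [[4, 4, 1, 4, 0], [1, 5, 2, 2, 4, 4, 0]]), (2, [[1, 1, 2, 0, 2], [2, 2, 1, 2, 2, 0, 2, 0]]), (3, [[0, 2, 1, 1, 3, 0], [2, 1, 1, 3, 1, 3, 0], [1, 3, 1, 2]]), (4, [])]), (565493100930746217593775845796087453854753037308895630336, [(1, [[1, 4, 3, 0, 4, 4, 1, 4, 0], [1, 2, 4, 2, 2, 4, 4, 0]]), (2, [[3, 3, 0, 2, 2], [0, 2, 0, 3, 1]]), (3, [[2, 0, 3, 1, 3, 0, 3, 1, 2, 1], [2, 0, 3, 0, 0, 2, 1, 2, 2], [0, 2, 0, 0, 3, 1, 2, 1, 2, 2, 0]]), (4, [])]), (565879248731245927956292562739884208215407326264647878656, [(1, [[2, 5, 0, 3, 3], [5, 2, 2, 4, 2, 5, 0]]), (2, [[3, 0, 3, 1, 3, 3, 3, 1, 1], [1, 3, 3, 1]]), (3, [[0, 2, 1, 2, 1, 2, 2, 0, 3], [1, 1, 3, 3, 0, 0], [3, 0, 3, 0, 3, 1, 3, 3]]), (4, [])]), (564349366372612615547079956893383454973201469922930131456, [(1, [[3, 1, 3, 3, 3, 0, 4, 4, 1, 4, 0], [4, 4, 0]]), (2, [[0, 3, 0, 3, 3, 3, 1], [1, 2, 1, 3]]), (3, [[1, 3, 1, 1], [3, 1, 2, 1, 2, 2, 1], [0, 3, 0, 3, 1]]), (4, [])]),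 (566073420932705399889757679658042038711670684726873163776, [(1, [[5, 2, 1, 3, 0, 4, 4, 1, 4, 0], [2, 4, 4, 0]]), (2, [[0, 3, 0, 3, 0], [2, 1, 2, 2, 1, 3]]), (3, [[1, 3, 0, 2, 2, 2], [2, 1, 2, 0, 2], [0, 2, 1, 2, 1]]), (4, [])]), (566073426761539678171956730198902516024837946583648702976, [(1, [[0, 4, 4, 1, 4, 0], [1, 5, 2, 2, 4, 4, 0]]), (2, [[3, 0, 3, 3, 1, 3, 0, 3], [3, 3, 0, 2, 0]]), (3, [[3, 1, 3, 1, 2, 2, 2, 1, 1], [2, 1, 1, 3, 3, 0, 3], [0, 2, 1, 2, 2]]), (4, [])]), (565019827257116105679340193217233488049255871431770768896, [(1, [[5, 3, 0, 4, 4, 1, 4, 0], [5, 2, 4, 4, 0]]), (2, [[1, 2, 2, 2, 1, 1], [2, 0, 2]]), (3, [[0, 3, 0, 2, 1, 2], [1, 2, 0, 3, 3, 0], [3, 1, 1]]), (4, [])]), (566071164340213064039518177214983117521825823367454917376, [(1, [[1, 4, 2, 0, 0, 2, 0, 4], [3, 3, 0]]), (2, [[3, 1, 1, 3, 3, 3, 1], [1, 2, 1, 3]]), (3, [[2, 1, 1, 1, 3, 1, 1], [2, 1, 2, 1, 2, 2, 1], [0, 3, 0, 0, 3, 1]]), (4, [])]),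 (565498733643556241324379347608806389153882132819233341696, [(1, [[5, 0, 4, 4, 1, 4, 0], [2, 2, 4, 4, 0]]), (2, [[2, 2, 1, 1], [3, 1, 3, 0, 2]]), (3, [[0, 2, 1, 2, 1], [1, 3, 3, 0, 0], [2, 2, 2, 1, 3, 0, 2, 2, 2]]), (4, [])]), (564824522477122282883186195585858517194667282414449266176, [(1, [[1, 4, 0, 4, 4, 1, 4, 0], [1, 2, 4, 4, 0]]), (2, [[0, 3, 0, 3, 0], [0, 3, 1, 2, 1, 3]]), (3, [[1, 1, 2, 1], [1, 3, 0, 2], [1, 1, 3, 0, 2, 2]]), (4, [])]), (566070794608910931975744355139998430519385024445091548416, [(1, [[3, 5, 3, 0, 4, 4, 1, 4, 0], [3, 5, 2, 2, 4, 4, 0]]), (2, [[0, 2, 1, 1], [0, 3, 0, 2]]), (3, [[3, 3, 1, 1, 2], [1, 3, 1, 1], [0, 3, 1, 2, 1, 3, 0]]), (4, [])]), (566072280859066901721304961890659035693689902263983608576, [(1, [[5, 5, 0, 3, 3], [1, 2, 5, 0]]), (2, [[2, 1, 1, 1], [3, 1, 1, 3, 1, 2]]), (3, [[2, 2, 2, 1, 3, 1], [0, 0], [3, 0, 0, 2, 0]]), (4, [])]), (566069685266079393398123159788512138930056243670609167616,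 [(1, [[2, 0, 3, 3], [1, 3, 4, 4, 2, 5, 0]]), (2, [[0, 2, 2, 2, 1, 1], [1, 2]]), (3, [[1, 3, 0, 0, 3, 0, 2, 0, 2, 0], [0, 2, 1, 2, 1, 2, 2], [2, 2, 0, 2, 1, 2, 0]]), (4, [])]), (565399569250201788234129054762078219177298903141007360256, [(1, [[3, 1, 3, 0, 4, 4, 1, 4, 0], [2, 2, 4, 4, 0]]), (2, [[0, 3, 0, 3, 3, 3, 1], [0, 3, 1, 3]]), (3, [[0, 3, 3, 3, 3, 3, 1, 2, 1], [1, 3, 1, 1, 1, 3, 0], [1, 3, 0, 3, 1, 2, 2, 0, 3]]), (4, [])])]

/-- an involution in `L2(11)` -/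
def tl : ℕ := 566068184372450602880281090026750644064842678563806183936

theorem cov55 {u : M24} (hu : u ∈ K22) (ho : orderOf u = 2) :
    ∃ c ∈ tl :: inv55.map Prod.fst, mG.R c (elt c) ∧ ∃ b ∈ mG.gen g55, b * elt c * b⁻¹ = u :=
  cls_cov st22 Cfsg.Agent.S2062.clsB (by norm_num) in55.ok (by decide +kernel) hu ho

theorem over55 (hH : H ≤ K22) (hB : mG.gen g55 ≤ H) (h2 : 2 ∣ Nat.card H) :
    Nat.card H ≤ 660 ∨ 36961 ≤ Nat.card H := by
  refine or_iff_not_imp_right.2 fun h0 => ?_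
  have hB' := in55.ok.in_gen.mono hB
  have h1 : ∀ u ∈ H, orderOf u = 2 → ∃ b ∈ mG.gen g55, b * elt tl * b⁻¹ = u := fun u hu ho => by
    obtain ⟨c, h3, h4, b, hb, rfl⟩ := cov55 (hH hu) ho
    rcases List.mem_cons.1 h3 with rfl | h3
    · exact ⟨b, hb, rfl⟩
    · exact absurd (big_of hB' inv55 (by decide +kernel) h3 h4 hb hu) h0
  have h3 : mG.In (tl :: g55) (stabilizer M24 (ds D0)) :=
    inS0 mSub (ok_of (by decide +kernel)) (sS (m := D0) (by decide)) (by decide +kernel)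
  have h4 : ∀ u ∈ H, orderOf u = 2 → u ∈ stabilizer M24 (ds D0) := fun u hu ho => by
    obtain ⟨b, hb, rfl⟩ := h1 u hu ho
    have h5 := (in_of_subset (l := g55) h3 (by decide +kernel)).gen_le hb
    exact mul_mem (mul_mem h5 (elt_mem (in_of_subset h3 (by decide +kernel)))) (inv_mem h5)
  obtain ⟨u, hu, ho⟩ := exists_order Nat.prime_two h2
  obtain ⟨b, hb, rfl⟩ := h1 u hu ho
  have h5 : mG.In [566068184372450602880281090026750644064842678563806183936, 565019463388836171544282210455278000650214024247559454976, 565593764875761634908082980470402013732377901714284871936] H :=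
    in_of_wordsM (in_cons (elt_R (c := tl) (by decide +kernel)) (((conjTo_of_mem (hB hb)) _).1 hu) hB')
      (ws := [[0], [2, 0, 3], [3, 0, 2]]) (by decide +kernel)
  refine stL211.card ▸ Subgroup.card_le_of_le fun g hg => ⟨⟨uniq_fix (A := mSub) st22.ok h5
    (sS (m := D0) (by decide)) (by decide +kernel) (st22.gen.ge (hH hg)) fun a ha v hv h6 => ?_, (hH hg).2⟩, (hH hg).1⟩
  rw [← smul_conj]
  refine h4 _ (mul_mem (mul_mem (inv_mem hg) hv) hg) ?_
  rw [← orderOf_R h6 Nat.prime_two ((by decide +kernel : ∀ a ∈ [566068184372450602880281090026750644064842678563806183936, 565019463388836171544282210455278000650214024247559454976, 565593764875761634908082980470402013732377901714284871936],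
    (Nat.beq (powC mul24 id24 a 2) id24 && !(Nat.beq a id24)) = true) a ha)]
  exact (MulAut.conj g⁻¹).orderOf_eq v ▸ by rw [MulAut.conj_apply, inv_inv]

/-- orders of subgroups of `M22` containing an element of order 11 -/
theorem not_card (hH : H ≤ K22) (hx : mG.gen [c11] ≤ H) :
    Nat.card H ≠ 7920 ∧ Nat.card H ≠ 2112 ∧ Nat.card H ≠ 36960 := by
  obtain ⟨n, h1, h2 | ⟨h2, h3⟩⟩ := syl11 hH hx
  · omega
  · have h4 := over55 hH h3
    omega

/-- generators -/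
def gR : List ℕ := [565495734567913874606488363068178918852034056347321500421, 565015322954831418920660224206295156867799080990018764801, 565209524392076269136299193883701136504430301807699428611]

theorem stR : St gR (P24 ⊓ stabilizer M24 (none : GolayPt)) 128 :=
  stabM mPt st24c3 (sPt (none)) 8
    [[0, 3], [6, 5, 5], [4, 2, 0]] [(4, [[0, 5, 0, 3, 3], [5, 5, 2, 4, 2, 5, 0]]), (8, [])] (by decide +kernel)

/-- generators -/
def gX16 : List ℕ := [565113736090382272839229703410646810144315114598825263106, 564919555114226891567136704257452400480871964265324544526]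

theorem stX16 : St gX16 (stabilizer M24 (none : GolayPt) ⊓ stabilizer M24 (ds 8241104)) 40320 :=
  stabM mSub st23 (sS (m := 8241104) (by decide)) 253
    [[1, 2, 1, 2, 0, 2, 2, 2, 1, 3], [2, 1, 3, 0, 0, 3, 1, 1]] [(4, [[2, 0, 2], [0, 2, 2, 1, 2]]), (6, [[1, 3, 3], [2, 1]]), (7, [[1, 2, 0, 2], [1, 3, 1, 2, 1]]), (8, [])] (by decide +kernel)

/-- generators -/
def gX20 : List ℕ := [564536790718496090112076214071274766550517979932784725001, 564725007375176979985436199404565619970533409474648870151]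

theorem stX20 : St gX20 (stabilizer M24 (none : GolayPt) ⊓ stabilizer M24 (ds 8241147)) 5760 :=
  stabM mSub st23 (sS (m := 8241147) (by decide)) 1771
    [[2, 2, 2, 0, 0, 2, 2, 2, 1, 1, 3, 3, 3, 0], [3, 1, 2, 2, 1, 1, 2, 2, 0, 3]] [(0, [[3, 1, 2, 1, 3, 0], [1, 1, 1, 2, 2], [1, 1, 1, 3, 1, 2]]), (4, [[4, 4, 0, 3, 1, 1], [1, 5, 2, 2], [3, 4, 0, 3]]), (7, [[0, 5, 0, 5, 2, 1, 2, 2]]), (1, [])] (by decide +kernel)

/-- generators -/
def gX21 : List ℕ := [565875127331039397112683854753531637634998673331895342336, 564054156200828675672604026177368626715484582085026779911]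

theorem stX21 : St gX21 (stabilizer M24 (none : GolayPt) ⊓ stabilizer M24 (ds 8241151)) 40320 :=
  stabM mSub st23 (sS (m := 8241151) (by decide)) 253
    [[1, 3, 0, 3, 0, 3, 1, 2, 1, 1, 2, 2], [3, 3, 0, 3, 1, 3]] [(0, [[2, 2, 2, 2, 0], [3, 1, 2, 2, 2, 0, 3]]), (1, [[0, 2, 0], [3, 3, 0, 3, 0, 3]]), (4, [[1, 2, 0, 0, 3, 1, 1], [0, 3, 0, 2]]), (6, [])] (by decide +kernel)

/-- generators -/
def gY : List ℕ := [564347122921682078265862319868969227194346756697036558606, 565208014678100300641465571004666972257374146783613160961]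

theorem stY : St gY (stabilizer M24 (none : GolayPt) ⊓ stabilizer M24 (ds 8241104) ⊓ stabilizer M24 (ds 4)) 5760 :=
  stabM mSub stX16 (sS (m := 4) (by decide)) 7
    [[0, 0, 2], [0, 2, 1, 2]] [(4, [[1, 3, 0, 3, 3, 1], [2, 0, 2, 1, 1]]), (6, [[0, 0, 2], [2, 0, 3]]), (7, [[1, 2, 2]]), (0, [])] (by decide +kernel)

theorem stXO : St gX16 (stabilizer M24 (none : GolayPt) ⊓ stabilizer M24 (ds O0)) 40320 :=
  stabM mSub st23 (sS (m := O0) (by decide)) 253
    [[1, 2, 1, 2, 0, 2, 2, 2, 1, 3], [2, 1, 3, 0, 0, 3, 1, 1]] [(4, [[2, 0, 2], [0, 2, 2, 1, 2]]), (6, [[1, 3, 3], [2, 1]]), (7, [[1, 2, 0, 2], [1, 3, 1, 2, 1]]), (8, [])] (by decide +kernel)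

theorem stXD : St gX21 (stabilizer M24 (none : GolayPt) ⊓ stabilizer M24 (ds 147456)) 40320 :=
  stabM mSub st23 (sS (m := 147456) (by decide)) 253
    [[1, 3, 0, 3, 0, 3, 1, 2, 1, 1, 2, 2], [3, 3, 0, 3, 1, 3]] [(0, [[2, 2, 2, 2, 0], [3, 1, 2, 2, 2, 0, 3]]), (1, [[0, 2, 0], [3, 3, 0, 3, 0, 3]]), (4, [[1, 2, 0, 0, 3, 1, 1], [0, 3, 0, 2]]), (6, [])] (by decide +kernel)

theorem cardM {X : Type*} [MulAction M24 X] (A : CAct mG X) {c : ℕ} {x : X} (hK : St l K N) (hx : A.S c x) (n m : ℕ)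
    (h : (Nat.beq N (n * m) && orb A.act l c fun _ k => Nat.beq k n) = true) :
    Nat.card ↥(K ⊓ stabilizer M24 x) = m := by
  rw [Bool.and_eq_true, beq_iff] at h
  have h1 := orb_ncard hK.ok hx h.2
  rw [hK.gen] at h1
  exact card_stab_eq (hK.card.trans h.1) h1 (h1 ▸ (Set.ncard_pos (Set.finite_range _)).2 ⟨x, mem_orbit_self x⟩)

theorem card18 : Nat.card ↥(stabilizer M24 (none : GolayPt) ⊓ stabilizer M24 (ds 8388560)) = 1920 :=
  cardM mSub st23 (sS (m := 8388560) (by decide)) 5313 1920 (by decide +kernel)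

theorem eq_of_St (hK : St l K N) (h : H ≤ K) (hN : Nat.card H = N) : H = K :=
  Subgroup.eq_of_le_of_card_ge h (hK.card.trans hN.symm).le

theorem in_of_index {p : ℕ} (hp : p.Prime) (hHK : H ≤ K) (h : Nat.card K < p * Nat.card H) (hl : mG.In l K)
    (h' : allL l (fun c => Nat.beq (powC mul24 id24 c p) id24) = true) : mG.In l H := fun c hc => by
  obtain ⟨g, hg, h1⟩ := hl c hc
  exact ⟨g, mem_of_index_lt hp hHK h hg ((R_eq_iff (R_pow h1 p) R_one).2 (beq_iff.1 (allL_iff.1 h' c hc))), h1⟩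

/-- the orbits of a Sylow 2-subgroup of `M23` -/
def xsR : List (ℕ × ℕ) := [(0, 43), (2, 4), (4, 8241104), (14, 147456), (23, 8388608)]

theorem c40320 (hK : H ≤ stabilizer M24 (none : GolayPt)) (hR : mG.In gR H) (hN : Nat.card H = 40320) :
    H = mG.gen gX16 ∨ H = mG.gen gX21 := by
  obtain ⟨m, hm, h1, -⟩ := orb_cases hR hN xsR (some 4) 23 (no23 hK 4) [8241104, 8388560, 8241147, 8241151]
    (by decide +kernel)
  have h2 := le_inf hK h1
  have h3 := Subgroup.card_le_of_le h2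
  simp only [List.mem_cons, List.not_mem_nil, or_false] at hm
  rcases hm with rfl | rfl | rfl | rfl
  · exact Or.inl ((eq_of_St stX16 h2 hN).trans stX16.gen.symm)
  · rw [card18] at h3; omega
  · rw [stX20.card] at h3; omega
  · exact Or.inr ((eq_of_St stX21 h2 hN).trans stX21.gen.symm)

theorem c13440 (hK : H ≤ stabilizer M24 (none : GolayPt)) (hR : mG.In gR H) : Nat.card H ≠ 13440 := fun hN => by
  obtain ⟨m, hm, h1, -⟩ := orb_cases hR hN xsR (some 4) 23 (no23 hK 4) [8241104, 8241147, 8241151]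
    (by decide +kernel)
  have h2 := le_inf hK h1
  have h3 := Subgroup.card_le_of_le h2
  simp only [List.mem_cons, List.not_mem_nil, or_false] at hm
  rcases hm with rfl | rfl | rfl
  · have h4 := le_card_of_lowM (in_of_index (p := 7) (by norm_num) h2 (by rw [stX16.card]; omega)
      (in_of_wordsM (l' := [565016461504367909161879818531628729434775428722610671121, 564345627794378754535088712446465463070130907759834763521]) stX16.inn
        (ws := [[0, 0, 3, 1], [3, 0]]) (by decide +kernel)) (by decide +kernel))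
      [(4, [[1, 1, 1], [2, 1, 2, 2, 2, 0, 2]]), (6, [[1, 3, 0, 2, 0, 3], [0, 0, 2, 2, 1]]), (7, [[1, 3, 3, 3, 3, 3], [1, 1, 2, 1, 2, 0]]), (8, [])] (N := 40320) (by decide +kernel)
    omega
  · rw [stX20.card] at h3; omega
  · have h4 := le_card_of_lowM (in_of_index (p := 7) (by norm_num) h2 (by rw [stX21.card]; omega)
      (in_of_wordsM (l' := [564631822002036407406431959324829958701746741915452183306, 565683556539406264942409411515800497467695421467625199106]) stX21.inn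
        (ws := [[3, 0, 3], [1, 2, 2]]) (by decide +kernel)) (by decide +kernel))
      [(0, [[1, 3, 3, 1, 1, 1], [0, 2, 0, 2]]), (1, [[1, 2, 0, 2, 0, 3, 1, 3, 3], [3, 3, 1, 2, 2], [0, 3, 0, 2, 0, 0, 3, 3]]), (4, [[3, 1, 1, 4, 3, 1, 5]]), (2, [])] (N := 20160) (by decide +kernel)
    omega

theorem c5760 (hK : H ≤ stabilizer M24 (none : GolayPt)) (hR : mG.In gR H) (hN : Nat.card H = 5760) :
    H = mG.gen gX20 ∨ H = mG.gen gY := by
  obtain ⟨m, hm, h1, -⟩ := orb_cases hR hN xsR (some 4) 23 (no23 hK 4) [8241104, 8388560, 8241147]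
    (by decide +kernel)
  have h2 := le_inf hK h1
  have h3 := Subgroup.card_le_of_le h2
  simp only [List.mem_cons, List.not_mem_nil, or_false] at hm
  rcases hm with rfl | rfl | rfl
  · obtain ⟨m, hm, h4, -⟩ := orb_cases hR hN xsR (some 2) 23 (no23 hK 2) [4, 147460, 47] (by decide +kernel)
    have h5 := le_inf h2 h4
    have h6 := Subgroup.card_le_of_le h5
    simp only [List.mem_cons, List.not_mem_nil, or_false] at hm
    rcases hm with rfl | rfl | rfl
    · exact Or.inr ((eq_of_St stY h5 hN).trans stY.gen.symm)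
    · rw [cardM mSub stX16 (sS (m := 147460) (by decide)) 35 1152 (by decide +kernel)] at h6; omega
    · rw [cardM mSub stX16 (sS (m := 47) (by decide)) 21 1920 (by decide +kernel)] at h6; omega
  · rw [card18] at h3; omega
  · exact Or.inl ((eq_of_St stX20 h2 hN).trans stX20.gen.symm)

section
variable {D : Type*} [Group D] {X : Type*} [MulAction D X]

theorem conj_trans {g k : D} {A B C : Subgroup D} (h : ConjTo g A B) (h' : ConjTo k B C) : ConjTo (k * g) A C :=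
  fun x => by rw [← h, ← h', mul_inv_rev]; simp only [mul_assoc]

theorem eq_of_conj {g : D} {A B A' : Subgroup D} (h : ConjTo g A B) (h' : ConjTo g A' B) : A = A' :=
  Subgroup.ext fun x => (h x).symm.trans (h' x)

theorem conj_inv_stab (g : D) (x : X) : ConjTo g (stabilizer D (g⁻¹ • x)) (stabilizer D x) := by
  simpa only [smul_inv_smul] using conjTo_stabilizer g (g⁻¹ • x)

theorem sub_conj [Finite D] {K K' P : Subgroup D} {g : D} (hc : ConjTo g K K') {H : Subgroup D} (hH : H ≤ K) {p a m : ℕ}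
    (hp : p.Prime) (hPK : P ≤ K') (hP : Nat.card P = p ^ a) (hK : Nat.card K' = p ^ a * m) (hm : ¬ p ∣ m)
    (h : p ^ a ∣ Nat.card H) : ∃ k ∈ K', ∃ H' ≤ K', ConjTo (k * g) H H' ∧ P ≤ H' ∧ Nat.card H' = Nat.card H := by
  have h1 : ConjTo g H (H.map (MulAut.conj g).toMonoidHom) := fun x =>
    Subgroup.mem_map_iff_mem (MulAut.conj g).injective
  obtain ⟨k, hk, H', h2, h3, h4⟩ := exists_conj_ge hp hPK hP hK hm (H := H.map (MulAut.conj g).toMonoidHom)
    (hc.map_eq ▸ Subgroup.map_mono hH) (h1.card_eq ▸ h)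
  exact ⟨k, hk, H', h2, conj_trans h1 h3, h4, (conj_trans h1 h3).card_eq⟩

theorem card_of_index [Finite D] {K : Subgroup D} (H : Subgroup K) {i n : ℕ} (hi : H.index = i)
    (hK : Nat.card K = i * n) (h0 : 0 < i) : Nat.card (H.map K.subtype) = n := by
  rw [Subgroup.card_map_of_injective K.subtype_injective]
  have h1 := H.index_mul_card
  rw [hi, hK] at h1
  exact Nat.eq_of_mul_eq_mul_left h0 h1

end

end CA.M24Max
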