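/-
Invariant subspaces of the permutation module of `M24`.
-/
import Cfsg.Agent.Lib.Spor.M24Iso
import Cfsg.Agent.Lib.Spor.GolayUniq

set_option autoImplicit false
set_option maxRecDepth 100000

namespace CA.M24Mod
open Cfsg CA.NatBits CA.OrbBfs CA.CGroup CA.CGConstr CA.CGParts CA.CGCert CA.CGRank CA.CGDec CA.Perm24 CA.Golay
open CA.M24Core CA.M24Sub CA.M24Tools MulAction
open scoped Pointwise symmDiff

theorem supp_smul (σ : Equiv.Perm GolayPt) (w : GolayPt → ZMod 2) :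
    support₂ (fun p => w (σ.symm p)) = σ • support₂ w := by
  ext p
  rw [mem_support, ← Finset.inv_smul_mem_iff, mem_support]
  rfl

theorem supp_sub (v w : GolayPt → ZMod 2) : support₂ (v - w) = support₂ v ∆ support₂ w := by
  rw [← support_add]
  congr 1
  ext p
  exact CharTwo.sub_eq_add _ _

theorem supp_zero : support₂ (0 : GolayPt → ZMod 2) = ∅ := by rw [← wd_zero, support_wd]; exact gE.ds_zero

theorem supp_one : support₂ (fun _ : GolayPt => (1 : ZMod 2)) = Finset.univ := by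
  ext p; simp [mem_support]

theorem exists_supp (s : Finset GolayPt) : ∃ w, support₂ w = s := by
  obtain ⟨m, -, rfl⟩ := gE.exists_ds s
  exact ⟨_, support_wd m⟩

theorem leader (s : Finset GolayPt) : ∃ t : Finset GolayPt, t.card ≤ 4 ∧ t ∆ s ∈ Cw := by
  obtain ⟨w, rfl⟩ := exists_supp s
  have h : ∃ u, u - w ∈ golayCode ∧ hammingNorm u ≤ 4 := by
    rcases CA.GolayUniq.cosets card_GolayPt CA.GolayUniq.card_golay CA.GolayUniq.min_golay w with ⟨u, h1, -⟩ | h
    · exact ⟨u, show u ∈ {v | v - w ∈ golayCode ∧ hammingNorm v ≤ 4} from h1 ▸ rfl⟩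
    · exact Set.nonempty_of_ncard_ne_zero (h.1.trans_ne (by norm_num))
  obtain ⟨u, h1, h2⟩ := h
  exact ⟨support₂ u, by rwa [card_support], by rwa [← supp_sub, support_mem_Cw]⟩

/-- an invariant family of subsets closed under symmetric difference -/
structure Fam (W : Set (Finset GolayPt)) : Prop where
  empty : ∅ ∈ W
  add : ∀ {s t}, s ∈ W → t ∈ W → s ∆ t ∈ W
  smul : ∀ (g : M24) {s}, s ∈ W → g • s ∈ W

variable {W : Set (Finset GolayPt)} (hW : Fam W)
include hW

theorem Fam.of_octad {o : Finset GolayPt} (ho : o ∈ octads) (h : o ∈ W) : Cw ⊆ W := by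
  intro s hs
  obtain ⟨m, hm, -, rfl⟩ := exists_of_mem_Cw hs
  refine isC_ind (Q := fun m => ds m ∈ W) (by rw [ds, gE.ds_zero]; exact hW.empty)
    (fun a b ha hb => by rw [ds, gE.ds_xor]; exact hW.add ha hb) (fun r hr => ?_) hm
  obtain ⟨g, e⟩ := octad_trans ho (ds_octad ((by decide +kernel : ∀ r ∈ basis, isO r = true) r hr))
  exact e ▸ hW.smul g h

theorem Fam.of_word {c : Finset GolayPt} (hc : c ∈ Cw) (h0 : c ≠ ∅) (h1 : c ≠ Finset.univ) (h : c ∈ W) : Cw ⊆ W := by
  rcases card_of_mem_Cw hc with e | e | e | e | e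
  · exact absurd (Finset.card_eq_zero.1 e) h0
  · exact hW.of_octad (mem_octads.2 ⟨hc, e⟩) h
  · obtain ⟨g, e1⟩ := dodecad_trans (mem_dodecads.2 ⟨hc, e⟩) D0_mem
    obtain ⟨k, e2⟩ := dodecad_trans (mem_dodecads.2 ⟨hc, e⟩) (ds_dodecad (m := 28637) (by decide +kernel))
    refine hW.of_octad (ds_octad (m := Nat.xor D0 28637) (by decide +kernel)) ?_
    rw [ds, gE.ds_xor]
    exact hW.add (show ds D0 ∈ W from e1 ▸ hW.smul g h) (show ds 28637 ∈ W from e2 ▸ hW.smul k h)
  · have ho : cᶜ ∈ octads := mem_octads.2 ⟨compl_mem_Cw hc, by rw [Finset.card_compl, card_GolayPt, e]⟩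
    obtain ⟨g, e1⟩ := octad_trans ho O0_mem
    obtain ⟨k, e2⟩ := octad_trans ho (ds_octad (m := 5279) (by decide +kernel))
    refine hW.of_octad (ds_octad (m := Nat.xor O0 5279) (by decide +kernel)) ?_
    rw [ds, gE.ds_xor, ← compl_symmDiff_compl]
    refine hW.add (show (ds O0)ᶜ ∈ W from ?_) (show (ds 5279)ᶜ ∈ W from ?_)
    · rw [← e1, smul_compl, compl_compl]; exact hW.smul g h
    · rw [← e2, smul_compl, compl_compl]; exact hW.smul k h
  · exact absurd (Finset.eq_univ_of_card _ (by rw [e, card_GolayPt])) h1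

theorem Fam.duad_of {t : Finset GolayPt} (h0 : t ≠ ∅) (h4 : t.card ≤ 4) (h : t ∈ W ∨ tᶜ ∈ W) (p q : GolayPt) :
    {p} ∆ {q} ∈ W := by
  by_cases hpq : p = q
  · rw [hpq, symmDiff_self]; exact hW.empty
  obtain ⟨a, ha⟩ := Finset.nonempty_iff_ne_empty.2 h0
  obtain ⟨b, hb⟩ : ∃ b, b ∉ t := by
    by_contra hn
    have := Finset.card_le_card (show Finset.univ ⊆ t from fun x _ => by_contra fun hx => hn ⟨x, hx⟩)
    rw [Finset.card_univ, card_GolayPt] at this
    omega
  have hab : a ≠ b := fun e => hb (e ▸ ha)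
  obtain ⟨g, e⟩ := exists_smul_finset (s := t) (t := insert b (t.erase a))
    (by rw [Finset.card_insert_of_notMem (fun h => hb (Finset.mem_of_mem_erase h)), Finset.card_erase_add_one ha])
    (by omega)
  have h1 : t ∆ (g • t) = {a} ∆ {b} := by
    rw [e]
    ext x
    simp only [Finset.mem_symmDiff, Finset.mem_insert, Finset.mem_erase, Finset.mem_singleton]
    by_cases h1 : x = a
    · subst h1; simp [ha, hab]
    · by_cases h2 : x = b
      · subst h2; simp [hb, h1]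
      · simp [h1, h2]
  have h2 : {a} ∆ {b} ∈ W := by
    rw [← h1]
    rcases h with h | h
    · exact hW.add h (hW.smul g h)
    · rw [← compl_symmDiff_compl, ← smul_compl]; exact hW.add h (hW.smul g h)
  obtain ⟨k, e1, e2⟩ := exists_smul_pt2 hab hpq
  have h3 := hW.smul k h2
  rwa [Finset.smul_finset_symmDiff, Finset.smul_finset_singleton, Finset.smul_finset_singleton, e1, e2] at h3

omit hW in
theorem moves {t c : Finset GolayPt} (h4 : t.card ≤ 4) (hc : c ∈ Cw) (h0 : c ≠ ∅) (h1 : c ≠ Finset.univ) :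
    ∃ g : M24, g • t = t ∧ g • c ≠ c ∧ g • c ≠ cᶜ := by
  obtain ⟨u, hu, h5⟩ := Finset.exists_superset_card_eq h4 (by rw [card_GolayPt]; norm_num)
  obtain ⟨g, rfl⟩ := exists_smul_ds_of_card h5 15 (by decide +kernel)
  obtain ⟨m, hm, rfl⟩ := exists_smul_ds g c
  rw [smul_mem_Cw, ds_mem_Cw hm, ← mem_cwL] at hc
  have h2 := allL_iff.1 (by decide +kernel : allL cwL (fun c => Nat.beq c 0 || Nat.beq c full ||
    anyL [246254781605573048761680671240544544940942455994956513536, 270968863529851217828087098008502204624640074415433974016]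
      fun a => force (img24 a c) fun d => !(Nat.beq d c) && !(Nat.beq d (Nat.xor c full))) = true) m hc
  rw [Bool.or_eq_true, Bool.or_eq_true, beq_iff, beq_iff] at h2
  rcases h2 with (rfl | rfl) | h2
  · exact absurd (by rw [ds, gE.ds_zero, Finset.smul_finset_empty]) h0
  · exact absurd (by rw [ds_full, Finset.smul_finset_univ]) h1
  obtain ⟨a, ha, h3⟩ := anyL_iff.1 h2
  obtain ⟨k, hk, hR⟩ := CA.M24Iso.inFix 15 (by decide +kernel) a ha
  simp only [fe, Bool.and_eq_true, Bool.not_eq_true', ← Bool.not_eq_true, beq_iff] at h3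
  have h6 : img24 a m < 2 ^ 24 := (mSub.S_act hR (sS hm)).1
  have h7 := (CA.M24Iso.conjTo_fix g (ds 15) k).2 hk
  refine ⟨g * k * g⁻¹, CA.M24Iso.fixing_le _ (fixingSubgroup_antitone _ _ (Finset.coe_subset.2 hu) h7), ?_, ?_⟩
  · rw [tr g k (R_ds hR m), ne_eq, smul_left_cancel_iff, gE.ds_eq_iff h6 hm]; exact h3.1
  · rw [tr g k (R_ds hR m), ← smul_compl, ne_eq, smul_left_cancel_iff, ← ds_compl,
      gE.ds_eq_iff h6 (xor_lt hm (by decide))]
    exact h3.2

theorem Fam.duad {s : Finset GolayPt} (hs : s ∉ Cw) (h : s ∈ W) (p q : GolayPt) : {p} ∆ {q} ∈ W := by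
  obtain ⟨t, h4, hc⟩ := leader s
  have h0 : t ≠ ∅ := by
    rintro rfl
    rw [← Finset.bot_eq_empty, bot_symmDiff] at hc
    exact hs hc
  refine hW.duad_of h0 h4 ?_ p q
  by_cases h1 : t ∆ s = ∅
  · rw [← Finset.bot_eq_empty, symmDiff_eq_bot] at h1
    exact Or.inl (h1 ▸ h)
  by_cases h2 : t ∆ s = Finset.univ
  · rw [← Finset.top_eq_univ, symmDiff_eq_top] at h2
    exact Or.inr (h2.compl_eq ▸ h)
  obtain ⟨g, h5, h6, h7⟩ := moves h4 hc h1 h2
  have h8 : (g • t ∆ s) ∆ (t ∆ s) = (g • s) ∆ s := by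
    rw [Finset.smul_finset_symmDiff, h5, symmDiff_symmDiff_symmDiff_comm, symmDiff_self, bot_symmDiff]
  have h9 := hW.of_word (symmDiff_mem_Cw ((smul_mem_Cw g).2 hc) hc)
    (by rwa [← Finset.bot_eq_empty, ne_eq, symmDiff_eq_bot])
    (by rw [← Finset.top_eq_univ, ne_eq, symmDiff_eq_top]; exact fun e => h7 e.eq_compl)
    (h8 ▸ hW.add (hW.smul g h) h) hc
  have h10 := hW.add h9 h
  rw [symmDiff_symmDiff_cancel_right] at h10
  exact Or.inl h10

omit hW in
theorem fam_of {W : Submodule (ZMod 2) (GolayPt → ZMod 2)} (h : ∀ σ ∈ M24, ∀ w ∈ W, (fun p => w (σ.symm p)) ∈ W) :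
    Fam (support₂ '' (W : Set (GolayPt → ZMod 2))) where
  empty := ⟨0, W.zero_mem, supp_zero⟩
  add := by rintro _ _ ⟨v, hv, rfl⟩ ⟨w, hw, rfl⟩; exact ⟨v + w, W.add_mem hv hw, support_add v w⟩
  smul := by rintro g _ ⟨v, hv, rfl⟩; exact ⟨_, h g g.2 v hv, supp_smul _ _⟩

omit hW in
theorem mem_of_supp {W : Set (GolayPt → ZMod 2)} {w : GolayPt → ZMod 2} (h : support₂ w ∈ support₂ '' W) : w ∈ W := by
  obtain ⟨v, hv, e⟩ := h
  exact support_inj e ▸ hv

end CA.M24Mod
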