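import Cfsg.Agent.Lib.Spor.McLCov3D
set_option autoImplicit false
set_option maxRecDepth 100000
set_option linter.all false
set_option Elab.async false
namespace CA.McLCov3
open Cfsg CA.SchurHopf CA.SchurPc CA.SchurCG CA.SchurLow CA.CWord CA.Leech CA.H22Co
open CA.NatBits (allL)
open CA.CNet CA.CLevel CA.CSimple CA.CPoint CA.CTodd
universe u
noncomputable section
def rels : List Word := [[0,0], [4,4], [2,2], [0,2,0,2,0,2], [0,2,4,0,2,4], [0,4,0,4,0,4], [6,6], [4,6,4,6,4,6], [0,2,0,6,2,0,6,2,6], [8,8], [0,8,0,8], [4,8,4,8,4,8], [6,8,6,8,6,8], [0,2,6,4,2,8,2,4,2,6,2,4,8,4], [2,4,6,8,2,6,8,4,2,8,6,4,8,6], [10,10], [0,6,10,6,10], [2,10,2,10,2,10], [2,8,10,2,8,10,2,8,10], [0,2,0,8,2,8,10,0,10,2,8], [0,2,0,8,10,8,6,4,10,4,6,2,10], [0,2,6,2,10,4,8,10,8,4,10,2,6,4], [12,12], [4,12,6,12,4,12,6,12], [6,12,6,12,6,12,6,12], [6,12,10,12,6,12,10,12], [0,8,10,12,10,8,10,12,10], [4,8,4,12,4,8,12,4,12],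 [0,2,0,12,6,12,2,12,6,12], [0,2,12,2,0,8,2,12,2,8,12]]
namespace T5
noncomputable def A_0 : List (ℕ) := [nat_lit 0x600]
noncomputable def A : List (List (ℕ)) := [A_0]
noncomputable def K_0 : List (ℕ) := [nat_lit 0x20000]
noncomputable def K : List (List (ℕ)) := [K_0]
noncomputable def R : List (List (Rule)) := []
def LW : List Word := [[], [0]]
def par : Par := ⟨9, 1, 10, 19, 511, 1023, 524287⟩
theorem hpar : par.ok := by decide
theorem hR0_0 : lall (R) (fun l => lall l (ruleOK rels LW par)) = true := by decide +kernel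
theorem hR0 : lall (R) (fun l => lall l (ruleOK rels LW par)) = true := hR0_0
theorem hR : RulesOK rels LW par R := rulesOK_of rfl hR0
def cols : List (ℕ × ℕ) := [(512, 1)]
theorem hcols : lall cols (colOK rels LW par) = true := by decide +kernel
theorem D0_c : allB (defOK 9 10 19 511 524287 257 A K) 1 2 = true := by decide +kernel
theorem D0 : On (fun r => defOK par.W par.WL par.E par.mW par.mE 257 A K r = true) 256 384 :=
  On.of_allB D0_c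
noncomputable def JW0 : List ℕ := [nat_lit 0x400]
theorem W0_c : blocks (rows 9 1 10 19 511 1023 524287 10 1023 10 A 256 2 cols 128) 128 JW0 0 = true := by decide +kernel
theorem W0 : On (Row.{u} rels LW par A 256 2 cols) 0 128 :=
  rows_of_blocks hpar (by decide) hcols W0_c (by decide +kernel)
theorem idx : Idx.{u} rels [[0]] [] 2 :=
  idx_of_cert hpar hR (K := K) (by decide +kernel) (T := 257) (T' := 384) (by decide) D0
    (subs := []) (by decide +kernel) (T1 := 256) (by decide) (N := 256) (fun _ h1 h2 => absurd h2 (Nat.not_lt.2 h1))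
    (by decide) (n' := 128) (by decide) W0 (by decide +kernel) (by decide +kernel)
end T5
theorem b5 : Bound.{u} rels [[0]] 2 := .of_idx T5.idx (.nil _) (by decide)
namespace T4
noncomputable def A_0 : List (ℕ) := [nat_lit 0x19820088100540702b0281081806806002000410381d80c0a404064020230080c80404c0001400]
noncomputable def A : List (List (ℕ)) := [A_0]
noncomputable def K_0 : List (ℕ) := [nat_lit 0x107834120b03814060000]
noncomputable def K : List (List (ℕ)) := [K_0]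
noncomputable def R_0 : List (Rule) := [Rule.mk (nat_lit 2) (nat_lit 48) (Steps.bwd (nat_lit 1) (Steps.bwd (nat_lit 2) (Steps.fwd (nat_lit 512) (Steps.fwd (nat_lit 1024) (Steps.fwd (nat_lit 512) Steps.nil))))) (nat_lit 6) (nat_lit 0),
  Rule.mk (nat_lit 1) (nat_lit 48) (Steps.bwd (nat_lit 2) (Steps.bwd (nat_lit 3) (Steps.fwd (nat_lit 512) (Steps.fwd (nat_lit 1024) (Steps.fwd (nat_lit 1536) Steps.nil))))) (nat_lit 8) (nat_lit 1),
  Rule.mk (nat_lit 3) (nat_lit 48) (Steps.bwd (nat_lit 1) (Steps.bwd (nat_lit 3) (Steps.fwd (nat_lit 512) (Steps.fwd (nat_lit 1536) (Steps.fwd (nat_lit 512) Steps.nil))))) (nat_lit 10) (nat_lit 0),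
  Rule.mk (nat_lit 2) (nat_lit 48) (Steps.bwd (nat_lit 3) (Steps.bwd (nat_lit 1) (Steps.bwd (nat_lit 2) (Steps.fwd (nat_lit 1536) (Steps.fwd (nat_lit 512) Steps.nil))))) (nat_lit 8) (nat_lit 2),
  Rule.mk (nat_lit 2) (nat_lit 48) (Steps.bwd (nat_lit 1) (Steps.fwd (nat_lit 1024) (Steps.bwd (nat_lit 1) (Steps.fwd (nat_lit 1024) (Steps.fwd (nat_lit 512) Steps.nil))))) (nat_lit 6) (nat_lit 0),
  Rule.mk (nat_lit 3) (nat_lit 48) (Steps.bwd (nat_lit 1) (Steps.fwd (nat_lit 1024) (Steps.fwd (nat_lit 1536) (Steps.bwd (nat_lit 1) (Steps.fwd (nat_lit 1024) Steps.nil))))) (nat_lit 8) (nat_lit 0)]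
noncomputable def R : List (List (Rule)) := [R_0]
def LW : List Word := [[], [0], [2], [4], [0], [1]]
def par : Par := ⟨9, 3, 12, 21, 511, 4095, 2097151⟩
theorem hpar : par.ok := by decide
theorem hR0_0 : lall (R) (fun l => lall l (ruleOK rels LW par)) = true := by decide +kernel
theorem hR0 : lall (R) (fun l => lall l (ruleOK rels LW par)) = true := hR0_0
theorem hR : RulesOK rels LW par R := rulesOK_of rfl hR0
def cols : List (ℕ × ℕ) := [(512, 1), (1024, 2), (1536, 3)]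
theorem hcols : lall cols (colOK rels LW par) = true := by decide +kernel
noncomputable def JS0 : List ℕ := [nat_lit 0x48200401036010200e0002d03028160902c02824040902b03024020802a030200008031]
theorem S0_c : blocks (facts 9 3 12 21 511 4095 2097151 9 511 3 7 A R 32) 32 JS0 264 = true := by decide +kernel
theorem S0 : On (Step.{u} rels LW par A) 264 296 :=
  steps_of_blocks hpar hR S0_c (by decide +kernel)
theorem D0_c : allB (defOK 9 12 21 511 2097151 264 A K) 1 2 = true := by decide +kernel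
theorem D0 : On (fun r => defOK par.W par.WL par.E par.mW par.mE 264 A K r = true) 256 384 :=
  On.of_allB D0_c
noncomputable def JW0 : List ℕ := [nat_lit 0x340d84311438108351243c0e83911c4b0dc3d1103e1344f12046128511304e14040]
theorem W0_c : blocks (rows 9 3 12 21 511 4095 2097151 10 1023 30 A 296 9 cols 42) 42 JW0 0 = true := by decide +kernel
theorem W0 : On (Row.{u} rels LW par A 296 9 cols) 0 42 :=
  rows_of_blocks hpar (by decide) hcols W0_c (by decide +kernel)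
theorem idx : Idx.{u} rels [[0], [2], [4]] [[0]] 9 :=
  idx_of_cert hpar hR (K := K) (by decide +kernel) (T := 264) (T' := 384) (by decide) D0
    (subs := [1]) (by decide +kernel) (T1 := 264) (by decide) (N := 296) S0
    (by decide) (n' := 42) (by decide) W0 (by decide +kernel) (by decide +kernel)
end T4
theorem b4 : Bound.{u} rels [[0], [2], [4]] 18 := .of_idx T4.idx b5 (by decide)
namespace T3
noncomputable def A_0 : List (ℕ) := [nat_lit 0x9884c2641309984c20612090848208100720381c60e0808381e40f08a03c2220f03a02c1860a0420300c8060510340c606041018124050408240a20701a00c0840400880402014012010006000010000020009a0482441107102c2040c07982c2260d0588281820d06a0241480503080c126070418100e40302980806601020808044010a080402800]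
noncomputable def A : List (List (ℕ)) := [A_0]
noncomputable def K_0 : List (ℕ) := [nat_lit 0x10189c4a1d1087c46170c86c2a1107834260b038240a0000]
noncomputable def K : List (List (ℕ)) := [K_0]
noncomputable def R_0 : List (Rule) := [Rule.mk (nat_lit 4) (nat_lit 77) (Steps.bwd (nat_lit 1) (Steps.bwd (nat_lit 2) (Steps.bwd (nat_lit 4) (Steps.fwd (nat_lit 512) (Steps.fwd (nat_lit 1024) (Steps.fwd (nat_lit 512) (Steps.fwd (nat_lit 2048) (Steps.fwd (nat_lit 1024) Steps.nil)))))))) (nat_lit 17) (nat_lit 3),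
  Rule.mk (nat_lit 0) (nat_lit 86) (Steps.bwd (nat_lit 1) (Steps.fwd (nat_lit 1024) (Steps.fwd (nat_lit 512) (Steps.fwd (nat_lit 2048) (Steps.bwd (nat_lit 2) (Steps.bwd (nat_lit 4) (Steps.fwd (nat_lit 512) (Steps.fwd (nat_lit 1024) (Steps.fwd (nat_lit 2048) Steps.nil))))))))) (nat_lit 17) (nat_lit 6),
  Rule.mk (nat_lit 1) (nat_lit 23) (Steps.bwd (nat_lit 0) (Steps.bwd (nat_lit 1) Steps.nil)) (nat_lit 60) (nat_lit 0),
  Rule.mk (nat_lit 2) (nat_lit 50) (Steps.bwd (nat_lit 1) (Steps.bwd (nat_lit 2) (Steps.fwd (nat_lit 512) (Steps.fwd (nat_lit 1024) (Steps.fwd (nat_lit 512) Steps.nil))))) (nat_lit 6) (nat_lit 0),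
  Rule.mk (nat_lit 4) (nat_lit 50) (Steps.bwd (nat_lit 3) (Steps.bwd (nat_lit 4) (Steps.fwd (nat_lit 1536) (Steps.fwd (nat_lit 2048) (Steps.fwd (nat_lit 1536) Steps.nil))))) (nat_lit 14) (nat_lit 0),
  Rule.mk (nat_lit 1) (nat_lit 50) (Steps.bwd (nat_lit 2) (Steps.bwd (nat_lit 3) (Steps.fwd (nat_lit 512) (Steps.fwd (nat_lit 1024) (Steps.fwd (nat_lit 1536) Steps.nil))))) (nat_lit 8) (nat_lit 1),
  Rule.mk (nat_lit 1) (nat_lit 50) (Steps.bwd (nat_lit 3) (Steps.fwd (nat_lit 512) (Steps.bwd (nat_lit 3) (Steps.fwd (nat_lit 512) (Steps.fwd (nat_lit 1536) Steps.nil))))) (nat_lit 10) (nat_lit 1),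
  Rule.mk (nat_lit 2) (nat_lit 50) (Steps.bwd (nat_lit 3) (Steps.fwd (nat_lit 512) (Steps.fwd (nat_lit 1024) (Steps.fwd (nat_lit 1536) (Steps.bwd (nat_lit 1) Steps.nil))))) (nat_lit 8) (nat_lit 2),
  Rule.mk (nat_lit 2) (nat_lit 50) (Steps.bwd (nat_lit 1) (Steps.fwd (nat_lit 1024) (Steps.fwd (nat_lit 512) (Steps.fwd (nat_lit 1024) (Steps.fwd (nat_lit 512) Steps.nil))))) (nat_lit 6) (nat_lit 0),
  Rule.mk (nat_lit 3) (nat_lit 50) (Steps.bwd (nat_lit 1) (Steps.fwd (nat_lit 1024) (Steps.fwd (nat_lit 1536) (Steps.fwd (nat_lit 512) (Steps.bwd (nat_lit 2) Steps.nil))))) (nat_lit 8) (nat_lit 0),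
  Rule.mk (nat_lit 2) (nat_lit 77) (Steps.bwd (nat_lit 4) (Steps.fwd (nat_lit 512) (Steps.bwd (nat_lit 2) (Steps.bwd (nat_lit 1) (Steps.fwd (nat_lit 2048) (Steps.fwd (nat_lit 1024) (Steps.fwd (nat_lit 512) (Steps.fwd (nat_lit 2048) Steps.nil)))))))) (nat_lit 16) (nat_lit 8),
  Rule.mk (nat_lit 4) (nat_lit 77) (Steps.bwd (nat_lit 1) (Steps.fwd (nat_lit 1024) (Steps.fwd (nat_lit 512) (Steps.fwd (nat_lit 2048) (Steps.bwd (nat_lit 2) (Steps.bwd (nat_lit 4) (Steps.fwd (nat_lit 512) (Steps.bwd (nat_lit 2) Steps.nil)))))))) (nat_lit 17) (nat_lit 6),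
  Rule.mk (nat_lit 4) (nat_lit 77) (Steps.bwd (nat_lit 1) (Steps.fwd (nat_lit 1024) (Steps.bwd (nat_lit 4) (Steps.bwd (nat_lit 1) (Steps.bwd (nat_lit 2) (Steps.fwd (nat_lit 512) (Steps.fwd (nat_lit 2048) (Steps.fwd (nat_lit 1024) Steps.nil)))))))) (nat_lit 17) (nat_lit 3),
  Rule.mk (nat_lit 3) (nat_lit 50) (Steps.bwd (nat_lit 4) (Steps.bwd (nat_lit 3) (Steps.bwd (nat_lit 4) (Steps.fwd (nat_lit 1536) (Steps.bwd (nat_lit 4) Steps.nil))))) (nat_lit 14) (nat_lit 1),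
  Rule.mk (nat_lit 4) (nat_lit 77) (Steps.bwd (nat_lit 1) (Steps.bwd (nat_lit 2) (Steps.fwd (nat_lit 512) (Steps.fwd (nat_lit 2048) (Steps.bwd (nat_lit 2) (Steps.bwd (nat_lit 1) (Steps.fwd (nat_lit 2048) (Steps.fwd (nat_lit 1024) Steps.nil)))))))) (nat_lit 16) (nat_lit 0),
  Rule.mk (nat_lit 1) (nat_lit 50) (Steps.bwd (nat_lit 3) (Steps.bwd (nat_lit 1) (Steps.fwd (nat_lit 1536) (Steps.bwd (nat_lit 1) (Steps.fwd (nat_lit 1536) Steps.nil))))) (nat_lit 10) (nat_lit 1),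
  Rule.mk (nat_lit 4) (nat_lit 50) (Steps.bwd (nat_lit 3) (Steps.fwd (nat_lit 2048) (Steps.fwd (nat_lit 1536) (Steps.fwd (nat_lit 2048) (Steps.fwd (nat_lit 1536) Steps.nil))))) (nat_lit 14) (nat_lit 0),
  Rule.mk (nat_lit 2) (nat_lit 50) (Steps.fwd (nat_lit 512) (Steps.bwd (nat_lit 3) (Steps.fwd (nat_lit 1024) (Steps.fwd (nat_lit 512) (Steps.fwd (nat_lit 1536) Steps.nil))))) (nat_lit 9) (nat_lit 2),
  Rule.mk (nat_lit 1) (nat_lit 50) (Steps.bwd (nat_lit 2) (Steps.bwd (nat_lit 1) (Steps.bwd (nat_lit 2) (Steps.fwd (nat_lit 512) (Steps.fwd (nat_lit 1024) Steps.nil))))) (nat_lit 6) (nat_lit 1),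
  Rule.mk (nat_lit 3) (nat_lit 50) (Steps.bwd (nat_lit 2) (Steps.bwd (nat_lit 1) (Steps.fwd (nat_lit 1536) (Steps.fwd (nat_lit 1024) (Steps.bwd (nat_lit 1) Steps.nil))))) (nat_lit 9) (nat_lit 1),
  Rule.mk (nat_lit 4) (nat_lit 77) (Steps.bwd (nat_lit 2) (Steps.fwd (nat_lit 2048) (Steps.fwd (nat_lit 512) (Steps.fwd (nat_lit 1024) (Steps.fwd (nat_lit 512) (Steps.bwd (nat_lit 4) (Steps.fwd (nat_lit 1024) (Steps.bwd (nat_lit 1) Steps.nil)))))))) (nat_lit 16) (nat_lit 7),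
  Rule.mk (nat_lit 4) (nat_lit 77) (Steps.bwd (nat_lit 1) (Steps.bwd (nat_lit 2) (Steps.bwd (nat_lit 1) (Steps.bwd (nat_lit 4) (Steps.fwd (nat_lit 1024) (Steps.fwd (nat_lit 512) (Steps.bwd (nat_lit 4) (Steps.fwd (nat_lit 1024) Steps.nil)))))))) (nat_lit 16) (nat_lit 0),
  Rule.mk (nat_lit 1) (nat_lit 50) (Steps.bwd (nat_lit 2) (Steps.bwd (nat_lit 1) (Steps.fwd (nat_lit 1024) (Steps.fwd (nat_lit 512) (Steps.fwd (nat_lit 1024) Steps.nil))))) (nat_lit 6) (nat_lit 1),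
  Rule.mk (nat_lit 3) (nat_lit 50) (Steps.fwd (nat_lit 512) (Steps.bwd (nat_lit 2) (Steps.bwd (nat_lit 3) (Steps.fwd (nat_lit 512) (Steps.fwd (nat_lit 1024) Steps.nil))))) (nat_lit 8) (nat_lit 0),
  Rule.mk (nat_lit 3) (nat_lit 50) (Steps.bwd (nat_lit 4) (Steps.fwd (nat_lit 1536) (Steps.fwd (nat_lit 2048) (Steps.bwd (nat_lit 3) (Steps.fwd (nat_lit 2048) Steps.nil))))) (nat_lit 14) (nat_lit 1),
  Rule.mk (nat_lit 1) (nat_lit 77) (Steps.bwd (nat_lit 4) (Steps.bwd (nat_lit 2) (Steps.bwd (nat_lit 4) (Steps.fwd (nat_lit 512) (Steps.fwd (nat_lit 1024) (Steps.fwd (nat_lit 512) (Steps.fwd (nat_lit 2048) (Steps.fwd (nat_lit 1024) Steps.nil)))))))) (nat_lit 16) (nat_lit 6)]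
noncomputable def R : List (List (Rule)) := [R_0]
def LW : List Word := [[], [0], [2], [4], [6], [0], [1], [2], [3], [4], [5]]
def par : Par := ⟨9, 4, 13, 22, 511, 8191, 4194303⟩
theorem hpar : par.ok := by decide
theorem hR0_0 : lall (R) (fun l => lall l (ruleOK rels LW par)) = true := by decide +kernel
theorem hR0 : lall (R) (fun l => lall l (ruleOK rels LW par)) = true := hR0_0
theorem hR : RulesOK rels LW par R := rulesOK_of rfl hR0
def cols : List (ℕ × ℕ) := [(512, 1), (1024, 2), (1536, 3), (2048, 4)]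
theorem hcols : lall cols (colOK rels LW par) = true := by decide +kernel
noncomputable def JS0 : List ℕ := [nat_lit 0x1d0187814090f07741c0107410090e80838b0d80004000de43a210f86c0180d01808060d5c360807034421e0d00ac010d01c1a0c07014335000640a1c0c50301c0386c2f30c0680c1900c8301b0f0042f10b86402180b403c090d81402180185de000e0303c19700c00190e01830010b3404040b0002e050d861816020680a170080c2ab000082e190b280200010602a900058061a0c202a190b8002870b06404170a982c1a020682c50b05c00170b102e00185c04030b85400140a8584140b00802020b050261]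
theorem S0_c : blocks (facts 9 4 13 22 511 8191 4194303 9 511 5 31 A R 32) 32 JS0 278 = true := by decide +kernel
theorem S0 : On (Step.{u} rels LW par A) 278 310 :=
  steps_of_blocks hpar hR S0_c (by decide +kernel)
theorem D0_c : allB (defOK 9 13 22 511 4194303 276 A K) 1 2 = true := by decide +kernel
theorem D0 : On (fun r => defOK par.W par.WL par.E par.mW par.mE 276 A K r = true) 256 384 :=
  On.of_allB D0_c
noncomputable def JW0 : List ℕ := [nat_lit 0x11c0e0300a118101241207c5112021050111341b0784f070200581812c1a15c500a85409825130550884e12853164240ac521585d0c43209c5f0bc3308c5c184340a02c0b85b160630c0350f85e0e0670d8651805a0fc621a4661b4641a03a1b04010844]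
theorem W0_c : blocks (rows 9 4 13 22 511 8191 4194303 10 1023 40 A 310 20 cols 32) 32 JW0 0 = true := by decide +kernel
theorem W0 : On (Row.{u} rels LW par A 310 20 cols) 0 32 :=
  rows_of_blocks hpar (by decide) hcols W0_c (by decide +kernel)
theorem idx : Idx.{u} rels [[0], [2], [4], [6]] [[0], [2], [4]] 20 :=
  idx_of_cert hpar hR (K := K) (by decide +kernel) (T := 276) (T' := 384) (by decide) D0
    (subs := [1,2,3]) (by decide +kernel) (T1 := 278) (by decide) (N := 310) S0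
    (by decide) (n' := 32) (by decide) W0 (by decide +kernel) (by decide +kernel)
end T3
theorem b3 : Bound.{u} rels [[0], [2], [4], [6]] 360 := .of_idx T3.idx b4 (by decide)
namespace T2
noncomputable def A_0 : List (ℕ) := [nat_lit 0x2709389c44e2729389c64e241120608482419209024825a12c6a64b25892c5223914a8e4426391ba93c9e84f21193c9e24f11a8f44823d1f29286684a238928a023e2399407685017a11c50842260908524290a18a44842408a8908a83e26193082a4c1aa8d450a280f10d45062823211062a462689185e4460c28bc38a331d10cc4283a1528e82882a2298a84422a1d9910782441e1114762450810844205a1b28883c8362698d87884d1118f04443b201924708491a09247e8310d18c460a301808c03443012a100648320da8c83a61d0628743a81d1690b45a6340d20b43422d0e18b83021c15a06c1841c1608b83661b16106c3082c20a104566411311044c8261b88dc404370920802061e1001603c0560128141c0570681540a0510101480205915a8ac4e8270aa8542c61621909c26a271f990c7ea431c10fc4aa380910482c4250b20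58aea582aa958162170b905c0820402014c3280b0fa8643261f0f8864242201198440e20e07015022823108878202140a90ac1881505084c144132889480e60e0418201a4080428201260f0698141e20d04a03c0c20902901408a0401a80c0220100200000600001000002002720dc90a4b2590e47283d2790f47a64a251140a0a4723910884a2614a0904863e1f1130988351a88a0504142318bc5e2331998e87423615111088a3422a8b86c44d26a90078a491da8b0448102d104092431188900606322010c86421d0e90d06884316a85c34a0b0e20b85c4180d8830586170c182c8222613184c6e627138858862381f8894706201298482ca0a2c9148b08122ba144ac6102a99442e81f0c908c3e40e10283824a07118844224072a081c3ca0d10a83c28a09082818562150a982818604059010a620409a02014803292814a2a020720140e80204080c1a806079018124030318080a2020220040660101100402a00]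
noncomputable def A : List (List (ℕ)) := [A_0]
noncomputable def K_0 : List (ℕ) := [nat_lit 0x4f64b2491c8a4319884361952aad66834cabd4e7958a8d268744955425d3994d36a9409fd1aad289650a9736a3ce2773aa44ca6b308a5169f4a95cb64f4e8dcfa2f1d8f4626f3398cd23f2f9049a271687c72351583c2e111288c3a0d09854160903814060000]
noncomputable def K : List (List (ℕ)) := [K_0]
noncomputable def R_0 : List (Rule) := [Rule.mk (nat_lit 1) (nat_lit 34) (Steps.bwd (nat_lit 5) (Steps.fwd (nat_lit 512) (Steps.fwd (nat_lit 2560) Steps.nil))) (nat_lit 20) (nat_lit 1),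
  Rule.mk (nat_lit 5) (nat_lit 52) (Steps.bwd (nat_lit 3) (Steps.bwd (nat_lit 5) (Steps.fwd (nat_lit 1536) (Steps.fwd (nat_lit 2560) (Steps.fwd (nat_lit 1536) Steps.nil))))) (nat_lit 22) (nat_lit 0),
  Rule.mk (nat_lit 5) (nat_lit 52) (Steps.bwd (nat_lit 4) (Steps.bwd (nat_lit 5) (Steps.fwd (nat_lit 2048) (Steps.fwd (nat_lit 2560) (Steps.fwd (nat_lit 2048) Steps.nil))))) (nat_lit 24) (nat_lit 0),
  Rule.mk (nat_lit 2) (nat_lit 52) (Steps.bwd (nat_lit 1) (Steps.bwd (nat_lit 2) (Steps.fwd (nat_lit 512) (Steps.fwd (nat_lit 1024) (Steps.fwd (nat_lit 512) Steps.nil))))) (nat_lit 6) (nat_lit 0),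
  Rule.mk (nat_lit 1) (nat_lit 52) (Steps.bwd (nat_lit 2) (Steps.bwd (nat_lit 3) (Steps.fwd (nat_lit 512) (Steps.fwd (nat_lit 1024) (Steps.fwd (nat_lit 1536) Steps.nil))))) (nat_lit 8) (nat_lit 1),
  Rule.mk (nat_lit 4) (nat_lit 124) (Steps.bwd (nat_lit 2) (Steps.bwd (nat_lit 3) (Steps.bwd (nat_lit 2) (Steps.bwd (nat_lit 5) (Steps.fwd (nat_lit 1024) (Steps.fwd (nat_lit 1536) (Steps.fwd (nat_lit 2048) (Steps.fwd (nat_lit 1024) (Steps.fwd (nat_lit 512) (Steps.fwd (nat_lit 1536) (Steps.fwd (nat_lit 2560) (Steps.fwd (nat_lit 1536) (Steps.fwd (nat_lit 1024) Steps.nil))))))))))))) (nat_lit 27) (nat_lit 5),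
  Rule.mk (nat_lit 1) (nat_lit 79) (Steps.bwd (nat_lit 4) (Steps.fwd (nat_lit 1024) (Steps.fwd (nat_lit 2048) (Steps.fwd (nat_lit 512) (Steps.fwd (nat_lit 1024) (Steps.fwd (nat_lit 2048) (Steps.fwd (nat_lit 512) (Steps.fwd (nat_lit 1024) Steps.nil)))))))) (nat_lit 17) (nat_lit 0),
  Rule.mk (nat_lit 3) (nat_lit 52) (Steps.fwd (nat_lit 1024) (Steps.bwd (nat_lit 1) (Steps.fwd (nat_lit 1536) (Steps.fwd (nat_lit 1024) (Steps.bwd (nat_lit 1) Steps.nil))))) (nat_lit 9) (nat_lit 1),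
  Rule.mk (nat_lit 3) (nat_lit 52) (Steps.bwd (nat_lit 1) (Steps.bwd (nat_lit 3) (Steps.bwd (nat_lit 1) (Steps.fwd (nat_lit 1536) (Steps.bwd (nat_lit 1) Steps.nil))))) (nat_lit 10) (nat_lit 0),
  Rule.mk (nat_lit 5) (nat_lit 34) (Steps.bwd (nat_lit 1) (Steps.fwd (nat_lit 2560) (Steps.fwd (nat_lit 512) Steps.nil))) (nat_lit 20) (nat_lit 0),
  Rule.mk (nat_lit 2) (nat_lit 52) (Steps.bwd (nat_lit 1) (Steps.fwd (nat_lit 1024) (Steps.fwd (nat_lit 512) (Steps.fwd (nat_lit 1024) (Steps.bwd (nat_lit 1) Steps.nil))))) (nat_lit 6) (nat_lit 0),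
  Rule.mk (nat_lit 3) (nat_lit 52) (Steps.bwd (nat_lit 1) (Steps.fwd (nat_lit 1024) (Steps.bwd (nat_lit 3) (Steps.bwd (nat_lit 1) (Steps.bwd (nat_lit 2) Steps.nil))))) (nat_lit 8) (nat_lit 0),
  Rule.mk (nat_lit 3) (nat_lit 52) (Steps.bwd (nat_lit 4) (Steps.fwd (nat_lit 1536) (Steps.bwd (nat_lit 4) (Steps.bwd (nat_lit 3) (Steps.fwd (nat_lit 2048) Steps.nil))))) (nat_lit 14) (nat_lit 1),
  Rule.mk (nat_lit 1) (nat_lit 34) (Steps.bwd (nat_lit 5) (Steps.bwd (nat_lit 1) (Steps.fwd (nat_lit 2560) Steps.nil))) (nat_lit 20) (nat_lit 1),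
  Rule.mk (nat_lit 2) (nat_lit 79) (Steps.bwd (nat_lit 4) (Steps.bwd (nat_lit 1) (Steps.fwd (nat_lit 1024) (Steps.fwd (nat_lit 512) (Steps.fwd (nat_lit 2048) (Steps.bwd (nat_lit 2) (Steps.bwd (nat_lit 1) (Steps.fwd (nat_lit 2048) Steps.nil)))))))) (nat_lit 16) (nat_lit 8),
  Rule.mk (nat_lit 1) (nat_lit 79) (Steps.bwd (nat_lit 4) (Steps.fwd (nat_lit 1024) (Steps.bwd (nat_lit 4) (Steps.bwd (nat_lit 1) (Steps.bwd (nat_lit 2) (Steps.fwd (nat_lit 512) (Steps.fwd (nat_lit 2048) (Steps.fwd (nat_lit 1024) Steps.nil)))))))) (nat_lit 16) (nat_lit 6),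
  Rule.mk (nat_lit 4) (nat_lit 52) (Steps.bwd (nat_lit 3) (Steps.bwd (nat_lit 4) (Steps.bwd (nat_lit 3) (Steps.fwd (nat_lit 2048) (Steps.fwd (nat_lit 1536) Steps.nil))))) (nat_lit 14) (nat_lit 0),
  Rule.mk (nat_lit 2) (nat_lit 52) (Steps.bwd (nat_lit 1) (Steps.bwd (nat_lit 3) (Steps.bwd (nat_lit 2) (Steps.fwd (nat_lit 512) (Steps.fwd (nat_lit 1536) Steps.nil))))) (nat_lit 9) (nat_lit 2),
  Rule.mk (nat_lit 4) (nat_lit 79) (Steps.bwd (nat_lit 1) (Steps.bwd (nat_lit 2) (Steps.bwd (nat_lit 4) (Steps.fwd (nat_lit 512) (Steps.fwd (nat_lit 1024) (Steps.bwd (nat_lit 1) (Steps.fwd (nat_lit 2048) (Steps.fwd (nat_lit 1024) Steps.nil)))))))) (nat_lit 17) (nat_lit 3),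
  Rule.mk (nat_lit 0) (nat_lit 88) (Steps.bwd (nat_lit 1) (Steps.fwd (nat_lit 1024) (Steps.fwd (nat_lit 512) (Steps.fwd (nat_lit 2048) (Steps.bwd (nat_lit 2) (Steps.bwd (nat_lit 4) (Steps.fwd (nat_lit 512) (Steps.fwd (nat_lit 1024) (Steps.fwd (nat_lit 2048) Steps.nil))))))))) (nat_lit 17) (nat_lit 6),
  Rule.mk (nat_lit 1) (nat_lit 25) (Steps.bwd (nat_lit 0) (Steps.bwd (nat_lit 1) Steps.nil)) (nat_lit 60) (nat_lit 0),
  Rule.mk (nat_lit 3) (nat_lit 52) (Steps.bwd (nat_lit 2) (Steps.bwd (nat_lit 1) (Steps.fwd (nat_lit 1536) (Steps.fwd (nat_lit 1024) (Steps.fwd (nat_lit 512) Steps.nil))))) (nat_lit 9) (nat_lit 1),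
  Rule.mk (nat_lit 1) (nat_lit 52) (Steps.bwd (nat_lit 2) (Steps.bwd (nat_lit 1) (Steps.bwd (nat_lit 2) (Steps.bwd (nat_lit 1) (Steps.fwd (nat_lit 1024) Steps.nil))))) (nat_lit 6) (nat_lit 1),
  Rule.mk (nat_lit 3) (nat_lit 52) (Steps.bwd (nat_lit 1) (Steps.bwd (nat_lit 2) (Steps.bwd (nat_lit 3) (Steps.fwd (nat_lit 512) (Steps.fwd (nat_lit 1024) Steps.nil))))) (nat_lit 8) (nat_lit 0),
  Rule.mk (nat_lit 5) (nat_lit 124) (Steps.bwd (nat_lit 2) (Steps.bwd (nat_lit 3) (Steps.bwd (nat_lit 2) (Steps.bwd (nat_lit 4) (Steps.bwd (nat_lit 2) (Steps.fwd (nat_lit 1536) (Steps.fwd (nat_lit 2560) (Steps.bwd (nat_lit 3) (Steps.fwd (nat_lit 512) (Steps.fwd (nat_lit 1024) (Steps.fwd (nat_lit 2048) (Steps.bwd (nat_lit 3) (Steps.fwd (nat_lit 1024) Steps.nil))))))))))))) (nat_lit 26) (nat_lit 6),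
  Rule.mk (nat_lit 4) (nat_lit 79) (Steps.bwd (nat_lit 2) (Steps.bwd (nat_lit 4) (Steps.fwd (nat_lit 512) (Steps.fwd (nat_lit 1024) (Steps.fwd (nat_lit 512) (Steps.fwd (nat_lit 2048) (Steps.fwd (nat_lit 1024) (Steps.bwd (nat_lit 1) Steps.nil)))))))) (nat_lit 16) (nat_lit 7),
  Rule.mk (nat_lit 0) (nat_lit 88) (Steps.bwd (nat_lit 1) (Steps.bwd (nat_lit 4) (Steps.fwd (nat_lit 1024) (Steps.fwd (nat_lit 2048) (Steps.bwd (nat_lit 1) (Steps.fwd (nat_lit 1024) (Steps.bwd (nat_lit 1) (Steps.bwd (nat_lit 4) (Steps.bwd (nat_lit 2) Steps.nil))))))))) (nat_lit 16) (nat_lit 5),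
  Rule.mk (nat_lit 2) (nat_lit 79) (Steps.bwd (nat_lit 4) (Steps.bwd (nat_lit 1) (Steps.bwd (nat_lit 2) (Steps.bwd (nat_lit 1) (Steps.bwd (nat_lit 4) (Steps.fwd (nat_lit 1024) (Steps.fwd (nat_lit 512) (Steps.fwd (nat_lit 2048) Steps.nil)))))))) (nat_lit 16) (nat_lit 8),
  Rule.mk (nat_lit 1) (nat_lit 79) (Steps.bwd (nat_lit 4) (Steps.bwd (nat_lit 2) (Steps.bwd (nat_lit 4) (Steps.bwd (nat_lit 1) (Steps.bwd (nat_lit 2) (Steps.fwd (nat_lit 512) (Steps.fwd (nat_lit 2048) (Steps.fwd (nat_lit 1024) Steps.nil)))))))) (nat_lit 16) (nat_lit 6),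
  Rule.mk (nat_lit 5) (nat_lit 52) (Steps.bwd (nat_lit 3) (Steps.bwd (nat_lit 5) (Steps.bwd (nat_lit 3) (Steps.fwd (nat_lit 2560) (Steps.fwd (nat_lit 1536) Steps.nil))))) (nat_lit 22) (nat_lit 0),
  Rule.mk (nat_lit 5) (nat_lit 52) (Steps.bwd (nat_lit 4) (Steps.bwd (nat_lit 5) (Steps.bwd (nat_lit 4) (Steps.fwd (nat_lit 2560) (Steps.fwd (nat_lit 2048) Steps.nil))))) (nat_lit 24) (nat_lit 0),
  Rule.mk (nat_lit 4) (nat_lit 52) (Steps.bwd (nat_lit 5) (Steps.bwd (nat_lit 4) (Steps.fwd (nat_lit 2560) (Steps.fwd (nat_lit 2048) (Steps.fwd (nat_lit 2560) Steps.nil))))) (nat_lit 24) (nat_lit 1),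
  Rule.mk (nat_lit 2) (nat_lit 124) (Steps.bwd (nat_lit 3) (Steps.bwd (nat_lit 5) (Steps.bwd (nat_lit 4) (Steps.bwd (nat_lit 2) (Steps.bwd (nat_lit 5) (Steps.fwd (nat_lit 2048) (Steps.fwd (nat_lit 1536) (Steps.fwd (nat_lit 1024) (Steps.fwd (nat_lit 2048) (Steps.fwd (nat_lit 2560) (Steps.fwd (nat_lit 1536) (Steps.fwd (nat_lit 2048) (Steps.fwd (nat_lit 2560) Steps.nil))))))))))))) (nat_lit 29) (nat_lit 6),
  Rule.mk (nat_lit 2) (nat_lit 124) (Steps.fwd (nat_lit 1536) (Steps.fwd (nat_lit 1024) (Steps.fwd (nat_lit 2048) (Steps.bwd (nat_lit 2) (Steps.bwd (nat_lit 3) (Steps.bwd (nat_lit 5) (Steps.bwd (nat_lit 3) (Steps.fwd (nat_lit 512) (Steps.fwd (nat_lit 1024) (Steps.bwd (nat_lit 4) (Steps.bwd (nat_lit 3) (Steps.bwd (nat_lit 2) (Steps.fwd (nat_lit 2560) Steps.nil))))))))))))) (nat_lit 26) (nat_lit 7),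
  Rule.mk (nat_lit 2) (nat_lit 52) (Steps.bwd (nat_lit 1) (Steps.bwd (nat_lit 3) (Steps.fwd (nat_lit 1024) (Steps.bwd (nat_lit 1) (Steps.fwd (nat_lit 1536) Steps.nil))))) (nat_lit 9) (nat_lit 2),
  Rule.mk (nat_lit 3) (nat_lit 52) (Steps.bwd (nat_lit 1) (Steps.bwd (nat_lit 3) (Steps.fwd (nat_lit 512) (Steps.fwd (nat_lit 1536) (Steps.fwd (nat_lit 512) Steps.nil))))) (nat_lit 10) (nat_lit 0),
  Rule.mk (nat_lit 5) (nat_lit 34) (Steps.bwd (nat_lit 1) (Steps.bwd (nat_lit 5) (Steps.bwd (nat_lit 1) Steps.nil))) (nat_lit 20) (nat_lit 0),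
  Rule.mk (nat_lit 3) (nat_lit 52) (Steps.bwd (nat_lit 2) (Steps.fwd (nat_lit 512) (Steps.bwd (nat_lit 3) (Steps.bwd (nat_lit 2) (Steps.bwd (nat_lit 1) Steps.nil))))) (nat_lit 9) (nat_lit 1),
  Rule.mk (nat_lit 5) (nat_lit 52) (Steps.bwd (nat_lit 3) (Steps.fwd (nat_lit 2560) (Steps.fwd (nat_lit 1536) (Steps.bwd (nat_lit 5) (Steps.fwd (nat_lit 1536) Steps.nil))))) (nat_lit 22) (nat_lit 0),
  Rule.mk (nat_lit 4) (nat_lit 124) (Steps.fwd (nat_lit 1024) (Steps.fwd (nat_lit 1536) (Steps.bwd (nat_lit 5) (Steps.fwd (nat_lit 1536) (Steps.bwd (nat_lit 1) (Steps.fwd (nat_lit 1024) (Steps.fwd (nat_lit 2048) (Steps.fwd (nat_lit 1536) (Steps.bwd (nat_lit 2) (Steps.bwd (nat_lit 5) (Steps.bwd (nat_lit 2) (Steps.bwd (nat_lit 3) (Steps.bwd (nat_lit 2) Steps.nil))))))))))))) (nat_lit 26) (nat_lit 10),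
  Rule.mk (nat_lit 0) (nat_lit 133) (Steps.bwd (nat_lit 2) (Steps.bwd (nat_lit 5) (Steps.fwd (nat_lit 1024) (Steps.fwd (nat_lit 1536) (Steps.bwd (nat_lit 2) (Steps.fwd (nat_lit 2048) (Steps.fwd (nat_lit 1024) (Steps.fwd (nat_lit 1536) (Steps.fwd (nat_lit 2560) (Steps.bwd (nat_lit 3) (Steps.bwd (nat_lit 1) (Steps.fwd (nat_lit 1024) (Steps.bwd (nat_lit 4) (Steps.bwd (nat_lit 3) Steps.nil)))))))))))))) (nat_lit 26) (nat_lit 4),
  Rule.mk (nat_lit 0) (nat_lit 34) (Steps.fwd (nat_lit 1024) (Steps.fwd (nat_lit 0) (Steps.fwd (nat_lit 1024) Steps.nil))) (nat_lit 60) (nat_lit 0),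
  Rule.mk (nat_lit 0) (nat_lit 34) (Steps.bwd (nat_lit 1) (Steps.fwd (nat_lit 0) (Steps.fwd (nat_lit 512) Steps.nil))) (nat_lit 60) (nat_lit 0),
  Rule.mk (nat_lit 0) (nat_lit 34) (Steps.bwd (nat_lit 3) (Steps.fwd (nat_lit 0) (Steps.fwd (nat_lit 1536) Steps.nil))) (nat_lit 60) (nat_lit 0),
  Rule.mk (nat_lit 0) (nat_lit 34) (Steps.bwd (nat_lit 4) (Steps.fwd (nat_lit 0) (Steps.fwd (nat_lit 2048) Steps.nil))) (nat_lit 60) (nat_lit 0),
  Rule.mk (nat_lit 5) (nat_lit 25) (Steps.bwd (nat_lit 0) (Steps.bwd (nat_lit 5) Steps.nil)) (nat_lit 60) (nat_lit 0),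
  Rule.mk (nat_lit 0) (nat_lit 34) (Steps.fwd (nat_lit 2560) (Steps.fwd (nat_lit 0) (Steps.fwd (nat_lit 2560) Steps.nil))) (nat_lit 60) (nat_lit 0),
  Rule.mk (nat_lit 3) (nat_lit 25) (Steps.bwd (nat_lit 0) (Steps.bwd (nat_lit 3) Steps.nil)) (nat_lit 60) (nat_lit 0),
  Rule.mk (nat_lit 4) (nat_lit 25) (Steps.bwd (nat_lit 0) (Steps.bwd (nat_lit 4) Steps.nil)) (nat_lit 60) (nat_lit 0),
  Rule.mk (nat_lit 2) (nat_lit 52) (Steps.bwd (nat_lit 3) (Steps.bwd (nat_lit 1) (Steps.bwd (nat_lit 2) (Steps.bwd (nat_lit 3) (Steps.bwd (nat_lit 1) Steps.nil))))) (nat_lit 8) (nat_lit 2),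
  Rule.mk (nat_lit 1) (nat_lit 52) (Steps.bwd (nat_lit 3) (Steps.fwd (nat_lit 1024) (Steps.bwd (nat_lit 1) (Steps.bwd (nat_lit 3) (Steps.bwd (nat_lit 2) Steps.nil))))) (nat_lit 9) (nat_lit 0),
  Rule.mk (nat_lit 4) (nat_lit 52) (Steps.bwd (nat_lit 3) (Steps.bwd (nat_lit 4) (Steps.fwd (nat_lit 1536) (Steps.fwd (nat_lit 2048) (Steps.fwd (nat_lit 1536) Steps.nil))))) (nat_lit 14) (nat_lit 0),
  Rule.mk (nat_lit 4) (nat_lit 79) (Steps.bwd (nat_lit 1) (Steps.bwd (nat_lit 2) (Steps.bwd (nat_lit 1) (Steps.fwd (nat_lit 2048) (Steps.bwd (nat_lit 2) (Steps.bwd (nat_lit 1) (Steps.fwd (nat_lit 2048) (Steps.bwd (nat_lit 2) Steps.nil)))))))) (nat_lit 16) (nat_lit 0),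
  Rule.mk (nat_lit 4) (nat_lit 52) (Steps.bwd (nat_lit 3) (Steps.bwd (nat_lit 4) (Steps.fwd (nat_lit 1536) (Steps.bwd (nat_lit 4) (Steps.fwd (nat_lit 1536) Steps.nil))))) (nat_lit 14) (nat_lit 0),
  Rule.mk (nat_lit 1) (nat_lit 52) (Steps.bwd (nat_lit 2) (Steps.bwd (nat_lit 3) (Steps.bwd (nat_lit 1) (Steps.fwd (nat_lit 1024) (Steps.fwd (nat_lit 1536) Steps.nil))))) (nat_lit 8) (nat_lit 1),
  Rule.mk (nat_lit 2) (nat_lit 79) (Steps.bwd (nat_lit 4) (Steps.fwd (nat_lit 512) (Steps.bwd (nat_lit 2) (Steps.bwd (nat_lit 1) (Steps.bwd (nat_lit 4) (Steps.bwd (nat_lit 2) (Steps.bwd (nat_lit 1) (Steps.fwd (nat_lit 2048) Steps.nil)))))))) (nat_lit 16) (nat_lit 8),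
  Rule.mk (nat_lit 4) (nat_lit 79) (Steps.bwd (nat_lit 1) (Steps.bwd (nat_lit 2) (Steps.bwd (nat_lit 4) (Steps.fwd (nat_lit 512) (Steps.bwd (nat_lit 2) (Steps.bwd (nat_lit 1) (Steps.bwd (nat_lit 4) (Steps.bwd (nat_lit 2) Steps.nil)))))))) (nat_lit 17) (nat_lit 3),
  Rule.mk (nat_lit 1) (nat_lit 79) (Steps.bwd (nat_lit 4) (Steps.bwd (nat_lit 2) (Steps.bwd (nat_lit 4) (Steps.bwd (nat_lit 1) (Steps.bwd (nat_lit 2) (Steps.bwd (nat_lit 4) (Steps.bwd (nat_lit 1) (Steps.bwd (nat_lit 2) Steps.nil)))))))) (nat_lit 17) (nat_lit 0),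
  Rule.mk (nat_lit 3) (nat_lit 52) (Steps.fwd (nat_lit 512) (Steps.bwd (nat_lit 3) (Steps.fwd (nat_lit 512) (Steps.fwd (nat_lit 1536) (Steps.bwd (nat_lit 1) Steps.nil))))) (nat_lit 10) (nat_lit 0),
  Rule.mk (nat_lit 4) (nat_lit 52) (Steps.bwd (nat_lit 5) (Steps.bwd (nat_lit 4) (Steps.bwd (nat_lit 5) (Steps.bwd (nat_lit 4) (Steps.fwd (nat_lit 2560) Steps.nil))))) (nat_lit 24) (nat_lit 1),
  Rule.mk (nat_lit 3) (nat_lit 124) (Steps.bwd (nat_lit 4) (Steps.fwd (nat_lit 2560) (Steps.fwd (nat_lit 1024) (Steps.bwd (nat_lit 3) (Steps.bwd (nat_lit 5) (Steps.bwd (nat_lit 4) (Steps.fwd (nat_lit 1024) (Steps.fwd (nat_lit 2560) (Steps.fwd (nat_lit 2048) (Steps.bwd (nat_lit 3) (Steps.fwd (nat_lit 1024) (Steps.fwd (nat_lit 2048) (Steps.fwd (nat_lit 2560) Steps.nil))))))))))))) (nat_lit 29) (nat_lit 3),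
  Rule.mk (nat_lit 2) (nat_lit 124) (Steps.bwd (nat_lit 5) (Steps.fwd (nat_lit 1024) (Steps.fwd (nat_lit 1536) (Steps.bwd (nat_lit 2) (Steps.fwd (nat_lit 2048) (Steps.fwd (nat_lit 1024) (Steps.bwd (nat_lit 3) (Steps.fwd (nat_lit 2560) (Steps.fwd (nat_lit 1536) (Steps.fwd (nat_lit 512) (Steps.fwd (nat_lit 1024) (Steps.fwd (nat_lit 2048) (Steps.fwd (nat_lit 1536) Steps.nil))))))))))))) (nat_lit 26) (nat_lit 5),
  Rule.mk (nat_lit 4) (nat_lit 124) (Steps.bwd (nat_lit 2) (Steps.fwd (nat_lit 1536) (Steps.bwd (nat_lit 5) (Steps.fwd (nat_lit 1536) (Steps.bwd (nat_lit 1) (Steps.bwd (nat_lit 2) (Steps.bwd (nat_lit 4) (Steps.bwd (nat_lit 3) (Steps.fwd (nat_lit 1024) (Steps.fwd (nat_lit 2560) (Steps.fwd (nat_lit 1024) (Steps.bwd (nat_lit 3) (Steps.fwd (nat_lit 1024) Steps.nil))))))))))))) (nat_lit 26) (nat_lit 10),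
  Rule.mk (nat_lit 5) (nat_lit 124) (Steps.bwd (nat_lit 2) (Steps.bwd (nat_lit 4) (Steps.fwd (nat_lit 2560) (Steps.bwd (nat_lit 3) (Steps.bwd (nat_lit 2) (Steps.fwd (nat_lit 2560) (Steps.bwd (nat_lit 4) (Steps.fwd (nat_lit 1536) (Steps.fwd (nat_lit 2560) (Steps.fwd (nat_lit 2048) (Steps.fwd (nat_lit 1024) (Steps.fwd (nat_lit 1536) (Steps.fwd (nat_lit 2048) Steps.nil))))))))))))) (nat_lit 28) (nat_lit 4)]
noncomputable def R_1 : List (Rule) := [Rule.mk (nat_lit 3) (nat_lit 124) (Steps.fwd (nat_lit 2560) (Steps.bwd (nat_lit 3) (Steps.fwd (nat_lit 512) (Steps.fwd (nat_lit 1024) (Steps.fwd (nat_lit 2048) (Steps.bwd (nat_lit 3) (Steps.bwd (nat_lit 2) (Steps.fwd (nat_lit 2560) (Steps.bwd (nat_lit 2) (Steps.bwd (nat_lit 3) (Steps.fwd (nat_lit 1024) (Steps.fwd (nat_lit 2048) (Steps.fwd (nat_lit 1024) Steps.nil))))))))))))) (nat_lit 26) (nat_lit 12),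
  Rule.mk (nat_lit 4) (nat_lit 52) (Steps.fwd (nat_lit 2560) (Steps.fwd (nat_lit 2048) (Steps.fwd (nat_lit 2560) (Steps.bwd (nat_lit 4) (Steps.bwd (nat_lit 5) Steps.nil))))) (nat_lit 24) (nat_lit 1),
  Rule.mk (nat_lit 4) (nat_lit 79) (Steps.bwd (nat_lit 2) (Steps.bwd (nat_lit 1) (Steps.fwd (nat_lit 2048) (Steps.bwd (nat_lit 2) (Steps.bwd (nat_lit 4) (Steps.bwd (nat_lit 1) (Steps.bwd (nat_lit 2) (Steps.bwd (nat_lit 1) Steps.nil)))))))) (nat_lit 16) (nat_lit 4),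
  Rule.mk (nat_lit 2) (nat_lit 52) (Steps.bwd (nat_lit 3) (Steps.bwd (nat_lit 1) (Steps.bwd (nat_lit 2) (Steps.fwd (nat_lit 1536) (Steps.fwd (nat_lit 512) Steps.nil))))) (nat_lit 8) (nat_lit 2),
  Rule.mk (nat_lit 1) (nat_lit 52) (Steps.bwd (nat_lit 3) (Steps.bwd (nat_lit 1) (Steps.fwd (nat_lit 1536) (Steps.fwd (nat_lit 512) (Steps.fwd (nat_lit 1536) Steps.nil))))) (nat_lit 10) (nat_lit 1),
  Rule.mk (nat_lit 3) (nat_lit 52) (Steps.bwd (nat_lit 1) (Steps.bwd (nat_lit 2) (Steps.fwd (nat_lit 1536) (Steps.fwd (nat_lit 512) (Steps.fwd (nat_lit 1024) Steps.nil))))) (nat_lit 8) (nat_lit 0),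
  Rule.mk (nat_lit 4) (nat_lit 79) (Steps.bwd (nat_lit 1) (Steps.bwd (nat_lit 2) (Steps.bwd (nat_lit 1) (Steps.fwd (nat_lit 2048) (Steps.bwd (nat_lit 2) (Steps.bwd (nat_lit 4) (Steps.bwd (nat_lit 1) (Steps.bwd (nat_lit 2) Steps.nil)))))))) (nat_lit 17) (nat_lit 6),
  Rule.mk (nat_lit 1) (nat_lit 52) (Steps.bwd (nat_lit 2) (Steps.bwd (nat_lit 1) (Steps.bwd (nat_lit 2) (Steps.bwd (nat_lit 1) (Steps.bwd (nat_lit 2) Steps.nil))))) (nat_lit 6) (nat_lit 1),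
  Rule.mk (nat_lit 4) (nat_lit 79) (Steps.bwd (nat_lit 2) (Steps.fwd (nat_lit 2048) (Steps.bwd (nat_lit 1) (Steps.fwd (nat_lit 1024) (Steps.fwd (nat_lit 512) (Steps.fwd (nat_lit 2048) (Steps.fwd (nat_lit 1024) (Steps.bwd (nat_lit 1) Steps.nil)))))))) (nat_lit 16) (nat_lit 7),
  Rule.mk (nat_lit 3) (nat_lit 124) (Steps.bwd (nat_lit 2) (Steps.fwd (nat_lit 2048) (Steps.fwd (nat_lit 1024) (Steps.bwd (nat_lit 3) (Steps.bwd (nat_lit 5) (Steps.fwd (nat_lit 1536) (Steps.bwd (nat_lit 1) (Steps.fwd (nat_lit 1024) (Steps.fwd (nat_lit 2048) (Steps.fwd (nat_lit 1536) (Steps.bwd (nat_lit 2) (Steps.bwd (nat_lit 5) (Steps.fwd (nat_lit 1024) Steps.nil))))))))))))) (nat_lit 26) (nat_lit 8),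
  Rule.mk (nat_lit 2) (nat_lit 124) (Steps.bwd (nat_lit 5) (Steps.fwd (nat_lit 2048) (Steps.bwd (nat_lit 3) (Steps.bwd (nat_lit 2) (Steps.bwd (nat_lit 4) (Steps.bwd (nat_lit 5) (Steps.fwd (nat_lit 1536) (Steps.fwd (nat_lit 2048) (Steps.fwd (nat_lit 2560) (Steps.fwd (nat_lit 1024) (Steps.fwd (nat_lit 1536) (Steps.fwd (nat_lit 2560) (Steps.fwd (nat_lit 2048) Steps.nil))))))))))))) (nat_lit 29) (nat_lit 10),
  Rule.mk (nat_lit 3) (nat_lit 124) (Steps.bwd (nat_lit 5) (Steps.fwd (nat_lit 2048) (Steps.bwd (nat_lit 2) (Steps.bwd (nat_lit 5) (Steps.fwd (nat_lit 2048) (Steps.fwd (nat_lit 1536) (Steps.fwd (nat_lit 1024) (Steps.fwd (nat_lit 2048) (Steps.bwd (nat_lit 5) (Steps.fwd (nat_lit 1536) (Steps.bwd (nat_lit 4) (Steps.fwd (nat_lit 2560) (Steps.fwd (nat_lit 1024) Steps.nil))))))))))))) (nat_lit 29) (nat_lit 7),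
  Rule.mk (nat_lit 4) (nat_lit 52) (Steps.bwd (nat_lit 5) (Steps.fwd (nat_lit 2048) (Steps.bwd (nat_lit 5) (Steps.bwd (nat_lit 4) (Steps.fwd (nat_lit 2560) Steps.nil))))) (nat_lit 24) (nat_lit 1),
  Rule.mk (nat_lit 3) (nat_lit 124) (Steps.bwd (nat_lit 2) (Steps.bwd (nat_lit 5) (Steps.fwd (nat_lit 2048) (Steps.bwd (nat_lit 3) (Steps.bwd (nat_lit 5) (Steps.bwd (nat_lit 4) (Steps.bwd (nat_lit 2) (Steps.fwd (nat_lit 1536) (Steps.fwd (nat_lit 2048) (Steps.fwd (nat_lit 2560) (Steps.bwd (nat_lit 2) (Steps.bwd (nat_lit 4) (Steps.fwd (nat_lit 2560) Steps.nil))))))))))))) (nat_lit 28) (nat_lit 8),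
  Rule.mk (nat_lit 4) (nat_lit 124) (Steps.bwd (nat_lit 2) (Steps.bwd (nat_lit 5) (Steps.fwd (nat_lit 2048) (Steps.bwd (nat_lit 3) (Steps.fwd (nat_lit 1024) (Steps.bwd (nat_lit 4) (Steps.bwd (nat_lit 5) (Steps.fwd (nat_lit 1536) (Steps.bwd (nat_lit 4) (Steps.bwd (nat_lit 5) (Steps.fwd (nat_lit 1024) (Steps.fwd (nat_lit 1536) (Steps.fwd (nat_lit 2560) Steps.nil))))))))))))) (nat_lit 29) (nat_lit 9),
  Rule.mk (nat_lit 5) (nat_lit 52) (Steps.bwd (nat_lit 4) (Steps.bwd (nat_lit 5) (Steps.fwd (nat_lit 2048) (Steps.fwd (nat_lit 2560) (Steps.bwd (nat_lit 4) Steps.nil))))) (nat_lit 24) (nat_lit 0),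
  Rule.mk (nat_lit 0) (nat_lit 133) (Steps.bwd (nat_lit 2) (Steps.fwd (nat_lit 2048) (Steps.fwd (nat_lit 2560) (Steps.fwd (nat_lit 1536) (Steps.fwd (nat_lit 1024) (Steps.bwd (nat_lit 5) (Steps.bwd (nat_lit 4) (Steps.bwd (nat_lit 3) (Steps.bwd (nat_lit 5) (Steps.bwd (nat_lit 4) (Steps.fwd (nat_lit 1024) (Steps.fwd (nat_lit 1536) (Steps.bwd (nat_lit 4) (Steps.fwd (nat_lit 2560) Steps.nil)))))))))))))) (nat_lit 28) (nat_lit 4),
  Rule.mk (nat_lit 2) (nat_lit 25) (Steps.bwd (nat_lit 0) (Steps.bwd (nat_lit 2) Steps.nil)) (nat_lit 60) (nat_lit 0),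
  Rule.mk (nat_lit 2) (nat_lit 124) (Steps.bwd (nat_lit 5) (Steps.bwd (nat_lit 2) (Steps.bwd (nat_lit 3) (Steps.bwd (nat_lit 2) (Steps.bwd (nat_lit 4) (Steps.fwd (nat_lit 1024) (Steps.fwd (nat_lit 1536) (Steps.fwd (nat_lit 2560) (Steps.bwd (nat_lit 3) (Steps.fwd (nat_lit 512) (Steps.fwd (nat_lit 1024) (Steps.fwd (nat_lit 2048) (Steps.bwd (nat_lit 3) Steps.nil))))))))))))) (nat_lit 26) (nat_lit 5),
  Rule.mk (nat_lit 3) (nat_lit 52) (Steps.bwd (nat_lit 5) (Steps.fwd (nat_lit 1536) (Steps.bwd (nat_lit 5) (Steps.fwd (nat_lit 1536) (Steps.fwd (nat_lit 2560) Steps.nil))))) (nat_lit 22) (nat_lit 1),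
  Rule.mk (nat_lit 1) (nat_lit 52) (Steps.bwd (nat_lit 2) (Steps.fwd (nat_lit 512) (Steps.bwd (nat_lit 2) (Steps.fwd (nat_lit 512) (Steps.fwd (nat_lit 1024) Steps.nil))))) (nat_lit 6) (nat_lit 1),
  Rule.mk (nat_lit 3) (nat_lit 52) (Steps.bwd (nat_lit 2) (Steps.fwd (nat_lit 512) (Steps.fwd (nat_lit 1536) (Steps.bwd (nat_lit 2) (Steps.bwd (nat_lit 1) Steps.nil))))) (nat_lit 9) (nat_lit 1),
  Rule.mk (nat_lit 4) (nat_lit 79) (Steps.bwd (nat_lit 2) (Steps.fwd (nat_lit 512) (Steps.bwd (nat_lit 4) (Steps.fwd (nat_lit 1024) (Steps.fwd (nat_lit 2048) (Steps.fwd (nat_lit 512) (Steps.fwd (nat_lit 1024) (Steps.bwd (nat_lit 1) Steps.nil)))))))) (nat_lit 16) (nat_lit 4),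
  Rule.mk (nat_lit 4) (nat_lit 79) (Steps.bwd (nat_lit 1) (Steps.bwd (nat_lit 2) (Steps.fwd (nat_lit 2048) (Steps.bwd (nat_lit 1) (Steps.fwd (nat_lit 1024) (Steps.fwd (nat_lit 512) (Steps.bwd (nat_lit 4) (Steps.bwd (nat_lit 2) Steps.nil)))))))) (nat_lit 17) (nat_lit 3),
  Rule.mk (nat_lit 2) (nat_lit 52) (Steps.bwd (nat_lit 3) (Steps.bwd (nat_lit 1) (Steps.bwd (nat_lit 2) (Steps.bwd (nat_lit 3) (Steps.fwd (nat_lit 512) Steps.nil))))) (nat_lit 8) (nat_lit 2),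
  Rule.mk (nat_lit 2) (nat_lit 52) (Steps.bwd (nat_lit 3) (Steps.bwd (nat_lit 1) (Steps.fwd (nat_lit 1024) (Steps.fwd (nat_lit 1536) (Steps.fwd (nat_lit 512) Steps.nil))))) (nat_lit 8) (nat_lit 2),
  Rule.mk (nat_lit 1) (nat_lit 52) (Steps.bwd (nat_lit 3) (Steps.bwd (nat_lit 1) (Steps.bwd (nat_lit 3) (Steps.bwd (nat_lit 1) (Steps.fwd (nat_lit 1536) Steps.nil))))) (nat_lit 10) (nat_lit 1),
  Rule.mk (nat_lit 5) (nat_lit 52) (Steps.bwd (nat_lit 3) (Steps.fwd (nat_lit 2560) (Steps.bwd (nat_lit 3) (Steps.fwd (nat_lit 2560) (Steps.bwd (nat_lit 3) Steps.nil))))) (nat_lit 22) (nat_lit 0),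
  Rule.mk (nat_lit 4) (nat_lit 124) (Steps.fwd (nat_lit 1024) (Steps.fwd (nat_lit 1536) (Steps.bwd (nat_lit 5) (Steps.fwd (nat_lit 1536) (Steps.fwd (nat_lit 512) (Steps.fwd (nat_lit 1024) (Steps.fwd (nat_lit 2048) (Steps.bwd (nat_lit 3) (Steps.bwd (nat_lit 2) (Steps.bwd (nat_lit 5) (Steps.bwd (nat_lit 2) (Steps.bwd (nat_lit 3) (Steps.bwd (nat_lit 2) Steps.nil))))))))))))) (nat_lit 26) (nat_lit 10),
  Rule.mk (nat_lit 3) (nat_lit 124) (Steps.bwd (nat_lit 2) (Steps.bwd (nat_lit 4) (Steps.bwd (nat_lit 2) (Steps.fwd (nat_lit 1536) (Steps.bwd (nat_lit 5) (Steps.bwd (nat_lit 3) (Steps.fwd (nat_lit 512) (Steps.bwd (nat_lit 2) (Steps.bwd (nat_lit 4) (Steps.fwd (nat_lit 1536) (Steps.fwd (nat_lit 1024) (Steps.fwd (nat_lit 2560) (Steps.fwd (nat_lit 1024) Steps.nil))))))))))))) (nat_lit 26) (nat_lit 8),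
  Rule.mk (nat_lit 2) (nat_lit 52) (Steps.bwd (nat_lit 1) (Steps.bwd (nat_lit 2) (Steps.fwd (nat_lit 512) (Steps.bwd (nat_lit 2) (Steps.bwd (nat_lit 1) Steps.nil))))) (nat_lit 6) (nat_lit 0),
  Rule.mk (nat_lit 5) (nat_lit 124) (Steps.fwd (nat_lit 1536) (Steps.bwd (nat_lit 2) (Steps.bwd (nat_lit 4) (Steps.bwd (nat_lit 2) (Steps.fwd (nat_lit 1536) (Steps.fwd (nat_lit 1024) (Steps.fwd (nat_lit 2560) (Steps.bwd (nat_lit 2) (Steps.bwd (nat_lit 3) (Steps.fwd (nat_lit 2048) (Steps.bwd (nat_lit 2) (Steps.bwd (nat_lit 1) (Steps.fwd (nat_lit 1536) Steps.nil))))))))))))) (nat_lit 27) (nat_lit 2),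
  Rule.mk (nat_lit 5) (nat_lit 124) (Steps.bwd (nat_lit 4) (Steps.fwd (nat_lit 1024) (Steps.fwd (nat_lit 1536) (Steps.fwd (nat_lit 2048) (Steps.fwd (nat_lit 2560) (Steps.bwd (nat_lit 2) (Steps.fwd (nat_lit 2048) (Steps.bwd (nat_lit 5) (Steps.fwd (nat_lit 1536) (Steps.bwd (nat_lit 2) (Steps.fwd (nat_lit 2560) (Steps.fwd (nat_lit 2048) (Steps.bwd (nat_lit 3) Steps.nil))))))))))))) (nat_lit 28) (nat_lit 13),
  Rule.mk (nat_lit 3) (nat_lit 124) (Steps.bwd (nat_lit 4) (Steps.fwd (nat_lit 2560) (Steps.fwd (nat_lit 1024) (Steps.fwd (nat_lit 1536) (Steps.bwd (nat_lit 5) (Steps.fwd (nat_lit 2048) (Steps.bwd (nat_lit 2) (Steps.fwd (nat_lit 2560) (Steps.fwd (nat_lit 2048) (Steps.fwd (nat_lit 1536) (Steps.bwd (nat_lit 2) (Steps.fwd (nat_lit 2048) (Steps.bwd (nat_lit 5) Steps.nil))))))))))))) (nat_lit 29) (nat_lit 3),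
  Rule.mk (nat_lit 4) (nat_lit 79) (Steps.bwd (nat_lit 2) (Steps.bwd (nat_lit 4) (Steps.bwd (nat_lit 1) (Steps.bwd (nat_lit 2) (Steps.fwd (nat_lit 512) (Steps.fwd (nat_lit 2048) (Steps.bwd (nat_lit 2) (Steps.bwd (nat_lit 1) Steps.nil)))))))) (nat_lit 16) (nat_lit 7),
  Rule.mk (nat_lit 5) (nat_lit 124) (Steps.bwd (nat_lit 3) (Steps.bwd (nat_lit 2) (Steps.bwd (nat_lit 4) (Steps.fwd (nat_lit 1024) (Steps.fwd (nat_lit 1536) (Steps.bwd (nat_lit 2) (Steps.bwd (nat_lit 5) (Steps.bwd (nat_lit 2) (Steps.bwd (nat_lit 3) (Steps.fwd (nat_lit 2048) (Steps.fwd (nat_lit 1024) (Steps.fwd (nat_lit 512) (Steps.bwd (nat_lit 3) Steps.nil))))))))))))) (nat_lit 27) (nat_lit 2),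
  Rule.mk (nat_lit 2) (nat_lit 124) (Steps.fwd (nat_lit 2560) (Steps.bwd (nat_lit 2) (Steps.bwd (nat_lit 3) (Steps.fwd (nat_lit 1024) (Steps.fwd (nat_lit 2048) (Steps.fwd (nat_lit 1024) (Steps.fwd (nat_lit 1536) (Steps.fwd (nat_lit 2560) (Steps.bwd (nat_lit 3) (Steps.fwd (nat_lit 512) (Steps.bwd (nat_lit 2) (Steps.bwd (nat_lit 4) (Steps.fwd (nat_lit 1536) Steps.nil))))))))))))) (nat_lit 26) (nat_lit 5),
  Rule.mk (nat_lit 3) (nat_lit 52) (Steps.bwd (nat_lit 4) (Steps.bwd (nat_lit 3) (Steps.fwd (nat_lit 2048) (Steps.bwd (nat_lit 3) (Steps.fwd (nat_lit 2048) Steps.nil))))) (nat_lit 14) (nat_lit 1),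
  Rule.mk (nat_lit 2) (nat_lit 124) (Steps.bwd (nat_lit 4) (Steps.fwd (nat_lit 1024) (Steps.bwd (nat_lit 3) (Steps.bwd (nat_lit 2) (Steps.fwd (nat_lit 2560) (Steps.fwd (nat_lit 1024) (Steps.bwd (nat_lit 3) (Steps.bwd (nat_lit 4) (Steps.fwd (nat_lit 1024) (Steps.fwd (nat_lit 512) (Steps.fwd (nat_lit 1536) (Steps.fwd (nat_lit 2560) (Steps.bwd (nat_lit 3) Steps.nil))))))))))))) (nat_lit 27) (nat_lit 4),
  Rule.mk (nat_lit 1) (nat_lit 34) (Steps.bwd (nat_lit 5) (Steps.fwd (nat_lit 512) (Steps.bwd (nat_lit 5) Steps.nil))) (nat_lit 20) (nat_lit 1),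
  Rule.mk (nat_lit 4) (nat_lit 124) (Steps.bwd (nat_lit 5) (Steps.bwd (nat_lit 3) (Steps.fwd (nat_lit 1024) (Steps.fwd (nat_lit 2560) (Steps.fwd (nat_lit 2048) (Steps.fwd (nat_lit 1536) (Steps.bwd (nat_lit 5) (Steps.bwd (nat_lit 4) (Steps.fwd (nat_lit 1024) (Steps.bwd (nat_lit 3) (Steps.fwd (nat_lit 2048) (Steps.fwd (nat_lit 2560) (Steps.fwd (nat_lit 1024) Steps.nil))))))))))))) (nat_lit 28) (nat_lit 6),
  Rule.mk (nat_lit 4) (nat_lit 79) (Steps.bwd (nat_lit 2) (Steps.fwd (nat_lit 2048) (Steps.fwd (nat_lit 512) (Steps.fwd (nat_lit 1024) (Steps.fwd (nat_lit 512) (Steps.bwd (nat_lit 4) (Steps.bwd (nat_lit 2) (Steps.fwd (nat_lit 512) Steps.nil)))))))) (nat_lit 16) (nat_lit 7),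
  Rule.mk (nat_lit 4) (nat_lit 52) (Steps.bwd (nat_lit 5) (Steps.fwd (nat_lit 2048) (Steps.fwd (nat_lit 2560) (Steps.bwd (nat_lit 4) (Steps.fwd (nat_lit 2560) Steps.nil))))) (nat_lit 24) (nat_lit 1),
  Rule.mk (nat_lit 3) (nat_lit 124) (Steps.bwd (nat_lit 5) (Steps.fwd (nat_lit 2048) (Steps.bwd (nat_lit 2) (Steps.fwd (nat_lit 2560) (Steps.fwd (nat_lit 2048) (Steps.bwd (nat_lit 3) (Steps.bwd (nat_lit 2) (Steps.fwd (nat_lit 2048) (Steps.fwd (nat_lit 2560) (Steps.fwd (nat_lit 1536) (Steps.fwd (nat_lit 2048) (Steps.fwd (nat_lit 2560) (Steps.fwd (nat_lit 1024) Steps.nil))))))))))))) (nat_lit 29) (nat_lit 7),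
  Rule.mk (nat_lit 1) (nat_lit 52) (Steps.bwd (nat_lit 2) (Steps.fwd (nat_lit 1536) (Steps.bwd (nat_lit 1) (Steps.fwd (nat_lit 1024) (Steps.bwd (nat_lit 3) Steps.nil))))) (nat_lit 8) (nat_lit 1),
  Rule.mk (nat_lit 4) (nat_lit 79) (Steps.bwd (nat_lit 2) (Steps.fwd (nat_lit 2048) (Steps.bwd (nat_lit 1) (Steps.fwd (nat_lit 1024) (Steps.bwd (nat_lit 1) (Steps.fwd (nat_lit 2048) (Steps.fwd (nat_lit 1024) (Steps.bwd (nat_lit 1) Steps.nil)))))))) (nat_lit 16) (nat_lit 7),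
  Rule.mk (nat_lit 5) (nat_lit 124) (Steps.bwd (nat_lit 2) (Steps.fwd (nat_lit 1536) (Steps.fwd (nat_lit 2048) (Steps.bwd (nat_lit 2) (Steps.fwd (nat_lit 512) (Steps.bwd (nat_lit 3) (Steps.bwd (nat_lit 5) (Steps.bwd (nat_lit 3) (Steps.bwd (nat_lit 2) (Steps.bwd (nat_lit 4) (Steps.bwd (nat_lit 2) (Steps.fwd (nat_lit 1536) (Steps.fwd (nat_lit 1024) Steps.nil))))))))))))) (nat_lit 27) (nat_lit 9),
  Rule.mk (nat_lit 1) (nat_lit 52) (Steps.bwd (nat_lit 3) (Steps.bwd (nat_lit 2) (Steps.bwd (nat_lit 1) (Steps.fwd (nat_lit 1536) (Steps.fwd (nat_lit 1024) Steps.nil))))) (nat_lit 9) (nat_lit 0),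
  Rule.mk (nat_lit 5) (nat_lit 52) (Steps.bwd (nat_lit 3) (Steps.fwd (nat_lit 2560) (Steps.fwd (nat_lit 1536) (Steps.fwd (nat_lit 2560) (Steps.fwd (nat_lit 1536) Steps.nil))))) (nat_lit 22) (nat_lit 0),
  Rule.mk (nat_lit 1) (nat_lit 52) (Steps.bwd (nat_lit 2) (Steps.fwd (nat_lit 512) (Steps.fwd (nat_lit 1024) (Steps.bwd (nat_lit 1) (Steps.fwd (nat_lit 1024) Steps.nil))))) (nat_lit 6) (nat_lit 1),
  Rule.mk (nat_lit 3) (nat_lit 52) (Steps.fwd (nat_lit 512) (Steps.bwd (nat_lit 2) (Steps.bwd (nat_lit 3) (Steps.fwd (nat_lit 512) (Steps.bwd (nat_lit 2) Steps.nil))))) (nat_lit 8) (nat_lit 0),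
  Rule.mk (nat_lit 4) (nat_lit 79) (Steps.bwd (nat_lit 2) (Steps.fwd (nat_lit 512) (Steps.fwd (nat_lit 2048) (Steps.fwd (nat_lit 1024) (Steps.bwd (nat_lit 4) (Steps.bwd (nat_lit 1) (Steps.fwd (nat_lit 1024) (Steps.fwd (nat_lit 512) Steps.nil)))))))) (nat_lit 16) (nat_lit 4),
  Rule.mk (nat_lit 5) (nat_lit 124) (Steps.bwd (nat_lit 2) (Steps.bwd (nat_lit 3) (Steps.bwd (nat_lit 2) (Steps.fwd (nat_lit 2048) (Steps.fwd (nat_lit 1024) (Steps.bwd (nat_lit 3) (Steps.bwd (nat_lit 5) (Steps.fwd (nat_lit 1536) (Steps.fwd (nat_lit 512) (Steps.fwd (nat_lit 1024) (Steps.fwd (nat_lit 2048) (Steps.bwd (nat_lit 3) (Steps.bwd (nat_lit 2) Steps.nil))))))))))))) (nat_lit 26) (nat_lit 6),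
  Rule.mk (nat_lit 5) (nat_lit 52) (Steps.bwd (nat_lit 4) (Steps.fwd (nat_lit 2560) (Steps.fwd (nat_lit 2048) (Steps.bwd (nat_lit 5) (Steps.fwd (nat_lit 2048) Steps.nil))))) (nat_lit 24) (nat_lit 0),
  Rule.mk (nat_lit 1) (nat_lit 79) (Steps.bwd (nat_lit 4) (Steps.fwd (nat_lit 1024) (Steps.fwd (nat_lit 2048) (Steps.fwd (nat_lit 512) (Steps.bwd (nat_lit 2) (Steps.fwd (nat_lit 512) (Steps.fwd (nat_lit 2048) (Steps.fwd (nat_lit 1024) Steps.nil)))))))) (nat_lit 16) (nat_lit 6),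
  Rule.mk (nat_lit 3) (nat_lit 52) (Steps.fwd (nat_lit 512) (Steps.bwd (nat_lit 2) (Steps.fwd (nat_lit 1536) (Steps.bwd (nat_lit 1) (Steps.bwd (nat_lit 2) Steps.nil))))) (nat_lit 8) (nat_lit 0),
  Rule.mk (nat_lit 4) (nat_lit 79) (Steps.bwd (nat_lit 2) (Steps.bwd (nat_lit 4) (Steps.fwd (nat_lit 512) (Steps.fwd (nat_lit 1024) (Steps.bwd (nat_lit 1) (Steps.fwd (nat_lit 2048) (Steps.fwd (nat_lit 1024) (Steps.fwd (nat_lit 512) Steps.nil)))))))) (nat_lit 16) (nat_lit 7),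
  Rule.mk (nat_lit 3) (nat_lit 52) (Steps.bwd (nat_lit 5) (Steps.fwd (nat_lit 1536) (Steps.fwd (nat_lit 2560) (Steps.bwd (nat_lit 3) (Steps.fwd (nat_lit 2560) Steps.nil))))) (nat_lit 22) (nat_lit 1),
  Rule.mk (nat_lit 4) (nat_lit 124) (Steps.fwd (nat_lit 1536) (Steps.bwd (nat_lit 5) (Steps.fwd (nat_lit 2048) (Steps.bwd (nat_lit 2) (Steps.fwd (nat_lit 1536) (Steps.bwd (nat_lit 4) (Steps.fwd (nat_lit 2560) (Steps.bwd (nat_lit 2) (Steps.fwd (nat_lit 2048) (Steps.fwd (nat_lit 2560) (Steps.fwd (nat_lit 1536) (Steps.bwd (nat_lit 2) (Steps.fwd (nat_lit 2560) Steps.nil))))))))))))) (nat_lit 28) (nat_lit 11),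
  Rule.mk (nat_lit 2) (nat_lit 124) (Steps.bwd (nat_lit 5) (Steps.fwd (nat_lit 2048) (Steps.fwd (nat_lit 1536) (Steps.fwd (nat_lit 2560) (Steps.fwd (nat_lit 2048) (Steps.fwd (nat_lit 1024) (Steps.fwd (nat_lit 1536) (Steps.fwd (nat_lit 2048) (Steps.bwd (nat_lit 5) (Steps.fwd (nat_lit 1024) (Steps.fwd (nat_lit 2048) (Steps.fwd (nat_lit 2560) (Steps.fwd (nat_lit 1536) Steps.nil))))))))))))) (nat_lit 28) (nat_lit 9),
  Rule.mk (nat_lit 3) (nat_lit 52) (Steps.bwd (nat_lit 4) (Steps.bwd (nat_lit 3) (Steps.fwd (nat_lit 2048) (Steps.fwd (nat_lit 1536) (Steps.fwd (nat_lit 2048) Steps.nil))))) (nat_lit 14) (nat_lit 1),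
  Rule.mk (nat_lit 2) (nat_lit 79) (Steps.bwd (nat_lit 4) (Steps.fwd (nat_lit 512) (Steps.fwd (nat_lit 1024) (Steps.fwd (nat_lit 512) (Steps.bwd (nat_lit 4) (Steps.bwd (nat_lit 2) (Steps.fwd (nat_lit 512) (Steps.fwd (nat_lit 2048) Steps.nil)))))))) (nat_lit 16) (nat_lit 8),
  Rule.mk (nat_lit 1) (nat_lit 79) (Steps.bwd (nat_lit 4) (Steps.fwd (nat_lit 1024) (Steps.fwd (nat_lit 2048) (Steps.bwd (nat_lit 1) (Steps.bwd (nat_lit 2) (Steps.fwd (nat_lit 512) (Steps.fwd (nat_lit 2048) (Steps.fwd (nat_lit 1024) Steps.nil)))))))) (nat_lit 16) (nat_lit 6)]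
noncomputable def R : List (List (Rule)) := [R_0, R_1]
def LW : List Word := [[], [0], [2], [4], [6], [8], [0], [1], [2], [3], [4], [5], [6], [7]]
def par : Par := ⟨9, 4, 13, 22, 511, 8191, 4194303⟩
theorem hpar : par.ok := by decide
theorem hR0_0 : lall (R) (fun l => lall l (ruleOK rels LW par)) = true := by decide +kernel
theorem hR0 : lall (R) (fun l => lall l (ruleOK rels LW par)) = true := hR0_0
theorem hR : RulesOK rels LW par R := rulesOK_of rfl hR0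
def cols : List (ℕ × ℕ) := [(512, 1), (1024, 2), (1536, 3), (2048, 4), (2560, 5)]
theorem hcols : lall cols (colOK rels LW par) = true := by decide +kernel
noncomputable def JS0 : List ℕ := [nat_lit 0x2e014ba0a309740a5c386b001534800065c031c0f277351b0116cdc753c06cec68345a071b8ee1a3b064ec7737178065932582e008b000305801170b6572e59009600964b40a00168b1680054ce11371a0b0002b960b250ae6736840da672b95899641858025a06964096c02022d968916cd46b2f9688800ba6333028c8042e902e988066304994c45c1e5e33174717cc86102178680008023117c600cc0053097859740e5d140330184000112002e97cc003105c00800b80100170b61cb860310181007028180e6230974b618b8600197cb614b85f0117cb810b85f0117cb80cb85e01178b808ba032e81,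
  nat_lit 0x808dc01011b8026e6a87440b8dc6d486d168b8da6c466c450c1146c6800381b81e6c662138054d86b647200b13980581dc04145e7b010517a1804b90c01372d15800deb11600122b46800d2a9167f10880f4023d084fc25140b100685278009e05008080603824020a0498808050200941dcc800321dd397800023001d3178065f031742068c25c4a5d2f840bc5c485c0096c51701c012e96d1970ce193316c1198d00d081a01c183316c00010016d116ce67f408904c25122050077329690968e421391690170e6753196cf974e47934970f1b0f41f3e1e4e45f2e9d,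
  nat_lit 0xa45a29cfd4146562d0a162514f0907094061e8f33cf20b1c25158b85cac13c93059e4f138f2031a828f13400790d225081107841043219808f130f2a2592d96e5a2dadd68a644064f12cfa090ba192c9821131328e18808f529162c14a28668c009e649f4f87b3c9e240b9127d3e024f67a3c4701004f0793bc63b81022043ba73b1e008783b450481cf0773ac4428a508783b810ec758600050801400847b009d051d0ea223f84d1c8d198c5342f4c80208f12e3e4d90c829b1108446243a1ce01c802003a0b0f20b3b820f274009c9f800e41f3e87904951c8141278159cdf1c90e891ea7428464e228fe22109c5e9c8582d431c5e1c44e7002003a898e803767101014e202029c4e0e866343880c026f001c5c8cd1a32199c0040037383808c4471373737234468d3724370811a8c36a33708c4a7d36b6,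
  nat_lit 0x128130a1ac16910022f52458a783ab559ab5289696a6f5722f4819588ad000619ccea71652b07c054622c028ace12098091489cc89008582a144c29cb4b75c9b57a00ca615daf198d167afc2e4002a291288c8150ea5cca8b45225118c00371ca9d8a6d363317e3e0180511886e301326838930ca442c951e8090f850e00438a00a1800150b23c281907230168700e02f844c08642df42ae592cd662f8a29f48031140942de0121404034e0a5369c150a5160944dd0d2653c02425c08a190a8441db41a100483415a130010428488602009049d040d432090364108901a080a0d42a06c00812804a550315012830580d015c080c05808ff58160301004fd55069246868fd51020c3e8e03a08024f152ad76bf5eabd228e3ed340078f8050200a4a62d15d6cb55289cfe003d808007f4051,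
  nat_lit 0x274ba5e4017cbc9dfe9c2e174bc7f2e97139f9360b0602d360d34c733b1d35f4029a01a6c0ea3522954c1f0200d35f07e411f08c44ac150a40e9a0126401ed30020e80931e92e024b8100a5d300a0b0293097f21c3e00d2c00f095000480095e4114e01d2c0501a592bdd36133c01529d842a203a552798a0c0192b15a31540bc600a4aa5127d4029201a601a9801a4ba2540a92488039a40020d00a4391bc1a9600a43882d2a034823f82541a95060845225138542c0501a3f7a642a120f8804203476e478152600469700238080a496d46a3888b12b148aa57150402401466c4f0fc240045eb]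
theorem S0_c : blocks (facts 9 4 13 22 511 8191 4194303 9 511 7 127 A R 32) 32 JS0 349 = true := by decide +kernel
theorem S0 : On (Step.{u} rels LW par A) 349 509 :=
  steps_of_blocks hpar hR S0_c (by decide +kernel)
theorem D0_c : allB (defOK 9 13 22 511 4194303 346 A K) 1 2 = true := by decide +kernel
theorem D0 : On (fun r => defOK par.W par.WL par.E par.mW par.mE 346 A K r = true) 256 384 :=
  On.of_allB D0_c
noncomputable def JW0 : List ℕ := [nat_lit 0x652fd9d658b3641bb669003f9af3e0e63dda43911e7551d749cf1bc495991a3addd68122481c3335ac3d10f13517441c7711d15f8cf1f51b731344b9ed4cdc0795266f912729eb4c52b4c8a547dd72dd9864906671d93fdae77dd448d21739354bdef4d92c771284a9e9709e749dc644dd07a9f17b137351e44c1387cd3a7d5d6761024f1de7ddee7a0d5799f07e5f27edf47d9f84f9fa5014251146,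
  nat_lit 0x5f24894609852581761c9a260641056818d6b5d1942c1972e1912b0ab2a0ae5f0be66cbd2e4e02d4c3471d31b46e1c1711c82557448118231584316967590ea389a23a1a5568c6684c5678f3275ad3d9a81315c57c4a0cc31459116f1c52017f2248b1cdcd1ac271f119704cc6a8cb439096e90a6fd0d72c8333859460a4298a26358a19d952c4b62c8a12d0ba2f19964cad2549b2bd0841d0b6f50c,
  nat_lit 0x340d952554385e88e231832414b058180501a558400f5590e45e17569188605d44f1c4781e973170745c0763b98e3b0e969d5b1082d5604414cc0308c467d782708d625843bc933b4f06a4351395e5843a0c14e54d500c97b21c881e4775f43f1d48a1ec6c1a96c1a56f0914f0994c088f223dab3c5a60a54868cca32081208845dd6e1516207c585957263caa63091198375b4685a8a0279866218b,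
  nat_lit 0x55c3e0f1540ec280a82c5442e041490480e03179218855d86114963141601154a0701e53420]
theorem W0_c : blocks (rows 9 4 13 22 511 8191 4194303 10 1023 50 A 509 81 cols 25) 25 JW0 0 = true := by decide +kernel
theorem W0 : On (Row.{u} rels LW par A 509 81 cols) 0 100 :=
  rows_of_blocks hpar (by decide) hcols W0_c (by decide +kernel)
theorem idx : Idx.{u} rels [[0], [2], [4], [6], [8]] [[0], [2], [4], [6]] 81 :=
  idx_of_cert hpar hR (K := K) (by decide +kernel) (T := 346) (T' := 384) (by decide) D0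
    (subs := [1,2,3,4]) (by decide +kernel) (T1 := 349) (by decide) (N := 509) S0
    (by decide) (n' := 100) (by decide) W0 (by decide +kernel) (by decide +kernel)
end T2
theorem b2 : Bound.{u} rels [[0], [2], [4], [6], [8]] 29160 := .of_idx T2.idx b3 (by decide)
namespace T1
noncomputable def A_0 : List (ℕ) := [nat_lit 0x24847a3f28f44851c0882380b9444582914543228c06491808903008c02c51816044a2514944a09285461511882a0894540728603060c058c160b102c1608580e20b09c444220c882f0910525220b0a2f1a188c4c1118565230d06340d946837313c9832c94cc591e0cb0583160223138a082707184e3c289c7421b8dca372994a63a194c8011d88ca401d8c762628ec9811e0f083c1894984c213074110894a3a071442170890566120348240b88622530c43461a8fc6351a886a3528d450514064c28148c500f283c0860781080f07841e08206c5820d85cc1b158c561220ac8411f8b06421310841020a43c614850c2c0f0c4c0e10981a31185021e0f143c1a20384a1070946250c904a2d30b42a40a87c81f0a142806205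00e30b840c060998140c3030182060b482d0e0c5a2d08b43e20f84861f05143e10284c0c50a868a190408320818681240e070c1c0584380330241660588042010041a0b10481651002c60b050c2606104c122080246090404240830340a60281c2110888220730440c10501440502040802300802100804801001400002000003000004000004006f0994be123998a4b3298da6c21b4da32f1b8a6b2b0c8e471170865301706412094bc5e3180c04341a0a613084d66b1990a253219044b2590c663299ca443399c66a3504d269116cb6131188a572b98843928b85c60a94065a2d14ba5d193c9a1190cc61827106c3610743a31b9548542a0c903230f87c3110f44221c18442220308a424924a4224106e302128943230a82180c10681618bc884178bc42423046834113c9e12c96443c2c10762708c46e12994c4402018763b108478610930c3a1d1042211830483188c48351a845028103c1e30d86c22b15887e3f208c842148a422c16102626088c4620f07880a070c082510502831005c8200614062d10543e10a8546190c84341a107038506880c120590061308402030282420309140a0d1010105010448050390040a100c0c30101420202140203180404200804c00,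
  nat_lit 0x378cde6811bcde4379b0c6f3794de5f197c8622f97c85f2218be5f297ccc6331984662b10cc661998cc13312c6653294ca611194ca4329b4a6c3608d86d09b0b633619c46d3718dc6b11b8bc43718466e3404dc560958a452b0e44562b18ac47211c8e5238bcc471318865c210c5c3219042432b84b85b29707e62e104857119882571104c422f18025e3508c0621980d06341446682d90c2453184c4435968c6b2890c8511144c81288ccc512818c84b092c6062598c4632518c663198cc6131948452290ca45209486c629138c673384ce6a21a8aa6351a8a6a3490d26919a4d2534950c691e98b64931887232b8b82391c905c1f30e45c217120a502810a03309409a22816845a1e90b4450968ba62e97445d2010ba5809746452693464d2c909a483134542198f8a331990663219389c12711444e27149c2d28d88031b0d82360e983a0928747040e83021d2c94aa4911547032a9502552794a83811503021913c8321f087c5320f89011f0f463d]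
noncomputable def A : List (List (ℕ)) := [A_0]
noncomputable def K_0 : List (ℕ) := [nat_lit 0xb75a2d36aaf55ead60ac5b2d75cad552bf61b6d8a9d64aad3e6933a9d9e914798566bb509ad2e9b2cadcf6813fb34de8339b2c86c72f91516892d974aea54398d2a4f36a651a513e9c5462d1f91cf241269947a35298ed0a55108ac7293119244a273b8c4ea29198742e110d92c6e151787c1a190983c160903814060000]
noncomputable def K : List (List (ℕ)) := [K_0]
noncomputable def R_0 : List (Rule) := [Rule.mk (nat_lit 4) (nat_lit 48) (Steps.bwd (nat_lit 6) (Steps.fwd (nat_lit 512) (Steps.fwd (nat_lit 2048) (Steps.fwd (nat_lit 3072) Steps.nil)))) (nat_lit 32) (nat_lit 4),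
  Rule.mk (nat_lit 1) (nat_lit 48) (Steps.fwd (nat_lit 2048) (Steps.bwd (nat_lit 6) (Steps.fwd (nat_lit 2048) (Steps.fwd (nat_lit 3072) Steps.nil)))) (nat_lit 32) (nat_lit 1),
  Rule.mk (nat_lit 6) (nat_lit 58) (Steps.bwd (nat_lit 2) (Steps.bwd (nat_lit 6) (Steps.fwd (nat_lit 1024) (Steps.fwd (nat_lit 3072) (Steps.fwd (nat_lit 1024) Steps.nil))))) (nat_lit 34) (nat_lit 0),
  Rule.mk (nat_lit 1) (nat_lit 38) (Steps.bwd (nat_lit 5) (Steps.fwd (nat_lit 512) (Steps.fwd (nat_lit 2560) Steps.nil))) (nat_lit 20) (nat_lit 1),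
  Rule.mk (nat_lit 2) (nat_lit 58) (Steps.bwd (nat_lit 1) (Steps.bwd (nat_lit 2) (Steps.fwd (nat_lit 512) (Steps.fwd (nat_lit 1024) (Steps.fwd (nat_lit 512) Steps.nil))))) (nat_lit 6) (nat_lit 0),
  Rule.mk (nat_lit 1) (nat_lit 58) (Steps.bwd (nat_lit 2) (Steps.bwd (nat_lit 3) (Steps.fwd (nat_lit 512) (Steps.fwd (nat_lit 1024) (Steps.fwd (nat_lit 1536) Steps.nil))))) (nat_lit 8) (nat_lit 1),
  Rule.mk (nat_lit 6) (nat_lit 48) (Steps.bwd (nat_lit 4) (Steps.bwd (nat_lit 1) (Steps.fwd (nat_lit 3072) (Steps.fwd (nat_lit 2048) Steps.nil)))) (nat_lit 33) (nat_lit 3),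
  Rule.mk (nat_lit 2) (nat_lit 88) (Steps.bwd (nat_lit 4) (Steps.bwd (nat_lit 1) (Steps.bwd (nat_lit 2) (Steps.fwd (nat_lit 512) (Steps.fwd (nat_lit 2048) (Steps.fwd (nat_lit 1024) (Steps.fwd (nat_lit 512) (Steps.fwd (nat_lit 2048) Steps.nil)))))))) (nat_lit 16) (nat_lit 8),
  Rule.mk (nat_lit 1) (nat_lit 88) (Steps.fwd (nat_lit 1024) (Steps.bwd (nat_lit 4) (Steps.bwd (nat_lit 1) (Steps.bwd (nat_lit 2) (Steps.fwd (nat_lit 512) (Steps.fwd (nat_lit 2048) (Steps.fwd (nat_lit 1024) (Steps.fwd (nat_lit 2048) Steps.nil)))))))) (nat_lit 17) (nat_lit 4),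
  Rule.mk (nat_lit 6) (nat_lit 48) (Steps.fwd (nat_lit 2048) (Steps.fwd (nat_lit 3072) (Steps.bwd (nat_lit 1) (Steps.bwd (nat_lit 4) Steps.nil)))) (nat_lit 32) (nat_lit 3),
  Rule.mk (nat_lit 6) (nat_lit 88) (Steps.bwd (nat_lit 2) (Steps.bwd (nat_lit 5) (Steps.bwd (nat_lit 6) (Steps.fwd (nat_lit 1024) (Steps.fwd (nat_lit 2560) (Steps.fwd (nat_lit 3072) (Steps.fwd (nat_lit 1024) (Steps.fwd (nat_lit 2560) Steps.nil)))))))) (nat_lit 36) (nat_lit 0),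
  Rule.mk (nat_lit 1) (nat_lit 38) (Steps.bwd (nat_lit 5) (Steps.bwd (nat_lit 1) (Steps.fwd (nat_lit 2560) Steps.nil))) (nat_lit 20) (nat_lit 1),
  Rule.mk (nat_lit 3) (nat_lit 58) (Steps.bwd (nat_lit 1) (Steps.bwd (nat_lit 3) (Steps.fwd (nat_lit 512) (Steps.fwd (nat_lit 1536) (Steps.fwd (nat_lit 512) Steps.nil))))) (nat_lit 10) (nat_lit 0),
  Rule.mk (nat_lit 2) (nat_lit 58) (Steps.bwd (nat_lit 3) (Steps.bwd (nat_lit 1) (Steps.bwd (nat_lit 2) (Steps.fwd (nat_lit 1536) (Steps.fwd (nat_lit 512) Steps.nil))))) (nat_lit 8) (nat_lit 2),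
  Rule.mk (nat_lit 2) (nat_lit 58) (Steps.bwd (nat_lit 1) (Steps.fwd (nat_lit 1024) (Steps.bwd (nat_lit 1) (Steps.fwd (nat_lit 1024) (Steps.fwd (nat_lit 512) Steps.nil))))) (nat_lit 6) (nat_lit 0),
  Rule.mk (nat_lit 3) (nat_lit 58) (Steps.bwd (nat_lit 1) (Steps.fwd (nat_lit 1024) (Steps.fwd (nat_lit 1536) (Steps.bwd (nat_lit 1) (Steps.fwd (nat_lit 1024) Steps.nil))))) (nat_lit 8) (nat_lit 0),
  Rule.mk (nat_lit 3) (nat_lit 58) (Steps.bwd (nat_lit 4) (Steps.bwd (nat_lit 3) (Steps.fwd (nat_lit 2048) (Steps.fwd (nat_lit 1536) (Steps.fwd (nat_lit 2048) Steps.nil))))) (nat_lit 14) (nat_lit 1),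
  Rule.mk (nat_lit 5) (nat_lit 128) (Steps.bwd (nat_lit 6) (Steps.bwd (nat_lit 5) (Steps.bwd (nat_lit 1) (Steps.bwd (nat_lit 2) (Steps.fwd (nat_lit 512) (Steps.bwd (nat_lit 6) (Steps.fwd (nat_lit 1024) (Steps.fwd (nat_lit 2048) (Steps.fwd (nat_lit 1536) (Steps.fwd (nat_lit 3072) (Steps.fwd (nat_lit 1536) (Steps.fwd (nat_lit 2048) Steps.nil)))))))))))) (nat_lit 41) (nat_lit 8),
  Rule.mk (nat_lit 2) (nat_lit 108) (Steps.bwd (nat_lit 5) (Steps.bwd (nat_lit 1) (Steps.bwd (nat_lit 2) (Steps.fwd (nat_lit 512) (Steps.fwd (nat_lit 2560) (Steps.fwd (nat_lit 1024) (Steps.fwd (nat_lit 3072) (Steps.bwd (nat_lit 1) (Steps.fwd (nat_lit 3072) (Steps.fwd (nat_lit 2560) Steps.nil)))))))))) (nat_lit 39) (nat_lit 7),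
  Rule.mk (nat_lit 1) (nat_lit 128) (Steps.bwd (nat_lit 2) (Steps.fwd (nat_lit 512) (Steps.bwd (nat_lit 5) (Steps.bwd (nat_lit 6) (Steps.fwd (nat_lit 2560) (Steps.fwd (nat_lit 2048) (Steps.fwd (nat_lit 1536) (Steps.fwd (nat_lit 3072) (Steps.fwd (nat_lit 1536) (Steps.fwd (nat_lit 2048) (Steps.bwd (nat_lit 2) (Steps.fwd (nat_lit 3072) Steps.nil)))))))))))) (nat_lit 40) (nat_lit 1),
  Rule.mk (nat_lit 6) (nat_lit 58) (Steps.bwd (nat_lit 2) (Steps.fwd (nat_lit 3072) (Steps.fwd (nat_lit 1024) (Steps.bwd (nat_lit 6) (Steps.fwd (nat_lit 1024) Steps.nil))))) (nat_lit 34) (nat_lit 0),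
  Rule.mk (nat_lit 6) (nat_lit 48) (Steps.bwd (nat_lit 1) (Steps.fwd (nat_lit 2048) (Steps.fwd (nat_lit 3072) (Steps.bwd (nat_lit 4) Steps.nil)))) (nat_lit 32) (nat_lit 0),
  Rule.mk (nat_lit 6) (nat_lit 108) (Steps.bwd (nat_lit 5) (Steps.bwd (nat_lit 2) (Steps.bwd (nat_lit 5) (Steps.fwd (nat_lit 512) (Steps.fwd (nat_lit 1024) (Steps.fwd (nat_lit 512) (Steps.fwd (nat_lit 2560) (Steps.fwd (nat_lit 1024) (Steps.fwd (nat_lit 3072) (Steps.bwd (nat_lit 1) Steps.nil)))))))))) (nat_lit 39) (nat_lit 5),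
  Rule.mk (nat_lit 4) (nat_lit 128) (Steps.bwd (nat_lit 5) (Steps.fwd (nat_lit 3072) (Steps.bwd (nat_lit 5) (Steps.fwd (nat_lit 512) (Steps.fwd (nat_lit 1024) (Steps.bwd (nat_lit 1) (Steps.fwd (nat_lit 3072) (Steps.bwd (nat_lit 2) (Steps.fwd (nat_lit 2048) (Steps.fwd (nat_lit 1536) (Steps.bwd (nat_lit 6) (Steps.fwd (nat_lit 1536) Steps.nil)))))))))))) (nat_lit 41) (nat_lit 7),
  Rule.mk (nat_lit 3) (nat_lit 58) (Steps.bwd (nat_lit 2) (Steps.fwd (nat_lit 512) (Steps.fwd (nat_lit 1536) (Steps.bwd (nat_lit 2) (Steps.fwd (nat_lit 512) Steps.nil))))) (nat_lit 9) (nat_lit 1),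
  Rule.mk (nat_lit 2) (nat_lit 58) (Steps.bwd (nat_lit 1) (Steps.bwd (nat_lit 2) (Steps.fwd (nat_lit 512) (Steps.bwd (nat_lit 2) (Steps.fwd (nat_lit 512) Steps.nil))))) (nat_lit 6) (nat_lit 0),
  Rule.mk (nat_lit 5) (nat_lit 108) (Steps.fwd (nat_lit 1024) (Steps.bwd (nat_lit 5) (Steps.fwd (nat_lit 3072) (Steps.fwd (nat_lit 512) (Steps.fwd (nat_lit 3072) (Steps.fwd (nat_lit 1024) (Steps.fwd (nat_lit 2560) (Steps.fwd (nat_lit 512) (Steps.bwd (nat_lit 2) (Steps.bwd (nat_lit 1) Steps.nil)))))))))) (nat_lit 38) (nat_lit 4),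
  Rule.mk (nat_lit 5) (nat_lit 58) (Steps.bwd (nat_lit 3) (Steps.fwd (nat_lit 2560) (Steps.fwd (nat_lit 1536) (Steps.bwd (nat_lit 5) (Steps.fwd (nat_lit 1536) Steps.nil))))) (nat_lit 22) (nat_lit 0),
  Rule.mk (nat_lit 5) (nat_lit 138) (Steps.fwd (nat_lit 1024) (Steps.bwd (nat_lit 3) (Steps.bwd (nat_lit 2) (Steps.fwd (nat_lit 2048) (Steps.fwd (nat_lit 1024) (Steps.fwd (nat_lit 1536) (Steps.bwd (nat_lit 5) (Steps.bwd (nat_lit 3) (Steps.bwd (nat_lit 1) (Steps.bwd (nat_lit 2) (Steps.fwd (nat_lit 2048) (Steps.fwd (nat_lit 1536) (Steps.bwd (nat_lit 2) Steps.nil))))))))))))) (nat_lit 26) (nat_lit 6),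
  Rule.mk (nat_lit 5) (nat_lit 38) (Steps.bwd (nat_lit 1) (Steps.fwd (nat_lit 2560) (Steps.bwd (nat_lit 1) Steps.nil))) (nat_lit 20) (nat_lit 0),
  Rule.mk (nat_lit 3) (nat_lit 58) (Steps.bwd (nat_lit 1) (Steps.bwd (nat_lit 3) (Steps.bwd (nat_lit 1) (Steps.fwd (nat_lit 1536) (Steps.bwd (nat_lit 1) Steps.nil))))) (nat_lit 10) (nat_lit 0),
  Rule.mk (nat_lit 2) (nat_lit 58) (Steps.fwd (nat_lit 1536) (Steps.fwd (nat_lit 512) (Steps.bwd (nat_lit 2) (Steps.fwd (nat_lit 1536) (Steps.fwd (nat_lit 512) Steps.nil))))) (nat_lit 8) (nat_lit 2),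
  Rule.mk (nat_lit 1) (nat_lit 58) (Steps.bwd (nat_lit 2) (Steps.fwd (nat_lit 512) (Steps.fwd (nat_lit 1024) (Steps.bwd (nat_lit 1) (Steps.fwd (nat_lit 1024) Steps.nil))))) (nat_lit 6) (nat_lit 1),
  Rule.mk (nat_lit 3) (nat_lit 58) (Steps.fwd (nat_lit 512) (Steps.bwd (nat_lit 2) (Steps.bwd (nat_lit 3) (Steps.bwd (nat_lit 1) (Steps.bwd (nat_lit 2) Steps.nil))))) (nat_lit 8) (nat_lit 0),
  Rule.mk (nat_lit 4) (nat_lit 138) (Steps.bwd (nat_lit 2) (Steps.bwd (nat_lit 3) (Steps.fwd (nat_lit 2560) (Steps.fwd (nat_lit 1536) (Steps.bwd (nat_lit 1) (Steps.fwd (nat_lit 1024) (Steps.bwd (nat_lit 4) (Steps.bwd (nat_lit 3) (Steps.fwd (nat_lit 1024) (Steps.fwd (nat_lit 2560) (Steps.bwd (nat_lit 2) (Steps.fwd (nat_lit 1536) (Steps.fwd (nat_lit 1024) Steps.nil))))))))))))) (nat_lit 26) (nat_lit 10),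
  Rule.mk (nat_lit 2) (nat_lit 108) (Steps.bwd (nat_lit 5) (Steps.bwd (nat_lit 6) (Steps.bwd (nat_lit 1) (Steps.bwd (nat_lit 6) (Steps.bwd (nat_lit 2) (Steps.bwd (nat_lit 5) (Steps.bwd (nat_lit 1) (Steps.fwd (nat_lit 1024) (Steps.bwd (nat_lit 1) (Steps.fwd (nat_lit 2560) Steps.nil)))))))))) (nat_lit 38) (nat_lit 5),
  Rule.mk (nat_lit 6) (nat_lit 138) (Steps.bwd (nat_lit 5) (Steps.bwd (nat_lit 3) (Steps.bwd (nat_lit 6) (Steps.fwd (nat_lit 1024) (Steps.fwd (nat_lit 2048) (Steps.fwd (nat_lit 1536) (Steps.fwd (nat_lit 512) (Steps.fwd (nat_lit 1024) (Steps.fwd (nat_lit 2048) (Steps.fwd (nat_lit 1024) (Steps.fwd (nat_lit 3072) (Steps.fwd (nat_lit 1536) (Steps.fwd (nat_lit 2560) Steps.nil))))))))))))) (nat_lit 42) (nat_lit 8),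
  Rule.mk (nat_lit 6) (nat_lit 88) (Steps.bwd (nat_lit 2) (Steps.fwd (nat_lit 2560) (Steps.fwd (nat_lit 3072) (Steps.fwd (nat_lit 1024) (Steps.bwd (nat_lit 5) (Steps.bwd (nat_lit 6) (Steps.bwd (nat_lit 2) (Steps.bwd (nat_lit 5) Steps.nil)))))))) (nat_lit 36) (nat_lit 0),
  Rule.mk (nat_lit 6) (nat_lit 58) (Steps.bwd (nat_lit 2) (Steps.bwd (nat_lit 6) (Steps.bwd (nat_lit 2) (Steps.bwd (nat_lit 6) (Steps.bwd (nat_lit 2) Steps.nil))))) (nat_lit 34) (nat_lit 0),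
  Rule.mk (nat_lit 3) (nat_lit 138) (Steps.bwd (nat_lit 4) (Steps.fwd (nat_lit 1024) (Steps.bwd (nat_lit 6) (Steps.bwd (nat_lit 3) (Steps.fwd (nat_lit 2560) (Steps.fwd (nat_lit 3072) (Steps.fwd (nat_lit 2560) (Steps.bwd (nat_lit 3) (Steps.fwd (nat_lit 3072) (Steps.fwd (nat_lit 1024) (Steps.fwd (nat_lit 2048) (Steps.fwd (nat_lit 1024) (Steps.fwd (nat_lit 512) Steps.nil))))))))))))) (nat_lit 43) (nat_lit 1),
  Rule.mk (nat_lit 4) (nat_lit 58) (Steps.bwd (nat_lit 3) (Steps.fwd (nat_lit 2048) (Steps.fwd (nat_lit 1536) (Steps.bwd (nat_lit 4) (Steps.fwd (nat_lit 1536) Steps.nil))))) (nat_lit 14) (nat_lit 0),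
  Rule.mk (nat_lit 4) (nat_lit 128) (Steps.fwd (nat_lit 2560) (Steps.fwd (nat_lit 3072) (Steps.fwd (nat_lit 2560) (Steps.fwd (nat_lit 512) (Steps.fwd (nat_lit 1024) (Steps.bwd (nat_lit 1) (Steps.fwd (nat_lit 3072) (Steps.fwd (nat_lit 1024) (Steps.bwd (nat_lit 4) (Steps.bwd (nat_lit 3) (Steps.bwd (nat_lit 6) (Steps.bwd (nat_lit 3) Steps.nil)))))))))))) (nat_lit 41) (nat_lit 7),
  Rule.mk (nat_lit 4) (nat_lit 88) (Steps.fwd (nat_lit 1024) (Steps.fwd (nat_lit 2048) (Steps.fwd (nat_lit 512) (Steps.bwd (nat_lit 2) (Steps.fwd (nat_lit 512) (Steps.fwd (nat_lit 2048) (Steps.fwd (nat_lit 1024) (Steps.bwd (nat_lit 1) Steps.nil)))))))) (nat_lit 16) (nat_lit 7),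
  Rule.mk (nat_lit 6) (nat_lit 138) (Steps.bwd (nat_lit 2) (Steps.fwd (nat_lit 2048) (Steps.bwd (nat_lit 3) (Steps.bwd (nat_lit 1) (Steps.bwd (nat_lit 2) (Steps.fwd (nat_lit 2048) (Steps.bwd (nat_lit 2) (Steps.bwd (nat_lit 6) (Steps.bwd (nat_lit 3) (Steps.fwd (nat_lit 2560) (Steps.bwd (nat_lit 6) (Steps.fwd (nat_lit 2560) (Steps.bwd (nat_lit 3) Steps.nil))))))))))))) (nat_lit 42) (nat_lit 11),
  Rule.mk (nat_lit 4) (nat_lit 88) (Steps.bwd (nat_lit 2) (Steps.fwd (nat_lit 2048) (Steps.bwd (nat_lit 1) (Steps.bwd (nat_lit 2) (Steps.fwd (nat_lit 512) (Steps.bwd (nat_lit 4) (Steps.fwd (nat_lit 1024) (Steps.fwd (nat_lit 512) Steps.nil)))))))) (nat_lit 16) (nat_lit 7),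
  Rule.mk (nat_lit 3) (nat_lit 58) (Steps.fwd (nat_lit 2048) (Steps.fwd (nat_lit 1536) (Steps.fwd (nat_lit 2048) (Steps.bwd (nat_lit 3) (Steps.bwd (nat_lit 4) Steps.nil))))) (nat_lit 14) (nat_lit 1),
  Rule.mk (nat_lit 1) (nat_lit 58) (Steps.bwd (nat_lit 3) (Steps.fwd (nat_lit 1024) (Steps.fwd (nat_lit 512) (Steps.fwd (nat_lit 1536) (Steps.fwd (nat_lit 1024) Steps.nil))))) (nat_lit 9) (nat_lit 0),
  Rule.mk (nat_lit 4) (nat_lit 138) (Steps.bwd (nat_lit 3) (Steps.fwd (nat_lit 1024) (Steps.fwd (nat_lit 2560) (Steps.fwd (nat_lit 1024) (Steps.fwd (nat_lit 1536) (Steps.bwd (nat_lit 2) (Steps.bwd (nat_lit 4) (Steps.bwd (nat_lit 2) (Steps.bwd (nat_lit 3) (Steps.fwd (nat_lit 2560) (Steps.fwd (nat_lit 1536) (Steps.bwd (nat_lit 1) (Steps.fwd (nat_lit 1024) Steps.nil))))))))))))) (nat_lit 26) (nat_lit 3),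
  Rule.mk (nat_lit 5) (nat_lit 58) (Steps.bwd (nat_lit 4) (Steps.bwd (nat_lit 5) (Steps.fwd (nat_lit 2048) (Steps.fwd (nat_lit 2560) (Steps.fwd (nat_lit 2048) Steps.nil))))) (nat_lit 24) (nat_lit 0),
  Rule.mk (nat_lit 1) (nat_lit 88) (Steps.bwd (nat_lit 4) (Steps.bwd (nat_lit 2) (Steps.fwd (nat_lit 2048) (Steps.bwd (nat_lit 1) (Steps.fwd (nat_lit 1024) (Steps.fwd (nat_lit 512) (Steps.bwd (nat_lit 4) (Steps.bwd (nat_lit 2) Steps.nil)))))))) (nat_lit 16) (nat_lit 6),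
  Rule.mk (nat_lit 3) (nat_lit 58) (Steps.bwd (nat_lit 2) (Steps.fwd (nat_lit 512) (Steps.bwd (nat_lit 3) (Steps.fwd (nat_lit 1024) (Steps.bwd (nat_lit 1) Steps.nil))))) (nat_lit 9) (nat_lit 1),
  Rule.mk (nat_lit 2) (nat_lit 58) (Steps.bwd (nat_lit 1) (Steps.bwd (nat_lit 2) (Steps.fwd (nat_lit 512) (Steps.fwd (nat_lit 1024) (Steps.bwd (nat_lit 1) Steps.nil))))) (nat_lit 6) (nat_lit 0),
  Rule.mk (nat_lit 3) (nat_lit 58) (Steps.bwd (nat_lit 1) (Steps.fwd (nat_lit 1536) (Steps.fwd (nat_lit 512) (Steps.fwd (nat_lit 1536) (Steps.bwd (nat_lit 1) Steps.nil))))) (nat_lit 10) (nat_lit 0),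
  Rule.mk (nat_lit 6) (nat_lit 48) (Steps.bwd (nat_lit 4) (Steps.bwd (nat_lit 6) (Steps.fwd (nat_lit 512) (Steps.bwd (nat_lit 4) Steps.nil)))) (nat_lit 32) (nat_lit 3),
  Rule.mk (nat_lit 6) (nat_lit 48) (Steps.bwd (nat_lit 1) (Steps.bwd (nat_lit 4) (Steps.bwd (nat_lit 6) (Steps.fwd (nat_lit 2048) Steps.nil)))) (nat_lit 32) (nat_lit 0),
  Rule.mk (nat_lit 4) (nat_lit 48) (Steps.bwd (nat_lit 1) (Steps.fwd (nat_lit 3072) (Steps.fwd (nat_lit 2048) (Steps.fwd (nat_lit 3072) Steps.nil)))) (nat_lit 33) (nat_lit 4),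
  Rule.mk (nat_lit 4) (nat_lit 88) (Steps.bwd (nat_lit 2) (Steps.fwd (nat_lit 2048) (Steps.fwd (nat_lit 512) (Steps.fwd (nat_lit 1024) (Steps.bwd (nat_lit 1) (Steps.fwd (nat_lit 2048) (Steps.fwd (nat_lit 1024) (Steps.fwd (nat_lit 512) Steps.nil)))))))) (nat_lit 16) (nat_lit 7),
  Rule.mk (nat_lit 3) (nat_lit 138) (Steps.bwd (nat_lit 2) (Steps.fwd (nat_lit 2048) (Steps.bwd (nat_lit 5) (Steps.fwd (nat_lit 1536) (Steps.fwd (nat_lit 2048) (Steps.fwd (nat_lit 2560) (Steps.fwd (nat_lit 1024) (Steps.fwd (nat_lit 1536) (Steps.fwd (nat_lit 2560) (Steps.fwd (nat_lit 2048) (Steps.bwd (nat_lit 2) (Steps.bwd (nat_lit 5) (Steps.fwd (nat_lit 2048) Steps.nil))))))))))))) (nat_lit 29) (nat_lit 13),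
  Rule.mk (nat_lit 1) (nat_lit 88) (Steps.bwd (nat_lit 4) (Steps.bwd (nat_lit 2) (Steps.bwd (nat_lit 4) (Steps.fwd (nat_lit 512) (Steps.bwd (nat_lit 2) (Steps.bwd (nat_lit 1) (Steps.bwd (nat_lit 4) (Steps.fwd (nat_lit 1024) Steps.nil)))))))) (nat_lit 16) (nat_lit 6),
  Rule.mk (nat_lit 4) (nat_lit 88) (Steps.bwd (nat_lit 2) (Steps.bwd (nat_lit 4) (Steps.fwd (nat_lit 512) (Steps.fwd (nat_lit 1024) (Steps.fwd (nat_lit 512) (Steps.fwd (nat_lit 2048) (Steps.fwd (nat_lit 1024) (Steps.bwd (nat_lit 1) Steps.nil)))))))) (nat_lit 16) (nat_lit 7),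
  Rule.mk (nat_lit 3) (nat_lit 58) (Steps.fwd (nat_lit 2048) (Steps.bwd (nat_lit 3) (Steps.fwd (nat_lit 2048) (Steps.fwd (nat_lit 1536) (Steps.bwd (nat_lit 4) Steps.nil))))) (nat_lit 14) (nat_lit 1),
  Rule.mk (nat_lit 6) (nat_lit 48) (Steps.bwd (nat_lit 1) (Steps.fwd (nat_lit 2048) (Steps.fwd (nat_lit 3072) (Steps.fwd (nat_lit 2048) Steps.nil)))) (nat_lit 32) (nat_lit 0),
  Rule.mk (nat_lit 2) (nat_lit 58) (Steps.bwd (nat_lit 1) (Steps.bwd (nat_lit 2) (Steps.fwd (nat_lit 512) (Steps.bwd (nat_lit 2) (Steps.bwd (nat_lit 1) Steps.nil))))) (nat_lit 6) (nat_lit 0),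
  Rule.mk (nat_lit 4) (nat_lit 88) (Steps.bwd (nat_lit 1) (Steps.bwd (nat_lit 2) (Steps.fwd (nat_lit 512) (Steps.fwd (nat_lit 2048) (Steps.fwd (nat_lit 1024) (Steps.fwd (nat_lit 512) (Steps.fwd (nat_lit 2048) (Steps.fwd (nat_lit 1024) Steps.nil)))))))) (nat_lit 16) (nat_lit 0)]
noncomputable def R_1 : List (Rule) := [Rule.mk (nat_lit 1) (nat_lit 58) (Steps.bwd (nat_lit 3) (Steps.bwd (nat_lit 1) (Steps.fwd (nat_lit 1536) (Steps.fwd (nat_lit 512) (Steps.fwd (nat_lit 1536) Steps.nil))))) (nat_lit 10) (nat_lit 1),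
  Rule.mk (nat_lit 4) (nat_lit 58) (Steps.bwd (nat_lit 3) (Steps.fwd (nat_lit 2048) (Steps.bwd (nat_lit 3) (Steps.bwd (nat_lit 4) (Steps.bwd (nat_lit 3) Steps.nil))))) (nat_lit 14) (nat_lit 0),
  Rule.mk (nat_lit 6) (nat_lit 128) (Steps.bwd (nat_lit 3) (Steps.fwd (nat_lit 2048) (Steps.bwd (nat_lit 5) (Steps.fwd (nat_lit 3072) (Steps.fwd (nat_lit 2560) (Steps.bwd (nat_lit 1) (Steps.fwd (nat_lit 1024) (Steps.bwd (nat_lit 1) (Steps.fwd (nat_lit 3072) (Steps.fwd (nat_lit 1024) (Steps.bwd (nat_lit 4) (Steps.bwd (nat_lit 3) Steps.nil)))))))))))) (nat_lit 41) (nat_lit 5),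
  Rule.mk (nat_lit 5) (nat_lit 138) (Steps.bwd (nat_lit 3) (Steps.bwd (nat_lit 1) (Steps.bwd (nat_lit 2) (Steps.bwd (nat_lit 4) (Steps.fwd (nat_lit 1536) (Steps.bwd (nat_lit 2) (Steps.bwd (nat_lit 5) (Steps.fwd (nat_lit 1024) (Steps.fwd (nat_lit 1536) (Steps.bwd (nat_lit 2) (Steps.fwd (nat_lit 2048) (Steps.bwd (nat_lit 2) (Steps.fwd (nat_lit 1536) Steps.nil))))))))))))) (nat_lit 26) (nat_lit 13),
  Rule.mk (nat_lit 3) (nat_lit 58) (Steps.bwd (nat_lit 2) (Steps.fwd (nat_lit 512) (Steps.bwd (nat_lit 3) (Steps.fwd (nat_lit 1024) (Steps.fwd (nat_lit 512) Steps.nil))))) (nat_lit 9) (nat_lit 1),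
  Rule.mk (nat_lit 6) (nat_lit 58) (Steps.bwd (nat_lit 2) (Steps.fwd (nat_lit 3072) (Steps.fwd (nat_lit 1024) (Steps.fwd (nat_lit 3072) (Steps.bwd (nat_lit 2) Steps.nil))))) (nat_lit 34) (nat_lit 0),
  Rule.mk (nat_lit 5) (nat_lit 88) (Steps.bwd (nat_lit 2) (Steps.fwd (nat_lit 3072) (Steps.bwd (nat_lit 5) (Steps.fwd (nat_lit 1024) (Steps.fwd (nat_lit 3072) (Steps.fwd (nat_lit 2560) (Steps.bwd (nat_lit 2) (Steps.bwd (nat_lit 6) Steps.nil)))))))) (nat_lit 37) (nat_lit 2),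
  Rule.mk (nat_lit 5) (nat_lit 38) (Steps.bwd (nat_lit 1) (Steps.fwd (nat_lit 2560) (Steps.fwd (nat_lit 512) Steps.nil))) (nat_lit 20) (nat_lit 0),
  Rule.mk (nat_lit 3) (nat_lit 58) (Steps.bwd (nat_lit 1) (Steps.bwd (nat_lit 2) (Steps.bwd (nat_lit 3) (Steps.bwd (nat_lit 1) (Steps.bwd (nat_lit 2) Steps.nil))))) (nat_lit 8) (nat_lit 0),
  Rule.mk (nat_lit 6) (nat_lit 108) (Steps.bwd (nat_lit 1) (Steps.fwd (nat_lit 3072) (Steps.fwd (nat_lit 1024) (Steps.bwd (nat_lit 5) (Steps.fwd (nat_lit 512) (Steps.fwd (nat_lit 1024) (Steps.bwd (nat_lit 1) (Steps.fwd (nat_lit 2560) (Steps.bwd (nat_lit 2) (Steps.fwd (nat_lit 2560) Steps.nil)))))))))) (nat_lit 38) (nat_lit 7),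
  Rule.mk (nat_lit 6) (nat_lit 48) (Steps.bwd (nat_lit 4) (Steps.fwd (nat_lit 3072) (Steps.fwd (nat_lit 512) (Steps.bwd (nat_lit 4) Steps.nil)))) (nat_lit 32) (nat_lit 3),
  Rule.mk (nat_lit 4) (nat_lit 58) (Steps.bwd (nat_lit 3) (Steps.bwd (nat_lit 4) (Steps.fwd (nat_lit 1536) (Steps.bwd (nat_lit 4) (Steps.fwd (nat_lit 1536) Steps.nil))))) (nat_lit 14) (nat_lit 0),
  Rule.mk (nat_lit 6) (nat_lit 128) (Steps.bwd (nat_lit 3) (Steps.bwd (nat_lit 4) (Steps.fwd (nat_lit 1024) (Steps.fwd (nat_lit 3072) (Steps.fwd (nat_lit 512) (Steps.fwd (nat_lit 1024) (Steps.bwd (nat_lit 1) (Steps.bwd (nat_lit 5) (Steps.fwd (nat_lit 3072) (Steps.fwd (nat_lit 2560) (Steps.bwd (nat_lit 4) (Steps.fwd (nat_lit 1536) Steps.nil)))))))))))) (nat_lit 40) (nat_lit 9),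
  Rule.mk (nat_lit 1) (nat_lit 138) (Steps.bwd (nat_lit 3) (Steps.bwd (nat_lit 4) (Steps.fwd (nat_lit 1024) (Steps.fwd (nat_lit 3072) (Steps.fwd (nat_lit 1536) (Steps.bwd (nat_lit 5) (Steps.fwd (nat_lit 3072) (Steps.fwd (nat_lit 2560) (Steps.bwd (nat_lit 3) (Steps.bwd (nat_lit 6) (Steps.fwd (nat_lit 1024) (Steps.fwd (nat_lit 2048) (Steps.fwd (nat_lit 1024) Steps.nil))))))))))))) (nat_lit 43) (nat_lit 0),
  Rule.mk (nat_lit 5) (nat_lit 58) (Steps.bwd (nat_lit 3) (Steps.bwd (nat_lit 5) (Steps.bwd (nat_lit 3) (Steps.fwd (nat_lit 2560) (Steps.fwd (nat_lit 1536) Steps.nil))))) (nat_lit 22) (nat_lit 0),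
  Rule.mk (nat_lit 5) (nat_lit 58) (Steps.bwd (nat_lit 4) (Steps.fwd (nat_lit 2560) (Steps.fwd (nat_lit 2048) (Steps.bwd (nat_lit 5) (Steps.bwd (nat_lit 4) Steps.nil))))) (nat_lit 24) (nat_lit 0),
  Rule.mk (nat_lit 1) (nat_lit 38) (Steps.fwd (nat_lit 2560) (Steps.fwd (nat_lit 512) (Steps.bwd (nat_lit 5) Steps.nil))) (nat_lit 20) (nat_lit 1),
  Rule.mk (nat_lit 4) (nat_lit 48) (Steps.bwd (nat_lit 6) (Steps.bwd (nat_lit 1) (Steps.fwd (nat_lit 2048) (Steps.fwd (nat_lit 3072) Steps.nil)))) (nat_lit 32) (nat_lit 4),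
  Rule.mk (nat_lit 5) (nat_lit 138) (Steps.bwd (nat_lit 6) (Steps.fwd (nat_lit 2560) (Steps.fwd (nat_lit 1536) (Steps.bwd (nat_lit 6) (Steps.fwd (nat_lit 1024) (Steps.bwd (nat_lit 4) (Steps.fwd (nat_lit 1536) (Steps.bwd (nat_lit 1) (Steps.fwd (nat_lit 1024) (Steps.fwd (nat_lit 2048) (Steps.fwd (nat_lit 1024) (Steps.bwd (nat_lit 6) (Steps.bwd (nat_lit 3) Steps.nil))))))))))))) (nat_lit 42) (nat_lit 7),
  Rule.mk (nat_lit 4) (nat_lit 48) (Steps.bwd (nat_lit 6) (Steps.fwd (nat_lit 512) (Steps.bwd (nat_lit 4) (Steps.fwd (nat_lit 3072) Steps.nil)))) (nat_lit 32) (nat_lit 4),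
  Rule.mk (nat_lit 5) (nat_lit 108) (Steps.bwd (nat_lit 2) (Steps.fwd (nat_lit 3072) (Steps.fwd (nat_lit 512) (Steps.bwd (nat_lit 6) (Steps.fwd (nat_lit 2560) (Steps.bwd (nat_lit 2) (Steps.fwd (nat_lit 2560) (Steps.bwd (nat_lit 1) (Steps.fwd (nat_lit 1024) (Steps.fwd (nat_lit 512) Steps.nil)))))))))) (nat_lit 39) (nat_lit 1),
  Rule.mk (nat_lit 3) (nat_lit 58) (Steps.fwd (nat_lit 2560) (Steps.fwd (nat_lit 1536) (Steps.fwd (nat_lit 2560) (Steps.bwd (nat_lit 3) (Steps.bwd (nat_lit 5) Steps.nil))))) (nat_lit 22) (nat_lit 1),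
  Rule.mk (nat_lit 5) (nat_lit 128) (Steps.bwd (nat_lit 6) (Steps.fwd (nat_lit 2560) (Steps.bwd (nat_lit 4) (Steps.fwd (nat_lit 1536) (Steps.fwd (nat_lit 3072) (Steps.bwd (nat_lit 3) (Steps.fwd (nat_lit 2048) (Steps.bwd (nat_lit 2) (Steps.fwd (nat_lit 3072) (Steps.bwd (nat_lit 1) (Steps.bwd (nat_lit 2) (Steps.bwd (nat_lit 1) Steps.nil)))))))))))) (nat_lit 40) (nat_lit 4),
  Rule.mk (nat_lit 1) (nat_lit 108) (Steps.fwd (nat_lit 3072) (Steps.fwd (nat_lit 2560) (Steps.bwd (nat_lit 2) (Steps.fwd (nat_lit 2560) (Steps.fwd (nat_lit 512) (Steps.fwd (nat_lit 1024) (Steps.bwd (nat_lit 1) (Steps.bwd (nat_lit 5) (Steps.fwd (nat_lit 1024) (Steps.fwd (nat_lit 3072) Steps.nil)))))))))) (nat_lit 39) (nat_lit 4),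
  Rule.mk (nat_lit 3) (nat_lit 58) (Steps.bwd (nat_lit 2) (Steps.bwd (nat_lit 1) (Steps.fwd (nat_lit 1536) (Steps.bwd (nat_lit 2) (Steps.fwd (nat_lit 512) Steps.nil))))) (nat_lit 9) (nat_lit 1),
  Rule.mk (nat_lit 5) (nat_lit 58) (Steps.fwd (nat_lit 1536) (Steps.fwd (nat_lit 2560) (Steps.fwd (nat_lit 1536) (Steps.bwd (nat_lit 5) (Steps.bwd (nat_lit 3) Steps.nil))))) (nat_lit 22) (nat_lit 0),
  Rule.mk (nat_lit 2) (nat_lit 58) (Steps.bwd (nat_lit 1) (Steps.bwd (nat_lit 2) (Steps.bwd (nat_lit 1) (Steps.bwd (nat_lit 2) (Steps.fwd (nat_lit 512) Steps.nil))))) (nat_lit 6) (nat_lit 0),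
  Rule.mk (nat_lit 5) (nat_lit 38) (Steps.bwd (nat_lit 1) (Steps.bwd (nat_lit 5) (Steps.bwd (nat_lit 1) Steps.nil))) (nat_lit 20) (nat_lit 0),
  Rule.mk (nat_lit 6) (nat_lit 48) (Steps.bwd (nat_lit 1) (Steps.bwd (nat_lit 4) (Steps.fwd (nat_lit 3072) (Steps.bwd (nat_lit 4) Steps.nil)))) (nat_lit 32) (nat_lit 0),
  Rule.mk (nat_lit 4) (nat_lit 48) (Steps.bwd (nat_lit 1) (Steps.fwd (nat_lit 3072) (Steps.fwd (nat_lit 2048) (Steps.bwd (nat_lit 6) Steps.nil)))) (nat_lit 33) (nat_lit 4),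
  Rule.mk (nat_lit 6) (nat_lit 48) (Steps.bwd (nat_lit 4) (Steps.fwd (nat_lit 3072) (Steps.bwd (nat_lit 1) (Steps.fwd (nat_lit 2048) Steps.nil)))) (nat_lit 32) (nat_lit 3),
  Rule.mk (nat_lit 3) (nat_lit 138) (Steps.bwd (nat_lit 4) (Steps.fwd (nat_lit 2560) (Steps.fwd (nat_lit 1024) (Steps.bwd (nat_lit 3) (Steps.bwd (nat_lit 5) (Steps.fwd (nat_lit 2048) (Steps.fwd (nat_lit 1024) (Steps.fwd (nat_lit 2560) (Steps.bwd (nat_lit 4) (Steps.fwd (nat_lit 1536) (Steps.fwd (nat_lit 1024) (Steps.bwd (nat_lit 4) (Steps.fwd (nat_lit 2560) Steps.nil))))))))))))) (nat_lit 29) (nat_lit 3),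
  Rule.mk (nat_lit 3) (nat_lit 138) (Steps.bwd (nat_lit 2) (Steps.fwd (nat_lit 2048) (Steps.bwd (nat_lit 5) (Steps.fwd (nat_lit 1536) (Steps.bwd (nat_lit 4) (Steps.fwd (nat_lit 2560) (Steps.fwd (nat_lit 1024) (Steps.fwd (nat_lit 1536) (Steps.bwd (nat_lit 5) (Steps.fwd (nat_lit 2048) (Steps.bwd (nat_lit 2) (Steps.bwd (nat_lit 5) (Steps.fwd (nat_lit 2048) Steps.nil))))))))))))) (nat_lit 29) (nat_lit 13),
  Rule.mk (nat_lit 6) (nat_lit 108) (Steps.bwd (nat_lit 1) (Steps.fwd (nat_lit 3072) (Steps.bwd (nat_lit 2) (Steps.fwd (nat_lit 2560) (Steps.fwd (nat_lit 512) (Steps.fwd (nat_lit 1024) (Steps.fwd (nat_lit 512) (Steps.bwd (nat_lit 5) (Steps.bwd (nat_lit 2) (Steps.fwd (nat_lit 2560) Steps.nil)))))))))) (nat_lit 38) (nat_lit 7),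
  Rule.mk (nat_lit 5) (nat_lit 88) (Steps.bwd (nat_lit 2) (Steps.fwd (nat_lit 3072) (Steps.fwd (nat_lit 2560) (Steps.fwd (nat_lit 1024) (Steps.fwd (nat_lit 3072) (Steps.fwd (nat_lit 2560) (Steps.fwd (nat_lit 1024) (Steps.bwd (nat_lit 6) Steps.nil)))))))) (nat_lit 37) (nat_lit 2),
  Rule.mk (nat_lit 6) (nat_lit 128) (Steps.fwd (nat_lit 1024) (Steps.fwd (nat_lit 2048) (Steps.bwd (nat_lit 3) (Steps.fwd (nat_lit 3072) (Steps.fwd (nat_lit 1536) (Steps.bwd (nat_lit 4) (Steps.fwd (nat_lit 2560) (Steps.bwd (nat_lit 6) (Steps.fwd (nat_lit 2560) (Steps.fwd (nat_lit 512) (Steps.bwd (nat_lit 2) (Steps.bwd (nat_lit 1) Steps.nil)))))))))))) (nat_lit 41) (nat_lit 1),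
  Rule.mk (nat_lit 5) (nat_lit 88) (Steps.bwd (nat_lit 2) (Steps.fwd (nat_lit 3072) (Steps.bwd (nat_lit 5) (Steps.fwd (nat_lit 1024) (Steps.bwd (nat_lit 6) (Steps.fwd (nat_lit 2560) (Steps.bwd (nat_lit 2) (Steps.bwd (nat_lit 6) Steps.nil)))))))) (nat_lit 37) (nat_lit 2),
  Rule.mk (nat_lit 5) (nat_lit 58) (Steps.bwd (nat_lit 4) (Steps.fwd (nat_lit 2560) (Steps.bwd (nat_lit 4) (Steps.fwd (nat_lit 2560) (Steps.bwd (nat_lit 4) Steps.nil))))) (nat_lit 24) (nat_lit 0),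
  Rule.mk (nat_lit 1) (nat_lit 88) (Steps.bwd (nat_lit 4) (Steps.bwd (nat_lit 2) (Steps.fwd (nat_lit 2048) (Steps.fwd (nat_lit 512) (Steps.fwd (nat_lit 1024) (Steps.bwd (nat_lit 1) (Steps.bwd (nat_lit 4) (Steps.fwd (nat_lit 1024) Steps.nil)))))))) (nat_lit 16) (nat_lit 6),
  Rule.mk (nat_lit 3) (nat_lit 138) (Steps.bwd (nat_lit 4) (Steps.fwd (nat_lit 2560) (Steps.bwd (nat_lit 2) (Steps.fwd (nat_lit 1536) (Steps.fwd (nat_lit 2560) (Steps.fwd (nat_lit 2048) (Steps.fwd (nat_lit 1024) (Steps.fwd (nat_lit 2560) (Steps.fwd (nat_lit 2048) (Steps.fwd (nat_lit 1536) (Steps.bwd (nat_lit 2) (Steps.bwd (nat_lit 4) (Steps.bwd (nat_lit 5) Steps.nil))))))))))))) (nat_lit 29) (nat_lit 3),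
  Rule.mk (nat_lit 2) (nat_lit 138) (Steps.bwd (nat_lit 4) (Steps.fwd (nat_lit 2560) (Steps.bwd (nat_lit 3) (Steps.fwd (nat_lit 2048) (Steps.bwd (nat_lit 5) (Steps.bwd (nat_lit 2) (Steps.bwd (nat_lit 3) (Steps.bwd (nat_lit 5) (Steps.fwd (nat_lit 2048) (Steps.bwd (nat_lit 2) (Steps.bwd (nat_lit 5) (Steps.fwd (nat_lit 2048) (Steps.bwd (nat_lit 3) Steps.nil))))))))))))) (nat_lit 29) (nat_lit 0),
  Rule.mk (nat_lit 2) (nat_lit 58) (Steps.bwd (nat_lit 3) (Steps.bwd (nat_lit 1) (Steps.fwd (nat_lit 1024) (Steps.fwd (nat_lit 1536) (Steps.fwd (nat_lit 512) Steps.nil))))) (nat_lit 8) (nat_lit 2),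
  Rule.mk (nat_lit 1) (nat_lit 58) (Steps.bwd (nat_lit 3) (Steps.bwd (nat_lit 2) (Steps.fwd (nat_lit 512) (Steps.fwd (nat_lit 1536) (Steps.bwd (nat_lit 2) Steps.nil))))) (nat_lit 9) (nat_lit 0),
  Rule.mk (nat_lit 6) (nat_lit 128) (Steps.bwd (nat_lit 3) (Steps.fwd (nat_lit 2048) (Steps.fwd (nat_lit 1024) (Steps.fwd (nat_lit 3072) (Steps.fwd (nat_lit 512) (Steps.bwd (nat_lit 2) (Steps.bwd (nat_lit 1) (Steps.fwd (nat_lit 2560) (Steps.bwd (nat_lit 6) (Steps.bwd (nat_lit 5) (Steps.bwd (nat_lit 4) (Steps.fwd (nat_lit 1536) Steps.nil)))))))))))) (nat_lit 40) (nat_lit 9),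
  Rule.mk (nat_lit 6) (nat_lit 48) (Steps.bwd (nat_lit 4) (Steps.bwd (nat_lit 6) (Steps.bwd (nat_lit 1) (Steps.fwd (nat_lit 2048) Steps.nil)))) (nat_lit 32) (nat_lit 3),
  Rule.mk (nat_lit 5) (nat_lit 58) (Steps.bwd (nat_lit 4) (Steps.fwd (nat_lit 2560) (Steps.fwd (nat_lit 2048) (Steps.bwd (nat_lit 5) (Steps.fwd (nat_lit 2048) Steps.nil))))) (nat_lit 24) (nat_lit 0),
  Rule.mk (nat_lit 4) (nat_lit 48) (Steps.bwd (nat_lit 1) (Steps.fwd (nat_lit 3072) (Steps.bwd (nat_lit 4) (Steps.bwd (nat_lit 6) Steps.nil)))) (nat_lit 33) (nat_lit 4),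
  Rule.mk (nat_lit 6) (nat_lit 48) (Steps.fwd (nat_lit 2048) (Steps.fwd (nat_lit 3072) (Steps.fwd (nat_lit 2048) (Steps.fwd (nat_lit 512) Steps.nil)))) (nat_lit 33) (nat_lit 1),
  Rule.mk (nat_lit 2) (nat_lit 138) (Steps.bwd (nat_lit 3) (Steps.fwd (nat_lit 2560) (Steps.fwd (nat_lit 1536) (Steps.fwd (nat_lit 512) (Steps.fwd (nat_lit 1024) (Steps.bwd (nat_lit 4) (Steps.fwd (nat_lit 1536) (Steps.bwd (nat_lit 2) (Steps.fwd (nat_lit 2560) (Steps.fwd (nat_lit 1024) (Steps.fwd (nat_lit 1536) (Steps.fwd (nat_lit 1024) (Steps.fwd (nat_lit 2048) Steps.nil))))))))))))) (nat_lit 26) (nat_lit 11),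
  Rule.mk (nat_lit 5) (nat_lit 138) (Steps.bwd (nat_lit 4) (Steps.fwd (nat_lit 1024) (Steps.fwd (nat_lit 1536) (Steps.fwd (nat_lit 2048) (Steps.bwd (nat_lit 5) (Steps.bwd (nat_lit 2) (Steps.bwd (nat_lit 4) (Steps.fwd (nat_lit 2560) (Steps.bwd (nat_lit 3) (Steps.bwd (nat_lit 2) (Steps.bwd (nat_lit 5) (Steps.bwd (nat_lit 4) (Steps.fwd (nat_lit 1536) Steps.nil))))))))))))) (nat_lit 28) (nat_lit 13),
  Rule.mk (nat_lit 2) (nat_lit 88) (Steps.bwd (nat_lit 4) (Steps.bwd (nat_lit 1) (Steps.bwd (nat_lit 2) (Steps.bwd (nat_lit 1) (Steps.fwd (nat_lit 2048) (Steps.bwd (nat_lit 2) (Steps.fwd (nat_lit 512) (Steps.fwd (nat_lit 2048) Steps.nil)))))))) (nat_lit 16) (nat_lit 8),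
  Rule.mk (nat_lit 3) (nat_lit 58) (Steps.bwd (nat_lit 5) (Steps.fwd (nat_lit 1536) (Steps.bwd (nat_lit 5) (Steps.fwd (nat_lit 1536) (Steps.bwd (nat_lit 5) Steps.nil))))) (nat_lit 22) (nat_lit 1),
  Rule.mk (nat_lit 3) (nat_lit 58) (Steps.bwd (nat_lit 4) (Steps.fwd (nat_lit 1536) (Steps.bwd (nat_lit 4) (Steps.bwd (nat_lit 3) (Steps.bwd (nat_lit 4) Steps.nil))))) (nat_lit 14) (nat_lit 1),
  Rule.mk (nat_lit 5) (nat_lit 58) (Steps.bwd (nat_lit 4) (Steps.bwd (nat_lit 5) (Steps.fwd (nat_lit 2048) (Steps.bwd (nat_lit 5) (Steps.fwd (nat_lit 2048) Steps.nil))))) (nat_lit 24) (nat_lit 0),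
  Rule.mk (nat_lit 1) (nat_lit 48) (Steps.bwd (nat_lit 6) (Steps.bwd (nat_lit 4) (Steps.fwd (nat_lit 3072) (Steps.fwd (nat_lit 2048) Steps.nil)))) (nat_lit 33) (nat_lit 0),
  Rule.mk (nat_lit 5) (nat_lit 128) (Steps.bwd (nat_lit 6) (Steps.fwd (nat_lit 2560) (Steps.bwd (nat_lit 4) (Steps.fwd (nat_lit 1536) (Steps.bwd (nat_lit 6) (Steps.bwd (nat_lit 3) (Steps.fwd (nat_lit 2048) (Steps.fwd (nat_lit 1024) (Steps.bwd (nat_lit 6) (Steps.bwd (nat_lit 1) (Steps.fwd (nat_lit 1024) (Steps.bwd (nat_lit 1) Steps.nil)))))))))))) (nat_lit 40) (nat_lit 4),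
  Rule.mk (nat_lit 5) (nat_lit 108) (Steps.bwd (nat_lit 2) (Steps.fwd (nat_lit 2560) (Steps.bwd (nat_lit 6) (Steps.bwd (nat_lit 1) (Steps.bwd (nat_lit 6) (Steps.fwd (nat_lit 1024) (Steps.fwd (nat_lit 2560) (Steps.fwd (nat_lit 512) (Steps.fwd (nat_lit 1024) (Steps.bwd (nat_lit 1) Steps.nil)))))))))) (nat_lit 38) (nat_lit 4),
  Rule.mk (nat_lit 1) (nat_lit 108) (Steps.bwd (nat_lit 2) (Steps.bwd (nat_lit 1) (Steps.fwd (nat_lit 2560) (Steps.fwd (nat_lit 1024) (Steps.fwd (nat_lit 2560) (Steps.fwd (nat_lit 3072) (Steps.bwd (nat_lit 1) (Steps.bwd (nat_lit 6) (Steps.fwd (nat_lit 1024) (Steps.fwd (nat_lit 2560) Steps.nil)))))))))) (nat_lit 38) (nat_lit 1),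
  Rule.mk (nat_lit 3) (nat_lit 138) (Steps.bwd (nat_lit 2) (Steps.bwd (nat_lit 4) (Steps.fwd (nat_lit 1024) (Steps.fwd (nat_lit 1536) (Steps.fwd (nat_lit 2560) (Steps.bwd (nat_lit 3) (Steps.fwd (nat_lit 512) (Steps.fwd (nat_lit 1024) (Steps.bwd (nat_lit 4) (Steps.bwd (nat_lit 3) (Steps.fwd (nat_lit 1024) (Steps.bwd (nat_lit 5) (Steps.fwd (nat_lit 1024) Steps.nil))))))))))))) (nat_lit 26) (nat_lit 8),
  Rule.mk (nat_lit 1) (nat_lit 58) (Steps.bwd (nat_lit 3) (Steps.fwd (nat_lit 1024) (Steps.fwd (nat_lit 512) (Steps.fwd (nat_lit 1536) (Steps.bwd (nat_lit 2) Steps.nil))))) (nat_lit 9) (nat_lit 0),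
  Rule.mk (nat_lit 4) (nat_lit 58) (Steps.bwd (nat_lit 3) (Steps.bwd (nat_lit 4) (Steps.fwd (nat_lit 1536) (Steps.fwd (nat_lit 2048) (Steps.bwd (nat_lit 3) Steps.nil))))) (nat_lit 14) (nat_lit 0),
  Rule.mk (nat_lit 2) (nat_lit 138) (Steps.bwd (nat_lit 3) (Steps.bwd (nat_lit 4) (Steps.bwd (nat_lit 5) (Steps.fwd (nat_lit 1024) (Steps.fwd (nat_lit 2048) (Steps.fwd (nat_lit 2560) (Steps.bwd (nat_lit 3) (Steps.fwd (nat_lit 1024) (Steps.bwd (nat_lit 5) (Steps.fwd (nat_lit 2048) (Steps.bwd (nat_lit 3) (Steps.fwd (nat_lit 2560) (Steps.bwd (nat_lit 4) Steps.nil))))))))))))) (nat_lit 28) (nat_lit 1),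
  Rule.mk (nat_lit 4) (nat_lit 48) (Steps.bwd (nat_lit 6) (Steps.fwd (nat_lit 512) (Steps.bwd (nat_lit 4) (Steps.bwd (nat_lit 6) Steps.nil)))) (nat_lit 32) (nat_lit 4),
  Rule.mk (nat_lit 2) (nat_lit 128) (Steps.bwd (nat_lit 6) (Steps.fwd (nat_lit 512) (Steps.fwd (nat_lit 1024) (Steps.fwd (nat_lit 512) (Steps.fwd (nat_lit 2560) (Steps.fwd (nat_lit 3072) (Steps.bwd (nat_lit 5) (Steps.bwd (nat_lit 4) (Steps.bwd (nat_lit 3) (Steps.fwd (nat_lit 3072) (Steps.fwd (nat_lit 1536) (Steps.fwd (nat_lit 2048) Steps.nil)))))))))))) (nat_lit 40) (nat_lit 12)]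
noncomputable def R_2 : List (Rule) := [Rule.mk (nat_lit 2) (nat_lit 58) (Steps.bwd (nat_lit 3) (Steps.bwd (nat_lit 1) (Steps.fwd (nat_lit 1024) (Steps.bwd (nat_lit 3) (Steps.bwd (nat_lit 1) Steps.nil))))) (nat_lit 8) (nat_lit 2),
  Rule.mk (nat_lit 5) (nat_lit 138) (Steps.bwd (nat_lit 3) (Steps.fwd (nat_lit 1024) (Steps.fwd (nat_lit 2560) (Steps.fwd (nat_lit 2048) (Steps.bwd (nat_lit 3) (Steps.fwd (nat_lit 2560) (Steps.bwd (nat_lit 4) (Steps.fwd (nat_lit 1024) (Steps.bwd (nat_lit 3) (Steps.fwd (nat_lit 2048) (Steps.bwd (nat_lit 5) (Steps.bwd (nat_lit 2) (Steps.fwd (nat_lit 2048) Steps.nil))))))))))))) (nat_lit 28) (nat_lit 7),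
  Rule.mk (nat_lit 1) (nat_lit 88) (Steps.bwd (nat_lit 4) (Steps.fwd (nat_lit 1024) (Steps.fwd (nat_lit 512) (Steps.bwd (nat_lit 4) (Steps.fwd (nat_lit 1024) (Steps.fwd (nat_lit 2048) (Steps.bwd (nat_lit 1) (Steps.bwd (nat_lit 2) Steps.nil)))))))) (nat_lit 16) (nat_lit 3),
  Rule.mk (nat_lit 3) (nat_lit 128) (Steps.bwd (nat_lit 4) (Steps.fwd (nat_lit 2560) (Steps.fwd (nat_lit 3072) (Steps.fwd (nat_lit 2560) (Steps.bwd (nat_lit 1) (Steps.bwd (nat_lit 2) (Steps.bwd (nat_lit 1) (Steps.fwd (nat_lit 3072) (Steps.fwd (nat_lit 1024) (Steps.bwd (nat_lit 4) (Steps.bwd (nat_lit 3) (Steps.fwd (nat_lit 3072) Steps.nil)))))))))))) (nat_lit 41) (nat_lit 6),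
  Rule.mk (nat_lit 2) (nat_lit 138) (Steps.bwd (nat_lit 4) (Steps.bwd (nat_lit 3) (Steps.fwd (nat_lit 1024) (Steps.fwd (nat_lit 2560) (Steps.fwd (nat_lit 1024) (Steps.bwd (nat_lit 3) (Steps.bwd (nat_lit 2) (Steps.bwd (nat_lit 4) (Steps.fwd (nat_lit 1024) (Steps.fwd (nat_lit 1536) (Steps.bwd (nat_lit 5) (Steps.fwd (nat_lit 1536) (Steps.fwd (nat_lit 512) Steps.nil))))))))))))) (nat_lit 26) (nat_lit 2),
  Rule.mk (nat_lit 5) (nat_lit 138) (Steps.bwd (nat_lit 4) (Steps.fwd (nat_lit 1024) (Steps.bwd (nat_lit 3) (Steps.bwd (nat_lit 4) (Steps.fwd (nat_lit 2560) (Steps.fwd (nat_lit 1024) (Steps.fwd (nat_lit 2048) (Steps.fwd (nat_lit 2560) (Steps.bwd (nat_lit 3) (Steps.bwd (nat_lit 2) (Steps.bwd (nat_lit 5) (Steps.fwd (nat_lit 2048) (Steps.bwd (nat_lit 3) Steps.nil))))))))))))) (nat_lit 28) (nat_lit 13),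
  Rule.mk (nat_lit 1) (nat_lit 58) (Steps.bwd (nat_lit 3) (Steps.fwd (nat_lit 1024) (Steps.bwd (nat_lit 1) (Steps.bwd (nat_lit 3) (Steps.fwd (nat_lit 1024) Steps.nil))))) (nat_lit 9) (nat_lit 0),
  Rule.mk (nat_lit 4) (nat_lit 58) (Steps.bwd (nat_lit 3) (Steps.fwd (nat_lit 2048) (Steps.fwd (nat_lit 1536) (Steps.fwd (nat_lit 2048) (Steps.fwd (nat_lit 1536) Steps.nil))))) (nat_lit 14) (nat_lit 0),
  Rule.mk (nat_lit 5) (nat_lit 138) (Steps.bwd (nat_lit 3) (Steps.fwd (nat_lit 1024) (Steps.bwd (nat_lit 4) (Steps.fwd (nat_lit 1024) (Steps.fwd (nat_lit 1536) (Steps.bwd (nat_lit 2) (Steps.fwd (nat_lit 2560) (Steps.bwd (nat_lit 2) (Steps.fwd (nat_lit 1536) (Steps.bwd (nat_lit 4) (Steps.bwd (nat_lit 2) (Steps.fwd (nat_lit 512) (Steps.fwd (nat_lit 1536) Steps.nil))))))))))))) (nat_lit 27) (nat_lit 2),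
  Rule.mk (nat_lit 6) (nat_lit 108) (Steps.fwd (nat_lit 512) (Steps.fwd (nat_lit 3072) (Steps.fwd (nat_lit 1024) (Steps.bwd (nat_lit 5) (Steps.fwd (nat_lit 512) (Steps.bwd (nat_lit 2) (Steps.fwd (nat_lit 512) (Steps.fwd (nat_lit 2560) (Steps.fwd (nat_lit 1024) (Steps.bwd (nat_lit 5) Steps.nil)))))))))) (nat_lit 38) (nat_lit 7),
  Rule.mk (nat_lit 5) (nat_lit 88) (Steps.bwd (nat_lit 2) (Steps.fwd (nat_lit 3072) (Steps.fwd (nat_lit 2560) (Steps.bwd (nat_lit 2) (Steps.bwd (nat_lit 6) (Steps.bwd (nat_lit 5) (Steps.fwd (nat_lit 1024) (Steps.fwd (nat_lit 3072) Steps.nil)))))))) (nat_lit 37) (nat_lit 2),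
  Rule.mk (nat_lit 2) (nat_lit 88) (Steps.bwd (nat_lit 4) (Steps.fwd (nat_lit 512) (Steps.bwd (nat_lit 2) (Steps.fwd (nat_lit 512) (Steps.fwd (nat_lit 2048) (Steps.fwd (nat_lit 1024) (Steps.fwd (nat_lit 512) (Steps.fwd (nat_lit 2048) Steps.nil)))))))) (nat_lit 16) (nat_lit 8),
  Rule.mk (nat_lit 1) (nat_lit 88) (Steps.bwd (nat_lit 4) (Steps.bwd (nat_lit 2) (Steps.fwd (nat_lit 2048) (Steps.fwd (nat_lit 512) (Steps.fwd (nat_lit 1024) (Steps.fwd (nat_lit 512) (Steps.fwd (nat_lit 2048) (Steps.bwd (nat_lit 2) Steps.nil)))))))) (nat_lit 16) (nat_lit 6),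
  Rule.mk (nat_lit 3) (nat_lit 128) (Steps.bwd (nat_lit 4) (Steps.bwd (nat_lit 2) (Steps.fwd (nat_lit 3072) (Steps.fwd (nat_lit 512) (Steps.fwd (nat_lit 1024) (Steps.bwd (nat_lit 1) (Steps.fwd (nat_lit 2560) (Steps.fwd (nat_lit 3072) (Steps.fwd (nat_lit 2560) (Steps.fwd (nat_lit 2048) (Steps.fwd (nat_lit 1536) (Steps.fwd (nat_lit 3072) Steps.nil)))))))))))) (nat_lit 40) (nat_lit 10),
  Rule.mk (nat_lit 4) (nat_lit 58) (Steps.bwd (nat_lit 3) (Steps.bwd (nat_lit 4) (Steps.fwd (nat_lit 1536) (Steps.fwd (nat_lit 2048) (Steps.fwd (nat_lit 1536) Steps.nil))))) (nat_lit 14) (nat_lit 0),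
  Rule.mk (nat_lit 5) (nat_lit 58) (Steps.bwd (nat_lit 3) (Steps.fwd (nat_lit 2560) (Steps.bwd (nat_lit 3) (Steps.bwd (nat_lit 5) (Steps.fwd (nat_lit 1536) Steps.nil))))) (nat_lit 22) (nat_lit 0),
  Rule.mk (nat_lit 2) (nat_lit 138) (Steps.bwd (nat_lit 3) (Steps.fwd (nat_lit 2560) (Steps.bwd (nat_lit 3) (Steps.bwd (nat_lit 1) (Steps.fwd (nat_lit 1024) (Steps.fwd (nat_lit 2048) (Steps.fwd (nat_lit 1536) (Steps.fwd (nat_lit 1024) (Steps.fwd (nat_lit 2560) (Steps.fwd (nat_lit 1024) (Steps.fwd (nat_lit 1536) (Steps.bwd (nat_lit 2) (Steps.bwd (nat_lit 4) Steps.nil))))))))))))) (nat_lit 26) (nat_lit 11),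
  Rule.mk (nat_lit 4) (nat_lit 48) (Steps.bwd (nat_lit 1) (Steps.bwd (nat_lit 6) (Steps.fwd (nat_lit 2048) (Steps.bwd (nat_lit 6) Steps.nil)))) (nat_lit 33) (nat_lit 4),
  Rule.mk (nat_lit 5) (nat_lit 108) (Steps.bwd (nat_lit 1) (Steps.fwd (nat_lit 1024) (Steps.fwd (nat_lit 512) (Steps.fwd (nat_lit 2560) (Steps.fwd (nat_lit 1024) (Steps.bwd (nat_lit 5) (Steps.fwd (nat_lit 3072) (Steps.bwd (nat_lit 1) (Steps.fwd (nat_lit 3072) (Steps.bwd (nat_lit 2) Steps.nil)))))))))) (nat_lit 38) (nat_lit 0),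
  Rule.mk (nat_lit 4) (nat_lit 58) (Steps.bwd (nat_lit 3) (Steps.bwd (nat_lit 4) (Steps.bwd (nat_lit 3) (Steps.bwd (nat_lit 4) (Steps.fwd (nat_lit 1536) Steps.nil))))) (nat_lit 14) (nat_lit 0),
  Rule.mk (nat_lit 2) (nat_lit 138) (Steps.bwd (nat_lit 3) (Steps.bwd (nat_lit 5) (Steps.bwd (nat_lit 3) (Steps.bwd (nat_lit 1) (Steps.fwd (nat_lit 1024) (Steps.fwd (nat_lit 2048) (Steps.fwd (nat_lit 1536) (Steps.bwd (nat_lit 2) (Steps.fwd (nat_lit 2560) (Steps.fwd (nat_lit 1024) (Steps.bwd (nat_lit 3) (Steps.bwd (nat_lit 2) (Steps.bwd (nat_lit 4) Steps.nil))))))))))))) (nat_lit 26) (nat_lit 11),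
  Rule.mk (nat_lit 6) (nat_lit 48) (Steps.fwd (nat_lit 512) (Steps.bwd (nat_lit 4) (Steps.fwd (nat_lit 3072) (Steps.bwd (nat_lit 4) Steps.nil)))) (nat_lit 32) (nat_lit 0),
  Rule.mk (nat_lit 1) (nat_lit 38) (Steps.bwd (nat_lit 5) (Steps.fwd (nat_lit 512) (Steps.bwd (nat_lit 5) Steps.nil))) (nat_lit 20) (nat_lit 1),
  Rule.mk (nat_lit 4) (nat_lit 58) (Steps.bwd (nat_lit 5) (Steps.fwd (nat_lit 2048) (Steps.fwd (nat_lit 2560) (Steps.fwd (nat_lit 2048) (Steps.bwd (nat_lit 5) Steps.nil))))) (nat_lit 24) (nat_lit 1),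
  Rule.mk (nat_lit 2) (nat_lit 108) (Steps.bwd (nat_lit 5) (Steps.fwd (nat_lit 3072) (Steps.fwd (nat_lit 512) (Steps.fwd (nat_lit 3072) (Steps.bwd (nat_lit 2) (Steps.fwd (nat_lit 2560) (Steps.fwd (nat_lit 512) (Steps.fwd (nat_lit 1024) (Steps.bwd (nat_lit 1) (Steps.fwd (nat_lit 2560) Steps.nil)))))))))) (nat_lit 38) (nat_lit 5),
  Rule.mk (nat_lit 2) (nat_lit 58) (Steps.bwd (nat_lit 3) (Steps.fwd (nat_lit 512) (Steps.bwd (nat_lit 2) (Steps.fwd (nat_lit 1536) (Steps.fwd (nat_lit 512) Steps.nil))))) (nat_lit 8) (nat_lit 2),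
  Rule.mk (nat_lit 5) (nat_lit 58) (Steps.bwd (nat_lit 3) (Steps.bwd (nat_lit 5) (Steps.bwd (nat_lit 3) (Steps.bwd (nat_lit 5) (Steps.bwd (nat_lit 3) Steps.nil))))) (nat_lit 22) (nat_lit 0),
  Rule.mk (nat_lit 2) (nat_lit 58) (Steps.bwd (nat_lit 6) (Steps.fwd (nat_lit 1024) (Steps.fwd (nat_lit 3072) (Steps.bwd (nat_lit 2) (Steps.fwd (nat_lit 3072) Steps.nil))))) (nat_lit 34) (nat_lit 1),
  Rule.mk (nat_lit 6) (nat_lit 88) (Steps.bwd (nat_lit 5) (Steps.fwd (nat_lit 1024) (Steps.bwd (nat_lit 6) (Steps.fwd (nat_lit 2560) (Steps.bwd (nat_lit 2) (Steps.bwd (nat_lit 6) (Steps.bwd (nat_lit 5) (Steps.fwd (nat_lit 1024) Steps.nil)))))))) (nat_lit 37) (nat_lit 1),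
  Rule.mk (nat_lit 4) (nat_lit 48) (Steps.bwd (nat_lit 6) (Steps.fwd (nat_lit 512) (Steps.fwd (nat_lit 2048) (Steps.bwd (nat_lit 6) Steps.nil)))) (nat_lit 32) (nat_lit 4),
  Rule.mk (nat_lit 1) (nat_lit 48) (Steps.fwd (nat_lit 3072) (Steps.fwd (nat_lit 2048) (Steps.bwd (nat_lit 6) (Steps.bwd (nat_lit 4) Steps.nil)))) (nat_lit 33) (nat_lit 0),
  Rule.mk (nat_lit 3) (nat_lit 128) (Steps.bwd (nat_lit 6) (Steps.fwd (nat_lit 1536) (Steps.bwd (nat_lit 4) (Steps.fwd (nat_lit 1024) (Steps.fwd (nat_lit 3072) (Steps.fwd (nat_lit 512) (Steps.fwd (nat_lit 1024) (Steps.bwd (nat_lit 1) (Steps.bwd (nat_lit 5) (Steps.bwd (nat_lit 6) (Steps.bwd (nat_lit 5) (Steps.fwd (nat_lit 2048) Steps.nil)))))))))))) (nat_lit 40) (nat_lit 8),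
  Rule.mk (nat_lit 6) (nat_lit 138) (Steps.bwd (nat_lit 5) (Steps.fwd (nat_lit 1536) (Steps.fwd (nat_lit 3072) (Steps.fwd (nat_lit 1024) (Steps.fwd (nat_lit 2048) (Steps.fwd (nat_lit 1536) (Steps.fwd (nat_lit 512) (Steps.bwd (nat_lit 2) (Steps.bwd (nat_lit 4) (Steps.bwd (nat_lit 2) (Steps.bwd (nat_lit 6) (Steps.bwd (nat_lit 3) (Steps.fwd (nat_lit 2560) Steps.nil))))))))))))) (nat_lit 42) (nat_lit 8),
  Rule.mk (nat_lit 6) (nat_lit 108) (Steps.bwd (nat_lit 1) (Steps.fwd (nat_lit 3072) (Steps.bwd (nat_lit 2) (Steps.fwd (nat_lit 2560) (Steps.fwd (nat_lit 512) (Steps.fwd (nat_lit 1024) (Steps.fwd (nat_lit 512) (Steps.fwd (nat_lit 2560) (Steps.bwd (nat_lit 2) (Steps.bwd (nat_lit 5) Steps.nil)))))))))) (nat_lit 38) (nat_lit 7),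
  Rule.mk (nat_lit 6) (nat_lit 58) (Steps.bwd (nat_lit 2) (Steps.fwd (nat_lit 3072) (Steps.bwd (nat_lit 2) (Steps.fwd (nat_lit 3072) (Steps.bwd (nat_lit 2) Steps.nil))))) (nat_lit 34) (nat_lit 0),
  Rule.mk (nat_lit 5) (nat_lit 88) (Steps.bwd (nat_lit 2) (Steps.fwd (nat_lit 3072) (Steps.fwd (nat_lit 2560) (Steps.fwd (nat_lit 1024) (Steps.bwd (nat_lit 6) (Steps.bwd (nat_lit 5) (Steps.bwd (nat_lit 2) (Steps.bwd (nat_lit 6) Steps.nil)))))))) (nat_lit 37) (nat_lit 2),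
  Rule.mk (nat_lit 3) (nat_lit 138) (Steps.fwd (nat_lit 3072) (Steps.fwd (nat_lit 1024) (Steps.bwd (nat_lit 4) (Steps.bwd (nat_lit 3) (Steps.bwd (nat_lit 1) (Steps.bwd (nat_lit 2) (Steps.bwd (nat_lit 4) (Steps.fwd (nat_lit 1024) (Steps.fwd (nat_lit 3072) (Steps.bwd (nat_lit 3) (Steps.bwd (nat_lit 5) (Steps.bwd (nat_lit 6) (Steps.fwd (nat_lit 2560) Steps.nil))))))))))))) (nat_lit 42) (nat_lit 10),
  Rule.mk (nat_lit 4) (nat_lit 128) (Steps.fwd (nat_lit 1536) (Steps.fwd (nat_lit 3072) (Steps.bwd (nat_lit 3) (Steps.bwd (nat_lit 4) (Steps.fwd (nat_lit 1024) (Steps.fwd (nat_lit 3072) (Steps.bwd (nat_lit 1) (Steps.fwd (nat_lit 1024) (Steps.fwd (nat_lit 512) (Steps.bwd (nat_lit 5) (Steps.bwd (nat_lit 6) (Steps.fwd (nat_lit 2560) Steps.nil)))))))))))) (nat_lit 40) (nat_lit 7),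
  Rule.mk (nat_lit 6) (nat_lit 128) (Steps.bwd (nat_lit 3) (Steps.fwd (nat_lit 2048) (Steps.fwd (nat_lit 2560) (Steps.fwd (nat_lit 3072) (Steps.fwd (nat_lit 2560) (Steps.fwd (nat_lit 512) (Steps.fwd (nat_lit 1024) (Steps.fwd (nat_lit 512) (Steps.fwd (nat_lit 3072) (Steps.bwd (nat_lit 2) (Steps.bwd (nat_lit 4) (Steps.bwd (nat_lit 3) Steps.nil)))))))))))) (nat_lit 41) (nat_lit 5),
  Rule.mk (nat_lit 1) (nat_lit 48) (Steps.bwd (nat_lit 4) (Steps.fwd (nat_lit 3072) (Steps.bwd (nat_lit 4) (Steps.bwd (nat_lit 6) Steps.nil)))) (nat_lit 32) (nat_lit 1),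
  Rule.mk (nat_lit 2) (nat_lit 128) (Steps.bwd (nat_lit 4) (Steps.bwd (nat_lit 3) (Steps.fwd (nat_lit 3072) (Steps.fwd (nat_lit 1536) (Steps.bwd (nat_lit 4) (Steps.fwd (nat_lit 2560) (Steps.fwd (nat_lit 3072) (Steps.fwd (nat_lit 2560) (Steps.bwd (nat_lit 1) (Steps.fwd (nat_lit 1024) (Steps.fwd (nat_lit 512) (Steps.bwd (nat_lit 6) Steps.nil)))))))))))) (nat_lit 41) (nat_lit 2),
  Rule.mk (nat_lit 3) (nat_lit 58) (Steps.bwd (nat_lit 5) (Steps.bwd (nat_lit 3) (Steps.fwd (nat_lit 2560) (Steps.fwd (nat_lit 1536) (Steps.fwd (nat_lit 2560) Steps.nil))))) (nat_lit 22) (nat_lit 1),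
  Rule.mk (nat_lit 6) (nat_lit 128) (Steps.bwd (nat_lit 5) (Steps.fwd (nat_lit 2048) (Steps.fwd (nat_lit 1536) (Steps.fwd (nat_lit 3072) (Steps.fwd (nat_lit 1536) (Steps.bwd (nat_lit 4) (Steps.fwd (nat_lit 1024) (Steps.fwd (nat_lit 3072) (Steps.fwd (nat_lit 512) (Steps.bwd (nat_lit 2) (Steps.fwd (nat_lit 512) (Steps.fwd (nat_lit 2560) Steps.nil)))))))))))) (nat_lit 40) (nat_lit 5),
  Rule.mk (nat_lit 2) (nat_lit 128) (Steps.fwd (nat_lit 512) (Steps.bwd (nat_lit 5) (Steps.fwd (nat_lit 3072) (Steps.fwd (nat_lit 2560) (Steps.bwd (nat_lit 4) (Steps.fwd (nat_lit 1536) (Steps.bwd (nat_lit 6) (Steps.fwd (nat_lit 1536) (Steps.fwd (nat_lit 2048) (Steps.bwd (nat_lit 2) (Steps.bwd (nat_lit 6) (Steps.fwd (nat_lit 512) Steps.nil)))))))))))) (nat_lit 40) (nat_lit 2),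
  Rule.mk (nat_lit 6) (nat_lit 48) (Steps.bwd (nat_lit 4) (Steps.fwd (nat_lit 3072) (Steps.fwd (nat_lit 512) (Steps.fwd (nat_lit 2048) Steps.nil)))) (nat_lit 32) (nat_lit 3),
  Rule.mk (nat_lit 1) (nat_lit 48) (Steps.bwd (nat_lit 4) (Steps.fwd (nat_lit 3072) (Steps.fwd (nat_lit 2048) (Steps.bwd (nat_lit 6) Steps.nil)))) (nat_lit 32) (nat_lit 1),
  Rule.mk (nat_lit 6) (nat_lit 58) (Steps.bwd (nat_lit 2) (Steps.fwd (nat_lit 3072) (Steps.bwd (nat_lit 2) (Steps.bwd (nat_lit 6) (Steps.bwd (nat_lit 2) Steps.nil))))) (nat_lit 34) (nat_lit 0),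
  Rule.mk (nat_lit 6) (nat_lit 88) (Steps.bwd (nat_lit 5) (Steps.bwd (nat_lit 2) (Steps.fwd (nat_lit 3072) (Steps.fwd (nat_lit 2560) (Steps.fwd (nat_lit 1024) (Steps.bwd (nat_lit 6) (Steps.bwd (nat_lit 5) (Steps.bwd (nat_lit 2) Steps.nil)))))))) (nat_lit 37) (nat_lit 1),
  Rule.mk (nat_lit 1) (nat_lit 128) (Steps.bwd (nat_lit 5) (Steps.fwd (nat_lit 3072) (Steps.fwd (nat_lit 2560) (Steps.bwd (nat_lit 4) (Steps.fwd (nat_lit 1536) (Steps.fwd (nat_lit 3072) (Steps.bwd (nat_lit 3) (Steps.fwd (nat_lit 2048) (Steps.fwd (nat_lit 1024) (Steps.bwd (nat_lit 6) (Steps.fwd (nat_lit 512) (Steps.fwd (nat_lit 1024) Steps.nil)))))))))))) (nat_lit 40) (nat_lit 3),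
  Rule.mk (nat_lit 2) (nat_lit 128) (Steps.fwd (nat_lit 512) (Steps.fwd (nat_lit 3072) (Steps.fwd (nat_lit 1024) (Steps.fwd (nat_lit 2048) (Steps.fwd (nat_lit 1536) (Steps.bwd (nat_lit 6) (Steps.bwd (nat_lit 3) (Steps.bwd (nat_lit 4) (Steps.bwd (nat_lit 5) (Steps.bwd (nat_lit 6) (Steps.bwd (nat_lit 5) (Steps.bwd (nat_lit 1) Steps.nil)))))))))))) (nat_lit 41) (nat_lit 12),
  Rule.mk (nat_lit 4) (nat_lit 48) (Steps.fwd (nat_lit 3072) (Steps.fwd (nat_lit 2048) (Steps.bwd (nat_lit 6) (Steps.bwd (nat_lit 1) Steps.nil)))) (nat_lit 32) (nat_lit 2),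
  Rule.mk (nat_lit 6) (nat_lit 128) (Steps.bwd (nat_lit 3) (Steps.fwd (nat_lit 2048) (Steps.fwd (nat_lit 1024) (Steps.fwd (nat_lit 3072) (Steps.bwd (nat_lit 1) (Steps.fwd (nat_lit 1024) (Steps.bwd (nat_lit 1) (Steps.bwd (nat_lit 5) (Steps.fwd (nat_lit 3072) (Steps.bwd (nat_lit 5) (Steps.fwd (nat_lit 2048) (Steps.bwd (nat_lit 3) Steps.nil)))))))))))) (nat_lit 40) (nat_lit 9),
  Rule.mk (nat_lit 4) (nat_lit 128) (Steps.bwd (nat_lit 3) (Steps.fwd (nat_lit 3072) (Steps.bwd (nat_lit 3) (Steps.fwd (nat_lit 2048) (Steps.bwd (nat_lit 2) (Steps.fwd (nat_lit 3072) (Steps.fwd (nat_lit 512) (Steps.fwd (nat_lit 1024) (Steps.fwd (nat_lit 512) (Steps.bwd (nat_lit 5) (Steps.fwd (nat_lit 3072) (Steps.fwd (nat_lit 2560) Steps.nil)))))))))))) (nat_lit 40) (nat_lit 7),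
  Rule.mk (nat_lit 3) (nat_lit 138) (Steps.bwd (nat_lit 5) (Steps.fwd (nat_lit 3072) (Steps.fwd (nat_lit 2560) (Steps.fwd (nat_lit 1536) (Steps.bwd (nat_lit 6) (Steps.fwd (nat_lit 1024) (Steps.fwd (nat_lit 2048) (Steps.fwd (nat_lit 1536) (Steps.fwd (nat_lit 512) (Steps.bwd (nat_lit 2) (Steps.bwd (nat_lit 4) (Steps.bwd (nat_lit 2) (Steps.bwd (nat_lit 6) Steps.nil))))))))))))) (nat_lit 42) (nat_lit 6),
  Rule.mk (nat_lit 6) (nat_lit 128) (Steps.fwd (nat_lit 1536) (Steps.bwd (nat_lit 4) (Steps.bwd (nat_lit 2) (Steps.fwd (nat_lit 3072) (Steps.fwd (nat_lit 512) (Steps.bwd (nat_lit 2) (Steps.bwd (nat_lit 1) (Steps.bwd (nat_lit 5) (Steps.bwd (nat_lit 6) (Steps.bwd (nat_lit 5) (Steps.fwd (nat_lit 2048) (Steps.bwd (nat_lit 3) Steps.nil)))))))))))) (nat_lit 40) (nat_lit 9),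
  Rule.mk (nat_lit 3) (nat_lit 58) (Steps.bwd (nat_lit 4) (Steps.fwd (nat_lit 1536) (Steps.bwd (nat_lit 4) (Steps.fwd (nat_lit 1536) (Steps.fwd (nat_lit 2048) Steps.nil))))) (nat_lit 14) (nat_lit 1),
  Rule.mk (nat_lit 2) (nat_lit 128) (Steps.bwd (nat_lit 4) (Steps.fwd (nat_lit 1536) (Steps.fwd (nat_lit 3072) (Steps.bwd (nat_lit 3) (Steps.bwd (nat_lit 4) (Steps.fwd (nat_lit 2560) (Steps.fwd (nat_lit 3072) (Steps.bwd (nat_lit 5) (Steps.bwd (nat_lit 1) (Steps.bwd (nat_lit 2) (Steps.bwd (nat_lit 1) (Steps.bwd (nat_lit 6) Steps.nil)))))))))))) (nat_lit 41) (nat_lit 2),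
  Rule.mk (nat_lit 2) (nat_lit 58) (Steps.bwd (nat_lit 6) (Steps.fwd (nat_lit 1024) (Steps.fwd (nat_lit 3072) (Steps.fwd (nat_lit 1024) (Steps.bwd (nat_lit 6) Steps.nil))))) (nat_lit 34) (nat_lit 1),
  Rule.mk (nat_lit 2) (nat_lit 88) (Steps.bwd (nat_lit 5) (Steps.bwd (nat_lit 6) (Steps.fwd (nat_lit 1024) (Steps.fwd (nat_lit 2560) (Steps.fwd (nat_lit 3072) (Steps.fwd (nat_lit 1024) (Steps.bwd (nat_lit 5) (Steps.fwd (nat_lit 3072) Steps.nil)))))))) (nat_lit 36) (nat_lit 1),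
  Rule.mk (nat_lit 6) (nat_lit 88) (Steps.bwd (nat_lit 5) (Steps.fwd (nat_lit 1024) (Steps.fwd (nat_lit 3072) (Steps.bwd (nat_lit 5) (Steps.bwd (nat_lit 2) (Steps.fwd (nat_lit 3072) (Steps.fwd (nat_lit 2560) (Steps.fwd (nat_lit 1024) Steps.nil)))))))) (nat_lit 37) (nat_lit 1),
  Rule.mk (nat_lit 4) (nat_lit 48) (Steps.bwd (nat_lit 6) (Steps.bwd (nat_lit 1) (Steps.bwd (nat_lit 4) (Steps.bwd (nat_lit 6) Steps.nil)))) (nat_lit 32) (nat_lit 4),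
  Rule.mk (nat_lit 6) (nat_lit 128) (Steps.bwd (nat_lit 3) (Steps.bwd (nat_lit 4) (Steps.bwd (nat_lit 2) (Steps.fwd (nat_lit 3072) (Steps.fwd (nat_lit 512) (Steps.fwd (nat_lit 1024) (Steps.fwd (nat_lit 512) (Steps.bwd (nat_lit 5) (Steps.fwd (nat_lit 3072) (Steps.fwd (nat_lit 2560) (Steps.bwd (nat_lit 4) (Steps.fwd (nat_lit 1536) Steps.nil)))))))))))) (nat_lit 40) (nat_lit 9),
  Rule.mk (nat_lit 5) (nat_lit 138) (Steps.bwd (nat_lit 3) (Steps.fwd (nat_lit 3072) (Steps.bwd (nat_lit 2) (Steps.bwd (nat_lit 4) (Steps.bwd (nat_lit 3) (Steps.bwd (nat_lit 1) (Steps.fwd (nat_lit 1024) (Steps.bwd (nat_lit 4) (Steps.fwd (nat_lit 1024) (Steps.bwd (nat_lit 6) (Steps.fwd (nat_lit 1536) (Steps.bwd (nat_lit 5) (Steps.bwd (nat_lit 6) Steps.nil))))))))))))) (nat_lit 42) (nat_lit 9),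
  Rule.mk (nat_lit 1) (nat_lit 138) (Steps.bwd (nat_lit 3) (Steps.bwd (nat_lit 4) (Steps.bwd (nat_lit 2) (Steps.fwd (nat_lit 3072) (Steps.fwd (nat_lit 1536) (Steps.fwd (nat_lit 2560) (Steps.fwd (nat_lit 3072) (Steps.bwd (nat_lit 5) (Steps.bwd (nat_lit 3) (Steps.bwd (nat_lit 6) (Steps.fwd (nat_lit 1024) (Steps.fwd (nat_lit 2048) (Steps.fwd (nat_lit 1024) Steps.nil))))))))))))) (nat_lit 43) (nat_lit 0)]
noncomputable def R_3 : List (Rule) := [Rule.mk (nat_lit 4) (nat_lit 58) (Steps.bwd (nat_lit 5) (Steps.bwd (nat_lit 4) (Steps.bwd (nat_lit 5) (Steps.fwd (nat_lit 2048) (Steps.bwd (nat_lit 5) Steps.nil))))) (nat_lit 24) (nat_lit 1),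
  Rule.mk (nat_lit 6) (nat_lit 88) (Steps.bwd (nat_lit 5) (Steps.fwd (nat_lit 1024) (Steps.fwd (nat_lit 3072) (Steps.fwd (nat_lit 2560) (Steps.bwd (nat_lit 2) (Steps.bwd (nat_lit 6) (Steps.fwd (nat_lit 2560) (Steps.bwd (nat_lit 2) Steps.nil)))))))) (nat_lit 37) (nat_lit 1),
  Rule.mk (nat_lit 5) (nat_lit 88) (Steps.bwd (nat_lit 2) (Steps.fwd (nat_lit 3072) (Steps.bwd (nat_lit 5) (Steps.bwd (nat_lit 2) (Steps.fwd (nat_lit 3072) (Steps.fwd (nat_lit 2560) (Steps.fwd (nat_lit 1024) (Steps.bwd (nat_lit 6) Steps.nil)))))))) (nat_lit 37) (nat_lit 2),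
  Rule.mk (nat_lit 4) (nat_lit 138) (Steps.bwd (nat_lit 2) (Steps.fwd (nat_lit 3072) (Steps.bwd (nat_lit 3) (Steps.fwd (nat_lit 2560) (Steps.fwd (nat_lit 3072) (Steps.bwd (nat_lit 5) (Steps.fwd (nat_lit 1536) (Steps.fwd (nat_lit 3072) (Steps.fwd (nat_lit 1024) (Steps.fwd (nat_lit 2048) (Steps.bwd (nat_lit 3) (Steps.bwd (nat_lit 1) (Steps.fwd (nat_lit 1024) Steps.nil))))))))))))) (nat_lit 42) (nat_lit 3),
  Rule.mk (nat_lit 6) (nat_lit 128) (Steps.bwd (nat_lit 3) (Steps.fwd (nat_lit 2048) (Steps.bwd (nat_lit 2) (Steps.fwd (nat_lit 3072) (Steps.fwd (nat_lit 512) (Steps.bwd (nat_lit 2) (Steps.bwd (nat_lit 1) (Steps.bwd (nat_lit 5) (Steps.bwd (nat_lit 6) (Steps.fwd (nat_lit 2560) (Steps.fwd (nat_lit 2048) (Steps.fwd (nat_lit 1536) Steps.nil)))))))))))) (nat_lit 40) (nat_lit 9),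
  Rule.mk (nat_lit 2) (nat_lit 138) (Steps.bwd (nat_lit 3) (Steps.bwd (nat_lit 2) (Steps.fwd (nat_lit 2560) (Steps.fwd (nat_lit 1024) (Steps.fwd (nat_lit 1536) (Steps.fwd (nat_lit 2048) (Steps.bwd (nat_lit 2) (Steps.bwd (nat_lit 1) (Steps.bwd (nat_lit 3) (Steps.fwd (nat_lit 2560) (Steps.fwd (nat_lit 1536) (Steps.fwd (nat_lit 1024) (Steps.fwd (nat_lit 2048) Steps.nil))))))))))))) (nat_lit 27) (nat_lit 6),
  Rule.mk (nat_lit 5) (nat_lit 138) (Steps.bwd (nat_lit 3) (Steps.fwd (nat_lit 3072) (Steps.bwd (nat_lit 2) (Steps.fwd (nat_lit 2048) (Steps.bwd (nat_lit 3) (Steps.fwd (nat_lit 512) (Steps.fwd (nat_lit 1024) (Steps.fwd (nat_lit 2048) (Steps.bwd (nat_lit 2) (Steps.fwd (nat_lit 3072) (Steps.bwd (nat_lit 3) (Steps.bwd (nat_lit 5) (Steps.bwd (nat_lit 6) Steps.nil))))))))))))) (nat_lit 42) (nat_lit 9),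
  Rule.mk (nat_lit 1) (nat_lit 138) (Steps.bwd (nat_lit 3) (Steps.fwd (nat_lit 2048) (Steps.bwd (nat_lit 2) (Steps.fwd (nat_lit 3072) (Steps.bwd (nat_lit 3) (Steps.fwd (nat_lit 2560) (Steps.fwd (nat_lit 3072) (Steps.bwd (nat_lit 5) (Steps.fwd (nat_lit 1536) (Steps.fwd (nat_lit 3072) (Steps.fwd (nat_lit 1024) (Steps.fwd (nat_lit 2048) (Steps.bwd (nat_lit 2) Steps.nil))))))))))))) (nat_lit 43) (nat_lit 0),
  Rule.mk (nat_lit 3) (nat_lit 58) (Steps.bwd (nat_lit 5) (Steps.bwd (nat_lit 3) (Steps.fwd (nat_lit 2560) (Steps.bwd (nat_lit 3) (Steps.bwd (nat_lit 5) Steps.nil))))) (nat_lit 22) (nat_lit 1),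
  Rule.mk (nat_lit 4) (nat_lit 58) (Steps.bwd (nat_lit 5) (Steps.fwd (nat_lit 2048) (Steps.bwd (nat_lit 5) (Steps.fwd (nat_lit 2048) (Steps.bwd (nat_lit 5) Steps.nil))))) (nat_lit 24) (nat_lit 1),
  Rule.mk (nat_lit 2) (nat_lit 88) (Steps.bwd (nat_lit 5) (Steps.fwd (nat_lit 3072) (Steps.fwd (nat_lit 1024) (Steps.bwd (nat_lit 5) (Steps.fwd (nat_lit 3072) (Steps.fwd (nat_lit 1024) (Steps.fwd (nat_lit 2560) (Steps.bwd (nat_lit 6) Steps.nil)))))))) (nat_lit 36) (nat_lit 1),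
  Rule.mk (nat_lit 6) (nat_lit 138) (Steps.bwd (nat_lit 5) (Steps.bwd (nat_lit 3) (Steps.fwd (nat_lit 3072) (Steps.fwd (nat_lit 1024) (Steps.fwd (nat_lit 2048) (Steps.fwd (nat_lit 1536) (Steps.bwd (nat_lit 1) (Steps.fwd (nat_lit 1024) (Steps.bwd (nat_lit 4) (Steps.bwd (nat_lit 2) (Steps.bwd (nat_lit 6) (Steps.fwd (nat_lit 1536) (Steps.fwd (nat_lit 2560) Steps.nil))))))))))))) (nat_lit 42) (nat_lit 8),
  Rule.mk (nat_lit 2) (nat_lit 58) (Steps.bwd (nat_lit 3) (Steps.fwd (nat_lit 512) (Steps.fwd (nat_lit 1024) (Steps.fwd (nat_lit 1536) (Steps.fwd (nat_lit 512) Steps.nil))))) (nat_lit 8) (nat_lit 2),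
  Rule.mk (nat_lit 3) (nat_lit 58) (Steps.bwd (nat_lit 4) (Steps.bwd (nat_lit 3) (Steps.bwd (nat_lit 4) (Steps.fwd (nat_lit 1536) (Steps.fwd (nat_lit 2048) Steps.nil))))) (nat_lit 14) (nat_lit 1),
  Rule.mk (nat_lit 1) (nat_lit 88) (Steps.bwd (nat_lit 4) (Steps.fwd (nat_lit 1024) (Steps.fwd (nat_lit 2048) (Steps.fwd (nat_lit 512) (Steps.fwd (nat_lit 1024) (Steps.fwd (nat_lit 512) (Steps.bwd (nat_lit 4) (Steps.bwd (nat_lit 2) Steps.nil)))))))) (nat_lit 16) (nat_lit 6),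
  Rule.mk (nat_lit 2) (nat_lit 138) (Steps.bwd (nat_lit 4) (Steps.fwd (nat_lit 1024) (Steps.bwd (nat_lit 3) (Steps.fwd (nat_lit 2560) (Steps.fwd (nat_lit 1536) (Steps.fwd (nat_lit 512) (Steps.bwd (nat_lit 2) (Steps.fwd (nat_lit 2048) (Steps.fwd (nat_lit 1536) (Steps.fwd (nat_lit 1024) (Steps.fwd (nat_lit 2560) (Steps.bwd (nat_lit 2) (Steps.bwd (nat_lit 3) Steps.nil))))))))))))) (nat_lit 26) (nat_lit 9),
  Rule.mk (nat_lit 5) (nat_lit 138) (Steps.bwd (nat_lit 4) (Steps.fwd (nat_lit 1024) (Steps.bwd (nat_lit 3) (Steps.fwd (nat_lit 2048) (Steps.fwd (nat_lit 2560) (Steps.bwd (nat_lit 2) (Steps.bwd (nat_lit 4) (Steps.bwd (nat_lit 5) (Steps.bwd (nat_lit 3) (Steps.fwd (nat_lit 1024) (Steps.fwd (nat_lit 2560) (Steps.fwd (nat_lit 2048) (Steps.fwd (nat_lit 1536) Steps.nil))))))))))))) (nat_lit 28) (nat_lit 13),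
  Rule.mk (nat_lit 4) (nat_lit 48) (Steps.bwd (nat_lit 6) (Steps.bwd (nat_lit 1) (Steps.bwd (nat_lit 4) (Steps.fwd (nat_lit 3072) Steps.nil)))) (nat_lit 32) (nat_lit 4),
  Rule.mk (nat_lit 5) (nat_lit 88) (Steps.bwd (nat_lit 6) (Steps.fwd (nat_lit 1024) (Steps.fwd (nat_lit 2560) (Steps.fwd (nat_lit 3072) (Steps.fwd (nat_lit 1024) (Steps.bwd (nat_lit 5) (Steps.bwd (nat_lit 6) (Steps.bwd (nat_lit 2) Steps.nil)))))))) (nat_lit 36) (nat_lit 2),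
  Rule.mk (nat_lit 3) (nat_lit 128) (Steps.bwd (nat_lit 6) (Steps.bwd (nat_lit 3) (Steps.bwd (nat_lit 4) (Steps.fwd (nat_lit 1024) (Steps.fwd (nat_lit 3072) (Steps.fwd (nat_lit 512) (Steps.bwd (nat_lit 2) (Steps.fwd (nat_lit 512) (Steps.fwd (nat_lit 2560) (Steps.bwd (nat_lit 6) (Steps.fwd (nat_lit 2560) (Steps.fwd (nat_lit 2048) Steps.nil)))))))))))) (nat_lit 40) (nat_lit 8),
  Rule.mk (nat_lit 2) (nat_lit 108) (Steps.bwd (nat_lit 5) (Steps.fwd (nat_lit 3072) (Steps.fwd (nat_lit 512) (Steps.bwd (nat_lit 6) (Steps.fwd (nat_lit 1024) (Steps.fwd (nat_lit 2560) (Steps.fwd (nat_lit 512) (Steps.bwd (nat_lit 2) (Steps.fwd (nat_lit 512) (Steps.fwd (nat_lit 2560) Steps.nil)))))))))) (nat_lit 38) (nat_lit 5),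
  Rule.mk (nat_lit 6) (nat_lit 128) (Steps.bwd (nat_lit 5) (Steps.bwd (nat_lit 4) (Steps.fwd (nat_lit 1536) (Steps.fwd (nat_lit 3072) (Steps.bwd (nat_lit 3) (Steps.bwd (nat_lit 4) (Steps.bwd (nat_lit 2) (Steps.bwd (nat_lit 6) (Steps.fwd (nat_lit 512) (Steps.bwd (nat_lit 2) (Steps.fwd (nat_lit 512) (Steps.fwd (nat_lit 2560) Steps.nil)))))))))))) (nat_lit 40) (nat_lit 5),
  Rule.mk (nat_lit 6) (nat_lit 48) (Steps.bwd (nat_lit 1) (Steps.fwd (nat_lit 2048) (Steps.bwd (nat_lit 6) (Steps.fwd (nat_lit 2048) Steps.nil)))) (nat_lit 32) (nat_lit 0),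
  Rule.mk (nat_lit 2) (nat_lit 58) (Steps.bwd (nat_lit 1) (Steps.fwd (nat_lit 1024) (Steps.bwd (nat_lit 1) (Steps.bwd (nat_lit 2) (Steps.fwd (nat_lit 512) Steps.nil))))) (nat_lit 6) (nat_lit 0),
  Rule.mk (nat_lit 3) (nat_lit 58) (Steps.bwd (nat_lit 1) (Steps.fwd (nat_lit 1024) (Steps.bwd (nat_lit 3) (Steps.fwd (nat_lit 512) (Steps.bwd (nat_lit 2) Steps.nil))))) (nat_lit 8) (nat_lit 0)]
noncomputable def R : List (List (Rule)) := [R_0, R_1, R_2, R_3]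
def LW : List Word := [[], [0], [2], [4], [6], [8], [10], [0], [1], [2], [3], [4], [5], [6], [7], [8], [9]]
def par : Par := ⟨9, 5, 14, 23, 511, 16383, 8388607⟩
theorem hpar : par.ok := by decide
theorem hR0_0 : lall (R) (fun l => lall l (ruleOK rels LW par)) = true := by decide +kernel
theorem hR0 : lall (R) (fun l => lall l (ruleOK rels LW par)) = true := hR0_0
theorem hR : RulesOK rels LW par R := rulesOK_of rfl hR0
def cols : List (ℕ × ℕ) := [(512, 1), (1024, 2), (1536, 3), (2048, 4), (2560, 5), (3072, 6)]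
theorem hcols : lall cols (colOK rels LW par) = true := by decide +kernel
noncomputable def JS0 : List ℕ := [nat_lit 0x64011f47810044041fc7e1f40023090074902300f1d22c87008001f0707c00010210170488b064860006c0f020031f07b1a03807024021ec640c0088a0608b058880508820c0e1ec6000008052008722816220811e85c0500c79041e8001e87d16008780007800854001f4101f400051d8001dc8421815050132188303c7c1400075018071ec82040842047a131d48221013048142100f20c801e474121d08103c811d0447c1d80200474100207b1d4001cc3c741f87f1f0730e1cc7d0287d1cc34751e8730c1d07c1f40a0347d1e8730b1d000008740a1d07a01c061e8771cc00091c8761e406014791d872081c8031d471071cc7700c761c818731d8021d873051cc011cc10741d4051d474031d0021d000021cc010107301,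
  nat_lit 0x1e0481e000f4320880e0300724c8f238f08f008a20b83725093238ec900742e0889e01892020930b01d0048e3a24091248350b0a00008d390440f0048d38240112348c37034320408c360089108c01230d40423c012308b340842023c0022ccc8d010942541c260a122cc88a04c0604c8a3124c1a084202308b0081605c932509b228c08a22c1d268892f0008f0088f000b88f240152589c0a404220b40a240232609c014200508f2388d0008b2c22c0b0008b2280a0208a2b02c8f21801074040981d2440d0100c2a21419068192147098258002148429080212502407c8f028010240823014210a01a04495000192702019040830040020c9426208972642909c290a82809c29264972089481230172280605c0e2300e204908120c082389625488044180240720c81232108320880000887f200002007f211fc80014150008014014801fc7e1f,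
  nat_lit 0xa0b80a001680828c02000a159284a20242b2d8280a4b3000a1582c4250a80d030b72d82307c20004a0570002309c2300158af2c0250b8b3014a1000a027d54a02849f000089e2800227950a1014a72a0ad088b12c807020260089e532749e0009d520002300544240dc210009c502acc3310af2713c0227406010372f04f2f037010062749c4e044122e4472e4450d4b100c052709b4d068a100c9b26930aa0ecb80280b2709b268201e2b8002652c300c4b72f0482f0b70c404265289c26c9a264984925c9801c9825c149600096480002d2cc462ecb900c96470b03d2c402255189a0149500c944525004268372d0b82d8af0409725895251109d048a60b02d0c8392bc422bc0224d0c9c0442900492422449200c9224504260481002c0601092245009424c03244903f26ca30048f3e,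
  nat_lit 0x2d4110fc112d470b42e8112e8b4412d0b50340070030b4008b36f1c8002c878e639037038b26e2c4b5024b16d2c4b20183e1104334446050032c8b16c2c0b100cb12c0a400130232c4af6b1b00f000022b9a80e37cdc184d8340bd2e4190e03700cae690043819466164d53702e0b0c10c4022b5a0ad0845e1745e084ad2b19c36148c5000ab660dcc906cb700402078ab652ac000540c02c1b2dc10018050600064050ad2b0ab2a96cbc004a91e000ba094ba001582a06c132c809028002a18c09020150e0332fc0d2b4012a18812044193105716056344d400c06040a8612acac2b4ae29c0c04008b42d424344d9198d72fc30030a760298082a8a65f1745c0ec15298401b0d0152957830054ae2917408028a35c02ca600ca428d6ca2000a248,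
  nat_lit 0xc70007a000c76e1bcfb2007524003008c78b380df31cc600088c500c7600cc5210008d1f100235023dc751d0028a2350141cf118863118df0f8df388383122403310c5334c3881c8e11083630a1c2d1003f11c6d070cf3500330801010c2860280902c49128e11186c08014048c230614c530c06360d90dcd835c340a801302100102cc51b8c502c012fe0c02004183fd01210e7088cc06c1103cbf82024c0008042fa04c90902131cc603c1803c0e034032fa0025310022f5fc000bc3035c3b1605716ce63f0eb300bd7e0bcd635cbf2f1f409020012f0bb7c2ec040f0d60ecf5220e40e0d5198bd2edecbe3745115852068c6004022e9e84c370dd064c50e0d9124022e5e4360e4ca094521344c140e3390012e5e0b9184b92e1dce21d4eb38cb8763182b128b92e1d8082ecba000b775008bd04c472ddd0b80100230c25318c52ddcc0002c00512e8bb03cd3110102ec0c07828064002d9c8c0314c9168dc3b4703503e33c40048b671,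
  nat_lit 0x10082b3f4fe19506174f33ac0200298000042a38c1004412405003a0240ac01a50002a0cc6b43432004daa40a4ec3ac003668c3042c4d3dcf83e4230900036688ed1f48144c8a278ae2648d26003000d9a1004da008992ccaa478902a90d1f0d9a00000122c019f0008a454d99e25096238a7260d8000d79d35d122191235e70e0080d9360d79b3580309803358a40c0b003004d57c35c0e0400235268d40142f0c4300bc490140235264244005200cd39809c0334a5c013c4ed00a58003bc4d1284b1284d0741c078d8060d195034d30201a3425029380e639ccf2f05c2f3802b0b4a10b4e005ccf933380501805338343e060d433648da0ec15330f8280d83b390420c03137ce01487b0a8cc913481c1e82932e40ca36c3636cca8f33cd034cfe22c070247c0240632cca8e000d3054d006007328c98d3481433cd101cc900cc88c,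
  nat_lit 0x1352aca54c512090013bef0fe444470701d008ef3baec221181b004eeba3b8023b8ed77064461205214c9a1bd134080a008edb9010ef018013b2e000014ef0203412c551580b3c005002dc070c85b1a47e1c1184751e1c051004ebb606c27008eb5e4201b000ea3e3d0f5420494104c41504094f8014eab53dc2007c2d0a8fa0882100c01000e9b40040307c03b3000e80042d10c73464680a82000800b23a00200c4d414fb0d4fb4141c004e7b10a8543245a1380239ce6b00742812c0139abc0040c0239ab90213801396b4020004b430704402e3d02c01ce500ab04b1304a0801d0781f0b40500ce5392ace339409394e3aa3880538810020acf10bd242c42d0b832018e338aa4e138804388e111000ee004e0a83b423000df4b0843340454401014082c00803004dfa7378df010df37904003b40537978ec01001374f8dc008dc48,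
  nat_lit 0x45194611741b05050040200505aa4102e4101114454371705a16c4d09c09029064135000090741e82f4500640f4c231643501502ba4050200901d24080640c0501d0b4281c0dc3544c0340744014503945001400020cd120d91200900d0005100bc2d0bd10004ffcf0740400cff3fb383043c1805cfecd3f90808c4112d322648912c4108d083fb301d45845111161041d3f72d010411006cfcca40c17419053ef250240cfa04004360e110534d1280a32840c3ec033eb2027138c93514e2e8b6508b727128010f9c70d036018fa0450a4242c0b509024f93e318f7000010087a4f93d2b4093e0003df14f7018300c834431493349c27c9d020f7c40012417d194605e01cf6c348c964e0063d454b024d2d4984f0940b3d70803038f93e0f4c14182b4100a3cdd0f401cf20c01002010032b545329452b403010023cb002615c9525143320d451cd24e538008f1bf2512c22528230af2a93600402000f0be0013128900bd,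
  nat_lit 0x1b06810443641a05d1e03d0fd8001124450e92445100390dd74300b43120000851544d0c49080260851242cfc004f81b429793d06818424f9080610848420324602f0c05b211370d43646508d641c3145c2e459170c87d0c907d5]
theorem S0_c : blocks (facts 9 5 14 23 511 16383 8388607 10 1023 8 255 A R 32) 32 JS0 371 = true := by decide +kernel
theorem S0 : On (Step.{u} rels LW par A) 371 659 :=
  steps_of_blocks hpar hR S0_c (by decide +kernel)
theorem D0_c : allB (defOK 9 14 23 511 8388607 367 A K) 1 2 = true := by decide +kernel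
theorem D0 : On (fun r => defOK par.W par.WL par.E par.mW par.mE 367 A K r = true) 256 384 :=
  On.of_allB D0_c
noncomputable def JW0 : List ℕ := [nat_lit 0xe79e83d4bd5791d73e280974220444c2d833113867fd0d2284645258b9754608b8f7a03396c351230a3686c8db2dd5b46e0bc9993b4bc4e99dc454c10cf9d5626860f92f9544b48fa10f42887584a1e436844f82015dc8858da3442442d06a2644ac3d15b1537682d04a2946652d8c9ed2aa8bcf72053d6c7511a35458c418b30c46cc7cdab2136ebc189238426be184323634c391d314630c7192b1e64ec811f3226488f19324048491123248,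
  nat_lit 0xe615d3946c5722e735c6b0bb9b05b6b60bc17a2ec5d0abac30e262ce49d03a4bacd19973c0779799dd3384b4cf2d556c668409875c475176aea5404c151a9c53c4bd661985a0b4d6519460e8717b2f442c86469a003cc7f8fe2fd39a761779d15d87588410a218a554910e41cc15061f9604840df169374b70de2df34a81ceda0a606c00d7a063c2bf90430129852958a8e23aab8df9315ee7b0d099b29c4f4a82b32a8549422043c8bfd7d2fc,
  nat_lit 0x14d0f7244a74901241924a87092653e4a16697b31c5c55f18c59062960188596611671965a260cbe9951a4a0c688cd0ce3395092c21a4548d92e2d65f9542942f8b145a902520411499063486a96b1a6350b64b09685605995dab813e3d87c28f1e836d4d8ed23c3ec8e28c3446456bad4340b085293c5564dc9c93a0de5795a2b256e56d42a821a01d46a0cf3c440cfb1f85f67e8e715f5d271cdeae633a594e11c05c2b78a214828c4d47aaaf,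
  nat_lit 0xb798024660963ac41681953a8b015c2c84f26d13223c4d09c1423586c2871b8368b511923ea295d2bd16e401488fa1fc3f0790ec1e03b86ea8d59e640c916d2c66345224e4e211d370a2152501552ad27c50865aa75484d8899291e635d54a982704943706c0d49612da4c2c0590a3aac2c4ae44993254a4d07f8e30725715a9582ac5683825d0e41d01a876500a98e41c65ca714402610fe978410775926187490558c6143e92b5c669d701c4,
  nat_lit 0x462674c82381586116c9c93a2770ae2e01e24f0801081f0444a2120260460949285026c1309a93789d1509cd380aa14c2b06527f12a22c42a7c1249984805f0969a53125c4ca228440870700e81b03206893531a600ba950420861c8a207428b1cc3a83e07a0e697d2d0781901ec488554f49f44ba891c0a186f0e22dc4447896c57eaf0b91335825c09f8eb5029f83f0cc1061e4340640829643306217a4414b9142244586391852ca648d117,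
  nat_lit 0x170300580a01524b0b095c2e05e0b41812804f4a49542b05305e139298540a01484b2561289ac2da681782f85d2761129e4630c41803093da78]
theorem W0_c : blocks (rows 9 5 14 23 511 16383 8388607 11 2047 66 A 659 112 cols 21) 21 JW0 0 = true := by decide +kernel
theorem W0 : On (Row.{u} rels LW par A 659 112 cols) 0 126 :=
  rows_of_blocks hpar (by decide) hcols W0_c (by decide +kernel)
theorem idx : Idx.{u} rels [[0], [2], [4], [6], [8], [10]] [[0], [2], [4], [6], [8]] 112 :=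
  idx_of_cert hpar hR (K := K) (by decide +kernel) (T := 367) (T' := 384) (by decide) D0
    (subs := [1,2,3,4,5]) (by decide +kernel) (T1 := 371) (by decide) (N := 659) S0
    (by decide) (n' := 126) (by decide) W0 (by decide +kernel) (by decide +kernel)
end T1
theorem b1 : Bound.{u} rels [[0], [2], [4], [6], [8], [10]] 3265920 := .of_idx T1.idx b2 (by decide)
namespace T0
noncomputable def A_0 : List (ℕ) := [nat_lit 0x578aaeaba15455c387a3d894f56c41aab415655922b0ac182955cc0c2ac755555186aaa0c6b54c60c2a42061513868a81c1753c22a99e1244c3099c6714a5244e1fa9c10614d0a94a6054b52ca1f2947058ad38a4529c53524e10a90709147383c2a9c1d518e0e06470406b384637987a1e821785e703cbb28cc3310c130425f17c41946518c62b08242bcc6597e6384e109ce7394cb21841d196221c8731665984bd3a08700a241e0ab199a6698e038045ea8a5190bd30c4310cbc2f04540f052348d107a21944f13c80e15052546110d44a88471b445b16c61905810c8320c9c270c4491242dc9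4308c23948532864e92060fc3012863a946719c23b0ec651144111444046318cc1096821745d30fa4e84b72dc44290a32689a096459109826042e0b8507c96318a6294821b8a4711c120845328441084010063f0e821cd43290039087e1f88199001110422a84a105405048a028020407330f83e04391648208b410c43128924c90572104360ae11b06c2848220c1720461a16252b85b2882208c92248c458a032a93f203a9f083f2b08978a821e47931144504aa2a885715c64c06a30463410234f468ba7820a13b122e159c0d4e8406a727099380a6e9b89364d86130e211fc8c08fa3e947f1fc447a6a14d134102c99852f4c8298a6220f13008469788264b8295a5a44ad2c202a9598120f0a0a916514c692a381994124a8891252404928381693912649828ba4a445c2520162f0c204904100c070804b38342f9420128a0d09230684810341c8c140e040a07670502238121d141448ca0483e302522182617100f0b420786c204c3738260d9c0748460388c106419100e1f1c150a4e0606840a028082e1e901748080606a704818380c0b980609ca0611e51483f283a0b140647c80323c14751d10a4290c5314c40ea383028212a3412180a078c0403a30201c10108d9515468404a3224511838080894040a860682030100f100838042c0b0c07046203917300606900309820702a104812180a05840308020d034405014300a04980204c80280e40080c1006030c02458405014402008280402840245488a228600404200207140300c6008042005130802009c00,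
  nat_lit 0x1fc64783a41506818a80b013e07009b0a420988f21163e8c8b0f044591e04d4ac20a42a013f08ca3487e04d023181413011d2b8c2991604c47920a629012f074099846114c69026405013803808f0a604c0230238340d3f4d069f26844c86828a82a04ac1e4a5626641506808f29810791a88450d062a86a095c9d993c0ac81585630ac231a704614710fc8348d222313118fa9891354d463fa5e54d5332a6898093308ca9926054c52f1a600a992e4a429625864b433087834848b0cc634a5234a80d324e05992603421284a649425284a25906012822f87060e022207691843a0b842306c10b836205a16882d0dc41b83640dc19208c14903e0f421a01860a120307a0c103505821387e123c16187e8e091e07068e83a11491c08a60f082107821204840901e203c0e141c07020e236146d1932348c0918460c8c230346011202208841104081504c409870304c161070034a0681650980c182a03081502c409016302c09204009982004c20380e606809082803941301820600a50280a101404040a02808b0101458052a2c011c0a014e0400a201401080200811345428a808101004322a8a0514450a8a01c4038012802070c0e0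0ce070006000002800001000000600000200000080089190d434a79a0c43ccf319ec580cd538c271220643ccc11ac6b0c9725c46a9fc53550c121e8794fc3d427b9ee73a8d419fa7e95093c027d1f423410912007f89114448839e4440d0031e278890340cc721c813d8d01984611c663bca601806389050a088214e2438a83a0e3394e5397c8418f63d84749d254290a1216858d0240826e1742370dc196a7688d735c6751d463b0eb1a026d0501404a6f9d832e0db093e6e949f27c4259dc3360a609be6f90b93d026c9aa63e4fc31a47110fb3ec4689a25310c430d67c04d334c4619f2333cd2112650909324ca54952713cde21445014c631843d14811dc77105651886f13460d9cc52e4b910c05c049e36444f18e220cc811b0539cb720cc1b89c606cc931b06c109e278c5a96a426c9b114451184c5b4e26098206d6c187cb589645a841f2d230a5680aceb39566598eb2aca556d640ab6b1886b588414ac270a1602aa2af915e,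
  nat_lit 0x16064a92a12543120da3a986d1b46368b011b494196c4e04b617c85b05461605a20b044846427483211222704a2138a2148911c6448ba525094112823849425084a032611c47208e651cca328c651084328ca29946504ca2c84650ba32409d11205a049024884806050c07520602d18300c061802010c06738ea628c751d441505411d46720ce3408670aca1585471d87628543b0c761d883b15821d8881a88281c50220e4d07462208811104d14882c8a31964718c5028a02808632dc65b96242d08f3168590cb421422e8f841749d296e25189d17cc5b918621439210a4d089a12484d0d862685731642d1498178c4c132326049093037185c12062e12c41709608b84b0c9617844b0b252586e118a6290c51b826284a31b86e20dc470c8e20444708a423941311c2294452004228e811148232863a10821f8a2003e61001620803904401d063a0e851d14030e8a111430b46a1a82150c3a18743e147c0e4a1c87261088128e42c987209c83907a31c88108fc22187e1fc84008432008131002108441f48210e61109411284078d425046a008855044931323995401cc84605031cc5918f818887c16420f87221645a18b40f885a0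40c1887030c49908bc248899264a4c9086210382908250c842102420ae215cb118ae0f14571788360b631b07120881e1081178a2f0be317cb110be3498b124825883e416c4108b613985b24842d8822128163082120c6a1a8a4911432285008a00e18500e081c07010e048209024044808041004004907f30661e18710a0a0b87a50643708361b941b0d8e3815c22b81d303a5618541e461615831c04628682918521c043801670982602500581391c0a1705870b82c286c17182e0d8c1b06820d02810500698250a009e016602c25024e01980303009d816049803022e00813d0b4c0781250843a08421081230244048120468013002010119010c02002045004022a08811b0b4a07808704411302208881104408c022304410282006882509409d05c30d819188c038c1304c09082460d015307a03101201c09106804ac3d025c06101504808f80404a828025a0a812001809481804b07d10661e0c8c09c63884e21c43f102c130c1c,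
  nat_lit 0x1180af032057c1f38ba201c403388488fa71f47f38fe568ca529442a8d071e455315a6794ad1ec4568aa12b4ad029e19047b1ac41902020a47b28f63d907b1ec0b3ace10c829187c1f081809ce3985251cc3202c614816b0a4c3a0f605983202d0b588100f8c4707871103e28881f0169060c2282c71081828840c016a1cc0a682005883531043a01580cce4006a52007b38601801650d441802005908e02b422014b0a40b608a055c420294078c180f80a905205008202b240014c0b461a860056c3e02820c01420d40a181e054c6b185e1681550bc0aa0aa31e87a02ac559cab2b0e2a11472281e38b02c014726c62587070e0cd399a121c6d1b40a410a7164aa3954339822190a110cc30886510441d84221d8c1d91250ec22028a440c3b22841da8a10ec3b02882b9cb3210e42082716c3a3912109c641900a497a71b05e396a249c9b2a0e510de31314622da26044c590eb415a259d630acc3d91665882b2ac45591623ac6ae11615782b008c757c193abcae095d56ce3d87c65694d28520c04290a40a706a6565570ab0ac15581546ab2a84559533aa8a8115133caa791e733ca508d63594c322ce671225154c31922349cc32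4446729a5538273a9a1f04350d4aa6078752d4a2830a60d4a0ccea6294252c322864190c320c88190de51bc2538de15846f1bc83785a71e82f28f417907a0bc41785660bce731763108bb2ec85d90e32ecbf09765508665146330ca11986530cc6098c12f46609822304c129825f18be2ac45f17c52f8e1197c5f946551443283c31588628ac579056158c2b10c1158af195e7094af2fc45799612bce8197e5f90bf39c8709662384cd11ce598ce732c84310c6218ae190c540ccb270a4396c721c62090e1d108718c8598b052cce811d05a14e82f02741d063a05110a22894511446288a21144ab30a25594ab18485595612accd21787004cd228a669c03380aa29c03399455108a2a8815149c38c43694bd22085e8424188b628c44814bc2f0c5e0c261e02c10f0338c781e023c11a423443311a410c8d23424688a310c17108621904310c22189e213c4f189e27844f2a0c278a042a0a809502414610846308c2118495212a241895,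
  nat_lit 0x3c0a781d233e8fa29f48398fa398684a0e1424ff39d87f8cff370a7fa083444e509e47908f2304e791e453c8d119e46c95003d0e801f61400c021e26d9cf13742789b653c50319ba7615034202819b8740ce419c8641ce43a8a721a06244d021a26804e93b4a681207340c009846e90c23004601de33bcef31de779cbf3884778ca730105320a739d05410c822082410e13a088709083f0e871f064390e1a1c730907394a72a104395083a0475950831ce7b21653d8b439d26798e9398874a1473a101221476990a4286851da14290b31d675110b3a8285a0464090212046d91022e8e309da32e8a931745d04ba3b885d1b863709f21b85e1ced3688769ae7264d7096a5c18d735ca6b992435cb511d47590eb3b027597023acda39b46d18da27866d1b42368a629b4809d01404c809bc2404ec21d87a08ec27cc6d992336cc411b64f9cdd3ecc6e8c0327cc631dc771cee3b8a771dc13b8df11dc531ca629845309c3298c4214c2698a637ce6f98e337ca331be6f0cf43eca7a18e43d0d931e87e04d535486a9f633ece219f87e08fc3f087e15e7388d939f6491cd130cc689cc1344c419885c84c41a8e621f073e0f821f07c0cf83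3c47c1f053e0d329a66990d334ce69926334cf911f27c9cf9348a7c9a443e4d209f2670cd2348e69126624ca109425088a128465094262848d39422614a110ce49926124ca909525488a931885495232a4de29bc6f1cde37826f14063784c21405008a0318e501403280a009403d8cc63182631486290773948518ca41344520aa42904d29485194772b483b8ee61dc3718ee3590a3134e5189a128ca5209a589ce6338c7315c72e4a53172510cb92e0e2f94e42e06029706c8cd932086c98e631cc8098e6418c820c66414e13604e114e6c14a726cc5394e329cc929062d1c83138241906420c9b289c189c4e13882719223249839924d84c9274e6c16a52d44b293c251c9e180225864612c6030f6701ce033c86194412889438b8239c96070e2889871e051028c3c016d114e228e871d08e3904389c71204e408fc71f86e398a3e1c39230e460e471c82838500b9c170f4e1a05005841702a01a015c0f40a883271183402ba0c8160,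
  nat_lit 0x1121a24891d12448a892242449120a24891112434e86a0a24350d221a860d0d434286a0c63cd062a0c83050639448320c7419001a0c799cf33cc27998423cce421607298b0158e5819852c0cc09607188b032ce71998338d0021c66118e3414a71a1e3441113a208895103f848822214410922207918cc218e661ec4330ff21ac6b18d62ece6b1845358ef09ac241c972e8a4b92e425c97312e4b84973f8e849fc6444f021fc828cfe43c27f21843bcff0a1881150c3ace861fe6430fa221e839d0f3d4e85a0843d50819ea7a88f53dcc7a98e53d4d411ee788cf7320a7ba0a43dcd431a84a9cd4288a6a1a84350d409a88710fd354e7e9a663f4dd11fa8704fd3e8e7821263c0c019e07208f0]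
noncomputable def A : List (List (ℕ)) := [A_0]
noncomputable def K_0 : List (ℕ) := [nat_lit 0x96262972318be5a8aa2c97a4797e339a6569525b93e369023a8f63e919cb7421e9265299e30745c78d2258e2418e63c86e148fe648ca5d8ae298ba517b9ec72265739b38561986a236822d7b65075e4e749d6715c3766428761c69dba849aa731a461a6874d7a7957f7257b899be8623579222882108a2248de136a1b7845a5631a398da16f1b589d837adb24c99e7056d5797c6d9ac735cf6998b85d9c61d965ad975b1907f1db5f5c2885ae6c19a645985b91c7719f6ed8977579575786bdd8755b86adc46f552541546a5a26158e63db9629d47817e4ad2c729826fe1687e0e5454f5394d6d13e67588701956119b4c53c4e15f529485314b505424d93a571de635b17694450d1b5d11f4ed394cd1755528469494a5135192749925501124f5354d1304591143d154811e475044610d4510a441094390c4210540d0240000,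
  nat_lit 0x83e0d8320b82a098220781a058120380a01801ff7f9fd7edfa7e5f87ddf67d5f47cdf27c5f07bdea7a5e879de678de2785df719ad6659464d92605805dd765d5735c9715c16f5a9695a1675996559163589615815b56959561575595351d454fd374bd2e4b52a49123489214650b41d064066c95e669824b9ae61912459664892a6a9364c94e438ee55]
noncomputable def K : List (List (ℕ)) := [K_0]
noncomputable def R_0 : List (Rule) := [Rule.mk (nat_lit 7) (nat_lit 98) (Steps.bwd (nat_lit 5) (Steps.bwd (nat_lit 3) (Steps.bwd (nat_lit 7) (Steps.fwd (nat_lit 3072) (Steps.fwd (nat_lit 5120) (Steps.fwd (nat_lit 3072) (Steps.fwd (nat_lit 7168) (Steps.fwd (nat_lit 3072) Steps.nil)))))))) (nat_lit 55) (nat_lit 3),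
  Rule.mk (nat_lit 3) (nat_lit 98) (Steps.fwd (nat_lit 7168) (Steps.bwd (nat_lit 3) (Steps.bwd (nat_lit 7) (Steps.fwd (nat_lit 5120) (Steps.fwd (nat_lit 3072) (Steps.fwd (nat_lit 7168) (Steps.fwd (nat_lit 3072) (Steps.fwd (nat_lit 5120) Steps.nil)))))))) (nat_lit 55) (nat_lit 0),
  Rule.mk (nat_lit 5) (nat_lit 98) (Steps.fwd (nat_lit 3072) (Steps.bwd (nat_lit 7) (Steps.fwd (nat_lit 3072) (Steps.fwd (nat_lit 7168) (Steps.fwd (nat_lit 5120) (Steps.fwd (nat_lit 3072) (Steps.fwd (nat_lit 7168) (Steps.bwd (nat_lit 3) Steps.nil)))))))) (nat_lit 55) (nat_lit 8),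
  Rule.mk (nat_lit 4) (nat_lit 87) (Steps.fwd (nat_lit 7168) (Steps.bwd (nat_lit 3) (Steps.bwd (nat_lit 7) (Steps.fwd (nat_lit 4096) (Steps.fwd (nat_lit 7168) (Steps.fwd (nat_lit 3072) (Steps.bwd (nat_lit 7) Steps.nil))))))) (nat_lit 46) (nat_lit 3),
  Rule.mk (nat_lit 5) (nat_lit 98) (Steps.bwd (nat_lit 6) (Steps.bwd (nat_lit 7) (Steps.fwd (nat_lit 6144) (Steps.fwd (nat_lit 1024) (Steps.fwd (nat_lit 5120) (Steps.fwd (nat_lit 6144) (Steps.fwd (nat_lit 7168) (Steps.fwd (nat_lit 6144) Steps.nil)))))))) (nat_lit 52) (nat_lit 6),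
  Rule.mk (nat_lit 1) (nat_lit 98) (Steps.fwd (nat_lit 5120) (Steps.bwd (nat_lit 6) (Steps.bwd (nat_lit 7) (Steps.fwd (nat_lit 6144) (Steps.fwd (nat_lit 5120) (Steps.fwd (nat_lit 6144) (Steps.fwd (nat_lit 7168) (Steps.fwd (nat_lit 6144) Steps.nil)))))))) (nat_lit 52) (nat_lit 1),
  Rule.mk (nat_lit 6) (nat_lit 54) (Steps.bwd (nat_lit 4) (Steps.fwd (nat_lit 1024) (Steps.bwd (nat_lit 6) (Steps.fwd (nat_lit 4096) Steps.nil)))) (nat_lit 33) (nat_lit 3),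
  Rule.mk (nat_lit 1) (nat_lit 54) (Steps.bwd (nat_lit 6) (Steps.bwd (nat_lit 4) (Steps.bwd (nat_lit 6) (Steps.fwd (nat_lit 4096) Steps.nil)))) (nat_lit 33) (nat_lit 0),
  Rule.mk (nat_lit 1) (nat_lit 54) (Steps.fwd (nat_lit 6144) (Steps.bwd (nat_lit 4) (Steps.fwd (nat_lit 6144) (Steps.fwd (nat_lit 4096) Steps.nil)))) (nat_lit 33) (nat_lit 0),
  Rule.mk (nat_lit 0) (nat_lit 65) (Steps.bwd (nat_lit 1) (Steps.fwd (nat_lit 6144) (Steps.fwd (nat_lit 4096) (Steps.fwd (nat_lit 6144) (Steps.bwd (nat_lit 4) Steps.nil))))) (nat_lit 33) (nat_lit 4),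
  Rule.mk (nat_lit 1) (nat_lit 32) (Steps.bwd (nat_lit 0) (Steps.bwd (nat_lit 1) Steps.nil)) (nat_lit 60) (nat_lit 0),
  Rule.mk (nat_lit 2) (nat_lit 65) (Steps.bwd (nat_lit 1) (Steps.bwd (nat_lit 2) (Steps.fwd (nat_lit 1024) (Steps.fwd (nat_lit 2048) (Steps.fwd (nat_lit 1024) Steps.nil))))) (nat_lit 6) (nat_lit 0),
  Rule.mk (nat_lit 7) (nat_lit 120) (Steps.bwd (nat_lit 5) (Steps.bwd (nat_lit 2) (Steps.bwd (nat_lit 7) (Steps.fwd (nat_lit 2048) (Steps.fwd (nat_lit 5120) (Steps.fwd (nat_lit 1024) (Steps.fwd (nat_lit 2048) (Steps.fwd (nat_lit 7168) (Steps.fwd (nat_lit 2048) (Steps.fwd (nat_lit 1024) Steps.nil)))))))))) (nat_lit 59) (nat_lit 1),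
  Rule.mk (nat_lit 7) (nat_lit 109) (Steps.bwd (nat_lit 4) (Steps.fwd (nat_lit 7168) (Steps.bwd (nat_lit 1) (Steps.bwd (nat_lit 2) (Steps.fwd (nat_lit 1024) (Steps.bwd (nat_lit 7) (Steps.fwd (nat_lit 4096) (Steps.fwd (nat_lit 7168) (Steps.fwd (nat_lit 2048) Steps.nil))))))))) (nat_lit 56) (nat_lit 8),
  Rule.mk (nat_lit 5) (nat_lit 120) (Steps.bwd (nat_lit 2) (Steps.fwd (nat_lit 7168) (Steps.bwd (nat_lit 2) (Steps.fwd (nat_lit 5120) (Steps.bwd (nat_lit 7) (Steps.fwd (nat_lit 1024) (Steps.fwd (nat_lit 2048) (Steps.fwd (nat_lit 7168) (Steps.fwd (nat_lit 2048) (Steps.fwd (nat_lit 1024) Steps.nil)))))))))) (nat_lit 58) (nat_lit 6),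
  Rule.mk (nat_lit 1) (nat_lit 120) (Steps.bwd (nat_lit 2) (Steps.fwd (nat_lit 7168) (Steps.bwd (nat_lit 2) (Steps.fwd (nat_lit 1024) (Steps.fwd (nat_lit 5120) (Steps.fwd (nat_lit 2048) (Steps.bwd (nat_lit 7) (Steps.fwd (nat_lit 2048) (Steps.fwd (nat_lit 5120) (Steps.bwd (nat_lit 7) Steps.nil)))))))))) (nat_lit 58) (nat_lit 1),
  Rule.mk (nat_lit 0) (nat_lit 131) (Steps.fwd (nat_lit 1024) (Steps.bwd (nat_lit 5) (Steps.bwd (nat_lit 2) (Steps.fwd (nat_lit 6144) (Steps.fwd (nat_lit 1024) (Steps.bwd (nat_lit 6) (Steps.fwd (nat_lit 5120) (Steps.fwd (nat_lit 2048) (Steps.fwd (nat_lit 5120) (Steps.bwd (nat_lit 1) (Steps.bwd (nat_lit 2) Steps.nil))))))))))) (nat_lit 39) (nat_lit 10),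
  Rule.mk (nat_lit 1) (nat_lit 32) (Steps.bwd (nat_lit 0) (Steps.fwd (nat_lit 1024) Steps.nil)) (nat_lit 60) (nat_lit 0),
  Rule.mk (nat_lit 2) (nat_lit 32) (Steps.bwd (nat_lit 0) (Steps.bwd (nat_lit 2) Steps.nil)) (nat_lit 60) (nat_lit 0),
  Rule.mk (nat_lit 5) (nat_lit 32) (Steps.bwd (nat_lit 0) (Steps.fwd (nat_lit 5120) Steps.nil)) (nat_lit 60) (nat_lit 0),
  Rule.mk (nat_lit 1) (nat_lit 65) (Steps.bwd (nat_lit 2) (Steps.bwd (nat_lit 3) (Steps.fwd (nat_lit 1024) (Steps.fwd (nat_lit 2048) (Steps.fwd (nat_lit 3072) Steps.nil))))) (nat_lit 8) (nat_lit 1),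
  Rule.mk (nat_lit 5) (nat_lit 65) (Steps.bwd (nat_lit 4) (Steps.bwd (nat_lit 5) (Steps.bwd (nat_lit 4) (Steps.bwd (nat_lit 5) (Steps.fwd (nat_lit 4096) Steps.nil))))) (nat_lit 24) (nat_lit 0),
  Rule.mk (nat_lit 1) (nat_lit 120) (Steps.bwd (nat_lit 6) (Steps.bwd (nat_lit 5) (Steps.fwd (nat_lit 2048) (Steps.fwd (nat_lit 5120) (Steps.bwd (nat_lit 1) (Steps.bwd (nat_lit 2) (Steps.fwd (nat_lit 1024) (Steps.fwd (nat_lit 5120) (Steps.fwd (nat_lit 2048) (Steps.fwd (nat_lit 6144) Steps.nil)))))))))) (nat_lit 39) (nat_lit 4),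
  Rule.mk (nat_lit 6) (nat_lit 54) (Steps.bwd (nat_lit 4) (Steps.bwd (nat_lit 6) (Steps.bwd (nat_lit 1) (Steps.fwd (nat_lit 4096) Steps.nil)))) (nat_lit 32) (nat_lit 3),
  Rule.mk (nat_lit 6) (nat_lit 54) (Steps.bwd (nat_lit 1) (Steps.bwd (nat_lit 4) (Steps.bwd (nat_lit 6) (Steps.fwd (nat_lit 4096) Steps.nil)))) (nat_lit 32) (nat_lit 0),
  Rule.mk (nat_lit 4) (nat_lit 54) (Steps.bwd (nat_lit 1) (Steps.fwd (nat_lit 6144) (Steps.bwd (nat_lit 4) (Steps.fwd (nat_lit 6144) Steps.nil)))) (nat_lit 33) (nat_lit 4),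
  Rule.mk (nat_lit 3) (nat_lit 65) (Steps.bwd (nat_lit 1) (Steps.bwd (nat_lit 3) (Steps.fwd (nat_lit 1024) (Steps.fwd (nat_lit 3072) (Steps.fwd (nat_lit 1024) Steps.nil))))) (nat_lit 10) (nat_lit 0),
  Rule.mk (nat_lit 2) (nat_lit 65) (Steps.bwd (nat_lit 3) (Steps.bwd (nat_lit 1) (Steps.bwd (nat_lit 2) (Steps.fwd (nat_lit 3072) (Steps.fwd (nat_lit 1024) Steps.nil))))) (nat_lit 8) (nat_lit 2),
  Rule.mk (nat_lit 2) (nat_lit 65) (Steps.bwd (nat_lit 1) (Steps.fwd (nat_lit 2048) (Steps.bwd (nat_lit 1) (Steps.fwd (nat_lit 2048) (Steps.fwd (nat_lit 1024) Steps.nil))))) (nat_lit 6) (nat_lit 0),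
  Rule.mk (nat_lit 3) (nat_lit 65) (Steps.bwd (nat_lit 1) (Steps.fwd (nat_lit 2048) (Steps.fwd (nat_lit 3072) (Steps.bwd (nat_lit 1) (Steps.fwd (nat_lit 2048) Steps.nil))))) (nat_lit 8) (nat_lit 0),
  Rule.mk (nat_lit 5) (nat_lit 43) (Steps.bwd (nat_lit 1) (Steps.bwd (nat_lit 5) (Steps.fwd (nat_lit 1024) Steps.nil))) (nat_lit 20) (nat_lit 0),
  Rule.mk (nat_lit 5) (nat_lit 65) (Steps.bwd (nat_lit 4) (Steps.fwd (nat_lit 5120) (Steps.fwd (nat_lit 4096) (Steps.bwd (nat_lit 5) (Steps.fwd (nat_lit 4096) Steps.nil))))) (nat_lit 24) (nat_lit 0),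
  Rule.mk (nat_lit 4) (nat_lit 54) (Steps.bwd (nat_lit 1) (Steps.bwd (nat_lit 6) (Steps.fwd (nat_lit 4096) (Steps.fwd (nat_lit 6144) Steps.nil)))) (nat_lit 33) (nat_lit 4),
  Rule.mk (nat_lit 6) (nat_lit 54) (Steps.bwd (nat_lit 1) (Steps.fwd (nat_lit 4096) (Steps.fwd (nat_lit 6144) (Steps.bwd (nat_lit 4) Steps.nil)))) (nat_lit 32) (nat_lit 0),
  Rule.mk (nat_lit 4) (nat_lit 54) (Steps.fwd (nat_lit 6144) (Steps.bwd (nat_lit 1) (Steps.bwd (nat_lit 4) (Steps.bwd (nat_lit 6) Steps.nil)))) (nat_lit 32) (nat_lit 4),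
  Rule.mk (nat_lit 4) (nat_lit 65) (Steps.bwd (nat_lit 3) (Steps.bwd (nat_lit 4) (Steps.bwd (nat_lit 3) (Steps.fwd (nat_lit 4096) (Steps.fwd (nat_lit 3072) Steps.nil))))) (nat_lit 14) (nat_lit 0),
  Rule.mk (nat_lit 1) (nat_lit 43) (Steps.bwd (nat_lit 5) (Steps.fwd (nat_lit 1024) (Steps.fwd (nat_lit 5120) Steps.nil))) (nat_lit 20) (nat_lit 1),
  Rule.mk (nat_lit 4) (nat_lit 65) (Steps.bwd (nat_lit 5) (Steps.bwd (nat_lit 4) (Steps.fwd (nat_lit 5120) (Steps.fwd (nat_lit 4096) (Steps.fwd (nat_lit 5120) Steps.nil))))) (nat_lit 24) (nat_lit 1),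
  Rule.mk (nat_lit 3) (nat_lit 87) (Steps.bwd (nat_lit 7) (Steps.bwd (nat_lit 4) (Steps.bwd (nat_lit 7) (Steps.fwd (nat_lit 3072) (Steps.fwd (nat_lit 7168) (Steps.fwd (nat_lit 4096) (Steps.fwd (nat_lit 7168) Steps.nil))))))) (nat_lit 46) (nat_lit 1),
  Rule.mk (nat_lit 6) (nat_lit 87) (Steps.bwd (nat_lit 7) (Steps.bwd (nat_lit 4) (Steps.bwd (nat_lit 7) (Steps.fwd (nat_lit 6144) (Steps.fwd (nat_lit 7168) (Steps.fwd (nat_lit 4096) (Steps.fwd (nat_lit 7168) Steps.nil))))))) (nat_lit 50) (nat_lit 3),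
  Rule.mk (nat_lit 2) (nat_lit 109) (Steps.bwd (nat_lit 7) (Steps.bwd (nat_lit 4) (Steps.bwd (nat_lit 7) (Steps.fwd (nat_lit 1024) (Steps.fwd (nat_lit 2048) (Steps.fwd (nat_lit 1024) (Steps.fwd (nat_lit 7168) (Steps.fwd (nat_lit 4096) (Steps.fwd (nat_lit 7168) Steps.nil))))))))) (nat_lit 56) (nat_lit 7),
  Rule.mk (nat_lit 6) (nat_lit 65) (Steps.bwd (nat_lit 2) (Steps.bwd (nat_lit 6) (Steps.bwd (nat_lit 2) (Steps.fwd (nat_lit 6144) (Steps.fwd (nat_lit 2048) Steps.nil))))) (nat_lit 34) (nat_lit 0),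
  Rule.mk (nat_lit 1) (nat_lit 65) (Steps.bwd (nat_lit 2) (Steps.bwd (nat_lit 1) (Steps.fwd (nat_lit 2048) (Steps.fwd (nat_lit 1024) (Steps.fwd (nat_lit 2048) Steps.nil))))) (nat_lit 6) (nat_lit 1),
  Rule.mk (nat_lit 5) (nat_lit 120) (Steps.bwd (nat_lit 2) (Steps.bwd (nat_lit 5) (Steps.fwd (nat_lit 6144) (Steps.bwd (nat_lit 1) (Steps.bwd (nat_lit 6) (Steps.fwd (nat_lit 2048) (Steps.bwd (nat_lit 5) (Steps.fwd (nat_lit 1024) (Steps.fwd (nat_lit 2048) (Steps.fwd (nat_lit 1024) Steps.nil)))))))))) (nat_lit 38) (nat_lit 4),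
  Rule.mk (nat_lit 4) (nat_lit 54) (Steps.bwd (nat_lit 6) (Steps.bwd (nat_lit 1) (Steps.bwd (nat_lit 4) (Steps.fwd (nat_lit 6144) Steps.nil)))) (nat_lit 32) (nat_lit 4),
  Rule.mk (nat_lit 4) (nat_lit 54) (Steps.bwd (nat_lit 6) (Steps.fwd (nat_lit 1024) (Steps.fwd (nat_lit 4096) (Steps.fwd (nat_lit 6144) Steps.nil)))) (nat_lit 32) (nat_lit 4),
  Rule.mk (nat_lit 1) (nat_lit 54) (Steps.fwd (nat_lit 4096) (Steps.bwd (nat_lit 6) (Steps.bwd (nat_lit 4) (Steps.fwd (nat_lit 6144) Steps.nil)))) (nat_lit 32) (nat_lit 1),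
  Rule.mk (nat_lit 2) (nat_lit 98) (Steps.bwd (nat_lit 5) (Steps.fwd (nat_lit 6144) (Steps.bwd (nat_lit 2) (Steps.fwd (nat_lit 5120) (Steps.bwd (nat_lit 6) (Steps.fwd (nat_lit 2048) (Steps.fwd (nat_lit 5120) (Steps.fwd (nat_lit 6144) Steps.nil)))))))) (nat_lit 36) (nat_lit 1),
  Rule.mk (nat_lit 1) (nat_lit 65) (Steps.bwd (nat_lit 2) (Steps.bwd (nat_lit 3) (Steps.bwd (nat_lit 1) (Steps.fwd (nat_lit 2048) (Steps.fwd (nat_lit 3072) Steps.nil))))) (nat_lit 8) (nat_lit 1),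
  Rule.mk (nat_lit 1) (nat_lit 65) (Steps.bwd (nat_lit 3) (Steps.fwd (nat_lit 1024) (Steps.bwd (nat_lit 3) (Steps.fwd (nat_lit 1024) (Steps.fwd (nat_lit 3072) Steps.nil))))) (nat_lit 10) (nat_lit 1),
  Rule.mk (nat_lit 3) (nat_lit 65) (Steps.bwd (nat_lit 2) (Steps.fwd (nat_lit 1024) (Steps.bwd (nat_lit 3) (Steps.fwd (nat_lit 2048) (Steps.fwd (nat_lit 1024) Steps.nil))))) (nat_lit 9) (nat_lit 1),
  Rule.mk (nat_lit 3) (nat_lit 65) (Steps.bwd (nat_lit 5) (Steps.bwd (nat_lit 3) (Steps.bwd (nat_lit 5) (Steps.fwd (nat_lit 3072) (Steps.fwd (nat_lit 5120) Steps.nil))))) (nat_lit 22) (nat_lit 1),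
  Rule.mk (nat_lit 4) (nat_lit 87) (Steps.bwd (nat_lit 7) (Steps.bwd (nat_lit 3) (Steps.bwd (nat_lit 7) (Steps.fwd (nat_lit 4096) (Steps.fwd (nat_lit 7168) (Steps.fwd (nat_lit 3072) (Steps.fwd (nat_lit 7168) Steps.nil))))))) (nat_lit 46) (nat_lit 3),
  Rule.mk (nat_lit 1) (nat_lit 54) (Steps.bwd (nat_lit 4) (Steps.fwd (nat_lit 6144) (Steps.fwd (nat_lit 4096) (Steps.bwd (nat_lit 6) Steps.nil)))) (nat_lit 32) (nat_lit 1),
  Rule.mk (nat_lit 4) (nat_lit 109) (Steps.bwd (nat_lit 7) (Steps.bwd (nat_lit 1) (Steps.fwd (nat_lit 2048) (Steps.bwd (nat_lit 1) (Steps.bwd (nat_lit 7) (Steps.fwd (nat_lit 4096) (Steps.fwd (nat_lit 7168) (Steps.fwd (nat_lit 2048) (Steps.fwd (nat_lit 7168) Steps.nil))))))))) (nat_lit 56) (nat_lit 9),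
  Rule.mk (nat_lit 4) (nat_lit 98) (Steps.bwd (nat_lit 1) (Steps.bwd (nat_lit 2) (Steps.fwd (nat_lit 1024) (Steps.bwd (nat_lit 4) (Steps.fwd (nat_lit 2048) (Steps.bwd (nat_lit 1) (Steps.fwd (nat_lit 4096) (Steps.fwd (nat_lit 2048) Steps.nil)))))))) (nat_lit 16) (nat_lit 0),
  Rule.mk (nat_lit 4) (nat_lit 87) (Steps.bwd (nat_lit 7) (Steps.bwd (nat_lit 4) (Steps.bwd (nat_lit 7) (Steps.fwd (nat_lit 4096) (Steps.fwd (nat_lit 7168) (Steps.fwd (nat_lit 4096) (Steps.fwd (nat_lit 7168) Steps.nil))))))) (nat_lit 48) (nat_lit 1),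
  Rule.mk (nat_lit 2) (nat_lit 109) (Steps.bwd (nat_lit 7) (Steps.bwd (nat_lit 4) (Steps.bwd (nat_lit 7) (Steps.bwd (nat_lit 1) (Steps.fwd (nat_lit 2048) (Steps.fwd (nat_lit 1024) (Steps.fwd (nat_lit 7168) (Steps.fwd (nat_lit 4096) (Steps.fwd (nat_lit 7168) Steps.nil))))))))) (nat_lit 56) (nat_lit 7),
  Rule.mk (nat_lit 4) (nat_lit 98) (Steps.bwd (nat_lit 1) (Steps.bwd (nat_lit 2) (Steps.fwd (nat_lit 1024) (Steps.bwd (nat_lit 4) (Steps.fwd (nat_lit 2048) (Steps.fwd (nat_lit 1024) (Steps.fwd (nat_lit 4096) (Steps.fwd (nat_lit 2048) Steps.nil)))))))) (nat_lit 16) (nat_lit 0),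
  Rule.mk (nat_lit 1) (nat_lit 98) (Steps.bwd (nat_lit 4) (Steps.bwd (nat_lit 2) (Steps.bwd (nat_lit 4) (Steps.fwd (nat_lit 1024) (Steps.fwd (nat_lit 2048) (Steps.fwd (nat_lit 1024) (Steps.fwd (nat_lit 4096) (Steps.fwd (nat_lit 2048) Steps.nil)))))))) (nat_lit 16) (nat_lit 6),
  Rule.mk (nat_lit 2) (nat_lit 65) (Steps.bwd (nat_lit 1) (Steps.bwd (nat_lit 2) (Steps.fwd (nat_lit 1024) (Steps.fwd (nat_lit 2048) (Steps.bwd (nat_lit 1) Steps.nil))))) (nat_lit 6) (nat_lit 0),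
  Rule.mk (nat_lit 4) (nat_lit 87) (Steps.bwd (nat_lit 7) (Steps.bwd (nat_lit 6) (Steps.bwd (nat_lit 7) (Steps.fwd (nat_lit 4096) (Steps.fwd (nat_lit 7168) (Steps.fwd (nat_lit 6144) (Steps.fwd (nat_lit 7168) Steps.nil))))))) (nat_lit 50) (nat_lit 1),
  Rule.mk (nat_lit 6) (nat_lit 65) (Steps.bwd (nat_lit 2) (Steps.bwd (nat_lit 6) (Steps.fwd (nat_lit 2048) (Steps.fwd (nat_lit 6144) (Steps.fwd (nat_lit 2048) Steps.nil))))) (nat_lit 34) (nat_lit 0),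
  Rule.mk (nat_lit 1) (nat_lit 43) (Steps.bwd (nat_lit 5) (Steps.bwd (nat_lit 1) (Steps.fwd (nat_lit 5120) Steps.nil))) (nat_lit 20) (nat_lit 1)]
noncomputable def R_1 : List (Rule) := [Rule.mk (nat_lit 4) (nat_lit 87) (Steps.bwd (nat_lit 7) (Steps.fwd (nat_lit 4096) (Steps.fwd (nat_lit 7168) (Steps.bwd (nat_lit 4) (Steps.bwd (nat_lit 7) (Steps.fwd (nat_lit 4096) (Steps.fwd (nat_lit 7168) Steps.nil))))))) (nat_lit 48) (nat_lit 1),
  Rule.mk (nat_lit 5) (nat_lit 65) (Steps.bwd (nat_lit 4) (Steps.bwd (nat_lit 5) (Steps.fwd (nat_lit 4096) (Steps.fwd (nat_lit 5120) (Steps.fwd (nat_lit 4096) Steps.nil))))) (nat_lit 24) (nat_lit 0),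
  Rule.mk (nat_lit 6) (nat_lit 54) (Steps.bwd (nat_lit 4) (Steps.bwd (nat_lit 6) (Steps.fwd (nat_lit 1024) (Steps.fwd (nat_lit 4096) Steps.nil)))) (nat_lit 32) (nat_lit 3),
  Rule.mk (nat_lit 6) (nat_lit 54) (Steps.bwd (nat_lit 4) (Steps.fwd (nat_lit 6144) (Steps.bwd (nat_lit 1) (Steps.fwd (nat_lit 4096) Steps.nil)))) (nat_lit 32) (nat_lit 3),
  Rule.mk (nat_lit 3) (nat_lit 65) (Steps.bwd (nat_lit 4) (Steps.bwd (nat_lit 3) (Steps.bwd (nat_lit 4) (Steps.fwd (nat_lit 3072) (Steps.fwd (nat_lit 4096) Steps.nil))))) (nat_lit 14) (nat_lit 1),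
  Rule.mk (nat_lit 3) (nat_lit 65) (Steps.bwd (nat_lit 5) (Steps.bwd (nat_lit 3) (Steps.fwd (nat_lit 5120) (Steps.fwd (nat_lit 3072) (Steps.fwd (nat_lit 5120) Steps.nil))))) (nat_lit 22) (nat_lit 1),
  Rule.mk (nat_lit 3) (nat_lit 65) (Steps.bwd (nat_lit 1) (Steps.bwd (nat_lit 2) (Steps.fwd (nat_lit 3072) (Steps.fwd (nat_lit 1024) (Steps.fwd (nat_lit 2048) Steps.nil))))) (nat_lit 8) (nat_lit 0),
  Rule.mk (nat_lit 5) (nat_lit 120) (Steps.bwd (nat_lit 2) (Steps.bwd (nat_lit 5) (Steps.bwd (nat_lit 6) (Steps.bwd (nat_lit 1) (Steps.bwd (nat_lit 6) (Steps.fwd (nat_lit 2048) (Steps.bwd (nat_lit 5) (Steps.bwd (nat_lit 1) (Steps.fwd (nat_lit 2048) (Steps.fwd (nat_lit 1024) Steps.nil)))))))))) (nat_lit 38) (nat_lit 4),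
  Rule.mk (nat_lit 5) (nat_lit 43) (Steps.bwd (nat_lit 1) (Steps.fwd (nat_lit 5120) (Steps.bwd (nat_lit 1) Steps.nil))) (nat_lit 20) (nat_lit 0),
  Rule.mk (nat_lit 2) (nat_lit 65) (Steps.bwd (nat_lit 1) (Steps.bwd (nat_lit 2) (Steps.bwd (nat_lit 1) (Steps.fwd (nat_lit 2048) (Steps.fwd (nat_lit 1024) Steps.nil))))) (nat_lit 6) (nat_lit 0),
  Rule.mk (nat_lit 5) (nat_lit 120) (Steps.bwd (nat_lit 2) (Steps.bwd (nat_lit 5) (Steps.fwd (nat_lit 6144) (Steps.fwd (nat_lit 1024) (Steps.fwd (nat_lit 6144) (Steps.bwd (nat_lit 2) (Steps.fwd (nat_lit 5120) (Steps.fwd (nat_lit 1024) (Steps.fwd (nat_lit 2048) (Steps.fwd (nat_lit 1024) Steps.nil)))))))))) (nat_lit 38) (nat_lit 4),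
  Rule.mk (nat_lit 3) (nat_lit 65) (Steps.bwd (nat_lit 2) (Steps.fwd (nat_lit 1024) (Steps.fwd (nat_lit 3072) (Steps.fwd (nat_lit 2048) (Steps.fwd (nat_lit 1024) Steps.nil))))) (nat_lit 9) (nat_lit 1),
  Rule.mk (nat_lit 4) (nat_lit 153) (Steps.bwd (nat_lit 3) (Steps.bwd (nat_lit 2) (Steps.bwd (nat_lit 5) (Steps.fwd (nat_lit 2048) (Steps.fwd (nat_lit 3072) (Steps.bwd (nat_lit 2) (Steps.fwd (nat_lit 4096) (Steps.fwd (nat_lit 2048) (Steps.fwd (nat_lit 3072) (Steps.fwd (nat_lit 5120) (Steps.fwd (nat_lit 3072) (Steps.bwd (nat_lit 1) (Steps.fwd (nat_lit 2048) Steps.nil))))))))))))) (nat_lit 26) (nat_lit 3),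
  Rule.mk (nat_lit 3) (nat_lit 65) (Steps.bwd (nat_lit 5) (Steps.fwd (nat_lit 3072) (Steps.fwd (nat_lit 5120) (Steps.bwd (nat_lit 3) (Steps.bwd (nat_lit 5) Steps.nil))))) (nat_lit 22) (nat_lit 1),
  Rule.mk (nat_lit 2) (nat_lit 65) (Steps.bwd (nat_lit 1) (Steps.fwd (nat_lit 3072) (Steps.bwd (nat_lit 2) (Steps.fwd (nat_lit 1024) (Steps.bwd (nat_lit 3) Steps.nil))))) (nat_lit 9) (nat_lit 2),
  Rule.mk (nat_lit 4) (nat_lit 153) (Steps.bwd (nat_lit 2) (Steps.bwd (nat_lit 1) (Steps.fwd (nat_lit 3072) (Steps.fwd (nat_lit 5120) (Steps.fwd (nat_lit 3072) (Steps.bwd (nat_lit 2) (Steps.fwd (nat_lit 4096) (Steps.fwd (nat_lit 2048) (Steps.bwd (nat_lit 3) (Steps.bwd (nat_lit 2) (Steps.bwd (nat_lit 5) (Steps.bwd (nat_lit 2) (Steps.bwd (nat_lit 3) Steps.nil))))))))))))) (nat_lit 27) (nat_lit 12),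
  Rule.mk (nat_lit 5) (nat_lit 43) (Steps.bwd (nat_lit 1) (Steps.fwd (nat_lit 5120) (Steps.fwd (nat_lit 1024) Steps.nil))) (nat_lit 20) (nat_lit 0),
  Rule.mk (nat_lit 3) (nat_lit 65) (Steps.bwd (nat_lit 1) (Steps.bwd (nat_lit 2) (Steps.bwd (nat_lit 3) (Steps.bwd (nat_lit 1) (Steps.fwd (nat_lit 2048) Steps.nil))))) (nat_lit 8) (nat_lit 0),
  Rule.mk (nat_lit 6) (nat_lit 65) (Steps.bwd (nat_lit 2) (Steps.fwd (nat_lit 6144) (Steps.bwd (nat_lit 2) (Steps.fwd (nat_lit 6144) (Steps.fwd (nat_lit 2048) Steps.nil))))) (nat_lit 34) (nat_lit 0),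
  Rule.mk (nat_lit 1) (nat_lit 120) (Steps.bwd (nat_lit 6) (Steps.bwd (nat_lit 5) (Steps.bwd (nat_lit 2) (Steps.bwd (nat_lit 5) (Steps.bwd (nat_lit 1) (Steps.fwd (nat_lit 2048) (Steps.bwd (nat_lit 1) (Steps.fwd (nat_lit 5120) (Steps.fwd (nat_lit 2048) (Steps.fwd (nat_lit 6144) Steps.nil)))))))))) (nat_lit 39) (nat_lit 4),
  Rule.mk (nat_lit 4) (nat_lit 54) (Steps.bwd (nat_lit 6) (Steps.bwd (nat_lit 1) (Steps.bwd (nat_lit 4) (Steps.bwd (nat_lit 6) Steps.nil)))) (nat_lit 32) (nat_lit 4),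
  Rule.mk (nat_lit 1) (nat_lit 54) (Steps.bwd (nat_lit 6) (Steps.fwd (nat_lit 4096) (Steps.bwd (nat_lit 6) (Steps.fwd (nat_lit 4096) Steps.nil)))) (nat_lit 33) (nat_lit 0),
  Rule.mk (nat_lit 4) (nat_lit 98) (Steps.bwd (nat_lit 2) (Steps.fwd (nat_lit 4096) (Steps.bwd (nat_lit 1) (Steps.bwd (nat_lit 2) (Steps.fwd (nat_lit 1024) (Steps.fwd (nat_lit 4096) (Steps.fwd (nat_lit 2048) (Steps.fwd (nat_lit 1024) Steps.nil)))))))) (nat_lit 16) (nat_lit 7),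
  Rule.mk (nat_lit 5) (nat_lit 65) (Steps.bwd (nat_lit 4) (Steps.bwd (nat_lit 5) (Steps.fwd (nat_lit 4096) (Steps.fwd (nat_lit 5120) (Steps.bwd (nat_lit 4) Steps.nil))))) (nat_lit 24) (nat_lit 0),
  Rule.mk (nat_lit 1) (nat_lit 98) (Steps.bwd (nat_lit 4) (Steps.bwd (nat_lit 2) (Steps.fwd (nat_lit 4096) (Steps.bwd (nat_lit 1) (Steps.fwd (nat_lit 2048) (Steps.fwd (nat_lit 1024) (Steps.bwd (nat_lit 4) (Steps.fwd (nat_lit 2048) Steps.nil)))))))) (nat_lit 16) (nat_lit 6),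
  Rule.mk (nat_lit 4) (nat_lit 65) (Steps.fwd (nat_lit 5120) (Steps.fwd (nat_lit 4096) (Steps.bwd (nat_lit 5) (Steps.fwd (nat_lit 4096) (Steps.bwd (nat_lit 5) Steps.nil))))) (nat_lit 24) (nat_lit 1),
  Rule.mk (nat_lit 3) (nat_lit 153) (Steps.bwd (nat_lit 2) (Steps.bwd (nat_lit 4) (Steps.bwd (nat_lit 5) (Steps.bwd (nat_lit 3) (Steps.bwd (nat_lit 4) (Steps.bwd (nat_lit 5) (Steps.bwd (nat_lit 2) (Steps.fwd (nat_lit 3072) (Steps.fwd (nat_lit 5120) (Steps.fwd (nat_lit 4096) (Steps.fwd (nat_lit 2048) (Steps.bwd (nat_lit 5) (Steps.fwd (nat_lit 4096) Steps.nil))))))))))))) (nat_lit 29) (nat_lit 13),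
  Rule.mk (nat_lit 3) (nat_lit 153) (Steps.bwd (nat_lit 4) (Steps.fwd (nat_lit 5120) (Steps.fwd (nat_lit 2048) (Steps.fwd (nat_lit 3072) (Steps.fwd (nat_lit 5120) (Steps.bwd (nat_lit 4) (Steps.bwd (nat_lit 2) (Steps.bwd (nat_lit 5) (Steps.bwd (nat_lit 4) (Steps.bwd (nat_lit 3) (Steps.bwd (nat_lit 2) (Steps.bwd (nat_lit 4) (Steps.fwd (nat_lit 5120) Steps.nil))))))))))))) (nat_lit 29) (nat_lit 3),
  Rule.mk (nat_lit 0) (nat_lit 76) (Steps.bwd (nat_lit 3) (Steps.bwd (nat_lit 4) (Steps.fwd (nat_lit 3072) (Steps.fwd (nat_lit 4096) (Steps.fwd (nat_lit 3072) (Steps.bwd (nat_lit 4) Steps.nil)))))) (nat_lit 14) (nat_lit 0),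
  Rule.mk (nat_lit 0) (nat_lit 43) (Steps.bwd (nat_lit 1) (Steps.bwd (nat_lit 0) (Steps.bwd (nat_lit 1) Steps.nil))) (nat_lit 60) (nat_lit 0),
  Rule.mk (nat_lit 0) (nat_lit 43) (Steps.fwd (nat_lit 2048) (Steps.fwd (nat_lit 0) (Steps.bwd (nat_lit 2) Steps.nil))) (nat_lit 60) (nat_lit 0),
  Rule.mk (nat_lit 0) (nat_lit 43) (Steps.fwd (nat_lit 3072) (Steps.bwd (nat_lit 0) (Steps.bwd (nat_lit 3) Steps.nil))) (nat_lit 60) (nat_lit 0),
  Rule.mk (nat_lit 0) (nat_lit 43) (Steps.fwd (nat_lit 5120) (Steps.bwd (nat_lit 0) (Steps.fwd (nat_lit 5120) Steps.nil))) (nat_lit 60) (nat_lit 0),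
  Rule.mk (nat_lit 0) (nat_lit 43) (Steps.bwd (nat_lit 3) (Steps.fwd (nat_lit 0) (Steps.fwd (nat_lit 3072) Steps.nil))) (nat_lit 60) (nat_lit 0),
  Rule.mk (nat_lit 4) (nat_lit 32) (Steps.bwd (nat_lit 0) (Steps.bwd (nat_lit 4) Steps.nil)) (nat_lit 60) (nat_lit 0),
  Rule.mk (nat_lit 0) (nat_lit 43) (Steps.fwd (nat_lit 5120) (Steps.fwd (nat_lit 0) (Steps.fwd (nat_lit 5120) Steps.nil))) (nat_lit 60) (nat_lit 0),
  Rule.mk (nat_lit 6) (nat_lit 32) (Steps.bwd (nat_lit 0) (Steps.fwd (nat_lit 6144) Steps.nil)) (nat_lit 60) (nat_lit 0),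
  Rule.mk (nat_lit 0) (nat_lit 43) (Steps.fwd (nat_lit 1024) (Steps.fwd (nat_lit 0) (Steps.fwd (nat_lit 1024) Steps.nil))) (nat_lit 60) (nat_lit 0),
  Rule.mk (nat_lit 3) (nat_lit 32) (Steps.bwd (nat_lit 0) (Steps.fwd (nat_lit 3072) Steps.nil)) (nat_lit 60) (nat_lit 0),
  Rule.mk (nat_lit 0) (nat_lit 43) (Steps.bwd (nat_lit 4) (Steps.fwd (nat_lit 0) (Steps.fwd (nat_lit 4096) Steps.nil))) (nat_lit 60) (nat_lit 0),
  Rule.mk (nat_lit 0) (nat_lit 43) (Steps.bwd (nat_lit 4) (Steps.bwd (nat_lit 0) (Steps.bwd (nat_lit 4) Steps.nil))) (nat_lit 60) (nat_lit 0),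
  Rule.mk (nat_lit 4) (nat_lit 32) (Steps.bwd (nat_lit 0) (Steps.fwd (nat_lit 4096) Steps.nil)) (nat_lit 60) (nat_lit 0),
  Rule.mk (nat_lit 3) (nat_lit 32) (Steps.bwd (nat_lit 0) (Steps.bwd (nat_lit 3) Steps.nil)) (nat_lit 60) (nat_lit 0),
  Rule.mk (nat_lit 4) (nat_lit 43) (Steps.bwd (nat_lit 0) (Steps.bwd (nat_lit 4) (Steps.fwd (nat_lit 0) Steps.nil))) (nat_lit 60) (nat_lit 0),
  Rule.mk (nat_lit 0) (nat_lit 43) (Steps.bwd (nat_lit 3) (Steps.bwd (nat_lit 0) (Steps.fwd (nat_lit 3072) Steps.nil))) (nat_lit 60) (nat_lit 0),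
  Rule.mk (nat_lit 0) (nat_lit 43) (Steps.bwd (nat_lit 2) (Steps.bwd (nat_lit 0) (Steps.bwd (nat_lit 2) Steps.nil))) (nat_lit 60) (nat_lit 0),
  Rule.mk (nat_lit 2) (nat_lit 65) (Steps.bwd (nat_lit 1) (Steps.bwd (nat_lit 2) (Steps.fwd (nat_lit 1024) (Steps.bwd (nat_lit 2) (Steps.bwd (nat_lit 1) Steps.nil))))) (nat_lit 6) (nat_lit 0),
  Rule.mk (nat_lit 3) (nat_lit 65) (Steps.fwd (nat_lit 2048) (Steps.fwd (nat_lit 1024) (Steps.bwd (nat_lit 3) (Steps.bwd (nat_lit 2) (Steps.bwd (nat_lit 1) Steps.nil))))) (nat_lit 9) (nat_lit 1),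
  Rule.mk (nat_lit 3) (nat_lit 153) (Steps.fwd (nat_lit 2048) (Steps.fwd (nat_lit 4096) (Steps.bwd (nat_lit 2) (Steps.bwd (nat_lit 3) (Steps.bwd (nat_lit 5) (Steps.bwd (nat_lit 3) (Steps.bwd (nat_lit 1) (Steps.fwd (nat_lit 2048) (Steps.bwd (nat_lit 4) (Steps.fwd (nat_lit 3072) (Steps.fwd (nat_lit 2048) (Steps.fwd (nat_lit 5120) (Steps.fwd (nat_lit 2048) Steps.nil))))))))))))) (nat_lit 26) (nat_lit 8),
  Rule.mk (nat_lit 2) (nat_lit 153) (Steps.bwd (nat_lit 3) (Steps.fwd (nat_lit 4096) (Steps.bwd (nat_lit 2) (Steps.bwd (nat_lit 1) (Steps.bwd (nat_lit 3) (Steps.fwd (nat_lit 5120) (Steps.fwd (nat_lit 3072) (Steps.bwd (nat_lit 2) (Steps.fwd (nat_lit 4096) (Steps.fwd (nat_lit 2048) (Steps.bwd (nat_lit 3) (Steps.fwd (nat_lit 2048) (Steps.fwd (nat_lit 5120) Steps.nil))))))))))))) (nat_lit 27) (nat_lit 10),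
  Rule.mk (nat_lit 0) (nat_lit 164) (Steps.bwd (nat_lit 4) (Steps.fwd (nat_lit 2048) (Steps.bwd (nat_lit 1) (Steps.bwd (nat_lit 3) (Steps.fwd (nat_lit 5120) (Steps.bwd (nat_lit 3) (Steps.fwd (nat_lit 2048) (Steps.fwd (nat_lit 4096) (Steps.bwd (nat_lit 2) (Steps.bwd (nat_lit 3) (Steps.bwd (nat_lit 2) (Steps.bwd (nat_lit 5) (Steps.bwd (nat_lit 2) (Steps.fwd (nat_lit 3072) Steps.nil)))))))))))))) (nat_lit 27) (nat_lit 11),
  Rule.mk (nat_lit 0) (nat_lit 43) (Steps.bwd (nat_lit 1) (Steps.fwd (nat_lit 0) (Steps.fwd (nat_lit 1024) Steps.nil))) (nat_lit 60) (nat_lit 0),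
  Rule.mk (nat_lit 0) (nat_lit 43) (Steps.fwd (nat_lit 6144) (Steps.fwd (nat_lit 0) (Steps.bwd (nat_lit 6) Steps.nil))) (nat_lit 60) (nat_lit 0),
  Rule.mk (nat_lit 0) (nat_lit 43) (Steps.fwd (nat_lit 3072) (Steps.fwd (nat_lit 0) (Steps.bwd (nat_lit 3) Steps.nil))) (nat_lit 60) (nat_lit 0),
  Rule.mk (nat_lit 0) (nat_lit 43) (Steps.fwd (nat_lit 6144) (Steps.bwd (nat_lit 0) (Steps.bwd (nat_lit 6) Steps.nil))) (nat_lit 60) (nat_lit 0),
  Rule.mk (nat_lit 0) (nat_lit 43) (Steps.fwd (nat_lit 4096) (Steps.fwd (nat_lit 0) (Steps.fwd (nat_lit 4096) Steps.nil))) (nat_lit 60) (nat_lit 0),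
  Rule.mk (nat_lit 6) (nat_lit 32) (Steps.bwd (nat_lit 0) (Steps.bwd (nat_lit 6) Steps.nil)) (nat_lit 60) (nat_lit 0),
  Rule.mk (nat_lit 0) (nat_lit 43) (Steps.bwd (nat_lit 3) (Steps.bwd (nat_lit 0) (Steps.bwd (nat_lit 3) Steps.nil))) (nat_lit 60) (nat_lit 0),
  Rule.mk (nat_lit 3) (nat_lit 65) (Steps.bwd (nat_lit 2) (Steps.bwd (nat_lit 1) (Steps.bwd (nat_lit 3) (Steps.fwd (nat_lit 2048) (Steps.bwd (nat_lit 1) Steps.nil))))) (nat_lit 9) (nat_lit 1),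
  Rule.mk (nat_lit 0) (nat_lit 164) (Steps.bwd (nat_lit 2) (Steps.fwd (nat_lit 5120) (Steps.bwd (nat_lit 4) (Steps.bwd (nat_lit 3) (Steps.fwd (nat_lit 2048) (Steps.fwd (nat_lit 4096) (Steps.bwd (nat_lit 5) (Steps.fwd (nat_lit 3072) (Steps.bwd (nat_lit 4) (Steps.fwd (nat_lit 5120) (Steps.fwd (nat_lit 2048) (Steps.fwd (nat_lit 3072) (Steps.fwd (nat_lit 5120) (Steps.fwd (nat_lit 4096) Steps.nil)))))))))))))) (nat_lit 29) (nat_lit 9),
  Rule.mk (nat_lit 5) (nat_lit 153) (Steps.bwd (nat_lit 3) (Steps.fwd (nat_lit 1024) (Steps.fwd (nat_lit 2048) (Steps.fwd (nat_lit 4096) (Steps.bwd (nat_lit 3) (Steps.bwd (nat_lit 2) (Steps.fwd (nat_lit 5120) (Steps.fwd (nat_lit 2048) (Steps.bwd (nat_lit 3) (Steps.fwd (nat_lit 2048) (Steps.bwd (nat_lit 4) (Steps.bwd (nat_lit 2) (Steps.fwd (nat_lit 3072) Steps.nil))))))))))))) (nat_lit 26) (nat_lit 13),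
  Rule.mk (nat_lit 3) (nat_lit 65) (Steps.bwd (nat_lit 5) (Steps.fwd (nat_lit 3072) (Steps.fwd (nat_lit 5120) (Steps.bwd (nat_lit 3) (Steps.fwd (nat_lit 5120) Steps.nil))))) (nat_lit 22) (nat_lit 1),
  Rule.mk (nat_lit 0) (nat_lit 109) (Steps.bwd (nat_lit 7) (Steps.fwd (nat_lit 3072) (Steps.fwd (nat_lit 5120) (Steps.bwd (nat_lit 3) (Steps.fwd (nat_lit 7168) (Steps.fwd (nat_lit 3072) (Steps.bwd (nat_lit 7) (Steps.fwd (nat_lit 5120) (Steps.fwd (nat_lit 3072) Steps.nil))))))))) (nat_lit 55) (nat_lit 5),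
  Rule.mk (nat_lit 2) (nat_lit 43) (Steps.bwd (nat_lit 0) (Steps.fwd (nat_lit 2048) (Steps.fwd (nat_lit 0) Steps.nil))) (nat_lit 60) (nat_lit 0)]
noncomputable def R_2 : List (Rule) := [Rule.mk (nat_lit 6) (nat_lit 43) (Steps.bwd (nat_lit 0) (Steps.fwd (nat_lit 6144) (Steps.fwd (nat_lit 0) Steps.nil))) (nat_lit 60) (nat_lit 0),
  Rule.mk (nat_lit 7) (nat_lit 32) (Steps.bwd (nat_lit 0) (Steps.bwd (nat_lit 7) Steps.nil)) (nat_lit 60) (nat_lit 0),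
  Rule.mk (nat_lit 5) (nat_lit 120) (Steps.bwd (nat_lit 2) (Steps.bwd (nat_lit 7) (Steps.fwd (nat_lit 2048) (Steps.bwd (nat_lit 5) (Steps.bwd (nat_lit 7) (Steps.fwd (nat_lit 1024) (Steps.fwd (nat_lit 2048) (Steps.fwd (nat_lit 7168) (Steps.fwd (nat_lit 2048) (Steps.fwd (nat_lit 1024) Steps.nil)))))))))) (nat_lit 58) (nat_lit 6),
  Rule.mk (nat_lit 0) (nat_lit 153) (Steps.fwd (nat_lit 1024) (Steps.bwd (nat_lit 5) (Steps.fwd (nat_lit 6144) (Steps.fwd (nat_lit 5120) (Steps.fwd (nat_lit 4096) (Steps.fwd (nat_lit 3072) (Steps.fwd (nat_lit 6144) (Steps.fwd (nat_lit 3072) (Steps.fwd (nat_lit 4096) (Steps.fwd (nat_lit 2048) (Steps.fwd (nat_lit 6144) (Steps.fwd (nat_lit 1024) (Steps.fwd (nat_lit 2048) Steps.nil))))))))))))) (nat_lit 40) (nat_lit 2),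
  Rule.mk (nat_lit 0) (nat_lit 43) (Steps.fwd (nat_lit 5120) (Steps.fwd (nat_lit 0) (Steps.bwd (nat_lit 5) Steps.nil))) (nat_lit 60) (nat_lit 0),
  Rule.mk (nat_lit 0) (nat_lit 43) (Steps.fwd (nat_lit 4096) (Steps.fwd (nat_lit 0) (Steps.bwd (nat_lit 4) Steps.nil))) (nat_lit 60) (nat_lit 0),
  Rule.mk (nat_lit 0) (nat_lit 43) (Steps.bwd (nat_lit 2) (Steps.fwd (nat_lit 0) (Steps.fwd (nat_lit 2048) Steps.nil))) (nat_lit 60) (nat_lit 0),
  Rule.mk (nat_lit 0) (nat_lit 43) (Steps.fwd (nat_lit 6144) (Steps.fwd (nat_lit 0) (Steps.fwd (nat_lit 6144) Steps.nil))) (nat_lit 60) (nat_lit 0),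
  Rule.mk (nat_lit 0) (nat_lit 43) (Steps.bwd (nat_lit 5) (Steps.bwd (nat_lit 0) (Steps.fwd (nat_lit 5120) Steps.nil))) (nat_lit 60) (nat_lit 0),
  Rule.mk (nat_lit 5) (nat_lit 32) (Steps.bwd (nat_lit 0) (Steps.bwd (nat_lit 5) Steps.nil)) (nat_lit 60) (nat_lit 0),
  Rule.mk (nat_lit 6) (nat_lit 98) (Steps.bwd (nat_lit 2) (Steps.fwd (nat_lit 5120) (Steps.fwd (nat_lit 6144) (Steps.fwd (nat_lit 2048) (Steps.bwd (nat_lit 5) (Steps.fwd (nat_lit 6144) (Steps.fwd (nat_lit 2048) (Steps.fwd (nat_lit 5120) Steps.nil)))))))) (nat_lit 36) (nat_lit 0),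
  Rule.mk (nat_lit 0) (nat_lit 153) (Steps.bwd (nat_lit 3) (Steps.bwd (nat_lit 6) (Steps.bwd (nat_lit 3) (Steps.fwd (nat_lit 4096) (Steps.fwd (nat_lit 2048) (Steps.fwd (nat_lit 6144) (Steps.bwd (nat_lit 1) (Steps.bwd (nat_lit 2) (Steps.fwd (nat_lit 1024) (Steps.fwd (nat_lit 5120) (Steps.fwd (nat_lit 6144) (Steps.bwd (nat_lit 5) (Steps.bwd (nat_lit 4) Steps.nil))))))))))))) (nat_lit 40) (nat_lit 7),
  Rule.mk (nat_lit 0) (nat_lit 43) (Steps.fwd (nat_lit 3072) (Steps.fwd (nat_lit 0) (Steps.fwd (nat_lit 3072) Steps.nil))) (nat_lit 60) (nat_lit 0),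
  Rule.mk (nat_lit 2) (nat_lit 65) (Steps.fwd (nat_lit 6144) (Steps.fwd (nat_lit 2048) (Steps.fwd (nat_lit 6144) (Steps.bwd (nat_lit 2) (Steps.bwd (nat_lit 6) Steps.nil))))) (nat_lit 34) (nat_lit 1),
  Rule.mk (nat_lit 6) (nat_lit 54) (Steps.fwd (nat_lit 1024) (Steps.bwd (nat_lit 4) (Steps.bwd (nat_lit 6) (Steps.fwd (nat_lit 4096) Steps.nil)))) (nat_lit 32) (nat_lit 0),
  Rule.mk (nat_lit 5) (nat_lit 153) (Steps.fwd (nat_lit 3072) (Steps.fwd (nat_lit 6144) (Steps.bwd (nat_lit 2) (Steps.fwd (nat_lit 4096) (Steps.bwd (nat_lit 3) (Steps.bwd (nat_lit 1) (Steps.bwd (nat_lit 2) (Steps.bwd (nat_lit 4) (Steps.bwd (nat_lit 2) (Steps.fwd (nat_lit 6144) (Steps.fwd (nat_lit 3072) (Steps.fwd (nat_lit 5120) (Steps.fwd (nat_lit 6144) Steps.nil))))))))))))) (nat_lit 42) (nat_lit 9),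
  Rule.mk (nat_lit 7) (nat_lit 98) (Steps.fwd (nat_lit 6144) (Steps.fwd (nat_lit 1024) (Steps.fwd (nat_lit 5120) (Steps.bwd (nat_lit 6) (Steps.fwd (nat_lit 7168) (Steps.fwd (nat_lit 6144) (Steps.fwd (nat_lit 5120) (Steps.fwd (nat_lit 6144) Steps.nil)))))))) (nat_lit 52) (nat_lit 8),
  Rule.mk (nat_lit 5) (nat_lit 98) (Steps.fwd (nat_lit 6144) (Steps.fwd (nat_lit 7168) (Steps.bwd (nat_lit 6) (Steps.bwd (nat_lit 5) (Steps.fwd (nat_lit 6144) (Steps.bwd (nat_lit 7) (Steps.fwd (nat_lit 6144) (Steps.fwd (nat_lit 1024) Steps.nil)))))))) (nat_lit 52) (nat_lit 2),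
  Rule.mk (nat_lit 0) (nat_lit 109) (Steps.bwd (nat_lit 7) (Steps.fwd (nat_lit 6144) (Steps.bwd (nat_lit 5) (Steps.fwd (nat_lit 6144) (Steps.fwd (nat_lit 7168) (Steps.bwd (nat_lit 6) (Steps.bwd (nat_lit 5) (Steps.fwd (nat_lit 1024) (Steps.fwd (nat_lit 6144) Steps.nil))))))))) (nat_lit 53) (nat_lit 1),
  Rule.mk (nat_lit 0) (nat_lit 43) (Steps.bwd (nat_lit 7) (Steps.bwd (nat_lit 0) (Steps.bwd (nat_lit 7) Steps.nil))) (nat_lit 60) (nat_lit 0),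
  Rule.mk (nat_lit 2) (nat_lit 120) (Steps.bwd (nat_lit 5) (Steps.fwd (nat_lit 6144) (Steps.fwd (nat_lit 1024) (Steps.fwd (nat_lit 6144) (Steps.bwd (nat_lit 2) (Steps.fwd (nat_lit 5120) (Steps.fwd (nat_lit 1024) (Steps.fwd (nat_lit 2048) (Steps.bwd (nat_lit 1) (Steps.fwd (nat_lit 5120) Steps.nil)))))))))) (nat_lit 38) (nat_lit 5),
  Rule.mk (nat_lit 6) (nat_lit 65) (Steps.bwd (nat_lit 2) (Steps.fwd (nat_lit 6144) (Steps.fwd (nat_lit 2048) (Steps.bwd (nat_lit 6) (Steps.fwd (nat_lit 2048) Steps.nil))))) (nat_lit 34) (nat_lit 0),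
  Rule.mk (nat_lit 5) (nat_lit 98) (Steps.fwd (nat_lit 6144) (Steps.fwd (nat_lit 2048) (Steps.bwd (nat_lit 5) (Steps.fwd (nat_lit 6144) (Steps.fwd (nat_lit 2048) (Steps.bwd (nat_lit 5) (Steps.fwd (nat_lit 6144) (Steps.bwd (nat_lit 2) Steps.nil)))))))) (nat_lit 36) (nat_lit 2),
  Rule.mk (nat_lit 3) (nat_lit 153) (Steps.fwd (nat_lit 2048) (Steps.bwd (nat_lit 5) (Steps.bwd (nat_lit 2) (Steps.fwd (nat_lit 3072) (Steps.bwd (nat_lit 2) (Steps.bwd (nat_lit 4) (Steps.bwd (nat_lit 2) (Steps.fwd (nat_lit 3072) (Steps.fwd (nat_lit 5120) (Steps.fwd (nat_lit 3072) (Steps.fwd (nat_lit 1024) (Steps.fwd (nat_lit 2048) (Steps.fwd (nat_lit 4096) Steps.nil))))))))))))) (nat_lit 26) (nat_lit 4),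
  Rule.mk (nat_lit 3) (nat_lit 65) (Steps.fwd (nat_lit 1024) (Steps.fwd (nat_lit 2048) (Steps.fwd (nat_lit 3072) (Steps.fwd (nat_lit 1024) (Steps.bwd (nat_lit 2) Steps.nil))))) (nat_lit 8) (nat_lit 0),
  Rule.mk (nat_lit 6) (nat_lit 142) (Steps.fwd (nat_lit 3072) (Steps.bwd (nat_lit 4) (Steps.bwd (nat_lit 2) (Steps.fwd (nat_lit 6144) (Steps.fwd (nat_lit 1024) (Steps.fwd (nat_lit 2048) (Steps.bwd (nat_lit 1) (Steps.bwd (nat_lit 5) (Steps.fwd (nat_lit 6144) (Steps.fwd (nat_lit 5120) (Steps.bwd (nat_lit 4) (Steps.fwd (nat_lit 3072) Steps.nil)))))))))))) (nat_lit 40) (nat_lit 9),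
  Rule.mk (nat_lit 6) (nat_lit 54) (Steps.bwd (nat_lit 1) (Steps.fwd (nat_lit 4096) (Steps.bwd (nat_lit 6) (Steps.fwd (nat_lit 4096) Steps.nil)))) (nat_lit 32) (nat_lit 0),
  Rule.mk (nat_lit 2) (nat_lit 65) (Steps.bwd (nat_lit 6) (Steps.bwd (nat_lit 2) (Steps.fwd (nat_lit 6144) (Steps.fwd (nat_lit 2048) (Steps.fwd (nat_lit 6144) Steps.nil))))) (nat_lit 34) (nat_lit 1),
  Rule.mk (nat_lit 7) (nat_lit 98) (Steps.fwd (nat_lit 3072) (Steps.fwd (nat_lit 5120) (Steps.bwd (nat_lit 3) (Steps.bwd (nat_lit 7) (Steps.bwd (nat_lit 3) (Steps.fwd (nat_lit 5120) (Steps.bwd (nat_lit 7) (Steps.bwd (nat_lit 3) Steps.nil)))))))) (nat_lit 54) (nat_lit 0),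
  Rule.mk (nat_lit 5) (nat_lit 120) (Steps.bwd (nat_lit 7) (Steps.fwd (nat_lit 1024) (Steps.fwd (nat_lit 2048) (Steps.bwd (nat_lit 7) (Steps.fwd (nat_lit 2048) (Steps.bwd (nat_lit 1) (Steps.bwd (nat_lit 5) (Steps.bwd (nat_lit 2) (Steps.fwd (nat_lit 7168) (Steps.fwd (nat_lit 2048) Steps.nil)))))))))) (nat_lit 58) (nat_lit 10),
  Rule.mk (nat_lit 1) (nat_lit 120) (Steps.bwd (nat_lit 7) (Steps.bwd (nat_lit 5) (Steps.fwd (nat_lit 2048) (Steps.bwd (nat_lit 7) (Steps.fwd (nat_lit 2048) (Steps.bwd (nat_lit 5) (Steps.fwd (nat_lit 1024) (Steps.bwd (nat_lit 2) (Steps.fwd (nat_lit 7168) (Steps.fwd (nat_lit 2048) Steps.nil)))))))))) (nat_lit 59) (nat_lit 0),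
  Rule.mk (nat_lit 5) (nat_lit 43) (Steps.fwd (nat_lit 1024) (Steps.bwd (nat_lit 5) (Steps.fwd (nat_lit 1024) Steps.nil))) (nat_lit 20) (nat_lit 0),
  Rule.mk (nat_lit 5) (nat_lit 65) (Steps.fwd (nat_lit 4096) (Steps.bwd (nat_lit 5) (Steps.bwd (nat_lit 4) (Steps.bwd (nat_lit 5) (Steps.bwd (nat_lit 4) Steps.nil))))) (nat_lit 24) (nat_lit 0),
  Rule.mk (nat_lit 6) (nat_lit 98) (Steps.fwd (nat_lit 2048) (Steps.bwd (nat_lit 5) (Steps.bwd (nat_lit 6) (Steps.fwd (nat_lit 2048) (Steps.bwd (nat_lit 5) (Steps.bwd (nat_lit 6) (Steps.bwd (nat_lit 2) (Steps.fwd (nat_lit 5120) Steps.nil)))))))) (nat_lit 36) (nat_lit 0),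
  Rule.mk (nat_lit 6) (nat_lit 120) (Steps.bwd (nat_lit 1) (Steps.bwd (nat_lit 6) (Steps.fwd (nat_lit 2048) (Steps.bwd (nat_lit 5) (Steps.fwd (nat_lit 1024) (Steps.bwd (nat_lit 2) (Steps.bwd (nat_lit 1) (Steps.fwd (nat_lit 5120) (Steps.fwd (nat_lit 2048) (Steps.bwd (nat_lit 5) Steps.nil)))))))))) (nat_lit 38) (nat_lit 7),
  Rule.mk (nat_lit 0) (nat_lit 76) (Steps.bwd (nat_lit 2) (Steps.fwd (nat_lit 6144) (Steps.fwd (nat_lit 2048) (Steps.fwd (nat_lit 6144) (Steps.bwd (nat_lit 2) (Steps.bwd (nat_lit 6) Steps.nil)))))) (nat_lit 34) (nat_lit 0),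
  Rule.mk (nat_lit 1) (nat_lit 65) (Steps.bwd (nat_lit 2) (Steps.fwd (nat_lit 1024) (Steps.fwd (nat_lit 2048) (Steps.bwd (nat_lit 1) (Steps.fwd (nat_lit 2048) Steps.nil))))) (nat_lit 6) (nat_lit 1),
  Rule.mk (nat_lit 4) (nat_lit 98) (Steps.bwd (nat_lit 2) (Steps.bwd (nat_lit 4) (Steps.fwd (nat_lit 1024) (Steps.fwd (nat_lit 2048) (Steps.bwd (nat_lit 1) (Steps.fwd (nat_lit 4096) (Steps.fwd (nat_lit 2048) (Steps.fwd (nat_lit 1024) Steps.nil)))))))) (nat_lit 16) (nat_lit 7),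
  Rule.mk (nat_lit 4) (nat_lit 98) (Steps.bwd (nat_lit 2) (Steps.fwd (nat_lit 4096) (Steps.fwd (nat_lit 1024) (Steps.fwd (nat_lit 2048) (Steps.bwd (nat_lit 1) (Steps.bwd (nat_lit 4) (Steps.fwd (nat_lit 2048) (Steps.fwd (nat_lit 1024) Steps.nil)))))))) (nat_lit 16) (nat_lit 7),
  Rule.mk (nat_lit 6) (nat_lit 142) (Steps.bwd (nat_lit 3) (Steps.bwd (nat_lit 4) (Steps.fwd (nat_lit 2048) (Steps.bwd (nat_lit 6) (Steps.fwd (nat_lit 1024) (Steps.bwd (nat_lit 2) (Steps.fwd (nat_lit 1024) (Steps.fwd (nat_lit 5120) (Steps.fwd (nat_lit 6144) (Steps.bwd (nat_lit 5) (Steps.fwd (nat_lit 4096) (Steps.bwd (nat_lit 3) Steps.nil)))))))))))) (nat_lit 40) (nat_lit 9),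
  Rule.mk (nat_lit 1) (nat_lit 120) (Steps.fwd (nat_lit 6144) (Steps.bwd (nat_lit 2) (Steps.bwd (nat_lit 5) (Steps.fwd (nat_lit 1024) (Steps.fwd (nat_lit 2048) (Steps.bwd (nat_lit 1) (Steps.fwd (nat_lit 5120) (Steps.fwd (nat_lit 2048) (Steps.fwd (nat_lit 5120) (Steps.bwd (nat_lit 6) Steps.nil)))))))))) (nat_lit 38) (nat_lit 8),
  Rule.mk (nat_lit 3) (nat_lit 65) (Steps.bwd (nat_lit 1) (Steps.fwd (nat_lit 3072) (Steps.fwd (nat_lit 1024) (Steps.bwd (nat_lit 3) (Steps.fwd (nat_lit 1024) Steps.nil))))) (nat_lit 10) (nat_lit 0),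
  Rule.mk (nat_lit 5) (nat_lit 142) (Steps.bwd (nat_lit 6) (Steps.bwd (nat_lit 5) (Steps.fwd (nat_lit 4096) (Steps.bwd (nat_lit 3) (Steps.bwd (nat_lit 6) (Steps.fwd (nat_lit 3072) (Steps.fwd (nat_lit 4096) (Steps.fwd (nat_lit 2048) (Steps.fwd (nat_lit 6144) (Steps.bwd (nat_lit 1) (Steps.fwd (nat_lit 2048) (Steps.fwd (nat_lit 1024) Steps.nil)))))))))))) (nat_lit 40) (nat_lit 4),
  Rule.mk (nat_lit 3) (nat_lit 153) (Steps.bwd (nat_lit 5) (Steps.bwd (nat_lit 6) (Steps.bwd (nat_lit 5) (Steps.fwd (nat_lit 3072) (Steps.fwd (nat_lit 6144) (Steps.bwd (nat_lit 2) (Steps.fwd (nat_lit 4096) (Steps.bwd (nat_lit 3) (Steps.fwd (nat_lit 1024) (Steps.bwd (nat_lit 2) (Steps.fwd (nat_lit 4096) (Steps.fwd (nat_lit 2048) (Steps.fwd (nat_lit 6144) Steps.nil))))))))))))) (nat_lit 42) (nat_lit 6),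
  Rule.mk (nat_lit 6) (nat_lit 153) (Steps.bwd (nat_lit 3) (Steps.fwd (nat_lit 5120) (Steps.bwd (nat_lit 6) (Steps.bwd (nat_lit 5) (Steps.fwd (nat_lit 3072) (Steps.fwd (nat_lit 6144) (Steps.bwd (nat_lit 2) (Steps.bwd (nat_lit 4) (Steps.fwd (nat_lit 3072) (Steps.fwd (nat_lit 1024) (Steps.fwd (nat_lit 2048) (Steps.fwd (nat_lit 4096) (Steps.bwd (nat_lit 2) Steps.nil))))))))))))) (nat_lit 42) (nat_lit 5),
  Rule.mk (nat_lit 2) (nat_lit 98) (Steps.bwd (nat_lit 5) (Steps.fwd (nat_lit 6144) (Steps.fwd (nat_lit 2048) (Steps.fwd (nat_lit 5120) (Steps.fwd (nat_lit 6144) (Steps.fwd (nat_lit 2048) (Steps.fwd (nat_lit 5120) (Steps.bwd (nat_lit 6) Steps.nil)))))))) (nat_lit 36) (nat_lit 1),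
  Rule.mk (nat_lit 2) (nat_lit 98) (Steps.bwd (nat_lit 5) (Steps.fwd (nat_lit 6144) (Steps.fwd (nat_lit 2048) (Steps.bwd (nat_lit 5) (Steps.fwd (nat_lit 6144) (Steps.fwd (nat_lit 2048) (Steps.fwd (nat_lit 5120) (Steps.fwd (nat_lit 6144) Steps.nil)))))))) (nat_lit 36) (nat_lit 1),
  Rule.mk (nat_lit 6) (nat_lit 120) (Steps.fwd (nat_lit 2048) (Steps.fwd (nat_lit 5120) (Steps.bwd (nat_lit 1) (Steps.fwd (nat_lit 2048) (Steps.fwd (nat_lit 1024) (Steps.bwd (nat_lit 5) (Steps.bwd (nat_lit 2) (Steps.bwd (nat_lit 5) (Steps.fwd (nat_lit 6144) (Steps.bwd (nat_lit 1) Steps.nil)))))))))) (nat_lit 38) (nat_lit 9),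
  Rule.mk (nat_lit 1) (nat_lit 120) (Steps.bwd (nat_lit 5) (Steps.bwd (nat_lit 2) (Steps.bwd (nat_lit 5) (Steps.fwd (nat_lit 6144) (Steps.fwd (nat_lit 1024) (Steps.bwd (nat_lit 6) (Steps.fwd (nat_lit 2048) (Steps.fwd (nat_lit 5120) (Steps.fwd (nat_lit 1024) (Steps.fwd (nat_lit 2048) Steps.nil)))))))))) (nat_lit 38) (nat_lit 3),
  Rule.mk (nat_lit 4) (nat_lit 142) (Steps.bwd (nat_lit 5) (Steps.fwd (nat_lit 6144) (Steps.bwd (nat_lit 5) (Steps.bwd (nat_lit 1) (Steps.bwd (nat_lit 2) (Steps.fwd (nat_lit 1024) (Steps.fwd (nat_lit 6144) (Steps.bwd (nat_lit 2) (Steps.fwd (nat_lit 4096) (Steps.bwd (nat_lit 3) (Steps.fwd (nat_lit 6144) (Steps.fwd (nat_lit 3072) Steps.nil)))))))))))) (nat_lit 41) (nat_lit 7),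
  Rule.mk (nat_lit 1) (nat_lit 43) (Steps.bwd (nat_lit 5) (Steps.fwd (nat_lit 1024) (Steps.bwd (nat_lit 5) Steps.nil))) (nat_lit 20) (nat_lit 1),
  Rule.mk (nat_lit 6) (nat_lit 98) (Steps.bwd (nat_lit 5) (Steps.fwd (nat_lit 2048) (Steps.bwd (nat_lit 6) (Steps.fwd (nat_lit 5120) (Steps.fwd (nat_lit 2048) (Steps.bwd (nat_lit 6) (Steps.fwd (nat_lit 5120) (Steps.fwd (nat_lit 2048) Steps.nil)))))))) (nat_lit 37) (nat_lit 1),
  Rule.mk (nat_lit 2) (nat_lit 98) (Steps.bwd (nat_lit 5) (Steps.fwd (nat_lit 6144) (Steps.fwd (nat_lit 2048) (Steps.fwd (nat_lit 5120) (Steps.bwd (nat_lit 6) (Steps.fwd (nat_lit 2048) (Steps.bwd (nat_lit 5) (Steps.bwd (nat_lit 6) Steps.nil)))))))) (nat_lit 36) (nat_lit 1),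
  Rule.mk (nat_lit 3) (nat_lit 65) (Steps.fwd (nat_lit 1024) (Steps.fwd (nat_lit 2048) (Steps.bwd (nat_lit 3) (Steps.bwd (nat_lit 1) (Steps.bwd (nat_lit 2) Steps.nil))))) (nat_lit 8) (nat_lit 0),
  Rule.mk (nat_lit 5) (nat_lit 65) (Steps.bwd (nat_lit 3) (Steps.fwd (nat_lit 5120) (Steps.fwd (nat_lit 3072) (Steps.bwd (nat_lit 5) (Steps.fwd (nat_lit 3072) Steps.nil))))) (nat_lit 22) (nat_lit 0),
  Rule.mk (nat_lit 4) (nat_lit 142) (Steps.bwd (nat_lit 3) (Steps.fwd (nat_lit 6144) (Steps.bwd (nat_lit 3) (Steps.fwd (nat_lit 4096) (Steps.fwd (nat_lit 2048) (Steps.fwd (nat_lit 6144) (Steps.bwd (nat_lit 1) (Steps.bwd (nat_lit 2) (Steps.bwd (nat_lit 1) (Steps.fwd (nat_lit 5120) (Steps.fwd (nat_lit 6144) (Steps.fwd (nat_lit 5120) Steps.nil)))))))))))) (nat_lit 40) (nat_lit 7),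
  Rule.mk (nat_lit 4) (nat_lit 142) (Steps.bwd (nat_lit 3) (Steps.bwd (nat_lit 6) (Steps.bwd (nat_lit 3) (Steps.fwd (nat_lit 4096) (Steps.bwd (nat_lit 5) (Steps.bwd (nat_lit 6) (Steps.fwd (nat_lit 5120) (Steps.fwd (nat_lit 1024) (Steps.fwd (nat_lit 2048) (Steps.bwd (nat_lit 1) (Steps.fwd (nat_lit 6144) (Steps.bwd (nat_lit 2) Steps.nil)))))))))))) (nat_lit 41) (nat_lit 3),
  Rule.mk (nat_lit 4) (nat_lit 142) (Steps.bwd (nat_lit 5) (Steps.bwd (nat_lit 6) (Steps.fwd (nat_lit 5120) (Steps.bwd (nat_lit 1) (Steps.bwd (nat_lit 2) (Steps.fwd (nat_lit 1024) (Steps.fwd (nat_lit 6144) (Steps.fwd (nat_lit 2048) (Steps.fwd (nat_lit 4096) (Steps.bwd (nat_lit 3) (Steps.bwd (nat_lit 6) (Steps.fwd (nat_lit 3072) Steps.nil)))))))))))) (nat_lit 41) (nat_lit 7),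
  Rule.mk (nat_lit 3) (nat_lit 65) (Steps.bwd (nat_lit 1) (Steps.fwd (nat_lit 3072) (Steps.fwd (nat_lit 1024) (Steps.bwd (nat_lit 3) (Steps.bwd (nat_lit 1) Steps.nil))))) (nat_lit 10) (nat_lit 0),
  Rule.mk (nat_lit 2) (nat_lit 65) (Steps.fwd (nat_lit 3072) (Steps.fwd (nat_lit 1024) (Steps.bwd (nat_lit 2) (Steps.bwd (nat_lit 3) (Steps.fwd (nat_lit 1024) Steps.nil))))) (nat_lit 8) (nat_lit 2),
  Rule.mk (nat_lit 3) (nat_lit 65) (Steps.fwd (nat_lit 1024) (Steps.bwd (nat_lit 2) (Steps.fwd (nat_lit 3072) (Steps.fwd (nat_lit 1024) (Steps.bwd (nat_lit 2) Steps.nil))))) (nat_lit 8) (nat_lit 0),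
  Rule.mk (nat_lit 5) (nat_lit 120) (Steps.bwd (nat_lit 2) (Steps.bwd (nat_lit 5) (Steps.bwd (nat_lit 6) (Steps.fwd (nat_lit 1024) (Steps.fwd (nat_lit 6144) (Steps.bwd (nat_lit 2) (Steps.fwd (nat_lit 5120) (Steps.bwd (nat_lit 1) (Steps.fwd (nat_lit 2048) (Steps.fwd (nat_lit 1024) Steps.nil)))))))))) (nat_lit 38) (nat_lit 4),
  Rule.mk (nat_lit 6) (nat_lit 142) (Steps.fwd (nat_lit 1024) (Steps.bwd (nat_lit 2) (Steps.fwd (nat_lit 1024) (Steps.fwd (nat_lit 5120) (Steps.bwd (nat_lit 6) (Steps.bwd (nat_lit 5) (Steps.fwd (nat_lit 4096) (Steps.bwd (nat_lit 3) (Steps.bwd (nat_lit 6) (Steps.fwd (nat_lit 3072) (Steps.bwd (nat_lit 4) (Steps.fwd (nat_lit 2048) Steps.nil)))))))))))) (nat_lit 40) (nat_lit 0),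
  Rule.mk (nat_lit 2) (nat_lit 153) (Steps.bwd (nat_lit 4) (Steps.fwd (nat_lit 2048) (Steps.fwd (nat_lit 3072) (Steps.bwd (nat_lit 2) (Steps.bwd (nat_lit 5) (Steps.fwd (nat_lit 2048) (Steps.fwd (nat_lit 3072) (Steps.bwd (nat_lit 4) (Steps.fwd (nat_lit 2048) (Steps.fwd (nat_lit 1024) (Steps.fwd (nat_lit 3072) (Steps.bwd (nat_lit 5) (Steps.fwd (nat_lit 3072) Steps.nil))))))))))))) (nat_lit 27) (nat_lit 4)]
noncomputable def R_3 : List (Rule) := [Rule.mk (nat_lit 1) (nat_lit 65) (Steps.bwd (nat_lit 3) (Steps.fwd (nat_lit 2048) (Steps.bwd (nat_lit 1) (Steps.fwd (nat_lit 3072) (Steps.bwd (nat_lit 2) Steps.nil))))) (nat_lit 9) (nat_lit 0),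
  Rule.mk (nat_lit 3) (nat_lit 65) (Steps.bwd (nat_lit 5) (Steps.bwd (nat_lit 3) (Steps.fwd (nat_lit 5120) (Steps.bwd (nat_lit 3) (Steps.fwd (nat_lit 5120) Steps.nil))))) (nat_lit 22) (nat_lit 1),
  Rule.mk (nat_lit 6) (nat_lit 153) (Steps.bwd (nat_lit 5) (Steps.bwd (nat_lit 3) (Steps.fwd (nat_lit 6144) (Steps.fwd (nat_lit 2048) (Steps.bwd (nat_lit 4) (Steps.fwd (nat_lit 3072) (Steps.fwd (nat_lit 1024) (Steps.fwd (nat_lit 2048) (Steps.bwd (nat_lit 4) (Steps.bwd (nat_lit 2) (Steps.fwd (nat_lit 6144) (Steps.fwd (nat_lit 3072) (Steps.fwd (nat_lit 5120) Steps.nil))))))))))))) (nat_lit 42) (nat_lit 8),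
  Rule.mk (nat_lit 2) (nat_lit 65) (Steps.bwd (nat_lit 1) (Steps.fwd (nat_lit 3072) (Steps.bwd (nat_lit 2) (Steps.fwd (nat_lit 1024) (Steps.fwd (nat_lit 3072) Steps.nil))))) (nat_lit 9) (nat_lit 2),
  Rule.mk (nat_lit 2) (nat_lit 153) (Steps.bwd (nat_lit 4) (Steps.bwd (nat_lit 2) (Steps.bwd (nat_lit 3) (Steps.fwd (nat_lit 5120) (Steps.bwd (nat_lit 3) (Steps.fwd (nat_lit 1024) (Steps.fwd (nat_lit 2048) (Steps.bwd (nat_lit 4) (Steps.bwd (nat_lit 3) (Steps.fwd (nat_lit 2048) (Steps.fwd (nat_lit 5120) (Steps.bwd (nat_lit 2) (Steps.fwd (nat_lit 3072) Steps.nil))))))))))))) (nat_lit 26) (nat_lit 9),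
  Rule.mk (nat_lit 2) (nat_lit 65) (Steps.bwd (nat_lit 1) (Steps.bwd (nat_lit 2) (Steps.bwd (nat_lit 1) (Steps.bwd (nat_lit 2) (Steps.bwd (nat_lit 1) Steps.nil))))) (nat_lit 6) (nat_lit 0),
  Rule.mk (nat_lit 3) (nat_lit 142) (Steps.bwd (nat_lit 6) (Steps.fwd (nat_lit 3072) (Steps.bwd (nat_lit 4) (Steps.fwd (nat_lit 5120) (Steps.fwd (nat_lit 6144) (Steps.bwd (nat_lit 5) (Steps.fwd (nat_lit 1024) (Steps.bwd (nat_lit 2) (Steps.bwd (nat_lit 1) (Steps.bwd (nat_lit 6) (Steps.fwd (nat_lit 2048) (Steps.bwd (nat_lit 4) Steps.nil)))))))))))) (nat_lit 41) (nat_lit 4),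
  Rule.mk (nat_lit 4) (nat_lit 65) (Steps.fwd (nat_lit 3072) (Steps.bwd (nat_lit 4) (Steps.bwd (nat_lit 3) (Steps.bwd (nat_lit 4) (Steps.bwd (nat_lit 3) Steps.nil))))) (nat_lit 14) (nat_lit 0),
  Rule.mk (nat_lit 5) (nat_lit 153) (Steps.bwd (nat_lit 2) (Steps.bwd (nat_lit 3) (Steps.fwd (nat_lit 5120) (Steps.fwd (nat_lit 4096) (Steps.fwd (nat_lit 2048) (Steps.bwd (nat_lit 5) (Steps.bwd (nat_lit 4) (Steps.fwd (nat_lit 3072) (Steps.fwd (nat_lit 2048) (Steps.bwd (nat_lit 4) (Steps.fwd (nat_lit 5120) (Steps.bwd (nat_lit 3) (Steps.fwd (nat_lit 4096) Steps.nil))))))))))))) (nat_lit 29) (nat_lit 5),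
  Rule.mk (nat_lit 6) (nat_lit 98) (Steps.fwd (nat_lit 2048) (Steps.fwd (nat_lit 5120) (Steps.fwd (nat_lit 6144) (Steps.fwd (nat_lit 2048) (Steps.fwd (nat_lit 5120) (Steps.bwd (nat_lit 6) (Steps.fwd (nat_lit 2048) (Steps.bwd (nat_lit 5) Steps.nil)))))))) (nat_lit 36) (nat_lit 0),
  Rule.mk (nat_lit 5) (nat_lit 65) (Steps.bwd (nat_lit 4) (Steps.fwd (nat_lit 5120) (Steps.bwd (nat_lit 4) (Steps.bwd (nat_lit 5) (Steps.bwd (nat_lit 4) Steps.nil))))) (nat_lit 24) (nat_lit 0),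
  Rule.mk (nat_lit 3) (nat_lit 65) (Steps.fwd (nat_lit 5120) (Steps.fwd (nat_lit 3072) (Steps.bwd (nat_lit 5) (Steps.fwd (nat_lit 3072) (Steps.bwd (nat_lit 5) Steps.nil))))) (nat_lit 22) (nat_lit 1),
  Rule.mk (nat_lit 3) (nat_lit 65) (Steps.bwd (nat_lit 1) (Steps.bwd (nat_lit 2) (Steps.bwd (nat_lit 3) (Steps.fwd (nat_lit 1024) (Steps.fwd (nat_lit 2048) Steps.nil))))) (nat_lit 8) (nat_lit 0),
  Rule.mk (nat_lit 2) (nat_lit 153) (Steps.bwd (nat_lit 1) (Steps.fwd (nat_lit 3072) (Steps.bwd (nat_lit 4) (Steps.bwd (nat_lit 2) (Steps.bwd (nat_lit 6) (Steps.fwd (nat_lit 3072) (Steps.bwd (nat_lit 5) (Steps.fwd (nat_lit 6144) (Steps.fwd (nat_lit 5120) (Steps.bwd (nat_lit 3) (Steps.fwd (nat_lit 6144) (Steps.fwd (nat_lit 2048) (Steps.fwd (nat_lit 4096) Steps.nil))))))))))))) (nat_lit 43) (nat_lit 13),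
  Rule.mk (nat_lit 4) (nat_lit 153) (Steps.bwd (nat_lit 5) (Steps.fwd (nat_lit 3072) (Steps.bwd (nat_lit 2) (Steps.fwd (nat_lit 5120) (Steps.fwd (nat_lit 4096) (Steps.fwd (nat_lit 3072) (Steps.bwd (nat_lit 5) (Steps.bwd (nat_lit 4) (Steps.fwd (nat_lit 2048) (Steps.fwd (nat_lit 3072) (Steps.bwd (nat_lit 4) (Steps.fwd (nat_lit 5120) (Steps.fwd (nat_lit 2048) Steps.nil))))))))))))) (nat_lit 28) (nat_lit 6),
  Rule.mk (nat_lit 2) (nat_lit 98) (Steps.fwd (nat_lit 4096) (Steps.bwd (nat_lit 1) (Steps.bwd (nat_lit 2) (Steps.fwd (nat_lit 1024) (Steps.bwd (nat_lit 4) (Steps.bwd (nat_lit 2) (Steps.bwd (nat_lit 1) (Steps.bwd (nat_lit 4) Steps.nil)))))))) (nat_lit 16) (nat_lit 8),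
  Rule.mk (nat_lit 3) (nat_lit 65) (Steps.bwd (nat_lit 1) (Steps.bwd (nat_lit 3) (Steps.fwd (nat_lit 1024) (Steps.bwd (nat_lit 3) (Steps.bwd (nat_lit 1) Steps.nil))))) (nat_lit 10) (nat_lit 0),
  Rule.mk (nat_lit 4) (nat_lit 98) (Steps.bwd (nat_lit 1) (Steps.fwd (nat_lit 2048) (Steps.fwd (nat_lit 1024) (Steps.bwd (nat_lit 4) (Steps.fwd (nat_lit 2048) (Steps.bwd (nat_lit 1) (Steps.fwd (nat_lit 4096) (Steps.fwd (nat_lit 2048) Steps.nil)))))))) (nat_lit 16) (nat_lit 0),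
  Rule.mk (nat_lit 6) (nat_lit 54) (Steps.bwd (nat_lit 4) (Steps.fwd (nat_lit 6144) (Steps.fwd (nat_lit 1024) (Steps.bwd (nat_lit 4) Steps.nil)))) (nat_lit 32) (nat_lit 3),
  Rule.mk (nat_lit 1) (nat_lit 54) (Steps.bwd (nat_lit 4) (Steps.fwd (nat_lit 6144) (Steps.bwd (nat_lit 4) (Steps.fwd (nat_lit 6144) Steps.nil)))) (nat_lit 32) (nat_lit 1),
  Rule.mk (nat_lit 4) (nat_lit 98) (Steps.bwd (nat_lit 2) (Steps.bwd (nat_lit 4) (Steps.bwd (nat_lit 1) (Steps.bwd (nat_lit 2) (Steps.fwd (nat_lit 1024) (Steps.fwd (nat_lit 4096) (Steps.bwd (nat_lit 2) (Steps.bwd (nat_lit 1) Steps.nil)))))))) (nat_lit 16) (nat_lit 7),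
  Rule.mk (nat_lit 6) (nat_lit 142) (Steps.bwd (nat_lit 2) (Steps.bwd (nat_lit 4) (Steps.bwd (nat_lit 3) (Steps.bwd (nat_lit 6) (Steps.bwd (nat_lit 3) (Steps.fwd (nat_lit 4096) (Steps.fwd (nat_lit 5120) (Steps.fwd (nat_lit 6144) (Steps.fwd (nat_lit 5120) (Steps.fwd (nat_lit 1024) (Steps.fwd (nat_lit 2048) (Steps.fwd (nat_lit 1024) Steps.nil)))))))))))) (nat_lit 41) (nat_lit 1),
  Rule.mk (nat_lit 5) (nat_lit 153) (Steps.bwd (nat_lit 2) (Steps.bwd (nat_lit 4) (Steps.bwd (nat_lit 5) (Steps.bwd (nat_lit 3) (Steps.fwd (nat_lit 2048) (Steps.bwd (nat_lit 5) (Steps.bwd (nat_lit 4) (Steps.fwd (nat_lit 3072) (Steps.fwd (nat_lit 5120) (Steps.bwd (nat_lit 4) (Steps.bwd (nat_lit 2) (Steps.fwd (nat_lit 3072) (Steps.bwd (nat_lit 4) Steps.nil))))))))))))) (nat_lit 28) (nat_lit 4),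
  Rule.mk (nat_lit 5) (nat_lit 153) (Steps.bwd (nat_lit 6) (Steps.bwd (nat_lit 5) (Steps.fwd (nat_lit 3072) (Steps.fwd (nat_lit 6144) (Steps.fwd (nat_lit 2048) (Steps.fwd (nat_lit 4096) (Steps.fwd (nat_lit 3072) (Steps.fwd (nat_lit 1024) (Steps.bwd (nat_lit 2) (Steps.bwd (nat_lit 4) (Steps.fwd (nat_lit 2048) (Steps.fwd (nat_lit 6144) (Steps.fwd (nat_lit 3072) Steps.nil))))))))))))) (nat_lit 42) (nat_lit 7),
  Rule.mk (nat_lit 1) (nat_lit 43) (Steps.bwd (nat_lit 5) (Steps.bwd (nat_lit 1) (Steps.bwd (nat_lit 5) Steps.nil))) (nat_lit 20) (nat_lit 1),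
  Rule.mk (nat_lit 3) (nat_lit 65) (Steps.bwd (nat_lit 5) (Steps.fwd (nat_lit 3072) (Steps.bwd (nat_lit 5) (Steps.fwd (nat_lit 3072) (Steps.fwd (nat_lit 5120) Steps.nil))))) (nat_lit 22) (nat_lit 1),
  Rule.mk (nat_lit 4) (nat_lit 65) (Steps.bwd (nat_lit 5) (Steps.fwd (nat_lit 4096) (Steps.fwd (nat_lit 5120) (Steps.bwd (nat_lit 4) (Steps.bwd (nat_lit 5) Steps.nil))))) (nat_lit 24) (nat_lit 1),
  Rule.mk (nat_lit 5) (nat_lit 98) (Steps.bwd (nat_lit 2) (Steps.bwd (nat_lit 6) (Steps.fwd (nat_lit 5120) (Steps.fwd (nat_lit 2048) (Steps.fwd (nat_lit 6144) (Steps.fwd (nat_lit 5120) (Steps.fwd (nat_lit 2048) (Steps.bwd (nat_lit 6) Steps.nil)))))))) (nat_lit 37) (nat_lit 2),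
  Rule.mk (nat_lit 3) (nat_lit 153) (Steps.bwd (nat_lit 2) (Steps.bwd (nat_lit 4) (Steps.fwd (nat_lit 2048) (Steps.fwd (nat_lit 3072) (Steps.bwd (nat_lit 5) (Steps.bwd (nat_lit 3) (Steps.bwd (nat_lit 1) (Steps.bwd (nat_lit 2) (Steps.fwd (nat_lit 4096) (Steps.fwd (nat_lit 3072) (Steps.fwd (nat_lit 2048) (Steps.fwd (nat_lit 5120) (Steps.fwd (nat_lit 2048) Steps.nil))))))))))))) (nat_lit 26) (nat_lit 8),
  Rule.mk (nat_lit 1) (nat_lit 65) (Steps.bwd (nat_lit 3) (Steps.fwd (nat_lit 1024) (Steps.bwd (nat_lit 3) (Steps.fwd (nat_lit 1024) (Steps.bwd (nat_lit 3) Steps.nil))))) (nat_lit 10) (nat_lit 1),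
  Rule.mk (nat_lit 6) (nat_lit 142) (Steps.bwd (nat_lit 3) (Steps.bwd (nat_lit 4) (Steps.bwd (nat_lit 5) (Steps.bwd (nat_lit 6) (Steps.fwd (nat_lit 5120) (Steps.bwd (nat_lit 1) (Steps.bwd (nat_lit 2) (Steps.fwd (nat_lit 1024) (Steps.bwd (nat_lit 6) (Steps.fwd (nat_lit 2048) (Steps.fwd (nat_lit 4096) (Steps.fwd (nat_lit 3072) Steps.nil)))))))))))) (nat_lit 41) (nat_lit 5),
  Rule.mk (nat_lit 5) (nat_lit 153) (Steps.bwd (nat_lit 3) (Steps.fwd (nat_lit 2048) (Steps.fwd (nat_lit 4096) (Steps.bwd (nat_lit 2) (Steps.fwd (nat_lit 3072) (Steps.bwd (nat_lit 2) (Steps.fwd (nat_lit 5120) (Steps.fwd (nat_lit 2048) (Steps.fwd (nat_lit 3072) (Steps.fwd (nat_lit 4096) (Steps.fwd (nat_lit 2048) (Steps.bwd (nat_lit 1) (Steps.bwd (nat_lit 3) Steps.nil))))))))))))) (nat_lit 27) (nat_lit 2),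
  Rule.mk (nat_lit 4) (nat_lit 142) (Steps.bwd (nat_lit 2) (Steps.fwd (nat_lit 6144) (Steps.fwd (nat_lit 1024) (Steps.fwd (nat_lit 2048) (Steps.fwd (nat_lit 1024) (Steps.fwd (nat_lit 5120) (Steps.fwd (nat_lit 6144) (Steps.bwd (nat_lit 5) (Steps.fwd (nat_lit 4096) (Steps.bwd (nat_lit 3) (Steps.bwd (nat_lit 6) (Steps.fwd (nat_lit 3072) Steps.nil)))))))))))) (nat_lit 40) (nat_lit 11),
  Rule.mk (nat_lit 6) (nat_lit 54) (Steps.fwd (nat_lit 1024) (Steps.bwd (nat_lit 4) (Steps.bwd (nat_lit 6) (Steps.bwd (nat_lit 4) Steps.nil)))) (nat_lit 32) (nat_lit 0),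
  Rule.mk (nat_lit 1) (nat_lit 54) (Steps.bwd (nat_lit 6) (Steps.bwd (nat_lit 4) (Steps.fwd (nat_lit 6144) (Steps.fwd (nat_lit 4096) Steps.nil)))) (nat_lit 33) (nat_lit 0),
  Rule.mk (nat_lit 2) (nat_lit 98) (Steps.bwd (nat_lit 6) (Steps.fwd (nat_lit 5120) (Steps.bwd (nat_lit 2) (Steps.bwd (nat_lit 6) (Steps.bwd (nat_lit 5) (Steps.fwd (nat_lit 2048) (Steps.bwd (nat_lit 6) (Steps.bwd (nat_lit 5) Steps.nil)))))))) (nat_lit 37) (nat_lit 0),
  Rule.mk (nat_lit 5) (nat_lit 120) (Steps.bwd (nat_lit 6) (Steps.bwd (nat_lit 1) (Steps.bwd (nat_lit 6) (Steps.bwd (nat_lit 2) (Steps.bwd (nat_lit 5) (Steps.fwd (nat_lit 1024) (Steps.fwd (nat_lit 2048) (Steps.bwd (nat_lit 1) (Steps.bwd (nat_lit 5) (Steps.bwd (nat_lit 2) Steps.nil)))))))))) (nat_lit 38) (nat_lit 6),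
  Rule.mk (nat_lit 6) (nat_lit 54) (Steps.bwd (nat_lit 1) (Steps.fwd (nat_lit 4096) (Steps.fwd (nat_lit 6144) (Steps.fwd (nat_lit 4096) Steps.nil)))) (nat_lit 32) (nat_lit 0),
  Rule.mk (nat_lit 2) (nat_lit 65) (Steps.bwd (nat_lit 1) (Steps.bwd (nat_lit 2) (Steps.fwd (nat_lit 1024) (Steps.bwd (nat_lit 2) (Steps.fwd (nat_lit 1024) Steps.nil))))) (nat_lit 6) (nat_lit 0),
  Rule.mk (nat_lit 3) (nat_lit 65) (Steps.bwd (nat_lit 1) (Steps.bwd (nat_lit 2) (Steps.bwd (nat_lit 3) (Steps.fwd (nat_lit 1024) (Steps.bwd (nat_lit 2) Steps.nil))))) (nat_lit 8) (nat_lit 0),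
  Rule.mk (nat_lit 4) (nat_lit 65) (Steps.bwd (nat_lit 5) (Steps.fwd (nat_lit 4096) (Steps.fwd (nat_lit 5120) (Steps.bwd (nat_lit 4) (Steps.fwd (nat_lit 5120) Steps.nil))))) (nat_lit 24) (nat_lit 1),
  Rule.mk (nat_lit 3) (nat_lit 142) (Steps.fwd (nat_lit 4096) (Steps.bwd (nat_lit 5) (Steps.fwd (nat_lit 6144) (Steps.fwd (nat_lit 5120) (Steps.fwd (nat_lit 1024) (Steps.bwd (nat_lit 2) (Steps.fwd (nat_lit 1024) (Steps.fwd (nat_lit 6144) (Steps.bwd (nat_lit 2) (Steps.bwd (nat_lit 4) (Steps.bwd (nat_lit 3) (Steps.bwd (nat_lit 6) Steps.nil)))))))))))) (nat_lit 41) (nat_lit 6),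
  Rule.mk (nat_lit 2) (nat_lit 120) (Steps.bwd (nat_lit 5) (Steps.bwd (nat_lit 6) (Steps.fwd (nat_lit 1024) (Steps.bwd (nat_lit 6) (Steps.fwd (nat_lit 2048) (Steps.bwd (nat_lit 5) (Steps.bwd (nat_lit 1) (Steps.fwd (nat_lit 2048) (Steps.fwd (nat_lit 1024) (Steps.fwd (nat_lit 5120) Steps.nil)))))))))) (nat_lit 38) (nat_lit 5),
  Rule.mk (nat_lit 5) (nat_lit 98) (Steps.bwd (nat_lit 6) (Steps.fwd (nat_lit 2048) (Steps.bwd (nat_lit 5) (Steps.fwd (nat_lit 6144) (Steps.bwd (nat_lit 2) (Steps.fwd (nat_lit 5120) (Steps.fwd (nat_lit 6144) (Steps.bwd (nat_lit 2) Steps.nil)))))))) (nat_lit 36) (nat_lit 2),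
  Rule.mk (nat_lit 2) (nat_lit 142) (Steps.bwd (nat_lit 6) (Steps.fwd (nat_lit 1024) (Steps.bwd (nat_lit 2) (Steps.fwd (nat_lit 1024) (Steps.bwd (nat_lit 5) (Steps.fwd (nat_lit 6144) (Steps.fwd (nat_lit 5120) (Steps.fwd (nat_lit 4096) (Steps.fwd (nat_lit 3072) (Steps.bwd (nat_lit 6) (Steps.bwd (nat_lit 3) (Steps.fwd (nat_lit 4096) Steps.nil)))))))))))) (nat_lit 40) (nat_lit 12),
  Rule.mk (nat_lit 3) (nat_lit 153) (Steps.bwd (nat_lit 6) (Steps.fwd (nat_lit 2048) (Steps.fwd (nat_lit 4096) (Steps.fwd (nat_lit 3072) (Steps.fwd (nat_lit 1024) (Steps.bwd (nat_lit 2) (Steps.bwd (nat_lit 4) (Steps.bwd (nat_lit 2) (Steps.bwd (nat_lit 6) (Steps.fwd (nat_lit 3072) (Steps.bwd (nat_lit 5) (Steps.fwd (nat_lit 6144) (Steps.bwd (nat_lit 5) Steps.nil))))))))))))) (nat_lit 42) (nat_lit 10),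
  Rule.mk (nat_lit 4) (nat_lit 65) (Steps.bwd (nat_lit 5) (Steps.bwd (nat_lit 4) (Steps.bwd (nat_lit 5) (Steps.fwd (nat_lit 4096) (Steps.bwd (nat_lit 5) Steps.nil))))) (nat_lit 24) (nat_lit 1),
  Rule.mk (nat_lit 3) (nat_lit 153) (Steps.bwd (nat_lit 5) (Steps.bwd (nat_lit 3) (Steps.bwd (nat_lit 1) (Steps.fwd (nat_lit 2048) (Steps.fwd (nat_lit 4096) (Steps.bwd (nat_lit 3) (Steps.bwd (nat_lit 2) (Steps.fwd (nat_lit 5120) (Steps.fwd (nat_lit 2048) (Steps.fwd (nat_lit 3072) (Steps.bwd (nat_lit 2) (Steps.fwd (nat_lit 4096) (Steps.fwd (nat_lit 2048) Steps.nil))))))))))))) (nat_lit 26) (nat_lit 12),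
  Rule.mk (nat_lit 6) (nat_lit 153) (Steps.bwd (nat_lit 5) (Steps.bwd (nat_lit 3) (Steps.bwd (nat_lit 6) (Steps.bwd (nat_lit 2) (Steps.fwd (nat_lit 4096) (Steps.fwd (nat_lit 2048) (Steps.fwd (nat_lit 1024) (Steps.bwd (nat_lit 3) (Steps.fwd (nat_lit 4096) (Steps.fwd (nat_lit 2048) (Steps.bwd (nat_lit 6) (Steps.fwd (nat_lit 3072) (Steps.fwd (nat_lit 5120) Steps.nil))))))))))))) (nat_lit 43) (nat_lit 7),
  Rule.mk (nat_lit 1) (nat_lit 65) (Steps.bwd (nat_lit 2) (Steps.fwd (nat_lit 1024) (Steps.fwd (nat_lit 2048) (Steps.fwd (nat_lit 1024) (Steps.fwd (nat_lit 2048) Steps.nil))))) (nat_lit 6) (nat_lit 1),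
  Rule.mk (nat_lit 5) (nat_lit 120) (Steps.bwd (nat_lit 2) (Steps.bwd (nat_lit 5) (Steps.bwd (nat_lit 6) (Steps.fwd (nat_lit 1024) (Steps.fwd (nat_lit 6144) (Steps.fwd (nat_lit 2048) (Steps.fwd (nat_lit 5120) (Steps.fwd (nat_lit 1024) (Steps.fwd (nat_lit 2048) (Steps.fwd (nat_lit 1024) Steps.nil)))))))))) (nat_lit 38) (nat_lit 4),
  Rule.mk (nat_lit 6) (nat_lit 54) (Steps.bwd (nat_lit 1) (Steps.bwd (nat_lit 4) (Steps.fwd (nat_lit 6144) (Steps.bwd (nat_lit 4) Steps.nil)))) (nat_lit 32) (nat_lit 0),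
  Rule.mk (nat_lit 4) (nat_lit 54) (Steps.bwd (nat_lit 1) (Steps.fwd (nat_lit 6144) (Steps.fwd (nat_lit 4096) (Steps.fwd (nat_lit 6144) Steps.nil)))) (nat_lit 33) (nat_lit 4),
  Rule.mk (nat_lit 2) (nat_lit 98) (Steps.bwd (nat_lit 1) (Steps.bwd (nat_lit 4) (Steps.bwd (nat_lit 2) (Steps.fwd (nat_lit 4096) (Steps.bwd (nat_lit 1) (Steps.fwd (nat_lit 2048) (Steps.fwd (nat_lit 1024) (Steps.bwd (nat_lit 4) Steps.nil)))))))) (nat_lit 16) (nat_lit 5),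
  Rule.mk (nat_lit 4) (nat_lit 65) (Steps.bwd (nat_lit 3) (Steps.fwd (nat_lit 4096) (Steps.bwd (nat_lit 3) (Steps.bwd (nat_lit 4) (Steps.fwd (nat_lit 3072) Steps.nil))))) (nat_lit 14) (nat_lit 0),
  Rule.mk (nat_lit 6) (nat_lit 142) (Steps.bwd (nat_lit 3) (Steps.fwd (nat_lit 4096) (Steps.bwd (nat_lit 2) (Steps.fwd (nat_lit 6144) (Steps.bwd (nat_lit 1) (Steps.bwd (nat_lit 2) (Steps.fwd (nat_lit 1024) (Steps.fwd (nat_lit 5120) (Steps.bwd (nat_lit 6) (Steps.fwd (nat_lit 5120) (Steps.fwd (nat_lit 4096) (Steps.bwd (nat_lit 3) Steps.nil)))))))))))) (nat_lit 40) (nat_lit 9),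
  Rule.mk (nat_lit 6) (nat_lit 65) (Steps.bwd (nat_lit 2) (Steps.fwd (nat_lit 6144) (Steps.fwd (nat_lit 2048) (Steps.bwd (nat_lit 6) (Steps.bwd (nat_lit 2) Steps.nil))))) (nat_lit 34) (nat_lit 0),
  Rule.mk (nat_lit 6) (nat_lit 120) (Steps.bwd (nat_lit 1) (Steps.fwd (nat_lit 6144) (Steps.bwd (nat_lit 5) (Steps.fwd (nat_lit 2048) (Steps.fwd (nat_lit 5120) (Steps.fwd (nat_lit 1024) (Steps.fwd (nat_lit 2048) (Steps.bwd (nat_lit 1) (Steps.bwd (nat_lit 5) (Steps.bwd (nat_lit 2) Steps.nil)))))))))) (nat_lit 39) (nat_lit 3),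
  Rule.mk (nat_lit 5) (nat_lit 98) (Steps.bwd (nat_lit 2) (Steps.fwd (nat_lit 6144) (Steps.bwd (nat_lit 5) (Steps.fwd (nat_lit 2048) (Steps.bwd (nat_lit 6) (Steps.bwd (nat_lit 5) (Steps.bwd (nat_lit 2) (Steps.bwd (nat_lit 6) Steps.nil)))))))) (nat_lit 37) (nat_lit 2),
  Rule.mk (nat_lit 4) (nat_lit 54) (Steps.bwd (nat_lit 6) (Steps.fwd (nat_lit 1024) (Steps.fwd (nat_lit 4096) (Steps.bwd (nat_lit 6) Steps.nil)))) (nat_lit 32) (nat_lit 4),
  Rule.mk (nat_lit 1) (nat_lit 54) (Steps.bwd (nat_lit 6) (Steps.bwd (nat_lit 4) (Steps.fwd (nat_lit 6144) (Steps.bwd (nat_lit 4) Steps.nil)))) (nat_lit 33) (nat_lit 0),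
  Rule.mk (nat_lit 3) (nat_lit 65) (Steps.bwd (nat_lit 2) (Steps.fwd (nat_lit 1024) (Steps.bwd (nat_lit 3) (Steps.fwd (nat_lit 2048) (Steps.bwd (nat_lit 1) Steps.nil))))) (nat_lit 9) (nat_lit 1),
  Rule.mk (nat_lit 6) (nat_lit 65) (Steps.bwd (nat_lit 2) (Steps.bwd (nat_lit 6) (Steps.bwd (nat_lit 2) (Steps.fwd (nat_lit 6144) (Steps.bwd (nat_lit 2) Steps.nil))))) (nat_lit 34) (nat_lit 0),
  Rule.mk (nat_lit 4) (nat_lit 98) (Steps.bwd (nat_lit 2) (Steps.fwd (nat_lit 4096) (Steps.bwd (nat_lit 1) (Steps.bwd (nat_lit 2) (Steps.bwd (nat_lit 1) (Steps.bwd (nat_lit 4) (Steps.fwd (nat_lit 2048) (Steps.bwd (nat_lit 1) Steps.nil)))))))) (nat_lit 16) (nat_lit 7)]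
noncomputable def R_4 : List (Rule) := [Rule.mk (nat_lit 3) (nat_lit 153) (Steps.fwd (nat_lit 6144) (Steps.fwd (nat_lit 2048) (Steps.bwd (nat_lit 4) (Steps.bwd (nat_lit 2) (Steps.fwd (nat_lit 1024) (Steps.bwd (nat_lit 3) (Steps.fwd (nat_lit 4096) (Steps.bwd (nat_lit 2) (Steps.fwd (nat_lit 6144) (Steps.bwd (nat_lit 3) (Steps.fwd (nat_lit 5120) (Steps.bwd (nat_lit 6) (Steps.bwd (nat_lit 5) Steps.nil))))))))))))) (nat_lit 43) (nat_lit 9),
  Rule.mk (nat_lit 2) (nat_lit 65) (Steps.bwd (nat_lit 6) (Steps.fwd (nat_lit 2048) (Steps.bwd (nat_lit 6) (Steps.fwd (nat_lit 2048) (Steps.bwd (nat_lit 6) Steps.nil))))) (nat_lit 34) (nat_lit 1),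
  Rule.mk (nat_lit 5) (nat_lit 98) (Steps.bwd (nat_lit 2) (Steps.bwd (nat_lit 6) (Steps.fwd (nat_lit 5120) (Steps.fwd (nat_lit 2048) (Steps.bwd (nat_lit 6) (Steps.fwd (nat_lit 5120) (Steps.fwd (nat_lit 2048) (Steps.bwd (nat_lit 6) Steps.nil)))))))) (nat_lit 37) (nat_lit 2),
  Rule.mk (nat_lit 7) (nat_lit 98) (Steps.bwd (nat_lit 6) (Steps.fwd (nat_lit 1024) (Steps.bwd (nat_lit 5) (Steps.bwd (nat_lit 6) (Steps.bwd (nat_lit 7) (Steps.fwd (nat_lit 6144) (Steps.bwd (nat_lit 5) (Steps.bwd (nat_lit 6) Steps.nil)))))))) (nat_lit 52) (nat_lit 8),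
  Rule.mk (nat_lit 5) (nat_lit 142) (Steps.bwd (nat_lit 6) (Steps.fwd (nat_lit 5120) (Steps.bwd (nat_lit 4) (Steps.fwd (nat_lit 3072) (Steps.bwd (nat_lit 6) (Steps.fwd (nat_lit 3072) (Steps.bwd (nat_lit 4) (Steps.fwd (nat_lit 2048) (Steps.bwd (nat_lit 6) (Steps.fwd (nat_lit 1024) (Steps.fwd (nat_lit 2048) (Steps.bwd (nat_lit 1) Steps.nil)))))))))))) (nat_lit 40) (nat_lit 4),
  Rule.mk (nat_lit 2) (nat_lit 65) (Steps.bwd (nat_lit 1) (Steps.fwd (nat_lit 2048) (Steps.fwd (nat_lit 1024) (Steps.bwd (nat_lit 2) (Steps.fwd (nat_lit 1024) Steps.nil))))) (nat_lit 6) (nat_lit 0),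
  Rule.mk (nat_lit 6) (nat_lit 120) (Steps.bwd (nat_lit 1) (Steps.bwd (nat_lit 6) (Steps.fwd (nat_lit 2048) (Steps.bwd (nat_lit 5) (Steps.bwd (nat_lit 1) (Steps.fwd (nat_lit 2048) (Steps.fwd (nat_lit 1024) (Steps.fwd (nat_lit 5120) (Steps.bwd (nat_lit 2) (Steps.fwd (nat_lit 5120) Steps.nil)))))))))) (nat_lit 38) (nat_lit 7),
  Rule.mk (nat_lit 7) (nat_lit 98) (Steps.fwd (nat_lit 6144) (Steps.fwd (nat_lit 1024) (Steps.fwd (nat_lit 5120) (Steps.bwd (nat_lit 6) (Steps.fwd (nat_lit 7168) (Steps.fwd (nat_lit 6144) (Steps.fwd (nat_lit 5120) (Steps.bwd (nat_lit 6) Steps.nil)))))))) (nat_lit 52) (nat_lit 8),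
  Rule.mk (nat_lit 7) (nat_lit 120) (Steps.bwd (nat_lit 2) (Steps.fwd (nat_lit 5120) (Steps.bwd (nat_lit 7) (Steps.fwd (nat_lit 1024) (Steps.fwd (nat_lit 2048) (Steps.bwd (nat_lit 7) (Steps.fwd (nat_lit 2048) (Steps.bwd (nat_lit 1) (Steps.bwd (nat_lit 5) (Steps.fwd (nat_lit 2048) Steps.nil)))))))))) (nat_lit 58) (nat_lit 8),
  Rule.mk (nat_lit 3) (nat_lit 65) (Steps.bwd (nat_lit 2) (Steps.bwd (nat_lit 1) (Steps.fwd (nat_lit 3072) (Steps.bwd (nat_lit 2) (Steps.fwd (nat_lit 1024) Steps.nil))))) (nat_lit 9) (nat_lit 1),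
  Rule.mk (nat_lit 4) (nat_lit 153) (Steps.fwd (nat_lit 2048) (Steps.bwd (nat_lit 3) (Steps.bwd (nat_lit 5) (Steps.bwd (nat_lit 3) (Steps.bwd (nat_lit 1) (Steps.bwd (nat_lit 2) (Steps.fwd (nat_lit 4096) (Steps.bwd (nat_lit 3) (Steps.fwd (nat_lit 2048) (Steps.fwd (nat_lit 5120) (Steps.fwd (nat_lit 2048) (Steps.fwd (nat_lit 3072) (Steps.bwd (nat_lit 2) Steps.nil))))))))))))) (nat_lit 26) (nat_lit 10),
  Rule.mk (nat_lit 3) (nat_lit 153) (Steps.fwd (nat_lit 2048) (Steps.bwd (nat_lit 4) (Steps.bwd (nat_lit 2) (Steps.bwd (nat_lit 3) (Steps.fwd (nat_lit 5120) (Steps.fwd (nat_lit 3072) (Steps.bwd (nat_lit 1) (Steps.fwd (nat_lit 2048) (Steps.fwd (nat_lit 4096) (Steps.bwd (nat_lit 3) (Steps.bwd (nat_lit 2) (Steps.bwd (nat_lit 5) (Steps.bwd (nat_lit 2) Steps.nil))))))))))))) (nat_lit 26) (nat_lit 8),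
  Rule.mk (nat_lit 5) (nat_lit 153) (Steps.fwd (nat_lit 4096) (Steps.bwd (nat_lit 3) (Steps.fwd (nat_lit 5120) (Steps.fwd (nat_lit 4096) (Steps.fwd (nat_lit 2048) (Steps.fwd (nat_lit 3072) (Steps.fwd (nat_lit 4096) (Steps.bwd (nat_lit 5) (Steps.fwd (nat_lit 2048) (Steps.fwd (nat_lit 4096) (Steps.fwd (nat_lit 5120) (Steps.fwd (nat_lit 3072) (Steps.bwd (nat_lit 2) Steps.nil))))))))))))) (nat_lit 28) (nat_lit 10),
  Rule.mk (nat_lit 7) (nat_lit 98) (Steps.fwd (nat_lit 3072) (Steps.bwd (nat_lit 5) (Steps.bwd (nat_lit 3) (Steps.fwd (nat_lit 7168) (Steps.fwd (nat_lit 3072) (Steps.bwd (nat_lit 7) (Steps.fwd (nat_lit 5120) (Steps.fwd (nat_lit 3072) Steps.nil)))))))) (nat_lit 55) (nat_lit 6),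
  Rule.mk (nat_lit 5) (nat_lit 98) (Steps.fwd (nat_lit 3072) (Steps.bwd (nat_lit 7) (Steps.fwd (nat_lit 3072) (Steps.bwd (nat_lit 7) (Steps.bwd (nat_lit 5) (Steps.bwd (nat_lit 3) (Steps.fwd (nat_lit 7168) (Steps.fwd (nat_lit 3072) Steps.nil)))))))) (nat_lit 55) (nat_lit 8),
  Rule.mk (nat_lit 4) (nat_lit 98) (Steps.bwd (nat_lit 1) (Steps.fwd (nat_lit 2048) (Steps.fwd (nat_lit 1024) (Steps.fwd (nat_lit 4096) (Steps.fwd (nat_lit 2048) (Steps.fwd (nat_lit 1024) (Steps.fwd (nat_lit 4096) (Steps.bwd (nat_lit 2) Steps.nil)))))))) (nat_lit 16) (nat_lit 0),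
  Rule.mk (nat_lit 2) (nat_lit 120) (Steps.bwd (nat_lit 1) (Steps.bwd (nat_lit 5) (Steps.fwd (nat_lit 2048) (Steps.bwd (nat_lit 5) (Steps.fwd (nat_lit 6144) (Steps.fwd (nat_lit 1024) (Steps.fwd (nat_lit 6144) (Steps.bwd (nat_lit 2) (Steps.bwd (nat_lit 5) (Steps.bwd (nat_lit 1) Steps.nil)))))))))) (nat_lit 38) (nat_lit 2),
  Rule.mk (nat_lit 3) (nat_lit 153) (Steps.bwd (nat_lit 5) (Steps.fwd (nat_lit 4096) (Steps.fwd (nat_lit 2048) (Steps.bwd (nat_lit 3) (Steps.fwd (nat_lit 4096) (Steps.fwd (nat_lit 5120) (Steps.bwd (nat_lit 2) (Steps.bwd (nat_lit 4) (Steps.fwd (nat_lit 5120) (Steps.fwd (nat_lit 3072) (Steps.fwd (nat_lit 2048) (Steps.fwd (nat_lit 5120) (Steps.fwd (nat_lit 4096) Steps.nil))))))))))))) (nat_lit 28) (nat_lit 12),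
  Rule.mk (nat_lit 7) (nat_lit 120) (Steps.bwd (nat_lit 2) (Steps.fwd (nat_lit 5120) (Steps.fwd (nat_lit 7168) (Steps.bwd (nat_lit 1) (Steps.bwd (nat_lit 2) (Steps.bwd (nat_lit 7) (Steps.fwd (nat_lit 2048) (Steps.fwd (nat_lit 1024) (Steps.fwd (nat_lit 5120) (Steps.bwd (nat_lit 2) Steps.nil)))))))))) (nat_lit 58) (nat_lit 8),
  Rule.mk (nat_lit 1) (nat_lit 65) (Steps.bwd (nat_lit 2) (Steps.fwd (nat_lit 1024) (Steps.bwd (nat_lit 2) (Steps.bwd (nat_lit 1) (Steps.bwd (nat_lit 2) Steps.nil))))) (nat_lit 6) (nat_lit 1),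
  Rule.mk (nat_lit 3) (nat_lit 65) (Steps.bwd (nat_lit 2) (Steps.fwd (nat_lit 1024) (Steps.bwd (nat_lit 3) (Steps.bwd (nat_lit 2) (Steps.bwd (nat_lit 1) Steps.nil))))) (nat_lit 9) (nat_lit 1),
  Rule.mk (nat_lit 6) (nat_lit 65) (Steps.bwd (nat_lit 2) (Steps.fwd (nat_lit 6144) (Steps.bwd (nat_lit 2) (Steps.fwd (nat_lit 6144) (Steps.bwd (nat_lit 2) Steps.nil))))) (nat_lit 34) (nat_lit 0),
  Rule.mk (nat_lit 4) (nat_lit 98) (Steps.bwd (nat_lit 2) (Steps.fwd (nat_lit 1024) (Steps.bwd (nat_lit 4) (Steps.bwd (nat_lit 2) (Steps.bwd (nat_lit 4) (Steps.bwd (nat_lit 1) (Steps.bwd (nat_lit 2) (Steps.bwd (nat_lit 1) Steps.nil)))))))) (nat_lit 16) (nat_lit 4),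
  Rule.mk (nat_lit 5) (nat_lit 98) (Steps.bwd (nat_lit 2) (Steps.fwd (nat_lit 6144) (Steps.fwd (nat_lit 5120) (Steps.fwd (nat_lit 2048) (Steps.bwd (nat_lit 6) (Steps.bwd (nat_lit 5) (Steps.bwd (nat_lit 2) (Steps.bwd (nat_lit 6) Steps.nil)))))))) (nat_lit 37) (nat_lit 2),
  Rule.mk (nat_lit 1) (nat_lit 54) (Steps.bwd (nat_lit 6) (Steps.bwd (nat_lit 4) (Steps.bwd (nat_lit 6) (Steps.bwd (nat_lit 4) Steps.nil)))) (nat_lit 33) (nat_lit 0),
  Rule.mk (nat_lit 2) (nat_lit 65) (Steps.bwd (nat_lit 6) (Steps.bwd (nat_lit 2) (Steps.bwd (nat_lit 6) (Steps.bwd (nat_lit 2) (Steps.bwd (nat_lit 6) Steps.nil))))) (nat_lit 34) (nat_lit 1),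
  Rule.mk (nat_lit 3) (nat_lit 142) (Steps.bwd (nat_lit 6) (Steps.fwd (nat_lit 3072) (Steps.bwd (nat_lit 4) (Steps.fwd (nat_lit 2048) (Steps.bwd (nat_lit 6) (Steps.fwd (nat_lit 1024) (Steps.bwd (nat_lit 2) (Steps.bwd (nat_lit 1) (Steps.fwd (nat_lit 5120) (Steps.bwd (nat_lit 6) (Steps.fwd (nat_lit 5120) (Steps.bwd (nat_lit 4) Steps.nil)))))))))))) (nat_lit 40) (nat_lit 8),
  Rule.mk (nat_lit 2) (nat_lit 65) (Steps.bwd (nat_lit 3) (Steps.bwd (nat_lit 1) (Steps.bwd (nat_lit 2) (Steps.bwd (nat_lit 3) (Steps.bwd (nat_lit 1) Steps.nil))))) (nat_lit 8) (nat_lit 2),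
  Rule.mk (nat_lit 1) (nat_lit 65) (Steps.bwd (nat_lit 3) (Steps.bwd (nat_lit 2) (Steps.fwd (nat_lit 1024) (Steps.fwd (nat_lit 3072) (Steps.bwd (nat_lit 2) Steps.nil))))) (nat_lit 9) (nat_lit 0),
  Rule.mk (nat_lit 5) (nat_lit 65) (Steps.bwd (nat_lit 3) (Steps.bwd (nat_lit 5) (Steps.fwd (nat_lit 3072) (Steps.fwd (nat_lit 5120) (Steps.fwd (nat_lit 3072) Steps.nil))))) (nat_lit 22) (nat_lit 0),
  Rule.mk (nat_lit 4) (nat_lit 153) (Steps.bwd (nat_lit 3) (Steps.bwd (nat_lit 2) (Steps.fwd (nat_lit 4096) (Steps.fwd (nat_lit 5120) (Steps.fwd (nat_lit 3072) (Steps.fwd (nat_lit 4096) (Steps.fwd (nat_lit 5120) (Steps.fwd (nat_lit 2048) (Steps.fwd (nat_lit 3072) (Steps.bwd (nat_lit 5) (Steps.bwd (nat_lit 4) (Steps.fwd (nat_lit 2048) (Steps.bwd (nat_lit 5) Steps.nil))))))))))))) (nat_lit 29) (nat_lit 12),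
  Rule.mk (nat_lit 6) (nat_lit 153) (Steps.fwd (nat_lit 5120) (Steps.bwd (nat_lit 3) (Steps.fwd (nat_lit 6144) (Steps.fwd (nat_lit 2048) (Steps.fwd (nat_lit 4096) (Steps.bwd (nat_lit 3) (Steps.bwd (nat_lit 1) (Steps.bwd (nat_lit 2) (Steps.bwd (nat_lit 4) (Steps.bwd (nat_lit 2) (Steps.bwd (nat_lit 6) (Steps.fwd (nat_lit 3072) (Steps.fwd (nat_lit 5120) Steps.nil))))))))))))) (nat_lit 42) (nat_lit 8),
  Rule.mk (nat_lit 7) (nat_lit 120) (Steps.fwd (nat_lit 1024) (Steps.fwd (nat_lit 2048) (Steps.bwd (nat_lit 7) (Steps.fwd (nat_lit 2048) (Steps.fwd (nat_lit 1024) (Steps.fwd (nat_lit 5120) (Steps.bwd (nat_lit 2) (Steps.fwd (nat_lit 7168) (Steps.bwd (nat_lit 2) (Steps.fwd (nat_lit 5120) Steps.nil)))))))))) (nat_lit 58) (nat_lit 0),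
  Rule.mk (nat_lit 6) (nat_lit 98) (Steps.bwd (nat_lit 5) (Steps.fwd (nat_lit 2048) (Steps.fwd (nat_lit 6144) (Steps.bwd (nat_lit 5) (Steps.fwd (nat_lit 2048) (Steps.fwd (nat_lit 6144) (Steps.fwd (nat_lit 5120) (Steps.fwd (nat_lit 2048) Steps.nil)))))))) (nat_lit 37) (nat_lit 1),
  Rule.mk (nat_lit 1) (nat_lit 54) (Steps.fwd (nat_lit 4096) (Steps.bwd (nat_lit 6) (Steps.fwd (nat_lit 4096) (Steps.bwd (nat_lit 6) Steps.nil)))) (nat_lit 32) (nat_lit 1),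
  Rule.mk (nat_lit 2) (nat_lit 65) (Steps.bwd (nat_lit 6) (Steps.fwd (nat_lit 2048) (Steps.fwd (nat_lit 6144) (Steps.bwd (nat_lit 2) (Steps.fwd (nat_lit 6144) Steps.nil))))) (nat_lit 34) (nat_lit 1),
  Rule.mk (nat_lit 5) (nat_lit 98) (Steps.bwd (nat_lit 6) (Steps.fwd (nat_lit 2048) (Steps.fwd (nat_lit 5120) (Steps.bwd (nat_lit 6) (Steps.fwd (nat_lit 2048) (Steps.fwd (nat_lit 5120) (Steps.bwd (nat_lit 6) (Steps.bwd (nat_lit 2) Steps.nil)))))))) (nat_lit 36) (nat_lit 2),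
  Rule.mk (nat_lit 3) (nat_lit 142) (Steps.bwd (nat_lit 4) (Steps.bwd (nat_lit 2) (Steps.fwd (nat_lit 6144) (Steps.bwd (nat_lit 1) (Steps.bwd (nat_lit 2) (Steps.bwd (nat_lit 1) (Steps.bwd (nat_lit 5) (Steps.bwd (nat_lit 6) (Steps.bwd (nat_lit 5) (Steps.bwd (nat_lit 4) (Steps.fwd (nat_lit 3072) (Steps.bwd (nat_lit 6) Steps.nil)))))))))))) (nat_lit 40) (nat_lit 10),
  Rule.mk (nat_lit 5) (nat_lit 153) (Steps.bwd (nat_lit 4) (Steps.fwd (nat_lit 3072) (Steps.bwd (nat_lit 2) (Steps.fwd (nat_lit 4096) (Steps.fwd (nat_lit 5120) (Steps.bwd (nat_lit 3) (Steps.fwd (nat_lit 4096) (Steps.fwd (nat_lit 5120) (Steps.fwd (nat_lit 2048) (Steps.bwd (nat_lit 3) (Steps.fwd (nat_lit 5120) (Steps.bwd (nat_lit 4) (Steps.fwd (nat_lit 2048) Steps.nil))))))))))))) (nat_lit 29) (nat_lit 11),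
  Rule.mk (nat_lit 4) (nat_lit 54) (Steps.bwd (nat_lit 6) (Steps.bwd (nat_lit 4) (Steps.fwd (nat_lit 6144) (Steps.fwd (nat_lit 1024) Steps.nil)))) (nat_lit 32) (nat_lit 2),
  Rule.mk (nat_lit 2) (nat_lit 98) (Steps.bwd (nat_lit 6) (Steps.fwd (nat_lit 5120) (Steps.bwd (nat_lit 2) (Steps.fwd (nat_lit 6144) (Steps.bwd (nat_lit 5) (Steps.bwd (nat_lit 2) (Steps.bwd (nat_lit 6) (Steps.bwd (nat_lit 5) Steps.nil)))))))) (nat_lit 37) (nat_lit 0),
  Rule.mk (nat_lit 4) (nat_lit 65) (Steps.bwd (nat_lit 3) (Steps.fwd (nat_lit 4096) (Steps.bwd (nat_lit 3) (Steps.bwd (nat_lit 4) (Steps.bwd (nat_lit 3) Steps.nil))))) (nat_lit 14) (nat_lit 0),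
  Rule.mk (nat_lit 1) (nat_lit 153) (Steps.bwd (nat_lit 3) (Steps.fwd (nat_lit 4096) (Steps.fwd (nat_lit 2048) (Steps.fwd (nat_lit 6144) (Steps.bwd (nat_lit 3) (Steps.bwd (nat_lit 5) (Steps.fwd (nat_lit 6144) (Steps.fwd (nat_lit 5120) (Steps.fwd (nat_lit 3072) (Steps.bwd (nat_lit 6) (Steps.bwd (nat_lit 2) (Steps.bwd (nat_lit 4) (Steps.fwd (nat_lit 2048) Steps.nil))))))))))))) (nat_lit 43) (nat_lit 0),
  Rule.mk (nat_lit 4) (nat_lit 98) (Steps.bwd (nat_lit 2) (Steps.fwd (nat_lit 4096) (Steps.bwd (nat_lit 1) (Steps.bwd (nat_lit 2) (Steps.bwd (nat_lit 1) (Steps.fwd (nat_lit 4096) (Steps.fwd (nat_lit 2048) (Steps.fwd (nat_lit 1024) Steps.nil)))))))) (nat_lit 16) (nat_lit 7),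
  Rule.mk (nat_lit 6) (nat_lit 153) (Steps.bwd (nat_lit 2) (Steps.fwd (nat_lit 4096) (Steps.fwd (nat_lit 3072) (Steps.fwd (nat_lit 1024) (Steps.fwd (nat_lit 2048) (Steps.bwd (nat_lit 4) (Steps.bwd (nat_lit 2) (Steps.fwd (nat_lit 6144) (Steps.fwd (nat_lit 3072) (Steps.fwd (nat_lit 5120) (Steps.fwd (nat_lit 6144) (Steps.fwd (nat_lit 5120) (Steps.fwd (nat_lit 3072) Steps.nil))))))))))))) (nat_lit 42) (nat_lit 11),
  Rule.mk (nat_lit 4) (nat_lit 54) (Steps.bwd (nat_lit 6) (Steps.fwd (nat_lit 1024) (Steps.bwd (nat_lit 4) (Steps.fwd (nat_lit 6144) Steps.nil)))) (nat_lit 32) (nat_lit 4),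
  Rule.mk (nat_lit 1) (nat_lit 54) (Steps.bwd (nat_lit 6) (Steps.fwd (nat_lit 4096) (Steps.fwd (nat_lit 6144) (Steps.bwd (nat_lit 4) Steps.nil)))) (nat_lit 33) (nat_lit 0),
  Rule.mk (nat_lit 3) (nat_lit 142) (Steps.bwd (nat_lit 6) (Steps.bwd (nat_lit 3) (Steps.fwd (nat_lit 4096) (Steps.fwd (nat_lit 2048) (Steps.fwd (nat_lit 6144) (Steps.bwd (nat_lit 1) (Steps.bwd (nat_lit 2) (Steps.bwd (nat_lit 1) (Steps.fwd (nat_lit 5120) (Steps.fwd (nat_lit 6144) (Steps.bwd (nat_lit 5) (Steps.fwd (nat_lit 4096) Steps.nil)))))))))))) (nat_lit 40) (nat_lit 8),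
  Rule.mk (nat_lit 3) (nat_lit 65) (Steps.bwd (nat_lit 2) (Steps.fwd (nat_lit 1024) (Steps.fwd (nat_lit 3072) (Steps.fwd (nat_lit 2048) (Steps.bwd (nat_lit 1) Steps.nil))))) (nat_lit 9) (nat_lit 1),
  Rule.mk (nat_lit 4) (nat_lit 98) (Steps.bwd (nat_lit 2) (Steps.fwd (nat_lit 4096) (Steps.fwd (nat_lit 1024) (Steps.fwd (nat_lit 2048) (Steps.bwd (nat_lit 1) (Steps.fwd (nat_lit 4096) (Steps.bwd (nat_lit 2) (Steps.bwd (nat_lit 1) Steps.nil)))))))) (nat_lit 16) (nat_lit 7),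
  Rule.mk (nat_lit 3) (nat_lit 65) (Steps.fwd (nat_lit 1024) (Steps.bwd (nat_lit 2) (Steps.bwd (nat_lit 3) (Steps.bwd (nat_lit 1) (Steps.fwd (nat_lit 2048) Steps.nil))))) (nat_lit 8) (nat_lit 0),
  Rule.mk (nat_lit 6) (nat_lit 65) (Steps.bwd (nat_lit 2) (Steps.fwd (nat_lit 6144) (Steps.bwd (nat_lit 2) (Steps.bwd (nat_lit 6) (Steps.fwd (nat_lit 2048) Steps.nil))))) (nat_lit 34) (nat_lit 0),
  Rule.mk (nat_lit 4) (nat_lit 98) (Steps.bwd (nat_lit 2) (Steps.fwd (nat_lit 4096) (Steps.bwd (nat_lit 1) (Steps.fwd (nat_lit 2048) (Steps.fwd (nat_lit 1024) (Steps.fwd (nat_lit 4096) (Steps.fwd (nat_lit 2048) (Steps.fwd (nat_lit 1024) Steps.nil)))))))) (nat_lit 16) (nat_lit 7),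
  Rule.mk (nat_lit 5) (nat_lit 98) (Steps.bwd (nat_lit 2) (Steps.bwd (nat_lit 6) (Steps.bwd (nat_lit 5) (Steps.bwd (nat_lit 2) (Steps.bwd (nat_lit 6) (Steps.fwd (nat_lit 5120) (Steps.fwd (nat_lit 2048) (Steps.fwd (nat_lit 6144) Steps.nil)))))))) (nat_lit 37) (nat_lit 2),
  Rule.mk (nat_lit 4) (nat_lit 142) (Steps.bwd (nat_lit 5) (Steps.fwd (nat_lit 6144) (Steps.bwd (nat_lit 5) (Steps.fwd (nat_lit 1024) (Steps.bwd (nat_lit 2) (Steps.bwd (nat_lit 1) (Steps.bwd (nat_lit 6) (Steps.bwd (nat_lit 2) (Steps.bwd (nat_lit 4) (Steps.fwd (nat_lit 3072) (Steps.bwd (nat_lit 6) (Steps.fwd (nat_lit 3072) Steps.nil)))))))))))) (nat_lit 41) (nat_lit 7),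
  Rule.mk (nat_lit 6) (nat_lit 54) (Steps.bwd (nat_lit 4) (Steps.bwd (nat_lit 6) (Steps.fwd (nat_lit 1024) (Steps.bwd (nat_lit 4) Steps.nil)))) (nat_lit 32) (nat_lit 3),
  Rule.mk (nat_lit 1) (nat_lit 54) (Steps.bwd (nat_lit 4) (Steps.bwd (nat_lit 6) (Steps.bwd (nat_lit 4) (Steps.bwd (nat_lit 6) Steps.nil)))) (nat_lit 32) (nat_lit 1),
  Rule.mk (nat_lit 3) (nat_lit 65) (Steps.bwd (nat_lit 4) (Steps.fwd (nat_lit 3072) (Steps.fwd (nat_lit 4096) (Steps.bwd (nat_lit 3) (Steps.fwd (nat_lit 4096) Steps.nil))))) (nat_lit 14) (nat_lit 1),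
  Rule.mk (nat_lit 2) (nat_lit 98) (Steps.bwd (nat_lit 4) (Steps.fwd (nat_lit 1024) (Steps.bwd (nat_lit 2) (Steps.bwd (nat_lit 1) (Steps.bwd (nat_lit 4) (Steps.fwd (nat_lit 2048) (Steps.fwd (nat_lit 1024) (Steps.fwd (nat_lit 4096) Steps.nil)))))))) (nat_lit 16) (nat_lit 8),
  Rule.mk (nat_lit 2) (nat_lit 142) (Steps.fwd (nat_lit 1024) (Steps.bwd (nat_lit 5) (Steps.fwd (nat_lit 6144) (Steps.bwd (nat_lit 5) (Steps.fwd (nat_lit 4096) (Steps.fwd (nat_lit 3072) (Steps.fwd (nat_lit 6144) (Steps.bwd (nat_lit 3) (Steps.bwd (nat_lit 4) (Steps.fwd (nat_lit 2048) (Steps.bwd (nat_lit 6) (Steps.bwd (nat_lit 1) Steps.nil)))))))))))) (nat_lit 40) (nat_lit 2),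
  Rule.mk (nat_lit 3) (nat_lit 142) (Steps.fwd (nat_lit 4096) (Steps.bwd (nat_lit 5) (Steps.fwd (nat_lit 6144) (Steps.bwd (nat_lit 5) (Steps.fwd (nat_lit 1024) (Steps.bwd (nat_lit 2) (Steps.bwd (nat_lit 1) (Steps.bwd (nat_lit 6) (Steps.fwd (nat_lit 2048) (Steps.bwd (nat_lit 4) (Steps.bwd (nat_lit 3) (Steps.fwd (nat_lit 6144) Steps.nil)))))))))))) (nat_lit 41) (nat_lit 6),
  Rule.mk (nat_lit 6) (nat_lit 65) (Steps.bwd (nat_lit 2) (Steps.fwd (nat_lit 6144) (Steps.fwd (nat_lit 2048) (Steps.fwd (nat_lit 6144) (Steps.bwd (nat_lit 2) Steps.nil))))) (nat_lit 34) (nat_lit 0),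
  Rule.mk (nat_lit 2) (nat_lit 98) (Steps.bwd (nat_lit 5) (Steps.fwd (nat_lit 6144) (Steps.fwd (nat_lit 2048) (Steps.fwd (nat_lit 5120) (Steps.fwd (nat_lit 6144) (Steps.bwd (nat_lit 2) (Steps.fwd (nat_lit 5120) (Steps.fwd (nat_lit 6144) Steps.nil)))))))) (nat_lit 36) (nat_lit 1),
  Rule.mk (nat_lit 6) (nat_lit 98) (Steps.bwd (nat_lit 5) (Steps.bwd (nat_lit 2) (Steps.fwd (nat_lit 6144) (Steps.fwd (nat_lit 5120) (Steps.bwd (nat_lit 2) (Steps.fwd (nat_lit 6144) (Steps.fwd (nat_lit 5120) (Steps.fwd (nat_lit 2048) Steps.nil)))))))) (nat_lit 37) (nat_lit 1)]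
noncomputable def R_5 : List (Rule) := [Rule.mk (nat_lit 5) (nat_lit 98) (Steps.fwd (nat_lit 6144) (Steps.bwd (nat_lit 2) (Steps.bwd (nat_lit 5) (Steps.fwd (nat_lit 6144) (Steps.bwd (nat_lit 2) (Steps.fwd (nat_lit 5120) (Steps.bwd (nat_lit 6) (Steps.bwd (nat_lit 2) Steps.nil)))))))) (nat_lit 36) (nat_lit 2),
  Rule.mk (nat_lit 5) (nat_lit 65) (Steps.bwd (nat_lit 3) (Steps.fwd (nat_lit 5120) (Steps.fwd (nat_lit 3072) (Steps.bwd (nat_lit 5) (Steps.bwd (nat_lit 3) Steps.nil))))) (nat_lit 22) (nat_lit 0),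
  Rule.mk (nat_lit 4) (nat_lit 153) (Steps.bwd (nat_lit 3) (Steps.bwd (nat_lit 2) (Steps.bwd (nat_lit 5) (Steps.bwd (nat_lit 2) (Steps.bwd (nat_lit 3) (Steps.bwd (nat_lit 2) (Steps.fwd (nat_lit 4096) (Steps.fwd (nat_lit 2048) (Steps.bwd (nat_lit 3) (Steps.fwd (nat_lit 5120) (Steps.fwd (nat_lit 3072) (Steps.fwd (nat_lit 1024) (Steps.bwd (nat_lit 2) Steps.nil))))))))))))) (nat_lit 26) (nat_lit 3),
  Rule.mk (nat_lit 4) (nat_lit 54) (Steps.bwd (nat_lit 6) (Steps.fwd (nat_lit 4096) (Steps.fwd (nat_lit 6144) (Steps.fwd (nat_lit 1024) Steps.nil)))) (nat_lit 32) (nat_lit 2),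
  Rule.mk (nat_lit 5) (nat_lit 142) (Steps.bwd (nat_lit 6) (Steps.fwd (nat_lit 5120) (Steps.fwd (nat_lit 4096) (Steps.fwd (nat_lit 3072) (Steps.bwd (nat_lit 6) (Steps.fwd (nat_lit 3072) (Steps.fwd (nat_lit 4096) (Steps.bwd (nat_lit 2) (Steps.bwd (nat_lit 6) (Steps.bwd (nat_lit 1) (Steps.fwd (nat_lit 2048) (Steps.bwd (nat_lit 1) Steps.nil)))))))))))) (nat_lit 40) (nat_lit 4),
  Rule.mk (nat_lit 7) (nat_lit 98) (Steps.fwd (nat_lit 6144) (Steps.fwd (nat_lit 5120) (Steps.fwd (nat_lit 1024) (Steps.fwd (nat_lit 6144) (Steps.bwd (nat_lit 7) (Steps.bwd (nat_lit 6) (Steps.bwd (nat_lit 5) (Steps.fwd (nat_lit 6144) Steps.nil)))))))) (nat_lit 53) (nat_lit 6),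
  Rule.mk (nat_lit 4) (nat_lit 65) (Steps.bwd (nat_lit 5) (Steps.fwd (nat_lit 4096) (Steps.bwd (nat_lit 5) (Steps.fwd (nat_lit 4096) (Steps.fwd (nat_lit 5120) Steps.nil))))) (nat_lit 24) (nat_lit 1),
  Rule.mk (nat_lit 6) (nat_lit 98) (Steps.bwd (nat_lit 5) (Steps.fwd (nat_lit 2048) (Steps.fwd (nat_lit 6144) (Steps.fwd (nat_lit 5120) (Steps.fwd (nat_lit 2048) (Steps.bwd (nat_lit 6) (Steps.fwd (nat_lit 5120) (Steps.bwd (nat_lit 2) Steps.nil)))))))) (nat_lit 37) (nat_lit 1),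
  Rule.mk (nat_lit 5) (nat_lit 98) (Steps.bwd (nat_lit 2) (Steps.bwd (nat_lit 6) (Steps.fwd (nat_lit 5120) (Steps.fwd (nat_lit 2048) (Steps.fwd (nat_lit 6144) (Steps.bwd (nat_lit 5) (Steps.fwd (nat_lit 2048) (Steps.bwd (nat_lit 6) Steps.nil)))))))) (nat_lit 37) (nat_lit 2),
  Rule.mk (nat_lit 3) (nat_lit 153) (Steps.bwd (nat_lit 2) (Steps.fwd (nat_lit 4096) (Steps.fwd (nat_lit 2048) (Steps.bwd (nat_lit 3) (Steps.bwd (nat_lit 5) (Steps.fwd (nat_lit 3072) (Steps.bwd (nat_lit 1) (Steps.fwd (nat_lit 2048) (Steps.fwd (nat_lit 4096) (Steps.bwd (nat_lit 3) (Steps.fwd (nat_lit 2048) (Steps.bwd (nat_lit 5) (Steps.fwd (nat_lit 2048) Steps.nil))))))))))))) (nat_lit 26) (nat_lit 8),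
  Rule.mk (nat_lit 5) (nat_lit 98) (Steps.bwd (nat_lit 6) (Steps.bwd (nat_lit 2) (Steps.fwd (nat_lit 5120) (Steps.fwd (nat_lit 6144) (Steps.bwd (nat_lit 2) (Steps.fwd (nat_lit 5120) (Steps.bwd (nat_lit 6) (Steps.bwd (nat_lit 2) Steps.nil)))))))) (nat_lit 36) (nat_lit 2),
  Rule.mk (nat_lit 1) (nat_lit 120) (Steps.bwd (nat_lit 6) (Steps.bwd (nat_lit 2) (Steps.fwd (nat_lit 5120) (Steps.fwd (nat_lit 1024) (Steps.bwd (nat_lit 2) (Steps.fwd (nat_lit 1024) (Steps.fwd (nat_lit 5120) (Steps.bwd (nat_lit 2) (Steps.bwd (nat_lit 5) (Steps.bwd (nat_lit 6) Steps.nil)))))))))) (nat_lit 38) (nat_lit 8),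
  Rule.mk (nat_lit 4) (nat_lit 98) (Steps.bwd (nat_lit 2) (Steps.fwd (nat_lit 4096) (Steps.fwd (nat_lit 1024) (Steps.bwd (nat_lit 2) (Steps.fwd (nat_lit 1024) (Steps.bwd (nat_lit 4) (Steps.fwd (nat_lit 2048) (Steps.bwd (nat_lit 1) Steps.nil)))))))) (nat_lit 16) (nat_lit 7),
  Rule.mk (nat_lit 1) (nat_lit 65) (Steps.bwd (nat_lit 3) (Steps.fwd (nat_lit 1024) (Steps.fwd (nat_lit 3072) (Steps.bwd (nat_lit 1) (Steps.fwd (nat_lit 3072) Steps.nil))))) (nat_lit 10) (nat_lit 1),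
  Rule.mk (nat_lit 4) (nat_lit 65) (Steps.bwd (nat_lit 3) (Steps.bwd (nat_lit 4) (Steps.fwd (nat_lit 3072) (Steps.fwd (nat_lit 4096) (Steps.bwd (nat_lit 3) Steps.nil))))) (nat_lit 14) (nat_lit 0),
  Rule.mk (nat_lit 1) (nat_lit 54) (Steps.bwd (nat_lit 4) (Steps.fwd (nat_lit 6144) (Steps.bwd (nat_lit 4) (Steps.bwd (nat_lit 6) Steps.nil)))) (nat_lit 32) (nat_lit 1),
  Rule.mk (nat_lit 2) (nat_lit 98) (Steps.bwd (nat_lit 4) (Steps.fwd (nat_lit 1024) (Steps.fwd (nat_lit 2048) (Steps.fwd (nat_lit 1024) (Steps.fwd (nat_lit 4096) (Steps.bwd (nat_lit 2) (Steps.fwd (nat_lit 1024) (Steps.fwd (nat_lit 4096) Steps.nil)))))))) (nat_lit 16) (nat_lit 8),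
  Rule.mk (nat_lit 6) (nat_lit 54) (Steps.bwd (nat_lit 4) (Steps.fwd (nat_lit 6144) (Steps.fwd (nat_lit 1024) (Steps.fwd (nat_lit 4096) Steps.nil)))) (nat_lit 32) (nat_lit 3),
  Rule.mk (nat_lit 5) (nat_lit 65) (Steps.bwd (nat_lit 4) (Steps.fwd (nat_lit 5120) (Steps.bwd (nat_lit 4) (Steps.fwd (nat_lit 5120) (Steps.bwd (nat_lit 4) Steps.nil))))) (nat_lit 24) (nat_lit 0),
  Rule.mk (nat_lit 2) (nat_lit 142) (Steps.bwd (nat_lit 4) (Steps.fwd (nat_lit 3072) (Steps.fwd (nat_lit 6144) (Steps.fwd (nat_lit 3072) (Steps.fwd (nat_lit 4096) (Steps.fwd (nat_lit 5120) (Steps.bwd (nat_lit 6) (Steps.fwd (nat_lit 5120) (Steps.fwd (nat_lit 1024) (Steps.fwd (nat_lit 2048) (Steps.bwd (nat_lit 1) (Steps.fwd (nat_lit 6144) Steps.nil)))))))))))) (nat_lit 41) (nat_lit 2),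
  Rule.mk (nat_lit 4) (nat_lit 54) (Steps.bwd (nat_lit 6) (Steps.bwd (nat_lit 1) (Steps.fwd (nat_lit 4096) (Steps.fwd (nat_lit 6144) Steps.nil)))) (nat_lit 32) (nat_lit 4),
  Rule.mk (nat_lit 1) (nat_lit 54) (Steps.bwd (nat_lit 6) (Steps.fwd (nat_lit 4096) (Steps.bwd (nat_lit 6) (Steps.bwd (nat_lit 4) Steps.nil)))) (nat_lit 33) (nat_lit 0),
  Rule.mk (nat_lit 7) (nat_lit 98) (Steps.bwd (nat_lit 6) (Steps.bwd (nat_lit 1) (Steps.fwd (nat_lit 5120) (Steps.fwd (nat_lit 6144) (Steps.fwd (nat_lit 7168) (Steps.bwd (nat_lit 6) (Steps.bwd (nat_lit 5) (Steps.fwd (nat_lit 6144) Steps.nil)))))))) (nat_lit 52) (nat_lit 8),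
  Rule.mk (nat_lit 5) (nat_lit 142) (Steps.bwd (nat_lit 6) (Steps.fwd (nat_lit 5120) (Steps.fwd (nat_lit 4096) (Steps.fwd (nat_lit 3072) (Steps.bwd (nat_lit 6) (Steps.fwd (nat_lit 3072) (Steps.fwd (nat_lit 4096) (Steps.bwd (nat_lit 2) (Steps.bwd (nat_lit 6) (Steps.bwd (nat_lit 1) (Steps.bwd (nat_lit 2) (Steps.fwd (nat_lit 1024) Steps.nil)))))))))))) (nat_lit 40) (nat_lit 4),
  Rule.mk (nat_lit 3) (nat_lit 65) (Steps.bwd (nat_lit 2) (Steps.fwd (nat_lit 1024) (Steps.bwd (nat_lit 3) (Steps.bwd (nat_lit 2) (Steps.fwd (nat_lit 1024) Steps.nil))))) (nat_lit 9) (nat_lit 1),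
  Rule.mk (nat_lit 3) (nat_lit 65) (Steps.bwd (nat_lit 2) (Steps.bwd (nat_lit 1) (Steps.bwd (nat_lit 3) (Steps.bwd (nat_lit 2) (Steps.bwd (nat_lit 1) Steps.nil))))) (nat_lit 9) (nat_lit 1),
  Rule.mk (nat_lit 4) (nat_lit 142) (Steps.bwd (nat_lit 2) (Steps.bwd (nat_lit 6) (Steps.bwd (nat_lit 1) (Steps.fwd (nat_lit 2048) (Steps.fwd (nat_lit 1024) (Steps.fwd (nat_lit 5120) (Steps.fwd (nat_lit 6144) (Steps.fwd (nat_lit 5120) (Steps.fwd (nat_lit 4096) (Steps.fwd (nat_lit 3072) (Steps.fwd (nat_lit 6144) (Steps.bwd (nat_lit 3) Steps.nil)))))))))))) (nat_lit 40) (nat_lit 11),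
  Rule.mk (nat_lit 3) (nat_lit 65) (Steps.bwd (nat_lit 5) (Steps.fwd (nat_lit 3072) (Steps.bwd (nat_lit 5) (Steps.fwd (nat_lit 3072) (Steps.bwd (nat_lit 5) Steps.nil))))) (nat_lit 22) (nat_lit 1),
  Rule.mk (nat_lit 2) (nat_lit 153) (Steps.bwd (nat_lit 5) (Steps.bwd (nat_lit 4) (Steps.fwd (nat_lit 3072) (Steps.fwd (nat_lit 5120) (Steps.bwd (nat_lit 4) (Steps.bwd (nat_lit 2) (Steps.bwd (nat_lit 3) (Steps.fwd (nat_lit 4096) (Steps.fwd (nat_lit 5120) (Steps.fwd (nat_lit 2048) (Steps.bwd (nat_lit 4) (Steps.fwd (nat_lit 5120) (Steps.bwd (nat_lit 3) Steps.nil))))))))))))) (nat_lit 28) (nat_lit 9),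
  Rule.mk (nat_lit 4) (nat_lit 98) (Steps.fwd (nat_lit 2048) (Steps.fwd (nat_lit 4096) (Steps.fwd (nat_lit 1024) (Steps.fwd (nat_lit 2048) (Steps.bwd (nat_lit 1) (Steps.bwd (nat_lit 4) (Steps.bwd (nat_lit 2) (Steps.bwd (nat_lit 1) Steps.nil)))))))) (nat_lit 16) (nat_lit 7),
  Rule.mk (nat_lit 3) (nat_lit 153) (Steps.bwd (nat_lit 6) (Steps.fwd (nat_lit 2048) (Steps.fwd (nat_lit 4096) (Steps.fwd (nat_lit 2048) (Steps.fwd (nat_lit 1024) (Steps.bwd (nat_lit 3) (Steps.bwd (nat_lit 4) (Steps.fwd (nat_lit 2048) (Steps.bwd (nat_lit 6) (Steps.fwd (nat_lit 3072) (Steps.fwd (nat_lit 5120) (Steps.bwd (nat_lit 6) (Steps.bwd (nat_lit 5) Steps.nil))))))))))))) (nat_lit 43) (nat_lit 9),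
  Rule.mk (nat_lit 2) (nat_lit 65) (Steps.bwd (nat_lit 6) (Steps.bwd (nat_lit 2) (Steps.bwd (nat_lit 6) (Steps.bwd (nat_lit 2) (Steps.fwd (nat_lit 6144) Steps.nil))))) (nat_lit 34) (nat_lit 1),
  Rule.mk (nat_lit 5) (nat_lit 98) (Steps.bwd (nat_lit 6) (Steps.bwd (nat_lit 2) (Steps.fwd (nat_lit 5120) (Steps.bwd (nat_lit 6) (Steps.bwd (nat_lit 2) (Steps.bwd (nat_lit 5) (Steps.bwd (nat_lit 6) (Steps.bwd (nat_lit 2) Steps.nil)))))))) (nat_lit 36) (nat_lit 2),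
  Rule.mk (nat_lit 3) (nat_lit 65) (Steps.fwd (nat_lit 1024) (Steps.fwd (nat_lit 3072) (Steps.fwd (nat_lit 1024) (Steps.bwd (nat_lit 3) (Steps.bwd (nat_lit 1) Steps.nil))))) (nat_lit 10) (nat_lit 0),
  Rule.mk (nat_lit 1) (nat_lit 65) (Steps.bwd (nat_lit 2) (Steps.fwd (nat_lit 1024) (Steps.bwd (nat_lit 2) (Steps.fwd (nat_lit 1024) (Steps.fwd (nat_lit 2048) Steps.nil))))) (nat_lit 6) (nat_lit 1),
  Rule.mk (nat_lit 5) (nat_lit 98) (Steps.fwd (nat_lit 6144) (Steps.bwd (nat_lit 2) (Steps.fwd (nat_lit 5120) (Steps.bwd (nat_lit 6) (Steps.fwd (nat_lit 2048) (Steps.bwd (nat_lit 5) (Steps.fwd (nat_lit 6144) (Steps.fwd (nat_lit 2048) Steps.nil)))))))) (nat_lit 36) (nat_lit 2),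
  Rule.mk (nat_lit 3) (nat_lit 153) (Steps.bwd (nat_lit 2) (Steps.fwd (nat_lit 5120) (Steps.fwd (nat_lit 2048) (Steps.fwd (nat_lit 3072) (Steps.fwd (nat_lit 2048) (Steps.fwd (nat_lit 4096) (Steps.fwd (nat_lit 2048) (Steps.bwd (nat_lit 3) (Steps.fwd (nat_lit 5120) (Steps.fwd (nat_lit 3072) (Steps.bwd (nat_lit 1) (Steps.fwd (nat_lit 2048) (Steps.fwd (nat_lit 4096) Steps.nil))))))))))))) (nat_lit 26) (nat_lit 4),
  Rule.mk (nat_lit 2) (nat_lit 65) (Steps.bwd (nat_lit 3) (Steps.fwd (nat_lit 1024) (Steps.fwd (nat_lit 2048) (Steps.bwd (nat_lit 3) (Steps.bwd (nat_lit 1) Steps.nil))))) (nat_lit 8) (nat_lit 2),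
  Rule.mk (nat_lit 5) (nat_lit 65) (Steps.bwd (nat_lit 3) (Steps.fwd (nat_lit 5120) (Steps.bwd (nat_lit 3) (Steps.bwd (nat_lit 5) (Steps.bwd (nat_lit 3) Steps.nil))))) (nat_lit 22) (nat_lit 0),
  Rule.mk (nat_lit 3) (nat_lit 65) (Steps.bwd (nat_lit 4) (Steps.bwd (nat_lit 3) (Steps.bwd (nat_lit 4) (Steps.bwd (nat_lit 3) (Steps.bwd (nat_lit 4) Steps.nil))))) (nat_lit 14) (nat_lit 1),
  Rule.mk (nat_lit 2) (nat_lit 142) (Steps.bwd (nat_lit 4) (Steps.bwd (nat_lit 3) (Steps.bwd (nat_lit 6) (Steps.bwd (nat_lit 3) (Steps.bwd (nat_lit 4) (Steps.fwd (nat_lit 5120) (Steps.bwd (nat_lit 6) (Steps.fwd (nat_lit 5120) (Steps.fwd (nat_lit 1024) (Steps.fwd (nat_lit 2048) (Steps.fwd (nat_lit 1024) (Steps.fwd (nat_lit 6144) Steps.nil)))))))))))) (nat_lit 41) (nat_lit 2),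
  Rule.mk (nat_lit 6) (nat_lit 65) (Steps.fwd (nat_lit 2048) (Steps.bwd (nat_lit 6) (Steps.fwd (nat_lit 2048) (Steps.fwd (nat_lit 6144) (Steps.bwd (nat_lit 2) Steps.nil))))) (nat_lit 34) (nat_lit 0),
  Rule.mk (nat_lit 3) (nat_lit 65) (Steps.bwd (nat_lit 1) (Steps.fwd (nat_lit 2048) (Steps.bwd (nat_lit 3) (Steps.fwd (nat_lit 1024) (Steps.bwd (nat_lit 2) Steps.nil))))) (nat_lit 8) (nat_lit 0),
  Rule.mk (nat_lit 6) (nat_lit 120) (Steps.bwd (nat_lit 1) (Steps.fwd (nat_lit 6144) (Steps.fwd (nat_lit 2048) (Steps.fwd (nat_lit 5120) (Steps.fwd (nat_lit 1024) (Steps.bwd (nat_lit 2) (Steps.fwd (nat_lit 1024) (Steps.fwd (nat_lit 5120) (Steps.fwd (nat_lit 2048) (Steps.fwd (nat_lit 5120) Steps.nil)))))))))) (nat_lit 38) (nat_lit 7),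
  Rule.mk (nat_lit 6) (nat_lit 54) (Steps.bwd (nat_lit 4) (Steps.fwd (nat_lit 6144) (Steps.bwd (nat_lit 1) (Steps.bwd (nat_lit 4) Steps.nil)))) (nat_lit 32) (nat_lit 3),
  Rule.mk (nat_lit 1) (nat_lit 54) (Steps.bwd (nat_lit 4) (Steps.fwd (nat_lit 6144) (Steps.fwd (nat_lit 4096) (Steps.fwd (nat_lit 6144) Steps.nil)))) (nat_lit 32) (nat_lit 1),
  Rule.mk (nat_lit 3) (nat_lit 65) (Steps.bwd (nat_lit 4) (Steps.fwd (nat_lit 3072) (Steps.fwd (nat_lit 4096) (Steps.bwd (nat_lit 3) (Steps.bwd (nat_lit 4) Steps.nil))))) (nat_lit 14) (nat_lit 1),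
  Rule.mk (nat_lit 2) (nat_lit 98) (Steps.bwd (nat_lit 4) (Steps.bwd (nat_lit 1) (Steps.fwd (nat_lit 2048) (Steps.fwd (nat_lit 1024) (Steps.fwd (nat_lit 4096) (Steps.bwd (nat_lit 2) (Steps.bwd (nat_lit 1) (Steps.fwd (nat_lit 4096) Steps.nil)))))))) (nat_lit 16) (nat_lit 8),
  Rule.mk (nat_lit 3) (nat_lit 65) (Steps.bwd (nat_lit 5) (Steps.fwd (nat_lit 3072) (Steps.bwd (nat_lit 5) (Steps.bwd (nat_lit 3) (Steps.bwd (nat_lit 5) Steps.nil))))) (nat_lit 22) (nat_lit 1),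
  Rule.mk (nat_lit 2) (nat_lit 98) (Steps.bwd (nat_lit 5) (Steps.fwd (nat_lit 6144) (Steps.fwd (nat_lit 2048) (Steps.bwd (nat_lit 5) (Steps.fwd (nat_lit 6144) (Steps.fwd (nat_lit 2048) (Steps.bwd (nat_lit 5) (Steps.bwd (nat_lit 6) Steps.nil)))))))) (nat_lit 36) (nat_lit 1),
  Rule.mk (nat_lit 6) (nat_lit 98) (Steps.bwd (nat_lit 5) (Steps.fwd (nat_lit 2048) (Steps.fwd (nat_lit 6144) (Steps.bwd (nat_lit 5) (Steps.bwd (nat_lit 2) (Steps.bwd (nat_lit 6) (Steps.bwd (nat_lit 5) (Steps.bwd (nat_lit 2) Steps.nil)))))))) (nat_lit 37) (nat_lit 1),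
  Rule.mk (nat_lit 6) (nat_lit 87) (Steps.bwd (nat_lit 7) (Steps.fwd (nat_lit 4096) (Steps.fwd (nat_lit 7168) (Steps.bwd (nat_lit 6) (Steps.fwd (nat_lit 7168) (Steps.fwd (nat_lit 4096) (Steps.fwd (nat_lit 7168) Steps.nil))))))) (nat_lit 50) (nat_lit 3),
  Rule.mk (nat_lit 2) (nat_lit 109) (Steps.bwd (nat_lit 7) (Steps.fwd (nat_lit 4096) (Steps.fwd (nat_lit 7168) (Steps.fwd (nat_lit 1024) (Steps.fwd (nat_lit 2048) (Steps.bwd (nat_lit 1) (Steps.bwd (nat_lit 7) (Steps.bwd (nat_lit 4) (Steps.fwd (nat_lit 7168) Steps.nil))))))))) (nat_lit 56) (nat_lit 7),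
  Rule.mk (nat_lit 4) (nat_lit 54) (Steps.bwd (nat_lit 1) (Steps.fwd (nat_lit 6144) (Steps.fwd (nat_lit 4096) (Steps.bwd (nat_lit 6) Steps.nil)))) (nat_lit 33) (nat_lit 4),
  Rule.mk (nat_lit 5) (nat_lit 98) (Steps.bwd (nat_lit 1) (Steps.fwd (nat_lit 6144) (Steps.bwd (nat_lit 7) (Steps.bwd (nat_lit 6) (Steps.fwd (nat_lit 5120) (Steps.fwd (nat_lit 6144) (Steps.fwd (nat_lit 7168) (Steps.bwd (nat_lit 6) Steps.nil)))))))) (nat_lit 53) (nat_lit 8),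
  Rule.mk (nat_lit 7) (nat_lit 120) (Steps.bwd (nat_lit 1) (Steps.fwd (nat_lit 2048) (Steps.bwd (nat_lit 7) (Steps.bwd (nat_lit 2) (Steps.fwd (nat_lit 1024) (Steps.fwd (nat_lit 5120) (Steps.fwd (nat_lit 2048) (Steps.fwd (nat_lit 7168) (Steps.fwd (nat_lit 2048) (Steps.fwd (nat_lit 5120) Steps.nil)))))))))) (nat_lit 58) (nat_lit 0),
  Rule.mk (nat_lit 1) (nat_lit 54) (Steps.fwd (nat_lit 4096) (Steps.bwd (nat_lit 6) (Steps.fwd (nat_lit 4096) (Steps.fwd (nat_lit 6144) Steps.nil)))) (nat_lit 32) (nat_lit 1),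
  Rule.mk (nat_lit 7) (nat_lit 87) (Steps.bwd (nat_lit 6) (Steps.fwd (nat_lit 7168) (Steps.fwd (nat_lit 4096) (Steps.bwd (nat_lit 7) (Steps.bwd (nat_lit 6) (Steps.fwd (nat_lit 7168) (Steps.fwd (nat_lit 4096) Steps.nil))))))) (nat_lit 50) (nat_lit 2),
  Rule.mk (nat_lit 5) (nat_lit 98) (Steps.bwd (nat_lit 6) (Steps.fwd (nat_lit 7168) (Steps.bwd (nat_lit 6) (Steps.fwd (nat_lit 1024) (Steps.bwd (nat_lit 5) (Steps.fwd (nat_lit 6144) (Steps.bwd (nat_lit 7) (Steps.fwd (nat_lit 6144) Steps.nil)))))))) (nat_lit 52) (nat_lit 6),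
  Rule.mk (nat_lit 5) (nat_lit 98) (Steps.bwd (nat_lit 7) (Steps.bwd (nat_lit 3) (Steps.bwd (nat_lit 7) (Steps.fwd (nat_lit 3072) (Steps.bwd (nat_lit 5) (Steps.fwd (nat_lit 3072) (Steps.fwd (nat_lit 7168) (Steps.fwd (nat_lit 3072) Steps.nil)))))))) (nat_lit 54) (nat_lit 6),
  Rule.mk (nat_lit 2) (nat_lit 120) (Steps.bwd (nat_lit 5) (Steps.bwd (nat_lit 7) (Steps.bwd (nat_lit 1) (Steps.fwd (nat_lit 2048) (Steps.bwd (nat_lit 7) (Steps.fwd (nat_lit 2048) (Steps.fwd (nat_lit 1024) (Steps.fwd (nat_lit 5120) (Steps.bwd (nat_lit 2) (Steps.fwd (nat_lit 7168) Steps.nil)))))))))) (nat_lit 58) (nat_lit 9),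
  Rule.mk (nat_lit 7) (nat_lit 120) (Steps.bwd (nat_lit 1) (Steps.fwd (nat_lit 2048) (Steps.bwd (nat_lit 7) (Steps.fwd (nat_lit 2048) (Steps.bwd (nat_lit 1) (Steps.bwd (nat_lit 5) (Steps.bwd (nat_lit 2) (Steps.fwd (nat_lit 7168) (Steps.bwd (nat_lit 2) (Steps.fwd (nat_lit 5120) Steps.nil)))))))))) (nat_lit 58) (nat_lit 0),
  Rule.mk (nat_lit 3) (nat_lit 98) (Steps.bwd (nat_lit 7) (Steps.bwd (nat_lit 3) (Steps.bwd (nat_lit 5) (Steps.bwd (nat_lit 3) (Steps.fwd (nat_lit 7168) (Steps.fwd (nat_lit 3072) (Steps.fwd (nat_lit 5120) (Steps.bwd (nat_lit 7) Steps.nil)))))))) (nat_lit 54) (nat_lit 8),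
  Rule.mk (nat_lit 5) (nat_lit 98) (Steps.bwd (nat_lit 7) (Steps.bwd (nat_lit 3) (Steps.bwd (nat_lit 7) (Steps.fwd (nat_lit 3072) (Steps.bwd (nat_lit 5) (Steps.fwd (nat_lit 3072) (Steps.bwd (nat_lit 7) (Steps.bwd (nat_lit 3) Steps.nil)))))))) (nat_lit 54) (nat_lit 6)]
noncomputable def R_6 : List (Rule) := [Rule.mk (nat_lit 7) (nat_lit 120) (Steps.fwd (nat_lit 2048) (Steps.bwd (nat_lit 5) (Steps.bwd (nat_lit 7) (Steps.bwd (nat_lit 1) (Steps.bwd (nat_lit 2) (Steps.bwd (nat_lit 7) (Steps.fwd (nat_lit 2048) (Steps.bwd (nat_lit 1) (Steps.fwd (nat_lit 5120) (Steps.fwd (nat_lit 2048) Steps.nil)))))))))) (nat_lit 58) (nat_lit 8),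
  Rule.mk (nat_lit 5) (nat_lit 98) (Steps.bwd (nat_lit 3) (Steps.bwd (nat_lit 7) (Steps.bwd (nat_lit 3) (Steps.bwd (nat_lit 5) (Steps.bwd (nat_lit 3) (Steps.fwd (nat_lit 7168) (Steps.fwd (nat_lit 3072) (Steps.fwd (nat_lit 7168) Steps.nil)))))))) (nat_lit 55) (nat_lit 4),
  Rule.mk (nat_lit 7) (nat_lit 120) (Steps.bwd (nat_lit 1) (Steps.bwd (nat_lit 2) (Steps.fwd (nat_lit 7168) (Steps.bwd (nat_lit 2) (Steps.fwd (nat_lit 1024) (Steps.fwd (nat_lit 5120) (Steps.bwd (nat_lit 2) (Steps.fwd (nat_lit 7168) (Steps.fwd (nat_lit 2048) (Steps.fwd (nat_lit 5120) Steps.nil)))))))))) (nat_lit 58) (nat_lit 0),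
  Rule.mk (nat_lit 2) (nat_lit 120) (Steps.bwd (nat_lit 5) (Steps.bwd (nat_lit 7) (Steps.fwd (nat_lit 1024) (Steps.bwd (nat_lit 2) (Steps.fwd (nat_lit 7168) (Steps.fwd (nat_lit 2048) (Steps.fwd (nat_lit 1024) (Steps.fwd (nat_lit 5120) (Steps.fwd (nat_lit 2048) (Steps.fwd (nat_lit 7168) Steps.nil)))))))))) (nat_lit 58) (nat_lit 9),
  Rule.mk (nat_lit 7) (nat_lit 120) (Steps.bwd (nat_lit 1) (Steps.fwd (nat_lit 2048) (Steps.bwd (nat_lit 7) (Steps.bwd (nat_lit 2) (Steps.bwd (nat_lit 1) (Steps.bwd (nat_lit 5) (Steps.bwd (nat_lit 2) (Steps.bwd (nat_lit 7) (Steps.fwd (nat_lit 2048) (Steps.bwd (nat_lit 5) Steps.nil)))))))))) (nat_lit 58) (nat_lit 0),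
  Rule.mk (nat_lit 3) (nat_lit 98) (Steps.bwd (nat_lit 7) (Steps.fwd (nat_lit 3072) (Steps.bwd (nat_lit 5) (Steps.bwd (nat_lit 3) (Steps.bwd (nat_lit 7) (Steps.fwd (nat_lit 3072) (Steps.bwd (nat_lit 5) (Steps.bwd (nat_lit 7) Steps.nil)))))))) (nat_lit 54) (nat_lit 8),
  Rule.mk (nat_lit 5) (nat_lit 98) (Steps.bwd (nat_lit 7) (Steps.bwd (nat_lit 3) (Steps.fwd (nat_lit 7168) (Steps.fwd (nat_lit 3072) (Steps.fwd (nat_lit 5120) (Steps.bwd (nat_lit 3) (Steps.bwd (nat_lit 7) (Steps.bwd (nat_lit 3) Steps.nil)))))))) (nat_lit 54) (nat_lit 6),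
  Rule.mk (nat_lit 7) (nat_lit 120) (Steps.fwd (nat_lit 2048) (Steps.bwd (nat_lit 5) (Steps.bwd (nat_lit 7) (Steps.bwd (nat_lit 1) (Steps.bwd (nat_lit 2) (Steps.fwd (nat_lit 7168) (Steps.bwd (nat_lit 2) (Steps.fwd (nat_lit 1024) (Steps.fwd (nat_lit 5120) (Steps.bwd (nat_lit 2) Steps.nil)))))))))) (nat_lit 58) (nat_lit 8),
  Rule.mk (nat_lit 5) (nat_lit 98) (Steps.bwd (nat_lit 3) (Steps.bwd (nat_lit 7) (Steps.fwd (nat_lit 3072) (Steps.bwd (nat_lit 5) (Steps.bwd (nat_lit 3) (Steps.bwd (nat_lit 7) (Steps.fwd (nat_lit 3072) (Steps.fwd (nat_lit 7168) Steps.nil)))))))) (nat_lit 55) (nat_lit 4),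
  Rule.mk (nat_lit 7) (nat_lit 109) (Steps.bwd (nat_lit 1) (Steps.bwd (nat_lit 2) (Steps.fwd (nat_lit 1024) (Steps.fwd (nat_lit 7168) (Steps.fwd (nat_lit 4096) (Steps.fwd (nat_lit 7168) (Steps.bwd (nat_lit 2) (Steps.fwd (nat_lit 7168) (Steps.fwd (nat_lit 4096) Steps.nil))))))))) (nat_lit 56) (nat_lit 0),
  Rule.mk (nat_lit 4) (nat_lit 87) (Steps.bwd (nat_lit 7) (Steps.fwd (nat_lit 6144) (Steps.fwd (nat_lit 7168) (Steps.fwd (nat_lit 4096) (Steps.bwd (nat_lit 7) (Steps.fwd (nat_lit 6144) (Steps.fwd (nat_lit 7168) Steps.nil))))))) (nat_lit 50) (nat_lit 1),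
  Rule.mk (nat_lit 7) (nat_lit 98) (Steps.bwd (nat_lit 3) (Steps.bwd (nat_lit 5) (Steps.fwd (nat_lit 7168) (Steps.fwd (nat_lit 3072) (Steps.bwd (nat_lit 7) (Steps.bwd (nat_lit 3) (Steps.bwd (nat_lit 5) (Steps.fwd (nat_lit 3072) Steps.nil)))))))) (nat_lit 54) (nat_lit 4),
  Rule.mk (nat_lit 4) (nat_lit 87) (Steps.bwd (nat_lit 7) (Steps.bwd (nat_lit 3) (Steps.bwd (nat_lit 7) (Steps.fwd (nat_lit 4096) (Steps.fwd (nat_lit 7168) (Steps.fwd (nat_lit 3072) (Steps.bwd (nat_lit 7) Steps.nil))))))) (nat_lit 46) (nat_lit 3),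
  Rule.mk (nat_lit 3) (nat_lit 98) (Steps.bwd (nat_lit 7) (Steps.bwd (nat_lit 3) (Steps.bwd (nat_lit 5) (Steps.bwd (nat_lit 3) (Steps.bwd (nat_lit 7) (Steps.bwd (nat_lit 3) (Steps.bwd (nat_lit 5) (Steps.fwd (nat_lit 7168) Steps.nil)))))))) (nat_lit 54) (nat_lit 8),
  Rule.mk (nat_lit 5) (nat_lit 98) (Steps.bwd (nat_lit 6) (Steps.bwd (nat_lit 7) (Steps.bwd (nat_lit 6) (Steps.bwd (nat_lit 1) (Steps.fwd (nat_lit 5120) (Steps.fwd (nat_lit 6144) (Steps.fwd (nat_lit 7168) (Steps.fwd (nat_lit 6144) Steps.nil)))))))) (nat_lit 52) (nat_lit 6),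
  Rule.mk (nat_lit 1) (nat_lit 98) (Steps.fwd (nat_lit 5120) (Steps.bwd (nat_lit 6) (Steps.bwd (nat_lit 7) (Steps.bwd (nat_lit 6) (Steps.bwd (nat_lit 5) (Steps.bwd (nat_lit 6) (Steps.fwd (nat_lit 7168) (Steps.fwd (nat_lit 6144) Steps.nil)))))))) (nat_lit 52) (nat_lit 1),
  Rule.mk (nat_lit 6) (nat_lit 54) (Steps.bwd (nat_lit 4) (Steps.fwd (nat_lit 1024) (Steps.bwd (nat_lit 6) (Steps.bwd (nat_lit 4) Steps.nil)))) (nat_lit 33) (nat_lit 3),
  Rule.mk (nat_lit 0) (nat_lit 65) (Steps.bwd (nat_lit 1) (Steps.bwd (nat_lit 4) (Steps.bwd (nat_lit 6) (Steps.bwd (nat_lit 4) (Steps.bwd (nat_lit 6) Steps.nil))))) (nat_lit 32) (nat_lit 0),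
  Rule.mk (nat_lit 6) (nat_lit 54) (Steps.bwd (nat_lit 1) (Steps.bwd (nat_lit 4) (Steps.bwd (nat_lit 6) (Steps.bwd (nat_lit 4) Steps.nil)))) (nat_lit 32) (nat_lit 0),
  Rule.mk (nat_lit 7) (nat_lit 120) (Steps.bwd (nat_lit 2) (Steps.fwd (nat_lit 5120) (Steps.fwd (nat_lit 7168) (Steps.fwd (nat_lit 1024) (Steps.bwd (nat_lit 2) (Steps.fwd (nat_lit 7168) (Steps.bwd (nat_lit 2) (Steps.fwd (nat_lit 1024) (Steps.fwd (nat_lit 5120) (Steps.fwd (nat_lit 2048) Steps.nil)))))))))) (nat_lit 58) (nat_lit 8),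
  Rule.mk (nat_lit 2) (nat_lit 120) (Steps.bwd (nat_lit 1) (Steps.bwd (nat_lit 7) (Steps.fwd (nat_lit 5120) (Steps.fwd (nat_lit 2048) (Steps.fwd (nat_lit 7168) (Steps.bwd (nat_lit 2) (Steps.bwd (nat_lit 5) (Steps.fwd (nat_lit 1024) (Steps.bwd (nat_lit 2) (Steps.fwd (nat_lit 7168) Steps.nil)))))))))) (nat_lit 59) (nat_lit 10),
  Rule.mk (nat_lit 7) (nat_lit 120) (Steps.bwd (nat_lit 5) (Steps.fwd (nat_lit 2048) (Steps.bwd (nat_lit 7) (Steps.fwd (nat_lit 2048) (Steps.fwd (nat_lit 5120) (Steps.fwd (nat_lit 1024) (Steps.fwd (nat_lit 2048) (Steps.bwd (nat_lit 7) (Steps.bwd (nat_lit 2) (Steps.bwd (nat_lit 1) Steps.nil)))))))))) (nat_lit 59) (nat_lit 1),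
  Rule.mk (nat_lit 7) (nat_lit 109) (Steps.bwd (nat_lit 4) (Steps.fwd (nat_lit 7168) (Steps.fwd (nat_lit 1024) (Steps.fwd (nat_lit 2048) (Steps.fwd (nat_lit 1024) (Steps.bwd (nat_lit 7) (Steps.fwd (nat_lit 4096) (Steps.bwd (nat_lit 7) (Steps.bwd (nat_lit 2) Steps.nil))))))))) (nat_lit 56) (nat_lit 8),
  Rule.mk (nat_lit 4) (nat_lit 87) (Steps.bwd (nat_lit 7) (Steps.fwd (nat_lit 4096) (Steps.fwd (nat_lit 7168) (Steps.fwd (nat_lit 4096) (Steps.bwd (nat_lit 7) (Steps.fwd (nat_lit 4096) (Steps.fwd (nat_lit 7168) Steps.nil))))))) (nat_lit 48) (nat_lit 1),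
  Rule.mk (nat_lit 7) (nat_lit 120) (Steps.bwd (nat_lit 2) (Steps.bwd (nat_lit 5) (Steps.fwd (nat_lit 7168) (Steps.bwd (nat_lit 1) (Steps.fwd (nat_lit 2048) (Steps.bwd (nat_lit 7) (Steps.fwd (nat_lit 2048) (Steps.fwd (nat_lit 1024) (Steps.bwd (nat_lit 5) (Steps.fwd (nat_lit 2048) Steps.nil)))))))))) (nat_lit 58) (nat_lit 8),
  Rule.mk (nat_lit 5) (nat_lit 120) (Steps.bwd (nat_lit 1) (Steps.bwd (nat_lit 2) (Steps.fwd (nat_lit 1024) (Steps.fwd (nat_lit 5120) (Steps.fwd (nat_lit 2048) (Steps.bwd (nat_lit 5) (Steps.fwd (nat_lit 6144) (Steps.bwd (nat_lit 1) (Steps.bwd (nat_lit 6) (Steps.fwd (nat_lit 2048) Steps.nil)))))))))) (nat_lit 38) (nat_lit 0),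
  Rule.mk (nat_lit 4) (nat_lit 109) (Steps.bwd (nat_lit 7) (Steps.fwd (nat_lit 1024) (Steps.bwd (nat_lit 2) (Steps.fwd (nat_lit 1024) (Steps.bwd (nat_lit 7) (Steps.bwd (nat_lit 4) (Steps.fwd (nat_lit 7168) (Steps.fwd (nat_lit 2048) (Steps.bwd (nat_lit 7) Steps.nil))))))))) (nat_lit 56) (nat_lit 9),
  Rule.mk (nat_lit 1) (nat_lit 120) (Steps.bwd (nat_lit 7) (Steps.bwd (nat_lit 5) (Steps.bwd (nat_lit 2) (Steps.bwd (nat_lit 7) (Steps.fwd (nat_lit 2048) (Steps.bwd (nat_lit 5) (Steps.bwd (nat_lit 1) (Steps.fwd (nat_lit 2048) (Steps.fwd (nat_lit 7168) (Steps.fwd (nat_lit 2048) Steps.nil)))))))))) (nat_lit 59) (nat_lit 0),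
  Rule.mk (nat_lit 2) (nat_lit 120) (Steps.bwd (nat_lit 5) (Steps.bwd (nat_lit 7) (Steps.fwd (nat_lit 1024) (Steps.bwd (nat_lit 2) (Steps.bwd (nat_lit 7) (Steps.bwd (nat_lit 2) (Steps.fwd (nat_lit 1024) (Steps.bwd (nat_lit 5) (Steps.fwd (nat_lit 2048) (Steps.fwd (nat_lit 7168) Steps.nil)))))))))) (nat_lit 58) (nat_lit 9),
  Rule.mk (nat_lit 7) (nat_lit 120) (Steps.bwd (nat_lit 1) (Steps.fwd (nat_lit 2048) (Steps.bwd (nat_lit 7) (Steps.bwd (nat_lit 2) (Steps.bwd (nat_lit 1) (Steps.bwd (nat_lit 5) (Steps.fwd (nat_lit 2048) (Steps.fwd (nat_lit 7168) (Steps.fwd (nat_lit 2048) (Steps.bwd (nat_lit 5) Steps.nil)))))))))) (nat_lit 58) (nat_lit 0),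
  Rule.mk (nat_lit 4) (nat_lit 109) (Steps.bwd (nat_lit 7) (Steps.fwd (nat_lit 1024) (Steps.bwd (nat_lit 2) (Steps.fwd (nat_lit 1024) (Steps.bwd (nat_lit 7) (Steps.bwd (nat_lit 4) (Steps.bwd (nat_lit 7) (Steps.fwd (nat_lit 2048) (Steps.fwd (nat_lit 7168) Steps.nil))))))))) (nat_lit 56) (nat_lit 9),
  Rule.mk (nat_lit 3) (nat_lit 87) (Steps.fwd (nat_lit 7168) (Steps.fwd (nat_lit 4096) (Steps.bwd (nat_lit 7) (Steps.fwd (nat_lit 3072) (Steps.fwd (nat_lit 7168) (Steps.fwd (nat_lit 4096) (Steps.bwd (nat_lit 7) Steps.nil))))))) (nat_lit 46) (nat_lit 1),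
  Rule.mk (nat_lit 7) (nat_lit 87) (Steps.bwd (nat_lit 6) (Steps.fwd (nat_lit 7168) (Steps.fwd (nat_lit 4096) (Steps.bwd (nat_lit 7) (Steps.bwd (nat_lit 6) (Steps.fwd (nat_lit 7168) (Steps.bwd (nat_lit 4) Steps.nil))))))) (nat_lit 50) (nat_lit 2),
  Rule.mk (nat_lit 7) (nat_lit 109) (Steps.bwd (nat_lit 2) (Steps.fwd (nat_lit 7168) (Steps.fwd (nat_lit 4096) (Steps.fwd (nat_lit 7168) (Steps.fwd (nat_lit 1024) (Steps.bwd (nat_lit 2) (Steps.fwd (nat_lit 1024) (Steps.bwd (nat_lit 7) (Steps.fwd (nat_lit 4096) Steps.nil))))))))) (nat_lit 56) (nat_lit 6),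
  Rule.mk (nat_lit 7) (nat_lit 87) (Steps.bwd (nat_lit 4) (Steps.fwd (nat_lit 7168) (Steps.bwd (nat_lit 3) (Steps.fwd (nat_lit 7168) (Steps.bwd (nat_lit 4) (Steps.bwd (nat_lit 7) (Steps.fwd (nat_lit 3072) Steps.nil))))))) (nat_lit 46) (nat_lit 2),
  Rule.mk (nat_lit 7) (nat_lit 87) (Steps.fwd (nat_lit 4096) (Steps.bwd (nat_lit 7) (Steps.bwd (nat_lit 4) (Steps.fwd (nat_lit 7168) (Steps.bwd (nat_lit 4) (Steps.fwd (nat_lit 7168) (Steps.bwd (nat_lit 4) Steps.nil))))))) (nat_lit 48) (nat_lit 0),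
  Rule.mk (nat_lit 0) (nat_lit 109) (Steps.bwd (nat_lit 7) (Steps.fwd (nat_lit 6144) (Steps.fwd (nat_lit 5120) (Steps.fwd (nat_lit 1024) (Steps.fwd (nat_lit 6144) (Steps.fwd (nat_lit 7168) (Steps.bwd (nat_lit 6) (Steps.fwd (nat_lit 5120) (Steps.bwd (nat_lit 6) Steps.nil))))))))) (nat_lit 53) (nat_lit 5),
  Rule.mk (nat_lit 7) (nat_lit 98) (Steps.fwd (nat_lit 6144) (Steps.bwd (nat_lit 1) (Steps.bwd (nat_lit 5) (Steps.fwd (nat_lit 6144) (Steps.bwd (nat_lit 7) (Steps.bwd (nat_lit 6) (Steps.bwd (nat_lit 5) (Steps.fwd (nat_lit 6144) Steps.nil)))))))) (nat_lit 52) (nat_lit 8),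
  Rule.mk (nat_lit 7) (nat_lit 98) (Steps.bwd (nat_lit 3) (Steps.fwd (nat_lit 7168) (Steps.bwd (nat_lit 3) (Steps.fwd (nat_lit 5120) (Steps.fwd (nat_lit 3072) (Steps.bwd (nat_lit 7) (Steps.fwd (nat_lit 3072) (Steps.bwd (nat_lit 5) Steps.nil)))))))) (nat_lit 54) (nat_lit 7),
  Rule.mk (nat_lit 7) (nat_lit 109) (Steps.bwd (nat_lit 4) (Steps.fwd (nat_lit 7168) (Steps.fwd (nat_lit 1024) (Steps.fwd (nat_lit 2048) (Steps.fwd (nat_lit 1024) (Steps.fwd (nat_lit 7168) (Steps.bwd (nat_lit 4) (Steps.bwd (nat_lit 7) (Steps.fwd (nat_lit 2048) Steps.nil))))))))) (nat_lit 56) (nat_lit 8),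
  Rule.mk (nat_lit 7) (nat_lit 120) (Steps.bwd (nat_lit 2) (Steps.bwd (nat_lit 1) (Steps.bwd (nat_lit 5) (Steps.bwd (nat_lit 2) (Steps.fwd (nat_lit 7168) (Steps.fwd (nat_lit 2048) (Steps.bwd (nat_lit 5) (Steps.bwd (nat_lit 7) (Steps.fwd (nat_lit 1024) (Steps.fwd (nat_lit 2048) Steps.nil)))))))))) (nat_lit 58) (nat_lit 3),
  Rule.mk (nat_lit 0) (nat_lit 131) (Steps.bwd (nat_lit 2) (Steps.bwd (nat_lit 5) (Steps.fwd (nat_lit 1024) (Steps.bwd (nat_lit 2) (Steps.bwd (nat_lit 7) (Steps.fwd (nat_lit 2048) (Steps.fwd (nat_lit 1024) (Steps.fwd (nat_lit 7168) (Steps.fwd (nat_lit 5120) (Steps.bwd (nat_lit 2) (Steps.fwd (nat_lit 7168) Steps.nil))))))))))) (nat_lit 59) (nat_lit 4),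
  Rule.mk (nat_lit 7) (nat_lit 120) (Steps.bwd (nat_lit 5) (Steps.bwd (nat_lit 2) (Steps.bwd (nat_lit 7) (Steps.fwd (nat_lit 2048) (Steps.fwd (nat_lit 5120) (Steps.fwd (nat_lit 1024) (Steps.bwd (nat_lit 2) (Steps.fwd (nat_lit 7168) (Steps.fwd (nat_lit 2048) (Steps.bwd (nat_lit 1) Steps.nil)))))))))) (nat_lit 59) (nat_lit 1),
  Rule.mk (nat_lit 7) (nat_lit 87) (Steps.bwd (nat_lit 4) (Steps.bwd (nat_lit 7) (Steps.bwd (nat_lit 3) (Steps.fwd (nat_lit 7168) (Steps.fwd (nat_lit 4096) (Steps.bwd (nat_lit 7) (Steps.fwd (nat_lit 3072) Steps.nil))))))) (nat_lit 46) (nat_lit 2),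
  Rule.mk (nat_lit 0) (nat_lit 109) (Steps.bwd (nat_lit 7) (Steps.bwd (nat_lit 3) (Steps.bwd (nat_lit 5) (Steps.fwd (nat_lit 3072) (Steps.bwd (nat_lit 7) (Steps.bwd (nat_lit 3) (Steps.fwd (nat_lit 7168) (Steps.fwd (nat_lit 5120) (Steps.fwd (nat_lit 3072) Steps.nil))))))))) (nat_lit 55) (nat_lit 5),
  Rule.mk (nat_lit 7) (nat_lit 120) (Steps.fwd (nat_lit 5120) (Steps.bwd (nat_lit 2) (Steps.bwd (nat_lit 7) (Steps.fwd (nat_lit 2048) (Steps.bwd (nat_lit 5) (Steps.fwd (nat_lit 1024) (Steps.bwd (nat_lit 2) (Steps.fwd (nat_lit 7168) (Steps.fwd (nat_lit 2048) (Steps.bwd (nat_lit 1) Steps.nil)))))))))) (nat_lit 59) (nat_lit 1),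
  Rule.mk (nat_lit 7) (nat_lit 120) (Steps.bwd (nat_lit 5) (Steps.bwd (nat_lit 2) (Steps.fwd (nat_lit 7168) (Steps.fwd (nat_lit 2048) (Steps.fwd (nat_lit 5120) (Steps.fwd (nat_lit 1024) (Steps.bwd (nat_lit 2) (Steps.bwd (nat_lit 7) (Steps.fwd (nat_lit 2048) (Steps.fwd (nat_lit 1024) Steps.nil)))))))))) (nat_lit 59) (nat_lit 1),
  Rule.mk (nat_lit 3) (nat_lit 98) (Steps.bwd (nat_lit 7) (Steps.fwd (nat_lit 3072) (Steps.fwd (nat_lit 5120) (Steps.fwd (nat_lit 3072) (Steps.fwd (nat_lit 7168) (Steps.bwd (nat_lit 3) (Steps.bwd (nat_lit 5) (Steps.bwd (nat_lit 7) Steps.nil)))))))) (nat_lit 54) (nat_lit 8),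
  Rule.mk (nat_lit 0) (nat_lit 131) (Steps.bwd (nat_lit 7) (Steps.bwd (nat_lit 2) (Steps.fwd (nat_lit 1024) (Steps.bwd (nat_lit 5) (Steps.fwd (nat_lit 2048) (Steps.fwd (nat_lit 7168) (Steps.bwd (nat_lit 2) (Steps.fwd (nat_lit 5120) (Steps.bwd (nat_lit 7) (Steps.bwd (nat_lit 1) (Steps.fwd (nat_lit 2048) Steps.nil))))))))))) (nat_lit 58) (nat_lit 2),
  Rule.mk (nat_lit 7) (nat_lit 120) (Steps.bwd (nat_lit 2) (Steps.fwd (nat_lit 5120) (Steps.fwd (nat_lit 7168) (Steps.bwd (nat_lit 1) (Steps.fwd (nat_lit 2048) (Steps.bwd (nat_lit 7) (Steps.bwd (nat_lit 2) (Steps.fwd (nat_lit 1024) (Steps.bwd (nat_lit 5) (Steps.fwd (nat_lit 2048) Steps.nil)))))))))) (nat_lit 58) (nat_lit 8),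
  Rule.mk (nat_lit 7) (nat_lit 98) (Steps.fwd (nat_lit 6144) (Steps.fwd (nat_lit 5120) (Steps.bwd (nat_lit 6) (Steps.fwd (nat_lit 7168) (Steps.fwd (nat_lit 6144) (Steps.fwd (nat_lit 1024) (Steps.bwd (nat_lit 5) (Steps.fwd (nat_lit 6144) Steps.nil)))))))) (nat_lit 52) (nat_lit 4),
  Rule.mk (nat_lit 7) (nat_lit 98) (Steps.bwd (nat_lit 3) (Steps.fwd (nat_lit 5120) (Steps.fwd (nat_lit 7168) (Steps.fwd (nat_lit 3072) (Steps.fwd (nat_lit 7168) (Steps.fwd (nat_lit 3072) (Steps.bwd (nat_lit 5) (Steps.fwd (nat_lit 3072) Steps.nil)))))))) (nat_lit 54) (nat_lit 4),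
  Rule.mk (nat_lit 0) (nat_lit 98) (Steps.fwd (nat_lit 3072) (Steps.bwd (nat_lit 7) (Steps.bwd (nat_lit 4) (Steps.fwd (nat_lit 7168) (Steps.bwd (nat_lit 3) (Steps.fwd (nat_lit 7168) (Steps.bwd (nat_lit 4) (Steps.bwd (nat_lit 7) Steps.nil)))))))) (nat_lit 46) (nat_lit 0),
  Rule.mk (nat_lit 0) (nat_lit 43) (Steps.fwd (nat_lit 7168) (Steps.fwd (nat_lit 0) (Steps.fwd (nat_lit 7168) Steps.nil))) (nat_lit 60) (nat_lit 0),
  Rule.mk (nat_lit 0) (nat_lit 43) (Steps.bwd (nat_lit 7) (Steps.fwd (nat_lit 0) (Steps.bwd (nat_lit 7) Steps.nil))) (nat_lit 60) (nat_lit 0),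
  Rule.mk (nat_lit 0) (nat_lit 43) (Steps.bwd (nat_lit 2) (Steps.bwd (nat_lit 0) (Steps.fwd (nat_lit 2048) Steps.nil))) (nat_lit 60) (nat_lit 0),
  Rule.mk (nat_lit 0) (nat_lit 43) (Steps.fwd (nat_lit 5120) (Steps.bwd (nat_lit 0) (Steps.bwd (nat_lit 5) Steps.nil))) (nat_lit 60) (nat_lit 0),
  Rule.mk (nat_lit 0) (nat_lit 43) (Steps.fwd (nat_lit 6144) (Steps.bwd (nat_lit 0) (Steps.fwd (nat_lit 6144) Steps.nil))) (nat_lit 60) (nat_lit 0),
  Rule.mk (nat_lit 0) (nat_lit 43) (Steps.fwd (nat_lit 1024) (Steps.fwd (nat_lit 0) (Steps.bwd (nat_lit 1) Steps.nil))) (nat_lit 60) (nat_lit 0),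
  Rule.mk (nat_lit 0) (nat_lit 54) (Steps.bwd (nat_lit 2) (Steps.bwd (nat_lit 0) (Steps.fwd (nat_lit 2048) (Steps.fwd (nat_lit 0) Steps.nil)))) (nat_lit 60) (nat_lit 0),
  Rule.mk (nat_lit 0) (nat_lit 43) (Steps.bwd (nat_lit 6) (Steps.bwd (nat_lit 0) (Steps.fwd (nat_lit 6144) Steps.nil))) (nat_lit 60) (nat_lit 0),
  Rule.mk (nat_lit 0) (nat_lit 54) (Steps.bwd (nat_lit 3) (Steps.bwd (nat_lit 0) (Steps.bwd (nat_lit 3) (Steps.fwd (nat_lit 0) Steps.nil)))) (nat_lit 60) (nat_lit 0),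
  Rule.mk (nat_lit 0) (nat_lit 43) (Steps.bwd (nat_lit 5) (Steps.fwd (nat_lit 0) (Steps.fwd (nat_lit 5120) Steps.nil))) (nat_lit 60) (nat_lit 0),
  Rule.mk (nat_lit 7) (nat_lit 32) (Steps.bwd (nat_lit 0) (Steps.fwd (nat_lit 7168) Steps.nil)) (nat_lit 60) (nat_lit 0)]
noncomputable def R_7 : List (Rule) := [Rule.mk (nat_lit 2) (nat_lit 32) (Steps.bwd (nat_lit 0) (Steps.fwd (nat_lit 2048) Steps.nil)) (nat_lit 60) (nat_lit 0),
  Rule.mk (nat_lit 0) (nat_lit 43) (Steps.bwd (nat_lit 7) (Steps.fwd (nat_lit 0) (Steps.fwd (nat_lit 7168) Steps.nil))) (nat_lit 60) (nat_lit 0),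
  Rule.mk (nat_lit 0) (nat_lit 54) (Steps.bwd (nat_lit 1) (Steps.bwd (nat_lit 0) (Steps.bwd (nat_lit 1) (Steps.fwd (nat_lit 0) Steps.nil)))) (nat_lit 60) (nat_lit 0),
  Rule.mk (nat_lit 5) (nat_lit 43) (Steps.bwd (nat_lit 0) (Steps.fwd (nat_lit 5120) (Steps.fwd (nat_lit 0) Steps.nil))) (nat_lit 60) (nat_lit 0),
  Rule.mk (nat_lit 0) (nat_lit 43) (Steps.fwd (nat_lit 2048) (Steps.bwd (nat_lit 0) (Steps.fwd (nat_lit 2048) Steps.nil))) (nat_lit 60) (nat_lit 0),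
  Rule.mk (nat_lit 6) (nat_lit 87) (Steps.bwd (nat_lit 7) (Steps.fwd (nat_lit 4096) (Steps.bwd (nat_lit 7) (Steps.fwd (nat_lit 6144) (Steps.bwd (nat_lit 7) (Steps.fwd (nat_lit 4096) (Steps.fwd (nat_lit 7168) Steps.nil))))))) (nat_lit 50) (nat_lit 3),
  Rule.mk (nat_lit 7) (nat_lit 98) (Steps.bwd (nat_lit 3) (Steps.bwd (nat_lit 5) (Steps.bwd (nat_lit 7) (Steps.fwd (nat_lit 3072) (Steps.bwd (nat_lit 7) (Steps.fwd (nat_lit 3072) (Steps.bwd (nat_lit 5) (Steps.fwd (nat_lit 3072) Steps.nil)))))))) (nat_lit 54) (nat_lit 4),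
  Rule.mk (nat_lit 2) (nat_lit 109) (Steps.bwd (nat_lit 1) (Steps.bwd (nat_lit 7) (Steps.fwd (nat_lit 4096) (Steps.bwd (nat_lit 7) (Steps.bwd (nat_lit 2) (Steps.fwd (nat_lit 7168) (Steps.bwd (nat_lit 4) (Steps.fwd (nat_lit 7168) (Steps.fwd (nat_lit 1024) Steps.nil))))))))) (nat_lit 56) (nat_lit 2),
  Rule.mk (nat_lit 3) (nat_lit 87) (Steps.bwd (nat_lit 7) (Steps.fwd (nat_lit 4096) (Steps.fwd (nat_lit 7168) (Steps.bwd (nat_lit 3) (Steps.fwd (nat_lit 7168) (Steps.bwd (nat_lit 4) (Steps.fwd (nat_lit 7168) Steps.nil))))))) (nat_lit 46) (nat_lit 1),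
  Rule.mk (nat_lit 7) (nat_lit 98) (Steps.bwd (nat_lit 3) (Steps.bwd (nat_lit 5) (Steps.fwd (nat_lit 7168) (Steps.bwd (nat_lit 3) (Steps.bwd (nat_lit 7) (Steps.fwd (nat_lit 3072) (Steps.fwd (nat_lit 5120) (Steps.fwd (nat_lit 3072) Steps.nil)))))))) (nat_lit 54) (nat_lit 4),
  Rule.mk (nat_lit 7) (nat_lit 98) (Steps.bwd (nat_lit 3) (Steps.bwd (nat_lit 5) (Steps.fwd (nat_lit 3072) (Steps.fwd (nat_lit 7168) (Steps.bwd (nat_lit 3) (Steps.fwd (nat_lit 5120) (Steps.fwd (nat_lit 7168) (Steps.fwd (nat_lit 3072) Steps.nil)))))))) (nat_lit 54) (nat_lit 0),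
  Rule.mk (nat_lit 4) (nat_lit 87) (Steps.bwd (nat_lit 7) (Steps.fwd (nat_lit 3072) (Steps.bwd (nat_lit 7) (Steps.fwd (nat_lit 4096) (Steps.fwd (nat_lit 7168) (Steps.bwd (nat_lit 3) (Steps.bwd (nat_lit 7) Steps.nil))))))) (nat_lit 46) (nat_lit 3),
  Rule.mk (nat_lit 7) (nat_lit 87) (Steps.fwd (nat_lit 4096) (Steps.bwd (nat_lit 7) (Steps.fwd (nat_lit 4096) (Steps.fwd (nat_lit 7168) (Steps.bwd (nat_lit 4) (Steps.fwd (nat_lit 7168) (Steps.bwd (nat_lit 4) Steps.nil))))))) (nat_lit 48) (nat_lit 0),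
  Rule.mk (nat_lit 7) (nat_lit 87) (Steps.bwd (nat_lit 6) (Steps.fwd (nat_lit 7168) (Steps.bwd (nat_lit 4) (Steps.fwd (nat_lit 7168) (Steps.bwd (nat_lit 6) (Steps.bwd (nat_lit 7) (Steps.fwd (nat_lit 4096) Steps.nil))))))) (nat_lit 50) (nat_lit 2),
  Rule.mk (nat_lit 0) (nat_lit 109) (Steps.fwd (nat_lit 7168) (Steps.fwd (nat_lit 6144) (Steps.fwd (nat_lit 5120) (Steps.bwd (nat_lit 6) (Steps.fwd (nat_lit 7168) (Steps.fwd (nat_lit 6144) (Steps.fwd (nat_lit 1024) (Steps.fwd (nat_lit 5120) (Steps.fwd (nat_lit 6144) Steps.nil))))))))) (nat_lit 52) (nat_lit 3),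
  Rule.mk (nat_lit 0) (nat_lit 43) (Steps.bwd (nat_lit 4) (Steps.fwd (nat_lit 0) (Steps.bwd (nat_lit 4) Steps.nil))) (nat_lit 60) (nat_lit 0),
  Rule.mk (nat_lit 7) (nat_lit 87) (Steps.fwd (nat_lit 3072) (Steps.bwd (nat_lit 7) (Steps.bwd (nat_lit 4) (Steps.fwd (nat_lit 7168) (Steps.bwd (nat_lit 3) (Steps.fwd (nat_lit 7168) (Steps.bwd (nat_lit 4) Steps.nil))))))) (nat_lit 46) (nat_lit 0),
  Rule.mk (nat_lit 7) (nat_lit 87) (Steps.fwd (nat_lit 4096) (Steps.fwd (nat_lit 7168) (Steps.bwd (nat_lit 4) (Steps.fwd (nat_lit 7168) (Steps.fwd (nat_lit 4096) (Steps.bwd (nat_lit 7) (Steps.bwd (nat_lit 4) Steps.nil))))))) (nat_lit 48) (nat_lit 0),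
  Rule.mk (nat_lit 7) (nat_lit 87) (Steps.bwd (nat_lit 4) (Steps.bwd (nat_lit 7) (Steps.bwd (nat_lit 6) (Steps.fwd (nat_lit 7168) (Steps.fwd (nat_lit 4096) (Steps.bwd (nat_lit 7) (Steps.bwd (nat_lit 6) Steps.nil))))))) (nat_lit 50) (nat_lit 0),
  Rule.mk (nat_lit 7) (nat_lit 98) (Steps.fwd (nat_lit 6144) (Steps.fwd (nat_lit 5120) (Steps.bwd (nat_lit 6) (Steps.fwd (nat_lit 7168) (Steps.fwd (nat_lit 6144) (Steps.bwd (nat_lit 1) (Steps.fwd (nat_lit 5120) (Steps.fwd (nat_lit 6144) Steps.nil)))))))) (nat_lit 52) (nat_lit 4),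
  Rule.mk (nat_lit 7) (nat_lit 109) (Steps.fwd (nat_lit 2048) (Steps.fwd (nat_lit 7168) (Steps.fwd (nat_lit 4096) (Steps.bwd (nat_lit 7) (Steps.bwd (nat_lit 1) (Steps.bwd (nat_lit 2) (Steps.fwd (nat_lit 1024) (Steps.fwd (nat_lit 7168) (Steps.fwd (nat_lit 4096) Steps.nil))))))))) (nat_lit 56) (nat_lit 6),
  Rule.mk (nat_lit 7) (nat_lit 120) (Steps.bwd (nat_lit 1) (Steps.fwd (nat_lit 2048) (Steps.fwd (nat_lit 7168) (Steps.bwd (nat_lit 2) (Steps.fwd (nat_lit 1024) (Steps.bwd (nat_lit 5) (Steps.bwd (nat_lit 2) (Steps.fwd (nat_lit 7168) (Steps.fwd (nat_lit 2048) (Steps.fwd (nat_lit 5120) Steps.nil)))))))))) (nat_lit 58) (nat_lit 0),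
  Rule.mk (nat_lit 7) (nat_lit 87) (Steps.bwd (nat_lit 4) (Steps.fwd (nat_lit 7168) (Steps.bwd (nat_lit 4) (Steps.fwd (nat_lit 7168) (Steps.fwd (nat_lit 4096) (Steps.bwd (nat_lit 7) (Steps.fwd (nat_lit 4096) Steps.nil))))))) (nat_lit 48) (nat_lit 0),
  Rule.mk (nat_lit 7) (nat_lit 98) (Steps.fwd (nat_lit 6144) (Steps.bwd (nat_lit 5) (Steps.fwd (nat_lit 6144) (Steps.fwd (nat_lit 7168) (Steps.bwd (nat_lit 6) (Steps.bwd (nat_lit 1) (Steps.fwd (nat_lit 5120) (Steps.bwd (nat_lit 6) Steps.nil)))))))) (nat_lit 52) (nat_lit 4),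
  Rule.mk (nat_lit 7) (nat_lit 109) (Steps.bwd (nat_lit 4) (Steps.fwd (nat_lit 7168) (Steps.fwd (nat_lit 2048) (Steps.fwd (nat_lit 7168) (Steps.fwd (nat_lit 4096) (Steps.bwd (nat_lit 7) (Steps.fwd (nat_lit 1024) (Steps.bwd (nat_lit 2) (Steps.fwd (nat_lit 1024) Steps.nil))))))))) (nat_lit 56) (nat_lit 4),
  Rule.mk (nat_lit 7) (nat_lit 87) (Steps.bwd (nat_lit 4) (Steps.bwd (nat_lit 7) (Steps.fwd (nat_lit 4096) (Steps.fwd (nat_lit 7168) (Steps.bwd (nat_lit 4) (Steps.fwd (nat_lit 7168) (Steps.fwd (nat_lit 4096) Steps.nil))))))) (nat_lit 48) (nat_lit 0),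
  Rule.mk (nat_lit 0) (nat_lit 109) (Steps.bwd (nat_lit 7) (Steps.fwd (nat_lit 3072) (Steps.fwd (nat_lit 7168) (Steps.bwd (nat_lit 3) (Steps.bwd (nat_lit 5) (Steps.fwd (nat_lit 3072) (Steps.bwd (nat_lit 7) (Steps.bwd (nat_lit 3) (Steps.fwd (nat_lit 5120) Steps.nil))))))))) (nat_lit 54) (nat_lit 6),
  Rule.mk (nat_lit 7) (nat_lit 98) (Steps.fwd (nat_lit 3072) (Steps.fwd (nat_lit 5120) (Steps.bwd (nat_lit 3) (Steps.bwd (nat_lit 7) (Steps.bwd (nat_lit 3) (Steps.fwd (nat_lit 5120) (Steps.bwd (nat_lit 7) (Steps.fwd (nat_lit 3072) Steps.nil)))))))) (nat_lit 54) (nat_lit 0),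
  Rule.mk (nat_lit 7) (nat_lit 120) (Steps.fwd (nat_lit 2048) (Steps.fwd (nat_lit 1024) (Steps.fwd (nat_lit 5120) (Steps.bwd (nat_lit 2) (Steps.bwd (nat_lit 7) (Steps.bwd (nat_lit 2) (Steps.bwd (nat_lit 5) (Steps.fwd (nat_lit 7168) (Steps.bwd (nat_lit 1) (Steps.fwd (nat_lit 2048) Steps.nil)))))))))) (nat_lit 58) (nat_lit 3),
  Rule.mk (nat_lit 1) (nat_lit 120) (Steps.fwd (nat_lit 7168) (Steps.bwd (nat_lit 5) (Steps.bwd (nat_lit 2) (Steps.bwd (nat_lit 7) (Steps.fwd (nat_lit 2048) (Steps.fwd (nat_lit 5120) (Steps.fwd (nat_lit 1024) (Steps.fwd (nat_lit 2048) (Steps.bwd (nat_lit 7) (Steps.bwd (nat_lit 2) Steps.nil)))))))))) (nat_lit 59) (nat_lit 0),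
  Rule.mk (nat_lit 4) (nat_lit 109) (Steps.fwd (nat_lit 7168) (Steps.bwd (nat_lit 2) (Steps.fwd (nat_lit 7168) (Steps.fwd (nat_lit 4096) (Steps.fwd (nat_lit 7168) (Steps.fwd (nat_lit 1024) (Steps.fwd (nat_lit 2048) (Steps.bwd (nat_lit 1) (Steps.bwd (nat_lit 7) Steps.nil))))))))) (nat_lit 56) (nat_lit 5),
  Rule.mk (nat_lit 7) (nat_lit 98) (Steps.fwd (nat_lit 6144) (Steps.fwd (nat_lit 1024) (Steps.fwd (nat_lit 5120) (Steps.fwd (nat_lit 6144) (Steps.bwd (nat_lit 7) (Steps.bwd (nat_lit 6) (Steps.bwd (nat_lit 5) (Steps.bwd (nat_lit 6) Steps.nil)))))))) (nat_lit 52) (nat_lit 8),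
  Rule.mk (nat_lit 6) (nat_lit 87) (Steps.bwd (nat_lit 7) (Steps.fwd (nat_lit 4096) (Steps.fwd (nat_lit 7168) (Steps.bwd (nat_lit 6) (Steps.bwd (nat_lit 7) (Steps.bwd (nat_lit 4) (Steps.fwd (nat_lit 7168) Steps.nil))))))) (nat_lit 50) (nat_lit 3),
  Rule.mk (nat_lit 1) (nat_lit 54) (Steps.bwd (nat_lit 4) (Steps.bwd (nat_lit 6) (Steps.fwd (nat_lit 4096) (Steps.fwd (nat_lit 6144) Steps.nil)))) (nat_lit 32) (nat_lit 1),
  Rule.mk (nat_lit 7) (nat_lit 87) (Steps.bwd (nat_lit 6) (Steps.fwd (nat_lit 7168) (Steps.bwd (nat_lit 4) (Steps.fwd (nat_lit 7168) (Steps.bwd (nat_lit 6) (Steps.fwd (nat_lit 7168) (Steps.fwd (nat_lit 4096) Steps.nil))))))) (nat_lit 50) (nat_lit 2),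
  Rule.mk (nat_lit 5) (nat_lit 98) (Steps.bwd (nat_lit 6) (Steps.fwd (nat_lit 7168) (Steps.bwd (nat_lit 6) (Steps.fwd (nat_lit 1024) (Steps.fwd (nat_lit 5120) (Steps.fwd (nat_lit 6144) (Steps.fwd (nat_lit 7168) (Steps.bwd (nat_lit 6) Steps.nil)))))))) (nat_lit 52) (nat_lit 6),
  Rule.mk (nat_lit 5) (nat_lit 98) (Steps.fwd (nat_lit 6144) (Steps.fwd (nat_lit 7168) (Steps.bwd (nat_lit 6) (Steps.bwd (nat_lit 1) (Steps.fwd (nat_lit 5120) (Steps.fwd (nat_lit 6144) (Steps.bwd (nat_lit 7) (Steps.bwd (nat_lit 6) Steps.nil)))))))) (nat_lit 52) (nat_lit 6),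
  Rule.mk (nat_lit 7) (nat_lit 87) (Steps.bwd (nat_lit 4) (Steps.fwd (nat_lit 7168) (Steps.bwd (nat_lit 3) (Steps.fwd (nat_lit 7168) (Steps.bwd (nat_lit 4) (Steps.fwd (nat_lit 7168) (Steps.bwd (nat_lit 3) Steps.nil))))))) (nat_lit 46) (nat_lit 2),
  Rule.mk (nat_lit 7) (nat_lit 87) (Steps.bwd (nat_lit 6) (Steps.fwd (nat_lit 7168) (Steps.bwd (nat_lit 4) (Steps.fwd (nat_lit 7168) (Steps.fwd (nat_lit 6144) (Steps.fwd (nat_lit 7168) (Steps.bwd (nat_lit 4) Steps.nil))))))) (nat_lit 50) (nat_lit 2),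
  Rule.mk (nat_lit 2) (nat_lit 109) (Steps.fwd (nat_lit 7168) (Steps.fwd (nat_lit 4096) (Steps.bwd (nat_lit 7) (Steps.fwd (nat_lit 1024) (Steps.fwd (nat_lit 2048) (Steps.bwd (nat_lit 1) (Steps.fwd (nat_lit 7168) (Steps.bwd (nat_lit 4) (Steps.bwd (nat_lit 7) Steps.nil))))))))) (nat_lit 56) (nat_lit 7),
  Rule.mk (nat_lit 7) (nat_lit 87) (Steps.bwd (nat_lit 6) (Steps.bwd (nat_lit 7) (Steps.bwd (nat_lit 4) (Steps.bwd (nat_lit 7) (Steps.fwd (nat_lit 6144) (Steps.bwd (nat_lit 7) (Steps.fwd (nat_lit 4096) Steps.nil))))))) (nat_lit 50) (nat_lit 2),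
  Rule.mk (nat_lit 5) (nat_lit 98) (Steps.bwd (nat_lit 6) (Steps.bwd (nat_lit 7) (Steps.bwd (nat_lit 6) (Steps.fwd (nat_lit 5120) (Steps.bwd (nat_lit 6) (Steps.bwd (nat_lit 7) (Steps.fwd (nat_lit 6144) (Steps.fwd (nat_lit 1024) Steps.nil)))))))) (nat_lit 52) (nat_lit 2),
  Rule.mk (nat_lit 5) (nat_lit 98) (Steps.bwd (nat_lit 6) (Steps.bwd (nat_lit 7) (Steps.bwd (nat_lit 6) (Steps.bwd (nat_lit 1) (Steps.fwd (nat_lit 5120) (Steps.bwd (nat_lit 6) (Steps.bwd (nat_lit 7) (Steps.fwd (nat_lit 6144) Steps.nil)))))))) (nat_lit 52) (nat_lit 6),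
  Rule.mk (nat_lit 3) (nat_lit 87) (Steps.bwd (nat_lit 7) (Steps.fwd (nat_lit 4096) (Steps.fwd (nat_lit 7168) (Steps.fwd (nat_lit 3072) (Steps.bwd (nat_lit 7) (Steps.bwd (nat_lit 4) (Steps.fwd (nat_lit 7168) Steps.nil))))))) (nat_lit 46) (nat_lit 1),
  Rule.mk (nat_lit 6) (nat_lit 87) (Steps.bwd (nat_lit 7) (Steps.fwd (nat_lit 4096) (Steps.fwd (nat_lit 7168) (Steps.bwd (nat_lit 6) (Steps.bwd (nat_lit 7) (Steps.fwd (nat_lit 4096) (Steps.bwd (nat_lit 7) Steps.nil))))))) (nat_lit 50) (nat_lit 3),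
  Rule.mk (nat_lit 5) (nat_lit 98) (Steps.fwd (nat_lit 3072) (Steps.bwd (nat_lit 7) (Steps.fwd (nat_lit 3072) (Steps.fwd (nat_lit 5120) (Steps.fwd (nat_lit 3072) (Steps.fwd (nat_lit 7168) (Steps.bwd (nat_lit 3) (Steps.bwd (nat_lit 7) Steps.nil)))))))) (nat_lit 55) (nat_lit 4),
  Rule.mk (nat_lit 2) (nat_lit 109) (Steps.bwd (nat_lit 7) (Steps.fwd (nat_lit 4096) (Steps.fwd (nat_lit 7168) (Steps.bwd (nat_lit 1) (Steps.fwd (nat_lit 2048) (Steps.bwd (nat_lit 1) (Steps.bwd (nat_lit 7) (Steps.fwd (nat_lit 4096) (Steps.bwd (nat_lit 7) Steps.nil))))))))) (nat_lit 56) (nat_lit 7),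
  Rule.mk (nat_lit 1) (nat_lit 109) (Steps.fwd (nat_lit 7168) (Steps.bwd (nat_lit 4) (Steps.fwd (nat_lit 7168) (Steps.fwd (nat_lit 2048) (Steps.bwd (nat_lit 7) (Steps.fwd (nat_lit 4096) (Steps.bwd (nat_lit 7) (Steps.fwd (nat_lit 1024) (Steps.bwd (nat_lit 2) Steps.nil))))))))) (nat_lit 56) (nat_lit 3),
  Rule.mk (nat_lit 1) (nat_lit 65) (Steps.bwd (nat_lit 2) (Steps.fwd (nat_lit 1024) (Steps.bwd (nat_lit 2) (Steps.bwd (nat_lit 1) (Steps.fwd (nat_lit 2048) Steps.nil))))) (nat_lit 6) (nat_lit 1),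
  Rule.mk (nat_lit 4) (nat_lit 98) (Steps.bwd (nat_lit 2) (Steps.fwd (nat_lit 4096) (Steps.fwd (nat_lit 1024) (Steps.fwd (nat_lit 2048) (Steps.bwd (nat_lit 1) (Steps.fwd (nat_lit 4096) (Steps.fwd (nat_lit 2048) (Steps.fwd (nat_lit 1024) Steps.nil)))))))) (nat_lit 16) (nat_lit 7),
  Rule.mk (nat_lit 3) (nat_lit 65) (Steps.fwd (nat_lit 4096) (Steps.fwd (nat_lit 3072) (Steps.fwd (nat_lit 4096) (Steps.bwd (nat_lit 3) (Steps.bwd (nat_lit 4) Steps.nil))))) (nat_lit 14) (nat_lit 1),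
  Rule.mk (nat_lit 4) (nat_lit 54) (Steps.bwd (nat_lit 1) (Steps.bwd (nat_lit 6) (Steps.bwd (nat_lit 4) (Steps.bwd (nat_lit 6) Steps.nil)))) (nat_lit 33) (nat_lit 4),
  Rule.mk (nat_lit 7) (nat_lit 87) (Steps.bwd (nat_lit 4) (Steps.bwd (nat_lit 7) (Steps.fwd (nat_lit 4096) (Steps.bwd (nat_lit 7) (Steps.bwd (nat_lit 4) (Steps.fwd (nat_lit 7168) (Steps.bwd (nat_lit 4) Steps.nil))))))) (nat_lit 48) (nat_lit 0),
  Rule.mk (nat_lit 7) (nat_lit 109) (Steps.bwd (nat_lit 2) (Steps.bwd (nat_lit 7) (Steps.fwd (nat_lit 4096) (Steps.fwd (nat_lit 7168) (Steps.fwd (nat_lit 1024) (Steps.fwd (nat_lit 2048) (Steps.bwd (nat_lit 1) (Steps.fwd (nat_lit 7168) (Steps.bwd (nat_lit 4) Steps.nil))))))))) (nat_lit 56) (nat_lit 6),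
  Rule.mk (nat_lit 6) (nat_lit 98) (Steps.bwd (nat_lit 5) (Steps.bwd (nat_lit 2) (Steps.bwd (nat_lit 6) (Steps.fwd (nat_lit 5120) (Steps.bwd (nat_lit 2) (Steps.fwd (nat_lit 6144) (Steps.fwd (nat_lit 5120) (Steps.bwd (nat_lit 2) Steps.nil)))))))) (nat_lit 37) (nat_lit 1),
  Rule.mk (nat_lit 7) (nat_lit 98) (Steps.bwd (nat_lit 5) (Steps.fwd (nat_lit 3072) (Steps.fwd (nat_lit 7168) (Steps.bwd (nat_lit 3) (Steps.fwd (nat_lit 5120) (Steps.fwd (nat_lit 3072) (Steps.fwd (nat_lit 7168) (Steps.fwd (nat_lit 3072) Steps.nil)))))))) (nat_lit 55) (nat_lit 3),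
  Rule.mk (nat_lit 4) (nat_lit 153) (Steps.bwd (nat_lit 3) (Steps.fwd (nat_lit 1024) (Steps.fwd (nat_lit 2048) (Steps.fwd (nat_lit 4096) (Steps.fwd (nat_lit 2048) (Steps.fwd (nat_lit 6144) (Steps.bwd (nat_lit 3) (Steps.fwd (nat_lit 5120) (Steps.fwd (nat_lit 6144) (Steps.bwd (nat_lit 5) (Steps.fwd (nat_lit 3072) (Steps.fwd (nat_lit 6144) (Steps.fwd (nat_lit 2048) Steps.nil))))))))))))) (nat_lit 42) (nat_lit 13),
  Rule.mk (nat_lit 1) (nat_lit 65) (Steps.bwd (nat_lit 2) (Steps.bwd (nat_lit 3) (Steps.fwd (nat_lit 1024) (Steps.bwd (nat_lit 2) (Steps.fwd (nat_lit 3072) Steps.nil))))) (nat_lit 8) (nat_lit 1),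
  Rule.mk (nat_lit 7) (nat_lit 109) (Steps.bwd (nat_lit 2) (Steps.fwd (nat_lit 7168) (Steps.bwd (nat_lit 4) (Steps.bwd (nat_lit 7) (Steps.bwd (nat_lit 1) (Steps.fwd (nat_lit 2048) (Steps.bwd (nat_lit 1) (Steps.fwd (nat_lit 7168) (Steps.bwd (nat_lit 4) Steps.nil))))))))) (nat_lit 56) (nat_lit 6),
  Rule.mk (nat_lit 4) (nat_lit 109) (Steps.fwd (nat_lit 7168) (Steps.bwd (nat_lit 1) (Steps.bwd (nat_lit 2) (Steps.fwd (nat_lit 1024) (Steps.bwd (nat_lit 7) (Steps.bwd (nat_lit 4) (Steps.bwd (nat_lit 7) (Steps.fwd (nat_lit 2048) (Steps.fwd (nat_lit 7168) Steps.nil))))))))) (nat_lit 56) (nat_lit 9),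
  Rule.mk (nat_lit 3) (nat_lit 65) (Steps.bwd (nat_lit 2) (Steps.bwd (nat_lit 1) (Steps.bwd (nat_lit 3) (Steps.bwd (nat_lit 2) (Steps.fwd (nat_lit 1024) Steps.nil))))) (nat_lit 9) (nat_lit 1),
  Rule.mk (nat_lit 4) (nat_lit 98) (Steps.bwd (nat_lit 2) (Steps.fwd (nat_lit 4096) (Steps.bwd (nat_lit 1) (Steps.fwd (nat_lit 2048) (Steps.fwd (nat_lit 1024) (Steps.fwd (nat_lit 4096) (Steps.bwd (nat_lit 2) (Steps.bwd (nat_lit 1) Steps.nil)))))))) (nat_lit 16) (nat_lit 7),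
  Rule.mk (nat_lit 3) (nat_lit 65) (Steps.bwd (nat_lit 1) (Steps.bwd (nat_lit 2) (Steps.fwd (nat_lit 3072) (Steps.bwd (nat_lit 1) (Steps.fwd (nat_lit 2048) Steps.nil))))) (nat_lit 8) (nat_lit 0),
  Rule.mk (nat_lit 7) (nat_lit 109) (Steps.fwd (nat_lit 4096) (Steps.bwd (nat_lit 7) (Steps.fwd (nat_lit 2048) (Steps.fwd (nat_lit 7168) (Steps.bwd (nat_lit 4) (Steps.bwd (nat_lit 7) (Steps.fwd (nat_lit 1024) (Steps.bwd (nat_lit 2) (Steps.bwd (nat_lit 1) Steps.nil))))))))) (nat_lit 56) (nat_lit 4)]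
noncomputable def R_8 : List (Rule) := [Rule.mk (nat_lit 6) (nat_lit 120) (Steps.bwd (nat_lit 1) (Steps.fwd (nat_lit 6144) (Steps.bwd (nat_lit 2) (Steps.fwd (nat_lit 5120) (Steps.bwd (nat_lit 1) (Steps.fwd (nat_lit 2048) (Steps.fwd (nat_lit 1024) (Steps.bwd (nat_lit 5) (Steps.fwd (nat_lit 2048) (Steps.bwd (nat_lit 5) Steps.nil)))))))))) (nat_lit 38) (nat_lit 7),
  Rule.mk (nat_lit 3) (nat_lit 65) (Steps.fwd (nat_lit 1024) (Steps.bwd (nat_lit 2) (Steps.fwd (nat_lit 3072) (Steps.bwd (nat_lit 1) (Steps.fwd (nat_lit 2048) Steps.nil))))) (nat_lit 8) (nat_lit 0),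
  Rule.mk (nat_lit 7) (nat_lit 98) (Steps.fwd (nat_lit 3072) (Steps.bwd (nat_lit 5) (Steps.fwd (nat_lit 3072) (Steps.bwd (nat_lit 7) (Steps.fwd (nat_lit 3072) (Steps.fwd (nat_lit 5120) (Steps.fwd (nat_lit 7168) (Steps.bwd (nat_lit 3) Steps.nil)))))))) (nat_lit 54) (nat_lit 0),
  Rule.mk (nat_lit 2) (nat_lit 120) (Steps.fwd (nat_lit 1024) (Steps.bwd (nat_lit 5) (Steps.bwd (nat_lit 2) (Steps.fwd (nat_lit 5120) (Steps.fwd (nat_lit 6144) (Steps.bwd (nat_lit 1) (Steps.bwd (nat_lit 6) (Steps.fwd (nat_lit 2048) (Steps.fwd (nat_lit 5120) (Steps.fwd (nat_lit 1024) Steps.nil)))))))))) (nat_lit 38) (nat_lit 2),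
  Rule.mk (nat_lit 4) (nat_lit 153) (Steps.fwd (nat_lit 2048) (Steps.fwd (nat_lit 3072) (Steps.bwd (nat_lit 5) (Steps.fwd (nat_lit 3072) (Steps.fwd (nat_lit 1024) (Steps.fwd (nat_lit 2048) (Steps.bwd (nat_lit 4) (Steps.bwd (nat_lit 3) (Steps.fwd (nat_lit 2048) (Steps.bwd (nat_lit 5) (Steps.fwd (nat_lit 2048) (Steps.bwd (nat_lit 3) (Steps.fwd (nat_lit 2048) Steps.nil))))))))))))) (nat_lit 26) (nat_lit 10),
  Rule.mk (nat_lit 7) (nat_lit 87) (Steps.bwd (nat_lit 4) (Steps.fwd (nat_lit 7168) (Steps.fwd (nat_lit 4096) (Steps.fwd (nat_lit 7168) (Steps.bwd (nat_lit 4) (Steps.bwd (nat_lit 7) (Steps.fwd (nat_lit 4096) Steps.nil))))))) (nat_lit 48) (nat_lit 0),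
  Rule.mk (nat_lit 5) (nat_lit 142) (Steps.bwd (nat_lit 4) (Steps.bwd (nat_lit 3) (Steps.fwd (nat_lit 6144) (Steps.fwd (nat_lit 3072) (Steps.bwd (nat_lit 4) (Steps.bwd (nat_lit 2) (Steps.bwd (nat_lit 6) (Steps.fwd (nat_lit 1024) (Steps.fwd (nat_lit 2048) (Steps.fwd (nat_lit 1024) (Steps.fwd (nat_lit 5120) (Steps.bwd (nat_lit 6) Steps.nil)))))))))))) (nat_lit 40) (nat_lit 6),
  Rule.mk (nat_lit 4) (nat_lit 87) (Steps.bwd (nat_lit 7) (Steps.bwd (nat_lit 4) (Steps.bwd (nat_lit 7) (Steps.bwd (nat_lit 4) (Steps.fwd (nat_lit 7168) (Steps.bwd (nat_lit 4) (Steps.fwd (nat_lit 7168) Steps.nil))))))) (nat_lit 48) (nat_lit 1),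
  Rule.mk (nat_lit 1) (nat_lit 120) (Steps.fwd (nat_lit 2048) (Steps.bwd (nat_lit 7) (Steps.fwd (nat_lit 2048) (Steps.fwd (nat_lit 1024) (Steps.fwd (nat_lit 5120) (Steps.fwd (nat_lit 2048) (Steps.fwd (nat_lit 7168) (Steps.bwd (nat_lit 2) (Steps.bwd (nat_lit 5) (Steps.fwd (nat_lit 7168) Steps.nil)))))))))) (nat_lit 58) (nat_lit 1),
  Rule.mk (nat_lit 7) (nat_lit 98) (Steps.bwd (nat_lit 5) (Steps.fwd (nat_lit 3072) (Steps.bwd (nat_lit 7) (Steps.fwd (nat_lit 3072) (Steps.fwd (nat_lit 5120) (Steps.fwd (nat_lit 3072) (Steps.fwd (nat_lit 7168) (Steps.bwd (nat_lit 3) Steps.nil)))))))) (nat_lit 55) (nat_lit 3),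
  Rule.mk (nat_lit 7) (nat_lit 87) (Steps.bwd (nat_lit 4) (Steps.fwd (nat_lit 7168) (Steps.fwd (nat_lit 3072) (Steps.fwd (nat_lit 7168) (Steps.bwd (nat_lit 4) (Steps.bwd (nat_lit 7) (Steps.bwd (nat_lit 3) Steps.nil))))))) (nat_lit 46) (nat_lit 2),
  Rule.mk (nat_lit 6) (nat_lit 98) (Steps.fwd (nat_lit 5120) (Steps.fwd (nat_lit 6144) (Steps.fwd (nat_lit 7168) (Steps.bwd (nat_lit 6) (Steps.fwd (nat_lit 1024) (Steps.fwd (nat_lit 5120) (Steps.bwd (nat_lit 6) (Steps.bwd (nat_lit 7) Steps.nil)))))))) (nat_lit 52) (nat_lit 5),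
  Rule.mk (nat_lit 3) (nat_lit 98) (Steps.fwd (nat_lit 5120) (Steps.fwd (nat_lit 3072) (Steps.fwd (nat_lit 7168) (Steps.bwd (nat_lit 3) (Steps.bwd (nat_lit 5) (Steps.bwd (nat_lit 7) (Steps.bwd (nat_lit 3) (Steps.bwd (nat_lit 7) Steps.nil)))))))) (nat_lit 54) (nat_lit 1),
  Rule.mk (nat_lit 2) (nat_lit 120) (Steps.fwd (nat_lit 5120) (Steps.bwd (nat_lit 7) (Steps.fwd (nat_lit 1024) (Steps.fwd (nat_lit 2048) (Steps.bwd (nat_lit 7) (Steps.bwd (nat_lit 2) (Steps.bwd (nat_lit 1) (Steps.fwd (nat_lit 5120) (Steps.fwd (nat_lit 2048) (Steps.bwd (nat_lit 7) Steps.nil)))))))))) (nat_lit 58) (nat_lit 9),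
  Rule.mk (nat_lit 1) (nat_lit 120) (Steps.fwd (nat_lit 5120) (Steps.bwd (nat_lit 2) (Steps.bwd (nat_lit 7) (Steps.fwd (nat_lit 2048) (Steps.fwd (nat_lit 5120) (Steps.bwd (nat_lit 7) (Steps.fwd (nat_lit 1024) (Steps.fwd (nat_lit 2048) (Steps.bwd (nat_lit 7) (Steps.fwd (nat_lit 2048) Steps.nil)))))))))) (nat_lit 58) (nat_lit 5),
  Rule.mk (nat_lit 6) (nat_lit 54) (Steps.fwd (nat_lit 4096) (Steps.fwd (nat_lit 6144) (Steps.fwd (nat_lit 1024) (Steps.bwd (nat_lit 4) Steps.nil)))) (nat_lit 32) (nat_lit 3),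
  Rule.mk (nat_lit 7) (nat_lit 120) (Steps.bwd (nat_lit 2) (Steps.bwd (nat_lit 5) (Steps.bwd (nat_lit 7) (Steps.fwd (nat_lit 1024) (Steps.fwd (nat_lit 2048) (Steps.fwd (nat_lit 7168) (Steps.fwd (nat_lit 2048) (Steps.fwd (nat_lit 1024) (Steps.fwd (nat_lit 5120) (Steps.fwd (nat_lit 2048) Steps.nil)))))))))) (nat_lit 58) (nat_lit 8),
  Rule.mk (nat_lit 3) (nat_lit 153) (Steps.bwd (nat_lit 2) (Steps.fwd (nat_lit 4096) (Steps.fwd (nat_lit 2048) (Steps.fwd (nat_lit 3072) (Steps.fwd (nat_lit 5120) (Steps.fwd (nat_lit 3072) (Steps.fwd (nat_lit 1024) (Steps.fwd (nat_lit 2048) (Steps.fwd (nat_lit 4096) (Steps.bwd (nat_lit 3) (Steps.bwd (nat_lit 2) (Steps.fwd (nat_lit 5120) (Steps.bwd (nat_lit 2) Steps.nil))))))))))))) (nat_lit 26) (nat_lit 8),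
  Rule.mk (nat_lit 1) (nat_lit 65) (Steps.bwd (nat_lit 3) (Steps.bwd (nat_lit 1) (Steps.fwd (nat_lit 3072) (Steps.bwd (nat_lit 1) (Steps.bwd (nat_lit 3) Steps.nil))))) (nat_lit 10) (nat_lit 1),
  Rule.mk (nat_lit 4) (nat_lit 65) (Steps.bwd (nat_lit 3) (Steps.bwd (nat_lit 4) (Steps.bwd (nat_lit 3) (Steps.fwd (nat_lit 4096) (Steps.bwd (nat_lit 3) Steps.nil))))) (nat_lit 14) (nat_lit 0),
  Rule.mk (nat_lit 5) (nat_lit 65) (Steps.bwd (nat_lit 3) (Steps.bwd (nat_lit 5) (Steps.bwd (nat_lit 3) (Steps.fwd (nat_lit 5120) (Steps.bwd (nat_lit 3) Steps.nil))))) (nat_lit 22) (nat_lit 0),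
  Rule.mk (nat_lit 7) (nat_lit 87) (Steps.bwd (nat_lit 3) (Steps.fwd (nat_lit 7168) (Steps.bwd (nat_lit 4) (Steps.bwd (nat_lit 7) (Steps.bwd (nat_lit 3) (Steps.fwd (nat_lit 7168) (Steps.bwd (nat_lit 4) Steps.nil))))))) (nat_lit 46) (nat_lit 0),
  Rule.mk (nat_lit 2) (nat_lit 153) (Steps.fwd (nat_lit 5120) (Steps.bwd (nat_lit 4) (Steps.bwd (nat_lit 3) (Steps.bwd (nat_lit 5) (Steps.bwd (nat_lit 4) (Steps.bwd (nat_lit 2) (Steps.fwd (nat_lit 3072) (Steps.fwd (nat_lit 4096) (Steps.fwd (nat_lit 5120) (Steps.fwd (nat_lit 2048) (Steps.fwd (nat_lit 4096) (Steps.fwd (nat_lit 5120) (Steps.fwd (nat_lit 3072) Steps.nil))))))))))))) (nat_lit 28) (nat_lit 9),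
  Rule.mk (nat_lit 7) (nat_lit 120) (Steps.bwd (nat_lit 2) (Steps.fwd (nat_lit 5120) (Steps.bwd (nat_lit 7) (Steps.bwd (nat_lit 1) (Steps.bwd (nat_lit 2) (Steps.fwd (nat_lit 7168) (Steps.fwd (nat_lit 2048) (Steps.bwd (nat_lit 1) (Steps.bwd (nat_lit 5) (Steps.fwd (nat_lit 2048) Steps.nil)))))))))) (nat_lit 58) (nat_lit 8),
  Rule.mk (nat_lit 4) (nat_lit 153) (Steps.bwd (nat_lit 2) (Steps.bwd (nat_lit 3) (Steps.bwd (nat_lit 5) (Steps.bwd (nat_lit 3) (Steps.bwd (nat_lit 1) (Steps.fwd (nat_lit 2048) (Steps.bwd (nat_lit 4) (Steps.fwd (nat_lit 3072) (Steps.fwd (nat_lit 2048) (Steps.fwd (nat_lit 5120) (Steps.fwd (nat_lit 2048) (Steps.fwd (nat_lit 3072) (Steps.fwd (nat_lit 2048) Steps.nil))))))))))))) (nat_lit 26) (nat_lit 10),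
  Rule.mk (nat_lit 5) (nat_lit 153) (Steps.bwd (nat_lit 2) (Steps.bwd (nat_lit 3) (Steps.bwd (nat_lit 2) (Steps.bwd (nat_lit 4) (Steps.bwd (nat_lit 2) (Steps.bwd (nat_lit 3) (Steps.bwd (nat_lit 5) (Steps.bwd (nat_lit 3) (Steps.bwd (nat_lit 1) (Steps.bwd (nat_lit 2) (Steps.bwd (nat_lit 4) (Steps.fwd (nat_lit 3072) (Steps.fwd (nat_lit 2048) Steps.nil))))))))))))) (nat_lit 26) (nat_lit 6),
  Rule.mk (nat_lit 4) (nat_lit 98) (Steps.bwd (nat_lit 1) (Steps.bwd (nat_lit 2) (Steps.bwd (nat_lit 1) (Steps.bwd (nat_lit 4) (Steps.bwd (nat_lit 2) (Steps.fwd (nat_lit 1024) (Steps.fwd (nat_lit 4096) (Steps.bwd (nat_lit 2) Steps.nil)))))))) (nat_lit 16) (nat_lit 0),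
  Rule.mk (nat_lit 7) (nat_lit 120) (Steps.bwd (nat_lit 1) (Steps.bwd (nat_lit 2) (Steps.fwd (nat_lit 7168) (Steps.bwd (nat_lit 2) (Steps.bwd (nat_lit 1) (Steps.bwd (nat_lit 5) (Steps.bwd (nat_lit 2) (Steps.bwd (nat_lit 7) (Steps.bwd (nat_lit 2) (Steps.fwd (nat_lit 5120) Steps.nil)))))))))) (nat_lit 58) (nat_lit 0),
  Rule.mk (nat_lit 7) (nat_lit 87) (Steps.bwd (nat_lit 6) (Steps.bwd (nat_lit 7) (Steps.fwd (nat_lit 4096) (Steps.bwd (nat_lit 7) (Steps.bwd (nat_lit 6) (Steps.fwd (nat_lit 7168) (Steps.fwd (nat_lit 4096) Steps.nil))))))) (nat_lit 50) (nat_lit 2),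
  Rule.mk (nat_lit 1) (nat_lit 98) (Steps.bwd (nat_lit 6) (Steps.bwd (nat_lit 7) (Steps.fwd (nat_lit 6144) (Steps.bwd (nat_lit 5) (Steps.bwd (nat_lit 6) (Steps.bwd (nat_lit 7) (Steps.bwd (nat_lit 6) (Steps.bwd (nat_lit 5) Steps.nil)))))))) (nat_lit 53) (nat_lit 0),
  Rule.mk (nat_lit 6) (nat_lit 98) (Steps.bwd (nat_lit 5) (Steps.bwd (nat_lit 6) (Steps.bwd (nat_lit 7) (Steps.fwd (nat_lit 6144) (Steps.bwd (nat_lit 1) (Steps.fwd (nat_lit 5120) (Steps.fwd (nat_lit 6144) (Steps.bwd (nat_lit 7) Steps.nil)))))))) (nat_lit 52) (nat_lit 5),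
  Rule.mk (nat_lit 7) (nat_lit 98) (Steps.bwd (nat_lit 5) (Steps.fwd (nat_lit 3072) (Steps.fwd (nat_lit 7168) (Steps.fwd (nat_lit 3072) (Steps.fwd (nat_lit 5120) (Steps.fwd (nat_lit 3072) (Steps.fwd (nat_lit 7168) (Steps.bwd (nat_lit 3) Steps.nil)))))))) (nat_lit 55) (nat_lit 3),
  Rule.mk (nat_lit 7) (nat_lit 120) (Steps.bwd (nat_lit 2) (Steps.bwd (nat_lit 5) (Steps.fwd (nat_lit 7168) (Steps.bwd (nat_lit 1) (Steps.fwd (nat_lit 2048) (Steps.bwd (nat_lit 7) (Steps.bwd (nat_lit 2) (Steps.bwd (nat_lit 1) (Steps.bwd (nat_lit 5) (Steps.fwd (nat_lit 2048) Steps.nil)))))))))) (nat_lit 58) (nat_lit 8),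
  Rule.mk (nat_lit 7) (nat_lit 109) (Steps.bwd (nat_lit 4) (Steps.fwd (nat_lit 7168) (Steps.bwd (nat_lit 2) (Steps.fwd (nat_lit 7168) (Steps.bwd (nat_lit 4) (Steps.bwd (nat_lit 7) (Steps.bwd (nat_lit 1) (Steps.fwd (nat_lit 2048) (Steps.bwd (nat_lit 1) Steps.nil))))))))) (nat_lit 56) (nat_lit 4),
  Rule.mk (nat_lit 3) (nat_lit 142) (Steps.bwd (nat_lit 6) (Steps.fwd (nat_lit 3072) (Steps.bwd (nat_lit 4) (Steps.bwd (nat_lit 5) (Steps.bwd (nat_lit 6) (Steps.fwd (nat_lit 5120) (Steps.bwd (nat_lit 1) (Steps.bwd (nat_lit 2) (Steps.fwd (nat_lit 1024) (Steps.bwd (nat_lit 6) (Steps.fwd (nat_lit 2048) (Steps.fwd (nat_lit 4096) Steps.nil)))))))))))) (nat_lit 41) (nat_lit 4),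
  Rule.mk (nat_lit 3) (nat_lit 65) (Steps.fwd (nat_lit 4096) (Steps.bwd (nat_lit 3) (Steps.fwd (nat_lit 4096) (Steps.fwd (nat_lit 3072) (Steps.bwd (nat_lit 4) Steps.nil))))) (nat_lit 14) (nat_lit 1),
  Rule.mk (nat_lit 4) (nat_lit 98) (Steps.bwd (nat_lit 1) (Steps.bwd (nat_lit 2) (Steps.fwd (nat_lit 1024) (Steps.fwd (nat_lit 4096) (Steps.fwd (nat_lit 2048) (Steps.bwd (nat_lit 1) (Steps.fwd (nat_lit 4096) (Steps.fwd (nat_lit 2048) Steps.nil)))))))) (nat_lit 16) (nat_lit 0),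
  Rule.mk (nat_lit 5) (nat_lit 120) (Steps.bwd (nat_lit 1) (Steps.bwd (nat_lit 2) (Steps.fwd (nat_lit 1024) (Steps.fwd (nat_lit 5120) (Steps.fwd (nat_lit 2048) (Steps.fwd (nat_lit 5120) (Steps.fwd (nat_lit 6144) (Steps.fwd (nat_lit 1024) (Steps.bwd (nat_lit 6) (Steps.fwd (nat_lit 2048) Steps.nil)))))))))) (nat_lit 38) (nat_lit 0),
  Rule.mk (nat_lit 3) (nat_lit 153) (Steps.bwd (nat_lit 1) (Steps.bwd (nat_lit 2) (Steps.fwd (nat_lit 4096) (Steps.fwd (nat_lit 2048) (Steps.fwd (nat_lit 6144) (Steps.fwd (nat_lit 3072) (Steps.fwd (nat_lit 5120) (Steps.bwd (nat_lit 6) (Steps.bwd (nat_lit 5) (Steps.fwd (nat_lit 3072) (Steps.fwd (nat_lit 6144) (Steps.bwd (nat_lit 2) (Steps.fwd (nat_lit 4096) Steps.nil))))))))))))) (nat_lit 42) (nat_lit 0),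
  Rule.mk (nat_lit 3) (nat_lit 65) (Steps.bwd (nat_lit 1) (Steps.fwd (nat_lit 3072) (Steps.fwd (nat_lit 1024) (Steps.fwd (nat_lit 3072) (Steps.fwd (nat_lit 1024) Steps.nil))))) (nat_lit 10) (nat_lit 0),
  Rule.mk (nat_lit 2) (nat_lit 98) (Steps.bwd (nat_lit 1) (Steps.bwd (nat_lit 4) (Steps.bwd (nat_lit 2) (Steps.fwd (nat_lit 4096) (Steps.fwd (nat_lit 1024) (Steps.fwd (nat_lit 2048) (Steps.bwd (nat_lit 1) (Steps.bwd (nat_lit 4) Steps.nil)))))))) (nat_lit 16) (nat_lit 5),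
  Rule.mk (nat_lit 7) (nat_lit 87) (Steps.fwd (nat_lit 4096) (Steps.fwd (nat_lit 7168) (Steps.fwd (nat_lit 3072) (Steps.bwd (nat_lit 7) (Steps.fwd (nat_lit 4096) (Steps.bwd (nat_lit 7) (Steps.bwd (nat_lit 3) Steps.nil))))))) (nat_lit 46) (nat_lit 2),
  Rule.mk (nat_lit 1) (nat_lit 65) (Steps.bwd (nat_lit 3) (Steps.fwd (nat_lit 2048) (Steps.bwd (nat_lit 1) (Steps.bwd (nat_lit 3) (Steps.bwd (nat_lit 2) Steps.nil))))) (nat_lit 9) (nat_lit 0),
  Rule.mk (nat_lit 7) (nat_lit 98) (Steps.bwd (nat_lit 3) (Steps.fwd (nat_lit 7168) (Steps.fwd (nat_lit 3072) (Steps.fwd (nat_lit 5120) (Steps.bwd (nat_lit 3) (Steps.bwd (nat_lit 7) (Steps.fwd (nat_lit 3072) (Steps.fwd (nat_lit 5120) Steps.nil)))))))) (nat_lit 54) (nat_lit 7),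
  Rule.mk (nat_lit 6) (nat_lit 142) (Steps.bwd (nat_lit 3) (Steps.bwd (nat_lit 4) (Steps.fwd (nat_lit 2048) (Steps.bwd (nat_lit 6) (Steps.bwd (nat_lit 1) (Steps.bwd (nat_lit 2) (Steps.fwd (nat_lit 1024) (Steps.fwd (nat_lit 5120) (Steps.bwd (nat_lit 6) (Steps.fwd (nat_lit 5120) (Steps.fwd (nat_lit 4096) (Steps.bwd (nat_lit 3) Steps.nil)))))))))))) (nat_lit 40) (nat_lit 9),
  Rule.mk (nat_lit 3) (nat_lit 153) (Steps.bwd (nat_lit 2) (Steps.bwd (nat_lit 5) (Steps.fwd (nat_lit 2048) (Steps.fwd (nat_lit 3072) (Steps.fwd (nat_lit 4096) (Steps.bwd (nat_lit 2) (Steps.fwd (nat_lit 1024) (Steps.fwd (nat_lit 3072) (Steps.fwd (nat_lit 5120) (Steps.fwd (nat_lit 3072) (Steps.fwd (nat_lit 2048) (Steps.bwd (nat_lit 4) (Steps.bwd (nat_lit 2) Steps.nil))))))))))))) (nat_lit 27) (nat_lit 7),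
  Rule.mk (nat_lit 6) (nat_lit 98) (Steps.bwd (nat_lit 5) (Steps.bwd (nat_lit 2) (Steps.fwd (nat_lit 6144) (Steps.fwd (nat_lit 5120) (Steps.fwd (nat_lit 2048) (Steps.fwd (nat_lit 6144) (Steps.fwd (nat_lit 5120) (Steps.fwd (nat_lit 2048) Steps.nil)))))))) (nat_lit 37) (nat_lit 1),
  Rule.mk (nat_lit 7) (nat_lit 98) (Steps.bwd (nat_lit 5) (Steps.fwd (nat_lit 3072) (Steps.bwd (nat_lit 7) (Steps.fwd (nat_lit 3072) (Steps.fwd (nat_lit 5120) (Steps.bwd (nat_lit 3) (Steps.fwd (nat_lit 7168) (Steps.bwd (nat_lit 3) Steps.nil)))))))) (nat_lit 55) (nat_lit 3),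
  Rule.mk (nat_lit 6) (nat_lit 98) (Steps.bwd (nat_lit 1) (Steps.fwd (nat_lit 5120) (Steps.fwd (nat_lit 6144) (Steps.fwd (nat_lit 7168) (Steps.bwd (nat_lit 6) (Steps.fwd (nat_lit 5120) (Steps.bwd (nat_lit 6) (Steps.fwd (nat_lit 7168) Steps.nil)))))))) (nat_lit 52) (nat_lit 0),
  Rule.mk (nat_lit 2) (nat_lit 65) (Steps.bwd (nat_lit 3) (Steps.bwd (nat_lit 1) (Steps.fwd (nat_lit 2048) (Steps.fwd (nat_lit 3072) (Steps.fwd (nat_lit 1024) Steps.nil))))) (nat_lit 8) (nat_lit 2),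
  Rule.mk (nat_lit 4) (nat_lit 65) (Steps.bwd (nat_lit 3) (Steps.fwd (nat_lit 4096) (Steps.fwd (nat_lit 3072) (Steps.bwd (nat_lit 4) (Steps.fwd (nat_lit 3072) Steps.nil))))) (nat_lit 14) (nat_lit 0),
  Rule.mk (nat_lit 2) (nat_lit 98) (Steps.bwd (nat_lit 5) (Steps.fwd (nat_lit 6144) (Steps.bwd (nat_lit 2) (Steps.fwd (nat_lit 5120) (Steps.bwd (nat_lit 6) (Steps.fwd (nat_lit 2048) (Steps.fwd (nat_lit 5120) (Steps.bwd (nat_lit 6) Steps.nil)))))))) (nat_lit 36) (nat_lit 1),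
  Rule.mk (nat_lit 6) (nat_lit 98) (Steps.bwd (nat_lit 5) (Steps.bwd (nat_lit 2) (Steps.fwd (nat_lit 6144) (Steps.fwd (nat_lit 5120) (Steps.fwd (nat_lit 2048) (Steps.bwd (nat_lit 6) (Steps.fwd (nat_lit 5120) (Steps.bwd (nat_lit 2) Steps.nil)))))))) (nat_lit 37) (nat_lit 1),
  Rule.mk (nat_lit 7) (nat_lit 98) (Steps.fwd (nat_lit 6144) (Steps.bwd (nat_lit 5) (Steps.fwd (nat_lit 6144) (Steps.fwd (nat_lit 7168) (Steps.bwd (nat_lit 6) (Steps.bwd (nat_lit 1) (Steps.fwd (nat_lit 5120) (Steps.fwd (nat_lit 6144) Steps.nil)))))))) (nat_lit 52) (nat_lit 4),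
  Rule.mk (nat_lit 3) (nat_lit 65) (Steps.bwd (nat_lit 1) (Steps.fwd (nat_lit 2048) (Steps.bwd (nat_lit 3) (Steps.bwd (nat_lit 1) (Steps.bwd (nat_lit 2) Steps.nil))))) (nat_lit 8) (nat_lit 0),
  Rule.mk (nat_lit 6) (nat_lit 120) (Steps.bwd (nat_lit 1) (Steps.fwd (nat_lit 6144) (Steps.fwd (nat_lit 2048) (Steps.fwd (nat_lit 5120) (Steps.fwd (nat_lit 1024) (Steps.bwd (nat_lit 2) (Steps.fwd (nat_lit 1024) (Steps.fwd (nat_lit 5120) (Steps.fwd (nat_lit 2048) (Steps.bwd (nat_lit 5) Steps.nil)))))))))) (nat_lit 38) (nat_lit 7),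
  Rule.mk (nat_lit 7) (nat_lit 120) (Steps.fwd (nat_lit 2048) (Steps.bwd (nat_lit 1) (Steps.bwd (nat_lit 5) (Steps.bwd (nat_lit 2) (Steps.fwd (nat_lit 7168) (Steps.fwd (nat_lit 2048) (Steps.fwd (nat_lit 5120) (Steps.fwd (nat_lit 7168) (Steps.fwd (nat_lit 1024) (Steps.fwd (nat_lit 2048) Steps.nil)))))))))) (nat_lit 58) (nat_lit 3),
  Rule.mk (nat_lit 2) (nat_lit 65) (Steps.bwd (nat_lit 3) (Steps.fwd (nat_lit 1024) (Steps.fwd (nat_lit 2048) (Steps.fwd (nat_lit 3072) (Steps.fwd (nat_lit 1024) Steps.nil))))) (nat_lit 8) (nat_lit 2),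
  Rule.mk (nat_lit 1) (nat_lit 65) (Steps.bwd (nat_lit 3) (Steps.fwd (nat_lit 2048) (Steps.fwd (nat_lit 1024) (Steps.bwd (nat_lit 3) (Steps.bwd (nat_lit 2) Steps.nil))))) (nat_lit 9) (nat_lit 0),
  Rule.mk (nat_lit 4) (nat_lit 153) (Steps.bwd (nat_lit 3) (Steps.fwd (nat_lit 2048) (Steps.fwd (nat_lit 5120) (Steps.bwd (nat_lit 2) (Steps.fwd (nat_lit 3072) (Steps.fwd (nat_lit 2048) (Steps.fwd (nat_lit 4096) (Steps.fwd (nat_lit 2048) (Steps.bwd (nat_lit 3) (Steps.bwd (nat_lit 5) (Steps.fwd (nat_lit 3072) (Steps.fwd (nat_lit 1024) (Steps.bwd (nat_lit 2) Steps.nil))))))))))))) (nat_lit 26) (nat_lit 3),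
  Rule.mk (nat_lit 2) (nat_lit 65) (Steps.bwd (nat_lit 6) (Steps.fwd (nat_lit 2048) (Steps.fwd (nat_lit 6144) (Steps.bwd (nat_lit 2) (Steps.bwd (nat_lit 6) Steps.nil))))) (nat_lit 34) (nat_lit 1),
  Rule.mk (nat_lit 4) (nat_lit 142) (Steps.bwd (nat_lit 3) (Steps.bwd (nat_lit 6) (Steps.bwd (nat_lit 3) (Steps.fwd (nat_lit 4096) (Steps.fwd (nat_lit 2048) (Steps.bwd (nat_lit 6) (Steps.fwd (nat_lit 1024) (Steps.fwd (nat_lit 2048) (Steps.bwd (nat_lit 1) (Steps.fwd (nat_lit 5120) (Steps.fwd (nat_lit 6144) (Steps.fwd (nat_lit 5120) Steps.nil)))))))))))) (nat_lit 40) (nat_lit 7),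
  Rule.mk (nat_lit 5) (nat_lit 153) (Steps.bwd (nat_lit 3) (Steps.fwd (nat_lit 2048) (Steps.fwd (nat_lit 5120) (Steps.bwd (nat_lit 4) (Steps.bwd (nat_lit 3) (Steps.bwd (nat_lit 5) (Steps.fwd (nat_lit 4096) (Steps.fwd (nat_lit 2048) (Steps.fwd (nat_lit 3072) (Steps.fwd (nat_lit 4096) (Steps.fwd (nat_lit 5120) (Steps.fwd (nat_lit 2048) (Steps.bwd (nat_lit 4) Steps.nil))))))))))))) (nat_lit 28) (nat_lit 7),
  Rule.mk (nat_lit 6) (nat_lit 153) (Steps.fwd (nat_lit 5120) (Steps.bwd (nat_lit 3) (Steps.bwd (nat_lit 6) (Steps.fwd (nat_lit 2048) (Steps.fwd (nat_lit 4096) (Steps.bwd (nat_lit 3) (Steps.fwd (nat_lit 1024) (Steps.fwd (nat_lit 2048) (Steps.fwd (nat_lit 4096) (Steps.bwd (nat_lit 2) (Steps.fwd (nat_lit 6144) (Steps.fwd (nat_lit 3072) (Steps.bwd (nat_lit 5) Steps.nil))))))))))))) (nat_lit 42) (nat_lit 8)]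
noncomputable def R_9 : List (Rule) := [Rule.mk (nat_lit 7) (nat_lit 87) (Steps.bwd (nat_lit 4) (Steps.bwd (nat_lit 7) (Steps.fwd (nat_lit 6144) (Steps.fwd (nat_lit 7168) (Steps.fwd (nat_lit 4096) (Steps.fwd (nat_lit 7168) (Steps.bwd (nat_lit 6) Steps.nil))))))) (nat_lit 50) (nat_lit 0),
  Rule.mk (nat_lit 4) (nat_lit 98) (Steps.bwd (nat_lit 2) (Steps.fwd (nat_lit 4096) (Steps.fwd (nat_lit 1024) (Steps.bwd (nat_lit 2) (Steps.fwd (nat_lit 1024) (Steps.fwd (nat_lit 4096) (Steps.bwd (nat_lit 2) (Steps.fwd (nat_lit 1024) Steps.nil)))))))) (nat_lit 16) (nat_lit 7),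
  Rule.mk (nat_lit 7) (nat_lit 109) (Steps.bwd (nat_lit 2) (Steps.bwd (nat_lit 7) (Steps.bwd (nat_lit 4) (Steps.bwd (nat_lit 7) (Steps.bwd (nat_lit 1) (Steps.fwd (nat_lit 2048) (Steps.bwd (nat_lit 1) (Steps.fwd (nat_lit 7168) (Steps.bwd (nat_lit 4) Steps.nil))))))))) (nat_lit 56) (nat_lit 6),
  Rule.mk (nat_lit 4) (nat_lit 65) (Steps.bwd (nat_lit 3) (Steps.bwd (nat_lit 4) (Steps.bwd (nat_lit 3) (Steps.bwd (nat_lit 4) (Steps.bwd (nat_lit 3) Steps.nil))))) (nat_lit 14) (nat_lit 0),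
  Rule.mk (nat_lit 6) (nat_lit 142) (Steps.bwd (nat_lit 3) (Steps.bwd (nat_lit 4) (Steps.bwd (nat_lit 2) (Steps.bwd (nat_lit 6) (Steps.fwd (nat_lit 1024) (Steps.bwd (nat_lit 2) (Steps.fwd (nat_lit 1024) (Steps.bwd (nat_lit 5) (Steps.fwd (nat_lit 6144) (Steps.fwd (nat_lit 5120) (Steps.fwd (nat_lit 4096) (Steps.fwd (nat_lit 3072) Steps.nil)))))))))))) (nat_lit 40) (nat_lit 9),
  Rule.mk (nat_lit 4) (nat_lit 98) (Steps.bwd (nat_lit 2) (Steps.fwd (nat_lit 4096) (Steps.fwd (nat_lit 1024) (Steps.fwd (nat_lit 2048) (Steps.fwd (nat_lit 1024) (Steps.fwd (nat_lit 4096) (Steps.bwd (nat_lit 2) (Steps.fwd (nat_lit 1024) Steps.nil)))))))) (nat_lit 16) (nat_lit 7),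
  Rule.mk (nat_lit 1) (nat_lit 98) (Steps.bwd (nat_lit 2) (Steps.fwd (nat_lit 4096) (Steps.fwd (nat_lit 1024) (Steps.fwd (nat_lit 2048) (Steps.fwd (nat_lit 1024) (Steps.fwd (nat_lit 4096) (Steps.bwd (nat_lit 2) (Steps.bwd (nat_lit 4) Steps.nil)))))))) (nat_lit 17) (nat_lit 4),
  Rule.mk (nat_lit 6) (nat_lit 142) (Steps.bwd (nat_lit 2) (Steps.fwd (nat_lit 4096) (Steps.fwd (nat_lit 3072) (Steps.bwd (nat_lit 6) (Steps.bwd (nat_lit 3) (Steps.bwd (nat_lit 4) (Steps.fwd (nat_lit 5120) (Steps.fwd (nat_lit 6144) (Steps.bwd (nat_lit 5) (Steps.fwd (nat_lit 1024) (Steps.fwd (nat_lit 2048) (Steps.fwd (nat_lit 1024) Steps.nil)))))))))))) (nat_lit 41) (nat_lit 1),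
  Rule.mk (nat_lit 3) (nat_lit 153) (Steps.fwd (nat_lit 1024) (Steps.bwd (nat_lit 2) (Steps.fwd (nat_lit 4096) (Steps.bwd (nat_lit 2) (Steps.fwd (nat_lit 6144) (Steps.fwd (nat_lit 3072) (Steps.fwd (nat_lit 5120) (Steps.bwd (nat_lit 6) (Steps.bwd (nat_lit 5) (Steps.bwd (nat_lit 3) (Steps.fwd (nat_lit 6144) (Steps.fwd (nat_lit 2048) (Steps.bwd (nat_lit 4) Steps.nil))))))))))))) (nat_lit 42) (nat_lit 0),
  Rule.mk (nat_lit 7) (nat_lit 87) (Steps.bwd (nat_lit 4) (Steps.fwd (nat_lit 7168) (Steps.bwd (nat_lit 3) (Steps.fwd (nat_lit 7168) (Steps.bwd (nat_lit 4) (Steps.bwd (nat_lit 7) (Steps.bwd (nat_lit 3) Steps.nil))))))) (nat_lit 46) (nat_lit 2),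
  Rule.mk (nat_lit 6) (nat_lit 54) (Steps.fwd (nat_lit 4096) (Steps.fwd (nat_lit 6144) (Steps.bwd (nat_lit 4) (Steps.fwd (nat_lit 1024) Steps.nil)))) (nat_lit 33) (nat_lit 1),
  Rule.mk (nat_lit 4) (nat_lit 65) (Steps.bwd (nat_lit 3) (Steps.fwd (nat_lit 4096) (Steps.fwd (nat_lit 3072) (Steps.bwd (nat_lit 4) (Steps.bwd (nat_lit 3) Steps.nil))))) (nat_lit 14) (nat_lit 0),
  Rule.mk (nat_lit 6) (nat_lit 54) (Steps.fwd (nat_lit 1024) (Steps.fwd (nat_lit 4096) (Steps.fwd (nat_lit 6144) (Steps.bwd (nat_lit 4) Steps.nil)))) (nat_lit 32) (nat_lit 0),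
  Rule.mk (nat_lit 6) (nat_lit 65) (Steps.bwd (nat_lit 2) (Steps.bwd (nat_lit 6) (Steps.fwd (nat_lit 2048) (Steps.bwd (nat_lit 6) (Steps.fwd (nat_lit 2048) Steps.nil))))) (nat_lit 34) (nat_lit 0),
  Rule.mk (nat_lit 4) (nat_lit 98) (Steps.bwd (nat_lit 2) (Steps.fwd (nat_lit 4096) (Steps.bwd (nat_lit 1) (Steps.fwd (nat_lit 2048) (Steps.fwd (nat_lit 1024) (Steps.fwd (nat_lit 4096) (Steps.fwd (nat_lit 2048) (Steps.bwd (nat_lit 1) Steps.nil)))))))) (nat_lit 16) (nat_lit 7),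
  Rule.mk (nat_lit 7) (nat_lit 109) (Steps.fwd (nat_lit 1024) (Steps.bwd (nat_lit 2) (Steps.fwd (nat_lit 1024) (Steps.bwd (nat_lit 7) (Steps.fwd (nat_lit 4096) (Steps.fwd (nat_lit 7168) (Steps.bwd (nat_lit 2) (Steps.fwd (nat_lit 7168) (Steps.bwd (nat_lit 4) Steps.nil))))))))) (nat_lit 56) (nat_lit 0),
  Rule.mk (nat_lit 4) (nat_lit 65) (Steps.bwd (nat_lit 5) (Steps.fwd (nat_lit 4096) (Steps.bwd (nat_lit 5) (Steps.bwd (nat_lit 4) (Steps.fwd (nat_lit 5120) Steps.nil))))) (nat_lit 24) (nat_lit 1),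
  Rule.mk (nat_lit 6) (nat_lit 98) (Steps.bwd (nat_lit 5) (Steps.fwd (nat_lit 6144) (Steps.fwd (nat_lit 7168) (Steps.fwd (nat_lit 6144) (Steps.bwd (nat_lit 1) (Steps.fwd (nat_lit 5120) (Steps.fwd (nat_lit 6144) (Steps.bwd (nat_lit 7) Steps.nil)))))))) (nat_lit 52) (nat_lit 5),
  Rule.mk (nat_lit 7) (nat_lit 98) (Steps.bwd (nat_lit 5) (Steps.fwd (nat_lit 3072) (Steps.bwd (nat_lit 7) (Steps.bwd (nat_lit 3) (Steps.bwd (nat_lit 5) (Steps.bwd (nat_lit 3) (Steps.fwd (nat_lit 7168) (Steps.bwd (nat_lit 3) Steps.nil)))))))) (nat_lit 55) (nat_lit 3),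
  Rule.mk (nat_lit 5) (nat_lit 98) (Steps.bwd (nat_lit 2) (Steps.fwd (nat_lit 6144) (Steps.bwd (nat_lit 5) (Steps.fwd (nat_lit 2048) (Steps.fwd (nat_lit 6144) (Steps.bwd (nat_lit 5) (Steps.bwd (nat_lit 2) (Steps.fwd (nat_lit 6144) Steps.nil)))))))) (nat_lit 37) (nat_lit 2),
  Rule.mk (nat_lit 7) (nat_lit 120) (Steps.bwd (nat_lit 2) (Steps.bwd (nat_lit 5) (Steps.bwd (nat_lit 7) (Steps.fwd (nat_lit 1024) (Steps.bwd (nat_lit 2) (Steps.bwd (nat_lit 7) (Steps.fwd (nat_lit 2048) (Steps.bwd (nat_lit 1) (Steps.bwd (nat_lit 5) (Steps.fwd (nat_lit 2048) Steps.nil)))))))))) (nat_lit 58) (nat_lit 8),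
  Rule.mk (nat_lit 5) (nat_lit 98) (Steps.bwd (nat_lit 6) (Steps.bwd (nat_lit 2) (Steps.bwd (nat_lit 5) (Steps.fwd (nat_lit 6144) (Steps.bwd (nat_lit 2) (Steps.fwd (nat_lit 5120) (Steps.fwd (nat_lit 6144) (Steps.bwd (nat_lit 2) Steps.nil)))))))) (nat_lit 36) (nat_lit 2),
  Rule.mk (nat_lit 7) (nat_lit 120) (Steps.bwd (nat_lit 1) (Steps.fwd (nat_lit 2048) (Steps.bwd (nat_lit 7) (Steps.bwd (nat_lit 2) (Steps.bwd (nat_lit 1) (Steps.fwd (nat_lit 5120) (Steps.bwd (nat_lit 2) (Steps.fwd (nat_lit 7168) (Steps.bwd (nat_lit 2) (Steps.bwd (nat_lit 5) Steps.nil)))))))))) (nat_lit 58) (nat_lit 0),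
  Rule.mk (nat_lit 4) (nat_lit 109) (Steps.bwd (nat_lit 7) (Steps.fwd (nat_lit 2048) (Steps.fwd (nat_lit 7168) (Steps.fwd (nat_lit 4096) (Steps.fwd (nat_lit 7168) (Steps.fwd (nat_lit 1024) (Steps.bwd (nat_lit 2) (Steps.fwd (nat_lit 1024) (Steps.fwd (nat_lit 7168) Steps.nil))))))))) (nat_lit 56) (nat_lit 5),
  Rule.mk (nat_lit 5) (nat_lit 65) (Steps.fwd (nat_lit 4096) (Steps.fwd (nat_lit 5120) (Steps.fwd (nat_lit 4096) (Steps.bwd (nat_lit 5) (Steps.bwd (nat_lit 4) Steps.nil))))) (nat_lit 24) (nat_lit 0),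
  Rule.mk (nat_lit 2) (nat_lit 153) (Steps.bwd (nat_lit 3) (Steps.fwd (nat_lit 4096) (Steps.fwd (nat_lit 5120) (Steps.fwd (nat_lit 2048) (Steps.fwd (nat_lit 4096) (Steps.fwd (nat_lit 5120) (Steps.fwd (nat_lit 3072) (Steps.fwd (nat_lit 2048) (Steps.fwd (nat_lit 5120) (Steps.bwd (nat_lit 4) (Steps.fwd (nat_lit 3072) (Steps.fwd (nat_lit 5120) (Steps.fwd (nat_lit 4096) Steps.nil))))))))))))) (nat_lit 28) (nat_lit 1),
  Rule.mk (nat_lit 6) (nat_lit 98) (Steps.bwd (nat_lit 5) (Steps.fwd (nat_lit 2048) (Steps.fwd (nat_lit 6144) (Steps.bwd (nat_lit 5) (Steps.bwd (nat_lit 2) (Steps.bwd (nat_lit 6) (Steps.fwd (nat_lit 5120) (Steps.bwd (nat_lit 2) Steps.nil)))))))) (nat_lit 37) (nat_lit 1),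
  Rule.mk (nat_lit 7) (nat_lit 98) (Steps.fwd (nat_lit 3072) (Steps.bwd (nat_lit 5) (Steps.bwd (nat_lit 3) (Steps.bwd (nat_lit 7) (Steps.fwd (nat_lit 3072) (Steps.bwd (nat_lit 5) (Steps.bwd (nat_lit 7) (Steps.bwd (nat_lit 3) Steps.nil)))))))) (nat_lit 54) (nat_lit 0),
  Rule.mk (nat_lit 2) (nat_lit 65) (Steps.bwd (nat_lit 6) (Steps.bwd (nat_lit 2) (Steps.fwd (nat_lit 6144) (Steps.bwd (nat_lit 2) (Steps.bwd (nat_lit 6) Steps.nil))))) (nat_lit 34) (nat_lit 1),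
  Rule.mk (nat_lit 7) (nat_lit 98) (Steps.bwd (nat_lit 5) (Steps.bwd (nat_lit 3) (Steps.bwd (nat_lit 7) (Steps.fwd (nat_lit 3072) (Steps.bwd (nat_lit 5) (Steps.bwd (nat_lit 3) (Steps.bwd (nat_lit 7) (Steps.fwd (nat_lit 3072) Steps.nil)))))))) (nat_lit 55) (nat_lit 3),
  Rule.mk (nat_lit 2) (nat_lit 120) (Steps.bwd (nat_lit 5) (Steps.fwd (nat_lit 7168) (Steps.fwd (nat_lit 1024) (Steps.bwd (nat_lit 2) (Steps.fwd (nat_lit 7168) (Steps.fwd (nat_lit 2048) (Steps.fwd (nat_lit 1024) (Steps.bwd (nat_lit 5) (Steps.bwd (nat_lit 2) (Steps.bwd (nat_lit 7) Steps.nil)))))))))) (nat_lit 58) (nat_lit 9),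
  Rule.mk (nat_lit 6) (nat_lit 153) (Steps.bwd (nat_lit 5) (Steps.bwd (nat_lit 3) (Steps.bwd (nat_lit 6) (Steps.bwd (nat_lit 2) (Steps.fwd (nat_lit 4096) (Steps.fwd (nat_lit 3072) (Steps.fwd (nat_lit 1024) (Steps.fwd (nat_lit 2048) (Steps.bwd (nat_lit 4) (Steps.fwd (nat_lit 2048) (Steps.fwd (nat_lit 6144) (Steps.fwd (nat_lit 3072) (Steps.fwd (nat_lit 5120) Steps.nil))))))))))))) (nat_lit 42) (nat_lit 8),
  Rule.mk (nat_lit 7) (nat_lit 120) (Steps.bwd (nat_lit 1) (Steps.fwd (nat_lit 2048) (Steps.fwd (nat_lit 7168) (Steps.fwd (nat_lit 2048) (Steps.bwd (nat_lit 1) (Steps.fwd (nat_lit 5120) (Steps.bwd (nat_lit 2) (Steps.bwd (nat_lit 7) (Steps.fwd (nat_lit 2048) (Steps.fwd (nat_lit 5120) Steps.nil)))))))))) (nat_lit 58) (nat_lit 0),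
  Rule.mk (nat_lit 6) (nat_lit 87) (Steps.fwd (nat_lit 7168) (Steps.bwd (nat_lit 4) (Steps.bwd (nat_lit 7) (Steps.fwd (nat_lit 6144) (Steps.fwd (nat_lit 7168) (Steps.fwd (nat_lit 4096) (Steps.bwd (nat_lit 7) Steps.nil))))))) (nat_lit 50) (nat_lit 3),
  Rule.mk (nat_lit 7) (nat_lit 98) (Steps.bwd (nat_lit 6) (Steps.fwd (nat_lit 5120) (Steps.fwd (nat_lit 6144) (Steps.fwd (nat_lit 7168) (Steps.fwd (nat_lit 6144) (Steps.bwd (nat_lit 1) (Steps.bwd (nat_lit 5) (Steps.fwd (nat_lit 6144) Steps.nil)))))))) (nat_lit 52) (nat_lit 4),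
  Rule.mk (nat_lit 2) (nat_lit 120) (Steps.bwd (nat_lit 5) (Steps.fwd (nat_lit 7168) (Steps.bwd (nat_lit 1) (Steps.fwd (nat_lit 2048) (Steps.fwd (nat_lit 7168) (Steps.bwd (nat_lit 2) (Steps.fwd (nat_lit 1024) (Steps.fwd (nat_lit 5120) (Steps.bwd (nat_lit 2) (Steps.bwd (nat_lit 7) Steps.nil)))))))))) (nat_lit 58) (nat_lit 9),
  Rule.mk (nat_lit 7) (nat_lit 120) (Steps.bwd (nat_lit 2) (Steps.fwd (nat_lit 5120) (Steps.bwd (nat_lit 1) (Steps.fwd (nat_lit 2048) (Steps.fwd (nat_lit 7168) (Steps.bwd (nat_lit 2) (Steps.fwd (nat_lit 1024) (Steps.bwd (nat_lit 7) (Steps.bwd (nat_lit 5) (Steps.bwd (nat_lit 2) Steps.nil)))))))))) (nat_lit 59) (nat_lit 4),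
  Rule.mk (nat_lit 6) (nat_lit 98) (Steps.bwd (nat_lit 7) (Steps.bwd (nat_lit 6) (Steps.bwd (nat_lit 1) (Steps.bwd (nat_lit 5) (Steps.fwd (nat_lit 6144) (Steps.bwd (nat_lit 7) (Steps.fwd (nat_lit 6144) (Steps.fwd (nat_lit 5120) Steps.nil)))))))) (nat_lit 52) (nat_lit 7),
  Rule.mk (nat_lit 3) (nat_lit 98) (Steps.bwd (nat_lit 7) (Steps.fwd (nat_lit 3072) (Steps.fwd (nat_lit 5120) (Steps.fwd (nat_lit 3072) (Steps.bwd (nat_lit 7) (Steps.fwd (nat_lit 3072) (Steps.fwd (nat_lit 5120) (Steps.fwd (nat_lit 7168) Steps.nil)))))))) (nat_lit 54) (nat_lit 8),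
  Rule.mk (nat_lit 2) (nat_lit 120) (Steps.fwd (nat_lit 5120) (Steps.bwd (nat_lit 7) (Steps.bwd (nat_lit 1) (Steps.fwd (nat_lit 2048) (Steps.fwd (nat_lit 7168) (Steps.fwd (nat_lit 2048) (Steps.bwd (nat_lit 1) (Steps.bwd (nat_lit 5) (Steps.fwd (nat_lit 2048) (Steps.bwd (nat_lit 7) Steps.nil)))))))))) (nat_lit 58) (nat_lit 9),
  Rule.mk (nat_lit 4) (nat_lit 87) (Steps.bwd (nat_lit 7) (Steps.bwd (nat_lit 3) (Steps.bwd (nat_lit 7) (Steps.bwd (nat_lit 4) (Steps.fwd (nat_lit 7168) (Steps.bwd (nat_lit 3) (Steps.bwd (nat_lit 7) Steps.nil))))))) (nat_lit 46) (nat_lit 3),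
  Rule.mk (nat_lit 1) (nat_lit 120) (Steps.bwd (nat_lit 7) (Steps.fwd (nat_lit 5120) (Steps.fwd (nat_lit 2048) (Steps.fwd (nat_lit 7168) (Steps.fwd (nat_lit 2048) (Steps.bwd (nat_lit 5) (Steps.bwd (nat_lit 1) (Steps.fwd (nat_lit 2048) (Steps.bwd (nat_lit 7) (Steps.fwd (nat_lit 2048) Steps.nil)))))))))) (nat_lit 59) (nat_lit 0),
  Rule.mk (nat_lit 7) (nat_lit 98) (Steps.bwd (nat_lit 3) (Steps.bwd (nat_lit 7) (Steps.bwd (nat_lit 3) (Steps.fwd (nat_lit 5120) (Steps.bwd (nat_lit 3) (Steps.bwd (nat_lit 7) (Steps.bwd (nat_lit 3) (Steps.fwd (nat_lit 5120) Steps.nil)))))))) (nat_lit 54) (nat_lit 7),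
  Rule.mk (nat_lit 5) (nat_lit 98) (Steps.bwd (nat_lit 3) (Steps.bwd (nat_lit 7) (Steps.bwd (nat_lit 3) (Steps.fwd (nat_lit 5120) (Steps.fwd (nat_lit 7168) (Steps.bwd (nat_lit 3) (Steps.fwd (nat_lit 7168) (Steps.fwd (nat_lit 3072) Steps.nil)))))))) (nat_lit 54) (nat_lit 2),
  Rule.mk (nat_lit 4) (nat_lit 65) (Steps.bwd (nat_lit 5) (Steps.bwd (nat_lit 4) (Steps.bwd (nat_lit 5) (Steps.bwd (nat_lit 4) (Steps.bwd (nat_lit 5) Steps.nil))))) (nat_lit 24) (nat_lit 1),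
  Rule.mk (nat_lit 6) (nat_lit 98) (Steps.bwd (nat_lit 2) (Steps.bwd (nat_lit 5) (Steps.bwd (nat_lit 6) (Steps.bwd (nat_lit 2) (Steps.bwd (nat_lit 5) (Steps.bwd (nat_lit 6) (Steps.fwd (nat_lit 2048) (Steps.bwd (nat_lit 5) Steps.nil)))))))) (nat_lit 36) (nat_lit 0),
  Rule.mk (nat_lit 7) (nat_lit 109) (Steps.bwd (nat_lit 1) (Steps.bwd (nat_lit 2) (Steps.fwd (nat_lit 1024) (Steps.fwd (nat_lit 7168) (Steps.fwd (nat_lit 4096) (Steps.bwd (nat_lit 7) (Steps.fwd (nat_lit 2048) (Steps.fwd (nat_lit 7168) (Steps.fwd (nat_lit 4096) Steps.nil))))))))) (nat_lit 56) (nat_lit 0),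
  Rule.mk (nat_lit 3) (nat_lit 87) (Steps.fwd (nat_lit 7168) (Steps.bwd (nat_lit 4) (Steps.bwd (nat_lit 7) (Steps.fwd (nat_lit 3072) (Steps.fwd (nat_lit 7168) (Steps.fwd (nat_lit 4096) (Steps.bwd (nat_lit 7) Steps.nil))))))) (nat_lit 46) (nat_lit 1),
  Rule.mk (nat_lit 7) (nat_lit 87) (Steps.bwd (nat_lit 6) (Steps.fwd (nat_lit 7168) (Steps.bwd (nat_lit 4) (Steps.bwd (nat_lit 7) (Steps.bwd (nat_lit 6) (Steps.fwd (nat_lit 7168) (Steps.bwd (nat_lit 4) Steps.nil))))))) (nat_lit 50) (nat_lit 2),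
  Rule.mk (nat_lit 1) (nat_lit 120) (Steps.bwd (nat_lit 6) (Steps.fwd (nat_lit 5120) (Steps.fwd (nat_lit 2048) (Steps.fwd (nat_lit 5120) (Steps.fwd (nat_lit 1024) (Steps.fwd (nat_lit 2048) (Steps.bwd (nat_lit 1) (Steps.fwd (nat_lit 5120) (Steps.fwd (nat_lit 2048) (Steps.fwd (nat_lit 6144) Steps.nil)))))))))) (nat_lit 39) (nat_lit 4),
  Rule.mk (nat_lit 5) (nat_lit 142) (Steps.bwd (nat_lit 6) (Steps.fwd (nat_lit 5120) (Steps.bwd (nat_lit 4) (Steps.bwd (nat_lit 3) (Steps.fwd (nat_lit 6144) (Steps.fwd (nat_lit 3072) (Steps.fwd (nat_lit 4096) (Steps.fwd (nat_lit 2048) (Steps.fwd (nat_lit 6144) (Steps.fwd (nat_lit 1024) (Steps.bwd (nat_lit 2) (Steps.fwd (nat_lit 1024) Steps.nil)))))))))))) (nat_lit 40) (nat_lit 4),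
  Rule.mk (nat_lit 1) (nat_lit 120) (Steps.bwd (nat_lit 2) (Steps.fwd (nat_lit 1024) (Steps.fwd (nat_lit 5120) (Steps.fwd (nat_lit 2048) (Steps.fwd (nat_lit 5120) (Steps.bwd (nat_lit 6) (Steps.fwd (nat_lit 1024) (Steps.bwd (nat_lit 6) (Steps.fwd (nat_lit 2048) (Steps.fwd (nat_lit 5120) Steps.nil)))))))))) (nat_lit 38) (nat_lit 1),
  Rule.mk (nat_lit 7) (nat_lit 120) (Steps.bwd (nat_lit 2) (Steps.fwd (nat_lit 1024) (Steps.fwd (nat_lit 5120) (Steps.fwd (nat_lit 2048) (Steps.bwd (nat_lit 7) (Steps.fwd (nat_lit 2048) (Steps.bwd (nat_lit 5) (Steps.bwd (nat_lit 7) (Steps.bwd (nat_lit 1) (Steps.bwd (nat_lit 2) Steps.nil)))))))))) (nat_lit 58) (nat_lit 3),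
  Rule.mk (nat_lit 4) (nat_lit 153) (Steps.bwd (nat_lit 2) (Steps.bwd (nat_lit 6) (Steps.fwd (nat_lit 3072) (Steps.fwd (nat_lit 5120) (Steps.bwd (nat_lit 6) (Steps.bwd (nat_lit 5) (Steps.bwd (nat_lit 3) (Steps.fwd (nat_lit 6144) (Steps.bwd (nat_lit 2) (Steps.fwd (nat_lit 4096) (Steps.bwd (nat_lit 3) (Steps.fwd (nat_lit 1024) (Steps.fwd (nat_lit 2048) Steps.nil))))))))))))) (nat_lit 42) (nat_lit 3),
  Rule.mk (nat_lit 7) (nat_lit 87) (Steps.bwd (nat_lit 6) (Steps.fwd (nat_lit 7168) (Steps.bwd (nat_lit 4) (Steps.fwd (nat_lit 7168) (Steps.bwd (nat_lit 6) (Steps.fwd (nat_lit 7168) (Steps.bwd (nat_lit 4) Steps.nil))))))) (nat_lit 50) (nat_lit 2),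
  Rule.mk (nat_lit 5) (nat_lit 98) (Steps.bwd (nat_lit 6) (Steps.bwd (nat_lit 2) (Steps.fwd (nat_lit 5120) (Steps.fwd (nat_lit 6144) (Steps.fwd (nat_lit 2048) (Steps.fwd (nat_lit 5120) (Steps.fwd (nat_lit 6144) (Steps.fwd (nat_lit 2048) Steps.nil)))))))) (nat_lit 36) (nat_lit 2),
  Rule.mk (nat_lit 3) (nat_lit 65) (Steps.bwd (nat_lit 4) (Steps.bwd (nat_lit 3) (Steps.bwd (nat_lit 4) (Steps.fwd (nat_lit 3072) (Steps.bwd (nat_lit 4) Steps.nil))))) (nat_lit 14) (nat_lit 1),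
  Rule.mk (nat_lit 2) (nat_lit 153) (Steps.fwd (nat_lit 5120) (Steps.bwd (nat_lit 4) (Steps.bwd (nat_lit 3) (Steps.bwd (nat_lit 5) (Steps.bwd (nat_lit 4) (Steps.fwd (nat_lit 2048) (Steps.fwd (nat_lit 3072) (Steps.fwd (nat_lit 4096) (Steps.fwd (nat_lit 5120) (Steps.fwd (nat_lit 2048) (Steps.fwd (nat_lit 4096) (Steps.fwd (nat_lit 5120) (Steps.bwd (nat_lit 3) Steps.nil))))))))))))) (nat_lit 28) (nat_lit 9),
  Rule.mk (nat_lit 1) (nat_lit 65) (Steps.fwd (nat_lit 2048) (Steps.fwd (nat_lit 3072) (Steps.fwd (nat_lit 1024) (Steps.bwd (nat_lit 2) (Steps.bwd (nat_lit 3) Steps.nil))))) (nat_lit 8) (nat_lit 1),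
  Rule.mk (nat_lit 3) (nat_lit 153) (Steps.bwd (nat_lit 4) (Steps.fwd (nat_lit 2048) (Steps.bwd (nat_lit 1) (Steps.bwd (nat_lit 3) (Steps.fwd (nat_lit 5120) (Steps.fwd (nat_lit 3072) (Steps.fwd (nat_lit 2048) (Steps.fwd (nat_lit 4096) (Steps.bwd (nat_lit 2) (Steps.fwd (nat_lit 3072) (Steps.fwd (nat_lit 2048) (Steps.fwd (nat_lit 5120) (Steps.fwd (nat_lit 2048) Steps.nil))))))))))))) (nat_lit 27) (nat_lit 11),
  Rule.mk (nat_lit 5) (nat_lit 153) (Steps.bwd (nat_lit 2) (Steps.bwd (nat_lit 4) (Steps.fwd (nat_lit 5120) (Steps.fwd (nat_lit 3072) (Steps.bwd (nat_lit 2) (Steps.fwd (nat_lit 5120) (Steps.fwd (nat_lit 4096) (Steps.bwd (nat_lit 3) (Steps.bwd (nat_lit 5) (Steps.bwd (nat_lit 4) (Steps.bwd (nat_lit 2) (Steps.bwd (nat_lit 3) (Steps.bwd (nat_lit 4) Steps.nil))))))))))))) (nat_lit 28) (nat_lit 4),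
  Rule.mk (nat_lit 3) (nat_lit 65) (Steps.fwd (nat_lit 5120) (Steps.bwd (nat_lit 3) (Steps.fwd (nat_lit 5120) (Steps.fwd (nat_lit 3072) (Steps.bwd (nat_lit 5) Steps.nil))))) (nat_lit 22) (nat_lit 1),
  Rule.mk (nat_lit 7) (nat_lit 98) (Steps.bwd (nat_lit 3) (Steps.bwd (nat_lit 7) (Steps.fwd (nat_lit 3072) (Steps.bwd (nat_lit 5) (Steps.fwd (nat_lit 3072) (Steps.bwd (nat_lit 7) (Steps.fwd (nat_lit 3072) (Steps.bwd (nat_lit 5) Steps.nil)))))))) (nat_lit 54) (nat_lit 7),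
  Rule.mk (nat_lit 1) (nat_lit 65) (Steps.bwd (nat_lit 2) (Steps.fwd (nat_lit 1024) (Steps.bwd (nat_lit 2) (Steps.fwd (nat_lit 1024) (Steps.bwd (nat_lit 2) Steps.nil))))) (nat_lit 6) (nat_lit 1)]
noncomputable def R_10 : List (Rule) := [Rule.mk (nat_lit 3) (nat_lit 65) (Steps.bwd (nat_lit 2) (Steps.fwd (nat_lit 1024) (Steps.fwd (nat_lit 3072) (Steps.bwd (nat_lit 2) (Steps.fwd (nat_lit 1024) Steps.nil))))) (nat_lit 9) (nat_lit 1),
  Rule.mk (nat_lit 6) (nat_lit 65) (Steps.bwd (nat_lit 2) (Steps.bwd (nat_lit 6) (Steps.bwd (nat_lit 2) (Steps.bwd (nat_lit 6) (Steps.bwd (nat_lit 2) Steps.nil))))) (nat_lit 34) (nat_lit 0),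
  Rule.mk (nat_lit 5) (nat_lit 98) (Steps.bwd (nat_lit 2) (Steps.bwd (nat_lit 6) (Steps.bwd (nat_lit 5) (Steps.fwd (nat_lit 2048) (Steps.bwd (nat_lit 6) (Steps.fwd (nat_lit 5120) (Steps.bwd (nat_lit 2) (Steps.bwd (nat_lit 6) Steps.nil)))))))) (nat_lit 37) (nat_lit 2),
  Rule.mk (nat_lit 3) (nat_lit 153) (Steps.bwd (nat_lit 2) (Steps.bwd (nat_lit 4) (Steps.fwd (nat_lit 2048) (Steps.fwd (nat_lit 3072) (Steps.bwd (nat_lit 5) (Steps.fwd (nat_lit 3072) (Steps.fwd (nat_lit 1024) (Steps.bwd (nat_lit 2) (Steps.bwd (nat_lit 4) (Steps.fwd (nat_lit 3072) (Steps.bwd (nat_lit 2) (Steps.bwd (nat_lit 5) (Steps.bwd (nat_lit 2) Steps.nil))))))))))))) (nat_lit 26) (nat_lit 8),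
  Rule.mk (nat_lit 6) (nat_lit 120) (Steps.bwd (nat_lit 1) (Steps.fwd (nat_lit 6144) (Steps.fwd (nat_lit 5120) (Steps.bwd (nat_lit 2) (Steps.fwd (nat_lit 5120) (Steps.fwd (nat_lit 1024) (Steps.fwd (nat_lit 2048) (Steps.bwd (nat_lit 1) (Steps.bwd (nat_lit 5) (Steps.fwd (nat_lit 2048) Steps.nil)))))))))) (nat_lit 39) (nat_lit 3),
  Rule.mk (nat_lit 7) (nat_lit 120) (Steps.bwd (nat_lit 1) (Steps.bwd (nat_lit 2) (Steps.fwd (nat_lit 7168) (Steps.fwd (nat_lit 2048) (Steps.bwd (nat_lit 1) (Steps.fwd (nat_lit 5120) (Steps.bwd (nat_lit 2) (Steps.bwd (nat_lit 7) (Steps.fwd (nat_lit 2048) (Steps.fwd (nat_lit 5120) Steps.nil)))))))))) (nat_lit 58) (nat_lit 0),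
  Rule.mk (nat_lit 2) (nat_lit 98) (Steps.bwd (nat_lit 5) (Steps.bwd (nat_lit 6) (Steps.fwd (nat_lit 2048) (Steps.fwd (nat_lit 5120) (Steps.bwd (nat_lit 6) (Steps.fwd (nat_lit 2048) (Steps.fwd (nat_lit 5120) (Steps.bwd (nat_lit 6) Steps.nil)))))))) (nat_lit 36) (nat_lit 1),
  Rule.mk (nat_lit 6) (nat_lit 98) (Steps.bwd (nat_lit 5) (Steps.bwd (nat_lit 2) (Steps.bwd (nat_lit 6) (Steps.fwd (nat_lit 5120) (Steps.fwd (nat_lit 2048) (Steps.bwd (nat_lit 6) (Steps.bwd (nat_lit 5) (Steps.fwd (nat_lit 2048) Steps.nil)))))))) (nat_lit 37) (nat_lit 1),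
  Rule.mk (nat_lit 7) (nat_lit 120) (Steps.bwd (nat_lit 5) (Steps.bwd (nat_lit 2) (Steps.fwd (nat_lit 7168) (Steps.bwd (nat_lit 2) (Steps.bwd (nat_lit 5) (Steps.fwd (nat_lit 1024) (Steps.fwd (nat_lit 2048) (Steps.fwd (nat_lit 7168) (Steps.fwd (nat_lit 2048) (Steps.bwd (nat_lit 1) Steps.nil)))))))))) (nat_lit 59) (nat_lit 1),
  Rule.mk (nat_lit 4) (nat_lit 142) (Steps.bwd (nat_lit 5) (Steps.bwd (nat_lit 6) (Steps.fwd (nat_lit 5120) (Steps.bwd (nat_lit 1) (Steps.bwd (nat_lit 2) (Steps.bwd (nat_lit 1) (Steps.fwd (nat_lit 6144) (Steps.bwd (nat_lit 2) (Steps.fwd (nat_lit 4096) (Steps.fwd (nat_lit 3072) (Steps.bwd (nat_lit 6) (Steps.fwd (nat_lit 3072) Steps.nil)))))))))))) (nat_lit 41) (nat_lit 7),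
  Rule.mk (nat_lit 5) (nat_lit 65) (Steps.bwd (nat_lit 3) (Steps.bwd (nat_lit 5) (Steps.fwd (nat_lit 3072) (Steps.bwd (nat_lit 5) (Steps.fwd (nat_lit 3072) Steps.nil))))) (nat_lit 22) (nat_lit 0),
  Rule.mk (nat_lit 7) (nat_lit 98) (Steps.bwd (nat_lit 3) (Steps.bwd (nat_lit 5) (Steps.fwd (nat_lit 3072) (Steps.fwd (nat_lit 7168) (Steps.bwd (nat_lit 3) (Steps.fwd (nat_lit 5120) (Steps.bwd (nat_lit 7) (Steps.bwd (nat_lit 3) Steps.nil)))))))) (nat_lit 54) (nat_lit 0),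
  Rule.mk (nat_lit 6) (nat_lit 142) (Steps.bwd (nat_lit 3) (Steps.fwd (nat_lit 4096) (Steps.bwd (nat_lit 2) (Steps.bwd (nat_lit 6) (Steps.fwd (nat_lit 1024) (Steps.bwd (nat_lit 2) (Steps.bwd (nat_lit 1) (Steps.fwd (nat_lit 5120) (Steps.fwd (nat_lit 6144) (Steps.fwd (nat_lit 5120) (Steps.bwd (nat_lit 4) (Steps.fwd (nat_lit 3072) Steps.nil)))))))))))) (nat_lit 40) (nat_lit 9),
  Rule.mk (nat_lit 4) (nat_lit 87) (Steps.bwd (nat_lit 7) (Steps.fwd (nat_lit 3072) (Steps.bwd (nat_lit 7) (Steps.bwd (nat_lit 4) (Steps.bwd (nat_lit 7) (Steps.bwd (nat_lit 3) (Steps.bwd (nat_lit 7) Steps.nil))))))) (nat_lit 46) (nat_lit 3),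
  Rule.mk (nat_lit 5) (nat_lit 98) (Steps.bwd (nat_lit 7) (Steps.fwd (nat_lit 3072) (Steps.bwd (nat_lit 7) (Steps.bwd (nat_lit 3) (Steps.fwd (nat_lit 5120) (Steps.fwd (nat_lit 3072) (Steps.bwd (nat_lit 7) (Steps.bwd (nat_lit 3) Steps.nil)))))))) (nat_lit 54) (nat_lit 6),
  Rule.mk (nat_lit 3) (nat_lit 98) (Steps.bwd (nat_lit 7) (Steps.fwd (nat_lit 3072) (Steps.fwd (nat_lit 5120) (Steps.bwd (nat_lit 7) (Steps.bwd (nat_lit 3) (Steps.bwd (nat_lit 7) (Steps.bwd (nat_lit 3) (Steps.bwd (nat_lit 5) Steps.nil)))))))) (nat_lit 54) (nat_lit 3),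
  Rule.mk (nat_lit 2) (nat_lit 120) (Steps.bwd (nat_lit 7) (Steps.fwd (nat_lit 2048) (Steps.fwd (nat_lit 5120) (Steps.fwd (nat_lit 7168) (Steps.fwd (nat_lit 1024) (Steps.fwd (nat_lit 2048) (Steps.bwd (nat_lit 7) (Steps.bwd (nat_lit 2) (Steps.fwd (nat_lit 1024) (Steps.bwd (nat_lit 5) Steps.nil)))))))))) (nat_lit 58) (nat_lit 7),
  Rule.mk (nat_lit 4) (nat_lit 98) (Steps.bwd (nat_lit 1) (Steps.fwd (nat_lit 2048) (Steps.fwd (nat_lit 1024) (Steps.fwd (nat_lit 4096) (Steps.bwd (nat_lit 2) (Steps.fwd (nat_lit 4096) (Steps.bwd (nat_lit 1) (Steps.fwd (nat_lit 2048) Steps.nil)))))))) (nat_lit 17) (nat_lit 6),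
  Rule.mk (nat_lit 7) (nat_lit 98) (Steps.bwd (nat_lit 6) (Steps.bwd (nat_lit 5) (Steps.bwd (nat_lit 6) (Steps.fwd (nat_lit 7168) (Steps.fwd (nat_lit 6144) (Steps.bwd (nat_lit 5) (Steps.bwd (nat_lit 1) (Steps.bwd (nat_lit 6) Steps.nil)))))))) (nat_lit 53) (nat_lit 2),
  Rule.mk (nat_lit 7) (nat_lit 98) (Steps.bwd (nat_lit 5) (Steps.fwd (nat_lit 3072) (Steps.fwd (nat_lit 7168) (Steps.fwd (nat_lit 3072) (Steps.fwd (nat_lit 5120) (Steps.bwd (nat_lit 3) (Steps.fwd (nat_lit 7168) (Steps.fwd (nat_lit 3072) Steps.nil)))))))) (nat_lit 55) (nat_lit 3),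
  Rule.mk (nat_lit 4) (nat_lit 142) (Steps.bwd (nat_lit 5) (Steps.bwd (nat_lit 6) (Steps.bwd (nat_lit 5) (Steps.fwd (nat_lit 1024) (Steps.bwd (nat_lit 2) (Steps.fwd (nat_lit 1024) (Steps.fwd (nat_lit 6144) (Steps.fwd (nat_lit 2048) (Steps.bwd (nat_lit 4) (Steps.bwd (nat_lit 3) (Steps.bwd (nat_lit 6) (Steps.bwd (nat_lit 3) Steps.nil)))))))))))) (nat_lit 41) (nat_lit 7),
  Rule.mk (nat_lit 6) (nat_lit 98) (Steps.bwd (nat_lit 2) (Steps.bwd (nat_lit 5) (Steps.bwd (nat_lit 6) (Steps.bwd (nat_lit 2) (Steps.bwd (nat_lit 5) (Steps.bwd (nat_lit 6) (Steps.bwd (nat_lit 2) (Steps.bwd (nat_lit 5) Steps.nil)))))))) (nat_lit 36) (nat_lit 0),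
  Rule.mk (nat_lit 7) (nat_lit 120) (Steps.bwd (nat_lit 2) (Steps.bwd (nat_lit 5) (Steps.bwd (nat_lit 7) (Steps.bwd (nat_lit 1) (Steps.fwd (nat_lit 2048) (Steps.fwd (nat_lit 7168) (Steps.bwd (nat_lit 2) (Steps.fwd (nat_lit 1024) (Steps.bwd (nat_lit 5) (Steps.bwd (nat_lit 2) Steps.nil)))))))))) (nat_lit 58) (nat_lit 8),
  Rule.mk (nat_lit 5) (nat_lit 120) (Steps.bwd (nat_lit 2) (Steps.fwd (nat_lit 7168) (Steps.fwd (nat_lit 2048) (Steps.bwd (nat_lit 5) (Steps.fwd (nat_lit 7168) (Steps.fwd (nat_lit 1024) (Steps.fwd (nat_lit 2048) (Steps.fwd (nat_lit 7168) (Steps.bwd (nat_lit 2) (Steps.fwd (nat_lit 1024) Steps.nil)))))))))) (nat_lit 58) (nat_lit 6),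
  Rule.mk (nat_lit 1) (nat_lit 120) (Steps.bwd (nat_lit 2) (Steps.fwd (nat_lit 7168) (Steps.fwd (nat_lit 2048) (Steps.bwd (nat_lit 1) (Steps.bwd (nat_lit 5) (Steps.bwd (nat_lit 2) (Steps.bwd (nat_lit 7) (Steps.bwd (nat_lit 2) (Steps.fwd (nat_lit 5120) (Steps.fwd (nat_lit 7168) Steps.nil)))))))))) (nat_lit 58) (nat_lit 1),
  Rule.mk (nat_lit 4) (nat_lit 98) (Steps.fwd (nat_lit 2048) (Steps.bwd (nat_lit 4) (Steps.bwd (nat_lit 1) (Steps.fwd (nat_lit 2048) (Steps.fwd (nat_lit 1024) (Steps.fwd (nat_lit 4096) (Steps.fwd (nat_lit 2048) (Steps.bwd (nat_lit 1) Steps.nil)))))))) (nat_lit 16) (nat_lit 7),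
  Rule.mk (nat_lit 3) (nat_lit 98) (Steps.bwd (nat_lit 5) (Steps.bwd (nat_lit 7) (Steps.fwd (nat_lit 3072) (Steps.fwd (nat_lit 7168) (Steps.fwd (nat_lit 3072) (Steps.bwd (nat_lit 5) (Steps.bwd (nat_lit 3) (Steps.bwd (nat_lit 7) Steps.nil)))))))) (nat_lit 54) (nat_lit 5),
  Rule.mk (nat_lit 4) (nat_lit 142) (Steps.bwd (nat_lit 5) (Steps.bwd (nat_lit 6) (Steps.fwd (nat_lit 5120) (Steps.bwd (nat_lit 1) (Steps.fwd (nat_lit 2048) (Steps.fwd (nat_lit 1024) (Steps.fwd (nat_lit 6144) (Steps.fwd (nat_lit 2048) (Steps.fwd (nat_lit 4096) (Steps.fwd (nat_lit 3072) (Steps.fwd (nat_lit 6144) (Steps.bwd (nat_lit 3) Steps.nil)))))))))))) (nat_lit 41) (nat_lit 7),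
  Rule.mk (nat_lit 7) (nat_lit 87) (Steps.fwd (nat_lit 3072) (Steps.fwd (nat_lit 7168) (Steps.bwd (nat_lit 4) (Steps.bwd (nat_lit 7) (Steps.bwd (nat_lit 3) (Steps.bwd (nat_lit 7) (Steps.bwd (nat_lit 4) Steps.nil))))))) (nat_lit 46) (nat_lit 0),
  Rule.mk (nat_lit 5) (nat_lit 98) (Steps.fwd (nat_lit 6144) (Steps.bwd (nat_lit 2) (Steps.fwd (nat_lit 5120) (Steps.bwd (nat_lit 6) (Steps.fwd (nat_lit 2048) (Steps.fwd (nat_lit 5120) (Steps.fwd (nat_lit 6144) (Steps.fwd (nat_lit 2048) Steps.nil)))))))) (nat_lit 36) (nat_lit 2),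
  Rule.mk (nat_lit 7) (nat_lit 120) (Steps.bwd (nat_lit 2) (Steps.fwd (nat_lit 5120) (Steps.bwd (nat_lit 7) (Steps.fwd (nat_lit 1024) (Steps.fwd (nat_lit 2048) (Steps.fwd (nat_lit 7168) (Steps.bwd (nat_lit 2) (Steps.fwd (nat_lit 1024) (Steps.bwd (nat_lit 5) (Steps.fwd (nat_lit 2048) Steps.nil)))))))))) (nat_lit 58) (nat_lit 8),
  Rule.mk (nat_lit 7) (nat_lit 98) (Steps.bwd (nat_lit 3) (Steps.fwd (nat_lit 7168) (Steps.bwd (nat_lit 3) (Steps.bwd (nat_lit 5) (Steps.bwd (nat_lit 3) (Steps.fwd (nat_lit 7168) (Steps.fwd (nat_lit 3072) (Steps.fwd (nat_lit 5120) Steps.nil)))))))) (nat_lit 54) (nat_lit 7),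
  Rule.mk (nat_lit 6) (nat_lit 142) (Steps.bwd (nat_lit 3) (Steps.fwd (nat_lit 4096) (Steps.bwd (nat_lit 2) (Steps.bwd (nat_lit 6) (Steps.fwd (nat_lit 1024) (Steps.bwd (nat_lit 2) (Steps.fwd (nat_lit 1024) (Steps.bwd (nat_lit 5) (Steps.bwd (nat_lit 6) (Steps.bwd (nat_lit 5) (Steps.fwd (nat_lit 4096) (Steps.fwd (nat_lit 3072) Steps.nil)))))))))))) (nat_lit 40) (nat_lit 9),
  Rule.mk (nat_lit 4) (nat_lit 153) (Steps.bwd (nat_lit 3) (Steps.fwd (nat_lit 5120) (Steps.fwd (nat_lit 4096) (Steps.fwd (nat_lit 2048) (Steps.fwd (nat_lit 3072) (Steps.bwd (nat_lit 4) (Steps.fwd (nat_lit 5120) (Steps.bwd (nat_lit 2) (Steps.fwd (nat_lit 4096) (Steps.fwd (nat_lit 5120) (Steps.bwd (nat_lit 3) (Steps.bwd (nat_lit 2) (Steps.bwd (nat_lit 5) Steps.nil))))))))))))) (nat_lit 28) (nat_lit 11),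
  Rule.mk (nat_lit 4) (nat_lit 98) (Steps.bwd (nat_lit 2) (Steps.fwd (nat_lit 4096) (Steps.bwd (nat_lit 1) (Steps.bwd (nat_lit 2) (Steps.bwd (nat_lit 1) (Steps.fwd (nat_lit 4096) (Steps.fwd (nat_lit 2048) (Steps.bwd (nat_lit 1) Steps.nil)))))))) (nat_lit 16) (nat_lit 7),
  Rule.mk (nat_lit 7) (nat_lit 120) (Steps.bwd (nat_lit 2) (Steps.fwd (nat_lit 5120) (Steps.bwd (nat_lit 7) (Steps.fwd (nat_lit 1024) (Steps.bwd (nat_lit 2) (Steps.bwd (nat_lit 7) (Steps.fwd (nat_lit 2048) (Steps.bwd (nat_lit 1) (Steps.fwd (nat_lit 5120) (Steps.fwd (nat_lit 2048) Steps.nil)))))))))) (nat_lit 58) (nat_lit 8),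
  Rule.mk (nat_lit 6) (nat_lit 153) (Steps.bwd (nat_lit 2) (Steps.fwd (nat_lit 4096) (Steps.fwd (nat_lit 3072) (Steps.bwd (nat_lit 1) (Steps.bwd (nat_lit 2) (Steps.fwd (nat_lit 4096) (Steps.bwd (nat_lit 2) (Steps.bwd (nat_lit 6) (Steps.fwd (nat_lit 3072) (Steps.fwd (nat_lit 5120) (Steps.fwd (nat_lit 6144) (Steps.fwd (nat_lit 5120) (Steps.bwd (nat_lit 3) Steps.nil))))))))))))) (nat_lit 42) (nat_lit 11),
  Rule.mk (nat_lit 1) (nat_lit 54) (Steps.bwd (nat_lit 6) (Steps.fwd (nat_lit 4096) (Steps.fwd (nat_lit 6144) (Steps.fwd (nat_lit 4096) Steps.nil)))) (nat_lit 33) (nat_lit 0),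
  Rule.mk (nat_lit 5) (nat_lit 98) (Steps.bwd (nat_lit 6) (Steps.fwd (nat_lit 2048) (Steps.fwd (nat_lit 5120) (Steps.fwd (nat_lit 6144) (Steps.fwd (nat_lit 2048) (Steps.bwd (nat_lit 5) (Steps.fwd (nat_lit 6144) (Steps.bwd (nat_lit 2) Steps.nil)))))))) (nat_lit 36) (nat_lit 2),
  Rule.mk (nat_lit 7) (nat_lit 98) (Steps.bwd (nat_lit 6) (Steps.bwd (nat_lit 1) (Steps.bwd (nat_lit 5) (Steps.bwd (nat_lit 6) (Steps.fwd (nat_lit 7168) (Steps.fwd (nat_lit 6144) (Steps.fwd (nat_lit 5120) (Steps.bwd (nat_lit 6) Steps.nil)))))))) (nat_lit 52) (nat_lit 8),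
  Rule.mk (nat_lit 3) (nat_lit 153) (Steps.bwd (nat_lit 6) (Steps.fwd (nat_lit 2048) (Steps.bwd (nat_lit 4) (Steps.fwd (nat_lit 3072) (Steps.bwd (nat_lit 1) (Steps.fwd (nat_lit 2048) (Steps.fwd (nat_lit 4096) (Steps.bwd (nat_lit 2) (Steps.fwd (nat_lit 6144) (Steps.fwd (nat_lit 3072) (Steps.fwd (nat_lit 5120) (Steps.fwd (nat_lit 6144) (Steps.fwd (nat_lit 5120) Steps.nil))))))))))))) (nat_lit 42) (nat_lit 10),
  Rule.mk (nat_lit 7) (nat_lit 109) (Steps.bwd (nat_lit 1) (Steps.bwd (nat_lit 2) (Steps.bwd (nat_lit 1) (Steps.fwd (nat_lit 7168) (Steps.fwd (nat_lit 4096) (Steps.bwd (nat_lit 7) (Steps.fwd (nat_lit 2048) (Steps.fwd (nat_lit 7168) (Steps.fwd (nat_lit 4096) Steps.nil))))))))) (nat_lit 56) (nat_lit 0),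
  Rule.mk (nat_lit 1) (nat_lit 65) (Steps.bwd (nat_lit 3) (Steps.fwd (nat_lit 2048) (Steps.fwd (nat_lit 1024) (Steps.fwd (nat_lit 3072) (Steps.fwd (nat_lit 2048) Steps.nil))))) (nat_lit 9) (nat_lit 0),
  Rule.mk (nat_lit 7) (nat_lit 87) (Steps.bwd (nat_lit 3) (Steps.bwd (nat_lit 7) (Steps.fwd (nat_lit 4096) (Steps.fwd (nat_lit 7168) (Steps.fwd (nat_lit 3072) (Steps.fwd (nat_lit 7168) (Steps.bwd (nat_lit 4) Steps.nil))))))) (nat_lit 46) (nat_lit 0),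
  Rule.mk (nat_lit 6) (nat_lit 142) (Steps.bwd (nat_lit 3) (Steps.fwd (nat_lit 4096) (Steps.fwd (nat_lit 2048) (Steps.fwd (nat_lit 6144) (Steps.fwd (nat_lit 1024) (Steps.bwd (nat_lit 2) (Steps.fwd (nat_lit 1024) (Steps.fwd (nat_lit 5120) (Steps.fwd (nat_lit 6144) (Steps.fwd (nat_lit 5120) (Steps.bwd (nat_lit 4) (Steps.bwd (nat_lit 3) Steps.nil)))))))))))) (nat_lit 40) (nat_lit 9),
  Rule.mk (nat_lit 4) (nat_lit 142) (Steps.bwd (nat_lit 3) (Steps.bwd (nat_lit 6) (Steps.bwd (nat_lit 3) (Steps.bwd (nat_lit 4) (Steps.fwd (nat_lit 2048) (Steps.bwd (nat_lit 6) (Steps.fwd (nat_lit 1024) (Steps.bwd (nat_lit 2) (Steps.bwd (nat_lit 1) (Steps.fwd (nat_lit 5120) (Steps.fwd (nat_lit 6144) (Steps.bwd (nat_lit 5) Steps.nil)))))))))))) (nat_lit 40) (nat_lit 7),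
  Rule.mk (nat_lit 2) (nat_lit 65) (Steps.bwd (nat_lit 3) (Steps.fwd (nat_lit 1024) (Steps.bwd (nat_lit 2) (Steps.fwd (nat_lit 3072) (Steps.bwd (nat_lit 1) Steps.nil))))) (nat_lit 8) (nat_lit 2),
  Rule.mk (nat_lit 1) (nat_lit 65) (Steps.bwd (nat_lit 3) (Steps.bwd (nat_lit 2) (Steps.fwd (nat_lit 1024) (Steps.bwd (nat_lit 3) (Steps.bwd (nat_lit 2) Steps.nil))))) (nat_lit 9) (nat_lit 0),
  Rule.mk (nat_lit 7) (nat_lit 98) (Steps.bwd (nat_lit 3) (Steps.fwd (nat_lit 5120) (Steps.fwd (nat_lit 7168) (Steps.fwd (nat_lit 3072) (Steps.bwd (nat_lit 7) (Steps.fwd (nat_lit 3072) (Steps.bwd (nat_lit 5) (Steps.fwd (nat_lit 3072) Steps.nil)))))))) (nat_lit 54) (nat_lit 4),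
  Rule.mk (nat_lit 3) (nat_lit 65) (Steps.bwd (nat_lit 4) (Steps.bwd (nat_lit 3) (Steps.bwd (nat_lit 4) (Steps.bwd (nat_lit 3) (Steps.fwd (nat_lit 4096) Steps.nil))))) (nat_lit 14) (nat_lit 1),
  Rule.mk (nat_lit 2) (nat_lit 98) (Steps.bwd (nat_lit 4) (Steps.fwd (nat_lit 1024) (Steps.fwd (nat_lit 2048) (Steps.fwd (nat_lit 1024) (Steps.bwd (nat_lit 4) (Steps.bwd (nat_lit 2) (Steps.fwd (nat_lit 1024) (Steps.bwd (nat_lit 4) Steps.nil)))))))) (nat_lit 16) (nat_lit 8),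
  Rule.mk (nat_lit 1) (nat_lit 98) (Steps.bwd (nat_lit 4) (Steps.fwd (nat_lit 2048) (Steps.fwd (nat_lit 4096) (Steps.bwd (nat_lit 1) (Steps.bwd (nat_lit 2) (Steps.fwd (nat_lit 1024) (Steps.bwd (nat_lit 4) (Steps.bwd (nat_lit 2) Steps.nil)))))))) (nat_lit 16) (nat_lit 6),
  Rule.mk (nat_lit 5) (nat_lit 153) (Steps.bwd (nat_lit 4) (Steps.bwd (nat_lit 3) (Steps.fwd (nat_lit 5120) (Steps.fwd (nat_lit 4096) (Steps.fwd (nat_lit 2048) (Steps.fwd (nat_lit 3072) (Steps.fwd (nat_lit 4096) (Steps.fwd (nat_lit 5120) (Steps.bwd (nat_lit 2) (Steps.fwd (nat_lit 4096) (Steps.bwd (nat_lit 5) (Steps.bwd (nat_lit 3) (Steps.bwd (nat_lit 2) Steps.nil))))))))))))) (nat_lit 28) (nat_lit 10),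
  Rule.mk (nat_lit 6) (nat_lit 98) (Steps.fwd (nat_lit 2048) (Steps.bwd (nat_lit 5) (Steps.fwd (nat_lit 6144) (Steps.fwd (nat_lit 2048) (Steps.bwd (nat_lit 5) (Steps.fwd (nat_lit 6144) (Steps.bwd (nat_lit 2) (Steps.fwd (nat_lit 5120) Steps.nil)))))))) (nat_lit 36) (nat_lit 0),
  Rule.mk (nat_lit 3) (nat_lit 65) (Steps.bwd (nat_lit 5) (Steps.bwd (nat_lit 3) (Steps.fwd (nat_lit 5120) (Steps.bwd (nat_lit 3) (Steps.bwd (nat_lit 5) Steps.nil))))) (nat_lit 22) (nat_lit 1),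
  Rule.mk (nat_lit 2) (nat_lit 98) (Steps.bwd (nat_lit 5) (Steps.fwd (nat_lit 6144) (Steps.fwd (nat_lit 2048) (Steps.fwd (nat_lit 5120) (Steps.bwd (nat_lit 6) (Steps.fwd (nat_lit 2048) (Steps.fwd (nat_lit 5120) (Steps.fwd (nat_lit 6144) Steps.nil)))))))) (nat_lit 36) (nat_lit 1),
  Rule.mk (nat_lit 7) (nat_lit 98) (Steps.bwd (nat_lit 5) (Steps.bwd (nat_lit 3) (Steps.fwd (nat_lit 7168) (Steps.bwd (nat_lit 3) (Steps.fwd (nat_lit 5120) (Steps.fwd (nat_lit 3072) (Steps.bwd (nat_lit 7) (Steps.bwd (nat_lit 3) Steps.nil)))))))) (nat_lit 55) (nat_lit 3),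
  Rule.mk (nat_lit 5) (nat_lit 98) (Steps.bwd (nat_lit 6) (Steps.fwd (nat_lit 2048) (Steps.bwd (nat_lit 5) (Steps.fwd (nat_lit 6144) (Steps.bwd (nat_lit 2) (Steps.fwd (nat_lit 5120) (Steps.fwd (nat_lit 6144) (Steps.fwd (nat_lit 2048) Steps.nil)))))))) (nat_lit 36) (nat_lit 2),
  Rule.mk (nat_lit 7) (nat_lit 98) (Steps.bwd (nat_lit 6) (Steps.fwd (nat_lit 1024) (Steps.bwd (nat_lit 5) (Steps.fwd (nat_lit 6144) (Steps.fwd (nat_lit 7168) (Steps.bwd (nat_lit 6) (Steps.fwd (nat_lit 5120) (Steps.fwd (nat_lit 6144) Steps.nil)))))))) (nat_lit 52) (nat_lit 8),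
  Rule.mk (nat_lit 3) (nat_lit 142) (Steps.fwd (nat_lit 4096) (Steps.fwd (nat_lit 2048) (Steps.bwd (nat_lit 6) (Steps.fwd (nat_lit 1024) (Steps.fwd (nat_lit 2048) (Steps.bwd (nat_lit 1) (Steps.bwd (nat_lit 5) (Steps.fwd (nat_lit 6144) (Steps.fwd (nat_lit 5120) (Steps.fwd (nat_lit 4096) (Steps.bwd (nat_lit 3) (Steps.fwd (nat_lit 6144) Steps.nil)))))))))))) (nat_lit 40) (nat_lit 10)]
noncomputable def R : List (List (Rule)) := [R_0, R_1, R_2, R_3, R_4, R_5, R_6, R_7, R_8, R_9, R_10]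
def LW : List Word := [[], [0], [2], [4], [6], [8], [10], [12], [0], [1], [2], [3], [4], [5], [6], [7], [8], [9], [10], [11]]
def par : Par := ⟨10, 5, 15, 25, 1023, 32767, 33554431⟩
theorem hpar : par.ok := by decide
theorem hR0_0 : lall (R) (fun l => lall l (ruleOK rels LW par)) = true := by decide +kernel
theorem hR0 : lall (R) (fun l => lall l (ruleOK rels LW par)) = true := hR0_0
theorem hR : RulesOK rels LW par R := rulesOK_of rfl hR0
def cols : List (ℕ × ℕ) := [(1024, 1), (2048, 2), (3072, 3), (4096, 4), (5120, 5), (6144, 6), (7168, 7)]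
theorem hcols : lall cols (colOK rels LW par) = true := by decide +kernel
noncomputable def JS0 : List ℕ := [nat_lit 0xbe98d2f40f9832f80080097a078041822f6000bc83a5e8c598c30c5e41c2f26280818a2f20d97c2fc008bc8345f0bd1792f00c97b2f25e0000105ecc09782ee0c17830c04c05986300008018022ee0b9792fc5f400978058bd18401260cbc82a010010285e400826004000245dc00179300034be00a2f8600bc800044010002ec004bf80c0085fc00976040bc17e300048099800165f80017503cbe97f01e5fc0117d2ee000ba81c5d8be17e020044068102fc5f0ba81a5d4bd8002f65d40c2f60000b2ec008ba1752f4051732e85d4008125d0b9972000041732e4000b880e5c4bb80500c014bb971000031702ec010028090085d8b800a008b917500a5d4b9002010b88010005c0008000025c4032de5c0b98040045ccb8000008b7972006004019722de5b801,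
  nat_lit 0xb89a306269c191a22e01c9733446a0191a104a5ccb90705d0d103c0720f0cd8203325cc370025dc001740d8bb0002ea5d0222ea094bc174060bb19f056684161962ea1a97a0465dc252f000cbb84a5e0ce19f3045dc340045f00097a2f206007302600001790ccbf8212f6000bc8645e80f8202fc5e4312f8668d099d0586040317a0c0bd9982f40002f2f265c0e9790b8bc9960385e42d0005e80d8190426380b18f32c5e82c2f20680c81a2f2159790445e4252f4658cd18c2f21517a32c66c1702d05c66ccb17a0a4bc9953340a0cd1952f214178328664151993285e0272f064c119932f01317703a5dc252f0644c997e2ee120000025e400046000bc81e2fa1117803a5e0bb8425e8c701c31c5e820,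
  nat_lit 0xe0185ac0016413c03007004004b209c5a40500c2e4694251c53540a0d119d2c80004d2c8594128242c62616500058c492c85a0da9c837e078c999833858c4b2cc6c4da1672c62516500058c492c86bcd90370745a4b30012d458c482c86c42a1ae2c623966002594b20445b0b31640000416435e594b18865a0d7165100b301e2ca1296635a0f0cc165118b39ac3645f0b308a6a0d60002d02216a0025a4b4044698d296800004168352690b388659c1502605459c422d46a4b88022e40b8b48825acd396a100b71a80766a0b707e5bcd403835c0e4d396e0f8b802e2de128002e80acbc9780f4b99a635a6cc1c1b03305c43c2e4694d61b235e0e8cb9710ecb8196072658b80185c4d183305c0b4170333465c43a,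
  nat_lit 0xf00801e3401b010339d8010704662e80206531e01c118c8040030c66fc02822188df80403c2f9840060598b0060746137a008090c07300083e17c200003002f16c00058cdf1da3742e80200a05c0d1640085940281600058cd9162170000173901b0ef1df3c0764ec1b830a03cb10b6050018002d20585a006004000a25840197a38a7202497b2c02c8020280380815f160ba97908e718e197800257c572c858c0095f158b09602be578552c25880015e068b09742be578182be6f8ea1c4092708bc97201c578542c46f8e50292c22996237c18c3006337c588392c26f4310610c46f4b084e6e8de9652c858c522cc59cb28a20a4b480500c024b703c2dc024040012ca00050,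
  nat_lit 0x1b10063c848006329e000831a000086cc783a6010d58f017c020441dcea00318cd80033b6349fd00411c760b4008210ea698009d01a43f80007e3a0740ea7540205c0080c81980134c1d03f07534839998332014cc80b01a000180010b200c188411c8061a53b0774fc87e0fe774e905a0040c0188e215c008590ae000700ac0002b99632637980008099900083582f0103597c01231818010339920125ec6e0a6028c58da730048260081400a1b0130091acc800804ce180904e32175010350150105c86904e02414,
  nat_lit 0x1c4018ca76c011d81a10b0021e51080137243a1900075874452000da91a8990580e4162c5071e8000839132284246d08c01683403a0a01c0350520d22cf10012283800002cff0013c044a0300009a150022208843c008794420050090e2a4008ca8700021a219000003f84280310e0080188600a008028863fe298fd881210eda01000008430003fc0080020120cfe00220800881002408000fe000800007e8fc8803f27f0009fc3f23f9f93f6000fd9f91f8fd1fb3a8184019db120758011d43f6278fd0fa69000026704420163e28350400211c8210a2133fc20cd18f817ce980111474c7b3ae224001d73ac291d4000359cd00674c7a,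
  nat_lit 0x2061900a8642062940020347c31c148c747c80ca64048f00023c404529fb000098c1416059058c13f4521e008e7c11b0bc18a8642500010e519ec17685c0001613a8602494484004899000848a11340210594025503a061240340480140c3010413e2510320501c8ac0400040a2f10393c0c00600d060030018670084e8564340010d0562702300009e2789b0022bc0500c01489c022274508a4e5846268e206200000d1313213023a2a19a8f51f23f4668101608a00c00898112020028011562b85882e25c228aa0002a82292c00c441fc1662d8fe0071100180192a79000104728001e325004a2746e88000803000298e49268790f8c70148d90f8000044921e46a0246321e00020c009228751a2350268d9151fb3f408c43881000088903e60304108123c409f301620443046298018a6046471be002098720043288400616875,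
  nat_lit 0x8015112233c86100044497410a1c30510a20006010f20084360810f80e00c014f1980788030cd00c788203c40190c8e10b297d3224600a78cf10022fc0d2211c6108642451d0910f19e12f80880e00a7800017a77cf00003c077ca53be00c0700a0005e0093c802c011de2ec621de3ba0fa121b41492c2640823a53225e1c08f8ee974780f080e01a770340c40200380a1528506c0dc4ac961181dc2e502052032894560ad0588852a24e0a2770b841c8480021241c5b800004774038a62d80006d48c91413a1e1a8840b511a22c098684021c00c9d92d0038853b059a1749a944268ce056925280d645a010ec16400850a0c01a340688d241a008eb9622c0011d6000010410151040100016075cfe22f02a8a42c8013aa578004523242400f43833d0515c15c428863d61802f9ed016254329df002750ad45e34926a3217015c6085d02e8acfc9d40005607d0201f4eea3c1c03891d8130d27e0e9956764e98003a6764aa0002d117a4b4983592624b45e000a90a62f4608211828f11c8690c8034ec1d12a0002074808fc01a3f48081ca7,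
  nat_lit 0x133f67e0d949091000a444903f1ff0007fc514849f48827f4983603c0d91b418c071f90006c0170027d4028090fc140881742e52da66504418872774607d4fa1ae0500b9fd3fc0380e1ff0440ac641f43e66b0df1122dc6309318a7ccf91aa36829a020007c4330060041d9f1350112190747c0d3436234610b4016010011f03480180b4987f4f79a20801c01f3dc1100042c2c4580d94308540f1a01f5130724eca013ea620d03a5312650047b4cf00a7b4f60807b4f700d01c04c0901301c034f71ed0027b0ce4c4415309ed3d6668003ec0cc020023300c0a9004004f51967bc021eb0007a8049ef018650000ee87037a6e4f09d92d85f1c496d2e9e9324002403e60583b1908fc218674c63a47924603a7d0f50003d0638014643bd161e806cf4803000004f398c001150ed09e8c0c14528a8041ea01e05c009e70060200481b3cc629e6004088011e62a9168ea450004f29881652a04f4aa8b85da340ba3051a8e8448794c3,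
  nat_lit 0x100030050088384c0800fc0280341a792100160381701b0389b1492aa55aa7d34a0d3c530a9c4c60f01b01e06c0f02da6324a9a1061e000d0f22809e82cef0040d5051660040f81e4482648e2561263b002806004828ee086110270a708a0b004a0b00600401a093b41981b4280a00420a000820ec4128290601003601403816016820eb40e02c0880b40e74a07410818250e2a188721302001c0320f04e011030003a902802008009029d20000d20840e814e80328280520640873a0401a01101842834058044047300040c0340f20b0468140520b40472a0500280801816034825009c8004000094007180000e824051c40100301c41007d0500b416094120013fe709ff004809018d71903184c09713003d011ff3812990c0944348725c4b616043a3d4047f8df1de3146aa013fa1200d1d0840071fc378fe01a4089e148a9451ca051d0d318806cfe1ba0010187c04407402a043f66e202042071019fa0fcff01044e030fd1b61cc091fd0187e4da,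
  nat_lit 0x5644f92e8fb4baac8000014380108e12aa3159ab026e2d85a137560ac89ca1a004782511a495d5aab819e4bc678d51b40050c0002304789322e2e48e9172302e04988c0008588949e9411021f271100084949410fa1401c022260260000121f00a01003a12001412b9296a8c31240028842814fc1702f23e47e18492a1e43a83a1c0081cc0221c4191100043628a2101c8840885c47405009a722722710da0a0402ea9e28cad13e89c4348207053eaed5a09d134864002061bd4f29c23e8610200a01939a7408a14805a1c0068600006100e808620cc18c2504b46200d0ba00954398bb42e858ff43401d0c80042a7f0050600ed0a9fa8b0212504287e0000c48dc300ba1d00090a9f61851b05e0c24013586c4d6001099f41642d0e800084cf916a1541602d01e0310b008078124012133e1362a64d4005091ee000032140140250a2134247b039454005089ea138012114207a228086005081a68941da230480f41381b032845081e601d0880900483c53,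
  nat_lit 0x5218232249d1220014749493506a8e91ca509088a0984d6255502dd5461801b2480588e5270083649e8a41baa3c948e95020d123a384992182c5763ccac0b226c8e12546e4d45a13546e920012748d8002468d49caac46a16aac2c25744d29905c9091aa448d01785905e8d0e9004010108230442481182100800d210028cc1508c4ae1c12b06d4ae2301523300290078534b4d4b0794b4970a188d11c0180223247d1882704209d18a3c000118030048c11d47a8f11da3a45e8e0230a294032a4d0c013c222450904e117a36090430871be8b91a03a1fc8622d4652d8e52688b02d0021a51d82d0688f42022c4600300500c515252490948ad170ce1051f83e4548b00049016c2422945523a450b011d142280107b8f80140180080200c01c00a260bd1ba3b4780f01f0d654c3646d00300489d12000014040921ec2487a80244c00111008899129b20012e0ea5523587a00644a880f64aa3cc02a244187e25e566004002b34bc3f10f,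
  nat_lit 0x12505b2b606e2d85b2940a6006b70c00ff49e9f2730ee215270004cd2695f1b057d268569c046ac92ac96010a5101e93c0324d0029ead32bcbfd7a2ed02c03405a4e00a93000a7892d2616b49892c264940092504a928b52e45fe6157216a4949da492105c8842494e800001166921390002c4592474e14192b21041d6d1162589200180100a91d3748c0192304a00d23a4f0924c48828a48c9b15e2be2a9228002f5221281764a1220560092201702804c0a0174889aab22eab080aa434d12280a01e90800266904088100229042b4dc2204f09f14450402a414c8120054849052007e00120a420048fd314800140380147c5280d01493d4628a1ec5344f89e00e9011f2600181d80447a9783b4800091e25cb58b10c127013c22a524a204808a420048f12d4cc1f01b03549a93000a3b4b000802132268a52c215cb08a509a1320091da568fc060860028e92a,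
  nat_lit 0xdc0aa65144010014da0ad3903005802533a6801c995540daaa55a00e4c8a9817012999319a898804a654c4a926203205ccc31002e065312a2985348194d2984424c00582a8164c09d00000404d2faa0004130124bc69a5e0083440225e2dc1180c4c40052ea9e970008030029714e00097404a780c033c0f2615352d8004ec0cc17a6a05201d2e25b5313aa740a212c130064b69694b4b40153302806c0d01a8320621502c0064b4a51460989c01226500e96d2ca9212c9f0db0a213814a664b2a402e4d018415a5851c168294ae12a650589b8250260440012ba8c085310274c80a5328580c02e4120024aca2a6e4de0012aa885d4bb0c1184a545f82804e0a92ea5b4ac9554303e0a81b0004a8a10360b6b21650174b29500028294c0780c01e94c3f4b02f94911e56c4112a2535017cb1060e598648070069493f4c60ed398034a22725000694025,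
  nat_lit 0x27a0040ac0127a4193c8024f22880004c088130005a8128240420901102504c09c25aa34f29e1694ee004068014ee1000d0200653ba765a00501b1162113b2ce0b03e88153c9d566350694900b8602bf469aba1de3755f2c04eab2a790fc2004809257e9d000ac80153c81323c68cd21a54e6a6a7263c7058f2720fd3b11c34268938ac60080603f0180096200a9d8060515180313aa70585380044ea9d137ac0018038064dc718100fec398a1511f4b155f0eb0f80340126e57d368004dc9b42d4da00005a920eaa480580057938a760320013620c9cc0a0154fe3942e85a5241e95b0030029b15d0120f13e8034d6ae0020660c53d99a1cc1d47287651c1c135ab69a8378700de9a83f2be9ec1a90f4d2ad0324e89cc012695641f27b0781002f8590b6168608410089a5584f69bc0a85c07206534a6855c0d28900299d560d206133a66555438184da99821,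
  nat_lit 0x14400450e28b3d6c67f5ab17d3585e40100650ec1a8850e000d9670d64f7b4867a71544002608bb30f306d4cfd3603ccce000003604000013525e4bd9ec6c0cdd80000c3dab1ec68ace8e12855fd871db2585c19c1c02d2a10002825f94196867070cb792b3b4d4d96a825f40028a694d20a714a694a297c5127404a89712a7414484ea21a414839a521a42880d5448032745199113a006a257b61e498e791d35e009442f401401a87000bca86004a1d4305a509a214328ad04f3b4450e009432f00097612c3464b17600250abb801310005422eca118d12468447da1124634a11755d2d14f5342246c6541ae807c1cadf5bc5ecc1004506b9a9607ea8150a95020019412e4a0541009504a0426044a8549802500b880c0049fc255b85f94d0300620214027f5c01b88907600d3f2de0013e8014fab727e4fa0013e2da008008024f80101682b00800d3e2d8a2c172890069ed6b,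
  nat_lit 0x2ac32e7fdbeb846aca380128a512cea8c566dd9bc9fe402d694aa8a512ce008528d64bfb5a016a300028866c0028951012a8a52a0314b020046a980ea92510cd28900ea8c1101e32a7200c014510cca8e6a6a6c07a9a6a2a2598516a314484a748a79f528474ce934b000a2597694744a70730eab1963a8b000a2596514b183c2c50e4534e814652ca259551605d4f01c540614ee00c016a29943aaa354628b64c090010514c80002d452890007594c32475545000510c8a89696d309a9d268aa2000320a1da21d1268d18e8b4450ec7a9e69a7554c01201ea254431c001453482dad1d442876354480f020044dc808008a218c516d1da31cf68a5a545316a300228b144c000200ca38d300551801945b14a31458003654d1863eedada39ce518009892fec5db01e72705f0e829600000d88000004d93196c07d9a7a9561c001813067d1b4344396a2586300d6500366680720b9288000a198550e5c5a11eb6ca7fdac18851ca1984,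
  nat_lit 0x15f6ccd9c07335120ba80bb26288d788c5d205992945286d95b300d11ad72cd000410b3124050a401065455cab2cc6b5838e212404ca380f63cd6330012d89b095a27ec84092e5116d588b00c32ae400a450520083585d0060980500405af800a328b5008451eb006214781ac008675ea004131060000b6acd549980126ac54032d90f81f579b544d58a805106b9034ad159eb3830b52c4c020831a6be45d8ba16c2e1a86304dc0184a0981280193769c690d41cc0096b883148b95a6570000825c02056a8001c8bd469aef56ed287e19c38800a870004c9a4688d18ee34769400143346380662eb1a650865891000a19a2120328a12b7002a1d433420c1a015732aad8002866815ab6f42ae15a994b50c00142b3ea14a51e0294a14a5008a3dabb8571cdeccc2ad000a259e,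
  nat_lit 0x6201a0a04901c410f101ab25bf5a6030131e602d640e84ac058461dca680a5c8448042960255eb7ccb004ad26f5998080b64494700e3380528a0196a37810402b316ec93805084dd32a008151b925e00c67620009633701400092e1d16600127e302c90044ac605c60082036eb20008d6164012c56d82d0010783403a000338564065c4bb001374b601cb6abb84a161002584008945dcda1723aa7659c80067275cb9366048078c15f80010898c03003c09364b4c00104be85f8166d6da000b686d662907ad26c40d325280000a03256c8d85b0,
  nat_lit 0x3020000585e00abd1c500a0100b5d40241301a02413002b900538816c048d40202c805000e1ae001005ade01835adc01e0987501ee006001c4530601c15db65c0034018dcba8070f204008ada7098101209adb2d3022e08580223286f022e02f5020452ce020b447a5c6040795e6040820d603c8a5ca041660dc56808051225a180f5a43705201e3293701cb68780ce039c0,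
  nat_lit 0xb99726f60ccd68022dc000babb20c419b7a316004c583e076ec1aa0626ac001ab0626a9d7302dd800376302615bb0046ec615d66ec0e9bb989316098c10036eaea95c6d4654c0002300589b5ba8de8121800025fc2e95274cc78232fe000bf82331ee917e04463c003cf0045fdd160c0088262e00882612008827960043c90cf3000888740e68020f6439b8004c04640f0009c037e0058090af04000746ed268005fc431136924f9aa0036a843da407373ccf05e346088bc8026a6e71620425e000978042589cd1068080017704094587b988044130d002c51e6b9b402e59f978cf318a000626f18fcb94c49010403f4005053137243eb196fc001bc03f402c44023907e10a1f807c6ccd71bc364e3b143ec0f4d803d3fec3dc60f0008145ec005c1,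
  nat_lit 0x30052781f14689527c039f00104cc4028d51881c49b7a630f780c6f851dbe1722d8c5c00bdc258bb9632c8245bc3167b58ab771206704837762af63170125c1eec19540fad8abd64d83b404559071f53147a58a278626001796249dcf03120b40231300a5b1eca9e7d0c49ea2541ddffaa7832f9d88bd2c413a1dd6201700070257dbc95c6f257dc08007a1c015e6f22209880161ef3b11620c3d87232dbc9d13c1066d80130e799870012ca591bc965002c39e5004d08d6b932de5b443b0d790971026b4214dc086618f1801064005313c42d8168004c221bca51ef4c3814327e12de16a63e1cf0254823e87bb53780502704329bc1999f01e920533bec20409a93506d8b70016bad6c413bc4ac960002dc688061a071659dbabba4a03d3cf79602ccf16d2d6ee337002413060024134a0001fc686a240c0116f6e85b45707d608ed9700025d8001760025c1da,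
  nat_lit 0x1968010c8005968fccb000b2c0942e05d12acb000404cadb98ef6e6cac2b0080080200b65a3a4bd32c00ecae0165400405009016da210b6c0050032b1ce9d5953297fc0432a1ccca5940941500100364e7a806000c985164edac730e81d25d1930015902a04f00a011930e24dec95fe64839c730e76481f9fb66c2b8703237f5b34295a10ade78df646004003f8005af2588510ad023ed1bac89fb644ccc568ab642fd049096121aa0016440119833251ca34fbb217e4eb09f206dbc838a8006c85f81963202484b0a208590b207dde10907822684abf4560fad903ec1142384903ec7c2a042ca84401c63c85000644e104e90620850df5014c9d9331d7d00c81763828800008034020007cc00b1c01802c02804644c6df2636c794131e6361fb1b00400c04b1a7c58d31e01ac798d12c01c00804000c6531,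
  nat_lit 0x68a001a28a2d147d8751fae09a30050103f43a8fd1f6d161a6883e87e3830f02d4879107282d47c8fa6890cb431ec3d43bb8e886a11c88f66870c00f688015c03427f5a107804ad2ccca9552cd2c1287868400800c2e004020031e89c878b418580137e0e41d9a042a004370f409ccfe14000dec79b7a67d098f41e21c03782068c40c6880700800d9fb3e8499eb3f012029a015c2bcd019fb3d8459e800006cf61000000dd1ab50ba86a13c246ac0120f004e890cc255588a4a715009a00e0e00254828bc33783f46600283400150742564ad0ca6a20060c2a013cdf04d2a40059c4160299d804670cdc422a012ca839e2aace0023378299b00066c12b3673853c2a14f738550a933600104b357381109892e262111ce3350a403805088e4021b9b6690433373410897042734ccc27004cd004b356fa3e99b8110c006c0e33381d990c02a262ca88c066503000002d1998a7200060b456609c34666a0240580901004032864008cc0010008140132f660ddc778f51e4cc197802810010812e85dc4080265c00203,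
  nat_lit 0xe171bc35b8adad8020be179ad2cc004339921be8dc0c0028a8008166e21bd693716b4d66290c41682c0036b11435f09000dab9ea128273576ac7a35609903c6ec0f098d5a06006005b204d6aa9d04421e12daa2dad89bb0580b215db905a0a814db73736d8d52276ae02dcc8476d0da426b6a6d6d4e266d616c2d054096da5b53528942685009ad44226a4065a88005e5a8018032d412e6a2000010006a3123506a2015c990d7242304590a10a061a7c46d39ab0196acd389c69a0500ab4d5549dbaf290580c605d6c4001a6c44d842d85d6be0f91b2a300ad39a6c42fdc6ea157e488c0200269b10106434fd150c0173ad35a643ed6c00b4b0940003c0bc0f0002c4d641c1007e8881ff39a6950f29b180fe4403fe732d261d0060087dc0a81302151901694d261c002165c39010f2e1da4b4886c003851fcd21a39d0e107fb8568ed184a,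
  nat_lit 0x1b839f110e6d34a68746475d0ba073edc245034bd07eb9e6df2218a1fc62df43e321f08c00b6f90db9010712251ce88a008dba420021c8db1777c043610c820003907d7349c87202a0400901e038dd81082501edb5b6000900000840fa2003bb9172c2247bb98110005b5c7e1f1c92614c0bd9303930f01bdb7b6b6d51f39571a08c0636a8f400b8b0080180c8760da005b500909c025b54780280f04f010da63b71200801b696d11d0026d0011b481302004db4b680051c802028009b3805098128028046cf1c3876de068023668ddb280309400db2a0cdadb2b6407c003646d404c2e0166c8002360001142404a6f402406b638d423b796f4f049bb7d028d8a346c4188370626c519b680c6e01bfb618c8010030260540e8036c4d86310e61d4733626c0ff8206f61e5b0b5f0f400c458868d221c45002d7e306ceda1b48a725a1e1afb5e8bdbc361008d7c328670c6df02f05d6f41d1af45c110540a70ee16dbc3796c203dbcb806bd168006ba1c1f01ae7c01c1aec58d70310640c4d711e,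
  nat_lit 0xc999f3af058cdc0331e14dc2cbe60dc3b8670a00c0084f7092f0010b802dc438797426850314605c2b847060065c0b43646c0d67c223800b8296dc0b82002e09c088c021c280c014e401d39513624412803002e065a000008110020012c80070ce1c0a812344444bd3809600002211a99e212ef816045c338595c1081b038e1c03b81700dfe56758264513b525f00ccb804700dfe5501007c460a81a434400b7e951021fe7de5e0c180200adfa53292808c999435804c01b7d949d238e70e005be4a2000108230d2e70951bc7fc64a50708078088026f60140237b93dbf813032009bd49c001bf37f006de5316fa0400a0026f0790006fc07c0ac9adf008821006dde4c022de5bb8016ed15b7601007800c96dd5bb0046ecdd50603801802b745d800006322415f68fe31f250060260440909412e530a68976fc011b98019242b8580aee342738d0b21904b81e006dca48000089bf83b034de80137191c100216fc0e80cb79002dc246,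
  nat_lit 0x7360242a0097361000f73e05003b9a9e5ea3dc19a119d8807736e6a780d009dd302506c009ccceeef5cf800730ab01101ee6c05bbd0aa00c023ae01201dccb989d82907315b195450b008a08c023979d5d93b31983e8668b108808801b969d0273b2190f582000672ce54dc000eb857852760ae040082f2dea03e056e8c16ba3056011ca4e6e79cfba0050e981c8c407a00dc9ce40d02684e0d02b800b929c4000ad0ce188338ad001380ac0cced033a0400a00dce3919bc1381c720288027420d4543c4148fd4b74dc0041883f0a6eca6d000085cc9660a0139db2844cc9a38e71b361c583270212932266e35c64d6004031332684d8f51bf30100dc64d410c22c8969d24898b8b9a40213125e798f41bd2fc6040138b9a00098d80884d0c9a933000667712e282d40581101e030009980038b00d018cd126335018c99949942c193314600bf1292fc60000387990c03fc2f900c02002712e1e6300065401801006654004c500e0299d8306de03995004005c34c2e1828ba1752ea83706d0deea9d4ba10a2e1a60,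
  nat_lit 0xdc004ec84900a3d9ff978540a7cbb8ee0ceeca9104a1d47525d0c2191e83b1a406d8e25329692e06079eec28f072744b6c810bef39d7d1cebc023c102003dd880c774f101e00475f46a0c2aca8d510cb020ebdd7518339f600f75ceb68b7580041e00175919bab0080ec023ab5381d0391262484a04304eeb5d600800aeae8a1042181b83603e0783501775aeaa897b4635ec06c036ec1d63a9a203687d0d0f1810804004ea287770025d384a015d40244429162d221048ea1d3d0cea008bce0ca1681c83176c015d350a09411baf74ce94cd75aee00fba5748253a3002e8c5176c0dddc03e07817c530750ec1ede701c74742000060f785f90530c069d15060bc5e188032e8682100f2c3c00c7434082d0fef2805ba0a0000bb72bf2925429617aefa7f000ed86abb60013f0450c0f65e13bb77213817026052eadcfb9e9f411ba903c06c0f3c578c010018040f60a5cf4f8ea81407a0060027b004f14330640a41101ebb1084eec0539d0033d19f2b0a2cacbb1018e71e6,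
  nat_lit 0x7b40d40c3cba981700f022f295507d006011b7374135ea81679c0481b80279552c5f9cce9583ce530a761ef004793523db05a030073cc020001e45460d5f507609a12dfe8a514c2884d87900af22a278e01402076808336010c27f2f2002bc7a86289809c33924427b004f1aa07b01283980278aa105114e291e2bc44766d4d86d8b187385b05a011e2bc4a7df207405ef38023c47860069e002f08510a114a284513c27c9e0bf216efc9e087ef004f8a313ef00a500207c1205d4c038813d3a001e30257949c01f7a427c508a07de2dc598b716afb9df53812cf19ed44004de101877b4dbbe134ef025000f15e30237880bdf6846a68118347900c041bee144140023bba65ec3d90c9179a10dd7fa13c01bbaa603a0e11f6f8c4101502c12ddd3b9a5c113d70c8fc9f83e8772ee296034151f70ae7de2c85d3ef15e2b5f3bb8a55e6bce39474ce909912cede94006edc020e009ef3827059a4c21bc800e0100580c008eda92088041db80376ab5bb4004028013b44180203d008ecc22,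
  nat_lit 0x1f28030f800df2a48f9001be4000bcbe3004011f185c00819c1182631043be57c75c87802c0440688200c00df1570f85f10037c4f84e905f01c42be27c15bbdf00ef7c250000080480b7c80740f807ad800bfe7fa10021c1012f01c4f88c104f7def56a0003e8607e6170358057bb5a07c0befc82c86900800dee5660002b0bf0fcf7000bdb9280580a02cf6ded564f683ebff0f40b81607d7b5588007e2189fdbd9ac032040082fbdec55e176010580b21c01e03a82a4960b40e7b1573f57d002decbdf176f700d81a7b82f1ebd5a7d8600bd0de0d81bbd6ab00180603af6dea96ef5dec0187b2f52ab7a82e85d8b77a71d1ff016f54079df01e04431bd3aa9ea0100be189e93fef8c25bea7a20d05b14101de8326fa5f53cf145eac0419502c38bee00ef400605b02ef51e7d52049e9402191009e901579d543db03205c3d07902ef49e6d4e041ed0187a2f3124,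
  nat_lit 0x1f400806d0160340880e01804be8004012bc7cefa00480d012fa0043e7aec003e67ce0400d01b008f9aba]
theorem S0_c : blocks (facts 10 5 15 25 1023 32767 33554431 11 2047 10 1023 A R 32) 32 JS0 626 = true := by decide +kernel
theorem S0 : On (Step.{u} rels LW par A) 626 1650 :=
  steps_of_blocks hpar hR S0_c (by decide +kernel)
theorem D0_c : allB (defOK 10 15 25 1023 33554431 621 A K) 3 2 = true := by decide +kernel
theorem D0 : On (fun r => defOK par.W par.WL par.E par.mW par.mE 621 A K r = true) 256 640 :=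
  On.of_allB D0_c
noncomputable def JW0 : List ℕ := [nat_lit 0x6a86aaaa57b26b06ac7b49285ff6b27b7aa930953193068e6a6a5c355aaba5e7feaaeadd7f87fcab0ab69fc67d7beab5aa66b5767a6e789a7e6cd7c3acb7d66696807c1a3a7c87c7abd7e4a947d8ad17027da7dca52ac56917cba586967d37e6a96ad3ad0a98a9a7dda647d17d5ac96bda6a7cea7aa7ca846c5acd7c57d77e7ac27d9ac6aba7e8ad56a969eaa4adbaa8aaa7f07ff684adcab4adfacaabc7e5ac4ad2ac8accae1ad4ae569a7faadaadeae07eaae480080280480680880a,
  nat_lit 0x92a9f26ff9f4703ab1711a5338c38e7733903923943ad98e6904b14df79c692a407cca447caa3c646abf2eb5b19a0629a595fd5f637ba976157a245179d79f92465aa826e9a99a8e7992b763d7a49666e4a9b7a6a658b86547818a68c8652a427d0a46ac1a48a4aabe2e15116507836bba6ba68a7b32f33378d3543143dd2d4a7d64ea749d44cba72331633a855b37936e278fa6c6c3a266cc7c27c4ab9a50ac3a54ac0a4ca4e7d2a627cd7d4ac76bca607cfa786c1a2c6c4abb7c6ab8,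
  nat_lit 0xa7933b34178c35e3474042d66c0662a719d667878633f64aa2d9b675f6da75b9292a94124164143063052955fe9cb4eb6005f59c834252c52852a52e34653093142842342536a42692e67067466ea5d6b977777842168f6a777a35f77ca5f671aaf6737bd65e4bbaac9fd42953e7367388a241d5414f95427b6aa7536539a6f31f3197853133083dc2d278864fa705f167aa7331762da7f5cf6df6e178e6687ba7c07b86e56f0ab741b67c76aa3b5996b4766385a959d27a063593c79e,
  nat_lit 0x2b551097d51250796c50d2e097a6637826ba776a692be32e5a45a14c95a65a83285d532a61a9d55dc9b82274c39654cc4c84ca4ce3305c83325de5d95dd5e03a96329da9c69dd63162b2ec5b05ae5b29af9ac5b490e980a8373f7926e3791a6d32732b7843123154052d76c2651a755d196278732964da2761d6dd6f775aa5139639877239c39e3953ab551a5547d5c29466932cc5c95c6573a4d5f99c438077060b63e601a4f640a638b665578025b77e65365767667277b6b8a61779,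
  nat_lit 0x3885cd5919c75f35f85f737a4f84814fa4e79734f13a557b6149cc6126109d106745645245445093d4589252fb3f82513712f630137665c7226e86ea9e972591c706a2870aa8ca8f71091a664a806faa8d6f17982b649248c95148e48a49054c63c55a4d99e155d63a8984d69649674d24d04d42948b92922961c928328f25f1cd2532628a724f2612b98c422523b3b88c93bca432a82a376d37e8762a62a556da4750360d63076f3b55eb9ca577a496055830954e54dd642587a4b644,
  nat_lit 0x92b88a3f525d36b3073f21f79f363772f63496a7333fd6256fe73e75e74175d2f97317239f56eb53d72b53338d98453a4bd53c98784443a93293539143443813943b44c93893b3934393ac97038f4fe9759724fc55898f55647f93a55c98c4aa95a4b24b095d42d47b1764b94dc4974de96b4e0a412ab27376c1b98aa2a726e56fa454f762062276e3b357f61e617a3d58f6022ea9935095685219905662b25849a158858699e58a3a862c9db62861962e62a28d52d57d4fb5fa5fc9c9,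
  nat_lit 0x2f0992a0d5df6f56dba0a2cd9c25c45695f25f49c53432aa30a30c2452ff30442092c42242437089e92f2f89eb72770b65f9e872a2b84b89619504bc4ba4be24b25825425625a8a38a05403975435465445489865324ed98552b5345375382c031e5b85ad5b69b15a93169c33185ef5f09b05e12d05cc5ca5ce5d09b55b52c464c73c61b6de6e0a096567bb66f7bc660666aad41a92d41841e3b98a441c2cb5859a759a5985935973844ec4ad4ea4ee96f4f03b05799d36166189ce9d0,
  nat_lit 0x3f1563a816f36e6a0e7902c33269a65a059c59e9a92234c29604c04c49634c62ce57173d5ee6dc740a0b3f79dea296f26f46f675c3789ea49f72e63839f9ed3aa9763999795065014fd54f5505544af39d55298d47894b47647c43194847a08747045346e47294745938957097c5729999965673a660860a51960c9cf60e28c8b728a29027f8b028e2c233a9a45ac4c59ad9a82c65db5cb61c9d759f5d333e5da3405d65d85a79b92f264ba0c5d76e7a0fa082c85d45af9b79ae9b45d2,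
  nat_lit 0x22222022489521e21c21a23e23989d23a24023c2421b51af8741831b88778722a48bf2a28bc19f8ae8ac29f56c56b4ff97e5239954ab9774775029745004f53b42872938c037f8c329d54e57855557699857499b1885ea6069cd58160460329b57e57c99c58099f58209409a09609881c81f09c2b49a359058958c58e58b0cd4e49684e24e696d4e82b397b50850e4f350a50c2262188978942098922281ed9df6365279dc62f62790f1203f92ee3fa3ff9081299814b5526520522524,
  nat_lit 0x3a494a48047e46d46994d55957a55799d56551f99a2656249d956161362362606606406806281506c06a1e993f45c45545a45e4602697079d89ee47365873291b2fa2fc2572f52fe30037765d7266fb66154972437449349449695344749838a7304a39ef9e04359ec89917b89622e23022c22a3b74d79694d847595e4da8b52862842712882822811c41cc1a31ca1c81c687b91d26b90c2632f42f73f324a24825225024c24e8a125e1d325525c24d8a52603b68c50cf89a26d8c22b0,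
  nat_lit 0x2ca9a29a55945355925961f688b8881cb1f21b31f43fc1ef3f42ae3fb88e90b84507509112c84206112a0ff43c44293443e44093713884984610b0e312e12b13494144d46446245f43385244444893944a4469363b195b4ac4ae43f95694c1854b64b449a95c95f48708f42a93342e43042c43217717a09717e17886117c26826a8a887c26c8ab1f526f18d2722708701998ad8b456e56a97855e9979944799714b34f64f296e4f43b28be2a08c186219318a15b562485560564991525,
  nat_lit 0x18918c18e19086786418b08e08c09008a81d81a0920d78818201de81481e1dc0cc0ca0ce0d082b0c30d22060d920220420888f88c21688220f2112148932131ec1ee8891221038861f01281211261238438301253f015d2fd2af8901ff9093f626790d2ef2153fe90a38295549e49b95246b49c08608406908807181b06b06f93e94446f47494946151451651a51897f51e51c29a8bb28b1911b129829c11d27c0c727727e8b327b1572780c11d91d18b127a23f1bb89c22f24489f246,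
  nat_lit 0x15a15c85915e0e985612416048848494f46348248613d42b94546746c46a9422642668a915f0ef14d1f185306514e1508500570fb11c83e11e06311a0e584106e07407607207006d8171e884884c8851e313781614394045d46644b4689432ac9544a294e4a095749d1ce1d286e87d1d01c387a23423823289b1d51a92361b41b687512d1120db10f1191800f718286386085e10d1ae1111751b01b287319a19c1a218719e1a086d1eb1db1052762748af87e29e8ba2858bd8788b2280,
  nat_lit 0x1ea1b71d78841e08871090df0ec0ea0b30e883182e20c88020e21089120a2121f81492001fa1fc1fe88d8290bf0c60c80c40c28261568541580898128578400b70be0c00b80ba0bc8271071da1d61d81d41ad87f05c05080e81081306005e0fe0851008391020fc0fa10c83a11010a0c583d10e0de0e00e60a30e20e482f1351328470a81301360931bc1ba1be17f8791c21c01841651271861798651690f28681151aa8711ac1970af16a15519486b19819682886911f16d86619216f,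
  nat_lit 0x4680c80f04a04c04804e0ae0b00ac0a904d8230aa0b616b15916c85d85a16e16116485816216685b16809e0e182c0830ee8330f01538551541510bb1441170b50ed84e83685114c0f105805105281105a05605413c13a0770c90a504984b14213e84d0b90f914084a11883f11483811383c1161521700ad17485c17285f1a41a686f16386a1a886c10683b10407305b8321080f30b10f608b0f48350ab09f0a18210a20a407f0a60d60d882d0d482a0da0dc1478838241e61e21e41dd,
  nat_lit 0x3c80d03e04403a04004207b0a007d8370f883408107a81907c08207807e0800b48188250b20798220a714614884f0d514a1450dd]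
theorem W0_c : blocks (rows 10 5 15 25 1023 32767 33554431 12 4095 84 A 1650 275 cols 18) 18 JW0 0 = true := by decide +kernel
theorem W0 : On (Row.{u} rels LW par A 1650 275 cols) 0 288 :=
  rows_of_blocks hpar (by decide) hcols W0_c (by decide +kernel)
theorem idx : Idx.{u} rels [[0], [2], [4], [6], [8], [10], [12]] [[0], [2], [4], [6], [8], [10]] 275 :=
  idx_of_cert hpar hR (K := K) (by decide +kernel) (T := 621) (T' := 640) (by decide) D0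
    (subs := [1,2,3,4,5,6]) (by decide +kernel) (T1 := 626) (by decide) (N := 1650) S0
    (by decide) (n' := 288) (by decide) W0 (by decide +kernel) (by decide +kernel)
end T0
theorem b0 : Bound.{u} rels [[0], [2], [4], [6], [8], [10], [12]] 898128000 := .of_idx T0.idx b1 (by decide)
theorem bound : Bound.{u} rels (sg 7) 898128000 := b0
def V_N : List (Net × Net) := [(V_n0, V_r0), (V_n1, V_r1), (V_n2, V_r2), (V_n3, V_r3), (V_n4, V_r4), (V_n5, V_r5), (V_n6, V_r6), ([], V_r7)]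
theorem V_B : (mB 22275 15 V_N).ok = true := by decide +kernel
theorem V_U : (mU 3 22275 17 V_N).ok = true := by decide +kernel
theorem V_R : rotOK 22275 V_N = true := by decide +kernel
theorem V_b0 : ∀ r ∈ [[0,0], [4,4], [2,2], [0,2,0,2,0,2], [0,2,4,0,2,4], [0,4,0,4,0,4], [6,6], [4,6,4,6,4,6], [0,2,0,6,2,0,6,2,6], [8,8], [0,8,0,8], [4,8,4,8,4,8], [6,8,6,8,6,8], [0,2,6,4,2,8,2,4,2,6,2,4,8,4]], (mB 22275 15 V_N).ev r = 1 := rels_of_eqW V_B (by decide +kernel)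
theorem V_b1 : ∀ r ∈ [[2,4,6,8,2,6,8,4,2,8,6,4,8,6], [10,10], [0,6,10,6,10], [2,10,2,10,2,10], [2,8,10,2,8,10,2,8,10], [0,2,0,8,2,8,10,0,10,2,8], [0,2,0,8,10,8,6,4,10,4,6,2,10], [0,2,6,2,10,4,8,10,8,4,10,2,6,4], [12,12]], (mB 22275 15 V_N).ev r = 1 := rels_of_eqW V_B (by decide +kernel)
theorem V_b2 : ∀ r ∈ [[4,12,6,12,4,12,6,12], [6,12,6,12,6,12,6,12], [6,12,10,12,6,12,10,12], [0,8,10,12,10,8,10,12,10], [4,8,4,12,4,8,12,4,12], [0,2,0,12,6,12,2,12,6,12], [0,2,12,2,0,8,2,12,2,8,12]], (mB 22275 15 V_N).ev r = 1 := rels_of_eqW V_B (by decide +kernel)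
theorem V_l : rels = [[0,0], [4,4], [2,2], [0,2,0,2,0,2], [0,2,4,0,2,4], [0,4,0,4,0,4], [6,6], [4,6,4,6,4,6], [0,2,0,6,2,0,6,2,6], [8,8], [0,8,0,8], [4,8,4,8,4,8], [6,8,6,8,6,8], [0,2,6,4,2,8,2,4,2,6,2,4,8,4]] ++ ([[2,4,6,8,2,6,8,4,2,8,6,4,8,6], [10,10], [0,6,10,6,10], [2,10,2,10,2,10], [2,8,10,2,8,10,2,8,10], [0,2,0,8,2,8,10,0,10,2,8], [0,2,0,8,10,8,6,4,10,4,6,2,10], [0,2,6,2,10,4,8,10,8,4,10,2,6,4], [12,12]] ++ ([[4,12,6,12,4,12,6,12], [6,12,6,12,6,12,6,12], [6,12,10,12,6,12,10,12], [0,8,10,12,10,8,10,12,10], [4,8,4,12,4,8,12,4,12], [0,2,0,12,6,12,2,12,6,12], [0,2,12,2,0,8,2,12,2,8,12]])) := by decide +kernel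
theorem V_b : ∀ r ∈ rels, (mB 22275 15 V_N).ev r = 1 := by
  rw [V_l]; exact (all_app (P := fun r => (mB 22275 15 V_N).ev r = 1) V_b0 (all_app (P := fun r => (mB 22275 15 V_N).ev r = 1) V_b1 V_b2))
def V_ps : List (Word × ℕ) := [([], 3), ([0,0], 0), ([4,4], 0), ([2,2], 0), ([0,2,0,2,0,2], 0), ([0,2,4,0,2,4], 0), ([0,4,0,4,0,4], 0), ([6,6], 0), ([4,6,4,6,4,6], 0), ([0,2,0,6,2,0,6,2,6], 0), ([8,8], 0), ([0,8,0,8], 0), ([4,8,4,8,4,8], 0), ([6,8,6,8,6,8], 0), ([0,2,6,4,2,8,2,4,2,6,2,4,8,4], 1), ([2,4,6,8,2,6,8,4,2,8,6,4,8,6], 1), ([10,10], 0), ([0,6,10,6,10], 0), ([2,10,2,10,2,10], 0), ([2,8,10,2,8,10,2,8,10], 0), ([0,2,0,8,2,8,10,0,10,2,8], 0), ([0,2,0,8,10,8,6,4,10,4,6,2,10], 0), ([0,2,6,2,10,4,8,10,8,4,10,2,6,4], 0), ([12,12], 0), ([4,12,6,12,4,12,6,12], 0), ([6,12,6,12,6,12,6,12], 0), ([6,12,10,12,6,12,10,12], 0), ([0,8,10,12,10,8,10,12,10], 0), ([4,8,4,12,4,8,12,4,12], 0), ([0,2,0,12,6,12,2,12,6,12],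 0), ([0,2,12,2,0,8,2,12,2,8,12], 0)]
theorem V_e0_0 : lall (ceq [14] 8 V_ps) (eqJ (mU 3 22275 17 V_N) 22275 0) = true := by decide +kernel
theorem V_e0 : lall (ceq [14] 8 V_ps) (eqJ (mU 3 22275 17 V_N) 22275 0) = true := V_e0_0
theorem V_e1_0 : lall (ceq [14] 8 V_ps) (eqJ (mU 3 22275 17 V_N) 22275 1) = true := by decide +kernel
theorem V_e1 : lall (ceq [14] 8 V_ps) (eqJ (mU 3 22275 17 V_N) 22275 1) = true := V_e1_0
theorem V_cov : Cov (mU 3 22275 17 V_N).g rels ((mU 3 22275 17 V_N).ev [14]) 3 :=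
  cov_mon V_B V_U V_R (Ctx.eq_of_eqW V_B (v := []) (by decide +kernel)) V_b (by decide +kernel) (lt_two' V_e0 V_e1)
    3 3 0 (by decide +kernel) (by decide)
theorem V_w_b_0 : ∀ j < 15, oneJ (mB 22275 15 V_N) (cw (sg 7) [([0,3], [7,4,8], 2)]) (0 + j) = true := by decide +kernel
theorem V_w_b : (mB 22275 15 V_N).ev (cw (sg 7) [([0,3], [7,4,8], 2)]) = 1 := one_of_oneJ V_B (of_zero (V_w_b_0))
theorem V_w_0 : eqJ (mU 3 22275 17 V_N) 22275 0 ((cw (sg 7) [([0,3], [7,4,8], 2)]), [14]) = true := by decide +kernel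
theorem V_w_1 : eqJ (mU 3 22275 17 V_N) 22275 1 ((cw (sg 7) [([0,3], [7,4,8], 2)]), [14]) = true := by decide +kernel
theorem V_w : ev (mU 3 22275 17 V_N).g (cw (sg 7) [([0,3], [7,4,8], 2)]) = (mU 3 22275 17 V_N).ev [14] :=
  eq_of_eqJ V_B V_U V_R (v := [14]) (V_w_b.trans (Ctx.eq_of_eqW V_B (u := []) (by decide +kernel))) (lt_two' V_w_0 V_w_1)
theorem presL {ps xs : List ℕ} {n : ℕ} (hn : Nat.card (CA.Leech.St (ps.map vec)) = n)
    {L : List (ℕ × List (List ℕ))} (h0 : allL xs okC = true) (hf : fixOK ps xs = true) (h3 : lowP L xs n = true)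
    {rels : List Word} {k : ℕ} (hk : xs.length = k)
    (h : lall rels (fun r => Nat.beq (CA.CGParts.evalW cG.mul cG.inv cG.one xs r) cG.one) = true) :
    ∃ X : ℕ → Co0, grp X (sg k) = CA.Leech.St (ps.map vec) ∧ ∀ r ∈ rels, ev X r = 1 := by
  obtain ⟨X, h1, h2⟩ := of_codes (cG_ok h0)
  refine ⟨X, hk ▸ h1.trans (lowP_spec h3 (in_St (cG_ok h0) hf) hn.le).1, fun r hr => cG.R_fun (h2 r) ?_⟩
  rw [Nat.eq_of_beq_eq_true (lall_iff.1 h r hr)]
  exact cG.R_one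
def xs : List ℕ := [nat_lit 0xc000404000003fc000000000000000400000000000004040000001fffdfdfffffe01fffffffffffffffdfffffffffffffe06000001fffdfdfffffe01fffffffffffffffe00000000000005fe00000001fffffe02000001fe01fe0201fdfffdfe0202020200000000fffdfffffdfe00000201fe020201fe000201fe02020200000000000200000201fffffe020201fdfdfdfffe01fe0202020000000000020000020200000201fe01fe01fe0001fe01fdfe0200000000000200000202000001fdfdfdfe0202000201fe0201fe000000000002000001fe0000020201fe01fdfe00020201fe01fe0000000001fffdfdfffffe020000000000000005fffffffffffffdfe00000001fffffe02000002020202020201fffe01fdfdfdfe000000000002000001fdfffffdfdfe02020201fffe0201fe020200000000fffe00000201fffffe0201fe0202020001fdfdfe020200000000fffe000001fe000002020201fe0201fffdfe020201fe000000000002000001fe000001fe020201fe020001fdfe01fe02000000000001fffffe01fffffe01fe0201fe020001fe020201fe00000000fffdfffffe02000001fe0201fdfe0200020201fe020200000000fe0002020000020600000000000000020000000000000202000001fffe05fffffe01fffffffffffffffdfffffffffffffdfe0000fffe0000020200000201fdfe01fe01fffe020201fe0200000000fffe00000201fffffdfe02020201fe0002020201fdfe0000000001fffdfe00000601fffffffffffffffdfffffffffffffdfe0000020005fdfffffe01fffffffffffffffdfffffffffffffdfe00000001fffffdfdfffffe0201fdfe02020002020201fe020000000006000202000001fe00000000000000020000000000000202,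
  nat_lit 0xc000400000000000000040003fffc0000000400000004040000001fffdfffffffffffffffdfffe0001fffffffdfffffffe06000001fffdfffffffffffffffdfffe0001fffffffe00000005fe0000fffe00020201fdfe020200020001fffdfe01fffe0202000000000001fffe01fdfdfdfe0200020002000201fe000202020000000000020001fdfe0201fe0200020001fffdfe02000201fe0000000001fffdfffffffffffffffdfffe000200000005fffffffdfe00000001fffdfe0201fe02020001fffdfffe02020001fe02000000000002000201fe01fe0201fffdfffe00020201fffe01fe00000000fffdfffdfe020202020200020002000201fdfffe01fe00000000fe0002000000000000000200020006000000020000000202000000020001fe0201fe01fdfffe00020001fdfe0002020200000000020005fffffffffffffffdfffe0001fffffffdfffffffdfe0000fffdfffe01fe020201fe0001fffe0001fe02000202020000000001fffe0000000000000005fffe0001fffffffdfffffffdfe0000fffe0001fe01fe01fe01fffdfffe00020202000202020000000000020001fdfdfe0201fe0002000200020201fffdfe0200000000000200020201fe0202020001fffe0001fdfe0001fdfe00000000fffe0002020201fdfdfe00020002000202020001fdfe000000000001fffe02020201fe01fffe00020001fe01fffdfe02000000000002000202020201fdfe0001fffdfffe01fdfffe020200000000fffe000201fe02020201fffe0001fffe01fe0001fe020000000001fffdfffffffffffffffe00060001fffffffdfffffffdfe00000001fffe0201fe0201fdfffe0001fffe0202000201fe0000000006000200000000000000020001fffe000000020000000202,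
  nat_lit 0xc000003fffffffffc0000000004040000000000000404040000001fffffe0000000001fffffffffdfdfffffffffffffdfe06000001fffffe0000000001fffffffffdfdfffffffffffffe05fe000001fffffe00000000020000000005fdfffffffffffffdfdfe0000fffdfe000201fdfe0001fe01fe000002020202020200000000000002020001fe02020001fe01fdfffffe01fdfe020200000000000002020001fe01fdfffdfe0202000001fe0201fe0200000000000001fe0001fdfe02000201fe01fffffe020201fe020000000000000201fffe01fdfdfffe020201fffffe0201fe02020000000000000201fffe01fe0200020201fe000001fdfe01fe02000000000001fffffe0000000001fffffffffe05fffffffffffffdfdfe000001fffffe0000000001fffffffffdfe00000000000005fdfe0000fffe01fffe0202020001fe0201fffffe020201fdfe0000000000fffdfdfffdfe0201fffe02020200000201fe02020200000000000001fe0002020201fffe0201fe0000020201fdfdfe00000000000001fdfffe0202020001fdfe02000001fe01fe02020000000000fe00000200000000060000000002020000000000000202020000fffe020001fdfe020002020202000001fe01fe01fe00000000000001fe00020201fe0002020201fffffdfdfe0201fe0000000000fffe0200020201fe000201fe0200000201fdfdfe020000000000fffe020002020201fffe01fdfdfffffdfe020202020000000000020000060000000001fffffffffdfdfffffffffffffdfdfe0000000202000201fe01fffdfdfe0200000201fe0201fe0000000000000201fffdfe01fe000201fdfe00000202020201fe000000000006000001fffffffffe000000000202000000000000020202,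
  nat_lit 0x800000000000000000000000000000000000000000000000008000000000000000000000000000000000000000000000800000000000000000000000000000000000000000000000000000800000000000000000000000000000000000000000000000000000800000000000000000800000000000000000000000000000000000000000000000000000000000800000000000000000000000000000000000000000000000000000000000000000008000000000000000000000008000000000000000000000000000000000000000000000000000000000000000000000000000800000000000000000000000000000000000000000000080000000000000000000000000000000000000000000000080000000000000000000000000000000000000000000000000000000000080000000000000000000000000008000000000000000000000000000000000000000000000000000000000000000000000000080000000000000000000000000000000000000000000000000000000000000800000000000000000000000000000008000000000000000000000000000000000000000000080000000000000000000000000000000000000000000000000000000800000000000000000000000000000000000000000000000000000000000000000000000000000800000000000000000000000000080000000000000000000000000000000000000000000000000000000000000000000008000000000000000000000000000000000000000008000000000000000000000000000000080000000000000000000000000000000000000000000000,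
  nat_lit 0xbfffffffffc00000000000404000004000000000004040400000020000000001fffffffffffdfdfffffdfffffffffffdfe060000020000000001fffffffffffdfdfffffdfffffffffffe05fe0000020000000001fffffffffffe05fffffdfffffffffffdfdfe000000020202020001fdfdfdfe00000201fffe0201fe020000000000fffe020201fffe01fe020200000201fffe01fe01fe0000000000fffe020201fffe020201fdfffffe020001fe01fe0200000000000001fdfe01fffe0201fdfe00000202000201fe0202000000000000020201fdfffe0201fe02000001fe00020201fdfe0000000000020000000001fffffffffffdfe000005fffffffffffdfdfe00000001fe01fdfffdfe020201fffffe01fffe020202020000000000fffe0201fe0001fe0201fe000001fe000201fe02020000000000020000000001fffffffffffdfdfffffe000000000005fdfe0000020000000002000000000005fdfffffdfffffffffffdfdfe000000020202020001fe01fe01fffffe020001fdfe01fe0000000000000201fdfe0002020201fe00000201fffdfe0201fe0000000000fffdfdfe020001fe0202020000020200020201fdfe00000000000001fe0202000201fe01fdfffffdfe0002020201fe00000000000001fe0202000202020202000001fdfffdfdfdfe020000000000fe00000000060000000000020200000200000000000202020000fffe01fe0200020201fe01fffffdfdfffe020202020000000000fffdfe01fe000201fdfe02000002020001fe0202020000000000000201fe01fffdfdfe0202000001fe0001fe0202020000000000000201fdfe000201fe0201fffffe02000201fdfe02000000000005fffffffffe000000000002020000020000000000020202,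
  nat_lit 0xc040000000004000000000003fc000004000000000004040000001fdfffffffffdfffffffffffe01fffffdfffffffffffe06000001fdfffffffffdfffffffffffe01fffffe000000000005fe0000fffffdfe0201fffdfdfe01fe0000020200020202020200000000fffffe020201fffe0201fe02000001fe0001fdfe020200000000000001fdfe01fffe02020201fffffdfe00020201fe0200000000fffffe0201fe0001fe01fe01fffffe0200020201fe020000000000000201fdfe000201fdfdfe000001fe0002020202020000000001fe0000000005fffffffffffe01fffffdfffffffffffdfe0000fffffe01fe020002020201fe00000201fffe01fdfe0200000000000001fdfdfe0001fe020202000002020001fdfe020200000000fe0200000000020000000000020600000200000000000202000001fdfffffffffe00000000000601fffffdfffffffffffdfe0000fffffdfe01fe000202020202000001fdfffe020201fe000000000000020201fdfffe01fe020200000201fffdfe01fe020000000000000201fe01fffdfe01fe0200000201fffe020201fe00000000fffffe01fe02000201fe0201fffffe020001fe0201fe00000000000001fe0202000201fdfe0200000202000201fdfdfe0000000001fdfffffffffdfffffffffffe02000005fffffffffffdfe0000000001fe020200020201fdfdfffffe01fffdfe020202000000000000020202020001fdfe0201fffffdfdfffe01fe0202000000000000020201fdfffe020201fdfffffe02000201fe01fe000000000000020202020001fe0201fe000001fe0001fe01fdfe000000000205fffffffffdfffffffffffe01fffffdfffffffffffdfe000006020000000002000000000001fe00000200000000000202,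
  nat_lit 0xc000003fffc0000040400000000000400000000040000040000001fffffe0001fffffdfdfffffffffffdfffffffffe00000600000001fdfffe000201fffffe01fe020200020201fdfffe02000000fffe01fffe000202000001fe020201fffe0201fe0001fe000000020000060001fffffdfdfffffffffffdfffffffffdfffffe00000002020002000201fffffe0201fe01fffe01fe01fffdfe000000fffe020001fffe01fffffe0201fe020001fe01fe000202000000fffdfe0002000202000001fdfdfe02000201fe0200020200000000020200020001fe000001fe01fdfe00020201fdfffe0200000001fffffe0001fffffdfe000000000005fffffffffdfffffe00000001fdfffdfffdfe0000020201fe01fffe0202020002020000000001fe0002000202000002020201fdfffdfdfdfe0002020000000001fe00020001fdfffffdfe0202020001fe02020001fe000000fffe0200020001fe00000201fe0201fffdfe0201fffe020000000002020001fffdfe00000201fe0202000201fdfe0001fe00000001fffffe0001fffffe05fffffffffffdfffffffffdfffffe000001fffffe0002000005fdfffffffffffdfffffffffdfffffe00000002020001fffe01fffffdfdfe01fdfffe020202000202000000fffe01fffe0001fdfffffe020201fe000201fe02000202000000fe00000200060000020200000000000200000000020000020000fffdfe0001fffe02000002020201fe0002020201fffdfe00000001fffffe0001fffffdfdfffffffffffe0000000005fffffe0000000201fffe00020200000201fdfdfe0001fe02020001fe000000000201fffdfffe02000001fe0202020001fdfe01fffe0200000006000001fffe000002020000000000020000000002000002]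
theorem xs_r : lall (cw (sg 7) [([0,3], [7,4,8], 2)] :: rels) (fun r => Nat.beq (CA.CGParts.evalW cG.mul cG.inv cG.one xs r) cG.one) = true := by
  decide +kernel
theorem xs_low : lowP [(295008396509900989329782505367664224335202611881367309320, [[0], [2], [4], [6], [8], [10]]), (270393062496394822551718147517827047890374925196538218249, [[0], [2], [4], [6], [8]]), (270583876150120143068405137483479486775626593038366214409, [[0], [2], [4], [6]]), (270584624439003057981096318858559563384924934279868778249, [[0], [2], [4]]), (295008396509900989329782505367664224408989588176205514760, [[0]]), (295008396509900989329782505367664224335202611898547177480, [])] xs 898128000 = true := by decide +kernel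
theorem xs_ok : allL xs okC = true := by decide +kernel
theorem xs_fix : fixOK [cU, cY] xs = true := by decide +kernel
theorem xs_len : xs.length = 7 := by decide +kernel
theorem pres : ∃ X : ℕ → Co0, grp X (sg 7) = CA.Leech.St ([cU, cY].map vec) ∧ ∀ r ∈ cw (sg 7) [([0,3], [7,4,8], 2)] :: rels, ev X r = 1 :=
  presL (ps := [cU, cY]) (xs := xs) card_McL xs_ok xs_fix xs_low xs_len xs_r
theorem st : CA.SchurLow.St (CA.Leech.St ([cU, cY].map vec)) (Multiplicative (ZMod 3)) := by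
  obtain ⟨X, h1, h2⟩ := pres
  exact st_cyc bound h1 card_McL.ge (fun r h => h2 r (List.mem_cons_of_mem _ h)) V_cov _ (h2 _ List.mem_cons_self) V_w
end
end CA.McLCov3
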