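import Cfsg.Agent.Lib.Comp.CTodd
import Cfsg.Agent.Lib.Spor.ONRel
import Cfsg.Agent.Lib.Spor.ONN0
import Cfsg.Agent.Lib.Spor.ONN1
import Cfsg.Agent.Lib.Spor.ONN2
import Cfsg.Agent.Lib.Spor.ONN3
import Cfsg.Agent.Lib.Spor.ONN4
import Cfsg.Agent.Lib.Spor.ONN5
import Cfsg.Agent.Lib.Spor.ONN6

/-! The action of the presented O'Nan group on the 122760 cosets of `⟨a, …, f⟩` (point `0` is the subgroup). -/

set_option autoImplicit false
set_option maxRecDepth 100000
set_option Elab.async false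

namespace CA.ONPerm
open CA.CNet CA.CWord CA.CTodd

noncomputable def C : Ctx := ⟨122760, 17, [n0, n1, n2, n3, n4, n5, n6]⟩

theorem hC : C.ok = true := by decide +kernel

theorem r0 : C.eqW [2,2] [] = true := by decide +kernel
theorem r1 : C.eqW [4,4] [] = true := by decide +kernel
theorem r2 : C.eqW [6,6] [] = true := by decide +kernel
theorem r3 : C.eqW [8,8] [] = true := by decide +kernel
theorem r4 : C.eqW [10,10] [] = true := by decide +kernel
theorem r5 : C.eqW [12,12] [] = true := by decide +kernel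
theorem r6 : C.eqW [2,4,2,4,2,4] [] = true := by decide +kernel
theorem r7 : C.eqW [2,6,2,6] [] = true := by decide +kernel
theorem r8 : C.eqW [2,8,2,8] [] = true := by decide +kernel
theorem r9 : C.eqW [2,10,2,10] [] = true := by decide +kernel
theorem r10 : C.eqW [2,12,2,12] [] = true := by decide +kernel
theorem r11 : C.eqW [4,6,4,6,4,6] [] = true := by decide +kernel
theorem r12 : C.eqW [4,8,4,8] [] = true := by decide +kernel
theorem r13 : C.eqW [4,10,4,10] [] = true := by decide +kernel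
theorem r14 : C.eqW [4,12,4,12] [] = true := by decide +kernel
theorem r15 : C.eqW [6,8,6,8,6,8,6,8,6,8,6,8,6,8,6,8] [] = true := by decide +kernel
theorem r16 : C.eqW [6,10,6,10] [] = true := by decide +kernel
theorem r17 : C.eqW [6,12,6,12] [] = true := by decide +kernel
theorem r18 : C.eqW [8,10,8,10,8,10] [] = true := by decide +kernel
theorem r19 : C.eqW [8,12,8,12] [] = true := by decide +kernel
theorem r20 : C.eqW [10,12,10,12,10,12] [] = true := by decide +kernel
theorem r21 : C.eqW [2,12,1,1] [] = true := by decide +kernel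
theorem r22 : C.eqW [2,12,9,7,9,7,9,7,9,7] [] = true := by decide +kernel
theorem r23 : C.eqW [6,1,9,1,9,6,8,0,8,0] [] = true := by decide +kernel
theorem r24 : C.eqW [8,1,7,1,7,8,6,0,6,0] [] = true := by decide +kernel
theorem r25 : C.eqW [4,6,8,0,4,6,8,0,4,6,8,0,4,6,8,0,4,6,8,0] [] = true := by decide +kernel
theorem r26 : C.eqW [0,4,7,0,6,5,0,4,7,0,6] [] = true := by decide +kernel
theorem r27 : C.eqW [0,10,9,0,8,11,0,10,9,0,8] [] = true := by decide +kernel

theorem hrel : ∀ r ∈ CA.ONRel.rels, C.ev r = 1 := by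
  intro r hr
  simp only [CA.ONRel.rels, List.mem_cons, List.not_mem_nil, or_false] at hr
  rcases hr with rfl | rfl | rfl | rfl | rfl | rfl | rfl | rfl | rfl | rfl | rfl | rfl | rfl | rfl | rfl | rfl | rfl | rfl | rfl | rfl | rfl | rfl | rfl | rfl | rfl | rfl | rfl | rfl
  · exact Ctx.eq_of_eqW hC r0
  · exact Ctx.eq_of_eqW hC r1
  · exact Ctx.eq_of_eqW hC r2
  · exact Ctx.eq_of_eqW hC r3
  · exact Ctx.eq_of_eqW hC r4
  · exact Ctx.eq_of_eqW hC r5
  · exact Ctx.eq_of_eqW hC r6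
  · exact Ctx.eq_of_eqW hC r7
  · exact Ctx.eq_of_eqW hC r8
  · exact Ctx.eq_of_eqW hC r9
  · exact Ctx.eq_of_eqW hC r10
  · exact Ctx.eq_of_eqW hC r11
  · exact Ctx.eq_of_eqW hC r12
  · exact Ctx.eq_of_eqW hC r13
  · exact Ctx.eq_of_eqW hC r14
  · exact Ctx.eq_of_eqW hC r15
  · exact Ctx.eq_of_eqW hC r16
  · exact Ctx.eq_of_eqW hC r17
  · exact Ctx.eq_of_eqW hC r18
  · exact Ctx.eq_of_eqW hC r19
  · exact Ctx.eq_of_eqW hC r20
  · exact Ctx.eq_of_eqW hC r21
  · exact Ctx.eq_of_eqW hC r22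
  · exact Ctx.eq_of_eqW hC r23
  · exact Ctx.eq_of_eqW hC r24
  · exact Ctx.eq_of_eqW hC r25
  · exact Ctx.eq_of_eqW hC r26
  · exact Ctx.eq_of_eqW hC r27

theorem ab_ne : C.ev [2,4] ≠ 1 := Ctx.ne_one_of_moves hC (p := 1) (by decide) (by decide +kernel)

end CA.ONPerm
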