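import Cfsg.Agent.Lib.Spor.ONPres
import Cfsg.Prelude.Def_Sporadic
set_option autoImplicit false
set_option linter.all false
set_option maxRecDepth 100000
set_option Elab.async false
set_option maxHeartbeats 4000000
universe u
namespace CA.ONSub
open CA.CNet CA.CWord CA.CLevel CA.CSimple CA.CPoint CA.CTodd CA.CPres CA.H27Pres
noncomputable section
def RJ : List Word := [[0,0], [2,2], [4,4], [6,6], [0,2,0,2,0,2,0,2,0,2], [2,4,2,4,2,4], [4,6,4,6,4,6,4,6,4,6], [0,4,0,4], [0,6,0,6], [2,6,2,6], [2,4,6,2,4,6,2,4,6,2,4,6,2,4,6], [6,4,2,0,2,0,4,2,0,2,4,6,4,2,0,2,4,0,2,0,2,4,6,0,2,0,2,0,4,2,0,2,0,4,2,0,2,4]]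
def RM : List Word := [[0,0], [2,2,2,2], [0,2,0,2,0,2,0,2,0,2,0,2,0,2,0,2,0,2,0,2,0,2], [0,2,2,0,2,2,0,2,2,0,2,2,0,2,2,0,2,2], [0,2,0,3,0,2,0,2,0,3,0,3,0,2,0,3,0,3,3], [0,3,0,2,0,3,3,0,3,0,2,0,2,2,0,3,0,2,0,3,3]]
namespace TJ
noncomputable def A_0 : List (ℕ) := [nat_lit 0x42c6640c899282de243cc8092824e23689e19a43488660cc192e1d242b49d10e83466664cc893035e2510c7192624c23747588ae2542370ca092b15c63706e212b25643746e992c2584510a2213026064ec9da0e825e637c9498db1c06298c4992324863608608c72464620c4093824423986b88a1272639c7418ac1b2628852187915a61fc40185d2f6645c8c18ce226232c8b88ce19a226465989913061b88798da19262586398a112a61b036984f266238c9708df1bc229453887b1c422a07218a91c662a055187d30c24849008d615221f46a88a013a61cc3a185323e235069889f0e6214c4f087516e22185d0889110218c45186417e22384710670ce612c4318630c46120239832124831462889312681a835184d12821ac39085213621c05f088d118219832884a0d2213426083529243d079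90b51e882d46a209f16c8214d7114328443bca1a0ef24283587820b2270439c7310ab1dc22d05a10841064180581081250436c6d10a31b6828c6fa0a514c81e86c10a214241dc73a0ab15881f83fa05c14481dc3ca0570ba810867109a13241bc37089612c41e036105609e40dc52907a0f6416454107c0fa416c6b10b214041d829903a13e42143a90540d641384d08710e242344698660e0414429103911241903190490c8812433204a09680d0241033064408c26903609440d01a902516a621042986110821843008451de62c459188215621f858888210221785198780f461603b88570f021602b083d0fc61782e18410ae60f421182d0de61402898380a020e01b88260b281f03e085a0b621003b085509c60d81b082907420a02a083b05080ec1d902905260f01e10550aa810020185a0b480fc1f982b072609c16181e09260cc1a1824066209011881904a60680e18140c24118229030104417c2f10430be810c232030062808822202f0b040f81e902a08240b816901f070409c13101b04e806c1f202a05680740f201504840680c901203480480a200d060208810881808660b811181805e608015081d05c20800f8816036604c0e981602a603809180c01a602009880e01820200c1011040405c0b100f01c4024041005022605c0ba00f01e6024059810020802805180600e601004880600a200c0320030088008019002004600400a000,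
  nat_lit 0x5b229a52f09c938a2558aa08fe3928558ab18fe1fc43086109032064570ae09d03a049a534a1cf39e456cad8902584886d0d91a835088d91b0ae16be4b8570a2344684ab1560a0a3902988f18a814fa2780f011692d22788f1128050087856f923546a869cd3893e5948b756e9b8b7162b796f1a305a088b9171ada5b488c91919a54622694c11a0223a234add1a0440a6610ea095e4084a9d538a4940626d4c1891e49e66e8de194d3722530dd094d29623d8e019502a463eca798f929863d87d18b929c63dc7c18b83be259cb109062102310b309092ce64248598c63c26614b4190a2fa6464bf9935236634068989c234633edc895723245e0bc091639a25e8ac89002aa63f4ab99001fe62f47e08bc1fa4540a808fb1f222e45d888b20c63106198912bc64788218c1204634860188f178622c4818687384be17b924a5f0892976a24b49886dd78924548846c92491b636a45212591b737045293112e25024ba17122e86188ba575223f45448dd6c123a5ce48f91e91adb708aaedba2095b688b116a1a146e88e91da1ab358850522a1b23668518a3a0f21e282cd0121e4410861cd0213728083b4e512644ca485932221657c885d0c2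19151647b4f6116f42a4640c791274664698d2913c4604691109198444466574923f48046bcd4913f27c43acc9912a438465109118e42e4644c9112955a482d559209414462505a18941a8628c5a1243ca45acf211872d444311791a34584684d1113931a4498c5112424a43654f11fb3f445ecfda17b39c8568be21183e645d4ba11132f4445c8b10cd2ea844c8a20cb1988260f6a16f2e0843c8820c92d6843086a0c719082544ba06d44e4674ce113332e44b89690de1c2429c9890e233e44d89a90e426c64fc9fa0eb33a6698d3093d15e63a875113d27a64d09a20e31d882b872a0aa40e4618c291201a44274c2111f23c434ca690f71ec42dc7d90ba1724220ad111820242fc7ba0b7170821843a06218842488490c518c24288510d51a042a44e107219e426c8010be17a4230459065122230460909e11e41cc34104c49466d8db99493642518db094929023cca518f41ea62d9741a3e47e66b91d09ab47c26b8d689424126620d099383566508a098ee28c63cc7918b4166620cc3992226e63987698b0,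
  nat_lit 0x54047f54c11f73f845f5300b126244af5830a564ac47012f931138c4554ed21622c6841883a0c34e26c758e8a6e6b22a9552920154628010011804026600c0091c3fa25f8bf111c2386604c091612c2274ce9926e4dc6754eaa15e2be84124c9c3686e6e72129b8872a6bc5531a037266bbd781a4449066d53689d23a44574ae890520a4580b019c86426d81391ac23ae6989ad9aa884e6e25c51ad85cc68f579239772e2bcd7a0a477242bb92689b85f2292dc88aed8442e15c2938d71a705a0b0b8c7186e39c712e45c868e51c92e35c66df5be8b0360669512a11bf37e2544a891bb37629392712ec5d829092089b036089092111b1362690d2192ee5dc891d239af35e689192319b37ac6ce19d1a8b6d66ae93319cb62c69955e1a15572684d9b9a8951467b10a198f57a8c45889b346688a0d4189e73d225b54309ea66a2a1db38ab657028490c89927b62cf99f23d386c2e71cd8af77a62e69cd1af76908bd97b1a4952e8cfd9f9aa75046cc98c93326648ab99e228c38e2560ac11cb39629958aa3626c42ac98c0a9c5384c698d0a6b4d647453621d16c28cf59e8a8d51e27bd9b0a886cc2add4699ef3de8a21441ab756e4a1d439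9ea3d485b4b699e73ce8a114211e83d06a154292bf57e8ac9591a8e51c87b9589a0d3a265713519d055c682d07198b6ee6b41be1acb59868896e1a2f56a68415b1a1242266355813606c02b09b81ac158288690d1aaf55e286d06098a4202634c60925b786a798d8a9bb762a794e89fa6846a494a19f352227c94913386702a2d4489ec3e225d13419cd53667e8fc997a3ee65e0f919742f26458fa229652c27d4fb097752027c0f5996e2dc244888a1722e444488919732e647c0f821772ee67d4faa1762ec64514619ed3dc65c08a98cc2e26440f3196b2d864348718c8194625dc21ad3368651d1e19ac5ca6b7d701a335a8689d668a235a6289d13099c58c6879bc9aca590688510199743a26590f12ba574285509898f32a24b4cb192d264638511999c33464c4ff897f7124bbd778a447102bc56b8a2a452267ccf09356ba6aa5619a1c554681d54935c6b82b9d988a804fe2785540a3d40c261565a2eb5d66c3987225c4b86710e2215328a26a8d51238470670cdf19532a6270ce1a25b4b64b6515a2d9,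
  nat_lit 0x960509e171b9672c4bca5e94328624e5d7d124d73a4be61e13a073e4bee149391ac8553ea78d71ae274728e14a2a9833a6749507a0e34929214ab956928a511ca682a927a4f0c1782e8dedbd9419832707a119b8574e8c11821ba560a89552a99bf6128e89d10b014b24c0580a2584b06bf8e099517408bed7f22504a066ed7d9a4e8888ea5d49bd17a24cd19992837a44cd60193678f48f9df39b489dc31ba3714778da2f71ee146c8ee91b2360c787d051e23c23e67cc6d1da49a9774a4c0e0d137c98490d61a9c028044d99b292b55682d8db192c1566486907918c8e64f863e93f08d64f59f013427bc4d063513d57a84cdda012917d46f55ea8b3980c4da9b50abb5764ce59c9b4b6968a614ca1f76826f7def8b438582e51ca12f55ea2d69ad13436866a4d49a1f23f085e5dd9b1e63c49cd39a3236464ef1de1be17c28d09f28b4768c2a55f10b448ea2f8ded0c548a88ee5dc8bfd7fa6ee18e0bb87708fe5fc8bba7746f8df1934568a8a51a2129452a47d1a39296a24325e4b0c0b92e902e0593c578a2fc62f8bd77da314e2993d87b02ceda78bb776e514a290bd96946a7d4f93506a02a89f78b556a22a81f80b527e24d49a91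aa07b24cf1eb933a6764a32190ca895050828a8d05a0a948e7124628c46f2de5932d65a8f31e614638c6721a432506a0c548e918cb296450de550c2a8544e49cc12f48424e120e137f6fc4b360a137692a502604136b6ea4b19bb22c694c307a0f14188306de9bd22c85928881b992c56d24ae562121d6aa4a8d5111ff8406e0dc39ad65ac2e0dc192d35a4489914119e90e4ff23413fa7f86fe9fd235b9062fe1fc138f93090de06249981a2dc5b8a2c371e8b99af22aa7f64d75e8133179e4d6d98127f6dc2b016012196d04ae1c812eb61e2ebdd7930e61a49712e91c562089853089cc65e8c5d8b8a6764e29e13b09db8122db5b6932865029dd3b91db3b689e13c1a674ce4730e622634c667253f19e08242de1ba0ac758a287dbc22c758e687d0f919b44a666ccd8a2483a2e01bf8ace7006b396712244486b3d67a3817022b4568922e64049c58f92a64e04751d092fd5f8493d7ea24f60089452921bc7548c1983a2564ae8700e121524a246f0de914e65c49f53e11df4ea4768ec91622ca4420ee9166,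
  nat_lit 0x76a513e278cd59ac336a6c8c569e631ce390be0868530260243373250ce199cb67d88d35a6929a5348d39a70bebad254da9b24bf97e5442880c92a22924a49140780e924e498c0a8148db1b6134c6986a65f59c539c2917a2f14518a293626c0ceb9d6935e6b94db9b693e27c0cdc9b8916e2d94de9bc939e739c66a1e524648a4e09c054668c9c9fad094768e9ca5a3c7392521c1cad694528a1d6cad8952ea594df9be7172899c95a9c93e67c947c8f893ea7d1d4d90073f9f99b55a4e95debb8d2fa5e92ea5d1533a669422840c889168ffdff93646c89002000c897c831da3b1c899128ff9ff1b639de71ba441c0ca5853fa7f0d4da9a53967424d59aa51422824678ce739672a4708e053c2780d2ba5652d65a8c2d96e90b61694b696c34b69694e49c8319a3314e69cc71be3293cd79c4cbddb131778831762ea3c39ba51664d94108b29042080c5a9b4515e2b8bc2784516a2d23c17824c95e1945c64c49da4e94128224dd22e2494928704e4f94138262dd6501c14a34347eb80d18a309286508d1ba36747e8f94a694a5075d6a43d87a73126224398724e79cf1afa8746e8667a48f91e5012211ba788a9012020c288944ec1d82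44b896311a218bac758711a23244989250a2141b907566c1d8423a87506c15d70b0b87c2e9185a3a47484c29851a594b46709d18b005fe29452989bda5c7456719d058c86f31e69b2e8ac71cddf9b2364a69d69294ad95a90921214ac95872ce78952aa5492ce59947e8fc6fca38a4558aa6ef5f90bbd77a4c8a2c0c7b8f68fa5f48bc07806c91920bbe77c8c89910a744e8477a37a3dd7ba6f25e514618c28f25e4932c65869ed3da1de3bc29e9c30c1f8c08f224824057905016029b72934503e07a3726e4503a070b7e6564f1de38c1b7dc2d51aa12d55aa2e0a9024a794e707e0fa382704506e0d9b7e78c6cb5951a7c4f46775d8a3146286ecdd9a44e89c706989a3b47686db9b79ac07646c49ab23f57ea720e3a24f59ea7212422504a08521642a3f67ec2d5daba3f77ee4d61ac1bf8548680194a3536a64a8550a2794f22770ee21fe3fc4760b221d83b029bd37a1d63ac657e57142684c32a6549521a4232fa5f1535a6a73de7ba4798f273b676a532a6453ba5ca42e85e8e5681148396850b2159393,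
  nat_lit 0x5060a00e102806260ec0e202905880f022185505841001f905a05820e41a084904680cc119823038209422a06108a61142f2082088217c18884608840c41ea05805a210416a04104c80e013182603c209c15883e03c40ac0ca02403260640a081a0284050109830042408410a02105e210c17902203e60a80fa02e02a206c0a901d01a204806900d026404c06201301840300c201802c808004200e0228044058811020205c05080f016802c03900b014404003a00700e201c02a00900a60140210060082010019803004200800900100220040018000004000000800b6a76dadb0db4b6636aed5a5b4b6876c6d895a5b1e3686d095a3b46764ec995a2b40768ad10dacb5876bed795b2b4a76cad90da6b3276a6d495a6b4c7656caa57fb2c9626c02540b603692d38d97b3e56bad70da8b505662cc0d85b0a5626c48d9cb1a557aaf1cffb1c7576ce1d88b36364ac9157baf63502d21d97b287606bf9d41a8073325d9430a6852f2cb9582aba33fe7fa55fabe34ea9d1563a72531a62943bb0e35eabd2537aa034de9b9d0da1a33aa75250bb18356aad250ca18359ab31d0ba16523a461401b5456b6d69d9db3a9642c80d83b023506a094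cdb34967acf1d8ab14960ec19546ace543aa294d1a90734e698d47a8e75b6b69516b08552aa494d9aa83622c41555a783332662440880332a651d3ea7c332e65a53fa7e35fabf1d53aa653d2791472604494eb01d00a009206409cfc7e871fe7e0c7f8fe93f6ad8cfd9fa7572ae0d09a129596bc1d65aca35dabb1d28a5095d6be8d75aea758aa20d62ac494068095619044fd69ea57caf835beb79d6b95e949a930d72a2e55bab7256aad435ceb9a591b2255cab91d20a4472a6ba1d25ac2740a7b1556aac954aa91557aae75e6989579af294c29814b897030ba180b9697830c69da4d09a0711e241bad98e70f2c10d42a84533a671c44a86333e870c8f8d22f4a470c0388e9322641d38a70930e619c38914942a851cf49e89556aa9d03a06958eb19d2998c90ee1d9cb1a5252c658a4388705306608c3591a300a008b6589a93526a1ca3a8c9562ac1cfbaa235ae7624fb9f65566ac9d8bb16961ac31d4aa94945a8b1c9c94652724e24c999250fe1f9ba674c9106209ccd99a9346689c4c9a451322623b5,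
  nat_lit 0x4808889201ae927c86a50e21933248848c91a174148ab5051aab316282cc5920d3ca2794b521e53c82790b519e42d425a8d1222f34468b092a18d24a6628fd229e2f827ecbe11ce39c2738ba21f322c85e88a097519844508808cc2e027b488117021a25ac64110d12e23204b9097338889c96a197262238498a0e126a867c7221361ca24d876093f26686749a099d27886985788ea10082bc7610af15a83a874a13d1ca44d07298ec30a881c6920d223c86107b214d17283ecad095a202656880890120284045c08f710e42e043988710e221c84a0c412843184e20c61a084284e08d0200833c45a0bd0d2424434209111e830434088f36e2928a419b229086d8a5214a1ea25287aa0f51ea43d51f8ae835a68e8d6a23e3422824a091ab1e4250479114616642cc7688b326e261c769137322285893996f24e864074893c274269097899827463a497a13a272868c9d89a335e8664a199af252863896098e1b284989518eb32884a8c3199410042b85210dc24264ac5220dd1c084b07819441c044c097913b1c024a49209891ae64306c09231ae848c9121881ae448874093914823644008ad23025ec66991319a845c4c10cb1922260649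10f12a431c3688950da41b47119331bc84b85398de1c4829c5508e4154438c9021861aa64806aa0a913a82743a089d0e881d03a10741a6847c8f991f13c634c4f207311062dc4420ba17462e845208a114422833888a17e82fc4d18bf0e2623847208e0ce819c3110860c4218844988908e811c23904708e211c3498920d422484a18c50d4424c3598930e482504d987217c826c4618be0ca823026186509881a479a14916c23d06a18d416c4350a121ae1e0250c7811211cc84e05890ee16083b841a0b4160220c6d212814c236c5310df14283605608e70fe42b02e887f0f222882e9079132833828106e09e81b836209609e21b03d98a515081ec50207d14063583aa0530ea627c29206b0de826828a0710e082342918700c682242588640964198240848064812019083206a81341a984a10a22d43020840c061805908ef10262ac40a0b10f4228c2b18770ac81e02e107e08421702110570a221bc1ba05006e60dc1f185907e21642d987c0ec816c2f987607281381e084e04a80d82a203a07460e8231854,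
  nat_lit 0x53a88154f0a0540816f10285bb53c16e95b22872dc47a887116d2d8479d5f1a842d887a10722854306afd0712b25624a393509d155c49a9070aae5b82ddd660b7c5b84b31088ab54224ad9068ab04188ac157a3605862dc10e0ac132628690612af3186830c6221053a6c6d4ea5bb53a4a754a0b423e26a44f98a923e28a4944a3383e24a24fc8a683f24a6cbc89f72f247c8ba99f42ec27d0fb1a9652087d8fd9a902e287acb989eb21c85b888991119444448889112e425c8e7197219484488aa1732f867c08a91772ec47d4f70a8c2e22454f311e62d8279865090e5a82e111e09b45ca48f1700ae55a84b81131acd44c8b4d100ac65902de51012c832a6874cb8a1e32a887909a2ba32a484c99119633424c8cd122333c67fd6c0b895ae8e25c422ef5ae4e21149ad733c88a5550b5d5544b0d038aa940c8aa554235c6626d713fa33140c69fd0312a84442b2d200aeb5d22c39860a5c2a847112d89c41e26514a019aa37c28e0a791be1f8454d1591c3618696cd01a2b39e28adaf9ad938a8978aa19c51f88550f191c939045585e20fe12083086021032048570ada1d055a69a50419cf23a656d1b12c2326686c9f19a846826a1711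a366be2ab556235f5d46b84d39a3445a6ab0f1a1c82d2678cefa27d2ce878085a1695026788b421e25ce6a01198adf4628b7d15199f35268dd1d9a3535228d51891a74422b29180add7168b796d138b4644b79178ad034428b9160ada5b628c96d9a314128aad168aab55616dd0485b83ca6794c1218223a4608c1098223a8475028dba40a4814c199d43082810c1a2044068a9cc19203378293ca599b937446e8a5a1ba296452ca909c02a445487d094f1f44530a7214e1f025387c20f81f043e0b319df2106588b32108216459cb4090b2d047848d097d23645fc68891b2344344ac9db919e2464aca11939a85e0ac91cd1fe25547f915717663f05e88fd17683f47ca15017643e4619106208230c82115e18044084808c012042f17ba39c4982be12612ed4888bc4daa249370692cdc21b85028989750ae25d44c316c222a47a8b9edb95b845a36dd1692db47628dcd6123b28e26b0d98a4528e46cc7890f128023c50412024042808d00a08280468132a1ca43029910c12be3d88a2cc7a21534a88cd10a230,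
  nat_lit 0x90e341a551d2385472ca1114aa84292a9cc242a8422e61bf241c6ea90520424956ea7021648b7683a9299c0241e8302de9bca4185924de96223735886da551235570e30821293874524b591422d65a48e0d140ad27f6921de7a4686ba8ff1af0bfc71e2fea13a4837148fe2060c986e050324c940d6e09035af13716bc6e3de81bfb6608f41981bcf5964db9c8236e6d08b01c80b684bc4c3d2ea30f61a8ebd2e8b0d4ba6c352f1b104c62c40e39a614fa6cbd3f0b2f64e6c5d3b23273b469d9b5a4095788db58b23284cc89dcb199db4cc49e13f22672b067313f12636e89049629b7443a8b160b13786ee4b1ccb221f5a0489568a22559e289499219b6fe707566a37f6f24e0111a2ce33488916512cf5a26e056e93814e08c81381b1f7422e857e23a15f82bf17e1afc4a42bf529130060e2ea92b9307384295ce111c237a6944dea1bd4f88cb8eca2753ba2594eea1653f88a80fe1a9838e4980e322604be8c492f9b0638c6958e30a5f2c627688391632be241cea22713aa29c536a31d6428d653922a53fe8a8cbfa2003ae8804c08a012368600bea1fd23485f868a11c2c0860482a1612ba874ce9226e2be47561b8c9972a3095240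aa65e02e4d2412f063469b53599d220665746119053ae2581390b213ae49c9730b5b714309d73138a48a6bc9230af25e86e5dc922f45f06e4926a24d5f26935c8a2f95d86e45c224225a88e1570238d71c2e35bba4165b88e31be938c5ca8e391e22e44862b90d88a3935488e51c22e34a82b8d66237d6f88c0cdf225429e86fc7d215129886ecdca24e4828bb0dc92414826904d819b028a46c1769a4228a86c4da22434986bb8da124748c4bcd9d0bd65782dad8b0a665784c590a0ab95142cdd0a128a4326af50b8abd57c2c45420b343d26a0cf491e950c87a543128666a6a19b3a3355706d9d0ca2b86904f6dcd23db51e4cf9cda4367a66e6d9b13d35ec4e694b8b4867e2bd8fb12975204cfcf322825044a08f40a826326c65360b194d48c65428b326c46cf1470b3c2aa871c7fa1582ae872cac99ca2ae2728e505b962a699134131557e2c558c13624d08c60fca29c5368c698da26b63649b1361a6c5606d85588b6151e6cf59b228f6cc6cd95aa3665628a34f7128d2e247bcf592884228add4f1a04,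
  nat_lit 0x6a88fc9f723bd8de5161e024587d451eda513e977c6fa5ee93c04f64c913a23247dc4ef9399b223b269d1ef0c6f6802f76301bca8c02f299623ca8d43185ea0bc97902cb1958a7b2ca67796aa3869205182030c906566f21b48c05838326a07249a6e6303d620b7278e70393d232b6548f1da81bee5446d51141ad59c454823114a778c507d691b8278c906d950bc64f44ca98813b14c24c518993b37685139899a607642c4db78bb46de8ec9d9136f5466d59520b566b02fd5f114748ea53d5fb14849847412069c857ee3215ac9bf654a6d5d5213576e26fdd5223586522d4de29b294f24ca5f89b533fa6a84ff0aa165069e53b99dc2c84770bf19fe20e6590eb09642c26760eb126f3a669be570c2f84a92b9c3a42684092a654252186492fa5ea5358f453ddf394798da53b65c9d3285e52e658250285692d2581c2b72a50ba18a39686272f57d0afa5f48bea14a39d73e90f2149b9fac83472a79d64a0e959274a54fa9895c692251c9c47532341ce990e741e831d2484472ae118cab8323289bb1c156f63056091c9e6f0705e1194175926dee11a41960a4e9d2a93044b22c14e08a557406c252c0b095fa6e88e0a2594a46c04e09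2585fc2e812812fe5f62941d5144488831118313a97522ea5e88bd16668f45998b336666ccde91bd28068f49f40c7a6922f9e36a4ee7b891b9ed9c6d67c6f71f29c777cc31dded1c6c6928fa22a1c786924f9a0d23a586c5309cd94356ca90090812b441e8ad159a36341e2acd079ab37c091ce35a47d7c071ada023de7a891a9a01bd46948fa9a58bea66e8f55b4a4065728da90a22bb5148ce54c934b3f02a6548a3415262d05dda3df72690b17823944908bd553235a63e8d0cfc129363e2eed380b1e7788c78ec8a734ea2c8d900bbc68a2f85a323e57c46d1a3aa3e27f271d59e93da7fa8f69f6945469e4ee58e1bb96c24ff536931c7748c719093b86b24fe58e93ba6888f8d901b4552a6d11a3a29592c944a049c968be525db69c0b8be8f15ec1c5f69e8fb5dba4538a48f614e1b4f6306eddec9c525302d28fe0a9f6a28a7df7a3506a24fbdf81b517ac8fc1eba3f16748d499da3d96766f5dcc1c3284272a24c151596494564315058d03389e78c626602f2e31a3cb4f82cb5970bcc7a0318dfd8c86,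
  nat_lit 0x91c91a6349c6975a311e1e8cc898834e21c8cc38027229ff8c8a916342a3a0cf49ea3556420d03a08358e1e0cc673e30ee610d2998294a6148cb173a30e2469cc18029235da9c4d7663136270cd49a4751aa70d469f23562761551ab29546761c728d633b23e8cfba283566b60d8ba96361a6e8d4a936345a0d0ca387e928e088c9c93a3325d28c3f6082e99d38c418843336250cd19d0334a27a4d276231318a0bb59ac713e6ca4d69e673663924f37d830d23d1c3473290d25f1cc0a6c3301a68b995ea6e665f8c337d06fb1a713ec6b46d34fc1a9a6982a69f69b4ea2235a6882569a4274da969cbfad07442499511a1e7249b51c076d8301e891c9392e7029f5940a5766db1f5a34c92073866c14e19223386700c5e7887179db1c519ae3146309cd88d473ae7c14eb8a0735e2b9cdb8b6336e3d9cf88b073727394dc784716e4d1cde948337a8f0ce7ad0343e8ca50f80c72462e9ce0a3a34668f1568948547652251ea2455ae4b1514a2655b26e9d4ba26937e898cdf9d0753a7d154e8fa73e5f79c7c7e631f2400cfa7e69202571d27974349e961d7796e74be84152f85e72ea771d339de34ce4c1d088e8722e00148b6ca6ffd5a1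b647fc2d91f21c007c891d9a313e47ca51da7794899104ffa4424ef96e34b25aa52ca5693fa78254d8ce53a26d1cd576c3141e70c678ca3396730c707bc71c2389cf09e274ae161cb5a5c52ddca1c2da5c92da71a52d8c89391e6a4668ca9399e71c6576c8f399393c464c8f124a145d9369376089c9b7867165e08c596e670422b24da77e915d92a3c281e7169931bc164c2f0e08a49d92a3172040c9494a327e8d249f940904e500c14a345282509d1aa9855c28da57093c54620a94a1ae2546e52a51f6124eb5d1143d8745311ce9c398748e79cf0b9e87430ea2294cf806723e2524428965109d51c457563115b41c047627129879bb08922ec2219c4b8868eb1d4144387c4eb98413ac7565119d79c4975690a12b9b084b42c21850ba887c8eb9d71bae74670f9859b0b4b44c2d801ba44b48c29d193a35fe8e8d7f92ff4a66bfd29a2539c634ba3214e379a3191df945664a2efe810d259589496900cad94e3091c31c2496032b2388cf18fc93c65a1d2a96834aa158cb38aa31f9ef94717765155c313f2,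
  nat_lit 0x2d825b5b6c56d6d88db5b6696dad815b3b6676ced59dabb3656aed615b4b4896c6d09d8fb40563eaf258fb1c9686ce25a3b2c368ec00d93af6964ec6a5a0b5e3682c925a2b3696b2cfa5afb289696ca8da5b5c96cacc8da9b0a9666cb1599b3096a6d425a6b005656c01d96b4e76c2d395a7b4e969ec68d9fb18767ed51daeb3476a2c21d98a927616aa1d89ab47636c70d5eb38563ac39d9baf4764a9e1d7bb285692bf8d94a8055fe9a0cbba6872ee9a24bbb2e965e81955da7495764094ffa00557e9c9d5f98a74ea628d3998a94e6c39587aa0961e9c157aaa05542751d5098654de46950d91894363494eab3a5632b3258c9f8556aad950c9187432c81566918342ed525adb3436aacf0dadb143676b39d90a865606b3a581a8a9506c3159ab16567aac158aa8a760ea28d67a9295226b1548ada3522a3a4d389a534e6a1547b0895b6a48d849e65552792554aa6962264153c99494f22094cc74c5102659c4088e532abe953eafc94fa9e94cbaf854fe791d3faf055fa790d536042c09811b026048c0ab0153ba889582808d609043401fa0c819048fd1ab13f4ab693f1f9947fa12756e4014fdaee5572bb255c9145426bea578a5035e2851565a4e55da579528a8875f69315759a05512ba15629047406649d3da2e34f6a89d7ca2e95beb5156f84c72be910caf95a749a4e9d17a3075bac88d6ea2275aab49d73a4455ceb81d91a4495cab0a574ac235d23c8cf6aa473daaba4f6a62755a990d569da354a7b8d5797234c65c2531a6a35e65e1d3097a34c2181cb897890c2631d3b98e34ee240cd098e9122639448b04960aa19d8299e750aa1254299c933a670ccea1c950e471d0e]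
noncomputable def A : List (List (ℕ)) := [A_0]
noncomputable def K_0 : List (ℕ) := [nat_lit 0x55abe555aac454b1154ac244c8ad0799f340811409982c2655002333e08d8fb9da314659191c43867151f9e331c71cf51ec31e640ec98c3b85e8df19e3748bd5b21f43a610e8a4b3a0ccce6a45398884d622354cbe10c2a23666990daa15506d914a2536e674b2994406580af19246e7b4eb9892be708df97c38c634bf1d82b861cc59792ee6e0dea1e34e5d0c19cf488604e59a93566b50caa042e6c8b91a54346d0b79b54486c0b21633264d4ae9d631055cbd94e2fa56cc31592b4530bb1bc3726a0b99712a6608e51802ea6a8d1a163625b0d216d2dc6bc9b9622664d0c295629a504a792f2aa560a19482f05c0a91512fe52cb41a22d659c9e96a35c4c89b13023e550969422804a09714428c5249f92b2a0528b313c2765a49892123a46c9613e24e470a29472524a89c925274478901112344988c13823248c921122184408b9222284588690921643c8a9132144208310e20e4108290320440480000,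
  nat_lit 0x63944df5bfd4a8955a64a3696d199e3484a2d29a7b3e6f6ce525276688dddcfb736eacd92fa5e5d0b915dae658350e00514852fda015117a743df22d27ccf65b6af55e694d58c267129f17dae9716fdd7eb086050226e2c8776c12032cc772b2965a954288494bb3150684dd9bb53e66710528540ec19362ef5c08e1391f93ea9690427e47ac591ca42838c74fa1f8482c81909ee4d4998ff1fc4e87c92cb5a4c0960f11de4047051822e59cb59f43ec570fa95ca523aa93da4ab267aced26a5067ed059ba493fad0dbb33548e97572aba57aafa00d127eab01f3bd67c6a95ec2f65e48a15838a55cbe957afc606b1ddd2aa58cb0d162c5592840d0a11504815839e833466d0327d4749ad1a9fa3cc7d8ed9974028ed1e234392c7d1f1e73ca721201e93d67bcf21913f67c52b9e13be774cc9c03768b56abe956ead5599d43a49399c24c3a6d01a124839ccd1231e0578881112bf7e8a9debaa45eea8d13a1c,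
  nat_lit 0xacf36a0740f9b13e9e4a9d53ce4a53bcc75ef394d3dc634ec54e3b7616a413720e51af3d97bc177ea497632e5c4b716f366512b657fa8e63113e9ab2d6571360a2db82d06196367618b7e2bb2783eca610c54628bc5afc3a6e29e5d1ba895ec8dd3b9b6f2d91b2cbf97adc1b73626badad32aea4c8c4d8930e5a0f79f85197df14a8b3ff8fc959ab38569b7ce563fe722d1e46b54948d49a9b456fedbdbe33a4eee95a837a6f0e79b9374740e3d49ae361f09173c04a894b68ac288550ba01d4b940f51f9c11a20f95ed382706db17a34e84eea93da7a84aa52193fc7f0bfa1a3096035a66fcdd812fe6713bcacd03203cd959aee1e529b52c8554c3db760eb942299764ed1db26d41a82d4633050c831e030550ebb970aeb4e6b616ba714b8b694425b600a3d8bc4c486caa0ec1763c9bd3832683cc9192a695e0d79cd2784ce7fd3aba46449a1b1b5b978da930b5c4c498d04a7f462c3569ad159ea01f6bee,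
  nat_lit 0xb7d6e24ac4987f12249446a3747691e5bb8d5523cc7a8f94de42df5bcd2cea84c99a131e4e5bb92126a4ecb89552dea4ccc7332623bc838eceb6594b572b34e6ac3e87b686b146c8dd522a353fa714be43d9fb2965ecad4fac1536a9c9e9452464b493903682ffd27a554969657886d5bac2575ae302e6b56f9cb81662d6bad1382084db9ef6027ca9f72ce52fbc6479b3f5efca87baf2de4438882f09e2bc35baf418db198a1509e333289d4c60ac19835185df3689d1161944206d31722ec228ad4ee21360a4d0ee165e87572c22ac39738df6605bd97ce1dc0b615db1018ab117a5299f8d1aa3949229d36a2f1e23dc7d9057cafa5e795b1fe6339391926e47c8e94ad5655cb4720e61c038c8eaeb25735174cdf9ceba19a8e358843c86301636d45a734ba8c42b85f64eafd4e93f531eac13825285f94946b0e11c7386860ea5c452ba50fedd143386ec2a1aa91ad95aa70d70814fea71ce477b97e6f40d,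
  nat_lit 0xd1d6d32be5ac1f722e55dea118f290e21bf7982ad5acb6f33e83610bc3a12785b2bb568ed75a5ac91c2f2dd7b9b76ecedddbbf666fe5e2bc17f6d8e14ce180701631afd8b301e68cc999b03e26c5f87745582c4930f0c5f8bdf42a7e633d2570a82635b5369ed5501ab119f0d4ffc8f43aaed5b9db19a86473a6716ec2dd2c133b2c458cb1d3aac9608b394f5f144591322a2fd8fbd57b2ec540afb8a30be7eb7f88edcdb68971aa8f52088f92f2e5c7cb355e5d5c9aa334683cc89976ea4cd229777eaab5ada9533a66cca9732db14c4ab5f692d15638d71bea3d4190d792cf590bb965acdd52b31586aac97909202f1db0bfd4a70ae00aef5e6b9e30c4f5d2bdcd7aed5f302667c0d5b6c1cf8c395fec0e197c2e5e615f9bed1d27de34a073fad44a9a011967b5727a3435f055c9ccf1e31c51a6516a0dc62a6131273c599d2f1275c60b1b08ec8d9aa794ea21c449117a616c5ebd72c69f57a9a53070b5bc,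
  nat_lit 0x3596aeb515a28b515aeb5deb7d73ab35b6a5d5da8b3e6afd719f7556a1d49aa756e96d67ac35a6b1d479db3de9ad339df55ea0d21a9f54695d65a6320e7ad6ba6f4ee83c1b9d74f66ad138334fe6dce98bb3cea6d2998b28649d2fa231be54b8994b27e3ec8590279d8ac91913375cfba390ef8dd5ce7a0329cf5c3d9371ee5ed1ba7347e56cb1a0b07612c738ef1066bcc38eb08e879e972ed9cf1b9d82f36671cdf84f3964ec578b73c693cc799725669c65a3345e25d0d7c284e91b834171c636b87596d35b5b575670de51b8b91aaf4ee8d18fe85d34b0d74eea4f2b0f62eeb589c8b82a395d0b9922ef6deebb38ab42e81cff88b2adc09df1a638d1fc3f40b2665d]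
noncomputable def K : List (List (ℕ)) := [K_0]
noncomputable def R_0 : List (Rule) := [Rule.mk (nat_lit 1) (nat_lit 45) (Steps.bwd (nat_lit 4) (Steps.fwd (nat_lit 2048) (Steps.fwd (nat_lit 8192) Steps.nil))) (nat_lit 16) (nat_lit 1),
  Rule.mk (nat_lit 2) (nat_lit 45) (Steps.bwd (nat_lit 4) (Steps.fwd (nat_lit 4096) (Steps.fwd (nat_lit 8192) Steps.nil))) (nat_lit 18) (nat_lit 1),
  Rule.mk (nat_lit 1) (nat_lit 45) (Steps.bwd (nat_lit 3) (Steps.fwd (nat_lit 2048) (Steps.fwd (nat_lit 6144) Steps.nil))) (nat_lit 14) (nat_lit 1),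
  Rule.mk (nat_lit 3) (nat_lit 69) (Steps.bwd (nat_lit 2) (Steps.bwd (nat_lit 3) (Steps.fwd (nat_lit 4096) (Steps.fwd (nat_lit 6144) (Steps.fwd (nat_lit 4096) Steps.nil))))) (nat_lit 10) (nat_lit 0),
  Rule.mk (nat_lit 2) (nat_lit 45) (Steps.bwd (nat_lit 4) (Steps.bwd (nat_lit 2) (Steps.fwd (nat_lit 8192) Steps.nil))) (nat_lit 18) (nat_lit 1),
  Rule.mk (nat_lit 3) (nat_lit 45) (Steps.bwd (nat_lit 1) (Steps.fwd (nat_lit 6144) (Steps.fwd (nat_lit 2048) Steps.nil))) (nat_lit 14) (nat_lit 0),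
  Rule.mk (nat_lit 4) (nat_lit 45) (Steps.bwd (nat_lit 1) (Steps.bwd (nat_lit 4) (Steps.fwd (nat_lit 2048) Steps.nil))) (nat_lit 16) (nat_lit 0),
  Rule.mk (nat_lit 4) (nat_lit 117) (Steps.bwd (nat_lit 3) (Steps.bwd (nat_lit 4) (Steps.bwd (nat_lit 3) (Steps.bwd (nat_lit 4) (Steps.fwd (nat_lit 6144) (Steps.fwd (nat_lit 8192) (Steps.fwd (nat_lit 6144) (Steps.fwd (nat_lit 8192) (Steps.fwd (nat_lit 6144) Steps.nil))))))))) (nat_lit 12) (nat_lit 0),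
  Rule.mk (nat_lit 2) (nat_lit 177) (Steps.bwd (nat_lit 4) (Steps.bwd (nat_lit 3) (Steps.fwd (nat_lit 4096) (Steps.bwd (nat_lit 4) (Steps.bwd (nat_lit 3) (Steps.fwd (nat_lit 4096) (Steps.bwd (nat_lit 4) (Steps.fwd (nat_lit 6144) (Steps.fwd (nat_lit 4096) (Steps.fwd (nat_lit 8192) (Steps.fwd (nat_lit 6144) (Steps.fwd (nat_lit 4096) (Steps.fwd (nat_lit 8192) (Steps.fwd (nat_lit 6144) Steps.nil)))))))))))))) (nat_lit 21) (nat_lit 0),
  Rule.mk (nat_lit 2) (nat_lit 69) (Steps.bwd (nat_lit 3) (Steps.fwd (nat_lit 4096) (Steps.bwd (nat_lit 3) (Steps.fwd (nat_lit 4096) (Steps.fwd (nat_lit 6144) Steps.nil))))) (nat_lit 10) (nat_lit 1),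
  Rule.mk (nat_lit 1) (nat_lit 45) (Steps.bwd (nat_lit 3) (Steps.bwd (nat_lit 1) (Steps.fwd (nat_lit 6144) Steps.nil))) (nat_lit 14) (nat_lit 1),
  Rule.mk (nat_lit 4) (nat_lit 117) (Steps.bwd (nat_lit 3) (Steps.bwd (nat_lit 4) (Steps.bwd (nat_lit 3) (Steps.fwd (nat_lit 8192) (Steps.fwd (nat_lit 6144) (Steps.bwd (nat_lit 4) (Steps.fwd (nat_lit 6144) (Steps.fwd (nat_lit 8192) (Steps.fwd (nat_lit 6144) Steps.nil))))))))) (nat_lit 12) (nat_lit 0),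
  Rule.mk (nat_lit 4) (nat_lit 45) (Steps.bwd (nat_lit 2) (Steps.fwd (nat_lit 8192) (Steps.fwd (nat_lit 4096) Steps.nil))) (nat_lit 18) (nat_lit 0),
  Rule.mk (nat_lit 4) (nat_lit 45) (Steps.bwd (nat_lit 2) (Steps.bwd (nat_lit 4) (Steps.fwd (nat_lit 4096) Steps.nil))) (nat_lit 18) (nat_lit 0),
  Rule.mk (nat_lit 2) (nat_lit 117) (Steps.bwd (nat_lit 1) (Steps.bwd (nat_lit 2) (Steps.bwd (nat_lit 1) (Steps.bwd (nat_lit 2) (Steps.fwd (nat_lit 2048) (Steps.fwd (nat_lit 4096) (Steps.fwd (nat_lit 2048) (Steps.fwd (nat_lit 4096) (Steps.fwd (nat_lit 2048) Steps.nil))))))))) (nat_lit 8) (nat_lit 0),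
  Rule.mk (nat_lit 4) (nat_lit 45) (Steps.bwd (nat_lit 1) (Steps.fwd (nat_lit 8192) (Steps.fwd (nat_lit 2048) Steps.nil))) (nat_lit 16) (nat_lit 0),
  Rule.mk (nat_lit 2) (nat_lit 117) (Steps.bwd (nat_lit 1) (Steps.bwd (nat_lit 2) (Steps.bwd (nat_lit 1) (Steps.fwd (nat_lit 4096) (Steps.fwd (nat_lit 2048) (Steps.bwd (nat_lit 2) (Steps.fwd (nat_lit 2048) (Steps.fwd (nat_lit 4096) (Steps.fwd (nat_lit 2048) Steps.nil))))))))) (nat_lit 8) (nat_lit 0),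
  Rule.mk (nat_lit 2) (nat_lit 69) (Steps.bwd (nat_lit 3) (Steps.bwd (nat_lit 2) (Steps.fwd (nat_lit 6144) (Steps.fwd (nat_lit 4096) (Steps.fwd (nat_lit 6144) Steps.nil))))) (nat_lit 10) (nat_lit 1),
  Rule.mk (nat_lit 2) (nat_lit 69) (Steps.bwd (nat_lit 3) (Steps.bwd (nat_lit 2) (Steps.bwd (nat_lit 3) (Steps.fwd (nat_lit 4096) (Steps.fwd (nat_lit 6144) Steps.nil))))) (nat_lit 10) (nat_lit 1),
  Rule.mk (nat_lit 3) (nat_lit 45) (Steps.bwd (nat_lit 1) (Steps.bwd (nat_lit 3) (Steps.fwd (nat_lit 2048) Steps.nil))) (nat_lit 14) (nat_lit 0),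
  Rule.mk (nat_lit 2) (nat_lit 117) (Steps.bwd (nat_lit 1) (Steps.bwd (nat_lit 2) (Steps.fwd (nat_lit 2048) (Steps.fwd (nat_lit 4096) (Steps.fwd (nat_lit 2048) (Steps.bwd (nat_lit 2) (Steps.bwd (nat_lit 1) (Steps.fwd (nat_lit 4096) (Steps.fwd (nat_lit 2048) Steps.nil))))))))) (nat_lit 8) (nat_lit 0),
  Rule.mk (nat_lit 1) (nat_lit 45) (Steps.bwd (nat_lit 4) (Steps.bwd (nat_lit 1) (Steps.fwd (nat_lit 8192) Steps.nil))) (nat_lit 16) (nat_lit 1),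
  Rule.mk (nat_lit 1) (nat_lit 117) (Steps.bwd (nat_lit 2) (Steps.bwd (nat_lit 1) (Steps.bwd (nat_lit 2) (Steps.fwd (nat_lit 2048) (Steps.fwd (nat_lit 4096) (Steps.bwd (nat_lit 1) (Steps.fwd (nat_lit 4096) (Steps.fwd (nat_lit 2048) (Steps.fwd (nat_lit 4096) Steps.nil))))))))) (nat_lit 8) (nat_lit 1),
  Rule.mk (nat_lit 3) (nat_lit 69) (Steps.bwd (nat_lit 2) (Steps.fwd (nat_lit 6144) (Steps.fwd (nat_lit 4096) (Steps.bwd (nat_lit 3) (Steps.fwd (nat_lit 4096) Steps.nil))))) (nat_lit 10) (nat_lit 0),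
  Rule.mk (nat_lit 2) (nat_lit 177) (Steps.bwd (nat_lit 4) (Steps.bwd (nat_lit 3) (Steps.fwd (nat_lit 4096) (Steps.bwd (nat_lit 4) (Steps.bwd (nat_lit 3) (Steps.bwd (nat_lit 2) (Steps.fwd (nat_lit 8192) (Steps.fwd (nat_lit 6144) (Steps.fwd (nat_lit 4096) (Steps.bwd (nat_lit 4) (Steps.fwd (nat_lit 6144) (Steps.bwd (nat_lit 2) (Steps.fwd (nat_lit 8192) (Steps.fwd (nat_lit 6144) Steps.nil)))))))))))))) (nat_lit 21) (nat_lit 0),
  Rule.mk (nat_lit 3) (nat_lit 117) (Steps.bwd (nat_lit 4) (Steps.bwd (nat_lit 3) (Steps.bwd (nat_lit 4) (Steps.bwd (nat_lit 3) (Steps.bwd (nat_lit 4) (Steps.bwd (nat_lit 3) (Steps.bwd (nat_lit 4) (Steps.fwd (nat_lit 6144) (Steps.fwd (nat_lit 8192) Steps.nil))))))))) (nat_lit 12) (nat_lit 1),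
  Rule.mk (nat_lit 4) (nat_lit 117) (Steps.bwd (nat_lit 3) (Steps.fwd (nat_lit 8192) (Steps.bwd (nat_lit 3) (Steps.bwd (nat_lit 4) (Steps.bwd (nat_lit 3) (Steps.fwd (nat_lit 8192) (Steps.fwd (nat_lit 6144) (Steps.fwd (nat_lit 8192) (Steps.fwd (nat_lit 6144) Steps.nil))))))))) (nat_lit 12) (nat_lit 0),
  Rule.mk (nat_lit 3) (nat_lit 69) (Steps.bwd (nat_lit 2) (Steps.bwd (nat_lit 3) (Steps.bwd (nat_lit 2) (Steps.fwd (nat_lit 6144) (Steps.bwd (nat_lit 2) Steps.nil))))) (nat_lit 10) (nat_lit 0),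
  Rule.mk (nat_lit 3) (nat_lit 117) (Steps.bwd (nat_lit 4) (Steps.fwd (nat_lit 6144) (Steps.bwd (nat_lit 4) (Steps.bwd (nat_lit 3) (Steps.fwd (nat_lit 8192) (Steps.fwd (nat_lit 6144) (Steps.fwd (nat_lit 8192) (Steps.bwd (nat_lit 3) (Steps.fwd (nat_lit 8192) Steps.nil))))))))) (nat_lit 12) (nat_lit 1),
  Rule.mk (nat_lit 3) (nat_lit 45) (Steps.bwd (nat_lit 1) (Steps.fwd (nat_lit 6144) (Steps.bwd (nat_lit 1) Steps.nil))) (nat_lit 14) (nat_lit 0),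
  Rule.mk (nat_lit 4) (nat_lit 45) (Steps.bwd (nat_lit 1) (Steps.fwd (nat_lit 8192) (Steps.bwd (nat_lit 1) Steps.nil))) (nat_lit 16) (nat_lit 0),
  Rule.mk (nat_lit 1) (nat_lit 45) (Steps.bwd (nat_lit 3) (Steps.bwd (nat_lit 1) (Steps.bwd (nat_lit 3) Steps.nil))) (nat_lit 14) (nat_lit 1),
  Rule.mk (nat_lit 4) (nat_lit 117) (Steps.bwd (nat_lit 3) (Steps.fwd (nat_lit 8192) (Steps.bwd (nat_lit 3) (Steps.bwd (nat_lit 4) (Steps.bwd (nat_lit 3) (Steps.bwd (nat_lit 4) (Steps.fwd (nat_lit 6144) (Steps.fwd (nat_lit 8192) (Steps.fwd (nat_lit 6144) Steps.nil))))))))) (nat_lit 12) (nat_lit 0),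
  Rule.mk (nat_lit 1) (nat_lit 45) (Steps.bwd (nat_lit 4) (Steps.bwd (nat_lit 1) (Steps.bwd (nat_lit 4) Steps.nil))) (nat_lit 16) (nat_lit 1),
  Rule.mk (nat_lit 3) (nat_lit 117) (Steps.bwd (nat_lit 4) (Steps.fwd (nat_lit 6144) (Steps.fwd (nat_lit 8192) (Steps.fwd (nat_lit 6144) (Steps.bwd (nat_lit 4) (Steps.bwd (nat_lit 3) (Steps.fwd (nat_lit 8192) (Steps.bwd (nat_lit 3) (Steps.fwd (nat_lit 8192) Steps.nil))))))))) (nat_lit 12) (nat_lit 1),
  Rule.mk (nat_lit 3) (nat_lit 69) (Steps.bwd (nat_lit 2) (Steps.bwd (nat_lit 3) (Steps.bwd (nat_lit 2) (Steps.fwd (nat_lit 6144) (Steps.fwd (nat_lit 4096) Steps.nil))))) (nat_lit 10) (nat_lit 0),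
  Rule.mk (nat_lit 4) (nat_lit 177) (Steps.bwd (nat_lit 3) (Steps.fwd (nat_lit 4096) (Steps.bwd (nat_lit 4) (Steps.bwd (nat_lit 3) (Steps.bwd (nat_lit 2) (Steps.bwd (nat_lit 4) (Steps.bwd (nat_lit 3) (Steps.fwd (nat_lit 4096) (Steps.bwd (nat_lit 4) (Steps.fwd (nat_lit 6144) (Steps.fwd (nat_lit 4096) (Steps.bwd (nat_lit 4) (Steps.fwd (nat_lit 6144) (Steps.fwd (nat_lit 4096) Steps.nil)))))))))))))) (nat_lit 21) (nat_lit 1),
  Rule.mk (nat_lit 4) (nat_lit 45) (Steps.bwd (nat_lit 2) (Steps.fwd (nat_lit 8192) (Steps.bwd (nat_lit 2) Steps.nil))) (nat_lit 18) (nat_lit 0),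
  Rule.mk (nat_lit 3) (nat_lit 69) (Steps.bwd (nat_lit 2) (Steps.bwd (nat_lit 3) (Steps.bwd (nat_lit 2) (Steps.bwd (nat_lit 3) (Steps.fwd (nat_lit 4096) Steps.nil))))) (nat_lit 10) (nat_lit 0),
  Rule.mk (nat_lit 1) (nat_lit 117) (Steps.bwd (nat_lit 2) (Steps.bwd (nat_lit 1) (Steps.bwd (nat_lit 2) (Steps.bwd (nat_lit 1) (Steps.fwd (nat_lit 4096) (Steps.bwd (nat_lit 1) (Steps.fwd (nat_lit 4096) (Steps.fwd (nat_lit 2048) (Steps.fwd (nat_lit 4096) Steps.nil))))))))) (nat_lit 8) (nat_lit 1),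
  Rule.mk (nat_lit 2) (nat_lit 117) (Steps.bwd (nat_lit 1) (Steps.bwd (nat_lit 2) (Steps.bwd (nat_lit 1) (Steps.bwd (nat_lit 2) (Steps.fwd (nat_lit 2048) (Steps.fwd (nat_lit 4096) (Steps.bwd (nat_lit 1) (Steps.fwd (nat_lit 4096) (Steps.fwd (nat_lit 2048) Steps.nil))))))))) (nat_lit 8) (nat_lit 0),
  Rule.mk (nat_lit 3) (nat_lit 177) (Steps.bwd (nat_lit 4) (Steps.bwd (nat_lit 2) (Steps.bwd (nat_lit 3) (Steps.fwd (nat_lit 8192) (Steps.bwd (nat_lit 2) (Steps.fwd (nat_lit 6144) (Steps.fwd (nat_lit 8192) (Steps.fwd (nat_lit 4096) (Steps.bwd (nat_lit 3) (Steps.fwd (nat_lit 8192) (Steps.fwd (nat_lit 4096) (Steps.fwd (nat_lit 6144) (Steps.fwd (nat_lit 8192) (Steps.bwd (nat_lit 2) Steps.nil)))))))))))))) (nat_lit 20) (nat_lit 2),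
  Rule.mk (nat_lit 3) (nat_lit 117) (Steps.bwd (nat_lit 4) (Steps.bwd (nat_lit 3) (Steps.fwd (nat_lit 8192) (Steps.bwd (nat_lit 3) (Steps.fwd (nat_lit 8192) (Steps.fwd (nat_lit 6144) (Steps.fwd (nat_lit 8192) (Steps.fwd (nat_lit 6144) (Steps.bwd (nat_lit 4) Steps.nil))))))))) (nat_lit 12) (nat_lit 1),
  Rule.mk (nat_lit 2) (nat_lit 177) (Steps.fwd (nat_lit 6144) (Steps.fwd (nat_lit 8192) (Steps.bwd (nat_lit 2) (Steps.bwd (nat_lit 3) (Steps.bwd (nat_lit 4) (Steps.fwd (nat_lit 4096) (Steps.fwd (nat_lit 6144) (Steps.bwd (nat_lit 4) (Steps.bwd (nat_lit 2) (Steps.fwd (nat_lit 6144) (Steps.bwd (nat_lit 4) (Steps.fwd (nat_lit 4096) (Steps.bwd (nat_lit 3) (Steps.bwd (nat_lit 4) Steps.nil)))))))))))))) (nat_lit 20) (nat_lit 1),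
  Rule.mk (nat_lit 3) (nat_lit 117) (Steps.bwd (nat_lit 4) (Steps.fwd (nat_lit 6144) (Steps.fwd (nat_lit 8192) (Steps.fwd (nat_lit 6144) (Steps.fwd (nat_lit 8192) (Steps.fwd (nat_lit 6144) (Steps.fwd (nat_lit 8192) (Steps.fwd (nat_lit 6144) (Steps.bwd (nat_lit 4) Steps.nil))))))))) (nat_lit 12) (nat_lit 1),
  Rule.mk (nat_lit 4) (nat_lit 453) (Steps.fwd (nat_lit 2048) (Steps.fwd (nat_lit 4096) (Steps.fwd (nat_lit 2048) (Steps.fwd (nat_lit 4096) (Steps.fwd (nat_lit 2048) (Steps.bwd (nat_lit 3) (Steps.bwd (nat_lit 2) (Steps.bwd (nat_lit 1) (Steps.bwd (nat_lit 2) (Steps.fwd (nat_lit 2048) (Steps.bwd (nat_lit 3) (Steps.bwd (nat_lit 2) (Steps.bwd (nat_lit 1) (Steps.bwd (nat_lit 2) (Steps.bwd (nat_lit 3) (Steps.bwd (nat_lit 4) (Steps.fwd (nat_lit 6144) (Steps.fwd (nat_lit 4096) (Steps.fwd (nat_lit 2048) (Steps.fwd (nat_lit 4096) (Steps.fwd (nat_lit 2048) (Steps.fwd (nat_lit 6144) (Steps.fwd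 (nat_lit 4096) (Steps.fwd (nat_lit 2048) (Steps.fwd (nat_lit 4096) (Steps.fwd (nat_lit 6144) (Steps.fwd (nat_lit 8192) (Steps.fwd (nat_lit 6144) (Steps.fwd (nat_lit 4096) (Steps.fwd (nat_lit 2048) (Steps.fwd (nat_lit 4096) (Steps.fwd (nat_lit 6144) (Steps.bwd (nat_lit 1) (Steps.fwd (nat_lit 4096) (Steps.fwd (nat_lit 2048) (Steps.fwd (nat_lit 4096) (Steps.fwd (nat_lit 6144) Steps.nil))))))))))))))))))))))))))))))))))))) (nat_lit 22) (nat_lit 23),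
  Rule.mk (nat_lit 3) (nat_lit 177) (Steps.fwd (nat_lit 8192) (Steps.bwd (nat_lit 2) (Steps.bwd (nat_lit 3) (Steps.fwd (nat_lit 8192) (Steps.fwd (nat_lit 4096) (Steps.fwd (nat_lit 6144) (Steps.fwd (nat_lit 8192) (Steps.fwd (nat_lit 4096) (Steps.bwd (nat_lit 3) (Steps.bwd (nat_lit 4) (Steps.bwd (nat_lit 2) (Steps.fwd (nat_lit 6144) (Steps.fwd (nat_lit 8192) (Steps.fwd (nat_lit 4096) Steps.nil)))))))))))))) (nat_lit 20) (nat_lit 2),
  Rule.mk (nat_lit 2) (nat_lit 69) (Steps.bwd (nat_lit 3) (Steps.fwd (nat_lit 4096) (Steps.fwd (nat_lit 6144) (Steps.bwd (nat_lit 2) (Steps.fwd (nat_lit 6144) Steps.nil))))) (nat_lit 10) (nat_lit 1),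
  Rule.mk (nat_lit 4) (nat_lit 117) (Steps.bwd (nat_lit 3) (Steps.fwd (nat_lit 8192) (Steps.bwd (nat_lit 3) (Steps.fwd (nat_lit 8192) (Steps.fwd (nat_lit 6144) (Steps.bwd (nat_lit 4) (Steps.fwd (nat_lit 6144) (Steps.bwd (nat_lit 4) (Steps.fwd (nat_lit 6144) Steps.nil))))))))) (nat_lit 12) (nat_lit 0),
  Rule.mk (nat_lit 4) (nat_lit 117) (Steps.bwd (nat_lit 3) (Steps.fwd (nat_lit 8192) (Steps.bwd (nat_lit 3) (Steps.bwd (nat_lit 4) (Steps.fwd (nat_lit 6144) (Steps.fwd (nat_lit 8192) (Steps.fwd (nat_lit 6144) (Steps.bwd (nat_lit 4) (Steps.fwd (nat_lit 6144) Steps.nil))))))))) (nat_lit 12) (nat_lit 0),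
  Rule.mk (nat_lit 2) (nat_lit 69) (Steps.bwd (nat_lit 3) (Steps.bwd (nat_lit 2) (Steps.bwd (nat_lit 3) (Steps.bwd (nat_lit 2) (Steps.fwd (nat_lit 6144) Steps.nil))))) (nat_lit 10) (nat_lit 1),
  Rule.mk (nat_lit 1) (nat_lit 117) (Steps.bwd (nat_lit 2) (Steps.bwd (nat_lit 1) (Steps.bwd (nat_lit 2) (Steps.fwd (nat_lit 2048) (Steps.fwd (nat_lit 4096) (Steps.fwd (nat_lit 2048) (Steps.bwd (nat_lit 2) (Steps.bwd (nat_lit 1) (Steps.fwd (nat_lit 4096) Steps.nil))))))))) (nat_lit 8) (nat_lit 1),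
  Rule.mk (nat_lit 2) (nat_lit 177) (Steps.bwd (nat_lit 4) (Steps.bwd (nat_lit 3) (Steps.fwd (nat_lit 4096) (Steps.bwd (nat_lit 4) (Steps.bwd (nat_lit 3) (Steps.bwd (nat_lit 2) (Steps.fwd (nat_lit 8192) (Steps.bwd (nat_lit 3) (Steps.fwd (nat_lit 4096) (Steps.bwd (nat_lit 4) (Steps.fwd (nat_lit 6144) (Steps.fwd (nat_lit 4096) (Steps.fwd (nat_lit 8192) (Steps.fwd (nat_lit 6144) Steps.nil)))))))))))))) (nat_lit 21) (nat_lit 0),
  Rule.mk (nat_lit 4) (nat_lit 117) (Steps.bwd (nat_lit 3) (Steps.fwd (nat_lit 8192) (Steps.bwd (nat_lit 3) (Steps.bwd (nat_lit 4) (Steps.fwd (nat_lit 6144) (Steps.bwd (nat_lit 4) (Steps.fwd (nat_lit 6144) (Steps.fwd (nat_lit 8192) (Steps.fwd (nat_lit 6144) Steps.nil))))))))) (nat_lit 12) (nat_lit 0),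
  Rule.mk (nat_lit 4) (nat_lit 117) (Steps.bwd (nat_lit 3) (Steps.fwd (nat_lit 8192) (Steps.fwd (nat_lit 6144) (Steps.bwd (nat_lit 4) (Steps.bwd (nat_lit 3) (Steps.fwd (nat_lit 8192) (Steps.bwd (nat_lit 3) (Steps.fwd (nat_lit 8192) (Steps.fwd (nat_lit 6144) Steps.nil))))))))) (nat_lit 12) (nat_lit 0),
  Rule.mk (nat_lit 1) (nat_lit 45) (Steps.bwd (nat_lit 4) (Steps.fwd (nat_lit 2048) (Steps.bwd (nat_lit 4) Steps.nil))) (nat_lit 16) (nat_lit 1),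
  Rule.mk (nat_lit 1) (nat_lit 45) (Steps.bwd (nat_lit 3) (Steps.fwd (nat_lit 2048) (Steps.bwd (nat_lit 3) Steps.nil))) (nat_lit 14) (nat_lit 1),
  Rule.mk (nat_lit 2) (nat_lit 117) (Steps.bwd (nat_lit 1) (Steps.bwd (nat_lit 2) (Steps.bwd (nat_lit 1) (Steps.bwd (nat_lit 2) (Steps.bwd (nat_lit 1) (Steps.bwd (nat_lit 2) (Steps.fwd (nat_lit 2048) (Steps.fwd (nat_lit 4096) (Steps.fwd (nat_lit 2048) Steps.nil))))))))) (nat_lit 8) (nat_lit 0),
  Rule.mk (nat_lit 2) (nat_lit 117) (Steps.bwd (nat_lit 1) (Steps.bwd (nat_lit 2) (Steps.bwd (nat_lit 1) (Steps.bwd (nat_lit 2) (Steps.bwd (nat_lit 1) (Steps.fwd (nat_lit 4096) (Steps.bwd (nat_lit 1) (Steps.fwd (nat_lit 4096) (Steps.fwd (nat_lit 2048) Steps.nil))))))))) (nat_lit 8) (nat_lit 0),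
  Rule.mk (nat_lit 3) (nat_lit 117) (Steps.bwd (nat_lit 4) (Steps.bwd (nat_lit 3) (Steps.fwd (nat_lit 8192) (Steps.fwd (nat_lit 6144) (Steps.fwd (nat_lit 8192) (Steps.bwd (nat_lit 3) (Steps.bwd (nat_lit 4) (Steps.fwd (nat_lit 6144) (Steps.fwd (nat_lit 8192) Steps.nil))))))))) (nat_lit 12) (nat_lit 1),
  Rule.mk (nat_lit 1) (nat_lit 117) (Steps.bwd (nat_lit 2) (Steps.bwd (nat_lit 1) (Steps.bwd (nat_lit 2) (Steps.bwd (nat_lit 1) (Steps.fwd (nat_lit 4096) (Steps.fwd (nat_lit 2048) (Steps.fwd (nat_lit 4096) (Steps.fwd (nat_lit 2048) (Steps.fwd (nat_lit 4096) Steps.nil))))))))) (nat_lit 8) (nat_lit 1),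
  Rule.mk (nat_lit 1) (nat_lit 45) (Steps.fwd (nat_lit 6144) (Steps.fwd (nat_lit 2048) (Steps.bwd (nat_lit 3) Steps.nil))) (nat_lit 14) (nat_lit 1),
  Rule.mk (nat_lit 3) (nat_lit 117) (Steps.bwd (nat_lit 4) (Steps.bwd (nat_lit 3) (Steps.bwd (nat_lit 4) (Steps.fwd (nat_lit 6144) (Steps.bwd (nat_lit 4) (Steps.fwd (nat_lit 6144) (Steps.bwd (nat_lit 4) (Steps.fwd (nat_lit 6144) (Steps.fwd (nat_lit 8192) Steps.nil))))))))) (nat_lit 12) (nat_lit 1),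
  Rule.mk (nat_lit 4) (nat_lit 117) (Steps.bwd (nat_lit 3) (Steps.bwd (nat_lit 4) (Steps.bwd (nat_lit 3) (Steps.bwd (nat_lit 4) (Steps.bwd (nat_lit 3) (Steps.fwd (nat_lit 8192) (Steps.fwd (nat_lit 6144) (Steps.bwd (nat_lit 4) (Steps.bwd (nat_lit 3) Steps.nil))))))))) (nat_lit 12) (nat_lit 0)]
noncomputable def R_1 : List (Rule) := [Rule.mk (nat_lit 2) (nat_lit 69) (Steps.bwd (nat_lit 3) (Steps.bwd (nat_lit 2) (Steps.bwd (nat_lit 3) (Steps.fwd (nat_lit 4096) (Steps.bwd (nat_lit 3) Steps.nil))))) (nat_lit 10) (nat_lit 1),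
  Rule.mk (nat_lit 1) (nat_lit 45) (Steps.fwd (nat_lit 8192) (Steps.fwd (nat_lit 2048) (Steps.bwd (nat_lit 4) Steps.nil))) (nat_lit 16) (nat_lit 1),
  Rule.mk (nat_lit 4) (nat_lit 117) (Steps.bwd (nat_lit 3) (Steps.fwd (nat_lit 8192) (Steps.bwd (nat_lit 3) (Steps.bwd (nat_lit 4) (Steps.bwd (nat_lit 3) (Steps.fwd (nat_lit 8192) (Steps.fwd (nat_lit 6144) (Steps.fwd (nat_lit 8192) (Steps.bwd (nat_lit 3) Steps.nil))))))))) (nat_lit 12) (nat_lit 0),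
  Rule.mk (nat_lit 4) (nat_lit 117) (Steps.bwd (nat_lit 3) (Steps.bwd (nat_lit 4) (Steps.fwd (nat_lit 6144) (Steps.fwd (nat_lit 8192) (Steps.fwd (nat_lit 6144) (Steps.fwd (nat_lit 8192) (Steps.fwd (nat_lit 6144) (Steps.bwd (nat_lit 4) (Steps.fwd (nat_lit 6144) Steps.nil))))))))) (nat_lit 12) (nat_lit 0),
  Rule.mk (nat_lit 1) (nat_lit 117) (Steps.bwd (nat_lit 2) (Steps.bwd (nat_lit 1) (Steps.bwd (nat_lit 2) (Steps.fwd (nat_lit 2048) (Steps.bwd (nat_lit 2) (Steps.fwd (nat_lit 2048) (Steps.fwd (nat_lit 4096) (Steps.fwd (nat_lit 2048) (Steps.fwd (nat_lit 4096) Steps.nil))))))))) (nat_lit 8) (nat_lit 1),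
  Rule.mk (nat_lit 1) (nat_lit 117) (Steps.bwd (nat_lit 2) (Steps.bwd (nat_lit 1) (Steps.fwd (nat_lit 4096) (Steps.fwd (nat_lit 2048) (Steps.fwd (nat_lit 4096) (Steps.bwd (nat_lit 1) (Steps.bwd (nat_lit 2) (Steps.fwd (nat_lit 2048) (Steps.fwd (nat_lit 4096) Steps.nil))))))))) (nat_lit 8) (nat_lit 1),
  Rule.mk (nat_lit 3) (nat_lit 69) (Steps.bwd (nat_lit 2) (Steps.bwd (nat_lit 3) (Steps.fwd (nat_lit 4096) (Steps.bwd (nat_lit 3) (Steps.fwd (nat_lit 4096) Steps.nil))))) (nat_lit 10) (nat_lit 0),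
  Rule.mk (nat_lit 1) (nat_lit 117) (Steps.bwd (nat_lit 2) (Steps.fwd (nat_lit 2048) (Steps.fwd (nat_lit 4096) (Steps.bwd (nat_lit 1) (Steps.fwd (nat_lit 4096) (Steps.fwd (nat_lit 2048) (Steps.bwd (nat_lit 2) (Steps.bwd (nat_lit 1) (Steps.fwd (nat_lit 4096) Steps.nil))))))))) (nat_lit 8) (nat_lit 1),
  Rule.mk (nat_lit 1) (nat_lit 117) (Steps.bwd (nat_lit 2) (Steps.fwd (nat_lit 2048) (Steps.fwd (nat_lit 4096) (Steps.fwd (nat_lit 2048) (Steps.fwd (nat_lit 4096) (Steps.bwd (nat_lit 1) (Steps.bwd (nat_lit 2) (Steps.bwd (nat_lit 1) (Steps.fwd (nat_lit 4096) Steps.nil))))))))) (nat_lit 8) (nat_lit 1),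
  Rule.mk (nat_lit 2) (nat_lit 69) (Steps.bwd (nat_lit 3) (Steps.bwd (nat_lit 2) (Steps.fwd (nat_lit 6144) (Steps.bwd (nat_lit 2) (Steps.fwd (nat_lit 6144) Steps.nil))))) (nat_lit 10) (nat_lit 1),
  Rule.mk (nat_lit 1) (nat_lit 117) (Steps.bwd (nat_lit 2) (Steps.bwd (nat_lit 1) (Steps.bwd (nat_lit 2) (Steps.bwd (nat_lit 1) (Steps.bwd (nat_lit 2) (Steps.fwd (nat_lit 2048) (Steps.bwd (nat_lit 2) (Steps.fwd (nat_lit 2048) (Steps.fwd (nat_lit 4096) Steps.nil))))))))) (nat_lit 8) (nat_lit 1),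
  Rule.mk (nat_lit 1) (nat_lit 117) (Steps.bwd (nat_lit 2) (Steps.bwd (nat_lit 1) (Steps.bwd (nat_lit 2) (Steps.bwd (nat_lit 1) (Steps.bwd (nat_lit 2) (Steps.fwd (nat_lit 2048) (Steps.fwd (nat_lit 4096) (Steps.fwd (nat_lit 2048) (Steps.fwd (nat_lit 4096) Steps.nil))))))))) (nat_lit 8) (nat_lit 1),
  Rule.mk (nat_lit 4) (nat_lit 117) (Steps.bwd (nat_lit 3) (Steps.bwd (nat_lit 4) (Steps.fwd (nat_lit 6144) (Steps.bwd (nat_lit 4) (Steps.fwd (nat_lit 6144) (Steps.fwd (nat_lit 8192) (Steps.bwd (nat_lit 3) (Steps.fwd (nat_lit 8192) (Steps.fwd (nat_lit 6144) Steps.nil))))))))) (nat_lit 12) (nat_lit 0),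
  Rule.mk (nat_lit 2) (nat_lit 453) (Steps.bwd (nat_lit 3) (Steps.bwd (nat_lit 4) (Steps.fwd (nat_lit 6144) (Steps.bwd (nat_lit 2) (Steps.bwd (nat_lit 1) (Steps.fwd (nat_lit 4096) (Steps.fwd (nat_lit 2048) (Steps.bwd (nat_lit 3) (Steps.bwd (nat_lit 2) (Steps.bwd (nat_lit 1) (Steps.bwd (nat_lit 2) (Steps.bwd (nat_lit 3) (Steps.fwd (nat_lit 8192) (Steps.fwd (nat_lit 6144) (Steps.fwd (nat_lit 4096) (Steps.fwd (nat_lit 2048) (Steps.fwd (nat_lit 4096) (Steps.fwd (nat_lit 6144) (Steps.fwd (nat_lit 2048) (Steps.fwd (nat_lit 4096) (Steps.fwd (nat_lit 2048) (Steps.fwd (nat_lit 4096) (Steps.bwd (nat_lit 3) (Steps.bwd (nat_lit 4) (Steps.fwd (nat_lit 2048) (Steps.bwd (nat_lit 2) (Steps.bwd (nat_lit 1) (Steps.bwd (nat_lit 2) (Steps.fwd (nat_lit 2048) (Steps.fwd (nat_lit 6144) (Steps.bwd (nat_lit 2) (Steps.fwd (nat_lit 2048) (Steps.fwd (nat_lit 4096) (Steps.fwd (nat_lit 2048) (Steps.fwd (nat_lit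 6144) (Steps.fwd (nat_lit 4096) (Steps.fwd (nat_lit 2048) Steps.nil))))))))))))))))))))))))))))))))))))) (nat_lit 22) (nat_lit 37),
  Rule.mk (nat_lit 4) (nat_lit 45) (Steps.fwd (nat_lit 4096) (Steps.fwd (nat_lit 8192) (Steps.bwd (nat_lit 2) Steps.nil))) (nat_lit 18) (nat_lit 0),
  Rule.mk (nat_lit 3) (nat_lit 117) (Steps.fwd (nat_lit 8192) (Steps.bwd (nat_lit 3) (Steps.fwd (nat_lit 8192) (Steps.fwd (nat_lit 6144) (Steps.fwd (nat_lit 8192) (Steps.bwd (nat_lit 3) (Steps.bwd (nat_lit 4) (Steps.fwd (nat_lit 6144) (Steps.bwd (nat_lit 4) Steps.nil))))))))) (nat_lit 12) (nat_lit 1),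
  Rule.mk (nat_lit 0) (nat_lit 189) (Steps.bwd (nat_lit 4) (Steps.bwd (nat_lit 2) (Steps.bwd (nat_lit 3) (Steps.fwd (nat_lit 8192) (Steps.fwd (nat_lit 4096) (Steps.bwd (nat_lit 3) (Steps.fwd (nat_lit 8192) (Steps.fwd (nat_lit 4096) (Steps.fwd (nat_lit 6144) (Steps.fwd (nat_lit 8192) (Steps.bwd (nat_lit 2) (Steps.fwd (nat_lit 6144) (Steps.bwd (nat_lit 4) (Steps.bwd (nat_lit 2) (Steps.fwd (nat_lit 6144) Steps.nil))))))))))))))) (nat_lit 20) (nat_lit 2),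
  Rule.mk (nat_lit 0) (nat_lit 45) (Steps.bwd (nat_lit 2) (Steps.fwd (nat_lit 0) (Steps.fwd (nat_lit 4096) Steps.nil))) (nat_lit 24) (nat_lit 0),
  Rule.mk (nat_lit 1) (nat_lit 33) (Steps.bwd (nat_lit 0) (Steps.fwd (nat_lit 2048) Steps.nil)) (nat_lit 24) (nat_lit 0),
  Rule.mk (nat_lit 4) (nat_lit 33) (Steps.bwd (nat_lit 0) (Steps.bwd (nat_lit 4) Steps.nil)) (nat_lit 24) (nat_lit 0),
  Rule.mk (nat_lit 3) (nat_lit 453) (Steps.bwd (nat_lit 1) (Steps.bwd (nat_lit 2) (Steps.fwd (nat_lit 2048) (Steps.bwd (nat_lit 2) (Steps.bwd (nat_lit 3) (Steps.bwd (nat_lit 4) (Steps.fwd (nat_lit 2048) (Steps.bwd (nat_lit 2) (Steps.fwd (nat_lit 2048) (Steps.fwd (nat_lit 4096) (Steps.fwd (nat_lit 2048) (Steps.bwd (nat_lit 3) (Steps.fwd (nat_lit 4096) (Steps.fwd (nat_lit 2048) (Steps.bwd (nat_lit 2) (Steps.bwd (nat_lit 1) (Steps.bwd (nat_lit 3) (Steps.bwd (nat_lit 2) (Steps.bwd (nat_lit 1) (Steps.fwd (nat_lit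 4096) (Steps.bwd (nat_lit 3) (Steps.bwd (nat_lit 4) (Steps.fwd (nat_lit 6144) (Steps.bwd (nat_lit 2) (Steps.fwd (nat_lit 2048) (Steps.fwd (nat_lit 4096) (Steps.fwd (nat_lit 2048) (Steps.fwd (nat_lit 6144) (Steps.fwd (nat_lit 4096) (Steps.fwd (nat_lit 2048) (Steps.bwd (nat_lit 2) (Steps.bwd (nat_lit 3) (Steps.bwd (nat_lit 4) (Steps.fwd (nat_lit 6144) (Steps.fwd (nat_lit 4096) (Steps.fwd (nat_lit 2048) (Steps.bwd (nat_lit 2) Steps.nil))))))))))))))))))))))))))))))))))))) (nat_lit 22) (nat_lit 17),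
  Rule.mk (nat_lit 2) (nat_lit 117) (Steps.bwd (nat_lit 1) (Steps.fwd (nat_lit 4096) (Steps.fwd (nat_lit 2048) (Steps.fwd (nat_lit 4096) (Steps.bwd (nat_lit 1) (Steps.bwd (nat_lit 2) (Steps.fwd (nat_lit 2048) (Steps.fwd (nat_lit 4096) (Steps.bwd (nat_lit 1) Steps.nil))))))))) (nat_lit 8) (nat_lit 0),
  Rule.mk (nat_lit 2) (nat_lit 117) (Steps.bwd (nat_lit 1) (Steps.bwd (nat_lit 2) (Steps.bwd (nat_lit 1) (Steps.fwd (nat_lit 4096) (Steps.bwd (nat_lit 1) (Steps.fwd (nat_lit 4096) (Steps.bwd (nat_lit 1) (Steps.fwd (nat_lit 4096) (Steps.fwd (nat_lit 2048) Steps.nil))))))))) (nat_lit 8) (nat_lit 0),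
  Rule.mk (nat_lit 3) (nat_lit 177) (Steps.bwd (nat_lit 4) (Steps.fwd (nat_lit 4096) (Steps.fwd (nat_lit 6144) (Steps.bwd (nat_lit 4) (Steps.bwd (nat_lit 2) (Steps.bwd (nat_lit 3) (Steps.fwd (nat_lit 8192) (Steps.bwd (nat_lit 2) (Steps.fwd (nat_lit 6144) (Steps.bwd (nat_lit 4) (Steps.bwd (nat_lit 2) (Steps.fwd (nat_lit 6144) (Steps.fwd (nat_lit 8192) (Steps.bwd (nat_lit 2) Steps.nil)))))))))))))) (nat_lit 20) (nat_lit 2),
  Rule.mk (nat_lit 3) (nat_lit 45) (Steps.fwd (nat_lit 2048) (Steps.bwd (nat_lit 3) (Steps.fwd (nat_lit 2048) Steps.nil))) (nat_lit 14) (nat_lit 0),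
  Rule.mk (nat_lit 1) (nat_lit 117) (Steps.bwd (nat_lit 2) (Steps.fwd (nat_lit 2048) (Steps.bwd (nat_lit 2) (Steps.fwd (nat_lit 2048) (Steps.bwd (nat_lit 2) (Steps.bwd (nat_lit 1) (Steps.bwd (nat_lit 2) (Steps.fwd (nat_lit 2048) (Steps.fwd (nat_lit 4096) Steps.nil))))))))) (nat_lit 8) (nat_lit 1),
  Rule.mk (nat_lit 3) (nat_lit 177) (Steps.bwd (nat_lit 4) (Steps.fwd (nat_lit 4096) (Steps.bwd (nat_lit 3) (Steps.fwd (nat_lit 8192) (Steps.bwd (nat_lit 2) (Steps.fwd (nat_lit 6144) (Steps.bwd (nat_lit 4) (Steps.fwd (nat_lit 4096) (Steps.fwd (nat_lit 6144) (Steps.fwd (nat_lit 8192) (Steps.bwd (nat_lit 2) (Steps.fwd (nat_lit 6144) (Steps.bwd (nat_lit 4) (Steps.fwd (nat_lit 4096) Steps.nil)))))))))))))) (nat_lit 20) (nat_lit 2),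
  Rule.mk (nat_lit 3) (nat_lit 69) (Steps.bwd (nat_lit 2) (Steps.fwd (nat_lit 6144) (Steps.bwd (nat_lit 2) (Steps.fwd (nat_lit 6144) (Steps.fwd (nat_lit 4096) Steps.nil))))) (nat_lit 10) (nat_lit 0),
  Rule.mk (nat_lit 3) (nat_lit 69) (Steps.bwd (nat_lit 2) (Steps.fwd (nat_lit 6144) (Steps.bwd (nat_lit 2) (Steps.bwd (nat_lit 3) (Steps.bwd (nat_lit 2) Steps.nil))))) (nat_lit 10) (nat_lit 0),
  Rule.mk (nat_lit 3) (nat_lit 117) (Steps.bwd (nat_lit 4) (Steps.fwd (nat_lit 6144) (Steps.fwd (nat_lit 8192) (Steps.fwd (nat_lit 6144) (Steps.bwd (nat_lit 4) (Steps.bwd (nat_lit 3) (Steps.bwd (nat_lit 4) (Steps.fwd (nat_lit 6144) (Steps.fwd (nat_lit 8192) Steps.nil))))))))) (nat_lit 12) (nat_lit 1),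
  Rule.mk (nat_lit 4) (nat_lit 45) (Steps.bwd (nat_lit 2) (Steps.bwd (nat_lit 4) (Steps.bwd (nat_lit 2) Steps.nil))) (nat_lit 18) (nat_lit 0),
  Rule.mk (nat_lit 3) (nat_lit 117) (Steps.bwd (nat_lit 4) (Steps.fwd (nat_lit 6144) (Steps.bwd (nat_lit 4) (Steps.bwd (nat_lit 3) (Steps.fwd (nat_lit 8192) (Steps.bwd (nat_lit 3) (Steps.fwd (nat_lit 8192) (Steps.fwd (nat_lit 6144) (Steps.fwd (nat_lit 8192) Steps.nil))))))))) (nat_lit 12) (nat_lit 1),
  Rule.mk (nat_lit 2) (nat_lit 45) (Steps.bwd (nat_lit 4) (Steps.bwd (nat_lit 2) (Steps.bwd (nat_lit 4) Steps.nil))) (nat_lit 18) (nat_lit 1),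
  Rule.mk (nat_lit 3) (nat_lit 69) (Steps.bwd (nat_lit 2) (Steps.fwd (nat_lit 6144) (Steps.bwd (nat_lit 2) (Steps.bwd (nat_lit 3) (Steps.fwd (nat_lit 4096) Steps.nil))))) (nat_lit 10) (nat_lit 0),
  Rule.mk (nat_lit 3) (nat_lit 117) (Steps.bwd (nat_lit 4) (Steps.fwd (nat_lit 6144) (Steps.bwd (nat_lit 4) (Steps.bwd (nat_lit 3) (Steps.bwd (nat_lit 4) (Steps.fwd (nat_lit 6144) (Steps.bwd (nat_lit 4) (Steps.fwd (nat_lit 6144) (Steps.bwd (nat_lit 4) Steps.nil))))))))) (nat_lit 12) (nat_lit 1),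
  Rule.mk (nat_lit 2) (nat_lit 177) (Steps.bwd (nat_lit 3) (Steps.fwd (nat_lit 8192) (Steps.fwd (nat_lit 4096) (Steps.bwd (nat_lit 3) (Steps.bwd (nat_lit 4) (Steps.fwd (nat_lit 4096) (Steps.bwd (nat_lit 3) (Steps.bwd (nat_lit 4) (Steps.fwd (nat_lit 4096) (Steps.fwd (nat_lit 6144) (Steps.bwd (nat_lit 4) (Steps.bwd (nat_lit 2) (Steps.bwd (nat_lit 3) (Steps.bwd (nat_lit 4) Steps.nil)))))))))))))) (nat_lit 20) (nat_lit 1),
  Rule.mk (nat_lit 3) (nat_lit 117) (Steps.bwd (nat_lit 4) (Steps.fwd (nat_lit 6144) (Steps.fwd (nat_lit 8192) (Steps.fwd (nat_lit 6144) (Steps.bwd (nat_lit 4) (Steps.bwd (nat_lit 3) (Steps.fwd (nat_lit 8192) (Steps.fwd (nat_lit 6144) (Steps.fwd (nat_lit 8192) Steps.nil))))))))) (nat_lit 12) (nat_lit 1),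
  Rule.mk (nat_lit 3) (nat_lit 69) (Steps.bwd (nat_lit 2) (Steps.fwd (nat_lit 6144) (Steps.bwd (nat_lit 2) (Steps.fwd (nat_lit 6144) (Steps.bwd (nat_lit 2) Steps.nil))))) (nat_lit 10) (nat_lit 0),
  Rule.mk (nat_lit 2) (nat_lit 117) (Steps.bwd (nat_lit 1) (Steps.fwd (nat_lit 4096) (Steps.fwd (nat_lit 2048) (Steps.bwd (nat_lit 2) (Steps.bwd (nat_lit 1) (Steps.fwd (nat_lit 4096) (Steps.fwd (nat_lit 2048) (Steps.bwd (nat_lit 2) (Steps.fwd (nat_lit 2048) Steps.nil))))))))) (nat_lit 8) (nat_lit 0),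
  Rule.mk (nat_lit 2) (nat_lit 45) (Steps.bwd (nat_lit 4) (Steps.fwd (nat_lit 4096) (Steps.bwd (nat_lit 4) Steps.nil))) (nat_lit 18) (nat_lit 1),
  Rule.mk (nat_lit 2) (nat_lit 117) (Steps.bwd (nat_lit 1) (Steps.bwd (nat_lit 2) (Steps.fwd (nat_lit 2048) (Steps.fwd (nat_lit 4096) (Steps.bwd (nat_lit 1) (Steps.bwd (nat_lit 2) (Steps.bwd (nat_lit 1) (Steps.fwd (nat_lit 4096) (Steps.fwd (nat_lit 2048) Steps.nil))))))))) (nat_lit 8) (nat_lit 0),
  Rule.mk (nat_lit 1) (nat_lit 117) (Steps.bwd (nat_lit 2) (Steps.bwd (nat_lit 1) (Steps.bwd (nat_lit 2) (Steps.bwd (nat_lit 1) (Steps.fwd (nat_lit 4096) (Steps.bwd (nat_lit 1) (Steps.bwd (nat_lit 2) (Steps.fwd (nat_lit 2048) (Steps.fwd (nat_lit 4096) Steps.nil))))))))) (nat_lit 8) (nat_lit 1),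
  Rule.mk (nat_lit 2) (nat_lit 177) (Steps.bwd (nat_lit 4) (Steps.bwd (nat_lit 3) (Steps.fwd (nat_lit 4096) (Steps.bwd (nat_lit 4) (Steps.bwd (nat_lit 3) (Steps.fwd (nat_lit 4096) (Steps.fwd (nat_lit 8192) (Steps.fwd (nat_lit 6144) (Steps.fwd (nat_lit 4096) (Steps.bwd (nat_lit 4) (Steps.fwd (nat_lit 6144) (Steps.bwd (nat_lit 2) (Steps.fwd (nat_lit 8192) (Steps.fwd (nat_lit 6144) Steps.nil)))))))))))))) (nat_lit 21) (nat_lit 0),
  Rule.mk (nat_lit 3) (nat_lit 117) (Steps.bwd (nat_lit 4) (Steps.fwd (nat_lit 6144) (Steps.bwd (nat_lit 4) (Steps.fwd (nat_lit 6144) (Steps.fwd (nat_lit 8192) (Steps.bwd (nat_lit 3) (Steps.fwd (nat_lit 8192) (Steps.bwd (nat_lit 3) (Steps.fwd (nat_lit 8192) Steps.nil))))))))) (nat_lit 12) (nat_lit 1),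
  Rule.mk (nat_lit 2) (nat_lit 117) (Steps.bwd (nat_lit 1) (Steps.bwd (nat_lit 2) (Steps.bwd (nat_lit 1) (Steps.fwd (nat_lit 4096) (Steps.bwd (nat_lit 1) (Steps.bwd (nat_lit 2) (Steps.fwd (nat_lit 2048) (Steps.fwd (nat_lit 4096) (Steps.fwd (nat_lit 2048) Steps.nil))))))))) (nat_lit 8) (nat_lit 0),
  Rule.mk (nat_lit 1) (nat_lit 117) (Steps.bwd (nat_lit 2) (Steps.bwd (nat_lit 1) (Steps.bwd (nat_lit 2) (Steps.fwd (nat_lit 2048) (Steps.fwd (nat_lit 4096) (Steps.bwd (nat_lit 1) (Steps.bwd (nat_lit 2) (Steps.bwd (nat_lit 1) (Steps.fwd (nat_lit 4096) Steps.nil))))))))) (nat_lit 8) (nat_lit 1),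
  Rule.mk (nat_lit 2) (nat_lit 117) (Steps.bwd (nat_lit 1) (Steps.bwd (nat_lit 2) (Steps.fwd (nat_lit 2048) (Steps.bwd (nat_lit 2) (Steps.bwd (nat_lit 1) (Steps.bwd (nat_lit 2) (Steps.fwd (nat_lit 2048) (Steps.fwd (nat_lit 4096) (Steps.fwd (nat_lit 2048) Steps.nil))))))))) (nat_lit 8) (nat_lit 0),
  Rule.mk (nat_lit 1) (nat_lit 117) (Steps.bwd (nat_lit 2) (Steps.bwd (nat_lit 1) (Steps.fwd (nat_lit 4096) (Steps.bwd (nat_lit 1) (Steps.fwd (nat_lit 4096) (Steps.bwd (nat_lit 1) (Steps.bwd (nat_lit 2) (Steps.fwd (nat_lit 2048) (Steps.bwd (nat_lit 2) Steps.nil))))))))) (nat_lit 8) (nat_lit 1),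
  Rule.mk (nat_lit 4) (nat_lit 117) (Steps.bwd (nat_lit 3) (Steps.bwd (nat_lit 4) (Steps.bwd (nat_lit 3) (Steps.bwd (nat_lit 4) (Steps.fwd (nat_lit 6144) (Steps.bwd (nat_lit 4) (Steps.fwd (nat_lit 6144) (Steps.bwd (nat_lit 4) (Steps.fwd (nat_lit 6144) Steps.nil))))))))) (nat_lit 12) (nat_lit 0),
  Rule.mk (nat_lit 0) (nat_lit 465) (Steps.bwd (nat_lit 3) (Steps.fwd (nat_lit 8192) (Steps.bwd (nat_lit 1) (Steps.bwd (nat_lit 2) (Steps.bwd (nat_lit 1) (Steps.bwd (nat_lit 2) (Steps.bwd (nat_lit 1) (Steps.bwd (nat_lit 3) (Steps.fwd (nat_lit 4096) (Steps.fwd (nat_lit 2048) (Steps.fwd (nat_lit 4096) (Steps.bwd (nat_lit 1) (Steps.fwd (nat_lit 6144) (Steps.fwd (nat_lit 4096) (Steps.fwd (nat_lit 2048) (Steps.fwd (nat_lit 4096) (Steps.fwd (nat_lit 6144) (Steps.fwd (nat_lit 8192) (Steps.fwd (nat_lit 6144) (Steps.bwd (nat_lit 2) (Steps.bwd (nat_lit 1) (Steps.bwd (nat_lit 2) (Steps.fwd (nat_lit 2048)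 (Steps.bwd (nat_lit 3) (Steps.fwd (nat_lit 4096) (Steps.bwd (nat_lit 1) (Steps.fwd (nat_lit 4096) (Steps.fwd (nat_lit 6144) (Steps.bwd (nat_lit 4) (Steps.bwd (nat_lit 3) (Steps.fwd (nat_lit 4096) (Steps.bwd (nat_lit 1) (Steps.fwd (nat_lit 4096) (Steps.fwd (nat_lit 6144) (Steps.fwd (nat_lit 2048) (Steps.fwd (nat_lit 4096) (Steps.bwd (nat_lit 1) (Steps.fwd (nat_lit 4096) Steps.nil)))))))))))))))))))))))))))))))))))))) (nat_lit 22) (nat_lit 21),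
  Rule.mk (nat_lit 0) (nat_lit 45) (Steps.bwd (nat_lit 1) (Steps.bwd (nat_lit 0) (Steps.fwd (nat_lit 2048) Steps.nil))) (nat_lit 24) (nat_lit 0),
  Rule.mk (nat_lit 0) (nat_lit 45) (Steps.bwd (nat_lit 3) (Steps.bwd (nat_lit 0) (Steps.bwd (nat_lit 3) Steps.nil))) (nat_lit 24) (nat_lit 0),
  Rule.mk (nat_lit 1) (nat_lit 33) (Steps.bwd (nat_lit 0) (Steps.bwd (nat_lit 1) Steps.nil)) (nat_lit 24) (nat_lit 0),
  Rule.mk (nat_lit 4) (nat_lit 33) (Steps.bwd (nat_lit 0) (Steps.fwd (nat_lit 8192) Steps.nil)) (nat_lit 24) (nat_lit 0),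
  Rule.mk (nat_lit 3) (nat_lit 33) (Steps.bwd (nat_lit 0) (Steps.bwd (nat_lit 3) Steps.nil)) (nat_lit 24) (nat_lit 0),
  Rule.mk (nat_lit 2) (nat_lit 69) (Steps.bwd (nat_lit 3) (Steps.fwd (nat_lit 4096) (Steps.bwd (nat_lit 3) (Steps.bwd (nat_lit 2) (Steps.fwd (nat_lit 6144) Steps.nil))))) (nat_lit 10) (nat_lit 1),
  Rule.mk (nat_lit 4) (nat_lit 117) (Steps.bwd (nat_lit 3) (Steps.bwd (nat_lit 4) (Steps.bwd (nat_lit 3) (Steps.fwd (nat_lit 8192) (Steps.bwd (nat_lit 3) (Steps.fwd (nat_lit 8192) (Steps.bwd (nat_lit 3) (Steps.fwd (nat_lit 8192) (Steps.fwd (nat_lit 6144) Steps.nil))))))))) (nat_lit 12) (nat_lit 0),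
  Rule.mk (nat_lit 3) (nat_lit 117) (Steps.bwd (nat_lit 4) (Steps.fwd (nat_lit 6144) (Steps.fwd (nat_lit 8192) (Steps.fwd (nat_lit 6144) (Steps.fwd (nat_lit 8192) (Steps.bwd (nat_lit 3) (Steps.fwd (nat_lit 8192) (Steps.bwd (nat_lit 3) (Steps.bwd (nat_lit 4) Steps.nil))))))))) (nat_lit 12) (nat_lit 1),
  Rule.mk (nat_lit 3) (nat_lit 117) (Steps.bwd (nat_lit 4) (Steps.bwd (nat_lit 3) (Steps.fwd (nat_lit 8192) (Steps.bwd (nat_lit 3) (Steps.fwd (nat_lit 8192) (Steps.fwd (nat_lit 6144) (Steps.bwd (nat_lit 4) (Steps.fwd (nat_lit 6144) (Steps.fwd (nat_lit 8192) Steps.nil))))))))) (nat_lit 12) (nat_lit 1),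
  Rule.mk (nat_lit 2) (nat_lit 177) (Steps.bwd (nat_lit 4) (Steps.bwd (nat_lit 3) (Steps.fwd (nat_lit 4096) (Steps.fwd (nat_lit 8192) (Steps.bwd (nat_lit 3) (Steps.bwd (nat_lit 2) (Steps.fwd (nat_lit 8192) (Steps.bwd (nat_lit 3) (Steps.fwd (nat_lit 4096) (Steps.bwd (nat_lit 4) (Steps.fwd (nat_lit 6144) (Steps.fwd (nat_lit 4096) (Steps.fwd (nat_lit 8192) (Steps.bwd (nat_lit 3) Steps.nil)))))))))))))) (nat_lit 21) (nat_lit 0),
  Rule.mk (nat_lit 2) (nat_lit 117) (Steps.bwd (nat_lit 1) (Steps.fwd (nat_lit 4096) (Steps.bwd (nat_lit 1) (Steps.bwd (nat_lit 2) (Steps.bwd (nat_lit 1) (Steps.fwd (nat_lit 4096) (Steps.fwd (nat_lit 2048) (Steps.fwd (nat_lit 4096) (Steps.fwd (nat_lit 2048) Steps.nil))))))))) (nat_lit 8) (nat_lit 0),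
  Rule.mk (nat_lit 3) (nat_lit 45) (Steps.fwd (nat_lit 2048) (Steps.bwd (nat_lit 3) (Steps.bwd (nat_lit 1) Steps.nil))) (nat_lit 14) (nat_lit 0),
  Rule.mk (nat_lit 0) (nat_lit 81) (Steps.fwd (nat_lit 6144) (Steps.bwd (nat_lit 2) (Steps.fwd (nat_lit 6144) (Steps.bwd (nat_lit 2) (Steps.bwd (nat_lit 3) (Steps.fwd (nat_lit 4096) Steps.nil)))))) (nat_lit 10) (nat_lit 1),
  Rule.mk (nat_lit 3) (nat_lit 33) (Steps.bwd (nat_lit 0) (Steps.fwd (nat_lit 6144) Steps.nil)) (nat_lit 24) (nat_lit 0)]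
noncomputable def R_2 : List (Rule) := [Rule.mk (nat_lit 3) (nat_lit 117) (Steps.bwd (nat_lit 4) (Steps.bwd (nat_lit 3) (Steps.bwd (nat_lit 4) (Steps.fwd (nat_lit 6144) (Steps.bwd (nat_lit 4) (Steps.fwd (nat_lit 6144) (Steps.fwd (nat_lit 8192) (Steps.fwd (nat_lit 6144) (Steps.bwd (nat_lit 4) Steps.nil))))))))) (nat_lit 12) (nat_lit 1),
  Rule.mk (nat_lit 1) (nat_lit 117) (Steps.bwd (nat_lit 2) (Steps.fwd (nat_lit 2048) (Steps.bwd (nat_lit 2) (Steps.bwd (nat_lit 1) (Steps.fwd (nat_lit 4096) (Steps.fwd (nat_lit 2048) (Steps.bwd (nat_lit 2) (Steps.fwd (nat_lit 2048) (Steps.bwd (nat_lit 2) Steps.nil))))))))) (nat_lit 8) (nat_lit 1),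
  Rule.mk (nat_lit 3) (nat_lit 177) (Steps.bwd (nat_lit 2) (Steps.bwd (nat_lit 4) (Steps.bwd (nat_lit 3) (Steps.fwd (nat_lit 4096) (Steps.fwd (nat_lit 8192) (Steps.bwd (nat_lit 3) (Steps.bwd (nat_lit 2) (Steps.bwd (nat_lit 4) (Steps.fwd (nat_lit 6144) (Steps.bwd (nat_lit 2) (Steps.fwd (nat_lit 8192) (Steps.fwd (nat_lit 6144) (Steps.bwd (nat_lit 2) (Steps.bwd (nat_lit 4) Steps.nil)))))))))))))) (nat_lit 21) (nat_lit 2),
  Rule.mk (nat_lit 4) (nat_lit 117) (Steps.bwd (nat_lit 3) (Steps.bwd (nat_lit 4) (Steps.bwd (nat_lit 3) (Steps.bwd (nat_lit 4) (Steps.bwd (nat_lit 3) (Steps.fwd (nat_lit 8192) (Steps.bwd (nat_lit 3) (Steps.fwd (nat_lit 8192) (Steps.fwd (nat_lit 6144) Steps.nil))))))))) (nat_lit 12) (nat_lit 0),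
  Rule.mk (nat_lit 2) (nat_lit 69) (Steps.bwd (nat_lit 3) (Steps.fwd (nat_lit 4096) (Steps.fwd (nat_lit 6144) (Steps.bwd (nat_lit 2) (Steps.bwd (nat_lit 3) Steps.nil))))) (nat_lit 10) (nat_lit 1),
  Rule.mk (nat_lit 2) (nat_lit 117) (Steps.bwd (nat_lit 1) (Steps.fwd (nat_lit 4096) (Steps.fwd (nat_lit 2048) (Steps.fwd (nat_lit 4096) (Steps.bwd (nat_lit 1) (Steps.fwd (nat_lit 4096) (Steps.bwd (nat_lit 1) (Steps.bwd (nat_lit 2) (Steps.fwd (nat_lit 2048) Steps.nil))))))))) (nat_lit 8) (nat_lit 0),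
  Rule.mk (nat_lit 4) (nat_lit 45) (Steps.bwd (nat_lit 1) (Steps.bwd (nat_lit 4) (Steps.bwd (nat_lit 1) Steps.nil))) (nat_lit 16) (nat_lit 0),
  Rule.mk (nat_lit 2) (nat_lit 117) (Steps.bwd (nat_lit 1) (Steps.fwd (nat_lit 4096) (Steps.bwd (nat_lit 1) (Steps.fwd (nat_lit 4096) (Steps.bwd (nat_lit 1) (Steps.bwd (nat_lit 2) (Steps.fwd (nat_lit 2048) (Steps.bwd (nat_lit 2) (Steps.bwd (nat_lit 1) Steps.nil))))))))) (nat_lit 8) (nat_lit 0),
  Rule.mk (nat_lit 2) (nat_lit 117) (Steps.bwd (nat_lit 1) (Steps.fwd (nat_lit 4096) (Steps.bwd (nat_lit 1) (Steps.fwd (nat_lit 4096) (Steps.fwd (nat_lit 2048) (Steps.bwd (nat_lit 2) (Steps.fwd (nat_lit 2048) (Steps.bwd (nat_lit 2) (Steps.fwd (nat_lit 2048) Steps.nil))))))))) (nat_lit 8) (nat_lit 0),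
  Rule.mk (nat_lit 2) (nat_lit 117) (Steps.bwd (nat_lit 1) (Steps.fwd (nat_lit 4096) (Steps.fwd (nat_lit 2048) (Steps.bwd (nat_lit 2) (Steps.fwd (nat_lit 2048) (Steps.fwd (nat_lit 4096) (Steps.bwd (nat_lit 1) (Steps.bwd (nat_lit 2) (Steps.fwd (nat_lit 2048) Steps.nil))))))))) (nat_lit 8) (nat_lit 0),
  Rule.mk (nat_lit 3) (nat_lit 117) (Steps.bwd (nat_lit 4) (Steps.bwd (nat_lit 3) (Steps.bwd (nat_lit 4) (Steps.fwd (nat_lit 6144) (Steps.fwd (nat_lit 8192) (Steps.fwd (nat_lit 6144) (Steps.fwd (nat_lit 8192) (Steps.fwd (nat_lit 6144) (Steps.fwd (nat_lit 8192) Steps.nil))))))))) (nat_lit 12) (nat_lit 1),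
  Rule.mk (nat_lit 2) (nat_lit 117) (Steps.bwd (nat_lit 1) (Steps.fwd (nat_lit 4096) (Steps.bwd (nat_lit 1) (Steps.bwd (nat_lit 2) (Steps.fwd (nat_lit 2048) (Steps.fwd (nat_lit 4096) (Steps.fwd (nat_lit 2048) (Steps.bwd (nat_lit 2) (Steps.fwd (nat_lit 2048) Steps.nil))))))))) (nat_lit 8) (nat_lit 0),
  Rule.mk (nat_lit 4) (nat_lit 117) (Steps.bwd (nat_lit 3) (Steps.fwd (nat_lit 8192) (Steps.bwd (nat_lit 3) (Steps.fwd (nat_lit 8192) (Steps.fwd (nat_lit 6144) (Steps.fwd (nat_lit 8192) (Steps.fwd (nat_lit 6144) (Steps.fwd (nat_lit 8192) (Steps.fwd (nat_lit 6144) Steps.nil))))))))) (nat_lit 12) (nat_lit 0),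
  Rule.mk (nat_lit 4) (nat_lit 117) (Steps.bwd (nat_lit 3) (Steps.fwd (nat_lit 8192) (Steps.bwd (nat_lit 3) (Steps.fwd (nat_lit 8192) (Steps.bwd (nat_lit 3) (Steps.fwd (nat_lit 8192) (Steps.bwd (nat_lit 3) (Steps.fwd (nat_lit 8192) (Steps.fwd (nat_lit 6144) Steps.nil))))))))) (nat_lit 12) (nat_lit 0),
  Rule.mk (nat_lit 1) (nat_lit 117) (Steps.bwd (nat_lit 2) (Steps.fwd (nat_lit 2048) (Steps.bwd (nat_lit 2) (Steps.bwd (nat_lit 1) (Steps.bwd (nat_lit 2) (Steps.bwd (nat_lit 1) (Steps.bwd (nat_lit 2) (Steps.bwd (nat_lit 1) (Steps.bwd (nat_lit 2) Steps.nil))))))))) (nat_lit 8) (nat_lit 1),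
  Rule.mk (nat_lit 4) (nat_lit 117) (Steps.bwd (nat_lit 3) (Steps.fwd (nat_lit 8192) (Steps.fwd (nat_lit 6144) (Steps.bwd (nat_lit 4) (Steps.bwd (nat_lit 3) (Steps.bwd (nat_lit 4) (Steps.fwd (nat_lit 6144) (Steps.fwd (nat_lit 8192) (Steps.fwd (nat_lit 6144) Steps.nil))))))))) (nat_lit 12) (nat_lit 0),
  Rule.mk (nat_lit 2) (nat_lit 69) (Steps.bwd (nat_lit 3) (Steps.bwd (nat_lit 2) (Steps.bwd (nat_lit 3) (Steps.bwd (nat_lit 2) (Steps.bwd (nat_lit 3) Steps.nil))))) (nat_lit 10) (nat_lit 1),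
  Rule.mk (nat_lit 4) (nat_lit 117) (Steps.bwd (nat_lit 3) (Steps.fwd (nat_lit 8192) (Steps.bwd (nat_lit 3) (Steps.bwd (nat_lit 4) (Steps.bwd (nat_lit 3) (Steps.bwd (nat_lit 4) (Steps.bwd (nat_lit 3) (Steps.bwd (nat_lit 4) (Steps.fwd (nat_lit 6144) Steps.nil))))))))) (nat_lit 12) (nat_lit 0),
  Rule.mk (nat_lit 2) (nat_lit 69) (Steps.bwd (nat_lit 3) (Steps.fwd (nat_lit 4096) (Steps.fwd (nat_lit 6144) (Steps.fwd (nat_lit 4096) (Steps.fwd (nat_lit 6144) Steps.nil))))) (nat_lit 10) (nat_lit 1),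
  Rule.mk (nat_lit 3) (nat_lit 69) (Steps.bwd (nat_lit 2) (Steps.bwd (nat_lit 3) (Steps.bwd (nat_lit 2) (Steps.bwd (nat_lit 3) (Steps.bwd (nat_lit 2) Steps.nil))))) (nat_lit 10) (nat_lit 0),
  Rule.mk (nat_lit 4) (nat_lit 117) (Steps.bwd (nat_lit 3) (Steps.bwd (nat_lit 4) (Steps.bwd (nat_lit 3) (Steps.bwd (nat_lit 4) (Steps.fwd (nat_lit 6144) (Steps.fwd (nat_lit 8192) (Steps.bwd (nat_lit 3) (Steps.bwd (nat_lit 4) (Steps.bwd (nat_lit 3) Steps.nil))))))))) (nat_lit 12) (nat_lit 0),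
  Rule.mk (nat_lit 4) (nat_lit 117) (Steps.bwd (nat_lit 3) (Steps.fwd (nat_lit 8192) (Steps.bwd (nat_lit 3) (Steps.fwd (nat_lit 8192) (Steps.fwd (nat_lit 6144) (Steps.fwd (nat_lit 8192) (Steps.bwd (nat_lit 3) (Steps.fwd (nat_lit 8192) (Steps.fwd (nat_lit 6144) Steps.nil))))))))) (nat_lit 12) (nat_lit 0),
  Rule.mk (nat_lit 4) (nat_lit 117) (Steps.bwd (nat_lit 3) (Steps.fwd (nat_lit 8192) (Steps.bwd (nat_lit 3) (Steps.bwd (nat_lit 4) (Steps.fwd (nat_lit 6144) (Steps.bwd (nat_lit 4) (Steps.fwd (nat_lit 6144) (Steps.bwd (nat_lit 4) (Steps.fwd (nat_lit 6144) Steps.nil))))))))) (nat_lit 12) (nat_lit 0),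
  Rule.mk (nat_lit 4) (nat_lit 117) (Steps.bwd (nat_lit 3) (Steps.fwd (nat_lit 8192) (Steps.fwd (nat_lit 6144) (Steps.fwd (nat_lit 8192) (Steps.bwd (nat_lit 3) (Steps.bwd (nat_lit 4) (Steps.bwd (nat_lit 3) (Steps.fwd (nat_lit 8192) (Steps.bwd (nat_lit 3) Steps.nil))))))))) (nat_lit 12) (nat_lit 0),
  Rule.mk (nat_lit 1) (nat_lit 117) (Steps.bwd (nat_lit 2) (Steps.fwd (nat_lit 2048) (Steps.fwd (nat_lit 4096) (Steps.bwd (nat_lit 1) (Steps.fwd (nat_lit 4096) (Steps.fwd (nat_lit 2048) (Steps.fwd (nat_lit 4096) (Steps.bwd (nat_lit 1) (Steps.fwd (nat_lit 4096) Steps.nil))))))))) (nat_lit 8) (nat_lit 1),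
  Rule.mk (nat_lit 2) (nat_lit 117) (Steps.bwd (nat_lit 1) (Steps.bwd (nat_lit 2) (Steps.fwd (nat_lit 2048) (Steps.bwd (nat_lit 2) (Steps.bwd (nat_lit 1) (Steps.fwd (nat_lit 4096) (Steps.fwd (nat_lit 2048) (Steps.fwd (nat_lit 4096) (Steps.fwd (nat_lit 2048) Steps.nil))))))))) (nat_lit 8) (nat_lit 0),
  Rule.mk (nat_lit 1) (nat_lit 453) (Steps.bwd (nat_lit 2) (Steps.bwd (nat_lit 3) (Steps.fwd (nat_lit 8192) (Steps.bwd (nat_lit 3) (Steps.bwd (nat_lit 2) (Steps.bwd (nat_lit 1) (Steps.fwd (nat_lit 4096) (Steps.bwd (nat_lit 1) (Steps.fwd (nat_lit 6144) (Steps.bwd (nat_lit 2) (Steps.bwd (nat_lit 1) (Steps.bwd (nat_lit 2) (Steps.fwd (nat_lit 6144) (Steps.fwd (nat_lit 8192) (Steps.bwd (nat_lit 3) (Steps.fwd (nat_lit 4096) (Steps.fwd (nat_lit 2048) (Steps.fwd (nat_lit 4096) (Steps.bwd (nat_lit 3) (Steps.fwd (nat_lit 2048) (Steps.bwd (nat_lit 2) (Steps.fwd (nat_lit 2048) (Steps.fwd (nat_lit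 4096) (Steps.fwd (nat_lit 6144) (Steps.bwd (nat_lit 4) (Steps.bwd (nat_lit 1) (Steps.bwd (nat_lit 2) (Steps.fwd (nat_lit 2048) (Steps.fwd (nat_lit 4096) (Steps.fwd (nat_lit 2048) (Steps.fwd (nat_lit 6144) (Steps.bwd (nat_lit 2) (Steps.bwd (nat_lit 1) (Steps.fwd (nat_lit 4096) (Steps.fwd (nat_lit 2048) (Steps.fwd (nat_lit 6144) (Steps.fwd (nat_lit 4096) Steps.nil))))))))))))))))))))))))))))))))))))) (nat_lit 22) (nat_lit 36),
  Rule.mk (nat_lit 2) (nat_lit 117) (Steps.bwd (nat_lit 1) (Steps.bwd (nat_lit 2) (Steps.fwd (nat_lit 2048) (Steps.bwd (nat_lit 2) (Steps.fwd (nat_lit 2048) (Steps.fwd (nat_lit 4096) (Steps.bwd (nat_lit 1) (Steps.fwd (nat_lit 4096) (Steps.bwd (nat_lit 1) Steps.nil))))))))) (nat_lit 8) (nat_lit 0),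
  Rule.mk (nat_lit 3) (nat_lit 453) (Steps.bwd (nat_lit 1) (Steps.bwd (nat_lit 2) (Steps.fwd (nat_lit 2048) (Steps.bwd (nat_lit 2) (Steps.bwd (nat_lit 3) (Steps.bwd (nat_lit 4) (Steps.bwd (nat_lit 1) (Steps.fwd (nat_lit 4096) (Steps.fwd (nat_lit 2048) (Steps.bwd (nat_lit 2) (Steps.fwd (nat_lit 2048) (Steps.fwd (nat_lit 6144) (Steps.fwd (nat_lit 4096) (Steps.fwd (nat_lit 2048) (Steps.bwd (nat_lit 2) (Steps.bwd (nat_lit 1) (Steps.fwd (nat_lit 6144) (Steps.bwd (nat_lit 2) (Steps.fwd (nat_lit 2048) (Steps.bwd (nat_lit 2) (Steps.bwd (nat_lit 3) (Steps.bwd (nat_lit 4) (Steps.fwd (nat_lit 6144) (Steps.bwd (nat_lit 2) (Steps.fwd (nat_lit 2048) (Steps.fwd (nat_lit 4096) (Steps.fwd (nat_lit 2048) (Steps.fwd (nat_lit 6144) (Steps.fwd (nat_lit 4096) (Steps.fwd (nat_lit 2048) (Steps.bwd (nat_lit 2) (Steps.bwd (nat_lit 3) (Steps.fwd (nat_lit 8192) (Steps.fwd (nat_lit 6144) (Steps.fwd (nat_lit 4096)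 (Steps.bwd (nat_lit 1) (Steps.fwd (nat_lit 4096) Steps.nil))))))))))))))))))))))))))))))))))))) (nat_lit 22) (nat_lit 17),
  Rule.mk (nat_lit 4) (nat_lit 177) (Steps.bwd (nat_lit 3) (Steps.fwd (nat_lit 4096) (Steps.bwd (nat_lit 4) (Steps.bwd (nat_lit 3) (Steps.fwd (nat_lit 4096) (Steps.bwd (nat_lit 4) (Steps.bwd (nat_lit 3) (Steps.bwd (nat_lit 2) (Steps.bwd (nat_lit 4) (Steps.fwd (nat_lit 6144) (Steps.fwd (nat_lit 4096) (Steps.fwd (nat_lit 8192) (Steps.fwd (nat_lit 6144) (Steps.fwd (nat_lit 4096) Steps.nil)))))))))))))) (nat_lit 21) (nat_lit 1),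
  Rule.mk (nat_lit 4) (nat_lit 117) (Steps.bwd (nat_lit 3) (Steps.fwd (nat_lit 8192) (Steps.bwd (nat_lit 3) (Steps.fwd (nat_lit 8192) (Steps.fwd (nat_lit 6144) (Steps.bwd (nat_lit 4) (Steps.bwd (nat_lit 3) (Steps.bwd (nat_lit 4) (Steps.fwd (nat_lit 6144) Steps.nil))))))))) (nat_lit 12) (nat_lit 0),
  Rule.mk (nat_lit 2) (nat_lit 177) (Steps.bwd (nat_lit 3) (Steps.fwd (nat_lit 8192) (Steps.bwd (nat_lit 2) (Steps.bwd (nat_lit 3) (Steps.bwd (nat_lit 4) (Steps.bwd (nat_lit 2) (Steps.fwd (nat_lit 6144) (Steps.fwd (nat_lit 8192) (Steps.fwd (nat_lit 4096) (Steps.fwd (nat_lit 6144) (Steps.fwd (nat_lit 8192) (Steps.fwd (nat_lit 4096) (Steps.fwd (nat_lit 6144) (Steps.fwd (nat_lit 8192) Steps.nil)))))))))))))) (nat_lit 20) (nat_lit 1),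
  Rule.mk (nat_lit 3) (nat_lit 117) (Steps.bwd (nat_lit 4) (Steps.bwd (nat_lit 3) (Steps.bwd (nat_lit 4) (Steps.bwd (nat_lit 3) (Steps.fwd (nat_lit 8192) (Steps.bwd (nat_lit 3) (Steps.bwd (nat_lit 4) (Steps.fwd (nat_lit 6144) (Steps.bwd (nat_lit 4) Steps.nil))))))))) (nat_lit 12) (nat_lit 1),
  Rule.mk (nat_lit 3) (nat_lit 117) (Steps.bwd (nat_lit 4) (Steps.bwd (nat_lit 3) (Steps.fwd (nat_lit 8192) (Steps.bwd (nat_lit 3) (Steps.fwd (nat_lit 8192) (Steps.bwd (nat_lit 3) (Steps.bwd (nat_lit 4) (Steps.fwd (nat_lit 6144) (Steps.fwd (nat_lit 8192) Steps.nil))))))))) (nat_lit 12) (nat_lit 1),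
  Rule.mk (nat_lit 3) (nat_lit 117) (Steps.bwd (nat_lit 4) (Steps.fwd (nat_lit 6144) (Steps.fwd (nat_lit 8192) (Steps.fwd (nat_lit 6144) (Steps.bwd (nat_lit 4) (Steps.fwd (nat_lit 6144) (Steps.fwd (nat_lit 8192) (Steps.bwd (nat_lit 3) (Steps.bwd (nat_lit 4) Steps.nil))))))))) (nat_lit 12) (nat_lit 1),
  Rule.mk (nat_lit 3) (nat_lit 117) (Steps.bwd (nat_lit 4) (Steps.fwd (nat_lit 6144) (Steps.fwd (nat_lit 8192) (Steps.bwd (nat_lit 3) (Steps.fwd (nat_lit 8192) (Steps.bwd (nat_lit 3) (Steps.bwd (nat_lit 4) (Steps.bwd (nat_lit 3) (Steps.bwd (nat_lit 4) Steps.nil))))))))) (nat_lit 12) (nat_lit 1),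
  Rule.mk (nat_lit 1) (nat_lit 117) (Steps.bwd (nat_lit 2) (Steps.fwd (nat_lit 2048) (Steps.fwd (nat_lit 4096) (Steps.bwd (nat_lit 1) (Steps.fwd (nat_lit 4096) (Steps.fwd (nat_lit 2048) (Steps.bwd (nat_lit 2) (Steps.fwd (nat_lit 2048) (Steps.fwd (nat_lit 4096) Steps.nil))))))))) (nat_lit 8) (nat_lit 1),
  Rule.mk (nat_lit 2) (nat_lit 117) (Steps.bwd (nat_lit 1) (Steps.bwd (nat_lit 2) (Steps.fwd (nat_lit 2048) (Steps.bwd (nat_lit 2) (Steps.bwd (nat_lit 1) (Steps.fwd (nat_lit 4096) (Steps.fwd (nat_lit 2048) (Steps.bwd (nat_lit 2) (Steps.fwd (nat_lit 2048) Steps.nil))))))))) (nat_lit 8) (nat_lit 0),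
  Rule.mk (nat_lit 1) (nat_lit 117) (Steps.bwd (nat_lit 2) (Steps.bwd (nat_lit 1) (Steps.bwd (nat_lit 2) (Steps.fwd (nat_lit 2048) (Steps.bwd (nat_lit 2) (Steps.fwd (nat_lit 2048) (Steps.fwd (nat_lit 4096) (Steps.bwd (nat_lit 1) (Steps.fwd (nat_lit 4096) Steps.nil))))))))) (nat_lit 8) (nat_lit 1),
  Rule.mk (nat_lit 2) (nat_lit 117) (Steps.bwd (nat_lit 1) (Steps.bwd (nat_lit 2) (Steps.bwd (nat_lit 1) (Steps.bwd (nat_lit 2) (Steps.fwd (nat_lit 2048) (Steps.bwd (nat_lit 2) (Steps.fwd (nat_lit 2048) (Steps.fwd (nat_lit 4096) (Steps.bwd (nat_lit 1) Steps.nil))))))))) (nat_lit 8) (nat_lit 0),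
  Rule.mk (nat_lit 2) (nat_lit 453) (Steps.bwd (nat_lit 1) (Steps.fwd (nat_lit 4096) (Steps.bwd (nat_lit 3) (Steps.bwd (nat_lit 4) (Steps.bwd (nat_lit 3) (Steps.bwd (nat_lit 2) (Steps.bwd (nat_lit 1) (Steps.bwd (nat_lit 2) (Steps.fwd (nat_lit 2048) (Steps.bwd (nat_lit 3) (Steps.bwd (nat_lit 2) (Steps.fwd (nat_lit 2048) (Steps.bwd (nat_lit 2) (Steps.bwd (nat_lit 3) (Steps.fwd (nat_lit 8192) (Steps.fwd (nat_lit 6144) (Steps.fwd (nat_lit 4096) (Steps.bwd (nat_lit 1) (Steps.fwd (nat_lit 4096) (Steps.bwd (nat_lit 3) (Steps.fwd (nat_lit 2048) (Steps.fwd (nat_lit 4096) (Steps.fwd (nat_lit 2048) (Steps.bwd (nat_lit 2) (Steps.fwd (nat_lit 6144) (Steps.bwd (nat_lit 4) (Steps.bwd (nat_lit 1) (Steps.bwd (nat_lit 2) (Steps.bwd (nat_lit 1) (Steps.bwd (nat_lit 2) (Steps.bwd (nat_lit 1) (Steps.fwd (nat_lit 6144) (Steps.fwd (nat_lit 4096) (Steps.bwd (nat_lit 1) (Steps.fwd (nat_lit 4096) (Steps.fwd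 (nat_lit 2048) (Steps.fwd (nat_lit 6144) Steps.nil))))))))))))))))))))))))))))))))))))) (nat_lit 22) (nat_lit 35),
  Rule.mk (nat_lit 4) (nat_lit 117) (Steps.bwd (nat_lit 3) (Steps.bwd (nat_lit 4) (Steps.bwd (nat_lit 3) (Steps.bwd (nat_lit 4) (Steps.fwd (nat_lit 6144) (Steps.fwd (nat_lit 8192) (Steps.fwd (nat_lit 6144) (Steps.bwd (nat_lit 4) (Steps.fwd (nat_lit 6144) Steps.nil))))))))) (nat_lit 12) (nat_lit 0),
  Rule.mk (nat_lit 1) (nat_lit 117) (Steps.bwd (nat_lit 2) (Steps.bwd (nat_lit 1) (Steps.fwd (nat_lit 4096) (Steps.fwd (nat_lit 2048) (Steps.fwd (nat_lit 4096) (Steps.fwd (nat_lit 2048) (Steps.fwd (nat_lit 4096) (Steps.bwd (nat_lit 1) (Steps.fwd (nat_lit 4096) Steps.nil))))))))) (nat_lit 8) (nat_lit 1),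
  Rule.mk (nat_lit 1) (nat_lit 117) (Steps.bwd (nat_lit 2) (Steps.bwd (nat_lit 1) (Steps.bwd (nat_lit 2) (Steps.bwd (nat_lit 1) (Steps.bwd (nat_lit 2) (Steps.bwd (nat_lit 1) (Steps.fwd (nat_lit 4096) (Steps.bwd (nat_lit 1) (Steps.fwd (nat_lit 4096) Steps.nil))))))))) (nat_lit 8) (nat_lit 1),
  Rule.mk (nat_lit 1) (nat_lit 117) (Steps.bwd (nat_lit 2) (Steps.fwd (nat_lit 2048) (Steps.bwd (nat_lit 2) (Steps.bwd (nat_lit 1) (Steps.fwd (nat_lit 4096) (Steps.fwd (nat_lit 2048) (Steps.fwd (nat_lit 4096) (Steps.fwd (nat_lit 2048) (Steps.fwd (nat_lit 4096) Steps.nil))))))))) (nat_lit 8) (nat_lit 1),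
  Rule.mk (nat_lit 1) (nat_lit 117) (Steps.bwd (nat_lit 2) (Steps.fwd (nat_lit 2048) (Steps.bwd (nat_lit 2) (Steps.bwd (nat_lit 1) (Steps.fwd (nat_lit 4096) (Steps.fwd (nat_lit 2048) (Steps.bwd (nat_lit 2) (Steps.fwd (nat_lit 2048) (Steps.fwd (nat_lit 4096) Steps.nil))))))))) (nat_lit 8) (nat_lit 1),
  Rule.mk (nat_lit 2) (nat_lit 117) (Steps.bwd (nat_lit 1) (Steps.fwd (nat_lit 4096) (Steps.fwd (nat_lit 2048) (Steps.bwd (nat_lit 2) (Steps.fwd (nat_lit 2048) (Steps.bwd (nat_lit 2) (Steps.bwd (nat_lit 1) (Steps.bwd (nat_lit 2) (Steps.bwd (nat_lit 1) Steps.nil))))))))) (nat_lit 8) (nat_lit 0),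
  Rule.mk (nat_lit 4) (nat_lit 177) (Steps.bwd (nat_lit 3) (Steps.bwd (nat_lit 2) (Steps.fwd (nat_lit 8192) (Steps.bwd (nat_lit 3) (Steps.bwd (nat_lit 2) (Steps.fwd (nat_lit 8192) (Steps.fwd (nat_lit 6144) (Steps.bwd (nat_lit 2) (Steps.bwd (nat_lit 4) (Steps.bwd (nat_lit 3) (Steps.fwd (nat_lit 4096) (Steps.fwd (nat_lit 8192) (Steps.bwd (nat_lit 3) (Steps.bwd (nat_lit 2) Steps.nil)))))))))))))) (nat_lit 21) (nat_lit 1),
  Rule.mk (nat_lit 2) (nat_lit 117) (Steps.bwd (nat_lit 1) (Steps.bwd (nat_lit 2) (Steps.bwd (nat_lit 1) (Steps.bwd (nat_lit 2) (Steps.bwd (nat_lit 1) (Steps.fwd (nat_lit 4096) (Steps.fwd (nat_lit 2048) (Steps.fwd (nat_lit 4096) (Steps.fwd (nat_lit 2048) Steps.nil))))))))) (nat_lit 8) (nat_lit 0),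
  Rule.mk (nat_lit 1) (nat_lit 117) (Steps.bwd (nat_lit 2) (Steps.bwd (nat_lit 1) (Steps.bwd (nat_lit 2) (Steps.bwd (nat_lit 1) (Steps.fwd (nat_lit 4096) (Steps.fwd (nat_lit 2048) (Steps.fwd (nat_lit 4096) (Steps.bwd (nat_lit 1) (Steps.fwd (nat_lit 4096) Steps.nil))))))))) (nat_lit 8) (nat_lit 1),
  Rule.mk (nat_lit 3) (nat_lit 453) (Steps.bwd (nat_lit 1) (Steps.bwd (nat_lit 2) (Steps.fwd (nat_lit 2048) (Steps.fwd (nat_lit 4096) (Steps.bwd (nat_lit 3) (Steps.bwd (nat_lit 4) (Steps.fwd (nat_lit 2048) (Steps.bwd (nat_lit 2) (Steps.bwd (nat_lit 1) (Steps.bwd (nat_lit 2) (Steps.fwd (nat_lit 2048) (Steps.fwd (nat_lit 6144) (Steps.fwd (nat_lit 4096) (Steps.bwd (nat_lit 1) (Steps.bwd (nat_lit 2) (Steps.fwd (nat_lit 2048) (Steps.fwd (nat_lit 6144) (Steps.bwd (nat_lit 2) (Steps.bwd (nat_lit 1) (Steps.fwd (nat_lit 4096) (Steps.bwd (nat_lit 3) (Steps.fwd (nat_lit 8192) (Steps.bwd (nat_lit 3)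 (Steps.bwd (nat_lit 2) (Steps.bwd (nat_lit 1) (Steps.bwd (nat_lit 2) (Steps.bwd (nat_lit 1) (Steps.bwd (nat_lit 3) (Steps.fwd (nat_lit 4096) (Steps.bwd (nat_lit 1) (Steps.fwd (nat_lit 4096) (Steps.bwd (nat_lit 3) (Steps.fwd (nat_lit 8192) (Steps.fwd (nat_lit 6144) (Steps.bwd (nat_lit 2) (Steps.bwd (nat_lit 1) (Steps.fwd (nat_lit 4096) Steps.nil))))))))))))))))))))))))))))))))))))) (nat_lit 22) (nat_lit 17),
  Rule.mk (nat_lit 3) (nat_lit 177) (Steps.bwd (nat_lit 2) (Steps.fwd (nat_lit 8192) (Steps.fwd (nat_lit 6144) (Steps.fwd (nat_lit 4096) (Steps.fwd (nat_lit 8192) (Steps.fwd (nat_lit 6144) (Steps.bwd (nat_lit 2) (Steps.fwd (nat_lit 8192) (Steps.bwd (nat_lit 3) (Steps.fwd (nat_lit 4096) (Steps.fwd (nat_lit 8192) (Steps.fwd (nat_lit 6144) (Steps.fwd (nat_lit 4096) (Steps.bwd (nat_lit 4) Steps.nil)))))))))))))) (nat_lit 21) (nat_lit 2),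
  Rule.mk (nat_lit 3) (nat_lit 177) (Steps.bwd (nat_lit 4) (Steps.fwd (nat_lit 4096) (Steps.fwd (nat_lit 6144) (Steps.fwd (nat_lit 8192) (Steps.bwd (nat_lit 2) (Steps.fwd (nat_lit 6144) (Steps.fwd (nat_lit 8192) (Steps.bwd (nat_lit 2) (Steps.bwd (nat_lit 3) (Steps.fwd (nat_lit 8192) (Steps.fwd (nat_lit 4096) (Steps.bwd (nat_lit 3) (Steps.bwd (nat_lit 4) (Steps.fwd (nat_lit 4096) Steps.nil)))))))))))))) (nat_lit 20) (nat_lit 2),
  Rule.mk (nat_lit 2) (nat_lit 69) (Steps.bwd (nat_lit 3) (Steps.bwd (nat_lit 2) (Steps.fwd (nat_lit 6144) (Steps.bwd (nat_lit 2) (Steps.bwd (nat_lit 3) Steps.nil))))) (nat_lit 10) (nat_lit 1),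
  Rule.mk (nat_lit 2) (nat_lit 117) (Steps.bwd (nat_lit 1) (Steps.fwd (nat_lit 4096) (Steps.bwd (nat_lit 1) (Steps.fwd (nat_lit 4096) (Steps.fwd (nat_lit 2048) (Steps.fwd (nat_lit 4096) (Steps.bwd (nat_lit 1) (Steps.fwd (nat_lit 4096) (Steps.fwd (nat_lit 2048) Steps.nil))))))))) (nat_lit 8) (nat_lit 0),
  Rule.mk (nat_lit 2) (nat_lit 117) (Steps.bwd (nat_lit 1) (Steps.fwd (nat_lit 4096) (Steps.fwd (nat_lit 2048) (Steps.fwd (nat_lit 4096) (Steps.bwd (nat_lit 1) (Steps.fwd (nat_lit 4096) (Steps.fwd (nat_lit 2048) (Steps.fwd (nat_lit 4096) (Steps.fwd (nat_lit 2048) Steps.nil))))))))) (nat_lit 8) (nat_lit 0),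
  Rule.mk (nat_lit 2) (nat_lit 69) (Steps.bwd (nat_lit 3) (Steps.fwd (nat_lit 4096) (Steps.bwd (nat_lit 3) (Steps.fwd (nat_lit 4096) (Steps.bwd (nat_lit 3) Steps.nil))))) (nat_lit 10) (nat_lit 1),
  Rule.mk (nat_lit 2) (nat_lit 117) (Steps.bwd (nat_lit 1) (Steps.fwd (nat_lit 4096) (Steps.fwd (nat_lit 2048) (Steps.bwd (nat_lit 2) (Steps.bwd (nat_lit 1) (Steps.fwd (nat_lit 4096) (Steps.fwd (nat_lit 2048) (Steps.fwd (nat_lit 4096) (Steps.fwd (nat_lit 2048) Steps.nil))))))))) (nat_lit 8) (nat_lit 0),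
  Rule.mk (nat_lit 2) (nat_lit 117) (Steps.bwd (nat_lit 1) (Steps.fwd (nat_lit 4096) (Steps.bwd (nat_lit 1) (Steps.bwd (nat_lit 2) (Steps.bwd (nat_lit 1) (Steps.bwd (nat_lit 2) (Steps.fwd (nat_lit 2048) (Steps.bwd (nat_lit 2) (Steps.fwd (nat_lit 2048) Steps.nil))))))))) (nat_lit 8) (nat_lit 0),
  Rule.mk (nat_lit 1) (nat_lit 117) (Steps.bwd (nat_lit 2) (Steps.fwd (nat_lit 2048) (Steps.bwd (nat_lit 2) (Steps.fwd (nat_lit 2048) (Steps.fwd (nat_lit 4096) (Steps.bwd (nat_lit 1) (Steps.bwd (nat_lit 2) (Steps.bwd (nat_lit 1) (Steps.fwd (nat_lit 4096) Steps.nil))))))))) (nat_lit 8) (nat_lit 1),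
  Rule.mk (nat_lit 4) (nat_lit 117) (Steps.bwd (nat_lit 3) (Steps.bwd (nat_lit 4) (Steps.bwd (nat_lit 3) (Steps.bwd (nat_lit 4) (Steps.fwd (nat_lit 6144) (Steps.fwd (nat_lit 8192) (Steps.fwd (nat_lit 6144) (Steps.fwd (nat_lit 8192) (Steps.bwd (nat_lit 3) Steps.nil))))))))) (nat_lit 12) (nat_lit 0),
  Rule.mk (nat_lit 4) (nat_lit 117) (Steps.bwd (nat_lit 3) (Steps.fwd (nat_lit 8192) (Steps.bwd (nat_lit 3) (Steps.fwd (nat_lit 8192) (Steps.bwd (nat_lit 3) (Steps.bwd (nat_lit 4) (Steps.bwd (nat_lit 3) (Steps.fwd (nat_lit 8192) (Steps.bwd (nat_lit 3) Steps.nil))))))))) (nat_lit 12) (nat_lit 0),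
  Rule.mk (nat_lit 4) (nat_lit 117) (Steps.bwd (nat_lit 3) (Steps.fwd (nat_lit 8192) (Steps.bwd (nat_lit 3) (Steps.bwd (nat_lit 4) (Steps.fwd (nat_lit 6144) (Steps.bwd (nat_lit 4) (Steps.bwd (nat_lit 3) (Steps.bwd (nat_lit 4) (Steps.fwd (nat_lit 6144) Steps.nil))))))))) (nat_lit 12) (nat_lit 0),
  Rule.mk (nat_lit 1) (nat_lit 117) (Steps.bwd (nat_lit 2) (Steps.fwd (nat_lit 2048) (Steps.bwd (nat_lit 2) (Steps.bwd (nat_lit 1) (Steps.fwd (nat_lit 4096) (Steps.bwd (nat_lit 1) (Steps.fwd (nat_lit 4096) (Steps.fwd (nat_lit 2048) (Steps.fwd (nat_lit 4096) Steps.nil))))))))) (nat_lit 8) (nat_lit 1)]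
noncomputable def R_3 : List (Rule) := [Rule.mk (nat_lit 3) (nat_lit 117) (Steps.bwd (nat_lit 4) (Steps.bwd (nat_lit 3) (Steps.bwd (nat_lit 4) (Steps.bwd (nat_lit 3) (Steps.bwd (nat_lit 4) (Steps.fwd (nat_lit 6144) (Steps.bwd (nat_lit 4) (Steps.bwd (nat_lit 3) (Steps.fwd (nat_lit 8192) Steps.nil))))))))) (nat_lit 12) (nat_lit 1),
  Rule.mk (nat_lit 3) (nat_lit 117) (Steps.bwd (nat_lit 4) (Steps.fwd (nat_lit 6144) (Steps.fwd (nat_lit 8192) (Steps.bwd (nat_lit 3) (Steps.bwd (nat_lit 4) (Steps.bwd (nat_lit 3) (Steps.bwd (nat_lit 4) (Steps.bwd (nat_lit 3) (Steps.bwd (nat_lit 4) Steps.nil))))))))) (nat_lit 12) (nat_lit 1),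
  Rule.mk (nat_lit 3) (nat_lit 69) (Steps.bwd (nat_lit 2) (Steps.fwd (nat_lit 6144) (Steps.fwd (nat_lit 4096) (Steps.fwd (nat_lit 6144) (Steps.bwd (nat_lit 2) Steps.nil))))) (nat_lit 10) (nat_lit 0),
  Rule.mk (nat_lit 1) (nat_lit 117) (Steps.bwd (nat_lit 2) (Steps.bwd (nat_lit 1) (Steps.fwd (nat_lit 4096) (Steps.bwd (nat_lit 1) (Steps.fwd (nat_lit 4096) (Steps.fwd (nat_lit 2048) (Steps.bwd (nat_lit 2) (Steps.fwd (nat_lit 2048) (Steps.fwd (nat_lit 4096) Steps.nil))))))))) (nat_lit 8) (nat_lit 1),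
  Rule.mk (nat_lit 1) (nat_lit 117) (Steps.bwd (nat_lit 2) (Steps.fwd (nat_lit 2048) (Steps.bwd (nat_lit 2) (Steps.bwd (nat_lit 1) (Steps.fwd (nat_lit 4096) (Steps.fwd (nat_lit 2048) (Steps.fwd (nat_lit 4096) (Steps.bwd (nat_lit 1) (Steps.fwd (nat_lit 4096) Steps.nil))))))))) (nat_lit 8) (nat_lit 1),
  Rule.mk (nat_lit 2) (nat_lit 69) (Steps.bwd (nat_lit 3) (Steps.bwd (nat_lit 2) (Steps.fwd (nat_lit 6144) (Steps.fwd (nat_lit 4096) (Steps.bwd (nat_lit 3) Steps.nil))))) (nat_lit 10) (nat_lit 1),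
  Rule.mk (nat_lit 2) (nat_lit 177) (Steps.bwd (nat_lit 4) (Steps.bwd (nat_lit 3) (Steps.fwd (nat_lit 4096) (Steps.fwd (nat_lit 8192) (Steps.bwd (nat_lit 3) (Steps.bwd (nat_lit 2) (Steps.bwd (nat_lit 4) (Steps.fwd (nat_lit 6144) (Steps.fwd (nat_lit 4096) (Steps.fwd (nat_lit 8192) (Steps.fwd (nat_lit 6144) (Steps.bwd (nat_lit 2) (Steps.bwd (nat_lit 4) (Steps.fwd (nat_lit 6144) Steps.nil)))))))))))))) (nat_lit 21) (nat_lit 0),
  Rule.mk (nat_lit 3) (nat_lit 117) (Steps.bwd (nat_lit 4) (Steps.bwd (nat_lit 3) (Steps.bwd (nat_lit 4) (Steps.bwd (nat_lit 3) (Steps.fwd (nat_lit 8192) (Steps.bwd (nat_lit 3) (Steps.bwd (nat_lit 4) (Steps.fwd (nat_lit 6144) (Steps.fwd (nat_lit 8192) Steps.nil))))))))) (nat_lit 12) (nat_lit 1),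
  Rule.mk (nat_lit 3) (nat_lit 117) (Steps.bwd (nat_lit 4) (Steps.fwd (nat_lit 6144) (Steps.bwd (nat_lit 4) (Steps.bwd (nat_lit 3) (Steps.fwd (nat_lit 8192) (Steps.bwd (nat_lit 3) (Steps.bwd (nat_lit 4) (Steps.fwd (nat_lit 6144) (Steps.fwd (nat_lit 8192) Steps.nil))))))))) (nat_lit 12) (nat_lit 1),
  Rule.mk (nat_lit 4) (nat_lit 117) (Steps.bwd (nat_lit 3) (Steps.fwd (nat_lit 8192) (Steps.bwd (nat_lit 3) (Steps.fwd (nat_lit 8192) (Steps.bwd (nat_lit 3) (Steps.bwd (nat_lit 4) (Steps.fwd (nat_lit 6144) (Steps.bwd (nat_lit 4) (Steps.fwd (nat_lit 6144) Steps.nil))))))))) (nat_lit 12) (nat_lit 0),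
  Rule.mk (nat_lit 3) (nat_lit 117) (Steps.bwd (nat_lit 4) (Steps.fwd (nat_lit 6144) (Steps.bwd (nat_lit 4) (Steps.bwd (nat_lit 3) (Steps.fwd (nat_lit 8192) (Steps.fwd (nat_lit 6144) (Steps.bwd (nat_lit 4) (Steps.fwd (nat_lit 6144) (Steps.fwd (nat_lit 8192) Steps.nil))))))))) (nat_lit 12) (nat_lit 1),
  Rule.mk (nat_lit 3) (nat_lit 117) (Steps.bwd (nat_lit 4) (Steps.fwd (nat_lit 6144) (Steps.fwd (nat_lit 8192) (Steps.fwd (nat_lit 6144) (Steps.fwd (nat_lit 8192) (Steps.fwd (nat_lit 6144) (Steps.bwd (nat_lit 4) (Steps.fwd (nat_lit 6144) (Steps.fwd (nat_lit 8192) Steps.nil))))))))) (nat_lit 12) (nat_lit 1),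
  Rule.mk (nat_lit 3) (nat_lit 117) (Steps.bwd (nat_lit 4) (Steps.bwd (nat_lit 3) (Steps.fwd (nat_lit 8192) (Steps.fwd (nat_lit 6144) (Steps.fwd (nat_lit 8192) (Steps.fwd (nat_lit 6144) (Steps.bwd (nat_lit 4) (Steps.fwd (nat_lit 6144) (Steps.bwd (nat_lit 4) Steps.nil))))))))) (nat_lit 12) (nat_lit 1),
  Rule.mk (nat_lit 4) (nat_lit 117) (Steps.bwd (nat_lit 3) (Steps.fwd (nat_lit 8192) (Steps.fwd (nat_lit 6144) (Steps.fwd (nat_lit 8192) (Steps.fwd (nat_lit 6144) (Steps.bwd (nat_lit 4) (Steps.fwd (nat_lit 6144) (Steps.fwd (nat_lit 8192) (Steps.bwd (nat_lit 3) Steps.nil))))))))) (nat_lit 12) (nat_lit 0),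
  Rule.mk (nat_lit 3) (nat_lit 177) (Steps.fwd (nat_lit 8192) (Steps.fwd (nat_lit 4096) (Steps.fwd (nat_lit 6144) (Steps.fwd (nat_lit 8192) (Steps.bwd (nat_lit 2) (Steps.bwd (nat_lit 3) (Steps.bwd (nat_lit 4) (Steps.fwd (nat_lit 4096) (Steps.fwd (nat_lit 6144) (Steps.bwd (nat_lit 4) (Steps.fwd (nat_lit 4096) (Steps.bwd (nat_lit 3) (Steps.bwd (nat_lit 4) (Steps.bwd (nat_lit 2) Steps.nil)))))))))))))) (nat_lit 20) (nat_lit 2),
  Rule.mk (nat_lit 3) (nat_lit 177) (Steps.bwd (nat_lit 2) (Steps.fwd (nat_lit 8192) (Steps.fwd (nat_lit 6144) (Steps.fwd (nat_lit 4096) (Steps.bwd (nat_lit 4) (Steps.bwd (nat_lit 3) (Steps.bwd (nat_lit 2) (Steps.fwd (nat_lit 8192) (Steps.bwd (nat_lit 3) (Steps.fwd (nat_lit 4096) (Steps.bwd (nat_lit 4) (Steps.fwd (nat_lit 6144) (Steps.bwd (nat_lit 2) (Steps.fwd (nat_lit 8192) Steps.nil)))))))))))))) (nat_lit 21) (nat_lit 2),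
  Rule.mk (nat_lit 4) (nat_lit 117) (Steps.bwd (nat_lit 3) (Steps.bwd (nat_lit 4) (Steps.bwd (nat_lit 3) (Steps.bwd (nat_lit 4) (Steps.fwd (nat_lit 6144) (Steps.bwd (nat_lit 4) (Steps.bwd (nat_lit 3) (Steps.fwd (nat_lit 8192) (Steps.bwd (nat_lit 3) Steps.nil))))))))) (nat_lit 12) (nat_lit 0),
  Rule.mk (nat_lit 3) (nat_lit 117) (Steps.bwd (nat_lit 4) (Steps.bwd (nat_lit 3) (Steps.bwd (nat_lit 4) (Steps.bwd (nat_lit 3) (Steps.fwd (nat_lit 8192) (Steps.fwd (nat_lit 6144) (Steps.bwd (nat_lit 4) (Steps.bwd (nat_lit 3) (Steps.bwd (nat_lit 4) Steps.nil))))))))) (nat_lit 12) (nat_lit 1),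
  Rule.mk (nat_lit 2) (nat_lit 177) (Steps.fwd (nat_lit 6144) (Steps.fwd (nat_lit 8192) (Steps.fwd (nat_lit 4096) (Steps.fwd (nat_lit 6144) (Steps.fwd (nat_lit 8192) (Steps.bwd (nat_lit 2) (Steps.fwd (nat_lit 6144) (Steps.bwd (nat_lit 4) (Steps.fwd (nat_lit 4096) (Steps.bwd (nat_lit 3) (Steps.bwd (nat_lit 4) (Steps.fwd (nat_lit 4096) (Steps.bwd (nat_lit 3) (Steps.bwd (nat_lit 4) Steps.nil)))))))))))))) (nat_lit 20) (nat_lit 1),
  Rule.mk (nat_lit 3) (nat_lit 117) (Steps.bwd (nat_lit 4) (Steps.fwd (nat_lit 6144) (Steps.fwd (nat_lit 8192) (Steps.fwd (nat_lit 6144) (Steps.fwd (nat_lit 8192) (Steps.bwd (nat_lit 3) (Steps.bwd (nat_lit 4) (Steps.fwd (nat_lit 6144) (Steps.fwd (nat_lit 8192) Steps.nil))))))))) (nat_lit 12) (nat_lit 1),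
  Rule.mk (nat_lit 3) (nat_lit 69) (Steps.bwd (nat_lit 2) (Steps.fwd (nat_lit 6144) (Steps.fwd (nat_lit 4096) (Steps.fwd (nat_lit 6144) (Steps.fwd (nat_lit 4096) Steps.nil))))) (nat_lit 10) (nat_lit 0),
  Rule.mk (nat_lit 3) (nat_lit 117) (Steps.bwd (nat_lit 4) (Steps.fwd (nat_lit 6144) (Steps.fwd (nat_lit 8192) (Steps.bwd (nat_lit 3) (Steps.fwd (nat_lit 8192) (Steps.fwd (nat_lit 6144) (Steps.bwd (nat_lit 4) (Steps.fwd (nat_lit 6144) (Steps.bwd (nat_lit 4) Steps.nil))))))))) (nat_lit 12) (nat_lit 1),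
  Rule.mk (nat_lit 3) (nat_lit 117) (Steps.bwd (nat_lit 4) (Steps.fwd (nat_lit 6144) (Steps.fwd (nat_lit 8192) (Steps.bwd (nat_lit 3) (Steps.bwd (nat_lit 4) (Steps.fwd (nat_lit 6144) (Steps.bwd (nat_lit 4) (Steps.fwd (nat_lit 6144) (Steps.bwd (nat_lit 4) Steps.nil))))))))) (nat_lit 12) (nat_lit 1),
  Rule.mk (nat_lit 3) (nat_lit 117) (Steps.bwd (nat_lit 4) (Steps.fwd (nat_lit 6144) (Steps.fwd (nat_lit 8192) (Steps.fwd (nat_lit 6144) (Steps.bwd (nat_lit 4) (Steps.bwd (nat_lit 3) (Steps.bwd (nat_lit 4) (Steps.bwd (nat_lit 3) (Steps.bwd (nat_lit 4) Steps.nil))))))))) (nat_lit 12) (nat_lit 1),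
  Rule.mk (nat_lit 4) (nat_lit 117) (Steps.bwd (nat_lit 3) (Steps.fwd (nat_lit 8192) (Steps.bwd (nat_lit 3) (Steps.bwd (nat_lit 4) (Steps.bwd (nat_lit 3) (Steps.fwd (nat_lit 8192) (Steps.fwd (nat_lit 6144) (Steps.bwd (nat_lit 4) (Steps.fwd (nat_lit 6144) Steps.nil))))))))) (nat_lit 12) (nat_lit 0),
  Rule.mk (nat_lit 3) (nat_lit 117) (Steps.bwd (nat_lit 4) (Steps.fwd (nat_lit 6144) (Steps.bwd (nat_lit 4) (Steps.bwd (nat_lit 3) (Steps.bwd (nat_lit 4) (Steps.bwd (nat_lit 3) (Steps.fwd (nat_lit 8192) (Steps.fwd (nat_lit 6144) (Steps.bwd (nat_lit 4) Steps.nil))))))))) (nat_lit 12) (nat_lit 1),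
  Rule.mk (nat_lit 3) (nat_lit 117) (Steps.bwd (nat_lit 4) (Steps.fwd (nat_lit 6144) (Steps.fwd (nat_lit 8192) (Steps.bwd (nat_lit 3) (Steps.fwd (nat_lit 8192) (Steps.fwd (nat_lit 6144) (Steps.fwd (nat_lit 8192) (Steps.fwd (nat_lit 6144) (Steps.bwd (nat_lit 4) Steps.nil))))))))) (nat_lit 12) (nat_lit 1),
  Rule.mk (nat_lit 3) (nat_lit 69) (Steps.bwd (nat_lit 2) (Steps.fwd (nat_lit 6144) (Steps.fwd (nat_lit 4096) (Steps.bwd (nat_lit 3) (Steps.bwd (nat_lit 2) Steps.nil))))) (nat_lit 10) (nat_lit 0),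
  Rule.mk (nat_lit 3) (nat_lit 117) (Steps.bwd (nat_lit 4) (Steps.bwd (nat_lit 3) (Steps.fwd (nat_lit 8192) (Steps.bwd (nat_lit 3) (Steps.fwd (nat_lit 8192) (Steps.fwd (nat_lit 6144) (Steps.fwd (nat_lit 8192) (Steps.bwd (nat_lit 3) (Steps.bwd (nat_lit 4) Steps.nil))))))))) (nat_lit 12) (nat_lit 1),
  Rule.mk (nat_lit 4) (nat_lit 177) (Steps.bwd (nat_lit 2) (Steps.bwd (nat_lit 3) (Steps.fwd (nat_lit 8192) (Steps.bwd (nat_lit 2) (Steps.bwd (nat_lit 3) (Steps.bwd (nat_lit 4) (Steps.fwd (nat_lit 4096) (Steps.fwd (nat_lit 6144) (Steps.fwd (nat_lit 8192) (Steps.bwd (nat_lit 2) (Steps.fwd (nat_lit 6144) (Steps.fwd (nat_lit 8192) (Steps.fwd (nat_lit 4096) (Steps.fwd (nat_lit 6144) Steps.nil)))))))))))))) (nat_lit 20) (nat_lit 0),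
  Rule.mk (nat_lit 4) (nat_lit 453) (Steps.bwd (nat_lit 3) (Steps.bwd (nat_lit 2) (Steps.bwd (nat_lit 1) (Steps.fwd (nat_lit 4096) (Steps.bwd (nat_lit 3) (Steps.bwd (nat_lit 1) (Steps.bwd (nat_lit 2) (Steps.bwd (nat_lit 1) (Steps.bwd (nat_lit 2) (Steps.fwd (nat_lit 6144) (Steps.bwd (nat_lit 4) (Steps.bwd (nat_lit 1) (Steps.fwd (nat_lit 4096) (Steps.bwd (nat_lit 1) (Steps.fwd (nat_lit 4096) (Steps.fwd (nat_lit 2048) (Steps.fwd (nat_lit 6144) (Steps.fwd (nat_lit 4096) (Steps.bwd (nat_lit 1) (Steps.bwd (nat_lit 2) (Steps.bwd (nat_lit 1) (Steps.fwd (nat_lit 6144) (Steps.fwd (nat_lit 4096) (Steps.bwd (nat_lit 1) (Steps.bwd (nat_lit 2) (Steps.bwd (nat_lit 3) (Steps.bwd (nat_lit 4) (Steps.fwd (nat_lit 6144) (Steps.fwd (nat_lit 4096) (Steps.fwd (nat_lit 2048) (Steps.fwd (nat_lit 4096) (Steps.fwd (nat_lit 2048) (Steps.bwd (nat_lit 3) (Steps.fwd (nat_lit 4096) (Steps.bwd (nat_lit 1) (Steps.bwd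 (nat_lit 2) (Steps.fwd (nat_lit 6144) Steps.nil))))))))))))))))))))))))))))))))))))) (nat_lit 22) (nat_lit 12),
  Rule.mk (nat_lit 1) (nat_lit 117) (Steps.bwd (nat_lit 2) (Steps.fwd (nat_lit 2048) (Steps.bwd (nat_lit 2) (Steps.bwd (nat_lit 1) (Steps.bwd (nat_lit 2) (Steps.bwd (nat_lit 1) (Steps.fwd (nat_lit 4096) (Steps.fwd (nat_lit 2048) (Steps.fwd (nat_lit 4096) Steps.nil))))))))) (nat_lit 8) (nat_lit 1),
  Rule.mk (nat_lit 3) (nat_lit 45) (Steps.bwd (nat_lit 1) (Steps.bwd (nat_lit 3) (Steps.bwd (nat_lit 1) Steps.nil))) (nat_lit 14) (nat_lit 0),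
  Rule.mk (nat_lit 1) (nat_lit 117) (Steps.bwd (nat_lit 2) (Steps.fwd (nat_lit 2048) (Steps.bwd (nat_lit 2) (Steps.fwd (nat_lit 2048) (Steps.bwd (nat_lit 2) (Steps.fwd (nat_lit 2048) (Steps.bwd (nat_lit 2) (Steps.bwd (nat_lit 1) (Steps.fwd (nat_lit 4096) Steps.nil))))))))) (nat_lit 8) (nat_lit 1),
  Rule.mk (nat_lit 1) (nat_lit 117) (Steps.bwd (nat_lit 2) (Steps.fwd (nat_lit 2048) (Steps.bwd (nat_lit 2) (Steps.bwd (nat_lit 1) (Steps.fwd (nat_lit 4096) (Steps.fwd (nat_lit 2048) (Steps.fwd (nat_lit 4096) (Steps.bwd (nat_lit 1) (Steps.bwd (nat_lit 2) Steps.nil))))))))) (nat_lit 8) (nat_lit 1),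
  Rule.mk (nat_lit 3) (nat_lit 453) (Steps.bwd (nat_lit 2) (Steps.fwd (nat_lit 2048) (Steps.bwd (nat_lit 2) (Steps.fwd (nat_lit 6144) (Steps.fwd (nat_lit 8192) (Steps.bwd (nat_lit 3) (Steps.bwd (nat_lit 2) (Steps.bwd (nat_lit 1) (Steps.bwd (nat_lit 2) (Steps.bwd (nat_lit 1) (Steps.bwd (nat_lit 3) (Steps.bwd (nat_lit 2) (Steps.fwd (nat_lit 2048) (Steps.bwd (nat_lit 2) (Steps.bwd (nat_lit 3) (Steps.bwd (nat_lit 4) (Steps.bwd (nat_lit 3) (Steps.bwd (nat_lit 2) (Steps.bwd (nat_lit 1) (Steps.fwd (nat_lit 4096) (Steps.fwd (nat_lit 6144) (Steps.fwd (nat_lit 2048) (Steps.fwd (nat_lit 4096) (Steps.fwd (nat_lit 2048) (Steps.fwd (nat_lit 4096) (Steps.bwd (nat_lit 3) (Steps.bwd (nat_lit 4) (Steps.fwd (nat_lit 2048) (Steps.fwd (nat_lit 4096) (Steps.bwd (nat_lit 1) (Steps.bwd (nat_lit 2) (Steps.bwd (nat_lit 1) (Steps.bwd (nat_lit 3) (Steps.fwd (nat_lit 4096) (Steps.bwd (nat_lit 1) (Steps.fwd (nat_lit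 4096) (Steps.fwd (nat_lit 2048) Steps.nil))))))))))))))))))))))))))))))))))))) (nat_lit 22) (nat_lit 34),
  Rule.mk (nat_lit 2) (nat_lit 177) (Steps.bwd (nat_lit 4) (Steps.fwd (nat_lit 6144) (Steps.fwd (nat_lit 4096) (Steps.fwd (nat_lit 8192) (Steps.bwd (nat_lit 3) (Steps.fwd (nat_lit 4096) (Steps.fwd (nat_lit 8192) (Steps.bwd (nat_lit 3) (Steps.bwd (nat_lit 2) (Steps.bwd (nat_lit 4) (Steps.bwd (nat_lit 3) (Steps.bwd (nat_lit 2) (Steps.bwd (nat_lit 4) (Steps.bwd (nat_lit 3) Steps.nil)))))))))))))) (nat_lit 21) (nat_lit 0),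
  Rule.mk (nat_lit 2) (nat_lit 117) (Steps.bwd (nat_lit 1) (Steps.fwd (nat_lit 4096) (Steps.bwd (nat_lit 1) (Steps.bwd (nat_lit 2) (Steps.bwd (nat_lit 1) (Steps.bwd (nat_lit 2) (Steps.fwd (nat_lit 2048) (Steps.fwd (nat_lit 4096) (Steps.bwd (nat_lit 1) Steps.nil))))))))) (nat_lit 8) (nat_lit 0),
  Rule.mk (nat_lit 2) (nat_lit 117) (Steps.bwd (nat_lit 1) (Steps.fwd (nat_lit 4096) (Steps.fwd (nat_lit 2048) (Steps.bwd (nat_lit 2) (Steps.bwd (nat_lit 1) (Steps.fwd (nat_lit 4096) (Steps.bwd (nat_lit 1) (Steps.fwd (nat_lit 4096) (Steps.bwd (nat_lit 1) Steps.nil))))))))) (nat_lit 8) (nat_lit 0),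
  Rule.mk (nat_lit 2) (nat_lit 117) (Steps.bwd (nat_lit 1) (Steps.fwd (nat_lit 4096) (Steps.fwd (nat_lit 2048) (Steps.fwd (nat_lit 4096) (Steps.fwd (nat_lit 2048) (Steps.bwd (nat_lit 2) (Steps.bwd (nat_lit 1) (Steps.fwd (nat_lit 4096) (Steps.bwd (nat_lit 1) Steps.nil))))))))) (nat_lit 8) (nat_lit 0),
  Rule.mk (nat_lit 2) (nat_lit 117) (Steps.bwd (nat_lit 1) (Steps.bwd (nat_lit 2) (Steps.bwd (nat_lit 1) (Steps.bwd (nat_lit 2) (Steps.bwd (nat_lit 1) (Steps.bwd (nat_lit 2) (Steps.bwd (nat_lit 1) (Steps.bwd (nat_lit 2) (Steps.fwd (nat_lit 2048) Steps.nil))))))))) (nat_lit 8) (nat_lit 0),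
  Rule.mk (nat_lit 1) (nat_lit 117) (Steps.bwd (nat_lit 2) (Steps.fwd (nat_lit 2048) (Steps.fwd (nat_lit 4096) (Steps.fwd (nat_lit 2048) (Steps.bwd (nat_lit 2) (Steps.fwd (nat_lit 2048) (Steps.bwd (nat_lit 2) (Steps.bwd (nat_lit 1) (Steps.fwd (nat_lit 4096) Steps.nil))))))))) (nat_lit 8) (nat_lit 1),
  Rule.mk (nat_lit 3) (nat_lit 177) (Steps.bwd (nat_lit 4) (Steps.bwd (nat_lit 2) (Steps.bwd (nat_lit 3) (Steps.fwd (nat_lit 8192) (Steps.bwd (nat_lit 2) (Steps.fwd (nat_lit 6144) (Steps.bwd (nat_lit 4) (Steps.fwd (nat_lit 4096) (Steps.bwd (nat_lit 3) (Steps.bwd (nat_lit 4) (Steps.bwd (nat_lit 2) (Steps.fwd (nat_lit 6144) (Steps.bwd (nat_lit 4) (Steps.fwd (nat_lit 4096) Steps.nil)))))))))))))) (nat_lit 20) (nat_lit 2),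
  Rule.mk (nat_lit 1) (nat_lit 117) (Steps.bwd (nat_lit 2) (Steps.fwd (nat_lit 2048) (Steps.bwd (nat_lit 2) (Steps.bwd (nat_lit 1) (Steps.bwd (nat_lit 2) (Steps.bwd (nat_lit 1) (Steps.bwd (nat_lit 2) (Steps.fwd (nat_lit 2048) (Steps.bwd (nat_lit 2) Steps.nil))))))))) (nat_lit 8) (nat_lit 1),
  Rule.mk (nat_lit 1) (nat_lit 117) (Steps.bwd (nat_lit 2) (Steps.fwd (nat_lit 2048) (Steps.bwd (nat_lit 2) (Steps.fwd (nat_lit 2048) (Steps.fwd (nat_lit 4096) (Steps.bwd (nat_lit 1) (Steps.fwd (nat_lit 4096) (Steps.bwd (nat_lit 1) (Steps.bwd (nat_lit 2) Steps.nil))))))))) (nat_lit 8) (nat_lit 1),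
  Rule.mk (nat_lit 1) (nat_lit 117) (Steps.bwd (nat_lit 2) (Steps.fwd (nat_lit 2048) (Steps.fwd (nat_lit 4096) (Steps.fwd (nat_lit 2048) (Steps.bwd (nat_lit 2) (Steps.fwd (nat_lit 2048) (Steps.fwd (nat_lit 4096) (Steps.fwd (nat_lit 2048) (Steps.fwd (nat_lit 4096) Steps.nil))))))))) (nat_lit 8) (nat_lit 1),
  Rule.mk (nat_lit 4) (nat_lit 117) (Steps.bwd (nat_lit 3) (Steps.fwd (nat_lit 8192) (Steps.bwd (nat_lit 3) (Steps.fwd (nat_lit 8192) (Steps.bwd (nat_lit 3) (Steps.bwd (nat_lit 4) (Steps.fwd (nat_lit 6144) (Steps.fwd (nat_lit 8192) (Steps.fwd (nat_lit 6144) Steps.nil))))))))) (nat_lit 12) (nat_lit 0),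
  Rule.mk (nat_lit 4) (nat_lit 117) (Steps.bwd (nat_lit 3) (Steps.bwd (nat_lit 4) (Steps.fwd (nat_lit 6144) (Steps.fwd (nat_lit 8192) (Steps.bwd (nat_lit 3) (Steps.fwd (nat_lit 8192) (Steps.bwd (nat_lit 3) (Steps.fwd (nat_lit 8192) (Steps.fwd (nat_lit 6144) Steps.nil))))))))) (nat_lit 12) (nat_lit 0),
  Rule.mk (nat_lit 2) (nat_lit 453) (Steps.bwd (nat_lit 1) (Steps.fwd (nat_lit 6144) (Steps.fwd (nat_lit 4096) (Steps.bwd (nat_lit 1) (Steps.bwd (nat_lit 2) (Steps.bwd (nat_lit 3) (Steps.bwd (nat_lit 4) (Steps.fwd (nat_lit 6144) (Steps.bwd (nat_lit 2) (Steps.fwd (nat_lit 2048) (Steps.bwd (nat_lit 2) (Steps.bwd (nat_lit 3) (Steps.fwd (nat_lit 2048) (Steps.fwd (nat_lit 4096) (Steps.fwd (nat_lit 2048) (Steps.fwd (nat_lit 4096) (Steps.fwd (nat_lit 6144) (Steps.bwd (nat_lit 4) (Steps.fwd (nat_lit 2048) (Steps.bwd (nat_lit 2) (Steps.fwd (nat_lit 2048) (Steps.fwd (nat_lit 4096) (Steps.fwd (nat_lit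 2048) (Steps.bwd (nat_lit 3) (Steps.bwd (nat_lit 2) (Steps.fwd (nat_lit 2048) (Steps.bwd (nat_lit 2) (Steps.fwd (nat_lit 2048) (Steps.fwd (nat_lit 6144) (Steps.fwd (nat_lit 4096) (Steps.fwd (nat_lit 2048) (Steps.fwd (nat_lit 4096) (Steps.fwd (nat_lit 6144) (Steps.bwd (nat_lit 4) (Steps.fwd (nat_lit 6144) (Steps.fwd (nat_lit 4096) (Steps.fwd (nat_lit 2048) Steps.nil))))))))))))))))))))))))))))))))))))) (nat_lit 22) (nat_lit 5),
  Rule.mk (nat_lit 2) (nat_lit 117) (Steps.bwd (nat_lit 1) (Steps.fwd (nat_lit 4096) (Steps.fwd (nat_lit 2048) (Steps.bwd (nat_lit 2) (Steps.fwd (nat_lit 2048) (Steps.fwd (nat_lit 4096) (Steps.bwd (nat_lit 1) (Steps.bwd (nat_lit 2) (Steps.bwd (nat_lit 1) Steps.nil))))))))) (nat_lit 8) (nat_lit 0),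
  Rule.mk (nat_lit 4) (nat_lit 45) (Steps.fwd (nat_lit 4096) (Steps.bwd (nat_lit 4) (Steps.bwd (nat_lit 2) Steps.nil))) (nat_lit 18) (nat_lit 0),
  Rule.mk (nat_lit 3) (nat_lit 117) (Steps.bwd (nat_lit 4) (Steps.fwd (nat_lit 6144) (Steps.bwd (nat_lit 4) (Steps.bwd (nat_lit 3) (Steps.bwd (nat_lit 4) (Steps.fwd (nat_lit 6144) (Steps.fwd (nat_lit 8192) (Steps.fwd (nat_lit 6144) (Steps.bwd (nat_lit 4) Steps.nil))))))))) (nat_lit 12) (nat_lit 1),
  Rule.mk (nat_lit 3) (nat_lit 117) (Steps.bwd (nat_lit 4) (Steps.fwd (nat_lit 6144) (Steps.bwd (nat_lit 4) (Steps.fwd (nat_lit 6144) (Steps.bwd (nat_lit 4) (Steps.bwd (nat_lit 3) (Steps.fwd (nat_lit 8192) (Steps.bwd (nat_lit 3) (Steps.fwd (nat_lit 8192) Steps.nil))))))))) (nat_lit 12) (nat_lit 1),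
  Rule.mk (nat_lit 4) (nat_lit 117) (Steps.bwd (nat_lit 3) (Steps.bwd (nat_lit 4) (Steps.bwd (nat_lit 3) (Steps.fwd (nat_lit 8192) (Steps.fwd (nat_lit 6144) (Steps.fwd (nat_lit 8192) (Steps.fwd (nat_lit 6144) (Steps.fwd (nat_lit 8192) (Steps.bwd (nat_lit 3) Steps.nil))))))))) (nat_lit 12) (nat_lit 0),
  Rule.mk (nat_lit 4) (nat_lit 453) (Steps.bwd (nat_lit 3) (Steps.bwd (nat_lit 2) (Steps.bwd (nat_lit 1) (Steps.bwd (nat_lit 2) (Steps.bwd (nat_lit 3) (Steps.fwd (nat_lit 2048) (Steps.bwd (nat_lit 2) (Steps.fwd (nat_lit 2048) (Steps.fwd (nat_lit 4096) (Steps.fwd (nat_lit 6144) (Steps.fwd (nat_lit 8192) (Steps.bwd (nat_lit 1) (Steps.bwd (nat_lit 2) (Steps.fwd (nat_lit 2048) (Steps.fwd (nat_lit 4096) (Steps.fwd (nat_lit 2048) (Steps.fwd (nat_lit 6144) (Steps.bwd (nat_lit 2) (Steps.bwd (nat_lit 1) (Steps.bwd (nat_lit 2) (Steps.bwd (nat_lit 1) (Steps.bwd (nat_lit 3) (Steps.fwd (nat_lit 4096)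 (Steps.fwd (nat_lit 2048) (Steps.fwd (nat_lit 4096) (Steps.fwd (nat_lit 6144) (Steps.fwd (nat_lit 8192) (Steps.fwd (nat_lit 6144) (Steps.bwd (nat_lit 2) (Steps.fwd (nat_lit 2048) (Steps.fwd (nat_lit 4096) (Steps.bwd (nat_lit 1) (Steps.fwd (nat_lit 6144) (Steps.fwd (nat_lit 4096) (Steps.bwd (nat_lit 1) (Steps.fwd (nat_lit 4096) (Steps.fwd (nat_lit 6144) Steps.nil))))))))))))))))))))))))))))))))))))) (nat_lit 22) (nat_lit 12),
  Rule.mk (nat_lit 2) (nat_lit 69) (Steps.bwd (nat_lit 3) (Steps.fwd (nat_lit 4096) (Steps.bwd (nat_lit 3) (Steps.bwd (nat_lit 2) (Steps.bwd (nat_lit 3) Steps.nil))))) (nat_lit 10) (nat_lit 1),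
  Rule.mk (nat_lit 2) (nat_lit 117) (Steps.bwd (nat_lit 1) (Steps.fwd (nat_lit 4096) (Steps.bwd (nat_lit 1) (Steps.fwd (nat_lit 4096) (Steps.bwd (nat_lit 1) (Steps.fwd (nat_lit 4096) (Steps.fwd (nat_lit 2048) (Steps.fwd (nat_lit 4096) (Steps.fwd (nat_lit 2048) Steps.nil))))))))) (nat_lit 8) (nat_lit 0),
  Rule.mk (nat_lit 1) (nat_lit 117) (Steps.bwd (nat_lit 2) (Steps.fwd (nat_lit 2048) (Steps.bwd (nat_lit 2) (Steps.fwd (nat_lit 2048) (Steps.fwd (nat_lit 4096) (Steps.fwd (nat_lit 2048) (Steps.fwd (nat_lit 4096) (Steps.fwd (nat_lit 2048) (Steps.bwd (nat_lit 2) Steps.nil))))))))) (nat_lit 8) (nat_lit 1),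
  Rule.mk (nat_lit 1) (nat_lit 117) (Steps.bwd (nat_lit 2) (Steps.bwd (nat_lit 1) (Steps.bwd (nat_lit 2) (Steps.fwd (nat_lit 2048) (Steps.bwd (nat_lit 2) (Steps.bwd (nat_lit 1) (Steps.bwd (nat_lit 2) (Steps.fwd (nat_lit 2048) (Steps.fwd (nat_lit 4096) Steps.nil))))))))) (nat_lit 8) (nat_lit 1),
  Rule.mk (nat_lit 1) (nat_lit 117) (Steps.bwd (nat_lit 2) (Steps.fwd (nat_lit 2048) (Steps.bwd (nat_lit 2) (Steps.bwd (nat_lit 1) (Steps.bwd (nat_lit 2) (Steps.bwd (nat_lit 1) (Steps.bwd (nat_lit 2) (Steps.fwd (nat_lit 2048) (Steps.fwd (nat_lit 4096) Steps.nil))))))))) (nat_lit 8) (nat_lit 1),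
  Rule.mk (nat_lit 3) (nat_lit 177) (Steps.bwd (nat_lit 4) (Steps.bwd (nat_lit 2) (Steps.bwd (nat_lit 3) (Steps.fwd (nat_lit 8192) (Steps.bwd (nat_lit 2) (Steps.fwd (nat_lit 6144) (Steps.fwd (nat_lit 8192) (Steps.fwd (nat_lit 4096) (Steps.fwd (nat_lit 6144) (Steps.bwd (nat_lit 4) (Steps.bwd (nat_lit 2) (Steps.bwd (nat_lit 3) (Steps.bwd (nat_lit 4) (Steps.bwd (nat_lit 2) Steps.nil)))))))))))))) (nat_lit 20) (nat_lit 2),
  Rule.mk (nat_lit 3) (nat_lit 453) (Steps.bwd (nat_lit 4) (Steps.fwd (nat_lit 6144) (Steps.bwd (nat_lit 2) (Steps.bwd (nat_lit 1) (Steps.bwd (nat_lit 2) (Steps.fwd (nat_lit 6144) (Steps.fwd (nat_lit 2048) (Steps.fwd (nat_lit 4096) (Steps.fwd (nat_lit 2048) (Steps.bwd (nat_lit 2) (Steps.bwd (nat_lit 3) (Steps.fwd (nat_lit 8192) (Steps.bwd (nat_lit 1) (Steps.bwd (nat_lit 2) (Steps.bwd (nat_lit 1) (Steps.fwd (nat_lit 4096) (Steps.fwd (nat_lit 2048) (Steps.bwd (nat_lit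 3) (Steps.fwd (nat_lit 4096) (Steps.fwd (nat_lit 2048) (Steps.fwd (nat_lit 4096) (Steps.bwd (nat_lit 1) (Steps.fwd (nat_lit 6144) (Steps.fwd (nat_lit 4096) (Steps.bwd (nat_lit 1) (Steps.fwd (nat_lit 4096) (Steps.fwd (nat_lit 6144) (Steps.bwd (nat_lit 4) (Steps.fwd (nat_lit 6144) (Steps.fwd (nat_lit 4096) (Steps.fwd (nat_lit 2048) (Steps.fwd (nat_lit 4096) (Steps.fwd (nat_lit 2048) (Steps.fwd (nat_lit 6144) (Steps.fwd (nat_lit 4096) (Steps.bwd (nat_lit 1) (Steps.fwd (nat_lit 4096) Steps.nil))))))))))))))))))))))))))))))))))))) (nat_lit 22) (nat_lit 11),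
  Rule.mk (nat_lit 2) (nat_lit 117) (Steps.bwd (nat_lit 1) (Steps.fwd (nat_lit 4096) (Steps.fwd (nat_lit 2048) (Steps.bwd (nat_lit 2) (Steps.fwd (nat_lit 2048) (Steps.bwd (nat_lit 2) (Steps.bwd (nat_lit 1) (Steps.bwd (nat_lit 2) (Steps.fwd (nat_lit 2048) Steps.nil))))))))) (nat_lit 8) (nat_lit 0),
  Rule.mk (nat_lit 4) (nat_lit 177) (Steps.bwd (nat_lit 3) (Steps.bwd (nat_lit 2) (Steps.fwd (nat_lit 8192) (Steps.bwd (nat_lit 3) (Steps.fwd (nat_lit 4096) (Steps.bwd (nat_lit 4) (Steps.fwd (nat_lit 6144) (Steps.bwd (nat_lit 2) (Steps.fwd (nat_lit 8192) (Steps.bwd (nat_lit 3) (Steps.fwd (nat_lit 4096) (Steps.bwd (nat_lit 4) (Steps.fwd (nat_lit 6144) (Steps.fwd (nat_lit 4096) Steps.nil)))))))))))))) (nat_lit 21) (nat_lit 1)]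
noncomputable def R_4 : List (Rule) := [Rule.mk (nat_lit 3) (nat_lit 177) (Steps.bwd (nat_lit 2) (Steps.fwd (nat_lit 8192) (Steps.bwd (nat_lit 3) (Steps.fwd (nat_lit 4096) (Steps.bwd (nat_lit 4) (Steps.bwd (nat_lit 3) (Steps.bwd (nat_lit 2) (Steps.bwd (nat_lit 4) (Steps.bwd (nat_lit 3) (Steps.fwd (nat_lit 4096) (Steps.fwd (nat_lit 8192) (Steps.fwd (nat_lit 6144) (Steps.bwd (nat_lit 2) (Steps.bwd (nat_lit 4) Steps.nil)))))))))))))) (nat_lit 21) (nat_lit 2),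
  Rule.mk (nat_lit 1) (nat_lit 117) (Steps.bwd (nat_lit 2) (Steps.bwd (nat_lit 1) (Steps.bwd (nat_lit 2) (Steps.bwd (nat_lit 1) (Steps.bwd (nat_lit 2) (Steps.bwd (nat_lit 1) (Steps.bwd (nat_lit 2) (Steps.bwd (nat_lit 1) (Steps.bwd (nat_lit 2) Steps.nil))))))))) (nat_lit 8) (nat_lit 1),
  Rule.mk (nat_lit 3) (nat_lit 453) (Steps.bwd (nat_lit 2) (Steps.fwd (nat_lit 2048) (Steps.bwd (nat_lit 2) (Steps.fwd (nat_lit 6144) (Steps.bwd (nat_lit 1) (Steps.fwd (nat_lit 4096) (Steps.fwd (nat_lit 2048) (Steps.fwd (nat_lit 4096) (Steps.bwd (nat_lit 3) (Steps.fwd (nat_lit 8192) (Steps.fwd (nat_lit 2048) (Steps.fwd (nat_lit 4096) (Steps.bwd (nat_lit 1) (Steps.bwd (nat_lit 2) (Steps.bwd (nat_lit 1) (Steps.fwd (nat_lit 6144) (Steps.bwd (nat_lit 2) (Steps.fwd (nat_lit 2048) (Steps.bwd (nat_lit 2) (Steps.fwd (nat_lit 2048) (Steps.fwd (nat_lit 6144) (Steps.fwd (nat_lit 4096) (Steps.fwd (nat_lit 2048)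 (Steps.fwd (nat_lit 4096) (Steps.fwd (nat_lit 6144) (Steps.bwd (nat_lit 4) (Steps.fwd (nat_lit 6144) (Steps.fwd (nat_lit 4096) (Steps.fwd (nat_lit 2048) (Steps.bwd (nat_lit 2) (Steps.bwd (nat_lit 1) (Steps.bwd (nat_lit 3) (Steps.bwd (nat_lit 2) (Steps.bwd (nat_lit 1) (Steps.fwd (nat_lit 4096) (Steps.fwd (nat_lit 6144) (Steps.bwd (nat_lit 4) Steps.nil))))))))))))))))))))))))))))))))))))) (nat_lit 22) (nat_lit 13),
  Rule.mk (nat_lit 1) (nat_lit 117) (Steps.bwd (nat_lit 2) (Steps.bwd (nat_lit 1) (Steps.bwd (nat_lit 2) (Steps.fwd (nat_lit 2048) (Steps.bwd (nat_lit 2) (Steps.bwd (nat_lit 1) (Steps.bwd (nat_lit 2) (Steps.bwd (nat_lit 1) (Steps.bwd (nat_lit 2) Steps.nil))))))))) (nat_lit 8) (nat_lit 1),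
  Rule.mk (nat_lit 2) (nat_lit 117) (Steps.bwd (nat_lit 1) (Steps.fwd (nat_lit 4096) (Steps.bwd (nat_lit 1) (Steps.bwd (nat_lit 2) (Steps.bwd (nat_lit 1) (Steps.fwd (nat_lit 4096) (Steps.bwd (nat_lit 1) (Steps.fwd (nat_lit 4096) (Steps.fwd (nat_lit 2048) Steps.nil))))))))) (nat_lit 8) (nat_lit 0),
  Rule.mk (nat_lit 3) (nat_lit 117) (Steps.bwd (nat_lit 4) (Steps.fwd (nat_lit 6144) (Steps.bwd (nat_lit 4) (Steps.fwd (nat_lit 6144) (Steps.fwd (nat_lit 8192) (Steps.bwd (nat_lit 3) (Steps.fwd (nat_lit 8192) (Steps.fwd (nat_lit 6144) (Steps.fwd (nat_lit 8192) Steps.nil))))))))) (nat_lit 12) (nat_lit 1),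
  Rule.mk (nat_lit 3) (nat_lit 117) (Steps.bwd (nat_lit 4) (Steps.fwd (nat_lit 6144) (Steps.bwd (nat_lit 4) (Steps.bwd (nat_lit 3) (Steps.fwd (nat_lit 8192) (Steps.fwd (nat_lit 6144) (Steps.bwd (nat_lit 4) (Steps.bwd (nat_lit 3) (Steps.bwd (nat_lit 4) Steps.nil))))))))) (nat_lit 12) (nat_lit 1),
  Rule.mk (nat_lit 3) (nat_lit 117) (Steps.bwd (nat_lit 4) (Steps.fwd (nat_lit 6144) (Steps.bwd (nat_lit 4) (Steps.bwd (nat_lit 3) (Steps.fwd (nat_lit 8192) (Steps.fwd (nat_lit 6144) (Steps.bwd (nat_lit 4) (Steps.bwd (nat_lit 3) (Steps.fwd (nat_lit 8192) Steps.nil))))))))) (nat_lit 12) (nat_lit 1),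
  Rule.mk (nat_lit 3) (nat_lit 117) (Steps.bwd (nat_lit 4) (Steps.fwd (nat_lit 6144) (Steps.fwd (nat_lit 8192) (Steps.fwd (nat_lit 6144) (Steps.fwd (nat_lit 8192) (Steps.bwd (nat_lit 3) (Steps.fwd (nat_lit 8192) (Steps.fwd (nat_lit 6144) (Steps.bwd (nat_lit 4) Steps.nil))))))))) (nat_lit 12) (nat_lit 1),
  Rule.mk (nat_lit 4) (nat_lit 117) (Steps.bwd (nat_lit 3) (Steps.fwd (nat_lit 8192) (Steps.fwd (nat_lit 6144) (Steps.fwd (nat_lit 8192) (Steps.bwd (nat_lit 3) (Steps.fwd (nat_lit 8192) (Steps.fwd (nat_lit 6144) (Steps.bwd (nat_lit 4) (Steps.fwd (nat_lit 6144) Steps.nil))))))))) (nat_lit 12) (nat_lit 0),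
  Rule.mk (nat_lit 3) (nat_lit 117) (Steps.bwd (nat_lit 4) (Steps.bwd (nat_lit 3) (Steps.fwd (nat_lit 8192) (Steps.fwd (nat_lit 6144) (Steps.bwd (nat_lit 4) (Steps.bwd (nat_lit 3) (Steps.fwd (nat_lit 8192) (Steps.fwd (nat_lit 6144) (Steps.fwd (nat_lit 8192) Steps.nil))))))))) (nat_lit 12) (nat_lit 1),
  Rule.mk (nat_lit 3) (nat_lit 117) (Steps.bwd (nat_lit 4) (Steps.fwd (nat_lit 6144) (Steps.fwd (nat_lit 8192) (Steps.fwd (nat_lit 6144) (Steps.bwd (nat_lit 4) (Steps.fwd (nat_lit 6144) (Steps.bwd (nat_lit 4) (Steps.bwd (nat_lit 3) (Steps.fwd (nat_lit 8192) Steps.nil))))))))) (nat_lit 12) (nat_lit 1),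
  Rule.mk (nat_lit 4) (nat_lit 117) (Steps.bwd (nat_lit 3) (Steps.bwd (nat_lit 4) (Steps.bwd (nat_lit 3) (Steps.fwd (nat_lit 8192) (Steps.bwd (nat_lit 3) (Steps.fwd (nat_lit 8192) (Steps.bwd (nat_lit 3) (Steps.bwd (nat_lit 4) (Steps.fwd (nat_lit 6144) Steps.nil))))))))) (nat_lit 12) (nat_lit 0),
  Rule.mk (nat_lit 3) (nat_lit 117) (Steps.bwd (nat_lit 4) (Steps.fwd (nat_lit 6144) (Steps.bwd (nat_lit 4) (Steps.bwd (nat_lit 3) (Steps.bwd (nat_lit 4) (Steps.fwd (nat_lit 6144) (Steps.fwd (nat_lit 8192) (Steps.bwd (nat_lit 3) (Steps.bwd (nat_lit 4) Steps.nil))))))))) (nat_lit 12) (nat_lit 1),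
  Rule.mk (nat_lit 1) (nat_lit 453) (Steps.bwd (nat_lit 2) (Steps.fwd (nat_lit 6144) (Steps.fwd (nat_lit 8192) (Steps.fwd (nat_lit 6144) (Steps.bwd (nat_lit 2) (Steps.bwd (nat_lit 1) (Steps.fwd (nat_lit 4096) (Steps.fwd (nat_lit 2048) (Steps.bwd (nat_lit 3) (Steps.bwd (nat_lit 2) (Steps.bwd (nat_lit 1) (Steps.bwd (nat_lit 2) (Steps.fwd (nat_lit 6144) (Steps.fwd (nat_lit 8192) (Steps.fwd (nat_lit 6144) (Steps.fwd (nat_lit 4096) (Steps.fwd (nat_lit 2048) (Steps.bwd (nat_lit 2) (Steps.fwd (nat_lit 6144) (Steps.fwd (nat_lit 2048) (Steps.bwd (nat_lit 2) (Steps.fwd (nat_lit 2048) (Steps.fwd (nat_lit 4096) (Steps.fwd (nat_lit 6144) (Steps.bwd (nat_lit 4) (Steps.fwd (nat_lit 2048) (Steps.fwd (nat_lit 4096) (Steps.bwd (nat_lit 1) (Steps.fwd (nat_lit 4096) (Steps.fwd (nat_lit 2048) (Steps.bwd (nat_lit 3) (Steps.fwd (nat_lit 4096) (Steps.fwd (nat_lit 2048) (Steps.fwd (nat_lit 4096) (Steps.fwd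 (nat_lit 2048) (Steps.fwd (nat_lit 6144) (Steps.bwd (nat_lit 2) Steps.nil))))))))))))))))))))))))))))))))))))) (nat_lit 22) (nat_lit 36),
  Rule.mk (nat_lit 3) (nat_lit 117) (Steps.bwd (nat_lit 4) (Steps.bwd (nat_lit 3) (Steps.fwd (nat_lit 8192) (Steps.bwd (nat_lit 3) (Steps.fwd (nat_lit 8192) (Steps.fwd (nat_lit 6144) (Steps.bwd (nat_lit 4) (Steps.bwd (nat_lit 3) (Steps.bwd (nat_lit 4) Steps.nil))))))))) (nat_lit 12) (nat_lit 1),
  Rule.mk (nat_lit 3) (nat_lit 117) (Steps.bwd (nat_lit 4) (Steps.fwd (nat_lit 6144) (Steps.fwd (nat_lit 8192) (Steps.bwd (nat_lit 3) (Steps.fwd (nat_lit 8192) (Steps.bwd (nat_lit 3) (Steps.bwd (nat_lit 4) (Steps.fwd (nat_lit 6144) (Steps.bwd (nat_lit 4) Steps.nil))))))))) (nat_lit 12) (nat_lit 1),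
  Rule.mk (nat_lit 3) (nat_lit 117) (Steps.bwd (nat_lit 4) (Steps.fwd (nat_lit 6144) (Steps.bwd (nat_lit 4) (Steps.fwd (nat_lit 6144) (Steps.bwd (nat_lit 4) (Steps.fwd (nat_lit 6144) (Steps.bwd (nat_lit 4) (Steps.fwd (nat_lit 6144) (Steps.bwd (nat_lit 4) Steps.nil))))))))) (nat_lit 12) (nat_lit 1),
  Rule.mk (nat_lit 3) (nat_lit 117) (Steps.bwd (nat_lit 4) (Steps.fwd (nat_lit 6144) (Steps.bwd (nat_lit 4) (Steps.fwd (nat_lit 6144) (Steps.fwd (nat_lit 8192) (Steps.fwd (nat_lit 6144) (Steps.fwd (nat_lit 8192) (Steps.fwd (nat_lit 6144) (Steps.fwd (nat_lit 8192) Steps.nil))))))))) (nat_lit 12) (nat_lit 1),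
  Rule.mk (nat_lit 3) (nat_lit 117) (Steps.bwd (nat_lit 4) (Steps.fwd (nat_lit 6144) (Steps.fwd (nat_lit 8192) (Steps.bwd (nat_lit 3) (Steps.fwd (nat_lit 8192) (Steps.fwd (nat_lit 6144) (Steps.bwd (nat_lit 4) (Steps.fwd (nat_lit 6144) (Steps.fwd (nat_lit 8192) Steps.nil))))))))) (nat_lit 12) (nat_lit 1),
  Rule.mk (nat_lit 4) (nat_lit 117) (Steps.bwd (nat_lit 3) (Steps.bwd (nat_lit 4) (Steps.bwd (nat_lit 3) (Steps.fwd (nat_lit 8192) (Steps.fwd (nat_lit 6144) (Steps.bwd (nat_lit 4) (Steps.bwd (nat_lit 3) (Steps.bwd (nat_lit 4) (Steps.fwd (nat_lit 6144) Steps.nil))))))))) (nat_lit 12) (nat_lit 0),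
  Rule.mk (nat_lit 3) (nat_lit 117) (Steps.bwd (nat_lit 4) (Steps.fwd (nat_lit 6144) (Steps.fwd (nat_lit 8192) (Steps.bwd (nat_lit 3) (Steps.bwd (nat_lit 4) (Steps.fwd (nat_lit 6144) (Steps.bwd (nat_lit 4) (Steps.bwd (nat_lit 3) (Steps.fwd (nat_lit 8192) Steps.nil))))))))) (nat_lit 12) (nat_lit 1),
  Rule.mk (nat_lit 3) (nat_lit 117) (Steps.bwd (nat_lit 4) (Steps.fwd (nat_lit 6144) (Steps.fwd (nat_lit 8192) (Steps.bwd (nat_lit 3) (Steps.bwd (nat_lit 4) (Steps.fwd (nat_lit 6144) (Steps.fwd (nat_lit 8192) (Steps.bwd (nat_lit 3) (Steps.bwd (nat_lit 4) Steps.nil))))))))) (nat_lit 12) (nat_lit 1),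
  Rule.mk (nat_lit 1) (nat_lit 453) (Steps.bwd (nat_lit 2) (Steps.fwd (nat_lit 6144) (Steps.fwd (nat_lit 8192) (Steps.fwd (nat_lit 6144) (Steps.bwd (nat_lit 2) (Steps.fwd (nat_lit 2048) (Steps.bwd (nat_lit 2) (Steps.bwd (nat_lit 1) (Steps.bwd (nat_lit 3) (Steps.bwd (nat_lit 2) (Steps.fwd (nat_lit 2048) (Steps.bwd (nat_lit 2) (Steps.fwd (nat_lit 6144) (Steps.fwd (nat_lit 8192) (Steps.bwd (nat_lit 3) (Steps.fwd (nat_lit 4096) (Steps.fwd (nat_lit 2048) (Steps.bwd (nat_lit 2) (Steps.fwd (nat_lit 6144) (Steps.bwd (nat_lit 1) (Steps.bwd (nat_lit 2) (Steps.bwd (nat_lit 1) (Steps.fwd (nat_lit 4096) (Steps.fwd (nat_lit 6144) (Steps.fwd (nat_lit 8192) (Steps.bwd (nat_lit 1) (Steps.fwd (nat_lit 4096) (Steps.bwd (nat_lit 1) (Steps.bwd (nat_lit 2) (Steps.bwd (nat_lit 1) (Steps.fwd (nat_lit 6144) (Steps.fwd (nat_lit 4096) (Steps.fwd (nat_lit 2048) (Steps.bwd (nat_lit 2) (Steps.fwd (nat_lit 2048)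 (Steps.bwd (nat_lit 3) (Steps.bwd (nat_lit 2) Steps.nil))))))))))))))))))))))))))))))))))))) (nat_lit 22) (nat_lit 36),
  Rule.mk (nat_lit 3) (nat_lit 117) (Steps.bwd (nat_lit 4) (Steps.fwd (nat_lit 6144) (Steps.fwd (nat_lit 8192) (Steps.fwd (nat_lit 6144) (Steps.fwd (nat_lit 8192) (Steps.bwd (nat_lit 3) (Steps.fwd (nat_lit 8192) (Steps.fwd (nat_lit 6144) (Steps.fwd (nat_lit 8192) Steps.nil))))))))) (nat_lit 12) (nat_lit 1),
  Rule.mk (nat_lit 3) (nat_lit 117) (Steps.bwd (nat_lit 4) (Steps.fwd (nat_lit 6144) (Steps.fwd (nat_lit 8192) (Steps.bwd (nat_lit 3) (Steps.bwd (nat_lit 4) (Steps.fwd (nat_lit 6144) (Steps.fwd (nat_lit 8192) (Steps.fwd (nat_lit 6144) (Steps.bwd (nat_lit 4) Steps.nil))))))))) (nat_lit 12) (nat_lit 1),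
  Rule.mk (nat_lit 3) (nat_lit 69) (Steps.bwd (nat_lit 2) (Steps.bwd (nat_lit 3) (Steps.fwd (nat_lit 4096) (Steps.fwd (nat_lit 6144) (Steps.bwd (nat_lit 2) Steps.nil))))) (nat_lit 10) (nat_lit 0),
  Rule.mk (nat_lit 1) (nat_lit 117) (Steps.bwd (nat_lit 2) (Steps.fwd (nat_lit 2048) (Steps.bwd (nat_lit 2) (Steps.bwd (nat_lit 1) (Steps.bwd (nat_lit 2) (Steps.fwd (nat_lit 2048) (Steps.bwd (nat_lit 2) (Steps.bwd (nat_lit 1) (Steps.fwd (nat_lit 4096) Steps.nil))))))))) (nat_lit 8) (nat_lit 1),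
  Rule.mk (nat_lit 1) (nat_lit 117) (Steps.bwd (nat_lit 2) (Steps.fwd (nat_lit 2048) (Steps.fwd (nat_lit 4096) (Steps.fwd (nat_lit 2048) (Steps.fwd (nat_lit 4096) (Steps.bwd (nat_lit 1) (Steps.fwd (nat_lit 4096) (Steps.fwd (nat_lit 2048) (Steps.bwd (nat_lit 2) Steps.nil))))))))) (nat_lit 8) (nat_lit 1),
  Rule.mk (nat_lit 1) (nat_lit 117) (Steps.bwd (nat_lit 2) (Steps.bwd (nat_lit 1) (Steps.bwd (nat_lit 2) (Steps.fwd (nat_lit 2048) (Steps.bwd (nat_lit 2) (Steps.bwd (nat_lit 1) (Steps.bwd (nat_lit 2) (Steps.fwd (nat_lit 2048) (Steps.bwd (nat_lit 2) Steps.nil))))))))) (nat_lit 8) (nat_lit 1),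
  Rule.mk (nat_lit 1) (nat_lit 117) (Steps.bwd (nat_lit 2) (Steps.fwd (nat_lit 2048) (Steps.fwd (nat_lit 4096) (Steps.fwd (nat_lit 2048) (Steps.fwd (nat_lit 4096) (Steps.bwd (nat_lit 1) (Steps.fwd (nat_lit 4096) (Steps.bwd (nat_lit 1) (Steps.bwd (nat_lit 2) Steps.nil))))))))) (nat_lit 8) (nat_lit 1),
  Rule.mk (nat_lit 1) (nat_lit 117) (Steps.bwd (nat_lit 2) (Steps.fwd (nat_lit 2048) (Steps.bwd (nat_lit 2) (Steps.fwd (nat_lit 2048) (Steps.bwd (nat_lit 2) (Steps.fwd (nat_lit 2048) (Steps.bwd (nat_lit 2) (Steps.fwd (nat_lit 2048) (Steps.fwd (nat_lit 4096) Steps.nil))))))))) (nat_lit 8) (nat_lit 1),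
  Rule.mk (nat_lit 1) (nat_lit 117) (Steps.bwd (nat_lit 2) (Steps.fwd (nat_lit 2048) (Steps.bwd (nat_lit 2) (Steps.bwd (nat_lit 1) (Steps.fwd (nat_lit 4096) (Steps.fwd (nat_lit 2048) (Steps.bwd (nat_lit 2) (Steps.bwd (nat_lit 1) (Steps.fwd (nat_lit 4096) Steps.nil))))))))) (nat_lit 8) (nat_lit 1),
  Rule.mk (nat_lit 1) (nat_lit 117) (Steps.bwd (nat_lit 2) (Steps.fwd (nat_lit 2048) (Steps.fwd (nat_lit 4096) (Steps.bwd (nat_lit 1) (Steps.bwd (nat_lit 2) (Steps.bwd (nat_lit 1) (Steps.bwd (nat_lit 2) (Steps.fwd (nat_lit 2048) (Steps.fwd (nat_lit 4096) Steps.nil))))))))) (nat_lit 8) (nat_lit 1),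
  Rule.mk (nat_lit 2) (nat_lit 117) (Steps.bwd (nat_lit 1) (Steps.fwd (nat_lit 4096) (Steps.bwd (nat_lit 1) (Steps.fwd (nat_lit 4096) (Steps.bwd (nat_lit 1) (Steps.bwd (nat_lit 2) (Steps.bwd (nat_lit 1) (Steps.fwd (nat_lit 4096) (Steps.bwd (nat_lit 1) Steps.nil))))))))) (nat_lit 8) (nat_lit 0),
  Rule.mk (nat_lit 3) (nat_lit 117) (Steps.bwd (nat_lit 4) (Steps.bwd (nat_lit 3) (Steps.fwd (nat_lit 8192) (Steps.bwd (nat_lit 3) (Steps.bwd (nat_lit 4) (Steps.bwd (nat_lit 3) (Steps.bwd (nat_lit 4) (Steps.bwd (nat_lit 3) (Steps.bwd (nat_lit 4) Steps.nil))))))))) (nat_lit 12) (nat_lit 1),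
  Rule.mk (nat_lit 1) (nat_lit 117) (Steps.bwd (nat_lit 2) (Steps.bwd (nat_lit 1) (Steps.fwd (nat_lit 4096) (Steps.bwd (nat_lit 1) (Steps.bwd (nat_lit 2) (Steps.fwd (nat_lit 2048) (Steps.fwd (nat_lit 4096) (Steps.fwd (nat_lit 2048) (Steps.fwd (nat_lit 4096) Steps.nil))))))))) (nat_lit 8) (nat_lit 1),
  Rule.mk (nat_lit 1) (nat_lit 117) (Steps.bwd (nat_lit 2) (Steps.fwd (nat_lit 2048) (Steps.bwd (nat_lit 2) (Steps.bwd (nat_lit 1) (Steps.fwd (nat_lit 4096) (Steps.bwd (nat_lit 1) (Steps.fwd (nat_lit 4096) (Steps.fwd (nat_lit 2048) (Steps.bwd (nat_lit 2) Steps.nil))))))))) (nat_lit 8) (nat_lit 1),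
  Rule.mk (nat_lit 3) (nat_lit 117) (Steps.bwd (nat_lit 4) (Steps.bwd (nat_lit 3) (Steps.bwd (nat_lit 4) (Steps.bwd (nat_lit 3) (Steps.bwd (nat_lit 4) (Steps.bwd (nat_lit 3) (Steps.fwd (nat_lit 8192) (Steps.fwd (nat_lit 6144) (Steps.fwd (nat_lit 8192) Steps.nil))))))))) (nat_lit 12) (nat_lit 1),
  Rule.mk (nat_lit 3) (nat_lit 69) (Steps.bwd (nat_lit 2) (Steps.bwd (nat_lit 3) (Steps.fwd (nat_lit 4096) (Steps.bwd (nat_lit 3) (Steps.bwd (nat_lit 2) Steps.nil))))) (nat_lit 10) (nat_lit 0),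
  Rule.mk (nat_lit 4) (nat_lit 117) (Steps.bwd (nat_lit 3) (Steps.bwd (nat_lit 4) (Steps.bwd (nat_lit 3) (Steps.bwd (nat_lit 4) (Steps.fwd (nat_lit 6144) (Steps.fwd (nat_lit 8192) (Steps.bwd (nat_lit 3) (Steps.bwd (nat_lit 4) (Steps.fwd (nat_lit 6144) Steps.nil))))))))) (nat_lit 12) (nat_lit 0),
  Rule.mk (nat_lit 1) (nat_lit 117) (Steps.bwd (nat_lit 2) (Steps.bwd (nat_lit 1) (Steps.fwd (nat_lit 4096) (Steps.bwd (nat_lit 1) (Steps.bwd (nat_lit 2) (Steps.bwd (nat_lit 1) (Steps.fwd (nat_lit 4096) (Steps.fwd (nat_lit 2048) (Steps.fwd (nat_lit 4096) Steps.nil))))))))) (nat_lit 8) (nat_lit 1),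
  Rule.mk (nat_lit 3) (nat_lit 453) (Steps.bwd (nat_lit 2) (Steps.bwd (nat_lit 1) (Steps.fwd (nat_lit 4096) (Steps.bwd (nat_lit 1) (Steps.bwd (nat_lit 3) (Steps.fwd (nat_lit 4096) (Steps.bwd (nat_lit 1) (Steps.bwd (nat_lit 2) (Steps.fwd (nat_lit 6144) (Steps.fwd (nat_lit 8192) (Steps.bwd (nat_lit 3) (Steps.fwd (nat_lit 4096) (Steps.fwd (nat_lit 2048) (Steps.fwd (nat_lit 4096) (Steps.fwd (nat_lit 6144) (Steps.bwd (nat_lit 1) (Steps.bwd (nat_lit 2) (Steps.fwd (nat_lit 2048) (Steps.bwd (nat_lit 2) (Steps.fwd (nat_lit 6144) (Steps.fwd (nat_lit 8192) (Steps.bwd (nat_lit 1) (Steps.fwd (nat_lit 4096) (Steps.bwd (nat_lit 1) (Steps.fwd (nat_lit 4096) (Steps.fwd (nat_lit 2048) (Steps.fwd (nat_lit 6144) (Steps.fwd (nat_lit 4096) (Steps.bwd (nat_lit 1) (Steps.fwd (nat_lit 4096) (Steps.bwd (nat_lit 1) (Steps.bwd (nat_lit 3) (Steps.fwd (nat_lit 4096) (Steps.bwd (nat_lit 1) (Steps.bwd (nat_lit 2)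 (Steps.fwd (nat_lit 6144) (Steps.fwd (nat_lit 8192) Steps.nil))))))))))))))))))))))))))))))))))))) (nat_lit 22) (nat_lit 2),
  Rule.mk (nat_lit 1) (nat_lit 117) (Steps.bwd (nat_lit 2) (Steps.fwd (nat_lit 2048) (Steps.fwd (nat_lit 4096) (Steps.fwd (nat_lit 2048) (Steps.fwd (nat_lit 4096) (Steps.fwd (nat_lit 2048) (Steps.fwd (nat_lit 4096) (Steps.bwd (nat_lit 1) (Steps.bwd (nat_lit 2) Steps.nil))))))))) (nat_lit 8) (nat_lit 1),
  Rule.mk (nat_lit 1) (nat_lit 117) (Steps.bwd (nat_lit 2) (Steps.fwd (nat_lit 2048) (Steps.fwd (nat_lit 4096) (Steps.fwd (nat_lit 2048) (Steps.bwd (nat_lit 2) (Steps.fwd (nat_lit 2048) (Steps.fwd (nat_lit 4096) (Steps.fwd (nat_lit 2048) (Steps.bwd (nat_lit 2) Steps.nil))))))))) (nat_lit 8) (nat_lit 1),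
  Rule.mk (nat_lit 3) (nat_lit 453) (Steps.bwd (nat_lit 4) (Steps.fwd (nat_lit 2048) (Steps.fwd (nat_lit 4096) (Steps.bwd (nat_lit 1) (Steps.bwd (nat_lit 2) (Steps.bwd (nat_lit 1) (Steps.fwd (nat_lit 6144) (Steps.fwd (nat_lit 4096) (Steps.bwd (nat_lit 1) (Steps.bwd (nat_lit 2) (Steps.bwd (nat_lit 1) (Steps.bwd (nat_lit 3) (Steps.bwd (nat_lit 2) (Steps.bwd (nat_lit 1) (Steps.fwd (nat_lit 4096) (Steps.fwd (nat_lit 6144) (Steps.bwd (nat_lit 4) (Steps.fwd (nat_lit 6144) (Steps.fwd (nat_lit 4096) (Steps.fwd (nat_lit 2048) (Steps.fwd (nat_lit 4096) (Steps.bwd (nat_lit 1) (Steps.fwd (nat_lit 6144) (Steps.bwd (nat_lit 2) (Steps.fwd (nat_lit 2048) (Steps.bwd (nat_lit 2) (Steps.bwd (nat_lit 3) (Steps.bwd (nat_lit 4) (Steps.bwd (nat_lit 3) (Steps.bwd (nat_lit 2) (Steps.bwd (nat_lit 1) (Steps.bwd (nat_lit 2) (Steps.fwd (nat_lit 6144) (Steps.bwd (nat_lit 1) (Steps.bwd (nat_lit 2) (Steps.bwd (nat_lit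 1) (Steps.fwd (nat_lit 4096) Steps.nil))))))))))))))))))))))))))))))))))))) (nat_lit 22) (nat_lit 22),
  Rule.mk (nat_lit 1) (nat_lit 117) (Steps.bwd (nat_lit 2) (Steps.fwd (nat_lit 2048) (Steps.bwd (nat_lit 2) (Steps.bwd (nat_lit 1) (Steps.bwd (nat_lit 2) (Steps.fwd (nat_lit 2048) (Steps.fwd (nat_lit 4096) (Steps.bwd (nat_lit 1) (Steps.bwd (nat_lit 2) Steps.nil))))))))) (nat_lit 8) (nat_lit 1),
  Rule.mk (nat_lit 4) (nat_lit 117) (Steps.bwd (nat_lit 3) (Steps.fwd (nat_lit 8192) (Steps.bwd (nat_lit 3) (Steps.fwd (nat_lit 8192) (Steps.fwd (nat_lit 6144) (Steps.fwd (nat_lit 8192) (Steps.fwd (nat_lit 6144) (Steps.bwd (nat_lit 4) (Steps.fwd (nat_lit 6144) Steps.nil))))))))) (nat_lit 12) (nat_lit 0),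
  Rule.mk (nat_lit 3) (nat_lit 117) (Steps.bwd (nat_lit 4) (Steps.fwd (nat_lit 6144) (Steps.fwd (nat_lit 8192) (Steps.bwd (nat_lit 3) (Steps.fwd (nat_lit 8192) (Steps.fwd (nat_lit 6144) (Steps.fwd (nat_lit 8192) (Steps.bwd (nat_lit 3) (Steps.bwd (nat_lit 4) Steps.nil))))))))) (nat_lit 12) (nat_lit 1),
  Rule.mk (nat_lit 3) (nat_lit 117) (Steps.bwd (nat_lit 4) (Steps.fwd (nat_lit 6144) (Steps.bwd (nat_lit 4) (Steps.fwd (nat_lit 6144) (Steps.fwd (nat_lit 8192) (Steps.fwd (nat_lit 6144) (Steps.bwd (nat_lit 4) (Steps.fwd (nat_lit 6144) (Steps.bwd (nat_lit 4) Steps.nil))))))))) (nat_lit 12) (nat_lit 1),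
  Rule.mk (nat_lit 4) (nat_lit 117) (Steps.bwd (nat_lit 3) (Steps.bwd (nat_lit 4) (Steps.bwd (nat_lit 3) (Steps.bwd (nat_lit 4) (Steps.fwd (nat_lit 6144) (Steps.fwd (nat_lit 8192) (Steps.fwd (nat_lit 6144) (Steps.bwd (nat_lit 4) (Steps.bwd (nat_lit 3) Steps.nil))))))))) (nat_lit 12) (nat_lit 0),
  Rule.mk (nat_lit 2) (nat_lit 453) (Steps.bwd (nat_lit 1) (Steps.fwd (nat_lit 4096) (Steps.bwd (nat_lit 3) (Steps.fwd (nat_lit 8192) (Steps.bwd (nat_lit 3) (Steps.bwd (nat_lit 2) (Steps.fwd (nat_lit 2048) (Steps.fwd (nat_lit 4096) (Steps.fwd (nat_lit 2048) (Steps.fwd (nat_lit 6144) (Steps.bwd (nat_lit 2) (Steps.bwd (nat_lit 1) (Steps.fwd (nat_lit 4096) (Steps.bwd (nat_lit 3) (Steps.fwd (nat_lit 8192) (Steps.fwd (nat_lit 6144) (Steps.bwd (nat_lit 2) (Steps.fwd (nat_lit 2048) (Steps.fwd (nat_lit 4096) (Steps.fwd (nat_lit 6144) (Steps.fwd (nat_lit 2048) (Steps.fwd (nat_lit 4096) (Steps.bwd (nat_lit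 1) (Steps.fwd (nat_lit 4096) (Steps.bwd (nat_lit 3) (Steps.bwd (nat_lit 4) (Steps.bwd (nat_lit 1) (Steps.bwd (nat_lit 2) (Steps.fwd (nat_lit 2048) (Steps.bwd (nat_lit 2) (Steps.bwd (nat_lit 1) (Steps.fwd (nat_lit 6144) (Steps.bwd (nat_lit 2) (Steps.bwd (nat_lit 1) (Steps.bwd (nat_lit 2) (Steps.bwd (nat_lit 1) (Steps.fwd (nat_lit 6144) Steps.nil))))))))))))))))))))))))))))))))))))) (nat_lit 22) (nat_lit 35),
  Rule.mk (nat_lit 2) (nat_lit 69) (Steps.bwd (nat_lit 3) (Steps.fwd (nat_lit 4096) (Steps.fwd (nat_lit 6144) (Steps.fwd (nat_lit 4096) (Steps.bwd (nat_lit 3) Steps.nil))))) (nat_lit 10) (nat_lit 1),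
  Rule.mk (nat_lit 2) (nat_lit 117) (Steps.bwd (nat_lit 1) (Steps.fwd (nat_lit 4096) (Steps.fwd (nat_lit 2048) (Steps.bwd (nat_lit 2) (Steps.fwd (nat_lit 2048) (Steps.bwd (nat_lit 2) (Steps.fwd (nat_lit 2048) (Steps.bwd (nat_lit 2) (Steps.bwd (nat_lit 1) Steps.nil))))))))) (nat_lit 8) (nat_lit 0),
  Rule.mk (nat_lit 4) (nat_lit 453) (Steps.bwd (nat_lit 3) (Steps.fwd (nat_lit 4096) (Steps.fwd (nat_lit 2048) (Steps.fwd (nat_lit 4096) (Steps.bwd (nat_lit 1) (Steps.fwd (nat_lit 6144) (Steps.fwd (nat_lit 4096) (Steps.bwd (nat_lit 1) (Steps.bwd (nat_lit 2) (Steps.fwd (nat_lit 6144) (Steps.fwd (nat_lit 8192) (Steps.fwd (nat_lit 6144) (Steps.fwd (nat_lit 4096) (Steps.bwd (nat_lit 1) (Steps.fwd (nat_lit 4096) (Steps.bwd (nat_lit 3) (Steps.bwd (nat_lit 1) (Steps.bwd (nat_lit 2) (Steps.bwd (nat_lit 1) (Steps.bwd (nat_lit 2) (Steps.fwd (nat_lit 6144) (Steps.fwd (nat_lit 8192) (Steps.bwd (nat_lit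 3) (Steps.fwd (nat_lit 4096) (Steps.fwd (nat_lit 2048) (Steps.fwd (nat_lit 4096) (Steps.bwd (nat_lit 3) (Steps.fwd (nat_lit 2048) (Steps.bwd (nat_lit 2) (Steps.fwd (nat_lit 2048) (Steps.bwd (nat_lit 2) (Steps.bwd (nat_lit 3) (Steps.fwd (nat_lit 2048) (Steps.bwd (nat_lit 2) (Steps.fwd (nat_lit 2048) (Steps.bwd (nat_lit 2) (Steps.fwd (nat_lit 2048) Steps.nil))))))))))))))))))))))))))))))))))))) (nat_lit 23) (nat_lit 16),
  Rule.mk (nat_lit 2) (nat_lit 117) (Steps.bwd (nat_lit 1) (Steps.fwd (nat_lit 4096) (Steps.fwd (nat_lit 2048) (Steps.bwd (nat_lit 2) (Steps.fwd (nat_lit 2048) (Steps.fwd (nat_lit 4096) (Steps.fwd (nat_lit 2048) (Steps.bwd (nat_lit 2) (Steps.fwd (nat_lit 2048) Steps.nil))))))))) (nat_lit 8) (nat_lit 0),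
  Rule.mk (nat_lit 4) (nat_lit 117) (Steps.bwd (nat_lit 3) (Steps.bwd (nat_lit 4) (Steps.bwd (nat_lit 3) (Steps.fwd (nat_lit 8192) (Steps.bwd (nat_lit 3) (Steps.bwd (nat_lit 4) (Steps.bwd (nat_lit 3) (Steps.bwd (nat_lit 4) (Steps.fwd (nat_lit 6144) Steps.nil))))))))) (nat_lit 12) (nat_lit 0),
  Rule.mk (nat_lit 1) (nat_lit 117) (Steps.bwd (nat_lit 2) (Steps.fwd (nat_lit 2048) (Steps.fwd (nat_lit 4096) (Steps.bwd (nat_lit 1) (Steps.bwd (nat_lit 2) (Steps.bwd (nat_lit 1) (Steps.fwd (nat_lit 4096) (Steps.fwd (nat_lit 2048) (Steps.fwd (nat_lit 4096) Steps.nil))))))))) (nat_lit 8) (nat_lit 1),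
  Rule.mk (nat_lit 2) (nat_lit 117) (Steps.bwd (nat_lit 1) (Steps.fwd (nat_lit 4096) (Steps.fwd (nat_lit 2048) (Steps.fwd (nat_lit 4096) (Steps.fwd (nat_lit 2048) (Steps.bwd (nat_lit 2) (Steps.fwd (nat_lit 2048) (Steps.bwd (nat_lit 2) (Steps.fwd (nat_lit 2048) Steps.nil))))))))) (nat_lit 8) (nat_lit 0),
  Rule.mk (nat_lit 2) (nat_lit 117) (Steps.bwd (nat_lit 1) (Steps.fwd (nat_lit 4096) (Steps.fwd (nat_lit 2048) (Steps.bwd (nat_lit 2) (Steps.fwd (nat_lit 2048) (Steps.bwd (nat_lit 2) (Steps.fwd (nat_lit 2048) (Steps.bwd (nat_lit 2) (Steps.fwd (nat_lit 2048) Steps.nil))))))))) (nat_lit 8) (nat_lit 0),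
  Rule.mk (nat_lit 2) (nat_lit 117) (Steps.bwd (nat_lit 1) (Steps.fwd (nat_lit 4096) (Steps.fwd (nat_lit 2048) (Steps.fwd (nat_lit 4096) (Steps.fwd (nat_lit 2048) (Steps.fwd (nat_lit 4096) (Steps.bwd (nat_lit 1) (Steps.bwd (nat_lit 2) (Steps.bwd (nat_lit 1) Steps.nil))))))))) (nat_lit 8) (nat_lit 0),
  Rule.mk (nat_lit 2) (nat_lit 117) (Steps.bwd (nat_lit 1) (Steps.fwd (nat_lit 4096) (Steps.fwd (nat_lit 2048) (Steps.fwd (nat_lit 4096) (Steps.fwd (nat_lit 2048) (Steps.bwd (nat_lit 2) (Steps.fwd (nat_lit 2048) (Steps.bwd (nat_lit 2) (Steps.bwd (nat_lit 1) Steps.nil))))))))) (nat_lit 8) (nat_lit 0),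
  Rule.mk (nat_lit 4) (nat_lit 453) (Steps.bwd (nat_lit 1) (Steps.fwd (nat_lit 4096) (Steps.fwd (nat_lit 2048) (Steps.fwd (nat_lit 4096) (Steps.fwd (nat_lit 2048) (Steps.bwd (nat_lit 3) (Steps.bwd (nat_lit 2) (Steps.bwd (nat_lit 1) (Steps.bwd (nat_lit 2) (Steps.fwd (nat_lit 2048) (Steps.bwd (nat_lit 3) (Steps.bwd (nat_lit 2) (Steps.fwd (nat_lit 2048) (Steps.fwd (nat_lit 4096) (Steps.fwd (nat_lit 6144) (Steps.fwd (nat_lit 8192) (Steps.bwd (nat_lit 3) (Steps.bwd (nat_lit 2) (Steps.bwd (nat_lit 1) (Steps.fwd (nat_lit 4096) (Steps.fwd (nat_lit 2048) (Steps.fwd (nat_lit 6144) (Steps.fwd (nat_lit 4096) (Steps.bwd (nat_lit 1) (Steps.bwd (nat_lit 2) (Steps.bwd (nat_lit 3) (Steps.fwd (nat_lit 8192) (Steps.fwd (nat_lit 6144) (Steps.fwd (nat_lit 4096) (Steps.bwd (nat_lit 1) (Steps.bwd (nat_lit 2) (Steps.bwd (nat_lit 3) (Steps.fwd (nat_lit 2048) (Steps.fwd (nat_lit 4096) (Steps.bwd (nat_lit 1)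 (Steps.fwd (nat_lit 4096) (Steps.fwd (nat_lit 6144) Steps.nil))))))))))))))))))))))))))))))))))))) (nat_lit 22) (nat_lit 23),
  Rule.mk (nat_lit 4) (nat_lit 177) (Steps.bwd (nat_lit 3) (Steps.fwd (nat_lit 4096) (Steps.bwd (nat_lit 4) (Steps.bwd (nat_lit 3) (Steps.bwd (nat_lit 2) (Steps.bwd (nat_lit 4) (Steps.bwd (nat_lit 3) (Steps.bwd (nat_lit 2) (Steps.bwd (nat_lit 4) (Steps.fwd (nat_lit 6144) (Steps.bwd (nat_lit 2) (Steps.bwd (nat_lit 4) (Steps.bwd (nat_lit 3) (Steps.fwd (nat_lit 4096) Steps.nil)))))))))))))) (nat_lit 21) (nat_lit 1)]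
noncomputable def R_5 : List (Rule) := [Rule.mk (nat_lit 1) (nat_lit 117) (Steps.bwd (nat_lit 2) (Steps.bwd (nat_lit 1) (Steps.bwd (nat_lit 2) (Steps.bwd (nat_lit 1) (Steps.fwd (nat_lit 4096) (Steps.bwd (nat_lit 1) (Steps.fwd (nat_lit 4096) (Steps.bwd (nat_lit 1) (Steps.fwd (nat_lit 4096) Steps.nil))))))))) (nat_lit 8) (nat_lit 1),
  Rule.mk (nat_lit 2) (nat_lit 117) (Steps.bwd (nat_lit 1) (Steps.bwd (nat_lit 2) (Steps.fwd (nat_lit 2048) (Steps.fwd (nat_lit 4096) (Steps.bwd (nat_lit 1) (Steps.fwd (nat_lit 4096) (Steps.bwd (nat_lit 1) (Steps.bwd (nat_lit 2) (Steps.fwd (nat_lit 2048) Steps.nil))))))))) (nat_lit 8) (nat_lit 0),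
  Rule.mk (nat_lit 4) (nat_lit 45) (Steps.fwd (nat_lit 2048) (Steps.fwd (nat_lit 8192) (Steps.bwd (nat_lit 1) Steps.nil))) (nat_lit 16) (nat_lit 0),
  Rule.mk (nat_lit 2) (nat_lit 117) (Steps.bwd (nat_lit 1) (Steps.fwd (nat_lit 4096) (Steps.bwd (nat_lit 1) (Steps.fwd (nat_lit 4096) (Steps.bwd (nat_lit 1) (Steps.fwd (nat_lit 4096) (Steps.bwd (nat_lit 1) (Steps.bwd (nat_lit 2) (Steps.bwd (nat_lit 1) Steps.nil))))))))) (nat_lit 8) (nat_lit 0),
  Rule.mk (nat_lit 2) (nat_lit 117) (Steps.bwd (nat_lit 1) (Steps.fwd (nat_lit 4096) (Steps.fwd (nat_lit 2048) (Steps.fwd (nat_lit 4096) (Steps.fwd (nat_lit 2048) (Steps.bwd (nat_lit 2) (Steps.bwd (nat_lit 1) (Steps.bwd (nat_lit 2) (Steps.fwd (nat_lit 2048) Steps.nil))))))))) (nat_lit 8) (nat_lit 0),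
  Rule.mk (nat_lit 1) (nat_lit 117) (Steps.bwd (nat_lit 2) (Steps.fwd (nat_lit 2048) (Steps.bwd (nat_lit 2) (Steps.fwd (nat_lit 2048) (Steps.fwd (nat_lit 4096) (Steps.fwd (nat_lit 2048) (Steps.fwd (nat_lit 4096) (Steps.bwd (nat_lit 1) (Steps.fwd (nat_lit 4096) Steps.nil))))))))) (nat_lit 8) (nat_lit 1),
  Rule.mk (nat_lit 2) (nat_lit 117) (Steps.bwd (nat_lit 1) (Steps.bwd (nat_lit 2) (Steps.fwd (nat_lit 2048) (Steps.bwd (nat_lit 2) (Steps.fwd (nat_lit 2048) (Steps.bwd (nat_lit 2) (Steps.bwd (nat_lit 1) (Steps.fwd (nat_lit 4096) (Steps.bwd (nat_lit 1) Steps.nil))))))))) (nat_lit 8) (nat_lit 0),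
  Rule.mk (nat_lit 1) (nat_lit 117) (Steps.bwd (nat_lit 2) (Steps.bwd (nat_lit 1) (Steps.bwd (nat_lit 2) (Steps.bwd (nat_lit 1) (Steps.bwd (nat_lit 2) (Steps.bwd (nat_lit 1) (Steps.bwd (nat_lit 2) (Steps.bwd (nat_lit 1) (Steps.fwd (nat_lit 4096) Steps.nil))))))))) (nat_lit 8) (nat_lit 1),
  Rule.mk (nat_lit 3) (nat_lit 117) (Steps.bwd (nat_lit 4) (Steps.fwd (nat_lit 6144) (Steps.fwd (nat_lit 8192) (Steps.bwd (nat_lit 3) (Steps.fwd (nat_lit 8192) (Steps.bwd (nat_lit 3) (Steps.fwd (nat_lit 8192) (Steps.fwd (nat_lit 6144) (Steps.fwd (nat_lit 8192) Steps.nil))))))))) (nat_lit 12) (nat_lit 1),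
  Rule.mk (nat_lit 4) (nat_lit 117) (Steps.bwd (nat_lit 3) (Steps.bwd (nat_lit 4) (Steps.bwd (nat_lit 3) (Steps.fwd (nat_lit 8192) (Steps.bwd (nat_lit 3) (Steps.fwd (nat_lit 8192) (Steps.fwd (nat_lit 6144) (Steps.fwd (nat_lit 8192) (Steps.bwd (nat_lit 3) Steps.nil))))))))) (nat_lit 12) (nat_lit 0),
  Rule.mk (nat_lit 4) (nat_lit 117) (Steps.bwd (nat_lit 3) (Steps.fwd (nat_lit 8192) (Steps.fwd (nat_lit 6144) (Steps.bwd (nat_lit 4) (Steps.fwd (nat_lit 6144) (Steps.bwd (nat_lit 4) (Steps.fwd (nat_lit 6144) (Steps.fwd (nat_lit 8192) (Steps.bwd (nat_lit 3) Steps.nil))))))))) (nat_lit 12) (nat_lit 0),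
  Rule.mk (nat_lit 1) (nat_lit 45) (Steps.fwd (nat_lit 8192) (Steps.bwd (nat_lit 1) (Steps.bwd (nat_lit 4) Steps.nil))) (nat_lit 16) (nat_lit 1),
  Rule.mk (nat_lit 4) (nat_lit 117) (Steps.bwd (nat_lit 3) (Steps.fwd (nat_lit 8192) (Steps.fwd (nat_lit 6144) (Steps.bwd (nat_lit 4) (Steps.bwd (nat_lit 3) (Steps.bwd (nat_lit 4) (Steps.fwd (nat_lit 6144) (Steps.bwd (nat_lit 4) (Steps.fwd (nat_lit 6144) Steps.nil))))))))) (nat_lit 12) (nat_lit 0),
  Rule.mk (nat_lit 4) (nat_lit 117) (Steps.bwd (nat_lit 3) (Steps.fwd (nat_lit 8192) (Steps.fwd (nat_lit 6144) (Steps.fwd (nat_lit 8192) (Steps.bwd (nat_lit 3) (Steps.fwd (nat_lit 8192) (Steps.bwd (nat_lit 3) (Steps.bwd (nat_lit 4) (Steps.bwd (nat_lit 3) Steps.nil))))))))) (nat_lit 12) (nat_lit 0),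
  Rule.mk (nat_lit 4) (nat_lit 117) (Steps.bwd (nat_lit 3) (Steps.fwd (nat_lit 8192) (Steps.fwd (nat_lit 6144) (Steps.bwd (nat_lit 4) (Steps.bwd (nat_lit 3) (Steps.fwd (nat_lit 8192) (Steps.bwd (nat_lit 3) (Steps.fwd (nat_lit 8192) (Steps.bwd (nat_lit 3) Steps.nil))))))))) (nat_lit 12) (nat_lit 0),
  Rule.mk (nat_lit 1) (nat_lit 453) (Steps.bwd (nat_lit 2) (Steps.bwd (nat_lit 1) (Steps.bwd (nat_lit 3) (Steps.bwd (nat_lit 2) (Steps.bwd (nat_lit 1) (Steps.fwd (nat_lit 4096) (Steps.fwd (nat_lit 2048) (Steps.bwd (nat_lit 3) (Steps.bwd (nat_lit 2) (Steps.fwd (nat_lit 2048) (Steps.fwd (nat_lit 4096) (Steps.fwd (nat_lit 6144) (Steps.fwd (nat_lit 8192) (Steps.fwd (nat_lit 6144) (Steps.fwd (nat_lit 4096) (Steps.bwd (nat_lit 1) (Steps.fwd (nat_lit 4096) (Steps.fwd (nat_lit 2048) (Steps.fwd (nat_lit 6144) (Steps.fwd (nat_lit 4096) (Steps.bwd (nat_lit 1) (Steps.fwd (nat_lit 4096) (Steps.fwd (nat_lit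 6144) (Steps.fwd (nat_lit 8192) (Steps.bwd (nat_lit 3) (Steps.fwd (nat_lit 4096) (Steps.bwd (nat_lit 1) (Steps.bwd (nat_lit 2) (Steps.fwd (nat_lit 6144) (Steps.bwd (nat_lit 1) (Steps.bwd (nat_lit 2) (Steps.fwd (nat_lit 2048) (Steps.bwd (nat_lit 2) (Steps.fwd (nat_lit 6144) (Steps.bwd (nat_lit 4) (Steps.fwd (nat_lit 2048) (Steps.fwd (nat_lit 4096) Steps.nil))))))))))))))))))))))))))))))))))))) (nat_lit 22) (nat_lit 26),
  Rule.mk (nat_lit 4) (nat_lit 117) (Steps.bwd (nat_lit 3) (Steps.fwd (nat_lit 8192) (Steps.fwd (nat_lit 6144) (Steps.fwd (nat_lit 8192) (Steps.bwd (nat_lit 3) (Steps.fwd (nat_lit 8192) (Steps.bwd (nat_lit 3) (Steps.bwd (nat_lit 4) (Steps.fwd (nat_lit 6144) Steps.nil))))))))) (nat_lit 12) (nat_lit 0),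
  Rule.mk (nat_lit 2) (nat_lit 117) (Steps.bwd (nat_lit 1) (Steps.bwd (nat_lit 2) (Steps.fwd (nat_lit 2048) (Steps.bwd (nat_lit 2) (Steps.bwd (nat_lit 1) (Steps.bwd (nat_lit 2) (Steps.fwd (nat_lit 2048) (Steps.fwd (nat_lit 4096) (Steps.bwd (nat_lit 1) Steps.nil))))))))) (nat_lit 8) (nat_lit 0),
  Rule.mk (nat_lit 3) (nat_lit 453) (Steps.fwd (nat_lit 4096) (Steps.fwd (nat_lit 2048) (Steps.bwd (nat_lit 2) (Steps.fwd (nat_lit 6144) (Steps.fwd (nat_lit 8192) (Steps.bwd (nat_lit 3) (Steps.fwd (nat_lit 4096) (Steps.bwd (nat_lit 1) (Steps.fwd (nat_lit 4096) (Steps.fwd (nat_lit 2048) (Steps.bwd (nat_lit 3) (Steps.fwd (nat_lit 4096) (Steps.fwd (nat_lit 2048) (Steps.fwd (nat_lit 4096) (Steps.fwd (nat_lit 6144) (Steps.bwd (nat_lit 4) (Steps.bwd (nat_lit 3) (Steps.bwd (nat_lit 2) (Steps.fwd (nat_lit 2048) (Steps.bwd (nat_lit 2) (Steps.bwd (nat_lit 3) (Steps.bwd (nat_lit 1) (Steps.bwd (nat_lit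 2) (Steps.fwd (nat_lit 2048) (Steps.fwd (nat_lit 4096) (Steps.bwd (nat_lit 3) (Steps.bwd (nat_lit 4) (Steps.fwd (nat_lit 2048) (Steps.fwd (nat_lit 4096) (Steps.fwd (nat_lit 2048) (Steps.bwd (nat_lit 2) (Steps.bwd (nat_lit 1) (Steps.bwd (nat_lit 3) (Steps.fwd (nat_lit 4096) (Steps.bwd (nat_lit 1) (Steps.bwd (nat_lit 2) (Steps.bwd (nat_lit 1) Steps.nil))))))))))))))))))))))))))))))))))))) (nat_lit 22) (nat_lit 34),
  Rule.mk (nat_lit 2) (nat_lit 117) (Steps.bwd (nat_lit 1) (Steps.fwd (nat_lit 4096) (Steps.bwd (nat_lit 1) (Steps.bwd (nat_lit 2) (Steps.bwd (nat_lit 1) (Steps.bwd (nat_lit 2) (Steps.bwd (nat_lit 1) (Steps.bwd (nat_lit 2) (Steps.fwd (nat_lit 2048) Steps.nil))))))))) (nat_lit 8) (nat_lit 0),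
  Rule.mk (nat_lit 2) (nat_lit 453) (Steps.fwd (nat_lit 2048) (Steps.bwd (nat_lit 2) (Steps.bwd (nat_lit 3) (Steps.fwd (nat_lit 8192) (Steps.fwd (nat_lit 6144) (Steps.bwd (nat_lit 2) (Steps.fwd (nat_lit 2048) (Steps.fwd (nat_lit 4096) (Steps.fwd (nat_lit 2048) (Steps.fwd (nat_lit 6144) (Steps.fwd (nat_lit 4096) (Steps.bwd (nat_lit 1) (Steps.bwd (nat_lit 2) (Steps.bwd (nat_lit 3) (Steps.bwd (nat_lit 4) (Steps.fwd (nat_lit 6144) (Steps.bwd (nat_lit 2) (Steps.fwd (nat_lit 2048) (Steps.fwd (nat_lit 4096) (Steps.bwd (nat_lit 3) (Steps.bwd (nat_lit 1) (Steps.bwd (nat_lit 2) (Steps.bwd (nat_lit 1) (Steps.bwd (nat_lit 2) (Steps.bwd (nat_lit 3) (Steps.bwd (nat_lit 4) (Steps.bwd (nat_lit 1) (Steps.bwd (nat_lit 2) (Steps.bwd (nat_lit 1) (Steps.bwd (nat_lit 2) (Steps.fwd (nat_lit 2048) (Steps.fwd (nat_lit 6144) (Steps.bwd (nat_lit 2) (Steps.bwd (nat_lit 1) (Steps.fwd (nat_lit 4096) (Steps.bwd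 (nat_lit 1) (Steps.bwd (nat_lit 3) Steps.nil))))))))))))))))))))))))))))))))))))) (nat_lit 22) (nat_lit 35),
  Rule.mk (nat_lit 4) (nat_lit 453) (Steps.bwd (nat_lit 3) (Steps.bwd (nat_lit 2) (Steps.fwd (nat_lit 2048) (Steps.bwd (nat_lit 2) (Steps.bwd (nat_lit 3) (Steps.bwd (nat_lit 1) (Steps.fwd (nat_lit 4096) (Steps.fwd (nat_lit 2048) (Steps.fwd (nat_lit 4096) (Steps.fwd (nat_lit 6144) (Steps.bwd (nat_lit 4) (Steps.fwd (nat_lit 2048) (Steps.fwd (nat_lit 4096) (Steps.fwd (nat_lit 2048) (Steps.bwd (nat_lit 2) (Steps.fwd (nat_lit 2048) (Steps.fwd (nat_lit 6144) (Steps.fwd (nat_lit 4096) (Steps.bwd (nat_lit 1) (Steps.fwd (nat_lit 4096) (Steps.fwd (nat_lit 2048) (Steps.bwd (nat_lit 3) (Steps.bwd (nat_lit 2) (Steps.fwd (nat_lit 2048) (Steps.fwd (nat_lit 4096) (Steps.fwd (nat_lit 6144) (Steps.bwd (nat_lit 4) (Steps.bwd (nat_lit 3) (Steps.fwd (nat_lit 4096) (Steps.bwd (nat_lit 1) (Steps.bwd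 (nat_lit 2) (Steps.fwd (nat_lit 2048) (Steps.bwd (nat_lit 3) (Steps.fwd (nat_lit 4096) (Steps.fwd (nat_lit 2048) (Steps.fwd (nat_lit 4096) (Steps.bwd (nat_lit 3) Steps.nil))))))))))))))))))))))))))))))))))))) (nat_lit 22) (nat_lit 12)]
noncomputable def R : List (List (Rule)) := [R_0, R_1, R_2, R_3, R_4, R_5]
def LW : List Word := [[], [0], [2], [4], [6], [0], [1], [2], [3], [4], [5]]
def par : Par := ⟨11, 4, 15, 26, 2047, 32767, 67108863⟩
theorem hpar : par.ok := by decide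
theorem hR0_0 : lall (R) (fun l => lall l (ruleOK RJ LW par)) = true := by decide +kernel
theorem hR0 : lall (R) (fun l => lall l (ruleOK RJ LW par)) = true := hR0_0
theorem hR : RulesOK RJ LW par R := rulesOK_of rfl hR0
def cols : List (ℕ × ℕ) := [(2048, 1), (4096, 2), (6144, 3), (8192, 4)]
theorem hcols : lall cols (colOK RJ LW par) = true := by decide +kernel
noncomputable def JS0 : List ℕ := [nat_lit 0x5bd00b5bd082dfae0ade82d6f97297397256f426b80b84b7c145bf0085be082e0ae22df82d70172173171d6fc26b82b86b800b5c05c70105c75c0092e02e2ae70080088082e72e2ae004570000d6fc20b7eb88b9aba0022ba0b9ab88b7e0f5bf0025bf06ae02e22df8397040257001ab82b84b86010012010b86b84b820c5c30005c001ae18002e000570d71570016b80b82b84b8c010b8cb84b82b80085c20055c10005bf052e02e22e32e3ae40058052e40042e3ae28022e02df82570171171971c02571d71971170010b7e006b7e035c05c15bf03adf8012df8197017056fc0ab7e002b7e015bf5c00015c05bf022df800adf80d6fc0096fc04b7c004b7c01,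
  nat_lit 0x15b75b6028078012dc2dbadb07170d7657980ad7917556f40016d836002b6eb6c0e5c95dc0285e15d25b95b85b75b60d2dd009adc0002db0296dd74007d78009d7a40c80c57a17817440496dd6d832b7001eb6e035b95ba5b805add0082dc8416e40416e40cb74020b72035bb5bf5ba072dd0080088082dd0616ed6f16e81cb7c022b76015bc5cc5bb0b2de0082dd8096f570d6f01cb7cba0bb403c04203abb2b9eb7a175bd00f5bc06adf2dfade8396f57380497396f408b8001ab7a015be5c95bd0b2df0062de8096fd7016f81cb7cb9801eb98b7c045bf00a5be00adf0052df0096fd7056f828b7cb9802002802e028020b98b7c15,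
  nat_lit 0x5b35e25f803b03c03b5f85e25b30bad9813ad90356c97857dc1101141117dd7856c82eb6802eb640d5b35e05f45dd5b2122da2daad982d6d40956d020b6804ab68065b55b75b405adbadeada8516d808d6d420b6eb72b6c0b5b95bc5b70a2dc0122db8416e57897c176d6e026b74046b70035b95e10325df5b8092dd2ddadc82d6ec0896e820b74044b74065e102e02f5ea5d60030020015ba11ae3add2dc8896e97156e40cb74b86b721001600b5b90f2e2aedaf58182f72f0ae5800adc8856f96e56e04001e00cb701f5b95ba5b803adb800adb8180440096dc3cb6e002b9abc0058bc0b9a002b6e1d,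
  nat_lit 0x5df60804e05004f6065da5a95a8148008002d38416a008d69c1ab50bbac0c0ba0bcc32c08bb0b4e285a95aa5a8072d5812ad48056a96e56a40ab56b5eb540e5ac5d65ab0b2d60122d58096b80916ac02b58bb0b56165ac0235ab012d6805ad60357798101201281258017596b96b452002000b58105ad01c5ac06ad6aee30102982a3082ff2ea2d60a16b80857f17416b44eb5cbb6b5a0e5b00225ae06ad78112f9ae42d709d6c40956bc1ab6004cbdeb84b5e275b50205b00680b8002d807d6c80016c04cb62ba0072bf0c1209c09ec18bfebfabccb6e006b60255b15e25f65cf5b0122d92d9ad88396d00a56c802b66b6eb6405,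
  nat_lit 0x5ac03d5a901ad48012d484179c0016a00cbcebd0076b52b50245a70005a706ad3af6b0e03a03a83a30e2f6ad38316a17b58697a569c26b4e070b4e035e65e86185eb0385a70010005a75ec0606185e703417ad32f5b0d31803eb1fb23327b29329b2a04b04b84c04b84b04c04b84c04b84b32a329b29327b2331f83eb1830d2f5ad30008000008000008b96957a817d7a969424b4806cb480300a0090080070060050040015a416ad2ad22d188969800568c0cb46000bb2092c1ec460ca0ccc48c4ac1ebbc0500002c02702b02a5db5e10330325a35a215ad20132d18416900a568c28b4804eb46075a45d75a30a2d22ee2d181d6940b568c0cb48056b46105a55a65a4072d3815ad280400169977d83184418c19019418d83414577d73169454b4ab96b48055a65a75a5072d40152d300569d7156980ab50b68b4e0e,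
  nat_lit 0x5a70495a601ad42d52d382d6a96ad6a028b52092b50105aa0496265f65a919ad5afb2d482d6a97d986d79d6a426b56bec0c8bd6b54125ab0485aa01ad52fa834afaad50496b96c16a828b56bc8b54075ab0455aa032d5822ad50416b56c16ac16b58be60ccbe4b56125ad5d45ac03ad7021ad60196b41056b020b5a00c00a00600800600a00cb5a325ad5b05ac05ad6020020ae50122e50208202d60c56ad7bc1997bd6ac24b58b90b56075aa0215aa032d601ead50196ac0ed6a820b5ab64b56145ac0405ab082d50052d50196ad7c98881a81ac1a98897c96ac18b54bde010bdeb5430,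
  nat_lit 0x20005a31c8010002d18e16d974d68c16b48b800cab86b46240115b35a306adeb0704184231baff001000ad18dd6c168d68840b46b5cb441005400b5a20f2d8302b1c041841306add800ad10d96a56896844002600cb421f5a25a45a10a2d12d22d081d7380096840cb700b8b6c000b420a0015a25a1028260012d1ad12d08716cd8158d827d8c17f96a000168436002b44b420e5f16290996326005af5a35a25a10d2d28282d18002d08296897e58258b026d9642b02b59698c57fc1496b56846ab4609ab44035a40015a301ad42dc2d20517dc14014413c1381357b169569068002000b460d5a40425a3082d22fab13039038838310af52d184569412569006b4c096b4a03,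
  nat_lit 0x59b61059a07309b2385c33c338321aff2ce2cd8ec00400166820b3609cb340e59b6116490c20c066c63e5fa59a142ce036acd8356741b96701ac26c9ccd8ce0cdcc80bfcb3cb3a3a00100059c082ce8282ce0396758459343002d59a98ed7e967050b3cb40b3a0b5a05ac59e0a2cf8352cf04167d84192825c26025d92984167c18b3e0d2b3c0359e6106490bb0bc0bb64961059e062ce834834034ace84967968167416b40b46b3c1459f06759e082d02e52cf82d6841a591983168066b44c22b400b5a16116406055a009ad0b08846b08ad084968c1a168006b42b8ab400b5a160f08c60b5a0092d12d22d082d69174568828b460c8b4410,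
  nat_lit 0x599068599012cd003acc83566c1a16681ab38c2acbcd181c41a2cbac28b364559b06859a06ace0002cd83584c1ac1a81a411c11811567567088014000b36035a25e559b0b030031831030aee2edaed000acd90d67966d66840068008b341f000053002212fd325b3e07333d3242fc800acc86c00c00966966566082bae000b30260320335e863f0a10a260a599598202cd02eacc0096658242842898c80f977d7796607eb340b8b320d59a05e59a06acd830acd03567168566c1cb3a0c8b380d0000010001f2ce8343202f82ce09d6718418441941901958458416707ab360cab360d59c60a59b0b2ce0342cd80966d8402898441a984428984166c78b340ceb3401,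
  nat_lit 0x5900676615f058f13ac8ae12c80396481a96441ab280cab240d5936156685fb592122caacb2c98396518558617b964c08b2c0e0b280159559d59402aca80980a00a80b00a80a009aca9256596b16501cb2809e0a009c09a09c0a009eb284859406c0705ef59323ac9b0803c83d03d83d03cb082c991965415964c1ab28c26caebccb262459605a59406acab09b30305aca09165965d6541cb300dab2c015975c159602aca8112ca80565d6696581cb300d6b2e0d5996125980b2cc8352cc00966c1a966002b32bcab3016599069598012cd3002cc8596681a166404b340d0b3201,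
  nat_lit 0x58258758102ac1acc2c10396101a960c1ab0ac14cf2c0cb082458406958406ac2ac32c203961c1ad61402b0cb50b0a0558758e586072c40352c38356256bd6200ab140d2b10015895b658802ac53022c485962819d62404b180ceb120158a5fa5890b2c50332c480962819962804b1a0ccb120158a5ab58902ac400aac400562419162002b120c8b100258a58b589072c6031ac500562d6716280ab18b70b160e58d06258c06ac7016ac683563d8196381cb220ceb1e0d,
  nat_lit 0x57b61868d11c0e711c68d61857b042bd03d83e03dabd0c15f55f95e828af6b26af41457b07b57a082be03d87430b2bd9295f58595ec16af8c2c192c0caf61258000457c01abeb0ab382fc2be04d5f41e55f006afac2a1ccc28af81258158357d0a309b44b5f891b56b2faf12bf2be9300040015f01aafa08eaf80757d6116876ba6b96a965b5de57c1d2bf8012be80d5f984038583d5f424b04b12afc1460e68410a1096ba6735ff57f57e258008002be8355f81815f420afcc18d04d7e260d70ce2bfaafa0f57f06e0d360257e252c0305abf02d5fd82c2f97d95f824b00c16ccabe6afe1358106d57f01ac030506c3032bf8496056096001cb060d6b0201,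
  nat_lit 0x6d0005821c0368002c100d74800160870000b06b04030470015f56500d76575fb0665fb65767c6c36fa14970316f70514b6ff6ce68d6795fc0685fc0d467d6ce6ff14b14a6d16826620bb5e75822aae7000950110000a6be40000845264c6760d20d05f80610005f660e0d00d40d364c5f15ca288300312ea2bf0002bf2ea0310301400000080009eafac46d2ad32db4e122a8e342e0e5ae2edd026826ad481fc1fe1fc1fed48dd2e30e5ce782fce72e50e04da6d101b81b6ce4bea0c0ba4af84e57b04857b01abd8432bd8415f00095ec06af6c401d0c40af61257f5a857b0a30f348884883b55b1d2da2be2bd92c0040015e81aaf605caf41057b61c68f6d21306a96385b257a07abe2bf2bd82d5f96095f028af8c3410810a10e10a108c34af81557c07d57b082bdb0cb46876076876346b0cabd8455f16655ec16af6c301c2c30af61257d59857b05abe30b86eb0aabd8495f18643703743783743718655f09aaf80f8af603,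
  nat_lit 0x735a702a00058a312d3aecac505163162d628c2c201d0c1e000b145c07c0125f20ce0cf66b5e700158a302c62c52c488817c0096243c000b180fa4258a5895882faf2333899336af70072c98002c417803c064184001620ba0340f4b1014589058588082c5801ac40516b80016202006a000b10260350015880faecb2f2ef800ac41700d162161c1cbba18017ebb80a8004c5a124d4cc9615eb60066b0e5b5f66316330970990935fd0045872d0022c3ac30397600017ed8b18a88e0020000aa590555e065f1271511506cf12665d60a5dc00b0015842c033ac22c18896317c43159b03943519cd7e160cae0c4000b0601585584583100002c380093c00d8102d97ec01c134010001608acb0cbd8cc8bdab0412,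
  nat_lit 0x58f08858c082c6018ac58516316e162c0eb1abbeb161458c6696d971f1836fe68f60d58b0784c8002c60e026400163006c0a000b183800800158c01806802ac61a164564162c4410e000b161e08a00500358c58b022c62c6ac580d7241a019000162c60bc40da0d80d6b38b36006000b166758d58c58b0283a80bacf8012c5999835a28531a0d80c06005400562ccab2cb16b142201200a58a032c5ac6ac501d62d63562828bb4004b141001300058a01009009acf00aae3b3136b8990668672f20318002c51901880016284c0c0000b141005e00058a06ac70002c507d63162d628be10a10c04acea1f8cf8bfe000b1463,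
  nat_lit 0x58765e06865e587182c386dac300d62037161c06b1ab1eb100b5890aa58805ac4aeb0290542c404d62413562006b12ce6cfac86b101258b5975890a2c506bac484163400d62806b1609eb140358b6706b964158a09ac7ac82c58519b9b9c5dc5d9c79acd8e963162c96002000b140d58b0ab58a082c5b36372b970ccb8e358b1c2c503d6319b04e59ad62c24b1a19eb160358c66b13566758b092c92f82c6051865a6c3fc400405a51839635630d4002000b160d58c08858b03ac630a84984a04a84b84b3052c59a56300ed62c28b18192b161058e00158c01ac6b3788831bac60499b9b7857c579c0da5184963963496008000b180d,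
  nat_lit 0x5870f1586082c33438afb5a08b35a0afb43ac305561c00561806b16b20b0e146880f30f40f50f70f6662588587370008002c303561c35161820b0ed0ce062b82ba2bcdb2cc0b0c6d58962458705ac4342b7fb3fac384d62988562016b12d082acd04b10126841551566fc67d00300200158911aca2c4ac40896256496200cb12b20b10100e200a5880f2cab4237f8cf380b43acc000ac408562d62161c4001c00ab0e1f58700367610410610467600358736001ac3ac3015614001614020001ba0003e0db0025865855840e2c8b4037d0cab7ab3cac60002c206c0056156101cce0ddc322de4cecb0eb0cb0ab081a5890dc586000584052c2b3a0a33788c8ba08da8da0c8378b3a86dac2ac21ad61837161406b0e1b4b0c03,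
  nat_lit 0x5a60013ab14000ad19d02ac001690e6d4821e220222068b72b6e002b04000b2cd242cce222e0372ebcddecda11ec2ec7ed94e74f00f34f38378ecaeccf2a3c2f06e80d9ac5815cc4c725950fe0ff680003584583582581388168002c09a170c45d70800160414002b04b02050f10025835825810e2dfb573940deb89b4a2c50002c086c0056096041ccf4de8370e48d52b72b06b04b021a5870fb583000581052c1347b4c3878dcbb28ef0efbb7b91b540872dbac08d560d7e560816b06d120debf2b044a5830f658201ac30472c180d61014960c06b08d1cdeacf6b061258658e58405ac2b47b7b3402c204c3c43c1a081c17e97e41ad619614e0008000b080d5885f458403ae80002c200c39c001610020ceb0ab080b58568915b67e5f75f60685f158437ac3079ac20196143c561020b10b22b0c14,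
  nat_lit 0x2902f5901c2ca003b5138e8be8be3692f12c82056b016d63c021da000b1e1f0ed00058f068008892c781c39400500cc4000756990000015c70e70e33f8008108879f800800562c04b42b16b141658b58c58d58e02102202301f58a3e81d0002c507c0e80016281ab6c000b141f00058b58a0681680685eb1c8a1b6f8d38d437ab3504530aacfac51f16256782299a05059a0229679624f6046052054b4a008006004002b127a0045895880b2c4ac62c40516256316200eb12b18b101401b0045880facb35188b88b2d0801ac52c4ac41e572848573000161cf006a000b0e025bd0085895885870980b8032c3835698008ee04000476,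
  nat_lit 0x59961b59605acbaf62cb02d65db1c66db156582401401201000e00a006b32b30b2e8b6c00005961c0210002cb00d70965d65844b2eb80b2c0659603d07906c06d06c07903d596452cb2deaca8416540e97c17c81b17c97c00e965512b2ab74b2806595037594082caae62ca0516544d16502000c010bd00d80de056b5e002b2a88598595594438120012ca1a165442d65020b2ab2cb28065ab02705d5ea5e4004002000594432cb348389b452ca04d65800165002b2ccacb28030560005943402b367012329aca2157b5b70678681d05b056e165965108b26b28002b28b26305ae00359201800818adab5f35e894063b5e094093b5dadaac9ac920c04971c12812402c0316b40056450405eb22b205f,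
  nat_lit 0x700005990fafb0b60b6b69881079b16800acc8c567166d66966566122142000b300d6296d475321c7596dc0c7002598482d28002cb8e568d68167d67967567166c00965d1eca0000b2c0d6506530c86c41571565ee001596472cbacb2ca88019c00165420bd4c8cc8ec90c92c94c9c000b2a8d0c1000595130870002ca87c4380016541ad06000b2a1f00100059506acb2cbaca841a004284242ec2e991591000965518b28000b28065940016ad12e12f12e6ad00159436000aca2c98144a400965565164c38166d8ae86414e84d88c2a000b264300159459307354b980ff39fb60acb2caaca2c98698484d965400164c14b28d7e338e7c40cf5e456454f5ce7cd8026ab28b26195955f059405acc30eaca82d6596d965416b2cd92e7ed86b2a13,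
  nat_lit 0x5a50005960fad18002cb09801c1b42701f1aa06c9b5965d6592ab2e2acb2c025985e259705accb2facc02d671aa166416b34cb8b320b59a6de1c36dc599092f80002cd0197c18199f0001668b8cf4000b341e6786770ec59b59a4a2ceb43acd02d66d83966816b36db41ec1e4b349359e65f59b05ace0622cd80d671b7c701b7566c24dcc370372eaad9a006004002b38235ba59c59b112ce2dc2cd8196716d966c2028e042b361e59b14b59b082cd8a4acd05166db1d66820b56034b34140a600059a0f8548002cd0358c4579a1da19a15a117d800566924b36b34b3220,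
  nat_lit 0x59515a595012cb36cbb83682ca89165456d6541ab2c254b2a0d5975a3596072cc36d3bb3f6124923bbab6cacb91565c5756581ab32028b2e0d5986dc6e264a59702304b05305b8c8f9b9682d2ccacc26800c00165c20b34bdeb2e0e0010005970f2ccb70b72b642cb81166058858c1e1c4c62862c15965d32b32d9cb3016599167598012d48b3acc0044f44fc22c67d8f81f005800566130b4ab30b2e205af00d5970800c0002cb87c06000965c4ccd4000b2e10150002597132d88b588b88c3650e4b66800acba5d66965d6584029c004b2c1f14b0005960f8a68002cb035b2470db0c4444384356a40016592cb4e000b2c26,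
  nat_lit 0x15975960705138790238d89c361360acbacb28565db545284d565926b30b34b2e0759859a5970a3498012cb84016400165cd0c9a002b32b30b2e121090035971336cb6d0aa0a9b6c3a1bddbde3b98ec34a0840012cba80021675670019a58765a500056593eb36b2cb2a201060045950facb2cbaca851a0c00565420d0c004b2eb2cb2a13103000595130813470e7bb4bb98ecb9d36a3698a63673668002caa79b3000565404b2c29aea0f9f04052b0304df02e5270910e911259d11a5b31245a45a31005850b50564fb0545310a0538536535097040f9eea029ab2cb2a9d14773820c7b322974f14c5955944e2cb80e2ca8356585645757256548e00000200042596597595072cab6bb6d3bc0f10f18f20f28f18f13bc36d0af0ae02c2f702db4e8890ce8ce0cd3670a83670cd0ce0ce88934e82daf702c0ae0af36bacaa6d651b58571b5965008b2c2b2b280159559a59402acb2d32ca8596596996540ab2c2b4b2a01,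
  nat_lit 0x5990635980b0008002cc0157e5911cf06f06f424d89188d889885880229c546d1ccdf060dcb061d4ba0b74b72250b78bb8bb229a1ecb16101f45d3d831668008005661521eab30b2e87599138597012cc362906b8eb7a8b68e1b04acb8696644e9b15b0966048b34274b300d59913a13b6035982389dbb2bf0125926bb731d2cd2ccaa000400166020b32144b300e5991397647de7e823d76963659853b690a537439e9123b109cacd2cca9800400166020b32d88b300e5996d01486e47391b51b613759852acc0a209bb61acb91c50850c510680689c702c000566148b48b30b2e2263e00c597030ac0c60c70c6ae9001801000acba8c02565d6582cb2eb3cb2c0659759c5960801a8022cb0782080016583e106000b2c0d08100059608000acbacb039729c60805c0854166c00565d65944c28c68002b2eb2c4a,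
  nat_lit 0x597000595032cb84abaeb0daca89d8d18d42718e42899258c1659654ae002000b2810595091594072ca89e8a08a009f89f05a3162ca2ad65811d6541ab32b34b2c0e59703159606acbb65b68324acb0116704fd65c02bae000b2e100420015971300009eacc089b1dc41c44639c4c7bdb2165d65810b2e278b2c0259903459706acc09d89fb22acb91d6641916601ab34b36b32036091441450005993c368bd590890d90a3d2b5eacd2cc8a400400166020b32262b300d5996cf7a927527681c7a36bb598142d2800acc83569966d6641cd9a28628e28c28a288c20b34b32aa00800059801acf8392cc0041c80016603e0e4b3ab305f,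
  nat_lit 0x59a010597032cd0002cb84166800165c1ab34018b2e076930005970f08307dad08002cb9716803ec499aa5ed88a9f00a60a260aa09deb1cdc6cc6f5e388a1ef4a5e0849f09e5e95d006cc68c679c9dae84d5aeded9aa44983ed68165d66100000b2e396181df1e21e11e06f95c3598597590008002cb03565c09d6580eb2ec26c4ec50c4cc48c46b7eb2cb159759959603067000acb07d6640016581ab30002000b2e1e2d0c1f4d803beeb6eaa118c1eb2cb0598681596072cbb693cab302cb09004800165c3cb4edb0b78b72b2e2402b02c1241681675ca00900159757ad02cbacb21d67567965804044000b2c3802f0005961cae437a8e68e60e5ba1b00000acb2b965d659654be0ce000b2a015fc71a71b71c71d6f15c3000595568140002ca80c06800165402b66038048b76044108b2eb2cb2aac,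
  nat_lit 0x59a16a5990104a0002cd0e58a9da485c858855ded8e40056695cb36b34b325f09f00059900b1a85485505585e856b128002ccaf004400166406b4e2b4b320159a01159903acd007acc8516680316640eb40b42b32066b112d1715bc5ae5ad5ac0015995dacd2ccacc21c048001660d0b58b5ab5cb6e22427a248002b30ba5995985970a090b6532b8012cbae594594994d9502e82f02ec00565d70b30b2eb2c870a00005960131bb1c052320320b2131b0002cb2dd8d185000565d6596cb30b2eb2c0e6120991d71db1da6951001561555990010005975965aacb8a93e9b682cb09d65db6d6581cb30b32b2e075f400159703000acc2cb8141703819d8865e8c429a5c43401800d66c00400165d68b3001cb2e10,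
  nat_lit 0x59910a598068980002cc9a04c04c455166966522b342a8b320d6fe80086886e86b7f017559b59a378008002cc841669be16641cb34df8ffe5ae5910cefd82e6b32c05991741736f7598022ce2dbacc8396681096641ab34dfae00d4ab320459d00b59a06acd801acd03566c5d05e1aa56688eb9e07207807ad422ecd50002b36bf59f59b59a10087801acd07d7d80016681a218000b341f10d00059a06b51922b4e01cae80588592cdacd13566d9256680ab462e4b340116a16c6f05a85a700a5a300159a5f2cfacd2cc8800180116643e196000b321f0cb000599130640002cc8418b40016644c12c12a030b5edd44acde8b34b32bd,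
  nat_lit 0x5a16c259b05ad0ad209711a11b3d7b37000acdb2567566d668441ae002b341e00159b59a073363d61583d9894acfacf2cdacd32166daf567800566814b38002b361659c1262347b12ae84b31431384c7b11256bb59c59b63ace35dacd82d9a000567004b36002b36010df6796cf59c59b632cd0002cd00d6684ddbec534530535bec4dd6698ab34d9ab320e5996cd1761b01af1b01766cd599622cc09a89b09aacc0616604e04dc4e166008b30270b2e0d0080005981c2d10a02cc00d66800166020b34b36b300e6cc0005980309b8ad8190012cc30c0b40b80bc0c17417380c800566184b34b30b2e225c900159703000acc2cb8397200c40d17380e00e80ed66165d82b3027031cba4b2e4a,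
  nat_lit 0x59e6cc7826c059d0235ec01098acfacf049681b356781cb3e262c6c11cb3c6259f6cf8042ea2ec2ea8046cf59f0bacf0992cf0356844cd6781ab3eb76b3c0e59f1326dd5bd59e138002d02d08f96780000199202c1df9e047d5b059582bc01568c0019eb44000b3a265a000059d0f800b10310846312b130020002ceb396856896741a10e000b3a1e64364464200059d310468002ce81988823423c001674c4250eb03aa3a81b41b212eb3cb3acd00700059c00ad0b16ace02d8add7876075833833433000567198b3ab38b362266200059b033323328673b21543af316800acdb2c00566d6680a126c52c50b36b342759b1207542a47630d366808f59a652ce8002cd809675b0db096e966c66008000b3638,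
  nat_lit 0x15a25a102871071b3b2d12d08716884d600cb8894ca95bac371685b2000c660043e09a09b09e0a10ab0ac0a90015a16c2d12d0ad01858f98fdae0001681aa268ffa50c33c560e1a1e8002b40d75a15a059f113448002cf8183c9c2466a014be9ff84c800567dacb40b3eb3c056c76c86c900259e6ab5e40517d40811689f099000acf35167d67967444d8e002b3a0659d0006c713113972a72b1a11a019f1396d41300006989789c91540517bc04364aceace3480004c96a044180000b380d0be00059c0831a8002ce0998cc0016703eb54000b382600a0095a75a100359f59e59d59c68ae98002ce00974c5d00f400167126074b3ab380559d0046c22848082ef2f080970f70e17203b03959c682ce801ace0096802fd6741ab3c0b6b3a0d,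
  nat_lit 0xa0005a406804003ad20419780016900cd10462d1c000b48620f30035a4033340002d20099a19a56a000169014002b4ab480568821f6745a55a4122d2b33067b4c11cbe3c5248a4ad4ba1f24be9e21e29e34bfcbe4aa1d3caa9e4cc24d51fd9fe4dc4d61e54abc8744a97cbdb9153d4339ad237d69434169006b4ada452cd9cb481269e0005a50108309d8010002d2ae569c00169404b4e1f2eccc14b4a330005a86d10f0008002d20e1695a4169016b48d20334332bf00be0bcbee330332d221eeb48000de5a46ce18e68f5a3098a090f912912110b7b8742d2ad237402c00168c02b58cfeb460b0910005a33404884d8020002d1a1569569168cc20cadc01cc000b46dc0e67617627631db6ec1380015a36dad22d1ad1089b380016880c26cdd4f9a486584f54cf8002b44da,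
  nat_lit 0x85b05aa0680532285b85f05a85a057000ad53a16ad6a96a50e156000b52680e26fb2252267a66450080015a973ad52d4ad43856b96c56c80016a126018b7ab7cb8ab82b80b7e002b50e65a95a85a74380c070070871071b1d85084fb1cb2b05cb298002d3b942e400169c3cde056ede2012b4e6209f0005a71c0500022d380c00169c0098e58f028429c2a02c42a82a4850861e7e1e63ca48657cf725c4f0cf124b0e00dfe2ce0ddf4da759c99c59c02818f18e400969dc800e010c7ac7cc7ec78c70002b4ce35a75a65a52f84d8002d28e18d86b86bc6b5a5801d6b0001695c400a000b4a3900b5a65a5110a7addad2b856c96d56940eb4cb4eb4a050990015a51c2d5802ad4ad32d28903d800d69472d00d90d94d8cd88d82d18002b4ae05a65a55a42f8790002d20e1a2dee88cc8d08d5ecd9f9695690d4b4cb5cb4806,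
  nat_lit 0x5af0015af032da0012d78196bc005c385f85fc5f9c380056bcd8002b5eb5c051770a063a5af5ae0e2d7b884289a8c2a0e431e04f2d73bd6bc5d45d1c1c5c1c1c5d05d56bd12b5ee12b5c075ae70e2cc7061707062cc70e5ae08ad70bbad68196b45dd6b420b5cd40b5a0b5ae6a56a61095ad49ad70872d680d6bd9c19c59516b824b5e1aab5c0360b6c66c712c6c31060340015af772d82d7ad717d75c0016b802064208d9a33833c33ac16002b5ced0095b25b15ae5ad138350022d680c01597598598197d9798180096b5d8b5cb5ab585f6040c27287ea25e26111c11d02b5cf0065ae5ad5ac758328002d58e180c63063462dbc43180080016add4b5ab5cb560b0bd0005ab3432f32f8062d6ad58496f40a00ac0b16f16d16cd6b16add2b8e000b541f,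
  nat_lit 0xb66550b464b0a86486490005b52b324b253282db2da8496d85216d41acb2000b6c020be7295ba0005b67c000adbadb0158f87498f56dd6d848b6ee4c326328038b9201eb90036b9ae5d0df21930138f3047b130930721e6e26e121c7731c2fc046f0c72112f67e67e324d142ed8c78b6cf75b509b5b501ada8c6ada80d6e16d96d40acc0402df2008b6a620046056066076080d364d64c5b57b0030042e0857ada215c906746718281918245700056d1ea016b68b661615b5bb5b37082d0b00ad8002d9b7056c57857001d6dd6d80080056cde8b6cb66b64225b35b45b2030002dc0013cc01d6f16e80016e40300180056c5e4b72b76b78158c94ed8edaedc386ebc61060f10ee8a358294dc629828828702302902b13323723317051ede0004b64b6200000a016014b70f10031855b40005b05c800ad8ad8015bb6061bad6c56c04eb62e3032231c0a8bf4bf629cb60f07188592f985b1d063f63e5b25b1640038002d80056d42816c006b62b64b6007,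
  nat_lit 0x4b0005b7130258002db87d6e40016dc4cb70bf037eeac63c640eb20e2c2c0c6c160bc0bab6f005b81907545f75b713adc393adb839ca066085c860859be403c0056e1fe016b70b6e075c55c15b730adc2dcadb839708665bf40096dcc4b7c012de6260d90d94d96db2db4376378ea84fc4ff0110064f70051b87652af38487f3a93167bf2b51c45de34c33ee6ae68e62df8002b6efe5bb5b75b611037801adb0180fc0016d84c07e000b6c1f5b85b75b62fb07835036b0983730fba6189188ba50d92f6adbadb3f56e0619d217b16d84eb6ee38e40e3ee3ce3add6002b6cfc5b818e5b7068a90002dc0e05496e96e040b82e5632e526528524dd2b72b70fb0020005b7068000a6adb81c0016e16f5ba1ba454855053db8df4000008174dc4b6c915b95ba5b603327b28328b2905b05e32b000adb3e56dd6d96d50eca6000b6a68,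
  nat_lit 0x11511724f7e935d79c7380015bc838062de2dd8886757156edc2cb0cb2cb416ed6ed7023e002b77065bc5bb5ba30b5c40988f0002dd35447848447d6fd6f96f40080056e9b4b7ab74b72225ba5bb5b90300009f00093db61b98a88aca0b1b9db5c0016e20a21cd48b76000b70780010005b8342dd0c9c083592dc1296e5cade3490c911f5c4284216e12001a0b60b80bab9800eb76b74b73045c20005b8132e00002dc07d6f96f56e0beb74b72b70610196086ae1326d96d86d714077877977c1e68b294a9aa9ee461a1b4714609ec43d9a29298482bc8473677c122a2291aa73a1a25c90005b8818078002dc0040340016e006016000b70015c15c05bf5be5bd5bb5ba5b95b881356b5c8310002dbb5416c0016dc0cc100b8cc2000b6e186b80015b703000adc2db8144747a5e10d0e31e52a30a301df9c685557e80016de02096000b6e1f,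
  nat_lit 0x5c25c15c030b02827b2f8002e01882e42f02f99b48018e40fd70570220010000b7e015c65f45bf018022e2af9afa0192f581a04831f049b4bb778ab3de47fcc29f91f8cc922d51d531a49248a4850e4e9cad43d976976439ba20d58a6000adfc3d7016fd6f8be29435235008abf6086bf0000b7d0e03f6066075bf5be0e2e0026adf00c0040016f8d0b80e603c2c1ab7c125bf1996610bc66272462e0345be4f8b68002df9a05b5cc170c0016fdf0002b80b7e055f003a5f95c05bf23ae00cb0cb8cab00023afeafe2dfc356fc1096f806bb0040074c5226a26e26c002b7f0c5c05bf5be30b670bb0ba8002df3545cc2ac2258c98c408c06d6fd6fa16002000b7a015be5d15bd01adf0cc054842b1683e81080badec28361e8cb75e985000840540056fa12b7eb7cb7a220120005bd0f2eb81009f3d21b1bd0b3e800adec216f96f56f0c21ba1b8cf2000b78d5,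
  nat_lit 0x71a8743d68712ad1a31a00015ca8c8072e52e4889cd975572428008010e5e332e68e8901d0d30d05c12d27a92dd3d546e95b4934268dd3388013373ec7c52ff29c6ab1b11166046065feeae35e224002b93185ca5c95c82f8880d68de8dd3a3b2a02d0002e445d84579008c0017203003a002b90065ca5c95c830aed80eb818002e40605a2030c160207bc64464000572212b92b90b8e227260005c7033938c80f6c041d74060b3000ae3c5800571d7180adfee002ccb8eb8c245c719119429c85f37e8627015c68ab3633733802fb0b03002a801ae3c5172171d718c2ba4000b8a015d201401600e5cd0085c90025c5710280f0b040002e219813813413181197597998000571226b8ab88b86220b80005c30f0a98aa0a901fafb2faafa000ae1c3971170d708c2be2070c12000b84dc0526417010ad6540a86500015c2892e1ae12e08899340017043c144c9e150156408c7e0a0002b8311,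
  nat_lit 0x60e0005d0008270002e80e42180017407010c004ba0397152ed2ee2ec2227b76480015d090ae8ae82e797c23400173c02c88f6643d0244f5030e22000b9f206f10005cf1cb778002e78e195c00173c72140000b9e380a40025cf1c83283431790410a10287f000ae7c7d74173d738bed44000b9c010fc79b7a679d62d06461c5cf5ce8f2e78312e701973c1ed73820b9ecd2b9c145cf1745ce080042eb00c2ef009006aeb801ae7c74489af9af4005738c4b9eb9cb9a0e11e1b91cb1c81bc6600665cf5cd6eaea0012e600573c01976c04175d75575000573238e340c4c34b98b971b00961a5cb100afb7d417c181babf10c0000ae5c6973172d728c2e30e32300000b945c,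
  nat_lit 0x5d41915d40333c0002ea8059e000175406cf0000baa010c100c5d51c806806004aed2ecaec2ebaeb2eac9d8e0001750700f6000ba8396d30005d400b698002ea00db4c0017500225e004ba83915a0005d41c0ad0012ea0e464a162540f40f4609dbe40057524cbaaba8ba65f1550005d300b79c11cab21cca742b0c82ea2e9c95751ca574c28ba831eba6105e95e75e65e55e45e30105d55d49235f0002e9805af803574c0602c032034036038008bacba8ba72461a0005d20082d8022e90e4009ca8a85db5d74709d6014974a46006c22ba28700018e5e7708c60002e8005c95d95d99d61d5dd5413c00174244c1c000ba003,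
  nat_lit 0xdc18e1445dd5dc942ee8b9be591a8a3375374b742ee1c57785ec5f45f0455b09b0043977660bba218bb8031751b01ba1b674b74a7140035dd97aef2efaf0000aee17177577176cbebbc00ae18e160bac4a0b60c00c83e63e8f6e19ad04186188d0220e20cd6a382386eba5a8f40412f26f24f223cc36ce98e94e922e6002bb72e70f0005da1c0b8ba3ba43a53a58d50b78002ed4b5c28009768722e22cce08e0ae0ce0ee10002bb52c5db5da5d92f8b5000aec8e0008005764001c4c80c859eb0d50d62384e964b4eaa68d0e67728892052426e22d4cb8cb62ca47ce55048ea26023dcdaa0bca585c976976656e24f34f3644644852a2e2bb2bb12a5d970f5d80a2ec8b82ec0417b97bd7c579d7997957917697664e002000bb0015d900c5d801aec8b88b90b8068343342b422ec4a5761c3c62833175d26bb0004bb0105da0005d70306806a0c82ec2ebca17580017581abace56e5832632a326e58e56bac0c5d518e5d501aeb3412ea81d75c3317540cbac326baa10,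
  nat_lit 0x1747ea6770015e27c2f22f1af101c2d800578804bc8bc6bc4e16726840b70005e21833a05c33c063860b3d020000af14e17917897850ec26004bc2025e50055ef5f40130120f674b1b11ab1aa2397cf7d02ce998a2099d9659643e89623e63379df3673663657a97990c267b6790bb03e0015e19baf12f0af00800f02e59dc3042d99c42c00017826c15ce48016000bc1355ea0015e0012f12f0af0050029b457c4005781f0bfa0621e636436cea50e70e45b30dc5ac5ce73684484684e84c7612772788173188f33148152b903a50c3e225a256dacda6242be0000bc1340115e15e030af0b84b952f7af009188d88588187d87987412000578584002bc2bc0166185e15e00a00206f06a06984d32cb2c32baf04cc0181c41d425977df02f8fac47c29827c238d92002bbf320085df5de0b08c2f22ef385a44674390001779aad321c01b8c981140dac6a002bbd065df5de5dd110328002ee8181941a192992c38da6037c00577662002bbabb805,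
  nat_lit 0x9065e0730025ec182f6af62f58817b17b4201afdb04439c785e1fe4aa89a1dbdda4719d9871c719da4749dcc7620124d686aa4d48e9e13527d6306085cd463c6301cc0057ae7e0e231431a32031c3160e4000bd53d64565064f5eb5ea09af5b26af50357ad96c51c521b08415ae81ed7a8b4cb6f3643ef8cf7a3220c2bd8bd66900d0005ea082f9b19af503415c465dcddd07507481fc0057aa7cbd6bd4bd28764c0005e93403d8e80e90ec0ea08a829800af4cf57a97a57a1c2c3a03e03a000bd1355fd01d60760c02b6080220015e89e2f4af42f3a1d80400179c04c02044c0e05604803002a002bcf3b0015e75e60a2fa00a3132f3af312979d935e3cdadee5eb460414579a74bcedc108080e81280f080dc0bce175e613012f1305e6022f28982f2834000051844c2022018bdcbda00e00abccbcabc80c0140005e31c8008002f180579179578c16022be2bdebdabd800cbcebcabc739,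
  nat_lit 0x5f308c78620820720678508b5f2a32f932faf88397c80042005085185082000057ca8abe6be4be2076540025f1012f880083f37b8a137b83f000af8a297c97c57c1c2ca4cba114000be00a65e7b48f88fc8d87a264c0015f03e803af82f781c1d17d17bcc201202011ad501d606cc30002bdf445f05ef5ee438198002f71a185c0d43a43942257ed7d40057b918002bdcbda140055fa06d5ee5ed20af732b3d61c11c1c683cd3222f68a00017d00068600c11ad381bc1b611800e000bdb1f5f30005ed01af9af72f685801c0197b43cc7626426e282dde26a126bdcbdb420050005ec0faf9330af60399580017b0d0ca8ca6ca0000bd8f864e5ed5ec30af732f32f83caf61717b4235b984d1bb1b95b898d57b282be4126128bfc028bf4024064caccaac94c92006bdb40,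
  nat_lit 0x862662762803c0386095f55f4a52fb009afa0097d58218cc12d8dc1441140257d292becc08bea145f560966b66c09766c66b6095f507afa009afa0417e801c0217e57e17dd7d97d57d290046c34c32000be65d02a0005f30f0183443138002f99980ec0017cc3cc4c18e076000be6186265f75f30a00fb1a0072fa2f9ca17d18017cc06be8c48cdc014be6936040005f40300933301c0002fa3718897e17d028bea046108bf4be84a5f56105f405afa81b3423082fa1297d9951e322e8d10c75e2994d7d48abea0ecca00f0be8045f40785f306afa03eafa03423c6fdd987146ec11410c0057d27cbeabe8be6876240005f33401fb1a8dcbb28dfbb0846afa2f9d1c0040017c83cbe8cc4cc6cc0be424,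
  nat_lit 0x8008585d8ac2d5a4061c630659d186486446283a190d89c0c40c185800c01180801988988d89185407c06c06584583d839814004001802acbfe000c0802c03a03c01ac0cc0a01202202804608e0a20b01aa263001081082404f44401065060254dd41b80ae0a0c7a04802ec1ac08001556025ff5fe102ffb002ff0418480b00b40b988187d8780097faa8bfa000bfa065fd5fe00261f03061f0025fe5fd3d8068002fe0098118158197f57f02604e01abf8265fc00000860360400d0140055ff60100a0230356280370b672e1777d17d274719874831331231174018217d68604a61c00c604603008000a9803b01302303007008001afe2fdd4807c0017e83e03e000bf42661305864b06064705a0210025faa88080002fc8e403801c019858111a005dc5f1ce8c2cc30c35d08649d05f31f2c5c5ca02c00c58880bc0740117f17f57fd8058000258057fd7f57f17ed7e6a0c24004bf02601862703a03462362101c0015f8a7afcafc2fb8818380017dc3e03005605cc44c4c06801e000bef4e6020025f706b0781f01e314b1401c007000afbd357e97dd7d840c00008bec10000601002a6006820b17822318823806000afad2c00c0097d97d57d082bfa000be826]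
theorem S0_c : blocks (facts 11 4 15 26 2047 32767 67108863 12 4095 9 511 A R 32) 32 JS0 1726 = true := by decide +kernel
theorem S0 : On (Step.{u} RJ LW par A) 1726 3262 :=
  steps_of_blocks hpar hR S0_c (by decide +kernel)
theorem D0_c : allB (defOK 11 15 26 2047 67108863 1724 A K) 12 2 = true := by decide +kernel
theorem D0 : On (fun r => defOK par.W par.WL par.E par.mW par.mE 1724 A K r = true) 256 1792 :=
  On.of_allB D0_c
noncomputable def JW0 : List ℕ := [nat_lit 0x5e4af1ee49749b98dc01766bafb975d357997445c2dc35702b97b955d2ee50bcab9bdc2ae64bb85daaedae6b7085ec5d02eb373cbb2dd8aeb4be25eddd32ebb748b985d3d79abcbb9cdc31774bb95ea5d297a5755b9b5d46e68bce5ef5d8eeb0be0bb5dda17d4be3bb25d9eeb8be45ee5d3aebf754b9c5d4d7a0bcf5eadd417ad7575f35da57d0be1bb55db57d6be55f85d9aebd7715eedd4aec37565f65dbd7d2beebbaddb17e97705f8afcaec1773bbbddb97eabf6bba2fe2ef3772bbb5deeef0bfabbedde97f8bfebbe3001804c04,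
  nat_lit 0xb7d5bf571ab6bb96ada6e3cbb05d2db4ae436cc5c35bcadeab75b772e0ade36ec5bc2dead196eb5b9dbfed38b8e5d55b62e4f6da5b2ad9acfd6dd5bb5b9ad596e95a3ad26d63638b535c16d5cb915c95c0ad517075a1d882d56b44b8dae0d744ba1b8c2ef2e2173bb8e5d0d78abc35e45cfae457475d4db52e4aba75c3dc05716b8fb97dbf1764bb1b962f1ae417455c25bcede16e8b77adf97016eab95dbfae4cbae5d5aeb2e536dc5bbdc2ed60b965da5c12e677065c9ae52d55709b8d5d0578973a5e02ef577d73d5ed5d0aeb7746,
  nat_lit 0xb8badc6e24b9e5cedb3ae2b6c2b39d741632b15b365b456bab5e5b72db6d0d6e3b7ddbe17196e0b6fada2d04b6a5d25b1ae3f6cab385b4d6c16c85adad66cf96cdb7bae22de96e45bcadf2d216ed5965812d1b60a598ace6d3b62c59adb66d34b635b25b5963b6db58fd7a2cfeb235b95b9ed24b745a358a2d5b636577abb6aa1639b53d86967eb3db522d22d5f634b515c0ed40b905a1587ad52b4056958855a8ad6b8cadf6e1cba05ccae6ae236b8b8eae25746b9fb8b5cfee28bc2b395b556c2b5f5d45b42e46ba6b7b5be57156e2,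
  nat_lit 0xb36d739626b14b355b3d6b96be59457e2d0f5feb6f2db2d096e15932c96d075f0b315b1ed00b57b38d731630b175ad5b12cf56cbb372d62ccd6c95b7adc2d156e5596acbed2360c5555815558aa955a580aa9d60b571ab92a8162d59a2b1ed2f69459bace2d3762e599db5ececb6258f5779639679a7a57a5524a91590d79acfab225982b86d2762ab1358a55beadb5772b6541f637508d0f2aa2a15565586ec30ac1b52da6167d632575abb2a91635b51d852d3cb3c59dd872d43612a9a587d59aace5cc5ad2e1f6b65a6ad3acad6b9,
  nat_lit 0xb202cbad1f60855aaacea9960d553580ea3caa8502d042a82a095732b96a8562f5992b16ce969558dd772cef5daa73577d512a8aa7acc593809bf590578acf7678a79579d51ea905712b7540762bb13ab815bd624b11ab62a6cada50850c141d54b43bd0f5276939509d0e2a9ea145642b1ac3361659b5a66d2d6305752ba6a8d633506d0eaa9342c55e585557cac059d2b42d3f61055caadea55613a9aa7f13f69fea99587559960eb215ad6d1cb4b5a65acaca96b7582d5dacaeb065ce5af2e276c05aaad4ecb16c34edd7454bea81,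
  nat_lit 0x5612b12a5d617573aba2a89631506508aa8e92943ad0ed275424495a49d25f42d55c2aeaa516114f7cfd2a5742aa99cfe13f49f9a982adaa4d60fb21d5795eeaf3b1f5acec78b4a58255d2cab652a3d55dd464a34b265af6d10b515aa5ae96036c1581d5f2cb2b074ed543d3b89d9a8b568d4bd59c4efd73eb1ca80b35d721624b11b342d4aca16bfa8c57e553ea9d55257d2a7d5ff593d7dad0b5f254d2a669fd5f1b31d6d961ab0bb302c92d035ee532d7354c2a7fb2f5b16cb8b56b37d72acc8b16587d792ccf5c4594acaed17600,
  nat_lit 0xb30d6c96195ec54baa629f95ef53256a6b4d59aad2d6894c159eb2fd6d2cb4b0a584d782cbb58652bd72e99ca7e58756eaccaa7553ba9cd4f75c5b252caad135fc552aa8ea79601b20abd15ed606557aacaa456094f450daa3f3d233ed04522c915503d03aa7ea08505504aa8691b58d5752ceb5d8543aa169c15dba73cc313669b4a7257755115d63f9cc5cfd6805a76578d51aa8ba79cc5137a9bea78579551d5bc502501140553bb112b72a7162550050baa6f3fe8ca50c526293243b1a6671538d50950d2a9b54a43cd0e526e938,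
  nat_lit 0x3a4d08d24a92343a4e22717384495507a84e928437a4990bf4254f74fbaa5342836ecfd51f68f9496cfc125d42b4804fe52048ffa98cfdaa489f84f6cfcaa4f3ea510557d444a1fb1fd572c74af2578d5cac7b55aa3c55d5462a2fa3da15d2c8966b26a9a55faafbb245aeec8cb5058155c1601653a4155f5472a35a8ba7913ba9d1a84296294d59d4ef543aa229d84f0a91ab1ea41ad85726b20a7db34d71ac9cb1057fd5eaca35c2a8ca7953c69cf4e6d7d6a08a9ca8a57dd53d5ea54daa56a015f34e44cfa9fe9c6533d6dd4d6a6f,
  nat_lit 0x5572ac2a416074f5d0caa473e046d220d1af3d333e46ae3511a433bd03d22691433dd04d22e91148e502a82e91aa6c5756a58a83543574a9bd5d94d7cbaa9c34183facc34ff27fea72cc193649b1a712a129b95d73f94bf65f52f697c9fa0fd47eca76cc393729b5a7557855195823f3cc54f1a804a78cc493789bba7729ca9855bd450d01521690c5035022a7b53a500d00aa73400484241e2f53ff8ca906ccc26628c950bd2613fc3409a6239f1cc8db50d526a93343c1a5e71f38c43dd0dd26d3984fb27cea5e9f4505d082a8b41c,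
  nat_lit 0xa84d41a9489d04c1a22694f3bc4f0544ea2150c4ebd626930a40ad8d6b94d8a4d524291eb22a43525d71e990a7c57f55b2c9f5c0a4055ed470a374e6541ea049ce4e5d032a0b350a8ad4493c49d54e9aa529f15eb30cccfd04a8264e4cd0aa029c7ad656bd4d5594524d6cd4daa4554b56329f55ed4e2ccf29fb33a53356a2b56a55ad2298ab4f5a052d296695159f529d6d6960a6e5845602cb758451fa8f692958752b566299559b4d0a68e99f2c8a5e56ee998a7153b56e2b7ea7453cd5e14f55c3b25a98d5f95fa550aa8aa395fd,
  nat_lit 0x8dbbd78d0e6638da50cd2693d83419a5a3951cd43d4a8a71d39143ea20a72d399a6b27caa5a9f048e9d3524341d3a4180e4d32663a5d08524874f9c34e250e53823a3d07e31c92243721b50a73859b64dd10bd3778b64fbd1ec8f536e3f124132064964fb284d42936dcfc50ba8f847e4fde2e08fe4f64f92a4b3e836fcfcd1f53e6478a3b51e53eb50e55768a4a1e5785552c7755850da86689d55ba3ccc692c695fa3b55cd461556377a158dd736fad6a9a2b55596b24a946c88afa57cd5bac8f568a3955c545aa2ea41a1652de967,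
  nat_lit 0x338d03522534433d10663531a633cd02e304910a6c9fdd3529a7a6a574e9a4a824d74b929bf41a81b4bacfae7d548f4b9a82d4199804c0cff12f09824c1cff67dba719f669b49b04d6cba29bb2de3fa4bf25fe7e597c1fc25f67ee3f1cc3ceee7ffa75cc293709b7a7428f29215833f34bd0f172f79474a44f1923e3c9cc4cf1e803a77cc4297c9ba4caa66698699a450226e7613b3452d02521e90d44fd00d2153fa484a4162f94013260eae2f664a7ac906882e41c8c997f4cc065f8c8241a2f13fd340107e3591af33fc74639c69a,
  nat_lit 0x4e522b2a0734e41ba0ae1c93514e9542e9ec9d44e1cd029f332830c450a281145311cd0d052827527564a93d595ac55636938a444e24cc29f681d308ccf504933240fa06d04733b52da9729555a14c2221e9527b74c3a626963248a46560695ca3b51f55fa9255854bcc8d292b3385295666958a544d04ada9972c63de9eee0092c9a5ecaa132298fa5d268a99b2c4a5c56e696ca7053c55aab7d5c1a3f55e6980a365502976a355fb4f3d01aa3b3624f54f5aa428e3472a3851d33e146a4f451ac8d833f46aa35a67533b468a3411a5,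
  nat_lit 0x36d3ee240920736ccdd50b885b322190e2e2eb08b24f962dc8eb36f3f2a41120b4784f891dd3e9370a3b0dcb3e74a4251e8a71e8a2355568a0a1750d554a8995594a2c71a89f3de378cc6cdea808a3bc8812c4961a3a2862895557377485e4286cd9099ba0dd5210527a94294559757c558ac8b566514a89e8c9569a39cc712ba95ea3855bd459564367a1626e336e4c122be94a8b39cfa22273888a9dd22551693bd4eb542a92d50d4bdcf329333ceac5d622934a42525564e988a4c4cea67e9928c3a3655b698ca2ba40a1952dc96d,
  nat_lit 0x44ea4122e93fb77a0ea9dccef7326bc8a2fa64b7aa905082cf5289597f22511208c897ce2ec65e3248e5e2f25097ac1079eacf5b339c75cd3e69b7ae3d7c84241d8dac6c8d0c667332a3822b53d9341108e3631ae3429a523971c893c4a8e4ec79c43e4a927273909ca220272e867a6b9fc53509aa48fcb8124141b898980a25d1183a548a24d126b4b81d3290a74e9c3c4c90e138044c47410e73ab3a317a4ca726732a996e31e65d435a1b22293839b6cda90a48549bccdc90c13768b6baa8c8063f244bf1491a4818b54fb63148f4,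
  nat_lit 0x337a0aa1b13457aa1061eae41133c103e2fd1a73279946306551a6a9f869a09a64d2cb8a9a72d03aecb94fa67d181b8804a024ef8124b9e3007d43ef1f74e632f1982cc08ff52ee9769f620c47da4d64b529b67c981a4ba4fad2d63e59f1cf9f2df9809fda5fd2f2943ca10eed27e94f4c2ceea7fda74cc2291c9b64bbc8ca9232dc3f14bd4ef27e4947ca30f152403891c3ce2123f3c94a5e528739949ca40f1d23c39acc450008024ca234a97e992a3e266298299644ca2690e33ad452228a76b3b29db501d21d35e44f44d27633ae,
  nat_lit 0x30844fa28313a40f4caa66a81c305a06a1a93334c2cd529567b59cd221a73b2c295f4b060047b638e9c1e211249a469e5d2ea973a45262295e709a4455fe90ca3a4bc48b2927336274c8d4e0a701410c8b90453394c34ad295b2463bdcadcf567a93de4ac89932c7265934600a4cf3cacaa4f327a1a5dca813207ad3d79ee8f732c5a5cca9a96498e4c5a63696f3a8465d5ae968a2aa3fa2052d296c4f34d5aa3683d41fa11d0933633bf4f5d1bc7804721df27b68e2473c7011d13dfa3ecf412d096a339468e3386743383d2a34319e,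
  nat_lit 0xa2e558e940a2551455828c55674a9c77a8cb360364cc75014809a38a2c52b895ba37289a8c156536747ea3fa6cc368cdce6e085aa37a2ba8bc95a9cf223110b3a19dda2c27708b29d2225274e88b4bd4c8292e8a99e54f3517e8c6455a32116b3cf4be4f129368b94ce4ac298a8c19e34f262a88c2a36a25d2b28cda35267a98e8c59bea1910c28664a822b68bf34c41b20d4b5734f2d68f261ca5b14e14c8a9ef326409a0461c532930a450cc24616311453e299144310cd050513244bf4aba93e84b4beccba93a8b78674cc5032815,
  nat_lit 0x32b996631a65c4351794bb73812ee978e22a5e19b44dae2248509bc218a6f68551a5baac68e33b2443aa1f7e47f7e03f0c9184858b58ce4c7a63e8b4196a3171887db3ee48fa48036c480a40a6d31aa0d4d97ceb18b2922cc726378b1190a2deeae7e43f2c9224928b04f8e2bc8ea3703f3241b20a3581ac9f111e9a239bcd28293fa22251a8a31eaa21554e880a164a2496289b3dc27dc71cd2268d90d4874de91e490f4884dee6a9a3a9a9e8909604a1c712897348378485a4326cb9091bb242b20e3719b98dc92114bfa60694684d,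
  nat_lit 0x422a11a20935f300c4d4c0a5ed44e17ae2e53af323bc822ea57777abbc871e3a81e0bc8c7aeef67a81048816f5389544b4bfd11e2fd10562531262f897c9cad1213243afa2ee50b1c88e59dceee481e8e56074508336c754d3c69d332465e2ac66631598b62b65057ae9088840f5a34246ce3611983349a48a4b1c993c9d90ec473d3b01a564ef27439fca94f3c79d9caa1fa72537e3adcb84eaa7d030044b225f11c2fdc8a4bfe6fc4b8c8aa90f26aa449d4a90897289844ccc085e74a5475a8ab3aa88b17a07b711932a0f80ca5185,
  nat_lit 0x2a941fa1025504d21df69a27813bf9efcf852d13ae15264e72703afcb8cfa52cc6cb8801b28202812b6b89da4ee811194230254f92dbfc0e6072d9761f720c92ef29a14ce0c704682f4b560c07c581ac0c8a004f33e54b4a5b27c82789f1a0292d73ef9f80e672f33b61dace4727f94fca70f347453b94a14ee927c9324c261247fc4bb489291f2da275c8cce087033e6c8c0f9d2dd9434a24ef12803c44a365152423899c58e292413ca4a5a5327419491e4252a70d91d1c39fa923d39a497ce6c7384a5a28e8af3ac9dba29a76935c,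
  nat_lit 0x94d9e5a530757a459e452e870b91b9c1a30c7082fbc8b4dfe6fb274087e03f01c410489a669337273c8be1a470038e1c6e2152473bd4a225172823c4cad4f552443b8cacdff87a82650a34990fff26693420064ce94d4a74f3126e3b9ca84f367693d71d9e5727ac3d8cb00f712c39314a9cf3e7a04c521fe96688e448a25a74d3a9465263296a8cc87e4d5d07683941f4d4a6b283c420c76109136147349727b53dd27ec7062b068c3360ffe33b19a202bd2c8023ed3370fae1ad19f2d28f1e1b30827a89039e9c41032742322ff086,
  nat_lit 0x4554c7a7728a845d4f1517d3c29df4f04c528b8361cac4f4e7a3a35a3252b08c79e5cf2117a8c49be21a26f537f4a8c7728c282d417a0d106734d2d64370b550df1d68f21e20f1335dcc8d01e8074094c621c13272d78f461c65b030a989e2ab1529e3caa8c268c08a8c538c48617310452a29b14830ea04217532536acabcf4c7a59b2cab0ba684a9dfccb0c4a8b686791dcb3e5958664cbd03081789e44fcc1d1388624cae18481430518261a113b2d0968e1aa3bd87c4d550747b39cdc7511092ba95fcaf20007b42eb3cc2213106,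
  nat_lit 0x1a78d486a0eaf7e4bf0892048f8b0921e2b863631898d22be6327e33f35f1c49322539f1f1244835a1acdf151eba219abe87c93e49ec95288325092b4964e5672e27d07de05902f3561aae1691e590fc870ded1e28f09a99f046a84a146fa89334a27cc714d2068f418470a68d34990d9bca4311e6a229bb52811ec3711ade41920f9b24d9e21884ca2ea24d29e94da2d260294284fa2c55868aca244a9229e8c735a87d477cd4a6a1363cc7d01680c36447ee3f06ca36847fe3f86d2a2ca2368a894c9d2a24a7453a035ecc8501c80d,
  nat_lit 0x27f98b22b250328340e20765043344658a5b1992931484a490553b09ef8ec72cd3af1a4e4e527539f1cea4c273c3ad152ceb327188d17b9c7911d2fcc8acdfc6fd9369d4cea87567923c9c7b41e17968f847ba3e232b3cca30f18491b48e631870a88b97907b25e62ee0c94bb510f9b4cd9a22084e2ef978a2265e0a2da18d29c8517528d1068cea01a53aa5d4c33d7dd920860e48474e8ce066233a8b4ba68c7863b8b319609331897dbba788f647e7d93ed48f81d336b480dfe520007903c197e0ee7e09229f7cfbc8b18d24c70eac,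
  nat_lit 0x92d4974e6472f92692cce4524a93d1da8a3327d9329d0a11c7442b0958e1270762afc8961206f9275408603d0183e6488a5b12db271c8c60247023b69db8e5328138c1c5dfad24391dc8e1fa470c24f9289faa4a0931c97a4c0740422210e20135d2e7974620a57388d97a9c745ec3233ae22e6579851bc7a1405761d0bbcdde03a61e00ecde163a91e1bc847ac3d57a690208144072fc104e2491272f817bc59b11f1678b95cae2e7170bafdca435f1c83b7871cee181e3af207e50a7710e51dacee5335c74ca5269c31514c62ae50d,
  nat_lit 0x44821a674688f87e972cb925b92dbcd4e1fc838420210a6b135b87647662046a027e07fe06302e3350ff4a5719b2023d25e8c3ef7a28ff8800f4279a8fa82023ec2d237c21af0841bf8f19e22f0e7a61031e9e4062af42361150882a99560aaf0872aa0f161010832a19520a3f0796cb08103fad996c907f9b2a1f511036bdb58203811c0809d84e126fc1fc71254e25dbfc497e4ab92bbf70e3e72c29abfba0cb044288944852b04782f94c20b850f29794ca0c304827f40ce0610288214b4e0187c4278409e01c4f226c937602a39b,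
  nat_lit 0x30e186e1711492c6bc72176f0836a47f8d8b20136bcab5fe87a47d511d9f5a46f866c328b3c59a2ceccb4c3e81689e91ccc19136360caacc1e7a286291b61785942c7964e186e623039821cb51392d00b6e1a23bb7823c01e0e3bc87c900cb910f62e3caf4b867b21f3bcc47d03e52ea3cb8ba51072fb14f624b1226d50879b5a2172fac89e1806fa273085603501d272968a1a63b52eb8c862165d838c9c69fb12453b81dbdff52832638a2dffad507018a31c0028e2663832002ffe9361d0ceb126f93d9d98a467683d8474a5712bb,
  nat_lit 0x2279141f1e19b18739f5cf43102260c35f161a349e46ea87f24e3929c9898b251390c954e552520f787d9b1e1f42c4959616a58a8f01aa9f0d1e32223e01f06d147bb46fc88668b27c0af605b02a27bc70def868e3569aba1651e735a9ad9f211ed2eaba6221a5d987d972a1e05bb36347da3f26bf35e47ce3e06be36147dcd891f445dcf011793c32dfc774d486a3417476a68e82c418c6f106534b214c374b505a71d60da46faef935d3ec23e31ee35ccc6616c8062d7436a1c30de78c0f41e36f128a81898c511532ccc52cc3d146,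
  nat_lit 0x16fbaf46ba35e7718e2c724ee01c03b49daeed4283c10607c50c27ac0e46f6502293c16ca590588271480a3d05182bc148a510542a2952a0f707816588b5c7a2ab6be06a5afe1e07963cbc7be3e4794bc987b81ab1f33ccc7d23e37928c8c7b01df7468c91d143262ef0cd622310e19f0d0065cea173ab47060c1831953a4c660e9019bba6c66631f8b38c7492a63a7e73f4493049a74e3a7c65a33c7d9ba108f41d56b9b5c01b61d22603ed1fe61d17520d21d4eea21a70d0c698ead7dd1218612fbd31839fa2ba62e7e3920df1848e,
  nat_lit 0x27a40986f302926c0ace01e3997743bac71a39a25792c9fcafe239012c4e3d24b28d12e4a3104d2b0153611f07c2a315060e90772ae958a1230702adc88e0146f8271405a02101926d93720263a59261c9ce512532531291faed2a24f3f41fa649c2e7173620257b2da97422065711650b25c762ad162bae5c7035b8513ada14a5782ba427a1425721d00e71dda39e7773ba9de23a477d0ec9dfe3a71e10efde14f0d1e9bc7c79e3d429f10260d906f16708ac598e3f7200b5dcaa2e6170090dc9ee4c7280b91ca62d91c2bb7c718edc,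
  nat_lit 0x6ff0a29c0218d705383453428f28dc14ca450502db43ae1cc5b82d997321fe57d876c3aa1d05ba82b145ca550592df3d221e30ee7a21009e8e3fb7a00ff07eaf4379a3cdd9cc3ee07f331c2000fd139b7c420a26f1bf3b386f8ed52ae103611706e2ad15660110892aa89b4aad0851c08f10726f0f2a10814a3b0736c987e83f81eb110b6c443ad9826f405c70e4e076d0e28710edd25d07edfd64a97ed3f7486a4aa7f63fbc97c4b728812d452f0451498a44528e07297416a0bb04a28a144c7e3049821c10200c50e269935e01ad88,
  nat_lit 0x78cbc5879cef82cc3eba1930c62cb9869ce51472c637621723b71e93c75e34f0c260bca9fea1c923c3ebdf5846b2ce432e19059b7d591c88e8fa836047c8c1b1f57d391b060246e2c7399217a2f41793979cc0e6330311c5cb11371748b55cb61cd7230b69c88e497828b8de043ba1dc8ef9e0cf092e30fe4b890f787ab840b845c183514f20db0686d58868438da82fa14e617d1232c8964a1822ed6d38851b48216272093e0363b177e3c05dfc3b47430c81d04e892538c5dfb2d2c2633fe1ff6d4e0d3862d900d517010a40512e05,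
  nat_lit 0xe5b5c5adc1d019f8d0865eea373a39dc6101852273479f1a1996a135158d019a187b9fc61631273c0c31cf61896a434d1a961a287946ee15c68939246e098724f7fb3fe4988d4c0f707b1b161ea6c63645b1c1f82179591f09095222911df0ed160b105858b0d157bb89fc8764247ba3e04884d127150af1c5ae2827b0ae5ef502b21f9101efa3752c4160e1670b02269145f221a119b3a65d2ce882dec76defc6a221404bdec0f63213c6f4b5268a7610da1d8a36623cbec48ea46935c119cb0b1ef2c3959e16e58b215c36e12c5a6,
  nat_lit 0x29f9500a770716d908a9b6a22872089445a0e3e72eb789ca82ea6e10909b8a23b7288b89c9ce487238b59c842d81c208fc704ed916f08e5c94e4d16ebaec6b8d847683b4c6f437782792f4a3904c2a236c20eb0722a395320f507d6db88b1b6822e70e88ddc342aa0ee8789afcd817943cac7bc1ad6a986a018e1aa6beb5e1af41de7460ca0636e8f18c8c89d161d974a0cd1d2e3270b534742d8169697b4681be18274aba48664e8e7438c7062a31e7e7b4909284961958ca4658e9118c3a146341d76b935d41b21d465603701b4caf,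
  nat_lit 0x665b318208cc81b7bb3dd9837626a09ae0121bd6f589b1bd026e76d88f470ced87ed87b48664a87b63dbc8681497f692f1fd4fe87f392d1fc04b6149382452ce0628a94587e704b79c8a1c7e01912693aea00ed860f486e1978d897688ad46f036d7100ac9c462b0774b8d87063982573839fc2fde25692c086efe37f312e1fc8fe926a935a0161bb26d08ce0223a30bf060012ad2b2da11861d256f70e387c54e2ac1623721c6ae321638b21c722af161badc6b235a2bac29e14857a84e427c79a57077788c5dd83a277d8e7475c39f,
  nat_lit 0x1783741cc22ee7d311c05fefa917404d5cb21cf6b6b5a1ad41cc1698b51c8a1c71dc0915e063b687a46e4b8a6888798a14ad25c0835886ca7506629b94e04bb0692c8379217e2eb72e397c5a22ec6d30860422da96d10849b4ada06e68939b9422777e888c75e3b07400c59d06d280bf85f58fcd2d0d30694122d4f049827d9020a36ff8a1851018f69b862821e18c705b820530e0414eb844536dfc2d9118e1ce57f854c298ada57c7a08fe1e7c3fa79ebce87e81952de3cd9ef10ef07f848d9ce0fb66133140f20fc13937bc212271,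
  nat_lit 0x6ce0831b3e1f921707c5ed2f662189119f0a15f0b185758b4d1703801b98b206c6fb09f9bf22777ba90e48741570ac8581a20d1371589ec57429f15f3641c58e2f1508ae1c4ce2921f0dc5ef63737653b19d9a3742b5960a15f0ac6a4b511a8c1a021e9105efe36b67784b823213021309d5ec242576184cdd803641b1bb1dd8836a7d19199f404682c31604b090b121533f9ecaf62216959a12f09478a3c5c7983672cb3e91ce10c7182b751ce62ef12cb7644ae2470e53551ad61c87d13e95f3046a7350be4600e6d179b9945ec2f5,
  nat_lit 0x131378dbc02646e38911b882461690985c861c56e188f8480dc06df88e1b7823a16e0aa5c96d820f28799948d856db08c044adb96dd08d9b7a22f0f2078c182d8370c0aa1c36d806a935541921ac062326818cc9d0ee06bdaf61da6bb35e59301d868c346c23e16874085cc628d260bb3495a441786bbb5d19181d6656b1581b0caa65a83741c8cb206bb2c41bccae6b60495ade1ce69734c41aa1840b5b47c2da1676a185958cc19804181fd8d208173cb9d861418769934d411e1887fb8fdc98419d0cf8691a94d4d6c687c1b141f2,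
  nat_lit 0x630b1100f0c5e15137b9c24e15665333c210ccc0813310136cc96ae3561abe1bc6f537b44d22706f309a9bd21b36df08f046adc17b6bda88641550a60529a0a14879c3cec7e419369db4e19741900f4079c19ed8706883a597a0ed1b70addd9236c1528ad1c44e2514e383c5322832560a05ee4fdf7b8bdb886c1536ae86e436a1ba6dd88c8468db863a8234128c7222c9181f3af9a70c899c54c1db6e3372448224816338ddc682b1710b879c2c2ae1613759c60e33160bad46b035784e917c79656e6d988884482266e60941b9e229,
  nat_lit 0x18239b9ce2e6612c375c4aa2496e937544ac25322e3e59f3245217eb9bc604e6c1788be05eee67126b745b9c25273584dc5fce6809584d19e61276b335a59401c62b53ac8ad10996ed37744b81bf131b7944be26529b08644b70676d184ec4202071048839b3cda1126084db9624a0bd85f192cd2904931c0120c7363c0278138c7b63a31f18fe0a269b34e422a18e669841c21ccd06fd0a104fadfd22b9189f38f9f854119615657e84dbad0ad909879e0fd9e7e19769fb4f00ea19421e3409ef236167104899ca0f9661b3000f60fa,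
  nat_lit 0x65a03a01cccb707132c01c0cb367484901ca12606b01941a8cab68c85901e816603b81f98cac6204101f58ce080699b4c011218663631c411cc6e6ce8829b341f32183daded015b03881bd8b606d6fd8a01bf02827b810e1ee61510ac053da1a1566870571a2215e6fb89e84f8df415fbacc5763561600835c62e2e15009e5c2629e1518ad9c4ee247658dc1d903720cf3501a8e19c66db3602301136f989d022e27667704c823acf11b13401d8236022e9191f42f9e84d16021550ad0a1b3fc27e131216082dec8f6778ab3f0794365,
  nat_lit 0x63001f00f4c6300eb11588405c03b31180e8c5f0863338214cd1081841813accd63c816c134c760dbb585abc1be6ab35641721b20a6b42da101546838539a0815069d34f5950192068016419cca7069b2e19760ec683052da121520db04a4368d5b0438230114c6f22c1155f24f956f389984d01b115237b1c2ee1422d91785f6f9b6ef0981bc21c36b3b5919441c405f815d94a0cd05f326c1800c2062b27c190c9c6ab86b99281b005982ed9320bd07b846c23cce10bd05c415ed270ba05c9a46d20059315191ac8a618315c0d6c4e,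
  nat_lit 0x61631540d4069071b2e41d4cb608884681c2cdd67404a01ceceb0138191898c4f636818c110c6a687b429a1815a08833541d61126f909e0216df5086b36422ccd666d337c238cdc0a2340424214667c84f027ccf60a133f59f4cf022d3e5c606f9417e05045f4e6909533b4258cea67a84d99e413806532799420c36efb7704bc1c16edb3b04b4d5a67a04e825acf710404f5b362066e9883c4a824b05882b592e0bc04cb1f4140c7a6693350228cd722b1151f2645369f35058c8196671b378240ce00a2b40d9c814707b33041ea0f8,
  nat_lit 0x18813986e04c647324416c0a9643b21012e0aa010b1240bec400178180026c4b647814c1680a701d309c07803901f8151874c3d03931418bac34617811007a023616b0a8084035019b14c0ce0680133059832024016818989ac4a67c05019f613964302b0142c8900e0060034c1300fb11c0bc05d014816988604d04c013c12cc776b1b58016e1c0649b2401700ab617016187cc410693121952ca60430184108c6b6b1359416a1c201d815987ec3c06581559460cc64902e992ac880b705c18b8d21058314815cc8b6188114086025,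
  nat_lit 0x5301800ec09002301c00c008606303c028c080058038018c0b01b3089840c2500b3039822009002811801ac33018307984202b01b814186cc3905232159040a8017307c02ac1c6068040024c0a05281459060a601f30998520380208149876c38025011c090c3502030ad850c24019308d82003400bb1440ccc32010305d8280220163069830c1d00f006582ac12014306c03602a]
theorem W0_c : blocks (rows 11 4 15 26 2047 32767 67108863 13 8191 52 A 3262 1463 cols 32) 32 JW0 0 = true := by decide +kernel
theorem W0 : On (Row.{u} RJ LW par A 3262 1463 cols) 0 1472 :=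
  rows_of_blocks hpar (by decide) hcols W0_c (by decide +kernel)
theorem idx : Idx.{u} RJ [[0], [2], [4], [6]] [[0], [2], [4]] 1463 :=
  idx_of_cert hpar hR (K := K) (by decide +kernel) (T := 1724) (T' := 1792) (by decide) D0
    (subs := [1,2,3]) (by decide +kernel) (T1 := 1726) (by decide) (N := 3262) S0
    (by decide) (n' := 1472) (by decide) W0 (by decide +kernel) (by decide +kernel)
end TJ
namespace TJ0
noncomputable def A_0 : List (ℕ) := [nat_lit 0x2f2672ee6739a6e3b4733ba763ac7738a7535c7131a6b2f4633927434e6f34c703326d2ca6229a5d32e6c2d46427a5a2fc682aa5f27c552c6612965c23e4d242542124e24e5625c571fa4b1fc4a236511de4121e501ca451cc441b63c1923e19e4014a3514c3416e3a16c3811a2f11c2e1142815630136310d2240d4251062b0aa1e0ac1f0a41909e1c07e1705211054120460e03a0d01a0533c6e3766639e6d3b6723be743ae7038e6a35e6231e592f6533a46f3946c37a683826a34a603546136c653345c314582cc4d2ec5229c473626432a5b3265b2d6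4e346602fe542ae4827e423045630a572c24c2e2512924626a4123a3b2dc502a4492443c27443214362b24a24a3d2be4c25e3e2563d1fe322644028c452343a20c351dc2f2824421a3722e38226371ce2c1e2301b22a1ec311f433194262023419a271ae281a62714e1d1d22e1c22c16a2117e221762111e181421d112181bc2b16420184241541e18a251321b1261912e1b0d61013c1c0ec1310c170c40f15a1f102160f6140fe160ae0c0ca100a20c0dc11084090e21209a0b0ba0e07a080b40d0640608e090960b0560404a0405c05074070440306e0603e02032020240102e0101e000140000a00]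
noncomputable def A : List (List (ℕ)) := [A_0]
noncomputable def K_0 : List (ℕ) := [nat_lit 0xb95cee36cba5aee169b55d6cd60b7d9ed15cbb596bf5eb7592af58addb6c555a8d76c756a5532b550b0d528b41acd3aa746a4d22974fa95127f3ea05368737a3ce6753ca14ca7b31954ee6b349b4e24d2897cba61298ec9e672c90c96472496cae3f1c8d46e41148b48a311e89442331789c361d1588c260f0f854321708834160704814060000]
noncomputable def K : List (List (ℕ)) := [K_0]
noncomputable def R_0 : List (Rule) := [Rule.mk (nat_lit 1) (nat_lit 32) (Steps.bwd (nat_lit 3) (Steps.bwd (nat_lit 1) (Steps.fwd (nat_lit 1536) Steps.nil))) (nat_lit 14) (nat_lit 1),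
  Rule.mk (nat_lit 3) (nat_lit 50) (Steps.bwd (nat_lit 2) (Steps.bwd (nat_lit 3) (Steps.bwd (nat_lit 2) (Steps.fwd (nat_lit 1536) (Steps.fwd (nat_lit 1024) Steps.nil))))) (nat_lit 10) (nat_lit 0),
  Rule.mk (nat_lit 2) (nat_lit 50) (Steps.bwd (nat_lit 3) (Steps.bwd (nat_lit 2) (Steps.bwd (nat_lit 3) (Steps.fwd (nat_lit 1024) (Steps.fwd (nat_lit 1536) Steps.nil))))) (nat_lit 10) (nat_lit 1),
  Rule.mk (nat_lit 3) (nat_lit 32) (Steps.bwd (nat_lit 1) (Steps.fwd (nat_lit 1536) (Steps.fwd (nat_lit 512) Steps.nil))) (nat_lit 14) (nat_lit 0),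
  Rule.mk (nat_lit 3) (nat_lit 32) (Steps.bwd (nat_lit 1) (Steps.bwd (nat_lit 3) (Steps.fwd (nat_lit 512) Steps.nil))) (nat_lit 14) (nat_lit 0),
  Rule.mk (nat_lit 2) (nat_lit 86) (Steps.bwd (nat_lit 1) (Steps.bwd (nat_lit 2) (Steps.bwd (nat_lit 1) (Steps.bwd (nat_lit 2) (Steps.bwd (nat_lit 1) (Steps.fwd (nat_lit 1024) (Steps.fwd (nat_lit 512) (Steps.fwd (nat_lit 1024) (Steps.fwd (nat_lit 512) Steps.nil))))))))) (nat_lit 8) (nat_lit 0),
  Rule.mk (nat_lit 3) (nat_lit 50) (Steps.bwd (nat_lit 2) (Steps.bwd (nat_lit 3) (Steps.fwd (nat_lit 1024) (Steps.fwd (nat_lit 1536) (Steps.fwd (nat_lit 1024) Steps.nil))))) (nat_lit 10) (nat_lit 0),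
  Rule.mk (nat_lit 2) (nat_lit 86) (Steps.bwd (nat_lit 1) (Steps.bwd (nat_lit 2) (Steps.bwd (nat_lit 1) (Steps.bwd (nat_lit 2) (Steps.fwd (nat_lit 512) (Steps.fwd (nat_lit 1024) (Steps.fwd (nat_lit 512) (Steps.fwd (nat_lit 1024) (Steps.fwd (nat_lit 512) Steps.nil))))))))) (nat_lit 8) (nat_lit 0),
  Rule.mk (nat_lit 2) (nat_lit 50) (Steps.bwd (nat_lit 3) (Steps.bwd (nat_lit 2) (Steps.fwd (nat_lit 1536) (Steps.fwd (nat_lit 1024) (Steps.fwd (nat_lit 1536) Steps.nil))))) (nat_lit 10) (nat_lit 1),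
  Rule.mk (nat_lit 1) (nat_lit 86) (Steps.bwd (nat_lit 2) (Steps.bwd (nat_lit 1) (Steps.bwd (nat_lit 2) (Steps.bwd (nat_lit 1) (Steps.fwd (nat_lit 1024) (Steps.bwd (nat_lit 1) (Steps.fwd (nat_lit 1024) (Steps.fwd (nat_lit 512) (Steps.fwd (nat_lit 1024) Steps.nil))))))))) (nat_lit 8) (nat_lit 1),
  Rule.mk (nat_lit 3) (nat_lit 50) (Steps.bwd (nat_lit 2) (Steps.bwd (nat_lit 3) (Steps.fwd (nat_lit 1024) (Steps.bwd (nat_lit 3) (Steps.fwd (nat_lit 1024) Steps.nil))))) (nat_lit 10) (nat_lit 0),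
  Rule.mk (nat_lit 1) (nat_lit 32) (Steps.bwd (nat_lit 3) (Steps.fwd (nat_lit 512) (Steps.fwd (nat_lit 1536) Steps.nil))) (nat_lit 14) (nat_lit 1),
  Rule.mk (nat_lit 2) (nat_lit 86) (Steps.bwd (nat_lit 1) (Steps.bwd (nat_lit 2) (Steps.bwd (nat_lit 1) (Steps.fwd (nat_lit 1024) (Steps.fwd (nat_lit 512) (Steps.bwd (nat_lit 2) (Steps.fwd (nat_lit 512) (Steps.fwd (nat_lit 1024) (Steps.fwd (nat_lit 512) Steps.nil))))))))) (nat_lit 8) (nat_lit 0),
  Rule.mk (nat_lit 1) (nat_lit 86) (Steps.bwd (nat_lit 2) (Steps.bwd (nat_lit 1) (Steps.fwd (nat_lit 1024) (Steps.fwd (nat_lit 512) (Steps.fwd (nat_lit 1024) (Steps.bwd (nat_lit 1) (Steps.bwd (nat_lit 2) (Steps.fwd (nat_lit 512) (Steps.fwd (nat_lit 1024) Steps.nil))))))))) (nat_lit 8) (nat_lit 1),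
  Rule.mk (nat_lit 2) (nat_lit 50) (Steps.bwd (nat_lit 3) (Steps.bwd (nat_lit 2) (Steps.fwd (nat_lit 1536) (Steps.bwd (nat_lit 2) (Steps.fwd (nat_lit 1536) Steps.nil))))) (nat_lit 10) (nat_lit 1),
  Rule.mk (nat_lit 1) (nat_lit 86) (Steps.bwd (nat_lit 2) (Steps.fwd (nat_lit 512) (Steps.fwd (nat_lit 1024) (Steps.fwd (nat_lit 512) (Steps.fwd (nat_lit 1024) (Steps.fwd (nat_lit 512) (Steps.fwd (nat_lit 1024) (Steps.fwd (nat_lit 512) (Steps.fwd (nat_lit 1024) Steps.nil))))))))) (nat_lit 8) (nat_lit 1)]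
noncomputable def R : List (List (Rule)) := [R_0]
def LW : List Word := [[], [0], [2], [4]]
def par : Par := ⟨9, 2, 11, 20, 511, 2047, 1048575⟩
theorem hpar : par.ok := by decide
theorem hR0_0 : lall (R) (fun l => lall l (ruleOK RJ LW par)) = true := by decide +kernel
theorem hR0 : lall (R) (fun l => lall l (ruleOK RJ LW par)) = true := hR0_0
theorem hR : RulesOK RJ LW par R := rulesOK_of rfl hR0
def cols : List (ℕ × ℕ) := [(512, 1), (1024, 2), (1536, 3)]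
theorem hcols : lall cols (colOK RJ LW par) = true := by decide +kernel
noncomputable def JS0 : List ℕ := [nat_lit 0x9c0726309a5c08168989278241454272ca063061749e72894ca052997ca21291981c6528a4a6092910aa683b84826793615ca8a2b160aa52c17cac12b9a81a692b24b25b2b94b0693b1fc20783617cae82d170b012c9a014672c24b4673a1f41c7b39194b282e9a40c602e1cbc602e94c06a2f04be6c399acbc332198c65331a0c81329bcee6e320ccc6e3c1f0fa79391a0ca6349bcd0535008d24371bcd81369d4ec6f360ce0763b9c8de2389c8e013a1d8e61,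
  nat_lit 0x10070301408030100479027854983c1d88780a1d847844061247631e0147611e0180a411dbc78431d847847071107691e01476c1e1201c461da47a480301c1409040f878e1f92c7a51f138b4110803c9e3f1eb48050300502a642a1187ea20944c2180c9b4bc4e202884513086c38712f93c82a219108452214c1e5021a48e0721b0884f0391c8692201086c221401c4e21a48c5222948e07231090072390945d388582e732f93892a25974e2180c9ecdc582528984f25949a5d04940989]
theorem S0_c : blocks (facts 9 2 11 20 511 2047 1048575 9 511 5 31 A R 32) 32 JS0 374 = true := by decide +kernel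
theorem S0 : On (Step.{u} RJ LW par A) 374 438 :=
  steps_of_blocks hpar hR S0_c (by decide +kernel)
theorem D0_c : allB (defOK 9 11 20 511 1048575 375 A K) 1 2 = true := by decide +kernel
theorem D0 : On (fun r => defOK par.W par.WL par.E par.mW par.mE 375 A K r = true) 256 384 :=
  On.of_allB D0_c
noncomputable def JW0 : List ℕ := [nat_lit 0x41c5715502181154112b400653f12349c68481254706644c5f1750e185174412f4306b469354e46e4c9374786c4192d450724a94549941489291a467490704f5124c5161d12e52538535344ec6f1b5361c53f1cd2c51d531e144545401d92850d3c1d53052c7a56d4857d4c1f13a53d3e54959519551e4775414255c7b5754a5855a1f55e5396359d581f954595565a55c1fd605ad62599645b5685a96c,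
  nat_lit 0x248ab094352a0c5110e330848328eb2ec310acb23443a0d8a631cd8384c036c3f100dd108d40f4cc35cb833c390dcaa32445394c43bce2128f1130ea124d03b4ba34c3b118e731852380ff37c43104da3ec50370f93584e338f511ce932058391093cc4d12cee1690b3c1193b04f348f740ce615105158fe14cfa404de3f451190f848462474f443ce817111179081645b434f246d0a1a9184cc6347cf6,
  nat_lit 0x2241003c870340e22c11048882541a2140c02c8625c1b2341404c8a0789b07094264832000a210a108026258ad23c150588c27c9a0741f274b50b098020810188228c2109ca02bcb10a0ac2441805c8e294220c89e2fcb42f49c2dc2d0b89306407024a909034288c32c0cb2b8b30a42a240a708c33290c13643e2f83c2f0d52e4300bcb633438]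
theorem W0_c : blocks (rows 9 2 11 20 511 2047 1048575 10 1023 30 A 438 120 cols 42) 42 JW0 0 = true := by decide +kernel
theorem W0 : On (Row.{u} RJ LW par A 438 120 cols) 0 126 :=
  rows_of_blocks hpar (by decide) hcols W0_c (by decide +kernel)
theorem idx : Idx.{u} RJ [[0], [2], [4]] [] 120 :=
  idx_of_cert hpar hR (K := K) (by decide +kernel) (T := 375) (T' := 384) (by decide) D0
    (subs := []) (by decide +kernel) (T1 := 374) (by decide) (N := 438) S0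
    (by decide) (n' := 126) (by decide) W0 (by decide +kernel) (by decide +kernel)
end TJ0
namespace TM
noncomputable def A_0 : List (ℕ) := [nat_lit 0x9b40ca1cec2683a084d04d306409940c8280c35835984708410d50d5411c278c34c34d846069208c14261b01b0c23c46086b86ba08f0da6122122c1784d986706730890cd41121a0c22c22d82c84520590cb6110110c15c328843843a0572fa643c43cc5e08750bc093b0c31ae62f42f4c4085e50810a230d909021b21b2c4005dd08010a317f21562e22fe441841c85788290ae10a216216441d02c0839877109f0ad20e22e243e83ec85387c90a60aa20de15041b83d8852052906c0a320d63ccc5445458708a820e11e962a62a6c38854907108f90be0bf20fe17a41f847085e05d907b1916250324c4484a086206290830c32104190421421882b04210550c02100102414c44885b05b90780ba20f40f241342d483b03a904a0e3212e130418c37884984a106009220be27cc3ac4fd86a075909d09e20ce14041a41a8821032903f064207c1a8423423882d846105a08f20ba0bc40e822482c02c9037057206c2f0440440885608010ab106615e15ec1c8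2b9039058b07407460920e6812427d038838a0470fa614e14ec1b4299036837a0a90a940dc0dc8114291836036304306b40861c2425438884b05f307f07f60a20fc81442f183e03e304f07b409e188c20c20d82a041205408560ac0acc0d415501a8403053053606616c81e01e102603d304e04e606009a80c01d982583b904b04b605c09480b825d831831b03d05220c40c480f424d830030303b05f407613ac19c19d82003320400696084084c0a01a0820820a02803f40b80b880f80f9013046b05b05b60700b480e017581d01d302303940460b0c0dc0dd81081b20211016158158c1c02ad0380391048049205a08e40b01b4822022902a043205212ac1f425983083e9050051206409e40c415081a01a9020033203e09840bc0c080e817101c061207807a40940ec8120201027028203004c405c0e0811011901502120280e04118121816816b01b02c4036088c0a80a980c814a0190506064064c0780c500f01a3020020602603e804c0bd80e80eb01101c4022078c09409580b01220160276030030c03805d007011301501560180288030119815815901a01b2020032403c078809009900b011201402c4034038804006100701a6020020c02403d004809300b00b600c014801803580400430040074008012401401880180210020056006006c0040090008009000,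
  nat_lit 0x26b636c6c6caccacd8f515921ea283639027247207218f415821e845966888b4ccf4d1092992a11a325223444ae46946988908d2112034126524a2468468088e99e924d24e233e498467892c8da0ce911b19b2234558cca4ca591ea22332b32b647c65488f89908d80d8912a17321f835e44a49888d68d6112634f64d86a0c9709b08db8dc112f1b6225c37644c44c08648d9912c15d6330330c45c6d58968da314a12d218e4b846a069c89109210c132e24fa480465065488a0d59125193222664ac914c9991d122919919a223222a42e08e88c78c8111118e222031644386308ba88790b410d2166760cad8ec595315b11ec1ed22aa3d645507c08ab8ac10e515621c854c477c7808a60ef114b14f21c029a437c7748a48a510dd14821b8722ca3ca3d8e814721d03936522522c744a410e88fe916016121da2be43b058c8778b310f20f321442ca45b83c48508af10ea11721721d2426c56c8738ad10f00e621323a4450050486b0e6913c13d21a627643489f58ea93f31c31d52284286436036c8488e19136137219c26a43344e0868068908b13221961984221ef1a0a20a12fa2fb243c5f248748808bd10f91791d8228843845dcbb8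90a17792152276302302c41c601083912a17d17d420a458c6146158850c2210a1876218218c2c842d0590c1310910961602b885885890770be2103103415a364c5c85c987d909317017061f22de83e45d587f87fb0aa0fd419e19e83f03f10540b6a20f20f42d82d883d85b987c07c30a516a61ea1eac28c3d105195691e61e722a256247a47a88a98f411522536346346c47c68908f8d2b121121617e24082fc68588f07f111e11e617a23a82f49358cf8cfb11c19e4238338c46c46d85d88d20bb1e522a047a46448f88c90d8312a12a618a25283146b509309320c31b7625e25ec3204b9064098a0c90c9410c258c31c31d84209590c60c64108350c48c410891891b0c0122418024a83043050408ca3114114616e22682dc66588c88cb0ba0f7414a22cc2e42e583c85c207918f6222222c2d444105a88730b40b460ea16681d47b18aa8aab0e315441c62aec39439584c07220981df6298298c37852d06f0bf310514e61c01c0c25037d04a0a4b0dd0dd61241b8824874089f0e8913f16061da1dac2783b104f078214514541de1de82803c9851051306a0a140d41d4c27030884e04e3065,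
  nat_lit 0x46c269e8da4d40d9593713731b82e864206c849b49b50dc1b1226a26a436c6d8c9cc9cd8dd93921bb2706374374c4c09bc8dc8dca13036064d24a049a49a58d993421b31f822ba69ac96c96d8d392d21a733a449449486749798d50d5312426143586a24e889748d48d4a12434364a4660c9089098ca920a19543f264a8804c98cd5923923b19a24643346668d0490d0cb1221197197622a64ec8f08f18c812a923b23b4320646c8e48e58c711c218e32d6874874ccb8c7d91b11b318b2354316466c6286298869191189189421a9ba4ec13789d89e3b2b82b863da78a8ad0ad10f5930223f23f4326658caf0af18f81a392bb2bb43e057cc7c87c98ac0f8a1582b963de3dec558b5d953953b1e07c5654a54ac778a910ef15531e41e4629e3c486f86f90f08f0a14d3ac6546546c774a890ee95031dc1dc62903b685212e09c898ab22f22f630c62cce20b088fa14411cc388251e9744e4ce509489c912903e2659e59ec7f4b390fe968b1ff1ff62c23fc8584b358fe0f191fc1fc62be3f6857cb551008cb120120142c65b4c8188198b3102a16620862d041245a05a18798b3a0f320462ca406459059107896531fa1fa62bc588c7d87d9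8ad8faa15b1f442b22b28398e5994998c129329363a45248748a558ea0ea31411d34282714ca28a298e6944a1cd2b563d6518c73c73d89e8e7213d2876398398c4ec72d09d9bd927e29863ae3aec50c7590a18ecb14714761b628c836c9fd8e28e2b1371ee238838884dc9ed8e10e131351c1426a502c71c71d89c0fc91c61c6427046ec6346358878e4b13a13a61a24eac6f46f58990de21321bf6268268c3304cd0663e217bc42e682a82acbec8b898a18a22fb54c6826826cbe504917c95ba1ed3c665fe5fec880c211131df12af30925fc5fc88808310b597132fd2fd643e5ce4bf0bf110f9d1329b263435e42e4a6ca6d8ec14d21d841165f061c4be0be190e17ba21c7c36f84f84cbb9f051773e032ef7bf45de614489c8a08c09131180307244a44845f4b511c81c822d32d3440058ccc44b1d8fb988922c22d230a460461c6208860c3110b229230430644247dc8ae100116222322f82f6440c99c8d910b11722eb242442645c08448b78bb10ff17421fa42045b48388b6105916a16b21ea2d243d1ef99de1de32ad3bb455a404c58cb59957957b1e72ae43cef7acf04f059589e022b1,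
  nat_lit 0x3242472a28d1194559f1a23132d322247064048d8d2492c18f123531b24664684629f61b0cb0cb4dd5dd49bafaed399399a6f273a4de4f5278e7904ae13d09e29a592593c425688de52e4d4c9301e612bc3ce257c57e47c8d6893295e91f13c9257257447bcfa896bbeb17c53af254a75c4a90c089111db92aa3b829c65564790aa48f11d993122a823c2a26d3253259cf26c149d3ad25467564a88ea8a1295091dc29f23b6faad7ed7eda5c271a4b842f262afa8d7f17f1a5d2f324ba3ee65b2a46d2f12f19ca25da39449566e84f04dd0dd19c925ca3923e3259e7ca4b44f9c98296911ff3e0259a59847ecfa496a9f813fe2db240c5b24814b7490416811fe20722ce5b048114159eda8333d43db259459647e8f5096216291f61f322b2becd2fdf4da5925f939639525247324a54a588ea14a11d34b227147124a24a348e794591ce387250e50c472d781a4f24f337b49d46f67c24b38e7894c14c91d729723ac7164a28a708ec8ed114737c24fe5004714de093d9bc936227c23846b849989e88e0a48337f49166e06fe4a04a088e3990923737024ea4ec46f4dbc9ab13a11bc2c323ea4ee46fc70089a3e937d17d16f88ad250b9534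a0ab15954c54b282482e4bfd08898420b12fd35724c67424a69528a08a0812f77d02f86f9ecc29f39185212b30c30c645061688a155da10a10b307420460e60c9079079182982a2243e825a87ae4b1d0b1989989b22d312445a8628c5cc5d11818d223123143108508c34c35114988222a22a43066088fbcfbd181981a2233016444444c5ec8850bda3eb35e35e64ce6ba899cbc51d41d422f02f0442c846d011011975be6a2eb2ed480c80c8bb0bb1109a0132ea2ea64225d28844bd590d90db17621a42ec5e6c8648ac90c90cb17421842e87fccb98b999071fe92e52e5441c5c28ec8ec9170170220b2e3641a41ac5acb7990510531697cc6f94f96df25f28bdf27493bc4e8277677a4ab9f24bdebe413c14ed27807864accf089591c112833bf2560b2c516565ca2d3e3b2547c644a88c08d08d09129231b34834864ae694c9649658d312c21a634564ac4acc690d01127927a1a0367667c67cc93915d99e19e324c33b4498670c9249258cd924219b3ba2558afe51111149958e5113a28426548eecd64d659321ac226447a687e6b6c9989998d8932a1b147366ac6acc988d5513127717c1,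
  nat_lit 0x4182aa2aa2d05d54120bb3db55a56b2ab4ab4d08956521133b354f54f682ca9c90596e5a3aa44947547566ae8fe8d7d711aa4aa4b410462468c81e55215212081b9327649348188188bd1515b37334353e66e2aaeab050852289b4a0f93063b529c0a34986986927027023e863b6a14a14cf5d4251ebab3142c42d2626ada5a250c098ba1a131a319246284e4c34c3c9152daa47249f683aabad091091aae2ae34664a066f883a4c11068980980122167c6b82cfad56d704a3eae1b47e5562840b8458991f89af23e135d55b2846a7c501101497629e94023696806814cd48d4992f9b5327140325d48024ba503897aa0592f33ff25cc9fad021021a7f27f33ce53147f2a6090f94bd1fc29924413f925c27f04b80fe89719fa92de2df2414c60d4d4ff11e4172120d3fb2a6aa6ad3a51e59ad1e694fc4fc49d2d12d88565522c2a0962162169d0c4093a13511d49d4a2a14d369d49d4cef54591f2a6135a85a86986986ce64e6d94b263343c43c6642af0d89136d1d7b0c162462469dac4693b5899a7927933c34dc29e29e28f0d15119cac7b4f04f067849188db5741a6c26b94ef4ef4784bd4929d29d1c1242a3665cc69d8b7491d93d9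1e4a0492f14f729d89d8cefd1a11a62b294eb4eb477ea3ad6854799f52d0946045f2684b12968d335303b03a4cc4cc4742b10913568ca31a3213484662694abe91850989862af14e7461268a5ec486cd1892b22f134033f249e90e4d9d16c99f24ca37841c2606b28515d01c976a2c133c45626768a64ce0ce4924bee37db7db67749345f69f69abfbeca57f4fa4798b0292d12d12c02c0244528547067068a11af1ade35eb5b75bc28ee960d1e12c59c4a3c135947626b0b6e51cd1c89aaa8633da3a36966be295b92cd9c5ab1354d56e286287291951951a4ad324ee5122b5ab5ad1b10ed99021e95795796b5e9504ed0ed195426f95af5af68dab5c91b52109b29b3126e53a29228004ba0d849352e3b48b47446aeb70d20522c9b61b6927338d46d67188a2cdac9391b4127027123749024d80d7c9341ecb2c93da2592592c7e0f6096416421f85aa29208d24d34d3892da15931034c24b45e8486903499d179121825f23546a84984cc492119792415bd4af4af490fda55abe2be344057b48808a04cd4cdc92419b1247334248c89a4ccccc8921a209327328247887c4c8cc7199218eb234,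
  nat_lit 0x6644a76d5a966166122da81a5dc3d22582a045321770a4cb54a59259e2b24b249159639352352258d58d48a6d4c97d1641a2aa2ab339384250abd692a5734a432f6152f4a92706ed65af1db0b5eafa14b05e54bea9484e01790b172fa94b16bb6b6ca7e56d96d9a3931f950c4ce2746aee50e55bd2ac21935704336632ae050ed769a9b29b35db49826eebb656b9b2dae5ae5b4845612b94b94921198d29ca9ca40042a4ac6ac690a50a5187a41a5c95c949049048d852d49c6ae2b48048066bea164f6554db3c33c35546b54b52b5291a52359b6b5fb5bb5bb68ecb5691a96b0a35a35b34e5b368e28e2cd511c11aa2b9b4345834892b085129129998b6015bd75c2d2aebada59a58abe31e150a6942af68a4914514519b2c3344c44c66648968cc95f92212212328447686e890ccbd0dc98e21c131d7162c52c8a5451918a8aaba268f43666369884e6959ca1aa1aa31b70a2c32c3e5399b7db14b14b4f462849e8b32d16d67db58b58b5a05b148dc8dc8d4d8b9a7da7db3cc61569b49b4ceb93651d727233b93b965567948ae93859db27c94193cb276c76ccaa5629b222c5b4506442a26c24d3593599d5a6aa3ab68f2bf68b88cfd669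2b52b5242f72f4ddec805439b20ae3b7795fc5fe2978de097f57f4a5db4d15805d7292ac8ed45d45d9f2a8ca3e63e645a4a7690054451ef1ef22cc64b6a38a38cfa510ca8da8da3e94864a4aa488fc14949f89f8b2db52247da7da8b654a59fa1fa32dd3f345baa408facf7c9f61f632d851f27d67d68b618dca82b1c150650e67ba7bacb2d125198a27b33450d27b87b88b2d41d9eb1eb32c52dc640e7c84f54f551629e8b2c12c163e679e8afd400a711e812c02c043e6c0092f52f51caa62a39a39a452cb40d17d3019cc1cc329446a469c96cce3ce3d946a79b3c44672b4eb4ed2bd2bd9c3a572387386495a95a8e14e151432f0949e4ca6740740ca651389cf9cfa2994c8473871c4e74e7594b9d3b29f4c727387388a5ce9594f1d3129e29e63b453a8768df99402aab4a14a22aa09424df4df514025f339549b66f46f4c9f11ed1bb9bba27a381494a94a8e00e011412c9b45649266e472e4dc4dc513b247a36e36e44e8aa8d069221a8228234893d366e66e6c9dd389a0da0db30237564f24f2c701aa9342b42a56962a6dc2dc2d8add29b3a33a354b6734a96ceed5450659802a91479,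
  nat_lit 0x6d74baee5c9ccdb8d3be3be26e26e24bd2e5a98fdcccb23bc7278c78c4ec2e0e9929850a6cb8316a964a2a32c92554dcd0b70324172f51827ccc6a9c7d8d1280b8f964b7356c98e7a5b4d964a95b26151c73b2f46e845a0d97ca9a32a152452127dae0ad84d84da9532c173652a27e8d40562995ca94b3115396502a40f329c8dc8d31bbcd37267266c70e4a98e16c8a3828793dd7272decd4a5639ab8acdb1c950763a4a10cb454b5614a25a8413d650127a2c66d3fdbc93c23c226f16f14bfce629c71c7138b319370a4ff279edecd80dab0acc36295c5603298abf0d2d5809a60b00b5a24c12730e28989dcf0b9fb2a952662729e6be452b92ad9c22f7a4ac582288ebe056912b09c2b04b6fd6fd6c14c14d339bf9b6f36f35e16dd4bc2e04d83d83da6930717014d2274ecac94a14a1268b0695374d1274a99e5144e9094eaef96b26dc2d96bbc57952709bd36115bf5be28f6bce92999c4aa3af416124a62702da69751abcaceb6a17775d4291eba655a12389b72eb34946a32b1abaa5b552509b9baa16856e06bc6bc45b7d28c9bf2f196e174b2ce8c0adbe9be9b0326593a06062ce6c085329bdcb3ba8813de6422cf6e02dc25c25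b0bb49a75b75b4d24e8099e9cfd32eb3d15597514cfecfe9d35b90af5ba696765642854cea5539af8adcad1146268a6cf2cf2d5614991f91f9252761629b4a4e5469dddb94bce374f7292c766ec49e5258a84ba9b6836836acce48d8dda11ab42b4342d6924aeed1095b15b12183402560560484e9ca4ee5874aaeba7967c6c42b86d8696fd6fd23e3b0a70f69b4e64e64991999d3a23a226666664a7ae8cd9ad9adaa1335162a5422814dd6d7d19bcaa32a3a6706704a8ca8c90399b1aa22a2340b5c068f8cc0d4e14e19ffa9ba3ff63129fad049599cf9b2e36615cb6532a44cb854c1974a9932f353453467f4a8654cd4cd1fd327a52b52b47eaa5acfdcfdd96fb34b61f540680aa584fd8fd916fbb6a76c7a34eb8daa9dad7e9a5ba5bb5f95f96c20dda9b01da8b5db8c96307494d32d329aad9c8aa4b55959570f2c40c205351888a7537a160061729b6c225355c10b11b1294f05e9294ee6cd935ba8b782f994af64d2a3ae6ed939938a8f34f9589608299ad64d695695a322d224645ff297acfc557dac12ceacea45e5724868b369171670a2ea2eb33f6ce6b9eb9ed21d739243a9e2664,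
  nat_lit 0x55610a0a4c2001dd05b026b07a04e209c094c1d813103b831309703360a40bec24c19984e833106604160d208e81a009901f81c905c05a611a072c1740d982c055b101061612a0fac2580b1824014b04403160a003ec0d0071817812303c017604e028c0880ad823007b01a00a602400ec03400980280020007902f26f705eb1e3cb8838c162d7982e44f4e5d55df8b733d917726e66bdabdadb95df4bcf372964179e4e58f765eb9e7cbca396163e7ac4ebeebe9eadead3c6bad36917aa2ef2eb25d91a44abb3ce972a7796db4db25de1764a4bb6d170b7b96f68f68ddd9eccbd13bb16d27b72f6cf0c5bcde24b7fbc9171a78d2e1af5c9d8dd8d395b4f27627624d3af5a9e85e80b983d817687a12e6aef0dca1ebcbb3bcd97957282c74f26dc75ed4bc73bf96e871d2c66f6cde05e05b7abc397126f52c02dd29e01e0137437425f277b2dbce5658f5e28b8137fa60c69d4b0ec16933d830a6826833a47224f2ef2e9c85e21b7c37c36046434e60e609909d55343bd417b17562e98d0e55b1d9dbd23b436b87a42e8ce005bede08b75a4ba5d85d8492cdb0d9b5b58aeb3a416d066d2a88cc254e1d04b2f3b896c67382c9ef2adee9ee9b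cb39016357962edaf629e45e4538cb88376e76e6e22e22d889c4d37e37e27127124c4af44dce58b538bb8ba62c62c49f0ca4d485ce8bb032897397396d3eec89a7de5138f38f26b37662f32d665695b05bb7b79b5ff76f2ea0ea099f9bed3c1bc1a6ec7a64ee8f4a9d51dd0b6739097696362a06e98da05a05ab2346357168b6e96ae250cdb34ae73b997517852de4e86598ddc9b6536535c86c92e5cb9052092a9af72f734ab6e76bf0dd857dd7dd25ab6325c67522d00d8e5c15718a4035c15b37694d72d7296d1ae8b92ada14717702d86ef45b75d5cb453d4975d6416d6ed6ed6c996da97297358c6a22e92b1851498f934e31ea50b69c2b0cb0e5131a61abebaf179c6972d1cafa51095d9a1c395369068d2ae4d2055d55d521c36835d15d16b60d6c579d6c0a3736795cf7752e4ce2a58a18bca7dbc5a7037034c22e18d871994a9e384161561c29c89f04f29c2db0db6d95da6ee2bf4c365385be4b02b5a15a974e2cf2d42562db492e92e9248e6d16e8ee8edd95d95b5f35426c468e6eb0b225155a9cbac3ac368f71a6d0ce1ad879879a72b8737457456cd2e36d8c5a18ab53b026d7,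
  nat_lit 0x2e96804434cbd48619798c1a22b2e567fc77acff482d17095393b220c65c6412cb79f25be63e537cb34348c068ed18c9619a512ab34525046804decd9cceda2b924333828443946b0d1dcd6ca3d132b35b35568e68d8d3b89b59b29b232e82e766c84d68d889c99b60dcb27024e64de4d0cd8068112812d334d24b46744bc49286a592f1a8a26125d46a23588974cc09a1920b330246666a4888ccc65d121928a24423b664e348c9548e1991920332d31f287446acc7c6259198c422322b7678e56a8f146ad130196123f2bb66584aecd1c7c595f0f732b920365ae548df1478d9550a6a1e2133237c544ceb076d9501173315316245e584cc58a219611c432883e227c459ccf887f99688fdb2cd14f63c64048b544558cb102b2da16764102d2c8245919020f032031f965943eacb105690fa149339623046303a6ca54a259c514612b51ce6518396ca1c75994c0a331d9146228c388c9fc5598f70e0b27b1c665022bcc7e463191b8e4918d1396392378c9d44cd8df98a342e186645c824d530f1895b97f33c63be46106128ef8899184971120c2fc65c4420cb9ca699d110ba263173442e5eed0448a51873e0b7c320045a851c4e40b18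9698fbb2c6311658e776def8b5890115732d63c06f7a6c649acac99b195832830d1627267ad164d11a2d128b34119d44963cacab0ca9a220d7a17325c669e4d8cd403a58ae8da919814a636a25ac6d09011970c9a1ab23a664a48acc9843d8c615333b02b6676251cce44a419c9878a1650e9422e1cc856870d93e8eab27e4146f78300c89c5f91128c2322c1842308216c61c4218c1074215c10442f8256c6c85bd90907f31750a841fa114433c3d90b68ce120f0f762dc1f043e03d18b50d13253120634a23ac6842a987f0cf324d11a633847ac7944a58d8093a1ad12e636e19484c431989607db12b122635015a8410309092889b194118633222c43dc2e188b088318f0b3621c2a8c7b03918ab8a5b1df14e22fc1bec5383718a487631600a041e01b4451428587904db0ea0814184132c39c3b907406ab1400b062101a4c4f035d8a105d311809061b419ac4d8229868043b0cb086419443acbe86b88938bcb1ae17762880bcc2405c590a0bfb21515063cc2a4c7a44498c889431920d4627c1d6c4fc2b9883039b0b1068413e14cc3e811503783e10a906b61480fcc2f81ed85e04130c4,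
  nat_lit 0x5944d549ead8a99cdba52a836775526832830d548c01a0c2acb67b42f4ad6a9cd9d953caa7a3a35b93684912b8851fd521ae2207a4622f6481e9264dc9035249aa2940c53e6a8acdcd9a107d245154b3b53e84a34cfa5869425b1da18256d49f2b6a6f8d27d199aae98594244a02ab883ad28156db3e2e0b67d5566b86b84d5591f9ae1138b3692f268146d44d4900d9b51e734fd2f02810a6253f91052989fc253043e4a5e7f294c93f1b1817223fc3fb45c87908fecf35a3c95eb3cd6206d12a82965501d2a09d524d44d327527fad34d308a8b1ccb4c24682b509e4530d3189cd9ec34c65782878c46d5e186126da6e26184f16c4c75e937163ca2a277b58f5d029189aed740eb5a6ba5425ea5cc290a9d6d7313d8add204a4f64f7481279293dd595234215a5653ea6a3ab42d4791352c49d0a4cd57a2c0eb10533168d2c4213255f55e484c8c29578d1917b20e249949a4838afe9775268aeeabfb6195dd0fb4c321f655fc3ec273b3ba4e647747741f5d39c3eda6f07dc25445484a8ca94a903e395287c62540f8a3461f59799acb2fe25965960fa89c6d65d7ed2cbacb87d55694b288b0901cde124d2c094fa4454b0271852d0729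142adbb6bc5bc6d7a712d2c11e1a58a89350c29c6746ac497c57d8a59a1415624bf6a9496495295283e9aa6b56e31e4872828d0510503de17d07c421d0fa22f01f498ada7a98522eb30a68465d61f3d08c3e718507cd2ef47765decef0eec3e01de07bf2ef0f7c42a1f285fc3e61e094ee3c065dc7828bb88503e4a7707c82ee0f7a7821f04f003e115887c31e90fa0b4c51956b52d31f0351243d6876644d0f56b9abc9c124a84df6768766d37d00129d240b5c75b828e8916d6e0a2d1c69b5a38c2c867b27c08f68c859ec234a5aa34c485681acbd097d97923d25bd57b6d2a66c8cdc8d198e192331d3e36a2888cd454c8199118f33495dd6fb09cedf5cf119a59a9a46f2bd46b476e8c08aad9dc15433b33e16a26bc05324eb526c150a3aa4e36faabccdf5148c9f725db5234b9692a380c9e0b491f396db3f020765a07a8d414f6da8325935f64bf6fa693ad780e799f094e238b27c66f24f48d70dc1a481bfb49127446de4eecb0cc2da12a103557224460c7585078c49a1618c2431232463461c90a08ad188111a3042da27de442cc04d75a3e90b22f12a02750f9ad08c84d176a099406,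
  nat_lit 0x6fe2c14dbadbf9839b8128b960f4d26c1ccac595983532b1f995284d14c1a748d33db71aefa4e25df5de6db8938d7796f9361338a5e75e84ce294c97a1abd369b6a26af5d44da891c974da8daeb2eab6a34946baabc4db8128daf12f1b4a34cb6c0accc5be9819a65b7ba6046424a20de8dc05a4cb84abba6937402eb6cba9d019e939fb7227515602cfee9a9b919d52b22b7b68a6164a4c5b84fc949d30b3a7b7777296f3892c8dd9d4cba9b4137536842e48aceda11a20b492b6a6885614d00c3a9395701361b4d97615844d36cce5cc94f5333ba5174466a6e8cd5459ad509b35337b6eb6a66cde81c951dac0b382a1b66c6602b80a6ed981cf8b41366373e6536d98cb8d94d4cdb2f205b54351f4c9e7ecd4b5500b34a96354053f6a58d809db5dad3d1bae26d56106bf471e52ddbb4afcbb626ed7194ed4ce49d255f8b4cb55a6726176de8e08d845ba9b9b2f9b6ea64d6be6c9cdcdd691b5933f25ff59e4d60b3895c91752cdab9a59c5ce6d9c80294f1ab4b322cca6ad3d24a06a048f497712812c9a6a945e4b3c8a696399a0b522c816a64546b20b9a97ad7b12e6a54a5ec4a44bcabc892917d52f22dab6bb4056a7e86455bcc65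a192b834334986bb47f854d976da4c2e536cb4274ac2a74998cc3d2152aa956348328526c2920d7a8ae4a3fb5c541a6aa6d6a59e16a935aad6348d5ba6d7eb5656ed1ad2d5a4635ac4706b66b0655cd1292c1b2325846966ebad28d8f0cdd229225b5864434afc65ed11d120a2421bb4486456e2c86c55d1311a1b21ab4c442d6acec50db7d67cacca2fb59f5b12d628de96c53e9b1726cb6153b869c89f28f28ed5a709e5a4f92ba47968a0d629911ac5a6ab61259a28b8ad69669901397b6426406ef4d90bfa9bc175d34d28b36473e74a32a2254ecf7d288a8db64b32848866cc9218fc5292242b5253ee4a447e6d4a4fb129016623df3f54a3e7b8d43913ca24a86b44f44e6a1a7aad41cf9196e16833e42c067a2a008f3cf4128015fa3d04be4c007369315300ad01cbb4c04b628d471cd2d919da799a5b4674ae6b4e70c4e18a191c32f894ad39f6994668d138e75264146b38e4c7674e74cd31ca759d294fb3a64a266fc83ed554df5a5124524a149b297c6f2d26cd7123d94123815e6294a924564cdc5a4914a339736f491e9105550da1a441e995042c367a676ed388dd4a0d93c3375,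
  nat_lit 0x7b86f20e309e41e3dbdc38c378f7a76f30f649e61df9bd3bd9377e77d6dcc95457b5b95bbebdda79e79f4f76e589e7de353d634c175f75a2f56f54dd69d65bd5348b75979d6f3adb2dde5765b6cb6d35d97912f72f66dee5e94bda3bb37b37866f6ef249edde25bc33c9378978a4f5cd3c5d8d61d34f3d697627a04f5af609e81e853d83d7b77879b6f5ee50de6ded5bc9bbfb7b571d6efef0eded9ba4bc0b7ab7875f24dd2f165e01dedbbdbc5372b7824dfec165a75341305b80360c6364e44f105e5dbddbc432196f85104c86f509d55d593d4343a7566b86ecef48dda1e09b801bb24976d82bb0dacdb61d21b6b336b7487416cc2e709985dc5ba0b9c37717206f2af345ee9e59b903b527b16226e20d825db9c4cb88b12a7136092df8ec8de893e1316b8a17176522c58e74d949945b9d290b6517664f28c685c79acd3b32df36c17506de6d849dbd82137dbd317837544f4cee89e958d9b90b3ab74c68c2d02e96da31a2cb45ab8b68b7436d9aee69b35e153b9ba1a7856c96ee4dc65b29721b649c234aa6e72bdcbeedb9d821b763a926c66c74ea4b8c9b1dae93b4b6b96b95b44d74ef4ddc1ea53b83abb77a7a96eaea1ed90596c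b5bb51365b3f72a5cb18da8942d31f34e263d75e6d30d2edd795f5b4bb46b57663c6e54aeada35a5134835b36d048d2ba2b60dad9dd5b67b17a6cf7156eeac5edc55c113c5b8617036656e18e10d995871b8436db70b6ee6db6c36dbb9a8537cb5a36f974e6d68d42dd3974d36936895d26be6da2cd85d1daa0bb2ac8a6a85746d1cd4e9645b11353b18b71a61d6e1ae1c587987db8738d97456866e36d349d818fd3972f4a6e37232ef8e5a5b89ccd396b87a78e7072f18c289c1dc1930a32527067346c92a309925921b9a28c36485014c6ae3e98d1cf5b9ab2cb73d64c6cb2ca89cedd09b9db2fb7426546cbecb0dc15358b09a9536586506d40cae9a8198932bb2826627244f32e4ade6943d2d9352b7276394e4ed5cda958e5b5732d263a5854cb4a109615c29b19aff26f27372f08e625bc5915398b19171c4ff6c64d58dbd9b15b56301b6c56022bf0b44d809305b00b9e27146554e78c4e99557bca55ac125ef5f04b0495897c1339b04b5f96fd]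
noncomputable def A : List (List (ℕ)) := [A_0]
noncomputable def K_0 : List (ℕ) := [nat_lit 0x26424c2632611cd18b1cc25c2271c925a25929f20529d2082061d020a2091a420229a1fd1fe2972192181ab1811822122111a920f20e28d1ef1da1f21f01f91f719e1f51f42881ea2621ec1eb2861e71e52371b62352331b817a1b720122d1b31bf1801be17d1bc1af2252241b01721ad21f21e1d21901d11921911cf14e14d1cb1871ca18a1891c81851c72042031a218d1a31622001ff1fc1fb1aa1691451461a81651a71ee1db19b19d15819c1e91e81991e61e41b51771b41791781b217417f17e14417c17b1701ae17116c16d1ac18f18e14c18c1321881861491841831a115f15d1611601a019f16816613b16416319a15515a15715619815219717617514117316714312b14216f16e13e16b16a14b13114a11914812e14715e15c13815b15913a12213915415313515115014012813f12a12913d12513c13012f11812d12c13711f13612112013411c13312712611512412311710f11611e11d11211b11a11410c11310e10d11110911010b10a106108107105103104102101100000,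
  nat_lit 0x3933922a438f38e37f3583eb31937d37c37b4ab3b53b42b53b235f2b721d2b62551c32542571c62433ab3903aa3a82b12172b02ad3a33a249436427f36636528f37437329620c20d36d36c29436a36940c3542f935935736035e28c35c35b48134f3a93513502d63f23f02d823b2d72d12d02d426a2e02402de1df23d2dc2c83e43e02322cd2f12502f025225124d2ed2482472e82462e72c32292d23d338c2c922c2c71ba1bb2c02232bf3552bd2be3c53c331d27331c27527431a27027a2791d621427726c3161de1dd1961d931026530f2df2691ce26726625d26025e30b25b30a3853842a029e3812a126d2a320b2a229c2d326e29929837a2b421a2b321c21b1c21c11c51c42af2132ae2162152ac2102ab3633622071dc28e1f32951fa1a51a62931f62923532fa28928b1ed28a34e34d2872382d523a2392cf23623423f23e1b91e023c22e2cc23022f24f24e1c024b24a1bd2452442281f129b2262c222b22a1b12222212bc2202bb2722711d326f1f81d51931d423126b19514f194,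
  nat_lit 0x34233e33b3392831e328233133056644551644251445144f27c27d44b4493134474463fb33a43d43b5a843733c43a4385ab4354b564f4b738a4b64b23b130538d3253234bc3944b43963953914ba4ae38051e51c3213224ac37e48339d64b6474e63b64e43b93b74e23b33bf3442b836f3bd2fd2fc2562f83043032582e64da3ac4d94d73b02b23ae3ad3a63a54d03a44cf6276264953353344983674974a53754a43773762a62a52a92a84a136e4a037137039c36b49e54f40b2fb48935a49236129029148f35d48d60a4c24824863524843f53f45233f33f13fc3f92d92ff3f73ed3ec3154054042e13372dd3e33bc5133e53e12ce3e93e841d41c2f241a3d02f42532f32ee3ee4182eb2492ea2e93e64114103d83d72c43d43d53dd3dc2ca3bb2412423d13cf2c13cd3cc3563c83c74f63c63c445f31e39f34931f27644145b31b32927b3282783263174564552812801e21e127e44444344043f3363141d71d831226831130e25f30d43633d30c4343863874b338938838338230638b318,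
  nat_lit 0x5b743e43c5a95a75ad5af5ae73172d5ac66065f76c6644b84594c766265c65a4e14b94674bd66f4be64e4bf39749a4bb65d66c6566524af51f52051d46665064d4ad60f6fb64c64864a4e75a44e868768a4e34ee3c03433be4eb42a42930130042734042e30830740f68b4db4dc6865e35354d84392b92ba4df4de4d33a74d24d159c45062c6286297a154333847663263049962d62a5956434a66406163794a73992a73982aa32463d62e5275264963724a239b49f6376356ef54e42861b61948a62562149336861e49049161c76660b4c160e5ec6154874856135283f65255bc5bf5244175303fd3fa2fe3f852d3ef52145345248e4064e54094084774024015124e95bd3e22da2db5193ea5174ec41e4f941f3b856541b2f53df4212ef4195634162ec4144133e75594125095083d95073d65055113de5102cb3cb3ba2e32e22e55033d22c52c64ff3ce4fb4884fa3c94f85005014f74605d737846139e3a034846446332045c5d533245d46f46e32a33f34132746a46845a4584dd4575cc,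
  nat_lit 0x7c35b45b65a369055368881a57b57d4ef4ed63c58c58a58758340042b57a57759a43042f4f04f175a68c4cc60d6895e05343c13c258b59168e68d4d458468168059d59b7a77a38987a26df57156f7846334d562f62b59464469e5965987bb6414a86206454c54c439a4c03a172863e6c95515414a354954a6396386367b17b584d6eb53658179761a6e67896236225cf5d349c49b79d61f5565606d78887654c378d5eb61748b48c6147916c15865295e55f46115626675805316cc6ca5226c75f25c54545c461d4075a554840a5475f352b4035456ba6b94ea6923fe3ff6bc63f51a57963b56b53d56c4205ef56742257356470467e5612f62f755c41555b6f058955a6ae6ad50a6546315066ab6aa6b56556a66a74fc40d2e46696a85043da3db5025385935393ca53e6a46a569f69c5d86db6dc4625d94cb34b5db4655186cf6cd45e5d65694705d144e47946c46b5e44695ce55f60c5cd6015ff47a47834a2843463453334745ee5b95155ea5b85be57c5b555d44a5c144d5bb4485ba52e,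
  nat_lit 0x70b6776754c94cd7297277be8494aa6e46e87147b65427b27b484c8d26ec6ee58271779879a4c86e76e578878a63449d7a079e4f36f96d66d98c188767379078e7937928108275857027016ed57f6d46d26cb84e52c8456c85f15c85c65c974375579b50f54b6bf57e5f552a5466e15d48406bb7d569382553353253a6bd6be51b6c259763a53c70d70c56d7705746426956f770870570667d6966fd4254265a155e6186f680a6f15886f56f383668468557256e8326ac7cd6b66b77b355255040e6a982e50c50b50e5375926de82d8296a06b87078566da6dd53f5da75d5fb67c47e76069d5dc5787736ce5406d375b56a5685d25d05c35fa5f95e646d5c76246126c56005fe5fd5f75f647d34747b4755f05ed7487465e974473674b5a072f6e25c25c070066e52f6d07417406d85a67377355b05b35b25b183873272e7337df6617a576a76d6656664c66637e365e65b57557666a6685e26707ef6715994fd4fe4d653b66d7807d46576535446c65de5dd7cc6514b04b16106fc6fa7cb649,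
  nat_lit 0x89c7ad7af8748617858158947817c28a371c8647c97c767667881772684a74a7158a28a084b8d38d07757fd7fb60678b6997ac7ab79f8188c08c28867ff88572a79479681180f82882470385573c6d585084f6798468487c075775679c8656b46c077154c54d6e384184284483a8266c381486670e6947097957d16fe7c17206096f880c8096f27d26f478f8378127de7108b489b83375367472283182f6b150d6af77c75f8c582a67f80b82b85885776f5a275e88e80160876176373e85975c77670a5ca5cb5fc77876e6c46025f87726046037217997477495e788374574d74c7305e875174f81d6ff6d17dc8827427e573873973a8397ce7e97e07dd7a67b87e473b86e86c7db7347117137e866b7f37f27f06726a16a268389377f83b67a6e08358346b05df7cf7d065865985b7ee7ed7ca7c473f5aa82169187186f47c6076986977b758d71858f58e71d59f59e69a80575981b8165e14f459071b76b68f7f57e168271a71e7a97a87a489989a7ae7b070f5707837867827bf7bd7bc646,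
  nat_lit 0x5585575555544f54f24e04ce4ca4a948047f47347247144c43343243142d42c4244233af34c32f32e32d32c32b3093022858ce87d8bf8da8bb8a68a98be8bd8d487a8b08ad8b68b28cb8c98c783c8908d685f85e88b72b8728af8b18cd8cf8c47688ac7d87da8d789687b87e8698aa8b88798db8d97f88b77f782089d8b98958a48ba8537c88608898a58a18a88d58d17fc89f83e8c38ae7698bc82385d85485188083f86387772c6e96ea72584388c88d86780d86a8b58b37548008ca8306b26b377b8c88c680883d88f89178c76484777786275881377485a78760572388480e74e8037508527e688177a77973d7ea7b97e786d86b87f7127167eb7f17f97527c689267b7fe7fa8cc89e82c7678ab7d37d77d67627d989785c87c7ec8688a77c58028077248d88706a38227ba87587387687871f80480681e81969b77d81c7f67f47e271981f7aa77e88a]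
noncomputable def K : List (List (ℕ)) := [K_0]
noncomputable def R_0 : List (Rule) := [Rule.mk (nat_lit 3) (nat_lit 45) (Steps.bwd (nat_lit 3) (Steps.bwd (nat_lit 3) (Steps.fwd (nat_lit 8192) Steps.nil))) (nat_lit 3) (nat_lit 0),
  Rule.mk (nat_lit 3) (nat_lit 213) (Steps.bwd (nat_lit 3) (Steps.bwd (nat_lit 1) (Steps.bwd (nat_lit 3) (Steps.bwd (nat_lit 3) (Steps.bwd (nat_lit 1) (Steps.bwd (nat_lit 3) (Steps.bwd (nat_lit 3) (Steps.bwd (nat_lit 1) (Steps.fwd (nat_lit 8192) (Steps.fwd (nat_lit 8192) (Steps.fwd (nat_lit 4096) (Steps.fwd (nat_lit 8192) (Steps.bwd (nat_lit 3) (Steps.fwd (nat_lit 4096) (Steps.fwd (nat_lit 8192) (Steps.bwd (nat_lit 3) (Steps.fwd (nat_lit 4096) Steps.nil))))))))))))))))) (nat_lit 7) (nat_lit 1),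
  Rule.mk (nat_lit 3) (nat_lit 213) (Steps.bwd (nat_lit 3) (Steps.bwd (nat_lit 1) (Steps.bwd (nat_lit 3) (Steps.bwd (nat_lit 3) (Steps.bwd (nat_lit 1) (Steps.bwd (nat_lit 3) (Steps.bwd (nat_lit 3) (Steps.bwd (nat_lit 1) (Steps.bwd (nat_lit 3) (Steps.bwd (nat_lit 3) (Steps.fwd (nat_lit 4096) (Steps.fwd (nat_lit 8192) (Steps.bwd (nat_lit 3) (Steps.fwd (nat_lit 4096) (Steps.fwd (nat_lit 8192) (Steps.bwd (nat_lit 3) (Steps.fwd (nat_lit 4096) Steps.nil))))))))))))))))) (nat_lit 7) (nat_lit 1),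
  Rule.mk (nat_lit 3) (nat_lit 45) (Steps.bwd (nat_lit 3) (Steps.bwd (nat_lit 3) (Steps.bwd (nat_lit 3) Steps.nil))) (nat_lit 3) (nat_lit 0),
  Rule.mk (nat_lit 1) (nat_lit 225) (Steps.bwd (nat_lit 2) (Steps.bwd (nat_lit 2) (Steps.bwd (nat_lit 1) (Steps.bwd (nat_lit 2) (Steps.bwd (nat_lit 1) (Steps.bwd (nat_lit 3) (Steps.bwd (nat_lit 1) (Steps.bwd (nat_lit 2) (Steps.bwd (nat_lit 1) (Steps.bwd (nat_lit 2) (Steps.fwd (nat_lit 4096) (Steps.fwd (nat_lit 8192) (Steps.fwd (nat_lit 4096) (Steps.fwd (nat_lit 8192) (Steps.fwd (nat_lit 4096) (Steps.fwd (nat_lit 12288) (Steps.fwd (nat_lit 4096) (Steps.fwd (nat_lit 8192) Steps.nil)))))))))))))))))) (nat_lit 9) (nat_lit 0),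
  Rule.mk (nat_lit 2) (nat_lit 45) (Steps.bwd (nat_lit 2) (Steps.bwd (nat_lit 2) (Steps.bwd (nat_lit 2) Steps.nil))) (nat_lit 2) (nat_lit 0),
  Rule.mk (nat_lit 2) (nat_lit 225) (Steps.bwd (nat_lit 1) (Steps.bwd (nat_lit 2) (Steps.bwd (nat_lit 1) (Steps.bwd (nat_lit 3) (Steps.bwd (nat_lit 1) (Steps.bwd (nat_lit 3) (Steps.bwd (nat_lit 1) (Steps.bwd (nat_lit 2) (Steps.bwd (nat_lit 1) (Steps.fwd (nat_lit 8192) (Steps.fwd (nat_lit 4096) (Steps.fwd (nat_lit 8192) (Steps.bwd (nat_lit 3) (Steps.fwd (nat_lit 4096) (Steps.fwd (nat_lit 12288) (Steps.fwd (nat_lit 4096) (Steps.fwd (nat_lit 8192) (Steps.fwd (nat_lit 4096) Steps.nil)))))))))))))))))) (nat_lit 8) (nat_lit 6),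
  Rule.mk (nat_lit 1) (nat_lit 249) (Steps.bwd (nat_lit 2) (Steps.bwd (nat_lit 1) (Steps.bwd (nat_lit 3) (Steps.bwd (nat_lit 3) (Steps.bwd (nat_lit 1) (Steps.bwd (nat_lit 3) (Steps.bwd (nat_lit 1) (Steps.bwd (nat_lit 2) (Steps.bwd (nat_lit 1) (Steps.fwd (nat_lit 8192) (Steps.fwd (nat_lit 8192) (Steps.fwd (nat_lit 4096) (Steps.fwd (nat_lit 8192) (Steps.fwd (nat_lit 4096) (Steps.fwd (nat_lit 12288) (Steps.fwd (nat_lit 4096) (Steps.fwd (nat_lit 12288) (Steps.fwd (nat_lit 12288) (Steps.fwd (nat_lit 4096) (Steps.fwd (nat_lit 8192) Steps.nil)))))))))))))))))))) (nat_lit 10) (nat_lit 17),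
  Rule.mk (nat_lit 3) (nat_lit 225) (Steps.bwd (nat_lit 1) (Steps.bwd (nat_lit 2) (Steps.bwd (nat_lit 1) (Steps.bwd (nat_lit 3) (Steps.bwd (nat_lit 1) (Steps.bwd (nat_lit 3) (Steps.bwd (nat_lit 3) (Steps.bwd (nat_lit 1) (Steps.bwd (nat_lit 2) (Steps.bwd (nat_lit 1) (Steps.fwd (nat_lit 8192) (Steps.fwd (nat_lit 4096) (Steps.fwd (nat_lit 12288) (Steps.fwd (nat_lit 4096) (Steps.fwd (nat_lit 12288) (Steps.fwd (nat_lit 4096) (Steps.fwd (nat_lit 8192) (Steps.fwd (nat_lit 4096) Steps.nil)))))))))))))))))) (nat_lit 8) (nat_lit 12),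
  Rule.mk (nat_lit 2) (nat_lit 225) (Steps.bwd (nat_lit 1) (Steps.bwd (nat_lit 3) (Steps.bwd (nat_lit 1) (Steps.bwd (nat_lit 2) (Steps.bwd (nat_lit 1) (Steps.bwd (nat_lit 2) (Steps.bwd (nat_lit 1) (Steps.bwd (nat_lit 3) (Steps.bwd (nat_lit 1) (Steps.fwd (nat_lit 8192) (Steps.fwd (nat_lit 4096) (Steps.fwd (nat_lit 12288) (Steps.fwd (nat_lit 4096) (Steps.fwd (nat_lit 8192) (Steps.fwd (nat_lit 4096) (Steps.fwd (nat_lit 8192) (Steps.bwd (nat_lit 3) (Steps.fwd (nat_lit 4096) Steps.nil)))))))))))))))))) (nat_lit 8) (nat_lit 2),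
  Rule.mk (nat_lit 1) (nat_lit 225) (Steps.bwd (nat_lit 3) (Steps.bwd (nat_lit 1) (Steps.bwd (nat_lit 3) (Steps.fwd (nat_lit 8192) (Steps.fwd (nat_lit 4096) (Steps.fwd (nat_lit 12288) (Steps.fwd (nat_lit 4096) (Steps.fwd (nat_lit 8192) (Steps.bwd (nat_lit 1) (Steps.fwd (nat_lit 12288) (Steps.fwd (nat_lit 4096) (Steps.fwd (nat_lit 12288) (Steps.fwd (nat_lit 4096) (Steps.fwd (nat_lit 8192) (Steps.bwd (nat_lit 1) (Steps.bwd (nat_lit 3) (Steps.fwd (nat_lit 4096) (Steps.fwd (nat_lit 12288) Steps.nil)))))))))))))))))) (nat_lit 8) (nat_lit 15),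
  Rule.mk (nat_lit 1) (nat_lit 249) (Steps.bwd (nat_lit 2) (Steps.bwd (nat_lit 2) (Steps.bwd (nat_lit 1) (Steps.bwd (nat_lit 3) (Steps.bwd (nat_lit 1) (Steps.bwd (nat_lit 2) (Steps.bwd (nat_lit 1) (Steps.bwd (nat_lit 3) (Steps.bwd (nat_lit 3) (Steps.bwd (nat_lit 1) (Steps.fwd (nat_lit 8192) (Steps.fwd (nat_lit 4096) (Steps.fwd (nat_lit 12288) (Steps.fwd (nat_lit 4096) (Steps.fwd (nat_lit 8192) (Steps.bwd (nat_lit 3) (Steps.fwd (nat_lit 4096) (Steps.fwd (nat_lit 8192) (Steps.fwd (nat_lit 4096) (Steps.fwd (nat_lit 12288) Steps.nil)))))))))))))))))))) (nat_lit 10) (nat_lit 12),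
  Rule.mk (nat_lit 3) (nat_lit 213) (Steps.bwd (nat_lit 3) (Steps.bwd (nat_lit 1) (Steps.fwd (nat_lit 8192) (Steps.fwd (nat_lit 8192) (Steps.bwd (nat_lit 1) (Steps.bwd (nat_lit 3) (Steps.bwd (nat_lit 3) (Steps.bwd (nat_lit 1) (Steps.bwd (nat_lit 3) (Steps.bwd (nat_lit 3) (Steps.fwd (nat_lit 4096) (Steps.fwd (nat_lit 8192) (Steps.bwd (nat_lit 3) (Steps.fwd (nat_lit 4096) (Steps.fwd (nat_lit 8192) (Steps.bwd (nat_lit 3) (Steps.fwd (nat_lit 4096) Steps.nil))))))))))))))))) (nat_lit 7) (nat_lit 1),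
  Rule.mk (nat_lit 3) (nat_lit 225) (Steps.bwd (nat_lit 1) (Steps.bwd (nat_lit 3) (Steps.bwd (nat_lit 1) (Steps.bwd (nat_lit 2) (Steps.bwd (nat_lit 1) (Steps.bwd (nat_lit 3) (Steps.bwd (nat_lit 1) (Steps.bwd (nat_lit 3) (Steps.bwd (nat_lit 3) (Steps.bwd (nat_lit 1) (Steps.fwd (nat_lit 12288) (Steps.fwd (nat_lit 4096) (Steps.fwd (nat_lit 8192) (Steps.fwd (nat_lit 4096) (Steps.fwd (nat_lit 12288) (Steps.fwd (nat_lit 4096) (Steps.fwd (nat_lit 12288) (Steps.fwd (nat_lit 4096) Steps.nil)))))))))))))))))) (nat_lit 8) (nat_lit 10),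
  Rule.mk (nat_lit 1) (nat_lit 249) (Steps.bwd (nat_lit 3) (Steps.bwd (nat_lit 1) (Steps.bwd (nat_lit 2) (Steps.bwd (nat_lit 1) (Steps.bwd (nat_lit 3) (Steps.bwd (nat_lit 3) (Steps.bwd (nat_lit 1) (Steps.bwd (nat_lit 3) (Steps.bwd (nat_lit 1) (Steps.fwd (nat_lit 12288) (Steps.fwd (nat_lit 4096) (Steps.fwd (nat_lit 8192) (Steps.bwd (nat_lit 3) (Steps.fwd (nat_lit 4096) (Steps.bwd (nat_lit 3) (Steps.fwd (nat_lit 4096) (Steps.fwd (nat_lit 12288) (Steps.fwd (nat_lit 4096) (Steps.fwd (nat_lit 12288) (Steps.fwd (nat_lit 12288) Steps.nil)))))))))))))))))))) (nat_lit 10) (nat_lit 15),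
  Rule.mk (nat_lit 2) (nat_lit 261) (Steps.bwd (nat_lit 1) (Steps.bwd (nat_lit 2) (Steps.bwd (nat_lit 1) (Steps.bwd (nat_lit 2) (Steps.bwd (nat_lit 1) (Steps.bwd (nat_lit 2) (Steps.bwd (nat_lit 1) (Steps.bwd (nat_lit 2) (Steps.bwd (nat_lit 1) (Steps.bwd (nat_lit 2) (Steps.bwd (nat_lit 1) (Steps.bwd (nat_lit 2) (Steps.fwd (nat_lit 4096) (Steps.fwd (nat_lit 12288) (Steps.fwd (nat_lit 4096) (Steps.fwd (nat_lit 12288) (Steps.fwd (nat_lit 4096) (Steps.fwd (nat_lit 12288) (Steps.fwd (nat_lit 4096) (Steps.fwd (nat_lit 12288) (Steps.fwd (nat_lit 4096) Steps.nil))))))))))))))))))))) (nat_lit 4) (nat_lit 0),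
  Rule.mk (nat_lit 3) (nat_lit 249) (Steps.bwd (nat_lit 1) (Steps.bwd (nat_lit 2) (Steps.bwd (nat_lit 1) (Steps.bwd (nat_lit 3) (Steps.bwd (nat_lit 3) (Steps.bwd (nat_lit 1) (Steps.bwd (nat_lit 3) (Steps.bwd (nat_lit 1) (Steps.bwd (nat_lit 2) (Steps.bwd (nat_lit 1) (Steps.bwd (nat_lit 3) (Steps.bwd (nat_lit 3) (Steps.fwd (nat_lit 4096) (Steps.fwd (nat_lit 8192) (Steps.fwd (nat_lit 4096) (Steps.fwd (nat_lit 12288) (Steps.fwd (nat_lit 4096) (Steps.fwd (nat_lit 12288) (Steps.fwd (nat_lit 12288) (Steps.fwd (nat_lit 4096) Steps.nil)))))))))))))))))))) (nat_lit 10) (nat_lit 16),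
  Rule.mk (nat_lit 3) (nat_lit 225) (Steps.bwd (nat_lit 1) (Steps.bwd (nat_lit 2) (Steps.bwd (nat_lit 1) (Steps.bwd (nat_lit 3) (Steps.bwd (nat_lit 1) (Steps.bwd (nat_lit 3) (Steps.bwd (nat_lit 3) (Steps.bwd (nat_lit 1) (Steps.bwd (nat_lit 2) (Steps.bwd (nat_lit 1) (Steps.bwd (nat_lit 3) (Steps.fwd (nat_lit 4096) (Steps.fwd (nat_lit 12288) (Steps.fwd (nat_lit 4096) (Steps.fwd (nat_lit 12288) (Steps.fwd (nat_lit 4096) (Steps.fwd (nat_lit 8192) (Steps.fwd (nat_lit 4096) Steps.nil)))))))))))))))))) (nat_lit 8) (nat_lit 12),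
  Rule.mk (nat_lit 2) (nat_lit 225) (Steps.bwd (nat_lit 1) (Steps.bwd (nat_lit 3) (Steps.bwd (nat_lit 1) (Steps.fwd (nat_lit 8192) (Steps.fwd (nat_lit 4096) (Steps.bwd (nat_lit 2) (Steps.bwd (nat_lit 1) (Steps.bwd (nat_lit 3) (Steps.bwd (nat_lit 1) (Steps.bwd (nat_lit 3) (Steps.bwd (nat_lit 3) (Steps.fwd (nat_lit 4096) (Steps.fwd (nat_lit 12288) (Steps.fwd (nat_lit 4096) (Steps.fwd (nat_lit 8192) (Steps.fwd (nat_lit 4096) (Steps.bwd (nat_lit 2) (Steps.fwd (nat_lit 4096) Steps.nil)))))))))))))))))) (nat_lit 8) (nat_lit 8),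
  Rule.mk (nat_lit 2) (nat_lit 225) (Steps.bwd (nat_lit 1) (Steps.bwd (nat_lit 3) (Steps.bwd (nat_lit 1) (Steps.fwd (nat_lit 8192) (Steps.bwd (nat_lit 1) (Steps.bwd (nat_lit 2) (Steps.bwd (nat_lit 1) (Steps.bwd (nat_lit 3) (Steps.bwd (nat_lit 1) (Steps.bwd (nat_lit 3) (Steps.bwd (nat_lit 3) (Steps.fwd (nat_lit 4096) (Steps.fwd (nat_lit 12288) (Steps.fwd (nat_lit 4096) (Steps.fwd (nat_lit 8192) (Steps.fwd (nat_lit 4096) (Steps.fwd (nat_lit 12288) (Steps.fwd (nat_lit 4096) Steps.nil)))))))))))))))))) (nat_lit 8) (nat_lit 8),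
  Rule.mk (nat_lit 1) (nat_lit 213) (Steps.bwd (nat_lit 2) (Steps.bwd (nat_lit 2) (Steps.bwd (nat_lit 1) (Steps.fwd (nat_lit 12288) (Steps.bwd (nat_lit 2) (Steps.bwd (nat_lit 1) (Steps.fwd (nat_lit 12288) (Steps.fwd (nat_lit 12288) (Steps.fwd (nat_lit 4096) (Steps.bwd (nat_lit 2) (Steps.bwd (nat_lit 2) (Steps.fwd (nat_lit 4096) (Steps.bwd (nat_lit 2) (Steps.fwd (nat_lit 12288) (Steps.fwd (nat_lit 4096) (Steps.fwd (nat_lit 12288) (Steps.fwd (nat_lit 12288) Steps.nil))))))))))))))))) (nat_lit 6) (nat_lit 1),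
  Rule.mk (nat_lit 1) (nat_lit 249) (Steps.bwd (nat_lit 3) (Steps.bwd (nat_lit 1) (Steps.bwd (nat_lit 2) (Steps.bwd (nat_lit 1) (Steps.bwd (nat_lit 3) (Steps.bwd (nat_lit 3) (Steps.bwd (nat_lit 1) (Steps.bwd (nat_lit 3) (Steps.bwd (nat_lit 1) (Steps.fwd (nat_lit 12288) (Steps.fwd (nat_lit 4096) (Steps.fwd (nat_lit 8192) (Steps.bwd (nat_lit 3) (Steps.fwd (nat_lit 4096) (Steps.fwd (nat_lit 8192) (Steps.fwd (nat_lit 4096) (Steps.fwd (nat_lit 12288) (Steps.fwd (nat_lit 4096) (Steps.fwd (nat_lit 12288) (Steps.fwd (nat_lit 12288) Steps.nil)))))))))))))))))))) (nat_lit 10) (nat_lit 15),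
  Rule.mk (nat_lit 1) (nat_lit 225) (Steps.bwd (nat_lit 2) (Steps.bwd (nat_lit 1) (Steps.bwd (nat_lit 3) (Steps.bwd (nat_lit 1) (Steps.bwd (nat_lit 2) (Steps.bwd (nat_lit 1) (Steps.bwd (nat_lit 2) (Steps.bwd (nat_lit 1) (Steps.bwd (nat_lit 3) (Steps.fwd (nat_lit 4096) (Steps.fwd (nat_lit 8192) (Steps.fwd (nat_lit 4096) (Steps.fwd (nat_lit 12288) (Steps.fwd (nat_lit 4096) (Steps.fwd (nat_lit 8192) (Steps.fwd (nat_lit 4096) (Steps.fwd (nat_lit 8192) (Steps.bwd (nat_lit 3) Steps.nil)))))))))))))))))) (nat_lit 8) (nat_lit 1),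
  Rule.mk (nat_lit 2) (nat_lit 225) (Steps.bwd (nat_lit 1) (Steps.bwd (nat_lit 3) (Steps.bwd (nat_lit 1) (Steps.bwd (nat_lit 3) (Steps.bwd (nat_lit 3) (Steps.bwd (nat_lit 1) (Steps.bwd (nat_lit 2) (Steps.bwd (nat_lit 1) (Steps.bwd (nat_lit 3) (Steps.bwd (nat_lit 1) (Steps.fwd (nat_lit 12288) (Steps.fwd (nat_lit 4096) (Steps.fwd (nat_lit 12288) (Steps.fwd (nat_lit 4096) (Steps.fwd (nat_lit 8192) (Steps.fwd (nat_lit 4096) (Steps.fwd (nat_lit 8192) (Steps.fwd (nat_lit 4096) Steps.nil)))))))))))))))))) (nat_lit 8) (nat_lit 14),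
  Rule.mk (nat_lit 3) (nat_lit 225) (Steps.bwd (nat_lit 1) (Steps.bwd (nat_lit 2) (Steps.bwd (nat_lit 1) (Steps.bwd (nat_lit 2) (Steps.bwd (nat_lit 1) (Steps.bwd (nat_lit 3) (Steps.bwd (nat_lit 1) (Steps.bwd (nat_lit 3) (Steps.bwd (nat_lit 1) (Steps.fwd (nat_lit 12288) (Steps.fwd (nat_lit 4096) (Steps.fwd (nat_lit 8192) (Steps.fwd (nat_lit 4096) (Steps.fwd (nat_lit 8192) (Steps.bwd (nat_lit 3) (Steps.fwd (nat_lit 4096) (Steps.fwd (nat_lit 12288) (Steps.fwd (nat_lit 4096) Steps.nil)))))))))))))))))) (nat_lit 8) (nat_lit 4),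
  Rule.mk (nat_lit 2) (nat_lit 45) (Steps.bwd (nat_lit 2) (Steps.bwd (nat_lit 2) (Steps.fwd (nat_lit 12288) Steps.nil))) (nat_lit 2) (nat_lit 0),
  Rule.mk (nat_lit 3) (nat_lit 225) (Steps.bwd (nat_lit 1) (Steps.bwd (nat_lit 2) (Steps.bwd (nat_lit 1) (Steps.bwd (nat_lit 3) (Steps.bwd (nat_lit 1) (Steps.bwd (nat_lit 3) (Steps.bwd (nat_lit 3) (Steps.bwd (nat_lit 1) (Steps.fwd (nat_lit 12288) (Steps.fwd (nat_lit 4096) (Steps.fwd (nat_lit 8192) (Steps.fwd (nat_lit 4096) (Steps.fwd (nat_lit 12288) (Steps.fwd (nat_lit 4096) (Steps.bwd (nat_lit 2) (Steps.fwd (nat_lit 4096) (Steps.bwd (nat_lit 3) (Steps.fwd (nat_lit 4096) Steps.nil)))))))))))))))))) (nat_lit 8) (nat_lit 12),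
  Rule.mk (nat_lit 3) (nat_lit 225) (Steps.bwd (nat_lit 1) (Steps.bwd (nat_lit 3) (Steps.bwd (nat_lit 1) (Steps.bwd (nat_lit 2) (Steps.bwd (nat_lit 1) (Steps.bwd (nat_lit 3) (Steps.bwd (nat_lit 1) (Steps.bwd (nat_lit 3) (Steps.bwd (nat_lit 3) (Steps.bwd (nat_lit 1) (Steps.fwd (nat_lit 12288) (Steps.fwd (nat_lit 4096) (Steps.fwd (nat_lit 8192) (Steps.fwd (nat_lit 4096) (Steps.fwd (nat_lit 12288) (Steps.fwd (nat_lit 4096) (Steps.bwd (nat_lit 2) (Steps.fwd (nat_lit 4096) Steps.nil)))))))))))))))))) (nat_lit 8) (nat_lit 10),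
  Rule.mk (nat_lit 1) (nat_lit 225) (Steps.bwd (nat_lit 3) (Steps.bwd (nat_lit 1) (Steps.bwd (nat_lit 3) (Steps.bwd (nat_lit 1) (Steps.bwd (nat_lit 2) (Steps.bwd (nat_lit 1) (Steps.bwd (nat_lit 3) (Steps.fwd (nat_lit 4096) (Steps.bwd (nat_lit 3) (Steps.bwd (nat_lit 3) (Steps.bwd (nat_lit 1) (Steps.fwd (nat_lit 12288) (Steps.fwd (nat_lit 4096) (Steps.fwd (nat_lit 8192) (Steps.fwd (nat_lit 4096) (Steps.fwd (nat_lit 12288) (Steps.fwd (nat_lit 4096) (Steps.fwd (nat_lit 12288) Steps.nil)))))))))))))))))) (nat_lit 8) (nat_lit 9),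
  Rule.mk (nat_lit 1) (nat_lit 213) (Steps.bwd (nat_lit 2) (Steps.bwd (nat_lit 2) (Steps.bwd (nat_lit 1) (Steps.fwd (nat_lit 12288) (Steps.bwd (nat_lit 2) (Steps.bwd (nat_lit 1) (Steps.bwd (nat_lit 2) (Steps.fwd (nat_lit 12288) (Steps.fwd (nat_lit 4096) (Steps.bwd (nat_lit 2) (Steps.bwd (nat_lit 2) (Steps.fwd (nat_lit 4096) (Steps.fwd (nat_lit 12288) (Steps.fwd (nat_lit 12288) (Steps.fwd (nat_lit 4096) (Steps.fwd (nat_lit 12288) (Steps.fwd (nat_lit 12288) Steps.nil))))))))))))))))) (nat_lit 6) (nat_lit 1),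
  Rule.mk (nat_lit 1) (nat_lit 225) (Steps.bwd (nat_lit 2) (Steps.bwd (nat_lit 2) (Steps.bwd (nat_lit 1) (Steps.bwd (nat_lit 2) (Steps.bwd (nat_lit 1) (Steps.bwd (nat_lit 3) (Steps.bwd (nat_lit 1) (Steps.bwd (nat_lit 2) (Steps.bwd (nat_lit 1) (Steps.fwd (nat_lit 12288) (Steps.fwd (nat_lit 4096) (Steps.fwd (nat_lit 8192) (Steps.fwd (nat_lit 4096) (Steps.fwd (nat_lit 8192) (Steps.fwd (nat_lit 4096) (Steps.fwd (nat_lit 12288) (Steps.fwd (nat_lit 4096) (Steps.fwd (nat_lit 8192) Steps.nil)))))))))))))))))) (nat_lit 9) (nat_lit 0),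
  Rule.mk (nat_lit 1) (nat_lit 249) (Steps.bwd (nat_lit 2) (Steps.bwd (nat_lit 1) (Steps.bwd (nat_lit 3) (Steps.bwd (nat_lit 3) (Steps.bwd (nat_lit 1) (Steps.bwd (nat_lit 3) (Steps.bwd (nat_lit 1) (Steps.fwd (nat_lit 12288) (Steps.fwd (nat_lit 4096) (Steps.bwd (nat_lit 3) (Steps.bwd (nat_lit 3) (Steps.bwd (nat_lit 1) (Steps.bwd (nat_lit 3) (Steps.fwd (nat_lit 4096) (Steps.fwd (nat_lit 12288) (Steps.fwd (nat_lit 4096) (Steps.fwd (nat_lit 12288) (Steps.fwd (nat_lit 12288) (Steps.fwd (nat_lit 4096) (Steps.fwd (nat_lit 8192) Steps.nil)))))))))))))))))))) (nat_lit 10) (nat_lit 17),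
  Rule.mk (nat_lit 2) (nat_lit 225) (Steps.bwd (nat_lit 1) (Steps.fwd (nat_lit 8192) (Steps.bwd (nat_lit 1) (Steps.bwd (nat_lit 3) (Steps.bwd (nat_lit 3) (Steps.bwd (nat_lit 1) (Steps.fwd (nat_lit 12288) (Steps.fwd (nat_lit 4096) (Steps.fwd (nat_lit 8192) (Steps.fwd (nat_lit 4096) (Steps.bwd (nat_lit 2) (Steps.bwd (nat_lit 1) (Steps.fwd (nat_lit 12288) (Steps.fwd (nat_lit 4096) (Steps.fwd (nat_lit 8192) (Steps.fwd (nat_lit 4096) (Steps.fwd (nat_lit 8192) (Steps.fwd (nat_lit 4096) Steps.nil)))))))))))))))))) (nat_lit 8) (nat_lit 14),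
  Rule.mk (nat_lit 2) (nat_lit 225) (Steps.bwd (nat_lit 1) (Steps.bwd (nat_lit 3) (Steps.bwd (nat_lit 1) (Steps.bwd (nat_lit 3) (Steps.bwd (nat_lit 3) (Steps.fwd (nat_lit 4096) (Steps.fwd (nat_lit 12288) (Steps.fwd (nat_lit 4096) (Steps.bwd (nat_lit 3) (Steps.bwd (nat_lit 1) (Steps.bwd (nat_lit 2) (Steps.bwd (nat_lit 1) (Steps.fwd (nat_lit 12288) (Steps.bwd (nat_lit 1) (Steps.fwd (nat_lit 8192) (Steps.fwd (nat_lit 4096) (Steps.fwd (nat_lit 8192) (Steps.fwd (nat_lit 4096) Steps.nil)))))))))))))))))) (nat_lit 8) (nat_lit 14),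
  Rule.mk (nat_lit 2) (nat_lit 225) (Steps.bwd (nat_lit 1) (Steps.fwd (nat_lit 12288) (Steps.fwd (nat_lit 4096) (Steps.bwd (nat_lit 3) (Steps.fwd (nat_lit 4096) (Steps.fwd (nat_lit 8192) (Steps.bwd (nat_lit 1) (Steps.bwd (nat_lit 2) (Steps.bwd (nat_lit 1) (Steps.fwd (nat_lit 8192) (Steps.bwd (nat_lit 1) (Steps.bwd (nat_lit 3) (Steps.bwd (nat_lit 3) (Steps.fwd (nat_lit 4096) (Steps.fwd (nat_lit 12288) (Steps.fwd (nat_lit 4096) (Steps.fwd (nat_lit 8192) (Steps.fwd (nat_lit 4096) Steps.nil)))))))))))))))))) (nat_lit 8) (nat_lit 6),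
  Rule.mk (nat_lit 3) (nat_lit 225) (Steps.bwd (nat_lit 1) (Steps.bwd (nat_lit 3) (Steps.bwd (nat_lit 3) (Steps.bwd (nat_lit 1) (Steps.bwd (nat_lit 2) (Steps.fwd (nat_lit 4096) (Steps.bwd (nat_lit 3) (Steps.bwd (nat_lit 1) (Steps.bwd (nat_lit 2) (Steps.bwd (nat_lit 1) (Steps.fwd (nat_lit 12288) (Steps.fwd (nat_lit 4096) (Steps.fwd (nat_lit 8192) (Steps.fwd (nat_lit 4096) (Steps.fwd (nat_lit 8192) (Steps.fwd (nat_lit 4096) (Steps.fwd (nat_lit 12288) (Steps.fwd (nat_lit 4096) Steps.nil)))))))))))))))))) (nat_lit 8) (nat_lit 16),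
  Rule.mk (nat_lit 3) (nat_lit 213) (Steps.bwd (nat_lit 3) (Steps.bwd (nat_lit 1) (Steps.bwd (nat_lit 3) (Steps.bwd (nat_lit 3) (Steps.bwd (nat_lit 1) (Steps.bwd (nat_lit 3) (Steps.bwd (nat_lit 3) (Steps.bwd (nat_lit 1) (Steps.bwd (nat_lit 3) (Steps.bwd (nat_lit 3) (Steps.fwd (nat_lit 4096) (Steps.fwd (nat_lit 8192) (Steps.bwd (nat_lit 3) (Steps.fwd (nat_lit 4096) (Steps.bwd (nat_lit 3) (Steps.bwd (nat_lit 3) (Steps.fwd (nat_lit 4096) Steps.nil))))))))))))))))) (nat_lit 7) (nat_lit 1),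
  Rule.mk (nat_lit 2) (nat_lit 225) (Steps.bwd (nat_lit 1) (Steps.fwd (nat_lit 8192) (Steps.bwd (nat_lit 1) (Steps.bwd (nat_lit 3) (Steps.fwd (nat_lit 8192) (Steps.fwd (nat_lit 4096) (Steps.bwd (nat_lit 2) (Steps.bwd (nat_lit 1) (Steps.bwd (nat_lit 3) (Steps.bwd (nat_lit 1) (Steps.bwd (nat_lit 2) (Steps.bwd (nat_lit 1) (Steps.fwd (nat_lit 12288) (Steps.fwd (nat_lit 4096) (Steps.fwd (nat_lit 8192) (Steps.fwd (nat_lit 4096) (Steps.fwd (nat_lit 8192) (Steps.fwd (nat_lit 4096) Steps.nil)))))))))))))))))) (nat_lit 8) (nat_lit 14),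
  Rule.mk (nat_lit 2) (nat_lit 225) (Steps.bwd (nat_lit 1) (Steps.bwd (nat_lit 3) (Steps.bwd (nat_lit 1) (Steps.bwd (nat_lit 3) (Steps.bwd (nat_lit 3) (Steps.bwd (nat_lit 1) (Steps.fwd (nat_lit 12288) (Steps.bwd (nat_lit 1) (Steps.fwd (nat_lit 8192) (Steps.fwd (nat_lit 4096) (Steps.fwd (nat_lit 12288) (Steps.fwd (nat_lit 4096) (Steps.bwd (nat_lit 2) (Steps.fwd (nat_lit 4096) (Steps.fwd (nat_lit 8192) (Steps.bwd (nat_lit 1) (Steps.bwd (nat_lit 3) (Steps.fwd (nat_lit 4096) Steps.nil)))))))))))))))))) (nat_lit 8) (nat_lit 14),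
  Rule.mk (nat_lit 3) (nat_lit 249) (Steps.bwd (nat_lit 3) (Steps.bwd (nat_lit 1) (Steps.bwd (nat_lit 3) (Steps.bwd (nat_lit 1) (Steps.bwd (nat_lit 2) (Steps.bwd (nat_lit 1) (Steps.bwd (nat_lit 3) (Steps.bwd (nat_lit 3) (Steps.fwd (nat_lit 4096) (Steps.fwd (nat_lit 8192) (Steps.fwd (nat_lit 4096) (Steps.fwd (nat_lit 12288) (Steps.bwd (nat_lit 1) (Steps.bwd (nat_lit 2) (Steps.fwd (nat_lit 12288) (Steps.fwd (nat_lit 4096) (Steps.fwd (nat_lit 8192) (Steps.fwd (nat_lit 4096) (Steps.fwd (nat_lit 12288) (Steps.fwd (nat_lit 4096) Steps.nil)))))))))))))))))))) (nat_lit 10) (nat_lit 20),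
  Rule.mk (nat_lit 1) (nat_lit 225) (Steps.bwd (nat_lit 3) (Steps.fwd (nat_lit 8192) (Steps.bwd (nat_lit 1) (Steps.bwd (nat_lit 2) (Steps.bwd (nat_lit 1) (Steps.fwd (nat_lit 8192) (Steps.bwd (nat_lit 1) (Steps.bwd (nat_lit 2) (Steps.bwd (nat_lit 1) (Steps.fwd (nat_lit 12288) (Steps.fwd (nat_lit 4096) (Steps.fwd (nat_lit 8192) (Steps.fwd (nat_lit 4096) (Steps.fwd (nat_lit 8192) (Steps.fwd (nat_lit 4096) (Steps.fwd (nat_lit 12288) (Steps.fwd (nat_lit 4096) (Steps.bwd (nat_lit 3) Steps.nil)))))))))))))))))) (nat_lit 8) (nat_lit 17),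
  Rule.mk (nat_lit 2) (nat_lit 225) (Steps.bwd (nat_lit 1) (Steps.bwd (nat_lit 2) (Steps.bwd (nat_lit 1) (Steps.fwd (nat_lit 8192) (Steps.fwd (nat_lit 4096) (Steps.bwd (nat_lit 3) (Steps.bwd (nat_lit 1) (Steps.bwd (nat_lit 2) (Steps.bwd (nat_lit 1) (Steps.bwd (nat_lit 3) (Steps.fwd (nat_lit 4096) (Steps.fwd (nat_lit 8192) (Steps.bwd (nat_lit 3) (Steps.fwd (nat_lit 4096) (Steps.fwd (nat_lit 12288) (Steps.fwd (nat_lit 4096) (Steps.fwd (nat_lit 8192) (Steps.fwd (nat_lit 4096) Steps.nil)))))))))))))))))) (nat_lit 8) (nat_lit 6),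
  Rule.mk (nat_lit 2) (nat_lit 225) (Steps.bwd (nat_lit 1) (Steps.bwd (nat_lit 3) (Steps.bwd (nat_lit 1) (Steps.bwd (nat_lit 3) (Steps.bwd (nat_lit 1) (Steps.bwd (nat_lit 2) (Steps.bwd (nat_lit 1) (Steps.bwd (nat_lit 3) (Steps.fwd (nat_lit 4096) (Steps.bwd (nat_lit 3) (Steps.bwd (nat_lit 3) (Steps.bwd (nat_lit 1) (Steps.fwd (nat_lit 12288) (Steps.fwd (nat_lit 4096) (Steps.fwd (nat_lit 8192) (Steps.fwd (nat_lit 4096) (Steps.fwd (nat_lit 12288) (Steps.fwd (nat_lit 4096) Steps.nil)))))))))))))))))) (nat_lit 8) (nat_lit 8),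
  Rule.mk (nat_lit 3) (nat_lit 225) (Steps.bwd (nat_lit 1) (Steps.bwd (nat_lit 3) (Steps.bwd (nat_lit 3) (Steps.bwd (nat_lit 1) (Steps.bwd (nat_lit 2) (Steps.bwd (nat_lit 1) (Steps.bwd (nat_lit 3) (Steps.bwd (nat_lit 1) (Steps.fwd (nat_lit 12288) (Steps.fwd (nat_lit 4096) (Steps.fwd (nat_lit 12288) (Steps.bwd (nat_lit 1) (Steps.fwd (nat_lit 8192) (Steps.fwd (nat_lit 4096) (Steps.bwd (nat_lit 3) (Steps.bwd (nat_lit 1) (Steps.fwd (nat_lit 12288) (Steps.fwd (nat_lit 4096) Steps.nil)))))))))))))))))) (nat_lit 8) (nat_lit 16),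
  Rule.mk (nat_lit 3) (nat_lit 213) (Steps.bwd (nat_lit 3) (Steps.bwd (nat_lit 1) (Steps.fwd (nat_lit 8192) (Steps.fwd (nat_lit 8192) (Steps.bwd (nat_lit 1) (Steps.fwd (nat_lit 8192) (Steps.fwd (nat_lit 8192) (Steps.bwd (nat_lit 1) (Steps.bwd (nat_lit 3) (Steps.bwd (nat_lit 3) (Steps.fwd (nat_lit 4096) (Steps.fwd (nat_lit 8192) (Steps.bwd (nat_lit 3) (Steps.fwd (nat_lit 4096) (Steps.fwd (nat_lit 8192) (Steps.bwd (nat_lit 3) (Steps.fwd (nat_lit 4096) Steps.nil))))))))))))))))) (nat_lit 7) (nat_lit 1),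
  Rule.mk (nat_lit 1) (nat_lit 225) (Steps.bwd (nat_lit 2) (Steps.bwd (nat_lit 1) (Steps.bwd (nat_lit 2) (Steps.bwd (nat_lit 1) (Steps.fwd (nat_lit 8192) (Steps.bwd (nat_lit 1) (Steps.bwd (nat_lit 3) (Steps.fwd (nat_lit 4096) (Steps.bwd (nat_lit 2) (Steps.fwd (nat_lit 4096) (Steps.fwd (nat_lit 8192) (Steps.bwd (nat_lit 1) (Steps.bwd (nat_lit 3) (Steps.bwd (nat_lit 3) (Steps.fwd (nat_lit 4096) (Steps.bwd (nat_lit 2) (Steps.fwd (nat_lit 4096) (Steps.bwd (nat_lit 3) Steps.nil)))))))))))))))))) (nat_lit 8) (nat_lit 5),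
  Rule.mk (nat_lit 1) (nat_lit 225) (Steps.bwd (nat_lit 2) (Steps.fwd (nat_lit 4096) (Steps.bwd (nat_lit 3) (Steps.bwd (nat_lit 1) (Steps.bwd (nat_lit 3) (Steps.bwd (nat_lit 3) (Steps.bwd (nat_lit 1) (Steps.fwd (nat_lit 12288) (Steps.fwd (nat_lit 4096) (Steps.bwd (nat_lit 3) (Steps.bwd (nat_lit 1) (Steps.bwd (nat_lit 2) (Steps.bwd (nat_lit 1) (Steps.fwd (nat_lit 12288) (Steps.fwd (nat_lit 4096) (Steps.bwd (nat_lit 3) (Steps.fwd (nat_lit 4096) (Steps.fwd (nat_lit 8192) Steps.nil)))))))))))))))))) (nat_lit 8) (nat_lit 13),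
  Rule.mk (nat_lit 2) (nat_lit 225) (Steps.bwd (nat_lit 1) (Steps.bwd (nat_lit 3) (Steps.bwd (nat_lit 1) (Steps.bwd (nat_lit 3) (Steps.bwd (nat_lit 3) (Steps.fwd (nat_lit 4096) (Steps.fwd (nat_lit 12288) (Steps.bwd (nat_lit 1) (Steps.bwd (nat_lit 3) (Steps.bwd (nat_lit 1) (Steps.fwd (nat_lit 12288) (Steps.fwd (nat_lit 4096) (Steps.fwd (nat_lit 12288) (Steps.fwd (nat_lit 4096) (Steps.fwd (nat_lit 8192) (Steps.fwd (nat_lit 4096) (Steps.bwd (nat_lit 3) (Steps.fwd (nat_lit 4096) Steps.nil)))))))))))))))))) (nat_lit 8) (nat_lit 14),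
  Rule.mk (nat_lit 3) (nat_lit 225) (Steps.bwd (nat_lit 1) (Steps.bwd (nat_lit 2) (Steps.bwd (nat_lit 1) (Steps.bwd (nat_lit 2) (Steps.bwd (nat_lit 1) (Steps.bwd (nat_lit 3) (Steps.bwd (nat_lit 1) (Steps.bwd (nat_lit 3) (Steps.bwd (nat_lit 1) (Steps.fwd (nat_lit 12288) (Steps.fwd (nat_lit 4096) (Steps.fwd (nat_lit 8192) (Steps.fwd (nat_lit 4096) (Steps.fwd (nat_lit 8192) (Steps.bwd (nat_lit 3) (Steps.fwd (nat_lit 4096) (Steps.bwd (nat_lit 2) (Steps.fwd (nat_lit 4096) Steps.nil)))))))))))))))))) (nat_lit 8) (nat_lit 4),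
  Rule.mk (nat_lit 1) (nat_lit 225) (Steps.bwd (nat_lit 2) (Steps.bwd (nat_lit 1) (Steps.bwd (nat_lit 3) (Steps.bwd (nat_lit 1) (Steps.bwd (nat_lit 3) (Steps.bwd (nat_lit 3) (Steps.fwd (nat_lit 4096) (Steps.fwd (nat_lit 12288) (Steps.fwd (nat_lit 4096) (Steps.bwd (nat_lit 3) (Steps.bwd (nat_lit 1) (Steps.fwd (nat_lit 12288) (Steps.fwd (nat_lit 4096) (Steps.bwd (nat_lit 2) (Steps.fwd (nat_lit 4096) (Steps.bwd (nat_lit 3) (Steps.bwd (nat_lit 1) (Steps.bwd (nat_lit 3) Steps.nil)))))))))))))))))) (nat_lit 8) (nat_lit 13),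
  Rule.mk (nat_lit 2) (nat_lit 225) (Steps.bwd (nat_lit 1) (Steps.bwd (nat_lit 2) (Steps.bwd (nat_lit 1) (Steps.bwd (nat_lit 3) (Steps.bwd (nat_lit 1) (Steps.bwd (nat_lit 3) (Steps.bwd (nat_lit 1) (Steps.fwd (nat_lit 12288) (Steps.bwd (nat_lit 1) (Steps.bwd (nat_lit 3) (Steps.fwd (nat_lit 4096) (Steps.fwd (nat_lit 8192) (Steps.bwd (nat_lit 3) (Steps.fwd (nat_lit 4096) (Steps.fwd (nat_lit 12288) (Steps.fwd (nat_lit 4096) (Steps.fwd (nat_lit 8192) (Steps.fwd (nat_lit 4096) Steps.nil)))))))))))))))))) (nat_lit 8) (nat_lit 6),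
  Rule.mk (nat_lit 2) (nat_lit 225) (Steps.bwd (nat_lit 1) (Steps.bwd (nat_lit 3) (Steps.bwd (nat_lit 1) (Steps.bwd (nat_lit 3) (Steps.fwd (nat_lit 8192) (Steps.fwd (nat_lit 4096) (Steps.fwd (nat_lit 12288) (Steps.bwd (nat_lit 1) (Steps.bwd (nat_lit 3) (Steps.bwd (nat_lit 1) (Steps.fwd (nat_lit 12288) (Steps.fwd (nat_lit 4096) (Steps.fwd (nat_lit 12288) (Steps.fwd (nat_lit 4096) (Steps.bwd (nat_lit 3) (Steps.fwd (nat_lit 4096) (Steps.fwd (nat_lit 8192) (Steps.fwd (nat_lit 4096) Steps.nil)))))))))))))))))) (nat_lit 8) (nat_lit 14),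
  Rule.mk (nat_lit 1) (nat_lit 225) (Steps.bwd (nat_lit 2) (Steps.bwd (nat_lit 1) (Steps.bwd (nat_lit 3) (Steps.bwd (nat_lit 1) (Steps.bwd (nat_lit 3) (Steps.bwd (nat_lit 3) (Steps.bwd (nat_lit 1) (Steps.fwd (nat_lit 12288) (Steps.fwd (nat_lit 4096) (Steps.bwd (nat_lit 3) (Steps.fwd (nat_lit 4096) (Steps.fwd (nat_lit 12288) (Steps.fwd (nat_lit 4096) (Steps.fwd (nat_lit 12288) (Steps.fwd (nat_lit 4096) (Steps.fwd (nat_lit 8192) (Steps.bwd (nat_lit 1) (Steps.bwd (nat_lit 3) Steps.nil)))))))))))))))))) (nat_lit 8) (nat_lit 13),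
  Rule.mk (nat_lit 3) (nat_lit 225) (Steps.bwd (nat_lit 1) (Steps.bwd (nat_lit 2) (Steps.bwd (nat_lit 1) (Steps.bwd (nat_lit 3) (Steps.bwd (nat_lit 1) (Steps.bwd (nat_lit 3) (Steps.bwd (nat_lit 3) (Steps.bwd (nat_lit 1) (Steps.fwd (nat_lit 12288) (Steps.bwd (nat_lit 1) (Steps.bwd (nat_lit 3) (Steps.fwd (nat_lit 4096) (Steps.fwd (nat_lit 12288) (Steps.fwd (nat_lit 4096) (Steps.fwd (nat_lit 12288) (Steps.fwd (nat_lit 4096) (Steps.fwd (nat_lit 8192) (Steps.fwd (nat_lit 4096) Steps.nil)))))))))))))))))) (nat_lit 8) (nat_lit 12),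
  Rule.mk (nat_lit 1) (nat_lit 213) (Steps.bwd (nat_lit 3) (Steps.bwd (nat_lit 3) (Steps.bwd (nat_lit 1) (Steps.bwd (nat_lit 3) (Steps.bwd (nat_lit 3) (Steps.bwd (nat_lit 1) (Steps.fwd (nat_lit 8192) (Steps.fwd (nat_lit 8192) (Steps.fwd (nat_lit 4096) (Steps.fwd (nat_lit 8192) (Steps.fwd (nat_lit 8192) (Steps.fwd (nat_lit 4096) (Steps.bwd (nat_lit 3) (Steps.bwd (nat_lit 3) (Steps.fwd (nat_lit 4096) (Steps.bwd (nat_lit 3) (Steps.bwd (nat_lit 3) Steps.nil))))))))))))))))) (nat_lit 7) (nat_lit 0),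
  Rule.mk (nat_lit 3) (nat_lit 249) (Steps.bwd (nat_lit 1) (Steps.bwd (nat_lit 2) (Steps.bwd (nat_lit 1) (Steps.bwd (nat_lit 3) (Steps.bwd (nat_lit 3) (Steps.bwd (nat_lit 1) (Steps.bwd (nat_lit 3) (Steps.bwd (nat_lit 1) (Steps.bwd (nat_lit 2) (Steps.bwd (nat_lit 1) (Steps.bwd (nat_lit 3) (Steps.bwd (nat_lit 3) (Steps.fwd (nat_lit 4096) (Steps.fwd (nat_lit 8192) (Steps.fwd (nat_lit 4096) (Steps.bwd (nat_lit 2) (Steps.fwd (nat_lit 4096) (Steps.fwd (nat_lit 12288) (Steps.fwd (nat_lit 12288) (Steps.fwd (nat_lit 4096) Steps.nil)))))))))))))))))))) (nat_lit 10) (nat_lit 16),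
  Rule.mk (nat_lit 1) (nat_lit 225) (Steps.bwd (nat_lit 2) (Steps.bwd (nat_lit 1) (Steps.bwd (nat_lit 3) (Steps.bwd (nat_lit 1) (Steps.bwd (nat_lit 3) (Steps.fwd (nat_lit 8192) (Steps.bwd (nat_lit 1) (Steps.bwd (nat_lit 2) (Steps.fwd (nat_lit 4096) (Steps.fwd (nat_lit 8192) (Steps.fwd (nat_lit 4096) (Steps.bwd (nat_lit 2) (Steps.bwd (nat_lit 1) (Steps.bwd (nat_lit 2) (Steps.fwd (nat_lit 4096) (Steps.bwd (nat_lit 3) (Steps.fwd (nat_lit 4096) (Steps.fwd (nat_lit 8192) Steps.nil)))))))))))))))))) (nat_lit 8) (nat_lit 13),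
  Rule.mk (nat_lit 2) (nat_lit 225) (Steps.bwd (nat_lit 1) (Steps.bwd (nat_lit 3) (Steps.bwd (nat_lit 1) (Steps.fwd (nat_lit 12288) (Steps.fwd (nat_lit 4096) (Steps.fwd (nat_lit 12288) (Steps.bwd (nat_lit 1) (Steps.bwd (nat_lit 3) (Steps.fwd (nat_lit 4096) (Steps.fwd (nat_lit 8192) (Steps.fwd (nat_lit 4096) (Steps.bwd (nat_lit 2) (Steps.bwd (nat_lit 1) (Steps.bwd (nat_lit 3) (Steps.fwd (nat_lit 4096) (Steps.fwd (nat_lit 8192) (Steps.bwd (nat_lit 3) (Steps.fwd (nat_lit 4096) Steps.nil)))))))))))))))))) (nat_lit 8) (nat_lit 2),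
  Rule.mk (nat_lit 3) (nat_lit 45) (Steps.bwd (nat_lit 3) (Steps.fwd (nat_lit 8192) (Steps.fwd (nat_lit 8192) Steps.nil))) (nat_lit 3) (nat_lit 0),
  Rule.mk (nat_lit 3) (nat_lit 261) (Steps.bwd (nat_lit 1) (Steps.bwd (nat_lit 3) (Steps.bwd (nat_lit 1) (Steps.bwd (nat_lit 3) (Steps.bwd (nat_lit 1) (Steps.bwd (nat_lit 3) (Steps.bwd (nat_lit 1) (Steps.bwd (nat_lit 3) (Steps.bwd (nat_lit 1) (Steps.bwd (nat_lit 3) (Steps.bwd (nat_lit 1) (Steps.bwd (nat_lit 3) (Steps.fwd (nat_lit 4096) (Steps.fwd (nat_lit 8192) (Steps.fwd (nat_lit 4096) (Steps.fwd (nat_lit 8192) (Steps.fwd (nat_lit 4096) (Steps.fwd (nat_lit 8192) (Steps.fwd (nat_lit 4096) (Steps.fwd (nat_lit 8192) (Steps.fwd (nat_lit 4096) Steps.nil))))))))))))))))))))) (nat_lit 5) (nat_lit 1),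
  Rule.mk (nat_lit 3) (nat_lit 225) (Steps.bwd (nat_lit 1) (Steps.bwd (nat_lit 2) (Steps.bwd (nat_lit 1) (Steps.fwd (nat_lit 8192) (Steps.fwd (nat_lit 4096) (Steps.bwd (nat_lit 3) (Steps.bwd (nat_lit 3) (Steps.bwd (nat_lit 1) (Steps.fwd (nat_lit 12288) (Steps.fwd (nat_lit 4096) (Steps.fwd (nat_lit 8192) (Steps.fwd (nat_lit 4096) (Steps.fwd (nat_lit 12288) (Steps.bwd (nat_lit 1) (Steps.fwd (nat_lit 12288) (Steps.fwd (nat_lit 4096) (Steps.fwd (nat_lit 8192) (Steps.fwd (nat_lit 4096) Steps.nil)))))))))))))))))) (nat_lit 8) (nat_lit 12),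
  Rule.mk (nat_lit 1) (nat_lit 213) (Steps.bwd (nat_lit 3) (Steps.bwd (nat_lit 3) (Steps.bwd (nat_lit 1) (Steps.bwd (nat_lit 3) (Steps.bwd (nat_lit 3) (Steps.bwd (nat_lit 1) (Steps.bwd (nat_lit 3) (Steps.fwd (nat_lit 8192) (Steps.fwd (nat_lit 4096) (Steps.bwd (nat_lit 3) (Steps.bwd (nat_lit 3) (Steps.fwd (nat_lit 4096) (Steps.fwd (nat_lit 8192) (Steps.bwd (nat_lit 3) (Steps.fwd (nat_lit 4096) (Steps.fwd (nat_lit 8192) (Steps.bwd (nat_lit 3) Steps.nil))))))))))))))))) (nat_lit 7) (nat_lit 0),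
  Rule.mk (nat_lit 3) (nat_lit 225) (Steps.bwd (nat_lit 1) (Steps.bwd (nat_lit 3) (Steps.bwd (nat_lit 1) (Steps.bwd (nat_lit 2) (Steps.bwd (nat_lit 1) (Steps.bwd (nat_lit 3) (Steps.fwd (nat_lit 4096) (Steps.bwd (nat_lit 3) (Steps.bwd (nat_lit 3) (Steps.bwd (nat_lit 1) (Steps.fwd (nat_lit 12288) (Steps.fwd (nat_lit 4096) (Steps.bwd (nat_lit 3) (Steps.fwd (nat_lit 4096) (Steps.fwd (nat_lit 12288) (Steps.fwd (nat_lit 4096) (Steps.fwd (nat_lit 12288) (Steps.fwd (nat_lit 4096) Steps.nil)))))))))))))))))) (nat_lit 8) (nat_lit 10),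
  Rule.mk (nat_lit 3) (nat_lit 213) (Steps.bwd (nat_lit 1) (Steps.fwd (nat_lit 8192) (Steps.fwd (nat_lit 8192) (Steps.bwd (nat_lit 1) (Steps.bwd (nat_lit 3) (Steps.bwd (nat_lit 3) (Steps.fwd (nat_lit 4096) (Steps.fwd (nat_lit 8192) (Steps.fwd (nat_lit 8192) (Steps.fwd (nat_lit 4096) (Steps.fwd (nat_lit 8192) (Steps.fwd (nat_lit 8192) (Steps.fwd (nat_lit 4096) (Steps.bwd (nat_lit 3) (Steps.bwd (nat_lit 3) (Steps.fwd (nat_lit 4096) (Steps.bwd (nat_lit 3) Steps.nil))))))))))))))))) (nat_lit 7) (nat_lit 2)]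
noncomputable def R_1 : List (Rule) := [Rule.mk (nat_lit 1) (nat_lit 225) (Steps.bwd (nat_lit 3) (Steps.bwd (nat_lit 3) (Steps.bwd (nat_lit 1) (Steps.bwd (nat_lit 2) (Steps.bwd (nat_lit 1) (Steps.bwd (nat_lit 3) (Steps.bwd (nat_lit 1) (Steps.fwd (nat_lit 12288) (Steps.fwd (nat_lit 4096) (Steps.fwd (nat_lit 12288) (Steps.fwd (nat_lit 4096) (Steps.bwd (nat_lit 3) (Steps.bwd (nat_lit 1) (Steps.fwd (nat_lit 8192) (Steps.fwd (nat_lit 4096) (Steps.bwd (nat_lit 2) (Steps.fwd (nat_lit 4096) (Steps.bwd (nat_lit 3) Steps.nil)))))))))))))))))) (nat_lit 8) (nat_lit 17),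
  Rule.mk (nat_lit 3) (nat_lit 249) (Steps.bwd (nat_lit 1) (Steps.bwd (nat_lit 2) (Steps.bwd (nat_lit 1) (Steps.bwd (nat_lit 3) (Steps.bwd (nat_lit 3) (Steps.bwd (nat_lit 1) (Steps.bwd (nat_lit 3) (Steps.bwd (nat_lit 1) (Steps.fwd (nat_lit 12288) (Steps.fwd (nat_lit 4096) (Steps.bwd (nat_lit 3) (Steps.bwd (nat_lit 3) (Steps.bwd (nat_lit 1) (Steps.bwd (nat_lit 3) (Steps.fwd (nat_lit 4096) (Steps.fwd (nat_lit 12288) (Steps.fwd (nat_lit 4096) (Steps.fwd (nat_lit 12288) (Steps.fwd (nat_lit 12288) (Steps.fwd (nat_lit 4096) Steps.nil)))))))))))))))))))) (nat_lit 10) (nat_lit 16),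
  Rule.mk (nat_lit 1) (nat_lit 213) (Steps.bwd (nat_lit 2) (Steps.bwd (nat_lit 2) (Steps.bwd (nat_lit 1) (Steps.bwd (nat_lit 2) (Steps.bwd (nat_lit 2) (Steps.bwd (nat_lit 1) (Steps.fwd (nat_lit 12288) (Steps.fwd (nat_lit 12288) (Steps.bwd (nat_lit 1) (Steps.bwd (nat_lit 2) (Steps.fwd (nat_lit 12288) (Steps.fwd (nat_lit 4096) (Steps.fwd (nat_lit 12288) (Steps.fwd (nat_lit 12288) (Steps.fwd (nat_lit 4096) (Steps.fwd (nat_lit 12288) (Steps.fwd (nat_lit 12288) Steps.nil))))))))))))))))) (nat_lit 6) (nat_lit 1),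
  Rule.mk (nat_lit 2) (nat_lit 261) (Steps.bwd (nat_lit 1) (Steps.bwd (nat_lit 2) (Steps.bwd (nat_lit 1) (Steps.bwd (nat_lit 2) (Steps.bwd (nat_lit 1) (Steps.bwd (nat_lit 2) (Steps.bwd (nat_lit 1) (Steps.bwd (nat_lit 2) (Steps.bwd (nat_lit 1) (Steps.bwd (nat_lit 2) (Steps.bwd (nat_lit 1) (Steps.fwd (nat_lit 12288) (Steps.fwd (nat_lit 4096) (Steps.fwd (nat_lit 12288) (Steps.fwd (nat_lit 4096) (Steps.fwd (nat_lit 12288) (Steps.fwd (nat_lit 4096) (Steps.fwd (nat_lit 12288) (Steps.fwd (nat_lit 4096) (Steps.fwd (nat_lit 12288) (Steps.fwd (nat_lit 4096) Steps.nil))))))))))))))))))))) (nat_lit 4) (nat_lit 0),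
  Rule.mk (nat_lit 1) (nat_lit 213) (Steps.bwd (nat_lit 3) (Steps.fwd (nat_lit 8192) (Steps.bwd (nat_lit 1) (Steps.bwd (nat_lit 3) (Steps.bwd (nat_lit 3) (Steps.bwd (nat_lit 1) (Steps.fwd (nat_lit 8192) (Steps.fwd (nat_lit 8192) (Steps.bwd (nat_lit 1) (Steps.bwd (nat_lit 3) (Steps.fwd (nat_lit 8192) (Steps.fwd (nat_lit 4096) (Steps.fwd (nat_lit 8192) (Steps.bwd (nat_lit 3) (Steps.fwd (nat_lit 4096) (Steps.fwd (nat_lit 8192) (Steps.bwd (nat_lit 3) Steps.nil))))))))))))))))) (nat_lit 7) (nat_lit 0),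
  Rule.mk (nat_lit 2) (nat_lit 225) (Steps.bwd (nat_lit 1) (Steps.bwd (nat_lit 3) (Steps.bwd (nat_lit 1) (Steps.bwd (nat_lit 3) (Steps.bwd (nat_lit 1) (Steps.bwd (nat_lit 2) (Steps.bwd (nat_lit 1) (Steps.bwd (nat_lit 3) (Steps.bwd (nat_lit 1) (Steps.bwd (nat_lit 3) (Steps.bwd (nat_lit 3) (Steps.fwd (nat_lit 4096) (Steps.bwd (nat_lit 2) (Steps.fwd (nat_lit 4096) (Steps.bwd (nat_lit 3) (Steps.bwd (nat_lit 1) (Steps.fwd (nat_lit 12288) (Steps.fwd (nat_lit 4096) Steps.nil)))))))))))))))))) (nat_lit 8) (nat_lit 8),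
  Rule.mk (nat_lit 2) (nat_lit 45) (Steps.bwd (nat_lit 2) (Steps.fwd (nat_lit 12288) (Steps.fwd (nat_lit 12288) Steps.nil))) (nat_lit 2) (nat_lit 0),
  Rule.mk (nat_lit 2) (nat_lit 45) (Steps.bwd (nat_lit 2) (Steps.fwd (nat_lit 12288) (Steps.bwd (nat_lit 2) Steps.nil))) (nat_lit 2) (nat_lit 0),
  Rule.mk (nat_lit 2) (nat_lit 225) (Steps.bwd (nat_lit 1) (Steps.bwd (nat_lit 2) (Steps.bwd (nat_lit 1) (Steps.fwd (nat_lit 8192) (Steps.fwd (nat_lit 4096) (Steps.fwd (nat_lit 8192) (Steps.bwd (nat_lit 1) (Steps.bwd (nat_lit 2) (Steps.bwd (nat_lit 1) (Steps.fwd (nat_lit 8192) (Steps.fwd (nat_lit 4096) (Steps.bwd (nat_lit 3) (Steps.bwd (nat_lit 3) (Steps.bwd (nat_lit 1) (Steps.fwd (nat_lit 12288) (Steps.fwd (nat_lit 4096) (Steps.fwd (nat_lit 8192) (Steps.fwd (nat_lit 4096) Steps.nil)))))))))))))))))) (nat_lit 8) (nat_lit 6),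
  Rule.mk (nat_lit 2) (nat_lit 213) (Steps.bwd (nat_lit 1) (Steps.fwd (nat_lit 12288) (Steps.bwd (nat_lit 2) (Steps.bwd (nat_lit 1) (Steps.fwd (nat_lit 12288) (Steps.bwd (nat_lit 2) (Steps.bwd (nat_lit 1) (Steps.bwd (nat_lit 2) (Steps.fwd (nat_lit 12288) (Steps.fwd (nat_lit 4096) (Steps.fwd (nat_lit 12288) (Steps.fwd (nat_lit 12288) (Steps.bwd (nat_lit 1) (Steps.bwd (nat_lit 2) (Steps.bwd (nat_lit 2) (Steps.fwd (nat_lit 4096) (Steps.bwd (nat_lit 2) Steps.nil))))))))))))))))) (nat_lit 6) (nat_lit 0),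
  Rule.mk (nat_lit 1) (nat_lit 213) (Steps.bwd (nat_lit 2) (Steps.bwd (nat_lit 2) (Steps.bwd (nat_lit 1) (Steps.fwd (nat_lit 12288) (Steps.fwd (nat_lit 12288) (Steps.bwd (nat_lit 1) (Steps.fwd (nat_lit 12288) (Steps.fwd (nat_lit 12288) (Steps.bwd (nat_lit 1) (Steps.bwd (nat_lit 2) (Steps.fwd (nat_lit 12288) (Steps.fwd (nat_lit 4096) (Steps.bwd (nat_lit 2) (Steps.bwd (nat_lit 2) (Steps.fwd (nat_lit 4096) (Steps.fwd (nat_lit 12288) (Steps.fwd (nat_lit 12288) Steps.nil))))))))))))))))) (nat_lit 6) (nat_lit 1),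
  Rule.mk (nat_lit 3) (nat_lit 225) (Steps.bwd (nat_lit 1) (Steps.bwd (nat_lit 2) (Steps.bwd (nat_lit 1) (Steps.bwd (nat_lit 3) (Steps.bwd (nat_lit 1) (Steps.bwd (nat_lit 3) (Steps.bwd (nat_lit 3) (Steps.bwd (nat_lit 1) (Steps.fwd (nat_lit 12288) (Steps.fwd (nat_lit 4096) (Steps.fwd (nat_lit 8192) (Steps.fwd (nat_lit 4096) (Steps.fwd (nat_lit 12288) (Steps.fwd (nat_lit 4096) (Steps.fwd (nat_lit 12288) (Steps.fwd (nat_lit 4096) (Steps.fwd (nat_lit 8192) (Steps.fwd (nat_lit 4096) Steps.nil)))))))))))))))))) (nat_lit 8) (nat_lit 12),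
  Rule.mk (nat_lit 3) (nat_lit 225) (Steps.bwd (nat_lit 1) (Steps.bwd (nat_lit 2) (Steps.bwd (nat_lit 1) (Steps.bwd (nat_lit 3) (Steps.bwd (nat_lit 1) (Steps.bwd (nat_lit 3) (Steps.bwd (nat_lit 3) (Steps.bwd (nat_lit 1) (Steps.fwd (nat_lit 12288) (Steps.fwd (nat_lit 4096) (Steps.fwd (nat_lit 8192) (Steps.fwd (nat_lit 4096) (Steps.bwd (nat_lit 2) (Steps.bwd (nat_lit 1) (Steps.fwd (nat_lit 12288) (Steps.fwd (nat_lit 4096) (Steps.bwd (nat_lit 3) (Steps.fwd (nat_lit 4096) Steps.nil)))))))))))))))))) (nat_lit 8) (nat_lit 12),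
  Rule.mk (nat_lit 1) (nat_lit 249) (Steps.bwd (nat_lit 3) (Steps.bwd (nat_lit 1) (Steps.fwd (nat_lit 12288) (Steps.bwd (nat_lit 1) (Steps.bwd (nat_lit 3) (Steps.bwd (nat_lit 3) (Steps.bwd (nat_lit 1) (Steps.bwd (nat_lit 3) (Steps.fwd (nat_lit 4096) (Steps.bwd (nat_lit 2) (Steps.fwd (nat_lit 4096) (Steps.bwd (nat_lit 3) (Steps.bwd (nat_lit 3) (Steps.bwd (nat_lit 1) (Steps.bwd (nat_lit 3) (Steps.fwd (nat_lit 4096) (Steps.fwd (nat_lit 12288) (Steps.fwd (nat_lit 4096) (Steps.fwd (nat_lit 12288) (Steps.fwd (nat_lit 12288) Steps.nil)))))))))))))))))))) (nat_lit 10) (nat_lit 15),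
  Rule.mk (nat_lit 2) (nat_lit 225) (Steps.bwd (nat_lit 1) (Steps.bwd (nat_lit 3) (Steps.bwd (nat_lit 1) (Steps.bwd (nat_lit 3) (Steps.fwd (nat_lit 8192) (Steps.bwd (nat_lit 1) (Steps.bwd (nat_lit 2) (Steps.fwd (nat_lit 4096) (Steps.fwd (nat_lit 8192) (Steps.bwd (nat_lit 1) (Steps.bwd (nat_lit 2) (Steps.bwd (nat_lit 1) (Steps.fwd (nat_lit 12288) (Steps.fwd (nat_lit 4096) (Steps.bwd (nat_lit 3) (Steps.fwd (nat_lit 4096) (Steps.fwd (nat_lit 8192) (Steps.fwd (nat_lit 4096) Steps.nil)))))))))))))))))) (nat_lit 8) (nat_lit 14),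
  Rule.mk (nat_lit 1) (nat_lit 213) (Steps.bwd (nat_lit 2) (Steps.bwd (nat_lit 2) (Steps.bwd (nat_lit 1) (Steps.fwd (nat_lit 12288) (Steps.bwd (nat_lit 2) (Steps.bwd (nat_lit 1) (Steps.bwd (nat_lit 2) (Steps.fwd (nat_lit 12288) (Steps.fwd (nat_lit 4096) (Steps.fwd (nat_lit 12288) (Steps.fwd (nat_lit 12288) (Steps.fwd (nat_lit 4096) (Steps.fwd (nat_lit 12288) (Steps.fwd (nat_lit 12288) (Steps.fwd (nat_lit 4096) (Steps.fwd (nat_lit 12288) (Steps.fwd (nat_lit 12288) Steps.nil))))))))))))))))) (nat_lit 6) (nat_lit 1),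
  Rule.mk (nat_lit 3) (nat_lit 225) (Steps.bwd (nat_lit 1) (Steps.bwd (nat_lit 2) (Steps.bwd (nat_lit 1) (Steps.fwd (nat_lit 8192) (Steps.fwd (nat_lit 4096) (Steps.bwd (nat_lit 3) (Steps.bwd (nat_lit 3) (Steps.bwd (nat_lit 1) (Steps.bwd (nat_lit 2) (Steps.bwd (nat_lit 1) (Steps.bwd (nat_lit 3) (Steps.fwd (nat_lit 4096) (Steps.fwd (nat_lit 12288) (Steps.fwd (nat_lit 4096) (Steps.fwd (nat_lit 12288) (Steps.fwd (nat_lit 4096) (Steps.fwd (nat_lit 8192) (Steps.fwd (nat_lit 4096) Steps.nil)))))))))))))))))) (nat_lit 8) (nat_lit 12),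
  Rule.mk (nat_lit 2) (nat_lit 225) (Steps.bwd (nat_lit 1) (Steps.bwd (nat_lit 3) (Steps.bwd (nat_lit 1) (Steps.fwd (nat_lit 8192) (Steps.fwd (nat_lit 8192) (Steps.fwd (nat_lit 4096) (Steps.bwd (nat_lit 2) (Steps.bwd (nat_lit 1) (Steps.bwd (nat_lit 3) (Steps.bwd (nat_lit 1) (Steps.fwd (nat_lit 12288) (Steps.fwd (nat_lit 4096) (Steps.fwd (nat_lit 12288) (Steps.fwd (nat_lit 4096) (Steps.fwd (nat_lit 8192) (Steps.bwd (nat_lit 1) (Steps.bwd (nat_lit 3) (Steps.fwd (nat_lit 4096) Steps.nil)))))))))))))))))) (nat_lit 8) (nat_lit 14),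
  Rule.mk (nat_lit 1) (nat_lit 249) (Steps.bwd (nat_lit 2) (Steps.bwd (nat_lit 2) (Steps.bwd (nat_lit 1) (Steps.bwd (nat_lit 3) (Steps.bwd (nat_lit 1) (Steps.bwd (nat_lit 2) (Steps.bwd (nat_lit 1) (Steps.bwd (nat_lit 3) (Steps.bwd (nat_lit 3) (Steps.bwd (nat_lit 1) (Steps.bwd (nat_lit 3) (Steps.fwd (nat_lit 4096) (Steps.fwd (nat_lit 12288) (Steps.fwd (nat_lit 4096) (Steps.fwd (nat_lit 8192) (Steps.bwd (nat_lit 3) (Steps.fwd (nat_lit 4096) (Steps.fwd (nat_lit 8192) (Steps.fwd (nat_lit 4096) (Steps.fwd (nat_lit 12288) Steps.nil)))))))))))))))))))) (nat_lit 10) (nat_lit 12),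
  Rule.mk (nat_lit 1) (nat_lit 213) (Steps.bwd (nat_lit 2) (Steps.bwd (nat_lit 2) (Steps.bwd (nat_lit 1) (Steps.fwd (nat_lit 12288) (Steps.fwd (nat_lit 12288) (Steps.bwd (nat_lit 1) (Steps.bwd (nat_lit 2) (Steps.fwd (nat_lit 12288) (Steps.fwd (nat_lit 4096) (Steps.fwd (nat_lit 12288) (Steps.fwd (nat_lit 12288) (Steps.bwd (nat_lit 1) (Steps.fwd (nat_lit 12288) (Steps.fwd (nat_lit 12288) (Steps.fwd (nat_lit 4096) (Steps.fwd (nat_lit 12288) (Steps.fwd (nat_lit 12288) Steps.nil))))))))))))))))) (nat_lit 6) (nat_lit 1),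
  Rule.mk (nat_lit 1) (nat_lit 213) (Steps.bwd (nat_lit 2) (Steps.bwd (nat_lit 2) (Steps.bwd (nat_lit 1) (Steps.bwd (nat_lit 2) (Steps.bwd (nat_lit 2) (Steps.bwd (nat_lit 1) (Steps.bwd (nat_lit 2) (Steps.bwd (nat_lit 2) (Steps.bwd (nat_lit 1) (Steps.bwd (nat_lit 2) (Steps.fwd (nat_lit 12288) (Steps.fwd (nat_lit 4096) (Steps.fwd (nat_lit 12288) (Steps.fwd (nat_lit 12288) (Steps.fwd (nat_lit 4096) (Steps.fwd (nat_lit 12288) (Steps.fwd (nat_lit 12288) Steps.nil))))))))))))))))) (nat_lit 6) (nat_lit 1),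
  Rule.mk (nat_lit 1) (nat_lit 213) (Steps.bwd (nat_lit 2) (Steps.bwd (nat_lit 2) (Steps.bwd (nat_lit 1) (Steps.bwd (nat_lit 2) (Steps.fwd (nat_lit 12288) (Steps.fwd (nat_lit 4096) (Steps.fwd (nat_lit 12288) (Steps.bwd (nat_lit 2) (Steps.bwd (nat_lit 1) (Steps.fwd (nat_lit 12288) (Steps.fwd (nat_lit 12288) (Steps.fwd (nat_lit 4096) (Steps.fwd (nat_lit 12288) (Steps.fwd (nat_lit 12288) (Steps.fwd (nat_lit 4096) (Steps.fwd (nat_lit 12288) (Steps.fwd (nat_lit 12288) Steps.nil))))))))))))))))) (nat_lit 6) (nat_lit 1),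
  Rule.mk (nat_lit 3) (nat_lit 249) (Steps.bwd (nat_lit 1) (Steps.bwd (nat_lit 2) (Steps.bwd (nat_lit 1) (Steps.bwd (nat_lit 3) (Steps.bwd (nat_lit 3) (Steps.bwd (nat_lit 1) (Steps.fwd (nat_lit 8192) (Steps.fwd (nat_lit 4096) (Steps.bwd (nat_lit 2) (Steps.bwd (nat_lit 1) (Steps.bwd (nat_lit 3) (Steps.fwd (nat_lit 8192) (Steps.fwd (nat_lit 4096) (Steps.fwd (nat_lit 8192) (Steps.fwd (nat_lit 4096) (Steps.fwd (nat_lit 12288) (Steps.fwd (nat_lit 4096) (Steps.fwd (nat_lit 12288) (Steps.fwd (nat_lit 12288) (Steps.fwd (nat_lit 4096) Steps.nil)))))))))))))))))))) (nat_lit 10) (nat_lit 16),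
  Rule.mk (nat_lit 2) (nat_lit 225) (Steps.bwd (nat_lit 1) (Steps.bwd (nat_lit 3) (Steps.bwd (nat_lit 1) (Steps.fwd (nat_lit 8192) (Steps.bwd (nat_lit 3) (Steps.bwd (nat_lit 1) (Steps.bwd (nat_lit 2) (Steps.bwd (nat_lit 1) (Steps.bwd (nat_lit 3) (Steps.fwd (nat_lit 4096) (Steps.fwd (nat_lit 12288) (Steps.fwd (nat_lit 4096) (Steps.bwd (nat_lit 2) (Steps.bwd (nat_lit 1) (Steps.bwd (nat_lit 3) (Steps.fwd (nat_lit 4096) (Steps.fwd (nat_lit 8192) (Steps.fwd (nat_lit 4096) Steps.nil)))))))))))))))))) (nat_lit 8) (nat_lit 14),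
  Rule.mk (nat_lit 2) (nat_lit 225) (Steps.bwd (nat_lit 1) (Steps.bwd (nat_lit 3) (Steps.bwd (nat_lit 1) (Steps.bwd (nat_lit 3) (Steps.fwd (nat_lit 8192) (Steps.fwd (nat_lit 4096) (Steps.bwd (nat_lit 2) (Steps.bwd (nat_lit 1) (Steps.fwd (nat_lit 8192) (Steps.fwd (nat_lit 4096) (Steps.bwd (nat_lit 2) (Steps.bwd (nat_lit 1) (Steps.fwd (nat_lit 12288) (Steps.fwd (nat_lit 4096) (Steps.fwd (nat_lit 8192) (Steps.fwd (nat_lit 4096) (Steps.fwd (nat_lit 8192) (Steps.fwd (nat_lit 4096) Steps.nil)))))))))))))))))) (nat_lit 8) (nat_lit 14),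
  Rule.mk (nat_lit 3) (nat_lit 225) (Steps.bwd (nat_lit 1) (Steps.fwd (nat_lit 8192) (Steps.bwd (nat_lit 3) (Steps.bwd (nat_lit 1) (Steps.bwd (nat_lit 2) (Steps.bwd (nat_lit 1) (Steps.bwd (nat_lit 3) (Steps.fwd (nat_lit 4096) (Steps.bwd (nat_lit 2) (Steps.bwd (nat_lit 1) (Steps.bwd (nat_lit 2) (Steps.bwd (nat_lit 1) (Steps.bwd (nat_lit 3) (Steps.fwd (nat_lit 4096) (Steps.fwd (nat_lit 8192) (Steps.fwd (nat_lit 4096) (Steps.fwd (nat_lit 12288) (Steps.fwd (nat_lit 4096) Steps.nil)))))))))))))))))) (nat_lit 8) (nat_lit 16),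
  Rule.mk (nat_lit 2) (nat_lit 225) (Steps.bwd (nat_lit 1) (Steps.bwd (nat_lit 3) (Steps.bwd (nat_lit 1) (Steps.bwd (nat_lit 3) (Steps.bwd (nat_lit 3) (Steps.bwd (nat_lit 1) (Steps.bwd (nat_lit 2) (Steps.bwd (nat_lit 1) (Steps.bwd (nat_lit 3) (Steps.fwd (nat_lit 4096) (Steps.fwd (nat_lit 12288) (Steps.fwd (nat_lit 4096) (Steps.fwd (nat_lit 12288) (Steps.fwd (nat_lit 4096) (Steps.fwd (nat_lit 8192) (Steps.fwd (nat_lit 4096) (Steps.bwd (nat_lit 3) (Steps.fwd (nat_lit 4096) Steps.nil)))))))))))))))))) (nat_lit 8) (nat_lit 14),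
  Rule.mk (nat_lit 3) (nat_lit 249) (Steps.bwd (nat_lit 1) (Steps.bwd (nat_lit 2) (Steps.bwd (nat_lit 1) (Steps.bwd (nat_lit 3) (Steps.bwd (nat_lit 3) (Steps.bwd (nat_lit 1) (Steps.bwd (nat_lit 3) (Steps.bwd (nat_lit 1) (Steps.fwd (nat_lit 12288) (Steps.fwd (nat_lit 4096) (Steps.fwd (nat_lit 8192) (Steps.fwd (nat_lit 8192) (Steps.fwd (nat_lit 4096) (Steps.bwd (nat_lit 3) (Steps.fwd (nat_lit 4096) (Steps.fwd (nat_lit 12288) (Steps.fwd (nat_lit 4096) (Steps.fwd (nat_lit 12288) (Steps.fwd (nat_lit 12288) (Steps.fwd (nat_lit 4096) Steps.nil)))))))))))))))))))) (nat_lit 10) (nat_lit 16),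
  Rule.mk (nat_lit 3) (nat_lit 213) (Steps.bwd (nat_lit 3) (Steps.bwd (nat_lit 1) (Steps.bwd (nat_lit 3) (Steps.bwd (nat_lit 3) (Steps.bwd (nat_lit 1) (Steps.bwd (nat_lit 3) (Steps.bwd (nat_lit 3) (Steps.bwd (nat_lit 1) (Steps.fwd (nat_lit 8192) (Steps.fwd (nat_lit 8192) (Steps.fwd (nat_lit 4096) (Steps.fwd (nat_lit 8192) (Steps.bwd (nat_lit 3) (Steps.fwd (nat_lit 4096) (Steps.bwd (nat_lit 3) (Steps.bwd (nat_lit 3) (Steps.fwd (nat_lit 4096) Steps.nil))))))))))))))))) (nat_lit 7) (nat_lit 1),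
  Rule.mk (nat_lit 3) (nat_lit 225) (Steps.bwd (nat_lit 1) (Steps.bwd (nat_lit 2) (Steps.bwd (nat_lit 1) (Steps.bwd (nat_lit 3) (Steps.bwd (nat_lit 1) (Steps.bwd (nat_lit 3) (Steps.fwd (nat_lit 8192) (Steps.fwd (nat_lit 4096) (Steps.bwd (nat_lit 2) (Steps.bwd (nat_lit 1) (Steps.bwd (nat_lit 3) (Steps.fwd (nat_lit 4096) (Steps.fwd (nat_lit 12288) (Steps.fwd (nat_lit 4096) (Steps.fwd (nat_lit 12288) (Steps.fwd (nat_lit 4096) (Steps.fwd (nat_lit 8192) (Steps.fwd (nat_lit 4096) Steps.nil)))))))))))))))))) (nat_lit 8) (nat_lit 12),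
  Rule.mk (nat_lit 3) (nat_lit 225) (Steps.bwd (nat_lit 1) (Steps.bwd (nat_lit 3) (Steps.bwd (nat_lit 3) (Steps.bwd (nat_lit 1) (Steps.bwd (nat_lit 2) (Steps.bwd (nat_lit 1) (Steps.bwd (nat_lit 3) (Steps.fwd (nat_lit 4096) (Steps.fwd (nat_lit 12288) (Steps.fwd (nat_lit 4096) (Steps.fwd (nat_lit 12288) (Steps.fwd (nat_lit 4096) (Steps.fwd (nat_lit 8192) (Steps.bwd (nat_lit 1) (Steps.bwd (nat_lit 3) (Steps.fwd (nat_lit 4096) (Steps.fwd (nat_lit 12288) (Steps.fwd (nat_lit 4096) Steps.nil)))))))))))))))))) (nat_lit 8) (nat_lit 16),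
  Rule.mk (nat_lit 2) (nat_lit 261) (Steps.bwd (nat_lit 1) (Steps.bwd (nat_lit 2) (Steps.bwd (nat_lit 1) (Steps.bwd (nat_lit 2) (Steps.bwd (nat_lit 1) (Steps.bwd (nat_lit 2) (Steps.bwd (nat_lit 1) (Steps.fwd (nat_lit 12288) (Steps.fwd (nat_lit 4096) (Steps.bwd (nat_lit 2) (Steps.bwd (nat_lit 1) (Steps.bwd (nat_lit 2) (Steps.bwd (nat_lit 1) (Steps.fwd (nat_lit 12288) (Steps.fwd (nat_lit 4096) (Steps.fwd (nat_lit 12288) (Steps.fwd (nat_lit 4096) (Steps.fwd (nat_lit 12288) (Steps.fwd (nat_lit 4096) (Steps.fwd (nat_lit 12288) (Steps.fwd (nat_lit 4096) Steps.nil))))))))))))))))))))) (nat_lit 4) (nat_lit 0),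
  Rule.mk (nat_lit 2) (nat_lit 249) (Steps.bwd (nat_lit 1) (Steps.bwd (nat_lit 3) (Steps.bwd (nat_lit 3) (Steps.bwd (nat_lit 1) (Steps.bwd (nat_lit 3) (Steps.bwd (nat_lit 1) (Steps.fwd (nat_lit 12288) (Steps.fwd (nat_lit 4096) (Steps.bwd (nat_lit 3) (Steps.bwd (nat_lit 3) (Steps.bwd (nat_lit 1) (Steps.bwd (nat_lit 3) (Steps.fwd (nat_lit 4096) (Steps.fwd (nat_lit 12288) (Steps.fwd (nat_lit 4096) (Steps.bwd (nat_lit 2) (Steps.bwd (nat_lit 2) (Steps.fwd (nat_lit 4096) (Steps.bwd (nat_lit 3) (Steps.fwd (nat_lit 4096) Steps.nil)))))))))))))))))))) (nat_lit 10) (nat_lit 18),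
  Rule.mk (nat_lit 2) (nat_lit 261) (Steps.bwd (nat_lit 1) (Steps.bwd (nat_lit 2) (Steps.bwd (nat_lit 1) (Steps.fwd (nat_lit 12288) (Steps.bwd (nat_lit 1) (Steps.fwd (nat_lit 12288) (Steps.fwd (nat_lit 4096) (Steps.fwd (nat_lit 12288) (Steps.bwd (nat_lit 1) (Steps.fwd (nat_lit 12288) (Steps.fwd (nat_lit 4096) (Steps.fwd (nat_lit 12288) (Steps.fwd (nat_lit 4096) (Steps.fwd (nat_lit 12288) (Steps.fwd (nat_lit 4096) (Steps.fwd (nat_lit 12288) (Steps.bwd (nat_lit 1) (Steps.fwd (nat_lit 12288) (Steps.fwd (nat_lit 4096) (Steps.fwd (nat_lit 12288) (Steps.fwd (nat_lit 4096) Steps.nil))))))))))))))))))))) (nat_lit 4) (nat_lit 0),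
  Rule.mk (nat_lit 1) (nat_lit 225) (Steps.bwd (nat_lit 3) (Steps.bwd (nat_lit 3) (Steps.bwd (nat_lit 1) (Steps.bwd (nat_lit 2) (Steps.bwd (nat_lit 1) (Steps.bwd (nat_lit 3) (Steps.fwd (nat_lit 4096) (Steps.fwd (nat_lit 12288) (Steps.fwd (nat_lit 4096) (Steps.bwd (nat_lit 2) (Steps.bwd (nat_lit 1) (Steps.fwd (nat_lit 8192) (Steps.fwd (nat_lit 4096) (Steps.bwd (nat_lit 3) (Steps.fwd (nat_lit 4096) (Steps.bwd (nat_lit 2) (Steps.bwd (nat_lit 1) (Steps.bwd (nat_lit 3) Steps.nil)))))))))))))))))) (nat_lit 8) (nat_lit 17),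
  Rule.mk (nat_lit 3) (nat_lit 249) (Steps.bwd (nat_lit 1) (Steps.bwd (nat_lit 2) (Steps.bwd (nat_lit 1) (Steps.bwd (nat_lit 3) (Steps.bwd (nat_lit 3) (Steps.bwd (nat_lit 1) (Steps.bwd (nat_lit 3) (Steps.bwd (nat_lit 1) (Steps.fwd (nat_lit 12288) (Steps.fwd (nat_lit 4096) (Steps.bwd (nat_lit 3) (Steps.bwd (nat_lit 3) (Steps.fwd (nat_lit 4096) (Steps.fwd (nat_lit 8192) (Steps.fwd (nat_lit 4096) (Steps.fwd (nat_lit 12288) (Steps.fwd (nat_lit 4096) (Steps.fwd (nat_lit 12288) (Steps.fwd (nat_lit 12288) (Steps.fwd (nat_lit 4096) Steps.nil)))))))))))))))))))) (nat_lit 10) (nat_lit 16),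
  Rule.mk (nat_lit 2) (nat_lit 225) (Steps.bwd (nat_lit 1) (Steps.bwd (nat_lit 3) (Steps.bwd (nat_lit 1) (Steps.bwd (nat_lit 2) (Steps.bwd (nat_lit 1) (Steps.bwd (nat_lit 2) (Steps.bwd (nat_lit 1) (Steps.bwd (nat_lit 3) (Steps.fwd (nat_lit 4096) (Steps.fwd (nat_lit 8192) (Steps.fwd (nat_lit 4096) (Steps.fwd (nat_lit 12288) (Steps.fwd (nat_lit 4096) (Steps.bwd (nat_lit 3) (Steps.fwd (nat_lit 4096) (Steps.bwd (nat_lit 3) (Steps.bwd (nat_lit 3) (Steps.fwd (nat_lit 4096) Steps.nil)))))))))))))))))) (nat_lit 8) (nat_lit 2),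
  Rule.mk (nat_lit 2) (nat_lit 225) (Steps.bwd (nat_lit 1) (Steps.bwd (nat_lit 2) (Steps.bwd (nat_lit 1) (Steps.bwd (nat_lit 3) (Steps.bwd (nat_lit 1) (Steps.bwd (nat_lit 3) (Steps.bwd (nat_lit 1) (Steps.fwd (nat_lit 12288) (Steps.fwd (nat_lit 4096) (Steps.bwd (nat_lit 3) (Steps.bwd (nat_lit 1) (Steps.bwd (nat_lit 3) (Steps.bwd (nat_lit 3) (Steps.fwd (nat_lit 4096) (Steps.fwd (nat_lit 12288) (Steps.fwd (nat_lit 4096) (Steps.fwd (nat_lit 8192) (Steps.fwd (nat_lit 4096) Steps.nil)))))))))))))))))) (nat_lit 8) (nat_lit 6),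
  Rule.mk (nat_lit 2) (nat_lit 261) (Steps.bwd (nat_lit 1) (Steps.bwd (nat_lit 2) (Steps.bwd (nat_lit 1) (Steps.bwd (nat_lit 2) (Steps.bwd (nat_lit 1) (Steps.fwd (nat_lit 12288) (Steps.bwd (nat_lit 1) (Steps.fwd (nat_lit 12288) (Steps.fwd (nat_lit 4096) (Steps.bwd (nat_lit 2) (Steps.bwd (nat_lit 1) (Steps.fwd (nat_lit 12288) (Steps.fwd (nat_lit 4096) (Steps.bwd (nat_lit 2) (Steps.fwd (nat_lit 4096) (Steps.fwd (nat_lit 12288) (Steps.fwd (nat_lit 4096) (Steps.bwd (nat_lit 2) (Steps.fwd (nat_lit 4096) (Steps.bwd (nat_lit 2) (Steps.fwd (nat_lit 4096) Steps.nil))))))))))))))))))))) (nat_lit 4) (nat_lit 0),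
  Rule.mk (nat_lit 3) (nat_lit 261) (Steps.bwd (nat_lit 1) (Steps.bwd (nat_lit 3) (Steps.bwd (nat_lit 1) (Steps.bwd (nat_lit 3) (Steps.bwd (nat_lit 1) (Steps.bwd (nat_lit 3) (Steps.bwd (nat_lit 1) (Steps.bwd (nat_lit 3) (Steps.bwd (nat_lit 1) (Steps.bwd (nat_lit 3) (Steps.fwd (nat_lit 4096) (Steps.fwd (nat_lit 8192) (Steps.fwd (nat_lit 4096) (Steps.bwd (nat_lit 3) (Steps.bwd (nat_lit 1) (Steps.bwd (nat_lit 3) (Steps.fwd (nat_lit 4096) (Steps.fwd (nat_lit 8192) (Steps.fwd (nat_lit 4096) (Steps.fwd (nat_lit 8192) (Steps.fwd (nat_lit 4096) Steps.nil))))))))))))))))))))) (nat_lit 5) (nat_lit 1),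
  Rule.mk (nat_lit 3) (nat_lit 225) (Steps.bwd (nat_lit 1) (Steps.bwd (nat_lit 2) (Steps.bwd (nat_lit 1) (Steps.bwd (nat_lit 3) (Steps.bwd (nat_lit 1) (Steps.bwd (nat_lit 3) (Steps.fwd (nat_lit 8192) (Steps.fwd (nat_lit 4096) (Steps.fwd (nat_lit 12288) (Steps.fwd (nat_lit 4096) (Steps.bwd (nat_lit 3) (Steps.fwd (nat_lit 4096) (Steps.fwd (nat_lit 12288) (Steps.bwd (nat_lit 1) (Steps.fwd (nat_lit 12288) (Steps.fwd (nat_lit 4096) (Steps.fwd (nat_lit 8192) (Steps.fwd (nat_lit 4096) Steps.nil)))))))))))))))))) (nat_lit 8) (nat_lit 12),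
  Rule.mk (nat_lit 3) (nat_lit 225) (Steps.bwd (nat_lit 1) (Steps.bwd (nat_lit 2) (Steps.bwd (nat_lit 1) (Steps.bwd (nat_lit 3) (Steps.fwd (nat_lit 4096) (Steps.bwd (nat_lit 3) (Steps.bwd (nat_lit 3) (Steps.bwd (nat_lit 1) (Steps.fwd (nat_lit 12288) (Steps.bwd (nat_lit 1) (Steps.bwd (nat_lit 3) (Steps.fwd (nat_lit 4096) (Steps.fwd (nat_lit 12288) (Steps.fwd (nat_lit 4096) (Steps.fwd (nat_lit 12288) (Steps.fwd (nat_lit 4096) (Steps.bwd (nat_lit 3) (Steps.fwd (nat_lit 4096) Steps.nil)))))))))))))))))) (nat_lit 8) (nat_lit 12),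
  Rule.mk (nat_lit 3) (nat_lit 213) (Steps.bwd (nat_lit 3) (Steps.bwd (nat_lit 1) (Steps.bwd (nat_lit 3) (Steps.fwd (nat_lit 8192) (Steps.fwd (nat_lit 4096) (Steps.bwd (nat_lit 3) (Steps.bwd (nat_lit 3) (Steps.fwd (nat_lit 4096) (Steps.bwd (nat_lit 3) (Steps.bwd (nat_lit 3) (Steps.bwd (nat_lit 1) (Steps.bwd (nat_lit 3) (Steps.bwd (nat_lit 3) (Steps.fwd (nat_lit 4096) (Steps.fwd (nat_lit 8192) (Steps.bwd (nat_lit 3) (Steps.fwd (nat_lit 4096) Steps.nil))))))))))))))))) (nat_lit 7) (nat_lit 1),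
  Rule.mk (nat_lit 3) (nat_lit 249) (Steps.bwd (nat_lit 3) (Steps.bwd (nat_lit 1) (Steps.bwd (nat_lit 3) (Steps.bwd (nat_lit 1) (Steps.bwd (nat_lit 2) (Steps.bwd (nat_lit 1) (Steps.bwd (nat_lit 3) (Steps.bwd (nat_lit 3) (Steps.fwd (nat_lit 4096) (Steps.fwd (nat_lit 8192) (Steps.bwd (nat_lit 1) (Steps.fwd (nat_lit 12288) (Steps.fwd (nat_lit 4096) (Steps.fwd (nat_lit 12288) (Steps.fwd (nat_lit 12288) (Steps.fwd (nat_lit 4096) (Steps.fwd (nat_lit 8192) (Steps.fwd (nat_lit 4096) (Steps.fwd (nat_lit 12288) (Steps.fwd (nat_lit 4096) Steps.nil)))))))))))))))))))) (nat_lit 10) (nat_lit 20),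
  Rule.mk (nat_lit 2) (nat_lit 261) (Steps.bwd (nat_lit 1) (Steps.bwd (nat_lit 2) (Steps.bwd (nat_lit 1) (Steps.bwd (nat_lit 2) (Steps.bwd (nat_lit 1) (Steps.bwd (nat_lit 2) (Steps.bwd (nat_lit 1) (Steps.bwd (nat_lit 2) (Steps.bwd (nat_lit 1) (Steps.fwd (nat_lit 12288) (Steps.fwd (nat_lit 4096) (Steps.fwd (nat_lit 12288) (Steps.fwd (nat_lit 4096) (Steps.fwd (nat_lit 12288) (Steps.fwd (nat_lit 4096) (Steps.fwd (nat_lit 12288) (Steps.fwd (nat_lit 4096) (Steps.fwd (nat_lit 12288) (Steps.fwd (nat_lit 4096) (Steps.fwd (nat_lit 12288) (Steps.fwd (nat_lit 4096) Steps.nil))))))))))))))))))))) (nat_lit 4) (nat_lit 0),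
  Rule.mk (nat_lit 3) (nat_lit 225) (Steps.bwd (nat_lit 1) (Steps.bwd (nat_lit 2) (Steps.bwd (nat_lit 1) (Steps.bwd (nat_lit 2) (Steps.fwd (nat_lit 4096) (Steps.bwd (nat_lit 3) (Steps.fwd (nat_lit 4096) (Steps.fwd (nat_lit 8192) (Steps.fwd (nat_lit 4096) (Steps.fwd (nat_lit 12288) (Steps.bwd (nat_lit 1) (Steps.bwd (nat_lit 3) (Steps.fwd (nat_lit 4096) (Steps.fwd (nat_lit 8192) (Steps.fwd (nat_lit 8192) (Steps.fwd (nat_lit 4096) (Steps.fwd (nat_lit 12288) (Steps.fwd (nat_lit 4096) Steps.nil)))))))))))))))))) (nat_lit 8) (nat_lit 4),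
  Rule.mk (nat_lit 3) (nat_lit 225) (Steps.bwd (nat_lit 1) (Steps.bwd (nat_lit 2) (Steps.bwd (nat_lit 1) (Steps.bwd (nat_lit 3) (Steps.bwd (nat_lit 1) (Steps.fwd (nat_lit 8192) (Steps.fwd (nat_lit 8192) (Steps.fwd (nat_lit 4096) (Steps.bwd (nat_lit 2) (Steps.fwd (nat_lit 4096) (Steps.fwd (nat_lit 8192) (Steps.fwd (nat_lit 4096) (Steps.fwd (nat_lit 12288) (Steps.bwd (nat_lit 1) (Steps.fwd (nat_lit 12288) (Steps.bwd (nat_lit 1) (Steps.fwd (nat_lit 8192) (Steps.fwd (nat_lit 4096) Steps.nil)))))))))))))))))) (nat_lit 8) (nat_lit 12),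
  Rule.mk (nat_lit 2) (nat_lit 225) (Steps.bwd (nat_lit 1) (Steps.fwd (nat_lit 8192) (Steps.bwd (nat_lit 1) (Steps.bwd (nat_lit 3) (Steps.fwd (nat_lit 8192) (Steps.fwd (nat_lit 4096) (Steps.fwd (nat_lit 12288) (Steps.bwd (nat_lit 1) (Steps.bwd (nat_lit 3) (Steps.bwd (nat_lit 1) (Steps.bwd (nat_lit 2) (Steps.bwd (nat_lit 1) (Steps.fwd (nat_lit 12288) (Steps.fwd (nat_lit 4096) (Steps.fwd (nat_lit 8192) (Steps.fwd (nat_lit 4096) (Steps.fwd (nat_lit 8192) (Steps.fwd (nat_lit 4096) Steps.nil)))))))))))))))))) (nat_lit 8) (nat_lit 14),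
  Rule.mk (nat_lit 3) (nat_lit 225) (Steps.bwd (nat_lit 1) (Steps.bwd (nat_lit 2) (Steps.bwd (nat_lit 1) (Steps.bwd (nat_lit 3) (Steps.fwd (nat_lit 4096) (Steps.bwd (nat_lit 3) (Steps.bwd (nat_lit 3) (Steps.fwd (nat_lit 4096) (Steps.bwd (nat_lit 2) (Steps.fwd (nat_lit 4096) (Steps.bwd (nat_lit 3) (Steps.bwd (nat_lit 1) (Steps.bwd (nat_lit 2) (Steps.bwd (nat_lit 1) (Steps.fwd (nat_lit 12288) (Steps.fwd (nat_lit 4096) (Steps.bwd (nat_lit 3) (Steps.fwd (nat_lit 4096) Steps.nil)))))))))))))))))) (nat_lit 8) (nat_lit 12),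
  Rule.mk (nat_lit 2) (nat_lit 225) (Steps.bwd (nat_lit 1) (Steps.bwd (nat_lit 3) (Steps.bwd (nat_lit 1) (Steps.bwd (nat_lit 3) (Steps.fwd (nat_lit 4096) (Steps.fwd (nat_lit 12288) (Steps.bwd (nat_lit 1) (Steps.bwd (nat_lit 3) (Steps.bwd (nat_lit 1) (Steps.bwd (nat_lit 3) (Steps.bwd (nat_lit 3) (Steps.fwd (nat_lit 4096) (Steps.fwd (nat_lit 12288) (Steps.fwd (nat_lit 4096) (Steps.bwd (nat_lit 3) (Steps.bwd (nat_lit 1) (Steps.fwd (nat_lit 12288) (Steps.fwd (nat_lit 4096) Steps.nil)))))))))))))))))) (nat_lit 8) (nat_lit 8),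
  Rule.mk (nat_lit 2) (nat_lit 225) (Steps.bwd (nat_lit 2) (Steps.bwd (nat_lit 1) (Steps.bwd (nat_lit 2) (Steps.bwd (nat_lit 1) (Steps.bwd (nat_lit 3) (Steps.bwd (nat_lit 1) (Steps.bwd (nat_lit 2) (Steps.bwd (nat_lit 1) (Steps.fwd (nat_lit 12288) (Steps.fwd (nat_lit 4096) (Steps.fwd (nat_lit 8192) (Steps.fwd (nat_lit 4096) (Steps.fwd (nat_lit 8192) (Steps.fwd (nat_lit 4096) (Steps.bwd (nat_lit 2) (Steps.fwd (nat_lit 4096) (Steps.fwd (nat_lit 8192) (Steps.fwd (nat_lit 4096) Steps.nil)))))))))))))))))) (nat_lit 9) (nat_lit 1),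
  Rule.mk (nat_lit 3) (nat_lit 213) (Steps.bwd (nat_lit 3) (Steps.bwd (nat_lit 1) (Steps.bwd (nat_lit 3) (Steps.bwd (nat_lit 3) (Steps.bwd (nat_lit 1) (Steps.bwd (nat_lit 3) (Steps.bwd (nat_lit 3) (Steps.bwd (nat_lit 1) (Steps.bwd (nat_lit 3) (Steps.bwd (nat_lit 3) (Steps.fwd (nat_lit 4096) (Steps.fwd (nat_lit 8192) (Steps.fwd (nat_lit 8192) (Steps.fwd (nat_lit 4096) (Steps.fwd (nat_lit 8192) (Steps.bwd (nat_lit 3) (Steps.fwd (nat_lit 4096) Steps.nil))))))))))))))))) (nat_lit 7) (nat_lit 1),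
  Rule.mk (nat_lit 1) (nat_lit 249) (Steps.bwd (nat_lit 2) (Steps.bwd (nat_lit 1) (Steps.fwd (nat_lit 8192) (Steps.fwd (nat_lit 8192) (Steps.bwd (nat_lit 1) (Steps.fwd (nat_lit 8192) (Steps.fwd (nat_lit 4096) (Steps.bwd (nat_lit 2) (Steps.bwd (nat_lit 1) (Steps.bwd (nat_lit 3) (Steps.fwd (nat_lit 8192) (Steps.fwd (nat_lit 4096) (Steps.fwd (nat_lit 8192) (Steps.fwd (nat_lit 4096) (Steps.bwd (nat_lit 2) (Steps.fwd (nat_lit 4096) (Steps.fwd (nat_lit 12288) (Steps.fwd (nat_lit 12288) (Steps.fwd (nat_lit 4096) (Steps.bwd (nat_lit 3) Steps.nil)))))))))))))))))))) (nat_lit 10) (nat_lit 17),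
  Rule.mk (nat_lit 2) (nat_lit 225) (Steps.bwd (nat_lit 1) (Steps.bwd (nat_lit 3) (Steps.bwd (nat_lit 1) (Steps.bwd (nat_lit 3) (Steps.bwd (nat_lit 3) (Steps.bwd (nat_lit 1) (Steps.fwd (nat_lit 12288) (Steps.fwd (nat_lit 4096) (Steps.fwd (nat_lit 8192) (Steps.bwd (nat_lit 1) (Steps.fwd (nat_lit 12288) (Steps.fwd (nat_lit 4096) (Steps.fwd (nat_lit 12288) (Steps.fwd (nat_lit 4096) (Steps.fwd (nat_lit 8192) (Steps.fwd (nat_lit 4096) (Steps.bwd (nat_lit 3) (Steps.fwd (nat_lit 4096) Steps.nil)))))))))))))))))) (nat_lit 8) (nat_lit 14),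
  Rule.mk (nat_lit 3) (nat_lit 249) (Steps.bwd (nat_lit 1) (Steps.bwd (nat_lit 3) (Steps.bwd (nat_lit 1) (Steps.fwd (nat_lit 12288) (Steps.bwd (nat_lit 1) (Steps.fwd (nat_lit 12288) (Steps.bwd (nat_lit 2) (Steps.bwd (nat_lit 1) (Steps.bwd (nat_lit 3) (Steps.fwd (nat_lit 4096) (Steps.bwd (nat_lit 2) (Steps.bwd (nat_lit 1) (Steps.bwd (nat_lit 3) (Steps.bwd (nat_lit 3) (Steps.fwd (nat_lit 4096) (Steps.fwd (nat_lit 8192) (Steps.bwd (nat_lit 1) (Steps.bwd (nat_lit 2) (Steps.fwd (nat_lit 4096) (Steps.bwd (nat_lit 3) Steps.nil)))))))))))))))))))) (nat_lit 10) (nat_lit 7),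
  Rule.mk (nat_lit 2) (nat_lit 225) (Steps.bwd (nat_lit 1) (Steps.bwd (nat_lit 3) (Steps.bwd (nat_lit 1) (Steps.fwd (nat_lit 8192) (Steps.fwd (nat_lit 4096) (Steps.bwd (nat_lit 2) (Steps.bwd (nat_lit 1) (Steps.bwd (nat_lit 3) (Steps.bwd (nat_lit 1) (Steps.bwd (nat_lit 3) (Steps.bwd (nat_lit 3) (Steps.fwd (nat_lit 4096) (Steps.fwd (nat_lit 12288) (Steps.fwd (nat_lit 4096) (Steps.bwd (nat_lit 3) (Steps.bwd (nat_lit 1) (Steps.fwd (nat_lit 12288) (Steps.fwd (nat_lit 4096) Steps.nil)))))))))))))))))) (nat_lit 8) (nat_lit 8),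
  Rule.mk (nat_lit 3) (nat_lit 261) (Steps.bwd (nat_lit 1) (Steps.bwd (nat_lit 3) (Steps.fwd (nat_lit 4096) (Steps.bwd (nat_lit 3) (Steps.fwd (nat_lit 4096) (Steps.fwd (nat_lit 8192) (Steps.bwd (nat_lit 1) (Steps.bwd (nat_lit 3) (Steps.fwd (nat_lit 4096) (Steps.bwd (nat_lit 3) (Steps.bwd (nat_lit 1) (Steps.bwd (nat_lit 3) (Steps.bwd (nat_lit 1) (Steps.bwd (nat_lit 3) (Steps.bwd (nat_lit 1) (Steps.bwd (nat_lit 3) (Steps.fwd (nat_lit 4096) (Steps.fwd (nat_lit 8192) (Steps.fwd (nat_lit 4096) (Steps.fwd (nat_lit 8192) (Steps.fwd (nat_lit 4096) Steps.nil))))))))))))))))))))) (nat_lit 5) (nat_lit 1),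
  Rule.mk (nat_lit 3) (nat_lit 225) (Steps.bwd (nat_lit 1) (Steps.bwd (nat_lit 3) (Steps.bwd (nat_lit 3) (Steps.bwd (nat_lit 1) (Steps.bwd (nat_lit 2) (Steps.bwd (nat_lit 1) (Steps.bwd (nat_lit 3) (Steps.bwd (nat_lit 1) (Steps.fwd (nat_lit 12288) (Steps.fwd (nat_lit 4096) (Steps.fwd (nat_lit 12288) (Steps.fwd (nat_lit 4096) (Steps.bwd (nat_lit 3) (Steps.fwd (nat_lit 4096) (Steps.bwd (nat_lit 3) (Steps.bwd (nat_lit 1) (Steps.fwd (nat_lit 12288) (Steps.fwd (nat_lit 4096) Steps.nil)))))))))))))))))) (nat_lit 8) (nat_lit 16),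
  Rule.mk (nat_lit 1) (nat_lit 213) (Steps.bwd (nat_lit 2) (Steps.fwd (nat_lit 12288) (Steps.bwd (nat_lit 1) (Steps.bwd (nat_lit 2) (Steps.fwd (nat_lit 12288) (Steps.fwd (nat_lit 4096) (Steps.fwd (nat_lit 12288) (Steps.fwd (nat_lit 12288) (Steps.bwd (nat_lit 1) (Steps.fwd (nat_lit 12288) (Steps.bwd (nat_lit 2) (Steps.bwd (nat_lit 1) (Steps.fwd (nat_lit 12288) (Steps.fwd (nat_lit 12288) (Steps.fwd (nat_lit 4096) (Steps.fwd (nat_lit 12288) (Steps.bwd (nat_lit 2) Steps.nil))))))))))))))))) (nat_lit 6) (nat_lit 1),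
  Rule.mk (nat_lit 0) (nat_lit 237) (Steps.bwd (nat_lit 1) (Steps.fwd (nat_lit 12288) (Steps.fwd (nat_lit 4096) (Steps.fwd (nat_lit 8192) (Steps.bwd (nat_lit 1) (Steps.bwd (nat_lit 2) (Steps.bwd (nat_lit 1) (Steps.bwd (nat_lit 2) (Steps.bwd (nat_lit 1) (Steps.bwd (nat_lit 3) (Steps.bwd (nat_lit 1) (Steps.bwd (nat_lit 3) (Steps.bwd (nat_lit 1) (Steps.fwd (nat_lit 12288) (Steps.fwd (nat_lit 4096) (Steps.bwd (nat_lit 3) (Steps.fwd (nat_lit 4096) (Steps.fwd (nat_lit 8192) (Steps.bwd (nat_lit 3) Steps.nil))))))))))))))))))) (nat_lit 8) (nat_lit 0),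
  Rule.mk (nat_lit 0) (nat_lit 45) (Steps.fwd (nat_lit 4096) (Steps.fwd (nat_lit 0) (Steps.fwd (nat_lit 4096) Steps.nil))) (nat_lit 12) (nat_lit 0),
  Rule.mk (nat_lit 0) (nat_lit 45) (Steps.fwd (nat_lit 12288) (Steps.fwd (nat_lit 0) (Steps.fwd (nat_lit 8192) Steps.nil))) (nat_lit 12) (nat_lit 0),
  Rule.mk (nat_lit 0) (nat_lit 45) (Steps.bwd (nat_lit 3) (Steps.fwd (nat_lit 0) (Steps.fwd (nat_lit 12288) Steps.nil))) (nat_lit 12) (nat_lit 0),
  Rule.mk (nat_lit 0) (nat_lit 45) (Steps.fwd (nat_lit 12288) (Steps.bwd (nat_lit 0) (Steps.bwd (nat_lit 3) Steps.nil))) (nat_lit 12) (nat_lit 0)]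
noncomputable def R_2 : List (Rule) := [Rule.mk (nat_lit 0) (nat_lit 45) (Steps.bwd (nat_lit 1) (Steps.bwd (nat_lit 0) (Steps.fwd (nat_lit 4096) Steps.nil))) (nat_lit 12) (nat_lit 0),
  Rule.mk (nat_lit 0) (nat_lit 45) (Steps.bwd (nat_lit 1) (Steps.fwd (nat_lit 0) (Steps.bwd (nat_lit 1) Steps.nil))) (nat_lit 12) (nat_lit 0),
  Rule.mk (nat_lit 2) (nat_lit 33) (Steps.bwd (nat_lit 0) (Steps.bwd (nat_lit 3) Steps.nil)) (nat_lit 12) (nat_lit 0),
  Rule.mk (nat_lit 3) (nat_lit 33) (Steps.bwd (nat_lit 0) (Steps.fwd (nat_lit 12288) Steps.nil)) (nat_lit 12) (nat_lit 0),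
  Rule.mk (nat_lit 1) (nat_lit 33) (Steps.bwd (nat_lit 0) (Steps.bwd (nat_lit 1) Steps.nil)) (nat_lit 12) (nat_lit 0),
  Rule.mk (nat_lit 0) (nat_lit 45) (Steps.fwd (nat_lit 12288) (Steps.fwd (nat_lit 0) (Steps.bwd (nat_lit 3) Steps.nil))) (nat_lit 12) (nat_lit 0),
  Rule.mk (nat_lit 0) (nat_lit 45) (Steps.bwd (nat_lit 2) (Steps.bwd (nat_lit 0) (Steps.bwd (nat_lit 3) Steps.nil))) (nat_lit 12) (nat_lit 0),
  Rule.mk (nat_lit 0) (nat_lit 45) (Steps.bwd (nat_lit 3) (Steps.bwd (nat_lit 0) (Steps.fwd (nat_lit 12288) Steps.nil))) (nat_lit 12) (nat_lit 0),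
  Rule.mk (nat_lit 3) (nat_lit 33) (Steps.bwd (nat_lit 0) (Steps.bwd (nat_lit 2) Steps.nil)) (nat_lit 12) (nat_lit 0),
  Rule.mk (nat_lit 0) (nat_lit 261) (Steps.bwd (nat_lit 2) (Steps.bwd (nat_lit 1) (Steps.bwd (nat_lit 3) (Steps.bwd (nat_lit 3) (Steps.bwd (nat_lit 1) (Steps.bwd (nat_lit 3) (Steps.fwd (nat_lit 4096) (Steps.fwd (nat_lit 12288) (Steps.fwd (nat_lit 4096) (Steps.bwd (nat_lit 2) (Steps.bwd (nat_lit 2) (Steps.bwd (nat_lit 1) (Steps.bwd (nat_lit 3) (Steps.fwd (nat_lit 4096) (Steps.fwd (nat_lit 12288) (Steps.fwd (nat_lit 4096) (Steps.fwd (nat_lit 8192) (Steps.fwd (nat_lit 8192) (Steps.bwd (nat_lit 1) (Steps.bwd (nat_lit 3) (Steps.fwd (nat_lit 4096) Steps.nil))))))))))))))))))))) (nat_lit 10) (nat_lit 3),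
  Rule.mk (nat_lit 0) (nat_lit 45) (Steps.bwd (nat_lit 3) (Steps.bwd (nat_lit 0) (Steps.bwd (nat_lit 2) Steps.nil))) (nat_lit 12) (nat_lit 0),
  Rule.mk (nat_lit 3) (nat_lit 225) (Steps.bwd (nat_lit 1) (Steps.fwd (nat_lit 12288) (Steps.fwd (nat_lit 4096) (Steps.fwd (nat_lit 12288) (Steps.fwd (nat_lit 4096) (Steps.fwd (nat_lit 8192) (Steps.bwd (nat_lit 1) (Steps.bwd (nat_lit 3) (Steps.fwd (nat_lit 4096) (Steps.bwd (nat_lit 2) (Steps.bwd (nat_lit 1) (Steps.bwd (nat_lit 3) (Steps.fwd (nat_lit 4096) (Steps.fwd (nat_lit 8192) (Steps.fwd (nat_lit 8192) (Steps.fwd (nat_lit 4096) (Steps.fwd (nat_lit 12288) (Steps.fwd (nat_lit 4096) Steps.nil)))))))))))))))))) (nat_lit 8) (nat_lit 4),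
  Rule.mk (nat_lit 0) (nat_lit 261) (Steps.bwd (nat_lit 3) (Steps.bwd (nat_lit 3) (Steps.bwd (nat_lit 1) (Steps.bwd (nat_lit 3) (Steps.bwd (nat_lit 1) (Steps.fwd (nat_lit 12288) (Steps.fwd (nat_lit 4096) (Steps.fwd (nat_lit 12288) (Steps.fwd (nat_lit 12288) (Steps.fwd (nat_lit 4096) (Steps.bwd (nat_lit 3) (Steps.bwd (nat_lit 1) (Steps.fwd (nat_lit 12288) (Steps.fwd (nat_lit 4096) (Steps.bwd (nat_lit 3) (Steps.bwd (nat_lit 3) (Steps.bwd (nat_lit 1) (Steps.bwd (nat_lit 3) (Steps.bwd (nat_lit 1) (Steps.fwd (nat_lit 12288) (Steps.fwd (nat_lit 4096) Steps.nil))))))))))))))))))))) (nat_lit 10) (nat_lit 5),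
  Rule.mk (nat_lit 3) (nat_lit 225) (Steps.bwd (nat_lit 1) (Steps.fwd (nat_lit 8192) (Steps.fwd (nat_lit 8192) (Steps.bwd (nat_lit 1) (Steps.fwd (nat_lit 12288) (Steps.fwd (nat_lit 4096) (Steps.bwd (nat_lit 3) (Steps.bwd (nat_lit 1) (Steps.bwd (nat_lit 2) (Steps.bwd (nat_lit 1) (Steps.fwd (nat_lit 12288) (Steps.fwd (nat_lit 4096) (Steps.bwd (nat_lit 3) (Steps.bwd (nat_lit 1) (Steps.bwd (nat_lit 3) (Steps.fwd (nat_lit 4096) (Steps.fwd (nat_lit 12288) (Steps.fwd (nat_lit 4096) Steps.nil)))))))))))))))))) (nat_lit 8) (nat_lit 16),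
  Rule.mk (nat_lit 0) (nat_lit 237) (Steps.fwd (nat_lit 12288) (Steps.bwd (nat_lit 1) (Steps.bwd (nat_lit 3) (Steps.fwd (nat_lit 4096) (Steps.bwd (nat_lit 2) (Steps.fwd (nat_lit 4096) (Steps.fwd (nat_lit 12288) (Steps.bwd (nat_lit 1) (Steps.bwd (nat_lit 3) (Steps.bwd (nat_lit 1) (Steps.bwd (nat_lit 3) (Steps.bwd (nat_lit 1) (Steps.fwd (nat_lit 12288) (Steps.fwd (nat_lit 4096) (Steps.fwd (nat_lit 8192) (Steps.fwd (nat_lit 4096) (Steps.fwd (nat_lit 12288) (Steps.fwd (nat_lit 12288) (Steps.fwd (nat_lit 4096) Steps.nil))))))))))))))))))) (nat_lit 9) (nat_lit 3),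
  Rule.mk (nat_lit 1) (nat_lit 213) (Steps.bwd (nat_lit 3) (Steps.bwd (nat_lit 3) (Steps.bwd (nat_lit 1) (Steps.fwd (nat_lit 8192) (Steps.fwd (nat_lit 8192) (Steps.bwd (nat_lit 1) (Steps.bwd (nat_lit 3) (Steps.bwd (nat_lit 3) (Steps.bwd (nat_lit 1) (Steps.bwd (nat_lit 3) (Steps.fwd (nat_lit 8192) (Steps.fwd (nat_lit 4096) (Steps.bwd (nat_lit 3) (Steps.bwd (nat_lit 3) (Steps.fwd (nat_lit 4096) (Steps.fwd (nat_lit 8192) (Steps.fwd (nat_lit 8192) Steps.nil))))))))))))))))) (nat_lit 7) (nat_lit 0),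
  Rule.mk (nat_lit 1) (nat_lit 213) (Steps.bwd (nat_lit 3) (Steps.fwd (nat_lit 8192) (Steps.bwd (nat_lit 1) (Steps.bwd (nat_lit 3) (Steps.bwd (nat_lit 3) (Steps.bwd (nat_lit 1) (Steps.bwd (nat_lit 3) (Steps.bwd (nat_lit 3) (Steps.bwd (nat_lit 1) (Steps.bwd (nat_lit 3) (Steps.fwd (nat_lit 8192) (Steps.fwd (nat_lit 4096) (Steps.fwd (nat_lit 8192) (Steps.bwd (nat_lit 3) (Steps.fwd (nat_lit 4096) (Steps.fwd (nat_lit 8192) (Steps.bwd (nat_lit 3) Steps.nil))))))))))))))))) (nat_lit 7) (nat_lit 0),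
  Rule.mk (nat_lit 3) (nat_lit 45) (Steps.bwd (nat_lit 3) (Steps.fwd (nat_lit 8192) (Steps.bwd (nat_lit 3) Steps.nil))) (nat_lit 3) (nat_lit 0),
  Rule.mk (nat_lit 3) (nat_lit 249) (Steps.bwd (nat_lit 3) (Steps.bwd (nat_lit 1) (Steps.bwd (nat_lit 3) (Steps.fwd (nat_lit 4096) (Steps.bwd (nat_lit 2) (Steps.bwd (nat_lit 1) (Steps.bwd (nat_lit 3) (Steps.bwd (nat_lit 3) (Steps.bwd (nat_lit 1) (Steps.bwd (nat_lit 3) (Steps.fwd (nat_lit 4096) (Steps.fwd (nat_lit 12288) (Steps.fwd (nat_lit 4096) (Steps.bwd (nat_lit 2) (Steps.bwd (nat_lit 2) (Steps.bwd (nat_lit 1) (Steps.bwd (nat_lit 3) (Steps.fwd (nat_lit 4096) (Steps.fwd (nat_lit 12288) (Steps.fwd (nat_lit 4096) Steps.nil)))))))))))))))))))) (nat_lit 10) (nat_lit 20),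
  Rule.mk (nat_lit 3) (nat_lit 213) (Steps.bwd (nat_lit 3) (Steps.bwd (nat_lit 1) (Steps.bwd (nat_lit 3) (Steps.bwd (nat_lit 3) (Steps.bwd (nat_lit 1) (Steps.fwd (nat_lit 8192) (Steps.bwd (nat_lit 3) (Steps.bwd (nat_lit 1) (Steps.bwd (nat_lit 3) (Steps.bwd (nat_lit 3) (Steps.fwd (nat_lit 4096) (Steps.fwd (nat_lit 8192) (Steps.bwd (nat_lit 3) (Steps.fwd (nat_lit 4096) (Steps.fwd (nat_lit 8192) (Steps.bwd (nat_lit 3) (Steps.fwd (nat_lit 4096) Steps.nil))))))))))))))))) (nat_lit 7) (nat_lit 1),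
  Rule.mk (nat_lit 1) (nat_lit 249) (Steps.bwd (nat_lit 2) (Steps.bwd (nat_lit 2) (Steps.bwd (nat_lit 1) (Steps.bwd (nat_lit 3) (Steps.bwd (nat_lit 1) (Steps.fwd (nat_lit 12288) (Steps.bwd (nat_lit 1) (Steps.bwd (nat_lit 3) (Steps.bwd (nat_lit 3) (Steps.bwd (nat_lit 1) (Steps.bwd (nat_lit 3) (Steps.fwd (nat_lit 4096) (Steps.fwd (nat_lit 12288) (Steps.fwd (nat_lit 4096) (Steps.fwd (nat_lit 8192) (Steps.fwd (nat_lit 8192) (Steps.fwd (nat_lit 4096) (Steps.fwd (nat_lit 8192) (Steps.fwd (nat_lit 4096) (Steps.bwd (nat_lit 2) Steps.nil)))))))))))))))))))) (nat_lit 10) (nat_lit 12),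
  Rule.mk (nat_lit 1) (nat_lit 225) (Steps.bwd (nat_lit 2) (Steps.bwd (nat_lit 1) (Steps.bwd (nat_lit 3) (Steps.bwd (nat_lit 1) (Steps.bwd (nat_lit 3) (Steps.bwd (nat_lit 3) (Steps.bwd (nat_lit 1) (Steps.fwd (nat_lit 12288) (Steps.fwd (nat_lit 4096) (Steps.fwd (nat_lit 8192) (Steps.fwd (nat_lit 4096) (Steps.fwd (nat_lit 12288) (Steps.fwd (nat_lit 4096) (Steps.fwd (nat_lit 12288) (Steps.fwd (nat_lit 4096) (Steps.fwd (nat_lit 8192) (Steps.bwd (nat_lit 1) (Steps.fwd (nat_lit 8192) Steps.nil)))))))))))))))))) (nat_lit 8) (nat_lit 13),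
  Rule.mk (nat_lit 2) (nat_lit 225) (Steps.bwd (nat_lit 1) (Steps.bwd (nat_lit 3) (Steps.bwd (nat_lit 1) (Steps.bwd (nat_lit 3) (Steps.bwd (nat_lit 3) (Steps.bwd (nat_lit 1) (Steps.fwd (nat_lit 12288) (Steps.bwd (nat_lit 1) (Steps.bwd (nat_lit 3) (Steps.fwd (nat_lit 4096) (Steps.fwd (nat_lit 12288) (Steps.fwd (nat_lit 4096) (Steps.fwd (nat_lit 12288) (Steps.fwd (nat_lit 4096) (Steps.fwd (nat_lit 8192) (Steps.bwd (nat_lit 1) (Steps.bwd (nat_lit 3) (Steps.fwd (nat_lit 4096) Steps.nil)))))))))))))))))) (nat_lit 8) (nat_lit 14),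
  Rule.mk (nat_lit 2) (nat_lit 225) (Steps.bwd (nat_lit 1) (Steps.fwd (nat_lit 8192) (Steps.bwd (nat_lit 1) (Steps.bwd (nat_lit 3) (Steps.bwd (nat_lit 1) (Steps.bwd (nat_lit 2) (Steps.bwd (nat_lit 1) (Steps.bwd (nat_lit 3) (Steps.fwd (nat_lit 4096) (Steps.fwd (nat_lit 8192) (Steps.fwd (nat_lit 8192) (Steps.fwd (nat_lit 4096) (Steps.fwd (nat_lit 12288) (Steps.fwd (nat_lit 4096) (Steps.fwd (nat_lit 8192) (Steps.fwd (nat_lit 4096) (Steps.fwd (nat_lit 12288) (Steps.fwd (nat_lit 4096) Steps.nil)))))))))))))))))) (nat_lit 8) (nat_lit 8),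
  Rule.mk (nat_lit 2) (nat_lit 225) (Steps.bwd (nat_lit 1) (Steps.bwd (nat_lit 3) (Steps.fwd (nat_lit 4096) (Steps.bwd (nat_lit 2) (Steps.bwd (nat_lit 1) (Steps.bwd (nat_lit 2) (Steps.fwd (nat_lit 4096) (Steps.bwd (nat_lit 3) (Steps.bwd (nat_lit 1) (Steps.bwd (nat_lit 3) (Steps.fwd (nat_lit 4096) (Steps.fwd (nat_lit 12288) (Steps.bwd (nat_lit 1) (Steps.bwd (nat_lit 3) (Steps.fwd (nat_lit 4096) (Steps.fwd (nat_lit 8192) (Steps.bwd (nat_lit 3) (Steps.fwd (nat_lit 4096) Steps.nil)))))))))))))))))) (nat_lit 8) (nat_lit 2),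
  Rule.mk (nat_lit 0) (nat_lit 261) (Steps.bwd (nat_lit 3) (Steps.bwd (nat_lit 3) (Steps.bwd (nat_lit 1) (Steps.bwd (nat_lit 3) (Steps.fwd (nat_lit 4096) (Steps.fwd (nat_lit 12288) (Steps.bwd (nat_lit 1) (Steps.fwd (nat_lit 12288) (Steps.fwd (nat_lit 12288) (Steps.bwd (nat_lit 1) (Steps.bwd (nat_lit 3) (Steps.fwd (nat_lit 4096) (Steps.bwd (nat_lit 2) (Steps.bwd (nat_lit 1) (Steps.bwd (nat_lit 3) (Steps.bwd (nat_lit 3) (Steps.bwd (nat_lit 1) (Steps.bwd (nat_lit 3) (Steps.fwd (nat_lit 4096) (Steps.fwd (nat_lit 12288) (Steps.fwd (nat_lit 4096) Steps.nil))))))))))))))))))))) (nat_lit 10) (nat_lit 5),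
  Rule.mk (nat_lit 0) (nat_lit 225) (Steps.bwd (nat_lit 3) (Steps.bwd (nat_lit 3) (Steps.bwd (nat_lit 1) (Steps.bwd (nat_lit 3) (Steps.bwd (nat_lit 3) (Steps.bwd (nat_lit 1) (Steps.bwd (nat_lit 3) (Steps.bwd (nat_lit 3) (Steps.fwd (nat_lit 4096) (Steps.fwd (nat_lit 8192) (Steps.bwd (nat_lit 3) (Steps.fwd (nat_lit 4096) (Steps.fwd (nat_lit 8192) (Steps.bwd (nat_lit 3) (Steps.bwd (nat_lit 1) (Steps.bwd (nat_lit 3) (Steps.bwd (nat_lit 3) (Steps.fwd (nat_lit 4096) Steps.nil)))))))))))))))))) (nat_lit 7) (nat_lit 0),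
  Rule.mk (nat_lit 0) (nat_lit 237) (Steps.bwd (nat_lit 1) (Steps.bwd (nat_lit 3) (Steps.bwd (nat_lit 3) (Steps.bwd (nat_lit 1) (Steps.bwd (nat_lit 2) (Steps.bwd (nat_lit 1) (Steps.bwd (nat_lit 3) (Steps.fwd (nat_lit 4096) (Steps.fwd (nat_lit 12288) (Steps.fwd (nat_lit 4096) (Steps.fwd (nat_lit 12288) (Steps.fwd (nat_lit 4096) (Steps.bwd (nat_lit 3) (Steps.bwd (nat_lit 1) (Steps.bwd (nat_lit 3) (Steps.bwd (nat_lit 1) (Steps.fwd (nat_lit 12288) (Steps.bwd (nat_lit 1) (Steps.bwd (nat_lit 3) Steps.nil))))))))))))))))))) (nat_lit 8) (nat_lit 16),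
  Rule.mk (nat_lit 0) (nat_lit 261) (Steps.bwd (nat_lit 3) (Steps.bwd (nat_lit 3) (Steps.bwd (nat_lit 1) (Steps.bwd (nat_lit 3) (Steps.fwd (nat_lit 4096) (Steps.fwd (nat_lit 12288) (Steps.bwd (nat_lit 1) (Steps.bwd (nat_lit 3) (Steps.bwd (nat_lit 3) (Steps.bwd (nat_lit 1) (Steps.bwd (nat_lit 3) (Steps.fwd (nat_lit 4096) (Steps.fwd (nat_lit 12288) (Steps.fwd (nat_lit 4096) (Steps.bwd (nat_lit 2) (Steps.bwd (nat_lit 2) (Steps.bwd (nat_lit 1) (Steps.bwd (nat_lit 3) (Steps.fwd (nat_lit 4096) (Steps.fwd (nat_lit 12288) (Steps.fwd (nat_lit 4096) Steps.nil))))))))))))))))))))) (nat_lit 10) (nat_lit 19),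
  Rule.mk (nat_lit 0) (nat_lit 225) (Steps.bwd (nat_lit 3) (Steps.bwd (nat_lit 3) (Steps.bwd (nat_lit 1) (Steps.bwd (nat_lit 3) (Steps.bwd (nat_lit 3) (Steps.fwd (nat_lit 4096) (Steps.fwd (nat_lit 8192) (Steps.bwd (nat_lit 3) (Steps.bwd (nat_lit 1) (Steps.bwd (nat_lit 3) (Steps.bwd (nat_lit 3) (Steps.bwd (nat_lit 1) (Steps.bwd (nat_lit 3) (Steps.bwd (nat_lit 3) (Steps.fwd (nat_lit 4096) (Steps.fwd (nat_lit 8192) (Steps.bwd (nat_lit 3) (Steps.fwd (nat_lit 4096) Steps.nil)))))))))))))))))) (nat_lit 7) (nat_lit 0),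
  Rule.mk (nat_lit 1) (nat_lit 33) (Steps.bwd (nat_lit 0) (Steps.fwd (nat_lit 4096) Steps.nil)) (nat_lit 12) (nat_lit 0),
  Rule.mk (nat_lit 2) (nat_lit 225) (Steps.bwd (nat_lit 1) (Steps.fwd (nat_lit 8192) (Steps.fwd (nat_lit 4096) (Steps.bwd (nat_lit 3) (Steps.bwd (nat_lit 3) (Steps.bwd (nat_lit 1) (Steps.fwd (nat_lit 12288) (Steps.fwd (nat_lit 4096) (Steps.fwd (nat_lit 8192) (Steps.fwd (nat_lit 4096) (Steps.fwd (nat_lit 12288) (Steps.bwd (nat_lit 1) (Steps.fwd (nat_lit 12288) (Steps.fwd (nat_lit 4096) (Steps.bwd (nat_lit 3) (Steps.fwd (nat_lit 4096) (Steps.fwd (nat_lit 8192) (Steps.fwd (nat_lit 4096) Steps.nil)))))))))))))))))) (nat_lit 8) (nat_lit 14),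
  Rule.mk (nat_lit 2) (nat_lit 225) (Steps.bwd (nat_lit 1) (Steps.bwd (nat_lit 3) (Steps.bwd (nat_lit 1) (Steps.bwd (nat_lit 3) (Steps.bwd (nat_lit 1) (Steps.bwd (nat_lit 2) (Steps.fwd (nat_lit 4096) (Steps.bwd (nat_lit 3) (Steps.bwd (nat_lit 1) (Steps.bwd (nat_lit 3) (Steps.bwd (nat_lit 3) (Steps.fwd (nat_lit 4096) (Steps.fwd (nat_lit 12288) (Steps.fwd (nat_lit 4096) (Steps.fwd (nat_lit 8192) (Steps.fwd (nat_lit 4096) (Steps.fwd (nat_lit 12288) (Steps.fwd (nat_lit 4096) Steps.nil)))))))))))))))))) (nat_lit 8) (nat_lit 8),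
  Rule.mk (nat_lit 2) (nat_lit 225) (Steps.bwd (nat_lit 1) (Steps.bwd (nat_lit 3) (Steps.bwd (nat_lit 1) (Steps.bwd (nat_lit 3) (Steps.bwd (nat_lit 3) (Steps.bwd (nat_lit 1) (Steps.fwd (nat_lit 12288) (Steps.bwd (nat_lit 1) (Steps.fwd (nat_lit 8192) (Steps.bwd (nat_lit 1) (Steps.fwd (nat_lit 12288) (Steps.fwd (nat_lit 4096) (Steps.fwd (nat_lit 12288) (Steps.fwd (nat_lit 4096) (Steps.fwd (nat_lit 8192) (Steps.fwd (nat_lit 4096) (Steps.bwd (nat_lit 3) (Steps.fwd (nat_lit 4096) Steps.nil)))))))))))))))))) (nat_lit 8) (nat_lit 14),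
  Rule.mk (nat_lit 2) (nat_lit 225) (Steps.bwd (nat_lit 1) (Steps.bwd (nat_lit 3) (Steps.bwd (nat_lit 1) (Steps.bwd (nat_lit 3) (Steps.fwd (nat_lit 8192) (Steps.fwd (nat_lit 4096) (Steps.bwd (nat_lit 2) (Steps.bwd (nat_lit 1) (Steps.bwd (nat_lit 3) (Steps.bwd (nat_lit 1) (Steps.bwd (nat_lit 2) (Steps.bwd (nat_lit 1) (Steps.fwd (nat_lit 12288) (Steps.fwd (nat_lit 4096) (Steps.bwd (nat_lit 3) (Steps.fwd (nat_lit 4096) (Steps.fwd (nat_lit 8192) (Steps.fwd (nat_lit 4096) Steps.nil)))))))))))))))))) (nat_lit 8) (nat_lit 14),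
  Rule.mk (nat_lit 2) (nat_lit 213) (Steps.bwd (nat_lit 2) (Steps.bwd (nat_lit 1) (Steps.bwd (nat_lit 2) (Steps.fwd (nat_lit 12288) (Steps.bwd (nat_lit 1) (Steps.fwd (nat_lit 12288) (Steps.bwd (nat_lit 2) (Steps.bwd (nat_lit 1) (Steps.bwd (nat_lit 2) (Steps.fwd (nat_lit 12288) (Steps.fwd (nat_lit 4096) (Steps.fwd (nat_lit 12288) (Steps.fwd (nat_lit 12288) (Steps.fwd (nat_lit 4096) (Steps.fwd (nat_lit 12288) (Steps.fwd (nat_lit 12288) (Steps.fwd (nat_lit 4096) Steps.nil))))))))))))))))) (nat_lit 6) (nat_lit 2),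
  Rule.mk (nat_lit 1) (nat_lit 225) (Steps.bwd (nat_lit 2) (Steps.bwd (nat_lit 1) (Steps.bwd (nat_lit 3) (Steps.fwd (nat_lit 4096) (Steps.fwd (nat_lit 8192) (Steps.fwd (nat_lit 8192) (Steps.bwd (nat_lit 1) (Steps.bwd (nat_lit 2) (Steps.bwd (nat_lit 1) (Steps.bwd (nat_lit 3) (Steps.fwd (nat_lit 4096) (Steps.fwd (nat_lit 12288) (Steps.fwd (nat_lit 4096) (Steps.fwd (nat_lit 12288) (Steps.fwd (nat_lit 4096) (Steps.fwd (nat_lit 8192) (Steps.fwd (nat_lit 4096) (Steps.fwd (nat_lit 8192) Steps.nil)))))))))))))))))) (nat_lit 8) (nat_lit 13),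
  Rule.mk (nat_lit 1) (nat_lit 213) (Steps.bwd (nat_lit 2) (Steps.bwd (nat_lit 2) (Steps.bwd (nat_lit 1) (Steps.bwd (nat_lit 2) (Steps.fwd (nat_lit 12288) (Steps.fwd (nat_lit 4096) (Steps.bwd (nat_lit 2) (Steps.bwd (nat_lit 2) (Steps.bwd (nat_lit 1) (Steps.bwd (nat_lit 2) (Steps.fwd (nat_lit 12288) (Steps.fwd (nat_lit 4096) (Steps.fwd (nat_lit 12288) (Steps.fwd (nat_lit 12288) (Steps.bwd (nat_lit 1) (Steps.bwd (nat_lit 2) (Steps.bwd (nat_lit 2) Steps.nil))))))))))))))))) (nat_lit 6) (nat_lit 1),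
  Rule.mk (nat_lit 3) (nat_lit 213) (Steps.bwd (nat_lit 3) (Steps.bwd (nat_lit 1) (Steps.bwd (nat_lit 3) (Steps.bwd (nat_lit 3) (Steps.bwd (nat_lit 1) (Steps.bwd (nat_lit 3) (Steps.fwd (nat_lit 8192) (Steps.fwd (nat_lit 4096) (Steps.fwd (nat_lit 8192) (Steps.fwd (nat_lit 8192) (Steps.bwd (nat_lit 1) (Steps.bwd (nat_lit 3) (Steps.fwd (nat_lit 8192) (Steps.fwd (nat_lit 4096) (Steps.fwd (nat_lit 8192) (Steps.fwd (nat_lit 8192) (Steps.fwd (nat_lit 4096) Steps.nil))))))))))))))))) (nat_lit 7) (nat_lit 1),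
  Rule.mk (nat_lit 2) (nat_lit 225) (Steps.bwd (nat_lit 1) (Steps.bwd (nat_lit 2) (Steps.bwd (nat_lit 1) (Steps.bwd (nat_lit 3) (Steps.fwd (nat_lit 4096) (Steps.bwd (nat_lit 2) (Steps.bwd (nat_lit 1) (Steps.fwd (nat_lit 12288) (Steps.bwd (nat_lit 1) (Steps.bwd (nat_lit 3) (Steps.bwd (nat_lit 1) (Steps.bwd (nat_lit 3) (Steps.bwd (nat_lit 1) (Steps.fwd (nat_lit 12288) (Steps.fwd (nat_lit 4096) (Steps.fwd (nat_lit 8192) (Steps.fwd (nat_lit 4096) (Steps.bwd (nat_lit 2) Steps.nil)))))))))))))))))) (nat_lit 9) (nat_lit 2),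
  Rule.mk (nat_lit 2) (nat_lit 225) (Steps.bwd (nat_lit 1) (Steps.fwd (nat_lit 8192) (Steps.bwd (nat_lit 1) (Steps.bwd (nat_lit 3) (Steps.bwd (nat_lit 1) (Steps.fwd (nat_lit 12288) (Steps.fwd (nat_lit 4096) (Steps.bwd (nat_lit 3) (Steps.fwd (nat_lit 4096) (Steps.fwd (nat_lit 8192) (Steps.bwd (nat_lit 3) (Steps.bwd (nat_lit 1) (Steps.fwd (nat_lit 12288) (Steps.fwd (nat_lit 4096) (Steps.fwd (nat_lit 8192) (Steps.fwd (nat_lit 4096) (Steps.fwd (nat_lit 12288) (Steps.fwd (nat_lit 4096) Steps.nil)))))))))))))))))) (nat_lit 8) (nat_lit 8),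
  Rule.mk (nat_lit 1) (nat_lit 261) (Steps.bwd (nat_lit 2) (Steps.bwd (nat_lit 1) (Steps.bwd (nat_lit 2) (Steps.bwd (nat_lit 1) (Steps.fwd (nat_lit 12288) (Steps.fwd (nat_lit 4096) (Steps.bwd (nat_lit 2) (Steps.bwd (nat_lit 1) (Steps.bwd (nat_lit 2) (Steps.bwd (nat_lit 1) (Steps.bwd (nat_lit 2) (Steps.bwd (nat_lit 1) (Steps.fwd (nat_lit 12288) (Steps.fwd (nat_lit 4096) (Steps.fwd (nat_lit 12288) (Steps.fwd (nat_lit 4096) (Steps.fwd (nat_lit 12288) (Steps.fwd (nat_lit 4096) (Steps.bwd (nat_lit 2) (Steps.fwd (nat_lit 4096) (Steps.bwd (nat_lit 2) Steps.nil))))))))))))))))))))) (nat_lit 4) (nat_lit 1),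
  Rule.mk (nat_lit 1) (nat_lit 225) (Steps.bwd (nat_lit 2) (Steps.bwd (nat_lit 1) (Steps.bwd (nat_lit 3) (Steps.bwd (nat_lit 1) (Steps.bwd (nat_lit 3) (Steps.bwd (nat_lit 1) (Steps.fwd (nat_lit 12288) (Steps.fwd (nat_lit 4096) (Steps.fwd (nat_lit 8192) (Steps.fwd (nat_lit 4096) (Steps.bwd (nat_lit 3) (Steps.bwd (nat_lit 3) (Steps.fwd (nat_lit 4096) (Steps.bwd (nat_lit 2) (Steps.fwd (nat_lit 4096) (Steps.fwd (nat_lit 8192) (Steps.bwd (nat_lit 1) (Steps.fwd (nat_lit 12288) Steps.nil)))))))))))))))))) (nat_lit 8) (nat_lit 7),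
  Rule.mk (nat_lit 1) (nat_lit 225) (Steps.bwd (nat_lit 2) (Steps.bwd (nat_lit 1) (Steps.bwd (nat_lit 3) (Steps.bwd (nat_lit 1) (Steps.fwd (nat_lit 8192) (Steps.fwd (nat_lit 8192) (Steps.bwd (nat_lit 1) (Steps.fwd (nat_lit 12288) (Steps.fwd (nat_lit 4096) (Steps.fwd (nat_lit 8192) (Steps.fwd (nat_lit 4096) (Steps.fwd (nat_lit 12288) (Steps.fwd (nat_lit 4096) (Steps.fwd (nat_lit 12288) (Steps.fwd (nat_lit 4096) (Steps.fwd (nat_lit 8192) (Steps.fwd (nat_lit 4096) (Steps.bwd (nat_lit 3) Steps.nil)))))))))))))))))) (nat_lit 8) (nat_lit 13),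
  Rule.mk (nat_lit 1) (nat_lit 225) (Steps.bwd (nat_lit 2) (Steps.bwd (nat_lit 1) (Steps.bwd (nat_lit 3) (Steps.bwd (nat_lit 1) (Steps.bwd (nat_lit 3) (Steps.bwd (nat_lit 3) (Steps.fwd (nat_lit 4096) (Steps.bwd (nat_lit 2) (Steps.bwd (nat_lit 1) (Steps.bwd (nat_lit 3) (Steps.bwd (nat_lit 1) (Steps.fwd (nat_lit 12288) (Steps.fwd (nat_lit 4096) (Steps.fwd (nat_lit 12288) (Steps.fwd (nat_lit 4096) (Steps.bwd (nat_lit 3) (Steps.bwd (nat_lit 1) (Steps.bwd (nat_lit 3) Steps.nil)))))))))))))))))) (nat_lit 8) (nat_lit 13),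
  Rule.mk (nat_lit 2) (nat_lit 225) (Steps.bwd (nat_lit 1) (Steps.bwd (nat_lit 2) (Steps.bwd (nat_lit 1) (Steps.bwd (nat_lit 3) (Steps.bwd (nat_lit 1) (Steps.bwd (nat_lit 3) (Steps.bwd (nat_lit 1) (Steps.fwd (nat_lit 12288) (Steps.bwd (nat_lit 1) (Steps.bwd (nat_lit 3) (Steps.fwd (nat_lit 4096) (Steps.fwd (nat_lit 8192) (Steps.bwd (nat_lit 3) (Steps.fwd (nat_lit 4096) (Steps.fwd (nat_lit 12288) (Steps.fwd (nat_lit 4096) (Steps.bwd (nat_lit 3) (Steps.fwd (nat_lit 4096) Steps.nil)))))))))))))))))) (nat_lit 8) (nat_lit 6),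
  Rule.mk (nat_lit 2) (nat_lit 225) (Steps.bwd (nat_lit 1) (Steps.bwd (nat_lit 3) (Steps.bwd (nat_lit 1) (Steps.bwd (nat_lit 3) (Steps.fwd (nat_lit 8192) (Steps.bwd (nat_lit 1) (Steps.fwd (nat_lit 12288) (Steps.bwd (nat_lit 1) (Steps.bwd (nat_lit 3) (Steps.bwd (nat_lit 1) (Steps.fwd (nat_lit 12288) (Steps.fwd (nat_lit 4096) (Steps.fwd (nat_lit 12288) (Steps.fwd (nat_lit 4096) (Steps.bwd (nat_lit 3) (Steps.fwd (nat_lit 4096) (Steps.fwd (nat_lit 8192) (Steps.fwd (nat_lit 4096) Steps.nil)))))))))))))))))) (nat_lit 8) (nat_lit 14),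
  Rule.mk (nat_lit 1) (nat_lit 213) (Steps.bwd (nat_lit 3) (Steps.bwd (nat_lit 3) (Steps.bwd (nat_lit 1) (Steps.bwd (nat_lit 3) (Steps.bwd (nat_lit 3) (Steps.fwd (nat_lit 4096) (Steps.fwd (nat_lit 8192) (Steps.bwd (nat_lit 3) (Steps.bwd (nat_lit 1) (Steps.bwd (nat_lit 3) (Steps.bwd (nat_lit 3) (Steps.fwd (nat_lit 4096) (Steps.bwd (nat_lit 3) (Steps.fwd (nat_lit 8192) (Steps.fwd (nat_lit 4096) (Steps.fwd (nat_lit 8192) (Steps.bwd (nat_lit 3) Steps.nil))))))))))))))))) (nat_lit 7) (nat_lit 0),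
  Rule.mk (nat_lit 1) (nat_lit 261) (Steps.bwd (nat_lit 3) (Steps.bwd (nat_lit 1) (Steps.bwd (nat_lit 3) (Steps.bwd (nat_lit 1) (Steps.bwd (nat_lit 3) (Steps.bwd (nat_lit 1) (Steps.bwd (nat_lit 3) (Steps.bwd (nat_lit 1) (Steps.bwd (nat_lit 3) (Steps.fwd (nat_lit 4096) (Steps.fwd (nat_lit 8192) (Steps.bwd (nat_lit 1) (Steps.fwd (nat_lit 8192) (Steps.fwd (nat_lit 4096) (Steps.fwd (nat_lit 8192) (Steps.fwd (nat_lit 4096) (Steps.bwd (nat_lit 3) (Steps.fwd (nat_lit 4096) (Steps.fwd (nat_lit 8192) (Steps.fwd (nat_lit 4096) (Steps.bwd (nat_lit 3) Steps.nil))))))))))))))))))))) (nat_lit 5) (nat_lit 0),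
  Rule.mk (nat_lit 1) (nat_lit 225) (Steps.bwd (nat_lit 3) (Steps.bwd (nat_lit 1) (Steps.bwd (nat_lit 3) (Steps.fwd (nat_lit 4096) (Steps.fwd (nat_lit 12288) (Steps.fwd (nat_lit 4096) (Steps.bwd (nat_lit 3) (Steps.fwd (nat_lit 4096) (Steps.bwd (nat_lit 3) (Steps.bwd (nat_lit 3) (Steps.bwd (nat_lit 1) (Steps.bwd (nat_lit 2) (Steps.bwd (nat_lit 1) (Steps.bwd (nat_lit 3) (Steps.fwd (nat_lit 4096) (Steps.fwd (nat_lit 12288) (Steps.fwd (nat_lit 4096) (Steps.fwd (nat_lit 12288) Steps.nil)))))))))))))))))) (nat_lit 8) (nat_lit 9),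
  Rule.mk (nat_lit 1) (nat_lit 213) (Steps.bwd (nat_lit 3) (Steps.bwd (nat_lit 3) (Steps.bwd (nat_lit 1) (Steps.bwd (nat_lit 3) (Steps.bwd (nat_lit 3) (Steps.bwd (nat_lit 1) (Steps.bwd (nat_lit 3) (Steps.fwd (nat_lit 8192) (Steps.fwd (nat_lit 4096) (Steps.bwd (nat_lit 3) (Steps.bwd (nat_lit 3) (Steps.fwd (nat_lit 4096) (Steps.fwd (nat_lit 8192) (Steps.fwd (nat_lit 8192) (Steps.fwd (nat_lit 4096) (Steps.fwd (nat_lit 8192) (Steps.fwd (nat_lit 8192) Steps.nil))))))))))))))))) (nat_lit 7) (nat_lit 0),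
  Rule.mk (nat_lit 1) (nat_lit 249) (Steps.bwd (nat_lit 2) (Steps.bwd (nat_lit 1) (Steps.bwd (nat_lit 3) (Steps.bwd (nat_lit 3) (Steps.bwd (nat_lit 1) (Steps.bwd (nat_lit 3) (Steps.bwd (nat_lit 1) (Steps.fwd (nat_lit 12288) (Steps.fwd (nat_lit 4096) (Steps.bwd (nat_lit 3) (Steps.bwd (nat_lit 3) (Steps.bwd (nat_lit 1) (Steps.bwd (nat_lit 3) (Steps.fwd (nat_lit 4096) (Steps.fwd (nat_lit 12288) (Steps.fwd (nat_lit 4096) (Steps.fwd (nat_lit 12288) (Steps.fwd (nat_lit 12288) (Steps.fwd (nat_lit 4096) (Steps.bwd (nat_lit 3) Steps.nil)))))))))))))))))))) (nat_lit 10) (nat_lit 17),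
  Rule.mk (nat_lit 1) (nat_lit 213) (Steps.bwd (nat_lit 2) (Steps.bwd (nat_lit 2) (Steps.bwd (nat_lit 1) (Steps.fwd (nat_lit 12288) (Steps.bwd (nat_lit 2) (Steps.bwd (nat_lit 1) (Steps.fwd (nat_lit 12288) (Steps.fwd (nat_lit 12288) (Steps.fwd (nat_lit 4096) (Steps.bwd (nat_lit 2) (Steps.bwd (nat_lit 2) (Steps.bwd (nat_lit 1) (Steps.fwd (nat_lit 12288) (Steps.fwd (nat_lit 12288) (Steps.fwd (nat_lit 4096) (Steps.fwd (nat_lit 12288) (Steps.fwd (nat_lit 12288) Steps.nil))))))))))))))))) (nat_lit 6) (nat_lit 1),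
  Rule.mk (nat_lit 2) (nat_lit 225) (Steps.bwd (nat_lit 1) (Steps.bwd (nat_lit 3) (Steps.bwd (nat_lit 1) (Steps.fwd (nat_lit 8192) (Steps.bwd (nat_lit 1) (Steps.fwd (nat_lit 12288) (Steps.bwd (nat_lit 1) (Steps.bwd (nat_lit 3) (Steps.fwd (nat_lit 4096) (Steps.fwd (nat_lit 8192) (Steps.bwd (nat_lit 3) (Steps.fwd (nat_lit 4096) (Steps.bwd (nat_lit 2) (Steps.bwd (nat_lit 1) (Steps.bwd (nat_lit 3) (Steps.fwd (nat_lit 4096) (Steps.bwd (nat_lit 2) (Steps.fwd (nat_lit 4096) Steps.nil)))))))))))))))))) (nat_lit 8) (nat_lit 8),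
  Rule.mk (nat_lit 2) (nat_lit 225) (Steps.bwd (nat_lit 1) (Steps.bwd (nat_lit 3) (Steps.bwd (nat_lit 1) (Steps.bwd (nat_lit 3) (Steps.fwd (nat_lit 8192) (Steps.fwd (nat_lit 4096) (Steps.fwd (nat_lit 12288) (Steps.fwd (nat_lit 4096) (Steps.fwd (nat_lit 8192) (Steps.bwd (nat_lit 1) (Steps.bwd (nat_lit 2) (Steps.fwd (nat_lit 4096) (Steps.fwd (nat_lit 12288) (Steps.fwd (nat_lit 4096) (Steps.bwd (nat_lit 3) (Steps.bwd (nat_lit 1) (Steps.bwd (nat_lit 3) (Steps.fwd (nat_lit 4096) Steps.nil)))))))))))))))))) (nat_lit 8) (nat_lit 14),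
  Rule.mk (nat_lit 2) (nat_lit 213) (Steps.bwd (nat_lit 1) (Steps.fwd (nat_lit 12288) (Steps.fwd (nat_lit 12288) (Steps.fwd (nat_lit 4096) (Steps.fwd (nat_lit 12288) (Steps.bwd (nat_lit 2) (Steps.bwd (nat_lit 1) (Steps.bwd (nat_lit 2) (Steps.fwd (nat_lit 12288) (Steps.fwd (nat_lit 4096) (Steps.fwd (nat_lit 12288) (Steps.fwd (nat_lit 12288) (Steps.bwd (nat_lit 1) (Steps.bwd (nat_lit 2) (Steps.fwd (nat_lit 12288) (Steps.fwd (nat_lit 4096) (Steps.bwd (nat_lit 2) Steps.nil))))))))))))))))) (nat_lit 6) (nat_lit 0),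
  Rule.mk (nat_lit 2) (nat_lit 225) (Steps.bwd (nat_lit 2) (Steps.bwd (nat_lit 1) (Steps.fwd (nat_lit 12288) (Steps.fwd (nat_lit 4096) (Steps.bwd (nat_lit 3) (Steps.fwd (nat_lit 4096) (Steps.bwd (nat_lit 2) (Steps.bwd (nat_lit 1) (Steps.bwd (nat_lit 2) (Steps.bwd (nat_lit 1) (Steps.bwd (nat_lit 3) (Steps.bwd (nat_lit 1) (Steps.bwd (nat_lit 3) (Steps.fwd (nat_lit 4096) (Steps.fwd (nat_lit 12288) (Steps.bwd (nat_lit 1) (Steps.fwd (nat_lit 8192) (Steps.fwd (nat_lit 4096) Steps.nil)))))))))))))))))) (nat_lit 9) (nat_lit 1),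
  Rule.mk (nat_lit 2) (nat_lit 213) (Steps.bwd (nat_lit 2) (Steps.bwd (nat_lit 1) (Steps.bwd (nat_lit 2) (Steps.bwd (nat_lit 2) (Steps.fwd (nat_lit 4096) (Steps.bwd (nat_lit 2) (Steps.bwd (nat_lit 2) (Steps.bwd (nat_lit 1) (Steps.fwd (nat_lit 12288) (Steps.bwd (nat_lit 2) (Steps.bwd (nat_lit 1) (Steps.fwd (nat_lit 12288) (Steps.fwd (nat_lit 12288) (Steps.fwd (nat_lit 4096) (Steps.fwd (nat_lit 12288) (Steps.fwd (nat_lit 12288) (Steps.fwd (nat_lit 4096) Steps.nil))))))))))))))))) (nat_lit 6) (nat_lit 2),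
  Rule.mk (nat_lit 1) (nat_lit 225) (Steps.bwd (nat_lit 3) (Steps.bwd (nat_lit 1) (Steps.bwd (nat_lit 3) (Steps.bwd (nat_lit 3) (Steps.bwd (nat_lit 1) (Steps.fwd (nat_lit 12288) (Steps.fwd (nat_lit 4096) (Steps.fwd (nat_lit 8192) (Steps.fwd (nat_lit 4096) (Steps.fwd (nat_lit 12288) (Steps.bwd (nat_lit 1) (Steps.fwd (nat_lit 12288) (Steps.fwd (nat_lit 4096) (Steps.bwd (nat_lit 3) (Steps.bwd (nat_lit 1) (Steps.bwd (nat_lit 3) (Steps.fwd (nat_lit 4096) (Steps.bwd (nat_lit 2) Steps.nil)))))))))))))))))) (nat_lit 8) (nat_lit 15),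
  Rule.mk (nat_lit 1) (nat_lit 213) (Steps.bwd (nat_lit 3) (Steps.bwd (nat_lit 3) (Steps.bwd (nat_lit 1) (Steps.bwd (nat_lit 3) (Steps.bwd (nat_lit 3) (Steps.bwd (nat_lit 1) (Steps.bwd (nat_lit 3) (Steps.fwd (nat_lit 8192) (Steps.fwd (nat_lit 4096) (Steps.bwd (nat_lit 3) (Steps.bwd (nat_lit 3) (Steps.fwd (nat_lit 4096) (Steps.fwd (nat_lit 8192) (Steps.fwd (nat_lit 8192) (Steps.bwd (nat_lit 1) (Steps.fwd (nat_lit 8192) (Steps.fwd (nat_lit 8192) Steps.nil))))))))))))))))) (nat_lit 7) (nat_lit 0),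
  Rule.mk (nat_lit 3) (nat_lit 249) (Steps.bwd (nat_lit 3) (Steps.bwd (nat_lit 1) (Steps.bwd (nat_lit 3) (Steps.bwd (nat_lit 1) (Steps.bwd (nat_lit 2) (Steps.bwd (nat_lit 1) (Steps.bwd (nat_lit 3) (Steps.fwd (nat_lit 8192) (Steps.fwd (nat_lit 4096) (Steps.fwd (nat_lit 8192) (Steps.fwd (nat_lit 4096) (Steps.fwd (nat_lit 12288) (Steps.bwd (nat_lit 1) (Steps.fwd (nat_lit 12288) (Steps.fwd (nat_lit 12288) (Steps.fwd (nat_lit 4096) (Steps.fwd (nat_lit 8192) (Steps.fwd (nat_lit 4096) (Steps.fwd (nat_lit 12288) (Steps.fwd (nat_lit 4096) Steps.nil)))))))))))))))))))) (nat_lit 10) (nat_lit 20),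
  Rule.mk (nat_lit 1) (nat_lit 225) (Steps.bwd (nat_lit 3) (Steps.bwd (nat_lit 3) (Steps.bwd (nat_lit 1) (Steps.bwd (nat_lit 2) (Steps.bwd (nat_lit 1) (Steps.fwd (nat_lit 8192) (Steps.bwd (nat_lit 1) (Steps.bwd (nat_lit 2) (Steps.bwd (nat_lit 1) (Steps.fwd (nat_lit 12288) (Steps.fwd (nat_lit 4096) (Steps.fwd (nat_lit 8192) (Steps.fwd (nat_lit 4096) (Steps.fwd (nat_lit 8192) (Steps.fwd (nat_lit 4096) (Steps.fwd (nat_lit 12288) (Steps.fwd (nat_lit 4096) (Steps.bwd (nat_lit 3) Steps.nil)))))))))))))))))) (nat_lit 8) (nat_lit 17),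
  Rule.mk (nat_lit 3) (nat_lit 225) (Steps.bwd (nat_lit 1) (Steps.bwd (nat_lit 3) (Steps.bwd (nat_lit 3) (Steps.bwd (nat_lit 1) (Steps.fwd (nat_lit 12288) (Steps.bwd (nat_lit 1) (Steps.bwd (nat_lit 3) (Steps.bwd (nat_lit 1) (Steps.bwd (nat_lit 2) (Steps.bwd (nat_lit 1) (Steps.fwd (nat_lit 12288) (Steps.fwd (nat_lit 4096) (Steps.fwd (nat_lit 8192) (Steps.fwd (nat_lit 4096) (Steps.bwd (nat_lit 3) (Steps.fwd (nat_lit 4096) (Steps.fwd (nat_lit 12288) (Steps.fwd (nat_lit 4096) Steps.nil)))))))))))))))))) (nat_lit 8) (nat_lit 16),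
  Rule.mk (nat_lit 3) (nat_lit 225) (Steps.bwd (nat_lit 1) (Steps.bwd (nat_lit 2) (Steps.bwd (nat_lit 1) (Steps.fwd (nat_lit 8192) (Steps.fwd (nat_lit 4096) (Steps.bwd (nat_lit 3) (Steps.bwd (nat_lit 3) (Steps.bwd (nat_lit 1) (Steps.fwd (nat_lit 12288) (Steps.fwd (nat_lit 4096) (Steps.fwd (nat_lit 8192) (Steps.fwd (nat_lit 4096) (Steps.fwd (nat_lit 12288) (Steps.fwd (nat_lit 4096) (Steps.bwd (nat_lit 2) (Steps.bwd (nat_lit 1) (Steps.bwd (nat_lit 3) (Steps.fwd (nat_lit 4096) Steps.nil)))))))))))))))))) (nat_lit 8) (nat_lit 12)]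
noncomputable def R_3 : List (Rule) := [Rule.mk (nat_lit 3) (nat_lit 213) (Steps.bwd (nat_lit 3) (Steps.bwd (nat_lit 1) (Steps.bwd (nat_lit 3) (Steps.bwd (nat_lit 3) (Steps.bwd (nat_lit 1) (Steps.bwd (nat_lit 3) (Steps.bwd (nat_lit 3) (Steps.bwd (nat_lit 1) (Steps.bwd (nat_lit 3) (Steps.bwd (nat_lit 3) (Steps.fwd (nat_lit 4096) (Steps.bwd (nat_lit 3) (Steps.bwd (nat_lit 3) (Steps.fwd (nat_lit 4096) (Steps.fwd (nat_lit 8192) (Steps.bwd (nat_lit 3) (Steps.fwd (nat_lit 4096) Steps.nil))))))))))))))))) (nat_lit 7) (nat_lit 1),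
  Rule.mk (nat_lit 3) (nat_lit 213) (Steps.bwd (nat_lit 3) (Steps.bwd (nat_lit 1) (Steps.bwd (nat_lit 3) (Steps.bwd (nat_lit 3) (Steps.bwd (nat_lit 1) (Steps.bwd (nat_lit 3) (Steps.fwd (nat_lit 8192) (Steps.fwd (nat_lit 4096) (Steps.fwd (nat_lit 8192) (Steps.bwd (nat_lit 3) (Steps.fwd (nat_lit 4096) (Steps.fwd (nat_lit 8192) (Steps.fwd (nat_lit 8192) (Steps.bwd (nat_lit 1) (Steps.fwd (nat_lit 8192) (Steps.fwd (nat_lit 8192) (Steps.fwd (nat_lit 4096) Steps.nil))))))))))))))))) (nat_lit 7) (nat_lit 1),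
  Rule.mk (nat_lit 1) (nat_lit 225) (Steps.bwd (nat_lit 3) (Steps.bwd (nat_lit 1) (Steps.bwd (nat_lit 3) (Steps.bwd (nat_lit 3) (Steps.bwd (nat_lit 1) (Steps.fwd (nat_lit 12288) (Steps.fwd (nat_lit 4096) (Steps.bwd (nat_lit 3) (Steps.bwd (nat_lit 1) (Steps.bwd (nat_lit 2) (Steps.bwd (nat_lit 1) (Steps.fwd (nat_lit 12288) (Steps.fwd (nat_lit 4096) (Steps.bwd (nat_lit 3) (Steps.bwd (nat_lit 1) (Steps.bwd (nat_lit 3) (Steps.fwd (nat_lit 4096) (Steps.fwd (nat_lit 12288) Steps.nil)))))))))))))))))) (nat_lit 8) (nat_lit 15),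
  Rule.mk (nat_lit 1) (nat_lit 213) (Steps.bwd (nat_lit 3) (Steps.bwd (nat_lit 3) (Steps.bwd (nat_lit 1) (Steps.bwd (nat_lit 3) (Steps.bwd (nat_lit 3) (Steps.bwd (nat_lit 1) (Steps.bwd (nat_lit 3) (Steps.fwd (nat_lit 8192) (Steps.fwd (nat_lit 4096) (Steps.bwd (nat_lit 3) (Steps.bwd (nat_lit 3) (Steps.fwd (nat_lit 4096) (Steps.fwd (nat_lit 8192) (Steps.fwd (nat_lit 8192) (Steps.bwd (nat_lit 1) (Steps.bwd (nat_lit 3) (Steps.fwd (nat_lit 8192) Steps.nil))))))))))))))))) (nat_lit 7) (nat_lit 0),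
  Rule.mk (nat_lit 1) (nat_lit 225) (Steps.bwd (nat_lit 2) (Steps.bwd (nat_lit 1) (Steps.bwd (nat_lit 3) (Steps.fwd (nat_lit 4096) (Steps.bwd (nat_lit 3) (Steps.bwd (nat_lit 3) (Steps.bwd (nat_lit 1) (Steps.fwd (nat_lit 12288) (Steps.fwd (nat_lit 4096) (Steps.fwd (nat_lit 8192) (Steps.fwd (nat_lit 4096) (Steps.bwd (nat_lit 2) (Steps.bwd (nat_lit 1) (Steps.fwd (nat_lit 12288) (Steps.bwd (nat_lit 1) (Steps.bwd (nat_lit 3) (Steps.fwd (nat_lit 4096) (Steps.bwd (nat_lit 3) Steps.nil)))))))))))))))))) (nat_lit 8) (nat_lit 13),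
  Rule.mk (nat_lit 2) (nat_lit 225) (Steps.bwd (nat_lit 1) (Steps.bwd (nat_lit 3) (Steps.fwd (nat_lit 4096) (Steps.fwd (nat_lit 8192) (Steps.fwd (nat_lit 8192) (Steps.bwd (nat_lit 1) (Steps.fwd (nat_lit 12288) (Steps.fwd (nat_lit 4096) (Steps.fwd (nat_lit 8192) (Steps.bwd (nat_lit 1) (Steps.fwd (nat_lit 12288) (Steps.fwd (nat_lit 4096) (Steps.fwd (nat_lit 12288) (Steps.bwd (nat_lit 1) (Steps.bwd (nat_lit 3) (Steps.fwd (nat_lit 4096) (Steps.fwd (nat_lit 8192) (Steps.fwd (nat_lit 4096) Steps.nil)))))))))))))))))) (nat_lit 8) (nat_lit 14),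
  Rule.mk (nat_lit 1) (nat_lit 249) (Steps.bwd (nat_lit 2) (Steps.bwd (nat_lit 2) (Steps.bwd (nat_lit 1) (Steps.fwd (nat_lit 8192) (Steps.bwd (nat_lit 1) (Steps.bwd (nat_lit 2) (Steps.bwd (nat_lit 1) (Steps.fwd (nat_lit 8192) (Steps.fwd (nat_lit 8192) (Steps.bwd (nat_lit 1) (Steps.bwd (nat_lit 3) (Steps.fwd (nat_lit 4096) (Steps.fwd (nat_lit 12288) (Steps.fwd (nat_lit 4096) (Steps.fwd (nat_lit 8192) (Steps.bwd (nat_lit 3) (Steps.fwd (nat_lit 4096) (Steps.bwd (nat_lit 3) (Steps.fwd (nat_lit 4096) (Steps.fwd (nat_lit 12288) Steps.nil)))))))))))))))))))) (nat_lit 10) (nat_lit 12),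
  Rule.mk (nat_lit 3) (nat_lit 225) (Steps.bwd (nat_lit 1) (Steps.bwd (nat_lit 2) (Steps.bwd (nat_lit 1) (Steps.fwd (nat_lit 8192) (Steps.bwd (nat_lit 1) (Steps.fwd (nat_lit 8192) (Steps.fwd (nat_lit 8192) (Steps.bwd (nat_lit 1) (Steps.fwd (nat_lit 12288) (Steps.fwd (nat_lit 4096) (Steps.fwd (nat_lit 8192) (Steps.fwd (nat_lit 4096) (Steps.fwd (nat_lit 12288) (Steps.bwd (nat_lit 1) (Steps.fwd (nat_lit 12288) (Steps.bwd (nat_lit 1) (Steps.fwd (nat_lit 8192) (Steps.fwd (nat_lit 4096) Steps.nil)))))))))))))))))) (nat_lit 8) (nat_lit 12),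
  Rule.mk (nat_lit 2) (nat_lit 225) (Steps.bwd (nat_lit 1) (Steps.bwd (nat_lit 3) (Steps.bwd (nat_lit 1) (Steps.bwd (nat_lit 3) (Steps.bwd (nat_lit 1) (Steps.bwd (nat_lit 2) (Steps.bwd (nat_lit 1) (Steps.bwd (nat_lit 3) (Steps.fwd (nat_lit 4096) (Steps.bwd (nat_lit 3) (Steps.bwd (nat_lit 3) (Steps.bwd (nat_lit 1) (Steps.fwd (nat_lit 12288) (Steps.fwd (nat_lit 4096) (Steps.fwd (nat_lit 8192) (Steps.fwd (nat_lit 4096) (Steps.bwd (nat_lit 2) (Steps.fwd (nat_lit 4096) Steps.nil)))))))))))))))))) (nat_lit 8) (nat_lit 8),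
  Rule.mk (nat_lit 3) (nat_lit 213) (Steps.bwd (nat_lit 3) (Steps.bwd (nat_lit 1) (Steps.bwd (nat_lit 3) (Steps.fwd (nat_lit 8192) (Steps.bwd (nat_lit 1) (Steps.bwd (nat_lit 3) (Steps.bwd (nat_lit 3) (Steps.bwd (nat_lit 1) (Steps.bwd (nat_lit 3) (Steps.fwd (nat_lit 8192) (Steps.fwd (nat_lit 4096) (Steps.fwd (nat_lit 8192) (Steps.fwd (nat_lit 8192) (Steps.fwd (nat_lit 4096) (Steps.fwd (nat_lit 8192) (Steps.bwd (nat_lit 3) (Steps.fwd (nat_lit 4096) Steps.nil))))))))))))))))) (nat_lit 7) (nat_lit 1),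
  Rule.mk (nat_lit 1) (nat_lit 225) (Steps.bwd (nat_lit 2) (Steps.bwd (nat_lit 1) (Steps.bwd (nat_lit 2) (Steps.bwd (nat_lit 1) (Steps.bwd (nat_lit 3) (Steps.bwd (nat_lit 1) (Steps.fwd (nat_lit 8192) (Steps.bwd (nat_lit 1) (Steps.fwd (nat_lit 12288) (Steps.fwd (nat_lit 4096) (Steps.fwd (nat_lit 8192) (Steps.fwd (nat_lit 4096) (Steps.fwd (nat_lit 8192) (Steps.bwd (nat_lit 3) (Steps.fwd (nat_lit 4096) (Steps.fwd (nat_lit 12288) (Steps.fwd (nat_lit 4096) (Steps.bwd (nat_lit 3) Steps.nil)))))))))))))))))) (nat_lit 8) (nat_lit 5),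
  Rule.mk (nat_lit 1) (nat_lit 225) (Steps.bwd (nat_lit 3) (Steps.bwd (nat_lit 1) (Steps.bwd (nat_lit 3) (Steps.fwd (nat_lit 8192) (Steps.fwd (nat_lit 4096) (Steps.bwd (nat_lit 2) (Steps.bwd (nat_lit 1) (Steps.bwd (nat_lit 3) (Steps.bwd (nat_lit 1) (Steps.bwd (nat_lit 2) (Steps.fwd (nat_lit 4096) (Steps.bwd (nat_lit 2) (Steps.bwd (nat_lit 1) (Steps.bwd (nat_lit 3) (Steps.bwd (nat_lit 1) (Steps.fwd (nat_lit 8192) (Steps.fwd (nat_lit 4096) (Steps.bwd (nat_lit 2) Steps.nil)))))))))))))))))) (nat_lit 8) (nat_lit 15),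
  Rule.mk (nat_lit 2) (nat_lit 261) (Steps.bwd (nat_lit 1) (Steps.bwd (nat_lit 2) (Steps.bwd (nat_lit 1) (Steps.bwd (nat_lit 2) (Steps.bwd (nat_lit 1) (Steps.bwd (nat_lit 2) (Steps.bwd (nat_lit 1) (Steps.bwd (nat_lit 2) (Steps.bwd (nat_lit 1) (Steps.fwd (nat_lit 12288) (Steps.bwd (nat_lit 1) (Steps.fwd (nat_lit 12288) (Steps.fwd (nat_lit 4096) (Steps.fwd (nat_lit 12288) (Steps.fwd (nat_lit 4096) (Steps.bwd (nat_lit 2) (Steps.fwd (nat_lit 4096) (Steps.fwd (nat_lit 12288) (Steps.fwd (nat_lit 4096) (Steps.fwd (nat_lit 12288) (Steps.fwd (nat_lit 4096) Steps.nil))))))))))))))))))))) (nat_lit 4) (nat_lit 0),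
  Rule.mk (nat_lit 1) (nat_lit 225) (Steps.bwd (nat_lit 2) (Steps.bwd (nat_lit 1) (Steps.bwd (nat_lit 2) (Steps.bwd (nat_lit 1) (Steps.bwd (nat_lit 3) (Steps.fwd (nat_lit 4096) (Steps.bwd (nat_lit 3) (Steps.fwd (nat_lit 4096) (Steps.bwd (nat_lit 2) (Steps.fwd (nat_lit 4096) (Steps.bwd (nat_lit 3) (Steps.bwd (nat_lit 1) (Steps.bwd (nat_lit 3) (Steps.bwd (nat_lit 3) (Steps.fwd (nat_lit 4096) (Steps.bwd (nat_lit 2) (Steps.bwd (nat_lit 1) (Steps.bwd (nat_lit 3) Steps.nil)))))))))))))))))) (nat_lit 8) (nat_lit 5),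
  Rule.mk (nat_lit 2) (nat_lit 225) (Steps.bwd (nat_lit 1) (Steps.bwd (nat_lit 3) (Steps.bwd (nat_lit 1) (Steps.fwd (nat_lit 8192) (Steps.fwd (nat_lit 8192) (Steps.bwd (nat_lit 1) (Steps.bwd (nat_lit 2) (Steps.bwd (nat_lit 1) (Steps.fwd (nat_lit 8192) (Steps.fwd (nat_lit 4096) (Steps.fwd (nat_lit 12288) (Steps.fwd (nat_lit 4096) (Steps.fwd (nat_lit 12288) (Steps.fwd (nat_lit 4096) (Steps.bwd (nat_lit 3) (Steps.bwd (nat_lit 1) (Steps.bwd (nat_lit 3) (Steps.fwd (nat_lit 4096) Steps.nil)))))))))))))))))) (nat_lit 8) (nat_lit 14),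
  Rule.mk (nat_lit 1) (nat_lit 225) (Steps.bwd (nat_lit 3) (Steps.bwd (nat_lit 1) (Steps.bwd (nat_lit 3) (Steps.fwd (nat_lit 8192) (Steps.fwd (nat_lit 4096) (Steps.fwd (nat_lit 12288) (Steps.bwd (nat_lit 1) (Steps.fwd (nat_lit 8192) (Steps.bwd (nat_lit 1) (Steps.fwd (nat_lit 12288) (Steps.fwd (nat_lit 4096) (Steps.fwd (nat_lit 12288) (Steps.fwd (nat_lit 4096) (Steps.fwd (nat_lit 8192) (Steps.fwd (nat_lit 4096) (Steps.bwd (nat_lit 3) (Steps.fwd (nat_lit 4096) (Steps.fwd (nat_lit 12288) Steps.nil)))))))))))))))))) (nat_lit 8) (nat_lit 15),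
  Rule.mk (nat_lit 2) (nat_lit 225) (Steps.bwd (nat_lit 1) (Steps.bwd (nat_lit 3) (Steps.bwd (nat_lit 1) (Steps.fwd (nat_lit 8192) (Steps.fwd (nat_lit 8192) (Steps.bwd (nat_lit 1) (Steps.bwd (nat_lit 2) (Steps.bwd (nat_lit 1) (Steps.bwd (nat_lit 3) (Steps.bwd (nat_lit 1) (Steps.fwd (nat_lit 12288) (Steps.fwd (nat_lit 4096) (Steps.fwd (nat_lit 12288) (Steps.fwd (nat_lit 4096) (Steps.fwd (nat_lit 8192) (Steps.fwd (nat_lit 4096) (Steps.bwd (nat_lit 3) (Steps.fwd (nat_lit 4096) Steps.nil)))))))))))))))))) (nat_lit 8) (nat_lit 14),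
  Rule.mk (nat_lit 3) (nat_lit 225) (Steps.bwd (nat_lit 1) (Steps.bwd (nat_lit 3) (Steps.fwd (nat_lit 8192) (Steps.bwd (nat_lit 1) (Steps.bwd (nat_lit 2) (Steps.bwd (nat_lit 1) (Steps.bwd (nat_lit 3) (Steps.bwd (nat_lit 1) (Steps.fwd (nat_lit 12288) (Steps.fwd (nat_lit 4096) (Steps.fwd (nat_lit 12288) (Steps.fwd (nat_lit 4096) (Steps.fwd (nat_lit 8192) (Steps.fwd (nat_lit 4096) (Steps.bwd (nat_lit 3) (Steps.fwd (nat_lit 4096) (Steps.fwd (nat_lit 12288) (Steps.fwd (nat_lit 4096) Steps.nil)))))))))))))))))) (nat_lit 8) (nat_lit 16),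
  Rule.mk (nat_lit 1) (nat_lit 213) (Steps.bwd (nat_lit 3) (Steps.fwd (nat_lit 8192) (Steps.bwd (nat_lit 1) (Steps.bwd (nat_lit 3) (Steps.bwd (nat_lit 3) (Steps.bwd (nat_lit 1) (Steps.bwd (nat_lit 3) (Steps.fwd (nat_lit 8192) (Steps.fwd (nat_lit 4096) (Steps.fwd (nat_lit 8192) (Steps.fwd (nat_lit 8192) (Steps.fwd (nat_lit 4096) (Steps.bwd (nat_lit 3) (Steps.bwd (nat_lit 3) (Steps.fwd (nat_lit 4096) (Steps.bwd (nat_lit 3) (Steps.bwd (nat_lit 3) Steps.nil))))))))))))))))) (nat_lit 7) (nat_lit 0),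
  Rule.mk (nat_lit 1) (nat_lit 213) (Steps.bwd (nat_lit 3) (Steps.fwd (nat_lit 8192) (Steps.bwd (nat_lit 1) (Steps.bwd (nat_lit 3) (Steps.bwd (nat_lit 3) (Steps.bwd (nat_lit 1) (Steps.fwd (nat_lit 8192) (Steps.fwd (nat_lit 8192) (Steps.bwd (nat_lit 1) (Steps.bwd (nat_lit 3) (Steps.bwd (nat_lit 3) (Steps.fwd (nat_lit 4096) (Steps.fwd (nat_lit 8192) (Steps.bwd (nat_lit 3) (Steps.fwd (nat_lit 4096) (Steps.bwd (nat_lit 3) (Steps.bwd (nat_lit 3) Steps.nil))))))))))))))))) (nat_lit 7) (nat_lit 0),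
  Rule.mk (nat_lit 1) (nat_lit 225) (Steps.bwd (nat_lit 3) (Steps.bwd (nat_lit 1) (Steps.bwd (nat_lit 3) (Steps.bwd (nat_lit 3) (Steps.bwd (nat_lit 1) (Steps.bwd (nat_lit 2) (Steps.bwd (nat_lit 1) (Steps.fwd (nat_lit 8192) (Steps.fwd (nat_lit 4096) (Steps.bwd (nat_lit 2) (Steps.bwd (nat_lit 1) (Steps.fwd (nat_lit 12288) (Steps.fwd (nat_lit 4096) (Steps.fwd (nat_lit 8192) (Steps.fwd (nat_lit 4096) (Steps.bwd (nat_lit 3) (Steps.bwd (nat_lit 1) (Steps.fwd (nat_lit 12288) Steps.nil)))))))))))))))))) (nat_lit 8) (nat_lit 15),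
  Rule.mk (nat_lit 1) (nat_lit 225) (Steps.bwd (nat_lit 3) (Steps.bwd (nat_lit 1) (Steps.bwd (nat_lit 3) (Steps.bwd (nat_lit 3) (Steps.fwd (nat_lit 4096) (Steps.bwd (nat_lit 2) (Steps.bwd (nat_lit 1) (Steps.fwd (nat_lit 8192) (Steps.bwd (nat_lit 1) (Steps.fwd (nat_lit 12288) (Steps.fwd (nat_lit 4096) (Steps.fwd (nat_lit 12288) (Steps.fwd (nat_lit 4096) (Steps.bwd (nat_lit 3) (Steps.bwd (nat_lit 1) (Steps.fwd (nat_lit 8192) (Steps.bwd (nat_lit 1) (Steps.fwd (nat_lit 12288) Steps.nil)))))))))))))))))) (nat_lit 8) (nat_lit 15),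
  Rule.mk (nat_lit 1) (nat_lit 249) (Steps.bwd (nat_lit 2) (Steps.bwd (nat_lit 2) (Steps.bwd (nat_lit 1) (Steps.bwd (nat_lit 3) (Steps.bwd (nat_lit 1) (Steps.fwd (nat_lit 12288) (Steps.bwd (nat_lit 1) (Steps.fwd (nat_lit 8192) (Steps.fwd (nat_lit 8192) (Steps.bwd (nat_lit 1) (Steps.fwd (nat_lit 8192) (Steps.fwd (nat_lit 4096) (Steps.fwd (nat_lit 12288) (Steps.fwd (nat_lit 4096) (Steps.fwd (nat_lit 8192) (Steps.bwd (nat_lit 3) (Steps.fwd (nat_lit 4096) (Steps.bwd (nat_lit 3) (Steps.fwd (nat_lit 4096) (Steps.fwd (nat_lit 12288) Steps.nil)))))))))))))))))))) (nat_lit 10) (nat_lit 12),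
  Rule.mk (nat_lit 1) (nat_lit 225) (Steps.bwd (nat_lit 3) (Steps.bwd (nat_lit 1) (Steps.bwd (nat_lit 2) (Steps.bwd (nat_lit 1) (Steps.bwd (nat_lit 3) (Steps.fwd (nat_lit 4096) (Steps.fwd (nat_lit 8192) (Steps.bwd (nat_lit 3) (Steps.fwd (nat_lit 4096) (Steps.fwd (nat_lit 12288) (Steps.fwd (nat_lit 4096) (Steps.bwd (nat_lit 3) (Steps.bwd (nat_lit 1) (Steps.fwd (nat_lit 12288) (Steps.bwd (nat_lit 1) (Steps.bwd (nat_lit 2) (Steps.fwd (nat_lit 4096) (Steps.bwd (nat_lit 3) Steps.nil)))))))))))))))))) (nat_lit 8) (nat_lit 11),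
  Rule.mk (nat_lit 2) (nat_lit 225) (Steps.bwd (nat_lit 1) (Steps.bwd (nat_lit 2) (Steps.bwd (nat_lit 1) (Steps.bwd (nat_lit 3) (Steps.bwd (nat_lit 1) (Steps.bwd (nat_lit 3) (Steps.bwd (nat_lit 1) (Steps.fwd (nat_lit 12288) (Steps.fwd (nat_lit 4096) (Steps.fwd (nat_lit 8192) (Steps.fwd (nat_lit 4096) (Steps.fwd (nat_lit 8192) (Steps.fwd (nat_lit 8192) (Steps.fwd (nat_lit 4096) (Steps.fwd (nat_lit 12288) (Steps.fwd (nat_lit 4096) (Steps.bwd (nat_lit 3) (Steps.fwd (nat_lit 4096) Steps.nil)))))))))))))))))) (nat_lit 8) (nat_lit 6),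
  Rule.mk (nat_lit 3) (nat_lit 225) (Steps.bwd (nat_lit 1) (Steps.bwd (nat_lit 3) (Steps.bwd (nat_lit 3) (Steps.fwd (nat_lit 4096) (Steps.fwd (nat_lit 12288) (Steps.bwd (nat_lit 1) (Steps.bwd (nat_lit 3) (Steps.fwd (nat_lit 4096) (Steps.fwd (nat_lit 12288) (Steps.fwd (nat_lit 4096) (Steps.fwd (nat_lit 12288) (Steps.bwd (nat_lit 1) (Steps.bwd (nat_lit 3) (Steps.fwd (nat_lit 4096) (Steps.bwd (nat_lit 3) (Steps.fwd (nat_lit 4096) (Steps.bwd (nat_lit 2) (Steps.bwd (nat_lit 1) Steps.nil)))))))))))))))))) (nat_lit 8) (nat_lit 16),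
  Rule.mk (nat_lit 3) (nat_lit 225) (Steps.bwd (nat_lit 1) (Steps.bwd (nat_lit 2) (Steps.bwd (nat_lit 1) (Steps.bwd (nat_lit 2) (Steps.bwd (nat_lit 1) (Steps.bwd (nat_lit 3) (Steps.bwd (nat_lit 1) (Steps.bwd (nat_lit 3) (Steps.fwd (nat_lit 4096) (Steps.fwd (nat_lit 12288) (Steps.fwd (nat_lit 4096) (Steps.fwd (nat_lit 8192) (Steps.fwd (nat_lit 4096) (Steps.bwd (nat_lit 3) (Steps.bwd (nat_lit 3) (Steps.fwd (nat_lit 4096) (Steps.fwd (nat_lit 12288) (Steps.fwd (nat_lit 4096) Steps.nil)))))))))))))))))) (nat_lit 8) (nat_lit 4),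
  Rule.mk (nat_lit 3) (nat_lit 225) (Steps.bwd (nat_lit 1) (Steps.bwd (nat_lit 3) (Steps.fwd (nat_lit 8192) (Steps.fwd (nat_lit 4096) (Steps.fwd (nat_lit 12288) (Steps.bwd (nat_lit 1) (Steps.bwd (nat_lit 3) (Steps.bwd (nat_lit 1) (Steps.fwd (nat_lit 12288) (Steps.fwd (nat_lit 4096) (Steps.bwd (nat_lit 2) (Steps.bwd (nat_lit 1) (Steps.bwd (nat_lit 3) (Steps.bwd (nat_lit 1) (Steps.bwd (nat_lit 3) (Steps.fwd (nat_lit 4096) (Steps.fwd (nat_lit 12288) (Steps.fwd (nat_lit 4096) Steps.nil)))))))))))))))))) (nat_lit 8) (nat_lit 16),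
  Rule.mk (nat_lit 3) (nat_lit 225) (Steps.bwd (nat_lit 1) (Steps.bwd (nat_lit 2) (Steps.bwd (nat_lit 1) (Steps.bwd (nat_lit 3) (Steps.bwd (nat_lit 1) (Steps.bwd (nat_lit 3) (Steps.fwd (nat_lit 8192) (Steps.fwd (nat_lit 4096) (Steps.fwd (nat_lit 12288) (Steps.bwd (nat_lit 1) (Steps.bwd (nat_lit 3) (Steps.fwd (nat_lit 4096) (Steps.fwd (nat_lit 12288) (Steps.fwd (nat_lit 4096) (Steps.fwd (nat_lit 12288) (Steps.fwd (nat_lit 4096) (Steps.fwd (nat_lit 8192) (Steps.fwd (nat_lit 4096) Steps.nil)))))))))))))))))) (nat_lit 8) (nat_lit 12),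
  Rule.mk (nat_lit 1) (nat_lit 213) (Steps.bwd (nat_lit 2) (Steps.bwd (nat_lit 2) (Steps.bwd (nat_lit 1) (Steps.bwd (nat_lit 2) (Steps.fwd (nat_lit 12288) (Steps.fwd (nat_lit 4096) (Steps.fwd (nat_lit 12288) (Steps.fwd (nat_lit 12288) (Steps.bwd (nat_lit 1) (Steps.fwd (nat_lit 12288) (Steps.fwd (nat_lit 12288) (Steps.bwd (nat_lit 1) (Steps.bwd (nat_lit 2) (Steps.fwd (nat_lit 12288) (Steps.fwd (nat_lit 4096) (Steps.fwd (nat_lit 12288) (Steps.bwd (nat_lit 2) Steps.nil))))))))))))))))) (nat_lit 6) (nat_lit 1),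
  Rule.mk (nat_lit 1) (nat_lit 225) (Steps.bwd (nat_lit 2) (Steps.fwd (nat_lit 4096) (Steps.fwd (nat_lit 8192) (Steps.fwd (nat_lit 4096) (Steps.fwd (nat_lit 8192) (Steps.fwd (nat_lit 8192) (Steps.bwd (nat_lit 1) (Steps.fwd (nat_lit 12288) (Steps.bwd (nat_lit 1) (Steps.bwd (nat_lit 3) (Steps.fwd (nat_lit 4096) (Steps.fwd (nat_lit 12288) (Steps.fwd (nat_lit 4096) (Steps.bwd (nat_lit 2) (Steps.fwd (nat_lit 4096) (Steps.fwd (nat_lit 8192) (Steps.bwd (nat_lit 1) (Steps.fwd (nat_lit 8192) Steps.nil)))))))))))))))))) (nat_lit 8) (nat_lit 13),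
  Rule.mk (nat_lit 3) (nat_lit 213) (Steps.bwd (nat_lit 1) (Steps.bwd (nat_lit 3) (Steps.bwd (nat_lit 3) (Steps.bwd (nat_lit 1) (Steps.bwd (nat_lit 3) (Steps.bwd (nat_lit 3) (Steps.bwd (nat_lit 1) (Steps.bwd (nat_lit 3) (Steps.bwd (nat_lit 3) (Steps.fwd (nat_lit 4096) (Steps.fwd (nat_lit 8192) (Steps.bwd (nat_lit 3) (Steps.bwd (nat_lit 1) (Steps.bwd (nat_lit 3) (Steps.fwd (nat_lit 8192) (Steps.fwd (nat_lit 4096) (Steps.bwd (nat_lit 3) Steps.nil))))))))))))))))) (nat_lit 7) (nat_lit 2),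
  Rule.mk (nat_lit 1) (nat_lit 225) (Steps.bwd (nat_lit 2) (Steps.bwd (nat_lit 1) (Steps.bwd (nat_lit 3) (Steps.bwd (nat_lit 1) (Steps.bwd (nat_lit 2) (Steps.bwd (nat_lit 1) (Steps.fwd (nat_lit 12288) (Steps.bwd (nat_lit 1) (Steps.bwd (nat_lit 3) (Steps.fwd (nat_lit 4096) (Steps.fwd (nat_lit 8192) (Steps.fwd (nat_lit 4096) (Steps.fwd (nat_lit 12288) (Steps.fwd (nat_lit 4096) (Steps.bwd (nat_lit 3) (Steps.fwd (nat_lit 4096) (Steps.bwd (nat_lit 3) (Steps.bwd (nat_lit 3) Steps.nil)))))))))))))))))) (nat_lit 8) (nat_lit 1),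
  Rule.mk (nat_lit 1) (nat_lit 225) (Steps.bwd (nat_lit 3) (Steps.bwd (nat_lit 1) (Steps.bwd (nat_lit 2) (Steps.bwd (nat_lit 1) (Steps.bwd (nat_lit 3) (Steps.fwd (nat_lit 4096) (Steps.bwd (nat_lit 3) (Steps.bwd (nat_lit 3) (Steps.bwd (nat_lit 1) (Steps.fwd (nat_lit 12288) (Steps.fwd (nat_lit 4096) (Steps.fwd (nat_lit 8192) (Steps.fwd (nat_lit 4096) (Steps.fwd (nat_lit 12288) (Steps.fwd (nat_lit 4096) (Steps.fwd (nat_lit 12288) (Steps.fwd (nat_lit 4096) (Steps.bwd (nat_lit 3) Steps.nil)))))))))))))))))) (nat_lit 8) (nat_lit 11),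
  Rule.mk (nat_lit 2) (nat_lit 213) (Steps.bwd (nat_lit 1) (Steps.fwd (nat_lit 12288) (Steps.bwd (nat_lit 2) (Steps.bwd (nat_lit 1) (Steps.fwd (nat_lit 12288) (Steps.fwd (nat_lit 12288) (Steps.fwd (nat_lit 4096) (Steps.fwd (nat_lit 12288) (Steps.fwd (nat_lit 12288) (Steps.bwd (nat_lit 1) (Steps.fwd (nat_lit 12288) (Steps.fwd (nat_lit 12288) (Steps.bwd (nat_lit 1) (Steps.bwd (nat_lit 2) (Steps.fwd (nat_lit 12288) (Steps.fwd (nat_lit 4096) (Steps.bwd (nat_lit 2) Steps.nil))))))))))))))))) (nat_lit 6) (nat_lit 0),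
  Rule.mk (nat_lit 3) (nat_lit 225) (Steps.bwd (nat_lit 1) (Steps.bwd (nat_lit 2) (Steps.bwd (nat_lit 1) (Steps.bwd (nat_lit 3) (Steps.bwd (nat_lit 1) (Steps.bwd (nat_lit 3) (Steps.bwd (nat_lit 3) (Steps.bwd (nat_lit 1) (Steps.bwd (nat_lit 2) (Steps.fwd (nat_lit 4096) (Steps.bwd (nat_lit 3) (Steps.fwd (nat_lit 4096) (Steps.fwd (nat_lit 12288) (Steps.fwd (nat_lit 4096) (Steps.fwd (nat_lit 12288) (Steps.fwd (nat_lit 4096) (Steps.fwd (nat_lit 8192) (Steps.fwd (nat_lit 4096) Steps.nil)))))))))))))))))) (nat_lit 8) (nat_lit 12),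
  Rule.mk (nat_lit 1) (nat_lit 225) (Steps.bwd (nat_lit 2) (Steps.bwd (nat_lit 1) (Steps.bwd (nat_lit 3) (Steps.bwd (nat_lit 1) (Steps.bwd (nat_lit 3) (Steps.fwd (nat_lit 8192) (Steps.fwd (nat_lit 4096) (Steps.bwd (nat_lit 2) (Steps.bwd (nat_lit 1) (Steps.fwd (nat_lit 8192) (Steps.bwd (nat_lit 1) (Steps.fwd (nat_lit 12288) (Steps.fwd (nat_lit 4096) (Steps.fwd (nat_lit 12288) (Steps.fwd (nat_lit 4096) (Steps.fwd (nat_lit 8192) (Steps.fwd (nat_lit 4096) (Steps.bwd (nat_lit 3) Steps.nil)))))))))))))))))) (nat_lit 8) (nat_lit 13),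
  Rule.mk (nat_lit 2) (nat_lit 225) (Steps.bwd (nat_lit 1) (Steps.bwd (nat_lit 2) (Steps.bwd (nat_lit 1) (Steps.bwd (nat_lit 3) (Steps.bwd (nat_lit 1) (Steps.bwd (nat_lit 3) (Steps.fwd (nat_lit 4096) (Steps.fwd (nat_lit 12288) (Steps.fwd (nat_lit 4096) (Steps.fwd (nat_lit 8192) (Steps.bwd (nat_lit 1) (Steps.bwd (nat_lit 3) (Steps.bwd (nat_lit 3) (Steps.fwd (nat_lit 4096) (Steps.fwd (nat_lit 12288) (Steps.fwd (nat_lit 4096) (Steps.bwd (nat_lit 3) (Steps.fwd (nat_lit 4096) Steps.nil)))))))))))))))))) (nat_lit 8) (nat_lit 6),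
  Rule.mk (nat_lit 2) (nat_lit 225) (Steps.bwd (nat_lit 1) (Steps.bwd (nat_lit 3) (Steps.bwd (nat_lit 1) (Steps.bwd (nat_lit 3) (Steps.fwd (nat_lit 8192) (Steps.bwd (nat_lit 1) (Steps.bwd (nat_lit 2) (Steps.bwd (nat_lit 1) (Steps.bwd (nat_lit 3) (Steps.bwd (nat_lit 1) (Steps.fwd (nat_lit 12288) (Steps.fwd (nat_lit 4096) (Steps.fwd (nat_lit 12288) (Steps.fwd (nat_lit 4096) (Steps.fwd (nat_lit 8192) (Steps.fwd (nat_lit 4096) (Steps.fwd (nat_lit 8192) (Steps.fwd (nat_lit 4096) Steps.nil)))))))))))))))))) (nat_lit 8) (nat_lit 14),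
  Rule.mk (nat_lit 3) (nat_lit 213) (Steps.bwd (nat_lit 1) (Steps.bwd (nat_lit 3) (Steps.bwd (nat_lit 3) (Steps.bwd (nat_lit 1) (Steps.bwd (nat_lit 3) (Steps.bwd (nat_lit 3) (Steps.bwd (nat_lit 1) (Steps.fwd (nat_lit 8192) (Steps.fwd (nat_lit 8192) (Steps.fwd (nat_lit 4096) (Steps.bwd (nat_lit 3) (Steps.bwd (nat_lit 3) (Steps.bwd (nat_lit 1) (Steps.bwd (nat_lit 3) (Steps.bwd (nat_lit 3) (Steps.fwd (nat_lit 4096) (Steps.fwd (nat_lit 8192) Steps.nil))))))))))))))))) (nat_lit 7) (nat_lit 2),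
  Rule.mk (nat_lit 2) (nat_lit 261) (Steps.bwd (nat_lit 1) (Steps.bwd (nat_lit 2) (Steps.bwd (nat_lit 1) (Steps.bwd (nat_lit 2) (Steps.fwd (nat_lit 4096) (Steps.fwd (nat_lit 12288) (Steps.bwd (nat_lit 1) (Steps.bwd (nat_lit 2) (Steps.bwd (nat_lit 1) (Steps.bwd (nat_lit 2) (Steps.bwd (nat_lit 1) (Steps.fwd (nat_lit 12288) (Steps.fwd (nat_lit 4096) (Steps.bwd (nat_lit 2) (Steps.bwd (nat_lit 1) (Steps.fwd (nat_lit 12288) (Steps.fwd (nat_lit 4096) (Steps.fwd (nat_lit 12288) (Steps.fwd (nat_lit 4096) (Steps.fwd (nat_lit 12288) (Steps.fwd (nat_lit 4096) Steps.nil))))))))))))))))))))) (nat_lit 4) (nat_lit 0),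
  Rule.mk (nat_lit 1) (nat_lit 261) (Steps.bwd (nat_lit 2) (Steps.bwd (nat_lit 1) (Steps.bwd (nat_lit 2) (Steps.bwd (nat_lit 1) (Steps.bwd (nat_lit 2) (Steps.bwd (nat_lit 1) (Steps.bwd (nat_lit 2) (Steps.bwd (nat_lit 1) (Steps.fwd (nat_lit 12288) (Steps.fwd (nat_lit 4096) (Steps.fwd (nat_lit 12288) (Steps.fwd (nat_lit 4096) (Steps.fwd (nat_lit 12288) (Steps.fwd (nat_lit 4096) (Steps.fwd (nat_lit 12288) (Steps.fwd (nat_lit 4096) (Steps.fwd (nat_lit 12288) (Steps.fwd (nat_lit 4096) (Steps.fwd (nat_lit 12288) (Steps.fwd (nat_lit 4096) (Steps.bwd (nat_lit 2) Steps.nil))))))))))))))))))))) (nat_lit 4) (nat_lit 1),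
  Rule.mk (nat_lit 2) (nat_lit 225) (Steps.bwd (nat_lit 1) (Steps.fwd (nat_lit 8192) (Steps.fwd (nat_lit 4096) (Steps.fwd (nat_lit 8192) (Steps.bwd (nat_lit 1) (Steps.bwd (nat_lit 2) (Steps.bwd (nat_lit 1) (Steps.fwd (nat_lit 8192) (Steps.bwd (nat_lit 1) (Steps.bwd (nat_lit 3) (Steps.bwd (nat_lit 3) (Steps.fwd (nat_lit 4096) (Steps.fwd (nat_lit 12288) (Steps.fwd (nat_lit 4096) (Steps.bwd (nat_lit 3) (Steps.bwd (nat_lit 1) (Steps.fwd (nat_lit 12288) (Steps.fwd (nat_lit 4096) Steps.nil)))))))))))))))))) (nat_lit 8) (nat_lit 8),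
  Rule.mk (nat_lit 2) (nat_lit 225) (Steps.bwd (nat_lit 2) (Steps.bwd (nat_lit 1) (Steps.bwd (nat_lit 2) (Steps.bwd (nat_lit 1) (Steps.bwd (nat_lit 3) (Steps.bwd (nat_lit 1) (Steps.fwd (nat_lit 12288) (Steps.bwd (nat_lit 1) (Steps.fwd (nat_lit 12288) (Steps.fwd (nat_lit 4096) (Steps.bwd (nat_lit 3) (Steps.fwd (nat_lit 4096) (Steps.bwd (nat_lit 3) (Steps.fwd (nat_lit 4096) (Steps.fwd (nat_lit 12288) (Steps.fwd (nat_lit 4096) (Steps.fwd (nat_lit 8192) (Steps.fwd (nat_lit 4096) Steps.nil)))))))))))))))))) (nat_lit 9) (nat_lit 1),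
  Rule.mk (nat_lit 2) (nat_lit 225) (Steps.bwd (nat_lit 1) (Steps.bwd (nat_lit 3) (Steps.bwd (nat_lit 1) (Steps.bwd (nat_lit 3) (Steps.bwd (nat_lit 3) (Steps.bwd (nat_lit 1) (Steps.bwd (nat_lit 2) (Steps.fwd (nat_lit 4096) (Steps.fwd (nat_lit 8192) (Steps.fwd (nat_lit 4096) (Steps.fwd (nat_lit 12288) (Steps.bwd (nat_lit 1) (Steps.fwd (nat_lit 12288) (Steps.fwd (nat_lit 4096) (Steps.bwd (nat_lit 3) (Steps.fwd (nat_lit 4096) (Steps.fwd (nat_lit 8192) (Steps.fwd (nat_lit 4096) Steps.nil)))))))))))))))))) (nat_lit 8) (nat_lit 14),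
  Rule.mk (nat_lit 2) (nat_lit 213) (Steps.bwd (nat_lit 1) (Steps.fwd (nat_lit 12288) (Steps.bwd (nat_lit 2) (Steps.bwd (nat_lit 1) (Steps.fwd (nat_lit 12288) (Steps.fwd (nat_lit 12288) (Steps.bwd (nat_lit 1) (Steps.bwd (nat_lit 2) (Steps.fwd (nat_lit 12288) (Steps.fwd (nat_lit 4096) (Steps.bwd (nat_lit 2) (Steps.bwd (nat_lit 2) (Steps.fwd (nat_lit 4096) (Steps.bwd (nat_lit 2) (Steps.fwd (nat_lit 12288) (Steps.fwd (nat_lit 4096) (Steps.bwd (nat_lit 2) Steps.nil))))))))))))))))) (nat_lit 6) (nat_lit 0),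
  Rule.mk (nat_lit 1) (nat_lit 261) (Steps.bwd (nat_lit 2) (Steps.bwd (nat_lit 1) (Steps.bwd (nat_lit 2) (Steps.bwd (nat_lit 1) (Steps.bwd (nat_lit 2) (Steps.bwd (nat_lit 1) (Steps.bwd (nat_lit 2) (Steps.bwd (nat_lit 1) (Steps.fwd (nat_lit 12288) (Steps.fwd (nat_lit 4096) (Steps.fwd (nat_lit 12288) (Steps.fwd (nat_lit 4096) (Steps.fwd (nat_lit 12288) (Steps.fwd (nat_lit 4096) (Steps.fwd (nat_lit 12288) (Steps.fwd (nat_lit 4096) (Steps.bwd (nat_lit 2) (Steps.fwd (nat_lit 4096) (Steps.fwd (nat_lit 12288) (Steps.fwd (nat_lit 4096) (Steps.bwd (nat_lit 2) Steps.nil))))))))))))))))))))) (nat_lit 4) (nat_lit 1),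
  Rule.mk (nat_lit 2) (nat_lit 225) (Steps.bwd (nat_lit 1) (Steps.bwd (nat_lit 3) (Steps.bwd (nat_lit 1) (Steps.fwd (nat_lit 8192) (Steps.fwd (nat_lit 8192) (Steps.fwd (nat_lit 4096) (Steps.fwd (nat_lit 12288) (Steps.fwd (nat_lit 4096) (Steps.fwd (nat_lit 8192) (Steps.bwd (nat_lit 1) (Steps.fwd (nat_lit 12288) (Steps.fwd (nat_lit 4096) (Steps.fwd (nat_lit 12288) (Steps.fwd (nat_lit 4096) (Steps.fwd (nat_lit 8192) (Steps.bwd (nat_lit 1) (Steps.bwd (nat_lit 3) (Steps.fwd (nat_lit 4096) Steps.nil)))))))))))))))))) (nat_lit 8) (nat_lit 14),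
  Rule.mk (nat_lit 2) (nat_lit 213) (Steps.bwd (nat_lit 1) (Steps.fwd (nat_lit 12288) (Steps.fwd (nat_lit 12288) (Steps.bwd (nat_lit 1) (Steps.fwd (nat_lit 12288) (Steps.fwd (nat_lit 12288) (Steps.fwd (nat_lit 4096) (Steps.fwd (nat_lit 12288) (Steps.bwd (nat_lit 2) (Steps.bwd (nat_lit 1) (Steps.fwd (nat_lit 12288) (Steps.fwd (nat_lit 12288) (Steps.fwd (nat_lit 4096) (Steps.fwd (nat_lit 12288) (Steps.fwd (nat_lit 12288) (Steps.fwd (nat_lit 4096) (Steps.bwd (nat_lit 2) Steps.nil))))))))))))))))) (nat_lit 6) (nat_lit 0),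
  Rule.mk (nat_lit 1) (nat_lit 213) (Steps.bwd (nat_lit 3) (Steps.bwd (nat_lit 3) (Steps.bwd (nat_lit 1) (Steps.fwd (nat_lit 8192) (Steps.fwd (nat_lit 8192) (Steps.fwd (nat_lit 4096) (Steps.bwd (nat_lit 3) (Steps.bwd (nat_lit 3) (Steps.bwd (nat_lit 1) (Steps.bwd (nat_lit 3) (Steps.fwd (nat_lit 8192) (Steps.fwd (nat_lit 4096) (Steps.fwd (nat_lit 8192) (Steps.fwd (nat_lit 8192) (Steps.fwd (nat_lit 4096) (Steps.fwd (nat_lit 8192) (Steps.fwd (nat_lit 8192) Steps.nil))))))))))))))))) (nat_lit 7) (nat_lit 0),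
  Rule.mk (nat_lit 1) (nat_lit 225) (Steps.bwd (nat_lit 3) (Steps.bwd (nat_lit 1) (Steps.bwd (nat_lit 3) (Steps.bwd (nat_lit 1) (Steps.fwd (nat_lit 12288) (Steps.fwd (nat_lit 4096) (Steps.bwd (nat_lit 3) (Steps.fwd (nat_lit 4096) (Steps.fwd (nat_lit 8192) (Steps.bwd (nat_lit 3) (Steps.bwd (nat_lit 1) (Steps.fwd (nat_lit 12288) (Steps.fwd (nat_lit 4096) (Steps.fwd (nat_lit 8192) (Steps.fwd (nat_lit 4096) (Steps.bwd (nat_lit 2) (Steps.bwd (nat_lit 1) (Steps.fwd (nat_lit 12288) Steps.nil)))))))))))))))))) (nat_lit 8) (nat_lit 9),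
  Rule.mk (nat_lit 3) (nat_lit 225) (Steps.bwd (nat_lit 1) (Steps.bwd (nat_lit 2) (Steps.bwd (nat_lit 1) (Steps.fwd (nat_lit 12288) (Steps.fwd (nat_lit 4096) (Steps.fwd (nat_lit 8192) (Steps.bwd (nat_lit 1) (Steps.bwd (nat_lit 3) (Steps.bwd (nat_lit 1) (Steps.fwd (nat_lit 12288) (Steps.fwd (nat_lit 4096) (Steps.fwd (nat_lit 8192) (Steps.fwd (nat_lit 4096) (Steps.bwd (nat_lit 3) (Steps.bwd (nat_lit 3) (Steps.fwd (nat_lit 4096) (Steps.fwd (nat_lit 12288) (Steps.fwd (nat_lit 4096) Steps.nil)))))))))))))))))) (nat_lit 8) (nat_lit 4),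
  Rule.mk (nat_lit 3) (nat_lit 213) (Steps.bwd (nat_lit 1) (Steps.fwd (nat_lit 8192) (Steps.fwd (nat_lit 8192) (Steps.fwd (nat_lit 4096) (Steps.bwd (nat_lit 3) (Steps.bwd (nat_lit 3) (Steps.bwd (nat_lit 1) (Steps.bwd (nat_lit 3) (Steps.bwd (nat_lit 3) (Steps.bwd (nat_lit 1) (Steps.bwd (nat_lit 3) (Steps.fwd (nat_lit 8192) (Steps.fwd (nat_lit 4096) (Steps.fwd (nat_lit 8192) (Steps.bwd (nat_lit 3) (Steps.fwd (nat_lit 4096) (Steps.fwd (nat_lit 8192) Steps.nil))))))))))))))))) (nat_lit 7) (nat_lit 2),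
  Rule.mk (nat_lit 1) (nat_lit 225) (Steps.bwd (nat_lit 2) (Steps.bwd (nat_lit 1) (Steps.bwd (nat_lit 3) (Steps.bwd (nat_lit 1) (Steps.bwd (nat_lit 3) (Steps.bwd (nat_lit 3) (Steps.bwd (nat_lit 1) (Steps.fwd (nat_lit 12288) (Steps.bwd (nat_lit 1) (Steps.bwd (nat_lit 3) (Steps.fwd (nat_lit 4096) (Steps.fwd (nat_lit 12288) (Steps.fwd (nat_lit 4096) (Steps.fwd (nat_lit 12288) (Steps.fwd (nat_lit 4096) (Steps.fwd (nat_lit 8192) (Steps.fwd (nat_lit 4096) (Steps.bwd (nat_lit 3) Steps.nil)))))))))))))))))) (nat_lit 8) (nat_lit 13),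
  Rule.mk (nat_lit 3) (nat_lit 225) (Steps.bwd (nat_lit 1) (Steps.bwd (nat_lit 3) (Steps.bwd (nat_lit 1) (Steps.bwd (nat_lit 2) (Steps.fwd (nat_lit 4096) (Steps.bwd (nat_lit 3) (Steps.bwd (nat_lit 1) (Steps.bwd (nat_lit 3) (Steps.fwd (nat_lit 8192) (Steps.fwd (nat_lit 4096) (Steps.fwd (nat_lit 12288) (Steps.bwd (nat_lit 1) (Steps.bwd (nat_lit 3) (Steps.bwd (nat_lit 1) (Steps.fwd (nat_lit 12288) (Steps.fwd (nat_lit 4096) (Steps.fwd (nat_lit 12288) (Steps.fwd (nat_lit 4096) Steps.nil)))))))))))))))))) (nat_lit 8) (nat_lit 10),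
  Rule.mk (nat_lit 3) (nat_lit 225) (Steps.bwd (nat_lit 3) (Steps.bwd (nat_lit 1) (Steps.bwd (nat_lit 2) (Steps.bwd (nat_lit 1) (Steps.bwd (nat_lit 3) (Steps.bwd (nat_lit 1) (Steps.bwd (nat_lit 2) (Steps.bwd (nat_lit 1) (Steps.fwd (nat_lit 12288) (Steps.fwd (nat_lit 4096) (Steps.fwd (nat_lit 8192) (Steps.fwd (nat_lit 4096) (Steps.fwd (nat_lit 8192) (Steps.fwd (nat_lit 4096) (Steps.fwd (nat_lit 12288) (Steps.fwd (nat_lit 4096) (Steps.bwd (nat_lit 3) (Steps.fwd (nat_lit 4096) Steps.nil)))))))))))))))))) (nat_lit 8) (nat_lit 18),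
  Rule.mk (nat_lit 1) (nat_lit 225) (Steps.bwd (nat_lit 3) (Steps.bwd (nat_lit 1) (Steps.bwd (nat_lit 2) (Steps.bwd (nat_lit 1) (Steps.bwd (nat_lit 3) (Steps.bwd (nat_lit 1) (Steps.fwd (nat_lit 8192) (Steps.fwd (nat_lit 8192) (Steps.bwd (nat_lit 1) (Steps.fwd (nat_lit 12288) (Steps.fwd (nat_lit 4096) (Steps.fwd (nat_lit 8192) (Steps.fwd (nat_lit 4096) (Steps.fwd (nat_lit 12288) (Steps.fwd (nat_lit 4096) (Steps.fwd (nat_lit 12288) (Steps.fwd (nat_lit 4096) (Steps.bwd (nat_lit 3) Steps.nil)))))))))))))))))) (nat_lit 8) (nat_lit 11),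
  Rule.mk (nat_lit 3) (nat_lit 261) (Steps.bwd (nat_lit 1) (Steps.bwd (nat_lit 3) (Steps.bwd (nat_lit 1) (Steps.bwd (nat_lit 3) (Steps.bwd (nat_lit 1) (Steps.fwd (nat_lit 8192) (Steps.bwd (nat_lit 1) (Steps.bwd (nat_lit 3) (Steps.bwd (nat_lit 1) (Steps.fwd (nat_lit 8192) (Steps.fwd (nat_lit 4096) (Steps.bwd (nat_lit 3) (Steps.fwd (nat_lit 4096) (Steps.fwd (nat_lit 8192) (Steps.fwd (nat_lit 4096) (Steps.bwd (nat_lit 3) (Steps.fwd (nat_lit 4096) (Steps.bwd (nat_lit 3) (Steps.fwd (nat_lit 4096) (Steps.fwd (nat_lit 8192) (Steps.fwd (nat_lit 4096) Steps.nil))))))))))))))))))))) (nat_lit 5) (nat_lit 1),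
  Rule.mk (nat_lit 3) (nat_lit 249) (Steps.bwd (nat_lit 3) (Steps.bwd (nat_lit 1) (Steps.bwd (nat_lit 3) (Steps.bwd (nat_lit 1) (Steps.fwd (nat_lit 12288) (Steps.bwd (nat_lit 1) (Steps.bwd (nat_lit 3) (Steps.bwd (nat_lit 3) (Steps.bwd (nat_lit 1) (Steps.bwd (nat_lit 3) (Steps.fwd (nat_lit 4096) (Steps.fwd (nat_lit 12288) (Steps.fwd (nat_lit 4096) (Steps.fwd (nat_lit 12288) (Steps.fwd (nat_lit 12288) (Steps.fwd (nat_lit 4096) (Steps.bwd (nat_lit 3) (Steps.fwd (nat_lit 4096) (Steps.fwd (nat_lit 12288) (Steps.fwd (nat_lit 4096) Steps.nil)))))))))))))))))))) (nat_lit 10) (nat_lit 20),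
  Rule.mk (nat_lit 2) (nat_lit 225) (Steps.bwd (nat_lit 1) (Steps.bwd (nat_lit 3) (Steps.bwd (nat_lit 1) (Steps.bwd (nat_lit 3) (Steps.fwd (nat_lit 8192) (Steps.fwd (nat_lit 4096) (Steps.fwd (nat_lit 12288) (Steps.fwd (nat_lit 4096) (Steps.bwd (nat_lit 3) (Steps.bwd (nat_lit 1) (Steps.bwd (nat_lit 2) (Steps.bwd (nat_lit 1) (Steps.fwd (nat_lit 12288) (Steps.fwd (nat_lit 4096) (Steps.bwd (nat_lit 3) (Steps.fwd (nat_lit 4096) (Steps.bwd (nat_lit 3) (Steps.fwd (nat_lit 4096) Steps.nil)))))))))))))))))) (nat_lit 8) (nat_lit 14),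
  Rule.mk (nat_lit 1) (nat_lit 225) (Steps.bwd (nat_lit 3) (Steps.bwd (nat_lit 1) (Steps.fwd (nat_lit 8192) (Steps.bwd (nat_lit 1) (Steps.bwd (nat_lit 2) (Steps.bwd (nat_lit 1) (Steps.bwd (nat_lit 3) (Steps.fwd (nat_lit 4096) (Steps.fwd (nat_lit 8192) (Steps.bwd (nat_lit 3) (Steps.bwd (nat_lit 1) (Steps.fwd (nat_lit 12288) (Steps.fwd (nat_lit 4096) (Steps.bwd (nat_lit 3) (Steps.fwd (nat_lit 4096) (Steps.bwd (nat_lit 2) (Steps.bwd (nat_lit 1) (Steps.bwd (nat_lit 2) Steps.nil)))))))))))))))))) (nat_lit 8) (nat_lit 9),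
  Rule.mk (nat_lit 3) (nat_lit 213) (Steps.bwd (nat_lit 1) (Steps.bwd (nat_lit 3) (Steps.fwd (nat_lit 8192) (Steps.fwd (nat_lit 4096) (Steps.bwd (nat_lit 3) (Steps.bwd (nat_lit 3) (Steps.bwd (nat_lit 1) (Steps.bwd (nat_lit 3) (Steps.fwd (nat_lit 8192) (Steps.fwd (nat_lit 4096) (Steps.fwd (nat_lit 8192) (Steps.fwd (nat_lit 8192) (Steps.bwd (nat_lit 1) (Steps.bwd (nat_lit 3) (Steps.bwd (nat_lit 3) (Steps.fwd (nat_lit 4096) (Steps.fwd (nat_lit 8192) Steps.nil))))))))))))))))) (nat_lit 7) (nat_lit 2),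
  Rule.mk (nat_lit 1) (nat_lit 213) (Steps.bwd (nat_lit 3) (Steps.fwd (nat_lit 8192) (Steps.fwd (nat_lit 4096) (Steps.fwd (nat_lit 8192) (Steps.fwd (nat_lit 8192) (Steps.bwd (nat_lit 1) (Steps.bwd (nat_lit 3) (Steps.fwd (nat_lit 8192) (Steps.fwd (nat_lit 4096) (Steps.fwd (nat_lit 8192) (Steps.fwd (nat_lit 8192) (Steps.bwd (nat_lit 1) (Steps.bwd (nat_lit 3) (Steps.bwd (nat_lit 3) (Steps.fwd (nat_lit 4096) (Steps.fwd (nat_lit 8192) (Steps.fwd (nat_lit 8192) Steps.nil))))))))))))))))) (nat_lit 7) (nat_lit 0),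
  Rule.mk (nat_lit 1) (nat_lit 213) (Steps.bwd (nat_lit 3) (Steps.bwd (nat_lit 3) (Steps.bwd (nat_lit 1) (Steps.bwd (nat_lit 3) (Steps.bwd (nat_lit 3) (Steps.bwd (nat_lit 1) (Steps.fwd (nat_lit 8192) (Steps.fwd (nat_lit 8192) (Steps.bwd (nat_lit 1) (Steps.bwd (nat_lit 3) (Steps.fwd (nat_lit 8192) (Steps.fwd (nat_lit 4096) (Steps.fwd (nat_lit 8192) (Steps.bwd (nat_lit 3) (Steps.fwd (nat_lit 4096) (Steps.fwd (nat_lit 8192) (Steps.fwd (nat_lit 8192) Steps.nil))))))))))))))))) (nat_lit 7) (nat_lit 0)]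
noncomputable def R_4 : List (Rule) := [Rule.mk (nat_lit 1) (nat_lit 213) (Steps.bwd (nat_lit 2) (Steps.bwd (nat_lit 2) (Steps.bwd (nat_lit 1) (Steps.bwd (nat_lit 2) (Steps.fwd (nat_lit 12288) (Steps.fwd (nat_lit 4096) (Steps.fwd (nat_lit 12288) (Steps.bwd (nat_lit 2) (Steps.bwd (nat_lit 1) (Steps.fwd (nat_lit 12288) (Steps.fwd (nat_lit 12288) (Steps.fwd (nat_lit 4096) (Steps.fwd (nat_lit 12288) (Steps.fwd (nat_lit 12288) (Steps.fwd (nat_lit 4096) (Steps.bwd (nat_lit 2) (Steps.bwd (nat_lit 2) Steps.nil))))))))))))))))) (nat_lit 6) (nat_lit 1),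
  Rule.mk (nat_lit 1) (nat_lit 225) (Steps.bwd (nat_lit 2) (Steps.bwd (nat_lit 1) (Steps.fwd (nat_lit 8192) (Steps.fwd (nat_lit 4096) (Steps.fwd (nat_lit 8192) (Steps.bwd (nat_lit 1) (Steps.bwd (nat_lit 2) (Steps.bwd (nat_lit 1) (Steps.bwd (nat_lit 3) (Steps.fwd (nat_lit 4096) (Steps.bwd (nat_lit 3) (Steps.bwd (nat_lit 3) (Steps.bwd (nat_lit 1) (Steps.fwd (nat_lit 12288) (Steps.fwd (nat_lit 4096) (Steps.fwd (nat_lit 8192) (Steps.fwd (nat_lit 4096) (Steps.bwd (nat_lit 2) Steps.nil)))))))))))))))))) (nat_lit 8) (nat_lit 7),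
  Rule.mk (nat_lit 1) (nat_lit 213) (Steps.bwd (nat_lit 2) (Steps.bwd (nat_lit 2) (Steps.bwd (nat_lit 1) (Steps.bwd (nat_lit 2) (Steps.bwd (nat_lit 2) (Steps.bwd (nat_lit 1) (Steps.fwd (nat_lit 12288) (Steps.fwd (nat_lit 12288) (Steps.fwd (nat_lit 4096) (Steps.fwd (nat_lit 12288) (Steps.fwd (nat_lit 12288) (Steps.fwd (nat_lit 4096) (Steps.fwd (nat_lit 12288) (Steps.fwd (nat_lit 12288) (Steps.fwd (nat_lit 4096) (Steps.bwd (nat_lit 2) (Steps.fwd (nat_lit 12288) Steps.nil))))))))))))))))) (nat_lit 6) (nat_lit 1),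
  Rule.mk (nat_lit 2) (nat_lit 225) (Steps.bwd (nat_lit 1) (Steps.bwd (nat_lit 2) (Steps.bwd (nat_lit 1) (Steps.bwd (nat_lit 3) (Steps.fwd (nat_lit 4096) (Steps.fwd (nat_lit 8192) (Steps.fwd (nat_lit 4096) (Steps.fwd (nat_lit 12288) (Steps.fwd (nat_lit 4096) (Steps.fwd (nat_lit 8192) (Steps.bwd (nat_lit 1) (Steps.fwd (nat_lit 8192) (Steps.fwd (nat_lit 8192) (Steps.bwd (nat_lit 1) (Steps.fwd (nat_lit 12288) (Steps.fwd (nat_lit 4096) (Steps.fwd (nat_lit 8192) (Steps.fwd (nat_lit 4096) Steps.nil)))))))))))))))))) (nat_lit 8) (nat_lit 6),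
  Rule.mk (nat_lit 3) (nat_lit 225) (Steps.bwd (nat_lit 1) (Steps.fwd (nat_lit 8192) (Steps.fwd (nat_lit 8192) (Steps.bwd (nat_lit 1) (Steps.fwd (nat_lit 12288) (Steps.bwd (nat_lit 1) (Steps.bwd (nat_lit 3) (Steps.bwd (nat_lit 1) (Steps.fwd (nat_lit 12288) (Steps.bwd (nat_lit 1) (Steps.fwd (nat_lit 12288) (Steps.fwd (nat_lit 4096) (Steps.fwd (nat_lit 8192) (Steps.fwd (nat_lit 4096) (Steps.bwd (nat_lit 3) (Steps.bwd (nat_lit 1) (Steps.fwd (nat_lit 12288) (Steps.fwd (nat_lit 4096) Steps.nil)))))))))))))))))) (nat_lit 8) (nat_lit 16),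
  Rule.mk (nat_lit 1) (nat_lit 213) (Steps.bwd (nat_lit 3) (Steps.bwd (nat_lit 3) (Steps.bwd (nat_lit 1) (Steps.fwd (nat_lit 8192) (Steps.fwd (nat_lit 8192) (Steps.bwd (nat_lit 1) (Steps.bwd (nat_lit 3) (Steps.fwd (nat_lit 8192) (Steps.fwd (nat_lit 4096) (Steps.fwd (nat_lit 8192) (Steps.bwd (nat_lit 3) (Steps.bwd (nat_lit 1) (Steps.bwd (nat_lit 3) (Steps.bwd (nat_lit 3) (Steps.fwd (nat_lit 4096) (Steps.fwd (nat_lit 8192) (Steps.fwd (nat_lit 8192) Steps.nil))))))))))))))))) (nat_lit 7) (nat_lit 0),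
  Rule.mk (nat_lit 3) (nat_lit 213) (Steps.bwd (nat_lit 3) (Steps.bwd (nat_lit 1) (Steps.fwd (nat_lit 8192) (Steps.fwd (nat_lit 8192) (Steps.bwd (nat_lit 1) (Steps.bwd (nat_lit 3) (Steps.bwd (nat_lit 3) (Steps.fwd (nat_lit 4096) (Steps.bwd (nat_lit 3) (Steps.bwd (nat_lit 3) (Steps.bwd (nat_lit 1) (Steps.bwd (nat_lit 3) (Steps.fwd (nat_lit 8192) (Steps.fwd (nat_lit 4096) (Steps.bwd (nat_lit 3) (Steps.bwd (nat_lit 3) (Steps.fwd (nat_lit 4096) Steps.nil))))))))))))))))) (nat_lit 7) (nat_lit 1),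
  Rule.mk (nat_lit 1) (nat_lit 225) (Steps.bwd (nat_lit 2) (Steps.bwd (nat_lit 1) (Steps.bwd (nat_lit 3) (Steps.bwd (nat_lit 1) (Steps.fwd (nat_lit 8192) (Steps.bwd (nat_lit 3) (Steps.bwd (nat_lit 1) (Steps.bwd (nat_lit 2) (Steps.bwd (nat_lit 1) (Steps.bwd (nat_lit 3) (Steps.fwd (nat_lit 4096) (Steps.fwd (nat_lit 12288) (Steps.fwd (nat_lit 4096) (Steps.fwd (nat_lit 12288) (Steps.fwd (nat_lit 4096) (Steps.fwd (nat_lit 8192) (Steps.fwd (nat_lit 4096) (Steps.bwd (nat_lit 3) Steps.nil)))))))))))))))))) (nat_lit 8) (nat_lit 13),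
  Rule.mk (nat_lit 3) (nat_lit 225) (Steps.bwd (nat_lit 1) (Steps.bwd (nat_lit 3) (Steps.bwd (nat_lit 1) (Steps.bwd (nat_lit 2) (Steps.bwd (nat_lit 1) (Steps.fwd (nat_lit 8192) (Steps.fwd (nat_lit 4096) (Steps.bwd (nat_lit 3) (Steps.bwd (nat_lit 3) (Steps.bwd (nat_lit 1) (Steps.fwd (nat_lit 12288) (Steps.fwd (nat_lit 4096) (Steps.fwd (nat_lit 8192) (Steps.fwd (nat_lit 4096) (Steps.fwd (nat_lit 12288) (Steps.bwd (nat_lit 1) (Steps.bwd (nat_lit 2) (Steps.fwd (nat_lit 4096) Steps.nil)))))))))))))))))) (nat_lit 8) (nat_lit 10),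
  Rule.mk (nat_lit 2) (nat_lit 225) (Steps.bwd (nat_lit 1) (Steps.fwd (nat_lit 12288) (Steps.fwd (nat_lit 4096) (Steps.fwd (nat_lit 8192) (Steps.bwd (nat_lit 1) (Steps.bwd (nat_lit 3) (Steps.bwd (nat_lit 1) (Steps.fwd (nat_lit 12288) (Steps.bwd (nat_lit 1) (Steps.bwd (nat_lit 3) (Steps.fwd (nat_lit 4096) (Steps.fwd (nat_lit 8192) (Steps.bwd (nat_lit 3) (Steps.fwd (nat_lit 4096) (Steps.fwd (nat_lit 12288) (Steps.fwd (nat_lit 4096) (Steps.bwd (nat_lit 3) (Steps.fwd (nat_lit 4096) Steps.nil)))))))))))))))))) (nat_lit 8) (nat_lit 6),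
  Rule.mk (nat_lit 2) (nat_lit 225) (Steps.bwd (nat_lit 1) (Steps.fwd (nat_lit 8192) (Steps.fwd (nat_lit 4096) (Steps.bwd (nat_lit 3) (Steps.fwd (nat_lit 8192) (Steps.fwd (nat_lit 4096) (Steps.bwd (nat_lit 2) (Steps.bwd (nat_lit 1) (Steps.bwd (nat_lit 3) (Steps.bwd (nat_lit 1) (Steps.fwd (nat_lit 12288) (Steps.fwd (nat_lit 4096) (Steps.bwd (nat_lit 2) (Steps.bwd (nat_lit 1) (Steps.fwd (nat_lit 8192) (Steps.bwd (nat_lit 1) (Steps.bwd (nat_lit 3) (Steps.fwd (nat_lit 4096) Steps.nil)))))))))))))))))) (nat_lit 8) (nat_lit 14),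
  Rule.mk (nat_lit 2) (nat_lit 225) (Steps.bwd (nat_lit 1) (Steps.fwd (nat_lit 8192) (Steps.bwd (nat_lit 1) (Steps.bwd (nat_lit 3) (Steps.bwd (nat_lit 3) (Steps.bwd (nat_lit 1) (Steps.bwd (nat_lit 2) (Steps.bwd (nat_lit 1) (Steps.bwd (nat_lit 3) (Steps.fwd (nat_lit 4096) (Steps.bwd (nat_lit 2) (Steps.fwd (nat_lit 4096) (Steps.fwd (nat_lit 12288) (Steps.fwd (nat_lit 4096) (Steps.fwd (nat_lit 8192) (Steps.fwd (nat_lit 4096) (Steps.fwd (nat_lit 8192) (Steps.fwd (nat_lit 4096) Steps.nil)))))))))))))))))) (nat_lit 8) (nat_lit 14),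
  Rule.mk (nat_lit 2) (nat_lit 213) (Steps.bwd (nat_lit 1) (Steps.bwd (nat_lit 2) (Steps.fwd (nat_lit 12288) (Steps.fwd (nat_lit 4096) (Steps.fwd (nat_lit 12288) (Steps.bwd (nat_lit 2) (Steps.bwd (nat_lit 1) (Steps.bwd (nat_lit 2) (Steps.fwd (nat_lit 12288) (Steps.fwd (nat_lit 4096) (Steps.fwd (nat_lit 12288) (Steps.fwd (nat_lit 12288) (Steps.fwd (nat_lit 4096) (Steps.bwd (nat_lit 2) (Steps.bwd (nat_lit 2) (Steps.fwd (nat_lit 4096) (Steps.bwd (nat_lit 2) Steps.nil))))))))))))))))) (nat_lit 6) (nat_lit 0),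
  Rule.mk (nat_lit 1) (nat_lit 225) (Steps.bwd (nat_lit 2) (Steps.bwd (nat_lit 1) (Steps.bwd (nat_lit 3) (Steps.bwd (nat_lit 1) (Steps.bwd (nat_lit 3) (Steps.fwd (nat_lit 8192) (Steps.fwd (nat_lit 4096) (Steps.fwd (nat_lit 12288) (Steps.fwd (nat_lit 4096) (Steps.fwd (nat_lit 8192) (Steps.fwd (nat_lit 4096) (Steps.fwd (nat_lit 12288) (Steps.fwd (nat_lit 4096) (Steps.fwd (nat_lit 12288) (Steps.bwd (nat_lit 1) (Steps.bwd (nat_lit 3) (Steps.bwd (nat_lit 1) (Steps.bwd (nat_lit 3) Steps.nil)))))))))))))))))) (nat_lit 8) (nat_lit 13),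
  Rule.mk (nat_lit 1) (nat_lit 213) (Steps.bwd (nat_lit 2) (Steps.bwd (nat_lit 2) (Steps.bwd (nat_lit 1) (Steps.fwd (nat_lit 12288) (Steps.bwd (nat_lit 2) (Steps.bwd (nat_lit 1) (Steps.bwd (nat_lit 2) (Steps.fwd (nat_lit 12288) (Steps.fwd (nat_lit 4096) (Steps.bwd (nat_lit 2) (Steps.bwd (nat_lit 2) (Steps.fwd (nat_lit 4096) (Steps.bwd (nat_lit 2) (Steps.bwd (nat_lit 2) (Steps.fwd (nat_lit 4096) (Steps.fwd (nat_lit 12288) (Steps.fwd (nat_lit 12288) Steps.nil))))))))))))))))) (nat_lit 6) (nat_lit 1),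
  Rule.mk (nat_lit 2) (nat_lit 225) (Steps.bwd (nat_lit 1) (Steps.bwd (nat_lit 2) (Steps.bwd (nat_lit 1) (Steps.bwd (nat_lit 3) (Steps.fwd (nat_lit 4096) (Steps.fwd (nat_lit 8192) (Steps.bwd (nat_lit 1) (Steps.fwd (nat_lit 12288) (Steps.fwd (nat_lit 4096) (Steps.bwd (nat_lit 3) (Steps.fwd (nat_lit 4096) (Steps.fwd (nat_lit 8192) (Steps.fwd (nat_lit 8192) (Steps.bwd (nat_lit 1) (Steps.bwd (nat_lit 2) (Steps.bwd (nat_lit 1) (Steps.fwd (nat_lit 8192) (Steps.fwd (nat_lit 4096) Steps.nil)))))))))))))))))) (nat_lit 8) (nat_lit 6),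
  Rule.mk (nat_lit 2) (nat_lit 225) (Steps.bwd (nat_lit 1) (Steps.fwd (nat_lit 8192) (Steps.fwd (nat_lit 4096) (Steps.bwd (nat_lit 3) (Steps.bwd (nat_lit 1) (Steps.bwd (nat_lit 2) (Steps.bwd (nat_lit 1) (Steps.bwd (nat_lit 3) (Steps.bwd (nat_lit 1) (Steps.bwd (nat_lit 3) (Steps.bwd (nat_lit 3) (Steps.fwd (nat_lit 4096) (Steps.bwd (nat_lit 2) (Steps.fwd (nat_lit 4096) (Steps.fwd (nat_lit 8192) (Steps.fwd (nat_lit 4096) (Steps.bwd (nat_lit 2) (Steps.fwd (nat_lit 4096) Steps.nil)))))))))))))))))) (nat_lit 8) (nat_lit 8),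
  Rule.mk (nat_lit 2) (nat_lit 225) (Steps.bwd (nat_lit 1) (Steps.bwd (nat_lit 3) (Steps.bwd (nat_lit 1) (Steps.fwd (nat_lit 8192) (Steps.fwd (nat_lit 8192) (Steps.bwd (nat_lit 1) (Steps.bwd (nat_lit 2) (Steps.fwd (nat_lit 4096) (Steps.bwd (nat_lit 3) (Steps.fwd (nat_lit 4096) (Steps.fwd (nat_lit 12288) (Steps.fwd (nat_lit 4096) (Steps.fwd (nat_lit 12288) (Steps.fwd (nat_lit 4096) (Steps.bwd (nat_lit 3) (Steps.bwd (nat_lit 1) (Steps.fwd (nat_lit 8192) (Steps.fwd (nat_lit 4096) Steps.nil)))))))))))))))))) (nat_lit 8) (nat_lit 14),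
  Rule.mk (nat_lit 1) (nat_lit 213) (Steps.bwd (nat_lit 2) (Steps.bwd (nat_lit 2) (Steps.bwd (nat_lit 1) (Steps.bwd (nat_lit 2) (Steps.fwd (nat_lit 12288) (Steps.fwd (nat_lit 4096) (Steps.fwd (nat_lit 12288) (Steps.fwd (nat_lit 12288) (Steps.bwd (nat_lit 1) (Steps.fwd (nat_lit 12288) (Steps.fwd (nat_lit 12288) (Steps.fwd (nat_lit 4096) (Steps.fwd (nat_lit 12288) (Steps.fwd (nat_lit 12288) (Steps.fwd (nat_lit 4096) (Steps.fwd (nat_lit 12288) (Steps.bwd (nat_lit 2) Steps.nil))))))))))))))))) (nat_lit 6) (nat_lit 1),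
  Rule.mk (nat_lit 2) (nat_lit 225) (Steps.bwd (nat_lit 1) (Steps.bwd (nat_lit 3) (Steps.bwd (nat_lit 1) (Steps.fwd (nat_lit 8192) (Steps.fwd (nat_lit 8192) (Steps.bwd (nat_lit 1) (Steps.fwd (nat_lit 12288) (Steps.fwd (nat_lit 4096) (Steps.bwd (nat_lit 3) (Steps.fwd (nat_lit 4096) (Steps.bwd (nat_lit 2) (Steps.bwd (nat_lit 1) (Steps.fwd (nat_lit 12288) (Steps.fwd (nat_lit 4096) (Steps.bwd (nat_lit 3) (Steps.bwd (nat_lit 1) (Steps.fwd (nat_lit 8192) (Steps.bwd (nat_lit 1) Steps.nil)))))))))))))))))) (nat_lit 8) (nat_lit 14),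
  Rule.mk (nat_lit 2) (nat_lit 225) (Steps.bwd (nat_lit 1) (Steps.bwd (nat_lit 2) (Steps.bwd (nat_lit 1) (Steps.bwd (nat_lit 3) (Steps.fwd (nat_lit 4096) (Steps.bwd (nat_lit 3) (Steps.bwd (nat_lit 1) (Steps.fwd (nat_lit 12288) (Steps.fwd (nat_lit 4096) (Steps.fwd (nat_lit 8192) (Steps.fwd (nat_lit 4096) (Steps.fwd (nat_lit 8192) (Steps.fwd (nat_lit 8192) (Steps.bwd (nat_lit 1) (Steps.fwd (nat_lit 12288) (Steps.fwd (nat_lit 4096) (Steps.fwd (nat_lit 8192) (Steps.fwd (nat_lit 4096) Steps.nil)))))))))))))))))) (nat_lit 8) (nat_lit 6),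
  Rule.mk (nat_lit 3) (nat_lit 225) (Steps.bwd (nat_lit 3) (Steps.bwd (nat_lit 1) (Steps.fwd (nat_lit 12288) (Steps.bwd (nat_lit 1) (Steps.fwd (nat_lit 8192) (Steps.fwd (nat_lit 4096) (Steps.fwd (nat_lit 12288) (Steps.fwd (nat_lit 4096) (Steps.fwd (nat_lit 12288) (Steps.fwd (nat_lit 4096) (Steps.bwd (nat_lit 3) (Steps.bwd (nat_lit 1) (Steps.bwd (nat_lit 3) (Steps.bwd (nat_lit 1) (Steps.bwd (nat_lit 2) (Steps.fwd (nat_lit 4096) (Steps.bwd (nat_lit 3) (Steps.fwd (nat_lit 4096) Steps.nil)))))))))))))))))) (nat_lit 8) (nat_lit 18),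
  Rule.mk (nat_lit 3) (nat_lit 225) (Steps.bwd (nat_lit 1) (Steps.fwd (nat_lit 12288) (Steps.fwd (nat_lit 4096) (Steps.fwd (nat_lit 12288) (Steps.bwd (nat_lit 1) (Steps.bwd (nat_lit 3) (Steps.bwd (nat_lit 1) (Steps.bwd (nat_lit 3) (Steps.bwd (nat_lit 1) (Steps.fwd (nat_lit 12288) (Steps.fwd (nat_lit 4096) (Steps.fwd (nat_lit 8192) (Steps.fwd (nat_lit 4096) (Steps.fwd (nat_lit 8192) (Steps.fwd (nat_lit 8192) (Steps.fwd (nat_lit 4096) (Steps.fwd (nat_lit 12288) (Steps.fwd (nat_lit 4096) Steps.nil)))))))))))))))))) (nat_lit 8) (nat_lit 4),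
  Rule.mk (nat_lit 3) (nat_lit 225) (Steps.bwd (nat_lit 1) (Steps.fwd (nat_lit 8192) (Steps.bwd (nat_lit 1) (Steps.bwd (nat_lit 2) (Steps.bwd (nat_lit 1) (Steps.bwd (nat_lit 3) (Steps.bwd (nat_lit 1) (Steps.bwd (nat_lit 3) (Steps.bwd (nat_lit 3) (Steps.fwd (nat_lit 4096) (Steps.fwd (nat_lit 12288) (Steps.fwd (nat_lit 4096) (Steps.bwd (nat_lit 3) (Steps.bwd (nat_lit 1) (Steps.fwd (nat_lit 12288) (Steps.fwd (nat_lit 4096) (Steps.fwd (nat_lit 12288) (Steps.fwd (nat_lit 4096) Steps.nil)))))))))))))))))) (nat_lit 8) (nat_lit 10),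
  Rule.mk (nat_lit 3) (nat_lit 225) (Steps.bwd (nat_lit 1) (Steps.bwd (nat_lit 2) (Steps.bwd (nat_lit 1) (Steps.bwd (nat_lit 3) (Steps.bwd (nat_lit 1) (Steps.fwd (nat_lit 8192) (Steps.fwd (nat_lit 8192) (Steps.bwd (nat_lit 1) (Steps.bwd (nat_lit 2) (Steps.bwd (nat_lit 1) (Steps.bwd (nat_lit 3) (Steps.fwd (nat_lit 4096) (Steps.fwd (nat_lit 12288) (Steps.fwd (nat_lit 4096) (Steps.fwd (nat_lit 12288) (Steps.fwd (nat_lit 4096) (Steps.fwd (nat_lit 8192) (Steps.fwd (nat_lit 4096) Steps.nil)))))))))))))))))) (nat_lit 8) (nat_lit 12),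
  Rule.mk (nat_lit 3) (nat_lit 225) (Steps.bwd (nat_lit 1) (Steps.fwd (nat_lit 8192) (Steps.bwd (nat_lit 3) (Steps.bwd (nat_lit 1) (Steps.bwd (nat_lit 2) (Steps.bwd (nat_lit 1) (Steps.bwd (nat_lit 3) (Steps.fwd (nat_lit 4096) (Steps.fwd (nat_lit 12288) (Steps.fwd (nat_lit 4096) (Steps.fwd (nat_lit 12288) (Steps.fwd (nat_lit 4096) (Steps.bwd (nat_lit 3) (Steps.fwd (nat_lit 4096) (Steps.bwd (nat_lit 3) (Steps.fwd (nat_lit 4096) (Steps.bwd (nat_lit 2) (Steps.fwd (nat_lit 4096) Steps.nil)))))))))))))))))) (nat_lit 8) (nat_lit 16),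
  Rule.mk (nat_lit 2) (nat_lit 225) (Steps.bwd (nat_lit 1) (Steps.bwd (nat_lit 3) (Steps.bwd (nat_lit 1) (Steps.bwd (nat_lit 3) (Steps.bwd (nat_lit 3) (Steps.fwd (nat_lit 4096) (Steps.bwd (nat_lit 2) (Steps.bwd (nat_lit 1) (Steps.bwd (nat_lit 3) (Steps.bwd (nat_lit 1) (Steps.fwd (nat_lit 12288) (Steps.fwd (nat_lit 4096) (Steps.bwd (nat_lit 2) (Steps.bwd (nat_lit 1) (Steps.bwd (nat_lit 3) (Steps.fwd (nat_lit 4096) (Steps.fwd (nat_lit 8192) (Steps.fwd (nat_lit 4096) Steps.nil)))))))))))))))))) (nat_lit 8) (nat_lit 14),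
  Rule.mk (nat_lit 1) (nat_lit 213) (Steps.bwd (nat_lit 2) (Steps.bwd (nat_lit 2) (Steps.bwd (nat_lit 1) (Steps.fwd (nat_lit 12288) (Steps.fwd (nat_lit 12288) (Steps.fwd (nat_lit 4096) (Steps.bwd (nat_lit 2) (Steps.bwd (nat_lit 2) (Steps.bwd (nat_lit 1) (Steps.fwd (nat_lit 12288) (Steps.fwd (nat_lit 12288) (Steps.bwd (nat_lit 1) (Steps.bwd (nat_lit 2) (Steps.fwd (nat_lit 12288) (Steps.fwd (nat_lit 4096) (Steps.bwd (nat_lit 2) (Steps.bwd (nat_lit 2) Steps.nil))))))))))))))))) (nat_lit 6) (nat_lit 1),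
  Rule.mk (nat_lit 2) (nat_lit 225) (Steps.bwd (nat_lit 1) (Steps.fwd (nat_lit 12288) (Steps.fwd (nat_lit 4096) (Steps.bwd (nat_lit 3) (Steps.bwd (nat_lit 1) (Steps.fwd (nat_lit 8192) (Steps.bwd (nat_lit 1) (Steps.bwd (nat_lit 2) (Steps.fwd (nat_lit 4096) (Steps.fwd (nat_lit 8192) (Steps.fwd (nat_lit 4096) (Steps.bwd (nat_lit 3) (Steps.bwd (nat_lit 3) (Steps.bwd (nat_lit 1) (Steps.fwd (nat_lit 12288) (Steps.bwd (nat_lit 1) (Steps.bwd (nat_lit 3) (Steps.fwd (nat_lit 4096) Steps.nil)))))))))))))))))) (nat_lit 8) (nat_lit 6),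
  Rule.mk (nat_lit 2) (nat_lit 249) (Steps.bwd (nat_lit 2) (Steps.bwd (nat_lit 1) (Steps.fwd (nat_lit 8192) (Steps.fwd (nat_lit 4096) (Steps.fwd (nat_lit 12288) (Steps.fwd (nat_lit 4096) (Steps.fwd (nat_lit 8192) (Steps.bwd (nat_lit 3) (Steps.bwd (nat_lit 1) (Steps.bwd (nat_lit 3) (Steps.fwd (nat_lit 4096) (Steps.bwd (nat_lit 2) (Steps.bwd (nat_lit 1) (Steps.bwd (nat_lit 3) (Steps.bwd (nat_lit 3) (Steps.bwd (nat_lit 1) (Steps.bwd (nat_lit 3) (Steps.fwd (nat_lit 4096) (Steps.fwd (nat_lit 12288) (Steps.fwd (nat_lit 4096) Steps.nil)))))))))))))))))))) (nat_lit 10) (nat_lit 13),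
  Rule.mk (nat_lit 1) (nat_lit 225) (Steps.bwd (nat_lit 3) (Steps.bwd (nat_lit 1) (Steps.fwd (nat_lit 8192) (Steps.fwd (nat_lit 8192) (Steps.bwd (nat_lit 1) (Steps.fwd (nat_lit 12288) (Steps.bwd (nat_lit 1) (Steps.fwd (nat_lit 8192) (Steps.fwd (nat_lit 4096) (Steps.bwd (nat_lit 2) (Steps.bwd (nat_lit 1) (Steps.bwd (nat_lit 2) (Steps.bwd (nat_lit 1) (Steps.bwd (nat_lit 3) (Steps.fwd (nat_lit 4096) (Steps.bwd (nat_lit 3) (Steps.fwd (nat_lit 4096) (Steps.bwd (nat_lit 2) Steps.nil)))))))))))))))))) (nat_lit 8) (nat_lit 15),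
  Rule.mk (nat_lit 1) (nat_lit 213) (Steps.bwd (nat_lit 3) (Steps.bwd (nat_lit 3) (Steps.bwd (nat_lit 1) (Steps.fwd (nat_lit 8192) (Steps.fwd (nat_lit 8192) (Steps.bwd (nat_lit 1) (Steps.bwd (nat_lit 3) (Steps.fwd (nat_lit 8192) (Steps.fwd (nat_lit 4096) (Steps.bwd (nat_lit 3) (Steps.bwd (nat_lit 3) (Steps.bwd (nat_lit 1) (Steps.fwd (nat_lit 8192) (Steps.fwd (nat_lit 8192) (Steps.fwd (nat_lit 4096) (Steps.bwd (nat_lit 3) (Steps.bwd (nat_lit 3) Steps.nil))))))))))))))))) (nat_lit 7) (nat_lit 0),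
  Rule.mk (nat_lit 2) (nat_lit 213) (Steps.bwd (nat_lit 2) (Steps.bwd (nat_lit 1) (Steps.fwd (nat_lit 12288) (Steps.fwd (nat_lit 12288) (Steps.fwd (nat_lit 4096) (Steps.bwd (nat_lit 2) (Steps.bwd (nat_lit 2) (Steps.bwd (nat_lit 1) (Steps.bwd (nat_lit 2) (Steps.bwd (nat_lit 2) (Steps.bwd (nat_lit 1) (Steps.fwd (nat_lit 12288) (Steps.fwd (nat_lit 12288) (Steps.fwd (nat_lit 4096) (Steps.fwd (nat_lit 12288) (Steps.fwd (nat_lit 12288) (Steps.fwd (nat_lit 4096) Steps.nil))))))))))))))))) (nat_lit 6) (nat_lit 2),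
  Rule.mk (nat_lit 3) (nat_lit 225) (Steps.bwd (nat_lit 1) (Steps.bwd (nat_lit 2) (Steps.bwd (nat_lit 1) (Steps.bwd (nat_lit 3) (Steps.bwd (nat_lit 1) (Steps.bwd (nat_lit 3) (Steps.bwd (nat_lit 3) (Steps.fwd (nat_lit 4096) (Steps.fwd (nat_lit 12288) (Steps.fwd (nat_lit 4096) (Steps.fwd (nat_lit 8192) (Steps.bwd (nat_lit 1) (Steps.fwd (nat_lit 12288) (Steps.fwd (nat_lit 4096) (Steps.bwd (nat_lit 2) (Steps.bwd (nat_lit 1) (Steps.bwd (nat_lit 3) (Steps.fwd (nat_lit 4096) Steps.nil)))))))))))))))))) (nat_lit 8) (nat_lit 12),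
  Rule.mk (nat_lit 1) (nat_lit 225) (Steps.bwd (nat_lit 3) (Steps.bwd (nat_lit 1) (Steps.bwd (nat_lit 3) (Steps.fwd (nat_lit 8192) (Steps.fwd (nat_lit 4096) (Steps.bwd (nat_lit 2) (Steps.bwd (nat_lit 1) (Steps.bwd (nat_lit 3) (Steps.bwd (nat_lit 1) (Steps.fwd (nat_lit 12288) (Steps.fwd (nat_lit 4096) (Steps.bwd (nat_lit 2) (Steps.bwd (nat_lit 1) (Steps.bwd (nat_lit 3) (Steps.fwd (nat_lit 4096) (Steps.fwd (nat_lit 8192) (Steps.fwd (nat_lit 4096) (Steps.fwd (nat_lit 12288) Steps.nil)))))))))))))))))) (nat_lit 8) (nat_lit 15),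
  Rule.mk (nat_lit 3) (nat_lit 225) (Steps.bwd (nat_lit 1) (Steps.fwd (nat_lit 8192) (Steps.bwd (nat_lit 3) (Steps.bwd (nat_lit 1) (Steps.bwd (nat_lit 2) (Steps.bwd (nat_lit 1) (Steps.bwd (nat_lit 3) (Steps.fwd (nat_lit 4096) (Steps.fwd (nat_lit 12288) (Steps.fwd (nat_lit 4096) (Steps.fwd (nat_lit 12288) (Steps.bwd (nat_lit 1) (Steps.bwd (nat_lit 3) (Steps.fwd (nat_lit 4096) (Steps.fwd (nat_lit 8192) (Steps.fwd (nat_lit 4096) (Steps.bwd (nat_lit 2) (Steps.fwd (nat_lit 4096) Steps.nil)))))))))))))))))) (nat_lit 8) (nat_lit 16),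
  Rule.mk (nat_lit 3) (nat_lit 249) (Steps.bwd (nat_lit 1) (Steps.bwd (nat_lit 3) (Steps.bwd (nat_lit 1) (Steps.fwd (nat_lit 12288) (Steps.fwd (nat_lit 4096) (Steps.fwd (nat_lit 12288) (Steps.fwd (nat_lit 12288) (Steps.bwd (nat_lit 1) (Steps.fwd (nat_lit 8192) (Steps.bwd (nat_lit 1) (Steps.fwd (nat_lit 12288) (Steps.fwd (nat_lit 4096) (Steps.fwd (nat_lit 8192) (Steps.bwd (nat_lit 3) (Steps.fwd (nat_lit 4096) (Steps.fwd (nat_lit 8192) (Steps.fwd (nat_lit 4096) (Steps.bwd (nat_lit 2) (Steps.fwd (nat_lit 4096) (Steps.bwd (nat_lit 3) Steps.nil)))))))))))))))))))) (nat_lit 10) (nat_lit 7),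
  Rule.mk (nat_lit 1) (nat_lit 225) (Steps.bwd (nat_lit 2) (Steps.bwd (nat_lit 1) (Steps.bwd (nat_lit 3) (Steps.fwd (nat_lit 4096) (Steps.bwd (nat_lit 3) (Steps.bwd (nat_lit 1) (Steps.bwd (nat_lit 2) (Steps.bwd (nat_lit 1) (Steps.bwd (nat_lit 3) (Steps.fwd (nat_lit 4096) (Steps.bwd (nat_lit 3) (Steps.bwd (nat_lit 3) (Steps.bwd (nat_lit 1) (Steps.fwd (nat_lit 12288) (Steps.fwd (nat_lit 4096) (Steps.fwd (nat_lit 8192) (Steps.fwd (nat_lit 4096) (Steps.fwd (nat_lit 12288) Steps.nil)))))))))))))))))) (nat_lit 8) (nat_lit 7),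
  Rule.mk (nat_lit 1) (nat_lit 213) (Steps.bwd (nat_lit 2) (Steps.bwd (nat_lit 2) (Steps.bwd (nat_lit 1) (Steps.fwd (nat_lit 12288) (Steps.bwd (nat_lit 2) (Steps.bwd (nat_lit 1) (Steps.fwd (nat_lit 12288) (Steps.fwd (nat_lit 12288) (Steps.bwd (nat_lit 1) (Steps.fwd (nat_lit 12288) (Steps.fwd (nat_lit 12288) (Steps.fwd (nat_lit 4096) (Steps.bwd (nat_lit 2) (Steps.bwd (nat_lit 2) (Steps.fwd (nat_lit 4096) (Steps.bwd (nat_lit 2) (Steps.bwd (nat_lit 2) Steps.nil))))))))))))))))) (nat_lit 6) (nat_lit 1),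
  Rule.mk (nat_lit 3) (nat_lit 225) (Steps.bwd (nat_lit 1) (Steps.bwd (nat_lit 2) (Steps.bwd (nat_lit 1) (Steps.bwd (nat_lit 3) (Steps.fwd (nat_lit 4096) (Steps.bwd (nat_lit 2) (Steps.bwd (nat_lit 1) (Steps.bwd (nat_lit 2) (Steps.bwd (nat_lit 1) (Steps.bwd (nat_lit 3) (Steps.fwd (nat_lit 4096) (Steps.fwd (nat_lit 8192) (Steps.bwd (nat_lit 1) (Steps.fwd (nat_lit 12288) (Steps.fwd (nat_lit 4096) (Steps.bwd (nat_lit 3) (Steps.fwd (nat_lit 4096) (Steps.fwd (nat_lit 8192) Steps.nil)))))))))))))))))) (nat_lit 8) (nat_lit 0),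
  Rule.mk (nat_lit 3) (nat_lit 225) (Steps.bwd (nat_lit 1) (Steps.fwd (nat_lit 12288) (Steps.bwd (nat_lit 1) (Steps.bwd (nat_lit 3) (Steps.fwd (nat_lit 4096) (Steps.fwd (nat_lit 8192) (Steps.fwd (nat_lit 8192) (Steps.bwd (nat_lit 1) (Steps.fwd (nat_lit 12288) (Steps.fwd (nat_lit 4096) (Steps.fwd (nat_lit 8192) (Steps.fwd (nat_lit 4096) (Steps.fwd (nat_lit 12288) (Steps.bwd (nat_lit 1) (Steps.fwd (nat_lit 12288) (Steps.fwd (nat_lit 4096) (Steps.bwd (nat_lit 3) (Steps.fwd (nat_lit 4096) Steps.nil)))))))))))))))))) (nat_lit 8) (nat_lit 12),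
  Rule.mk (nat_lit 1) (nat_lit 213) (Steps.bwd (nat_lit 3) (Steps.bwd (nat_lit 3) (Steps.bwd (nat_lit 1) (Steps.bwd (nat_lit 3) (Steps.bwd (nat_lit 3) (Steps.bwd (nat_lit 1) (Steps.bwd (nat_lit 3) (Steps.bwd (nat_lit 3) (Steps.bwd (nat_lit 1) (Steps.bwd (nat_lit 3) (Steps.bwd (nat_lit 3) (Steps.fwd (nat_lit 4096) (Steps.fwd (nat_lit 8192) (Steps.bwd (nat_lit 3) (Steps.fwd (nat_lit 4096) (Steps.fwd (nat_lit 8192) (Steps.fwd (nat_lit 8192) Steps.nil))))))))))))))))) (nat_lit 7) (nat_lit 0),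
  Rule.mk (nat_lit 1) (nat_lit 225) (Steps.bwd (nat_lit 2) (Steps.bwd (nat_lit 1) (Steps.bwd (nat_lit 3) (Steps.bwd (nat_lit 1) (Steps.bwd (nat_lit 3) (Steps.bwd (nat_lit 1) (Steps.fwd (nat_lit 12288) (Steps.fwd (nat_lit 4096) (Steps.fwd (nat_lit 8192) (Steps.fwd (nat_lit 4096) (Steps.fwd (nat_lit 8192) (Steps.fwd (nat_lit 8192) (Steps.bwd (nat_lit 1) (Steps.bwd (nat_lit 2) (Steps.bwd (nat_lit 1) (Steps.bwd (nat_lit 3) (Steps.fwd (nat_lit 4096) (Steps.bwd (nat_lit 2) Steps.nil)))))))))))))))))) (nat_lit 8) (nat_lit 7),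
  Rule.mk (nat_lit 1) (nat_lit 225) (Steps.bwd (nat_lit 2) (Steps.bwd (nat_lit 1) (Steps.bwd (nat_lit 3) (Steps.fwd (nat_lit 4096) (Steps.fwd (nat_lit 8192) (Steps.bwd (nat_lit 1) (Steps.bwd (nat_lit 2) (Steps.bwd (nat_lit 1) (Steps.bwd (nat_lit 3) (Steps.fwd (nat_lit 4096) (Steps.fwd (nat_lit 8192) (Steps.fwd (nat_lit 8192) (Steps.fwd (nat_lit 4096) (Steps.fwd (nat_lit 12288) (Steps.fwd (nat_lit 4096) (Steps.fwd (nat_lit 8192) (Steps.fwd (nat_lit 4096) (Steps.bwd (nat_lit 2) Steps.nil)))))))))))))))))) (nat_lit 8) (nat_lit 7),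
  Rule.mk (nat_lit 2) (nat_lit 225) (Steps.bwd (nat_lit 1) (Steps.bwd (nat_lit 3) (Steps.bwd (nat_lit 1) (Steps.bwd (nat_lit 3) (Steps.bwd (nat_lit 3) (Steps.bwd (nat_lit 1) (Steps.fwd (nat_lit 12288) (Steps.fwd (nat_lit 4096) (Steps.bwd (nat_lit 3) (Steps.bwd (nat_lit 1) (Steps.bwd (nat_lit 2) (Steps.bwd (nat_lit 1) (Steps.bwd (nat_lit 2) (Steps.bwd (nat_lit 1) (Steps.bwd (nat_lit 3) (Steps.fwd (nat_lit 4096) (Steps.bwd (nat_lit 3) (Steps.fwd (nat_lit 4096) Steps.nil)))))))))))))))))) (nat_lit 8) (nat_lit 14),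
  Rule.mk (nat_lit 1) (nat_lit 225) (Steps.bwd (nat_lit 2) (Steps.bwd (nat_lit 1) (Steps.fwd (nat_lit 8192) (Steps.bwd (nat_lit 1) (Steps.bwd (nat_lit 3) (Steps.bwd (nat_lit 1) (Steps.fwd (nat_lit 12288) (Steps.fwd (nat_lit 4096) (Steps.bwd (nat_lit 3) (Steps.fwd (nat_lit 4096) (Steps.fwd (nat_lit 8192) (Steps.fwd (nat_lit 8192) (Steps.bwd (nat_lit 1) (Steps.bwd (nat_lit 2) (Steps.bwd (nat_lit 1) (Steps.bwd (nat_lit 3) (Steps.fwd (nat_lit 4096) (Steps.bwd (nat_lit 2) Steps.nil)))))))))))))))))) (nat_lit 8) (nat_lit 7),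
  Rule.mk (nat_lit 2) (nat_lit 225) (Steps.bwd (nat_lit 1) (Steps.bwd (nat_lit 3) (Steps.bwd (nat_lit 1) (Steps.bwd (nat_lit 3) (Steps.fwd (nat_lit 8192) (Steps.bwd (nat_lit 1) (Steps.bwd (nat_lit 2) (Steps.fwd (nat_lit 4096) (Steps.bwd (nat_lit 3) (Steps.bwd (nat_lit 1) (Steps.bwd (nat_lit 2) (Steps.bwd (nat_lit 1) (Steps.fwd (nat_lit 12288) (Steps.fwd (nat_lit 4096) (Steps.bwd (nat_lit 3) (Steps.fwd (nat_lit 4096) (Steps.fwd (nat_lit 8192) (Steps.fwd (nat_lit 4096) Steps.nil)))))))))))))))))) (nat_lit 8) (nat_lit 14),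
  Rule.mk (nat_lit 3) (nat_lit 213) (Steps.bwd (nat_lit 3) (Steps.bwd (nat_lit 1) (Steps.bwd (nat_lit 3) (Steps.bwd (nat_lit 3) (Steps.bwd (nat_lit 1) (Steps.fwd (nat_lit 8192) (Steps.fwd (nat_lit 8192) (Steps.bwd (nat_lit 1) (Steps.fwd (nat_lit 8192) (Steps.fwd (nat_lit 8192) (Steps.fwd (nat_lit 4096) (Steps.bwd (nat_lit 3) (Steps.bwd (nat_lit 3) (Steps.fwd (nat_lit 4096) (Steps.fwd (nat_lit 8192) (Steps.bwd (nat_lit 3) (Steps.fwd (nat_lit 4096) Steps.nil))))))))))))))))) (nat_lit 7) (nat_lit 1),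
  Rule.mk (nat_lit 2) (nat_lit 225) (Steps.bwd (nat_lit 1) (Steps.bwd (nat_lit 3) (Steps.bwd (nat_lit 1) (Steps.fwd (nat_lit 8192) (Steps.bwd (nat_lit 3) (Steps.fwd (nat_lit 4096) (Steps.bwd (nat_lit 2) (Steps.bwd (nat_lit 1) (Steps.bwd (nat_lit 3) (Steps.fwd (nat_lit 4096) (Steps.fwd (nat_lit 12288) (Steps.bwd (nat_lit 1) (Steps.fwd (nat_lit 12288) (Steps.fwd (nat_lit 4096) (Steps.bwd (nat_lit 3) (Steps.bwd (nat_lit 1) (Steps.fwd (nat_lit 8192) (Steps.fwd (nat_lit 4096) Steps.nil)))))))))))))))))) (nat_lit 8) (nat_lit 14),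
  Rule.mk (nat_lit 1) (nat_lit 225) (Steps.bwd (nat_lit 2) (Steps.bwd (nat_lit 1) (Steps.fwd (nat_lit 8192) (Steps.bwd (nat_lit 1) (Steps.fwd (nat_lit 8192) (Steps.fwd (nat_lit 8192) (Steps.fwd (nat_lit 4096) (Steps.fwd (nat_lit 12288) (Steps.bwd (nat_lit 1) (Steps.fwd (nat_lit 8192) (Steps.bwd (nat_lit 1) (Steps.fwd (nat_lit 12288) (Steps.fwd (nat_lit 4096) (Steps.fwd (nat_lit 12288) (Steps.fwd (nat_lit 4096) (Steps.fwd (nat_lit 8192) (Steps.fwd (nat_lit 4096) (Steps.bwd (nat_lit 3) Steps.nil)))))))))))))))))) (nat_lit 8) (nat_lit 13),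
  Rule.mk (nat_lit 2) (nat_lit 225) (Steps.bwd (nat_lit 1) (Steps.fwd (nat_lit 8192) (Steps.bwd (nat_lit 1) (Steps.fwd (nat_lit 8192) (Steps.fwd (nat_lit 8192) (Steps.bwd (nat_lit 1) (Steps.fwd (nat_lit 12288) (Steps.fwd (nat_lit 4096) (Steps.bwd (nat_lit 3) (Steps.bwd (nat_lit 1) (Steps.bwd (nat_lit 2) (Steps.bwd (nat_lit 1) (Steps.fwd (nat_lit 12288) (Steps.fwd (nat_lit 4096) (Steps.bwd (nat_lit 3) (Steps.fwd (nat_lit 4096) (Steps.fwd (nat_lit 8192) (Steps.fwd (nat_lit 4096) Steps.nil)))))))))))))))))) (nat_lit 8) (nat_lit 14),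
  Rule.mk (nat_lit 2) (nat_lit 225) (Steps.bwd (nat_lit 1) (Steps.fwd (nat_lit 8192) (Steps.bwd (nat_lit 1) (Steps.fwd (nat_lit 8192) (Steps.fwd (nat_lit 8192) (Steps.fwd (nat_lit 4096) (Steps.fwd (nat_lit 12288) (Steps.fwd (nat_lit 4096) (Steps.fwd (nat_lit 8192) (Steps.bwd (nat_lit 1) (Steps.bwd (nat_lit 2) (Steps.fwd (nat_lit 4096) (Steps.bwd (nat_lit 2) (Steps.fwd (nat_lit 4096) (Steps.fwd (nat_lit 8192) (Steps.bwd (nat_lit 1) (Steps.bwd (nat_lit 3) (Steps.fwd (nat_lit 4096) Steps.nil)))))))))))))))))) (nat_lit 8) (nat_lit 14),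
  Rule.mk (nat_lit 1) (nat_lit 213) (Steps.bwd (nat_lit 2) (Steps.bwd (nat_lit 2) (Steps.bwd (nat_lit 1) (Steps.bwd (nat_lit 2) (Steps.bwd (nat_lit 2) (Steps.bwd (nat_lit 1) (Steps.bwd (nat_lit 2) (Steps.bwd (nat_lit 2) (Steps.fwd (nat_lit 4096) (Steps.fwd (nat_lit 12288) (Steps.fwd (nat_lit 12288) (Steps.bwd (nat_lit 1) (Steps.fwd (nat_lit 12288) (Steps.fwd (nat_lit 12288) (Steps.fwd (nat_lit 4096) (Steps.bwd (nat_lit 2) (Steps.bwd (nat_lit 2) Steps.nil))))))))))))))))) (nat_lit 6) (nat_lit 1),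
  Rule.mk (nat_lit 2) (nat_lit 225) (Steps.bwd (nat_lit 2) (Steps.bwd (nat_lit 1) (Steps.bwd (nat_lit 2) (Steps.bwd (nat_lit 1) (Steps.bwd (nat_lit 3) (Steps.fwd (nat_lit 4096) (Steps.bwd (nat_lit 2) (Steps.bwd (nat_lit 1) (Steps.bwd (nat_lit 2) (Steps.bwd (nat_lit 1) (Steps.fwd (nat_lit 8192) (Steps.fwd (nat_lit 4096) (Steps.bwd (nat_lit 3) (Steps.fwd (nat_lit 4096) (Steps.bwd (nat_lit 2) (Steps.fwd (nat_lit 4096) (Steps.fwd (nat_lit 8192) (Steps.fwd (nat_lit 4096) Steps.nil)))))))))))))))))) (nat_lit 9) (nat_lit 1),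
  Rule.mk (nat_lit 1) (nat_lit 225) (Steps.bwd (nat_lit 2) (Steps.fwd (nat_lit 4096) (Steps.fwd (nat_lit 8192) (Steps.bwd (nat_lit 1) (Steps.bwd (nat_lit 3) (Steps.bwd (nat_lit 3) (Steps.bwd (nat_lit 1) (Steps.bwd (nat_lit 2) (Steps.bwd (nat_lit 1) (Steps.bwd (nat_lit 3) (Steps.fwd (nat_lit 4096) (Steps.fwd (nat_lit 12288) (Steps.fwd (nat_lit 4096) (Steps.bwd (nat_lit 2) (Steps.fwd (nat_lit 4096) (Steps.fwd (nat_lit 8192) (Steps.fwd (nat_lit 4096) (Steps.fwd (nat_lit 8192) Steps.nil)))))))))))))))))) (nat_lit 8) (nat_lit 13),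
  Rule.mk (nat_lit 1) (nat_lit 213) (Steps.bwd (nat_lit 3) (Steps.bwd (nat_lit 3) (Steps.bwd (nat_lit 1) (Steps.fwd (nat_lit 8192) (Steps.bwd (nat_lit 3) (Steps.bwd (nat_lit 1) (Steps.bwd (nat_lit 3) (Steps.bwd (nat_lit 3) (Steps.fwd (nat_lit 4096) (Steps.fwd (nat_lit 8192) (Steps.fwd (nat_lit 8192) (Steps.fwd (nat_lit 4096) (Steps.fwd (nat_lit 8192) (Steps.fwd (nat_lit 8192) (Steps.bwd (nat_lit 1) (Steps.fwd (nat_lit 8192) (Steps.fwd (nat_lit 8192) Steps.nil))))))))))))))))) (nat_lit 7) (nat_lit 0),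
  Rule.mk (nat_lit 2) (nat_lit 225) (Steps.bwd (nat_lit 1) (Steps.bwd (nat_lit 2) (Steps.bwd (nat_lit 1) (Steps.bwd (nat_lit 3) (Steps.fwd (nat_lit 4096) (Steps.bwd (nat_lit 3) (Steps.bwd (nat_lit 1) (Steps.bwd (nat_lit 2) (Steps.bwd (nat_lit 1) (Steps.fwd (nat_lit 8192) (Steps.fwd (nat_lit 4096) (Steps.fwd (nat_lit 8192) (Steps.fwd (nat_lit 8192) (Steps.fwd (nat_lit 4096) (Steps.bwd (nat_lit 2) (Steps.bwd (nat_lit 1) (Steps.bwd (nat_lit 3) (Steps.fwd (nat_lit 4096) Steps.nil)))))))))))))))))) (nat_lit 8) (nat_lit 6),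
  Rule.mk (nat_lit 2) (nat_lit 249) (Steps.bwd (nat_lit 1) (Steps.bwd (nat_lit 3) (Steps.bwd (nat_lit 3) (Steps.bwd (nat_lit 1) (Steps.bwd (nat_lit 3) (Steps.bwd (nat_lit 1) (Steps.fwd (nat_lit 12288) (Steps.fwd (nat_lit 4096) (Steps.bwd (nat_lit 3) (Steps.bwd (nat_lit 3) (Steps.bwd (nat_lit 1) (Steps.bwd (nat_lit 3) (Steps.fwd (nat_lit 4096) (Steps.fwd (nat_lit 12288) (Steps.fwd (nat_lit 4096) (Steps.fwd (nat_lit 12288) (Steps.fwd (nat_lit 12288) (Steps.bwd (nat_lit 1) (Steps.bwd (nat_lit 3) (Steps.fwd (nat_lit 4096) Steps.nil)))))))))))))))))))) (nat_lit 10) (nat_lit 18),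
  Rule.mk (nat_lit 3) (nat_lit 225) (Steps.bwd (nat_lit 1) (Steps.fwd (nat_lit 12288) (Steps.fwd (nat_lit 4096) (Steps.fwd (nat_lit 8192) (Steps.bwd (nat_lit 1) (Steps.bwd (nat_lit 3) (Steps.bwd (nat_lit 3) (Steps.bwd (nat_lit 1) (Steps.fwd (nat_lit 12288) (Steps.bwd (nat_lit 1) (Steps.bwd (nat_lit 3) (Steps.fwd (nat_lit 4096) (Steps.fwd (nat_lit 12288) (Steps.bwd (nat_lit 1) (Steps.fwd (nat_lit 12288) (Steps.fwd (nat_lit 4096) (Steps.fwd (nat_lit 8192) (Steps.fwd (nat_lit 4096) Steps.nil)))))))))))))))))) (nat_lit 8) (nat_lit 12),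
  Rule.mk (nat_lit 1) (nat_lit 213) (Steps.bwd (nat_lit 3) (Steps.bwd (nat_lit 3) (Steps.bwd (nat_lit 1) (Steps.bwd (nat_lit 3) (Steps.fwd (nat_lit 8192) (Steps.fwd (nat_lit 4096) (Steps.bwd (nat_lit 3) (Steps.bwd (nat_lit 3) (Steps.bwd (nat_lit 1) (Steps.fwd (nat_lit 8192) (Steps.fwd (nat_lit 8192) (Steps.fwd (nat_lit 4096) (Steps.fwd (nat_lit 8192) (Steps.fwd (nat_lit 8192) (Steps.fwd (nat_lit 4096) (Steps.fwd (nat_lit 8192) (Steps.fwd (nat_lit 8192) Steps.nil))))))))))))))))) (nat_lit 7) (nat_lit 0),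
  Rule.mk (nat_lit 3) (nat_lit 225) (Steps.bwd (nat_lit 1) (Steps.bwd (nat_lit 3) (Steps.bwd (nat_lit 1) (Steps.fwd (nat_lit 12288) (Steps.fwd (nat_lit 4096) (Steps.bwd (nat_lit 3) (Steps.bwd (nat_lit 1) (Steps.bwd (nat_lit 3) (Steps.bwd (nat_lit 3) (Steps.fwd (nat_lit 4096) (Steps.fwd (nat_lit 12288) (Steps.bwd (nat_lit 1) (Steps.fwd (nat_lit 8192) (Steps.fwd (nat_lit 4096) (Steps.fwd (nat_lit 12288) (Steps.fwd (nat_lit 4096) (Steps.fwd (nat_lit 12288) (Steps.fwd (nat_lit 4096) Steps.nil)))))))))))))))))) (nat_lit 8) (nat_lit 10),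
  Rule.mk (nat_lit 3) (nat_lit 213) (Steps.bwd (nat_lit 1) (Steps.bwd (nat_lit 3) (Steps.bwd (nat_lit 3) (Steps.bwd (nat_lit 1) (Steps.fwd (nat_lit 8192) (Steps.bwd (nat_lit 3) (Steps.bwd (nat_lit 1) (Steps.bwd (nat_lit 3) (Steps.bwd (nat_lit 3) (Steps.fwd (nat_lit 4096) (Steps.fwd (nat_lit 8192) (Steps.bwd (nat_lit 3) (Steps.fwd (nat_lit 4096) (Steps.bwd (nat_lit 3) (Steps.bwd (nat_lit 3) (Steps.fwd (nat_lit 4096) (Steps.bwd (nat_lit 3) Steps.nil))))))))))))))))) (nat_lit 7) (nat_lit 2),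
  Rule.mk (nat_lit 3) (nat_lit 225) (Steps.bwd (nat_lit 1) (Steps.bwd (nat_lit 2) (Steps.bwd (nat_lit 1) (Steps.bwd (nat_lit 3) (Steps.bwd (nat_lit 1) (Steps.bwd (nat_lit 3) (Steps.bwd (nat_lit 3) (Steps.bwd (nat_lit 1) (Steps.fwd (nat_lit 12288) (Steps.fwd (nat_lit 4096) (Steps.fwd (nat_lit 8192) (Steps.fwd (nat_lit 4096) (Steps.fwd (nat_lit 12288) (Steps.fwd (nat_lit 4096) (Steps.fwd (nat_lit 12288) (Steps.fwd (nat_lit 4096) (Steps.bwd (nat_lit 3) (Steps.fwd (nat_lit 4096) Steps.nil)))))))))))))))))) (nat_lit 8) (nat_lit 12),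
  Rule.mk (nat_lit 3) (nat_lit 225) (Steps.bwd (nat_lit 1) (Steps.bwd (nat_lit 2) (Steps.bwd (nat_lit 1) (Steps.bwd (nat_lit 3) (Steps.fwd (nat_lit 4096) (Steps.fwd (nat_lit 8192) (Steps.bwd (nat_lit 3) (Steps.bwd (nat_lit 1) (Steps.bwd (nat_lit 2) (Steps.bwd (nat_lit 1) (Steps.bwd (nat_lit 3) (Steps.bwd (nat_lit 1) (Steps.fwd (nat_lit 12288) (Steps.fwd (nat_lit 4096) (Steps.fwd (nat_lit 12288) (Steps.fwd (nat_lit 4096) (Steps.fwd (nat_lit 8192) (Steps.fwd (nat_lit 4096) Steps.nil)))))))))))))))))) (nat_lit 8) (nat_lit 12)]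
noncomputable def R_5 : List (Rule) := [Rule.mk (nat_lit 2) (nat_lit 225) (Steps.bwd (nat_lit 1) (Steps.bwd (nat_lit 3) (Steps.bwd (nat_lit 1) (Steps.bwd (nat_lit 3) (Steps.fwd (nat_lit 8192) (Steps.fwd (nat_lit 4096) (Steps.fwd (nat_lit 12288) (Steps.bwd (nat_lit 1) (Steps.fwd (nat_lit 8192) (Steps.fwd (nat_lit 4096) (Steps.bwd (nat_lit 2) (Steps.bwd (nat_lit 1) (Steps.fwd (nat_lit 12288) (Steps.fwd (nat_lit 4096) (Steps.fwd (nat_lit 8192) (Steps.fwd (nat_lit 4096) (Steps.fwd (nat_lit 8192) (Steps.fwd (nat_lit 4096) Steps.nil)))))))))))))))))) (nat_lit 8) (nat_lit 14),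
  Rule.mk (nat_lit 2) (nat_lit 225) (Steps.bwd (nat_lit 1) (Steps.bwd (nat_lit 3) (Steps.bwd (nat_lit 1) (Steps.bwd (nat_lit 3) (Steps.bwd (nat_lit 3) (Steps.bwd (nat_lit 1) (Steps.fwd (nat_lit 12288) (Steps.bwd (nat_lit 1) (Steps.bwd (nat_lit 3) (Steps.fwd (nat_lit 4096) (Steps.fwd (nat_lit 12288) (Steps.fwd (nat_lit 4096) (Steps.fwd (nat_lit 12288) (Steps.fwd (nat_lit 4096) (Steps.fwd (nat_lit 8192) (Steps.bwd (nat_lit 1) (Steps.fwd (nat_lit 8192) (Steps.fwd (nat_lit 4096) Steps.nil)))))))))))))))))) (nat_lit 8) (nat_lit 14),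
  Rule.mk (nat_lit 2) (nat_lit 213) (Steps.bwd (nat_lit 1) (Steps.bwd (nat_lit 2) (Steps.bwd (nat_lit 2) (Steps.bwd (nat_lit 1) (Steps.bwd (nat_lit 2) (Steps.fwd (nat_lit 12288) (Steps.fwd (nat_lit 4096) (Steps.fwd (nat_lit 12288) (Steps.bwd (nat_lit 2) (Steps.bwd (nat_lit 1) (Steps.fwd (nat_lit 12288) (Steps.fwd (nat_lit 12288) (Steps.fwd (nat_lit 4096) (Steps.bwd (nat_lit 2) (Steps.bwd (nat_lit 2) (Steps.fwd (nat_lit 4096) (Steps.bwd (nat_lit 2) Steps.nil))))))))))))))))) (nat_lit 6) (nat_lit 0),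
  Rule.mk (nat_lit 2) (nat_lit 261) (Steps.bwd (nat_lit 1) (Steps.fwd (nat_lit 12288) (Steps.fwd (nat_lit 4096) (Steps.fwd (nat_lit 12288) (Steps.bwd (nat_lit 1) (Steps.bwd (nat_lit 2) (Steps.bwd (nat_lit 1) (Steps.bwd (nat_lit 2) (Steps.bwd (nat_lit 1) (Steps.fwd (nat_lit 12288) (Steps.fwd (nat_lit 4096) (Steps.fwd (nat_lit 12288) (Steps.fwd (nat_lit 4096) (Steps.fwd (nat_lit 12288) (Steps.bwd (nat_lit 1) (Steps.fwd (nat_lit 12288) (Steps.fwd (nat_lit 4096) (Steps.fwd (nat_lit 12288) (Steps.fwd (nat_lit 4096) (Steps.bwd (nat_lit 2) (Steps.fwd (nat_lit 4096) Steps.nil))))))))))))))))))))) (nat_lit 4) (nat_lit 0),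
  Rule.mk (nat_lit 2) (nat_lit 213) (Steps.bwd (nat_lit 1) (Steps.bwd (nat_lit 2) (Steps.bwd (nat_lit 2) (Steps.fwd (nat_lit 4096) (Steps.fwd (nat_lit 12288) (Steps.bwd (nat_lit 2) (Steps.bwd (nat_lit 1) (Steps.fwd (nat_lit 12288) (Steps.fwd (nat_lit 12288) (Steps.fwd (nat_lit 4096) (Steps.bwd (nat_lit 2) (Steps.bwd (nat_lit 2) (Steps.bwd (nat_lit 1) (Steps.bwd (nat_lit 2) (Steps.bwd (nat_lit 2) (Steps.fwd (nat_lit 4096) (Steps.bwd (nat_lit 2) Steps.nil))))))))))))))))) (nat_lit 6) (nat_lit 0),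
  Rule.mk (nat_lit 2) (nat_lit 261) (Steps.bwd (nat_lit 1) (Steps.bwd (nat_lit 2) (Steps.bwd (nat_lit 1) (Steps.bwd (nat_lit 2) (Steps.bwd (nat_lit 1) (Steps.fwd (nat_lit 12288) (Steps.bwd (nat_lit 1) (Steps.bwd (nat_lit 2) (Steps.bwd (nat_lit 1) (Steps.bwd (nat_lit 2) (Steps.bwd (nat_lit 1) (Steps.fwd (nat_lit 12288) (Steps.fwd (nat_lit 4096) (Steps.fwd (nat_lit 12288) (Steps.fwd (nat_lit 4096) (Steps.fwd (nat_lit 12288) (Steps.fwd (nat_lit 4096) (Steps.fwd (nat_lit 12288) (Steps.fwd (nat_lit 4096) (Steps.bwd (nat_lit 2) (Steps.fwd (nat_lit 4096) Steps.nil))))))))))))))))))))) (nat_lit 4) (nat_lit 0),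
  Rule.mk (nat_lit 3) (nat_lit 225) (Steps.bwd (nat_lit 1) (Steps.fwd (nat_lit 8192) (Steps.fwd (nat_lit 8192) (Steps.bwd (nat_lit 1) (Steps.fwd (nat_lit 12288) (Steps.fwd (nat_lit 4096) (Steps.fwd (nat_lit 8192) (Steps.bwd (nat_lit 1) (Steps.fwd (nat_lit 12288) (Steps.fwd (nat_lit 4096) (Steps.bwd (nat_lit 2) (Steps.fwd (nat_lit 4096) (Steps.fwd (nat_lit 8192) (Steps.bwd (nat_lit 1) (Steps.bwd (nat_lit 3) (Steps.fwd (nat_lit 4096) (Steps.fwd (nat_lit 12288) (Steps.fwd (nat_lit 4096) Steps.nil)))))))))))))))))) (nat_lit 8) (nat_lit 16),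
  Rule.mk (nat_lit 3) (nat_lit 213) (Steps.bwd (nat_lit 1) (Steps.bwd (nat_lit 3) (Steps.bwd (nat_lit 3) (Steps.bwd (nat_lit 1) (Steps.bwd (nat_lit 3) (Steps.bwd (nat_lit 3) (Steps.bwd (nat_lit 1) (Steps.bwd (nat_lit 3) (Steps.fwd (nat_lit 8192) (Steps.fwd (nat_lit 4096) (Steps.fwd (nat_lit 8192) (Steps.fwd (nat_lit 8192) (Steps.fwd (nat_lit 4096) (Steps.bwd (nat_lit 3) (Steps.bwd (nat_lit 3) (Steps.fwd (nat_lit 4096) (Steps.bwd (nat_lit 3) Steps.nil))))))))))))))))) (nat_lit 7) (nat_lit 2),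
  Rule.mk (nat_lit 2) (nat_lit 213) (Steps.bwd (nat_lit 1) (Steps.fwd (nat_lit 12288) (Steps.bwd (nat_lit 2) (Steps.bwd (nat_lit 1) (Steps.fwd (nat_lit 12288) (Steps.fwd (nat_lit 12288) (Steps.bwd (nat_lit 1) (Steps.bwd (nat_lit 2) (Steps.fwd (nat_lit 12288) (Steps.fwd (nat_lit 4096) (Steps.fwd (nat_lit 12288) (Steps.fwd (nat_lit 12288) (Steps.fwd (nat_lit 4096) (Steps.bwd (nat_lit 2) (Steps.bwd (nat_lit 2) (Steps.fwd (nat_lit 4096) (Steps.fwd (nat_lit 12288) Steps.nil))))))))))))))))) (nat_lit 6) (nat_lit 0),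
  Rule.mk (nat_lit 3) (nat_lit 213) (Steps.bwd (nat_lit 1) (Steps.bwd (nat_lit 3) (Steps.bwd (nat_lit 3) (Steps.bwd (nat_lit 1) (Steps.bwd (nat_lit 3) (Steps.bwd (nat_lit 3) (Steps.bwd (nat_lit 1) (Steps.bwd (nat_lit 3) (Steps.bwd (nat_lit 3) (Steps.fwd (nat_lit 4096) (Steps.fwd (nat_lit 8192) (Steps.bwd (nat_lit 3) (Steps.fwd (nat_lit 4096) (Steps.fwd (nat_lit 8192) (Steps.fwd (nat_lit 8192) (Steps.fwd (nat_lit 4096) (Steps.bwd (nat_lit 3) Steps.nil))))))))))))))))) (nat_lit 7) (nat_lit 2),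
  Rule.mk (nat_lit 2) (nat_lit 225) (Steps.bwd (nat_lit 1) (Steps.bwd (nat_lit 3) (Steps.bwd (nat_lit 1) (Steps.bwd (nat_lit 3) (Steps.bwd (nat_lit 1) (Steps.bwd (nat_lit 2) (Steps.bwd (nat_lit 1) (Steps.bwd (nat_lit 3) (Steps.fwd (nat_lit 4096) (Steps.fwd (nat_lit 8192) (Steps.fwd (nat_lit 8192) (Steps.fwd (nat_lit 4096) (Steps.fwd (nat_lit 12288) (Steps.fwd (nat_lit 4096) (Steps.bwd (nat_lit 3) (Steps.bwd (nat_lit 1) (Steps.fwd (nat_lit 12288) (Steps.fwd (nat_lit 4096) Steps.nil)))))))))))))))))) (nat_lit 8) (nat_lit 8),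
  Rule.mk (nat_lit 1) (nat_lit 225) (Steps.bwd (nat_lit 2) (Steps.bwd (nat_lit 2) (Steps.bwd (nat_lit 1) (Steps.bwd (nat_lit 2) (Steps.bwd (nat_lit 1) (Steps.bwd (nat_lit 3) (Steps.bwd (nat_lit 1) (Steps.bwd (nat_lit 2) (Steps.bwd (nat_lit 1) (Steps.fwd (nat_lit 12288) (Steps.fwd (nat_lit 4096) (Steps.fwd (nat_lit 8192) (Steps.fwd (nat_lit 4096) (Steps.bwd (nat_lit 3) (Steps.bwd (nat_lit 1) (Steps.fwd (nat_lit 12288) (Steps.fwd (nat_lit 4096) (Steps.fwd (nat_lit 8192) Steps.nil)))))))))))))))))) (nat_lit 9) (nat_lit 0),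
  Rule.mk (nat_lit 1) (nat_lit 213) (Steps.bwd (nat_lit 2) (Steps.bwd (nat_lit 2) (Steps.bwd (nat_lit 1) (Steps.fwd (nat_lit 12288) (Steps.bwd (nat_lit 2) (Steps.bwd (nat_lit 1) (Steps.fwd (nat_lit 12288) (Steps.fwd (nat_lit 12288) (Steps.fwd (nat_lit 4096) (Steps.bwd (nat_lit 2) (Steps.fwd (nat_lit 12288) (Steps.fwd (nat_lit 4096) (Steps.fwd (nat_lit 12288) (Steps.fwd (nat_lit 12288) (Steps.fwd (nat_lit 4096) (Steps.bwd (nat_lit 2) (Steps.bwd (nat_lit 2) Steps.nil))))))))))))))))) (nat_lit 6) (nat_lit 1),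
  Rule.mk (nat_lit 3) (nat_lit 225) (Steps.bwd (nat_lit 1) (Steps.bwd (nat_lit 3) (Steps.bwd (nat_lit 3) (Steps.bwd (nat_lit 1) (Steps.bwd (nat_lit 2) (Steps.bwd (nat_lit 1) (Steps.bwd (nat_lit 3) (Steps.bwd (nat_lit 1) (Steps.bwd (nat_lit 2) (Steps.bwd (nat_lit 1) (Steps.fwd (nat_lit 12288) (Steps.fwd (nat_lit 4096) (Steps.fwd (nat_lit 8192) (Steps.fwd (nat_lit 4096) (Steps.fwd (nat_lit 8192) (Steps.fwd (nat_lit 4096) (Steps.fwd (nat_lit 12288) (Steps.fwd (nat_lit 4096) Steps.nil)))))))))))))))))) (nat_lit 8) (nat_lit 16),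
  Rule.mk (nat_lit 1) (nat_lit 213) (Steps.bwd (nat_lit 3) (Steps.bwd (nat_lit 3) (Steps.bwd (nat_lit 1) (Steps.bwd (nat_lit 3) (Steps.bwd (nat_lit 3) (Steps.bwd (nat_lit 1) (Steps.fwd (nat_lit 8192) (Steps.fwd (nat_lit 8192) (Steps.bwd (nat_lit 1) (Steps.bwd (nat_lit 3) (Steps.bwd (nat_lit 3) (Steps.bwd (nat_lit 1) (Steps.bwd (nat_lit 3) (Steps.bwd (nat_lit 3) (Steps.bwd (nat_lit 1) (Steps.bwd (nat_lit 3) (Steps.bwd (nat_lit 3) Steps.nil))))))))))))))))) (nat_lit 7) (nat_lit 0),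
  Rule.mk (nat_lit 1) (nat_lit 249) (Steps.bwd (nat_lit 3) (Steps.bwd (nat_lit 1) (Steps.fwd (nat_lit 12288) (Steps.bwd (nat_lit 1) (Steps.bwd (nat_lit 3) (Steps.bwd (nat_lit 3) (Steps.bwd (nat_lit 1) (Steps.bwd (nat_lit 3) (Steps.bwd (nat_lit 1) (Steps.fwd (nat_lit 12288) (Steps.fwd (nat_lit 4096) (Steps.fwd (nat_lit 8192) (Steps.bwd (nat_lit 3) (Steps.fwd (nat_lit 4096) (Steps.bwd (nat_lit 3) (Steps.fwd (nat_lit 4096) (Steps.fwd (nat_lit 12288) (Steps.fwd (nat_lit 4096) (Steps.fwd (nat_lit 12288) (Steps.fwd (nat_lit 12288) Steps.nil)))))))))))))))))))) (nat_lit 10) (nat_lit 15),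
  Rule.mk (nat_lit 1) (nat_lit 213) (Steps.bwd (nat_lit 3) (Steps.bwd (nat_lit 3) (Steps.bwd (nat_lit 1) (Steps.bwd (nat_lit 3) (Steps.bwd (nat_lit 3) (Steps.bwd (nat_lit 1) (Steps.bwd (nat_lit 3) (Steps.fwd (nat_lit 8192) (Steps.fwd (nat_lit 4096) (Steps.bwd (nat_lit 3) (Steps.bwd (nat_lit 3) (Steps.bwd (nat_lit 1) (Steps.bwd (nat_lit 3) (Steps.fwd (nat_lit 8192) (Steps.fwd (nat_lit 4096) (Steps.fwd (nat_lit 8192) (Steps.bwd (nat_lit 3) Steps.nil))))))))))))))))) (nat_lit 7) (nat_lit 0),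
  Rule.mk (nat_lit 2) (nat_lit 225) (Steps.bwd (nat_lit 1) (Steps.bwd (nat_lit 3) (Steps.fwd (nat_lit 4096) (Steps.fwd (nat_lit 8192) (Steps.bwd (nat_lit 3) (Steps.bwd (nat_lit 1) (Steps.bwd (nat_lit 2) (Steps.bwd (nat_lit 1) (Steps.bwd (nat_lit 3) (Steps.bwd (nat_lit 1) (Steps.bwd (nat_lit 2) (Steps.bwd (nat_lit 1) (Steps.fwd (nat_lit 12288) (Steps.fwd (nat_lit 4096) (Steps.fwd (nat_lit 8192) (Steps.fwd (nat_lit 4096) (Steps.fwd (nat_lit 8192) (Steps.fwd (nat_lit 4096) Steps.nil)))))))))))))))))) (nat_lit 8) (nat_lit 14),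
  Rule.mk (nat_lit 2) (nat_lit 225) (Steps.bwd (nat_lit 1) (Steps.bwd (nat_lit 3) (Steps.bwd (nat_lit 1) (Steps.bwd (nat_lit 3) (Steps.bwd (nat_lit 1) (Steps.fwd (nat_lit 12288) (Steps.fwd (nat_lit 4096) (Steps.fwd (nat_lit 8192) (Steps.fwd (nat_lit 4096) (Steps.bwd (nat_lit 3) (Steps.bwd (nat_lit 3) (Steps.bwd (nat_lit 1) (Steps.fwd (nat_lit 12288) (Steps.fwd (nat_lit 4096) (Steps.bwd (nat_lit 3) (Steps.bwd (nat_lit 1) (Steps.fwd (nat_lit 12288) (Steps.fwd (nat_lit 4096) Steps.nil)))))))))))))))))) (nat_lit 8) (nat_lit 8),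
  Rule.mk (nat_lit 1) (nat_lit 225) (Steps.bwd (nat_lit 3) (Steps.bwd (nat_lit 1) (Steps.fwd (nat_lit 8192) (Steps.fwd (nat_lit 8192) (Steps.bwd (nat_lit 1) (Steps.bwd (nat_lit 2) (Steps.bwd (nat_lit 1) (Steps.bwd (nat_lit 3) (Steps.bwd (nat_lit 1) (Steps.bwd (nat_lit 2) (Steps.fwd (nat_lit 4096) (Steps.fwd (nat_lit 12288) (Steps.fwd (nat_lit 4096) (Steps.fwd (nat_lit 8192) (Steps.fwd (nat_lit 4096) (Steps.bwd (nat_lit 3) (Steps.fwd (nat_lit 4096) (Steps.bwd (nat_lit 2) Steps.nil)))))))))))))))))) (nat_lit 8) (nat_lit 15),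
  Rule.mk (nat_lit 2) (nat_lit 225) (Steps.bwd (nat_lit 1) (Steps.fwd (nat_lit 8192) (Steps.bwd (nat_lit 1) (Steps.bwd (nat_lit 3) (Steps.bwd (nat_lit 1) (Steps.bwd (nat_lit 2) (Steps.bwd (nat_lit 1) (Steps.bwd (nat_lit 3) (Steps.fwd (nat_lit 4096) (Steps.bwd (nat_lit 3) (Steps.bwd (nat_lit 3) (Steps.bwd (nat_lit 1) (Steps.fwd (nat_lit 12288) (Steps.fwd (nat_lit 4096) (Steps.fwd (nat_lit 8192) (Steps.fwd (nat_lit 4096) (Steps.fwd (nat_lit 12288) (Steps.fwd (nat_lit 4096) Steps.nil)))))))))))))))))) (nat_lit 8) (nat_lit 8),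
  Rule.mk (nat_lit 2) (nat_lit 213) (Steps.bwd (nat_lit 1) (Steps.bwd (nat_lit 2) (Steps.bwd (nat_lit 2) (Steps.bwd (nat_lit 1) (Steps.bwd (nat_lit 2) (Steps.bwd (nat_lit 2) (Steps.bwd (nat_lit 1) (Steps.bwd (nat_lit 2) (Steps.bwd (nat_lit 2) (Steps.bwd (nat_lit 1) (Steps.bwd (nat_lit 2) (Steps.fwd (nat_lit 12288) (Steps.fwd (nat_lit 4096) (Steps.fwd (nat_lit 12288) (Steps.fwd (nat_lit 12288) (Steps.fwd (nat_lit 4096) (Steps.bwd (nat_lit 2) Steps.nil))))))))))))))))) (nat_lit 6) (nat_lit 0),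
  Rule.mk (nat_lit 3) (nat_lit 213) (Steps.bwd (nat_lit 3) (Steps.bwd (nat_lit 1) (Steps.fwd (nat_lit 8192) (Steps.fwd (nat_lit 8192) (Steps.bwd (nat_lit 1) (Steps.bwd (nat_lit 3) (Steps.fwd (nat_lit 8192) (Steps.fwd (nat_lit 4096) (Steps.fwd (nat_lit 8192) (Steps.fwd (nat_lit 8192) (Steps.bwd (nat_lit 1) (Steps.bwd (nat_lit 3) (Steps.fwd (nat_lit 8192) (Steps.fwd (nat_lit 4096) (Steps.bwd (nat_lit 3) (Steps.bwd (nat_lit 3) (Steps.fwd (nat_lit 4096) Steps.nil))))))))))))))))) (nat_lit 7) (nat_lit 1),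
  Rule.mk (nat_lit 1) (nat_lit 225) (Steps.bwd (nat_lit 3) (Steps.bwd (nat_lit 1) (Steps.fwd (nat_lit 8192) (Steps.fwd (nat_lit 8192) (Steps.bwd (nat_lit 1) (Steps.bwd (nat_lit 2) (Steps.fwd (nat_lit 4096) (Steps.fwd (nat_lit 8192) (Steps.bwd (nat_lit 1) (Steps.fwd (nat_lit 12288) (Steps.fwd (nat_lit 4096) (Steps.bwd (nat_lit 2) (Steps.bwd (nat_lit 1) (Steps.bwd (nat_lit 3) (Steps.fwd (nat_lit 4096) (Steps.bwd (nat_lit 3) (Steps.fwd (nat_lit 4096) (Steps.fwd (nat_lit 12288) Steps.nil)))))))))))))))))) (nat_lit 8) (nat_lit 15),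
  Rule.mk (nat_lit 3) (nat_lit 225) (Steps.bwd (nat_lit 1) (Steps.bwd (nat_lit 3) (Steps.bwd (nat_lit 3) (Steps.bwd (nat_lit 1) (Steps.bwd (nat_lit 2) (Steps.bwd (nat_lit 1) (Steps.bwd (nat_lit 3) (Steps.fwd (nat_lit 4096) (Steps.fwd (nat_lit 12288) (Steps.bwd (nat_lit 1) (Steps.fwd (nat_lit 12288) (Steps.fwd (nat_lit 4096) (Steps.fwd (nat_lit 8192) (Steps.fwd (nat_lit 4096) (Steps.bwd (nat_lit 3) (Steps.bwd (nat_lit 1) (Steps.bwd (nat_lit 2) (Steps.fwd (nat_lit 4096) Steps.nil)))))))))))))))))) (nat_lit 8) (nat_lit 16),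
  Rule.mk (nat_lit 3) (nat_lit 213) (Steps.bwd (nat_lit 1) (Steps.fwd (nat_lit 8192) (Steps.fwd (nat_lit 8192) (Steps.fwd (nat_lit 4096) (Steps.bwd (nat_lit 3) (Steps.bwd (nat_lit 3) (Steps.fwd (nat_lit 4096) (Steps.bwd (nat_lit 3) (Steps.bwd (nat_lit 3) (Steps.bwd (nat_lit 1) (Steps.bwd (nat_lit 3) (Steps.bwd (nat_lit 3) (Steps.fwd (nat_lit 4096) (Steps.fwd (nat_lit 8192) (Steps.fwd (nat_lit 8192) (Steps.fwd (nat_lit 4096) (Steps.bwd (nat_lit 3) Steps.nil))))))))))))))))) (nat_lit 7) (nat_lit 2),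
  Rule.mk (nat_lit 3) (nat_lit 213) (Steps.bwd (nat_lit 3) (Steps.bwd (nat_lit 1) (Steps.bwd (nat_lit 3) (Steps.fwd (nat_lit 8192) (Steps.fwd (nat_lit 4096) (Steps.fwd (nat_lit 8192) (Steps.fwd (nat_lit 8192) (Steps.fwd (nat_lit 4096) (Steps.fwd (nat_lit 8192) (Steps.fwd (nat_lit 8192) (Steps.bwd (nat_lit 1) (Steps.bwd (nat_lit 3) (Steps.fwd (nat_lit 8192) (Steps.fwd (nat_lit 4096) (Steps.fwd (nat_lit 8192) (Steps.fwd (nat_lit 8192) (Steps.fwd (nat_lit 4096) Steps.nil))))))))))))))))) (nat_lit 7) (nat_lit 1),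
  Rule.mk (nat_lit 1) (nat_lit 225) (Steps.bwd (nat_lit 2) (Steps.bwd (nat_lit 1) (Steps.bwd (nat_lit 3) (Steps.bwd (nat_lit 1) (Steps.bwd (nat_lit 3) (Steps.fwd (nat_lit 8192) (Steps.fwd (nat_lit 4096) (Steps.fwd (nat_lit 12288) (Steps.fwd (nat_lit 4096) (Steps.bwd (nat_lit 3) (Steps.bwd (nat_lit 1) (Steps.fwd (nat_lit 12288) (Steps.fwd (nat_lit 4096) (Steps.bwd (nat_lit 2) (Steps.fwd (nat_lit 4096) (Steps.bwd (nat_lit 3) (Steps.bwd (nat_lit 1) (Steps.fwd (nat_lit 8192) Steps.nil)))))))))))))))))) (nat_lit 8) (nat_lit 13),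
  Rule.mk (nat_lit 1) (nat_lit 225) (Steps.bwd (nat_lit 2) (Steps.fwd (nat_lit 4096) (Steps.fwd (nat_lit 8192) (Steps.bwd (nat_lit 1) (Steps.bwd (nat_lit 3) (Steps.bwd (nat_lit 3) (Steps.fwd (nat_lit 4096) (Steps.bwd (nat_lit 2) (Steps.bwd (nat_lit 1) (Steps.bwd (nat_lit 3) (Steps.bwd (nat_lit 1) (Steps.fwd (nat_lit 12288) (Steps.bwd (nat_lit 1) (Steps.bwd (nat_lit 2) (Steps.fwd (nat_lit 4096) (Steps.bwd (nat_lit 3) (Steps.fwd (nat_lit 4096) (Steps.bwd (nat_lit 3) Steps.nil)))))))))))))))))) (nat_lit 8) (nat_lit 13),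
  Rule.mk (nat_lit 2) (nat_lit 261) (Steps.bwd (nat_lit 1) (Steps.bwd (nat_lit 2) (Steps.bwd (nat_lit 1) (Steps.bwd (nat_lit 2) (Steps.bwd (nat_lit 1) (Steps.bwd (nat_lit 2) (Steps.bwd (nat_lit 1) (Steps.bwd (nat_lit 2) (Steps.bwd (nat_lit 1) (Steps.fwd (nat_lit 12288) (Steps.fwd (nat_lit 4096) (Steps.bwd (nat_lit 2) (Steps.fwd (nat_lit 4096) (Steps.bwd (nat_lit 2) (Steps.bwd (nat_lit 1) (Steps.fwd (nat_lit 12288) (Steps.fwd (nat_lit 4096) (Steps.fwd (nat_lit 12288) (Steps.fwd (nat_lit 4096) (Steps.fwd (nat_lit 12288) (Steps.fwd (nat_lit 4096) Steps.nil))))))))))))))))))))) (nat_lit 4) (nat_lit 0),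
  Rule.mk (nat_lit 2) (nat_lit 213) (Steps.bwd (nat_lit 1) (Steps.fwd (nat_lit 12288) (Steps.bwd (nat_lit 2) (Steps.bwd (nat_lit 1) (Steps.fwd (nat_lit 12288) (Steps.fwd (nat_lit 12288) (Steps.bwd (nat_lit 1) (Steps.fwd (nat_lit 12288) (Steps.fwd (nat_lit 12288) (Steps.fwd (nat_lit 4096) (Steps.fwd (nat_lit 12288) (Steps.fwd (nat_lit 12288) (Steps.bwd (nat_lit 1) (Steps.bwd (nat_lit 2) (Steps.fwd (nat_lit 12288) (Steps.fwd (nat_lit 4096) (Steps.bwd (nat_lit 2) Steps.nil))))))))))))))))) (nat_lit 6) (nat_lit 0),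
  Rule.mk (nat_lit 3) (nat_lit 225) (Steps.bwd (nat_lit 1) (Steps.fwd (nat_lit 8192) (Steps.bwd (nat_lit 3) (Steps.bwd (nat_lit 1) (Steps.bwd (nat_lit 2) (Steps.bwd (nat_lit 1) (Steps.bwd (nat_lit 3) (Steps.fwd (nat_lit 4096) (Steps.bwd (nat_lit 2) (Steps.bwd (nat_lit 1) (Steps.bwd (nat_lit 2) (Steps.fwd (nat_lit 4096) (Steps.fwd (nat_lit 8192) (Steps.fwd (nat_lit 4096) (Steps.fwd (nat_lit 8192) (Steps.bwd (nat_lit 1) (Steps.fwd (nat_lit 12288) (Steps.fwd (nat_lit 4096) Steps.nil)))))))))))))))))) (nat_lit 8) (nat_lit 16),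
  Rule.mk (nat_lit 3) (nat_lit 213) (Steps.bwd (nat_lit 1) (Steps.fwd (nat_lit 8192) (Steps.fwd (nat_lit 8192) (Steps.fwd (nat_lit 4096) (Steps.bwd (nat_lit 3) (Steps.bwd (nat_lit 3) (Steps.bwd (nat_lit 1) (Steps.bwd (nat_lit 3) (Steps.bwd (nat_lit 3) (Steps.bwd (nat_lit 1) (Steps.bwd (nat_lit 3) (Steps.bwd (nat_lit 3) (Steps.fwd (nat_lit 4096) (Steps.fwd (nat_lit 8192) (Steps.bwd (nat_lit 3) (Steps.fwd (nat_lit 4096) (Steps.bwd (nat_lit 3) Steps.nil))))))))))))))))) (nat_lit 7) (nat_lit 2),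
  Rule.mk (nat_lit 2) (nat_lit 213) (Steps.bwd (nat_lit 1) (Steps.fwd (nat_lit 12288) (Steps.fwd (nat_lit 12288) (Steps.bwd (nat_lit 1) (Steps.fwd (nat_lit 12288) (Steps.bwd (nat_lit 2) (Steps.bwd (nat_lit 1) (Steps.bwd (nat_lit 2) (Steps.fwd (nat_lit 12288) (Steps.fwd (nat_lit 4096) (Steps.bwd (nat_lit 2) (Steps.bwd (nat_lit 2) (Steps.fwd (nat_lit 4096) (Steps.fwd (nat_lit 12288) (Steps.bwd (nat_lit 2) (Steps.fwd (nat_lit 4096) (Steps.fwd (nat_lit 12288) Steps.nil))))))))))))))))) (nat_lit 6) (nat_lit 0),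
  Rule.mk (nat_lit 3) (nat_lit 213) (Steps.bwd (nat_lit 1) (Steps.bwd (nat_lit 3) (Steps.bwd (nat_lit 3) (Steps.bwd (nat_lit 1) (Steps.bwd (nat_lit 3) (Steps.bwd (nat_lit 3) (Steps.bwd (nat_lit 1) (Steps.bwd (nat_lit 3) (Steps.bwd (nat_lit 3) (Steps.fwd (nat_lit 4096) (Steps.fwd (nat_lit 8192) (Steps.fwd (nat_lit 8192) (Steps.fwd (nat_lit 4096) (Steps.fwd (nat_lit 8192) (Steps.fwd (nat_lit 8192) (Steps.fwd (nat_lit 4096) (Steps.bwd (nat_lit 3) Steps.nil))))))))))))))))) (nat_lit 7) (nat_lit 2),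
  Rule.mk (nat_lit 2) (nat_lit 225) (Steps.bwd (nat_lit 1) (Steps.bwd (nat_lit 2) (Steps.bwd (nat_lit 1) (Steps.fwd (nat_lit 8192) (Steps.bwd (nat_lit 1) (Steps.bwd (nat_lit 3) (Steps.fwd (nat_lit 4096) (Steps.bwd (nat_lit 2) (Steps.fwd (nat_lit 4096) (Steps.fwd (nat_lit 8192) (Steps.fwd (nat_lit 4096) (Steps.bwd (nat_lit 3) (Steps.bwd (nat_lit 3) (Steps.fwd (nat_lit 4096) (Steps.bwd (nat_lit 2) (Steps.bwd (nat_lit 1) (Steps.bwd (nat_lit 3) (Steps.fwd (nat_lit 4096) Steps.nil)))))))))))))))))) (nat_lit 8) (nat_lit 6),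
  Rule.mk (nat_lit 2) (nat_lit 225) (Steps.bwd (nat_lit 1) (Steps.bwd (nat_lit 2) (Steps.bwd (nat_lit 1) (Steps.bwd (nat_lit 3) (Steps.bwd (nat_lit 1) (Steps.fwd (nat_lit 8192) (Steps.bwd (nat_lit 1) (Steps.fwd (nat_lit 12288) (Steps.fwd (nat_lit 4096) (Steps.fwd (nat_lit 8192) (Steps.fwd (nat_lit 4096) (Steps.bwd (nat_lit 3) (Steps.bwd (nat_lit 3) (Steps.fwd (nat_lit 4096) (Steps.bwd (nat_lit 2) (Steps.bwd (nat_lit 1) (Steps.fwd (nat_lit 8192) (Steps.fwd (nat_lit 4096) Steps.nil)))))))))))))))))) (nat_lit 8) (nat_lit 6),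
  Rule.mk (nat_lit 2) (nat_lit 213) (Steps.bwd (nat_lit 1) (Steps.fwd (nat_lit 12288) (Steps.bwd (nat_lit 2) (Steps.bwd (nat_lit 1) (Steps.fwd (nat_lit 12288) (Steps.bwd (nat_lit 2) (Steps.bwd (nat_lit 1) (Steps.fwd (nat_lit 12288) (Steps.fwd (nat_lit 12288) (Steps.fwd (nat_lit 4096) (Steps.bwd (nat_lit 2) (Steps.fwd (nat_lit 12288) (Steps.fwd (nat_lit 4096) (Steps.fwd (nat_lit 12288) (Steps.bwd (nat_lit 2) (Steps.fwd (nat_lit 4096) (Steps.bwd (nat_lit 2) Steps.nil))))))))))))))))) (nat_lit 6) (nat_lit 0),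
  Rule.mk (nat_lit 2) (nat_lit 225) (Steps.bwd (nat_lit 1) (Steps.bwd (nat_lit 3) (Steps.bwd (nat_lit 1) (Steps.bwd (nat_lit 3) (Steps.bwd (nat_lit 3) (Steps.bwd (nat_lit 1) (Steps.fwd (nat_lit 12288) (Steps.fwd (nat_lit 4096) (Steps.fwd (nat_lit 8192) (Steps.fwd (nat_lit 4096) (Steps.fwd (nat_lit 12288) (Steps.bwd (nat_lit 1) (Steps.fwd (nat_lit 12288) (Steps.fwd (nat_lit 4096) (Steps.fwd (nat_lit 8192) (Steps.fwd (nat_lit 4096) (Steps.bwd (nat_lit 3) (Steps.fwd (nat_lit 4096) Steps.nil)))))))))))))))))) (nat_lit 8) (nat_lit 14),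
  Rule.mk (nat_lit 3) (nat_lit 225) (Steps.bwd (nat_lit 1) (Steps.bwd (nat_lit 3) (Steps.bwd (nat_lit 1) (Steps.fwd (nat_lit 12288) (Steps.bwd (nat_lit 1) (Steps.bwd (nat_lit 3) (Steps.fwd (nat_lit 4096) (Steps.bwd (nat_lit 3) (Steps.bwd (nat_lit 3) (Steps.bwd (nat_lit 1) (Steps.fwd (nat_lit 12288) (Steps.fwd (nat_lit 4096) (Steps.fwd (nat_lit 8192) (Steps.fwd (nat_lit 4096) (Steps.bwd (nat_lit 2) (Steps.bwd (nat_lit 1) (Steps.bwd (nat_lit 2) (Steps.fwd (nat_lit 4096) Steps.nil)))))))))))))))))) (nat_lit 8) (nat_lit 10),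
  Rule.mk (nat_lit 3) (nat_lit 225) (Steps.bwd (nat_lit 1) (Steps.bwd (nat_lit 3) (Steps.bwd (nat_lit 3) (Steps.bwd (nat_lit 1) (Steps.fwd (nat_lit 12288) (Steps.fwd (nat_lit 4096) (Steps.bwd (nat_lit 3) (Steps.fwd (nat_lit 4096) (Steps.bwd (nat_lit 2) (Steps.bwd (nat_lit 1) (Steps.bwd (nat_lit 2) (Steps.fwd (nat_lit 4096) (Steps.bwd (nat_lit 3) (Steps.bwd (nat_lit 1) (Steps.bwd (nat_lit 3) (Steps.fwd (nat_lit 4096) (Steps.fwd (nat_lit 12288) (Steps.fwd (nat_lit 4096) Steps.nil)))))))))))))))))) (nat_lit 8) (nat_lit 16),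
  Rule.mk (nat_lit 1) (nat_lit 225) (Steps.bwd (nat_lit 3) (Steps.bwd (nat_lit 3) (Steps.bwd (nat_lit 1) (Steps.fwd (nat_lit 12288) (Steps.bwd (nat_lit 1) (Steps.fwd (nat_lit 8192) (Steps.bwd (nat_lit 1) (Steps.bwd (nat_lit 2) (Steps.bwd (nat_lit 1) (Steps.fwd (nat_lit 12288) (Steps.fwd (nat_lit 4096) (Steps.fwd (nat_lit 8192) (Steps.bwd (nat_lit 1) (Steps.fwd (nat_lit 8192) (Steps.fwd (nat_lit 4096) (Steps.bwd (nat_lit 2) (Steps.bwd (nat_lit 1) (Steps.bwd (nat_lit 3) Steps.nil)))))))))))))))))) (nat_lit 8) (nat_lit 17),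
  Rule.mk (nat_lit 3) (nat_lit 225) (Steps.bwd (nat_lit 1) (Steps.bwd (nat_lit 3) (Steps.fwd (nat_lit 8192) (Steps.fwd (nat_lit 4096) (Steps.fwd (nat_lit 12288) (Steps.bwd (nat_lit 1) (Steps.bwd (nat_lit 3) (Steps.fwd (nat_lit 4096) (Steps.bwd (nat_lit 2) (Steps.fwd (nat_lit 4096) (Steps.bwd (nat_lit 2) (Steps.bwd (nat_lit 1) (Steps.bwd (nat_lit 3) (Steps.bwd (nat_lit 1) (Steps.bwd (nat_lit 3) (Steps.bwd (nat_lit 1) (Steps.bwd (nat_lit 2) (Steps.fwd (nat_lit 4096) Steps.nil)))))))))))))))))) (nat_lit 8) (nat_lit 16),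
  Rule.mk (nat_lit 3) (nat_lit 213) (Steps.bwd (nat_lit 1) (Steps.bwd (nat_lit 3) (Steps.fwd (nat_lit 8192) (Steps.fwd (nat_lit 4096) (Steps.bwd (nat_lit 3) (Steps.bwd (nat_lit 3) (Steps.bwd (nat_lit 1) (Steps.fwd (nat_lit 8192) (Steps.bwd (nat_lit 3) (Steps.bwd (nat_lit 1) (Steps.bwd (nat_lit 3) (Steps.bwd (nat_lit 3) (Steps.fwd (nat_lit 4096) (Steps.bwd (nat_lit 3) (Steps.fwd (nat_lit 8192) (Steps.fwd (nat_lit 4096) (Steps.bwd (nat_lit 3) Steps.nil))))))))))))))))) (nat_lit 7) (nat_lit 2),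
  Rule.mk (nat_lit 3) (nat_lit 225) (Steps.bwd (nat_lit 1) (Steps.fwd (nat_lit 8192) (Steps.fwd (nat_lit 8192) (Steps.fwd (nat_lit 4096) (Steps.fwd (nat_lit 12288) (Steps.bwd (nat_lit 1) (Steps.bwd (nat_lit 3) (Steps.bwd (nat_lit 1) (Steps.fwd (nat_lit 12288) (Steps.bwd (nat_lit 1) (Steps.bwd (nat_lit 2) (Steps.fwd (nat_lit 4096) (Steps.bwd (nat_lit 3) (Steps.bwd (nat_lit 1) (Steps.bwd (nat_lit 3) (Steps.fwd (nat_lit 4096) (Steps.fwd (nat_lit 12288) (Steps.fwd (nat_lit 4096) Steps.nil)))))))))))))))))) (nat_lit 8) (nat_lit 16),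
  Rule.mk (nat_lit 2) (nat_lit 225) (Steps.bwd (nat_lit 1) (Steps.fwd (nat_lit 8192) (Steps.bwd (nat_lit 1) (Steps.bwd (nat_lit 3) (Steps.bwd (nat_lit 3) (Steps.fwd (nat_lit 4096) (Steps.bwd (nat_lit 2) (Steps.bwd (nat_lit 1) (Steps.bwd (nat_lit 3) (Steps.bwd (nat_lit 1) (Steps.bwd (nat_lit 2) (Steps.fwd (nat_lit 4096) (Steps.fwd (nat_lit 12288) (Steps.bwd (nat_lit 1) (Steps.bwd (nat_lit 3) (Steps.fwd (nat_lit 4096) (Steps.fwd (nat_lit 8192) (Steps.fwd (nat_lit 4096) Steps.nil)))))))))))))))))) (nat_lit 8) (nat_lit 14),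
  Rule.mk (nat_lit 3) (nat_lit 225) (Steps.bwd (nat_lit 1) (Steps.fwd (nat_lit 8192) (Steps.fwd (nat_lit 8192) (Steps.bwd (nat_lit 1) (Steps.bwd (nat_lit 2) (Steps.bwd (nat_lit 1) (Steps.bwd (nat_lit 3) (Steps.bwd (nat_lit 1) (Steps.fwd (nat_lit 12288) (Steps.fwd (nat_lit 4096) (Steps.fwd (nat_lit 12288) (Steps.fwd (nat_lit 4096) (Steps.bwd (nat_lit 3) (Steps.bwd (nat_lit 1) (Steps.fwd (nat_lit 8192) (Steps.fwd (nat_lit 4096) (Steps.fwd (nat_lit 12288) (Steps.fwd (nat_lit 4096) Steps.nil)))))))))))))))))) (nat_lit 8) (nat_lit 16),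
  Rule.mk (nat_lit 3) (nat_lit 225) (Steps.bwd (nat_lit 1) (Steps.bwd (nat_lit 2) (Steps.bwd (nat_lit 1) (Steps.fwd (nat_lit 8192) (Steps.bwd (nat_lit 1) (Steps.bwd (nat_lit 3) (Steps.fwd (nat_lit 8192) (Steps.fwd (nat_lit 4096) (Steps.fwd (nat_lit 12288) (Steps.fwd (nat_lit 4096) (Steps.bwd (nat_lit 3) (Steps.bwd (nat_lit 1) (Steps.bwd (nat_lit 2) (Steps.bwd (nat_lit 1) (Steps.fwd (nat_lit 12288) (Steps.fwd (nat_lit 4096) (Steps.fwd (nat_lit 8192) (Steps.fwd (nat_lit 4096) Steps.nil)))))))))))))))))) (nat_lit 8) (nat_lit 12),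
  Rule.mk (nat_lit 2) (nat_lit 213) (Steps.bwd (nat_lit 2) (Steps.bwd (nat_lit 1) (Steps.fwd (nat_lit 12288) (Steps.bwd (nat_lit 2) (Steps.bwd (nat_lit 1) (Steps.bwd (nat_lit 2) (Steps.bwd (nat_lit 2) (Steps.bwd (nat_lit 1) (Steps.bwd (nat_lit 2) (Steps.bwd (nat_lit 2) (Steps.fwd (nat_lit 4096) (Steps.fwd (nat_lit 12288) (Steps.bwd (nat_lit 2) (Steps.fwd (nat_lit 4096) (Steps.fwd (nat_lit 12288) (Steps.fwd (nat_lit 12288) (Steps.fwd (nat_lit 4096) Steps.nil))))))))))))))))) (nat_lit 6) (nat_lit 2),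
  Rule.mk (nat_lit 3) (nat_lit 213) (Steps.bwd (nat_lit 1) (Steps.bwd (nat_lit 3) (Steps.bwd (nat_lit 3) (Steps.bwd (nat_lit 1) (Steps.bwd (nat_lit 3) (Steps.fwd (nat_lit 8192) (Steps.fwd (nat_lit 4096) (Steps.fwd (nat_lit 8192) (Steps.fwd (nat_lit 8192) (Steps.bwd (nat_lit 1) (Steps.fwd (nat_lit 8192) (Steps.fwd (nat_lit 8192) (Steps.fwd (nat_lit 4096) (Steps.fwd (nat_lit 8192) (Steps.fwd (nat_lit 8192) (Steps.fwd (nat_lit 4096) (Steps.bwd (nat_lit 3) Steps.nil))))))))))))))))) (nat_lit 7) (nat_lit 2),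
  Rule.mk (nat_lit 2) (nat_lit 213) (Steps.bwd (nat_lit 1) (Steps.fwd (nat_lit 12288) (Steps.fwd (nat_lit 12288) (Steps.fwd (nat_lit 4096) (Steps.fwd (nat_lit 12288) (Steps.bwd (nat_lit 2) (Steps.bwd (nat_lit 1) (Steps.fwd (nat_lit 12288) (Steps.fwd (nat_lit 12288) (Steps.fwd (nat_lit 4096) (Steps.fwd (nat_lit 12288) (Steps.fwd (nat_lit 12288) (Steps.fwd (nat_lit 4096) (Steps.bwd (nat_lit 2) (Steps.bwd (nat_lit 2) (Steps.fwd (nat_lit 4096) (Steps.fwd (nat_lit 12288) Steps.nil))))))))))))))))) (nat_lit 6) (nat_lit 0),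
  Rule.mk (nat_lit 3) (nat_lit 213) (Steps.bwd (nat_lit 1) (Steps.bwd (nat_lit 3) (Steps.bwd (nat_lit 3) (Steps.fwd (nat_lit 4096) (Steps.bwd (nat_lit 3) (Steps.bwd (nat_lit 3) (Steps.bwd (nat_lit 1) (Steps.bwd (nat_lit 3) (Steps.fwd (nat_lit 8192) (Steps.fwd (nat_lit 4096) (Steps.bwd (nat_lit 3) (Steps.bwd (nat_lit 3) (Steps.fwd (nat_lit 4096) (Steps.fwd (nat_lit 8192) (Steps.fwd (nat_lit 8192) (Steps.fwd (nat_lit 4096) (Steps.bwd (nat_lit 3) Steps.nil))))))))))))))))) (nat_lit 7) (nat_lit 2),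
  Rule.mk (nat_lit 2) (nat_lit 225) (Steps.bwd (nat_lit 1) (Steps.fwd (nat_lit 8192) (Steps.fwd (nat_lit 4096) (Steps.bwd (nat_lit 3) (Steps.bwd (nat_lit 3) (Steps.bwd (nat_lit 1) (Steps.fwd (nat_lit 12288) (Steps.fwd (nat_lit 4096) (Steps.bwd (nat_lit 3) (Steps.fwd (nat_lit 4096) (Steps.bwd (nat_lit 2) (Steps.bwd (nat_lit 1) (Steps.fwd (nat_lit 12288) (Steps.fwd (nat_lit 4096) (Steps.fwd (nat_lit 8192) (Steps.bwd (nat_lit 1) (Steps.fwd (nat_lit 8192) (Steps.fwd (nat_lit 4096) Steps.nil)))))))))))))))))) (nat_lit 8) (nat_lit 14),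
  Rule.mk (nat_lit 2) (nat_lit 213) (Steps.bwd (nat_lit 1) (Steps.bwd (nat_lit 2) (Steps.fwd (nat_lit 12288) (Steps.fwd (nat_lit 4096) (Steps.bwd (nat_lit 2) (Steps.bwd (nat_lit 2) (Steps.fwd (nat_lit 4096) (Steps.fwd (nat_lit 12288) (Steps.fwd (nat_lit 12288) (Steps.bwd (nat_lit 1) (Steps.bwd (nat_lit 2) (Steps.fwd (nat_lit 12288) (Steps.fwd (nat_lit 4096) (Steps.bwd (nat_lit 2) (Steps.bwd (nat_lit 2) (Steps.fwd (nat_lit 4096) (Steps.bwd (nat_lit 2) Steps.nil))))))))))))))))) (nat_lit 6) (nat_lit 0),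
  Rule.mk (nat_lit 1) (nat_lit 213) (Steps.bwd (nat_lit 2) (Steps.bwd (nat_lit 2) (Steps.bwd (nat_lit 1) (Steps.bwd (nat_lit 2) (Steps.fwd (nat_lit 12288) (Steps.fwd (nat_lit 4096) (Steps.bwd (nat_lit 2) (Steps.bwd (nat_lit 2) (Steps.bwd (nat_lit 1) (Steps.fwd (nat_lit 12288) (Steps.fwd (nat_lit 12288) (Steps.fwd (nat_lit 4096) (Steps.fwd (nat_lit 12288) (Steps.bwd (nat_lit 2) (Steps.fwd (nat_lit 4096) (Steps.bwd (nat_lit 2) (Steps.bwd (nat_lit 2) Steps.nil))))))))))))))))) (nat_lit 6) (nat_lit 1),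
  Rule.mk (nat_lit 2) (nat_lit 213) (Steps.bwd (nat_lit 2) (Steps.bwd (nat_lit 1) (Steps.fwd (nat_lit 12288) (Steps.fwd (nat_lit 12288) (Steps.bwd (nat_lit 1) (Steps.fwd (nat_lit 12288) (Steps.bwd (nat_lit 2) (Steps.bwd (nat_lit 1) (Steps.bwd (nat_lit 2) (Steps.fwd (nat_lit 12288) (Steps.fwd (nat_lit 4096) (Steps.fwd (nat_lit 12288) (Steps.fwd (nat_lit 12288) (Steps.fwd (nat_lit 4096) (Steps.fwd (nat_lit 12288) (Steps.fwd (nat_lit 12288) (Steps.fwd (nat_lit 4096) Steps.nil))))))))))))))))) (nat_lit 6) (nat_lit 2),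
  Rule.mk (nat_lit 1) (nat_lit 225) (Steps.bwd (nat_lit 2) (Steps.bwd (nat_lit 1) (Steps.fwd (nat_lit 8192) (Steps.bwd (nat_lit 1) (Steps.fwd (nat_lit 8192) (Steps.fwd (nat_lit 8192) (Steps.bwd (nat_lit 1) (Steps.bwd (nat_lit 2) (Steps.bwd (nat_lit 1) (Steps.bwd (nat_lit 3) (Steps.fwd (nat_lit 4096) (Steps.fwd (nat_lit 12288) (Steps.fwd (nat_lit 4096) (Steps.fwd (nat_lit 12288) (Steps.fwd (nat_lit 4096) (Steps.bwd (nat_lit 3) (Steps.fwd (nat_lit 4096) (Steps.fwd (nat_lit 8192) Steps.nil)))))))))))))))))) (nat_lit 8) (nat_lit 13),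
  Rule.mk (nat_lit 1) (nat_lit 213) (Steps.bwd (nat_lit 2) (Steps.bwd (nat_lit 2) (Steps.bwd (nat_lit 1) (Steps.bwd (nat_lit 2) (Steps.bwd (nat_lit 2) (Steps.bwd (nat_lit 1) (Steps.fwd (nat_lit 12288) (Steps.fwd (nat_lit 12288) (Steps.bwd (nat_lit 1) (Steps.bwd (nat_lit 2) (Steps.fwd (nat_lit 12288) (Steps.fwd (nat_lit 4096) (Steps.fwd (nat_lit 12288) (Steps.fwd (nat_lit 12288) (Steps.bwd (nat_lit 1) (Steps.bwd (nat_lit 2) (Steps.bwd (nat_lit 2) Steps.nil))))))))))))))))) (nat_lit 6) (nat_lit 1),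
  Rule.mk (nat_lit 3) (nat_lit 213) (Steps.bwd (nat_lit 3) (Steps.bwd (nat_lit 1) (Steps.bwd (nat_lit 3) (Steps.bwd (nat_lit 3) (Steps.fwd (nat_lit 4096) (Steps.fwd (nat_lit 8192) (Steps.fwd (nat_lit 8192) (Steps.fwd (nat_lit 4096) (Steps.fwd (nat_lit 8192) (Steps.fwd (nat_lit 8192) (Steps.bwd (nat_lit 1) (Steps.bwd (nat_lit 3) (Steps.bwd (nat_lit 3) (Steps.fwd (nat_lit 4096) (Steps.fwd (nat_lit 8192) (Steps.fwd (nat_lit 8192) (Steps.fwd (nat_lit 4096) Steps.nil))))))))))))))))) (nat_lit 7) (nat_lit 1),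
  Rule.mk (nat_lit 1) (nat_lit 225) (Steps.bwd (nat_lit 3) (Steps.bwd (nat_lit 3) (Steps.bwd (nat_lit 1) (Steps.bwd (nat_lit 2) (Steps.bwd (nat_lit 1) (Steps.bwd (nat_lit 3) (Steps.fwd (nat_lit 4096) (Steps.fwd (nat_lit 12288) (Steps.bwd (nat_lit 1) (Steps.fwd (nat_lit 12288) (Steps.fwd (nat_lit 4096) (Steps.fwd (nat_lit 8192) (Steps.fwd (nat_lit 4096) (Steps.fwd (nat_lit 8192) (Steps.fwd (nat_lit 4096) (Steps.bwd (nat_lit 2) (Steps.fwd (nat_lit 4096) (Steps.bwd (nat_lit 3) Steps.nil)))))))))))))))))) (nat_lit 8) (nat_lit 17),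
  Rule.mk (nat_lit 1) (nat_lit 213) (Steps.bwd (nat_lit 3) (Steps.fwd (nat_lit 8192) (Steps.bwd (nat_lit 1) (Steps.bwd (nat_lit 3) (Steps.bwd (nat_lit 3) (Steps.fwd (nat_lit 4096) (Steps.bwd (nat_lit 3) (Steps.bwd (nat_lit 3) (Steps.bwd (nat_lit 1) (Steps.bwd (nat_lit 3) (Steps.bwd (nat_lit 3) (Steps.fwd (nat_lit 4096) (Steps.bwd (nat_lit 3) (Steps.bwd (nat_lit 3) (Steps.bwd (nat_lit 1) (Steps.bwd (nat_lit 3) (Steps.bwd (nat_lit 3) Steps.nil))))))))))))))))) (nat_lit 7) (nat_lit 0),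
  Rule.mk (nat_lit 2) (nat_lit 225) (Steps.bwd (nat_lit 1) (Steps.bwd (nat_lit 3) (Steps.bwd (nat_lit 1) (Steps.bwd (nat_lit 3) (Steps.fwd (nat_lit 8192) (Steps.fwd (nat_lit 4096) (Steps.fwd (nat_lit 12288) (Steps.bwd (nat_lit 1) (Steps.bwd (nat_lit 3) (Steps.bwd (nat_lit 1) (Steps.fwd (nat_lit 12288) (Steps.bwd (nat_lit 1) (Steps.bwd (nat_lit 2) (Steps.fwd (nat_lit 4096) (Steps.fwd (nat_lit 8192) (Steps.fwd (nat_lit 4096) (Steps.bwd (nat_lit 3) (Steps.fwd (nat_lit 4096) Steps.nil)))))))))))))))))) (nat_lit 8) (nat_lit 14),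
  Rule.mk (nat_lit 2) (nat_lit 213) (Steps.bwd (nat_lit 1) (Steps.fwd (nat_lit 12288) (Steps.fwd (nat_lit 12288) (Steps.fwd (nat_lit 4096) (Steps.fwd (nat_lit 12288) (Steps.bwd (nat_lit 2) (Steps.bwd (nat_lit 1) (Steps.bwd (nat_lit 2) (Steps.fwd (nat_lit 12288) (Steps.fwd (nat_lit 4096) (Steps.fwd (nat_lit 12288) (Steps.fwd (nat_lit 12288) (Steps.fwd (nat_lit 4096) (Steps.fwd (nat_lit 12288) (Steps.fwd (nat_lit 12288) (Steps.fwd (nat_lit 4096) (Steps.bwd (nat_lit 2) Steps.nil))))))))))))))))) (nat_lit 6) (nat_lit 0),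
  Rule.mk (nat_lit 1) (nat_lit 225) (Steps.bwd (nat_lit 3) (Steps.bwd (nat_lit 1) (Steps.bwd (nat_lit 3) (Steps.bwd (nat_lit 3) (Steps.bwd (nat_lit 1) (Steps.bwd (nat_lit 2) (Steps.bwd (nat_lit 1) (Steps.bwd (nat_lit 3) (Steps.fwd (nat_lit 4096) (Steps.fwd (nat_lit 12288) (Steps.fwd (nat_lit 4096) (Steps.fwd (nat_lit 12288) (Steps.fwd (nat_lit 4096) (Steps.fwd (nat_lit 8192) (Steps.fwd (nat_lit 4096) (Steps.bwd (nat_lit 3) (Steps.fwd (nat_lit 4096) (Steps.bwd (nat_lit 2) Steps.nil)))))))))))))))))) (nat_lit 8) (nat_lit 15)]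
noncomputable def R_6 : List (Rule) := [Rule.mk (nat_lit 1) (nat_lit 213) (Steps.bwd (nat_lit 3) (Steps.bwd (nat_lit 3) (Steps.bwd (nat_lit 1) (Steps.bwd (nat_lit 3) (Steps.bwd (nat_lit 3) (Steps.bwd (nat_lit 1) (Steps.fwd (nat_lit 8192) (Steps.fwd (nat_lit 8192) (Steps.bwd (nat_lit 1) (Steps.fwd (nat_lit 8192) (Steps.fwd (nat_lit 8192) (Steps.fwd (nat_lit 4096) (Steps.fwd (nat_lit 8192) (Steps.bwd (nat_lit 3) (Steps.fwd (nat_lit 4096) (Steps.bwd (nat_lit 3) (Steps.bwd (nat_lit 3) Steps.nil))))))))))))))))) (nat_lit 7) (nat_lit 0),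
  Rule.mk (nat_lit 1) (nat_lit 213) (Steps.bwd (nat_lit 2) (Steps.bwd (nat_lit 2) (Steps.bwd (nat_lit 1) (Steps.fwd (nat_lit 12288) (Steps.fwd (nat_lit 12288) (Steps.bwd (nat_lit 1) (Steps.bwd (nat_lit 2) (Steps.fwd (nat_lit 12288) (Steps.bwd (nat_lit 1) (Steps.bwd (nat_lit 2) (Steps.fwd (nat_lit 12288) (Steps.fwd (nat_lit 4096) (Steps.bwd (nat_lit 2) (Steps.bwd (nat_lit 2) (Steps.bwd (nat_lit 1) (Steps.fwd (nat_lit 12288) (Steps.fwd (nat_lit 12288) Steps.nil))))))))))))))))) (nat_lit 6) (nat_lit 1),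
  Rule.mk (nat_lit 3) (nat_lit 225) (Steps.bwd (nat_lit 1) (Steps.bwd (nat_lit 3) (Steps.fwd (nat_lit 8192) (Steps.fwd (nat_lit 4096) (Steps.fwd (nat_lit 12288) (Steps.bwd (nat_lit 1) (Steps.fwd (nat_lit 8192) (Steps.fwd (nat_lit 4096) (Steps.fwd (nat_lit 12288) (Steps.fwd (nat_lit 4096) (Steps.bwd (nat_lit 2) (Steps.fwd (nat_lit 4096) (Steps.bwd (nat_lit 3) (Steps.bwd (nat_lit 1) (Steps.bwd (nat_lit 3) (Steps.fwd (nat_lit 4096) (Steps.fwd (nat_lit 12288) (Steps.fwd (nat_lit 4096) Steps.nil)))))))))))))))))) (nat_lit 8) (nat_lit 16),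
  Rule.mk (nat_lit 3) (nat_lit 213) (Steps.bwd (nat_lit 1) (Steps.fwd (nat_lit 8192) (Steps.fwd (nat_lit 8192) (Steps.bwd (nat_lit 1) (Steps.bwd (nat_lit 3) (Steps.bwd (nat_lit 3) (Steps.fwd (nat_lit 4096) (Steps.fwd (nat_lit 8192) (Steps.fwd (nat_lit 8192) (Steps.fwd (nat_lit 4096) (Steps.fwd (nat_lit 8192) (Steps.bwd (nat_lit 3) (Steps.bwd (nat_lit 1) (Steps.bwd (nat_lit 3) (Steps.bwd (nat_lit 3) (Steps.fwd (nat_lit 4096) (Steps.bwd (nat_lit 3) Steps.nil))))))))))))))))) (nat_lit 7) (nat_lit 2),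
  Rule.mk (nat_lit 3) (nat_lit 225) (Steps.bwd (nat_lit 1) (Steps.bwd (nat_lit 3) (Steps.bwd (nat_lit 3) (Steps.bwd (nat_lit 1) (Steps.bwd (nat_lit 2) (Steps.bwd (nat_lit 1) (Steps.bwd (nat_lit 3) (Steps.fwd (nat_lit 4096) (Steps.fwd (nat_lit 12288) (Steps.fwd (nat_lit 4096) (Steps.fwd (nat_lit 12288) (Steps.fwd (nat_lit 4096) (Steps.bwd (nat_lit 3) (Steps.bwd (nat_lit 1) (Steps.bwd (nat_lit 3) (Steps.fwd (nat_lit 4096) (Steps.bwd (nat_lit 2) (Steps.fwd (nat_lit 4096) Steps.nil)))))))))))))))))) (nat_lit 8) (nat_lit 16),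
  Rule.mk (nat_lit 2) (nat_lit 225) (Steps.bwd (nat_lit 1) (Steps.bwd (nat_lit 3) (Steps.fwd (nat_lit 4096) (Steps.fwd (nat_lit 8192) (Steps.fwd (nat_lit 8192) (Steps.bwd (nat_lit 1) (Steps.bwd (nat_lit 2) (Steps.bwd (nat_lit 1) (Steps.bwd (nat_lit 3) (Steps.bwd (nat_lit 1) (Steps.fwd (nat_lit 12288) (Steps.fwd (nat_lit 4096) (Steps.fwd (nat_lit 12288) (Steps.fwd (nat_lit 4096) (Steps.bwd (nat_lit 3) (Steps.fwd (nat_lit 4096) (Steps.bwd (nat_lit 3) (Steps.fwd (nat_lit 4096) Steps.nil)))))))))))))))))) (nat_lit 8) (nat_lit 14),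
  Rule.mk (nat_lit 3) (nat_lit 225) (Steps.bwd (nat_lit 1) (Steps.bwd (nat_lit 3) (Steps.bwd (nat_lit 3) (Steps.fwd (nat_lit 4096) (Steps.bwd (nat_lit 2) (Steps.bwd (nat_lit 1) (Steps.fwd (nat_lit 8192) (Steps.fwd (nat_lit 4096) (Steps.fwd (nat_lit 12288) (Steps.fwd (nat_lit 4096) (Steps.fwd (nat_lit 12288) (Steps.fwd (nat_lit 4096) (Steps.bwd (nat_lit 3) (Steps.fwd (nat_lit 4096) (Steps.fwd (nat_lit 8192) (Steps.bwd (nat_lit 1) (Steps.fwd (nat_lit 12288) (Steps.fwd (nat_lit 4096) Steps.nil)))))))))))))))))) (nat_lit 8) (nat_lit 16),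
  Rule.mk (nat_lit 3) (nat_lit 213) (Steps.bwd (nat_lit 1) (Steps.bwd (nat_lit 3) (Steps.bwd (nat_lit 3) (Steps.bwd (nat_lit 1) (Steps.bwd (nat_lit 3) (Steps.bwd (nat_lit 3) (Steps.fwd (nat_lit 4096) (Steps.bwd (nat_lit 3) (Steps.bwd (nat_lit 3) (Steps.bwd (nat_lit 1) (Steps.fwd (nat_lit 8192) (Steps.fwd (nat_lit 8192) (Steps.fwd (nat_lit 4096) (Steps.bwd (nat_lit 3) (Steps.bwd (nat_lit 3) (Steps.fwd (nat_lit 4096) (Steps.bwd (nat_lit 3) Steps.nil))))))))))))))))) (nat_lit 7) (nat_lit 2),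
  Rule.mk (nat_lit 3) (nat_lit 225) (Steps.bwd (nat_lit 1) (Steps.bwd (nat_lit 3) (Steps.bwd (nat_lit 3) (Steps.bwd (nat_lit 1) (Steps.bwd (nat_lit 2) (Steps.bwd (nat_lit 1) (Steps.bwd (nat_lit 3) (Steps.fwd (nat_lit 4096) (Steps.fwd (nat_lit 12288) (Steps.fwd (nat_lit 4096) (Steps.fwd (nat_lit 12288) (Steps.fwd (nat_lit 4096) (Steps.bwd (nat_lit 3) (Steps.bwd (nat_lit 1) (Steps.bwd (nat_lit 3) (Steps.bwd (nat_lit 1) (Steps.fwd (nat_lit 12288) (Steps.fwd (nat_lit 4096) Steps.nil)))))))))))))))))) (nat_lit 8) (nat_lit 16),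
  Rule.mk (nat_lit 3) (nat_lit 213) (Steps.bwd (nat_lit 1) (Steps.fwd (nat_lit 8192) (Steps.fwd (nat_lit 8192) (Steps.fwd (nat_lit 4096) (Steps.fwd (nat_lit 8192) (Steps.fwd (nat_lit 8192) (Steps.bwd (nat_lit 1) (Steps.bwd (nat_lit 3) (Steps.bwd (nat_lit 3) (Steps.fwd (nat_lit 4096) (Steps.bwd (nat_lit 3) (Steps.bwd (nat_lit 3) (Steps.fwd (nat_lit 4096) (Steps.bwd (nat_lit 3) (Steps.bwd (nat_lit 3) (Steps.fwd (nat_lit 4096) (Steps.bwd (nat_lit 3) Steps.nil))))))))))))))))) (nat_lit 7) (nat_lit 2),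
  Rule.mk (nat_lit 1) (nat_lit 213) (Steps.bwd (nat_lit 2) (Steps.fwd (nat_lit 12288) (Steps.bwd (nat_lit 1) (Steps.bwd (nat_lit 2) (Steps.fwd (nat_lit 12288) (Steps.fwd (nat_lit 4096) (Steps.bwd (nat_lit 2) (Steps.bwd (nat_lit 2) (Steps.bwd (nat_lit 1) (Steps.fwd (nat_lit 12288) (Steps.bwd (nat_lit 2) (Steps.fwd (nat_lit 4096) (Steps.fwd (nat_lit 12288) (Steps.fwd (nat_lit 12288) (Steps.fwd (nat_lit 4096) (Steps.fwd (nat_lit 12288) (Steps.fwd (nat_lit 12288) Steps.nil))))))))))))))))) (nat_lit 6) (nat_lit 1),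
  Rule.mk (nat_lit 3) (nat_lit 225) (Steps.bwd (nat_lit 1) (Steps.bwd (nat_lit 3) (Steps.bwd (nat_lit 3) (Steps.fwd (nat_lit 4096) (Steps.fwd (nat_lit 12288) (Steps.bwd (nat_lit 1) (Steps.bwd (nat_lit 3) (Steps.bwd (nat_lit 1) (Steps.fwd (nat_lit 12288) (Steps.bwd (nat_lit 1) (Steps.fwd (nat_lit 12288) (Steps.fwd (nat_lit 4096) (Steps.fwd (nat_lit 8192) (Steps.fwd (nat_lit 4096) (Steps.bwd (nat_lit 3) (Steps.fwd (nat_lit 4096) (Steps.fwd (nat_lit 12288) (Steps.fwd (nat_lit 4096) Steps.nil)))))))))))))))))) (nat_lit 8) (nat_lit 16),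
  Rule.mk (nat_lit 3) (nat_lit 225) (Steps.bwd (nat_lit 1) (Steps.bwd (nat_lit 3) (Steps.bwd (nat_lit 1) (Steps.fwd (nat_lit 12288) (Steps.bwd (nat_lit 1) (Steps.bwd (nat_lit 3) (Steps.fwd (nat_lit 4096) (Steps.fwd (nat_lit 8192) (Steps.bwd (nat_lit 3) (Steps.fwd (nat_lit 4096) (Steps.bwd (nat_lit 2) (Steps.fwd (nat_lit 4096) (Steps.bwd (nat_lit 3) (Steps.bwd (nat_lit 1) (Steps.fwd (nat_lit 12288) (Steps.bwd (nat_lit 1) (Steps.fwd (nat_lit 12288) (Steps.fwd (nat_lit 4096) Steps.nil)))))))))))))))))) (nat_lit 8) (nat_lit 10),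
  Rule.mk (nat_lit 2) (nat_lit 225) (Steps.bwd (nat_lit 1) (Steps.bwd (nat_lit 3) (Steps.bwd (nat_lit 1) (Steps.bwd (nat_lit 3) (Steps.bwd (nat_lit 3) (Steps.bwd (nat_lit 1) (Steps.fwd (nat_lit 12288) (Steps.fwd (nat_lit 4096) (Steps.bwd (nat_lit 3) (Steps.fwd (nat_lit 4096) (Steps.fwd (nat_lit 12288) (Steps.bwd (nat_lit 1) (Steps.bwd (nat_lit 2) (Steps.fwd (nat_lit 4096) (Steps.fwd (nat_lit 8192) (Steps.bwd (nat_lit 1) (Steps.bwd (nat_lit 3) (Steps.fwd (nat_lit 4096) Steps.nil)))))))))))))))))) (nat_lit 8) (nat_lit 14),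
  Rule.mk (nat_lit 3) (nat_lit 225) (Steps.bwd (nat_lit 1) (Steps.bwd (nat_lit 3) (Steps.bwd (nat_lit 1) (Steps.fwd (nat_lit 12288) (Steps.bwd (nat_lit 1) (Steps.bwd (nat_lit 3) (Steps.fwd (nat_lit 4096) (Steps.bwd (nat_lit 3) (Steps.bwd (nat_lit 3) (Steps.fwd (nat_lit 4096) (Steps.fwd (nat_lit 12288) (Steps.bwd (nat_lit 1) (Steps.bwd (nat_lit 3) (Steps.fwd (nat_lit 4096) (Steps.fwd (nat_lit 12288) (Steps.fwd (nat_lit 4096) (Steps.fwd (nat_lit 12288) (Steps.fwd (nat_lit 4096) Steps.nil)))))))))))))))))) (nat_lit 8) (nat_lit 10),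
  Rule.mk (nat_lit 3) (nat_lit 225) (Steps.bwd (nat_lit 1) (Steps.fwd (nat_lit 8192) (Steps.fwd (nat_lit 8192) (Steps.bwd (nat_lit 1) (Steps.fwd (nat_lit 12288) (Steps.fwd (nat_lit 4096) (Steps.fwd (nat_lit 8192) (Steps.fwd (nat_lit 4096) (Steps.fwd (nat_lit 12288) (Steps.bwd (nat_lit 1) (Steps.bwd (nat_lit 2) (Steps.fwd (nat_lit 4096) (Steps.fwd (nat_lit 8192) (Steps.fwd (nat_lit 4096) (Steps.bwd (nat_lit 3) (Steps.fwd (nat_lit 4096) (Steps.bwd (nat_lit 2) (Steps.fwd (nat_lit 4096) Steps.nil)))))))))))))))))) (nat_lit 8) (nat_lit 16),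
  Rule.mk (nat_lit 1) (nat_lit 213) (Steps.bwd (nat_lit 3) (Steps.bwd (nat_lit 3) (Steps.bwd (nat_lit 1) (Steps.fwd (nat_lit 8192) (Steps.fwd (nat_lit 8192) (Steps.bwd (nat_lit 1) (Steps.bwd (nat_lit 3) (Steps.bwd (nat_lit 3) (Steps.bwd (nat_lit 1) (Steps.bwd (nat_lit 3) (Steps.bwd (nat_lit 3) (Steps.fwd (nat_lit 4096) (Steps.bwd (nat_lit 3) (Steps.bwd (nat_lit 3) (Steps.bwd (nat_lit 1) (Steps.bwd (nat_lit 3) (Steps.bwd (nat_lit 3) Steps.nil))))))))))))))))) (nat_lit 7) (nat_lit 0),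
  Rule.mk (nat_lit 2) (nat_lit 225) (Steps.bwd (nat_lit 1) (Steps.bwd (nat_lit 2) (Steps.bwd (nat_lit 1) (Steps.bwd (nat_lit 3) (Steps.bwd (nat_lit 1) (Steps.bwd (nat_lit 3) (Steps.bwd (nat_lit 1) (Steps.bwd (nat_lit 2) (Steps.bwd (nat_lit 1) (Steps.bwd (nat_lit 3) (Steps.fwd (nat_lit 4096) (Steps.fwd (nat_lit 8192) (Steps.bwd (nat_lit 3) (Steps.fwd (nat_lit 4096) (Steps.fwd (nat_lit 12288) (Steps.fwd (nat_lit 4096) (Steps.fwd (nat_lit 8192) (Steps.fwd (nat_lit 4096) Steps.nil)))))))))))))))))) (nat_lit 8) (nat_lit 6),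
  Rule.mk (nat_lit 3) (nat_lit 213) (Steps.bwd (nat_lit 1) (Steps.fwd (nat_lit 8192) (Steps.fwd (nat_lit 8192) (Steps.fwd (nat_lit 4096) (Steps.fwd (nat_lit 8192) (Steps.bwd (nat_lit 3) (Steps.bwd (nat_lit 1) (Steps.bwd (nat_lit 3) (Steps.fwd (nat_lit 8192) (Steps.fwd (nat_lit 4096) (Steps.bwd (nat_lit 3) (Steps.bwd (nat_lit 3) (Steps.bwd (nat_lit 1) (Steps.bwd (nat_lit 3) (Steps.bwd (nat_lit 3) (Steps.fwd (nat_lit 4096) (Steps.fwd (nat_lit 8192) Steps.nil))))))))))))))))) (nat_lit 7) (nat_lit 2),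
  Rule.mk (nat_lit 3) (nat_lit 225) (Steps.bwd (nat_lit 1) (Steps.bwd (nat_lit 3) (Steps.bwd (nat_lit 3) (Steps.bwd (nat_lit 1) (Steps.bwd (nat_lit 2) (Steps.bwd (nat_lit 1) (Steps.bwd (nat_lit 3) (Steps.bwd (nat_lit 1) (Steps.fwd (nat_lit 12288) (Steps.fwd (nat_lit 4096) (Steps.fwd (nat_lit 12288) (Steps.fwd (nat_lit 4096) (Steps.fwd (nat_lit 8192) (Steps.fwd (nat_lit 4096) (Steps.fwd (nat_lit 8192) (Steps.fwd (nat_lit 4096) (Steps.bwd (nat_lit 2) (Steps.fwd (nat_lit 4096) Steps.nil)))))))))))))))))) (nat_lit 8) (nat_lit 16),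
  Rule.mk (nat_lit 3) (nat_lit 213) (Steps.bwd (nat_lit 1) (Steps.bwd (nat_lit 3) (Steps.bwd (nat_lit 3) (Steps.fwd (nat_lit 4096) (Steps.fwd (nat_lit 8192) (Steps.fwd (nat_lit 8192) (Steps.fwd (nat_lit 4096) (Steps.bwd (nat_lit 3) (Steps.bwd (nat_lit 3) (Steps.bwd (nat_lit 1) (Steps.bwd (nat_lit 3) (Steps.fwd (nat_lit 8192) (Steps.fwd (nat_lit 4096) (Steps.fwd (nat_lit 8192) (Steps.fwd (nat_lit 8192) (Steps.fwd (nat_lit 4096) (Steps.bwd (nat_lit 3) Steps.nil))))))))))))))))) (nat_lit 7) (nat_lit 2),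
  Rule.mk (nat_lit 2) (nat_lit 213) (Steps.bwd (nat_lit 2) (Steps.bwd (nat_lit 1) (Steps.fwd (nat_lit 12288) (Steps.bwd (nat_lit 2) (Steps.bwd (nat_lit 1) (Steps.fwd (nat_lit 12288) (Steps.bwd (nat_lit 2) (Steps.bwd (nat_lit 1) (Steps.fwd (nat_lit 12288) (Steps.fwd (nat_lit 12288) (Steps.fwd (nat_lit 4096) (Steps.fwd (nat_lit 12288) (Steps.bwd (nat_lit 2) (Steps.fwd (nat_lit 4096) (Steps.fwd (nat_lit 12288) (Steps.fwd (nat_lit 12288) (Steps.fwd (nat_lit 4096) Steps.nil))))))))))))))))) (nat_lit 6) (nat_lit 2),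
  Rule.mk (nat_lit 3) (nat_lit 225) (Steps.bwd (nat_lit 1) (Steps.fwd (nat_lit 8192) (Steps.fwd (nat_lit 8192) (Steps.bwd (nat_lit 1) (Steps.bwd (nat_lit 2) (Steps.bwd (nat_lit 1) (Steps.bwd (nat_lit 3) (Steps.bwd (nat_lit 1) (Steps.bwd (nat_lit 2) (Steps.bwd (nat_lit 1) (Steps.fwd (nat_lit 12288) (Steps.fwd (nat_lit 4096) (Steps.fwd (nat_lit 8192) (Steps.fwd (nat_lit 4096) (Steps.fwd (nat_lit 8192) (Steps.fwd (nat_lit 4096) (Steps.bwd (nat_lit 2) (Steps.fwd (nat_lit 4096) Steps.nil)))))))))))))))))) (nat_lit 8) (nat_lit 16),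
  Rule.mk (nat_lit 1) (nat_lit 213) (Steps.bwd (nat_lit 3) (Steps.bwd (nat_lit 3) (Steps.bwd (nat_lit 1) (Steps.fwd (nat_lit 8192) (Steps.fwd (nat_lit 8192) (Steps.bwd (nat_lit 1) (Steps.fwd (nat_lit 8192) (Steps.fwd (nat_lit 8192) (Steps.bwd (nat_lit 1) (Steps.fwd (nat_lit 8192) (Steps.fwd (nat_lit 8192) (Steps.fwd (nat_lit 4096) (Steps.bwd (nat_lit 3) (Steps.bwd (nat_lit 3) (Steps.bwd (nat_lit 1) (Steps.bwd (nat_lit 3) (Steps.bwd (nat_lit 3) Steps.nil))))))))))))))))) (nat_lit 7) (nat_lit 0),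
  Rule.mk (nat_lit 1) (nat_lit 213) (Steps.bwd (nat_lit 3) (Steps.fwd (nat_lit 8192) (Steps.bwd (nat_lit 1) (Steps.bwd (nat_lit 3) (Steps.fwd (nat_lit 8192) (Steps.fwd (nat_lit 4096) (Steps.bwd (nat_lit 3) (Steps.bwd (nat_lit 3) (Steps.bwd (nat_lit 1) (Steps.bwd (nat_lit 3) (Steps.bwd (nat_lit 3) (Steps.fwd (nat_lit 4096) (Steps.fwd (nat_lit 8192) (Steps.fwd (nat_lit 8192) (Steps.fwd (nat_lit 4096) (Steps.bwd (nat_lit 3) (Steps.bwd (nat_lit 3) Steps.nil))))))))))))))))) (nat_lit 7) (nat_lit 0),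
  Rule.mk (nat_lit 3) (nat_lit 225) (Steps.bwd (nat_lit 1) (Steps.bwd (nat_lit 3) (Steps.bwd (nat_lit 3) (Steps.bwd (nat_lit 1) (Steps.fwd (nat_lit 12288) (Steps.fwd (nat_lit 4096) (Steps.bwd (nat_lit 3) (Steps.bwd (nat_lit 1) (Steps.bwd (nat_lit 2) (Steps.fwd (nat_lit 4096) (Steps.fwd (nat_lit 12288) (Steps.bwd (nat_lit 1) (Steps.fwd (nat_lit 8192) (Steps.bwd (nat_lit 1) (Steps.bwd (nat_lit 3) (Steps.fwd (nat_lit 4096) (Steps.fwd (nat_lit 12288) (Steps.fwd (nat_lit 4096) Steps.nil)))))))))))))))))) (nat_lit 8) (nat_lit 16),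
  Rule.mk (nat_lit 3) (nat_lit 225) (Steps.bwd (nat_lit 1) (Steps.bwd (nat_lit 2) (Steps.bwd (nat_lit 1) (Steps.bwd (nat_lit 3) (Steps.bwd (nat_lit 1) (Steps.bwd (nat_lit 3) (Steps.bwd (nat_lit 3) (Steps.fwd (nat_lit 4096) (Steps.fwd (nat_lit 12288) (Steps.fwd (nat_lit 4096) (Steps.bwd (nat_lit 3) (Steps.fwd (nat_lit 4096) (Steps.fwd (nat_lit 12288) (Steps.fwd (nat_lit 4096) (Steps.fwd (nat_lit 12288) (Steps.bwd (nat_lit 1) (Steps.bwd (nat_lit 3) (Steps.fwd (nat_lit 4096) Steps.nil)))))))))))))))))) (nat_lit 8) (nat_lit 12),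
  Rule.mk (nat_lit 2) (nat_lit 213) (Steps.bwd (nat_lit 1) (Steps.bwd (nat_lit 2) (Steps.bwd (nat_lit 2) (Steps.bwd (nat_lit 1) (Steps.bwd (nat_lit 2) (Steps.fwd (nat_lit 12288) (Steps.fwd (nat_lit 4096) (Steps.fwd (nat_lit 12288) (Steps.fwd (nat_lit 12288) (Steps.bwd (nat_lit 1) (Steps.bwd (nat_lit 2) (Steps.fwd (nat_lit 12288) (Steps.fwd (nat_lit 4096) (Steps.fwd (nat_lit 12288) (Steps.fwd (nat_lit 12288) (Steps.fwd (nat_lit 4096) (Steps.fwd (nat_lit 12288) Steps.nil))))))))))))))))) (nat_lit 6) (nat_lit 0),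
  Rule.mk (nat_lit 3) (nat_lit 213) (Steps.bwd (nat_lit 1) (Steps.fwd (nat_lit 8192) (Steps.bwd (nat_lit 3) (Steps.bwd (nat_lit 1) (Steps.bwd (nat_lit 3) (Steps.bwd (nat_lit 3) (Steps.fwd (nat_lit 4096) (Steps.bwd (nat_lit 3) (Steps.bwd (nat_lit 3) (Steps.bwd (nat_lit 1) (Steps.bwd (nat_lit 3) (Steps.bwd (nat_lit 3) (Steps.fwd (nat_lit 4096) (Steps.fwd (nat_lit 8192) (Steps.bwd (nat_lit 3) (Steps.fwd (nat_lit 4096) (Steps.bwd (nat_lit 3) Steps.nil))))))))))))))))) (nat_lit 7) (nat_lit 2),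
  Rule.mk (nat_lit 2) (nat_lit 261) (Steps.bwd (nat_lit 1) (Steps.bwd (nat_lit 2) (Steps.bwd (nat_lit 1) (Steps.fwd (nat_lit 12288) (Steps.bwd (nat_lit 1) (Steps.fwd (nat_lit 12288) (Steps.bwd (nat_lit 1) (Steps.bwd (nat_lit 2) (Steps.bwd (nat_lit 1) (Steps.fwd (nat_lit 12288) (Steps.bwd (nat_lit 1) (Steps.bwd (nat_lit 2) (Steps.fwd (nat_lit 4096) (Steps.bwd (nat_lit 2) (Steps.bwd (nat_lit 1) (Steps.fwd (nat_lit 12288) (Steps.fwd (nat_lit 4096) (Steps.bwd (nat_lit 2) (Steps.fwd (nat_lit 4096) (Steps.fwd (nat_lit 12288) (Steps.fwd (nat_lit 4096) Steps.nil))))))))))))))))))))) (nat_lit 4) (nat_lit 0),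
  Rule.mk (nat_lit 1) (nat_lit 213) (Steps.bwd (nat_lit 2) (Steps.bwd (nat_lit 2) (Steps.bwd (nat_lit 1) (Steps.bwd (nat_lit 2) (Steps.fwd (nat_lit 12288) (Steps.fwd (nat_lit 4096) (Steps.fwd (nat_lit 12288) (Steps.fwd (nat_lit 12288) (Steps.bwd (nat_lit 1) (Steps.fwd (nat_lit 12288) (Steps.fwd (nat_lit 12288) (Steps.fwd (nat_lit 4096) (Steps.bwd (nat_lit 2) (Steps.bwd (nat_lit 2) (Steps.fwd (nat_lit 4096) (Steps.bwd (nat_lit 2) (Steps.bwd (nat_lit 2) Steps.nil))))))))))))))))) (nat_lit 6) (nat_lit 1),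
  Rule.mk (nat_lit 2) (nat_lit 225) (Steps.bwd (nat_lit 1) (Steps.bwd (nat_lit 3) (Steps.fwd (nat_lit 4096) (Steps.bwd (nat_lit 3) (Steps.fwd (nat_lit 8192) (Steps.fwd (nat_lit 4096) (Steps.fwd (nat_lit 12288) (Steps.bwd (nat_lit 1) (Steps.bwd (nat_lit 3) (Steps.bwd (nat_lit 1) (Steps.fwd (nat_lit 12288) (Steps.bwd (nat_lit 1) (Steps.bwd (nat_lit 2) (Steps.fwd (nat_lit 4096) (Steps.bwd (nat_lit 3) (Steps.bwd (nat_lit 1) (Steps.bwd (nat_lit 3) (Steps.fwd (nat_lit 4096) Steps.nil)))))))))))))))))) (nat_lit 8) (nat_lit 14),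
  Rule.mk (nat_lit 2) (nat_lit 213) (Steps.bwd (nat_lit 1) (Steps.bwd (nat_lit 2) (Steps.bwd (nat_lit 2) (Steps.bwd (nat_lit 1) (Steps.bwd (nat_lit 2) (Steps.bwd (nat_lit 2) (Steps.bwd (nat_lit 1) (Steps.fwd (nat_lit 12288) (Steps.fwd (nat_lit 12288) (Steps.fwd (nat_lit 4096) (Steps.fwd (nat_lit 12288) (Steps.fwd (nat_lit 12288) (Steps.bwd (nat_lit 1) (Steps.bwd (nat_lit 2) (Steps.fwd (nat_lit 12288) (Steps.fwd (nat_lit 4096) (Steps.bwd (nat_lit 2) Steps.nil))))))))))))))))) (nat_lit 6) (nat_lit 0),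
  Rule.mk (nat_lit 3) (nat_lit 225) (Steps.bwd (nat_lit 1) (Steps.bwd (nat_lit 2) (Steps.bwd (nat_lit 1) (Steps.fwd (nat_lit 8192) (Steps.bwd (nat_lit 1) (Steps.bwd (nat_lit 3) (Steps.bwd (nat_lit 3) (Steps.fwd (nat_lit 4096) (Steps.fwd (nat_lit 12288) (Steps.bwd (nat_lit 1) (Steps.bwd (nat_lit 3) (Steps.fwd (nat_lit 4096) (Steps.bwd (nat_lit 2) (Steps.bwd (nat_lit 1) (Steps.bwd (nat_lit 2) (Steps.bwd (nat_lit 1) (Steps.fwd (nat_lit 8192) (Steps.fwd (nat_lit 4096) Steps.nil)))))))))))))))))) (nat_lit 8) (nat_lit 12),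
  Rule.mk (nat_lit 1) (nat_lit 213) (Steps.bwd (nat_lit 3) (Steps.bwd (nat_lit 3) (Steps.bwd (nat_lit 1) (Steps.fwd (nat_lit 8192) (Steps.fwd (nat_lit 8192) (Steps.bwd (nat_lit 1) (Steps.bwd (nat_lit 3) (Steps.bwd (nat_lit 3) (Steps.fwd (nat_lit 4096) (Steps.fwd (nat_lit 8192) (Steps.fwd (nat_lit 8192) (Steps.fwd (nat_lit 4096) (Steps.fwd (nat_lit 8192) (Steps.fwd (nat_lit 8192) (Steps.fwd (nat_lit 4096) (Steps.fwd (nat_lit 8192) (Steps.bwd (nat_lit 3) Steps.nil))))))))))))))))) (nat_lit 7) (nat_lit 0),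
  Rule.mk (nat_lit 3) (nat_lit 225) (Steps.bwd (nat_lit 1) (Steps.bwd (nat_lit 2) (Steps.bwd (nat_lit 1) (Steps.bwd (nat_lit 3) (Steps.bwd (nat_lit 1) (Steps.bwd (nat_lit 3) (Steps.bwd (nat_lit 3) (Steps.bwd (nat_lit 1) (Steps.fwd (nat_lit 12288) (Steps.bwd (nat_lit 1) (Steps.fwd (nat_lit 8192) (Steps.fwd (nat_lit 4096) (Steps.fwd (nat_lit 12288) (Steps.bwd (nat_lit 1) (Steps.bwd (nat_lit 2) (Steps.fwd (nat_lit 4096) (Steps.fwd (nat_lit 8192) (Steps.fwd (nat_lit 4096) Steps.nil)))))))))))))))))) (nat_lit 8) (nat_lit 12),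
  Rule.mk (nat_lit 1) (nat_lit 225) (Steps.bwd (nat_lit 3) (Steps.bwd (nat_lit 1) (Steps.fwd (nat_lit 8192) (Steps.fwd (nat_lit 8192) (Steps.bwd (nat_lit 1) (Steps.bwd (nat_lit 2) (Steps.bwd (nat_lit 1) (Steps.fwd (nat_lit 8192) (Steps.fwd (nat_lit 4096) (Steps.bwd (nat_lit 2) (Steps.bwd (nat_lit 1) (Steps.bwd (nat_lit 2) (Steps.bwd (nat_lit 1) (Steps.bwd (nat_lit 3) (Steps.fwd (nat_lit 4096) (Steps.fwd (nat_lit 8192) (Steps.fwd (nat_lit 4096) (Steps.bwd (nat_lit 2) Steps.nil)))))))))))))))))) (nat_lit 8) (nat_lit 15),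
  Rule.mk (nat_lit 2) (nat_lit 225) (Steps.bwd (nat_lit 1) (Steps.fwd (nat_lit 8192) (Steps.bwd (nat_lit 1) (Steps.bwd (nat_lit 3) (Steps.fwd (nat_lit 8192) (Steps.fwd (nat_lit 4096) (Steps.bwd (nat_lit 2) (Steps.fwd (nat_lit 4096) (Steps.bwd (nat_lit 3) (Steps.fwd (nat_lit 4096) (Steps.fwd (nat_lit 12288) (Steps.bwd (nat_lit 1) (Steps.fwd (nat_lit 12288) (Steps.fwd (nat_lit 4096) (Steps.fwd (nat_lit 8192) (Steps.bwd (nat_lit 1) (Steps.fwd (nat_lit 8192) (Steps.fwd (nat_lit 4096) Steps.nil)))))))))))))))))) (nat_lit 8) (nat_lit 14),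
  Rule.mk (nat_lit 2) (nat_lit 213) (Steps.bwd (nat_lit 1) (Steps.bwd (nat_lit 2) (Steps.bwd (nat_lit 2) (Steps.bwd (nat_lit 1) (Steps.fwd (nat_lit 12288) (Steps.bwd (nat_lit 2) (Steps.bwd (nat_lit 1) (Steps.fwd (nat_lit 12288) (Steps.fwd (nat_lit 12288) (Steps.fwd (nat_lit 4096) (Steps.fwd (nat_lit 12288) (Steps.fwd (nat_lit 12288) (Steps.fwd (nat_lit 4096) (Steps.bwd (nat_lit 2) (Steps.bwd (nat_lit 2) (Steps.fwd (nat_lit 4096) (Steps.bwd (nat_lit 2) Steps.nil))))))))))))))))) (nat_lit 6) (nat_lit 0),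
  Rule.mk (nat_lit 2) (nat_lit 213) (Steps.bwd (nat_lit 1) (Steps.bwd (nat_lit 2) (Steps.fwd (nat_lit 12288) (Steps.fwd (nat_lit 4096) (Steps.fwd (nat_lit 12288) (Steps.fwd (nat_lit 12288) (Steps.bwd (nat_lit 1) (Steps.bwd (nat_lit 2) (Steps.fwd (nat_lit 12288) (Steps.fwd (nat_lit 4096) (Steps.fwd (nat_lit 12288) (Steps.bwd (nat_lit 2) (Steps.bwd (nat_lit 1) (Steps.bwd (nat_lit 2) (Steps.bwd (nat_lit 2) (Steps.fwd (nat_lit 4096) (Steps.bwd (nat_lit 2) Steps.nil))))))))))))))))) (nat_lit 6) (nat_lit 0),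
  Rule.mk (nat_lit 3) (nat_lit 213) (Steps.bwd (nat_lit 1) (Steps.bwd (nat_lit 3) (Steps.bwd (nat_lit 3) (Steps.fwd (nat_lit 4096) (Steps.fwd (nat_lit 8192) (Steps.bwd (nat_lit 3) (Steps.bwd (nat_lit 1) (Steps.bwd (nat_lit 3) (Steps.bwd (nat_lit 3) (Steps.fwd (nat_lit 4096) (Steps.fwd (nat_lit 8192) (Steps.fwd (nat_lit 8192) (Steps.bwd (nat_lit 1) (Steps.fwd (nat_lit 8192) (Steps.fwd (nat_lit 8192) (Steps.fwd (nat_lit 4096) (Steps.fwd (nat_lit 8192) Steps.nil))))))))))))))))) (nat_lit 7) (nat_lit 2),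
  Rule.mk (nat_lit 3) (nat_lit 213) (Steps.bwd (nat_lit 3) (Steps.bwd (nat_lit 1) (Steps.bwd (nat_lit 3) (Steps.fwd (nat_lit 8192) (Steps.fwd (nat_lit 4096) (Steps.bwd (nat_lit 3) (Steps.bwd (nat_lit 3) (Steps.fwd (nat_lit 4096) (Steps.fwd (nat_lit 8192) (Steps.bwd (nat_lit 3) (Steps.bwd (nat_lit 1) (Steps.bwd (nat_lit 3) (Steps.fwd (nat_lit 8192) (Steps.fwd (nat_lit 4096) (Steps.bwd (nat_lit 3) (Steps.bwd (nat_lit 3) (Steps.fwd (nat_lit 4096) Steps.nil))))))))))))))))) (nat_lit 7) (nat_lit 1),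
  Rule.mk (nat_lit 1) (nat_lit 225) (Steps.bwd (nat_lit 3) (Steps.bwd (nat_lit 1) (Steps.bwd (nat_lit 3) (Steps.fwd (nat_lit 8192) (Steps.fwd (nat_lit 4096) (Steps.fwd (nat_lit 12288) (Steps.fwd (nat_lit 4096) (Steps.fwd (nat_lit 8192) (Steps.fwd (nat_lit 4096) (Steps.fwd (nat_lit 12288) (Steps.fwd (nat_lit 4096) (Steps.fwd (nat_lit 12288) (Steps.fwd (nat_lit 4096) (Steps.fwd (nat_lit 8192) (Steps.fwd (nat_lit 4096) (Steps.bwd (nat_lit 3) (Steps.fwd (nat_lit 4096) (Steps.fwd (nat_lit 12288) Steps.nil)))))))))))))))))) (nat_lit 8) (nat_lit 15),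
  Rule.mk (nat_lit 1) (nat_lit 225) (Steps.bwd (nat_lit 3) (Steps.fwd (nat_lit 8192) (Steps.bwd (nat_lit 1) (Steps.bwd (nat_lit 2) (Steps.bwd (nat_lit 1) (Steps.bwd (nat_lit 3) (Steps.bwd (nat_lit 1) (Steps.bwd (nat_lit 2) (Steps.bwd (nat_lit 1) (Steps.fwd (nat_lit 12288) (Steps.fwd (nat_lit 4096) (Steps.fwd (nat_lit 8192) (Steps.fwd (nat_lit 4096) (Steps.fwd (nat_lit 8192) (Steps.fwd (nat_lit 4096) (Steps.fwd (nat_lit 12288) (Steps.fwd (nat_lit 4096) (Steps.bwd (nat_lit 3) Steps.nil)))))))))))))))))) (nat_lit 8) (nat_lit 17),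
  Rule.mk (nat_lit 3) (nat_lit 225) (Steps.bwd (nat_lit 1) (Steps.fwd (nat_lit 8192) (Steps.bwd (nat_lit 1) (Steps.bwd (nat_lit 2) (Steps.bwd (nat_lit 1) (Steps.bwd (nat_lit 3) (Steps.bwd (nat_lit 1) (Steps.bwd (nat_lit 3) (Steps.bwd (nat_lit 3) (Steps.bwd (nat_lit 1) (Steps.fwd (nat_lit 12288) (Steps.fwd (nat_lit 4096) (Steps.fwd (nat_lit 8192) (Steps.fwd (nat_lit 4096) (Steps.fwd (nat_lit 12288) (Steps.fwd (nat_lit 4096) (Steps.bwd (nat_lit 2) (Steps.fwd (nat_lit 4096) Steps.nil)))))))))))))))))) (nat_lit 8) (nat_lit 10),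
  Rule.mk (nat_lit 2) (nat_lit 213) (Steps.bwd (nat_lit 2) (Steps.bwd (nat_lit 1) (Steps.bwd (nat_lit 2) (Steps.bwd (nat_lit 2) (Steps.bwd (nat_lit 1) (Steps.fwd (nat_lit 12288) (Steps.bwd (nat_lit 2) (Steps.bwd (nat_lit 1) (Steps.bwd (nat_lit 2) (Steps.fwd (nat_lit 12288) (Steps.fwd (nat_lit 4096) (Steps.fwd (nat_lit 12288) (Steps.fwd (nat_lit 12288) (Steps.fwd (nat_lit 4096) (Steps.fwd (nat_lit 12288) (Steps.fwd (nat_lit 12288) (Steps.fwd (nat_lit 4096) Steps.nil))))))))))))))))) (nat_lit 6) (nat_lit 2),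
  Rule.mk (nat_lit 1) (nat_lit 225) (Steps.bwd (nat_lit 2) (Steps.bwd (nat_lit 1) (Steps.bwd (nat_lit 3) (Steps.bwd (nat_lit 1) (Steps.bwd (nat_lit 3) (Steps.bwd (nat_lit 3) (Steps.bwd (nat_lit 1) (Steps.bwd (nat_lit 2) (Steps.fwd (nat_lit 4096) (Steps.fwd (nat_lit 8192) (Steps.fwd (nat_lit 4096) (Steps.bwd (nat_lit 2) (Steps.fwd (nat_lit 4096) (Steps.bwd (nat_lit 2) (Steps.bwd (nat_lit 1) (Steps.bwd (nat_lit 3) (Steps.fwd (nat_lit 4096) (Steps.fwd (nat_lit 8192) Steps.nil)))))))))))))))))) (nat_lit 8) (nat_lit 13),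
  Rule.mk (nat_lit 2) (nat_lit 213) (Steps.bwd (nat_lit 1) (Steps.bwd (nat_lit 2) (Steps.bwd (nat_lit 2) (Steps.bwd (nat_lit 1) (Steps.bwd (nat_lit 2) (Steps.fwd (nat_lit 12288) (Steps.fwd (nat_lit 4096) (Steps.fwd (nat_lit 12288) (Steps.fwd (nat_lit 12288) (Steps.bwd (nat_lit 1) (Steps.fwd (nat_lit 12288) (Steps.fwd (nat_lit 12288) (Steps.fwd (nat_lit 4096) (Steps.bwd (nat_lit 2) (Steps.bwd (nat_lit 2) (Steps.fwd (nat_lit 4096) (Steps.bwd (nat_lit 2) Steps.nil))))))))))))))))) (nat_lit 6) (nat_lit 0),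
  Rule.mk (nat_lit 2) (nat_lit 225) (Steps.bwd (nat_lit 1) (Steps.fwd (nat_lit 8192) (Steps.fwd (nat_lit 4096) (Steps.bwd (nat_lit 3) (Steps.bwd (nat_lit 3) (Steps.bwd (nat_lit 1) (Steps.fwd (nat_lit 12288) (Steps.fwd (nat_lit 4096) (Steps.fwd (nat_lit 8192) (Steps.fwd (nat_lit 4096) (Steps.fwd (nat_lit 12288) (Steps.bwd (nat_lit 1) (Steps.fwd (nat_lit 12288) (Steps.fwd (nat_lit 4096) (Steps.bwd (nat_lit 3) (Steps.bwd (nat_lit 1) (Steps.bwd (nat_lit 3) (Steps.fwd (nat_lit 4096) Steps.nil)))))))))))))))))) (nat_lit 8) (nat_lit 14),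
  Rule.mk (nat_lit 1) (nat_lit 225) (Steps.bwd (nat_lit 2) (Steps.bwd (nat_lit 1) (Steps.bwd (nat_lit 3) (Steps.bwd (nat_lit 1) (Steps.bwd (nat_lit 3) (Steps.bwd (nat_lit 3) (Steps.bwd (nat_lit 1) (Steps.bwd (nat_lit 2) (Steps.bwd (nat_lit 1) (Steps.bwd (nat_lit 3) (Steps.fwd (nat_lit 4096) (Steps.fwd (nat_lit 12288) (Steps.fwd (nat_lit 4096) (Steps.bwd (nat_lit 2) (Steps.bwd (nat_lit 1) (Steps.bwd (nat_lit 3) (Steps.fwd (nat_lit 4096) (Steps.fwd (nat_lit 8192) Steps.nil)))))))))))))))))) (nat_lit 8) (nat_lit 13),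
  Rule.mk (nat_lit 3) (nat_lit 225) (Steps.bwd (nat_lit 1) (Steps.bwd (nat_lit 3) (Steps.bwd (nat_lit 1) (Steps.bwd (nat_lit 2) (Steps.bwd (nat_lit 1) (Steps.bwd (nat_lit 3) (Steps.fwd (nat_lit 4096) (Steps.fwd (nat_lit 8192) (Steps.bwd (nat_lit 3) (Steps.fwd (nat_lit 4096) (Steps.fwd (nat_lit 12288) (Steps.bwd (nat_lit 1) (Steps.bwd (nat_lit 3) (Steps.fwd (nat_lit 4096) (Steps.fwd (nat_lit 12288) (Steps.bwd (nat_lit 1) (Steps.bwd (nat_lit 2) (Steps.fwd (nat_lit 4096) Steps.nil)))))))))))))))))) (nat_lit 8) (nat_lit 10),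
  Rule.mk (nat_lit 3) (nat_lit 213) (Steps.bwd (nat_lit 1) (Steps.fwd (nat_lit 8192) (Steps.fwd (nat_lit 8192) (Steps.bwd (nat_lit 1) (Steps.bwd (nat_lit 3) (Steps.bwd (nat_lit 3) (Steps.bwd (nat_lit 1) (Steps.bwd (nat_lit 3) (Steps.bwd (nat_lit 3) (Steps.fwd (nat_lit 4096) (Steps.fwd (nat_lit 8192) (Steps.bwd (nat_lit 3) (Steps.bwd (nat_lit 1) (Steps.bwd (nat_lit 3) (Steps.fwd (nat_lit 8192) (Steps.fwd (nat_lit 4096) (Steps.bwd (nat_lit 3) Steps.nil))))))))))))))))) (nat_lit 7) (nat_lit 2),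
  Rule.mk (nat_lit 1) (nat_lit 225) (Steps.bwd (nat_lit 2) (Steps.bwd (nat_lit 1) (Steps.fwd (nat_lit 8192) (Steps.bwd (nat_lit 1) (Steps.bwd (nat_lit 3) (Steps.bwd (nat_lit 1) (Steps.bwd (nat_lit 2) (Steps.bwd (nat_lit 1) (Steps.fwd (nat_lit 8192) (Steps.fwd (nat_lit 4096) (Steps.fwd (nat_lit 8192) (Steps.fwd (nat_lit 8192) (Steps.fwd (nat_lit 4096) (Steps.fwd (nat_lit 12288) (Steps.fwd (nat_lit 4096) (Steps.fwd (nat_lit 8192) (Steps.fwd (nat_lit 4096) (Steps.fwd (nat_lit 12288) Steps.nil)))))))))))))))))) (nat_lit 8) (nat_lit 7),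
  Rule.mk (nat_lit 1) (nat_lit 213) (Steps.bwd (nat_lit 2) (Steps.bwd (nat_lit 2) (Steps.bwd (nat_lit 1) (Steps.bwd (nat_lit 2) (Steps.bwd (nat_lit 2) (Steps.bwd (nat_lit 1) (Steps.fwd (nat_lit 12288) (Steps.fwd (nat_lit 12288) (Steps.bwd (nat_lit 1) (Steps.bwd (nat_lit 2) (Steps.bwd (nat_lit 2) (Steps.fwd (nat_lit 4096) (Steps.bwd (nat_lit 2) (Steps.bwd (nat_lit 2) (Steps.fwd (nat_lit 4096) (Steps.bwd (nat_lit 2) (Steps.bwd (nat_lit 2) Steps.nil))))))))))))))))) (nat_lit 6) (nat_lit 1),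
  Rule.mk (nat_lit 1) (nat_lit 213) (Steps.bwd (nat_lit 2) (Steps.bwd (nat_lit 2) (Steps.bwd (nat_lit 1) (Steps.fwd (nat_lit 12288) (Steps.fwd (nat_lit 12288) (Steps.fwd (nat_lit 4096) (Steps.fwd (nat_lit 12288) (Steps.bwd (nat_lit 2) (Steps.bwd (nat_lit 1) (Steps.bwd (nat_lit 2) (Steps.fwd (nat_lit 12288) (Steps.fwd (nat_lit 4096) (Steps.fwd (nat_lit 12288) (Steps.fwd (nat_lit 12288) (Steps.bwd (nat_lit 1) (Steps.fwd (nat_lit 12288) (Steps.fwd (nat_lit 12288) Steps.nil))))))))))))))))) (nat_lit 6) (nat_lit 1),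
  Rule.mk (nat_lit 1) (nat_lit 225) (Steps.bwd (nat_lit 3) (Steps.bwd (nat_lit 1) (Steps.bwd (nat_lit 3) (Steps.bwd (nat_lit 3) (Steps.bwd (nat_lit 1) (Steps.bwd (nat_lit 2) (Steps.bwd (nat_lit 1) (Steps.fwd (nat_lit 8192) (Steps.fwd (nat_lit 4096) (Steps.fwd (nat_lit 12288) (Steps.fwd (nat_lit 4096) (Steps.fwd (nat_lit 12288) (Steps.fwd (nat_lit 4096) (Steps.fwd (nat_lit 8192) (Steps.fwd (nat_lit 4096) (Steps.bwd (nat_lit 3) (Steps.fwd (nat_lit 4096) (Steps.bwd (nat_lit 2) Steps.nil)))))))))))))))))) (nat_lit 8) (nat_lit 15),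
  Rule.mk (nat_lit 1) (nat_lit 213) (Steps.bwd (nat_lit 3) (Steps.bwd (nat_lit 3) (Steps.bwd (nat_lit 1) (Steps.bwd (nat_lit 3) (Steps.bwd (nat_lit 3) (Steps.bwd (nat_lit 1) (Steps.bwd (nat_lit 3) (Steps.bwd (nat_lit 3) (Steps.fwd (nat_lit 4096) (Steps.fwd (nat_lit 8192) (Steps.bwd (nat_lit 3) (Steps.bwd (nat_lit 1) (Steps.bwd (nat_lit 3) (Steps.fwd (nat_lit 8192) (Steps.fwd (nat_lit 4096) (Steps.fwd (nat_lit 8192) (Steps.bwd (nat_lit 3) Steps.nil))))))))))))))))) (nat_lit 7) (nat_lit 0),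
  Rule.mk (nat_lit 3) (nat_lit 225) (Steps.bwd (nat_lit 1) (Steps.fwd (nat_lit 8192) (Steps.fwd (nat_lit 8192) (Steps.bwd (nat_lit 1) (Steps.bwd (nat_lit 2) (Steps.bwd (nat_lit 1) (Steps.bwd (nat_lit 3) (Steps.bwd (nat_lit 1) (Steps.fwd (nat_lit 12288) (Steps.fwd (nat_lit 4096) (Steps.bwd (nat_lit 2) (Steps.bwd (nat_lit 1) (Steps.fwd (nat_lit 8192) (Steps.fwd (nat_lit 4096) (Steps.fwd (nat_lit 8192) (Steps.fwd (nat_lit 4096) (Steps.bwd (nat_lit 2) (Steps.fwd (nat_lit 4096) Steps.nil)))))))))))))))))) (nat_lit 8) (nat_lit 16),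
  Rule.mk (nat_lit 1) (nat_lit 213) (Steps.bwd (nat_lit 3) (Steps.bwd (nat_lit 3) (Steps.bwd (nat_lit 1) (Steps.fwd (nat_lit 8192) (Steps.fwd (nat_lit 8192) (Steps.bwd (nat_lit 1) (Steps.fwd (nat_lit 8192) (Steps.fwd (nat_lit 8192) (Steps.bwd (nat_lit 1) (Steps.fwd (nat_lit 8192) (Steps.bwd (nat_lit 3) (Steps.bwd (nat_lit 1) (Steps.bwd (nat_lit 3) (Steps.bwd (nat_lit 3) (Steps.fwd (nat_lit 4096) (Steps.fwd (nat_lit 8192) (Steps.bwd (nat_lit 3) Steps.nil))))))))))))))))) (nat_lit 7) (nat_lit 0),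
  Rule.mk (nat_lit 3) (nat_lit 225) (Steps.bwd (nat_lit 1) (Steps.fwd (nat_lit 8192) (Steps.fwd (nat_lit 8192) (Steps.bwd (nat_lit 1) (Steps.fwd (nat_lit 12288) (Steps.bwd (nat_lit 1) (Steps.bwd (nat_lit 3) (Steps.bwd (nat_lit 1) (Steps.fwd (nat_lit 12288) (Steps.bwd (nat_lit 1) (Steps.fwd (nat_lit 12288) (Steps.bwd (nat_lit 1) (Steps.bwd (nat_lit 3) (Steps.fwd (nat_lit 4096) (Steps.fwd (nat_lit 8192) (Steps.fwd (nat_lit 4096) (Steps.bwd (nat_lit 2) (Steps.fwd (nat_lit 4096) Steps.nil)))))))))))))))))) (nat_lit 8) (nat_lit 16),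
  Rule.mk (nat_lit 3) (nat_lit 213) (Steps.bwd (nat_lit 1) (Steps.bwd (nat_lit 3) (Steps.bwd (nat_lit 3) (Steps.bwd (nat_lit 1) (Steps.bwd (nat_lit 3) (Steps.bwd (nat_lit 3) (Steps.bwd (nat_lit 1) (Steps.bwd (nat_lit 3) (Steps.fwd (nat_lit 8192) (Steps.fwd (nat_lit 4096) (Steps.bwd (nat_lit 3) (Steps.bwd (nat_lit 3) (Steps.fwd (nat_lit 4096) (Steps.fwd (nat_lit 8192) (Steps.fwd (nat_lit 8192) (Steps.fwd (nat_lit 4096) (Steps.bwd (nat_lit 3) Steps.nil))))))))))))))))) (nat_lit 7) (nat_lit 2),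
  Rule.mk (nat_lit 2) (nat_lit 213) (Steps.bwd (nat_lit 1) (Steps.fwd (nat_lit 12288) (Steps.fwd (nat_lit 12288) (Steps.fwd (nat_lit 4096) (Steps.bwd (nat_lit 2) (Steps.bwd (nat_lit 2) (Steps.fwd (nat_lit 4096) (Steps.bwd (nat_lit 2) (Steps.fwd (nat_lit 12288) (Steps.fwd (nat_lit 4096) (Steps.fwd (nat_lit 12288) (Steps.fwd (nat_lit 12288) (Steps.fwd (nat_lit 4096) (Steps.bwd (nat_lit 2) (Steps.bwd (nat_lit 2) (Steps.fwd (nat_lit 4096) (Steps.fwd (nat_lit 12288) Steps.nil))))))))))))))))) (nat_lit 6) (nat_lit 0),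
  Rule.mk (nat_lit 3) (nat_lit 213) (Steps.bwd (nat_lit 1) (Steps.bwd (nat_lit 3) (Steps.fwd (nat_lit 8192) (Steps.fwd (nat_lit 4096) (Steps.fwd (nat_lit 8192) (Steps.fwd (nat_lit 8192) (Steps.fwd (nat_lit 4096) (Steps.bwd (nat_lit 3) (Steps.bwd (nat_lit 3) (Steps.fwd (nat_lit 4096) (Steps.bwd (nat_lit 3) (Steps.bwd (nat_lit 3) (Steps.fwd (nat_lit 4096) (Steps.fwd (nat_lit 8192) (Steps.fwd (nat_lit 8192) (Steps.fwd (nat_lit 4096) (Steps.bwd (nat_lit 3) Steps.nil))))))))))))))))) (nat_lit 7) (nat_lit 2),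
  Rule.mk (nat_lit 3) (nat_lit 225) (Steps.bwd (nat_lit 1) (Steps.bwd (nat_lit 3) (Steps.bwd (nat_lit 3) (Steps.bwd (nat_lit 1) (Steps.bwd (nat_lit 2) (Steps.bwd (nat_lit 1) (Steps.fwd (nat_lit 8192) (Steps.bwd (nat_lit 1) (Steps.bwd (nat_lit 2) (Steps.fwd (nat_lit 4096) (Steps.fwd (nat_lit 12288) (Steps.fwd (nat_lit 4096) (Steps.bwd (nat_lit 3) (Steps.bwd (nat_lit 1) (Steps.bwd (nat_lit 3) (Steps.fwd (nat_lit 4096) (Steps.fwd (nat_lit 12288) (Steps.fwd (nat_lit 4096) Steps.nil)))))))))))))))))) (nat_lit 8) (nat_lit 16)]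
noncomputable def R_7 : List (Rule) := [Rule.mk (nat_lit 3) (nat_lit 213) (Steps.bwd (nat_lit 1) (Steps.bwd (nat_lit 3) (Steps.bwd (nat_lit 3) (Steps.bwd (nat_lit 1) (Steps.fwd (nat_lit 8192) (Steps.fwd (nat_lit 8192) (Steps.fwd (nat_lit 4096) (Steps.fwd (nat_lit 8192) (Steps.bwd (nat_lit 3) (Steps.bwd (nat_lit 1) (Steps.bwd (nat_lit 3) (Steps.fwd (nat_lit 8192) (Steps.fwd (nat_lit 4096) (Steps.bwd (nat_lit 3) (Steps.bwd (nat_lit 3) (Steps.fwd (nat_lit 4096) (Steps.bwd (nat_lit 3) Steps.nil))))))))))))))))) (nat_lit 7) (nat_lit 2),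
  Rule.mk (nat_lit 1) (nat_lit 213) (Steps.bwd (nat_lit 2) (Steps.bwd (nat_lit 2) (Steps.bwd (nat_lit 1) (Steps.fwd (nat_lit 12288) (Steps.fwd (nat_lit 12288) (Steps.bwd (nat_lit 1) (Steps.fwd (nat_lit 12288) (Steps.fwd (nat_lit 12288) (Steps.fwd (nat_lit 4096) (Steps.bwd (nat_lit 2) (Steps.bwd (nat_lit 2) (Steps.fwd (nat_lit 4096) (Steps.fwd (nat_lit 12288) (Steps.fwd (nat_lit 12288) (Steps.fwd (nat_lit 4096) (Steps.fwd (nat_lit 12288) (Steps.fwd (nat_lit 12288) Steps.nil))))))))))))))))) (nat_lit 6) (nat_lit 1),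
  Rule.mk (nat_lit 3) (nat_lit 225) (Steps.bwd (nat_lit 1) (Steps.fwd (nat_lit 8192) (Steps.bwd (nat_lit 3) (Steps.bwd (nat_lit 1) (Steps.bwd (nat_lit 2) (Steps.bwd (nat_lit 1) (Steps.fwd (nat_lit 8192) (Steps.bwd (nat_lit 1) (Steps.bwd (nat_lit 2) (Steps.bwd (nat_lit 1) (Steps.fwd (nat_lit 12288) (Steps.fwd (nat_lit 4096) (Steps.fwd (nat_lit 8192) (Steps.fwd (nat_lit 4096) (Steps.bwd (nat_lit 3) (Steps.fwd (nat_lit 4096) (Steps.fwd (nat_lit 12288) (Steps.fwd (nat_lit 4096) Steps.nil)))))))))))))))))) (nat_lit 8) (nat_lit 16),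
  Rule.mk (nat_lit 3) (nat_lit 213) (Steps.bwd (nat_lit 3) (Steps.bwd (nat_lit 1) (Steps.bwd (nat_lit 3) (Steps.bwd (nat_lit 3) (Steps.bwd (nat_lit 1) (Steps.fwd (nat_lit 8192) (Steps.fwd (nat_lit 8192) (Steps.bwd (nat_lit 1) (Steps.bwd (nat_lit 3) (Steps.bwd (nat_lit 3) (Steps.fwd (nat_lit 4096) (Steps.bwd (nat_lit 3) (Steps.bwd (nat_lit 3) (Steps.fwd (nat_lit 4096) (Steps.bwd (nat_lit 3) (Steps.bwd (nat_lit 3) (Steps.fwd (nat_lit 4096) Steps.nil))))))))))))))))) (nat_lit 7) (nat_lit 1),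
  Rule.mk (nat_lit 2) (nat_lit 225) (Steps.bwd (nat_lit 1) (Steps.bwd (nat_lit 3) (Steps.fwd (nat_lit 4096) (Steps.bwd (nat_lit 3) (Steps.bwd (nat_lit 3) (Steps.fwd (nat_lit 4096) (Steps.fwd (nat_lit 12288) (Steps.bwd (nat_lit 1) (Steps.bwd (nat_lit 3) (Steps.bwd (nat_lit 1) (Steps.bwd (nat_lit 2) (Steps.bwd (nat_lit 1) (Steps.fwd (nat_lit 12288) (Steps.fwd (nat_lit 4096) (Steps.fwd (nat_lit 8192) (Steps.fwd (nat_lit 4096) (Steps.fwd (nat_lit 8192) (Steps.fwd (nat_lit 4096) Steps.nil)))))))))))))))))) (nat_lit 8) (nat_lit 14),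
  Rule.mk (nat_lit 2) (nat_lit 213) (Steps.bwd (nat_lit 1) (Steps.bwd (nat_lit 2) (Steps.bwd (nat_lit 2) (Steps.bwd (nat_lit 1) (Steps.fwd (nat_lit 12288) (Steps.bwd (nat_lit 2) (Steps.bwd (nat_lit 1) (Steps.fwd (nat_lit 12288) (Steps.bwd (nat_lit 2) (Steps.fwd (nat_lit 4096) (Steps.fwd (nat_lit 12288) (Steps.fwd (nat_lit 12288) (Steps.fwd (nat_lit 4096) (Steps.bwd (nat_lit 2) (Steps.bwd (nat_lit 2) (Steps.fwd (nat_lit 4096) (Steps.bwd (nat_lit 2) Steps.nil))))))))))))))))) (nat_lit 6) (nat_lit 0),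
  Rule.mk (nat_lit 1) (nat_lit 213) (Steps.bwd (nat_lit 3) (Steps.fwd (nat_lit 8192) (Steps.bwd (nat_lit 1) (Steps.bwd (nat_lit 3) (Steps.bwd (nat_lit 3) (Steps.bwd (nat_lit 1) (Steps.bwd (nat_lit 3) (Steps.fwd (nat_lit 8192) (Steps.fwd (nat_lit 4096) (Steps.fwd (nat_lit 8192) (Steps.fwd (nat_lit 8192) (Steps.fwd (nat_lit 4096) (Steps.fwd (nat_lit 8192) (Steps.bwd (nat_lit 3) (Steps.fwd (nat_lit 4096) (Steps.fwd (nat_lit 8192) (Steps.fwd (nat_lit 8192) Steps.nil))))))))))))))))) (nat_lit 7) (nat_lit 0),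
  Rule.mk (nat_lit 1) (nat_lit 213) (Steps.bwd (nat_lit 2) (Steps.fwd (nat_lit 12288) (Steps.bwd (nat_lit 1) (Steps.bwd (nat_lit 2) (Steps.bwd (nat_lit 2) (Steps.bwd (nat_lit 1) (Steps.bwd (nat_lit 2) (Steps.bwd (nat_lit 2) (Steps.bwd (nat_lit 1) (Steps.bwd (nat_lit 2) (Steps.fwd (nat_lit 12288) (Steps.fwd (nat_lit 4096) (Steps.fwd (nat_lit 12288) (Steps.fwd (nat_lit 12288) (Steps.fwd (nat_lit 4096) (Steps.fwd (nat_lit 12288) (Steps.fwd (nat_lit 12288) Steps.nil))))))))))))))))) (nat_lit 6) (nat_lit 1),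
  Rule.mk (nat_lit 3) (nat_lit 213) (Steps.bwd (nat_lit 1) (Steps.bwd (nat_lit 3) (Steps.bwd (nat_lit 3) (Steps.bwd (nat_lit 1) (Steps.fwd (nat_lit 8192) (Steps.fwd (nat_lit 8192) (Steps.bwd (nat_lit 1) (Steps.bwd (nat_lit 3) (Steps.bwd (nat_lit 3) (Steps.fwd (nat_lit 4096) (Steps.fwd (nat_lit 8192) (Steps.bwd (nat_lit 3) (Steps.bwd (nat_lit 1) (Steps.bwd (nat_lit 3) (Steps.bwd (nat_lit 3) (Steps.fwd (nat_lit 4096) (Steps.bwd (nat_lit 3) Steps.nil))))))))))))))))) (nat_lit 7) (nat_lit 2),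
  Rule.mk (nat_lit 1) (nat_lit 225) (Steps.bwd (nat_lit 2) (Steps.bwd (nat_lit 1) (Steps.bwd (nat_lit 3) (Steps.bwd (nat_lit 1) (Steps.fwd (nat_lit 8192) (Steps.bwd (nat_lit 3) (Steps.bwd (nat_lit 1) (Steps.bwd (nat_lit 2) (Steps.bwd (nat_lit 1) (Steps.bwd (nat_lit 3) (Steps.fwd (nat_lit 4096) (Steps.fwd (nat_lit 12288) (Steps.fwd (nat_lit 4096) (Steps.fwd (nat_lit 12288) (Steps.fwd (nat_lit 4096) (Steps.fwd (nat_lit 8192) (Steps.fwd (nat_lit 4096) (Steps.fwd (nat_lit 8192) Steps.nil)))))))))))))))))) (nat_lit 8) (nat_lit 13),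
  Rule.mk (nat_lit 3) (nat_lit 225) (Steps.bwd (nat_lit 1) (Steps.bwd (nat_lit 2) (Steps.bwd (nat_lit 1) (Steps.bwd (nat_lit 3) (Steps.fwd (nat_lit 4096) (Steps.fwd (nat_lit 8192) (Steps.bwd (nat_lit 3) (Steps.bwd (nat_lit 1) (Steps.bwd (nat_lit 2) (Steps.bwd (nat_lit 1) (Steps.fwd (nat_lit 8192) (Steps.fwd (nat_lit 4096) (Steps.bwd (nat_lit 2) (Steps.bwd (nat_lit 1) (Steps.fwd (nat_lit 12288) (Steps.fwd (nat_lit 4096) (Steps.bwd (nat_lit 3) (Steps.fwd (nat_lit 4096) Steps.nil)))))))))))))))))) (nat_lit 8) (nat_lit 12),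
  Rule.mk (nat_lit 3) (nat_lit 225) (Steps.bwd (nat_lit 1) (Steps.bwd (nat_lit 3) (Steps.fwd (nat_lit 8192) (Steps.fwd (nat_lit 4096) (Steps.fwd (nat_lit 12288) (Steps.bwd (nat_lit 1) (Steps.bwd (nat_lit 3) (Steps.fwd (nat_lit 4096) (Steps.fwd (nat_lit 12288) (Steps.bwd (nat_lit 1) (Steps.fwd (nat_lit 12288) (Steps.bwd (nat_lit 1) (Steps.bwd (nat_lit 3) (Steps.fwd (nat_lit 4096) (Steps.bwd (nat_lit 3) (Steps.fwd (nat_lit 4096) (Steps.fwd (nat_lit 12288) (Steps.fwd (nat_lit 4096) Steps.nil)))))))))))))))))) (nat_lit 8) (nat_lit 16),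
  Rule.mk (nat_lit 1) (nat_lit 213) (Steps.bwd (nat_lit 2) (Steps.bwd (nat_lit 2) (Steps.bwd (nat_lit 1) (Steps.bwd (nat_lit 2) (Steps.fwd (nat_lit 12288) (Steps.fwd (nat_lit 4096) (Steps.fwd (nat_lit 12288) (Steps.fwd (nat_lit 12288) (Steps.fwd (nat_lit 4096) (Steps.fwd (nat_lit 12288) (Steps.fwd (nat_lit 12288) (Steps.fwd (nat_lit 4096) (Steps.fwd (nat_lit 12288) (Steps.fwd (nat_lit 12288) (Steps.fwd (nat_lit 4096) (Steps.fwd (nat_lit 12288) (Steps.bwd (nat_lit 2) Steps.nil))))))))))))))))) (nat_lit 6) (nat_lit 1),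
  Rule.mk (nat_lit 3) (nat_lit 225) (Steps.bwd (nat_lit 1) (Steps.fwd (nat_lit 8192) (Steps.fwd (nat_lit 8192) (Steps.bwd (nat_lit 1) (Steps.fwd (nat_lit 12288) (Steps.fwd (nat_lit 4096) (Steps.bwd (nat_lit 3) (Steps.bwd (nat_lit 1) (Steps.bwd (nat_lit 2) (Steps.bwd (nat_lit 1) (Steps.bwd (nat_lit 2) (Steps.bwd (nat_lit 1) (Steps.bwd (nat_lit 3) (Steps.fwd (nat_lit 4096) (Steps.fwd (nat_lit 8192) (Steps.fwd (nat_lit 4096) (Steps.fwd (nat_lit 12288) (Steps.fwd (nat_lit 4096) Steps.nil)))))))))))))))))) (nat_lit 8) (nat_lit 16),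
  Rule.mk (nat_lit 1) (nat_lit 225) (Steps.bwd (nat_lit 3) (Steps.bwd (nat_lit 3) (Steps.bwd (nat_lit 1) (Steps.bwd (nat_lit 2) (Steps.bwd (nat_lit 1) (Steps.bwd (nat_lit 3) (Steps.bwd (nat_lit 1) (Steps.bwd (nat_lit 2) (Steps.bwd (nat_lit 1) (Steps.fwd (nat_lit 12288) (Steps.fwd (nat_lit 4096) (Steps.fwd (nat_lit 8192) (Steps.fwd (nat_lit 4096) (Steps.fwd (nat_lit 8192) (Steps.fwd (nat_lit 4096) (Steps.bwd (nat_lit 2) (Steps.bwd (nat_lit 1) (Steps.fwd (nat_lit 8192) Steps.nil)))))))))))))))))) (nat_lit 8) (nat_lit 17),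
  Rule.mk (nat_lit 3) (nat_lit 225) (Steps.bwd (nat_lit 1) (Steps.bwd (nat_lit 2) (Steps.bwd (nat_lit 1) (Steps.bwd (nat_lit 3) (Steps.fwd (nat_lit 4096) (Steps.bwd (nat_lit 3) (Steps.bwd (nat_lit 3) (Steps.bwd (nat_lit 1) (Steps.bwd (nat_lit 2) (Steps.bwd (nat_lit 1) (Steps.bwd (nat_lit 3) (Steps.fwd (nat_lit 4096) (Steps.fwd (nat_lit 12288) (Steps.fwd (nat_lit 4096) (Steps.fwd (nat_lit 12288) (Steps.fwd (nat_lit 4096) (Steps.bwd (nat_lit 3) (Steps.fwd (nat_lit 4096) Steps.nil)))))))))))))))))) (nat_lit 8) (nat_lit 12),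
  Rule.mk (nat_lit 3) (nat_lit 213) (Steps.bwd (nat_lit 1) (Steps.fwd (nat_lit 8192) (Steps.fwd (nat_lit 8192) (Steps.fwd (nat_lit 4096) (Steps.fwd (nat_lit 8192) (Steps.fwd (nat_lit 8192) (Steps.bwd (nat_lit 1) (Steps.bwd (nat_lit 3) (Steps.bwd (nat_lit 3) (Steps.fwd (nat_lit 4096) (Steps.bwd (nat_lit 3) (Steps.fwd (nat_lit 8192) (Steps.fwd (nat_lit 4096) (Steps.bwd (nat_lit 3) (Steps.bwd (nat_lit 3) (Steps.fwd (nat_lit 4096) (Steps.bwd (nat_lit 3) Steps.nil))))))))))))))))) (nat_lit 7) (nat_lit 2),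
  Rule.mk (nat_lit 3) (nat_lit 225) (Steps.bwd (nat_lit 1) (Steps.bwd (nat_lit 3) (Steps.bwd (nat_lit 3) (Steps.bwd (nat_lit 1) (Steps.bwd (nat_lit 2) (Steps.bwd (nat_lit 1) (Steps.bwd (nat_lit 3) (Steps.bwd (nat_lit 1) (Steps.fwd (nat_lit 12288) (Steps.fwd (nat_lit 4096) (Steps.fwd (nat_lit 12288) (Steps.fwd (nat_lit 4096) (Steps.bwd (nat_lit 3) (Steps.bwd (nat_lit 1) (Steps.bwd (nat_lit 3) (Steps.fwd (nat_lit 4096) (Steps.bwd (nat_lit 2) (Steps.fwd (nat_lit 4096) Steps.nil)))))))))))))))))) (nat_lit 8) (nat_lit 16),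
  Rule.mk (nat_lit 3) (nat_lit 225) (Steps.bwd (nat_lit 1) (Steps.fwd (nat_lit 12288) (Steps.bwd (nat_lit 1) (Steps.bwd (nat_lit 3) (Steps.fwd (nat_lit 4096) (Steps.fwd (nat_lit 8192) (Steps.fwd (nat_lit 8192) (Steps.fwd (nat_lit 4096) (Steps.fwd (nat_lit 12288) (Steps.bwd (nat_lit 1) (Steps.fwd (nat_lit 8192) (Steps.bwd (nat_lit 1) (Steps.fwd (nat_lit 12288) (Steps.fwd (nat_lit 4096) (Steps.bwd (nat_lit 2) (Steps.fwd (nat_lit 4096) (Steps.bwd (nat_lit 3) (Steps.fwd (nat_lit 4096) Steps.nil)))))))))))))))))) (nat_lit 8) (nat_lit 12),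
  Rule.mk (nat_lit 2) (nat_lit 225) (Steps.bwd (nat_lit 1) (Steps.bwd (nat_lit 3) (Steps.bwd (nat_lit 1) (Steps.bwd (nat_lit 3) (Steps.bwd (nat_lit 3) (Steps.bwd (nat_lit 1) (Steps.bwd (nat_lit 2) (Steps.bwd (nat_lit 1) (Steps.fwd (nat_lit 8192) (Steps.fwd (nat_lit 4096) (Steps.fwd (nat_lit 12288) (Steps.fwd (nat_lit 4096) (Steps.bwd (nat_lit 2) (Steps.fwd (nat_lit 4096) (Steps.fwd (nat_lit 8192) (Steps.fwd (nat_lit 4096) (Steps.bwd (nat_lit 3) (Steps.fwd (nat_lit 4096) Steps.nil)))))))))))))))))) (nat_lit 8) (nat_lit 14),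
  Rule.mk (nat_lit 2) (nat_lit 213) (Steps.bwd (nat_lit 1) (Steps.bwd (nat_lit 2) (Steps.bwd (nat_lit 2) (Steps.bwd (nat_lit 1) (Steps.bwd (nat_lit 2) (Steps.bwd (nat_lit 2) (Steps.bwd (nat_lit 1) (Steps.bwd (nat_lit 2) (Steps.bwd (nat_lit 2) (Steps.fwd (nat_lit 4096) (Steps.bwd (nat_lit 2) (Steps.bwd (nat_lit 2) (Steps.fwd (nat_lit 4096) (Steps.fwd (nat_lit 12288) (Steps.fwd (nat_lit 12288) (Steps.fwd (nat_lit 4096) (Steps.bwd (nat_lit 2) Steps.nil))))))))))))))))) (nat_lit 6) (nat_lit 0),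
  Rule.mk (nat_lit 1) (nat_lit 213) (Steps.bwd (nat_lit 2) (Steps.bwd (nat_lit 2) (Steps.bwd (nat_lit 1) (Steps.fwd (nat_lit 12288) (Steps.fwd (nat_lit 12288) (Steps.fwd (nat_lit 4096) (Steps.bwd (nat_lit 2) (Steps.bwd (nat_lit 2) (Steps.fwd (nat_lit 4096) (Steps.fwd (nat_lit 12288) (Steps.fwd (nat_lit 12288) (Steps.bwd (nat_lit 1) (Steps.fwd (nat_lit 12288) (Steps.fwd (nat_lit 12288) (Steps.fwd (nat_lit 4096) (Steps.bwd (nat_lit 2) (Steps.bwd (nat_lit 2) Steps.nil))))))))))))))))) (nat_lit 6) (nat_lit 1),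
  Rule.mk (nat_lit 1) (nat_lit 213) (Steps.bwd (nat_lit 2) (Steps.fwd (nat_lit 12288) (Steps.bwd (nat_lit 1) (Steps.fwd (nat_lit 12288) (Steps.fwd (nat_lit 12288) (Steps.bwd (nat_lit 1) (Steps.fwd (nat_lit 12288) (Steps.fwd (nat_lit 12288) (Steps.bwd (nat_lit 1) (Steps.fwd (nat_lit 12288) (Steps.fwd (nat_lit 12288) (Steps.fwd (nat_lit 4096) (Steps.fwd (nat_lit 12288) (Steps.bwd (nat_lit 2) (Steps.bwd (nat_lit 1) (Steps.bwd (nat_lit 2) (Steps.bwd (nat_lit 2) Steps.nil))))))))))))))))) (nat_lit 6) (nat_lit 1),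
  Rule.mk (nat_lit 3) (nat_lit 225) (Steps.bwd (nat_lit 1) (Steps.fwd (nat_lit 8192) (Steps.bwd (nat_lit 3) (Steps.bwd (nat_lit 1) (Steps.bwd (nat_lit 2) (Steps.fwd (nat_lit 4096) (Steps.fwd (nat_lit 8192) (Steps.bwd (nat_lit 1) (Steps.bwd (nat_lit 2) (Steps.bwd (nat_lit 1) (Steps.fwd (nat_lit 12288) (Steps.fwd (nat_lit 4096) (Steps.bwd (nat_lit 3) (Steps.fwd (nat_lit 4096) (Steps.fwd (nat_lit 8192) (Steps.fwd (nat_lit 4096) (Steps.fwd (nat_lit 12288) (Steps.fwd (nat_lit 4096) Steps.nil)))))))))))))))))) (nat_lit 8) (nat_lit 16),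
  Rule.mk (nat_lit 3) (nat_lit 213) (Steps.bwd (nat_lit 1) (Steps.bwd (nat_lit 3) (Steps.fwd (nat_lit 8192) (Steps.bwd (nat_lit 1) (Steps.fwd (nat_lit 8192) (Steps.fwd (nat_lit 8192) (Steps.bwd (nat_lit 1) (Steps.bwd (nat_lit 3) (Steps.fwd (nat_lit 8192) (Steps.fwd (nat_lit 4096) (Steps.bwd (nat_lit 3) (Steps.bwd (nat_lit 3) (Steps.fwd (nat_lit 4096) (Steps.bwd (nat_lit 3) (Steps.bwd (nat_lit 3) (Steps.fwd (nat_lit 4096) (Steps.bwd (nat_lit 3) Steps.nil))))))))))))))))) (nat_lit 7) (nat_lit 2),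
  Rule.mk (nat_lit 2) (nat_lit 213) (Steps.bwd (nat_lit 1) (Steps.fwd (nat_lit 12288) (Steps.fwd (nat_lit 12288) (Steps.bwd (nat_lit 1) (Steps.fwd (nat_lit 12288) (Steps.fwd (nat_lit 12288) (Steps.bwd (nat_lit 1) (Steps.fwd (nat_lit 12288) (Steps.fwd (nat_lit 12288) (Steps.fwd (nat_lit 4096) (Steps.fwd (nat_lit 12288) (Steps.bwd (nat_lit 2) (Steps.fwd (nat_lit 4096) (Steps.fwd (nat_lit 12288) (Steps.bwd (nat_lit 2) (Steps.fwd (nat_lit 4096) (Steps.fwd (nat_lit 12288) Steps.nil))))))))))))))))) (nat_lit 6) (nat_lit 0),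
  Rule.mk (nat_lit 3) (nat_lit 213) (Steps.bwd (nat_lit 1) (Steps.bwd (nat_lit 3) (Steps.bwd (nat_lit 3) (Steps.bwd (nat_lit 1) (Steps.bwd (nat_lit 3) (Steps.bwd (nat_lit 3) (Steps.bwd (nat_lit 1) (Steps.bwd (nat_lit 3) (Steps.fwd (nat_lit 8192) (Steps.fwd (nat_lit 4096) (Steps.fwd (nat_lit 8192) (Steps.fwd (nat_lit 8192) (Steps.fwd (nat_lit 4096) (Steps.bwd (nat_lit 3) (Steps.fwd (nat_lit 8192) (Steps.fwd (nat_lit 4096) (Steps.bwd (nat_lit 3) Steps.nil))))))))))))))))) (nat_lit 7) (nat_lit 2),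
  Rule.mk (nat_lit 3) (nat_lit 225) (Steps.bwd (nat_lit 1) (Steps.bwd (nat_lit 3) (Steps.bwd (nat_lit 3) (Steps.bwd (nat_lit 1) (Steps.bwd (nat_lit 2) (Steps.bwd (nat_lit 1) (Steps.bwd (nat_lit 3) (Steps.fwd (nat_lit 4096) (Steps.fwd (nat_lit 12288) (Steps.fwd (nat_lit 4096) (Steps.bwd (nat_lit 2) (Steps.bwd (nat_lit 1) (Steps.fwd (nat_lit 8192) (Steps.fwd (nat_lit 4096) (Steps.bwd (nat_lit 3) (Steps.fwd (nat_lit 4096) (Steps.bwd (nat_lit 2) (Steps.fwd (nat_lit 4096) Steps.nil)))))))))))))))))) (nat_lit 8) (nat_lit 16),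
  Rule.mk (nat_lit 1) (nat_lit 213) (Steps.bwd (nat_lit 3) (Steps.bwd (nat_lit 3) (Steps.bwd (nat_lit 1) (Steps.bwd (nat_lit 3) (Steps.bwd (nat_lit 3) (Steps.bwd (nat_lit 1) (Steps.fwd (nat_lit 8192) (Steps.fwd (nat_lit 8192) (Steps.bwd (nat_lit 1) (Steps.fwd (nat_lit 8192) (Steps.fwd (nat_lit 8192) (Steps.fwd (nat_lit 4096) (Steps.bwd (nat_lit 3) (Steps.fwd (nat_lit 8192) (Steps.fwd (nat_lit 4096) (Steps.fwd (nat_lit 8192) (Steps.fwd (nat_lit 8192) Steps.nil))))))))))))))))) (nat_lit 7) (nat_lit 0),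
  Rule.mk (nat_lit 1) (nat_lit 213) (Steps.bwd (nat_lit 3) (Steps.bwd (nat_lit 3) (Steps.bwd (nat_lit 1) (Steps.fwd (nat_lit 8192) (Steps.fwd (nat_lit 8192) (Steps.bwd (nat_lit 1) (Steps.fwd (nat_lit 8192) (Steps.fwd (nat_lit 8192) (Steps.bwd (nat_lit 1) (Steps.bwd (nat_lit 3) (Steps.fwd (nat_lit 8192) (Steps.fwd (nat_lit 4096) (Steps.fwd (nat_lit 8192) (Steps.bwd (nat_lit 3) (Steps.fwd (nat_lit 4096) (Steps.fwd (nat_lit 8192) (Steps.fwd (nat_lit 8192) Steps.nil))))))))))))))))) (nat_lit 7) (nat_lit 0),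
  Rule.mk (nat_lit 3) (nat_lit 225) (Steps.bwd (nat_lit 1) (Steps.fwd (nat_lit 8192) (Steps.fwd (nat_lit 8192) (Steps.bwd (nat_lit 1) (Steps.bwd (nat_lit 2) (Steps.bwd (nat_lit 1) (Steps.bwd (nat_lit 3) (Steps.bwd (nat_lit 1) (Steps.bwd (nat_lit 2) (Steps.fwd (nat_lit 4096) (Steps.bwd (nat_lit 2) (Steps.fwd (nat_lit 4096) (Steps.fwd (nat_lit 8192) (Steps.fwd (nat_lit 4096) (Steps.bwd (nat_lit 3) (Steps.fwd (nat_lit 4096) (Steps.fwd (nat_lit 12288) (Steps.fwd (nat_lit 4096) Steps.nil)))))))))))))))))) (nat_lit 8) (nat_lit 16),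
  Rule.mk (nat_lit 3) (nat_lit 213) (Steps.bwd (nat_lit 1) (Steps.bwd (nat_lit 3) (Steps.bwd (nat_lit 3) (Steps.bwd (nat_lit 1) (Steps.bwd (nat_lit 3) (Steps.bwd (nat_lit 3) (Steps.bwd (nat_lit 1) (Steps.fwd (nat_lit 8192) (Steps.fwd (nat_lit 8192) (Steps.bwd (nat_lit 1) (Steps.bwd (nat_lit 3) (Steps.bwd (nat_lit 3) (Steps.fwd (nat_lit 4096) (Steps.bwd (nat_lit 3) (Steps.bwd (nat_lit 3) (Steps.fwd (nat_lit 4096) (Steps.bwd (nat_lit 3) Steps.nil))))))))))))))))) (nat_lit 7) (nat_lit 2),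
  Rule.mk (nat_lit 3) (nat_lit 225) (Steps.bwd (nat_lit 1) (Steps.bwd (nat_lit 3) (Steps.fwd (nat_lit 8192) (Steps.bwd (nat_lit 1) (Steps.bwd (nat_lit 2) (Steps.bwd (nat_lit 1) (Steps.bwd (nat_lit 3) (Steps.bwd (nat_lit 1) (Steps.fwd (nat_lit 12288) (Steps.fwd (nat_lit 4096) (Steps.fwd (nat_lit 12288) (Steps.fwd (nat_lit 4096) (Steps.bwd (nat_lit 3) (Steps.fwd (nat_lit 4096) (Steps.fwd (nat_lit 8192) (Steps.fwd (nat_lit 4096) (Steps.fwd (nat_lit 12288) (Steps.fwd (nat_lit 4096) Steps.nil)))))))))))))))))) (nat_lit 8) (nat_lit 16),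
  Rule.mk (nat_lit 3) (nat_lit 225) (Steps.bwd (nat_lit 1) (Steps.bwd (nat_lit 3) (Steps.bwd (nat_lit 3) (Steps.fwd (nat_lit 4096) (Steps.fwd (nat_lit 12288) (Steps.bwd (nat_lit 1) (Steps.fwd (nat_lit 8192) (Steps.fwd (nat_lit 4096) (Steps.fwd (nat_lit 12288) (Steps.bwd (nat_lit 1) (Steps.bwd (nat_lit 2) (Steps.bwd (nat_lit 1) (Steps.bwd (nat_lit 3) (Steps.fwd (nat_lit 4096) (Steps.bwd (nat_lit 3) (Steps.fwd (nat_lit 4096) (Steps.fwd (nat_lit 12288) (Steps.fwd (nat_lit 4096) Steps.nil)))))))))))))))))) (nat_lit 8) (nat_lit 16),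
  Rule.mk (nat_lit 3) (nat_lit 213) (Steps.bwd (nat_lit 1) (Steps.bwd (nat_lit 3) (Steps.bwd (nat_lit 3) (Steps.bwd (nat_lit 1) (Steps.fwd (nat_lit 8192) (Steps.fwd (nat_lit 8192) (Steps.bwd (nat_lit 1) (Steps.bwd (nat_lit 3) (Steps.bwd (nat_lit 3) (Steps.fwd (nat_lit 4096) (Steps.bwd (nat_lit 3) (Steps.bwd (nat_lit 3) (Steps.bwd (nat_lit 1) (Steps.bwd (nat_lit 3) (Steps.bwd (nat_lit 3) (Steps.fwd (nat_lit 4096) (Steps.bwd (nat_lit 3) Steps.nil))))))))))))))))) (nat_lit 7) (nat_lit 2),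
  Rule.mk (nat_lit 1) (nat_lit 225) (Steps.bwd (nat_lit 2) (Steps.bwd (nat_lit 1) (Steps.bwd (nat_lit 3) (Steps.fwd (nat_lit 4096) (Steps.bwd (nat_lit 3) (Steps.bwd (nat_lit 3) (Steps.fwd (nat_lit 4096) (Steps.fwd (nat_lit 12288) (Steps.bwd (nat_lit 1) (Steps.bwd (nat_lit 3) (Steps.fwd (nat_lit 4096) (Steps.bwd (nat_lit 2) (Steps.fwd (nat_lit 4096) (Steps.fwd (nat_lit 12288) (Steps.fwd (nat_lit 4096) (Steps.bwd (nat_lit 3) (Steps.fwd (nat_lit 4096) (Steps.bwd (nat_lit 3) Steps.nil)))))))))))))))))) (nat_lit 8) (nat_lit 13),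
  Rule.mk (nat_lit 1) (nat_lit 213) (Steps.bwd (nat_lit 2) (Steps.bwd (nat_lit 2) (Steps.bwd (nat_lit 1) (Steps.fwd (nat_lit 12288) (Steps.bwd (nat_lit 2) (Steps.bwd (nat_lit 1) (Steps.fwd (nat_lit 12288) (Steps.fwd (nat_lit 12288) (Steps.bwd (nat_lit 1) (Steps.bwd (nat_lit 2) (Steps.fwd (nat_lit 12288) (Steps.fwd (nat_lit 4096) (Steps.fwd (nat_lit 12288) (Steps.fwd (nat_lit 12288) (Steps.fwd (nat_lit 4096) (Steps.fwd (nat_lit 12288) (Steps.fwd (nat_lit 12288) Steps.nil))))))))))))))))) (nat_lit 6) (nat_lit 1),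
  Rule.mk (nat_lit 2) (nat_lit 225) (Steps.bwd (nat_lit 1) (Steps.fwd (nat_lit 8192) (Steps.bwd (nat_lit 1) (Steps.fwd (nat_lit 8192) (Steps.bwd (nat_lit 3) (Steps.bwd (nat_lit 1) (Steps.fwd (nat_lit 12288) (Steps.bwd (nat_lit 1) (Steps.bwd (nat_lit 3) (Steps.fwd (nat_lit 4096) (Steps.fwd (nat_lit 12288) (Steps.fwd (nat_lit 4096) (Steps.bwd (nat_lit 2) (Steps.bwd (nat_lit 1) (Steps.bwd (nat_lit 3) (Steps.fwd (nat_lit 4096) (Steps.fwd (nat_lit 8192) (Steps.fwd (nat_lit 4096) Steps.nil)))))))))))))))))) (nat_lit 8) (nat_lit 14),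
  Rule.mk (nat_lit 2) (nat_lit 225) (Steps.bwd (nat_lit 1) (Steps.fwd (nat_lit 8192) (Steps.bwd (nat_lit 1) (Steps.bwd (nat_lit 3) (Steps.bwd (nat_lit 3) (Steps.bwd (nat_lit 1) (Steps.fwd (nat_lit 12288) (Steps.bwd (nat_lit 1) (Steps.fwd (nat_lit 8192) (Steps.fwd (nat_lit 4096) (Steps.bwd (nat_lit 2) (Steps.bwd (nat_lit 1) (Steps.fwd (nat_lit 12288) (Steps.fwd (nat_lit 4096) (Steps.fwd (nat_lit 8192) (Steps.bwd (nat_lit 1) (Steps.fwd (nat_lit 8192) (Steps.fwd (nat_lit 4096) Steps.nil)))))))))))))))))) (nat_lit 8) (nat_lit 14),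
  Rule.mk (nat_lit 3) (nat_lit 225) (Steps.bwd (nat_lit 1) (Steps.fwd (nat_lit 8192) (Steps.fwd (nat_lit 8192) (Steps.bwd (nat_lit 1) (Steps.bwd (nat_lit 2) (Steps.fwd (nat_lit 4096) (Steps.fwd (nat_lit 8192) (Steps.bwd (nat_lit 1) (Steps.fwd (nat_lit 12288) (Steps.fwd (nat_lit 4096) (Steps.bwd (nat_lit 2) (Steps.bwd (nat_lit 1) (Steps.fwd (nat_lit 8192) (Steps.fwd (nat_lit 4096) (Steps.bwd (nat_lit 3) (Steps.bwd (nat_lit 1) (Steps.fwd (nat_lit 12288) (Steps.fwd (nat_lit 4096) Steps.nil)))))))))))))))))) (nat_lit 8) (nat_lit 16),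
  Rule.mk (nat_lit 1) (nat_lit 213) (Steps.bwd (nat_lit 3) (Steps.bwd (nat_lit 3) (Steps.bwd (nat_lit 1) (Steps.fwd (nat_lit 8192) (Steps.fwd (nat_lit 8192) (Steps.bwd (nat_lit 1) (Steps.fwd (nat_lit 8192) (Steps.fwd (nat_lit 8192) (Steps.bwd (nat_lit 1) (Steps.bwd (nat_lit 3) (Steps.fwd (nat_lit 8192) (Steps.fwd (nat_lit 4096) (Steps.fwd (nat_lit 8192) (Steps.fwd (nat_lit 8192) (Steps.bwd (nat_lit 1) (Steps.bwd (nat_lit 3) (Steps.bwd (nat_lit 3) Steps.nil))))))))))))))))) (nat_lit 7) (nat_lit 0),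
  Rule.mk (nat_lit 3) (nat_lit 225) (Steps.bwd (nat_lit 1) (Steps.bwd (nat_lit 3) (Steps.bwd (nat_lit 3) (Steps.bwd (nat_lit 1) (Steps.fwd (nat_lit 12288) (Steps.bwd (nat_lit 1) (Steps.bwd (nat_lit 3) (Steps.bwd (nat_lit 1) (Steps.fwd (nat_lit 12288) (Steps.fwd (nat_lit 4096) (Steps.fwd (nat_lit 12288) (Steps.fwd (nat_lit 4096) (Steps.fwd (nat_lit 8192) (Steps.bwd (nat_lit 1) (Steps.fwd (nat_lit 8192) (Steps.bwd (nat_lit 1) (Steps.fwd (nat_lit 12288) (Steps.fwd (nat_lit 4096) Steps.nil)))))))))))))))))) (nat_lit 8) (nat_lit 16),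
  Rule.mk (nat_lit 3) (nat_lit 213) (Steps.bwd (nat_lit 1) (Steps.fwd (nat_lit 8192) (Steps.fwd (nat_lit 8192) (Steps.bwd (nat_lit 1) (Steps.bwd (nat_lit 3) (Steps.bwd (nat_lit 3) (Steps.bwd (nat_lit 1) (Steps.fwd (nat_lit 8192) (Steps.fwd (nat_lit 8192) (Steps.fwd (nat_lit 4096) (Steps.fwd (nat_lit 8192) (Steps.fwd (nat_lit 8192) (Steps.fwd (nat_lit 4096) (Steps.bwd (nat_lit 3) (Steps.bwd (nat_lit 3) (Steps.fwd (nat_lit 4096) (Steps.bwd (nat_lit 3) Steps.nil))))))))))))))))) (nat_lit 7) (nat_lit 2),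
  Rule.mk (nat_lit 2) (nat_lit 213) (Steps.bwd (nat_lit 1) (Steps.bwd (nat_lit 2) (Steps.bwd (nat_lit 2) (Steps.bwd (nat_lit 1) (Steps.bwd (nat_lit 2) (Steps.bwd (nat_lit 2) (Steps.bwd (nat_lit 1) (Steps.fwd (nat_lit 12288) (Steps.fwd (nat_lit 12288) (Steps.fwd (nat_lit 4096) (Steps.fwd (nat_lit 12288) (Steps.fwd (nat_lit 12288) (Steps.fwd (nat_lit 4096) (Steps.fwd (nat_lit 12288) (Steps.fwd (nat_lit 12288) (Steps.fwd (nat_lit 4096) (Steps.fwd (nat_lit 12288) Steps.nil))))))))))))))))) (nat_lit 6) (nat_lit 0),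
  Rule.mk (nat_lit 3) (nat_lit 213) (Steps.bwd (nat_lit 1) (Steps.fwd (nat_lit 8192) (Steps.bwd (nat_lit 3) (Steps.bwd (nat_lit 1) (Steps.fwd (nat_lit 8192) (Steps.fwd (nat_lit 8192) (Steps.bwd (nat_lit 1) (Steps.bwd (nat_lit 3) (Steps.fwd (nat_lit 8192) (Steps.fwd (nat_lit 4096) (Steps.fwd (nat_lit 8192) (Steps.bwd (nat_lit 3) (Steps.fwd (nat_lit 4096) (Steps.bwd (nat_lit 3) (Steps.bwd (nat_lit 3) (Steps.fwd (nat_lit 4096) (Steps.bwd (nat_lit 3) Steps.nil))))))))))))))))) (nat_lit 7) (nat_lit 2),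
  Rule.mk (nat_lit 3) (nat_lit 225) (Steps.bwd (nat_lit 1) (Steps.bwd (nat_lit 3) (Steps.bwd (nat_lit 3) (Steps.fwd (nat_lit 4096) (Steps.bwd (nat_lit 2) (Steps.fwd (nat_lit 4096) (Steps.bwd (nat_lit 3) (Steps.fwd (nat_lit 4096) (Steps.fwd (nat_lit 12288) (Steps.fwd (nat_lit 4096) (Steps.bwd (nat_lit 2) (Steps.bwd (nat_lit 1) (Steps.bwd (nat_lit 3) (Steps.fwd (nat_lit 4096) (Steps.fwd (nat_lit 8192) (Steps.fwd (nat_lit 4096) (Steps.bwd (nat_lit 2) (Steps.fwd (nat_lit 4096) Steps.nil)))))))))))))))))) (nat_lit 8) (nat_lit 16),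
  Rule.mk (nat_lit 3) (nat_lit 213) (Steps.bwd (nat_lit 1) (Steps.fwd (nat_lit 8192) (Steps.fwd (nat_lit 8192) (Steps.fwd (nat_lit 4096) (Steps.bwd (nat_lit 3) (Steps.bwd (nat_lit 3) (Steps.bwd (nat_lit 1) (Steps.bwd (nat_lit 3) (Steps.bwd (nat_lit 3) (Steps.fwd (nat_lit 4096) (Steps.bwd (nat_lit 3) (Steps.bwd (nat_lit 3) (Steps.bwd (nat_lit 1) (Steps.fwd (nat_lit 8192) (Steps.fwd (nat_lit 8192) (Steps.fwd (nat_lit 4096) (Steps.bwd (nat_lit 3) Steps.nil))))))))))))))))) (nat_lit 7) (nat_lit 2),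
  Rule.mk (nat_lit 2) (nat_lit 213) (Steps.bwd (nat_lit 1) (Steps.fwd (nat_lit 12288) (Steps.fwd (nat_lit 12288) (Steps.bwd (nat_lit 1) (Steps.bwd (nat_lit 2) (Steps.bwd (nat_lit 2) (Steps.bwd (nat_lit 1) (Steps.fwd (nat_lit 12288) (Steps.fwd (nat_lit 12288) (Steps.bwd (nat_lit 1) (Steps.bwd (nat_lit 2) (Steps.bwd (nat_lit 2) (Steps.bwd (nat_lit 1) (Steps.fwd (nat_lit 12288) (Steps.fwd (nat_lit 12288) (Steps.fwd (nat_lit 4096) (Steps.fwd (nat_lit 12288) Steps.nil))))))))))))))))) (nat_lit 6) (nat_lit 0),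
  Rule.mk (nat_lit 3) (nat_lit 213) (Steps.bwd (nat_lit 1) (Steps.bwd (nat_lit 3) (Steps.bwd (nat_lit 3) (Steps.bwd (nat_lit 1) (Steps.fwd (nat_lit 8192) (Steps.fwd (nat_lit 8192) (Steps.bwd (nat_lit 1) (Steps.bwd (nat_lit 3) (Steps.bwd (nat_lit 3) (Steps.bwd (nat_lit 1) (Steps.fwd (nat_lit 8192) (Steps.fwd (nat_lit 8192) (Steps.bwd (nat_lit 1) (Steps.bwd (nat_lit 3) (Steps.bwd (nat_lit 3) (Steps.fwd (nat_lit 4096) (Steps.bwd (nat_lit 3) Steps.nil))))))))))))))))) (nat_lit 7) (nat_lit 2)]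
noncomputable def R : List (List (Rule)) := [R_0, R_1, R_2, R_3, R_4, R_5, R_6, R_7]
def LW : List Word := [[], [0], [2], [3], [2], [3]]
def par : Par := ⟨12, 3, 15, 27, 4095, 32767, 134217727⟩
theorem hpar : par.ok := by decide
theorem hR0_0 : lall (R) (fun l => lall l (ruleOK RM LW par)) = true := by decide +kernel
theorem hR0 : lall (R) (fun l => lall l (ruleOK RM LW par)) = true := hR0_0
theorem hR : RulesOK RM LW par R := rulesOK_of rfl hR0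
def cols : List (ℕ × ℕ) := [(4096, 1), (8192, 3)]
theorem hcols : lall cols (colOK RM LW par) = true := by decide +kernel
noncomputable def JS0 : List ℕ := [nat_lit 0x78d78c78b00bc5bdebeabde000bc73c7bdf00abde000bc73c7bdf3ebbeb3debc582de3de39e3002f74026faafcafdcfe6fecff0038ff0fecfe6fdcfcafaaf78f1af180a79178f78e00bdbbe83f13f5bf8bfa3fb00d3fb3fabf93f73f6bf23eabde3c83c7825e49e45e4002f28f26f24017937bb7d47d57e27eb7ef7f27f30170177f37f27ef7eb7e27d57d47bb793043cb3ca3c9805e9df09f69f8dfac051fc1fc4055fc5fc1fb5fa5f81f4dee9e55e500ef2ef2cf2a0679c7bb7d47df7e87eb7ee7ef0137ef7ee7eb7e77de7d27b979679502bcc3cbbcb005e69e65e6002f38f36f340179e79d79c00bd28003d2011e94009f01f50029f7df91f98031f95f85f81f5df21f1deb9e9006f72f70f6e017bb7ba7b900bdebde3dd805efdef9ef402f82f80f7e017c37c27c100be2be23e1805f1df19f1402f90000fa6fb4006fbefc0008008fc0fbcfbafb4fa4fa2f90f8e027d27d17d000bea3e9be9005f59f55f5002fb6fb4fb201,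
  nat_lit 0x76c7ab7ac7de7f780881181681803e81781480b8007e77c77c678072b72a08804396395811cb9cb5cb002e60e5ee5c0173373173000bb0bd03eb3f7c01405c08c0a40b01d40b40ac09407c033fe3f1be33bfb99398841cd1ccdcc802e6ae6cefef8cfc4066ff806900f01d02301f013000fdafd8fa6f38ebae680f73673573400b9cb9c39b005dddef5f75fda00602a0340d202e00e009fe5fe1f7df11df5cddcd81ce72000e700473900677e7c30267e07f880002f7f97e27e17c678578474173801ba53a4ba4005d31d2dd2802ea4000ea20475200b7937ca0257e57f77ff02c7f87e77e67cd01200e75a75106bb28003b2011d94051ea5f44099fb1fe20000adfe5fb9fb5f51ec9ec5dadd9006eeeeeceea017797787770080a3bd3bc819df1dedde802efcefaef8067877c17da7ee0247f97fe8018030278038018007fd7f67ed7d67bb77d77c063bfbbf3be805e0de09e0402f0af08f060178778678500bc4bc43c3804019e29e2408006f16f1406,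
  nat_lit 0x75b6ff6fe0d380b8037f804089c09c040ce0ae06e040176a7ad7ee04f80b82182a83183483282c8238107f77c27837047030cb83b83382005d99ea5fae01a07a09e0be0ca0c20aa08603dfd9f09f05e09c15c1030022e0ee0c067097087070080b385384810001c35e0df0dfd203607a09e0b20ba0ae09206e015fa9eb5da5c282ee18e16e140170e70d70c00b88387b87005c49c45c4002e28e26e240171671571400b8bb8c3c13e33f8c0540c026411c13026c1240e409bfd3fcbef3ccbab38b059c61c5dc5802e34e32e300171e71d71c00b9038fb8f019cd9cdde2df45f480d5f280d1fbc10a019fb9f240c9e0dc7dc782ae42e40e3e0172472372100bb83d7bf1bfe40740bc0ec0f822c0f40d408c02bf6018bc1391390851c99c95c8c02ea0032f86f88fd300501f02e08502100afd8f9a060f8cf02e48e461372872672500ba6bc83e9bf7403c0840c020c0d40bc07401c013f4be3bc0b93b93049ca5ca1c9c02e58e54e5201,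
  nat_lit 0x6be7587ba7fd82483c07882506a7bb75c6c10006c07350290146bd11b603adbdd3ff8350363dfbb53b481f3d5bf502fbf502f3d639ab5f889b09d79eea00208c1da085fe4195fe60860ea089fedfe9edc0c9b0442d90000d8e046c803a7677bc06980482383b0758248068057be76b76a6cb6c701b690203babe0035404c1203ac1ec12404403be03ba3b9b6936880db71b6db6802e80dbadb81a6df6de6dd00b6f3bfbe13e1c03c1141dc21c1d41c838c1d421c1dc11403be1be13bfb6f081b81b7db7802062dc2dc00402e6e26e10300c371b71018055b91b8c08dccdcadc80100a6e76e602374b74373819d85ec5fe205a0be0e610a1141b210e0f20ce072005f0ddfdba1b9c3edd4dd2dd00670170278b0467ca0437bf0427ff81a81b8007c404477e6e96e80f38fb75374805ba5df5f05ffa0660bc1960b60b01920b41960be065ff9f05df5ba43add6dd4dd2016f26f16f000b7a379b79005bddbd9bd002eea076ff102705506707507b07706b06905702cffaf84f04deade81c6f86f76f600b7d37cb7c005bec0c1e30101f45f4a00606a0a817a0a204e049fe5fddeedde5be836dfcdfadf801,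
  nat_lit 0x65a0006590232d0133833d38393f6417c24848c18044039bd502c815330b2c8b59c99c59c002ce6ce8e42f66fec11b07a1290b10cd0df0cf0b5083035032facee4daece40f67467367200b3b33ab3a0059dd9e1c81ecdfd022e0c423a1321821a618613a0d5ffdff9efdcf1a799d81ecf0ceecec0167b67a67800b753c4bed410c1fc2c43104a430428c2841bc16bf8bd8b8f33cb3c0399ec0019e808cf6058e3ef600dcfe505b08a11305cfe8fe6f66e50e4ed08cf40368172272302e7a47e706b7f382d08882b8297ed7ab72c03168a68016343394bd93f9c16043c15414041c1984541ac05be3bafb6134f3428ac0bda21a1c08d14d12d100168d72d7b37f282a08584585785f8568428297ef0677e47a170a68c15348000347811a400b9cc1ecc1a9fd20a610420e0a9fd9fd5ed9ce5cdda6da3c0601ad2cd2a010006bb7587c080482e84785585e85684a8310767c77686cd00c69514b4b00034a811a59cc1ec5fc20960fa0fe0981b9ff9ffe0ae10c2060b2009ef9d59ae5a5450d34060d3a000d3805eec6ec8f890120e80ecf92ee4ee2daada6d322769c7397b37f282583e8267f57b573e6c80086c976476376202e69b1334e80034e011a740b8115ec8195fce0920f01f2095fd9fd1ed1cfdcf9a81a704ad48e82f68fed04907b09a10309706f03cfc80b8fb0f2adf8df6d46246a60006a5023530183a1bd98333fc41241e03d412bfd3fcbdaba43a3b5635280dad5ad1acc02d6ed6cd6a01,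
  nat_lit 0x63963863700b1c386bd583a3c9381020381bcfbfdc20055423c234003d6386b1c0e58ed8e58e002dcaf00fdd0610bd0ef10c1751110fd0cb08f08cffef58e1ac74c721263c63b63a00b1fb1eb1e005be5e4de55fd429217e1e22122302de2161ee18a111ff5eb1eadc318f98f470066c7ec7c0400002070b7a907a0497317327c980d08e7c872f72e6d603263e1b80fb1fb1f0119059018fc02c86c84c820164764564400b3938ebde3ffc21c2f43bc3fc3b056c2e42041fbfc3d6385b233228d992191d91802000c9a004c98d10e6af8f0141430a30d50a5049046fc2ee0daac903564d64964800800000b2481992992dc21ea81d1ea5f48225f41f39d1c12dd19f15f11cc9a1592468cc0e1ef66fed07813f0b30e30f30e014f0ad074fe6f54e0ec94c923300064d00167903e7be8027bf72b04172b7bf8020847c072d67c64a19326b25b250059dc0f1ef020a00a0fa1661bc2961b61b214e0ddfc1ea1c1593192c62ca0c9ec980100001764c03351b90bdc3fe41d42ac36051435434c2841abf73d43d3381b26b2606194594193802cca05ef10f12fc70530970c9099058fcc0dcf4af480dae04c9ec9c3065265165000b2db2d32c819b55dc01c9f7e095f81e19e14179eb01d5ea9c21c1d97596c0019645e000cc6058efeefc0b4dca044dc80aafb411303e0eaf58e1ecc8cb22e,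
  nat_lit 0x61361261103336b9a3ea411c35443c5045506e45444d440c2b4093d4b8630930887d85184d84802c2cc2ac28010286186170200030c808b8f3d704804dbedbee4110654103ea399b37336813b0b90400000585c08000c32e140ac06cd20d22d38e8e126f6ef6c124e3a0b401ec2e4061870a7a680d80f0be0bf0be80f80d0a88150c48177bf7216496171f80030eb870453d4c07c2805e85f429428c07bd43d3b8730e30d8f987186d86802c3cc3ac380162162061e00b7fbce40342543ac4744e452c4ec48447c3b426c05bd2b8630fb0f039a9d88988034dd4f10ffc160ffa120f76f790230af024f7cf7a10cf4ae16c42c403d62362262100b13312b11805a7dd41f8a09a18a1f624e27228c33229628626222e1ca12e021e95c2989188c78c4e098c4a3b6f67917fe0b184486e88789589e8968898708498067a470a6266250c808313b130118a58a189c02094c54c520662d62c62a00b42028398be84093e7b97027b973e784d3e8841bd5041386315b150e98b98b58b002c60c5ec5c0163163270c7aa80384986a0bd88588f0c188d87e8658378367f47846e96300b319318b180058d18cd8c802c6ec6cc6a01,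
  nat_lit 0x5f35f25f100835afa2f98197d17d5c35eac291f61f65f69cfc1c1c181c5c201cdbc01a97cc96bf0be8be6010000015f40300037d3cc84d060bfbbfc420c44444c213fe861babb51028afa129be5e6607835607206832209218e095eadc381c5c35e9dc257d57d092becbeee16f530490c712c1df1631821eb17f1551230ab0a9028f06dc2bea165f75f65f500afdafd2fc8040041857ec90bfa046bf6476e178278308e8040ca8878a10e788884b8077a809d09e70d5fc5fb232ffafeafe005b75dfe03a13a22a28e2e03ba2ea2aa24618a182081eadc357f97f424c00bfebfc0106660160000800301b8604dbd640f43042fc2f066c2c40d3cfbcf380032b0011580980580002c0ac06c04016aa7557f583887c8978b08b98c18c48c28bd8b48a488b85d81b7a970c60460322341303b0300595982181c340c0c12c100660960a70e7a97aa81985b85d85c0c584f8117967956fb05f60821b05b04b04005b3ddc5dca00a10a1fa25a1f61ec35a21a27e21e16605dea1e9dc3182982484c18c16c140102660d60c0200b30730681184183d8380201ac22c2004,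
  nat_lit 0x6e178b6e007a6c96ca77d0e877c6c66c507871c79a0b06ec5bb5ba292dfadeade00572dbd9e8a0d21de2ce2d444a2de1fa0f5ed1ecc2c5e69bb16f96f4a2b80b7eb7c0664704f67504e67475979a79b82f87387483079e0b26eb5bf5be2835cae02df80412d70570008b84000b82045c20796ec79b0e482f8711088ae87283183079d6f26f15c65c101b09ae8ae80680bd74974408ba8ba6ba4010215d55d402008aeb2ea81803975d75808bb2bb0bae015db5da5d900aefb843d486f418c384193d638603f385bc4050401400bb134baef13d78578177c02bc4bc6e10f530610dd05f05a1b706e1d70f90f7076f8cf8ae4e10ac1abc24e5e35e25e100af2af22f18057981e9c5decded02be05a16626c3f226614e14a03e035da1ae17949abd6bd0bce0100005d5e802354354bb1067066c01415c35450c5d451436435c163d43852f4af4131b897a97a434bd8bd6bd4015ef5ed5ec00b79bcb41086ec31c4e45ac64c6946545bc4f434414bd3b84af72f68657c57c17b802ddef2503d0bd13316518f1a119116b1390cf050f4ef4ce10bdebdc18,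
  nat_lit 0x572000571022b903b3523c207d411c3ec61095c3f412c123c3354b542bbab880d5f95f55f002afed62d64f1504d0fa25425117d17f1c426b1c116f0eb01d01aee8d06afc5c58207b07c6b578a82987d8c38e38fb8e28c187b8228217836a65812dac3b5d3c6415c3e894c3fc1941887fc30c4fc303eeb9fb8b81a2c3169621ae9e2e0aa1f230e1f60b432decdcd82a5cddf5df59cd584161cb2b12000b100458907c6bc78a0fa82b87b8c112687c82d82c78c6c26c158c58801ac73613c587d41687dc2ec4e469475468c4d42dc1906b39ab082c696163db09b0de2e0ae1ea30637a3de3da3762f84862de1ca05604dde1a55638aeb44b42b40015a45a35a200ad32d2ad201999999dd81ff5ffa19845e2a2195ff038c389fe5e59b9d695690acb52b50b4e010685aa5a9030212d5ad50182216b16ac0c018b5ab58065af5ae5ad0333e33ebb3400c01432c5445545488a43d41bbcdbcd377ad72d69556c16bd6b802b64b62b60015b45b35b20332f32fbab86cbf93ab04db98b99be6be7be705a3cc3772d9ad91516d56d16cc02b6eb6cb6a066b977d81e8691138b28cd8e68e711f8e98d28d18b68768337986ed5b65b529adc2dbadb0056e96e56e002b7ab78b7401,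
  nat_lit 0x63452d52c0d297a972968054c5985dda04622a3244fa32a3f245649856a4924423de2fa1f5fd5d498a54c0daa70000a6e0453866a77881688a8ca8cc8fb1528f913e8cb8ca13d88b81977c6725415373629c80029c0114e41a4341da8371e95b3566566002d57c02966da81a7d5d94e0d6a74cd60d2cd4ed2f46f4a22f086202ee0edc1a2ee6208eeacd0a726a53b66c7758137770d27760e77e77e88758b58b48747e474261753a34a9fa9f29e8055055014fc02a8ace6ef502b10a2711922731e321523924923720d1db1630e2fc2e7ec26a886854606a7670fa82e82f88f13e8f914c8f78cf13b13a88b12582378a69756f54533aa533d3bd40ac4246289b46389bc778a4476c5ac3b3f7ba73152a49995441c01f9dfa06840a06616627238451238e286179f09c5d75d540caaa4d020fad38d3af1504711319426e27026f11110d03ef06f04d16ac0aa26455468377d10110081785789a8df8fa8e089c89b8587b670c5c855326008aaaaaa01003d554001559a0806d7015b00215b5a59e1a079e15a5163c041550c6aaad04ef7030ef8182180eacf1b0070f42590f221906e216f321a0d80b1aaa8625576830245d60237137be85a89c8598501178518948527ad6fe5b85b755630aad2acaac00557557156c02abcabed16efd03023510025f1891d920b1db18d10704103ef08d38adcaba0f55f55e55d00ab12b0aaf805681b4de6e0ee22a3463b84fe3b232a32620e1f2055df1a2558157c1cac8d1aefb02d0fb17f1d12031d318918625d1ac26f1a911f098f52df4b70ac66056869677f0fa7820c37817c20d97c385789a8567c17125e25e15672fab5b4d3bfc0d43ec60473c7fc7345f09545f45ec3dc0a3bdb462b51795b40015b008ada0ea10cf001f103b0f91831850fb04103cf06d3ed3cadead85d,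
  nat_lit 0x62f00342871801a11d5c00906fb6002c568265700162b40b9400086fa01d50004354feea8000e4a7e7fd0005e03e8a2448c688b4487493c87c69c49c01bb0b1b2aca8a80028b3290692ef9f000145d949dd839d94d47c01146400946155da25a29564075450f6a2c0d4a28475946be6bf0a07a083c12483b87b1468798777d272264f0695155143d00000ca8a811549a05e3a0b228054e2860b9e45be02e42e9d4dd4989400545c009465459454f2a34a32a2a016237507510d87c38628b38f915e8b48657c56fe0906a25745165153c00000f28a8100755c9a80239bf1f0e1884c61904ca25234a24e040439dc037d92d459454eea340c8c9cc9eee101d1251a31262630c6260f82deedecb82b7aa327651d00151b0200028eb28328bb8086430c31457c7b47ac5742f07e3f23b38618612e7a8d9d5470191945dbe03603a24233851a24604203ddc596195948d46ce8a3c000a3a0651e64f76d10985e85f8ac8f391016190e8ed8a784e7b06d75a351d39a93292291005619ac1ac4249e4a0be26637052e26a0c9e54368365db995948d488e4b70156f06fb6e60bfaa54004a560caeae1b4ede1b0edacaaa48a46715250635280005270365fe5ff7307dc0f51267b66e66e55b55b352413a93b2b3b8c07c45c65446408bb932d295800a952ffaff2fe81aa931c14a195818d9614a80014a57f9cb83ca1ce2dc4e21c9f65cb57e949cdea52cb0ee101e233077074f4014cdc8dcaf662461e4fb2e5abfaa506e,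
  nat_lit 0x52f00052e022978483393cc89ec1e4614800bd461c4d09f3ceb3c33ba9a2972514c00014bc08a60cdef2e276f34e821e8e84e86ff22caff4e8ee8ac0600cbaa1aebaca5e930270355334902f29aa998054d40154cc8e0b0004bfe1e4e88fed1371351322c510cfcee22e20bbe0b8a66916156167581221548a28e58e48a18018007550d00675340035334802b800a1172000106bf6e7ae7efe512f1b83091b511cfdae4cbe6000a620c8df0deeb900aa8f5f27257ec88c7eb0017eb88c7ec7277260e075311d7510cc0635304701d298a9806845800108fd0000e407d1550005ec434448002f51fa34e46a35222dfa1c9dc983702895e80017b5c89c8df9c54df95f91c757a97a51abd8e420d0c3cc3eead000eaa000e7c224e801bee521b81b6142af28c5f500141afa800a258640057cd160c4000be68773910d73b0da0d972375f80c89d80b75c0007e788c89515d8977fc7fb7506174539b000a0dcd8005121cc002e688875600073443bf10003169f45340018a90d1080060ce86,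
  nat_lit 0x1a53b03000ad3b6c09d3f4441bf487938c38cbfe8babfd388b88049b20a9da8151000906a840029f54300144831800aa0a216800015050ed0c24ef650a63111b30a4f5ef5cd0a000b48da626afb4da4b40b3e9e061001422d000020d4e800017d00b40000a707e6ce7d67dd1637df6e200079b83d8cf18d8d18448427a111f7a07a96805385374eb35000a0d9a80051219c002cd0886dc00066843bcb0002d51f60d9e5046199000d6b81716bdb79f6a1de3864923821d1f65b6db696a5380c4002845bd00041b3008a3c83308002dd3728943ef43c8bdc70c3d3f03efb762deade26c17800508b6c0008365e78d79714379966f66e5250006050f373a0cb6e30cc6e56e87d96e25b65b54d30207939d3ffc4fbff00a3ff0b640039e04131ba92800293336a922654959b5e5e0ea3124105f63ea3ee4e654e4e23e22d6069dbc20149130bde1d0be60d4be4cf6f4108319120d18e2e907ef3af38ce4a56a549752d0015595df0e00df7107c98648d49168d58668657ca6c659752c4b297296a960180e5561a25e9e11611a32241e4f65564f241240e3105c60f1e699c14b54b12a122a5ca5a06,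
  nat_lit 0x7a52852702000296347bdd3dc82f06a2c02bf83503c2cdacd03bace83ca93ac14ad4a949c02000004a4e0652c52d68d7b91417b87e017c7de7dc6b80d105b05d05c68c52852757a9629529480575809df0618e3d46ce4de5ca62a5c472e4d23ce181ee1a2d4ad4a95c000a60006bc2e1d00f149010fc8f9628af990dc2eaf9ad46ab6a56ad53052c52b00800297297b4489e89e3d9bedc3cc7e49dc7e8cd8bc3ee35eac52962b00002214b124bbae1500630f14521329b2ee3992eb2d725f1dd0b6f68d0ea5aa581906352e52d03297a99801a990553cd4220b043d43dc7d0d7c7c43a3eb3592bf2972ad4d94cd4b802000a60150f310871bf2452c72fd2c924d1c5096f9a280f9c2def96d48acaa5caa00000152e03297a98341bd942b0ce42a3d48284168ccc6e48fc6ec20bcb0532972a57183a5d29d2e07a2f644255e4463020844d9ebdeb84d5a094bd4b8600000d2a5e060685906bf7da1707d97cd6a957457305c57105b67f13368053052f542988002980114c5a0da11eca15214dec4059be1fd624223dfd1bd5bd17114c14ea6c006a6406534533532032c983305cb4e34ebe1431c323e23b588f3b63b6bb7316299a992994cd66db2dec9ef217e39a3a06863aa195f1432c329afc4718ad4c94aa66d00d02f5d0a10a31c32432451c50ac2bcf64260d94b34a64a40000015350329b2d736e89fbf3440bf3bad0888893af88abbb412c123bab17a9aa8d4d82b5b35b39f761ee3c24c24c46823b064216dee1edda380254d544a6ed04f5909d1bb23b2b32e236b2b52403312291a3070f18cb0a6ca1,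
  nat_lit 0x5120d66897c618d1a390e9501d590f8748737c868e68d51851160800000a8901144c08953808d7e9cae0a63124c25d24c631e3186b8611ec99b944980a26d0af8631514914b2483b324513f002fb22c4fb4d5ca98a96a24bf51b0025180204ca8ca8c010001469a39f121be42653263269e63653e42c629f19a597042614617ca32d1af870dd21039d29320e3391411432412bf2bd23f13affedc4b62a30bd51f51e51d023418672ab0132aaaf788909cc0fc5d45cc0f38eb8e2f5a8f28eaf0001734409c0440df84639f7c43dc65c6a0722de075c71c6d7a947576a40004a3a0651e00051d032e6380380c078cf455c0737f87fae528f00028f86ab4b29028eae9479a4c355c760722da06e051c317755940bd598375bf43f972547572a52a4ca4401000001522030002ee385bc309ebc3bc4424c76476c253c88a18a1069b49a912e176dc25768181935e083259f95b00114a54a9a69f09f05a6548d4896e000132a46925e37138138ae91d95f98d9a598c1dc94590290186f7bf6975245231b294293a9200400010d4900cace186f650b8f620b8f342dd0971df2631dc3690900c2d2aa4aa48b609b52752603293a9434a0a53debc109c09cbcd0b6423bccb2a058af884d2932d431d49d49808000c34e96e9905718f2472d124523636d2392bd23b16d03ae5ae58c04a4eb4529528527022a283fad3331331bd24270b6c63463c62c14ba53a4b0c294293acd4c5a4df021a23ea19def5a494b94ac0094a40014a1861d2185d49d64000b3eb40da22a704517b2392c23992d331134130f2cb23f18704ee90c2ea4eb1,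
  nat_lit 0x4fe4fd4f900800000a7c8113e93ed9fded85b1ed610a37653a64253e382115d158543295513e5a4a58d46fc511b2532d935d3933c33d33c13bf38d3552c72350eef6ccfc9f49f23c4fe4fd4fb00b1589f3d6bd7439c8a4b04d3cb0c8c43abdc3db8b60b5b3ea7e27db453fd3f93f4029facf8f702d8f6efd313525a3e3256356fcc2dcf74f76f72cf89fad05c85004fe00ae7089380889c03c5549acba8f74b5c94448c098b78b733da7fa7f33c00140c00962dab03cd76c2cd77045a02062e08a2ee075c157413fd9ca06a009fe01000052500032c43553ef4454918f4cd34e0cec1074eb106cde4d0cad48ac383df33d280a80334001761c1844c451c3045e0462c2041bad9a03699a5e75e7199d4059815ca04a021a00052969e7d819e88591f9629a29bd9a31e69208877db6a85d550165a810002808114083659f9f0a1c61ca45656255e4521be1b9efc205a7149d40594a081b2f850e32283bf2252203af2343c5239104faed42a5aa52a06c960e73d12c1566650d566476b84e8e98ea1978797cf16868050750464283282a8201946d4881f9eec63e1b244254e6647f266c7cc77a4561e1f345999f94154118ea0ea0ca0a0150a6827c51917c715479a1536650605856ce58706101e543541509630003278a43c18912ffab281aab22cd87c2cbaca8332ce07dacea8731544800d43808a20a1ea1c0467167057603f5755780ef1117ef8918907ee6c26c157450f50e62287b258a23bf8a2c158d8c14b93b9308e3f64473f6b60b602b9a8730d43da0da115f81055f5930515e0a14e3ca3c6149df5df192943984a24000a2204,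
  nat_lit 0xa55db69e7d17d37d216377b16477d16777f7b17b267d4e64e56f275274273805849d0a15a3c65aa6a487a6a65a87f64a24a649e22decda053a53a1ba9d69dc9d21a6767aa8849218837a66810ff6827b36834f04ef0014ec4ed4ea4e96e0000012750113b53b9a05ec45e45e9ece22249e5ee7025ea48e21dec19f93ad3a9b69dc9da9d60164477186890596c9b09da9f3a01235a039f89df9bf9799258867b067f4ec4eb1e000a78a76a480a00053b4769dc000a56070bdae3abd80160149fca86214a8802ea22a1c0289dada52a0375ec71d83a8d81f892a92b9782229769238847af67d4ee4ed6c80033f0960cc4083722c10282bc3340b63cdc3cc8a43c3cc333a773603d93bd3b8081ec9e09de064f24f14f003040b720cc40f0e5461ca6cc69034c1ca00dfc538e00f8c40bd8b40a78a7835d3c806d47807407951daf1fda285fdc4216b021d6b5bd04716b93c5ac9e6a389e20166379487290e96a9b09d22259d49b79709219208807b66814f24f109079a79a790193d0004009a09e261b241e4207924d65e24da269fbdabdab94e13cdaa0229e89e6010000f16811727b687d91c1eb91e1c98cb82e7117105df0104f36a07827a27981034d3d53d0020001bccfef622de28aeaeeb10a51df1dd0a2eaaea8c481a49e8d30dd4f54f40203da7b27a8182513dd3d8089f29f09ee01,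
  nat_lit 0x4d34d14d000b1bbb4c3d48c4c6ce6ce7120cfe50acfece64c648b43c0c6bd73d6b40a69268ba56e4005348909a82309a4475b760773a15273d1541b18298d78d882a6fa6f967f1174d34d274337a6a269869359355350029b09b49ac1a6797a589192a9909d29fba149fc9d59929308961d77b06814d74d673ac309e3d63d6c49c96906c4a8eb44a46a8f646ac4a3d7b4026c26bb9937d36d368020009ba9bcd04f6312925d25e3f70d03990d320d20b0ceea6c3e9b6e50000154db0227ea7f34b3e445049e4c992011f4e9cc74974964493d7b4026e26db913813753700200021a9ba046777998889219889ca9f32489f59d298c92f92d8927ae67f4de4dd09271a6fa6f00400000537c0c000c84ee6ee8c880c00bea5005aa4eab8244da2c961f404c9bee364177287390e97d9bf9eda06a15a1ea16a0a9f19ce98892c8907ad67c4e04df22283270a7006964138938434000a1c036034a18b92e230743c907105c36705e3c1062e06b629c4e201b4e34e202000005340bda0c13d9c36483cbb9154dd9124b7c79c2ab9cb04a71b8402539138c080001de9c8040ee6347627b017f1807b388c92920188d7b57b46804e64e54e470273272a7200539800576d778445e95e9a21c7f649473200867044c2a429c005399be9ce9cc9ca06,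
  nat_lit 0x4b61226657968a093d9af9f1a1f276a1d9ea9ab93089277f64b4b57c25c32e32f3c78c78c8331093330b9f39eb37094b37bce336a6125bbdc0012ed459ad1f963125826f28066ec93a5322c22bdee1a313692e5ec000978972924bb66018e79489c93993889b8028016cf5c45c309a0315134b97aabdb7941bc70101101c714c1ce34c247241c8c73c90c6b2fa5d25cbd12f92f52f00297e002004cd4d28f783eef74d16198e5c3c50d12170d2e7cbe697cf35114bf4be0225fa60334bcb3cbc45c94493c44bbabba0be8afb982efa8825f3c84852fd2f80cbfa98097e014c24c14c000890a61a6101000400930c0c0c898c986040006697991b27ec1b17ea6b952a03a52804f54954c0510504c378b343cbb338502e7ae83918eb39107f30a30ab39bd10c7338a62261bc13140013100898a23a25ed5e356fc71752aa4572ae45924110aee0edec7c988254c74c64c5008002a5aa63668ddc03421477cc0ce250050150dd01ce44c447e42cb972f1a643bc1393253200c000002992060004cb67a67b0385280376ba7ea7ec7eb19c7c36954f10114c97726505d38e0e842b47cc2b8b1ba8ba9436c854363a6ba630cb0b264bb53319f5ea226e4d48de6749309349326748de4d626dea19f533132dd899acfacfc23cd7efe51752b24512b640d0d4e98c361f8184bde998eb5a64ce4cd0088ea67a67018001381385a2deea27e3807de3865d66e67d89567d26d25c635e0b1bdd60d33dd40109a099e06,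
  nat_lit 0x4a112c12d6807af7ae67c67a1426857b51b27b717071b5a44a083800a512508117402bd74973c2b17542c4529a51dd5dd1bac1b15712880012860c944256c80254cfaf5917249116e42af3aee231eee4dd40d6ab6943054a54a34a200ad038cc2dc8342e0bd0b6b2f0672ff064063afb3233bcb22a52251c104b12952900c94e94c94a0654f06358e5b409e09d5b613665f17673173217771859e4a64a581800322bbdc4d91bc4cc4b903c5211dc52bc532d899b2d38b2cea52c0929d2992940c180248e910eb0ef2384c535b2370e83f63f50e2ef2c8694c94b0157d4a84a700aae2552548112a92ad94c645e162824fa4f64f087a40615dc5dc5968156d2a600258954952060035e54aa492f6255a550052ad4a9941dfc6359484a83057c57c97bd7b82f82f42f17ad2a9fe958a529541a5e163f7711866421236416c77fb7fa6c652a5290445284ab4aa7f256a562558040012bc0053104bd9a5e6866866de7a29c8da2a9e89e845696352b5fa95ea1e95a1a4c212d66719789993789a7876534bd0064bd6537877866524ae4ad7e258b2b3c410044f49cc9d4d9cf9133cf94d9c9d49cc4f1003c432b258a583ed2c9959e1c7fe2748ba5c25c67189cc9c681e70a596590846122101bed60d2c5f424c966964064b54b44b300811a5b25a8192dc0052d80800096ecb6cbaf1f13b27735f3df3e04bf3d5359263126f00c9896cf9,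
  nat_lit 0x4875626fc8307ff1e78008f298e2909f698f8f58026d75260594868c243b123133bc3bcc53ca4ced50d4edca5c54bbeb5703d2afab024345d2203cd894698710715a253cc0f13cda247147106998943cd22121e2c9189169140148d62d63077c6320fa0a85a95aa7232157221246ef1f36f055248c8a805a4724681800537523890920a2c91c1a02d4dc06206354006151904f51a14b6717a47a51a477a63048f48e8a248a4824780548d2492440c0009f4c5eef4362f3e360f3acda170ba2baae92e94baca44923134f94924910d000000a4901924d5795881dd595599be60aa40267899e6163d47a2049b8950924a249261e0c5ae690ea47b2b72b44ab17ef46ce6a9a0d20d4abc0e6925115734954930d3133b8b13a86021a86a8735f8e94208fd386083b160ceb17a4a249c412592552500cb4013a138b3a136ce635a433141287289142ef0338c5c92a9290f0000d20d36030d50d401f4ca01e01d4c864077f77e63f63d49f495872fea4b24a80400000525c0c000932c6a20eef1062423115117118ebac1a1ac1aa098a3a92f0d4986357788a19429c99d2286a17a169d69628c47b67b56810b449786000000a4d8192700c04058bc40c4f59706819619554200f94243e43e01d959d26e1693820ec70eef13e48728539140d38e4e927f13aee620220005e9370a5ab49e49c00adeb9a0bf41c47e4cecf4517cf4cd04cf934921450bbeb1ca4ea4e424001699c7a18242e6ae7ba8ca9328c67b26a65a48a2159c4565d2821094200094004,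
  nat_lit 0x4c9471492642690a038c10cb8b8a43a291c3a32e6ae6065b2a3bab00a3a238ca11cd1c91c40c04205aca83923b71964ed2d72d84d92a7150eea374bfe8e48e3270074734720223a23aaffbbcc54cac4f6959d19d37967536d164f4ca6ca6450bb22f92398591d51d11cc028ee8f4c04d64fccd6ad662f6d7cfdcd7aa30a2e0babb2e9ebb08ed260000014760200023c0713023bd453136caccf5957cf4934c521160e7bdc0e6b40a6f23b4951dc38580dde62949b229c81e0ae0b244a6b24460a5bedba81e91da488f68f28f0015f776d76f8a02649e5a29a67a812c7a68a2c9e89558a477977860247a4791c03da3da3d0192011f11ec028fabd6ec7135289132289105263106e7ac8621ac88d78d76a248f92300002c47c02264263a42803a4330030186fb013ba44fca7932c503bb2ffa3ea3e48920c0151f40c8fc0008fa064f469a69b7cd8e22447cc6996984f34810034be65b12b4bd47d90a3fa3f23e81159c20d5dc2315d95e823c245b5a00e009b545f438521d1f91f640000976252cb2374cbac4c1ee1f0c50ea6343000da82f81c090c8fb1f4ba65765d1bc65e4c24c047e00047f0d65ff0db1746be1bb1ba1674ef47d8f23f06aaff06cad1054054aeb3a6c4649b4458cd2ea2e785f81123ec740051fd1f80c0820cad3af9efa2fa0360f0ac76b62160b6415eb5e8fe0008fd1c47f5fe64378a64111c72185472265f12b19586d86c21d72b5af47e8da41872b07306071b05070b04b7cc15484cd248441437babf03ba4146921183ddc850a48271671ca5272649a1dc639ccc63c78db2d47520e3200000290c04,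
  nat_lit 0x47c46045f032302312f0bb0927c4d46b4c1d0a4c1469bd5b1db1c300009008a2fcdd18000117c0c8c0bbeebe49b1311a64be454e3eae0ade13adab00cda8c5093e8bf360014614600323d007a8182f280a4d01124ca4e083312a750292742308002304d518437d18c001188181801de5af44b597449c49995426d3a013d182688c4bbceb91304983bac4e93e93c048c38f24f26396ef0bfe0be8c3334f646546400800a3323281829160d611c961524e274e750a062e09549522b8949da83a919d196648ccbdc1d41e8c0eef8c161eec14232c8a234de2284282de4a848cb3146700046602233874af8bb4129c56128c55927bb3873af6074079301a3b2334c11a17c1d9c94a2b655e2b9da9bd4685bda09084a2021fdd3170d19e5e00091cbe037eed315b2ac4f04f32b12af15aed0ecebe08d28d03e48d46846700a34a352f7bb3455caa45545412745893d4e6ce6498c26c2638e8d62b8a341381c91a51a008000bdc2029528e80088ea8eca4e324d98ffa3fa3fcda02b29d48d32e0e346a46903027a35a350191b0391968751b31a205cc5d1a285d5c2a0d20d485a069bad4e91ae5a9028de8dc1a00050d05e05d50b5eb7637648a69508a57625ea0df5e90fc4a446f9602f23823781800180470981d54c20d551555c1e0ce47ca664760adc09b114811be568e28e08de065ba5bb7442318781bf7741be8ad9589598ae7791c05ff47046f0f000a38a380116d16d5cfc8b61d64ea768a9e4ee1de1d9d056dd6d91c40011c2548e21cad5037ec0801890c90ec1ef0ac281e0c26d9cff8d9a17c8e129,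
  nat_lit 0x5890bb13a13b66513d66e1446701431424e047e47d453000452a7a29ae7395c2c4a7cf6529982528cf2ca542638db34a6fa3ea3e229538000009159741749d9625a25c978976255d9574c39115915114e9a0028a68a40659874287087124d8ed99ea302f4a2e9998ea7ba6404b7453000452a6229ae6ae707139391e8f9bd33d3c714c6470bd231925981f82022952d15173dd8624a5a281e96ea8296a816810b667364ca075bb552114c240028aca1a0e6a1e146d42e19074463078464faad109ce9cc8a94a00145507007150e56256370b83a83c83b2017d36874e705a453a480022aae98723b13fd3fdc8dcdccdc48d3fb3fab60a8f28ea29d2115174dd8a251d805c056055df8e435f905c85c42814301bc1b914e8e8aa1c6ec4fd72213634714ef55f5915614f747937b3785451b6f3cc589368a9460000014550300022b8712eaa84036036a853528ba28327e019a52a53a5322ad15158385d9225259280e5949ea3ce3d2664b7e65e3b5f0997d35013d34c295156880000028ac060004580e41d87672598997655d60e20e15d34f54f40604e3456a1a2baeb22c80022c245307bc3465cba465137bc2306305a41a40a2b509161759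d9626658a80a58e2708ba101c486f5c45e19e1583922515e820000028b0044594bd4fd69a69c7dd69f69d4ff4f505f06065e68e7d568d4f4458a022caeb8712eb2f92f9bb7c57c84154c82beebee34db4ca7e25e22c4fc000005168080008b8bba1ccdea43b14125b38e56d25d0ea43cdeea98a968b53e45b5dd76789c1e37996220645015000631001017508827515be45a9e800a2ea2e01124808007d23c1f54ac1f14a82c02c42c96c16c56bd174001172788babbaeca4a4ec82eede24324a713aeccbc4bbc8be0008bcb5a8b93b45e0e35bc0cc5ba74d87f9549f295394f2879509ec9518797475ad5ac45d9d22f873233232001a31a3fa803500c60c6b518c73919173922b922f4e40f918117c088c08c20268fc8fec06ef64730c90c6470e6ab7816a98007a8bf38,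
  nat_lit 0x144a51559d6b880323e82d82c23d6fa55455345b00f459448b1800a24842a8b35bc00915c16416c1737cb1405522d006806223d880011243ad731db626c9cde5881d82d2312240c122949823d11ec2890b8e898004896adce2648f0884912545ad257000d6aa2810688f60000001448030002252e32e4ae4074ae3bb1935c47c481103f0b35a7483422457d125715da62625f285e860bd2914c3aae0c8a9ce83e5d222a226101c415ad122bc8a000a8940444c44b44a0303c2808b634f10f91ec1a380aaeaae0572b88ee38a2b800080022557512c00400913839d721810440445d3dd421e65b25ae1e1d3166912ab816a8968941a00044c5c572985a95b9f6a65aa6a649f49598a024972257756c44a84225ae20732e32e3ae1a8983fa8928ab570c68bab8db8d2b9a2556c00000512c0800089ab90b92ecf12e4d4ed0b98b961ceaf0aee16e0f8a1c8975a44c0e514e14f6ee6ef8209382a393a93c9d593781f6ea54454344baca26a27ae4872abb05b85c3900f3acb864acb35c8c63720e2aa0a265611340011300889ab8e1c8be4be6c38234c3ac3cde4f8af88d442322309308995700000144d03000227ae50eab8d3f4bf5386b64b64294253a45815816246a26d59139725c6a12253cb5e53652ca9654cb66556161c9d5dd2680c9136aa0008a214cde90512773b34a95254a7495387244ff243230ea2a89f5400000144f03228034a31006a31a96a6302782826432838041a381b80aaeaada27d4d141731d8e2625bcb8e5b6245d7dae147546918c03c0351841a113ea48a48a28a0040946816b87f77f66b76b518575d88f88e7696be6bc520451450a8a28a292e53b144b1534b7970d07531d54d325084b8c4dc4d3b48c3a8fa28541149145140020028a68a404,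
  nat_lit 0x44043f43e0323000d837a6ca6d32fbeb3ebbb10f80f7b820f735ca91a1fa1f5e90fd564705bf9bfe0ea57a580bfa58a109c3031d5b4321add4890faf287eb8cb8eef514914b32b45d45f32d154510efa3d0380ab087d784e344043f03000000a2105530f36d924c10b6d34a8b834b34bb4c28ba7121fddc0000050fc0c0008821ea426ef1143144f0021020e0c498e0c2992b4cb4e87f764405c344400144156e0c50c671821e7ac8e17ad64761c1290a743fba800a212db877adc8f53840f5b83b1fb1f3113108962b72b6a205d00051043b03b56e1c147ac7a84f58f18f44f84b04ad87c3090fee6000882b8241eee6f90442c9828e240c1cc1ec1694e09894a87f724405c077389c98ca25a8cacda8b325a239899888957665b75b443f1b22080022001910570970ddd09fe49e63289a896654b4e2cde09798409189102e2000002882044424f867f7f66804fe4fd08054954a6e682a8297a6124498495441b82212e03b8c4ec4f13ecb417c97c171cc6453bbc2e82e783da7b220dbd11570ddc48b9fb459c599a3142d4082102155006b9b714fc20110adc88498ac98436ea03f8ea30fe4da52ef4cc349360829349fc0fe8836d00044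35c120777089d27b7717600f04ec0754ea0724e94c4441b6221076ae08770bb8bc3570bf38710ebf2bf233703b278278a77a20dac00511110c08b4491806c91ac12232eb91152fb116ec0b5e1c4a1e10e8880008876a4445c376e2787705d40514b646b01d46c1025e85e950f08850d443b4a23876ae28773b444a4c017d4bf4464459379383c40fbacfacea225a11103ac0a51f11f97e17e442d7d97dde28a11e21d31d2d67967110ece00088a1d6b88edd13a5893065f74373031384eaed6b821d4887664445c15c40ec6732292759159c6a5831ca562d69118246f154f443b2a5e222a2206911d11911402890b8ab441b0b463a8de43aade2f4a5311cd1c9074488e14ac688f64,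
  nat_lit 0x43a5ca5760d95756411501d28352e996fa129708458446f9559437c721c08226803a234814a3508aaf00943043d646d3d591eb01241a1be350e1725dc627ca5627a648c9663ca35d75d6d6dc3f96d970040d0df181748728701a43900243b5c85c97791c81c97786c619e6c76c86c953e0b9438c5800000a1c0100010e84188a1dee2a4a62316310a95e6c48446045d79c30d0e314872b909f489e024026b74ec712733734465134914eeecb8cb8a8718900000143a0200021e0828b53bcc54454bbdb8e903b8f38d902abe2bd2bca1d6210ed721728415724559945ab1db09a49a08556754ac2b14a54a10eb0e87c20eb9a44af6c53c53b172f22ea6b5e9fc11c9fea000dc9948778643b58c0e158a45d01c45e4c44c76497d32c17d464c4cc4ca4c943ac280021e082ae4a380158172392bf102b8f91d3e1399870ac5a1d6110ed725d0c9e9d197e447165839d6559d5fb59d834033d5c137d0eb060c48788760643c43d0020030054424435ab0f15ac5af5ae0814ea4b906143bc121ea1e21d810244265a4493202a4ea79a79e5a8b18b15f499599513610f10ef0200087caae180aacac0dfce0107f2ce6172d5222fa2caaca69ae8778000100243b032d321f21d8040013b99f45b19fdae1ae606e522526071b086446402f95510eefe9da2d2cfafb323a5de63346332b132ed442eed2ef0eeeb8a8788777e44100443c0203e21ea1e00400144425025425957d57830457857d9c85899c19bd3a01ed0f2faa2087a8780400043e5c20f85c16dc8279522fd9512cf9509598301ac5a550f43cbe21eae10a3b21b210a3263032a62a82b470b68b6344b4427fa1e5ec3f10f90f40c88400687c06,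
  nat_lit 0x4c642f42e02000218ad8ba991b0fe394b95436ccb186c379478feac5a62a1768d0c12ed0b802ad2e0e3aaed2b88aa41a6aa01a4c76faf2145b2fb0466b5e85e85da200000142f03000218ad7b420c2342b4340117a4a1ca217ac0cb5028da8d217e850c16b52d41a52d853c6e1b846e86ed57035d56d7d57d014124d0bf40002864862064730355ff7227211f31225e245201901845049c49d432000431cfa192dc3b014d44849d49e177cc9d081941accf4c8dc8d165be192ab0d24e218e780050d0275651a2e010985aa865c661ab20749b1ab54b82b10cb3a002866a02a04d1500900ad5232ad50d5703b03cd58a36a348639c43209b0f15935957367758a62a48a59a43169df9077d363b4c4431cda192de2debb0add86327004326fabd0728c2343c00b4428027fa18e681410cd0c80200000486cb7cb7eec9126532ecac30278c32c34c2c93009e865990014334320229c05e29e05f875b54c10934b868d28d22a50650642198002196610cc421d8216660a896ab4da2ab288a5fe155c35b2152432431d0cb2e868000866064345bb5bc7622968949a5336a419cc30c2fe87c74b2245a1433cb000000a1a8100010dd6f44a97f17f57ed1f51e80e11ed33c1e93442553f50d72a86cb76186a84a88d86e110a12f46492f12dd07e3bebca8b88b286b9400143a43649080000a1b2490e16f48a5d816f16e840dd46216211d416b03f03ec33432d0db26b62eab10d33733e66147f5666cd56948534b136ed4ec0b7886e86d920014384370207907b0d58d60d6bc5c5b9523c62eeaee26303783721c00021be450e17284297204203343315751000180150f950c4553141b81b50df2087290ac08f58f5e56cfb22b22b0c962aee704f90d64dcdf4ab48718f,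
  nat_lit 0x4284274260327527584da76a773333ff3ffbe31388f4b8b0f33892c1213a136dd0bd0b909c0285285084e0608f0904df0c40c652d1b06b76b414a60e61014c60d47d428427db214259b1a3f0175147c1ec1f4bfd154c0420b6534ab070a423e213ed400000509c08000962c64f9a4de4e0fa11f73da66f1f8fa6fa2c422a60ac84fb44b06305580e05575be4f409e4f30fa587727873726721583428427d9800a152148192913185999245a5eae3727769de77236a364b3e1c9c956110ad0a764854b049e01369e2b76aa81b81b6aa4d69056d6aa60a5e18a0e2853b109e00142a1da1607b2150ec2713c86009de000bd64c1ff89d85fc5f99b59216083d50ad0ab600268588561a42c42e0f84360094370b351659d5a073c59c4d643f01001144142bd7a160002158190b161961dc9e1ca1ce67a90690a67e1d8a71cac819a053f50af5c85a1f2b1ac7afbb21d3e26cd3df217214fb6fb0c6096488e026859ad0b242e42d0080027fb41405ca0d02552d7859bd78d54d034a5c0734828a058a16eb10b80050b40885a9facfe188a681449fea0230e188a681449fea02d02d009fa85bab42d1075a71055a651547003503246e0a00a250068067f4fc42cd5001217a5ca5d03825e25eaefaf489623001401322f2bf877a16ea40010b81b52e81bc1c04997797a57a917c0980911755fd6010b35000085c21446eea510a5f528c5f3289010d14314a18a14a12859a742d5ae4a305e4a261e4a005b49f0e256a13d60a7bb7ba60806b42cd3000a17216810105599bf2154c26159c19c14755d96085aa16c04296c56c90bd0b74a85cb64e9f108fd82dc2da2aaac013c9a81029a6100c149068fc85ba4,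
  nat_lit 0x41e0be51353d0de0df5dd77d26926a78026b27979c79b5f548741de580680120f11d07d45d831ec63867daa46c28ef6c2ea567de398ba1ed183921d07b9484018483c4700a42e0fb0fc12f13072e75e8a52cb7ae1566095150c141f41ee4816a1020f8690810854cda09a0e07653e542079a2da196ec4a16e51680b107f901a884083e014204215341bb6ba83a97232a9749759718396b56b15320d341fe3869a1020f8180000050800c000844aa41d0dace1ce2310249a49d100e1a3c6b1886e86c841c64215526d684e991a3c9928506d85d445902b02a02b457028455420e2a110002108110883b83c15887589c1e6a320b52330b58b55e6d7cd7c91a508788846ac4b8846501527943156d4332810184cebc68c68c406603e845c30dd42442303212001213241241a42b0b8ac3e0143bf3bf40d534faa206e211f0800000508c0800084aac61e0ae4ae6ae29861020fc982afa200a34182a30847c14245636ef2aa79326a7948c39dba799df2e27be61548248047f423e0000a1322f018230040041263b228b8057280857a812b32b2a126fc0050940b40b917d30d3113199159182b53fc2b14043bd58d08f7c00084aae0ae2df055c5f53354974953330dd0dadeeadaad8847bd4240f46486497f12fa9212e47c21fc59058d4c307d45d02c02b423de000a12a1201020d32d924a11fc19214fc2090e80390e003d2d01c90940010937684a1ecbd8f223fae603fc3fee67100e68b2687487001c9660e2849ba0fc42642503214213a130100342b140552156839839d575b9a17ca8a184a8dc0d60109d09b72000b08e283cee26e8711736a6ba6a947b31f0c30c0544e04afe84db8,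
  nat_lit 0x4164ae6372a37dc90d7d97295a11295a06784f804746f469041415f120b257258258b1b1513edc86d0d9d550cd0ac803e7b1583ca5720b7840000050580800083010810a982262b62266b6425c8ba8b68b485802485482de04174be4c118a6f46f78703589bfa699be9b68716fa57210902b416efa2e899ad88ab3813c8c6ac6a4288e7b612a2876044a0d20c20bf7800505d058088ec0920908e80b6b8aec6ec8464ecc45eb888d28c482e00082ddd4170865415721080b446c04246d5c67678b37667615c3468461416ee000a0ca1b00d224238a39244244a8a06386428b217a16a1620bf6c00506005809111c11016121c15d2183194503210b804403d05bb400083011899c12099811ec6c47a478ed0462460b8c2708d882dd94174c84ce65380431798633f8516c754304404346e445022014416ec00920ca0c0680010c804c0510d54b06e1a91a946dc6d94983483410c0045063ae8628328300600000141b43f01c41e00341d4200b30b44fe16b61f499430418eb000000a0c0180010693782793816544699b99ac6519b06559755243a90dd063aa8321369bca64a6a38308718d3d75173d91caf6cc1cc1a908878831d400000141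90220d011a2504ba7db3d2e589ba3581ea35241a42243305a4100ba0cf4d0682b53dc45d65c46978d791e00b79dfdde577166512912111d067a40000028340400041c0ae4ff0b34fe16862128c7c662215f1000ff56f08b41ae8a0d856b13be74805045051ca506482bebb430d0b438d1a8621120d74000507106c0883c0040ceb4ee6512b3814d55fb4d738912ee72b5089a838000837cf41c50354f6d075a8a47587555b545d45c45a02144802244a44b41be720f20ea0e01819047d68c5d58ec26137026537569c4896a5a11a1541d0750739a83aa20d1103e524fccc722e69540dc952a9a8fe0988fca22a2083bcc,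
  nat_lit 0xa0a827a3c028a3ca3d225017224816a26226a23015a22209fc40050511d51d81401451e91240ad11c0b00b91351140a40a104be00008288f68f80aa0ac0ae9008f40a484c02084801a846016825ef4130524d166180993880876e23e1800eb53b05047604e474473412f7000a0a801802a0d03e066a8ab18b1825503b83aa47030819a09fb400505105905d0652b92bd4506098b92a529d29923514d14904bd80008280d20d6934c3c2ec2eac362e6aea91e91c8b206e06c825eb4134960694ea0ac50e68e836838967839691513079417415414412f5000a0a2098101a54c03814c438d4cd7657611fc15014906000800505000104fd28289520ee0f095ab8228630acf63509f016c0a48f682e002000827e80000014140320aa3c82827aa8bb4b2f38aa2f4359b5b8e5a9da9ca9c222809a0a79d0552b12b860545032d455a460d658e0d0b0da215fc3091e8139053cc82e82c82a064ae07a4b04d44d766081281380419065358511909c428416415f280020b80220e2182198632880982d8099098a6da6d04e26c213a0af900000050540800082e0f00f49649600f2c58dfa3eeaee21c06083600883282be3]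
theorem S0_c : blocks (facts 12 3 15 27 4095 32767 134217727 12 4095 9 511 A R 32) 32 JS0 2268 = true := by decide +kernel
theorem S0 : On (Step.{u} RM LW par A) 2268 3324 :=
  steps_of_blocks hpar hR S0_c (by decide +kernel)
theorem D0_c : allB (defOK 12 15 27 4095 134217727 2268 A K) 16 2 = true := by decide +kernel
theorem D0 : On (fun r => defOK par.W par.WL par.E par.mW par.mE 2268 A K r = true) 256 2304 :=
  On.of_allB D0_c
noncomputable def JW0 : List ℕ := [nat_lit 0x40b5ae2e896bab965e16f6b782b995e1eea36c440ea066e9978fbabdb2103f6cab875de6f53776405ddeef4b772415ddd2e3977fbd7ddf2e49781bccdd8904f76441bdf26f3f768414ddaae8178bbddde22e8d78dbdbde11063786ba95e46f8378ebac5e4ef57778416ddeaf4d7cfbd8ddf905f780bcd5f2efb77c8bd05f36f7b78a419de32f717d5be1de4106b792bd65f46fc37cebd95f4efbb7ca41cdf32f7d7d7bf3df52f897d9bf1df410777d2bef5fb6fd37d641edf62fc97efbf9dfb2fd57f1bfadfb907f7f0bfb5fe50817f8,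
  nat_lit 0xb7dd9e8feb67c412ddc6e027f13fbda02e3369aad85a76e296984035c86e3f69eade5a86db76543f4d95adad761b6f596aebd7953f7598add5664b735d9ede36683f9d9aabe56b7b9ddad102973fb9bdac901e810afd5ae6c056bbb94da9101372a411de0ee636a8406daa8fab6c5ba7db0ae84818ba5daf90376c0b145b26eab6c6b185b2ee1b68e3fdda42e11777b89da50ffb72bb7e5dcef47770b815dd6e36802400da72e2d77db91dc8100b6a0b6e5d8ef2f760b705d96f8f794b765da6f3b766b795daee7b6b6409dcfae71789,
  nat_lit 0xaae59eedf3678ab259f6dff67eab85a04f8369bad7d308f2f474ad25a64ffd696adb5a7eb774803cdd20aa2d655b6cd948f77657b6ad938fcf650a91596eebb6ce410db40eef663b741fc2a6d665b72d978fdb660ad559a6ddf666aa359aebe34ba3d7d2fabd96b53f55962bcd6b3b9adac2bf35f63d8d312c035fe3dad32ab916a5b93da8aedf6f6bb6dbd2bad6a9b97da9abb96abb0ed378f87643b0c5b0ec156bfba4daf2c216c1b13d3a0f8e765b115b1ec5b4ec3e4d8bab1568fb85da32b25691b83da20ff368aacf5a56e23692,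
  nat_lit 0xa98cf60ec35613b14f6aa6943a3c4d97edc765ca965986a8276c3b59e52a79667aa2cf88edf3e497852eebdf4b897b52fcf554c8af552daa3d659af2d2c8f534b43f2dac6beb4c0393d314f6d5ffafed31a6094cbae3d240f3f492ae15a8eced6f7b385bd6bab49a3d2d272b9d6a7aedd280f4f4a299a537ec367adb22d90ac2b4dc3dfd85ac0f4ce3dcd820fc76bdb07d348f7b4d4389d3a6c4b4e6a991d92c434e23e2d3926bd4edb15d3a8f9562fac4513ab0d68dac7d168f0f590abe5a26e0b686ac05a2cf655f7ace5182b35693,
  nat_lit 0xb57d782d5b5de990534ec1b4d099353566a71e0369d0166954e799e538ec3f4e09a153966bb0f636b9a0e6b14eb3c2513243144fac2d120f0744a396d16eb1b4503aed646af74383bfd0f0fc3687b1c9f3aafd4403c751a2471461accd658f1745eaadd058ee7418aab59e6ac75603bad07aad567fab7d0a0ef742aad4d1c8f276173a1530eb5a79534fd1d6b474663c8d1a8fbf697adad1e0f3347a39bd206b7347c939520ea2b3be3aacf02a21653a8dcf10eaf609a83593eda764ca855944f19597a904f32c7d6cfbaddb32c8d6d1,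
  nat_lit 0x3ecd936ba27a2a844eb0eb53ca8a74f36c7b4f63e8d3e2c6d6cd3e9d3f22e53d9a97d1fa2f53db39050eea4f3d03ebd976a573d43afcf5aa7f4bc3b34f72a753de9bf4f8ea873e0352cf965df2ec351c24a5d14b93a052f4d4f2f497152dea393c896a52cebc74b096e52d4d9b4c1a29c888eb13c6980531ce894c9981428a521491ae2d238d8f493ae0d228f3b48cb3ad538fbb550b37d528fb757234dd26eba67a39545276b9b4963d0d260e574a1aecd27a5694a3999c340d826c2af41eb2c834fa9975376c274da989533ec0b4cc,
  nat_lit 0x9adc3d25486829abc3b0dab0f0908513642afb231cc85a40d449ac1d11a41544ba2b9ca68b34269105146a4b3ce8f850e6af34369c550f6c767cf3c050fa46544139851a6462fd2323c8dab2b45c914517e381417aacd050cbb419aaad040ee3412aafd07239141fab4d088ef342491650a6ada7698ec50ae495473ad3d1c28aa728929c94249d2e1920519eb4346494151aed0b576b41d5d24b5479ad9d1da4c147b9a79b40d9f47f93551f64df00c333c9c22753bfa89cef0db73c1a87cee8ea27528a14f16a333c2a82ce98e9b3a8,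
  nat_lit 0x969c200d2f09096752c65b72d834cc2125f709c355cd25f81223380cf1e5ff0a0356c3c8d5d2be6b5428e51f02c33bc0c251548f94ac0d0cf333b9b8522eb7f48893f523680154fb39d5328115519f9552ecdb54838ed5ce54704433fcb64d010469534128d53497ae5d25253d499957527e567058343c169b590d1998c33a7214fb996c320d7f0ca3a4d36e6230ae35ac2c26194cda5757869515df98fc2d8d770b898c534664b2c035ec2f0c451e19a89b4680f4049a3c398d9734899cc350d8b33a3a3d3866830da364c378b6b0f7,
  nat_lit 0x94019c28695773bed5d64aeff232dc960e6747792fbfe8cbf0029a6c3a24d3004332c020b0f00d936c028cd127189c392a26d3bd95d9a28d133678994eeea1b3b830045de280e4e89f4f0e2393a7a81ce926ed3a93a74eaa2513ad8a44f2e29b03e2f6b9826f94f79c353e6c6b4f23e6d3d27314fd8b8bcb0bfafcc8bcc5d8bfefd03794e362b53d1b25d402c934fe8b34f56a533d28b64f5cddb3dda9c1da23053df8c6baa0c166e88c44f86322ea2306cbb65d708e2ddc24e5cf08a350c2325e709433dcbd67da70696f4b827653c9,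
  nat_lit 0x99bc34a9b3328a6bd188b970db99fc359b810df6f2acb07f30752eac3d5b9d0ed9aac3a9ba50f1907bea0c6efae224bece426fb030ec85e402f98317c810e4b4479fd9c32410f9e90fc870c7afb68aa4f3e3df0dc314c0ba3d1437378442a3ed43f3243f50cdd0262bfbf4e45e64532648dce4745d913bf18c82fca8dfc080c2f00633ad05638af2e30cc9649bb411aa9d03a36d41338cd074c7d21d8e33cc8c77423ab3d0823a542538d509e4546448ebbd18c42fe6924bfa0ca6fea39ad1c4cb125132b3fba47efd6328bf60cc3465,
  nat_lit 0x6b240b651b02a234c0c650f028339ca219c9035949c0ca4f701c3359b78e7748998d9ae24f90229ffc690e1f1a69fc5534e231aa9f8cde0e1319c9f5552685b1da2cfc116543040214c11cb4304b94c9824e7349594ec0e89b503c956c148d0b05476041665625f31e8c16db56da81e7aad8a170cf9c7ce30ddf10c6cc43266570c66d2432dae50af987c2b07d30b1985cc20d630aaa56cb18e7f2c8a53cb08e7a6fd1e4c2de63a6b97d642e662f0cc35bc2d0d1f2c1991c2e9b1d0bd27f3069eb91e3a01c6a1b8d0e79a2c391b6d0d5,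
  nat_lit 0x9bac410dc337a9c1c420dd73849b453cec674f09b753d672f39437ac44097cf2d8b7ba19c48fcd8baba20896fd12f83c022b045329ad404a894ff2fb3cfa2c8e762944f4e2d6e822fdba12406f9c319ce162fee8a301c6008c4ea98c5ba7a7026e93033a6a30ce9c5cf3a8e31eea069d423dab62552dcc22e5ca5eb69a4235a8909594bc0da7de70734e4218df512a9d81bf9a35081968c1f0743091966c1e8d2b0c496bc209a410856aa42765f309a7debee8ae6fbe9dbc4b276a6ff6af42865fb09e1f9c3ccd1b2bf6b1b008746d68,
  nat_lit 0x67e3cce39af3638ad0863a2f4030fbd08c84fce7733d1e3aaf442c23f9d93cfe9923bf9078afeb32a3fb1948fef6a73f5e47a64f19ebf64e5d463931c00250a671a19c778e3f1e2a17d069950ff392abfc28df244a36c908b12ffb92ebfd0abb0032bbc3a4b1f005933998cb230097fcb2c1feecae660402cbc4e4817fb92cd6530989a391a57a68b95cc188db3366898b908bbf048381cee4bccfc862f393cded39589e3932236f262eb90e4a573a53734decdc51068914eacbb4e3089341f8bd0e5c8a33ce8b3903f8a5b97880ee61,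
  nat_lit 0x2e8c395b5eae61ebb6d086b0d38614ca5b7aabe1eec365e710d76df31284b8b2d6f18fde0ef0746eeab79c4241c1f3b730b9f0eb2e943bdba0ad67763ea641afa67d53ebdd0244d73db8b87defb18e5bcd1df0f998ffbe58c632059fe9c34c690d86323e7e436fb470a3ede2a6e6e2f7b9c0b990dd8f6989cb3502f8f3bda0c4af6a7d1442e3eb0ee315bdb990cfd566a409dcfe44c32548d688b1fca21c7e9af4fc7912bf11e0cfcb1dcc08637af227bf401e376f2030aca25c34f2f8e1bca8e2f40f91d993a368f12926506cc34f30,
  nat_lit 0x78546acdc9379302c6767d319829946689a51db671ad106b70431fac1059dacea1afb8cdf1ef8c2b2c126308608a43c9da90b27476b40ed9bd03d24bc14e5565dd67c4154b5105775f11ca2ac5f26d0aaa879ada96d3aac841aab77b9b0ea71323478d4435b2aaf01e1b658b8f0c76cfb671b34da276791f9ae0cbc23cc2b5af2a821d8b73660f0a86b742ae0e12c7a55cb120f12c9a52cada75c6fc6bf8ab476ad9d2b73198ae04fd2e4433662b0b2282c2d4d232c36c442ec77c3bc6c62a58202c1b7ad3089ded1a91f02b29b88c2c,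
  nat_lit 0x5bc3a2e2fb08823ac6048c03052323aad71ce9f7493a6dd2ce9d5cb848c53ab9c5c93a85a72a3a1c6882563c254698b4b9a590898a217aa0d65ae69928c9a82d3e69e3508957037694421dc7112b2db41fda30a1a76341f473ed5d2c5c1ee5966922d1c314ab30831c834fda3caf86a6a94072ad522dfc26cae8fbb7dcb1b0902fbf71f44b5ab2a601ceb570b7b09f6ed8fc45b8c036b0a988750d691d229c88a302b233bac5ea50291b133ac6b89c477f40cdd4d01d93cc06a6e66df3364078b2f0237724695de51a79fb9504a871a2,
  nat_lit 0x7ee490dd28ff52adbe25da64827c3b1124ca66228d30f134ccb11a0b2bd9763451a4b2f97d4e49621a5318822fd2f03de967ce47680418e6c70fc1a5b90e25ee402bd3f2461cb1262e0c48bc85115a13934974f2788cc159cae4388aeb9c9c0d107890b8b0bb2e6a1eab8c62485dc21eb974984f3b6f08fd8636e5f6fbb3a080adfb6ff4415c191099b2c3f8a3b4f19b697e4dbb1029c9c439c3d11120d38756d8e872bebf3dc4442014cba25cfab622513c05d1e45227a3cfe2c45f817db9de2bee74227ba0e2d2e7868e3a158b0f9d,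
  nat_lit 0x18c905088ee6f8a8b99969ce711ef2b0a3d6626757b7e0a0ef698f2bd89df8f6b709b84082256a8f9bdb1ca0f6f642a5e0656a4e2cc40959a49ae7ca47f4c5b1fb640b1f98f83b263a3f1494c47b1dbb60c86ef237be15517c0f218dcbc78830b187923cacc24f101a8bc4d7d0f315f8afb97d836a5ff3cde81b1aea05c6b1d6cf418e7bcf1818f4360ca7905d648e6093d1466c98c64e2ad06cafe56a88e5c736d9778e3fb594699419ca97991ec8c6450e5995a33e655aa48b1b0017ac477e8631dc1c1349d94c99c74c3fc5fc5245,
  nat_lit 0x289c2a5b723da6b62f8a0ded0a2d8b43a0d12c52d9c0920c12b75d48ab1afa3b34b3319dea84fc7bb9438b830b37b3b0c1ecac286c3af40776a8c6c50f01520a9754787b92be02d60e308cac0f8d77a2f29588acb6e10f885e8c2d117ab9c7a6db31ec36d5cb643b72990ce182d902e2c14042aabf6dd8f6c9ec4c72603018606c4b05021d91d4b2f839b448456adf20f1075b963e5871be6a1c2fc21f52b493b0ad763b84ec6524922b6be9c84ce2f2093845bae3ed5fb3cd4708c1e1c492698a8f9718a0c4d8c495c2b4bed58d696e,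
  nat_lit 0xeda9cdd22454746ade88beeb066ca6d86ae4f81b033a52349c52523c0c94049f1fec06d99501f6c0aa29dc247d245bb89dd6bc8248bbc1f0054076e468de0af0224ebc21d8abbe7594665d7919b268bca202ecc41362d159c29c2276c109bbed66673a731c6ce322b1be4603127780949d4918ee32432f099bab221aca838b4d05124abbc59ee1af1b4af108e0bbc76191cc406aab5572acd1928c64622ad43eec3b2582f69e304b4119abc5b26af4827969078cc041e5b68dda247f1d629e868ecbd76691f1d924770f3aa0daee3af,
  nat_lit 0x151b0d4846e755ad39e45a89be5fd0df0accf9b62b29016ee8f4146aac1892304756baa9716a2e14bae308b8b8622b11548b0b8422d30813121225caa970542b9d5c82898362a3b69ba8f95582085902c944a4a8869534bc70ca3083696bc714b82068a8cc71ca421c9350de1ebd6786af49a4aa281c0b498854b241bd2848332a1b68b88046f24767ffb2d9ffacb4826b3c8a12f831bf0df4474af908ea945a96d041ccb54dee2c384c831b5c7ac98217acb94b4a616aba962132d4884bb519bb23f016d25085bcc0550f298c74cd67,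
  nat_lit 0x264c7746742b7097a675fc2c962c1b269fb44b37c5be21daa48359d30f533e86e09aa6902d63446448cb05989a2078a534602c451288bf1ee8f7b21839156788dc205380d9fc9f66f443f5672ad4132b2fd6f8e412543c2449cb1362d0c41ef2510185314d68024b25c2f90978f2972aad19cb243a21fb9cdc0ae02204ac2187ce2d88fb8a8886e6b6d88c45baa3ec637a850806df96feb7e8802db2705903881ab1428cc3fe6d71006f9440ca2910f70caed882ee1c1422b196d4b6671390856e28f2144ae344feb632373ae573629f,
  nat_lit 0x5a62b001b2ac32c03240a06f6363d8c9064649e707ac59f4a56b280bdb586ec3417c90c92e8979641a5c037ca4f1aa0d4c27a9af7c9be40abec4c7c2be08642c7f1930c94af0fc36392741d9647a6c2b608aac5555efa4b058ea9478a3c7c3cab19256bc45aea3ae6678d3c5c4c0b5f32b385a0bef16729586d836b6668d397f8a7627746bc9d11ad2362ee09e4f3d6e48f91810c0a0b6279582e2e9774923c5c8a546082b6824a98d678a7519dea3c2572f6096c4b546126559429920e6297c660c8d1970cb43e4a9327d13e5eacd10,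
  nat_lit 0x1642f8d4d4d0b686343e0ced0882fb3e974e9ca5d58ab94fa1e2082a59214a50f61530c5828c29160af45170a8d2860f043e8a950f807bd2c210242a80b05e0c211762c389303175012f2c438ac910c26b09ce3e31792af05ecc2f118aba445aae5551364617e5a51082ae4426abd2621319800c07183b13588e9c8023a1dd1d00a24fd344d5b28ee114ab75598ad31122b553ac1604d584e9dde4935faa6c05a694e177307ddf649b628ae00612c526300c581fe95d7d0b4192d096f634a9e1c2e415734ad2888ae6d220b99d6e628a,
  nat_lit 0x50230e424c86009422f0266c9971daca83908a20e3a965498d49523351c1ce9430cd24003380d5532a2a94e21d90b8adedd4abb00a2a6dd9aec2e06321212300ca293c405bd6b60664b2c869a9b45422a2ddbee6c4892f25db6ed8242af18176bbf75dbae08d6bba0bbb3153de1740b9ad1c29e9c30aaa735c6842c808b308910ed915daf0c4acb2366da70031ca0f51b86b99eaac84dd2f14556bbd55388003feaa91052ac51808c7043021553a1fa54c830c20ebdb78b12c846eaf3576a738470af50f0a9ed4fe1e3540a2c8754bc0,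
  nat_lit 0x5850929268be573290b5cc6b48700abe9608b0958ea7498e231c6faabd9c12b10074ac55be2aea1ffabc8570bb710d2b1d6d0286140ad9c84ae2b054a3cd6de1655af89f04f6b615cc8a79c522e713b09d56b02350a5a6fd7f02d61862550370a4105623d56ea28b0d4a8bd7128f65832e1c52ab854c3847c394a5d0d0a89c35aa390db28fc40c2040f62a24356a31149ae0d23a0cb067a484366a4314d23e858abd7161af4c346a29691a881418a130ca285432ea1968aa8196a8cb71a1b2d46cecf304902451a8afb4c1a1606e0d05,
  nat_lit 0x63c87e42c6b177b0b099ebec24619aeb82249774b904401369714c284782729ad18f0c742b29d149424b57baab86688d485942871102b3c38aa5716c0b5c3baa775da2ee47f427d17028402d01670b7279c5062e80e0a95581c2e6113ab6c24298b0aea754368a3d4922f640bc05d449021131c99313909c46ecd115d90ad932e039096a66c666c977efb24866ac9b12008fd604266020a1bc26c9a565c33ed3c699a098a68d2920eb4a583b963697e75ab9104d026746b23742f69f76f32b8166e263599a8b04c228e4a383a84d496a,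
  nat_lit 0x41221953e1fb54d87e121c0c206f23915de2340ab273d1a2090047abdd4eaa5203ca2cc47abc1498a2103a095253407506e8bce68134242a69cb1580abd2709655b2a39857ebcf03d01dd16c8a84b1840d0a684e017a164498b0f0c003f54001846f6aba15c6a16663ab915428ba0fea5f041eabb0a8a724092879022a1d51da0a34fc044414a8ef1542b70444ad110f28902bc8804ed85853528f00a026c57e693e07a253c522b81627aae92b20fc07da56c6e4d0708625b42108f80efa9e53c0b4b13725e842cac149782f5758c91,
  nat_lit 0x1232a196fe28f0cfa8943d4a870d228ac19a91f491a4801628fb5ea874d79aa38511a268326a174fe281d6a42740eb07551a48961b728602fc95a0c306150b486144722f534287012dacac0da8a30e1294d4969b20dea5d966a262522060c11484a466250416690150e288524c0d4039a2ad4d81d84fa85e53d68884832ec404284948b03214dccb30a1a6d43d00c906002fd2208b048682f92128465a82eed3e21754f6a22937a1494e3a1e039ecc357f88f829a9c10c6062c320a1151aa5b057abc74dc052154a8be57eaaa01128e5,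
  nat_lit 0x38a2a404e84f015a15d3fc18203fa2ec22a97d439a1a913a874593ab400a288109fa6cd27493f07b25452ae850057a3e422c97b06e24cd2160bc1522409740c275d23094564baf08725011c289846fa2781ac92b4ef859818a86c446017112006050509c02f891e43100e025699964aa601744c9358009090d203b01fa1b53d29e608ca5fc1308db04a2131278ae1598897821496b12425401b693212cad242b69d35862c4528a8da076abadbde27915a262814e8f14ee85916ba8e24f985e16ac278079a55434ea2d055a3dc488243,
  nat_lit 0x1921751fe0b443d812803684502a220d15a882037a29d0fa04e026a1fc05285105c23600cc899034a27c0b485c031018406c84443200e807a86b08da60412c8d9011a1341c40e1072013c13a8e315328a922a87e44a226c0c889701a217c060856021a1c5652998035a2854920b50dd24a804884b465023016e90347ea2801a485e452a1080b2889482012c03884300fa11c3108a6433222d41018a0a301f41028bf02ba21d19e08d03aa2c40a688507c254d4cc1d249b038013e8e745781d916807c]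
theorem W0_c : blocks (rows 12 3 15 27 4095 32767 134217727 13 8191 26 A 3324 1980 cols 64) 64 JW0 0 = true := by decide +kernel
theorem W0 : On (Row.{u} RM LW par A 3324 1980 cols) 0 1984 :=
  rows_of_blocks hpar (by decide) hcols W0_c (by decide +kernel)
theorem idx : Idx.{u} RM [[0], [2]] [[2]] 1980 :=
  idx_of_cert hpar hR (K := K) (by decide +kernel) (T := 2268) (T' := 2304) (by decide) D0
    (subs := [2]) (by decide +kernel) (T1 := 2268) (by decide) (N := 3324) S0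
    (by decide) (n' := 1984) (by decide) W0 (by decide +kernel) (by decide +kernel)
end TM
namespace TM0
noncomputable def A_0 : List (ℕ) := [nat_lit 0xc0301c020140000a00]
noncomputable def A : List (List (ℕ)) := [A_0]
noncomputable def K_0 : List (ℕ) := [nat_lit 0x814060000]
noncomputable def K : List (List (ℕ)) := [K_0]
noncomputable def R_0 : List (Rule) := [Rule.mk (nat_lit 2) (nat_lit 28) (Steps.bwd (nat_lit 2) (Steps.bwd (nat_lit 2) (Steps.fwd (nat_lit 512) Steps.nil))) (nat_lit 3) (nat_lit 0)]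
noncomputable def R : List (List (Rule)) := [R_0]
def LW : List Word := [[], [2], [3]]
def par : Par := ⟨9, 2, 11, 20, 511, 2047, 1048575⟩
theorem hpar : par.ok := by decide
theorem hR0_0 : lall (R) (fun l => lall l (ruleOK RM LW par)) = true := by decide +kernel
theorem hR0 : lall (R) (fun l => lall l (ruleOK RM LW par)) = true := hR0_0
theorem hR : RulesOK RM LW par R := rulesOK_of rfl hR0
def cols : List (ℕ × ℕ) := [(512, 2)]
theorem hcols : lall cols (colOK RM LW par) = true := by decide +kernel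
noncomputable def JS0 : List ℕ := [nat_lit 0x100401]
theorem S0_c : blocks (facts 9 2 11 20 511 2047 1048575 9 511 1 1 A R 32) 32 JS0 258 = true := by decide +kernel
theorem S0 : On (Step.{u} RM LW par A) 258 290 :=
  steps_of_blocks hpar hR S0_c (by decide +kernel)
theorem D0_c : allB (defOK 9 11 20 511 1048575 259 A K) 1 2 = true := by decide +kernel
theorem D0 : On (fun r => defOK par.W par.WL par.E par.mW par.mE 259 A K r = true) 256 384 :=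
  On.of_allB D0_c
noncomputable def JW0 : List ℕ := [nat_lit 0x104430fc44]
theorem W0_c : blocks (rows 9 2 11 20 511 2047 1048575 10 1023 10 A 290 4 cols 128) 128 JW0 0 = true := by decide +kernel
theorem W0 : On (Row.{u} RM LW par A 290 4 cols) 0 128 :=
  rows_of_blocks hpar (by decide) hcols W0_c (by decide +kernel)
theorem idx : Idx.{u} RM [[2]] [] 4 :=
  idx_of_cert hpar hR (K := K) (by decide +kernel) (T := 259) (T' := 384) (by decide) D0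
    (subs := []) (by decide +kernel) (T1 := 258) (by decide) (N := 290) S0
    (by decide) (n' := 128) (by decide) W0 (by decide +kernel) (by decide +kernel)
end TM0
end

namespace J
open CA.CNet CA.CWord CA.CLevel CA.CSimple CA.CPoint

noncomputable def t0 : Net := [(nat_lit 0x114005451545400004110011114415414441151054141001404540404140414000, nat_lit 1),
  (nat_lit 0x322231303321210210301213100312232302222232000003202201002012101002, nat_lit 2),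
  (nat_lit 0xc0f000d0705040604090d0b0e09050d070d06000904000d05040b010905010300, nat_lit 4),
  (nat_lit 0x2005200b0008c00fc001700ff00ca00ba0019003f008100df00a9004c001f00b0, nat_lit 8),
  (nat_lit 0xd9dd00003e48000012a5000069ff00000b480000f4c00000fc7f00004d80, nat_lit 16),
  (nat_lit 0xc3992df500000000db77b00b00000000aff9eb7f00000000a0740080, nat_lit 32),
  (nat_lit 0xc00a1df5268aebf700000000000000000288ab7400000000, nat_lit 64),
  (nat_lit 0x400214002288abf40000000000000191, nat_lit 128),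
  (nat_lit 401, nat_lit 256),
  (nat_lit 401, nat_lit 128),
  (nat_lit 0x400214002288abf500000000000000000000000000000000, nat_lit 64),
  (nat_lit 0x800809f50000000020821601000000000288abf40000000000000000, nat_lit 32),
  (nat_lit 0x63910000842400007cc90000c3770000e548000008680000a07400000080, nat_lit 16),
  (nat_lit 0x34009200c000d60068007700e00012003100f70089003700010014004c0000, nat_lit 8),
  (nat_lit 0x809060b010302000c0e0a05080b02000b0b04050d00000801010b050c00000300, nat_lit 4),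
  (nat_lit 0x122231303323010233321211120123012100001312202032200300012113000000, nat_lit 2),
  (nat_lit 0x114005451545400004110011114405414400150054100001404540404140414000, nat_lit 1)]
noncomputable def t1 : Net := [(nat_lit 0x1004414540551100111154401110115500540015044445011050550444111450111, nat_lit 1),
  (nat_lit 0x223232301221022031113211103022230331033020000000002230110202202010, nat_lit 2),
  (nat_lit 0xd0f0e00010b0f01070d020b050b0708070b090d0900010706080d06080808000c, nat_lit 4),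
  (nat_lit 0x3004900e900b500ff00d700bb0083001d0045000200d300e60053002b004b0010, nat_lit 8),
  (nat_lit 0x967f0000ff6b0000b82e0000ea760000a03400006c7700002ff70000ab00, nat_lit 16),
  (nat_lit 0xf97dfe00000000c6dd6a52000000009f7edfff0000000054fd0000, nat_lit 32),
  (nat_lit 0x60813cc6db0296fd0000000000000000800296bd00000000, nat_lit 64),
  (nat_lit 0x60812800880296fd0000000000000078, nat_lit 128),
  (nat_lit 120, nat_lit 256),
  (nat_lit 120, nat_lit 128),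
  (nat_lit 0x60812800880296fd00000000000000000000000000000000, nat_lit 64),
  (nat_lit 0x14fe000000002082880000000000800296fd0000000000000000, nat_lit 32),
  (nat_lit 0x40f900001114000054430000043000004e7200000437000044b500000000, nat_lit 16),
  (nat_lit 0x60001000f20091009900f500d4005b00120044009100a000110009000b0000, nat_lit 8),
  (nat_lit 0x20a0f0a00020c00060d020a040a0608070a080d0900000706080d060808080000, nat_lit 4),
  (nat_lit 0x11301311213232033112211103022230331033020000000000230112202202010, nat_lit 2),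
  (nat_lit 0x551141014105040011550441110114500540015044445011054550450111040010, nat_lit 1)]
noncomputable def t2 : Net := [(nat_lit 0x1515455040504051554500515550455041514141101105155544000404040150510, nat_lit 1),
  (nat_lit 0x220110203231130123220201311131010233101131301101232332030220000300, nat_lit 2),
  (nat_lit 0x50d0b0a020902040506080400000c010c0e020407090d0d0508090c000e030306, nat_lit 4),
  (nat_lit 0x300300076004300d500ce00a400f7009100aa00d7000c00de0087006700170098, nat_lit 8),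
  (nat_lit 0xe3ff0000ed1e0000ea7e0000a79100000252000019d500002fcf00006700, nat_lit 16),
  (nat_lit 0x42b44cf8000000005fc7bd510000000047f77aff0000000088cd0000, nat_lit 32),
  (nat_lit 0xf80c45a8c93a43fd0000000000000000403242ed00000000, nat_lit 64),
  (nat_lit 0xb8080500c03242ad00000000000000f0, nat_lit 128),
  (nat_lit 240, nat_lit 256),
  (nat_lit 240, nat_lit 128),
  (nat_lit 0xb8080500c03242fd00000000000000000000000000000000, nat_lit 64),
  (nat_lit 0x400440f8000000006820070000000000403242ed0000000000000000, nat_lit 32),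
  (nat_lit 0x2f00000480c0000d93e00008085000018d10000025f000080cd00000000, nat_lit 16),
  (nat_lit 0x640000005700c0009f00c600c000d0000100c0000300d5000d006500250000, nat_lit 8),
  (nat_lit 0xa02010c0109050504060d010d0c0c0109020a0c02080505040001040004010100, nat_lit 4),
  (nat_lit 0x133221312120021133231200201021100222100121310101232232030220000300, nat_lit 2),
  (nat_lit 0x44041000404051454100515550455041514141101105155544000404040150510, nat_lit 1)]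
noncomputable def t3 : Net := [(nat_lit 0x1154100541041410115055514450015445150154040010541114150411045411000, nat_lit 1),
  (nat_lit 0x211311011132133311033200300023112122333110023320010212220221221301, nat_lit 2),
  (nat_lit 0x809090d0f0201030104080e020c0a09050b00000a06070a0a0a070c000e0a030a, nat_lit 4),
  (nat_lit 0x140092000a00e2002300fa00810001004600ff00d200dd009200ec000600d8, nat_lit 8),
  (nat_lit 0xefff0000e8580000cf5a000040ef0000a3b1000084b30000ecdb00002f80, nat_lit 16),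
  (nat_lit 0x17c713f70000000075af4e03000000007b9ffbfd00000000907f0000, nat_lit 32),
  (nat_lit 0x846004f70b70b3ef00000000000000000300b17d00000000, nat_lit 64),
  (nat_lit 0x846004020340b1ed00000000000003c3, nat_lit 128),
  (nat_lit 963, nat_lit 256),
  (nat_lit 963, nat_lit 128),
  (nat_lit 0x846004020340b3ef00000000000000000000000000000000, nat_lit 64),
  (nat_lit 0x3f70000000084208503000000000300b1fd0000000000000000, nat_lit 32),
  (nat_lit 0x7c70000085000000a5a0000a3cf000002930000a0910000807900000000, nat_lit 16),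
  (nat_lit 0x100090000800e0002300ea00a10001004600fd00f200fd0090004400ac0000, nat_lit 8),
  (nat_lit 0xd09090d0f02040601040a0e000e080b050900020804050a080005040a04000900, nat_lit 4),
  (nat_lit 0x101301010032022211022200300023012102333110003320010212220221221300, nat_lit 2),
  (nat_lit 0x1154100541041410115045514450015045150154040010541114150411045411000, nat_lit 1)]
noncomputable def t4 : Net := [(nat_lit 0x1440100111444404445500450414545040505445444115100154000151151054000, nat_lit 1),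
  (nat_lit 0x23132020302313130313113202100211301223210101222030000122133013002, nat_lit 2),
  (nat_lit 0xc060007080a09080b010a0a0709000e0a0d0208030f0e0f0e050b0c07010c0300, nat_lit 4),
  (nat_lit 0x30047009f006100a00080003300d90039006500b100f000d800dc005c0014005e, nat_lit 8),
  (nat_lit 0x9bd900007cbb0000167e00009d5000009985000089c400005698000011b0, nat_lit 16),
  (nat_lit 0xebbc004900000000befde6e000000000bc25e7630000000010019564, nat_lit 32),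
  (nat_lit 0xaefc8bd457e53dc40000000000000000d4ef01f041080140, nat_lit 64),
  (nat_lit 0xd30dddfc9d57d534bc99275303817b3f, nat_lit 128),
  (nat_lit 0x3ff, nat_lit 256),
  (nat_lit 831, nat_lit 128),
  (nat_lit 0x281452000e86ad0400000000000000000000000000000164, nat_lit 64),
  (nat_lit 0xbb8990f8000000009a8c6624000000009a0205400000000000000140, nat_lit 32),
  (nat_lit 0x828100002a2900000e320000c1900000c1010000911000000e44000000a0, nat_lit 16),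
  (nat_lit 0x30047008f002300aa00000031009f003d000300b100d200880090001400100058, nat_lit 8),
  (nat_lit 0xc040401080a09080b010a0a070900080a090008030d0e0f0e05090c03010c0300, nat_lit 4),
  (nat_lit 0x23132020302313130213113202100211301223210101222030000122113013002, nat_lit 2),
  (nat_lit 0x1440100111444404445500450414545040505445444115100154000151151044000, nat_lit 1)]
noncomputable def t5 : Net := [(nat_lit 0x510545000411101011105544045504041151115440141001100514154011410004, nat_lit 1),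
  (nat_lit 0x21233133013112002113312003330002311133001021212112333111120003102, nat_lit 2),
  (nat_lit 0x10502010309050c010e0f090b070503010e0904000903070e0b0c000b02000a02, nat_lit 4),
  (nat_lit 0x22007b00dd00cd004200300064003e004800c100ee000e000f006300c400b8, nat_lit 8),
  (nat_lit 0x177c00000bdb00008d9d0000196f0000d3450000d22e000018f50000b74a, nat_lit 16),
  (nat_lit 0x64a75197000000008c5c14bd00000000fe840950000000007430a8fc, nat_lit 32),
  (nat_lit 0x9f9cfd5ffb27a5e200000000000000008fe2f9c1c60eb898, nat_lit 64),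
  (nat_lit 0x5bcb5cd12487f1790431b82ec33ecfb6, nat_lit 128),
  (nat_lit 0x3fe, nat_lit 256),
  (nat_lit 948, nat_lit 128),
  (nat_lit 0x599a80b7e101234600000000000000000000000000000052, nat_lit 64),
  (nat_lit 0xd7e0e50000000000270687d000000000494270f80000000000000144, nat_lit 32),
  (nat_lit 0xc497000081b500001ce400002cdf000065e4000030100000660000000272, nat_lit 16),
  (nat_lit 0x100ff0003009a009e00f80041008300de004f002e006f009b003200e6009d0008, nat_lit 8),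
  (nat_lit 0x7040004050c060a04060c090201020c01040d04010a090b010a0208010f010800, nat_lit 4),
  (nat_lit 0x231001332232120011211300003111111021100122001011321022121320222000, nat_lit 2),
  (nat_lit 0x454455105441400111110055415000011150400014100544440010055040100010, nat_lit 1)]
noncomputable def t6 : Net := [(nat_lit 0x1440000500505110151105045001500505550545515440050111045405410440000, nat_lit 1),
  (nat_lit 0x322111222123101030020003201102313333011311121002333220032102133232, nat_lit 2),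
  (nat_lit 0xd0d0b070a0e070e03030e04040b0c0d0c0c06080e0804090a0a070d05010808, nat_lit 4),
  (nat_lit 0x2003d00ff002c00290058007100c400f700bf0029003600de00fb000e003600ca, nat_lit 8),
  (nat_lit 0x717e0000b79d00009b8e0000abe40000706300003ca0000001b600003549, nat_lit 16),
  (nat_lit 0xfd42c01f00000000d436d10000000000909de81d000000001e744c09, nat_lit 32),
  (nat_lit 0xc2b455149d776e2800000000000000004a8304311f48fa83, nat_lit 64),
  (nat_lit 0xb98f5483e536e45ccb03a3305ac85adc, nat_lit 128),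
  (nat_lit 0x3ff, nat_lit 256),
  (nat_lit 679, nat_lit 128),
  (nat_lit 0x7280b3a394be3c8200000000000000000000000000000071, nat_lit 64),
  (nat_lit 0x1127321b000000000649063400000000540aaad00000000000000148, nat_lit 32),
  (nat_lit 0xf1e7000022140000e64900002f45000078970000c80a000028bd00000189, nat_lit 16),
  (nat_lit 0x300d3008d004100d5003d00630011000a00680067005e00220010002600220020, nat_lit 8),
  (nat_lit 0xb0700030e0c0b080f0f07070d02060d0f0b0a0c030f0405090a0d0a02000800, nat_lit 4),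
  (nat_lit 0x230313332000331122133303302113112103332303321000210300223133130120, nat_lit 2),
  (nat_lit 0x1544045045514000550010015104440001010154441001104010415555514010140, nat_lit 1)]
noncomputable def t7 : Net := [(nat_lit 0x515040451444054554054400014405045110010501410104045141155110005000, nat_lit 1),
  (nat_lit 0x132012213023013033113202210100303333111032322312001002013321230312, nat_lit 2),
  (nat_lit 0x501050c09030f060e09050e0f0b040c0f03030b02070c0d09060e00070f0e0a00, nat_lit 4),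
  (nat_lit 0x1002e0079008d0036008500f600f50008008000a800c400a100030002009b002c, nat_lit 8),
  (nat_lit 0x69c30000dd410000fa5c000056dd0000a23e0000f40600004c3700005a36, nat_lit 16),
  (nat_lit 0xa44d5c5a00000000c12d998d000000007d322930000000007727611c, nat_lit 32),
  (nat_lit 0xaed6b10c728ffc7f00000000000000004106f11107062318, nat_lit 64),
  (nat_lit 0x5f9196371c1925f2b87cfd572071c273, nat_lit 128),
  (nat_lit 0x3ff, nat_lit 256),
  (nat_lit 627, nat_lit 128),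
  (nat_lit 0xa0a00b403c48447300000000000000000000000000000118, nat_lit 64),
  (nat_lit 0x860b156000000005c0cb01400000000100111210000000000000204, nat_lit 32),
  (nat_lit 0xa34700001d550000f80900000ed80000f423000072160000c62600000166, nat_lit 16),
  (nat_lit 0x1002e003c00c9007600c500060065000800950028009400a500530042000a003c, nat_lit 8),
  (nat_lit 0x50104080d070e020e09010a0f0b040c0b07030f02070c0908070e04030a0a0a00, nat_lit 4),
  (nat_lit 0x130002213023033033111202210110303223111032323302011000013301330002, nat_lit 2),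
  (nat_lit 0x515040451444054514054400014405045110010501410104045141155110005000, nat_lit 1)]
noncomputable def t8 : Net := [(nat_lit 0x140445440044440554445140115151455044455541151550004044111444500400, nat_lit 1),
  (nat_lit 0x212212320210220013132202031103011201233121031001223303132120212120, nat_lit 2),
  (nat_lit 0x60a08010e060b0d0304070203050b020e01040e0c020b040f0200000800020e08, nat_lit 4),
  (nat_lit 0x100f100c800a30011003500af00f4007b00ef00d800ba0098000200d300790018, nat_lit 8),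
  (nat_lit 0xd91f000066f400001f70000095960000c66a0000a6cf00005e980000d1a3, nat_lit 16),
  (nat_lit 0x5569a9c20000000088989d5f00000000cd4e06bd00000000d9ba8469, nat_lit 32),
  (nat_lit 0xa65501f9ead2063800000000000000000d444d2007006230, nat_lit 64),
  (nat_lit 0x48cdd8eacf1055b1bfc07b2bf6889a34, nat_lit 128),
  (nat_lit 0x3ff, nat_lit 256),
  (nat_lit 564, nat_lit 128),
  (nat_lit 0x6501834121904ab000000000000000000000000000000030, nat_lit 64),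
  (nat_lit 0x4cc8c0030000000041140416000000000c04a52000000000000001e0, nat_lit 32),
  (nat_lit 0x17010000a278000045300000050e000024020000228600000095000001ab, nat_lit 16),
  (nat_lit 0x74004c002b0018006100a7005800b3006f005900b200110002005a00b40000, nat_lit 8),
  (nat_lit 0xe020009020a03010b0809080b0d030e00090a0004080108030e0808000c0e0000, nat_lit 4),
  (nat_lit 0x212312320210220013132202031103011200233021030001323302132020212120, nat_lit 2),
  (nat_lit 0x140445440044440554445140115151455044455541151550004044111444500400, nat_lit 1)]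
noncomputable def t9 : Net := [(nat_lit 0x114005451545400004110011114415414441151054141001404540404140414000, nat_lit 1),
  (nat_lit 0x322231303321210210301213100312232302222232000003202201002012101002, nat_lit 2),
  (nat_lit 0xc0f000d0705040604090d0b0e09050d070d06000904000d05040b010905010300, nat_lit 4),
  (nat_lit 0x2005200b0008c00fc001700ff00ca00ba0019003f008100df00a9004c001f00b0, nat_lit 8),
  (nat_lit 0xd9dd00003e48000012a5000069ff00000b480000f4c00000fc7f00004d80, nat_lit 16),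
  (nat_lit 0xc3992df500000000db77b00b00000000aff9eb7f00000000a0740080, nat_lit 32),
  (nat_lit 0xc00a1df5268aebf700000000000000000288ab7400000000, nat_lit 64),
  (nat_lit 0x400214002288abf40000000000000191, nat_lit 128),
  (nat_lit 401, nat_lit 256),
  (nat_lit 401, nat_lit 128),
  (nat_lit 0x400214002288abf500000000000000000000000000000000, nat_lit 64),
  (nat_lit 0x800809f50000000020821601000000000288abf40000000000000000, nat_lit 32),
  (nat_lit 0x63910000842400007cc90000c3770000e548000008680000a07400000080, nat_lit 16),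
  (nat_lit 0x34009200c000d60068007700e00012003100f70089003700010014004c0000, nat_lit 8),
  (nat_lit 0x809060b010302000c0e0a05080b02000b0b04050d00000801010b050c00000300, nat_lit 4),
  (nat_lit 0x122231303323010233321211120123012100001312202032200300012113000000, nat_lit 2),
  (nat_lit 0x114005451545400004110011114405414400150054100001404540404140414000, nat_lit 1)]
noncomputable def t10 : Net := [(nat_lit 0x114005451545400004110011114415414441151054141001404540404140414000, nat_lit 1),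
  (nat_lit 0x322231303321210210301213100312232302222232000003202201002012101002, nat_lit 2),
  (nat_lit 0xc0f000d0705040604090d0b0e09050d070d06000904000d05040b010905010300, nat_lit 4),
  (nat_lit 0x2005200b0008c00fc001700ff00ca00ba0019003f008100df00a9004c001f00b0, nat_lit 8),
  (nat_lit 0xd9dd00003e48000012a5000069ff00000b480000f4c00000fc7f00004d80, nat_lit 16),
  (nat_lit 0xc3992df500000000db77b00b00000000aff9eb7f00000000a0740080, nat_lit 32),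
  (nat_lit 0xc00a1df5268aebf700000000000000000288ab7400000000, nat_lit 64),
  (nat_lit 0x400214002288abf40000000000000191, nat_lit 128),
  (nat_lit 401, nat_lit 256),
  (nat_lit 401, nat_lit 128),
  (nat_lit 0x400214002288abf500000000000000000000000000000000, nat_lit 64),
  (nat_lit 0x800809f50000000020821601000000000288abf40000000000000000, nat_lit 32),
  (nat_lit 0x63910000842400007cc90000c3770000e548000008680000a07400000080, nat_lit 16),
  (nat_lit 0x34009200c000d60068007700e00012003100f70089003700010014004c0000, nat_lit 8),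
  (nat_lit 0x809060b010302000c0e0a05080b02000b0b04050d00000801010b050c00000300, nat_lit 4),
  (nat_lit 0x122231303323010233321211120123012100001312202032200300012113000000, nat_lit 2),
  (nat_lit 0x114005451545400004110011114405414400150054100001404540404140414000, nat_lit 1)]
noncomputable def C : Ctx := ⟨266, 9, [t0, t1, t2, t3, t4, t5, t6, t7, t8, t9, t10]⟩
theorem hC : C.ok = true := by decide +kernel
noncomputable def lk : ℕ → ℕ → ℕ := look C 64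
theorem hlk : Good C lk := good_look hC (by decide +kernel)
noncomputable def L4 : Level where
  ω := 1
  hs := []
  cardH := 1
  reps := [⟨[0], 3, [], [], []⟩]
  covs := [⟨[21], [], [⟨0, [], [], 1, []⟩,
      ⟨1, [], [], 0, []⟩], []⟩]
theorem L4_light : L4.lightOK C = true := by decide +kernel
theorem L4_eqns_0 : lall (L4.eqns) (eqP C) = true := by decide +kernel
theorem L4_eqns : lall (L4.eqns) (eqP C) = true := L4_eqns_0
theorem L4_H : Nat.card (C.grp L4.hs) = L4.cardH := card_grp_nil C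
theorem L4_card : Nat.card (C.grp L4.gs) = 2 :=
  L4.card hC L4_light L4_eqns L4_H (by decide +kernel)
def H4 : List Word := [[21], [20]]
theorem H4_eq : C.grp H4 = C.grp L4.gs :=
  grp_lapp_eq hC L4.gs [([20], [0])] (by decide +kernel)
theorem H4_card : Nat.card (C.grp H4) = 2 := H4_eq ▸ L4_card
theorem L4_base : IsBase (C.grp L4.gs) [1] :=
  isBase_level L4 hC L4_light L4_eqns L4_H (isBase_nil C)
theorem H4_base : IsBase (C.grp H4) [1] := H4_eq ▸ L4_base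
noncomputable def L3 : Level where
  ω := 13
  hs := H4
  cardH := 2
  reps := [⟨[4], 167, [0], [], []⟩]
  covs := [⟨[17], [], [⟨0, [], [], 1, []⟩,
      ⟨1, [], [], 0, []⟩,
      ⟨1, [0], [0], 1, [0]⟩], []⟩]
theorem L3_light : L3.lightOK C = true := by decide +kernel
theorem L3_eqns_0 : lall (L3.eqns) (eqP C) = true := by decide +kernel
theorem L3_eqns : lall (L3.eqns) (eqP C) = true := L3_eqns_0
theorem L3_H : Nat.card (C.grp L3.hs) = L3.cardH := H4_card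
theorem L3_card : Nat.card (C.grp L3.gs) = 6 :=
  L3.card hC L3_light L3_eqns L3_H (by decide +kernel)
def H3 : List Word := [[21], [20], [17], [16], [18]]
theorem H3_eq : C.grp H3 = C.grp L3.gs :=
  grp_lapp_eq hC L3.gs [([16], [4]), ([18], [0])] (by decide +kernel)
theorem H3_card : Nat.card (C.grp H3) = 6 := H3_eq ▸ L3_card
theorem L3_base : IsBase (C.grp L3.gs) [13,1] :=
  isBase_level L3 hC L3_light L3_eqns L3_H H4_base
theorem H3_base : IsBase (C.grp H3) [13,1] := H3_eq ▸ L3_base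
noncomputable def L2 : Level where
  ω := 6
  hs := H3
  cardH := 6
  reps := [⟨[10], 160, [0,4], [([0,4,0], [4])], [(1, [0], [])]⟩,
    ⟨[10,10], 60, [0,4,0], [], []⟩]
  covs := [⟨[13], [([4], [0,4,0])], [⟨0, [], [], 1, []⟩,
      ⟨1, [], [], 2, []⟩,
      ⟨1, [0], [], 0, [0]⟩,
      ⟨2, [], [0], 2, [0]⟩,
      ⟨2, [0], [0], 1, []⟩,
      ⟨2, [0,4], [4,0], 2, [0,4,0]⟩], [0]⟩]
theorem L2_light : L2.lightOK C = true := by decide +kernel
theorem L2_eqns_0 : lall (L2.eqns) (eqP C) = true := by decide +kernel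
theorem L2_eqns : lall (L2.eqns) (eqP C) = true := L2_eqns_0
theorem L2_H : Nat.card (C.grp L2.hs) = L2.cardH := H3_card
theorem L2_card : Nat.card (C.grp L2.gs) = 60 :=
  L2.card hC L2_light L2_eqns L2_H (by decide +kernel)
def H2 : List Word := [[21], [20], [17], [16], [18], [13], [12], [14]]
theorem H2_eq : C.grp H2 = C.grp L2.gs :=
  grp_lapp_eq hC L2.gs [([12], [11]), ([14], [4,11,11,0,4])] (by decide +kernel)
theorem H2_card : Nat.card (C.grp H2) = 60 := H2_eq ▸ L2_card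
theorem L2_base : IsBase (C.grp L2.gs) [6,13,1] :=
  isBase_level L2 hC L2_light L2_eqns L2_H H3_base
theorem H2_base : IsBase (C.grp H2) [6,13,1] := H2_eq ▸ L2_base
noncomputable def L1 : Level where
  ω := 2
  hs := H2
  cardH := 60
  reps := [⟨[16], 129, [0,4,10,14,0], [([10,10,0,4,0], [11,14,0,4,0]), ([10,4,0], [4,10,0,4])], [(1, [0,2,0], [])]⟩]
  covs := [⟨[9], [([4,14,4], [4,14,4]), ([10,4,0], [4,10,0,4])], [⟨0, [], [], 1, []⟩,
      ⟨1, [], [], 0, []⟩,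
      ⟨1, [10,4], [10,4], 1, [10,0]⟩,
      ⟨1, [0,4], [0,4], 1, [14]⟩], [2,0,2]⟩]
theorem L1_light : L1.lightOK C = true := by decide +kernel
theorem L1_eqns_0 : lall (L1.eqns) (eqP C) = true := by decide +kernel
theorem L1_eqns : lall (L1.eqns) (eqP C) = true := L1_eqns_0
theorem L1_H : Nat.card (C.grp L1.hs) = L1.cardH := H2_card
theorem L1_card : Nat.card (C.grp L1.gs) = 660 :=
  L1.card hC L1_light L1_eqns L1_H (by decide +kernel)
def H1 : List Word := [[21], [20], [17], [16], [18], [13], [12], [14], [9], [8], [10]]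
theorem H1_eq : C.grp H1 = C.grp L1.gs :=
  grp_lapp_eq hC L1.gs [([8], [16]), ([10], [0,11,16,10,0,4,0])] (by decide +kernel)
theorem H1_card : Nat.card (C.grp H1) = 660 := H1_eq ▸ L1_card
theorem L1_base : IsBase (C.grp L1.gs) [2,6,13,1] :=
  isBase_level L1 hC L1_light L1_eqns L1_H H2_base
theorem H1_base : IsBase (C.grp H1) [2,6,13,1] := H1_eq ▸ L1_base
noncomputable def L0 : Level where
  ω := 0
  hs := H1
  cardH := 660
  reps := [⟨[22], 2, [16,20,0,4,10], [([10,10], [11,0,4,0]), ([14,0], [11])], [(1, [0,2,0,2,0,2,0,2,0,0], [])]⟩,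
    ⟨[22,16,22], 90, [0,4,16,20,0,4,16,20,4], [([10,10,0,4,0], [11,14,0,4,0]), ([10,4,0], [10,4,0])], [(1, [0,2,0], [])]⟩,
    ⟨[22,16,22,21,22], 207, [0,4,10,20,0,14,20,4,20,0], [([21,14,4,0], [21,10,4])], [(1, [0,0,0,0], [])]⟩,
    ⟨[22,16,22,21,22,20,22], 27, [0,4,14,4], [([10,21,11,14], [0,16,4,14]), ([20,14], [21,14])], [(3, [0,2,0,2,0,2,2,2,2], [])]⟩]
  covs := [⟨[7], [([4,10], [10,0,4,0]), ([4,14], [4,14,0])], [⟨0, [], [], 1, []⟩,
      ⟨1, [], [], 0, []⟩,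
      ⟨1, [16], [], 2, []⟩,
      ⟨2, [], [16], 1, []⟩,
      ⟨2, [20,4], [10,4,16], 2, [16]⟩,
      ⟨2, [21], [20,11], 2, [0,16,10,0]⟩,
      ⟨2, [20], [11,4,14], 3, [10,10,0,4]⟩,
      ⟨3, [], [4,21,4], 2, [0,14,0,4]⟩,
      ⟨3, [16], [16], 3, [4,10,0,4,0]⟩,
      ⟨3, [20,16,4], [0,20], 4, [20,16]⟩,
      ⟨4, [], [0,16,21], 3, [21,0,14,4,0]⟩], [2,0,2,0,2,0,2,0,2,0,2,2,0,0]⟩]
theorem L0_light : L0.lightOK C = true := by decide +kernel
theorem L0_eqns_0 : lall (L0.eqns) (eqP C) = true := by decide +kernel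
theorem L0_eqns : lall (L0.eqns) (eqP C) = true := L0_eqns_0
theorem L0_H : Nat.card (C.grp L0.hs) = L0.cardH := H1_card
theorem L0_card : Nat.card (C.grp L0.gs) = 175560 :=
  L0.card hC L0_light L0_eqns L0_H (by decide +kernel)
def H0 : List Word := [[21], [20], [17], [16], [18], [13], [12], [14], [9], [8], [10], [7], [0], [2], [4], [6]]
theorem H0_eq : C.grp H0 = C.grp L0.gs :=
  grp_lapp_eq hC L0.gs [([0], [0]), ([2], [0,22,21,22,20,22,0,20,4,10,0,4]), ([4], [14,16,14,4,0]), ([6], [22])] (by decide +kernel)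
theorem H0_card : Nat.card (C.grp H0) = 175560 := H0_eq ▸ L0_card
theorem L0_base : IsBase (C.grp L0.gs) [0,2,6,13,1] :=
  isBase_level L0 hC L0_light L0_eqns L0_H H1_base
theorem H0_base : IsBase (C.grp H0) [0,2,6,13,1] := H0_eq ▸ L0_base
/-- the given generators -/
def gens : List Word := [[0], [2], [4], [6]]
theorem slp : slpOK C [[3,5,7,1,3,1,3,5,3,7,2,4,2,0,2,0,6,4,2], [7,3,1,3,5,7,5,1,3,1,5,2,0,2,6,4,2,0,2,6], [10,9,10,8,11,11,9,10,8,10,8,11], [9,10,9,11,8,11,11,11], [14,13,13,15,13,13,13,13,14,13], [15,13,13,13,14,13,15,13,13,14,13,14], [18,17,18,18,17]] 4 = true := by decide +kernel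
theorem gens_eq : C.grp gens = C.grp H0 :=
  grp_eq_of_slp hC slp (by decide) (by decide) (by decide)
theorem card : Nat.card (C.grp gens) = 175560 := gens_eq ▸ H0_card
/-- every word in the table lies in the group -/
theorem all_mem {w : Word} (hw : ∀ a ∈ w, a < 22) : C.ev w ∈ C.grp gens :=
  ev_mem_of_lt (slp_mem hC _ 4 slp fun i hi => by
    rw [← ev_gen C.g i]; exact mem_grp _ ((by decide : ∀ i < 4, [2 * i] ∈ gens) i hi)) hw
theorem L0_prim : primOK L0 C [[22,16,20,0,22,16,20,22,10,20,16,22,20,0], [22,0,4,16,20,0,22,4,16,20,0,10], [22,0,4,10,20,22,0,14,4,22,16,0], [22,0,4,20,22,0,4,16,22,14,10,22,0,4]] = true := by decide +kernel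
theorem L0_pel_0 : lall (pelEqns 7 [[4,26,30], [31,27,5,24], [10,22,20], [21,23,11,26], [31,27,5,28], [7,21,27,14,18], [19,15,26,20,6,30]] [([24], [0,2]), ([26], [4,6]), ([28], [0,8]), ([30], [10,12])]) (eqR lk H0 [0,2,6,13,1]) = true := by decide +kernel
theorem L0_pel : lall (pelEqns 7 [[4,26,30], [31,27,5,24], [10,22,20], [21,23,11,26], [31,27,5,28], [7,21,27,14,18], [19,15,26,20,6,30]] [([24], [0,2]), ([26], [4,6]), ([28], [0,8]), ([30], [10,12])]) (eqR lk H0 [0,2,6,13,1]) = true := L0_pel_0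
theorem L0_simple : IsSimpleGroup (C.grp L0.gs) :=
  simpleL L0 hC L0_light L0_eqns L0_H L0_prim H0_eq L0_base (by decide +kernel)
    (by rw [L0_card]; decide) (q := 7) (by decide +kernel) [[4,26,30], [31,27,5,24], [10,22,20], [21,23,11,26], [31,27,5,28], [7,21,27,14,18], [19,15,26,20,6,30]] [([24], [0,2]), ([26], [4,6]), ([28], [0,8]), ([30], [10,12])]
    ((H0_eq.symm.trans gens_eq.symm).le.trans (grp_mono _ (by decide +kernel))) hlk L0_pel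
theorem H0_simple : IsSimpleGroup (C.grp H0) := H0_eq ▸ L0_simple
end J

namespace M
open CA.CNet CA.CWord CA.CLevel CA.CSimple CA.CPoint

noncomputable def t0 : Net := [(nat_lit 16, nat_lit 1),
  (nat_lit 9, nat_lit 4),
  (nat_lit 7, nat_lit 8),
  (nat_lit 1, nat_lit 4),
  (nat_lit 16, nat_lit 1)]
noncomputable def t1 : Net := [(nat_lit 80, nat_lit 1),
  (nat_lit 32, nat_lit 2),
  (nat_lit 10, nat_lit 4),
  (nat_lit 3, nat_lit 8),
  (nat_lit 2, nat_lit 4),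
  (nat_lit 256, nat_lit 2),
  (nat_lit 81, nat_lit 1)]
noncomputable def t2 : Net := [(nat_lit 340, nat_lit 1),
  (nat_lit 274, nat_lit 2),
  (nat_lit 12, nat_lit 4),
  (nat_lit 6, nat_lit 8),
  (nat_lit 4, nat_lit 4),
  (nat_lit 256, nat_lit 2),
  (nat_lit 16, nat_lit 1)]
noncomputable def t3 : Net := [(nat_lit 20, nat_lit 1),
  (nat_lit 306, nat_lit 2),
  (nat_lit 12, nat_lit 4),
  (nat_lit 6, nat_lit 8),
  (nat_lit 2, nat_lit 4),
  (nat_lit 48, nat_lit 2),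
  (nat_lit 336, nat_lit 1)]
noncomputable def t4 : Net := [(nat_lit 80, nat_lit 1),
  (nat_lit 50, nat_lit 2),
  (nat_lit 2, nat_lit 4),
  (nat_lit 6, nat_lit 8),
  (nat_lit 4, nat_lit 4),
  (nat_lit 34, nat_lit 2),
  (nat_lit 336, nat_lit 1)]
noncomputable def t5 : Net := [(nat_lit 4, nat_lit 1),
  (nat_lit 272, nat_lit 2),
  (nat_lit 11, nat_lit 4),
  (nat_lit 3, nat_lit 8),
  (nat_lit 3, nat_lit 4),
  (nat_lit 32, nat_lit 2),
  (nat_lit 4, nat_lit 1)]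
noncomputable def t6 : Net := [(nat_lit 64, nat_lit 1),
  (nat_lit 288, nat_lit 2),
  (nat_lit 15, nat_lit 4),
  (nat_lit 7, nat_lit 8),
  (nat_lit 7, nat_lit 4),
  (nat_lit 64, nat_lit 1)]
noncomputable def t7 : Net := [(nat_lit 20, nat_lit 1),
  (nat_lit 288, nat_lit 2),
  (nat_lit 4, nat_lit 8),
  (nat_lit 324, nat_lit 1)]
noncomputable def C : Ctx := ⟨11, 4, [t0, t1, t2, t3, t4, t5, t6, t7]⟩
theorem hC : C.ok = true := by decide +kernel
noncomputable def lk : ℕ → ℕ → ℕ := look C 64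
theorem hlk : Good C lk := good_look hC (by decide +kernel)
noncomputable def L3 : Level where
  ω := 3
  hs := []
  cardH := 1
  reps := [⟨[0], 6, [], [], []⟩,
    ⟨[1], 5, [], [], []⟩,
    ⟨[2], 10, [], [], []⟩,
    ⟨[3], 8, [], [], []⟩,
    ⟨[0,0], 9, [], [], []⟩,
    ⟨[0,2], 4, [], [], []⟩,
    ⟨[0,3], 7, [], [], []⟩]
  covs := [⟨[13], [], [⟨0, [], [], 1, []⟩,
      ⟨1, [], [], 5, []⟩,
      ⟨2, [], [], 0, []⟩,
      ⟨3, [], [], 6, []⟩,
      ⟨4, [], [], 7, []⟩,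
      ⟨5, [], [], 2, []⟩,
      ⟨6, [], [], 4, []⟩,
      ⟨7, [], [], 3, []⟩], []⟩,
    ⟨[15], [], [⟨0, [], [], 3, []⟩,
      ⟨1, [], [], 7, []⟩,
      ⟨2, [], [], 6, []⟩,
      ⟨3, [], [], 5, []⟩,
      ⟨4, [], [], 0, []⟩,
      ⟨5, [], [], 4, []⟩,
      ⟨6, [], [], 1, []⟩,
      ⟨7, [], [], 2, []⟩], []⟩]
theorem L3_light : L3.lightOK C = true := by decide +kernel
theorem L3_eqns_0 : lall (L3.eqns) (eqP C) = true := by decide +kernel
theorem L3_eqns : lall (L3.eqns) (eqP C) = true := L3_eqns_0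
theorem L3_H : Nat.card (C.grp L3.hs) = L3.cardH := card_grp_nil C
theorem L3_card : Nat.card (C.grp L3.gs) = 8 :=
  L3.card hC L3_light L3_eqns L3_H (by decide +kernel)
def H3 : List Word := [[13], [15], [12], [14]]
theorem H3_eq : C.grp H3 = C.grp L3.gs :=
  grp_lapp_eq hC L3.gs [([12], [1]), ([14], [3])] (by decide +kernel)
theorem H3_card : Nat.card (C.grp H3) = 8 := H3_eq ▸ L3_card
theorem L3_base : IsBase (C.grp L3.gs) [3] :=
  isBase_level L3 hC L3_light L3_eqns L3_H (isBase_nil C)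
theorem H3_base : IsBase (C.grp H3) [3] := H3_eq ▸ L3_base
noncomputable def L2 : Level where
  ω := 2
  hs := H3
  cardH := 8
  reps := [⟨[8], 10, [0,2,0,0], [], []⟩]
  covs := [⟨[9], [], [⟨0, [], [], 1, []⟩,
      ⟨1, [], [1], 1, [2]⟩,
      ⟨1, [0,2], [], 0, [0,3]⟩,
      ⟨1, [0], [0], 1, [0,3]⟩,
      ⟨1, [3], [0,3], 1, [3]⟩,
      ⟨1, [1], [0,2], 1, [0]⟩,
      ⟨1, [2], [3], 1, [0,2]⟩,
      ⟨1, [0,0], [2], 1, [1]⟩,
      ⟨1, [0,3], [0,0], 1, [0,0]⟩], []⟩]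
theorem L2_light : L2.lightOK C = true := by decide +kernel
theorem L2_eqns_0 : lall (L2.eqns) (eqP C) = true := by decide +kernel
theorem L2_eqns : lall (L2.eqns) (eqP C) = true := L2_eqns_0
theorem L2_H : Nat.card (C.grp L2.hs) = L2.cardH := H3_card
theorem L2_card : Nat.card (C.grp L2.gs) = 72 :=
  L2.card hC L2_light L2_eqns L2_H (by decide +kernel)
def H2 : List Word := [[13], [15], [12], [14], [9], [8], [10]]
theorem H2_eq : C.grp H2 = C.grp L2.gs :=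
  grp_lapp_eq hC L2.gs [([8], [9]), ([10], [1,8])] (by decide +kernel)
theorem H2_card : Nat.card (C.grp H2) = 72 := H2_eq ▸ L2_card
theorem L2_base : IsBase (C.grp L2.gs) [2,3] :=
  isBase_level L2 hC L2_light L2_eqns L2_H H3_base
theorem H2_base : IsBase (C.grp H2) [2,3] := H2_eq ▸ L2_base
noncomputable def L1 : Level where
  ω := 1
  hs := H2
  cardH := 72
  reps := [⟨[14], 7, [0,2,0,0,8], [([1,9], [0,8,1]), ([9,2], [1,9,0,3])], [(2, [0,2,0,0], [])]⟩]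
  covs := [⟨[5], [([9,3], [0,9,0,3]), ([0,8,1], [1,9])], [⟨0, [], [], 1, []⟩,
      ⟨1, [13], [12], 1, [2]⟩,
      ⟨1, [1], [], 0, [0,9,3]⟩], [0,2,0,0]⟩]
theorem L1_light : L1.lightOK C = true := by decide +kernel
theorem L1_eqns_0 : lall (L1.eqns) (eqP C) = true := by decide +kernel
theorem L1_eqns : lall (L1.eqns) (eqP C) = true := L1_eqns_0
theorem L1_H : Nat.card (C.grp L1.hs) = L1.cardH := H2_card
theorem L1_card : Nat.card (C.grp L1.gs) = 720 :=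
  L1.card hC L1_light L1_eqns L1_H (by decide +kernel)
def H1 : List Word := [[13], [15], [12], [14], [9], [8], [10], [5], [4], [6]]
theorem H1_eq : C.grp H1 = C.grp L1.gs :=
  grp_lapp_eq hC L1.gs [([4], [15]), ([6], [14,9,0,2])] (by decide +kernel)
theorem H1_card : Nat.card (C.grp H1) = 720 := H1_eq ▸ L1_card
theorem L1_base : IsBase (C.grp L1.gs) [1,2,3] :=
  isBase_level L1 hC L1_light L1_eqns L1_H H2_base
theorem H1_base : IsBase (C.grp H1) [1,2,3] := H1_eq ▸ L1_base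
noncomputable def L0 : Level where
  ω := 0
  hs := H1
  cardH := 720
  reps := [⟨[20], 10, [0,2,12,14], [([0,8], [1,9,0,3]), ([3,12,1], [0,9,1]), ([15], [0,8,0,0])], [(1, [4,0,2,4,0], [[0], [2]]), (2, [0,2,0,0], [])]⟩]
  covs := [⟨[3], [([8], [19,0,2]), ([9,3], [9,1])], [⟨0, [], [], 1, []⟩,
      ⟨1, [2], [0], 1, [14,0,9,1]⟩,
      ⟨1, [14,12], [], 0, [0,14,0,3]⟩], [0,0,2,2,2]⟩]
theorem L0_light : L0.lightOK C = true := by decide +kernel
theorem L0_eqns_0 : lall (L0.eqns) (eqP C) = true := by decide +kernel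
theorem L0_eqns : lall (L0.eqns) (eqP C) = true := L0_eqns_0
theorem L0_H : Nat.card (C.grp L0.hs) = L0.cardH := H1_card
theorem L0_card : Nat.card (C.grp L0.gs) = 7920 :=
  L0.card hC L0_light L0_eqns L0_H (by decide +kernel)
def H0 : List Word := [[13], [15], [12], [14], [9], [8], [10], [5], [4], [6], [3], [0], [2]]
theorem H0_eq : C.grp H0 = C.grp L0.gs :=
  grp_lapp_eq hC L0.gs [([0], [3,15,3,12]), ([2], [21])] (by decide +kernel)
theorem H0_card : Nat.card (C.grp H0) = 7920 := H0_eq ▸ L0_card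
theorem L0_base : IsBase (C.grp L0.gs) [0,1,2,3] :=
  isBase_level L0 hC L0_light L0_eqns L0_H H1_base
theorem H0_base : IsBase (C.grp H0) [0,1,2,3] := H0_eq ▸ L0_base
/-- the given generators -/
def gens : List Word := [[0], [2]]
theorem slp : slpOK C [[2,0,0,3,3,1,3,3,1,2,0,2,2,0,2], [3,3,1,2,0,2,1,3,1,2,0,2], [6,6,4,6,4,7,7,5,5,6,4], [5,5,6,4,6,4,6,5,5,5,7,7,7], [8,11,9,9,9,10,10,8,10,9,11,9], [11,11,8,8,8,10,9]] 2 = true := by decide +kernel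
theorem gens_eq : C.grp gens = C.grp H0 :=
  grp_eq_of_slp hC slp (by decide) (by decide) (by decide)
theorem card : Nat.card (C.grp gens) = 7920 := gens_eq ▸ H0_card
/-- every word in the table lies in the group -/
theorem all_mem {w : Word} (hw : ∀ a ∈ w, a < 16) : C.ev w ∈ C.grp gens :=
  ev_mem_of_lt (slp_mem hC _ 2 slp fun i hi => by
    rw [← ev_gen C.g i]; exact mem_grp _ ((by decide : ∀ i < 2, [2 * i] ∈ gens) i hi)) hw
theorem L0_prim : primOK L0 C [[20,14,18,12,0]] = true := by decide +kernel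
theorem L0_pel_0 : lall (pelEqns 11 [[18,21,15], [14,20,19,22], [5,23,20], [21,22,4,24]] [([22], [0,2]), ([24], [4,6])]) (eqR lk H0 [0,1,2,3]) = true := by decide +kernel
theorem L0_pel : lall (pelEqns 11 [[18,21,15], [14,20,19,22], [5,23,20], [21,22,4,24]] [([22], [0,2]), ([24], [4,6])]) (eqR lk H0 [0,1,2,3]) = true := L0_pel_0
theorem L0_simple : IsSimpleGroup (C.grp L0.gs) :=
  simpleL L0 hC L0_light L0_eqns L0_H L0_prim H0_eq L0_base (by decide +kernel)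
    (by rw [L0_card]; decide) (q := 11) (by decide +kernel) [[18,21,15], [14,20,19,22], [5,23,20], [21,22,4,24]] [([22], [0,2]), ([24], [4,6])]
    ((H0_eq.symm.trans gens_eq.symm).le.trans (grp_mono _ (by decide +kernel))) hlk L0_pel
theorem H0_simple : IsSimpleGroup (C.grp H0) := H0_eq ▸ L0_simple
end M
theorem bJ : Bound.{0} RJ J.gens 175560 :=
  .of_idx TJ.idx (.of_idx TJ0.idx (.nil _) (N := 120) (by decide)) (by decide)
theorem bM : Bound.{0} RM M.gens 7920 :=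
  .of_idx TM.idx (.of_idx TM0.idx (.nil _) (N := 4) (by decide)) (by decide)

/-- elements satisfying a presentation of a simple group -/
theorem of_pres {R gens : List Word} {N : ℕ} (hB : Bound.{0} R gens N) {S G : Type} [Group S] [Group G] {s : ℕ → S}
    {x : ℕ → G} (hs : ∀ r ∈ R, ev s r = 1) (hx : ∀ r ∈ R, ev x r = 1) (hc : Nat.card (grp s gens) = N)
    (h1 : IsSimpleGroup (grp s gens)) {w : Word} (hw : w ∈ gens) (hne : ev x w ≠ 1) :
    IsSimpleGroup (grp x gens) ∧ Nat.card (grp x gens) = N := by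
  let q : ℕ → S × G := fun i => (s i, x i)
  obtain ⟨h2, h3⟩ := hB (S × G) q fun r hr => by rw [ev_prod, hs r hr, hx r hr]; rfl
  have e1 : (grp q gens).map (MonoidHom.fst S G) = grp s gens := map_grp _ _ _
  have e2 : (grp q gens).map (MonoidHom.snd S G) = grp x gens := map_grp _ _ _
  obtain ⟨f, -⟩ := equiv_of_inj (MonoidHom.fst S G) (fun y hy => inj_of_card _ (by rw [e1, hc]; exact h3) hy) le_rfl e1
  haveI := f.isSimpleGroup
  obtain ⟨f', -⟩ := equiv_of_inj (MonoidHom.snd S G) (A := grp q gens) (fun y hy e => by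
    rcases (MonoidHom.normal_ker ((MonoidHom.snd S G).comp (grp q gens).subtype)).eq_bot_or_eq_top with h | h
    · have : (⟨y, hy⟩ : grp q gens) ∈ ((MonoidHom.snd S G).comp (grp q gens).subtype).ker := e
      rw [h, Subgroup.mem_bot] at this
      exact congrArg (fun z : grp q gens => (z : S × G)) this
    · have : (⟨_, mem_grp q hw⟩ : grp q gens) ∈ ((MonoidHom.snd S G).comp (grp q gens).subtype).ker := h ▸ trivial
      exact (hne ((congrArg Prod.snd (ev_prod s x w)).symm.trans this)).elim) le_rfl e2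
  exact ⟨f'.symm.isSimpleGroup, (Nat.card_congr (f'.symm.trans f).toEquiv).trans hc⟩

open CA.ONPerm CA.ONPres in
theorem sub {R gs ws : List Word} {N : ℕ} (hB : Bound.{0} R gs N) {D : Ctx} (hD : D.ok = true)
    (hs : lall R (fun r => D.eqW r []) = true) (hc : Nat.card (D.grp gs) = N) (h1 : IsSimpleGroup (D.grp gs))
    (hx : lall R (fun r => eqR lk gens B (subst ws r, [])) = true) (h0 : [2 * 0] ∈ gs) {p : ℕ} (hp : p < C.n)
    (hm : C.maps (subst gens (nth ws [] 0)) p p = false) :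
    ∃ K : Subgroup (C.grp gens), IsSimpleGroup K ∧ Nat.card K = N := by
  let x : ℕ → Equiv.Perm (Fin C.n) := fun i => C.ev (subst gens (nth ws [] i))
  have hx' : ∀ r ∈ R, ev x r = 1 := fun r hr => by
    have := eq_of_eqR hlk base (lall_iff.1 hx r hr)
    rw [Ctx.ev, ev_subst, ev_subst] at this
    exact (congrArg (ev · r) (funext fun i => ev_subst _ _ _)).trans this
  obtain ⟨h2, h3⟩ := of_pres hB (rels_of_eqW hD hs) hx' hc h1 h0
    (by rw [ev_gen]; exact Ctx.ne_one_of_moves hC hp hm)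
  have hle : grp x gs ≤ C.grp gens := (grp_le_iff _).2 fun w _ => ev_mem (fun i => subst_mem_grp _ _ _) w
  have e := Subgroup.subgroupOfEquivOfLe hle
  exact ⟨_, e.isSimpleGroup, (Nat.card_congr e.toEquiv).trans h3⟩

theorem exJ1 : ∃ K : Subgroup (ONPerm.C.grp ONPerm.gens), Cfsg.IsJ1 K :=
  sub (ws := [[2], [2,8,1,6,10,0,8,6,4,0,10,8,6,8,10,0,4,6,8,0,10,6,0,8], [10,1,10,12,8,10,0,10], [8,0,10,6,0,8,10,6,8,1,10,12,8,6]]) bJ J.hC (by decide +kernel) J.card (J.gens_eq ▸ J.H0_simple) (by decide +kernel)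
    (by decide) (p := 2) (by decide) (by decide +kernel)
theorem exM11 : ∃ K : Subgroup (ONPerm.C.grp ONPerm.gens), Cfsg.IsM11 K :=
  sub (ws := [[2], [4,10,8,6,4,0,8,6,10,8,1,4,6,8,1,10,4,6,8,0,10,6,2,4,0,6,8,10]]) bM M.hC (by decide +kernel) M.card (M.gens_eq ▸ M.H0_simple) (by decide +kernel)
    (by decide) (p := 2) (by decide) (by decide +kernel)
end CA.ONSub
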