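/-
Unrolled permutation arithmetic for 24 points (digits of width 8), for kernel computation.
-/
import Cfsg.Agent.Lib.Spor.CGConstr

set_option autoImplicit false
set_option maxRecDepth 100000

namespace CA.Perm24

open CA.NatBits CA.CGroup CA.CGConstr
open scoped Pointwise

/-- image of the point `i` -/
def ap8 (p i : ℕ) : ℕ := Nat.mod (Nat.shiftRight p (Nat.mul (nat_lit 8) i)) (nat_lit 256)

/-- product -/
def mul24 (p q : ℕ) : ℕ :=
  (Nat.add (Nat.shiftLeft (Nat.mod (Nat.shiftRight p (Nat.mul (nat_lit 8) (Nat.mod (Nat.shiftRight q (nat_lit 184)) (nat_lit 256)))) (nat_lit 256)) (nat_lit 184))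
    (Nat.add (Nat.shiftLeft (Nat.mod (Nat.shiftRight p (Nat.mul (nat_lit 8) (Nat.mod (Nat.shiftRight q (nat_lit 176)) (nat_lit 256)))) (nat_lit 256)) (nat_lit 176))
    (Nat.add (Nat.shiftLeft (Nat.mod (Nat.shiftRight p (Nat.mul (nat_lit 8) (Nat.mod (Nat.shiftRight q (nat_lit 168)) (nat_lit 256)))) (nat_lit 256)) (nat_lit 168))
    (Nat.add (Nat.shiftLeft (Nat.mod (Nat.shiftRight p (Nat.mul (nat_lit 8) (Nat.mod (Nat.shiftRight q (nat_lit 160)) (nat_lit 256)))) (nat_lit 256)) (nat_lit 160))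
    (Nat.add (Nat.shiftLeft (Nat.mod (Nat.shiftRight p (Nat.mul (nat_lit 8) (Nat.mod (Nat.shiftRight q (nat_lit 152)) (nat_lit 256)))) (nat_lit 256)) (nat_lit 152))
    (Nat.add (Nat.shiftLeft (Nat.mod (Nat.shiftRight p (Nat.mul (nat_lit 8) (Nat.mod (Nat.shiftRight q (nat_lit 144)) (nat_lit 256)))) (nat_lit 256)) (nat_lit 144))
    (Nat.add (Nat.shiftLeft (Nat.mod (Nat.shiftRight p (Nat.mul (nat_lit 8) (Nat.mod (Nat.shiftRight q (nat_lit 136)) (nat_lit 256)))) (nat_lit 256)) (nat_lit 136))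
    (Nat.add (Nat.shiftLeft (Nat.mod (Nat.shiftRight p (Nat.mul (nat_lit 8) (Nat.mod (Nat.shiftRight q (nat_lit 128)) (nat_lit 256)))) (nat_lit 256)) (nat_lit 128))
    (Nat.add (Nat.shiftLeft (Nat.mod (Nat.shiftRight p (Nat.mul (nat_lit 8) (Nat.mod (Nat.shiftRight q (nat_lit 120)) (nat_lit 256)))) (nat_lit 256)) (nat_lit 120))
    (Nat.add (Nat.shiftLeft (Nat.mod (Nat.shiftRight p (Nat.mul (nat_lit 8) (Nat.mod (Nat.shiftRight q (nat_lit 112)) (nat_lit 256)))) (nat_lit 256)) (nat_lit 112))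
    (Nat.add (Nat.shiftLeft (Nat.mod (Nat.shiftRight p (Nat.mul (nat_lit 8) (Nat.mod (Nat.shiftRight q (nat_lit 104)) (nat_lit 256)))) (nat_lit 256)) (nat_lit 104))
    (Nat.add (Nat.shiftLeft (Nat.mod (Nat.shiftRight p (Nat.mul (nat_lit 8) (Nat.mod (Nat.shiftRight q (nat_lit 96)) (nat_lit 256)))) (nat_lit 256)) (nat_lit 96))
    (Nat.add (Nat.shiftLeft (Nat.mod (Nat.shiftRight p (Nat.mul (nat_lit 8) (Nat.mod (Nat.shiftRight q (nat_lit 88)) (nat_lit 256)))) (nat_lit 256)) (nat_lit 88))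
    (Nat.add (Nat.shiftLeft (Nat.mod (Nat.shiftRight p (Nat.mul (nat_lit 8) (Nat.mod (Nat.shiftRight q (nat_lit 80)) (nat_lit 256)))) (nat_lit 256)) (nat_lit 80))
    (Nat.add (Nat.shiftLeft (Nat.mod (Nat.shiftRight p (Nat.mul (nat_lit 8) (Nat.mod (Nat.shiftRight q (nat_lit 72)) (nat_lit 256)))) (nat_lit 256)) (nat_lit 72))
    (Nat.add (Nat.shiftLeft (Nat.mod (Nat.shiftRight p (Nat.mul (nat_lit 8) (Nat.mod (Nat.shiftRight q (nat_lit 64)) (nat_lit 256)))) (nat_lit 256)) (nat_lit 64))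
    (Nat.add (Nat.shiftLeft (Nat.mod (Nat.shiftRight p (Nat.mul (nat_lit 8) (Nat.mod (Nat.shiftRight q (nat_lit 56)) (nat_lit 256)))) (nat_lit 256)) (nat_lit 56))
    (Nat.add (Nat.shiftLeft (Nat.mod (Nat.shiftRight p (Nat.mul (nat_lit 8) (Nat.mod (Nat.shiftRight q (nat_lit 48)) (nat_lit 256)))) (nat_lit 256)) (nat_lit 48))
    (Nat.add (Nat.shiftLeft (Nat.mod (Nat.shiftRight p (Nat.mul (nat_lit 8) (Nat.mod (Nat.shiftRight q (nat_lit 40)) (nat_lit 256)))) (nat_lit 256)) (nat_lit 40))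
    (Nat.add (Nat.shiftLeft (Nat.mod (Nat.shiftRight p (Nat.mul (nat_lit 8) (Nat.mod (Nat.shiftRight q (nat_lit 32)) (nat_lit 256)))) (nat_lit 256)) (nat_lit 32))
    (Nat.add (Nat.shiftLeft (Nat.mod (Nat.shiftRight p (Nat.mul (nat_lit 8) (Nat.mod (Nat.shiftRight q (nat_lit 24)) (nat_lit 256)))) (nat_lit 256)) (nat_lit 24))
    (Nat.add (Nat.shiftLeft (Nat.mod (Nat.shiftRight p (Nat.mul (nat_lit 8) (Nat.mod (Nat.shiftRight q (nat_lit 16)) (nat_lit 256)))) (nat_lit 256)) (nat_lit 16))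
    (Nat.add (Nat.shiftLeft (Nat.mod (Nat.shiftRight p (Nat.mul (nat_lit 8) (Nat.mod (Nat.shiftRight q (nat_lit 8)) (nat_lit 256)))) (nat_lit 256)) (nat_lit 8))
    (Nat.add (Nat.shiftLeft (Nat.mod (Nat.shiftRight p (Nat.mul (nat_lit 8) (Nat.mod (Nat.shiftRight q (nat_lit 0)) (nat_lit 256)))) (nat_lit 256)) (nat_lit 0))
    (nat_lit 0)))))))))))))))))))))))))

/-- image of a mask -/
def img24 (p m : ℕ) : ℕ :=
  (Nat.lor (Nat.shiftLeft (Nat.land (Nat.shiftRight m (nat_lit 23)) (nat_lit 1)) (Nat.mod (Nat.shiftRight p (nat_lit 184)) (nat_lit 256)))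
    (Nat.lor (Nat.shiftLeft (Nat.land (Nat.shiftRight m (nat_lit 22)) (nat_lit 1)) (Nat.mod (Nat.shiftRight p (nat_lit 176)) (nat_lit 256)))
    (Nat.lor (Nat.shiftLeft (Nat.land (Nat.shiftRight m (nat_lit 21)) (nat_lit 1)) (Nat.mod (Nat.shiftRight p (nat_lit 168)) (nat_lit 256)))
    (Nat.lor (Nat.shiftLeft (Nat.land (Nat.shiftRight m (nat_lit 20)) (nat_lit 1)) (Nat.mod (Nat.shiftRight p (nat_lit 160)) (nat_lit 256)))
    (Nat.lor (Nat.shiftLeft (Nat.land (Nat.shiftRight m (nat_lit 19)) (nat_lit 1)) (Nat.mod (Nat.shiftRight p (nat_lit 152)) (nat_lit 256)))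
    (Nat.lor (Nat.shiftLeft (Nat.land (Nat.shiftRight m (nat_lit 18)) (nat_lit 1)) (Nat.mod (Nat.shiftRight p (nat_lit 144)) (nat_lit 256)))
    (Nat.lor (Nat.shiftLeft (Nat.land (Nat.shiftRight m (nat_lit 17)) (nat_lit 1)) (Nat.mod (Nat.shiftRight p (nat_lit 136)) (nat_lit 256)))
    (Nat.lor (Nat.shiftLeft (Nat.land (Nat.shiftRight m (nat_lit 16)) (nat_lit 1)) (Nat.mod (Nat.shiftRight p (nat_lit 128)) (nat_lit 256)))
    (Nat.lor (Nat.shiftLeft (Nat.land (Nat.shiftRight m (nat_lit 15)) (nat_lit 1)) (Nat.mod (Nat.shiftRight p (nat_lit 120)) (nat_lit 256)))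
    (Nat.lor (Nat.shiftLeft (Nat.land (Nat.shiftRight m (nat_lit 14)) (nat_lit 1)) (Nat.mod (Nat.shiftRight p (nat_lit 112)) (nat_lit 256)))
    (Nat.lor (Nat.shiftLeft (Nat.land (Nat.shiftRight m (nat_lit 13)) (nat_lit 1)) (Nat.mod (Nat.shiftRight p (nat_lit 104)) (nat_lit 256)))
    (Nat.lor (Nat.shiftLeft (Nat.land (Nat.shiftRight m (nat_lit 12)) (nat_lit 1)) (Nat.mod (Nat.shiftRight p (nat_lit 96)) (nat_lit 256)))
    (Nat.lor (Nat.shiftLeft (Nat.land (Nat.shiftRight m (nat_lit 11)) (nat_lit 1)) (Nat.mod (Nat.shiftRight p (nat_lit 88)) (nat_lit 256)))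
    (Nat.lor (Nat.shiftLeft (Nat.land (Nat.shiftRight m (nat_lit 10)) (nat_lit 1)) (Nat.mod (Nat.shiftRight p (nat_lit 80)) (nat_lit 256)))
    (Nat.lor (Nat.shiftLeft (Nat.land (Nat.shiftRight m (nat_lit 9)) (nat_lit 1)) (Nat.mod (Nat.shiftRight p (nat_lit 72)) (nat_lit 256)))
    (Nat.lor (Nat.shiftLeft (Nat.land (Nat.shiftRight m (nat_lit 8)) (nat_lit 1)) (Nat.mod (Nat.shiftRight p (nat_lit 64)) (nat_lit 256)))
    (Nat.lor (Nat.shiftLeft (Nat.land (Nat.shiftRight m (nat_lit 7)) (nat_lit 1)) (Nat.mod (Nat.shiftRight p (nat_lit 56)) (nat_lit 256)))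
    (Nat.lor (Nat.shiftLeft (Nat.land (Nat.shiftRight m (nat_lit 6)) (nat_lit 1)) (Nat.mod (Nat.shiftRight p (nat_lit 48)) (nat_lit 256)))
    (Nat.lor (Nat.shiftLeft (Nat.land (Nat.shiftRight m (nat_lit 5)) (nat_lit 1)) (Nat.mod (Nat.shiftRight p (nat_lit 40)) (nat_lit 256)))
    (Nat.lor (Nat.shiftLeft (Nat.land (Nat.shiftRight m (nat_lit 4)) (nat_lit 1)) (Nat.mod (Nat.shiftRight p (nat_lit 32)) (nat_lit 256)))
    (Nat.lor (Nat.shiftLeft (Nat.land (Nat.shiftRight m (nat_lit 3)) (nat_lit 1)) (Nat.mod (Nat.shiftRight p (nat_lit 24)) (nat_lit 256)))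
    (Nat.lor (Nat.shiftLeft (Nat.land (Nat.shiftRight m (nat_lit 2)) (nat_lit 1)) (Nat.mod (Nat.shiftRight p (nat_lit 16)) (nat_lit 256)))
    (Nat.lor (Nat.shiftLeft (Nat.land (Nat.shiftRight m (nat_lit 1)) (nat_lit 1)) (Nat.mod (Nat.shiftRight p (nat_lit 8)) (nat_lit 256)))
    (Nat.lor (Nat.shiftLeft (Nat.land (Nat.shiftRight m (nat_lit 0)) (nat_lit 1)) (Nat.mod (Nat.shiftRight p (nat_lit 0)) (nat_lit 256)))
    (nat_lit 0)))))))))))))))))))))))))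

/-- inverse -/
def inv24 (p : ℕ) : ℕ :=
  (Nat.add (Nat.shiftLeft (nat_lit 23) (Nat.mul (nat_lit 8) (Nat.mod (Nat.shiftRight p (nat_lit 184)) (nat_lit 256))))
    (Nat.add (Nat.shiftLeft (nat_lit 22) (Nat.mul (nat_lit 8) (Nat.mod (Nat.shiftRight p (nat_lit 176)) (nat_lit 256))))
    (Nat.add (Nat.shiftLeft (nat_lit 21) (Nat.mul (nat_lit 8) (Nat.mod (Nat.shiftRight p (nat_lit 168)) (nat_lit 256))))
    (Nat.add (Nat.shiftLeft (nat_lit 20) (Nat.mul (nat_lit 8) (Nat.mod (Nat.shiftRight p (nat_lit 160)) (nat_lit 256))))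
    (Nat.add (Nat.shiftLeft (nat_lit 19) (Nat.mul (nat_lit 8) (Nat.mod (Nat.shiftRight p (nat_lit 152)) (nat_lit 256))))
    (Nat.add (Nat.shiftLeft (nat_lit 18) (Nat.mul (nat_lit 8) (Nat.mod (Nat.shiftRight p (nat_lit 144)) (nat_lit 256))))
    (Nat.add (Nat.shiftLeft (nat_lit 17) (Nat.mul (nat_lit 8) (Nat.mod (Nat.shiftRight p (nat_lit 136)) (nat_lit 256))))
    (Nat.add (Nat.shiftLeft (nat_lit 16) (Nat.mul (nat_lit 8) (Nat.mod (Nat.shiftRight p (nat_lit 128)) (nat_lit 256))))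
    (Nat.add (Nat.shiftLeft (nat_lit 15) (Nat.mul (nat_lit 8) (Nat.mod (Nat.shiftRight p (nat_lit 120)) (nat_lit 256))))
    (Nat.add (Nat.shiftLeft (nat_lit 14) (Nat.mul (nat_lit 8) (Nat.mod (Nat.shiftRight p (nat_lit 112)) (nat_lit 256))))
    (Nat.add (Nat.shiftLeft (nat_lit 13) (Nat.mul (nat_lit 8) (Nat.mod (Nat.shiftRight p (nat_lit 104)) (nat_lit 256))))
    (Nat.add (Nat.shiftLeft (nat_lit 12) (Nat.mul (nat_lit 8) (Nat.mod (Nat.shiftRight p (nat_lit 96)) (nat_lit 256))))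
    (Nat.add (Nat.shiftLeft (nat_lit 11) (Nat.mul (nat_lit 8) (Nat.mod (Nat.shiftRight p (nat_lit 88)) (nat_lit 256))))
    (Nat.add (Nat.shiftLeft (nat_lit 10) (Nat.mul (nat_lit 8) (Nat.mod (Nat.shiftRight p (nat_lit 80)) (nat_lit 256))))
    (Nat.add (Nat.shiftLeft (nat_lit 9) (Nat.mul (nat_lit 8) (Nat.mod (Nat.shiftRight p (nat_lit 72)) (nat_lit 256))))
    (Nat.add (Nat.shiftLeft (nat_lit 8) (Nat.mul (nat_lit 8) (Nat.mod (Nat.shiftRight p (nat_lit 64)) (nat_lit 256))))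
    (Nat.add (Nat.shiftLeft (nat_lit 7) (Nat.mul (nat_lit 8) (Nat.mod (Nat.shiftRight p (nat_lit 56)) (nat_lit 256))))
    (Nat.add (Nat.shiftLeft (nat_lit 6) (Nat.mul (nat_lit 8) (Nat.mod (Nat.shiftRight p (nat_lit 48)) (nat_lit 256))))
    (Nat.add (Nat.shiftLeft (nat_lit 5) (Nat.mul (nat_lit 8) (Nat.mod (Nat.shiftRight p (nat_lit 40)) (nat_lit 256))))
    (Nat.add (Nat.shiftLeft (nat_lit 4) (Nat.mul (nat_lit 8) (Nat.mod (Nat.shiftRight p (nat_lit 32)) (nat_lit 256))))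
    (Nat.add (Nat.shiftLeft (nat_lit 3) (Nat.mul (nat_lit 8) (Nat.mod (Nat.shiftRight p (nat_lit 24)) (nat_lit 256))))
    (Nat.add (Nat.shiftLeft (nat_lit 2) (Nat.mul (nat_lit 8) (Nat.mod (Nat.shiftRight p (nat_lit 16)) (nat_lit 256))))
    (Nat.add (Nat.shiftLeft (nat_lit 1) (Nat.mul (nat_lit 8) (Nat.mod (Nat.shiftRight p (nat_lit 8)) (nat_lit 256))))
    (Nat.add (Nat.shiftLeft (nat_lit 0) (Nat.mul (nat_lit 8) (Nat.mod (Nat.shiftRight p (nat_lit 0)) (nat_lit 256))))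
    (nat_lit 0)))))))))))))))))))))))))

/-- conjugate `a c a⁻¹` -/
def cj24 (a c : ℕ) : ℕ :=
  (Nat.add (Nat.shiftLeft (Nat.mod (Nat.shiftRight a (Nat.mul (nat_lit 8) (Nat.mod (Nat.shiftRight c (nat_lit 184)) (nat_lit 256)))) (nat_lit 256)) (Nat.mul (nat_lit 8) (Nat.mod (Nat.shiftRight a (nat_lit 184)) (nat_lit 256))))
    (Nat.add (Nat.shiftLeft (Nat.mod (Nat.shiftRight a (Nat.mul (nat_lit 8) (Nat.mod (Nat.shiftRight c (nat_lit 176)) (nat_lit 256)))) (nat_lit 256)) (Nat.mul (nat_lit 8) (Nat.mod (Nat.shiftRight a (nat_lit 176)) (nat_lit 256))))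
    (Nat.add (Nat.shiftLeft (Nat.mod (Nat.shiftRight a (Nat.mul (nat_lit 8) (Nat.mod (Nat.shiftRight c (nat_lit 168)) (nat_lit 256)))) (nat_lit 256)) (Nat.mul (nat_lit 8) (Nat.mod (Nat.shiftRight a (nat_lit 168)) (nat_lit 256))))
    (Nat.add (Nat.shiftLeft (Nat.mod (Nat.shiftRight a (Nat.mul (nat_lit 8) (Nat.mod (Nat.shiftRight c (nat_lit 160)) (nat_lit 256)))) (nat_lit 256)) (Nat.mul (nat_lit 8) (Nat.mod (Nat.shiftRight a (nat_lit 160)) (nat_lit 256))))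
    (Nat.add (Nat.shiftLeft (Nat.mod (Nat.shiftRight a (Nat.mul (nat_lit 8) (Nat.mod (Nat.shiftRight c (nat_lit 152)) (nat_lit 256)))) (nat_lit 256)) (Nat.mul (nat_lit 8) (Nat.mod (Nat.shiftRight a (nat_lit 152)) (nat_lit 256))))
    (Nat.add (Nat.shiftLeft (Nat.mod (Nat.shiftRight a (Nat.mul (nat_lit 8) (Nat.mod (Nat.shiftRight c (nat_lit 144)) (nat_lit 256)))) (nat_lit 256)) (Nat.mul (nat_lit 8) (Nat.mod (Nat.shiftRight a (nat_lit 144)) (nat_lit 256))))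
    (Nat.add (Nat.shiftLeft (Nat.mod (Nat.shiftRight a (Nat.mul (nat_lit 8) (Nat.mod (Nat.shiftRight c (nat_lit 136)) (nat_lit 256)))) (nat_lit 256)) (Nat.mul (nat_lit 8) (Nat.mod (Nat.shiftRight a (nat_lit 136)) (nat_lit 256))))
    (Nat.add (Nat.shiftLeft (Nat.mod (Nat.shiftRight a (Nat.mul (nat_lit 8) (Nat.mod (Nat.shiftRight c (nat_lit 128)) (nat_lit 256)))) (nat_lit 256)) (Nat.mul (nat_lit 8) (Nat.mod (Nat.shiftRight a (nat_lit 128)) (nat_lit 256))))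
    (Nat.add (Nat.shiftLeft (Nat.mod (Nat.shiftRight a (Nat.mul (nat_lit 8) (Nat.mod (Nat.shiftRight c (nat_lit 120)) (nat_lit 256)))) (nat_lit 256)) (Nat.mul (nat_lit 8) (Nat.mod (Nat.shiftRight a (nat_lit 120)) (nat_lit 256))))
    (Nat.add (Nat.shiftLeft (Nat.mod (Nat.shiftRight a (Nat.mul (nat_lit 8) (Nat.mod (Nat.shiftRight c (nat_lit 112)) (nat_lit 256)))) (nat_lit 256)) (Nat.mul (nat_lit 8) (Nat.mod (Nat.shiftRight a (nat_lit 112)) (nat_lit 256))))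
    (Nat.add (Nat.shiftLeft (Nat.mod (Nat.shiftRight a (Nat.mul (nat_lit 8) (Nat.mod (Nat.shiftRight c (nat_lit 104)) (nat_lit 256)))) (nat_lit 256)) (Nat.mul (nat_lit 8) (Nat.mod (Nat.shiftRight a (nat_lit 104)) (nat_lit 256))))
    (Nat.add (Nat.shiftLeft (Nat.mod (Nat.shiftRight a (Nat.mul (nat_lit 8) (Nat.mod (Nat.shiftRight c (nat_lit 96)) (nat_lit 256)))) (nat_lit 256)) (Nat.mul (nat_lit 8) (Nat.mod (Nat.shiftRight a (nat_lit 96)) (nat_lit 256))))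
    (Nat.add (Nat.shiftLeft (Nat.mod (Nat.shiftRight a (Nat.mul (nat_lit 8) (Nat.mod (Nat.shiftRight c (nat_lit 88)) (nat_lit 256)))) (nat_lit 256)) (Nat.mul (nat_lit 8) (Nat.mod (Nat.shiftRight a (nat_lit 88)) (nat_lit 256))))
    (Nat.add (Nat.shiftLeft (Nat.mod (Nat.shiftRight a (Nat.mul (nat_lit 8) (Nat.mod (Nat.shiftRight c (nat_lit 80)) (nat_lit 256)))) (nat_lit 256)) (Nat.mul (nat_lit 8) (Nat.mod (Nat.shiftRight a (nat_lit 80)) (nat_lit 256))))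
    (Nat.add (Nat.shiftLeft (Nat.mod (Nat.shiftRight a (Nat.mul (nat_lit 8) (Nat.mod (Nat.shiftRight c (nat_lit 72)) (nat_lit 256)))) (nat_lit 256)) (Nat.mul (nat_lit 8) (Nat.mod (Nat.shiftRight a (nat_lit 72)) (nat_lit 256))))
    (Nat.add (Nat.shiftLeft (Nat.mod (Nat.shiftRight a (Nat.mul (nat_lit 8) (Nat.mod (Nat.shiftRight c (nat_lit 64)) (nat_lit 256)))) (nat_lit 256)) (Nat.mul (nat_lit 8) (Nat.mod (Nat.shiftRight a (nat_lit 64)) (nat_lit 256))))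
    (Nat.add (Nat.shiftLeft (Nat.mod (Nat.shiftRight a (Nat.mul (nat_lit 8) (Nat.mod (Nat.shiftRight c (nat_lit 56)) (nat_lit 256)))) (nat_lit 256)) (Nat.mul (nat_lit 8) (Nat.mod (Nat.shiftRight a (nat_lit 56)) (nat_lit 256))))
    (Nat.add (Nat.shiftLeft (Nat.mod (Nat.shiftRight a (Nat.mul (nat_lit 8) (Nat.mod (Nat.shiftRight c (nat_lit 48)) (nat_lit 256)))) (nat_lit 256)) (Nat.mul (nat_lit 8) (Nat.mod (Nat.shiftRight a (nat_lit 48)) (nat_lit 256))))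
    (Nat.add (Nat.shiftLeft (Nat.mod (Nat.shiftRight a (Nat.mul (nat_lit 8) (Nat.mod (Nat.shiftRight c (nat_lit 40)) (nat_lit 256)))) (nat_lit 256)) (Nat.mul (nat_lit 8) (Nat.mod (Nat.shiftRight a (nat_lit 40)) (nat_lit 256))))
    (Nat.add (Nat.shiftLeft (Nat.mod (Nat.shiftRight a (Nat.mul (nat_lit 8) (Nat.mod (Nat.shiftRight c (nat_lit 32)) (nat_lit 256)))) (nat_lit 256)) (Nat.mul (nat_lit 8) (Nat.mod (Nat.shiftRight a (nat_lit 32)) (nat_lit 256))))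
    (Nat.add (Nat.shiftLeft (Nat.mod (Nat.shiftRight a (Nat.mul (nat_lit 8) (Nat.mod (Nat.shiftRight c (nat_lit 24)) (nat_lit 256)))) (nat_lit 256)) (Nat.mul (nat_lit 8) (Nat.mod (Nat.shiftRight a (nat_lit 24)) (nat_lit 256))))
    (Nat.add (Nat.shiftLeft (Nat.mod (Nat.shiftRight a (Nat.mul (nat_lit 8) (Nat.mod (Nat.shiftRight c (nat_lit 16)) (nat_lit 256)))) (nat_lit 256)) (Nat.mul (nat_lit 8) (Nat.mod (Nat.shiftRight a (nat_lit 16)) (nat_lit 256))))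
    (Nat.add (Nat.shiftLeft (Nat.mod (Nat.shiftRight a (Nat.mul (nat_lit 8) (Nat.mod (Nat.shiftRight c (nat_lit 8)) (nat_lit 256)))) (nat_lit 256)) (Nat.mul (nat_lit 8) (Nat.mod (Nat.shiftRight a (nat_lit 8)) (nat_lit 256))))
    (Nat.add (Nat.shiftLeft (Nat.mod (Nat.shiftRight a (Nat.mul (nat_lit 8) (Nat.mod (Nat.shiftRight c (nat_lit 0)) (nat_lit 256)))) (nat_lit 256)) (Nat.mul (nat_lit 8) (Nat.mod (Nat.shiftRight a (nat_lit 0)) (nat_lit 256))))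
    (nat_lit 0)))))))))))))))))))))))))

/-- identity -/
def id24 : ℕ := 566073426779046459040877649791461066728553822781039575296

/-- `force_eq` as a propositional rewrite rule (use this one in `simp`: the kernel then never unfolds checkers) -/
theorem fe {β : Type*} (x : ℕ) (f : ℕ → β) : force x f = f x := by rw [force_eq]

theorem ap8_eq : ap8 = ap 8 := rfl
theorem mul24_eq : mul24 = comp 8 24 := rfl
theorem img24_eq : img24 = img 8 24 := rfl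
theorem inv24_eq : inv24 = invP 8 24 := rfl
theorem cj24_eq : cj24 = conjP 8 24 := rfl
theorem id24_eq : id24 = idP 8 24 := by decide +kernel

variable {α : Type*} (E : Enc α 24)

/-- permutations of a 24-element type -/
def pG : CG (Equiv.Perm α) := permCG E 8 (by norm_num) mul24 inv24 id24 mul24_eq inv24_eq id24_eq

/-- action on points -/
def pPt : CAct (pG E) α := ptAct ap8 ap8_eq

/-- action on subsets -/
def pSub [Fintype α] [DecidableEq α] : CAct (pG E) (Finset α) := subsAct img24 img24_eq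

/-- conjugation action -/
def pCj : CAct (pG E) (Cj (Equiv.Perm α)) := pcjAct cj24 cj24_eq

end CA.Perm24
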