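import Cfsg.Agent.Lib.Spor.PkW

/-! Packed matrices over the field with three elements; the accumulators start from a multiple of three. -/

set_option autoImplicit false
set_option linter.all false

namespace CA.PkR

open CA.CNet CA.CWord CA.CMat CA.PkM Matrix

def mk : ℕ → ℕ
  | 0 => 0
  | n + 1 => 3 + 65536 * mk n

theorem sm_of : ∀ n r : ℕ, r &&& mk n = r → sm 3 n r = true
  | 0, _, _ => rfl
  | n + 1, r, h => by
    have h1 : r % 2 ^ 16 ≤ 3 := by
      rw [← h, Nat.and_mod_two_pow]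
      refine Nat.and_le_right.trans ?_
      rw [mk]; omega
    have h2 : r / 2 ^ 16 &&& mk n = r / 2 ^ 16 := by
      conv_rhs => rw [← h, Nat.and_div_two_pow]
      rw [mk, show (3 + 65536 * mk n) / 2 ^ 16 = mk n by omega]
    exact band_iff.2 ⟨Nat.ble_eq_true_of_le h1, (force_eq _ _).trans (sm_of n _ h2)⟩

noncomputable def ok3 (n : ℕ) (B : List ℕ) : Bool :=
  force (mk n) fun M => band (Nat.beq B.length n) (lall B fun r => Nat.beq (Nat.land r M) r)

theorem ok_of {n : ℕ} {B : List ℕ} (h : ok3 n B = true) : ok 3 n B = true := by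
  unfold ok3 at h
  rw [force_eq, band_iff] at h
  exact band_iff.2 ⟨h.1, lall_iff.2 fun r hr => sm_of n r (Nat.eq_of_beq_eq_true (lall_iff.1 h.2 r hr))⟩

noncomputable def aw (R : ℕ) (F : ℕ → List ℕ) (w : Word) : ℕ → ℕ :=
  List.rec (motive := fun _ => ℕ → ℕ) (fun r => r) (fun a _ ih r => force (rm 3 (F a) r R) ih) w

noncomputable def row (n R : ℕ) (F : ℕ → List ℕ) (w : Word) (i : ℕ) : Bool :=
  force (Nat.add (Nat.pow 65536 i) R) fun e => force (aw R F w e) fun x => veq 3 n x e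

/-- the words are trivial on the rows of a block -/
noncomputable def blk (n R : ℕ) (F : ℕ → List ℕ) (s j : ℕ) (ws : List Word) : Bool :=
  lall ws fun w => allR s fun i => row n R F w (Nat.add (Nat.mul s j) i)

noncomputable def mv (n : ℕ) (F : ℕ → List ℕ) (w : Word) : Matrix (Fin n) (Fin n) (ZMod 3) :=
  (w.map fun a => val 3 n (F a)).prod

variable {n R : ℕ} (hn : n ≤ 500) (h1 : sm 60000 n R = true) (h2 : veq 3 n R 0 = true)
include hn h1 h2

theorem cast_R (j : Fin n) : ((dg j R : ℕ) : ZMod 3) = 0 := by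
  have := veq_spec h2 j j.2
  rw [dg_zero] at this
  exact (ZMod.natCast_eq_zero_iff _ _).2 (Nat.dvd_of_mod_eq_zero this)

theorem vec_rm {B : List ℕ} (h : ok 3 n B = true) (r : ℕ) : vec 3 n (rm 3 B r R) = vec 3 n r ᵥ* val 3 n B := by
  have hl : B.length = n := Nat.eq_of_beq_eq_true (band_iff.1 h).1
  ext j
  have := rm_spec (p := 3) (by decide) B r R 60000 (fun b hb => sm_spec (lall_iff.1 (band_iff.1 h).2 b hb))
    (sm_spec h1) (by rw [hl]; omega) j j.2
  rw [PkM.vec, this, hl, Finset.sum_range, Nat.cast_add, cast_R hn h1 h2, zero_add]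
  simp [vecMul, dotProduct, val, PkM.vec, -Nat.cast_ofNat, ZMod.natCast_mod]

theorem vec_e (i : Fin n) : vec 3 n (65536 ^ (i : ℕ) + R) = Pi.single i 1 := by
  ext l
  have := dg_axpy (c := 1) (m := 1) (k := 60000) (by omega) l (65536 ^ (i : ℕ)) R
    (fun t _ => by rw [dg_pow]; split_ifs <;> omega) fun t ht => sm_spec h1 t (by have := l.2; omega)
  rw [one_mul, one_mul] at this
  rw [PkM.vec, this, Nat.cast_add, cast_R hn h1 h2, add_zero, dg_pow, Pi.single_apply]; simp [Fin.ext_iff, eq_comm]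

variable {F : ℕ → List ℕ} {k : ℕ} (hF : ∀ i < 2 * k, ok 3 n (F i) = true)
include hF

theorem vec_aw (w : Word) (hw : ∀ a ∈ w, a < 2 * k) : ∀ r, vec 3 n (aw R F w r) = vec 3 n r ᵥ* mv n F w := by
  induction w with
  | nil => intro r; simp [aw, mv]
  | cons a w ih =>
    intro r
    have e : aw R F (a :: w) r = aw R F w (rm 3 (F a) r R) := force_eq _ _
    rw [e, ih fun b hb => hw b (by simp [hb]), vec_rm hn h1 h2 (hF _ (hw a (by simp))), vecMul_vecMul]
    simp [mv]

theorem mv_one {w : Word} (hw : ∀ a ∈ w, a < 2 * k) (h : ∀ i < n, row n R F w i = true) : mv n F w = 1 := by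
  ext i j
  have h4 : veq 3 n (aw R F w (65536 ^ (i : ℕ) + R)) (65536 ^ (i : ℕ) + R) = true := by
    have := h i i.2
    unfold row at this
    rwa [force_eq, force_eq] at this
  have h3 : vec 3 n (aw R F w (65536 ^ (i : ℕ) + R)) j = vec 3 n (65536 ^ (i : ℕ) + R) j :=
    (ZMod.natCast_eq_natCast_iff' _ _ 3).2 (veq_spec h4 j j.2)
  rw [vec_aw hn h1 h2 hF w hw, vec_e hn h1 h2, single_one_vecMul] at h3
  rw [one_apply]
  exact h3.trans (by simp [Pi.single_apply, eq_comm])

theorem mv_blk {s c : ℕ} (hs : 0 < s) (e : n = s * c) {ws : List Word} (hw : ∀ w ∈ ws, ∀ a ∈ w, a < 2 * k)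
    (h : ∀ j < c, blk n R F s j ws = true) : ∀ w ∈ ws, mv n F w = 1 := fun w hm =>
  mv_one hn h1 h2 hF (hw w hm) fun i hi => by
    have := allR_spec (lall_iff.1 (h (i / s) (Nat.div_lt_of_lt_mul (e ▸ hi))) w hm) (Nat.mod_lt i hs)
    have e2 : Nat.add (Nat.mul s (i / s)) (i % s) = i := Nat.div_add_mod i s
    rwa [e2] at this

omit hn h1 h2 hF in
theorem exists_gl (hI : ∀ i < k, mv n F [2 * i, 2 * i + 1] = 1) : ∃ g : ℕ → GL (Fin n) (ZMod 3),
    ∀ w : Word, (∀ a ∈ w, a < 2 * k) → ((ev g w : GL (Fin n) (ZMod 3)) : Matrix (Fin n) (Fin n) (ZMod 3)) = mv n F w := by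
  classical
  have h2 : ∀ i < k, val 3 n (F (2 * i)) * val 3 n (F (2 * i + 1)) = 1 := fun i hi => by simpa [mv] using hI i hi
  let g : ℕ → GL (Fin n) (ZMod 3) := fun i =>
    if h : val 3 n (F (2 * i)) * val 3 n (F (2 * i + 1)) = 1 then
      ⟨val 3 n (F (2 * i)), val 3 n (F (2 * i + 1)), h, mul_eq_one_comm.1 h⟩ else 1
  have h3 : ∀ a < 2 * k, ((lv g a : GL (Fin n) (ZMod 3)) : Matrix (Fin n) (Fin n) (ZMod 3)) = val 3 n (F a) :=
    fun a ha => by
      unfold lv
      simp only [g, dif_pos (h2 (a / 2) (by omega))]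
      split_ifs with h
      · show val 3 n (F (2 * (a / 2))) = _
        rw [show 2 * (a / 2) = a by omega]
      · show val 3 n (F (2 * (a / 2) + 1)) = _
        rw [show 2 * (a / 2) + 1 = a by omega]
  refine ⟨g, fun w => ?_⟩
  induction w with
  | nil => intro _; rfl
  | cons a w ih =>
    intro hw
    rw [ev_cons, Units.val_mul, h3 a (hw a (by simp)), ih fun b hb => hw b (by simp [hb])]
    simp [mv]

omit hF in
/-- a word that moves the first basis vector -/
theorem mv_ne (hF : ∀ i < 2 * k, ok 3 n (F i) = true) {w : Word} (hw : ∀ a ∈ w, a < 2 * k) (i j : Fin n)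
    (h : dg j (aw R F w (65536 ^ (i : ℕ) + R)) % 3 ≠ dg j (65536 ^ (i : ℕ) + R) % 3) : mv n F w ≠ 1 := fun e => by
  have := congrFun (vec_aw hn h1 h2 hF w hw (65536 ^ (i : ℕ) + R)) j
  rw [e, vecMul_one] at this
  exact h ((ZMod.natCast_eq_natCast_iff' _ _ 3).1 this)

end CA.PkR
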