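import Cfsg.Agent.Lib.Spor.RuMin

/-!
The Rudvalis group of the definitions is the permutation group `CA.RuPerm.C.grp CA.RuPerm.gens`.
-/

set_option autoImplicit false
set_option maxRecDepth 100000
namespace CA.RuLink
open CA.CNet CA.CWord CA.CLevel CA.BitCount CA.RuTab CA.RuAct CA.RuMin0 CA.RuMin Cfsg.Spor Equiv
open CA.RuPerm (C hC gens)

/-- the model -/
noncomputable def G : Subgroup (Perm (Fin 4060)) := C.grp gens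

/-! ### scalars -/

/-- multiplication by `i` -/
def iota : fourRu := ⟨{
    toFun := ruI
    invFun := fun x => -ruI x
    left_inv := fun x => Subtype.ext (by
      show -(gI • gI • (x : RuVec)) = x
      rw [smul_smul, gI_sq, neg_smul, one_smul, neg_neg])
    right_inv := fun x => Subtype.ext (by
      show gI • (-(gI • (x : RuVec))) = x
      rw [smul_neg, smul_smul, gI_sq, neg_smul, one_smul, neg_neg]) },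
  fun x y => Subtype.ext (smul_add gI (x : RuVec) y), fun _ => rfl, fun x => by
    show ruNorm (gI • (x : RuVec)) = _
    rw [norm_smul, show gI.norm = 1 by decide, one_mul]⟩

theorem ap_iota {x : RuVec} (hx : x ∈ ruLattice) : ap iota x = gI • x := by rw [ap_eq _ hx]; rfl

theorem ap_iota_pow (k : ℕ) {x : RuVec} (hx : x ∈ ruLattice) : ap (iota ^ k) x = gI ^ k • x := by
  induction k with
  | zero => rw [pow_zero, pow_zero, ap_one, one_smul]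
  | succ k ih => rw [pow_succ', ap_mul, ih, ap_iota (pow_smul_mem k hx), pow_succ', mul_smul]

theorem rel_iota (k : ℕ) : Rel (iota ^ k) 1 := fun j => ⟨k, ap_iota_pow k (v_mem j.2)⟩

theorem iota_central (k : ℕ) : iota ^ k ∈ Subgroup.center fourRu := by
  rw [Subgroup.mem_center_iff]
  intro a
  refine ap_ext fun x hx => ?_
  rw [ap_mul, ap_mul, ap_iota_pow k hx, ap_iota_pow k (ap_mem a hx), ap_smul a _ hx]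

theorem v00 : v 0 (0, 0) = 4 := by rw [← fr_zero, v_fr, if_pos rfl]

theorem order_iota : orderOf iota = 4 := by
  have h0 := v_mem (j := 0) (by decide)
  refine orderOf_eq_prime_pow (p := 2) (n := 1) (fun h => ?_) (ap_ext fun x hx => ?_)
  · have := congrFun (ap_iota_pow (2 ^ 1) h0) (0, 0)
    rw [h, ap_one, Pi.smul_apply, v00] at this
    exact absurd this (by decide)
  · rw [ap_iota_pow _ hx, ap_one, show gI ^ 2 ^ (1 + 1) = 1 by decide, one_smul]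

/-! ### the action on the lines -/

theorem dot_e0 (x : RuVec) : dot (fl [p1]) x = x (0, 0) := by
  have : ∀ p, fl [p1] p = if p = (0, 0) then 1 else 0 := by decide +kernel
  simp [dot, this]

theorem only0 : ∀ k < 4, sub (full 4060) (Nat.lor (bit 0) (cls [p1] (gI ^ k * 4))) = true := by
  decide +kernel

theorem full_bit {j : ℕ} (hj : j < 4060) : (full 4060).testBit j = true := by
  rw [testBit_full]; simpa using hj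

theorem eq_zero_of {j k : ℕ} (hj : j < 4060) (h : v 0 = gI ^ k • v j) : j = 0 := by
  have h1 : v j (0, 0) = gI ^ (3 * k % 4) * 4 := by
    rw [pow_mod, ← v00, h, Pi.smul_apply, smul_eq_mul, ← mul_assoc, pow_mul_inv, one_mul]
  have h2 : (bit 0 ||| cls [p1] (gI ^ (3 * k % 4) * 4)).testBit j = true :=
    sub_spec (only0 _ (by omega)) (full_bit hj)
  rw [Nat.testBit_or, cls_spec (by decide) hj (by rw [dot_e0, h1]), testBit_bit] at h2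
  have : 0 = j := by simpa using h2
  omega

theorem ap_inj (a : fourRu) {x y : RuVec} (h : ap a x = ap a y) : x = y := by
  rw [← ap_inv a x, h, ap_inv]

theorem line_inj {i j : Fin 4060} {k l : ℕ} (h : gI ^ k • v i = gI ^ l • v j) : i = j := by
  obtain ⟨a, σ, m, hr, e, h1⟩ := exists_ap i
  obtain ⟨n, h2⟩ := hr (σ⁻¹ j)
  rw [← Perm.mul_apply, mul_inv_cancel, Perm.one_apply] at h2
  have h3 : v 0 = gI ^ (m + 3 * k + l + 3 * n) • v (σ⁻¹ j : Fin 4060) := by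
    apply ap_inj a
    rw [ap_smul a _ (v_mem (Fin.is_lt _)), h2, h1, ← mul_smul, pow_add, mul_assoc, pow_mul_inv,
      mul_one, pow_add, mul_smul, ← h, ← mul_smul, pow_add, mul_assoc, pow_mul_inv, mul_one]
  have h4 : σ⁻¹ j = 0 := Fin.ext (eq_zero_of (Fin.is_lt _) h3)
  rw [← e, ← h4, ← Perm.mul_apply, mul_inv_cancel, Perm.one_apply]

theorem rel_unique {a : fourRu} {σ τ : Perm (Fin 4060)} (h1 : Rel a σ) (h2 : Rel a τ) : σ = τ :=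
  Equiv.ext fun j => by
    obtain ⟨k, hk⟩ := h1 j
    obtain ⟨l, hl⟩ := h2 j
    exact line_inj (hk.symm.trans hl)

theorem exists_rel (a : fourRu) : ∃ σ, Rel a σ := by
  have : ∀ j : Fin 4060, ∃ i : Fin 4060, ∃ k : ℕ, ap a (v j) = gI ^ k • v i := by
    intro j
    have hn := (ap_norm a (v_mem j.2)).trans (norm_v j.2)
    rcases classify (ap_mem a (v_mem j.2)) hn.le with h | ⟨k, i, hi, h⟩
    · rw [h] at hn; simp [ruNorm] at hn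
    · exact ⟨⟨i, hi⟩, k, h⟩
  choose f hf using this
  refine ⟨Equiv.ofBijective f (Finite.injective_iff_bijective.1 fun i j e => ?_), hf⟩
  obtain ⟨k, hk⟩ := hf i
  obtain ⟨l, hl⟩ := hf j
  refine line_inj (k := l) (l := k) (ap_inj a ?_)
  rw [ap_smul a _ (v_mem i.2), ap_smul a _ (v_mem j.2), hk, hl, e, smul_comm]

/-- the permutation representation on the minimal lines -/
noncomputable def φ : fourRu →* Perm (Fin 4060) :=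
  MonoidHom.mk' (fun a => (exists_rel a).choose) fun a b => rel_unique (exists_rel _).choose_spec
    ((exists_rel a).choose_spec.mul (exists_rel b).choose_spec)

theorem rel_φ (a : fourRu) : Rel a (φ a) := (exists_rel a).choose_spec

theorem range_φ : φ.range = ind := by
  ext σ
  exact ⟨fun ⟨a, h⟩ => ⟨a, h ▸ rel_φ a⟩, fun ⟨a, h⟩ => ⟨a, rel_unique (rel_φ a) h⟩⟩

theorem coord0 (j : ℕ) : (v j (0, 0)).im = 0 ∧ 0 ≤ (v j (0, 0)).re := by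
  show cv RuTab.c0.2 j = 0 ∧ 0 ≤ cv RuTab.c0.1 j
  simp only [cv, show RuTab.c0.2.P = 0 from rfl, show RuTab.c0.2.N = 0 from rfl,
    show RuTab.c0.2.F = 0 from rfl, show RuTab.c0.1.N = 0 from rfl, Nat.zero_testBit]
  refine ⟨rfl, ?_⟩
  simp only [Bool.toNat_false]
  omega

theorem normal {a : fourRu} {σ : Perm (Fin 4060)} (h : Rel a σ) (h0 : ap a (v 0) = v 0)
    {i : Fin 4060} (hi : v i (0, 0) = 1) : v (σ i) (0, 0) = 1 ∧ ap a (v i) = v (σ i) := by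
  obtain ⟨k, hk⟩ := h i
  have e := ap_H a (v_mem i.2) (v_mem (j := 0) (by decide))
  rw [h0, hk, H_v0, H_v0, hi, Pi.smul_apply, smul_eq_mul] at e
  have e1 := mul_left_cancel₀ (show (4 : GaussianInt) ≠ 0 by decide) e
  have e2 := congrArg Zsqrtd.norm e1
  obtain ⟨c1, c2⟩ := coord0 (σ i)
  rw [Zsqrtd.norm_mul, norm_pow, Zsqrtd.norm_one, one_mul, Zsqrtd.norm_def, c1] at e2
  have e3 : v (σ i) (0, 0) = 1 := by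
    ext
    · show _ = (1 : ℤ)
      rcases mul_self_eq_one_iff.1 (show (v (σ i) (0, 0)).re * (v (σ i) (0, 0)).re = 1 by
        simpa using e2) with h | h <;> omega
    · exact c1
  rw [e3, mul_one] at e1
  exact ⟨e3, by rw [hk, e1, one_smul]⟩

theorem exists_normal {a : fourRu} {σ : Perm (Fin 4060)} (h : Rel a σ) (h0 : σ 0 = 0) :
    ∃ k : ℕ, Rel (iota ^ k * a) σ ∧ ap (iota ^ k * a) (v 0) = v 0 := by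
  obtain ⟨k, hk⟩ := h 0
  rw [h0] at hk
  refine ⟨3 * k, by simpa using (rel_iota (3 * k)).mul h, ?_⟩
  have h1 := v_mem (j := 0) (by decide)
  rw [ap_mul, show ap a (v 0) = gI ^ k • v 0 from hk, ap_iota_pow _ (pow_smul_mem k h1), ← mul_smul,
    pow_mul_inv, one_smul]

/-! ### the stabiliser chain -/

structure Step where
  b : ℕ
  u : List GaussianInt
  ws : List Word
  sc : List ℕ

abbrev Pt := ℕ × List GaussianInt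

def Good (t : Pt) : Prop := t.1 < 4060 ∧ t.2.length ≤ 28 ∧ (∀ p, v t.1 p = fl t.2 p) ∧
  fl t.2 (0, 0) = 1

noncomputable def bad (R : List Pt) (u : List GaussianInt) : ℕ :=
  List.rec (motive := fun _ => ℕ) (cls [p1] p1)
    (fun t _ ih => Nat.lor (cls (lmap star t.2) (hl u t.2)) ih) R

theorem bad_spec {R : List Pt} {u : List GaussianInt} {j : ℕ} (hj : j < 4060)
    (h0 : v j (0, 0) = 1) (hR : ∀ t ∈ R, t.2.length ≤ 28 ∧ H (v j) (fl t.2) = hl u t.2) :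
    (bad R u).testBit j = false := by
  induction R with
  | nil => exact cls_spec (by decide) hj (by rw [dot_e0, h0]; rfl)
  | cons t R ih =>
    show (cls (lmap star t.2) (hl u t.2) ||| bad R u).testBit j = false
    obtain ⟨h1, h2⟩ := hR t (by simp)
    rw [Nat.testBit_or, ih fun s hs => hR s (List.mem_cons_of_mem _ hs), Bool.or_false]
    refine cls_spec (by rw [lmap_eq]; simpa using h1) hj ?_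
    rw [← h2, H_eq_dot]
    congr 1
    funext p
    have := nth_lmap star t.2 0 (pos p)
    rwa [star_zero] at this

noncomputable def stepOK (B : List Pt) (s : Step) : Bool :=
  band (lall s.ws fun w => band (lall w fun a => Nat.blt a 102)
      (band (C.maps w 0 0) (lall B fun t => C.maps w t.1 t.1)))
    (sub (full 4060) (Nat.lor (bad (ltake B 6) s.u) (C.clo s.ws s.sc (bit s.b))))

noncomputable def chain (l : List Step) : List Pt → Bool :=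
  List.rec (motive := fun _ => List Pt → Bool) (fun _ => true)
    (fun s _ ih B => band (stepOK B s) (ih (lapp B [(s.b, s.u)]))) l

def Fix (σ : Perm (Fin 4060)) (B : List Pt) : Prop :=
  σ 0 = 0 ∧ ∀ t ∈ B, ∀ i : Fin 4060, t.1 = i → σ i = i

theorem grp_fix {ws : List Word} {p : Fin 4060} (h : ∀ w ∈ ws, C.maps w p p = true)
    {x : Perm (Fin 4060)} (hx : x ∈ C.grp ws) : x p = p := by
  have : C.grp ws ≤ MulAction.stabilizer (Perm (Fin C.n)) (show Fin C.n from p) :=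
    (grp_le_iff _).2 fun w hw => Fin.ext ((Ctx.maps_iff hC).1 (h w hw))
  exact this hx

theorem step_spec {B : List Pt} {s : Step} (h : stepOK B s = true) (hB : ∀ t ∈ B, Good t)
    (hs : Good (s.b, s.u)) {σ : Perm (Fin 4060)} (hσ : σ ∈ ind) (hf : Fix σ B) :
    ∃ x ∈ G, Fix (x⁻¹ * σ) (B ++ [(s.b, s.u)]) := by
  unfold stepOK at h
  rw [band_iff, lall_iff] at h
  obtain ⟨h1, h2⟩ := h
  simp only [band_iff, lall_iff] at h1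
  obtain ⟨a, ha⟩ := hσ
  obtain ⟨k, hr, h0⟩ := exists_normal ha hf.1
  let b : Fin 4060 := ⟨s.b, hs.1⟩
  have hb0 : v b (0, 0) = 1 := (hs.2.2.1 _).trans hs.2.2.2
  obtain ⟨n1, n2⟩ := normal hr h0 hb0
  have hbad : (bad (ltake B 6) s.u).testBit (σ b) = false := by
    refine bad_spec (σ b).2 n1 fun t ht => ?_
    have ht' : t ∈ B := by rw [← ltake_append_ldrop B 6]; exact List.mem_append_left _ ht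
    obtain ⟨g1, g2, g3, g4⟩ := hB t ht'
    refine ⟨g2, ?_⟩
    have n3 := (normal hr h0 (i := ⟨t.1, g1⟩) ((g3 _).trans g4)).2
    rw [hf.2 t ht' ⟨t.1, g1⟩ rfl] at n3
    have e := ap_H (iota ^ k * a) (v_mem b.2) (v_mem g1)
    rw [n2, show ap (iota ^ k * a) (v t.1) = v t.1 from n3, funext g3,
      show v b = fl s.u from funext hs.2.2.1, H_fl hs.2.1] at e
    exact e
  have h3 : (bad (ltake B 6) s.u ||| C.clo s.ws s.sc (bit s.b)).testBit (σ b) = true :=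
    sub_spec h2 (full_bit (σ b).2)
  rw [Nat.testBit_or, hbad, Bool.false_or] at h3
  obtain ⟨x, hx, e⟩ : ∃ x : Perm (Fin 4060), x ∈ C.grp s.ws ∧ x b = σ b :=
    clo_bit hC s.ws s.sc b (σ b) h3
  have hG : C.grp s.ws ≤ C.grp gens := (grp_le_iff _).2 fun w hw =>
    RuPerm.all_mem fun a ha => Nat.blt_eq.mp ((h1 w hw).1 a ha)
  refine ⟨x, hG hx, ?_, fun t ht i hi => ?_⟩
  · rw [Perm.mul_apply, hf.1, Perm.inv_eq_iff_eq]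
    exact (grp_fix (p := 0) (fun w hw => (h1 w hw).2.1) hx).symm
  · rw [Perm.mul_apply, Perm.inv_eq_iff_eq]
    rcases List.mem_append.1 ht with ht | ht
    · rw [hf.2 t ht i hi]
      exact (grp_fix (fun w hw => hi ▸ (h1 w hw).2.2 t ht) hx).symm
    · have : i = b := Fin.ext (by rw [← hi, List.mem_singleton.1 ht])
      rw [this, e]

theorem G_le : G ≤ ind := grp_le_ind

theorem chain_spec {l : List Step} {B : List Pt} (h : chain l B = true)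
    (hB : ∀ t ∈ B ++ l.map fun s => (s.b, s.u), Good t)
    (hfin : ∀ σ ∈ ind, Fix σ (B ++ l.map fun s => (s.b, s.u)) → σ ∈ G) :
    ∀ σ ∈ ind, Fix σ B → σ ∈ G := by
  induction l generalizing B with
  | nil => simpa using hfin
  | cons s l ih =>
    have h' : band (stepOK B s) (chain l (lapp B [(s.b, s.u)])) = true := h
    rw [band_iff, lapp_eq] at h'
    intro σ hσ hf
    obtain ⟨x, hx, hf'⟩ := step_spec h'.1 (fun t ht => hB t (List.mem_append_left _ ht))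
      (hB _ (by simp)) hσ hf
    have := ih h'.2 (by simpa using hB) (by simpa using hfin) _
      (mul_mem (inv_mem (G_le hx)) hσ) hf'
    simpa using mul_mem hx this

def steps : List Step := [⟨28, [p1, m1, mi, m1, o, o, o, o, p1, pi, m1, p1, pi, mi, mi, p1, m1, pi, mi, pi, o, o, o, o, o, o, o, o], [[4], [6]], [0, 2, 0, 2, 0, 2, 0, 2, 0, 2, 0, 2, 0, 2, 0, 2, 0, 2, 0, 0]⟩,
  ⟨39, [p1, pi, mi, mi, o, o, o, o, o, o, o, o, mi, pi, m1, pi, o, o, o, o, p1, mi, m1, m1, p1, m1, p1, pi], [[38], [10, 67], [46, 78], [63, 82, 4]], [0, 2, 4, 6, 0, 2, 4, 6, 0, 4, 6, 2, 4, 6, 0, 6, 4, 6]⟩,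
  ⟨120, [p1, mi, pi, mi, o, o, o, o, o, o, o, o, m1, p1, mi, m1, o, o, o, o, mi, p1, mi, pi, m1, p1, m1, mi], [[58, 48, 5, 92, 5, 75], [13, 26, 62, 4, 56, 59, 10]], [0, 2, 2, 2]⟩,
  ⟨1811, [p1, p1, pi, mi, o, pi, m1, o, m1, m1, o, o, o, o, m1, m1, pi, o, pi, o, o, p1, m1, o, p1, o, mi, o], [[27, 5, 47, 4, 48, 59, 30, 84]], [0]⟩,
  ⟨3074, [p1, o, p1, o, o, p1, p1, o, o, pi, o, mi, p1, m1, p1, m1, o, m1, pi, o, pi, mi, o, o, m1, pi, o, o], [], []⟩,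
  ⟨583, [p1, o, p1, o, o, pi, mi, o, pi, o, p1, o, mi, mi, p1, m1, o, m1, mi, o, pi, pi, o, o, o, o, pi, pi], [], []⟩,
  ⟨3811, [p1, pi, o, o, o, m1, o, pi, p1, o, o, mi, o, p1, o, m1, m1, m1, mi, pi, mi, o, o, mi, o, o, p1, pi], [], []⟩,
  ⟨1595, [p1, m1, p1, m1, o, mi, p1, o, m1, m1, o, o, mi, p1, o, o, mi, o, pi, o, o, mi, pi, o, o, m1, o, m1], [], []⟩,
  ⟨2270, [p1, p1, m1, m1, m1, o, o, m1, mi, pi, o, o, o, o, m1, m1, o, p1, o, mi, mi, o, o, p1, o, pi, o, mi], [], []⟩,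
  ⟨3961, [p1, o, m1, o, o, mi, mi, o, mi, o, p1, o, m1, m1, mi, pi, o, m1, pi, o, mi, pi, o, o, o, o, pi, mi], [], []⟩,
  ⟨3239, [p1, p1, o, o, pi, m1, o, o, m1, o, p1, o, o, pi, pi, o, m1, o, pi, o, pi, mi, m1, m1, m1, o, o, m1], [], []⟩,
  ⟨1598, [p1, m1, p1, m1, m1, o, o, p1, o, o, pi, p1, o, o, p1, m1, o, pi, o, p1, p1, o, o, pi, mi, o, m1, o], [], []⟩,
  ⟨2853, [p1, o, pi, o, p1, p1, mi, pi, o, p1, pi, o, p1, m1, o, o, o, o, pi, pi, o, p1, o, mi, p1, o, o, mi], [], []⟩,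
  ⟨1558, [p1, pi, mi, p1, o, m1, mi, o, o, o, mi, p1, o, o, m1, p1, mi, o, mi, o, m1, o, o, mi, p1, o, mi, o], [], []⟩,
  ⟨659, [p1, o, mi, o, pi, mi, pi, mi, pi, o, o, mi, o, o, m1, pi, o, o, mi, pi, o, p1, o, mi, mi, o, o, p1], [], []⟩,
  ⟨365, [p1, m1, mi, m1, o, o, o, o, pi, p1, pi, pi, p1, p1, m1, pi, p1, pi, pi, pi, o, o, o, o, o, o, o, o], [], []⟩,
  ⟨1026, [p1, mi, o, o, pi, o, pi, o, o, m1, p1, o, pi, o, m1, o, pi, mi, m1, m1, pi, o, o, mi, pi, mi, o, o], [], []⟩,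
  ⟨796, [p1, m1, m1, p1, o, m1, mi, o, p1, m1, o, o, p1, pi, o, o, o, m1, o, mi, mi, o, o, m1, o, m1, o, p1], [], []⟩,
  ⟨2361, [p1, o, mi, o, p1, pi, mi, p1, o, p1, pi, o, o, o, mi, p1, o, o, p1, m1, pi, o, pi, o, p1, o, o, pi], [], []⟩,
  ⟨2877, [p1, p1, m1, m1, o, m1, mi, o, o, o, pi, p1, m1, mi, o, o, mi, o, mi, o, o, pi, pi, o, pi, o, p1, o], [], []⟩,
  ⟨1539, [p1, mi, o, o, pi, o, pi, o, pi, o, o, p1, pi, o, p1, o, pi, p1, mi, p1, o, mi, p1, o, p1, m1, o, o], [], []⟩,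
  ⟨2407, [p1, m1, mi, mi, o, mi, m1, o, o, o, m1, mi, o, o, m1, p1, p1, o, p1, o, o, mi, pi, o, o, p1, o, m1], [], []⟩,
  ⟨3319, [p1, o, o, m1, mi, pi, o, o, m1, mi, o, o, o, p1, o, pi, o, m1, p1, o, o, p1, o, p1, pi, m1, p1, pi], [], []⟩,
  ⟨713, [p1, m1, o, o, p1, pi, o, o, o, mi, o, p1, mi, o, o, p1, m1, o, mi, o, mi, pi, m1, m1, pi, o, o, pi], [], []⟩,
  ⟨3499, [p1, o, o, p1, mi, pi, o, o, pi, m1, o, o, o, m1, o, mi, p1, o, o, pi, mi, o, p1, o, p1, m1, mi, mi], [], []⟩,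
  ⟨127, [p1, p1, mi, p1, o, o, o, o, p1, mi, m1, m1, m1, m1, p1, mi, pi, p1, m1, p1, o, o, o, o, o, o, o, o], [], []⟩,
  ⟨1382, [p1, mi, o, o, mi, o, mi, o, mi, o, o, m1, mi, o, m1, o, pi, p1, mi, p1, o, mi, p1, o, m1, p1, o, o], [], []⟩,
  ⟨2560, [p1, pi, o, o, o, m1, o, mi, o, m1, p1, o, o, p1, o, p1, mi, p1, m1, mi, p1, o, o, m1, pi, mi, o, o], [], []⟩]
def cs : List (List GaussianInt) := [[⟨Int.ofNat 48, Int.negSucc 40⟩, ⟨Int.ofNat 36, Int.negSucc 126⟩, ⟨Int.ofNat 56, Int.negSucc 44⟩, ⟨Int.ofNat 3, Int.ofNat 54⟩, ⟨Int.ofNat 70, Int.negSucc 23⟩, ⟨Int.ofNat 103, Int.ofNat 10⟩, ⟨Int.negSucc 4, Int.ofNat 30⟩, ⟨Int.ofNat 19, Int.ofNat 4⟩, ⟨Int.ofNat 40, Int.negSucc 12⟩, ⟨Int.negSucc 32, Int.negSucc 18⟩, ⟨Int.negSucc 98, Int.ofNat 56⟩, ⟨Int.negSucc 78, Int.negSucc 3⟩, ⟨Int.negSucc 36, Int.negSucc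 50⟩, ⟨Int.negSucc 18, Int.negSucc 52⟩, ⟨Int.negSucc 0, Int.ofNat 5⟩, ⟨Int.negSucc 3, Int.negSucc 36⟩, ⟨Int.ofNat 0, Int.negSucc 32⟩, ⟨Int.negSucc 6, Int.ofNat 26⟩, ⟨Int.ofNat 24, Int.ofNat 51⟩, ⟨Int.negSucc 76, Int.negSucc 28⟩, ⟨Int.ofNat 20, Int.ofNat 82⟩, ⟨Int.negSucc 30, Int.ofNat 21⟩, ⟨Int.negSucc 39, Int.ofNat 31⟩, ⟨Int.negSucc 1, Int.ofNat 33⟩, ⟨Int.ofNat 40, Int.ofNat 53⟩, ⟨Int.negSucc 9, Int.negSucc 50⟩, ⟨Int.negSucc 29, Int.ofNat 2⟩, ⟨Int.ofNat 19, Int.ofNat 69⟩],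
  [⟨Int.ofNat 96, Int.negSucc 19⟩, ⟨Int.ofNat 146, Int.negSucc 146⟩, ⟨Int.ofNat 111, Int.negSucc 18⟩, ⟨Int.negSucc 36, Int.ofNat 76⟩, ⟨Int.ofNat 114, Int.ofNat 20⟩, ⟨Int.ofNat 133, Int.ofNat 92⟩, ⟨Int.negSucc 29, Int.ofNat 38⟩, ⟨Int.ofNat 22, Int.ofNat 20⟩, ⟨Int.ofNat 63, Int.ofNat 13⟩, ⟨Int.negSucc 30, Int.negSucc 50⟩, ⟨Int.negSucc 178, Int.ofNat 2⟩, ⟨Int.negSucc 104, Int.negSucc 66⟩, ⟨Int.negSucc 11, Int.negSucc 98⟩, ⟨Int.ofNat 15, Int.negSucc 87⟩, ⟨Int.negSucc 5, Int.ofNat 6⟩, ⟨Int.ofNat 23, Int.negSucc 52⟩, ⟨Int.ofNat 26, Int.negSucc 45⟩, ⟨Int.negSucc 29, Int.ofNat 30⟩, ⟨Int.negSucc 6, Int.ofNat 89⟩, ⟨Int.negSucc 81, Int.negSucc 97⟩, ⟨Int.negSucc 34, Int.ofNat 128⟩, ⟨Int.negSucc 58, Int.ofNat 5⟩, ⟨Int.negSucc 77, Int.ofNat 11⟩, ⟨Int.negSucc 27, Int.ofNat 44⟩, ⟨Int.ofNat 14, Int.ofNat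 103⟩, ⟨Int.ofNat 25, Int.negSucc 77⟩, ⟨Int.negSucc 41, Int.negSucc 18⟩, ⟨Int.negSucc 26, Int.ofNat 108⟩],
  [⟨Int.ofNat 83, Int.ofNat 11⟩, ⟨Int.ofNat 159, Int.negSucc 78⟩, ⟨Int.ofNat 95, Int.ofNat 15⟩, ⟨Int.negSucc 51, Int.ofNat 51⟩, ⟨Int.ofNat 87, Int.ofNat 47⟩, ⟨Int.ofNat 83, Int.ofNat 112⟩, ⟨Int.negSucc 33, Int.ofNat 22⟩, ⟨Int.ofNat 13, Int.ofNat 22⟩, ⟨Int.ofNat 48, Int.ofNat 29⟩, ⟨Int.negSucc 11, Int.negSucc 50⟩, ⟨Int.negSucc 145, Int.negSucc 46⟩, ⟨Int.negSucc 65, Int.negSucc 82⟩, ⟨Int.ofNat 18, Int.negSucc 82⟩, ⟨Int.ofNat 36, Int.negSucc 66⟩, ⟨Int.negSucc 5, Int.ofNat 3⟩, ⟨Int.ofNat 33, Int.negSucc 36⟩, ⟨Int.ofNat 34, Int.negSucc 29⟩, ⟨Int.negSucc 32, Int.ofNat 16⟩, ⟨Int.negSucc 29, Int.ofNat 70⟩, ⟨Int.negSucc 39, Int.negSucc 102⟩, ⟨Int.negSucc 63, Int.ofNat 94⟩, ⟨Int.negSucc 48, Int.negSucc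 10⟩, ⟨Int.negSucc 66, Int.negSucc 11⟩, ⟨Int.negSucc 33, Int.ofNat 28⟩, ⟨Int.negSucc 16, Int.ofNat 88⟩, ⟨Int.ofNat 42, Int.negSucc 56⟩, ⟨Int.negSucc 28, Int.negSucc 27⟩, ⟨Int.negSucc 51, Int.ofNat 80⟩],
  [⟨Int.ofNat 18, Int.negSucc 248⟩, ⟨Int.negSucc 255, Int.negSucc 455⟩, ⟨Int.ofNat 30, Int.negSucc 282⟩, ⟨Int.ofNat 160, Int.ofNat 143⟩, ⟨Int.ofNat 127, Int.negSucc 262⟩, ⟨Int.ofNat 316, Int.negSucc 260⟩, ⟨Int.ofNat 71, Int.ofNat 98⟩, ⟨Int.ofNat 64, Int.negSucc 41⟩, ⟨Int.ofNat 75, Int.negSucc 146⟩, ⟨Int.negSucc 145, Int.ofNat 41⟩, ⟨Int.negSucc 118, Int.ofNat 436⟩, ⟨Int.negSucc 233, Int.ofNat 210⟩, ⟨Int.negSucc 247, Int.negSucc 37⟩, ⟨Int.negSucc 202, Int.negSucc 94⟩, ⟨Int.ofNat 10, Int.ofNat 17⟩, ⟨Int.negSucc 114, Int.negSucc 91⟩, ⟨Int.negSucc 93, Int.negSucc 92⟩, ⟨Int.ofNat 53, Int.ofNat 93⟩,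 ⟨Int.ofNat 211, Int.ofNat 76⟩, ⟨Int.negSucc 296, Int.ofNat 134⟩, ⟨Int.ofNat 287, Int.ofNat 174⟩, ⟨Int.negSucc 26, Int.ofNat 147⟩, ⟨Int.negSucc 25, Int.ofNat 199⟩, ⟨Int.ofNat 87, Int.ofNat 98⟩, ⟨Int.ofNat 261, Int.ofNat 36⟩, ⟨Int.negSucc 172, Int.negSucc 113⟩, ⟨Int.negSucc 77, Int.ofNat 90⟩, ⟨Int.ofNat 246, Int.ofNat 141⟩],
  [⟨Int.ofNat 95, Int.negSucc 131⟩, ⟨Int.ofNat 11, Int.negSucc 341⟩, ⟨Int.ofNat 113, Int.negSucc 147⟩, ⟨Int.ofNat 42, Int.ofNat 134⟩, ⟨Int.ofNat 160, Int.negSucc 103⟩, ⟨Int.ofNat 265, Int.negSucc 38⟩, ⟨Int.ofNat 6, Int.ofNat 79⟩, ⟨Int.ofNat 50, Int.negSucc 1⟩, ⟨Int.ofNat 92, Int.negSucc 55⟩, ⟨Int.negSucc 95, Int.negSucc 25⟩, ⟨Int.negSucc 213, Int.ofNat 204⟩, ⟨Int.negSucc 202, Int.ofNat 37⟩, ⟨Int.negSucc 124, Int.negSucc 105⟩, ⟨Int.negSucc 80, Int.negSucc 121⟩, ⟨Int.negSucc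 0, Int.ofNat 13⟩, ⟨Int.negSucc 32, Int.negSucc 89⟩, ⟨Int.negSucc 20, Int.negSucc 84⟩, ⟨Int.negSucc 1, Int.ofNat 70⟩, ⟨Int.ofNat 92, Int.ofNat 114⟩, ⟨Int.negSucc 210, Int.negSucc 25⟩, ⟨Int.ofNat 102, Int.ofNat 194⟩, ⟨Int.negSucc 64, Int.ofNat 72⟩, ⟨Int.negSucc 81, Int.ofNat 103⟩, ⟨Int.ofNat 16, Int.ofNat 84⟩, ⟨Int.ofNat 133, Int.ofNat 109⟩, ⟨Int.negSucc 57, Int.negSucc 121⟩, ⟨Int.negSucc 73, Int.ofNat 24⟩, ⟨Int.ofNat 89, Int.ofNat 163⟩],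
  [⟨Int.ofNat 99, Int.negSucc 106⟩, ⟨Int.ofNat 47, Int.negSucc 302⟩, ⟨Int.ofNat 116, Int.negSucc 118⟩, ⟨Int.ofNat 23, Int.ofNat 124⟩, ⟨Int.ofNat 154, Int.negSucc 75⟩, ⟨Int.ofNat 240, Int.negSucc 5⟩, ⟨Int.negSucc 2, Int.ofNat 70⟩, ⟨Int.ofNat 45, Int.ofNat 4⟩, ⟨Int.ofNat 88, Int.negSucc 40⟩, ⟨Int.negSucc 82, Int.negSucc 33⟩, ⟨Int.negSucc 212, Int.ofNat 159⟩, ⟨Int.negSucc 183, Int.ofNat 11⟩, ⟨Int.negSucc 99, Int.negSucc 106⟩, ⟨Int.negSucc 59, Int.negSucc 116⟩, ⟨Int.negSucc 2, Int.ofNat 11⟩, ⟨Int.negSucc 19, Int.negSucc 83⟩, ⟨Int.negSucc 8, Int.negSucc 76⟩, ⟨Int.negSucc 8, Int.ofNat 63⟩, ⟨Int.ofNat 70, Int.ofNat 110⟩, ⟨Int.negSucc 184, Int.negSucc 44⟩, ⟨Int.ofNat 70, Int.ofNat 184⟩, ⟨Int.negSucc 64, Int.ofNat 58⟩, ⟨Int.negSucc 83, Int.ofNat 83⟩, ⟨Int.ofNat 5, Int.ofNat 76⟩, ⟨Int.ofNat 107, Int.ofNat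 110⟩, ⟨Int.negSucc 38, Int.negSucc 113⟩, ⟨Int.negSucc 68, Int.ofNat 13⟩, ⟨Int.ofNat 62, Int.ofNat 154⟩],
  [⟨Int.negSucc 65, Int.negSucc 48⟩, ⟨Int.negSucc 171, Int.negSucc 10⟩, ⟨Int.negSucc 72, Int.negSucc 58⟩, ⟨Int.ofNat 69, Int.negSucc 17⟩, ⟨Int.negSucc 48, Int.negSucc 82⟩, ⟨Int.negSucc 15, Int.negSucc 133⟩, ⟨Int.ofNat 40, Int.negSucc 1⟩, ⟨Int.ofNat 0, Int.negSucc 24⟩, ⟨Int.negSucc 26, Int.negSucc 47⟩, ⟨Int.negSucc 14, Int.ofNat 47⟩, ⟨Int.ofNat 98, Int.ofNat 112⟩, ⟨Int.ofNat 17, Int.ofNat 102⟩, ⟨Int.negSucc 55, Int.ofNat 62⟩, ⟨Int.negSucc 62, Int.ofNat 39⟩, ⟨Int.ofNat 6, Int.negSucc 0⟩, ⟨Int.negSucc 45, Int.ofNat 15⟩, ⟨Int.negSucc 41, Int.ofNat 9⟩, ⟨Int.ofNat 35, Int.ofNat 3⟩, ⟨Int.ofNat 60, Int.negSucc 44⟩, ⟨Int.negSucc 15, Int.ofNat 107⟩, ⟨Int.ofNat 100, Int.negSucc 47⟩, ⟨Int.ofNat 35,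 Int.ofNat 34⟩, ⟨Int.ofNat 50, Int.ofNat 43⟩, ⟨Int.ofNat 43, Int.negSucc 6⟩, ⟨Int.ofNat 57, Int.negSucc 65⟩, ⟨Int.negSucc 62, Int.ofNat 28⟩, ⟨Int.ofNat 11, Int.ofNat 38⟩, ⟨Int.ofNat 83, Int.negSucc 42⟩],
  [⟨Int.negSucc 32, Int.negSucc 6⟩, ⟨Int.negSucc 63, Int.ofNat 24⟩, ⟨Int.negSucc 35, Int.negSucc 9⟩, ⟨Int.ofNat 21, Int.negSucc 14⟩, ⟨Int.negSucc 30, Int.negSucc 18⟩, ⟨Int.negSucc 28, Int.negSucc 46⟩, ⟨Int.ofNat 13, Int.negSucc 6⟩, ⟨Int.negSucc 4, Int.negSucc 8⟩, ⟨Int.negSucc 16, Int.negSucc 12⟩, ⟨Int.ofNat 3, Int.ofNat 20⟩, ⟨Int.ofNat 53, Int.ofNat 21⟩, ⟨Int.ofNat 24, Int.ofNat 34⟩, ⟨Int.negSucc 8, Int.ofNat 29⟩, ⟨Int.negSucc 15, Int.ofNat 24⟩, ⟨Int.ofNat 4, Int.negSucc 0⟩, ⟨Int.negSucc 13, Int.ofNat 14⟩, ⟨Int.negSucc 12, Int.ofNat 10⟩, ⟨Int.ofNat 13, Int.negSucc 4⟩, ⟨Int.ofNat 15, Int.negSucc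 23⟩, ⟨Int.ofNat 12, Int.ofNat 42⟩, ⟨Int.ofNat 27, Int.negSucc 32⟩, ⟨Int.ofNat 18, Int.ofNat 5⟩, ⟨Int.ofNat 25, Int.ofNat 6⟩, ⟨Int.ofNat 14, Int.negSucc 8⟩, ⟨Int.ofNat 10, Int.negSucc 33⟩, ⟨Int.negSucc 18, Int.ofNat 21⟩, ⟨Int.ofNat 11, Int.ofNat 12⟩, ⟨Int.ofNat 23, Int.negSucc 28⟩],
  [⟨Int.ofNat 0, Int.ofNat 53⟩, ⟨Int.ofNat 61, Int.ofNat 92⟩, ⟨Int.negSucc 1, Int.ofNat 60⟩, ⟨Int.negSucc 34, Int.negSucc 27⟩, ⟨Int.negSucc 21, Int.ofNat 57⟩, ⟨Int.negSucc 62, Int.ofNat 60⟩, ⟨Int.negSucc 15, Int.negSucc 18⟩, ⟨Int.negSucc 12, Int.ofNat 10⟩, ⟨Int.negSucc 13, Int.ofNat 32⟩, ⟨Int.ofNat 30, Int.negSucc 10⟩, ⟨Int.ofNat 17, Int.negSucc 92⟩, ⟨Int.ofNat 46, Int.negSucc 47⟩, ⟨Int.ofNat 52, Int.ofNat 4⟩, ⟨Int.ofNat 44, Int.ofNat 17⟩, ⟨Int.negSucc 2, Int.negSucc 3⟩, ⟨Int.ofNat 26, Int.ofNat 17⟩, ⟨Int.ofNat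 22, Int.ofNat 18⟩, ⟨Int.negSucc 11, Int.negSucc 18⟩, ⟨Int.negSucc 44, Int.negSucc 12⟩, ⟨Int.ofNat 61, Int.negSucc 32⟩, ⟨Int.negSucc 62, Int.negSucc 31⟩, ⟨Int.ofNat 3, Int.negSucc 30⟩, ⟨Int.ofNat 2, Int.negSucc 41⟩, ⟨Int.negSucc 19, Int.negSucc 18⟩, ⟨Int.negSucc 55, Int.negSucc 3⟩, ⟨Int.ofNat 39, Int.ofNat 22⟩, ⟨Int.ofNat 15, Int.negSucc 19⟩, ⟨Int.negSucc 53, Int.negSucc 25⟩],
  [⟨Int.negSucc 101, Int.ofNat 13⟩, ⟨Int.negSucc 161, Int.ofNat 142⟩, ⟨Int.negSucc 115, Int.ofNat 12⟩, ⟨Int.ofNat 44, Int.negSucc 76⟩, ⟨Int.negSucc 115, Int.negSucc 28⟩, ⟨Int.negSucc 131, Int.negSucc 104⟩, ⟨Int.ofNat 34, Int.negSucc 36⟩, ⟨Int.negSucc 21, Int.negSucc 21⟩, ⟨Int.negSucc 64, Int.negSucc 17⟩, ⟨Int.ofNat 29, Int.ofNat 55⟩, ⟨Int.ofNat 185, Int.ofNat 11⟩, ⟨Int.ofNat 104, Int.ofNat 77⟩, ⟨Int.ofNat 5, Int.ofNat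 103⟩, ⟨Int.negSucc 20, Int.ofNat 90⟩, ⟨Int.ofNat 6, Int.negSucc 5⟩, ⟨Int.negSucc 26, Int.ofNat 54⟩, ⟨Int.negSucc 29, Int.ofNat 46⟩, ⟨Int.ofNat 33, Int.negSucc 28⟩, ⟨Int.ofNat 14, Int.negSucc 91⟩, ⟨Int.ofNat 79, Int.ofNat 108⟩, ⟨Int.ofNat 46, Int.negSucc 129⟩, ⟨Int.ofNat 61, Int.negSucc 0⟩, ⟨Int.ofNat 82, Int.negSucc 5⟩, ⟨Int.ofNat 32, Int.negSucc 42⟩, ⟨Int.negSucc 7, Int.negSucc 107⟩, ⟨Int.negSucc 30, Int.ofNat 80⟩, ⟨Int.ofNat 42, Int.ofNat 23⟩, ⟨Int.ofNat 36, Int.negSucc 110⟩],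
  [⟨Int.negSucc 150, Int.negSucc 33⟩, ⟨Int.negSucc 303, Int.ofNat 116⟩, ⟨Int.negSucc 170, Int.negSucc 43⟩, ⟨Int.ofNat 102, Int.negSucc 85⟩, ⟨Int.negSucc 150, Int.negSucc 101⟩, ⟨Int.negSucc 130, Int.negSucc 217⟩, ⟨Int.ofNat 67, Int.negSucc 34⟩, ⟨Int.negSucc 19, Int.negSucc 42⟩, ⟨Int.negSucc 82, Int.negSucc 58⟩, ⟨Int.ofNat 12, Int.ofNat 94⟩, ⟨Int.ofNat 259, Int.ofNat 113⟩, ⟨Int.ofNat 107, Int.ofNat 163⟩, ⟨Int.negSucc 45, Int.ofNat 149⟩, ⟨Int.negSucc 76, Int.ofNat 117⟩, ⟨Int.ofNat 11, Int.negSucc 3⟩, ⟨Int.negSucc 66, Int.ofNat 62⟩, ⟨Int.negSucc 65, Int.ofNat 49⟩, ⟨Int.ofNat 62, Int.negSucc 23⟩, ⟨Int.ofNat 66, Int.negSucc 122⟩, ⟨Int.ofNat 55, Int.ofNat 194⟩, ⟨Int.ofNat 133, Int.negSucc 160⟩, ⟨Int.ofNat 88, Int.ofNat 30⟩, ⟨Int.ofNat 120, Int.ofNat 34⟩, ⟨Int.ofNat 68, Int.negSucc 44⟩, ⟨Int.ofNat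 46, Int.negSucc 156⟩, ⟨Int.negSucc 85, Int.ofNat 96⟩, ⟨Int.ofNat 48, Int.ofNat 56⟩, ⟨Int.ofNat 109, Int.negSucc 137⟩],
  [⟨Int.ofNat 5, Int.negSucc 29⟩, ⟨Int.negSucc 25, Int.negSucc 58⟩, ⟨Int.ofNat 7, Int.negSucc 33⟩, ⟨Int.ofNat 19, Int.ofNat 19⟩, ⟨Int.ofNat 20, Int.negSucc 30⟩, ⟨Int.ofNat 41, Int.negSucc 27⟩, ⟨Int.ofNat 8, Int.ofNat 14⟩, ⟨Int.ofNat 8, Int.negSucc 3⟩, ⟨Int.ofNat 10, Int.negSucc 16⟩, ⟨Int.negSucc 17, Int.ofNat 3⟩, ⟨Int.negSucc 20, Int.ofNat 53⟩, ⟨Int.negSucc 30, Int.ofNat 22⟩, ⟨Int.negSucc 30, Int.negSucc 7⟩, ⟨Int.negSucc 22, Int.negSucc 14⟩, ⟨Int.ofNat 0, Int.ofNat 2⟩, ⟨Int.negSucc 11, Int.negSucc 12⟩, ⟨Int.negSucc 9, Int.negSucc 12⟩, ⟨Int.ofNat 5, Int.ofNat 12⟩, ⟨Int.ofNat 25, Int.ofNat 12⟩, ⟨Int.negSucc 36, Int.ofNat 13⟩, ⟨Int.ofNat 34, Int.ofNat 25⟩, ⟨Int.negSucc 5, Int.ofNat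 18⟩, ⟨Int.negSucc 5, Int.ofNat 24⟩, ⟨Int.ofNat 10, Int.ofNat 13⟩, ⟨Int.ofNat 31, Int.ofNat 8⟩, ⟨Int.negSucc 19, Int.negSucc 15⟩, ⟨Int.negSucc 9, Int.ofNat 10⟩, ⟨Int.ofNat 28, Int.ofNat 20⟩],
  [⟨Int.negSucc 17, Int.negSucc 4⟩, ⟨Int.negSucc 36, Int.ofNat 13⟩, ⟨Int.negSucc 20, Int.negSucc 5⟩, ⟨Int.ofNat 12, Int.negSucc 8⟩, ⟨Int.negSucc 17, Int.negSucc 11⟩, ⟨Int.negSucc 14, Int.negSucc 26⟩, ⟨Int.ofNat 7, Int.negSucc 3⟩, ⟨Int.negSucc 2, Int.negSucc 4⟩, ⟨Int.negSucc 9, Int.negSucc 7⟩, ⟨Int.ofNat 1, Int.ofNat 12⟩, ⟨Int.ofNat 31, Int.ofNat 13⟩, ⟨Int.ofNat 13, Int.ofNat 20⟩, ⟨Int.negSucc 4, Int.ofNat 17⟩, ⟨Int.negSucc 8, Int.ofNat 14⟩, ⟨Int.ofNat 2, Int.ofNat 0⟩, ⟨Int.negSucc 7, Int.ofNat 8⟩, ⟨Int.negSucc 7, Int.ofNat 6⟩, ⟨Int.ofNat 8, Int.negSucc 2⟩, ⟨Int.ofNat 7, Int.negSucc 13⟩, ⟨Int.ofNat 6,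 Int.ofNat 24⟩, ⟨Int.ofNat 16, Int.negSucc 18⟩, ⟨Int.ofNat 11, Int.ofNat 3⟩, ⟨Int.ofNat 15, Int.ofNat 4⟩, ⟨Int.ofNat 8, Int.negSucc 4⟩, ⟨Int.ofNat 6, Int.negSucc 18⟩, ⟨Int.negSucc 10, Int.ofNat 11⟩, ⟨Int.ofNat 6, Int.ofNat 8⟩, ⟨Int.ofNat 14, Int.negSucc 16⟩],
  [⟨Int.ofNat 85, Int.negSucc 84⟩, ⟨Int.ofNat 49, Int.negSucc 247⟩, ⟨Int.ofNat 100, Int.negSucc 93⟩, ⟨Int.ofNat 14, Int.ofNat 103⟩, ⟨Int.ofNat 129, Int.negSucc 56⟩, ⟨Int.ofNat 198, Int.ofNat 4⟩, ⟨Int.negSucc 3, Int.ofNat 58⟩, ⟨Int.ofNat 37, Int.ofNat 5⟩, ⟨Int.ofNat 74, Int.negSucc 29⟩, ⟨Int.negSucc 66, Int.negSucc 30⟩, ⟨Int.negSucc 180, Int.ofNat 123⟩, ⟨Int.negSucc 151, Int.ofNat 3⟩, ⟨Int.negSucc 78, Int.negSucc 91⟩, ⟨Int.negSucc 44, Int.negSucc 98⟩, ⟨Int.negSucc 1, Int.ofNat 9⟩, ⟨Int.negSucc 12, Int.negSucc 69⟩, ⟨Int.negSucc 4, Int.negSucc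 63⟩, ⟨Int.negSucc 9, Int.ofNat 51⟩, ⟨Int.ofNat 54, Int.ofNat 94⟩, ⟨Int.negSucc 150, Int.negSucc 43⟩, ⟨Int.ofNat 51, Int.ofNat 154⟩, ⟨Int.negSucc 55, Int.ofNat 46⟩, ⟨Int.negSucc 71, Int.ofNat 65⟩, ⟨Int.ofNat 1, Int.ofNat 63⟩, ⟨Int.ofNat 84, Int.ofNat 95⟩, ⟨Int.negSucc 27, Int.negSucc 95⟩, ⟨Int.negSucc 56, Int.ofNat 8⟩, ⟨Int.ofNat 46, Int.ofNat 129⟩],
  [⟨Int.negSucc 133, Int.ofNat 40⟩, ⟨Int.negSucc 190, Int.ofNat 227⟩, ⟨Int.negSucc 155, Int.ofNat 41⟩, ⟨Int.ofNat 44, Int.negSucc 113⟩, ⟨Int.negSucc 164, Int.negSucc 14⟩, ⟨Int.negSucc 200, Int.negSucc 114⟩, ⟨Int.ofNat 38, Int.negSucc 56⟩, ⟨Int.negSucc 34, Int.negSucc 24⟩, ⟨Int.negSucc 92, Int.negSucc 10⟩, ⟨Int.ofNat 51, Int.ofNat 70⟩, ⟨Int.ofNat 256, Int.negSucc 23⟩, ⟨Int.ofNat 157, Int.ofNat 82⟩, ⟨Int.ofNat 29, Int.ofNat 139⟩, ⟨Int.negSucc 9,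 Int.ofNat 127⟩, ⟨Int.ofNat 7, Int.negSucc 7⟩, ⟨Int.negSucc 25, Int.ofNat 79⟩, ⟨Int.negSucc 31, Int.ofNat 68⟩, ⟨Int.ofNat 39, Int.negSucc 46⟩, ⟨Int.negSucc 1, Int.negSucc 126⟩, ⟨Int.ofNat 130, Int.ofNat 130⟩, ⟨Int.ofNat 35, Int.negSucc 186⟩, ⟨Int.ofNat 83, Int.negSucc 14⟩, ⟨Int.ofNat 111, Int.negSucc 25⟩, ⟨Int.ofNat 34, Int.negSucc 65⟩, ⟨Int.negSucc 32, Int.negSucc 144⟩, ⟨Int.negSucc 24, Int.ofNat 114⟩, ⟨Int.ofNat 63, Int.ofNat 23⟩, ⟨Int.ofNat 26, Int.negSucc 157⟩],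
  [⟨Int.negSucc 12, Int.ofNat 4⟩, ⟨Int.negSucc 16, Int.ofNat 22⟩, ⟨Int.negSucc 14, Int.ofNat 5⟩, ⟨Int.ofNat 3, Int.negSucc 10⟩, ⟨Int.negSucc 15, Int.ofNat 0⟩, ⟨Int.negSucc 19, Int.negSucc 9⟩, ⟨Int.ofNat 3, Int.negSucc 4⟩, ⟨Int.negSucc 3, Int.negSucc 1⟩, ⟨Int.negSucc 9, Int.ofNat 0⟩, ⟨Int.ofNat 6, Int.ofNat 6⟩, ⟨Int.ofNat 24, Int.negSucc 3⟩, ⟨Int.ofNat 16, Int.ofNat 7⟩, ⟨Int.ofNat 4, Int.ofNat 13⟩, ⟨Int.ofNat 0, Int.ofNat 12⟩, ⟨Int.ofNat 1, Int.negSucc 0⟩, ⟨Int.negSucc 1, Int.ofNat 8⟩, ⟨Int.negSucc 1, Int.ofNat 7⟩, ⟨Int.ofNat 3, Int.negSucc 4⟩, ⟨Int.negSucc 0, Int.negSucc 10⟩, ⟨Int.ofNat 13, Int.ofNat 12⟩, ⟨Int.ofNat 2, Int.negSucc 17⟩, ⟨Int.ofNat 8, Int.negSucc 1⟩, ⟨Int.ofNat 11, Int.negSucc 3⟩, ⟨Int.ofNat 3, Int.negSucc 5⟩, ⟨Int.negSucc 3, Int.negSucc 13⟩, ⟨Int.negSucc 1, Int.ofNat 11⟩,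 ⟨Int.ofNat 7, Int.ofNat 2⟩, ⟨Int.ofNat 2, Int.negSucc 15⟩],
  [⟨Int.ofNat 3, Int.ofNat 112⟩, ⟨Int.ofNat 136, Int.ofNat 194⟩, ⟨Int.ofNat 0, Int.ofNat 129⟩, ⟨Int.negSucc 78, Int.negSucc 58⟩, ⟨Int.negSucc 45, Int.ofNat 124⟩, ⟨Int.negSucc 129, Int.ofNat 132⟩, ⟨Int.negSucc 35, Int.negSucc 40⟩, ⟨Int.negSucc 26, Int.ofNat 22⟩, ⟨Int.negSucc 27, Int.ofNat 70⟩, ⟨Int.ofNat 64, Int.negSucc 24⟩, ⟨Int.ofNat 35, Int.negSucc 200⟩, ⟨Int.ofNat 95, Int.negSucc 104⟩, ⟨Int.ofNat 113, Int.ofNat 7⟩, ⟨Int.ofNat 96, Int.ofNat 34⟩, ⟨Int.negSucc 5, Int.negSucc 5⟩, ⟨Int.ofNat 56, Int.ofNat 36⟩, ⟨Int.ofNat 46, Int.ofNat 37⟩, ⟨Int.negSucc 27, Int.negSucc 39⟩, ⟨Int.negSucc 98, Int.negSucc 24⟩, ⟨Int.ofNat 128, Int.negSucc 73⟩, ⟨Int.negSucc 136, Int.negSucc 65⟩, ⟨Int.ofNat 6, Int.negSucc 66⟩, ⟨Int.ofNat 3, Int.negSucc 90⟩,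 ⟨Int.negSucc 43, Int.negSucc 39⟩, ⟨Int.negSucc 118, Int.negSucc 3⟩, ⟨Int.ofNat 84, Int.ofNat 43⟩, ⟨Int.ofNat 31, Int.negSucc 43⟩, ⟨Int.negSucc 116, Int.negSucc 51⟩],
  [⟨Int.negSucc 160, Int.ofNat 42⟩, ⟨Int.negSucc 233, Int.ofNat 262⟩, ⟨Int.negSucc 185, Int.ofNat 42⟩, ⟨Int.ofNat 55, Int.negSucc 133⟩, ⟨Int.negSucc 195, Int.negSucc 23⟩, ⟨Int.negSucc 233, Int.negSucc 143⟩, ⟨Int.ofNat 47, Int.negSucc 66⟩, ⟨Int.negSucc 39, Int.negSucc 31⟩, ⟨Int.negSucc 108, Int.negSucc 15⟩, ⟨Int.ofNat 57, Int.ofNat 84⟩, ⟨Int.ofNat 305, Int.negSucc 18⟩, ⟨Int.ofNat 183, Int.ofNat 104⟩, ⟨Int.ofNat 30, Int.ofNat 167⟩, ⟨Int.negSucc 16, Int.ofNat 150⟩, ⟨Int.ofNat 9, Int.negSucc 7⟩, ⟨Int.negSucc 33, Int.ofNat 92⟩, ⟨Int.negSucc 39, Int.ofNat 80⟩, ⟨Int.ofNat 48, Int.negSucc 53⟩, ⟨Int.ofNat 2, Int.negSucc 150⟩, ⟨Int.ofNat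 149, Int.ofNat 159⟩, ⟨Int.ofNat 48, Int.negSucc 220⟩, ⟨Int.ofNat 99, Int.negSucc 13⟩, ⟨Int.ofNat 132, Int.negSucc 25⟩, ⟨Int.ofNat 43, Int.negSucc 76⟩, ⟨Int.negSucc 32, Int.negSucc 172⟩, ⟨Int.negSucc 33, Int.ofNat 134⟩, ⟨Int.ofNat 74, Int.ofNat 30⟩, ⟨Int.ofNat 37, Int.negSucc 185⟩],
  [⟨Int.ofNat 21, Int.ofNat 13⟩, ⟨Int.ofNat 50, Int.negSucc 1⟩, ⟨Int.ofNat 23, Int.ofNat 15⟩, ⟨Int.negSucc 18, Int.ofNat 7⟩, ⟨Int.ofNat 17, Int.ofNat 21⟩, ⟨Int.ofNat 9, Int.ofNat 39⟩, ⟨Int.negSucc 10, Int.ofNat 1⟩, ⟨Int.ofNat 1, Int.ofNat 7⟩, ⟨Int.ofNat 10, Int.ofNat 13⟩, ⟨Int.ofNat 2, Int.negSucc 14⟩, ⟨Int.negSucc 31, Int.negSucc 27⟩, ⟨Int.negSucc 7, Int.negSucc 28⟩, ⟨Int.ofNat 14, Int.negSucc 18⟩, ⟨Int.ofNat 16, Int.negSucc 12⟩, ⟨Int.negSucc 1, Int.ofNat 0⟩, ⟨Int.ofNat 12, Int.negSucc 6⟩, ⟨Int.ofNat 12, Int.negSucc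 3⟩, ⟨Int.negSucc 9, Int.ofNat 1⟩, ⟨Int.negSucc 14, Int.ofNat 14⟩, ⟨Int.ofNat 1, Int.negSucc 30⟩, ⟨Int.negSucc 26, Int.ofNat 17⟩, ⟨Int.negSucc 10, Int.negSucc 7⟩, ⟨Int.negSucc 15, Int.negSucc 9⟩, ⟨Int.negSucc 11, Int.ofNat 3⟩, ⟨Int.negSucc 13, Int.ofNat 21⟩, ⟨Int.ofNat 17, Int.negSucc 9⟩, ⟨Int.negSucc 4, Int.negSucc 10⟩, ⟨Int.negSucc 22, Int.ofNat 15⟩],
  [⟨Int.ofNat 159, Int.negSucc 0⟩, ⟨Int.ofNat 279, Int.negSucc 186⟩, ⟨Int.ofNat 182, Int.ofNat 5⟩, ⟨Int.negSucc 83, Int.ofNat 111⟩, ⟨Int.ofNat 175, Int.ofNat 69⟩, ⟨Int.ofNat 183, Int.ofNat 189⟩, ⟨Int.negSucc 58, Int.ofNat 50⟩, ⟨Int.ofNat 30, Int.ofNat 39⟩, ⟨Int.ofNat 98, Int.ofNat 42⟩, ⟨Int.negSucc 32, Int.negSucc 91⟩, ⟨Int.negSucc 285, Int.negSucc 55⟩, ⟨Int.negSucc 144, Int.negSucc 138⟩, ⟨Int.ofNat 13, Int.negSucc 160⟩, ⟨Int.ofNat 51, Int.negSucc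 134⟩, ⟨Int.negSucc 8, Int.ofNat 6⟩, ⟨Int.ofNat 53, Int.negSucc 77⟩, ⟨Int.ofNat 55, Int.negSucc 63⟩, ⟨Int.negSucc 57, Int.ofNat 39⟩, ⟨Int.negSucc 37, Int.ofNat 140⟩, ⟨Int.negSucc 100, Int.negSucc 182⟩, ⟨Int.negSucc 96, Int.ofNat 193⟩, ⟨Int.negSucc 94, Int.negSucc 9⟩, ⟨Int.negSucc 128, Int.negSucc 6⟩, ⟨Int.negSucc 57, Int.ofNat 61⟩, ⟨Int.negSucc 9, Int.ofNat 168⟩, ⟨Int.ofNat 63, Int.negSucc 116⟩, ⟨Int.negSucc 60, Int.negSucc 45⟩, ⟨Int.negSucc 77, Int.ofNat 164⟩],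
  [⟨Int.ofNat 14, Int.negSucc 43⟩, ⟨Int.negSucc 24, Int.negSucc 92⟩, ⟨Int.ofNat 18, Int.negSucc 48⟩, ⟨Int.ofNat 22, Int.ofNat 33⟩, ⟨Int.ofNat 34, Int.negSucc 40⟩, ⟨Int.ofNat 68, Int.negSucc 32⟩, ⟨Int.ofNat 8, Int.ofNat 21⟩, ⟨Int.ofNat 13, Int.negSucc 4⟩, ⟨Int.ofNat 20, Int.negSucc 22⟩, ⟨Int.negSucc 27, Int.ofNat 1⟩, ⟨Int.negSucc 40, Int.ofNat 72⟩, ⟨Int.negSucc 49, Int.ofNat 27⟩, ⟨Int.negSucc 41, Int.negSucc 17⟩, ⟨Int.negSucc 31, Int.negSucc 25⟩, ⟨Int.ofNat 1, Int.ofNat 3⟩, ⟨Int.negSucc 16, Int.negSucc 20⟩, ⟨Int.negSucc 11, Int.negSucc 20⟩, ⟨Int.ofNat 5, Int.ofNat 19⟩, ⟨Int.ofNat 34, Int.ofNat 23⟩, ⟨Int.negSucc 58, Int.ofNat 11⟩, ⟨Int.ofNat 43, Int.ofNat 44⟩, ⟨Int.negSucc 10, Int.ofNat 25⟩, ⟨Int.negSucc 12, Int.ofNat 34⟩, ⟨Int.ofNat 11, Int.ofNat 22⟩, ⟨Int.ofNat 45, Int.ofNat 18⟩, ⟨Int.negSucc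 25, Int.negSucc 27⟩, ⟨Int.negSucc 17, Int.ofNat 13⟩, ⟨Int.ofNat 38, Int.ofNat 36⟩],
  [⟨Int.negSucc 84, Int.ofNat 15⟩, ⟨Int.negSucc 130, Int.ofNat 126⟩, ⟨Int.negSucc 96, Int.ofNat 15⟩, ⟨Int.ofNat 34, Int.negSucc 65⟩, ⟨Int.negSucc 99, Int.negSucc 18⟩, ⟨Int.negSucc 114, Int.negSucc 83⟩, ⟨Int.ofNat 26, Int.negSucc 31⟩, ⟨Int.negSucc 19, Int.negSucc 17⟩, ⟨Int.negSucc 55, Int.negSucc 12⟩, ⟨Int.ofNat 26, Int.ofNat 46⟩, ⟨Int.ofNat 157, Int.ofNat 2⟩, ⟨Int.ofNat 91, Int.ofNat 60⟩, ⟨Int.ofNat 9, Int.ofNat 86⟩, ⟨Int.negSucc 13, Int.ofNat 77⟩, ⟨Int.ofNat 5, Int.negSucc 4⟩, ⟨Int.negSucc 20, Int.ofNat 47⟩, ⟨Int.negSucc 22, Int.ofNat 39⟩, ⟨Int.ofNat 27, Int.negSucc 25⟩, ⟨Int.ofNat 7, Int.negSucc 76⟩, ⟨Int.ofNat 71, Int.ofNat 88⟩, ⟨Int.ofNat 33, Int.negSucc 110⟩, ⟨Int.ofNat 52, Int.negSucc 3⟩, ⟨Int.ofNat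 70, Int.negSucc 8⟩, ⟨Int.ofNat 25, Int.negSucc 37⟩, ⟨Int.negSucc 10, Int.negSucc 90⟩, ⟨Int.negSucc 22, Int.ofNat 68⟩, ⟨Int.ofNat 37, Int.ofNat 19⟩, ⟨Int.ofNat 26, Int.negSucc 94⟩],
  [⟨Int.ofNat 58, Int.ofNat 29⟩, ⟨Int.ofNat 136, Int.negSucc 18⟩, ⟨Int.ofNat 66, Int.ofNat 35⟩, ⟨Int.negSucc 49, Int.ofNat 26⟩, ⟨Int.ofNat 53, Int.ofNat 56⟩, ⟨Int.ofNat 33, Int.ofNat 102⟩, ⟨Int.negSucc 30, Int.ofNat 8⟩, ⟨Int.ofNat 4, Int.ofNat 19⟩, ⟨Int.ofNat 28, Int.ofNat 32⟩, ⟨Int.ofNat 4, Int.negSucc 39⟩, ⟨Int.negSucc 96, Int.negSucc 69⟩, ⟨Int.negSucc 27, Int.negSucc 77⟩, ⟨Int.ofNat 33, Int.negSucc 56⟩, ⟨Int.ofNat 43, Int.negSucc 40⟩, ⟨Int.negSucc 5, Int.ofNat 0⟩, ⟨Int.ofNat 34, Int.negSucc 18⟩, ⟨Int.ofNat 33, Int.negSucc 13⟩, ⟨Int.negSucc 27, Int.ofNat 4⟩, ⟨Int.negSucc 38, Int.ofNat 44⟩, ⟨Int.negSucc 3, Int.negSucc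 84⟩, ⟨Int.negSucc 68, Int.ofNat 54⟩, ⟨Int.negSucc 32, Int.negSucc 20⟩, ⟨Int.negSucc 45, Int.negSucc 24⟩, ⟨Int.negSucc 31, Int.ofNat 12⟩, ⟨Int.negSucc 33, Int.ofNat 60⟩, ⟨Int.ofNat 44, Int.negSucc 30⟩, ⟨Int.negSucc 13, Int.negSucc 26⟩, ⟨Int.negSucc 57, Int.ofNat 46⟩],
  [⟨Int.negSucc 50, Int.negSucc 113⟩, ⟨Int.negSucc 220, Int.negSucc 140⟩, ⟨Int.negSucc 53, Int.negSucc 131⟩, ⟨Int.ofNat 105, Int.ofNat 26⟩, ⟨Int.negSucc 5, Int.negSucc 144⟩, ⟨Int.ofNat 77, Int.negSucc 189⟩, ⟨Int.ofNat 54, Int.ofNat 28⟩, ⟨Int.ofNat 18, Int.negSucc 32⟩, ⟨Int.negSucc 1, Int.negSucc 81⟩, ⟨Int.negSucc 53, Int.ofNat 53⟩, ⟨Int.ofNat 50, Int.ofNat 219⟩, ⟨Int.negSucc 52, Int.ofNat 147⟩, ⟨Int.negSucc 117, Int.ofNat 41⟩, ⟨Int.negSucc 110, Int.ofNat 6⟩, ⟨Int.ofNat 9, Int.ofNat 5⟩, ⟨Int.negSucc 71, Int.negSucc 12⟩, ⟨Int.negSucc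 62, Int.negSucc 18⟩, ⟨Int.ofNat 45, Int.ofNat 28⟩, ⟨Int.ofNat 111, Int.negSucc 14⟩, ⟨Int.negSucc 98, Int.ofNat 129⟩, ⟨Int.ofNat 167, Int.ofNat 9⟩, ⟨Int.ofNat 22, Int.ofNat 70⟩, ⟨Int.ofNat 36, Int.ofNat 93⟩, ⟨Int.ofNat 61, Int.ofNat 23⟩, ⟨Int.ofNat 123, Int.negSucc 45⟩, ⟨Int.negSucc 102, Int.negSucc 8⟩, ⟨Int.negSucc 11, Int.ofNat 58⟩, ⟨Int.ofNat 141, Int.ofNat 4⟩],
  [⟨Int.ofNat 89, Int.negSucc 5⟩, ⟨Int.ofNat 149, Int.negSucc 115⟩, ⟨Int.ofNat 102, Int.negSucc 4⟩, ⟨Int.negSucc 41, Int.ofNat 66⟩, ⟨Int.ofNat 101, Int.ofNat 31⟩, ⟨Int.ofNat 110, Int.ofNat 99⟩, ⟨Int.negSucc 30, Int.ofNat 31⟩, ⟨Int.ofNat 18, Int.ofNat 21⟩, ⟨Int.ofNat 57, Int.ofNat 19⟩, ⟨Int.negSucc 21, Int.negSucc 49⟩, ⟨Int.negSucc 162, Int.negSucc 18⟩, ⟨Int.negSucc 86, Int.negSucc 71⟩, ⟨Int.ofNat 0, Int.negSucc 90⟩, ⟨Int.ofNat 23,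 Int.negSucc 77⟩, ⟨Int.negSucc 4, Int.ofNat 4⟩, ⟨Int.ofNat 27, Int.negSucc 45⟩, ⟨Int.ofNat 28, Int.negSucc 38⟩, ⟨Int.negSucc 30, Int.ofNat 24⟩, ⟨Int.negSucc 14, Int.ofNat 80⟩, ⟨Int.negSucc 63, Int.negSucc 98⟩, ⟨Int.negSucc 45, Int.ofNat 112⟩, ⟨Int.negSucc 53, Int.negSucc 1⟩, ⟨Int.negSucc 72, Int.ofNat 1⟩, ⟨Int.negSucc 29, Int.ofNat 36⟩, ⟨Int.ofNat 1, Int.ofNat 95⟩, ⟨Int.ofNat 31, Int.negSucc 67⟩, ⟨Int.negSucc 35, Int.negSucc 22⟩, ⟨Int.negSucc 36, Int.ofNat 95⟩],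
  [⟨Int.ofNat 93, Int.ofNat 15⟩, ⟨Int.ofNat 180, Int.negSucc 84⟩, ⟨Int.ofNat 106, Int.ofNat 19⟩, ⟨Int.negSucc 57, Int.ofNat 59⟩, ⟨Int.ofNat 98, Int.ofNat 56⟩, ⟨Int.ofNat 90, Int.ofNat 127⟩, ⟨Int.negSucc 38, Int.ofNat 25⟩, ⟨Int.ofNat 13, Int.ofNat 26⟩, ⟨Int.ofNat 54, Int.ofNat 32⟩, ⟨Int.negSucc 10, Int.negSucc 56⟩, ⟨Int.negSucc 163, Int.negSucc 57⟩, ⟨Int.negSucc 71, Int.negSucc 94⟩, ⟨Int.ofNat 21, Int.negSucc 93⟩, ⟨Int.ofNat 42, Int.negSucc 74⟩, ⟨Int.negSucc 5, Int.ofNat 2⟩, ⟨Int.ofNat 39, Int.negSucc 40⟩, ⟨Int.ofNat 38, Int.negSucc 32⟩, ⟨Int.negSucc 37, Int.ofNat 18⟩, ⟨Int.negSucc 33, Int.ofNat 79⟩, ⟨Int.negSucc 42, Int.negSucc 115⟩, ⟨Int.negSucc 73, Int.ofNat 105⟩, ⟨Int.negSucc 54, Int.negSucc 14⟩, ⟨Int.negSucc 75, Int.negSucc 15⟩, ⟨Int.negSucc 38, Int.ofNat 30⟩, ⟨Int.negSucc 20, Int.ofNat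 98⟩, ⟨Int.ofNat 47, Int.negSucc 62⟩, ⟨Int.negSucc 30, Int.negSucc 31⟩, ⟨Int.negSucc 59, Int.ofNat 89⟩],
  [⟨Int.ofNat 46, Int.negSucc 126⟩, ⟨Int.negSucc 68, Int.negSucc 278⟩, ⟨Int.ofNat 56, Int.negSucc 144⟩, ⟨Int.ofNat 65, Int.ofNat 101⟩, ⟨Int.ofNat 107, Int.negSucc 120⟩, ⟨Int.ofNat 205, Int.negSucc 91⟩, ⟨Int.ofNat 24, Int.ofNat 62⟩, ⟨Int.ofNat 40, Int.negSucc 11⟩, ⟨Int.ofNat 62, Int.negSucc 66⟩, ⟨Int.negSucc 83, Int.negSucc 0⟩, ⟨Int.negSucc 127, Int.ofNat 214⟩, ⟨Int.negSucc 153, Int.ofNat 76⟩, ⟨Int.negSucc 125, Int.negSucc 56⟩, ⟨Int.negSucc 94, Int.negSucc 79⟩, ⟨Int.ofNat 3, Int.ofNat 9⟩, ⟨Int.negSucc 46, Int.negSucc 65⟩, ⟨Int.negSucc 35, Int.negSucc 62⟩, ⟨Int.ofNat 14, Int.ofNat 58⟩, ⟨Int.ofNat 102, Int.ofNat 71⟩, ⟨Int.negSucc 175, Int.ofNat 28⟩, ⟨Int.ofNat 127, Int.ofNat 134⟩, ⟨Int.negSucc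 35, Int.ofNat 74⟩, ⟨Int.negSucc 43, Int.ofNat 102⟩, ⟨Int.ofNat 32, Int.ofNat 64⟩, ⟨Int.ofNat 133, Int.ofNat 57⟩, ⟨Int.negSucc 75, Int.negSucc 84⟩, ⟨Int.negSucc 53, Int.ofNat 35⟩, ⟨Int.ofNat 109, Int.ofNat 110⟩],
  [⟨Int.ofNat 18, Int.ofNat 104⟩, ⟨Int.ofNat 154, Int.ofNat 160⟩, ⟨Int.ofNat 18, Int.ofNat 119⟩, ⟨Int.negSucc 82, Int.negSucc 41⟩, ⟨Int.negSucc 23, Int.ofNat 122⟩, ⟨Int.negSucc 101, Int.ofNat 141⟩, ⟨Int.negSucc 38, Int.negSucc 32⟩, ⟨Int.negSucc 21, Int.ofNat 24⟩, ⟨Int.negSucc 14, Int.ofNat 70⟩, ⟨Int.ofNat 56, Int.negSucc 32⟩, ⟨Int.ofNat 3, Int.negSucc 192⟩, ⟨Int.ofNat 74, Int.negSucc 109⟩, ⟨Int.ofNat 107, Int.negSucc 9⟩, ⟨Int.ofNat 94, Int.ofNat 17⟩, ⟨Int.negSucc 3, Int.negSucc 4⟩, ⟨Int.ofNat 57, Int.ofNat 25⟩, ⟨Int.ofNat 48, Int.ofNat 29⟩, ⟨Int.negSucc 31, Int.negSucc 32⟩, ⟨Int.negSucc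 94, Int.negSucc 7⟩, ⟨Int.ofNat 107, Int.negSucc 86⟩, ⟨Int.negSucc 136, Int.negSucc 40⟩, ⟨Int.negSucc 4, Int.negSucc 62⟩, ⟨Int.negSucc 10, Int.negSucc 84⟩, ⟨Int.negSucc 45, Int.negSucc 30⟩, ⟨Int.negSucc 110, Int.ofNat 14⟩, ⟨Int.ofNat 83, Int.ofNat 27⟩, ⟨Int.ofNat 23, Int.negSucc 45⟩, ⟨Int.negSucc 115, Int.negSucc 31⟩]]

theorem steps_ok : chain steps [] = true := by decide +kernel

theorem steps_good : ∀ s ∈ steps, s.b < 4060 ∧ s.u.length ≤ 28 ∧ (∀ p, v s.b p = fl s.u p) ∧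
    fl s.u (0, 0) = 1 := by decide +kernel

noncomputable def lcomb (l : List Step) : List GaussianInt → RuVec :=
  List.rec (motive := fun _ => List GaussianInt → RuVec) (fun _ => 0)
    (fun s _ ih c => List.rec (motive := fun _ => RuVec) 0
      (fun x c' _ => x • fl s.u + ih c') c) l

theorem lcomb_fix {a : fourRu} {l : List Step}
    (h : ∀ s ∈ l, fl s.u ∈ ruLattice ∧ ap a (fl s.u) = fl s.u) (c : List GaussianInt) :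
    lcomb l c ∈ ruLattice ∧ ap a (lcomb l c) = lcomb l c := by
  induction l generalizing c with
  | nil => exact ⟨zero_mem _, ap_zero a⟩
  | cons s l ih =>
    cases c with
    | nil => exact ⟨zero_mem _, ap_zero a⟩
    | cons x c =>
      obtain ⟨h1, h2⟩ := h s (by simp)
      obtain ⟨h3, h4⟩ := ih (fun t ht => h t (List.mem_cons_of_mem _ ht)) c
      show x • fl s.u + lcomb l c ∈ _ ∧ ap a (x • fl s.u + lcomb l c) = x • fl s.u + lcomb l c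
      exact ⟨add_mem (smul_mem x h1) h3, by rw [ap_add a (smul_mem x h1) h3, ap_smul a x h1, h2, h4]⟩

theorem basis : ∀ p q, lcomb steps (nth cs [] (pos p)) q = if q = p then 4 else 0 := by
  decide +kernel

theorem eq_one {a : fourRu} (h : ∀ s ∈ steps, ap a (v s.b) = v s.b) : a = 1 := by
  have h1 : ∀ p, ap a (v (fr p)) = v (fr p) := by
    intro p
    have e : v (fr p) = lcomb steps (nth cs [] (pos p)) := funext fun q => by rw [v_fr, basis]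
    rw [e]
    refine (lcomb_fix (fun s hs => ?_) _).2
    obtain ⟨g1, -, g3, -⟩ := steps_good s hs
    rw [← funext g3]
    exact ⟨v_mem g1, h s hs⟩
  refine ap_ext fun x hx => funext fun p => ?_
  have e := ap_H a hx (v_mem (fr_lt p))
  rw [h1, H_fr, H_fr] at e
  rw [ap_one]
  exact mul_left_cancel₀ (show (4 : GaussianInt) ≠ 0 by decide) e

theorem scalar_of_fix {a : fourRu} {σ : Perm (Fin 4060)} (h : Rel a σ)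
    (hf : Fix σ ([] ++ steps.map fun s => (s.b, s.u))) : ∃ k : ℕ, iota ^ k * a = 1 := by
  obtain ⟨k, hr, h0⟩ := exists_normal h hf.1
  refine ⟨k, eq_one fun s hs => ?_⟩
  obtain ⟨g1, -, g3, g4⟩ := steps_good s hs
  have := (normal hr h0 (i := ⟨s.b, g1⟩) ((g3 _).trans g4)).2
  rwa [hf.2 (s.b, s.u) (List.mem_map_of_mem (f := fun s : Step => (s.b, s.u)) hs) ⟨s.b, g1⟩ rfl]
    at this

theorem ind_le : ind ≤ G := by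
  intro σ hσ
  obtain ⟨x, hx, e⟩ : ∃ x : Perm (Fin 4060), x ∈ G ∧ x 0 = σ 0 := RuAct.trans (σ 0)
  have := chain_spec steps_ok (fun t ht => by
      obtain ⟨s, hs, rfl⟩ := List.mem_map.1 ht
      exact steps_good s hs) (fun τ ⟨a, ha⟩ hf => by
      obtain ⟨k, hk⟩ := scalar_of_fix ha hf
      have h1 := (rel_iota k).mul ha
      rw [hk, one_mul] at h1
      rw [rel_unique h1 Rel.one]
      exact one_mem _) _ (mul_mem (inv_mem (G_le hx)) hσ)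
    ⟨by rw [Perm.mul_apply, ← e]; simp, fun _ h => absurd h List.not_mem_nil⟩
  simpa using mul_mem hx this

theorem range_eq : φ.range = G := range_φ.trans (le_antisymm ind_le G_le)

theorem ker_eq : φ.ker = Subgroup.zpowers iota := by
  refine le_antisymm (fun a ha => ?_) ?_
  · have h := rel_φ a
    rw [show φ a = 1 from ha] at h
    obtain ⟨k, hk⟩ := scalar_of_fix h ⟨rfl, fun _ _ _ _ => rfl⟩
    rw [eq_inv_of_mul_eq_one_right hk]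
    exact inv_mem (pow_mem (Subgroup.mem_zpowers _) k)
  · rw [Subgroup.zpowers_le]
    exact rel_unique (rel_φ iota) (pow_one iota ▸ rel_iota 1)

theorem G_simple : IsSimpleGroup G := by
  have := RuPerm.H0_simple
  rw [← RuPerm.gens_eq] at this
  exact this

theorem G_card : Nat.card G = 145926144000 := RuPerm.card

theorem center_bot {K : Type*} [Group K] [IsSimpleGroup K] (h : ¬ (Nat.card K).Prime) :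
    Subgroup.center K = ⊥ := by
  refine (Subgroup.Normal.eq_bot_or_eq_top inferInstance).resolve_right fun ht => h ?_
  letI : CommGroup K := { (inferInstance : Group K) with
    mul_comm := fun a b => (Subgroup.mem_center_iff.1 (ht ▸ Subgroup.mem_top b) a) }
  exact IsSimpleGroup.prime_card

theorem center_G : Subgroup.center G = ⊥ := by
  haveI := G_simple
  exact center_bot (by rw [G_card]; norm_num)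

theorem φ_mem (a : fourRu) : φ a ∈ G := range_eq ▸ ⟨a, rfl⟩

theorem center_eq : Subgroup.center fourRu = φ.ker := by
  refine le_antisymm (fun z hz => ?_) ?_
  · have : (⟨φ z, φ_mem z⟩ : G) ∈ Subgroup.center G := by
      rw [Subgroup.mem_center_iff]
      rintro ⟨g, hg⟩
      rw [← range_eq] at hg
      obtain ⟨a, rfl⟩ := hg
      refine Subtype.ext ?_
      show φ a * φ z = φ z * φ a
      rw [← map_mul, ← map_mul, Subgroup.mem_center_iff.1 hz a]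
    rw [center_G] at this
    exact congrArg Subtype.val (Subgroup.mem_bot.1 this)
  · rw [ker_eq, Subgroup.zpowers_le]
    exact pow_one iota ▸ iota_central 1

theorem card_center : Nat.card (Subgroup.center fourRu) = 4 := by
  rw [center_eq, ker_eq, Nat.card_zpowers, order_iota]

/-- the Rudvalis group is the permutation model -/
noncomputable def e : Ru ≃* C.grp gens :=
  ((QuotientGroup.quotientMulEquivOfEq center_eq).trans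
    (QuotientGroup.quotientKerEquivRange φ)).trans (MulEquiv.subgroupCongr range_eq)

theorem iso : Nonempty (Ru ≃* C.grp gens) := ⟨e⟩

theorem card_Ru : Nat.card Ru = 145926144000 := (Nat.card_congr e.toEquiv).trans RuPerm.card

theorem simple_Ru : IsSimpleGroup Ru := by
  haveI : IsSimpleGroup (C.grp gens) := G_simple
  exact e.isSimpleGroup

end CA.RuLink
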