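import Cfsg.Agent.Lib.Spor.Suz3A
import Cfsg.Agent.Lib.Spor.Suz3TC
import Cfsg.Agent.Lib.Spor.J2P
import Cfsg.Agent.Lib.Spor.G24
import Cfsg.Agent.Lib.Fi.LocG
import Cfsg.Agent.S2066

/-! Rank 3 groups of degree 1782: the model. -/

set_option autoImplicit false
set_option Elab.async false
set_option maxRecDepth 100000
set_option linter.all false
set_option maxHeartbeats 800000

namespace CA.Suz3M
open Cfsg Subgroup MulAction CA.CNet CA.CWord CA.CLevel CA.H27Pres CA.CSimple CA.CPoint CA.CLow CA.CPres CA.Fi CA.CBack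
  CA.GBack CA.GOut CA.SuzPerm CA.SuzPres CA.Suz3A CA.CTodd

theorem uniq {Γ : Type*} [Group Γ] (hΓ : Nat.card Γ = 251596800) {J X : Subgroup Γ} (e : J ≃* Spor.J2)
    (hX : Nat.card X = 604800) : ∃ g, ∀ x, g * x * g⁻¹ ∈ X ↔ x ∈ J := by
  have : Finite Γ := Nat.finite_of_card_ne_zero (by omega)
  have := Fact.mk (by decide : Nat.Prime 5)
  have hJ : Nat.card J = 604800 := (Nat.card_congr (e.trans Cfsg.Agent.S2040.eJ.symm).toEquiv).trans Cfsg.Agent.S2040.card
  obtain ⟨Q, hQ⟩ := Sylow.exists_subgroup_card_pow_prime 5 (G := X) (n := 2) (by rw [hX]; decide)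
  obtain ⟨P, hP⟩ := Sylow.exists_subgroup_card_pow_prime 5 (G := J) (n := 2) (by rw [hJ]; decide)
  obtain ⟨g, hg⟩ := exists_conj_mem (by decide) ((card_map_of_injective X.subtype_injective).trans hQ)
    (by rw [hΓ]; decide) ((IsPGroup.of_card hP).map J.subtype)
  let Y := X.comap (MulAut.conj g).toMonoidHom
  have hY : Nat.card Y = 604800 := by
    rw [← card_map_of_injective (f := (MulAut.conj g).toMonoidHom) (MulAut.conj g).injective,
      map_comap_eq_self_of_surjective (MulAut.conj g).surjective, hX]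
  have h1 : P ≤ Y.subgroupOf J := fun y hy => map_subtype_le Q (hg _ (mem_map_of_mem _ hy))
  have h2 : J.index = 416 := by have := J.index_mul_card; rw [hJ] at this; omega
  have h3 : J.relIndex Y ≤ 416 := by
    have := relIndex_le_of_le_right (H := J) (le_top : Y ≤ ⊤) (by rw [relIndex_top_right]; omega)
    rwa [relIndex_top_right, h2] at this
  have h4 := (J.subgroupOf Y).index_mul_card
  have h5 : Nat.card (J.subgroupOf Y) = Nat.card (Y.subgroupOf J) := by
    rw [← card_map_of_injective Y.subtype_injective, ← card_map_of_injective J.subtype_injective,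
      subgroupOf_map_subtype, subgroupOf_map_subtype, inf_comm]
  have h6 := Nat.mul_le_mul_right (Nat.card (Y.subgroupOf J)) h3
  have h7 := J2P.main e (Y.subgroupOf J) (hP ▸ card_dvd_of_le h1) (by rw [h5, hY] at h4; unfold relIndex at h6; omega)
  exact ⟨g, fun x => by rw [eq_of_le_of_card_ge (subgroupOf_eq_top.1 h7) (by omega)]; rfl⟩

theorem hf : GoodG C.g lk := hlk
noncomputable abbrev A : Subgroup (Equiv.Perm (Fin C.n)) := C.grp [[0], [2], [4], [6], [8], [10]]
theorem cardA : Nat.card A = 251596800 :=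
  G24.suz.elim fun e => (Nat.card_congr e.toEquiv).symm.trans Cfsg.Agent.S2102.card
def o : Fin C.n := ⟨0, by decide⟩
def p : Fin C.n := ⟨47, by decide⟩
theorem hA : C.grp gens ⊓ stabilizer _ o = A := stab_of_card (grp_mono _ (by decide)) coset_fix (m := 1782)
  ((Nat.card_congr (Equiv.subtypeUnivEquiv coset_trans)).trans (Nat.card_fin _)).ge (by rw [card, cardA])
noncomputable def okA (k : ℕ) (w : Word) : Bool := band (wlt k w) (mapsP C lk w 0 0)
theorem memA (w : Word) (h : okA 46 w = true) : C.ev w ∈ A :=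
  hA.le ⟨all_mem (wlt_spec (band_iff.1 h).1), Fin.ext (mapsP_spec hlk (p := o) (band_iff.1 h).2)⟩

def z0 : Word := [30,32]
def z1 : Word := [42,35]
def z2 : Word := [30,27,32,4]
def z3 : Word := [28,33,25,33,28,37,44]
def z4 : Word := [36,8,30,26,33,44]
def z5 : Word := [37,14,30,26,40]
def x : Word := [42,8,20,37,22,36,26]
def zs : List Word := [z0, z1, z2, z3, z4, z5]
noncomputable def c0 : Lev := ⟨[[0], [2], [4], [6], [8], [10], [16], [18], [20], [22], [24], [26], [28], [30], [32], [34], [36], [38], [40], [42], [44], [42,8,20,37,22,36,26]], 47, [nat_lit 0x338007f20c00000000007f00000000008000804eeb80200d31802000000000000000000000000006781e72000040000000000000080181fc0d83ce8a80048c000e3fe382258640c000000000000000000000079c81e600100200000000000000703c0fe0611c474e00140c40003f3fc23904d00262800000000000000079803a00600000000000e787fe047474601cc5000cff9d4744250000000001d034530000000247ffe3ae88d25039ffd11100000034694c00001a7ffba44444ff88800001a694800027fd111f10000d240007a2390008000691000000800000000000], [0,6,8,10,12,38,52,54,26,16,2]⟩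
noncomputable def c1 : Lev := ⟨[[30,32], [42,26,36,25,26]], 304, [nat_lit 0x200400000000003800000000000000000081000001108000000000000000000000000000020002620000000000000000000000000c00000800800004000002008020040000000000000000000000000004008600100000000000000000000c0c600008000600000400000111001100400242000000000000000040000200600000000000410622000400200040000410010044210000000001100001000000020201000200000008008000000000200000000008114100000040800000000000000001310011000009000001a2280000000080000000000000000000], [0,2,0,6,2,0,2,4,10,0]⟩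
noncomputable def c2 : Lev := ⟨[[22,30,36,40], [40,21,30,32,36]], 1616, [nat_lit 0x400000000001000000000000000000000000000008000000000000000000000000000000000420000000000000000000000000000000000800000000000000000000000000000000000000000000000008600000000000000000000000c0c00000800000000040000000000100040024000000000000000004000000040000000000001040000040020000000000000000021000000000110000000000000000000000000000000000000000020000000000010000000000080000000000000000100000100000000000002000000000080000000000000000000, nat_lit 0x200000000000002800000000000000000081000001100000000000000000000000000000020002200000000000000000000000000c00000800000004000002008020040000000000000000000000000004000000100000000000000000000000600000000600000000000111000100000002000000000000000000000200200000000000400222000000000040000410010044000000000000000001000000020201000200000008008000000000000000000008014000000040000000000000000000310010000009000001a0280000000000000000000000000000], [0,2,0,4,6,2,10,2,0]⟩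
noncomputable def c3 : Lev := ⟨[[40,20,36,29], [37,31,28,25,29]], 1084, [], [0,2,0,2,4,6,0]⟩
noncomputable def c4 : Lev := ⟨[[42,31,22,36,40,36], [27,29,30,32,37,42]], 1097, [nat_lit 0x80000000000000000000000000000000000000000000000000000000000000000000000000000000000000000000040000000000000000000000000000000000000000000000000000000000000000000000000000000000000000000000000000000000000000000000000000000000000000000000000000000000000000000000000000000000000000000000000000000000000000000000000000000000000000], [0,2]⟩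
noncomputable def c : List Lev := [c0, c1, c2, c3, c4]
theorem c_ch : C.grp (gsOf c) = A ∧ Ch C c := chain hC hf (by decide) cardA
  ((grp_le_iff _).2 fun w hw => memA w (lall_iff.1 (by decide +kernel : lall (gsOf c) (okA 46) = true) w hw)) (by decide +kernel)
noncomputable def d0 : Lev := ⟨[[0], [2], [4], [6], [8], [10], [16], [18], [20], [22], [24], [26], [28], [30], [32], [34], [36], [38], [40], [42], [44]], 47, [nat_lit 0x338007f20c00000000007f00000000008000804eeb80200d31802000000000000000000000000006781e72000040000000000000080181fc0d83ce8a80048c000e3fe382258640c000000000000000000000079c81e600100200000000000000703c0fe0611c474e00140c40003f3fc23904d00262800000000000000079803a00600000000000e787fe047474601cc5000cff9d4744250000000001d034530000000247ffe3ae88d25039ffd11100000034694c00001a7ffba44444ff88800001a694800027fd111f10000d240007a2390008000691000000800000000000], [0,6,8,10,12,38,42,50,20,6,12]⟩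
noncomputable def d1 : Lev := ⟨[[28,33,25,33,28,37,44], [22,21,32,40,44]], 79, [nat_lit 0x200400000000003800000000000000000081000001108000000000000000000000000000020002620000000000000000000000000c00000800800004000002008020040000000000000000000000000004008600100000000000000000000c0c600008000600000400000111001100400242000000000000000040000200600000000000410622000400200040000410010044210000000001100001000000020201000200000008008000000000200000000008114100000040800000000000000001310011000009000001a2280000000080000000000000000000], [0,2,8,0,6,2,10,12,2]⟩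
noncomputable def d2 : Lev := ⟨[[30,32], [42,35]], 880, [], [0,2,0,8,4,6,0,2,0]⟩
noncomputable def d3 : Lev := ⟨[[30,27,32,4], [27,27,37]], 365, [], [0,2,0,4,2,0,2]⟩
noncomputable def d4 : Lev := ⟨[[36,29,37], [28,32,36]], 125, [nat_lit 0x10000000000000000000000000000010000000000000000100000000000000000000000000000000], [0,0]⟩
noncomputable def d : List Lev := [d0, d1, d2, d3, d4]
theorem d_ch : C.grp (gsOf d) = A ∧ Ch C d := chain hC hf (by decide) cardA
  ((grp_le_iff _).2 fun w hw => memA w (lall_iff.1 (by decide +kernel : lall (gsOf d) (okA 46) = true) w hw)) (by decide +kernel)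
noncomputable def hx_0t : GBack.Tr := (.pl [] 0 (.fx [0] (.sy [([42], [0])] [0,0] (nat_lit 0x800000000000) (.cons [] (.pl [] 0 (.sy [([0,0], [0,0,0])] [0,0,0,0,0,0] (nat_lit 0x40000000000000000000000000080000000000000000000000000004000000000000000000000000000000000000000000000000000000000000000800000000000000000000010000000000000000000000000000000000000000000040040000000000004000040000000001000000000000000000000000000000000000000000000000000000000000000000010000000080000000000000000000000100000000000120000000000080000000000000000000) (.bulk [([0], 0, 0), ([0,0,0], 0, 0), ([0,0], 0, 1)] (unp 26 [nat_lit 0x4240404080100c180401080100c280c030502004180c0003010042c080207010041c040004018102404020b01]) (.cons [10,2] (.frc [0,0] 0 (.cons [1,4,1,1] (.frc [1,1] 1 (.bulk [([0], 0, 0)] (unp 18 [nat_lit 0x20701]) .nil))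
  .nil))
  (.cons [] (.frc [0,0] 0 (.cons [] (.frc [1,1] 1 (.cons [] (.frc [0] 1 (.cons [] (.lf 0)
  .nil))
  .nil))
  .nil))
  .nil)))))
  .nil))))
theorem hx_0 : Dd C [z0] [z0] (· ∈ C.grp [x]) c [] (full C.n) :=
  chk_cent hC hf c_ch.2 (by decide +kernel) hx_0t (by decide +kernel)
theorem hx : Dd C [z0] [z0] (· ∈ C.grp [x]) c [] (full C.n) := hx_0
noncomputable def hn_0t : GBack.Tr := (.pl [] 0 (.fx [0] (.fx [4] (.fx [6] (.cons [] (.pl [] 0 (.fx [0] (.fx [4] (.cons [] (.frc [6,5,5,6] 0 (.cons [] (.frc [2] 0 (.bulk [([4], 0, 0)] (unp 1 [nat_lit 0x1]) .nil))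
  .nil))
  .nil))))
  .nil)))))
theorem hn_0 : Dd C [z0, z1, z2, z3] [winv z0, winv z1, winv z2, winv z3] (fun _ => False) d [] (full C.n) :=
  chk_no (zs := []) hC hf d_ch.2 rfl hn_0t (by decide +kernel)
theorem hn : Dd C [z0, z1, z2, z3] [winv z0, winv z1, winv z2, winv z3] (fun _ => False) d [] (full C.n) := hn_0
def low_w5 : List Word := [[33,31,42,35,30,32,30,32,30,32,5,33,26,31]]
theorem low_5 : Low (C.grp low_w5) 3 [1] :=
  low_orb hC hlk 1 (by decide) [(1,0), (1,1)] (m := 3) (grp_mono _ (by decide +kernel))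
    (by decide +kernel) (by decide +kernel) (low_nil C) (by decide)
def low_w4 : List Word := [[33,31,42,35,30,32,30,32,30,32,5,33,26,31], [33,31,42,35,30,32], [5,33,26,31,30,32,30,32,42,35]]
theorem low_4 : Low (C.grp low_w4) 96 [7,1] :=
  low_orb hC hlk 7 (by decide) [(7,2), (7,4), (7,5), (945,0), (945,1), (945,4), (945,5), (1494,0), (1494,1), (1494,2), (1714,0), (1714,1), (1714,2), (647,2), (647,5), (21,2), (1486,2), (1486,4), (820,1), (820,2), (559,4), (1251,2), (1251,4), (1067,0), (1067,4), (987,4), (987,5), (786,4), (786,5), (952,2), (1542,5)] (m := 32) (grp_mono _ (by decide +kernel))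
    (by decide +kernel) (by decide +kernel) low_5 (by decide)
def low_w3 : List Word := [[33,31,42,35,30,32,30,32,30,32,5,33,26,31], [33,31,42,35,30,32], [5,33,26,31,30,32,30,32,42,35], [30,32]]
theorem low_3 : Low (C.grp low_w3) 6048 [5,7,1] :=
  low_orb hC hlk 5 (by decide) [(5,6), (5,7), (1169,1), (1169,2), (1169,4), (1169,5), (1169,6), (1593,2), (1593,4), (1593,5), (1593,7), (716,2), (716,4), (716,5), (716,6), (716,7), (1334,7), (1150,2), (1150,4), (1150,6), (1150,7), (1033,1), (1033,2), (1033,6), (1033,7), (1205,0), (1205,2), (1205,4), (1205,5), (1205,6), (711,0), (711,4), (711,6), (16,0), (16,4), (16,6), (68,6), (68,7), (520,4), (520,5), (520,7), (1519,4), (1519,5), (975,1), (975,2), (947,0), (947,2), (920,1), (1025,2), (1025,7), (1235,4), (1677,2), (1677,7), (677,6), (747,5), (980,5), (1510,0), (1510,7), (1274,1), (1274,7), (1373,4), (1579,5)] (m := 63) (grp_mono _ (by decide +kernel))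
    (by decide +kernel) (by decide +kernel) low_4 (by decide)
def low_w2 : List Word := [[33,31,42,35,30,32,30,32,30,32,5,33,26,31], [33,31,42,35,30,32], [5,33,26,31,30,32,30,32,42,35], [30,32], [28,33,25,33,28,37,44]]
theorem low_2 : Low (C.grp low_w2) 604800 [79,5,7,1] :=
  low_orb hC hlk 79 (by decide) [(79,8), (125,0), (125,1), (125,4), (125,5), (1757,2), (1757,4), (1757,7), (1700,4), (1700,6), (1700,7), (1700,8), (995,1), (995,4), (995,7), (995,8), (689,0), (689,6), (1237,6), (1237,7), (1237,8), (1098,0), (1098,1), (1098,2), (1098,4), (1282,6), (1282,8), (271,0), (271,1), (1465,1), (930,7), (930,8), (176,8), (1247,5), (407,0), (407,1), (1084,6), (1084,8), (653,4), (1445,2), (1445,8), (761,8), (117,0), (117,2), (117,4), (117,5), (1303,8), (473,6), (473,8), (1583,8), (880,0), (880,1), (880,5), (1746,8), (1616,8), (685,4), (685,5), (481,0), (481,1), (481,4), (481,5), (1701,8), (192,8), (323,0), (323,5), (690,8), (900,0), (900,5), (464,4), (464,5), (1449,2), (1449,4), (1449,5), (1449,6), (1449,7), (1257,0),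 (1257,1), (1257,4), (1257,5), (152,4), (638,0), (1315,8), (365,1), (365,4), (365,5), (904,0), (904,5), (1592,4), (1592,5), (512,2), (512,8), (1114,6), (1114,8), (1226,2), (1226,6), (180,5), (618,1), (618,4), (857,6)] (m := 100) (grp_mono _ (by decide +kernel))
    (by decide +kernel) (by decide +kernel) low_3 (by decide)
def low_w1 : List Word := [[33,31,42,35,30,32,30,32,30,32,5,33,26,31], [33,31,42,35,30,32], [5,33,26,31,30,32,30,32,42,35], [30,32], [28,33,25,33,28,37,44], [36,8,30,26,33,44]]
theorem low_1 : Low (C.grp low_w1) 251596800 [47,79,5,7,1] :=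
  low_clo hC hlk 47 (by decide) [10,8,0,4,0,6,0,8,4,10,0,2,8,4,0,4,6,8,4,0] (m := 416) (grp_mono _ (by decide +kernel))
    (by decide +kernel) (by decide +kernel) low_2 (by decide)
theorem low : Low (C.grp zs) 448345497600 [0,47,79,5,7,1] :=
  low_clo hC hlk 0 (by decide) [10,8,6,4,0,4,0,0,6,2,4,8,0,6,10,4,8,6,2,4,10,0,8,6,4,2,8,0,6] (m := 1782) (le_of_subst _ [[1,2,0,0,0,5], [1,2,0], [5,0,0,2], [0], [6], [8]] (by decide +kernel))
    (by decide +kernel) (by decide +kernel) low_1 (by decide)
theorem hz : lall zs (wlt 46) = true := by decide +kernel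
theorem zS (i : ℕ) : C.ev (nth zs [] i) ∈ C.grp gens :=
  (grp_le_iff _).2 (fun w hw => all_mem (wlt_spec (lall_iff.1 hz w hw))) (nth_mem_grp _ zs i)
noncomputable def m (i : ℕ) : A := ⟨C.ev (nth [z0, z1, z2, z3, z4] [] i),
  (grp_le_iff _).2 (fun w hw => memA w (lall_iff.1 (by decide +kernel) w hw)) (nth_mem_grp _ _ i)⟩
noncomputable def J : Subgroup A := (stabilizer _ p).subgroupOf A
theorem memJ {u : A} : u ∈ J ↔ u.1 p = p := Iff.rfl
theorem cardJ : Nat.card J = 604800 := by
  have h := card_eq_orbit_mul A p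
  have h1 : C.ev [12,2,4,6,4,2,12] ⟨0, by decide⟩ = p := Fin.ext (mapsP_spec hlk (q := 47) (by decide +kernel))
  have h2 := orb416
  rw [h1] at h2
  rw [cardA, show Nat.card {i // ∃ x ∈ A, x • p = i} = 416 from h2] at h
  rw [J, ← card_map_of_injective A.subtype_injective, subgroupOf_map_subtype, inf_comm]; omega
theorem j2 : Nonempty (J ≃* Spor.J2) := by
  obtain ⟨e⟩ := G24.suz
  obtain ⟨f⟩ := G24.j2
  have hle := H22Link.sg_le Cfsg.Agent.S2102.C.g (by decide : 5 ≤ 6)
  let f1 := ((e.subgroupMap _).symm.trans (subgroupOfEquivOfLe hle)).trans f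
  obtain ⟨g, hg⟩ := uniq cardA f1 cardJ
  exact ⟨((MulEquiv.subgroupCongr (Subgroup.ext fun y => Iff.trans (by
    rw [← hg]; simp [mul_assoc]) (mem_map_equiv (f := MulAut.conj g)).symm)).trans ((MulAut.conj g).subgroupMap _).symm).trans f1⟩
theorem hrel : lall Suz3TC.rels (fun r => C.eqW (subst zs r) []) = true := by decide +kernel
theorem rel (r : Word) (h : r ∈ Suz3TC.rels) : ev (fun i => C.ev (nth zs [] i)) r = 1 :=
  (ev_subst _ _ _).symm.trans (Ctx.eq_of_eqW hC (lall_iff.1 hrel r h))
theorem mz (i : ℕ) (hi : i < 5) : C.ev (nth zs [] i) = m i :=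
  congrArg C.ev ((by decide : ∀ i < 5, nth zs [] i = nth [z0, z1, z2, z3, z4] [] i) i hi)
theorem rel2 (i : ℕ) (h : [2 * i, 2 * i] ∈ Suz3TC.rels) : C.ev (nth zs [] i) * C.ev (nth zs [] i) = 1 := by
  simpa only [ev_cons, ev_nil, mul_one, lv_even] using rel _ h
theorem rel4 (i j : ℕ) (h : [2 * i, 2 * j, 2 * i, 2 * j] ∈ Suz3TC.rels) :
    C.ev (nth zs [] i) * (C.ev (nth zs [] j) * (C.ev (nth zs [] i) * C.ev (nth zs [] j))) = 1 := by
  simpa only [ev_cons, ev_nil, mul_one, lv_even] using rel _ h
theorem mv (w : Word) (a b : Fin C.n) (h : mapsP C lk w a b = true) : C.ev w a = b := Fin.ext (mapsP_spec hlk h)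
theorem mJ : ∀ i < 4, m i ∈ J := fun i hi => mv _ p p (by revert i; decide +kernel)
theorem inv_of {G : Type*} [Group G] {t a : G} (h : t * t = 1) (h' : t * (a * (t * a)) = 1) : t * a * t⁻¹ = a⁻¹ := by
  rw [inv_eq_of_mul_eq_one_right h, eq_inv_iff_mul_eq_one, mul_assoc, mul_assoc, h']

theorem out (θ : MulAut J) : ∃ j ∈ J, (∀ x : J, (θ x : A) = j * x * j⁻¹) ∨
    ∀ i (hi : i < 4), (θ ⟨m i, mJ i hi⟩ : A) = j * (m i)⁻¹ * j⁻¹ := by
  have h0 : C.ev z5 o = p := mv _ _ _ (by decide +kernel)
  have h1 : C.ev z5 p = o := mv _ _ _ (by decide +kernel)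
  obtain ⟨σ, hσ⟩ := aut_of_norm A.subtype_injective J (t := C.ev z5) (by
    rw [J, subgroupOf_map_subtype, ← hA]
    refine mem_normalizer_fintype fun g hg => ⟨?_, (C.grp gens).mul_mem (mul_mem (zS 5) hg.2.1) (inv_mem (zS 5)), ?_⟩
    · show C.ev z5 (g ((C.ev z5)⁻¹ p)) = p
      rw [Equiv.Perm.inv_eq_iff_eq.2 h0.symm, show g o = o from hg.2.2, h0]
    · show C.ev z5 (g ((C.ev z5)⁻¹ o)) = o
      rw [Equiv.Perm.inv_eq_iff_eq.2 h1.symm, show g p = p from hg.1, h1])
  have h2 : ∀ i (hi : i < 4), σ ⟨m i, mJ i hi⟩ = ⟨m i, mJ i hi⟩⁻¹ := fun i hi => Subtype.ext (Subtype.ext ((hσ _).trans (by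
    have b := rel4 5 i ((by decide : ∀ i < 4, [2 * 5, 2 * i, 2 * 5, 2 * i] ∈ Suz3TC.rels) i hi)
    rw [mz i (by omega)] at b
    exact inv_of (rel2 5 (by decide)) b)))
  have h3 : (σ : Out J) ≠ 1 := fun h => by
    obtain ⟨j, hj⟩ := (QuotientGroup.eq_one_iff _).1 h
    have k := fun i (hi : i < 4) => congrArg (fun y : J => y.1.1) ((DFunLike.congr_fun hj _).trans (h2 i hi))
    exact Dd.all d_ch.2 hn (d_ch.1.ge j.1.2) (st_cons ((k 0 (by decide)).trans (ev_winv _ _).symm)
      (st_cons ((k 1 (by decide)).trans (ev_winv _ _).symm) (st_cons ((k 2 (by decide)).trans (ev_winv _ _).symm)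
        (st_one.2 ((k 3 (by decide)).trans (ev_winv _ _).symm)))))
  have h4 : Nat.card (Out J) = 2 := j2.elim fun e => (CGOut.card_out_congr e).symm.trans Cfsg.Agent.S2066.result
  by_cases h : (θ : Out J) = 1
  · obtain ⟨j, hj⟩ := (QuotientGroup.eq_one_iff _).1 h
    exact ⟨j, j.2, Or.inl fun x => by rw [← hj]; rfl⟩
  · obtain ⟨y, -, hy⟩ := (Nat.card_eq_two_iff' (1 : Out J)).1 h4
    obtain ⟨j, hj⟩ := QuotientGroup.eq_iff_div_mem.1 ((hy _ h).trans (hy _ h3).symm)
    refine ⟨j, j.2, Or.inr fun i hi => ?_⟩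
    rw [← div_mul_cancel θ σ, ← hj, MulAut.mul_apply, h2 i hi]; rfl

theorem m0 : (m 0).1 = C.ev z0 := (mz 0 (by decide)).symm
theorem m1 : (m 1).1 = C.ev z1 := (mz 1 (by decide)).symm
theorem m2 : (m 2).1 = C.ev z2 := (mz 2 (by decide)).symm
theorem m4 : (m 4).1 = C.ev z4 := (mz 4 (by decide)).symm
theorem x21 : C.ev x ^ 21 = 1 := (ev_wpow _ _ _).symm.trans (Ctx.eq_of_eqW hC (v := []) (by decide +kernel))
theorem c21 (h : A) (e : Commute h (m 0)) : ∃ i < 21, C.ev x ^ i = h := by
  have e' : h.1 * (m 0).1 = (m 0).1 * h.1 := congrArg Subtype.val e.eq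
  rw [m0] at e'
  exact LocG.exists_pow x21 (by decide) ((grp_le_iff (H := zpowers (C.ev x)) _).2 (fun w hw => by
    rw [List.mem_singleton.1 hw]; exact mem_zpowers _) (Dd.all c_ch.2 hx (c_ch.1.ge h.2)
      (st_one.2 (mul_inv_eq_iff_eq_mul.2 e'))))
theorem fix (h : A) (hh : ∀ i < 3, h⁻¹ * m i * h ∈ J) : h ∈ J ∨ (m 4)⁻¹ * h ∈ J := by
  have k : ∀ i < 3, ∀ w, (m i).1 = C.ev w → (fixM C w).testBit (h.1 p) = true := fun i hi w e =>
    (testBit_fixM hC _ _).2 (e ▸ Equiv.Perm.inv_eq_iff_eq.1 (show h.1⁻¹ ((m i).1 (h.1 p)) = p from hh i hi))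
  have := mem_mkS (sub_spec (show sub (Nat.land (fixM C z0) (Nat.land (fixM C z1) (fixM C z2))) (mkS [0, 47, 79] 0) = true
    by decide +kernel) (land_bit (k 0 (by decide) _ m0) (land_bit (k 1 (by decide) _ m1) (k 2 (by decide) _ m2))))
  simp only [List.mem_cons, List.not_mem_nil, or_false] at this
  rcases this with e | e | e
  · exact absurd (h.1.injective ((Fin.ext e : h.1 p = o).trans (hA.ge h.2).2.symm)) (by decide)
  · exact Or.inl (Fin.ext e)
  · refine Or.inr ?_
    rw [memJ, coe_mul, coe_inv, m4, Equiv.Perm.mul_apply]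
    exact Equiv.Perm.inv_eq_iff_eq.2 (Fin.ext (e.trans (mapsP_spec hlk (p := p) (by decide +kernel)).symm))
theorem s2 : (m 4).1 * (m 4).1 = 1 := mz 4 (by decide) ▸ rel2 4 (by decide)
theorem sJ (h : m 4 ∈ J) : False := by
  rw [memJ, m4] at h
  exact absurd ((mapsP_spec hlk (p := p) (q := 79) (by decide +kernel)).symm.trans (congrArg Fin.val h)) (by decide)
theorem sU (i : ℕ) (hi : i < 3) : (m 4).1 * (m i).1 * ((m 4).1)⁻¹ = ((m i).1)⁻¹ := by
  have b := rel4 i 4 ((by decide : ∀ i < 3, [2 * i, 2 * 4, 2 * i, 2 * 4] ∈ Suz3TC.rels) i hi)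
  rw [mz i (by omega), mz 4 (by omega), mul_eq_one_comm, mul_assoc, mul_assoc] at b
  exact inv_of s2 b
theorem o7 : orderOf (m 0) = 7 := by
  have := Fact.mk (by decide : Nat.Prime 7)
  rw [← orderOf_coe, m0]
  exact orderOf_eq_prime ((ev_wpow C.g z0 7).symm.trans (Ctx.eq_of_eqW hC (v := []) (by decide +kernel)))
    (Ctx.ne_one_of_moves hC (p := 1) (by decide) (by decide +kernel))
theorem cU (h : A) (e : ∀ i < 3, Commute h (m i)) : h = 1 := by
  obtain ⟨i, hi, e1⟩ := c21 h (e 0 (by decide))
  have e' : h.1 * (m 2).1 = (m 2).1 * h.1 := congrArg Subtype.val (e 2 (by decide)).eq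
  rcases (by decide +kernel : ∀ i < 21, i = 0 ∨ Nat.beq (im lk (lapp (wpow x i) z2) 1) (im lk (lapp z2 (wpow x i)) 1)
    = false) i hi with rfl | h1
  · exact Subtype.ext (e1.symm.trans (pow_zero _))
  · refine absurd ((hf.im_eq _ ⟨1, by decide⟩).trans (Eq.trans ?_ (hf.im_eq _ ⟨1, by decide⟩).symm))
      (Nat.ne_of_beq_eq_false h1)
    rw [m2, ← e1] at e'
    rw [ev_lapp, ev_lapp, ev_wpow, e']

theorem mod : Mod m J :=
  ⟨cardA, mJ, fun X hX => j2.elim fun e => uniq cardA e hX, out, fix, Subtype.ext ((coe_mul _ _ _).trans s2), sJ, fun i hi => Subtype.ext (sU i hi),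
    o7, fun h e => (c21 h e).elim fun i e => Subtype.ext (show h.1 ^ 21 = 1 by
      rw [← e.2, ← pow_mul, mul_comm, pow_mul, x21, one_pow]), cU⟩

theorem main {G Ω : Type*} [Group G] [MulAction G Ω] [Finite Ω] [Finite G] [IsPretransitive G Ω] (hΩ : Nat.card Ω = 1782)
    {a b c : Ω} (hb : (orbit (stabilizer G a) b).ncard = 416) (hc : (orbit (stabilizer G a) c).ncard = 1365)
    (e : A ≃* stabilizer G a) : Spor.IsoSuz G := by
  obtain ⟨ψ, t, hψ, h1, h2, h3⟩ := core hΩ hb hc mod e
  have := SuzPres.simple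
  let γ : ℕ → G := fun i => if i < 5 then ψ (m i) else t
  let δ : ℕ → C.grp gens := fun i => ⟨_, zS i⟩
  have d : ∀ w, (ev δ w).1 = ev (fun i => C.ev (nth zs [] i)) w := map_ev (C.grp gens).subtype _
  have hle : A ≤ C.grp gens := grp_mono _ (by decide)
  refine Nonempty.elim (iso_of_idx Suz3TC.idx (γ := γ) (δ := δ) (fun r hr => ?_) (fun r hr => Subtype.ext ((d r).trans (rel r hr)))
    (eq_top_of_card_eq _ (le_antisymm (card_le_card_group _) ?_)) ?_ ?_)
    fun f => equiv.elim fun g => ⟨f.trans g.symm⟩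
  · rcases List.mem_append.1 hr with h | h
    · have hl := (by decide : ∀ r ∈ Suz3TC.RH, ∀ a ∈ r, a < 2 * 5) r h
      rw [ev_congr (g' := fun i => ψ (m i)) (fun i hi => if_pos hi) hl, ← map_ev, ← map_one ψ]
      exact congrArg ψ (Subtype.ext ((map_ev A.subtype _ _).trans
        ((ev_congr (fun i hi => (mz i hi).symm) hl).trans (rel r hr))))
    · have k : ∀ i < 4, t * (ψ (m i) * (t * ψ (m i))) = 1 := fun i hi => by
        rw [← mul_assoc, ← mul_assoc, ← eq_inv_iff_mul_eq_one, ← h2 i hi, inv_eq_of_mul_eq_one_right h1]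
      simp only [List.mem_cons, List.not_mem_nil, or_false] at h
      rcases h with rfl | rfl | rfl | rfl | rfl | rfl
      exacts [by simpa [lv, γ] using h1, by simpa [lv, γ] using k 0 (by decide), by simpa [lv, γ] using k 1 (by decide),
        by simpa [lv, γ] using k 2 (by decide), by simpa [lv, γ] using k 3 (by decide),
        by simpa [lv, γ, pow_succ, mul_assoc] using h3]
  · rw [card, ← card_map_of_injective (C.grp gens).subtype_injective, map_grp]
    exact low.1.trans (congrArg (fun X : Subgroup _ => Nat.card X) (grp_lmap_subst C.g zs [[0], [2], [4], [6], [8], [10]])).le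
  · have k1 : grp (fun i => (γ i, δ i)) [[0], [2], [4], [6], [8]] ≤ (ψ.prod (inclusion hle)).range :=
      (grp_le_iff _).2 fun w hw => ev_mem_of_lt (k := 5) (fun i hi => MonoidHom.mem_range.2 ⟨m i, Prod.ext (if_pos hi).symm
        (Subtype.ext ((mz i hi).symm))⟩) ((by decide : ∀ w ∈ [[0], [2], [4], [6], [8]], ∀ a ∈ w, a < 2 * 5) w hw)
    have k2 := (card_le_of_le k1).trans (Nat.card_le_card_of_surjective _ (MonoidHom.rangeRestrict_surjective _))
    have k3 := Nat.le_of_dvd Nat.card_pos ((grp γ [[0], [2], [4], [6], [8], [10]]).orderOf_dvd_natCard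
      (mem_grp γ (w := [2 * 0]) (by decide)))
    rw [ev_gen, show γ 0 = ψ (m 0) from rfl, orderOf_injective ψ hψ, mod.o7] at k3
    rw [cardA] at k2
    rw [card]; omega
  · rw [← (stabilizer G a).index_mul_card, index_stabilizer_of_transitive, hΩ, ← Nat.card_congr e.toEquiv, cardA, card]

end CA.Suz3M
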