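/-
Extensions of `M23` by modules built from the permutation module: tails of rewriting rules, linear relations
between them, splitting.
-/
import Cfsg.Agent.Lib.Spor.M24Iso
import Cfsg.Agent.S0051

namespace CA.Tails

open Cfsg CA.NatBits CA.OrbBfs CA.CGroup CA.CGConstr CA.CGParts CA.CGCert CA.Perm24 CA.Golay
open CA.M24Core CA.M24Sub CA.M24Tools MulAction
open scoped Pointwise

abbrev W := GolayPt → ZMod 2

/-- sum of the coordinates in a mask -/
def ip (m : ℕ) (u : W) : ZMod 2 := ∑ p ∈ ds m, u p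

theorem ip_add (m : ℕ) (u v : W) : ip m (u + v) = ip m u + ip m v := Finset.sum_add_distrib

theorem ip_zero (m : ℕ) : ip m 0 = 0 := Finset.sum_const_zero

theorem ip_smul (m : ℕ) (c : ZMod 2) (u : W) : ip m (c • u) = c * ip m u := (Finset.mul_sum _ _ _).symm

theorem ip_mod (m : ℕ) (u : W) : ip (m % 2 ^ 24) u = ip m u := congrArg (fun s => ∑ p ∈ s, u p) (gE.ds_mod m)

theorem ip_img {c : ℕ} {g : M24} (h : mG.R c g) (m : ℕ) (u : W) :
    ip m (fun p => u (g • p)) = ip (img24 c m) u := by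
  rw [ip, ip, ← R_ds h, Finset.smul_finset_def, Finset.sum_image fun a _ b _ e => MulAction.injective g e]

theorem ip_eq (m : ℕ) (u : W) : ip m u = ∑ i ∈ Finset.range 24, if m.testBit i then u (gpt i) else 0 := by
  rw [← Finset.sum_filter, ip]
  refine Finset.sum_bij' (fun p _ => gix p) (fun i _ => gpt i) (fun p hp => ?_) (fun i hi => ?_)
    (fun p _ => gE.pt_ix p) (fun i hi => gE.ix_pt i (Finset.mem_range.1 (Finset.mem_filter.1 hi).1))
    (fun p _ => congrArg u (gE.pt_ix p).symm)
  · exact Finset.mem_filter.2 ⟨Finset.mem_range.2 (gE.ix_lt p), gE.mem_ds.1 hp⟩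
  · exact (gE.pt_mem_ds (Finset.mem_range.1 (Finset.mem_filter.1 hi).1)).2 (Finset.mem_filter.1 hi).2

theorem ip_xor (a b : ℕ) (u : W) : ip (Nat.xor a b) u = ip a u + ip b u := by
  rw [ip_eq, ip_eq, ip_eq, ← Finset.sum_add_distrib]
  refine Finset.sum_congr rfl fun i _ => ?_
  rw [show Nat.xor a b = a ^^^ b from rfl, Nat.testBit_xor]
  cases a.testBit i <;> cases b.testBit i <;> simp [CharTwo.add_self_eq_zero]

theorem ip_wd (m : ℕ) {b : ℕ} (hb : b < 2 ^ 24) : ip m (wd b) = pc24 (Nat.land m b) := by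
  rw [← card_inter' m hb, ip, ← Finset.filter_mem_eq_inter, Finset.card_filter]
  push_cast
  exact Finset.sum_congr rfl fun p _ => by simp only [wd, gE.mem_ds]

/-- value of a row at the unknown vectors; the lowest 64 bits of a row are ignored -/
def dot (B : ℕ) (w : ℕ → W) (row : ℕ) : ZMod 2 :=
  ∑ i ∈ Finset.range B, if row.testBit (i + 64) then w (i / 24) (gpt (i % 24)) else 0

variable {B : ℕ} {w : ℕ → W}

theorem dot_zero : dot B w 0 = 0 := by simp [dot]

theorem dot_small {a : ℕ} (h : Nat.beq (Nat.shiftRight a 64) 0 = true) : dot B w a = 0 := by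
  refine Finset.sum_eq_zero fun i _ => if_neg ?_
  rw [add_comm, ← Nat.testBit_shiftRight, show a >>> 64 = 0 from beq_iff.1 h]
  simp

theorem dot_xor (a b : ℕ) : dot B w (Nat.xor a b) = dot B w a + dot B w b := by
  rw [dot, dot, dot, ← Finset.sum_add_distrib]
  refine Finset.sum_congr rfl fun i _ => ?_
  rw [show Nat.xor a b = a ^^^ b from rfl, Nat.testBit_xor]
  cases a.testBit (i + 64) <;> cases b.testBit (i + 64) <;> simp [CharTwo.add_self_eq_zero]

theorem dot_add (w' : ℕ → W) (a : ℕ) : dot B (w + w') a = dot B w a + dot B w' a := by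
  rw [dot, dot, dot, ← Finset.sum_add_distrib]
  refine Finset.sum_congr rfl fun i _ => ?_
  cases a.testBit (i + 64) <;> simp

theorem dot_mul (n f : ℕ) : dot B w (Nat.mul (Nat.mod n 2) f) = n * dot B w f := by
  rw [show Nat.mul (Nat.mod n 2) f = n % 2 * f from rfl, ← ZMod.natCast_mod n 2]
  rcases Nat.mod_two_eq_zero_or_one n with h | h <;> simp [h, dot_zero]

theorem dot_congr {w' : ℕ → W} {R f : ℕ} (h : ∀ r < R, w r = w' r) (hf : f < 2 ^ (24 * R + 64)) :
    dot B w f = dot B w' f := by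
  refine Finset.sum_congr rfl fun i _ => ?_
  by_cases hi : f.testBit (i + 64)
  · have : i + 64 < 24 * R + 64 := by
      by_contra hc
      rw [Nat.testBit_lt_two_pow (hf.trans_le (Nat.pow_le_pow_right two_pos (not_lt.1 hc)))] at hi
      exact absurd hi (by simp)
    rw [h _ (by omega)]
  · simp [hi]

/-- a mask placed in block `r` -/
def blk (r m : ℕ) : ℕ := Nat.xor (Nat.shiftLeft (Nat.mod m 16777216) (Nat.add (Nat.mul 24 r) 64))
  (Nat.mod (Nat.mul (Nat.mul m (Nat.add m r)) 11400714819323198485) 18446744073709551616)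

theorem dot_blk {R r : ℕ} (hr : r < R) (m : ℕ) : dot (24 * R) w (blk r m) = ip m (w r) := by
  rw [← ip_mod, ip_eq, dot]
  have e : ∀ i, (blk r m).testBit (i + 64) = (decide (i ≥ 24 * r) && (m % 2 ^ 24).testBit (i - 24 * r)) := fun i => by
    have h1 : (m * (m + r) * 11400714819323198485 % 2 ^ 64).testBit (i + 64) = false :=
      Nat.testBit_lt_two_pow ((Nat.mod_lt _ (by norm_num)).trans_le (Nat.pow_le_pow_right two_pos (by omega)))
    show ((m % 2 ^ 24) <<< (24 * r + 64) ^^^ m * (m + r) * 11400714819323198485 % 2 ^ 64).testBit _ = _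
    rw [Nat.testBit_xor, h1, Bool.xor_false, Nat.testBit_shiftLeft, Nat.add_sub_add_right]
    simp
  refine (Finset.sum_of_injOn (fun j => 24 * r + j) (fun a _ b _ h => Nat.add_left_cancel h) (fun j hj => ?_)
    (fun i _ hi => ?_) (fun j hj => ?_)).symm
  · have := Finset.mem_range.1 hj
    exact Finset.mem_range.2 (show 24 * r + j < 24 * R by omega)
  · rw [e, if_neg]
    simp only [ge_iff_le, Bool.and_eq_true, decide_eq_true_eq, not_and, Bool.not_eq_true]
    refine fun h => Nat.testBit_lt_two_pow ((Nat.mod_lt _ (by norm_num)).trans_le (Nat.pow_le_pow_right two_pos ?_))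
    by_contra hc
    exact hi ⟨i - 24 * r, by simp only [Finset.coe_range, Set.mem_Iio]; omega, by simp only; omega⟩
  · rw [Finset.mem_range] at hj
    rw [e, Nat.add_sub_cancel_left, show (24 * r + j) / 24 = r by omega, show (24 * r + j) % 24 = j by omega]
    simp

/-- an extension of `M23` whose kernel is described by vectors of the permutation module -/
structure XE (E : Type*) [Group E] (F Ub : List ℕ) (nrm : ℕ → ℕ) where
  π : E →* M24
  Rep : E → W → Prop
  range : π.range = stabilizer M24 (none : GolayPt)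
  one : Rep 1 0
  mul : ∀ {a b u v}, Rep a u → Rep b v → Rep (a * b) (u + v)
  cj : ∀ (g) {a u}, Rep a u → Rep (g * a * g⁻¹) fun p => u ((π g)⁻¹ • p)
  ex : ∀ {a}, π a = 1 → ∃ u, Rep a u
  ker : ∀ {a u}, Rep a u → π a = 1
  eq : ∀ {a b u v}, Rep a u → Rep b v → (a = b ↔ ∀ m ∈ F, ip m u = ip m v)
  con : ∀ {a u}, Rep a u → ∀ m, ip (nrm m) u = ip m u
  of : ∀ b ∈ Ub, ∃ a, Rep a (wd b)

/-- value of a word -/
def ev {E : Type*} [Group E] (l : ℕ → E) (x : List ℕ) : E := (x.map l).prod

theorem ev_append {E : Type*} [Group E] (l : ℕ → E) (x y : List ℕ) : ev l (x ++ y) = ev l x * ev l y := by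
  simp [ev]

/-- evaluate a list -/
noncomputable def fL {β : Type} (l : List ℕ) : (List ℕ → β) → β :=
  List.rec (motive := fun _ => (List ℕ → β) → β) (fun k => k [])
    (fun a _ ih k => force a fun a => ih fun r => k (a :: r)) l

theorem fL_eq {β : Type} (l : List ℕ) (k : List ℕ → β) : fL l k = k l := by
  induction l generalizing k with
  | nil => rfl
  | cons a l ih => exact ih _

/-- code of a word -/
noncomputable def evc (gc : ℕ → ℕ) (x : List ℕ) : ℕ :=
  List.rec (motive := fun _ => ℕ) id24 (fun a _ ih => force ih fun r => force (gc a) fun c => mul24 c r) x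

theorem evc_cons (gc : ℕ → ℕ) (a : ℕ) (x : List ℕ) : evc gc (a :: x) = mul24 (gc a) (evc gc x) := by
  unfold evc; simp only [force_eq]

section run
variable (F : List ℕ) (nrm gc : ℕ → ℕ) (ru : ℕ → List ℕ × List ℕ) (R : ℕ)

/-- apply the rules, keeping track of the tails; a step is `128 * position + rule` -/
noncomputable def run (d : List ℕ) : List ℕ → List ℕ → (List ℕ → List ℕ → Bool) → Bool :=
  List.rec (motive := fun _ => List ℕ → List ℕ → (List ℕ → List ℕ → Bool) → Bool) (fun x acc k => k x acc)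
    (fun s _ ih x acc k => force (Nat.div s 128) fun p => force (Nat.mod s 128) fun r =>
      fL (ru r).1 fun l => fL (x.take p) fun a => fL (x.drop p) fun b =>
      Nat.ble (Nat.succ r) R && decide (b.take l.length = l) && force (evc gc a) fun c => force (inv24 c) fun c =>
        fL (a ++ ((ru r).2 ++ b.drop l.length)) fun x' =>
          fL (List.zipWith (fun m row => Nat.xor row (blk r (force (img24 c m) nrm))) F acc) fun acc' => ih x' acc' k) d

theorem run_cons (s : ℕ) (d x acc : List ℕ) (k : List ℕ → List ℕ → Bool) : run F nrm gc ru R (s :: d) x acc k =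
    (Nat.ble (Nat.succ (Nat.mod s 128)) R && decide ((x.drop (Nat.div s 128)).take (ru (Nat.mod s 128)).1.length =
      (ru (Nat.mod s 128)).1) && run F nrm gc ru R d (x.take (Nat.div s 128) ++ ((ru (Nat.mod s 128)).2 ++
        (x.drop (Nat.div s 128)).drop (ru (Nat.mod s 128)).1.length)) (List.zipWith (fun m row => Nat.xor row
          (blk (Nat.mod s 128) (nrm (img24 (inv24 (evc gc (x.take (Nat.div s 128)))) m)))) F acc) k) := by
  unfold run; simp only [fL_eq, force_eq]

/-- two words rewritten to the same word -/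
noncomputable def cmp (t : (List ℕ × List ℕ) × List ℕ × List ℕ) (k : List ℕ → Bool) : Bool :=
  run F nrm gc ru R t.2.1 t.1.1 (F.map fun _ => 0) fun x a => run F nrm gc ru R t.2.2 t.1.2 (F.map fun _ => 0)
    fun y b => decide (x = y) && fL (List.zipWith Nat.xor a b) k

end run

/-- reduce a row -/
noncomputable def red (bs : List (ℕ × ℕ)) (v : ℕ) : ℕ :=
  List.rec (motive := fun _ => ℕ) v (fun p _ ih => force ih fun r =>
    Bool.rec (motive := fun _ => ℕ) (Nat.xor r p.2) r (Nat.beq (Nat.land r p.1) 0)) bs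

noncomputable def piv (r : ℕ) : ℕ :=
  force (Nat.shiftRight r 64) fun s => Nat.shiftLeft (Nat.land s (Nat.xor s (Nat.sub s 1))) 64

/-- add rows to the basis -/
noncomputable def ins (l : List ℕ) : List (ℕ × ℕ) → (List (ℕ × ℕ) → Bool) → Bool :=
  List.rec (motive := fun _ => List (ℕ × ℕ) → (List (ℕ × ℕ) → Bool) → Bool) (fun bs k => k bs)
    (fun v _ ih bs k => force (red bs v) fun r => Bool.rec (motive := fun _ => Bool)
      (force (piv r) fun p => ih ((p, r) :: bs) k) (ih bs k) (Nat.beq (Nat.shiftRight r 64) 0)) l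

def Val (B : ℕ) (w : ℕ → W) (bs : List (ℕ × ℕ)) : Prop := ∀ p ∈ bs, dot B w p.2 = 0

theorem dot_red {bs : List (ℕ × ℕ)} (h : Val B w bs) (v : ℕ) : dot B w (red bs v) = dot B w v := by
  induction bs with
  | nil => rfl
  | cons p bs ih =>
    have h1 := ih fun q hq => h q (List.mem_cons_of_mem _ hq)
    show dot B w (Bool.rec (motive := fun _ => ℕ) (Nat.xor (red bs v) p.2) (red bs v)
      (Nat.beq (Nat.land (red bs v) p.1) 0)) = _
    cases Nat.beq (Nat.land (red bs v) p.1) 0
    · show dot B w (Nat.xor _ _) = _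
      rw [dot_xor, h p List.mem_cons_self, add_zero, h1]
    · exact h1

theorem ins_spec {l : List ℕ} (hl : ∀ v ∈ l, dot B w v = 0) {bs : List (ℕ × ℕ)} (h : Val B w bs)
    {k : List (ℕ × ℕ) → Bool} (hk : ins l bs k = true) : ∃ bs', Val B w bs' ∧ k bs' = true := by
  induction l generalizing bs with
  | nil => exact ⟨bs, h, hk⟩
  | cons v l ih =>
    have hk' : Bool.rec (motive := fun _ => Bool) (ins l ((piv (red bs v), red bs v) :: bs) k) (ins l bs k)
      (Nat.beq (Nat.shiftRight (red bs v) 64) 0) = true := hk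
    have hl' : ∀ v ∈ l, dot B w v = 0 := fun v hv => hl v (List.mem_cons_of_mem _ hv)
    cases e : Nat.beq (Nat.shiftRight (red bs v) 64) 0 <;> rw [e] at hk'
    · refine ih hl' (fun p hp => ?_) hk'
      rcases List.mem_cons.1 hp with rfl | hp
      · exact (dot_red h v).trans (hl v List.mem_cons_self)
      · exact h p hp
    · exact ih hl' h hk'

variable {E : Type*} [Group E] {F Ub : List ℕ} {nrm gc : ℕ → ℕ} {ru : ℕ → List ℕ × List ℕ} {R : ℕ}
  (X : XE E F Ub nrm) {l : ℕ → E}

theorem R_evc (hg : ∀ i, mG.R (gc i) (X.π (l i))) (x : List ℕ) : mG.R (evc gc x) (X.π (ev l x)) := by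
  induction x with
  | nil => rw [show ev l [] = 1 from rfl, map_one]; exact R_one
  | cons a x ih => rw [show ev l (a :: x) = l a * ev l x by simp [ev], map_mul, evc_cons]; exact R_mul (hg a) ih

theorem R_inv24 {a : ℕ} {g : M24} (h : mG.R a g) : mG.R (inv24 a) g⁻¹ := by
  have := mG.R_inv h; rwa [mG_inv] at this

theorem f2_step {u v : W} {acc : List ℕ} (h : List.Forall₂ (fun m row => ip m u = dot B w row) F acc) (f : ℕ → ℕ)
    (hf : ∀ m, ip m v = dot B w (f m)) : List.Forall₂ (fun m row => ip m (u + v) = dot B w row) F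
      (List.zipWith (fun m row => Nat.xor row (f m)) F acc) := by
  induction h with
  | nil => exact .nil
  | cons h _ ih => exact .cons (by rw [ip_add, dot_xor, h, hf]) ih

theorem f2_cmp {u v : W} {a b : List ℕ} (h : List.Forall₂ (fun m row => ip m u = dot B w row) F a)
    (h' : List.Forall₂ (fun m row => ip m v = dot B w row) F b) :
    (∀ m ∈ F, ip m u = ip m v) ↔ ∀ x ∈ List.zipWith Nat.xor a b, dot B w x = 0 := by
  induction h generalizing b with
  | nil => simp
  | cons h7 _ ih =>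
    cases h' with
    | cons h8 h9 =>
      rw [List.zipWith_cons_cons, List.forall_mem_cons, List.forall_mem_cons, ih h9, dot_xor, ← h7, ← h8,
        CharTwo.add_eq_zero]

def Inv (l : ℕ → E) (B : ℕ) (w : ℕ → W) (g : E) (x acc : List ℕ) : Prop :=
  ∃ n u, g = n * ev l x ∧ X.Rep n u ∧ List.Forall₂ (fun m row => ip m u = dot B w row) F acc

theorem run_spec (hg : ∀ i, mG.R (gc i) (X.π (l i)))
    (hr : ∀ r < R, X.Rep (ev l (ru r).1 * (ev l (ru r).2)⁻¹) (w r)) {d : List ℕ} {g : E} {x acc : List ℕ}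
    (h : Inv X l (24 * R) w g x acc) {k : List ℕ → List ℕ → Bool} (hk : run F nrm gc ru R d x acc k = true) :
    ∃ x' acc', Inv X l (24 * R) w g x' acc' ∧ k x' acc' = true := by
  induction d generalizing x acc with
  | nil => exact ⟨x, acc, h, hk⟩
  | cons s d ih =>
    rw [run_cons, Bool.and_eq_true, Bool.and_eq_true, decide_eq_true_eq, Nat.ble_eq] at hk
    obtain ⟨⟨h1, h2⟩, h3⟩ := hk
    refine ih ?_ h3
    obtain ⟨n, u, e, h4, h5⟩ := h
    set r := Nat.mod s 128
    set a := x.take (Nat.div s 128)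
    set b := x.drop (Nat.div s 128)
    refine ⟨n * (ev l a * (ev l (ru r).1 * (ev l (ru r).2)⁻¹) * (ev l a)⁻¹), _, ?_, X.mul h4 (X.cj _ (hr r h1)), ?_⟩
    · have e1 : x = a ++ ((ru r).1 ++ b.drop (ru r).1.length) := by
        conv_lhs => rw [← List.take_append_drop (Nat.div s 128) x]
        congr 1
        conv_lhs => rw [← List.take_append_drop (ru r).1.length (x.drop _), h2]
      rw [e, congrArg (ev l) e1]
      simp only [ev_append]
      group
    · have h6 : ∀ m, ip m (fun p => w r ((X.π (ev l a))⁻¹ • p)) =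
          dot (24 * R) w (blk r (nrm (img24 (inv24 (evc gc a)) m))) := fun m => by
        rw [dot_blk h1, X.con (hr r h1), ip_img (R_inv24 (R_evc X hg a))]
      exact f2_step h5 _ h6

theorem cmp_spec (hg : ∀ i, mG.R (gc i) (X.π (l i)))
    (hr : ∀ r < R, X.Rep (ev l (ru r).1 * (ev l (ru r).2)⁻¹) (w r)) {t : (List ℕ × List ℕ) × List ℕ × List ℕ}
    {k : List ℕ → Bool} (hk : cmp F nrm gc ru R t k = true) :
    ∃ rows, k rows = true ∧ (ev l t.1.1 = ev l t.1.2 ↔ ∀ v ∈ rows, dot (24 * R) w v = 0) := by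
  have h0 : ∀ x, Inv X l (24 * R) w (ev l x) x (F.map fun _ => 0) := fun x =>
    ⟨1, 0, (one_mul _).symm, X.one, by
      rw [List.forall₂_map_right_iff, List.forall₂_same]; exact fun m _ => (ip_zero m).trans dot_zero.symm⟩
  obtain ⟨x, a, ⟨n, u, e, h1, h2⟩, h3⟩ := run_spec X hg hr (h0 _) hk
  obtain ⟨y, b, ⟨n', u', e', h4, h5⟩, h6⟩ := run_spec X hg hr (h0 _) h3
  rw [Bool.and_eq_true, decide_eq_true_eq, fL_eq] at h6
  refine ⟨_, h6.2, ?_⟩
  rw [e, e', h6.1, mul_left_inj, X.eq h1 h4, f2_cmp h2 h5]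

/-- collect the rows of identities -/
noncomputable def insI (F : List ℕ) (nrm gc : ℕ → ℕ) (ru : ℕ → List ℕ × List ℕ) (R : ℕ)
    (ts : List (List ℕ × List ℕ × List ℕ)) : List (ℕ × ℕ) → (List (ℕ × ℕ) → Bool) → Bool :=
  List.rec (motive := fun _ => List (ℕ × ℕ) → (List (ℕ × ℕ) → Bool) → Bool) (fun bs k => k bs)
    (fun t _ ih bs k => cmp F nrm gc ru R ((t.1, t.1), t.2) fun rows => ins rows bs fun bs' => ih bs' k) ts

theorem insI_spec (hg : ∀ i, mG.R (gc i) (X.π (l i)))
    (hr : ∀ r < R, X.Rep (ev l (ru r).1 * (ev l (ru r).2)⁻¹) (w r)) {ts : List (List ℕ × List ℕ × List ℕ)}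
    {bs : List (ℕ × ℕ)} (h : Val (24 * R) w bs) {k : List (ℕ × ℕ) → Bool}
    (hk : insI F nrm gc ru R ts bs k = true) : ∃ bs', Val (24 * R) w bs' ∧ k bs' = true := by
  induction ts generalizing bs with
  | nil => exact ⟨bs, h, hk⟩
  | cons t ts ih =>
    obtain ⟨rows, h1, h2⟩ := cmp_spec X hg hr (t := ((t.1, t.1), t.2)) hk
    obtain ⟨bs', h3, h4⟩ := ins_spec (h2.1 rfl) h h1
    exact ih h3 h4

/-- polycyclic relations on the letters -/
def pcOK (ts : List (List ℕ × List ℕ)) : List ℕ → Bool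
  | [] => true
  | i :: r => ts.any (fun t => t.1 == [i, i] && t.2.all (· ∈ r)) &&
      r.all (fun j => ts.any fun t => t.1 == [j, i] && t.2.take 1 == [i] && (t.2.drop 1).all (· ∈ r)) && pcOK ts r

theorem card_step [Finite E] {H : Subgroup E} {y : E} (h1 : y * y ∈ H) (h2 : ∀ h ∈ H, y⁻¹ * h * y ∈ H) :
    ∃ T : Subgroup E, H ≤ T ∧ y ∈ T ∧ Nat.card T ≤ 2 * Nat.card H := by
  have h3 : ∀ h ∈ H, y * h * y⁻¹ ∈ H := fun h hh => by
    have := mul_mem (mul_mem h1 (h2 h hh)) (inv_mem h1)
    rwa [show y * y * (y⁻¹ * h * y) * (y * y)⁻¹ = y * h * y⁻¹ by group] at this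
  refine ⟨⟨⟨⟨{g | g ∈ H ∨ y⁻¹ * g ∈ H}, ?_⟩, Or.inl H.one_mem⟩, ?_⟩, fun g hg => Or.inl hg, Or.inr (by simp), ?_⟩
  · rintro a b (ha | ha) (hb | hb)
    · exact Or.inl (mul_mem ha hb)
    · exact Or.inr (by have := mul_mem (h2 a ha) hb; rwa [show y⁻¹ * a * y * (y⁻¹ * b) = y⁻¹ * (a * b) by group] at this)
    · exact Or.inr (by have := mul_mem ha hb; rwa [mul_assoc] at this)
    · exact Or.inl (by
        have := mul_mem (mul_mem (h3 _ ha) h1) hb
        rwa [show y * (y⁻¹ * a) * y⁻¹ * (y * y) * (y⁻¹ * b) = a * b by group] at this)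
  · rintro a (ha | ha)
    · exact Or.inl (inv_mem ha)
    · exact Or.inr (by
        have := mul_mem (inv_mem h1) (h3 _ (inv_mem ha))
        rwa [show (y * y)⁻¹ * (y * (y⁻¹ * a)⁻¹ * y⁻¹) = y⁻¹ * a⁻¹ by group] at this)
  · have e : {g | g ∈ H ∨ y⁻¹ * g ∈ H} = (H : Set E) ∪ (fun g => y * g) '' H := by
      ext g
      exact or_congr_right ⟨fun h => ⟨_, h, by simp⟩, fun ⟨a, ha, e⟩ => by rw [← e]; simpa using ha⟩
    show {g | g ∈ H ∨ y⁻¹ * g ∈ H}.ncard ≤ 2 * (H : Set E).ncard
    rw [e, two_mul]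
    exact (Set.ncard_union_le _ _).trans (Nat.add_le_add_left (Set.ncard_image_le (Set.toFinite _)) _)

theorem ev_mem {H : Subgroup E} {x : List ℕ} (h : ∀ i ∈ x, l i ∈ H) : ev l x ∈ H :=
  H.list_prod_mem fun g hg => by obtain ⟨i, hi, rfl⟩ := List.mem_map.1 hg; exact h i hi

theorem pc_card [Finite E] {ts : List (List ℕ × List ℕ)} (h : ∀ t ∈ ts, ev l t.1 = ev l t.2) {is : List ℕ}
    (hp : pcOK ts is = true) : Nat.card (Subgroup.closure (l '' {i | i ∈ is})) ≤ 2 ^ is.length := by
  induction is with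
  | nil => simp
  | cons i r ih =>
    simp only [pcOK, Bool.and_eq_true, List.any_eq_true, List.all_eq_true, beq_iff_eq, decide_eq_true_eq] at hp
    obtain ⟨⟨⟨t, ht, h1, h2⟩, h3⟩, h4⟩ := hp
    set H := Subgroup.closure (l '' {i | i ∈ r})
    have hm : ∀ j ∈ r, l j ∈ H := fun j hj => Subgroup.subset_closure ⟨j, hj, rfl⟩
    obtain ⟨T, h5, h6, h7⟩ := card_step (H := H) (y := l i)
      (by have := h t ht ▸ ev_mem fun j hj => hm j (h2 j hj); simpa [h1, ev] using this) (fun g hg => by
        refine (Subgroup.closure_le (H.comap (MulAut.conj (l i)⁻¹).toMonoidHom)).2 ?_ hg |> fun h => by simpa using h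
        rintro _ ⟨j, hj, rfl⟩
        obtain ⟨t, ht, ⟨h5, h6⟩, h7⟩ := h3 j hj
        have h8 := h t ht
        rw [← List.take_append_drop 1 t.2, h5, h6, ev_append] at h8
        have h9 := ev_mem (l := l) fun j hj => hm j (h7 j hj)
        simp only [ev, List.map_cons, List.map_nil, List.prod_cons, List.prod_nil, mul_one] at h8 h9
        simpa [mul_assoc, h8] using h9)
    refine (Subgroup.card_le_of_le ((Subgroup.closure_le T).2 ?_)).trans (h7.trans ?_)
    · rintro _ ⟨j, hj, rfl⟩
      rcases List.mem_cons.1 hj with rfl | hj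
      · exact h6
      · exact h5 (hm j hj)
    · rw [List.length_cons, pow_succ']
      exact Nat.mul_le_mul_left _ (ih h4)

end CA.Tails
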