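/-
Splitting of extensions of `M23` from linear relations between tails.
-/
import Cfsg.Agent.Lib.Spor.Tails

namespace CA.Tails2

open Cfsg CA.NatBits CA.OrbBfs CA.CGroup CA.CGConstr CA.CGParts CA.CGCert CA.Perm24 CA.Golay
open CA.M24Core CA.M24Sub CA.M24Tools MulAction CA.Tails
open scoped Pointwise

variable {B : ℕ} {w : ℕ → W} {E : Type*} [Group E] {F Ub : List ℕ} {nrm : ℕ → ℕ} (X : XE E F Ub nrm) {l : ℕ → E}

theorem rsq {a : E} {u : W} (h : X.Rep a u) : a * a = 1 :=
  (X.eq (X.mul h h) X.one).2 fun m _ => by rw [ip_add, ip_zero, CharTwo.add_self_eq_zero]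

theorem rinv {a : E} {u : W} (h : X.Rep a u) : X.Rep a⁻¹ u := by rwa [inv_eq_of_mul_eq_one_right (rsq X h)]

/-- a subgroup of order at most the `2`-part of `M23` covering a Sylow subgroup gives a complement -/
theorem split [Finite E] {A : Subgroup E} (hA : Nat.card A ≤ 2 ^ 7) (h : 2 ^ 7 ≤ Nat.card (A.map X.π)) :
    ∃ H, X.π.ker.IsComplement' H := by
  have : Fact (Nat.Prime 2) := ⟨Nat.prime_two⟩
  have : IsMulCommutative X.π.ker := ⟨⟨fun a b => by
    obtain ⟨u, hu⟩ := X.ex a.2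
    obtain ⟨v, hv⟩ := X.ex b.2
    exact Subtype.ext ((X.eq (X.mul hu hv) (X.mul hv hu)).2 fun m _ => by rw [add_comm])⟩⟩
  obtain ⟨n, hn⟩ := IsPGroup.iff_card.1 (show IsPGroup 2 X.π.ker from fun a => ⟨1, by
    obtain ⟨u, hu⟩ := X.ex a.2
    exact Subtype.ext (by simpa [pow_two] using rsq X hu)⟩)
  have h1 := CGIso.card_ker_mul (X.π.comp A.subtype)
  rw [MonoidHom.range_comp, Subgroup.range_subtype, ← MonoidHom.comap_ker, Subgroup.comap_subtype] at h1
  have h2 : 0 < Nat.card (X.π.ker.subgroupOf A) := Nat.card_pos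
  have h3 : Nat.card (X.π.ker.subgroupOf A) = 1 := by nlinarith
  rw [h3, mul_one] at h1
  have h4 := ((A.map X.π).subgroupOf X.π.range).index_mul_card
  rw [CGIso.card_subgroupOf (Subgroup.map_le_range _ _), show Nat.card (A.map X.π) = 128 by omega,
    show Nat.card X.π.range = 10200960 by rw [X.range, st23.card]] at h4
  refine Cfsg.Agent.S0051.result X.π.ker ((A.map X.π).comap X.π) (Subgroup.ker_le_comap _ _) ?_ A (Subgroup.le_comap_map _ _) ?_
    (by rw [Subgroup.comap_map_eq, sup_comm])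
  · rw [hn, Subgroup.index_comap, Subgroup.relIndex, show ((A.map X.π).subgroupOf X.π.range).index = 79695 by omega]
    exact Nat.Coprime.pow_left _ (by norm_num)
  · rw [Subgroup.card_eq_one, Subgroup.subgroupOf_eq_bot] at h3
    exact h3.symm.eq_bot

noncomputable def gcF (gs : List ℕ) (i : ℕ) : ℕ := cond (Nat.blt i 11) (nth id24 gs i) (nth id24 gs (Nat.sub i 11))

def ruF (rs : List (List ℕ × List ℕ)) (r : ℕ) : List ℕ × List ℕ :=
  cond (Nat.blt r 65) (rs.getD r ([], [])) ([Nat.add 11 (Nat.sub r 65)], [Nat.sub r 65])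

noncomputable def selG (f : ℕ → ℕ) (l : List (ℕ × ℕ)) : ℕ :=
  List.rec (motive := fun _ => ℕ) 0 (fun p _ ih => force ih fun r => Nat.xor (Nat.mul (Nat.mod (f p.1) 2) p.2) r) l

theorem selG_cons (f : ℕ → ℕ) (p : ℕ × ℕ) (l : List (ℕ × ℕ)) :
    selG f (p :: l) = Nat.xor (Nat.mul (Nat.mod (f p.1) 2) p.2) (selG f l) := rfl

noncomputable def sel (m : ℕ) (l : List (ℕ × ℕ)) : ℕ := selG (fun b => pc24 (Nat.land m b)) l

theorem sel_cons (m : ℕ) (p : ℕ × ℕ) (l : List (ℕ × ℕ)) :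
    sel m (p :: l) = Nat.xor (Nat.mul (Nat.mod (pc24 (Nat.land m p.1)) 2) p.2) (sel m l) := by
  rw [sel, sel, selG_cons]

def uOf (B : ℕ) (w : ℕ → W) (l : List (ℕ × ℕ)) : W := (l.map fun p => dot B w p.2 • wd p.1).sum

theorem uOf_cons (p : ℕ × ℕ) (l : List (ℕ × ℕ)) : uOf B w (p :: l) = dot B w p.2 • wd p.1 + uOf B w l := rfl

theorem ip_uOf (m : ℕ) {l : List (ℕ × ℕ)} (h : ∀ p ∈ l, p.1 < 2 ^ 24) : ip m (uOf B w l) = dot B w (sel m l) := by
  induction l with
  | nil => exact (ip_zero m).trans dot_zero.symm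
  | cons p l ih =>
    rw [sel_cons, uOf_cons, ip_add, dot_xor, ih fun q hq => h q (List.mem_cons_of_mem _ hq), ip_smul, ip_wd m (h p List.mem_cons_self),
      dot_mul, mul_comm]

theorem rep_uOf {l : List (ℕ × ℕ)} (h : ∀ p ∈ l, p.1 ∈ Ub) : ∃ a, X.Rep a (uOf B w l) := by
  induction l with
  | nil => exact ⟨1, X.one⟩
  | cons p l ih =>
    obtain ⟨a, ha⟩ := ih fun q hq => h q (List.mem_cons_of_mem _ hq)
    obtain ⟨b, hb⟩ := X.of _ (h p List.mem_cons_self)
    rw [uOf_cons]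
    rcases zmod2_cases (dot B w p.2) with e | e <;> rw [e]
    · exact ⟨a, by rwa [zero_smul, zero_add]⟩
    · exact ⟨_, by rw [one_smul]; exact X.mul hb ha⟩

/-- the generators lie in `M23` and satisfy the rules -/
noncomputable def chk0 (gs : List ℕ) (rs : List (List ℕ × List ℕ)) : Bool :=
  okM gs && allL gs (fun c => Nat.beq (ap8 c 23) 23) && allLt 65 fun r =>
    Nat.beq (evc (nth id24 gs) (rs.getD r ([], [])).1) (evc (nth id24 gs) (rs.getD r ([], [])).2)

theorem exists_lifts {gs : List ℕ} {rs : List (List ℕ × List ℕ)} (h : chk0 gs rs = true) :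
    ∃ (l : ℕ → E) (w : ℕ → W), (∀ i, mG.R (nth id24 gs i) (X.π (l i))) ∧
      ∀ r < 65, X.Rep (ev l (rs.getD r ([], [])).1 * (ev l (rs.getD r ([], [])).2)⁻¹) (w r) := by
  rw [chk0, Bool.and_eq_true, Bool.and_eq_true] at h
  have h1 := M24Syl.inS0 mPt (ok_of h.1.1) (sPt none) (by rw [mPt_act]; exact h.1.2)
  have h2 : ∀ i, ∃ e, mG.R (nth id24 gs i) (X.π e) := fun i => by
    rcases nth_mem id24 gs i with e | e
    · exact ⟨1, by rw [e, map_one]; exact R_one⟩
    · obtain ⟨g, hg, hr⟩ := h1 _ e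
      obtain ⟨a, ha⟩ := X.range.ge hg
      exact ⟨a, by rwa [ha]⟩
  choose l hl using h2
  have h3 : ∀ r, ∃ u, r < 65 → X.Rep (ev l (rs.getD r ([], [])).1 * (ev l (rs.getD r ([], [])).2)⁻¹) u := fun r => by
    by_cases hr : r < 65
    · obtain ⟨u, hu⟩ := X.ex (a := ev l (rs.getD r ([], [])).1 * (ev l (rs.getD r ([], [])).2)⁻¹) (by
        rw [map_mul, map_inv, mul_inv_eq_one]
        exact (R_eq_iff (R_evc X hl _) (R_evc X hl _)).2 (beq_iff.1 (allLt_iff.1 h.2 r hr)))
      exact ⟨u, fun _ => hu⟩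
    · exact ⟨0, fun h => absurd h hr⟩
  choose w hw using h3
  exact ⟨l, w, hl, hw⟩

/-- new lifts of the first seven generators satisfy polycyclic relations -/
noncomputable def chk (F Ub : List ℕ) (nrm : ℕ → ℕ) (gs : List ℕ) (rs : List (List ℕ × List ℕ)) (fms : List (List ℕ))
    (Ms zs : List ℕ) (ids : List (List ℕ × List ℕ × List ℕ)) (tgs : List ((List ℕ × List ℕ) × List ℕ × List ℕ)) : Bool :=
  allLt 65 (fun r => allL ((rs.getD r ([], [])).1 ++ (rs.getD r ([], [])).2) fun i => Nat.blt i 11) &&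
  allL Ub (fun b => Nat.blt b (2 ^ 24)) && allL (zs ++ fms.flatten) (fun f => Nat.blt f (2 ^ (24 * 65 + 64))) &&
  pcOK (tgs.map Prod.fst) [11, 12, 13, 14, 15, 16, 17] &&
  orb mul24 ([11, 12, 13, 14, 15, 16, 17].map (gcF gs)) id24 (fun _ n => Nat.beq n (2 ^ 7)) &&
  ins (zs ++ (List.range 7).flatMap fun i => Ms.map fun m =>
      Nat.xor (blk (Nat.add 65 i) m) (sel m (Ub.zip (fms.getD i [])))) [] fun bs =>
    insI F nrm (gcF gs) (ruF rs) 72 ids bs fun bs => allL tgs fun t =>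
      cmp F nrm (gcF gs) (ruF rs) 72 t fun rows => allL rows fun v => Nat.beq (Nat.shiftRight (red bs v) 64) 0

theorem split_of [Finite E] {gs : List ℕ} {rs : List (List ℕ × List ℕ)} {fms : List (List ℕ)} {Ms zs : List ℕ}
    {ids : List (List ℕ × List ℕ × List ℕ)} {tgs : List ((List ℕ × List ℕ) × List ℕ × List ℕ)}
    (h : chk F Ub nrm gs rs fms Ms zs ids tgs = true) (hg : ∀ i, mG.R (nth id24 gs i) (X.π (l i)))
    (hr : ∀ r < 65, X.Rep (ev l (rs.getD r ([], [])).1 * (ev l (rs.getD r ([], [])).2)⁻¹) (w r))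
    (hz : ∀ z ∈ zs, dot (24 * 72) w z = 0) : ∃ H, X.π.ker.IsComplement' H := by
  simp only [chk, Bool.and_eq_true] at h
  obtain ⟨⟨⟨⟨⟨h1, h2⟩, h3⟩, h4⟩, h5⟩, h6⟩ := h
  simp only [allLt_iff, allL_iff, Nat.blt_eq] at h1 h2 h3
  have hn : ∀ i, ∃ a, X.Rep a (uOf (24 * 72) w (Ub.zip (fms.getD i []))) := fun i =>
    rep_uOf X fun p hp => (List.of_mem_zip hp).1
  choose n hn using hn
  set w' : ℕ → W := fun r => if r < 65 then w r else uOf (24 * 72) w (Ub.zip (fms.getD (r - 65) [])) with hw'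
  set l' : ℕ → E := fun i => if i < 11 then l i else n (i - 11) * l (i - 11) with hl'
  have hc : ∀ f ∈ zs ++ fms.flatten, dot (24 * 72) w f = dot (24 * 72) w' f := fun f hf =>
    dot_congr (fun r hr => by simp only [hw', if_pos hr]) (h3 f hf)
  have hg' : ∀ i, mG.R (gcF gs i) (X.π (l' i)) := fun i => by
    by_cases hi : i < 11
    · simp only [gcF, hl', if_pos hi, Nat.blt_eq.mpr hi, cond_true]; exact hg i
    · simp only [gcF, hl', if_neg hi, Bool.eq_false_iff.2 (mt Nat.blt_eq.mp hi), cond_false, map_mul, X.ker (hn _), one_mul]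
      exact hg _
  have hr' : ∀ r < 72, X.Rep (ev l' (ruF rs r).1 * (ev l' (ruF rs r).2)⁻¹) (w' r) := fun r h72 => by
    by_cases hi : r < 65
    · have e : ∀ x : List ℕ, (∀ i ∈ x, i < 11) → ev l' x = ev l x := fun x hx =>
        congrArg List.prod (List.map_congr_left fun i hi => if_pos (hx i hi))
      simp only [ruF, hw', if_pos hi, Nat.blt_eq.mpr hi, cond_true]
      rw [e _ fun i h => h1 r hi i (List.mem_append_left _ h), e _ fun i h => h1 r hi i (List.mem_append_right _ h)]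
      exact hr r hi
    · simp only [ruF, hw', if_neg hi, Bool.eq_false_iff.2 (mt Nat.blt_eq.mp hi), cond_false, ev, List.map_cons,
        List.map_nil, List.prod_cons, List.prod_nil, mul_one, hl', Nat.add_eq, Nat.sub_eq]
      rw [if_neg (by omega), if_pos (by omega), Nat.add_sub_cancel_left, mul_inv_cancel_right]
      exact hn _
  obtain ⟨bs, h7, h8⟩ := ins_spec (B := 24 * 72) (w := w') (fun v hv => by
    rcases List.mem_append.1 hv with hv | hv
    · exact (hc v (List.mem_append_left _ hv)).symm.trans (hz v hv)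
    · obtain ⟨i, hi, hv⟩ := List.mem_flatMap.1 hv
      obtain ⟨m, -, rfl⟩ := List.mem_map.1 hv
      rw [List.mem_range] at hi
      rw [dot_xor, dot_blk (show Nat.add 65 i < 72 by simp only [Nat.add_eq]; omega),
        ← ip_uOf m fun p hp => h2 _ (List.of_mem_zip hp).1, CharTwo.add_eq_zero]
      simp only [hw', Nat.add_eq]
      rw [if_neg (by omega), Nat.add_sub_cancel_left]
      refine congrArg (fun x => ip m (List.sum x)) (List.map_congr_left fun p hp => ?_)
      have h9 := (List.of_mem_zip hp).2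
      rw [hc p.2 (List.mem_append_right _ ?_)]
      rw [List.getD_eq_getElem?_getD] at h9
      cases e : fms[i]? with
      | none => simp [e] at h9
      | some x => exact List.mem_flatten.2 ⟨x, List.mem_of_getElem? e, by simpa [e] using h9⟩) (fun _ h => by simp at h) h6
  obtain ⟨bs, h7, h8⟩ := insI_spec X hg' hr' h7 h8
  have h9 := pc_card (l := l') (fun t ht => by
    obtain ⟨t', ht', rfl⟩ := List.mem_map.1 ht
    obtain ⟨rows, h9, h10⟩ := cmp_spec X hg' hr' (allL_iff.1 h8 t' ht')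
    exact h10.2 fun v hv => by rw [← dot_red h7, dot_small (allL_iff.1 h9 v hv)]) h4
  have h10 : mG.In ([11, 12, 13, 14, 15, 16, 17].map (gcF gs))
      ((Subgroup.closure (l' '' {i | i ∈ [11, 12, 13, 14, 15, 16, 17]})).map X.π) := fun c hc => by
    obtain ⟨i, hi, rfl⟩ := List.mem_map.1 hc
    exact ⟨_, ⟨l' i, Subgroup.subset_closure ⟨i, hi, rfl⟩, rfl⟩, hg' i⟩
  obtain ⟨t, m, h11, h12, -⟩ := H28CG.elts_spec R_inj h10.ok (k := fun _ n => Nat.beq n (2 ^ 7))
    (by rw [mG_mul, mG_one]; exact h5)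
  exact split X h9 ((beq_iff.1 h11).symm.trans_le (h12.symm.trans_le (Subgroup.card_le_of_le h10.gen_le)))

end CA.Tails2
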