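/-
Extensions of `M23` by the cocode module: orthogonality, the structure `XE`, Baer sums.
-/
import Cfsg.Agent.Lib.Spor.Tails3

namespace CA.Tails4

open Cfsg CA.NatBits CA.OrbBfs CA.CGroup CA.CGConstr CA.CGParts CA.CGCert CA.Perm24 CA.Golay
open CA.M24Core CA.M24Sub CA.M24Tools MulAction CA.Tails CA.Tails2 CA.Tails3

theorem cast_eq_zero {n : ℕ} : (n : ZMod 2) = 0 ↔ Nat.beq (n % 2) 0 = true := by
  rw [beq_iff, ZMod.natCast_eq_zero_iff, Nat.dvd_iff_mod_eq_zero]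

theorem ip_code {m : ℕ} (hm : isC m = true) {u : W} (hu : u ∈ golayCode) : ip m u = 0 := by
  obtain ⟨b, hb, rfl⟩ := exists_wd u
  rw [ip_wd m hb, ← card_inter' m hb, ZMod.natCast_eq_zero_iff]
  exact (even_inter ((ds_mem_Cw (isC_lt hm)).2 hm) (ds_mem_Cw'.2 hu)).two_dvd

theorem wd_23 : wd 8388608 = Pi.single none 1 := by
  funext p; revert p; decide

theorem Vb_spec : ∀ m ∈ Vb, isC m = true ∧ pc24 (Nat.land m 8388608) = 0 := by decide +kernel

theorem isC_enc (b : ℕ) : isC (enc (Nat.land b 4095)) = true := isC_iff.2 ⟨_, land_4095_lt b, rfl⟩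

set_option maxRecDepth 100000 in
theorem perp_chk : allLt 4096 (fun h => !(allL Vb fun m => Nat.beq (pc24 (Nat.land m (h * 4096)) % 2) 0) ||
    (Nat.beq h 0 || Nat.beq h 2048)) = true := by decide +kernel

/-- the orthogonal complement of the words vanishing at `none` -/
theorem perp_iff (x : W) : (x ∈ golayCode ∨ x + Pi.single none 1 ∈ golayCode) ↔ ∀ m ∈ Vb, ip m x = 0 := by
  constructor
  · rintro (h | h) m hm
    · exact ip_code (Vb_spec m hm).1 h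
    · have := ip_code (Vb_spec m hm).1 h
      rwa [ip_add, ← wd_23, ip_wd m (by norm_num), (Vb_spec m hm).2, Nat.cast_zero, add_zero] at this
  · intro h
    obtain ⟨b, hb, rfl⟩ := exists_wd x
    have h1 := (wd_mem_iff (enc_lt _)).2 (isC_enc b)
    have h2 := (enc_spec (land_4095_lt b)).2.1
    have h0 := enc_lt (Nat.land b 4095)
    generalize enc (Nat.land b 4095) = c at h0 h1 h2
    have h3 : Nat.xor b c < 2 ^ 24 := Nat.xor_lt_two_pow hb h0
    have h4 : Nat.xor b c % 2 ^ 12 = 0 := by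
      rw [← Nat.and_two_pow_sub_one_eq_mod]
      show (b ^^^ c) &&& 4095 = 0
      rw [Nat.and_xor_distrib_right, show c &&& 4095 = b &&& 4095 from h2, Nat.xor_self]
    have h5 : Nat.xor b c / 4096 * 4096 = Nat.xor b c := by omega
    have h6 := allLt_iff.1 perp_chk (Nat.xor b c / 4096) (by omega)
    have h7 : wd b = wd (Nat.xor b c) + wd c := by rw [wd_xor, add_assoc, CharTwo.add_self_eq_zero, add_zero]
    rw [h5, allL_iff.2 fun m hm => by
      rw [← cast_eq_zero, ← ip_wd m h3, wd_xor, ip_add, h m hm, ip_code (Vb_spec m hm).1 h1, add_zero]] at h6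
    simp only [Bool.not_true, Bool.false_or, Bool.or_eq_true, beq_iff] at h6
    rcases h6 with h6 | h6 <;> rw [h6] at h5 <;> rw [h7, ← h5]
    · exact Or.inl (by rwa [zero_mul, wd_zero, zero_add])
    · exact Or.inr (by rwa [← wd_23, add_right_comm, CharTwo.add_self_eq_zero, zero_add])

variable {E : Type*} [Group E] (N : Subgroup E) [hN : N.Normal] (φ : E ⧸ N ≃* Spor.M23)

def piOf : E →* M24 :=
  (Subgroup.inclusion (inf_le_left : Spor.M23 ≤ M24)).comp (φ.toMonoidHom.comp (QuotientGroup.mk' N))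

theorem piOf_eq_one {a : E} : piOf N φ a = 1 ↔ a ∈ N := by
  rw [← QuotientGroup.eq_one_iff, ← φ.map_eq_one_iff, Subtype.ext_iff, Subtype.ext_iff]; rfl

theorem piOf_ker : (piOf N φ).ker = N := Subgroup.ext fun _ => piOf_eq_one N φ

theorem piOf_range : (piOf N φ).range = stabilizer M24 (none : GolayPt) := by
  ext g
  refine ⟨fun ⟨a, ha⟩ => ha ▸ (φ (QuotientGroup.mk a)).2.2, fun hg => ?_⟩
  obtain ⟨x, hx⟩ := φ.surjective ⟨g, g.2, hg⟩
  obtain ⟨a, rfl⟩ := QuotientGroup.mk_surjective x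
  exact ⟨a, Subtype.ext (congrArg (fun y : Spor.M23 => (y : Equiv.Perm GolayPt)) hx)⟩

/-- an extension by the cocode module -/
def cocXE (θ : W →+ Additive N) (hsurj : Function.Surjective θ)
    (hker : ∀ w, θ w = 0 ↔ (w ∈ golayCode ∨ w + Pi.single none 1 ∈ golayCode))
    (hθ : ∀ (g : E) (w : W), ((θ (w ∘ ⇑(((φ (QuotientGroup.mk g) : Spor.M23) : Equiv.Perm GolayPt)⁻¹))).toMul : E)
      = g * ((θ w).toMul : E) * g⁻¹) : XE E Vb Sb id where
  π := piOf N φ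
  Rep a u := ((θ u).toMul : E) = a
  range := piOf_range N φ
  one := by simp
  mul h h' := by simp [h, h']
  cj g _ u h := h ▸ hθ g u
  ex {a} h := by
    obtain ⟨u, hu⟩ := hsurj (Additive.ofMul ⟨a, (piOf_eq_one N φ).1 h⟩)
    exact ⟨u, by simp [hu]⟩
  ker h := (piOf_eq_one N φ).2 (h ▸ Subtype.prop _)
  eq {a b u v} h h' := by
    rw [← h, ← h', ← Subtype.ext_iff, Additive.toMul.injective.eq_iff, ← sub_eq_zero, ← map_sub, hker, perp_iff,
      CharTwo.sub_eq_add]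
    simp only [ip_add, CharTwo.add_eq_zero]
  con _ _ := rfl
  of _ _ := ⟨_, rfl⟩

section baer
variable {E' : Type*} [Group E'] {F Ub : List ℕ} {nrm : ℕ → ℕ} (X : XE E F Ub nrm) (X' : XE E' F Ub nrm)

/-- the fibre product -/
def fib : Subgroup (E × E') := (X.π.comp (MonoidHom.fst E E')).eqLocus (X'.π.comp (MonoidHom.snd E E'))

def dia : Subgroup (fib X X') where
  carrier := {d | ∃ u, X.Rep d.1.1 u ∧ X'.Rep d.1.2 u}
  mul_mem' := fun ⟨_, h1, h2⟩ ⟨_, h3, h4⟩ => ⟨_, X.mul h1 h3, X'.mul h2 h4⟩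
  one_mem' := ⟨0, X.one, X'.one⟩
  inv_mem' := fun ⟨u, h1, h2⟩ => ⟨u, rinv X h1, rinv X' h2⟩

instance : (dia X X').Normal := ⟨fun _ ⟨_, h1, h2⟩ g => ⟨_, X.cj g.1.1 h1, by
  have := X'.cj g.1.2 h2
  rwa [← show X.π g.1.1 = X'.π g.1.2 from g.2] at this⟩⟩

def p1 : fib X X' →* E := (MonoidHom.fst E E').comp (fib X X').subtype
def p2 : fib X X' →* E' := (MonoidHom.snd E E').comp (fib X X').subtype

/-- the sum of two extensions -/
def baer (h' : ∀ u, ∃ a, X'.Rep a u) : XE (fib X X' ⧸ dia X X') F Ub nrm where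
  π := QuotientGroup.lift _ (X.π.comp (p1 X X')) fun _ ⟨_, h, _⟩ => X.ker h
  Rep x u := ∃ d u1 u2, x = QuotientGroup.mk d ∧ X.Rep d.1.1 u1 ∧ X'.Rep d.1.2 u2 ∧ u = u1 + u2
  range := by
    ext g
    refine ⟨fun ⟨x, hx⟩ => ?_, fun hg => ?_⟩
    · obtain ⟨d, rfl⟩ := QuotientGroup.mk_surjective x
      exact X.range.le ⟨_, hx⟩
    · obtain ⟨a, ha⟩ := X.range.ge hg
      obtain ⟨b, hb⟩ := X'.range.ge hg
      exact ⟨QuotientGroup.mk ⟨(a, b), ha.trans hb.symm⟩, ha⟩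
  one := ⟨1, 0, 0, rfl, X.one, X'.one, (add_zero _).symm⟩
  mul := by
    rintro _ _ _ _ ⟨d, u, v, rfl, h1, h2, rfl⟩ ⟨d', u', v', rfl, h3, h4, rfl⟩
    exact ⟨d * d', _, _, rfl, X.mul h1 h3, X'.mul h2 h4, add_add_add_comm _ _ _ _⟩
  cj := by
    rintro g _ _ ⟨d, u, v, rfl, h1, h2, rfl⟩
    obtain ⟨g, rfl⟩ := QuotientGroup.mk_surjective g
    have := X'.cj g.1.2 h2
    rw [← show X.π g.1.1 = X'.π g.1.2 from g.2] at this
    exact ⟨g * d * g⁻¹, _, _, rfl, X.cj g.1.1 h1, this, rfl⟩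
  ex {x} h := by
    obtain ⟨d, rfl⟩ := QuotientGroup.mk_surjective x
    obtain ⟨u, hu⟩ := X.ex (a := d.1.1) h
    obtain ⟨v, hv⟩ := X'.ex (a := d.1.2) ((show X.π d.1.1 = X'.π d.1.2 from d.2).symm.trans h)
    exact ⟨_, d, u, v, rfl, hu, hv, rfl⟩
  ker := by
    rintro _ _ ⟨d, u, v, rfl, h1, -, -⟩
    exact X.ker h1
  eq := by
    rintro _ _ _ _ ⟨d, u, v, rfl, h1, h2, rfl⟩ ⟨d', u', v', rfl, h3, h4, rfl⟩
    have h5 := X.mul (rinv X h1) h3
    have h6 := X'.mul (rinv X' h2) h4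
    have e : ∀ m, ip m (u + v) = ip m (u' + v') ↔ ip m (u + u') = ip m (v + v') := fun m => by
      simp only [ip_add]
      generalize ip m u = a; generalize ip m v = b; generalize ip m u' = c; generalize ip m v' = d
      revert a b c d; decide
    rw [QuotientGroup.eq]
    simp only [e]
    refine ⟨fun ⟨x, h7, h8⟩ m hm => ((X.eq h5 h7).1 rfl m hm).trans ((X'.eq h8 h6).1 rfl m hm), fun h => ?_⟩
    obtain ⟨a, ha⟩ := h' (u + u')
    exact ⟨_, h5, by rwa [(X'.eq ha h6).2 h] at ha⟩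
  con := by
    rintro _ _ ⟨d, u, v, rfl, h1, h2, rfl⟩ m
    rw [ip_add, ip_add, X.con h1, X'.con h2]
  of b hb := by
    obtain ⟨a, ha⟩ := X.of b hb
    exact ⟨_, ⟨(a, 1), (X.ker ha).trans (map_one X'.π).symm⟩, _, 0, rfl, ha, X'.one, (add_zero _).symm⟩

theorem proj_iso {D Γ : Type*} [Group D] [Group Γ] {Δ : Subgroup D} [Δ.Normal] {ρ : D ⧸ Δ →* Γ} {H : Subgroup (D ⧸ Δ)}
    (hH : ρ.ker.IsComplement' H) (π : E →* Γ) (f : D →* E) (h1 : ∀ d : D, ρ (QuotientGroup.mk d) = π (f d))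
    (h2 : ∀ d ∈ Δ, f d = 1 → d = 1) (h3 : ∀ a, π a = 1 → ∃ d ∈ Δ, f d = a) (h4 : ∀ e, ∃ x, ρ x = π e) :
    Function.Bijective (f.comp (H.comap (QuotientGroup.mk' Δ)).subtype) := by
  refine ⟨(injective_iff_map_eq_one _).2 fun d hd => Subtype.ext (h2 _ ?_ hd), fun e => ?_⟩
  · rw [← QuotientGroup.eq_one_iff]
    refine Subgroup.disjoint_def.1 hH.disjoint ?_ d.2
    rw [MonoidHom.mem_ker, h1, show f d = 1 from hd, map_one]
  · obtain ⟨x, hx⟩ := h4 e
    obtain ⟨⟨k, h⟩, rfl⟩ := hH.2 x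
    obtain ⟨d, hd⟩ := QuotientGroup.mk_surjective (h : D ⧸ Δ)
    simp only [map_mul, show ρ (k : D ⧸ Δ) = 1 from k.2, one_mul, ← hd, h1] at hx
    obtain ⟨δ, h5, h6⟩ := h3 (e * (f d)⁻¹) (by rw [map_mul, map_inv, hx, mul_inv_cancel])
    refine ⟨⟨δ * d, ?_⟩, by simp [h6]⟩
    rw [Subgroup.mem_comap, map_mul, QuotientGroup.mk'_apply, QuotientGroup.mk'_apply,
      (QuotientGroup.eq_one_iff δ).2 h5, one_mul, hd]
    exact h.2

theorem iso_of_split (h : ∀ u, ∃ a, X.Rep a u) (h' : ∀ u, ∃ a, X'.Rep a u) {H : Subgroup (fib X X' ⧸ dia X X')}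
    (hH : (baer X X' h').π.ker.IsComplement' H) : Nonempty (E ≃* E') := by
  have b1 := proj_iso hH X.π (p1 X X') (fun _ => rfl)
    (fun d ⟨u, h1, h2⟩ e => Subtype.ext (Prod.ext e ((X'.eq h2 X'.one).2 ((X.eq h1 X.one).1 e)))) (fun a ha => by
      obtain ⟨u, hu⟩ := X.ex ha
      obtain ⟨b, hb⟩ := h' u
      exact ⟨⟨(a, b), ha.trans (X'.ker hb).symm⟩, ⟨u, hu, hb⟩, rfl⟩)
    fun e => (baer X X' h').range.ge (X.range.le ⟨e, rfl⟩)
  have b2 := proj_iso hH X'.π (p2 X X') (fun d => d.2)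
    (fun d ⟨u, h1, h2⟩ e => Subtype.ext (Prod.ext ((X.eq h1 X.one).2 ((X'.eq h2 X'.one).1 e)) e)) (fun a ha => by
      obtain ⟨u, hu⟩ := X'.ex ha
      obtain ⟨b, hb⟩ := h u
      exact ⟨⟨(b, a), (X.ker hb).trans ha.symm⟩, ⟨u, hb, hu⟩, rfl⟩)
    fun e => (baer X X' h').range.ge (X'.range.le ⟨e, rfl⟩)
  exact ⟨(MulEquiv.ofBijective _ b1).symm.trans (MulEquiv.ofBijective _ b2)⟩

theorem map_ev {A B : Type*} [Group A] [Group B] (f : A →* B) (l : ℕ → A) (x : List ℕ) :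
    f (ev l x) = ev (fun i => f (l i)) x := by
  rw [ev, ev, map_list_prod, List.map_map]; rfl

end baer

/-- two non-split extensions by the cocode module are isomorphic -/
theorem iso_of_nonsplit [Finite E] {E' : Type*} [Group E'] [Finite E'] (X : XE E Vb Sb id) (X' : XE E' Vb Sb id)
    (h : ∀ u, ∃ a, X.Rep a u) (h' : ∀ u, ∃ a, X'.Rep a u) (hn : ∀ H, ¬ X.π.ker.IsComplement' H)
    (hn' : ∀ H, ¬ X'.π.ker.IsComplement' H) : Nonempty (E ≃* E') := by
  obtain ⟨l, w, h1, h2⟩ := exists_lifts X c0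
  obtain ⟨l', w', h3, h4⟩ := exists_lifts X' c0
  have h5 : dot (24 * 72) w z0 = 1 := (zmod2_cases _).resolve_left fun e =>
    (split_of X cD h1 h2 fun z hz => List.mem_singleton.1 hz ▸ e).elim hn
  have h6 : dot (24 * 72) w' z0 = 1 := (zmod2_cases _).resolve_left fun e =>
    (split_of X' cD h3 h4 fun z hz => List.mem_singleton.1 hz ▸ e).elim hn'
  set lD : ℕ → fib X X' := fun i => ⟨(l i, l' i), mG.R_fun (h1 i) (h3 i)⟩
  obtain ⟨H, hH⟩ := split_of (baer X X' h') (l := fun i => QuotientGroup.mk' _ (lD i)) (w := w + w') cD h1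
    (fun r hr => ⟨ev lD (rs.getD r ([], [])).1 * (ev lD (rs.getD r ([], [])).2)⁻¹, w r, w' r, by
      rw [← map_ev, ← map_ev]; rfl, by
      show X.Rep (p1 X X' (ev lD _ * (ev lD _)⁻¹)) _
      rw [map_mul, map_inv, map_ev, map_ev]; exact h2 r hr, by
      show X'.Rep (p2 X X' (ev lD _ * (ev lD _)⁻¹)) _
      rw [map_mul, map_inv, map_ev, map_ev]; exact h4 r hr, rfl⟩)
    fun z hz => by rw [List.mem_singleton.1 hz, dot_add, h5, h6]; rfl
  exact iso_of_split X X' h h' hH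

end CA.Tails4
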