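import Mathlib

/-! Hypotheses for the conjugacy of the subgroups `³D₄(2):3` of the Thompson group. -/

set_option autoImplicit false

namespace CA.ThA0
open Subgroup

/-- facts on the 7-local structure of `K = ³D₄(2):3` -/
structure KF {K : Type} [Group K] (x y l a b w : K) (M : Subgroup K) : Prop where
  ox : orderOf x = 7
  ol : l ^ 7 = 1
  ow : orderOf w = 7
  xy : x * y = y * x
  xl : x * l = l * x
  cP : Nat.card (closure {x, y} : Subgroup K) = 49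
  xM : x ∈ M
  yM : y ∈ M
  aM : a ∈ M
  bM : b ∈ M
  a3 : a ^ 3 = 1
  b3 : b ^ 3 = 1
  lowM : 3528 ≤ Nat.card M
  nM : ∀ m ∈ M, ∀ s ∈ (closure {x, y} : Subgroup K), m * s * m⁻¹ ∈ (closure {x, y} : Subgroup K)
  cls : ∃ LX LY : List K, LX.length = 24 ∧ LY.length = 24 ∧
    ∀ s ∈ (closure {x, y} : Subgroup K), s = 1 ∨ (IsConj x s ∧ s ∈ LX) ∨ (IsConj y s ∧ s ∈ LY)
  nw : ∀ i < 7, ¬ IsConj x (w ^ i)
  top : (closure {x, y, l, a, b} : Subgroup K) = ⊤

/-- facts on the action of `K` on the cosets -/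
structure OF {G K Ω : Type} [Group G] [Group K] [MulAction G Ω] (φ : K →* G) (ω p q : Ω) (w : K) (M : Subgroup K) : Prop where
  inj : Function.Injective φ
  hG : ¬ 7 ^ 3 ∣ Nat.card G
  h0 : ∀ k, φ k • ω = ω
  hp : p ≠ ω
  hall : ∀ (ξ : Ω) (z : K), orderOf z = 7 → φ z • ξ = ξ → ξ = ω ∨ (∃ k, φ k • p = ξ) ∨ ∃ k, φ k • q = ξ
  hM : ∀ k ∈ M, φ k • p = p
  cM : Nat.card ((MulAction.stabilizer G p).comap φ) = 3528
  cS : Nat.card ((MulAction.stabilizer G q).comap φ) = 126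
  hw : φ w • q = q

end CA.ThA0
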