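import Mathlib

/-! `L₃(2)` acting on at most fifteen points. -/

set_option autoImplicit false

namespace CA.ThA16
open MulAction

theorem l32 {G Ω : Type*} [Group G] [MulAction G Ω] {z y t n : G} (zy : Commute z y) (zt : Commute z t)
    (y7 : y ^ 7 = 1) (t2 : t * t = 1) (ty : (t * y) ^ 3 = 1) (ny : n * y = y ^ 2 * n) (tn : t * n * t = n⁻¹)
    (hf : (fixedBy Ω z).Finite) (h15 : (fixedBy Ω z).ncard ≤ 15) {ω ω₁ : Ω} (ne : ω ≠ ω₁)
    (hω : ∀ p ∈ [ω, ω₁], z • p = p ∧ y • p = p ∧ n • p = p) : t • ω = ω ∨ t • ω₁ = ω₁ := by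
  classical
  by_contra! hc
  have ti : t⁻¹ = t := inv_eq_of_mul_eq_one_right t2
  have e1 : t * y * t = y⁻¹ * t * y⁻¹ := by
    have : t * y * t = (y * t * y)⁻¹ := eq_inv_of_mul_eq_one_left (by rw [← ty]; simp [pow_succ, mul_assoc])
    rw [this]; simp [ti, mul_assoc]
  let B : Subgroup G := stabilizer G ω ⊓ stabilizer G ω₁
  have yB : y ∈ B := ⟨(hω ω (by simp)).2.1, (hω ω₁ (by simp)).2.1⟩
  have nB : n ∈ B := ⟨(hω ω (by simp)).2.2, (hω ω₁ (by simp)).2.2⟩
  -- Bruhat form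
  let Q : G → Prop := fun x => ∃ b ∈ B, ∃ b' ∈ B, t * x * t = b * t * b'
  have q1 : Q y := ⟨_, inv_mem yB, _, inv_mem yB, e1⟩
  have q6 : Q y⁻¹ := ⟨_, yB, _, yB, by
    have := congrArg (·⁻¹) e1
    simpa [ti, mul_assoc] using this⟩
  have qn : ∀ x, Q x → Q (n * x * n⁻¹) := by
    rintro x ⟨b, hb, b', hb', e⟩
    refine ⟨n⁻¹ * b, mul_mem (inv_mem nB) hb, b' * n, mul_mem hb' nB, ?_⟩
    have a : t * n = n⁻¹ * t := by rw [← tn, mul_assoc, t2, mul_one]
    have a' : n⁻¹ * t = t * n := a.symm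
    calc t * (n * x * n⁻¹) * t = (t * n) * x * (n⁻¹ * t) := by group
      _ = n⁻¹ * (t * x * t) * n := by rw [a]; nth_rewrite 2 [a']; group
      _ = _ := by rw [e]; group
  have c : ∀ i : ℕ, n * y ^ i * n⁻¹ = y ^ (2 * i) := fun i => by
    rw [pow_mul, ← conj_pow, ny, mul_inv_cancel_right]
  have y6 : y⁻¹ = y ^ 6 := inv_eq_of_mul_eq_one_right (by rw [← pow_succ', y7])
  have md : ∀ i, y ^ (i + 7) = y ^ i := fun i => by rw [pow_add, y7, mul_one]
  have q : ∀ i < 7, i ≠ 0 → Q (y ^ i) := by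
    have a1 : Q (y ^ 1) := by rwa [pow_one]
    have a6 : Q (y ^ 6) := y6 ▸ q6
    have a2 : Q (y ^ 2) := c 1 ▸ qn _ a1
    have a4 : Q (y ^ 4) := c 2 ▸ qn _ a2
    have a5 : Q (y ^ 5) := md 5 ▸ c 6 ▸ qn _ a6
    have a3 : Q (y ^ 3) := md 3 ▸ c 5 ▸ qn _ a5
    intro i hi h0
    interval_cases i <;> first | assumption | exact absurd rfl h0
  -- key: `y ^ i • t • p = t • p'` forces `i = 0`
  have fx : ∀ b ∈ B, ∀ p ∈ [ω, ω₁], b • p = p := fun b hb p hp => by
    simp only [List.mem_cons, List.not_mem_nil, or_false] at hp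
    rcases hp with rfl | rfl
    exacts [hb.1, hb.2]
  have mv : ∀ p ∈ [ω, ω₁], ∀ p' ∈ [ω, ω₁], t • p ≠ p' := fun p hp p' hp' e => by
    have a : y • t • p = t • p := by rw [e]; exact fx y yB p' hp'
    have b : (t * y * t) • p = p := by rw [mul_smul, mul_smul, a, smul_smul, t2, one_smul]
    rw [e1, mul_smul, mul_smul, fx _ (inv_mem yB) p hp, inv_smul_eq_iff, fx y yB p hp] at b
    simp only [List.mem_cons, List.not_mem_nil, or_false] at hp
    rcases hp with rfl | rfl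
    exacts [hc.1 b, hc.2 b]
  have key : ∀ p ∈ [ω, ω₁], ∀ p' ∈ [ω, ω₁], ∀ i < 7, i ≠ 0 → y ^ i • t • p ≠ t • p' := fun p hp p' hp' i hi h0 e => by
    obtain ⟨b, hb, b', hb', e'⟩ := q i hi h0
    have a : (t * y ^ i * t) • p = p' := by rw [mul_smul, mul_smul, e, smul_smul, t2, one_smul]
    rw [e', mul_smul, mul_smul, fx b' hb' p hp, smul_eq_iff_eq_inv_smul, fx _ (inv_mem hb) p' hp'] at a
    exact mv p hp p' hp' a
  let P : Bool → Ω := fun s => if s then ω else ω₁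
  have hP : ∀ s, P s ∈ [ω, ω₁] := fun s => by cases s <;> simp [P]
  have Pi : ∀ s s', P s = P s' → s = s' := fun s s' e => by
    cases s <;> cases s' <;> simp_all [P, ne.symm]
  let f : Bool × Option (Fin 7) → Ω := fun x => x.2.elim (P x.1) fun i => y ^ i.1 • t • P x.1
  have k2 : ∀ s s' (i j : Fin 7), i ≤ j → y ^ i.1 • t • P s = y ^ j.1 • t • P s' → s = s' ∧ i = j := fun s s' i j h e => by
    obtain ⟨d, hd⟩ := Nat.exists_eq_add_of_le h
    rw [hd, pow_add, mul_smul, smul_left_cancel_iff] at e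
    by_cases h0 : d = 0
    · subst h0
      rw [pow_zero, one_smul, smul_left_cancel_iff] at e
      exact ⟨Pi _ _ e, Fin.ext hd.symm⟩
    · exact absurd e.symm (key _ (hP s') _ (hP s) d (by omega) h0)
  have k3 : ∀ s s' (i : Fin 7), P s ≠ y ^ i.1 • t • P s' := fun s s' i e => by
    rw [eq_comm, smul_eq_iff_eq_inv_smul, fx _ (inv_mem (pow_mem yB _)) _ (hP s)] at e
    exact mv _ (hP s') _ (hP s) e
  have inj : Function.Injective f := by
    rintro ⟨s, _ | i⟩ ⟨s', _ | j⟩ e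
    · obtain rfl : s = s' := Pi _ _ e
      rfl
    · exact absurd e (k3 _ _ _)
    · exact absurd e.symm (k3 _ _ _)
    · rcases le_total i j with h | h
      · obtain ⟨rfl, rfl⟩ := k2 _ _ _ _ h e; rfl
      · obtain ⟨rfl, rfl⟩ := k2 _ _ _ _ h e.symm; rfl
  have sub : Set.range f ⊆ fixedBy Ω z := by
    rintro _ ⟨⟨s, _ | i⟩, rfl⟩
    · exact (hω _ (hP s)).1
    · show z • y ^ i.1 • t • P s = y ^ i.1 • t • P s
      rw [smul_smul, (zy.pow_right _).eq, mul_smul, smul_smul z, zt.eq, mul_smul, (hω _ (hP s)).1]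
  have := Set.ncard_le_ncard sub hf
  rw [← Set.image_univ, Set.ncard_image_of_injective _ inj, Set.ncard_univ] at this
  simp at this
  omega

end CA.ThA16
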