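import Cfsg.Agent.Lib.Spor.ThA16

/-! Data on elements of order seven in `³D₄(2):3`. -/

set_option autoImplicit false

namespace CA.ThA16
open MulAction Subgroup

/-- the facts on `7²:(3 × SL₂(3))` and `7 × L₃(2)` inside `K` -/
structure Dat (K : Type) [Group K] (S7 S9 : Subgroup K) where
  (z y t n x s : K)
  M : List K
  τ : K → Prop
  τc : ∀ h k, τ k → τ (h * k * h⁻¹)
  zy : Commute z y
  zt : Commute z t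
  zn : Commute z n
  z7 : z ^ 7 = 1
  y7 : y ^ 7 = 1
  n3 : n ^ 3 = 1
  t2 : t * t = 1
  ty : (t * y) ^ 3 = 1
  ny : n * y = y ^ 2 * n
  tn : t * n * t = n⁻¹
  ne : ∀ i < 7, ∀ j < 7, z ^ i * y ^ j = 1 → i = 0 ∧ j = 0
  z9 : z ∈ S9
  y9 : y ∈ S9
  N9 : ∀ h ∈ S9, h * z * h⁻¹ ∈ closure {z, y} ∧ h * y * h⁻¹ ∈ closure {z, y}
  c9 : 3528 ≤ Nat.card S9
  M9 : ∀ m ∈ M, m ∈ S9 ∧ m ^ 21 = 1
  gen : closure {k | k ∈ t :: M} = ⊤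
  cls : ∀ i < 7, ∀ j < 7, i + j ≠ 0 → IsConj z (z ^ i * y ^ j) ∨ IsConj x (z ^ i * y ^ j)
  cz : Nat.card (centralizer ({z} : Set K)) ≤ 1176
  cx : Nat.card (centralizer ({x} : Set K)) ≤ 147
  τz : τ z
  s7 : s ∈ S7
  s1 : s ≠ 1
  ss : s ^ 7 = 1
  τs : ∀ i < 7, i ≠ 0 → ¬ τ (s ^ i)
  N7 : ∀ h ∈ S7, h * s * h⁻¹ ∈ zpowers s
  c7 : 126 ≤ Nat.card S7
  T : List (ℕ × ℕ)
  cT : T.length ≤ 42
  hT : ∀ i < 7, ∀ j < 7, i + j ≠ 0 → τ (z ^ i * y ^ j) → (i, j) ∈ T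

end CA.ThA16
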