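import Cfsg.Agent.Lib.Spor.ThA17

/-! Fixed points of elements of order seven. -/

set_option autoImplicit false

namespace CA.ThA16
open MulAction Subgroup

theorem cnt {K Ω : Type} [Group K] [Finite K] [MulAction K Ω] (k : K) (p : Ω) (T : Set K)
    (hT : ∀ h, h⁻¹ * k * h ∈ stabilizer K p → h⁻¹ * k * h ∈ T) :
    (fixedBy Ω k ∩ orbit K p).ncard * Nat.card (stabilizer K p) ≤
      T.ncard * Nat.card (centralizer ({k} : Set K)) := by
  have hr : ∀ ξ : (fixedBy Ω k ∩ orbit K p : Set Ω), ∃ r : K, r • p = ξ := fun ξ => ξ.2.2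
  choose r hr using hr
  have hc : ∀ t : K, ∃ c : K, (∃ h, h⁻¹ * k * h = t) → c⁻¹ * k * c = t := fun t => by
    by_cases e : ∃ h, h⁻¹ * k * h = t
    · exact e.imp fun _ h _ => h
    · exact ⟨1, fun h => absurd h e⟩
  choose c hc using hc
  have a : ∀ ξ (s : stabilizer K p), (r ξ * s.1) • p = ξ := fun ξ s => by
    rw [mul_smul, mem_stabilizer_iff.1 s.2, hr]
  have m : ∀ ξ (s : stabilizer K p), (r ξ * s.1)⁻¹ * k * (r ξ * s.1) ∈ stabilizer K p := fun ξ s => by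
    rw [mem_stabilizer_iff, mul_smul, mul_smul, a, show k • (ξ : Ω) = ξ from ξ.2.1, inv_smul_eq_iff, a]
  let f : (fixedBy Ω k ∩ orbit K p : Set Ω) × stabilizer K p → T × centralizer ({k} : Set K) := fun x =>
    (⟨_, hT _ (m x.1 x.2)⟩, ⟨r x.1 * x.2.1 * (c ((r x.1 * x.2.1)⁻¹ * k * (r x.1 * x.2.1)))⁻¹,
      mem_centralizer_singleton_iff.2 (by
        have := hc _ ⟨r x.1 * x.2.1, rfl⟩
        generalize c _ = d at *
        generalize r x.1 * x.2.1 = h at *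
        calc h * d⁻¹ * k = h * (d⁻¹ * k * d) * d⁻¹ := by group
          _ = k * (h * d⁻¹) := by rw [this]; group)⟩)
  have inj : Function.Injective f := by
    rintro ⟨ξ, s⟩ ⟨ξ', s'⟩ e
    have e1 := congrArg (fun x => (x.1 : K)) e
    have e2 := congrArg (fun x => (x.2 : K)) e
    simp only [f] at e1 e2
    rw [e1, mul_left_inj] at e2
    obtain rfl : ξ = ξ' := Subtype.ext (by rw [← a ξ s, e2, a])
    rw [Subtype.ext (mul_left_cancel e2 : s.1 = s'.1)]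
  have := Nat.card_le_card_of_injective f inj
  rwa [Nat.card_prod, Nat.card_prod, Nat.card_coe_set_eq, Nat.card_coe_set_eq] at this

theorem mem_of {K : Type} [Group K] [Finite K] {S Q : Subgroup K} (hQ : Q ≤ S) (hN : S ≤ normalizer Q) {m : ℕ}
    (hc : Nat.card S = Nat.card Q * m) (hm : Nat.Coprime m 7) {x : K} (hx : x ∈ S) (h7 : x ^ 7 = 1) : x ∈ Q := by
  have := normal_subgroupOf_of_le_normalizer hN
  have h1 := card_mul_index (Q.subgroupOf S)
  rw [Nat.card_congr (subgroupOfEquivOfLe hQ).toEquiv, hc] at h1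
  have h2 : (⟨x, hx⟩ : S) ^ m ∈ Q.subgroupOf S := Nat.eq_of_mul_eq_mul_left Nat.card_pos h1 ▸ pow_index_mem _ _
  obtain ⟨l, hl⟩ := exists_pow_eq_self_of_coprime (x := x) (hm.coprime_dvd_right (orderOf_dvd_of_pow_eq_one h7))
  exact hl ▸ pow_mem (show x ^ m ∈ Q from h2) l

theorem ccj {K : Type} [Group K] [Finite K] {a b : K} (h : IsConj a b) :
    Nat.card (centralizer ({b} : Set K)) ≤ Nat.card (centralizer ({a} : Set K)) := by
  obtain ⟨c, rfl⟩ := isConj_iff.1 h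
  refine Nat.card_le_card_of_injective (fun x => ⟨c⁻¹ * x.1 * c, mem_centralizer_singleton_iff.2 ?_⟩) fun x y e => ?_
  · have := mem_centralizer_singleton_iff.1 x.2
    calc c⁻¹ * x.1 * c * a = c⁻¹ * (x.1 * (c * a * c⁻¹)) * c := by group
      _ = _ := by rw [this]; group
  · exact Subtype.ext (by simpa using e)

theorem two {G Ω : Type} [Group G] [MulAction G Ω] {a : G} (h : a ^ 21 = 1) {ω ω₁ : Ω} (ne : ω ≠ ω₁)
    (h0 : a • ω = ω ∨ a • ω = ω₁) (h1 : a • ω₁ = ω ∨ a • ω₁ = ω₁) : a • ω = ω := by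
  rcases h0 with h0 | h0
  · exact h0
  rcases h1 with h1 | h1
  · have : a ^ 2 ∈ stabilizer G ω := by rw [mem_stabilizer_iff, sq, mul_smul, h0, h1]
    have := inv_mem (pow_mem this 10)
    rwa [← pow_mul, inv_eq_of_mul_eq_one_right (show a ^ (2 * 10) * a = 1 by rw [← pow_succ, h])] at this
  · exact absurd (smul_left_cancel a (h0.trans h1.symm)) ne

namespace Dat
variable {K : Type} [Group K] {S7 S9 : Subgroup K} (D : Dat K S7 S9)

def P : Subgroup K := closure {D.z, D.y}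
theorem zP : D.z ∈ D.P := subset_closure (by simp)
theorem yP : D.y ∈ D.P := subset_closure (by simp)
theorem mulP (i j k l : ℕ) : D.z ^ i * D.y ^ j * (D.z ^ k * D.y ^ l) = D.z ^ ((i + k) % 7) * D.y ^ ((j + l) % 7) := by
  rw [← pow_eq_pow_mod _ D.z7, ← pow_eq_pow_mod _ D.y7, pow_add, pow_add, mul_assoc, ← mul_assoc (D.y ^ j),
    ← (D.zy.pow_pow k j).eq]
  simp only [mul_assoc]
theorem memP {k : K} (h : k ∈ D.P) : ∃ i < 7, ∃ j < 7, k = D.z ^ i * D.y ^ j := by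
  induction h using closure_induction with
  | mem x hx =>
    rcases hx with rfl | rfl
    exacts [⟨1, by decide, 0, by decide, by simp⟩, ⟨0, by decide, 1, by decide, by simp⟩]
  | one => exact ⟨0, by decide, 0, by decide, by simp⟩
  | mul x y _ _ a b =>
    obtain ⟨i, -, j, -, rfl⟩ := a
    obtain ⟨k, -, l, -, rfl⟩ := b
    exact ⟨_, Nat.mod_lt _ (by decide), _, Nat.mod_lt _ (by decide), D.mulP _ _ _ _⟩
  | inv x _ a =>
    obtain ⟨i, hi, j, hj, rfl⟩ := a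
    refine ⟨(7 - i) % 7, Nat.mod_lt _ (by decide), (7 - j) % 7, Nat.mod_lt _ (by decide), inv_eq_of_mul_eq_one_right ?_⟩
    rw [D.mulP, show (i + (7 - i) % 7) % 7 = 0 by omega, show (j + (7 - j) % 7) % 7 = 0 by omega]; simp
theorem p7 {k : K} (h : k ∈ D.P) : k ^ 7 = 1 := by
  obtain ⟨i, -, j, -, rfl⟩ := D.memP h
  rw [(D.zy.pow_pow i j).mul_pow, pow_right_comm, D.z7, pow_right_comm, D.y7]; simp
theorem cP : Nat.card D.P = 49 := by
  refine (Nat.card_congr (Equiv.ofBijective (fun x : Fin 7 × Fin 7 => (⟨D.z ^ x.1.1 * D.y ^ x.2.1,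
    mul_mem (pow_mem D.zP _) (pow_mem D.yP _)⟩ : D.P)) ⟨?_, fun k => ?_⟩)).symm.trans (by simp)
  · rintro ⟨i, j⟩ ⟨k, l⟩ e
    have e' : D.z ^ i.1 * D.y ^ j.1 = D.z ^ k.1 * D.y ^ l.1 := congrArg Subtype.val e
    have h1 := D.mulP i j (7 - k) (7 - l)
    rw [e', D.mulP, show (k.1 + (7 - k.1)) % 7 = 0 by omega, show (l.1 + (7 - l.1)) % 7 = 0 by omega,
      pow_zero, pow_zero, one_mul] at h1
    have := D.ne _ (Nat.mod_lt _ (by decide)) _ (Nat.mod_lt _ (by decide)) h1.symm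
    ext <;> simp only <;> omega
  · obtain ⟨i, hi, j, hj, e⟩ := D.memP k.2
    exact ⟨(⟨i, hi⟩, ⟨j, hj⟩), Subtype.ext e.symm⟩
theorem nrm [Finite K] {h : K} (a : h * D.z * h⁻¹ ∈ D.P ∧ h * D.y * h⁻¹ ∈ D.P) : h ∈ normalizer (D.P : Set K) :=
  mem_normalizer_fintype fun k hk => by
    obtain ⟨i, -, j, -, rfl⟩ := D.memP hk
    rw [show h * (D.z ^ i * D.y ^ j) * h⁻¹ = (h * D.z * h⁻¹) ^ i * (h * D.y * h⁻¹) ^ j by
      rw [conj_pow, conj_pow]; group]
    exact mul_mem (pow_mem a.1 _) (pow_mem a.2 _)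

variable [Finite K] {Ω : Type} [MulAction K Ω] {p q : Ω} (e7 : stabilizer K p = S7) (e9 : stabilizer K q = S9)
  (c7 : Nat.card S7 = 126) (c9 : Nat.card S9 = 3528)
include c7 in
theorem in7 {k : K} (h : k ∈ S7) (h7 : k ^ 7 = 1) : k ∈ zpowers D.s :=
  have : Fact (Nat.Prime 7) := ⟨by norm_num⟩
  mem_of (m := 18) (zpowers_le.2 D.s7) (fun h hh => mem_normalizer_fintype fun k hk => by
    obtain ⟨i, rfl⟩ := mem_zpowers_iff.1 hk
    rw [← conj_zpow]; exact zpow_mem (D.N7 h hh) i) (by rw [Nat.card_zpowers, orderOf_eq_prime D.ss D.s1, c7])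
    (by norm_num) h h7
include c9 in
theorem in9 {k : K} (h : k ∈ S9) (h7 : k ^ 7 = 1) : k ∈ D.P :=
  mem_of (m := 72) ((closure_le _).2 (by rintro _ (rfl | rfl); exacts [D.z9, D.y9]))
    (fun h hh => D.nrm (D.N9 h hh)) (by rw [c9]; exact (congrArg (· * 72) D.cP).symm) (by norm_num) h h7

omit [Finite K] in
theorem cj7 {k : K} (h7 : k ^ 7 = 1) (h : K) : (h⁻¹ * k * h) ^ 7 = 1 := by
  have := @conj_pow _ _ 7 h⁻¹ k
  rw [inv_inv] at this
  rw [this, h7]; simp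

include e7 e9 c7 c9
theorem bz {k : K} (hk : IsConj D.z k) : fixedBy Ω k ∩ orbit K p = ∅ ∧ (fixedBy Ω k ∩ orbit K q).ncard ≤ 14 := by
  have hc := (ccj hk).trans D.cz
  obtain ⟨c, hk⟩ := isConj_iff.1 hk
  have k7 : k ^ 7 = 1 := by rw [← hk, conj_pow, D.z7]; simp
  have τk : ∀ h, D.τ (h⁻¹ * k * h) := fun h => by simpa using D.τc h⁻¹ _ (hk ▸ D.τc c _ D.τz)
  have k1 : ∀ h, h⁻¹ * k * h ≠ 1 := fun h e => by
    have : D.z = 1 := by rw [← hk] at e; simpa [mul_eq_one_iff_eq_inv, inv_mul_eq_iff_eq_mul] using e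
    simpa using D.ne 1 (by decide) 0 (by decide) (by simpa using this)
  constructor
  · refine Set.eq_empty_of_forall_notMem ?_
    rintro _ ⟨h1, h, rfl⟩
    have : h⁻¹ * k * h ∈ stabilizer K p := by
      rw [mem_stabilizer_iff, mul_smul, mul_smul, inv_smul_eq_iff]; exact h1
    obtain ⟨i, e⟩ := (Submonoid.mem_powers_iff _ _).1 ((mem_powers_iff_mem_zpowers).2 (D.in7 c7 (e7 ▸ this) (cj7 k7 h)))
    rw [pow_eq_pow_mod _ D.ss] at e
    exact D.τs _ (Nat.mod_lt _ (by decide)) (fun h0 => k1 h (by rw [← e, h0, pow_zero])) (e ▸ τk h)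
  · classical
    have := cnt k q ((D.T.map fun a => D.z ^ a.1 * D.y ^ a.2).toFinset : Set K) fun h hh => by
      obtain ⟨i, hi, j, hj, e⟩ := D.memP (D.in9 c9 (e9 ▸ hh) (cj7 k7 h))
      simp only [List.coe_toFinset, List.mem_map, Set.mem_ofPred_eq]
      exact ⟨(i, j), D.hT i hi j hj (fun h0 => k1 h (by
        rw [e, show i = 0 by omega, show j = 0 by omega]; simp)) (e ▸ τk h), e.symm⟩
    have h2 := List.toFinset_card_le (D.T.map fun a => D.z ^ a.1 * D.y ^ a.2)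
    rw [List.length_map] at h2
    rw [e9, c9, Set.ncard_coe_finset] at this
    have := this.trans (Nat.mul_le_mul (h2.trans D.cT) hc)
    omega
theorem bx {k : K} (hk : IsConj D.x k) (k7 : k ^ 7 = 1) :
    (fixedBy Ω k ∩ orbit K p).ncard ≤ 8 ∧ (fixedBy Ω k ∩ orbit K q).ncard ≤ 2 := by
  have : Fact (Nat.Prime 7) := ⟨by norm_num⟩
  have hc := (ccj hk).trans D.cx
  have h1 := cnt k p (zpowers D.s) fun h hh => D.in7 c7 (e7 ▸ hh) (cj7 k7 h)
  have h2 := cnt k q D.P fun h hh => D.in9 c9 (e9 ▸ hh) (cj7 k7 h)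
  rw [e7, c7, show (zpowers D.s : Set K).ncard = 7 by
    rw [← orderOf_eq_prime D.ss D.s1, ← Nat.card_coe_set_eq]; exact Nat.card_zpowers _] at h1
  rw [e9, c9, show (D.P : Set K).ncard = 49 from (Nat.card_coe_set_eq _).symm.trans D.cP] at h2
  omega

end Dat

def nn : List ℕ := [1, 17199, 45864, 2201472, 1304576, 105670656, 11741184, 5031936, 8805888, 179712, 8128512]

theorem fix {K G Ω : Type} [Group K] [Group G] [Finite K] [Finite G] [MulAction G Ω] (φ : K →* G)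
    (hφ : Function.Injective φ) (cK : Nat.card K = 634023936) (cG : Nat.card G = 143127000 * 634023936)
    (cΩ : Nat.card Ω = 143127000) (p : ℕ → Ω) (all : ∀ ξ, ∃ i < 11, ∃ k, φ k • p i = ξ)
    (cO : ∀ i < 11, {ξ | ∃ k, φ k • p i = ξ}.ncard = nn.getD i 0) {S7 S9 : Subgroup K} (D : Dat K S7 S9)
    (h7 : ∀ k ∈ S7, φ k • p 7 = p 7) (h9 : ∀ k ∈ S9, φ k • p 9 = p 9) (α : MulAut G) :
    ∃ ξ : Ω, ∀ k, α (φ k) • ξ = ξ := by
  classical
  have : Fact (Nat.Prime 7) := ⟨by norm_num⟩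
  have : Finite Ω := Nat.finite_of_card_ne_zero (by omega)
  letI : MulAction K Ω := MulAction.compHom Ω φ
  have co : ∀ i < 11, (orbit K (p i)).ncard = nn.getD i 0 := cO
  have st : ∀ i < 11, Nat.card (stabilizer K (p i)) * nn.getD i 0 = 634023936 := fun i hi => by
    rw [← co i hi, ← index_stabilizer, card_mul_index, cK]
  have c7 : Nat.card (stabilizer K (p 7)) = 126 := by
    have : _ * 5031936 = _ := st 7 (by decide)
    omega
  have c9 : Nat.card (stabilizer K (p 9)) = 3528 := by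
    have : _ * 179712 = _ := st 9 (by decide)
    omega
  have e7 : stabilizer K (p 7) = S7 := (eq_of_le_of_card_ge h7 (c7.le.trans D.c7)).symm
  have e9 : stabilizer K (p 9) = S9 := (eq_of_le_of_card_ge h9 (c9.le.trans D.c9)).symm
  rw [e7] at c7
  rw [e9] at c9
  have sub : ∀ k : K, k ^ 7 = 1 → k ≠ 1 → fixedBy Ω k ⊆ orbit K (p 0) ∪ (fixedBy Ω k ∩ orbit K (p 7)) ∪
      (fixedBy Ω k ∩ orbit K (p 9)) := fun k k7 k1 ξ hξ => by
    obtain ⟨i, hi, h, rfl⟩ := all ξ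
    have m : h⁻¹ * k * h ∈ stabilizer K (p i) := by
      rw [mem_stabilizer_iff, mul_smul, mul_smul, inv_smul_eq_iff]; exact hξ
    have d := orderOf_dvd_natCard (⟨_, m⟩ : stabilizer K (p i))
    rw [← orderOf_coe, orderOf_eq_prime (Dat.cj7 k7 h) (by
      simpa [mul_eq_one_iff_eq_inv, inv_mul_eq_iff_eq_mul] using k1)] at d
    have := st i hi
    by_cases h0 : i = 0
    · subst h0; exact .inl (.inl ⟨h, rfl⟩)
    by_cases h1 : i = 7
    · subst h1; exact .inl (.inr ⟨hξ, h, rfl⟩)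
    by_cases h2 : i = 9
    · subst h2; exact .inr ⟨hξ, h, rfl⟩
    exact absurd (this ▸ Nat.mul_dvd_mul_right d _) ((by decide : ∀ i < 11, i ≠ 0 → i ≠ 7 → i ≠ 9 →
      ¬ 7 * nn.getD i 0 ∣ 634023936) i hi h0 h1 h2)
  have o0 : (orbit K (p 0)).ncard = 1 := co 0 (by decide)
  have cl : ∀ k ∈ D.P, k ≠ 1 → IsConj D.z k ∨ IsConj D.x k := fun k hk k1 => by
    obtain ⟨i, hi, j, hj, rfl⟩ := D.memP hk
    exact D.cls i hi j hj fun h0 => k1 (by rw [show i = 0 by omega, show j = 0 by omega]; simp)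
  have F2 : ∀ k ∈ D.P, k ≠ 1 → (fixedBy Ω k).ncard ≤ 15 := fun k hk k1 => by
    have := (Set.ncard_le_ncard (sub k (D.p7 hk) k1)).trans ((Set.ncard_union_le _ _).trans
      (Nat.add_le_add_right (Set.ncard_union_le _ _) _))
    rcases cl k hk k1 with h | h
    · obtain ⟨a, b⟩ := D.bz e7 e9 c7 c9 h
      rw [a, Set.ncard_empty] at this; omega
    · obtain ⟨a, b⟩ := D.bx e7 e9 c7 c9 h (D.p7 hk)
      omega
  have z1 : D.z ≠ 1 := fun h => by simpa using D.ne 1 (by decide) 0 (by decide) (by simpa using h)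
  have pP : IsPGroup 7 D.P := .of_card (n := 2) D.cP
  have F1 : (fixedPoints D.P Ω).ncard = 2 := by
    obtain ⟨i, hi, j, hj, h0, hT⟩ : ∃ i < 7, ∃ j < 7, i + j ≠ 0 ∧ (i, j) ∉ D.T := by
      by_contra! h
      have := Finset.card_le_card (show (Finset.range 7 ×ˢ Finset.range 7).erase (0, 0) ⊆ D.T.toFinset from
        fun a ha => by
          simp only [Finset.mem_erase, Finset.mem_product, Finset.mem_range, Ne, Prod.ext_iff] at ha
          exact List.mem_toFinset.2 (h a.1 ha.2.1 a.2 ha.2.2 (by omega)))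
      have h2 := (List.toFinset_card_le D.T).trans D.cT
      rw [Finset.card_erase_of_mem (by simp)] at this
      simp at this; omega
    have kP : D.z ^ i * D.y ^ j ∈ D.P := mul_mem (pow_mem D.zP _) (pow_mem D.yP _)
    have kx := (D.cls i hi j hj h0).resolve_left fun h => hT (D.hT i hi j hj h0 (by
      obtain ⟨c, h⟩ := isConj_iff.1 h
      exact h ▸ D.τc c _ D.τz))
    have s1 : fixedPoints D.P Ω ⊆ orbit K (p 0) ∪ (fixedBy Ω (D.z ^ i * D.y ^ j) ∩ orbit K (p 9)) := fun ξ h => by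
      rcases sub D.z D.z7 z1 (h ⟨_, D.zP⟩) with (a | a) | a
      · exact .inl a
      · rw [(D.bz e7 e9 c7 c9 (IsConj.refl _)).1] at a; exact a.elim
      · exact .inr ⟨h ⟨_, kP⟩, a.2⟩
    have := (Set.ncard_le_ncard s1).trans (Set.ncard_union_le _ _)
    have h2 := (D.bx e7 e9 c7 c9 kx (D.p7 kP)).2
    have h3 := pP.card_modEq_card_fixedPoints Ω
    rw [cΩ, Nat.card_coe_set_eq, Nat.ModEq] at h3
    omega
  obtain ⟨ω, ω₁, ne, hF⟩ := Set.ncard_eq_two.1 F1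
  have fa : (Nat.card G).factorization 7 = 2 := by
    rw [cG, show 143127000 * 634023936 = 7 ^ 2 * 1851958038528000 by norm_num,
      Nat.factorization_mul (by norm_num) (by norm_num), Nat.Prime.factorization_pow (by norm_num)]
    simp [Nat.factorization_eq_zero_of_not_dvd]
  have sy : ∀ ψ : K →* G, Function.Injective ψ → Nat.card (D.P.map ψ) = 7 ^ (Nat.card G).factorization 7 :=
    fun ψ h => by rw [card_map_of_injective h, D.cP, fa]; norm_num
  obtain ⟨c, hc⟩ := exists_smul_eq G (Sylow.ofCard _ (sy (α.toMonoidHom.comp φ) (α.injective.comp hφ)))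
    (Sylow.ofCard _ (sy φ hφ))
  let ψ : K →* G := (MulAut.conj c).toMonoidHom.comp (α.toMonoidHom.comp φ)
  have hP : D.P.map ψ = D.P.map φ := by
    have := congrArg Sylow.toSubgroup hc
    rw [Sylow.coe_subgroup_smul, Sylow.coe_ofCard, Sylow.coe_ofCard] at this
    rw [← this, ← map_map]; rfl
  have fx : ∀ ξ, ξ = ω ∨ ξ = ω₁ ↔ ∀ k ∈ D.P, ψ k • ξ = ξ := fun ξ => by
    rw [show ξ = ω ∨ ξ = ω₁ ↔ ξ ∈ fixedPoints D.P Ω by rw [hF]; simp]
    refine ⟨fun h k hk => ?_, fun h k => ?_⟩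
    · obtain ⟨k', hk', e⟩ := hP.le (mem_map_of_mem ψ hk)
      rw [← e]; exact h ⟨k', hk'⟩
    · obtain ⟨k', hk', e⟩ := hP.ge (mem_map_of_mem φ k.2)
      exact (congrArg (· • ξ) e).symm.trans (h k' hk')
  have od : ∀ m ∈ normalizer (D.P : Set K), m ^ 21 = 1 → ψ m • ω = ω ∧ ψ m • ω₁ = ω₁ := fun m hm h => by
    have a : ∀ ξ, ξ = ω ∨ ξ = ω₁ → ψ m • ξ = ω ∨ ψ m • ξ = ω₁ := fun ξ h => (fx _).2 fun k hk => by
      have := (fx ξ).1 h _ ((mem_normalizer_iff''.1 hm k).1 hk)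
      rwa [map_mul, map_mul, map_inv, mul_smul, mul_smul, inv_smul_eq_iff] at this
    have b : ψ m ^ 21 = 1 := by rw [← map_pow, h, map_one]
    exact ⟨two b ne (a _ (.inl rfl)) (a _ (.inr rfl)), two b ne.symm (a _ (.inr rfl)).symm (a _ (.inl rfl)).symm⟩
  have nn' := od D.n (D.nrm ⟨by rw [← D.zn.eq, mul_inv_cancel_right]; exact D.zP,
    by rw [D.ny, mul_inv_cancel_right]; exact pow_mem D.yP 2⟩) (by rw [show 21 = 3 * 7 from rfl, pow_mul, D.n3, one_pow])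
  obtain ⟨k, hk, ek⟩ := hP.le (mem_map_of_mem ψ D.zP)
  have k1 : k ≠ 1 := fun h => z1 ((((MulAut.conj c).injective.comp (α.injective.comp hφ)) : Function.Injective ψ)
    (show ψ D.z = ψ 1 by rw [← ek, h, map_one, map_one]))
  have key := l32 (Ω := Ω) (D.zy.map ψ) (D.zt.map ψ) (n := ψ D.n) (by rw [← map_pow, D.y7, map_one])
    (by rw [← map_mul, D.t2, map_one]) (by rw [← map_mul, ← map_pow, D.ty, map_one])
    (by rw [← map_mul, D.ny, map_mul, map_pow]) (by rw [← map_mul, ← map_mul, D.tn, map_inv]) (Set.toFinite _)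
    (ek ▸ F2 k hk k1) ne fun ξ h => by
      have h' : ξ = ω ∨ ξ = ω₁ := by simpa using h
      refine ⟨(fx ξ).1 h' _ D.zP, (fx ξ).1 h' _ D.yP, ?_⟩
      rcases h' with rfl | rfl
      exacts [nn'.1, nn'.2]
  obtain ⟨ξ, h1, h2⟩ : ∃ ξ : Ω, ψ D.t • ξ = ξ ∧ ∀ m ∈ D.M, ψ m • ξ = ξ := by
    have a := fun m hm => od m (D.nrm (D.N9 m (D.M9 m hm).1)) (D.M9 m hm).2
    exact key.elim (fun h => ⟨ω, h, fun m hm => (a m hm).1⟩) fun h => ⟨ω₁, h, fun m hm => (a m hm).2⟩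
  have : (⊤ : Subgroup K) ≤ (stabilizer G ξ).comap ψ := D.gen ▸ (closure_le _).2 fun k hk => by
    rcases List.mem_cons.1 hk with rfl | hk
    exacts [h1, h2 k hk]
  refine ⟨c⁻¹ • ξ, fun k => ?_⟩
  have h3 : (c * α (φ k) * c⁻¹) • ξ = ξ := this (mem_top k)
  rwa [mul_smul, mul_smul, smul_eq_iff_eq_inv_smul] at h3

/-- the form used for the outer automorphism group -/
theorem conj {K G : Type} [Group K] [Group G] [Finite K] [Finite G] (φ : K →* G) (hφ : Function.Injective φ)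
    (H : Subgroup G) (hH : φ.range = H) (cK : Nat.card K = 634023936) (hi : H.index = 143127000) (p : ℕ → G ⧸ H)
    (all : ∀ ξ, ∃ i < 11, ξ ∈ orbit H (p i)) (cO : ∀ i < 11, Nat.card (orbit H (p i)) = nn.getD i 0)
    {S7 S9 : Subgroup K} (D : Dat K S7 S9) (h7 : ∀ k ∈ S7, φ k • p 7 = p 7) (h9 : ∀ k ∈ S9, φ k • p 9 = p 9)
    (α : MulAut G) : ∃ x : G, ∀ h ∈ H, x⁻¹ * α h * x ∈ H := by
  subst hH
  have ob : ∀ i, {ξ | ∃ k, φ k • p i = ξ} = orbit φ.range (p i) := fun i => Set.ext fun ξ =>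
    ⟨fun ⟨k, h⟩ => ⟨⟨φ k, k, rfl⟩, h⟩, fun ⟨⟨_, k, rfl⟩, h⟩ => ⟨k, h⟩⟩
  obtain ⟨ξ, h⟩ := fix φ hφ cK (by
    rw [← index_mul_card φ.range, hi, ← Nat.card_congr (MonoidHom.ofInjective hφ).toEquiv, cK]) hi p
    (fun ξ => (all ξ).imp fun i h => ⟨h.1, (ob i).ge h.2⟩)
    (fun i h => by rw [ob, ← Nat.card_coe_set_eq, cO i h]) D h7 h9 α
  obtain ⟨x, rfl⟩ := QuotientGroup.mk_surjective ξ
  refine ⟨x, ?_⟩
  rintro _ ⟨k, rfl⟩
  have := QuotientGroup.eq.1 (h k).symm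
  simpa [mul_assoc] using this

end CA.ThA16
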