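import Cfsg.Agent.Lib.Spor.ThF

/-! Derivations of the double coset table of the Thompson group. -/

set_option autoImplicit false
set_option maxRecDepth 100000
set_option linter.all false
namespace CA.ThM
open CA.CNet CA.CWord CA.CLevel CA.CSimple CA.CPoint CA.CLow CA.CTodd CA.TCos
noncomputable section

def D4 : List (ℕ × Word × List (ℕ × Word) × Word) := [(43,[14,16,22,17,18,16,22,3,29,11,26,3],[(1786,[0,2,8,3,4,2,8]),(292,[]),(1374,[3,0,2,4,3,3,5]),(161,[]),(136,[]),(112,[]),(104,[]),(1282,[1,2,5,9,2,5]),(292,[])],[2,5,5,2,2,9,2]),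
  (1,[3,10,23,27,7,17],[(2202,[]),(292,[]),(288,[])],[0,2,4,3,3,9,2,8]),
  (6,[19,16,16,16,22,16,16,3,19,26,3,7],[(1702,[5,2,2,2,8,2,2]),(288,[]),(1662,[3,3,5,3,5,9,2]),(292,[]),(288,[]),(1638,[0,2,5,2,5,2,5,2]),(293,[]),(288,[])],[1,3,9,2,2,2,5,9]),
  (1,[3,11,23,7,11,23],[(2210,[])],[1,1,2,4,3,4,3,5]),
  (7,[22,16,19,17,19,17,17,3,7,11,9,33,11],[(1130,[8,2,5,3,5,3,3]),(116,[]),(160,[]),(104,[]),(2170,[0,5,8,2,2,4,2]),(1782,[0,3,4,2,5,3,3]),(292,[]),(288,[])],[3,4,2,1,3,5,9]),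
  (1,[3,1,19,7,11,18],[(2218,[])],[0,3,5,5,3,5,9]),
  (8,[14,16,16,16,22,15,16,16,16,3,7,11,9,33,11],[(1130,[0,2,2,2,8,1,2,2,2]),(104,[]),(161,[]),(116,[]),(1298,[2,2,5,5,5,2,2]),(293,[]),(1238,[1,1,2,2,5,3,3,5])],[5,2,5,5]),
  (1,[3,10,19,7,11,9],[(2226,[]),(293,[]),(288,[])],[8,2,5,9,3]),
  (9,[22,17,14,19,16,18,17,3,7,11,9,33,11],[(1130,[8,3,0,5,2,4,3]),(136,[]),(120,[]),(108,[]),(1282,[9,3,3,5,2,9,3,5]),(292,[]),(1562,[2,5,3,8,2,4])],[0,3,9,0,3]),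
  (1,[3,7,11,13,29,10,26],[(2234,[]),(293,[]),(288,[])],[4,3,4,3,4,3,5,5]),
  (9,[16,15,19,17,19,17,14,16,3,7,11,9,33,11],[(1130,[2,1,5,3,5,3,0,2]),(112,[]),(104,[]),(160,[]),(1282,[4,2,1,4,3,9,3,4]),(288,[]),(1702,[2,5,5,5,2,4,2]),(288,[])],[0,4,2,5,2,5,9]),
  (1,[3,7,17,28,10,27],[(2242,[]),(292,[]),(288,[])],[3,5,3,9,2,5,5]),
  (10,[17,19,17,17,18,16,18,3,7,11,9,33,11],[(1130,[3,5,3,3,4,2,4]),(366,[4,3,4,3,4]),(293,[]),(1090,[2,9,0,3,4])],[1,5,3,3,4,2,5]),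
  (1,[3,1,19,10,18],[(2250,[])],[4,2,8,3,0,9,2,5]),
  (11,[16,19,19,16,16,23,3,7,11,9,33,11],[(1130,[2,5,5,2,2,9]),(137,[]),(108,[]),(137,[]),(104,[]),(1486,[0,4,3,0,2,5,8]),(288,[]),(2158,[2,8,2,5,2,4,2,4]),(292,[])],[2,5,3,0,2,8,2,2]),
  (1,[3,11,19,22,10],[(2258,[]),(293,[]),(288,[])],[0,2,4,3,3,5,2,1]),
  (11,[17,17,19,22,16,19,23,14,3,7,11,9,33,11],[(1130,[3,3,5,8,2,5,9,0]),(160,[]),(136,[]),(104,[]),(2170,[0,0,5,9,3,5,3,4]),(293,[]),(288,[]),(1838,[0,0,4,2,1,4,2,5,2]),(292,[])],[4,2,8,2,8]),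
  (1,[3,1,28,16,3,7],[(2266,[]),(288,[])],[0,0,2,9,3,3,5]),
  (36,[14,23,17,19,22,16,19,16,3,7,11,9,33,11],[(1130,[0,9,3,5,8,2,5,2]),(137,[]),(120,[]),(112,[]),(1486,[5,2,4,2,2,9,2,1]),(292,[]),(1982,[5,2,5,5,2,2,8]),(288,[])],[8,2,4,2,5,2,8]),
  (1,[3,18,16,29,3,23],[(2274,[])],[0,8,2,8,3]),
  (37,[15,16,16,19,17,17,19,17,3,7,11,9,33,11],[(1130,[1,2,2,5,3,3,5,3]),(116,[]),(104,[]),(160,[]),(998,[2,2,2,4,2,5,3]),(292,[]),(288,[]),(1294,[1,4,2,9,3,4,3,9])],[0,0,0,2,2,4,2,2,4]),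
  (1,[3,7,11,19,29,11],[(2282,[])],[3,4,3,0,4,2,5]),
  (37,[15,16,19,16,15,19,17,22,3,7,11,9,33,11],[(1130,[1,2,5,2,1,5,3,8]),(136,[]),(120,[]),(104,[]),(1274,[4,2,1,5,8,3]),(292,[]),(1734,[1,2,2,9,3,3,4]),(293,[])],[2,8,3,4,3,5,3,0]),
  (1,[3,7,33,26,18,3],[(2290,[]),(292,[]),(288,[])],[0,3,5,5,2,5]),
  (37,[15,15,19,17,17,19,17,17,3,7,11,9,33,11],[(1130,[1,1,5,3,3,5,3,3]),(161,[]),(116,[]),(104,[]),(2170,[0,5,3,5,3,8,2,5]),(1730,[0,2,5,9,3,3,4,3])],[0,3,5,9,2,9,0,2]),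
  (1,[3,10,19,16,16,7],[(2298,[])],[1,4,3,5,8,2,2,4]),
  (39,[14,16,19,19,16,16,22,3,7,11,9,33,11],[(1130,[0,2,5,5,2,2,8]),(116,[]),(160,[]),(104,[]),(310,[2,4,3,3,8,3]),(293,[]),(1290,[0,0,3,8,2,4,2,8]),(292,[])],[3,4,3,8,2,5]),
  (1,[3,7,26,19,11],[(2306,[])],[0,3,4,2,5,3,3,8,3]),
  (3,[14,16,19,22,15,16,23,3,19,11,15,7],[(2026,[0,2,5,8,1,2,9]),(1950,[9,2,5,2,4,2,8]),(293,[]),(354,[0,8,3,4,2,2,2,8]),(136,[]),(112,[])],[2,5,2,4,3,3,4]),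
  (1,[3,1,7,10,32],[(2314,[]),(288,[])],[1,3,4,2,1,4,2,4]),
  (10,[14,16,18,17,19,16,18,16,3,19,11,15,7],[(2026,[0,2,4,3,5,2,4,2]),(292,[]),(288,[]),(1938,[4]),(982,[3,8,2,2,5,3,9]),(293,[])],[3,3,4,3,5,3]),
  (1,[3,19,16,32,27,7],[(2322,[])],[0,0,4,3,3,4,2]),
  (36,[14,16,22,16,19,16,22,17,3,19,11,15,7],[(2026,[0,2,8,2,5,2,8,3]),(288,[]),(1970,[9,3,4,2,2,2]),(292,[]),(288,[]),(1466,[2,2,5,2,2,8,3]),(292,[]),(288,[])],[0,2,5,2,8,3,0]),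
  (1,[3,28,10],[(2330,[]),(288,[])],[0,2,8,3,5,2,2,2,9]),
  (39,[16,23,16,16,19,17,22,3,19,11,15,7],[(2026,[2,9,2,2,5,3,8]),(2254,[0,2,4,3,3,5,3,8]),(293,[]),(288,[]),(1498,[0,9,2,5,8,2,2])],[1,1,2,5,2,5,2,2]),
  (1,[3,7,16,19,26,18],[(2338,[]),(288,[])],[0,2,4,3,3,5,2,8]),
  (10,[19,17,14,16,19,16,16,3,10,19,10,15],[(1342,[5,3,0,2,5,2,2]),(292,[]),(288,[]),(1286,[4,3,5,3,3,5,2,5]),(108,[]),(160,[]),(136,[]),(104,[]),(1126,[3,4,2,4,2,4,2]),(288,[])],[2,5,2,2,4,2,5]),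
  (1,[3,29,10,16,3],[(2346,[]),(293,[])],[4,3,0,2,4,2,9,3]),
  (8,[17,18,17,17,19,23,14,3,29,26,28,3],[(1870,[3,4,3,3,5,9,0]),(292,[]),(288,[]),(2238,[1,2,2,5,8,3,0,9]),(293,[]),(288,[]),(1326,[1,4,2,5,2,1,4,3]),(288,[])],[1,2,2,4,3,5,2,9]),
  (1,[3,29,16,16,7,11],[(2354,[]),(292,[]),(288,[])],[1,3,8,2,4,2,4]),
  (10,[23,17,18,17,23,16,3,29,26,28,3],[(1870,[9,3,4,3,9,2]),(293,[]),(2250,[5,9,0,3,5]),(2346,[1,3,4,3,8,1,8,3]),(292,[])],[1,2,4,2,8,3,5,2]),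
  (1,[3,7,26,10,32,10],[(2362,[])],[0,5,3,9,0,2]),
  (10,[14,22,17,22,16,19,16,18,3,29,26,28,3],[(1870,[0,8,3,8,2,5,2,4]),(2090,[0,4,2,8,2,2]),(2194,[2,1,8,3,3,5,2,9]),(292,[])],[9,3,5,2,2,5,2]),
  (1,[3,11,19,11],[(2370,[])],[3,5,2,1,3]),
  (37,[14,19,16,19,16,16,23,14,3,29,26,28,3],[(1870,[0,5,2,5,2,2,9,0]),(292,[]),(288,[]),(2126,[0,3,0,5,3,5,2]),(1450,[0,2,2,2,5,8,2,2]),(292,[]),(288,[])],[5,5,3,8,2,8]),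
  (1,[3,7,9,11,28,16,28],[(2378,[])],[1,2,2,4,2,9,3,5]),
  (3,[14,22,16,16,16,3,7,11,18,9,11],[(1838,[0,8,2,2,2]),(293,[]),(1202,[1,5,3,5,3,8,2,5]),(1290,[2,2,2,5,8,1,3,0]),(288,[])],[2,4,2,1,2,4,3]),
  (1,[3,7,5,17,28,10,27],[(2386,[])],[2,5,3,0,2,5,2,9]),
  (8,[16,22,15,22,16,19,3,7,11,18,9,11],[(1838,[2,8,1,8,2,5]),(288,[]),(1914,[0,3,5,3,9,0,3,5]),(622,[1,2,5,2,9,2,2,5]),(293,[]),(288,[])],[0,4,2,2,4,3,0,2]),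
  (1,[3,7,5,10,26],[(2394,[]),(292,[]),(288,[])],[1,1,3,5,2,4,3,4]),
  (8,[14,17,17,22,17,14,16,19,3,7,11,18,9,11],[(1838,[0,3,3,8,3,0,2,5]),(293,[]),(1726,[1,3,9,3,4,2,9,3,4]),(293,[]),(1494,[1,1,3,3,5,3,3,5]),(293,[])],[2,5,5,3,5,5]),
  (1,[3,29,3,11,13],[(2402,[]),(288,[])],[0,2,5,3,0,4,2,5]),
  (9,[16,22,16,18,17,23,17,22,3,7,11,18,9,11],[(1838,[2,8,2,4,3,9,3,8]),(292,[]),(2266,[2,4,2,1,2,5,2]),(293,[]),(288,[]),(1990,[3,3,4,2,5,2,9]),(293,[])],[0,5,3,5,9,0]),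
  (1,[3,7,11,18,26,19,26],[(2410,[]),(293,[])],[8,2,1,4,3,4,3]),
  (11,[22,17,19,17,17,23,14,3,7,11,18,9,11],[(1838,[8,3,5,3,3,9,0]),(292,[]),(288,[]),(2270,[0,3,4,3,5,3,0]),(292,[]),(1490,[1,3,9,2,5]),(137,[]),(120,[]),(108,[])],[3,4,3,3,5,9,2,9]),
  (1,[3,7,10,32,11],[(2418,[]),(292,[]),(288,[])],[0,4,3,4,3,5,3,8]),
  (12,[14,17,17,22,15,17,17,23,3,7,11,18,9,11],[(1838,[0,3,3,8,1,3,3,9]),(292,[]),(2266,[3,4,2,2,2,9,0,2]),(1842,[4,2,4,3,9,2]),(293,[])],[0,5,5,2,5,2,4,2]),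
  (1,[3,23,10,16,7,26],[(2426,[]),(293,[])],[0,3,5,8,2,5,5,9]),
  (13,[14,16,16,18,16,19,19,3,7,11,18,9,11],[(1838,[0,2,2,4,2,5,5]),(293,[]),(1202,[8,2,2,4,3]),(293,[]),(288,[]),(910,[1,1,5,3,5]),(292,[])],[4,2,2,4,2,1,5,3]),
  (1,[3,7,5,17,19,10,18],[(2434,[]),(292,[]),(288,[])],[3,4,2,5,8]),
  (17,[16,22,17,17,18,17,22,15,3,7,11,18,9,11],[(1838,[2,8,3,3,4,3,8,1]),(918,[2,9,3,4,2,9]),(293,[]),(288,[])],[1,2,5,3,3,4,3]),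
  (1,[3,23,11,18],[(2442,[])],[5,3,8,2,4,2,5]),
  (37,[14,16,16,16,22,15,17,3,7,11,18,9,11],[(1838,[0,2,2,2,8,1,3]),(293,[]),(2362,[0,3,8,2,5,5,8,3]),(292,[]),(1206,[0,0,3,3,4,2,2,5]),(293,[])],[2,8,2,5,3,3,5,9]),
  (1,[3,1,7,27,23,16,3],[(2450,[])],[0,0,5,2,9,0,3]),
  (37,[14,16,15,17,18,16,16,18,3,7,11,18,9,11],[(1838,[0,2,1,3,4,2,2,4]),(292,[]),(1106,[3,5,9,0,2,5]),(293,[]),(288,[]),(1042,[0,5,9,3,5,2])],[5,3,3,4,2,9]),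
  (1,[3,7,17,23,11,9,11],[(2458,[]),(293,[])],[5,2,2,4,2,1,3,5]),
  (43,[17,17,19,23,14,16,16,3,7,11,18,9,11],[(1838,[3,3,5,9,0,2,2]),(1234,[4,3,4,3,5,3,4]),(288,[]),(910,[5,9,2]),(292,[])],[3,5,3,0,4,2,2,5]),
  (1,[3,29,3,26,7,26],[(2466,[])],[2,5,2,9,3,5,8,2]),
  (8,[17,22,16,22,3,7,11,18,9,10],[(1878,[3,8,2,8]),(1878,[0,8,2,2,2,5,2,5]),(293,[]),(1426,[0,8,2,2,2,4,3,9]),(292,[])],[0,5,2,8,3,9,0,2,5]),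
  (1,[3,19,26,3,19,7],[(2474,[]),(293,[]),(288,[])],[2,5,5,9,2,5]),
  (12,[18,16,19,22,17,14,19,17,3,7,11,18,9,10],[(1878,[4,2,5,8,3,0,5,3]),(978,[1,2,2,8,3,4,3,3]),(654,[8,1,2,2,2,8])],[0,5,3,3,9,2,8]),
  (1,[3,10,29,10,17,3],[(2482,[]),(293,[]),(288,[])],[1,4,2,2,8,2,9]),
  (17,[18,16,19,19,22,16,19,3,7,11,18,9,10],[(1878,[4,2,5,5,8,2,5]),(2246,[5,9,2,8,2,1]),(293,[]),(288,[])],[2,2,8,1,3,0]),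
  (1,[3,19,7,26,18],[(2490,[])],[5,2,5,2,4,2]),
  (17,[14,23,16,19,16,15,3,1,18,16,19,3],[(1306,[0,9,2,5,2,1]),(293,[]),(378,[1,5,3,4,3,5,9,3]),(256,[]),(264,[]),(256,[]),(252,[]),(248,[])],[1,2,2,5,2,5,9,0]),
  (1,[3,1,19,7,11],[(2498,[])],[1,2,5,3,3,4,2,1]),
  (42,[17,18,17,19,22,17,17,19,3,1,18,16,19,3],[(1306,[3,4,3,5,8,3,3,5]),(292,[]),(288,[]),(2262,[0,5,2,2,9,3,3]),(292,[]),(2190,[1,2,2,8,3,0]),(292,[])],[8,2,4,2,2,2,9,0]),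
  (1,[3,1,7,17,23,11,12],[(2506,[])],[0,3,5,5,5,2,2,2]),
  (2,[19,23,16,18,16,23,3,1,18,26,18,3],[(1714,[5,9,2,4,2,9]),(292,[]),(1498,[0,9,3,4,3,5,9]),(292,[]),(1722,[8,3,0,4,3,8]),(293,[])],[2,2,2,5,2,9,3]),
  (1,[3,29,3,11,16,22],[(2514,[])],[3,5,3,8,2,4]),
  (2,[17,17,18,17,14,18,16,3,1,18,26,18,3],[(1714,[3,3,4,3,0,4,2]),(292,[]),(1526,[0,5,2,5,8,2,2]),(288,[]),(1266,[1,5,8,3,5,8,2,2]),(292,[])],[2,9,3,3,5,3,5,9]),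
  (1,[3,18,17,28,3,1],[(2522,[]),(293,[]),(288,[])],[3,0,5,3,5,8,2,5]),
  (8,[19,16,23,14,16,3,1,18,26,18,3],[(1714,[5,2,9,0,2]),(293,[]),(850,[1,5,2,4,2,2,5,3]),(292,[]),(288,[]),(1638,[5,5,2,2,8,3])],[8,2,1,5,3,5,5]),
  (1,[3,7,11,29,27,7],[(2530,[]),(288,[])],[0,0,4,2,4,2,8,1]),
  (14,[14,19,23,17,17,18,3,1,18,26,18,3],[(1714,[0,5,9,3,3,4]),(292,[]),(1314,[3,9,3,4,3,5])],[5,2,5,9,3,3,4]),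
  (1,[3,11,23,11,18,7],[(2538,[])],[0,3,0,5,2,5,2,8]),
  (37,[14,22,16,18,17,17,23,3,1,18,26,18,3],[(1714,[0,8,2,4,3,3,9]),(292,[]),(702,[1,3,5,3,5,3,0,5]),(2078,[0,3,5,3,5,5,3,4]),(292,[]),(288,[])],[5,2,2,4,3,4,3]),
  (1,[3,7,16,11,33,11],[(2546,[]),(292,[]),(288,[])],[2,9,2,4]),
  (2,[14,16,22,17,18,17,19,3,11,29,16,29,3],[(1278,[0,2,8,3,4,3,5]),(1486,[3,8,2,4,2,5,5]),(1850,[0,2,1,5,3,8,1]),(292,[]),(288,[])],[0,2,1,8,2,2,2]),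
  (1,[3,7,9,11,28,22,10],[(2554,[])],[5,2,5,5,3,3]),
  (3,[14,19,22,16,18,16,16,23,3,11,29,16,29,3],[(1278,[0,5,8,2,4,2,2,9]),(1486,[0,5,3,5,5,3,5,3]),(292,[]),(2266,[1,5,3,9,3,4,3,9]),(293,[])],[0,3,5,5,2,2,4]),
  (1,[3,1,7,27,18],[(2562,[])],[0,9,0,3]),
  (11,[15,22,17,18,16,16,3,11,29,16,29,3],[(1278,[1,8,3,4,2,2]),(161,[]),(116,[]),(104,[]),(706,[3,5,3,5,5,2,2]),(2542,[0,2,1,3,5,9])],[1,5,3,5,3,5]),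
  (1,[3,28,10,15,3],[(2570,[]),(288,[])],[1,2,4,3,5,2,4]),
  (12,[23,16,18,16,15,18,17,3,11,29,16,29,3],[(1278,[9,2,4,2,1,4,3]),(137,[]),(160,[]),(350,[2,2,9,2,5,8]),(754,[8,3,4,3,5,3,8]),(292,[]),(288,[])],[5,3,3,5,3,4]),
  (1,[3,1,23,3,10],[(2578,[]),(292,[]),(288,[])],[5,2,2,2,9,2,1]),
  (17,[15,19,17,23,16,16,3,11,29,16,29,3],[(1278,[1,5,3,9,2,2]),(2418,[2,1,4,3,4,2,5]),(293,[])],[3,0,2,8,2,4,3]),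
  (1,[3,7,17,33,17,10],[(2586,[])],[4,3,8,2,5,3,9,0]),
  (36,[14,23,16,16,19,17,22,16,3,11,29,16,29,3],[(1278,[0,9,2,2,5,3,8,2]),(112,[]),(161,[]),(136,[]),(2418,[0,0,5,2,5,9,3,8]),(292,[]),(288,[]),(1810,[1,2,5,3,3,4,3]),(292,[])],[0,2,4,3,3,9,2,4]),
  (1,[3,7,16,32,11,13],[(2594,[]),(292,[]),(288,[])],[0,8,1,8,2,5,2,2]),
  (37,[19,19,16,18,16,15,18,3,11,29,16,29,3],[(1278,[5,5,2,4,2,1,4]),(120,[]),(161,[]),(137,[]),(2314,[2,8,3,5,3,4,3,5]),(292,[]),(2282,[0,2,4,2,8,2,4,2])],[1,3,8,2,2,4,2]),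
  (1,[3,11,19,17,33,3],[(2602,[]),(288,[])],[8,3,4,2,2,5,2]),
  (39,[17,14,16,22,16,3,11,29,16,29,3],[(1278,[3,0,2,8,2]),(116,[]),(161,[]),(104,[]),(2314,[2,2,5,2,2,8,3,5]),(1250,[2,8,1,2,2,5,2])],[1,2,5,9,2,5]),
  (1,[3,7,15,16,18],[(2610,[]),(288,[])],[3,0,2,5]),
  (11,[15,17,14,19,16,16,18,3,19,27,3,7],[(1766,[1,3,0,5,2,2,4]),(766,[0,2,5,8,2,1,8,2,2]),(694,[1,2,4,2,8,2,5])],[1,2,5,3,3,9]),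
  (1,[3,7,33,26,7,16],[(2618,[]),(293,[])],[0,0,5,9,3,4,3,8]),
  (36,[16,22,15,22,16,19,16,16,3,19,27,3,7],[(1766,[2,8,1,8,2,5,2,2]),(292,[]),(2266,[2,4,2,5,8,3,9]),(288,[]),(2146,[3,4,2,2,4,2,2,9]),(292,[]),(288,[])],[4,3,4,3,0,2,5,8]),
  (1,[3,11,28,3,27,11],[(2626,[]),(288,[])],[5,8,3,0,5,2,8]),
  (37,[16,19,17,17,19,16,22,3,19,27,3,7],[(1766,[2,5,3,3,5,2,8]),(293,[]),(2362,[3,4,2,2,4,2,2,8]),(293,[]),(1618,[1,3,4,3,9,2,1]),(293,[]),(288,[])],[0,8,2,5,9,3,3]),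
  (1,[3,7,16,28,26,3],[(2634,[]),(288,[])],[3,3,5,3,9,3,5]),
  (37,[18,16,15,17,19,23,3,19,27,3,7],[(1766,[4,2,1,3,5,9]),(292,[]),(1806,[0,2,2,8,2,1,2]),(293,[]),(986,[0,5,3,3,8,3,5]),(292,[]),(288,[])],[0,0,2,4,2,2,5,5,9]),
  (1,[3,1,7,17,33,10],[(2642,[]),(293,[])],[0,9,2,2,2,4,3,8]),
  (2,[18,16,22,16,18,16,18,3,7,11,9,33,10],[(782,[4,2,8,2,4,2,4]),(292,[]),(1026,[5,5,3,4,3,9,2]),(1634,[3,0,4,2,2]),(293,[])],[0,0,2,2,2,5,2,8]),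
  (1,[3,23,3,11,33,3],[(2650,[]),(288,[])],[1,4,3,5,2,2,2,4]),
  (3,[19,17,23,16,15,18,17,3,7,11,9,33,10],[(782,[5,3,9,2,1,4,3]),(292,[]),(1722,[0,4,3,0,5,2,1]),(292,[]),(782,[0,9,2,5,2,4,2,9]),(292,[]),(288,[])],[3,3,5,3,0,5,2,5]),
  (1,[7,16,3,28,26],[(2658,[])],[5,8,1,3,9,2]),
  (7,[19,19,16,22,16,3,7,11,9,33,10],[(782,[5,5,2,8,2]),(288,[]),(1454,[4,2,2,2,4]),(1158,[9,0,2,2,2,4,2])],[3,3,5,2,4,2,1,2]),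
  (1,[3,29,3,16,29],[(2666,[])],[0,5,5,9,2,5]),
  (9,[14,22,17,19,23,14,16,3,7,11,9,33,10],[(782,[0,8,3,5,9,0,2]),(292,[]),(1026,[3,4,3,9,2]),(288,[]),(2670,[8,2,4,3,3,5])],[0,4,2,4,2,1,5,3,3]),
  (1,[3,11,19,7,10,19],[(2674,[]),(288,[])],[3,3,4,3,5,5]),
  (36,[17,17,18,17,23,16,3,7,11,9,33,10],[(782,[3,3,4,3,9,2]),(2602,[8,3,4,2,5,9]),(288,[]),(510,[0,5,3,3,5,5,3,8]),(292,[])],[0,0,3,5,3,5,3,0,2]),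
  (1,[3,7,26,29,17,11],[(2682,[])],[4,3,9,2,5,2]),
  (38,[23,17,19,16,16,16,18,3,7,11,9,33,10],[(782,[9,3,5,2,2,2,4]),(292,[]),(288,[]),(2682,[4,2,2,5,2,1,5]),(1550,[4,3,5,2,4,2,2]),(293,[])],[1,3,5,8,3,4,2]),
  (1,[3,29,16,18,3],[(2690,[]),(292,[])],[0,9,3,4,3,9,2,5]),
  (38,[18,16,19,19,22,16,19,23,3,7,11,9,33,10],[(782,[4,2,5,5,8,2,5,9]),(292,[]),(2022,[0,3,8,2,8,3,4,2]),(293,[]),(288,[]),(1542,[2,9,2,4,2,2,2,9]),(293,[]),(288,[])],[4,2,8]),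
  (1,[3,7,10,29,11,16],[(2698,[]),(293,[]),(288,[])],[2,1,3,5,9,3,5]),
  (40,[14,19,17,17,19,22,16,15,17,3,7,11,9,33,10],[(782,[0,5,3,3,5,8,2,1,3]),(2270,[3,3,8,3,3,4]),(288,[]),(2338,[0,0,4,3,3,4,3,3]),(292,[]),(288,[])],[1,1,4,2,5,2]),
  (1,[7,11,16,7,27],[(2706,[])],[2,5,2,9,2,2]),
  (41,[18,17,22,16,15,19,22,3,7,11,9,33,10],[(782,[4,3,8,2,1,5,8]),(292,[]),(288,[]),(2378,[5,3,3,4,3,5,8,1]),(293,[]),(288,[]),(514,[0,8,1,3,5,3,3,4])],[5,9,2,2]),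
  (1,[3,10,22,7,11,19],[(2714,[])],[1,3,5,2,4,3,4]),
  (41,[17,22,17,18,16,23,14,3,7,11,9,33,10],[(782,[3,8,3,4,2,9,0]),(292,[]),(2450,[1,5,3,4,3,3,4]),(293,[]),(1554,[1,5,2,4,2,4,3,3]),(293,[]),(288,[])],[3,5,5,2,9,3]),
  (1,[3,7,9,26,28,16],[(2722,[])],[3,5,2,9,3,4,3]),
  (2,[17,18,17,19,22,17,17,3,7,11,9,32,10],[(1918,[3,4,3,5,8,3,3]),(1502,[5,2,5,5,5,3,3]),(293,[]),(2430,[0,4,3,0,4,2,4])],[0,5,9,2,8,1,3]),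
  (1,[3,11,11,19,10,18],[(2730,[])],[3,4,3,0,2]),
  (13,[15,17,18,16,16,23,14,17,3,7,11,9,32,10],[(1918,[1,3,4,2,2,9,0,3]),(292,[]),(288,[]),(2710,[0,0,4,2,8,3,8]),(293,[]),(288,[]),(1070,[0,5,2,9,3,8]),(293,[])],[2,8,1,3,4,3,0,5]),
  (1,[3,7,29,27,7],[(2738,[])],[0,8,2,2,2,5,3,9]),
  (13,[14,19,19,22,16,15,19,3,7,11,9,32,10],[(1918,[0,5,5,8,2,1,5]),(292,[]),(288,[]),(2710,[0,5,2,2,9,0,3,3]),(292,[]),(288,[]),(2058,[3,4,3,0,9,2,4]),(293,[]),(288,[])],[2,1,4,3,3,9,2]),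
  (1,[3,7,29,11,26,7],[(2746,[])],[4,2,9,0,2,2]),
  (39,[14,17,14,16,22,17,19,3,7,11,9,32,10],[(1918,[0,3,0,2,8,3,5]),(292,[]),(288,[]),(2670,[1,4,2,2,9,3,3,8]),(292,[]),(2178,[1,3,5,3,5,9,3]),(288,[])],[0,2,9,3,3,5,3,8]),
  (1,[3,10,22,26,7,26],[(2754,[])],[5,2,4,2,5,2,2]),
  (2,[14,18,16,16,18,16,16,18,3,7,33,11,15],[(1166,[0,4,2,2,4,2,2,4]),(292,[]),(722,[1,2,2,4,2,9,0,3]),(292,[]),(718,[5,9,2,2,4,2]),(292,[])],[0,2,5,5,3]),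
  (1,[3,7,17,33,26,17],[(2762,[]),(292,[])],[0,3,8,2,1,4,3]),
  (3,[14,19,16,22,17,18,17,23,3,7,33,11,15],[(1166,[0,5,2,8,3,4,3,9]),(288,[]),(2702,[1,5,3,3,5,2,5,2]),(293,[]),(1818,[2,4,2,2,5]),(292,[]),(288,[])],[5,3,3,5,5,3,8])]
theorem hD4 : allD2 lk B KW SW F A RL [] D4 550 = true := by decide +kernel
def D5 : List (ℕ × Word × List (ℕ × Word) × Word) := [(1,[3,10,28,7,10],[(2770,[]),(292,[]),(288,[])],[0,3,4,2,8,3,4]),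
  (6,[22,17,17,19,17,19,17,3,7,33,11,15],[(1166,[8,3,3,5,3,5,3]),(292,[]),(722,[2,4,2,9,3,4,3,9]),(2534,[1,2,2,8,2,1,2,5]),(292,[])],[3,4,2,5,3,5,3,4]),
  (1,[3,7,5,29,27,7],[(2778,[]),(292,[]),(288,[])],[4,2,1,8,2,2,2]),
  (6,[15,22,17,19,17,17,23,3,7,33,11,15],[(1166,[1,8,3,5,3,3,9]),(292,[]),(1434,[0,3,3,5,5,2,5,2,9]),(293,[]),(1902,[2,1,4,3,5,3,5,9]),(288,[])],[0,3,3,5,5,9,2,5]),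
  (1,[3,10,22,7,11,9],[(2786,[]),(292,[]),(288,[])],[8,2,9,2,5,2]),
  (6,[18,16,19,22,17,19,16,3,7,33,11,15],[(1166,[4,2,5,8,3,5,2]),(1138,[3,9,3,3,5,3,9,0]),(292,[]),(288,[]),(2586,[0,3,0,5,3,5,3,5]),(292,[]),(288,[])],[5,9,3,4,3,3,4]),
  (1,[3,10,23,7,10,19],[(2794,[]),(292,[])],[5,5,3,5,5,5]),
  (13,[14,19,17,19,17,17,18,3,7,33,11,15],[(1166,[0,5,3,5,3,3,4]),(288,[]),(2702,[3,3,4,2,5,2]),(293,[]),(288,[]),(2294,[0,2,9,0,2,5])],[3,3,5,8,1,3,5,9]),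
  (1,[7,27,3,29,11,27],[(2802,[]),(292,[]),(288,[])],[0,2,8,3,3,8,2,2]),
  (14,[14,23,17,17,18,17,17,23,3,7,33,11,15],[(1166,[0,9,3,3,4,3,3,9]),(288,[]),(990,[3,4,2,2,4,2,9])],[0,2,2,2,5,2,2,5,3]),
  (1,[3,11,18,16,18],[(2810,[]),(292,[]),(288,[])],[0,2,1,3,5,2,1]),
  (36,[14,16,16,22,15,16,16,23,3,7,33,11,15],[(1166,[0,2,2,8,1,2,2,9]),(292,[]),(838,[0,5,5,2,1,3]),(293,[]),(288,[]),(1162,[0,0,9,2,2,2,5,2]),(288,[])],[4,2,8,2,5,3,9,2]),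
  (1,[3,7,15,26,28,26],[(2818,[]),(292,[])],[0,4,3,4,2,5,2]),
  (38,[17,19,16,19,19,19,17,3,7,33,11,15],[(1166,[3,5,2,5,5,5,3]),(292,[]),(2474,[5,2,2,4,2,9,3]),(293,[]),(288,[]),(2782,[4,3,3,8,2]),(292,[]),(288,[])],[0,0,2,5,2,9,3,5,3]),
  (1,[3,28,3,16,18],[(2826,[]),(293,[])],[1,3,4,3,5,3,3]),
  (39,[14,16,22,16,19,23,17,17,3,7,33,11,15],[(1166,[0,2,8,2,5,9,3,3]),(293,[]),(1270,[1,3,5,3,8,2,2,2]),(1166,[2,8,3,3,9,3,4]),(292,[]),(288,[])],[5,2,2,8,2,1,2,5]),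
  (1,[3,7,29,27,28,3,18],[(2834,[]),(292,[])],[2,8,2,2,9,2,5,2]),
  (6,[19,19,17,23,17,17,3,7,33,10,15],[(1638,[5,5,3,9,3,3]),(1022,[0,5,8,2,4,2,2,9]),(293,[]),(1566,[3,3,5,2,1,3,9]),(288,[])],[2,5,5,2,2,2,8]),
  (1,[3,7,5,10,17,18],[(2842,[]),(293,[])],[2,1,4,3,8,1]),
  (7,[14,19,17,17,19,23,17,3,7,33,10,15],[(1638,[0,5,3,3,5,9,3]),(292,[]),(1646,[4,3,5,3,8,3]),(293,[]),(606,[5,5,5,3,0]),(293,[]),(288,[])],[0,3,0,2,5,8,2,2]),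
  (1,[3,7,11,33,11,26,18],[(2850,[]),(292,[]),(288,[])],[2,2,5,2,1,3,5]),
  (13,[19,23,14,16,18,16,16,19,3,7,33,10,15],[(1638,[5,9,0,2,4,2,2,5]),(293,[]),(2226,[5,2,2,4,2,9,3]),(293,[]),(2066,[0,4,2,5,5,5]),(292,[])],[1,3,5,8,1,3,3]),
  (1,[3,7,10,16,19],[(2858,[]),(292,[]),(288,[])],[0,4,3,3,5,2,1,3]),
  (14,[18,16,23,16,16,18,17,3,7,33,10,15],[(1638,[4,2,9,2,2,4,3]),(1602,[3,8,1,2,2,2,5,3]),(293,[])],[0,4,2,9,2,2,4]),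
  (1,[3,29,3,26,29],[(2866,[]),(292,[]),(288,[])],[2,9,2]),
  (40,[16,19,17,18,16,16,19,17,3,7,33,10,15],[(1638,[2,5,3,4,2,2,5,3]),(292,[]),(1870,[4,3,3,5,9,2,2]),(292,[]),(1722,[0,2,2,5,9,2,9,3]),(292,[])],[1,3,8,1,2,5,2,5]),
  (1,[3,1,7,10,28,10],[(2874,[]),(292,[])],[5,2,4,2,5,9,3]),
  (43,[14,19,17,18,17,14,18,3,7,33,10,15],[(1638,[0,5,3,4,3,0,4]),(1458,[0,8,3,8,3]),(292,[]),(288,[]),(2714,[0,3,3,5,8,2,1,8]),(293,[])],[2,4,3,4,3,5,2]),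
  (1,[3,7,10,10,29,27],[(2882,[]),(292,[]),(288,[])],[2,8,2,1,8,3,5]),
  (6,[15,16,16,18,17,19,17,18,3,7,33,10,14],[(1170,[1,2,2,4,3,5,3,4]),(288,[]),(1458,[8,2,2,5,3,8,2]),(292,[]),(1730,[1,5,8,2,4,2,5]),(292,[]),(288,[])],[0,8,1,3,5,5,5]),
  (1,[3,19,7,11],[(2890,[]),(292,[]),(288,[])],[8,3,0,5,2,9]),
  (8,[14,19,19,16,16,16,19,3,7,33,10,14],[(1170,[0,5,5,2,2,2,5]),(288,[]),(1682,[5,9,3,3,4,3,8]),(288,[]),(1786,[3,3,5,2,8,1,3]),(293,[])],[3,3,5,3,3,5]),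
  (1,[3,1,18,16,7],[(2898,[])],[2,1,5,3]),
  (9,[17,22,16,18,16,18,16,3,7,33,10,14],[(1170,[3,8,2,4,2,4,2]),(874,[5,8,2,4,2,2,5,8]),(762,[5,2,2,4,2,2,9]),(292,[]),(288,[])],[8,2,2,5,2,4]),
  (1,[7,26,7,17,3,11],[(2906,[]),(292,[])],[0,2,4,2,2,5,8,1]),
  (11,[14,16,18,16,19,22,16,23,3,7,33,10,14],[(1170,[0,2,4,2,5,8,2,9]),(292,[]),(288,[]),(1418,[3,9,3,5,2,9,3]),(292,[]),(288,[]),(2006,[0,3,4,3,9,2,5,3])],[8,2,4,2,2,5,5]),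
  (1,[3,29,10,9,10],[(2914,[]),(293,[])],[2,5,8,3,4,3,4,3]),
  (11,[17,17,19,17,18,3,7,33,10,14],[(1170,[3,3,5,3,4]),(293,[]),(830,[0,2,5,3,4,3,3,4]),(292,[]),(826,[0,2,9,3,3,8]),(288,[])],[1,3,8,2,1,5,3,5]),
  (1,[3,1,23,7,10,13],[(2922,[]),(288,[])],[2,2,5,8,1,2,9]),
  (36,[16,19,17,23,14,16,3,7,33,10,14],[(1170,[2,5,3,9,0,2]),(292,[]),(288,[]),(1442,[2,1,5,3,9,3,3,9]),(293,[]),(2842,[4,3,9,3,3,8,3]),(293,[]),(288,[])],[8,3,5,2,8,3]),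
  (1,[3,1,7,11],[(2930,[]),(292,[])],[5,2,4,2,4,3,8]),
  (36,[14,18,17,19,17,14,19,16,3,7,33,10,14],[(1170,[0,4,3,5,3,0,5,2]),(292,[]),(288,[]),(1178,[2,8,3,5,2,9,3,5]),(292,[]),(288,[]),(2894,[0,3,3,9,2,2]),(288,[])],[0,3,9,2,5,8,1]),
  (1,[3,23,10,23,3],[(2938,[]),(292,[]),(288,[])],[2,2,2,5,5,2,1,3]),
  (8,[14,19,17,22,16,16,16,3,7,10,17,19,23],[(1182,[0,5,3,8,2,2,2]),(2262,[1,8,3,5,8,2,5]),(293,[]),(2622,[4,3,8,2,1,5])],[3,3,5,2,4,2]),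
  (1,[3,23,10,23,7],[(2946,[]),(293,[])],[4,3,8,1,2,5]),
  (9,[19,17,18,17,23,16,15,3,7,10,17,19,23],[(1182,[5,3,4,3,9,2,1]),(288,[]),(1630,[0,4,3,0,4]),(288,[]),(2890,[0,0,3,4,3,3,9]),(293,[])],[1,8,2,4,3,5,2]),
  (9,[17,17,19,16,18,16,22,17,3,7,10,17,19,23],[(1182,[3,3,5,2,4,2,8,3]),(750,[0,5,2,4,2,1,5]),(293,[]),(1646,[0,3,3,4,3,5,9]),(288,[])],[1,4,3,9,3,3,9]),
  (1,[3,11,28,10,9,7],[(2958,[])],[9,2,1,4,2,5]),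
  (17,[15,16,19,17,19,17,18,17,3,7,10,17,19,23],[(1182,[1,2,5,3,5,3,4,3]),(1590,[0,4,2,8,2,5,3,9])],[2,2,5,2,8,2,5]),
  (1,[3,7,26,18,26,26],[(2966,[])],[1,5,8,3,5,3,4]),
  (6,[17,19,16,15,16,18,17,3,29,10,16,3],[(2346,[3,5,2,1,2,4,3]),(288,[]),(930,[3,8,1,2,4,2,5,2]),(257,[]),(264,[]),(257,[]),(248,[]),(414,[1,3,9,2,5,9,3,8]),(292,[])],[0,3,5,2,8,2,1,4]),
  (1,[3,7,27,19,17,17],[(2974,[]),(288,[])],[0,2,1,3,5,3,4,3,0]),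
  (8,[17,14,19,16,22,16,19,23,3,29,10,16,3],[(2346,[3,0,5,2,8,2,5,9]),(293,[]),(1666,[5,2,2,8,2]),(2086,[0,2,4,2,9,0,3])],[0,2,5,2,1,8]),
  (1,[3,11,29,7,10,26],[(2982,[]),(288,[])],[2,5,2,8,3,5,5]),
  (8,[17,14,16,19,17,23,16,23,3,29,10,16,3],[(2346,[3,0,2,5,3,9,2,9]),(293,[]),(288,[]),(2526,[0,4,2,1,4,3,3,5,3]),(293,[]),(1398,[0,4,3,3,4,2]),(288,[])],[0,0,0,3,4,3,5]),
  (1,[3,1,10,28,7,10],[(2990,[]),(292,[]),(288,[])],[2,8,2,1,4,2,9,3]),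
  (9,[14,23,16,16,16,18,17,3,29,10,16,3],[(2346,[0,9,2,2,2,4,3]),(293,[]),(2130,[3,8,1,3,5,9]),(292,[]),(288,[]),(2758,[3,8,1,3,3,4,3]),(288,[])],[5,2,9,2,4,2,1]),
  (1,[3,1,7,27,22,11],[(2998,[]),(293,[]),(288,[])],[4,3,5,5,3,5,9,3]),
  (10,[22,15,22,3,29,10,16,3],[(2346,[8,1,8]),(293,[]),(494,[1,5,2,2,9,0,3,5]),(293,[]),(2378,[0,5,3,5,5,9,2]),(293,[]),(288,[])],[3,5,3,8,2,5,2]),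
  (1,[3,7,10,26],[(3006,[]),(288,[])],[0,5,3,4,2,2,2,5]),
  (14,[16,19,17,17,19,17,23,3,29,10,16,3],[(2346,[2,5,3,3,5,3,9]),(2266,[8,1,2,5,2,1])],[2,2,8,1,2,4]),
  (1,[3,7,5,29,10,17],[(3014,[])],[1,2,2,5,5,2,2]),
  (17,[14,19,22,17,19,17,3,29,10,16,3],[(2346,[0,5,8,3,5,3]),(1806,[5,3,5,2,4,2,4]),(292,[]),(288,[])],[2,5,3,3,8]),
  (1,[3,1,11,28,17,27],[(3022,[])],[0,8,2,1,2,5,2,5,9]),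
  (36,[14,18,16,16,16,19,16,22,3,29,10,16,3],[(2346,[0,4,2,2,2,5,2,8]),(293,[]),(2962,[0,2,5,3,3,5,8,3]),(288,[]),(1994,[0,3,4,3,8,3,3,9])],[0,2,5,3,0,5,2]),
  (1,[3,7,10,16,32,11],[(3030,[]),(293,[]),(288,[])],[0,3,9,2,4,3]),
  (37,[14,17,18,16,16,23,14,3,29,10,16,3],[(2346,[0,3,4,2,2,9,0]),(293,[]),(1226,[1,3,5,8,2,5,8,3]),(293,[]),(2150,[0,0,5,2,2,2])],[8,1,2,2,5,2,5,2]),
  (1,[3,7,11,15,28,16],[(3038,[])],[2,2,8,3,4,3,3,4]),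
  (37,[14,16,19,17,17,19,19,3,29,10,16,3],[(2346,[0,2,5,3,3,5,5]),(293,[]),(1834,[3,5,3,5,5,8,2]),(2146,[3,3,5,2,1,3,4]),(288,[])],[2,8,3,0,4,2,2]),
  (1,[3,7,16,29,3,11],[(3046,[])],[9,2,4,3,5,3,9]),
  (37,[14,14,18,17,17,22,17,19,3,29,10,16,3],[(2346,[0,0,4,3,3,8,3,5]),(293,[]),(918,[9,3,5,3,5,9,2]),(292,[]),(288,[]),(1074,[0,2,5,3,3,8,1])],[4,3,5,8,2,1,5,2]),
  (1,[7,16,7,10,17,7],[(3054,[])],[0,0,4,3,8,2,4]),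
  (37,[19,16,16,19,17,22,15,22,3,29,10,16,3],[(2346,[5,2,2,5,3,8,1,8]),(292,[]),(1490,[2,1,3,4,3,5]),(120,[]),(161,[]),(137,[]),(1298,[5,2,2,2,4,2,4])],[2,8,3,0,2,4,3]),
  (1,[3,10,19,7,10],[(3062,[]),(293,[])],[8,2,4,2,2,2,5,8]),
  (39,[17,17,22,16,18,3,29,10,16,3],[(2346,[3,3,8,2,4]),(293,[]),(2138,[0,4,3,8,1,2,9]),(293,[]),(288,[]),(974,[0,5,9,2,1,5]),(293,[]),(288,[])],[1,3,4,3,8,2,1]),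
  (1,[3,19,17,10,27],[(3070,[])],[9,2,5,2,2,5,8,1]),
  (40,[16,16,19,16,19,23,17,22,3,29,10,16,3],[(2346,[2,2,5,2,5,9,3,8]),(293,[]),(1762,[2,1,5,3,5,9,2,1]),(1070,[1,2,2,8,2,1]),(293,[]),(288,[])],[0,4,3,9,3,3,4,3]),
  (1,[3,19,11],[(3078,[])],[0,0,3,5,2,4,3,4,3]),
  (43,[15,19,16,23,17,18,16,3,29,10,16,3],[(2346,[1,5,2,9,3,4,2]),(288,[]),(2898,[1,2,5,2,5,9,3]),(288,[]),(1826,[2,1,4,2,4,2,5,9]),(288,[])],[2,4,2,9,3,5,2,2]),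
  (1,[3,19,27,33,3,10],[(3086,[]),(293,[])],[5,2,2,8,3,4,2]),
  (2,[15,19,16,19,16,18,16,3,7,26,10,19,22],[(1662,[1,5,2,5,2,4,2]),(293,[]),(288,[]),(506,[3,3,5,8,2,1,8]),(1738,[2,4,2,1,2,4]),(293,[])],[4,3,5,9,2,2]),
  (1,[3,10,22,7,10,9],[(3094,[]),(293,[]),(288,[])],[0,0,4,2,1,4,2,4]),
  (6,[15,18,17,19,16,16,18,3,7,26,10,19,22],[(1662,[1,4,3,5,2,2,4]),(288,[]),(3022,[9,2,4,2,5,2,1]),(292,[]),(288,[]),(2666,[0,0,4,2,5,2,5,8]),(293,[]),(288,[])],[5,8,1,3,5,3,8]),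
  (1,[3,28,16,19,3,28],[(3102,[]),(292,[]),(288,[])],[0,8,1,3,3,4]),
  (6,[14,18,17,18,17,22,16,18,3,7,26,10,19,22],[(1662,[0,4,3,4,3,8,2,4]),(288,[]),(3022,[0,5,3,4,3,4,3,8]),(292,[]),(1314,[0,3,5,2,8,2,5,8]),(288,[])],[1,2,2,9,0,2,2]),
  (1,[3,7,26,19,11,15],[(3110,[]),(288,[])],[1,4,3,5,2,2,4]),
  (7,[14,16,23,16,18,16,23,3,7,26,10,19,22],[(1662,[0,2,9,2,4,2,9]),(2538,[2,9,0,3,5,2,4,2]),(292,[]),(288,[]),(2486,[2,1,8,3,5,3,9]),(292,[]),(288,[])],[1,3,4,3,5,3,0,2]),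
  (1,[3,1,29,10,28,7,26],[(3118,[]),(288,[])],[3,0,2,4,3,5,2,4]),
  (8,[17,19,17,22,16,16,18,3,7,26,10,19,22],[(1662,[3,5,3,8,2,2,4]),(292,[]),(288,[]),(2258,[5,8,1,2,5]),(3038,[2,5,8,2,9,0]),(292,[])],[4,3,3,9,2,2,2]),
  (1,[3,19,16,11,19,3],[(3126,[]),(293,[])],[2,5,2,2,9,0,2]),
  (8,[18,17,14,23,16,18,17,19,3,7,26,10,19,22],[(1662,[4,3,0,9,2,4,3,5]),(292,[]),(288,[]),(2998,[2,5,2,9,2,4,3,9]),(1998,[2,4,3,4,3,4,3,0,5]),(292,[])],[3,3,5,3,5,3,5]),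
  (1,[3,11,23,3,11,13],[(3134,[]),(293,[]),(288,[])],[1,8,3,5,8,2,2,4]),
  (9,[19,19,17,18,17,14,16,19,3,7,26,10,19,22],[(1662,[5,5,3,4,3,0,2,5]),(3102,[0,3,5,5,8,2,5]),(292,[]),(288,[]),(2638,[1,2,5,2,8,2,5,3])],[8,3,4,2,8,3,8,2]),
  (1,[3,1,7,10,32,27,29],[(3142,[]),(293,[]),(288,[])],[0,3,3,9,3,4,2,5]),
  (12,[16,18,16,15,3,7,26,10,19,22],[(1662,[2,4,2,1]),(288,[]),(3022,[5,3,9,2,1,4,3,5]),(2286,[2,8,2,4,2,8,3,8]),(292,[])],[4,3,5,8,2,2,4]),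
  (1,[3,7,16,28,27,15],[(3150,[])],[5,5,8,3,9,0]),
  (13,[16,19,19,22,16,18,3,7,26,10,19,22],[(1662,[2,5,5,8,2,4]),(293,[]),(288,[]),(506,[0,4,2,5,5]),(292,[]),(288,[]),(3102,[1,3,8,2,4,2,2,5]),(292,[])],[0,2,4,3,9,2,5,9]),
  (1,[3,7,33,27,7,17],[(3158,[])],[4,2,5,8,1,3,5,8]),
  (37,[19,23,14,16,18,16,19,3,7,26,10,19,22],[(1662,[5,9,0,2,4,2,5]),(1034,[0,2,5,2,5,3,3]),(288,[]),(2266,[0,4,3,3,5,2,9]),(292,[]),(288,[])],[3,0,4,2,8,2,1]),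
  (1,[3,7,29,16,29,11],[(3166,[]),(293,[]),(288,[])],[1,2,2,4,3,8,1,2]),
  (38,[14,14,14,17,18,17,3,7,26,10,19,22],[(1662,[0,0,0,3,4,3]),(2038,[4,2,2,5,2,2,2]),(293,[]),(2114,[2,5,8,3,0,5,3,4])],[2,1,5,3,3,4,3]),
  (1,[3,7,18,26,11,26],[(3174,[])],[0,0,0,3,3]),
  (2,[14,18,16,16,16,22,17,3,29,16,3,11],[(1806,[0,4,2,2,2,8,3]),(288,[]),(2250,[4,2,2,8,2,4,2]),(1950,[4,2,2,4,3,8,2]),(292,[]),(288,[])],[4,3,4,2,1,3]),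
  (1,[3,1,19,10],[(3182,[]),(293,[])],[2,5,5,3,9,3]),
  (2,[14,18,17,17,19,17,22,3,11,29,16,18,3],[(2398,[0,4,3,3,5,3,8]),(293,[]),(288,[]),(3014,[3,8,2,2,4,3,9,2]),(292,[]),(288,[]),(1022,[9,2,5,2,2,5,3]),(292,[])],[8,1,8,2,4,2]),
  (1,[3,19,17,28,3,11],[(3190,[])],[5,5,3,8,2,5,2,2]),
  (3,[14,19,16,15,19,17,19,22,3,11,29,16,18,3],[(2398,[0,5,2,1,5,3,5,8]),(293,[]),(288,[]),(2126,[4,2,4,2,4,2,8,2]),(3130,[8,1,8,2,5,3,3])],[3,4,3,8,2,5,2,2]),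
  (1,[3,18,17,29,3,18],[(3198,[]),(292,[]),(288,[])],[5,2,2,5,3,8,1]),
  (6,[19,16,16,19,16,15,16,3,11,29,16,18,3],[(2398,[5,2,2,5,2,1,2]),(293,[]),(288,[]),(2126,[5,3,8,2,1,4,3]),(292,[]),(288,[]),(1482,[3,0,2,5,3,9,2,5])],[0,5,9,2,2,2]),
  (1,[3,11,19,7,10,13],[(3206,[]),(292,[]),(288,[])],[1,4,3,8,2,5,3,3]),
  (8,[19,16,22,16,18,16,15,19,3,11,29,16,18,3],[(2398,[5,2,8,2,4,2,1,5]),(292,[]),(3078,[0,2,8,2,5,3,3,5,8]),(293,[]),(288,[]),(1306,[3,3,4,3,5,3,3]),(293,[])],[1,4,2,5,2,4,2,9]),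
  (1,[3,10,18],[(3214,[]),(292,[]),(288,[])],[5,3,8,1,2,4,2,8]),
  (8,[16,16,19,23,14,17,18,3,11,29,16,18,3],[(2398,[2,2,5,9,0,3,4]),(2914,[2,2,2,5,8,2,9]),(292,[]),(914,[0,8,3,3,8,3,4]),(293,[])],[2,2,5,8,3,3,4]),
  (1,[3,7,27,28,23,16],[(3222,[]),(293,[]),(288,[])],[0,0,2,8,2,2,8]),
  (9,[16,15,18,16,18,16,19,3,11,29,16,18,3],[(2398,[2,1,4,2,4,2,5]),(626,[3,3,4,3,8,2]),(306,[3,3,4,2,1,2,5]),(160,[]),(120,[]),(104,[])],[0,0,0,5,3,5,3,3]),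
  (1,[3,1,7,11,33],[(3230,[]),(292,[]),(288,[])],[0,2,9,3,3,4]),
  (11,[14,16,16,22,16,18,16,19,23,3,11,29,16,18,3],[(2398,[0,2,2,8,2,4,2,5,9]),(288,[]),(1850,[1,3,5,2,8,2,5,3]),(346,[5,5,2,4,2,5]),(136,[]),(120,[]),(112,[])],[0,3,3,4,3,0,4,2]),
  (1,[3,7,33,11],[(3238,[]),(293,[]),(288,[])],[0,3,9,3,4,2,2,4]),
  (13,[17,19,17,23,17,22,3,11,29,16,18,3],[(2398,[3,5,3,9,3,8]),(3062,[0,3,3,4,3,0,9]),(293,[]),(2722,[0,3,5,3,0]),(293,[])],[0,5,2,4,2,4,3,0]),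
  (1,[3,29,11,17,3],[(3246,[]),(288,[])],[0,3,5,5,2,2,8]),
  (13,[17,14,18,16,19,23,3,11,29,16,18,3],[(2398,[3,0,4,2,5,9]),(293,[]),(288,[]),(2126,[5,2,4,2,4,2,1,2]),(288,[]),(2402,[0,3,5,5,2,5,2]),(292,[])],[0,9,3,5,8,2,4]),
  (1,[3,7,29,16,7,11],[(3254,[]),(292,[])],[0,9,2,5,2,4,2,2]),
  (13,[14,14,16,15,18,16,19,16,3,11,29,16,18,3],[(2398,[0,0,2,1,4,2,5,2]),(626,[3,5,2,5,9,3]),(293,[]),(686,[2,5,2,5,5,2,2,8]),(293,[]),(288,[])],[2,9,2,5,2,5,3,4]),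
  (1,[3,11,23,10],[(3262,[])],[3,3,4,3,8,2,5,3]),
  (37,[14,16,18,16,22,17,17,22,17,3,11,29,16,18,3],[(2398,[0,2,4,2,8,3,3,8,3]),(2654,[5,3,9,3,4,3,3]),(288,[]),(2578,[0,3,3,5,5,2,2,2]),(292,[]),(288,[])],[3,0,5,2,8,2,9]),
  (1,[3,7,10,13,29,10,16],[(3270,[]),(292,[])],[0,0,2,5,8,2,2,2]),
  (42,[19,22,15,16,16,18,16,15,3,11,29,16,18,3],[(2398,[5,8,1,2,2,4,2,1]),(293,[]),(2270,[0,3,3,5,2,5,2,4]),(2090,[5,2,9,2,4,2,2]),(288,[])],[0,0,3,5,2,4,3,3]),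
  (1,[3,7,9,10,18],[(3278,[]),(293,[]),(288,[])],[5,2,2,5,9,2,5,8]),
  (2,[14,14,16,18,16,18,17,14,7,27,7,23,3],[(2886,[0,0,2,4,2,4,3,0]),(292,[]),(2670,[1,8,2,5,3,3,9]),(292,[]),(288,[]),(2666,[2,9,2,1,5]),(288,[])],[2,9,2,4,2,5,2,4]),
  (1,[3,7,11,16,18,9,10],[(3286,[])],[0,4,2,2,4,2,1,4]),
  (3,[14,22,17,17,18,7,27,7,23,3],[(2886,[0,8,3,3,4]),(292,[]),(2670,[1,2,2,8,2,1,5]),(293,[]),(482,[0,4,3,4,3,0,9,2]),(293,[]),(288,[])],[2,5,2,5,8,1,3]),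
  (1,[3,10,19,26,3],[(3294,[]),(293,[])],[3,8,3,5,3,5]),
  (6,[17,18,17,17,18,17,18,7,27,7,23,3],[(2886,[3,4,3,3,4,3,4]),(288,[]),(3290,[9,2,1,5,3,3,4]),(288,[]),(2062,[0,2,5,2,5,2,2]),(288,[])],[0,2,2,5,9,2,2,8]),
  (1,[3,29,10,32],[(3302,[]),(293,[]),(288,[])],[0,5,5,2,2,2,4]),
  (7,[15,17,19,17,19,19,23,7,27,7,23,3],[(2886,[1,3,5,3,5,5,9]),(292,[]),(2862,[2,1,5,3,4,3,4,3]),(292,[]),(288,[]),(3038,[8,3,0,2,4,2,4]),(293,[])],[1,2,5,2,1,5,3,8]),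
  (1,[3,7,17,28,27,7],[(3310,[]),(292,[]),(288,[])],[0,3,4,3,3,5,3]),
  (8,[16,19,22,16,15,22,7,27,7,23,3],[(2886,[2,5,8,2,1,8]),(292,[]),(1090,[4,3,9,3,5,2,2]),(2250,[2,4,3,5,3])],[0,0,3,3,5,2,2]),
  (1,[3,7,11,32,11],[(3318,[]),(292,[]),(288,[])],[1,8,2,2,4,3,5,9]),
  (12,[16,19,17,19,17,17,18,16,7,27,7,23,3],[(2886,[2,5,3,5,3,3,4,2]),(292,[]),(1986,[1,1,3,3,5,2]),(288,[]),(2818,[2,1,2,5,2,2,4])],[4,2,1,4,3,5,2]),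
  (1,[3,19,16,10,19,3],[(3326,[]),(292,[]),(288,[])],[1,3,4,3,5,8,1]),
  (12,[17,19,22,15,17,23,7,27,7,23,3],[(2886,[3,5,8,1,3,9]),(288,[]),(3290,[0,5,2,9,2,4,2,2]),(292,[]),(288,[]),(2882,[1,1,4,3])],[0,4,2,2,9,3,3,8]),
  (1,[3,1,7,16,11],[(3334,[]),(292,[]),(288,[])],[3,5,3,0,5,2,1]),
  (12,[14,18,16,15,18,17,17,7,27,7,23,3],[(2886,[0,4,2,1,4,3,3]),(288,[]),(3290,[1,4,3,5,2,4,2]),(288,[]),(2670,[2,1,2,4,3,5,3]),(292,[])],[2,1,4,3,5,2,1])]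
theorem hD5 : allD2 lk B KW SW F A RL [] D5 693 = true := by decide +kernel
def D6 : List (ℕ × Word × List (ℕ × Word) × Word) := [(13,[15,17,19,19,17,19,19,7,27,7,23,3],[(2886,[1,3,5,5,3,5,5]),(292,[]),(2670,[4,2,2,2,8,3,3,5]),(293,[]),(362,[0,2,2,4,3,0,2]),(112,[]),(137,[]),(116,[])],[0,2,2,2,5,2,1]),
  (1,[3,29,16,10,9],[(3346,[])],[1,2,2,8,2]),
  (13,[17,19,16,18,16,16,16,7,27,7,23,3],[(2886,[3,5,2,4,2,2,2]),(292,[]),(2670,[1,5,3,5,9,2,2]),(293,[]),(418,[3,5,5,3,5,9,3]),(292,[])],[1,1,2,4,2,4,3,3]),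
  (1,[3,11,18,3,27],[(3354,[]),(292,[]),(288,[])],[0,0,2,5,2,8,3,8]),
  (17,[14,16,16,18,17,23,7,27,7,23,3],[(2886,[0,2,2,4,3,9]),(1122,[2,2,2,4,3,3,8])],[4,3,3,4,3,0,5]),
  (1,[3,7,11,11,29,27],[(3362,[])],[0,5,2,1,4,3,5]),
  (17,[14,23,16,15,18,16,23,7,27,7,23,3],[(2886,[0,9,2,1,4,2,9]),(3362,[0,3,5,3,5,9,2,8])],[3,8,1,3,5,3]),
  (36,[16,15,22,16,19,16,19,17,7,27,7,23,3],[(2886,[2,1,8,2,5,2,5,3]),(293,[]),(1638,[1,3,5,3,3,5,9,3]),(1098,[2,1,5,8,2,2,2,5]),(293,[]),(288,[])],[0,3,8,2,4,2,4]),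
  (1,[7,11,16,3,28,26],[(3374,[]),(293,[]),(288,[])],[1,5,3,9,2,4,2,1]),
  (38,[14,18,17,17,19,16,18,17,7,27,7,23,3],[(2886,[0,4,3,3,5,2,4,3]),(293,[]),(288,[]),(2650,[2,9,3,5,8,2,4,2]),(362,[3,3,9,2,5,3,9]),(160,[]),(136,[]),(108,[])],[0,5,5,5,3,8]),
  (1,[7,27,3,7,33],[(3382,[])],[2,9,3,4,3,5,3,0]),
  (38,[14,17,22,17,18,17,7,27,7,23,3],[(2886,[0,3,8,3,4,3]),(2058,[0,4,2,1,5,8,2]),(292,[]),(1790,[1,8,2,4,3,4])],[9,3,4,3,5,2,5]),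
  (1,[3,19,11,14,7,9],[(3390,[])],[3,5,8,1,3,5]),
  (2,[19,16,19,17,19,3,1,7,11,16,19],[(1174,[5,2,5,3,5]),(550,[3,9,2,9,2,8]),(293,[]),(288,[]),(1606,[4,2,2,2,5,3,4]),(293,[])],[5,3,5,3,5]),
  (1,[3,7,29,16,10,32],[(3398,[]),(292,[]),(288,[])],[8,2,1,3,9]),
  (3,[14,17,18,17,14,18,3,1,7,11,16,19],[(1174,[0,3,4,3,0,4]),(292,[]),(288,[]),(2894,[0,2,4,2,5,2,1,8]),(288,[]),(1626,[2,1,8,3,5,3,5]),(288,[])],[2,5,3,0,2,4,2,5]),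
  (1,[3,19,11,14,7,32],[(3406,[]),(288,[])],[2,1,4,2,4,2,9]),
  (8,[16,16,22,17,23,14,3,1,7,11,16,19],[(1174,[2,2,8,3,9,0]),(292,[]),(1122,[2,5,8,3,0,4,2]),(598,[5,2,8,3,5,2,9,3])],[0,8,2,2,4,2,5]),
  (1,[3,18,17,28,3,5],[(3414,[]),(288,[])],[4,2,2,4,2,2,8]),
  (8,[16,22,16,15,19,3,1,7,11,16,19],[(1174,[2,8,2,1,5]),(293,[]),(3154,[3,5,2,4,2,2,2]),(292,[]),(1022,[3,4,3,5,3,8,3]),(288,[])],[0,2,1,2,5,2,5,9]),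
  (1,[3,19,11,33,26],[(3422,[])],[3,0,2,5,2,5,2,5]),
  (9,[14,19,17,14,18,17,17,19,3,1,7,11,16,19],[(1174,[0,5,3,0,4,3,3,5]),(293,[]),(288,[]),(3298,[4,3,3,5,3,5,2]),(293,[]),(288,[]),(2394,[0,0,0,4,3,3,4,3]),(293,[]),(288,[])],[4,2,2,4,3,5,8,1]),
  (1,[7,27,7,27,3],[(3430,[]),(292,[]),(288,[])],[0,4,2,5,2,2,2,9]),
  (11,[22,16,19,16,16,23,14,3,1,7,11,16,19],[(1174,[8,2,5,2,2,9,0]),(293,[]),(288,[]),(1790,[0,5,2,8,1,3,5,3]),(1330,[0,2,5,2,4,2,5,8]),(293,[]),(288,[])],[0,5,3,5,3,4,2,2]),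
  (1,[3,7,10,26,32,11],[(3438,[]),(292,[]),(288,[])],[1,1,5,2,4,2,4]),
  (12,[19,16,15,18,17,18,17,17,3,1,7,11,16,19],[(1174,[5,2,1,4,3,4,3,3]),(293,[]),(288,[]),(3298,[0,5,2,2,2,9,0]),(3014,[0,0,4,3,3,5,3,4])],[0,5,5,5,3,0,5,2]),
  (1,[3,7,11,22,10],[(3446,[]),(292,[])],[4,2,8,1,3,3]),
  (13,[14,17,19,22,17,18,16,3,1,7,11,16,19],[(1174,[0,3,5,8,3,4,2]),(292,[]),(288,[]),(3398,[0,5,3,3,4,3,9,0]),(292,[]),(288,[]),(1050,[0,0,2,1,5,3,4]),(293,[]),(288,[])],[0,0,4,2,5,8,2]),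
  (1,[3,11,23,7,10,9],[(3454,[])],[3,3,5,2,2,4]),
  (4,[19,16,19,16,15,22,3,7,11,22,10],[(3446,[5,2,5,2,1,8]),(292,[]),(3158,[2,4,2,2,4,3,4]),(292,[]),(2586,[1,3,5,2,4,2,1]),(292,[]),(288,[])],[5,2,5,2,1,5,8]),
  (1,[3,11,18,16,29],[(3462,[]),(292,[])],[0,2,5,2,5,3,4]),
  (9,[14,14,16,19,19,19,17,17,3,7,11,22,10],[(3446,[0,0,2,5,5,5,3,3]),(292,[]),(1214,[0,2,2,5,3,3,5,2,9]),(293,[]),(2730,[0,3,0,9,2,4,3,5]),(293,[]),(288,[])],[2,4,3,9,3,4,2,9]),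
  (1,[3,1,7,10,23,11],[(3470,[]),(293,[]),(288,[])],[0,4,3,0,2,4]),
  (9,[15,18,17,19,17,18,16,16,3,7,11,22,10],[(3446,[1,4,3,5,3,4,2,2]),(288,[]),(2990,[1,8,2,5,2,2,4,2]),(292,[]),(2038,[5,2,4,3,3,9,0]),(292,[]),(288,[])],[1,4,2,2,5,2,1,4]),
  (1,[3,7,10,16,18],[(3478,[]),(292,[])],[8,3,4,3,3,5,9,2]),
  (9,[16,22,16,16,19,16,16,3,7,11,22,10],[(3446,[2,8,2,2,5,2,2]),(292,[]),(3158,[9,3,5,2,5,9,3]),(293,[]),(898,[2,8,2,2,5,2,2]),(292,[])],[4,3,3,5,8]),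
  (1,[3,11,23,3,11,11],[(3486,[]),(292,[]),(288,[])],[1,1,3,5,2,4,3,3]),
  (10,[14,14,19,16,22,17,14,3,7,11,22,10],[(3446,[0,0,5,2,8,3,0]),(2674,[2,5,2,2,2,5,8,1]),(288,[]),(1662,[2,2,5,3,4,3,9])],[3,3,5,3,5,5,8,3]),
  (1,[3,7,27,28,10,12],[(3494,[])],[0,2,4,2,8,3,5,2]),
  (10,[16,15,19,22,17,18,17,18,3,7,11,22,10],[(3446,[2,1,5,8,3,4,3,4]),(292,[]),(2674,[0,2,5,2,1,3,5,3]),(288,[]),(3026,[3,4,3,4,3])],[2,4,2,5,2,9,3,3]),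
  (1,[3,19,10],[(3502,[]),(292,[]),(288,[])],[4,3,3,5,5,2,5,8]),
  (10,[15,19,17,23,16,19,16,3,7,11,22,10],[(3446,[1,5,3,9,2,5,2]),(610,[0,2,4,2,1,8,3]),(292,[]),(986,[1,1,3,4,2,2,5,2]),(292,[]),(288,[])],[3,3,5,9,2,4]),
  (1,[3,7,11,9,33,10,18],[(3510,[])],[4,3,5,3,9,3,5]),
  (11,[19,22,17,14,19,16,23,3,7,11,22,10],[(3446,[5,8,3,0,5,2,9]),(293,[]),(478,[1,5,2,2,4,3,5]),(293,[]),(2770,[2,5,5,8,3,8,1]),(293,[])],[2,5,5,2,5,2,5,8]),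
  (1,[3,1,28,11,18,3,7],[(3518,[]),(293,[]),(288,[])],[0,2,2,5,8,1,3,3]),
  (14,[14,17,18,16,16,18,3,7,11,22,10],[(3446,[0,3,4,2,2,4]),(292,[]),(2794,[0,0,2,4,2,8,2]),(292,[])],[0,0,2,4,2,2,9]),
  (1,[3,7,5,16,19,10],[(3526,[])],[3,0,2,5,2,4,2,2]),
  (14,[16,18,17,19,23,16,23,3,7,11,22,10],[(3446,[2,4,3,5,9,2,9]),(292,[]),(2582,[0,2,4,2,2,2,9,0])],[0,2,1,4,3,4]),
  (1,[3,1,11,23,3,10],[(3534,[])],[2,2,2,8,2,2,8]),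
  (17,[14,14,19,17,19,17,19,3,7,11,22,10],[(3446,[0,0,5,3,5,3,5]),(292,[]),(2478,[0,0,2,5,8,2,8])],[0,0,0,4,3,3,5]),
  (1,[3,1,10,23,11,15,7],[(3542,[])],[3,4,3,4,3,5,8,3]),
  (38,[14,16,16,19,16,22,17,3,7,11,22,10],[(3446,[0,2,2,5,2,8,3]),(292,[]),(2274,[0,0,3,3,5,3,8]),(293,[]),(3114,[8,3,4,3,3]),(288,[])],[8,2,4,2,5]),
  (1,[7,16,7,26,7,16],[(3550,[])],[9,3,5,2,2,4]),
  (38,[16,16,16,22,17,14,19,17,3,7,11,22,10],[(3446,[2,2,2,8,3,0,5,3]),(288,[]),(3534,[0,0,0,2,5,2,5,3]),(3514,[0,2,4,3,0,2,5,3]),(293,[]),(288,[])],[3,0,5,3,8,2,5]),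
  (1,[3,29,11,11],[(3558,[])],[0,4,2,2,4,2,1,4]),
  (41,[17,19,16,16,19,23,3,7,11,22,10],[(3446,[3,5,2,2,5,9]),(1502,[1,2,4,2,8,2,1,5]),(292,[]),(288,[]),(1306,[3,0,2,4,3,3,5,2])],[1,3,4,3,5,3,4]),
  (1,[3,1,7,10,32],[(3566,[]),(292,[])],[0,2,2,2,8,1,2,2,2]),
  (3,[16,19,16,19,16,16,19,7,17,7,22,3],[(2870,[2,5,2,5,2,2,5]),(292,[]),(288,[]),(2118,[8,2,2,8,2,9]),(293,[]),(288,[]),(618,[3,0,5,3,4,3,4,3]),(136,[]),(120,[]),(116,[])],[2,1,5,3,5,8]),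
  (1,[3,10,18,33],[(3574,[])],[2,1,4,3,5,2]),
  (4,[16,18,16,16,22,17,23,7,17,7,22,3],[(2870,[2,4,2,2,8,3,9]),(292,[]),(2378,[3,8,3,4,3,5,3,5]),(292,[]),(288,[]),(2482,[5,8,2,1,5,3,4]),(293,[]),(288,[])],[0,5,3,5,9,3]),
  (1,[3,7,11,11,29,26],[(3582,[])],[3,5,3,5,5,3,0]),
  (6,[18,16,19,19,22,16,19,23,7,17,7,22,3],[(2870,[4,2,5,5,8,2,5,9]),(978,[2,5,3,0,5,3]),(292,[]),(288,[]),(1462,[0,0,3,4,2,2,2,8]),(293,[]),(288,[])],[3,5,2,8,3,5,3,3]),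
  (1,[3,11,29,7,27],[(3590,[])],[1,3,5,2,5,9,3]),
  (8,[14,16,15,18,16,18,16,22,7,17,7,22,3],[(2870,[0,2,1,4,2,4,2,8]),(292,[]),(288,[]),(3530,[1,2,2,2,5,3,5,5]),(2462,[2,9,3,4,3,3,5]),(293,[])],[8,1,3,5,9,2,2]),
  (1,[3,29,3,26,29,7],[(3598,[]),(293,[]),(288,[])],[2,8,2,5,8,2,5]),
  (8,[22,15,16,16,18,16,19,7,17,7,22,3],[(2870,[8,1,2,2,4,2,5]),(288,[]),(3018,[2,4,3,4,2,9]),(292,[]),(288,[]),(3166,[1,4,3,5,3,8]),(292,[]),(288,[])],[0,4,3,3,4,2,8,3]),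
  (1,[3,19,17,7,17],[(3606,[]),(292,[])],[3,4,3,5,8,3]),
  (9,[15,18,17,19,17,17,22,7,17,7,22,3],[(2870,[1,4,3,5,3,3,8]),(292,[]),(2378,[0,0,4,2,8,3,4,2]),(3126,[4,2,2,9,3,5]),(293,[])],[2,2,4,2,1,3,5]),
  (1,[3,11,18,3,27,7],[(3614,[]),(293,[]),(288,[])],[8,3,3,5,3,5,5,9]),
  (9,[22,17,17,19,16,18,17,7,17,7,22,3],[(2870,[8,3,3,5,2,4,3]),(292,[]),(2378,[9,2,5,2,5,2,2]),(292,[]),(514,[3,0,5,9,2,4,2,2]),(293,[])],[0,2,2,5,2,8,3,5]),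
  (1,[3,7,17,23,11,18,11],[(3622,[]),(292,[])],[2,8,2,4,2,5,8]),
  (11,[19,19,16,19,16,15,7,17,7,22,3],[(2870,[5,5,2,5,2,1]),(292,[]),(2774,[0,5,2,5,9,3,5]),(293,[]),(2534,[2,8,3,3,8,3,5,3])],[4,2,9,2]),
  (1,[7,27,3,19,10,12],[(3630,[]),(288,[])],[1,3,4,3,8,1,3]),
  (12,[22,16,18,16,15,19,17,14,7,17,7,22,3],[(2870,[8,2,4,2,1,5,3,0]),(293,[]),(2986,[0,2,1,4,2,2,5,2,2]),(2678,[5,3,0,2,4,2,5]),(288,[])],[0,5,8,3,0,4,2,1]),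
  (1,[3,7,5,28,11],[(3638,[]),(292,[]),(288,[])],[2,5,2,9,3,5,8]),
  (12,[15,16,19,16,16,19,16,19,7,17,7,22,3],[(2870,[1,2,5,2,2,5,2,5]),(293,[]),(338,[1,2,4,2,2,2,4]),(112,[]),(3230,[1,3,5,3,8,2,4,3]),(293,[]),(288,[])],[0,8,2,2,2,8,2]),
  (1,[3,7,11,22,17,29],[(3646,[]),(293,[]),(288,[])],[3,5,5,3,0,4,3,4]),
  (12,[16,23,16,18,16,15,19,7,17,7,22,3],[(2870,[2,9,2,4,2,1,5]),(292,[]),(288,[]),(2118,[1,2,2,5,5,9]),(292,[]),(2570,[2,2,2,9,3,3,5]),(293,[]),(288,[])],[0,8,2,2,5,2,5,9]),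
  (1,[3,7,27,19,10],[(3654,[]),(292,[])],[0,8,2,1,5,2,2,4]),
  (12,[19,16,16,18,16,15,19,7,17,7,22,3],[(2870,[5,2,2,4,2,1,5]),(292,[]),(288,[]),(702,[1,4,2,9,3,3,5]),(293,[]),(1070,[0,9,2,4,3,5,3,3])],[1,3,5,9,2,5,2,1]),
  (1,[3,7,17,29,17,33],[(3662,[]),(293,[]),(288,[])],[0,0,0,2,2,2,4]),
  (13,[16,19,16,19,19,23,7,17,7,22,3],[(2870,[2,5,2,5,5,9]),(288,[]),(2110,[3,5,9,2,4,2,8]),(1506,[0,0,2,4,3,3,8,3,8]),(293,[]),(288,[])],[0,0,0,4,2,2,4,3,3]),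
  (1,[3,28,10,26,19],[(3670,[]),(292,[]),(288,[])],[0,3,4,2,5,2,5,3]),
  (38,[19,22,17,17,18,16,7,17,7,22,3],[(2870,[5,8,3,3,4,2]),(1942,[5,2,2,5,2,2,9]),(3374,[4,2,8,2,1,5,3]),(293,[]),(288,[])],[2,5,5,5,2]),
  (1,[3,7,11,27,29,11,17],[(3678,[]),(292,[])],[1,2,4,2,5,5,8]),
  (6,[17,14,16,18,17,19,16,16,7,27,3,7,11],[(3322,[3,0,2,4,3,5,2,2]),(1478,[0,2,2,9,3,3,8,3]),(288,[]),(2358,[0,5,2,8,2,5,3]),(292,[]),(288,[])],[0,5,5,3,0,4,3]),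
  (1,[3,28,11,32,7],[(3686,[]),(292,[])],[0,0,3,4,3,4]),
  (7,[14,16,16,19,19,19,16,7,27,3,7,11],[(3322,[0,2,2,5,5,5,2]),(288,[]),(2846,[3,0,2,8,3,5]),(288,[]),(1390,[5,8,1,3,4,3,9,2]),(292,[])],[8,1,3,8,2,5]),
  (1,[3,7,18,11,26,23],[(3694,[])],[3,8,2,5,3,9,0]),
  (7,[16,18,16,16,16,19,7,27,3,7,11],[(3322,[2,4,2,2,2,5]),(293,[]),(1490,[0,5,5,3,3,5,3,8,1]),(116,[]),(136,[]),(112,[]),(2170,[3,8,2,5,3,5,3]),(292,[]),(288,[])],[3,8,1,3,0,5,2]),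
  (1,[3,28,3,27,11],[(3702,[])],[3,0,4,3,5,8,3,3]),
  (8,[14,18,16,16,18,16,22,7,27,3,7,11],[(3322,[0,4,2,2,4,2,8]),(1278,[5,2,9,3,8]),(137,[]),(160,[]),(112,[]),(1274,[0,0,2,2,8,2,2,2]),(288,[])],[3,0,5,2,8,3,3]),
  (1,[3,11,28,27,22,3],[(3710,[])],[2,2,5,5,2,2]),
  (12,[14,19,22,16,15,19,22,7,27,3,7,11],[(3322,[0,5,8,2,1,5,8]),(2254,[2,5,2,1,3,5]),(292,[]),(288,[]),(2642,[1,2,2,5,2,2,5,3]),(292,[])],[0,2,8,3,0,9]),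
  (1,[3,1,23,7,10],[(3718,[]),(293,[])],[0,4,2,8,1,3,9,2]),
  (36,[14,22,17,19,16,22,16,15,7,27,3,7,11],[(3322,[0,8,3,5,2,8,2,1]),(3438,[3,4,2,2,4,2,1]),(288,[]),(1782,[0,3,3,4,3,4,3,0,9])],[2,4,3,9,2,5,3]),
  (1,[3,7,17,10,32,11],[(3726,[]),(292,[]),(288,[])],[5,3,0,4,3,5]),
  (38,[17,18,17,22,17,14,16,7,27,3,7,11],[(3322,[3,4,3,8,3,0,2]),(1950,[5,2,8,3,5,9]),(292,[]),(288,[]),(2330,[2,1,4,2,9,3,3])],[5,8,3,5,3,0,2]),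
  (1,[3,29,26,3,7],[(3734,[]),(292,[]),(288,[])],[0,3,3,4,2,5,3]),
  (4,[17,19,19,19,16,7,17,7,18,3],[(2894,[3,5,5,5,2]),(1722,[2,5,3,4,2,1,8]),(292,[]),(1550,[0,2,8,3,3,8,3,4,3]),(293,[])],[0,0,4,3,3,8]),
  (1,[3,7,11,29,26,33],[(3742,[]),(288,[])],[3,3,5,2,2,5,3]),
  (8,[17,18,17,22,15,17,17,7,17,7,18,3],[(2894,[3,4,3,8,1,3,3]),(288,[]),(1098,[0,3,5,2,9]),(292,[]),(1150,[0,4,3,4,3,0,9,3]),(288,[])],[2,1,2,4,2,5,2,4]),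
  (1,[7,26,3,29,3,27],[(3750,[]),(292,[]),(288,[])],[0,2,2,8,2,1,3]),
  (10,[16,16,16,19,17,23,16,19,7,17,7,18,3],[(2894,[2,2,2,5,3,9,2,5]),(288,[]),(3390,[5,2,4,3,0,2,8]),(292,[]),(288,[]),(2634,[0,4,2,9,3,3,4]),(293,[])],[1,2,2,4]),
  (1,[3,1,19,10,18,3,1],[(3758,[]),(288,[])],[3,4,3,3,8]),
  (11,[17,23,16,19,22,16,18,7,17,7,18,3],[(2894,[3,9,2,5,8,2,4]),(293,[]),(3158,[1,3,9,3,5,2,2,5]),(288,[]),(3482,[2,5,3,0,2,5,3,0])],[1,3,4,3,9,3,5,3]),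
  (1,[3,7,11,17,18],[(3766,[]),(293,[]),(288,[])],[5,3,8,2,4,3,5,2]),
  (11,[17,19,16,16,19,16,16,7,17,7,18,3],[(2894,[3,5,2,2,5,2,2]),(292,[]),(2450,[0,0,2,2,5,2]),(292,[]),(1090,[8,2,5,3,3,8])],[0,0,2,1,4,3,8,2]),
  (1,[3,28,11,23,7,10],[(3774,[]),(292,[])],[8,2,2,8,2]),
  (13,[19,17,17,18,17,23,17,7,17,7,18,3],[(2894,[5,3,3,4,3,9,3]),(690,[0,8,3,0,4,3,4,3]),(288,[]),(2658,[0,2,2,5,9,3,8]),(293,[]),(288,[])],[0,3,3,5,5,3,8]),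
  (1,[3,7,17,33,3,10],[(3782,[])],[0,0,4,2,2,2]),
  (6,[18,17,22,16,15,17,3,1,7,17,19,7],[(2814,[4,3,8,2,1,3]),(292,[]),(1590,[0,0,3,4,2,9,3,5]),(842,[4,2,2,8,3,0,5]),(288,[])],[8,2,4,2,8,3,5,8]),
  (1,[3,23,3,10,27,29],[(3790,[]),(288,[])],[1,5,3,4,3,3]),
  (7,[22,15,17,18,17,17,18,3,1,7,17,19,7],[(2814,[8,1,3,4,3,3,4]),(293,[]),(3154,[3,5,3,5,2,1]),(292,[]),(288,[]),(1918,[1,5,2,5,3,3,5,3]),(293,[])],[0,4,2,4,3,0]),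
  (1,[3,19,26,18,3,33],[(3798,[]),(292,[])],[2,2,8,2,1,4,3,9]),
  (10,[16,18,16,16,19,3,1,7,17,19,7],[(2814,[2,4,2,2,5]),(293,[]),(288,[]),(1878,[0,0,2,9,2,4,2,5]),(293,[]),(288,[]),(2742,[2,5,3,8,1,2]),(292,[])],[0,4,3,5,3,0,4,3]),
  (1,[3,10,22,7,10],[(3806,[]),(292,[]),(288,[])],[2,5,3,8,1,3]),
  (11,[14,14,19,17,17,19,23,17,3,1,7,17,19,7],[(2814,[0,0,5,3,3,5,9,3]),(293,[]),(3154,[3,8,2,5,2,1,3]),(292,[]),(288,[]),(2718,[2,5,2,4,2,2,2,8])],[0,2,2,4,3,5,2,2]),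
  (1,[3,29,7,26,10],[(3814,[]),(293,[]),(288,[])],[8,2,2,5,2,5,2]),
  (43,[15,22,16,19,17,3,1,7,17,19,7],[(2814,[1,8,2,5,3]),(292,[]),(288,[]),(2234,[0,4,3,8,2,5,2]),(293,[]),(3402,[9,3,5,8,2,5,3]),(292,[]),(288,[])],[0,2,4,3,3,9]),
  (1,[3,11,23,3,10,10],[(3822,[])],[0,3,9,2,5,9,0,3]),
  (3,[14,19,16,16,18,17,19,17,3,7,27,18],[(3562,[0,5,2,2,4,3,5,3]),(292,[]),(3042,[2,5,5,8,2,8,1]),(292,[]),(288,[]),(1882,[4,2,9,3,5,3,5,2]),(293,[]),(288,[])],[0,2,2,2,8,2,5]),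
  (1,[3,23,11,18,3,5],[(3830,[])],[1,4,2,2,9,2]),
  (9,[15,22,17,18,17,23,16,18,3,7,27,18],[(3562,[1,8,3,4,3,9,2,4]),(293,[]),(570,[2,5,8,2,2]),(458,[0,0,2,1,4,3,5,2]),(293,[]),(288,[])],[3,4,3,9,3,5,2,5]),
  (1,[3,10,19,17,3],[(3838,[]),(293,[])],[4,2,1,2,5,3,5]),
  (10,[16,18,16,19,16,19,19,23,3,7,27,18],[(3562,[2,4,2,5,2,5,5,9]),(292,[]),(2974,[4,3,8,2,2,2,9]),(288,[]),(1598,[9,3,3,5,3,0,2,4]),(293,[])],[8,1,2,5,2,4,2,9]),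
  (11,[14,17,14,18,16,16,22,17,3,7,27,18],[(3562,[0,3,0,4,2,2,8,3]),(292,[]),(1234,[3,8,1,3,4,3,0]),(293,[]),(288,[]),(1434,[3,4,3,9,3,4,2]),(292,[])],[8,3,0,9,2,5,2]),
  (1,[3,7,11,15,28,26],[(3850,[]),(292,[])],[0,2,4,2,5,3,5]),
  (12,[14,17,19,16,18,17,14,16,3,7,27,18],[(3562,[0,3,5,2,4,3,0,2]),(292,[]),(288,[]),(1438,[1,2,5,2,1,4,2]),(822,[2,2,4,2,8,2,5,8]),(292,[])],[5,2,5,2,2,5,8]),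
  (1,[3,10,29,10,12],[(3858,[]),(292,[]),(288,[])],[2,8,2,2,4,2,4,2]),
  (2,[15,17,19,23,14,17,17,18,3,7,10,16,18],[(3478,[1,3,5,9,0,3,3,4]),(292,[]),(2114,[0,3,4,2,1,8,3]),(293,[]),(1534,[1,2,4,2,9,3,3,8]),(288,[])],[5,3,9,3,5,8]),
  (1,[3,19,7,11,18],[(3866,[]),(292,[])],[1,2,4,2,5,3,4]),
  (6,[14,16,15,17,23,17,17,3,7,10,16,18],[(3478,[0,2,1,3,9,3,3]),(293,[]),(288,[]),(1418,[0,3,9,2,8]),(293,[]),(288,[]),(2962,[0,2,8,2,5,2,8]),(292,[])],[3,4,2,2,4,2,9]),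
  (1,[3,10,22,7,10,14],[(3874,[])],[2,5,3,3,5,3,0]),
  (7,[15,19,17,23,16,19,16,15,3,7,10,16,18],[(3478,[1,5,3,9,2,5,2,1]),(288,[]),(1778,[0,3,5,9,3,4,3,9]),(293,[]),(2346,[0,5,2,2,4,2,2,9])],[4,3,3,8,2,4]),
  (1,[3,11,29,27,28,3],[(3882,[]),(293,[]),(288,[])],[5,3,3,5,8,3]),
  (7,[22,17,18,16,22,16,15,18,3,7,10,16,18],[(3478,[8,3,4,2,8,2,1,4]),(292,[]),(3286,[1,5,3,4,3,9,2,5]),(293,[]),(2262,[0,2,5,8,2,5,8,3])],[0,2,2,4,3,0,5,2]),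
  (1,[3,11,11,29,26,3],[(3890,[])],[0,2,2,2,9,0,3,4]),
  (7,[23,17,17,19,16,23,17,3,7,10,16,18],[(3478,[9,3,3,5,2,9,3]),(288,[]),(3022,[0,0,3,4,2,5,3,3]),(292,[]),(3366,[2,2,2,5,8,2,8,3])],[8,2,5,8,3,5]),
  (1,[3,23,7,10,15],[(3898,[])],[0,4,2,2,5,8,3,4]),
  (8,[17,23,17,17,18,17,22,15,3,7,10,16,18],[(3478,[3,9,3,3,4,3,8,1]),(288,[]),(2998,[5,9,2,2,2,9,2]),(1998,[5,9,3,3,4,3,0,4]),(292,[])],[1,3,5,9,2,8]),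
  (1,[7,17,3,7,33],[(3906,[]),(292,[]),(288,[])],[0,0,2,9,2,2,8]),
  (10,[14,17,17,19,17,19,22,15,16,3,7,10,16,18],[(3478,[0,3,3,5,3,5,8,1,2]),(3514,[0,2,1,3,4,2,8,3,5]),(293,[]),(3226,[5,8,3,0,4,2,2,4]),(293,[]),(288,[])],[2,4,2,8,2,4,3])]
theorem hD6 : allD2 lk B KW SW F A RL [] D6 836 = true := by decide +kernel
def D7 : List (ℕ × Word × List (ℕ × Word) × Word) := [(1,[3,7,5,27,29,11,17],[(3914,[])],[0,5,8,1]),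
  (10,[14,16,19,23,17,19,3,7,10,16,18],[(3478,[0,2,5,9,3,5]),(293,[]),(288,[]),(2714,[0,3,0,2,8,3,8]),(292,[]),(288,[]),(2858,[3,5,8,2,5,9,0]),(293,[])],[0,0,3,3,5,2,8,3]),
  (1,[3,7,16,23,11,33],[(3922,[]),(292,[]),(288,[])],[0,0,9,2,2,5,3,4]),
  (13,[19,17,14,3,7,10,16,18],[(3478,[5,3,0]),(292,[]),(2114,[3,5,9,0,2]),(292,[]),(1614,[0,3,3,5,3,0,2]),(292,[])],[0,3,0,5,2,5,9,3]),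
  (1,[3,7,11,17,19],[(3930,[]),(292,[]),(288,[])],[0,3,5,2,5,9,3]),
  (14,[14,16,18,17,22,16,16,3,7,10,16,18],[(3478,[0,2,4,3,8,2,2]),(3150,[1,8,2,2,5,2,5])],[0,3,0,4,2,9,2,8]),
  (1,[3,11,13,29,11],[(3938,[])],[1,8,2,5,2,8,3,4]),
  (17,[14,14,16,16,19,17,22,15,3,7,10,16,18],[(3478,[0,0,2,2,5,3,8,1]),(292,[]),(2994,[5,2,2,8,3,5,8,1]),(292,[]),(288,[])],[3,0,5,3,3,5,2]),
  (1,[3,7,28,11,17],[(3946,[])],[5,2,2,5,3,4,2]),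
  (36,[14,19,19,16,16,18,16,22,3,7,10,16,18],[(3478,[0,5,5,2,2,4,2,8]),(293,[]),(288,[]),(3546,[2,4,2,2,2,9]),(292,[]),(1270,[1,3,0,4,2]),(288,[])],[4,3,0,9,2,4,3,5]),
  (1,[3,1,23,26,7,26],[(3954,[]),(292,[]),(288,[])],[1,1,4,2,4,3]),
  (38,[22,16,19,22,16,15,3,7,10,16,18],[(3478,[8,2,5,8,2,1]),(2086,[0,3,5,2,4,2,4]),(2394,[0,2,4,2,8,1,3,3]),(292,[]),(288,[])],[0,2,5,2,9,2,2,5]),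
  (1,[3,7,17,19,27,32],[(3962,[])],[0,2,9,3,3,8,3,5]),
  (41,[19,17,19,17,23,16,16,3,7,10,16,18],[(3478,[5,3,5,3,9,2,2]),(293,[]),(1366,[0,8,3,8,2,4,2,1]),(292,[]),(3358,[0,3,5,9,3,5,3,0]),(288,[])],[0,0,2,5,5,5,3]),
  (1,[3,1,23,11,14],[(3970,[]),(292,[]),(288,[])],[0,2,4,2,9,0,3,5]),
  (2,[14,17,14,19,16,22,15,17,3,7,10,22,10],[(3546,[0,3,0,5,2,8,1,3]),(838,[8,3,3,5,3,3,4]),(292,[]),(288,[]),(954,[1,2,2,5,8,3,5]),(292,[])],[0,5,5,5,3,4,3,0]),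
  (1,[3,11,22,7,11,12],[(3978,[]),(292,[]),(288,[])],[2,5,2,5,9,3,3,4]),
  (6,[14,18,16,15,3,7,10,22,10],[(3546,[0,4,2,1]),(292,[]),(288,[]),(1162,[0,5,3,4,3,8,1,2]),(292,[]),(288,[]),(3654,[8,3,5,8,2,4,2,1]),(293,[]),(288,[])],[4,2,5,8,3,4,2]),
  (1,[3,7,5,10,17,28,11],[(3986,[])],[1,8,3,5,2,2,4]),
  (8,[22,16,18,17,17,23,3,7,10,22,10],[(3546,[8,2,4,3,3,9]),(292,[]),(858,[2,4,2,8,3]),(288,[]),(810,[0,2,5,2,8,1,8])],[4,3,5,2,8,2,1,4]),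
  (1,[3,10,18,7],[(3994,[]),(288,[])],[0,3,3,5,5,2,2,9]),
  (8,[14,14,16,16,22,16,16,16,3,7,10,22,10],[(3546,[0,0,2,2,8,2,2,2]),(292,[]),(288,[]),(1638,[2,5,2,8,3,9,3,5]),(293,[]),(2226,[8,2,5,2,4,2,8]),(292,[]),(288,[])],[8,1,2,5,2,5,5]),
  (1,[3,1,7,27,7,23],[(4002,[]),(292,[])],[5,2,8,3]),
  (9,[14,17,19,17,17,19,16,18,3,7,10,22,10],[(3546,[0,3,5,3,3,5,2,4]),(293,[]),(288,[]),(1354,[5,3,4,3,5,9,0]),(288,[]),(2594,[1,5,2,2,2,5,8,2]),(288,[])],[0,0,5,2,1,5,2,4]),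
  (1,[3,7,10,10,26,19],[(4010,[]),(292,[]),(288,[])],[8,2,2,5,3,8,2,5]),
  (9,[19,23,17,19,22,16,16,3,7,10,22,10],[(3546,[5,9,3,5,8,2,2]),(1574,[5,3,5,3,3,9]),(293,[]),(566,[4,2,2,8,1,3,0]),(292,[])],[0,3,8,2,4,2,1]),
  (1,[3,7,17,33,11,11],[(4018,[]),(292,[]),(288,[])],[0,2,4,3,0,2,4,2]),
  (12,[17,18,16,15,18,16,18,3,7,10,22,10],[(3546,[3,4,2,1,4,2,4]),(2302,[2,1,2,5,2,2]),(2614,[3,8,1,2,4,2,5,2]),(292,[])],[3,3,8,2,1,3,9]),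
  (1,[3,1,11,22,7,11],[(4026,[])],[0,2,9,2,4,2,5,2,8]),
  (12,[15,17,17,18,16,18,16,3,7,10,22,10],[(3546,[1,3,3,4,2,4,2]),(838,[1,2,5,2,2,8,2,2]),(292,[]),(786,[5,3,9,2,4,2,1,5]),(292,[]),(288,[])],[2,2,5,2,5,3]),
  (1,[3,7,11,29,32,10],[(4034,[]),(292,[]),(288,[])],[3,8,3,5,3,3,5]),
  (14,[14,14,19,17,18,3,7,10,22,10],[(3546,[0,0,5,3,4]),(1434,[3,9,0,2,5,2,5,2])],[0,5,9,3,8,3,5]),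
  (1,[3,11,29,11],[(4042,[])],[5,5,2,5,2,8,3,0]),
  (37,[14,18,17,19,16,22,16,16,3,7,10,22,10],[(3546,[0,4,3,5,2,8,2,2]),(842,[2,5,3,5,3,8,2,8]),(1574,[0,3,3,4,3,0,5,3])],[3,5,3,4,3,4,3]),
  (1,[3,11,23,7,11,12],[(4050,[]),(292,[]),(288,[])],[3,3,8,2,2,9]),
  (41,[16,22,16,19,16,19,17,3,7,10,22,10],[(3546,[2,8,2,5,2,5,3]),(434,[4,3,8,3,3]),(292,[]),(288,[]),(2074,[1,3,8,1,2,9])],[3,9,3,3,4,3]),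
  (1,[3,7,27,22,10,33],[(4058,[]),(292,[]),(288,[])],[0,3,8,2,2,4,3]),
  (2,[14,19,22,16,18,16,3,7,10,23,10],[(3538,[0,5,8,2,4,2]),(292,[]),(1566,[0,8,1,8,2,5,9]),(814,[0,4,2,2,9,3,3]),(292,[])],[2,2,2,5,8,3,3]),
  (1,[3,1,19,11,18,7],[(4066,[]),(292,[]),(288,[])],[2,4,3,4,3,0,4,2]),
  (3,[14,17,19,17,23,3,7,10,23,10],[(3538,[0,3,5,3,9]),(292,[]),(1670,[2,2,4,3,5,2,9]),(288,[]),(2206,[3,8,1,2,5,9,3])],[5,2,2,5,8,3,0]),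
  (1,[3,19,11,29,11],[(4074,[])],[3,8,3,4,3,5,2]),
  (7,[16,15,17,19,16,16,19,17,3,7,10,23,10],[(3538,[2,1,3,5,2,2,5,3]),(293,[]),(1702,[0,4,2,5,5,5,2,2]),(293,[]),(2826,[2,1,3,4,2,5,3,0]),(288,[])],[0,2,2,8,3,4,2]),
  (1,[3,29,10,18,7,26],[(4082,[])],[5,2,2,5,3,5,3]),
  (8,[16,16,18,16,18,16,22,15,3,7,10,23,10],[(3538,[2,2,4,2,4,2,8,1]),(810,[3,4,3,9,3,8]),(292,[]),(430,[0,0,2,4,3,5,3,9]),(292,[])],[0,0,0,4,2,2,4,3,3]),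
  (1,[3,23,7,26,18],[(4090,[]),(293,[]),(288,[])],[9,2,2,2,5,9,3]),
  (11,[16,22,17,14,16,19,16,18,3,7,10,23,10],[(3538,[2,8,3,0,2,5,2,4]),(292,[]),(288,[]),(1246,[0,0,5,9,2,2,2]),(293,[]),(288,[]),(3722,[2,5,5,3,9,3,8]),(292,[]),(288,[])],[5,8,2,5,2,8,3]),
  (1,[7,17,3,19,10,14],[(4098,[]),(293,[])],[2,8,2,5,3,8]),
  (12,[16,19,16,19,16,16,23,14,3,7,10,23,10],[(3538,[2,5,2,5,2,2,9,0]),(293,[]),(288,[]),(2794,[0,2,5,5,2,4,2]),(292,[]),(2818,[1,3,5,2,2,5,2,9]),(292,[]),(288,[])],[5,9,3,3,4,3,3]),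
  (1,[3,7,10,19,28,17],[(4106,[])],[8,1,2,2,4,2,9]),
  (12,[17,14,19,16,19,19,22,3,7,10,23,10],[(3538,[3,0,5,2,5,5,8]),(292,[]),(1670,[2,5,2,5,8,2,1,2]),(292,[]),(3510,[0,2,1,5,3,4,3]),(292,[]),(288,[])],[2,5,5,8,2,8,1]),
  (1,[3,7,10,22,17,17],[(4114,[]),(288,[])],[3,5,3,3,5,9,2]),
  (13,[14,22,15,17,19,16,3,7,10,23,10],[(3538,[0,8,1,3,5,2]),(292,[]),(1670,[0,4,3,0,5,2,8]),(293,[]),(288,[]),(3638,[0,5,2,1,3,5,2,4]),(293,[]),(288,[])],[0,2,5,2,2,5,8,1]),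
  (1,[3,7,27,22,10,13],[(4122,[])],[4,3,5,2,5]),
  (13,[16,23,16,16,19,16,16,18,3,7,10,23,10],[(3538,[2,9,2,2,5,2,2,4]),(293,[]),(288,[]),(2794,[9,2,5,2,2,8]),(293,[]),(2438,[2,4,2,1,5,3,5])],[5,2,8,3,5,3,0]),
  (1,[3,7,10,29,17,11],[(4130,[])],[0,5,8,3,4,3]),
  (13,[16,19,16,16,19,22,15,3,7,10,23,10],[(3538,[2,5,2,2,5,8,1]),(288,[]),(4114,[1,3,9,0,2,4]),(293,[]),(288,[]),(922,[0,2,9,2,5,2,5,9]),(293,[]),(288,[])],[3,9,0,2,4,2,4]),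
  (1,[3,1,11,28,3,11],[(4138,[])],[5,3,4,3,9,2,4]),
  (13,[14,22,15,17,19,17,14,3,7,10,23,10],[(3538,[0,8,1,3,5,3,0]),(292,[]),(1670,[8,2,5,2,1,3,9]),(288,[]),(2906,[0,2,2,2,5,5,2]),(292,[])],[3,4,3,8,1,2,2,2]),
  (1,[3,1,23,7,11,14],[(4146,[])],[3,4,2,5,8]),
  (13,[15,17,23,16,15,19,17,19,3,7,10,23,10],[(3538,[1,3,9,2,1,5,3,5]),(292,[]),(1670,[5,3,5,9,2,2]),(293,[]),(288,[]),(2374,[3,0,4,3,4,3,0,4])],[3,4,3,3,4,2,4]),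
  (1,[3,1,7,27,33,10,14],[(4154,[])],[0,2,8,3,3,8,2]),
  (14,[15,19,17,18,17,17,19,19,3,7,10,23,10],[(3538,[1,5,3,4,3,3,5,5]),(292,[]),(288,[]),(3946,[1,5,3,8,2,1])],[2,4,2,8,2,4,2,2]),
  (1,[3,7,17,10,18],[(4162,[])],[1,2,2,5,3,3,9]),
  (14,[14,16,15,16,19,16,19,23,3,7,10,23,10],[(3538,[0,2,1,2,5,2,5,9]),(2990,[8,3,4,3,3,5]),(293,[]),(288,[])],[4,2,8,3,3,4,3,5]),
  (1,[7,16,3,29,16,3],[(4170,[])],[2,5,3,4,2,2,9]),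
  (38,[17,17,23,14,16,19,3,7,10,23,10],[(3538,[3,3,9,0,2,5]),(292,[]),(4066,[8,3,4,3,8]),(292,[]),(2670,[8,3,0,5,9,2,5]),(288,[])],[0,3,3,5,3,8,1,3]),
  (1,[3,7,17,19,27,33],[(4178,[]),(292,[]),(288,[])],[1,4,3,5,9,0]),
  (42,[17,17,18,16,18,16,3,7,10,23,10],[(3538,[3,3,4,2,4,2]),(293,[]),(288,[]),(1846,[0,9,2,2,4,3,3]),(293,[]),(2790,[3,0,2,5,2,2,5,9]),(292,[])],[0,5,8,3,5,3,5,3]),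
  (1,[3,29,10,33],[(4186,[]),(288,[])],[5,8,3,4,3,5,3,0]),
  (7,[14,14,16,23,16,16,19,3,1,7,11,27,19],[(3366,[0,0,2,9,2,2,5]),(293,[]),(1382,[0,0,3,5,2,2,4,3]),(293,[]),(288,[]),(1178,[0,2,2,2,5,5,2,2])],[0,3,0,4,2,8,2]),
  (1,[3,7,26,10,19,10],[(4194,[]),(292,[])],[3,4,2,2,5,3]),
  (10,[14,19,16,16,19,17,18,17,3,1,7,11,27,19],[(3366,[0,5,2,2,5,3,4,3]),(293,[]),(2566,[2,2,2,5,8,3,0,9]),(3490,[4,2,1,3,9,3,5])],[5,2,2,4,3,4]),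
  (1,[3,29,7,10,26,19],[(4202,[])],[3,0,5,2,5,9]),
  (12,[14,22,16,23,14,3,1,7,11,27,19],[(3366,[0,8,2,9,0]),(293,[]),(1318,[0,5,3,8,1,2,4,2]),(292,[]),(288,[]),(3578,[3,4,3,9,2,2,2,9]),(112,[]),(137,[]),(160,[])],[0,9,0,2,5,2,5,3]),
  (1,[7,16,3,7],[(4210,[]),(293,[])],[4,3,9,2,5,9,3]),
  (12,[14,14,16,22,17,19,16,22,3,1,7,11,27,19],[(3366,[0,0,2,8,3,5,2,8]),(293,[]),(2570,[0,3,3,4,2,9,3,5]),(288,[]),(2150,[8,2,4,3,5,3,9]),(292,[]),(288,[])],[1,1,5,2,2,5,2,4]),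
  (1,[3,7,10,15,28,16],[(4218,[]),(292,[]),(288,[])],[0,0,3,3,4,3,9,0]),
  (2,[16,23,17,18,17,22,3,1,7,16,19,11],[(3058,[2,9,3,4,3,8]),(1914,[0,4,3,5,9,3,4,3]),(288,[]),(3262,[5,2,5,2,4,3,3])],[3,5,8,2,1,4,2]),
  (1,[3,7,17,23,11,19],[(4226,[]),(292,[]),(288,[])],[0,3,5,5,3,4,3,0]),
  (2,[14,14,14,18,16,18,17,17,19,3,1,7,16,19,11],[(3058,[0,0,0,4,2,4,3,3,5]),(293,[]),(2506,[2,2,8,1,8,2,4]),(2690,[4,3,4,3,8,2])],[2,5,8,2,2]),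
  (1,[3,29,10,17,3,29],[(4234,[]),(292,[]),(288,[])],[1,1,5,3,5,2,2]),
  (3,[14,18,17,17,19,17,17,22,3,1,7,16,19,11],[(3058,[0,4,3,3,5,3,3,8]),(3686,[0,3,8,1,3,3,4]),(292,[]),(2442,[2,5,5,9,3,5,2]),(292,[])],[1,3,9,2,4,3,3]),
  (1,[3,7,11,29,17,10],[(4242,[])],[5,3,3,5,9,0,2,5]),
  (6,[19,16,16,16,23,16,3,1,7,16,19,11],[(3058,[5,2,2,2,9,2]),(293,[]),(3734,[0,2,8,3,8,3]),(288,[]),(1066,[3,0,5,2,9,0,2]),(293,[])],[3,4,2,5,2,2,4,2]),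
  (1,[7,17,3,7,9],[(4250,[])],[1,3,9,0,2,2]),
  (8,[14,14,16,18,17,23,16,23,3,1,7,16,19,11],[(3058,[0,0,2,4,3,9,2,9]),(288,[]),(1946,[1,2,2,5,2,2,2]),(293,[]),(288,[]),(3834,[0,0,3,5,2,2,8])],[2,4,2,5,2,4,3]),
  (1,[3,1,7,9,11],[(4258,[])],[0,0,5,2,1,4,3,8,2]),
  (8,[14,18,16,16,22,17,3,1,7,16,19,11],[(3058,[0,4,2,2,8,3]),(292,[]),(3894,[4,2,4,2,2,5,9,0]),(2258,[1,5,3,9,3,8]),(288,[])],[2,5,2,5,9,3,4]),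
  (1,[3,19,26,11,32,3],[(4266,[]),(292,[])],[3,4,3,0,9,2,2]),
  (8,[19,22,16,16,18,17,19,3,1,7,16,19,11],[(3058,[5,8,2,2,4,3,5]),(292,[]),(2938,[1,2,5,2,2,5,3,0]),(2974,[8,3,5,3,8,1,2]),(293,[])],[3,5,3,9,2,5,8]),
  (1,[3,1,7,27,32,10],[(4274,[]),(293,[])],[0,8,2,8,2]),
  (9,[22,16,19,22,17,18,17,23,3,1,7,16,19,11],[(3058,[8,2,5,8,3,4,3,9]),(292,[]),(288,[]),(1610,[0,2,1,5,3,9,3,4]),(292,[]),(1574,[1,2,4,3,5,2,4,2]),(292,[]),(288,[])],[0,5,5,3,4,3,0]),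
  (1,[3,1,10,28,27,3],[(4282,[]),(288,[])],[0,0,3,3,5,3,8,1]),
  (9,[18,17,17,22,16,16,22,3,1,7,16,19,11],[(3058,[4,3,3,8,2,2,8]),(1646,[3,3,8,3,4,2,5,2]),(293,[]),(662,[0,5,8,2,4,2,2,5,8]),(292,[]),(288,[])],[3,3,9,0,2,5,2,5]),
  (1,[3,19,10,33,3,19],[(4290,[]),(288,[])],[9,2,5,2,4,3,0,2]),
  (12,[17,18,17,18,17,19,17,3,1,7,16,19,11],[(3058,[3,4,3,4,3,5,3]),(293,[]),(2506,[0,0,2,5,3,4,2,1]),(292,[]),(288,[]),(3766,[9,2,8,2,9,2]),(292,[]),(288,[])],[4,2,2,8,2,9]),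
  (1,[3,19,27,18,3,32],[(4298,[]),(288,[])],[1,8,3,8]),
  (12,[22,16,18,16,15,19,17,3,1,7,16,19,11],[(3058,[8,2,4,2,1,5,3]),(3686,[2,8,1,3,4,3,3]),(292,[]),(562,[1,5,2,4,3,3,5]),(293,[]),(288,[])],[0,2,8,2,5,3,3]),
  (1,[3,11,28,7,10,13],[(4306,[]),(288,[])],[0,0,9,3,5,8,2,2]),
  (12,[15,19,17,22,16,18,16,3,1,7,16,19,11],[(3058,[1,5,3,8,2,4,2]),(1914,[2,4,2,8,1,8,2,4]),(1302,[0,3,8,3,5,9,3,4]),(161,[]),(116,[]),(112,[])],[3,5,2,2,5,9,3]),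
  (1,[3,1,10,18],[(4314,[])],[5,9,2,5,8,2]),
  (37,[14,17,17,23,14,17,3,1,7,16,19,11],[(3058,[0,3,3,9,0,3]),(292,[]),(3658,[2,5,3,4,3,8,3,9]),(1462,[1,3,4,2,1,2,5]),(292,[]),(288,[])],[1,3,5,3,3,5,8]),
  (1,[3,11,19,7,10,33],[(4322,[]),(292,[]),(288,[])],[0,3,4,3,8,2,4]),
  (37,[14,16,15,16,19,16,18,17,18,3,1,7,16,19,11],[(3058,[0,2,1,2,5,2,4,3,4]),(292,[]),(4202,[8,2,2,5,3,3]),(2882,[0,5,9,2,2,4,3,5]),(288,[])],[1,2,4,2,4,3,3,9]),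
  (1,[3,7,11,19,28,17],[(4330,[]),(292,[]),(288,[])],[0,2,5,8,1,3,8,2]),
  (38,[14,22,16,18,16,18,16,15,3,1,7,16,19,11],[(3058,[0,8,2,4,2,4,2,1]),(322,[0,2,4,3,8,2,2,5]),(108,[]),(161,[]),(112,[]),(1282,[3,3,4,2,1,3]),(293,[]),(288,[])],[5,2,4,2,4,2,9]),
  (1,[3,7,10,23,29,16],[(4338,[])],[5,3,5,3,3,5,5]),
  (38,[14,14,17,18,17,19,17,22,15,3,1,7,16,19,11],[(3058,[0,0,3,4,3,5,3,8,1]),(288,[]),(2590,[0,0,2,5,2,9,2,2]),(654,[5,2,8,1,3,3,9]),(292,[])],[3,3,4,3,5,2,2]),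
  (1,[3,29,11,15,10],[(4346,[]),(293,[]),(288,[])],[0,4,3,8,1,3,5,2]),
  (40,[17,22,16,18,16,15,22,3,1,7,16,19,11],[(3058,[3,8,2,4,2,1,8]),(292,[]),(2562,[4,2,2,2,8,1,8]),(292,[]),(288,[]),(3506,[1,1,5,3])],[1,8,2,2,4,2,9]),
  (1,[3,7,27,28,17,22],[(4354,[]),(292,[]),(288,[])],[8,3,0,5,2,9]),
  (43,[14,23,16,19,22,16,16,16,3,1,7,16,19,11],[(3058,[0,9,2,5,8,2,2,2]),(293,[]),(3802,[2,4,2,2,8,3,5]),(293,[]),(1382,[2,1,4,3,5,8,2]),(293,[]),(288,[])],[1,3,3,4,3,5,3,8]),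
  (1,[3,7,11,15,10],[(4362,[]),(293,[])],[4,2,2,9,3,5,8]),
  (2,[18,16,23,17,19,17,19,22,3,1,7,16,19,10],[(2166,[4,2,9,3,5,3,5,8]),(292,[]),(288,[]),(2578,[3,3,4,2,5,2,2,9]),(292,[]),(288,[]),(2970,[0,5,8,3,4,3,9])],[0,2,8,3,0,4,2]),
  (1,[7,27,7,26,7],[(4370,[]),(288,[])],[1,1,4,3,3,4,3]),
  (3,[22,16,16,16,22,16,19,3,1,7,16,19,10],[(2166,[8,2,2,2,8,2,5]),(293,[]),(2830,[3,3,8,2,1,3,4]),(2998,[5,5,8,3,8,2])],[2,8,3,4,2,9,3,4]),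
  (1,[3,19,10,14,7,9],[(4378,[]),(293,[]),(288,[])],[1,3,4,2,9,0,2,5]),
  (5,[16,22,16,16,18,17,18,3,1,7,16,19,10],[(2166,[2,8,2,2,4,3,4]),(293,[]),(1270,[0,8,3,5,9,3,5,2]),(3718,[2,1,5,2,2,2,5,8]),(292,[]),(288,[])],[8,1,3,5,9,2]),
  (1,[3,19,16,7],[(4386,[]),(293,[])],[2,2,4,2,5,2,4]),
  (6,[14,17,22,16,16,23,17,18,3,1,7,16,19,10],[(2166,[0,3,8,2,2,9,3,4]),(814,[4,2,2,5,8]),(288,[]),(3486,[0,5,3,4,3,0,9]),(292,[]),(288,[])],[4,3,0,5,3,5,3,5]),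
  (1,[3,7,27,18,3,17],[(4394,[])],[2,5,8,3,8,2]),
  (6,[17,18,16,15,19,16,16,3,1,7,16,19,10],[(2166,[3,4,2,1,5,2,2]),(292,[]),(288,[]),(2578,[8,1,3,4,3,9]),(293,[]),(1834,[9,2,5,2,5,2,9]),(292,[])],[0,0,4,2,4,3,3,5]),
  (1,[3,7,5,16,19,11],[(4402,[]),(293,[]),(288,[])],[0,4,2,8,3,4,3,5]),
  (7,[16,16,19,16,18,17,17,3,1,7,16,19,10],[(2166,[2,2,5,2,4,3,3]),(288,[]),(606,[2,2,5,3,5,5,8]),(288,[]),(2386,[0,3,8,2,2,4,3]),(292,[])],[5,3,5,8,2,5]),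
  (1,[3,7,11,16,32,26,3],[(4410,[])],[0,0,2,4,3,9,3,8]),
  (7,[17,18,17,22,16,15,22,3,1,7,16,19,10],[(2166,[3,4,3,8,2,1,8]),(774,[0,8,3,5,3,0,2]),(288,[]),(3946,[2,1,4,2,5,2,8]),(292,[]),(288,[])],[3,5,2]),
  (1,[3,7,9,26,28,10,16],[(4418,[]),(292,[])],[8,2,4,2,1,4,2]),
  (8,[15,16,23,17,17,19,17,17,3,1,7,16,19,10],[(2166,[1,2,9,3,3,5,3,3]),(293,[]),(3926,[5,9,3,3,4,3,9,0]),(2774,[0,9,3]),(292,[]),(288,[])],[0,3,3,5,5]),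
  (1,[3,19,17,18,3],[(4426,[]),(292,[])],[0,0,2,4,2,2,2,8]),
  (9,[14,17,17,22,17,18,17,17,3,1,7,16,19,10],[(2166,[0,3,3,8,3,4,3,3]),(814,[0,2,4,2,1,5,3]),(292,[]),(750,[0,5,3,5,9,2,2])],[0,5,3,3,5,3,5]),
  (1,[3,11,23,7,11,11],[(4434,[]),(292,[])],[1,5,2,2,8,1]),
  (10,[14,22,15,16,19,3,1,7,16,19,10],[(2166,[0,8,1,2,5]),(293,[]),(288,[]),(3318,[0,2,5,5,2,2,2]),(293,[]),(1750,[3,9,0,3,3,4,3]),(293,[])],[2,5,2,5,3,4,3,8]),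
  (1,[3,7,29,27,11,19,3],[(4442,[])],[0,2,5,3,9,3,5,2]),
  (10,[16,15,17,19,16,15,19,17,3,1,7,16,19,10],[(2166,[2,1,3,5,2,1,5,3]),(293,[]),(802,[3,4,2,9,3,3,8]),(2774,[4,2,5,3,0,4,2,9]),(293,[])],[2,5,2,4,2,1,3]),
  (1,[3,7,11,27,23,11],[(4450,[]),(292,[]),(288,[])],[0,5,8,1,2,2,2,4]),
  (14,[16,18,16,19,17,23,14,3,1,7,16,19,10],[(2166,[2,4,2,5,3,9,0]),(293,[]),(1854,[8,3,5,3,3,4,2])],[2,5,2,8,3,8,1]),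
  (1,[3,7,5,26,19,10,13],[(4458,[])],[0,2,2,5,2,2,5,9]),
  (17,[17,17,19,17,23,16,19,19,3,1,7,16,19,10],[(2166,[3,3,5,3,9,2,5,5]),(293,[]),(1694,[0,9,2,1,4,2,5,2])],[0,3,0,2,8,3,8]),
  (1,[3,1,10,28,11,11],[(4466,[])],[3,0,5,9,2,4,2,9]),
  (37,[14,16,15,18,17,18,17,17,3,1,7,16,19,10],[(2166,[0,2,1,4,3,4,3,3]),(293,[]),(2950,[0,3,8,2,2,9,3,4]),(1530,[2,5,3,3,8,3])],[0,0,5,3,8,2,5,3]),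
  (1,[7,17,3,28,17],[(4474,[]),(293,[]),(288,[])],[0,4,3,4,3,0,4,3]),
  (39,[15,19,17,22,16,3,1,7,16,19,10],[(2166,[1,5,3,8,2]),(288,[]),(4082,[0,8,2,1,4,2]),(293,[]),(288,[]),(2058,[1,2,2,4,2,8,3]),(292,[])],[9,2,5,3,3,5,8]),
  (1,[3,7,11,22,10,16,29],[(4482,[])],[0,2,1,4,2,2,9,3]),
  (39,[14,16,19,16,16,22,15,3,1,7,16,19,10],[(2166,[0,2,5,2,2,8,1]),(288,[]),(3162,[0,5,8,2,5,9,0]),(293,[]),(506,[0,0,4,2,9,2,2,5])],[0,0,4,3,8,2,5,2,1]),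
  (1,[3,10,23,11,17,7],[(4490,[]),(288,[])],[0,2,9,2,4,2,5,2,8]),
  (40,[15,17,18,17,23,14,3,1,7,16,19,10],[(2166,[1,3,4,3,9,0]),(346,[2,4,2,8,3,5,8]),(120,[]),(112,[]),(4210,[1,2,2,8,2,2,4,2]),(292,[]),(288,[])],[2,5,8,2,2,2]),
  (1,[3,1,11,23,10,14,7],[(4498,[]),(292,[])],[0,3,4,2,5,2,5,2])]
theorem hD7 : allD2 lk B KW SW F A RL [] D7 979 = true := by decide +kernel
end
end CA.ThM
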