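import Cfsg.Agent.Lib.Spor.ThF

/-! Derivations of the double coset table of the Thompson group. -/

set_option autoImplicit false
set_option maxRecDepth 100000
set_option linter.all false
namespace CA.ThM
open CA.CNet CA.CWord CA.CLevel CA.CSimple CA.CPoint CA.CLow CA.CTodd CA.TCos
noncomputable section

def D8 : List (ℕ × Word × List (ℕ × Word) × Word) := [(41,[16,16,16,19,23,14,17,3,1,7,16,19,10],[(2166,[2,2,2,5,9,0,3]),(292,[]),(288,[]),(1926,[0,5,2,1,5,2,2,9,3]),(292,[]),(1050,[5,8,2,8,3,3])],[4,3,0,5,2,2,8]),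
  (1,[3,7,26,33,11,19],[(4506,[]),(293,[])],[1,3,3,5,3,3,8]),
  (42,[17,14,23,16,18,16,18,3,1,7,16,19,10],[(2166,[3,0,9,2,4,2,4]),(292,[]),(288,[]),(2990,[0,9,2,5,2,4,2,2]),(3446,[0,2,2,8,2,5,2,2])],[3,5,3,5]),
  (1,[3,28,11,13],[(4514,[]),(293,[])],[5,9,3,5,3,3,9]),
  (2,[17,19,17,19,19,16,23,3,1,7,16,11,19],[(3290,[3,5,3,5,5,2,9]),(1922,[2,5,2,2,9,2,2]),(293,[]),(2134,[0,0,2,8,2,2,8]),(292,[])],[0,2,2,2,5,3,4,2]),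
  (1,[3,7,18,16,11,33],[(4522,[]),(288,[])],[4,3,0,4,2]),
  (3,[14,16,19,22,17,22,3,1,7,16,11,19],[(3290,[0,2,5,8,3,8]),(1922,[8,3,0,4,3]),(2654,[0,5,9,2,5,2]),(288,[])],[0,5,2,2,9,3]),
  (1,[3,23,17,7,29,11],[(4530,[]),(288,[])],[1,5,3,5,3,0,5]),
  (5,[16,16,16,19,23,16,16,16,3,1,7,16,11,19],[(3290,[2,2,2,5,9,2,2,2]),(2258,[0,2,4,2,1,5,2,2]),(293,[]),(288,[]),(4302,[0,3,0,5,2,5,2,9]),(293,[])],[2,2,2,9,3,4,3]),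
  (1,[3,7,17,18,16,33,10],[(4538,[])],[1,3,0,5,3,3,5]),
  (7,[14,19,22,16,16,18,16,3,1,7,16,11,19],[(3290,[0,5,8,2,2,4,2]),(288,[]),(3218,[2,8,2,1,5,3,3]),(293,[]),(2518,[3,5,9,3,4,3,0])],[4,3,9,0,2,5]),
  (1,[3,11,23,10,22,7],[(4546,[])],[5,8,2,1,8,3,5]),
  (8,[16,15,19,17,14,18,17,3,1,7,16,11,19],[(3290,[2,1,5,3,0,4,3]),(293,[]),(288,[]),(2722,[0,0,5,9,2,2]),(293,[]),(288,[]),(2174,[5,3,3,5,2]),(136,[]),(160,[]),(120,[])],[1,3,8,2,2,9,3]),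
  (1,[3,23,16,3,29],[(4554,[]),(292,[])],[0,5,5,2,2,2,9,3]),
  (8,[16,18,16,18,16,15,19,3,1,7,16,11,19],[(3290,[2,4,2,4,2,1,5]),(293,[]),(288,[]),(3674,[2,2,8,3,4,2,2,4]),(293,[]),(4102,[1,3,8,3,0,4]),(293,[])],[0,0,4,3,5,3,5]),
  (1,[3,1,10,23,7,10,33],[(4562,[]),(292,[])],[1,2,2,9,2,1]),
  (9,[14,19,16,16,16,18,16,18,3,1,7,16,11,19],[(3290,[0,5,2,2,2,4,2,4]),(292,[]),(4470,[3,9,2,4,2,9]),(293,[]),(3362,[2,1,5,3,8,2,4,2]),(293,[]),(288,[])],[2,5,2,5,2,5,3]),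
  (1,[3,10,28,3,16,10],[(4570,[]),(288,[])],[5,3,4,3,3,5,8]),
  (9,[15,18,17,19,19,17,17,3,1,7,16,11,19],[(3290,[1,4,3,5,5,3,3]),(292,[]),(4470,[2,4,2,2,9,3,5]),(292,[]),(288,[]),(2650,[8,2,1,4]),(292,[])],[5,2,1,4,2,2,4]),
  (1,[3,7,29,33,10],[(4578,[]),(288,[])],[8,3,4,3,4,3,0,5]),
  (13,[16,22,15,17,18,17,22,3,1,7,16,11,19],[(3290,[2,8,1,3,4,3,8]),(292,[]),(288,[]),(3618,[0,3,0,4,2,2,5,8]),(3018,[3,5,5,5,3,8,1])],[2,8,2,2,4,2,8]),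
  (1,[3,7,5,17,28,17],[(4586,[])],[4,2,5,2,5,3,3]),
  (14,[17,23,16,16,19,17,3,1,7,16,11,19],[(3290,[3,9,2,2,5,3]),(4022,[0,8,3,5,9,3,5,2])],[0,3,5,3,9,2,4,2]),
  (1,[3,10,19,7,10,33],[(4594,[])],[2,2,2,4,2,5,2,5]),
  (36,[18,16,15,19,3,1,7,16,11,19],[(3290,[4,2,1,5]),(2798,[4,2,4,2,1,2]),(2274,[2,9,3,3,4,3,4]),(293,[]),(288,[])],[0,3,8,2,5,2,2]),
  (1,[3,7,27,22,17,3],[(4602,[]),(288,[])],[8,3,5,8,2,1]),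
  (39,[19,19,17,3,1,7,16,11,19],[(3290,[5,5,3]),(1790,[8,1,3,5,3,4,3,5]),(292,[]),(3198,[5,8,2,4,2,1]),(292,[]),(288,[])],[9,2,5,8,2,2]),
  (1,[3,7,10,13,29,17],[(4610,[]),(288,[])],[0,2,1,3,5,3,4]),
  (41,[16,22,16,16,18,16,16,3,1,7,16,11,19],[(3290,[2,8,2,2,4,2,2]),(2494,[3,4,3,8,2,2,2,4]),(2686,[0,2,1,2,5,2,4,2])],[2,4,2,5,2,2,8,3]),
  (1,[3,11,23,11,11],[(4618,[])],[3,9,0,2,4]),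
  (2,[16,16,19,17,19,19,19,16,3,11,11,29,16,3],[(4342,[2,2,5,3,5,5,5,2]),(2722,[5,8,3,9,3,4]),(292,[]),(288,[]),(2206,[0,9,2,5,2,9,0,3]),(293,[])],[5,8,2,2,2,9]),
  (1,[3,29,10,26,17,7],[(4626,[])],[1,1,2,2,5,3,3,5]),
  (2,[15,17,18,17,23,16,16,3,11,11,29,16,3],[(4342,[1,3,4,3,9,2,2]),(293,[]),(288,[]),(4626,[0,4,2,1,3,4,2,2]),(292,[]),(288,[]),(2294,[8,2,4,2,1,3,5])],[4,3,4,3,9,3,5]),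
  (1,[3,7,16,28,26],[(4634,[])],[1,5,2,4,2,5,3,5]),
  (7,[14,16,18,16,16,19,22,17,3,11,11,29,16,3],[(4342,[0,2,4,2,2,5,8,3]),(293,[]),(922,[0,4,2,1,4,3,3]),(2078,[0,5,2,8,3,0,4,3]),(288,[])],[1,3,3,4,2,4,2,4]),
  (1,[3,28,10,23,3,5],[(4642,[])],[5,3,5,5,8,2]),
  (7,[17,19,22,16,19,22,15,3,11,11,29,16,3],[(4342,[3,5,8,2,5,8,1]),(292,[]),(288,[]),(1734,[0,3,5,5,5]),(292,[]),(288,[]),(3614,[2,5,2,4,3,0,2,8]),(293,[]),(288,[])],[2,2,5,2,4,2,2,2,8]),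
  (1,[3,29,10,26,3,19],[(4650,[]),(288,[])],[0,0,3,5,3,5,5,9]),
  (7,[16,15,18,17,22,16,16,3,11,11,29,16,3],[(4342,[2,1,4,3,8,2,2]),(292,[]),(2046,[3,4,3,9,3,5,3,0]),(288,[]),(1398,[0,8,2,1,3,4,3,5])],[0,5,3,3,5,5]),
  (1,[3,7,27,22,7,11],[(4658,[])],[0,4,2,2,9,3,8]),
  (7,[16,18,17,14,18,16,15,3,11,11,29,16,3],[(4342,[2,4,3,0,4,2,1]),(288,[]),(3126,[5,2,2,2,5,8]),(292,[]),(288,[]),(2974,[1,1,2,2,2,5,3,4]),(288,[])],[2,2,2,8,1,2]),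
  (1,[3,19,11,11],[(4666,[]),(292,[])],[8,3,8,1,3,8,2]),
  (7,[14,17,22,16,22,15,3,11,11,29,16,3],[(4342,[0,3,8,2,8,1]),(3402,[5,8,3,3,5,3,9]),(292,[]),(2250,[0,5,2,4,2,2,5,9]),(293,[]),(288,[])],[3,5,5,5,3,9,2]),
  (1,[7,17,3,19,11,13],[(4674,[]),(293,[])],[0,0,2,4,2,5,2,9]),
  (9,[19,17,19,16,19,22,16,16,3,11,11,29,16,3],[(4342,[5,3,5,2,5,8,2,2]),(292,[]),(2478,[4,3,0,2,4,2,4]),(292,[]),(1270,[5,2,1,5,3,9,0,2]),(293,[])],[2,4,3,5,2,9,3]),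
  (1,[3,7,27,28,10,18],[(4682,[]),(292,[]),(288,[])],[0,4,2,5,3,3,9,0,3]),
  (13,[18,17,19,17,19,16,3,11,11,29,16,3],[(4342,[4,3,5,3,5,2]),(4026,[2,5,2,5,2,5,9,2]),(293,[]),(288,[]),(4242,[5,3,4,3,9,3,4,2]),(293,[])],[0,0,3,5,3,5,3,9]),
  (1,[3,1,23,7,10,14],[(4690,[]),(292,[])],[0,3,8,2,5,8]),
  (17,[14,17,17,19,23,16,18,16,3,11,11,29,16,3],[(4342,[0,3,3,5,9,2,4,2]),(2306,[5,9,3,4,3,5])],[0,5,2,9,2,2,5,3]),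
  (36,[18,16,23,16,15,3,11,11,29,16,3],[(4342,[4,2,9,2,1]),(293,[]),(3102,[4,2,5,3,0,2]),(293,[]),(288,[]),(3170,[5,8,1,3,8,1]),(293,[]),(288,[])],[2,5,3,3,4,3]),
  (1,[3,10,22,7,10,22],[(4702,[])],[0,4,3,0,4,2,2,5]),
  (36,[14,16,16,19,16,16,3,11,11,29,16,3],[(4342,[0,2,2,5,2,2]),(288,[]),(2050,[1,3,8,2,1,3,5,3]),(288,[]),(2886,[0,0,5,2,5,3,3,9]),(293,[]),(288,[])],[0,3,4,2,2,8]),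
  (1,[3,23,17,7,19,27],[(4710,[]),(288,[])],[5,5,2,1,5]),
  (36,[17,17,22,17,19,23,17,3,11,11,29,16,3],[(4342,[3,3,8,3,5,9,3]),(293,[]),(3234,[1,3,5,2,4,2,5]),(116,[]),(104,[]),(160,[]),(1126,[4,3,8,2,2,4,3]),(288,[])],[2,2,2,5,3,5,3,4]),
  (1,[3,7,10,16,33,11],[(4718,[])],[0,2,4,2,8,1,3]),
  (38,[14,14,14,3,11,11,29,16,3],[(4342,[0,0,0]),(2370,[3,8,2,1,4,3,8,2]),(292,[]),(288,[]),(2550,[0,3,8,1,2,2,8]),(292,[])],[0,4,2,5,3,0,4]),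
  (1,[3,7,29,10,10,26],[(4726,[]),(292,[]),(288,[])],[1,2,2,5,8,3,3]),
  (39,[19,22,17,17,19,17,19,22,3,11,11,29,16,3],[(4342,[5,8,3,3,5,3,5,8]),(288,[]),(2858,[0,4,3,5,8,3,3,4]),(292,[]),(288,[]),(946,[8,2,2,4,3,9]),(292,[])],[0,9,3,4,3,3]),
  (1,[3,19,10,16,26,7],[(4734,[])],[4,2,8,2,1,4,3]),
  (39,[16,22,16,18,16,19,16,15,3,11,11,29,16,3],[(4342,[2,8,2,4,2,5,2,1]),(288,[]),(1698,[1,4,2,2,5,3,5,8]),(292,[]),(288,[]),(1982,[0,3,0,5,2,5,8])],[0,4,2,5,8,3,5,3]),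
  (1,[3,7,27,33,7,11],[(4742,[])],[5,2,8,3,9,0]),
  (40,[17,18,16,15,18,3,11,11,29,16,3],[(4342,[3,4,2,1,4]),(292,[]),(288,[]),(3190,[3,4,2,8,2,5,2]),(293,[]),(2222,[2,2,8,3,0,2,5,2]),(293,[])],[5,3,9,2,4,3]),
  (1,[3,7,11,14,28,26],[(4750,[]),(293,[])],[0,2,2,8,2,2,4]),
  (40,[17,18,16,19,16,18,17,17,3,11,11,29,16,3],[(4342,[3,4,2,5,2,4,3,3]),(2918,[5,2,5,3,4,3,8]),(1494,[1,5,3,3,5,3,8]),(293,[])],[0,9,2,5,8,3,5,3]),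
  (1,[3,7,11,14,19,10,18],[(4758,[]),(292,[]),(288,[])],[1,4,2,2,5,2,5,8]),
  (2,[16,16,19,16,18,17,17,7,17,3,7,9],[(4250,[2,2,5,2,4,3,3]),(4246,[0,4,2,5,9]),(293,[]),(2446,[8,2,5,2,4,2,8]),(288,[])],[2,5,5,2,5,8,3]),
  (1,[3,28,3,11,32,16],[(4766,[]),(292,[])],[5,3,3,8,2,1,3]),
  (3,[17,19,23,14,16,16,7,17,3,7,9],[(4250,[3,5,9,0,2,2]),(4722,[0,5,5,8,3,5,3,3]),(292,[]),(288,[]),(2006,[0,8,2,4,2,1,4,2])],[5,9,3,5,3,8,1]),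
  (1,[3,11,11,19,10],[(4774,[])],[5,5,2,1,4,3,5]),
  (7,[18,17,22,17,17,18,7,17,3,7,9],[(4250,[4,3,8,3,3,4]),(288,[]),(3174,[0,3,5,5,3,5,9]),(3154,[2,2,4,2,2,4,2,2])],[0,3,8,3,3,8]),
  (1,[3,1,7,17,28,10,27],[(4782,[]),(292,[])],[0,2,4,3,5,2,2,4]),
  (7,[14,19,19,19,17,18,17,14,7,17,3,7,9],[(4250,[0,5,5,5,3,4,3,0]),(293,[]),(2810,[0,0,2,2,5,3,5,3]),(288,[]),(1602,[2,1,4,3,8,2,4,3])],[5,2,4,2,2,8,3]),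
  (1,[3,23,11,23,3],[(4790,[]),(288,[])],[1,5,3,4,3,4,3,9]),
  (8,[18,17,22,16,18,17,14,7,17,3,7,9],[(4250,[4,3,8,2,4,3,0]),(288,[]),(4350,[2,1,3,5,3,4,2,2]),(292,[]),(2730,[2,5,5,3,9,3,5,2]),(293,[])],[0,5,5,5,2,2,2,8]),
  (1,[3,10,23,7,10,22],[(4798,[]),(292,[]),(288,[])],[0,4,2,2,5,3,5,8]),
  (8,[16,16,19,16,18,17,14,7,17,3,7,9],[(4250,[2,2,5,2,4,3,0]),(293,[]),(288,[]),(1766,[4,2,8,1,3,9,2,5]),(2802,[0,8,2,4,3,3,5]),(293,[]),(288,[])],[0,2,4,2,5,2,4,2,1]),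
  (1,[3,11,28,10,23,3],[(4806,[]),(293,[])],[2,8,2,2,9,2,5]),
  (8,[17,19,19,19,16,16,7,17,3,7,9],[(4250,[3,5,5,5,2,2]),(293,[]),(3718,[5,3,5,3,9,0,3,5]),(288,[]),(1450,[2,4,3,3,5,5,8]),(292,[])],[2,4,3,0,5,3]),
  (1,[3,19,7,10,22,3],[(4814,[]),(293,[]),(288,[])],[0,2,4,3,4,3,8,2]),
  (9,[23,16,16,18,16,19,16,7,17,3,7,9],[(4250,[9,2,2,4,2,5,2]),(4246,[1,2,4,3,5,2,9,3,4]),(3258,[0,5,2,4,3,3,4,3]),(292,[])],[3,9,3,4,3,3,5,9]),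
  (1,[3,7,26,19,11,13],[(4822,[]),(292,[])],[2,2,4,3,5,3,0,2]),
  (9,[16,16,16,18,16,16,22,7,17,3,7,9],[(4250,[2,2,2,4,2,2,8]),(4246,[0,9,3,5,2,9]),(1122,[0,2,4,3,3,8,3]),(293,[]),(288,[])],[2,8,3,5,9,0,2,4]),
  (1,[3,19,17,18,3,32],[(4830,[]),(288,[])],[2,1,3,5,2,5,3]),
  (14,[17,14,19,16,22,16,18,16,7,17,3,7,9],[(4250,[3,0,5,2,8,2,4,2]),(4690,[3,4,3,4,3,5,2,5]),(292,[])],[5,2,4,3,3,9,2,5]),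
  (1,[3,1,28,11],[(4838,[])],[2,2,8,2,2,2,5]),
  (14,[14,23,16,19,17,17,19,7,17,3,7,9],[(4250,[0,9,2,5,3,3,5]),(4118,[1,2,4,2,8,2,5,3,9])],[8,1,2,2,4,2,9]),
  (1,[3,7,5,10,29,16],[(4846,[])],[8,2,4,2,5,5,2,5]),
  (17,[16,15,19,16,18,16,19,17,7,17,3,7,9],[(4250,[2,1,5,2,4,2,5,3]),(2286,[2,5,2,1,4,2,2,8]),(292,[]),(288,[])],[0,8,1,2,5,2,5,9]),
  (1,[3,19,16,16,18,3],[(4854,[]),(292,[]),(288,[])],[1,3,4,3,4,2,2]),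
  (36,[14,14,19,16,23,7,17,3,7,9],[(4250,[0,0,5,2,9]),(292,[]),(4342,[3,5,3,0,5,9]),(288,[]),(2578,[0,5,2,5,2,5,2]),(293,[]),(288,[])],[2,1,3,4,3,4,3,4]),
  (1,[3,1,29,3,16],[(4862,[]),(292,[])],[2,1,3,5,2,4,3,4,3]),
  (37,[14,14,14,19,16,18,17,17,7,17,3,7,9],[(4250,[0,0,0,5,2,4,3,3]),(1546,[2,8,2,4,3,0,2]),(293,[]),(3442,[1,5,2,5,3,3,5])],[0,3,5,3,9,3,3]),
  (1,[3,7,10,22,16,29],[(4870,[]),(293,[]),(288,[])],[4,3,9,2,2,2]),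
  (39,[18,17,22,16,15,17,7,17,3,7,9],[(4250,[4,3,8,2,1,3]),(292,[]),(288,[]),(1774,[0,8,1,3,5,2,8]),(3878,[0,5,3,8,3,0,5]),(292,[])],[3,5,2,2,5,3,5,3]),
  (1,[3,7,27,28,10,9],[(4878,[]),(292,[])],[5,2,5,2,1,4,3,3]),
  (39,[19,22,16,19,16,22,17,7,17,3,7,9],[(4250,[5,8,2,5,2,8,3]),(3734,[1,5,3,5,2,8]),(292,[]),(288,[]),(3730,[0,5,8,2,5,3,3,5]),(292,[]),(288,[])],[5,2,4,2,5,2,8,3]),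
  (1,[3,11,19,16,33,3],[(4886,[]),(293,[]),(288,[])],[3,4,3,0,4,2,8]),
  (41,[19,16,23,17,17,18,16,7,17,3,7,9],[(4250,[5,2,9,3,3,4,2]),(293,[]),(288,[]),(3034,[8,3,3,8,3,5,3,5]),(3438,[0,0,3,3,4,3,0,2])],[4,2,5,8,2,8,1]),
  (1,[3,19,16,27,7],[(4894,[]),(292,[])],[0,0,5,2,5,9]),
  (2,[22,15,22,17,18,17,17,3,1,7,11,26,19],[(2970,[8,1,8,3,4,3,3]),(292,[]),(590,[1,2,2,8,2,2,4,2]),(293,[]),(2006,[0,8,3,5,3,3,5,8]),(293,[])],[1,2,5,2,1,4,2,9]),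
  (1,[3,7,11,15,16,28,26],[(4902,[])],[2,2,2,8,2,1,2,4]),
  (4,[15,19,22,16,18,17,17,3,1,7,11,26,19],[(2970,[1,5,8,2,4,3,3]),(293,[]),(3818,[0,3,9,0,2,5]),(4062,[2,5,8,2,4,2,1])],[1,3,0,5,2,5,9,3]),
  (1,[3,7,11,14,19,10,15],[(4910,[])],[1,4,2,5,2,5,3,4]),
  (8,[14,19,19,16,16,3,1,7,11,26,19],[(2970,[0,5,5,2,2]),(288,[]),(4082,[0,9,3,3,4,3,3]),(292,[]),(678,[0,4,3,9,3,4,2]),(292,[])],[2,2,5,5,2,4,2,1]),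
  (1,[3,11,22,10,16,19],[(4918,[]),(293,[]),(288,[])],[4,3,4,3,5,5,9]),
  (8,[15,16,18,17,17,19,16,22,3,1,7,11,26,19],[(2970,[1,2,4,3,3,5,2,8]),(426,[2,4]),(293,[]),(288,[]),(378,[2,9,3,3,5,8,3]),(256,[]),(264,[]),(256,[]),(252,[]),(248,[])],[1,2,2,8,2]),
  (1,[3,7,26,28,26,22],[(4926,[])],[3,8,1,2,5,2,1,4]),
  (9,[14,22,17,14,18,16,16,3,1,7,11,26,19],[(2970,[0,8,3,0,4,2,2]),(292,[]),(590,[2,5,3,3,8,3,3,4]),(3206,[1,5,3,5,5,3,3,9])],[0,5,3,9,2,5,8,2]),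
  (1,[3,7,29,11,9,16],[(4934,[]),(292,[])],[4,3,3,4,2,8]),
  (9,[14,22,15,17,19,22,16,19,3,1,7,11,26,19],[(2970,[0,8,1,3,5,8,2,5]),(442,[8,2,5,8,3,4]),(292,[]),(4262,[5,5,8,2,8,1]),(293,[])],[4,3,5,3,0,4]),
  (1,[3,1,7,26,29,11,27],[(4942,[]),(292,[]),(288,[])],[5,2,2,8,3,3,8]),
  (10,[19,17,17,3,1,7,11,26,19],[(2970,[5,3,3]),(288,[]),(3786,[3,5,8,1,3,4]),(293,[]),(288,[]),(3194,[0,3,8,3,3,8])],[0,3,3,8,3,3,5]),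
  (1,[3,1,28,10,26,3],[(4950,[]),(292,[]),(288,[])],[0,3,5,9,2,5,2]),
  (11,[15,18,17,19,16,16,16,18,3,1,7,11,26,19],[(2970,[1,4,3,5,2,2,2,4]),(3438,[5,2,5,5,3,8,2]),(293,[]),(288,[]),(4762,[2,5,2,1,4,3,3]),(292,[]),(288,[])],[2,5,3,3,5,2,1,8]),
  (1,[3,11,29,16,3],[(4958,[]),(292,[])],[3,0,2,5,8]),
  (11,[16,16,16,22,17,14,18,17,3,1,7,11,26,19],[(2970,[2,2,2,8,3,0,4,3]),(292,[]),(288,[]),(1966,[0,0,2,1,5,2,4,2,4]),(3178,[2,5,2,2,9,0,3,3]),(288,[])],[0,0,4,2,5,8,2]),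
  (1,[3,7,5,10,28,10,12],[(4966,[]),(292,[])],[3,4,3,5,5,9,2,8]),
  (36,[19,17,23,17,18,17,14,3,1,7,11,26,19],[(2970,[5,3,9,3,4,3,0]),(292,[]),(3174,[0,3,3,8,3,0,9]),(834,[0,2,5,9,3])],[8,2,2,5,2,5,9]),
  (1,[3,7,11,26,23,17,28],[(4974,[]),(293,[]),(288,[])],[0,3,8,1,3,5,2]),
  (38,[17,14,16,18,17,18,3,1,7,11,26,19],[(2970,[3,0,2,4,3,4]),(293,[]),(4410,[1,3,4,3,5,9,0]),(288,[]),(990,[0,0,3,5,3,5,5,3,4]),(288,[])],[0,0,4,2,1,5,2,4,2]),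
  (1,[3,7,5,29,26,7,9],[(4982,[])],[1,3,4,3,5]),
  (39,[18,17,19,17,23,16,15,3,1,7,11,26,19],[(2970,[4,3,5,3,9,2,1]),(292,[]),(288,[]),(1814,[5,2,4,2,4,3,3]),(3342,[2,5,3,0,5]),(293,[]),(288,[])],[2,8,1,3,3,4]),
  (1,[3,7,11,27,33,10],[(4990,[])],[0,5,2,4,2,4,3]),
  (2,[15,17,18,17,19,19,17,3,28,10],[(2330,[1,3,4,3,5,5,3]),(3018,[2,4,2,2,8,3,0,4]),(288,[]),(4958,[0,3,5,8,2,8]),(292,[]),(288,[])],[0,8,3,4,3,3,5,8]),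
  (1,[3,28,3,10,26],[(4998,[]),(292,[]),(288,[])],[3,4,3,9,2]),
  (2,[22,17,22,16,19,17,22,3,28,10],[(2330,[8,3,8,2,5,3,8]),(288,[]),(3094,[0,2,1,8,2,5,2]),(3034,[0,0,5,2,9,0,3]),(293,[])],[2,4,3,3,8,3,4]),
  (1,[3,7,27,23,11,23],[(5006,[]),(292,[]),(288,[])],[0,3,5,9,3,3,4]),
  (2,[16,16,23,3,28,10],[(2330,[2,2,9]),(292,[]),(288,[]),(4702,[5,3,0,4,2,2,5,2]),(293,[]),(4678,[2,2,4,2,2,9,0])],[9,2,1,5,2]),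
  (1,[3,7,10,29,26],[(5014,[]),(293,[]),(288,[])],[3,9,2,5,8,2,4]),
  (3,[18,17,19,23,16,19,23,3,28,10],[(2330,[4,3,5,9,2,5,9]),(288,[]),(3094,[0,3,5,9,0,2,2,2,5]),(293,[]),(288,[]),(2526,[3,8,2,5,5,9]),(293,[])],[2,8,3,3,4,3,4]),
  (1,[7,17,3,7],[(5022,[]),(292,[]),(288,[])],[0,2,2,5,9,2,5]),
  (6,[17,19,16,19,16,18,16,15,3,28,10],[(2330,[3,5,2,5,2,4,2,1]),(292,[]),(288,[]),(4702,[0,3,8,2,2,9,3,4]),(292,[]),(288,[]),(2870,[1,2,4,3,8]),(293,[])],[5,2,2,4,2,2,8]),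
  (1,[3,7,11,22,27,28,7],[(5030,[]),(292,[])],[0,0,2,8,1,3,9]),
  (8,[14,22,16,16,22,16,15,19,3,28,10],[(2330,[0,8,2,2,8,2,1,5]),(4718,[0,4,3,5,2,4,2]),(3042,[1,2,9,2,4,2,5,3])],[0,8,3,5,8,1]),
  (1,[3,7,17,19,10,10],[(5038,[]),(288,[])],[1,4,2,9,2,2,5,3]),
  (8,[14,16,15,17,19,16,18,17,18,17,3,28,10],[(2330,[0,2,1,3,5,2,4,3,4,3]),(288,[]),(1290,[0,9,2,2,2,9,3]),(293,[]),(288,[]),(2550,[5,2,5,5,9,3,5]),(293,[]),(288,[])],[2,2,4,2,2,9,0]),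
  (1,[3,10,29,17,29],[(5046,[])],[9,2,2,5,3,4]),
  (8,[16,16,23,17,18,17,19,3,28,10],[(2330,[2,2,9,3,4,3,5]),(288,[]),(298,[5,5,3,9,3,3]),(108,[]),(161,[]),(706,[5,9,0,2,4,2,2]),(292,[]),(288,[])],[0,0,2,5,2,5,9]),
  (1,[3,7,5,11,16,18],[(5054,[]),(292,[])],[4,3,0,2,5,3,5]),
  (10,[14,22,17,19,23,16,3,28,10],[(2330,[0,8,3,5,9,2]),(293,[]),(4194,[0,2,5,2,2,4,3,0,5]),(288,[]),(710,[0,2,9,0,2,2,5,2]),(137,[]),(160,[]),(112,[]),(104,[])],[0,5,3,8,2,5,2]),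
  (1,[3,1,7,33,10],[(5062,[]),(292,[]),(288,[])],[3,9,0,2,5,3]),
  (10,[16,18,17,22,16,16,18,3,28,10],[(2330,[2,4,3,8,2,2,4]),(4306,[5,3,4,3,4,3,4]),(292,[]),(3154,[2,1,3,4,2,4,2]),(293,[]),(288,[])],[4,2,8,3,5,2]),
  (1,[3,1,28,11,14,7],[(5070,[]),(293,[]),(288,[])],[0,4,3,4,3,5,9,3]),
  (10,[14,17,22,16,23,14,3,28,10],[(2330,[0,3,8,2,9,0]),(293,[]),(2802,[3,9,2,8,2,5,3,8]),(293,[]),(4798,[3,8,3,5,3,5]),(293,[])],[0,2,2,2,8,3,9]),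
  (1,[3,7,11,23,28,10],[(5078,[]),(292,[])],[1,8,2,4,2,1]),
  (11,[14,18,17,19,16,22,16,22,3,28,10],[(2330,[0,4,3,5,2,8,2,8]),(1198,[2,8,1,8,2,4,2]),(288,[]),(2734,[3,9,3,8]),(292,[])],[0,5,2,2,5,8,3,4]),
  (1,[7,17,3,19,11],[(5086,[]),(292,[]),(288,[])],[1,8,2,4,3,5,2])]
theorem hD8 : allD2 lk B KW SW F A RL [] D8 1126 = true := by decide +kernel
def D9 : List (ℕ × Word × List (ℕ × Word) × Word) := [(13,[17,17,22,16,15,19,17,3,28,10],[(2330,[3,3,8,2,1,5,3]),(4118,[4,2,1,3,4,2,5,8]),(1030,[8,3,0,2,8]),(293,[]),(288,[])],[0,5,8,1,3,8,2]),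
  (1,[3,7,10,9,14],[(5094,[]),(292,[])],[1,5,3,5,3,3,9]),
  (14,[14,16,19,16,23,3,28,10],[(2330,[0,2,5,2,9]),(4722,[4,3,5,5,5,3,8])],[0,5,3,0,4,3,4,3]),
  (1,[3,7,10,17,32,11],[(5102,[])],[9,3,4,2,2,2]),
  (17,[16,16,19,16,18,16,23,16,3,28,10],[(2330,[2,2,5,2,4,2,9,2]),(2602,[0,4,2,5,8,2,9,0]),(288,[])],[2,2,2,8,3,3,5]),
  (1,[3,19,7,10,10],[(5110,[]),(293,[])],[0,3,5,3,9,2,4,3]),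
  (36,[14,14,17,17,23,16,18,3,28,10],[(2330,[0,0,3,3,9,2,4]),(4246,[2,2,4,3,0,5,2]),(293,[]),(2174,[0,8,1,2,2,4,2,2,4]),(161,[]),(136,[]),(112,[])],[8,1,2,2,4]),
  (1,[3,7,29,10,27],[(5118,[])],[9,3,4,3,9,2]),
  (39,[15,15,19,16,19,17,17,3,28,10],[(2330,[1,1,5,2,5,3,3]),(4662,[3,5,3,9,2,5,8,3]),(292,[]),(288,[]),(1326,[8,1,2,9]),(288,[])],[1,4,3,8,3,9]),
  (1,[3,11,19,11,18,3],[(5126,[]),(293,[])],[5,5,2,1,4]),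
  (41,[17,14,18,17,19,17,17,19,3,28,10],[(2330,[3,0,4,3,5,3,3,5]),(5042,[0,4,3,9,2,5,2,5]),(4278,[2,2,5,9,2,5,8]),(288,[])],[9,3,5,3,5,3,5]),
  (1,[3,19,10,22,7],[(5134,[]),(292,[]),(288,[])],[2,5,2]),
  (42,[16,15,18,17,23,17,17,23,3,28,10],[(2330,[2,1,4,3,9,3,3,9]),(3058,[3,5,9,2,5,2,5]),(292,[]),(288,[]),(3758,[2,1,3,4,2,5])],[3,0,5,9,2,4,2,8]),
  (1,[3,7,5,16,29,3,16],[(5142,[]),(292,[])],[2,2,2,5,3,9,0]),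
  (43,[19,19,17,19,17,14,16,3,28,10],[(2330,[5,5,3,5,3,0,2]),(4254,[2,4,3,5,2,9,3,5]),(292,[]),(4274,[0,0,9,3,3,4,3,5]),(292,[]),(288,[])],[3,3,8,2,1,5]),
  (1,[7,10,16,3],[(5150,[]),(292,[]),(288,[])],[8,3,0,5,2,1,4]),
  (6,[14,16,16,16,18,16,19,16,23,3,1,23,3,10],[(2578,[0,2,2,2,4,2,5,2,9]),(292,[]),(288,[]),(4906,[0,0,2,5,2,8,1,8]),(292,[]),(4930,[0,4,2,2,9,2,2,8]),(256,[]),(252,[]),(248,[])],[0,0,2,5,3,4]),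
  (1,[3,10,18,7],[(5158,[]),(288,[])],[0,0,5,2,4,2,2,5,8]),
  (8,[15,18,17,18,17,19,17,23,3,1,23,3,10],[(2578,[1,4,3,4,3,5,3,9]),(288,[]),(2086,[2,8,3,5,9,0,2,4]),(292,[]),(288,[]),(4562,[1,8,3,5,3,8,1,2]),(293,[])],[0,5,3,5,3,5,5,3]),
  (1,[3,19,7,16,7,27],[(5166,[]),(288,[])],[5,2,4,3,3,5,5]),
  (9,[14,19,16,16,19,17,23,17,17,3,1,23,3,10],[(2578,[0,5,2,2,5,3,9,3,3]),(292,[]),(288,[]),(3070,[0,9,0,3]),(2678,[3,5,3,3,5,3,0,2]),(293,[]),(288,[])],[0,5,2,8,3,8,2]),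
  (1,[3,1,7,10,26],[(5174,[])],[0,4,2,1,8,3]),
  (2,[17,14,19,17,18,16,18,3,1,28,11,13],[(4270,[3,0,5,3,4,2,4]),(293,[]),(2350,[0,5,2,2,5,2,2,9]),(288,[]),(2978,[5,2,2,2,8,3,0]),(293,[]),(288,[])],[0,3,3,5,2,2,8,1]),
  (1,[3,11,28,7,10,12],[(5182,[]),(292,[])],[4,3,9,2,4,3,3,9]),
  (2,[15,16,16,18,16,19,19,3,1,28,11,13],[(4270,[1,2,2,4,2,5,5]),(293,[]),(288,[]),(1494,[0,5,2,2,4,3,8]),(293,[]),(2402,[1,5,3,4,3,0,4,3])],[0,4,2,8,3,5,3,0]),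
  (1,[3,23,11,18,3,1],[(5190,[])],[0,0,5,2,2,2,4,2]),
  (3,[15,16,18,16,22,16,18,17,3,1,28,11,13],[(4270,[1,2,4,2,8,2,4,3]),(2066,[5,8,3,3,5,3,5,8]),(292,[]),(2046,[0,4,2,2,5,3,9,2])],[0,5,3,5,2,2,2]),
  (1,[3,7,10,29,27,10],[(5198,[]),(293,[]),(288,[])],[3,3,5,2,2,5,2,1]),
  (6,[19,17,22,16,19,16,16,22,3,1,28,11,13],[(4270,[5,3,8,2,5,2,2,8]),(292,[]),(288,[]),(2534,[5,5,8,2]),(4054,[5,3,5,3,5,9,0]),(288,[])],[0,2,8,3,3,5,3,9]),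
  (1,[3,7,11,29,11,26],[(5206,[]),(293,[])],[4,3,0,2,5,2,2,4]),
  (6,[14,18,17,17,19,23,17,3,1,28,11,13],[(4270,[0,4,3,3,5,9,3]),(293,[]),(2350,[2,5,2,1,2,4,2]),(292,[]),(288,[]),(2874,[0,5,3,0,2,8,2])],[0,4,3,9,2,9]),
  (1,[3,11,19,11,15],[(5214,[]),(292,[]),(288,[])],[2,5,3,4,3,5,9]),
  (7,[17,18,16,16,19,16,22,15,3,1,28,11,13],[(4270,[3,4,2,2,5,2,8,1]),(292,[]),(288,[]),(778,[0,2,4,3,5,2,8,2,1]),(293,[]),(288,[]),(3822,[5,5,5,2,8,3]),(292,[]),(288,[])],[0,5,2,2,2,5,8,3,0]),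
  (1,[7,16,7,16,3,18],[(5222,[]),(292,[])],[8,2,2,5,3,9,3,5]),
  (8,[15,17,14,19,17,18,17,17,3,1,28,11,13],[(4270,[1,3,0,5,3,4,3,3]),(293,[]),(514,[0,0,5,2,4,2,5,9]),(4302,[1,2,5,2,2,5,3,4]),(293,[])],[0,2,8,2,2,4,2,4]),
  (1,[3,19,11,16,7],[(5230,[]),(292,[])],[0,5,2,9,0,3,4]),
  (8,[19,16,19,22,16,15,22,3,1,28,11,13],[(4270,[5,2,5,8,2,1,8]),(293,[]),(288,[]),(1746,[0,2,4,2,1,3,5,9]),(288,[]),(3502,[5,2,9,3,3,4,2,4]),(293,[]),(288,[])],[8,3,4,3,5,9,2]),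
  (1,[3,7,11,19,11,29,16],[(5238,[]),(292,[]),(288,[])],[2,2,2,9,0,2,2,4]),
  (8,[14,19,17,19,17,18,17,3,1,28,11,13],[(4270,[0,5,3,5,3,4,3]),(292,[]),(288,[]),(4310,[1,5,3,3,5,2,1,4]),(293,[]),(4702,[3,0,5,2,1])],[0,9,3,4,3,3,9]),
  (1,[3,18,16,28,3,1],[(5246,[]),(292,[]),(288,[])],[2,5,9,3,4,3,8]),
  (9,[14,17,23,16,19,19,19,3,1,28,11,13],[(4270,[0,3,9,2,5,5,5]),(4582,[5,5,2,5,9,2]),(292,[]),(288,[]),(4050,[5,2,2,4,3,5,8]),(292,[]),(288,[])],[3,9,2,2,5,3,4]),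
  (1,[3,7,5,26,29,26],[(5254,[]),(292,[])],[4,3,5,3,4,3,5,8]),
  (9,[14,18,16,22,15,17,17,3,1,28,11,13],[(4270,[0,4,2,8,1,3,3]),(293,[]),(288,[]),(1494,[5,8,3,8,1]),(394,[3,4,3,3,5,9]),(265,[]),(256,[])],[3,5,3,8,1,8,3,8]),
  (1,[3,7,29,11,26],[(5262,[]),(292,[])],[0,3,4,2,8,3,5,3,0]),
  (9,[18,17,19,19,19,17,3,1,28,11,13],[(4270,[4,3,5,5,5,3]),(292,[]),(2262,[1,4,2,5,2,2]),(1562,[1,2,5,9,3,4,3,8]),(288,[])],[5,2,8,2,4,3,9]),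
  (1,[3,1,7,27,29,27],[(5270,[]),(288,[])],[1,1,3,3,4,3,4]),
  (9,[16,16,22,15,17,17,18,3,1,28,11,13],[(4270,[2,2,8,1,3,3,4]),(1570,[1,3,5,2,2,5,2,8]),(293,[]),(288,[]),(990,[4,2,4,2,4,3,5]),(292,[])],[2,5,8,2,2,2,5,8]),
  (1,[3,1,7,27,11,29,11],[(5278,[]),(288,[])],[1,2,5,2,4,3,4]),
  (9,[16,18,16,16,16,22,3,1,28,11,13],[(4270,[2,4,2,2,2,8]),(292,[]),(2262,[4,2,5,3,8,1,2]),(3286,[2,5,8,2,2,4,3,5])],[2,4,3,4,3,4,3,4]),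
  (1,[3,7,11,26,18,26,26],[(5286,[])],[4,3,5,3,9,3,4,2]),
  (10,[14,19,17,17,19,17,18,3,1,28,11,13],[(4270,[0,5,3,3,5,3,4]),(293,[]),(2534,[2,2,8,2,4,2,9]),(4898,[0,0,2,5,8,2,8,2])],[9,2,5,2,4,2,2]),
  (1,[3,7,11,16,28,26],[(5294,[])],[2,2,5,5,5,3,8]),
  (10,[15,18,17,18,17,19,16,23,3,1,28,11,13],[(4270,[1,4,3,4,3,5,2,9]),(292,[]),(1666,[3,8,1,2,4,2,2]),(293,[]),(288,[]),(3602,[1,2,2,8,3,3,5]),(292,[])],[3,8,1,3,5,2,1]),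
  (1,[3,7,17,22,11],[(5302,[]),(292,[]),(288,[])],[0,2,5,3,3,9,0]),
  (11,[14,23,17,17,22,17,19,3,1,28,11,13],[(4270,[0,9,3,3,8,3,5]),(293,[]),(4834,[0,2,4,3,4,3,5,3,3]),(292,[]),(288,[]),(3050,[1,2,2,5,3,5]),(288,[])],[4,3,4,2,8,2,4]),
  (1,[3,19,27,3,7,32],[(5310,[]),(293,[]),(288,[])],[0,4,2,4,2,5,9]),
  (11,[19,19,23,17,19,17,17,19,3,1,28,11,13],[(4270,[5,5,9,3,5,3,3,5]),(292,[]),(2278,[2,9,3,4,3,4,3,8]),(293,[]),(2574,[2,1,2,4,2,2,8,3]),(288,[])],[5,8,2,2,4,3]),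
  (1,[3,7,18,11,26,18],[(5318,[]),(292,[]),(288,[])],[0,8,3,3,8,3,0,4]),
  (12,[17,23,16,18,17,19,17,23,3,1,28,11,13],[(4270,[3,9,2,4,3,5,3,9]),(288,[]),(2146,[3,5,2,5,2,4,3]),(288,[]),(2954,[5,3,3,5,3,9,0]),(288,[])],[0,2,4,2,5]),
  (1,[3,7,28,26,7,17],[(5326,[]),(293,[]),(288,[])],[1,4,3,4,3,0,5]),
  (12,[17,17,19,17,19,17,19,19,3,1,28,11,13],[(4270,[3,3,5,3,5,3,5,5]),(288,[]),(2470,[2,1,5,3,0,4,2,2]),(293,[]),(3218,[4,3,4,3,9,3,4]),(292,[])],[1,5,2,5,2,5,2,9]),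
  (1,[7,10,17,3,18],[(5334,[])],[9,3,3,5,3,3]),
  (12,[18,17,19,23,16,16,22,3,1,28,11,13],[(4270,[4,3,5,9,2,2,8]),(288,[]),(3506,[0,5,9,3,5,3,4]),(5098,[1,3,8,3,0]),(293,[]),(288,[])],[2,1,5,2,2,5,9,2]),
  (1,[3,7,18,10,14],[(5342,[]),(292,[]),(288,[])],[0,3,9,2,4,2,5,9]),
  (12,[14,17,19,19,19,17,14,3,1,28,11,13],[(4270,[0,3,5,5,5,3,0]),(2274,[2,4,2,8,3,4,3,3]),(292,[]),(3778,[5,5,2,2,4,2,5,9])],[0,9,2,4,2,2,2,5]),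
  (1,[3,18,26,28,3,33],[(5350,[]),(293,[])],[4,3,5,3,5,9]),
  (14,[18,16,16,16,19,16,22,3,1,28,11,13],[(4270,[4,2,2,2,5,2,8]),(2482,[3,3,5,8,3,0,2]),(293,[]),(288,[])],[3,3,5,2,2,5,3,8]),
  (1,[3,7,10,29,10,17],[(5358,[])],[3,5,9,2,2,4,3,5]),
  (36,[22,17,17,22,17,18,17,3,1,28,11,13],[(4270,[8,3,3,8,3,4,3]),(288,[]),(4742,[0,0,3,4,3,5,3,8]),(3734,[2,9,2,4,2,5,2,9]),(293,[]),(288,[])],[3,3,5,8,3,0]),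
  (1,[3,7,17,22,3,17],[(5366,[]),(293,[]),(288,[])],[0,5,2,1,4,2,2,4]),
  (37,[14,17,19,16,16,16,23,16,3,1,28,11,13],[(4270,[0,3,5,2,2,2,9,2]),(288,[]),(4662,[5,2,1,2,4,3]),(288,[]),(2594,[3,4,3,3,8,2]),(293,[]),(288,[])],[5,3,3,4,3,9,3]),
  (1,[3,23,10,22,3],[(5374,[]),(293,[]),(288,[])],[0,5,2,8,3,3,5,3]),
  (38,[16,16,19,19,17,3,1,28,11,13],[(4270,[2,2,5,5,3]),(292,[]),(288,[]),(2250,[5,2,2,8,3,3]),(3550,[3,0,4,2,8,1,3,4])],[1,2,4,2,5,2,9,2]),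
  (1,[3,7,27,23,17,3],[(5382,[]),(292,[])],[3,0,5,2,2,5,3]),
  (40,[16,15,19,16,16,18,17,18,3,1,28,11,13],[(4270,[2,1,5,2,2,4,3,4]),(1674,[0,5,3,3,5,2,4]),(292,[]),(3202,[3,3,5,3,9,3,8]),(293,[])],[0,3,4,2,1,4,2]),
  (2,[22,16,19,16,18,16,19,3,1,28,10,10],[(1150,[8,2,5,2,4,2,5]),(4766,[0,3,0,5,3,4,3,5]),(292,[]),(3142,[2,1,3,5,2,5,9]),(292,[]),(288,[])],[0,0,2,5,5,5]),
  (1,[3,10,28,3,10,16],[(5394,[]),(292,[])],[0,3,5,3,3,5,3,4]),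
  (3,[14,14,16,19,17,17,19,17,3,1,28,10,10],[(1150,[0,0,2,5,3,3,5,3]),(4766,[0,8,3,5,2,8,2,4,2]),(293,[]),(4810,[2,4,3,3,8,1,2]),(292,[])],[2,9,3,3,8,3,4]),
  (1,[3,10,23,26,7,26],[(5402,[]),(293,[]),(288,[])],[9,2,2,4,3,9,3,4]),
  (9,[15,15,18,16,16,19,3,1,28,10,10],[(1150,[1,1,4,2,2,5]),(4530,[0,5,2,2,2,5,9,3]),(288,[]),(5402,[1,5,3,5,3,5,9]),(292,[]),(288,[])],[0,3,0,5,2,9,2,2,8]),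
  (1,[3,7,17,11,19,10],[(5410,[])],[0,5,5,9,3,5,8]),
  (11,[14,18,17,19,17,22,16,19,3,1,28,10,10],[(1150,[0,4,3,5,3,8,2,5]),(293,[]),(5126,[0,3,8,2,1,3]),(293,[]),(288,[]),(1246,[0,3,5,2,2,4,2,1])],[0,3,4,3,3,4,2,4]),
  (1,[7,16,3,11,19],[(5418,[]),(292,[]),(288,[])],[0,3,0,4,2,2,5]),
  (11,[15,18,17,19,22,16,16,3,1,28,10,10],[(1150,[1,4,3,5,8,2,2]),(292,[]),(288,[]),(1806,[0,4,3,5,5,8,3]),(292,[]),(702,[2,1,4,3,5,3,0,2])],[4,3,9,2,5,2,1,3]),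
  (1,[3,7,26,29,26],[(5426,[]),(288,[])],[0,5,2,5,9,3,5]),
  (12,[16,19,16,22,17,17,3,1,28,10,10],[(1150,[2,5,2,8,3,3]),(292,[]),(1062,[0,3,3,9,2,2,5]),(293,[]),(288,[]),(4350,[1,2,2,4,2,5,5,8])],[5,8,3,5,9,2,1]),
  (1,[3,29,11,27,3,18],[(5434,[])],[2,2,2,5,2,8,1,3]),
  (38,[14,16,16,22,16,16,16,23,16,3,1,28,10,10],[(1150,[0,2,2,8,2,2,2,9,2]),(293,[]),(1338,[0,4,3,4,2,9,3,5]),(293,[]),(566,[0,5,3,5,8,2,5,9]),(288,[])],[2,5,5,2,2,5,3]),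
  (1,[3,1,29,11],[(5442,[])],[5,3,3,8,2,2,2,9]),
  (41,[15,17,18,17,18,16,3,1,28,10,10],[(1150,[1,3,4,3,4,2]),(293,[]),(1514,[0,2,5,9,0,3,5]),(292,[]),(1150,[1,2,5,3,3,4,2,1]),(288,[])],[0,3,5,2,2,8,1]),
  (1,[3,7,26,33,3,27],[(5450,[]),(292,[])],[4,2,5,3,0,4,2,9]),
  (2,[15,15,19,16,19,17,19,17,3,1,28,10,13],[(1362,[1,1,5,2,5,3,5,3]),(292,[]),(288,[]),(2894,[2,8,3,5,9,2,8]),(3078,[0,0,5,3,8,2,5,2])],[3,3,5,2,1,2]),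
  (1,[3,7,10,17],[(5458,[]),(293,[])],[5,8,2,8,3,4]),
  (8,[14,19,16,19,22,17,19,17,3,1,28,10,13],[(1362,[0,5,2,5,8,3,5,3]),(288,[]),(5210,[3,9,3,4,2,9,3,5]),(288,[]),(2510,[0,3,5,3,3,5,9]),(293,[])],[9,2,2,4,2,2,8]),
  (1,[3,29,11,17],[(5466,[]),(292,[])],[9,3,5,3,8]),
  (8,[14,14,23,16,19,16,16,22,3,1,28,10,13],[(1362,[0,0,9,2,5,2,2,8]),(293,[]),(288,[]),(1790,[0,3,3,9,0,3,4,3,3]),(292,[]),(288,[]),(3702,[1,5,2,4,2,8,3,5]),(292,[]),(288,[])],[0,2,4,2,5,3,9]),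
  (1,[3,10,29,26,33,3],[(5474,[]),(293,[])],[5,2,1,3,4,3]),
  (9,[17,19,19,17,14,19,17,3,1,28,10,13],[(1362,[3,5,5,3,0,5,3]),(288,[]),(3562,[0,9,3,3,8,3,4]),(3946,[3,3,5,5,3,4,3]),(292,[]),(288,[])],[2,5,8,2,1,4,2,5]),
  (1,[3,7,10,23,3,10,17],[(5482,[])],[0,2]),
  (10,[15,16,18,16,16,16,19,3,1,28,10,13],[(1362,[1,2,4,2,2,2,5]),(3630,[0,3,5,5,5,3,9,3,3]),(292,[]),(954,[2,9,3,5,3,0,5,2]),(292,[]),(288,[])],[2,2,5,2,8,2,8,2]),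
  (1,[3,19,11,18,7],[(5490,[]),(293,[])],[2,2,5,2,1,3,4]),
  (11,[16,18,17,14,19,3,1,28,10,13],[(1362,[2,4,3,0,5]),(292,[]),(288,[]),(2382,[2,2,5,5,5,3,4]),(4618,[8,2,2,2,5,8,2])],[1,3,5,2,8,2,2,2]),
  (1,[3,1,7,10,15,17],[(5498,[]),(292,[]),(288,[])],[1,4,3,3,4,3,5,2]),
  (11,[16,22,16,15,17,23,16,3,1,28,10,13],[(1362,[2,8,2,1,3,9,2]),(292,[]),(288,[]),(3286,[4,2,2,8,3,4,3]),(292,[]),(288,[]),(5306,[3,9,3,4,3,8]),(293,[]),(288,[])],[5,9,3,3,4]),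
  (1,[3,7,5,29,10,17,19],[(5506,[]),(293,[]),(288,[])],[2,5,2,5,2,5,9,2]),
  (11,[14,16,18,16,15,19,16,3,1,28,10,13],[(1362,[0,2,4,2,1,5,2]),(293,[]),(288,[]),(1030,[0,3,5,5,2,5,9]),(293,[]),(288,[]),(3810,[1,8,2,2,2,4]),(292,[])],[5,2,2,5,9,3,3,4]),
  (1,[3,18,16,28,3],[(5514,[]),(293,[])],[3,3,5,2,1,2,5]),
  (12,[22,16,22,16,18,3,1,28,10,13],[(1362,[8,2,8,2,4]),(292,[]),(288,[]),(5034,[0,0,5,2,1,5,2]),(2202,[2,1,5,3,5,2,1,2]),(288,[])],[1,2,2,5,3,8,2]),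
  (12,[19,16,22,15,17,3,1,28,10,13],[(1362,[5,2,8,1,3]),(292,[]),(288,[]),(2894,[3,0,2,5,8,2,4]),(962,[3,4,3,0,4,3,5]),(288,[])],[2,5,2,1,3,5,2]),
  (1,[3,7,16,19,27,29],[(5526,[])],[5,3,5,5,3,0,5,2]),
  (13,[23,16,19,16,15,18,17,3,1,28,10,13],[(1362,[9,2,5,2,1,4,3]),(292,[]),(288,[]),(3666,[0,5,3,3,5,3,0]),(293,[]),(288,[]),(5194,[0,0,5,2,5,9,3]),(293,[]),(288,[])],[2,1,8,3,4,3,5,9]),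
  (1,[3,7,10,32,17,18],[(5534,[]),(293,[]),(288,[])],[2,4,3,0,9,2,4]),
  (36,[19,22,15,16,18,3,1,28,10,13],[(1362,[5,8,1,2,4]),(962,[3,0,4,2,5,3,9]),(293,[]),(288,[]),(4874,[0,5,3,4,3,0,9]),(292,[])],[0,0,2,4,3,4]),
  (1,[3,7,15,16,29,26],[(5542,[]),(292,[]),(288,[])],[5,3,5,3,4,3,4]),
  (36,[16,19,22,16,19,23,14,3,1,28,10,13],[(1362,[2,5,8,2,5,9,0]),(288,[]),(3522,[5,3,4,2,2,4]),(293,[]),(288,[]),(4274,[0,3,0,2,5,3])],[2,2,5,3,5,3,5,5]),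
  (1,[3,10,29,7,26],[(5550,[]),(293,[])],[8,3,4,3,0,5,2,9]),
  (37,[23,16,16,19,17,23,17,3,1,28,10,13],[(1362,[9,2,2,5,3,9,3]),(292,[]),(288,[]),(1662,[5,5,2,4,2,9]),(292,[]),(2082,[5,9,0,2,2,2,4,3]),(288,[])],[0,2,5,2,4,2,2,4]),
  (1,[3,7,11,19,27],[(5558,[]),(293,[])],[1,2,4,2,5,8]),
  (37,[14,16,16,18,16,19,17,17,3,1,28,10,13],[(1362,[0,2,2,4,2,5,3,3]),(5430,[8,3,3,4,2]),(293,[]),(2674,[3,4,2,5,3,0,2]),(288,[])],[0,4,2,1,4,3,3]),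
  (1,[3,1,7,10,17,14],[(5566,[])],[0,0,3,3,9,2,2,2,9]),
  (37,[17,22,17,18,17,14,16,3,1,28,10,13],[(1362,[3,8,3,4,3,0,2]),(292,[]),(288,[]),(2038,[0,3,0,2,5,3,0]),(288,[]),(2346,[5,9,2,5,2,5,2,1])],[4,3,3,5,9,2,4]),
  (1,[3,19,17,19,3],[(5574,[])],[5,3,5,9,2,2,4]),
  (40,[17,19,16,22,15,17,17,3,1,28,10,13],[(1362,[3,5,2,8,1,3,3]),(2998,[2,4,2,5,3,8,1]),(2006,[2,8,3,8,2,5,2]),(293,[]),(288,[])],[5,8,2,2,2,5,8,2]),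
  (1,[7,10,26,3,19],[(5582,[]),(288,[])],[0,0,4,3,5,3,4,3,0]),
  (41,[22,15,17,17,18,17,18,3,1,28,10,13],[(1362,[8,1,3,3,4,3,4]),(2610,[1,1,3,3,5,2,4]),(292,[]),(3250,[0,4,2,2,5,9,2])],[3,0,4,2,2,4,2]),
  (1,[3,29,3,10,22],[(5590,[])],[0,3,5,2,2,9,0,3]),
  (42,[17,18,16,22,17,19,17,19,3,1,28,10,13],[(1362,[3,4,2,8,3,5,3,5]),(288,[]),(1898,[9,3,3,5,3,3]),(293,[]),(288,[]),(1742,[4,2,2,5,9,0,3,5])],[1,2,2,5,2,8,2,2]),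
  (1,[3,1,10,18],[(5598,[]),(292,[])],[0,0,2,5,9]),
  (2,[22,16,15,19,17,23,17,3,1,23,11,13],[(1498,[8,2,1,5,3,9,3]),(918,[0,5,2,2,9,3,4,3]),(293,[]),(4998,[0,3,3,9,2,8,1,8]),(292,[])],[0,2,2,5,2,5,2]),
  (1,[3,1,10,22,11,13],[(5606,[]),(288,[])],[2,8,2,9,2,5,8]),
  (3,[16,19,16,22,15,22,16,3,1,23,11,13],[(1498,[2,5,2,8,1,8,2]),(288,[]),(4550,[2,4,2,8,2,1,5,2]),(2514,[4,2,5,8,2,1,5]),(292,[])],[0,5,2,1,4,3,5,8]),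
  (1,[3,7,26,19,11,29],[(5614,[]),(292,[])],[0,5,8,2,5,3,3,5]),
  (3,[19,17,22,16,19,16,16,23,3,1,23,11,13],[(1498,[5,3,8,2,5,2,2,9]),(292,[]),(4970,[0,3,9,2,2,8,2]),(292,[]),(906,[1,1,4,3,3,4,3,5]),(257,[]),(265,[]),(252,[])],[0,8,2,2,4,2,5,2]),
  (1,[3,1,23,7,10],[(5622,[]),(292,[]),(288,[])],[2,2,5,2,4,2,5,9]),
  (6,[15,19,17,19,22,17,18,3,1,23,11,13],[(1498,[1,5,3,5,8,3,4]),(292,[]),(4970,[1,2,9,3,5,2,2,8]),(298,[2,5,8,3]),(112,[]),(161,[])],[0,9,2,9,3,4]),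
  (1,[3,7,5,11,18],[(5630,[]),(293,[]),(288,[])],[0,4,3,3,4,3,0,4]),
  (8,[19,16,15,18,17,22,16,15,3,1,23,11,13],[(1498,[5,2,1,4,3,8,2,1]),(293,[]),(288,[]),(1314,[0,4,2,4,3,0]),(293,[]),(3670,[5,2,5,3,0,4]),(293,[]),(288,[])],[1,3,0,4,3,5,2]),
  (1,[3,19,10,23,3,33],[(5638,[]),(293,[])],[1,4,3,3,5,3,3,9]),
  (8,[22,17,19,17,23,3,1,23,11,13],[(1498,[8,3,5,3,9]),(292,[]),(2870,[3,4,2,9,3,3,8]),(292,[]),(2378,[3,5,3,0,2,4])],[2,5,8,1,2,2,2]),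
  (1,[3,10,29,27,32,3],[(5646,[]),(293,[])],[9,3,5,3,5,8,1]),
  (8,[14,16,23,16,23,17,3,1,23,11,13],[(1498,[0,2,9,2,9,3]),(292,[]),(288,[]),(3446,[0,4,3,0,2,4,3]),(288,[]),(2990,[5,2,9,3,4,2,2])],[5,2,9,2,4,2,5,2]),
  (1,[3,1,29,3,10,33,10],[(5654,[]),(292,[])],[0,8,3,3,8,3,3,4]),
  (8,[14,23,16,16,18,17,17,3,1,23,11,13],[(1498,[0,9,2,2,4,3,3]),(293,[]),(3506,[0,2,9,3,4,3,3]),(293,[]),(288,[]),(5130,[2,9,2,2,5,2]),(292,[]),(288,[])],[9,2,4,2,2,5,9])]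
theorem hD9 : allD2 lk B KW SW F A RL [] D9 1273 = true := by decide +kernel
def D10 : List (ℕ × Word × List (ℕ × Word) × Word) := [(1,[3,7,17,19,27,27],[(5662,[]),(292,[])],[0,3,8,2,5,2]),
  (9,[19,17,17,19,17,14,3,1,23,11,13],[(1498,[5,3,3,5,3,0]),(293,[]),(288,[]),(4754,[3,4,2,5,8]),(288,[]),(4790,[0,0,4,3,3,5,3,9])],[1,3,8,2]),
  (1,[3,11,28,3,17],[(5670,[]),(293,[])],[1,3,5,2,8,2,4]),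
  (9,[22,16,16,18,16,23,14,3,1,23,11,13],[(1498,[8,2,2,4,2,9,0]),(293,[]),(288,[]),(4754,[5,3,5,8,3,3,4]),(292,[]),(288,[]),(1306,[3,3,4,3,9,3,5,3]),(292,[])],[1,4,2,2,8,3,0,5]),
  (1,[3,7,5,17,11,28,11],[(5678,[]),(292,[])],[5,2,1,4,2,5,9]),
  (11,[14,14,18,16,23,3,1,23,11,13],[(1498,[0,0,4,2,9]),(586,[0,4,2,2,5,5,2]),(293,[]),(288,[]),(4258,[3,4,3,3,8]),(292,[])],[0,9,2,4,2,2,4]),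
  (1,[3,19,11,26,32,3],[(5686,[]),(293,[])],[2,5,8,3,4,2]),
  (11,[14,17,17,22,17,14,19,3,1,23,11,13],[(1498,[0,3,3,8,3,0,5]),(292,[]),(4834,[1,2,2,5,3,9,3,3]),(293,[]),(288,[]),(3258,[4,3,3,4,2,1,2])],[5,2,5,2,2,2]),
  (1,[3,7,29,11,16],[(5694,[]),(292,[])],[9,2,9,3,5,3,9,2]),
  (12,[17,19,17,23,14,17,3,1,23,11,13],[(1498,[3,5,3,9,0,3]),(918,[1,8,3,5,3,4,3,8]),(293,[]),(3706,[3,4,3,8,2,8,3]),(292,[]),(288,[])],[0,4,2,2,8,3,5]),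
  (1,[3,7,9,11,14,19,10],[(5702,[]),(288,[])],[4,3,9,2,5,2,2]),
  (12,[16,22,17,18,16,19,17,17,3,1,23,11,13],[(1498,[2,8,3,4,2,5,3,3]),(288,[]),(4550,[4,2,9,3,5,3,0,5]),(288,[]),(3622,[0,3,9,2,4,2,5,5]),(288,[])],[0,3,0,2,4,2,9,3]),
  (1,[3,7,17,29,17,27],[(5710,[]),(293,[]),(288,[])],[3,8,1,3,3,9,2,4]),
  (12,[19,17,19,19,17,18,17,22,3,1,23,11,13],[(1498,[5,3,5,5,3,4,3,8]),(293,[]),(288,[]),(4754,[3,4,3,5,3,0,5]),(288,[]),(2022,[1,1,5,3,4,3,5])],[1,8,3,5,8,2]),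
  (1,[3,19,27,18,3],[(5718,[])],[5,2,5,2,4,2,1,3]),
  (13,[17,22,15,16,19,23,17,3,1,23,11,13],[(1498,[3,8,1,2,5,9,3]),(293,[]),(288,[]),(4754,[0,0,9,2,2,8,2,9]),(288,[]),(3690,[3,5,2,1,3,4,2])],[5,2,2,8,3,5,8]),
  (1,[3,28,7,10,10],[(5726,[]),(292,[]),(288,[])],[3,3,4,3,0,4,2,4]),
  (13,[22,15,17,19,17,22,16,15,3,1,23,11,13],[(1498,[8,1,3,5,3,8,2,1]),(918,[2,2,9,2,4,3]),(292,[]),(288,[]),(930,[9,2,2,8,2,2]),(257,[]),(264,[])],[5,3,5,5,5,3]),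
  (1,[3,1,10,28,3,10],[(5734,[]),(292,[]),(288,[]),(5626,[0,3,9,2,2,8,2])],[]),
  (13,[15,16,16,22,17,18,17,17,3,1,23,11,13],[(1498,[1,2,2,8,3,4,3,3]),(293,[]),(1202,[3,5,2,1,3,5,3,3]),(293,[]),(4378,[0,5,2,5,5,9,3])],[0,0,2,5,8,2,2,4]),
  (1,[7,16,3,19,11],[(5742,[]),(292,[])],[0,3,0,4,2,4,2,1,3]),
  (17,[19,23,17,19,17,19,3,1,23,11,13],[(1498,[5,9,3,5,3,5]),(292,[]),(2450,[2,8,1,8,3,5,2])],[0,5,3,8,3,4,3]),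
  (1,[3,7,5,29,11,26],[(5750,[])],[2,2,4,2,5,2,5,9]),
  (36,[18,16,16,19,23,14,17,3,1,23,11,13],[(1498,[4,2,2,5,9,0,3]),(5198,[3,5,3,0,4,3,4]),(288,[]),(1730,[2,2,5,2,1,5,3,0]),(292,[])],[2,4,2,1,5,3,4]),
  (1,[3,19,27,7,32],[(5758,[])],[0,2,4,2,5,8]),
  (36,[14,16,23,16,16,22,16,18,3,1,23,11,13],[(1498,[0,2,9,2,2,8,2,4]),(292,[]),(3330,[3,8,2,4,3,3]),(4102,[4,2,1,5]),(292,[]),(288,[])],[2,5,3,5,3,9,0,2]),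
  (1,[3,29,11,9,27],[(5766,[]),(288,[])],[0,8,2,2,5,3,4,3]),
  (37,[23,17,19,16,16,18,3,1,23,11,13],[(1498,[9,3,5,2,2,4]),(292,[]),(288,[]),(3834,[0,3,4,2,4,2,2]),(1466,[0,8,3,4,3,3,4,2]),(293,[]),(288,[])],[5,2,8,3,8,1,3,5]),
  (1,[7,27,3,11],[(5774,[])],[2,2,2,5,3,0,2,4]),
  (37,[17,19,16,19,16,16,22,3,1,23,11,13],[(1498,[3,5,2,5,2,2,8]),(288,[]),(3482,[5,3,5,3,3,9]),(4962,[3,5,2,5,5,5,3])],[4,3,9,3,4,3,5]),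
  (1,[3,10,22,3,11,23],[(5782,[])],[1,5,3,5,9,2,1]),
  (38,[18,17,22,16,18,16,16,22,3,1,23,11,13],[(1498,[4,3,8,2,4,2,2,8]),(292,[]),(2542,[5,9,3,4,3,3,4]),(362,[5,5,9,2,9]),(161,[]),(137,[]),(120,[])],[2,2,2,5,2,8,2,4]),
  (1,[3,11,18,32],[(5790,[]),(292,[])],[1,5,3,5,3,5,3,3]),
  (38,[16,15,18,16,18,16,19,23,3,1,23,11,13],[(1498,[2,1,4,2,4,2,5,9]),(293,[]),(288,[]),(1858,[8,3,4,3,3,5,9,0]),(4342,[9,3,4,3,0,5,2,9])],[3,3,9,2,4,2,4]),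
  (1,[3,1,11,23,7,11],[(5798,[])],[2,2,9,3,3,4,2]),
  (40,[14,16,22,17,14,19,17,3,1,23,11,13],[(1498,[0,2,8,3,0,5,3]),(288,[]),(2994,[0,2,1,3,9,2,2,2]),(670,[5,2,4,2,1,3,4]),(293,[])],[8,2,2,4,2,1,5]),
  (1,[3,10,22,10,22],[(5806,[])],[9,0,2,4,2,5,3]),
  (41,[15,19,16,19,16,19,16,15,3,1,23,11,13],[(1498,[1,5,2,5,2,5,2,1]),(292,[]),(2290,[3,8,3,3,8,3,5,3]),(292,[]),(288,[]),(5646,[0,2,5,9,2]),(293,[])],[0,2,4,3,0,2,4,3]),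
  (1,[3,7,27,18,27,27],[(5814,[]),(292,[]),(288,[])],[2,5,5,5]),
  (42,[14,22,16,15,19,17,14,3,1,23,11,13],[(1498,[0,8,2,1,5,3,0]),(288,[]),(4786,[2,5,2,8,3,0,2]),(293,[]),(1290,[0,0,4,2,9,3,5,3]),(292,[]),(288,[])],[8,3,4,2,5,9,3]),
  (1,[3,29,26,3,18,3],[(5822,[]),(292,[]),(288,[])],[1,4,2,2,2,5,8,3]),
  (43,[17,17,23,16,16,19,3,1,23,11,13],[(1498,[3,3,9,2,2,5]),(292,[]),(2434,[0,4,3,5,3,4,3,0]),(293,[]),(2546,[5,3,5,9,0,2,2])],[0,4,3,9,3,3,4,3]),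
  (1,[3,11,29,17,3,12],[(5830,[]),(292,[])],[0,5,5,8,3,4,3,0]),
  (2,[19,17,14,18,17,17,19,3,1,19,10,19],[(3826,[5,3,0,4,3,3,5]),(1102,[1,2,2,5,3,3,9,0]),(292,[]),(3822,[0,3,9,3,5,3,3]),(292,[])],[3,5,2,5,2,2,5]),
  (2,[17,19,16,15,17,19,17,3,1,19,10,19],[(3826,[3,5,2,1,3,5,3]),(293,[]),(288,[]),(1070,[0,0,9,2,2,5,3,4]),(4178,[0,3,9,0,3]),(292,[]),(288,[])],[2,5,2,1]),
  (1,[3,7,5,26,29,10,17],[(5842,[])],[0,3,8,3,3,5,3,3]),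
  (2,[16,16,16,19,3,1,19,10,19],[(3826,[2,2,2,5]),(292,[]),(288,[]),(2982,[4,3,4,2,2,4]),(288,[]),(1838,[5,2,2,4,3,0,5]),(292,[]),(288,[])],[5,5,3,3,4,2]),
  (1,[3,1,29,3,26],[(5850,[]),(293,[]),(288,[])],[1,2,4,2,4,2,2,2]),
  (3,[14,19,17,17,18,16,23,3,1,19,10,19],[(3826,[0,5,3,3,4,2,9]),(292,[]),(5398,[0,8,3,4,3,5]),(4570,[1,1,4,3,4,3]),(293,[]),(288,[])],[0,4,3,4,2,1,4]),
  (1,[3,11,22,7,11,32],[(5858,[]),(288,[])],[2,8,2,2,9]),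
  (5,[18,17,17,18,17,17,3,1,19,10,19],[(3826,[4,3,3,4,3,3]),(292,[]),(750,[3,4,2,1,3,5,2]),(292,[]),(288,[]),(502,[3,3,4,3,0,5,2,9]),(293,[])],[2,1,2,5,3,5,3]),
  (1,[3,1,23,11,14,7],[(5866,[])],[3,8,3,0,2,5]),
  (8,[19,16,16,19,16,19,19,16,3,1,19,10,19],[(3826,[5,2,2,5,2,5,5,2]),(292,[]),(4242,[3,5,8,3,4,3,5,3]),(293,[]),(288,[]),(5458,[0,3,3,4,2,9,3,4]),(293,[]),(288,[])],[0,3,5,5,3,5]),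
  (1,[3,10,23,17,19],[(5874,[]),(292,[])],[4,2,5,2,9,3,4]),
  (8,[17,17,18,17,23,17,18,16,3,1,19,10,19],[(3826,[3,3,4,3,9,3,4,2]),(293,[]),(3274,[0,0,2,8,3,5,3,3]),(4674,[2,4,2,5,8,3])],[0,4,3,3,4,2,1,5]),
  (1,[3,28,11,28,7],[(5882,[])],[0,5,5,3,4,3,4,3]),
  (8,[14,16,18,17,23,17,19,22,3,1,19,10,19],[(3826,[0,2,4,3,9,3,5,8]),(288,[]),(2754,[1,2,9,2,5,2,5]),(292,[]),(288,[]),(2134,[0,2,5,8,3,0,5,9]),(288,[])],[5,8,2,5,9,0,2]),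
  (1,[3,19,28,11,26,7],[(5890,[]),(293,[])],[0,5,2,5,5,2,1]),
  (9,[16,16,18,16,19,23,17,19,3,1,19,10,19],[(3826,[2,2,4,2,5,9,3,5]),(293,[]),(1510,[4,3,4,2,8,2,1,4]),(288,[]),(2218,[3,4,3,5,2,9,3,3]),(292,[]),(288,[])],[1,8,3,3,4,2,2]),
  (1,[3,1,7,16,23,10,33],[(5898,[]),(293,[]),(288,[])],[2,1,4,2,4,2,5,9]),
  (9,[14,14,18,16,16,22,16,3,1,19,10,19],[(3826,[0,0,4,2,2,8,2]),(1102,[8,2,5,5,9,2]),(293,[]),(288,[]),(4770,[2,2,2,5,2,1,3,9]),(288,[])],[2,2,8,2,1,5,3,9]),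
  (1,[3,11,11,19,11],[(5906,[]),(292,[])],[0,2,2,4,3,8,1]),
  (10,[14,18,16,15,17,3,1,19,10,19],[(3826,[0,4,2,1,3]),(293,[]),(288,[]),(2338,[1,2,2,4,3,4,3,0]),(292,[]),(2446,[2,4,2,4,2,4,2,1]),(293,[]),(288,[])],[4,2,5,8,2,8,3,4]),
  (1,[3,29,26,10],[(5914,[]),(288,[])],[3,4,2,8,3,4,3,3]),
  (11,[14,18,16,16,16,23,16,18,3,1,19,10,19],[(3826,[0,4,2,2,2,9,2,4]),(292,[]),(288,[]),(2334,[4,2,1,3,9,3,4]),(292,[]),(5098,[0,2,5,3,3,8,3,5])],[2,1,5,3,5,3,8,1]),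
  (1,[3,7,11,17,18,7],[(5922,[]),(292,[])],[4,2,5,9,3,3,4]),
  (11,[17,17,19,17,17,18,3,1,19,10,19],[(3826,[3,3,5,3,3,4]),(292,[]),(288,[]),(2094,[0,2,2,4,2,4,2,1]),(4422,[0,2,4,3,5,2,2,4]),(293,[])],[0,3,0,9,2,4,3]),
  (1,[3,10,29,17,3],[(5930,[]),(292,[]),(288,[])],[2,2,8,3,0,5,3,5]),
  (12,[14,14,19,16,18,16,16,23,3,1,19,10,19],[(3826,[0,0,5,2,4,2,2,9]),(5934,[8,2,5,8,3]),(292,[]),(4418,[3,5,8,2,5,2,2])],[8,2,4,3,3,5,9]),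
  (1,[3,7,16,18],[(5938,[]),(293,[]),(288,[])],[5,8,3,3,9,2,5,8]),
  (12,[19,16,22,16,19,22,16,3,1,19,10,19],[(3826,[5,2,8,2,5,8,2]),(293,[]),(1510,[5,5,8,3,3]),(293,[]),(1326,[9,2,4,2,2,8,1]),(292,[]),(288,[])],[1,2,5,2,4,3,4,3,8]),
  (1,[3,19,27,7,11],[(5946,[]),(288,[])],[0,5,8,3,3,4,3,4]),
  (13,[16,16,23,16,15,3,1,19,10,19],[(3826,[2,2,9,2,1]),(1102,[0,3,5,2,2,5,9,3]),(292,[]),(3394,[2,2,2,8,2,1,3])],[5,2,2,2,5,5,2]),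
  (1,[3,18,26,28,3,28],[(5954,[]),(292,[])],[5,3,5,5,2,2,2]),
  (13,[18,17,19,17,19,16,16,3,1,19,10,19],[(3826,[4,3,5,3,5,2,2]),(292,[]),(5398,[0,5,2,2,5,9,2]),(293,[]),(2470,[1,3,0,5,3,5,3]),(293,[]),(288,[])],[0,4,3,0,2,5,2,9]),
  (1,[3,1,11,28,17,3],[(5962,[]),(292,[])],[2,1,5,2,5,3,3]),
  (14,[17,19,22,17,18,17,19,17,3,1,19,10,19],[(3826,[3,5,8,3,4,3,5,3]),(502,[0,0,4,2,9,2,2]),(288,[])],[3,3,5,3,0,2,8]),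
  (1,[3,10,19,10,18,3],[(5970,[])],[0,3,4,2,2,2,5]),
  (36,[14,14,16,16,19,22,17,17,3,1,19,10,19],[(3826,[0,0,2,2,5,8,3,3]),(292,[]),(666,[2,1,4,3,4,2,9]),(293,[]),(1854,[2,2,5,3,9,3,3])],[0,3,8,2,8,1]),
  (1,[3,7,17,18,26,26],[(5978,[]),(292,[])],[1,3,5,8,1,3,5,2]),
  (36,[14,16,15,18,17,19,17,3,1,19,10,19],[(3826,[0,2,1,4,3,5,3]),(292,[]),(288,[]),(4006,[0,2,1,5,2,2,8,1]),(288,[]),(1874,[5,3,9,0,2,5])],[8,3,4,2,8,2,4,2]),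
  (1,[3,7,9,10,29,29,10],[(5986,[])],[0,0,2,2,5,2,4]),
  (36,[14,22,17,17,23,3,1,19,10,19],[(3826,[0,8,3,3,9]),(292,[]),(5662,[2,5,2,2,4,2,2]),(288,[]),(2646,[3,5,9,3,8,3]),(292,[])],[1,8,3,4,3,4,3,5,8]),
  (1,[3,11,18,16,28,3],[(5994,[]),(292,[])],[5,3,0,5,3,5,8,2]),
  (37,[18,16,16,16,22,17,18,3,1,19,10,19],[(3826,[4,2,2,2,8,3,4]),(292,[]),(878,[0,0,4,2,8,1]),(1670,[3,3,5,3,5,2]),(293,[])],[0,3,9,3,5,2,9,3]),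
  (1,[3,7,28,11,19,16],[(6002,[])],[1,3,5,3,9,2,8]),
  (38,[17,19,17,19,23,16,16,16,3,1,19,10,19],[(3826,[3,5,3,5,9,2,2,2]),(292,[]),(288,[]),(2118,[0,0,2,8,2,5,2,5]),(293,[]),(288,[]),(2586,[0,2,4,3,0,4,2])],[3,9,2,8,2,5]),
  (1,[3,1,7,17,7],[(6010,[]),(292,[])],[0,3,3,8,1,2,2,9]),
  (41,[15,15,17,19,17,3,1,19,10,19],[(3826,[1,1,3,5,3]),(288,[]),(5986,[2,4,2,5,5,2,8,3]),(1442,[1,8,3,5,2,2,2,8]),(293,[])],[3,0,4,2,4,2,2]),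
  (1,[3,1,7,11,22,10],[(6018,[]),(292,[]),(288,[])],[0,2,4,2,5,8,1]),
  (2,[17,14,19,17,18,17,18,3,1,23,10,10],[(1398,[3,0,5,3,4,3,4]),(293,[]),(288,[]),(2070,[1,3,8,2,2,5,3,8]),(292,[]),(2762,[4,3,4,3,0,9]),(293,[]),(288,[])],[3,5,3]),
  (1,[3,1,7,10,17,32,10],[(6026,[])],[0,3,5,9,3,5]),
  (3,[16,15,17,18,16,23,17,19,3,1,23,10,10],[(1398,[2,1,3,4,2,9,3,5]),(293,[]),(288,[]),(2070,[5,8,3,3,5,3,5,8]),(293,[]),(2046,[8,2,5,2,2,5,8]),(292,[]),(288,[])],[0,2,5,2,5,8,3]),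
  (1,[3,1,7,27,33,10],[(6034,[])],[2,2,5,2,8,2,5,9]),
  (4,[14,19,22,17,19,23,17,3,1,23,10,10],[(1398,[0,5,8,3,5,9,3]),(288,[]),(5294,[0,2,1,3,4,3]),(4270,[2,1,8,3,3,5,3]),(288,[])],[0,2,9,2,5,2,2]),
  (1,[3,7,10,18,9,11],[(6042,[]),(292,[])],[2,2,8,2,1,4,3,9]),
  (5,[22,15,22,16,18,3,1,23,10,10],[(1398,[8,1,8,2,4]),(288,[]),(5294,[5,2,9,0,2,2]),(293,[]),(574,[4,2,1,5,2,9,3])],[5,3,3,4,3,4,2,8]),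
  (5,[14,16,15,17,18,17,17,18,3,1,23,10,10],[(1398,[0,2,1,3,4,3,3,4]),(292,[]),(4578,[4,2,4,2,5,2,9,2]),(292,[]),(288,[]),(1242,[1,2,4,3,8,2]),(293,[])],[0,3,5,8,3,9]),
  (1,[3,28,10,22,3,1],[(6054,[]),(292,[]),(288,[])],[4,3,8,2,5,3,5]),
  (6,[14,19,19,16,16,16,23,3,1,23,10,10],[(1398,[0,5,5,2,2,2,9]),(293,[]),(288,[]),(2070,[4,3,3,4,3,5,2]),(292,[]),(288,[]),(5026,[1,3,4,3,3,5,8,1]),(293,[]),(288,[])],[5,5,2,5,2,5,2,1]),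
  (1,[3,19,11,32,7],[(6062,[])],[3,4,3,4,3,4,3]),
  (6,[14,22,17,18,17,19,3,1,23,10,10],[(1398,[0,8,3,4,3,5]),(6042,[8,2,4,2,5,9,0]),(292,[]),(288,[]),(3086,[0,9,2,1,4,2]),(293,[]),(288,[])],[1,1,2,5,3,3,4]),
  (1,[3,1,28,10,26],[(6070,[]),(292,[]),(288,[])],[3,4,2,1,3,5,3,3]),
  (7,[22,17,18,17,23,16,18,3,1,23,10,10],[(1398,[8,3,4,3,9,2,4]),(292,[]),(288,[]),(6046,[0,8,2,4,2,8,3,5]),(292,[]),(1626,[1,4,3,5,3,0,5]),(288,[])],[1,2,5,2,2,5,3]),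
  (1,[7,27,7,16,3,19],[(6078,[])],[0,0,2,8,2,2]),
  (8,[17,14,16,19,16,16,18,3,1,23,10,10],[(1398,[3,0,2,5,2,2,4]),(288,[]),(5542,[0,2,5,2,5,3,9,2]),(2706,[4,2,5,5,8,3,9]),(292,[])],[0,2,4,2,5,2,2]),
  (1,[3,7,26,19,10,12],[(6086,[]),(292,[])],[0,2,5,3,5,3,9]),
  (9,[16,19,22,17,19,22,15,16,3,1,23,10,10],[(1398,[2,5,8,3,5,8,1,2]),(293,[]),(834,[0,5,2,2,2,9,2,2]),(1590,[0,0,2,2,8,3,5,3,0]),(293,[])],[2,2,5,2,8,2,8,1]),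
  (1,[3,11,19,7,11,9],[(6094,[])],[0,2,5,2,5,2,2]),
  (10,[15,17,23,16,16,19,3,1,23,10,10],[(1398,[1,3,9,2,2,5]),(288,[]),(1354,[2,8,2,5,5]),(292,[]),(288,[]),(1842,[0,2,4,3,8,1]),(288,[])],[0,3,9,2,5,8,1,3]),
  (1,[3,1,10,23,26,7,10],[(6102,[]),(293,[]),(288,[])],[1,1,4,2,4,2,2,5]),
  (11,[14,17,22,16,16,16,3,1,23,10,10],[(1398,[0,3,8,2,2,2]),(2770,[1,2,2,5,8,3,4]),(293,[]),(288,[]),(5950,[0,2,5,3,3,4,3,5])],[0,2,5,2,4,3,3]),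
  (1,[3,11,23,3,10],[(6110,[]),(292,[]),(288,[])],[0,2,2,4,3,5,3]),
  (12,[15,17,19,16,3,1,23,10,10],[(1398,[1,3,5,2]),(6042,[2,2,2,8,1,3]),(288,[]),(6050,[2,8,2,2,5,2,1]),(293,[])],[0,0,3,8,2,2,4]),
  (1,[3,28,11,27,27],[(6118,[]),(292,[])],[2,8,1,3,0,5]),
  (12,[19,19,17,14,18,16,19,3,1,23,10,10],[(1398,[5,5,3,0,4,2,5]),(6074,[3,8,2,4,2,4,2,5]),(293,[]),(5334,[3,4,2,2,5,2,1,2]),(288,[])],[0,0,2,5,3,0]),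
  (1,[3,7,10,9,32,10],[(6126,[]),(292,[])],[5,2,8,3,5,3]),
  (12,[14,19,22,16,23,3,1,23,10,10],[(1398,[0,5,8,2,9]),(6074,[0,9,0,3,4]),(682,[3,3,5,3,0]),(292,[])],[8,2,5,8,2,2,4,2]),
  (1,[3,19,7,10,18,10],[(6134,[]),(292,[]),(288,[])],[2,4,2,4,3,9,2]),
  (36,[18,16,22,15,17,18,17,17,3,1,23,10,10],[(1398,[4,2,8,1,3,4,3,3]),(293,[]),(5490,[3,5,8,2,9,0]),(293,[]),(2062,[5,3,5,3,5,5,3]),(293,[]),(288,[])],[0,9,3,3,4,3]),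
  (1,[3,19,27,3,11],[(6142,[]),(292,[]),(288,[])],[1,5,3,5,9,2,2]),
  (36,[17,14,18,16,16,19,16,3,1,23,10,10],[(1398,[3,0,4,2,2,5,2]),(293,[]),(3490,[0,9,2,1,5,2,4]),(293,[]),(288,[]),(1454,[0,3,9,2,2,4,3,4]),(292,[])],[2,5,2,5,8,2,1,2]),
  (1,[7,27,3,7,15],[(6150,[]),(292,[]),(288,[])],[1,2,2,2,4,3,3,9]),
  (37,[23,17,18,17,14,18,3,1,23,10,10],[(1398,[9,3,4,3,0,4]),(292,[]),(288,[]),(6082,[1,3,8,2,5,2,2]),(292,[]),(3190,[0,0,2,8,3,5,2,8]),(292,[])],[2,8,3,3,5,3,0]),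
  (1,[3,10,22,27,7,17],[(6158,[])],[2,1,4,3,9,3,5]),
  (37,[19,16,22,16,19,17,17,23,3,1,23,10,10],[(1398,[5,2,8,2,5,3,3,9]),(288,[]),(1926,[0,4,2,1,5,8,3,8]),(293,[]),(288,[]),(2802,[5,8,3,5,9,2,1]),(292,[]),(288,[])],[2,5,5,2,8,3,8]),
  (1,[3,29,10,9,7,16],[(6166,[]),(293,[])],[2,2,5,3,0,2,4,2]),
  (37,[16,19,22,17,18,16,16,3,1,23,10,10],[(1398,[2,5,8,3,4,2,2]),(292,[]),(288,[]),(3706,[0,4,3,3,5,3,0,2]),(292,[]),(3714,[0,3,5,9,2,5,2,5,2]),(293,[])],[5,3,5,3,5,3,9]),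
  (1,[3,11,22,10,19,7],[(6174,[])],[0,3,5,5,8]),
  (38,[14,16,19,16,16,19,16,19,19,3,1,23,10,10],[(1398,[0,2,5,2,2,5,2,5,5]),(293,[]),(288,[]),(3178,[1,3,5,8,2,4,3,3]),(292,[]),(288,[]),(2058,[2,5,3,5,3,4,2]),(292,[]),(288,[])],[0,2,8,1,3,3]),
  (1,[3,10,19,7,11,14],[(6182,[])],[0,0,0,3,5,2,5]),
  (43,[17,22,15,22,3,1,23,10,10],[(1398,[3,8,1,8]),(292,[]),(288,[]),(2754,[0,2,4,3,3,5,5,5]),(292,[]),(288,[]),(3194,[5,3,3,5,5,2,5]),(292,[])],[1,4,3,8,2,4,3,3]),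
  (1,[3,7,10,17,28,27],[(6190,[]),(292,[])],[2,2,4,3,4,3,9]),
  (2,[22,17,18,17,18,3,1,29,3,11,26],[(1530,[8,3,4,3,4]),(4130,[4,3,0,5,2,9,0]),(288,[]),(3414,[2,2,5,9,3]),(293,[]),(288,[])],[0,9,3,5,3,3,5,3]),
  (1,[3,1,7,27,23,10,33],[(6198,[]),(293,[])],[0,8,2,2,9,2]),
  (3,[14,16,15,17,18,17,18,17,3,1,29,3,11,26],[(1530,[0,2,1,3,4,3,4,3]),(292,[]),(2346,[8,1,2,4,2,2,4]),(288,[]),(4318,[8,2,2,4,3,9,3]),(112,[]),(137,[])],[1,3,5,8,1,2]),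
  (1,[3,7,10,32],[(6206,[]),(292,[])],[4,2,8,3,4,3,4]),
  (6,[16,16,19,16,16,19,17,17,3,1,29,3,11,26],[(1530,[2,2,5,2,2,5,3,3]),(4130,[3,5,3,5,5,9,2,9]),(288,[]),(4278,[1,2,4,2,5,5,2,9]),(292,[]),(288,[])],[0,2,8,2,5,2,8,3]),
  (1,[3,7,27,18,17,29],[(6214,[]),(288,[])],[0,5,8,3,4,3,0]),
  (6,[14,16,16,18,16,15,17,3,1,29,3,11,26],[(1530,[0,2,2,4,2,1,3]),(292,[]),(2346,[0,3,5,8,2,5,8]),(288,[]),(1694,[0,2,2,2,5,9,3,4]),(293,[])],[3,5,8,3,0,2,4,2]),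
  (1,[3,23,3,10,26],[(6222,[]),(292,[]),(288,[])],[1,2,5,3,8,2,4]),
  (6,[16,22,16,18,17,17,18,3,1,29,3,11,26],[(1530,[2,8,2,4,3,3,4]),(4674,[5,3,9,2,9,0]),(288,[]),(4610,[3,0,4,2,9,3,5,2]),(288,[])],[0,4,2,2,5,3,5,8]),
  (1,[3,7,15,26,28,16],[(6230,[]),(288,[])],[3,8,2,5,8])]
theorem hD10 : allD2 lk B KW SW F A RL [] D10 1416 = true := by decide +kernel
def D11 : List (ℕ × Word × List (ℕ × Word) × Word) := [(7,[17,18,16,16,16,19,23,14,3,1,29,3,11,26],[(1530,[3,4,2,2,2,5,9,0]),(293,[]),(288,[]),(5214,[3,9,2,5,5,9,3]),(5834,[4,2,4,3]),(292,[]),(288,[])],[1,5,3,4,3,3,5,2]),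
  (1,[3,7,29,26,11],[(6238,[]),(292,[])],[5,3,0,5,2,4,3,3]),
  (8,[14,16,16,16,23,16,16,22,3,1,29,3,11,26],[(1530,[0,2,2,2,9,2,2,8]),(293,[]),(288,[]),(1562,[3,5,3,4,3,5,5]),(293,[]),(288,[]),(2242,[2,8,3,8,2]),(292,[])],[0,0,2,4,3,3,5,5,5]),
  (1,[3,7,5,16,18],[(6246,[]),(292,[])],[1,2,2,5,3,9,2,4]),
  (11,[14,14,19,16,19,19,16,18,3,1,29,3,11,26],[(1530,[0,0,5,2,5,5,2,4]),(292,[]),(288,[]),(4690,[5,8,3,3,5,3,0,5]),(293,[]),(288,[]),(2790,[0,2,5,3,4,2]),(292,[]),(288,[])],[3,5,3,5,8,2,2]),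
  (1,[3,7,28,11,16,23],[(6254,[]),(293,[])],[0,3,5,2,2,5,2,1]),
  (13,[16,22,15,17,19,16,3,1,29,3,11,26],[(1530,[2,8,1,3,5,2]),(5014,[0,0,9,3,4,3,8]),(293,[]),(1210,[8,3,5,9,3,3]),(292,[]),(288,[])],[5,2,4,2,4]),
  (1,[3,19,7,11,19,7],[(6262,[])],[4,3,4,3,3,8,2,4]),
  (17,[14,19,17,17,18,17,14,3,1,29,3,11,26],[(1530,[0,5,3,3,4,3,0]),(3090,[2,9,2,4,3,9])],[0,2,2,2,5,5,5,2,1]),
  (1,[3,1,28,10,17,3],[(6270,[])],[1,3,5,8,1,3,5,3]),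
  (37,[14,18,17,19,23,17,18,3,1,29,3,11,26],[(1530,[0,4,3,5,9,3,4]),(293,[]),(288,[]),(1410,[0,2,9,0,2,5,2]),(2698,[2,5,2,8,3,3,8]),(292,[]),(288,[])],[0,2,2,4,2,1,4,3,4]),
  (1,[3,1,10,22,7,10,18],[(6278,[]),(292,[])],[1,4,3,3,4,3,5,2]),
  (37,[14,14,17,18,17,18,17,14,3,1,29,3,11,26],[(1530,[0,0,3,4,3,4,3,0]),(5970,[0,0,5,2,9,0,2]),(5518,[0,8,1,2,2,5,2]),(288,[])],[0,5,2,4,3,3,5]),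
  (1,[3,1,19,10,19,7],[(6286,[]),(293,[]),(288,[])],[4,3,5,3,5,9,0]),
  (37,[15,16,18,16,19,16,22,17,3,1,29,3,11,26],[(1530,[1,2,4,2,5,2,8,3]),(3662,[0,4,3,3,5,8,2,9]),(293,[]),(288,[]),(1106,[0,2,2,8,3,0,2]),(288,[])],[2,2,4,2,4,3,3,9]),
  (1,[3,7,11,26,23,10,17],[(6294,[]),(293,[])],[2,5,2,2,5,9,2]),
  (38,[14,16,22,17,14,19,23,3,1,29,3,11,26],[(1530,[0,2,8,3,0,5,9]),(288,[]),(3690,[0,3,5,3,3,4]),(292,[]),(288,[]),(5010,[4,2,2,8,2,4,2,5])],[0,5,2,2,5,9,2,5]),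
  (1,[3,7,16,28,26,11],[(6302,[]),(288,[])],[0,3,3,5,2,1,2,4]),
  (4,[15,16,16,16,19,16,16,18,3,28,3,10,26],[(4998,[1,2,2,2,5,2,2,4]),(292,[]),(5606,[1,2,2,2,5,8,3,3]),(293,[]),(5106,[4,2,4,2,2,9,2]),(293,[]),(288,[])],[3,4,3,4,3,9,3]),
  (1,[3,7,28,10,33,11],[(6310,[])],[0,3,9,3,3,8,2]),
  (6,[14,18,17,23,14,16,16,19,3,28,3,10,26],[(4998,[0,4,3,9,0,2,2,5]),(292,[]),(5606,[3,8,2,4,2,5,8,3]),(292,[]),(288,[]),(3618,[0,2,8,3,0,4,3,8]),(293,[])],[0,5,3,0,5,2]),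
  (1,[3,7,10,27],[(6318,[])],[9,2,4,3,3,5,2]),
  (6,[19,16,18,16,16,19,23,3,28,3,10,26],[(4998,[5,2,4,2,2,5,9]),(293,[]),(2050,[2,1,4,2,5,2,5]),(2814,[0,0,4,3,3,9,2,2])],[3,3,8,1,2,5,2,8]),
  (1,[3,7,9,11,19],[(6326,[]),(292,[])],[9,2,9,3,5,2,5]),
  (7,[16,15,18,17,17,23,16,19,3,28,3,10,26],[(4998,[2,1,4,3,3,9,2,5]),(293,[]),(288,[]),(2658,[0,2,2,8,2,1,3,9]),(293,[]),(288,[]),(3678,[0,0,2,5,3,5,3,8])],[2,1,4,3,4,2,1]),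
  (1,[3,7,28,11,19,27],[(6334,[]),(292,[])],[0,0,3,3,4,3,8,2]),
  (7,[17,17,19,17,19,17,23,3,28,3,10,26],[(4998,[3,3,5,3,5,3,9]),(5198,[2,2,8,3,4,3,3,4]),(293,[]),(288,[]),(2262,[2,5,3,4,3,8])],[0,2,2,2,5,8,1,3]),
  (1,[3,10,18,17,23,3],[(6342,[])],[5,9,2,5,2,9]),
  (9,[16,18,16,16,18,16,19,17,3,28,3,10,26],[(4998,[2,4,2,2,4,2,5,3]),(292,[]),(288,[]),(1050,[2,8,3,3,4,2,8]),(292,[]),(288,[]),(2626,[0,0,9,2,2,8,2,2]),(292,[]),(288,[])],[9,0,3,5]),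
  (1,[3,7,27,7,28,16],[(6350,[]),(292,[])],[3,5,3,3,9,3]),
  (11,[14,22,16,22,16,3,28,3,10,26],[(4998,[0,8,2,8,2]),(3702,[2,8,3,5,5,5]),(292,[]),(288,[]),(4922,[2,1,4,2,4,2,4,2]),(293,[])],[0,3,5,8]),
  (1,[3,11,19,27,18],[(6358,[]),(292,[]),(288,[])],[0,4,3,8,2,5]),
  (11,[14,23,16,23,17,18,17,19,3,28,3,10,26],[(4998,[0,9,2,9,3,4,3,5]),(5910,[3,8,2,1,4,3,3]),(292,[]),(1398,[2,5,3,3,9,2,5,8]),(288,[])],[0,5,2,5,2,2,5,3]),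
  (1,[3,28,10,22,3,5],[(6366,[]),(293,[]),(288,[])],[4,2,9,0,2,5]),
  (11,[14,16,15,3,28,3,10,26],[(4998,[0,2,1]),(292,[]),(288,[]),(6274,[1,2,4,2,1,5,3,4]),(288,[]),(1502,[1,2,4,3,8,2,2,4]),(292,[]),(288,[])],[5,5,2,2,5,3]),
  (1,[3,7,17,23,11,12],[(6374,[])],[3,8,3,8,2,4]),
  (12,[15,19,16,23,16,16,18,3,28,3,10,26],[(4998,[1,5,2,9,2,2,4]),(292,[]),(288,[]),(4982,[1,4,2,5,2,8,3]),(826,[0,2,2,2,4,2,1,4]),(292,[]),(288,[])],[5,2,5,3,0,5,2]),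
  (1,[3,7,10,29,26,11],[(6382,[]),(293,[])],[0,2,5,3,5,8,3]),
  (12,[15,18,16,18,16,19,17,22,3,28,3,10,26],[(4998,[1,4,2,4,2,5,3,8]),(288,[]),(946,[0,3,5,5,5,3,9,2]),(293,[]),(4682,[1,5,3,4,3,5,3]),(292,[]),(288,[])],[0,4,3,8,2,1,3,5]),
  (1,[3,7,16,28,27,18],[(6390,[]),(293,[]),(288,[])],[1,3,3,4,2,8,2,9]),
  (12,[16,18,16,16,16,23,14,3,28,3,10,26],[(4998,[2,4,2,2,2,9,0]),(293,[]),(2050,[2,9,3,3,5]),(288,[]),(3370,[0,2,5,3,5,8,3,3]),(288,[])],[5,3,9,2,8,2,5]),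
  (1,[3,7,17,23,11,32],[(6398,[]),(288,[])],[2,1,3,5,2,5,5]),
  (36,[19,19,23,17,19,17,22,3,28,3,10,26],[(4998,[5,5,9,3,5,3,8]),(292,[]),(288,[]),(3458,[0,3,3,4,3,9,0]),(1614,[0,8,2,1,5,3,3]),(288,[])],[0,4,2,2,9,2]),
  (1,[3,7,27,18,26,26],[(6406,[])],[4,3,3,5,8,2,5]),
  (36,[15,17,19,19,16,15,3,28,3,10,26],[(4998,[1,3,5,5,2,1]),(288,[]),(1086,[0,2,2,2,5,3,0,2]),(292,[]),(288,[]),(2650,[3,5,2,5,8,2,5]),(288,[])],[9,2,4,2,5,2,1]),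
  (1,[3,1,7,27,23,10],[(6414,[]),(292,[])],[4,2,5,3,0,5,2]),
  (41,[16,19,16,18,16,16,18,3,28,3,10,26],[(4998,[2,5,2,4,2,2,4]),(288,[]),(3514,[0,2,8,3,8,1,3,9]),(293,[]),(1610,[4,3,0,4,2,8,3])],[5,3,9,2,4,2]),
  (1,[3,7,5,11,26],[(6422,[])],[3,3,4,2,9,0,2]),
  (42,[14,16,18,17,19,22,15,3,28,3,10,26],[(4998,[0,2,4,3,5,8,1]),(292,[]),(288,[]),(3502,[0,5,2,5,2,2,9]),(292,[]),(288,[]),(4746,[9,3,5,2,9,3,4]),(292,[])],[1,3,9,0,2,5]),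
  (1,[3,7,10,22,29,16],[(6430,[]),(288,[])],[0,4,2,9]),
  (2,[16,15,19,17,23,14,16,3,28,10,15,3],[(2570,[2,1,5,3,9,0,2]),(2254,[4,3,5,9,2,8,2,4]),(2910,[0,2,5,3,9,3,3,4]),(293,[])],[0,3,4,3,4,3,5,5]),
  (1,[3,7,18,16,29,7],[(6438,[]),(288,[])],[2,2,5,8,1,3,9]),
  (3,[14,16,16,18,17,19,23,3,28,10,15,3],[(2570,[0,2,2,4,3,5,9]),(2254,[0,0,0,2,5,2,4]),(292,[]),(288,[]),(2642,[5,2,2,8,3,0])],[0,2,9,3,8,3]),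
  (1,[3,1,10,29,3,17],[(6446,[])],[3,5,2,2,5,3,5,2]),
  (3,[17,22,16,15,19,17,14,19,3,28,10,15,3],[(2570,[3,8,2,1,5,3,0,5]),(293,[]),(2926,[2,2,2,5,3,9,2]),(2158,[1,3,9,2,4,2,4]),(293,[])],[0,9,2,4,2,5,9,3]),
  (1,[3,1,7,27,28,10,18],[(6454,[]),(293,[]),(288,[])],[2,5,5,2,2,4,2]),
  (6,[19,16,18,17,14,16,19,3,28,10,15,3],[(2570,[5,2,4,3,0,2,5]),(288,[]),(5406,[1,2,2,9,2,4,2,4]),(293,[]),(1742,[1,1,5,2,4,2,2,5]),(292,[]),(288,[])],[0,0,2,5,2,2,8]),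
  (1,[3,1,29,3,26,7],[(6462,[]),(292,[]),(288,[])],[2,8,2,5,2,2,8,1]),
  (6,[19,17,17,18,17,23,17,3,28,10,15,3],[(2570,[5,3,3,4,3,9,3]),(293,[]),(288,[]),(2538,[0,5,2,2,4,2,8]),(288,[]),(4558,[3,0,2,5,3,9,2,5]),(120,[]),(116,[]),(104,[])],[2,1,5,3,5,9,0,3]),
  (1,[3,1,29,3,16,7],[(6470,[])],[0,2,2,5,2,1,3,5,3]),
  (8,[14,14,17,17,19,17,3,28,10,15,3],[(2570,[0,0,3,3,5,3]),(293,[]),(288,[]),(3758,[8,2,5,3,9,0]),(288,[]),(2858,[0,0,3,4,3,5,3,8,3]),(292,[])],[8,1,2,4,2,9,3,3]),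
  (1,[3,7,10,17,32,10],[(6478,[]),(288,[])],[0,2,2,4,2,4,2,4]),
  (8,[19,16,22,17,18,16,23,17,3,28,10,15,3],[(2570,[5,2,8,3,4,2,9,3]),(293,[]),(634,[1,2,2,5,2,5,2,1]),(293,[]),(288,[]),(618,[0,0,2,2,5,3,3]),(160,[]),(112,[]),(104,[])],[0,0,5,2,8,3,3,9]),
  (1,[7,27,3,18,10],[(6486,[]),(292,[]),(288,[])],[2,5,3,9,3,4,2,5]),
  (8,[18,17,17,18,16,18,3,28,10,15,3],[(2570,[4,3,3,4,2,4]),(292,[]),(288,[]),(2974,[8,1,3,5,3,9]),(292,[]),(288,[]),(4286,[0,4,2,1,5,2,4])],[0,9,0,2,5,2,2]),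
  (1,[3,29,10,17,3],[(6494,[]),(292,[]),(288,[])],[0,0,2,8,2,9,2]),
  (9,[15,19,17,19,16,16,22,17,3,28,10,15,3],[(2570,[1,5,3,5,2,2,8,3]),(288,[]),(4438,[1,1,2,2,4,3,3,4]),(292,[]),(1642,[0,0,0,4,2,4,3]),(292,[]),(288,[])],[3,0,2,5,2,2,5,3]),
  (1,[3,1,7,17,28,17],[(6502,[])],[2,5,8,3]),
  (9,[19,17,17,22,17,18,17,3,28,10,15,3],[(2570,[5,3,3,8,3,4,3]),(293,[]),(288,[]),(2274,[0,3,3,5,8,1,2,4]),(293,[]),(3430,[5,8,2,2,2,8,2,2]),(293,[]),(288,[])],[2,4,3,4,3]),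
  (1,[3,23,7,11,9],[(6510,[]),(292,[]),(288,[])],[5,3,3,5,8,3]),
  (9,[15,17,22,16,19,17,23,3,28,10,15,3],[(2570,[1,3,8,2,5,3,9]),(292,[]),(288,[]),(4402,[0,0,5,2,5,9,2]),(292,[]),(288,[]),(2598,[4,3,9,2,2,2,9,2]),(288,[])],[1,8,2,2,2,4,2]),
  (1,[3,7,16,11,28,27],[(6518,[]),(292,[])],[4,2,9,2,2,8,2]),
  (11,[14,17,19,17,17,18,16,19,3,28,10,15,3],[(2570,[0,3,5,3,3,4,2,5]),(288,[]),(4874,[1,3,4,2,4,3]),(293,[]),(4058,[2,5,9,0,2])],[1,3,5,9,2,2,8]),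
  (1,[3,18,3,28,10],[(6526,[]),(288,[])],[5,2,2,5,2]),
  (11,[19,19,17,14,19,3,28,10,15,3],[(2570,[5,5,3,0,5]),(293,[]),(1846,[9,3,3,8,2,2]),(293,[]),(5990,[0,5,2,2,9,3]),(293,[]),(288,[])],[2,8,2,5,3,9]),
  (1,[3,11,29,27,3],[(6534,[]),(292,[]),(288,[])],[0,0,2,2,4,2,5,2]),
  (11,[14,18,17,22,15,17,3,28,10,15,3],[(2570,[0,4,3,8,1,3]),(2734,[3,4,2,5,2,8,3,9]),(293,[]),(1330,[1,8,2,2,5,3,3]),(288,[])],[1,5,3,9]),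
  (1,[3,28,11,14,3],[(6542,[]),(288,[])],[5,2,8,2,4,3,9,3]),
  (11,[17,22,15,17,19,22,3,28,10,15,3],[(2570,[3,8,1,3,5,8]),(293,[]),(4326,[8,3,9,3,5,2,9]),(292,[]),(288,[]),(2270,[0,5,3,0,4,2,5])],[5,2,4,2,5,5,5]),
  (1,[3,1,23,7,10,15],[(6550,[]),(292,[])],[0,9,0,3,3,5,3,3]),
  (12,[19,17,17,19,17,22,16,3,28,10,15,3],[(2570,[5,3,3,5,3,8,2]),(288,[]),(1594,[3,4,3,9,3,5,2]),(292,[]),(288,[]),(2630,[0,2,5,3,5,5,8,3]),(292,[]),(288,[])],[2,8,3,4,3,4,3]),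
  (1,[3,1,23,3,26,7,11],[(6558,[]),(288,[])],[2,5,3,9,2,2,4,2]),
  (12,[14,17,22,16,18,17,19,17,3,28,10,15,3],[(2570,[0,3,8,2,4,3,5,3]),(2254,[8,2,5,2,2,2,8]),(292,[]),(288,[]),(1858,[2,2,2,8,1,8]),(292,[])],[4,3,0,5,2,1]),
  (1,[3,7,33,27,18,3],[(6566,[]),(293,[])],[5,3,0,4,3,5,8]),
  (13,[14,14,17,17,19,22,16,16,16,3,28,10,15,3],[(2570,[0,0,3,3,5,8,2,2,2]),(293,[]),(288,[]),(2538,[0,4,2,5,5,2,2,9]),(288,[]),(4946,[0,3,3,5,2,1]),(288,[])],[0,3,3,5,3,0,2]),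
  (1,[3,11,19,7,10,15],[(6574,[])],[0,4,2,2,9,0,3,4]),
  (36,[16,16,19,16,18,17,3,28,10,15,3],[(2570,[2,2,5,2,4,3]),(293,[]),(5006,[0,2,5,9,2,4,3,3,8]),(293,[]),(288,[]),(4954,[1,2,5,3,4,3,4,3])],[3,3,9,2,1,5,2]),
  (1,[3,10,29,17,3,11],[(6582,[])],[4,2,2,8,2,1,5,8]),
  (37,[18,17,19,16,16,3,28,10,15,3],[(2570,[4,3,5,2,2]),(288,[]),(4050,[2,2,4,2,2,9,3,3]),(292,[]),(288,[]),(2122,[1,4,2,2,2,5,2]),(293,[])],[1,8,2,5,9,3,3,4]),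
  (1,[3,7,17,19,11,29],[(6590,[])],[3,4,3,5,3,5,9,3]),
  (37,[16,16,23,14,16,16,18,16,3,28,10,15,3],[(2570,[2,2,9,0,2,2,4,2]),(293,[]),(288,[]),(1554,[0,5,2,9,3,5,3,9]),(288,[]),(6134,[2,5,3,5,5,9,2]),(288,[])],[8,3,3,8,3,3]),
  (1,[3,10,18,17,23],[(6598,[])],[3,3,4,3,5,2,4]),
  (8,[15,16,16,19,17,18,17,17,3,19,10,9,7,19],[(3862,[1,2,2,5,3,4,3,3]),(293,[]),(5874,[2,8,2,4,2,1,3]),(5978,[2,1,3,5,3,3,5,2])],[4,2,4,3,5,3,4,2]),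
  (1,[3,7,10,29,16,10],[(6606,[]),(292,[]),(288,[])],[1,4,3,5,2,4,2]),
  (8,[18,16,18,16,16,18,17,3,19,10,9,7,19],[(3862,[4,2,4,2,2,4,3]),(288,[]),(1026,[1,3,3]),(293,[]),(3150,[1,3,0,5,3,4,2,2])],[0,9,3,5,8,2]),
  (1,[3,29,10],[(6614,[])],[2,4,2,4,2,2,2,5]),
  (8,[16,19,22,16,22,15,22,16,3,19,10,9,7,19],[(3862,[2,5,8,2,8,1,8,2]),(1454,[0,4,3]),(293,[]),(288,[]),(2290,[5,3,3,8,2,2,8])],[2,4,2,4,2,1,8]),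
  (1,[3,7,10,32,11],[(6622,[]),(293,[]),(288,[])],[1,4,3,5,2]),
  (11,[14,19,16,19,23,17,19,3,19,10,9,7,19],[(3862,[0,5,2,5,9,3,5]),(292,[]),(288,[]),(6030,[0,2,9,3,3,5,3,9]),(3662,[4,3,0,4,3,5]),(293,[]),(288,[])],[3,0,4,2,4,3]),
  (1,[7,17,3,19,10],[(6630,[]),(292,[]),(288,[])],[3,4,2,4,2,8]),
  (11,[18,16,15,17,18,17,22,16,3,19,10,9,7,19],[(3862,[4,2,1,3,4,3,8,2]),(293,[]),(288,[]),(5906,[0,3,9,2,2,2,9,2]),(292,[]),(288,[]),(4562,[2,5,2,2,8,1]),(292,[]),(288,[])],[4,3,5,8,2,1,5]),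
  (1,[3,10,18,27,23,3],[(6638,[])],[0,2,5,5,9,3,5]),
  (11,[22,17,19,19,19,17,3,19,10,9,7,19],[(3862,[8,3,5,5,5,3]),(293,[]),(288,[]),(1450,[0,3,9,0,2,5,3]),(293,[]),(2454,[1,4,3,9,0,2,5]),(293,[]),(288,[])],[2,1,5,3,3,5,2,5]),
  (1,[3,7,16,32,11,28],[(6646,[]),(288,[])],[2,8,3,3,5,3]),
  (11,[14,19,17,14,18,16,22,3,19,10,9,7,19],[(3862,[0,5,3,0,4,2,8]),(288,[]),(2090,[0,3,5,5,2,2,2,8]),(2278,[3,5,8,1,3,0,4,3]),(288,[])],[2,9,2,2,2,9]),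
  (1,[3,19,7,11,33,7],[(6654,[]),(292,[]),(288,[])],[0,2,5,3,4,2,2,5]),
  (11,[16,22,16,19,17,22,16,22,3,19,10,9,7,19],[(3862,[2,8,2,5,3,8,2,8]),(292,[]),(288,[]),(2406,[2,2,9,3,3,5]),(1582,[0,2,4,2,4,2,5,3])],[4,2,9,3,5,3,0]),
  (1,[3,1,23,10,15],[(6662,[]),(293,[]),(288,[])],[1,8,3,3,9,2]),
  (12,[19,19,22,17,19,22,3,19,10,9,7,19],[(3862,[5,5,8,3,5,8]),(292,[]),(288,[]),(5970,[9,2,4,3,9]),(5866,[2,1,4,2,2,4,2,4])],[0,2,4,3,5,3,4]),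
  (1,[3,1,7,17,22,11],[(6670,[]),(292,[])],[0,2,8,1,8,2,4,2]),
  (12,[14,19,22,17,17,19,3,19,10,9,7,19],[(3862,[0,5,8,3,3,5]),(288,[]),(5494,[3,3,5,8,2,5,8,3]),(6642,[3,8,2,2,5,2,1,3]),(293,[]),(288,[])],[1,2,5,3,8,2,2,4]),
  (1,[3,10,28,11,11],[(6678,[]),(288,[])],[5,2,1,4,2,2,5]),
  (12,[14,14,14,17,18,17,19,3,19,10,9,7,19],[(3862,[0,0,0,3,4,3,5]),(6614,[3,0,4,3,5,3,3]),(292,[]),(5270,[3,5,5,3,5,5,5]),(288,[])],[5,2,5,2,5,3,3]),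
  (1,[3,7,5,11,29,17],[(6686,[]),(293,[]),(288,[])],[4,3,5,3,8,1,3]),
  (38,[16,16,18,16,19,17,19,19,3,19,10,9,7,19],[(3862,[2,2,4,2,5,3,5,5]),(293,[]),(4310,[2,2,5,2,5,3,0]),(288,[]),(1842,[0,3,4,3,8,1,2,5])],[2,5,9,2,2,5,2]),
  (1,[3,1,10,28,16,3],[(6694,[]),(293,[])],[1,4,2,2,4,3,8]),
  (41,[23,16,19,17,23,17,19,3,19,10,9,7,19],[(3862,[9,2,5,3,9,3,5]),(1438,[0,8,1,8,3,4,3,3]),(293,[]),(288,[]),(4354,[0,8,2,4,2,5,2])],[2,2,5,3,5,3,8,1]),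
  (1,[3,1,7,27,7,17,22],[(6702,[]),(293,[])],[1,2,5,2,5,2,4]),
  (41,[16,19,16,22,17,19,19,3,19,10,9,7,19],[(3862,[2,5,2,8,3,5,5]),(288,[]),(1422,[1,2,2,4,2,5,5]),(293,[]),(288,[]),(5930,[3,5,3,0,5,3,5]),(292,[]),(288,[])],[0,3,5,5,8,2,4,2]),
  (1,[3,10,19,27,7],[(6710,[]),(288,[])],[8,3,3,4,3,8,1]),
  (41,[22,16,18,17,14,18,17,3,19,10,9,7,19],[(3862,[8,2,4,3,0,4,3]),(1534,[1,5,3,8,2,1,3]),(293,[]),(2494,[0,0,2,4,3,9,2]),(288,[])],[0,3,4,3,3,4,3,0]),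
  (1,[3,10,22,7,10,18],[(6718,[]),(288,[])],[3,9,0,2,2,2,5,2]),
  (4,[18,17,17,22,16,15,3,7,10,29,11,26],[(2042,[4,3,3,8,2,1]),(292,[]),(288,[]),(6422,[0,9,2,4,2,2,9,0]),(292,[]),(2054,[0,8,3,3,4]),(292,[])],[9,2,4,2,5,2,1,4]),
  (1,[3,7,11,19,16],[(6726,[]),(292,[])],[0,5,9,3,3,4,3,9]),
  (7,[15,19,17,22,16,18,17,22,3,7,10,29,11,26],[(2042,[1,5,3,8,2,4,3,8]),(292,[]),(288,[]),(6666,[5,5,3,8,2,8,3]),(293,[]),(288,[]),(1362,[0,4,2,2,2,9]),(288,[])],[0,2,5,5,9,2,5]),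
  (1,[3,1,7,27,23,10,22],[(6734,[])],[8,2,2,5,2,1,5]),
  (8,[18,17,17,23,16,16,16,3,7,10,29,11,26],[(2042,[4,3,3,9,2,2,2]),(292,[]),(6126,[1,3,5,2,9,0,2]),(292,[]),(3354,[2,8,2,1,4,2,2]),(292,[]),(288,[])],[1,5,3,5,2,8,2]),
  (1,[3,11,28,3,26,10],[(6742,[]),(292,[])],[0,4,3,9,0,2,2]),
  (11,[17,14,19,16,19,22,3,7,10,29,11,26],[(2042,[3,0,5,2,5,8]),(502,[3,4,3,0,4,3]),(292,[]),(1658,[4,2,4,2,4,2]),(292,[])],[0,3,4,2,9,3,4]),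
  (1,[3,1,7,16,23,11],[(6750,[]),(293,[])],[0,0,5,2,5,2,2,8]),
  (11,[14,22,17,17,18,17,19,23,3,7,10,29,11,26],[(2042,[0,8,3,3,4,3,5,9]),(288,[]),(2994,[0,0,9,3,5,3,5]),(1302,[2,8,2,1,5,2,2,8]),(136,[]),(116,[]),(108,[])],[1,5,2,2,5]),
  (1,[3,7,33,10],[(6758,[]),(292,[]),(288,[])],[4,2,5,2,4,3]),
  (11,[16,22,16,16,16,23,3,7,10,29,11,26],[(2042,[2,8,2,2,2,9]),(292,[]),(288,[]),(2382,[2,8,1,3,0,4,3,3]),(292,[]),(6134,[5,5,3,0]),(288,[])],[0,2,5,8,3,5,3,8]),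
  (1,[3,29,11,33],[(6766,[]),(288,[])],[0,0,2,5,3,8,2,8]),
  (12,[17,19,23,16,22,16,23,3,7,10,29,11,26],[(2042,[3,5,9,2,8,2,9]),(293,[]),(288,[]),(3666,[0,2,4,2,8,3,3,9]),(6026,[0,8,3,4,3,3,5,9])],[2,4,2,2,4,3,3]),
  (1,[3,7,10,32],[(6774,[])],[1,3,4,2,5,8,2,9]),
  (12,[18,17,19,16,23,3,7,10,29,11,26],[(2042,[4,3,5,2,9]),(293,[]),(288,[]),(2070,[8,2,4,2,1,3,4]),(4290,[8,3,3,5,2,4,3]),(292,[])],[0,2,4,2,5,5,5,2,2]),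
  (1,[3,7,16,23,11,32],[(6782,[]),(288,[])],[0,8,2,4,2,2,9]),
  (13,[14,16,15,16,19,16,19,16,16,3,7,10,29,11,26],[(2042,[0,2,1,2,5,2,5,2,2]),(293,[]),(288,[]),(3666,[0,3,9,2,4,3]),(292,[]),(288,[]),(4282,[2,2,8,3,3,8,3,4])],[4,2,5,8,3,4,2,5]),
  (1,[3,7,16,18,3,17],[(6790,[]),(292,[])],[3,9,2,4,3]),
  (17,[18,16,19,22,15,3,7,10,29,11,26],[(2042,[4,2,5,8,1]),(292,[]),(288,[]),(1898,[1,3,4,3,4,3,9]),(293,[]),(288,[])],[5,8,2,2,2,5,5,5])]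
theorem hD11 : allD2 lk B KW SW F A RL [] D11 1559 = true := by decide +kernel
end
end CA.ThM
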