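import Cfsg.Agent.Lib.Spor.ThF

/-! Derivations of the double coset table of the Thompson group. -/

set_option autoImplicit false
set_option maxRecDepth 100000
set_option linter.all false
namespace CA.ThM
open CA.CNet CA.CWord CA.CLevel CA.CSimple CA.CPoint CA.CLow CA.CTodd CA.TCos
noncomputable section

def D12 : List (ℕ × Word × List (ℕ × Word) × Word) := [(1,[3,10,22,3,11,12],[(6798,[])],[5,3,3,5,5,3,0,5]),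
  (17,[17,19,19,16,19,22,3,7,10,29,11,26],[(2042,[3,5,5,2,5,8]),(292,[]),(288,[]),(5550,[8,2,2,9,2,9]),(293,[])],[9,2,5,8,2,2,2]),
  (1,[3,7,5,10,29,17],[(6806,[])],[0,2,8,3,9,3,8]),
  (36,[16,19,17,18,17,14,19,3,7,10,29,11,26],[(2042,[2,5,3,4,3,0,5]),(288,[]),(5574,[1,4,3,5,5,9]),(2790,[4,2,5,2,5,2,8]),(293,[]),(288,[])],[1,2,2,5,3,9,2,5]),
  (1,[3,7,29,33,11],[(6814,[]),(292,[]),(288,[])],[5,2,2,4,3,9,3]),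
  (6,[18,16,16,22,17,18,16,19,3,7,10,29,16,10],[(6606,[4,2,2,8,3,4,2,5]),(293,[]),(4962,[8,1,3,3,4,3,5]),(293,[]),(4150,[9,0,2,4,2,5])],[3,0,5,3,3,4,3]),
  (1,[3,7,10,23,27,28,27],[(6822,[]),(292,[])],[2,2,8,1,3,0]),
  (7,[15,19,16,19,23,17,3,7,10,29,16,10],[(6606,[1,5,2,5,9,3]),(1478,[0,2,4,2,9,3,4,3,3]),(293,[]),(288,[]),(4174,[4,3,5,3,5,3,0]),(293,[])],[3,0,5,3,5,8,2,2]),
  (1,[3,10,28,10,22],[(6830,[]),(293,[]),(288,[])],[3,8,1,2,2,8,3]),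
  (8,[14,22,17,19,17,18,17,22,3,7,10,29,16,10],[(6606,[0,8,3,5,3,4,3,8]),(293,[]),(288,[]),(4170,[2,2,8,3,4,3,0]),(4834,[3,0,9,3,5]),(288,[])],[2,4,2,1,5,2,4,2]),
  (1,[3,7,9,16,19,10],[(6838,[])],[5,3,3,8,2,4]),
  (8,[15,16,19,16,23,17,19,3,7,10,29,16,10],[(6606,[1,2,5,2,9,3,5]),(288,[]),(6242,[1,5,8,2,5,3,3]),(3630,[4,3,5,3,0,4,2]),(288,[])],[2,8,2,1,5,3,3,5]),
  (1,[3,1,7,9,16,7],[(6846,[]),(288,[])],[2,4,2,8,2,1,5]),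
  (8,[14,17,19,19,19,16,16,3,7,10,29,16,10],[(6606,[0,3,5,5,5,2,2]),(292,[]),(4706,[3,4,2,2,5,3,9,3]),(6566,[3,0,4,3,5,3,3]),(293,[])],[2,5,3,9,3,5,2,9]),
  (1,[3,7,27,23,11],[(6854,[])],[5,3,9,0,2,5,3]),
  (8,[17,19,17,23,17,18,16,23,3,7,10,29,16,10],[(6606,[3,5,3,9,3,4,2,9]),(3418,[0,2,2,9,3,5]),(5494,[3,8,3,0,5,3,5,8]),(292,[]),(288,[])],[0,2,9,2,9,0]),
  (1,[3,7,29,27,10],[(6862,[])],[1,3,8,2,2,4,2,1]),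
  (8,[19,16,19,23,16,23,3,7,10,29,16,10],[(6606,[5,2,5,9,2,9]),(1646,[0,3,9,2,1,5,2]),(5222,[1,3,4,3,4,3,4]),(293,[])],[2,2,2,8,2,2,2,4]),
  (1,[3,7,10,17,23,11],[(6870,[])],[3,0,5,3,5,3,4]),
  (9,[18,17,17,19,22,16,23,3,7,10,29,16,10],[(6606,[4,3,3,5,8,2,9]),(292,[]),(5830,[4,3,4,3,9,2,5,3]),(5754,[5,3,4,3,4,3,3]),(288,[])],[0,5,5,9,2,9,0]),
  (1,[3,7,11,23,17,17],[(6878,[]),(292,[]),(288,[])],[0,0,3,4,3,3,4,2]),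
  (10,[16,22,16,19,16,16,22,3,7,10,29,16,10],[(6606,[2,8,2,5,2,2,8]),(293,[]),(288,[]),(4790,[0,4,3,5,9,3,5]),(293,[]),(1926,[1,2,4,2,8,2,5])],[3,5,3,8,2,5]),
  (1,[3,23,10,27,3,29],[(6886,[])],[5,3,5,2,4,2,2]),
  (11,[14,14,19,16,18,16,15,18,3,7,10,29,16,10],[(6606,[0,0,5,2,4,2,1,4]),(292,[]),(288,[]),(4454,[5,3,4,2,1,3,4]),(288,[]),(4182,[5,3,4,2,4])],[3,9,0,2,5,2,5,2]),
  (1,[3,10,29,17,18,3],[(6894,[]),(293,[])],[1,4,3,5,3,9,2]),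
  (11,[15,17,18,16,15,18,17,3,7,10,29,16,10],[(6606,[1,3,4,2,1,4,3]),(293,[]),(3594,[0,5,5,9]),(6570,[1,2,2,5,3,4,3]),(293,[])],[2,2,4,3,8,2,5,3]),
  (1,[3,1,7,17,22,10],[(6902,[]),(293,[]),(288,[])],[1,5]),
  (11,[23,16,16,19,16,19,17,3,7,10,29,16,10],[(6606,[9,2,2,5,2,5,3]),(292,[]),(288,[]),(3318,[2,2,8,1,8,2]),(5474,[2,9,3,5,8,2,5,3]),(293,[])],[0,0,0,3,3,5,3,4]),
  (1,[3,1,11,28,27,3],[(6910,[]),(292,[]),(288,[])],[1,3,4,3,5,2,8,2,1]),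
  (12,[15,19,16,16,18,17,23,3,7,10,29,16,10],[(6606,[1,5,2,2,4,3,9]),(293,[]),(288,[]),(1554,[0,0,4,2,8,1,3,8]),(288,[]),(1678,[5,5,3,4,3,9]),(292,[]),(288,[])],[2,5,2,9,2,2,4]),
  (1,[7,16,3,18],[(6918,[]),(292,[])],[0,8,2,2,4,3,3]),
  (12,[23,16,18,17,19,17,23,3,7,10,29,16,10],[(6606,[9,2,4,3,5,3,9]),(6886,[5,8,3,8,1,8]),(293,[]),(1502,[0,2,2,5,2,5,2,4]),(293,[])],[8,1,3,4,3,5]),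
  (1,[3,11,28,3,26],[(6926,[]),(293,[])],[2,5,2,9,3,3,4,2]),
  (37,[16,15,18,17,22,16,19,3,7,10,29,16,10],[(6606,[2,1,4,3,8,2,5]),(2762,[5,3,3,5,3,4,3]),(293,[]),(3586,[2,5,3,4,3,8]),(292,[])],[8,2,5,3]),
  (1,[3,19,10,33,7,32],[(6934,[])],[8,2,4,2,2,5,8]),
  (2,[16,15,18,17,23,16,16,3,7,29,11,27,13],[(3998,[2,1,4,3,9,2,2]),(292,[]),(1578,[3,3,5,2,1,2,4]),(6566,[0,5,3,4,3,3,8]),(293,[])],[2,5,3,3,5,3,0]),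
  (1,[3,7,10,16,22,11],[(6942,[])],[8,2,4,3,5,3,4,3]),
  (5,[19,16,19,19,22,17,18,3,7,29,11,27,13],[(3998,[5,2,5,5,8,3,4]),(4002,[3,3,5,5,9]),(292,[]),(2822,[3,3,5,2,4,2,2])],[0,0,2,8,2,1,8]),
  (1,[3,1,7,17,23,11,9],[(6950,[])],[3,5,9,2,8,2]),
  (6,[14,19,22,15,16,16,18,3,7,29,11,27,13],[(3998,[0,5,8,1,2,2,4]),(6322,[3,4,3,4,2,8,3]),(292,[]),(2606,[2,5,5,2,4,2,8,2]),(293,[]),(288,[])],[0,0,2,8,3,4,2,9]),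
  (1,[3,29,11,32],[(6958,[]),(293,[])],[0,2,9,2,5,2,5]),
  (8,[15,18,16,19,16,19,17,3,7,29,11,27,13],[(3998,[1,4,2,5,2,5,3]),(288,[]),(3626,[0,9,3,4,3,3,5,9]),(1678,[2,4,2,2,5,3]),(292,[])],[4,2,8,3,5,2]),
  (1,[3,11,13,29,17,3],[(6966,[]),(293,[]),(288,[])],[8,2,1,4,3,3,5,2]),
  (9,[16,18,17,17,19,19,17,19,3,7,29,11,27,13],[(3998,[2,4,3,3,5,5,3,5]),(293,[]),(288,[]),(6458,[0,5,2,9,2,4,2,2]),(292,[]),(288,[]),(6162,[2,2,8,2,1,4,3,9]),(293,[]),(288,[])],[2,5,2,2,8,1,3]),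
  (1,[3,10,18,17,18],[(6974,[]),(288,[])],[0,3,4,3,5,5,8]),
  (9,[17,19,22,15,17,19,17,3,7,29,11,27,13],[(3998,[3,5,8,1,3,5,3]),(293,[]),(3846,[1,4,3,0,4,2,9]),(3902,[0,3,9,2,1,5,3]),(288,[])],[3,4,3,8,1,8]),
  (9,[14,18,17,19,23,17,19,17,18,3,7,29,11,27,13],[(3998,[0,4,3,5,9,3,5,3,4]),(2842,[9,2,5,3,5,3,4]),(293,[]),(3846,[5,5,2,8,3,9,3]),(293,[])],[0,5,3,9,3,5,3]),
  (1,[3,7,26,19,10,14],[(6986,[])],[2,4,2,2,5,9,0,2]),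
  (11,[14,14,16,22,16,23,16,23,3,7,29,11,27,13],[(3998,[0,0,2,8,2,9,2,9]),(5038,[3,4,3,3,5,8,2]),(288,[]),(4118,[5,3,9,2,2,8,3])],[4,3,5,5,8]),
  (37,[14,14,16,19,23,14,17,19,3,7,29,11,27,13],[(3998,[0,0,2,5,9,0,3,5]),(5774,[0,2,4,3,5,3]),(3030,[4,3,5,8,2]),(293,[]),(288,[])],[5,3,0,2,4]),
  (1,[3,7,9,11,13],[(6998,[]),(293,[])],[5,5,3,5,3,3,5,9]),
  (38,[15,17,22,15,16,19,23,3,7,29,11,27,13],[(3998,[1,3,8,1,2,5,9]),(5802,[0,2,4,3,5,2,5]),(292,[]),(288,[]),(4790,[3,4,3,5,5,3,8]),(288,[])],[3,4,3,0,2,5,3]),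
  (1,[3,7,5,27,19,10,12],[(7006,[]),(288,[])],[5,3,8,2,4,2]),
  (2,[18,17,22,16,19,16,22,3,7,29,27,11],[(3202,[4,3,8,2,5,2,8]),(293,[]),(288,[]),(4338,[2,1,4,2,9,3,4,2]),(4630,[5,3,9,3,5,3,0]),(293,[]),(288,[])],[1,3,5,2,2,5,3]),
  (2,[18,16,15,22,16,16,19,3,7,29,27,11],[(3202,[4,2,1,8,2,2,5]),(292,[]),(4322,[0,8,2,2,2,4,3,5]),(292,[]),(288,[]),(1874,[0,9,2,5,3,3,4])],[9,3,4,3,3,9,3]),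
  (1,[3,7,29,27,10,15],[(7018,[])],[2,2,8,3,0,5]),
  (5,[14,18,17,18,17,23,16,23,3,7,29,27,11],[(3202,[0,4,3,4,3,9,2,9]),(3562,[0,3,5,2,5]),(292,[]),(288,[]),(1438,[8,3,0,2,5,2,4]),(292,[])],[9,3,5,3,3,5,2]),
  (1,[3,29,17,3,11],[(7026,[])],[2,5,2,1,5,3,5,8]),
  (7,[16,18,17,17,19,22,16,18,3,7,29,27,11],[(3202,[2,4,3,3,5,8,2,4]),(292,[]),(288,[]),(6954,[0,0,3,5,3,9,2,5]),(292,[]),(2538,[5,3,0,5,2,8,2])],[0,9,2,5,2,5,2,5]),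
  (1,[3,7,10,32,11,13],[(7034,[]),(292,[]),(288,[])],[3,3,5,2,8,1,3,4]),
  (7,[14,18,17,14,18,16,18,16,3,7,29,27,11],[(3202,[0,4,3,0,4,2,4,2]),(292,[]),(4886,[0,5,3,5,3,0,2,8]),(292,[]),(288,[]),(1882,[3,8,1,8,3,4,3]),(288,[])],[5,2,5,8,2,2,2,4]),
  (1,[7,16,3,28,17,11],[(7042,[])],[0,4,3,4,3,0,4,3]),
  (8,[14,17,23,16,19,16,16,23,3,7,29,27,11],[(3202,[0,3,9,2,5,2,2,9]),(292,[]),(288,[]),(5946,[5,9,3,4,2]),(288,[]),(4858,[5,2,5,2,1,3,4]),(293,[])],[5,8,1,3,5,3,0]),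
  (1,[3,10,22,7,10,33],[(7050,[]),(293,[])],[0,9,2,9,2,2,5]),
  (9,[14,19,17,17,19,23,17,18,3,7,29,27,11],[(3202,[0,5,3,3,5,9,3,4]),(3562,[5,3,0,4,2,1,4]),(3946,[2,1,8,3,3,5]),(293,[]),(288,[])],[0,4,2,2,4,3,4]),
  (1,[3,7,15,26,28,11,33],[(7058,[]),(293,[])],[2,5,2,2,2,5,8]),
  (11,[19,16,19,16,19,22,16,3,7,29,27,11],[(3202,[5,2,5,2,5,8,2]),(292,[]),(1898,[0,5,3,3,9,2,9]),(293,[]),(288,[]),(1986,[2,2,5,2,8,2,1,4])],[5,9,3,5,3,0,5]),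
  (1,[3,7,18,11],[(7066,[])],[5,2,9,2,2,5,3]),
  (11,[14,19,16,18,17,3,7,29,27,11],[(3202,[0,5,2,4,3]),(293,[]),(288,[]),(3158,[2,2,4,3,5,3,0]),(292,[]),(288,[]),(4578,[2,4,2,2,5,3,9]),(293,[]),(288,[])],[3,3,4,3,0,5,3,4]),
  (1,[3,7,27,29,3,10],[(7074,[]),(292,[])],[3,8,2,4,3,3,4]),
  (12,[19,16,16,19,17,23,14,3,7,29,27,11],[(3202,[5,2,2,5,3,9,0]),(7042,[3,9,2,5,3,9,3,8]),(292,[]),(288,[]),(7038,[2,5,3,3,5,8,2,2])],[5,9,3,3,4,3,4]),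
  (1,[3,7,18,17,29],[(7082,[]),(293,[]),(288,[])],[0,3,4,2,2,4,2,4]),
  (17,[16,16,16,23,16,16,18,3,7,29,27,11],[(3202,[2,2,2,9,2,2,4]),(6730,[3,3,5,3,3,5,3])],[1,2,5,2,2,5]),
  (1,[3,7,10,15,16],[(7090,[])],[1,4,3,9,2,2,2,9]),
  (36,[19,17,23,14,16,19,17,18,3,7,29,27,11],[(3202,[5,3,9,0,2,5,3,4]),(292,[]),(4594,[5,8,2,4,2,5,8]),(293,[]),(288,[]),(4918,[2,1,4,3,8,2,4,2]),(293,[]),(288,[])],[0,2,4,3,0,5]),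
  (1,[7,27,3,28,10,32],[(7098,[])],[8,2,2,4,2,1]),
  (37,[14,16,19,16,18,16,23,14,3,7,29,27,11],[(3202,[0,2,5,2,4,2,9,0]),(288,[]),(5306,[4,3,4,3,9,2,5,2]),(293,[]),(4670,[0,2,1,8,2,5,2]),(293,[])],[3,5,5,3]),
  (1,[3,7,11,23,3,26,10],[(7106,[]),(292,[]),(288,[])],[2,8,2,2,9,2,4,2]),
  (38,[14,16,16,19,16,18,16,22,3,7,29,27,11],[(3202,[0,2,2,5,2,4,2,8]),(1090,[3,8,3,3,8,3,5,3]),(6998,[0,2,5,5,2,2,8]),(288,[])],[0,8,2,1,3,5,3]),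
  (1,[3,7,18,26,11,27],[(7114,[]),(293,[]),(288,[])],[3,0,4,2,1]),
  (38,[17,23,16,19,16,23,14,3,7,29,27,11],[(3202,[3,9,2,5,2,9,0]),(288,[]),(2902,[0,2,8,1,2,2,8,3]),(288,[]),(6874,[0,2,5,3,3,9,0,3]),(292,[])],[1,4,2,4,3,5,3,0]),
  (1,[3,1,28,11,28,7],[(7122,[]),(292,[]),(288,[])],[1,4,3,8,1,8,3,5]),
  (38,[14,14,17,18,17,23,14,3,7,29,27,11],[(3202,[0,0,3,4,3,9,0]),(293,[]),(6802,[5,5,2,1,5,3,4]),(3658,[0,3,8,1,2,5,2,1])],[2,4,2,1,3,5,9,2]),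
  (1,[7,16,7,26,3],[(7130,[])],[0,0,5,2,2,8,2,4]),
  (40,[16,19,16,23,14,16,3,7,29,27,11],[(3202,[2,5,2,9,0,2]),(3522,[2,5,8,2,9,2,2]),(292,[]),(7002,[5,5,3,0,2,4])],[4,3,3,9,2,5,3,9]),
  (1,[3,11,29,26,28,3],[(7138,[])],[3,4,3,8,2,2,2,5]),
  (40,[17,17,23,16,18,17,17,3,7,29,27,11],[(3202,[3,3,9,2,4,3,3]),(3670,[8,3,4,3,5,8,2]),(3290,[2,4,2,5,9,0,2,2])],[0,3,8,2,8,1,8]),
  (1,[3,7,33,27,29,3],[(7146,[])],[3,3,5,8,3]),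
  (41,[16,19,23,17,19,17,22,3,7,29,27,11],[(3202,[2,5,9,3,5,3,8]),(293,[]),(6466,[9,0,3,4,3,4,3]),(292,[]),(4266,[2,4,2,1,2]),(293,[])],[0,2,5,2,9,3,4,2]),
  (1,[3,7,27,19,10,19],[(7154,[]),(292,[]),(288,[])],[2,2,5,3,0,2,5]),
  (9,[15,17,19,17,22,17,14,3,7,29,10,16],[(6722,[1,3,5,3,8,3,0]),(2290,[5,2,4,3,3,5,9]),(6090,[1,5,3,4,3,3,5,2]),(292,[])],[5,3,5,2,8,2,4]),
  (1,[3,18,17,7,16],[(7162,[]),(288,[])],[4,3,9,3,4,2,2,9]),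
  (10,[22,16,18,16,19,16,15,18,3,7,29,10,16],[(6722,[8,2,4,2,5,2,1,4]),(288,[]),(6058,[9,3,5,3,3,5,9,3]),(293,[]),(288,[]),(6626,[2,1,3,4,3,4,3])],[0,2,1,2,4,2,5,2,1]),
  (1,[3,7,9,10,32,11],[(7170,[]),(292,[]),(288,[])],[1,5,3,3,5,2,4,2]),
  (11,[14,17,19,17,14,18,17,19,3,7,29,10,16],[(6722,[0,3,5,3,0,4,3,5]),(293,[]),(288,[]),(3682,[0,3,9,2,5,2,1]),(293,[]),(288,[]),(2222,[1,5,2,2,5,3,3]),(288,[])],[2,2,5,3,9,3,5,3]),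
  (1,[7,16,7,26,3,1],[(7178,[]),(292,[]),(288,[])],[2,8,2,5,2,5,3]),
  (11,[14,16,19,19,16,15,3,7,29,10,16],[(6722,[0,2,5,5,2,1]),(288,[]),(3094,[2,2,4,2,5,3]),(1174,[0,5,9,2,5,2,1])],[2,8,2,2,9,2,2]),
  (1,[3,28,10,14,3],[(7186,[]),(293,[]),(288,[])],[3,4,2,2,4,2,1,5]),
  (12,[22,17,19,17,18,17,17,3,7,29,10,16],[(6722,[8,3,5,3,4,3,3]),(2782,[2,4,3,3,9,2,5]),(292,[]),(288,[]),(5870,[3,3,5,8,2,5,8]),(293,[]),(288,[])],[2,5,2,8,2,4,3,9]),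
  (1,[3,1,28,11,9,7],[(7194,[]),(288,[])],[0,2,2,4,2,5,5,2]),
  (12,[19,16,18,16,22,15,3,7,29,10,16],[(6722,[5,2,4,2,8,1]),(288,[]),(4346,[0,5,3,4,3,4]),(746,[0,3,8,2,2,9,2,9]),(292,[])],[2,4,3,0,5,2,9,0]),
  (1,[3,11,29,7,26,10],[(7202,[]),(288,[])],[0,5,3,0,4,2,2,2]),
  (14,[14,17,17,18,17,14,18,16,3,7,29,10,16],[(6722,[0,3,3,4,3,0,4,2]),(1882,[5,2,1,5,3,9,3,5]),(288,[])],[8,2,8,2,2,2]),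
  (1,[3,1,19,11,19,7],[(7210,[])],[0,0,4,2,2,2,5,2]),
  (36,[14,18,17,17,23,16,19,3,7,29,10,16],[(6722,[0,4,3,3,9,2,5]),(2450,[8,1,2,4,2,8,3]),(292,[]),(288,[]),(3446,[0,3,5,5,3,8]),(292,[])],[5,3,5,9,2,5]),
  (39,[17,18,16,16,19,22,17,3,7,29,10,16],[(6722,[3,4,2,2,5,8,3]),(292,[]),(288,[]),(5038,[3,3,9,3,4,2,2,2]),(292,[]),(288,[]),(6266,[1,4,3,8,3,0]),(293,[]),(288,[])],[2,5,3,4,2,4]),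
  (1,[7,16,3,28,16,7],[(7222,[]),(292,[]),(288,[])],[3,3]),
  (42,[15,19,22,16,16,16,18,17,3,7,29,10,16],[(6722,[1,5,8,2,2,2,4,3]),(292,[]),(6562,[0,2,5,3,9,2,8,2]),(2062,[5,8,2,9,2,2])],[0,2,2,4,2,5,3]),
  (1,[3,29,7,16,11],[(7230,[])],[0,2,2,5,8,1,2,2]),
  (2,[16,19,16,16,16,23,17,3,7,11,29,10,16],[(6442,[2,5,2,2,2,9,3]),(293,[]),(6238,[0,2,8,2,1,3,5]),(288,[]),(3686,[0,0,4,2,4,2,8,3,4]),(292,[])],[2,1,5,2,2,5,3,4]),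
  (1,[3,7,33,26,29,3],[(7238,[])],[5,2,2,5,8,2,4]),
  (8,[18,17,17,22,17,17,18,3,7,11,29,10,16],[(6442,[4,3,3,8,3,3,4]),(626,[2,1,3,4,2,2,2,9]),(293,[]),(288,[]),(4766,[0,2,2,2,5,9,3,3]),(292,[])],[3,5,3,8,2,4]),
  (1,[3,10,19,10,18,7],[(7246,[]),(293,[])],[5,3,3,9,2,4,2]),
  (11,[14,16,16,19,17,22,16,22,17,3,7,11,29,10,16],[(6442,[0,2,2,5,3,8,2,8,3]),(293,[]),(288,[]),(1450,[0,4,2,5,3,9,2,8]),(292,[]),(288,[]),(2902,[8,2,2,5,2,9,0]),(293,[]),(288,[])],[3,4,3,5,2,8,2]),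
  (1,[3,7,9,10,16,28,16],[(7254,[])],[1,3,9,3,4,2,2,4]),
  (11,[15,22,17,18,17,18,17,18,3,7,11,29,10,16],[(6442,[1,8,3,4,3,4,3,4]),(288,[]),(1878,[4,2,8,1,3,3,5]),(288,[]),(4146,[2,2,9,0,2,4]),(292,[])],[8,2,4,2,4,2,5,9]),
  (12,[15,17,19,19,22,3,7,11,29,10,16],[(6442,[1,3,5,5,8]),(288,[]),(5558,[2,2,5,5,8,3,5,9]),(5030,[1,3,0,4,3,4,2,4]),(293,[])],[0,4,2,8,3,3,8,3]),
  (1,[3,10,13,28,11],[(7266,[])],[4,2,8,2,5,8,3,5]),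
  (36,[15,17,19,23,17,19,22,16,3,7,11,29,10,16],[(6442,[1,3,5,9,3,5,8,2]),(1410,[9,2,1,4,2,9]),(6286,[3,0,5,3,5,3,5]),(292,[]),(288,[])],[4,3,8,2,1,3,9]),
  (1,[3,11,29,27,3,10],[(7274,[]),(293,[]),(288,[])],[5,2,8,2,2,4]),
  (37,[22,16,15,16,18,16,23,3,7,11,29,10,16],[(6442,[8,2,1,2,4,2,9]),(292,[]),(1082,[0,3,3,4,3,5,5,3]),(7158,[5,2,5,5,8,2,5]),(292,[])],[2,4,2,8,2,4,3,9]),
  (1,[3,10,28,7,33,26],[(7282,[]),(288,[])],[3,3,5,2,4,2,2]),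
  (39,[15,18,16,16,18,16,22,15,3,7,11,29,10,16],[(6442,[1,4,2,2,4,2,8,1]),(292,[]),(3138,[5,8,2,2,2,8]),(6466,[0,2,5,2,2,4,3,9]),(292,[])],[5,5,8,2,5,3]),
  (1,[3,10,19,17,19,3],[(7290,[]),(288,[])],[8,3,3,5,3,8,1]),
  (2,[16,16,18,16,15,17,19,23,3,7,29,11,16],[(5694,[2,2,4,2,1,3,5,9]),(338,[5,3,3,5,8,2,9]),(112,[]),(3230,[9,2,5,2,1,5,2]),(293,[])],[2,5,2,9,2,1,5,2]),
  (1,[3,23,11,17,7],[(7298,[]),(293,[])],[8,3,5,3,0,4,3]),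
  (3,[17,14,18,16,19,19,19,3,7,29,11,16],[(5694,[3,0,4,2,5,5,5]),(292,[]),(3530,[1,2,2,4,2,1,4]),(2462,[1,3,8,2,2,9,3,4]),(293,[])],[1,3,8,1,3,3]),
  (1,[3,23,7,16,28,3],[(7306,[]),(293,[])],[0,4,2,8,2,4,3]),
  (3,[17,17,23,16,15,3,7,29,11,16],[(5694,[3,3,9,2,1]),(293,[]),(288,[]),(5190,[4,3,0,5,2,4]),(293,[]),(938,[3,4,3,8,1,8,3]),(257,[]),(265,[]),(252,[]),(249,[])],[3,8,2,4,2,2]),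
  (1,[3,11,19,11,9],[(7314,[])],[0,5,3,8,2,2,2,4]),
  (7,[16,23,16,23,17,19,3,7,29,11,16],[(5694,[2,9,2,9,3,5]),(292,[]),(288,[]),(958,[0,0,3,3,8,3,5,3]),(293,[]),(288,[]),(5274,[0,5,2,2,4,3,5,8]),(288,[])],[3,0,4,2,8,1,8,2]),
  (1,[3,7,33,11,14],[(7322,[])],[2,2,8,2,4,3]),
  (8,[19,19,19,16,18,16,18,16,3,7,29,11,16],[(5694,[5,5,5,2,4,2,4,2]),(293,[]),(288,[]),(5698,[0,8]),(293,[]),(7302,[3,4,2,1,2,5,2]),(288,[])],[5,9,3,5,3,9,2]),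
  (1,[3,7,16,28,17,22,3],[(7330,[]),(293,[])],[3,4,3,4,2,8]),
  (8,[16,16,19,19,19,17,23,3,7,29,11,16],[(5694,[2,2,5,5,5,3,9]),(293,[]),(288,[]),(3482,[0,4,2,2,5,3,5,5]),(292,[]),(288,[]),(5314,[0,5,2,8,1,3,4,3])],[0,5,3,8,2,2,4,3]),
  (1,[3,7,33,26,7,28],[(7338,[]),(293,[]),(288,[])],[4,3,8,2,5,3,9,0]),
  (8,[15,16,16,18,16,16,3,7,29,11,16],[(5694,[1,2,2,4,2,2]),(292,[]),(4306,[0,5,2,5,8,2,1]),(4970,[0,0,4,2,1,4,2,2])],[3,4,3,5,9,2]),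
  (1,[3,10,18,16,18],[(7346,[]),(293,[]),(288,[])],[2,1,5,3,0,4,2]),
  (8,[22,16,19,19,23,16,3,7,29,11,16],[(5694,[8,2,5,5,9,2]),(288,[]),(1358,[1,2,4,2,1,4,3,4]),(6738,[3,5,3,5,3,5,2]),(288,[])],[5,2,2,2,8,3,0]),
  (1,[3,19,16,16,7,33],[(7354,[]),(293,[])],[5,2,8,3,4,2,8,2]),
  (9,[15,19,17,23,14,3,7,29,11,16],[(5694,[1,5,3,9,0]),(292,[]),(3498,[0,9,3,4,3,3,4,2]),(293,[]),(3358,[4,3,0,5,3,5,3]),(292,[])],[0,0,3,4,3,4,3,4]),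
  (1,[3,11,22,7,10,33],[(7362,[]),(292,[]),(288,[])],[0,3,4,3,9,2,2]),
  (9,[17,17,18,16,16,18,16,22,3,7,29,11,16],[(5694,[3,3,4,2,2,4,2,8]),(292,[]),(5502,[0,3,3,9,2,2,5]),(293,[]),(288,[]),(2194,[0,5,2,2,4,2,2,4])],[0,3,8,2,1,2,4]),
  (1,[3,7,33,26,29],[(7370,[]),(293,[])],[3,0,4,2,8,1,8]),
  (9,[16,19,16,15,16,18,3,7,29,11,16],[(5694,[2,5,2,1,2,4]),(292,[]),(6338,[1,5,2,2,4,3,9,3]),(2130,[2,5,5,2,2,2,9]),(292,[]),(288,[])],[4,3,0,5,2,8,2]),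
  (1,[3,7,9,11,22,29,10],[(7378,[]),(292,[])],[2,1,8,2,4,2,5,2]),
  (10,[19,16,19,19,17,19,3,7,29,11,16],[(5694,[5,2,5,5,3,5]),(293,[]),(288,[]),(4686,[0,4,2,4,2,5]),(288,[]),(886,[2,2,4,3,8]),(288,[])],[3,9,3,5,3,4]),
  (1,[3,1,19,7,11,22],[(7386,[]),(292,[])],[3,9,2,5,8,1,3])]
theorem hD12 : allD2 lk B KW SW F A RL [] D12 1700 = true := by decide +kernel
def D13 : List (ℕ × Word × List (ℕ × Word) × Word) := [(10,[23,14,16,16,18,16,16,3,7,29,11,16],[(5694,[9,0,2,2,4,2,2]),(293,[]),(6938,[5,3,5,5,9,2,9]),(288,[]),(1342,[2,5,9,3,8]),(293,[])],[4,3,5,3,3,5,9]),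
  (1,[3,1,7,17,23,11],[(7394,[]),(292,[])],[5,8,3,0,4,3]),
  (10,[16,16,16,19,19,19,16,22,3,7,29,11,16],[(5694,[2,2,2,5,5,5,2,8]),(292,[]),(4674,[3,4,2,1,8,3,5]),(293,[]),(2882,[1,5,3,9,3,5,2,5]),(292,[]),(288,[])],[0,2,9,2,5,2,9]),
  (1,[3,28,3,26,7,9],[(7402,[]),(293,[]),(288,[])],[2,4,3,3,8,1,2]),
  (11,[14,18,17,17,19,23,17,3,7,29,11,16],[(5694,[0,4,3,3,5,9,3]),(4766,[0,8,3,0,4,2,4]),(293,[]),(288,[]),(4874,[3,4,3,3,5,3,8])],[5,8,3,0,9]),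
  (1,[3,28,11,32,3,7],[(7410,[]),(292,[]),(288,[])],[0,5,3,0,5,2,4]),
  (12,[15,15,19,17,18,17,3,7,29,11,16],[(5694,[1,1,5,3,4,3]),(292,[]),(288,[]),(6562,[0,2,5,2,4,2,8]),(5358,[3,8,1,3,0,4,2,2])],[2,9,3,5,3,5,9,2]),
  (1,[3,19,7,10,22,7],[(7418,[]),(288,[])],[0,2,5,2,9]),
  (14,[14,19,16,16,18,16,22,3,7,29,11,16],[(5694,[0,5,2,2,4,2,8]),(292,[]),(1858,[5,3,5,5,2,2,2,8]),(292,[]),(288,[])],[1,8,2,2,8,2,4]),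
  (1,[3,1,7,9,10,33,16],[(7426,[]),(293,[])],[0,5,3,9,3,5,2]),
  (36,[17,18,16,19,16,19,23,3,7,29,11,16],[(5694,[3,4,2,5,2,5,9]),(766,[3,0,5,2,4,2,4,2]),(288,[]),(5798,[3,3,4,3,5,2,1,3])],[4,2,9,0]),
  (1,[3,1,7,11,23,10],[(7434,[]),(292,[])],[5,2,2,2,8,3,4,2]),
  (37,[16,22,16,15,18,16,16,18,3,7,29,11,16],[(5694,[2,8,2,1,4,2,2,4]),(5602,[0,5,8,2,4,3]),(5802,[5,8,3,3,5,3,9,3]),(288,[])],[0,0,0,5,2,2,4,3,4]),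
  (1,[3,1,11,23,10,9,7],[(7442,[]),(292,[])],[0,3,0,4,3,3,9,2]),
  (37,[16,19,17,17,23,16,19,3,7,29,11,16],[(5694,[2,5,3,3,9,2,5]),(292,[]),(3554,[3,4,2,2,4,2,9]),(292,[]),(288,[]),(4022,[2,5,5,5,2,8,3]),(293,[]),(288,[])],[5,2,4,2,1,8]),
  (1,[3,7,10,32,11,17,17],[(7450,[]),(293,[])],[0,3,5,2,9,0,3]),
  (39,[17,23,17,17,19,17,18,3,7,29,11,16],[(5694,[3,9,3,3,5,3,4]),(292,[]),(5382,[2,4,2,4,2,4,2,9]),(292,[]),(3378,[1,4,2,2,5,9,3,3])],[1,5,8,3,5,3,9,2]),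
  (1,[3,7,11,18,17,29],[(7458,[]),(293,[])],[5,3,4,3,8,2,5]),
  (40,[14,16,19,19,16,22,17,3,7,29,11,16],[(5694,[0,2,5,5,2,8,3]),(292,[]),(6354,[0,5,2,8,1,3,5]),(3374,[2,5,2,9,0,3,4]),(293,[]),(288,[])],[3,0,2,4,2,2,9]),
  (1,[3,19,27,19,3,23],[(7466,[]),(293,[])],[0,2,2,8,2,2,4]),
  (42,[15,17,23,17,18,17,17,19,23,3,7,29,11,16],[(5694,[1,3,9,3,4,3,3,5,9]),(2282,[3,3,5,8,2,4,3]),(292,[]),(5970,[2,2,4,3,8,2,2,9]),(288,[])],[1,2,2,5,3,5,3,0]),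
  (1,[3,11,23,17,10,19],[(7474,[]),(293,[])],[2,2,4,2,4]),
  (4,[22,16,15,19,22,17,19,3,11,22,10,16,19],[(4918,[8,2,1,5,8,3,5]),(292,[]),(5054,[0,5,9,2,5,3,3,8]),(1270,[0,0,3,5,3,9,2,2])],[2,2,5,8,2,2,2,8]),
  (1,[7,27,3,29,10,27],[(7482,[])],[0,3,3,8,3,3,9]),
  (7,[14,16,18,17,17,23,16,16,3,11,22,10,16,19],[(4918,[0,2,4,3,3,9,2,2]),(288,[]),(3162,[0,4,2,1,2]),(293,[]),(2250,[1,2,9,3,4,3,5,5])],[2,2,5,2,1,2,5,3]),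
  (1,[3,1,19,7,11,32,11],[(7490,[]),(292,[])],[3,3,9,2,4,3,3]),
  (8,[14,17,23,16,19,23,17,22,3,11,22,10,16,19],[(4918,[0,3,9,2,5,9,3,8]),(293,[]),(288,[]),(2070,[0,2,8,3,5,2,8]),(7350,[0,3,5,2,1,3,9]),(288,[])],[2,1,4,2,2,4,3,4]),
  (1,[3,28,3,10,16,18],[(7498,[]),(292,[]),(288,[])],[9,0,3,4,3,3]),
  (9,[14,16,19,17,19,22,17,3,11,22,10,16,19],[(4918,[0,2,5,3,5,8,3]),(293,[]),(288,[]),(5386,[5,3,5,3,3,5,9]),(293,[]),(6982,[0,2,1,3,9,2,5]),(288,[])],[0,4,3,4,3,0,9,2]),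
  (1,[3,7,29,11,32,16],[(7506,[]),(293,[]),(288,[])],[0,4,2,5,3,9,2,1]),
  (9,[14,16,22,16,15,18,16,18,3,11,22,10,16,19],[(4918,[0,2,8,2,1,4,2,4]),(292,[]),(6338,[1,3,0,5,2,2,2]),(6086,[0,8,3,3,4]),(293,[]),(288,[])],[0,8,3,0,4,2,2]),
  (1,[3,7,29,17,18,7],[(7514,[]),(288,[])],[0,5,3,3,8,2,2]),
  (10,[15,17,18,17,14,18,16,16,3,11,22,10,16,19],[(4918,[1,3,4,3,0,4,2,2]),(293,[]),(3790,[3,0,5,2,5,5]),(292,[]),(288,[]),(4146,[2,4,3,4,3,5,2,8])],[4,2,2,9,2,2,2,5]),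
  (1,[3,23,11,23,7],[(7522,[]),(292,[])],[3,8,1,3,4,3,9]),
  (12,[19,17,22,16,15,18,17,3,11,22,10,16,19],[(4918,[5,3,8,2,1,4,3]),(293,[]),(4178,[2,2,5,5,2,2,2,8]),(292,[]),(288,[]),(1702,[8,1,3,4,3,0,2]),(288,[])],[2,1,2,5,3]),
  (1,[3,11,19,7,11,33],[(7530,[]),(288,[])],[3,3,8,3,3]),
  (12,[16,15,22,17,17,18,16,3,11,22,10,16,19],[(4918,[2,1,8,3,3,4,2]),(292,[]),(6338,[4,2,5,2,8,2,4]),(292,[]),(6630,[3,3,5,2,5,8,2,4]),(293,[])],[1,8,3,3,5,3,5,8]),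
  (1,[3,7,26,29,10,17],[(7538,[]),(292,[])],[0,5,5,5,2,1,4,2]),
  (12,[18,16,22,16,18,16,3,11,22,10,16,19],[(4918,[4,2,8,2,4,2]),(292,[]),(5054,[5,5,3,3,5,3,5,5]),(3866,[0,3,4,3,9,0]),(292,[])],[0,5,3,5,5,9,2]),
  (1,[3,1,11,28,26,3],[(7546,[])],[5,9,3,5,3,5,5]),
  (36,[19,23,16,19,16,16,22,3,11,22,10,16,19],[(4918,[5,9,2,5,2,2,8]),(288,[]),(7170,[8,3,5,2,8,3,9]),(292,[]),(3066,[3,5,2,9,3,3])],[2,5,3,9,3,5,2]),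
  (1,[7,27,3,19,10],[(7554,[]),(293,[])],[0,0,9,3,3,4,3,4]),
  (36,[15,16,23,16,18,16,3,11,22,10,16,19],[(4918,[1,2,9,2,4,2]),(292,[]),(6106,[9,2,4,2,5,9,0]),(292,[]),(4890,[0,3,4,2,8,3,4,3]),(288,[])],[2,9,3,5,3,4,3]),
  (1,[3,7,26,18,16,29],[(7562,[]),(293,[]),(288,[])],[4,2,2,8,2,5,2]),
  (37,[22,17,18,17,19,3,11,22,10,16,19],[(4918,[8,3,4,3,5]),(293,[]),(288,[]),(7518,[0,2,2,2,4,2]),(292,[]),(288,[]),(3334,[8,3,5,9,2,1])],[3,3,5,9,2,2]),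
  (1,[3,23,27,7,11,27],[(7570,[]),(292,[])],[3,5,3,5]),
  (39,[17,18,17,14,16,19,17,3,11,22,10,16,19],[(4918,[3,4,3,0,2,5,3]),(292,[]),(1662,[8,2,8,1,8]),(293,[]),(288,[]),(2194,[0,5,8,1,2,2,2,8]),(292,[]),(288,[])],[0,4,2,2,5,9,2]),
  (1,[3,1,7,17,18],[(7578,[]),(292,[])],[2,1,3,5,3,8,2]),
  (40,[18,16,22,17,14,23,16,3,11,22,10,16,19],[(4918,[4,2,8,3,0,9,2]),(293,[]),(4054,[0,0,3,5,2,2,8]),(288,[]),(3834,[4,3,9,0,2,5,3,4])],[8,3,0,4,2,4,2]),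
  (1,[3,7,17,7,19,26,29],[(7586,[])],[0,2,1,3,4,3,4,3]),
  (41,[16,18,16,22,15,22,16,19,3,11,22,10,16,19],[(4918,[2,4,2,8,1,8,2,5]),(292,[]),(7390,[0,4,2,1,3,4,2,1]),(292,[]),(288,[]),(3830,[3,0,2,4,3,5,3,5]),(288,[])],[5,2,2,2,9,2,4]),
  (1,[3,19,16,3,19,7],[(7594,[]),(292,[])],[0,4,3,3,8,2,2,8]),
  (2,[14,17,19,23,14,16,16,16,19,3,19,11,18],[(6106,[0,3,5,9,0,2,2,2,5]),(293,[]),(288,[]),(4946,[1,3,4,3,5]),(292,[]),(5966,[4,3,5,3,8,2]),(292,[])],[3,3,5,8,3,3,8]),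
  (1,[3,11,13,28,10,13],[(7602,[]),(288,[])],[0,2,2,5,2,8,2]),
  (5,[15,17,22,16,15,19,17,3,19,11,18],[(6106,[1,3,8,2,1,5,3]),(292,[]),(7346,[3,5,3,5,9,0,2,4]),(293,[]),(5618,[1,3,5,9,0,2,4]),(292,[]),(288,[])],[0,5,8,3,3,9]),
  (1,[3,18,26,18,11],[(7610,[])],[3,3,5,2,9,3,3]),
  (6,[14,16,19,17,17,22,17,14,3,19,11,18],[(6106,[0,2,5,3,3,8,3,0]),(292,[]),(7346,[0,3,5,9,3,5,3,8]),(293,[]),(288,[]),(1218,[2,2,2,9,0,2]),(293,[]),(288,[])],[1,5,2,5,3,4,3]),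
  (1,[3,11,28,11],[(7618,[]),(293,[])],[4,2,2,2,5,3,0]),
  (8,[17,17,18,17,23,14,16,18,3,19,11,18],[(6106,[3,3,4,3,9,0,2,4]),(292,[]),(6334,[5,2,1,3,5,3]),(288,[]),(2054,[4,2,1,4,3,5,2]),(292,[]),(288,[])],[5,3,5,8,2,2,4]),
  (1,[3,11,23,11,23,7],[(7626,[]),(292,[])],[0,5,3,5,2,4]),
  (8,[14,19,22,17,17,22,3,19,11,18],[(6106,[0,5,8,3,3,8]),(293,[]),(288,[]),(2510,[2,2,2,5,3,0,4]),(288,[]),(3870,[2,1,5,2,2,8,3]),(288,[])],[0,0,3,5,3,5,3,3,8]),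
  (1,[3,7,9,16,29,26],[(7634,[]),(288,[])],[5,2,4,3,4,3,4]),
  (9,[17,14,19,16,15,18,3,19,11,18],[(6106,[3,0,5,2,1,4]),(293,[]),(288,[]),(4946,[0,3,3,8,3,3,4,3]),(292,[]),(962,[3,5,3,3,4,3,4]),(292,[])],[0,5,3,5,3,9,0,3]),
  (1,[3,7,26,10,19,11],[(7642,[]),(293,[])],[2,8,3,4,2,2,8]),
  (9,[19,19,17,22,16,22,17,3,19,11,18],[(6106,[5,5,3,8,2,8,3]),(292,[]),(7346,[2,4,2,8,2,5,3,8]),(292,[]),(288,[]),(4582,[0,0,3,3,5,5,5,3,0]),(292,[]),(288,[])],[0,5,3,4,3,8,2]),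
  (1,[3,1,29,10,28,7,17],[(7650,[]),(292,[]),(288,[])],[0,3,4,2,1,4,2]),
  (9,[15,22,16,19,23,17,17,18,3,19,11,18],[(6106,[1,8,2,5,9,3,3,4]),(293,[]),(288,[]),(4946,[5,2,2,8,1,2,2,2]),(292,[]),(1358,[2,5,5,5,2,1,4]),(288,[])],[1,3,8,3,3]),
  (1,[7,26,3,29,26],[(7658,[]),(288,[])],[0,3,9,3,4,2,2,5]),
  (9,[23,16,16,19,17,22,15,3,19,11,18],[(6106,[9,2,2,5,3,8,1]),(292,[]),(5054,[0,5,5,2,2,4,3]),(293,[]),(288,[]),(6410,[4,2,1,4,3,8,2])],[0,3,0,5,2,4]),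
  (1,[3,28,3,16,18,3],[(7666,[]),(293,[]),(288,[])],[0,5,8,3,5,2]),
  (9,[14,16,15,18,16,18,16,23,3,19,11,18],[(6106,[0,2,1,4,2,4,2,9]),(3806,[0,0,3,3,5,3,4,3]),(288,[]),(2838,[9,0,2,5,3,5]),(288,[])],[0,4,3,4,2,1,2,5]),
  (1,[3,1,23,11,23],[(7674,[])],[2,5,2,8,3,5,5]),
  (10,[14,17,14,19,23,16,19,16,3,19,11,18],[(6106,[0,3,0,5,9,2,5,2]),(292,[]),(288,[]),(2622,[3,5,5,9,2,8]),(292,[]),(4546,[0,0,2,5,2,9,0,3])],[4,2,1,3,9,3]),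
  (1,[3,7,11,22,26,29],[(7682,[])],[0,4,2,2,4,2,2,2]),
  (11,[22,17,22,15,22,17,3,19,11,18],[(6106,[8,3,8,1,8,3]),(292,[]),(4282,[5,5,8,2,8]),(288,[]),(6826,[0,3,0,5,2,2,4,2]),(292,[])],[5,2,8,3,5,2,5,3]),
  (1,[3,7,16,18,26,17],[(7690,[]),(288,[])],[8,2,4,2,2,9,0]),
  (12,[14,22,16,15,17,18,17,3,19,11,18],[(6106,[0,8,2,1,3,4,3]),(293,[]),(288,[]),(6590,[2,4,3,4,3,5,3,5]),(2386,[1,5,3,8,2,5,3,5]),(288,[])],[2,5,8,2,5,9,3,3]),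
  (1,[3,29,7,10,26],[(7698,[]),(293,[])],[2,1,2,4,2,4,3,3]),
  (12,[16,16,22,17,19,17,18,3,19,11,18],[(6106,[2,2,8,3,5,3,4]),(292,[]),(7346,[5,5,2,2,8,3,9]),(288,[]),(3486,[3,4,2,8,2,1,4,2]),(292,[])],[0,3,3,4,3,0,2,5]),
  (1,[7,17,3,19,10,15],[(7706,[]),(293,[]),(288,[])],[0,4,2,2,8,1,3,5]),
  (13,[18,17,18,16,22,17,19,3,19,11,18],[(6106,[4,3,4,2,8,3,5]),(292,[]),(288,[]),(6842,[1,3,9,2,2,2]),(292,[]),(288,[]),(986,[5,8,1,2,5])],[0,3,3,4,2,8,3,0]),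
  (1,[3,7,10,19,29,11],[(7714,[]),(288,[])],[2,1,5,3,9,0,2]),
  (38,[14,19,19,22,17,17,3,19,11,18],[(6106,[0,5,5,8,3,3]),(293,[]),(6798,[5,2,5,9,2,2]),(1394,[2,9,0,2,2,2,5,3]),(293,[]),(288,[])],[4,2,1,3,4,3,3]),
  (1,[3,7,15,10],[(7722,[]),(288,[])],[2,5,2,2,8,3,8,1]),
  (39,[14,19,16,16,18,3,19,11,18],[(6106,[0,5,2,2,4]),(288,[]),(7414,[0,5,5,5,3,0,5]),(3322,[4,3,0,5,2,5])],[0,2,4,2,2,4,2,5]),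
  (1,[3,1,7,9,26,7],[(7730,[])],[0,0,3,5,3,3,5,2,2]),
  (4,[14,17,17,23,16,16,19,16,3,11,19,10,18,7],[(5422,[0,3,3,9,2,2,5,2]),(1242,[0,5,3,9,2]),(292,[]),(6290,[4,3,9,3,4,2,2]),(288,[])],[3,5,3,5,3,3,9,0]),
  (1,[3,18,27,28,3,23],[(7738,[]),(292,[]),(288,[])],[1,2,9,3,3,5,3]),
  (7,[16,16,19,16,22,15,17,17,3,11,19,10,18,7],[(5422,[2,2,5,2,8,1,3,3]),(293,[]),(3994,[0,0,3,3,4,3,5,2,2]),(292,[]),(1558,[0,0,4,3,4,3,8,3]),(293,[])],[0,2,2,9,3,3,8]),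
  (1,[3,11,29,27,3,11],[(7746,[]),(292,[])],[0,2,2,5,2,8,2,4,2]),
  (8,[14,22,17,17,22,17,14,3,11,19,10,18,7],[(5422,[0,8,3,3,8,3,0]),(293,[]),(654,[1,3,3,5,2,9,3]),(1018,[1,3,4,2,1,5,2]),(5737,[]),(248,[])],[0,4,2,2,2,9,2]),
  (1,[3,19,7,10],[(7754,[]),(293,[])],[0,4,2,2,4,2,9]),
  (9,[17,14,16,22,16,18,17,3,11,19,10,18,7],[(5422,[3,0,2,8,2,4,3]),(292,[]),(3402,[5,5,3,5,3,4,2]),(288,[]),(3926,[1,2,9,2,2,4,3,9])],[5,5,2,2,5,2,1,5]),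
  (1,[3,7,5,28,10],[(7762,[]),(293,[])],[0,0,9,2,2,4]),
  (10,[23,17,19,16,19,23,17,3,11,19,10,18,7],[(5422,[9,3,5,2,5,9,3]),(293,[]),(4294,[0,4,3,3,5,5,2,1]),(293,[]),(288,[]),(2126,[0,5,5,2,2,2,4])],[0,2,2,5,2,1]),
  (1,[3,19,27,18,3,5],[(7770,[])],[8,3,0,4,2,8,3]),
  (11,[14,22,17,17,19,17,22,16,3,11,19,10,18,7],[(5422,[0,8,3,3,5,3,8,2]),(293,[]),(288,[]),(4726,[2,1,5,2,5,3]),(288,[]),(7510,[5,3,0,5,3]),(292,[])],[2,5,5,2,2,4,3]),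
  (1,[3,1,7,17,32,11],[(7778,[]),(292,[])],[0,5,3,0,4,3,5,2]),
  (12,[14,14,23,16,23,16,16,19,3,11,19,10,18,7],[(5422,[0,0,9,2,9,2,2,5]),(292,[]),(288,[]),(1674,[3,5,9,2,9,3]),(292,[]),(288,[]),(3878,[3,0,5,3,8,2,4]),(292,[])],[2,2,4,3,4,3,8]),
  (1,[3,28,7,10,29],[(7786,[]),(293,[])],[4,2,2,5,2,8,3]),
  (12,[16,19,17,18,16,16,3,11,19,10,18,7],[(5422,[2,5,3,4,2,2]),(678,[8,3,4,2,9,3,4,3]),(6070,[2,2,5,9,0,3,5,3]),(292,[])],[1,3,5,3,5,9,2,5]),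
  (1,[3,19,7,16,7,29],[(7794,[]),(293,[]),(288,[])],[0,2,5,8,2,8,1]),
  (36,[17,19,22,17,14,18,3,11,19,10,18,7],[(5422,[3,5,8,3,0,4]),(292,[]),(288,[]),(5342,[0,5,5,9,2,2]),(292,[]),(288,[]),(5774,[3,5,3,5,9,0]),(293,[])],[2,2,2,5,3,4]),
  (1,[7,11,16,3,19],[(7802,[])],[0,0,2,5,3,0,2,4]),
  (37,[15,22,16,16,19,17,19,3,11,19,10,18,7],[(5422,[1,8,2,2,5,3,5]),(292,[]),(288,[]),(3882,[2,5,2,8,2,1,4]),(288,[]),(4526,[8,3,0,5,3,5,3,3])],[8,2,5,3,5,3,0]),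
  (1,[3,19,11,33,7,32],[(7810,[]),(293,[])],[1,1,5,2,2,2,4,2]),
  (39,[14,14,17,17,18,17,3,11,19,10,18,7],[(5422,[0,0,3,3,4,3]),(292,[]),(288,[]),(4654,[0,3,8,2,1,4]),(5878,[5,3,5,3,5,3,0,9])],[5,8,3,0,5,2,9]),
  (1,[3,10,13,18],[(7818,[])],[0,0,3,3,5,5]),
  (39,[14,18,16,22,15,17,18,17,3,11,19,10,18,7],[(5422,[0,4,2,8,1,3,4,3]),(293,[]),(288,[]),(378,[0,0,0,3,5,3,3]),(257,[]),(5737,[]),(257,[]),(1754,[0,4,3,3,5,3,5]),(288,[])],[1,3,5,2,2,5,2,8]),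
  (1,[3,7,16,23,11,23],[(7826,[]),(292,[]),(288,[])],[0,8,2,2,2,5,2,4]),
  (41,[22,17,17,22,17,19,3,11,19,10,18,7],[(5422,[8,3,3,8,3,5]),(292,[]),(288,[]),(4982,[1,1,3,3,5,3,4]),(293,[]),(288,[]),(5534,[0,3,8,1,3,4]),(293,[])],[8,1,2,4,2,1,4]),
  (1,[3,7,16,29,16,7,17],[(7834,[]),(292,[]),(288,[])],[4,2,5,2,2,4,2,5]),
  (2,[19,16,19,19,22,17,19,23,3,23,11,23,7],[(7522,[5,2,5,5,8,3,5,9]),(292,[]),(3770,[4,3,5,3,4,3,0]),(292,[]),(288,[]),(7378,[0,5,3,5,5,2,2,4]),(293,[]),(288,[])],[3,3,8,2,8]),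
  (1,[3,7,17,19,10,9],[(7842,[])],[2,5,8,3,4,2,2]),
  (2,[16,16,18,16,19,19,22,3,23,11,23,7],[(7522,[2,2,4,2,5,5,8]),(293,[]),(1874,[1,2,5,9]),(293,[]),(6798,[2,5,3,9,2,2])],[3,3,4,2,1,5,8]),
  (1,[3,19,16,19,3,1],[(7850,[])],[0,0,2,4,2,1]),
  (2,[22,16,18,17,18,17,23,3,23,11,23,7],[(7522,[8,2,4,3,4,3,9]),(292,[]),(538,[0,8,1,3,8]),(293,[]),(7798,[1,4,3,4,2,5,2,8,3]),(292,[])],[3,0,9,3]),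
  (1,[3,10,28,10,15,7],[(7858,[])],[1,2,2,9]),
  (2,[18,17,19,22,16,22,3,23,11,23,7],[(7522,[4,3,5,8,2,8]),(293,[]),(288,[]),(3554,[0,4,2,2,5,2,2,2]),(292,[]),(4602,[2,2,8,2,2,5,2,9]),(292,[]),(288,[])],[0,5,3,5,3,3,9]),
  (1,[3,1,7,26,19,10],[(7866,[]),(288,[])],[4,2,8,3,5,8]),
  (3,[14,14,17,18,17,23,16,3,23,11,23,7],[(7522,[0,0,3,4,3,9,2]),(2942,[3,5,9,2,5,9,0,3]),(293,[]),(288,[]),(2714,[0,3,5,2,2,2,9,0]),(293,[])],[3,0,5,2,8,2]),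
  (1,[3,18,26,28,3,18],[(7874,[]),(293,[])],[8,3,4,2,8,2,4]),
  (3,[16,19,16,19,16,16,16,3,23,11,23,7],[(7522,[2,5,2,5,2,2,2]),(292,[]),(5202,[0,2,1,2,4,3,3,4]),(292,[]),(288,[]),(2234,[2,8,3,4,3,9,2]),(293,[]),(288,[])],[9,2,5,2,5,8]),
  (1,[3,7,16,28,16,7],[(7882,[])],[2,5,9,0,3,4,3]),
  (7,[16,16,18,17,19,16,15,18,3,23,11,23,7],[(7522,[2,2,4,3,5,2,1,4]),(288,[]),(1306,[2,2,9,2,4,2,4,3]),(1478,[3,8,1,2,5]),(293,[])],[0,5,3,0,2,4,2,9]),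
  (1,[3,11,29,7,27,11],[(7890,[]),(292,[]),(288,[])],[1,2,4,2,2,2,5,2]),
  (8,[16,19,16,16,18,17,3,23,11,23,7],[(7522,[2,5,2,2,4,3]),(292,[]),(288,[]),(4698,[3,3,4,2,1]),(292,[]),(6234,[0,2,4,2,1,4,2,5]),(293,[]),(288,[])],[1,4,2,2,8]),
  (1,[3,28,11,14,7],[(7898,[]),(293,[]),(288,[])],[0,2,8,2,4,3,0,2]),
  (8,[17,17,18,17,19,16,22,3,23,11,23,7],[(7522,[3,3,4,3,5,2,8]),(293,[]),(5458,[2,2,5,3,4,3,9]),(293,[]),(1574,[2,2,9,2,2,8])],[0,4,3,3,4,3,0,5]),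
  (1,[3,28,17,17,11],[(7906,[]),(293,[])],[9,3,3,8,3,0,5]),
  (9,[14,16,16,16,22,16,23,3,23,11,23,7],[(7522,[0,2,2,2,8,2,9]),(292,[]),(5582,[4,2,4,3,3,5,8,2]),(3354,[8,3,0,4,2,5,2,2])],[0,0,3,8,2,5]),
  (1,[3,7,11,23,26,18,11],[(7914,[]),(293,[]),(288,[])],[2,5,2,5,2,1]),
  (11,[16,19,19,22,16,19,23,3,23,11,23,7],[(7522,[2,5,5,8,2,5,9]),(292,[]),(1454,[0,2,5,9,2,5,8]),(3934,[0,3,3,5,5,2,5,2,9]),(292,[]),(288,[])],[0,5,3,5,3,9,0]),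
  (1,[3,7,26,29,27,11],[(7922,[]),(288,[])],[4,2,2,4,2,5,2]),
  (11,[14,17,19,16,18,17,3,23,11,23,7],[(7522,[0,3,5,2,4,3]),(3942,[3,5,2,1,5,2,9]),(293,[]),(288,[]),(7050,[4,3,9,3,3,8,3]),(293,[]),(288,[])],[3,3,5,3,9,2,1,4]),
  (1,[3,1,7,33,11,15],[(7930,[])],[1,8,3,4,3,5,5]),
  (11,[15,19,16,16,19,17,17,3,23,11,23,7],[(7522,[1,5,2,2,5,3,3]),(3214,[4,2,2,4,2,1,2]),(1306,[0,0,5,2,2,2,5,9]),(292,[]),(288,[])],[2,4,2,2,2,5,2,5]),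
  (1,[3,7,5,17,7],[(7938,[]),(288,[])],[8,3,5,3,3,4,2]),
  (14,[14,19,17,17,19,22,16,15,3,23,11,23,7],[(7522,[0,5,3,3,5,8,2,1]),(293,[]),(288,[]),(5510,[2,4,2,5,2,8,2,4]),(288,[])],[5,3,5,3,0,4]),
  (1,[3,7,17,28,11,16],[(7946,[])],[5,2,1,5,3,5,2,8]),
  (36,[14,23,16,18,16,16,16,19,3,23,11,23,7],[(7522,[0,9,2,4,2,2,2,5]),(288,[]),(1362,[0,3,0,4,3,5,3,9]),(293,[]),(288,[]),(1802,[4,2,4,3,3,5,9]),(292,[]),(288,[])],[0,2,2,8,2,5,2,5]),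
  (1,[3,7,15,28,10,16],[(7954,[])],[0,2,9,3,3,8,2,4]),
  (38,[18,17,22,15,16,19,16,3,23,11,23,7],[(7522,[4,3,8,1,2,5,2]),(293,[]),(7542,[0,3,3,5,8,2,4,3]),(293,[]),(288,[]),(7490,[3,5,3,8,2,5]),(292,[])],[3,4,2,1,8,3,3])]
theorem hD13 : allD2 lk B KW SW F A RL [] D13 1848 = true := by decide +kernel
def D14 : List (ℕ × Word × List (ℕ × Word) × Word) := [(1,[3,1,7,27,7,22],[(7962,[]),(293,[])],[1,3,8,2,2,4,2,2,9]),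
  (39,[15,17,19,23,17,19,17,3,23,11,23,7],[(7522,[1,3,5,9,3,5,3]),(3990,[3,5,3,8,2,8,1]),(293,[]),(288,[]),(7674,[0,5,5,9,2])],[0,2,5,9,3,5,3,4]),
  (1,[3,7,18,11,22],[(7970,[])],[4,2,4,3,0,4]),
  (41,[14,18,16,19,17,23,16,19,3,23,11,23,7],[(7522,[0,4,2,5,3,9,2,5]),(292,[]),(288,[]),(5562,[0,4,3,3,4]),(288,[]),(3018,[3,0,5,3,8]),(288,[])],[0,9,0,3,5,3,4]),
  (1,[3,7,10,29,17,10],[(7978,[])],[0,5,2,2,5,3,0,5]),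
  (6,[22,17,14,19,16,16,18,3,7,16,18,3,17],[(6790,[8,3,0,5,2,2,4]),(292,[]),(3422,[2,4,2,1,3,5,3,8]),(6002,[9,2,5,8,2,1,2])],[1,3,4,2,8,2,4,2]),
  (1,[3,11,29,17,29],[(7986,[]),(292,[]),(288,[])],[2,5,9,2,4]),
  (6,[19,17,22,17,17,3,7,16,18,3,17],[(6790,[5,3,8,3,3]),(292,[]),(5938,[0,0,5,2,8,2,5]),(4842,[0,0,3,3,5,9,2,9])],[0,5,2,2,2,4,3,4]),
  (1,[3,7,15,11],[(7994,[])],[3,5,2,2,5,8,3,0]),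
  (8,[14,16,22,17,18,17,19,3,7,16,18,3,17],[(6790,[0,2,8,3,4,3,5]),(3426,[3,0,5,2,2,5,2,5]),(293,[]),(6274,[0,3,4,3,8,2,4]),(288,[])],[0,3,5,3,4,2,4]),
  (1,[3,7,9,26,19,11],[(8002,[]),(292,[])],[3,9,0,2,5,2,5,2]),
  (9,[16,19,19,19,16,16,16,22,3,7,16,18,3,17],[(6790,[2,5,5,5,2,2,2,8]),(292,[]),(3902,[0,8,2,1,4,3,5,9]),(4538,[8,1,8,2,5,3]),(292,[]),(288,[])],[2,8,3,5,5,8,2]),
  (1,[3,29,3,11,11],[(8010,[]),(292,[])],[3,5,9,0,2,5]),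
  (11,[14,14,23,17,17,23,3,7,16,18,3,17],[(6790,[0,0,9,3,3,9]),(293,[]),(6754,[3,3,9,3,8]),(292,[]),(288,[]),(1662,[2,8,2,5,2,8])],[2,1,4,3,5,5,8]),
  (1,[3,7,11,29,16,11],[(8018,[]),(293,[])],[0,5,3,4,2,2,5,3]),
  (36,[18,17,18,16,22,17,22,16,3,7,16,18,3,17],[(6790,[4,3,4,2,8,3,8,2]),(292,[]),(7822,[5,2,8,1,2,5,2,2]),(3530,[2,5,3,9,2,4,2,4])],[2,4,3,9,2,4,3,5]),
  (1,[3,7,27,19,28,26],[(8026,[]),(288,[])],[0,0,2,9,2,2,5,3]),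
  (37,[16,16,19,17,17,23,16,22,3,7,16,18,3,17],[(6790,[2,2,5,3,3,9,2,8]),(292,[]),(3834,[0,5,5,2,2,2,9]),(293,[]),(3394,[4,3,5,2,8,2,2]),(288,[])],[0,0,2,5,9,0,3]),
  (1,[3,23,26,7,26],[(8034,[]),(293,[])],[0,9,2,5,8,2,8,3]),
  (37,[15,17,18,17,22,15,16,16,3,7,16,18,3,17],[(6790,[1,3,4,3,8,1,2,2]),(293,[]),(7262,[4,2,4,2,5,2,8]),(292,[]),(288,[]),(1310,[0,8,2,4,2,8,3,5]),(288,[])],[2,2,4,2,1,3,9]),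
  (37,[23,17,19,16,23,17,19,3,7,16,18,3,17],[(6790,[9,3,5,2,9,3,5]),(292,[]),(5434,[0,5,2,8,3,8,2,5]),(293,[]),(288,[]),(5518,[0,5,3,5,8,1,2]),(292,[])],[0,0,5,2,9,0,3,3]),
  (1,[3,10,28,27,23,3],[(8046,[])],[0,5,3,5,3,5,5,3]),
  (39,[17,22,17,17,22,17,23,3,7,16,18,3,17],[(6790,[3,8,3,3,8,3,9]),(293,[]),(288,[]),(5534,[3,4,3,4,3,3,5]),(293,[]),(288,[]),(5466,[0,3,5,2,2,2,9,2])],[8,2,1,4,3,9]),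
  (1,[3,7,26,19,11,9],[(8054,[])],[1,2,5]),
  (39,[15,17,17,19,23,16,16,16,3,7,16,18,3,17],[(6790,[1,3,3,5,9,2,2,2]),(293,[]),(288,[]),(5198,[5,2,5,5,8,2,8]),(293,[]),(288,[]),(3390,[5,9,3,3,4,3,8]),(293,[])],[0,9,2,8,1,3,9]),
  (1,[3,1,29,3,10,26,19],[(8062,[])],[0,0,9,3,5,8,2,4]),
  (39,[15,18,16,16,19,3,7,16,18,3,17],[(6790,[1,4,2,2,5]),(5206,[0,5,3,3,5,3,0]),(293,[]),(288,[]),(7642,[2,5,5,3,3,5]),(293,[])],[3,4,3,5,3,3,9]),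
  (1,[3,23,10,28,7,27],[(8070,[])],[0,8,2,5,5,5,2,2]),
  (40,[14,17,17,19,16,18,16,15,3,7,16,18,3,17],[(6790,[0,3,3,5,2,4,2,1]),(292,[]),(3278,[1,2,5,3,5,3,4]),(293,[]),(4170,[3,3,4,3,9,2,1])],[1,3,5,8,3,3,5]),
  (1,[3,7,5,10,10],[(8078,[]),(288,[])],[1,3,5,9,2,5,8,2]),
  (41,[22,16,15,18,17,14,19,3,7,16,18,3,17],[(6790,[8,2,1,4,3,0,5]),(293,[]),(288,[]),(778,[0,9,2,5,2,5,9,3]),(3710,[3,3,5,2,9,3,4]),(292,[])],[1,4,2,4,2,4,2,1]),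
  (1,[3,7,10,18,9,10],[(8086,[]),(292,[])],[1,2,5,2,2,5,3,4]),
  (41,[14,19,16,16,19,17,18,3,7,16,18,3,17],[(6790,[0,5,2,2,5,3,4]),(292,[]),(4166,[3,5,3,5,3]),(4174,[8,2,1,5,3,9,3,4]),(288,[])],[3,5,2,2,5,2,8]),
  (1,[3,7,5,16,28,26,11],[(8094,[]),(288,[])],[0,3,4,3,5,2,2]),
  (43,[14,16,18,16,19,16,22,3,7,16,18,3,17],[(6790,[0,2,4,2,5,2,8]),(293,[]),(1886,[3,8,2,5,2,1,8]),(288,[]),(5470,[0,4,3,9,3,5,8]),(292,[]),(288,[])],[0,5,3,3,8,3,5]),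
  (1,[3,10,22,11,12],[(8102,[])],[2,2,5,2,4,2,5,8]),
  (2,[14,14,19,16,16,19,17,17,3,10,22,7,11,19],[(2714,[0,0,5,2,2,5,3,3]),(5854,[1,3,9]),(3654,[3,4,2,9,3,4,2]),(292,[]),(288,[])],[0,2,2,5,5,2]),
  (1,[3,7,27,19,11,9],[(8110,[])],[1,5,2,4,2,8,3]),
  (3,[14,16,16,19,19,19,3,10,22,7,11,19],[(2714,[0,2,2,5,5,5]),(2750,[4,2,4,3,5,3,0]),(5550,[3,9,3,3,5,3,9])],[2,8,2,1,5,3,5,9]),
  (1,[7,17,7,11,27],[(8118,[])],[5,8,2,1,8,3,5]),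
  (8,[14,17,18,17,17,19,19,19,3,10,22,7,11,19],[(2714,[0,3,4,3,3,5,5,5]),(293,[]),(288,[]),(4274,[2,2,5,3,3,5,3,8]),(5610,[2,8,3,0,4])],[1,4,2,2,2,4]),
  (1,[3,7,5,11,26,18],[(8126,[]),(292,[])],[2,1,5,2,4,3]),
  (9,[15,18,17,23,16,15,19,3,10,22,7,11,19],[(2714,[1,4,3,9,2,1,5]),(1918,[3,4,2,9,3,4,2,5]),(288,[]),(2514,[5,8,1,3,4,3,3]),(293,[])],[5,3,3,5,2,8]),
  (1,[7,11,26,3,19],[(8134,[]),(292,[])],[8,2,1,3,5,2,2]),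
  (9,[16,19,23,16,19,17,3,10,22,7,11,19],[(2714,[2,5,9,2,5,3]),(5854,[0,4,3,0]),(292,[]),(288,[]),(1834,[0,2,2,2,4,3,4,3]),(288,[])],[2,8,3,4]),
  (1,[3,7,17,29,16,16],[(8142,[])],[0,8,3,4,2,9,3,5]),
  (9,[16,19,22,16,22,17,3,10,22,7,11,19],[(2714,[2,5,8,2,8,3]),(2038,[4,2,8,3,5,3,5]),(292,[]),(288,[]),(2626,[3,3,5,5,3,3,5])],[0,3,8,2,2,8,2,8]),
  (1,[3,11,29,3,27,29],[(8150,[]),(288,[])],[3,5,2,8,1,3,5]),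
  (9,[16,22,16,16,22,16,22,16,3,10,22,7,11,19],[(2714,[2,8,2,2,8,2,8,2]),(293,[]),(6534,[8,2,1,4,3,3,4,2]),(292,[]),(288,[]),(8022,[1,8,3,5,3,0,4,3]),(293,[])],[1,5,3,4,2,2,2,5]),
  (1,[3,7,27,19,10,15],[(8158,[]),(292,[])],[4,2,2,5,8,1,2]),
  (11,[22,15,16,18,16,22,3,10,22,7,11,19],[(2714,[8,1,2,4,2,8]),(288,[]),(7826,[0,3,5,9,0,2,2]),(293,[]),(288,[]),(6554,[2,9,2,4,2,2,2]),(293,[])],[2,5,2,5,9,0,3,4]),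
  (1,[3,1,28,26,3],[(8166,[]),(292,[]),(288,[])],[2,5,2,5,8,2,1,8]),
  (13,[14,22,16,15,19,16,16,16,3,10,22,7,11,19],[(2714,[0,8,2,1,5,2,2,2]),(293,[]),(3546,[0,5,8,3,4,3,0,9]),(5462,[5,3,3,5,2,1,4]),(293,[])],[0,2,5,8,3,3,5,3]),
  (1,[3,1,23,3,11,13],[(8174,[])],[8,2,1,2,5,2,4]),
  (37,[18,17,22,16,18,17,23,17,3,10,22,7,11,19],[(2714,[4,3,8,2,4,3,9,3]),(288,[]),(3894,[2,2,4,2,2,4,2,9]),(7358,[0,2,4,3,3,9,2,2]),(293,[]),(288,[])],[0,8,3,3,5,3,8,2]),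
  (1,[3,28,7,11,11],[(8182,[])],[3,9,3,5,2,5,2,2]),
  (38,[18,17,19,16,23,3,10,22,7,11,19],[(2714,[4,3,5,2,9]),(4498,[0,2,1,3,4,3]),(292,[]),(4682,[0,8,2,5,2,8]),(288,[])],[8,3,4,2,8,2,9]),
  (1,[3,10,19,7,10,15],[(8190,[]),(288,[])],[2,5,2,2,2,9]),
  (2,[23,16,18,16,15,19,3,11,19,27,27,7],[(1758,[9,2,4,2,1,5]),(256,[]),(248,[]),(5736,[]),(934,[3,0,4,2,5,2,5,9]),(292,[]),(4202,[1,3,4,3,8,2,2])],[0,2,5,5,2,1,4,3]),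
  (1,[3,11,22,26,7,16],[(8198,[])],[1,2,2,4,2,9,0,2]),
  (2,[15,19,16,18,16,23,3,11,19,27,27,7],[(1758,[1,5,2,4,2,9]),(5736,[]),(265,[]),(252,[]),(1518,[3,9,2,4,3,8,1]),(293,[]),(8202,[1,8,2,4,2,4,3,3]),(292,[]),(288,[])],[5,5,2,5,2,1,5,3]),
  (1,[3,11,11,28,11],[(8206,[]),(292,[]),(288,[])],[2,1,2,4,3,3,5,2]),
  (3,[15,18,17,19,19,22,16,3,11,19,27,27,7],[(1758,[1,4,3,5,5,8,2]),(249,[]),(5736,[]),(264,[]),(382,[2,4,3,9,2]),(293,[]),(288,[]),(5582,[0,0,4,3,8,2,5]),(293,[])],[2,4,3,3,5,9,3,8]),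
  (1,[3,28,3,27,10],[(8214,[])],[3,5,5,3,5,3,3,8]),
  (3,[14,19,16,22,17,19,16,19,3,11,19,27,27,7],[(1758,[0,5,2,8,3,5,2,5]),(252,[]),(265,[]),(5737,[]),(414,[5,8,3,5,2,9]),(288,[]),(2630,[2,1,5,2,2,5,3])],[0,9,3,4,3,5,2,8]),
  (1,[3,19,11,22,3,1],[(8222,[]),(288,[])],[1,1,3,3]),
  (3,[23,17,17,18,16,18,3,11,19,27,27,7],[(1758,[9,3,3,4,2,4]),(252,[]),(265,[]),(249,[]),(1518,[5,2,1,3,4,3,8]),(5918,[4,2,2,5,2,5,8])],[9,3,3,4,2,4]),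
  (1,[3,19,27,7],[(8230,[]),(293,[])],[1,2,2,9,3,4]),
  (3,[14,14,16,19,16,15,18,3,11,19,27,27,7],[(1758,[0,0,2,5,2,1,4]),(256,[]),(248,[]),(5736,[]),(934,[0,3,0,4,2,5,2,8]),(293,[]),(288,[]),(4602,[1,5,3,5,2,2,8,3]),(293,[])],[1,3,4,3,0,5]),
  (1,[3,7,17,10,19,11],[(8238,[])],[3,5,2,4,2,5,9]),
  (8,[23,17,19,17,14,19,17,3,11,19,27,27,7],[(1758,[9,3,5,3,0,5,3]),(257,[]),(265,[]),(256,[]),(249,[]),(926,[2,5,5,3,3,4]),(293,[]),(288,[]),(7822,[4,3,4,2,9,3])],[2,9,2,2,2,4,2]),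
  (8,[23,16,16,22,3,11,19,27,27,7],[(1758,[9,2,2,8]),(5737,[]),(257,[]),(265,[]),(248,[]),(4926,[8,2,5,8,2,5]),(293,[]),(7266,[1,5,3,9,3,5,2,9])],[5,5,3,5,3,0,5]),
  (1,[3,1,19,7,11],[(8250,[]),(293,[]),(288,[])],[1,3,3,4,2,5,2,5]),
  (11,[16,19,16,16,18,17,18,3,11,19,27,27,7],[(1758,[2,5,2,2,4,3,4]),(5737,[]),(265,[]),(257,[]),(248,[]),(1014,[5,2,2,2,8,1,8]),(293,[]),(288,[]),(4666,[0,0,2,5,3,4,3,9])],[0,2,1,5,2,4,2,8]),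
  (1,[3,7,29,17,32,16],[(8258,[])],[2,5,2,5,9,2,1]),
  (11,[19,19,16,18,16,15,17,3,11,19,27,27,7],[(1758,[5,5,2,4,2,1,3]),(256,[]),(248,[]),(5737,[]),(1006,[2,9,2,9,3,5,3]),(292,[]),(288,[]),(8134,[0,3,8,2,2]),(293,[]),(288,[])],[0,2,2,8,2,1,4]),
  (1,[3,23,17,7,26,18],[(8266,[]),(288,[])],[1,5,3,5,9,3,5,3]),
  (12,[14,16,18,17,17,18,17,18,3,11,19,27,27,7],[(1758,[0,2,4,3,3,4,3,4]),(264,[]),(252,[]),(265,[]),(256,[]),(1346,[3,0,5,2,5,2,5,8]),(292,[]),(288,[]),(6462,[0,9,3,3,4,3]),(292,[]),(288,[])],[2,5,3,0,2,4,2,9]),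
  (1,[3,7,17,32,10,27,3],[(8274,[])],[9,3,5,3,0,4,2,4]),
  (17,[17,14,19,23,17,18,3,11,19,27,27,7],[(1758,[3,0,5,9,3,4]),(252,[]),(5736,[]),(264,[]),(257,[]),(1518,[2,8,3,5,9,0,2,4])],[4,3,4,3,3,5,5,5]),
  (1,[7,27,3,18,10],[(8282,[])],[5,2,1,4,2,5,2]),
  (36,[14,17,19,17,14,16,18,16,3,11,19,27,27,7],[(1758,[0,3,5,3,0,2,4,2]),(257,[]),(252,[]),(5737,[]),(248,[]),(1346,[9,3,3,4,2,4,2]),(292,[]),(288,[]),(3654,[1,4,3,4,3,8,2,5])],[4,2,2,2,5,5]),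
  (1,[3,19,7,10,29,27],[(8290,[])],[2,2,8,1,3,3,4,3]),
  (38,[14,16,18,16,19,19,16,23,3,11,19,27,27,7],[(1758,[0,2,4,2,5,5,2,9]),(264,[]),(5736,[]),(257,[]),(406,[4,3,3,5,2,4]),(293,[]),(288,[]),(2422,[0,2,5,8,3,5,3,8]),(160,[]),(112,[]),(137,[])],[2,1,3,9,3,5,3,3]),
  (1,[3,7,11,14,16,7],[(8298,[]),(292,[]),(288,[])],[0,9,3,4,3,5,3,0]),
  (38,[18,16,16,19,16,22,15,3,11,19,27,27,7],[(1758,[4,2,2,5,2,8,1]),(256,[]),(5737,[]),(252,[]),(248,[]),(2498,[0,3,5,3,8,1,2]),(2690,[0,9,2,4,2,2,9]),(288,[])],[2,5,2,8,2,4,3,9]),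
  (1,[3,19,11,19,3,16],[(8306,[])],[0,2,2,2,5,3,3,9]),
  (39,[14,17,17,19,22,15,17,17,3,11,19,27,27,7],[(1758,[0,3,3,5,8,1,3,3]),(265,[]),(5736,[]),(257,[]),(1346,[0,8,2,2,9,3,4]),(292,[]),(3738,[0,2,4,3,3,4,3]),(288,[])],[1,2,2,5,3,5,3,0]),
  (1,[7,17,3,18],[(8314,[])],[0,2,2,2,5,2,2,9]),
  (3,[19,17,23,16,19,16,18,7,11,16,7,27],[(2706,[5,3,9,2,5,2,4]),(5854,[3,5,3,0,4,2,5,2]),(292,[]),(7318,[3,4,3,4,2,5]),(264,[]),(256,[]),(5736,[]),(252,[]),(248,[])],[1,2,2,4,3,3,9]),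
  (1,[3,19,11,9],[(8322,[]),(292,[]),(288,[])],[2,9,3,5,3,4,3]),
  (4,[15,19,16,16,16,22,16,16,16,7,11,16,7,27],[(2706,[1,5,2,2,2,8,2,2,2]),(293,[]),(288,[]),(5898,[8,1,2,5,2]),(1994,[3,3,5,8,3,8]),(292,[])],[1,3,4,2,5,9,0]),
  (1,[3,11,23,11,29,3],[(8330,[]),(293,[]),(288,[])],[5,5,2,1,3,4]),
  (11,[19,19,17,14,19,17,7,11,16,7,27],[(2706,[5,5,3,0,5,3]),(292,[]),(288,[]),(3370,[2,9,0,2,5,2,5,3]),(5710,[0,9,3,3,4,3,0]),(292,[]),(288,[])],[0,0,3,3,5,3,9,3]),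
  (1,[3,11,29,16,3,11],[(8338,[]),(293,[])],[0,3,8,2,1,4,2,2]),
  (11,[14,19,17,17,19,22,17,7,11,16,7,27],[(2706,[0,5,3,3,5,8,3]),(7382,[1,5,2,4,2,5,8]),(292,[]),(288,[]),(4770,[9,0,2,4,2,2,4]),(293,[])],[1,5,3,5,9]),
  (1,[3,18,29,11,18,7],[(8346,[]),(292,[]),(288,[])],[2,8,1,3,5,3,5]),
  (37,[14,17,19,17,23,17,17,23,7,11,16,7,27],[(2706,[0,3,5,3,9,3,3,9]),(2750,[2,5,8,2,5,2,8]),(1658,[2,1,5,3,8,1,3]),(293,[])],[2,5,3,3,5,3,4]),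
  (1,[3,11,13,29,26],[(8354,[]),(293,[])],[0,2,2,5,2,2,8,1]),
  (37,[16,16,23,14,17,17,19,7,11,16,7,27],[(2706,[2,2,9,0,3,3,5]),(7638,[5,2,2,5,2,8,1]),(292,[]),(3438,[0,2,2,5,9,2,2,8,3]),(293,[])],[0,4,3,4,3,5,2,9]),
  (1,[3,19,16,18,3,23],[(8362,[]),(288,[])],[0,4,3,5,8,3]),
  (40,[16,18,16,23,17,7,11,16,7,27],[(2706,[2,4,2,9,3]),(6478,[5,8,2,5,5,9,3,4]),(293,[]),(288,[]),(7582,[0,2,2,5,2,5,2,9]),(288,[])],[2,5,8,2,2,4,3,4]),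
  (1,[3,29,7,26,7],[(8370,[]),(292,[])],[3,4,2,4,2,9,3]),
  (42,[14,17,19,19,19,16,22,7,11,16,7,27],[(2706,[0,3,5,5,5,2,8]),(1918,[5,3,0,2,8,2,2]),(292,[]),(4202,[2,4,2,5,5,5,2,9])],[3,3,5,3,5,3,5]),
  (1,[3,19,11,9,7],[(8378,[]),(292,[])],[1,2,2,2,5,3,3,5]),
  (8,[18,16,19,22,17,18,16,22,3,19,10,18],[(5146,[4,2,5,8,3,4,2,8]),(293,[]),(3274,[2,4,2,5,8,2,5]),(3090,[3,3,5,2,5,2,4]),(292,[]),(288,[])],[5,3,4,3,8,1,3,3]),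
  (1,[3,7,18,11,15,10],[(8386,[]),(292,[]),(288,[])],[0,2,5,5,3,3,5,3]),
  (8,[14,18,16,15,22,16,3,19,10,18],[(5146,[0,4,2,1,8,2]),(292,[]),(288,[]),(3062,[0,2,1,3,5,9]),(293,[]),(288,[]),(5538,[1,3,4,2,5,8,2,5]),(292,[])],[4,2,2,8,2,1,5,2]),
  (1,[3,11,19,10,18,3],[(8394,[]),(292,[])],[0,3,0,4,3,3,8]),
  (9,[22,16,15,22,16,3,19,10,18],[(5146,[8,2,1,8,2]),(292,[]),(6366,[0,8,1,3,8,1]),(293,[]),(288,[]),(4294,[3,3,8,3,0,5,3]),(292,[]),(288,[])],[8,3,5,8,2,4,3]),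
  (1,[3,1,7,33,11,11],[(8402,[])],[3,5,9,3,4,3,5,9]),
  (9,[14,16,16,18,16,19,19,22,3,19,10,18],[(5146,[0,2,2,4,2,5,5,8]),(293,[]),(6830,[2,5,3,3,4,3,4]),(4130,[9,2,4,2,2,8,1]),(293,[]),(288,[])],[2,4,2,1,3,9,3,3]),
  (1,[3,1,7,27,22,7,11],[(8410,[])],[2,1,3,4,3,8]),
  (12,[14,16,16,19,23,16,16,22,17,3,19,10,18],[(5146,[0,2,2,5,9,2,2,8,3]),(4426,[0,8,2,2,2,4,3,9]),(1810,[0,0,5,2,2,2,5,9,3]),(293,[]),(288,[])],[5,5,8,2,5,9]),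
  (12,[16,23,17,19,17,14,18,17,3,19,10,18],[(5146,[2,9,3,5,3,0,4,3]),(4862,[3,3,5,5,5,3,4,3]),(1218,[0,4,2,1,8,3,3]),(292,[]),(288,[])],[2,5,2,4,2,8,2]),
  (1,[3,7,9,11,32,11,13],[(8422,[]),(293,[])],[0,5,3,8,2,8]),
  (17,[16,19,19,16,22,17,17,3,19,10,18],[(5146,[2,5,5,2,8,3,3]),(5898,[4,2,5,3]),(293,[]),(288,[])],[0,3,4,3,8,3]),
  (1,[3,7,11,28,10],[(8430,[]),(288,[])],[1,1,2,5,3,4,2]),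
  (36,[17,17,22,16,16,16,22,3,19,10,18],[(5146,[3,3,8,2,2,2,8]),(1938,[8,3,0,2,4,3,3]),(292,[]),(288,[]),(3058,[5,3,8]),(293,[])],[0,5,2,2,2]),
  (1,[3,11,19,11,19,7],[(8438,[]),(292,[])],[0,3,0,4,3,8,2,5]),
  (36,[19,19,17,14,19,16,23,3,19,10,18],[(5146,[5,5,3,0,5,2,9]),(292,[]),(8254,[4,3,3,4,2,1,2]),(4342,[1,4,3,0,4,2,2,2])],[5,9,2,9,3,5,2]),
  (1,[3,7,17,33,11,12],[(8446,[]),(288,[])],[2,9,0,2,4]),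
  (37,[19,16,18,16,15,17,19,23,3,19,10,18],[(5146,[5,2,4,2,1,3,5,9]),(4702,[3,5,2,2,5,2,5]),(4958,[0,8,2,4,2,2,5,2]),(293,[]),(288,[])],[1,8,3,5,2,2,4,2]),
  (1,[3,1,29,3,11,26,19],[(8454,[])],[0,9,2,2,5,3,8,1]),
  (38,[14,16,19,22,17,17,18,16,3,19,10,18],[(5146,[0,2,5,8,3,3,4,2]),(292,[]),(7030,[1,3,5,2,1,4]),(288,[]),(942,[0,5,9,2,8,1,3]),(293,[])],[1,3,0,5,3,5,2]),
  (1,[3,11,29,7,17,10],[(8462,[])],[0,5,3,3,4,3,9,0]),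
  (38,[19,17,17,18,17,23,17,18,3,19,10,18],[(5146,[5,3,3,4,3,9,3,4]),(293,[]),(288,[]),(3634,[0,5,8,3,4,3,3,4]),(292,[]),(288,[]),(4102,[2,2,9,3,3,5]),(292,[]),(288,[])],[5,3,8,2,1,2,4]),
  (1,[3,18,26,29,3,18],[(8470,[])],[0,2,4,3,0,5,2,4]),
  (2,[14,14,16,18,16,15,17,18,3,10,23,11,23,7],[(7950,[0,0,2,4,2,1,3,4]),(288,[]),(3162,[2,8,3,0,9]),(292,[]),(4934,[2,2,9,0,2]),(292,[])],[3,5,3,4,3,8,2,5]),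
  (1,[3,7,33,27,29,7],[(8478,[]),(292,[])],[0,5,3,3,8,2,2,2]),
  (2,[17,22,15,16,16,18,16,23,3,10,23,11,23,7],[(7950,[3,8,1,2,2,4,2,9]),(292,[]),(288,[]),(4294,[5,3,5,3,0,5,9]),(293,[]),(7506,[0,2,2,9,0,2,2,2])],[3,8,1,2,4,2,2]),
  (1,[3,19,16,7,23],[(8486,[]),(293,[])],[0,5,3,3,4,3,0,2]),
  (8,[14,16,18,16,16,19,22,3,10,23,11,23,7],[(7950,[0,2,4,2,2,5,8]),(293,[]),(288,[]),(6098,[8,1,3,5,3,0]),(7202,[0,0,4,2,1,5,2,2]),(293,[]),(288,[])],[0,4,2,4,2,5,9]),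
  (1,[3,29,3,26,11,26],[(8494,[]),(288,[])],[8,3,5,3,3,9]),
  (8,[15,17,23,16,23,16,3,10,23,11,23,7],[(7950,[1,3,9,2,9,2]),(293,[]),(288,[]),(8450,[0,3,9,2,4,2,8]),(292,[]),(288,[]),(6138,[1,5,2,9,3,4,2]),(293,[]),(288,[])],[1,5,2,2,9,2,2,4]),
  (1,[3,19,11,15,7,33],[(8502,[]),(288,[])],[2,2,2,8,3,5]),
  (9,[17,22,16,19,16,15,19,3,10,23,11,23,7],[(7950,[3,8,2,5,2,1,5]),(292,[]),(7774,[5,3,8,3,0,5,3]),(293,[]),(288,[]),(4902,[3,5,2,2,2,9,0]),(293,[])],[5,2,8,1,8]),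
  (1,[3,1,23,10,18,3,5],[(8510,[])],[2,4,2,4]),
  (9,[14,23,16,16,22,16,18,3,10,23,11,23,7],[(7950,[0,9,2,2,8,2,4]),(1322,[3,4,2,5,3,0,5]),(288,[]),(1514,[0,4,2,1,5,8,2]),(292,[]),(288,[])],[1,3,0,5,2,9,3,5]),
  (1,[3,29,3,16,19,3],[(8518,[]),(293,[]),(288,[])],[0,5,8,2,2,4,2]),
  (11,[16,18,16,19,17,22,15,16,3,10,23,11,23,7],[(7950,[2,4,2,5,3,8,1,2]),(288,[]),(3938,[4,2,4,2,5,8,3,0]),(292,[]),(288,[]),(7206,[2,2,2,8,3,3,9]),(293,[]),(288,[])],[0,5,3,4,3,5,5])]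
theorem hD14 : allD2 lk B KW SW F A RL [] D14 1991 = true := by decide +kernel
def D15 : List (ℕ × Word × List (ℕ × Word) × Word) := [(1,[3,1,7,15,11],[(8526,[]),(292,[])],[3,9,2,5,3,9,2,4]),
  (11,[14,16,16,19,17,23,16,19,3,10,23,11,23,7],[(7950,[0,2,2,5,3,9,2,5]),(293,[]),(1322,[3,0,5,2,1,4]),(5178,[1,3,5,3,5,3,3]),(292,[])],[0,2,4,3,8,2,2]),
  (1,[3,7,5,27,19,11],[(8534,[]),(292,[]),(288,[])],[0,2,5,3,3,8,3,8]),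
  (36,[14,19,19,17,18,17,18,3,10,23,11,23,7],[(7950,[0,5,5,3,4,3,4]),(3762,[8,1,3,4,3,0,2]),(293,[]),(510,[1,3,5,3,3,9,0]),(292,[]),(288,[])],[3,3,4,2,8,2,5,8]),
  (1,[3,23,17,7,29,10],[(8542,[]),(292,[])],[4,3,9,2]),
  (38,[15,19,16,18,16,19,16,23,3,10,23,11,23,7],[(7950,[1,5,2,4,2,5,2,9]),(293,[]),(288,[]),(6286,[2,2,5,3,4,3,4]),(292,[]),(288,[]),(1514,[0,4,3,0,5,3,3,5]),(293,[]),(288,[])],[9,2,4,3,3]),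
  (1,[3,7,17,7,33,10],[(8550,[])],[3,0,5,2,8,3,3,8]),
  (38,[16,23,17,19,16,16,3,10,23,11,23,7],[(7950,[2,9,3,5,2,2]),(293,[]),(7738,[0,4,2,2,2,5,5]),(292,[]),(288,[]),(8222,[0,2,2,5,8,1,3]),(288,[])],[3,3,8,3,0,5]),
  (1,[3,1,7,10,17,18],[(8558,[]),(288,[])],[3,8,1,2,4,2,1,4]),
  (3,[14,16,22,15,16,18,16,18,3,7,16,19,16,16],[(3490,[0,2,8,1,2,4,2,4]),(292,[]),(5310,[5,3,5,9,3,8]),(293,[]),(288,[]),(4622,[3,3,8,3,5,3,5]),(293,[])],[2,1,3,4,2,5,9]),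
  (1,[3,29,10,16,16],[(8566,[]),(292,[])],[1,3,4,3,5,8]),
  (5,[14,22,15,16,18,16,16,22,3,7,16,19,16,16],[(3490,[0,8,1,2,4,2,2,8]),(292,[]),(5310,[0,0,2,5,3,9,2,9]),(293,[]),(288,[]),(7102,[9,2,5,8,3,9])],[1,5,3,5,3,9,2,1]),
  (1,[3,7,27,29,11,17],[(8574,[])],[3,3,5,3,9,2,4,2]),
  (8,[22,15,16,16,16,18,3,7,16,19,16,16],[(3490,[8,1,2,2,2,4]),(292,[]),(288,[]),(6234,[8,2,5,2,5,3,0]),(293,[]),(4710,[0,0,2,4,2,1,3,4]),(288,[])],[0,5,5,3,5,3,3,8]),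
  (1,[3,11,22,27,28],[(8582,[])],[0,3,5,8,1,3,4,3]),
  (9,[17,19,23,16,19,22,3,7,16,19,16,16],[(3490,[3,5,9,2,5,8]),(292,[]),(288,[]),(5518,[2,5,2,2,5,9,2,4]),(3434,[1,2,4,2,4,2,8]),(293,[])],[3,5,3,3,5,2,1,8]),
  (1,[3,11,23,7,11,9],[(8590,[]),(292,[])],[1,2,9,3,4,3,3]),
  (14,[14,22,15,17,17,18,17,17,3,7,16,19,16,16],[(3490,[0,8,1,3,3,4,3,3]),(292,[]),(8438,[0,3,3,5,5,2,5,2]),(292,[])],[2,9,3,5,2,2,2]),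
  (1,[3,29,3,17,11,32],[(8598,[])],[3,0,4,3,5,3]),
  (37,[14,19,22,17,19,17,14,16,3,7,16,19,16,16],[(3490,[0,5,8,3,5,3,0,2]),(293,[]),(7858,[0,5,2,5,2,5,9]),(4130,[0,2,2,4,2,4,2])],[9,2,2,4,2,2,5]),
  (1,[3,10,19,10,32,7],[(8606,[]),(288,[])],[1,8,3,3,5,3,4,3]),
  (38,[14,17,17,23,14,17,18,3,7,16,19,16,16],[(3490,[0,3,3,9,0,3,4]),(288,[]),(5714,[2,4,3,5,3,4,3]),(6662,[0,2,8,2,5,5,8]),(293,[]),(288,[])],[1,3,8,2,2]),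
  (1,[3,1,10,23,7,10],[(8614,[]),(293,[]),(288,[])],[1,5,3,5,5,8,2,4]),
  (8,[16,19,22,16,19,3,23,10,23,7],[(2946,[2,5,8,2,5]),(292,[]),(8486,[2,8,2,1,5,2,9,3]),(2646,[0,2,9,2,2,2,9,2,5]),(293,[]),(288,[])],[0,5,2,9,2,4,2]),
  (1,[3,23,3,10,32,3],[(8622,[]),(292,[])],[2,5,5,2,2,2,8,2]),
  (9,[15,17,19,22,15,17,18,17,23,3,23,10,23,7],[(2946,[1,3,5,8,1,3,4,3,9]),(293,[]),(288,[]),(3258,[4,2,5,2,2,5,8,1]),(2774,[1,5,2,2,5,3,5]),(293,[]),(288,[])],[9,2,4,3,8]),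
  (1,[3,7,18,10,10],[(8630,[]),(292,[])],[5,5,3,3,5,3,5,5]),
  (9,[18,16,15,19,22,3,23,10,23,7],[(2946,[4,2,1,5,8]),(293,[]),(634,[2,2,5,8,2,9]),(293,[]),(288,[]),(2194,[9,3,5,3,4,2])],[3,9,3,5,2,2,9]),
  (1,[3,1,7,16,7,14,10],[(8638,[])],[4,2,8,3,4,2,9]),
  (11,[15,15,17,18,16,16,19,3,23,10,23,7],[(2946,[1,1,3,4,2,2,5]),(2350,[4,3,3,8,3,0,5,2]),(1130,[0,2,8,2,8]),(161,[]),(116,[]),(104,[])],[0,2,4,3,5,3,4,3]),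
  (1,[3,1,7,10,33],[(8646,[]),(292,[]),(288,[])],[0,5,5,2,2,2,5,9]),
  (11,[17,18,16,22,16,18,3,23,10,23,7],[(2946,[3,4,2,8,2,4]),(293,[]),(3234,[0,3,0,4,2,2,8,3]),(112,[]),(161,[]),(136,[]),(2314,[1,5,3,9,2,4,2,1]),(293,[]),(288,[])],[1,1,4,3,4,2,2,2]),
  (1,[3,19,17,10,27,7],[(8654,[]),(293,[]),(288,[])],[0,4,2,4,2,1,2,5]),
  (36,[14,17,23,16,19,16,18,3,23,10,23,7],[(2946,[0,3,9,2,5,2,4]),(293,[]),(6846,[0,3,5,5,2,8]),(292,[]),(4286,[3,0,5,3,5,8,2,9])],[4,2,5,2,5,5,8]),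
  (1,[3,11,19,16,32,3],[(8662,[]),(292,[]),(288,[])],[4,2,1,2,5]),
  (37,[14,18,17,14,16,18,16,23,3,23,10,23,7],[(2946,[0,4,3,0,2,4,2,9]),(288,[]),(1914,[5,8,3,8,2,4,2]),(1514,[5,8,1,3,5]),(288,[])],[0,0,3,5,2,4,2,4]),
  (1,[3,10,23,28,10],[(8670,[]),(292,[])],[5,3,5,5,2,5,2]),
  (37,[16,22,17,14,18,16,22,17,3,23,10,23,7],[(2946,[2,8,3,0,4,2,8,3]),(5166,[0,2,2,9,2,2,2]),(6362,[0,9,2,4,3,3,9,2]),(293,[]),(288,[])],[9,2,4,2,2,9,2]),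
  (1,[3,29,16,27,11],[(8678,[]),(293,[]),(288,[])],[0,0,5,3,8,3]),
  (43,[15,19,17,19,17,19,17,22,3,23,10,23,7],[(2946,[1,5,3,5,3,5,3,8]),(293,[]),(2898,[3,5,2,8,2,5,3,3]),(292,[]),(288,[]),(3930,[2,2,5,2,4,2,4,2])],[5,2,5,2,4,2,9]),
  (1,[3,1,10,23,26,7,26],[(8686,[])],[0,0,3,4,3,3,5,3]),
  (2,[14,19,17,19,17,22,16,19,3,7,26,18,3,27],[(1406,[0,5,3,5,3,8,2,5]),(288,[]),(3714,[2,5,8,3,5,9,3]),(293,[]),(8370,[1,5,3,3,9,2]),(293,[])],[1,2,4,2,2,5,8,2]),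
  (1,[3,1,29,10],[(8694,[])],[3,5,3,0,4,3,8]),
  (6,[16,19,17,22,15,3,7,26,18,3,27],[(1406,[2,5,3,8,1]),(293,[]),(288,[]),(1330,[1,2,5,2,1,4,3,8]),(293,[]),(288,[]),(6074,[8,2,2,4,3]),(292,[])],[0,9,3,4,2,2,5]),
  (1,[3,7,15,28,16],[(8702,[]),(292,[]),(288,[])],[5,8,1,2,2,2]),
  (8,[16,16,16,22,16,22,3,7,26,18,3,27],[(1406,[2,2,2,8,2,8]),(8494,[3,3,5,3,5,9,3]),(2210,[3,5,8,2,4,2,8,3]),(293,[])],[0,5,3,3,5,2,1,4]),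
  (1,[3,7,10,22,3,16],[(8710,[]),(293,[])],[3,9,3,5,3,8,1]),
  (8,[18,16,16,22,16,23,3,7,26,18,3,27],[(1406,[4,2,2,8,2,9]),(292,[]),(7050,[2,1,8,3,3,5,2,8]),(292,[]),(288,[]),(7718,[5,8,3,8,1,8,3]),(292,[]),(288,[])],[2,1,2,5,2,5]),
  (1,[3,1,28,10,9,7],[(8718,[]),(292,[])],[1,1,4,2,5,3,3]),
  (11,[17,17,18,17,23,16,15,19,3,7,26,18,3,27],[(1406,[3,3,4,3,9,2,1,5]),(293,[]),(288,[]),(5378,[0,0,2,4,3,3,9]),(686,[0,0,4,2,4,2,8,3])],[2,2,2,5,5,5]),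
  (1,[3,1,23,10,18,7],[(8726,[]),(288,[])],[2,9,3,3,5,3,0,2]),
  (11,[14,19,22,17,19,17,19,17,23,3,7,26,18,3,27],[(1406,[0,5,8,3,5,3,5,3,9]),(4738,[0,5,3,9,2,9,2,8]),(3322,[8,2,4,3,9])],[2,9,2,5,2,2,9]),
  (1,[3,7,10,9,32,11],[(8734,[]),(293,[])],[0,5,2,2,8,3,3]),
  (12,[14,19,19,16,16,18,3,7,26,18,3,27],[(1406,[0,5,5,2,2,4]),(5526,[0,9,2,8,2,5,3,9]),(7498,[0,0,5,2,1,4]),(292,[]),(288,[])],[4,2,1,5,2,4]),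
  (1,[3,7,9,10,26,19],[(8742,[])],[0,0,4,2,1,5]),
  (12,[14,17,19,23,16,23,17,3,7,26,18,3,27],[(1406,[0,3,5,9,2,9,3]),(3226,[1,3,4,2,8,2,9]),(292,[]),(6946,[2,5,2,4,3,0]),(292,[]),(288,[])],[3,0,5,2,8,2,5]),
  (1,[3,28,11],[(8750,[]),(292,[]),(288,[])],[5,2,5,3,0,5,3,8]),
  (12,[17,19,19,17,14,19,17,3,7,26,18,3,27],[(1406,[3,5,5,3,0,5,3]),(293,[]),(288,[]),(5082,[1,1,4,2,2,4,3]),(293,[]),(6854,[5,3,9,2,8,2,5]),(292,[]),(288,[])],[4,3,3,8,3,5,3,5]),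
  (1,[3,7,11,18,16,29],[(8758,[]),(292,[])],[1,4,3,3,5,3,4]),
  (36,[16,19,16,18,16,16,23,14,3,7,26,18,3,27],[(1406,[2,5,2,4,2,2,9,0]),(292,[]),(288,[]),(8534,[3,4,3,3,9,3,8]),(288,[]),(7274,[3,8,2,1,2]),(292,[])],[2,8,1,3,5,2,8]),
  (1,[3,7,17,32,26,3],[(8766,[]),(292,[]),(288,[])],[1,5,8,2,5,2,2]),
  (41,[18,16,16,19,22,16,18,3,7,26,18,3,27],[(1406,[4,2,2,5,8,2,4]),(293,[]),(288,[]),(7118,[0,2,5,3,3,5,2,4]),(292,[]),(288,[]),(3242,[0,2,1,4,3,9,3,5,8])],[5,5,2,2,8]),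
  (1,[3,7,5,10,18],[(8774,[]),(292,[]),(288,[])],[5,5,5,3,4]),
  (3,[18,16,19,16,19,17,23,17,3,11,18,3,27,7],[(3614,[4,2,5,2,5,3,9,3]),(292,[]),(288,[]),(3218,[3,3,9,3,3,5]),(8282,[9,3,3,4,2,2])],[0,0,2,4,2,1,4,2]),
  (1,[3,19,7,10,19,7],[(8782,[]),(288,[])],[1,3,4,3,3,9,3,3]),
  (8,[17,19,16,19,17,17,3,11,18,3,27,7],[(3614,[3,5,2,5,3,3]),(293,[]),(288,[]),(5702,[3,4,2,5,2,5,2,4]),(288,[]),(5550,[5,3,8,2,1,3,5]),(292,[])],[0,0,5,3,3,9,0]),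
  (1,[3,7,29,16,11],[(8790,[]),(292,[])],[2,8,1,3,9,2,5]),
  (9,[14,17,19,16,15,19,16,18,3,11,18,3,27,7],[(3614,[0,3,5,2,1,5,2,4]),(292,[]),(288,[]),(8094,[3,5,5,2,2]),(292,[]),(3938,[0,0,5,2,2,5,8,3,8]),(293,[])],[0,2,9,2,2,4,3]),
  (1,[3,1,7,27,19,10],[(8798,[]),(293,[])],[0,0,5,2,5,3,3,4]),
  (10,[23,16,23,17,18,17,23,3,11,18,3,27,7],[(3614,[9,2,9,3,4,3,9]),(288,[]),(2466,[1,3,9,3,3,9]),(292,[]),(288,[]),(4822,[0,8,2,2,9,3,8]),(292,[])],[5,9,0,2,5]),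
  (1,[3,18,17,18],[(8806,[]),(293,[]),(288,[])],[5,2,2,9,0,3,4]),
  (37,[17,17,18,16,16,19,16,3,11,18,3,27,7],[(3614,[3,3,4,2,2,5,2]),(288,[]),(7474,[2,4,2,8,3,4,2,5]),(293,[]),(288,[]),(4354,[2,5,2,5,5,9]),(292,[]),(288,[])],[2,9,0,3,5,3]),
  (1,[3,1,7,11,32,11],[(8814,[])],[2,4,2,5,3,3]),
  (38,[16,22,16,19,22,16,22,17,3,11,18,3,27,7],[(3614,[2,8,2,5,8,2,8,3]),(292,[]),(8606,[2,1,4,2,5,3,3]),(288,[]),(7502,[1,3,4,2,5,8]),(292,[]),(288,[])],[1,3,5,8,2,4,2,2]),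
  (1,[3,1,28,11,26,3],[(8822,[])],[1,1,3,5,3,3,5,3]),
  (3,[14,14,18,16,19,17,14,3,19,10,16,26,7],[(4734,[0,0,4,2,5,3,0]),(8734,[0,2,2,5,2,9,3,3]),(293,[]),(288,[]),(2322,[8,3,3,8,3,0,4])],[5,3,3,4,2,2]),
  (1,[3,23,16,3,29],[(8830,[]),(288,[])],[9,2,5,5,5,2]),
  (8,[14,16,22,16,15,22,16,3,19,10,16,26,7],[(4734,[0,2,8,2,1,8,2]),(293,[]),(288,[]),(5002,[0,4,3,5,3,3,5,3]),(292,[]),(288,[]),(922,[0,5,3,4,3,9,2,5])],[0,0,9,3,5,3,9]),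
  (9,[22,16,19,23,17,17,3,19,10,16,26,7],[(4734,[8,2,5,9,3,3]),(8650,[1,2,4,2,8,2,5]),(4210,[8,1,2,5,2,5,2]),(293,[]),(288,[])],[0,3,4,3,4,3,4]),
  (1,[3,1,19,11,11],[(8842,[])],[3,5,5,3,0,4,2,5]),
  (36,[14,19,19,19,16,16,16,19,3,19,10,16,26,7],[(4734,[0,5,5,5,2,2,2,5]),(2286,[0,0,3,5,3,4,3]),(292,[]),(2958,[0,2,1,4,3,8,2,1])],[0,5,2,2,4,3,0,9]),
  (1,[7,26,3,10],[(8850,[]),(288,[])],[0,5,5,8,2,4,2,2,5]),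
  (37,[14,17,19,16,16,23,14,17,3,19,10,16,26,7],[(4734,[0,3,5,2,2,9,0,3]),(8250,[2,5,3,5,3,9,0,2]),(293,[]),(288,[]),(7266,[5,2,1,4,3,4,3,0])],[4,3,5,3,3,8,2]),
  (1,[3,11,28,17,22,3],[(8858,[])],[1,3,5,8,2,2,4,2]),
  (12,[22,16,16,16,22,16,16,3,10,19,16,16,7],[(2298,[8,2,2,2,8,2,2]),(292,[]),(6582,[0,0,5,2,8,2,5,2]),(2882,[3,3,4,3,4,3,0,9])],[0,0,3,8,2,4,2,8]),
  (12,[17,19,16,22,16,18,17,23,3,10,19,16,16,7],[(2298,[3,5,2,8,2,4,3,9]),(292,[]),(5874,[5,8,3,0,5,3,4]),(292,[]),(288,[]),(2966,[0,8,2,2,8,2,9]),(293,[])],[0,3,5,5,3]),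
  (1,[3,7,5,10,17],[(8870,[]),(293,[]),(288,[])],[0,2,2,4,3,8,2,2]),
  (36,[17,14,19,16,22,17,19,3,10,19,16,16,7],[(2298,[3,0,5,2,8,3,5]),(292,[]),(7002,[0,0,4,2,5,3,8]),(293,[]),(288,[]),(782,[8,2,1,8,2,2]),(292,[])],[0,4,2,2,2,5,8,3]),
  (1,[3,19,10,29,7,27],[(8878,[])],[2,2,5,2,1,4,2,5]),
  (38,[14,19,17,18,17,18,17,14,3,10,19,16,16,7],[(2298,[0,5,3,4,3,4,3,0]),(288,[]),(8410,[0,3,3,9,2,2,5,2]),(292,[]),(288,[]),(2926,[2,2,8,3,3,5,2,4])],[0,8,2,4,2,2,9]),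
  (1,[3,23,10,16,18,3],[(8886,[])],[0,0,5,2,5,8,2,2]),
  (39,[23,16,18,17,22,15,3,10,19,16,16,7],[(2298,[9,2,4,3,8,1]),(8734,[1,2,4,3,3,5,2,8]),(288,[]),(7414,[0,5,2,2,4,2,1]),(292,[]),(288,[])],[2,5,2,4,2,9]),
  (1,[3,1,7,17,10,32,11],[(8894,[])],[0,4,3,9,3,4,2,2]),
  (2,[16,15,16,19,17,22,16,3,1,11,28,11],[(7718,[2,1,2,5,3,8,2]),(8026,[0,0,4,2,9,3,5,3]),(292,[]),(288,[]),(8098,[0,3,0,5,9,2,2,4]),(293,[]),(288,[])],[2,4,3,4,3,5,3,3]),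
  (1,[3,10,22,3,11],[(8902,[])],[3,8,1,3,5,2,1,3]),
  (8,[18,17,19,17,17,22,16,3,1,11,28,11],[(7718,[4,3,5,3,3,8,2]),(8234,[5,9,2,2,4,2,9]),(288,[]),(8230,[4,2,5,5,2,2,5]),(292,[]),(288,[])],[2,1,5,2,4,3,4]),
  (1,[3,7,29,17,10,18],[(8910,[]),(293,[])],[5,9,0,2]),
  (9,[14,14,17,22,16,19,3,1,11,28,11],[(7718,[0,0,3,8,2,5]),(292,[]),(3850,[1,2,2,5,8,1,3]),(292,[]),(634,[9,2,4,3,8,1,2])],[0,5,8,1,2,2,4,2]),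
  (1,[3,11,18,32],[(8918,[]),(292,[])],[0,2,5,8,3,0,5,9]),
  (9,[17,18,16,19,17,14,19,3,1,11,28,11],[(7718,[3,4,2,5,3,0,5]),(8026,[4,2,8,2,8,2]),(3938,[0,4,3,5,3,0,4,2,2])],[2,4,2,1,4,3]),
  (1,[3,1,7,27,7,33],[(8926,[]),(293,[])],[5,9,0,2,2,2]),
  (37,[14,19,23,16,15,18,16,19,3,1,11,28,11],[(7718,[0,5,9,2,1,4,2,5]),(870,[0,9,2,2,5,2,2]),(288,[]),(3098,[5,9,2,2,2,5,3,8]),(288,[])],[0,3,0,5,2,5,2,4]),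
  (1,[3,1,29,11,28,7,27],[(8934,[]),(293,[]),(288,[])],[1,3,8,2,2,5,2,1]),
  (38,[16,16,23,16,19,3,1,11,28,11],[(7718,[2,2,9,2,5]),(292,[]),(288,[]),(8286,[2,5,2,8,2]),(288,[]),(6158,[0,4,2,5,5,8,3]),(288,[])],[5,8,2,9,2,8]),
  (1,[3,7,29,17,10],[(8942,[])],[0,2,4,3,3,9,2,1]),
  (43,[18,16,18,16,19,23,17,3,1,11,28,11],[(7718,[4,2,4,2,5,9,3]),(292,[]),(288,[]),(6610,[3,0,5,2,5,2,9]),(8266,[5,3,0,4,2,8,2,5]),(292,[])],[3,8,1,3,0,5,3]),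
  (1,[3,11,29,11,11],[(8950,[])],[8,3,4,3,8,1,2]),
  (10,[14,14,23,17,18,17,17,19,3,1,11,28,10],[(1050,[0,0,9,3,4,3,3,5]),(293,[]),(8786,[5,2,2,5,2,2]),(292,[]),(6898,[1,3,8,1,3,3,9,2])],[0,8,3,8,2,5,3]),
  (1,[3,11,11,29,27,3],[(8958,[]),(292,[])],[1,3,9,2,1,5]),
  (11,[14,17,17,19,17,14,16,3,1,11,28,10],[(1050,[0,3,3,5,3,0,2]),(292,[]),(288,[]),(4894,[2,4,2,9,2,2,2]),(293,[]),(288,[]),(1150,[5,5,2,8,2,9])],[0,5,3,8,2,2]),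
  (1,[3,23,3,11],[(8966,[]),(293,[])],[0,3,5,8,2,5,8,2]),
  (12,[19,19,17,18,17,19,3,1,11,28,10],[(1050,[5,5,3,4,3,5]),(5658,[2,4,2,2,5,2,9]),(288,[]),(7662,[1,8,3,5,3,9,2]),(293,[])],[8,1,3,4,3,9]),
  (1,[3,19,26,18,3,22],[(8974,[]),(293,[])],[0,2,8,3,4,3,3]),
  (38,[16,19,17,23,17,19,16,19,3,1,11,28,10],[(1050,[2,5,3,9,3,5,2,5]),(293,[]),(1806,[0,3,8,2,1,4,3,0]),(292,[]),(3626,[0,0,0,5,3,3,5,3,5]),(293,[]),(288,[])],[3,9,3,4,3,0]),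
  (1,[3,29,3,11,23],[(8982,[])],[0,2,1,5,3,3,4,2]),
  (43,[16,19,16,22,16,19,16,15,3,1,11,28,10],[(1050,[2,5,2,8,2,5,2,1]),(292,[]),(288,[]),(8606,[5,3,8,1,3,4]),(7362,[0,2,1,2,4,2,2,8]),(293,[])],[9,2,4,3,5,3,0]),
  (2,[17,17,18,17,14,23,3,11,19,19,10],[(978,[3,3,4,3,0,9]),(293,[]),(2070,[3,3,4,3,5,3,5]),(293,[]),(6798,[0,3,0,2,4]),(292,[]),(288,[])],[0,5,3,9,0,3]),
  (1,[3,7,17,23,7,10],[(8994,[]),(288,[])],[0,5,2,4,3,3,5,9]),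
  (3,[14,14,16,18,16,23,14,17,19,3,11,19,19,10],[(978,[0,0,2,4,2,9,0,3,5]),(293,[]),(288,[]),(5842,[0,9,3,3,4,3,4,2]),(2806,[0,2,9,2,4,2,4,3]),(288,[])],[3,5,3,5,2,4]),
  (1,[3,19,10,23,7],[(9002,[])],[1,4,2,2,8,2,5]),
  (9,[17,17,18,17,23,17,19,16,3,11,19,19,10],[(978,[3,3,4,3,9,3,5,2]),(293,[]),(2070,[2,9,3,4,3,3,5,2]),(8338,[5,3,0,4,2,2,8]),(292,[]),(288,[])],[0,5,3,0,5,3,4]),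
  (1,[3,7,16,18,16,26],[(9010,[]),(288,[])],[1,4,3,5,5,3,3,9]),
  (9,[17,17,18,17,23,14,3,11,19,19,10],[(978,[3,3,4,3,9,0]),(293,[]),(2070,[1,3,4,3,5,2,8,2]),(3866,[8,1,3,5,2,2,2])],[1,3,9,2,1,5,3]),
  (1,[3,7,16,18,16,16],[(9018,[]),(288,[])],[0,3,4,2,5,3,0,5]),
  (11,[18,16,18,16,18,17,22,3,11,19,19,10],[(978,[4,2,4,2,4,3,8]),(292,[]),(288,[]),(8554,[0,3,3,5,9,2,1,5]),(2362,[1,8,3,5,3,8,1,2]),(292,[]),(288,[])],[0,0,9,2,5,2,5,9]),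
  (1,[3,1,23,7,10,18,10],[(9026,[]),(292,[]),(288,[])],[2,2,5,2,1,5,3,4]),
  (14,[15,19,16,18,16,18,3,11,19,19,10],[(978,[1,5,2,4,2,4]),(293,[]),(288,[]),(2422,[0,0,2,9,3,4,3,5])],[0,3,5,8,2,2,2]),
  (1,[3,7,11,33,11],[(9034,[])],[5,5,3,4,3,0]),
  (17,[14,17,17,22,16,15,17,23,3,11,19,19,10],[(978,[0,3,3,8,2,1,3,9]),(288,[]),(2958,[1,3,8,3,3,8,3])],[2,2,4,3,9,3]),
  (1,[3,1,23,7,10,10],[(9042,[])],[0,3,3,5,3,9,3]),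
  (37,[14,17,19,16,22,16,18,16,3,11,19,19,10],[(978,[0,3,5,2,8,2,4,2]),(4646,[0,8,2,4,2,2,2,5]),(510,[5,8,1,3,0])],[4,2,4,2,8,2]),
  (1,[3,1,19,7,11,13],[(9050,[])],[1,2,4,2,5,2,5,5]),
  (38,[18,16,16,16,19,17,14,18,3,11,19,19,10],[(978,[4,2,2,2,5,3,0,4]),(292,[]),(3446,[5,5,5,3,0,4]),(292,[]),(2202,[3,5,3,5,3,9,2,1]),(292,[])],[8,1,3,4]),
  (1,[3,7,33,11,13],[(9058,[])],[0,3,9,2,5,2,9]),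
  (12,[15,19,16,18,17,18,17,22,3,7,16,19,16,26],[(918,[1,5,2,4,3,4,3,8]),(292,[]),(2442,[0,8,2,5,2,5,2]),(288,[]),(1830,[1,4,2,5,2,8,3,4])],[2,2,2,8,2,1,5,3]),
  (1,[3,11,18,17,18],[(9066,[]),(292,[]),(288,[])],[2,1,5,3,9,3,8]),
  (14,[14,17,19,17,19,17,22,3,7,16,19,16,26],[(918,[0,3,5,3,5,3,8]),(288,[]),(6710,[3,4,3,8,1,3]),(288,[])],[0,4,2,5,8,2,9]),
  (17,[14,16,22,17,17,18,17,14,3,7,16,19,16,26],[(918,[0,2,8,3,3,4,3,0]),(288,[]),(6046,[1,2,4,2,8,2,5])],[5,2,5,3,3,5,9,3]),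
  (1,[3,11,22,7,11],[(9078,[])],[0,5,9,0,3]),
  (36,[15,17,17,18,16,23,17,19,3,7,16,19,16,26],[(918,[1,3,3,4,2,9,3,5]),(292,[]),(4694,[8,3,3,4,3,5,3]),(2026,[2,9,2,4]),(288,[])],[3,4,3,3,9,0,2]),
  (1,[3,23,10,18,7],[(9086,[])],[5,3,0,4,2,5,8]),
  (37,[15,22,16,19,16,23,3,7,16,19,16,26],[(918,[1,8,2,5,2,9]),(1954,[8,3,4,3,0,9,2,4]),(2310,[2,2,2,4,3,3]),(292,[])],[8,3,9,3,4]),
  (1,[3,10,10,28,11],[(9094,[]),(292,[]),(288,[])],[0,2,2,4,2,1]),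
  (40,[17,19,17,18,17,19,19,3,7,16,19,16,26],[(918,[3,5,3,4,3,5,5]),(6046,[5,2,8,1,2,2,4]),(4218,[0,8,1,2,2,2,4,3,0])],[1,1,5,2,4,2,2]),
  (1,[3,7,16,32,7,10],[(9102,[])],[4,2,9,0,3,5]),
  (3,[14,17,14,18,16,22,17,18,3,23,10,16,19,3],[(8602,[0,3,0,4,2,8,3,4]),(293,[]),(288,[]),(6190,[4,3,8,2,5,3,9]),(292,[]),(2234,[0,2,5,3,3,8,3,8]),(293,[]),(288,[])],[3,5,3,4,3,4,2]),
  (1,[3,7,9,16,18],[(9110,[])],[8,2,8,3,4,2,2]),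
  (36,[14,16,23,17,17,3,23,10,16,19,3],[(8602,[0,2,9,3,3]),(288,[]),(1606,[0,2,9,3,4,3,3]),(5626,[0,3,5,2,5,8,2]),(257,[]),(252,[]),(249,[])],[0,3,3,8,3,5])]
theorem hD15 : allD2 lk B KW SW F A RL [] D15 2132 = true := by decide +kernel
end
end CA.ThM
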