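import Cfsg.Agent.Lib.Spor.ThF

/-! Derivations of the double coset table of the Thompson group. -/

set_option autoImplicit false
set_option maxRecDepth 100000
set_option linter.all false
namespace CA.ThM
open CA.CNet CA.CWord CA.CLevel CA.CSimple CA.CPoint CA.CLow CA.CTodd CA.TCos
noncomputable section

def D16 : List (ℕ × Word × List (ℕ × Word) × Word) := [(1,[3,7,11,19,11],[(9118,[])],[2,9,3,3,5,2,4]),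
  (3,[14,14,16,19,22,16,22,16,18,3,7,17,19,27,27],[(5662,[0,0,2,5,8,2,8,2,4]),(1582,[2,1,3,4,2,4]),(293,[]),(288,[]),(1450,[0,4,3,3,5,2,8,3]),(292,[])],[2,4,2,1,4,2,5,2]),
  (1,[3,7,27,29,11,32,26],[(9126,[]),(293,[]),(288,[])],[3,5,2,4,2,4,3,0]),
  (8,[14,16,16,18,16,18,16,15,22,3,7,17,19,27,27],[(5662,[0,2,2,4,2,4,2,1,8]),(293,[]),(288,[]),(7782,[0,2,2,5,3,3,5,2,9]),(288,[]),(7270,[1,3,0,4,2,9,3,5]),(293,[])],[0,0,3,8,2,4,2,9]),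
  (1,[3,7,11,19,28,16],[(9134,[]),(292,[]),(288,[])],[8,2,4,2,1,3,9,3]),
  (9,[16,15,18,16,16,16,3,7,17,19,27,27],[(5662,[2,1,4,2,2,2]),(293,[]),(2254,[0,5,8,2,8,1,8]),(7502,[1,5,3,3,4,3]),(288,[])],[3,3,4,3,5,9]),
  (1,[3,18,16,27,7],[(9142,[]),(292,[]),(288,[])],[5,8,2,5,8,3,4,3]),
  (9,[19,22,16,19,16,15,18,3,7,17,19,27,27],[(5662,[5,8,2,5,2,1,4]),(878,[9,2,5,3,8,2,8]),(293,[]),(810,[0,0,9,3,5,3,0]),(288,[])],[2,4,3,9,3,5,3]),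
  (1,[3,29,3,27,18],[(9150,[]),(293,[])],[4,3,0,2]),
  (11,[15,17,22,17,19,17,17,19,3,7,17,19,27,27],[(5662,[1,3,8,3,5,3,3,5]),(293,[]),(7338,[0,0,3,4,2,5,2,9]),(7342,[0,9,2,5,3,9])],[0,2,5,8,3,8,2,5,3]),
  (1,[3,11,19,7,11,11],[(9158,[]),(292,[])],[4,3,5,3,5,3,8,2]),
  (12,[14,16,15,19,17,18,3,7,17,19,27,27],[(5662,[0,2,1,5,3,4]),(293,[]),(1534,[3,4,3,5,2,9]),(292,[]),(6498,[2,5,3,8,2,8,3,4])],[3,0,4,2,5,2,9,0]),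
  (1,[3,19,26,3,7,33],[(9166,[]),(288,[])],[8,2,4,2,5,5,5]),
  (8,[16,19,16,19,22,16,15,22,3,11,19,7,10,19],[(2674,[2,5,2,5,8,2,1,8]),(293,[]),(288,[]),(5022,[0,5,2,8,2,4,2,1,3]),(292,[]),(288,[]),(5006,[0,0,2,4,2,5,2]),(293,[]),(288,[])],[4,3,8,2,5,3,8,2]),
  (1,[3,7,11,28,11,11,22],[(9174,[]),(293,[]),(288,[])],[2,2,5,3,8,1,2,4]),
  (3,[19,16,19,16,22,17,14,3,11,23,10,22,7],[(4546,[5,2,5,2,8,3,0]),(292,[]),(3962,[0,3,3,5,3,9,2]),(293,[]),(2022,[0,8,3,0,9])],[0,2,2,2,8,3,9]),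
  (1,[3,7,10,18,16,10,17],[(9182,[]),(288,[])],[0,3,3,4,3,3,4,2]),
  (9,[15,22,16,16,18,16,16,3,11,23,10,22,7],[(4546,[1,8,2,2,4,2,2]),(293,[]),(288,[]),(8754,[1,2,4,3,3,4,2]),(293,[]),(4866,[1,3,9,2,1,5,2]),(293,[])],[1,2,2,5,3,4,3]),
  (1,[3,11,18,33],[(9190,[]),(293,[])],[1,3,4,2,5,3]),
  (12,[15,18,16,19,16,23,14,3,11,23,10,22,7],[(4546,[1,4,2,5,2,9,0]),(292,[]),(288,[]),(6810,[1,3,5,9,3,5,3,3]),(288,[]),(3386,[9,2,5,2,4,2,4]),(161,[]),(120,[]),(108,[])],[0,8,1,8,3,8]),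
  (1,[3,1,7,33,10,13],[(9198,[]),(293,[]),(288,[])],[0,5,5,8,2,5,2]),
  (39,[14,19,16,19,16,19,22,16,3,11,23,10,22,7],[(4546,[0,5,2,5,2,5,8,2]),(293,[]),(4850,[0,2,2,5,8,2]),(3578,[0,3,5,2,4,2,1]),(116,[]),(108,[]),(104,[])],[2,5,8,2,5,2,5]),
  (1,[7,10,27,3,7],[(9206,[])],[2,4,2,9,3,4,3,0]),
  (2,[17,14,19,16,16,18,17,23,3,1,11,22,7,11],[(4026,[3,0,5,2,2,4,3,9]),(292,[]),(3734,[1,3,8,2,2,2,8]),(293,[]),(288,[]),(898,[5,3,3,8,3])],[0,2,2,9,3,5,8]),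
  (1,[3,10,29,11,11],[(9214,[])],[1,5,3,5,3,5,5,3]),
  (8,[15,15,19,16,18,3,1,11,22,7,11],[(4026,[1,1,5,2,4]),(292,[]),(288,[]),(4858,[0,8,3,4,2,5,2,2]),(288,[]),(1294,[1,3,4,3,4,3,3,5]),(293,[]),(288,[])],[0,2,5,8,3,3,4]),
  (1,[3,28,7,11],[(9222,[]),(288,[])],[1,2,2,2,4,3,8]),
  (9,[22,15,16,19,16,16,19,3,1,11,22,7,11],[(4026,[8,1,2,5,2,2,5]),(5294,[2,5,3,3,5,3,9]),(293,[]),(2898,[2,2,5,8,1,2,5]),(288,[])],[2,2,5,2,8,1,8,2]),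
  (1,[3,7,26,22,16],[(9230,[]),(288,[])],[1,5,3,8,2,2]),
  (3,[14,16,19,19,16,23,3,1,11,23,7,11],[(5798,[0,2,5,5,2,9]),(942,[1,4,2,5,2,5,2,1]),(288,[]),(7362,[0,0,4,3,3,4,3,3]),(293,[])],[9,2,5,3,3,5]),
  (1,[3,23,11,18,3,19],[(9238,[])],[0,5,5,2,1,5]),
  (4,[17,19,3,1,11,23,7,11],[(5798,[3,5]),(8010,[8,2,2,4,3,4,3,0]),(2286,[0,5,2,2,2,5,8,3,9]),(288,[])],[0,8,2,5,2,2,8]),
  (8,[16,16,22,16,16,16,22,3,1,11,23,7,11],[(5798,[2,2,8,2,2,2,8]),(288,[]),(7138,[0,3,4,2,2,5,2,1]),(288,[]),(8502,[2,5,2,5,3,0]),(288,[])],[1,4,2,4,2,5,8,3]),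
  (1,[3,11,22,7,11,15],[(9250,[])],[4,3,5,3,4,3,8]),
  (9,[14,14,16,19,17,14,16,19,3,1,11,23,7,11],[(5798,[0,0,2,5,3,0,2,5]),(4938,[0,3,5,3,8,2,5,5]),(2398,[0,0,3,5,3,5,9]),(292,[])],[1,2,4,2,4,2]),
  (1,[3,10,23,7,11,32],[(9258,[]),(288,[])],[1,2,2,2,5,2,4]),
  (12,[17,18,17,17,22,17,19,3,1,11,23,7,11],[(5798,[3,4,3,3,8,3,5]),(292,[]),(288,[]),(6902,[2,1,4,2,2,5,2]),(293,[]),(8670,[0,3,5,5,2,2,9,2]),(293,[]),(288,[])],[0,3,9,3,3,5,8]),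
  (1,[3,11,23,7,11],[(9266,[])],[0,3,5,5,3,0,5,2]),
  (2,[19,17,17,22,17,19,17,3,1,11,23,7,10],[(7454,[5,3,3,8,3,5,3]),(292,[]),(1666,[0,0,3,8,3,4]),(292,[]),(288,[]),(5914,[2,2,9,0,2,2,5]),(293,[])],[0,8,1,3,0,5,2]),
  (1,[3,7,26,33,3,16],[(9274,[]),(293,[]),(288,[])],[3,9,2,5,3,3,8]),
  (5,[18,16,19,16,19,16,18,3,1,11,23,7,10],[(7454,[4,2,5,2,5,2,4]),(3714,[0,2,2,5,3,0,5,3]),(1278,[0,0,4,3,5,2])],[2,1,2,5,3,3,5,2]),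
  (1,[3,7,33,11,13],[(9282,[]),(292,[]),(288,[])],[2,4,2,8,3,5,2]),
  (39,[14,14,14,18,17,19,16,18,3,1,11,23,7,10],[(7454,[0,0,0,4,3,5,2,4]),(292,[]),(288,[]),(4442,[9,2,5,3,5,3,4]),(292,[]),(4270,[2,2,2,5,5,3,0,2]),(292,[]),(288,[])],[0,8,3,5,8,2]),
  (1,[3,1,7,26,18],[(9290,[])],[1,5,2,5,2,1,4,2]),
  (4,[14,14,14,19,16,19,16,16,19,3,7,9,11,14,19,10],[(5702,[0,0,0,5,2,5,2,2,5]),(2214,[1,8,2,2,5,3]),(293,[]),(8846,[3,5,2,8,3,4,2,8])],[0,5,9,2,2,2,5,9,3]),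
  (1,[3,28,11,11],[(9298,[])],[2,5,3,3,4,2,8]),
  (9,[16,22,17,22,16,19,17,3,7,9,11,14,19,10],[(5702,[2,8,3,8,2,5,3]),(288,[]),(5610,[0,4,3,5,9,3,4,3]),(292,[]),(1666,[0,8,3,5,2,8,2,1]),(292,[])],[2,1,2,5,2,4,2,4]),
  (1,[3,11,19,7,10,14],[(9306,[]),(288,[])],[0,8,3,3,9]),
  (36,[18,16,15,18,17,18,3,7,9,11,14,19,10],[(5702,[4,2,1,4,3,4]),(2986,[2,5,5,5,3,3]),(293,[]),(7826,[3,5,3,0,4,3,8]),(292,[])],[3,4,2,5,2,5,2,1]),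
  (1,[3,19,11,26,23],[(9314,[]),(292,[])],[1,2,2,9,2,5,2,4]),
  (39,[19,17,22,16,18,17,22,3,7,9,11,14,19,10],[(5702,[5,3,8,2,4,3,8]),(293,[]),(8806,[2,4,2,5,2,8,3,0]),(292,[]),(2506,[0,4,2,2,5,3,9,2]),(292,[]),(288,[])],[2,8,2,1,4,3,0,5]),
  (1,[7,27,3,7,22],[(9322,[])],[5,8,3,4,3,0,4]),
  (3,[14,16,18,16,16,16,23,17,3,7,10,13,29,26],[(5330,[0,2,4,2,2,2,9,3]),(3090,[2,5,3,5,3,0,9]),(292,[]),(288,[]),(8386,[1,5,8,2,5,2]),(292,[]),(288,[])],[5,5,9,2,5,2]),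
  (1,[3,7,15,28,16,7],[(9330,[])],[0,0,2,8,2,2,2,8]),
  (9,[17,17,19,19,16,16,16,18,3,7,10,13,29,26],[(5330,[3,3,5,5,2,2,2,4]),(1314,[9,2,4,3,5,3,4]),(288,[]),(4802,[0,5,5,8,3,5,3])],[0,9,2,2,5,2,9,3]),
  (1,[3,1,7,27,7],[(9338,[]),(293,[])],[2,8,3,5,5,5]),
  (11,[14,14,16,16,18,16,16,16,22,3,7,10,13,29,26],[(5330,[0,0,2,2,4,2,2,2,8]),(293,[]),(8350,[8,2,4,2,5,3,0]),(292,[]),(4766,[8,2,1,2,5,2,2]),(292,[])],[0,0,2,4,2,5,2,1]),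
  (1,[3,23,10,13],[(9346,[]),(292,[]),(288,[])],[1,5,3,5,3,5]),
  (11,[18,16,16,18,16,19,17,3,7,10,13,29,26],[(5330,[4,2,2,4,2,5,3]),(292,[]),(288,[]),(7530,[4,3,4,3,4,3,0]),(288,[]),(5786,[2,1,4,3,8,2,5,3])],[0,5,3,8,2,1,4]),
  (1,[3,1,29,10,27],[(9354,[]),(288,[])],[0,4,2,5,9,3,8,3]),
  (12,[17,23,17,18,16,16,23,3,7,10,13,29,26],[(5330,[3,9,3,4,2,2,9]),(292,[]),(8038,[2,5,5,5,3,0]),(292,[]),(5958,[2,9,3,5,3,8,1]),(293,[]),(288,[])],[0,3,5,3,8,1,3,0]),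
  (1,[3,1,7,26,29,26],[(9362,[])],[2,2,8,3,4]),
  (8,[16,23,14,17,3,7,27,18,3,26],[(3666,[2,9,0,3]),(7534,[5,5,3,5,3,4,3,0]),(6478,[5,2,4,3,4,3,9]),(288,[])],[2,2,4,3,8,1,2,9]),
  (1,[3,23,3,11,11],[(9370,[]),(292,[])],[4,2,9,3,4,3,4]),
  (37,[14,16,16,23,17,17,19,17,3,7,27,18,3,26],[(3666,[0,2,2,9,3,3,5,3]),(293,[]),(4146,[2,8,3,3,8]),(292,[]),(288,[]),(982,[2,2,5,2,8,2,8]),(288,[])],[2,1,4,3,5,3,9]),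
  (1,[3,7,5,10,29,27,11],[(9378,[]),(292,[])],[2,5,2,4,2,2,2]),
  (38,[16,23,17,17,18,17,22,15,3,7,27,18,3,26],[(3666,[2,9,3,3,4,3,8,1]),(288,[]),(8230,[5,3,4,2,4,2,2]),(292,[]),(8962,[0,2,4,3,5,3,0,4])],[0,5,5,2,2,4,2,1]),
  (1,[3,10,29,7,17],[(9386,[]),(292,[]),(288,[])],[4,3,5,9]),
  (8,[16,15,19,17,17,19,17,19,3,7,10,10,29,16],[(8186,[2,1,5,3,3,5,3,5]),(292,[]),(1830,[0,2,2,9,3,3,4]),(5354,[2,4,2,1,5,8]),(293,[])],[3,4,2,5,8,2,4]),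
  (8,[14,16,22,17,19,16,23,17,3,7,10,10,29,16],[(8186,[0,2,8,3,5,2,9,3]),(530,[0,8,2,2,2,8]),(292,[]),(1010,[5,2,2,4,2,1,5]),(248,[]),(5737,[]),(248,[])],[1,4,2,2,9]),
  (1,[3,11,19,7,10],[(9398,[]),(292,[])],[4,2,4,2,5,3,9,0]),
  (12,[14,17,14,19,16,23,16,16,22,3,7,10,10,29,16],[(8186,[0,3,0,5,2,9,2,2,8]),(293,[]),(4570,[0,3,4,3,5,5,9,2,9]),(293,[]),(8674,[2,9,3,5,3,5]),(293,[])],[0,8,1,2,2,2,5]),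
  (1,[3,11,22,7,11,9],[(9406,[]),(288,[])],[0,8,3,5,5,8,2]),
  (38,[16,19,17,17,18,17,17,22,3,19,17,19,3,1],[(5322,[2,5,3,3,4,3,3,8]),(292,[]),(288,[]),(9326,[5,2,5,2,2,9,2,5]),(3562,[1,2,5,2,2,4,2])],[0,2,1,5,3,4,2,1]),
  (1,[3,1,10,28,7,11,23],[(9414,[])],[3,9,0,3,3,5,3,3]),
  (2,[23,17,17,19,17,14,16,3,19,16,19,3,1],[(7850,[9,3,3,5,3,0,2]),(292,[]),(288,[]),(6994,[5,5,3,3,9,2,1]),(293,[]),(7854,[1,5,3,3,4,3,4]),(292,[])],[3,0,4,3,8,2,5,3]),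
  (3,[16,22,16,16,22,3,19,16,19,3,1],[(7850,[2,8,2,2,8]),(6062,[1,3,8,3,0,4]),(292,[]),(7030,[2,1,5,3,9,3,3,8]),(293,[])],[0,2,1,2,5,3,8]),
  (1,[3,11,29,17,32,3],[(9426,[]),(288,[])],[0,4,3,3,8,3,4]),
  (9,[17,19,23,16,16,22,17,3,19,16,19,3,1],[(7850,[3,5,9,2,2,8,3]),(293,[]),(4982,[2,2,2,5,5,2,2,9]),(292,[]),(5982,[2,1,5,2,4,3]),(288,[])],[0,9,2,5,3,8]),
  (14,[15,15,16,19,17,17,19,3,19,16,19,3,1],[(7850,[1,1,2,5,3,3,5]),(288,[]),(8266,[1,5,3,5,9,0,3,3]),(288,[])],[8,1,3,5,3,9]),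
  (1,[3,19,27,19,3],[(9438,[])],[4,2,2,5,2,8,1,8]),
  (12,[14,19,16,15,19,16,16,18,3,11,22,7,11,19],[(4302,[0,5,2,1,5,2,2,4]),(1586,[1,5,2,2,8,2,2,2]),(5662,[1,8,2,4,2,8,3,5,8]),(293,[])],[8,2,5,5,9]),
  (1,[3,18,17,10,18],[(9446,[]),(292,[])],[4,2,4,2,5,2,1,3]),
  (39,[14,17,18,16,15,17,3,11,22,7,11,19],[(4302,[0,3,4,2,1,3]),(293,[]),(288,[]),(2158,[3,3,4,3,3,5]),(293,[]),(8718,[0,0,0,3,3,5]),(293,[]),(288,[])],[0,0,4,3,8,2,4,2]),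
  (1,[3,28,11,23,7,16],[(9454,[])],[4,3,9,3,3,9]),
  (40,[14,19,17,23,17,17,22,3,11,22,7,11,19],[(4302,[0,5,3,9,3,3,8]),(292,[]),(288,[]),(3410,[3,3,8,1,3]),(292,[]),(9222,[5,2,8,3,5,8]),(292,[])],[0,4,2,2,5,2,4]),
  (1,[3,29,10,15,16],[(9462,[])],[2,2,5,3,9,2,8,1]),
  (43,[14,14,19,16,22,17,17,23,3,11,22,7,11,19],[(4302,[0,0,5,2,8,3,3,9]),(7810,[3,0,2,5,2,5,2,2]),(293,[]),(5634,[3,8,2,5,3,3,8,1]),(161,[]),(116,[]),(136,[])],[0,2,1,5,3,5,3]),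
  (1,[3,1,7,26,10,22],[(9470,[])],[0,5,3,5,3,9,2,1]),
  (5,[17,23,17,17,18,16,22,3,7,10,29,26,11],[(6382,[3,9,3,3,4,2,8]),(293,[]),(8686,[9,3,5,8,2,5,2]),(292,[]),(7318,[5,3,5,3,5,2,1]),(5736,[]),(257,[]),(265,[])],[0,2,2,8,1,8,2]),
  (1,[3,7,5,29,11,26],[(9478,[])],[0,8,3,3,8,3,3,4]),
  (8,[14,23,16,16,22,16,18,16,3,11,23,7,10,19],[(5942,[0,9,2,2,8,2,4,2]),(288,[]),(8610,[1,5,3,0,5,2,2]),(292,[]),(288,[]),(3222,[5,9,3,5,3,5,8])],[2,5,3,3,5,9,2,2]),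
  (1,[3,10,22,7,10,12],[(9486,[]),(293,[])],[0,3,3,4,2,1,3,5]),
  (12,[14,16,16,19,16,15,17,3,11,23,11,22],[(8350,[0,2,2,5,2,1,3]),(6202,[0,4,2,8,1,8]),(6350,[0,4,2,4,3,3]),(293,[])],[0,3,0,5,3]),
  (1,[3,1,7,10,27,13],[(9494,[]),(288,[])],[8,1,3,9,2,9]),
  (12,[17,19,23,16,15,19,3,11,23,11,22],[(8350,[3,5,9,2,1,5]),(292,[]),(288,[]),(2878,[4,3,4,3,8,3,9]),(2898,[3,0,2,5,3,9,0]),(293,[]),(288,[])],[0,5,3,3,5,9,2,9]),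
  (1,[3,1,7,11,26,29,16],[(9502,[])],[0,5,2,8,1,8]),
  (8,[19,17,17,19,19,16,15,3,10,19,7,11,19],[(2138,[5,3,3,5,5,2,1]),(293,[]),(288,[]),(1434,[2,2,2,9,2,2]),(293,[]),(970,[0,4,2,8,2,1,3]),(257,[]),(264,[])],[1,8,3,5,3,4,3]),
  (1,[3,11,18,3,26],[(9510,[]),(292,[])],[0,0,3,3,9,2,2,4]),
  (12,[15,16,23,16,16,18,17,18,7,26,7,17,3],[(3834,[1,2,9,2,2,4,3,4]),(293,[]),(4322,[0,3,5,5,2,2,2,8]),(292,[]),(288,[]),(5626,[3,5,3,8,3,0,2]),(249,[]),(5737,[]),(264,[])],[2,2,2,9,0,3,4]),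
  (1,[3,7,15,10],[(9518,[]),(292,[])],[0,5,2,9,3,4,3,0]),
  (12,[17,22,16,16,16,7,26,7,17,3],[(3834,[3,8,2,2,2]),(5746,[0,5,8,3,5,3,0,2]),(292,[]),(3562,[5,9,2,8,2,5,3])],[0,4,3,4,3,5,3,9,3]),
  (1,[3,7,11,32],[(9526,[])],[1,5,3,8,3,0]),
  (11,[15,15,16,18,17,19,17,18,3,10,22,10,22,7],[(3242,[1,1,2,4,3,5,3,4]),(136,[]),(104,[]),(136,[]),(104,[]),(274,[3,8,2,4,3,4,3,0]),(252,[]),(5737,[]),(257,[]),(414,[0,0,2,9,2,5,2,5])],[3,8,2,4,2,5,5]),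
  (1,[3,29,16,29,3],[(9534,[]),(288,[])],[1,2,4,3,3,4,3,9]),
  (8,[16,15,16,19,16,23,17,18,3,1,10,23,7,10],[(8614,[2,1,2,5,2,9,3,4]),(293,[]),(288,[]),(9338,[1,2,2,5,9,0,3,4]),(288,[]),(5266,[1,3,9,0,2,4,2,2]),(5737,[]),(256,[]),(248,[])],[3,4,2,9,0,3]),
  (1,[3,19,10,9,10],[(9542,[]),(292,[])],[0,5,3,0,2,8]),
  (11,[14,19,17,22,16,18,16,15,3,11,23,7,10,15],[(4206,[0,5,3,8,2,4,2,1]),(293,[]),(288,[]),(4462,[3,4,3,3,4,2,8]),(293,[]),(9202,[0,4,2,2,5,8,3,8])],[0,2,5,5,9]),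
  (1,[3,7,11,19,7],[(9550,[]),(293,[])],[2,5,2,1,4,3,8,1]),
  (36,[14,16,18,16,19,19,16,18,3,11,23,7,10,15],[(4206,[0,2,4,2,5,5,2,4]),(9370,[0,2,4,2,5,2,8,3]),(293,[]),(2706,[0,9,2,9,2,2,5]),(292,[]),(288,[])],[3,4,2,5]),
  (1,[3,7,11,16,19,11],[(9558,[])],[5,3,5,3,9,3]),
  (39,[22,16,16,16,19,22,15,3,11,23,7,10,15],[(4206,[8,2,2,2,5,8,1]),(293,[]),(7802,[4,3,4,3,0,2,8]),(2582,[9,2,8,2,1]),(288,[])],[9,2,1,4,2]),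
  (1,[3,1,11,23,3,11,23],[(9566,[])],[2,2,8,2,4,2,4,3]),
  (11,[17,19,16,22,16,19,22,3,19,27,19,3,1],[(6130,[3,5,2,8,2,5,8]),(293,[]),(5314,[3,3,4,2,4,2,4]),(293,[]),(288,[]),(714,[0,2,5,2,4,2,2,4])],[0,8,1,2,5]),
  (1,[3,19,10,33,7],[(9574,[]),(292,[])],[0,4,2,1,2,4,2,4]),
  (9,[15,17,22,16,19,17,3,7,11,11,29,16],[(1634,[1,3,8,2,5,3]),(292,[]),(2862,[2,2,4,3,4,3,0,2]),(292,[]),(3166,[0,9,3,5,3,3,5]),(293,[])],[0,2,5,5,8,2,4,2]),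
  (1,[3,7,10,26,23,10],[(9582,[]),(292,[])],[9,2,4,2,4,3,3]),
  (12,[22,16,19,17,17,19,23,16,3,7,11,13,29,10,26],[(2234,[8,2,5,3,3,5,9,2]),(293,[]),(288,[]),(7882,[0,8,2,4,2]),(8634,[0,4,2,2,5,2,9,0]),(292,[]),(288,[])],[3,3,5,8,3,4,3]),
  (1,[3,11,11,18],[(9590,[])],[4,3,4,3,9]),
  (40,[16,19,16,22,15,22,17,3,7,17,18,3,16],[(7926,[2,5,2,8,1,8,3]),(293,[]),(288,[]),(4914,[0,4,2,4,3,9]),(292,[]),(6446,[0,3,0,5,2,4,2,5])],[0,4,3,8,2,1,2,4]),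
  (9,[14,14,16,18,17,17,22,17,3,10,22,7,10,14],[(3874,[0,0,2,4,3,3,8,3]),(292,[]),(8546,[2,4,2,5,2,1]),(292,[]),(8130,[3,4,3,3,8,3,5]),(288,[])],[2,2,9,2,1,4,2]),
  (1,[3,19,11,9,7,18],[(9602,[]),(293,[])],[9,2,4,3,3,4,3]),
  (8,[17,18,17,22,16,18,17,23,3,7,11,29,16,10],[(2582,[3,4,3,8,2,4,3,9]),(6302,[2,4,3,3,5,3,8]),(288,[]),(8250,[2,1,3,5,3,8,2]),(293,[])],[0,3,5,2,9,3,4,2]),
  (1,[3,7,27,28,17,33],[(9610,[]),(293,[]),(288,[])],[0,5,2,4,2,5,3,3]),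
  (11,[14,22,17,3,7,11,29,16,10],[(2582,[0,8,3]),(293,[]),(3266,[0,2,2,2,5,8,2]),(288,[]),(4514,[0,3,5,3,0,5,2,8]),(293,[])],[0,9,2,2,2,5]),
  (1,[3,1,11,22,27,28],[(9618,[]),(288,[])],[2,4,3,5,9,2,8,1]),
  (41,[16,23,16,18,17,22,16,19,3,10,19,10,18,7],[(7246,[2,9,2,4,3,8,2,5]),(293,[]),(2894,[0,8,2,4,3,0,2,5]),(6802,[2,8,2,1,4]),(288,[])],[4,2,9,2,2,4,2,4]),
  (1,[3,1,10,29,3,16,29],[(9626,[])],[0,0,2,5,3,5,5]),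
  (2,[14,16,15,18,17,18,16,16,3,29,11,32],[(6958,[0,2,1,4,3,4,2,2]),(293,[]),(288,[]),(2442,[0,5,2,2,5,9]),(288,[]),(1830,[3,9,2,4,2]),(292,[])],[3,5,3,5,3,3,5]),
  (36,[22,16,16,19,16,3,29,10,32],[(3302,[8,2,2,5,2]),(746,[2,5,2,4,2,8]),(292,[]),(288,[]),(7722,[2,5,2,2,5,8,3,8])],[1,2,5,2,8,2,5]),
  (1,[3,19,17,18,3,33],[(9638,[]),(292,[]),(288,[])],[0,2,2,5,8,3,5,9]),
  (8,[14,16,18,16,15,19,16,19,3,29,10,9,10],[(2914,[0,2,4,2,1,5,2,5]),(4218,[0,2,4,2,8,2,4,2]),(9122,[5,9,0,2,5,2,2,2]),(5737,[]),(265,[]),(256,[])],[2,2,4,2,2,5]),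
  (1,[3,10,19,10],[(9646,[]),(293,[]),(288,[])],[5,2,5,8,2,8]),
  (11,[19,16,18,16,19,17,14,3,1,29,3,26,7],[(6462,[5,2,4,2,5,3,0]),(292,[]),(6350,[5,2,5,8,2,5,2]),(293,[]),(288,[]),(618,[0,3,0,4,3,5,3,3]),(136,[]),(120,[]),(116,[])],[3,5,2,5,2,2,9,0]),
  (1,[3,7,11,33,10],[(9654,[]),(293,[]),(288,[])],[0,9,2,5,8,2,8,3]),
  (2,[16,19,17,19,22,17,17,3,7,17,28,27,7],[(3310,[2,5,3,5,8,3,3]),(292,[]),(6086,[1,4,2,5,2,9]),(288,[]),(5862,[0,9,2,5,2,4,2]),(292,[]),(288,[])],[2,4,2,4,2,1,4]),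
  (36,[14,19,17,23,16,18,16,15,3,7,17,28,27,7],[(3310,[0,5,3,9,2,4,2,1]),(9030,[3,4,2,5,3,0,5,2]),(288,[]),(2502,[5,2,5,5,8,3]),(265,[]),(5736,[]),(257,[]),(248,[])],[4,2,9,3,5,3,4]),
  (1,[3,19,7,10,19],[(9666,[]),(292,[]),(288,[])],[0,8,2,9,2,5]),
  (36,[16,18,17,18,17,18,17,18,3,1,7,17,10,23,11],[(5074,[2,4,3,4,3,4,3,4]),(288,[]),(8618,[0,2,9,0,3,4,3,3]),(4142,[5,2,2,4,2,8,3,8])],[0,5,8,2,4,2,2,2]),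
  (1,[3,28,3,11,26],[(9674,[]),(293,[]),(288,[])],[0,8,1,2,5,2,8]),
  (8,[18,16,16,18,16,22,3,28,3,10,17],[(8570,[4,2,2,4,2,8]),(292,[]),(4738,[0,5,2,8,2,5,3,3]),(6382,[3,9,0,3,3,5]),(288,[])],[5,2,2,2,8]),
  (1,[3,1,7,27,23,11],[(9682,[]),(288,[])],[1,8,3,4,2,2,9])]
theorem hD16 : allD2 lk B KW SW F A RL [] D16 2280 = true := by decide +kernel
def D17 : List (ℕ × Word × List (ℕ × Word) × Word) := [(11,[19,16,19,23,16,23,17,7,27,3,7,15],[(6150,[5,2,5,9,2,9,3]),(293,[]),(5370,[3,0,5,3,8,2,5]),(288,[]),(4558,[0,3,3,4,2,1,8,3]),(137,[]),(161,[]),(120,[])],[5,2,5,2,2,5,3]),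
  (1,[3,11,18,33],[(9690,[]),(292,[])],[3,4,2,4,3,3,4]),
  (9,[22,17,19,23,17,3,10,22,26,19],[(3854,[8,3,5,9,3]),(7018,[0,2,4,3,4,3,8,2,4]),(9670,[3,8,2,2,4,2]),(257,[]),(5736,[])],[4,3,3,8,3,3,5]),
  (1,[3,11,18,7],[(9698,[])],[5,3,5,3,9,2,5]),
  (3,[18,17,23,16,18,16,18,7,17,3,19,10],[(6630,[4,3,9,2,4,2,4]),(293,[]),(1418,[5,5,5,2,4,2,4,2]),(292,[]),(1342,[1,8,3,5,3,4])],[3,5,8,2,5,2,2]),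
  (9,[14,19,22,15,16,23,3,7,18,11,16,22],[(9482,[0,5,8,1,2,9]),(264,[]),(5736,[]),(256,[]),(249,[]),(9542,[1,3,8,1,2,5,9]),(293,[]),(6314,[1,1,3,5,2,4]),(288,[])],[0,5,3,5,3,0,2,8]),
  (11,[19,16,16,18,16,15,19,7],[(302,[5,2,2,4,2,1,5]),(288,[]),(2486,[0,2,2,5,9,2,8]),(288,[]),(3234,[0,2,2,8,2,8,2])],[0,8,2,1,4,2,2,5]),
  (1,[3,1,7,33,11,11],[(9714,[]),(112,[]),(108,[]),(104,[])],[0,4,3,5,2,1]),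
  (8,[14,22,16,15,18,16,3,10,18,33],[(3574,[0,8,2,1,4,2]),(293,[]),(2154,[0,3,3,8,3,5,9,3]),(288,[]),(9554,[0,4,3,3,5,8,2,9])],[4,2,1,2,5,2,2]),
  (100,[],[],[]),
  (1,[3,7,10],[(9726,[])],[]),
  (1,[14,18,16,19,19,23,16,18],[(9730,[0,4,2,5,5,9,2,4]),(12,[]),(12,[]),(12,[]),(9726,[0,0,0,4])],[]),
  (1,[14,18,16,19,19,23,16,18],[(9730,[0,4,2,5,5,9,2,4]),(17,[]),(17,[]),(17,[]),(12,[]),(12,[]),(12,[]),(16,[]),(16,[]),(9726,[0,0,2,9,3,4,3,5,2])],[]),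
  (6,[16,23,17,18,16,23,17,3,10],[(130,[2,9,3,4,2,9,3]),(161,[]),(136,[]),(126,[0,5,3,5,3,8,2,1]),(17,[]),(13,[]),(13,[]),(16,[]),(12,[]),(16,[]),(8,[]),(9726,[3,5,3,9,3,4,2,4])],[0,3,5,3,0,5,3]),
  (1,[7,17,18,7],[(9742,[]),(13,[]),(8,[]),(8,[]),(9726,[0,2,5,8,2,2,4,3])],[]),
  (6,[14,19,16,22,17,23,14,16,3],[(194,[0,5,2,8,3,9,0,2]),(160,[]),(136,[]),(126,[4,3,8,2,2,5,9,3]),(13,[]),(13,[]),(16,[]),(12,[]),(8,[]),(8,[]),(9726,[1,3,5,5,3,4,3,8]),(9737,[]),(9745,[])],[4,3,3,4,3,9,2,5]),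
  (1,[7,11,9,11],[(9750,[]),(120,[]),(116,[]),(112,[])],[5,3,3,8,3,3,9]),
  (9,[14,19,17,22,16,18,16,18,3],[(194,[0,5,3,8,2,4,2,4]),(160,[]),(136,[]),(126,[1,4,2,2,5,2,4]),(17,[]),(13,[]),(16,[]),(12,[]),(16,[]),(16,[]),(12,[]),(8,[]),(9726,[3,8,2,5,3,3,9]),(9737,[])],[0,5,2,2,2,5,8,3]),
  (1,[3,1],[(9758,[]),(160,[]),(136,[]),(108,[])],[4,3,0,5,2,9,0,2]),
  (9,[19,22,15,17,19,17,22,11,11],[(202,[5,8,1,3,5,3,8]),(161,[]),(136,[]),(198,[2,9,2,2,2,9,2,5]),(120,[]),(116,[]),(104,[]),(9754,[2,8,2,5,3,9,0,2]),(9745,[])],[2,5,2,1,5,3,5,8]),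
  (1,[7,11,17,27],[(9766,[]),(137,[]),(160,[]),(116,[])],[5,3,8,3,3,9,2]),
  (9,[14,17,19,22,16,15,3,7,11,14,16,7],[(8298,[0,3,5,8,2,1]),(306,[0,0,5,2,8,2,4,2,8]),(160,[]),(108,[]),(137,[]),(9754,[2,5,2,5,2,9]),(9744,[])],[4,3,8,2,8,3,4]),
  (1,[3,7,10,18,9,10],[(9774,[]),(120,[]),(161,[]),(137,[]),(104,[])],[0,4,2,2,4,2,2]),
  (13,[23,17,17,22,17,14,19,3,1,7,10,32],[(2314,[9,3,3,8,3,0,5]),(2318,[0,5,2,2,2,4,2,8]),(160,[]),(108,[]),(104,[]),(9778,[0,5,8,2,8,1,8]),(9736,[]),(9744,[]),(9737,[])],[0,3,0,5,2,5,8]),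
  (1,[3,7,29,27],[(9782,[]),(136,[]),(161,[]),(112,[])],[8,2,2,2,4]),
  (36,[15,17,19,16,16,19,16,22,3,7,11,33,11],[(9034,[1,3,5,2,2,5,2,8]),(292,[]),(288,[]),(4318,[0,8,2,5,9,3,8]),(136,[]),(120,[]),(112,[]),(104,[]),(9778,[9,3,4,2,9]),(9745,[]),(9737,[]),(9744,[]),(9736,[])],[5,2,5,2,4,3]),
  (1,[3,19,7,10,13],[(9790,[]),(120,[]),(161,[]),(137,[])],[5,2,1,4,3,4,3,3]),
  (14,[17,14,19,16,23,14,17],[(246,[3,0,5,2,9,0,3]),(9,[]),(9,[]),(9726,[2,8,2,4,3,5,3,0])],[0,9,0,2,4,2,2]),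
  (1,[11],[(9798,[]),(248,[])],[0,4,2,5,5,9,2,4]),
  (7,[16,15,17,23,17,19,17,11],[(390,[2,1,3,9,3,5,3]),(292,[]),(288,[]),(4318,[2,5,2,1,5,3,3,5]),(161,[]),(104,[]),(9794,[8,3,3,4,2,4]),(9744,[])],[5,8,3,3,4,3,0]),
  (1,[7,10,15,11],[(9806,[]),(256,[])],[2,8,3,5,5,5]),
  (37,[17,17,22,16,16,16,19,11],[(390,[3,3,8,2,2,2,5]),(292,[]),(354,[8,2,2,4,3,3]),(120,[]),(104,[]),(9754,[0,2,2,8,2,2,4]),(9744,[]),(9737,[])],[0,5,3,4,3,8,2]),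
  (1,[3,10],[(9814,[]),(265,[]),(257,[]),(248,[])],[0,5,5,9,2,8,1,8]),
  (37,[18,17,22,16,19,17,22,16,7,9,11],[(9810,[4,3,8,2,5,3,8,2]),(9744,[]),(9737,[]),(9814,[1,4,3,5,3,3]),(248,[]),(9802,[2,5,9,2,8,2,1]),(9736,[])],[3,8,1,2,4,2,8,2]),
  (1,[7,16,11,17],[(9822,[]),(249,[])],[5,3,3,8,3,3,5]),
  (14,[19,17,22,17,18,16,22],[(286,[5,3,8,3,4,2,8]),(9726,[0,0,0,3])],[0,5,5,8,2,5,5,9]),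
  (1,[11,13],[(9830,[])],[0,4,2,5,5,9,2,4]),
  (17,[17,22,16,16,18,17],[(286,[3,8,2,2,4,3]),(9,[]),(9,[]),(9726,[4,2,2,4,2,4,2])],[2,2,8,3,0,4,2]),
  (1,[10,10],[(9838,[])],[1,1]),
  (17,[14,14,19,16,18,16,16,16,19],[(286,[0,0,5,2,4,2,2,2,5]),(8,[]),(8,[]),(9726,[1,2,5,2,4,2,5,2])],[1,2,5,2,4,2,5,3]),
  (1,[10,13],[(9846,[])],[1,1]),
  (36,[14,14,18,17,17,23,16,16],[(286,[0,0,4,3,3,9,2,2]),(13,[]),(17,[]),(17,[]),(12,[]),(12,[]),(12,[]),(16,[]),(8,[]),(242,[3,4,2,9,3,5]),(257,[]),(9826,[0,2,4,2,5,8,1,3])],[3,0,5,9,2,5,2]),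
  (1,[7,11,14],[(9854,[])],[1,2,4,2,1,4,3,8]),
  (37,[14,16,19,19,22,16,19,19],[(286,[0,2,5,5,8,2,5,5]),(13,[]),(242,[2,8,2,5,3,3,5,9]),(249,[]),(9810,[0,5,2,1,5,2,2,5,3])],[9,2,4,3,3,5,2]),
  (1,[7,9,11,15],[(9862,[])],[5,3,8,2,5,2,2,9]),
  (37,[14,23,14,17,18,17],[(286,[0,9,0,3,4,3]),(17,[]),(17,[]),(17,[]),(8,[]),(242,[2,4,3,4,3,5,3,5]),(265,[]),(257,[]),(9818,[2,8,3,3,5,3]),(9736,[]),(9745,[])],[8,1,3,5,3,4,3,5]),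
  (1,[7,9,11],[(9870,[]),(292,[])],[4,2,2]),
  (9,[16,16,16,18,16,16,22,3],[(446,[2,2,2,4,2,2,8]),(288,[]),(370,[3,3,5,5,5,3,4,3]),(108,[]),(137,[]),(120,[]),(104,[]),(9786,[2,5,2,5,8,2,8]),(9745,[]),(9737,[])],[1,4,2,9]),
  (1,[3,1,7,16,11],[(9878,[]),(292,[]),(288,[])],[0,0,2,1,5,3,5,3]),
  (13,[16,15,22,17,17,19,16,22,3],[(446,[2,1,8,3,3,5,2,8]),(288,[]),(370,[0,3,3,5,9,2,5,9]),(120,[]),(160,[]),(136,[]),(9794,[4,2,5,5,8,3]),(9737,[]),(9744,[]),(9737,[])],[0,4,3,3,5,3,5]),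
  (1,[3,1,7,10,22,10],[(9886,[])],[3,4,3,3,9,2,4]),
  (13,[14,19,16,22,17,23,17,18,3],[(446,[0,5,2,8,3,9,3,4]),(288,[]),(370,[4,2,8,1,3,3,5]),(108,[]),(137,[]),(104,[]),(9786,[3,4,3,9,3,5,2,5]),(9737,[]),(9745,[]),(9737,[])],[4,3,3,4,3,0,9]),
  (1,[3,7,5,11],[(9894,[])],[4,2,8,2,1,2,4]),
  (7,[18,16,23,14,17,19,11],[(458,[4,2,9,0,3,5]),(293,[]),(288,[]),(3302,[0,8,2,2,2,5,8,1]),(292,[]),(288,[]),(9898,[0,4,2,5,5,9,2,4]),(9744,[])],[9,2,8,2,2,8]),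
  (1,[7,11,14,10],[(9902,[])],[9,2,9,0,2,5]),
  (37,[14,16,18,16,15,19,11],[(458,[0,2,4,2,1,5]),(293,[]),(1018,[0,0,4,3,3,4,2,2]),(257,[]),(265,[]),(257,[]),(9818,[9,3,4,3,5,5,3]),(9736,[]),(9745,[])],[0,0,4,2,9,0,2,5]),
  (1,[7,11,15],[(9910,[]),(293,[])],[2,8,3,5,5,5]),
  (9,[22,17,23,17,18,16,23,10],[(386,[8,3,9,3,4,2,9]),(257,[]),(249,[]),(278,[0,0,2,4,2,1,5,2]),(256,[]),(264,[]),(256,[]),(248,[]),(9810,[3,0,5,2,2,5,3,4]),(9744,[])],[1,2,4,2,2,4,2,9]),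
  (1,[7,9,10],[(9918,[]),(293,[])],[9,2,2,2,4]),
  (36,[19,19,16,19,16,19,16,22,10],[(386,[5,5,2,5,2,5,2,8]),(398,[2,5,8,3,3,5,2]),(9906,[0,5,3,5,3,4,3]),(9745,[]),(9737,[])],[2,8,1,2,2,5,2]),
  (1,[3,1,11,13],[(9926,[])],[0,2,2,2,5,2,1,8]),
  (3,[19,19,16,19,16,15,3,1],[(298,[5,5,2,5,2,1]),(120,[]),(116,[]),(334,[3,5,3,0,5,2,9,0]),(9842,[1,3,8,2,2,9,3,4]),(9745,[]),(9737,[])],[0,0,5,2,1,5,2,9]),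
  (1,[3,1,10,10],[(9934,[]),(292,[])],[0,0,5,2,5,2,2,8]),
  (6,[18,16,16,23,16,3,1],[(298,[4,2,2,9,2]),(102,[2,8,1,3,4,3,9]),(16,[]),(16,[]),(16,[]),(13,[]),(16,[]),(9,[]),(9,[]),(9726,[8,3,4,2,8,3,5]),(9737,[]),(9745,[])],[1,2,2,5,2,4,2]),
  (1,[3,1,19,10,14,7],[(9942,[]),(293,[]),(288,[])],[2,2,4,2,8,3,8,2]),
  (10,[14,19,17,17,22,16,16,3,1],[(298,[0,5,3,3,8,2,2]),(137,[]),(104,[]),(9714,[0,8,1,2,2,8]),(108,[]),(160,[]),(108,[]),(9786,[8,2,4,2,2,5])],[2,9,2,2,2,5,2,5]),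
  (1,[3,19,11,9,7],[(9950,[]),(293,[]),(288,[])],[0,2,4,2,2,9,0,3]),
  (17,[14,22,16,18,16,16,16,22,3,1],[(298,[0,8,2,4,2,2,2,8]),(120,[]),(9762,[0,5,5,5,3,8,2])],[0,0,2,4,2,9,2]),
  (1,[3,1,10,13],[(9958,[])],[9,2,2,2,9,3,3]),
  (17,[14,19,17,17,23,16,15,3,1],[(298,[0,5,3,3,9,2,1]),(120,[]),(9770,[0,4,2,8,2,4,2,4])],[4,2,2,5,9,3,8]),
  (1,[7,16,10,26],[(9966,[])],[0,5,3,4,3,3,9]),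
  (5,[14,17,14,19,16,23,3,7],[(3306,[0,3,0,5,2,9]),(293,[]),(288,[]),(3466,[1,2,2,2,5,2,9]),(9858,[0,5,2,2,5,2,4]),(9736,[]),(9745,[]),(9737,[])],[0,3,4,3,5,3,4]),
  (1,[3,29,11,33],[(9974,[]),(293,[]),(288,[])],[4,2,2,5,8,1]),
  (13,[18,17,14,19,16,22,3,7],[(3306,[4,3,0,5,2,8]),(293,[]),(288,[]),(3234,[2,2,5,2,5,3,0,2]),(137,[]),(116,[]),(160,[]),(9778,[3,3,5,9,2,5,9,0]),(9745,[]),(9732,[])],[0,3,3,8,1,2,5,3]),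
  (1,[3,7,33,10],[(9982,[])],[0,5,2,9,3,3,4]),
  (12,[18,16,18,16,19,16,19,3,10],[(806,[4,2,4,2,5,2,5]),(6102,[1,4,3,8,1]),(292,[]),(9906,[1,2,5,2,5]),(9736,[]),(9745,[]),(9737,[])],[1,3,3,4,2,8,2,1]),
  (1,[3,19,7,10],[(9990,[])],[0,8,2,2,8,2,1,5]),
  (12,[14,14,16,22,16,15,16,7,9],[(426,[0,0,2,8,2,1,2]),(292,[]),(288,[]),(1002,[0,2,1,4,3,9,3,5]),(136,[]),(120,[]),(112,[]),(104,[]),(9778,[0,4,2,5,2,9,0]),(9745,[]),(9736,[])],[2,2,4,2,1,4,2,4]),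
  (1,[3,1,7,9,11,13],[(9998,[]),(293,[]),(288,[])],[4,2,4,2,4,2,8,3]),
  (13,[14,18,16,19,23,17,22,7,9],[(426,[0,4,2,5,9,3,8]),(292,[]),(288,[]),(610,[3,5,5,2,9]),(293,[]),(9874,[1,3,4,2,4,2,5]),(9736,[])],[2,5,5,9,2,9]),
  (1,[7,9,11,9],[(10006,[])],[2,1,5,8,3,4,3,4]),
  (6,[15,19,17,23,17,17,22,7,10],[(522,[1,5,3,9,3,3,8]),(750,[5,9,0,2,2,2,5,2]),(293,[]),(9962,[9,3,5,2,5,2,2,4]),(9736,[])],[8,2,1,2,5]),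
  (1,[7,17,17],[(10014,[])],[0,0,2,2,4,3,9,3]),
  (9,[14,17,17,23,16,15,19,7,10],[(522,[0,3,3,9,2,1,5]),(802,[3,4,2,5,3,8,1]),(9986,[2,5,3,5,3,5]),(9736,[]),(9744,[]),(9736,[])],[3,0,4,3,4,3,4]),
  (1,[3,1,7,11,19,27],[(10022,[]),(292,[])],[0,2,5,8,3,5,3]),
  (11,[18,17,19,17,19,22,7,10],[(522,[4,3,5,3,5,8]),(292,[]),(526,[2,4,3,5,2,5,9]),(10018,[0,2,2,8,3,9]),(9744,[]),(9737,[]),(9745,[]),(9736,[]),(9732,[])],[3,4,2,2,2,5,8,1]),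
  (1,[3,1,10,19,10],[(10030,[]),(288,[])],[2,8,3,5,3]),
  (36,[19,23,16,16,19,16,23,11,11],[(9850,[5,9,2,2,5,2,9]),(9737,[]),(9745,[]),(9737,[]),(9758,[9,2,4,3,9,2,9]),(136,[]),(160,[]),(116,[]),(9770,[3,0,9,2,5,3,3,5])],[1,2,5,3,3,4,2]),
  (1,[7,11,17,17],[(10038,[]),(293,[])],[9,0,2,4,2,4,2]),
  (36,[16,19,16,23,17,17,18,16,10,10],[(462,[2,5,2,9,3,3,4,2]),(1018,[2,5,3,5,9,0,3]),(257,[]),(265,[]),(257,[]),(249,[]),(9818,[9,2,4,2,1]),(9736,[]),(9745,[])],[2,5,2,1,4,3,9]),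
  (1,[7,26,11,26],[(10046,[])],[3,5,3,9,3,4,3]),
  (12,[19,17,22,15,17,17,10,13],[(9834,[5,3,8,1,3,3]),(9737,[]),(9745,[]),(9737,[]),(9758,[2,5,2,5,3,9,2]),(160,[]),(120,[]),(161,[]),(9786,[8,2,2,4,2,4,2,9]),(9744,[]),(9737,[])],[5,3,3,5,8,3,8]),
  (1,[3,11,18,7],[(10054,[]),(293,[])],[2,5,5,3,3,5,3,5]),
  (4,[17,18,17,17,3,1,11],[(582,[3,4,3,3]),(292,[]),(578,[5,2,4,2,2,5,3,4]),(10042,[5,2,1,4,3,0,5,2])],[0,2,5,3,4,3,5]),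
  (1,[7,17,27],[(10062,[]),(292,[])],[1,3,8,2,5,2,8,3]),
  (5,[19,17,18,17,22,17,17,3,1,11],[(582,[5,3,4,3,8,3,3]),(292,[]),(578,[5,3,3,4,3,9,0,2]),(9842,[0,4,3,8,1,2])],[8,2,1,4,2,4,2]),
  (1,[7,10,14],[(10070,[]),(292,[])],[2,9,0,2,5,3,3]),
  (8,[22,15,17,18,17,17,19,19,3,1,11],[(582,[8,1,3,4,3,3,5,5]),(288,[]),(714,[0,0,2,2,2,5,2,8]),(10018,[2,9,3,4,3,5,5]),(9737,[]),(9732,[])],[1,3,3,9,2,4,2]),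
  (1,[3,10,19,11],[(10078,[]),(292,[]),(288,[])],[0,5,5,3,5,5]),
  (9,[14,14,14,17,18,16,16,16,3,1,11],[(582,[0,0,0,3,4,2,2,2]),(386,[0,3,0,2,4,2,5,2]),(249,[]),(9810,[0,2,5,2,1,4,2,5]),(9745,[])],[0,0,0,4,2,2,2,4]),
  (1,[3,7,5,10,13],[(10086,[]),(292,[]),(288,[])],[3,9,2,8,2]),
  (9,[14,18,16,18,16,22,16,3,1,11],[(582,[0,4,2,4,2,8,2]),(292,[]),(426,[8,2,4,3,3,5,3]),(293,[]),(288,[]),(9898,[1,5,3,9,0,2,2,5])],[8,2,5,9,0,3,4,3]),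
  (1,[3,7,5,16,11],[(10094,[]),(292,[]),(288,[])],[5,5,3,3,5,3,5]),
  (10,[16,19,19,19,16,3,7,5],[(378,[2,5,5,5,2]),(264,[]),(257,[]),(265,[]),(249,[]),(1346,[1,8,2,4,2,4,3,3]),(293,[]),(10034,[5,9,3,5,3,9])],[4,2,8,3,3,8,3,3]),
  (1,[3,7,10,26],[(10102,[]),(293,[]),(288,[])],[0,5,5,3,5,3,3,5]),
  (11,[17,17,23,16,19,17,17,3,7,5],[(378,[3,3,9,2,5,3,3]),(264,[]),(249,[]),(1006,[2,4,3,8,2,5,3,8]),(293,[]),(10066,[2,2,2,9,3,3,8]),(9737,[]),(9732,[])],[0,5,2,8,1,3,4,3,4]),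
  (1,[3,18,27,27],[(10110,[]),(292,[])],[0,0,0,5,2,2,2]),
  (13,[17,17,18,16,19,16,3,7,5],[(378,[3,3,4,2,5,2]),(256,[]),(265,[]),(256,[]),(7754,[5,3,5,9,2,2,2,4]),(292,[]),(9922,[1,5,8,3,3,4,3,3]),(9744,[]),(9737,[]),(9745,[])],[2,5,2,4,2,2,8]),
  (1,[3,7,29,11,9,26],[(10118,[])],[0,0,2,5,3,5,5,3,4]),
  (36,[14,16,16,22,16,19,16,3,7,5],[(378,[0,2,2,8,2,5,2]),(257,[]),(265,[]),(256,[]),(252,[]),(9398,[1,3,5,2,8,3,0,4]),(293,[]),(288,[]),(10034,[0,2,2,8,2,1,5,8]),(9745,[]),(9736,[]),(9744,[])],[0,5,8,2,4,3,3]),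
  (1,[3,18,16,27],[(10126,[]),(293,[]),(288,[])],[1,5,2,2,2]),
  (6,[17,19,16,15,16,19,17,3,7,11],[(2846,[3,5,2,1,2,5,3]),(293,[]),(288,[]),(5998,[5,3,5,9,2,5,8]),(292,[]),(10130,[0,4,3,0,5,9,2,2,5]),(9744,[]),(9737,[]),(9745,[]),(9736,[]),(9732,[])],[0,2,1,5,2,4,2,9]),
  (1,[3,7,11,19,7],[(10134,[]),(293,[]),(288,[])],[8,2,2,2,8,3,5,9]),
  (7,[18,17,19,23,14,17,17,3,7,11],[(2846,[4,3,5,9,0,3,3]),(1258,[3,3,4,2,2,9]),(292,[]),(288,[]),(9882,[0,0,3,5,3,9,2,4]),(9744,[]),(9736,[]),(9732,[])],[8,2,1,3,4,3]),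
  (1,[3,7,5,10,10],[(10142,[]),(292,[])],[0,2,1,4,3,8,1,8]),
  (9,[15,18,17,19,19,17,22,3,7,11],[(2846,[1,4,3,5,5,3,8]),(6134,[4,3,8,1,3,9,3,8]),(292,[]),(288,[]),(10082,[5,8,3,8,1]),(9737,[]),(9745,[]),(9736,[]),(9732,[])],[1,2,2,2,4,3,3,4]),
  (1,[3,7,9,26,7],[(10150,[]),(293,[]),(288,[])],[3,5,2,2,5,3,5,2]),
  (12,[16,23,16,18,17,19,17,17,3,11,13],[(758,[2,9,2,4,3,5,3,3]),(293,[]),(446,[0,3,5,2,2,5,2,4]),(9890,[1,3,4,2,5,3,9]),(9737,[]),(9745,[]),(9732,[])],[1,8,2,2,8,2]),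
  (1,[3,1,7,33,11,11],[(10158,[]),(292,[])],[1,2,5,2,5,2,2,5]),
  (9,[22,17,14,19,17,18,16,3,10,10],[(746,[8,3,0,5,3,4,2]),(292,[]),(288,[]),(6322,[1,5,3,3,9,2]),(10154,[0,2,2,2,5,8,2,9]),(9737,[])],[3,4,3,0,2,4,3]),
  (1,[3,19,10,9],[(10166,[])],[0,0,3,4,3,5,3,9]),
  (12,[17,19,16,22,17,19,17,3,10,13],[(790,[3,5,2,8,3,5,3]),(288,[]),(1902,[2,4,3,5,2,1,2]),(9946,[2,2,8,3,3,8,3,5]),(9737,[]),(9745,[]),(9737,[]),(9732,[])],[0,8,2,4,2,5,9]),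
  (1,[3,29,3,10,13],[(10174,[])],[8,2,5,3,3,5,9]),
  (10,[14,17,17,22,17,18,16,7,11,9],[(970,[0,3,3,8,3,4,2]),(5736,[]),(257,[]),(252,[]),(5737,[]),(4926,[2,1,5,3,9,3,5,8]),(293,[]),(10170,[0,0,9,2,4,2,9]),(9744,[]),(9737,[]),(9732,[])],[1,8,3,3,5,3,4]),
  (1,[3,1,7,33],[(10182,[]),(292,[])],[0,2,1,3,5,2,4,3,4]),
  (11,[14,19,16,15,18,17,23,17,7,11,9],[(970,[0,5,2,1,4,3,9,3]),(256,[]),(5737,[]),(256,[]),(252,[]),(382,[0,5,8,1]),(293,[]),(288,[]),(9882,[8,1,2,2,2,5,8]),(9744,[]),(9737,[]),(9745,[])],[9,3,3,5,2,4,2,4])]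
theorem hD17 : allD2 lk B KW SW F A RL [] D17 2422 = true := by decide +kernel
def D18 : List (ℕ × Word × List (ℕ × Word) × Word) := [(1,[3,11,18],[(10190,[]),(292,[]),(288,[])],[2,1,5,8,3,4,3,5]),
  (12,[16,16,18,16,23,17,7,11,9],[(970,[2,2,4,2,9,3]),(248,[]),(966,[1,3,8,2,4,2,4,2]),(293,[]),(288,[]),(10186,[0,0,9,2,2,4,2,4]),(9744,[]),(9737,[]),(9745,[]),(9736,[]),(9732,[])],[3,8,3,4,2,9,0]),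
  (1,[3,1,7,9,10,10],[(10198,[]),(293,[])],[1,1,4,2,5,2,2,5]),
  (12,[23,17,19,17,17,19,16,7,11,9],[(970,[9,3,5,3,3,5,2]),(249,[]),(966,[1,8,2,2,8,2,4]),(292,[]),(10186,[2,1,8,3,4,3,4]),(9736,[])],[3,5,3,3,4,2]),
  (1,[7,10,26,3],[(10206,[]),(292,[]),(288,[])],[2,5,5,5,2,1,2]),
  (8,[15,17,19,22,7,11,11],[(530,[1,3,5,8]),(292,[]),(2970,[0,8,1,8]),(292,[]),(288,[]),(10194,[0,2,4,2,5,9,0])],[9,2,9,3,4,3,0,4]),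
  (1,[3,1,29,11],[(10214,[]),(293,[]),(288,[])],[2,4,2,2,5,5,9]),
  (8,[14,16,22,16,15,19,7,11,11],[(530,[0,2,8,2,1,5]),(1558,[0,0,2,2,4,2,4,2,9]),(10058,[3,8,2,4,3,0,2,4]),(9737,[]),(9745,[])],[2,4,2,5,8,2,2]),
  (1,[3,1,19,11,13],[(10222,[]),(292,[])],[0,3,0,9,2,2,2,4]),
  (6,[14,14,19,16,16,19,22,17,7,11,13],[(466,[0,0,5,2,2,5,8,3]),(293,[]),(1018,[8,2,5,3,3,5,9,2]),(264,[]),(256,[]),(249,[]),(9826,[0,9,3,5,3,5,3,8]),(9744,[])],[3,4,3,9,2,5,3]),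
  (1,[7,27,27,10],[(10230,[]),(292,[])],[3,4,3,8,1,2,2,2]),
  (8,[17,17,18,16,19,16,15,7,10,10],[(518,[3,3,4,2,5,2,1]),(288,[]),(7542,[0,2,5,3,3,5,3,5]),(293,[]),(10194,[0,2,5,3,3]),(9736,[]),(9745,[]),(9736,[])],[2,9,2,2,2,9,3]),
  (1,[3,7,5,10,27],[(10238,[])],[2,5,2,4,2,1,8]),
  (9,[14,17,17,19,23,14,16,7,10,10],[(518,[0,3,3,5,9,0,2]),(462,[0,0]),(293,[]),(9906,[0,3,5,2,2,5,9,3]),(9737,[]),(9732,[])],[5,3,3,5,5,3,5]),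
  (1,[3,1,10,29,11],[(10246,[]),(293,[]),(288,[])],[0,2,5,5,3,3,8]),
  (12,[15,17,18,16,22,17,22,7,10,10],[(518,[1,3,4,2,8,3,8]),(774,[4,3,8,2,1,3,9]),(288,[]),(10242,[2,2,2,4,3]),(9737,[]),(9744,[]),(9737,[])],[8,2,2,4,2,4,2,4]),
  (1,[3,7,11],[(10254,[]),(293,[])],[1,2,5,9,2,5]),
  (12,[14,16,18,16,19,16,7,10,10],[(518,[0,2,4,2,5,2]),(734,[0,3,0,2,4,3,4,3,4]),(292,[]),(10170,[3,3,5,3,3,5,2,4]),(9745,[])],[2,2,9,3,3,4,3,8]),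
  (1,[3,7,11,19,11],[(10262,[]),(293,[]),(288,[])],[1,1,5,2,2,4,3,4]),
  (2,[16,22,16,18,16,15,7,10,13],[(526,[2,8,2,4,2,1]),(386,[2,5,2,5,9,3,5]),(249,[]),(9810,[3,5,9,3,4,3,8])],[2,5,3,3,5,2,4]),
  (1,[7,27,27],[(10270,[])],[1,4,2,4,3,5,3,0]),
  (8,[19,16,15,19,16,16,18,7,10,13],[(526,[5,2,1,5,2,2,4]),(292,[]),(288,[]),(1118,[0,3,0,9,2,2,5,3,9]),(10066,[1,3,4,3,5,3,3,8]),(9745,[]),(9737,[]),(9744,[]),(9736,[]),(9732,[])],[0,4,2,8,3,4,2,8]),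
  (1,[3,11,19,11],[(10278,[]),(288,[])],[2,9,2,4,3,5,3,3]),
  (2,[18,17,19,17,14,18,16,23,3,18,7],[(9898,[4,3,5,3,0,4,2,9]),(9737,[]),(9744,[]),(10022,[8,3,0,5,2,1,4,2]),(9882,[0,2,5,3,9,0,2]),(9744,[]),(9737,[]),(9745,[])],[2,2,4,2,8,2,2]),
  (1,[3,1,7,11,33],[(10286,[])],[4,3,3,5,9,2,5]),
  (2,[15,16,18,16,19,16,15,17,3,1,7,11],[(2930,[1,2,4,2,5,2,1,3]),(293,[]),(288,[]),(8190,[2,2,5,2,8,2,5,9]),(292,[]),(9986,[2,9,2,5,2])],[0,5,5,2,8,2,2]),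
  (1,[3,7,11,32],[(10294,[])],[2,2,5,5,8,3,8,1]),
  (8,[14,22,15,16,16,18,16,3,1,7,11],[(2930,[0,8,1,2,2,4,2]),(293,[]),(288,[]),(1002,[0,3,5,8,2,5,2,5]),(108,[]),(161,[]),(137,[]),(9778,[0,0,3,5,3,5,3,0,2]),(9736,[]),(9744,[]),(9737,[])],[4,3,0,2,5,3,8]),
  (1,[3,1,7,16],[(10302,[])],[5,9,3,5,3]),
  (4,[17,19,23,14,17,3,1,11,11],[(9962,[3,5,9,0,3]),(9736,[]),(9744,[]),(9822,[1,3,5,2,2,5,8,3]),(257,[]),(265,[]),(257,[]),(249,[]),(9818,[2,1,5,2,2,8,3]),(9736,[]),(9745,[])],[2,2,5,8,3,8,2]),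
  (1,[7,16,27],[(10310,[]),(292,[])],[1,4,3,3,4,3,3,9]),
  (8,[17,19,19,19,17,23,16,3,1,11,11],[(9962,[3,5,5,5,3,9,2]),(9736,[]),(9744,[]),(9737,[]),(9918,[0,4,2,4,2,5,8,2]),(293,[]),(10314,[3,8,1,3,0,4,2,2]),(9737,[]),(9744,[]),(9732,[])],[0,8,3,5,3,9,2,8]),
  (1,[3,7,17,18,11],[(10318,[]),(292,[]),(288,[])],[8,3,3,4,3,5,9]),
  (9,[15,16,16,16,18,16,3,1,11,11],[(9962,[1,2,2,2,4,2]),(9736,[]),(9745,[]),(9737,[]),(9814,[1,4,2,2,8,3,4]),(5736,[]),(248,[]),(9818,[0,2,5,2,5,2,2,2]),(9737,[]),(9744,[]),(9736,[])],[3,0,5,2,5,8,3]),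
  (1,[3,7,11,22,3,26],[(10326,[]),(293,[]),(288,[])],[4,2,2,5,2,1]),
  (36,[18,16,19,16,16,22,3,1,11,11],[(9962,[4,2,5,2,2,8]),(9736,[]),(9744,[]),(10270,[3,0,5,2,1,5,2]),(10066,[9,2,4,2,1,4,3,4])],[0,3,3,4,2,8,3,8]),
  (1,[7,10,9],[(10334,[]),(292,[])],[2,8,2,4,3,9,2,9]),
  (36,[15,17,19,23,16,16,22,3,1,11,11],[(9962,[1,3,5,9,2,2,8]),(9736,[]),(9744,[]),(10310,[3,5,2,2,4,3,4]),(292,[]),(10274,[3,5,2,1,3,4,3,5])],[1,3,4,3,5,9,2,8]),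
  (1,[7,9,10,14],[(10342,[]),(292,[])],[1,3,8,3,5,3,3,5]),
  (9,[14,16,19,19,17,3,1,11,13],[(9970,[0,2,5,5,3]),(9737,[]),(9732,[]),(10030,[8,2,2,4,2,1,5]),(10018,[2,5,2,2,5,8,1]),(9737,[]),(9745,[]),(9736,[])],[0,0,2,1,5,2,5]),
  (1,[3,11,11,19,10],[(10350,[])],[0,5,5,3,3,5,3,5]),
  (9,[16,19,22,16,16,16,23,14,3,1,11,13],[(9970,[2,5,8,2,2,2,9,0]),(9838,[2,9,0,2,5,3,3]),(292,[]),(10042,[8,1,3,8,3]),(9736,[])],[4,2,8,1,3,3,4]),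
  (1,[3,11,19,10],[(10358,[]),(293,[])],[2,4,2,4,2,1,3,9]),
  (7,[19,16,15,18,17,23,17,3,1,18],[(634,[5,2,1,4,3,9,3]),(292,[]),(288,[]),(5582,[1,5,2,4,2,4,2]),(293,[]),(9978,[1,8,3,5,3,9,2,9]),(9744,[]),(9737,[]),(9745,[]),(9732,[])],[3,4,3,8,2]),
  (1,[3,10,23,7,11,15],[(10366,[])],[5,2,2,9,0,3,5]),
  (11,[18,17,19,22,15,16,19,3,1,18],[(634,[4,3,5,8,1,2,5]),(293,[]),(5250,[1,5,2,5,2,2,4,2]),(293,[]),(10082,[8,3,5,3,0,9]),(9737,[]),(9745,[])],[1,5,8,2,4,2,2,8]),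
  (1,[3,19,7,11,11],[(10374,[]),(293,[])],[2,4,2,1,2,4,3,8]),
  (10,[22,17,19,22,16,18,3,7,5,11],[(4086,[8,3,5,8,2,4]),(292,[]),(288,[]),(2886,[0,3,5,2,2,5,3,8]),(9986,[0,4,3,4,2,2]),(9737,[]),(9745,[]),(9736,[]),(9732,[])],[0,2,1,3,4,2,8,3]),
  (1,[3,7,11,17],[(10382,[])],[2,2,5,2,9,2,1,5]),
  (12,[19,17,22,17,18,17,14,3,7,5,11],[(4086,[5,3,8,3,4,3,0]),(292,[]),(288,[]),(4710,[2,1,3,5,3,3,5,8]),(292,[]),(10042,[8,2,4,2,5,5,2]),(9744,[]),(9736,[]),(9745,[])],[0,3,4,2,2,5,2,8]),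
  (1,[3,19,16,27,7],[(10390,[])],[2,1,5,3,5,9,0]),
  (8,[14,14,18,16,19,19,23,17,19,3,7,5,10],[(1310,[0,0,4,2,5,5,9,3,5]),(446,[0,0,5,3,3,5]),(293,[]),(288,[]),(9898,[5,3,0,5,2,4,3,3]),(9736,[])],[1,5,3,4,3,4,3,9]),
  (1,[7,26,3,19],[(10398,[])],[1,3,8,2,4,2,1,5]),
  (8,[14,17,19,19,17,18,17,17,3,7,5,10],[(1310,[0,3,5,5,3,4,3,3]),(292,[]),(3094,[2,2,4,3,4,2,1]),(10026,[2,5,5,2,2,9,2])],[0,8,3,3,5,3,0,5]),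
  (1,[3,7,29,11,9,16],[(10406,[]),(293,[]),(288,[])],[0,8,3,8,3,3]),
  (8,[16,16,19,17,14,19,3,7,9,11],[(1958,[2,2,5,3,0,5]),(6730,[0,2,9,2,2,2,5]),(293,[]),(288,[]),(9890,[5,2,4,2,4,2,5,5]),(9745,[])],[0,2,5,2,4,2,4,3]),
  (1,[3,1,28,11,26,3],[(10414,[]),(292,[]),(288,[])],[3,4,2,2,4,3,0]),
  (37,[15,17,19,16,22,16,18,3,7,9,11],[(1958,[1,3,5,2,8,2,4]),(293,[]),(288,[]),(9574,[1,3,5,2,2,4,3,4]),(292,[]),(10170,[2,4,3,4]),(9745,[])],[3,8,2,2,4,3,3]),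
  (1,[3,7,5,26,10],[(10422,[])],[2,8,2,2,4,3,4]),
  (8,[19,22,15,16,19,23,3,7,10,10],[(3098,[5,8,1,2,5,9]),(293,[]),(5506,[0,4,3,3,4,3,3,4]),(292,[]),(10234,[0,3,3,4,2,5,2,5]),(9737,[]),(9744,[]),(9737,[]),(9732,[])],[1,5,3,5,8,3,3,5]),
  (1,[3,7,5,10,26],[(10430,[]),(293,[]),(288,[])],[3,3,4,2,4,2,8]),
  (10,[14,19,19,16,22,3,7,10,10],[(3098,[0,5,5,2,8]),(292,[]),(7442,[3,4,3,4,2,1,3]),(10250,[0,2,5,5,3,5,8]),(9744,[]),(9736,[]),(9745,[])],[2,1,5,2,4]),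
  (1,[3,1,7,11,23,11],[(10438,[])],[2,8,2,1,8,3,5]),
  (41,[17,14,19,17,19,17,22,3,7,10,10],[(3098,[3,0,5,3,5,3,8]),(2118,[2,5,3,8,1,2,4,2]),(292,[]),(10418,[3,5,8,2,5,2,1]),(9736,[]),(9745,[]),(9736,[]),(9732,[])],[2,1,4,3,5,5,3,3,9]),
  (1,[3,7,29,11,17],[(10446,[]),(293,[]),(288,[])],[0,4,3,0,5,2,9,3]),
  (36,[19,16,16,18,17,23,17,3,7,10,13],[(1654,[5,2,2,4,3,9,3]),(288,[]),(7522,[0,8,3,5,9,0,2,4]),(293,[]),(288,[]),(10162,[0,2,8,2,4]),(9745,[]),(9736,[]),(9732,[])],[0,2,5,2,5,2,5,9]),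
  (1,[3,1,7,17,18],[(10454,[]),(293,[]),(288,[])],[0,0,4,3,5,3,5,9,2]),
  (36,[18,16,18,16,16,19,19,3,7,10,13],[(1654,[4,2,4,2,2,5,5]),(1170,[8,3,0,5,2,2]),(293,[]),(288,[]),(9882,[9,2,5,2,5,5,2]),(9744,[]),(9737,[]),(9745,[])],[1,3,8,2,4,2,9]),
  (1,[3,7,11,13],[(10462,[]),(292,[])],[0,9,3]),
  (12,[19,22,17,17,19,17,18,7,9,11,9],[(9906,[5,8,3,3,5,3,4]),(9745,[]),(9894,[0,5,8,2,2,2,8,1]),(293,[]),(288,[]),(9898,[0,2,5,5,2,5,2,8]),(9736,[]),(9744,[]),(9732,[])],[1,3,0,5,3,4,3,0]),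
  (1,[3,7,27],[(10470,[]),(292,[]),(288,[])],[4,2,2,2,5,5,5]),
  (3,[14,16,15,18,16,16,18,7,9,11,13],[(394,[0,2,1,4,2,2,4]),(256,[]),(252,[]),(264,[]),(934,[3,8,3,5,3,5,3]),(293,[]),(10210,[1,4,2,4,3,3,5]),(9737,[]),(9745,[]),(9737,[])],[2,5,5,5,2,2,2,8]),
  (1,[3,1,19,10,10],[(10478,[]),(292,[]),(288,[])],[0,5,3,5,3,5,3,0,9]),
  (6,[16,23,17,19,17,14,19,7,9,11,13],[(394,[2,9,3,5,3,0,5]),(256,[]),(252,[]),(264,[]),(926,[0,0,2,4,3,5,3,5]),(288,[]),(10058,[5,2,8,3,0,2,4,3]),(9737,[]),(9744,[]),(9737,[])],[0,8,1,8,2,5,9]),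
  (1,[3,1,7,11,11],[(10486,[])],[5,8,2,2,4,2,1]),
  (11,[16,19,19,16,22,17,23,17,7,9,11,13],[(394,[2,5,5,2,8,3,9,3]),(257,[]),(264,[]),(249,[]),(934,[2,2,4,3,5,3,0]),(293,[]),(10210,[1,2,2,8,1,2,2]),(9737,[]),(9745,[]),(9736,[])],[1,2,2,4,2,5,9,3]),
  (1,[3,7,10,32,11],[(10494,[]),(293,[]),(288,[])],[2,2,2,5,5,3,8]),
  (6,[23,17,17,23,17,22,7,9,10,10],[(730,[9,3,3,9,3,8]),(293,[]),(298,[0,5,2,2,5,9,2,4]),(108,[]),(161,[]),(108,[]),(9786,[0,0,5,3,3,4,3,8]),(9744,[]),(9736,[])],[2,1,3,5,2,4,3]),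
  (1,[3,7,10],[(10502,[]),(293,[]),(288,[])],[1,8,3,5,3,4,3,4]),
  (7,[15,17,22,16,19,16,23,14,7,9,10,10],[(730,[1,3,8,2,5,2,9,0]),(4206,[3,8,2,1,4,2,2,2]),(288,[]),(10354,[3,3,4,2,4,2,5,3]),(9736,[]),(9744,[]),(9736,[])],[1,2,2,2,5,3,4]),
  (1,[7,17,3,7,32],[(10510,[]),(293,[]),(288,[])],[2,2,2,5,3,3,5,2]),
  (7,[14,18,17,23,17,17,18,17,7,9,10,10],[(730,[0,4,3,9,3,3,4,3]),(293,[]),(288,[]),(4002,[8,1,3,5,2,8]),(10386,[4,3,0,2,5,2,2,4])],[2,1,4,2,2,4,3,9]),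
  (1,[3,7,11,11],[(10518,[]),(293,[])],[0,9,3,5,3,5,3]),
  (11,[14,17,14,18,16,16,22,16,18,7,9,10,10],[(730,[0,3,0,4,2,2,8,2,4]),(288,[]),(4206,[0,3,5,3,4,3,8,3]),(293,[]),(10378,[0,2,1,8,3,5,3]),(9736,[]),(9745,[]),(9737,[]),(9732,[])],[5,2,4,2,9,2,2]),
  (1,[3,7,17,18,33],[(10526,[])],[3,0,4,2,5,2,5,9]),
  (3,[14,14,17,17,19,23,16,22,7,11,9,11],[(490,[0,0,3,3,5,9,2,8]),(52,[]),(88,[]),(56,[]),(41,[]),(486,[4,3,4,3,9,2,5,2]),(292,[]),(288,[]),(10210,[0,2,9,3,3,5,3,0])],[0,3,3,8,3,3,5,3]),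
  (1,[3,7,11,19,27],[(10534,[])],[0,3,9,2,5,9,0]),
  (8,[16,18,17,18,17,17,18,7,11,9,11],[(490,[2,4,3,4,3,3,4]),(48,[]),(36,[]),(89,[]),(40,[]),(486,[3,5,9,0,2,4,2,4]),(292,[]),(288,[]),(10210,[4,3,3,5,3,4,2]),(9744,[]),(9737,[]),(9745,[]),(9736,[]),(9732,[])],[3,4,2,5,2,5,2,4]),
  (1,[3,1,7,10,10],[(10542,[]),(292,[]),(288,[])],[5,2,5,8,3]),
  (8,[18,16,18,16,19,23,7,11,9,11],[(490,[4,2,4,2,5,9]),(41,[]),(88,[]),(53,[]),(146,[0,0,0,4,3,5,3]),(104,[]),(160,[]),(104,[]),(9762,[2,5,8,1,2,5,3]),(9737,[]),(9732,[])],[0,2,1,5,3,4,3]),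
  (1,[3,1,7,26],[(10550,[]),(292,[])],[2,2,2,5,5,5,3,0]),
  (9,[16,15,18,17,19,23,14,7,11,9,11],[(490,[2,1,4,3,5,9,0]),(36,[]),(89,[]),(49,[]),(44,[]),(486,[1,3,3,4,3,3,4]),(293,[]),(10210,[2,2,8,3,4,3,9])],[3,8,2,2,4,2]),
  (1,[3,10,29,3,11],[(10558,[]),(292,[])],[0,3,8,3,8]),
  (9,[16,15,22,17,18,17,14,18,7,11,9,11],[(490,[2,1,8,3,4,3,0,4]),(56,[]),(88,[]),(56,[]),(37,[]),(486,[2,5,2,1,4,2,5]),(293,[]),(10210,[1,2,2,2,5,3,0]),(9737,[]),(9745,[])],[0,2,1,5,2,5,3]),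
  (1,[3,23,10,19],[(10566,[]),(293,[]),(288,[])],[2,5,2,8,1,8,2,5]),
  (11,[14,17,19,17,18,17,23,7,11,9,11],[(490,[0,3,5,3,4,3,9]),(88,[]),(45,[]),(64,[]),(36,[]),(486,[0,2,5,2,2,5,8,1]),(293,[]),(10210,[0,0,5,2,2,2,9,3])],[9,2,2,4,2,4]),
  (1,[3,1,29,3,10,26],[(10574,[])],[0,2,8,2,2,9,2,2]),
  (12,[15,15,19,17,18,16,18,7,11,9,11],[(490,[1,1,5,3,4,2,4]),(40,[]),(88,[]),(65,[]),(53,[]),(486,[4,2,1,4,2,2,2]),(9914,[8,2,9,2]),(9744,[]),(9737,[]),(9745,[]),(9736,[]),(9732,[])],[0,5,5,5,3]),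
  (1,[3,7,10,9,32,10],[(10582,[]),(288,[])],[5,8,2,5,8,2,1]),
  (9,[15,16,16,18,16,23,14,17,7,11,15],[(10042,[1,2,2,4,2,9,0,3]),(9744,[]),(9737,[]),(9814,[4,3,5,3,9,2,1]),(248,[]),(5736,[]),(249,[]),(9818,[1,2,4,2,2,4,2,9]),(9737,[]),(9732,[])],[2,2,5,3,9,2,4]),
  (1,[3,19,10],[(10590,[]),(288,[])],[0,2,8,2,8,2,4]),
  (9,[19,17,18,17,22,16,19,3,18],[(1770,[5,3,4,3,8,2,5]),(292,[]),(288,[]),(2750,[2,2,5,3,5,2]),(9946,[0,9,3,5,2,9,3]),(9736,[]),(9745,[]),(9736,[])],[0,2,5,2,2,4,3]),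
  (1,[3,7,9,11,19],[(10598,[]),(288,[])],[1,5,3,5,3,5]),
  (17,[14,16,22,17,18,16,16,22,3,18],[(1770,[0,2,8,3,4,2,2,8]),(292,[]),(10106,[5,3,4,3,4,2,2])],[2,2,2,5,3,3,5,2]),
  (1,[3,7,11,26],[(10606,[])],[1,2,9,3,5,2,2]),
  (12,[17,19,17,22,16,19,16,16,3,1,7,9,11],[(4258,[3,5,3,8,2,5,2,2]),(293,[]),(438,[1,1,2,4,2,5,3]),(293,[]),(288,[]),(10394,[2,1,5,3,8,1]),(9745,[]),(9737,[]),(9744,[]),(9736,[]),(9732,[])],[5,2,9,3]),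
  (1,[3,19,26,18,3],[(10614,[]),(292,[])],[3,4,3,5,3,9,2]),
  (9,[18,17,18,17,19,16,16,18,3,1,7,10,10],[(3298,[4,3,4,3,5,2,2,4]),(292,[]),(5854,[2,9,3,5,2,5,2]),(288,[]),(10130,[1,1,4,3,3,5,3,5]),(9737,[]),(9732,[])],[0,2,5,8,3,4,2]),
  (1,[3,7,9,10],[(10622,[]),(293,[]),(288,[])],[0,0,2,5,3,4,3,0]),
  (9,[14,14,17,22,17,17,23,17,3,1,7,10,10],[(3298,[0,0,3,8,3,3,9,3]),(2542,[1,2,5,2,5,2,4]),(9938,[1,5,3,0,5,2,5]),(9737,[]),(9732,[])],[3,8,2,5,2,8]),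
  (1,[3,10,18,32],[(10630,[]),(292,[])],[0,3,0,4,2,4]),
  (9,[14,16,23,16,16,22,16,3,19],[(422,[0,2,9,2,2,8,2]),(293,[]),(894,[5,8,2,2,2,5,8]),(293,[]),(10154,[0,0,2,5,8,2,2,4]),(9745,[]),(9736,[]),(9732,[])],[0,2,5,3,8,2,2,4]),
  (1,[3,7,10,17,19,23],[(10638,[]),(292,[])],[0,0,3,3,4,3,5,3]),
  (11,[22,17,17,19,22,16,3,19],[(422,[8,3,3,5,8,2]),(292,[]),(918,[2,4,2,5,3,8,2]),(292,[]),(288,[]),(10242,[3,3,5,2,4,2,8,3]),(9744,[]),(9737,[])],[2,2,2,8,3,0]),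
  (1,[3,10,23,11,19,7],[(10646,[]),(292,[])],[0,0,5,3,3,4,3,8,1]),
  (36,[17,14,16,3,1,11,18],[(10498,[3,0,2]),(9745,[]),(9737,[]),(9744,[]),(9998,[0,2,1,5,3,0,5]),(293,[]),(288,[]),(10290,[4,2,5,2,4,2,1]),(9737,[]),(9744,[]),(9732,[])],[8,2,4,2,8,3,4,3]),
  (1,[3,11,19,10,10],[(10654,[])],[0,0,5,2,4,2,9,0]),
  (2,[15,19,17,23,3,1,10,18],[(5598,[1,5,3,9]),(293,[]),(2998,[5,2,4,3,0,2,4]),(9986,[0,4,2,9,2,2,2]),(9736,[]),(9745,[]),(9736,[]),(9732,[])],[5,2,5,2,1,3,4]),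
  (1,[3,7,29,11,26],[(10662,[])],[0,0,2,8,2,2,2,9,2]),
  (6,[15,16,19,16,18,16,19,19,3,1,10,18],[(5598,[1,2,5,2,4,2,5,5]),(292,[]),(8306,[0,4,2,5,2,5,2,5]),(293,[]),(10642,[1,3,9,2,2,4,2,4]),(9745,[]),(9737,[]),(9732,[])],[3,0,5,2,2,2]),
  (1,[3,1,29,10],[(10670,[])],[0,2,5,2,9,3,3,4]),
  (10,[15,17,23,16,18,16,19,22,3,1,10,18],[(5598,[1,3,9,2,4,2,5,8]),(293,[]),(2666,[0,4,2,1,5,2,9]),(292,[]),(10106,[1,1,2,2,2,5,2,4]),(9737,[]),(9732,[])],[5,2,2,2,4,3,4]),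
  (1,[3,7,26,10],[(10678,[]),(292,[]),(288,[])],[0,0,0,2,2,5,2,2]),
  (36,[14,14,19,16,22,15,17,19,17,3,1,10,18],[(5598,[0,0,5,2,8,1,3,5,3]),(5870,[4,3,4,3,5,3,8]),(293,[]),(10490,[0,0,4])],[5,2,2,5,8,3,9,0]),
  (1,[3,7,33],[(10686,[])],[0,8,2,5,5,9,2]),
  (2,[14,16,15,16,19,17,22,3,7,33],[(10690,[0,2,1,2,5,3,8]),(10510,[1,3,0,5,3,5,3,0]),(293,[]),(288,[]),(10090,[2,2,5,3,9,2,5]),(9745,[]),(9736,[]),(9744,[])],[3,5,3,8,1,3])]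
theorem hD18 : allD2 lk B KW SW F A RL [] D18 2548 = true := by decide +kernel
def D19 : List (ℕ × Word × List (ℕ × Word) × Word) := [(1,[3,29,11,17,3],[(10694,[])],[2,5,5,5,3]),
  (9,[17,18,16,23,17,17,19,3,1,7,15,11],[(8526,[3,4,2,9,3,3,5]),(6314,[2,2,8,2,4,2,5]),(10698,[5,2,9,3,3,4,3]),(9745,[]),(9732,[])],[9,0,2,5,2,2,4]),
  (1,[3,11,11,19,11],[(10702,[]),(292,[])],[0,5,2,2,5,8,3,4]),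
  (9,[16,23,16,16,18,16,18,16,3,1,7,15,11],[(8526,[2,9,2,2,4,2,4,2]),(292,[]),(8614,[2,5,2,4,3,4,3,8,2]),(10394,[4,3,5,3,5]),(9745,[]),(9737,[]),(9744,[]),(9732,[])],[9,3,5,2,5,2,2]),
  (1,[7,27,3,7,33],[(10710,[]),(293,[]),(288,[])],[0,3,9,3,4,2,2]),
  (38,[18,16,23,17,19,16,23,3,1,7,15,11],[(8526,[4,2,9,3,5,2,9]),(292,[]),(288,[]),(5022,[2,2,8,2,4,3,8]),(10522,[0,0,3,5,3,5,9]),(9744,[])],[0,0,4,2,5,3,3,5]),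
  (1,[3,29,10,27,3],[(10718,[]),(288,[])],[0,3,8,2,1,8,2]),
  (2,[19,16,15,16,19,17,22,3,7,5,10,10],[(8078,[5,2,1,2,5,3,8]),(292,[]),(7714,[0,5,5,3,5,3,3,4]),(292,[]),(10106,[2,4,3,3,5,2,8,2]),(9737,[]),(9732,[])],[5,2,5,2,5,2,1,8]),
  (1,[3,7,9,11],[(10726,[])],[1,1,2,2,4,2,2,4]),
  (9,[14,16,19,17,14,16,3,7,5,10,10],[(8078,[0,2,5,3,0,2]),(293,[]),(288,[]),(5702,[0,8,1,3,9,0]),(293,[]),(288,[]),(10378,[0,8,2,5,2,4,2]),(9736,[]),(9745,[]),(9736,[])],[1,4,2,5,2,4,3]),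
  (1,[3,23,3,26,29],[(10734,[]),(292,[]),(288,[])],[3,0,9,2]),
  (40,[19,22,17,17,18,17,17,18,3,7,5,10,13],[(3990,[5,8,3,3,4,3,3,4]),(5950,[5,3,5,5,8,2,4]),(10354,[0,2,8,2,8,2,4]),(9744,[]),(9736,[]),(9745,[]),(9732,[])],[0,2,5,3,9]),
  (1,[3,7,11,14,16,7],[(10742,[]),(293,[]),(288,[])],[8,1,2,4,2,4,2,2]),
  (2,[14,16,16,19,16,15,18,3,7,9,11,13],[(6998,[0,2,2,5,2,1,4]),(292,[]),(3542,[5,2,9,3,5,3,9]),(292,[]),(10402,[2,5,2,5,8,1,3,0]),(9736,[]),(9744,[]),(9737,[])],[2,8,2,4,3,4]),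
  (1,[3,1,7,9,10],[(10750,[]),(293,[]),(288,[])],[4,2,2,5,3,8,2,5]),
  (3,[22,17,18,17,18,3,7,9,11,13],[(6998,[8,3,4,3,4]),(293,[]),(288,[]),(5194,[1,8,3,4,3,5,5]),(292,[]),(10706,[1,2,2,9,3,3]),(9736,[]),(9744,[]),(9737,[])],[0,9,3,5,3,5,3,5]),
  (1,[3,29,3,10,22],[(10758,[])],[5,2,1,3,5,3,8]),
  (7,[14,14,18,16,16,18,17,14,3,7,9,11,13],[(6998,[0,0,4,2,2,4,3,0]),(293,[]),(3674,[0,5,2,8,2,4,2]),(293,[]),(10514,[8,3,5,3,3,5,2,5]),(9744,[]),(9736,[]),(9745,[])],[2,2,5,2,8,2,2]),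
  (1,[3,1,29,3,16],[(10766,[])],[0,5,2,5,2,4,2]),
  (7,[22,17,17,19,17,18,16,3,7,9,11,13],[(6998,[8,3,3,5,3,4,2]),(4450,[2,4,2,2,4,3,5,9]),(288,[]),(9994,[2,2,5,3,5,2,1,2])],[0,0,5,2,9,3,5,3]),
  (1,[3,1,23,10],[(10774,[]),(293,[]),(288,[])],[0,4,2,2,5,3,9,3]),
  (8,[16,19,16,19,23,16,3,7,9,11,13],[(6998,[2,5,2,5,9,2]),(292,[]),(2198,[1,8,3,5,3,8,1,2]),(10122,[1,8,3,3,5]),(9737,[]),(9732,[])],[0,2,4,3,4,3,3]),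
  (1,[3,7,26,7,5],[(10782,[])],[0,5,5,5,2,2]),
  (11,[22,16,15,17,18,17,22,3,7,9,11,13],[(6998,[8,2,1,3,4,3,8]),(293,[]),(288,[]),(5450,[1,3,5,5,3,4,3,3]),(10754,[3,5,2,4,2,4,2]),(9737,[]),(9745,[])],[4,3,4,3,8,3,3]),
  (1,[3,1,28,11],[(10790,[]),(288,[])],[5,2,8,2,5,3,3,9]),
  (40,[17,19,16,18,17,17,18,3,7,9,11,13],[(6998,[3,5,2,4,3,3,4]),(292,[]),(6990,[0,4,3,8,1]),(288,[]),(10250,[2,1,8,3,4,2]),(9737,[]),(9745,[]),(9736,[])],[1,8,3,3,4,3,3,4]),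
  (1,[3,11,19,7,11,11],[(10798,[]),(293,[]),(288,[])],[0,0,0,2,2,5,2,2]),
  (41,[17,14,16,19,16,18,3,7,9,11,13],[(6998,[3,0,2,5,2,4]),(293,[]),(9126,[3,8,3,3,4,3,3,9]),(292,[]),(10426,[3,4,3,9,2,1,5]),(9737,[]),(9732,[])],[2,4,2,1,2,4,2]),
  (1,[3,1,7,11,17,12],[(10806,[]),(293,[]),(288,[])],[0,2,5,2,2,8,2,2]),
  (42,[19,16,19,16,18,16,16,23,3,7,9,11,13],[(6998,[5,2,5,2,4,2,2,9]),(2586,[0,2,2,8,3,3,9,3]),(9994,[0,0,3,5]),(9737,[]),(9745,[]),(9736,[])],[2,5,2,8,3,5,9,2]),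
  (1,[3,11,18,27,27],[(10814,[]),(288,[])],[2,2,2,5,9,0,2]),
  (8,[14,17,19,23,16,16,18,16,3,7,9,10,10],[(4350,[0,3,5,9,2,2,4,2]),(7922,[5,5,2,8,3]),(10754,[2,5,2,8,2,8,2]),(9737,[]),(9745,[])],[0,2,2,8,2,4,3]),
  (1,[3,10,10,19,11],[(10822,[])],[1,1,2,5,2,2,4,2]),
  (9,[15,17,17,18,17,19,3,7,9,10,10],[(4350,[1,3,3,4,3,5]),(5106,[8,2,2,9,2,4]),(292,[]),(288,[]),(10242,[0,2,8,2,4,2,2,8]),(9745,[]),(9737,[]),(9744,[]),(9736,[])],[8,2,1,4,3,5]),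
  (1,[7,11,17,3,7],[(10830,[]),(292,[]),(288,[])],[5,2,8,3,3,4,3,4]),
  (11,[23,17,19,17,19,17,17,3,7,9,10,10],[(4350,[9,3,5,3,5,3,3]),(293,[]),(8338,[3,0,5,2,5,5]),(292,[]),(288,[]),(10186,[0,3,4,3,0]),(9736,[])],[5,5,2,9]),
  (1,[3,1,7,11,23,10],[(10838,[]),(292,[])],[3,4,3,9,3]),
  (40,[22,15,16,19,16,22,17,18,3,7,9,10,10],[(4350,[8,1,2,5,2,8,3,4]),(293,[]),(5698,[0,0,0,5,3,3,5,3]),(10794,[8,3,3,8,3,5,3,5]),(9745,[]),(9736,[]),(9744,[]),(9732,[])],[5,3,9,2]),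
  (1,[3,11,19,11,9,7],[(10846,[]),(292,[])],[0,2,4,2,1,4]),
  (39,[22,16,15,17,23,16,3,7,10,27],[(6318,[8,2,1,3,9,2]),(293,[]),(288,[]),(6726,[2,2,9,3,3,8,2]),(293,[]),(10650,[0,0,4,2,2,8,2]),(9745,[]),(9737,[]),(9744,[])],[0,4,3,8,1,3,5]),
  (1,[3,7,18,11,13],[(10854,[]),(293,[]),(288,[])],[1,5,8,2,5,3]),
  (2,[14,14,19,16,18,17,17,19,7,11,27,27],[(9914,[0,0,5,2,4,3,3,5]),(9745,[]),(9737,[]),(9744,[]),(9732,[]),(10630,[2,5,3,9,0,2,2]),(292,[]),(288,[]),(10658,[0,5,3,3,8,1,2]),(9737,[]),(9745,[]),(9732,[])],[4,3,9,3,4,2,5]),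
  (1,[3,23,10,19,7],[(10862,[]),(288,[])],[1,2,5,3,5,3,5,3,0]),
  (3,[18,17,14,19,23,16,19,7,11,27,27],[(9914,[4,3,0,5,9,2,5]),(9745,[]),(9737,[]),(9744,[]),(9732,[]),(10630,[3,4]),(292,[]),(10538,[5,2,4,3,3,9,2,5]),(9744,[]),(9732,[])],[3,3,5,3,3,5,8]),
  (1,[3,1,7,11,26,19],[(10870,[]),(288,[])],[3,9,2,5,2,1,5]),
  (6,[17,19,17,19,19,16,7,11,27,27],[(9914,[3,5,3,5,5,2]),(9766,[0,2,8,1,3,0]),(104,[]),(136,[]),(120,[]),(104,[]),(9786,[0,3,3,5,5,3,5,8]),(9744,[]),(9737,[]),(9745,[]),(9732,[])],[1,2,2,4,3,0]),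
  (1,[3,19,10,13],[(10878,[]),(288,[])],[3,3,5,5,5,3]),
  (7,[14,23,16,18,17,23,16,7,11,27,27],[(9914,[0,9,2,4,3,9,2]),(9736,[]),(9744,[]),(9736,[]),(9732,[]),(10782,[0,2,4,2,1,8]),(292,[]),(9898,[0,9,2,5,5,5,2,4]),(9736,[]),(9745,[]),(9732,[])],[2,5,5,2,2,5,2,8]),
  (1,[3,1,7,11,17],[(10886,[]),(292,[])],[2,5,8,2,1,3]),
  (8,[17,19,23,16,19,23,7,17,27],[(658,[3,5,9,2,5,9]),(292,[]),(3222,[1,1,3,4,2,5,2,5]),(10266,[1,2,2,2,4,3,5]),(9736,[]),(9744,[]),(9732,[])],[3,8,2,1,4,3]),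
  (1,[3,1,19,11],[(10894,[]),(293,[])],[0,5,5,5,3,0,4]),
  (9,[15,17,19,23,16,23,7,17,27],[(658,[1,3,5,9,2,9]),(288,[]),(1758,[1,3,3,5,3,5,3,8]),(264,[]),(256,[]),(5736,[]),(249,[]),(9826,[0,5,8,2,4,3]),(9744,[]),(9736,[])],[0,9,2,5,9,0]),
  (1,[3,7,11,33,10],[(10902,[]),(292,[]),(288,[])],[1,1,3,3,4,2,2]),
  (9,[17,18,17,18,17,19,16,19,7,17,27],[(658,[3,4,3,4,3,5,2,5]),(288,[]),(974,[1,2,2,5,2,1,5,2]),(292,[]),(288,[]),(10442,[0,5,2,2,2,4]),(9745,[]),(9737,[])],[3,0,4,3,8,2]),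
  (1,[3,7,33,11],[(10910,[]),(293,[])],[4,3,4,3,5,3,8,2]),
  (9,[17,19,16,19,23,17,22,7,9,11,14],[(1018,[3,5,2,5,9,3,8]),(248,[]),(398,[3,0,4,2,4,2,4]),(288,[]),(10490,[0,3,3,4,3,4]),(9737,[]),(9744,[]),(9732,[])],[0,4,3,4,3,3,8,1]),
  (1,[3,19,11,11],[(10918,[])],[2,5,2,2,5,3]),
  (11,[16,16,22,17,18,17,14,18,7,9,11,14],[(1018,[2,2,8,3,4,3,0,4]),(256,[]),(5736,[]),(265,[]),(248,[]),(9646,[4,3,4,3,8,2]),(293,[]),(10322,[2,2,4,3,5,8,3]),(9736,[]),(9745,[]),(9736,[])],[0,5,8,2,9]),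
  (1,[3,1,7,10,15,17],[(10926,[])],[8,1,3,3,4,3,3]),
  (12,[15,17,19,17,17,19,22,16,7,9,11,14],[(1018,[1,3,5,3,3,5,8,2]),(248,[]),(398,[5,5,9,3,5,3,3,5]),(292,[]),(288,[]),(10482,[2,2,5,8,3,5,8,2]),(9736,[]),(9744,[]),(9736,[])],[0,2,2,8,1,8,2,9]),
  (1,[3,7,10,19,17],[(10934,[]),(288,[])],[5,2,2,9,2,2,8]),
  (12,[14,17,22,16,19,22,17,19,7,9,11,14],[(1018,[0,3,8,2,5,8,3,5]),(257,[]),(5737,[]),(252,[]),(249,[]),(9646,[5,3,9,3,5,2,9]),(293,[]),(288,[]),(10178,[3,5,3,3,8,2,4]),(9732,[])],[5,5,8,2,1,5,3]),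
  (1,[3,7,10,32,10],[(10942,[]),(293,[]),(288,[])],[0,3,0,4,2,9,3]),
  (2,[19,22,17,19,17,17,19,7,9,10,15],[(674,[5,8,3,5,3,3,5]),(288,[]),(1326,[5,2,2,8,3,0,5]),(9994,[0,2,9,2,4,3,5]),(9737,[]),(9745,[]),(9736,[])],[2,4,2,5,3,3,8]),
  (1,[3,19,11,15],[(10950,[]),(288,[])],[0,0,2,5,2,5,3]),
  (7,[14,22,16,19,16,22,7,9,10,15],[(674,[0,8,2,5,2,8]),(293,[]),(288,[]),(5858,[1,4,3,4,3,3]),(293,[]),(10698,[0,3,9,2,4,2,8]),(9744,[]),(9737,[]),(9732,[])],[0,2,4,2,9,0,3]),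
  (1,[3,10,19,23,11],[(10958,[]),(293,[])],[3,5,5,3,3,5,3]),
  (8,[19,22,17,14,18,16,18,7,9,10,15],[(674,[5,8,3,0,4,2,4]),(3890,[3,9,3,3,5,3,9,0]),(288,[]),(10354,[3,4,3,5,2,2,2]),(9736,[]),(9745,[]),(9736,[])],[0,3,0,4,2,5,5]),
  (1,[3,7,5,10,17],[(10966,[]),(292,[])],[3,8,2,5,2,2,8]),
  (8,[17,19,16,18,16,15,22,7,9,10,15],[(674,[3,5,2,4,2,1,8]),(1622,[3,5,3,5,3,3,9,3]),(293,[]),(10058,[0,5,3,4,3,4,2])],[3,3,9,2,5,2,2]),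
  (1,[3,29,3,10],[(10974,[]),(292,[])],[3,4,2,5,3,0,5,2]),
  (11,[15,15,19,17,19,16,16,7,9,10,15],[(674,[1,1,5,3,5,2,2]),(292,[]),(288,[]),(9574,[0,3,5,2,4,2,4]),(292,[]),(288,[]),(10722,[9,2,5,5]),(9744,[]),(9736,[]),(9745,[])],[0,2,4,2,5,2,1]),
  (1,[3,11,19,17,17],[(10982,[]),(288,[])],[5,3,8,1,2,4]),
  (9,[16,22,16,19,22,16,22,17,7,11,14,10],[(9866,[2,8,2,5,8,2,8,3]),(9910,[0,2,2,4,3,8,1,2]),(293,[]),(288,[]),(10866,[2,2,2,5,3,9]),(9736,[]),(9745,[]),(9737,[])],[0,4,3,3,4]),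
  (1,[3,7,11,14,26],[(10990,[]),(293,[]),(288,[])],[0,3,5,2,8,1,3,3]),
  (9,[16,15,19,16,16,16,18,7,11,14,10],[(9866,[2,1,5,2,2,2,4]),(9745,[]),(9736,[]),(9744,[]),(9732,[]),(10022,[5,3,3,5,3,3,8]),(10642,[3,4,3,5,3,4,2]),(9737,[]),(9744,[]),(9736,[])],[0,2,2,4,3,4,3,0,2]),
  (1,[3,7,5,26,7],[(10998,[]),(293,[])],[3,3,5,8,1,2,5]),
  (12,[15,16,16,18,17,19,17,18,7,11,14,10],[(9866,[1,2,2,4,3,5,3,4]),(9736,[]),(10222,[4,3,8,2,8,3]),(292,[]),(10186,[0,9,2,5,2,1]),(9737,[]),(9745,[]),(9736,[])],[2,2,8,3,5,2,8,3]),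
  (1,[3,1,7,11,32],[(11006,[]),(292,[]),(288,[])],[0,5,3,3,9,3]),
  (9,[17,17,19,17,22,16,7,16,27,11],[(9930,[3,3,5,3,8,2]),(9736,[]),(9744,[]),(9910,[0,8,3,8,2,4]),(293,[]),(10874,[2,2,2,5,2,8,2]),(9745,[]),(9736,[])],[3,5,8,2,4,2,1]),
  (1,[3,7,11,9,14],[(11014,[]),(288,[])],[2,5,8,2,8,3,3,8]),
  (12,[22,16,16,19,16,16,18,7,16,27,11],[(9930,[8,2,2,5,2,2,4]),(9736,[]),(9744,[]),(9910,[2,8,3,4,3,5,2]),(293,[]),(10866,[9,3,3,4,3,0,5,3]),(9736,[]),(9745,[]),(9736,[]),(9732,[])],[1,4,2,2,9,3,3]),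
  (1,[3,7,10,9,14],[(11022,[]),(293,[]),(288,[])],[0,2,5,5,5,3,3]),
  (8,[23,17,19,22,16,18,17,17,7,11,17,17],[(9858,[9,3,5,8,2,4,3,3]),(9745,[]),(9737,[]),(9744,[]),(9736,[]),(10342,[8,1,3,8,3,0]),(292,[]),(10074,[3,4,3,3,5,2,4]),(9736,[])],[1,1,2,2,4,2,5]),
  (1,[3,10,10,18],[(11030,[]),(293,[]),(288,[])],[9,0,2,4,2,5,3]),
  (2,[14,17,14,19,16,22,7,17,27,7],[(494,[0,3,0,5,2,8]),(288,[]),(506,[2,2,4,3,8,1,2]),(293,[]),(10842,[0,3,8,2,4,3,3,8]),(9736,[]),(9745,[]),(9737,[])],[9,3,3,4,3,5]),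
  (1,[3,7,5,10,17,18],[(11038,[]),(292,[]),(288,[])],[3,5,5,2,5,5]),
  (7,[17,19,23,16,7,17,27,7],[(494,[3,5,9,2]),(293,[]),(288,[]),(6770,[3,5,3,4,3,0,4,3]),(292,[]),(288,[]),(10138,[3,3,4,3,5,3,0,4]),(9744,[])],[1,5,3,8,2,4,3,5,2]),
  (1,[3,7,5,16,18],[(11046,[])],[4,2,8,2,1,2]),
  (11,[17,18,17,18,17,17,19,19,7,17,27,7],[(494,[3,4,3,4,3,3,5,5]),(7546,[1,4,3,4,2,1,3]),(10410,[5,8,2,4,2,2,5]),(9744,[]),(9736,[]),(9745,[]),(9732,[])],[0,8,3,3,9,3,8]),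
  (1,[3,7,15,10,19],[(11054,[])],[2,2,2,5,9,2,4]),
  (13,[17,19,17,22,16,18,17,7,17,27,7],[(494,[3,5,3,8,2,4,3]),(322,[0,0,5]),(104,[]),(160,[]),(104,[]),(9794,[8,2,5,8,3,9,3]),(9736,[]),(9745,[])],[2,2,4,2,5,2,9,3]),
  (1,[3,7,27,18,32],[(11062,[]),(293,[])],[8,3,3,8,3,3,9]),
  (2,[14,16,16,19,17,19,17,7,10,15,11],[(546,[0,2,2,5,3,5,3]),(293,[]),(1198,[2,5,5,2,4,2,4]),(288,[]),(10938,[0,3,4,3])],[0,5,2,5,2,5,8,3]),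
  (1,[7,11,17,3],[(11070,[])],[0,4,3,5,9,0,3]),
  (8,[14,17,19,19,17,18,17,14,3,11,18],[(10610,[0,3,5,5,3,4,3,0]),(9745,[]),(9737,[]),(10854,[0,0,3,5,3,5,3,5]),(9986,[4,2,2,5,8,1,2]),(9745,[]),(9736,[]),(9744,[])],[2,8,3,3,5,3,9,0]),
  (1,[7,17,3,10,18],[(11078,[])],[0,2,2,5,2,8,2,8]),
  (11,[15,15,16,18,17,18,17,19,3,11,18],[(10610,[1,1,2,4,3,4,3,5]),(9737,[]),(9732,[]),(10870,[1,4,3,3,5,3,3,8]),(288,[]),(10866,[1,8,2,4,3,5,3,3]),(9737,[]),(9732,[])],[1,4,3,3,5,2,1]),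
  (1,[3,7,10,17],[(11086,[])],[0,0,0,3,5,3,3,5]),
  (12,[16,16,18,17,19,17,18,3,11,18],[(10610,[2,2,4,3,5,3,4]),(10814,[0,9,2,5,8,3]),(288,[]),(10378,[2,8,2,2,9,3,8]),(9736,[]),(9745,[]),(9736,[]),(9732,[])],[0,0,9,3,8,3]),
  (1,[3,1,7,11,17,17],[(11094,[]),(288,[])],[3,0,5,2,5,2,4]),
  (2,[15,17,19,17,18,16,15,3,10,18],[(3214,[1,3,5,3,4,2,1]),(288,[]),(9570,[4,2,5,5,8,2,5,2]),(292,[]),(288,[]),(10154,[1,3,5,9,2,5]),(9737,[]),(9732,[])],[5,2,5,5,9,3]),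
  (1,[3,7,9,11,13],[(11102,[])],[0,3,0,9,3,5,3,3]),
  (12,[14,16,19,17,17,19,17,23,3,1,7,33],[(3570,[0,2,5,3,3,5,3,9]),(293,[]),(3942,[0,5,3,4,3,9,3,3]),(10682,[5,2,8,3,9,3,5]),(9745,[])],[2,5]),
  (1,[3,11,18,3,26],[(11110,[]),(293,[]),(288,[])],[0,5,2,4,3,0,2,4]),
  (12,[17,19,19,17,19,19,3,1,7,33],[(3570,[3,5,5,3,5,5]),(293,[]),(3942,[4,3,9,2,4,2,1,5]),(292,[]),(288,[]),(10498,[0,3,8,1,3,5,2,4,2]),(9737,[]),(9744,[]),(9737,[])],[0,0,3,3,4,3,3,8]),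
  (1,[3,10,19,22,11],[(11118,[])],[2,5,8,3,3,4,2]),
  (36,[14,22,16,16,16,3,7,15,11],[(7994,[0,8,2,2,2]),(292,[]),(4106,[2,2,5,3,4,3,4]),(10714,[4,2,1,3,5,2,8]),(9745,[]),(9736,[]),(9744,[])],[5,5,2,1]),
  (1,[3,1,7,11,15,10],[(11126,[])],[2,1,5,2,2,5,9]),
  (38,[16,16,18,16,18,16,22,15,3,7,15,11],[(7994,[2,2,4,2,4,2,8,1]),(293,[]),(288,[]),(5898,[5,3,3,5,2,1,8]),(292,[]),(288,[]),(10322,[1,2,2,2,4,3,5,3]),(9737,[]),(9745,[]),(9736,[]),(9732,[])],[0,3,0,2,4,3,0]),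
  (1,[3,7,10,15,17],[(11134,[]),(293,[]),(288,[])],[5,2,4,2,8]),
  (43,[14,23,16,18,17,17,18,3,7,15,11],[(7994,[0,9,2,4,3,3,4]),(292,[]),(288,[]),(8390,[3,4,3,5,5,9,2]),(9946,[0,0,2,4,2,2,9,2]),(9744,[]),(9736,[]),(9732,[])],[0,3,3,9,0,3,3,5]),
  (1,[3,11,22,7,11,15],[(11142,[])],[2,5,5,2,4]),
  (9,[15,22,16,19,16,22,17,22,3,7,10,9,14],[(5094,[1,8,2,5,2,8,3,8]),(292,[]),(7698,[0,8,2,5,9,0,3]),(293,[]),(288,[]),(10746,[0,3,0,9,3,5,3]),(9736,[]),(9745,[]),(9737,[]),(9732,[])],[4,2,5,2,8,3]),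
  (1,[3,1,7,10],[(11150,[]),(293,[]),(288,[])],[3,3,8,3,4,2]),
  (9,[16,16,19,16,22,15,17,3,7,10,9,14],[(5094,[2,2,5,2,8,1,3]),(2330,[1,3,4,2,4]),(10450,[1,4,2,4,2,5,5,2]),(9744,[]),(9736,[]),(9745,[]),(9732,[])],[9,2,2,5,2,5]),
  (1,[3,19,16,19,3],[(11158,[]),(292,[])],[8,2,1,3,9,3,5]),
  (38,[16,19,16,16,22,17,3,7,10,9,15],[(1446,[2,5,2,2,8,3]),(292,[]),(5218,[4,2,2,2,8,3,4]),(10458,[0,4,2,9,3,3,4]),(9745,[]),(9736,[]),(9744,[]),(9732,[])],[0,8,2,5,2,8]),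
  (1,[7,16,3,7,9],[(11166,[]),(292,[])],[3,4,2,1,5,8]),
  (3,[16,23,16,16,19,16,23,17,3,7,5,11,17],[(2058,[2,9,2,2,5,2,9,3]),(293,[]),(288,[]),(1046,[0,0,0,4,3,4,3,3,4]),(288,[]),(10130,[0,2,2,4,2,5,3,8])],[0,5,2,2,2,5,9,3]),
  (1,[3,7,16],[(11174,[])],[5,9,2,5,3,8]),
  (11,[15,16,16,19,16,19,19,22,3,7,5,11,17],[(2058,[1,2,2,5,2,5,5,8]),(288,[]),(4834,[0,3,8,2,4,3,4]),(293,[]),(10738,[0,4,3,5,3,8,3])],[1,1,3,4,2,2,2]),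
  (1,[3,7,29,10,27],[(11182,[]),(293,[]),(288,[])],[1,5,3,8,2,4,3]),
  (3,[14,14,19,16,16,19,17,23,3,1,7,9,11,13],[(7234,[0,0,5,2,2,5,3,9]),(6522,[0,2,2,5,5,8,3,8]),(10570,[8,3,3,5,2,2,9]),(9745,[]),(9737,[]),(9744,[]),(9736,[])],[2,4,2,4,3,3]),
  (1,[3,7,5,26],[(11190,[])],[0,5,9,0]),
  (36,[14,17,19,17,18,16,16,19,3,1,7,9,11,13],[(7234,[0,3,5,3,4,2,2,5]),(293,[]),(7738,[5,2,8,2,8]),(10426,[1,2,4,2,2,8,3,4])],[1,3,4,3,4,3,5,8]),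
  (1,[3,7,5,11,26],[(11198,[]),(288,[])],[1,5,2,5,3,4,3,5])]
theorem hD19 : allD2 lk B KW SW F A RL [] D19 2674 = true := by decide +kernel
end
end CA.ThM
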