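import Cfsg.Agent.Lib.Spor.ThF

/-! Derivations of the double coset table of the Thompson group. -/

set_option autoImplicit false
set_option maxRecDepth 100000
set_option linter.all false
namespace CA.ThM
open CA.CNet CA.CWord CA.CLevel CA.CSimple CA.CPoint CA.CLow CA.CTodd CA.TCos
noncomputable section

def D20 : List (ℕ × Word × List (ℕ × Word) × Word) := [(37,[15,22,17,19,17,3,1,7,9,11,13],[(7234,[1,8,3,5,3]),(292,[]),(288,[]),(1958,[5,8,3,4,2,8,2]),(10770,[3,5,9,0,3]),(9737,[]),(9745,[]),(9736,[])],[0,4,3,3,5,9,3]),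
  (1,[3,1,23,11],[(11206,[]),(293,[]),(288,[])],[0,0,3,3,5,2,9]),
  (2,[22,17,19,23,16,23,17,18,3,1,7,9,10,10],[(2262,[8,3,5,9,2,9,3,4]),(7018,[0,3,3,5,3,5,8,2]),(11162,[8,1,2,2,5,2,1,4]),(9744,[]),(9736,[])],[3,0,5,2,8,3,3,5]),
  (1,[3,1,7,10,27],[(11214,[])],[5,3,3,5,5,2,1]),
  (4,[18,17,14,16,19,22,16,3,7,5,26,7],[(10746,[4,3,0,2,5,8,2]),(9745,[]),(9737,[]),(9744,[]),(9736,[]),(9732,[]),(10878,[0,2,8,2,2,5,2,5]),(292,[]),(10890,[2,4,2,5,8,2,1,5]),(9737,[]),(9744,[]),(9737,[]),(9732,[])],[3,5,3,3,9]),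
  (1,[3,7,10,15,16],[(11222,[]),(293,[]),(288,[])],[2,2,4,3,0,5,2,2]),
  (12,[14,18,16,19,16,19,16,15,3,7,5,16],[(630,[0,4,2,5,2,5,2,1]),(293,[]),(288,[]),(3858,[0,2,1,3,5,9,3,8]),(292,[]),(288,[]),(11034,[0,2,5,3,8,2,1]),(9745,[]),(9736,[]),(9732,[])],[0,0,2,1,5,2,4,3]),
  (1,[3,1,7,17,11,18],[(11230,[]),(293,[])],[4,3,9,3,4,2,9]),
  (43,[14,14,18,16,19,17,17,22,17,3,7,5,10,26],[(2394,[0,0,4,2,5,3,3,8,3]),(292,[]),(288,[]),(4226,[0,5,3,3,5,3,9,0,2]),(292,[]),(288,[]),(10930,[2,5,5,2,5,2,2]),(9737,[]),(9732,[])],[0,4,2,2,5,3,9,2]),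
  (1,[3,7,5,11,11],[(11238,[])],[0,3,3,4,3,0,5,2,5]),
  (8,[16,18,16,18,17,23,3,19,11],[(3078,[2,4,2,4,3,9]),(293,[]),(288,[]),(4394,[0,0,2,9,3,4,3,8]),(293,[]),(10290,[2,1,4,2,9,3,3]),(9736,[])],[2,5,8]),
  (1,[3,29,3,10,10],[(11246,[]),(293,[])],[4,2,2,2,8,3,4]),
  (8,[17,17,19,17,19,19,19,3,19,10],[(3502,[3,3,5,3,5,5,5]),(6326,[5,5,5,3,5]),(292,[]),(10602,[3,0,4,2,1,5]),(9736,[]),(9745,[]),(9737,[])],[3,4,2,2,5,2,4]),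
  (1,[3,29,7,26],[(11254,[]),(292,[]),(288,[])],[5,9,2,5,2,1]),
  (13,[16,19,19,17,17,22,3,19,10],[(3502,[2,5,5,3,3,8]),(293,[]),(288,[]),(1554,[3,5,2,8,1,3,4]),(292,[]),(10426,[0,0,2,2,4,2,2,2,8])],[0,2,1,4,2,2,4,3,8]),
  (1,[3,1,7,15,10],[(11262,[])],[2,4,2,5,8,2,1,4]),
  (9,[16,22,16,18,17,17,23,16,22,3,11,19],[(678,[2,8,2,4,3,3,9,2,8]),(288,[]),(7910,[2,2,2,5,8,1,2]),(293,[]),(288,[]),(11050,[2,8,2,5,2,5,8,3]),(9737,[]),(9744,[]),(9736,[])],[2,1,3,5,3,3,8,1]),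
  (1,[3,7,10,17,18],[(11270,[]),(293,[])],[0,4,2,5,2,2,5]),
  (9,[23,16,15,18,16,23,17,3,11,19],[(678,[9,2,1,4,2,9,3]),(462,[3,4,3,9,3,4,3]),(293,[]),(9906,[5,3,3,9,3,3]),(9744,[]),(9737,[]),(9745,[]),(9736,[]),(9732,[])],[2,5,5,5,3]),
  (1,[3,7,27,18,3,26],[(11278,[]),(293,[]),(288,[])],[5,2,2,5,3,4,2]),
  (12,[19,16,16,19,3,11,19],[(678,[5,2,2,5]),(293,[]),(288,[]),(4918,[0,4,2,5,2,4,3,4]),(292,[]),(288,[]),(10866,[1,5,3,8,1,2]),(9737,[]),(9744,[]),(9736,[]),(9732,[])],[4,3,9,0,2,2,5]),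
  (1,[3,7,26],[(11286,[]),(288,[])],[0,3,3,5,2,4,2,1]),
  (8,[15,17,19,22,16,16,16,18,3,11,18,33],[(9190,[1,3,5,8,2,2,2,4]),(293,[]),(2166,[1,8,2,5,2,5,3,3]),(293,[]),(10874,[2,2,9,2,5,2,5]),(9744,[]),(9732,[])],[0,0,2,4,3,9]),
  (1,[3,7,10,33,11,11],[(11294,[])],[2,9,0,2,2,4,2,4]),
  (39,[22,15,17,19,17,17,18,3,7,33,10],[(2710,[8,1,3,5,3,3,4]),(292,[]),(4146,[3,5,8,1,3,4,3]),(288,[]),(10546,[0,0,2,8,2,1])],[0,2,2,4,2,8,1]),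
  (1,[3,11,18,33],[(11302,[])],[2,5,2,2,4,3,9,2]),
  (6,[14,14,19,16,19,19,16,18,16,3,1,7,11,17],[(7118,[0,0,5,2,5,5,2,4,2]),(3650,[5,3,5,3,5,2,8]),(292,[]),(9930,[0,9,0,3,5,2]),(9736,[]),(9745,[]),(9737,[])],[0,9,2,4,3,3]),
  (1,[3,7,10,14,19,10],[(11310,[]),(293,[]),(288,[])],[1,3,8,2,5,2,1]),
  (12,[14,19,22,17,17,18,17,23,3,1,7,11,17],[(7118,[0,5,8,3,3,4,3,9]),(293,[]),(4730,[0,2,2,9,0,3,5]),(288,[]),(10162,[8,3,3,4,2,4]),(9745,[]),(9737,[])],[0,8,2,4,2,5]),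
  (1,[3,29,3,11,11],[(11318,[]),(293,[]),(288,[])],[0,2,5,2,5,5,9]),
  (3,[14,14,16,19,22,3,1,7,10,27,13],[(9494,[0,0,2,5,8]),(292,[]),(288,[]),(1858,[5,2,5,2,8,3,0]),(11010,[0,2,1,4,2,2,8,2])],[1,3,3,4,2,5,2,5]),
  (1,[3,7,10,10],[(11326,[])],[2,2,5,2,5,5,2,5]),
  (8,[15,15,19,16,19,16,19,17,3,1,7,10,27,13],[(9494,[1,1,5,2,5,2,5,3]),(292,[]),(4230,[4,2,1,4,3,5,8]),(293,[]),(288,[]),(10450,[1,2,5,2,4,2,9,2]),(9744,[]),(9736,[]),(9745,[])],[2,8,2,4,2,5,5,5]),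
  (1,[3,1,7,33,10,13],[(11334,[])],[0,5,5,5,3,0,4]),
  (9,[14,23,16,19,22,17,3,1,7,10,27,13],[(9494,[0,9,2,5,8,3]),(293,[]),(288,[]),(7714,[3,3,8,1,3,4]),(293,[]),(10514,[1,2,5,2,2,8]),(9745,[]),(9737,[]),(9744,[]),(9732,[])],[5,5,3,0,5,3,4]),
  (1,[3,1,19,11,15],[(11342,[]),(292,[])],[0,8,2,4,2,5,9]),
  (41,[16,19,19,16,19,23,16,3,1,7,10,27,13],[(9494,[2,5,5,2,5,9,2]),(288,[]),(6938,[0,2,2,5,2,9,2,4]),(293,[]),(10978,[0,2,2,5,5,2,1,2]),(9745,[]),(9736,[])],[4,2,4,2,2,5,8]),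
  (1,[3,7,18,11,14],[(11350,[]),(293,[]),(288,[])],[2,2,4,2,2,8,3]),
  (43,[14,19,16,18,16,19,16,16,3,1,7,10,27,13],[(9494,[0,5,2,4,2,5,2,2]),(293,[]),(288,[]),(5510,[1,3,5,2,5,5,2,2]),(10202,[2,2,2,9,0,2]),(9737,[]),(9745,[]),(9736,[])],[0,3,5,3,4,3,3,8]),
  (1,[3,10,19,7,10],[(11358,[]),(293,[]),(288,[])],[8,2,2,4,2,2,8]),
  (9,[19,23,16,16,18,16,19,3,1,7,10,27],[(1158,[5,9,2,2,4,2,5]),(2666,[3,4,3,9,3]),(293,[]),(10834,[0,5,2,2,8,3,9]),(9744,[]),(9737,[]),(9732,[])],[0,3,8,2,4,2,8]),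
  (1,[3,7,5,10],[(11366,[]),(292,[])],[5,8,2,5,2,2,9]),
  (37,[14,14,17,19,16,18,17,18,17,3,1,7,10,27],[(1158,[0,0,3,5,2,4,3,4,3]),(3106,[2,2,5,3,3,4,3]),(292,[]),(10818,[1,5,3,3,4,3,3]),(9745,[]),(9737,[]),(9744,[]),(9732,[])],[3,0,4,2,8,1,3]),
  (1,[3,7,5,10,16],[(11374,[]),(293,[]),(288,[])],[1,5,3,5,2]),
  (12,[17,19,16,19,22,15,3,1,7,26],[(9954,[3,5,2,5,8,1]),(10966,[3,3,5,3,0,2,8]),(292,[]),(10394,[2,4,2,5,8,2,4]),(9736,[]),(9745,[]),(9737,[])],[8,2,5,3,3,5,9,0]),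
  (1,[3,7,11,9,16],[(11382,[]),(292,[])],[0,4,2,4,2,4,2]),
  (8,[14,23,16,18,16,18,16,22,3,1,7,16],[(618,[0,9,2,4,2,4,2,8]),(104,[]),(136,[]),(104,[]),(3346,[0,5,2,5,3,0]),(10434,[1,3,5,3,0,4,2])],[1,4,3,4,2,5,2,5]),
  (1,[3,7,5,17,10],[(11390,[]),(293,[]),(288,[])],[2,2,2,5,3,8,2]),
  (36,[16,18,17,17,18,17,17,18,3,1,7,10,26],[(5174,[2,4,3,3,4,3,3,4]),(8746,[0,2,2,5,2,4,2,9,2]),(293,[]),(9898,[5,8,1,3,0,4,3]),(9737,[]),(9732,[])],[2,4,2,4,2,8]),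
  (1,[3,7,5,11,17],[(11398,[])],[2,8,3,4,2]),
  (37,[14,14,23,16,19,16,19,23,3,7,10,17],[(5458,[0,0,9,2,5,2,5,9]),(288,[]),(1266,[0,8,3,9,3,8]),(292,[]),(10490,[8,2,2,9,3,3])],[4,2,4,2,9,3,3,4]),
  (1,[3,1,11,18],[(11406,[]),(293,[]),(288,[])],[1,2,4,2,2,8,2,5]),
  (9,[19,16,18,16,23,16,16,3,7,27,7],[(4382,[5,2,4,2,9,2,2]),(293,[]),(7786,[1,2,5,3,4,3,0]),(293,[]),(288,[]),(10090,[4,2,9,2,2,4,2]),(9745,[]),(9737,[]),(9744,[]),(9736,[]),(9732,[])],[0,8,1,2,5,2,5,8]),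
  (1,[3,29,10,33],[(11414,[])],[3,5,3,5,3,0,2]),
  (9,[16,18,16,22,15,22,16,3,7,10,10,26],[(3002,[2,4,2,8,1,8,2]),(2378,[3,8,2,1,2]),(10762,[0,0,5,2,4,3,4]),(9744,[]),(9732,[])],[0,0,2,5,3,3,4,2]),
  (1,[3,7,11,33],[(11422,[])],[1,4,2,2,8,3,0,5]),
  (12,[18,16,19,17,17,3,7,10,10,26],[(3002,[4,2,5,3,3]),(293,[]),(1606,[0,8,1,2,2,2,4]),(11202,[0,0,0,2,5,2,2]),(9736,[]),(9744,[]),(9737,[])],[0,8,2,5,8,2,2,4]),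
  (1,[3,11,19,23,11],[(11430,[]),(293,[])],[0,3,5,2,8,3,5,2]),
  (8,[14,16,18,17,19,3,7,10,16],[(4246,[0,2,4,3,5]),(7338,[5,2,5,8,1,3,8]),(293,[]),(288,[]),(11306,[5,2,5,3,3,5]),(9736,[]),(9732,[])],[5,3,5,3,9]),
  (1,[3,10,18,33],[(11438,[]),(292,[]),(288,[])],[4,2,2,5,9,2]),
  (9,[15,17,19,22,16,19,16,3,7,10,16],[(4246,[1,3,5,8,2,5,2]),(288,[]),(6014,[0,2,1,5,3,4,2,4]),(288,[]),(11370,[2,4,2,5,3,9,2,2]),(9736,[]),(9745,[]),(9732,[])],[3,9,3,4]),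
  (1,[3,1,10,18],[(11446,[])],[2,4,3,0,2,5,2,9]),
  (39,[19,17,18,17,22,16,18,3,7,11,9,16],[(3034,[5,3,4,3,8,2,4]),(8358,[2,5,8,1,2,2,2,5]),(10874,[1,2,9,3,3,4,3,3]),(9737,[]),(9732,[])],[3,0,5,2,5,5,2]),
  (1,[3,7],[(11454,[]),(293,[]),(288,[])],[1,5,2,2,2,5]),
  (8,[17,14,19,23,17,18,7,26,11,26],[(9874,[3,0,5,9,3,4]),(9737,[]),(9744,[]),(9737,[]),(9732,[]),(10134,[4,2,5,2,1,3,5,3]),(10458,[2,5,2,5,2,4]),(9737,[]),(9744,[])],[8,3,3,4,3,0,5]),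
  (1,[3,7,26,7,19],[(11462,[]),(292,[]),(288,[])],[5,3,3,5,5,2,5]),
  (9,[14,14,16,22,15,16,16,19,7,26,11,26],[(9874,[0,0,2,8,1,2,2,5]),(9744,[]),(10462,[0,0,2,9,3,5,3,5]),(293,[]),(288,[]),(10026,[5,2,4,3,4,3,8]),(9745,[]),(9737,[])],[3,0,4,2,2,5,3,5]),
  (1,[3,7,10,19,7],[(11470,[]),(293,[]),(288,[])],[2,8,3,3,9]),
  (12,[14,16,23,14,17,17,7,11,26,26],[(10010,[0,2,9,0,3,3]),(9737,[]),(9744,[]),(10806,[4,2,5,5,8,3,8]),(293,[]),(288,[]),(10458,[1,3,5,9,2,2,2]),(9737,[]),(9745,[]),(9736,[])],[2,1,2,5,3,4,3,5]),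
  (1,[3,7,9,10,10],[(11478,[]),(292,[])],[0,3,4,3,8,2,2,9]),
  (12,[22,15,17,17,18,17,22,7,11,26,26],[(10010,[8,1,3,3,4,3,8]),(9736,[]),(10790,[0,3,5,2,4,3,0,2]),(288,[]),(11162,[4,3,8,2,4,3,4]),(9736,[]),(9744,[]),(9736,[]),(9732,[])],[1,5,2,2,5,2,9,0]),
  (1,[3,7,10,32,11,13],[(11486,[]),(293,[]),(288,[])],[2,5,8,2,5,8,1]),
  (12,[17,14,18,16,23,3,11,11,18],[(9590,[3,0,4,2,9]),(292,[]),(288,[]),(4390,[2,5,9,0,3]),(292,[]),(288,[]),(10394,[0,5,2,4,2,2,2,8]),(9736,[]),(9745,[]),(9737,[]),(9732,[])],[0,4,2,5,2,2,2,5]),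
  (1,[3,7,15,16,19,10],[(11494,[]),(293,[])],[2,9,3,5,3,9,2,5]),
  (9,[16,18,16,22,16,15,18,17,3,1,10,19],[(854,[2,4,2,8,2,1,4,3]),(293,[]),(288,[]),(4598,[1,4,2,9,3,3,5]),(292,[]),(11154,[3,5,3,8,2,8,3]),(9744,[]),(9736,[])],[0,0,2,8,1,8,2,5,2]),
  (1,[7,26,3,10],[(11502,[]),(288,[])],[3,3,5,2,1,5,3,0]),
  (6,[14,19,16,15,18,17,22,3,1,7,33,11],[(8538,[0,5,2,1,4,3,8]),(293,[]),(5174,[9,2,5,2,9]),(292,[]),(288,[]),(10130,[0,5,3,5,8]),(9737,[]),(9745,[]),(9732,[])],[1,3,4,3,9,2,5,9]),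
  (1,[3,7,33,10,15],[(11510,[]),(292,[])],[2,2,8,1,2,2,4]),
  (38,[19,16,19,19,16,3,1,7,33,11],[(8538,[5,2,5,5,2]),(293,[]),(3286,[3,8,2,1,5,8]),(293,[]),(10642,[2,4,3,8,2,8,3,4]),(9736,[]),(9744,[])],[0,2,8,3,3,9,2,8]),
  (1,[3,10,19,10],[(11518,[])],[5,8,3,3,5,3,5]),
  (36,[22,16,16,16,22,16,19,3,1,7,33,10],[(5050,[8,2,2,2,8,2,5]),(292,[]),(1690,[5,8,2,1,5,2,2]),(293,[]),(10354,[0,3,4,3,8,3,9]),(9736,[]),(9745,[]),(9732,[])],[0,4,2,8,2,4,2]),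
  (1,[3,1,7,9,26,10],[(11526,[]),(292,[])],[0,2,2,4,2,4,2]),
  (9,[19,16,18,16,23,16,16,18,7,11,17,3],[(10946,[5,2,4,2,9,2,2,4]),(9737,[]),(9745,[]),(9736,[]),(11118,[9,2,9,3,5,3,9]),(293,[]),(288,[]),(9890,[0,0,9,2,2,8,2,5,2]),(9736,[]),(9745,[]),(9736,[])],[1,1,4,2,4,2,2,4]),
  (1,[3,1,7,26,19],[(11534,[]),(292,[])],[4,2,5,5,8,2,5,2]),
  (3,[18,16,15,19,22,3,7,11,14,26],[(8682,[4,2,1,5,8]),(292,[]),(7934,[0,0,2,5,2,5,3,4]),(292,[]),(288,[]),(11010,[0,2,5,5,3,3,8,3]),(9736,[])],[0,0,9,3,5,3,8]),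
  (1,[3,29,3,11],[(11542,[])],[5,2,2,9,3,3,9]),
  (9,[14,17,18,17,19,17,22,17,3,7,11,14,26],[(8682,[0,3,4,3,5,3,8,3]),(293,[]),(7558,[2,2,9,3,5,3]),(292,[]),(10330,[3,0,2,5,2,4,2,2]),(9736,[]),(9745,[]),(9737,[]),(9732,[])],[1,3,5,9,0,2,4]),
  (1,[3,19,27,27],[(11550,[])],[0,8,2,1,5,8]),
  (10,[14,17,14,19,16,19,22,16,3,7,11,14,26],[(8682,[0,3,0,5,2,5,8,2]),(288,[]),(4838,[0,2,4,2,2,4]),(293,[]),(9962,[3,0,5,3,5,3,0,4]),(9737,[]),(9732,[])],[3,9,3,4,3,5,3,4]),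
  (1,[3,1,7,10,13],[(11558,[])],[0,3,9,2,9,0]),
  (11,[16,16,22,16,18,16,15,22,3,7,11,14,26],[(8682,[2,2,8,2,4,2,1,8]),(292,[]),(1002,[0,2,4,3,4,3,8,2]),(136,[]),(120,[]),(112,[]),(104,[]),(9778,[2,4,2,2,8,3,4]),(9736,[]),(9745,[]),(9737,[]),(9732,[])],[3,9,2,4,2,5,2]),
  (1,[3,7,16,19],[(11566,[])],[2,5,5,2,1,5,2]),
  (3,[15,22,16,23,7,10,27,3],[(6458,[1,8,2,9]),(292,[]),(288,[]),(6162,[8,2,5,8]),(292,[]),(288,[]),(10978,[2,8,1,3,5,9]),(9745,[]),(9736,[]),(9744,[])],[3,3,4,2,8,3,4,3]),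
  (1,[3,11,19,7,10],[(11574,[])],[1,2,5,2,1,4]),
  (12,[14,16,19,19,16,16,23,7,10,27,3],[(6458,[0,2,5,5,2,2,9]),(288,[]),(7142,[5,3,3,5,9,3,4]),(293,[]),(288,[]),(10458,[0,2,5,9,2,5]),(9737,[])],[2,5,3,9,2,4]),
  (1,[3,7,27,7],[(11582,[])],[0,0,5,9,2,2,4,2,4]),
  (37,[15,19,17,19,17,22,16,18,7,10,26,3],[(6666,[1,5,3,5,3,8,2,4]),(8050,[3,5,9,0,2,2,2,5]),(292,[]),(288,[]),(10450,[0,8,2,2,2]),(9737,[]),(9745,[]),(9732,[])],[2,8,3,3,4,3,8]),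
  (1,[3,1,19,10],[(11590,[])],[5,8,1,3,4,3,3]),
  (12,[14,17,19,22,16,15,18,3,7,5,27],[(594,[0,3,5,8,2,1,4]),(293,[]),(4370,[1,4,2,2,4,2,2]),(11266,[0,3,8,2,2,4,3,3,8]),(9737,[]),(9744,[]),(9732,[])],[0,2,8,3,0]),
  (1,[3,1,7,10,17,19],[(11598,[]),(288,[])],[5,5,2,2,2,4]),
  (8,[14,17,19,23,16,15,3,7,5,16,11],[(6258,[0,3,5,9,2,1]),(292,[]),(288,[]),(7606,[5,2,8,3,3,5,2,4]),(292,[]),(10962,[0,4,3,4,3,8,2]),(9745,[]),(9737,[]),(9732,[])],[0,0,0,2,2,2,4]),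
  (1,[3,1,7,10,17,14],[(11606,[]),(293,[])],[5,5,2,4,2,2,5,8]),
  (9,[15,17,18,17,19,16,22,16,3,7,5,17],[(602,[1,3,4,3,5,2,8,2]),(293,[]),(610,[8,1,2,2,5,2,9]),(10906,[4,2,2,8,3,5,9]),(9737,[]),(9745,[])],[4,3,3,5,8,3,0]),
  (1,[3,7,10,33],[(11614,[])],[2,9,3,3]),
  (7,[15,19,17,22,16,19,17,3,1,7,11,17,17],[(8114,[1,5,3,8,2,5,3]),(292,[]),(288,[]),(5798,[3,5,9,3,5,8]),(288,[]),(10738,[5,2,2,8,3,3]),(9737,[]),(9745,[]),(9732,[])],[0,8,2,2,2,8]),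
  (1,[3,7,5,17,7],[(11622,[])],[0,0,2,8,1,3,9,2]),
  (9,[16,19,17,18,17,18,17,23,3,1,7,11,17,17],[(8114,[2,5,3,4,3,4,3,9]),(288,[]),(1734,[0,2,1,2,5,2,9]),(293,[]),(10178,[3,5,2,4,2,4,3]),(9745,[]),(9737,[]),(9744,[]),(9736,[])],[1,2,2,5,2,5]),
  (1,[7,26,3,7],[(11630,[]),(293,[]),(288,[])],[0,4,2,9,3,4]),
  (9,[17,22,16,23,16,16,3,19,7,10],[(1750,[3,8,2,9,2,2]),(292,[]),(3722,[1,8,3,3,5,3,4]),(292,[]),(288,[]),(10218,[4,2,9,3,4,3,3]),(9736,[]),(9744,[]),(9737,[]),(9732,[])],[9,3,4,3,3,9,3,3]),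
  (1,[3,7,5,16],[(11638,[]),(293,[])],[3,5,2,8,2,4,2,1]),
  (8,[16,18,16,19,16,23,14,16,3,19,10,10],[(1226,[2,4,2,5,2,9,0,2]),(5478,[0,5,9,2,4]),(293,[]),(288,[]),(9986,[0,2,4,3,5,2,8,2])],[2,4,3,9,3,5,3,0]),
  (1,[3,1,19,7,10],[(11646,[]),(288,[])],[3,5,3,5,3,5,3]),
  (9,[16,19,16,15,3,19,10,10],[(1226,[2,5,2,1]),(542,[0,4,2,1,5,3,0,5]),(10010,[8,2,1,4,3,3,4,2]),(9744,[]),(9736,[]),(9745,[])],[2,2,2,4,2,8,2,4]),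
  (1,[3,1,7,10,27,13],[(11654,[]),(288,[])],[1,4,3,5,5,3,3]),
  (12,[14,22,15,16,18,16,19,3,11,19,11],[(2370,[0,8,1,2,4,2,5]),(3714,[0,2,2,2,5,3,5,5]),(293,[]),(288,[]),(10450,[1,4,2,2,5,2,8,1]),(9736,[]),(9745,[]),(9737,[]),(9732,[])],[8,2,1,8,3,5,3,0]),
  (1,[3,1,7,9,26,7],[(11662,[])],[9,2,1,5,2,5,2]),
  (11,[18,17,19,17,17,22,16,3,11,13,19],[(10234,[4,3,5,3,3,8,2]),(9736,[]),(9745,[]),(11622,[0,9,0,3,3,4,3,4]),(10314,[0,3,5,2,5,5]),(9744,[])],[2,5,5,2,5,2,4]),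
  (1,[3,1,7,11],[(11670,[]),(293,[]),(288,[])],[1,2,5,2,4,3,4,3,9]),
  (2,[15,16,16,22,16,15,16,3,29,3,11],[(9310,[1,2,2,8,2,1,2]),(292,[]),(288,[]),(1002,[1,3,4,3,4,3,3]),(136,[]),(120,[]),(112,[]),(104,[]),(9778,[1,3,4,3,9,0]),(9737,[]),(9744,[]),(9737,[])],[1,2,5,2,5,8]),
  (1,[3,19,11,9],[(11678,[])],[1,3,4]),
  (9,[16,19,16,18,16,16,16,22,3,29,3,11],[(9310,[2,5,2,4,2,2,2,8]),(292,[]),(288,[]),(1002,[4,3,5,2,1,5]),(161,[]),(116,[]),(104,[]),(9786,[0,0,0,2,2,4,3]),(9736,[]),(9744,[]),(9736,[]),(9732,[])],[2,2,8,3,8,1]),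
  (1,[3,10,13,18],[(11686,[]),(288,[])],[0,5,3,0,4,2,8,2,5]),
  (36,[22,17,19,16,22,3,7,15,11,19],[(4654,[8,3,5,2,8]),(288,[]),(7850,[2,1,8,2,2,2]),(288,[]),(11586,[1,4,3,0,5,2,2])],[8,1,2,5,3,4,3,4]),
  (1,[3,7,26,7],[(11694,[]),(292,[])],[1,1,5,2,2,4,3,3]),
  (8,[16,19,16,19,17,17,22,3,7,33,11,13],[(9058,[2,5,2,5,3,3,8]),(288,[]),(8694,[1,2,2,5,8,3,0,9]),(292,[]),(10218,[0,9,0,3,4,3,3,4]),(9736,[]),(9745,[]),(9737,[]),(9732,[])],[0,0,2,8,2,5]),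
  (1,[3,19,11],[(11702,[]),(292,[]),(288,[])],[0,4,2,2,5,9,2,1]),
  (8,[14,16,18,17,17,22,17,14,3,7,33,10,10],[(6538,[0,2,4,3,3,8,3,0]),(292,[]),(7054,[3,3,5,2,5,9]),(292,[]),(11122,[0,5,2,5,5,2,1]),(9744,[]),(9737,[]),(9745,[]),(9732,[])],[0,0,3,3,5,3,9,3])]
theorem hD20 : allD2 lk B KW SW F A RL [] D20 2801 = true := by decide +kernel
def D21 : List (ℕ × Word × List (ℕ × Word) × Word) := [(1,[3,11,19,11,15],[(11710,[]),(293,[]),(288,[])],[2,8,3,5,2,8,3]),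
  (12,[23,17,19,17,19,17,18,3,1,7,10,17,18],[(8558,[9,3,5,3,5,3,4]),(288,[]),(6454,[0,2,5,2,4,2]),(11490,[2,9,3,3,4,3,0]),(9736,[]),(9745,[])],[1,3,3,9,2,2,2,5]),
  (1,[3,7,15,10],[(11718,[]),(292,[]),(288,[])],[0,3,5,8,3,0,2]),
  (37,[15,17,19,16,19,17,17,3,1,7,16,7],[(3634,[1,3,5,2,5,3,3]),(293,[]),(288,[]),(7210,[1,4,2,5,2,5,9,0]),(292,[]),(288,[]),(11130,[0,4,2,1,3,5,2,1]),(9737,[]),(9732,[])],[8,1,3,3,4,3,3]),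
  (1,[3,7,5,11,16],[(11726,[]),(292,[])],[0,5,8,2,5,8,3]),
  (3,[14,17,14,18,16,23,17,17,3,1,19,10,10],[(1066,[0,3,0,4,2,9,3,3]),(1066,[1,2,2,8,3,4,2,8]),(293,[]),(11074,[0,5,8,3,5,8,1]),(9737,[]),(9732,[])],[2,5,3,5,3,5,9]),
  (1,[3,7,11,9,15],[(11734,[]),(293,[])],[4,3,5,3,8,1]),
  (12,[16,15,19,17,19,16,15,16,3,10,19,22],[(846,[2,1,5,3,5,2,1,2]),(4790,[2,5,3,0,5,2,2,8]),(293,[]),(288,[]),(11586,[2,2,9,0,3,5,3,3]),(9745,[]),(9736,[]),(9732,[])],[8,1,2,5,2]),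
  (1,[3,1,7,26,7],[(11742,[])],[0,2,4,3,3,8,1]),
  (36,[14,23,16,19,16,15,19,7,10,17,3,18],[(5334,[0,9,2,5,2,1,5]),(292,[]),(288,[]),(4014,[8,3,4,3,8,1,2,9]),(293,[]),(10626,[0,8,3,0,4,3,5]),(9737,[]),(9744,[]),(9737,[]),(9732,[])],[8,1,2,4,2,5,2,9]),
  (1,[3,11,18,32],[(11750,[])],[0,3,5,2,8,2,4,3]),
  (12,[15,22,17,19,17,14,18,16,3,1,7,10,32],[(3566,[1,8,3,5,3,0,4,2]),(4158,[9,2,5,2,8,3,9]),(10306,[0,5,3,5,3,3,5,5]),(9737,[]),(9744,[]),(9736,[]),(9732,[])],[2,2,2,4,3,3,8]),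
  (1,[3,7,9,16,7],[(11758,[]),(293,[])],[5,2,9,2,1,5]),
  (11,[14,16,15,16,18,16,19,16,3,29,11,17,3],[(3246,[0,2,1,2,4,2,5,2]),(5018,[2,5,5,2,1,4]),(11394,[1,1,5]),(9737,[]),(9745,[]),(9737,[]),(9732,[])],[0,3,5,9,0,2,2,2,5]),
  (1,[3,1,7,11,13],[(11766,[]),(292,[]),(288,[])],[3,5,2,1,2,4,2,2]),
  (14,[18,17,18,16,19,16,23],[(9730,[4,3,4,2,5,2,9]),(8,[]),(8,[]),(9726,[0,2,2])],[4,3,5,5,8,3,4]),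
  (1,[11,11],[(11774,[])],[0,4,2,8,1,8,3,4]),
  (36,[16,15,18,17,22,15],[(9730,[2,1,4,3,8,1]),(12,[]),(12,[]),(12,[]),(17,[]),(12,[]),(12,[]),(16,[]),(282,[1,3,9,2,2,2,9,2]),(293,[]),(10050,[9,3,5,3,5,9,3]),(9744,[]),(9737,[])],[1,4,2,5]),
  (1,[3,11,11],[(11782,[]),(9736,[]),(9744,[]),(9737,[])],[2,1,2]),
  (36,[23,16,23],[(9730,[9,2,9]),(17,[]),(13,[]),(13,[]),(17,[]),(9,[]),(282,[1,1,2,2,2,4,2,5]),(293,[]),(10042,[0,2,5,2,1,4,2,9])],[9,3,4,3,4,3,4]),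
  (1,[7,9,11,13],[(11790,[]),(9737,[]),(9745,[]),(9737,[])],[4,3,0,9,2,2,5,2]),
  (36,[17,19,22,16,19,23,17],[(9730,[3,5,8,2,5,9,3]),(8,[]),(98,[9,0,2,4,2,4]),(112,[]),(9770,[1,1,3,3,4,2,2,4])],[3,8,1,8,3,5,8]),
  (36,[17,23,16,19,22,17,22,16],[(9730,[3,9,2,5,8,3,8,2]),(17,[]),(13,[]),(17,[]),(12,[]),(12,[]),(17,[]),(13,[]),(8,[]),(282,[4,3,3,5,8,3]),(293,[]),(9906,[0,3,5,3,0,4,3,8])],[4,2,1,3,4,3,3]),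
  (1,[7,11,9],[(11802,[])],[2,1,2,5,3,3,4]),
  (8,[17,17,19,16,15,17,18,17,11],[(9798,[3,3,5,2,1,3,4,3]),(5737,[]),(257,[]),(249,[]),(9398,[2,8,1,8,2,5,9]),(11506,[8,2,4,3,8,2,5]),(9745,[]),(9737,[]),(9732,[])],[2,5,9,3,5,3,4,2]),
  (1,[3,10,18],[(11810,[]),(9745,[])],[1,1,5,3,5]),
  (11,[14,16,19,16,19,19,16,19,11],[(9798,[0,2,5,2,5,5,2,5]),(252,[]),(264,[]),(9542,[4,2,2,2]),(293,[]),(10058,[2,9,3,3,8,2]),(9732,[])],[1,3,5,3,9]),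
  (9,[22,16,19,16,15,18,10],[(11778,[8,2,5,2,1,4]),(9737,[]),(10046,[3,0,5,3,4,3,8]),(288,[]),(10594,[3,3,5,3,4,3,8,3]),(9745,[]),(9737,[]),(9732,[])],[2,8,2,5,9,0,3,4]),
  (11,[14,18,17,19,17,18,17,19,10],[(11778,[0,4,3,5,3,4,3,5]),(9736,[]),(11110,[0,4,3,9,3,5,3]),(293,[]),(288,[]),(11138,[2,9,0,3,4,3,4])],[0,0,0,4,2,2,4]),
  (1,[7,16,3,11],[(11826,[]),(9744,[]),(9736,[]),(9732,[])],[9,3,4,3,4,3,8]),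
  (36,[17,17,19,23,17,19,3,7],[(11454,[3,3,5,9,3,5]),(293,[]),(288,[]),(4246,[8,1,3,5,9,3,3]),(293,[]),(288,[]),(9658,[0,0,5,9,2,9]),(136,[]),(104,[]),(161,[])],[5,3,0,4,3,5,2]),
  (1,[3,1,11,18],[(11834,[]),(9737,[]),(9732,[])],[1,4,3,5,3,3,9,3]),
  (9,[14,16,16,19,17,17,3,1,10],[(11794,[0,2,2,5,3,3]),(9736,[]),(10950,[0,2,2,5,8,3,5]),(292,[]),(288,[]),(10962,[4,2,2,5,2,5,3]),(9736,[]),(9745,[]),(9732,[])],[3,0,2,4,3,3,5,2]),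
  (100,[],[],[]),
  (1,[7],[(11846,[])],[]),
  (1,[14,18,16,19,19,23,16,18],[(11850,[0,4,2,5,5,9,2,4]),(248,[]),(11846,[0,0])],[]),
  (1,[14,18,16,19,19,23,16,18],[(11850,[0,4,2,5,5,9,2,4]),(252,[]),(11846,[0,2,5,2,4,3,4,3,9,3])],[]),
  (1,[14,18,16,19,19,23,16,18],[(11850,[0,4,2,5,5,9,2,4]),(264,[]),(256,[]),(11846,[5,2,2,2,5,5])],[]),
  (8,[17,14,16,18,16,19,16,18],[(34,[3,0,2,4,2,5,2,4]),(16,[]),(13,[]),(13,[]),(17,[]),(13,[]),(17,[]),(242,[0,5,5,5]),(11846,[0,2,2,9,2,2,2,9,3]),(11860,[])],[2,2,2,5,5,2,2,2,9]),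
  (1,[7,9],[(11866,[]),(48,[]),(57,[]),(44,[])],[2,2,2,5,8,2,2,2]),
  (7,[14,18,17,17,18,16,18,3,18,3,7],[(70,[0,4,3,3,4,2,4]),(13,[]),(16,[]),(16,[]),(9,[]),(12,[]),(16,[]),(74,[0,2,2,5,9,2,8]),(36,[]),(65,[]),(48,[]),(11870,[0,3,5,5,3,0,5,2]),(11861,[]),(11856,[])],[0,5,3,8,2,2,4]),
  (1,[3,19],[(11874,[]),(56,[]),(48,[]),(11870,[2,4,3,5,9,2,9,3])],[]),
  (11,[19,16,22,17,17,19,17,14],[(102,[5,2,8,3,3,5,3,0]),(13,[]),(16,[]),(12,[]),(16,[]),(16,[]),(13,[]),(242,[5,2,5,5,9,3,4,3]),(257,[]),(11846,[5,2,5,2,9,3,3]),(11861,[])],[5,3,5,9,2,2,4,3]),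
  (1,[7,16,27],[(11882,[]),(108,[]),(136,[]),(161,[])],[0,3,4,2,5,3,4]),
  (2,[18,17,17,19,17,22,15,22],[(246,[4,3,3,5,3,8,1,8]),(17,[]),(17,[]),(8,[]),(242,[1,4,3,3,5,9,2]),(257,[]),(11846,[3,0,4,3,4,3,0,5])],[0,8,3,0,4,3,4,3]),
  (1,[7],[(11890,[]),(252,[]),(265,[]),(257,[])],[1,1,5,2,2,2,5]),
  (8,[16,16,19,19,19,16,19],[(246,[2,2,5,5,5,2,5]),(12,[]),(12,[]),(12,[]),(17,[]),(9,[]),(12,[]),(16,[]),(242,[0,3,3,8,1,2,9]),(257,[]),(11846,[1,3,5,9,2,5,2,4]),(11860,[]),(11853,[])],[1,5,2,2,2,8,2,2,2]),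
  (1,[7,27,27],[(11898,[]),(265,[]),(249,[])],[8,3,4,3,4,3]),
  (12,[14,16,16,16,22,16,16,16,3],[(11894,[0,2,2,2,8,2,2,2]),(11861,[]),(11876,[]),(11866,[1,2,2,8,2,4,2,4,3]),(48,[]),(57,[]),(44,[]),(40,[]),(11870,[8,2,2,2,5,5,5]),(11860,[]),(11856,[])],[0,0,9,2,2,2,5]),
  (1,[3],[(11906,[]),(257,[]),(265,[]),(256,[])],[0,4,2,2,2,8,2,2,2,4]),
  (14,[15,17,19,19,17,18,17,19,7,11],[(278,[1,3,5,5,3,4,3,5]),(256,[]),(11846,[0,2,2,8,2,1,4,3,9]),(11853,[])],[0,8,1,3,0,5,2]),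
  (1,[11],[(11914,[]),(248,[])],[1,4,2,5,2,5,3]),
  (6,[22,17,22,16,15,19,3,19,7,10,19],[(9666,[8,3,8,2,1,5]),(293,[]),(938,[0,3,4,3,5,8,1,2]),(265,[]),(256,[]),(264,[]),(11902,[0,4,2,4,3,9]),(11877,[]),(11877,[]),(11852,[])],[0,3,3,5,2,2,4]),
  (1,[3,29,7,16,11],[(11922,[]),(252,[]),(5737,[]),(256,[])],[3,9,2,4,3,5]),
  (10,[19,23,17,18,16,16,16],[(286,[5,9,3,4,2,2,2]),(12,[]),(16,[]),(16,[]),(9,[]),(12,[]),(8,[]),(242,[5,5,2,5,5]),(252,[]),(264,[]),(11926,[2,2,4,2,5,3,3,9]),(11860,[]),(11877,[]),(11852,[])],[2,5,2,4,2,5,9,0]),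
  (1,[7,11,27,27],[(11930,[]),(292,[])],[2,8,2,4,2,2,9,0]),
  (11,[14,16,19,19,17,19],[(286,[0,2,5,5,3,5]),(16,[]),(9,[]),(12,[]),(17,[]),(13,[]),(13,[]),(16,[]),(8,[]),(282,[1,4,3,5,2,8,2,4]),(293,[]),(11934,[4,3,4,3,8,2,2])],[0,4,3,3,9,2,5,3]),
  (1,[3,1,11,18,26],[(11938,[]),(293,[]),(288,[])],[1,2,4,3,5,2,4,2]),
  (12,[16,18,17,19,16,22,16,18],[(286,[2,4,3,5,2,8,2,4]),(9,[]),(12,[]),(16,[]),(16,[]),(12,[]),(17,[]),(12,[]),(8,[]),(242,[0,9,3,4,3,3,5,3]),(11846,[0,0,5,2,2,8,2,2]),(11856,[]),(11877,[]),(11853,[])],[2,1,4,3,5,5,5,3]),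
  (1,[3,7,26,7,5],[(11946,[]),(288,[])],[0,2,5,2,1,5,8,3]),
  (12,[14,19,23,16,22,15,22,16],[(286,[0,5,9,2,8,1,8,2]),(9,[]),(12,[]),(8,[]),(282,[3,5,2,4,3,4,3,5]),(292,[]),(11934,[2,2,8,3,3,8,2,8,3]),(11861,[]),(11853,[])],[3,3,4,3,0,4]),
  (1,[3,11,18,27,27],[(11954,[])],[0,0,2,8,3,0,2,8]),
  (12,[19,22,17,17,19,16,18],[(286,[5,8,3,3,5,2,4]),(17,[]),(13,[]),(17,[]),(17,[]),(13,[]),(16,[]),(13,[]),(8,[]),(282,[4,3,4,3,3,9]),(292,[]),(11934,[2,5,3,3,5,8,2,8]),(11877,[])],[2,5,8,2,5,2,1,4]),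
  (1,[3,1,10,22,7,11],[(11962,[]),(293,[])],[0,2,5,3,4,3,0,2]),
  (36,[22,17,14,19,17,19,16,16,7],[(418,[8,3,0,5,3,5,2,2]),(386,[3,0,2,4,3,9,3]),(248,[]),(11918,[1,4,3,4,3,5,9,3]),(11852,[])],[3,5,8,1,3,0,5,2]),
  (1,[7,9,11,9],[(11970,[]),(292,[])],[3,4,2,4,2,2,5]),
  (37,[14,16,16,16,22,16,22,7],[(418,[0,2,2,2,8,2,8]),(906,[3,0,4,2,2,5,3,5]),(249,[]),(11918,[2,2,2,4,2,5,2,5]),(11877,[]),(11861,[]),(11852,[])],[1,2,4,2,2,5,3,8]),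
  (1,[3,1,11],[(11978,[])],[0,2,5,3,0,5,3,8]),
  (38,[14,19,17,17,18,17,14,23,7],[(418,[0,5,3,3,4,3,0,9]),(970,[4,2,5,5,9,3,4]),(248,[]),(11918,[2,1,4,3,5,2,5]),(11877,[]),(11861,[])],[0,3,3,5,2,1,2]),
  (1,[3,1,7,9,10],[(11986,[]),(293,[])],[4,3,9,3,3,4]),
  (39,[14,17,14,16,19,22,10],[(386,[0,3,0,2,5,8]),(406,[0,2,5,5,3,5,8]),(293,[]),(11990,[3,5,2,9,0,2]),(11877,[]),(11861,[]),(11853,[])],[1,2,5,3,3,5,8,3]),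
  (1,[7,16,27,11],[(11994,[])],[3,4,3,4,3,4]),
  (14,[16,16,18,16,18,16,19,16,3,7],[(3306,[2,2,4,2,4,2,5,2]),(292,[]),(288,[]),(11942,[0,5,2,9,0])],[5,8,3,5,9,2,2]),
  (1,[3,1,19,3,10],[(12002,[])],[0,4,3,4,2,2]),
  (3,[16,15,19,17,14,19,7,9],[(426,[2,1,5,3,0,5]),(438,[3,0,4,3,4,3,0,4]),(292,[]),(11998,[3,9,3,3,5,3,9]),(11861,[]),(11856,[])],[3,5,5,3,5,3,4]),
  (1,[3,19,11,14,10],[(12010,[]),(292,[])],[2,8,3,9,0,2]),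
  (17,[17,14,18,16,23,17,19,16,7,9],[(426,[3,0,4,2,9,3,5,2]),(11974,[5,2,5,2,2,8,3]),(11852,[])],[5,9,2,2,2,9,3]),
  (1,[7,10,9,10],[(12018,[])],[0,0,3,4,2,2,5,2]),
  (37,[17,22,17,19,23,17,7,10],[(522,[3,8,3,5,9,3]),(386,[2,5,2,8,3,3,5,3]),(11918,[0,0,3,3,5,2,2,4]),(11853,[])],[0,0,4,2,2,8,2,2]),
  (1,[7,9,10],[(12026,[])],[0,3,3,5,3,5,8,1,2]),
  (42,[14,23,17,17,19,17,14,7,10],[(522,[0,9,3,3,5,3,0]),(970,[3,8,1,3,4,3,3,9]),(11846,[2,9,3,3,8,2,4]),(11853,[])],[8,2,5,2,5,8,2]),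
  (1,[7,9,11],[(12034,[])],[2,2,8,3,4,2,9,0]),
  (8,[16,18,16,16,23,3,1,11],[(582,[2,4,2,2,9]),(288,[]),(7474,[0,4,3,3,5,3,5]),(292,[]),(11950,[2,1,2,5,3,8,2,2]),(11876,[]),(11856,[]),(11853,[])],[1,8,2,9,2,2]),
  (1,[3,1,10,28,3,10],[(12042,[]),(292,[]),(288,[])],[1,3,5,9,2,1]),
  (11,[16,19,23,16,18,17,3,1,11],[(582,[2,5,9,2,4,3]),(288,[]),(5074,[2,2,4,2,1,5,2,9]),(288,[]),(12046,[2,5,3,9,3,4,3]),(11852,[])],[3,9,3,3,4,3,9]),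
  (1,[3,28,3,10,26],[(12050,[])],[0,4,3,3,5,5]),
  (36,[18,17,19,17,23,16,3,7,10],[(10138,[4,3,5,3,9,2]),(11454,[0,5,3,9,2,5,8,2,9]),(292,[]),(288,[]),(12014,[9,2,5,3,5,3,8]),(11861,[]),(11876,[]),(11876,[]),(11856,[])],[0,5,8,2,1,5]),
  (1,[3,10,22,7,11,9],[(12058,[]),(293,[]),(288,[])],[3,4,2,5,2,2,9]),
  (42,[14,23,17,19,16,16,16,3,7,10],[(10138,[0,9,3,5,2,2,2]),(9744,[]),(9736,[]),(9745,[]),(9878,[2,9,2,2,2,4,3]),(288,[]),(12062,[5,3,3,8,1]),(11877,[]),(11860,[])],[3,5,2,5,5,2,2,8]),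
  (1,[3,23,7,10],[(12066,[]),(292,[])],[0,0,2,5,2,5,5]),
  (2,[19,16,19,16,19,16,23,17,3,11,11],[(798,[5,2,5,2,5,2,9,3]),(293,[]),(1538,[4,3,3,4,3,4]),(292,[]),(288,[]),(12014,[0,4,2,4,2,5,8]),(11856,[]),(11876,[]),(11853,[])],[0,8,2,2,5,3,8]),
  (1,[3,7,11,18,9,10],[(12074,[])],[0,3,0,5,3,3]),
  (6,[14,19,16,16,19,23,17,3,11,11],[(798,[0,5,2,2,5,9,3]),(293,[]),(1622,[2,2,8,3,5]),(288,[]),(12014,[1,5,3,8,2,5,3,9]),(11877,[]),(11877,[]),(11860,[]),(11852,[])],[0,0,2,2,4,2,5,9]),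
  (1,[3,19,7,11],[(12082,[])],[0,0,5,2,2,2,9]),
  (13,[16,16,22,17,17,22,17,19,3,11,11],[(798,[2,2,8,3,3,8,3,5]),(293,[]),(798,[0,2,2,2,4,3,0,2]),(293,[]),(12006,[0,8,2,4,2,2,5,2]),(11861,[]),(11856,[]),(11876,[]),(11853,[])],[1,2,5,2,8,2,4]),
  (1,[3,18,27,27,7],[(12090,[])],[2,4,2,5,3,0,4,2]),
  (11,[16,15,19,17,17,18,17,3,10,13],[(790,[2,1,5,3,3,4,3]),(293,[]),(288,[]),(5714,[4,2,9,3,3,8]),(292,[]),(11958,[0,4,3,5,2,2]),(11861,[]),(11876,[]),(11852,[])],[2,8,1,2,5,2,5]),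
  (1,[3,7,29,27,10],[(12098,[]),(293,[]),(288,[])],[2,5,8,1,3,5,9,3]),
  (8,[18,17,17,23,14,7,9,11],[(542,[4,3,3,9,0]),(293,[]),(466,[2,1,5,3,5,3,5,9]),(293,[]),(11998,[1,3,5,3,4,3,4])],[5,8,2,2,2,4,3]),
  (1,[3,1,18,16,11],[(12106,[]),(292,[])],[9,2,9,2]),
  (8,[16,16,16,19,17,19,23,7,11,9],[(970,[2,2,2,5,3,5,9]),(264,[]),(248,[]),(5737,[]),(7314,[1,3,8,3,3,8,2]),(293,[]),(12086,[0,0,3,5,3,3,5,9]),(11877,[]),(11860,[])],[2,9,3,4,3,0,5,2]),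
  (1,[3,1,28,10,26,3],[(12114,[]),(288,[])],[0,3,9,0,2,2,2]),
  (8,[14,16,18,17,19,3,1,7,11],[(2930,[0,2,4,3,5]),(292,[]),(288,[]),(2978,[2,4,3,5,2,9]),(292,[]),(11942,[4,2,5,8,2,1,5]),(11860,[]),(11877,[]),(11860,[])],[9,3,5,3,4,3,0]),
  (1,[3,1,19,11,18,7],[(12122,[]),(292,[])],[0,0,4,2,4,2,2,8]),
  (3,[14,23,16,19,17,22,16,19,3,1,7,10],[(1478,[0,9,2,5,3,8,2,5]),(293,[]),(794,[0,5,8,3,5,3,4,3]),(293,[]),(288,[]),(12094,[1,8,2,4,2,5,9,3]),(11877,[]),(11861,[]),(11853,[])],[5,3,3,5,9,0,2,5]),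
  (1,[3,7,28,11,16,23],[(12130,[])],[1,3,9,3,4,3,3]),
  (8,[16,19,22,16,19,22,15,3,1,7,10],[(1478,[2,5,8,2,5,8,1]),(292,[]),(1742,[2,2,8,3,5,3,0,2]),(12118,[0,2,2,4,3,3,5]),(11856,[]),(11877,[]),(11861,[]),(11852,[])],[2,2,5,2,1,3,4]),
  (1,[3,11,19,11],[(12138,[]),(293,[])],[0,2,5,2]),
  (12,[22,16,19,17,23,16,18,16,3,1,11,11],[(9962,[8,2,5,3,9,2,4,2]),(9737,[]),(9732,[]),(11558,[1,2,4,2,9,0,3,5]),(12086,[1,4,3,8,2,4,3,3]),(11861,[]),(11876,[])],[5,3,4,3,5,2,9,3]),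
  (1,[3,1,28,10,9],[(12146,[])],[3,5,3,5,9,2,5]),
  (36,[19,23,17,22,17,17,3,1,11,13],[(9970,[5,9,3,8,3,3]),(9736,[]),(9744,[]),(9737,[]),(9732,[]),(10446,[2,4,2,4,2,1,3]),(11950,[0,2,2,8,3,4,2,2]),(11856,[]),(11852,[])],[4,2,1,5,3,5,3]),
  (1,[3,1,29,3,26],[(12154,[]),(293,[]),(288,[])],[0,0,2,8,1,2]),
  (12,[15,16,16,19,23,17,17,18,3,1,18],[(634,[1,2,2,5,9,3,3,4]),(293,[]),(288,[]),(4506,[0,4,2,1,8,3,5,3,9]),(293,[]),(11942,[2,1,5,2,9]),(11877,[]),(11856,[]),(11852,[])],[0,3,5,2,8,2,8,2]),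
  (1,[3,1,18,16],[(12162,[]),(288,[])],[0,8,2,4,3,5,2]),
  (14,[14,14,17,18,16,19,17,17,3,1,18],[(634,[0,0,3,4,2,5,3,3]),(12158,[0,0,9,3,4,3,9,2])],[1,5,3,9,0,2,4]),
  (1,[3,7,16,19,10],[(12170,[])],[0,0,3,3,5,3,8]),
  (11,[16,16,19,17,22,3,7,5,10],[(1310,[2,2,5,3,8]),(288,[]),(3966,[0,3,5,5,5,3,9,3]),(11950,[0,0,3,4,3,5,3,3])],[2,1,4,3,5,8,1,2]),
  (1,[3,1,11,19,11],[(12178,[]),(293,[])],[0,0,0,2,2,4,3,3,4]),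
  (11,[18,16,16,19,17,23,14,3,7,5,10],[(1310,[4,2,2,5,3,9,0]),(288,[]),(1762,[2,1,2,5,2,2,5,3]),(288,[]),(11950,[0,3,8,2,4,2,2,2]),(11856,[]),(11876,[]),(11860,[]),(11856,[])],[4,2,4,2,1,3,5]),
  (1,[3,7,29,11,26],[(12186,[]),(293,[])],[0,0,3,4,3,4,3,9]),
  (6,[18,17,14,18,17,22,3,7,9,11],[(1958,[4,3,0,4,3,8]),(293,[]),(2158,[1,2,4,2,8,1,8]),(293,[]),(12094,[2,1,2,5,2,4]),(11856,[]),(11877,[]),(11860,[]),(11856,[]),(11852,[])],[3,5,9,2,9,3,5]),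
  (1,[3,19,11,18,7],[(12194,[]),(293,[]),(288,[])],[8,3,3,5,2,2,9]),
  (6,[17,22,16,16,19,17,22,3,7,9,11],[(1958,[3,8,2,2,5,3,8]),(292,[]),(1514,[5,9,2,9,3,5]),(12078,[1,4,3,5,9,3,4,2]),(11876,[]),(11876,[]),(11856,[])],[0,2,9,2,1])]
theorem hD21 : allD2 lk B KW SW F A RL [] D21 2928 = true := by decide +kernel
def D22 : List (ℕ × Word × List (ℕ × Word) × Word) := [(1,[3,7,33,11,19],[(12202,[]),(293,[]),(288,[])],[2,1,8,3,5,2,2]),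
  (12,[14,14,17,17,18,17,17,18,3,7,11,11],[(12006,[0,0,3,3,4,3,3,4]),(11861,[]),(11876,[]),(11876,[]),(11856,[]),(11962,[1,2,4,2,1,5,2,5]),(292,[]),(11998,[0,9,2,1,4,3,8,2,4]),(11860,[]),(11877,[]),(11852,[])],[4,3,3,5,9,3,4]),
  (1,[3,11,19,10],[(12210,[])],[0,4,2,1,8,3,3]),
  (8,[16,22,17,17,23,16,19,7,9,11,9],[(9906,[2,8,3,3,9,2,5]),(9744,[]),(9737,[]),(11014,[2,2,2,8,1,2,2,2,8]),(293,[]),(288,[]),(11950,[1,8,2,5,2,5,3]),(11860,[]),(11877,[]),(11860,[]),(11853,[])],[5,3,5,2,8,2,4,2]),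
  (1,[3,1,10,19,10],[(12218,[])],[2,9,3,5,3,5,2]),
  (36,[22,16,18,16,22,17,22,7,9,11,11],[(10050,[8,2,4,2,8,3,8]),(9745,[]),(9942,[1,8,3,3,5,3,5,3]),(11990,[0,5,2,5,9,3,5,8]),(11876,[]),(11861,[]),(11853,[])],[5,3,5,5,3,4,3]),
  (1,[3,10,22,10,22,7],[(12226,[]),(292,[])],[0,2,8,3,8,2]),
  (8,[14,16,23,16,16,16,19,16,22,7,9,11,13],[(394,[0,2,9,2,2,2,5,2,8]),(248,[]),(5736,[]),(1006,[2,2,2,5,5,3,0,2]),(293,[]),(288,[]),(12078,[5,2,2,5,2,4]),(11876,[]),(11876,[]),(11856,[]),(11852,[])],[3,8,2,2,5,3,3]),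
  (1,[3,19,26,18,3],[(12234,[]),(293,[])],[3,5,3,5,8,2,2]),
  (10,[17,19,17,17,18,17,23,17,3,1,7,9,11],[(4258,[3,5,3,3,4,3,9,3]),(6950,[2,5,3,9,2,5,8,2]),(288,[]),(12118,[0,3,5,2,8,3,5,3]),(11856,[]),(11877,[]),(11856,[])],[3,0,2,4,2,4]),
  (1,[3,7,9,11],[(12242,[])],[0,2,1,3,4,2,2]),
  (7,[14,19,19,17,14,19,17,3,1,7,15,11],[(8526,[0,5,5,3,0,5,3]),(292,[]),(288,[]),(9602,[0,2,5,2,5,8,2,5]),(12166,[4,3,3,8,1,2,2]),(11856,[]),(11877,[]),(11860,[])],[3,5,5,5,3,9,0]),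
  (1,[7,16,3,19,10],[(12250,[]),(293,[]),(288,[])],[0,3,5,8,3,4,3,5]),
  (12,[19,19,19,17,19,23,17,3,7,5,10,10],[(8078,[5,5,5,3,5,9,3]),(1114,[4,2,2,2,5,8,3,8]),(11934,[0,3,4,2,4]),(11876,[]),(11876,[]),(11856,[]),(11852,[])],[8,2,4,3,3,9,2,8]),
  (1,[3,10,19,11],[(12258,[]),(292,[]),(288,[])],[3,4,2,5,2,1,3]),
  (6,[14,14,17,17,23,17,3,7,5,10,13],[(3990,[0,0,3,3,9,3]),(292,[]),(2330,[0,0,2,9,0,3,5]),(292,[]),(288,[]),(12094,[2,5,5,2,5,2,5]),(11856,[]),(11877,[]),(11860,[]),(11852,[])],[1,3,5,3,4,3,5]),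
  (1,[3,7,9,10],[(12266,[])],[0,2,4,3,0,4,2,1]),
  (38,[14,16,22,16,19,19,23,3,7,5,10,13],[(3990,[0,2,8,2,5,5,9]),(293,[]),(7606,[0,3,0,4,3,8,2,2]),(292,[]),(12062,[1,3,3,4,3,4,3,0]),(11860,[]),(11856,[]),(11852,[])],[0,0,9,3,5,8,2,2,4]),
  (1,[3,1,28,11,26,3],[(12274,[]),(293,[]),(288,[])],[0,9,2,2,8,2,9]),
  (2,[14,17,14,19,16,15,18,16,3,7,9,10,10],[(4350,[0,3,0,5,2,1,4,2]),(288,[]),(4150,[0,0,2,2,4,2,5,2]),(293,[]),(288,[]),(12094,[9,2,2,4,2,9]),(11856,[]),(11876,[]),(11860,[]),(11853,[])],[2,1,4,3,5,3,8,2]),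
  (1,[3,7,29,26,11],[(12282,[]),(293,[]),(288,[])],[1,5,2,2,5,3,5]),
  (12,[18,17,18,17,19,16,22,3,7,9,10,10],[(4350,[4,3,4,3,5,2,8]),(288,[]),(4150,[0,5,2,2,2,8,1,8]),(292,[]),(12166,[8,3,5,8,2,4,2,1]),(11876,[]),(11860,[]),(11856,[]),(11852,[])],[4,3,8,2,4,3,4]),
  (1,[3,19,11,26],[(12290,[])],[0,2,8,2,4,2,1,3]),
  (43,[19,16,22,17,17,19,16,3,7,10,27],[(6318,[5,2,8,3,3,5,2]),(292,[]),(1954,[5,8,2,4,2,5,2]),(12006,[0,4,2,2,2,9,2,4]),(11877,[]),(11877,[]),(11853,[])],[0,5,3,3,8,3,4,3]),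
  (1,[3,11,11,29,16,3],[(12298,[]),(292,[])],[1,2,2,2,5,3,3]),
  (11,[16,18,17,18,17,14,16,19,3,7,16],[(3082,[2,4,3,4,3,0,2,5]),(293,[]),(478,[0,2,5,2,4,2,5,8]),(12030,[0,8,2,2,2,5,2,4]),(11860,[]),(11877,[]),(11860,[]),(11853,[])],[3,9,3,3,5,3]),
  (1,[7,17,3,19,10],[(12306,[])],[3,0,5,2,8,2,5,3]),
  (12,[18,17,18,16,22,16,18,3,7,10,26],[(3006,[4,3,4,2,8,2,4]),(288,[]),(9650,[0,4,2,2,8,1]),(265,[]),(256,[]),(11902,[2,4,2,1,8]),(11860,[]),(11877,[]),(11860,[]),(11853,[])],[2,8,1,8,2,5,9]),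
  (1,[3,10,10,19,11],[(12314,[]),(288,[])],[2,5,2,2,4]),
  (39,[15,17,19,17,22,16,3,7,10,26],[(3006,[1,3,5,3,8,2]),(292,[]),(4574,[0,4,3,5,2,1,3]),(12070,[8,3,3,5,3,9]),(11876,[]),(11856,[]),(11852,[])],[0,4,2,5,3,0]),
  (1,[3,1,23,7,11],[(12322,[]),(292,[])],[2,1,4,3,9,0,2]),
  (9,[19,23,17,19,17,19,19,7,10,16,16],[(682,[5,9,3,5,3,5,5]),(293,[]),(288,[]),(4086,[2,2,2,5,3,5,5]),(292,[]),(288,[]),(12246,[3,4,3,3,4,2,1]),(11853,[])],[0,2,5,3,4,3,5,3]),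
  (1,[3,18,27,27],[(12330,[]),(293,[])],[5,2,8,3,5,8,2]),
  (9,[14,14,17,19,17,18,7,9,10,15],[(674,[0,0,3,5,3,4]),(288,[]),(1318,[0,5,5,5,2,2,2,4]),(292,[]),(288,[]),(12062,[0,0,4,2,4,3,3,8]),(11876,[]),(11876,[])],[5,2,1,4,2,2]),
  (1,[3,1,11,28,3,11],[(12338,[]),(292,[])],[5,2,4,2,4,3]),
  (8,[17,18,16,22,17,19,17,17,3,7,17,3],[(11998,[3,4,2,8,3,5,3,3]),(11860,[]),(11877,[]),(11860,[]),(11852,[]),(11930,[5,9,0,3,4]),(293,[]),(12110,[5,5,2,2,2,5,5,5]),(11876,[]),(11876,[]),(11876,[])],[2,2,9,0]),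
  (1,[3,7,11,9,33,11],[(12346,[]),(292,[])],[0,2,2,4,2,1,8,3,3]),
  (8,[17,17,22,17,18,17,14,3,1,7,33],[(3570,[3,3,8,3,4,3,0]),(293,[]),(288,[]),(2682,[1,4,2,4,2,5,3,8]),(12134,[0,3,4,2,5,8,2,8,3]),(11876,[]),(11853,[])],[0,3,4,3,5,3,9,0]),
  (1,[3,1,19,3,11],[(12354,[]),(292,[]),(288,[])],[0,0,3,4,2,2,5]),
  (9,[14,16,16,18,16,16,18,3,1,7,33],[(3570,[0,2,2,4,2,2,4]),(293,[]),(3942,[1,1,3,4,3,5,3]),(292,[]),(288,[]),(12014,[0,5,3,3,8,3,5]),(11876,[]),(11860,[])],[0,0,2,4,2,2,9,3]),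
  (1,[3,19,11,9],[(12362,[])],[1,8,3,4,3]),
  (13,[16,22,15,17,18,17,14,18,3,7,15,11],[(7994,[2,8,1,3,4,3,0,4]),(288,[]),(1294,[0,0,4,2,5,5,9]),(292,[]),(12358,[0,5,5,3,5,3]),(11876,[]),(11856,[]),(11852,[])],[5,3,0,4,3]),
  (1,[3,1,19,11],[(12370,[])],[2,1,4,3,9]),
  (9,[16,16,22,15,16,16,3,7,15,10],[(7722,[2,2,8,1,2,2]),(2606,[0,3,4,2,2,5,2]),(292,[]),(288,[]),(12134,[4,2,2,5,2,2,4]),(11876,[]),(11860,[]),(11852,[])],[8,1,8,2,5,2,2,8]),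
  (1,[3,11,11,18,16],[(12378,[]),(293,[]),(288,[])],[0,5,2,5,8,2,2,4]),
  (11,[16,16,22,15,16,3,7,5,11,17],[(2058,[2,2,8,1,2]),(293,[]),(288,[]),(5466,[5,5,2,4,2,2,8]),(292,[]),(288,[]),(12342,[3,8,1,2,5,2,5]),(11856,[]),(11877,[]),(11860,[]),(11856,[]),(11853,[])],[4,3,3,8,3,4,2]),
  (1,[3,7,16],[(12386,[])],[0,0,4,3,8,2,2,4]),
  (41,[16,16,19,16,19,19,19,16,3,1,7,9,11,13],[(7234,[2,2,5,2,5,5,5,2]),(293,[]),(3266,[4,2,2,8,1,3,3]),(12150,[3,4,3,0,5,9,2]),(11876,[]),(11860,[]),(11856,[])],[2,5,3,3,9,2,5]),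
  (1,[3,23,7,11,9],[(12394,[]),(293,[]),(288,[])],[1,5,8,3,3,5,3]),
  (4,[17,18,16,22,17,18,17,17,3,1,7,9,10,10],[(2262,[3,4,2,8,3,4,3,3]),(1562,[1,8,2,4,2,5,2,8]),(12150,[2,2,5,2,5,8,1]),(11861,[]),(11856,[]),(11876,[]),(11853,[])],[2,9,2,2,5,3,4]),
  (1,[3,19,10,9,10],[(12402,[])],[2,2,5,8,3,9,0]),
  (12,[15,16,19,16,22,17,19,22,3,1,7,9,10,10],[(2262,[1,2,5,2,8,3,5,8]),(2798,[2,4,3,4,3,8,2,1]),(288,[]),(12390,[1,5,3,5,3,8,2,2]),(11861,[]),(11876,[]),(11856,[])],[1,3,5,9,3,4,3]),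
  (1,[3,10,19,17,3,7],[(12410,[]),(293,[])],[1,2,2,5,2,5]),
  (12,[14,19,16,22,15,17,18,3,7,5,10,27],[(8310,[0,5,2,8,1,3,4]),(292,[]),(288,[]),(5742,[3,5,3,8,2,4,2]),(292,[]),(12326,[0,2,1,4,3,3,4,3]),(11856,[]),(11877,[]),(11860,[]),(11856,[])],[0,4,3,3,5,9,2,9]),
  (1,[3,7,29,11,9,26],[(12418,[]),(288,[])],[5,8,2,5,8,3]),
  (12,[19,16,18,17,17,18,3,7,5,26,7],[(10746,[5,2,4,3,3,4]),(10134,[3,5,8,3,4,3,5]),(293,[]),(288,[]),(12286,[3,4,3,0,5,3,5]),(11856,[]),(11876,[]),(11860,[]),(11856,[]),(11852,[])],[5,2,5,2,4,2,8,2]),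
  (1,[3,1,7,16],[(12426,[]),(292,[]),(288,[])],[1,8,3,3,5,3,5]),
  (37,[14,22,17,19,16,16,18,16,16,3,7,5,26],[(9946,[0,8,3,5,2,2,4,2,2]),(10358,[0,2,1,4,3,5,9,0]),(12222,[4,3,4,3,4,3,5,5]),(11856,[]),(11877,[]),(11852,[])],[0,3,3,5,5,2,1]),
  (1,[3,7,29,16,10],[(12434,[]),(293,[]),(288,[])],[5,2,4,3,3]),
  (40,[15,19,17,14,19,17,3,7,5,26],[(9946,[1,5,3,0,5,3]),(9737,[]),(9745,[]),(9736,[]),(10814,[0,8,1,2,2,4]),(293,[]),(288,[]),(12286,[2,8,2,4,2,4,3]),(11877,[]),(11877,[]),(11860,[]),(11853,[])],[2,5,2,1,4,3,8]),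
  (1,[3,1,19,10,18,7],[(12442,[])],[3,3,8,3,0]),
  (12,[22,17,14,18,16,15,19,3,7,5,16],[(630,[8,3,0,4,2,1,5]),(293,[]),(288,[]),(9622,[0,8,2,4,2,2,9,0]),(293,[]),(12374,[5,2,5,2,5,2,8,2]),(11856,[]),(11877,[]),(11860,[]),(11853,[])],[0,0,0,2,5]),
  (1,[3,1,23,7,10],[(12450,[]),(288,[])],[0,5,3,5,3,8,2,5]),
  (8,[17,22,17,18,16,23,17,19,3,7,5,10,26],[(2394,[3,8,3,4,2,9,3,5]),(292,[]),(288,[]),(8410,[1,5,3,5,8,3,3]),(12190,[4,3,9,3,4,3,5]),(11856,[]),(11876,[]),(11852,[])],[1,5,3,3,5,2,5]),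
  (1,[3,29,16,3],[(12458,[])],[0,4,2,2,8,2,9]),
  (8,[14,16,19,17,19,17,17,23,3,19,11],[(3078,[0,2,5,3,5,3,3,9]),(6494,[1,2,2,5,2,4,2]),(293,[]),(12014,[2,2,2,5,5,2,2,9]),(11861,[]),(11856,[]),(11852,[])],[2,4,2,4,2,2]),
  (1,[3,29,7,16,7],[(12466,[]),(288,[])],[5,5,5,3,9,2]),
  (9,[16,18,17,14,16,22,16,3,11,18,32],[(8918,[2,4,3,0,2,8,2]),(288,[]),(1882,[1,2,2,9,2]),(288,[]),(12454,[5,8,1,3,0,4,2])],[0,2,2,2,5,3,3,5]),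
  (1,[3,10],[(12474,[])],[3,4,2,5,2,5,8]),
  (6,[19,23,16,23,14,3,11,18,33],[(9190,[5,9,2,9,0]),(292,[]),(288,[]),(8430,[3,9,3,8,3,5]),(288,[]),(12310,[1,1,2,5,2,5,2,2]),(11877,[]),(11861,[]),(11853,[])],[1,2,2,2,4,3,3]),
  (1,[3,19,27,33,3],[(12482,[])],[2,2,4,2,5,3,8]),
  (11,[14,16,19,22,15,17,3,10,18,32],[(12174,[0,2,5,8,1,3]),(11876,[]),(11861,[]),(11856,[]),(11853,[]),(12178,[2,2,2,9,3,5]),(293,[]),(12174,[4,2,2,2,5,2,9]),(11876,[]),(11876,[]),(11876,[]),(11853,[])],[9,2,4,2,1,5,2]),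
  (1,[3,19,26,18,3,19],[(12490,[]),(288,[])],[0,2,2,2,8,1,8]),
  (36,[14,16,19,23,16,22,16,23,3,7,33,10],[(2710,[0,2,5,9,2,8,2,9]),(293,[]),(3670,[4,2,8,3,5,2,5]),(293,[]),(288,[]),(12182,[3,5,9,0,3]),(11860,[]),(11856,[])],[0,8,2,5,2,1,3]),
  (1,[3,18,26,7],[(12498,[]),(292,[])],[0,5,5,9,3,8,3]),
  (8,[17,19,16,19,23,14,3,1,7,11,17],[(7118,[3,5,2,5,9,0]),(292,[]),(288,[]),(4130,[0,3,8,1,3,5,2]),(12454,[0,2,8,1,8,2,4])],[0,9,2,2,8,2,2]),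
  (1,[3,19,10],[(12506,[])],[0,3,5,3,3,4,2,8]),
  (12,[15,18,17,22,15,17,19,23,3,1,7,10,27,13],[(9494,[1,4,3,8,1,3,5,9]),(4478,[0,2,2,8,3,9,0]),(293,[]),(288,[]),(12470,[2,2,5,2,8,2]),(11876,[]),(11876,[]),(11876,[])],[2,1,2,4,2,9,3,3]),
  (1,[3,11,19,11,9],[(12514,[]),(293,[]),(288,[])],[1,2,5,2,9,0]),
  (11,[19,17,17,19,16,15,18,3,1,7,10,27],[(1158,[5,3,3,5,2,1,4]),(293,[]),(3890,[3,4,2,5]),(12062,[5,5,3,0,5,3,4]),(11876,[]),(11861,[]),(11853,[])],[2,2,5,3,0,4,2,1]),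
  (1,[3,11,22,7,10,22],[(12522,[]),(293,[])],[8,3,4,3,4,3,4]),
  (9,[16,22,17,3,7,5,11,18],[(12118,[2,8,3]),(11856,[]),(11877,[]),(11856,[]),(12090,[1,3,4,2,1,3,4]),(288,[]),(12214,[3,9,2,4,3,3,8,3]),(11876,[]),(11860,[]),(11856,[])],[5,3,9,2,4,2,1]),
  (1,[3,18,26,28,3,28],[(12530,[]),(292,[]),(288,[])],[0,2,2,5,9,0]),
  (40,[19,16,18,16,16,19,3,1,7,26],[(9954,[5,2,4,2,2,5]),(9736,[]),(9744,[]),(9736,[]),(9732,[]),(10158,[5,2,5,5,9,3,4]),(292,[]),(288,[]),(12534,[0,8,3,4,2,8,2,1]),(11877,[]),(11861,[]),(11856,[])],[8,1,3,5,2,2]),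
  (1,[3,18,16],[(12538,[]),(293,[]),(288,[])],[0,2,2,8,3,9]),
  (36,[19,23,16,16,18,17,3,7,10,17],[(5458,[5,9,2,2,4,3]),(293,[]),(288,[]),(5726,[0,2,5,3,4,3,5,9]),(293,[]),(288,[]),(12198,[1,2,9,3,4,2,2,5]),(11877,[]),(11877,[]),(11853,[])],[2,2,4,2,1,5]),
  (1,[3,7,26],[(12546,[]),(293,[]),(288,[])],[1,1,5,3,4,2,4]),
  (36,[16,16,23,17,19,3,7,11,26],[(10458,[2,2,9,3,5]),(9736,[]),(9744,[]),(9736,[]),(9732,[]),(10126,[3,4,3,0,4]),(293,[]),(12262,[3,9,2,5,8,3,9,3]),(11861,[]),(11856,[]),(11876,[]),(11853,[])],[3,3,4,3,0,5,2,4]),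
  (1,[3,10,19,10],[(12554,[])],[0,2,8,1,2,4]),
  (8,[16,19,19,16,3,7,27,7],[(4382,[2,5,5,2]),(292,[]),(1262,[0,0,2,5,2,5,8,2]),(12462,[1,3,5,3,8,1,2,4]),(11861,[]),(11856,[]),(11876,[]),(11856,[]),(11852,[])],[1,2,2,5,9,0,3,3]),
  (1,[3,11,11,19,11],[(12562,[]),(288,[])],[3,4,2,5,2,9,0,3]),
  (11,[23,17,18,16,16,18,3,7,10,16],[(4246,[9,3,4,2,2,4]),(292,[]),(288,[]),(7958,[5,3,5,2,1,3]),(12566,[0,3,4,2,4,3,3,5]),(11877,[]),(11860,[]),(11853,[])],[0,3,3,8,3,5]),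
  (1,[3,1,19,10],[(12570,[]),(292,[]),(288,[])],[0,5,3,9,2,8,2,5]),
  (2,[14,17,19,17,23,16,15,18,3,7,9,26,7],[(9986,[0,3,5,3,9,2,1,4]),(10758,[0,0,0,4,2,4,3,3]),(293,[]),(11966,[0,0,4,2,5,3]),(11856,[]),(11877,[]),(11860,[]),(11856,[]),(11853,[])],[1,3,3,5,2,1]),
  (1,[3,18,16,27],[(12578,[]),(293,[]),(288,[])],[3,0,9,2,4,2,9]),
  (12,[14,17,19,16,22,17,7,26,11,26],[(9874,[0,3,5,2,8,3]),(9744,[]),(9737,[]),(9745,[]),(11070,[3,9,2,5,8,3,3,4]),(292,[]),(12206,[0,4,2,5,3,3,9,0,3]),(11876,[]),(11876,[])],[2,4,2,8,3,5]),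
  (1,[3,7,5,26,19,10],[(12586,[]),(293,[]),(288,[])],[1,5,2,4,2,5,8,2]),
  (4,[14,19,17,22,16,19,3,1,7,33,11],[(8538,[0,5,3,8,2,5]),(293,[]),(5214,[4,3,9,3,4,3]),(292,[]),(288,[]),(12366,[8,2,2,2,5,5,9]),(11876,[]),(11861,[]),(11853,[])],[3,5,3,9,3,5]),
  (1,[3,19,10,18,7],[(12594,[])],[1,3,4,3,8,1,8,3,5]),
  (11,[14,16,15,17,23,17,19,16,3,1,7,33,10],[(5050,[0,2,1,3,9,3,5,2]),(292,[]),(7334,[2,1,3,5,2,8,3,5]),(293,[]),(12334,[4,2,9,0,3,3]),(11877,[]),(11861,[]),(11856,[])],[4,2,5,3,8,2]),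
  (1,[3,19,7,11,19],[(12602,[]),(292,[]),(288,[])],[2,4,3,9,3,4,3,5]),
  (36,[15,16,23,16,16,19,17,23,3,1,7,33,10],[(5050,[1,2,9,2,2,5,3,9]),(292,[]),(5602,[1,8,3,5,3,4,3,3]),(292,[]),(288,[]),(12014,[0,2,4,2,5,5,2,2]),(11861,[]),(11856,[]),(11876,[]),(11853,[])],[1,5,3,5,5,8,2,4]),
  (1,[3,1,19,26,11],[(12610,[]),(292,[])],[0,3,4,2,2,8,3]),
  (4,[14,14,16,18,17,17,23,14,17,3,7,11,14,26],[(8682,[0,0,2,4,3,3,9,0,3]),(293,[]),(6962,[8,2,1,4,3,3,5,2]),(11942,[5,2,1,4,2]),(11876,[]),(11861,[])],[2,5,9,2,1,4,2]),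
  (1,[3,29,7,26,7],[(12618,[])],[4,3,0,5,2,1]),
  (9,[15,15,17,17,19,17,18,17,3,7,10,19,7],[(3846,[1,1,3,3,5,3,4,3]),(293,[]),(5598,[0,5,3,5,9,3,4,3,0]),(292,[]),(12550,[4,3,0,4,2,5,3,9]),(11861,[]),(11856,[]),(11876,[]),(11852,[])],[2,2,4,2,1,2,4,2]),
  (1,[3,7,29,10,26],[(12626,[]),(293,[])],[0,4,3,0,2,5,3,8]),
  (8,[19,16,18,16,16,23,16,7,10,26,3],[(6666,[5,2,4,2,2,9,2]),(293,[]),(288,[]),(7650,[0,0,4,2,8,3,0]),(292,[]),(12278,[1,5,3,0,5,3,8]),(11861,[]),(11856,[])],[2,1,3,5,2,4,3]),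
  (1,[3,7,15,28,10,26],[(12634,[])],[3,5,5,5,3,9]),
  (11,[16,22,16,16,16,22,17,3,19,7,10],[(1750,[2,8,2,2,2,8,3]),(292,[]),(1550,[0,5,9,3,5,2]),(292,[]),(12574,[0,2,9,3,4,3,3,5]),(11861,[]),(11856,[]),(11876,[]),(11852,[])],[5,5,5,3,9,3,3]),
  (1,[3,19,11],[(12642,[]),(292,[])],[2,8,2,1,5,3,5,9]),
  (11,[14,16,16,23,17,17,22,3,19,7,10],[(1750,[0,2,2,9,3,3,8]),(292,[]),(5910,[4,2,2,5,2,4]),(12462,[0,0,3,3,5,3,0,5,2]),(11856,[]),(11852,[])],[0,8,3,8,2,5,2,9]),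
  (1,[3,1,18,26],[(12650,[]),(293,[]),(288,[])],[3,8,3,0,2,4,2,2]),
  (11,[14,17,14,16,19,17,17,18,3,11,19,11],[(2370,[0,3,0,2,5,3,3,4]),(293,[]),(8706,[5,2,8,2,2,5]),(293,[]),(12310,[3,4,3,4,3,5,8,2]),(11860,[]),(11856,[]),(11877,[]),(11852,[])],[3,3,9,2,5,5]),
  (1,[3,7,11,22,29,26],[(12658,[]),(293,[])],[0,8,3,0,5,3,5]),
  (12,[16,19,19,22,16,19,3,10,13,19],[(11974,[2,5,5,8,2,5]),(11876,[]),(11876,[]),(11876,[]),(12130,[2,5,3,8,2]),(12118,[9,2,4,2,5,9,0,3]),(11876,[])],[5,5,2,2,4,3,0]),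
  (1,[3,19,10,9],[(12666,[]),(292,[]),(288,[])],[2,5,5,8,2,8,1]),
  (37,[14,14,18,16,19,16,16,3,7,15,11,19],[(4654,[0,0,4,2,5,2,2]),(288,[]),(2554,[3,4,3,8,1,3,5,9]),(12478,[1,2,4,2,4,2,5,8]),(11877,[]),(11861,[]),(11853,[])],[0,2,1,3,4,2,9,3]),
  (1,[3,7,9,11,9],[(12674,[]),(293,[]),(288,[])],[2,2,5,2]),
  (37,[14,17,14,18,17,17,18,3,7,29,11,17],[(6546,[0,3,0,4,3,3,4]),(288,[]),(8530,[0,8,1,3,4]),(293,[]),(288,[]),(12494,[0,5,2,8,3,9,3,4]),(11876,[]),(11861,[]),(11852,[])],[0,3,5,3,9,2,2,2]),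
  (1,[3,23,7,10,9],[(12682,[])],[0,8,2,5,2,1,4]),
  (3,[17,23,16,19,23,3,7,33,11,13],[(9058,[3,9,2,5,9]),(1330,[4,2,8,1,3,5]),(292,[]),(288,[]),(12230,[0,2,5,3]),(11861,[]),(11856,[]),(11876,[]),(11853,[])],[8,3,0,5,2,8,2,2])]
theorem hD22 : allD2 lk B KW SW F A RL [] D22 3051 = true := by decide +kernel
def D23 : List (ℕ × Word × List (ℕ × Word) × Word) := [(1,[3,10,23,7,11,23],[(12690,[])],[3,8,3,4,3,3,5]),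
  (12,[14,18,17,19,16,18,3,1,7,11,9,27],[(7406,[0,4,3,5,2,4]),(292,[]),(5606,[5,5,3,3,9]),(288,[]),(12086,[2,2,4,2,4,2,5]),(11861,[]),(11876,[])],[0,4,2,2,8,3,0,4]),
  (1,[3,23,7,11],[(12698,[]),(288,[])],[2,1,2,5,2,5,2,2]),
  (8,[16,16,23,14,16,3,29,26,11,9],[(690,[2,2,9,0,2]),(6154,[9,3,4,2,2,2,8]),(293,[]),(12078,[4,3,4,3,0,2,8]),(11877,[]),(11860,[])],[0,4,2,8,3,5,3,0,2]),
  (1,[3,19,7,10],[(12706,[]),(292,[]),(288,[])],[5,8,1,3,5,9]),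
  (12,[14,14,16,19,16,19,16,16,22,3,23,11,19],[(12206,[0,0,2,5,2,5,2,2,8]),(11877,[]),(11861,[]),(12434,[3,3,4,2,2,5,2]),(12278,[1,5,2,2,5,8,3,5]),(11852,[])],[3,9,0,2,4]),
  (1,[3,11],[(12714,[])],[0,2,1,4,2,2,8,2]),
  (38,[17,23,17,17,19,17,17,3,23,11,19],[(12206,[3,9,3,3,5,3,3]),(11877,[]),(11861,[]),(11866,[0,5,3,5,9,3,5]),(64,[]),(89,[]),(65,[]),(11870,[1,3,8,1,3,8]),(11856,[]),(11877,[]),(11861,[])],[2,5,3,5,3,4,2,2]),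
  (1,[3,1,7,15,11],[(12722,[]),(292,[])],[1,3,8,1,3,3,5]),
  (37,[14,17,18,17,19,3,7,18,10],[(4046,[0,3,4,3,5]),(6610,[0,5,2,4,2,2,9,0]),(12518,[3,5,3,5,5,2,5,2,2]),(11852,[])],[3,3,8,2,4,2,2]),
  (1,[3,1,23,10,18,3,5],[(12730,[])],[5,3,5,9,2,8,2,1]),
  (37,[17,14,16,18,16,19,16,18,7,11,17,3,7],[(6066,[3,0,2,4,2,5,2,4]),(292,[]),(8122,[0,4,2,2,4,3,9]),(293,[]),(12414,[0,9]),(11877,[]),(11861,[])],[0,2,2,4,2,9,3,5]),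
  (1,[3,23,11,19],[(12738,[])],[1,5,3,4,3,8,2]),
  (12,[14,19,16,19,16,15,7,16,3,7],[(3602,[0,5,2,5,2,1]),(293,[]),(2046,[1,2,9,3,5,2,2,8]),(12054,[0,4,2,2,4,3,9]),(11876,[]),(11852,[])],[0,9,2,5,2,2,5]),
  (1,[3,10,19,26,33,3],[(12746,[])],[3,3,5,5,3,5]),
  (12,[14,14,16,19,23,16,16,3,11,11,19,10],[(4774,[0,0,2,5,9,2,2]),(292,[]),(288,[]),(2410,[2,2,2,4,2,1,4]),(12422,[9,2,5,3,5]),(11860,[]),(11877,[])],[3,0,5,2,8,3,4]),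
  (1,[3,10,13,18,26],[(12754,[]),(292,[]),(288,[])],[3,3,8,2,1,3,9,3]),
  (12,[14,23,17,17,19,22,16,16,3,10,19,11,11],[(6522,[0,9,3,3,5,8,2,2]),(292,[]),(9498,[2,8,2,2,2,8]),(293,[]),(288,[]),(12278,[3,9,3,5,2,2]),(11856,[]),(11876,[]),(11853,[])],[0,2,1,3,4,2,5,3]),
  (1,[3,10,18,27,23,3],[(12762,[])],[2,5,2,5,3,4,3,0]),
  (2,[19,16,16,18,16,15,17,3,29,3,10,13],[(12190,[5,2,2,4,2,1,3]),(11860,[]),(11877,[]),(11860,[]),(11853,[]),(12562,[5,3,3,8,3,3,8]),(12094,[0,4,3,5,5,5,3,3]),(11877,[]),(11877,[]),(11853,[])],[0,0,0,3,3]),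
  (1,[3,7,29,11,26,7],[(12770,[]),(288,[])],[0,3,3,8,1,2,2]),
  (9,[16,18,17,17,18,16],[(9730,[2,4,3,3,4,2]),(8,[]),(13,[]),(9,[]),(282,[4,2,1,4,3,3,5,3]),(292,[]),(11998,[0,3,4,2,5,3,8]),(11861,[]),(11856,[]),(11852,[])],[0,3,3,5,3,5,9]),
  (1,[3,10,19,11,11],[(12778,[]),(9737,[]),(9744,[]),(9736,[])],[4,2,5,5,8,2]),
  (9,[14,16,18,17,17,19,23,14],[(9730,[0,2,4,3,3,5,9,0]),(17,[]),(12,[]),(12,[]),(16,[]),(242,[3,0,4,2,9,3,5]),(11846,[1,3,0,4,2,4,2,9]),(11856,[]),(11877,[]),(11860,[]),(11852,[])],[0,4,2,8,1,8,3,4]),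
  (1,[3,7,26,7],[(12786,[]),(9737,[]),(9744,[]),(9736,[]),(9732,[])],[0,2,1,5,3,5,3,0]),
  (11,[22,16,18,17,23,17],[(9730,[8,2,4,3,9,3]),(17,[]),(17,[]),(13,[]),(9,[]),(12,[]),(16,[]),(282,[8,3,3,8,2,8]),(293,[]),(11998,[0,2,5,5,3,3,5,3,3]),(11856,[]),(11877,[]),(11861,[])],[0,2,8,3,5,3,3]),
  (1,[3,11,18,3,26],[(12794,[]),(9737,[]),(9744,[]),(9736,[])],[4,2,2,5,5,5,2,9]),
  (11,[15,17,19,16,23,17,19,17],[(9730,[1,3,5,2,9,3,5,3]),(9,[]),(12,[]),(16,[]),(13,[]),(13,[]),(17,[]),(9,[]),(282,[0,4,3,3,5,8,2,9,0]),(293,[]),(11934,[8,3,4,3,3,5]),(11876,[]),(11860,[])],[0,3,3,9,2,2,4,2]),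
  (1,[3,29,7,11,26],[(12802,[]),(9744,[]),(9737,[]),(9745,[]),(9736,[])],[5,2,2,2,5]),
  (11,[14,19,22,17,14,18,16,16,11],[(9798,[0,5,8,3,0,4,2,2]),(256,[]),(264,[]),(256,[]),(2498,[1,8,2,2,5,2,5]),(11950,[2,1,8,3,4,3,5,5]),(11861,[]),(11876,[]),(11876,[]),(11856,[]),(11853,[])],[5,2,5,2,5,8,2]),
  (1,[3,19,16,18,3,19],[(12810,[]),(9745,[]),(9737,[]),(9744,[]),(9736,[])],[0,2,2,2,8,1,8]),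
  (8,[18,17,17,19,17,14,10],[(11778,[4,3,3,5,3,0]),(9737,[]),(9744,[]),(9736,[]),(9732,[]),(11014,[1,2,4,2,5,9,3,8]),(293,[]),(288,[]),(11950,[5,5,2,5,5,8,3])],[9,0,3,3,4,3,4]),
  (1,[3,7,5,29,11,26],[(12818,[]),(9745,[]),(9736,[])],[0,0,0,5,3,5,3,3]),
  (2,[14,23,16,19,16,19,23,17,3,1],[(9758,[0,9,2,5,2,5,9,3]),(137,[]),(104,[]),(137,[]),(104,[]),(9786,[3,3,5,5,3,8]),(12814,[2,9,3,3,5,3,0]),(11856,[]),(11877,[]),(11856,[]),(11853,[])],[8,1,3,8,2,2]),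
  (1,[3,11,23,7,10],[(12826,[]),(9737,[]),(9732,[])],[0,8,2,1,3,9,3]),
  (12,[19,16,19,17,14,16,18,3,1],[(9758,[5,2,5,3,0,2,4]),(116,[]),(614,[2,4,2,2,5,8,1]),(293,[]),(288,[]),(12278,[0,2,2,4,2,1,3,5]),(11861,[]),(11876,[]),(11876,[]),(11856,[]),(11852,[])],[0,5,3,5,3,8,2,1]),
  (1,[3,11,23,7,11],[(12834,[]),(9736,[]),(9745,[]),(9737,[]),(9732,[])],[5,5,3,5,3,0,2]),
  (17,[14,23,16,18,17,22,3,1],[(9758,[0,9,2,4,3,8]),(160,[]),(136,[]),(108,[]),(11886,[0,2,2,4,3,9,3,4])],[8,2,1,3]),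
  (1,[7,11,9,11],[(12842,[])],[0,0,2,9,3,5,3,0,4]),
  (38,[16,16,23,17,17,18,17,18,3,1],[(9758,[2,2,9,3,3,4,3,4]),(160,[]),(136,[]),(112,[]),(302,[1,2,4,2,5,9,0,3]),(292,[]),(12030,[0,3,4,3,4,3,3,4])],[2,9,0,2,5,3,3]),
  (1,[7,16,11,17],[(12850,[]),(9736,[]),(9744,[])],[3,0,4,2,5,2]),
  (43,[16,23,14,16,16,18,16,3,1],[(9758,[2,9,0,2,2,4,2]),(108,[]),(160,[]),(136,[]),(302,[3,4,2,8,2,1,5,3]),(288,[]),(11974,[0,9,2,4,2,2,8])],[0,5,2,5,3,4,3]),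
  (1,[7,11,14,11],[(12858,[]),(9736,[]),(9744,[])],[0,3,0,5,3,3,4,3]),
  (8,[14,14,18,16,16,19,22,3,7],[(11454,[0,0,4,2,2,5,8]),(292,[]),(5454,[0,2,1,4,3]),(292,[]),(288,[]),(12622,[5,8,2,4,2,4,3]),(11876,[]),(11860,[]),(11852,[])],[3,3,4,2,1,5,2,4]),
  (1,[3,11,19,7,10,9],[(12866,[]),(9737,[]),(9744,[]),(9732,[])],[0,3,0,9,2,5,2,2]),
  (12,[17,19,22,17,22,16,15,3,7],[(11454,[3,5,8,3,8,2,1]),(293,[]),(3014,[0,0,2,5,9,3]),(288,[]),(12710,[5,2,4,2,4,3,4]),(11856,[]),(11877,[]),(11861,[])],[3,5,3,5,9,3,4]),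
  (1,[3,1,19,7,10],[(12874,[]),(9737,[]),(9744,[])],[5,2,8,3,9,3,8]),
  (36,[16,18,16,23,14,17,19,3,7],[(11454,[2,4,2,9,0,3,5]),(288,[]),(7326,[1,3,5,5,9]),(292,[]),(288,[]),(12062,[2,5,8,3,4,3,0,4]),(11856,[]),(11877,[]),(11861,[])],[2,5,9,2,2]),
  (1,[3,1,7,15,10],[(12882,[]),(9737,[]),(9744,[]),(9736,[])],[2,4,3,5,3,0,4]),
  (36,[14,16,15,19,17,19,3,7],[(11454,[0,2,1,5,3,5]),(288,[]),(6966,[9,3,3,5,8]),(288,[]),(11942,[2,5,3,0,2,4,2,5]),(11877,[]),(11856,[])],[3,9,2,4,2,9,0]),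
  (1,[3,7,15,28,26],[(12890,[]),(9745,[]),(9736,[]),(9732,[])],[1,3,9,0]),
  (14,[18,17,17,19,19,22,3,10],[(9814,[4,3,3,5,5,8]),(265,[]),(257,[]),(11894,[5,8,1,2,9])],[4,3,3,5,8,3,9]),
  (1,[7,10],[(12898,[])],[0,0,2,5,5,2,2,5]),
  (11,[14,18,16,19,16,22,17,11,13],[(9830,[0,4,2,5,2,8,3]),(288,[]),(1450,[5,8,2,2,2,5,8]),(292,[]),(12430,[3,4,3,9,2,4,2])],[3,5,2,5,8,1,3,4]),
  (1,[3,7,11,18,9,11],[(12906,[]),(9732,[])],[5,8,1,3,5,3,9]),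
  (9,[14,17,17,19,17,22,15,17,10,13],[(9846,[0,3,3,5,3,8,1,3]),(9914,[0,0,9,2,2,5,3,3]),(9736,[]),(12910,[0,0,5,2,2,5,2,4]),(11877,[]),(11852,[])],[8,3,4,3,0,5,3]),
  (1,[3,29,26,3],[(12914,[]),(9745,[]),(9732,[])],[4,3,9,0,2,2,5]),
  (11,[22,15,17,19,17,18,17,14,3,7,5],[(12830,[8,1,3,5,3,4,3,0]),(11877,[]),(11860,[]),(11853,[]),(12826,[1,2,2,8,3,5]),(9737,[]),(12830,[0,4,2,8,3,3,8,3]),(11861,[]),(11876,[]),(11876,[]),(11853,[])],[4,2,5,3,9,2,2]),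
  (1,[3,10,19,7,11,9],[(12922,[]),(9745,[]),(9737,[]),(9744,[])],[2,4,3,5,8,3]),
  (12,[14,22,16,15,19,17,3,7,10],[(10502,[0,8,2,1,5,3]),(730,[8,2,5,2,5,2,1,5]),(12038,[0,3,8,3,3,5]),(11877,[]),(11861,[]),(11852,[])],[1,2,2,8,3,5]),
  (1,[3,29,7,26],[(12930,[]),(9745,[]),(9737,[]),(9744,[]),(9736,[])],[0,5,9,0,2,2,2]),
  (36,[17,14,16,19,17,18,17,18,3,7,10],[(10502,[3,0,2,5,3,4,3,4]),(293,[]),(288,[]),(1982,[2,5,3,9,3,5,3]),(293,[]),(288,[]),(12734,[1,4,3,5,8,1,2]),(11876,[]),(11876,[]),(11853,[])],[0,3,3,5,8,3,8]),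
  (1,[3,1,7,26],[(12938,[]),(9737,[]),(9744,[]),(9736,[])],[0,4,3,8,3]),
  (8,[14,19,23,17,22,3,11,13],[(12902,[0,5,9,3,8]),(11860,[]),(11877,[]),(11853,[]),(12930,[1,2,2,5,5,5,2,9]),(9745,[]),(9737,[]),(9744,[]),(12862,[2,1,4,3,9,3,3,9]),(11856,[]),(11877,[]),(11861,[]),(11853,[])],[1,3,8,2,5,2,9,0]),
  (1,[3,11,19,7,10],[(12946,[]),(9737,[]),(9744,[])],[0,2,2,8,3,5,5,5]),
  (11,[19,17,17,19,17,14,19,7,9,10],[(9918,[5,3,3,5,3,0,5]),(292,[]),(5406,[5,8,3,4,3,3]),(293,[]),(288,[]),(12262,[2,2,5,2,2,5,3,5]),(11876,[]),(11860,[])],[0,3,5,3,0,4,2,5,2]),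
  (1,[3,10,19,7,11],[(12954,[]),(9737,[]),(9744,[]),(9737,[]),(9732,[])],[0,0,5,3,3,9]),
  (9,[15,16,16,16,18,16,19,7,10,9],[(10334,[1,2,2,2,4,2,5]),(292,[]),(2342,[9,2,8,1,3,9,2]),(292,[]),(12614,[2,9,2,4,2,5,2,1]),(11877,[]),(11860,[]),(11852,[])],[9,2,2,8,3,5]),
  (1,[3,1,29,3,16,11],[(12962,[]),(9732,[])],[8,1,3,9,2,9]),
  (42,[14,19,17,14,19,23,16,19,3,1,7,10],[(11150,[0,5,3,0,5,9,2,5]),(293,[]),(288,[]),(8258,[0,0,3,4,3,4,3,4]),(12190,[2,2,5,3,8,1,8,3]),(11856,[]),(11876,[]),(11852,[])],[5,9,3,5]),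
  (1,[3,29,17,3,10],[(12970,[])],[0,0,2,2,8,2,4]),
  (14,[14,16,16,19,17,23,17,19],[(11850,[0,2,2,5,3,9,3,5]),(248,[]),(11918,[0,3,5,2,5,9,3,4]),(11853,[])],[0,4,3,4,3,5,3,0]),
  (8,[14,18,17,22,16,15,16,3],[(11906,[0,4,3,8,2,1,2]),(264,[]),(252,[]),(5737,[]),(9510,[2,9,0,3,3,4]),(293,[]),(288,[]),(12342,[2,5,3,3,9,2,5])],[3,8,2,1,4,3,0]),
  (36,[14,22,17,19,17,17,7],[(11890,[0,8,3,5,3,3]),(256,[]),(5736,[]),(9818,[0,2,8,3,5,3,3,5]),(9737,[]),(9732,[]),(12886,[1,3,9,3,5,2,9,3]),(11860,[]),(11877,[]),(11860,[]),(11852,[])],[2,5,8,3,4,3,0,9]),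
  (8,[16,16,18,17,14,19,16,11],[(11914,[2,2,4,3,0,5,2]),(256,[]),(265,[]),(256,[]),(249,[]),(382,[2,5,9,2,4,3]),(298,[2,5,3,3,4,2,9,3]),(108,[]),(137,[]),(161,[])],[2,5,8,2,9,2,2]),
  (1,[3,7,11,32],[(12990,[]),(11876,[])],[2,5,3,5,3,8,2]),
  (37,[16,15,19,17,14,19,7,9,11],[(12034,[2,1,5,3,0,5]),(1114,[0,3,3,9,2,5,8]),(1018,[0,5,2,5,9,3,8]),(257,[]),(265,[]),(248,[])],[2,4,3,0,5,2,4,3]),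
  (1,[3,1,11,28,3,10],[(12998,[]),(11877,[]),(11861,[])],[0,5,5,2,1,3,4]),
  (100,[],[],[]),
  (1,[3,1,10,23],[(13006,[])],[]),
  (1,[14,18,16,19,19,23,16,18],[(13010,[0,4,2,5,5,9,2,4]),(116,[]),(108,[]),(104,[]),(13006,[0,4,3,4,2,5,2,8,3])],[]),
  (1,[14,18,16,19,19,23,16,18],[(13010,[0,4,2,5,5,9,2,4]),(137,[]),(160,[]),(112,[]),(13006,[8,2,2,8])],[]),
  (12,[22,15,16,18,16,23,17,10,10],[(198,[8,1,2,4,2,9,3]),(137,[]),(238,[3,4,3,5,5,9,2,5]),(120,[]),(108,[]),(13006,[1,1,2,2,2,4])],[2,8,2,1,5,2,4,3]),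
  (1,[3,1,19,29],[(13022,[]),(13006,[2,2,5,5,9])],[]),
  (36,[17,14,19,16,22,16,16,3,10,10],[(746,[3,0,5,2,8,2,2]),(292,[]),(370,[1,2,2,8,3,5,3,3]),(161,[]),(120,[]),(13006,[0,9,2,4,2,5,5,2]),(13025,[]),(13017,[]),(13024,[])],[0,8,2,5,2,2,8]),
  (1,[10],[(13030,[]),(288,[])],[3,8,3,8]),
  (13,[14,16,15,18,17,19,22,15,7,10,9],[(558,[0,2,1,4,3,5,8,1]),(288,[]),(2354,[2,4,2,5,2,2,9]),(13034,[2,8,2,2,4,2,5]),(13016,[])],[2,2,5,8,3,5,3,8]),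
  (1,[3,11,11,19,11],[(13038,[]),(293,[]),(288,[])],[0,8,2,2,8,2]),
  (2,[14,16,19,19,17,17,19,7,10,10],[(518,[0,2,5,5,3,3,5]),(292,[]),(550,[2,2,5,2,2,5,3,4]),(292,[]),(13034,[2,2,2,4,2,9]),(13025,[]),(13017,[]),(13025,[])],[1,2,2,8,3,5]),
  (1,[3,10],[(13046,[])],[1,5,3,4,3,9,2,4]),
  (10,[16,19,23,17,17,18,17,14,3,1,11,13],[(9970,[2,5,9,3,3,4,3,0]),(9745,[]),(9737,[]),(9744,[]),(11566,[5,5,3,3,5,3,8]),(293,[]),(13042,[0,3,4,3,9,3,5,2]),(13024,[])],[0,9,2,4,2,4,2,1]),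
  (1,[3,29,16,10,9],[(13054,[])],[3,8,2,1,4,3,9,2]),
  (7,[15,17,19,22,15,17,18,3,1,10,13],[(11990,[1,3,5,8,1,3,4]),(11860,[]),(11856,[]),(12722,[2,5,2,4,2,8,3]),(292,[]),(13034,[2,2,5,2,1,5,3,4]),(13012,[])],[1,3,5,3,0,5,3]),
  (1,[7,9,10,9],[(13062,[]),(293,[]),(288,[])],[4,2,5,3,9,2,8]),
  (12,[14,16,19,17,23,16,22,15,3,7,5,11],[(4086,[0,2,5,3,9,2,8,1]),(6626,[0,3,8,2,2,9,3]),(13066,[0,0,5,2,5,3,3,5]),(13024,[]),(13016,[]),(13025,[]),(13017,[])],[2,2,5,5,9]),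
  (1,[3,10,10,19],[(13070,[])],[2,8,2,4,2,5,2,5]),
  (12,[16,16,19,17,17,3,7,9,10],[(12286,[2,2,5,3,3]),(11856,[]),(11876,[]),(11860,[]),(11853,[]),(12154,[2,4,2,5,2,1]),(293,[]),(288,[]),(13066,[0,4,2,8,1,3,5,8]),(13016,[]),(13025,[]),(13016,[])],[8,2,4,2,4,2,9]),
  (1,[3,29],[(13078,[])],[0,2,2,5,2,1,2]),
  (10,[14,14,16,22,17,14,16,18,7,10,9,10],[(478,[0,0,2,8,3,0,2,4]),(293,[]),(3142,[5,5,2,5,2,1,5]),(293,[]),(288,[]),(13066,[4,2,1,5,3,5,3]),(13025,[])],[5,3,0,4,2,5,3]),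
  (1,[3,10,18,32],[(13086,[]),(293,[])],[9,3,3,4,2,4,2]),
  (13,[18,16,19,17,22,15,16,18,7,10,9,10],[(478,[4,2,5,3,8,1,2,4]),(288,[]),(8666,[2,4,2,5,8,2,9,0]),(293,[]),(13090,[0,4,2,1,3,5]),(13016,[]),(13024,[]),(13016,[])],[1,5,3,9,2,5,2,1]),
  (1,[3,7,10,9,14],[(13094,[])],[0,0,0,3,3,4,3]),
  (10,[14,22,16,18,16,16,16,19,7,10,15],[(12022,[0,8,2,4,2,2,2,5]),(11856,[]),(11877,[]),(11877,[]),(11852,[]),(12306,[0,5,3,3,8,2,2,2]),(288,[]),(13082,[2,4,2,5,8,1]),(13017,[])],[5,3,5,9,2,2,4,3]),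
  (1,[3,1,19,10],[(13102,[]),(292,[])],[4,2,2,8,3,5,9]),
  (38,[17,14,18,16,19,16,3,10,18,7],[(3994,[3,0,4,2,5,2]),(293,[]),(288,[]),(5882,[5,8,3,3,9,2,8]),(288,[]),(13090,[2,1,4,3,5,5,3]),(13025,[]),(13016,[]),(13024,[]),(13012,[])],[3,0,5,2,2,5,2]),
  (1,[3,11,19,17,17],[(13110,[])],[2,2,2,4,2,4,2,5]),
  (8,[16,19,17,14,19,16,3,11,18,7],[(1390,[2,5,3,0,5,2]),(292,[]),(1554,[0,4,2,8,3,0,2,4]),(293,[]),(13050,[3,0,4,2,4,3,3]),(13012,[])],[1,4,3,8,1]),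
  (1,[3,11,18,7],[(13118,[]),(292,[]),(288,[])],[0,5,3,3,5,9,3,4]),
  (12,[18,17,19,23,16,15,18,3,1,7,10,10],[(3298,[4,3,5,9,2,1,4]),(2118,[5,3,5,2,1,8]),(292,[]),(288,[]),(13098,[1,2,5,2,2,5,2,5]),(13024,[]),(13017,[]),(13025,[]),(13017,[])],[2,5,3,3,9,2]),
  (1,[3,1,7,11,23],[(13126,[]),(293,[])],[3,4,3,0,4,2]),
  (41,[18,16,16,16,23,17,3,1,11,18],[(10498,[4,2,2,2,9,3]),(9736,[]),(9744,[]),(9732,[]),(10134,[0,2,2,4,2]),(293,[]),(13066,[3,3,5,8,2,5,8,3]),(13016,[])],[0,2,9,3,5,3,3,5]),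
  (1,[7,9,10],[(13134,[])],[0,2,2,4,2,8,2,8]),
  (12,[17,17,23,14,16,19,16,3,1,7,15,11],[(8526,[3,3,9,0,2,5,2]),(292,[]),(288,[]),(6426,[1,1,4,3,3,4,2,2]),(13066,[0,0,4,2,5,5,9,3,5]),(13016,[]),(13012,[])],[2,2,2,9,0]),
  (1,[3,1,7,10,22],[(13142,[]),(288,[])],[5,9,3,5]),
  (41,[16,16,19,23,16,18,17,3,7,5,10,10],[(8078,[2,2,5,9,2,4,3]),(292,[]),(4506,[2,9,2,5,2,5,3,4]),(293,[]),(13042,[5,2,2,5,5,2,5,8]),(13016,[]),(13025,[]),(13012,[])],[5,3,3,8,2]),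
  (1,[3,19,10,9],[(13150,[]),(288,[])],[0,5,2,2,8,3,9]),
  (38,[15,16,19,16,22,3,7,5,10,13],[(3990,[1,2,5,2,8]),(292,[]),(288,[]),(9314,[3,8,3,4,3,0]),(292,[]),(288,[]),(13130,[4,2,5,5,8,2,9]),(13016,[]),(13024,[])],[0,0,2,4,3,5,3,5]),
  (1,[3,10,19,10],[(13158,[]),(293,[]),(288,[])],[0,3,9,3,4,3,3]),
  (38,[14,17,19,19,23,16,23,3,7,9,10,10],[(4350,[0,3,5,5,9,2,9]),(293,[]),(982,[2,8,3,3,8,2]),(13082,[3,3,4,3,0,4]),(13016,[]),(13025,[]),(13016,[])],[8,3,5,3,3,5,8]),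
  (1,[3,11,13,18],[(13166,[]),(293,[]),(288,[])],[5,2,4,2,2,2,4]),
  (11,[19,16,16,23,16,3,7,26,7],[(10450,[5,2,2,9,2]),(9736,[]),(9744,[]),(9737,[]),(10590,[0,5,2,9,3,3]),(293,[]),(13162,[2,2,8,2,5,2,5,3,4]),(13025,[]),(13017,[])],[4,2,2,5,2,2,9])]
theorem hD23 : allD2 lk B KW SW F A RL [] D23 3173 = true := by decide +kernel
end
end CA.ThM
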