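import Cfsg.Agent.Lib.Spor.ThF

/-! Derivations of the double coset table of the Thompson group. -/

set_option autoImplicit false
set_option maxRecDepth 100000
set_option linter.all false
namespace CA.ThM
open CA.CNet CA.CWord CA.CLevel CA.CSimple CA.CPoint CA.CLow CA.CTodd CA.TCos
noncomputable section

def D24 : List (ℕ × Word × List (ℕ × Word) × Word) := [(1,[3,29,3],[(13174,[]),(288,[])],[0,8,2,5,3,8]),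
  (8,[17,19,23,16,15,19,3,7,26],[(2526,[3,5,9,2,1,5]),(293,[]),(2566,[4,3,3,8,3,0]),(13058,[5,2,2,5,3,8]),(13024,[]),(13016,[]),(13024,[])],[0,9,2,5,3,3]),
  (1,[7,10],[(13182,[]),(293,[])],[0,0,9,2,5,2,2,5]),
  (7,[22,16,16,19,17,19,23,7,16,11,17],[(578,[8,2,2,5,3,5,9]),(293,[]),(3454,[5,8,1,3,9,2,5]),(293,[]),(288,[]),(13074,[0,2,5,2,1,5,3,0]),(13017,[]),(13025,[]),(13016,[])],[4,2,2,5,8,2,4]),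
  (1,[3,10,19,7,10],[(13190,[]),(293,[])],[0,5,3,5,3,3,9]),
  (6,[14,19,16,16,19,16,15,7,17,17,7],[(330,[0,5,2,2,5,2,1]),(120,[]),(366,[0,5,2,4,2,5,2,8]),(293,[]),(13058,[3,0,5,2,2,5,3]),(13025,[]),(13017,[]),(13025,[]),(13012,[])],[4,3,5,2,8,1,3,3]),
  (1,[3,29,10],[(13198,[]),(292,[])],[3,9,2,5,9,3,3,4]),
  (8,[18,17,17,19,16,22,15,22,7,17,17,7],[(330,[4,3,3,5,2,8,1,8]),(136,[]),(161,[]),(112,[]),(9198,[1,3,3,5,2,5,2]),(292,[]),(288,[]),(13202,[0,2,2,5,3,9,3,3]),(13017,[]),(13025,[]),(13012,[])],[0,2,5,3,0,2,5]),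
  (1,[3,7,33],[(13206,[]),(293,[])],[9,3,3,5,3,0,5]),
  (8,[17,23,17,17,23,7,11,14,10],[(9866,[3,9,3,3,9]),(9737,[]),(9745,[]),(9737,[]),(9732,[]),(10878,[0,0,2,5,8,2,2,2,4]),(288,[]),(13098,[0,0,9,3,4,3,3]),(13024,[]),(13016,[]),(13025,[]),(13017,[])],[2,5,2,5,5]),
  (1,[3,7,10,32,11,13],[(13214,[]),(288,[])],[5,2,5,3,3,9]),
  (13,[14,14,19,17,22,16,18,7,11,14,10],[(9866,[0,0,5,3,8,2,4]),(9910,[2,4,3,3,5,8,2,9]),(13042,[2,2,2,5,2,8,2]),(13012,[])],[2,8,1,8,2,5,2,2]),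
  (1,[7,10,9],[(13222,[]),(293,[]),(288,[])],[0,3,5,9,2,2,2,9]),
  (9,[22,17,18,17,19,17,14,16,7,11,17,17],[(9858,[8,3,4,3,5,3,0,2]),(9745,[]),(9737,[]),(9744,[]),(9732,[]),(11438,[0,3,5,3,0,9]),(288,[]),(13082,[0,3,5,2,1]),(13025,[]),(13017,[]),(13012,[])],[0,8,2,5,2,2,5,3]),
  (1,[3,1,19],[(13230,[]),(292,[])],[1,3,5,2,2,5,2,5]),
  (36,[19,17,17,19,16,15,18,3,1,19],[(370,[5,3,3,5,2,1,4]),(104,[]),(137,[]),(342,[0,8,1,2,2,5,2,5,2]),(13050,[0,5,2,2,8]),(13025,[])],[0,8,1,3,4,3,9,2]),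
  (1,[11],[(13238,[]),(293,[])],[3,0,5,9,2,2,2]),
  (42,[17,23,17,18,17,14,18,3,1,19],[(370,[3,9,3,4,3,0,4]),(137,[]),(108,[]),(342,[4,3,5,2,9,0]),(292,[]),(13034,[1,1,4,3,3,4,3,5]),(13024,[]),(13016,[])],[5,3,8,3,4,3,5,3]),
  (1,[3,11],[(13246,[]),(293,[])],[4,3,5,8,2,2,4]),
  (7,[16,23,16,19,22,17,19,3,11,18],[(10610,[2,9,2,5,8,3,5]),(9745,[]),(9732,[]),(11238,[0,8,1,2,5]),(288,[]),(13074,[1,5,3,5,2,8,2,4]),(13017,[]),(13025,[])],[9,3,5,3,3,5,3]),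
  (1,[3,1,23,7,10],[(13254,[]),(292,[]),(288,[])],[0,5,5,3,3,5,3,9]),
  (12,[16,15,16,19,17,19,17,3,11,18],[(10610,[2,1,2,5,3,5,3]),(9737,[]),(9744,[]),(9732,[]),(10134,[0,2,9,0,3,4,3,3]),(293,[]),(288,[]),(13170,[3,8,2,1,3,9,2]),(13025,[]),(13017,[]),(13025,[]),(13017,[])],[2,5,5,8,3,8,1]),
  (1,[3,19,11,11],[(13262,[]),(288,[])],[0,2,5,3,3,4,3]),
  (8,[14,17,17,19,23,3,1,7,33],[(3570,[0,3,3,5,9]),(293,[]),(288,[]),(8882,[0,3,9,3,8]),(13234,[0,5,2,2,5,2,5,5]),(13024,[]),(13017,[])],[3,3,4,2,4,2]),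
  (1,[3,10,19,10,13],[(13270,[]),(292,[])],[3,3,5,2,5,2]),
  (36,[19,17,19,17,14,16,18,16,3,7,15,11],[(7994,[5,3,5,3,0,2,4,2]),(288,[]),(5618,[1,2,4,2,5,2]),(288,[]),(13074,[0,0,3,5,2,2,2]),(13017,[]),(13025,[])],[0,4,2,2,4,2,9,3]),
  (1,[3,11,11,18],[(13278,[])],[1,1,5,3,3,5,2,2]),
  (41,[19,19,23,17,18,17,3,7,15,10],[(7722,[5,5,9,3,4,3]),(293,[]),(288,[]),(9602,[2,4,3,5,8,1,2,4]),(288,[]),(13162,[0,3,5,5,9,2,8]),(13025,[]),(13017,[]),(13024,[])],[0,2,4,2,5,2,8]),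
  (1,[3,11,11,19,10],[(13286,[]),(293,[]),(288,[])],[2,1,5,2,2,8,3,5]),
  (20,[16,15,18,16,23,17,17,18,3,7,11,9,14],[(12078,[2,1,4,2,9,3,3,4]),(12826,[0,3,3,8,2,1,4,3]),(9737,[]),(9732,[]),(11366,[5,3,5,3,9]),(4950,[1,2,4,2,9,3,5,3]),(1662,[1,4,2,2,4,3,9,2]),(9250,[5,8,2,5,3,3,8]),(13234,[5,8,2,4,2,8,3,8]),(13017,[]),(13025,[]),(13012,[])],[0,0,5,2,8,1,3,5,3]),
  (1,[3,7,15,10,19],[(13294,[])],[2,8,3,3,5,3,8]),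
  (36,[14,16,15,19,22,17,17,18,3,7,11,9,14],[(12078,[0,2,1,5,8,3,3,4]),(11856,[]),(11877,[]),(11852,[]),(12698,[2,5,5,2,2,2,8,2]),(13042,[0,3,8,1,2,4,2,8]),(13025,[]),(13017,[]),(13024,[]),(13012,[])],[2,2,4,2,8,3,3]),
  (1,[3,7,10,9,15],[(13302,[])],[1,3,3,4,3,4,3]),
  (2,[15,16,19,17,17,22,17,17,3,7,10,9,14],[(5094,[1,2,5,3,3,8,3,3]),(292,[]),(2746,[3,3,4,2,1,4,3,0]),(13090,[0,5,3,8,1,8,3,4,3]),(13017,[]),(13025,[]),(13012,[])],[4,2,2,2,8,3,9]),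
  (1,[3,1,7,27,7],[(13310,[]),(292,[])],[0,9,2,1,4,2,5,2]),
  (7,[15,17,18,17,23,17,19,17,3,7,10,9,14],[(5094,[1,3,4,3,9,3,5,3]),(2342,[0,3,5,2,5,8,2,9]),(293,[]),(288,[]),(13138,[1,5,2,5,2,2,2,5]),(13024,[]),(13016,[]),(13025,[]),(13017,[])],[2,2,4,3,5,2,1]),
  (1,[3,7,11,14,16,7],[(13318,[]),(293,[]),(288,[])],[5,2,4,2,4,2,1]),
  (10,[17,18,17,14,18,16,16,3,7,10,9,15],[(1446,[3,4,3,0,4,2,2]),(293,[]),(582,[0,3,0,4,3,4,3,8]),(293,[]),(13322,[5,2,5,5,2,5,2,5]),(13025,[]),(13016,[]),(13012,[])],[5,3,5,3,4,3,8]),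
  (1,[3,29,11],[(13326,[])],[2,9,2,5,2,2,5]),
  (37,[15,19,17,19,17,17,19,3,7,10,9,15],[(1446,[1,5,3,5,3,3,5]),(292,[]),(288,[]),(1638,[4,3,4,2,9,3,4]),(293,[]),(13146,[0,2,8,1,3,3,9])],[3,4,2,1,5,8,2]),
  (1,[3,1,10,18],[(13334,[])],[1,3,0,4,2,2,4,2]),
  (3,[14,14,16,18,16,15,18,3,7,5,11,17],[(2058,[0,0,2,4,2,1,4]),(292,[]),(288,[]),(8934,[4,2,8,3,3,4]),(13130,[3,4,3,5,3,3]),(13025,[])],[0,5,5,9,2,2]),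
  (1,[3,10,19,10,10],[(13342,[]),(293,[]),(288,[])],[0,8,2,4,2,2,4]),
  (13,[14,22,15,17,19,22,3,7,5,11,17],[(2058,[0,8,1,3,5,8]),(292,[]),(8606,[5,2,5,2,5,8,3]),(292,[]),(288,[]),(13234,[0,3,0,2,4]),(13012,[])],[0,2,1,5,2,5,2,4]),
  (1,[3,1,7,9,26,7],[(13350,[])],[9,2,5,2,5,3,0]),
  (38,[16,19,17,19,17,22,17,3,1,7,9,11,13],[(7234,[2,5,3,5,3,8,3]),(4206,[2,1,8,2,2,4,3,5]),(13074,[3,0,2,5,3,3,9]),(13024,[]),(13016,[]),(13012,[])],[2,5,3,5,5,9,2,9]),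
  (1,[3,1,10,19],[(13358,[])],[3,4,3,4,3,4]),
  (6,[22,17,18,16,22,16,18,3,7,5,10,27],[(8310,[8,3,4,2,8,2,4]),(293,[]),(288,[]),(3394,[0,3,5,3,8,2,5,5]),(13178,[5,2,1,5,3,9,0,2]),(13025,[]),(13016,[])],[2,2,5,9,0,3,3,4]),
  (1,[3,11,11,19],[(13366,[]),(293,[])],[0,3,3,4,2,5,2]),
  (7,[15,17,18,17,17,19,19,3,7,5,10,27],[(8310,[1,3,4,3,3,5,5]),(292,[]),(1154,[5,2,2,4,3,8,1]),(293,[]),(13194,[8,1,2,2,9]),(13016,[]),(13024,[]),(13016,[])],[2,5,9,2,5,3,3]),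
  (1,[3,11,19,11,12],[(13374,[])],[1,3,8,1,3,9]),
  (9,[15,16,19,16,16,22,17,18,3,7,5,10,27],[(8310,[1,2,5,2,2,8,3,4]),(292,[]),(862,[2,5,5,8,2,5,9]),(292,[]),(13034,[8,3,5,3,3,8]),(13017,[]),(13024,[])],[2,4,3,4,3,5,2,2]),
  (1,[3,7,11],[(13382,[]),(293,[])],[5,5,3,3,4,3,4]),
  (9,[15,17,23,16,18,17,3,7,5,10,27],[(8310,[1,3,9,2,4,3]),(292,[]),(4914,[1,3,5,5,9]),(293,[]),(13122,[2,2,5,5,8,3]),(13017,[]),(13024,[])],[0,9,2,4,2,9]),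
  (1,[3,7,9,10],[(13390,[])],[1,3,4,2,5,2,1]),
  (36,[14,16,16,18,17,18,17,14,3,7,5,10,27],[(8310,[0,2,2,4,3,4,3,0]),(292,[]),(288,[]),(2014,[3,4,3,5,5,8]),(293,[]),(13090,[0,4,2,1,4,3,4]),(13025,[]),(13016,[]),(13024,[]),(13016,[])],[0,3,5,3,4,3,8,1]),
  (1,[3,1,23,7,11],[(13398,[])],[0,0,3,5,3,0]),
  (3,[16,18,17,18,17,22,16,18,3,7,5,26,7],[(10746,[2,4,3,4,3,8,2,4]),(9745,[]),(9736,[]),(9732,[]),(10734,[2,4,2,8,2,8,2]),(292,[]),(288,[]),(13322,[4,3,5,2,8,2,9]),(13024,[]),(13016,[]),(13025,[])],[0,5,3,0,4,3,3]),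
  (1,[3,10,19],[(13406,[])],[1,4,2,4,2,4,2,1]),
  (3,[16,23,16,15,18,17,3,7,5,26,7],[(10746,[2,9,2,1,4,3]),(9737,[]),(9744,[]),(9732,[]),(10654,[3,0,2,5,8]),(13138,[2,8,1,3,0,4,2,2]),(13017,[]),(13025,[])],[0,9,2,5,2,2,4,3]),
  (1,[3,1,7,9,10],[(13414,[]),(293,[]),(288,[])],[1,5,3,8,2]),
  (3,[16,16,19,23,17,3,7,5,26],[(9946,[2,2,5,9,3]),(9745,[]),(11350,[0,5,3,9,2,9,2]),(293,[]),(288,[]),(13410,[3,5,9,0,3]),(13025,[]),(13012,[])],[0,5,3,5,5,8]),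
  (1,[3,11,19,11],[(13422,[]),(293,[]),(288,[])],[1,3,3,4,2,8,2,4]),
  (36,[22,15,17,18,17,17,3,7,5,26],[(9946,[8,1,3,4,3,3]),(9737,[]),(9745,[]),(9736,[]),(11710,[0,2,5,9,2,4]),(13266,[3,0,2,5,3,8]),(13024,[]),(13017,[]),(13012,[])],[3,9,3,5,3,4]),
  (1,[3,11,19,23],[(13430,[])],[0,9,0,3,4,3,3]),
  (9,[16,16,22,17,18,17,14,3,7,5,10,26],[(2394,[2,2,8,3,4,3,0]),(292,[]),(288,[]),(3034,[8,1,2,2,8,3,4]),(288,[]),(13138,[4,3,9,2,4,2,1]),(13024,[]),(13012,[])],[4,3,0,5,2,2]),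
  (1,[3,1,7,17,18],[(13438,[]),(293,[])],[5,9,2,5,9,3]),
  (10,[14,14,16,22,16,23,16,23,3,7,5,10,26],[(2394,[0,0,2,8,2,9,2,9]),(293,[]),(1294,[3,5,2,1,2,4,3]),(292,[]),(13194,[3,3,9,2,1,5,3,3]),(13016,[]),(13024,[]),(13017,[])],[0,3,5,3,4,3,3,8]),
  (1,[3,7,10],[(13446,[]),(293,[]),(288,[])],[2,4,2,5,2,9]),
  (12,[14,19,17,17,19,17,23,14,16,3,7,5,10,26],[(2394,[0,5,3,3,5,3,9,0,2]),(292,[]),(6282,[2,4,2,2,4,2,8,1]),(293,[]),(288,[]),(13106,[2,8,2,5,3,9,0]),(13024,[]),(13016,[]),(13024,[])],[1,2,2,5,3,5,3,0]),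
  (1,[3,11,19,16,3],[(13454,[]),(293,[]),(288,[])],[0,5,3,5,9,2]),
  (3,[17,14,19,16,18,16,3,19,11],[(3078,[3,0,5,2,4,2]),(292,[]),(288,[]),(7358,[2,8,2,2,9,3,5]),(13442,[0,2,2,5,9,2,4])],[4,3,5,8,3,4]),
  (1,[3,1,18],[(13462,[])],[0,3,8,2,2,4,3]),
  (8,[14,16,15,17,18,16,16,16,3,19,11],[(3078,[0,2,1,3,4,2,2,2]),(292,[]),(870,[2,9,2,2,4,3,8,1]),(13242,[2,5,2,9,2,1,5,3]),(13012,[])],[0,3,5,9,2,2,4,3]),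
  (1,[7,9,11,9],[(13470,[]),(292,[])],[0,8,2,1,4,3,8]),
  (10,[16,19,16,15,16,19,3,19,11],[(3078,[2,5,2,1,2,5]),(293,[]),(288,[]),(1570,[2,5,2,2,5,8,3,5]),(292,[]),(288,[]),(13218,[1,3,4,3,0,5,2,2]),(13024,[]),(13016,[]),(13025,[]),(13012,[])],[5,2,8,2,4,3]),
  (1,[3,1,11,19,11],[(13478,[])],[4,3,4,3,9,3,3,4]),
  (12,[17,17,19,19,17,17,23,16,3,19,11],[(3078,[3,3,5,5,3,3,9,2]),(446,[1,2,5,3,5,3,5,2]),(13170,[2,4,2,5,9,3]),(13016,[]),(13024,[]),(13017,[]),(13012,[])],[0,3,5,2,5,3,3]),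
  (1,[3,1,19,7],[(13486,[]),(288,[])],[1,3,5,3,9,3,3,8]),
  (38,[16,19,16,15,17,19,3,19,11],[(3078,[2,5,2,1,3,5]),(746,[5,3,9,0,2]),(292,[]),(288,[]),(13322,[0,0,2,9,2])],[2,1,4,3,8,2,4,2]),
  (1,[7,16,3,7],[(13494,[])],[2,2,5,5,5,2,1]),
  (37,[16,16,18,17,17,18,17,22,3,19,10],[(3502,[2,2,4,3,3,4,3,8]),(293,[]),(288,[]),(1318,[0,5,2,2,9,3]),(288,[]),(13402,[2,2,5,3,0,2,5]),(13025,[]),(13016,[]),(13024,[]),(13016,[]),(13012,[])],[2,1,4,3,4,2,2]),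
  (1,[3,11,13,19],[(13502,[])],[3,3,8,3,5,9,3]),
  (7,[19,16,16,18,17,14,3,11,19],[(678,[5,2,2,4,3,0]),(293,[]),(288,[]),(7302,[0,3,8,3,5,9,3,5,2]),(292,[]),(288,[]),(13450,[0,3,0,4,2,2]),(13024,[]),(13017,[]),(13025,[]),(13016,[])],[0,8,2,5,2,2,9]),
  (1,[3,7,10,33,11,11],[(13510,[])],[0,0]),
  (11,[14,19,19,17,22,3,11,19],[(678,[0,5,5,3,8]),(292,[]),(4502,[2,4,2,9,3,5,2,9]),(293,[]),(288,[]),(13218,[2,2,5,2,5,5,5,2]),(13025,[]),(13016,[]),(13024,[]),(13016,[])],[1,5,2,2,5,3,4]),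
  (1,[3,11,19],[(13518,[]),(292,[])],[3,8,2,1,2,4,3,3]),
  (6,[17,14,16,18,17,23,3,11,18,32],[(8918,[3,0,2,4,3,9]),(293,[]),(7374,[2,1,4,3,3,9,2,4]),(288,[]),(13178,[5,8,2,4]),(13025,[]),(13017,[]),(13025,[]),(13016,[]),(13012,[])],[4,3,0,5,9,2,5,2]),
  (1,[3,7,33,11],[(13526,[])],[0,0,3,3,5,2,9,3,8]),
  (7,[19,17,22,15,16,18,16,23,3,11,18,32],[(8918,[5,3,8,1,2,4,2,9]),(292,[]),(622,[3,3,4,3,9,3,4,2]),(293,[]),(288,[]),(13130,[5,3,5,2,2,9]),(13016,[]),(13025,[]),(13012,[])],[0,0,2,1,5,3,3,5]),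
  (1,[3,7,18,11,23],[(13534,[])],[1,3,3,4,3,3,9]),
  (11,[15,16,18,17,17,23,16,3,11,18,32],[(8918,[1,2,4,3,3,9,2]),(288,[]),(7854,[9,3,5,3,4,3,9]),(13234,[3,5,9,0]),(13025,[]),(13016,[]),(13025,[])],[4,2,5,2,8,3,4]),
  (1,[3,1,10,28,3],[(13542,[]),(292,[]),(288,[])],[1,3,4,2,5,2,1,2]),
  (2,[14,22,15,16,19,16,22,3,11,18,33],[(9190,[0,8,1,2,5,2,8]),(293,[]),(7198,[0,0,0,3,4,3,3]),(293,[]),(288,[]),(13234,[0,0,2,1,4,3,5]),(13012,[])],[2,9,3,3,5,2,9]),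
  (1,[7],[(13550,[])],[1,2,4,2,5,2,5,3]),
  (11,[18,17,17,19,17,23,14,3,11,18,33],[(9190,[4,3,3,5,3,9,0]),(293,[]),(8406,[8,1,8,2,4]),(288,[]),(13130,[1,2,2,5,2,5,2,1])],[1,4,3,5]),
  (1,[3,29,3,11],[(13558,[]),(292,[])],[1,2,2,5,2,8,2,2]),
  (12,[16,16,16,18,17,14,19,23,3,11,18,33],[(9190,[2,2,2,4,3,0,5,9]),(293,[]),(8414,[5,2,5,3,9,2,4]),(13466,[4,3,5,3,9,3,3,5]),(13024,[]),(13017,[]),(13025,[]),(13017,[]),(13012,[])],[0,0,4,3,3,5,3,3]),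
  (1,[3,19,10,10],[(13566,[])],[2,1,3,4,2,5,3,5]),
  (13,[18,16,19,22,16,15,18,3,11,18,33],[(9190,[4,2,5,8,2,1,4]),(293,[]),(288,[]),(3030,[4,3,5,9,2,9,0]),(13562,[5,2,2,5,8]),(13024,[]),(13016,[]),(13024,[]),(13017,[]),(13012,[])],[5,8,2,5,8,2,1]),
  (1,[3,10,18,17,23,3],[(13574,[]),(293,[])],[2,2,4,2,1,5,3,5]),
  (40,[15,22,17,19,17,18,17,3,11,18,33],[(9190,[1,8,3,5,3,4,3]),(1982,[0,4,2,2,4,2,2,9]),(13210,[0,2,2,8,2,4]),(13024,[]),(13016,[]),(13024,[]),(13017,[])],[1,5,2,2,5,5,2]),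
  (1,[3,7,10,17,23,14],[(13582,[]),(293,[])],[0,5,3,8,2,1]),
  (9,[14,16,19,22,16,19,22,17,3,10,18,32],[(12174,[0,2,5,8,2,5,8,3]),(11861,[]),(11876,[]),(11856,[]),(12050,[0,0,0,4,2,2]),(13234,[1,3,4,2,5,2,8]),(13017,[]),(13024,[]),(13017,[])],[0,2,2,9,3,4,3,3]),
  (1,[3,10,22,10,22,7],[(13590,[]),(292,[])],[9,2,9,3,5,2,9,3]),
  (8,[15,16,16,18,17,17,18,3,10,18,33],[(13330,[1,2,2,4,3,3,4]),(13024,[]),(13017,[]),(13025,[]),(13017,[]),(13012,[]),(13262,[1,5,2,5,2,5]),(293,[]),(13106,[2,2,2,8,2,2,2,5]),(13024,[]),(13016,[]),(13024,[])],[2,8,2,5,3,9,2,8]),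
  (1,[3,10,29],[(13598,[]),(292,[])],[0,4,3,5,3,0,5]),
  (12,[16,15,17,23,17,19,3,7,33,11],[(6306,[2,1,3,9,3,5]),(9026,[0,2,8,3,5,8,2,4]),(293,[]),(288,[]),(13570,[9,3,3,5,2,4]),(13025,[]),(13017,[]),(13025,[])],[0,2,5,2,2,2,5,8,1]),
  (1,[3,7,10,15,19],[(13606,[])],[1,3,9]),
  (12,[14,16,15,16,19,17,18,17,3,7,33,10],[(2710,[0,2,1,2,5,3,4,3]),(292,[]),(288,[]),(5546,[0,2,1,5,3,4,3,8]),(13522,[0,3,8,1,3,5,2,8]),(13025,[]),(13017,[]),(13025,[])],[0,4,2,2,2,5,3,5,3]),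
  (1,[3,1,23,7,10,13],[(13614,[]),(288,[])],[9,0,3,3,5,3,4]),
  (37,[16,16,16,18,17,19,16,15,3,7,33,10],[(2710,[2,2,2,4,3,5,2,1]),(293,[]),(1962,[3,5,9,3,4,3,4]),(13362,[5,5,2,2,4,3,4,3]),(13025,[])],[8,3,4,3,3,5,9]),
  (1,[3,23,11,19],[(13622,[])],[0,8,2,2,2,8]),
  (3,[17,22,16,19,16,15,18,3,1,7,11,17,12],[(2194,[3,8,2,5,2,1,4]),(292,[]),(2370,[0,8,1,8,2,4,2,2,5]),(293,[]),(13322,[2,8,3,3,8,2,2,5]),(13024,[]),(13016,[]),(13025,[]),(13012,[])],[3,5,9,2,1,5,2]),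
  (1,[7,16,7],[(13630,[])],[9,3,4,3,4,3,0,5]),
  (36,[16,22,17,23,14,16,19,17,3,1,7,10,27,13],[(9494,[2,8,3,9,0,2,5,3]),(293,[]),(766,[3,5,3,9,3,5,3,0]),(288,[]),(13210,[2,2,5,8,3,4,2]),(13024,[])],[1,2,2,4,2,4,2]),
  (1,[3,7,9,11,13],[(13638,[])],[3,3,8,3,5,3]),
  (2,[19,16,15,16,19,16,23,3,1,7,10,27],[(1158,[5,2,1,2,5,2,9]),(293,[]),(4270,[0,8,1,8,3]),(292,[]),(288,[]),(13442,[4,2,4,2,9,0])],[0,5,2,8,2,4,2,2]),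
  (1,[3,1,7,11,26,18],[(13646,[]),(293,[]),(288,[])],[3,8,1,3,3,4]),
  (6,[16,16,23,16,18,16,19,23,3,1,7,10,27],[(1158,[2,2,9,2,4,2,5,9]),(7158,[3,9,2,4,2,5,8]),(292,[]),(288,[]),(13442,[0,2,5,8,2,4,2,4]),(13025,[]),(13017,[]),(13012,[])],[2,2,2,9,2,1,4,3]),
  (1,[3,1,7,11,16,18],[(13654,[]),(293,[]),(288,[])],[3,9,2,5,3,9,2,8]),
  (36,[15,16,19,16,18,17,17,3,1,7,10,27],[(1158,[1,2,5,2,4,3,3]),(7466,[0,3,3,8,1,2,2]),(13378,[2,2,4,2,1,8,3,3]),(13024,[]),(13016,[]),(13024,[]),(13016,[]),(13012,[])],[0,0,2,5,2,2,9,0]),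
  (1,[3,7,33,10,10],[(13662,[]),(293,[]),(288,[])],[5,3,4,2,2,2,5]),
  (9,[14,17,19,16,19,22,15,3,7,5,11,18],[(12118,[0,3,5,2,5,8,1]),(11876,[]),(11861,[]),(11852,[]),(12074,[0,2,8,2,4,3]),(13338,[0,9,2,4,3,5,3,9]),(13017,[]),(13024,[])],[5,2,4,2,9]),
  (1,[3,11,18,3,26],[(13670,[]),(292,[])],[2,1,5,3,4,3,4]),
  (11,[14,16,19,22,16,19,19,3,7,26,7,5],[(10122,[0,2,5,8,2,5,5]),(9744,[]),(9737,[]),(9745,[]),(9732,[]),(10438,[2,1,2,4,3,5,3,4]),(13586,[0,2,5,3,9,2,5,2]),(13016,[])],[0,4,3,4,2,1,4,2]),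
  (1,[3,1,7,33],[(13678,[]),(293,[])],[2,9,2,2,2,9])]
theorem hD24 : allD2 lk B KW SW F A RL [] D24 3294 = true := by decide +kernel
def D25 : List (ℕ × Word × List (ℕ × Word) × Word) := [(12,[23,17,17,22,16,15,3,1,7,26],[(9954,[9,3,3,8,2,1]),(9736,[]),(9744,[]),(9736,[]),(9732,[]),(10742,[3,4,3,4,3]),(13418,[8,3,9,3,5]),(13024,[]),(13016,[]),(13025,[])],[1,3,9,3,5,2,9,3,5]),
  (1,[3,7,18,10,14],[(13686,[]),(292,[]),(288,[])],[0,9,2,1,4,2,5]),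
  (11,[14,17,17,22,17,14,19,3,7,5,10,18],[(10298,[0,3,3,8,3,0,5]),(9744,[]),(9737,[]),(9745,[]),(9736,[]),(10094,[2,1,3,4,2,4,2]),(13106,[0,0,4,3,3,4,2,1]),(13025,[]),(13017,[]),(13012,[])],[0,0,4,2,2,4,3,9]),
  (1,[3,7,5,11,18],[(13694,[]),(293,[]),(288,[])],[4,2,1,3,5,3,4,3]),
  (8,[18,16,19,23,17,19,3,1,7,16],[(618,[4,2,5,9,3,5]),(136,[]),(108,[]),(161,[]),(6758,[2,5,5,2,2,2,5,9]),(13370,[3,5,3,3,8,3,8]),(13017,[])],[0,8,2,2,5,2,2,4]),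
  (1,[3,10,19,26,3],[(13702,[]),(293,[]),(288,[])],[0,0,5,2,5,2,2,2,4]),
  (42,[14,18,17,19,22,17,3,1,7,10,26],[(5174,[0,4,3,5,8,3]),(3002,[0,0,2,5,2,2]),(288,[]),(13338,[0,2,4,2,8,3,3,5])],[0,0,2,2,4,2,5,2]),
  (1,[3,23,16,3,29],[(13710,[])],[0,5,8,3,5,2]),
  (2,[18,17,17,23,14,17,18,3,7,10,17],[(5458,[4,3,3,9,0,3,4]),(293,[]),(9630,[2,8,2,4,2,5,5]),(288,[]),(13074,[0,9,2,4,3,9,2]),(13017,[]),(13025,[])],[4,2,8,1,3]),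
  (1,[3,10,18],[(13718,[])],[0,2,5,3,4,2,2,2]),
  (5,[16,19,17,23,16,16,18,3,7,10,17],[(5458,[2,5,3,9,2,2,4]),(293,[]),(2354,[2,5,2,1,5,3,8]),(292,[]),(288,[]),(13722,[5,2,5,2,2,2,8]),(13025,[]),(13016,[]),(13025,[])],[0,3,5,3,9,2,9]),
  (1,[3,7,10,19,7],[(13726,[]),(293,[]),(288,[])],[0,3,5,9,2,9,3]),
  (6,[16,16,18,17,18,17,17,19,3,7,10,17],[(5458,[2,2,4,3,4,3,3,5]),(293,[]),(9630,[0,3,5,3,5]),(293,[]),(288,[]),(13394,[8,3,8,3]),(13025,[]),(13017,[]),(13024,[]),(13012,[])],[3,5,8,3,4,3,5,3]),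
  (1,[3,1,7,33,10,13],[(13734,[]),(293,[]),(288,[])],[0,0,4,2,2,8,3,3]),
  (11,[18,17,18,16,22,16,15,18,3,7,10,17],[(5458,[4,3,4,2,8,2,1,4]),(4890,[0,4,3,3,4,3,0,9]),(13634,[5,3,3,5,8,3,3]),(13024,[]),(13017,[]),(13012,[])],[2,2,5,2,8,1,8]),
  (1,[3,1,7,10,17,18],[(13742,[]),(293,[]),(288,[])],[0,2,4,2,1,5,3,5,2]),
  (11,[15,17,14,19,16,23,17,3,7,10,17],[(5458,[1,3,0,5,2,9,3]),(292,[]),(3850,[3,5,8,2,1]),(293,[]),(288,[]),(13330,[3,4,3,5,8,1,2,9]),(13025,[]),(13017,[]),(13025,[]),(13016,[]),(13012,[])],[0,5,9,3,5,3,3,4]),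
  (1,[3,1,11,28,3],[(13750,[]),(293,[])],[0,8,3,5,3,4,3,3]),
  (38,[16,16,16,22,17,17,18,3,7,10,17],[(5458,[2,2,2,8,3,3,4]),(292,[]),(6438,[0,4,2,8,2,1,5]),(13218,[1,2,5,3,8]),(13025,[]),(13016,[]),(13024,[]),(13016,[]),(13012,[])],[1,2,4,2,2,2,5,9]),
  (1,[7,10,10],[(13758,[])],[0,5,2,2,8,3,4,3]),
  (38,[15,19,17,23,14,16,16,19,3,7,10,17],[(5458,[1,5,3,9,0,2,2,5]),(293,[]),(6426,[2,5,2,8,2,5,5]),(293,[]),(288,[]),(13226,[4,2,2,9,3,3]),(13017,[]),(13012,[])],[4,2,2,5,2,4,3,3]),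
  (1,[3,1,19,11,15],[(13766,[])],[0,8,2,2,8,2,1]),
  (7,[14,17,18,16,18,16,15,18,3,7,27,7],[(4382,[0,3,4,2,4,2,1,4]),(288,[]),(5294,[3,3,4,3,3,5,8,1]),(288,[]),(13282,[3,5,2,5,9,0]),(13024,[]),(13016,[]),(13025,[]),(13012,[])],[2,8,2,5,3,9,3,5]),
  (1,[3,29,26,11,9],[(13774,[]),(293,[]),(288,[])],[0,4,2,4,3,3,8,3]),
  (37,[14,14,17,17,23,16,16,16,23,3,7,27,7],[(4382,[0,0,3,3,9,2,2,2,9]),(2294,[2,2,2,5,2,1,3]),(13530,[0,2,2,5,3,5,3]),(13024,[]),(13016,[]),(13025,[]),(13017,[])],[2,9,3,8,3,5,3]),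
  (1,[3,7,9,11,19],[(13782,[]),(293,[]),(288,[])],[8,2,1,4,3]),
  (9,[14,16,15,17,18,16,22,3,7,9,16,7],[(5478,[0,2,1,3,4,2,8]),(292,[]),(288,[]),(3406,[0,4,2,8,3,0,2]),(292,[]),(288,[]),(13106,[1,4,3,5,3,8,2,5]),(13017,[]),(13025,[]),(13017,[])],[0,3,9,2,5,2,8]),
  (1,[3,19,7,10],[(13790,[]),(293,[])],[0,5,2,4,2,8,2]),
  (37,[16,22,17,14,18,16,22,3,7,9,16,7],[(5478,[2,8,3,0,4,2,8]),(288,[]),(7030,[0,5,5,8,2,4]),(13730,[5,3,0,5,9,2,4]),(13024,[]),(13017,[]),(13024,[])],[1,5,8,3,3,4,3]),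
  (1,[3,7,10,10],[(13798,[]),(293,[]),(288,[])],[3,5,5,2,5,2]),
  (37,[16,15,19,17,17,18,16,22,3,7,9,16,7],[(5478,[2,1,5,3,3,4,2,8]),(292,[]),(288,[]),(7998,[0,2,2,2,9,2]),(293,[]),(288,[]),(13282,[8,3,0,9,2,5,2,2]),(13024,[]),(13016,[]),(13012,[])],[0,3,3,8,3,0]),
  (1,[3,1,7,33,3],[(13806,[])],[2,8,2,9,2,9,0]),
  (3,[17,23,17,18,16,3,7,27],[(13170,[3,9,3,4,2]),(13024,[]),(13016,[]),(13012,[]),(13806,[8,2,4,3,3,5,9]),(293,[]),(288,[]),(13170,[0,0,0,3,3,4,3,3]),(13024,[]),(13016,[]),(13025,[]),(13012,[])],[5,2,4,2,4,2,1,2]),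
  (1,[7,26,7],[(13814,[]),(292,[])],[0,2,5,8,2,9,2,2]),
  (8,[18,16,19,23,3,7,10,10,26],[(3002,[4,2,5,9]),(292,[]),(288,[]),(8246,[1,4,2,2,8,2,4,2]),(292,[]),(13298,[0,5,8,3,0,9]),(13024,[]),(13017,[]),(13025,[])],[1,3,9,2,9,2]),
  (1,[3,10,19,11,11],[(13822,[])],[2,2,5,2,5,8,3,0]),
  (12,[15,17,22,16,16,16,23,14,3,7,10,16],[(4246,[1,3,8,2,2,2,9,0]),(288,[]),(6014,[0,0,4,3,5,3,5]),(13178,[8,1,3,5,3,4,3,8]),(13017,[]),(13024,[]),(13016,[])],[2,8,2,4,3,9,2,1]),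
  (1,[3,7,11,9,32],[(13830,[]),(293,[]),(288,[])],[0,9,2,4,3,5,3,0]),
  (41,[19,16,19,16,19,3,7,10,16],[(4246,[5,2,5,2,5]),(2050,[0,4,3,0,5,2,4]),(292,[]),(13458,[1,3,5,3,4,2,4]),(13024,[]),(13017,[]),(13025,[]),(13012,[])],[0,3,9,0,2,4,2,2]),
  (1,[3,7,10,14,19],[(13838,[]),(293,[]),(288,[])],[2,2,9,0,3,3,4]),
  (10,[15,19,16,16,19,17,18,3,7,11,9,16],[(3034,[1,5,2,2,5,3,4]),(288,[]),(2994,[0,3,4,3,3,5,9,2]),(288,[]),(13130,[4,3,5,3,0])],[0,5,9,3,5,3,9]),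
  (1,[3,11,18,32],[(13846,[])],[2,4,3,4,3,0,5,9]),
  (12,[17,14,16,19,17,19,3,7,9,26,7],[(9986,[3,0,2,5,3,5]),(9736,[]),(9745,[]),(9737,[]),(9732,[]),(10182,[0,3,3,8,1,3,4]),(292,[]),(13042,[8,2,5,3,3,9]),(13017,[]),(13024,[]),(13017,[])],[5,3,3,4,3,9,3]),
  (1,[3,7,11,19,7],[(13854,[])],[3,4,2,1,4,2]),
  (40,[15,18,16,16,18,17,23,3,7,9,26,7],[(9986,[1,4,2,2,4,3,9]),(9744,[]),(9736,[]),(9745,[]),(10766,[8,3,5,3,9,2,4]),(292,[]),(288,[]),(13514,[3,8,2,1,2,4,2,2]),(13017,[]),(13024,[]),(13016,[]),(13025,[])],[5,9,0]),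
  (1,[3,1,7,27,7,33],[(13862,[]),(293,[]),(288,[])],[0,8,2,2,2,4,2,8]),
  (8,[16,15,19,17,19,7,10,26,17],[(638,[2,1,5,3,5]),(292,[]),(7030,[9,2,5,8,2,2]),(13738,[0,0,5,2,4,2,9,0,3]),(13024,[]),(13016,[]),(13024,[])],[8,2,1,8,3,3]),
  (1,[3,1,7,26,7],[(13870,[]),(292,[]),(288,[])],[0,2,4,3,5,3,0]),
  (9,[14,18,17,17,19,23,17,22,7,26,11,26],[(9874,[0,4,3,3,5,9,3,8]),(9744,[]),(11766,[2,1,3,9,3,5,3,9]),(293,[]),(13858,[8,1,2,2,5,2,1]),(13016,[]),(13024,[]),(13017,[])],[3,8,2,5,8,1]),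
  (1,[3,1,11,19],[(13878,[]),(293,[])],[0,0,5,9,3,4,3,8]),
  (12,[14,17,14,18,17,17,7,26,11,26],[(9874,[0,3,0,4,3,3]),(9736,[]),(9744,[]),(10854,[4,3,0,4,2,5,3]),(293,[]),(288,[]),(13770,[2,4,3,0,2,8,2,2]),(13016,[]),(13025,[]),(13017,[])],[0,0,5,2,9]),
  (1,[3,1,7,10,33],[(13886,[])],[2,1,5,3,8,2,4,2]),
  (8,[14,22,17,22,16,18,17,19,3,7,17,3,11],[(566,[0,8,3,8,2,4,3,5]),(292,[]),(288,[]),(7262,[2,2,2,5,9]),(293,[]),(288,[]),(13114,[2,2,8,2,4,2,5,9,2]),(13017,[]),(13025,[]),(13012,[])],[2,1,3,5,2,4,3,4]),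
  (1,[3,19,7,11,13],[(13894,[]),(293,[])],[9,2,5,2,1,4,2]),
  (8,[16,16,18,17,19,17,17,19,3,7,17,3,11],[(566,[2,2,4,3,5,3,3,5]),(292,[]),(288,[]),(5878,[0,4,2,2,2,5,8,2]),(293,[]),(288,[]),(13626,[0,0,4,2,8,1,3,5,3]),(13017,[]),(13012,[])],[0,0,5,2,2,2,9]),
  (1,[3,10,29,3,11],[(13902,[]),(293,[])],[0,5,8,1,2,2,2,8]),
  (12,[17,18,17,17,22,15,16,7,11,26,26],[(10010,[3,4,3,3,8,1,2]),(9737,[]),(9732,[]),(10894,[5,3,8,3,0]),(13858,[3,5,2,4,2,5,2]),(13016,[]),(13025,[]),(13016,[])],[4,2,2,4,2,5,8]),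
  (1,[7,9],[(13910,[]),(288,[])],[4,3,5,2,1]),
  (9,[17,14,19,16,15,7,16,16,10],[(586,[3,0,5,2,1]),(9334,[3,3,5,8,1,2,2]),(13826,[0,2,4,2,2,4,3,5]),(13025,[]),(13017,[]),(13025,[])],[8,2,5,2,4,3,4]),
  (1,[3,29,7,10,26],[(13918,[]),(293,[]),(288,[])],[0,9,3,5,2,2,2]),
  (12,[16,18,17,18,17,18,17,22,15,7,16,16,10],[(586,[2,4,3,4,3,4,3,8,1]),(293,[]),(288,[]),(2930,[2,8,3,9,0,2]),(292,[]),(13314,[4,3,5,5,3,3,9]),(13025,[])],[0,5,5,2,5,2,1]),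
  (1,[3,11,13,19,10],[(13926,[]),(293,[]),(288,[])],[2,8,3,3,8,3,5,3]),
  (36,[19,22,17,17,19,17,19,22,7,16,16,10],[(586,[5,8,3,3,5,3,5,8]),(293,[]),(288,[]),(1158,[0,2,4,2,1,5,2,5]),(293,[]),(288,[]),(13562,[2,2,5,2,8,2,8,2]),(13017,[]),(13025,[]),(13017,[])],[5,3,3,5,9,3,4]),
  (1,[3,29,3,10,22],[(13934,[]),(292,[]),(288,[])],[3,9,2,4,2,8,3,4]),
  (12,[19,17,17,19,16,22,16,19,3,1,19,10],[(3182,[5,3,3,5,2,8,2,5]),(293,[]),(288,[]),(6798,[1,2,2,4,3,9,2,4]),(292,[]),(288,[]),(13306,[0,4,3,0]),(13024,[]),(13016,[]),(13024,[])],[0,0,2,5,2,5,3,4,3]),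
  (1,[3,11,19,11,9],[(13942,[]),(292,[])],[1,3,4,3,5,9,2,8]),
  (2,[23,17,17,18,17,23,3,1,11,19],[(13034,[9,3,3,4,3,9]),(13012,[]),(13062,[3,5,2,5,9,2,9]),(292,[]),(288,[]),(13882,[0,8,3,3,5,8])],[4,3,5,2,5]),
  (1,[3,1,10,19,7],[(13950,[])],[0,2,5,8,3,5,9]),
  (11,[14,16,3,1,11,19],[(13034,[0,2]),(13025,[]),(13702,[0,0,9,2,2,2]),(292,[]),(288,[]),(13946,[0,0,3,8,2]),(13024,[])],[3,4,3,8,2,5,2,2]),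
  (1,[3,10,29,3],[(13958,[]),(292,[])],[4,2,2,5,5,5]),
  (9,[15,16,19,17,17,22,17,17,3,11,11,18],[(9590,[1,2,5,3,3,8,3,3]),(292,[]),(288,[]),(5222,[0,3,5,2,9,3,3]),(293,[]),(13466,[2,5,3,5,3,4]),(13016,[]),(13024,[]),(13017,[]),(13012,[])],[0,2,9,2,4,3,8]),
  (1,[7,10,17,3,18],[(13966,[]),(288,[])],[0,3,3,8,2,1,3,9]),
  (9,[16,16,18,17,19,17,17,19,3,11,11,18],[(9590,[2,2,4,3,5,3,3,5]),(293,[]),(2678,[4,2,5,2,5]),(293,[]),(288,[]),(13266,[1,2,4,2,5,8,2,2]),(13024,[]),(13016,[]),(13012,[])],[4,3,3,4,3,5,3,9]),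
  (1,[3,1,19,11,13],[(13974,[]),(292,[]),(288,[])],[2,1,4,3,3,5,3,3]),
  (9,[19,16,16,16,23,17,17,18,3,11,13,18],[(4126,[5,2,2,2,9,3,3,4]),(288,[]),(7446,[0,2,5,8,3,0]),(292,[]),(13402,[9,3,3,5,3,0,2,4]),(13017,[]),(13024,[]),(13016,[]),(13025,[])],[0,4,2,2,5,3,9,3]),
  (1,[3,23,7,11,15],[(13982,[]),(288,[])],[0,0,3,5,8,2,4,2]),
  (8,[19,17,19,17,14,19,17,3,1,10,19],[(854,[5,3,5,3,0,5,3]),(293,[]),(288,[]),(5098,[1,3,5,5,5,2]),(293,[]),(288,[]),(13282,[0,4,3,4,3,0,5,2]),(13025,[]),(13016,[]),(13024,[]),(13012,[])],[0,0,2,4,2,1,3,4]),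
  (1,[3,7,9,11],[(13990,[]),(293,[]),(288,[])],[1,5,3,3,4,3,4]),
  (12,[14,16,16,16,22,16,15,3,10,13,18],[(7818,[0,2,2,2,8,2,1]),(3546,[2,2,5,3,5,3,8,3]),(288,[]),(13274,[0,3,5,5,5,3,9,3,3]),(13025,[]),(13016,[]),(13024,[])],[0,2,4,2,4,3,4]),
  (1,[7,26,7,10],[(13998,[]),(288,[])],[5,5,3,4]),
  (12,[17,17,22,16,23,3,10,13,18],[(7818,[3,3,8,2,9]),(9070,[2,9,2,2,5,3,9]),(13114,[3,0,2,8,2,4,3]),(13016,[]),(13024,[]),(13012,[])],[2,9,3,3,9]),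
  (1,[3,7,10,17,19,10],[(14006,[]),(288,[])],[3,0,2,5,3,9,2,2]),
  (12,[14,18,17,18,17,17,18,16,3,1,7,33,11],[(8538,[0,4,3,4,3,3,4,2]),(293,[]),(5214,[3,5,3,9,3,4,2,9]),(293,[]),(288,[]),(13882,[4,2,1,4,2,4,2,2]),(13025,[]),(13017,[]),(13025,[]),(13012,[])],[0,5,3,3,5,5,3,8]),
  (1,[3,19,10],[(14014,[]),(292,[]),(288,[])],[0,9,2,8,2,2,8]),
  (9,[14,19,16,15,18,3,1,7,33,10],[(5050,[0,5,2,1,4]),(292,[]),(288,[]),(7542,[0,5,5,8,2,8]),(293,[]),(288,[]),(13490,[0,2,5,3,9,3,3,4]),(13016,[]),(13024,[])],[1,1,5,3,5,3]),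
  (1,[3,19],[(14022,[])],[5,8,3,3,4,2,4]),
  (2,[14,16,16,16,23,16,16,7,11,17,3],[(10946,[0,2,2,2,9,2,2]),(9737,[]),(9745,[]),(9736,[]),(11118,[2,1,3,9,3]),(288,[]),(13370,[0,5,2,8,2,4,2,1]),(13012,[])],[2,2,2,4,2,1,3,4]),
  (1,[7,11,11],[(14030,[])],[4,2,8,1,3]),
  (5,[16,16,16,18,17,19,17,17,7,11,17,3],[(10946,[2,2,2,4,3,5,3,3]),(9737,[]),(9745,[]),(9736,[]),(10782,[0,0,3,4,3,9,2,9]),(292,[]),(13322,[5,9,3,5,3,3,4]),(13017,[]),(13024,[]),(13016,[]),(13025,[])],[1,2,2,5,3,4,2]),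
  (1,[7,11,26,3,7],[(14038,[])],[4,2,5,2,5,3,9]),
  (37,[15,15,18,17,19,17,17,19,7,11,17,3],[(10946,[1,1,4,3,5,3,3,5]),(9737,[]),(9745,[]),(9732,[]),(11094,[4,2,5,5,5,3]),(288,[]),(13778,[3,0,9,2,2,4,2,2]),(13025,[]),(13016,[]),(13024,[]),(13017,[])],[4,3,3,5,3,5,5]),
  (1,[3,18,27,27,7],[(14046,[])],[0,5,8,3,8,1,3]),
  (40,[14,14,23,16,19,17,22,7,11,17,3],[(10946,[0,0,9,2,5,3,8]),(9736,[]),(9745,[]),(9732,[]),(10086,[0,8,1,2,4,2,2,4]),(292,[]),(288,[]),(13410,[0,0,2,5,2,2,8]),(13017,[]),(13025,[])],[5,3,8,2,5,2,2,8]),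
  (1,[3,18],[(14054,[]),(293,[]),(288,[])],[0,2,1,3,4,2,4,2]),
  (7,[14,17,19,16,18,16,18,17,3,7,11,14,26],[(8682,[0,3,5,2,4,2,4,3]),(293,[]),(3626,[3,4,2,5,3,0,4]),(288,[]),(13218,[0,2,2,5,3,3,4,3])],[0,2,4,2,8,2,8,2,4]),
  (1,[3,10,18,33],[(14062,[]),(293,[]),(288,[])],[2,2,5,5,5,3,4]),
  (12,[17,14,16,22,16,3,7,10,15,16],[(7090,[3,0,2,8,2]),(5594,[1,3,5,3,8,3,3]),(13762,[1,2,9,3,5,3,0]),(13025,[]),(13016,[]),(13024,[]),(13016,[]),(13012,[])],[1,3,5,5,3,4]),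
  (1,[3,10,23,11,19],[(14070,[]),(293,[])],[5,3,3,9,2,4,3,5]),
  (8,[16,19,19,16,16,16,23,17,7,10,27,3],[(6458,[2,5,5,2,2,2,9,3]),(293,[]),(3474,[0,3,5,3,3,8,3,5]),(13546,[0,0,9,2,2,5,3,4]),(13016,[])],[1,8,3,4,3,5,3,4]),
  (1,[3,1,10,23,7],[(14078,[])],[0,4,3,0,5,2,4]),
  (8,[14,16,16,23,17,18,17,7,10,27,3],[(6458,[0,2,2,9,3,4,3]),(4878,[4,3,9,3,5,2,2,8]),(288,[]),(13098,[3,4,3,8,1,2,5,9]),(13016,[]),(13024,[]),(13017,[]),(13012,[])],[2,8,2,1,2,4,3,3]),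
  (1,[3,7,9,10,19],[(14086,[]),(292,[])],[3,3,5,8,2,5,9]),
  (12,[16,15,19,16,16,7,10,27,3],[(6458,[2,1,5,2,2]),(4094,[0,0,2,2,4,2,4,2,4]),(292,[]),(13394,[5,9,2]),(13016,[]),(13025,[]),(13017,[])],[0,5,9,2,8,1,8,2]),
  (1,[3,19,16,27],[(14094,[]),(292,[]),(288,[])],[0,5,2,1,3,5]),
  (38,[16,22,16,19,16,18,16,7,10,27,3],[(6458,[2,8,2,5,2,4,2]),(292,[]),(288,[]),(1338,[1,2,5,2,2,4,3,5]),(13762,[1,3,5,3,0,5,2]),(13012,[])],[1,3,3,9,2,4,2]),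
  (1,[3,10,13,19],[(14102,[]),(293,[]),(288,[])],[0,9,2,4,3,3,9,2]),
  (9,[16,18,16,23,16,3,7,11,19,11],[(11562,[2,4,2,9,2]),(9745,[]),(9736,[]),(9744,[]),(11550,[8,2,4,3,9,2,4,2]),(288,[]),(13258,[3,5,9,3,4,3,5]),(13025,[]),(13017,[])],[0,2,9,3,3]),
  (1,[3,7,33,11,13],[(14110,[]),(292,[])],[0,0,2,5,3,3,9,0,3]),
  (9,[19,22,15,17,14,18,17,7,26,3],[(9890,[5,8,1,3,0,4,3]),(11750,[0,2,8,1,3,9]),(288,[]),(13882,[0,5,2,1,4,3,5,5]),(13024,[]),(13012,[])],[2,4,3,4,3,0,2,4]),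
  (1,[3,1,7,15,10,18],[(14118,[]),(293,[])],[0,9,2,4,2,2,5,5]),
  (9,[14,17,14,18,16,16,22,16,18,3,7,10,19,7],[(3846,[0,3,0,4,2,2,8,2,4]),(292,[]),(5022,[0,5,5,2,2]),(292,[]),(13434,[3,9,2,4,3,3,5,9]),(13012,[])],[1,5,8,2,4,2,5]),
  (1,[3,7,10,32],[(14126,[])],[0,4,3,4,3,4]),
  (9,[14,19,19,16,22,15,22,3,7,5,10,17],[(8870,[0,5,5,2,8,1,8]),(292,[]),(3978,[2,2,5,8,3,4,3,8]),(293,[]),(13778,[3,3,5,8,2,2,2]),(13024,[]),(13017,[]),(13025,[]),(13016,[])],[0,9,2,1,5,3,5]),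
  (1,[3,23,10,19],[(14134,[]),(293,[]),(288,[])],[8,1,2,4,2,5,2,9]),
  (2,[22,17,18,17,14,16,19,3,1,7,10,16,16],[(7150,[8,3,4,3,0,2,5]),(8606,[1,3,3,4,3,8]),(288,[]),(13530,[1,3,4,2,2,2,9,2]),(13017,[]),(13024,[]),(13012,[])],[0,8,2,4,2,8,3,4]),
  (1,[3,7,18,11,15],[(14142,[])],[3,8,1,3,0,4,2,2]),
  (10,[14,16,16,18,16,15,18,17,18,3,7,5,27],[(594,[0,2,2,4,2,1,4,3,4]),(288,[]),(422,[4,3,5,3,4,3,8]),(293,[]),(288,[]),(14050,[0,3,0,9,2,5,2,9]),(13024,[]),(13017,[])],[3,4,3,8,2,2,2,9]),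
  (1,[3,7,11,33,11],[(14150,[]),(293,[]),(288,[])],[4,2,2,5,8,1,3]),
  (9,[17,19,16,18,17,18,17,19,3,1,7,10,17,14],[(5566,[3,5,2,4,3,4,3,5]),(293,[]),(1090,[0,3,3,5,9,3,4]),(13522,[9,2,5,2,1,4,2])],[4,2,5,3,3,5,3]),
  (1,[3,1,7,10],[(14158,[]),(288,[])],[1,3,3,4,3,3,4]),
  (41,[22,16,16,16,23,14,3,7,5,10,16],[(13354,[8,2,2,2,9,0]),(13025,[]),(13017,[]),(13025,[]),(13017,[]),(13012,[]),(14070,[1,2,5,3,3,5,3]),(292,[]),(13954,[1,3,4,3,5,8,1]),(13017,[])],[0,8,1,3,3,4]),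
  (1,[3,7,10,33],[(14166,[]),(293,[]),(288,[])],[1,5,3,9,2,5,2,1]),
  (9,[14,19,17,18,17,22,16,3,1,7,11,17,17],[(8114,[0,5,3,4,3,8,2]),(3642,[1,2,2,4,3,8,2,5]),(293,[]),(288,[]),(13954,[3,5,5,9,2,8,2]),(13024,[]),(13016,[]),(13025,[])],[2,2,8,2,2,2,5,2])]
theorem hD25 : allD2 lk B KW SW F A RL [] D25 3421 = true := by decide +kernel
def D26 : List (ℕ × Word × List (ℕ × Word) × Word) := [(1,[3,7,15,10],[(14174,[]),(293,[]),(288,[])],[0,2,8,3,3,4,3,3]),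
  (8,[16,22,17,18,17,19,17,14,3,1,7,10,15,17],[(5498,[2,8,3,4,3,5,3,0]),(292,[]),(288,[]),(8486,[2,1,5,3,3,5,2]),(293,[]),(13178,[8,2,1,5,3,0,4]),(13024,[])],[3,0,4,2,5,2,1,4]),
  (1,[3,11,19,10],[(14182,[])],[0,2,5,3,5,5,9]),
  (8,[19,16,19,16,19,3,7,5,17,7],[(7938,[5,2,5,2,5]),(292,[]),(288,[]),(8710,[0,3,3,4,3,9,2,1]),(293,[]),(13658,[3,5,3,5,3,5,2]),(13024,[]),(13017,[]),(13025,[])],[0,4,2,8,2,1,4,2]),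
  (1,[3,19,10,9,10],[(14190,[]),(288,[])],[4,3,0,9,2,5]),
  (9,[14,19,19,17,22,16,22,17,3,7,5,11,16],[(3226,[0,5,5,3,8,2,8,3]),(288,[]),(1174,[9,2,5,2,5,2,2]),(292,[]),(13498,[0,0,9,2,2,5,3,3]),(13017,[]),(13012,[])],[1,4,3,5,5,5,3,3]),
  (1,[3,10,19,7],[(14198,[])],[0,5,8,2,5,8,3]),
  (9,[17,22,16,15,16,19,16,3,19,7,10],[(1750,[3,8,2,1,2,5,2]),(292,[]),(7210,[9,3,5,3,5,3,3]),(288,[]),(14106,[0,2,9,3,3,8,2]),(13017,[]),(13024,[]),(13017,[])],[2,2,5,3,5,3,0]),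
  (1,[3,1,7,11,32,11],[(14206,[]),(293,[]),(288,[])],[8,2,1,5,8,2]),
  (36,[17,23,16,19,17,17,23,3,19,7,10],[(1750,[3,9,2,5,3,3,9]),(288,[]),(590,[5,5,3,5,9,0,2]),(13354,[0,2,8,1,3,3,9,2]),(13024,[]),(13017,[]),(13025,[])],[1,3,9,3,5,3,9]),
  (1,[3,19,10,13],[(14214,[])],[0,5,2,5,8,2,8,1]),
  (11,[14,19,16,18,16,15,19,17,3,19,11,11],[(4666,[0,5,2,4,2,1,5,3]),(292,[]),(2762,[0,9,2,2,4,3,5,2]),(13802,[2,5,8,2,2,2,8])],[8,2,2,4,3]),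
  (1,[3,1,7,11,32],[(14222,[]),(288,[])],[2,4,3,3,4,3,0,5]),
  (12,[19,16,19,16,23,17,17,18,3,19,10,10],[(1226,[5,2,5,2,9,3,3,4]),(293,[]),(8538,[2,8,3,3,8,3,3]),(293,[]),(288,[]),(13602,[2,5,3,0,4,2,2]),(13024,[]),(13017,[]),(13024,[])],[8,2,2,4,3,8]),
  (1,[7,10,26,7],[(14230,[]),(293,[])],[2,4,2,9,3,3,5,8]),
  (9,[15,19,16,19,16,19,16,16,3,11,19,11],[(2370,[1,5,2,5,2,5,2,2]),(3714,[2,5,2,5,9,3,3]),(13842,[0,9,3,3,4,3,3,5]),(13016,[]),(13025,[]),(13017,[]),(13024,[])],[1,2,9,2,4,2,4]),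
  (1,[3,11,29,3],[(14238,[]),(288,[])],[0,2,1,3,5,3,3,9]),
  (8,[18,17,18,16,23,17,17,3,10,13,19],[(11974,[4,3,4,2,9,3,3]),(11877,[]),(11852,[]),(12338,[4,3,4,3,9,2,5,3]),(293,[]),(288,[]),(13906,[4,2,5,8,3,5,3,3])],[1,1,5,2,5,2,4,3]),
  (1,[3,18,7],[(14246,[]),(293,[])],[8,2,4,2,2,4]),
  (12,[16,18,16,16,18,17,14,16,3,10,10,19],[(538,[2,4,2,2,4,3,0,2]),(288,[]),(7898,[0,0,4,2,8,1,3,9]),(292,[]),(13146,[2,2,5,9,2,5,2]),(13016,[]),(13024,[]),(13016,[])],[3,5,5,3,3,4,2,1]),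
  (1,[3,23,7,11,13],[(14254,[]),(293,[])],[0,5,3,0,4,2,8,2,5]),
  (8,[15,15,18,16,18,16,19,3,29,3,10],[(6818,[1,1,4,2,4,2,5]),(292,[]),(826,[9,2,5,2,5,8,3]),(13250,[2,2,8,1,2,2,4]),(13025,[]),(13016,[]),(13024,[]),(13012,[])],[2,5,8,2,4,2,1]),
  (1,[3,7,11,14,26],[(14262,[]),(293,[]),(288,[])],[4,3,5,9,0]),
  (36,[19,16,16,22,16,16,16,23,3,29,3,10],[(6818,[5,2,2,8,2,2,2,9]),(292,[]),(288,[]),(8866,[3,8,1,3,5,3,4,3]),(13346,[2,9,3,4,2,5]),(13012,[])],[3,3,9,2,9]),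
  (1,[7,9,11],[(14270,[]),(292,[])],[0,2,8,1,2,4,2]),
  (40,[14,17,14,16,19,17,23,16,16,3,29,3,10],[(6818,[0,3,0,2,5,3,9,2,2]),(292,[]),(288,[]),(7770,[2,4,2,5,3]),(14082,[5,5,2]),(13017,[])],[0,9,3,3,4,3,3]),
  (1,[3,1,11,22,7],[(14278,[])],[0,2,4,2,1,3,4,2,8]),
  (2,[16,16,22,16,22,16,3,7,33,11,13],[(9058,[2,2,8,2,8,2]),(6834,[2,4,2,4,2,5,3,9]),(292,[]),(14202,[0,3,9,3,5]),(13024,[]),(13017,[]),(13012,[])],[5,3,9,2,4,2,4,2]),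
  (1,[3,1,19,10,15],[(14286,[]),(293,[]),(288,[])],[9,2,4,2,1,5,3]),
  (42,[14,17,17,18,16,22,16,19,3,7,33,10,10],[(6538,[0,3,3,4,2,8,2,5]),(293,[]),(2966,[0,5,5,3,0,4,2,9]),(292,[]),(13962,[0,4,2,8,1,3,4,3,0]),(13025,[])],[0,4,3,5,3,5,3,5]),
  (1,[3,19,11,9],[(14294,[]),(292,[])],[4,2,2,5,2,5]),
  (2,[14,16,16,18,16,16,16,3,7,29,10,27],[(12142,[0,2,2,4,2,2,2]),(11877,[]),(11861,[]),(11853,[]),(12018,[0,5,2,1,2,5,2,9]),(292,[]),(13106,[1,2,2,2,4,2,2,9]),(13024,[]),(13016,[]),(13012,[])],[2,2,5,2,5,2,2,9]),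
  (1,[7,9,10,10],[(14302,[])],[0,0,0,4,3,5,3,3]),
  (39,[19,17,17,23,17,3,7,29,10,27],[(12142,[5,3,3,9,3]),(11877,[]),(11860,[]),(11853,[]),(12570,[0,2,1,2,5,3,4]),(293,[]),(288,[]),(13842,[2,5,2,2,2,5,8]),(13025,[]),(13017,[]),(13024,[])],[0,3,5,3,8,2,8]),
  (1,[3,19,7],[(14310,[])],[2,8,2,5,2,5,2,5]),
  (12,[15,19,17,22,16,18,17,22,3,1,7,10,17,18],[(8558,[1,5,3,8,2,4,3,8]),(292,[]),(288,[]),(6750,[3,5,3,8,1,8,3,4]),(13690,[8,2,2,4,2,8,3]),(13016,[]),(13012,[])],[5,2,8,1,3,3,5]),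
  (1,[3,1,7,10,23],[(14318,[]),(292,[])],[3,4,2,5,3,4]),
  (9,[15,15,17,18,16,18,3,1,7,26,7],[(11306,[1,1,3,4,2,4]),(9736,[]),(9744,[]),(9737,[]),(11038,[0,0,2,5,2,2,5,9]),(292,[]),(288,[]),(14314,[1,2,2,5,2,5,8,2]),(13024,[]),(13016,[]),(13024,[])],[0,2,4,2,4,2,5]),
  (1,[3,7,18],[(14326,[]),(292,[])],[2,1,8,3,5,3,0,4]),
  (39,[17,23,17,22,17,19,3,1,7,9,26,10],[(2018,[3,9,3,8,3,5]),(288,[]),(4410,[0,2,5,8,3,3,5,3,0]),(292,[]),(14090,[0,3,9,3,4,2,4]),(13025,[]),(13016,[]),(13024,[]),(13012,[])],[1,8,2,4,3,5,3,5]),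
  (1,[3,10,19,10,12],[(14334,[])],[5,2,5,2,4,2]),
  (9,[14,22,17,18,17,17,22,15,3,11,19,22],[(874,[0,8,3,4,3,3,8,1]),(292,[]),(846,[4,2,4,2,9,3]),(292,[]),(13210,[5,2,2,4,2,4])],[9,2,5,8,2,5,2]),
  (1,[3,1,23,7],[(14342,[]),(292,[]),(288,[])],[3,5,3,3,5,2,4,2]),
  (36,[15,17,17,18,16,19,17,3,1,7,33,11,11],[(8402,[1,3,3,4,2,5,3]),(4878,[5,3,9,2,4,2,5]),(292,[]),(14002,[0,9,2,8,2]),(13025,[]),(13017,[]),(13025,[]),(13012,[])],[3,4,2,5,3,0]),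
  (1,[3,1,19,11,14,7],[(14350,[]),(293,[])],[0,0,3,3,5,8]),
  (38,[14,16,16,22,17,17,3,1,7,33,11,11],[(8402,[0,2,2,8,3,3]),(1770,[2,1,5,3,9,0,2,5]),(292,[]),(13842,[3,3,5,5,5,3,8]),(13024,[]),(13012,[])],[2,4,3,4,3,4,3,4]),
  (1,[3,7,29,10,17],[(14358,[]),(293,[])],[9,3,5,2,2,5,3]),
  (11,[17,19,16,19,16,16,19,17,7,11,17,3,7],[(6066,[3,5,2,5,2,2,5,3]),(293,[]),(288,[]),(7114,[1,3,4,2,5,3,0,2]),(13402,[3,3,8,3,5,3,5]),(13016,[]),(13024,[]),(13016,[]),(13012,[])],[2,2,5,5,2,5,2,8]),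
  (1,[7,10,16,3,7],[(14366,[]),(292,[])],[8,3,9,3]),
  (12,[16,19,16,15,18,16,3,1,7,33,10,13],[(12102,[2,5,2,1,4,2]),(11861,[]),(11856,[]),(11852,[]),(12562,[5,2,4,2,4,2,1]),(13866,[0,2,9,3,5,3,0,4]),(13024,[]),(13017,[]),(13024,[])],[0,3,3,5,8,2,1]),
  (1,[3,7],[(14374,[]),(292,[]),(288,[])],[0,0,2,2,5,3,0,4]),
  (2,[16,16,18,17,22,16,16,3,7,15,26,18],[(10442,[2,2,4,3,8,2,2]),(9737,[]),(9745,[]),(9732,[]),(10702,[2,2,9,2,2,8]),(293,[]),(288,[]),(13938,[3,3,5,8,2,1,5]),(13025,[]),(13017,[]),(13025,[]),(13016,[])],[8,3,5,2,8,3,5]),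
  (1,[3,7,18,11],[(14382,[]),(292,[]),(288,[])],[2,5,3,5,2]),
  (5,[23,16,18,16,16,3,7,15,26,18],[(10442,[9,2,4,2,2]),(9737,[]),(9744,[]),(9736,[]),(9732,[]),(11398,[0,3,5,3,9,0,3]),(292,[]),(13610,[2,8,2,2,5,3,4]),(13017,[]),(13024,[]),(13012,[])],[4,3,5,2,4,2,2]),
  (1,[3,7,18,11,13],[(14390,[])],[0,9,2,5,3,3,5,5]),
  (8,[15,17,17,19,23,16,19,7,10,16,3],[(5150,[1,3,3,5,9,2,5]),(2702,[0,0,3,3,4,3,8,2,5]),(13402,[0,0,2,5,3,9,2]),(13016,[]),(13024,[]),(13017,[]),(13012,[])],[0,8,2,5,2,2,4]),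
  (1,[3,1,19,3,29],[(14398,[]),(293,[]),(288,[])],[0,0,2,5,2,4,2]),
  (6,[18,16,23,16,16,18,16,23,3,1,23,7,11],[(13466,[4,2,9,2,2,4,2,9]),(13012,[]),(13910,[0,4,2,2,5,2,9]),(292,[]),(288,[]),(14058,[5,2,1,5,2,2,2,4]),(13025,[]),(13017,[]),(13025,[]),(13017,[]),(13012,[])],[0,4,2,4,2,5,9,3]),
  (1,[3,1,19,7,10,9],[(14406,[]),(288,[])],[0,0,4,2,9,0]),
  (11,[23,16,23,16,16,19,3,7,29,16,10],[(5846,[9,2,9,2,2,5]),(3014,[1,3,0,5,3,5,3,0]),(288,[]),(13826,[0,2,5,2,2,4,3]),(13024,[]),(13017,[])],[1,5,3,3,5,9,2,5]),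
  (1,[3,18,26,11,19],[(14414,[])],[3,5,3,0,5,2,9,0]),
  (8,[18,16,22,15,17,18,17,17,3,11,19,7,10],[(1942,[4,2,8,1,3,4,3,3]),(288,[]),(4026,[2,1,8,3,4,3,3,9]),(292,[]),(13378,[0,5,3,8,3,4,2]),(13025,[]),(13017,[]),(13024,[])],[0,5,3,3,5,8,2,9]),
  (1,[3,7,15,11],[(14422,[]),(293,[]),(288,[])],[2,5,8,3,5,9,2,2]),
  (12,[14,18,17,14,19,17,18,16,3,11,11,19,11],[(5906,[0,4,3,0,5,3,4,2]),(292,[]),(288,[]),(3986,[3,5,9,2,5,2,5]),(292,[]),(13578,[0,8,3,8,2,4,2,2]),(13016,[]),(13024,[]),(13012,[])],[0,2,5,2,4,3,4,3]),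
  (1,[3,1,7,33,10],[(14430,[]),(293,[]),(288,[])],[2,5,5,2,2,4,2,1]),
  (12,[14,14,19,17,18,17,22,17,3,10,19,7,10],[(3062,[0,0,5,3,4,3,8,3]),(293,[]),(6514,[0,5,9,3,4,3,5,3]),(14170,[0,5,5,2,4,2,2,5]),(13024,[]),(13012,[])],[5,8,3,9,0,2,4,2]),
  (1,[3,1,28,11,26],[(14438,[]),(293,[]),(288,[])],[1,3,4,3,8,2,5]),
  (9,[22,17,17,19,17,17,23,16,3,29,3,10,13],[(12190,[8,3,3,5,3,3,9,2]),(11876,[]),(11861,[]),(11856,[]),(11853,[]),(12098,[0,4,2,9,0,3]),(293,[]),(288,[]),(13586,[0,5,2,4,2,5,8]),(13024,[]),(13016,[]),(13025,[])],[0,2,1,5,2,4,2,9]),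
  (1,[3,7,11,9,15],[(14446,[]),(292,[])],[9,2,1,4,3,3,5]),
  (37,[14,18,17,18,17,22,15,3,7,18,11,14],[(13162,[0,4,3,4,3,8,1]),(13190,[3,3,5,3,3,4,3]),(293,[]),(13994,[0,3,3,8,1,2,5])],[0,8,2,4,2,5,2,5]),
  (1,[3,7,10,13],[(14454,[]),(288,[])],[3,4,3,3,5,5,3,5]),
  (42,[18,16,19,23,17,22,3,1,23,7,11,11],[(2086,[4,2,5,9,3,8]),(7546,[2,1,5,2,2,4,2,9]),(292,[]),(13594,[0,3,9,2,2,4]),(13024,[]),(13016,[]),(13024,[]),(13012,[])],[3,5,3,0,4]),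
  (1,[3,7,15,26,7],[(14462,[]),(293,[])],[5,3,5,2,8,2,4]),
  (11,[14,18,17,17,19,17,22,16,10],[(11778,[0,4,3,3,5,3,8,2]),(9744,[]),(9737,[]),(10606,[3,5,5,2,5]),(292,[]),(13586,[0,8,1,2,5]),(13016,[]),(13025,[]),(13017,[]),(13012,[])],[1,2,2,8,2,2,5,2]),
  (1,[3,1,19,7,10],[(14470,[]),(9736,[]),(9745,[]),(9732,[])],[2,5,2,5,2,4,2,2]),
  (8,[22,17,17,23,16,16,22,3,1],[(9758,[8,3,3,9,2,2,8]),(160,[]),(108,[]),(104,[]),(1370,[0,9,3,3,4,3,4,2]),(292,[]),(288,[]),(13994,[1,5,3,3,5,2,4,2]),(13012,[])],[3,5,2,5,2,2,8]),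
  (1,[3,1,19,7,11,9],[(14478,[]),(9736,[]),(9744,[]),(9732,[])],[5,2,9,0,3,4]),
  (11,[15,17,19,22,16,16,18,3,1],[(9758,[1,3,5,8,2,2,4]),(160,[]),(137,[]),(112,[]),(9470,[4,2,8,3,4,2,2,8]),(13954,[0,4,2,1,5,3]),(13025,[]),(13017,[]),(13024,[]),(13012,[])],[2,2,5,2,1,5,3,0]),
  (1,[3,10,19,17,3],[(14486,[]),(9736,[]),(9745,[]),(9737,[]),(9732,[])],[1,2,2,4,3,3,9,2]),
  (11,[16,16,19,19,19,3,1],[(9758,[2,2,5,5,5]),(161,[]),(120,[]),(108,[]),(11834,[3,0,9,2,4,3]),(9744,[]),(9736,[]),(9745,[]),(9732,[]),(14490,[0,0,5,3,3,4,3,3]),(13024,[]),(13016,[]),(13024,[])],[2,8,3,5,8]),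
  (1,[3,1,7,11,33,10],[(14494,[]),(9737,[]),(9745,[]),(9736,[]),(9732,[])],[0,0,3,3,5,3,8]),
  (12,[14,14,16,22,15,17,22,3,1],[(9758,[0,0,2,8,1,3,8]),(120,[]),(160,[]),(136,[]),(104,[]),(11834,[5,9,2]),(9744,[]),(9736,[]),(9745,[]),(9732,[]),(14490,[3,5,9,3,5]),(13025,[]),(13016,[])],[2,5,9,2,1,4]),
  (1,[3,10,13,18],[(14502,[]),(9736,[]),(9745,[]),(9736,[]),(9732,[])],[2,5,2,1,3,5,3]),
  (8,[14,19,16,15,17,18,3,7],[(11454,[0,5,2,1,3,4]),(293,[]),(3546,[0,2,1,3,5,3,4,2]),(288,[]),(13274,[9,3,4,2,9,3]),(13024,[]),(13016,[]),(13025,[])],[4,2,9,2,2,8,2]),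
  (1,[7,17,3,7,32],[(14510,[])],[4,3,5,3,0,2,5]),
  (9,[14,17,17,18,16,19,16,19,3,7],[(11454,[0,3,3,4,2,5,2,5]),(288,[]),(4282,[3,0,4,2,5,8,2,4]),(292,[]),(288,[]),(14074,[0,0,0,3,3,5,3,5]),(13024,[]),(13016,[]),(13024,[]),(13017,[])],[0,9,3,3,5,8]),
  (1,[3,1,7,33,11],[(14518,[]),(9745,[]),(9736,[]),(9732,[])],[8,2,4,2,1,2,4]),
  (12,[14,22,16,16,18,16,15,3,7],[(11454,[0,8,2,2,4,2,1]),(292,[]),(288,[]),(10370,[3,8,3,4,3,5,3,5]),(9737,[]),(9744,[]),(9732,[]),(14514,[0,3,3,4,2,8,2]),(13017,[]),(13025,[])],[9,3,5,3,5,8]),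
  (1,[3,1,7,10,32],[(14526,[]),(9744,[]),(9732,[])],[2,5,2,4,3,4,3,8,2]),
  (37,[14,16,19,19,17,22,16,23,3,7],[(11454,[0,2,5,5,3,8,2,9]),(293,[]),(7778,[8,3,3,8,3,8]),(292,[]),(13138,[8,3,0,2,8,2,2]),(13016,[])],[1,2,4,2,5,2,8,1]),
  (1,[7,11,9],[(14534,[]),(9745,[]),(9737,[]),(9744,[]),(9736,[]),(9732,[])],[5,8,2,5,2,5,8]),
  (37,[19,17,23,17,18,16,23,3,7],[(11454,[5,3,9,3,4,2,9]),(292,[]),(288,[]),(8174,[1,2,5,3,4,3,8]),(292,[]),(288,[]),(14002,[8,3,4,3,4]),(13016,[]),(13025,[]),(13016,[])],[0,5,9,2,9,3,4]),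
  (1,[3,1,11,18],[(14542,[]),(9737,[]),(9745,[]),(9736,[])],[0,0,9,2,5,2,5,8]),
  (8,[16,22,15,17,18,3,11],[(11786,[2,8,1,3,4]),(9744,[]),(9736,[]),(10558,[4,3,4,2,2,2]),(292,[]),(13898,[3,4,3,4,2,8]),(13024,[]),(13017,[]),(13012,[])],[0,0,3,5,3,8,2]),
  (1,[3,19,11],[(14550,[]),(9737,[]),(9744,[]),(9732,[])],[2,2,2,5,3,3,5,8]),
  (9,[14,17,17,19,16,22,16,3,11],[(11786,[0,3,3,5,2,8,2]),(10606,[2,4,3,4,2,4]),(292,[]),(288,[]),(13258,[0,0,0,2,5,2,2]),(13017,[]),(13025,[]),(13016,[]),(13012,[])],[5,2,5,9,2,1]),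
  (1,[3,7,5,10,18],[(14558,[])],[0,2,1,4,3,5,3]),
  (8,[19,19,23,17,19,17,17,3,10],[(9814,[5,5,9,3,5,3,3]),(248,[]),(5736,[]),(264,[]),(1346,[0,8,3,5,3,0,4]),(292,[]),(288,[]),(14306,[0,3,4,3,5,9,2,8]),(13016,[])],[3,3,4,2,8,2,1]),
  (1,[7,11,13],[(14566,[]),(9737,[]),(9745,[]),(9737,[])],[2,1,3,4,3,4]),
  (8,[18,16,15,22,17,19,17,11,11],[(11774,[4,2,1,8,3,5,3]),(9737,[]),(9745,[]),(11310,[0,2,2,8,3,5,5,5]),(293,[]),(288,[]),(14146,[3,0,9,2,5,2,1,5]),(13024,[]),(13016,[]),(13025,[]),(13017,[])],[0,8,2,4,3,9,2,9]),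
  (1,[3,29,3,10],[(14574,[]),(9736,[]),(9732,[])],[0,4,3,9,2,5,9]),
  (8,[14,16,18,16,15,22,17,19,17,11,11],[(11774,[0,2,4,2,1,8,3,5,3]),(9736,[]),(9745,[]),(9732,[]),(11478,[0,2,2,2,5,2,5]),(288,[]),(13666,[3,3,4,3,0,9,2,4]),(13017,[]),(13024,[]),(13017,[])],[9,2,4,2,5,2,1,4]),
  (1,[3,19,10,16,26],[(14582,[]),(9745,[]),(9737,[]),(9744,[]),(9736,[]),(9732,[])],[3,9,3,3,4,3,9]),
  (9,[16,15,17,19,17,19,17,18,11,11],[(11774,[2,1,3,5,3,5,3,4]),(9737,[]),(9918,[2,2,2,8,2,2,2,5,9]),(13826,[2,8,1,3,5,3,4,2]),(13016,[]),(13024,[]),(13016,[])],[5,2,5,2,2,9]),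
  (1,[3,11,19,22],[(14590,[]),(9737,[]),(9745,[]),(9736,[]),(9732,[])],[1,3,5,9,2,9]),
  (40,[15,17,19,17,18,17,17,23,3,7,5],[(12830,[1,3,5,3,4,3,3,9]),(11856,[]),(11877,[]),(11860,[]),(11856,[]),(11853,[]),(12194,[4,3,3,4]),(293,[]),(288,[]),(13650,[0,2,5,2,2,5,8]),(13025,[]),(13016,[]),(13024,[]),(13017,[])],[0,2,2,5,3,5,5,5]),
  (1,[3,19,10,15],[(14598,[]),(9744,[]),(9736,[]),(9732,[])],[2,2,5,3,9,0]),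
  (9,[17,14,18,17,17,19,3],[(11906,[3,0,4,3,3,5]),(248,[]),(5737,[]),(264,[]),(248,[]),(2498,[0,8,2,5,5]),(288,[]),(13898,[3,3,4,2,9,3]),(13024,[]),(13016,[]),(13025,[])],[0,2,8,1,3,3,9,2]),
  (1,[7,17,3,11,18],[(14606,[]),(11856,[]),(11876,[]),(11860,[]),(11852,[])],[0,3,3,4,3,0,2,5]),
  (36,[23,16,19,17,19,3],[(11906,[9,2,5,3,5]),(248,[]),(5737,[]),(264,[]),(248,[]),(4926,[1,5,3,4,3,9,2,5]),(14362,[4,3,3,4,3,3,8,2]),(13025,[]),(13017,[])],[2,5,3,9,2,9]),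
  (1,[7,11,17,3,7],[(14614,[]),(11877,[]),(11877,[]),(11853,[])],[0,3,3,5,3,5,8,1]),
  (8,[14,16,16,23,14,16,16,16,10],[(12978,[0,2,2,9,0,2,2,2]),(11856,[]),(11853,[]),(12314,[0,4,2,2,2,5,5,5]),(13666,[2,5,2,5,8,2]),(13024,[]),(13017,[])],[2,2,2,5,8,2,1,3]),
  (1,[3,7,9,11,18,7],[(14622,[]),(11861,[]),(11876,[])],[3,4,2,4,2,5,2]),
  (9,[19,16,15,16,19,16,16,16,10],[(12978,[5,2,1,2,5,2,2,2]),(11860,[]),(11852,[]),(12018,[0,5,5,8]),(293,[]),(288,[]),(13106,[3,3,5,3,0,4,2,1]),(13024,[]),(13017,[])],[0,4,2,9,3,5,3,5]),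
  (1,[3,10,10,19,11],[(14630,[]),(11876,[]),(11876,[]),(11856,[]),(11853,[])],[0,2,9,0,3,3,5]),
  (8,[16,15,19,22,3,11],[(12714,[2,1,5,8]),(288,[]),(5578,[0,9,3,5,2,2,5,2]),(293,[]),(288,[]),(13170,[3,5,5,2,5,2]),(13017,[]),(13025,[])],[4,3,4,3,0,4,3,3]),
  (1,[3,10,19,22],[(14638,[]),(11876,[]),(11876,[]),(11853,[])],[0,2,1,4,2,4,2,1])]
theorem hD26 : allD2 lk B KW SW F A RL [] D26 3544 = true := by decide +kernel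
def D27 : List (ℕ × Word × List (ℕ × Word) × Word) := [(8,[16,16,19,16,19,16,23,3,11],[(12714,[2,2,5,2,5,2,9]),(293,[]),(2806,[5,5,2,5,9]),(13618,[0,0,2,4,2,5,8]),(13017,[]),(13024,[]),(13016,[])],[2,2,5,3,5,8,3,4]),
  (1,[3,11,18],[(14646,[]),(11876,[]),(11876,[])],[0,9,2,5,2,2,2,9]),
  (9,[14,17,19,17,19,23,16,23,3,11],[(12714,[0,3,5,3,5,9,2,9]),(293,[]),(3558,[0,8,2,1,4,2,2,4]),(14202,[5,8,2,9,2]),(13012,[])],[0,4,2,9,3,5,3,9]),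
  (1,[7,11],[(14654,[]),(11877,[]),(11861,[])],[1,3,5,3,0,2,4]),
  (12,[18,17,19,17,22,17,17,3,11],[(12714,[4,3,5,3,8,3,3]),(293,[]),(288,[]),(3510,[3,8,2,1,4,3,8]),(293,[]),(14226,[5,5,2,1,4,3,4]),(13017,[]),(13024,[]),(13012,[])],[2,4,3,3,5,3,0]),
  (1,[3,7,29,10,27],[(14662,[]),(11877,[]),(11877,[]),(11852,[])],[8,2,5,3,8,1]),
  (9,[17,17,23,17,18,16,16,16,7,10],[(12898,[3,3,9,3,4,2,2,2]),(9745,[]),(9737,[]),(9732,[]),(11630,[0,0,0,2,4,3]),(293,[]),(288,[]),(13850,[9,2,5,3,8,2,5]),(13017,[]),(13025,[]),(13012,[])],[2,4,2,4,2,9,3,4]),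
  (1,[3,7,18,11,22],[(14670,[]),(11856,[]),(11877,[]),(11853,[])],[2,5,5,9,2,4]),
  (2,[19,16,19,19,23,17],[(13010,[5,2,5,5,9,3]),(160,[]),(9722,[0,5,5,8,2,1,5,2]),(160,[]),(108,[]),(13006,[3,0,5,9,2,5,3,3]),(13012,[])],[2,5,8,2,1,5,3]),
  (6,[18,17,22,16,15,18],[(13010,[4,3,8,2,1,4]),(137,[]),(116,[]),(160,[]),(6206,[1,3,5,2,4,3,0]),(288,[]),(13794,[1,2,4,3,5]),(13017,[]),(13012,[])],[3,5,3,5,5,3,0]),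
  (1,[3,7,26],[(14682,[])],[8,3,4,2,9,0]),
  (9,[17,19,23,17,18,17],[(13010,[3,5,9,3,4,3]),(160,[]),(137,[]),(6206,[0,2,4,3,9,2,1,5,3]),(292,[]),(14146,[0,4,3,5,5,5,3,3]),(13024,[]),(13017,[]),(13025,[]),(13016,[])],[5,3,5,9,2,2]),
  (1,[3,19,7,10,10],[(14690,[]),(13024,[]),(13016,[]),(13025,[])],[5,3,3,5,8,2,1,4]),
  (9,[22,17,17,23,16,19,17],[(13010,[8,3,3,9,2,5,3]),(104,[]),(13006,[9,2,2,2,5,2,8,2]),(14678,[2,5,8,2,2,4,3,5]),(13024,[]),(13016,[]),(13012,[])],[9,2,4,2,5,2,4]),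
  (1,[3,7,10,29,10,17],[(14698,[]),(13024,[]),(13012,[])],[2,5,5,2,4]),
  (11,[14,17,19,19,16,23,14],[(13010,[0,3,5,5,2,9,0]),(120,[]),(160,[]),(136,[]),(3238,[0,2,2,4,2,1,8,2]),(293,[]),(288,[]),(9210,[3,3,8,1,3,9]),(136,[]),(112,[]),(104,[])],[0,2,5,3,4,3,3,5]),
  (1,[3,7,11,33],[(14706,[]),(13016,[]),(13025,[])],[2,5,3,5,5,5,2]),
  (37,[16,16,22,17,19,17,14],[(13010,[2,2,8,3,5,3,0]),(161,[]),(136,[]),(174,[0,2,2,5,5,8,3]),(104,[]),(13006,[1,4,3,3,4,3,5,2]),(13016,[])],[0,2,1,5,3,0,5,2,4]),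
  (37,[14,17,17,19,16,22,15],[(13010,[0,3,3,5,2,8,1]),(120,[]),(112,[]),(108,[]),(104,[]),(8774,[5,8,2,2,2,9,0]),(293,[]),(288,[]),(13498,[4,2,5,8,2,5,5]),(13016,[]),(13025,[])],[0,3,3,5,5,9,2,5]),
  (1,[7,9,11,26,7],[(14718,[]),(13025,[]),(13012,[])],[1,4,2,5,2,2,8]),
  (9,[17,18,16,22,17,19,17,17,7],[(13550,[3,4,2,8,3,5,3,3]),(11618,[0,3,3,5,3,5,5]),(9736,[]),(9744,[]),(9736,[]),(14522,[2,4,3,9]),(13025,[]),(13016,[])],[8,2,4,2,2,8,1]),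
  (37,[16,19,23,16,16,16,19,7],[(13550,[2,5,9,2,2,2,5]),(293,[]),(2182,[0,2,9,3,4,3,5,2,5]),(13282,[9,3,4,2,2,4]),(13025,[]),(13017,[]),(13024,[]),(13012,[])],[0,0,2,1,5,2,5]),
  (1,[3,1,19,11,11],[(14730,[]),(13017,[]),(13025,[]),(13012,[])],[8,1,3,5,5,8]),
  (41,[17,17,22,16,18,16,19,7],[(13550,[3,3,8,2,4,2,5]),(11426,[0,0,2,2,5,2]),(14506,[5,5,2,5,2,5,3]),(13024,[]),(13016,[]),(13012,[])],[5,3,5,2,5,8,2]),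
  (1,[7,10,27,7],[(14738,[]),(13017,[]),(13025,[]),(13012,[])],[5,5,2,4,2,5,2,8]),
  (8,[18,16,15,19,16,16,10],[(13030,[4,2,1,5,2,2]),(292,[]),(4490,[2,5,3,5,3,5,3,4]),(14338,[1,4,3,4,2,1]),(13025,[]),(13017,[]),(13025,[]),(13017,[]),(13012,[])],[0,2,2,8,2,4]),
  (1,[7,17,3,18],[(14746,[]),(13024,[]),(13012,[])],[3,4,3,4,3,9,3]),
  (3,[14,17,19,16,23,14,3,7],[(14374,[0,3,5,2,9,0]),(293,[]),(288,[]),(7622,[0,2,1,4,3,5,8]),(292,[]),(13194,[2,8,3,9,3,4]),(13025,[]),(13016,[]),(13012,[])],[1,3,5,3,5,3,3,5]),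
  (1,[3,23,10,19,7],[(14754,[]),(13017,[]),(13025,[]),(13016,[])],[8,1,3,9,2,5]),
  (8,[14,16,16,16,23,16,23,3,7],[(14374,[0,2,2,2,9,2,9]),(482,[1,1,4,3,4]),(288,[]),(13098,[4,2,2,4,2,4,2]),(13025,[]),(13017,[]),(13024,[]),(13012,[])],[0,3,4,3,0,4,3,3]),
  (1,[3,10,18,7],[(14762,[]),(13025,[])],[2,2,8,3,4,2,2]),
  (12,[16,15,22,16,18,16,16,3,7],[(14374,[2,1,8,2,4,2,2]),(292,[]),(288,[]),(4978,[0,0,5,9,3,3,4,3]),(292,[]),(13666,[0,4,3,4,3,5,8]),(13025,[]),(13017,[]),(13024,[]),(13012,[])],[5,8,3,8]),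
  (1,[3,1,11,19,7],[(14770,[]),(13025,[]),(13017,[])],[1,2,2,2,4,3,3,9]),
  (12,[14,19,19,17,18,17,17,3,7],[(14374,[0,5,5,3,4,3,3]),(7590,[8,2,4,3,9,3,4]),(293,[]),(13738,[0,0,5,2,5,2,2,5]),(13025,[]),(13017,[]),(13025,[]),(13012,[])],[1,4,3,8,2,1,3,5]),
  (41,[23,16,19,23,14,3,7],[(14374,[9,2,5,9,0]),(293,[]),(288,[]),(2954,[4,2,8,2,4,2,1,3]),(292,[]),(288,[]),(14386,[0,2,2,4,3,0,9]),(13024,[]),(13016,[]),(13012,[])],[3,4,2,2,5,2,1,2]),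
  (11,[16,15,19,17,19,16,3,11],[(13246,[2,1,5,3,5,2]),(13650,[0,2,1,4,3,3,5]),(13025,[]),(13016,[]),(13024,[]),(13016,[]),(13012,[]),(14738,[2,4,3,9,2]),(13025,[])],[3,5,9,3,5,3,0]),
  (1,[3,1,28,10,16,3],[(14786,[]),(13025,[]),(13016,[])],[4,3,5,8,2,1,5,2]),
  (11,[14,19,17,14,18,16,18,3,10],[(13046,[0,5,3,0,4,2,4]),(293,[]),(288,[]),(8998,[2,2,2,5,3,5,3,5]),(288,[]),(14082,[4,3,4,3,4,3,9]),(13025,[]),(13016,[]),(13024,[]),(13012,[])],[8,2,4,2,1,5,2]),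
  (9,[19,19,17,19,23,14,16,7,11],[(14654,[5,5,3,5,9,0,2]),(11861,[]),(11876,[]),(11856,[]),(11852,[]),(12730,[0,2,1,5,3,9,0,2]),(293,[]),(13466,[0,5,2,2,9,2,5]),(13025,[])],[8,3,5,8,2,2,4]),
  (12,[14,14,16,19,16,18,7,11],[(14654,[0,0,2,5,2,4]),(11876,[]),(11876,[]),(12982,[5,3,4,2,2,8]),(11876,[]),(11860,[]),(14642,[2,5,2,8,1]),(13016,[]),(13012,[])],[0,0,9,2,4,2,5]),
  (1,[7,27,7,26,3],[(14802,[])],[2,8,3,4,3,3,9]),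
  (37,[14,16,16,19,23,16,18,7,11],[(14654,[0,2,2,5,9,2,4]),(11856,[]),(11876,[]),(11856,[]),(11852,[]),(12042,[8,2,2,8,2,8,2]),(293,[]),(9122,[2,5,3,0,5,2,8]),(264,[]),(249,[]),(5736,[])],[0,3,3,4,3,8,1,2]),
  (1,[3,1,11,19,11],[(14810,[]),(13017,[]),(13025,[])],[0,2,5,2,5,2,5,8]),
  (8,[15,17,19,16,15,7,10],[(13182,[1,3,5,2,1]),(288,[]),(5906,[0,3,5,2,5,2,2,5,3]),(293,[]),(288,[]),(4214,[0,5,9,2,2,4,3,9]),(160,[]),(108,[])],[0,0,3,3,4,3,5]),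
  (1,[3,7,5,17,7,33],[(14818,[]),(13024,[])],[4,3,5,3,0,5,2,2]),
  (2,[15,15,16,16,19,17,19,3,7,11],[(13382,[1,1,2,2,5,3,5]),(288,[]),(9394,[5,5,2,2,4,2,5,5]),(292,[]),(13386,[4,3,3,8,1,2,2]),(13012,[])],[9,2,5,3,3,4,3]),
  (12,[15,16,16,19,17,17,23,3,7,11],[(13382,[1,2,2,5,3,3,9]),(292,[]),(288,[]),(2326,[5,2,5,2,8,3]),(306,[0,5,5,3,8,1]),(161,[]),(120,[])],[2,5,5,3,5,8,2]),
  (1,[3,7,16,19,7],[(14830,[]),(13017,[]),(13024,[]),(13016,[]),(13012,[])],[1,5,2,4,2,4,2,2]),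
  (42,[17,22,16,19,17,19,3,7,11],[(13382,[3,8,2,5,3,5]),(288,[]),(2214,[8,2,4,2,1]),(8778,[0,3,5,3,5,3,3,8]),(120,[]),(161,[])],[1,3,4,2,1,4]),
  (1,[3,1,7,10,26,22],[(14838,[]),(13017,[]),(13025,[]),(13016,[])],[1,2,2,5,8,3,0,5]),
  (12,[17,14,23,16,19,16,15,19,7,9,10,9],[(13062,[3,0,9,2,5,2,1,5]),(293,[]),(288,[]),(12158,[4,3,5,3,0,5]),(11861,[]),(11856,[]),(11853,[]),(14634,[5,2,4,2,2,5,5]),(13025,[]),(13012,[])],[8,3,5,8,1,3]),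
  (100,[],[],[]),
  (1,[3,1,11,22,10],[(14850,[])],[]),
  (1,[14,18,16,19,19,23,16,18],[(14854,[0,4,2,5,5,9,2,4]),(116,[]),(108,[]),(104,[]),(14850,[0,4,3,4,2,5,2,8,3])],[]),
  (1,[14,18,16,19,19,23,16,18],[(14854,[0,4,2,5,5,9,2,4]),(160,[]),(137,[]),(116,[]),(14850,[1,3,8,3,3,9])],[]),
  (9,[17,19,22,15,16,23,17,3],[(194,[3,5,8,1,2,9,3]),(234,[3,3,4,3,3,8,2,2]),(137,[]),(14850,[2,2,2,5,8,2,1,2])],[4,2,9,3,5,3,5,8]),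
  (1,[3,1],[(14866,[]),(104,[]),(137,[]),(14850,[4,2,2,2,8,2,2,2,4])],[]),
  (12,[16,19,17,14,18,16,19,19,3,10,18,33],[(3574,[2,5,3,0,4,2,5,5]),(293,[]),(288,[]),(4558,[1,3,5,3,4,3,4,2]),(161,[]),(120,[]),(14850,[1,2,5,2,2,4,2]),(14856,[])],[2,9,3,4,3,0,4,2]),
  (1,[3,1,18],[(14874,[]),(14850,[0,2,5,8,2,2,2])],[]),
  (40,[17,23,16,18,16,19,19,19,3,11],[(810,[3,9,2,4,2,5,5,5]),(292,[]),(314,[5,9,2,4,2,5,2]),(120,[]),(14850,[9,2,5,2,2,2,8]),(14869,[]),(14861,[]),(14868,[]),(14860,[])],[0,2,2,8,3,5,2]),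
  (1,[11],[(14882,[]),(292,[])],[1,2,9,2,2,8,2]),
  (36,[15,15,16,18,3,10],[(806,[1,1,2,4]),(293,[]),(758,[0,5,2,5,3,3,9,0]),(14886,[3,4,3,3]),(14860,[]),(14869,[]),(14861,[])],[4,3,5,9,2,9,0,2]),
  (1,[3,10],[(14890,[]),(292,[])],[0,2,8,3,8,1,3]),
  (2,[17,19,16,22,16,16,16,7,11],[(470,[3,5,2,8,2,2,2]),(293,[]),(554,[0,3,3,5,3,4,3]),(293,[]),(14894,[8,1,2,2,2,5]),(14861,[]),(14868,[])],[2,2,4,2,1,5,8,3,8]),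
  (1,[10],[(14898,[])],[3,3,9,2,9]),
  (13,[17,19,23,17,19,22,16,7,11],[(470,[3,5,9,3,5,8,2]),(293,[]),(542,[3,5,8,2,1,5,2,9]),(14886,[2,9,3,5,3,5,2,2]),(14869,[]),(14860,[]),(14868,[]),(14861,[])],[0,3,3,4,3,5,9,2]),
  (1,[3,11],[(14906,[])],[5,5,2,2,2,8,2]),
  (12,[15,22,17,18,16,19,16,16,3,7,9,10,10],[(4350,[1,8,3,4,2,5,2,2]),(288,[]),(7034,[0,9,2,5,8,2,1,2]),(292,[]),(14910,[4,2,1,2,4,3,3]),(14876,[]),(14869,[]),(14861,[])],[0,0,0,5,2,2,5,2]),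
  (1,[3,7],[(14914,[])],[1,5,3,0,4,3]),
  (9,[14,19,17,19,17,14,19,3,7,10,10,26],[(3002,[0,5,3,5,3,0,5]),(6670,[0,5,2,2,5,3,3]),(292,[]),(14886,[3,0,2,4,3,5,3,4]),(14856,[]),(14877,[]),(14861,[]),(14876,[]),(14860,[])],[5,2,8,2,4,2,1,5]),
  (1,[7],[(14922,[]),(292,[]),(288,[])],[5,2,4,2,5,3,3]),
  (2,[16,16,22,17,19,23,16,22],[(13010,[2,2,8,3,5,9,2,8]),(234,[4,3,5,5,3,4,3]),(161,[]),(120,[]),(14850,[0,4,2,2,2,4])],[2,2,8,3,3,8,2,8,3]),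
  (1,[3,7,15,3,18],[(14930,[])],[3,0,4,2,1,4,3,4]),
  (2,[15,19,22,16,16,16,19,16,23],[(13010,[1,5,8,2,2,2,5,2,9]),(104,[]),(13006,[4,3,3,5,3,0,4,3]),(14934,[0,3,4,3,0,4,3]),(14869,[])],[2,2,5,2,4,2,5,5]),
  (1,[3],[(14938,[]),(13024,[])],[5,2,5,3,4,3,9]),
  (8,[18,17,18,16,15,17,19,3],[(14942,[4,3,4,2,1,3,5]),(14860,[]),(14868,[]),(14876,[]),(14876,[]),(14868,[]),(14890,[3,9,3,3,5,3,9]),(292,[]),(14902,[8,2,1,5,2]),(14861,[]),(14877,[])],[2,5,2,2,9]),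
  (1,[7,10,13],[(14946,[]),(13017,[]),(13025,[])],[0,5,3,3,5,9,0]),
  (37,[14,18,17,17,19,23,16,18,11],[(13238,[0,4,3,3,5,9,2,4]),(293,[]),(522,[0,4,3,5,5,5,3,0]),(14910,[8,2,2,2,4,3,9]),(14876,[])],[2,2,8,1,3,3,5,3]),
  (1,[3,29,3,10],[(14954,[]),(13016,[])],[0,4,3,3,5,9,2,1]),
  (9,[14,19,23,16,19,16,16,22,3,7,9,11],[(13990,[0,5,9,2,5,2,2,8]),(293,[]),(288,[]),(6122,[0,5,5,2,2,2,8,1]),(14918,[2,9,3,4,3,8]),(14868,[]),(14877,[]),(14877,[]),(14860,[])],[0,2,9,2,4,2,5,2,1]),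
  (1,[7,11,17,3],[(14962,[]),(13025,[])],[0,8,2,8,3,3]),
  (36,[14,19,17,22,16,15,17,19],[(14854,[0,5,3,8,2,1,3,5]),(160,[]),(190,[1,3,0,5,2,5,2,1]),(160,[]),(137,[]),(104,[]),(14850,[0,3,3,5,5,9,2,4]),(14861,[])],[5,2,2,4,3,3]),
  (100,[],[],[]),
  (1,[7],[(14974,[])],[]),
  (1,[14,18,16,19,19,23,16,18],[(14978,[0,4,2,5,5,9,2,4]),(9732,[]),(14974,[0,2,5,2,4,3,4,3,9,3])],[]),
  (1,[14,18,16,19,19,23,16,18],[(14978,[0,4,2,5,5,9,2,4]),(9744,[]),(14974,[8,2,4,3,3,8])],[]),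
  (7,[16,19,16,23,17,19,17,22,3,10],[(486,[2,5,2,9,3,5,3,8]),(288,[]),(11218,[2,5,9,3,3,4,3,8]),(9744,[]),(9736,[]),(14974,[0,8,2,4,2,2,8]),(14984,[])],[1,3,5,3,0,5,3]),
  (1,[7,17,27],[(14990,[]),(56,[]),(89,[]),(56,[])],[0,2,2,5,2,1,5,3,3]),
  (8,[17,17,19,16,18],[(102,[3,3,5,2,4]),(17,[]),(13,[]),(16,[]),(12,[]),(8,[]),(8,[]),(9726,[2,2,2,5,3,3,5,8]),(9737,[]),(14974,[0,3,4,2,1,3,4,3]),(14985,[])],[2,2,4,3,3,9]),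
  (1,[3,7,17,3],[(14998,[]),(108,[]),(160,[])],[3,8,3,0,4]),
  (8,[16,18,16,16,23,14,16],[(102,[2,4,2,2,9,0,2]),(16,[]),(9,[]),(12,[]),(17,[]),(17,[]),(13,[]),(9,[]),(9726,[2,5,8,3,4,2,2]),(9737,[]),(14974,[0,2,5,8,3,3,4,2]),(14985,[])],[0,3,3,9,3,3]),
  (1,[7,16,27],[(15006,[]),(160,[]),(137,[])],[0,0,2,4,3,5,2,1,5]),
  (9,[14,19,16,19,22,11,11],[(202,[0,5,2,5,8]),(160,[]),(194,[1,1,5,2,4,3]),(112,[]),(104,[]),(15010,[2,8,2,2,9,3]),(14984,[])],[3,3,8,1,3,3]),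
  (1,[7,9],[(15014,[]),(104,[]),(161,[]),(137,[])],[0,2,2,2,8,1,2,2,2]),
  (8,[16,22,16,19,22,16,16,3,7,11],[(326,[2,8,2,5,8,2,2]),(288,[]),(1130,[2,2,2,5,3,9,2]),(116,[]),(108,[]),(15018,[1,3,5,5,5,2,9])],[0,0,3,3,5,5,5,3]),
  (1,[3,1,19,3],[(15022,[]),(120,[]),(116,[]),(112,[]),(104,[])],[8,2,2,2,9,0]),
  (12,[14,17,17,22,17,19,3,7,11,13],[(310,[0,3,3,8,3,5]),(293,[]),(8302,[0,2,1,4,2,9,2,2]),(161,[]),(116,[]),(15002,[2,4,2,4,3,9,2]),(14984,[]),(14980,[])],[2,2,2,5,8,3]),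
  (1,[3,7,10,26,33,11],[(15030,[]),(112,[]),(160,[]),(15002,[8,2,2,5,9,2,2,4])],[]),
  (9,[14,18,16,16,19,16,22,3,7,10,10],[(15018,[0,4,2,2,5,2,8]),(15022,[1,8,2,2,5,2,9]),(136,[]),(108,[]),(161,[]),(15026,[8,2,5,3,8,1]),(15033,[]),(14980,[]),(15032,[]),(14984,[])],[8,2,1,5,8,2,2,2]),
  (1,[7,17,3,10,19],[(15038,[]),(161,[]),(112,[]),(104,[])],[4,3,8,2,1,3,5,2]),
  (13,[16,22,16,15,19,17,19,22,3,7,33,10],[(6758,[2,8,2,1,5,3,5,8]),(292,[]),(288,[]),(6490,[0,3,9,3,5,2,9,3]),(160,[]),(137,[]),(116,[]),(15010,[0,5,3,0,2,4,3,4]),(14980,[]),(15033,[]),(14984,[]),(14980,[])],[2,2,5,2,1,3]),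
  (1,[3,7,17,10],[(15046,[]),(116,[]),(104,[]),(160,[])],[5,2,2,5,2,5,8]),
  (6,[14,14,16,19,17,18,16,16],[(246,[0,0,2,5,3,4,2,2]),(13,[]),(17,[]),(17,[]),(13,[]),(17,[]),(13,[]),(17,[]),(74,[0,3,5,9,0,2,4]),(53,[]),(40,[]),(88,[]),(14994,[3,0,4,2,4]),(15032,[]),(14980,[]),(15033,[]),(14984,[])],[0,2,1,4,3,0,4,3]),
  (1,[3,7,17,3,11],[(15054,[]),(257,[]),(248,[])],[2,5,5,8,2,5,5]),
  (6,[19,17,23,16,23,14],[(246,[5,3,9,2,9,0]),(13,[]),(17,[]),(17,[]),(13,[]),(17,[]),(13,[]),(17,[]),(74,[0,4,3,4,2,9,3,4]),(52,[]),(41,[]),(89,[]),(52,[]),(14994,[2,4,3,3,5,3,0]),(15033,[]),(14984,[])],[2,4,3,3,5,2,8,1]),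
  (1,[7,16,27,11],[(15062,[]),(248,[])],[3,4,3,0,5,2]),
  (8,[15,15,19,17,17,18,16],[(246,[1,1,5,3,3,4,2]),(17,[]),(12,[]),(16,[]),(16,[]),(16,[]),(13,[]),(242,[0,2,8,3,4,3,9,2]),(249,[]),(15058,[1,2,5,2,1,4,2,9]),(15033,[]),(14980,[]),(15032,[])],[0,3,5,2,2,5,9,3]),
  (1,[3,29,3],[(15070,[]),(252,[]),(264,[]),(249,[])],[0,0,5,2,2,2]),
  (8,[22,15,17,19,17,18,17,14],[(246,[8,1,3,5,3,4,3,0]),(16,[]),(9,[]),(12,[]),(16,[]),(13,[]),(13,[]),(16,[]),(130,[5,8,2,5,3,3,5,9]),(108,[]),(161,[]),(108,[]),(15018,[2,9,3,5,2,2,8]),(14980,[]),(15032,[]),(15032,[])],[0,2,1,4,2,5,2,1]),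
  (1,[3,1,7,10,15,17],[(15078,[]),(257,[]),(264,[])],[5,3,5,3,4,3,8,2]),
  (9,[15,16,16,18,16,18,16,23],[(246,[1,2,2,4,2,4,2,9]),(17,[]),(17,[]),(17,[]),(8,[]),(242,[0,8,2,2,4,2,5,8]),(257,[]),(15066,[0,2,5,2,5,8,2]),(15032,[]),(15032,[]),(14985,[])],[0,3,5,3,3,8]),
  (1,[7,10,17,17],[(15086,[]),(264,[]),(248,[]),(5737,[]),(248,[])],[0,2,2,5,2,5,9]),
  (9,[16,15,17,23,17,18,17,23],[(246,[2,1,3,9,3,4,3,9]),(17,[]),(17,[]),(17,[]),(8,[]),(242,[0,2,9,3,5,3,5,3]),(15058,[8,2,2,4,3,9,2]),(15033,[]),(14985,[]),(15033,[])],[3,9,2,5,8,1,3])]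
theorem hD27 : allD2 lk B KW SW F A RL [] D27 3661 = true := by decide +kernel
end
end CA.ThM
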