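import Cfsg.Agent.Lib.Spor.ThF

/-! Derivations of the double coset table of the Thompson group. -/

set_option autoImplicit false
set_option maxRecDepth 100000
set_option linter.all false
namespace CA.ThM
open CA.CNet CA.CWord CA.CLevel CA.CSimple CA.CPoint CA.CLow CA.CTodd CA.TCos
noncomputable section

def D28 : List (ℕ × Word × List (ℕ × Word) × Word) := [(1,[3,7,9],[(15094,[]),(265,[]),(256,[]),(252,[]),(248,[])],[0,8,2,2,2,9]),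
  (9,[17,19,17,23,17,18,16,19,3],[(11894,[3,5,3,9,3,4,2,5]),(11861,[]),(11856,[]),(11876,[]),(11866,[0,2,2,2,5,8,2,8]),(48,[]),(89,[]),(49,[]),(36,[]),(14994,[5,8,2,1,5,2,4,3]),(15033,[]),(14984,[])],[0,0,3,4,3,5,3,9]),
  (1,[7,10,15],[(15102,[]),(264,[]),(257,[])],[4,3,4,2,2,2,5,3]),
  (2,[16,18,16,15,17,23],[(286,[2,4,2,1,3,9]),(9,[]),(12,[]),(16,[]),(16,[]),(12,[]),(17,[]),(12,[]),(8,[]),(242,[5,5,3,5,8,2,2,4]),(257,[]),(248,[]),(15066,[0,4,2,1,4,2,4,2])],[2,5,2,5,2,5,9]),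
  (1,[7,26,11,26],[(15110,[]),(292,[])],[3,4,3,0,5,2]),
  (3,[17,22,16,15,19,16,18,16],[(286,[3,8,2,1,5,2,4,2]),(9,[]),(12,[]),(16,[]),(16,[]),(12,[]),(17,[]),(12,[]),(8,[]),(242,[3,9,2,9,2]),(257,[]),(249,[]),(15058,[8,3,5,2,8,2,4,2]),(15033,[]),(14980,[]),(15032,[])],[4,3,8,2,1,4,3,0]),
  (1,[3,1,7,15],[(15118,[]),(292,[])],[0,0,9,3,4,3,3]),
  (8,[23,16,23],[(286,[9,2,9]),(12,[]),(16,[]),(13,[]),(13,[]),(17,[]),(17,[]),(242,[0,3,0,4,3,5,2]),(249,[]),(15058,[2,1,5,8,3,3,4,3]),(15033,[]),(15033,[])],[0,4,2,8,3,5,8]),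
  (1,[3,1,7,11,23,11],[(15126,[]),(293,[])],[1,3,5,8,3,0,9]),
  (8,[15,15,16,18,16,16,18,17],[(286,[1,1,2,4,2,2,4,3]),(17,[]),(13,[]),(16,[]),(8,[]),(13,[]),(17,[]),(9,[]),(282,[1,5,2,5,2]),(292,[]),(15114,[1,3,0,5,3,5,3,8]),(14984,[]),(14980,[])],[0,3,3,9,2,5,8,1]),
  (1,[3,11,19],[(15134,[]),(292,[]),(288,[])],[8,3,9,3,3]),
  (8,[22,16,19,19,23,17],[(286,[8,2,5,5,9,3]),(17,[]),(12,[]),(17,[]),(12,[]),(9,[]),(12,[]),(16,[]),(242,[2,8,1,2,2,2,5,8]),(249,[]),(15066,[2,1,4,2,5,2,8]),(14984,[]),(15032,[])],[0,2,9,0,3,3,5]),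
  (1,[3,19,10,13],[(15142,[]),(293,[]),(288,[])],[1,1,2,4,2,2,4]),
  (8,[15,15,19,16,18,16,18],[(286,[1,1,5,2,4,2,4]),(17,[]),(12,[]),(12,[]),(16,[]),(9,[]),(12,[]),(8,[]),(242,[5,2,8,2,8,1]),(249,[]),(15066,[0,5,3,4,3,3,5,3]),(14980,[]),(15033,[]),(14980,[])],[0,4,2,5,3,3]),
  (1,[3,7,9,11],[(15150,[]),(293,[])],[0,5,3,3,4,2,1,8]),
  (8,[16,16,22,16,18,17,22],[(286,[2,2,8,2,4,3,8]),(12,[]),(16,[]),(16,[]),(9,[]),(12,[]),(8,[]),(242,[5,8,3,4,3,3,4]),(257,[]),(15058,[1,3,3,5,2,8,3]),(15033,[]),(15033,[]),(14980,[])],[0,5,2,2,4]),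
  (1,[3,29,10,17,18],[(15158,[]),(293,[]),(288,[])],[3,0,5,3,5,8,2,9]),
  (8,[15,17,19,17,17,19,16,23],[(286,[1,3,5,3,3,5,2,9]),(16,[]),(12,[]),(12,[]),(12,[]),(17,[]),(12,[]),(282,[2,9,0,2,4]),(15122,[0,3,4,3,9,3,5,2]),(14984,[])],[0,4,3,5,9,2,9,0]),
  (1,[3,7,16,11],[(15166,[])],[0,2,5,2,8,2,4,2]),
  (9,[14,16,23,17,22,17,22],[(286,[0,2,9,3,8,3,8]),(17,[]),(12,[]),(8,[]),(13,[]),(17,[]),(8,[]),(282,[3,0,4,2,4]),(292,[]),(15114,[2,5,8,3,5,3,0,4]),(15033,[]),(14984,[]),(14980,[])],[1,3,3,4,2,5,2,1]),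
  (1,[3,7,11,9,16],[(15174,[]),(293,[]),(288,[])],[3,3,5,3,9,3,4,3]),
  (9,[19,16,22,15,16,19],[(286,[5,2,8,1,2,5]),(12,[]),(17,[]),(13,[]),(17,[]),(12,[]),(12,[]),(17,[]),(13,[]),(8,[]),(282,[2,2,2,4,3,0,2,5]),(15122,[2,8,2,4,3,9,3,5])],[0,3,8,2,4,3,3,8]),
  (1,[3,1,23],[(15182,[]),(292,[])],[0,2,2,2,5,8,2,2,2]),
  (9,[15,16,18,16,19,16,19,23],[(286,[1,2,4,2,5,2,5,9]),(12,[]),(17,[]),(17,[]),(12,[]),(12,[]),(12,[]),(16,[]),(8,[]),(242,[2,5,3,8,2,2,4]),(256,[]),(249,[]),(15058,[0,2,2,5,3,0,2,5]),(15032,[]),(14984,[]),(15032,[])],[1,2,2,2,5,3,8,1]),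
  (1,[3,19],[(15190,[]),(292,[])],[0,2,2,4,3,5,2,1,4,2]),
  (9,[14,23,14,16,19],[(286,[0,9,0,2,5]),(12,[]),(17,[]),(17,[]),(12,[]),(16,[]),(12,[]),(9,[]),(9,[]),(9726,[0,4,3,4,2,2,2,5]),(14974,[1,3,4,2,5,3,9]),(14980,[]),(15032,[]),(14985,[])],[2,2,2,5,9,2,4]),
  (1,[3,1,7,9,11,13],[(15198,[]),(288,[])],[1,5,2]),
  (11,[22,15,22,16,18,16,18],[(286,[8,1,8,2,4,2,4]),(16,[]),(12,[]),(17,[]),(12,[]),(16,[]),(282,[4,2,8,2,4]),(15122,[2,1,2,5,2,5,2]),(15033,[]),(14985,[]),(15033,[])],[0,2,1,4,3,5,9]),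
  (1,[3,7,10,10],[(15206,[]),(288,[])],[2,8,3,3,9,2,5]),
  (11,[14,17,17,18,17,17,19,22],[(286,[0,3,3,4,3,3,5,8]),(16,[]),(12,[]),(12,[]),(17,[]),(12,[]),(17,[]),(282,[3,5,8,2]),(292,[]),(15122,[0,5,5,8,2,4,2,2,8])],[2,9,3,3,5,3,4]),
  (1,[3,1],[(15214,[]),(292,[])],[5,9,2,2,2,9,2]),
  (11,[14,16,19,22,16,19,23,17],[(286,[0,2,5,8,2,5,9,3]),(17,[]),(12,[]),(12,[]),(12,[]),(17,[]),(17,[]),(130,[3,3,4,3,0,2,5]),(120,[]),(161,[]),(15018,[0,2,1,5,3,9,3,4]),(15032,[]),(15032,[])],[0,2,4,2,5,5,5,3]),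
  (1,[3,7,5,11,17],[(15222,[]),(292,[])],[0,2,5,3,9,2,8,2]),
  (12,[14,17,18,16,15,18,17,14],[(286,[0,3,4,2,1,4,3,0]),(12,[]),(17,[]),(17,[]),(12,[]),(12,[]),(12,[]),(16,[]),(8,[]),(242,[4,3,5,3,5,3,9]),(249,[]),(15066,[0,2,4,2,8,2,4,3,0]),(15032,[]),(14985,[]),(15033,[]),(14980,[])],[3,0,5,2,5,3,3]),
  (1,[3,11,18,33],[(15230,[]),(288,[])],[3,5,8,3,5,3,0]),
  (12,[16,16,19,19,16,19,16,19,22],[(286,[2,2,5,5,2,5,2,5,8]),(17,[]),(12,[]),(9,[]),(12,[]),(16,[]),(282,[5,3,3,8,3,5]),(292,[]),(15114,[2,1,3,4,2,9,3]),(14984,[]),(14980,[])],[0,0,2,2,5,2,5,3]),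
  (1,[3,1,11,19,11],[(15238,[])],[0,0,9,3,8,3]),
  (8,[18,16,15,18,17,17,19,17,3],[(446,[4,2,1,4,3,3,5,3]),(422,[2,8,2,4,2,1,2]),(293,[]),(15242,[0,2,9,3,3,5,3]),(14980,[]),(15032,[]),(15032,[]),(14980,[])],[3,0,4,2,9,0,3]),
  (1,[3,7,11,11],[(15246,[])],[3,5,8,3,4,3,5,3]),
  (10,[16,18,17,19,16,22,16,3],[(446,[2,4,3,5,2,8,2]),(293,[]),(288,[]),(2870,[4,3,5,3,5,9,3]),(292,[]),(288,[]),(15210,[0,3,0,5,3,4,3,9]),(14984,[]),(15032,[]),(14980,[])],[0,2,2,4,3,9,2]),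
  (1,[3,1,23,7],[(15254,[]),(293,[]),(288,[])],[2,9,2,2,4,3,5,2]),
  (9,[17,18,17,19,23,14,7],[(418,[3,4,3,5,9,0]),(490,[4,3,3,8,2,1,3]),(45,[]),(88,[]),(53,[]),(14994,[4,3,5,3,0,2,5]),(15032,[]),(14980,[]),(15033,[])],[0,2,2,5,5,3,3,9]),
  (1,[3,7,17],[(15262,[]),(288,[])],[4,2,2,4,2,5,9]),
  (3,[14,19,19,17,19,22,16,16,10],[(386,[0,5,5,3,5,8,2,2]),(256,[]),(248,[]),(270,[3,5,9,3,4,3,9]),(161,[]),(104,[]),(15018,[1,8,2,2,4,2,2,9])],[1,8,3,5,3,5,3,5]),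
  (1,[7,16,10,26],[(15270,[]),(292,[])],[0,8,2,4,3,3,5,3]),
  (3,[16,19,23,16,18,17,10],[(386,[2,5,9,2,4,3]),(249,[]),(278,[0,2,5,8,3,0,5,2,4]),(256,[]),(15066,[4,2,2,2,5,3,5,3]),(15033,[]),(14980,[]),(15032,[])],[2,1,4,3,0,5,3]),
  (1,[3,1,7,10,19],[(15278,[])],[3,5,3,4,3,0]),
  (3,[14,19,17,18,16,16,16,19,10],[(386,[0,5,3,4,2,2,2,5]),(257,[]),(249,[]),(398,[1,3,4,3,0,5,3,4]),(15122,[8,3,4,3,0,5,2,5]),(15033,[]),(14980,[]),(15032,[])],[8,2,5,2,5,3,9]),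
  (1,[7,10,13],[(15286,[]),(293,[])],[3,5,5,5,3,4,3]),
  (6,[22,16,16,19,16,22,10],[(386,[8,2,2,5,2,8]),(256,[]),(249,[]),(398,[0,2,5,5,3,5,5]),(293,[]),(288,[]),(15202,[0,5,2,2,4,2,5]),(15032,[]),(14985,[])],[3,8,3,0,9]),
  (1,[7,17,17,7],[(15294,[]),(293,[])],[0,2,8,3,4,2,9,3]),
  (11,[14,17,14,16,18,16,19,3,1],[(298,[0,3,0,2,4,2,5]),(104,[]),(137,[]),(161,[]),(108,[]),(614,[2,2,4,3,0,2]),(293,[]),(288,[]),(15194,[0,4,2,2,9,3,3,4]),(14980,[]),(15033,[]),(14980,[])],[3,3,4,3,8,3,3]),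
  (1,[7,10,17,3,19],[(15302,[]),(292,[]),(288,[])],[8,1,2,2,4,2,8,1]),
  (14,[14,23,16,19,16,23,14,17,3,1],[(298,[0,9,2,5,2,9,0,3]),(120,[]),(15010,[3,4,3,9,2,4,3,9])],[0,3,0,9,2,5,3,3]),
  (1,[7,10,14,11],[(15310,[])],[0,2,8,3,5,9,3,5]),
  (10,[18,16,16,16,22,17,23,3,10],[(806,[4,2,2,2,8,3,9]),(292,[]),(288,[]),(6842,[0,0,2,8,2,4,2,2]),(292,[]),(15298,[4,3,9,3,4,2,4]),(14984,[]),(15032,[])],[0,4,3,4,3,3,5,5,5]),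
  (1,[3,1,19,11,14],[(15318,[])],[0,2,5,8,2,1,3]),
  (2,[15,16,18,17,18,17,19,7,9],[(426,[1,2,4,3,4,3,5]),(293,[]),(410,[3,5,5,5,2,9]),(257,[]),(265,[]),(257,[]),(248,[]),(15090,[3,4,3,8,1,2])],[5,3,8,2,1,3,9,2]),
  (1,[7,10,9],[(15326,[])],[1,2,2,5,8]),
  (8,[16,15,18,17,22,17,7,9],[(426,[2,1,4,3,8,3]),(298,[0,9,2,5,2,5,9,3]),(112,[]),(161,[]),(104,[]),(15042,[0,5,8,3,3,9,2,8]),(15033,[]),(14985,[])],[2,2,8,3,0]),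
  (1,[3,1,7,11,23],[(15334,[]),(292,[]),(288,[])],[2,5,3,4,3,0,4]),
  (6,[14,18,16,16,19,16,23,7,10],[(522,[0,4,2,2,5,2,9]),(906,[9,3,8,3,5]),(264,[]),(256,[]),(249,[]),(15058,[0,4,2,8,2,2,2,4]),(14985,[])],[3,5,9,3,5,3,0,4]),
  (1,[7,9,11,14],[(15342,[]),(292,[])],[5,3,3,9,2,4,2]),
  (10,[14,17,19,17,18,17,18,16,7,10],[(522,[0,3,5,3,4,3,4,2]),(292,[]),(5122,[0,2,2,4,2,4,3,3]),(104,[]),(136,[]),(15042,[0,0,3,4,3,5,2]),(15032,[]),(14984,[])],[1,2,9,3,5,2,2]),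
  (1,[7,11,13],[(15350,[])],[5,2,9,3,5,3,4]),
  (13,[19,16,16,19,19,16,19,7,10],[(522,[5,2,2,5,5,2,5]),(802,[3,3,4,2,2,9]),(15314,[1,1,2,2,2,4,3,3]),(14985,[])],[5,3,5,5,2]),
  (1,[7,9,10,14],[(15358,[])],[8,2,2,4,2,4,2]),
  (36,[19,17,19,17,14,19,7,10],[(522,[5,3,5,3,0,5]),(9858,[2,5,2,2,5,3,4]),(14974,[3,4,2,5,3,9])],[1,2,5,2,5,8,2]),
  (1,[7,11,9],[(15366,[])],[1,3,8,2,5,3,3]),
  (36,[22,16,16,16,19,16,19,11,11],[(9850,[8,2,2,2,5,2,5]),(9737,[]),(10070,[0,5,3,4,3,5,8,2]),(292,[]),(15362,[9,2,5,5,5,2,2])],[2,1,4,3,0,5,2]),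
  (1,[7,11,26,26],[(15374,[]),(293,[])],[1,2,5,3,4,2]),
  (36,[14,17,19,17,23,17,17,22,11,13],[(9842,[0,3,5,3,9,3,3,8]),(9736,[]),(10062,[3,3,9,2,2,5,2,2]),(292,[]),(15370,[2,5,2,4,2,9,0])],[2,2,9,2,2,5]),
  (1,[7,11,14,11],[(15382,[]),(292,[])],[2,2,2,9,2]),
  (2,[14,17,22,16,15,17,10,10],[(462,[0,3,8,2,1,3]),(293,[]),(970,[2,4,2,2,5,2,1,5]),(257,[]),(265,[]),(257,[]),(15090,[5,8,3,4,3,9])],[3,3,4,3,0,2,5,8]),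
  (1,[7,11,17,27],[(15390,[]),(293,[])],[0,9,2,4,3,5,3,0]),
  (3,[14,14,19,23,16,16,19,16,10,10],[(462,[0,0,5,9,2,2,5,2]),(293,[]),(970,[3,3,4,2,5,2,5,3]),(248,[]),(15066,[5,2,1,2,5,3,3,9])],[2,8,2,1,4,2,2]),
  (1,[7,17,27,7],[(15398,[]),(293,[])],[0,2,1,4,2,2,5,2]),
  (12,[14,14,23,16,16,18,16,10,10],[(462,[0,0,9,2,2,4,2]),(293,[]),(970,[2,4,3,9,3,5,3,3]),(256,[]),(5736,[]),(265,[]),(15098,[2,8,1,3,5,3]),(14980,[])],[1,2,2,4,2,1,4,3]),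
  (1,[3],[(15406,[]),(293,[]),(288,[])],[8,3,5,5,8,2]),
  (3,[18,16,22,17,17,19,10,13],[(9834,[4,2,8,3,3,5]),(9736,[]),(9806,[8,2,9,2,8]),(256,[]),(249,[]),(15058,[4,3,9,0,2])],[2,1,3,5,9,3,3]),
  (1,[7,10,10],[(15414,[]),(292,[])],[0,5,2,5,2,5,8,3]),
  (12,[14,16,19,16,22,17,19,19,3,1,11],[(582,[0,2,5,2,8,3,5,5]),(292,[]),(394,[2,9,2,4,2,5,2,5]),(5737,[]),(256,[]),(252,[]),(15074,[0,0,2,5,5,5,3,3]),(14980,[]),(15032,[]),(15032,[]),(14980,[])],[0,3,9,0,3,4]),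
  (1,[3,29,7,26],[(15422,[]),(293,[])],[3,4,2,8,3,4,3,5]),
  (39,[14,23,14,16,16,19,16,19,3,1,11],[(582,[0,9,0,2,2,5,2,5]),(292,[]),(1018,[1,5,2,2,5,3,9,3]),(249,[]),(15058,[1,3,9,2,4,3,3,9])],[0,9,3,5,8,2,4,3]),
  (1,[7,11,15],[(15430,[]),(292,[])],[1,3,8,2,5,3,3]),
  (4,[15,16,16,18,17,19,16,22,3,1,10],[(15314,[1,2,2,4,3,5,2,8]),(14990,[4,3,9,3,4,2,2,4]),(89,[]),(37,[]),(56,[]),(37,[]),(14994,[0,5,8,3,5,9,2,2])],[0,4,2,8,1,3,9]),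
  (1,[7,9,10,15],[(15438,[]),(292,[])],[0,3,3,5,3,5,8]),
  (6,[15,18,17,18,17,17,19,23,3,1,10],[(15314,[1,4,3,4,3,3,5,9]),(15342,[0,4,2,1,3,5,3,3]),(15306,[1,2,2,5,2,5,8,3]),(14980,[]),(15032,[]),(14980,[])],[0,4,3,0,4,2,4,2]),
  (1,[7,16,3,19],[(15446,[]),(293,[]),(288,[])],[4,2,8,2,4,3,9,3]),
  (6,[18,16,18,16,23,17,19,17,3,1,10],[(15314,[4,2,4,2,9,3,5,3]),(14990,[2,9,2,2,5,2,5,2]),(49,[]),(56,[]),(49,[]),(14994,[8,2,5,2,4,3,0]),(14985,[]),(15033,[]),(14980,[])],[0,8,3,0,4,2,8]),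
  (1,[3,7,9,16,11],[(15454,[]),(293,[]),(288,[])],[2,2,2,5,9,3]),
  (36,[14,16,19,16,19,16,16,19,3,1,10],[(15314,[0,2,5,2,5,2,2,5]),(15366,[1,3,8,2,2,2,9]),(15362,[3,0,5,3,8])],[5,2,4,2,5,9,3]),
  (1,[7,11],[(15462,[]),(292,[])],[2,2,5,2,1,5,3,8]),
  (41,[14,14,23,16,16,16,18,3,1,10],[(15314,[0,0,9,2,2,2,4]),(15438,[1,3,5,2,8,2,5,3]),(292,[]),(15354,[0,0,3,5,8]),(15033,[]),(14980,[]),(15032,[])],[0,4,3,8,3,3,9,3]),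
  (1,[3,1,7,11,19],[(15470,[]),(292,[])],[0,2,2,2,5,8,2,1]),
  (11,[17,17,18,17,19,17,19,3,7,5],[(378,[3,3,4,3,5,3,5]),(248,[]),(5737,[]),(264,[]),(248,[]),(398,[8,3,4,2,2,4,2]),(15418,[1,2,2,8,1,2,2,2]),(15032,[]),(14985,[])],[2,2,2,9,2,2,2,4]),
  (1,[3,29,3,10,19],[(15478,[]),(293,[])],[3,5,3,5,3,4,3]),
  (14,[14,19,17,17,22,16,16,23,3,7,5],[(378,[0,5,3,3,8,2,2,9]),(252,[]),(5736,[]),(265,[]),(15098,[0,3,5,2,4])],[0,3,8,3,0,4]),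
  (1,[3,7,10,9],[(15486,[])],[0,4,3,4,3,5,8,2]),
  (5,[14,16,22,15,16,16,22,3,7,10],[(10138,[0,2,8,1,2,2,8]),(9745,[]),(10222,[0,3,0,4,2,9,3,4]),(15402,[1,5,3,9,3,4,2,9]),(14985,[]),(15033,[]),(15033,[])],[4,3,5,8,3,4,2]),
  (1,[3,29,10,9,10],[(15494,[])],[0,2,4,2,5,8,1,3]),
  (9,[16,23,17,19,16,23,3,7,10],[(10138,[2,9,3,5,2,9]),(9736,[]),(10054,[0,3,4,2,5,2,5,3,3]),(292,[]),(15138,[2,1,3,4,2,5,8,2]),(15032,[]),(14984,[]),(15032,[])],[9,2,2,8]),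
  (1,[3,10,19,10],[(15502,[]),(293,[])],[1,3,5,3,3,5,2,1]),
  (36,[14,14,17,18,16,19,16,22,17,3,7,10],[(10138,[0,0,3,4,2,5,2,8,3]),(9736,[]),(9745,[]),(9736,[]),(11046,[0,4,2,1,3,4,2,1]),(292,[]),(288,[]),(15162,[0,2,2,8,2,2,5]),(15032,[]),(14980,[]),(15033,[])],[3,8,1,2,4,2,1,4]),
  (1,[3,11,13,19,10],[(15510,[])],[8,3,4,2,5,3]),
  (9,[14,19,16,19,16,16,18,17,3,11,11],[(798,[0,5,2,5,2,2,4,3]),(2946,[5,9,2,2,8,3,5,3]),(293,[]),(15154,[1,8,2,2,4,2,9]),(15032,[]),(15032,[]),(14985,[])],[1,3,5,2,2]),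
  (1,[3,7,15,11],[(15518,[]),(293,[]),(288,[])],[0,3,5,3,4,2,2,4]),
  (12,[16,15,22,16,3,11,11],[(798,[2,1,8,2]),(293,[]),(1482,[0,5,2,5,5,9,2]),(15314,[1,2,4,2,5,8,2,8]),(14984,[]),(15032,[]),(14980,[])],[1,8,2,2,5,2,5,9]),
  (1,[3,1,7,10,19,27],[(15526,[])],[2,2,9,0]),
  (8,[14,14,17,19,16,16,19,22,3,11,13],[(758,[0,0,3,5,2,2,5,8]),(293,[]),(288,[]),(8814,[1,8,2,2,5,3,5]),(292,[]),(288,[]),(15522,[3,4,3,3,8,3,8]),(15032,[]),(14980,[])],[0,3,3,5,3,0,5,2]),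
  (1,[3,1,7,11,19,27],[(15534,[]),(288,[])],[1,2,4,3,4,3,3]),
  (12,[15,17,19,16,19,17,3,11,13],[(758,[1,3,5,2,5,3]),(293,[]),(4678,[0,0,2,5,5,3]),(293,[]),(288,[]),(15458,[0,3,8,1,3,5,2,4,2]),(15033,[]),(14984,[])],[0,0,4,3]),
  (1,[3,7,5,10,27],[(15542,[])],[1,4,2,4,3,8]),
  (2,[14,18,17,18,17,23,7,9,11],[(542,[0,4,3,4,3,9]),(1458,[2,9,3,4,3,0,4,3]),(292,[]),(288,[]),(15138,[5,3,4,2,1,2]),(15033,[]),(14984,[]),(14980,[])],[2,9,3,3,5,8,3]),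
  (1,[3,1,7,9,10],[(15550,[]),(293,[])],[3,0,2,8,2,2,2]),
  (3,[14,17,22,16,16,7,9,11],[(542,[0,3,8,2,2]),(292,[]),(1098,[2,2,9,3,3,8,2,4]),(292,[]),(15194,[5,2,4,3,3,9]),(15033,[]),(14984,[]),(15032,[]),(14984,[])],[0,5,5,2,2,4,3,4]),
  (1,[3,10,13],[(15558,[]),(293,[]),(288,[])],[3,4,2,4,2,5,3,8]),
  (8,[14,17,17,23,14,17,18,7,9,10],[(15282,[0,3,3,9,0,3,4]),(15078,[5,3,8,3,4]),(256,[]),(248,[]),(15074,[0,2,2,2,4,2,2]),(14984,[]),(15032,[])],[5,2,2,4,2,5,5,2]),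
  (1,[7,10,16,3,19],[(15566,[])],[5,8,2,1,8,2]),
  (6,[15,16,16,19,17,23,17,17,7,11,13],[(466,[1,2,2,5,3,9,3,3]),(293,[]),(830,[0,2,2,2,5,3,3]),(292,[]),(15442,[1,2,2,4,2,1,5,3]),(14984,[])],[1,1,3,3,4,2,2,4])]
theorem hD28 : allD2 lk B KW SW F A RL [] D28 3774 = true := by decide +kernel
def D29 : List (ℕ × Word × List (ℕ × Word) × Word) := [(1,[7,10,16,16],[(15574,[])],[4,2,1,5,2,4,2]),
  (6,[16,18,16,18,17,17,7,11,13],[(466,[2,4,2,4,3,3]),(288,[]),(758,[0,5,3,3,4,3,0,4]),(15578,[2,5,2,1,5,8,3,4]),(14984,[])],[2,1,4,3,5,3,8]),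
  (1,[7,9,10],[(15582,[])],[0,0,2,4,3,5,2,1,5]),
  (6,[16,15,19,16,23,16,16,19,7,11,13],[(466,[2,1,5,2,9,2,2,5]),(293,[]),(882,[2,2,8,3,0,4,2]),(15354,[1,1,2,2,5,2,5]),(14984,[])],[5,2,8,1,2]),
  (1,[7,9,11,11],[(15590,[])],[2,1,8,3,5,3,0,5]),
  (9,[14,14,17,18,16,16,19,16,7,11,13],[(466,[0,0,3,4,2,2,5,2]),(293,[]),(394,[1,2,2,5,5,3,3]),(5737,[]),(257,[]),(249,[]),(15106,[1,3,3,4,2,1,5,2]),(15032,[]),(14980,[]),(15033,[]),(14984,[])],[5,5,8,2,5,9]),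
  (1,[3,10],[(15598,[]),(293,[])],[5,3,4,3,5,2,9]),
  (12,[16,19,17,14,19,16,22,7,10,9],[(558,[2,5,3,0,5,2,8]),(288,[]),(422,[2,1,5,2,2,5,3,4]),(288,[]),(15242,[1,2,2,5,2,5,9,3])],[1,2,2,4,2,5,2,8]),
  (1,[3,11,19,11],[(15606,[]),(293,[])],[9,2,8,2,1,5]),
  (11,[14,14,17,18,17,19,16,7,10,10],[(518,[0,0,3,4,3,5,2]),(292,[]),(288,[]),(1286,[1,5,2,9,3,4,3]),(160,[]),(136,[]),(15018,[2,1,4,3,9,3,3,9]),(14980,[]),(15032,[]),(14985,[])],[0,5,2,1,5,2,4,2]),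
  (1,[3,7,11,9,15],[(15614,[])],[4,2,8,1,3,5,3,4]),
  (8,[14,14,18,16,19,19,16,7,10,13],[(526,[0,0,4,2,5,5,2]),(1278,[0,2,1,4,3,5,9,0]),(120,[]),(161,[]),(137,[]),(15018,[2,1,5,3,5,9]),(14980,[]),(15032,[]),(15032,[])],[3,5,2,2,4,3]),
  (1,[3,1,10],[(15622,[]),(292,[])],[0,2,5,8,3,0,9]),
  (9,[14,16,22,17,23,17,7,10,13],[(526,[0,2,8,3,9,3]),(970,[0,3,3,4,3,9,0,2]),(252,[]),(5736,[]),(264,[]),(15098,[0,0,3,3,5,3,4,2]),(14980,[]),(15032,[]),(14985,[]),(15033,[])],[2,8,2,8]),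
  (1,[3,7,5,10,16],[(15630,[]),(288,[])],[3,4,3,4,3,3,5,5]),
  (12,[17,22,17,18,16,16,18,16,7,10,13],[(526,[3,8,3,4,2,2,4,2]),(970,[2,1,5,2,2,9]),(5736,[]),(252,[]),(264,[]),(249,[]),(15082,[0,2,2,8,2,2,4]),(15032,[]),(14984,[]),(14980,[])],[4,3,0,2,4]),
  (1,[3,1,11,13],[(15638,[])],[1,2,2,5,9,2,2,8]),
  (8,[18,16,16,22,17,18,16,22,3,1,7,11],[(2930,[4,2,2,8,3,4,2,8]),(9650,[1,2,4,2,5,2,9,0]),(249,[]),(5736,[]),(248,[]),(15098,[0,0,2,4,3,3,8,1]),(15032,[]),(14984,[]),(14980,[]),(15032,[])],[4,3,9,3,5,2,2,2]),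
  (1,[3,7,11,9],[(15646,[]),(293,[])],[0,4,3,8,2,5,2,1]),
  (7,[16,19,17,19,22,3,1,11,11],[(9962,[2,5,3,5,8]),(9737,[]),(9744,[]),(9737,[]),(9732,[]),(11374,[0,3,5,2,5,2,2,8]),(292,[]),(15170,[2,4,3,4,3,4,3,8]),(15032,[]),(14984,[]),(15032,[]),(14984,[])],[2,4,2,5,5,9]),
  (1,[3,11,19,7],[(15654,[]),(293,[]),(288,[])],[0,4,2,2,2,5,2,9]),
  (8,[14,17,19,17,14,18,3,1,18],[(634,[0,3,5,3,0,4]),(288,[]),(4822,[0,5,5,2,8,2,8]),(292,[]),(15162,[2,1,8,3,5,3,4]),(14980,[]),(15032,[])],[5,3,4,3,9,2]),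
  (1,[7,10,26,7],[(15662,[]),(292,[])],[0,2,5,2,2,5,8,2]),
  (12,[19,16,16,16,23,14,16,16,3,1,18],[(634,[5,2,2,2,9,0,2,2]),(1394,[2,5,3,4,3,5]),(292,[]),(15346,[1,2,2,5,2,2,4]),(15033,[]),(14984,[]),(15032,[])],[0,9,3,5,2,9,3,5]),
  (1,[3,29,7,16],[(15670,[]),(292,[]),(288,[])],[2,1,5,2,2,9]),
  (9,[14,17,19,17,19,17,22,17,3,7,5,11],[(4086,[0,3,5,3,5,3,8,3]),(292,[]),(4650,[0,4,2,9,0,2,2,2]),(292,[]),(288,[]),(15490,[0,5,5,2,1,5]),(15033,[]),(14980,[])],[0,3,5,2,4]),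
  (1,[7,11,15,3],[(15678,[])],[0,0,5,2,5,8,2,1]),
  (2,[16,15,16,18,16,16,16,3,7,5,10],[(1310,[2,1,2,4,2,2,2]),(9122,[2,5,2,9,2,2,8]),(248,[]),(15090,[0,5,3,3,9,2,2,2]),(15032,[]),(14984,[]),(14980,[])],[8,3,4,3,5,2,9]),
  (1,[3,1,19,11],[(15686,[])],[0,3,0,4,3,4,2]),
  (3,[18,17,23,17,17,23,3,7,5,10],[(1310,[4,3,9,3,3,9]),(288,[]),(5322,[0,3,4,2,9,3,3,5]),(292,[]),(15650,[9,2,8,1,8,2]),(14980,[]),(15033,[]),(14980,[])],[0,2,9,2,8]),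
  (1,[3,18,16,27],[(15694,[])],[5,3,5,3,3,5]),
  (6,[19,17,19,19,17,17,19,3,7,5,10],[(1310,[5,3,5,5,3,3,5]),(292,[]),(288,[]),(3218,[0,5,2,9,3,3]),(15458,[2,8,1,3,5,2,1,3]),(15033,[]),(14980,[])],[0,9,2,5,2,1,4]),
  (1,[3,10,10,19,11],[(15702,[]),(293,[]),(288,[])],[0,0,2,4,3,3,4]),
  (4,[14,14,23,17,19,17,17,19,23,3,7,9,11],[(1958,[0,0,9,3,5,3,3,5,9]),(293,[]),(288,[]),(8658,[0,0,2,5,3,0,5,3]),(288,[]),(15634,[0,3,5,8,2,4])],[2,5,2,5,9,2,5]),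
  (1,[3,1,10,13],[(15710,[])],[8,3,9,3,4,2,4]),
  (7,[19,19,17,23,17,17,3,7,9,11],[(1958,[5,5,3,9,3,3]),(288,[]),(4534,[0,0,0,4,3,3,5,3]),(292,[]),(15234,[0,5,3,5,2,2,5,2])],[0,8,3,8,2,5,2]),
  (1,[3,1,7,11,22],[(15718,[])],[2,4,3,5,2,1]),
  (2,[19,16,19,23,14,17,3,7,11,11],[(12006,[5,2,5,9,0,3]),(11877,[]),(11877,[]),(11852,[]),(12730,[1,1,4,3,3,4,3,3]),(288,[]),(15642,[1,2,2,9,3,4]),(15033,[]),(14980,[])],[4,3,9,2,4,2,1]),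
  (1,[3,7,5,11],[(15726,[]),(293,[]),(288,[])],[3,5,3,0,2,4]),
  (7,[15,16,16,23,14,16,3,7,11,11],[(12006,[1,2,2,9,0,2]),(11861,[]),(11853,[]),(12058,[0,3,5,5,8]),(293,[]),(15538,[2,2,2,9,0,2,2]),(15032,[]),(14984,[]),(14980,[])],[0,0,5,2,1,5]),
  (1,[3,7,17,7],[(15734,[])],[0,3,4,3,3,9,3,8]),
  (11,[15,16,16,16,22,17,17,19,3,7,11,11],[(12006,[1,2,2,2,8,3,3,5]),(11856,[]),(11877,[]),(11856,[]),(11852,[]),(12490,[0,3,5,5,2,5]),(15242,[3,5,8,1,3,9,0]),(14980,[]),(15033,[]),(14984,[]),(14980,[])],[1,5,3,3,5,9,2,5]),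
  (1,[7,11,17,3],[(15742,[]),(293,[])],[2,2,8,3,4,2,9,0]),
  (2,[14,19,17,19,17,17,19,19,3,7,11,13],[(13810,[0,5,3,5,3,3,5,5]),(13024,[]),(13016,[]),(13025,[]),(13017,[]),(13614,[4,2,4,2,9,2,2]),(288,[]),(15730,[0,5,3,0,4,3,5,8]),(15032,[]),(14984,[]),(14980,[]),(15032,[])],[0,2,8,3,5,2]),
  (1,[3,1,11,11],[(15750,[]),(293,[]),(288,[])],[4,2,2,5,3,5,5,8]),
  (7,[17,19,19,17,23,16,3,7,11,13],[(13810,[3,5,5,3,9,2]),(13025,[]),(13017,[]),(13012,[]),(13662,[0,2,8,3,0,4,3,5]),(292,[]),(288,[]),(15170,[0,4,2,1,4,3,5,8]),(15033,[]),(14985,[]),(15033,[])],[4,2,1,5,3,5,3,3]),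
  (1,[3,1,19,10,14],[(15758,[])],[4,2,8,1,8,3]),
  (8,[14,16,16,19,17,14,19,17,3,7,11,13],[(13810,[0,2,2,5,3,0,5,3]),(13024,[]),(13017,[]),(13025,[]),(13012,[]),(13670,[0,0,0,4,3,4,3]),(15666,[2,1,5,3,8,1,3]),(14984,[]),(14980,[]),(15032,[]),(14980,[])],[4,2,9,0,2]),
  (1,[3,10,19,7],[(15766,[]),(293,[]),(288,[])],[0,2,8,3,3,4,2]),
  (8,[15,22,16,18,16,16,3,7,10,13],[(1654,[1,8,2,4,2,2]),(292,[]),(288,[]),(2814,[2,5,8,2,5,9,0,3]),(292,[]),(15202,[0,5,2,8,1,2,2,4]),(15032,[]),(15032,[]),(14985,[])],[1,3,3,5,3,5,3,4]),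
  (1,[3,7,5,11,18],[(15774,[]),(293,[])],[1,5,3,0,4]),
  (11,[14,17,19,16,16,18,16,3,7,10,13],[(1654,[0,3,5,2,2,4,2]),(292,[]),(6658,[0,0,5,2,9,2,2,5]),(293,[]),(288,[]),(15450,[1,4,3,4,3,0,4,3]),(15033,[]),(14984,[]),(14980,[])],[4,2,2,2,5,2,1,5]),
  (1,[3,7,10,26],[(15782,[]),(293,[]),(288,[])],[1,5,3,9]),
  (3,[15,18,16,19,17,17,7,9,11,11],[(10050,[1,4,2,5,3,3]),(9745,[]),(9732,[]),(10614,[9,2,1,5,3,4,3]),(15602,[0,3,5,3,3,4,2,1])],[3,0,5,2,4,2,5]),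
  (1,[3,7,9,10],[(15790,[]),(293,[])],[4,2,2,5,2,4,2]),
  (13,[14,17,22,16,18,17,14,18,7,9,11,11],[(10050,[0,3,8,2,4,3,0,4]),(9745,[]),(11574,[1,2,2,5,8,3,0,4,2]),(292,[]),(288,[]),(15202,[0,9,2,5,2,1,4,2]),(14980,[]),(15033,[]),(15033,[]),(14980,[])],[0,3,0,9,3]),
  (1,[3,7,15,10,19],[(15798,[]),(288,[])],[2,2,2,5,8,1,2]),
  (36,[14,17,19,23,16,23,17,18,7,9,11,13],[(394,[0,3,5,9,2,9,3,4]),(252,[]),(248,[]),(5736,[]),(5262,[2,8,3,3,5,2]),(292,[]),(15594,[0,5,5,8,2]),(14984,[]),(15032,[]),(14980,[])],[3,8,1,2,5,2,1,5]),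
  (1,[3,19,11,17,27],[(15806,[])],[0,4,3,8,2,4,2,2]),
  (38,[14,16,16,19,16,18,7,9,11,13],[(394,[0,2,2,5,2,4]),(265,[]),(5736,[]),(249,[]),(9646,[2,4,2,2,8]),(293,[]),(15354,[5,3,3,8,2,2,2]),(14985,[]),(15033,[])],[1,1,3,4,3,4]),
  (1,[3,7,15,11,19],[(15814,[]),(293,[]),(288,[])],[0,3,3,5,8,2,9]),
  (12,[14,18,17,22,16,16,16,7,9,10,13],[(15378,[0,4,3,8,2,2,2]),(15438,[0,5,2,4,2,5,2,9,3]),(292,[]),(288,[]),(15642,[2,5,3,4,2,4]),(14984,[]),(14980,[])],[1,3,5,3,3,4]),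
  (1,[3,11,18,32],[(15822,[]),(288,[])],[0,5,5,2,4,2,1,4]),
  (7,[17,19,17,22,17,14,23,16,7,27,27],[(742,[3,5,3,8,3,0,9,2]),(288,[]),(7806,[0,4,3,0,4,3,5]),(292,[]),(15618,[3,3,4,3,9,0]),(14980,[])],[1,2,5,2,8,1,8]),
  (1,[3,7,10,15,19],[(15830,[]),(292,[])],[4,2,8,3,4,3,5]),
  (6,[14,18,16,19,16,19,16,16,7,16,27],[(15114,[0,4,2,5,2,5,2,2]),(15062,[0,3,5,2,2,5,8,3]),(257,[]),(15058,[2,8,2,5,3,9,3,5]),(14985,[])],[0,3,3,5,3,4,3]),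
  (1,[3,11],[(15838,[]),(288,[])],[1,1,4,3,5,2,4]),
  (6,[23,14,17,18,17,7,16,27],[(15114,[9,0,3,4,3]),(15033,[]),(14984,[]),(15032,[]),(14984,[]),(15774,[2,1,5,2,2,4,2]),(293,[]),(15298,[4,3,8,2,4]),(14985,[]),(14980,[]),(15033,[]),(14980,[])],[4,2,4,2,8]),
  (1,[3,7,11,14,16],[(15846,[]),(288,[])],[3,0,4,2,2,4,2,9]),
  (11,[14,16,18,17,17,23,7,16,27],[(15114,[0,2,4,3,3,9]),(14980,[]),(15033,[]),(14984,[]),(15438,[2,5,2,9,3,4,3,9]),(15314,[0,0,9,3,5,3,4,3]),(14980,[]),(15033,[]),(15033,[]),(14984,[])],[5,3,5,3,8,1,3,0]),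
  (1,[7,10,27,3],[(15854,[]),(292,[])],[3,8,1,2,4,2,5,2]),
  (37,[22,17,18,16,23,17,7,16,27],[(15114,[8,3,4,2,9,3]),(14980,[]),(15032,[]),(14984,[]),(15822,[2,9,3,5,3,8,1]),(293,[]),(15138,[2,2,4,2,4,3,0]),(15033,[]),(14985,[])],[3,0,5,3,4,2,2]),
  (1,[3,7,33],[(15862,[]),(288,[])],[2,2,8,2,5,2,5,3]),
  (9,[17,18,17,14,16,22,7,10,9,10],[(478,[3,4,3,0,2,8]),(288,[]),(8586,[1,2,4,3,5,2,5]),(292,[]),(288,[]),(15242,[3,8,1,3,3,4,3]),(14984,[]),(14980,[]),(15032,[]),(14980,[])],[8,2,5,5,8,3,4]),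
  (1,[3,7,9,11,13],[(15870,[]),(293,[])],[0,0,3,3,8,1,2]),
  (11,[14,17,17,18,17,23,7,10,14],[(15402,[0,3,3,4,3,9]),(15032,[]),(15032,[]),(14984,[]),(14980,[]),(15334,[1,3,3,5,2,4,2]),(293,[]),(15258,[2,5,3,5,8,3]),(15032,[]),(14985,[]),(15033,[])],[1,4,3,5,8,2]),
  (1,[3,7,5,16,11],[(15878,[]),(288,[])],[3,4,3,0,2,5,8,2]),
  (11,[15,18,17,14,18,16,19,3,18],[(1770,[1,4,3,0,4,2,5]),(293,[]),(288,[]),(4222,[0,3,8,2,5,3,8]),(15650,[0,2,5,3,3,9,2,2]),(14980,[]),(15033,[])],[1,3,8,2,5,2,8]),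
  (1,[3,7,9,16],[(15886,[]),(293,[])],[2,8,3,3,8,2]),
  (37,[16,18,17,3,10,18,7],[(3994,[2,4,3]),(288,[]),(5526,[0,8,3,3,8,3,4]),(288,[]),(15786,[2,9,3,5,3,5,5,3]),(14980,[]),(15033,[]),(15033,[]),(14984,[])],[2,5,8,3,3,5,3,4]),
  (1,[3,7,16],[(15894,[]),(293,[]),(288,[])],[0,2,1,4,3,5,9,2]),
  (7,[16,16,23,17,18,17,3,1,7,9,11],[(4258,[2,2,9,3,4,3]),(292,[]),(288,[]),(3770,[3,4,3,4,3,3,8]),(293,[]),(15858,[0,5,5,2,5,8]),(14984,[]),(15032,[])],[0,5,3,9,2,2,2,5]),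
  (1,[3,1,10,10],[(15902,[]),(293,[]),(288,[])],[2,2,5,5,2,5,2,8]),
  (2,[15,18,17,18,17,17,3,1,7,9,10],[(12278,[1,4,3,4,3,3]),(11856,[]),(11876,[]),(11852,[]),(12074,[0,2,2,2,5,5,8]),(15258,[2,2,5,5,5,2,1,2]),(15032,[]),(15032,[]),(14984,[]),(14980,[])],[0,4,2,8,3,5,2]),
  (1,[3,7,5,16],[(15910,[]),(293,[]),(288,[])],[3,0,2,8,3,3,5,3]),
  (2,[18,16,19,22,17,18,3,1,7,9,10],[(12278,[4,2,5,8,3,4]),(11876,[]),(11856,[]),(11853,[]),(12514,[0,0,0,3,5,2,2]),(292,[]),(15698,[0,8,3,0,2,8]),(14984,[])],[1,2,5,2,2,8,3,3]),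
  (1,[3,10,19,19],[(15918,[])],[0,2,1,2,5,2,2,2]),
  (12,[17,18,16,19,16,15,3,1,7,9,10],[(12278,[3,4,2,5,2,1]),(11856,[]),(11876,[]),(11860,[]),(11856,[]),(12250,[1,2,5,3,3,4,3,8]),(293,[]),(15690,[0,9,0,2,5,3,4]),(14984,[]),(14980,[]),(15032,[]),(14980,[])],[9,2,4,2,4,2,5,9]),
  (1,[3,7,11,27,10],[(15926,[])],[2,8,3,5,8,2,5,3]),
  (8,[14,17,19,23,16,16,16,19,3,1,7,11,11],[(15658,[0,3,5,9,2,2,2,5]),(14980,[]),(15032,[]),(15032,[]),(14980,[]),(15606,[1,4,2,5,3]),(292,[]),(288,[]),(15794,[8,1,3,5,3,9,3]),(14980,[]),(15033,[]),(14984,[])],[0,9,3,5,3,3,5,2]),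
  (1,[3,7,10,14,26,19],[(15934,[]),(292,[])],[2,2,5,3,0,5,3]),
  (2,[18,16,19,16,19,19,19,3,1,7,11,13],[(13058,[4,2,5,2,5,5,5]),(13182,[9,2,2,2,5,2,5]),(15266,[2,2,2,9,2,8]),(15032,[]),(15032,[]),(14980,[])],[3,3,9,3,4,2]),
  (1,[3,1,7,10,16,27],[(15942,[])],[8,3,0,4,2,1,5,2]),
  (12,[14,19,17,19,17,22,16,15,3,1,7,11,13],[(13058,[0,5,3,5,3,8,2,1]),(13016,[]),(13025,[]),(13017,[]),(13454,[1,3,5,8,2,1,5]),(292,[]),(15898,[0,2,4,2,4,2,5,3]),(15033,[]),(15033,[]),(14980,[])],[9,2,2,4,3,5,9]),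
  (1,[3,11,18,3,26],[(15950,[]),(293,[]),(288,[])],[0,4,2,5,3,9,2,9]),
  (8,[16,18,16,18,17,19,3,1,7,10,13],[(13066,[2,4,2,4,3,5]),(13024,[]),(13016,[]),(13024,[]),(13702,[4,3,5,3,4,3,5,8]),(292,[]),(288,[]),(15762,[0,5,5,9,2,4,2,2,8]),(15033,[]),(14985,[]),(15033,[])],[2,9,2,2,8,3,3,9]),
  (1,[3,11,11,19,10],[(15958,[])],[2,2,2]),
  (39,[15,18,16,18,16,18,16,23,3,1,11,18],[(10498,[1,4,2,4,2,4,2,9]),(9736,[]),(9744,[]),(9732,[]),(10518,[3,0,5,2,4,3,4,3]),(293,[]),(288,[]),(15218,[4,3,3,5,2,4]),(15032,[]),(14980,[]),(15033,[])],[2,2,5,2,5,5,9]),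
  (1,[3,7,11,13],[(15966,[])],[5,5,2,1,5]),
  (5,[18,17,19,17,19,23,3,1,7,15,11],[(8526,[4,3,5,3,5,9]),(293,[]),(9546,[0,3,0,5,2,2,5,8]),(5737,[]),(264,[]),(15106,[8,2,5,2,5,3,3]),(14980,[]),(15032,[]),(15032,[])],[0,9,0,2,2,5]),
  (1,[3,7,5,27],[(15974,[])],[0,2,4,3,8,1,2,5,2]),
  (7,[19,17,19,17,23,16,19,3,1,7,15,11],[(8526,[5,3,5,3,9,2,5]),(9630,[0,0,3,3,5,3,8,1]),(293,[]),(288,[]),(15930,[3,9,2,5,8,3,9]),(14984,[]),(15032,[]),(14980,[])],[1,3,4,3,5,3,4]),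
  (1,[3,7,10,19],[(15982,[])],[0,5,5,8,2,5,9]),
  (43,[15,16,16,23,16,15,3,1,7,15,11],[(8526,[1,2,2,9,2,1]),(288,[]),(9574,[9,3,3,5,2,8,2,4]),(292,[]),(15986,[1,1,2,4,2,5,3])],[8,2,8,3,4,2,2]),
  (1,[3,7,10,9,14],[(15990,[])],[2,8,2,5,3,9,2,9]),
  (3,[22,16,18,16,16,19,23,14,3,1,7,15,10],[(15458,[8,2,4,2,2,5,9,0]),(14980,[]),(15033,[]),(14984,[]),(15654,[1,4,3,8,1,8]),(15458,[1,4,3,9,3,4]),(14980,[]),(15033,[]),(15033,[]),(14984,[])],[0,3,0,4,2,5,3,0]),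
  (1,[3,7,11,16],[(15998,[]),(292,[])],[0,3,4,3,0,2,5,3]),
  (6,[14,14,17,17,19,16,18,17,3,1,7,15,10],[(15458,[0,0,3,3,5,2,4,3]),(14980,[]),(15033,[]),(15033,[]),(14984,[]),(15166,[2,8,2,5,3,3,4]),(293,[]),(15218,[2,9,2,4,3,8,1]),(14984,[]),(15032,[]),(14984,[]),(14980,[])],[3,0,4,2,5,2,5]),
  (1,[3,29,3,11],[(16006,[]),(293,[]),(288,[])],[2,2,5,5,5,2]),
  (12,[19,22,16,16,18,17,23,17,3,1,7,15,10],[(15458,[5,8,2,2,4,3,9,3]),(14980,[]),(15033,[]),(15033,[]),(14984,[]),(15782,[0,5,8,3,3,5,3,9]),(293,[]),(288,[]),(15322,[2,2,5,5,2,5]),(14980,[]),(15033,[]),(14985,[]),(14980,[])],[0,8,2,2,4,3,9,3,4]),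
  (1,[3,1,7,11,9],[(16014,[]),(288,[])],[3,3,9,3,3,5,3,8]),
  (11,[18,17,19,16,23,17,19,3,7,5,11,11],[(15490,[4,3,5,2,9,3,5]),(14980,[]),(15032,[]),(15032,[]),(14980,[]),(15182,[3,5,3,3,5,9,3]),(292,[]),(15514,[3,5,3,9,2,2,4]),(15033,[]),(15033,[]),(14984,[]),(14980,[])],[5,2,5,5,2,2,2,9]),
  (1,[3,1,7,10,22],[(16022,[]),(288,[])],[0,5,3,0,4,3,3,5]),
  (9,[14,17,22,17,18,17,17,19,3,7,5,10,10],[(8078,[0,3,8,3,4,3,3,5]),(293,[]),(514,[1,2,2,5,8,3,3,4]),(15450,[0,5,3,4,3,8,2]),(15032,[]),(14984,[]),(14980,[]),(15032,[])],[0,5,5,2,2,2,8,2]),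
  (1,[3,11,11,18,16],[(16030,[]),(288,[])],[3,3,4,3,4,3,4]),
  (9,[16,18,17,19,16,18,16,3,7,5,10,13],[(3990,[2,4,3,5,2,4,2]),(292,[]),(4690,[0,5,5,3,9,3]),(293,[]),(288,[]),(15626,[5,9,3,5,2,9]),(14984,[]),(15032,[]),(14984,[])],[0,2,5,5,3,3,5,3]),
  (1,[3,10,18,7],[(16038,[]),(292,[]),(288,[])],[2,2,2,4,3,0]),
  (12,[18,17,17,18,17,18,3,7,11,17],[(12094,[4,3,3,4,3,4]),(11856,[]),(11877,[]),(11860,[]),(11856,[]),(11852,[]),(12250,[0,3,3,5,2,8,2]),(293,[]),(15690,[4,3,5,3,5,3,9,2]),(14980,[]),(15032,[]),(14984,[])],[3,8,2,5,2,2,4]),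
  (1,[7,26,3,19,11],[(16046,[]),(293,[]),(288,[])],[2,9,0,2,4,2,4]),
  (39,[16,18,16,23,17,19,16,16,3,7,9,11,13],[(6998,[2,4,2,9,3,5,2,2]),(293,[]),(288,[]),(2422,[2,2,5,8,1,3]),(15050,[1,5,8,2]),(15032,[]),(15032,[]),(15032,[])],[3,3,4,3,0,2,5])]
theorem hD29 : allD2 lk B KW SW F A RL [] D29 3894 = true := by decide +kernel
def D30 : List (ℕ × Word × List (ℕ × Word) × Word) := [(1,[3,10,29,3,11],[(16054,[])],[3,4,2,4,3,3,4]),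
  (10,[14,16,19,22,17,14,23,3,7,9,10,10],[(4350,[0,2,5,8,3,0,9]),(288,[]),(6634,[0,0,5,3,3,8]),(293,[]),(16034,[3,4,3,4,3,5,8,3]),(15033,[]),(15033,[]),(14984,[]),(14980,[])],[0,4,2,8,2,8]),
  (1,[3,7,5,17],[(16062,[]),(293,[]),(288,[])],[2,5,8,3,8,1,3]),
  (38,[16,16,19,16,22,16,15,16,3,7,9,10,10],[(4350,[2,2,5,2,8,2,1,2]),(293,[]),(2482,[0,2,2,5,2,8,1]),(15458,[0,3,5,3,3,5,5,3])],[2,2,2,8,3,0,4]),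
  (1,[7,11,14,3],[(16070,[])],[5,3,0,5,9,2]),
  (12,[15,18,17,19,23,16,3,7,26,7],[(10450,[1,4,3,5,9,2]),(9744,[]),(9737,[]),(9732,[]),(11134,[2,1,4,3,5,2,4]),(15274,[1,2,2,2,4,2,2,9]),(14984,[])],[2,1,4,3,4,2,5,2]),
  (1,[3,1,7,10,9],[(16078,[]),(288,[])],[5,2,5,8,3,4,2]),
  (12,[19,19,23,17,18,17,17,18,3,7,26,7],[(10450,[5,5,9,3,4,3,3,4]),(9736,[]),(9745,[]),(9737,[]),(11726,[3,9,2,5,3,3]),(15154,[5,9,2,4,2,2,5]),(14980,[]),(15032,[]),(14985,[]),(15033,[])],[2,5,5,2,2,4,3,0]),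
  (1,[3,7,9,10,26],[(16086,[]),(293,[]),(288,[])],[4,3,3,4,3,4,3]),
  (8,[19,22,17,19,22,15,16,3,7,10,26],[(3006,[5,8,3,5,8,1,2]),(293,[]),(7294,[1,3,0,5,3,5,3,4]),(15530,[0,5,5,9,2,1,5]),(15032,[]),(14984,[]),(14980,[])],[0,8,2,2,2,8,2,2]),
  (1,[3,7,9,10,10],[(16094,[])],[8,1,3,9,0]),
  (8,[14,18,16,23,14,3,7,10,26],[(3006,[0,4,2,9,0]),(292,[]),(2594,[3,3,4,2,5,8]),(288,[]),(16082,[5,5,2,4,2,4,2]),(14980,[]),(15033,[]),(14984,[])],[1,2,4,2,2,4]),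
  (1,[3,7,9,16,7],[(16102,[]),(288,[])],[3,0,5,2,5,2,5]),
  (36,[14,14,17,18,17,17,18,3,7,10,26],[(3006,[0,0,3,4,3,3,4]),(288,[]),(8106,[3,5,9,2,8,1,8,2]),(293,[]),(288,[]),(15610,[0,4,3,3,5,2]),(14980,[]),(15032,[]),(14984,[]),(14980,[])],[0,0,2,4,2,1,3,5]),
  (1,[3,10,19,10,13],[(16110,[]),(293,[]),(288,[])],[2,2,4,2,8,3,0]),
  (11,[14,19,19,16,16,16,22,15,22,7,11,27,27],[(9914,[0,5,5,2,2,2,8,1,8]),(9736,[]),(9744,[]),(9736,[]),(9732,[]),(11038,[0,9,3,4,2,9,3,5]),(292,[]),(16026,[5,8,2,4,3,3,9]),(15032,[]),(15032,[]),(14980,[])],[0,3,0,5,3,8,2,4]),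
  (1,[3,7,10,27],[(16118,[]),(292,[]),(288,[])],[5,8,2,5,2,5,2,9]),
  (8,[14,19,19,16,19,23,16,7,17,27],[(658,[0,5,5,2,5,9,2]),(292,[]),(738,[4,2,2,5,8,3,5,8]),(288,[]),(15618,[0,3,0,9,2,2,5,3,9]),(15032,[]),(15032,[]),(14985,[])],[0,3,4,3,5,3,0,2]),
  (1,[3,7,5,26,7],[(16126,[]),(292,[]),(288,[])],[1,3,5,2,2,5,2,4]),
  (12,[18,16,18,17,19,17,17,7,10,16,16],[(682,[4,2,4,3,5,3,3]),(293,[]),(3994,[2,9,2,1,4,3]),(292,[]),(288,[]),(15634,[5,2,5,2,1,2]),(15033,[]),(14984,[])],[4,2,5,2,5,5,8]),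
  (1,[3,19,26,11,18],[(16134,[]),(293,[]),(288,[])],[9,2,2,4]),
  (8,[14,16,18,17,17,19,7,9,10,15],[(674,[0,2,4,3,3,5]),(288,[]),(8350,[0,4,3,8,1,8,3]),(288,[]),(15874,[4,2,1,8,3]),(15033,[]),(14984,[]),(15032,[]),(14984,[])],[3,5,2,2,8,3,3]),
  (1,[3,10,29,3],[(16142,[]),(292,[])],[5,5,2,2,4,2,2,4]),
  (11,[18,16,15,18,17,23,7,9,10,14],[(15394,[4,2,1,4,3,9]),(14980,[]),(15033,[]),(14984,[]),(15590,[4,3,4,3,5,2]),(292,[]),(15346,[3,3,8,2,4,2,5]),(15033,[]),(14980,[]),(15032,[])],[3,3,4,2,2,4]),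
  (1,[3,11,29,3],[(16150,[]),(293,[]),(288,[])],[5,2,1,4,3,4,2,2]),
  (8,[15,17,23,16,18,16,22,7,27,27,10],[(15290,[1,3,9,2,4,2,8]),(15032,[]),(14984,[]),(15430,[0,2,5,2,5,2,8]),(292,[]),(15354,[0,9,0,3,5,3,3]),(14980,[]),(15033,[]),(14980,[])],[0,5,8,2,9,0]),
  (1,[3,1,7,9,10,26],[(16158,[]),(293,[]),(288,[])],[4,2,5,5,2,8,3,5]),
  (12,[15,16,18,16,22,16,7,16,16],[(11934,[1,2,4,2,8,2]),(11876,[]),(11876,[]),(11853,[]),(11922,[9,3,5,2,2,5,8]),(256,[]),(264,[]),(257,[]),(249,[]),(15098,[0,2,1,3,4,2,4]),(15032,[])],[4,2,2,5,2,9]),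
  (1,[3,10,19,11],[(16166,[]),(293,[]),(288,[])],[1,3,0,5,3,4,2,2]),
  (8,[22,16,15,16,18,16,19,3,7,17,3],[(11998,[8,2,1,2,4,2,5]),(11876,[]),(11861,[]),(11853,[]),(12738,[8,1,3,5,8,1]),(15978,[1,3,8,1,2,5,2,9]),(15033,[]),(14980,[]),(15032,[]),(14984,[])],[3,9,3,3,4,3,4,3]),
  (1,[3,29,26,11,18],[(16174,[]),(288,[])],[9,2,5,3,5,3,3]),
  (8,[16,15,19,17,18,17,23,17,7,16,10,26],[(15330,[2,1,5,3,4,3,9,3]),(15032,[]),(15032,[]),(14985,[]),(15838,[2,2,8,3,5,2,8]),(293,[]),(15138,[1,1,4,2,2,5,2,5]),(14980,[]),(15033,[]),(14980,[])],[3,3,9,0,3,4,3,3]),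
  (1,[3,7,27],[(16182,[]),(288,[])],[3,4,3,5,3,8,2]),
  (8,[17,14,19,17,19,16,16,7,17,27,7],[(494,[3,0,5,3,5,2,2]),(918,[1,2,2,4,2,5,2]),(292,[]),(288,[]),(16154,[8,2,4,2,1,5,2,5]),(15033,[]),(15033,[]),(14980,[])],[3,4,3,0,9,2,5]),
  (1,[3,29,26,11,9],[(16190,[]),(293,[])],[5,2,4,2,5,3]),
  (12,[17,19,19,19,17,19,19,7,17,27,7],[(494,[3,5,5,5,3,5,5]),(288,[]),(1526,[4,2,8,2,4]),(293,[]),(288,[]),(15802,[4,3,8,2,4,2,2]),(14985,[]),(14980,[]),(15033,[]),(14980,[])],[0,2,4,3,3,4,2,8]),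
  (1,[3,7,10,17],[(16198,[]),(292,[]),(288,[])],[1,3,5,9,2,8,2,9]),
  (9,[18,16,16,18,16,16,19,3,1,19],[(370,[4,2,2,4,2,2,5]),(137,[]),(116,[]),(2170,[0,2,4,2,5,9,3,8]),(292,[]),(288,[]),(15914,[1,5,2,5,2,1,5]),(14984,[]),(15032,[]),(14984,[]),(14980,[])],[0,0,5,2,5,2,1,4]),
  (1,[3,19,10,14],[(16206,[])],[2,9,3,4,3,5]),
  (11,[22,17,19,23,14,16,16,3,10,18],[(3214,[8,3,5,9,0,2,2]),(5694,[0,5,5,2,8,3,3]),(293,[]),(16194,[2,2,2,5,8,2,2]),(15032,[]),(14984,[]),(15032,[]),(14984,[])],[3,3,5,3,5,3,5,5]),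
  (1,[3,7,11,14],[(16214,[]),(292,[]),(288,[])],[1,5,2,2,2]),
  (11,[14,22,15,17,19,16,22,16,3,1,7,33],[(3570,[0,8,1,3,5,2,8,2]),(292,[]),(288,[]),(9578,[5,8,2,2,4,2,8,1]),(16010,[9,3,3,5,3,9]),(15032,[]),(15032,[]),(15032,[])],[2,2,5,5,5,2,5,8]),
  (1,[3,7,10,16],[(16222,[]),(293,[])],[3,3,5,5,5,2,8,2]),
  (2,[17,14,19,16,19,16,16,3,7,15,11],[(7994,[3,0,5,2,5,2,2]),(7942,[1,4,3,5,8,2]),(15858,[0,2,5,5,2,8,3,9]),(14980,[]),(15033,[]),(15033,[])],[0,9,3,3,9,3]),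
  (1,[3,7,9,11,9],[(16230,[]),(293,[])],[3,9,0,3,4]),
  (36,[15,16,16,16,19,17,19,23,3,7,15,11],[(7994,[1,2,2,2,5,3,5,9]),(292,[]),(4566,[1,2,5,2,5,8,2,1]),(293,[]),(15802,[0,2,2,2,8,2,1,4]),(14985,[]),(15033,[]),(15033,[])],[3,5,5,2,2,2,5]),
  (1,[3,7,10],[(16238,[])],[5,5,2,1,4,3,5]),
  (2,[23,17,19,16,19,3,7,15,10],[(7722,[9,3,5,2,5]),(292,[]),(288,[]),(7638,[8,3,4,2,5,2,8]),(15618,[1,3,4,3,3,5,2,8]),(14984,[]),(14980,[])],[2,5,2,2,2,5,9,0]),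
  (1,[3,7,29,27,10],[(16246,[])],[0,3,5,3,0,4,2,9]),
  (3,[17,14,19,16,15,3,7,15,10],[(7722,[3,0,5,2,1]),(8534,[0,2,5,2,4,2,2,9]),(292,[]),(288,[]),(15738,[0,0,5,3,3,5,2]),(14980,[]),(15032,[]),(14985,[]),(14980,[])],[0,2,2,8,2,4,2,5,9]),
  (1,[3,19,10],[(16254,[]),(293,[]),(288,[])],[0,2,8,1,3,5,9,3]),
  (6,[17,17,22,15,16,18,16,22,3,7,15,10],[(7722,[3,3,8,1,2,4,2,8]),(293,[]),(288,[]),(6078,[1,8,3,3,4,2,4]),(293,[]),(288,[]),(15698,[1,4,3,9,2,1]),(14980,[]),(15033,[]),(15033,[])],[0,5,9,3,3,4,3,9]),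
  (1,[3,7,26,10],[(16262,[]),(293,[]),(288,[])],[2,8,1,2,2,5,2,2]),
  (9,[22,15,17,23,3,7,11,9,14],[(12078,[8,1,3,9]),(11876,[]),(11876,[]),(11876,[]),(11852,[]),(12466,[0,0,2,5,8,3,0,4]),(293,[]),(288,[]),(15874,[1,3,3,9,3]),(15033,[])],[1,5,2,4,2,5,8]),
  (1,[3,7,10,15],[(16270,[]),(292,[]),(288,[])],[0,8,2,4,2,9]),
  (11,[14,19,19,22,17,19,23,3,7,11,9,14],[(12078,[0,5,5,8,3,5,9]),(11856,[]),(11877,[]),(11861,[]),(12090,[0,2,1,3,4,2,5]),(15530,[1,5,2,2,8,3,3,8]),(14984,[]),(14980,[]),(15032,[]),(14980,[])],[4,2,4,2,5,2,9,2]),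
  (1,[3,19,10,9,10],[(16278,[]),(292,[])],[0,0,5,2,5,8,1]),
  (8,[14,17,22,15,16,19,16,16,3,7,10,9,14],[(5094,[0,3,8,1,2,5,2,2]),(293,[]),(3834,[3,0,4,2,2,2,5]),(292,[]),(15690,[1,2,5,2,5,2,2]),(14984,[]),(15032,[])],[0,0,2,5,8,2,1,2]),
  (1,[3,7,11],[(16286,[]),(293,[]),(288,[])],[3,5,2,4,2,4]),
  (11,[15,18,17,22,16,18,17,17,3,7,10,9,14],[(5094,[1,4,3,8,2,4,3,3]),(288,[]),(5302,[0,4,3,4,3,3]),(292,[]),(16250,[0,5,5,3,5,3]),(14984,[])],[0,5,2,1,5,3,5,9]),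
  (1,[3,7,11,11,26],[(16294,[]),(293,[]),(288,[])],[4,2,4,2,2,4]),
  (12,[14,17,14,19,3,7,10,9,14],[(5094,[0,3,0,5]),(292,[]),(6422,[0,2,5,2,5,2,8]),(288,[]),(15938,[2,1,5,3,5,5,5,3]),(15032,[]),(14984,[]),(14980,[]),(15032,[])],[3,0,5,2,2,5,2,5]),
  (1,[3,7,10,13,16],[(16302,[]),(288,[])],[2,2,5,2,1,2,5]),
  (8,[19,16,16,19,16,3,1,7,9,11,13],[(7234,[5,2,2,5,2]),(293,[]),(5902,[2,2,4,2,9,3,5,3]),(16130,[0,2,5,3,3,5,3,0]),(15033,[]),(15033,[]),(14984,[]),(14980,[])],[5,8,1,2,2,2,8]),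
  (1,[7,10,17,3],[(16310,[]),(292,[]),(288,[])],[2,8,3,8,2,5,2,1]),
  (3,[19,17,23,14,16,19,16,18,3,7,5,10,27],[(8310,[5,3,9,0,2,5,2,4]),(293,[]),(6358,[0,5,2,8,2,5,2]),(293,[]),(288,[]),(15890,[0,8,3,5,2,9]),(15032,[]),(14984,[]),(15032,[]),(14984,[])],[3,0,2,5,3,4,3]),
  (1,[7,17,3],[(16318,[])],[1,2,2,5,8,3,5,3]),
  (38,[16,19,22,17,22,15,3,7,5,10,27],[(8310,[2,5,8,3,8,1]),(293,[]),(9498,[3,4,2,2,4,3,0]),(15490,[0,0,2,8,3,5,3,3]),(14980,[]),(15033,[]),(15033,[]),(14984,[])],[5,8,2,8,3,3]),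
  (1,[3,7,9,10,9],[(16326,[])],[0,8,2,5,5,5,2]),
  (6,[16,16,18,16,19,17,22,3,7,5,16],[(630,[2,2,4,2,5,3,8]),(426,[1,5,3,8,2,5,2,8]),(293,[]),(15218,[3,5,9,3,3,4,3]),(14980,[])],[3,0,9,2,2,4,2]),
  (1,[3,1,7,33],[(16334,[])],[8,1,8]),
  (11,[16,19,22,16,15,22,16,16,3,7,5,10,26],[(2394,[2,5,8,2,1,8,2,2]),(292,[]),(5322,[0,9,2,1,4,2,9,3,5]),(292,[]),(15650,[5,9,2,5,9,3]),(15033,[]),(14984,[])],[5,3,5,3,3,9]),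
  (1,[3,1,7,11,16,16],[(16342,[]),(293,[]),(288,[])],[3,5,8,2,5,2,4]),
  (12,[19,22,17,18,17,18,17,22,3,11,19],[(678,[5,8,3,4,3,4,3,8]),(293,[]),(288,[]),(4918,[2,1,4,2,9,2,2,4,3]),(292,[]),(288,[]),(15746,[2,8,2,5,2,8,3]),(14984,[]),(14980,[])],[0,0,4,2,5,3,3,9]),
  (1,[7,16,3],[(16350,[]),(288,[])],[4,2,2,9,3,3,8,2]),
  (12,[14,16,16,19,17,23,17,17,3,11,18,32],[(8918,[0,2,2,5,3,9,3,3]),(293,[]),(288,[]),(9298,[0,2,4,2,5,2,4,2]),(293,[]),(288,[]),(16122,[2,4,2,2,2,9,3]),(14980,[]),(15032,[]),(14984,[]),(14980,[])],[0,5,9,2,2,5,2,2]),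
  (1,[3,23,11,19],[(16358,[])],[0,3,0,5,2,8,2,5]),
  (12,[17,19,22,17,23,17,3,11,18,32],[(8918,[3,5,8,3,9,3]),(288,[]),(8422,[0,5,3,3,4,3,8]),(292,[]),(15298,[3,0,4,2,9,0,2]),(14985,[]),(15033,[]),(15033,[]),(14984,[])],[8,2,5,2,2,5,9]),
  (1,[3,19,7,11,11],[(16366,[]),(292,[])],[0,2,2,2,5,9,0,3]),
  (8,[14,17,19,19,17,3,10,18,32],[(12174,[0,3,5,5,3]),(11876,[]),(11860,[]),(11856,[]),(11852,[]),(12130,[1,5,2,5,2,5,8]),(288,[]),(16178,[1,2,2,4,3,5,2,1,4]),(14980,[]),(15032,[]),(15032,[]),(14980,[])],[5,5,2,1,5,3]),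
  (1,[3,7,5,10,17,18],[(16374,[]),(292,[]),(288,[])],[2,2,5,5,3,8]),
  (8,[19,22,16,16,18,17,18,3,7,33,11],[(6306,[5,8,2,2,4,3,4]),(288,[]),(8738,[0,0,4,2,5,2,9,0,3]),(15722,[1,4,3,5,2,8,2,5]),(15033,[]),(15033,[])],[0,0,3,3,9,2,5]),
  (1,[3,7,9,26,7],[(16382,[]),(293,[])],[1,2,5,2,8,3,4]),
  (8,[19,16,15,18,16,23,17,19,3,7,33,10],[(2710,[5,2,1,4,2,9,3,5]),(293,[]),(5202,[0,0,2,4,2,1,3,4]),(292,[]),(288,[]),(15794,[5,3,0,5,3,4,2]),(14980,[]),(15033,[]),(15033,[]),(14984,[])],[3,5,5,2,8,2,8,2]),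
  (1,[3,7,11,27],[(16390,[])],[0,2,2,2,8,2,2,9]),
  (2,[14,23,16,19,22,17,14,18,3,1,7,10,27,13],[(9494,[0,9,2,5,8,3,0,4]),(288,[]),(6294,[3,5,3,9,2,8,2,4]),(293,[]),(288,[]),(16282,[4,3,5,8,3,0]),(15033,[]),(15033,[]),(14980,[])],[0,2,2,2,9,3]),
  (1,[3,11,19,17,17],[(16398,[]),(293,[]),(288,[])],[5,3,5,2,4,2]),
  (8,[14,18,16,18,16,23,17,17,3,1,7,10,27,13],[(9494,[0,4,2,4,2,9,3,3]),(2290,[9,3,5,3,5,3,5,2]),(292,[]),(288,[]),(16058,[1,3,0,4,2,2,8,3]),(15033,[]),(14984,[]),(15032,[]),(14984,[])],[4,2,2,4,3]),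
  (1,[7,10,15,3],[(16406,[]),(293,[]),(288,[])],[5,3,5,8,2,5,2,8]),
  (8,[17,19,23,16,16,22,17,3,1,7,10,27,13],[(9494,[3,5,9,2,2,8,3]),(292,[]),(6518,[0,0,2,4,2,2,2,4]),(15178,[0,0,3,3,5,2,4,2]),(14980,[]),(15032,[]),(14985,[]),(14980,[])],[0,5,5,5,2]),
  (1,[3,11,19,10],[(16414,[]),(288,[])],[0,8,3,4,2,9,3,3]),
  (11,[14,17,17,18,17,23,16,16,3,1,7,26],[(9954,[0,3,3,4,3,9,2,2]),(11638,[2,2,2,9,3,5]),(16090,[0,3,5,3,9,0,3,5]),(14980,[]),(15033,[]),(15033,[])],[0,2,2,2,8,1,2,4]),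
  (1,[3,18,7],[(16422,[]),(292,[])],[1,8]),
  (9,[14,23,16,19,17,17,18,3,7,26,10],[(15322,[0,9,2,5,3,3,4]),(15032,[]),(14985,[]),(15038,[3,0,4,3,5,8,3,3]),(161,[]),(112,[]),(104,[]),(15050,[0,0,5,2,8,1,3,3]),(14980,[]),(15033,[]),(15033,[])],[0,2,5,8,3,5,8,2]),
  (1,[3,7,18],[(16430,[]),(292,[]),(288,[])],[1,4,2,2,2,5,8]),
  (8,[14,19,16,22,17,19,22,16,3,7,10,16],[(4246,[0,5,2,8,3,5,8,2]),(293,[]),(6366,[0,3,5,3,4,3,0,2]),(293,[]),(288,[]),(15306,[4,2,4,2,1,5]),(14980,[]),(15033,[]),(15033,[]),(14980,[])],[3,8,2,4,2,5,9,0]),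
  (1,[3,1,10,18,27],[(16438,[]),(293,[])],[1,3,5,3,3,4,2,8]),
  (8,[14,14,16,15,18,17,17,19,3,7,11,14,26],[(8682,[0,0,2,1,4,3,3,5]),(293,[]),(288,[]),(2438,[0,5,3,5,2,1,5]),(292,[]),(15994,[3,3,9,2,5,2,9]),(14980,[])],[4,3,4,3,8,3,9]),
  (1,[3,7,11,14,19],[(16446,[]),(292,[])],[3,8,1,2,2,2,5]),
  (2,[14,14,16,18,17,23,16,18],[(9730,[0,0,2,4,3,9,2,4]),(17,[]),(12,[]),(12,[]),(16,[]),(242,[3,3,5,8,2,2,2,9]),(257,[]),(15058,[3,4,3,9,3,5,2,5])],[9,2,1,4,3,5,2]),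
  (1,[7,11,17,17],[(16454,[]),(9737,[]),(9744,[]),(9737,[])],[0,0,2,2,2,4,3,3]),
  (2,[14,17,17,18,16,23,14,17],[(9730,[0,3,3,4,2,9,0,3]),(12,[]),(9,[]),(9,[]),(9726,[0,2,5,2,5,8,2,9]),(14974,[1,3,5,8,3,4,2])],[0,2,1,5,3,4,3]),
  (1,[7],[(16462,[])],[0,2,5,5,9,2,5]),
  (2,[23,16,16,18,17,19,17],[(9730,[9,2,2,4,3,5,3]),(8,[]),(13,[]),(16,[]),(16,[]),(9,[]),(12,[]),(16,[]),(12,[]),(282,[5,5,8,3,9]),(293,[]),(15114,[1,1,5,3,3,4,2,2])],[5,8,3,0,9,2]),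
  (1,[7,10,15,11],[(16470,[]),(9736,[]),(9745,[]),(9737,[])],[0,3,3,9,2,5,8,3]),
  (8,[16,18,17,17,22,17,17],[(9730,[2,4,3,3,8,3,3]),(12,[]),(16,[]),(16,[]),(12,[]),(16,[]),(8,[]),(130,[0,5,2,4,2,5,2,8]),(161,[]),(104,[]),(15018,[1,3,3,4,2,2]),(14980,[]),(15032,[]),(14985,[])],[0,2,2,5,5,8,3,8]),
  (1,[3,11,13],[(16478,[]),(9744,[]),(9737,[]),(9745,[]),(9732,[])],[0,2,2,2,8,2,4,3,9]),
  (8,[19,16,15,18,17,19,16],[(9730,[5,2,1,4,3,5,2]),(13,[]),(17,[]),(13,[]),(9,[]),(12,[]),(16,[]),(282,[3,0,4,2,8,2,5]),(293,[]),(15114,[8,3,3,5,2,8,3]),(15032,[]),(14984,[]),(15032,[]),(14984,[])],[1,2,2,5,9,2,2,2,9]),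
  (1,[3,7,5,26],[(16486,[]),(9744,[]),(9737,[])],[1,3,5,8,1,3,3]),
  (8,[18,17,22,15,17,19,16,15],[(9730,[4,3,8,1,3,5,2,1]),(17,[]),(12,[]),(12,[]),(16,[]),(12,[]),(9726,[5,5,3,3,4,2,1,2]),(9744,[]),(9737,[]),(16458,[5,5,2,4,2,2,8,1]),(14985,[]),(14980,[])],[0,9,2,2,8,3,5]),
  (1,[3,1,11],[(16494,[]),(9737,[]),(9744,[]),(9737,[])],[4,2,2,8,2,4,3,3]),
  (8,[17,17,19,16,22,16,16,19],[(9730,[3,3,5,2,8,2,2,5]),(12,[]),(12,[]),(12,[]),(17,[]),(12,[]),(17,[]),(8,[]),(9726,[0,5,5,3,3,4,3,0]),(9737,[]),(14974,[3,3,5,2,1,3]),(14984,[])],[1,4,3,5,3,0,4,3]),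
  (1,[7,16,16],[(16502,[]),(9736,[]),(9745,[])],[2,5,2,5,2,2,2,8]),
  (8,[18,16,18,16,19,17,22],[(9730,[4,2,4,2,5,3,8]),(13,[]),(17,[]),(12,[]),(12,[]),(16,[]),(8,[]),(8,[]),(9726,[2,8,2,4,3,8]),(9737,[]),(9744,[]),(9737,[]),(16458,[1,5,8,3,4,3]),(14984,[]),(15032,[]),(14984,[])],[2,8,2,5,3,8,2,2]),
  (1,[3,1,19,11,15],[(16510,[]),(9744,[]),(9737,[])],[0,2,5,8,2,2,4]),
  (8,[19,16,15,18,16,19,23,17],[(9730,[5,2,1,4,2,5,9,3]),(17,[]),(8,[]),(13,[]),(16,[]),(13,[]),(16,[]),(13,[]),(9726,[2,2,5,2,2,4,3,8]),(9737,[]),(16466,[3,0,4,3,4,3])],[0,2,5,5,3])]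
theorem hD30 : allD2 lk B KW SW F A RL [] D30 4014 = true := by decide +kernel
def D31 : List (ℕ × Word × List (ℕ × Word) × Word) := [(1,[7,26,7],[(16518,[]),(9736,[])],[2,5,8,3,3,5,2]),
  (9,[14,16,19,16,22,16,19,16],[(9730,[0,2,5,2,8,2,5,2]),(13,[]),(17,[]),(12,[]),(17,[]),(12,[]),(9,[]),(12,[]),(16,[]),(12,[]),(282,[8,2,2,5,3,4,2,4]),(15122,[2,2,2,9,2,2,2]),(14984,[]),(14980,[]),(15032,[]),(14984,[])],[0,4,2,2,2,5]),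
  (1,[3,7],[(16526,[]),(9745,[]),(9737,[])],[2,1,5,2,9,2,2,5]),
  (9,[15,15,19,16,19,17,17,19],[(9730,[1,1,5,2,5,3,3,5]),(17,[]),(12,[]),(8,[]),(13,[]),(16,[]),(9726,[3,0,9,2,5,3,8]),(9736,[]),(9745,[]),(9737,[]),(16474,[8,2,2,5,3,5,9]),(14984,[]),(15032,[]),(15032,[]),(14985,[])],[0,3,0,4,3,8]),
  (1,[3,1,7,26,7,9],[(16534,[]),(9737,[]),(9744,[])],[1,5,3,8,2,5,3,9]),
  (9,[16,19,19,19,17],[(9730,[2,5,5,5,3]),(12,[]),(12,[]),(12,[]),(17,[]),(12,[]),(12,[]),(16,[]),(242,[2,4,2,5,3,9,2,1]),(256,[]),(249,[]),(15058,[0,2,5,8,3,5,3,9]),(14984,[]),(15032,[]),(14984,[])],[3,9,3,4,3]),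
  (1,[3,1,23,7,10],[(16542,[]),(9736,[]),(9744,[]),(9737,[])],[1,3,5,8,3,3,4]),
  (9,[15,18,17,23,16,15,19],[(9730,[1,4,3,9,2,1,5]),(13,[]),(242,[0,9,2,5,2,4,3,0]),(256,[]),(249,[]),(15066,[0,0,2,4,2,2,5,2]),(15032,[]),(15032,[]),(14984,[])],[0,0,2,4,2,9,0]),
  (1,[3,11,11],[(16550,[]),(9744,[]),(9736,[]),(9732,[])],[9,3,5,3,0,4]),
  (9,[15,18,17,19,17,14],[(9730,[1,4,3,5,3,0]),(12,[]),(17,[]),(17,[]),(12,[]),(16,[]),(12,[]),(8,[]),(8,[]),(9726,[5,2,5,2,5,2,1,3]),(14974,[3,5,8,2,1,5,2]),(14984,[])],[0,3,4,2,5,2,8,3]),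
  (1,[3,18,3,27],[(16558,[]),(9745,[]),(9737,[]),(9732,[])],[0,5,5,5,2,5,9]),
  (9,[22,16,16,16,19,17,23],[(9730,[8,2,2,2,5,3,9]),(17,[]),(13,[]),(16,[]),(12,[]),(9,[]),(12,[]),(16,[]),(12,[]),(9726,[0,5,2,8,3,9,3,4]),(9737,[]),(16466,[3,0,5,2,2,4,3,5]),(15032,[]),(15032,[])],[3,3,8,2,8,3]),
  (1,[3,1,7,9,11],[(16566,[]),(9732,[])],[0,0,2,4,3,9,3]),
  (11,[14,16,16,16,19,22,16,16,16],[(9730,[0,2,2,2,5,8,2,2,2]),(16,[]),(16,[]),(16,[]),(12,[]),(16,[]),(13,[]),(9726,[4,2,2,2,5,5,5]),(9736,[]),(16466,[5,5,2,2,2,4]),(14980,[])],[0,5,2,2,2,8]),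
  (1,[3,18,3],[(16574,[]),(9732,[])],[0,0,4,2,2,2,9]),
  (11,[15,19,16,16,23,14,17,19],[(9730,[1,5,2,2,9,0,3,5]),(17,[]),(17,[]),(12,[]),(16,[]),(13,[]),(9,[]),(282,[5,5,3,5,8,2]),(292,[]),(15122,[1,3,5,3,3])],[1,4,3,5,3,3,5,3]),
  (1,[3,7,5],[(16582,[]),(9737,[])],[0,2,2,2,5,5,5]),
  (12,[22,15,16,16,22],[(9730,[8,1,2,2,8]),(13,[]),(17,[]),(17,[]),(12,[]),(12,[]),(12,[]),(16,[]),(8,[]),(9726,[3,5,8,2,9,0]),(9736,[]),(9745,[]),(9737,[]),(16474,[4,2,1,5,8]),(15032,[]),(15032,[]),(14980,[])],[8,3,0,5,2,2,4]),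
  (1,[3,7,26,7],[(16590,[]),(9744,[]),(9737,[]),(9732,[])],[5,9,2,2,4,3,9]),
  (12,[15,17,18,17,22,17,17,23],[(9730,[1,3,4,3,8,3,3,9]),(8,[]),(13,[]),(16,[]),(16,[]),(9,[]),(12,[]),(16,[]),(12,[]),(282,[3,4,2,1,3,9,3]),(292,[]),(15114,[3,5,2,5,8,1,2]),(15033,[]),(15033,[]),(14984,[])],[0,0,5,2,9,2,2,5]),
  (1,[7,27,3],[(16598,[]),(9736,[]),(9745,[]),(9736,[]),(9732,[])],[0,3,3,8,3,0,4,3]),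
  (2,[15,15,18,17,18,17,17,7],[(14974,[1,1,4,3,4,3,3]),(14984,[]),(14990,[1,5,2,5,2,2,4,2]),(89,[]),(45,[]),(53,[]),(36,[]),(14994,[8,2,1,3,9,3,4,3])],[3,5,3,5,8,2]),
  (1,[7,27,27],[(16606,[]),(9745,[])],[2,8,2,5,3,9,2,9]),
  (2,[16,15,17,18,17,17,19,7],[(14974,[2,1,3,4,3,3,5]),(15006,[0,2,4,2,1,5,2,9]),(112,[]),(160,[]),(137,[]),(15010,[2,5,8,3,5,8,1,2])],[3,0,4,2,8,3,4,2]),
  (1,[7,17,17],[(16614,[]),(9744,[]),(9737,[])],[3,5,2,4,2,2,4,2]),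
  (11,[14,16,15,16,18,17,18,17,7],[(14974,[0,2,1,2,4,3,4,3]),(14980,[]),(15032,[]),(15110,[0,3,5,3,5,5,9,2]),(288,[]),(15194,[0,4,3,8,3])],[1,5,2,9,3,4,3,9]),
  (1,[3,7,15],[(16622,[]),(9745,[]),(9736,[])],[0,4,3,9,2,2,2]),
  (11,[18,16,22,15,17,18,17,7],[(14974,[4,2,8,1,3,4,3]),(15033,[]),(14980,[]),(15032,[]),(16454,[0,2,5,2,2,9,2,9]),(9737,[]),(9744,[]),(9737,[]),(16554,[2,5,2,8,3,0]),(14984,[]),(15032,[])],[0,0,2,9,3,3,8,3]),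
  (1,[3,1,7,11,17,14],[(16630,[]),(9732,[])],[0,2,2,8,2,5,2,9]),
  (12,[17,17,19,19,17,14,16,18,7],[(14974,[3,3,5,5,3,0,2,4]),(16606,[0,3,0,9,2,2,5]),(9744,[]),(16634,[1,2,2,2,5,3,3]),(15033,[]),(14985,[])],[2,2,5,3,0,2]),
  (1,[3,7,11,17],[(16638,[]),(9745,[]),(9737,[])],[8,2,9,2,8]),
  (12,[14,16,16,19,22,17,19,22,7],[(14974,[0,2,2,5,8,3,5,8]),(14984,[]),(15006,[0,0,3,3,5,5,3,9]),(160,[]),(104,[]),(137,[]),(104,[]),(15050,[0,2,2,2,5,2,2]),(14984,[]),(15032,[])],[0,3,5,5,3,4,3,0]),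
  (1,[3,1,18],[(16646,[]),(9737,[])],[0,8,2,2,2,8,1]),
  (2,[23,14,17,18,17,17,10],[(11778,[9,0,3,4,3,3]),(9736,[]),(9854,[2,5,3,9,3,4,3,0]),(15402,[0,4,3,3,5,3,3])],[0,8,2,1,3,9]),
  (1,[7,11,9,11],[(16654,[]),(9736,[])],[3,4,2,2,5,3,8]),
  (2,[15,22,16,18,16,19,22,16,10],[(11778,[1,8,2,4,2,5,8,2]),(9744,[]),(11798,[5,5,8,2,4,2,1,3]),(9745,[]),(16658,[0,2,4,2,5,2,5,8]),(14984,[])],[1,2,4,3,5,3,4,3]),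
  (1,[11],[(16662,[])],[9,3,5,3,9,2,9]),
  (3,[14,16,18,16,22,15,22,16,10],[(11778,[0,2,4,2,8,1,8,2]),(9736,[]),(9750,[3,4,2,8,2,5,2,4]),(120,[]),(108,[]),(15018,[4,3,4,2,2,4,2])],[4,2,5,5,2,5,8]),
  (1,[7,16,16,10],[(16670,[]),(9736,[])],[5,2,5,5,8,2]),
  (12,[16,22,16,15,19,22,17,19,10],[(11778,[2,8,2,1,5,8,3,5]),(9736,[]),(9744,[]),(11798,[1,2,5,2,5,3,0,2]),(9737,[]),(16474,[0,4,2,2,2,5,3,8]),(14984,[])],[1,3,5,3,0,5,3]),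
  (1,[7,16,11,17],[(16678,[]),(9736,[]),(9745,[]),(9737,[])],[3,3,4,3,3,5,2,4]),
  (3,[15,19,22,16,16,18,17,23,3,1],[(9758,[1,5,8,2,2,4,3,9]),(116,[]),(614,[0,2,4,2,2,5,2,5]),(293,[]),(288,[]),(15194,[4,2,8,2,1,5,2])],[5,2,2,5,5,2,1]),
  (1,[3,19,7],[(16686,[]),(9737,[]),(9732,[])],[9,2,2,2,4]),
  (37,[16,22,16,18,16,19,23,3,1],[(9758,[2,8,2,4,2,5,9]),(116,[]),(136,[]),(160,[]),(366,[2,5,3,8,2,1,4,2]),(15354,[1,4,2,5,2,1])],[3,9,3,4,2,2,5]),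
  (1,[7,10,14],[(16694,[]),(9736,[]),(9744,[])],[0,0,4,3,8,2,2,2]),
  (42,[22,17,18,17,19,19,17,3,1],[(9758,[8,3,4,3,5,5,3]),(136,[]),(160,[]),(112,[]),(104,[]),(366,[1,2,5,3,4,3]),(15434,[3,9,0,3])],[0,9,2,2,4,2,2]),
  (1,[7,10,9,10],[(16702,[]),(9736,[]),(9744,[])],[2,5,2,1,4,3,5,8]),
  (3,[14,14,19,16,15,19,16,18,3,7],[(11454,[0,0,5,2,1,5,2,4]),(293,[]),(4658,[2,9,2,2,5,2,2,5]),(292,[]),(288,[]),(15202,[0,3,4,3,5,5,3]),(15032,[]),(14985,[]),(14980,[])],[4,2,2,5,9,2,9]),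
  (1,[3,11,18,3],[(16710,[]),(9744,[]),(9737,[]),(9745,[]),(9736,[])],[4,3,3,5,2,8,2]),
  (8,[17,19,16,15,19,16,16,22,3,7],[(11454,[3,5,2,1,5,2,2,8]),(292,[]),(288,[]),(10634,[2,8,2,4,3,3,5]),(9745,[]),(9737,[]),(9744,[]),(9736,[]),(16570,[5,5,5,3,4]),(15033,[]),(15033,[]),(14980,[])],[2,2,4,2,5,3,3]),
  (1,[3,1,7,9],[(16718,[]),(9744,[]),(9737,[]),(9745,[]),(9736,[]),(9732,[])],[0,0,0,3,3,5,3,5]),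
  (11,[18,16,16,18,16,15,17,3,7],[(11454,[4,2,2,4,2,1,3]),(293,[]),(288,[]),(3186,[0,5,2,1,3,4,2,8]),(15458,[0,2,4,3,3,8,3])],[1,3,5,9,3,5,2]),
  (1,[3,7,11,9,17],[(16726,[]),(9736,[]),(9744,[])],[0,2,5,5,9,2,8]),
  (2,[22,17,19,23,17,19,3,11],[(11786,[8,3,5,9,3,5]),(9737,[]),(9732,[]),(10262,[5,3,3,4,3,0]),(288,[]),(15850,[0,4,2,4,2,5,5]),(14984,[]),(15032,[]),(14984,[]),(14980,[])],[2,2,5,2,1,8]),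
  (1,[3,1,11,18],[(16734,[]),(9744,[]),(9737,[]),(9745,[]),(9732,[])],[0,2,8,2,2,8,2,8,2]),
  (37,[18,17,19,17,17,19,16,7,9],[(16466,[4,3,5,3,3,5,2]),(16454,[2,9,3,4,3,9,2,5]),(9737,[]),(16610,[0,3,4,2,1,3,5,3])],[3,0,5,2,1,5,3,5]),
  (1,[7,10],[(16742,[])],[2,4,2,9,3,5,3]),
  (11,[22,16,19,22,17,22,16,7,10],[(16666,[8,2,5,8,3,8,2]),(14980,[]),(15033,[]),(14984,[]),(15390,[0,5,3,3,5,5,2,5]),(293,[]),(288,[]),(15866,[3,5,2,5,3,3]),(15032,[]),(15032,[])],[0,5,8,3,0,2,4,2]),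
  (1,[3,11,11,19,11],[(16750,[]),(9745,[]),(9736,[])],[2,8,3,0,4,2]),
  (8,[18,16,18,16,19,23,17,17,10,10],[(9838,[4,2,4,2,5,9,3,3]),(292,[]),(10202,[0,4,2,2,2,5,9]),(9744,[]),(9737,[]),(9745,[]),(9732,[]),(16634,[0,0,5,3,4,2]),(15032,[]),(14985,[]),(15033,[]),(14980,[])],[2,2,2,8,2,2,5]),
  (1,[3,1,7,10,23,11],[(16758,[]),(9745,[]),(9737,[]),(9744,[])],[0,4,2,2,2,9]),
  (12,[19,22,16,16,18,17,23,10,10],[(9838,[5,8,2,2,4,3,9]),(293,[]),(394,[0,3,5,3,9,2,1,4]),(256,[]),(248,[]),(5736,[]),(15106,[1,3,5,2,5,3,3,4]),(15033,[]),(15033,[])],[4,2,4,3,9]),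
  (1,[3,7,26],[(16766,[]),(9737,[]),(9745,[]),(9732,[])],[1,4,2,9,3,5,3,5]),
  (8,[15,17,19,3,1,7],[(16642,[1,3,5]),(14980,[]),(15032,[]),(14984,[]),(16054,[1,8,3,4]),(288,[]),(16298,[3,4,2,8,2,1,2])],[0,4,2,2,2,8,3]),
  (1,[3,7,11,27,13],[(16774,[]),(9744,[]),(9737,[])],[9,2,5,3,3,5,5]),
  (12,[14,18,16,15,16,19,3,1,7],[(16642,[0,4,2,1,2,5]),(16222,[5,3,8,2,4,2,5,5]),(292,[]),(288,[]),(15570,[2,8,3,4,3,5,2]),(15032,[]),(15032,[])],[3,8,2,5,2,5,8,2]),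
  (1,[3,7,27,22,10,22],[(16782,[]),(9737,[]),(9744,[]),(9732,[])],[3,5,3,4,3,5,5]),
  (11,[15,17,14,18,16,16,18,16,3,7,11],[(10254,[1,3,0,4,2,2,4,2]),(293,[]),(288,[]),(6434,[1,4,3,5,8,3,3]),(292,[]),(16418,[8,3,3,4,3,8,1])],[4,2,8,3,4,2,9,3]),
  (1,[3,7,27,18,3,26],[(16790,[]),(9737,[]),(9745,[]),(9732,[])],[0,5,5,2,5,2,2]),
  (9,[16,15,18,16,16,19,16,16,7,10,9],[(10334,[2,1,4,2,2,5,2,2]),(292,[]),(2342,[0,2,1,5,2,5,3,3]),(288,[]),(15162,[3,3,5,8,3,4,2]),(15032,[]),(14985,[]),(14980,[])],[1,4,3,5,2,8]),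
  (1,[3,29,11,9,17],[(16798,[]),(9737,[]),(9732,[])],[0,5,3,5,3,9,2,4]),
  (36,[16,19,19,16,15,18,17],[(11850,[2,5,5,2,1,4,3]),(257,[]),(265,[]),(248,[]),(9802,[8,2,5,2,5,8,2]),(9745,[]),(16666,[4,3,8,2,5,3]),(14984,[])],[9,2,4,2,1,4,2]),
  (1,[7,9,11,9],[(16806,[]),(11860,[])],[0,2,5,2,2,4,2,9]),
  (36,[15,16,16,16,19,16,19],[(11850,[1,2,2,2,5,2,5]),(264,[]),(248,[]),(9818,[2,4,3,4,3,0,2,4]),(9736,[]),(9745,[]),(16666,[4,2,2,2,5,5,3]),(14985,[])],[3,8,2,1,5,2,2]),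
  (1,[7,10,26,17],[(16814,[]),(11861,[]),(11876,[])],[5,3,5,5,2,2,2,8]),
  (8,[14,17,23,14,16,18,16,16,3],[(11906,[0,3,9,0,2,4,2,2]),(5736,[]),(265,[]),(257,[]),(248,[]),(1518,[1,2,4,2,1,4,3,8]),(15762,[2,5,8,2,5,8,2]),(15033,[]),(14984,[])],[4,2,5,9,3,8,3]),
  (1,[3,1,7,10,27],[(16822,[]),(11856,[]),(11877,[]),(11877,[]),(11852,[])],[0,0,0,2,4,3,3]),
  (36,[16,18,16,19,16,18,17,14,11],[(11914,[2,4,2,5,2,4,3,0]),(257,[]),(265,[]),(249,[]),(9826,[0,5,8,3,3,4,3,3]),(9745,[]),(16666,[4,2,9,2,2,4,2,4]),(14984,[])],[0,2,1,5,2,4,2]),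
  (1,[7,9,11],[(16830,[]),(11860,[]),(11853,[])],[0,3,3,8,2,2,2,8,2]),
  (36,[17,22,17,14,19,23,16,11],[(11914,[3,8,3,0,5,9,2]),(257,[]),(265,[]),(9810,[1,4,3,5,3,0,5,3]),(16666,[0,4,2,5,2,5,3,9]),(14985,[])],[2,5,5,9,2,5]),
  (1,[7,9,10,13],[(16838,[]),(11861,[]),(11876,[]),(11852,[])],[0,2,5,3,3,4,2,1]),
  (9,[16,19,16,15],[(13010,[2,5,2,1]),(120,[]),(161,[]),(136,[]),(374,[3,9,3,4,2,5,3,3]),(292,[]),(288,[]),(15730,[2,2,4,3,3,5]),(15033,[]),(14984,[]),(15032,[]),(14980,[])],[0,0,2,5,2,9,2,2,5]),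
  (1,[3,7,11,15,19],[(16846,[]),(13024,[]),(13016,[]),(13025,[]),(13012,[])],[1,4,2,2,5,2,1,5]),
  (8,[15,22,17,18,17,19,23,16,7],[(13550,[1,8,3,4,3,5,9,2]),(292,[]),(288,[]),(10634,[5,2,2,2,9,2,1]),(9745,[]),(9737,[]),(9744,[]),(9736,[]),(16570,[0,2,5,2,2,8,3]),(15033,[]),(15033,[]),(14984,[]),(14980,[])],[2,9,2,2,4,2,4]),
  (1,[3,19,16,27,7],[(16854,[]),(13017,[]),(13025,[]),(13017,[])],[2,2,5,9,2,2,8,3]),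
  (9,[16,15,22,17,18,7],[(13550,[2,1,8,3,4]),(288,[]),(6966,[4,2,2,2,9,2,1]),(293,[]),(288,[]),(15634,[5,8,2,5,9,0,2]),(14980,[]),(15033,[]),(15033,[])],[4,2,8,3,0,9]),
  (1,[3,7,10,13],[(16862,[]),(13016,[]),(13025,[])],[1,4,3,4,3,5,8]),
  (11,[23,17,19,17,19,17,19,16,7],[(13550,[9,3,5,3,5,3,5,2]),(292,[]),(5430,[2,2,8,1,3,5,9,3]),(292,[]),(16034,[0,0,4,3,3,5,3,9]),(15033,[]),(14985,[])],[0,2,8,2,4,2,2,4]),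
  (1,[3,19,11],[(16870,[]),(13025,[]),(13016,[]),(13024,[]),(13017,[])],[1,4,3,5,3,8,2,5]),
  (8,[15,17,19,17,17,18,16,11],[(13238,[1,3,5,3,3,4,2]),(292,[]),(6518,[4,3,4,3,5,8,2,2]),(15178,[2,1,3,4,3,5,2,2])],[2,1,2,5,2,2,8]),
  (1,[7,10,14,3],[(16878,[]),(13016,[]),(13012,[])],[0,5,5,8,2,5,2]),
  (9,[22,16,16,22,16,22,11],[(13238,[8,2,2,8,2,8]),(292,[]),(288,[]),(5818,[8,3,5,5,9,2]),(293,[]),(16306,[2,2,8,3,3,9]),(14985,[])],[0,5,3,4,3,0,5]),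
  (1,[3,29,16,10,9],[(16886,[]),(13024,[]),(13017,[]),(13025,[]),(13016,[])],[4,3,0,2,4,3,0]),
  (36,[14,16,16,18,16,22,17,17,3,7],[(14374,[0,2,2,4,2,8,3,3]),(14338,[1,4,3,8,2,4,3,8]),(13024,[]),(13016,[]),(13025,[]),(13017,[]),(16858,[2,5,3,5,5,8,3]),(15033,[]),(14984,[]),(15032,[]),(14984,[])],[0,2,4,3,5,2,1,2]),
  (1,[3,1,7,11,17],[(16894,[]),(13016,[]),(13024,[]),(13017,[]),(13012,[])],[0,2,5,2,1,4,3,3,5]),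
  (12,[15,16,16,18,16,15,16,18,3,11],[(13246,[1,2,2,4,2,1,2,4]),(293,[]),(288,[]),(9186,[2,4,2,2,2]),(292,[]),(288,[]),(16034,[0,0,5,3,3,5,2]),(14980,[]),(15032,[]),(14980,[])],[1,2,2,9,2,2,5]),
  (1,[3,7,5,10],[(16902,[]),(13025,[]),(13012,[])],[0,5,3,9,2,4]),
  (38,[17,19,16,22,17,14,18,7,9],[(13910,[3,5,2,8,3,0,4]),(288,[]),(1750,[0,3,0,5,3,4,2,4]),(292,[]),(288,[]),(15610,[3,8,2,2,2,4,3,9]),(15032,[]),(15032,[]),(14980,[])],[3,8,2,5,2,9]),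
  (1,[3,1,28,10],[(16910,[]),(13017,[]),(13025,[])],[1,3,8,2,4,3,3,5]),
  (14,[14,18,16,16,22,17,19,16],[(14978,[0,4,2,2,8,3,5,2]),(9745,[]),(16666,[3,3,5,3,3,5,9,0]),(14985,[])],[8,2,4,2,2,5,9,2]),
  (36,[16,15,19,17,19,19,22,16],[(14978,[2,1,5,3,5,5,8,2]),(9745,[]),(11778,[0,2,8,2,2,4,2,4,2]),(16666,[0,3,0,5,2,5,2,1]),(14985,[])],[2,8,2,2,4,2,5,2]),
  (1,[7,9,11,15],[(16922,[]),(14984,[])],[2,5,8,3,3,4,2,4]),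
  (37,[16,16,18,16,16,18,17,22],[(14978,[2,2,4,2,2,4,3,8]),(9744,[]),(11806,[4,3,8,2,5,3,9,3]),(9745,[]),(16666,[5,8,2,8,3,3,8]),(14984,[])],[1,3,5,8,3,4,2]),
  (1,[7,9,10,9],[(16930,[]),(14985,[])],[1,3,8,2,4,3,3]),
  (41,[19,19,19,16,19,22,15],[(14978,[5,5,5,2,5,8,1]),(9745,[]),(11802,[0,2,4,2,5,3,0,4]),(9744,[]),(16666,[0,2,2,8,3,5,2])],[0,3,3,5,5,2,2,9]),
  (1,[3,7,10,17,3],[(16938,[]),(14984,[])],[4,2,8,1,8,3]),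
  (2,[23,17,18,16,3],[(15406,[9,3,4,2]),(293,[]),(288,[]),(1458,[5,2,5,3,0,2,8]),(288,[]),(15410,[3,9,3,4,3,0,4]),(14985,[]),(14980,[]),(15033,[]),(14980,[])],[4,2,2,4,3,0]),
  (3,[19,17,19,16,22,16,3],[(15406,[5,3,5,2,8,2]),(292,[]),(288,[]),(11950,[0,3,5,3,5,3,8,1]),(11876,[]),(11860,[]),(11856,[]),(16818,[0,5,3,0,5,2,2,8]),(14985,[]),(15033,[]),(15033,[])],[2,5,2,5,8,3,3,4]),
  (1,[3,10,10],[(16950,[]),(14984,[]),(15032,[])],[0,5,8]),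
  (8,[18,16,23,16,16,16,23,16,3],[(15406,[4,2,9,2,2,2,9,2]),(292,[]),(11650,[3,4,2,5,9,3,8]),(9744,[]),(9737,[]),(9745,[]),(9736,[]),(16506,[0,5,3,0,4,2,1])],[3,0,2,5,3,3]),
  (1,[7,9,10,10],[(16958,[]),(15032,[]),(14985,[])],[2,5,2,1,5,2,4])]
theorem hD31 : allD2 lk B KW SW F A RL [] D31 4130 = true := by decide +kernel
end
end CA.ThM
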