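import Cfsg.Agent.Lib.Spor.ThD0
import Cfsg.Agent.Lib.Spor.ThD1
import Cfsg.Agent.Lib.Spor.ThD2
import Cfsg.Agent.Lib.Spor.ThD3
import Cfsg.Agent.Lib.Spor.ThD4
import Cfsg.Agent.Lib.Spor.ThD5
import Cfsg.Agent.Lib.Spor.ThD6
import Cfsg.Agent.Lib.Spor.ThD7
import Cfsg.Agent.Lib.Spor.ThR0
import Cfsg.Agent.Lib.Spor.ThR1
import Cfsg.Agent.Lib.Comp.DCos

/-! The Thompson group: the cosets of `³D₄(2):3` fall into finitely many orbits. -/

set_option autoImplicit false
set_option maxRecDepth 100000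
set_option linter.all false

namespace CA.ThO
open Equiv CA.CNet CA.CWord CA.CLevel CA.CSimple CA.CPoint CA.CTodd CA.CPres CA.CLow CA.TCos CA.ThM

noncomputable section

abbrev N := C.grp gens
theorem hq : ∀ r ∈ RH, C.ev r = 1 := fun r hr => Ctx.eq_of_eqW hC (lall_iff.1 rH r hr)
theorem gW (i : ℕ) : C.g i = C.ev (subst gens (nth W [] i)) := by
  by_cases hi : i < 17
  · rw [← (by decide +kernel : ∀ i < 17, nth W [] i = subst gens (nth W [] i)) i hi, ← Ctx.eq_of_eqW hC (hW i hi)]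
    exact (ev_gen _ _).symm
  · obtain ⟨i, rfl⟩ : ∃ j, i = j + 17 := ⟨i - 17, by omega⟩
    rfl
theorem mem (w : Word) : C.ev w ∈ N := ev_mem (fun i => gW i ▸ subst_mem_grp _ _ _) w
theorem ALL_eq : C.grp ALL = N := le_antisymm ((grp_le_iff _).2 fun w _ => mem w) (grp_mono _ (by decide))
def o : Fin C.n := ⟨0, by decide⟩
theorem trans (a : Fin C.n) : ∃ g ∈ N, g o = a := ALL_eq ▸ trans_of_clo hC (p := o) cl0 a
def wd (R : List Word) (w : Word) : Word := R.foldl (fun w x => x ++ 2 * 7 :: w) w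
def fz (w : Word) : Word := w.flatMap fun a => if a = 15 then [14, 5, 1] else [a]
def RI : List Word := RH.take 5 ++ RU
def RZ : List Word := RH.take 5 ++ (RU ++ RU.map winv).map fz
def all8 : List Word := [[0], [2], [4], [6], [8], [10], [12], [14]]

/-- the hypotheses: the relators, the bound for `³D₄(2):3` and one twisting relation -/
structure Hyp {G : Type} [Group G] (g : ℕ → G) : Prop where
  bd : Bound.{0} RH gens 634023936
  hH : ∀ r ∈ RH, ev g r = 1
  hU : ∀ r ∈ RU, ev g r = 1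
  tw : ev g [14, 6, 4, 6, 15] = ev g [6, 4, 6, 2, 4, 6, 0, 2, 4, 6, 8, 6, 4, 6, 2, 4, 0, 2, 0]

variable {G : Type} [Group G] {g : ℕ → G} (hr : Hyp g)
include hr

theorem card_le : Nat.card (C.grp ALL) ≤ 634023936 := ALL_eq ▸ (hr.bd _ C.g hq).2
theorem card : Nat.card N = 634023936 := ALL_eq ▸ low0.card (card_le hr)
theorem base : IsBase N B := ALL_eq ▸ low0.2 (card_le hr)
theorem stab (k : Perm (Fin C.n)) (hg : k ∈ N) (h : k o = o) : k ∈ C.grp SW := by
  rw [← ALL_eq] at hg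
  refine (stab_of_card (m := 17199) hKW (fix_of_mapsP hlk (p := o) fixKW) ?_
    ((card_le hr).trans (Nat.mul_le_mul_left 17199 low1.1))).le ⟨hg, h⟩
  have : ∀ i, ∃ x ∈ C.grp ALL, x • o = i := ALL_eq ▸ trans
  simp only [this]
  rw [Nat.card_congr (Equiv.subtypeUnivEquiv fun _ => trivial), Nat.card_fin]; rfl

theorem exφ : ∃ φ : N →* G, ∀ w, φ ⟨_, mem w⟩ = ev g (subst W w) := by
  obtain ⟨φ, hφ⟩ : ∃ φ : N →* G, ∀ v, φ ⟨_, subst_mem_grp C.g gens v⟩ = ev g (subst gens v) :=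
    DCos.hom_of_bound (gens := gens) hr.bd hq (card hr).ge (g := g) hr.hH
  refine ⟨φ, fun w => ?_⟩
  rw [ev_subst, show (⟨_, mem w⟩ : N) = ev (fun i => (⟨_, subst_mem_grp C.g gens (nth W [] i)⟩ : N)) w from
    Subtype.ext ((congrArg (ev · w) (funext gW)).trans (map_ev N.subtype (fun i => ⟨_, subst_mem_grp _ _ _⟩) w).symm), map_ev]
  congr 1; funext i
  refine (hφ _).trans ?_
  by_cases hi : i < 17
  · rw [(by decide +kernel : ∀ i < 17, subst gens (nth W [] i) = nth W [] i) i hi]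
  · obtain ⟨i, rfl⟩ : ∃ j, i = j + 17 := ⟨i - 17, by omega⟩
    rfl

def φ : N →* G := (exφ hr).choose
theorem hφ (w : Word) : φ hr ⟨_, mem w⟩ = ev g (subst W w) := (exφ hr).choose_spec w
theorem φ_mem (h : N) : φ hr h ∈ grp g gens := by
  obtain ⟨v, hv⟩ := exists_subst h.2
  rw [show h = ⟨_, mem _⟩ from Subtype.ext hv.symm, hφ, ev_subst, ev_subst]
  refine ev_mem (fun i => ?_) v
  rw [← ev_subst]
  by_cases hi : i < 7
  · rw [(by decide +kernel : ∀ i < 7, subst W (nth gens [] i) = subst gens [2 * i]) i hi]; exact subst_mem_grp _ _ _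
  · obtain ⟨i, rfl⟩ : ∃ j, i = j + 7 := ⟨i - 7, by omega⟩
    exact one_mem _
theorem φ_surj {x : G} (hx : x ∈ grp g gens) : ∃ h, φ hr h = x := by
  have : grp g gens ≤ (φ hr).range := by
    rw [grp_le_iff]
    intro w hw
    exact ⟨_, (hφ hr w).trans (congrArg _ ((by decide +kernel : ∀ w ∈ gens, subst W w = w) w hw))⟩
  exact this hx

theorem hRI : ∀ r ∈ RI, ev g r = 1 := fun r h =>
  (List.mem_append.1 h).elim (fun h => hr.hH r (List.mem_of_mem_take h)) (hr.hU r)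
theorem zz : ev g [14, 14, 5, 1] = 1 := ev_of_triv (hRI hr) (k := 11) (s := 0) (by decide +kernel)
theorem ev_fz (w : Word) : ev g (fz w) = ev g w := by
  induction w with
  | nil => rfl
  | cons a w ih =>
    rw [fz, List.flatMap_cons, ev_append, ← fz, ih, ev_cons]
    congr 1
    split_ifs with h
    · subst h
      have := zz hr
      rw [show [14, 14, 5, 1] = [2 * 7] ++ [14, 5, 1] from rfl, ev_append, ev_gen] at this
      exact eq_inv_of_mul_eq_one_right this
    · simp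
theorem hRZ : ∀ r ∈ RZ, ev g r = 1 := by
  intro r h
  rcases List.mem_append.1 h with h | h
  · exact hr.hH r (List.mem_of_mem_take h)
  obtain ⟨r', hr', rfl⟩ := List.mem_map.1 h
  rw [ev_fz hr]
  rcases List.mem_append.1 hr' with h | h
  · exact hr.hU r' h
  · obtain ⟨r'', hr'', rfl⟩ := List.mem_map.1 h
    rw [ev_winv, hr.hU r'' hr'', inv_one]

theorem tw0 (i : ℕ) : MulAut.conj (g 7) (ev g (nth S0 [] i)) = ev g (nth T0 [] i) := by
  have e : ∀ w, ev g (2 * 7 :: (w ++ [15])) = MulAut.conj (g 7) (ev g w) := fun w => by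
    rw [ev_cons, lv_even, ev_append, MulAut.conj_apply, mul_assoc]; simp [lv]
  by_cases hi : i < 6
  · obtain ⟨k, -, h⟩ := (by decide +kernel : ∀ i < 6, ∃ k ∈ [(12, 1), (14, 1), (16, 1), (25, 2), (20, 1), (26, 4)],
      triv RI ((2 * 7 :: (nth S0 [] i ++ [15])) ++ winv (nth T0 [] i)) k.1 k.2 = true) i hi
    have := ev_of_triv (hRI hr) h
    rwa [ev_append, ev_winv, mul_inv_eq_one, e] at this
  · by_cases h6 : i = 6
    · subst h6; exact (e _).symm.trans hr.tw
    · obtain ⟨i, rfl⟩ : ∃ j, i = j + 7 := ⟨i - 7, by omega⟩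
      exact map_one _

theorem tw1 (i : ℕ) : MulAut.conj (g 7) (ev g (subst W (nth SW [] i))) = ev g (subst W (nth KW [] i)) := by
  by_cases hi : i < 5
  · obtain ⟨a1, a2⟩ := (by decide +kernel : ∀ i < 5, subst W (subst S0 (nth V [] i)) = subst S0 (nth V [] i) ∧
      subst W (subst T0 (nth V [] i)) = subst T0 (nth V [] i)) i hi
    have b : ∀ {u v : Word}, C.eqW u v = true → ev g (subst W u) = ev g (subst W v) := fun h => by
      rw [← hφ hr, ← hφ hr]; exact congrArg _ (Subtype.ext (Ctx.eq_of_eqW hC h))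
    rw [b (hV i hi).1, b (hV i hi).2, a1, a2, ev_subst, ev_subst]
    exact (map_ev (MulAut.conj (g 7)).toMonoidHom _ _).trans (congrArg (ev · _) (funext (tw0 hr)))
  · obtain ⟨i, rfl⟩ : ∃ j, i = j + 5 := ⟨i - 5, by omega⟩
    exact map_one _

theorem tw2 (v : Word) : g 7 * ev g (subst W (subst SW v)) = ev g (subst W (subst KW v)) * g 7 := by
  rw [← mul_inv_eq_iff_eq_mul, ← MulAut.conj_apply, ev_subst, ev_subst, ev_subst, ev_subst]
  refine (map_ev (MulAut.conj (g 7)).toMonoidHom _ _).trans (congrArg (ev · _) (funext fun i => ?_))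
  rw [← ev_subst, ← ev_subst]; exact tw1 hr i

def S : Sys C N (G ⧸ grp g gens) KW SW where
  ρ := (MulAction.toPermHom G _).comp (φ hr)
  Z ξ := g 7 • ξ
  p j := ev g (nth PW [] j) • ((1 : G) : G ⧸ grp g gens)
  mem := mem
  tw v ξ := by
    show g 7 • φ hr _ • ξ = φ hr _ • g 7 • ξ
    rw [hφ, hφ, smul_smul, smul_smul, tw2 hr v]
  h0 h := (QuotientGroup.eq.2 (by simpa using φ_mem hr h) :
    ((φ hr h * (1 * 1) : G) : G ⧸ grp g gens) = (1 * 1 : G))

theorem ρ_w (w : Word) (ξ : G ⧸ grp g gens) : (S hr).ρ ((S hr).w w) ξ = ev g (subst W w) • ξ := by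
  show φ hr ⟨_, mem w⟩ • ξ = _
  rw [hφ]

theorem app_eq {R : List (Word × Word)} (h : ∀ x ∈ R, subst W x.2 = x.2 ∧ eqQ lk B x = true) (w : Word) (ξ : G ⧸ grp g gens) :
    (S hr).app (R.map Prod.fst) (ev g w • ξ) = ev g (wd (R.map Prod.snd) w) • ξ := by
  induction R generalizing w with
  | nil => rfl
  | cons x R ih =>
    refine Eq.trans (congrArg ((S hr).app (R.map Prod.fst)) ?_) (ih (fun x hx => h x (by simp [hx])) (x.2 ++ 2 * 7 :: w))
    show (S hr).ρ ((S hr).w x.1) (g 7 • _) = _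
    rw [(S hr).w_eq hlk (base hr) (h x (by simp)).2, ρ_w, (h x (by simp)).1, ev_append, ev_cons, lv_even, mul_smul, mul_smul]

theorem relS : ∀ R ∈ RL, (S hr).Rel R := fun R hR ξ => by
  obtain ⟨P, -, rfl, h1, h2⟩ := (by decide +kernel : ∀ R ∈ RL, ∃ P ∈ RP, R = P.1.map Prod.fst ∧
    (∀ x ∈ P.1, subst W x.2 = x.2 ∧ eqQ lk B x = true) ∧ (P.1 = [] ∨ triv RZ (wd (P.1.map Prod.snd) []) P.2.1 P.2.2 = true)) R hR
  rcases h2 with h2 | h2
  · rw [h2]; rfl
  have := app_eq hr h1 [] ξ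
  rwa [ev_of_triv (hRZ hr) h2, ev_nil, one_smul] at this

theorem hA : ∀ e ∈ A, (S hr).Holds e := fun e he => by
  obtain ⟨a1, a2, a4⟩ := (by decide +kernel : ∀ e ∈ A, e.t = 1 ∧ e.h = [] ∧
    nth PW [] e.j = 2 * 7 :: (subst W e.w ++ nth PW [] e.i)) e he
  refine ⟨fun h => by omega, fun _ => ?_⟩
  rw [a2, (S hr).w_nil, map_one, ρ_w]
  show g 7 • ev g _ • ev g (nth PW [] e.i) • ((1 : G) : G ⧸ grp g gens) = ev g (nth PW [] e.j) • ((1 : G) : G ⧸ grp g gens)
  rw [a4, ev_cons, lv_even, ev_append, mul_smul, mul_smul]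

theorem holds : ∀ q < 4241, (S hr).Holds (F q) := by
  have h0 : ∀ q < 0, (S hr).Holds (F q) := by simp
  have h1 := allD2_sound hlk (base hr) (hA hr) (relS hr) rfl h0 hD0 (t' := 117) rfl
  have h2 := allD2_sound hlk (base hr) (hA hr) (relS hr) rfl h1 hD1 (t' := 268) rfl
  have h3 := allD2_sound hlk (base hr) (hA hr) (relS hr) rfl h2 hD2 (t' := 405) rfl
  have h4 := allD2_sound hlk (base hr) (hA hr) (relS hr) rfl h3 hD3 (t' := 550) rfl
  have h5 := allD2_sound hlk (base hr) (hA hr) (relS hr) rfl h4 hD4 (t' := 693) rfl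
  have h6 := allD2_sound hlk (base hr) (hA hr) (relS hr) rfl h5 hD5 (t' := 836) rfl
  have h7 := allD2_sound hlk (base hr) (hA hr) (relS hr) rfl h6 hD6 (t' := 979) rfl
  have h8 := allD2_sound hlk (base hr) (hA hr) (relS hr) rfl h7 hD7 (t' := 1126) rfl
  have h9 := allD2_sound hlk (base hr) (hA hr) (relS hr) rfl h8 hD8 (t' := 1273) rfl
  have h10 := allD2_sound hlk (base hr) (hA hr) (relS hr) rfl h9 hD9 (t' := 1416) rfl
  have h11 := allD2_sound hlk (base hr) (hA hr) (relS hr) rfl h10 hD10 (t' := 1559) rfl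
  have h12 := allD2_sound hlk (base hr) (hA hr) (relS hr) rfl h11 hD11 (t' := 1700) rfl
  have h13 := allD2_sound hlk (base hr) (hA hr) (relS hr) rfl h12 hD12 (t' := 1848) rfl
  have h14 := allD2_sound hlk (base hr) (hA hr) (relS hr) rfl h13 hD13 (t' := 1991) rfl
  have h15 := allD2_sound hlk (base hr) (hA hr) (relS hr) rfl h14 hD14 (t' := 2132) rfl
  have h16 := allD2_sound hlk (base hr) (hA hr) (relS hr) rfl h15 hD15 (t' := 2280) rfl
  have h17 := allD2_sound hlk (base hr) (hA hr) (relS hr) rfl h16 hD16 (t' := 2422) rfl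
  have h18 := allD2_sound hlk (base hr) (hA hr) (relS hr) rfl h17 hD17 (t' := 2548) rfl
  have h19 := allD2_sound hlk (base hr) (hA hr) (relS hr) rfl h18 hD18 (t' := 2674) rfl
  have h20 := allD2_sound hlk (base hr) (hA hr) (relS hr) rfl h19 hD19 (t' := 2801) rfl
  have h21 := allD2_sound hlk (base hr) (hA hr) (relS hr) rfl h20 hD20 (t' := 2928) rfl
  have h22 := allD2_sound hlk (base hr) (hA hr) (relS hr) rfl h21 hD21 (t' := 3051) rfl
  have h23 := allD2_sound hlk (base hr) (hA hr) (relS hr) rfl h22 hD22 (t' := 3173) rfl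
  have h24 := allD2_sound hlk (base hr) (hA hr) (relS hr) rfl h23 hD23 (t' := 3294) rfl
  have h25 := allD2_sound hlk (base hr) (hA hr) (relS hr) rfl h24 hD24 (t' := 3421) rfl
  have h26 := allD2_sound hlk (base hr) (hA hr) (relS hr) rfl h25 hD25 (t' := 3544) rfl
  have h27 := allD2_sound hlk (base hr) (hA hr) (relS hr) rfl h26 hD26 (t' := 3661) rfl
  have h28 := allD2_sound hlk (base hr) (hA hr) (relS hr) rfl h27 hD27 (t' := 3774) rfl
  have h29 := allD2_sound hlk (base hr) (hA hr) (relS hr) rfl h28 hD28 (t' := 3894) rfl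
  have h30 := allD2_sound hlk (base hr) (hA hr) (relS hr) rfl h29 hD29 (t' := 4014) rfl
  have h31 := allD2_sound hlk (base hr) (hA hr) (relS hr) rfl h30 hD30 (t' := 4130) rfl
  have h32 := allD2_sound hlk (base hr) (hA hr) (relS hr) rfl h31 hD31 (t' := 4241) rfl
  exact h32

omit hr in
theorem hj' : ∀ q < 4241, (F q).j < cls.length := fun q hq => by
  have := CMat.allR_spec hj hq
  rwa [Nat.blt_eq] at this

theorem hcls (j : ℕ) : (S hr).O (nth cls 0 j) = (S hr).O j ∨ cls.length ≤ j := by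
  by_cases h : j < 11
  · left; rw [(by decide +kernel : ∀ j < 11, nth cls 0 j = j) j h]
  · exact .inr (Nat.not_lt.1 h)

theorem row (i : ℕ) (hi : i < 11) : (S hr).Row o 11 i (nth MM [] i) := by
  interval_cases i
  exacts [(S hr).row0 hC (by simpa [Sys.w_nil] using (hA hr ⟨1, 0, [], 1, []⟩ (by decide)).2 rfl) (by decide) (by decide),
    (S hr).row_of hC hlk rfl (stab hr) (holds hr) (hcls hr) hj' hR1,
    (S hr).row_of hC hlk rfl (stab hr) (holds hr) (hcls hr) hj' hR2,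
    (S hr).row_of hC hlk rfl (stab hr) (holds hr) (hcls hr) hj' hR3,
    (S hr).row_of hC hlk rfl (stab hr) (holds hr) (hcls hr) hj' hR4,
    (S hr).row_of hC hlk rfl (stab hr) (holds hr) (hcls hr) hj' hR5,
    (S hr).row_of hC hlk rfl (stab hr) (holds hr) (hcls hr) hj' hR6,
    (S hr).row_of hC hlk rfl (stab hr) (holds hr) (hcls hr) hj' hR7,
    (S hr).row_of hC hlk rfl (stab hr) (holds hr) (hcls hr) hj' hR8,
    (S hr).row_of hC hlk rfl (stab hr) (holds hr) (hcls hr) hj' hR9,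
    (S hr).row_of hC hlk rfl (stab hr) (holds hr) (hcls hr) hj' hR10]

theorem all (ht : grp g all8 = ⊤) (ξ : G ⧸ grp g gens) : ∃ i < 11, ξ ∈ (S hr).O i := by
  obtain ⟨x, rfl⟩ := QuotientGroup.mk_surjective ξ
  have h1 : ∀ x ∈ grp g gens, ∀ ξ, (∃ i < 11, ξ ∈ (S hr).O i) → ∃ i < 11, x • ξ ∈ (S hr).O i := by
    rintro x hx _ ⟨i, hi, h⟩
    obtain ⟨k, rfl⟩ := φ_surj hr hx
    exact ⟨i, hi, (S hr).O_smul h k⟩
  have h2 : ∀ ξ, (∃ i < 11, ξ ∈ (S hr).O i) → ∃ i < 11, g 7 • ξ ∈ (S hr).O i := by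
    rintro _ ⟨i, hi, h, rfl⟩
    exact (row hr i hi).closed _ h
  have h3 : ∀ ξ, (∃ i < 11, ξ ∈ (S hr).O i) → ∃ i < 11, x • ξ ∈ (S hr).O i := by
    have hx : x ∈ grp g all8 := ht ▸ Subgroup.mem_top x
    have hw : ∀ w ∈ all8, w ∈ gens ∨ w = [2 * 7] := by decide
    induction hx using Subgroup.closure_induction'' with
    | mem x hx =>
      obtain ⟨w, h, rfl⟩ := hx
      rcases hw w h with h | rfl
      · exact h1 _ (mem_grp _ h)
      · rw [ev_gen]; exact h2
    | inv_mem x hx =>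
      obtain ⟨w, h, rfl⟩ := hx
      rcases hw w h with h | rfl
      · exact h1 _ (inv_mem (mem_grp _ h))
      · have := zz hr
        rw [show [14, 14, 5, 1] = [2 * 7] ++ ([2 * 7] ++ subst gens [5, 1]) from rfl, ev_append] at this
        rw [← eq_inv_of_mul_eq_one_right this, ev_append, ev_gen]
        exact fun ξ h => by rw [mul_smul]; exact h2 _ (h1 _ (subst_mem_grp _ _ _) _ h)
    | one => simp
    | mul x y _ _ a b => exact fun ξ h => by rw [mul_smul]; exact a _ (b _ h)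
  have := h3 ((S hr).p 0) ⟨0, by decide, 1, by simp⟩
  rwa [show x • (S hr).p 0 = ((x * (1 * 1) : G) : G ⧸ grp g gens) from rfl, mul_one, mul_one] at this

theorem fin (ht : grp g all8 = ⊤) : Finite G := by
  have := (S hr).O_fin
  have : Finite (G ⧸ grp g gens) := Finite.of_surjective (fun x : Σ i : Fin 11, (S hr).O i => x.2.1) fun ξ => by
    obtain ⟨i, hi, h⟩ := all hr ht ξ
    exact ⟨⟨⟨i, hi⟩, ξ, h⟩, rfl⟩
  have := (hr.bd G g hr.hH).1
  exact Finite.of_equiv _ (Subgroup.groupEquivQuotientProdSubgroup (s := grp g gens)).symm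

theorem hzz (ξ : G ⧸ grp g gens) : (S hr).Z ((S hr).Z ξ) = (S hr).ρ ((S hr).w [0, 4]) ξ := by
  have := zz hr
  rw [show [14, 14, 5, 1] = ([2 * 7] ++ [2 * 7]) ++ winv (subst W [0, 4]) from rfl, ev_append, ev_append, ev_gen, ev_winv,
    mul_inv_eq_one] at this
  show g 7 • g 7 • ξ = _
  rw [smul_smul, this, ρ_w]

theorem O0 : (S hr).O 0 = {(S hr).p 0} :=
  Set.eq_singleton_iff_unique_mem.2 ⟨⟨1, (S hr).h0 1⟩, by rintro _ ⟨k, rfl⟩; exact (S hr).h0 k⟩

def col : List ℕ := [0, 0, 1, 1, 1, 1, 1, 2, 3, 2, 0]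
def pa : List ℕ := [0, 0, 1, 1, 1, 1, 1, 2, 3, 3, 2]
def nn : List ℕ := [1, 17199, 45864, 2201472, 1304576, 105670656, 11741184, 5031936, 8805888, 179712, 8128512]
def mm (i j : ℕ) : ℕ := nth (nth MM [] i) 0 j

theorem A_of {i j : ℕ} (hi : i < 11) (hj : j < 11) (hd : ∀ j' < 11, (S hr).O j' = (S hr).O j → j' = j) :
    (S hr).A i j = 36864 * mm i j := by
  have := (S hr).A_row hC trans (row hr i hi) hj hd
  rw [card hr, ← mm] at this
  replace this : (S hr).A i j * 17199 = 634023936 * mm i j := this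
  omega

theorem orbit_eq (i : ℕ) : MulAction.orbit (grp g gens) ((S hr).p i) = (S hr).O i := Set.ext fun ξ => by
  constructor
  · rintro ⟨⟨x, hx⟩, rfl⟩
    obtain ⟨k, rfl⟩ := φ_surj hr hx
    exact ⟨k, rfl⟩
  · rintro ⟨k, rfl⟩
    exact ⟨⟨_, φ_mem hr k⟩, rfl⟩

variable (hz : g 7 ∉ grp g gens)
include hz

theorem dist (j : ℕ) : j < 11 → ∀ j' < 11, (S hr).O j' = (S hr).O j → j' = j := by
  induction j using Nat.strong_induction_on with | _ j ih => ?_
  intro hj j' hj' h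
  rcases Nat.eq_zero_or_pos j with rfl | h0
  · by_contra e
    obtain ⟨k, hk⟩ := (row hr j' hj').pos _ hC trans hj' ((by decide : ∀ j < 11, j ≠ 0 → mm j j ≠ 0) j' hj' e)
    have a : (S hr).ρ k ((S hr).p j') ∈ (S hr).O j' := ⟨k, rfl⟩
    rw [h, O0] at a hk
    rw [a] at hk
    have b : ((g 7 * (1 * 1) : G) : G ⧸ grp g gens) = (1 * 1 : G) := hk
    exact hz (by simpa using QuotientGroup.eq.1 b)
  · obtain ⟨a1, a2⟩ := (by decide +kernel : ∀ j < 11, 0 < j → nth col 0 j < j ∧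
      ∀ j' < 11, 36864 * mm j' (nth col 0 j) = 36864 * mm j (nth col 0 j) → j' = j ∨ j' < j) j hj h0
    have b := (S hr).A_congr h (nth col 0 j)
    have c := ih _ a1 (a1.trans hj)
    rw [A_of hr hj' (a1.trans hj) c, A_of hr hj (a1.trans hj) c] at b
    exact (a2 j' hj' b).elim id fun l => (ih j' l hj' j hj h.symm).symm

theorem cardO (j : ℕ) : j < 11 → Nat.card ((S hr).O j) = nth nn 0 j := by
  induction j using Nat.strong_induction_on with | _ j ih => ?_
  intro hj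
  rcases Nat.eq_zero_or_pos j with rfl | h0
  · rw [O0]; simp [nn]
  · obtain ⟨a1, a2, a3⟩ := (by decide +kernel : ∀ j < 11, 0 < j → nth pa 0 j < j ∧ 0 < 36864 * mm j (nth pa 0 j) ∧
      36864 * mm j (nth pa 0 j) * nth nn 0 j = 36864 * mm (nth pa 0 j) j * nth nn 0 (nth pa 0 j)) j hj h0
    have l := a1.trans hj
    refine Nat.eq_of_mul_eq_mul_left a2 ?_
    rw [a3, ← ih _ a1 l, ← A_of hr hj l (dist hr hz _ l), ← A_of hr l hj (dist hr hz _ hj), Sys.A_mul, Sys.A_mul,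
      (S hr).c_symm (hzz hr)]

theorem index (ht : grp g all8 = ⊤) : (grp g gens).index = 143127000 := by
  have := (S hr).O_fin
  have : Function.Bijective fun x : Σ i : Fin 11, (S hr).O i => x.2.1 := by
    constructor
    · rintro ⟨i, ξ, a⟩ ⟨j, η, b⟩ (rfl : ξ = η)
      obtain rfl : i = j := Fin.ext (dist hr hz j j.2 i i.2 ((S hr).O_eq a b))
      rfl
    · intro ξ
      obtain ⟨i, hi, h⟩ := all hr ht ξ
      exact ⟨⟨⟨i, hi⟩, ξ, h⟩, rfl⟩
  rw [Subgroup.index, ← Nat.card_congr (Equiv.ofBijective _ this), Nat.card_sigma]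
  rw [Finset.sum_congr rfl fun (i : Fin 11) _ => cardO hr hz i i.2]; decide +kernel

end
end CA.ThO
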