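import Cfsg.Agent.Lib.Spor.ThA18
import Cfsg.Agent.Lib.Spor.ThO
import Cfsg.Agent.Lib.Spor.ThP

/-! Automorphisms of the Thompson group preserve the class of `³D₄(2):3`. -/

set_option autoImplicit false
set_option maxRecDepth 100000

namespace CA.ThA19
open CA.CNet CA.CWord CA.CPres CA.CTodd Subgroup MulAction

def GW7 : List Word :=
  [[14,14],[14,17,17,22,16,16,16,22,16],[14,17,17,19,19,23,16,18],[17,18,16,19,16,22,17,14,3,1,7,9]]
def GW9 : List Word :=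
  [[16,16,16],[14,14,16,23,16,16,22],[14,16,16,16,22,16,16,16,22,3,1],[16,18,16,18,16,23,17,18,3,1,18]]

theorem hA {G : Type} [Group G] {g : ℕ → G} (hr : ThO.Hyp g) (hu : g 7 ∉ grp g ThM.gens)
    (ht : grp g ThO.all8 = ⊤) (φ : ThP.C.grp ThP.gens →* G) (inj : Function.Injective φ)
    (hφ : ∀ v, φ ⟨_, subst_mem_grp ThP.C.g ThP.gens v⟩ = ev g (subst ThP.gens v))
    (rg : φ.range = grp g ThP.gens)
    (D : ThA16.Dat (ThP.C.grp ThP.gens)
      ((ThP.C.grp (GW7.map (subst ThM.W))).subgroupOf (ThP.C.grp ThP.gens))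
      ((ThP.C.grp (GW9.map (subst ThM.W))).subgroupOf (ThP.C.grp ThP.gens)))
    (α : MulAut G) : ∃ x : G, ∀ h ∈ grp g ThP.gens, x⁻¹ * α h * x ∈ grp g ThP.gens := by
  have := ThO.fin hr ht
  have fx : ∀ (i : ℕ) (L : List Word), (∀ w ∈ L, subst ThP.gens (subst ThM.W w) = subst ThM.W w ∧
      ∃ q ∈ [2963, 2964, 2965, 2969, 3714, 3715, 3717, 3719],
        q < 4241 ∧ (ThM.F q).t = 0 ∧ (ThM.F q).i = i ∧ (ThM.F q).j = i ∧ (ThM.F q).h = w) →
      ∀ k ∈ (ThP.C.grp (L.map (subst ThM.W))).subgroupOf (ThP.C.grp ThP.gens),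
        φ k • (ThO.S hr).p i = (ThO.S hr).p i := fun i L hL k hk => by
    have : ThP.C.grp (L.map (subst ThM.W)) ≤
        ((stabilizer G ((ThO.S hr).p i)).comap φ).map (ThP.C.grp ThP.gens).subtype := (grp_le_iff _).2 fun w hw => by
      obtain ⟨w, hw', rfl⟩ := List.mem_map.1 hw
      obtain ⟨e, q, -, a1, a2, a3, a4, a5⟩ := hL w hw'
      have := (ThO.holds hr q a1).1 a2
      rw [a3, a4, a5, ThO.ρ_w, ← e, ← hφ] at this
      exact ⟨_, this.symm, congrArg (ev ThP.C.g) e⟩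
    obtain ⟨k', h1, h2⟩ := this hk
    exact (Subtype.ext h2 : k' = k) ▸ h1
  exact ThA16.conj φ inj (grp g ThM.gens) rg ThP.card (ThO.index hr hu ht) (ThO.S hr).p
    (fun ξ => (ThO.all hr ht ξ).imp fun i h => ⟨h.1, (ThO.orbit_eq hr i).ge h.2⟩)
    (fun i h => by
      rw [ThO.orbit_eq, ThO.cardO hr hu i h]
      exact (by decide +kernel : ∀ i < 11, nth ThO.nn 0 i = ThA16.nn.getD i 0) i h)
    D (fx 7 GW7 (by decide +kernel)) (fx 9 GW9 (by decide +kernel)) α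

end CA.ThA19
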