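import Cfsg.Agent.Lib.Grp.H28Nse
import Cfsg.Agent.Lib.Comp.CSimple

/-! Simplicity of a group of rank 11 with the subdegrees of the Thompson group. -/

set_option autoImplicit false
set_option maxRecDepth 100000

namespace CA.ThS0
open Finset

variable {G : Type*} [Group G] [Finite G] {H : Subgroup G}

/-- the `H`-orbits on the cosets of `H` -/
structure Orb (H : Subgroup G) (k : ℕ) (d : ℕ → ℕ) (O : ℕ → Set (G ⧸ H)) : Prop where
  all : ∀ ξ, ∃ i < k, ξ ∈ O i
  orb : ∀ i < k, ∃ p, MulAction.orbit H p = O i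
  card : ∀ i < k, Nat.card (O i) = d i
  dist : ∀ i < k, ∀ j < k, d i = d j → i = j

theorem Orb.inv_card {k : ℕ} {d : ℕ → ℕ} {O : ℕ → Set (G ⧸ H)} (h : Orb H k d O) (B : Set (G ⧸ H))
    (hB : ∀ x ∈ H, ∀ ξ ∈ B, x • ξ ∈ B) :
    ∃ f : ℕ → Bool, Nat.card B = ∑ i ∈ range k, if f i = true then d i else 0 := by
  classical
  have := Fintype.ofFinite (G ⧸ H)
  choose c hc hm using h.all
  have key : ∀ i < k, ∀ ξ, c ξ = i ↔ ξ ∈ O i := by
    intro i hi ξ
    refine ⟨fun e => e ▸ hm ξ, fun e => ?_⟩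
    obtain ⟨p, hp⟩ := h.orb i hi
    obtain ⟨q, hq⟩ := h.orb _ (hc ξ)
    have e1 : O i = O (c ξ) := by
      rw [← hp, ← hq]
      have a1 : ξ ∈ MulAction.orbit H p := hp ▸ e
      have a2 : ξ ∈ MulAction.orbit H q := hq ▸ hm ξ
      rw [← MulAction.orbit_eq_iff.2 a1, ← MulAction.orbit_eq_iff.2 a2]
    exact h.dist _ (hc ξ) _ hi (by rw [← h.card _ (hc ξ), ← h.card _ hi, e1])
  refine ⟨fun i => decide (O i ⊆ B), ?_⟩
  rw [Nat.card_eq_card_toFinset, Finset.card_eq_sum_card_fiberwise (f := c) (t := range k)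
    (fun ξ _ => by simpa using hc ξ)]
  refine Finset.sum_congr rfl fun i hi => ?_
  have hi := Finset.mem_range.1 hi
  by_cases e : O i ⊆ B
  · rw [if_pos (by simpa using e), ← h.card i hi, Nat.card_eq_card_toFinset]
    congr 1
    ext ξ
    simp only [Finset.mem_filter, Set.mem_toFinset, key i hi]
    exact ⟨fun a => a.2, fun a => ⟨e a, a⟩⟩
  · rw [if_neg (by simpa using e), Finset.card_eq_zero, Finset.filter_eq_empty_iff]
    intro ξ hξ e1
    rw [key i hi] at e1
    obtain ⟨p, hp⟩ := h.orb i hi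
    refine e fun η hη => ?_
    rw [← hp] at hη e1
    rw [← MulAction.orbit_eq_iff.2 e1] at hη
    obtain ⟨x, rfl⟩ := hη
    exact hB x x.2 ξ (Set.mem_toFinset.1 hξ)

theorem card_img (M : Subgroup G) (hM : H ≤ M) :
    Nat.card ((fun x : G => (x : G ⧸ H)) '' (M : Set G)) = H.relIndex M := by
  rw [Subgroup.relIndex, Subgroup.index]
  refine (Nat.card_congr (Equiv.ofBijective (fun q : M ⧸ H.subgroupOf M =>
    (⟨Subgroup.quotientSubgroupOfEmbeddingOfLE H (le_top : M ≤ ⊤) q |> fun r =>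
      Quotient.map' (fun x : (⊤ : Subgroup G) => (x : G)) (fun a b e => by
        rw [QuotientGroup.leftRel_apply] at e ⊢; exact e) r, ?_⟩ :
      ((fun x : G => (x : G ⧸ H)) '' (M : Set G)))) ⟨?_, ?_⟩)).symm
  · induction q using QuotientGroup.induction_on with
    | H x => exact ⟨x, x.2, rfl⟩
  · intro a b e
    induction a using QuotientGroup.induction_on with
    | H x =>
    induction b using QuotientGroup.induction_on with
    | H y =>
    have e1 : ((x : G) : G ⧸ H) = (y : G) := congrArg Subtype.val e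
    exact QuotientGroup.eq.2 (Subgroup.mem_subgroupOf.2 (QuotientGroup.eq.1 e1))
  · rintro ⟨_, x, hx, rfl⟩
    exact ⟨((⟨x, hx⟩ : M) : M ⧸ H.subgroupOf M), rfl⟩

theorem Orb.hmax {k : ℕ} {d : ℕ → ℕ} {O : ℕ → Set (G ⧸ H)} (h : Orb H k d O) {n : ℕ} (hn : H.index = n)
    (hd : ∀ f : ℕ → Bool, ∀ s, s = (∑ i ∈ range k, if f i = true then d i else 0) → s ∣ n → s = 1 ∨ s = n)
    (M : Subgroup G) (hM : H ≤ M) : M = H ∨ M = ⊤ := by
  obtain ⟨f, hf⟩ := h.inv_card ((fun x : G => (x : G ⧸ H)) '' (M : Set G)) (by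
    rintro x hx _ ⟨y, hy, rfl⟩
    exact ⟨x * y, M.mul_mem (hM hx) hy, rfl⟩)
  rw [card_img M hM] at hf
  have e := Subgroup.relIndex_mul_index hM
  rcases hd f _ hf (hn ▸ Dvd.intro _ e) with a | a
  · exact Or.inl (le_antisymm (Subgroup.relIndex_eq_one.1 a) hM)
  · right
    rw [a, hn] at e
    have : n ≠ 0 := hn ▸ Subgroup.index_ne_zero_of_finite
    exact Subgroup.index_eq_one.1 (Nat.eq_of_mul_eq_mul_left (Nat.pos_of_ne_zero this) (e.trans (mul_one n).symm))

theorem Orb.noreg {k : ℕ} {d : ℕ → ℕ} {O : ℕ → Set (G ⧸ H)} (h : Orb H k d O) {n : ℕ} (hn : H.index = n)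
    {p : ℕ} (hp : p.Prime) (h1 : p ∣ n) (h2 : ¬ p ^ 2 ∣ n)
    (hd : ∀ f : ℕ → Bool, ∀ s, s = (∑ i ∈ range k, if f i = true then d i else 0) → (p - 1) ∣ s → ¬ s / (p - 1) * p ∣ n)
    (N : Subgroup G) (hN : N.Normal) (a1 : H ⊓ N = ⊥) (a2 : H ⊔ N = ⊤) : False := by
  have := Fact.mk hp
  have hc : Nat.card N = n := by
    have e := CSimple.card_of_regular hN a1 a2
    rw [← H.index_mul_card, hn] at e
    exact Nat.eq_of_mul_eq_mul_right Nat.card_pos e
  have e1 := H28Nse.card_ord (G := N) (p := p) (hc ▸ h1) (hc ▸ h2)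
  obtain ⟨f, hf⟩ := h.inv_card ((fun x : N => ((x : G) : G ⧸ H)) '' {x | orderOf x = p}) (by
    rintro x hx _ ⟨y, hy, rfl⟩
    refine ⟨⟨x * y * x⁻¹, hN.conj_mem _ y.2 x⟩, ?_, QuotientGroup.eq.2 (by
      show (x * y * x⁻¹)⁻¹ * (x * y) ∈ H
      rw [show (x * y * x⁻¹)⁻¹ * (x * y) = x by group]; exact hx)⟩
    show orderOf _ = p
    rw [← Subgroup.orderOf_coe]
    exact ((MulAut.conj x).orderOf_eq (y : G)).trans ((Subgroup.orderOf_coe y).trans hy))
  have inj : Function.Injective (fun x : N => ((x : G) : G ⧸ H)) := fun x y e => by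
    have : (x : G)⁻¹ * y ∈ H ⊓ N := ⟨QuotientGroup.eq.1 e, N.mul_mem (N.inv_mem x.2) y.2⟩
    rw [a1, Subgroup.mem_bot, inv_mul_eq_one] at this
    exact Subtype.ext this
  rw [Nat.card_image_of_injective inj] at hf
  have e2 : Nat.card {x : N | orderOf x = p} = Nat.card (Sylow p N) * (p - 1) := e1
  have p1 : 0 < p - 1 := by have := hp.two_le; omega
  refine hd f _ hf (e2 ▸ Dvd.intro_left _ rfl) ?_
  rw [e2, Nat.mul_div_cancel _ p1, ← hc]
  obtain ⟨P⟩ : Nonempty (Sylow p N) := inferInstance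
  have a3 : Nat.card (Sylow p N) ∣ (P : Subgroup N).index := P.card_dvd_index
  have a4 : p ∣ Nat.card (P : Subgroup N) := P.dvd_card_of_dvd_card (hc ▸ h1)
  rw [← (P : Subgroup N).index_mul_card]
  exact Nat.mul_dvd_mul a3 a4

def dl : List ℕ := [1, 17199, 45864, 179712, 1304576, 2201472, 5031936, 8128512, 8805888, 11741184, 105670656]

theorem sums (l : List ℕ) (hl : l.Perm dl) (f : ℕ → Bool) :
    (∑ i ∈ range 11, if f i = true then l.getD i 0 else 0) ∈ dl.sublists.map List.sum := by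
  have hlen : l.length = 11 := hl.length_eq
  have : ∃ s : List ℕ, s.Sublist l ∧ s.sum = ∑ i ∈ range l.length, if f i = true then l.getD i 0 else 0 := by
    clear hl hlen
    induction l generalizing f with
    | nil => exact ⟨[], List.Sublist.refl _, rfl⟩
    | cons a l ih =>
      obtain ⟨s, h1, h2⟩ := ih fun i => f (i + 1)
      rw [List.length_cons, Finset.sum_range_succ']
      simp only [List.getD_cons_succ, List.getD_cons_zero]
      rw [← h2]
      by_cases e : f 0 = true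
      · exact ⟨a :: s, h1.cons₂ a, by rw [if_pos e, List.sum_cons, add_comm]⟩
      · exact ⟨s, h1.cons a, by rw [if_neg e, add_zero]⟩
  obtain ⟨s, h1, h2⟩ := this
  rw [← hlen, ← h2]
  obtain ⟨s', a1, a2⟩ := (h1.subperm.trans hl.subperm)
  exact List.mem_map.2 ⟨s', List.mem_sublists.2 a2, a1.sum_eq⟩

theorem chk : ∀ s ∈ dl.sublists.map List.sum, (s ∣ 143127000 → s = 1 ∨ s = 143127000) ∧
    (30 ∣ s → ¬ s / 30 * 31 ∣ 143127000) := by decide +kernel

/-- simplicity from the suborbits -/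
theorem simple {l : List ℕ} (hl : l.Perm dl) {O : ℕ → Set (G ⧸ H)}
    (all : ∀ ξ, ∃ i < 11, ξ ∈ O i) (orb : ∀ i < 11, ∃ p, MulAction.orbit H p = O i)
    (card : ∀ i < 11, Nat.card (O i) = l.getD i 0) (hn : H.index = 143127000)
    (hN : ∀ N : Subgroup G, N.Normal → H ⊓ N = ⊥ ∨ N = ⊤) : IsSimpleGroup G := by
  have nd : l.Nodup := hl.nodup_iff.2 (by decide)
  have hlen : l.length = 11 := hl.length_eq
  have h : Orb H 11 (fun i => l.getD i 0) O := ⟨all, orb, card, fun i hi j hj e => by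
    rw [List.getD_eq_getElem _ _ (hlen ▸ hi), List.getD_eq_getElem _ _ (hlen ▸ hj)] at e
    exact (List.Nodup.getElem_inj_iff nd).1 e⟩
  have hH : H ≠ ⊤ := fun e => by rw [e, Subgroup.index_top] at hn; omega
  have : Nontrivial G := by
    by_contra e
    rw [not_nontrivial_iff_subsingleton] at e
    exact hH (Subsingleton.elim _ _)
  refine ⟨fun N hn' => ?_⟩
  rcases hN N hn' with a | a
  · left
    rcases h.hmax hn (fun f s e => (chk s (e ▸ sums l hl f)).1) (H ⊔ N) le_sup_left with b | b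
    · rw [← a, inf_eq_right.2 (b ▸ le_sup_right)]
    · exact (h.noreg hn (p := 31) (by norm_num) (by norm_num) (by norm_num)
        (fun f s e => (chk s (e ▸ sums l hl f)).2) N hn' a b).elim
  · exact Or.inr a

end CA.ThS0
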