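import Cfsg.Agent.Lib.Spor.ThP
import Cfsg.Agent.Lib.Spor.ThS0
import Cfsg.Agent.Lib.Comp.DCos

/-! The Thompson group: normal subgroups meet `³D₄(2):3` trivially or are everything. -/

set_option autoImplicit false
set_option maxRecDepth 100000

namespace CA.ThS
open Equiv CA.CNet CA.CWord CA.CLevel CA.CSimple CA.CPoint CA.CTodd CA.CPres CA.CLow CA.ThP
open CA.ThRel (rels)

theorem one_of {Q : Type*} [Group Q] {x : Q} {m n : ℕ} (hm : x ^ m = 1) (hn : x ^ n = 1) (h : Nat.Coprime m n) : x = 1 :=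
  orderOf_eq_one_iff.1 (Nat.eq_one_of_dvd_coprimes h (orderOf_dvd_of_pow_eq_one hm) (orderOf_dvd_of_pow_eq_one hn))

theorem triv_of {Q : Type*} [Group Q] {g : ℕ → Q} (hr : ∀ r ∈ rels, ev g r = 1) (h0 : g 0 = 1) :
    ∀ w ∈ ThRel.gens, ev g w = 1 := by
  have r1 := hr [2,2] (by decide +kernel)
  have r2 := hr [4,4] (by decide +kernel)
  have r3 := hr [6,6] (by decide +kernel)
  have r5 := hr [0,2,0,2,0,2] (by decide +kernel)
  have r7 := hr [2,4,2,4,2,4] (by decide +kernel)
  have r12 := hr (wpow [6,8] 3) (by decide +kernel)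
  have r13 := hr (wpow [2,4,6,8] 8) (by decide +kernel)
  have r14 := hr (wpow [10] 7) (by decide +kernel)
  have r18 := hr [10,6,10,6] (by decide +kernel)
  have r19 := hr [9,11,8,10,11,11,11,9,10,10,10] (by decide +kernel)
  have r20 := hr [12,12,12] (by decide +kernel)
  have r27 := hr [14,14,5,1] (by decide +kernel)
  have r34 := hr [15,12,14,12] (by decide +kernel)
  have r36 := hr [0,4,11,15,11,15,11,15] (by decide +kernel)
  rw [ev_wpow] at r12 r13 r14
  simp only [ev, List.map, List.prod_cons, List.prod_nil, lv, Nat.reduceMod, Nat.reduceDiv, if_true, one_ne_zero,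
    if_false, mul_one, h0, one_mul, inv_one, Nat.zero_mod, Nat.zero_div] at r1 r2 r3 r5 r7 r12 r13 r14 r18 r19 r20 r27 r34 r36
  have h1 : g 1 = 1 := by rw [r1, mul_one] at r5; exact r5
  simp only [h1, one_mul] at r7 r13
  have h2 : g 2 = 1 := by rw [r2, mul_one] at r7; exact r7
  simp only [h2, one_mul, inv_one, mul_one] at r13 r27 r36
  have h34 : g 3 * g 4 = 1 := one_of r12 r13 (by norm_num)
  have i3 : (g 3)⁻¹ = g 3 := inv_eq_of_mul_eq_one_right r3
  have h4 : g 4 = g 3 := by rw [← i3]; exact eq_inv_of_mul_eq_one_right h34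
  rw [h4, i3] at r19
  have e1 : g 3 * (g 5)⁻¹ * g 3 = g 5 := by
    have : g 3 * g 5 * g 3 = (g 5)⁻¹ := eq_inv_of_mul_eq_one_right (by simpa only [mul_assoc] using r18)
    rw [← this]
    calc g 3 * (g 3 * g 5 * g 3) * g 3 = (g 3 * g 3) * g 5 * (g 3 * g 3) := by group
      _ = g 5 := by rw [r3, one_mul, mul_one]
  have e2 : g 3 = (g 5)⁻¹ * (g 5)⁻¹ := by
    have : g 3 * (g 5)⁻¹ * g 3 * ((g 5)⁻¹ * (g 5)⁻¹ * g 3 * (g 5 * g 5 * g 5)) = 1 := by
      rw [← r19]; group
    rw [e1] at this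
    calc g 3 = g 5 * (g 5 * ((g 5)⁻¹ * (g 5)⁻¹ * g 3 * (g 5 * g 5 * g 5))) * ((g 5)⁻¹ * (g 5)⁻¹ * (g 5)⁻¹) := by group
      _ = _ := by rw [this]; group
  have h5 : g 5 = 1 := one_of (m := 4) (by
    rw [e2] at r3
    calc g 5 ^ 4 = ((g 5)⁻¹ * (g 5)⁻¹ * ((g 5)⁻¹ * (g 5)⁻¹))⁻¹ := by group
      _ = 1 := by rw [r3, inv_one]) r14 (by norm_num)
  have h3 : g 3 = 1 := by rw [e2, h5]; simp
  simp only [h5, inv_one, one_mul] at r36
  have h7 : g 7 = 1 := one_of (m := 2) (n := 3) (by rw [pow_two]; exact r27) (by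
    calc g 7 ^ 3 = ((g 7)⁻¹ * ((g 7)⁻¹ * (g 7)⁻¹))⁻¹ := by group
      _ = 1 := by rw [r36, inv_one]) (by norm_num)
  simp only [h7, inv_one, one_mul] at r34
  have h6 : g 6 = 1 := by rw [r34, mul_one] at r20; exact r20
  intro w hw
  simp only [ThRel.gens, List.mem_cons, List.not_mem_nil, or_false] at hw
  rcases hw with rfl | rfl | rfl | rfl | rfl | rfl | rfl | rfl
  exacts [(ev_gen g 0).trans h0, (ev_gen g 1).trans h1, (ev_gen g 2).trans h2, (ev_gen g 3).trans h3,
    (ev_gen g 4).trans (h4.trans h3), (ev_gen g 5).trans h5, (ev_gen g 6).trans h6, (ev_gen g 7).trans h7]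

theorem normD : C.grp gens ≤ Subgroup.normalizer (C.grp gD : Set (Perm (Fin C.n))) := by
  refine (grp_le_iff _).2 fun u hu => Subgroup.mem_normalizer_fintype fun x hx => ?_
  have : C.grp gD ≤ (C.grp gD).comap (MulAut.conj (C.ev u)).toMonoidHom := by
    refine (grp_le_iff _).2 fun w hw => ?_
    by_cases h : u ∈ gD
    · exact Subgroup.mul_mem _ (Subgroup.mul_mem _ (mem_grp _ h) (mem_grp _ hw)) (Subgroup.inv_mem _ (mem_grp _ h))
    obtain ⟨v, -, h⟩ := (by decide +kernel : ∀ u ∈ gens, u ∉ gD → ∀ w ∈ gD, ∃ v ∈ [[0],[2],[4],[6],[8],[10,10,10,10]],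
      C.eqW (u ++ w ++ winv u) (subst gD v) = true) u hu h w hw
    have e := Ctx.eq_of_eqW hC h
    rw [Ctx.ev, ev_append, ev_append, ev_winv] at e
    show ev C.g u * ev C.g w * (ev C.g u)⁻¹ ∈ C.grp gD
    rw [e]
    exact subst_mem_grp _ _ _
  exact this hx

theorem cenD {x : Perm (Fin C.n)} (h : ∀ d ∈ C.grp gD, x * d = d * x) : x = 1 := by
  have h0 : x ⟨0, by decide⟩ = ⟨0, by decide⟩ := by
    refine Fin.ext ((by decide +kernel : ∀ q < 819, (∀ w ∈ sD, C.maps w q q = true) → q = 0) _ (x _).2 fun w hw => ?_)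
    have a1 : C.ev w ⟨0, by decide⟩ = ⟨0, by decide⟩ := Fin.ext ((Ctx.maps_iff hC (p := ⟨0, by decide⟩)).1
      ((by decide +kernel : ∀ w ∈ sD, C.maps w 0 0 = true) w hw))
    have a2 := congrArg (· (⟨0, by decide⟩ : Fin C.n))
      (h (C.ev w) (mem_grp _ ((by decide +kernel : ∀ w ∈ sD, w ∈ gD) w hw)))
    simp only [Perm.mul_apply, a1] at a2
    exact (Ctx.maps_iff hC).2 (congrArg Fin.val a2.symm)
  ext i
  obtain ⟨d, hd, rfl⟩ := transD i
  have := congrArg (· (⟨0, by decide⟩ : Fin C.n)) (h d hd)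
  simp only [Perm.mul_apply, h0] at this
  rw [this]; rfl

theorem key (M : Subgroup (C.grp gens)) (hM : M.Normal) :
    M = ⊥ ∨ (C.grp gD).subgroupOf (C.grp gens) ≤ M := by
  have := simpleD
  have : IsSimpleGroup ((C.grp gD).subgroupOf (C.grp gens)) := (Subgroup.subgroupOfEquivOfLe gD_le).isSimpleGroup
  have hD : ((C.grp gD).subgroupOf (C.grp gens)).Normal := (Subgroup.normal_subgroupOf_iff_le_normalizer gD_le).2 normD
  rcases (hM.subgroupOf ((C.grp gD).subgroupOf (C.grp gens))).eq_bot_or_eq_top with h | h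
  · left
    rw [eq_bot_iff]
    intro m hm
    refine Subtype.ext (cenD fun d hd => ?_)
    exact congrArg Subtype.val (Subgroup.commute_of_normal_of_disjoint M _ hM hD (Subgroup.subgroupOf_eq_bot.1 h)
      m ⟨d, gD_le hd⟩ hm hd).eq
  · exact Or.inr (Subgroup.subgroupOf_eq_top.1 h)

variable {G : Type} [Group G] {g : ℕ → G} (hr : ∀ r ∈ rels, ev g r = 1)
include hr

theorem exφ : ∃ φ : C.grp gens →* G, ∀ v, φ ⟨_, subst_mem_grp C.g gens v⟩ = ev g (subst gens v) :=
  DCos.hom_of_bound (gens := gens) ThH.b_H hrel card.ge (g := g)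
    fun r h => hr r (List.mem_of_mem_take (ThH.relsH_eq ▸ h))

noncomputable def φ : C.grp gens →* G := (exφ hr).choose
theorem hφ (v : Word) : φ hr ⟨_, subst_mem_grp C.g gens v⟩ = ev g (subst gens v) := (exφ hr).choose_spec v

theorem range : (φ hr).range = grp g gens := by
  apply le_antisymm
  · rintro _ ⟨h, rfl⟩
    obtain ⟨v, hv⟩ := exists_subst h.2
    rw [show h = ⟨_, subst_mem_grp C.g gens v⟩ from Subtype.ext hv.symm, hφ]
    exact subst_mem_grp _ _ _
  · rw [grp_le_iff]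
    intro w hw
    exact ⟨_, (hφ hr w).trans (congrArg _ ((by decide +kernel : ∀ w ∈ gens, subst gens w = w) w hw))⟩

theorem a_mem {M : Subgroup G} (h : (C.grp gD).subgroupOf (C.grp gens) ≤ M.comap (φ hr)) : g 0 ∈ M := by
  have := h (x := ⟨_, subst_mem_grp C.g gens [0]⟩) (mem_grp C.g (ws := gD) (w := [0]) (by decide))
  rw [Subgroup.mem_comap, hφ] at this
  exact (ev_gen g 0 ▸ this :)

/-- a normal subgroup meets `H` trivially or is everything -/
theorem norm (ht : grp g ThRel.gens = ⊤) (N : Subgroup G) (hN : N.Normal) : grp g gens ⊓ N = ⊥ ∨ N = ⊤ := by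
  rcases key (N.comap (φ hr)) (hN.comap _) with h | h
  · left
    rw [eq_bot_iff, ← range hr]
    rintro _ ⟨⟨y, rfl⟩, hy⟩
    have : y ∈ N.comap (φ hr) := hy
    rw [h, Subgroup.mem_bot] at this
    rw [this, map_one]; exact Subgroup.one_mem _
  · right
    rw [eq_top_iff, ← ht, grp_le_iff]
    intro w hw
    have := triv_of (g := fun i => QuotientGroup.mk' N (g i)) (fun r h => by rw [← map_ev, hr r h, map_one])
      ((QuotientGroup.eq_one_iff _).2 (a_mem hr h)) w hw
    rw [← map_ev] at this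
    exact (QuotientGroup.eq_one_iff _).1 this

theorem inj (hu : g 7 ∉ grp g gens) : Function.Injective (φ hr) := by
  rw [← MonoidHom.ker_eq_bot_iff]
  rcases key (φ hr).ker inferInstance with h | h
  · exact h
  · have h0 : g 0 = 1 := Subgroup.mem_bot.1 (a_mem hr (M := ⊥) h)
    have := triv_of hr h0 [14] (by decide)
    exact absurd ((ev_gen g 7).symm.trans this ▸ Subgroup.one_mem _) hu

theorem cardH (hu : g 7 ∉ grp g gens) : Nat.card (grp g gens) = 634023936 := by
  rw [← range hr, ← card]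
  exact (Nat.card_congr (MonoidHom.ofInjective (inj hr hu)).toEquiv).symm

/-- order and simplicity from the suborbits -/
theorem isTh (ht : grp g ThRel.gens = ⊤) {l : List ℕ} (hl : l.Perm ThS0.dl) {O : ℕ → Set (G ⧸ grp g gens)}
    (all : ∀ ξ, ∃ i < 11, ξ ∈ O i) (orb : ∀ i < 11, ∃ p, MulAction.orbit (grp g gens) p = O i)
    (card : ∀ i < 11, Nat.card (O i) = l.getD i 0) (hn : (grp g gens).index = 143127000) :
    IsSimpleGroup G ∧ Nat.card G = 90745943887872000 := by
  have hu : g 7 ∉ grp g gens := fun h => by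
    have : grp g gens = ⊤ := by
      rw [eq_top_iff, ← ht, grp_le_iff]
      intro w hw
      rcases (by decide +kernel : ∀ w ∈ ThRel.gens, w ∈ gens ∨ w = [14]) w hw with a | rfl
      exacts [mem_grp _ a, (ev_gen g 7).symm ▸ h]
    rw [this, Subgroup.index_top] at hn; omega
  have a3 := (grp g gens).index_mul_card
  rw [hn, cardH hr hu] at a3
  have : Finite G := Nat.finite_of_card_ne_zero (by rw [← a3]; decide)
  exact ⟨ThS0.simple hl all orb card hn (norm hr ht), a3.symm⟩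

end CA.ThS
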