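import Cfsg.Agent.Lib.Spor.ThCd
import Cfsg.Agent.Lib.Spor.ThS

/-! The order of the involution centraliser of the Thompson group, by double counting. -/

set_option autoImplicit false
set_option maxRecDepth 100000

namespace CA.ThC28
open Equiv Finset CA.CNet CA.CWord CA.CLevel CA.CSimple CA.CPoint CA.CTodd CA.CPres CA.CLow CA.ThP CA.ThCd
open CA.ThRel (rels)

theorem sum_orb {G : Type*} [Group G] {H : Subgroup G} [Fintype (G ⧸ H)] {k : ℕ} {d : ℕ → ℕ} {pt : ℕ → G ⧸ H}
    (all : ∀ ξ, ∃ i < k, ξ ∈ MulAction.orbit H (pt i)) (card : ∀ i < k, Nat.card (MulAction.orbit H (pt i)) = d i)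
    (dist : ∀ i < k, ∀ j < k, d i = d j → i = j) (f : G ⧸ H → ℕ) (hf : ∀ (x : H) ξ, f (x • ξ) = f ξ) :
    ∑ ξ, f ξ = ∑ i ∈ range k, d i * f (pt i) := by
  classical
  choose c hc hm using all
  rw [← Finset.sum_fiberwise_of_maps_to (g := c) (t := range k) (fun ξ _ => by simpa using hc ξ)]
  refine Finset.sum_congr rfl fun i hi => ?_
  have hi := Finset.mem_range.1 hi
  have key : ∀ ξ, c ξ = i ↔ ξ ∈ MulAction.orbit H (pt i) := fun ξ => ⟨fun e => e ▸ hm ξ, fun e =>
    dist _ (hc ξ) _ hi (by rw [← card _ (hc ξ), ← card _ hi, ← MulAction.orbit_eq_iff.2 e, ← MulAction.orbit_eq_iff.2 (hm ξ)])⟩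
  rw [Finset.sum_const_nat (m := f (pt i)), ← card i hi, Nat.card_eq_card_toFinset]
  · congr 2
    ext ξ
    simp only [Finset.mem_filter, Finset.mem_univ, true_and, Set.mem_toFinset, key]
  · intro ξ hξ
    obtain ⟨x, rfl⟩ := (key ξ).1 (Finset.mem_filter.1 hξ).2
    exact hf x _

theorem one_orb {n : ℕ} {A : Subgroup (Perm (Fin n))} {Y : Finset (Fin n)} (hY : ∀ x ∈ A, ∀ p ∈ Y, x p ∈ Y) {T b : ℕ}
    (h : ∀ i : Fin n, T.testBit i = true → ∃ x ∈ A, (x i : ℕ) = b) :
    (Y.filter fun i : Fin n => T.testBit i = true).card = 0 ∨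
      (Y.filter fun i : Fin n => T.testBit i = true).card = (univ.filter fun i : Fin n => T.testBit i = true).card := by
  rcases (Y.filter fun i : Fin n => T.testBit i = true).eq_empty_or_nonempty with e | ⟨p, hp⟩
  · exact Or.inl (by rw [e, Finset.card_empty])
  · right
    obtain ⟨h1, h2⟩ := Finset.mem_filter.1 hp
    obtain ⟨x, hx, e⟩ := h p h2
    congr 1
    ext i
    simp only [Finset.mem_filter, Finset.mem_univ, true_and, and_iff_right_iff_imp]
    intro hi
    obtain ⟨y, hy, e'⟩ := h i hi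
    have := hY _ (A.mul_mem (A.inv_mem hy) hx) p h1
    rwa [Perm.mul_apply, (Fin.ext (e.trans e'.symm) : x p = y i), show y⁻¹ (y i) = i from y.symm_apply_apply i] at this

def o : Fin C.n := ⟨0, by decide⟩

theorem comm {x : Perm (Fin C.n)} (hx : x ∈ C.grp gens) (h : x o = o) : x * C.ev [0] = C.ev [0] * x := by
  have : C.grp sC ≤ Subgroup.centralizer {C.ev [0]} := by
    refine (grp_le_iff _).2 fun w hw => Subgroup.mem_centralizer_singleton_iff.2 ?_
    have := Ctx.eq_of_eqW hC ((by decide +kernel : ∀ w ∈ sC, C.eqW (w ++ [0]) ([0] ++ w) = true) w hw)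
    rwa [Ctx.ev, Ctx.ev, ev_append, ev_append] at this
  exact Subgroup.mem_centralizer_singleton_iff.1 (this (stabH.le ⟨hx, h⟩))

theorem evmem (w : Word) : C.ev w ∈ C.grp gens := ev_mem (fun i => by
  by_cases h : i < 7
  · exact ev_gen C.g i ▸ mem_grp C.g ((by decide : ∀ i < 7, [2 * i] ∈ gens) i h)
  · obtain ⟨i, rfl⟩ : ∃ j, i = j + 7 := ⟨i - 7, by omega⟩
    exact Subgroup.one_mem _) w

/-- the checked facts about the conjugate of `a` attached to a point -/
theorem tab {x : Perm (Fin C.n)} (hx : x ∈ C.grp gens) :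
    (x * C.ev [0] * x⁻¹ = C.ev [0] → x o = o) ∧ ∀ i, 0 < i → i < 11 → x * C.ev [0] * x⁻¹ ∈ C.grp (nth GW [] i) →
      (nth TA 0 i).testBit (x o) = true ∨ (nth TB 0 i).testBit (x o) = true := by
  obtain ⟨⟨p, w⟩, hw, e⟩ := List.mem_map.1 (cov ▸ List.mem_range.2 (x o).2 : ((x o : Fin C.n) : ℕ) ∈ WP.map Prod.fst)
  obtain rfl : p = x o := e
  obtain ⟨h1, h2⟩ := band_iff.1 (call _ hw)
  obtain ⟨h2, h3⟩ := band_iff.1 h2
  have a1 : C.ev w o = x o := Fin.ext (mapsP_spec hlk (p := o) h1)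
  have a2 : x * C.ev [0] * x⁻¹ = C.ev (cw w) := by
    have := comm (Subgroup.mul_mem _ (Subgroup.inv_mem _ (evmem w)) hx) (by rw [Perm.mul_apply, ← a1]; exact (C.ev w).symm_apply_apply _)
    rw [show C.ev (cw w) = C.ev w * (C.ev [0] * (C.ev w)⁻¹) from by
      rw [cw, Ctx.ev, ev_lapp, show (0 :: winv w) = [0] ++ winv w from rfl, ev_append, ev_winv]]
    calc x * C.ev [0] * x⁻¹ = C.ev w * ((C.ev w)⁻¹ * x * C.ev [0]) * x⁻¹ := by group
      _ = _ := by rw [this]; group
  rw [a2]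
  refine ⟨fun e => ?_, fun i h0 hi hm => ?_⟩
  · rcases Bool.or_eq_true_iff.1 h2 with h | h
    · exact Fin.ext (Nat.eq_of_beq_eq_true h)
    · obtain ⟨t, ht, h⟩ := lany_spec h
      have b1 := ipt_eq hlk (cw w) ⟨t, hTS t ht⟩
      have b2 := ipt_eq hlk [0] ⟨t, hTS t ht⟩
      rw [e, ← b2] at b1
      simp only at b1 h
      rw [b1, Nat.beq_refl] at h
      exact absurd h (by decide)
  · have h := lall_iff.1 h3 i (by interval_cases i <;> decide)
    rcases Bool.or_eq_true_iff.1 h with h | h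
    · simpa only [tb_eq, Bool.or_eq_true] using h
    · obtain ⟨t, ht, h⟩ := lany_spec h
      have b1 := ipt_eq hlk (cw w) ⟨t, hTS t ht⟩
      have b2 := Ctx.inv_spec hC (hU i hi) (Subgroup.inv_mem _ hm) ⟨t, hTS t ht⟩
      simp only at b1 h b2
      rw [b1, tb_eq, tb_eq, b2] at h
      simp at h

theorem num : ∀ a ∈ [0, 3, 48, 51], ∀ b ∈ [0, 1, 18, 19], ∀ c ∈ [0, 3, 6, 9],
    (819 + 17199 * a + 45864 * b + 2201472 * c) / 819 * 774144 ∣ 90745943887872000 →
    (819 + 17199 * a + 45864 * b + 2201472 * c) / 819 ≤ 120 := by decide +kernel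

variable {G : Type} [Group G] {g : ℕ → G} (hr : ∀ r ∈ rels, ev g r = 1) (hu : g 7 ∉ grp g gens)
include hr

theorem φa : ThS.φ hr ⟨_, evmem [0]⟩ = g 0 := (ThS.hφ hr [0]).trans (ev_gen g 0)
theorem φm (x : C.grp gens) : ThS.φ hr x ∈ grp g gens := ThS.range hr ▸ ⟨x, rfl⟩
theorem φc (x : C.grp gens) (h : x.1 o = o) : ThS.φ hr x ∈ Subgroup.centralizer {g 0} := by
  rw [Subgroup.mem_centralizer_singleton_iff, ← φa hr, ← map_mul, ← map_mul]
  exact congrArg _ (Subtype.ext (comm x.2 h))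

include hu

theorem stab {ξ : G ⧸ grp g gens} {i : ℕ} (h0 : 0 < i) (hi : i < 11)
    (card : Nat.card (MulAction.orbit (grp g gens) ξ) = nth nn 0 i) (fix : ∀ w ∈ nth GW [] i, ev g w • ξ = ξ) :
    ((MulAction.stabilizer G ξ).comap (ThS.φ hr)).map (C.grp gens).subtype = C.grp (nth GW [] i) := by
  symm
  refine Subgroup.eq_of_le_of_card_ge ((grp_le_iff _).2 fun w hw => ?_) ?_
  · refine ⟨⟨_, subst_mem_grp C.g gens w⟩, ?_, congrArg (ev C.g) (hsub i hi w hw)⟩
    show ThS.φ hr _ • ξ = ξ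
    rw [ThS.hφ, hsub i hi w hw, fix w hw]
  · refine le_trans ?_ (low i h0 hi)
    have e := (MulAction.stabilizer (grp g gens) ξ).index_mul_card
    rw [MulAction.index_stabilizer, ← Nat.card_coe_set_eq, card, ThS.cardH hr hu] at e
    have : Finite (grp g gens) := Nat.finite_of_card_ne_zero (by rw [ThS.cardH hr hu]; decide)
    rw [Subgroup.card_map_of_injective (C.grp gens).subtype_injective, ← e,
      Nat.mul_div_cancel_left _ ((by decide +kernel : ∀ i < 11, 0 < nth nn 0 i) i hi)]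
    exact Nat.card_le_card_of_injective (fun x : (MulAction.stabilizer G ξ).comap (ThS.φ hr) =>
      (⟨⟨ThS.φ hr x.1, φm hr _⟩, x.2⟩ : MulAction.stabilizer (grp g gens) ξ))
      fun x y e => Subtype.ext (ThS.inj hr hu (congrArg (fun z => z.1.1) e))

theorem cardS : Nat.card (MulAction.stabilizer (Subgroup.centralizer {g 0}) ((1 : G) : G ⧸ grp g gens)) = 774144 := by
  rw [← card_sC]
  refine (Nat.card_congr (Equiv.ofBijective (fun x : C.grp sC =>
    (⟨⟨ThS.φ hr ⟨x.1, (stabH.ge x.2).1⟩, φc hr _ (stabH.ge x.2).2⟩, QuotientGroup.eq.2 (by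
      simpa using φm hr _)⟩ : MulAction.stabilizer (Subgroup.centralizer {g 0}) ((1 : G) : G ⧸ grp g gens))) ⟨?_, ?_⟩)).symm
  · exact fun x y e => Subtype.ext (congrArg (fun z : C.grp gens => z.1) (ThS.inj hr hu (congrArg (fun z => z.1.1) e)))
  · rintro ⟨⟨c, hc⟩, h⟩
    have h1 : c ∈ grp g gens := by simpa using (QuotientGroup.eq.1 h : (c * 1)⁻¹ * 1 ∈ grp g gens)
    rw [← ThS.range hr] at h1
    obtain ⟨x, rfl⟩ := h1
    rw [Subgroup.mem_centralizer_singleton_iff, ← φa hr, ← map_mul, ← map_mul] at hc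
    have h2 : x.1 * C.ev [0] = C.ev [0] * x.1 := congrArg Subtype.val (ThS.inj hr hu hc)
    exact ⟨⟨x.1, stabH.le ⟨x.2, (tab x.2).1 (by rw [h2, mul_inv_cancel_right])⟩⟩, rfl⟩

/-- the centraliser of `a` has order at most `2⁹·|A₉|` -/
theorem le (hG : Nat.card G = 90745943887872000) {pt : ℕ → G ⧸ grp g gens} (p0 : pt 0 = ((1 : G) : G ⧸ grp g gens))
    (all : ∀ ξ, ∃ i < 11, ξ ∈ MulAction.orbit (grp g gens) (pt i))
    (card : ∀ i < 11, Nat.card (MulAction.orbit (grp g gens) (pt i)) = nth nn 0 i)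
    (fix : ∀ i < 11, ∀ w ∈ nth GW [] i, ev g w • pt i = pt i) :
    Nat.card (Subgroup.centralizer {g 0}) ≤ 92897280 := by
  classical
  have : Finite G := Nat.finite_of_card_ne_zero (by rw [hG]; decide)
  have := Fintype.ofFinite (G ⧸ grp g gens)
  let X := MulAction.orbit (Subgroup.centralizer {g 0}) ((1 : G) : G ⧸ grp g gens)
  let r : Fin C.n → G ⧸ grp g gens → Prop := fun p ξ => ∃ x : C.grp gens, x.1 o = p ∧ (ThS.φ hr x)⁻¹ • ξ ∈ X
  have eqv : ∀ (y : C.grp gens) p ξ, r p ξ → r (y.1 p) (ThS.φ hr y • ξ) := by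
    rintro y _ ξ ⟨x, rfl, h⟩
    exact ⟨y * x, rfl, by rwa [map_mul, mul_inv_rev, mul_smul, inv_smul_smul]⟩
  have dc := Finset.sum_card_bipartiteAbove_eq_sum_card_bipartiteBelow (s := univ) (t := univ) r
  have up : ∀ p, (univ.bipartiteAbove r p).card = Nat.card X := by
    intro p
    obtain ⟨x, hx, rfl⟩ := transH p
    rw [Nat.card_eq_card_toFinset]
    refine Finset.card_bijective ((ThS.φ hr ⟨x, hx⟩)⁻¹ • ·) (MulAction.bijective _) fun ξ => ?_
    simp only [Finset.mem_bipartiteAbove, Finset.mem_univ, true_and, Set.mem_toFinset]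
    refine ⟨?_, fun h => ⟨⟨x, hx⟩, rfl, h⟩⟩
    rintro ⟨y, hy, c, h⟩
    have h1 := φc hr ((⟨x, hx⟩ : C.grp gens)⁻¹ * y) (by
      show x⁻¹ (y.1 o) = o
      rw [hy]; exact x.symm_apply_apply _)
    refine ⟨⟨_, h1⟩ * c, ?_⟩
    simp only [mul_smul] at h ⊢
    rw [h]
    show ThS.φ hr ((⟨x, hx⟩ : C.grp gens)⁻¹ * y) • (ThS.φ hr y)⁻¹ • ξ = _
    rw [map_mul, mul_smul, smul_inv_smul, map_inv]
  have lo : ∀ (y : C.grp gens) ξ, (univ.bipartiteBelow r ξ).card ≤ (univ.bipartiteBelow r (ThS.φ hr y • ξ)).card :=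
    fun y ξ => Finset.card_le_card_of_injOn y.1 (fun p hp => by
      simp only [Finset.coe_bipartiteBelow, Finset.mem_univ, true_and, Set.mem_setOf_eq, Finset.coe_univ, Set.mem_univ] at hp ⊢
      exact eqv y p ξ hp) y.1.injective.injOn
  rw [sum_orb all card (by decide +kernel) _ (fun x ξ => by
    obtain ⟨y, hy⟩ : x.1 ∈ (ThS.φ hr).range := (ThS.range hr).symm ▸ x.2
    show (univ.bipartiteBelow r (x.1 • ξ)).card = _
    rw [← hy]
    refine le_antisymm ?_ (lo y ξ)
    have := lo y⁻¹ (ThS.φ hr y • ξ)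
    rwa [map_inv, inv_smul_smul] at this)] at dc
  simp only [up, Finset.sum_const, Finset.card_univ, Fintype.card_fin, smul_eq_mul] at dc
  have n0 : (univ.bipartiteBelow r (pt 0)).card = 819 := by
    rw [show univ.bipartiteBelow r (pt 0) = univ from Finset.eq_univ_of_forall fun p => by
      obtain ⟨x, hx, rfl⟩ := transH p
      refine (Finset.mem_bipartiteBelow _).2 ⟨Finset.mem_univ _, ⟨x, hx⟩, rfl, 1, ?_⟩
      rw [p0]
      exact (one_smul _ _).trans (QuotientGroup.eq.2 (by simpa using φm hr _))]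
    rfl
  have ni : ∀ i, 0 < i → i < 11 → (univ.bipartiteBelow r (pt i)).card ∈
      [0, nth [0,3,1,3] 0 i, nth [0,48,18,6] 0 i, nth [0,3,1,3] 0 i + nth [0,48,18,6] 0 i] := by
    intro i h0 hi
    have st := stab hr hu h0 hi (card i hi) (fix i hi)
    have hY : ∀ x ∈ C.grp (nth GW [] i), ∀ p ∈ univ.bipartiteBelow r (pt i), x p ∈ univ.bipartiteBelow r (pt i) := by
      intro x hx p hp
      rw [← st] at hx
      obtain ⟨y, hy, rfl⟩ := hx
      have := eqv y p _ ((Finset.mem_bipartiteBelow _).1 hp).2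
      rw [show ThS.φ hr y • pt i = pt i from hy] at this
      exact (Finset.mem_bipartiteBelow _).2 ⟨Finset.mem_univ _, this⟩
    have hT : ∀ p ∈ univ.bipartiteBelow r (pt i), (nth TA 0 i).testBit p = true ∨ (nth TB 0 i).testBit p = true := by
      intro p hp
      obtain ⟨x, rfl, c, h⟩ := ((Finset.mem_bipartiteBelow _).1 hp).2
      refine (tab x.2).2 i h0 hi (st ▸ ⟨x * ⟨_, evmem [0]⟩ * x⁻¹, ?_, rfl⟩)
      show ThS.φ hr _ • pt i = pt i
      rw [map_mul, map_mul, map_inv, φa, mul_smul, mul_smul, ← h, ← eq_inv_smul_iff, ← h]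
      show g 0 • c.1 • ((1 : G) : G ⧸ grp g gens) = c.1 • ((1 : G) : G ⧸ grp g gens)
      rw [smul_smul, ← Subgroup.mem_centralizer_singleton_iff.1 c.2, mul_smul]
      exact congrArg _ (QuotientGroup.eq.2 (by simpa using φa hr ▸ φm hr _))
    obtain ⟨c1, c2, c3⟩ := hcnt i hi
    rw [cnt_eq (by decide)] at c1 c2
    have o1 := one_orb hY (T := nth TA 0 i) (b := nth BA 0 i) fun j hj => by
      obtain ⟨x, hx, h⟩ := Ctx.clo_spec hC _ _ _ j (sub_spec (hA i hi).1 hj)
      exact ⟨x, hx, by rw [testBit_bit] at h; exact (of_decide_eq_true h).symm⟩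
    have o2 := one_orb hY (T := nth TB 0 i) (b := nth BB 0 i) fun j hj => by
      obtain ⟨x, hx, h⟩ := Ctx.clo_spec hC _ _ _ j (sub_spec (hA i hi).2 hj)
      exact ⟨x, hx, by rw [testBit_bit] at h; exact (of_decide_eq_true h).symm⟩
    rw [c1] at o1; rw [c2] at o2
    have sp := Finset.card_filter_add_card_filter_not (s := univ.bipartiteBelow r (pt i))
      (fun j : Fin C.n => (nth TA 0 i).testBit j = true)
    rw [show (univ.bipartiteBelow r (pt i)).filter (fun j : Fin C.n => ¬ (nth TA 0 i).testBit j = true) =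
        (univ.bipartiteBelow r (pt i)).filter (fun j : Fin C.n => (nth TB 0 i).testBit j = true) from
      Finset.filter_congr fun j hj => ⟨fun h => (hT j hj).resolve_left h, fun h h' => by
        have : (nth TA 0 i &&& nth TB 0 i).testBit j = true := by rw [Nat.testBit_and, h, h']; rfl
        rw [show nth TA 0 i &&& nth TB 0 i = 0 from c3] at this
        simp at this⟩] at sp
    rw [← sp]
    rcases o1 with a | a <;> rcases o2 with b | b <;> rw [a, b] <;> simp
  have z : ∀ i, 3 < i → i < 11 → (univ.bipartiteBelow r (pt i)).card = 0 := fun i h1 h2 => by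
    have := ni i (by omega) h2
    rw [(by decide : ∀ i < 11, 3 < i → nth [0,3,1,3] 0 i = 0) i h2 h1,
      (by decide : ∀ i < 11, 3 < i → nth [0,48,18,6] 0 i = 0) i h2 h1] at this
    simpa using this
  simp only [Finset.sum_range_succ, Finset.range_zero, Finset.sum_empty, n0, z 4 (by omega) (by omega),
    z 5 (by omega) (by omega), z 6 (by omega) (by omega), z 7 (by omega) (by omega), z 8 (by omega) (by omega),
    z 9 (by omega) (by omega), z 10 (by omega) (by omega), mul_zero, add_zero, zero_add] at dc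
  have e := (MulAction.stabilizer (Subgroup.centralizer {g 0}) ((1 : G) : G ⧸ grp g gens)).index_mul_card
  rw [MulAction.index_stabilizer, ← Nat.card_coe_set_eq, cardS hr hu] at e
  have := num _ (ni 1 (by omega) (by omega)) _ (ni 2 (by omega) (by omega)) _ (ni 3 (by omega) (by omega))
  have e2 : 819 * Nat.card X = 819 + 17199 * (univ.bipartiteBelow r (pt 1)).card +
      45864 * (univ.bipartiteBelow r (pt 2)).card + 2201472 * (univ.bipartiteBelow r (pt 3)).card := dc
  rw [← e2, Nat.mul_div_cancel_left _ (by norm_num)] at this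
  have h3 := this (by rw [show Nat.card X * 774144 = _ from e, ← hG]; exact Subgroup.card_subgroup_dvd_card _)
  rw [← e]
  exact Nat.mul_le_mul_right 774144 h3

end CA.ThC28
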