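import Cfsg.Agent.Lib.Comp.CTodd
set_option autoImplicit false
set_option linter.all false
set_option maxRecDepth 100000
universe u
namespace CA.ThC7T
open CA.CNet CA.CWord CA.CLevel CA.CSimple CA.CPoint CA.CTodd 
noncomputable section
def r1 : List Word := [[0,0,0,0,0,0,0], [0,2,1,3], [0,4,1,5], [2,2], [4,4,4], [2,4,2,4,2,4,2,4,2,4,2,4,2,4], [2,4,2,5,2,4,2,5,2,4,2,5,2,4,2,5]]
def r2 : List Word := [[0,0,0,0,0,0,0], [0,2,1,3], [0,4,1,5], [2,2,2,2,2,2,2], [4,4,4], [4,2,5,3,3]]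
namespace I0
noncomputable def A_0 : List (ℕ) := [nat_lit 0x2a12a0e90e8750722a83a1f41e8f48f4ae8ae6b26b35235158958788783c83b15c1e06a86c368362b22b1da1d954954b88b846246182180808804144215a2007c070388382c82c22222192190c48c4428421521506a068360300f01a05804022020208201e81e17217122120d08d0968963e23e162160708703943a13a1c0fc0f0788785c85c41241202200b48b43a83a1321305a0582e0280d01607207062060508503e83e2f22f21a219409406e86e272270c20c0408402142209a1003203028828248241a21a152150e48e4528521921908a088248240a80a0180500a008088080680600803001001d1a391d5249d6a552c47a79a9149124926783c53c92597cbf0f27967a3d4301f5a552b51e8f6753ac2e9b1a211153e4a6603043d9eda4d27112a66a150c459bda2d17120906763b52e97591c8f0624c66130d3e1f1a512913e9f6a25154c1fda5d2f11a426592cc381c1a311913098680404319c5a351b146a36a050544a259b4db0b04465a2d4391c99cce70b65b64522c1808d8cc674904865e2f4328958d46b09a4d64e2741b0998d86d09e4f6623153f1f9a592d10a5166331c40a05a09050c85266432441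a0da653350e8766934c2b0a18e0710a65366532c3b9dda452314ea769a4d442199a11091148a66e3752c1618fc7f05a3a6542a43399da150b1369b69c4e4432199a0d10aa3c6562b4351a99acd70ae5763d1ec160818c06108c4665c2e52a9558ec770562b61b0dd090358542b0422163118c190c98884502c1660e074040718b05907c3e64b25d1a0d18904902e1760f07d04021810090020b61309c0e8758b45b0804064120c170b98783d028106180c41389d8dc6f4a05064321c178bd87c3f4281460c0640381d80c0ac120981108b0c8660a452c723982a1530d06a04824c140a806033010058000700402800,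
  nat_lit 0x4714723a290e88e8748732dc3a2952954b52a9d49d4ec4e21a274bf4f078478491492912913c53c9ea9943d4f1ee1e8f44f4794792f92f92512493090338493b43a9d49d51e91e952953ea3e9f61f0c30fa882884444a1b11b0d90d65786c50449a4ca4cf68f6602602522512a0d097094908a150950a992994d122a78a61942391d11cba4ba764764814822d22cde4de6fa702cd37a32a89445449f49f4a14a1f11f0c24c24c44c2641a9361314712e972973fa3f9fe1f8c50fe818804014026126118518704702c92c909108850822e842374369b51b512512a04a051951a35234e24e271a722d53891a1148a48a5b45b399399c91c8b44b444444224218be110ef0bc5e25e242240cc8cc46846238220b41193e1389c49c4d44d1a91a8950944b048178254dc4b259258fc4fc62462279278d90d84c44c26a270c51320e209045048148131931945144a30a037851354349a51a50e50e9949941941991190a44a452a531c52922a26934534a74a7489489dd1dcca4ca534531c11c0a10a051032298282041f8fd0fcb04b06e46e45145211210cc4cc66a672a5331721a0d04d0864864e14e26d26d0a50a67467]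
noncomputable def A : List (List (ℕ)) := [A_0]
noncomputable def K_0 : List (ℕ) := [nat_lit 0xa864347a1bc60f1f77c268b4943a253eb37cc0d873385c8e82a38ccc696f37dc6d32ed95ac50a8b4dad576bd7bc158b3586c966f399fa962f2fa6b8dcaf57ec752eeb969ecfaaf41a353aa75bafd8f0f93cedaf1537b85ceff4a9e4fe6d47aa572c114b259ed18893e533d6cc4ce2df7489e02371ca4ca277409ad2211558ad96d326b6cba5f398946a3b299a41e13568b59ad525b74b6613a88c663d2a99c1a1517924b263108fc16171891cae650f9041219228740e1b2180c020400]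
noncomputable def K : List (List (ℕ)) := [K_0]
noncomputable def R_0 : List (Rule) := [Rule.mk (nat_lit 4) (nat_lit 26) (Steps.bwd (nat_lit 4) (Steps.bwd (nat_lit 4) Steps.nil)) (nat_lit 8) (nat_lit 0),
  Rule.mk (nat_lit 2) (nat_lit 36) (Steps.fwd (nat_lit 2048) (Steps.bwd (nat_lit 1) (Steps.bwd (nat_lit 4) Steps.nil))) (nat_lit 4) (nat_lit 3),
  Rule.mk (nat_lit 1) (nat_lit 36) (Steps.fwd (nat_lit 2048) (Steps.bwd (nat_lit 2) (Steps.bwd (nat_lit 4) Steps.nil))) (nat_lit 5) (nat_lit 2),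
  Rule.mk (nat_lit 2) (nat_lit 36) (Steps.bwd (nat_lit 3) (Steps.bwd (nat_lit 1) (Steps.fwd (nat_lit 1536) Steps.nil))) (nat_lit 2) (nat_lit 3),
  Rule.mk (nat_lit 4) (nat_lit 136) (Steps.bwd (nat_lit 3) (Steps.bwd (nat_lit 4) (Steps.bwd (nat_lit 3) (Steps.bwd (nat_lit 4) (Steps.bwd (nat_lit 3) (Steps.bwd (nat_lit 4) (Steps.bwd (nat_lit 3) (Steps.bwd (nat_lit 4) (Steps.bwd (nat_lit 3) (Steps.bwd (nat_lit 4) (Steps.bwd (nat_lit 3) (Steps.bwd (nat_lit 4) (Steps.fwd (nat_lit 1536) Steps.nil))))))))))))) (nat_lit 10) (nat_lit 0),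
  Rule.mk (nat_lit 2) (nat_lit 36) (Steps.fwd (nat_lit 2048) (Steps.fwd (nat_lit 1024) (Steps.bwd (nat_lit 4) Steps.nil))) (nat_lit 4) (nat_lit 3),
  Rule.mk (nat_lit 1) (nat_lit 36) (Steps.fwd (nat_lit 1536) (Steps.bwd (nat_lit 2) (Steps.bwd (nat_lit 3) Steps.nil))) (nat_lit 2) (nat_lit 1),
  Rule.mk (nat_lit 5) (nat_lit 156) (Steps.bwd (nat_lit 3) (Steps.bwd (nat_lit 4) (Steps.bwd (nat_lit 3) (Steps.bwd (nat_lit 5) (Steps.bwd (nat_lit 3) (Steps.bwd (nat_lit 4) (Steps.bwd (nat_lit 3) (Steps.bwd (nat_lit 5) (Steps.bwd (nat_lit 3) (Steps.bwd (nat_lit 4) (Steps.bwd (nat_lit 3) (Steps.fwd (nat_lit 2048) (Steps.fwd (nat_lit 1536) (Steps.bwd (nat_lit 4) (Steps.bwd (nat_lit 3) Steps.nil))))))))))))))) (nat_lit 12) (nat_lit 0),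
  Rule.mk (nat_lit 5) (nat_lit 26) (Steps.fwd (nat_lit 2048) (Steps.bwd (nat_lit 5) Steps.nil)) (nat_lit 9) (nat_lit 0),
  Rule.mk (nat_lit 1) (nat_lit 36) (Steps.fwd (nat_lit 2560) (Steps.fwd (nat_lit 512) (Steps.bwd (nat_lit 5) Steps.nil))) (nat_lit 4) (nat_lit 1),
  Rule.mk (nat_lit 2) (nat_lit 36) (Steps.fwd (nat_lit 1536) (Steps.bwd (nat_lit 1) (Steps.bwd (nat_lit 3) Steps.nil))) (nat_lit 2) (nat_lit 3),
  Rule.mk (nat_lit 1) (nat_lit 36) (Steps.fwd (nat_lit 2560) (Steps.bwd (nat_lit 2) (Steps.bwd (nat_lit 5) Steps.nil))) (nat_lit 4) (nat_lit 1),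
  Rule.mk (nat_lit 4) (nat_lit 26) (Steps.bwd (nat_lit 4) (Steps.fwd (nat_lit 2560) Steps.nil)) (nat_lit 8) (nat_lit 0),
  Rule.mk (nat_lit 5) (nat_lit 26) (Steps.bwd (nat_lit 5) (Steps.fwd (nat_lit 2048) Steps.nil)) (nat_lit 9) (nat_lit 0),
  Rule.mk (nat_lit 4) (nat_lit 136) (Steps.bwd (nat_lit 3) (Steps.bwd (nat_lit 4) (Steps.bwd (nat_lit 3) (Steps.bwd (nat_lit 4) (Steps.bwd (nat_lit 3) (Steps.bwd (nat_lit 4) (Steps.fwd (nat_lit 1536) (Steps.fwd (nat_lit 2560) (Steps.fwd (nat_lit 1536) (Steps.bwd (nat_lit 4) (Steps.fwd (nat_lit 1536) (Steps.fwd (nat_lit 2560) (Steps.fwd (nat_lit 1536) Steps.nil))))))))))))) (nat_lit 10) (nat_lit 0),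
  Rule.mk (nat_lit 4) (nat_lit 136) (Steps.bwd (nat_lit 3) (Steps.bwd (nat_lit 4) (Steps.bwd (nat_lit 3) (Steps.bwd (nat_lit 4) (Steps.bwd (nat_lit 3) (Steps.bwd (nat_lit 4) (Steps.bwd (nat_lit 3) (Steps.bwd (nat_lit 4) (Steps.bwd (nat_lit 3) (Steps.bwd (nat_lit 4) (Steps.bwd (nat_lit 3) (Steps.fwd (nat_lit 2560) (Steps.fwd (nat_lit 1536) Steps.nil))))))))))))) (nat_lit 10) (nat_lit 0),
  Rule.mk (nat_lit 5) (nat_lit 156) (Steps.bwd (nat_lit 3) (Steps.bwd (nat_lit 4) (Steps.bwd (nat_lit 3) (Steps.bwd (nat_lit 5) (Steps.bwd (nat_lit 3) (Steps.bwd (nat_lit 4) (Steps.fwd (nat_lit 1536) (Steps.fwd (nat_lit 2048) (Steps.fwd (nat_lit 1536) (Steps.bwd (nat_lit 4) (Steps.fwd (nat_lit 1536) (Steps.fwd (nat_lit 2048) (Steps.fwd (nat_lit 1536) (Steps.bwd (nat_lit 4) (Steps.bwd (nat_lit 3) Steps.nil))))))))))))))) (nat_lit 12) (nat_lit 0),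
  Rule.mk (nat_lit 4) (nat_lit 136) (Steps.bwd (nat_lit 3) (Steps.bwd (nat_lit 4) (Steps.bwd (nat_lit 3) (Steps.bwd (nat_lit 4) (Steps.bwd (nat_lit 3) (Steps.bwd (nat_lit 4) (Steps.bwd (nat_lit 3) (Steps.bwd (nat_lit 4) (Steps.fwd (nat_lit 1536) (Steps.fwd (nat_lit 2560) (Steps.fwd (nat_lit 1536) (Steps.bwd (nat_lit 4) (Steps.fwd (nat_lit 1536) Steps.nil))))))))))))) (nat_lit 10) (nat_lit 0),
  Rule.mk (nat_lit 5) (nat_lit 156) (Steps.bwd (nat_lit 3) (Steps.bwd (nat_lit 4) (Steps.bwd (nat_lit 3) (Steps.bwd (nat_lit 5) (Steps.bwd (nat_lit 3) (Steps.bwd (nat_lit 4) (Steps.fwd (nat_lit 1536) (Steps.fwd (nat_lit 2048) (Steps.bwd (nat_lit 3) (Steps.fwd (nat_lit 2560) (Steps.fwd (nat_lit 1536) (Steps.fwd (nat_lit 2048) (Steps.fwd (nat_lit 1536) (Steps.bwd (nat_lit 4) (Steps.bwd (nat_lit 3) Steps.nil))))))))))))))) (nat_lit 12) (nat_lit 0),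
  Rule.mk (nat_lit 4) (nat_lit 136) (Steps.bwd (nat_lit 3) (Steps.bwd (nat_lit 4) (Steps.bwd (nat_lit 3) (Steps.bwd (nat_lit 4) (Steps.fwd (nat_lit 1536) (Steps.fwd (nat_lit 2560) (Steps.fwd (nat_lit 1536) (Steps.bwd (nat_lit 4) (Steps.fwd (nat_lit 1536) (Steps.fwd (nat_lit 2560) (Steps.bwd (nat_lit 3) (Steps.bwd (nat_lit 4) (Steps.bwd (nat_lit 3) Steps.nil))))))))))))) (nat_lit 10) (nat_lit 0),
  Rule.mk (nat_lit 4) (nat_lit 26) (Steps.fwd (nat_lit 2560) (Steps.bwd (nat_lit 4) Steps.nil)) (nat_lit 8) (nat_lit 0),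
  Rule.mk (nat_lit 5) (nat_lit 156) (Steps.bwd (nat_lit 3) (Steps.bwd (nat_lit 4) (Steps.bwd (nat_lit 3) (Steps.bwd (nat_lit 5) (Steps.bwd (nat_lit 3) (Steps.bwd (nat_lit 4) (Steps.fwd (nat_lit 1536) (Steps.fwd (nat_lit 2048) (Steps.fwd (nat_lit 1536) (Steps.bwd (nat_lit 4) (Steps.fwd (nat_lit 1536) (Steps.fwd (nat_lit 2048) (Steps.fwd (nat_lit 1536) (Steps.fwd (nat_lit 2560) (Steps.bwd (nat_lit 3) Steps.nil))))))))))))))) (nat_lit 12) (nat_lit 0),
  Rule.mk (nat_lit 4) (nat_lit 136) (Steps.bwd (nat_lit 3) (Steps.bwd (nat_lit 4) (Steps.bwd (nat_lit 3) (Steps.bwd (nat_lit 4) (Steps.fwd (nat_lit 1536) (Steps.fwd (nat_lit 2560) (Steps.fwd (nat_lit 1536) (Steps.fwd (nat_lit 2560) (Steps.fwd (nat_lit 1536) (Steps.bwd (nat_lit 4) (Steps.fwd (nat_lit 1536) (Steps.fwd (nat_lit 2560) (Steps.fwd (nat_lit 1536) Steps.nil))))))))))))) (nat_lit 10) (nat_lit 0),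
  Rule.mk (nat_lit 4) (nat_lit 156) (Steps.bwd (nat_lit 3) (Steps.bwd (nat_lit 5) (Steps.bwd (nat_lit 3) (Steps.bwd (nat_lit 4) (Steps.fwd (nat_lit 1536) (Steps.fwd (nat_lit 2048) (Steps.fwd (nat_lit 1536) (Steps.bwd (nat_lit 4) (Steps.fwd (nat_lit 1536) (Steps.fwd (nat_lit 2048) (Steps.fwd (nat_lit 1536) (Steps.bwd (nat_lit 4) (Steps.fwd (nat_lit 1536) (Steps.fwd (nat_lit 2048) (Steps.fwd (nat_lit 1536) Steps.nil))))))))))))))) (nat_lit 12) (nat_lit 2),
  Rule.mk (nat_lit 2) (nat_lit 36) (Steps.fwd (nat_lit 2560) (Steps.bwd (nat_lit 1) (Steps.bwd (nat_lit 5) Steps.nil))) (nat_lit 5) (nat_lit 0),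
  Rule.mk (nat_lit 5) (nat_lit 156) (Steps.bwd (nat_lit 3) (Steps.bwd (nat_lit 4) (Steps.bwd (nat_lit 3) (Steps.bwd (nat_lit 5) (Steps.bwd (nat_lit 3) (Steps.bwd (nat_lit 4) (Steps.bwd (nat_lit 3) (Steps.fwd (nat_lit 2048) (Steps.bwd (nat_lit 3) (Steps.bwd (nat_lit 4) (Steps.bwd (nat_lit 3) (Steps.fwd (nat_lit 2048) (Steps.fwd (nat_lit 1536) (Steps.bwd (nat_lit 4) (Steps.bwd (nat_lit 3) Steps.nil))))))))))))))) (nat_lit 12) (nat_lit 0),
  Rule.mk (nat_lit 4) (nat_lit 136) (Steps.bwd (nat_lit 3) (Steps.bwd (nat_lit 4) (Steps.bwd (nat_lit 3) (Steps.bwd (nat_lit 4) (Steps.bwd (nat_lit 3) (Steps.bwd (nat_lit 4) (Steps.fwd (nat_lit 1536) (Steps.bwd (nat_lit 4) (Steps.bwd (nat_lit 3) (Steps.bwd (nat_lit 4) (Steps.bwd (nat_lit 3) (Steps.bwd (nat_lit 4) (Steps.fwd (nat_lit 1536) Steps.nil))))))))))))) (nat_lit 10) (nat_lit 0),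
  Rule.mk (nat_lit 4) (nat_lit 136) (Steps.bwd (nat_lit 3) (Steps.bwd (nat_lit 4) (Steps.fwd (nat_lit 1536) (Steps.fwd (nat_lit 2560) (Steps.fwd (nat_lit 1536) (Steps.bwd (nat_lit 4) (Steps.fwd (nat_lit 1536) (Steps.fwd (nat_lit 2560) (Steps.fwd (nat_lit 1536) (Steps.fwd (nat_lit 2560) (Steps.bwd (nat_lit 3) (Steps.bwd (nat_lit 4) (Steps.bwd (nat_lit 3) Steps.nil))))))))))))) (nat_lit 10) (nat_lit 0),
  Rule.mk (nat_lit 4) (nat_lit 136) (Steps.fwd (nat_lit 1536) (Steps.bwd (nat_lit 4) (Steps.bwd (nat_lit 3) (Steps.bwd (nat_lit 4) (Steps.fwd (nat_lit 1536) (Steps.fwd (nat_lit 2560) (Steps.bwd (nat_lit 3) (Steps.bwd (nat_lit 4) (Steps.bwd (nat_lit 3) (Steps.bwd (nat_lit 4) (Steps.fwd (nat_lit 1536) (Steps.fwd (nat_lit 2560) (Steps.fwd (nat_lit 1536) Steps.nil))))))))))))) (nat_lit 10) (nat_lit 0),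
  Rule.mk (nat_lit 4) (nat_lit 156) (Steps.bwd (nat_lit 3) (Steps.bwd (nat_lit 5) (Steps.bwd (nat_lit 3) (Steps.bwd (nat_lit 4) (Steps.bwd (nat_lit 3) (Steps.bwd (nat_lit 5) (Steps.bwd (nat_lit 3) (Steps.bwd (nat_lit 4) (Steps.fwd (nat_lit 1536) (Steps.fwd (nat_lit 2048) (Steps.fwd (nat_lit 1536) (Steps.fwd (nat_lit 2560) (Steps.bwd (nat_lit 3) (Steps.fwd (nat_lit 2048) (Steps.fwd (nat_lit 1536) Steps.nil))))))))))))))) (nat_lit 12) (nat_lit 2),
  Rule.mk (nat_lit 4) (nat_lit 136) (Steps.bwd (nat_lit 3) (Steps.bwd (nat_lit 4) (Steps.fwd (nat_lit 1536) (Steps.fwd (nat_lit 2560) (Steps.fwd (nat_lit 1536) (Steps.bwd (nat_lit 4) (Steps.fwd (nat_lit 1536) (Steps.bwd (nat_lit 4) (Steps.fwd (nat_lit 1536) (Steps.fwd (nat_lit 2560) (Steps.fwd (nat_lit 1536) (Steps.bwd (nat_lit 4) (Steps.fwd (nat_lit 1536) Steps.nil))))))))))))) (nat_lit 10) (nat_lit 0),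
  Rule.mk (nat_lit 4) (nat_lit 136) (Steps.fwd (nat_lit 1536) (Steps.bwd (nat_lit 4) (Steps.fwd (nat_lit 1536) (Steps.bwd (nat_lit 4) (Steps.fwd (nat_lit 1536) (Steps.fwd (nat_lit 2560) (Steps.fwd (nat_lit 1536) (Steps.bwd (nat_lit 4) (Steps.fwd (nat_lit 1536) (Steps.bwd (nat_lit 4) (Steps.fwd (nat_lit 1536) (Steps.fwd (nat_lit 2560) (Steps.fwd (nat_lit 1536) Steps.nil))))))))))))) (nat_lit 10) (nat_lit 0),
  Rule.mk (nat_lit 4) (nat_lit 136) (Steps.bwd (nat_lit 3) (Steps.bwd (nat_lit 4) (Steps.bwd (nat_lit 3) (Steps.bwd (nat_lit 4) (Steps.bwd (nat_lit 3) (Steps.bwd (nat_lit 4) (Steps.bwd (nat_lit 3) (Steps.bwd (nat_lit 4) (Steps.fwd (nat_lit 1536) (Steps.fwd (nat_lit 2560) (Steps.bwd (nat_lit 3) (Steps.bwd (nat_lit 4) (Steps.bwd (nat_lit 3) Steps.nil))))))))))))) (nat_lit 10) (nat_lit 0),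
  Rule.mk (nat_lit 4) (nat_lit 156) (Steps.fwd (nat_lit 1536) (Steps.fwd (nat_lit 2048) (Steps.fwd (nat_lit 1536) (Steps.bwd (nat_lit 4) (Steps.bwd (nat_lit 3) (Steps.fwd (nat_lit 2048) (Steps.bwd (nat_lit 3) (Steps.bwd (nat_lit 4) (Steps.bwd (nat_lit 3) (Steps.fwd (nat_lit 2048) (Steps.bwd (nat_lit 3) (Steps.bwd (nat_lit 4) (Steps.bwd (nat_lit 3) (Steps.fwd (nat_lit 2048) (Steps.bwd (nat_lit 3) Steps.nil))))))))))))))) (nat_lit 12) (nat_lit 2),
  Rule.mk (nat_lit 4) (nat_lit 156) (Steps.bwd (nat_lit 3) (Steps.bwd (nat_lit 5) (Steps.bwd (nat_lit 3) (Steps.fwd (nat_lit 2560) (Steps.fwd (nat_lit 1536) (Steps.fwd (nat_lit 2048) (Steps.fwd (nat_lit 1536) (Steps.bwd (nat_lit 4) (Steps.fwd (nat_lit 1536) (Steps.fwd (nat_lit 2048) (Steps.fwd (nat_lit 1536) (Steps.fwd (nat_lit 2560) (Steps.bwd (nat_lit 3) (Steps.fwd (nat_lit 2048) (Steps.fwd (nat_lit 1536) Steps.nil))))))))))))))) (nat_lit 12) (nat_lit 2),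
  Rule.mk (nat_lit 4) (nat_lit 136) (Steps.fwd (nat_lit 1536) (Steps.fwd (nat_lit 2560) (Steps.fwd (nat_lit 1536) (Steps.bwd (nat_lit 4) (Steps.fwd (nat_lit 1536) (Steps.bwd (nat_lit 4) (Steps.fwd (nat_lit 1536) (Steps.fwd (nat_lit 2560) (Steps.fwd (nat_lit 1536) (Steps.bwd (nat_lit 4) (Steps.fwd (nat_lit 1536) (Steps.bwd (nat_lit 4) (Steps.bwd (nat_lit 3) Steps.nil))))))))))))) (nat_lit 10) (nat_lit 0),
  Rule.mk (nat_lit 1) (nat_lit 36) (Steps.bwd (nat_lit 4) (Steps.fwd (nat_lit 512) (Steps.fwd (nat_lit 2048) Steps.nil))) (nat_lit 4) (nat_lit 1),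
  Rule.mk (nat_lit 4) (nat_lit 156) (Steps.bwd (nat_lit 3) (Steps.bwd (nat_lit 5) (Steps.bwd (nat_lit 3) (Steps.bwd (nat_lit 4) (Steps.bwd (nat_lit 3) (Steps.fwd (nat_lit 2048) (Steps.bwd (nat_lit 3) (Steps.bwd (nat_lit 4) (Steps.bwd (nat_lit 3) (Steps.fwd (nat_lit 2048) (Steps.fwd (nat_lit 1536) (Steps.bwd (nat_lit 4) (Steps.bwd (nat_lit 3) (Steps.fwd (nat_lit 2048) (Steps.bwd (nat_lit 3) Steps.nil))))))))))))))) (nat_lit 12) (nat_lit 2),
  Rule.mk (nat_lit 4) (nat_lit 136) (Steps.fwd (nat_lit 1536) (Steps.fwd (nat_lit 2560) (Steps.fwd (nat_lit 1536) (Steps.bwd (nat_lit 4) (Steps.bwd (nat_lit 3) (Steps.bwd (nat_lit 4) (Steps.bwd (nat_lit 3) (Steps.fwd (nat_lit 2560) (Steps.fwd (nat_lit 1536) (Steps.fwd (nat_lit 2560) (Steps.bwd (nat_lit 3) (Steps.bwd (nat_lit 4) (Steps.bwd (nat_lit 3) Steps.nil))))))))))))) (nat_lit 10) (nat_lit 0),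
  Rule.mk (nat_lit 4) (nat_lit 136) (Steps.bwd (nat_lit 3) (Steps.bwd (nat_lit 4) (Steps.bwd (nat_lit 3) (Steps.bwd (nat_lit 4) (Steps.fwd (nat_lit 1536) (Steps.bwd (nat_lit 4) (Steps.bwd (nat_lit 3) (Steps.bwd (nat_lit 4) (Steps.bwd (nat_lit 3) (Steps.bwd (nat_lit 4) (Steps.fwd (nat_lit 1536) (Steps.bwd (nat_lit 4) (Steps.bwd (nat_lit 3) Steps.nil))))))))))))) (nat_lit 10) (nat_lit 0),
  Rule.mk (nat_lit 4) (nat_lit 156) (Steps.fwd (nat_lit 1536) (Steps.fwd (nat_lit 2048) (Steps.fwd (nat_lit 1536) (Steps.bwd (nat_lit 4) (Steps.bwd (nat_lit 3) (Steps.fwd (nat_lit 2048) (Steps.bwd (nat_lit 3) (Steps.bwd (nat_lit 4) (Steps.bwd (nat_lit 3) (Steps.fwd (nat_lit 2048) (Steps.bwd (nat_lit 3) (Steps.bwd (nat_lit 4) (Steps.fwd (nat_lit 1536) (Steps.fwd (nat_lit 2048) (Steps.fwd (nat_lit 1536) Steps.nil))))))))))))))) (nat_lit 12) (nat_lit 2),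
  Rule.mk (nat_lit 5) (nat_lit 156) (Steps.bwd (nat_lit 3) (Steps.bwd (nat_lit 4) (Steps.bwd (nat_lit 3) (Steps.bwd (nat_lit 5) (Steps.bwd (nat_lit 3) (Steps.bwd (nat_lit 4) (Steps.fwd (nat_lit 1536) (Steps.fwd (nat_lit 2048) (Steps.fwd (nat_lit 1536) (Steps.bwd (nat_lit 4) (Steps.fwd (nat_lit 1536) (Steps.fwd (nat_lit 2048) (Steps.fwd (nat_lit 1536) (Steps.bwd (nat_lit 4) (Steps.fwd (nat_lit 1536) Steps.nil))))))))))))))) (nat_lit 12) (nat_lit 0),
  Rule.mk (nat_lit 5) (nat_lit 26) (Steps.bwd (nat_lit 5) (Steps.bwd (nat_lit 5) Steps.nil)) (nat_lit 9) (nat_lit 0),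
  Rule.mk (nat_lit 5) (nat_lit 136) (Steps.fwd (nat_lit 1536) (Steps.fwd (nat_lit 2048) (Steps.fwd (nat_lit 1536) (Steps.bwd (nat_lit 5) (Steps.fwd (nat_lit 1536) (Steps.fwd (nat_lit 2048) (Steps.fwd (nat_lit 1536) (Steps.bwd (nat_lit 5) (Steps.bwd (nat_lit 3) (Steps.fwd (nat_lit 2048) (Steps.fwd (nat_lit 1536) (Steps.fwd (nat_lit 2048) (Steps.bwd (nat_lit 3) Steps.nil))))))))))))) (nat_lit 11) (nat_lit 1),
  Rule.mk (nat_lit 4) (nat_lit 136) (Steps.bwd (nat_lit 3) (Steps.bwd (nat_lit 4) (Steps.bwd (nat_lit 3) (Steps.bwd (nat_lit 4) (Steps.bwd (nat_lit 3) (Steps.bwd (nat_lit 4) (Steps.fwd (nat_lit 1536) (Steps.fwd (nat_lit 2560) (Steps.bwd (nat_lit 3) (Steps.bwd (nat_lit 4) (Steps.bwd (nat_lit 3) (Steps.bwd (nat_lit 4) (Steps.fwd (nat_lit 1536) Steps.nil))))))))))))) (nat_lit 10) (nat_lit 0),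
  Rule.mk (nat_lit 5) (nat_lit 156) (Steps.fwd (nat_lit 1536) (Steps.bwd (nat_lit 4) (Steps.bwd (nat_lit 3) (Steps.fwd (nat_lit 2048) (Steps.fwd (nat_lit 1536) (Steps.bwd (nat_lit 4) (Steps.fwd (nat_lit 1536) (Steps.fwd (nat_lit 2048) (Steps.fwd (nat_lit 1536) (Steps.bwd (nat_lit 4) (Steps.fwd (nat_lit 1536) (Steps.fwd (nat_lit 2048) (Steps.fwd (nat_lit 1536) (Steps.bwd (nat_lit 4) (Steps.bwd (nat_lit 3) Steps.nil))))))))))))))) (nat_lit 12) (nat_lit 0),
  Rule.mk (nat_lit 2) (nat_lit 36) (Steps.bwd (nat_lit 5) (Steps.bwd (nat_lit 1) (Steps.fwd (nat_lit 2560) Steps.nil))) (nat_lit 4) (nat_lit 3),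
  Rule.mk (nat_lit 4) (nat_lit 136) (Steps.fwd (nat_lit 1536) (Steps.fwd (nat_lit 2560) (Steps.bwd (nat_lit 3) (Steps.bwd (nat_lit 4) (Steps.fwd (nat_lit 1536) (Steps.bwd (nat_lit 4) (Steps.fwd (nat_lit 1536) (Steps.fwd (nat_lit 2560) (Steps.fwd (nat_lit 1536) (Steps.bwd (nat_lit 4) (Steps.fwd (nat_lit 1536) (Steps.bwd (nat_lit 4) (Steps.bwd (nat_lit 3) Steps.nil))))))))))))) (nat_lit 10) (nat_lit 0),
  Rule.mk (nat_lit 1) (nat_lit 36) (Steps.bwd (nat_lit 4) (Steps.bwd (nat_lit 2) (Steps.fwd (nat_lit 2048) Steps.nil))) (nat_lit 4) (nat_lit 1)]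
noncomputable def R : List (List (Rule)) := [R_0]
def LW : List Word := [[], [0], [1], [2], [4], [5], [0], [1]]
def par : Par := ⟨9, 3, 12, 21, 511, 4095, 2097151⟩
theorem hpar : par.ok := by decide
theorem hR0_0 : lall (R) (fun l => lall l (ruleOK r1 LW par)) = true := by decide +kernel
theorem hR0 : lall (R) (fun l => lall l (ruleOK r1 LW par)) = true := hR0_0
theorem hR : RulesOK r1 LW par R := rulesOK_of rfl hR0
def cols : List (ℕ × ℕ) := [(512, 2), (1536, 3), (2048, 5)]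
theorem hcols : lall cols (colOK r1 LW par) = true := by decide +kernel
noncomputable def JS0 : List ℕ := [nat_lit 0x103c0118003041304c32d8b52d0ab2a8a92a0a7298a529052d0002d032c8002c8b2c0002c0c2b8002b8b2b0002b032a8002a8b2a0002a0c29800298b29000290328800288b0040b004a000ac24aa02cb503ca92a0a7298a5290a3288a12809f20b2000b208b0000b01cae000ae08ac000ac1caa000aa08a8000a81ca6000a608a4000a41ca2000a208a0000a01c000040018a92aca829ca6294a428ca2284a027c9e14a800ca810a8000a80c000040008a72981,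
  nat_lit 0xc32ecd2e4002e472dc002dc22d4002d472cc002cc22c4002c472bc002bc22b4002b470041a0042000ce04ce0d0da2ecba2c4b02bcae2b4ac2acaa142f2e812e0002e0b2d8002d8c2d0002d0b2c8002c832c0002c0b2b8002b8c2b0002b0b2a8002a832a0002a0b00409004a000b124af028cc33ccd2b8ad2b0ab2a8a92a0a7298a520bd2d4d2cc002cc72c4002c422bc002bc72b4002b422ac002ac72a4002a4229c0029c7,
  nat_lit 0x2f80a3fd0040440398e73a0bd2f0bb2e8b92e11338c434c2000c21cc0000c008be000be1cbc000bc08ba000ba1cb8000b808b6000b61c011280118003d013d00931cc6314ba2e4b82dcb62d4b42cd0344bf04bd000bd1cbb000bb08b9000b91cb7000b708b5000b51c010100108002f812f8bf3b42c34822320b72d8b52d0b32c8f3acbe38bc000bc2cba000ba0cb8000b82cb6000b630b4000b42cb2000b20cb0000b02c010240128002dc92d40a364e6390e3388b42ccb22c4b02bcae2b48,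
  nat_lit 0xc6000c61c011a001180043d54350c42c6a460123340831cc6314c430d438ccb04c9000c92cc7000c730c5000c52cc3000c30cc1000c12c0102401280031893100a4451244c2839827368c3308c1300bf2f93330ca04c8000c81cc6000c608c4000c41cc2000c208c0000c01cbe000be08bc000bc1c0118001180041814181231c08304c02fcbe2f4bc2ecba2e523c4c504c3000c32cc1000c130bf000bf2cbd000bd0cbb000bb2c010240128003009,
  nat_lit 0x3500035073480034823400034070048300420012f052f4c13118d0f16507348d1340cf338cd3ced354134c0034c734400345933c0033c70045700460010e050e43d181792d4b92f0a4e4394e633cce334cc60d434813400034073380033823300033070045d00420010f050f4411115d261ed1b020cd330cb328c95ced344133c0033cb33400334c32c0032cb32400324331c0031cb00471004c0011425121c51f481210b4e238ce4324c831cc6314c458ce3301328003287320003202,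
  nat_lit 0xe0000e01cde000de64dc000dc1c010ac0118003e413e4fa3ec3552c3d404e6394de374dc36cda365e3a0e93a80d4511344858468ff3f802379d3740037470042e0046000fa54f83dcf60c14651d48064e8044e236cda70fc3801378003787370003702368003687360003602358003587004880046001390539211415013f0b8f3360d7358d5350d36d07374d36c0036cb36400364c35c0035cb35400354334c0034cb00407004a000d824d6021381ed304bd2e0ed00354d434cd2344d069103681360003607358003582,
  nat_lit 0x10840108003f953f021468505809d56157558113e8ed3b0eb3aa60001c00253b002518875695b5704d4601f3e8fb3f24004880046001430543511552b961589630a8ff40101054fb3a8e98d06074fc0851a111164551412558010ea3acec88eb000eb1ce9000e908e7000e71c0129401180054955414f538a75692f4b903408e7398e539213acec3b4045243b4250a42c364940239e03980039870045d0046001230523165274a12919157078f3020e5390e37d433a4139c0039cb39400394c38c0038cb38400384337c0037cb00415004a000ec24ea059505455a231384e53a384e037cde374dc44ec398e390003907388003882,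
  nat_lit 0xc00313ec024c4575a56a5acad5854a5240e3ff00045800460012e052e4bd642d56e5bd701893004900014fe3e4f88c0005400bcf80095a56d662a15c5755e06d060651605902b80125c01180055c155c935856057cb05a51043d02404f63d6d3e80b4b12d5107c4f13d4f8043d8f73e2c3dc003dcb3d4003d433cc003ccb00473004a0013aad3a1bd545555625d6a064fe3dcf63ccf23c4f0a8ff4011b0f9451dd415013f14125010f33d0f5a4f4000f41cf2000f208f0000f01c0113c01080047d54745057ca459d66594113dcf03bcee3b683f8fd3f01e4302041905410043c0f13ca73c4003c473bc003bd93b4003b47]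
theorem S0_c : blocks (facts 9 3 12 21 511 4095 2097151 10 1023 6 63 A R 32) 32 JS0 423 = true := by decide +kernel
theorem S0 : On (Step.{u} r1 LW par A) 423 679 :=
  steps_of_blocks hpar hR S0_c (by decide +kernel)
theorem D0_c : allB (defOK 9 12 21 511 2097151 423 A K) 2 2 = true := by decide +kernel
theorem D0 : On (fun r => defOK par.W par.WL par.E par.mW par.mE 423 A K r = true) 256 512 :=
  On.of_allB D0_c
noncomputable def JW0 : List ℕ := [nat_lit 0x19d33d3da4b95192b640c8ceb0f75063d07327b1c6391811a11b09cc6a8d65e4619762ef31a5f56d97a65aca8e69b06346c98831337a6b57d9aa5d2b98b696b680798963383dc3e58f1d9608c1ccf2f45ee614bfaea31cc71979ca35ec38df34268a7959b3393e27758f9da612c18ce9805ec608ca2eb322649971c9388c3ce09c2688788efb343e4be18599a660ccce3346692784fb3353ea659851993fccc8feb4c6907e98634b3f2d39a5200,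
  nat_lit 0x1522a724e45d4b91420ca3c8190464e749422871e03693f0dc4f89fc6f88a47e21d80afe34a1711385906c84c198344ee3443423a0d6b716f9761749b85e0ca4ce31c643263a2299278a3148c58db31462e6e4982ba266bf17f9a62b0b58ad16859e594b32e22e25595f9532a8cf0f51195444a192b223aaa01410f31109e87005a6066893aa721a4bc179989478bb8c52705b45e59432b39cc618d9b5578c48dd2d85f46a5722e72dccf9a09e9,
  nat_lit 0x2221b082109218834508ac2a82a42c0b10a21705e8450701f550aac91a3946c1bc1c21e0740410180d01c9a8602684d630c5ba5b1689412989f0ee8cc3a2b956c4dc542621561391184b098b48af2d05a65848429e21650965144580b0ca793f5664f13c2a6248a514b1134b0a388028950c3bd20a3e1088611305603a848180cc4ec3391023b0d8b856f1754d89bc5f8b94cc3103ca4e1409915d9345a8b5caeaa059c589662e32e45055f150,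
  nat_lit 0x1562af23e1991786302a8180980a41408d2e25f1609252307c0bc8b8302614bc2bd222470fe09d0582403481c0b81858c521622c72964695711c53aa6887a544ae26c4624a11c3a1450eb43a8681f0484842002822a0a4831078200c8aa89023446e1c10421f07a815010084989685987b4a4271182320e6ad15b93845898c5622544411814a9f218b2165947518b08a62b05644ed4c29b2203e9490fc520a4c7f8964ac2604a24b122249458ec]
theorem W0_c : blocks (rows 9 3 12 21 511 4095 2097151 11 2047 33 A 679 168 cols 42) 42 JW0 0 = true := by decide +kernel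
theorem W0 : On (Row.{u} r1 LW par A 679 168 cols) 0 168 :=
  rows_of_blocks hpar (by decide) hcols W0_c (by decide +kernel)
theorem idx : Idx.{u} r1 [[0], [2], [4]] [[0]] 168 :=
  idx_of_cert hpar hR (K := K) (by decide +kernel) (T := 423) (T' := 512) (by decide) D0
    (subs := [1]) (by decide +kernel) (T1 := 423) (by decide) (N := 679) S0
    (by decide) (n' := 168) (by decide) W0 (by decide +kernel) (by decide +kernel)
end I0
namespace I1
noncomputable def A_0 : List (ℕ) := [nat_lit 0x20201204022060320502a0301a0100a00]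
noncomputable def A : List (List (ℕ)) := [A_0]
noncomputable def K_0 : List (ℕ) := [nat_lit 0x40e050480c160000]
noncomputable def K : List (List (ℕ)) := [K_0]
noncomputable def R_0 : List (Rule) := [Rule.mk (nat_lit 1) (nat_lit 55) (Steps.bwd (nat_lit 1) (Steps.bwd (nat_lit 1) (Steps.bwd (nat_lit 1) (Steps.bwd (nat_lit 1) (Steps.bwd (nat_lit 1) (Steps.bwd (nat_lit 1) Steps.nil)))))) (nat_lit 0) (nat_lit 0)]
noncomputable def R : List (List (Rule)) := [R_0]
def LW : List Word := [[], [0], [1]]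
def par : Par := ⟨9, 2, 11, 20, 511, 2047, 1048575⟩
theorem hpar : par.ok := by decide
theorem hR0_0 : lall (R) (fun l => lall l (ruleOK r1 LW par)) = true := by decide +kernel
theorem hR0 : lall (R) (fun l => lall l (ruleOK r1 LW par)) = true := hR0_0
theorem hR : RulesOK r1 LW par R := rulesOK_of rfl hR0
def cols : List (ℕ × ℕ) := [(512, 2)]
theorem hcols : lall cols (colOK r1 LW par) = true := by decide +kernel
noncomputable def JS0 : List ℕ := [nat_lit 0x1408030100401]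
theorem S0_c : blocks (facts 9 2 11 20 511 2047 1048575 9 511 1 1 A R 32) 32 JS0 261 = true := by decide +kernel
theorem S0 : On (Step.{u} r1 LW par A) 261 293 :=
  steps_of_blocks hpar hR S0_c (by decide +kernel)
theorem D0_c : allB (defOK 9 11 20 511 1048575 262 A K) 1 2 = true := by decide +kernel
theorem D0 : On (fun r => defOK par.W par.WL par.E par.mW par.mE 262 A K r = true) 256 384 :=
  On.of_allB D0_c
noncomputable def JW0 : List ℕ := [nat_lit 0x42110401183e1204a]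
theorem W0_c : blocks (rows 9 2 11 20 511 2047 1048575 10 1023 10 A 293 7 cols 128) 128 JW0 0 = true := by decide +kernel
theorem W0 : On (Row.{u} r1 LW par A 293 7 cols) 0 128 :=
  rows_of_blocks hpar (by decide) hcols W0_c (by decide +kernel)
theorem idx : Idx.{u} r1 [[0]] [] 7 :=
  idx_of_cert hpar hR (K := K) (by decide +kernel) (T := 262) (T' := 384) (by decide) D0
    (subs := []) (by decide +kernel) (T1 := 261) (by decide) (N := 293) S0
    (by decide) (n' := 128) (by decide) W0 (by decide +kernel) (by decide +kernel)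
end I1
namespace J0
noncomputable def A_0 : List (ℕ) := [nat_lit 0x28a0b09a850284140688341ac050830341420a01282814a0903a8180ec0103901c2460709084824c0f0630480c2060328040ac1006283c1620b09b02c2221107284422a080810401261004882404c09061030022010290141e20f09904c106130408201c40e0218380440201880c0840400281000200039828146140a18341a604092038206110898180c60b05980c1280c06200c2660f0798140a6010098001cc080420080480002280c06a00]
noncomputable def A : List (List (ℕ)) := [A_0]
noncomputable def K_0 : List (ℕ) := [nat_lit 0x1118443e1b0e83c12210985c4a150389c320d018040a0a00]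
noncomputable def K : List (List (ℕ)) := [K_0]
noncomputable def R_0 : List (Rule) := [Rule.mk (nat_lit 5) (nat_lit 23) (Steps.bwd (nat_lit 5) (Steps.bwd (nat_lit 5) Steps.nil)) (nat_lit 8) (nat_lit 0),
  Rule.mk (nat_lit 2) (nat_lit 32) (Steps.fwd (nat_lit 2560) (Steps.bwd (nat_lit 1) (Steps.bwd (nat_lit 5) Steps.nil))) (nat_lit 4) (nat_lit 3),
  Rule.mk (nat_lit 1) (nat_lit 32) (Steps.fwd (nat_lit 2560) (Steps.bwd (nat_lit 2) (Steps.bwd (nat_lit 5) Steps.nil))) (nat_lit 5) (nat_lit 2),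
  Rule.mk (nat_lit 2) (nat_lit 32) (Steps.bwd (nat_lit 4) (Steps.bwd (nat_lit 1) (Steps.fwd (nat_lit 2048) Steps.nil))) (nat_lit 2) (nat_lit 3),
  Rule.mk (nat_lit 3) (nat_lit 41) (Steps.bwd (nat_lit 6) (Steps.bwd (nat_lit 4) (Steps.bwd (nat_lit 4) (Steps.bwd (nat_lit 5) Steps.nil)))) (nat_lit 10) (nat_lit 2),
  Rule.mk (nat_lit 2) (nat_lit 32) (Steps.fwd (nat_lit 1536) (Steps.fwd (nat_lit 1024) (Steps.bwd (nat_lit 3) Steps.nil))) (nat_lit 2) (nat_lit 3),
  Rule.mk (nat_lit 1) (nat_lit 32) (Steps.fwd (nat_lit 3072) (Steps.bwd (nat_lit 2) (Steps.bwd (nat_lit 6) Steps.nil))) (nat_lit 4) (nat_lit 1),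
  Rule.mk (nat_lit 3) (nat_lit 59) (Steps.bwd (nat_lit 3) (Steps.bwd (nat_lit 3) (Steps.bwd (nat_lit 3) (Steps.bwd (nat_lit 3) (Steps.fwd (nat_lit 2048) (Steps.fwd (nat_lit 2048) Steps.nil)))))) (nat_lit 6) (nat_lit 0),
  Rule.mk (nat_lit 2) (nat_lit 32) (Steps.fwd (nat_lit 1536) (Steps.bwd (nat_lit 1) (Steps.bwd (nat_lit 3) Steps.nil))) (nat_lit 2) (nat_lit 3),
  Rule.mk (nat_lit 1) (nat_lit 32) (Steps.fwd (nat_lit 1536) (Steps.bwd (nat_lit 2) (Steps.bwd (nat_lit 3) Steps.nil))) (nat_lit 3) (nat_lit 2),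
  Rule.mk (nat_lit 6) (nat_lit 41) (Steps.bwd (nat_lit 4) (Steps.bwd (nat_lit 4) (Steps.bwd (nat_lit 5) (Steps.fwd (nat_lit 2048) Steps.nil)))) (nat_lit 10) (nat_lit 3),
  Rule.mk (nat_lit 5) (nat_lit 41) (Steps.bwd (nat_lit 4) (Steps.bwd (nat_lit 6) (Steps.bwd (nat_lit 3) (Steps.bwd (nat_lit 3) Steps.nil)))) (nat_lit 11) (nat_lit 3),
  Rule.mk (nat_lit 5) (nat_lit 23) (Steps.bwd (nat_lit 5) (Steps.fwd (nat_lit 3072) Steps.nil)) (nat_lit 8) (nat_lit 0),
  Rule.mk (nat_lit 1) (nat_lit 32) (Steps.bwd (nat_lit 5) (Steps.fwd (nat_lit 512) (Steps.fwd (nat_lit 2560) Steps.nil))) (nat_lit 4) (nat_lit 1),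
  Rule.mk (nat_lit 6) (nat_lit 41) (Steps.fwd (nat_lit 1536) (Steps.fwd (nat_lit 1536) (Steps.bwd (nat_lit 5) (Steps.bwd (nat_lit 3) Steps.nil)))) (nat_lit 10) (nat_lit 3),
  Rule.mk (nat_lit 5) (nat_lit 41) (Steps.fwd (nat_lit 1536) (Steps.bwd (nat_lit 6) (Steps.bwd (nat_lit 3) (Steps.fwd (nat_lit 2048) Steps.nil)))) (nat_lit 11) (nat_lit 3),
  Rule.mk (nat_lit 6) (nat_lit 41) (Steps.fwd (nat_lit 1536) (Steps.bwd (nat_lit 4) (Steps.bwd (nat_lit 5) (Steps.bwd (nat_lit 3) Steps.nil)))) (nat_lit 10) (nat_lit 3),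
  Rule.mk (nat_lit 5) (nat_lit 41) (Steps.fwd (nat_lit 1536) (Steps.bwd (nat_lit 6) (Steps.bwd (nat_lit 3) (Steps.bwd (nat_lit 3) Steps.nil)))) (nat_lit 11) (nat_lit 3),
  Rule.mk (nat_lit 6) (nat_lit 41) (Steps.bwd (nat_lit 4) (Steps.fwd (nat_lit 1536) (Steps.bwd (nat_lit 5) (Steps.fwd (nat_lit 2048) Steps.nil)))) (nat_lit 10) (nat_lit 3),
  Rule.mk (nat_lit 6) (nat_lit 23) (Steps.fwd (nat_lit 2560) (Steps.bwd (nat_lit 6) Steps.nil)) (nat_lit 9) (nat_lit 0),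
  Rule.mk (nat_lit 3) (nat_lit 59) (Steps.bwd (nat_lit 3) (Steps.bwd (nat_lit 3) (Steps.bwd (nat_lit 3) (Steps.bwd (nat_lit 3) (Steps.bwd (nat_lit 3) (Steps.fwd (nat_lit 2048) Steps.nil)))))) (nat_lit 6) (nat_lit 0),
  Rule.mk (nat_lit 6) (nat_lit 41) (Steps.fwd (nat_lit 1536) (Steps.fwd (nat_lit 1536) (Steps.fwd (nat_lit 3072) (Steps.bwd (nat_lit 3) Steps.nil)))) (nat_lit 10) (nat_lit 3),
  Rule.mk (nat_lit 5) (nat_lit 41) (Steps.fwd (nat_lit 1536) (Steps.fwd (nat_lit 2560) (Steps.fwd (nat_lit 2048) (Steps.bwd (nat_lit 3) Steps.nil)))) (nat_lit 11) (nat_lit 3),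
  Rule.mk (nat_lit 6) (nat_lit 23) (Steps.bwd (nat_lit 6) (Steps.bwd (nat_lit 6) Steps.nil)) (nat_lit 9) (nat_lit 0),
  Rule.mk (nat_lit 2) (nat_lit 32) (Steps.bwd (nat_lit 3) (Steps.bwd (nat_lit 1) (Steps.fwd (nat_lit 1536) Steps.nil))) (nat_lit 3) (nat_lit 0),
  Rule.mk (nat_lit 5) (nat_lit 41) (Steps.bwd (nat_lit 3) (Steps.bwd (nat_lit 6) (Steps.fwd (nat_lit 1536) (Steps.fwd (nat_lit 1536) Steps.nil)))) (nat_lit 10) (nat_lit 1),
  Rule.mk (nat_lit 5) (nat_lit 23) (Steps.fwd (nat_lit 3072) (Steps.bwd (nat_lit 5) Steps.nil)) (nat_lit 8) (nat_lit 0)]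
noncomputable def R : List (List (Rule)) := [R_0]
def LW : List Word := [[], [0], [1], [2], [3], [4], [5], [0], [1]]
def par : Par := ⟨9, 4, 13, 22, 511, 8191, 4194303⟩
theorem hpar : par.ok := by decide
theorem hR0_0 : lall (R) (fun l => lall l (ruleOK r2 LW par)) = true := by decide +kernel
theorem hR0 : lall (R) (fun l => lall l (ruleOK r2 LW par)) = true := hR0_0
theorem hR : RulesOK r2 LW par R := rulesOK_of rfl hR0
def cols : List (ℕ × ℕ) := [(512, 2), (1536, 4), (2560, 6)]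
theorem hcols : lall cols (colOK r2 LW par) = true := by decide +kernel
noncomputable def JS0 : List ℕ := [nat_lit 0x4062c16d8000100244418108803e1ea8041e013800094128b42a1f98001a00707c3c00134848001081e2210f8044500003000706008361c78041801708800d0b804062260000200486434180b8582a8000280070f8843017585c121720640019505c00174854001550000200486032160a8502680b0002c70000c006018582a142854061520540015180002001050261,
  nat_lit 0xa6c6835010af42a000ab2010a804e0006e028021309de010a005c1400344403030ad802128344f7]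
theorem S0_c : blocks (facts 9 4 13 22 511 8191 4194303 9 511 5 31 A R 32) 32 JS0 276 = true := by decide +kernel
theorem S0 : On (Step.{u} r2 LW par A) 276 340 :=
  steps_of_blocks hpar hR S0_c (by decide +kernel)
theorem D0_c : allB (defOK 9 13 22 511 4194303 276 A K) 1 2 = true := by decide +kernel
theorem D0 : On (fun r => defOK par.W par.WL par.E par.mW par.mE 276 A K r = true) 256 384 :=
  On.of_allB D0_c
noncomputable def JW0 : List ℕ := [nat_lit 0x2e2103115c701bc4922c461688c160371805f148981b0a11d8750d4860c84b25c670b0901503a208380f0951885c28c721044410c3e2384c1449a1ac7e2207d298921e865294791389c1a0a827880]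
theorem W0_c : blocks (rows 9 4 13 22 511 8191 4194303 10 1023 30 A 340 21 cols 42) 42 JW0 0 = true := by decide +kernel
theorem W0 : On (Row.{u} r2 LW par A 340 21 cols) 0 42 :=
  rows_of_blocks hpar (by decide) hcols W0_c (by decide +kernel)
theorem idx : Idx.{u} r2 [[0], [2], [4]] [[0]] 21 :=
  idx_of_cert hpar hR (K := K) (by decide +kernel) (T := 276) (T' := 384) (by decide) D0
    (subs := [1]) (by decide +kernel) (T1 := 276) (by decide) (N := 340) S0
    (by decide) (n' := 42) (by decide) W0 (by decide +kernel) (by decide +kernel)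
end J0
namespace J1
noncomputable def A_0 : List (ℕ) := [nat_lit 0x20201204022060320502a0301a0100a00]
noncomputable def A : List (List (ℕ)) := [A_0]
noncomputable def K_0 : List (ℕ) := [nat_lit 0x40e050480c160000]
noncomputable def K : List (List (ℕ)) := [K_0]
noncomputable def R_0 : List (Rule) := [Rule.mk (nat_lit 1) (nat_lit 55) (Steps.bwd (nat_lit 1) (Steps.bwd (nat_lit 1) (Steps.bwd (nat_lit 1) (Steps.bwd (nat_lit 1) (Steps.bwd (nat_lit 1) (Steps.bwd (nat_lit 1) Steps.nil)))))) (nat_lit 0) (nat_lit 0)]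
noncomputable def R : List (List (Rule)) := [R_0]
def LW : List Word := [[], [0], [1]]
def par : Par := ⟨9, 2, 11, 20, 511, 2047, 1048575⟩
theorem hpar : par.ok := by decide
theorem hR0_0 : lall (R) (fun l => lall l (ruleOK r2 LW par)) = true := by decide +kernel
theorem hR0 : lall (R) (fun l => lall l (ruleOK r2 LW par)) = true := hR0_0
theorem hR : RulesOK r2 LW par R := rulesOK_of rfl hR0
def cols : List (ℕ × ℕ) := [(512, 2)]
theorem hcols : lall cols (colOK r2 LW par) = true := by decide +kernel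
noncomputable def JS0 : List ℕ := [nat_lit 0x1408030100401]
theorem S0_c : blocks (facts 9 2 11 20 511 2047 1048575 9 511 1 1 A R 32) 32 JS0 261 = true := by decide +kernel
theorem S0 : On (Step.{u} r2 LW par A) 261 293 :=
  steps_of_blocks hpar hR S0_c (by decide +kernel)
theorem D0_c : allB (defOK 9 11 20 511 1048575 262 A K) 1 2 = true := by decide +kernel
theorem D0 : On (fun r => defOK par.W par.WL par.E par.mW par.mE 262 A K r = true) 256 384 :=
  On.of_allB D0_c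
noncomputable def JW0 : List ℕ := [nat_lit 0x42110401183e1204a]
theorem W0_c : blocks (rows 9 2 11 20 511 2047 1048575 10 1023 10 A 293 7 cols 128) 128 JW0 0 = true := by decide +kernel
theorem W0 : On (Row.{u} r2 LW par A 293 7 cols) 0 128 :=
  rows_of_blocks hpar (by decide) hcols W0_c (by decide +kernel)
theorem idx : Idx.{u} r2 [[0]] [] 7 :=
  idx_of_cert hpar hR (K := K) (by decide +kernel) (T := 262) (T' := 384) (by decide) D0
    (subs := []) (by decide +kernel) (T1 := 261) (by decide) (N := 293) S0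
    (by decide) (n' := 128) (by decide) W0 (by decide +kernel) (by decide +kernel)
end J1
theorem b1 : Bound.{u} r1 [[0], [2], [4]] 1176 := Bound.of_idx I0.idx (Bound.of_idx I1.idx (Bound.nil _) (N := 7) (by decide)) (by decide)
theorem b2 : Bound.{u} r2 [[0], [2], [4]] 147 := Bound.of_idx J0.idx (Bound.of_idx J1.idx (Bound.nil _) (N := 7) (by decide)) (by decide)
end
end CA.ThC7T
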