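import Cfsg.Agent.Lib.Spor.ThP

/-! Data for the involution centraliser of the Thompson group. -/

set_option autoImplicit false
set_option maxRecDepth 100000
set_option linter.all false

namespace CA.ThCd
open CA.CNet CA.CWord CA.CLevel CA.CSimple CA.CPoint CA.CTodd CA.CPres CA.CLow CA.ThP

def GW1 : List Word := [[13,8,4,13,0], [13,8,4,13,0,5,7,5,7,1,9,12,3,1,5,3,10,10,9,11,11,6,4,6,0,4,13,8,6,4,6,12,3,1,5,3,10,10,9,11,11,8,0,6,4,6,4,10,10,8,11,11,2,4,0,2,13,7,5,7,9,12,5,1,7,5,7], [10,10,8,11,11,2,4,0,2,13,1,12,5,9,12,8,0,6,4,6,4,10,10,8,11,11,2,4,0,2,13,7,5,7,9,12,5,1,7,5,7,10,10,8,11,11,2,4,0,2,13,10,10,8,11,11,2,4,0,2,13,8,0,6,4,6,4,12,3,1,5,3,10,10,9,11,11]]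
def low1_w2 : List Word := [[1,12,5,9,12,1,12,5,9,12], [10,10,8,11,11,2,4,0,2,13,5,7,5,7,1,9,12,3,1,5,3,10,10,9,11,11,12,3,1,5,3,10,10,9,11,11,6,4,6,0,4,13,8,6,4,6,12,3,1,5,3,10,10,9,11,11,5,7,5,7,1,9,13,8,4,13,0,12,3,1,5,3,10,10,9,11,11,13,8,4,13,0,5,7,5,7,1,9,12,3,1,5,3,10,10,9,11,11,6,4,6,0,4,13,8,6,4,6,12,3,1,5,3,10,10,9,11,11,8,0,6,4,6,4,10,10,8,11,11,2,4,0,2,13,7,5,7,9,12,5,1,7,5,7,10,10,8,11,11,2,4,0,2,13,5,7,5,7,1,9,12,3,1,5,3,10,10,9,11,11,12,3,1,5,3,10,10,9,11,11,6,4,6,0,4,13,8,6,4,6,12,3,1,5,3,10,10,9,11,11,5,7,5,7,1,9,13,8,4,13,0,12,3,1,5,3,10,10,9,11,11,6,4,6,0,4,13,8,6,4,6,12,3,1,5,3,10,10,9,11,11,5,7,5,7,1,9,10,10,8,11,11,2,4,0,2,13,7,5,7,9,12,5,1,7,5,7,10,10,8,11,11,2,4,0,2,13,8,0,6,4,6,4,1,12,5,9,12,10,10,8,11,11,2,4,0,2,13,5,7,5,7,1,9,12,3,1,5,3,10,10,9,11,11,12,3,1,5,3,10,10,9,11,11,6,4,6,0,4,13,8,6,4,6,12,3,1,5,3,10,10,9,11,11,5,7,5,7,1,9,13,8,4,13,0,12,3,1,5,3,10,10,9,11,11,13,8,4,13,0,5,7,5,7,1,9,12,3,1,5,3,10,10,9,11,11,6,4,6,0,4,13,8,6,4,6,12,3,1,5,3,10,10,9,11,11,8,0,6,4,6,4,10,10,8,11,11,2,4,0,2,13,7,5,7,9,12,5,1,7,5,7]]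
theorem low1_2 : Low (C.grp low1_w2) 24 [15] :=
  low_orb hC hlk 15 (by decide) [(15,0), (15,1), (15,2), (15,3), (29,2), (29,3), (30,2), (30,3), (343,1), (343,2), (568,0), (568,3), (729,2), (630,0), (630,3), (717,2), (543,3), (542,2), (542,3), (403,2), (650,2), (376,2), (380,2)] (m := 24) (grp_mono _ (by decide +kernel))
    (by decide +kernel) (by decide +kernel) (low_nil C) (by decide)
def low1_w1 : List Word := [[1,12,5,9,12,1,12,5,9,12], [10,10,8,11,11,2,4,0,2,13,5,7,5,7,1,9,12,3,1,5,3,10,10,9,11,11,12,3,1,5,3,10,10,9,11,11,6,4,6,0,4,13,8,6,4,6,12,3,1,5,3,10,10,9,11,11,5,7,5,7,1,9,13,8,4,13,0,12,3,1,5,3,10,10,9,11,11,13,8,4,13,0,5,7,5,7,1,9,12,3,1,5,3,10,10,9,11,11,6,4,6,0,4,13,8,6,4,6,12,3,1,5,3,10,10,9,11,11,8,0,6,4,6,4,10,10,8,11,11,2,4,0,2,13,7,5,7,9,12,5,1,7,5,7,10,10,8,11,11,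2,4,0,2,13,5,7,5,7,1,9,12,3,1,5,3,10,10,9,11,11,12,3,1,5,3,10,10,9,11,11,6,4,6,0,4,13,8,6,4,6,12,3,1,5,3,10,10,9,11,11,5,7,5,7,1,9,13,8,4,13,0,12,3,1,5,3,10,10,9,11,11,6,4,6,0,4,13,8,6,4,6,12,3,1,5,3,10,10,9,11,11,5,7,5,7,1,9,10,10,8,11,11,2,4,0,2,13,7,5,7,9,12,5,1,7,5,7,10,10,8,11,11,2,4,0,2,13,8,0,6,4,6,4,1,12,5,9,12,10,10,8,11,11,2,4,0,2,13,5,7,5,7,1,9,12,3,1,5,3,10,10,9,11,11,12,3,1,5,3,10,10,9,11,11,6,4,6,0,4,13,8,6,4,6,12,3,1,5,3,10,10,9,11,11,5,7,5,7,1,9,13,8,4,13,0,12,3,1,5,3,10,10,9,11,11,13,8,4,13,0,5,7,5,7,1,9,12,3,1,5,3,10,10,9,11,11,6,4,6,0,4,13,8,6,4,6,12,3,1,5,3,10,10,9,11,11,8,0,6,4,6,4,10,10,8,11,11,2,4,0,2,13,7,5,7,9,12,5,1,7,5,7], [1,12,5,9,12,10,10,8,11,11,2,4,0,2,13,1,12,5,9,12,8,0,6,4,6,4,10,10,8,11,11,2,4,0,2,13,7,5,7,9,12,5,1,7,5,7,10,10,8,11,11,2,4,0,2,13,10,10,8,11,11,2,4,0,2,13,8,0,6,4,6,4,12,3,1,5,3,10,10,9,11,11],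 [1,12,5,9,12,10,10,8,11,11,2,4,0,2,13,5,7,5,7,1,9,12,3,1,5,3,10,10,9,11,11,12,3,1,5,3,10,10,9,11,11,6,4,6,0,4,13,8,6,4,6,12,3,1,5,3,10,10,9,11,11,5,7,5,7,1,9,13,8,4,13,0,12,3,1,5,3,10,10,9,11,11], [1,12,5,9,12,6,4,6,0,4,13,8,6,4,6,12,3,1,5,3,10,10,9,11,11,5,7,5,7,1,9,10,10,8,11,11,2,4,0,2,13,7,5,7,9,12,5,1,7,5,7,10,10,8,11,11,2,4,0,2,13,8,0,6,4,6,4,1,12,5,9,12,6,4,6,0,4,13,8,6,4,6,12,3,1,5,3,10,10,9,11,11,5,7,5,7,1,9,10,10,8,11,11,2,4,0,2,13,7,5,7,9,12,5,1,7,5,7,10,10,8,11,11,2,4,0,2,13,8,0,6,4,6,4,1,12,5,9,12,10,10,8,11,11,2,4,0,2,13,5,7,5,7,1,9,12,3,1,5,3,10,10,9,11,11,12,3,1,5,3,10,10,9,11,11,6,4,6,0,4,13,8,6,4,6,12,3,1,5,3,10,10,9,11,11,5,7,5,7,1,9,13,8,4,13,0,12,3,1,5,3,10,10,9,11,11,13,8,4,13,0,5,7,5,7,1,9,12,3,1,5,3,10,10,9,11,11,6,4,6,0,4,13,8,6,4,6,12,3,1,5,3,10,10,9,11,11,8,0,6,4,6,4,10,10,8,11,11,2,4,0,2,13,7,5,7,9,12,5,1,7,5,7,13,8,4,13,0,5,7,5,7,1,9,12,3,1,5,3,10,10,9,11,11,6,4,6,0,4,13,8,6,4,6,12,3,1,5,3,10,10,9,11,11,8,0,6,4,6,4,10,10,8,11,11,2,4,0,2,13,7,5,7,9,12,5,1,7,5,7]]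
theorem low1_1 : Low (C.grp low1_w1) 768 [13,15] :=
  low_orb hC hlk 13 (by decide) [(13,4), (13,6), (13,8), (13,9), (58,6), (58,8), (58,9), (197,2), (197,4), (197,8), (197,9), (495,1), (495,4), (495,5), (495,6), (495,7), (318,3), (318,4), (318,6), (46,8), (46,9), (128,1), (128,5), (128,6), (128,7), (78,4), (78,6), (131,6), (24,6), (49,1), (49,4)] (m := 32) (grp_mono _ (by decide +kernel))
    (by decide +kernel) (by decide +kernel) low1_2 (by decide)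
theorem low1 : Low (C.grp GW1) 36864 [10,13,15] :=
  low_orb hC hlk 10 (by decide) [(10,0), (10,2), (10,3), (34,2), (34,3), (86,1), (86,2), (86,4), (86,5), (49,3), (49,4), (49,5), (127,1), (127,2), (127,4), (128,3), (128,4), (78,2), (78,4), (78,5), (36,2), (36,5), (497,5), (65,5), (347,3), (319,3), (319,5), (83,2), (102,2), (102,4), (349,4), (101,4), (211,4), (60,4), (348,4), (210,2), (13,4), (13,5), (64,2), (84,3), (84,5), (318,4), (62,5), (46,5), (61,2), (129,3), (24,4)] (m := 48) (le_of_subst _ [[1,1], [5,2,5,3,5,2], [1,4], [1,5], [1,3,3,5,2,2]] (by decide +kernel))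
    (by decide +kernel) (by decide +kernel) low1_1 (by decide)
def GW2 : List Word := [[13,8,4,13,0,13,8,4,13,0], [13,8,4,13,0,10,10,8,11,11,2,4,0,2,13,10,10,8,11,11,2,4,0,2,13,6,4,6,0,4,13,8,6,4,6,10,10,8,11,11,2,4,0,2,13,10,10,8,11,11,2,4,0,2,13,10,10,8,11,11,2,4,0,2,13,7,5,7,9,12,5,1,7,5,7,10,10,8,11,11,2,4,0,2,13], [10,10,8,11,11,2,4,0,2,13,10,10,8,11,11,2,4,0,2,13,10,10,8,11,11,2,4,0,2,13,7,5,7,9,12,5,1,7,5,7,10,10,8,11,11,2,4,0,2,13,10,10,8,11,11,2,4,0,2,13,10,10,8,11,11,2,4,0,2,13], [1,12,5,9,12,10,10,8,11,11,2,4,0,2,13,5,7,5,7,1,9,12,3,1,5,3,10,10,9,11,11,12,3,1,5,3,10,10,9,11,11,5,7,5,7,1,9,6,4,6,0,4,13,8,6,4,6,10,10,8,11,11,2,4,0,2,13], [10,10,8,11,11,2,4,0,2,13,6,4,6,0,4,13,8,6,4,6,12,3,1,5,3,10,10,9,11,11,13,8,4,13,0,8,0,6,4,6,4,10,10,8,11,11,2,4,0,2,13,10,10,8,11,11,2,4,0,2,13],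 [8,0,6,4,6,4,10,10,8,11,11,2,4,0,2,13,5,7,5,7,1,9,6,4,6,0,4,13,8,6,4,6,12,3,1,5,3,10,10,9,11,11,5,7,5,7,1,9,12,3,1,5,3,10,10,9,11,11,8,0,6,4,6,4], [10,10,8,11,11,2,4,0,2,13,1,12,5,9,12,8,0,6,4,6,4,12,3,1,5,3,10,10,9,11,11,6,4,6,0,4,13,8,6,4,6,10,10,8,11,11,2,4,0,2,13,8,0,6,4,6,4,10,10,8,11,11,2,4,0,2,13,7], [6,4,6,0,4,13,8,6,4,6,12,3,1,5,3,10,10,9,11,11,8,0,6,4,6,4,12,3,1,5,3,10,10,9,11,11,5,7,5,7,1,9,12,3,1,5,3,10,10,9,11,11,13,8,4,13,0,5,7,5,7,1,9,3,7,12,3,1,5,3,10,10,9,11,11,3,11]]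
def low2_w2 : List Word := [[13,8,4,13,0,13,8,4,13,0], [12,3,1,5,3,10,10,9,11,11,7,5,7,9,12,5,1,7,5,7,8,0,6,4,6,4,10,10,8,11,11,2,4,0,2,13,10,10,8,11,11,2,4,0,2,13,8,0,6,4,6,4,12,3,1,5,3,10,10,9,11,11,13,8,4,13,0,12,3,1,5,3,10,10,9,11,11,7,5,7,9,12,5,1,7,5,7,8,0,6,4,6,4,10,10,8,11,11,2,4,0,2,13,10,10,8,11,11,2,4,0,2,13,8,0,6,4,6,4,12,3,1,5,3,10,10,9,11,11,13,8,4,13,0], [12,3,1,5,3,10,10,9,11,11,12,3,1,5,3,10,10,9,11,11,12,3,1,5,3,10,10,9,11,11,6,4,6,0,4,13,8,6,4,6,12,3,1,5,3,10,10,9,11,11,12,3,1,5,3,10,10,9,11,11,12,3,1,5,3,10,10,9,11,11,1,12,5,9,12,10,10,8,11,11,2,4,0,2,13,5,7,5,7,1,9,12,3,1,5,3,10,10,9,11,11,12,3,1,5,3,10,10,9,11,11,5,7,5,7,1,9,6,4,6,0,4,13,8,6,4,6,10,10,8,11,11,2,4,0,2,13,13,8,4,13,0,10,10,8,11,11,2,4,0,2,13,10,10,8,11,11,2,4,0,2,13,6,4,6,0,4,13,8,6,4,6,10,10,8,11,11,2,4,0,2,13,10,10,8,11,11,2,4,0,2,13,10,10,8,11,11,2,4,0,2,13,7,5,7,9,12,5,1,7,5,7,10,10,8,11,11,2,4,0,2,13]]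
theorem low2_2 : Low (C.grp low2_w2) 24 [15] :=
  low_orb hC hlk 15 (by decide) [(15,0), (15,1), (15,2), (15,3), (15,4), (15,5), (30,2), (30,3), (30,4), (30,5), (29,2), (29,3), (29,4), (29,5), (295,1), (295,4), (579,0), (579,4), (579,5), (577,1), (540,3), (600,0), (456,3)] (m := 24) (grp_mono _ (by decide +kernel))
    (by decide +kernel) (by decide +kernel) (low_nil C) (by decide)
def low2_w1 : List Word := [[13,8,4,13,0,13,8,4,13,0], [12,3,1,5,3,10,10,9,11,11,7,5,7,9,12,5,1,7,5,7,8,0,6,4,6,4,10,10,8,11,11,2,4,0,2,13,10,10,8,11,11,2,4,0,2,13,8,0,6,4,6,4,12,3,1,5,3,10,10,9,11,11,13,8,4,13,0,12,3,1,5,3,10,10,9,11,11,7,5,7,9,12,5,1,7,5,7,8,0,6,4,6,4,10,10,8,11,11,2,4,0,2,13,10,10,8,11,11,2,4,0,2,13,8,0,6,4,6,4,12,3,1,5,3,10,10,9,11,11,13,8,4,13,0], [12,3,1,5,3,10,10,9,11,11,12,3,1,5,3,10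,10,9,11,11,12,3,1,5,3,10,10,9,11,11,6,4,6,0,4,13,8,6,4,6,12,3,1,5,3,10,10,9,11,11,12,3,1,5,3,10,10,9,11,11,12,3,1,5,3,10,10,9,11,11,1,12,5,9,12,10,10,8,11,11,2,4,0,2,13,5,7,5,7,1,9,12,3,1,5,3,10,10,9,11,11,12,3,1,5,3,10,10,9,11,11,5,7,5,7,1,9,6,4,6,0,4,13,8,6,4,6,10,10,8,11,11,2,4,0,2,13,13,8,4,13,0,10,10,8,11,11,2,4,0,2,13,10,10,8,11,11,2,4,0,2,13,6,4,6,0,4,13,8,6,4,6,10,10,8,11,11,2,4,0,2,13,10,10,8,11,11,2,4,0,2,13,10,10,8,11,11,2,4,0,2,13,7,5,7,9,12,5,1,7,5,7,10,10,8,11,11,2,4,0,2,13], [13,8,4,13,0,10,10,8,11,11,2,4,0,2,13,10,10,8,11,11,2,4,0,2,13,6,4,6,0,4,13,8,6,4,6,10,10,8,11,11,2,4,0,2,13,10,10,8,11,11,2,4,0,2,13,10,10,8,11,11,2,4,0,2,13,7,5,7,9,12,5,1,7,5,7,10,10,8,11,11,2,4,0,2,13], [10,10,8,11,11,2,4,0,2,13,10,10,8,11,11,2,4,0,2,13,10,10,8,11,11,2,4,0,2,13,7,5,7,9,12,5,1,7,5,7,10,10,8,11,11,2,4,0,2,13,10,10,8,11,11,2,4,0,2,13,10,10,8,11,11,2,4,0,2,13],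 [12,3,1,5,3,10,10,9,11,11,12,3,1,5,3,10,10,9,11,11,5,7,5,7,1,9,1,12,5,9,12,10,10,8,11,11,2,4,0,2,13,7,5,7,9,12,5,1,7,5,7,12,3,1,5,3,10,10,9,11,11,8,0,6,4,6,4,10,10,8,11,11,2,4,0,2,13,5,7,5,7,1,9,6,4,6,0,4,13,8,6,4,6,12,3,1,5,3,10,10,9,11,11,5,7,5,7,1,9,12,3,1,5,3,10,10,9,11,11,8,0,6,4,6,4]]
theorem low2_1 : Low (C.grp low2_w1) 768 [19,15] :=
  low_orb hC hlk 19 (by decide) [(19,6), (19,8), (19,10), (19,11), (77,4), (77,8), (77,10), (77,11), (57,6), (57,10), (57,11), (216,0), (216,1), (216,7), (216,9), (216,10), (325,0), (325,1), (325,6), (325,8), (325,11), (47,6), (47,10), (47,11), (123,6), (123,10), (322,9), (132,8), (132,11), (80,11), (204,1)] (m := 32) (grp_mono _ (by decide +kernel))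
    (by decide +kernel) (by decide +kernel) low2_2 (by decide)
theorem low2 : Low (C.grp GW2) 13824 [6,19,15] :=
  low_orb hC hlk 6 (by decide) [(6,8), (6,12), (6,13), (6,14), (6,15), (33,12), (33,13), (33,14), (33,15), (10,14), (10,15), (18,14), (18,15), (103,12), (103,14), (35,3), (17,14)] (m := 18) (le_of_subst _ [[0], [7,7], [5,6,2], [2], [4], [9,10]] (by decide +kernel))
    (by decide +kernel) (by decide +kernel) low2_1 (by decide)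
def GW3 : List Word := [[5,7,5,7,1,9,5,7,5,7,1,9,6,4,6,0,4,13,8,6,4,6,12,3,1,5,3,10,10,9,11,11,6,4,6,0,4,13,8,6,4,6,1,12,5,9,12,6,4,6,0,4,13,8,6,4,6], [13,8,4,13,0,13,8,4,13,0,10,10,8,11,11,2,4,0,2,13,1,12,5,9,12], [1,12,5,9,12,1,12,5,9,12,10,10,8,11,11,2,4,0,2,13], [13,8,4,13,0,12,3,1,5,3,10,10,9,11,11,12,3,1,5,3,10,10,9,11,11], [10,10,8,11,11,2,4,0,2,13,10,10,8,11,11,2,4,0,2,13,10,10,8,11,11,2,4,0,2,13], [10,10,8,11,11,2,4,0,2,13,10,10,8,11,11,2,4,0,2,13,10,10,8,11,11,2,4,0,2,13,6,4,6,0,4,13,8,6,4,6,10,10,8,11,11,2,4,0,2,13,1,12,5,9,12,12,3,1,5,3,10,10,9,11,11,7,5,7,9,12,5,1,7,5,7,3,7,5,7,9,12,5,1,7,5,7,10,10,8,11,11,2,4,0,2,13,7,5,7,9,12,5,1,7,5,7], [7,5,7,9,12,5,1,7,5,7,12,3,1,5,3,10,10,9,11,11,12,3,1,5,3,10,10,9,11,11,5,7,5,7,1,9,6,4,6,0,4,13,8,6,4,6,12,3,1,5,3,10,10,9,11,11,7,10,13,9,3,1,5,3,10,10,9,11,11,8,0,6,4,6,4,3]]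
def low3_w1 : List Word := [[13,8,4,13,0,12,3,1,5,3,10,10,9,11,11,12,3,1,5,3,10,10,9,11,11], [5,7,5,7,1,9,5,7,5,7,1,9,6,4,6,0,4,13,8,6,4,6,12,3,1,5,3,10,10,9,11,11,6,4,6,0,4,13,8,6,4,6,1,12,5,9,12,6,4,6,0,4,13,8,6,4,6,13,8,4,13,0,13,8,4,13,0,10,10,8,11,11,2,4,0,2,13,1,12,5,9,12], [5,7,5,7,1,9,5,7,5,7,1,9,6,4,6,0,4,13,8,6,4,6,12,3,1,5,3,10,10,9,11,11,6,4,6,0,4,13,8,6,4,6,1,12,5,9,12,6,4,6,0,4,13,8,6,4,6,1,12,5,9,12,1,12,5,9,12,10,10,8,11,11,2,4,0,2,13], [5,7,5,7,1,9,5,7,5,7,1,9,6,4,6,0,4,13,8,6,4,6,12,3,1,5,3,10,10,9,11,11,6,4,6,0,4,13,8,6,4,6,1,12,5,9,12,6,4,6,0,4,13,8,6,4,6,10,10,8,11,11,2,4,0,2,13,10,10,8,11,11,2,4,0,2,13,10,10,8,11,11,2,4,0,2,13]]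
theorem low3_1 : Low (C.grp low3_w1) 16 [5] :=
  low_orb hC hlk 5 (by decide) [(5,0), (5,2), (5,4), (5,6), (40,2), (40,4), (40,6), (15,4), (15,6), (41,6), (11,4), (11,6), (29,6), (74,6), (16,6)] (m := 16) (grp_mono _ (by decide +kernel))
    (by decide +kernel) (by decide +kernel) (low_nil C) (by decide)
theorem low3 : Low (C.grp GW3) 288 [0,5] :=
  low_orb hC hlk 0 (by decide) [(0,0), (0,10), (0,11), (0,12), (0,13), (6,10), (6,11), (6,12), (6,13), (668,12), (668,13), (702,12), (702,13), (532,10), (2,10), (2,11), (692,12)] (m := 18) (le_of_subst _ [[6], [0,2], [0,4], [0,8]] (by decide +kernel))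
    (by decide +kernel) (by decide +kernel) low3_1 (by decide)
def GW4 : List Word := [[13,8,4,13,0,13,8,4,13,0], [13,8,4,13,0,10,10,8,11,11,2,4,0,2,13,10,10,8,11,11,2,4,0,2,13,10,10,8,11,11,2,4,0,2,13,6,4,6,0,4,13,8,6,4,6,10,10,8,11,11,2,4,0,2,13,10,10,8,11,11,2,4,0,2,13,10,10,8,11,11,2,4,0,2,13,8,0,6,4,6,4], [5,7,5,7,1,9,10,10,8,11,11,2,4,0,2,13,10,10,8,11,11,2,4,0,2,13,10,10,8,11,11,2,4,0,2,13,5,7,5,7,1,9,5,7,5,7,1,9], [13,8,4,13,0,8,0,6,4,6,4,10,10,8,11,11,2,4,0,2,13,10,10,8,11,11,2,4,0,2,13,10,10,8,11,11,2,4,0,2,13,5,7,5,7,1,9,7,5,7,9,12,5,1,7,5,7,13,8,4,13,0,3,1], [6,4,6,0,4,13,8,6,4,6,10,10,8,11,11,2,4,0,2,13,10,10,8,11,11,2,4,0,2,13,7,5,7,9,12,5,1,7,5,7,12,3,1,5,3,10,10,9,11,11,12,3,1,5,3,10,10,9,11,11,6,4,6,0,4,13,8,6,4,6,3,11,5,1,3,1,5,3,7,5,7,9,7,5,3,1,7,5,3,7,5,7,1,9,11,13,9,3,1,5,3,10,10,9,11,11,3]]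
def low4_w1 : List Word := [[13,8,4,13,0,13,8,4,13,0], [13,8,4,13,0,10,10,8,11,11,2,4,0,2,13,10,10,8,11,11,2,4,0,2,13,10,10,8,11,11,2,4,0,2,13,6,4,6,0,4,13,8,6,4,6,10,10,8,11,11,2,4,0,2,13,10,10,8,11,11,2,4,0,2,13,10,10,8,11,11,2,4,0,2,13,8,0,6,4,6,4,5,7,5,7,1,9,10,10,8,11,11,2,4,0,2,13,10,10,8,11,11,2,4,0,2,13,10,10,8,11,11,2,4,0,2,13,5,7,5,7,1,9,5,7,5,7,1,9], [13,8,4,13,0,8,0,6,4,6,4,10,10,8,11,11,2,4,0,2,13,10,10,8,11,11,2,4,0,2,13,10,10,8,11,11,2,4,0,2,13,5,7,5,7,1,9,7,5,7,9,12,5,1,7,5,7,13,8,4,13,0,3,1,6,4,6,0,4,13,8,6,4,6,10,10,8,11,11,2,4,0,2,13,10,10,8,11,11,2,4,0,2,13,7,5,7,9,12,5,1,7,5,7,12,3,1,5,3,10,10,9,11,11,12,3,1,5,3,10,10,9,11,11,6,4,6,0,4,13,8,6,4,6,3,11,5,1,3,1,5,3,7,5,7,9,7,5,3,1,7,5,3,7,5,7,1,9,11,13,9,3,1,5,3,10,10,9,11,11,3,13,8,4,13,0,10,10,8,11,11,2,4,0,2,13,10,10,8,11,11,2,4,0,2,13,10,10,8,11,11,2,4,0,2,13,6,4,6,0,4,13,8,6,4,6,10,10,8,11,11,2,4,0,2,13,10,10,8,11,11,2,4,0,2,13,10,10,8,11,11,2,4,0,2,13,8,0,6,4,6,4]]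
theorem low4_1 : Low (C.grp low4_w1) 54 [15] :=
  low_orb hC hlk 15 (by decide) [(15,0), (15,1), (15,2), (15,4), (15,5), (30,2), (30,4), (30,5), (29,2), (29,4), (29,5), (110,4), (110,5), (231,1), (231,2), (231,4), (380,0), (380,2), (380,5), (69,4), (69,5), (571,2), (571,4), (63,0), (63,2), (63,5), (113,4), (113,5), (64,2), (64,4), (388,2), (388,5), (614,1), (614,2), (614,4), (742,0), (742,2), (742,5), (389,2), (109,4), (109,5), (412,2), (570,2), (555,4), (555,5), (295,2), (321,0), (321,2), (321,5), (35,2), (86,4), (467,2), (417,2)] (m := 54) (grp_mono _ (by decide +kernel))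
    (by decide +kernel) (by decide +kernel) (low_nil C) (by decide)
theorem low4 : Low (C.grp GW4) 486 [1,15] :=
  low_orb hC hlk 1 (by decide) [(1,2), (1,4), (1,6), (1,7), (1,8), (1,9), (206,6), (206,7)] (m := 9) (le_of_subst _ [[0], [2,4], [6,8,2]] (by decide +kernel))
    (by decide +kernel) (by decide +kernel) low4_1 (by decide)
def GW5 : List Word := [[13,8,4,13,0,10,10,8,11,11,2,4,0,2,13,10,10,8,11,11,2,4,0,2,13,10,10,8,11,11,2,4,0,2,13,6,4,6,0,4,13,8,6,4,6,10,10,8,11,11,2,4,0,2,13,10,10,8,11,11,2,4,0,2,13,10,10,8,11,11,2,4,0,2,13,8,0,6,4,6,4], [5,7,5,7,1,9,10,10,8,11,11,2,4,0,2,13,10,10,8,11,11,2,4,0,2,13,10,10,8,11,11,2,4,0,2,13,5,7,5,7,1,9,5,7,5,7,1,9]]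
theorem low5 : Low (C.grp GW5) 6 [2] :=
  low_orb hC hlk 2 (by decide) [(2,0), (2,2), (2,3), (130,2), (130,3)] (m := 6) (le_of_subst _ [] (by decide +kernel))
    (by decide +kernel) (by decide +kernel) (low_nil C) (by decide)
def GW6 : List Word := [[13,8,4,13,0,10,10,8,11,11,2,4,0,2,13,10,10,8,11,11,2,4,0,2,13,10,10,8,11,11,2,4,0,2,13,6,4,6,0,4,13,8,6,4,6,10,10,8,11,11,2,4,0,2,13,10,10,8,11,11,2,4,0,2,13,10,10,8,11,11,2,4,0,2,13,8,0,6,4,6,4], [5,7,5,7,1,9,10,10,8,11,11,2,4,0,2,13,10,10,8,11,11,2,4,0,2,13,10,10,8,11,11,2,4,0,2,13,5,7,5,7,1,9,5,7,5,7,1,9], [6,4,6,0,4,13,8,6,4,6,10,10,8,11,11,2,4,0,2,13,5,7,5,7,1,9,12,3,1,5,3,10,10,9,11,11,7,5,7,9,12,5,1,7,5,7,10,10,8,11,11,2,4,0,2,13,8,0,6,4,6,4,10,10,8,11,11,2,4,0,2,13,7,12,3,1,5,3,10,10,9,11,11,8,0,6,4,6,4,7]]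
theorem low6 : Low (C.grp GW6) 54 [2] :=
  low_orb hC hlk 2 (by decide) [(2,0), (2,2), (2,3), (2,4), (2,5), (130,2), (130,3), (130,4), (130,5), (77,4), (77,5), (87,4), (87,5), (343,2), (343,3), (354,2), (354,3), (3,4), (3,5), (47,4), (47,5), (802,2), (802,3), (289,2), (289,3), (101,2), (101,3), (321,2), (321,3), (644,2), (644,3), (389,2), (389,3), (410,5), (514,5), (232,4), (117,4), (611,2), (611,3), (749,2), (749,3), (63,2), (63,3), (213,2), (213,3), (165,5), (600,5), (565,4), (415,4), (494,5), (339,4), (663,5), (405,4)] (m := 54) (le_of_subst _ [] (by decide +kernel))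
    (by decide +kernel) (by decide +kernel) (low_nil C) (by decide)
def GW7 : List Word := [[13,8,4,13,0,13,8,4,13,0], [13,8,4,13,0,12,3,1,5,3,10,10,9,11,11,12,3,1,5,3,10,10,9,11,11,6,4,6,0,4,13,8,6,4,6,10,10,8,11,11,2,4,0,2,13,10,10,8,11,11,2,4,0,2,13,10,10,8,11,11,2,4,0,2,13,6,4,6,0,4,13,8,6,4,6,10,10,8,11,11,2,4,0,2,13], [13,8,4,13,0,12,3,1,5,3,10,10,9,11,11,12,3,1,5,3,10,10,9,11,11,5,7,5,7,1,9,5,7,5,7,1,9,7,5,7,9,12,5,1,7,5,7,10,10,8,11,11,2,4,0,2,13,8,0,6,4,6,4], [12,3,1,5,3,10,10,9,11,11,8,0,6,4,6,4,10,10,8,11,11,2,4,0,2,13,5,7,5,7,1,9,10,10,8,11,11,2,4,0,2,13,6,4,6,0,4,13,8,6,4,6,12,3,1,5,3,10,10,9,11,11,13,8,4,13,0,3,1,7,9]]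
def low7_w1 : List Word := [[5,7,5,7,1,9,12,3,1,5,3,10,10,9,11,11,6,4,6,0,4,13,8,6,4,6,8,0,6,4,6,4,8,0,6,4,6,4,10,10,8,11,11,2,4,0,2,13,10,10,8,11,11,2,4,0,2,13,1,12,5,9,12,8,6,0,2,1,12,5,9,12,10,10,8,11,11,2,4,0,2,13,7,5,7,9,12,5,1,7,5,7,12,3,1,5,3,10,10,9,11,11,8,0,6,4,6,4,12,3,1,5,3,10,10,9,11,11,5,7,5,7,1,9,10,10,8,11,11,2,4,0,2,13]]
theorem low7_1 : Low (C.grp low7_w1) 2 [0] :=
  low_orb hC hlk 0 (by decide) [(0,0)] (m := 2) (grp_mono _ (by decide +kernel))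
    (by decide +kernel) (by decide +kernel) (low_nil C) (by decide)
theorem low7 : Low (C.grp GW7) 126 [15,0] :=
  low_orb hC hlk 15 (by decide) [(15,0), (15,1), (15,2), (15,4), (15,5), (15,7), (30,2), (30,4), (30,5), (30,7), (29,2), (29,4), (29,5), (29,7), (647,4), (647,5), (647,6), (647,7), (265,6), (316,6), (349,4), (349,7), (562,4), (562,5), (562,6), (562,7), (419,6), (490,6), (348,4), (348,7), (722,4), (722,5), (722,6), (722,7), (418,6), (489,6), (211,4), (211,7), (365,6), (365,7), (252,6), (252,7), (359,4), (736,2), (736,6), (512,4), (369,6), (369,7), (308,6), (308,7), (366,4), (794,2), (794,6), (429,4), (454,6), (454,7), (245,6), (245,7), (449,4), (775,2), (775,6), (510,4)] (m := 63) (le_of_subst _ [[5,7]] (by decide +kernel))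
    (by decide +kernel) (by decide +kernel) low7_1 (by decide)
def GW8 : List Word := [[10,10,8,11,11,2,4,0,2,13,10,10,8,11,11,2,4,0,2,13,10,10,8,11,11,2,4,0,2,13], [6,4,6,0,4,13,8,6,4,6,12,3,1,5,3,10,10,9,11,11,12,3,1,5,3,10,10,9,11,11,7,5,7,9,12,5,1,7,5,7], [10,10,8,11,11,2,4,0,2,13,5,7,5,7,1,9,5,7,5,7,1,9,6,4,6,0,4,13,8,6,4,6,12,3,1,5,3,10,10,9,11,11,3,1,5,7,5,7,1,9,5,1,3,1,5,3,7,5,7,9,7,5,3,1,7,5,3,7,5,7,1,9]]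
def low8_w1 : List Word := [[6,4,6,0,4,13,8,6,4,6,12,3,1,5,3,10,10,9,11,11,12,3,1,5,3,10,10,9,11,11,7,5,7,9,12,5,1,7,5,7]]
theorem low8_1 : Low (C.grp low8_w1) 3 [1] :=
  low_orb hC hlk 1 (by decide) [(1,0), (1,1)] (m := 3) (grp_mono _ (by decide +kernel))
    (by decide +kernel) (by decide +kernel) (low_nil C) (by decide)
theorem low8 : Low (C.grp GW8) 72 [0,1] :=
  low_orb hC hlk 0 (by decide) [(0,0), (0,4), (0,5), (6,4), (6,5), (315,2), (315,3), (2,2), (2,3), (207,2), (207,3), (3,2), (3,3), (534,4), (534,5), (535,5), (692,4), (522,4), (522,5), (668,4), (668,5), (530,4), (530,5)] (m := 24) (le_of_subst _ [[2]] (by decide +kernel))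
    (by decide +kernel) (by decide +kernel) low8_1 (by decide)
def GW9 : List Word := [[10,10,8,11,11,2,4,0,2,13,10,10,8,11,11,2,4,0,2,13,10,10,8,11,11,2,4,0,2,13], [13,8,4,13,0,13,8,4,13,0,10,10,8,11,11,2,4,0,2,13,7,5,7,9,12,5,1,7,5,7,10,10,8,11,11,2,4,0,2,13,10,10,8,11,11,2,4,0,2,13,6,4,6,0,4,13,8,6,4,6], [13,8,4,13,0,10,10,8,11,11,2,4,0,2,13,10,10,8,11,11,2,4,0,2,13,10,10,8,11,11,2,4,0,2,13,6,4,6,0,4,13,8,6,4,6,10,10,8,11,11,2,4,0,2,13,10,10,8,11,11,2,4,0,2,13,10,10,8,11,11,2,4,0,2,13,6,4,6,0,4,13,8,6,4,6,3,1], [10,10,8,11,11,2,4,0,2,13,8,0,6,4,6,4,10,10,8,11,11,2,4,0,2,13,8,0,6,4,6,4,10,10,8,11,11,2,4,0,2,13,7,5,7,9,12,5,1,7,5,7,12,3,1,5,3,10,10,9,11,11,8,0,6,4,6,4,3,1,8,0,6,4,6,4]]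
def low9_w1 : List Word := [[10,10,8,11,11,2,4,0,2,13,10,10,8,11,11,2,4,0,2,13,10,10,8,11,11,2,4,0,2,13], [13,8,4,13,0,10,10,8,11,11,2,4,0,2,13,10,10,8,11,11,2,4,0,2,13,10,10,8,11,11,2,4,0,2,13,6,4,6,0,4,13,8,6,4,6,10,10,8,11,11,2,4,0,2,13,10,10,8,11,11,2,4,0,2,13,10,10,8,11,11,2,4,0,2,13,6,4,6,0,4,13,8,6,4,6,3,1,7,5,7,9,12,5,1,7,5,7,12,3,1,5,3,10,10,9,11,11,12,3,1,5,3,10,10,9,11,11,6,4,6,0,4,13,8,6,4,6,12,3,1,5,3,10,10,9,11,11,1,12,5,9,12,1,12,5,9,12,0,2,7,5,7,9,12,5,1,7,5,7,12,3,1,5,3,10,10,9,11,11,12,3,1,5,3,10,10,9,11,11,12,3,1,5,3,10,10,9,11,11,7,5,7,9,12,5,1,7,5,7,12,3,1,5,3,10,10,9,11,11,12,3,1,5,3,10,10,9,11,11,12,3,1,5,3,10,10,9,11,11,1,12,5,9,12], [5,7,5,7,1,9,0,2,5,7,5,7,1,9,10,10,8,11,11,2,4,0,2,13,6,4,6,0,4,13,8,6,4,6,12,3,1,5,3,10,10,9,11,11,5,7,5,7,1,9,12,3,1,5,3,10,10,9,11,11,5,7,5,7,1,9,12,3,1,5,3,10,10,9,11,11,10,10,8,11,11,2,4,0,2,13,10,10,8,11,11,2,4,0,2,13,10,10,8,11,11,2,4,0,2,13,10,10,8,11,11,2,4,0,2,13,8,0,6,4,6,4,10,10,8,11,11,2,4,0,2,13,8,0,6,4,6,4,10,10,8,11,11,2,4,0,2,13,7,5,7,9,12,5,1,7,5,7,12,3,1,5,3,10,10,9,11,11,8,0,6,4,6,4,3,1,8,0,6,4,6,4]]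
theorem low9_1 : Low (C.grp low9_w1) 42 [0] :=
  low_orb hC hlk 0 (by decide) [(0,0), (0,2), (0,3), (0,4), (6,2), (6,3), (6,4), (318,4), (347,4), (637,0), (637,2), (637,3), (210,4), (495,4), (175,0), (175,2), (175,3), (453,0), (453,2), (453,3), (424,0), (424,2), (424,3), (205,2), (205,3), (205,4), (208,0), (208,2), (208,3), (273,0), (273,2), (273,3), (383,2), (383,3), (383,4), (387,2), (387,3), (705,3), (267,2), (267,3), (163,3)] (m := 42) (grp_mono _ (by decide +kernel))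
    (by decide +kernel) (by decide +kernel) (low_nil C) (by decide)
theorem low9 : Low (C.grp GW9) 3528 [4,0] :=
  low_orb hC hlk 4 (by decide) [(4,2), (4,3), (4,4), (4,5), (4,6), (4,7), (666,4), (666,5), (666,6), (666,7), (533,4), (533,5), (533,6), (533,7), (131,6), (131,7), (337,7), (797,0), (797,2), (797,3), (797,4), (797,6), (348,5), (348,7), (497,6), (770,0), (770,4), (588,0), (694,6), (694,7), (523,6), (559,0), (559,2), (559,3), (559,5), (559,7), (278,0), (278,2), (278,4), (278,6), (253,5), (253,7), (353,7), (247,2), (247,6), (247,7), (661,4), (661,5), (814,6), (456,3), (456,6), (220,4), (338,6), (338,7), (791,0), (791,2), (791,5), (791,7), (281,0), (186,2), (186,3), (186,6), (422,6), (333,4), (333,6), (401,5), (401,7), (361,2), (361,3), (592,3), (592,7), (631,4), (631,5), (812,2),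 (449,5), (193,0), (193,4), (193,5), (382,4), (510,0), (510,2), (510,5), (311,6)] (m := 84) (le_of_subst _ [[0], [4,3,5], [7,0,6]] (by decide +kernel))
    (by decide +kernel) (by decide +kernel) low9_1 (by decide)
def GW10 : List Word := [[13,8,4,13,0,12,3,1,5,3,10,10,9,11,11,12,3,1,5,3,10,10,9,11,11,6,4,6,0,4,13,8,6,4,6,10,10,8,11,11,2,4,0,2,13,10,10,8,11,11,2,4,0,2,13,10,10,8,11,11,2,4,0,2,13,6,4,6,0,4,13,8,6,4,6,10,10,8,11,11,2,4,0,2,13], [13,8,4,13,0,5,7,5,7,1,9,12,3,1,5,3,10,10,9,11,11,5,7,5,7,1,9,12,3,1,5,3,10,10,9,11,11,7,5,7,9,12,5,1,7,5,7,12,3,1,5,3,10,10,9,11,11,8,0,6,4,6,4], [10,10,8,11,11,2,4,0,2,13,5,7,5,7,1,9,5,7,5,7,1,9,7,5,7,9,12,5,1,7,5,7,12,3,1,5,3,10,10,9,11,11,5,7,5,7,1,9,10,10,8,11,11,2,4,0,2,13,10,10,8,11,11,2,4,0,2,13,3,7,11,10,10,8,11,11,2,4,0,2,13,6,4,6,2,4,6,0,2,4,6,8,6,4,6,2,4,0,2,4,12,8,0,2,0,4,2,6,4,6,8,6,4,2,0,6,4,2,6,4,6,11]]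
def low10_w1 : List Word := [[13,8,4,13,0,12,3,1,5,3,10,10,9,11,11,12,3,1,5,3,10,10,9,11,11,6,4,6,0,4,13,8,6,4,6,10,10,8,11,11,2,4,0,2,13,10,10,8,11,11,2,4,0,2,13,10,10,8,11,11,2,4,0,2,13,6,4,6,0,4,13,8,6,4,6,10,10,8,11,11,2,4,0,2,13]]
theorem low10_1 : Low (C.grp low10_w1) 2 [1] :=
  low_orb hC hlk 1 (by decide) [(1,0)] (m := 2) (grp_mono _ (by decide +kernel))
    (by decide +kernel) (by decide +kernel) (low_nil C) (by decide)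
theorem low10 : Low (C.grp GW10) 78 [0,1] :=
  low_orb hC hlk 0 (by decide) [(0,2), (0,3), (0,4), (0,5), (6,4), (6,5), (33,4), (33,5), (71,0), (71,2), (71,4), (145,0), (145,3), (145,5), (387,0), (387,2), (387,4), (55,0), (55,5), (279,0), (279,4), (214,0), (214,5), (800,2), (800,5), (174,4), (174,5), (28,0), (28,4), (730,3), (730,4), (638,4), (587,0), (298,2), (411,4), (411,5), (361,4), (685,0)] (m := 39) (le_of_subst _ [[0]] (by decide +kernel))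
    (by decide +kernel) (by decide +kernel) low10_1 (by decide)
def GW : List (List Word) := [[], GW1, GW2, GW3, GW4, GW5, GW6, GW7, GW8, GW9, GW10]
def QS : List (List ℕ) := [[], [2,3,4], [9,10,11,12,13,14,16,22], [26,27,28,29,30,34,40], [62,63,64,66,1434], [72,73], [2433,2434,2436], [2963,2964,2965,2969], [3253,3254,3256], [3714,3715,3717,3719], [3745,3746,3758]]
def U : List ℕ := [0x0,
  0x3c000000000000000000000000000000000003c000000c00000000000000000000000000c0020000000000000000bc00000f10078c003f403401c01862400,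
  0xe000000000c0000007ffc00000007f8000fffc000000000000ffff000003ffffffc0000000007fff807ffe00000000003ffffffc003fffc0000003fff1fef000000003fffc3fe00007fbffe0000ffbf803ff0f007fe03c0e03c06101882001,
  0x152318459d2d20132698ed8544326200d822a6139389b0ea8190137a811c68c3603931b86841c99015393860801d02b071b5082941e1000f83406d43b4da8516a4a8404341c00b06a4a840435038d24ed0fd79a49da1412682f0c4d05208409e83c210c605192,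
  0xf153ca22595e73dcfc74ebaf3da269fbd937b0f577daef7773fb887f8a3eff9dbc7e22f76fc1f3f8ff9a6e3c24ce7df3f19372e236b7b1c7f4c8ff0fb1cf75ac08e1787a41f86710ecf4e36e3e4e5e1eed8cf7bbbc7a77127b6aff7d9f67d93f1b3c6aa0c990,
  0x2cb7e276e8a82269b4ad085e95a315c0e69b3212216eba7572a301b5d2ef3b988413aced5c25bb1a186092ac809a4826bd6664717576c2f2fa8030e4b4a534c586514a66b3a4c79698a0bf48234c392ebd6818ce2a9894982982bd321466481500164e8009c1,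
  0x9e40c405b4e85bf70089bb63e41829882262a10090641a01c8a542401ec8e251080a2b9849e064c9905a3e2294f812d47043408107ca902484585904c560a01392a4a32c182c1018185046110b58cdb1a5027451e2f123ce515c6804da0d600714c028488320,
  0x5f9dfeba9e37abba0ff4ef9b9fb5e197df7ff7f89e93ff7f6f0ff6e7d7b1bfee3cbbffdf0efe233ccf9ec266724b873ffcde3d2f74f77ffbd0b07cf9ef0c8658e6b60fb6fcc9e4700e7fdfb767e37cffefbefdfb8fdfdbef9bf6f3e3753d593ed7e4f9ff74acd,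
  0x104390c08104a162342e8cc214902701901033031f81a0f28119444f80bda0c08090784c607403980c290862c00381908193018a4141e50ab24800c290294492029060056a9790050458690758780a164000842018a0380cce4f21988d82860818348c304ac6d,
  0x371173084000564868402231480448346086c04205b0ac2820141200f9600290c9518d222380a402a302011107106442006c83506111363008712924629100280050852418316a483c02211a8120b0414528414b41548805046814051001685e0090212008110,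
  0x7f621aead71d99c6f23715df87bdf1ffbf9fcb95177afe1ebeffe0d7d8f22db8bf8b6f9f5fc3a7fc8df737e79c0bdead3f4323c98d7bd57948b66af5f96fd5a9335f29ff445b5febdaddce7f79e6ebde7efc6c777b87da3e5627c947b41999ef9748e91578377]
def TA : List ℕ := [0x0,
  0x200000041,
  0x1,
  0x1000000000400000200000000,
  0x0,
  0x0,
  0x0,
  0x0,
  0x0,
  0x0,
  0x0]
def TB : List ℕ := [0x0,
  0x3c000000000000000000000000000000000003c000000c00000000000000000000000000c0020000000000000000bc00000f10078c003f403401c01862400,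
  0xf000000003f000001e00060440,
  0x80200000080000000000000000000000000000000020000000000000000000000000000000000000000000000000000000000000000000000000000000000020000000000000000800000000000000000000000000000000,
  0x0,
  0x0,
  0x0,
  0x0,
  0x0,
  0x0,
  0x0]
def BA : List ℕ := [0,0,0,33,0,0,0,0,0,0,0]
def BB : List ℕ := [0,10,6,131,0,0,0,0,0,0,0]
def SA : List (List ℕ) := [[], [2,4], [], [10,10], [], [], [], [], [], [], []]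
def SB : List (List ℕ) := [[], [0,2,0,4,0,2,4,0,2,4,0,4], [8,12,14,12,14], [2,10,10], [], [], [], [], [], [], []]
def TS : List ℕ := [137,582,782,64,261,120,507,779,460,483,667,388,807,214,96,499,29,399,443,622,780,785,2,712]
def WP0 : List (ℕ × Word) := [(0, []), (1, [2]), (2, [0,2]), (3, [4,2]), (4, [4,0,2]), (5, [6,4,2]), (6, [2,4,0,2]), (7, [6,4,0,2]), (8, [4,6,4,2]), (9, [8,6,4,2]), (10, [6,2,4,0,2]), (11, [4,6,4,0,2]), (12, [8,6,4,0,2]), (13, [2,4,6,4,2]), (14, [8,4,6,4,2]), (15, [10,8,6,4,2]), (16, [11,8,6,4,2]), (17, [4,6,2,4,0,2]), (18, [8,6,2,4,0,2]), (19, [2,4,6,4,0,2]), (20, [8,4,6,4,0,2]), (21, [10,8,6,4,0,2]), (22, [11,8,6,4,0,2]), (23, [0,2,4,6,4,2]), (24, [8,2,4,6,4,2]), (25, [6,8,4,6,4,2]), (26, [10,8,4,6,4,2]), (27, [11,8,4,6,4,2]), (28, [8,10,8,6,4,2]), (29, [10,10,8,6,4,2]),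 (30, [12,10,8,6,4,2]), (31, [12,11,8,6,4,2]), (32, [2,4,6,2,4,0,2]), (33, [6,4,6,2,4,0,2]), (34, [8,4,6,2,4,0,2]), (35, [10,8,6,2,4,0,2]), (36, [11,8,6,2,4,0,2]), (37, [0,2,4,6,4,0,2]), (38, [8,2,4,6,4,0,2]), (39, [6,8,4,6,4,0,2]), (40, [10,8,4,6,4,0,2]), (41, [11,8,4,6,4,0,2]), (42, [8,10,8,6,4,0,2]), (43, [10,10,8,6,4,0,2]), (44, [12,10,8,6,4,0,2]), (45, [12,11,8,6,4,0,2]), (46, [8,0,2,4,6,4,2]), (47, [6,8,2,4,6,4,2]), (48, [10,8,2,4,6,4,2]), (49, [11,8,2,4,6,4,2]), (50, [4,6,8,4,6,4,2]), (51, [10,6,8,4,6,4,2]), (52, [11,6,8,4,6,4,2]), (53, [8,10,8,4,6,4,2]), (54, [10,10,8,4,6,4,2]), (55, [12,10,8,4,6,4,2]), (56, [12,11,8,4,6,4,2]), (57, [0,2,4,6,2,4,0,2]), (58, [6,2,4,6,2,4,0,2]), (59, [8,2,4,6,2,4,0,2]), (60, [10,8,4,6,2,4,0,2]), (61, [11,8,4,6,2,4,0,2]), (62, [8,10,8,6,2,4,0,2]), (63,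 [10,10,8,6,2,4,0,2]), (64, [12,10,8,6,2,4,0,2]), (65, [12,11,8,6,2,4,0,2]), (66, [8,0,2,4,6,4,0,2]), (67, [6,8,2,4,6,4,0,2]), (68, [10,8,2,4,6,4,0,2]), (69, [11,8,2,4,6,4,0,2]), (70, [4,6,8,4,6,4,0,2]), (71, [10,6,8,4,6,4,0,2]), (72, [11,6,8,4,6,4,0,2]), (73, [8,10,8,4,6,4,0,2]), (74, [10,10,8,4,6,4,0,2]), (75, [12,10,8,4,6,4,0,2]), (76, [12,11,8,4,6,4,0,2]), (77, [6,8,0,2,4,6,4,2]), (78, [10,8,0,2,4,6,4,2]), (79, [11,8,0,2,4,6,4,2]), (80, [4,6,8,2,4,6,4,2]), (81, [10,6,8,2,4,6,4,2]), (82, [11,6,8,2,4,6,4,2]), (83, [8,10,8,2,4,6,4,2]), (84, [10,10,8,2,4,6,4,2]), (85, [12,10,8,2,4,6,4,2]), (86, [12,11,8,2,4,6,4,2]), (87, [2,4,6,8,4,6,4,2]), (88, [10,4,6,8,4,6,4,2]), (89, [11,4,6,8,4,6,4,2]), (90, [8,10,6,8,4,6,4,2]), (91, [10,10,6,8,4,6,4,2]), (92, [12,10,6,8,4,6,4,2]), (93, [8,11,6,8,4,6,4,2]),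 (94, [11,11,6,8,4,6,4,2]), (95, [12,11,6,8,4,6,4,2]), (96, [6,0,2,4,6,2,4,0,2]), (97, [8,0,2,4,6,2,4,0,2]), (98, [10,8,2,4,6,2,4,0,2]), (99, [11,8,2,4,6,2,4,0,2]), (100, [8,10,8,4,6,2,4,0,2]), (101, [10,10,8,4,6,2,4,0,2]), (102, [12,10,8,4,6,2,4,0,2]), (103, [12,11,8,4,6,2,4,0,2]), (104, [6,8,0,2,4,6,4,0,2])]
def WP1 : List (ℕ × Word) := [(105, [10,8,0,2,4,6,4,0,2]), (106, [11,8,0,2,4,6,4,0,2]), (107, [4,6,8,2,4,6,4,0,2]), (108, [10,6,8,2,4,6,4,0,2]), (109, [11,6,8,2,4,6,4,0,2]), (110, [8,10,8,2,4,6,4,0,2]), (111, [10,10,8,2,4,6,4,0,2]), (112, [12,10,8,2,4,6,4,0,2]), (113, [12,11,8,2,4,6,4,0,2]), (114, [2,4,6,8,4,6,4,0,2]), (115, [10,4,6,8,4,6,4,0,2]), (116, [11,4,6,8,4,6,4,0,2]), (117, [8,10,6,8,4,6,4,0,2]), (118, [10,10,6,8,4,6,4,0,2]), (119, [12,10,6,8,4,6,4,0,2]), (120, [8,11,6,8,4,6,4,0,2]),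 (121, [11,11,6,8,4,6,4,0,2]), (122, [12,11,6,8,4,6,4,0,2]), (123, [4,6,8,0,2,4,6,4,2]), (124, [10,6,8,0,2,4,6,4,2]), (125, [11,6,8,0,2,4,6,4,2]), (126, [8,10,8,0,2,4,6,4,2]), (127, [10,10,8,0,2,4,6,4,2]), (128, [12,10,8,0,2,4,6,4,2]), (129, [12,11,8,0,2,4,6,4,2]), (130, [2,4,6,8,2,4,6,4,2]), (131, [6,4,6,8,2,4,6,4,2]), (132, [10,4,6,8,2,4,6,4,2]), (133, [11,4,6,8,2,4,6,4,2]), (134, [8,10,6,8,2,4,6,4,2]), (135, [10,10,6,8,2,4,6,4,2]), (136, [12,10,6,8,2,4,6,4,2]), (137, [8,11,6,8,2,4,6,4,2]), (138, [11,11,6,8,2,4,6,4,2]), (139, [12,11,6,8,2,4,6,4,2]), (140, [0,2,4,6,8,4,6,4,2]), (141, [10,2,4,6,8,4,6,4,2]), (142, [11,2,4,6,8,4,6,4,2]), (143, [8,10,4,6,8,4,6,4,2]), (144, [10,10,4,6,8,4,6,4,2]), (145, [12,10,4,6,8,4,6,4,2]), (146, [8,11,4,6,8,4,6,4,2]), (147, [11,11,4,6,8,4,6,4,2]), (148,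 [12,11,4,6,8,4,6,4,2]), (149, [6,8,10,6,8,4,6,4,2]), (150, [10,8,10,6,8,4,6,4,2]), (151, [11,8,10,6,8,4,6,4,2]), (152, [12,8,10,6,8,4,6,4,2]), (153, [13,8,10,6,8,4,6,4,2]), (154, [10,8,11,6,8,4,6,4,2]), (155, [11,8,11,6,8,4,6,4,2]), (156, [13,8,11,6,8,4,6,4,2]), (157, [10,8,0,2,4,6,2,4,0,2]), (158, [11,8,0,2,4,6,2,4,0,2]), (159, [8,10,8,2,4,6,2,4,0,2]), (160, [10,10,8,2,4,6,2,4,0,2]), (161, [12,10,8,2,4,6,2,4,0,2]), (162, [12,11,8,2,4,6,2,4,0,2]), (163, [4,6,8,0,2,4,6,4,0,2]), (164, [10,6,8,0,2,4,6,4,0,2]), (165, [11,6,8,0,2,4,6,4,0,2]), (166, [8,10,8,0,2,4,6,4,0,2]), (167, [10,10,8,0,2,4,6,4,0,2]), (168, [12,10,8,0,2,4,6,4,0,2]), (169, [12,11,8,0,2,4,6,4,0,2]), (170, [2,4,6,8,2,4,6,4,0,2]), (171, [10,4,6,8,2,4,6,4,0,2]), (172, [11,4,6,8,2,4,6,4,0,2]), (173, [8,10,6,8,2,4,6,4,0,2]), (174,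 [10,10,6,8,2,4,6,4,0,2]), (175, [12,10,6,8,2,4,6,4,0,2]), (176, [8,11,6,8,2,4,6,4,0,2]), (177, [11,11,6,8,2,4,6,4,0,2]), (178, [12,11,6,8,2,4,6,4,0,2]), (179, [0,2,4,6,8,4,6,4,0,2]), (180, [10,2,4,6,8,4,6,4,0,2]), (181, [11,2,4,6,8,4,6,4,0,2]), (182, [8,10,4,6,8,4,6,4,0,2]), (183, [10,10,4,6,8,4,6,4,0,2]), (184, [12,10,4,6,8,4,6,4,0,2]), (185, [8,11,4,6,8,4,6,4,0,2]), (186, [11,11,4,6,8,4,6,4,0,2]), (187, [12,11,4,6,8,4,6,4,0,2]), (188, [6,8,10,6,8,4,6,4,0,2]), (189, [10,8,10,6,8,4,6,4,0,2]), (190, [11,8,10,6,8,4,6,4,0,2]), (191, [12,8,10,6,8,4,6,4,0,2]), (192, [13,8,10,6,8,4,6,4,0,2]), (193, [10,8,11,6,8,4,6,4,0,2]), (194, [11,8,11,6,8,4,6,4,0,2]), (195, [13,8,11,6,8,4,6,4,0,2]), (196, [2,4,6,8,0,2,4,6,4,2]), (197, [6,4,6,8,0,2,4,6,4,2]), (198, [10,4,6,8,0,2,4,6,4,2]), (199, [11,4,6,8,0,2,4,6,4,2]),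 (200, [8,10,6,8,0,2,4,6,4,2]), (201, [10,10,6,8,0,2,4,6,4,2]), (202, [12,10,6,8,0,2,4,6,4,2]), (203, [8,11,6,8,0,2,4,6,4,2]), (204, [11,11,6,8,0,2,4,6,4,2]), (205, [12,11,6,8,0,2,4,6,4,2]), (206, [0,2,4,6,8,2,4,6,4,2]), (207, [6,2,4,6,8,2,4,6,4,2]), (208, [10,2,4,6,8,2,4,6,4,2]), (209, [11,2,4,6,8,2,4,6,4,2])]
def WP2 : List (ℕ × Word) := [(210, [10,6,4,6,8,2,4,6,4,2]), (211, [11,6,4,6,8,2,4,6,4,2]), (212, [8,10,4,6,8,2,4,6,4,2]), (213, [10,10,4,6,8,2,4,6,4,2]), (214, [12,10,4,6,8,2,4,6,4,2]), (215, [8,11,4,6,8,2,4,6,4,2]), (216, [11,11,4,6,8,2,4,6,4,2]), (217, [12,11,4,6,8,2,4,6,4,2]), (218, [6,8,10,6,8,2,4,6,4,2]), (219, [10,8,10,6,8,2,4,6,4,2]), (220, [11,8,10,6,8,2,4,6,4,2]), (221, [12,8,10,6,8,2,4,6,4,2]), (222, [13,8,10,6,8,2,4,6,4,2]), (223, [10,8,11,6,8,2,4,6,4,2]), (224, [11,8,11,6,8,2,4,6,4,2]),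 (225, [13,8,11,6,8,2,4,6,4,2]), (226, [10,0,2,4,6,8,4,6,4,2]), (227, [11,0,2,4,6,8,4,6,4,2]), (228, [8,10,2,4,6,8,4,6,4,2]), (229, [10,10,2,4,6,8,4,6,4,2]), (230, [12,10,2,4,6,8,4,6,4,2]), (231, [8,11,2,4,6,8,4,6,4,2]), (232, [11,11,2,4,6,8,4,6,4,2]), (233, [12,11,2,4,6,8,4,6,4,2]), (234, [6,8,10,4,6,8,4,6,4,2]), (235, [10,8,10,4,6,8,4,6,4,2]), (236, [11,8,10,4,6,8,4,6,4,2]), (237, [12,8,10,4,6,8,4,6,4,2]), (238, [13,8,10,4,6,8,4,6,4,2]), (239, [6,8,11,4,6,8,4,6,4,2]), (240, [10,8,11,4,6,8,4,6,4,2]), (241, [11,8,11,4,6,8,4,6,4,2]), (242, [12,8,11,4,6,8,4,6,4,2]), (243, [13,8,11,4,6,8,4,6,4,2]), (244, [10,6,8,10,6,8,4,6,4,2]), (245, [8,10,8,10,6,8,4,6,4,2]), (246, [12,10,8,10,6,8,4,6,4,2]), (247, [13,10,8,10,6,8,4,6,4,2]), (248, [11,11,8,10,6,8,4,6,4,2]), (249, [12,11,8,10,6,8,4,6,4,2]),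 (250, [11,12,8,10,6,8,4,6,4,2]), (251, [10,13,8,10,6,8,4,6,4,2]), (252, [11,13,8,10,6,8,4,6,4,2]), (253, [10,10,8,11,6,8,4,6,4,2]), (254, [13,10,8,11,6,8,4,6,4,2]), (255, [8,11,8,11,6,8,4,6,4,2]), (256, [11,11,8,11,6,8,4,6,4,2]), (257, [12,11,8,11,6,8,4,6,4,2]), (258, [13,11,8,11,6,8,4,6,4,2]), (259, [10,13,8,11,6,8,4,6,4,2]), (260, [8,10,8,0,2,4,6,2,4,0,2]), (261, [10,10,8,0,2,4,6,2,4,0,2]), (262, [12,10,8,0,2,4,6,2,4,0,2]), (263, [12,11,8,0,2,4,6,2,4,0,2]), (264, [2,4,6,8,0,2,4,6,4,0,2]), (265, [10,4,6,8,0,2,4,6,4,0,2]), (266, [11,4,6,8,0,2,4,6,4,0,2]), (267, [8,10,6,8,0,2,4,6,4,0,2]), (268, [10,10,6,8,0,2,4,6,4,0,2]), (269, [12,10,6,8,0,2,4,6,4,0,2]), (270, [8,11,6,8,0,2,4,6,4,0,2]), (271, [11,11,6,8,0,2,4,6,4,0,2]), (272, [12,11,6,8,0,2,4,6,4,0,2]), (273, [0,2,4,6,8,2,4,6,4,0,2]), (274,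 [10,2,4,6,8,2,4,6,4,0,2]), (275, [11,2,4,6,8,2,4,6,4,0,2]), (276, [8,10,4,6,8,2,4,6,4,0,2]), (277, [10,10,4,6,8,2,4,6,4,0,2]), (278, [12,10,4,6,8,2,4,6,4,0,2]), (279, [8,11,4,6,8,2,4,6,4,0,2]), (280, [11,11,4,6,8,2,4,6,4,0,2]), (281, [12,11,4,6,8,2,4,6,4,0,2]), (282, [6,8,10,6,8,2,4,6,4,0,2]), (283, [10,8,10,6,8,2,4,6,4,0,2]), (284, [11,8,10,6,8,2,4,6,4,0,2]), (285, [12,8,10,6,8,2,4,6,4,0,2]), (286, [13,8,10,6,8,2,4,6,4,0,2]), (287, [10,8,11,6,8,2,4,6,4,0,2]), (288, [11,8,11,6,8,2,4,6,4,0,2]), (289, [13,8,11,6,8,2,4,6,4,0,2]), (290, [10,0,2,4,6,8,4,6,4,0,2]), (291, [11,0,2,4,6,8,4,6,4,0,2]), (292, [8,10,2,4,6,8,4,6,4,0,2]), (293, [10,10,2,4,6,8,4,6,4,0,2]), (294, [12,10,2,4,6,8,4,6,4,0,2]), (295, [8,11,2,4,6,8,4,6,4,0,2]), (296, [11,11,2,4,6,8,4,6,4,0,2]), (297, [12,11,2,4,6,8,4,6,4,0,2]),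 (298, [6,8,10,4,6,8,4,6,4,0,2]), (299, [10,8,10,4,6,8,4,6,4,0,2]), (300, [11,8,10,4,6,8,4,6,4,0,2]), (301, [12,8,10,4,6,8,4,6,4,0,2]), (302, [13,8,10,4,6,8,4,6,4,0,2]), (303, [6,8,11,4,6,8,4,6,4,0,2]), (304, [10,8,11,4,6,8,4,6,4,0,2]), (305, [11,8,11,4,6,8,4,6,4,0,2]), (306, [12,8,11,4,6,8,4,6,4,0,2]), (307, [13,8,11,4,6,8,4,6,4,0,2]), (308, [10,6,8,10,6,8,4,6,4,0,2]), (309, [8,10,8,10,6,8,4,6,4,0,2]), (310, [12,10,8,10,6,8,4,6,4,0,2]), (311, [10,13,8,10,6,8,4,6,4,0,2]), (312, [8,11,8,11,6,8,4,6,4,0,2]), (313, [10,13,8,11,6,8,4,6,4,0,2]), (314, [0,2,4,6,8,0,2,4,6,4,2])]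
def WP3 : List (ℕ × Word) := [(315, [6,2,4,6,8,0,2,4,6,4,2]), (316, [10,2,4,6,8,0,2,4,6,4,2]), (317, [11,2,4,6,8,0,2,4,6,4,2]), (318, [10,6,4,6,8,0,2,4,6,4,2]), (319, [11,6,4,6,8,0,2,4,6,4,2]), (320, [8,10,4,6,8,0,2,4,6,4,2]), (321, [10,10,4,6,8,0,2,4,6,4,2]), (322, [12,10,4,6,8,0,2,4,6,4,2]), (323, [8,11,4,6,8,0,2,4,6,4,2]), (324, [11,11,4,6,8,0,2,4,6,4,2]), (325, [12,11,4,6,8,0,2,4,6,4,2]), (326, [6,8,10,6,8,0,2,4,6,4,2]), (327, [10,8,10,6,8,0,2,4,6,4,2]), (328, [11,8,10,6,8,0,2,4,6,4,2]), (329, [12,8,10,6,8,0,2,4,6,4,2]), (330, [13,8,10,6,8,0,2,4,6,4,2]), (331, [10,8,11,6,8,0,2,4,6,4,2]), (332, [11,8,11,6,8,0,2,4,6,4,2]), (333, [13,8,11,6,8,0,2,4,6,4,2]), (334, [6,0,2,4,6,8,2,4,6,4,2]), (335, [10,0,2,4,6,8,2,4,6,4,2]), (336, [11,0,2,4,6,8,2,4,6,4,2]), (337, [4,6,2,4,6,8,2,4,6,4,2]),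 (338, [10,6,2,4,6,8,2,4,6,4,2]), (339, [11,6,2,4,6,8,2,4,6,4,2]), (340, [8,10,2,4,6,8,2,4,6,4,2]), (341, [10,10,2,4,6,8,2,4,6,4,2]), (342, [12,10,2,4,6,8,2,4,6,4,2]), (343, [8,11,2,4,6,8,2,4,6,4,2]), (344, [11,11,2,4,6,8,2,4,6,4,2]), (345, [12,11,2,4,6,8,2,4,6,4,2]), (346, [10,10,6,4,6,8,2,4,6,4,2]), (347, [12,10,6,4,6,8,2,4,6,4,2]), (348, [11,11,6,4,6,8,2,4,6,4,2]), (349, [12,11,6,4,6,8,2,4,6,4,2]), (350, [10,8,10,4,6,8,2,4,6,4,2]), (351, [11,8,10,4,6,8,2,4,6,4,2]), (352, [12,8,10,4,6,8,2,4,6,4,2]), (353, [13,8,10,4,6,8,2,4,6,4,2]), (354, [10,8,11,4,6,8,2,4,6,4,2]), (355, [11,8,11,4,6,8,2,4,6,4,2]), (356, [12,8,11,4,6,8,2,4,6,4,2]), (357, [13,8,11,4,6,8,2,4,6,4,2]), (358, [10,6,8,10,6,8,2,4,6,4,2]), (359, [8,10,8,10,6,8,2,4,6,4,2]), (360, [12,10,8,10,6,8,2,4,6,4,2]), (361, [13,10,8,10,6,8,2,4,6,4,2]),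 (362, [11,11,8,10,6,8,2,4,6,4,2]), (363, [12,11,8,10,6,8,2,4,6,4,2]), (364, [11,12,8,10,6,8,2,4,6,4,2]), (365, [10,13,8,10,6,8,2,4,6,4,2]), (366, [11,13,8,10,6,8,2,4,6,4,2]), (367, [10,10,8,11,6,8,2,4,6,4,2]), (368, [13,10,8,11,6,8,2,4,6,4,2]), (369, [8,11,8,11,6,8,2,4,6,4,2]), (370, [11,11,8,11,6,8,2,4,6,4,2]), (371, [12,11,8,11,6,8,2,4,6,4,2]), (372, [13,11,8,11,6,8,2,4,6,4,2]), (373, [10,13,8,11,6,8,2,4,6,4,2]), (374, [8,10,0,2,4,6,8,4,6,4,2]), (375, [10,10,0,2,4,6,8,4,6,4,2]), (376, [12,10,0,2,4,6,8,4,6,4,2]), (377, [8,11,0,2,4,6,8,4,6,4,2]), (378, [11,11,0,2,4,6,8,4,6,4,2]), (379, [12,11,0,2,4,6,8,4,6,4,2]), (380, [6,8,10,2,4,6,8,4,6,4,2]), (381, [10,8,10,2,4,6,8,4,6,4,2]), (382, [11,8,10,2,4,6,8,4,6,4,2]), (383, [12,8,10,2,4,6,8,4,6,4,2]), (384, [13,8,10,2,4,6,8,4,6,4,2]), (385, [6,8,11,2,4,6,8,4,6,4,2]),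 (386, [10,8,11,2,4,6,8,4,6,4,2]), (387, [11,8,11,2,4,6,8,4,6,4,2]), (388, [12,8,11,2,4,6,8,4,6,4,2]), (389, [13,8,11,2,4,6,8,4,6,4,2]), (390, [4,6,8,10,4,6,8,4,6,4,2]), (391, [10,6,8,10,4,6,8,4,6,4,2]), (392, [11,6,8,10,4,6,8,4,6,4,2]), (393, [12,6,8,10,4,6,8,4,6,4,2]), (394, [13,6,8,10,4,6,8,4,6,4,2]), (395, [8,10,8,10,4,6,8,4,6,4,2]), (396, [12,10,8,10,4,6,8,4,6,4,2]), (397, [13,10,8,10,4,6,8,4,6,4,2]), (398, [11,11,8,10,4,6,8,4,6,4,2]), (399, [12,11,8,10,4,6,8,4,6,4,2]), (400, [11,12,8,10,4,6,8,4,6,4,2]), (401, [10,13,8,10,4,6,8,4,6,4,2]), (402, [11,13,8,10,4,6,8,4,6,4,2]), (403, [4,6,8,11,4,6,8,4,6,4,2]), (404, [11,6,8,11,4,6,8,4,6,4,2]), (405, [12,6,8,11,4,6,8,4,6,4,2]), (406, [13,6,8,11,4,6,8,4,6,4,2]), (407, [10,10,8,11,4,6,8,4,6,4,2]), (408, [13,10,8,11,4,6,8,4,6,4,2]), (409, [8,11,8,11,4,6,8,4,6,4,2]),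 (410, [12,11,8,11,4,6,8,4,6,4,2]), (411, [13,11,8,11,4,6,8,4,6,4,2]), (412, [10,12,8,11,4,6,8,4,6,4,2]), (413, [10,13,8,11,4,6,8,4,6,4,2]), (414, [0,2,4,6,8,0,2,4,6,4,0,2]), (415, [10,2,4,6,8,0,2,4,6,4,0,2]), (416, [11,2,4,6,8,0,2,4,6,4,0,2]), (417, [8,10,4,6,8,0,2,4,6,4,0,2]), (418, [10,10,4,6,8,0,2,4,6,4,0,2]), (419, [12,10,4,6,8,0,2,4,6,4,0,2])]
def WP4 : List (ℕ × Word) := [(420, [8,11,4,6,8,0,2,4,6,4,0,2]), (421, [11,11,4,6,8,0,2,4,6,4,0,2]), (422, [12,11,4,6,8,0,2,4,6,4,0,2]), (423, [6,8,10,6,8,0,2,4,6,4,0,2]), (424, [10,8,10,6,8,0,2,4,6,4,0,2]), (425, [11,8,10,6,8,0,2,4,6,4,0,2]), (426, [12,8,10,6,8,0,2,4,6,4,0,2]), (427, [13,8,10,6,8,0,2,4,6,4,0,2]), (428, [10,8,11,6,8,0,2,4,6,4,0,2]), (429, [11,8,11,6,8,0,2,4,6,4,0,2]), (430, [13,8,11,6,8,0,2,4,6,4,0,2]), (431, [10,0,2,4,6,8,2,4,6,4,0,2]),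 (432, [11,0,2,4,6,8,2,4,6,4,0,2]), (433, [8,10,2,4,6,8,2,4,6,4,0,2]), (434, [10,10,2,4,6,8,2,4,6,4,0,2]), (435, [12,10,2,4,6,8,2,4,6,4,0,2]), (436, [8,11,2,4,6,8,2,4,6,4,0,2]), (437, [11,11,2,4,6,8,2,4,6,4,0,2]), (438, [12,11,2,4,6,8,2,4,6,4,0,2]), (439, [6,8,10,4,6,8,2,4,6,4,0,2]), (440, [10,8,10,4,6,8,2,4,6,4,0,2]), (441, [11,8,10,4,6,8,2,4,6,4,0,2]), (442, [12,8,10,4,6,8,2,4,6,4,0,2]), (443, [13,8,10,4,6,8,2,4,6,4,0,2]), (444, [6,8,11,4,6,8,2,4,6,4,0,2]), (445, [10,8,11,4,6,8,2,4,6,4,0,2]), (446, [11,8,11,4,6,8,2,4,6,4,0,2]), (447, [12,8,11,4,6,8,2,4,6,4,0,2]), (448, [13,8,11,4,6,8,2,4,6,4,0,2]), (449, [10,6,8,10,6,8,2,4,6,4,0,2]), (450, [8,10,8,10,6,8,2,4,6,4,0,2]), (451, [12,10,8,10,6,8,2,4,6,4,0,2]), (452, [10,13,8,10,6,8,2,4,6,4,0,2]), (453, [8,11,8,11,6,8,2,4,6,4,0,2]), (454, [10,13,8,11,6,8,2,4,6,4,0,2]),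 (455, [8,10,0,2,4,6,8,4,6,4,0,2]), (456, [10,10,0,2,4,6,8,4,6,4,0,2]), (457, [12,10,0,2,4,6,8,4,6,4,0,2]), (458, [8,11,0,2,4,6,8,4,6,4,0,2]), (459, [11,11,0,2,4,6,8,4,6,4,0,2]), (460, [12,11,0,2,4,6,8,4,6,4,0,2]), (461, [11,8,10,2,4,6,8,4,6,4,0,2]), (462, [12,8,10,2,4,6,8,4,6,4,0,2]), (463, [13,8,10,2,4,6,8,4,6,4,0,2]), (464, [6,8,11,2,4,6,8,4,6,4,0,2]), (465, [10,8,11,2,4,6,8,4,6,4,0,2]), (466, [11,8,11,2,4,6,8,4,6,4,0,2]), (467, [12,8,11,2,4,6,8,4,6,4,0,2]), (468, [13,8,11,2,4,6,8,4,6,4,0,2]), (469, [4,6,8,10,4,6,8,4,6,4,0,2]), (470, [10,6,8,10,4,6,8,4,6,4,0,2]), (471, [12,6,8,10,4,6,8,4,6,4,0,2]), (472, [13,6,8,10,4,6,8,4,6,4,0,2]), (473, [8,10,8,10,4,6,8,4,6,4,0,2]), (474, [12,10,8,10,4,6,8,4,6,4,0,2]), (475, [10,13,8,10,4,6,8,4,6,4,0,2]), (476, [4,6,8,11,4,6,8,4,6,4,0,2]), (477, [10,6,8,11,4,6,8,4,6,4,0,2]),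 (478, [11,6,8,11,4,6,8,4,6,4,0,2]), (479, [12,6,8,11,4,6,8,4,6,4,0,2]), (480, [13,6,8,11,4,6,8,4,6,4,0,2]), (481, [8,11,8,11,4,6,8,4,6,4,0,2]), (482, [10,12,8,11,4,6,8,4,6,4,0,2]), (483, [10,13,8,11,4,6,8,4,6,4,0,2]), (484, [10,0,2,4,6,8,0,2,4,6,4,2]), (485, [11,0,2,4,6,8,0,2,4,6,4,2]), (486, [10,6,2,4,6,8,0,2,4,6,4,2]), (487, [11,6,2,4,6,8,0,2,4,6,4,2]), (488, [8,10,2,4,6,8,0,2,4,6,4,2]), (489, [10,10,2,4,6,8,0,2,4,6,4,2]), (490, [12,10,2,4,6,8,0,2,4,6,4,2]), (491, [8,11,2,4,6,8,0,2,4,6,4,2]), (492, [11,11,2,4,6,8,0,2,4,6,4,2]), (493, [12,11,2,4,6,8,0,2,4,6,4,2]), (494, [10,10,6,4,6,8,0,2,4,6,4,2]), (495, [12,10,6,4,6,8,0,2,4,6,4,2]), (496, [11,11,6,4,6,8,0,2,4,6,4,2]), (497, [12,11,6,4,6,8,0,2,4,6,4,2]), (498, [10,8,10,4,6,8,0,2,4,6,4,2]), (499, [11,8,10,4,6,8,0,2,4,6,4,2]), (500, [12,8,10,4,6,8,0,2,4,6,4,2]),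 (501, [13,8,10,4,6,8,0,2,4,6,4,2]), (502, [10,8,11,4,6,8,0,2,4,6,4,2]), (503, [11,8,11,4,6,8,0,2,4,6,4,2]), (504, [12,8,11,4,6,8,0,2,4,6,4,2]), (505, [13,8,11,4,6,8,0,2,4,6,4,2]), (506, [10,6,8,10,6,8,0,2,4,6,4,2]), (507, [8,10,8,10,6,8,0,2,4,6,4,2]), (508, [12,10,8,10,6,8,0,2,4,6,4,2]), (509, [13,10,8,10,6,8,0,2,4,6,4,2]), (510, [11,11,8,10,6,8,0,2,4,6,4,2]), (511, [12,11,8,10,6,8,0,2,4,6,4,2]), (512, [11,12,8,10,6,8,0,2,4,6,4,2]), (513, [10,13,8,10,6,8,0,2,4,6,4,2]), (514, [11,13,8,10,6,8,0,2,4,6,4,2]), (515, [10,10,8,11,6,8,0,2,4,6,4,2]), (516, [13,10,8,11,6,8,0,2,4,6,4,2]), (517, [8,11,8,11,6,8,0,2,4,6,4,2]), (518, [11,11,8,11,6,8,0,2,4,6,4,2]), (519, [12,11,8,11,6,8,0,2,4,6,4,2]), (520, [13,11,8,11,6,8,0,2,4,6,4,2]), (521, [10,13,8,11,6,8,0,2,4,6,4,2]), (522, [10,6,0,2,4,6,8,2,4,6,4,2]),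 (523, [11,6,0,2,4,6,8,2,4,6,4,2]), (524, [8,10,0,2,4,6,8,2,4,6,4,2])]
def WP5 : List (ℕ × Word) := [(525, [10,10,0,2,4,6,8,2,4,6,4,2]), (526, [12,10,0,2,4,6,8,2,4,6,4,2]), (527, [8,11,0,2,4,6,8,2,4,6,4,2]), (528, [11,11,0,2,4,6,8,2,4,6,4,2]), (529, [12,11,0,2,4,6,8,2,4,6,4,2]), (530, [10,4,6,2,4,6,8,2,4,6,4,2]), (531, [11,4,6,2,4,6,8,2,4,6,4,2]), (532, [10,10,6,2,4,6,8,2,4,6,4,2]), (533, [12,10,6,2,4,6,8,2,4,6,4,2]), (534, [11,11,6,2,4,6,8,2,4,6,4,2]), (535, [12,11,6,2,4,6,8,2,4,6,4,2]), (536, [10,8,10,2,4,6,8,2,4,6,4,2]), (537, [11,8,10,2,4,6,8,2,4,6,4,2]), (538, [12,8,10,2,4,6,8,2,4,6,4,2]), (539, [13,8,10,2,4,6,8,2,4,6,4,2]), (540, [10,8,11,2,4,6,8,2,4,6,4,2]), (541, [11,8,11,2,4,6,8,2,4,6,4,2]), (542, [12,8,11,2,4,6,8,2,4,6,4,2]), (543, [13,8,11,2,4,6,8,2,4,6,4,2]), (544, [8,10,8,10,4,6,8,2,4,6,4,2]),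 (545, [12,10,8,10,4,6,8,2,4,6,4,2]), (546, [13,10,8,10,4,6,8,2,4,6,4,2]), (547, [11,11,8,10,4,6,8,2,4,6,4,2]), (548, [12,11,8,10,4,6,8,2,4,6,4,2]), (549, [11,12,8,10,4,6,8,2,4,6,4,2]), (550, [10,13,8,10,4,6,8,2,4,6,4,2]), (551, [11,13,8,10,4,6,8,2,4,6,4,2]), (552, [10,10,8,11,4,6,8,2,4,6,4,2]), (553, [13,10,8,11,4,6,8,2,4,6,4,2]), (554, [8,11,8,11,4,6,8,2,4,6,4,2]), (555, [11,11,8,11,4,6,8,2,4,6,4,2]), (556, [12,11,8,11,4,6,8,2,4,6,4,2]), (557, [13,11,8,11,4,6,8,2,4,6,4,2]), (558, [10,12,8,11,4,6,8,2,4,6,4,2]), (559, [10,13,8,11,4,6,8,2,4,6,4,2]), (560, [6,8,10,0,2,4,6,8,4,6,4,2]), (561, [10,8,10,0,2,4,6,8,4,6,4,2]), (562, [11,8,10,0,2,4,6,8,4,6,4,2]), (563, [12,8,10,0,2,4,6,8,4,6,4,2]), (564, [13,8,10,0,2,4,6,8,4,6,4,2]), (565, [10,8,11,0,2,4,6,8,4,6,4,2]), (566, [13,8,11,0,2,4,6,8,4,6,4,2]),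 (567, [4,6,8,10,2,4,6,8,4,6,4,2]), (568, [10,6,8,10,2,4,6,8,4,6,4,2]), (569, [11,6,8,10,2,4,6,8,4,6,4,2]), (570, [12,6,8,10,2,4,6,8,4,6,4,2]), (571, [13,6,8,10,2,4,6,8,4,6,4,2]), (572, [8,10,8,10,2,4,6,8,4,6,4,2]), (573, [12,10,8,10,2,4,6,8,4,6,4,2]), (574, [13,10,8,10,2,4,6,8,4,6,4,2]), (575, [11,11,8,10,2,4,6,8,4,6,4,2]), (576, [12,11,8,10,2,4,6,8,4,6,4,2]), (577, [11,12,8,10,2,4,6,8,4,6,4,2]), (578, [10,13,8,10,2,4,6,8,4,6,4,2]), (579, [11,13,8,10,2,4,6,8,4,6,4,2]), (580, [13,10,8,11,2,4,6,8,4,6,4,2]), (581, [8,11,8,11,2,4,6,8,4,6,4,2]), (582, [12,11,8,11,2,4,6,8,4,6,4,2]), (583, [13,11,8,11,2,4,6,8,4,6,4,2]), (584, [10,13,8,11,2,4,6,8,4,6,4,2]), (585, [2,4,6,8,10,4,6,8,4,6,4,2]), (586, [6,4,6,8,10,4,6,8,4,6,4,2]), (587, [10,4,6,8,10,4,6,8,4,6,4,2]), (588, [11,4,6,8,10,4,6,8,4,6,4,2]),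 (589, [12,4,6,8,10,4,6,8,4,6,4,2]), (590, [13,4,6,8,10,4,6,8,4,6,4,2]), (591, [8,10,6,8,10,4,6,8,4,6,4,2]), (592, [10,10,6,8,10,4,6,8,4,6,4,2]), (593, [12,10,6,8,10,4,6,8,4,6,4,2]), (594, [10,12,6,8,10,4,6,8,4,6,4,2]), (595, [10,13,6,8,10,4,6,8,4,6,4,2]), (596, [6,8,10,8,10,4,6,8,4,6,4,2]), (597, [6,4,6,8,11,4,6,8,4,6,4,2]), (598, [11,4,6,8,11,4,6,8,4,6,4,2]), (599, [12,4,6,8,11,4,6,8,4,6,4,2]), (600, [13,4,6,8,11,4,6,8,4,6,4,2]), (601, [6,8,11,8,11,4,6,8,4,6,4,2]), (602, [10,0,2,4,6,8,0,2,4,6,4,0,2]), (603, [11,0,2,4,6,8,0,2,4,6,4,0,2]), (604, [8,10,2,4,6,8,0,2,4,6,4,0,2]), (605, [10,10,2,4,6,8,0,2,4,6,4,0,2]), (606, [12,10,2,4,6,8,0,2,4,6,4,0,2]), (607, [8,11,2,4,6,8,0,2,4,6,4,0,2]), (608, [11,11,2,4,6,8,0,2,4,6,4,0,2]), (609, [12,11,2,4,6,8,0,2,4,6,4,0,2]), (610, [6,8,10,4,6,8,0,2,4,6,4,0,2]),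 (611, [10,8,10,4,6,8,0,2,4,6,4,0,2]), (612, [11,8,10,4,6,8,0,2,4,6,4,0,2]), (613, [12,8,10,4,6,8,0,2,4,6,4,0,2]), (614, [13,8,10,4,6,8,0,2,4,6,4,0,2]), (615, [10,8,11,4,6,8,0,2,4,6,4,0,2]), (616, [12,8,11,4,6,8,0,2,4,6,4,0,2]), (617, [13,8,11,4,6,8,0,2,4,6,4,0,2]), (618, [10,6,8,10,6,8,0,2,4,6,4,0,2]), (619, [8,10,8,10,6,8,0,2,4,6,4,0,2]), (620, [12,10,8,10,6,8,0,2,4,6,4,0,2]), (621, [10,13,8,10,6,8,0,2,4,6,4,0,2]), (622, [8,11,8,11,6,8,0,2,4,6,4,0,2]), (623, [10,13,8,11,6,8,0,2,4,6,4,0,2]), (624, [8,10,0,2,4,6,8,2,4,6,4,0,2]), (625, [10,10,0,2,4,6,8,2,4,6,4,0,2]), (626, [12,10,0,2,4,6,8,2,4,6,4,0,2]), (627, [8,11,0,2,4,6,8,2,4,6,4,0,2]), (628, [11,11,0,2,4,6,8,2,4,6,4,0,2]), (629, [12,11,0,2,4,6,8,2,4,6,4,0,2])]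
def WP6 : List (ℕ × Word) := [(630, [6,8,10,2,4,6,8,2,4,6,4,0,2]), (631, [11,8,10,2,4,6,8,2,4,6,4,0,2]), (632, [12,8,10,2,4,6,8,2,4,6,4,0,2]), (633, [13,8,10,2,4,6,8,2,4,6,4,0,2]), (634, [6,8,11,2,4,6,8,2,4,6,4,0,2]), (635, [10,8,11,2,4,6,8,2,4,6,4,0,2]), (636, [11,8,11,2,4,6,8,2,4,6,4,0,2]), (637, [12,8,11,2,4,6,8,2,4,6,4,0,2]), (638, [13,8,11,2,4,6,8,2,4,6,4,0,2]), (639, [13,6,8,10,4,6,8,2,4,6,4,0,2]), (640, [8,10,8,10,4,6,8,2,4,6,4,0,2]), (641, [12,10,8,10,4,6,8,2,4,6,4,0,2]), (642, [11,6,8,11,4,6,8,2,4,6,4,0,2]), (643, [12,6,8,11,4,6,8,2,4,6,4,0,2]), (644, [13,6,8,11,4,6,8,2,4,6,4,0,2]), (645, [10,12,8,11,4,6,8,2,4,6,4,0,2]), (646, [10,13,8,11,4,6,8,2,4,6,4,0,2]), (647, [10,8,11,0,2,4,6,8,4,6,4,0,2]), (648, [13,8,11,0,2,4,6,8,4,6,4,0,2]), (649, [4,6,8,11,2,4,6,8,4,6,4,0,2]), (650, [11,6,8,11,2,4,6,8,4,6,4,0,2]),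 (651, [13,6,8,11,2,4,6,8,4,6,4,0,2]), (652, [10,13,8,11,2,4,6,8,4,6,4,0,2]), (653, [12,4,6,8,10,4,6,8,4,6,4,0,2]), (654, [2,4,6,8,11,4,6,8,4,6,4,0,2]), (655, [10,4,6,8,11,4,6,8,4,6,4,0,2]), (656, [11,4,6,8,11,4,6,8,4,6,4,0,2]), (657, [13,4,6,8,11,4,6,8,4,6,4,0,2]), (658, [8,11,6,8,11,4,6,8,4,6,4,0,2]), (659, [11,13,6,8,11,4,6,8,4,6,4,0,2]), (660, [8,10,0,2,4,6,8,0,2,4,6,4,2]), (661, [10,10,0,2,4,6,8,0,2,4,6,4,2]), (662, [12,10,0,2,4,6,8,0,2,4,6,4,2]), (663, [8,11,0,2,4,6,8,0,2,4,6,4,2]), (664, [11,11,0,2,4,6,8,0,2,4,6,4,2]), (665, [12,11,0,2,4,6,8,0,2,4,6,4,2]), (666, [10,10,6,2,4,6,8,0,2,4,6,4,2]), (667, [12,10,6,2,4,6,8,0,2,4,6,4,2]), (668, [11,11,6,2,4,6,8,0,2,4,6,4,2]), (669, [12,11,6,2,4,6,8,0,2,4,6,4,2]), (670, [10,8,10,2,4,6,8,0,2,4,6,4,2]), (671, [11,8,10,2,4,6,8,0,2,4,6,4,2]),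 (672, [12,8,10,2,4,6,8,0,2,4,6,4,2]), (673, [13,8,10,2,4,6,8,0,2,4,6,4,2]), (674, [10,8,11,2,4,6,8,0,2,4,6,4,2]), (675, [11,8,11,2,4,6,8,0,2,4,6,4,2]), (676, [12,8,11,2,4,6,8,0,2,4,6,4,2]), (677, [13,8,11,2,4,6,8,0,2,4,6,4,2]), (678, [8,10,8,10,4,6,8,0,2,4,6,4,2]), (679, [12,10,8,10,4,6,8,0,2,4,6,4,2]), (680, [12,11,8,10,4,6,8,0,2,4,6,4,2]), (681, [10,13,8,10,4,6,8,0,2,4,6,4,2]), (682, [11,13,8,10,4,6,8,0,2,4,6,4,2]), (683, [10,10,8,11,4,6,8,0,2,4,6,4,2]), (684, [13,10,8,11,4,6,8,0,2,4,6,4,2]), (685, [8,11,8,11,4,6,8,0,2,4,6,4,2]), (686, [11,11,8,11,4,6,8,0,2,4,6,4,2]), (687, [12,11,8,11,4,6,8,0,2,4,6,4,2]), (688, [13,11,8,11,4,6,8,0,2,4,6,4,2]), (689, [10,12,8,11,4,6,8,0,2,4,6,4,2]), (690, [10,13,8,11,4,6,8,0,2,4,6,4,2]), (691, [10,10,6,0,2,4,6,8,2,4,6,4,2]), (692, [12,10,6,0,2,4,6,8,2,4,6,4,2]),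 (693, [11,11,6,0,2,4,6,8,2,4,6,4,2]), (694, [12,11,6,0,2,4,6,8,2,4,6,4,2]), (695, [10,8,10,0,2,4,6,8,2,4,6,4,2]), (696, [11,8,10,0,2,4,6,8,2,4,6,4,2]), (697, [12,8,10,0,2,4,6,8,2,4,6,4,2]), (698, [13,8,10,0,2,4,6,8,2,4,6,4,2]), (699, [10,8,11,0,2,4,6,8,2,4,6,4,2]), (700, [13,8,11,0,2,4,6,8,2,4,6,4,2]), (701, [10,10,4,6,2,4,6,8,2,4,6,4,2]), (702, [12,10,4,6,2,4,6,8,2,4,6,4,2]), (703, [11,11,4,6,2,4,6,8,2,4,6,4,2]), (704, [12,11,4,6,2,4,6,8,2,4,6,4,2]), (705, [8,10,8,10,2,4,6,8,2,4,6,4,2]), (706, [12,10,8,10,2,4,6,8,2,4,6,4,2]), (707, [13,10,8,10,2,4,6,8,2,4,6,4,2]), (708, [11,11,8,10,2,4,6,8,2,4,6,4,2]), (709, [12,11,8,10,2,4,6,8,2,4,6,4,2]), (710, [11,12,8,10,2,4,6,8,2,4,6,4,2]), (711, [10,13,8,10,2,4,6,8,2,4,6,4,2]), (712, [11,13,8,10,2,4,6,8,2,4,6,4,2]), (713, [13,10,8,11,2,4,6,8,2,4,6,4,2]),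 (714, [8,11,8,11,2,4,6,8,2,4,6,4,2]), (715, [12,11,8,11,2,4,6,8,2,4,6,4,2]), (716, [13,11,8,11,2,4,6,8,2,4,6,4,2]), (717, [10,13,8,11,2,4,6,8,2,4,6,4,2]), (718, [6,8,10,8,10,4,6,8,2,4,6,4,2]), (719, [6,8,11,8,11,4,6,8,2,4,6,4,2]), (720, [4,6,8,10,0,2,4,6,8,4,6,4,2]), (721, [11,11,8,10,0,2,4,6,8,4,6,4,2]), (722, [12,11,8,10,0,2,4,6,8,4,6,4,2]), (723, [2,4,6,8,10,2,4,6,8,4,6,4,2]), (724, [6,4,6,8,10,2,4,6,8,4,6,4,2]), (725, [10,4,6,8,10,2,4,6,8,4,6,4,2]), (726, [11,4,6,8,10,2,4,6,8,4,6,4,2]), (727, [12,4,6,8,10,2,4,6,8,4,6,4,2]), (728, [13,4,6,8,10,2,4,6,8,4,6,4,2]), (729, [12,10,6,8,10,2,4,6,8,4,6,4,2]), (730, [0,2,4,6,8,10,4,6,8,4,6,4,2]), (731, [6,2,4,6,8,10,4,6,8,4,6,4,2]), (732, [10,2,4,6,8,10,4,6,8,4,6,4,2]), (733, [11,2,4,6,8,10,4,6,8,4,6,4,2]), (734, [12,2,4,6,8,10,4,6,8,4,6,4,2])]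
def WP7 : List (ℕ × Word) := [(735, [13,2,4,6,8,10,4,6,8,4,6,4,2]), (736, [8,10,4,6,8,10,4,6,8,4,6,4,2]), (737, [10,10,4,6,8,10,4,6,8,4,6,4,2]), (738, [12,10,4,6,8,10,4,6,8,4,6,4,2]), (739, [10,12,4,6,8,10,4,6,8,4,6,4,2]), (740, [10,13,4,6,8,10,4,6,8,4,6,4,2]), (741, [4,6,8,10,8,10,4,6,8,4,6,4,2]), (742, [4,6,8,11,8,11,4,6,8,4,6,4,2]), (743, [8,10,0,2,4,6,8,0,2,4,6,4,0,2]), (744, [10,10,0,2,4,6,8,0,2,4,6,4,0,2]), (745, [12,10,0,2,4,6,8,0,2,4,6,4,0,2]), (746, [8,11,0,2,4,6,8,0,2,4,6,4,0,2]), (747, [11,11,0,2,4,6,8,0,2,4,6,4,0,2]), (748, [12,11,0,2,4,6,8,0,2,4,6,4,0,2]), (749, [6,8,10,2,4,6,8,0,2,4,6,4,0,2]), (750, [10,8,10,2,4,6,8,0,2,4,6,4,0,2]), (751, [11,8,10,2,4,6,8,0,2,4,6,4,0,2]), (752, [12,8,10,2,4,6,8,0,2,4,6,4,0,2]), (753, [13,8,10,2,4,6,8,0,2,4,6,4,0,2]), (754, [10,8,11,2,4,6,8,0,2,4,6,4,0,2]),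 (755, [12,8,11,2,4,6,8,0,2,4,6,4,0,2]), (756, [13,8,11,2,4,6,8,0,2,4,6,4,0,2]), (757, [13,6,8,10,4,6,8,0,2,4,6,4,0,2]), (758, [8,10,8,10,4,6,8,0,2,4,6,4,0,2]), (759, [12,10,8,10,4,6,8,0,2,4,6,4,0,2]), (760, [6,8,11,0,2,4,6,8,2,4,6,4,0,2]), (761, [10,8,11,0,2,4,6,8,2,4,6,4,0,2]), (762, [13,8,11,0,2,4,6,8,2,4,6,4,0,2]), (763, [11,6,8,11,2,4,6,8,2,4,6,4,0,2]), (764, [12,6,8,11,2,4,6,8,2,4,6,4,0,2]), (765, [13,6,8,11,2,4,6,8,2,4,6,4,0,2]), (766, [10,13,8,11,2,4,6,8,2,4,6,4,0,2]), (767, [2,4,6,8,11,2,4,6,8,4,6,4,0,2]), (768, [6,4,6,8,11,2,4,6,8,4,6,4,0,2]), (769, [11,4,6,8,11,2,4,6,8,4,6,4,0,2]), (770, [13,4,6,8,11,2,4,6,8,4,6,4,0,2]), (771, [0,2,4,6,8,11,4,6,8,4,6,4,0,2]), (772, [10,2,4,6,8,11,4,6,8,4,6,4,0,2]), (773, [11,2,4,6,8,11,4,6,8,4,6,4,0,2]), (774, [13,2,4,6,8,11,4,6,8,4,6,4,0,2]),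 (775, [8,11,4,6,8,11,4,6,8,4,6,4,0,2]), (776, [11,13,4,6,8,11,4,6,8,4,6,4,0,2]), (777, [10,8,10,0,2,4,6,8,0,2,4,6,4,2]), (778, [11,8,10,0,2,4,6,8,0,2,4,6,4,2]), (779, [12,8,10,0,2,4,6,8,0,2,4,6,4,2]), (780, [13,8,10,0,2,4,6,8,0,2,4,6,4,2]), (781, [10,8,11,0,2,4,6,8,0,2,4,6,4,2]), (782, [13,8,11,0,2,4,6,8,0,2,4,6,4,2]), (783, [8,10,8,10,2,4,6,8,0,2,4,6,4,2]), (784, [12,10,8,10,2,4,6,8,0,2,4,6,4,2]), (785, [12,11,8,10,2,4,6,8,0,2,4,6,4,2]), (786, [10,13,8,10,2,4,6,8,0,2,4,6,4,2]), (787, [11,13,8,10,2,4,6,8,0,2,4,6,4,2]), (788, [10,10,8,11,2,4,6,8,0,2,4,6,4,2]), (789, [13,10,8,11,2,4,6,8,0,2,4,6,4,2]), (790, [8,11,8,11,2,4,6,8,0,2,4,6,4,2]), (791, [12,11,8,11,2,4,6,8,0,2,4,6,4,2]), (792, [13,11,8,11,2,4,6,8,0,2,4,6,4,2]), (793, [10,13,8,11,2,4,6,8,0,2,4,6,4,2]), (794, [11,11,8,10,0,2,4,6,8,2,4,6,4,2]),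 (795, [12,11,8,10,0,2,4,6,8,2,4,6,4,2]), (796, [6,8,10,8,10,2,4,6,8,2,4,6,4,2]), (797, [6,8,11,8,11,2,4,6,8,2,4,6,4,2]), (798, [11,2,4,6,8,10,2,4,6,8,4,6,4,2]), (799, [12,2,4,6,8,10,2,4,6,8,4,6,4,2]), (800, [13,2,4,6,8,10,2,4,6,8,4,6,4,2]), (801, [10,6,4,6,8,10,2,4,6,8,4,6,4,2]), (802, [12,6,4,6,8,10,2,4,6,8,4,6,4,2]), (803, [13,6,4,6,8,10,2,4,6,8,4,6,4,2]), (804, [12,10,4,6,8,10,2,4,6,8,4,6,4,2]), (805, [12,0,2,4,6,8,10,4,6,8,4,6,4,2]), (806, [10,10,2,4,6,8,10,4,6,8,4,6,4,2]), (807, [12,10,2,4,6,8,10,4,6,8,4,6,4,2]), (808, [10,12,2,4,6,8,10,4,6,8,4,6,4,2]), (809, [10,13,2,4,6,8,10,4,6,8,4,6,4,2]), (810, [2,4,6,8,10,8,10,4,6,8,4,6,4,2]), (811, [2,4,6,8,11,8,11,4,6,8,4,6,4,2]), (812, [13,8,11,0,2,4,6,8,0,2,4,6,4,0,2]), (813, [13,6,8,10,2,4,6,8,0,2,4,6,4,0,2]), (814, [12,10,8,10,2,4,6,8,0,2,4,6,4,0,2]),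 (815, [13,6,8,11,0,2,4,6,8,2,4,6,4,0,2]), (816, [13,2,4,6,8,11,2,4,6,8,4,6,4,0,2]), (817, [13,6,4,6,8,11,2,4,6,8,4,6,4,0,2]), (818, [11,13,2,4,6,8,11,4,6,8,4,6,4,0,2])]
noncomputable def lany {α : Type} (l : List α) (p : α → Bool) : Bool :=
  List.rec (motive := fun _ => Bool) false (fun a _ ih => Bool.rec ih true (p a)) l
theorem lany_spec {α : Type} {l : List α} {p : α → Bool} (h : lany l p = true) : ∃ a ∈ l, p a = true := by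
  induction l with
  | nil => exact absurd h (by simp [lany])
  | cons a l ih =>
    have e : lany (a :: l) p = Bool.rec (lany l p) true (p a) := rfl
    rw [e] at h
    cases hp : p a
    · rw [hp] at h
      obtain ⟨b, h1, h2⟩ := ih h
      exact ⟨b, List.mem_cons_of_mem _ h1, h2⟩
    · exact ⟨a, List.mem_cons_self, hp⟩
noncomputable def cw (w : Word) : Word := lapp w (0 :: winv w)
noncomputable def chk (x : ℕ × Word) : Bool :=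
  band (mapsP C lk x.2 0 x.1) (band (Nat.beq x.1 0 || lany TS fun t => !(Nat.beq (ipt lk (cw x.2) t) (ipt lk [0] t)))
    (lall [1,2,3,4,5,6,7,8,9,10] fun i => tb (nth TA 0 i) x.1 || tb (nth TB 0 i) x.1 ||
      lany TS fun t => !(tb (nth U 0 i) t == tb (nth U 0 i) (ipt lk (cw x.2) t))))
theorem c0 : lall WP0 chk = true := by decide +kernel
theorem c1 : lall WP1 chk = true := by decide +kernel
theorem c2 : lall WP2 chk = true := by decide +kernel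
theorem c3 : lall WP3 chk = true := by decide +kernel
theorem c4 : lall WP4 chk = true := by decide +kernel
theorem c5 : lall WP5 chk = true := by decide +kernel
theorem c6 : lall WP6 chk = true := by decide +kernel
theorem c7 : lall WP7 chk = true := by decide +kernel
def WP : List (ℕ × Word) := WP0 ++ WP1 ++ WP2 ++ WP3 ++ WP4 ++ WP5 ++ WP6 ++ WP7
theorem cov : WP.map Prod.fst = List.range 819 := by decide +kernel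
theorem call : ∀ x ∈ WP, chk x = true := by
  intro x hx
  simp only [WP, List.mem_append] at hx
  rcases hx with (((((((h | h) | h) | h) | h) | h) | h) | h)
  exacts [lall_iff.1 c0 x h, lall_iff.1 c1 x h, lall_iff.1 c2 x h, lall_iff.1 c3 x h, lall_iff.1 c4 x h, lall_iff.1 c5 x h, lall_iff.1 c6 x h, lall_iff.1 c7 x h]
theorem hU : ∀ i < 11, C.inv (nth GW [] i) (nth U 0 i) = true := by decide +kernel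
theorem hA : ∀ i < 11, sub (nth TA 0 i) (C.clo (nth GW [] i) (nth SA [] i) (bit (nth BA 0 i))) = true ∧ sub (nth TB 0 i) (C.clo (nth GW [] i) (nth SB [] i) (bit (nth BB 0 i))) = true := by decide +kernel
theorem hcnt : ∀ i < 11, cnt C.n (nth TA 0 i) = nth [0,3,1,3] 0 i ∧ cnt C.n (nth TB 0 i) = nth [0,48,18,6] 0 i ∧ Nat.land (nth TA 0 i) (nth TB 0 i) = 0 := by decide +kernel
theorem hTS : ∀ t ∈ TS, t < 819 := by decide +kernel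
theorem hsub : ∀ i < 11, ∀ w ∈ nth GW [] i, subst gens w = w := by decide +kernel
def nn : List ℕ := [1,17199,45864,2201472,1304576,105670656,11741184,5031936,8805888,179712,8128512]
theorem low (i : ℕ) (h0 : 0 < i) (hi : i < 11) : 634023936 / nth nn 0 i ≤ Nat.card (C.grp (nth GW [] i)) := by
  interval_cases i
  exacts [low1.1, low2.1, low3.1, low4.1, low5.1, low6.1, low7.1, low8.1, low9.1, low10.1]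

end CA.ThCd
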