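import Cfsg.Agent.Lib.Spor.ThF

/-! Derivations of the double coset table of the Thompson group. -/

set_option autoImplicit false
set_option maxRecDepth 100000
set_option linter.all false
namespace CA.ThM
open CA.CNet CA.CWord CA.CLevel CA.CSimple CA.CPoint CA.CLow CA.CTodd CA.TCos
noncomputable section

def D0 : List (ℕ × Word × List (ℕ × Word) × Word) := [(100,[],[],[]),
  (1,[],[(2,[])],[]),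
  (1,[14,18,16,19,19,23,16,18],[(6,[0,4,2,5,5,9,2,4]),(3,[0]),(2,[0])],[]),
  (1,[14,18,16,19,19,23,16,18],[(6,[0,4,2,5,5,9,2,4]),(3,[2]),(2,[2])],[]),
  (1,[14,18,16,19,19,23,16,18],[(6,[0,4,2,5,5,9,2,4]),(3,[4]),(2,[4])],[]),
  (14,[16,16,18,16,19,16,23,17],[(6,[2,2,4,2,5,2,9,3]),(3,[]),(2,[])],[0,4,2,5,5,9,2,4]),
  (1,[11],[(22,[]),(9,[])],[0,2,4,2,5,5,9]),
  (100,[],[],[]),
  (1,[7],[(30,[])],[]),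
  (1,[14,18,16,19,19,23,16,18],[(34,[0,4,2,5,5,9,2,4]),(8,[]),(8,[]),(30,[0,0])],[]),
  (1,[14,18,16,19,19,23,16,18],[(34,[0,4,2,5,5,9,2,4]),(16,[]),(8,[]),(30,[4,2,2,2,9,2,2,2,4])],[]),
  (1,[14,18,16,19,19,23,16,18],[(34,[0,4,2,5,5,9,2,4]),(17,[]),(8,[]),(30,[0,2,1,3,5,2,4,3,4,3])],[]),
  (1,[14,18,16,19,19,23,16,18],[(34,[0,4,2,5,5,9,2,4]),(13,[]),(16,[]),(16,[]),(12,[]),(8,[]),(30,[2,5,2,2,5,2,8])],[]),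
  (1,[14,18,16,19,19,23,16,18],[(34,[0,4,2,5,5,9,2,4]),(13,[]),(17,[]),(17,[]),(12,[]),(8,[]),(30,[1,2,4,2,1,4,2])],[]),
  (1,[14,18,16,19,19,23,16,18],[(34,[0,4,2,5,5,9,2,4]),(17,[]),(12,[]),(12,[]),(16,[]),(13,[]),(13,[]),(30,[2,1,4,2,5,2,9])],[]),
  (2,[15,16,19,23,17,19,17,23],[(6,[1,2,5,9,3,5,3,9]),(3,[]),(2,[]),(8,[]),(30,[0,4])],[2,2,2,5,5,2,2,2,8]),
  (1,[7],[(62,[]),(12,[]),(9,[]),(12,[]),(8,[]),(30,[1,4,3,3,5,2,2])],[]),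
  (8,[18,16,22,17,17,23,16],[(6,[4,2,8,3,3,9,2]),(3,[]),(2,[]),(30,[0,4,2,5,5,9,2,4]),(44,[])],[0,5,2,2,2]),
  (1,[3,18,3,7],[(70,[]),(13,[]),(17,[]),(13,[]),(16,[]),(16,[])],[0,0,5,2,5,5,8]),
  (11,[17,17,18,17,18,16,22,3],[(74,[3,3,4,3,4,2,8]),(56,[]),(49,[]),(70,[0,2,2,5,5,5,2]),(12,[]),(12,[]),(8,[]),(30,[5,5,2,5,2,5,2,8]),(37,[])],[2,5,3,3,5,8,2,8]),
  (1,[7,27,27],[(78,[]),(16,[]),(12,[])],[5,3,5,5,2,2,2]),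
  (14,[14,18,17,17,19,17,18,7,10],[(82,[0,4,3,3,5,3,4]),(65,[]),(37,[]),(78,[0,5,3,8,2,4,2,4]),(17,[]),(12,[]),(9,[])],[0,9,2,5,2,2,9,0]),
  (3,[23,16,16,19,17,23,17,19],[(34,[9,2,2,5,3,9,3,5]),(13,[]),(9,[]),(12,[]),(86,[0,4,3,3,8,2,2]),(22,[2,2,2,5,5,2,2,2,8]),(16,[]),(8,[]),(13,[]),(82,[0,0,3,3,5,9,3,3])],[]),
  (14,[23,16,18],[(34,[9,2,4]),(82,[3,3,9,2,2,2,5]),(65,[]),(89,[])],[0,0,5,2,2,4,3,0]),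
  (100,[],[],[]),
  (1,[3,11],[(98,[])],[]),
  (1,[14,18,16,19,19,23,16,18],[(102,[0,4,2,5,5,9,2,4]),(12,[]),(8,[]),(98,[1,3])],[]),
  (1,[14,18,16,19,19,23,16,18],[(102,[0,4,2,5,5,9,2,4]),(13,[]),(9,[]),(98,[5,5,9,2,8,1,8])],[]),
  (1,[14,18,16,19,19,23,16,18],[(102,[0,4,2,5,5,9,2,4]),(8,[]),(8,[]),(8,[]),(98,[0,5,3,8,3,4,2,8])],[]),
  (1,[14,18,16,19,19,23,16,18],[(102,[0,4,2,5,5,9,2,4]),(8,[]),(13,[]),(8,[]),(98,[2,1,2])],[]),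
  (1,[14,18,16,19,19,23,16,18],[(102,[0,4,2,5,5,9,2,4]),(17,[]),(13,[]),(16,[]),(16,[]),(16,[]),(16,[]),(12,[]),(16,[]),(98,[0,4,3,4,2,5,2,8,3])],[]),
  (9,[16,15,18,16,19,23,17,22,10],[(26,[2,1,4,2,5,9,3,8]),(16,[]),(12,[]),(12,[]),(12,[]),(86,[0,4,3,4,3,5,9,3]),(12,[]),(8,[]),(13,[]),(17,[]),(13,[]),(17,[]),(8,[]),(98,[8,2,2,2,4,2,8])],[0,8,2,2,2,5,5,5]),
  (1,[3,19,28,17,22],[(126,[]),(16,[]),(13,[]),(16,[]),(16,[]),(16,[]),(9,[])],[0,5,5,8,3]),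
  (6,[16,18,16,23,16,7,11],[(86,[2,4,2,9,2]),(12,[]),(9,[]),(12,[]),(86,[2,1,4,2,5,2,1,4]),(13,[]),(16,[]),(130,[0,4,3,9,0,2,2,5])],[2,2,2,4,2,8,2,9]),
  (1,[3,23,16,23],[(134,[]),(12,[]),(12,[]),(16,[]),(16,[]),(12,[]),(17,[]),(98,[2,5,2,5,3,4,3,8])],[]),
  (9,[14,14,16,22,15,17,19,17,17],[(34,[0,0,2,8,1,3,5,3,3]),(13,[]),(13,[]),(8,[]),(86,[0,2,9,3,5,8]),(17,[]),(13,[]),(13,[]),(16,[]),(13,[]),(17,[]),(98,[2,9,3,3,5,3,8,1]),(136,[])],[0,5,2,2,9,0,3,4]),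
  (1,[3,1],[(142,[]),(89,[]),(53,[]),(36,[])],[3,3,5,8,3,3,9,2]),
  (6,[14,18,17,17,19,19,19,17,10],[(94,[0,4,3,3,5,5,5,3]),(37,[]),(88,[]),(36,[]),(94,[5,2,4,2,5,3,5]),(89,[]),(52,[]),(36,[]),(146,[8,2,1,4,3,3,5,2]),(137,[])],[0,2,9,0,2,5,3,3]),
  (1,[7,11,27,18],[(150,[])],[0,4,2,8,2,2,2,4]),
  (14,[14,16,18,16,18,17,17,3,18,3,7],[(70,[0,2,4,2,4,3,3]),(13,[]),(17,[]),(13,[]),(16,[]),(16,[]),(8,[]),(98,[2,5,3,9,2,9,2])],[0,0,2,9,2,4,2,4]),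
  (1,[11],[(158,[]),(36,[]),(146,[3,4,3,0,9,2,2,5])],[]),
  (2,[17,18,17,22,16,15,22],[(102,[3,4,3,8,2,1,8]),(17,[]),(17,[]),(12,[]),(12,[]),(16,[]),(16,[]),(74,[0,5,8,3,5,3,9]),(48,[]),(44,[]),(146,[3,3,4,3,3,5,5]),(161,[])],[1,3,4,3,9,0]),
  (1,[3,10],[(166,[]),(161,[]),(136,[])],[0,4,3,4,2,5,2,8,3]),
  (3,[14,14,17,17,19,17,18,17],[(102,[0,0,3,3,5,3,4,3]),(16,[]),(12,[]),(12,[]),(12,[]),(86,[0,5,2,4,2,1,5,8]),(12,[]),(16,[]),(16,[]),(12,[]),(12,[]),(16,[]),(98,[0,0,5,2,2,4,2,4])],[5,9,2,2,4,2,4]),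
  (4,[16,23,17,18,17,14,19,16],[(102,[2,9,3,4,3,0,5,2]),(17,[]),(17,[]),(13,[]),(13,[]),(16,[]),(16,[]),(8,[]),(98,[2,2,8,3,0,5,2]),(174,[0,5,3,3,4,3,5,3])],[2,5,8,1,3,0,4,3]),
  (4,[16,19,23,14,17,17],[(102,[2,5,9,0,3,3]),(17,[]),(17,[]),(12,[]),(12,[]),(16,[]),(16,[]),(74,[1,2,5,2,2,8]),(49,[]),(37,[]),(154,[1,3,9,3,4,2,2,5])],[1,5,2,5,9]),
  (1,[11,13],[(182,[]),(160,[])],[9,3,4,3,5,2,5]),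
  (5,[17,22,15,17,19,16,18],[(102,[3,8,1,3,5,2,4]),(16,[]),(13,[]),(16,[]),(12,[]),(16,[]),(8,[]),(98,[3,4,3,3,9,2,8]),(136,[]),(186,[3,5,8,2,5,5]),(136,[])],[0,0,0,5,2,2,4,3,4]),
  (14,[14,19,22,17,19,17,22],[(102,[0,5,8,3,5,3,8]),(9,[]),(130,[0,8,2,5,3,9]),(161,[])],[2,2,4,3,4,3,0]),
  (1,[3],[(194,[])],[0,4,3,5,5,8,3,4]),
  (14,[16,16,19,22,17,23,17,19],[(102,[2,2,5,8,3,9,3,5]),(9,[]),(98,[2,4,3,4,3,5,3])],[3,9,0,2,2]),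
  (1,[11,11],[(202,[])],[5,3,8,3,4,2,9]),
  (37,[15,18,17,17,18,17,19],[(102,[1,4,3,3,4,3,5]),(17,[]),(12,[]),(12,[]),(12,[]),(9,[]),(86,[3,5,3,0,4]),(12,[]),(16,[]),(16,[]),(12,[]),(12,[]),(16,[]),(130,[0,9,2,2,8,3,5,2])],[5,5,2,2,5,2,8,1]),
  (39,[14,17,17,19,17,19,23,14],[(102,[0,3,3,5,3,5,9,0]),(17,[]),(12,[]),(12,[]),(12,[]),(9,[]),(82,[0,0,9,3,4,3,5]),(45,[]),(89,[]),(36,[]),(154,[1,1,5,3,3,5,2,2]),(161,[])],[8,3,4,3,9,2,9]),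
  (41,[17,14,23,16,18,16,15,18],[(102,[3,0,9,2,4,2,1,4]),(17,[]),(17,[]),(13,[]),(13,[]),(16,[]),(16,[]),(9,[]),(98,[0,0,4,2,5,5,5]),(160,[]),(137,[]),(182,[2,4,2,8,1,3,3,9])],[8,3,8,2,5]),
  (1,[7,9,16,10,18],[(218,[]),(160,[]),(137,[])],[0,5,5,3,0,2]),
  (41,[14,14,19,16,19,23],[(102,[0,0,5,2,5,9]),(16,[]),(16,[]),(12,[]),(16,[]),(16,[]),(9,[]),(98,[8,3,4,3,3,5,5]),(161,[]),(136,[]),(218,[5,2,2,8]),(136,[])],[1,5,2,2,2,5]),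
  (1,[3,11,13],[(226,[]),(160,[])],[0,3,3]),
  (4,[14,16,22,15,16,19,16,19,3],[(194,[0,2,8,1,2,5,2,5]),(161,[]),(137,[]),(166,[0,5,9,2,5,3,3,9]),(161,[]),(137,[]),(194,[0,3,5,3,9,0,2])],[1,3,5,9,3,5,3,4]),
  (1,[7,17,10,10,19],[(234,[]),(137,[])],[4,2,5,3,9,3,5,3]),
  (100,[],[],[]),
  (1,[3,7],[(242,[])],[]),
  (1,[14,18,16,19,19,23,16,18],[(246,[0,4,2,5,5,9,2,4]),(8,[]),(8,[]),(242,[0,0])],[]),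
  (1,[14,18,16,19,19,23,16,18],[(246,[0,4,2,5,5,9,2,4]),(12,[]),(12,[]),(12,[]),(242,[0,0,0,4])],[]),
  (1,[14,18,16,19,19,23,16,18],[(246,[0,4,2,5,5,9,2,4]),(17,[]),(17,[]),(17,[]),(12,[]),(12,[]),(12,[]),(16,[]),(16,[]),(242,[0,0,2,9,3,4,3,5,2])],[]),
  (6,[17,18,16,15,18,16,23,3],[(74,[3,4,2,1,4,2,9]),(34,[3,3,8,1,2,5,2,5]),(12,[]),(12,[]),(12,[]),(17,[]),(13,[]),(8,[]),(242,[2,8,3,0,4,2,2]),(257,[])],[2,2,2,5,9,2,2]),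
  (1,[3,1],[(262,[]),(9,[]),(12,[]),(8,[]),(242,[5,8,2,2,2,5,9])],[]),
  (9,[16,15,16,19,17,19,17,17,3,1],[(142,[2,1,2,5,3,5,3,3]),(89,[]),(56,[]),(48,[]),(70,[2,2,4,2,2,2,5,5]),(16,[]),(13,[]),(13,[]),(17,[]),(12,[]),(8,[]),(242,[0,0,5,2,2,5,8,3,8]),(257,[]),(264,[]),(256,[]),(249,[])],[0,3,4,3,5,3,8,1]),
  (1,[7,11,9,11],[(270,[]),(161,[]),(116,[]),(112,[])],[5,3,3,8,3,3,5]),
  (36,[14,16,22,17,23,17,18],[(246,[0,2,8,3,9,3,4]),(13,[]),(17,[]),(17,[]),(13,[]),(17,[]),(13,[]),(17,[]),(130,[2,9,2,5,2]),(108,[]),(161,[]),(108,[]),(274,[2,2,2,9,2,2,2]),(248,[])],[0,5,2,9,3,8]),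
  (100,[],[],[]),
  (1,[3,7,11],[(282,[])],[]),
  (1,[14,18,16,19,19,23,16,18],[(286,[0,4,2,5,5,9,2,4]),(12,[]),(12,[]),(12,[]),(282,[0,0,0,4])],[]),
  (1,[14,18,16,19,19,23,16,18],[(286,[0,4,2,5,5,9,2,4]),(17,[]),(17,[]),(17,[]),(12,[]),(12,[]),(12,[]),(16,[]),(16,[]),(282,[0,0,2,9,3,4,3,5,2])],[]),
  (13,[15,18,16,16,16,18],[(102,[1,4,2,2,2,4]),(16,[]),(12,[]),(12,[]),(12,[]),(86,[1,1,3,4,3,3,5]),(16,[]),(16,[]),(12,[]),(12,[]),(17,[]),(12,[]),(8,[]),(8,[]),(8,[]),(282,[3,4,3,8,2,5,2,2]),(288,[])],[0,3,8,2,4,2,4]),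
  (1,[3,1],[(298,[]),(120,[])],[0,3,5,9,0,2,2,2,5]),
  (9,[15,15,19,17,19,3],[(194,[1,1,5,3,5]),(161,[]),(136,[]),(102,[3,4,3,4,3,3,4]),(13,[]),(9,[]),(282,[0,3,4,2,5,3,4])],[0,3,3,4,2,1,3,9]),
  (1,[7,9,26,7],[(306,[]),(160,[]),(137,[]),(112,[])],[1,3,0,4,2,4,2,5]),
  (9,[14,16,16,16,19,16,16,22,10],[(206,[0,2,2,2,5,2,2,8]),(160,[]),(230,[2,2,8,3,5,8,1]),(116,[]),(104,[]),(310,[2,1,4,2,4,2,9,0])],[0,4,3,4,3,5,8,2]),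
  (1,[7,17,18,7],[(314,[])],[1,4,3,3,4,3,5,2]),
  (9,[14,16,16,19,17,19,16,3,10],[(166,[0,2,2,5,3,5,2]),(160,[]),(137,[]),(222,[2,5,9,3,4,3,0,4]),(108,[]),(318,[2,1,3,9,3,5,3,9])],[1,4,2,2,5,3,0,2]),
  (1,[7,17,7],[(322,[]),(160,[]),(137,[]),(104,[])],[1,5,2,4,2,5,9,3]),
  (6,[17,18,17,23,17,17,18,11,11],[(202,[3,4,3,9,3,3,4]),(214,[2,8,1,8,3,4]),(161,[]),(116,[]),(318,[5,2,9,3,5,3,4])],[4,3,3,4,2,8,3]),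
  (1,[7,17,17,7],[(330,[]),(108,[])],[2,5,8,3,4,3,4]),
  (12,[19,17,18,17,22,15,16,11,13],[(182,[5,3,4,3,8,1,2]),(136,[]),(230,[0,4,2,5,2,2,5,8]),(116,[]),(112,[]),(310,[0,2,5,8,3,3,4,2])],[0,2,1,3,9,2,2,4]),
  (1,[7,26,7,5],[(338,[]),(160,[]),(137,[]),(116,[])],[2,2,5,9,0,3,5,3]),
  (12,[14,16,15,17,18,16,18,11,13],[(182,[0,2,1,3,4,2,4]),(160,[]),(137,[]),(102,[2,5,2,2,2,5]),(16,[]),(13,[]),(16,[]),(12,[]),(12,[]),(16,[]),(13,[]),(282,[0,2,2,5,2,5,5]),(293,[])],[3,5,3,9,3,4,2,4]),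
  (1,[7,16,18,7],[(346,[]),(136,[]),(120,[])],[4,2,2,8,3,4,2]),
  (6,[14,19,16,16,16,23,3,11,11],[(230,[0,5,2,2,2,9]),(161,[]),(214,[0,5,2,5,3,5,3]),(161,[]),(342,[0,2,2,5,2,5,3,3,9])],[0,0,4,2,9,0,2,5]),
  (1,[7,11,17,27],[(354,[]),(104,[])],[1,4,3,5,9,3,4,2]),
  (9,[14,18,17,19,23,16,22,16,15,3,11,13],[(226,[0,4,3,5,9,2,8,2,1]),(160,[]),(137,[]),(222,[2,1,5,2,2,5,3,4]),(104,[]),(318,[0,5,8,3,3,5,3,4])],[1,5,3,5,9,3,5,3]),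
  (1,[7,16,7],[(362,[]),(108,[]),(137,[])],[0,9,2,9,2]),
  (9,[14,17,19,23,14,16,19,3,7,15,3,18],[(178,[0,3,5,9,0,2,5]),(137,[]),(102,[5,8,2,2,2,4]),(16,[]),(16,[]),(12,[]),(12,[]),(12,[]),(17,[]),(282,[5,8,1,2,2,2])],[5,5,2,2,2,5,9,0]),
  (1,[3,1,19],[(370,[]),(137,[]),(116,[])],[0,5,2,4,3,4,3,8,2]),
  (11,[14,17,22,15,16,19,16,19],[(246,[0,3,8,1,2,5,2,5]),(17,[]),(8,[]),(13,[]),(16,[]),(13,[]),(17,[]),(8,[]),(98,[2,2,5,9,0]),(120,[]),(108,[]),(302,[0,8,3,5,3,3])],[3,4,3,3,5,3]),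
  (1,[3,7,5],[(378,[]),(252,[]),(264,[]),(249,[])],[5,5,8]),
  (17,[14,19,16,16,16,22,17,17],[(246,[0,5,2,2,2,8,3,3]),(8,[]),(8,[]),(282,[8,1,3,5,3,4])],[3,4,2,1,4,2,2]),
  (1,[10],[(386,[]),(249,[])],[]),
  (14,[17,19,17,19,17,22,16,7,11,9,11],[(270,[3,5,3,5,3,8,2]),(161,[]),(116,[]),(112,[]),(358,[2,5,2,5,8,3,3])],[0,3,8,2,5,3,9,0]),
  (1,[7,9,11,13],[(394,[]),(249,[])],[1,4,3,5,9,3,4,2]),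
  (14,[19,17,17,19,16,22,16,19,7,11,9,11],[(270,[5,3,3,5,2,8,2,5]),(161,[]),(116,[]),(112,[]),(310,[1,3,3,4,2,9,3])],[1,3,4,3,5,9,2,8]),
  (1,[7,9,10,17,7],[(402,[]),(249,[])],[3,5,9,0,3,5,3]),
  (17,[14,19,17,19,16,16,19,16,7,11,9,11],[(270,[0,5,3,5,2,2,5,2]),(161,[]),(116,[]),(112,[]),(326,[0,5,2,2,9,0])],[0,4,3,5,2,8,2]),
  (1,[3,23,10,29,27],[(410,[]),(248,[])],[3,8,1,2,5,9,3]),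
  (2,[17,18,16,22,16,18,16],[(286,[3,4,2,8,2,4,2]),(98,[2,1,4,3,0,5,2,9]),(120,[]),(116,[]),(112,[]),(302,[2,2,4,3,3,4]),(292,[])],[8,2,4,3,5,3,4,3]),
  (2,[15,16,19,17,19,17,17,19],[(286,[1,2,5,3,5,3,3,5]),(13,[]),(17,[]),(17,[]),(9,[]),(12,[]),(17,[]),(12,[]),(9,[]),(282,[2,2,2,5,8,1,3,5]),(293,[]),(418,[0,3,4,3,9,3,5,2]),(292,[])],[2,2,5,5,2,5,2,9]),
  (1,[3,19],[(422,[]),(292,[])],[0,3,4,2,2,2,5,8]),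
  (8,[17,22,16,18,17,14,16],[(286,[3,8,2,4,3,0,2]),(12,[]),(16,[]),(16,[]),(12,[]),(12,[]),(12,[]),(17,[]),(9,[]),(9,[]),(282,[5,8,3,3,5,3,9]),(293,[]),(418,[8,3,5,3,0,5,3])],[2,5,5,9,2,9]),
  (1,[7,17,7,5],[(430,[])],[4,2,8,3,5,2,8,2]),
  (8,[17,19,22,17,22,16,15],[(286,[3,5,8,3,8,2,1]),(17,[]),(17,[]),(12,[]),(16,[]),(13,[]),(8,[]),(282,[3,3,5,5,3,5]),(292,[]),(426,[1,3,4,3,3,4,3]),(292,[]),(288,[])],[0,3,5,8,2,1,5,2,9]),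
  (1,[3,7,27,19],[(438,[]),(293,[])],[2,8,1,8,3,8]),
  (11,[14,19,22,15,16,16,16,19,22],[(286,[0,5,8,1,2,2,2,5,8]),(16,[]),(16,[]),(16,[]),(16,[]),(282,[5,9,0,2,2,2,5]),(292,[]),(418,[2,2,2,5,9]),(293,[])],[8,1,2,2,2,4,2]),
  (11,[14,16,19,17,22,15,16,18,16],[(286,[0,2,5,3,8,1,2,4,2]),(13,[]),(9,[]),(282,[1,3,0,4,3,5,3]),(418,[0,3,5,3,8,1,2,4])],[2,5,2,4,2,2,9,2]),
  (1,[7,10,17,17],[(450,[])],[3,3,5,8]),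
  (14,[15,22,17,19,17,14,19],[(286,[1,8,3,5,3,0,5]),(9,[]),(9,[]),(282,[2,2,4,2,5,5])],[2,2,8,3,0,5,3,5]),
  (1,[11],[(458,[])],[0,4,2,8,1,8,3,4]),
  (37,[14,19,16,16,19,16,15],[(286,[0,5,2,2,5,2,1]),(16,[]),(12,[]),(12,[]),(12,[]),(17,[]),(17,[]),(8,[]),(98,[1,2,2,5,8,1]),(120,[]),(112,[]),(334,[5,2,2,5,3,9,2])],[2,9,2,2,2,9])]
theorem hD0 : allD2 lk B KW SW F A RL [] D0 0 = true := by decide +kernel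
def D1 : List (ℕ × Word × List (ℕ × Word) × Word) := [(37,[14,19,22,15,16,16,16,22],[(286,[0,5,8,1,2,2,2,8]),(16,[]),(12,[]),(12,[]),(12,[]),(17,[]),(17,[]),(130,[2,2,2,5,5,8]),(161,[]),(120,[]),(358,[0,5,9,0])],[3,9,2,4]),
  (39,[18,16,16,19,17,14,18,3],[(446,[4,2,2,5,3,0,4]),(292,[]),(430,[0,3,4,2,2,4,3,8]),(430,[3,5,2,1,2,5,3])],[0,2,4,2,1,4,3,4]),
  (2,[19,16,16,19,22,16,22,7],[(418,[5,2,2,5,8,2,8]),(330,[2,5,3,3,5,8,2,8]),(112,[]),(334,[0,2,2,8,2,2,5])],[1,3,5,8,2,5,2]),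
  (1,[7,10,9,10],[(478,[])],[1,3,5,3,0,2,5,3]),
  (3,[17,23,16,19,17,17,19,7],[(418,[3,9,2,5,3,3,5]),(322,[4,2,2,5,3,3]),(137,[]),(150,[0,4,2,2,8,2,1,8]),(49,[]),(57,[]),(37,[])],[2,2,2,5,9,0,2,2]),
  (1,[3,10],[(486,[])],[1,3,4,3,9,0]),
  (5,[14,16,23,16,16,18,17,19,7],[(418,[0,2,9,2,2,4,3,5]),(490,[2,1,5,3,5,9,3]),(45,[]),(53,[]),(56,[]),(36,[]),(486,[2,5,5,2,4,2,1,4])],[2,5,9,3,3,4,3,0]),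
  (1,[7,17,27,7],[(494,[])],[2,5,2,5,9,0,2]),
  (12,[14,17,17,22,15,17,23,7],[(418,[0,3,3,8,1,3,9]),(490,[2,2,2,8,3,3]),(40,[]),(88,[]),(65,[]),(53,[]),(486,[1,3,4,2,8,3,5,3,0]),(292,[])],[5,2,5,2,5,2,2]),
  (1,[3,1,19,11,18,3],[(502,[]),(288,[])],[0,3,0,4,3,3,5,8]),
  (12,[15,16,16,23,16,15,7],[(418,[1,2,2,9,2,1]),(490,[3,0,4,3,3,9]),(44,[]),(89,[]),(56,[]),(45,[]),(486,[1,3,5,3,3,4,2,1]),(292,[])],[4,3,9,3,5,8,2,9]),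
  (1,[3,7,11,26,28,16,23],[(510,[]),(292,[])],[2,5,3,3,5,2,1]),
  (17,[15,18,16,16,22,17,14,19,7],[(418,[1,4,2,2,8,3,0,5]),(470,[9,0,3,3,5,3,5,3]),(293,[])],[5,2,5,9,2]),
  (17,[14,14,18,17,17,18,17,18,7],[(418,[0,0,4,3,3,4,3,4]),(466,[0,4,2,5,2,1,2]),(293,[])],[8,2,4,2,8,3,8,2]),
  (1,[7,10],[(522,[])],[0,5,2,2,4,3,8,1]),
  (20,[18,16,16,22,17,19,16,23,7],[(418,[4,2,2,8,3,5,2,9]),(470,[4,3,5,9,0]),(293,[]),(466,[8,3,0,5,2]),(293,[]),(522,[3,8,2,4,2,4]),(522,[0,3,0,4,2,9,0,3]),(518,[1,2,2,2,4,3,0]),(470,[3,3,5,2,4,2,8]),(293,[])],[0,0,5,9,3,4,3,9]),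
  (39,[16,18,16,16,18,17,17,7],[(418,[2,4,2,2,4,3,3]),(462,[2,5,2,2,5,2,4]),(526,[3,5,2,5,8,1,2])],[3,8,2,2,5,9,2]),
  (1,[3,29,16,10,23],[(534,[]),(292,[])],[5,5,3,8]),
  (41,[14,23,16,18,16,18,16,19,7],[(418,[0,9,2,4,2,4,2,5]),(534,[5,5,2,2,8,3,0,4]),(522,[1,2,2,9,3,3,8,2])],[2,2,5,2,8,2,2,2]),
  (1,[7,9,11],[(542,[])],[4,2,1,3,4]),
  (11,[14,17,18,17,19,22,15,17,11],[(458,[0,3,4,3,5,8,1,3]),(292,[]),(538,[0,5,2,2,2,5,9]),(518,[3,4,3,8,1,2,2]),(292,[])],[5,5,3,3,5,3,0,4]),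
  (1,[3,10,19,23],[(550,[])],[3,9,2,9]),
  (12,[15,16,16,19,19,19,16,18,11],[(458,[1,2,2,5,5,5,2,4]),(292,[]),(518,[0,3,5,9,0,2,2]),(292,[]),(550,[1,5,3,9,0,2,2,5])],[0,2,8,3,5,5,5]),
  (1,[7,10,9],[(558,[]),(292,[])],[1,8,2,5,3,8,2]),
  (36,[16,19,19,19,17,17,11],[(458,[2,5,5,5,3,3]),(292,[]),(490,[0,2,9,3,4,2,2]),(53,[]),(57,[]),(45,[]),(486,[2,9,3,3,5,3,0])],[1,2,5,2,2,5,3,9]),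
  (1,[3,7,17,3,11],[(566,[]),(292,[])],[4,2,1,2,4,2,2]),
  (36,[16,16,16,19,17,18,11],[(458,[2,2,2,5,3,4]),(293,[]),(570,[3,0,4,3,5,3,0]),(546,[1,3,0,5,3,4,3,0])],[1,4,3,5,3,5,3]),
  (1,[7,9,11,15],[(574,[]),(293,[])],[2,8,3,5,8,1]),
  (5,[14,19,17,19,16,22,16,10],[(386,[0,5,3,5,2,8,2]),(256,[]),(248,[]),(270,[1,4,3,0,4,2,5,2]),(112,[]),(161,[]),(326,[0,8,2,4,2,1,4,3]),(293,[])],[0,0,2,4,2,8,1,3]),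
  (1,[3,1,11],[(582,[]),(292,[])],[0,5,3,0,4,2,2,8]),
  (6,[15,18,16,16,16,22,17,3,1],[(298,[1,4,2,2,2,8,3]),(116,[]),(112,[]),(302,[0,2,1,4,3,5,3,9]),(288,[]),(438,[2,8,1,8,3,4]),(292,[]),(288,[])],[5,5,2,2,2,5,8]),
  (1,[3,29,17],[(590,[])],[0,5,8,2,2,2,5,8]),
  (6,[17,19,16,18,16,15,16,3,1],[(298,[3,5,2,4,2,1,2]),(102,[0,5,3,5,5,3,4,3]),(17,[]),(13,[]),(16,[]),(16,[]),(13,[]),(16,[]),(13,[]),(8,[]),(282,[5,2,2,5,3,0]),(293,[])],[0,0,2,9,3,4,3,5]),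
  (1,[3,29,27],[(598,[]),(293,[]),(288,[])],[0,5,9,2,2,2,5,9]),
  (12,[14,16,16,19,22,17,19,22,3,1],[(298,[0,2,2,5,8,3,5,8]),(116,[]),(112,[]),(302,[2,5,8,3,9,0,2]),(293,[]),(288,[]),(602,[4,3,5,3,9,3,4,2]),(293,[]),(288,[])],[3,4,3,9,3,5,2,5]),
  (1,[3,19,27,3],[(606,[]),(293,[])],[8,2,8,1,8,3]),
  (13,[14,17,17,19,17,19,22,3,1],[(298,[0,3,3,5,3,5,8]),(102,[0,4,3,9,2,5,9,3]),(16,[]),(12,[]),(12,[]),(12,[]),(16,[]),(16,[]),(98,[2,2,5,2,4,2,5]),(120,[])],[0,3,5,5,3,4,3,0]),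
  (1,[3,1,7,33,3],[(614,[])],[0,8,2,2,2,5,5]),
  (14,[18,16,16,22,17,19,16,23,3,1],[(298,[4,2,2,8,3,5,2,9]),(120,[]),(366,[0,8,3,5,2,8,2,5,2])],[3,5,3,3,5,3,0]),
  (1,[7,17,7,11],[(622,[])],[3,8,2,2,5,9,2,2]),
  (13,[19,16,18,16,18,17,23,7,9],[(426,[5,2,4,2,4,3,9]),(293,[]),(410,[0,2,5,5,5,3]),(257,[]),(406,[0,3,5,3,5,9,3]),(292,[]),(288,[])],[3,5,2,5,9,2,1]),
  (1,[3,7,5,16],[(630,[]),(293,[]),(288,[])],[2,8,2,1,5,2,4,3]),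
  (2,[18,17,19,16,16,16,18,7,11],[(470,[4,3,5,2,2,2,4]),(288,[]),(582,[2,1,8,3,3,5,2]),(292,[]),(566,[1,3,4,3,4,3,4]),(292,[])],[4,2,4,2,1,5,3]),
  (1,[7,10,26,17],[(638,[])],[0,2,1,3]),
  (3,[17,19,17,17,22,17,18,7,11],[(470,[3,5,3,3,8,3,4]),(293,[]),(642,[3,5,2,5,8,1,2]),(518,[0,4,3,4,3,5,3,9])],[1,2,5,2,5,8,1,3,9]),
  (1,[7,11,17,7],[(646,[])],[3,8,2,2,4,2,1]),
  (3,[17,23,17,19,7,11],[(470,[3,9,3,5]),(293,[]),(542,[1]),(518,[1,4,3,4,2,5,2,9])],[2,4,3,0,5,9,3]),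
  (1,[7,11,9,26,7],[(654,[])],[0,2,2,2,8,1,3]),
  (3,[14,22,17,18,17,17,22,7,11],[(470,[0,8,3,4,3,3,8]),(293,[]),(554,[0,5,3,3,4,3,5,3]),(293,[]),(518,[8,1,2,2,2,4])],[0,0,3,3,4,3,5,2]),
  (1,[3,10,10,28,11,17],[(662,[])],[1,4,2,4,3,4,3]),
  (3,[14,14,16,22,16,7,11],[(470,[0,0,2,8,2]),(458,[5,8,2,5,2,5]),(293,[]),(518,[2,2,4,3,3,9])],[0,2,5,8,3,4,3]),
  (1,[7,9,11,26,7],[(670,[])],[5,3,3,8,2,2,8]),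
  (6,[17,18,16,19,23,17,7,11],[(470,[3,4,2,5,9,3]),(293,[]),(666,[4,2,2,9,0,3,5,2]),(654,[0,4,2,2,5,3,0,2]),(292,[])],[1,2,2,4,2,4,3]),
  (1,[3,11,19],[(678,[])],[2,8,2,2,4,2,4]),
  (6,[16,16,18,16,19,22,16,18,7,11],[(470,[2,2,4,2,5,8,2,4]),(293,[]),(542,[2,5,2,5,8,1,3,9]),(670,[5,2,9,3,5,2,2])],[1,3,4,3,3,4,3]),
  (1,[7,26,7,11],[(686,[])],[9,2,9,3,4,3,4]),
  (6,[15,22,16,16,19,17,19,23,7,11],[(470,[1,8,2,2,5,3,5,9]),(293,[]),(622,[2,1,5,2,4,2,9]),(292,[]),(586,[9,3,3,4,3,3,5]),(292,[])],[3,5,9,3,4,3,8]),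
  (9,[16,16,18,16,15,17,23,7,11],[(470,[2,2,4,2,1,3,9]),(458,[2,4,3,8,2,5]),(478,[5,3,3,4,2,2]),(293,[]),(288,[])],[5,9,2,9,3,5,3,9]),
  (1,[3,7,10,27,29,26],[(698,[]),(292,[]),(288,[])],[5,3,3,9,2]),
  (8,[16,19,22,17,17,19,7,10],[(522,[2,5,8,3,3,5]),(292,[]),(638,[1,1,2,2,4,3,3,4]),(293,[]),(298,[5,2,5,3,3,8,3]),(112,[]),(161,[]),(104,[])],[0,4,3,5,2,1,2]),
  (1,[3,23,3,26,29],[(706,[]),(292,[]),(288,[])],[0,5,5,5,2,9,3]),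
  (11,[14,16,19,16,18,17,18,17,22,7,10],[(522,[0,2,5,2,4,3,4,3,8]),(292,[]),(674,[0,2,4,3,9,3,5,3]),(292,[]),(422,[0,0,2,5,2,5,2,2]),(288,[])],[5,2,2,4,2,5,8,3]),
  (1,[3,1,10,29,11],[(714,[])],[2,2,8,1,2,2,9]),
  (13,[17,18,17,19,16,22,17,17,7,10],[(522,[3,4,3,5,2,8,3,3]),(410,[0,8,1,3,3,9,2,4]),(264,[]),(249,[]),(390,[4,3,8,2,2,4,3,8]),(292,[])],[2,2,4,2,2,4,3,4]),
  (1,[3,10,28,10,27],[(722,[])],[5,5,8]),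
  (36,[19,22,17,18,17,19,7,10],[(522,[5,8,3,4,3,5]),(658,[1,1,4,3,3,4,3,3]),(418,[0,5,8,3,3,8,3])],[2,2,5,3,3,9,0]),
  (1,[7,9,10,10],[(730,[])],[5,2,9,2]),
  (36,[15,17,17,23,17,17,18,7,10],[(522,[1,3,3,9,3,3,4]),(642,[2,4,2,1,4,2,9]),(418,[2,2,4,2,8,2,9])],[0,2,5,3,3,5,9,3]),
  (1,[7,11,26,7],[(738,[])],[0,3,4,3,5,3]),
  (36,[15,19,17,19,17,19,19,7,10],[(522,[1,5,3,5,3,5,5]),(554,[2,2,5,5,5,2,1,4,2]),(293,[]),(418,[2,2,4,2,4,3,9]),(293,[])],[0,4,2,2,5,8,3,4]),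
  (38,[14,23,14,16,18,16,16,7,10],[(522,[0,9,0,2,4,2,2]),(726,[2,2,2,5,8,1,3,0]),(418,[0,5,9,0,2,5,3,3])],[8,2,2,5,2,1,5,2]),
  (1,[3,23,10,18,27],[(750,[])],[2,4,2,2,5,5,2]),
  (38,[18,16,16,22,17,14,18,7,10],[(522,[4,2,2,8,3,0,4]),(754,[0,5,3,5,9,3,4,3,0]),(518,[2,1,5,2,2,8,3]),(293,[])],[5,3,3,4,3,5,8]),
  (1,[3,11,13],[(758,[])],[0,2,5,3,5,3,3,8]),
  (39,[23,16,16,18,17,18,7,10],[(522,[9,2,2,4,3,4]),(722,[5,2,8,3,8,1,3,5]),(418,[0,4,2,1,4,3,3])],[4,2,2,5,2,4,3,3]),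
  (1,[3,29,16,10,33],[(766,[])],[1,5,8,2,5,2,2,4]),
  (41,[17,18,16,18,16,19,16,19,7,10],[(522,[3,4,2,4,2,5,2,5]),(666,[3,3,5,9,2,5,8,3]),(418,[2,2,5,3,4,2,1,8])],[8,2,2,2,4,2,9,0]),
  (9,[14,19,17,19,16,3,1,11],[(582,[0,5,3,5,2]),(292,[]),(426,[0,2,5,9,3,4,3,5]),(292,[]),(288,[]),(438,[8,3,0,4,2,5,2]),(292,[]),(288,[])],[1,1,3,3,4,3,5,3]),
  (1,[3,18,27,29],[(778,[]),(292,[])],[0,5,5,2,9]),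
  (14,[16,18,16,16,19,17,19,3,11,13],[(758,[2,4,2,2,5,3,5]),(774,[1,2,2,5,2,2,5,5])],[0,3,9,2,1,5]),
  (1,[3,29,16,10,18],[(786,[])],[1,3,3,9,2,2,8]),
  (14,[14,14,16,16,18,17,14,3,11,13],[(758,[0,0,2,2,4,3,0]),(694,[1,5,2,2,5,2,5,8])],[0,2,9,3,5,3,9]),
  (1,[3,29,26,11,32],[(794,[])],[4,3,4,2,4,2]),
  (17,[16,18,16,19,19,16,19,16,3,11,13],[(758,[2,4,2,5,5,2,5,2]),(474,[0,2,2,4,2,9,0]),(292,[])],[9,3,5,3,5,5]),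
  (1,[7,11,16,7,5],[(802,[])],[0,2,2,2,5,8,2,8]),
  (17,[17,14,16,18,16,16,19,23,3,11,13],[(758,[3,0,2,4,2,2,5,9]),(794,[2,5,9,3,3,4,3,8])],[2,1,4,3,9,3,4,2]),
  (37,[15,19,17,23,17,17,19,3,11,13],[(758,[1,5,3,9,3,3,5]),(292,[]),(370,[1,3,4,3,8,2,2]),(136,[]),(160,[]),(108,[]),(374,[0,2,5,3,3,9,2,2]),(293,[])],[5,3,3,4,3,0,4]),
  (1,[3,28,11,17],[(814,[]),(292,[])],[2,5,2,4,3,4,3,9]),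
  (2,[19,17,18,17,17,23,17,3,10,10],[(746,[5,3,4,3,3,9,3]),(554,[3,4,3,3,9,3,3]),(293,[]),(750,[0,2,5,2,2,9,3])],[1,4,3,5,3,3,9,3]),
  (1,[3,28,10,27],[(822,[]),(292,[])],[1,3,5,3,4,3,3,9]),
  (36,[18,17,19,23,16,15,3,10,10],[(746,[4,3,5,9,2,1]),(794,[4,2,2,2,5,9]),(292,[]),(694,[2,4,2,2,4,3,5,8])],[0,0,3,5,3,8,1,3,3]),
  (1,[3,29,26,11,15],[(830,[]),(292,[])],[0,2,4,2,2,2,8]),
  (43,[14,17,19,19,19,17,23,17,3,10,10],[(746,[0,3,5,5,5,3,9,3]),(822,[2,9,2,4,2,5,2,1]),(292,[]),(554,[5,5,9,3,5,3]),(293,[])],[0,3,4,3,9,0,2]),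
  (1,[3,11,11,28,10,27],[(838,[]),(292,[])],[0,5,2,8,3,8,1,3]),
  (43,[15,19,22,16,19,3,10,10],[(746,[1,5,8,2,5]),(726,[0,3,8,2,1,2,4,2]),(694,[3,0,9,2,5,2,2]),(292,[])],[0,4,2,5,2,8,3]),
  (1,[3,10,19,22],[(846,[]),(292,[])],[3,9,2,2,2,9]),
  (2,[16,16,18,16,19,23,17,22,7,11,11],[(530,[2,2,4,2,5,9,3,8]),(770,[4,2,5,2,2,5,2]),(293,[]),(790,[1,4,2,2,5,2,1,5]),(292,[])],[8,3,3,4,3,0,4]),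
  (1,[3,1,10,19],[(854,[]),(292,[])],[1,1,2]),
  (2,[17,19,19,19,17,23,17,17,7,11,11],[(530,[3,5,5,5,3,9,3,3]),(842,[0,2,1,5,3,4,3]),(762,[0,0,2,4,2,1,4,2]),(292,[])],[2,2,2,4,3,9,3]),
  (1,[3,29,26,11,33],[(862,[])],[0,5,2,2,8,3,9,0]),
  (3,[14,16,16,22,17,18,17,7,11,13],[(466,[0,2,2,8,3,4,3]),(293,[]),(850,[2,9,3,5,3,5]),(293,[]),(526,[0,0,2,2,5,2,5,3,3])],[1,2,2,4,2,5,2,8]),
  (1,[3,19,10,22,26],[(870,[]),(292,[])],[0,8,1,3,8,3]),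
  (4,[14,17,17,19,22,16,19,7,11,13],[(466,[0,3,3,5,8,2,5]),(293,[]),(830,[0,3,3,5,3,5,8]),(292,[]),(526,[0,4,3,4,2,1,2])],[5,3,8,3,4]),
  (1,[7,17,7,5,10],[(878,[])],[0,5,2,2,2,5,9,0]),
  (11,[14,16,15,22,7,10,13],[(526,[0,2,1,8]),(292,[]),(586,[2,5,3,0,2,5,2,5]),(292,[]),(738,[5,3,3,5,2,1])],[0,2,1,3,9,3,5,2]),
  (1,[3,28,26,29],[(886,[]),(292,[]),(288,[])],[0,8,1,2,2,8]),
  (11,[17,19,22,17,23,17,18,7,10,13],[(526,[3,5,8,3,9,3,4]),(292,[]),(606,[0,3,5,2,8,3,4,3]),(288,[]),(422,[1,3,3,4,2,9,3,5]),(293,[])],[0,5,2,8,3,9,3,5]),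
  (1,[3,10,29,11],[(894,[])],[0,3,0,5,2,9,2]),
  (13,[18,17,19,16,22,16,23,7,10,13],[(526,[4,3,5,2,8,2,9]),(818,[2,8,3,8,2,5]),(402,[3,4,3,9,3,5,2,9]),(257,[]),(265,[]),(249,[])],[3,5,5,2,5,8]),
  (1,[7,9,10],[(902,[])],[2,2,4,2,2,2,8,3]),
  (9,[17,14,16,18,17,17,18,7,9,11,13],[(394,[3,0,2,4,3,3,4]),(249,[]),(390,[1,2,4,2,5,3,8,1]),(292,[]),(494,[0,0,2,9,3,3,8,3]),(293,[])],[2,5,3,5,3,3,5,2]),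
  (1,[3,10,22,3,5,11],[(910,[])],[0,2,2,2,8,2,8]),
  (6,[14,17,19,16,18,16,19,17,14,7,9,10,10],[(730,[0,3,5,2,4,2,5,3,0]),(293,[]),(298,[3,9,3,4,3,5]),(104,[]),(137,[]),(161,[]),(108,[]),(614,[2,5,8,2,5,2]),(293,[]),(288,[])],[3,0,5,2,2,5,3]),
  (1,[3,7,16,19,16,26],[(918,[]),(288,[])],[1,2,9,3,4,3,4,3]),
  (9,[16,15,19,16,16,22,15,7,11,9,11],[(490,[2,1,5,2,2,8,1]),(52,[]),(64,[]),(89,[]),(41,[]),(486,[5,9,2,4,2,2,5]),(394,[9,2,8,1,3,9]),(256,[]),(252,[]),(264,[]),(248,[])],[1,3,9,0,2,4,2,2]),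
  (1,[3,7,15,16,19,11],[(926,[]),(293,[])],[5,5,5,2,2,2,5,5]),
  (9,[14,19,19,16,16,18,17,14,7,11,9,11],[(490,[0,5,5,2,2,4,3,0]),(52,[]),(89,[]),(45,[]),(486,[2,2,5,5,5,2,1,2]),(394,[2,2,5,2,8,3]),(256,[]),(252,[]),(264,[]),(248,[])],[3,3,4,2,4,2,9,3]),
  (1,[3,7,10,29,11,26],[(934,[]),(293,[])],[0,0,5,9,2,5,2]),
  (9,[17,19,17,14,19,17,17,18,7,11,9,11],[(490,[3,5,3,0,5,3,3,4]),(52,[]),(64,[]),(89,[]),(41,[]),(486,[5,3,9,0,3,3]),(494,[1,2,2,2,8,2,2,2]),(293,[])],[0,5,3,8,2,5,2,9]),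
  (1,[3,7,27,18,26,18],[(942,[])],[5,9,0,2,4]),
  (11,[22,17,22,15,17,19,23,17,7,11,9,11],[(490,[8,3,8,1,3,5,9,3]),(56,[]),(37,[]),(64,[]),(486,[4,2,5,9,3,3]),(674,[0,3,0,5,2,8,3])],[5,5,3,3,5,3,5]),
  (1,[3,1,11,28,7,10],[(950,[]),(293,[]),(288,[])],[2,1,4,2,4,2,8]),
  (11,[17,19,16,15,16,19,7,11,9,11],[(490,[3,5,2,1,2,5]),(88,[]),(40,[]),(88,[]),(36,[]),(486,[5,8,2,2,2,5,2]),(494,[3,3,9,2,8,1,8]),(293,[])],[2,5,8,3,3,4,3,3]),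
  (1,[3,7,17,18,16,18],[(958,[]),(293,[])],[5,2,9,3,4,3]),
  (5,[14,14,16,19,16,19,16,23,7,27,27],[(742,[0,0,2,5,2,5,2,9]),(322,[8,3,3,8,3,3,8]),(137,[]),(160,[]),(116,[]),(104,[]),(274,[3,5,2,5,8,2,4])],[5,3,5,5,8,3]),
  (1,[7,11,27,27],[(966,[])],[8,3,4,2,2,5,3]),
  (6,[18,16,19,17,14,18,7,27,27],[(742,[4,2,5,3,0,4]),(518,[0,2,1,8,2,2,8]),(293,[]),(730,[2,5,2,5,8,2,4]),(288,[])],[3,8,2,2,5,2,9,3]),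
  (1,[3,29,26,11,26,7],[(974,[]),(292,[]),(288,[])],[3,9,2,8,2,2]),
  (11,[16,22,16,19,17,23,17,7,27,27],[(742,[2,8,2,5,3,9,3]),(293,[]),(890,[3,9,2,5,5,9,3,5]),(742,[2,2,5,3,3,9,2,8]),(292,[])],[5,5,3,9,2,8,2]),
  (1,[3,7,10,18,26,29],[(982,[])],[0,5,8,2,9,2]),
  (8,[16,16,22,16,18,17,19,17,7,11,14],[(570,[2,2,8,2,4,3,5,3]),(292,[]),(542,[0,3,0,5,3,5,3,8]),(742,[1,1,3,4,3,5,2]),(288,[])],[2,2,5,2,4,2,5,5]),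
  (1,[3,29,11,27,27,7],[(990,[])],[8,2,1,3,9]),
  (2,[15,19,16,18,16,19,17,14,3,19],[(422,[1,5,2,4,2,5,3,0]),(293,[]),(634,[1,2,2,8,3,4,3,3]),(293,[]),(288,[]),(618,[0,0,4,3,8,3]),(112,[]),(108,[]),(104,[])],[2,2,2,5,8,3,8]),
  (1,[3,1,18],[(998,[])],[0,0,5,2,2,2]),
  (17,[17,22,16,18,17,17,19,3,19],[(422,[3,8,2,4,3,3,5]),(292,[]),(970,[8,2,4,3,0,5]),(248,[])],[3,3,8,3,3,5,3]),
  (1,[7,10,16,16],[(1006,[])],[0,3,3,9,0,3,4,3,3]),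
  (4,[15,18,17,23,16,19,7,17,27],[(658,[1,4,3,9,2,5]),(498,[0,5,8,3,3,5]),(386,[2,4,2,4,2,5]),(248,[])],[4,3,9,3,5,2,9,3]),
  (1,[7,16,11,17],[(1014,[])],[3,4,2,2,5,3,5]),
  (12,[17,19,22,16,15,19,17,14,7,17,27],[(658,[3,5,8,2,1,5,3,0]),(734,[3,3,5,8,3,4,3]),(288,[]),(922,[1,2,2,2,5,3,3])],[5,2,2,2,4,2,8]),
  (1,[3,23,16,7,28,16],[(1022,[]),(292,[])],[5,3,5,2,1,4]),
  (13,[16,19,17,18,17,14,19,23,7,17,27],[(658,[2,5,3,4,3,0,5,9]),(498,[0,4,2,5,2,1,4,3]),(293,[]),(522,[0,3,4,3,3,5,3,9]),(293,[])],[4,2,1,8,3,4,3,8]),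
  (1,[3,7,11,13,28,10],[(1030,[]),(293,[]),(288,[])],[0,2,5,3,3,5,2,5]),
  (40,[15,17,19,19,16,16,18,7,9,11,15],[(574,[1,3,5,5,2,2,4]),(293,[]),(914,[2,9,3,3,5,3,9,2]),(292,[]),(650,[2,2,5,3,9,2,4])],[0,3,9,3,5,8,2,5]),
  (1,[3,28,17,17,7,10],[(1038,[]),(292,[])],[0,2,9,2,8,2]),
  (9,[15,18,16,19,16,19,16,7,9,11,14],[(1018,[1,4,2,5,2,5,2]),(248,[]),(390,[1,2,5,2,1,4,3,5]),(293,[]),(494,[0,2,2,8,3,3])],[3,0,5,2,2,5,2,5]),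
  (1,[3,7,17,22,3,10,27],[(1046,[]),(292,[])],[5,2,5,8,1,2]),
  (9,[19,22,17,19,17,17,18,16,7,10,16,16],[(682,[5,8,3,5,3,3,4,2]),(293,[]),(654,[8,3,9,3,5]),(292,[]),(1034,[2,2,5,2,1,4,2]),(293,[])],[2,4,3,5,9,2,9,3]),
  (1,[3,7,26,29,10,16],[(1054,[]),(293,[])],[0,4,3,8,1,2,2,2]),
  (9,[14,16,19,19,22,16,19,19,22,7,16,11,17],[(578,[0,2,5,5,8,2,5,5,8]),(494,[1,4,2,5,2,5,2]),(293,[]),(288,[]),(514,[8,2,2,4,2,8,1]),(292,[]),(288,[])],[4,2,4,3,0,2]),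
  (1,[3,28,10,10],[(1062,[]),(293,[]),(288,[])],[0,5,3,5,8,2,5]),
  (36,[18,17,17,18,17,17,22,16,7,16,11,17],[(578,[4,3,3,4,3,3,8,2]),(293,[]),(978,[5,2,2,8,3,4,2]),(650,[1,3,3,4,3,3,8]),(288,[])],[4,3,4,2,5,2,2])]
theorem hD1 : allD2 lk B KW SW F A RL [] D1 117 = true := by decide +kernel
def D2 : List (ℕ × Word × List (ℕ × Word) × Word) := [(1,[3,1,10,22,3,10,12],[(1070,[]),(293,[])],[0,2,5,3,5,5,5,2]),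
  (36,[17,19,16,19,19,16,7,17,17,7],[(330,[3,5,2,5,5,2]),(120,[]),(161,[]),(998,[0,0,4,2,2,4,2]),(293,[]),(1062,[1,2,2,5,3,3,5]),(293,[]),(288,[])],[5,9,2,4,2,2,8]),
  (1,[3,19,11,26,29,3],[(1078,[]),(292,[])],[0,5,2,1,5,3,5,2]),
  (37,[16,19,22,17,23,17,7,17,17,7],[(330,[2,5,8,3,9,3]),(116,[]),(112,[]),(108,[]),(998,[1,4,2,2,2,4]),(538,[2,4,3,5,3,0,4])],[5,2,5,5,2,5,2]),
  (1,[3,7,27,22,10,19],[(1086,[])],[1,3,4,2,5,9,0]),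
  (13,[19,17,23,17,19,7,10,15,11],[(546,[5,3,9,3,5]),(470,[2,5,2,2,5,2]),(1026,[1,3,3,4,3,4,3,0]),(293,[])],[5,2,8,3,4,3,0,4]),
  (1,[3,28,27,10],[(1094,[]),(292,[])],[3,0,2,5,2,2,5,3]),
  (9,[17,14,18,17,18,17,23,7,10,26,17],[(638,[3,0,4,3,4,3,9]),(734,[8,2,4,2,4,2]),(288,[]),(922,[2,2,5,5,5,2,5,2])],[8,2,5,9,0,3]),
  (9,[14,22,16,18,17,19,17,3,7,17,3,11],[(566,[0,8,2,4,3,5,3]),(292,[]),(542,[0,4,3,3,5,9]),(292,[]),(1098,[3,3,8,1,2,5,2,8]),(293,[])],[5,5,3,5,9,3,4]),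
  (1,[3,7,26,18,3,26],[(1106,[]),(288,[])],[0,2,8,1,8,2,4,2]),
  (37,[19,17,19,17,17,3,7,17,3,11],[(566,[5,3,5,3,3]),(288,[]),(634,[5,2,2,5,2,1,5]),(626,[3,4,3,3,4,2,4])],[0,3,3,9,2,5,3,8]),
  (1,[3,10,22,11,29,7],[(1114,[]),(293,[])],[0,2,8,3,9,3,3]),
  (6,[14,19,17,17,23,16,19,22,3,7,5,17],[(602,[0,5,3,3,9,2,5,8]),(293,[]),(610,[5,5,3,8,2,5,2]),(293,[]),(288,[]),(602,[3,4,3,3,5,3,0]),(293,[]),(288,[])],[3,9,0,2,4,2,4]),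
  (39,[14,23,16,19,16,19,22,3,29,26,11,9],[(690,[0,9,2,5,2,5,8]),(292,[]),(288,[]),(1030,[4,2,8,3,5,8,2]),(354,[2,2,2,4,2,1,8,3,5]),(116,[]),(112,[])],[2,4,3,0,2,4,2,4]),
  (1,[3,23,11,19,7],[(1126,[]),(288,[])],[3,5,5,3,4,3,4]),
  (40,[16,23,17,19,17,22,15,16,3,29,26,11,9],[(690,[2,9,3,5,3,8,1,2]),(293,[]),(288,[]),(1054,[1,2,2,5,8,3,8]),(578,[0,3,4,3,8])],[0,3,8,2,5,2,4]),
  (1,[3,1,29,26],[(1134,[]),(288,[])],[0,2,8,1,3,9]),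
  (2,[15,16,16,19,23,16,18,3,1,19,10,10],[(1066,[1,2,2,5,9,2,4]),(292,[]),(288,[]),(1102,[3,0,5,2,9,0,2]),(293,[]),(288,[]),(1062,[3,0,2,4,2,4]),(288,[])],[0,5,8,2,1,4,2]),
  (36,[17,22,17,14,18,17,19,3,1,19,10,10],[(1066,[3,8,3,0,4,3,5]),(293,[]),(490,[1,4,3,4,2,1,2,5]),(89,[]),(49,[]),(44,[]),(486,[2,4,3,4,3,5,9]),(288,[])],[2,2,2,5,2,2,9,0]),
  (1,[3,19,26,11,18],[(1146,[]),(292,[]),(288,[])],[4,3,5,5,9,2,5,2]),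
  (10,[16,18,16,23,16,16,18,16,3,1,19,10,13],[(1026,[2,4,2,9,2,2,4,2]),(288,[]),(782,[2,4,3,5,3,0,9]),(292,[]),(702,[3,3,8,2,2,2,8]),(293,[])],[0,5,3,0,4,3,4]),
  (1,[3,7,27,19,11,19,22],[(1154,[])],[0,2,4,2,1,5,8]),
  (6,[14,16,19,16,19,22,15,17,3,11,19,22],[(874,[0,2,5,2,5,8,1,3]),(293,[]),(446,[0,5,5,5,3,0,5,2]),(293,[]),(288,[]),(950,[0,0,5,2,9,2,2,8]),(292,[]),(288,[])],[3,8,2,4,3,9]),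
  (1,[3,1,11,23,3,11],[(1162,[]),(292,[]),(288,[])],[0,2,9,3,5,8,2,4]),
  (6,[14,19,19,16,16,19,17,3,11,19,22],[(874,[0,5,5,2,2,5,3]),(814,[8,3,5,8]),(293,[]),(288,[]),(506,[4,3,3,4,3,4])],[1,3,3,9,2,5]),
  (1,[3,7,33,10,14],[(1170,[]),(292,[]),(288,[])],[0,4,2,5,2,8,3,8]),
  (6,[14,14,14,16,19,16,18,3,10,19,22],[(846,[0,0,0,2,5,2,4]),(292,[]),(786,[2,1,4,3,9,2]),(293,[]),(288,[]),(1162,[4,2,2,8,3,5,2,9]),(288,[])],[0,3,5,2,4,2,5]),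
  (1,[3,1,11,23,10,15,7],[(1178,[]),(292,[]),(288,[])],[0,4,2,5,2,4,2]),
  (11,[15,16,16,19,17,14,18,16,3,10,19,10,10],[(1098,[1,2,2,5,3,0,4,2]),(292,[]),(288,[]),(962,[1,1,3,5,3,3,5,2]),(292,[]),(498,[1,3,4,3,5,2,8,2,1]),(292,[])],[0,2,8,3,0,9,2,5]),
  (1,[3,11,11,28,11,12],[(1186,[]),(292,[])],[0,9,3,4,3,5,2,8]),
  (41,[14,23,17,19,16,23,17,3,10,19,10,10],[(1098,[0,9,3,5,2,9,3]),(293,[]),(288,[]),(1066,[0,0,9,2,9,2,2,4]),(293,[]),(1142,[2,8,2,5,2,4]),(293,[]),(288,[])],[3,5,2,2,2,4]),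
  (1,[3,18,3,28,11],[(1194,[]),(292,[])],[3,9,2,2,2,5,2]),
  (17,[14,23,16,18,16,16,19,3,19,26,11,18],[(1146,[0,9,2,4,2,2,5]),(292,[]),(288,[]),(1102,[0,5,5,2,2,8,3,3]),(292,[])],[0,0,3,3,4,3,9,2,4]),
  (1,[3,1,11,28,10,10],[(1202,[])],[1,4,2,2,4,2,9,0]),
  (36,[16,19,19,16,19,16,16,3,19,26,11,18],[(1146,[2,5,5,2,5,2,2]),(292,[]),(288,[]),(710,[0,3,3,5,2,2]),(161,[]),(136,[]),(108,[]),(358,[9,2,4,2,5,5,2]),(288,[])],[2,2,5,8,3,5,3,8]),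
  (1,[3,29,11,17,12],[(1210,[]),(288,[])],[0,4,3,4,2,9,3,4]),
  (36,[14,18,17,14,18,16,18,3,19,26,11,18],[(1146,[0,4,3,0,4,2,4]),(288,[]),(1190,[2,2,4,2,5,2,1,4]),(293,[]),(566,[0,5,8,2,5,3,3,5]),(288,[])],[0,8,3,3,9,2,5,2]),
  (1,[3,11,23,16,28],[(1218,[]),(292,[])],[2,2,5,5,8,3,5,8]),
  (37,[16,18,16,15,17,23,17,3,19,26,11,18],[(1146,[2,4,2,1,3,9,3]),(293,[]),(490,[0,3,9,3,4,2]),(37,[]),(52,[]),(89,[]),(45,[]),(486,[1,3,3,5,3,8,2]),(292,[])],[2,2,5,5,5,2,5]),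
  (1,[3,19,10,10],[(1226,[]),(293,[])],[5,3,0,2,4,3,3]),
  (38,[23,17,17,23,17,18,3,19,26,11,18],[(1146,[9,3,3,9,3,4]),(293,[]),(1142,[2,2,9,0,3,5]),(293,[]),(542,[0,3,5,2,8,3,4,2,2]),(292,[])],[2,2,5,5,2,4,2]),
  (1,[3,11,19,11,9],[(1234,[])],[4,3,3,5,9]),
  (38,[14,14,16,18,16,22,17,19,3,19,26,11,18],[(1146,[0,0,2,4,2,8,3,5]),(292,[]),(288,[]),(502,[8,2,1]),(534,[0,2,8,2,1,4,3,3]),(292,[])],[0,3,5,2,8,2,4,2]),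
  (1,[3,7,10,15,17,19],[(1242,[]),(293,[])],[1,4,3,5,3,4,2]),
  (39,[19,16,23,17,18,3,19,26,11,18],[(1146,[5,2,9,3,4]),(292,[]),(288,[]),(958,[0,5,8,1,2,2,2,4]),(292,[]),(686,[2,1,3,5,9,2,2,2]),(288,[])],[0,4,2,2,2,5,8]),
  (1,[3,28,10,16,16,7],[(1250,[]),(288,[])],[3,5,9,2,1]),
  (43,[14,23,16,19,16,23,14,3,19,26,11,18],[(1146,[0,9,2,5,2,9,0]),(292,[]),(288,[]),(1098,[0,0,9,2,9,2,2,4]),(292,[]),(288,[]),(1230,[4,3,0,4,2,9,2,8]),(288,[])],[1,4,3,5,5,5,3,3]),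
  (1,[3,1,11,23,11],[(1258,[]),(292,[]),(288,[])],[1,5,3,8,2,5,2]),
  (12,[14,17,17,19,19,16,19,3,29,26,11,18],[(554,[0,3,3,5,5,2,5]),(293,[]),(850,[1,2,2,5,3,8,2]),(1182,[3,0,5,2,5,2,5,9]),(293,[])],[8,1,2,5,2,5,8]),
  (1,[3,10,28,11,15,3],[(1266,[]),(293,[]),(288,[])],[2,4,3,3,9,2,4]),
  (39,[17,19,17,17,18,7,11,17,7],[(646,[3,5,3,3,4]),(288,[]),(1046,[0,9,3,5,3,5,9,2]),(354,[5,8,2,4,2,2,8]),(120,[]),(160,[]),(136,[]),(104,[])],[0,8,2,5,3,3]),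
  (1,[3,1,7,26,7],[(1274,[]),(288,[])],[0,2,1,3,5,3,4,3,0]),
  (36,[15,15,19,17,17,19,17,17,3,29,26,11,19],[(650,[1,1,5,3,3,5,3,3]),(293,[]),(288,[]),(698,[0,5,5,2,2,2]),(354,[2,8,2,2,2,9,2,5]),(137,[]),(161,[]),(104,[])],[2,2,5,2,4,3,0]),
  (1,[3,1,7,33,11],[(1282,[]),(292,[]),(288,[])],[0,5,3,3,9,3,3]),
  (40,[17,19,17,17,19,16,16,3,29,26,11,19],[(650,[3,5,3,3,5,2,2]),(293,[]),(942,[5,8,2,2,2,8,1,8]),(292,[]),(1150,[0,4,2,4,2,5,2,2])],[3,3,9,2,1,4]),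
  (1,[3,7,11,28,11],[(1290,[])],[1,3,5,5,3,5,5]),
  (11,[14,19,16,16,22,15,16,16,7,26,7],[(454,[0,5,2,2,8,1,2,2]),(292,[]),(638,[0,2,9,3,5,2,2]),(293,[]),(298,[2,2,5,8,3,3,9,2]),(112,[]),(137,[]),(160,[]),(104,[])],[0,5,3,3,4,3,8]),
  (1,[7,10,17,3,18],[(1298,[])],[1,2,4,3,5,2,9,3]),
  (12,[22,17,17,18,7,26,7],[(454,[8,3,3,4]),(546,[1,2,2,4,2,4,2,1]),(288,[]),(1146,[4,2,2,4,2,1,5,2])],[2,4,3,8,1,2]),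
  (1,[3,1,18,16,19,3],[(1306,[]),(293,[])],[0,5,8,1,3,5,8]),
  (6,[16,19,19,16,16,18,16,18,7,9,11,26,7],[(670,[2,5,5,2,2,4,2,4]),(292,[]),(1082,[2,5,5,2,5,2,5,8]),(293,[]),(288,[]),(1094,[0,2,2,8,3,5]),(293,[]),(288,[])],[8,3,5,2,9,3,4]),
  (1,[7,17,7,27,3,7],[(1314,[])],[0,3,5,3,4,3,5,5]),
  (6,[14,16,19,23,7,9,11,26,7],[(670,[0,2,5,9]),(490,[5,3,5,3,5,3,0,9]),(89,[]),(36,[]),(65,[]),(41,[]),(486,[5,3,9,2,4,2,1]),(292,[])],[0,9,3,4,2,2,4]),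
  (1,[3,18,17,7,16,7],[(1322,[]),(288,[])],[8,2,2,9,2,2,4]),
  (12,[15,18,17,19,17,14,19,17,3,19,17,3],[(442,[1,4,3,5,3,0,5,3]),(292,[]),(288,[]),(438,[3,8,1,3,5,3,4,3,5]),(292,[]),(1106,[2,4,2,2,8,2,9]),(293,[])],[8,3,3,5,3,3,8]),
  (1,[3,11,18,27,27],[(1330,[])],[0,3,4,3,3]),
  (14,[17,23,16,16,16,19,16,3,19,27,3],[(606,[3,9,2,2,2,5,2]),(293,[]),(1242,[2,4,2,2,8,3]),(293,[])],[0,5,8,3,3,5,3,5,8]),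
  (1,[3,7,29,17,7,15],[(1338,[])],[2,1,4,3,5,5,5,3]),
  (11,[14,18,16,16,23,14,16,19,3,1,23,11],[(1230,[0,4,2,2,9,0,2,5]),(462,[0,2,8,3,5,8,2,1]),(293,[]),(970,[0,8,1,2,5,2,2,8]),(256,[]),(252,[]),(264,[])],[5,3,3,9,2,4,3,9]),
  (1,[3,29,7,11,26],[(1346,[]),(292,[]),(288,[])],[1,5,2,2,8,3,0]),
  (14,[14,19,16,19,19,16,19,16,3,1,23,11],[(1230,[0,5,2,5,5,2,5,2]),(1234,[0,5,9,2,2,4,3,9])],[2,4,2,1,4,2,5,2]),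
  (1,[3,11,29,26,32],[(1354,[])],[1,5,3,0,5,3,4,2]),
  (36,[16,22,17,18,17,18,17,18,3,1,23,11],[(1230,[2,8,3,4,3,4,3,4]),(293,[]),(288,[]),(618,[0,4,3,3,4,3,8]),(136,[]),(160,[]),(112,[]),(104,[]),(334,[0,3,9,3,3,8]),(293,[]),(288,[])],[3,8,2,4,2,1,5,8]),
  (1,[3,1,28,10,13],[(1362,[]),(292,[]),(288,[])],[0,5,3,5,3,9,2]),
  (36,[17,19,22,17,18,3,1,23,11],[(1230,[3,5,8,3,4]),(1022,[0,2,8,3,5,8,2,1,4]),(330,[2,2,4,2,8,2,4,3]),(108,[]),(161,[]),(108,[])],[3,0,9,3,8]),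
  (1,[3,1,7,16,7],[(1370,[]),(292,[]),(288,[])],[0,9,2,4,2,1,3,4]),
  (37,[14,16,16,16,23,16,3,1,23,11],[(1230,[0,2,2,2,9,2]),(918,[3,3,5,5,2,2]),(578,[2,9,3,3,5,3,4]),(293,[]),(288,[])],[3,0,9,2,4,2,4]),
  (1,[3,11,19,27,27],[(1378,[]),(292,[]),(288,[])],[3,5,8,2,4,3]),
  (37,[15,19,16,19,3,1,23,11],[(1230,[1,5,2,5]),(293,[]),(1094,[0,5,2,4,2,2,8]),(542,[0,3,0,5]),(292,[])],[1,2,9,3,3,5,2]),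
  (38,[14,17,17,18,17,22,3,1,23,11],[(1230,[0,3,3,4,3,8]),(510,[0,3,5,5,8,2,5,2]),(534,[3,9,3,3,9])],[2,1,3,9,3,5,2,9]),
  (1,[3,11,18,7],[(1390,[])],[2,5,5,2,2,5,2]),
  (41,[19,17,17,18,17,17,19,19,3,1,23,11],[(1230,[5,3,3,4,3,3,5,5]),(292,[]),(1106,[4,3,8]),(574,[2,5,9,2,8,2]),(292,[])],[1,2,2,2,5]),
  (1,[3,1,23,10,10],[(1398,[]),(292,[]),(288,[])],[5,2,8,2,1,2]),
  (7,[14,17,22,15,17,22,16,3,11,19,27,27],[(1378,[0,3,8,1,3,8,2]),(292,[]),(1402,[0,8,2,5,2,8,3]),(292,[]),(594,[5,5,9,3,4]),(293,[])],[0,9,2,5,3,3,5,9]),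
  (1,[3,7,26,18,3,27],[(1406,[]),(293,[]),(288,[])],[1,2,9,2,4,2]),
  (12,[17,17,18,17,18,16,22,3,11,19,27,27],[(1378,[3,3,4,3,4,2,8]),(1258,[1,1,3,5,3,3]),(293,[]),(288,[]),(1098,[5,8,3,0,5]),(293,[]),(288,[])],[3,8,2,2,5,2,8,2]),
  (1,[3,7,15,28,26,10],[(1414,[]),(293,[]),(288,[])],[0,0,2,8,1,3,8]),
  (9,[15,17,19,22,16,15,19,16,3,7,29,27],[(1122,[1,3,5,8,2,1,5,2]),(598,[2,8,2,2,8,2]),(442,[2,9,3,4,3,5,3,4]),(288,[])],[3,8,2,5,3,3,8]),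
  (10,[15,18,16,23,17,18,17,18,3,7,10,15,17,19],[(1242,[1,4,2,9,3,4,3,4]),(1098,[5,3,5,3,5,3,0,4]),(292,[]),(288,[]),(1030,[5,2,8,3,5,5]),(293,[]),(288,[])],[8,2,9,2,5,2,4]),
  (1,[3,7,16,19,26,22],[(1426,[]),(293,[])],[0,9,3,3,8,3,5,3]),
  (17,[14,19,17,17,19,23,14,17,3,10,29,11],[(894,[0,5,3,3,5,9,0,3]),(950,[1,2,4,3,5,2,5]),(293,[]),(288,[])],[5,5,3,3,4,3,9,2]),
  (1,[3,1,23,11,15,7],[(1434,[])],[3,4,3,4,3,0,2]),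
  (10,[16,15,16,18,17,17,18,3,7,16,19],[(1002,[2,1,2,4,3,3,4]),(120,[]),(161,[]),(104,[]),(374,[5,2,2,4,2]),(292,[]),(288,[]),(1178,[3,5,2,1,2,5,2,5]),(292,[]),(288,[])],[3,4,3,3,8,2,4]),
  (1,[3,29,3,11,15],[(1442,[]),(293,[])],[5,2,2,9,3,3,8]),
  (37,[16,15,17,18,16,15,18,3,7,16,19],[(1002,[2,1,3,4,2,1,4]),(1274,[8,1,2,4,2,4,2]),(288,[]),(1078,[8,1,3,5,8,1]),(293,[]),(288,[])],[2,4,2,9,0,2]),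
  (1,[3,28,10,13],[(1450,[]),(288,[])],[0,2,8,3,3,8,2,2]),
  (2,[14,16,18,17,19,16,15,16,3,18,3,28,11],[(1194,[0,2,4,3,5,2,1,2]),(1102,[2,1,4,2,9,3,3]),(293,[]),(1198,[0,2,9,2,4,2,5,2]),(288,[])],[2,2,8,3,3,9,3,5]),
  (36,[14,16,15,19,17,18,16,18,3,18,3,28,11],[(1194,[0,2,1,5,3,4,2,4]),(292,[]),(1130,[0,4,3,4,3,5,8,2]),(161,[]),(116,[]),(104,[]),(358,[5,5,3,3,9,2,1]),(293,[]),(288,[])],[9,2,9,3,5,3,5,9]),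
  (1,[3,1,19,11,15],[(1462,[]),(288,[])],[1,4,2,2,2,5,3]),
  (37,[18,16,19,16,15,19,22,3,18,3,28,11],[(1194,[4,2,5,2,1,5,8]),(1202,[1,5,3,5,8,3,0,2]),(546,[0,0,2,5,3,3,8,3]),(293,[]),(288,[])],[0,3,3,4,3,5,3,8]),
  (1,[3,10,23,11,19],[(1470,[]),(292,[]),(288,[])],[4,3,8,2,1,4,3,3]),
  (37,[14,19,22,15,17,19,17,3,18,3,28,11],[(1194,[0,5,8,1,3,5,3]),(292,[]),(288,[]),(1314,[1,1,2,5,2,4,3,3]),(622,[0,9,2,2,5,3,8,1])],[2,1,5,2,5,2,5,8]),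
  (1,[3,1,7,10],[(1478,[]),(288,[])],[1,3,0,5,3,5,3]),
  (6,[16,19,16,19,16,18,3,29,11,17,12],[(1210,[2,5,2,5,2,4]),(438,[1,2,2,4,3,5,3]),(293,[]),(306,[2,2,8,3,5,9,2,8]),(120,[]),(160,[]),(104,[])],[0,5,2,9,3,4]),
  (1,[3,7,10,33,10],[(1486,[]),(293,[])],[5,3,4,2,1,3,5]),
  (36,[14,14,14,19,16,19,17,17,3,29,11,17,12],[(1210,[0,0,0,5,2,5,3,3]),(1286,[4,2,5,2,2,9]),(112,[]),(137,[]),(160,[]),(104,[]),(706,[2,1,5,2,4,3]),(288,[])],[2,1,3,4,2,1,4,3]),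
  (1,[3,7,26,29,27,10],[(1494,[]),(293,[])],[1,2,2,2,8,3,3,9]),
  (36,[19,17,17,22,17,19,17,19,3,29,10,27,13],[(922,[5,3,3,8,3,5,3,5]),(293,[]),(1202,[3,3,8,2,1,8]),(292,[]),(1294,[8,3,4,3,4,3,5]),(293,[])],[0,3,4,3,4,3,5,8]),
  (1,[3,1,11,29,3,16],[(1502,[]),(292,[])],[2,5,9,3]),
  (2,[15,19,17,18,17,19,3,1,18,26,7],[(1206,[1,5,3,4,3,5]),(292,[]),(1190,[4,2,8,3,0,9,2]),(292,[]),(288,[]),(1186,[2,5,2,5,8,3,3,4]),(293,[])],[0,0,2,4,3,3,5,8]),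
  (1,[3,1,23,11,28,3],[(1510,[]),(293,[])],[2,5,2,2,8,2,1]),
  (3,[14,16,19,19,23,16,19,3,1,18,26,7],[(1206,[0,2,5,5,9,2,5]),(292,[]),(1494,[3,9,0,2,2,5]),(394,[0,3,8,3,9,3]),(256,[]),(252,[]),(264,[]),(249,[])],[2,8,3,5,8,1,3]),
  (1,[3,10,19,11,11],[(1518,[])],[8,2,4,3,0,4,3]),
  (3,[18,16,19,23,17,19,3,1,18,26,7],[(1206,[4,2,5,9,3,5]),(292,[]),(1190,[0,2,4,3,4,3,4,3]),(293,[]),(494,[0,5,5,5,3,5,9]),(288,[])],[2,4,3,4,3,5,3]),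
  (1,[3,18,3,27,7],[(1526,[]),(288,[])],[3,3,5,2,8,2,4,3]),
  (4,[14,22,16,15,16,18,16,16,3,1,18,26,7],[(1206,[0,8,2,1,2,4,2,2]),(710,[3,5,8,2,5,8,2]),(161,[]),(136,[]),(108,[]),(326,[3,0,2,4,2,4,3,3]),(288,[])],[0,3,4,2,5,3,4]),
  (1,[7,26,7,17,7],[(1534,[]),(288,[])],[3,4,2,4,2,1,3]),
  (9,[17,18,17,18,16,16,3,1,18,26,7],[(1206,[3,4,3,4,2,2]),(293,[]),(1510,[4,2,5,8,2,5]),(293,[]),(1114,[0,8,1,3,4,3,0]),(292,[])],[2,2,5,5,2,8]),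
  (1,[3,19,7,11,11],[(1542,[]),(293,[]),(288,[])],[0,3,9,2,5,8,3,9]),
  (12,[18,16,22,15,17,22,17,3,1,18,26,7],[(1206,[4,2,8,1,3,8,3]),(293,[]),(1510,[3,5,8,2,2,4,3]),(293,[]),(1326,[2,5,2,8,3]),(292,[]),(288,[])],[4,3,9,3,5,2,9]),
  (1,[3,11,19,7,26,18],[(1550,[]),(292,[]),(288,[])],[0,0,2,4,2,5,5]),
  (39,[14,19,22,17,23,17,19,3,1,18,26,7],[(1206,[0,5,8,3,9,3,5]),(958,[3,8,2,1,5,3,5,8]),(292,[]),(482,[5,3,5,2,2,5,9])],[8,1,2,2,2,4,2]),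
  (1,[3,19,10,16,18],[(1558,[]),(288,[])],[1,1,5,2,5,3]),
  (6,[19,16,18,16,18,17,18,3,28,11,17],[(814,[5,2,4,2,4,3,4]),(292,[]),(522,[5,2,5,5,5,2]),(292,[]),(288,[]),(1446,[0,2,2,2,9,2,2,2,9])],[3,3,5,2,1,5,3]),
  (9,[14,17,19,17,23,17,22,3,28,11,17],[(814,[0,3,5,3,9,3,8]),(292,[]),(838,[2,5,9,2,9,0,2]),(292,[]),(954,[0,5,2,8,3,8,2,5,2]),(292,[])],[2,9,2,2,4,3,5,9]),
  (1,[3,19,11,14,10],[(1570,[]),(288,[])],[1,8,3,4,3,5,3,0]),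
  (6,[18,16,19,22,17,19,17,17,3,29,26,11,15],[(830,[4,2,5,8,3,5,3,3]),(293,[]),(1402,[1,3,3,4,3,5,3,5]),(1066,[2,1,4,2,4,2,5]),(288,[])],[0,2,5,5,9,2,5,2]),
  (1,[3,7,10,27,19],[(1578,[]),(288,[])],[0,2,1,5,3,4,3,8]),
  (6,[22,17,14,19,16,15,19,3,29,26,11,15],[(830,[8,3,0,5,2,1,5]),(292,[]),(762,[0,0,3,4,2,2,5,2]),(293,[]),(1182,[3,0,5,3,5,3,0,4]),(292,[])],[0,0,2,8,1,3,9,2]),
  (1,[3,7,10,14,19,11,14],[(1586,[]),(288,[])],[4,2,2,9,0,2]),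
  (7,[14,14,19,16,16,22,16,3,29,26,11,15],[(830,[0,0,5,2,2,8,2]),(288,[]),(974,[0,5,3,3,4,2,1]),(293,[]),(288,[]),(886,[2,8,2,5,8,2,2,2]),(292,[]),(288,[])],[5,2,1,3,4,3,5]),
  (1,[3,1,7,10,22,10],[(1594,[]),(288,[])],[1,4,3,5,5,5,3]),
  (12,[16,16,16,23,16,19,16,3,29,26,11,15],[(830,[2,2,2,9,2,5,2]),(288,[]),(1402,[0,0,3,3,5,5,2,2]),(292,[]),(730,[0,0,2,4,3,3,5,5,5]),(293,[]),(288,[])],[8,2,4,2,5,2,2]),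
  (1,[3,7,11,29,16],[(1602,[]),(293,[])],[5,3,5,8,1,2,5]),
  (12,[15,16,18,16,19,22,15,3,29,26,11,15],[(830,[1,2,4,2,5,8,1]),(293,[]),(288,[]),(898,[5,8,2,2,2,5,5,8]),(293,[]),(426,[1,5,3,0,5,2,5,9]),(293,[]),(288,[])],[2,2,8,3,3,5,8]),
  (1,[3,7,11,28,11,13],[(1610,[]),(293,[]),(288,[])],[4,3,3,4,2,8,3]),
  (12,[14,19,17,19,19,19,17,3,29,26,11,15],[(830,[0,5,3,5,5,5,3]),(798,[3,5,5,3,0,4,3]),(292,[]),(288,[]),(1538,[0,5,3,3,5,3,5]),(292,[])],[3,3,4,2,5,3,4])]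
theorem hD2 : allD2 lk B KW SW F A RL [] D2 268 = true := by decide +kernel
def D3 : List (ℕ × Word × List (ℕ × Word) × Word) := [(1,[3,7,11,16,22,11],[(1618,[]),(293,[])],[9,2,4,2,2,2,5]),
  (13,[14,19,17,14,19,23,16,3,29,26,11,15],[(830,[0,5,3,0,5,9,2]),(292,[]),(434,[4,3,9,2,4,3,3]),(293,[]),(288,[]),(1182,[3,4,2,4,3,4]),(292,[]),(288,[])],[1,3,8,2,4,3,3,5]),
  (1,[3,7,17,28,27,3],[(1626,[]),(288,[])],[2,8,3,9,0,2,5]),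
  (12,[17,18,16,18,16,19,16,19,3,28,10,27],[(822,[3,4,2,4,2,5,2,5]),(292,[]),(834,[2,2,2,5,5,5]),(1590,[0,9,2,9,3,4,3,0,4])],[0,2,2,5,9,2,2,8]),
  (1,[3,7,11,11,29,16],[(1634,[]),(293,[]),(288,[])],[5,8,3,0,9]),
  (12,[14,23,16,19,16,16,16,22,3,28,10,27],[(822,[0,9,2,5,2,2,2,8]),(292,[]),(786,[1,5,3,4,3,9,2,5]),(1446,[2,9,2,5,8]),(292,[])],[0,2,1,5,3]),
  (1,[3,1,7,17,22,10,12],[(1642,[]),(293,[])],[0,0,2,5,2,2,5]),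
  (12,[23,16,16,18,16,19,16,3,28,10,27],[(822,[9,2,2,4,2,5,2]),(292,[]),(834,[0,2,8,3,5,5,8,2]),(1630,[1,3,8,2,1,5,3,5])],[3,8,2,2,5,2,1]),
  (1,[7,17,7,27,3,18],[(1650,[])],[0,8,2]),
  (12,[17,17,19,17,19,23,16,3,28,10,27],[(822,[3,3,5,3,5,9,2]),(292,[]),(834,[2,5,2,8,3,5,5]),(1598,[0,8,2,2,2,5,8,1]),(288,[])],[1,3,0,4,3,5,8]),
  (1,[3,19,26,19,3,1],[(1658,[]),(293,[]),(288,[])],[4,2,2,2,5,8,1,2]),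
  (6,[19,19,16,16,18,16,16,3,29,16,10,29],[(818,[5,5,2,2,4,2,2]),(314,[2,1,5,8,3,4,3,5]),(160,[]),(137,[]),(1370,[0,0,2,9,2,4,2,5]),(292,[])],[3,0,4,3,5,8,3,3]),
  (1,[3,11,19,17,7],[(1666,[]),(288,[])],[2,2,5,2,8,2,1,2]),
  (9,[18,16,19,16,15,22,3,29,16,10,29],[(818,[4,2,5,2,1,8]),(870,[3,5,9,2,8,2,9]),(293,[]),(288,[]),(1166,[1,4,2,2,5,2,8]),(292,[]),(288,[])],[2,1,4,2,2,2,4]),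
  (1,[3,19,27,11,19,3],[(1674,[]),(288,[])],[2,4,3,0,2,5]),
  (12,[15,17,14,19,17,3,29,16,10,29],[(818,[1,3,0,5,3]),(870,[2,2,4,2,8,1,8]),(293,[]),(288,[]),(1442,[0,2,2,2,4,3,0]),(292,[]),(288,[])],[0,2,5,2,1,5,2,4]),
  (1,[3,19,7,16,7,28],[(1682,[]),(292,[])],[3,5,5,3,4,3]),
  (13,[19,16,16,18,17,19,3,29,16,10,29],[(818,[5,2,2,4,3,5]),(870,[5,3,0,4,2,1]),(292,[]),(288,[]),(1654,[0,2,5,8,2,4,2]),(293,[]),(288,[])],[4,3,4,2,9,3,4]),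
  (1,[3,23,10,16,19],[(1690,[]),(293,[])],[1,2,5,9,3,4,3,9]),
  (3,[18,17,17,19,19,17,19,7,9,26,7],[(306,[4,3,3,5,5,3,5]),(112,[]),(161,[]),(136,[]),(104,[]),(1486,[5,5,8,3,5,3]),(288,[]),(1290,[3,5,2,2,5,2,2]),(292,[]),(288,[])],[3,4,3,5,2,9,3,4]),
  (1,[3,23,3,10,28,16],[(1698,[])],[2,5,9,2,5,2,2]),
  (8,[17,19,23,16,19,16,22,7,9,26,7],[(306,[3,5,9,2,5,2,8]),(136,[]),(161,[]),(112,[]),(1486,[3,9,3,4,2,5]),(288,[]),(1290,[8,3,5,2,2,4,2,2]),(293,[])],[9,2,5,3,9,2,5]),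
  (1,[3,1,23,7,16,18],[(1706,[]),(292,[])],[1,2,4,2,2,4,3]),
  (9,[19,16,15,18,16,19,7,11,26,7],[(738,[5,2,1,4,2,5]),(288,[]),(1134,[3,3,5,8,1,2,5,2]),(292,[]),(1546,[0,2,2,2,5,2,5,9]),(292,[])],[1,2,2,8,3,4,2,8]),
  (1,[3,1,18,26,18,3],[(1714,[]),(293,[]),(288,[])],[0,4,2,4,3,3,9]),
  (12,[19,17,19,16,16,18,7,11,26,7],[(738,[5,3,5,2,2,4]),(1134,[2,5,3,0,4,3]),(293,[]),(288,[]),(1038,[0,3,9,2,1,4,3,8]),(288,[])],[0,5,5,2,2,4,3,5]),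
  (1,[3,7,26,19,7,11],[(1722,[]),(292,[])],[2,5,8,2,1,8]),
  (12,[14,18,17,18,16,19,16,23,7,11,26,7],[(738,[0,4,3,4,2,5,2,9]),(970,[5,3,3,4,3,9]),(257,[]),(252,[]),(248,[]),(1518,[0,2,2,4,2,5,2,9]),(293,[]),(288,[])],[3,4,2,5,2,2,2]),
  (1,[3,1,28,10,9,7,26],[(1730,[]),(292,[])],[9,2,2,5,2,9,2]),
  (12,[18,17,19,17,22,15,16,3,10,29,26,11,32],[(774,[4,3,5,3,8,1,2]),(814,[8,2,2,4,2,1]),(292,[]),(288,[]),(1670,[2,8,1,3,3,5]),(288,[])],[2,5,2,5,3,4,3,4]),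
  (1,[3,1,7,10,17,7],[(1738,[])],[0,5,3,0,4,2]),
  (9,[16,18,16,19,16,19,19,7,27,7],[(498,[2,4,2,5,2,5,5]),(638,[2,1,4,3,0,4,3,8]),(293,[]),(1610,[0,0,3,3,4,3,9]),(293,[])],[1,2,4,3,3,4,2]),
  (1,[3,19,27,7,23],[(1746,[]),(288,[])],[0,2,2,5,3,5,9]),
  (12,[15,15,19,17,17,19,7,27,7],[(498,[1,1,5,3,3,5]),(386,[1,3,5,3,8,2,4]),(257,[]),(249,[]),(278,[8,2,1,8,2]),(265,[])],[1,3,8,1,3,5,8,3]),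
  (1,[3,1,10,28,3,11],[(1754,[]),(288,[])],[1,5,3,5,3,9,3,4]),
  (12,[16,16,22,16,19,16,19,17,18,7,27,7],[(498,[2,2,8,2,5,2,5,3,4]),(490,[4,3,0,2,4,2,5]),(44,[]),(89,[]),(56,[]),(45,[]),(486,[0,0,3,3,4,3,3,8]),(292,[])],[3,5,5,3,0,4]),
  (1,[3,11,22,10,22,7],[(1762,[]),(288,[])],[0,5,3,3,9,2,2]),
  (11,[19,16,19,17,17,23,14,3,23,10,29,27],[(410,[5,2,5,3,3,9,0]),(256,[]),(248,[]),(414,[1,3,5,3,5,9,3]),(292,[]),(422,[0,5,8,3,4,3,3,4]),(293,[])],[1,3,3,9,2,4]),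
  (1,[3,18],[(1770,[]),(292,[])],[0,0,4,2,2,2,4]),
  (3,[14,14,17,18,16,23,17,7,11,15,16,7],[(734,[0,0,3,4,2,9,3]),(293,[]),(1398,[0,2,2,2,4,3,8,1]),(1258,[8,1,2,4,2,5,2,8]),(292,[]),(288,[])],[0,3,8,2,4,2,1,5]),
  (1,[3,7,11,22,16,29],[(1778,[])],[0,2,4,3,5,2,4]),
  (6,[17,17,19,17,19,16,22,7,11,15,16,7],[(734,[3,3,5,3,5,2,8]),(462,[5,5,9]),(1194,[3,0,5,2,4,3,4,3]),(293,[]),(288,[])],[4,2,2,5,2,8,1]),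
  (1,[3,29,11,26,3],[(1786,[])],[3,5,8,3,4,2]),
  (9,[16,23,17,18,17,17,19,7,11,15,16,7],[(734,[2,9,3,4,3,3,5]),(674,[8,2,1,8,3]),(288,[]),(1326,[1,2,2,5,2,4,2])],[4,3,8,2,4,2,1]),
  (1,[3,7,11,26,28,16,32],[(1794,[]),(293,[])],[0,5,2,2,8,3,5]),
  (9,[19,17,14,18,16,15,7,11,15,16,7],[(734,[5,3,0,4,2,1]),(288,[]),(922,[3,8,2,2,5,9,2]),(293,[]),(958,[8,3,3,5,3,5,3])],[9,2,5,8,3,4,3]),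
  (1,[3,10,13,28,10],[(1802,[]),(292,[])],[2,2,5,2,8,2,2]),
  (11,[15,16,16,16,19,17,18,17,7,11,15,16,7],[(734,[1,2,2,2,5,3,4,3]),(293,[]),(1474,[0,2,1,8,3,3,4,3]),(293,[]),(1238,[2,4,2,1,4,2,2])],[3,0,5,9,2,4,2,2]),
  (1,[3,18,27,28,3,28],[(1810,[]),(292,[])],[1,2,2,5,8,2,1]),
  (13,[18,16,15,19,16,23,17,7,11,15,16,7],[(734,[4,2,1,5,2,9,3]),(288,[]),(922,[0,4,2,2,2,5,9]),(293,[]),(288,[]),(1354,[2,4,3,0,2])],[1,4,3,0,5,3,4]),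
  (1,[3,19,17,28,3,5],[(1818,[]),(292,[]),(288,[])],[2,5,3,9,2,2]),
  (6,[14,16,22,17,22,16,15,7,10,26,7,5],[(770,[0,2,8,3,8,2,1]),(526,[1,2,5,2,9,2]),(293,[]),(1390,[5,2,4,3,3,9,2,4])],[2,8,2,2,9,2,4,2]),
  (1,[3,11,28,7,32,16],[(1826,[])],[5,2,5,2,8,3,9]),
  (10,[14,17,17,23,16,19,17,23,7,10,26,7,5],[(770,[0,3,3,9,2,5,3,9]),(288,[]),(938,[1,3,3,5,2,8,1]),(252,[]),(265,[]),(257,[]),(926,[2,5,2,9,2,4,2]),(293,[])],[0,2,5,5,2,2,9,2]),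
  (1,[3,11,28,3,26,11],[(1834,[])],[2,1,3,5,3,4,2,2]),
  (6,[14,22,16,18,16,16,23,14,7,16,7,5],[(474,[0,8,2,4,2,2,9,0]),(292,[]),(346,[0,2,1,4,3,5,3,5]),(160,[]),(137,[]),(116,[]),(104,[]),(706,[8,1,2,2,2,8]),(292,[])],[0,4,2,1,5,2,9,2]),
  (1,[3,7,5,29,26],[(1842,[]),(288,[])],[0,4,3,8,2,1,5,8]),
  (9,[15,15,16,16,19,17,17,7,16,7,5],[(474,[1,1,2,2,5,3,3]),(292,[]),(346,[1,2,5,2,2,2,4,3]),(137,[]),(160,[]),(112,[]),(104,[]),(706,[3,3,9,2,2,5,3])],[0,2,8,2,1,4,2,2]),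
  (1,[3,7,17,18,16,16],[(1850,[]),(292,[]),(288,[])],[4,2,1,8,2,2]),
  (9,[17,23,17,19,17,18,17,18,7,16,7,5],[(474,[3,9,3,5,3,4,3,4]),(292,[]),(288,[]),(1846,[2,9,3,4,3,0,4,2]),(1134,[0,4,3,0,9,2,2]),(288,[])],[3,4,3,9,0,2,5]),
  (1,[3,7,17,22,10],[(1858,[]),(293,[])],[5,3,5,2,2,5,8]),
  (11,[14,14,16,19,17,17,19,23,7,16,7,5],[(474,[0,0,2,5,3,3,5,9]),(293,[]),(346,[0,5,2,1,4,3,5,8]),(120,[]),(161,[]),(136,[]),(104,[]),(1370,[3,0,5,3,5,8,2]),(293,[])],[2,4,3,3,5,2,1]),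
  (1,[3,7,26,28,10,32],[(1866,[]),(293,[]),(288,[])],[3,4,3,0,4,2,1]),
  (13,[14,18,16,16,16,19,19,17,7,16,7,5],[(474,[0,4,2,2,2,5,5,3]),(292,[]),(866,[2,2,2,5,3,5,3,4]),(293,[]),(288,[]),(1778,[1,3,0,5,3,5,3,0]),(292,[])],[3,5,9,2,2,8,3]),
  (1,[3,1,23,16,7,27],[(1874,[])],[0,0,4,2,4,2,2,2,5]),
  (13,[15,16,19,16,15,19,17,19,7,16,7,5],[(474,[1,2,5,2,1,5,3,5]),(758,[8,3,4,2,9,0,2]),(293,[]),(502,[0,3,3,4,3,0,5,2]),(293,[])],[0,9,3,3,4,2,2]),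
  (1,[3,11,22,7,10,18],[(1882,[]),(288,[])],[0,2,2,5,2,5,2]),
  (8,[17,14,16,19,17,19,17,3,28,11,32,16],[(562,[3,0,2,5,3,5,3]),(288,[]),(1458,[1,2,2,5,2,4,3]),(293,[]),(288,[]),(1470,[0,2,5,2,8,3,8,1,3]),(292,[])],[2,2,4,2,2,5]),
  (1,[3,1,28,10,18,7,11],[(1890,[]),(293,[])],[2,2,9,3]),
  (12,[17,17,19,23,17,19,22,16,7,17,7],[(322,[3,3,5,9,3,5,8,2]),(160,[]),(104,[]),(137,[]),(1282,[3,3,5,3,5,3,9,2]),(654,[0,5,8,1,3,5,5]),(293,[]),(288,[])],[0,2,1,8,3,4,3,5,2]),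
  (1,[3,29,7,26],[(1898,[]),(292,[]),(288,[])],[1,5,2,5,2,1]),
  (38,[14,18,16,19,16,15,17,18,7,17,7],[(322,[0,4,2,5,2,1,3,4]),(136,[]),(161,[]),(1486,[0,3,0,5,2,9,0,2]),(293,[]),(288,[]),(1294,[2,8,2,8,2,4,3]),(293,[])],[3,8,1,2,4,2]),
  (1,[3,7,10,29,27,11],[(1906,[]),(293,[])],[0,3,3,5,2,9,3,5]),
  (6,[14,19,16,22,16,19,16,22,7,17,7,11],[(622,[0,5,2,8,2,5,2,8]),(292,[]),(482,[3,5,2,8,3,5,9,3]),(292,[]),(1802,[9,3,3,4,3,4]),(288,[])],[8,2,5,9,3,5]),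
  (1,[3,23,11,18,3],[(1914,[]),(288,[])],[2,1,4,3,5,8,1,2]),
  (13,[14,17,18,17,17,19,17,23,7,17,7,11],[(622,[0,3,4,3,3,5,3,9]),(292,[]),(518,[3,0,5,2,8,1,3,5]),(293,[]),(288,[]),(1570,[3,3,4,3,0,4,3]),(293,[]),(288,[])],[5,3,5,3,9,0,3]),
  (1,[3,7,11,19,28,26],[(1922,[])],[8,3,5,3,5,8]),
  (13,[16,23,14,17,19,17,17,7,17,7,11],[(622,[2,9,0,3,5,3,3]),(292,[]),(690,[0,3,4,2]),(293,[]),(288,[]),(1578,[2,8,3,4,2,8,2,1]),(288,[])],[2,2,4,3,9,2,4]),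
  (1,[3,1,7,27,22,11,13],[(1930,[]),(288,[])],[2,2,8,3,4,2,2,9]),
  (36,[14,19,16,16,16,18,17,18,7,17,7,11],[(622,[0,5,2,2,2,4,3,4]),(293,[]),(288,[]),(1310,[3,0,4,2,1,4,3]),(1066,[2,5,2,8,2,2,2,4]),(293,[]),(288,[])],[4,3,5,3,0,4,2,2]),
  (1,[3,7,17,32,11,11],[(1938,[])],[4,3,8,3,3,9,3]),
  (4,[14,18,17,22,16,18,17,14,3,23,11],[(1198,[0,4,3,8,2,4,3,0]),(293,[]),(1614,[5,2,8,2,5,8,2]),(288,[]),(698,[1,1,5,2,5,2,5]),(292,[])],[5,2,4,2,2,9,2,1]),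
  (1,[3,11,28,23,10],[(1946,[])],[5,2,5,3,9,3,4]),
  (8,[16,16,16,18,16,15,16,19,3,23,11],[(1198,[2,2,2,4,2,1,2,5]),(288,[]),(1918,[2,2,8,3,3,4,2,8]),(1502,[0,5,8,2,4,2]),(288,[])],[3,0,5,3,4,3,3]),
  (1,[3,11,29,26,19,3],[(1954,[])],[1,4,3,3,5,3,8,2]),
  (9,[14,14,23,17,18,3,23,11],[(1198,[0,0,9,3,4]),(542,[1,2,2,4,2,1,4,3,3]),(288,[]),(1354,[3,3,9,2,4,3,8]),(293,[])],[1,2,2,5,2,5,8,2]),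
  (1,[7,16,3,28,27],[(1962,[])],[2,2,8,1,2,2,2,5]),
  (9,[14,22,15,17,19,22,17,3,23,11],[(1198,[0,8,1,3,5,8,3]),(542,[2,2,2,4,2,1,8,3]),(558,[0,0,2,5,3,5,3]),(292,[])],[5,5,3,3,4,3,5]),
  (1,[3,1,28,11,15,7],[(1970,[])],[1,3,3,4,3,5,3,0]),
  (9,[16,19,17,18,16,15,17,18,3,23,11],[(1198,[2,5,3,4,2,1,3,4]),(542,[3,5,5,3,3,4,2]),(292,[]),(288,[]),(1358,[0,3,3,9,2,4]),(293,[])],[1,8,3,5,3,4,3,0]),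
  (1,[3,10,23,7,11],[(1978,[]),(292,[])],[3,5,3,0,5,3,3,4]),
  (36,[15,22,17,18,17,19,17,14,3,23,11],[(1198,[1,8,3,4,3,5,3,0]),(292,[]),(1434,[2,4,3,3,4,3,9,2]),(293,[]),(570,[0,8,2,5,2,8]),(293,[]),(288,[])],[9,2,1,4,3,5,3]),
  (1,[7,16,7,27,10],[(1986,[])],[0,5,9,2,8,1,3,4]),
  (36,[16,15,18,16,18,16,19,16,3,23,11],[(1198,[2,1,4,2,4,2,5,2]),(293,[]),(288,[]),(1326,[2,2,4,2,5,2,4]),(646,[3,3,4,3,5,2,1,3])],[1,2,2,4,2,4,2]),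
  (1,[3,1,10,28,10,9,7],[(1994,[]),(292,[]),(288,[])],[1,3,5,5,8,2,5]),
  (37,[14,14,18,17,18,17,17,19,3,23,11],[(1198,[0,0,4,3,4,3,3,5]),(293,[]),(288,[]),(1302,[2,5,2,4,2,1,3]),(358,[0,0,9,2,4,2,8,3,4]),(293,[]),(288,[])],[0,0,2,2,2,5,2,9]),
  (1,[3,10,28,23,10],[(2002,[]),(292,[]),(288,[])],[2,9,3,3,5,8,3]),
  (37,[15,18,17,23,17,17,3,23,11],[(1198,[1,4,3,9,3,3]),(1982,[5,3,3,5,3,5,9]),(1230,[1,5,2,5,2,5,8,2])],[0,5,2,2,4,2]),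
  (1,[3,7,17,19,27,23],[(2010,[])],[0,0,2,4,2,8,3,8]),
  (38,[14,17,23,16,22,15,3,23,11],[(1198,[0,3,9,2,8,1]),(292,[]),(954,[0,3,5,8,2,2,2,4]),(622,[3,0,4,3,5,8]),(293,[]),(288,[])],[2,2,5,2,2,4,2,2]),
  (1,[3,1,7,9,26,10],[(2018,[])],[1,2,4,2,5,9,3,8]),
  (39,[16,23,17,19,17,19,17,19,3,23,11],[(1198,[2,9,3,5,3,5,3,5]),(288,[]),(1786,[2,8,3,5,5,8,2]),(686,[0,0,2,4,3,9,2,4])],[4,3,3,4,3,4]),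
  (1,[3,19,11,15,7],[(2026,[])],[2,4,3,0,4,2,9,0]),
  (2,[17,18,17,17,22,16,3,23,7,11,11],[(1566,[3,4,3,3,8,2]),(814,[8,3,9,3]),(292,[]),(1670,[1,4,2,2,2,5,8]),(293,[])],[5,8,2,2,2,5,8,3]),
  (1,[3,1,7,17,19,10,15],[(2034,[])],[4,2,5,2,2,4]),
  (8,[15,16,18,17,17,19,16,23,3,23,7,11,11],[(1566,[1,2,4,3,3,5,2,9]),(292,[]),(288,[]),(1998,[1,8,3,5,3,5,3,3]),(974,[5,2,4,2,2,5,5])],[4,2,1,5,3,5,3,5]),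
  (1,[3,7,10,29,11,26],[(2042,[]),(292,[]),(288,[])],[0,3,3,4,2,9]),
  (9,[18,17,19,16,22,15,3,23,7,11,11],[(1566,[4,3,5,2,8,1]),(814,[8,3,5,3,3,5,2,9]),(1694,[2,2,2,5,3,0,2,8]),(288,[])],[1,5,3,3]),
  (1,[3,7,18,11,26,29],[(2050,[])],[5,2,1,4,3,3,5]),
  (9,[14,17,19,19,19,16,22,3,23,7,11,11],[(1566,[0,3,5,5,5,2,8]),(293,[]),(1854,[0,3,8,3,3,9]),(292,[]),(288,[]),(1030,[1,5,3,5,3,3,9]),(293,[]),(288,[])],[8,2,2,4,2,2,8]),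
  (1,[3,7,5,11,17],[(2058,[]),(292,[]),(288,[])],[0,5,5,3,3,5]),
  (36,[19,17,19,16,16,23,14,3,23,7,11,11],[(1566,[5,3,5,2,2,9,0]),(662,[0,2,1,3,4,3,3,5]),(1890,[0,3,5,5,3,3,4]),(292,[]),(288,[])],[0,3,5,3,8,3,4]),
  (1,[3,11,19,17,19,3],[(2066,[])],[1,8,2,2,4,2,2,2]),
  (38,[16,19,17,14,16,19,3,23,7,11,11],[(1566,[2,5,3,0,2,5]),(288,[]),(1570,[2,5,2,4,3,3]),(722,[2,2,2,4,3,4,3,0]),(292,[]),(288,[])],[9,2,8,1,3,4]),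
  (1,[3,10,29,16,3,32],[(2074,[])],[0,4,2,2,5,3,5,8]),
  (39,[16,16,19,17,19,22,17,3,23,7,11,11],[(1566,[2,2,5,3,5,8,3]),(293,[]),(288,[]),(1642,[2,8,2,4,2,5,2]),(288,[]),(1890,[8,3,5,3,8,1,2]),(293,[]),(288,[])],[0,2,8,2,4,3]),
  (1,[7,16,3,19,10],[(2082,[]),(288,[])],[0,5,5,2,8,2,5]),
  (5,[19,17,19,22,15,3,23,7,11,13],[(1582,[5,3,5,8,1]),(293,[]),(288,[]),(1798,[1,2,2,5,3,3,9,0]),(1994,[0,3,5,5,3,8]),(292,[])],[3,3,5,2,1,8]),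
  (1,[3,19,10,15],[(2090,[]),(288,[])],[0,4,2,2,8,2,9]),
  (6,[14,16,19,16,18,17,14,16,3,23,7,11,13],[(1582,[0,2,5,2,4,3,0,2]),(293,[]),(288,[]),(1798,[0,0,0,5,2,2,4,3,3]),(292,[]),(288,[]),(1246,[0,5,9,2,8,1,8]),(293,[]),(288,[])],[5,2,4,2,1,5,3]),
  (1,[3,1,11,28,17,3,7],[(2098,[]),(288,[])],[0,4,3,5,5,8,3,4]),
  (13,[14,16,22,16,16,18,3,23,7,11,13],[(1582,[0,2,8,2,2,4]),(293,[]),(288,[]),(1798,[3,8,3,0,5,9]),(288,[]),(2002,[1,2,4,2,8,1,3])],[0,2,5,2,4,2,8]),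
  (1,[3,7,11,14,28,27],[(2106,[]),(292,[])],[0,0,2,4,3,5,3,9]),
  (14,[18,17,19,17,19,23,3,23,7,11,13],[(1582,[4,3,5,3,5,9]),(1814,[3,0,5,3,5,3,8])],[5,3,9,2,5]),
  (1,[3,7,29,10,17,29],[(2114,[])],[2,8,1,3,5,2,2,4]),
  (17,[22,16,15,18,17,17,18,17,3,23,7,11,13],[(1582,[8,2,1,4,3,3,4,3]),(438,[0,4,2,5,5,9,2]),(293,[])],[0,5,2,2,9,3,3]),
  (1,[3,19,26,3,10],[(2122,[])],[0,0,2,5,8,3,5,8,2]),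
  (3,[15,17,18,16,19,16,19,16,3,29,11,26,3],[(1786,[1,3,4,2,5,2,5,2]),(734,[1,2,2,4,2,5]),(922,[0,5,2,2,5,8,3,4])],[5,3,5,2,8,2,5,2]),
  (1,[3,7,26,19,16,27],[(2130,[])],[0,0,0,5]),
  (36,[14,16,19,23,16,16,19,3,29,11,26,3],[(1786,[0,2,5,9,2,2,5]),(292,[]),(288,[]),(1030,[0,5,2,2,5,8,1,2]),(293,[]),(1498,[5,3,4,3,5,5])],[2,1,4,3,5,2,1,2]),
  (1,[3,10,19,7,11,19],[(2138,[]),(293,[]),(288,[])],[0,5,9,2,1,5]),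
  (36,[19,23,16,16,22,16,3,29,11,26,3],[(1786,[5,9,2,2,8,2]),(293,[]),(288,[]),(1374,[0,3,8,2,5,2,2,4]),(136,[]),(160,[]),(112,[]),(1126,[0,0,9,3,8,3,3]),(288,[])],[3,3,5,3,5,5]),
  (1,[3,1,19,11],[(2146,[]),(288,[])],[3,5,8,2,2,2,4]),
  (37,[19,22,16,16,18,17,22,15,3,29,11,26,3],[(1786,[5,8,2,2,4,3,8,1]),(293,[]),(288,[]),(962,[2,2,2,4,3,9,3]),(292,[]),(1494,[3,0,5,3,3,9])],[2,2,5,5,2,5,2,1]),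
  (1,[3,10,19,17,7],[(2154,[]),(292,[]),(288,[])],[1,5,3,5,5,5,2]),
  (37,[14,16,18,17,14,16,3,29,11,26,3],[(1786,[0,2,4,3,0,2]),(293,[]),(1558,[4,2,5,3,0,5,2]),(293,[]),(288,[]),(1734,[5,2,1,5,2,2,5,9]),(292,[])],[4,2,5,8,3,4,2,8]),
  (1,[3,23,10,14,7],[(2162,[])],[0,2,5,8,2,4,2,5]),
  (39,[14,17,19,17,14,18,3,29,11,26,3],[(1786,[0,3,5,3,0,4]),(288,[]),(1622,[1,3,5,2,1,5,2,4]),(293,[]),(1286,[5,5,9,3,5]),(136,[]),(112,[]),(104,[])],[3,9,2,5,9,0,3,4]),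
  (1,[3,1,7,33],[(2170,[]),(293,[]),(288,[])],[0,2,9,3,4,3,5,2]),
  (40,[19,19,17,19,23,17,17,3,29,11,26,3],[(1786,[5,5,3,5,9,3,3]),(288,[]),(1850,[0,3,0,4,2,9,0,2]),(288,[]),(1382,[5,5,3,4,3,9,3]),(288,[])],[5,2,2,5,2,1]),
  (1,[3,28,3,17,10],[(2178,[])],[1,5,2,5,3,4,3,5]),
  (42,[19,19,22,16,19,16,16,16,3,29,11,26,3],[(1786,[5,5,8,2,5,2,2,2]),(292,[]),(288,[]),(1046,[0,5,2,2,8,3,0]),(292,[]),(1730,[2,1,8,3,3,5,2]),(292,[])],[4,2,9,2,2,2,9,2]),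
  (1,[3,1,7,17,11,18],[(2186,[]),(292,[])],[8,2,5,8,1,3]),
  (42,[16,15,18,17,23,16,3,29,11,26,3],[(1786,[2,1,4,3,9,2]),(292,[]),(288,[]),(1490,[0,0,4,3,3,4,2,4]),(108,[]),(160,[]),(302,[0,3,9,2,4,2,5,5]),(293,[]),(288,[])],[0,2,5,8,3,5,3,4]),
  (1,[3,1,7,11,17,12],[(2194,[])],[0,4,3,4,3,9,2,2])]
theorem hD3 : allD2 lk B KW SW F A RL [] D3 405 = true := by decide +kernel
end
end CA.ThM
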