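import Cfsg.Agent.Lib.Spor.ThRel
import Cfsg.Agent.Lib.Comp.CLow
set_option autoImplicit false
set_option linter.all false
set_option maxRecDepth 100000
universe u
namespace CA.ThT
open CA.CNet CA.CWord CA.CLevel CA.CSimple CA.CPoint CA.CTodd CA.CPres CA.CLow
noncomputable section
def RG : List Word := [[0,0], [2,2], [4,4], [6,6], [8,8], [0,2,0,2,0,2], [0,8,0,8], [2,4,2,4,2,4], [2,6,2,6], [2,8,2,8], [0,7,5,7,5,7,5,7,5], [4,8,4,8], [6,8,6,8,6,8], [2,4,6,8,2,4,6,8,2,4,6,8,2,4,6,8,2,4,6,8,2,4,6,8,2,4,6,8,2,4,6,8], [10,10,5,1], [11,1,10,0], [11,5,10,4], [11,9,10,8], [6,8,11,6,10,6,8,11,6,10], [11,3,5,1,2,10,3,0,4,2,9], [7,11,6,3,5,1,2,7,10,6,3,0,4,2,5,9,7,11,6,3,5,1,2,9,11]]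
namespace T0
noncomputable def A_0 : List (ℕ) := [nat_lit 0x326216d04690c7c30880a83d2410e1102042866142a82a840902a420ab126205005008118118812a12a60ab0ab20240241c074168804625a20970c4102b02c8808c410837c37c50ee325299219210c8cc8ca1100fc60311082878878141b41f4a0626444036088107899088218c80406c21a208410e18d28d28842c35c410010620340b1209709714260318a174174417617628988281807c2eca134132503f04f280f82c100884c44134186205505710110891440040040ec3ba2101156207c07c081d01d081d61d66101101203b03b1c0bc228806e37820ed1111043844880dc2f880a418060530c138298420414c14c804063e331e31e117118e88b701484040638431731b216c18d04c64c6445b663022da317116c18b0cb5cc5425ae62852d7313096b0259007807c801c1dc406c0f12178036900b424c807812e405603d200d072101981a48056130403e09a202a81f9006c078401c07c201b312218081d900643a880d41da42ef06b2016038100b80bc80280d4202c02e100a188880a819840560522012042200e00e900340f04034038200d0792018018900541b0405a0602015310218001c980600e8e030054101801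820059879004cc38859c61a430830c21831859001cc28459261222c5024100800888020c20a60e60e42ff306398298290c10c10e60660642c4302198098088064c0040165fe22c42fe217d17e90b0cbf040265f622ce2fa116197c9438cbe065ee5ee52f32f638718719c20442cc21821862f22f5097997a18bccbccc0640ca72f1080181917904204bc4206410250322f0317717794bb4bb8a02e5da62ec2ec31759759805cba8e5d05d230172e8080b97390b94b9885845ca22c22e42171841100ccb8c40665c462e12e1316d97004b78b7cc5bc5bc62c02dd396d16e0cb00b6c25b25b412c02d9296002a98084218e0a80a87087087381a81a84084214a0680ac50230212807811980d00d820440686022022300781b9cb60080601e5b0100f2d7216096b10afcb54a0125a862d32d3316916918024b44e59e5a030092cf08048071406c0b46034034500d02b380d80d9c030064c0580586013014080680918034034c00a02a72ce00b180280984030b38200a01822ca2cd39661661cb2cb2c259459472c92c938038039c040040859059062c62c7096296318b14b14c00601072c32c418019618400c0c8802c02e400a2c231608199c058b04202c02c200a2c0215f00790018afc257c57c200600920020029000800c8002014600400638010020400800840020027000,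
  nat_lit 0x90181d9db8422ced8207676a53b23b429d69d99cec8ec8e2ac76263b03b031d51d784eb4eb8c75a75a60ea3ac39d49d58c3a8ea822ac75210ea3a830950951425825821d812870ed12930aa9d3843ace9862aa2aa60eb0ec19d21d28c1ace9021da746106b0fa28e70fa8c734734a1f24fa71ce1ce387c0e6189f89f8c38438610f91c1307c87c981c0710e1e61ee30701c2087c079841c0e88c74274253a03a009cd9cf9c1d8e78c73873a339c39c303a1cd8ce64e68605e732107639808179cb94e4ce58672a72a50a139439c99c99c280e48c144144613313408509c898284284c08426a709c390182109984280270208414a60cf0cf283a83a8411c1cce0901a060a738f08231c70c29c29cc08c08e338d045180e9c684120e30203a716538838a18bd0bd143c8e24e71071071043873098098185ec26c21e470c60f20f2303c9c29c3bce1060f22f611040ef083c85c843241fcc09c192707d0ca31c19c184c88e086170170632204e083e03e1c144144e700702107e38008189bf900e4df846d66fa337c37c29bd9bd8cde8de846ec236408e08f201d0519c370378c6f234c736a379306e86e9818818826d41b6637837831b51bb846b4dd8c35a35a60dc11c39b986e04dcc2384074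6ea737437439b81b990dc8dc846e26e2437037039b79b790db8db846da6da436c36c31b59b584230230a074116503b038280c06998170da886be13c60410ad30248811c1e03d4c0de0e2706c07b30350819c1dc1dc409209260ae0ae08268269c078130c03c094206f06f307a07a181b81c8e05c0f460300781020820982742742086086703c044301e020081b81b860d86d2736836839a99b384c28d98e6ca6ca730a36431b08301cd80d8cc6126c4336136109b01b008098098e0c20c23027027300882e84348170c1a41a4605b19d10728729839016c20481a2705e05e381201418d7cd7c46a004a101135e39ae9ae9cc20d70c6b66b6635535a09ac1ac98d60d60c60e6ae735435619839aa84c20d50260e6a6731135231a89a88419c19ca6a06a0706634f39a71a708d34d34c698698630234b39a51a51cd24d24e5fe6906300347097f9a3101a0398868868a43321b120719a20838c9b8834a368410b34320861a108430d0480ca0d022f8340103299f9035ccf8c1ac67a70d605f119e19e04358358810067652e733a399c99c9cce0ce0266e66e52e6336399a19a8cb98cd025cc66652e433231971989ccc0cc0e65e65e132e32e284119698208cb0e654656308232a084119488bd0ca085b864e42f1,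
  nat_lit 0x1de120e20f95075078e83a83a441b41c320ba0d9d05106868308321411418206020b8d059058c82a82a64144142a09a098504904887d082244004102060891147c07c082ae81e340e40e2a06a068d0310308722816340a40a2a04a048d02102087123da711018930f5946947ac7ac622030e61ec25c39471471c7a901c280c42044064063a02202888d1010e8068065402402320020084ffd000c7fe7fe63fe3fe09f29fe94ff0ff0e7f67f653fa3fa39f29fc84facfe0a7e03d8528128130f51fb9cfa8fd827e87ea63f43f431f40c414974974c30a7e673f23f239f89f89cfa4fc0875030a211811830be0be10ee84b0e3f63f6117d17d389908b9847c474e23423473ef3ef388c88c8c480480e11e26443c20fe28cd8c11c5d476063063aa728314618ba8ba9c45873c23ac30661d61d631418c20c66c66cc22c22c31f11f129419418c764764823c7dc61a03ed38d60ee184347b8e4dc43e61ef13d386a0ed986746b8e3d03de41f81f8108f08f1c2f02f081d823e43ec3ec31f51f59055449041243b421153ea19f49f494fa0fa067ce7ce41150fd30b90ea1c414508c3c014c71430bf30c30c3085cc5cca20a2e272530b708838a21841c41cc2863c471e01e01882887907a87a8451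651641e81e818d00d010370f98667e358110d10510608ef886d494ca2e42e43143143209089094300350621a7ca21570b328b291b0c590590a164468716516538588b1988d48d4c2b02b210b215730590591812c568e158160304b15808588560412cf90c7c07c6704f3e231f09f084160f8027be7be73de3de39ee1ee84140f70203e380525128018fe0fe146fc968e4a24a271be27c30fb0fb18720724237e38e61bf1bf30770e51c3d86f461dc39011be0f608771ed84f64f68c7a87b270f03d831eb9eb84420f5867aa7aa61083d409e99e99cf48f48e7a07a210f13d008368941436418c61be1be51271a9386c86c9c498388c35035060e1139089389c1849c49cc1261c0709f12518498708449827c212679e63ce3ce29e69e684f1cf30e12e79663c83ca084a9e48cf20f20c12a78e33c53c6181e9e28425cf10207a25e520f24018b40b4142d08fce41e41e712e194311d11d1857c57021682bc60b40b4304c0b01c2bc41861302be112e0af084c1e184f04f08c77878270993c031df9df842ecef8677a77a60bb3bc09dd9dd9cee8ee8e770772109a3b8081f93c9cdb89e0c6e236471b31b33872048980ec450e36a36e61130e938348491839c6d4e22a22a708b11330db0db18db43a0e1201ce3069,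
  nat_lit 0x498324ba4b99259258218c92a7494494386324999249248480e92210ba212292b8bc8c958958a4222ee725725738bb12a985e05e0c920320121118f3108908984c4644e91a36031314901247a4784c8d238211091a113121410f614b88a05230a914916148a48a1a44a4490290864c27c42e71361aa306d09f9c360860c26e26c721621638ad8ad84678368c356356619e140385209b84290290627c27c24884883a43a438d219218c90690a74834840a41a4195209208816a3e851e31e320958b61c2d48f0c2ba2d6712b12b08b48b49c8f48f4e2ba2ba10b50b528b5125185a8a7ce476496620a29c39179178c5a85a82476476228520a1095133192006e8e2a22a8622c19838660b718658544e45c45c748148108551161854c54cc15432e726519609329328d20120048f68fe610047e3a3c23e9d1f11f0e8e88f6647a47a323ca3c8c4491e0e8ee8ee7112476323aa3a88fd91d022008e61432472322b13184a1897ce37850c32b0285291014c98990ac0249a49a720820819422389d1c11c0e8de8de746146e2a2da36951a8834c25a462721a26831168cc9c830830e526526720b29d3118236151ac81cc5162cc71f81fa312c12c187e49186516488527229120fb8fb9c9c89c8e3d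251861e91f9290da358886c86cc3f0460315246a1234a349d1a11a0e8608ce24664663232a32990c9190e8c68c624624621a3023089181180c8be8be640f45e3a2ea2e89171170e8aa8b6402745a322ca2c88868868e464464715220e313b13b09161160e8ae8ae21a945611d98cf14360360834e8aa21a71a73131131186f0648e4c844031bc28411169168454882c225a4c811bc15028ca8ca91115150e88619c618c18e38622299c32c334c0b231a74454522a28a2891121140c89489e70c544e30322269c30c320c898316743f0c7302b8c51d12d1302896896344a44a1224a248d121120288e88e24464460a22a228d111110a196196318c18c0a21a218910910828828823440440121fa1f8c190190218a18a243e43e3a1ea1e8d0f10f0c112876143943a321ca1c990e10e0222286e74364363888a1a990d10d0423886610890a930a78a69c810814c446298113c14f309e09e18538810e42642671bb1bb08921119875c75cc2481fe714114e08a08a0910b10c8a86286234304302a17a1788ea10b847e085a342c42c2a15215850a90a86852852239242811fc21389059098e84a84a34244243210a119d08508828428425420420120b8f99045c740c1f638c30fb0fb120e93f90970a1cc3bc38a31de,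
  nat_lit 0x55c3aadaad9d559568aab2ab215585581aabaab8955955822a0aaa655455430a82a99d5455482aa2aa2355055012a7aa78d5395388a50a9a554c54c22a1aa5955295286a92a92554854811e1aa388fe9518ea8aa8a75445441aa1aa195501508ca82a8215405401a9fa9f854f94f88a7aa7a353c53c2a9da9d8d4e94e82a72a7235385382a9ba9b893dd4d849f0a6a24f95343a99a999d4c94c82a5aa6215305301a97a97854b94b8aa5aa5a211f52c11f62959d4a94a8ea52a5235285282a92a93994994982a4aa4a35245240a91a91905fc948c4062e8710a180305e8dc9c81848cc3cc3ce717e18130d79011c5fc79822fe2fe320320328bf0bf0c2f42f4221421431af1af2903103091bd488440ea42228c16f30c98f29c424424e16c16c316116130f21208493064cc498498625024e39308b69878c5c04a3ca40751f51f3a8f28f0d29d474ea38a3874a751b328c28d1d45d4646a30a301517517112812804984984a3c83c824e25162a8aa8a91435450ea26a2675125120a81a8899441440ca06a1e750d50e0a86a868d4314304a16a16750a50a1a84a8499415420ea0aa0e150550612812828938d410aa06a06444b502326ea809d3cd400a9cc9fe54f64fe325ca7e9d3e53f0c9f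09f674b84fa223927c853e13e089ee9ee54f04f6226c27a8d3d13d0a9ca9e642214f21a6f2789d3c13c0e9c09de64ea4ee3a76276993b13b029c09d654ea4ea0a74a748d3a13a044449ce40de4e63a72a7285379390c9c69c664de4e22a70a709937d380a9be9be44de4de2a6ea6e91311370c4449b671f24da313ba6c9d311360c4b29ae74d64d60a6126a9d351350e9a69a614aa4d23268a68992a9340e99c99e14ce4ce1a66a66852ad330299699634ca4ca2a5f264988e5320e520520721e21e1a63a6398851318e4de98a621d21d094b91105311310a984986727727708f92610c7c87c8a4b24b2217d4c1394d14d08a549d4c46e34870d522130cf94a849d08dcc4e84e821fb4c00a5fa5f8d2f92f8297a97a54bc4bc20b50d10c9cc9cce52c34230d50d508cf9381868c68c423a52c229127110fb91c8ca5c9bce530530729725e310e09d8c8708708410412447119f206925d952e92e881b497240614b8201425b9d2d92d8696a96a648f4b40a59259992c92c8c110962748e4b03257a57892b92b8695295a34a84ac1844255887b52a8451c95254a84a811e1253884c9298424094a74a44a43a51a5184c91288c94294263244a03a4f24f85279278693a93a132549c3a4da4d8d269268c1749321497,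
  nat_lit 0x6263312b12998918904c22c4676226221b01310858818806c3ec3e261e61e1b0eb0e958718704c30c36661661a3b0a30c8d861860ac2ec2e45a86160b05b0a913f1850ec26c2645936123308b08909a9840ec1ec1e760d60e2b06b068d831830ac16c16260360a2b04b0489811820ac0ec0e44ab6063b02b02907b5810cc06c06360160210cd30099801800cbfebfe65fe5fe2afcafe857f17f08194bf615fa5fa2028afc907017e08394bee15f65f6213e1551890cad4e4d44d472b42b429359450490cac8a4c04c072a919a1934959849b09ace3fe3fe726c26c195495594aa4aa4e4d24d2524324320b1afa957d17d04bdabe655f25f2225baf89d7897c06bd6bde75ee5ee2af4af69d7a97b02bbcbd645a25ea0af0af4997a17a02bcabce55e65e612f2af299785790abc6bc625e25e23af0af09577d7808b3ebbe459c5de2026aee885a17704168bb655da5da22eaaec8d7617602baebae55d65d60aeaaea8d7517504ba6ba675d25d23ae8ae88d715740cb9eb9e65c55ce0ae62e699731730cb94b9675c65ca0ae32e488131720ab8eb8e209d5c62ae2ae28810d710ab86b8620a25c22ae0ae091561700ab7eb7e213c5be12dbade896e96f0eb6ab7665b65ba3adcadc885c56e0eb6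eb6e75b65b61adaada956c0898628a150614b1453913912986e051ce3a2452529b29b211b0a4108546e0644e44e428228219141141452c52c63a23a2114a22a18a50a51067074cc4ce292719c1d2307e1369c72d6d04b62b6665af5b23ad82d8996b899ca39633810fc0fc10398e5883dd6c06b5eb5e223e5ae10a7ad6896b16b0eb56b5620b75aa2ad4ad4916656a0eb38b4e35a65a612d2ad28d691690295ab4665a25a210b1ad08d681680295cb3e159e59e125bace9967167044b4b36559759a1accacc8552d660cb2eb2e204e5961acaaca95651650eb26b26558f59210582c89564164082ee402313a1fe39491491c7f4a2063fa3fa713a13a290a90a98588a24e3e0484623e23e08f08b10c784784420eb1e217722b30f81001056963881c2b1a404058c20372c599605628eaf8b12657f5883ac12c39960d618eafcb0a657d5843ac02c18d6096082b02b0235805802abfabf8d5f95f82afaafa357c57c22a8abd855e95e84a28af224f65783abbabb9d5d95d82a2caea6574574328b2b99d5c55c82ae2ae2357057012b7ab78d1b15b8cadaada656c56c0a912b5995a95a8cad0ad275215680a90ab389305598eacaaca75645640aa62b199589588ca98ac2755f5600aafaaf8d5795782a9aaba6555,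
  nat_lit 0x7102b87b8788ad1c384e16e1a770c70c3b85b858dbd5c28ee12e1276f57083382b839dc11c186e0ae0a17047041381b8185c09c086e02e0256f77003b7fb7f9dbf9bf86de0dfa66fc6fc337837d9dbe5be82df2df236f86f8137bb7b8dbd9bd88deadea56f46f4236237995bc9bc88de2de256f06f02374b7785bb9bb86ddadda26ec6ec3375b7599ba1ba8edd2dd256e66e81373b7385b99b986dcadca26e46e41b71b7191b89b886dc2dc226e06e02b6db6f95b79b782dbadba46bc6dc1b6db6d89b69b686db2db216d86d8136bb6b85b59b586daadaa15ad6d43b69b699db49b486b68da276d06d03ada36799b25b38ed9ad9a35be6cc1b65b6589b29b286d92d9246c76c80b63b638db19b184d8ad8a36c46c40b61b6189b09b082d82d8236c06c00b4935f9daf9af8ed7ad7a35c06bc3b5db5d9d701ae8cd5ad7276b86b8135bb5b85ad9ad86d6ad6a26b46b41b59b5985ac9ac84d62d6216b06b01b57b5789ab9ab86d5ad5a46a96ac1b55b5589aa9aa86d52d5216a86a82b53b5385a99a986d4ad4a26a46a41b51b5185a89a884d42d4216a06a01b4fb4f85641a78ed3ad3a769c69c1ad4b4d9da69a68eb52d3266946983b4bb4b9da55a58cb54d2a35aa69410ad1121896c96c830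451e6254254113d13d189ec9ec8366d2656926922348b488da41a402d1ed1e368e68e2b46b468da31a302d16d16368a68a233ab448da21a20ad0ed0e36866860b42b428da11a108d06d065682682233eb4095a01a008cfecfe367e67e0b3eb3e8d9f19f0acf6cf6367a67a0b3cb3c8d9e19e08ceecee36766760b3ab3a8d9d19d0ace6ce636726720b38b38891f59c0408ecde266e66e1b36b36919199b02cd6cd6266a66a3b34b348d9a19a0ca6acce16656663332b3299989990ea6ccc666606621b30b30959819804cbecbe565a65e22d932e999719706cb6cb6665a65a332c32c9596196049f8cae5656656232932a859519504ca6ca616526521b28b28899419402bc654672332bb31541579c93cae4c54054472b7294315091989858adc653c54062b82b821559589cae8ae84c5c542124f2a8192792794a78a788b72c9e264e64e0b0eb269d875930cbe6c96264a64a0b24b24916459204c8ec8e36466460b22b22898859108b06c8626426420b20b20911059002c7ec7e263e63e3b1eb1e9d8e18f0cc60c76163a63a22bf31c858e18e04c6ec6e16076363b03b1a998cd8d06c66c6656326321315b18958c18c082a0c5e762962e3316b169076d8b0ec4ec56662662a0b14b14913fd8a0cc04c4e4624,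
  nat_lit 0x2a381d0150c0a804880540264013009300a8049c050024a026026030f00918090048401405405a802802d2013016a80900b40014059e01202ce004018700c0c060c30461a616530c309298500894090044804860c2308303118398194c18c18660c60a330530429829820cc10c0ce6086061303013100980414040b24602002010102c428039650c01c01c200e02602fc003300400810020020201058862c5010016600380b34b3805f601002c82c5016396500b2cb10058c0061003005017d00180b0c00805fc00202fd303198197f94c08c00a6025fe33002fd117f17d94bf0be825f65e872f9032317c83284be442ce5f01c612f8065297c0409cbdcbd8c5ee21812f72f6088597b14bd0bc865ec21830e310b18408401442cbd4a21810062f52f1397a9788cbd020025e80ca32f3080383297894bc820481025dc62ef2ee217700b98bb4ba065d85d432eb2e9397517308b9c20845c85c432d92dc297117014b84b70c5c05b472e02da196f96e04b7cb7465bc5b872dd2da296d81088b64088a0aa10e3055086082a842981540d8a10c0ac308603538430101415021420a80423054037284382b0421c214606a5b05035056304281098158084804206c302303708118079808c080c06c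5b070362d8181a010040d00dc604404070372d6116b96a90b54024c5a859e32d32d119691681cb44048e01c00a600e014180700a84038064e05a036102d013301680a940b4030e034056601a02c080d015840640aca024026302b02c180d80c8c03002ca032028502c00b300a1671c050b386024016101201518068059c054b38a02600a500c00c200616214b3401c259a59432cd00829661648cb30040259800e32cb2c3296596510b28b28c02059242c5003296516294b24b18a00e5905010008096400198b20b10c58e58672c72c3196316204b18020658a588700801710190198cb080cc25840665033016381980b0cb04afc458202c501600f116015f0cafc0244012006200500a28050030c0280182014008600a00628030011c01800860080082004004280200114008004a002002300100108008001c004000a00000040000001800000080000002000e4a46a77242219b9185c89c886e2ce4237207200b8fb8f89c79c782e3ae3a371c71c138db8d8dc5dc68448ae3222b6718115638b8891dc58454a54a724924718b39248ca98af0455c55c32bd2ac195b15b18ab4ab4c48a48a32a42a4315e95e88a98a98c47047062a72a711241241859c59c8164e2a37147142b89b898dc49c482e22e223710,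
  nat_lit 0x29081481d80c48064403200602c402901a900c80c0401405fe016200b01201a500580c000604030030031031019881838cd50d5006aa00e4007307018400380c2cbfc061a588030c36619b39b308d44d84a6cc6c8536506019b218498d90d8c20c06c4706036131b198484d88d3c46c26123360026282e1af84098044604c04a606102808308139cd7c174a04e1a2605d024382e9838cd54d5406ac60e035e024182e0688417017861a41a2419d067207282d8816c34460b604a505b0d110339af943440a0a0bc022602802519af81288094d7826b86aa335e35c19841ab14d70d68a6b66ac635a35439ad1ab04d64d5c66b06ac735735429aa9a790d4cd48469469c535202909a903398d48d4466a2052735134f29a88149819c19c60ce6a0335034f09a81a71cd40d38669c69e334f06639a783304d38d28a69a602134d34b29a617f9cd2cc00269468e334a34809a49a398d206c441cc36273451b411371a0141a0358467e652405f2f4219e06b0c358cdc467666a533a337199d19b14ce4cd0a67066a733632d299919594cc4cb0a660654532f32b399616b94bc8b5c65e85ae10322d6096017900c50bd0062c06403152c0018996b80bc4b5805b458203272bf01931940cca0c98464e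184208d11010f482c9033016841982a440aa12d28a904994498254424c08450a005a382300e941180f4a12a12e50ab05a2824062104b4164a1880f2510407d1082078086f8c88464a0fc23241081191884101f8c88a0fc1e0710807d2078191181f4c848110106410d08510870419443835ca34a10630d704b2858827882c4264425c0ae40c60581063028082e82ec42ec1764050058282804c9c2ec13c81320b0604f0c3209882b9430c224822411421121dd20800de147743a8a2ac1d62156070287c0451c1d00bca0e80d650eb0ed2880845141d844483781125111053105f0600c300304218010860c00c118608421c304210610806840840ed2043878902180d441025b422f1017301b80b9c0d821c05de10c02f0017281a81a900d405c606802e100f081018d17880c600dc05da06c02eb035017701a00ba403c05d00640317017016c00b00c7002806360a63053054118f82914c7cc74a63c0a4331d31b118e01a88c68c5ca6346305319317098c00f8812c1b441dc0da70f103d104981e9825c1a441c807e209803f384d01f140780ec46240d620ea06b3076817881c00b8a0d405243110661833014941980a4605203a204201c281e018881e40c0a0d80302310039181c81d040e40a8c072074303a,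
  nat_lit 0x39931cd1cc18e64e44e72e084639713419cb89a84e5ce4c272c266639613529cb1ca18e54288272a728539113319ca0510ce4ce486140720539213428511c8184d0270e268138339139009c889a8c284e40e26a138513304528528230c294340214a71c60a538f386782d0c33c29c219e08a607538c383a8240c1d4340a0e608a107338c18398239c1cce3c61a00b460d038e39c79c614e3ce3820b471a538e047285380e9c11ce34c08a718638d07931c58bd98e28410e2f4260117a38929c30bd8ce24e1c6208708538709b28981c21826c3bce1361de338638409c31c28c3c8e10e70a1de517b382305c8651c2e4c8861720a250b90c9283f9c08c1fc14420fe062607f383186485c1c32432860fa0f850ca0b808651c11ce0ce04a706704107d38029c1027142e013867000f8638107e38270188c1f01f860a2700738137d09bf1bc88df4da446f86ea237b08f108d86f1428c47021466ee30a337638519bc0c37869821bc0c460de11c28d306e8c69836ce34c6f2336a37629bc86d84de46b4a1ba6f010dd0db183103108188370a0c41b6208c08e286d9bb94de0238c6ee6e6737737319bb04704dd8470635a11c711c08e186e06e08370da4a6ea6e0337537411ba1ba10dd0da0a6e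86e8137436f19ba1b514dccdc046e633a537237131b707294dc4d4ca6e06e0137036f09b798894dbcdb046de1c8536e06929b681514db0db066d8070136c08c31b61b58cdac0e0e6d6072536b03830460460c2300e08116116208b038181c01c080e0184a1a60ba30d305e086982d9834cd4c46d413a509e043184f02204278100c13c15c50ad04d1856826042b4128c15a1ea510207a088103d8c4081dce2040e230f5072087a837183d41eca0e21e8107102e3838881841ec0c0c0f61e8510307a188183c1c40c1a860ee060107706f283b824941280f8609203c104904a38570260c2b8134c07c098504d03e302600f0c1280f8209405c306f06c08378390c3d01e8a0e40d8707206a303d0180c1e01a820f00dc5078041282000e0c1040f02082080709d044184e82198070110a086038604403c182000e041000b820dc6a6336936811b41b404da0c4466d06a61353311098882e08170348a0c00c0302806008138301c098098404c0c0602534f11af81400d9009c06c604c036002501b10039804004060200cc634f06729a79af80d84d3c269e0067008008180400880c240400592006500700718038060801c0a4e0ce0ce106734f01a8033041980ec407601002c500701650018c00c19c06a20cc034e,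
  nat_lit 0x3df29f11ee94f84f8067b87be63dd05039f000f8cf7cf70e7ba38e71c00ee30e00e48c70072823804f8728025109400e418a00728a50037c71fc25a30fe0fb047f096824f84b451c71c8192d0fb0c9449f0637c37a527c1c928fb0de987243d8e3921ec31c71bd08e38e50c6fc6f4e3941ec51c810819ed9e914f6cf64a7b47a233da3d209ed03698f68f54e7b27b030f03d329ec1eb1cf5cf44a7ae7ac10f03d029eb1ea14f54f5067a07a663d10f139ea0368cf4c3c467a47a073d11383894049984a04e462501c011280e2383186c8418c384c0c61c05063126386f8d49837c6a021be35210e21a9289c0708c6a46a061b21c43126125287109c946a0494c27213e713909f189c092844e0380624e24a70e009f287084a8cf3cf24c79e15633ce09719e685598f2cf24e79479210ab3c529e49e394f200f4e78e78a63c63c431e28af1c4bc260c25e2b8312f16008978ca1c90083c24802be624016029200971c5a08fcc2d0474116823f08ca11f9457857c647e474320f194189708314650570a47420c615c0af38ae0578c57841822bc2c030b410638b00579457cf00e78677453c33c129e11dc8cf08ee8278407e63c23bf19e09de9cf04f00613277653c03b929df9df04264ee0a77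c77853bd3bc19dc1dd98ee4268e77807e33bb09a19dd1dc1cee49e484f23665279279093c9b88c9e49e0e4f24f0336e278213c0d9149e09e024f036411b20e418d90729c6c86cc23661ca31b311428488748c2443a021221ce60911b6088a0db8c45022ce2281d251b711508db9b6986dc24821d212070e911528490740c2480ecc12436a11131b528739b68c6d46d8622a226308b0902889874146d81a4e1d01ca10e537109b887204390db826dc116136d36d01db81d841a41a4076c1ce109009020739db14edc3a8c76a2ac73b43b309d89d50ceccec462ac75653b13af29d81d598ebcea4e75e75613ae3ac19d69d59ceb0ea4a75474a53a812909d41d318ea0e9ce254202312a15508951d298258e8ce12c1da3096129284a1d2842503b0e12874e312910130949d31ce9ce8ca74e74c11013a429d3076145541ace1d874863a53a331d20e09c3e81c0c1f438630fa1c4087d0e61c7d473823ea38461f51c428fa87c1c7349f4c39a4fc11cd27d08e613e9470470864fa4fc31ce1cc187c07b9473070ca4fc1ee61c30f338e18798c7043dc238238830f90f738e207994708e68a7440e833a208a19d09cd18e801d8674073c539f39a09cf9cc0ce7ce6ce73e114639e39d08451cc94e74e6ca73805e739b,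
  nat_lit 0x2f1839853101141d8071a0ea039b07401c783980e68074205e08a039f02f01c600e80e602dc87be73e40a60b718530a21c29814ca17e17e30bf10f085f890982fc43ce30c30c318612108c3060946182dcc2e6288317314308b985b945c478822e220a7171172305b8a208510780a2882e411443e020838f11441c77ce3c44a611e01e010f00879848443c621e108510f1e81087888147a87a4a51621a51e81a0093706a14680680434004c40620db20d6019880cc20860ca06602e30821041041042080c8e104100608210c284103280cac20805c8104032a082017987180cc44300666218032f331019d19780ce0ccc0676072408d10c019b88600cb8200065a65c033732b019a99500cd0b9005ce04220210061003029140e423406fe0a8203905218290d89c6d042c06640d040e61b738730db183981a4a1cc36a30e608b087307300db420805cc06630332e30172819840cc08405b200c02be00f100781c1c1480e4063e0a4031d08c0829071881a04308218218210c27938d88da00d14390a3624f031b10e601a30d8846c4148e0d0118606802a28341a300db41a060d0070106806801b60859c38c194a1c61c610e310c3040840842040cc058402c3016016080b00780b0014806d6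5e6510c10c0886032900a41a006880ca202a10c01a188600d086c406dc688036c36e38da13c186d0394a3684f231b41b408da07180dbc200c5e60646065065083287180be042c221610202f2016016080b80b580c820640be40d719d29370d69c43828cc21c11c110e02001bf08600bdc0a40682054034010c01ba17c00dbc6d006e25e603682f3017a83280be442c05ec06402d708008400139c17c0a0c0be1a2505f0d701948128c17c35840be04c105f11c38d29bb986949b806e41b811a50dd384186f1820c43806ec068037d0db084186b18198358e0cc5ea0368065018888580dc020005e80be033f0d6086b0d31c35cde0c1ae34a037308301bc8310435c198067a0cc033e067286b04000d4c358067804e733f028319f86894cfc35c06d404a333f0d601a781304cfc16c804a67e035f02501f306a1017016c87cc33a31ac1df08829298c77c50ca3be4a6425327811298d9085c839c428622620c009010908908c48467421a81a820d411421f28ab9c2cc12cc1662b230b315a08598b19c8d8594246c2b0623615a291b0589c5908d0c2c846a116423408b191a1455c560646846a316516318588581458c564a46a16061590ac38ac8560c55c2c022ae2b430b20b038ad0561456007cc7c87c4304f,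
  nat_lit 0x3fd19ff1fd18ff4ef487f823443fb3c321fd1fc904a8fa0c7f27ea73f93f129fc9f59cfe0fd8c7f07ea33f83e809fc0881c7b0fdc85027ec53f73f119fb9f81cfdcf9cc7ec7ea41b73f229fa9f384fd4fcca7e87d633f40c238c41f990974fb067e67d273f33ea09f91f80cfc846487e27d813f13f009f49f61cfc0308a30a17e41851d820ec0c190460234a2302fa311811e088c09618460468e11a232608d11718468478423423407de2f861fb17c288d099045f02f062f81ec20af15f10e404f88ea4ea841c212a3129095087584a9c4a82acc750156315503d184a01e841ac4a4079e1d603ca0ab088081e9c2584a8079012e63a53a801e58aa80f3825c61d812803c606b01e208080f24258078e12e10ed3a501e605580e983b0079a1da03c509701d2078042643c0677a1e063c310839e00840cf041b4207e0da33bc09901eb1de80f6042021760da63ba3c301ec8789ceecf0007aa78203db0f119e101f80f40ef007a617603d73ba01ed07884268eec07a821003bf3c201e904d00f443c40772258409611928960990c4b02f022582fa41fb11e18fd88e947ec5f4c17822e517d3ef188b88e8445c480c22e11e311d119388e8900446847c623411e13ef11f088c89914480478c26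43b270fe1d8307f0eb0c3f875421fc30421821d828c10f8846082f8630433671821d810ec1418476073cc3b03aa618314628ea8e78c754518c17c14e414619b08a30f8985182e482ea39e517518408ba8ec9873c60c417e17c51831d908c18c214758610e17c19241841f138c20679066c230822c17c11161ac108b0ec944586cc43e2506428327911418f788764fb4a7dc3dc33ee1ae09f70f798fb876c27da3b833ed0d439f68f7147704f423b833a61dc21f08f70f41c7b84f4a43e35c321f1a0310f8ed8c4f46b0e27a35c51db10d30ed9371c6b87bc64dc3de11e81ac28f788d947e023ca23c23e50bc08f388f9f594fb04a487d27ce73eb1da289213e9076870447d47ce53ea39111f49ca08fa09f447ce1fa40731d4287e8838c3f429821fa2e660fd14208ea0f10c75094ce3a814c514217118a10ef9850827041e6384213318620b9877882b056042f609e60b90ca302c0648c160c8820b009e30b801f302883e181401fc60a00fc10500b901f182c00e0c1f4209e17003e20b7202700f8c13841c80f80a203e405001c082780e0813807be062101f07c01f000f80e000c407b814a708a0a7184502d042281d0e19e0e830d0045383b0238c1d812020ec05e707508a01c706780e7011820e81a003a2,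
  nat_lit 0x1dd094213214a1082ca45a4c8220b1db10a80d70865433428a819c34540cb3a2a0c71433914c219c0b260ce44538c70668d14d10ce8a631a50cd18c30668621c634fb448a47dc245118a0a282261914062c289c0ae644e44b3a268c594320628619089460c80c718c58629c62c628a18e0c860c70c338c50618d1310e8489818a544c0de12258321512c30c289487e544a3210a24a2015124de0489088254484422a238620d11910ca88c7dc43780d3202f0d710374374488a3185445438122206205110164219686620cb1ad10c602c8d10cc8068846ee24410570a1f8518819015c618a87c543a4340a1f0448d0f90ccc87a86a143d43c3a1a21d950f10dcc876222743b1111a1d21b850e90d8687286e34384332a1c21b886990d0a86e86a5436089321aa198d0d0534a15229830a90ff08548a7182a475c229a40a314d1bb38a68a61481484c240a24862051da30a60a09c5306eca29e282314f1da08a7909944f03fc6278408122320428a70920c81075c642644631bb22310a10a09488c3fca3ae3b470ff1da18a7053085050bc686476224323ab12189d2890c10b8885e85a142e3901216822890b10a0685614a242a40b2213a1005099084684c84464254230a12a121d08108ca84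884074234201a112090908503c884038c61f31c638f98e8047cc74063e63a051f311d20e807d98740718a1f61f611c641f20e320f8871906881f64fe71c51c5393f943849fca1c64fe50e527f28d21438ef18a1d06848363bc51c51c5120c0ef0471444c838a36a41de4193a0fa091907d040683e834141f3bc220f20c95079050683c82e641d1e020f020d85075054683a3be441c4182a0e20d8d0710542838834541b4163a0da0999068ff4883282634194180a082091d061050282e12844174122a0b9dd91059044a82c82a2410105220aa0815054e94882882674103f82209a088d049040e822122212211410f804a0903d030a81e24a240e0e2120689489030eec481620c240a19412049e009020a38a3da31211ed18818f68c39c7b4840a3123d831890c230c49469c840974e51a3d4328d25c09468f59862061c83d630e11eb187186112e1461c61464b8502725c407214710804a38974651c7f864074053a03a009501c7a422363f0128b0c208880f504614840e30a3d8118825d09409408c840ffca80c7f6340640531fda020d014f94a80a80823893c022020db10ff8f04880480641204002a021fe05010fec280680234023fa0a011ff19008ff4c8027ca740140011c31f28d000ff428007f433ff,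
  nat_lit 0x13712462448523122ca912050248b136124502f0922485ca43227e3219140090c89b988646ac242e354321715b390b89f946a8858235433c61aa218089f8521c4fc858a430280321813e310c09b043684d8a26e33c31361ab190b06d0c56d21042b627c515b0da103085214368500a3561b071400d8189b86988290360227c90414884831a442421921d214290e90c74824852a432411d21520869080ba24830271241132907d046443e825821e324b28b611e845b08f062d8256716c29c291e0b5848f05a4c478494516b23d18b585a9c5ac4ac62ba12c212b20a2895917945a42d462d253e523d22010ae91d9457516c416a53e324a29c09251051892892c253e45e729f29c19258b51892c8ece538414122f46e10b51050c8ec8b08414374526619819330cb84998658c4cc2a611ba15418dd2409c6e8660a2a845c11540aa30aa0b704660994e33045c516e19718b7240185b854424582a251960aa18a88a98c8b88b069028e824814802a4091608fe4994a45832e51530cc38cb8660c658fc444ca19814801123a3f23c951f51d428fa200347d47a2a3e23b051f11ec68f08f654741120a3da3c051e51e047ee8ea54784762a3b880191d91d068ea8e6346646d1239a37951c916c68e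48b8647228431319429c98c93464c63245263286292f8c90497ca6464be34e725f20839430ee98a18ac0e50a3ba3285208094295814a6498825324406299284395812698774988a49a8e222081a7290422a951c51b828e28b234714613a38a38151591a828e08b2146f45a3a37235191b916ce8da8da145645c1a3691894834a4c641a332120d2763106934048c4a7464622a4723119929341190c9a08c0c4d041c319920b38cc918148309d8241825a320c29d294990704a4c8c8253a45a629d1f912361461481c598640e436120729131038fd107e87e8a2cc488116624638b31460c7e89c823f423661fa246212c123149607a464b051871f71f7092c1488491886ce48c4e4427229139221459891086c648852251f71f8194888d8c7dc7e464e43f2128c11b38fc90d111ad1648436434123046a3a2ca308d1a918c68d28ce345d40c0a33a311519d18ca8cc85e14664642a32a189d1910c028c681e146245d22302309117116828c28b8546145d2a3020705181178a8be818745e40d0a2ea2b8517116c28aa27041a9457222d22b9d16c4e048b48ae545a4582a2c93b148688b4643441c523212d31071058c9d915468b08ac34574553a2b0690867818041b00c0445526418d39100469c64864c44407192,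
  nat_lit 0x4ef0a7ba7b1d379390e9ec9cc14f64e71a7b279853d468c89ea3a024f54e42a7aa72893d088889e89ba14f44dd1a79a79153cd3c849e69e464e72772279273193c93c489d29e221a44e92a78a75853c53b069e29c474f14ee2278275993b53b829e09da34f04ee2a77a708d3bd3a0c9de9c434ee4eb3a7727611358a3089da9c414ed4d61276274153b13a889d69c034eb2581275a709d3a537c69d448c24ea2751274a379081d39489d09be14e84e73272a718539d39889b29c634e64e41a72a72087cc7c889c834c44e31f922712701d38916089c298444e01eb12701468937ca1c49bc4fe24dd4dc20f726d9537136469b898214dc259326e26d0d36d358e9b69b254da4d70a6d26119368a68e9b29ae54d84c11a6c1111936130c69ae3e474d72771a6b1111535935429a495434d54d210d0a6715349340a9a295674d04ab1a6793989339330499a97834cc1891265a5f9532ca40499497814ca21d326492f0d3204ece990520523921c094810a0ca404ecc43c4bc121e4c7390e2631531ca5ce98c4de321d13b290e94d0c889304c9884b234c425c12622609530d308e986442227729a293b8c38930845c43e45341259274212c90f91304a5485344ea41a41a4293a94a8c9d4a5824e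a344627527108d21108c6909c0e34852a52211a309108d0988849ccc52a4127295270291b9048c8dc9cc246e3447274296193a0d1949d12f4698042024bf239125f241912f4354497a34424bc1a2223710484688354a344342527327008d08d090684354e3464e261a105d206a938109c067c64e04e231a3296390493894a589c4852c33e627126f091c937906789bc433e438526f25e294c10a189788502276412221c19f2904a45912ed2e4497497054b94b72a59a57852dd23c696e64664b64b00a5b25a9d2bd2d0a96a95864b448e3a5a256052cd2c4696495874b13231a57a56152bd2b4a95c95824ad4aa2a55a49112a8f04495294c54a74a2225325285289294a93e64834a54a21201a4f15289280a94264a74a03251a4fa0109279258493a93854984920a4e05d0d271244c936926149b49a3a4924c95269254c93218c74990c61a4c24a85261250692e92a34964951200a491525524ca92817464934911a490c79c8484c4c4243203212191090912a9c5e495c22f2920617919128bc8bb1c9585dcc4ac2f01256177092a8bb9463d24062ee2f0325725518bb0d814954640a2f0360619048d38c82468c63c6c0231e32232111b038c88bb05241234a92091c548f48d124714b948511e0852e916348c,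
  nat_lit 0x57e3ac52c4156255f4cb12b00758858132c3abe1d619610ab0ab0475845830ac003f8960d5f0ab06938258257d2ac12c0912fd0184b02afc558154112c02be055fd5184afe7fe257e49812be864895f13fc4af6af2357a5780abaa8b0d5e15d44488ae255755732aba28a9d5cd4546ae44e4257156e1a912b5955b95a8aadaad0556c5211ab5ab48d5a959cead2ace35685660ab1aa60d59958c443eabe55635612ab12a69d5855346ac027a255f55c12af0a8195755702aaa2a0355c4511aad2a7055691486ab21fc255854e2aac2a79555d5546aacaa0555655510eb2a89555554caaa832a75531951aa90c2095446542aa08a2154f19b12a70e7895345d44a98a90354b25512a58d809528ee84a92a8e45485461aa3aa20551d4f8aa8ea8c15435412aa32a11551527c4a88a7e55440b912a1a9f995094f86a820a225404a5129f9fd894f84684a7aa68253c5370a9e29c054ed4c44a762f8253a520129ca78094e14d4aa6ca68553152d1a9a0c9894c94bcaa64a5c35314ee1298084894bc2f04a5ca58452d52b1a96294854b14ac2a50a4c552b5272a950cb094a5490aa5219e25285243293a918d4981d44a4a2a225243eb12918ba149486e464a440412521e631290c0845d060062e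82fc71741b928c00f3846006bcc30024611b917f38dc8f39448c8086246406612318118f38851c79c808a30217a618120639011030c7988bc43cc21451e615510bf85e945fc8c0440640c12031af08bf106085f83b0417a2d2210a51820d7a39086bd488840ca42552251d229085b145bc90462de49c116f25030b79261479458423ca2da31e517038f28849464c78c22123c83109170305b0b6842d8584e3c648251611f431209309c90498463263e8119324e19260b6949387d0e49c3c8616d1e318b80f2045c0940a2e0a4014a75192a9028e8d481468aa3ea3a151e5172a8f28e893b5460aa3aa36551c4a6328da8c9d4692982a329f425184a61a8b8fa0c9409d884c29c2226146c20f226d094593644a2aa2815115031a8a28889401434aa22a1e55105043a87a820d4393984a1aa08150c5060a85a828d42d41cca14a10150a5093a8328415425418ea10a0c35075052a8321b914154044a089ce25034e32a812800d4094042a049ea65024e72a80a7f8d4053d0ea029e675004f4328027f854013d4e9fe9ba64ff4fd227f27d8d3f93f429fc9f064fe4fc1a7ea5c1d3f53eca9f89f614fc4b9327e27c9d3ed3a0e9f49d464fa4e10a7d276953e92e029729f234b94f92a7c277913e52e069f09be64f7,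
  nat_lit 0x22320a109e103e453083863ae40fe075207f824902b02bc80942be41580a3202188e102742788a0408845014db2050a61904d04f481443b8413528e214024908a0046883eca7c21f649510e50bd107246d8838e420425112020fe251087f08d044f850004071f601fd8bd907205ecc1762f430bb09930980840c4c12a4426032820ca57e10e0098106fd278437e22841bd15710de8e50100472407f40de40f61c701ff082184203c0c2f47f4417a54810bd128810187f008064f804051c801fe0820c2643bcc1341e4309a03f304d8991026c3c46136950209b0bb01c509800f04ff082f61e0317b0ca0204883081f0294408a38003ff1bf02010de80f943d807fa0f260f106d30790be103c842007102f403c31be020204c80e1c1e4607e134038509b01e10bd80ef41dc81de0da30ef07c020507d901c830480e27fa406f12a20e21160871045483824fa21c1133305089a94284108c14426830a213508510a090294114085426870a013530500210c28071881ea38c20f50c0207a0e2883d03b808001e2038b0f201dd08200f000fc07081de03bc0310205904904a0820425040e41272061093839081e841480f60e2207b3bc203b8aa903e948c41f48ea20f9072020d038810401bc083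236e40f711920fa932887d497484fc38803f91c101f385080e58288072e1c2413309c18998358c3a82940858140039007a208107d8840877c82063bc21030f5020f87a010601b008220f203bb015021390d904e4868427234440e016a1070092884e018081b234e20d94fa206f8d78837c4a008e224e046f0ea304b0751c25c1e808360f60415077020f08f907394b0439c50241cd47810e687d00fac3e407ec05c04130f701fa8fa80fc49f807e61e603e812920e113e80fa84cc07221d404310eb18ab2188c1ac118085a204041d103020e0370104825080f006004164e120d413b086a009c80c616a2063139022c870011b84e008c21c421a90d9022a86f811c824c08e02ac612a156385584b00ed425c075a0d4041409408750e700fb073407ee0e003f81cc01f90e100fa4388824a8c221251560219035810c01d0085c86430eb078020b8d40116018c08b624a045a1a9022e04f8825049808ac25403b20ab01da07500e943e007e0252115612502302301038917041c425204730eb02178208108038808ae12803a909501d9870884a455807501c4045d0950233037103cc27c081e72240e11a9020689480ea849808ce080409c0f302c6070810302700b1a722058e09f2020ac68d6396304b1ab06658b,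
  nat_lit 0x5ec20572f00d7b17accbd8bd615df5ea2af5af4116e88a08bd4bd065ea5e922f4af08d7a57886bd0b4045e75e012f3adf117996dc8bcabc055e55de12f22ee9178c5a08bc4bbc55e21b822f0aef9d781778ebbebb855dd5c922ee11d0976c5704bb4b9015d95ca12ec85709761754abb0ba225d75c71aeb2e6897582b44baab8e15d45c50ae9ae80d74d73c2ba4ba015d15cd2ae8ae808135724aba0b9c55cf5c932e72e31d7397186b9ab9215cd5cb1ae62e49d72d7246b94a0c45c809e12e421a1171d4108b8c08825c606422e289a097103fc4b843ae25c121422e0109897011d48b7eb6855be5ad2adead9156f16ec2b78b7275bc5b32addadd0d6ed6e0cb76b5855ba5b70add2da9d6e96e06b72b6c15b95ab2adcadc116d56e04376b7015b55ae2adc2d8956dc7f84b6cb5e55b60e912da8b290898a08e44c53612261b831130a414898524815028a50a814818540a3842a0528c15044a414522508a29141c51451ca44a536322528231128e99051c8a4628e454714722908a4115908a4528e452296622929b39141139ca6c520c3a245461481b80914074086e08a8a37044e128214a29139020889c75045043a252821fd11141150452d64882962c4214b0fc20e887e88745658845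436c222a14e10a50a49474c9b463a629211d30fc30e98e90c52472ce2924da51d226d08e913398748670e4dab4845b45ac1ad9ad9056cd6c46b64b5675b25a322d8ad6056c56bccb624ce45ae26708e58ce0c99c73044ce33850fc0d010ce0e58c3f16c08396b6015ae1b712d82d6196c16ac2b5eb2a45af5ab1ad7259916b56748b58b2e45ab20f12d5097896a5660ab50b3675a85992ad3acd15699684ab4ab4625a45a02ad22cf9568d6742b46b2865a35933ad12cd8d6896702b44b2455a25a10a54acd0968567c4b40b24759f5981acfacb1d67963c6b3cb3a559e4b312ceac98d6756506b38b2c559c0b812cdaca0566d5202b3425e459859812ccac785661658cb30b2435975950acb8e3896596482b2cb1e659515e12ca91f8965063c4b26b1e759224012c88b009640a20e40252412011223100944948047f8c2743fc128823e28ff0910c7f8908a524400329228831000f108a20784a5102c8416404c205a09d102cc588a3fa24411fd200089d1448c8548ac242a47c621524209448f09ca248ac64842c4624215e211f0f80c8f87c022c41604162235211a8f0988ac2b482b820c41e116022c7900148ac488e40031042050e920dd823902a453483aa42641ec14f20e610210750340829c2484092,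
  nat_lit 0x29e315c95110ad0a50a54457012a2233395110090a50ac4252855062942a0191994f048cca84a466b6c42332b7215baf488adca80256e55052b72a0131795010a80ae8a54053c72b82b1295c15890a4893ce56254232ba2a8095d150916518404542bdc22a859b2127afe8893d7fc453cc94564f5f21b2732595939934cbe4c98564d61c33262f98d92d8702c96bc6364a6121324af2059217d42c8ec3626465fb132231d0d90d8286c84c4626416251320318058f98e46c7cc78163d639331e3188d8ed7e44c74c7244cb5fe131cb180d8e18c86c6ec6c66326352b1b304198d58202c68c5426336281318b16898c18bc8c5ec5c562f6220b17b0a8d8bd8a0ec5ec48362e6260b17316198b989cec5ac4a162d62b1b16b14158b535c8c58c52562c6251b16315858b13688c56c54562b6243315a80118a98a06c54c44762a6023314b118d8a46b48c50c4e16246261b13b011589c9a84c4ec4c25f06222b1331195895854ac48c4666153772311b11118897c44c44c3426205e70b0faf90587969c8c3ac2e261d5aa230e3079586d84c6c36c34161b6192b0d30b8d86982cec34b76461960f0b0cb089986483c8c30c1a7618610330c3090586185c2c26c2e660e616330bb0b107f98506c2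cc2056166150b0130a098558502c1cc22561460b3309b091584c9008c24c1e361260c3309306858458406c22c20160c23f23082de1183d82c6c1c4c0260e2b22306959098346508c18bf8260c2882305afd098292548c10bf026086051303b03097843a08c0cbee56065ff1b03301998157f82c0ac0036055f82b028e7918117e8ac08bfc36046000b020f11180d7fc2c06bf856034fb23013009d7f980443fe12246015f62b008eb118017ecac002e245ff5fd2aff8c4917f82e08bfabf665fd5f93afeafb8d7f57e8cbf8bf075fc5f61afe03f917ed7e06bf6bec65fb5f732fd2fc8d7e97e42bf0bec75f95f73afc2fb9096977c4bee51425f62b5215515994aa8ad0655456a12aa2b2315513614ad4aac656a51472b519a2935159049a890c64d451462b42ab095a145108d0ac865143fe528a2ab31590cd049807fc64c0566726026c38cd135986689b485664d272b326b1959934847fc9ac2552512426b12220ff8e9109b090cc55648442a91fd2134af5089a57ac4486bb045f55ec12faaed917d16f48be6bd025f35ef12f92f8917c57c0abe2bd215f15ea1af8af01d7c17b82be0bbc65f05ef22cf2f7997ad7bc2bc0bd055ef5de1af7af6197b977c6bdc47445ed5ec2af6af1057b57946bdabd275ed,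
  nat_lit 0x6e6237993609bccad44de455426f12b313782e20dbbdbb88d983a626ee6e91b763750dbada0cedd44da26e96e80b74b7415b9da0c6dd0d0436e71d213730a489b8c2a04dc4db256e26da2b70b6e8db8195c6dbeda426df6561b6f36689b79b70adba29026dd6dc235311309b71b648dac28a26d9225136b36615b59b504daad9656d56d40ada36515b51b446da8d9c56d36d10b6936695b49b448d36da2229b6c92b68b6795b416f8cd9ed9476ce6c90b668a389b316f42d96b7c16ca2291364ae08db208ac4d8ed6c56c75c10b6335a95b19a002d8ad6856c5242136235995b11ac8ad86d6256c22891360b5815b05afc4d80d5e56c06bf0ae035715afdaf06d7ed7256be6bc0b5eb5c15af5af0442ad5a56bc6ba2b5dadf99ae9ab8ed72b7e36b86ad0b5c2e10daddad88d2840026b62921359b408dac9a4c6d6240226b06930b57adf85ab84e84d5a2b226ac6a32b5635215aada94ad5416626a96a62b54b4a89aa17686d4ed3826a716513532ee05a908d44d462c826a069e134fb4f056a5a60ad3cd36369e6972b4eb4d85a71a54ad38d3622366942b4db4c95a696a8cd32b5416986941b4c34b05a5da50cd2cd28169522411120a210890890a4484a83224254091212d98890a3c24b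651e325b25b292d92d8896ca3ce4a851e227b1f1214794794a3c950a4a82e442541b2213d13d149e89e864f44f4127a27b313d13d849ec9ec64f64f6527b67223498a609a4c8144d24310269168a2b48a6789a41a2cad2046e268f68c2b4789d89a39a282d1a43a268d270134626a89a2c9744d143f426896862b44ab589a215b84d0e2cc26865781342a6d89a102844d0626a2682670234085489a045344d003aa267f6782b3fab0099f99e4acfc3b8267d67a2b3eaac899f19e02cf6ab4267b1ee133d2b3099e45184cf014e26776702b3ba3c899d99c4acec4fc26756722b3aa95899d14984ce638626726701b38b37959b99b06cdecd8566d65d1336b361195d9784cd8cc0166a6630b34b341d98199cacd0cc266675363b33b30859999906ccacc276645360b3132d0998597c6cb4b66465f6593b2fb2e1997d9782cbecb0665e65b3b2f32e8d979974acbcc36465d65a0b2eb2e1596d96c4cb8cb0165c60e232e1301196d9642cb6c34465a6581b2c8cd119653ec4cb29fc24fd614232c2d90995d6f04cacc3226555e61b2a2fa0d94d83c4ca4c8c56526472b28b248d941920aca054642a32bb295195c84a8cae0654656e72a32b1195d95784aeca84c57657252af294195795d1cabcae4857254432b9,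
  nat_lit 0x2251295854019c08940cf014e06d947d036e90e911e489848f249605f124a02f08b4105a88bc0bd047605ed0b502ef09f0176056c0baabe6060060703252fd018797e00c9c952053f12002a38bd012886c0092a5002255619031f309018e16ac8b0e09c258722a22c58e38962d6180b36b14059c617031d2bf8168d5040b40b10059558402c92be8164c5808b04b06059e177024e05481b184f00d90a5205ad1c402df08c816909940b628f606570e002f18b40868809c0ba01a605ca04c102e8690173459c0e445480720159111b902888004e80d8045606931c311148a3819cd4ac0dac28a0677479036e0b501788134090415c04880ad02423028192d7e40c3aa7c05a11fc02a412a812498600c72312220f58702cbac5816595f80b5025e458158002cfac10163c5300d8ea5806d51f502da23c01b7c6880bba0ba05c90b4106a91c01c8c8dc0d5846a227020003490c4085688a40ce444a067427e114d913019d8a4044742d004bc04c0241aff018707000b4e3ec059a28002a59078132d6040b30420212f1c303648e701b507340da41aa05dc13b10598ac81a3c9c00d462b4069129b033a92e888d97d0852047404ca23910ae05a012f46240b544a2059912f025f93f01b45ab4827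633e06a40b3034711a81a3087442ca46c068a29002edaea908e4570097c42005a925d034d89d81aa5b70843a4de06a5165034691c81768a040d3843a06a6433223d94b81a9d1ec0e488f007255d4221f3920dc95c8c8d1e5482723721139138c85c85c808d5847027207191b8fb8c0dc7859c4e3ad0c471a575238c38911c5dbf48e2c57642a52a5295292384a948e0654a49072a52af21239531c91ca9cc48e48e52472a70924af810924ab444922ce6249249292495e18a90af0e55855a32bc2ae095e15e14af0af0857855c42ae2b6395712298ab8ab8a55c48a12ac244215615e98ab0ab0a5584e642b62b6295b15684af4a90256cc4c42ad2ad29568b310914914a48a46e42a42a4295215e94af58b8857a57442a62a6295311c0459c920254c2b24238238291c1240ca9ca9ca54ebdc42a72a821241241492059ca2ce57227157122b8ab8689c51c184e2655e27126fe138893589c41c0cae1ce0c570d70a1b86b8395c31c282e16e08570b70a115138295c29c20ae12de867087063b83b7a05c19c148d6052827056f41b823798dc0cac44e04e0027017002b7c37805c01bf46e00df816ff6fd0b7f37e88aedbe4adfadf656fc6f13b7db788dbe8a8c4df2de216f86f20b7b95c09bd8aac4dea55226f4,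
  nat_lit 0x6102818218122c2900a020bc204409e024604e81228aec0dfc5760712247115285901a1891442ce56c0718242037313581c1480445128fa46ae215135707d0153475c0dde17204ac1ce02a606781538754428e4fc0566226033d053815682a40dc6150204725202ff891818045fc0c0853e429f2b7114f91410a709a44538520428524920b6313085b093082d6bee216b23d02f711e017ac2b882ba44005f543e025d0d8013e84a00c6412e06200ec030f8ba017f479c0bec0fe410a0bd02fd085017ec4c042f823e054309b029e8df883c87d8094e380051712010e48df8146426c093e20206401500240b16819488680c24c40064261b03188b0816105b40b10498058a16f02c30848160c6580aa24c2057d0ec0305028814b8a84849c47e224e5eb21208b1889043240a64b06416910a02f90b48191032409660a204af57d10c78bc9c2e85e0c17418c048d177185d0280123c5d821743a406c41d203590e981a005240d8a0ea05581d7107f8f3107585440aaa3ac05bd101032a256014b499c832e29e219723e10cc0a9816e05500b6c4a0057e15102dd0c99065994888e8868066f0cb032f0b7016ac9980b6090205bc0cc02d9903018144e40c92410065113702e40140171434c0a08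088048913602e395781bf4a940e2e2ce071a2ac038f15601c65c640e3cb8016ad6b2036214481ac1ab80d7839e052314d03770ba814b0894428c336052814903408a3819fca6c0cf228a067b04703710a28829daf088fa290247d24b2125b110892c6e08494c0c224a5ba21178f3017cca7c0bd253805ea23a211d942817d05b00be02d605df04d205a8b4817bc5740bd8bea413e0ae109f11c9056c3680ba815a215b5ff3af9b00997cc7580a48c0815f30df030409c818dc49c0c94c14061f5f202fdb040193c5f00952264053e11a02a207901278724094c3f8217a1300252b04106c07284360c7e065560f031831b8192493c8b0c170258619302ceaef916289380b284b4258a24102d12bf1185d8680c86c26063b24102c29270162464c0af812c05e70bc0257096016806608b102bc258814b22c2058096116240b28b0a05a261322beabe016757bc0c880fe04b718f024c05d01241a040d8a1fe05c152402de895017984b00a823e805a311f02568cb816b86600b5e45805b71f402bf8cb016b11d00cac866066c48002d90938181c4a00ca009a20270a402ec82f017186780bac48e0716245038e92281c848e0454856c071f6ad035f92101ac4530445642a06af1d502930ea81b305180dac28c052b,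
  nat_lit 0x136027184f01418ae00de256622b12b911518fd085906840ae2488227326d114913601c0ca884568556070b703115489a017001f4e110170608807e284401b00c842e461100b010880f902af8ee011f487409b844c21ee21f023c08900fb913c09f831604fe0612062a729064088843202f2419124610c88bc013b05e409d6518425521c026d0651060496883002d621801c020bf0b8089446bc839450c062424d0313142818b05b8e32a4cc619526518ca86604654a1083b627a047510001f68c901808a640c5e35a426426a2118b12088c46508464302223221a212010d88900540845a4d0060d29d0308107908c06f00c4645441e51c710f28b7102d8138416c2c0046c20d030a1070182c82c0c364180617211026f909013a45dc09c4350418f26110c7884881fc42040fc2a0322c12f20b80d3010d098088a619a2453614222a27e0915032c088a35a043861b20c60a8188b8540e37453c422e1711117074886e8540215419c06590cd032e0620110d10c0cb41d041b924a10dc8f11080982c440451c052120620f6903887b462484064c606272b00317063813ed13809fa05040640c50225851810e80a0408628004f413f027986d0139c110814827c04ff137028109b882784d8413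a56206f02a3038a95788aec5900d122cc20b227302ba95608ad8a480dd255206f31d2112115a01c28a5044d655207041cf107d1098171022006442ea21ce19b10678e68158c7b808f2114045114910548b890948a7844a412241231ff10918e7905fca9c847a550223d241211e121888f04f8844087404bb0da221f062812e464009d032204ea255027686f906c08200c56170417424f10ba13e1079ca2843ce30205fc18002fb828902f45f80bf2172211f11a104d899087d89440a3c4a021c01ca028c0ee8189465409003b60474264031423a10a10a100ca446206112320306120011ac8b40c1e46006180ed0320b140191852c82c2160216119820b68af085b4968449849e416f0b810b78f28162c2d80b0e2d2410918410cb0f2016089d80c2631e04e1097032105e081441fc0a5e32620c919138630c81831863c618c26210c607e01918a68874c3f840ea3ac215122c02ae0dd1054c6ec42a646641541fe10aa0b80160585c84a037405b522e02dc91790544470086e238066e453032da2a019606300888318065d22e02aeac3905b82dc42dc37405541cb21330db889995740b72aa805b560f20a8055015585400b7815405bb059032f8dc818188080c063da052220302ff142018b5418826e0c804b8,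
  nat_lit 0x14b9ca689bcc5344324298259194c12e08a60888253027671f229030f912f0c7c8888a43c2f0421e277190f0bc08878628218e0c870c805730640c59032062c419031610c8259391c911188e4844842e50e22171f2210b0f988858aac456a4ee6214134210a09d902844e8414242a213521d311110e9c96487c852e22461a011238f786b9c22436cc1121bc30890dd084490e189dc61c44bc53404c629802620f90132087809ac27820a2100306a0801c6b083444be4c4426224b11310669066498043323fc4293233114992f109587ac44ac34822570cb106e8659c638338631c19a118e0cb30c693010634334631a19a218d0ce08c68620c164314c314186618b0c3082b8d29c444238c22214631111ad088886381140320089c18a50640c318320c8106ac9dc83541b440de0c5106f11c8136131084324fe22191a3210c0e80886085c09bc42c04e41a6209b09b90278aa845704e421a12b50387154889b1c38455642804c3213109a05081ab4220806c10c203613d107c89a81ab840063b829021dc222026492c813147b8843a52e04c11cd110f8d0011dc7bc08fc11203781ee18890d70444897c831431c218a4d620bc26b085e096042f24ee04c725e0261137813648c4450c55a424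d16c11269480135c2880b7e1a804761ac023f8ed84400668432453242992a0114c959109a0ac844d047e429d2a1114e92f818549880c443c841601f910b00c710835854441a510420e20211070c61082c6640c1c5260616250210626f10844a3444224ae4212275110912b0138095c09e23f241771e410bb88e08698630a19632a40cb0dd02198cd10339838819a31c045418d022982c811186302188518228e28621319350898caf4856057422b019220638670831c62c889c316244e18a027e0c50113c62c089a0ae044a11101bb8320113088882803562140221209f8d5084fc6ac09ca35404f20de021f0ad813d886409ba43004f5]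
noncomputable def A : List (List (ℕ)) := [A_0]
noncomputable def K_0 : List (ℕ) := [nat_lit 0x41c3b338f6634032e32da1ca2d834f26d2622d62a71ab1e62a31ac19c2e71c819d3073013002252461a616a33d33633834028d28a2822884d933e4611dd21552f3752722482442b82bb4544511fa43c29f2a04494471d94341ef1d01fd1bf1c038b1c15b93991d51d82a229c3875b04c331f37336a1db36831b26726f3661f31f942767c2b538c2bc4d528e2c42c11f633527025d2bd2a91a31d41a41a82ed1f42ec1a930630a2ff28f2811fe2752741c51c21e31431451411be1dc1521601632a11e81e529a26b26018f25f2691c62ba1c92b926126c19a2632591aa18d19b1981a521c23119516443534128924c25221724324a2492451f11ee1d21cf1401461441bd1b92991d61d329b2662651ae2642681f22b41f52b325b25c19325e25a1a21a01a719119e18918a27313a13d14213c10e11118e18c19919712d12812b18819424224b24d24017f13e13b13f1391ad1a119219012a12c12918711010c12412712212617e11910a12e12512012310410711411a103106102105101100000,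
  nat_lit 0x6c463f63c35a3bc48747f39b4823562e24cc4065413a73ed39c3a13e43cc3e13811fc37f5c05bd5b259c4cb38463538337a3ff1cc3a239e3943a53b141d3ab3b038e66d66b6704053ad2df2e12de6623523553503544044002d92dc2d72db35c3531ec3511c441f4b95c267530830230522030b30c2234ec5b739d28437c4d84df33f33c45f28c1de53c52d53253037e5234622476643a96c748e4b74b04af4563235ad45d4ed4f04ef45345043b4484463e33c63e038a3c03aa3ac3b25bf5c35bc5ba3bb3be2a42ae4f64f14f41d73ae5c43893783885a95b34b65aa4ca4c84bd4c632680548836f37136e6365af31e31c3204c43214da36936c36736b1cb2e84b84b11f84b545742341b42642467166e66c6766793af67b38637738d41a4d74de4d439f42252663b33b33a4d64dc2c02c32be3b41d12aa3281da1f03bd4c72ee2eb3423391f73373955c13ee3763b539839a3b92832903b83b63bf3ba3a83043093031ce1c31fb3821df1e01681695b85b11e738531d37b1ed26a26e1c71cd,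
  nat_lit 0x17417317217117016f16e16d16c16b16716616516216115f15e15d15c15b15a15915815715615515415315115014f14e14d14c14b14a14914814713813713613513413313213113012f12111f11e11d11c11b11811711611511311210f10d10b10910880a81173772d73572f73180e6cd6cb6c66c972e49973681080d80f6c26ce6c172b80780981480b73873472c7304c172948b4bf67753e49a5284e652c53a73348c63e48354c7803de3e24803806ca63963d40149c49b45b3a66733cb35b4022dd2e035777d77e30e30d54346653d53853148152b52e52922166a6c36c56cc6c048f6654ba4ae45849e45e59d6c849d5273c53df7813595404864f34f54f277f3795c535859e72a5ab4985ac4c04c281280681348580c4846bf6385ae3273256374c54c94bc32252a80853937236d37073246849047c4be4b445a4b263366f67867267467d67a78241e54653b45c3a054b54752547d4694e14dd4e04db63a4e74204f74ee3dc32446749148d4594bb5244974895b64254215bb5be640632,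
  nat_lit 0x3d43d33d23d13d03cf3ce3cd3ca3c93c83c73c43c33c23c13b73a43a339739639339239139037d37436536436336236136035f35e35d34e34d34c34b34a34934834734634534434333433333233133032f32e32d32c32b32a32931a31931831731631531431331231131030f2fe2fd2fc2fb2fa2f92f82f72f62f52f42f32f22f12f02ef2ea2e92e62e52e42d52d42d32d22d12d02cf2ce2cd2cc2cb2ca2c92c82c72c62c52c22bf2b72b62b22b12b02af2ad2ac2ab2a82a62a529e29d29829729629529429329229128b28728628528027f27e27d27c27b27a27927827727627125825725625525425325125024f24e24123f23e23d23c23b23a23923823723623523423323223022f22e22d22c22b22a22922822722622422221f21e21d21b21a21921821621421321221121020f20e20d20c20b20a2092082072062052042032022012001ff1eb1ea1e91e41e21e11bc1bb1ba1b81b71b61b51b41b31b21b11b01af19f19618b18618518418318218118017d17c17b17a179178177176175,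
  nat_lit 0x58458358258158057f57e57d57c57b57a57957857757657557457357257157056f56e56d56c56b56a56956856756656556456356256156055f55e55d55c55b55a55955855755655555455355255155054f54e54d54a54954854554454253f53753653553453352252152051f51e51d51c51b51a51951851751651551451351251151050f50e50d50c50b50a5095085075065055045035025015004ff4fe4fd4fc4fb4fa4f94f84eb4ea4e94e84e54e44e34e24d34d24d14d04cf4ce4cd4b34ad4ac4ab4aa4a94a84a74a64a54a44a34a24a14a049f49649549449349248a47e47b47a47947847747647547447347247147046f46e46d46c46b46a46546446346045545244f44e44d44c44b44a44544444344244144043f43e43d43a43943843743643343243143042f42e42d42c42b42a42942841941841741641541441341241141040f40e40d40c40b40a4094084073fe3fd3fc3fb3fa3f93f83f73f63f53f43f33f23f13f03ef3ec3eb3ea3e93e83e73e63e53dd3db3da3d93d83d73d63d5,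
  nat_lit 0x6d86d76d66d56d46d36d26d16d06cf6be6bd6bc6bb6ba6b96b86b76b66b56b46b36b26b16b06af6ae6ad6ac6ab6aa6a96a86a76a66a56a46a36a26a16a069f69e69d69c69b69a69969869769669569469369269169068f68e68d68c68b68a68968868768668568468368268168067f67e66966866766666166065f65e65d65c65b65a65965865765665565465365265165064f64e64d64c64b64a64964864764664564464364264163463163062f62e62d62c62b62a62962862762662562462362262162061f61e61d61c61b61a61961861761661561461361261161060f60e60d60c60b60a6096086076066056046036026016005ff5fe5fd5fc5fb5fa5f95f85f75f65f55f45f35f25f15f05ef5ee5ed5ec5eb5ea5e95e85e75e65e55e45e35e25e15e05df5de5dd5dc5db5da5d95d85d75d65d55d45d35d25d15d05cf5ce5cd5cc5cb5ca5c95c85c75c65b55b45a85a75a65a55a45a35a25a15a059f59b59a59959859759659559459359259159058f58e58d58c58b58a589588587586585,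
  nat_lit 0x7ee7ed7ec7eb7ea7e97e87e77e67e57e47e37e27e17e07df7de7dd7dc7db7da7d97d87d77d67d57d47d37d27d17d07cf7ce7cd7cc7cb7ca7c97c87c77c67c57c47c37c27c17c07bf7be7bd7bc7bb7ba7b97b87b77b67b57b47b37b27b17b07af7ae7ad7ac7ab7aa7a97a87a77a67a57a47a37a27a17a079f79e79d79c79b79a79979879779679579479379279179078f78e78d78c78b78a78978878778678578478377c77b77a77977877777677577477377277177076f76e76d76c76b76a76976876776676576476376276176075f75e75d75c75b75a75975875775675575475375275175074f74e74d74c74b74a74974874774674574474374274174073f73e73d73c73b73a73972872772672572472372272172071f71e71d71c71b71a71971871771671571471371271171070f70e70d70c70b70a7097087077067057047037027017006ff6fe6fd6fc6fb6fa6f96f86f76f66f56f46f36f26f16f06ef6ee6ed6ec6eb6ea6e96e86e76e66e56e46e36e26e16e06df6de6dd6dc6db6da6d9,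
  nat_lit 0x82482382282182081f81e81d81c81b81a8198188178168158048038028018007ff7fe7fd7fc7fb7fa7f97f87f77f67f57f47f37f27f17f07ef]
noncomputable def K : List (List (ℕ)) := [K_0]
noncomputable def R_0 : List (Rule) := [Rule.mk (nat_lit 7) (nat_lit 49) (Steps.bwd (nat_lit 7) (Steps.fwd (nat_lit 4096) (Steps.fwd (nat_lit 12288) Steps.nil))) (nat_lit 29) (nat_lit 3),
  Rule.mk (nat_lit 1) (nat_lit 49) (Steps.bwd (nat_lit 7) (Steps.fwd (nat_lit 4096) (Steps.fwd (nat_lit 28672) Steps.nil))) (nat_lit 30) (nat_lit 0),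
  Rule.mk (nat_lit 3) (nat_lit 49) (Steps.bwd (nat_lit 7) (Steps.fwd (nat_lit 12288) (Steps.fwd (nat_lit 28672) Steps.nil))) (nat_lit 32) (nat_lit 0),
  Rule.mk (nat_lit 5) (nat_lit 49) (Steps.bwd (nat_lit 7) (Steps.fwd (nat_lit 20480) (Steps.fwd (nat_lit 28672) Steps.nil))) (nat_lit 34) (nat_lit 0),
  Rule.mk (nat_lit 5) (nat_lit 49) (Steps.bwd (nat_lit 2) (Steps.fwd (nat_lit 20480) (Steps.fwd (nat_lit 8192) Steps.nil))) (nat_lit 18) (nat_lit 0),
  Rule.mk (nat_lit 5) (nat_lit 49) (Steps.bwd (nat_lit 1) (Steps.fwd (nat_lit 20480) (Steps.fwd (nat_lit 4096) Steps.nil))) (nat_lit 12) (nat_lit 0),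
  Rule.mk (nat_lit 2) (nat_lit 75) (Steps.bwd (nat_lit 1) (Steps.bwd (nat_lit 2) (Steps.fwd (nat_lit 4096) (Steps.fwd (nat_lit 8192) (Steps.fwd (nat_lit 4096) Steps.nil))))) (nat_lit 10) (nat_lit 0),
  Rule.mk (nat_lit 3) (nat_lit 140) (Steps.bwd (nat_lit 1) (Steps.bwd (nat_lit 2) (Steps.fwd (nat_lit 28672) (Steps.fwd (nat_lit 8192) (Steps.fwd (nat_lit 4096) (Steps.fwd (nat_lit 12288) (Steps.fwd (nat_lit 8192) (Steps.fwd (nat_lit 20480) (Steps.bwd (nat_lit 7) (Steps.fwd (nat_lit 8192) Steps.nil)))))))))) (nat_lit 38) (nat_lit 3),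
  Rule.mk (nat_lit 6) (nat_lit 49) (Steps.bwd (nat_lit 6) (Steps.fwd (nat_lit 12288) (Steps.fwd (nat_lit 4096) Steps.nil))) (nat_lit 28) (nat_lit 1),
  Rule.mk (nat_lit 1) (nat_lit 49) (Steps.bwd (nat_lit 6) (Steps.bwd (nat_lit 1) (Steps.bwd (nat_lit 7) Steps.nil))) (nat_lit 30) (nat_lit 2),
  Rule.mk (nat_lit 3) (nat_lit 49) (Steps.bwd (nat_lit 6) (Steps.fwd (nat_lit 12288) (Steps.bwd (nat_lit 7) Steps.nil))) (nat_lit 32) (nat_lit 2),
  Rule.mk (nat_lit 5) (nat_lit 49) (Steps.bwd (nat_lit 6) (Steps.fwd (nat_lit 20480) (Steps.fwd (nat_lit 24576) Steps.nil))) (nat_lit 34) (nat_lit 2),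
  Rule.mk (nat_lit 2) (nat_lit 49) (Steps.bwd (nat_lit 4) (Steps.bwd (nat_lit 2) (Steps.fwd (nat_lit 16384) Steps.nil))) (nat_lit 16) (nat_lit 1),
  Rule.mk (nat_lit 2) (nat_lit 49) (Steps.bwd (nat_lit 4) (Steps.fwd (nat_lit 8192) (Steps.fwd (nat_lit 16384) Steps.nil))) (nat_lit 16) (nat_lit 1),
  Rule.mk (nat_lit 3) (nat_lit 140) (Steps.bwd (nat_lit 1) (Steps.bwd (nat_lit 2) (Steps.fwd (nat_lit 28672) (Steps.bwd (nat_lit 2) (Steps.fwd (nat_lit 4096) (Steps.fwd (nat_lit 12288) (Steps.fwd (nat_lit 8192) (Steps.fwd (nat_lit 20480) (Steps.bwd (nat_lit 7) (Steps.fwd (nat_lit 8192) Steps.nil)))))))))) (nat_lit 38) (nat_lit 3),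
  Rule.mk (nat_lit 3) (nat_lit 140) (Steps.bwd (nat_lit 1) (Steps.bwd (nat_lit 2) (Steps.bwd (nat_lit 6) (Steps.fwd (nat_lit 8192) (Steps.bwd (nat_lit 1) (Steps.bwd (nat_lit 3) (Steps.fwd (nat_lit 8192) (Steps.fwd (nat_lit 20480) (Steps.fwd (nat_lit 24576) (Steps.fwd (nat_lit 8192) Steps.nil)))))))))) (nat_lit 38) (nat_lit 3),
  Rule.mk (nat_lit 7) (nat_lit 49) (Steps.bwd (nat_lit 7) (Steps.bwd (nat_lit 1) (Steps.fwd (nat_lit 12288) Steps.nil))) (nat_lit 29) (nat_lit 3),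
  Rule.mk (nat_lit 1) (nat_lit 49) (Steps.bwd (nat_lit 6) (Steps.bwd (nat_lit 6) (Steps.fwd (nat_lit 12288) Steps.nil))) (nat_lit 28) (nat_lit 0),
  Rule.mk (nat_lit 7) (nat_lit 49) (Steps.bwd (nat_lit 1) (Steps.fwd (nat_lit 12288) (Steps.bwd (nat_lit 7) Steps.nil))) (nat_lit 29) (nat_lit 0),
  Rule.mk (nat_lit 6) (nat_lit 49) (Steps.bwd (nat_lit 1) (Steps.fwd (nat_lit 24576) (Steps.fwd (nat_lit 4096) Steps.nil))) (nat_lit 30) (nat_lit 3),
  Rule.mk (nat_lit 6) (nat_lit 49) (Steps.bwd (nat_lit 6) (Steps.fwd (nat_lit 12288) (Steps.bwd (nat_lit 1) Steps.nil))) (nat_lit 28) (nat_lit 1),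
  Rule.mk (nat_lit 5) (nat_lit 127) (Steps.bwd (nat_lit 4) (Steps.fwd (nat_lit 24576) (Steps.bwd (nat_lit 4) (Steps.fwd (nat_lit 28672) (Steps.fwd (nat_lit 20480) (Steps.fwd (nat_lit 16384) (Steps.bwd (nat_lit 7) (Steps.fwd (nat_lit 16384) (Steps.bwd (nat_lit 6) Steps.nil))))))))) (nat_lit 37) (nat_lit 4),
  Rule.mk (nat_lit 5) (nat_lit 49) (Steps.bwd (nat_lit 7) (Steps.fwd (nat_lit 20480) (Steps.bwd (nat_lit 6) Steps.nil))) (nat_lit 34) (nat_lit 0),
  Rule.mk (nat_lit 4) (nat_lit 127) (Steps.bwd (nat_lit 6) (Steps.bwd (nat_lit 4) (Steps.fwd (nat_lit 20480) (Steps.bwd (nat_lit 7) (Steps.fwd (nat_lit 16384) (Steps.fwd (nat_lit 28672) (Steps.fwd (nat_lit 16384) (Steps.bwd (nat_lit 5) (Steps.bwd (nat_lit 7) Steps.nil))))))))) (nat_lit 36) (nat_lit 4),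
  Rule.mk (nat_lit 6) (nat_lit 49) (Steps.fwd (nat_lit 20480) (Steps.fwd (nat_lit 24576) (Steps.bwd (nat_lit 5) Steps.nil))) (nat_lit 34) (nat_lit 3),
  Rule.mk (nat_lit 4) (nat_lit 75) (Steps.fwd (nat_lit 20480) (Steps.bwd (nat_lit 4) (Steps.fwd (nat_lit 20480) (Steps.fwd (nat_lit 16384) (Steps.bwd (nat_lit 5) Steps.nil))))) (nat_lit 24) (nat_lit 1),
  Rule.mk (nat_lit 3) (nat_lit 49) (Steps.bwd (nat_lit 1) (Steps.bwd (nat_lit 6) (Steps.fwd (nat_lit 28672) Steps.nil))) (nat_lit 28) (nat_lit 3),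
  Rule.mk (nat_lit 1) (nat_lit 49) (Steps.bwd (nat_lit 7) (Steps.bwd (nat_lit 1) (Steps.bwd (nat_lit 6) Steps.nil))) (nat_lit 30) (nat_lit 0),
  Rule.mk (nat_lit 3) (nat_lit 49) (Steps.bwd (nat_lit 7) (Steps.bwd (nat_lit 7) (Steps.bwd (nat_lit 1) Steps.nil))) (nat_lit 29) (nat_lit 2),
  Rule.mk (nat_lit 4) (nat_lit 49) (Steps.bwd (nat_lit 2) (Steps.fwd (nat_lit 16384) (Steps.fwd (nat_lit 8192) Steps.nil))) (nat_lit 16) (nat_lit 0),
  Rule.mk (nat_lit 5) (nat_lit 49) (Steps.bwd (nat_lit 2) (Steps.fwd (nat_lit 20480) (Steps.bwd (nat_lit 2) Steps.nil))) (nat_lit 18) (nat_lit 0),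
  Rule.mk (nat_lit 5) (nat_lit 49) (Steps.bwd (nat_lit 6) (Steps.fwd (nat_lit 20480) (Steps.bwd (nat_lit 7) Steps.nil))) (nat_lit 34) (nat_lit 2),
  Rule.mk (nat_lit 3) (nat_lit 49) (Steps.fwd (nat_lit 20480) (Steps.fwd (nat_lit 12288) (Steps.bwd (nat_lit 5) Steps.nil))) (nat_lit 22) (nat_lit 1),
  Rule.mk (nat_lit 3) (nat_lit 49) (Steps.bwd (nat_lit 7) (Steps.fwd (nat_lit 12288) (Steps.bwd (nat_lit 6) Steps.nil))) (nat_lit 32) (nat_lit 0),
  Rule.mk (nat_lit 3) (nat_lit 49) (Steps.bwd (nat_lit 7) (Steps.bwd (nat_lit 7) (Steps.fwd (nat_lit 4096) Steps.nil))) (nat_lit 29) (nat_lit 2),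
  Rule.mk (nat_lit 5) (nat_lit 49) (Steps.fwd (nat_lit 12288) (Steps.bwd (nat_lit 5) (Steps.bwd (nat_lit 3) Steps.nil))) (nat_lit 22) (nat_lit 0),
  Rule.mk (nat_lit 1) (nat_lit 49) (Steps.bwd (nat_lit 6) (Steps.bwd (nat_lit 6) (Steps.bwd (nat_lit 3) Steps.nil))) (nat_lit 28) (nat_lit 0),
  Rule.mk (nat_lit 1) (nat_lit 49) (Steps.bwd (nat_lit 5) (Steps.fwd (nat_lit 4096) (Steps.bwd (nat_lit 5) Steps.nil))) (nat_lit 12) (nat_lit 1),
  Rule.mk (nat_lit 6) (nat_lit 49) (Steps.bwd (nat_lit 5) (Steps.fwd (nat_lit 24576) (Steps.fwd (nat_lit 20480) Steps.nil))) (nat_lit 34) (nat_lit 3),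
  Rule.mk (nat_lit 7) (nat_lit 49) (Steps.bwd (nat_lit 5) (Steps.bwd (nat_lit 6) (Steps.bwd (nat_lit 5) Steps.nil))) (nat_lit 34) (nat_lit 1),
  Rule.mk (nat_lit 5) (nat_lit 49) (Steps.bwd (nat_lit 3) (Steps.bwd (nat_lit 5) (Steps.fwd (nat_lit 12288) Steps.nil))) (nat_lit 22) (nat_lit 0),
  Rule.mk (nat_lit 6) (nat_lit 49) (Steps.bwd (nat_lit 3) (Steps.fwd (nat_lit 4096) (Steps.bwd (nat_lit 6) Steps.nil))) (nat_lit 28) (nat_lit 2),
  Rule.mk (nat_lit 1) (nat_lit 49) (Steps.bwd (nat_lit 3) (Steps.fwd (nat_lit 24576) (Steps.bwd (nat_lit 7) Steps.nil))) (nat_lit 29) (nat_lit 1),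
  Rule.mk (nat_lit 7) (nat_lit 49) (Steps.bwd (nat_lit 3) (Steps.fwd (nat_lit 28672) (Steps.fwd (nat_lit 12288) Steps.nil))) (nat_lit 32) (nat_lit 1),
  Rule.mk (nat_lit 1) (nat_lit 49) (Steps.bwd (nat_lit 5) (Steps.bwd (nat_lit 1) (Steps.fwd (nat_lit 20480) Steps.nil))) (nat_lit 12) (nat_lit 1),
  Rule.mk (nat_lit 3) (nat_lit 49) (Steps.bwd (nat_lit 5) (Steps.fwd (nat_lit 12288) (Steps.fwd (nat_lit 20480) Steps.nil))) (nat_lit 22) (nat_lit 1),
  Rule.mk (nat_lit 6) (nat_lit 49) (Steps.bwd (nat_lit 5) (Steps.bwd (nat_lit 7) (Steps.fwd (nat_lit 20480) Steps.nil))) (nat_lit 34) (nat_lit 3),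
  Rule.mk (nat_lit 7) (nat_lit 49) (Steps.bwd (nat_lit 5) (Steps.fwd (nat_lit 28672) (Steps.bwd (nat_lit 5) Steps.nil))) (nat_lit 34) (nat_lit 1),
  Rule.mk (nat_lit 4) (nat_lit 75) (Steps.bwd (nat_lit 5) (Steps.bwd (nat_lit 4) (Steps.fwd (nat_lit 20480) (Steps.fwd (nat_lit 16384) (Steps.fwd (nat_lit 20480) Steps.nil))))) (nat_lit 24) (nat_lit 1),
  Rule.mk (nat_lit 5) (nat_lit 49) (Steps.bwd (nat_lit 1) (Steps.bwd (nat_lit 5) (Steps.fwd (nat_lit 4096) Steps.nil))) (nat_lit 12) (nat_lit 0),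
  Rule.mk (nat_lit 3) (nat_lit 49) (Steps.bwd (nat_lit 1) (Steps.bwd (nat_lit 6) (Steps.bwd (nat_lit 6) Steps.nil))) (nat_lit 28) (nat_lit 3),
  Rule.mk (nat_lit 1) (nat_lit 49) (Steps.bwd (nat_lit 7) (Steps.fwd (nat_lit 4096) (Steps.bwd (nat_lit 6) Steps.nil))) (nat_lit 30) (nat_lit 0),
  Rule.mk (nat_lit 7) (nat_lit 49) (Steps.bwd (nat_lit 7) (Steps.fwd (nat_lit 4096) (Steps.bwd (nat_lit 3) Steps.nil))) (nat_lit 29) (nat_lit 3),
  Rule.mk (nat_lit 6) (nat_lit 49) (Steps.bwd (nat_lit 6) (Steps.bwd (nat_lit 3) (Steps.fwd (nat_lit 4096) Steps.nil))) (nat_lit 28) (nat_lit 1),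
  Rule.mk (nat_lit 3) (nat_lit 49) (Steps.bwd (nat_lit 6) (Steps.bwd (nat_lit 3) (Steps.bwd (nat_lit 7) Steps.nil))) (nat_lit 32) (nat_lit 2),
  Rule.mk (nat_lit 5) (nat_lit 49) (Steps.bwd (nat_lit 6) (Steps.bwd (nat_lit 5) (Steps.fwd (nat_lit 24576) Steps.nil))) (nat_lit 34) (nat_lit 2),
  Rule.mk (nat_lit 2) (nat_lit 49) (Steps.bwd (nat_lit 5) (Steps.fwd (nat_lit 8192) (Steps.fwd (nat_lit 20480) Steps.nil))) (nat_lit 18) (nat_lit 1),
  Rule.mk (nat_lit 3) (nat_lit 49) (Steps.bwd (nat_lit 5) (Steps.fwd (nat_lit 12288) (Steps.bwd (nat_lit 5) Steps.nil))) (nat_lit 22) (nat_lit 1),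
  Rule.mk (nat_lit 7) (nat_lit 49) (Steps.bwd (nat_lit 5) (Steps.bwd (nat_lit 6) (Steps.fwd (nat_lit 20480) Steps.nil))) (nat_lit 34) (nat_lit 1),
  Rule.mk (nat_lit 6) (nat_lit 49) (Steps.bwd (nat_lit 5) (Steps.bwd (nat_lit 7) (Steps.bwd (nat_lit 5) Steps.nil))) (nat_lit 34) (nat_lit 3),
  Rule.mk (nat_lit 1) (nat_lit 75) (Steps.bwd (nat_lit 2) (Steps.bwd (nat_lit 1) (Steps.fwd (nat_lit 8192) (Steps.fwd (nat_lit 4096) (Steps.fwd (nat_lit 8192) Steps.nil))))) (nat_lit 10) (nat_lit 1),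
  Rule.mk (nat_lit 3) (nat_lit 75) (Steps.bwd (nat_lit 2) (Steps.bwd (nat_lit 3) (Steps.fwd (nat_lit 8192) (Steps.fwd (nat_lit 12288) (Steps.fwd (nat_lit 8192) Steps.nil))))) (nat_lit 14) (nat_lit 0),
  Rule.mk (nat_lit 5) (nat_lit 49) (Steps.bwd (nat_lit 3) (Steps.fwd (nat_lit 20480) (Steps.fwd (nat_lit 12288) Steps.nil))) (nat_lit 22) (nat_lit 0),
  Rule.mk (nat_lit 3) (nat_lit 114) (Steps.bwd (nat_lit 4) (Steps.bwd (nat_lit 3) (Steps.bwd (nat_lit 4) (Steps.fwd (nat_lit 12288) (Steps.fwd (nat_lit 4096) (Steps.fwd (nat_lit 16384) (Steps.fwd (nat_lit 12288) (Steps.fwd (nat_lit 16384) Steps.nil)))))))) (nat_lit 20) (nat_lit 5)]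
noncomputable def R_1 : List (Rule) := [Rule.mk (nat_lit 0) (nat_lit 127) (Steps.bwd (nat_lit 4) (Steps.bwd (nat_lit 3) (Steps.fwd (nat_lit 4096) (Steps.fwd (nat_lit 16384) (Steps.fwd (nat_lit 12288) (Steps.bwd (nat_lit 4) (Steps.bwd (nat_lit 3) (Steps.bwd (nat_lit 4) (Steps.fwd (nat_lit 12288) Steps.nil))))))))) (nat_lit 20) (nat_lit 7),
  Rule.mk (nat_lit 0) (nat_lit 49) (Steps.fwd (nat_lit 8192) (Steps.fwd (nat_lit 0) (Steps.fwd (nat_lit 8192) Steps.nil))) (nat_lit 42) (nat_lit 0),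
  Rule.mk (nat_lit 0) (nat_lit 49) (Steps.fwd (nat_lit 16384) (Steps.fwd (nat_lit 0) (Steps.fwd (nat_lit 16384) Steps.nil))) (nat_lit 42) (nat_lit 0),
  Rule.mk (nat_lit 1) (nat_lit 36) (Steps.bwd (nat_lit 0) (Steps.bwd (nat_lit 1) Steps.nil)) (nat_lit 42) (nat_lit 0),
  Rule.mk (nat_lit 0) (nat_lit 49) (Steps.fwd (nat_lit 12288) (Steps.fwd (nat_lit 0) (Steps.fwd (nat_lit 12288) Steps.nil))) (nat_lit 42) (nat_lit 0),
  Rule.mk (nat_lit 0) (nat_lit 49) (Steps.fwd (nat_lit 20480) (Steps.fwd (nat_lit 0) (Steps.bwd (nat_lit 5) Steps.nil))) (nat_lit 42) (nat_lit 0),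
  Rule.mk (nat_lit 0) (nat_lit 49) (Steps.fwd (nat_lit 28672) (Steps.fwd (nat_lit 0) (Steps.fwd (nat_lit 24576) Steps.nil))) (nat_lit 42) (nat_lit 0),
  Rule.mk (nat_lit 0) (nat_lit 49) (Steps.fwd (nat_lit 24576) (Steps.bwd (nat_lit 0) (Steps.fwd (nat_lit 28672) Steps.nil))) (nat_lit 42) (nat_lit 0),
  Rule.mk (nat_lit 0) (nat_lit 49) (Steps.fwd (nat_lit 4096) (Steps.fwd (nat_lit 0) (Steps.fwd (nat_lit 4096) Steps.nil))) (nat_lit 42) (nat_lit 0),
  Rule.mk (nat_lit 0) (nat_lit 49) (Steps.fwd (nat_lit 20480) (Steps.bwd (nat_lit 0) (Steps.bwd (nat_lit 5) Steps.nil))) (nat_lit 42) (nat_lit 0),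
  Rule.mk (nat_lit 0) (nat_lit 49) (Steps.bwd (nat_lit 7) (Steps.fwd (nat_lit 0) (Steps.bwd (nat_lit 6) Steps.nil))) (nat_lit 42) (nat_lit 0),
  Rule.mk (nat_lit 6) (nat_lit 36) (Steps.bwd (nat_lit 0) (Steps.fwd (nat_lit 24576) Steps.nil)) (nat_lit 42) (nat_lit 0),
  Rule.mk (nat_lit 1) (nat_lit 36) (Steps.bwd (nat_lit 0) (Steps.fwd (nat_lit 4096) Steps.nil)) (nat_lit 42) (nat_lit 0),
  Rule.mk (nat_lit 4) (nat_lit 36) (Steps.bwd (nat_lit 0) (Steps.fwd (nat_lit 16384) Steps.nil)) (nat_lit 42) (nat_lit 0),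
  Rule.mk (nat_lit 3) (nat_lit 36) (Steps.bwd (nat_lit 0) (Steps.fwd (nat_lit 12288) Steps.nil)) (nat_lit 42) (nat_lit 0),
  Rule.mk (nat_lit 5) (nat_lit 36) (Steps.bwd (nat_lit 0) (Steps.fwd (nat_lit 20480) Steps.nil)) (nat_lit 42) (nat_lit 0),
  Rule.mk (nat_lit 2) (nat_lit 36) (Steps.bwd (nat_lit 0) (Steps.bwd (nat_lit 2) Steps.nil)) (nat_lit 42) (nat_lit 0),
  Rule.mk (nat_lit 1) (nat_lit 114) (Steps.bwd (nat_lit 4) (Steps.bwd (nat_lit 3) (Steps.bwd (nat_lit 4) (Steps.fwd (nat_lit 12288) (Steps.fwd (nat_lit 16384) (Steps.fwd (nat_lit 12288) (Steps.fwd (nat_lit 16384) (Steps.fwd (nat_lit 12288) Steps.nil)))))))) (nat_lit 20) (nat_lit 1),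
  Rule.mk (nat_lit 5) (nat_lit 127) (Steps.bwd (nat_lit 4) (Steps.bwd (nat_lit 7) (Steps.bwd (nat_lit 4) (Steps.bwd (nat_lit 6) (Steps.bwd (nat_lit 5) (Steps.bwd (nat_lit 4) (Steps.fwd (nat_lit 24576) (Steps.fwd (nat_lit 16384) (Steps.fwd (nat_lit 28672) Steps.nil))))))))) (nat_lit 37) (nat_lit 4),
  Rule.mk (nat_lit 2) (nat_lit 49) (Steps.bwd (nat_lit 5) (Steps.fwd (nat_lit 8192) (Steps.bwd (nat_lit 5) Steps.nil))) (nat_lit 18) (nat_lit 1),
  Rule.mk (nat_lit 4) (nat_lit 49) (Steps.bwd (nat_lit 2) (Steps.bwd (nat_lit 4) (Steps.fwd (nat_lit 8192) Steps.nil))) (nat_lit 16) (nat_lit 0),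
  Rule.mk (nat_lit 5) (nat_lit 75) (Steps.bwd (nat_lit 4) (Steps.fwd (nat_lit 20480) (Steps.bwd (nat_lit 4) (Steps.bwd (nat_lit 5) (Steps.fwd (nat_lit 16384) Steps.nil))))) (nat_lit 24) (nat_lit 0),
  Rule.mk (nat_lit 3) (nat_lit 114) (Steps.bwd (nat_lit 4) (Steps.bwd (nat_lit 3) (Steps.bwd (nat_lit 4) (Steps.bwd (nat_lit 3) (Steps.bwd (nat_lit 1) (Steps.fwd (nat_lit 16384) (Steps.fwd (nat_lit 12288) (Steps.fwd (nat_lit 16384) Steps.nil)))))))) (nat_lit 20) (nat_lit 5),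
  Rule.mk (nat_lit 0) (nat_lit 127) (Steps.bwd (nat_lit 4) (Steps.bwd (nat_lit 3) (Steps.fwd (nat_lit 4096) (Steps.fwd (nat_lit 16384) (Steps.fwd (nat_lit 12288) (Steps.bwd (nat_lit 4) (Steps.bwd (nat_lit 3) (Steps.bwd (nat_lit 4) (Steps.bwd (nat_lit 3) Steps.nil))))))))) (nat_lit 20) (nat_lit 7),
  Rule.mk (nat_lit 0) (nat_lit 49) (Steps.bwd (nat_lit 1) (Steps.bwd (nat_lit 0) (Steps.bwd (nat_lit 1) Steps.nil))) (nat_lit 42) (nat_lit 0),
  Rule.mk (nat_lit 0) (nat_lit 49) (Steps.bwd (nat_lit 3) (Steps.bwd (nat_lit 0) (Steps.bwd (nat_lit 3) Steps.nil))) (nat_lit 42) (nat_lit 0),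
  Rule.mk (nat_lit 0) (nat_lit 49) (Steps.bwd (nat_lit 5) (Steps.bwd (nat_lit 0) (Steps.bwd (nat_lit 5) Steps.nil))) (nat_lit 42) (nat_lit 0),
  Rule.mk (nat_lit 0) (nat_lit 49) (Steps.bwd (nat_lit 6) (Steps.bwd (nat_lit 0) (Steps.bwd (nat_lit 7) Steps.nil))) (nat_lit 42) (nat_lit 0),
  Rule.mk (nat_lit 3) (nat_lit 36) (Steps.bwd (nat_lit 0) (Steps.bwd (nat_lit 3) Steps.nil)) (nat_lit 42) (nat_lit 0),
  Rule.mk (nat_lit 0) (nat_lit 62) (Steps.bwd (nat_lit 4) (Steps.bwd (nat_lit 0) (Steps.fwd (nat_lit 16384) (Steps.fwd (nat_lit 0) Steps.nil)))) (nat_lit 42) (nat_lit 0),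
  Rule.mk (nat_lit 5) (nat_lit 36) (Steps.bwd (nat_lit 0) (Steps.bwd (nat_lit 5) Steps.nil)) (nat_lit 42) (nat_lit 0),
  Rule.mk (nat_lit 7) (nat_lit 36) (Steps.bwd (nat_lit 0) (Steps.bwd (nat_lit 6) Steps.nil)) (nat_lit 42) (nat_lit 0),
  Rule.mk (nat_lit 4) (nat_lit 36) (Steps.bwd (nat_lit 0) (Steps.bwd (nat_lit 4) Steps.nil)) (nat_lit 42) (nat_lit 0),
  Rule.mk (nat_lit 4) (nat_lit 114) (Steps.bwd (nat_lit 1) (Steps.fwd (nat_lit 12288) (Steps.bwd (nat_lit 4) (Steps.bwd (nat_lit 3) (Steps.bwd (nat_lit 4) (Steps.bwd (nat_lit 3) (Steps.fwd (nat_lit 16384) (Steps.bwd (nat_lit 3) Steps.nil)))))))) (nat_lit 21) (nat_lit 8),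
  Rule.mk (nat_lit 3) (nat_lit 114) (Steps.fwd (nat_lit 16384) (Steps.fwd (nat_lit 12288) (Steps.bwd (nat_lit 4) (Steps.fwd (nat_lit 12288) (Steps.fwd (nat_lit 16384) (Steps.fwd (nat_lit 12288) (Steps.fwd (nat_lit 16384) (Steps.fwd (nat_lit 4096) Steps.nil)))))))) (nat_lit 21) (nat_lit 1),
  Rule.mk (nat_lit 1) (nat_lit 49) (Steps.bwd (nat_lit 6) (Steps.fwd (nat_lit 28672) (Steps.fwd (nat_lit 12288) Steps.nil))) (nat_lit 28) (nat_lit 0),
  Rule.mk (nat_lit 3) (nat_lit 49) (Steps.bwd (nat_lit 6) (Steps.fwd (nat_lit 12288) (Steps.fwd (nat_lit 24576) Steps.nil))) (nat_lit 32) (nat_lit 2),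
  Rule.mk (nat_lit 5) (nat_lit 49) (Steps.bwd (nat_lit 2) (Steps.bwd (nat_lit 5) (Steps.fwd (nat_lit 8192) Steps.nil))) (nat_lit 18) (nat_lit 0),
  Rule.mk (nat_lit 3) (nat_lit 75) (Steps.bwd (nat_lit 2) (Steps.fwd (nat_lit 12288) (Steps.fwd (nat_lit 8192) (Steps.bwd (nat_lit 3) (Steps.fwd (nat_lit 8192) Steps.nil))))) (nat_lit 14) (nat_lit 0),
  Rule.mk (nat_lit 6) (nat_lit 127) (Steps.bwd (nat_lit 4) (Steps.bwd (nat_lit 5) (Steps.fwd (nat_lit 24576) (Steps.bwd (nat_lit 4) (Steps.bwd (nat_lit 6) (Steps.fwd (nat_lit 16384) (Steps.bwd (nat_lit 5) (Steps.fwd (nat_lit 24576) (Steps.fwd (nat_lit 16384) Steps.nil))))))))) (nat_lit 36) (nat_lit 0),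
  Rule.mk (nat_lit 7) (nat_lit 127) (Steps.bwd (nat_lit 4) (Steps.bwd (nat_lit 6) (Steps.bwd (nat_lit 5) (Steps.bwd (nat_lit 4) (Steps.bwd (nat_lit 7) (Steps.fwd (nat_lit 16384) (Steps.bwd (nat_lit 6) (Steps.bwd (nat_lit 5) (Steps.fwd (nat_lit 16384) Steps.nil))))))))) (nat_lit 37) (nat_lit 1),
  Rule.mk (nat_lit 6) (nat_lit 127) (Steps.bwd (nat_lit 4) (Steps.bwd (nat_lit 5) (Steps.fwd (nat_lit 24576) (Steps.bwd (nat_lit 4) (Steps.fwd (nat_lit 28672) (Steps.fwd (nat_lit 16384) (Steps.bwd (nat_lit 5) (Steps.bwd (nat_lit 7) (Steps.fwd (nat_lit 16384) Steps.nil))))))))) (nat_lit 36) (nat_lit 0),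
  Rule.mk (nat_lit 7) (nat_lit 127) (Steps.bwd (nat_lit 4) (Steps.bwd (nat_lit 6) (Steps.bwd (nat_lit 5) (Steps.bwd (nat_lit 4) (Steps.fwd (nat_lit 24576) (Steps.fwd (nat_lit 16384) (Steps.bwd (nat_lit 6) (Steps.bwd (nat_lit 5) (Steps.fwd (nat_lit 16384) Steps.nil))))))))) (nat_lit 37) (nat_lit 1),
  Rule.mk (nat_lit 2) (nat_lit 75) (Steps.bwd (nat_lit 1) (Steps.bwd (nat_lit 2) (Steps.bwd (nat_lit 1) (Steps.fwd (nat_lit 8192) (Steps.fwd (nat_lit 4096) Steps.nil))))) (nat_lit 10) (nat_lit 0),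
  Rule.mk (nat_lit 2) (nat_lit 75) (Steps.bwd (nat_lit 3) (Steps.bwd (nat_lit 2) (Steps.bwd (nat_lit 3) (Steps.fwd (nat_lit 8192) (Steps.bwd (nat_lit 3) Steps.nil))))) (nat_lit 14) (nat_lit 1),
  Rule.mk (nat_lit 3) (nat_lit 114) (Steps.bwd (nat_lit 4) (Steps.bwd (nat_lit 3) (Steps.bwd (nat_lit 4) (Steps.bwd (nat_lit 3) (Steps.fwd (nat_lit 4096) (Steps.fwd (nat_lit 16384) (Steps.fwd (nat_lit 12288) (Steps.fwd (nat_lit 16384) Steps.nil)))))))) (nat_lit 20) (nat_lit 5),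
  Rule.mk (nat_lit 0) (nat_lit 49) (Steps.fwd (nat_lit 20480) (Steps.fwd (nat_lit 0) (Steps.fwd (nat_lit 20480) Steps.nil))) (nat_lit 42) (nat_lit 0),
  Rule.mk (nat_lit 4) (nat_lit 49) (Steps.bwd (nat_lit 0) (Steps.fwd (nat_lit 16384) (Steps.fwd (nat_lit 0) Steps.nil))) (nat_lit 42) (nat_lit 0),
  Rule.mk (nat_lit 0) (nat_lit 49) (Steps.bwd (nat_lit 6) (Steps.fwd (nat_lit 0) (Steps.bwd (nat_lit 7) Steps.nil))) (nat_lit 42) (nat_lit 0),
  Rule.mk (nat_lit 0) (nat_lit 49) (Steps.fwd (nat_lit 24576) (Steps.fwd (nat_lit 0) (Steps.fwd (nat_lit 28672) Steps.nil))) (nat_lit 42) (nat_lit 0),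
  Rule.mk (nat_lit 2) (nat_lit 36) (Steps.bwd (nat_lit 0) (Steps.fwd (nat_lit 8192) Steps.nil)) (nat_lit 42) (nat_lit 0),
  Rule.mk (nat_lit 5) (nat_lit 127) (Steps.bwd (nat_lit 7) (Steps.bwd (nat_lit 4) (Steps.fwd (nat_lit 28672) (Steps.bwd (nat_lit 4) (Steps.fwd (nat_lit 20480) (Steps.fwd (nat_lit 24576) (Steps.fwd (nat_lit 16384) (Steps.bwd (nat_lit 6) (Steps.fwd (nat_lit 16384) Steps.nil))))))))) (nat_lit 36) (nat_lit 2),
  Rule.mk (nat_lit 5) (nat_lit 75) (Steps.bwd (nat_lit 4) (Steps.fwd (nat_lit 20480) (Steps.bwd (nat_lit 4) (Steps.fwd (nat_lit 20480) (Steps.fwd (nat_lit 16384) Steps.nil))))) (nat_lit 24) (nat_lit 0),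
  Rule.mk (nat_lit 7) (nat_lit 127) (Steps.bwd (nat_lit 4) (Steps.bwd (nat_lit 6) (Steps.fwd (nat_lit 20480) (Steps.bwd (nat_lit 4) (Steps.bwd (nat_lit 7) (Steps.fwd (nat_lit 16384) (Steps.fwd (nat_lit 28672) (Steps.fwd (nat_lit 20480) (Steps.fwd (nat_lit 16384) Steps.nil))))))))) (nat_lit 37) (nat_lit 1),
  Rule.mk (nat_lit 2) (nat_lit 49) (Steps.bwd (nat_lit 4) (Steps.bwd (nat_lit 2) (Steps.bwd (nat_lit 4) Steps.nil))) (nat_lit 16) (nat_lit 1),
  Rule.mk (nat_lit 2) (nat_lit 49) (Steps.bwd (nat_lit 5) (Steps.bwd (nat_lit 2) (Steps.fwd (nat_lit 20480) Steps.nil))) (nat_lit 18) (nat_lit 1),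
  Rule.mk (nat_lit 4) (nat_lit 75) (Steps.bwd (nat_lit 5) (Steps.fwd (nat_lit 16384) (Steps.fwd (nat_lit 20480) (Steps.fwd (nat_lit 16384) (Steps.fwd (nat_lit 20480) Steps.nil))))) (nat_lit 24) (nat_lit 1),
  Rule.mk (nat_lit 6) (nat_lit 127) (Steps.bwd (nat_lit 5) (Steps.bwd (nat_lit 4) (Steps.fwd (nat_lit 24576) (Steps.bwd (nat_lit 4) (Steps.fwd (nat_lit 28672) (Steps.fwd (nat_lit 20480) (Steps.fwd (nat_lit 16384) (Steps.fwd (nat_lit 24576) (Steps.fwd (nat_lit 16384) Steps.nil))))))))) (nat_lit 37) (nat_lit 3),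
  Rule.mk (nat_lit 7) (nat_lit 49) (Steps.bwd (nat_lit 5) (Steps.fwd (nat_lit 28672) (Steps.fwd (nat_lit 20480) Steps.nil))) (nat_lit 34) (nat_lit 1),
  Rule.mk (nat_lit 4) (nat_lit 127) (Steps.bwd (nat_lit 6) (Steps.bwd (nat_lit 4) (Steps.bwd (nat_lit 5) (Steps.bwd (nat_lit 7) (Steps.fwd (nat_lit 16384) (Steps.fwd (nat_lit 28672) (Steps.fwd (nat_lit 16384) (Steps.fwd (nat_lit 20480) (Steps.bwd (nat_lit 7) Steps.nil))))))))) (nat_lit 36) (nat_lit 4),
  Rule.mk (nat_lit 2) (nat_lit 49) (Steps.bwd (nat_lit 4) (Steps.fwd (nat_lit 8192) (Steps.bwd (nat_lit 4) Steps.nil))) (nat_lit 16) (nat_lit 1),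
  Rule.mk (nat_lit 4) (nat_lit 75) (Steps.bwd (nat_lit 5) (Steps.bwd (nat_lit 4) (Steps.bwd (nat_lit 5) (Steps.fwd (nat_lit 16384) (Steps.fwd (nat_lit 20480) Steps.nil))))) (nat_lit 24) (nat_lit 1),
  Rule.mk (nat_lit 5) (nat_lit 75) (Steps.bwd (nat_lit 4) (Steps.bwd (nat_lit 5) (Steps.bwd (nat_lit 4) (Steps.bwd (nat_lit 5) (Steps.fwd (nat_lit 16384) Steps.nil))))) (nat_lit 24) (nat_lit 0),
  Rule.mk (nat_lit 3) (nat_lit 75) (Steps.bwd (nat_lit 2) (Steps.bwd (nat_lit 3) (Steps.fwd (nat_lit 8192) (Steps.bwd (nat_lit 3) (Steps.fwd (nat_lit 8192) Steps.nil))))) (nat_lit 14) (nat_lit 0)]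
noncomputable def R_2 : List (Rule) := [Rule.mk (nat_lit 2) (nat_lit 75) (Steps.bwd (nat_lit 3) (Steps.bwd (nat_lit 2) (Steps.bwd (nat_lit 3) (Steps.fwd (nat_lit 8192) (Steps.fwd (nat_lit 12288) Steps.nil))))) (nat_lit 14) (nat_lit 1),
  Rule.mk (nat_lit 6) (nat_lit 127) (Steps.bwd (nat_lit 5) (Steps.bwd (nat_lit 4) (Steps.fwd (nat_lit 24576) (Steps.bwd (nat_lit 4) (Steps.bwd (nat_lit 6) (Steps.fwd (nat_lit 20480) (Steps.fwd (nat_lit 16384) (Steps.bwd (nat_lit 7) (Steps.fwd (nat_lit 16384) Steps.nil))))))))) (nat_lit 37) (nat_lit 3),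
  Rule.mk (nat_lit 4) (nat_lit 127) (Steps.bwd (nat_lit 6) (Steps.bwd (nat_lit 4) (Steps.bwd (nat_lit 5) (Steps.fwd (nat_lit 24576) (Steps.fwd (nat_lit 16384) (Steps.bwd (nat_lit 6) (Steps.fwd (nat_lit 16384) (Steps.fwd (nat_lit 20480) (Steps.bwd (nat_lit 7) Steps.nil))))))))) (nat_lit 36) (nat_lit 4),
  Rule.mk (nat_lit 5) (nat_lit 75) (Steps.bwd (nat_lit 4) (Steps.bwd (nat_lit 5) (Steps.bwd (nat_lit 4) (Steps.fwd (nat_lit 20480) (Steps.fwd (nat_lit 16384) Steps.nil))))) (nat_lit 24) (nat_lit 0),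
  Rule.mk (nat_lit 5) (nat_lit 127) (Steps.bwd (nat_lit 7) (Steps.bwd (nat_lit 4) (Steps.bwd (nat_lit 6) (Steps.bwd (nat_lit 4) (Steps.fwd (nat_lit 20480) (Steps.bwd (nat_lit 7) (Steps.fwd (nat_lit 16384) (Steps.bwd (nat_lit 6) (Steps.fwd (nat_lit 16384) Steps.nil))))))))) (nat_lit 36) (nat_lit 2),
  Rule.mk (nat_lit 7) (nat_lit 127) (Steps.bwd (nat_lit 4) (Steps.bwd (nat_lit 6) (Steps.fwd (nat_lit 20480) (Steps.bwd (nat_lit 4) (Steps.fwd (nat_lit 24576) (Steps.fwd (nat_lit 16384) (Steps.bwd (nat_lit 6) (Steps.bwd (nat_lit 5) (Steps.fwd (nat_lit 16384) Steps.nil))))))))) (nat_lit 37) (nat_lit 1),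
  Rule.mk (nat_lit 0) (nat_lit 49) (Steps.fwd (nat_lit 8192) (Steps.fwd (nat_lit 0) (Steps.bwd (nat_lit 2) Steps.nil))) (nat_lit 42) (nat_lit 0),
  Rule.mk (nat_lit 3) (nat_lit 114) (Steps.bwd (nat_lit 4) (Steps.bwd (nat_lit 3) (Steps.fwd (nat_lit 4096) (Steps.bwd (nat_lit 4) (Steps.fwd (nat_lit 12288) (Steps.fwd (nat_lit 16384) (Steps.fwd (nat_lit 12288) (Steps.fwd (nat_lit 16384) Steps.nil)))))))) (nat_lit 20) (nat_lit 7),
  Rule.mk (nat_lit 1) (nat_lit 75) (Steps.bwd (nat_lit 2) (Steps.fwd (nat_lit 4096) (Steps.bwd (nat_lit 2) (Steps.fwd (nat_lit 4096) (Steps.fwd (nat_lit 8192) Steps.nil))))) (nat_lit 10) (nat_lit 1),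
  Rule.mk (nat_lit 3) (nat_lit 49) (Steps.fwd (nat_lit 28672) (Steps.fwd (nat_lit 12288) (Steps.bwd (nat_lit 7) Steps.nil))) (nat_lit 32) (nat_lit 2),
  Rule.mk (nat_lit 1) (nat_lit 49) (Steps.bwd (nat_lit 7) (Steps.bwd (nat_lit 1) (Steps.fwd (nat_lit 28672) Steps.nil))) (nat_lit 30) (nat_lit 0),
  Rule.mk (nat_lit 7) (nat_lit 49) (Steps.bwd (nat_lit 1) (Steps.fwd (nat_lit 12288) (Steps.fwd (nat_lit 24576) Steps.nil))) (nat_lit 29) (nat_lit 0),
  Rule.mk (nat_lit 4) (nat_lit 322) (Steps.bwd (nat_lit 7) (Steps.fwd (nat_lit 16384) (Steps.bwd (nat_lit 2) (Steps.fwd (nat_lit 12288) (Steps.bwd (nat_lit 1) (Steps.fwd (nat_lit 8192) (Steps.bwd (nat_lit 4) (Steps.fwd (nat_lit 28672) (Steps.fwd (nat_lit 16384) (Steps.fwd (nat_lit 8192) (Steps.fwd (nat_lit 4096) (Steps.fwd (nat_lit 12288) (Steps.fwd (nat_lit 8192) (Steps.fwd (nat_lit 12288) (Steps.fwd (nat_lit 20480) (Steps.fwd (nat_lit 16384) (Steps.bwd (nat_lit 7) (Steps.fwd (nat_lit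 16384) (Steps.bwd (nat_lit 2) (Steps.fwd (nat_lit 12288) (Steps.bwd (nat_lit 1) (Steps.fwd (nat_lit 8192) (Steps.bwd (nat_lit 5) (Steps.bwd (nat_lit 7) Steps.nil)))))))))))))))))))))))) (nat_lit 40) (nat_lit 1),
  Rule.mk (nat_lit 3) (nat_lit 140) (Steps.bwd (nat_lit 2) (Steps.fwd (nat_lit 20480) (Steps.fwd (nat_lit 24576) (Steps.bwd (nat_lit 2) (Steps.fwd (nat_lit 12288) (Steps.bwd (nat_lit 1) (Steps.fwd (nat_lit 8192) (Steps.bwd (nat_lit 6) (Steps.fwd (nat_lit 8192) (Steps.fwd (nat_lit 4096) Steps.nil)))))))))) (nat_lit 38) (nat_lit 9),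
  Rule.mk (nat_lit 3) (nat_lit 49) (Steps.bwd (nat_lit 1) (Steps.fwd (nat_lit 28672) (Steps.fwd (nat_lit 28672) Steps.nil))) (nat_lit 28) (nat_lit 3),
  Rule.mk (nat_lit 4) (nat_lit 322) (Steps.bwd (nat_lit 6) (Steps.bwd (nat_lit 4) (Steps.fwd (nat_lit 20480) (Steps.fwd (nat_lit 12288) (Steps.bwd (nat_lit 2) (Steps.fwd (nat_lit 12288) (Steps.bwd (nat_lit 1) (Steps.fwd (nat_lit 8192) (Steps.bwd (nat_lit 4) (Steps.bwd (nat_lit 7) (Steps.fwd (nat_lit 16384) (Steps.fwd (nat_lit 8192) (Steps.fwd (nat_lit 4096) (Steps.fwd (nat_lit 12288) (Steps.fwd (nat_lit 8192) (Steps.fwd (nat_lit 16384) (Steps.fwd (nat_lit 28672) (Steps.fwd (nat_lit 16384) (Steps.bwd (nat_lit 6) (Steps.bwd (nat_lit 5) (Steps.fwd (nat_lit 8192) (Steps.fwd (nat_lit 4096) (Steps.fwd (nat_lit 12288) (Steps.bwd (nat_lit 2) Steps.nil)))))))))))))))))))))))) (nat_lit 41) (nat_lit 7),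
  Rule.mk (nat_lit 0) (nat_lit 335) (Steps.bwd (nat_lit 1) (Steps.bwd (nat_lit 3) (Steps.fwd (nat_lit 8192) (Steps.fwd (nat_lit 12288) (Steps.fwd (nat_lit 20480) (Steps.bwd (nat_lit 4) (Steps.bwd (nat_lit 7) (Steps.fwd (nat_lit 16384) (Steps.fwd (nat_lit 8192) (Steps.bwd (nat_lit 3) (Steps.fwd (nat_lit 4096) (Steps.bwd (nat_lit 2) (Steps.bwd (nat_lit 5) (Steps.bwd (nat_lit 7) (Steps.fwd (nat_lit 16384) (Steps.fwd (nat_lit 24576) (Steps.fwd (nat_lit 16384) (Steps.fwd (nat_lit 8192) (Steps.bwd (nat_lit 3) (Steps.bwd (nat_lit 1) (Steps.bwd (nat_lit 2) (Steps.bwd (nat_lit 4) (Steps.fwd (nat_lit 28672) (Steps.fwd (nat_lit 16384) (Steps.bwd (nat_lit 2) Steps.nil))))))))))))))))))))))))) (nat_lit 40) (nat_lit 11),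
  Rule.mk (nat_lit 0) (nat_lit 49) (Steps.bwd (nat_lit 3) (Steps.bwd (nat_lit 0) (Steps.fwd (nat_lit 12288) Steps.nil))) (nat_lit 42) (nat_lit 0),
  Rule.mk (nat_lit 5) (nat_lit 49) (Steps.bwd (nat_lit 6) (Steps.bwd (nat_lit 5) (Steps.bwd (nat_lit 7) Steps.nil))) (nat_lit 34) (nat_lit 2),
  Rule.mk (nat_lit 1) (nat_lit 49) (Steps.bwd (nat_lit 3) (Steps.bwd (nat_lit 7) (Steps.fwd (nat_lit 24576) Steps.nil))) (nat_lit 29) (nat_lit 1),
  Rule.mk (nat_lit 6) (nat_lit 49) (Steps.bwd (nat_lit 3) (Steps.bwd (nat_lit 7) (Steps.fwd (nat_lit 12288) Steps.nil))) (nat_lit 32) (nat_lit 3),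
  Rule.mk (nat_lit 3) (nat_lit 49) (Steps.bwd (nat_lit 7) (Steps.fwd (nat_lit 24576) (Steps.bwd (nat_lit 1) Steps.nil))) (nat_lit 29) (nat_lit 2),
  Rule.mk (nat_lit 5) (nat_lit 49) (Steps.fwd (nat_lit 4096) (Steps.fwd (nat_lit 20480) (Steps.bwd (nat_lit 1) Steps.nil))) (nat_lit 12) (nat_lit 0),
  Rule.mk (nat_lit 3) (nat_lit 75) (Steps.bwd (nat_lit 2) (Steps.fwd (nat_lit 12288) (Steps.bwd (nat_lit 2) (Steps.bwd (nat_lit 3) (Steps.fwd (nat_lit 8192) Steps.nil))))) (nat_lit 14) (nat_lit 0),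
  Rule.mk (nat_lit 2) (nat_lit 75) (Steps.bwd (nat_lit 1) (Steps.bwd (nat_lit 2) (Steps.fwd (nat_lit 4096) (Steps.bwd (nat_lit 2) (Steps.fwd (nat_lit 4096) Steps.nil))))) (nat_lit 10) (nat_lit 0),
  Rule.mk (nat_lit 1) (nat_lit 140) (Steps.bwd (nat_lit 3) (Steps.fwd (nat_lit 8192) (Steps.bwd (nat_lit 5) (Steps.fwd (nat_lit 24576) (Steps.bwd (nat_lit 2) (Steps.fwd (nat_lit 12288) (Steps.bwd (nat_lit 1) (Steps.bwd (nat_lit 2) (Steps.bwd (nat_lit 6) (Steps.fwd (nat_lit 8192) Steps.nil)))))))))) (nat_lit 38) (nat_lit 8),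
  Rule.mk (nat_lit 2) (nat_lit 49) (Steps.fwd (nat_lit 20480) (Steps.bwd (nat_lit 2) (Steps.bwd (nat_lit 5) Steps.nil))) (nat_lit 18) (nat_lit 1),
  Rule.mk (nat_lit 0) (nat_lit 335) (Steps.bwd (nat_lit 4) (Steps.bwd (nat_lit 2) (Steps.fwd (nat_lit 4096) (Steps.fwd (nat_lit 12288) (Steps.fwd (nat_lit 8192) (Steps.bwd (nat_lit 4) (Steps.bwd (nat_lit 6) (Steps.fwd (nat_lit 16384) (Steps.fwd (nat_lit 28672) (Steps.fwd (nat_lit 20480) (Steps.bwd (nat_lit 2) (Steps.fwd (nat_lit 4096) (Steps.bwd (nat_lit 3) (Steps.fwd (nat_lit 8192) (Steps.bwd (nat_lit 4) (Steps.fwd (nat_lit 28672) (Steps.fwd (nat_lit 16384) (Steps.bwd (nat_lit 5) (Steps.fwd (nat_lit 12288) (Steps.fwd (nat_lit 8192) (Steps.bwd (nat_lit 3) (Steps.bwd (nat_lit 1) (Steps.bwd (nat_lit 2) (Steps.bwd (nat_lit 4) (Steps.fwd (nat_lit 24576) Steps.nil))))))))))))))))))))))))) (nat_lit 41) (nat_lit 17),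
  Rule.mk (nat_lit 0) (nat_lit 49) (Steps.bwd (nat_lit 5) (Steps.fwd (nat_lit 0) (Steps.bwd (nat_lit 5) Steps.nil))) (nat_lit 42) (nat_lit 0),
  Rule.mk (nat_lit 0) (nat_lit 49) (Steps.bwd (nat_lit 1) (Steps.fwd (nat_lit 0) (Steps.fwd (nat_lit 4096) Steps.nil))) (nat_lit 42) (nat_lit 0),
  Rule.mk (nat_lit 3) (nat_lit 114) (Steps.bwd (nat_lit 4) (Steps.fwd (nat_lit 12288) (Steps.fwd (nat_lit 16384) (Steps.bwd (nat_lit 3) (Steps.bwd (nat_lit 1) (Steps.bwd (nat_lit 4) (Steps.bwd (nat_lit 3) (Steps.fwd (nat_lit 16384) Steps.nil)))))))) (nat_lit 20) (nat_lit 5),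
  Rule.mk (nat_lit 0) (nat_lit 88) (Steps.fwd (nat_lit 12288) (Steps.fwd (nat_lit 8192) (Steps.fwd (nat_lit 12288) (Steps.bwd (nat_lit 2) (Steps.fwd (nat_lit 12288) (Steps.fwd (nat_lit 8192) Steps.nil)))))) (nat_lit 14) (nat_lit 1),
  Rule.mk (nat_lit 0) (nat_lit 49) (Steps.fwd (nat_lit 16384) (Steps.fwd (nat_lit 0) (Steps.bwd (nat_lit 4) Steps.nil))) (nat_lit 42) (nat_lit 0),
  Rule.mk (nat_lit 0) (nat_lit 49) (Steps.fwd (nat_lit 4096) (Steps.fwd (nat_lit 0) (Steps.bwd (nat_lit 1) Steps.nil))) (nat_lit 42) (nat_lit 0),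
  Rule.mk (nat_lit 0) (nat_lit 49) (Steps.bwd (nat_lit 3) (Steps.fwd (nat_lit 0) (Steps.bwd (nat_lit 3) Steps.nil))) (nat_lit 42) (nat_lit 0),
  Rule.mk (nat_lit 0) (nat_lit 49) (Steps.bwd (nat_lit 2) (Steps.fwd (nat_lit 0) (Steps.fwd (nat_lit 8192) Steps.nil))) (nat_lit 42) (nat_lit 0),
  Rule.mk (nat_lit 0) (nat_lit 49) (Steps.bwd (nat_lit 4) (Steps.fwd (nat_lit 0) (Steps.fwd (nat_lit 16384) Steps.nil))) (nat_lit 42) (nat_lit 0),
  Rule.mk (nat_lit 0) (nat_lit 49) (Steps.fwd (nat_lit 28672) (Steps.bwd (nat_lit 0) (Steps.fwd (nat_lit 24576) Steps.nil))) (nat_lit 42) (nat_lit 0),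
  Rule.mk (nat_lit 0) (nat_lit 49) (Steps.fwd (nat_lit 28672) (Steps.fwd (nat_lit 0) (Steps.bwd (nat_lit 7) Steps.nil))) (nat_lit 42) (nat_lit 0),
  Rule.mk (nat_lit 7) (nat_lit 36) (Steps.bwd (nat_lit 0) (Steps.fwd (nat_lit 28672) Steps.nil)) (nat_lit 42) (nat_lit 0),
  Rule.mk (nat_lit 0) (nat_lit 49) (Steps.fwd (nat_lit 8192) (Steps.bwd (nat_lit 0) (Steps.fwd (nat_lit 8192) Steps.nil))) (nat_lit 42) (nat_lit 0),
  Rule.mk (nat_lit 6) (nat_lit 36) (Steps.bwd (nat_lit 0) (Steps.bwd (nat_lit 7) Steps.nil)) (nat_lit 42) (nat_lit 0),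
  Rule.mk (nat_lit 0) (nat_lit 49) (Steps.fwd (nat_lit 12288) (Steps.fwd (nat_lit 0) (Steps.bwd (nat_lit 3) Steps.nil))) (nat_lit 42) (nat_lit 0),
  Rule.mk (nat_lit 0) (nat_lit 49) (Steps.bwd (nat_lit 6) (Steps.fwd (nat_lit 0) (Steps.fwd (nat_lit 24576) Steps.nil))) (nat_lit 42) (nat_lit 0),
  Rule.mk (nat_lit 0) (nat_lit 49) (Steps.fwd (nat_lit 24576) (Steps.fwd (nat_lit 0) (Steps.bwd (nat_lit 6) Steps.nil))) (nat_lit 42) (nat_lit 0),
  Rule.mk (nat_lit 5) (nat_lit 49) (Steps.bwd (nat_lit 3) (Steps.bwd (nat_lit 5) (Steps.bwd (nat_lit 3) Steps.nil))) (nat_lit 22) (nat_lit 0),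
  Rule.mk (nat_lit 2) (nat_lit 49) (Steps.fwd (nat_lit 20480) (Steps.fwd (nat_lit 8192) (Steps.bwd (nat_lit 5) Steps.nil))) (nat_lit 18) (nat_lit 1),
  Rule.mk (nat_lit 2) (nat_lit 75) (Steps.fwd (nat_lit 12288) (Steps.bwd (nat_lit 2) (Steps.fwd (nat_lit 12288) (Steps.fwd (nat_lit 8192) (Steps.bwd (nat_lit 3) Steps.nil))))) (nat_lit 14) (nat_lit 1),
  Rule.mk (nat_lit 1) (nat_lit 140) (Steps.bwd (nat_lit 3) (Steps.bwd (nat_lit 2) (Steps.fwd (nat_lit 20480) (Steps.fwd (nat_lit 24576) (Steps.fwd (nat_lit 8192) (Steps.bwd (nat_lit 3) (Steps.fwd (nat_lit 4096) (Steps.fwd (nat_lit 8192) (Steps.bwd (nat_lit 6) (Steps.fwd (nat_lit 8192) Steps.nil)))))))))) (nat_lit 38) (nat_lit 8),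
  Rule.mk (nat_lit 1) (nat_lit 75) (Steps.bwd (nat_lit 2) (Steps.fwd (nat_lit 4096) (Steps.bwd (nat_lit 2) (Steps.bwd (nat_lit 1) (Steps.fwd (nat_lit 8192) Steps.nil))))) (nat_lit 10) (nat_lit 1),
  Rule.mk (nat_lit 3) (nat_lit 75) (Steps.bwd (nat_lit 2) (Steps.bwd (nat_lit 3) (Steps.bwd (nat_lit 2) (Steps.bwd (nat_lit 3) (Steps.fwd (nat_lit 8192) Steps.nil))))) (nat_lit 14) (nat_lit 0),
  Rule.mk (nat_lit 6) (nat_lit 49) (Steps.bwd (nat_lit 5) (Steps.fwd (nat_lit 24576) (Steps.bwd (nat_lit 5) Steps.nil))) (nat_lit 34) (nat_lit 3),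
  Rule.mk (nat_lit 7) (nat_lit 49) (Steps.bwd (nat_lit 1) (Steps.bwd (nat_lit 6) (Steps.bwd (nat_lit 1) Steps.nil))) (nat_lit 30) (nat_lit 1),
  Rule.mk (nat_lit 5) (nat_lit 49) (Steps.fwd (nat_lit 12288) (Steps.fwd (nat_lit 20480) (Steps.bwd (nat_lit 3) Steps.nil))) (nat_lit 22) (nat_lit 0),
  Rule.mk (nat_lit 5) (nat_lit 49) (Steps.bwd (nat_lit 2) (Steps.bwd (nat_lit 5) (Steps.bwd (nat_lit 2) Steps.nil))) (nat_lit 18) (nat_lit 0),
  Rule.mk (nat_lit 3) (nat_lit 75) (Steps.bwd (nat_lit 2) (Steps.fwd (nat_lit 12288) (Steps.bwd (nat_lit 2) (Steps.fwd (nat_lit 12288) (Steps.fwd (nat_lit 8192) Steps.nil))))) (nat_lit 14) (nat_lit 0),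
  Rule.mk (nat_lit 7) (nat_lit 49) (Steps.bwd (nat_lit 7) (Steps.bwd (nat_lit 1) (Steps.bwd (nat_lit 3) Steps.nil))) (nat_lit 29) (nat_lit 3),
  Rule.mk (nat_lit 5) (nat_lit 49) (Steps.bwd (nat_lit 7) (Steps.bwd (nat_lit 5) (Steps.bwd (nat_lit 6) Steps.nil))) (nat_lit 34) (nat_lit 0),
  Rule.mk (nat_lit 5) (nat_lit 49) (Steps.bwd (nat_lit 1) (Steps.bwd (nat_lit 5) (Steps.bwd (nat_lit 1) Steps.nil))) (nat_lit 12) (nat_lit 0),
  Rule.mk (nat_lit 5) (nat_lit 75) (Steps.bwd (nat_lit 4) (Steps.fwd (nat_lit 20480) (Steps.fwd (nat_lit 16384) (Steps.fwd (nat_lit 20480) (Steps.fwd (nat_lit 16384) Steps.nil))))) (nat_lit 24) (nat_lit 0),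
  Rule.mk (nat_lit 5) (nat_lit 75) (Steps.bwd (nat_lit 4) (Steps.fwd (nat_lit 20480) (Steps.bwd (nat_lit 4) (Steps.fwd (nat_lit 20480) (Steps.bwd (nat_lit 4) Steps.nil))))) (nat_lit 24) (nat_lit 0),
  Rule.mk (nat_lit 1) (nat_lit 49) (Steps.fwd (nat_lit 20480) (Steps.fwd (nat_lit 4096) (Steps.bwd (nat_lit 5) Steps.nil))) (nat_lit 12) (nat_lit 1),
  Rule.mk (nat_lit 5) (nat_lit 75) (Steps.bwd (nat_lit 4) (Steps.fwd (nat_lit 20480) (Steps.fwd (nat_lit 16384) (Steps.fwd (nat_lit 20480) (Steps.bwd (nat_lit 4) Steps.nil))))) (nat_lit 24) (nat_lit 0),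
  Rule.mk (nat_lit 4) (nat_lit 127) (Steps.bwd (nat_lit 7) (Steps.fwd (nat_lit 16384) (Steps.bwd (nat_lit 6) (Steps.fwd (nat_lit 20480) (Steps.bwd (nat_lit 4) (Steps.bwd (nat_lit 7) (Steps.bwd (nat_lit 4) (Steps.fwd (nat_lit 28672) (Steps.bwd (nat_lit 5) Steps.nil))))))))) (nat_lit 37) (nat_lit 0)]
noncomputable def R_3 : List (Rule) := [Rule.mk (nat_lit 2) (nat_lit 75) (Steps.bwd (nat_lit 1) (Steps.fwd (nat_lit 8192) (Steps.fwd (nat_lit 4096) (Steps.bwd (nat_lit 2) (Steps.fwd (nat_lit 4096) Steps.nil))))) (nat_lit 10) (nat_lit 0),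
  Rule.mk (nat_lit 3) (nat_lit 140) (Steps.bwd (nat_lit 1) (Steps.fwd (nat_lit 8192) (Steps.fwd (nat_lit 28672) (Steps.fwd (nat_lit 8192) (Steps.fwd (nat_lit 4096) (Steps.fwd (nat_lit 12288) (Steps.fwd (nat_lit 8192) (Steps.fwd (nat_lit 20480) (Steps.bwd (nat_lit 7) (Steps.fwd (nat_lit 8192) Steps.nil)))))))))) (nat_lit 38) (nat_lit 3),
  Rule.mk (nat_lit 3) (nat_lit 140) (Steps.bwd (nat_lit 1) (Steps.fwd (nat_lit 8192) (Steps.fwd (nat_lit 28672) (Steps.fwd (nat_lit 8192) (Steps.fwd (nat_lit 4096) (Steps.fwd (nat_lit 12288) (Steps.bwd (nat_lit 2) (Steps.bwd (nat_lit 5) (Steps.fwd (nat_lit 24576) (Steps.fwd (nat_lit 8192) Steps.nil)))))))))) (nat_lit 38) (nat_lit 3),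
  Rule.mk (nat_lit 1) (nat_lit 49) (Steps.bwd (nat_lit 6) (Steps.bwd (nat_lit 1) (Steps.fwd (nat_lit 24576) Steps.nil))) (nat_lit 30) (nat_lit 2),
  Rule.mk (nat_lit 3) (nat_lit 49) (Steps.bwd (nat_lit 5) (Steps.bwd (nat_lit 3) (Steps.bwd (nat_lit 5) Steps.nil))) (nat_lit 22) (nat_lit 1),
  Rule.mk (nat_lit 5) (nat_lit 49) (Steps.bwd (nat_lit 7) (Steps.bwd (nat_lit 5) (Steps.fwd (nat_lit 28672) Steps.nil))) (nat_lit 34) (nat_lit 0),
  Rule.mk (nat_lit 3) (nat_lit 49) (Steps.bwd (nat_lit 6) (Steps.bwd (nat_lit 3) (Steps.fwd (nat_lit 24576) Steps.nil))) (nat_lit 32) (nat_lit 2),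
  Rule.mk (nat_lit 3) (nat_lit 49) (Steps.bwd (nat_lit 7) (Steps.fwd (nat_lit 24576) (Steps.fwd (nat_lit 4096) Steps.nil))) (nat_lit 29) (nat_lit 2),
  Rule.mk (nat_lit 2) (nat_lit 75) (Steps.bwd (nat_lit 3) (Steps.bwd (nat_lit 2) (Steps.fwd (nat_lit 12288) (Steps.fwd (nat_lit 8192) (Steps.bwd (nat_lit 3) Steps.nil))))) (nat_lit 14) (nat_lit 1),
  Rule.mk (nat_lit 2) (nat_lit 75) (Steps.bwd (nat_lit 3) (Steps.fwd (nat_lit 8192) (Steps.fwd (nat_lit 12288) (Steps.bwd (nat_lit 2) (Steps.fwd (nat_lit 12288) Steps.nil))))) (nat_lit 14) (nat_lit 1),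
  Rule.mk (nat_lit 1) (nat_lit 75) (Steps.bwd (nat_lit 2) (Steps.bwd (nat_lit 1) (Steps.fwd (nat_lit 8192) (Steps.bwd (nat_lit 1) (Steps.bwd (nat_lit 2) Steps.nil))))) (nat_lit 10) (nat_lit 1),
  Rule.mk (nat_lit 7) (nat_lit 49) (Steps.bwd (nat_lit 1) (Steps.bwd (nat_lit 6) (Steps.fwd (nat_lit 4096) Steps.nil))) (nat_lit 30) (nat_lit 1),
  Rule.mk (nat_lit 6) (nat_lit 49) (Steps.bwd (nat_lit 1) (Steps.bwd (nat_lit 7) (Steps.bwd (nat_lit 1) Steps.nil))) (nat_lit 30) (nat_lit 3),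
  Rule.mk (nat_lit 5) (nat_lit 49) (Steps.bwd (nat_lit 3) (Steps.fwd (nat_lit 20480) (Steps.bwd (nat_lit 3) Steps.nil))) (nat_lit 22) (nat_lit 0),
  Rule.mk (nat_lit 1) (nat_lit 49) (Steps.bwd (nat_lit 6) (Steps.fwd (nat_lit 28672) (Steps.bwd (nat_lit 3) Steps.nil))) (nat_lit 28) (nat_lit 0),
  Rule.mk (nat_lit 6) (nat_lit 49) (Steps.bwd (nat_lit 6) (Steps.bwd (nat_lit 3) (Steps.bwd (nat_lit 1) Steps.nil))) (nat_lit 28) (nat_lit 1),
  Rule.mk (nat_lit 3) (nat_lit 49) (Steps.bwd (nat_lit 1) (Steps.fwd (nat_lit 28672) (Steps.bwd (nat_lit 6) Steps.nil))) (nat_lit 28) (nat_lit 3),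
  Rule.mk (nat_lit 6) (nat_lit 49) (Steps.bwd (nat_lit 1) (Steps.bwd (nat_lit 7) (Steps.fwd (nat_lit 4096) Steps.nil))) (nat_lit 30) (nat_lit 3),
  Rule.mk (nat_lit 7) (nat_lit 49) (Steps.bwd (nat_lit 3) (Steps.bwd (nat_lit 6) (Steps.bwd (nat_lit 3) Steps.nil))) (nat_lit 32) (nat_lit 1),
  Rule.mk (nat_lit 7) (nat_lit 49) (Steps.bwd (nat_lit 1) (Steps.fwd (nat_lit 28672) (Steps.fwd (nat_lit 4096) Steps.nil))) (nat_lit 30) (nat_lit 1),
  Rule.mk (nat_lit 7) (nat_lit 49) (Steps.bwd (nat_lit 1) (Steps.bwd (nat_lit 3) (Steps.fwd (nat_lit 24576) Steps.nil))) (nat_lit 29) (nat_lit 0),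
  Rule.mk (nat_lit 1) (nat_lit 49) (Steps.bwd (nat_lit 5) (Steps.bwd (nat_lit 1) (Steps.bwd (nat_lit 5) Steps.nil))) (nat_lit 12) (nat_lit 1),
  Rule.mk (nat_lit 4) (nat_lit 114) (Steps.bwd (nat_lit 3) (Steps.bwd (nat_lit 4) (Steps.fwd (nat_lit 12288) (Steps.bwd (nat_lit 1) (Steps.fwd (nat_lit 16384) (Steps.fwd (nat_lit 12288) (Steps.fwd (nat_lit 16384) (Steps.fwd (nat_lit 12288) Steps.nil)))))))) (nat_lit 20) (nat_lit 6),
  Rule.mk (nat_lit 1) (nat_lit 114) (Steps.bwd (nat_lit 4) (Steps.bwd (nat_lit 3) (Steps.bwd (nat_lit 4) (Steps.fwd (nat_lit 12288) (Steps.fwd (nat_lit 16384) (Steps.bwd (nat_lit 3) (Steps.fwd (nat_lit 16384) (Steps.fwd (nat_lit 12288) Steps.nil)))))))) (nat_lit 20) (nat_lit 1),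
  Rule.mk (nat_lit 0) (nat_lit 127) (Steps.bwd (nat_lit 1) (Steps.fwd (nat_lit 12288) (Steps.bwd (nat_lit 4) (Steps.bwd (nat_lit 3) (Steps.bwd (nat_lit 4) (Steps.fwd (nat_lit 12288) (Steps.fwd (nat_lit 16384) (Steps.bwd (nat_lit 3) (Steps.fwd (nat_lit 16384) Steps.nil))))))))) (nat_lit 21) (nat_lit 8),
  Rule.mk (nat_lit 1) (nat_lit 75) (Steps.bwd (nat_lit 2) (Steps.fwd (nat_lit 4096) (Steps.fwd (nat_lit 8192) (Steps.bwd (nat_lit 1) (Steps.fwd (nat_lit 8192) Steps.nil))))) (nat_lit 10) (nat_lit 1),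
  Rule.mk (nat_lit 1) (nat_lit 49) (Steps.bwd (nat_lit 5) (Steps.fwd (nat_lit 4096) (Steps.fwd (nat_lit 20480) Steps.nil))) (nat_lit 12) (nat_lit 1),
  Rule.mk (nat_lit 1) (nat_lit 49) (Steps.bwd (nat_lit 6) (Steps.fwd (nat_lit 4096) (Steps.fwd (nat_lit 24576) Steps.nil))) (nat_lit 30) (nat_lit 2),
  Rule.mk (nat_lit 4) (nat_lit 127) (Steps.bwd (nat_lit 6) (Steps.bwd (nat_lit 4) (Steps.fwd (nat_lit 20480) (Steps.bwd (nat_lit 7) (Steps.fwd (nat_lit 16384) (Steps.bwd (nat_lit 6) (Steps.bwd (nat_lit 4) (Steps.bwd (nat_lit 5) (Steps.fwd (nat_lit 24576) Steps.nil))))))))) (nat_lit 36) (nat_lit 4),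
  Rule.mk (nat_lit 3) (nat_lit 49) (Steps.fwd (nat_lit 20480) (Steps.bwd (nat_lit 3) (Steps.bwd (nat_lit 5) Steps.nil))) (nat_lit 22) (nat_lit 1),
  Rule.mk (nat_lit 4) (nat_lit 127) (Steps.bwd (nat_lit 7) (Steps.fwd (nat_lit 16384) (Steps.fwd (nat_lit 28672) (Steps.fwd (nat_lit 20480) (Steps.fwd (nat_lit 16384) (Steps.fwd (nat_lit 24576) (Steps.fwd (nat_lit 16384) (Steps.fwd (nat_lit 28672) (Steps.bwd (nat_lit 5) Steps.nil))))))))) (nat_lit 37) (nat_lit 0),
  Rule.mk (nat_lit 4) (nat_lit 322) (Steps.bwd (nat_lit 2) (Steps.fwd (nat_lit 12288) (Steps.bwd (nat_lit 1) (Steps.fwd (nat_lit 8192) (Steps.bwd (nat_lit 4) (Steps.fwd (nat_lit 28672) (Steps.bwd (nat_lit 4) (Steps.fwd (nat_lit 8192) (Steps.fwd (nat_lit 4096) (Steps.bwd (nat_lit 3) (Steps.fwd (nat_lit 8192) (Steps.fwd (nat_lit 12288) (Steps.bwd (nat_lit 5) (Steps.bwd (nat_lit 4) (Steps.fwd (nat_lit 24576) (Steps.bwd (nat_lit 4) (Steps.bwd (nat_lit 2) (Steps.bwd (nat_lit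 3) (Steps.fwd (nat_lit 4096) (Steps.bwd (nat_lit 2) (Steps.fwd (nat_lit 20480) (Steps.fwd (nat_lit 24576) (Steps.bwd (nat_lit 4) (Steps.bwd (nat_lit 7) Steps.nil)))))))))))))))))))))))) (nat_lit 40) (nat_lit 3),
  Rule.mk (nat_lit 2) (nat_lit 75) (Steps.bwd (nat_lit 3) (Steps.bwd (nat_lit 2) (Steps.fwd (nat_lit 12288) (Steps.fwd (nat_lit 8192) (Steps.fwd (nat_lit 12288) Steps.nil))))) (nat_lit 14) (nat_lit 1),
  Rule.mk (nat_lit 1) (nat_lit 322) (Steps.bwd (nat_lit 3) (Steps.bwd (nat_lit 2) (Steps.fwd (nat_lit 16384) (Steps.bwd (nat_lit 6) (Steps.fwd (nat_lit 16384) (Steps.bwd (nat_lit 6) (Steps.bwd (nat_lit 5) (Steps.bwd (nat_lit 2) (Steps.fwd (nat_lit 4096) (Steps.bwd (nat_lit 3) (Steps.fwd (nat_lit 8192) (Steps.fwd (nat_lit 16384) (Steps.fwd (nat_lit 28672) (Steps.fwd (nat_lit 16384) (Steps.bwd (nat_lit 5) (Steps.fwd (nat_lit 12288) (Steps.fwd (nat_lit 8192) (Steps.fwd (nat_lit 12288) (Steps.fwd (nat_lit 4096) (Steps.fwd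 (nat_lit 8192) (Steps.fwd (nat_lit 16384) (Steps.bwd (nat_lit 7) (Steps.bwd (nat_lit 4) (Steps.fwd (nat_lit 8192) Steps.nil)))))))))))))))))))))))) (nat_lit 41) (nat_lit 20),
  Rule.mk (nat_lit 2) (nat_lit 140) (Steps.bwd (nat_lit 5) (Steps.fwd (nat_lit 24576) (Steps.fwd (nat_lit 8192) (Steps.fwd (nat_lit 12288) (Steps.fwd (nat_lit 4096) (Steps.bwd (nat_lit 2) (Steps.bwd (nat_lit 6) (Steps.fwd (nat_lit 8192) (Steps.fwd (nat_lit 4096) (Steps.fwd (nat_lit 12288) Steps.nil)))))))))) (nat_lit 38) (nat_lit 10),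
  Rule.mk (nat_lit 2) (nat_lit 75) (Steps.bwd (nat_lit 3) (Steps.fwd (nat_lit 8192) (Steps.bwd (nat_lit 3) (Steps.bwd (nat_lit 2) (Steps.bwd (nat_lit 3) Steps.nil))))) (nat_lit 14) (nat_lit 1),
  Rule.mk (nat_lit 4) (nat_lit 49) (Steps.fwd (nat_lit 8192) (Steps.fwd (nat_lit 16384) (Steps.bwd (nat_lit 2) Steps.nil))) (nat_lit 16) (nat_lit 0),
  Rule.mk (nat_lit 3) (nat_lit 75) (Steps.bwd (nat_lit 2) (Steps.fwd (nat_lit 12288) (Steps.fwd (nat_lit 8192) (Steps.fwd (nat_lit 12288) (Steps.bwd (nat_lit 2) Steps.nil))))) (nat_lit 14) (nat_lit 0),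
  Rule.mk (nat_lit 3) (nat_lit 140) (Steps.bwd (nat_lit 1) (Steps.bwd (nat_lit 2) (Steps.bwd (nat_lit 6) (Steps.fwd (nat_lit 8192) (Steps.fwd (nat_lit 4096) (Steps.fwd (nat_lit 12288) (Steps.fwd (nat_lit 8192) (Steps.fwd (nat_lit 20480) (Steps.fwd (nat_lit 24576) (Steps.fwd (nat_lit 8192) Steps.nil)))))))))) (nat_lit 38) (nat_lit 3),
  Rule.mk (nat_lit 4) (nat_lit 114) (Steps.bwd (nat_lit 3) (Steps.bwd (nat_lit 4) (Steps.fwd (nat_lit 12288) (Steps.bwd (nat_lit 4) (Steps.fwd (nat_lit 12288) (Steps.fwd (nat_lit 4096) (Steps.fwd (nat_lit 16384) (Steps.bwd (nat_lit 3) Steps.nil)))))))) (nat_lit 20) (nat_lit 4),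
  Rule.mk (nat_lit 4) (nat_lit 114) (Steps.fwd (nat_lit 12288) (Steps.fwd (nat_lit 4096) (Steps.bwd (nat_lit 4) (Steps.bwd (nat_lit 3) (Steps.bwd (nat_lit 4) (Steps.fwd (nat_lit 12288) (Steps.bwd (nat_lit 4) (Steps.fwd (nat_lit 12288) Steps.nil)))))))) (nat_lit 20) (nat_lit 8),
  Rule.mk (nat_lit 0) (nat_lit 127) (Steps.bwd (nat_lit 3) (Steps.bwd (nat_lit 4) (Steps.fwd (nat_lit 12288) (Steps.bwd (nat_lit 4) (Steps.fwd (nat_lit 12288) (Steps.bwd (nat_lit 4) (Steps.fwd (nat_lit 12288) (Steps.fwd (nat_lit 16384) (Steps.fwd (nat_lit 4096) Steps.nil))))))))) (nat_lit 21) (nat_lit 0),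
  Rule.mk (nat_lit 0) (nat_lit 49) (Steps.fwd (nat_lit 12288) (Steps.bwd (nat_lit 0) (Steps.bwd (nat_lit 3) Steps.nil))) (nat_lit 42) (nat_lit 0),
  Rule.mk (nat_lit 0) (nat_lit 49) (Steps.bwd (nat_lit 4) (Steps.fwd (nat_lit 0) (Steps.bwd (nat_lit 4) Steps.nil))) (nat_lit 42) (nat_lit 0),
  Rule.mk (nat_lit 0) (nat_lit 62) (Steps.bwd (nat_lit 1) (Steps.bwd (nat_lit 0) (Steps.fwd (nat_lit 4096) (Steps.fwd (nat_lit 0) Steps.nil)))) (nat_lit 42) (nat_lit 0),
  Rule.mk (nat_lit 0) (nat_lit 49) (Steps.bwd (nat_lit 6) (Steps.bwd (nat_lit 0) (Steps.fwd (nat_lit 24576) Steps.nil))) (nat_lit 42) (nat_lit 0),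
  Rule.mk (nat_lit 0) (nat_lit 49) (Steps.bwd (nat_lit 7) (Steps.bwd (nat_lit 0) (Steps.fwd (nat_lit 28672) Steps.nil))) (nat_lit 42) (nat_lit 0),
  Rule.mk (nat_lit 0) (nat_lit 49) (Steps.bwd (nat_lit 3) (Steps.fwd (nat_lit 0) (Steps.fwd (nat_lit 12288) Steps.nil))) (nat_lit 42) (nat_lit 0),
  Rule.mk (nat_lit 0) (nat_lit 49) (Steps.bwd (nat_lit 4) (Steps.bwd (nat_lit 0) (Steps.bwd (nat_lit 4) Steps.nil))) (nat_lit 42) (nat_lit 0),
  Rule.mk (nat_lit 0) (nat_lit 49) (Steps.fwd (nat_lit 24576) (Steps.bwd (nat_lit 0) (Steps.bwd (nat_lit 6) Steps.nil))) (nat_lit 42) (nat_lit 0),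
  Rule.mk (nat_lit 0) (nat_lit 36) (Steps.fwd (nat_lit 0) (Steps.fwd (nat_lit 0) Steps.nil)) (nat_lit 42) (nat_lit 0),
  Rule.mk (nat_lit 0) (nat_lit 49) (Steps.bwd (nat_lit 2) (Steps.bwd (nat_lit 0) (Steps.bwd (nat_lit 2) Steps.nil))) (nat_lit 42) (nat_lit 0),
  Rule.mk (nat_lit 0) (nat_lit 49) (Steps.bwd (nat_lit 4) (Steps.bwd (nat_lit 0) (Steps.fwd (nat_lit 16384) Steps.nil))) (nat_lit 42) (nat_lit 0),
  Rule.mk (nat_lit 0) (nat_lit 62) (Steps.bwd (nat_lit 5) (Steps.bwd (nat_lit 0) (Steps.bwd (nat_lit 5) (Steps.fwd (nat_lit 0) Steps.nil)))) (nat_lit 42) (nat_lit 0),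
  Rule.mk (nat_lit 0) (nat_lit 49) (Steps.fwd (nat_lit 28672) (Steps.bwd (nat_lit 0) (Steps.bwd (nat_lit 7) Steps.nil))) (nat_lit 42) (nat_lit 0),
  Rule.mk (nat_lit 1) (nat_lit 49) (Steps.bwd (nat_lit 0) (Steps.fwd (nat_lit 4096) (Steps.fwd (nat_lit 0) Steps.nil))) (nat_lit 42) (nat_lit 0),
  Rule.mk (nat_lit 0) (nat_lit 62) (Steps.bwd (nat_lit 2) (Steps.bwd (nat_lit 0) (Steps.fwd (nat_lit 8192) (Steps.fwd (nat_lit 0) Steps.nil)))) (nat_lit 42) (nat_lit 0),
  Rule.mk (nat_lit 0) (nat_lit 62) (Steps.bwd (nat_lit 0) (Steps.fwd (nat_lit 20480) (Steps.bwd (nat_lit 0) (Steps.bwd (nat_lit 5) Steps.nil)))) (nat_lit 42) (nat_lit 0),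
  Rule.mk (nat_lit 3) (nat_lit 49) (Steps.bwd (nat_lit 0) (Steps.fwd (nat_lit 12288) (Steps.fwd (nat_lit 0) Steps.nil))) (nat_lit 42) (nat_lit 0),
  Rule.mk (nat_lit 7) (nat_lit 49) (Steps.bwd (nat_lit 0) (Steps.bwd (nat_lit 6) (Steps.fwd (nat_lit 0) Steps.nil))) (nat_lit 42) (nat_lit 0),
  Rule.mk (nat_lit 0) (nat_lit 62) (Steps.bwd (nat_lit 0) (Steps.fwd (nat_lit 8192) (Steps.fwd (nat_lit 0) (Steps.bwd (nat_lit 2) Steps.nil)))) (nat_lit 42) (nat_lit 0),
  Rule.mk (nat_lit 0) (nat_lit 62) (Steps.fwd (nat_lit 12288) (Steps.bwd (nat_lit 0) (Steps.fwd (nat_lit 12288) (Steps.fwd (nat_lit 0) Steps.nil)))) (nat_lit 42) (nat_lit 0),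
  Rule.mk (nat_lit 0) (nat_lit 49) (Steps.fwd (nat_lit 20480) (Steps.bwd (nat_lit 0) (Steps.fwd (nat_lit 20480) Steps.nil))) (nat_lit 42) (nat_lit 0),
  Rule.mk (nat_lit 0) (nat_lit 49) (Steps.bwd (nat_lit 5) (Steps.fwd (nat_lit 0) (Steps.fwd (nat_lit 20480) Steps.nil))) (nat_lit 42) (nat_lit 0)]
noncomputable def R_4 : List (Rule) := [Rule.mk (nat_lit 0) (nat_lit 62) (Steps.bwd (nat_lit 0) (Steps.bwd (nat_lit 1) (Steps.fwd (nat_lit 0) (Steps.fwd (nat_lit 4096) Steps.nil)))) (nat_lit 42) (nat_lit 0),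
  Rule.mk (nat_lit 0) (nat_lit 62) (Steps.bwd (nat_lit 0) (Steps.fwd (nat_lit 8192) (Steps.fwd (nat_lit 0) (Steps.fwd (nat_lit 8192) Steps.nil)))) (nat_lit 42) (nat_lit 0),
  Rule.mk (nat_lit 0) (nat_lit 62) (Steps.bwd (nat_lit 0) (Steps.fwd (nat_lit 12288) (Steps.fwd (nat_lit 0) (Steps.bwd (nat_lit 3) Steps.nil)))) (nat_lit 42) (nat_lit 0),
  Rule.mk (nat_lit 0) (nat_lit 62) (Steps.bwd (nat_lit 5) (Steps.fwd (nat_lit 0) (Steps.fwd (nat_lit 20480) (Steps.fwd (nat_lit 0) Steps.nil)))) (nat_lit 42) (nat_lit 0),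
  Rule.mk (nat_lit 0) (nat_lit 62) (Steps.fwd (nat_lit 20480) (Steps.fwd (nat_lit 0) (Steps.fwd (nat_lit 20480) (Steps.fwd (nat_lit 0) Steps.nil)))) (nat_lit 42) (nat_lit 0),
  Rule.mk (nat_lit 4) (nat_lit 114) (Steps.fwd (nat_lit 12288) (Steps.fwd (nat_lit 16384) (Steps.bwd (nat_lit 3) (Steps.bwd (nat_lit 4) (Steps.bwd (nat_lit 3) (Steps.bwd (nat_lit 4) (Steps.fwd (nat_lit 12288) (Steps.fwd (nat_lit 4096) Steps.nil)))))))) (nat_lit 20) (nat_lit 2),
  Rule.mk (nat_lit 4) (nat_lit 114) (Steps.fwd (nat_lit 12288) (Steps.bwd (nat_lit 4) (Steps.fwd (nat_lit 12288) (Steps.bwd (nat_lit 1) (Steps.bwd (nat_lit 4) (Steps.fwd (nat_lit 12288) (Steps.fwd (nat_lit 16384) (Steps.bwd (nat_lit 3) Steps.nil)))))))) (nat_lit 20) (nat_lit 6),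
  Rule.mk (nat_lit 5) (nat_lit 75) (Steps.bwd (nat_lit 4) (Steps.bwd (nat_lit 5) (Steps.fwd (nat_lit 16384) (Steps.bwd (nat_lit 5) (Steps.fwd (nat_lit 16384) Steps.nil))))) (nat_lit 24) (nat_lit 0),
  Rule.mk (nat_lit 1) (nat_lit 49) (Steps.fwd (nat_lit 20480) (Steps.bwd (nat_lit 1) (Steps.bwd (nat_lit 5) Steps.nil))) (nat_lit 12) (nat_lit 1),
  Rule.mk (nat_lit 5) (nat_lit 75) (Steps.bwd (nat_lit 4) (Steps.fwd (nat_lit 20480) (Steps.fwd (nat_lit 16384) (Steps.bwd (nat_lit 5) (Steps.fwd (nat_lit 16384) Steps.nil))))) (nat_lit 24) (nat_lit 0),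
  Rule.mk (nat_lit 5) (nat_lit 75) (Steps.bwd (nat_lit 4) (Steps.fwd (nat_lit 20480) (Steps.bwd (nat_lit 4) (Steps.bwd (nat_lit 5) (Steps.bwd (nat_lit 4) Steps.nil))))) (nat_lit 24) (nat_lit 0),
  Rule.mk (nat_lit 1) (nat_lit 140) (Steps.bwd (nat_lit 3) (Steps.bwd (nat_lit 2) (Steps.fwd (nat_lit 28672) (Steps.bwd (nat_lit 5) (Steps.fwd (nat_lit 8192) (Steps.bwd (nat_lit 3) (Steps.bwd (nat_lit 1) (Steps.fwd (nat_lit 8192) (Steps.fwd (nat_lit 24576) (Steps.bwd (nat_lit 2) Steps.nil)))))))))) (nat_lit 39) (nat_lit 8),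
  Rule.mk (nat_lit 4) (nat_lit 127) (Steps.bwd (nat_lit 6) (Steps.bwd (nat_lit 4) (Steps.bwd (nat_lit 5) (Steps.fwd (nat_lit 24576) (Steps.fwd (nat_lit 16384) (Steps.bwd (nat_lit 6) (Steps.fwd (nat_lit 16384) (Steps.bwd (nat_lit 5) (Steps.bwd (nat_lit 7) Steps.nil))))))))) (nat_lit 36) (nat_lit 4),
  Rule.mk (nat_lit 1) (nat_lit 75) (Steps.bwd (nat_lit 2) (Steps.fwd (nat_lit 4096) (Steps.fwd (nat_lit 8192) (Steps.bwd (nat_lit 1) (Steps.bwd (nat_lit 2) Steps.nil))))) (nat_lit 10) (nat_lit 1),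
  Rule.mk (nat_lit 7) (nat_lit 140) (Steps.bwd (nat_lit 2) (Steps.fwd (nat_lit 12288) (Steps.fwd (nat_lit 4096) (Steps.fwd (nat_lit 8192) (Steps.fwd (nat_lit 28672) (Steps.fwd (nat_lit 8192) (Steps.bwd (nat_lit 1) (Steps.bwd (nat_lit 3) (Steps.bwd (nat_lit 2) (Steps.bwd (nat_lit 5) Steps.nil)))))))))) (nat_lit 38) (nat_lit 1),
  Rule.mk (nat_lit 4) (nat_lit 127) (Steps.bwd (nat_lit 7) (Steps.bwd (nat_lit 4) (Steps.bwd (nat_lit 6) (Steps.fwd (nat_lit 20480) (Steps.bwd (nat_lit 4) (Steps.bwd (nat_lit 7) (Steps.fwd (nat_lit 16384) (Steps.bwd (nat_lit 6) (Steps.bwd (nat_lit 5) Steps.nil))))))))) (nat_lit 37) (nat_lit 0),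
  Rule.mk (nat_lit 4) (nat_lit 114) (Steps.fwd (nat_lit 12288) (Steps.bwd (nat_lit 4) (Steps.fwd (nat_lit 12288) (Steps.fwd (nat_lit 16384) (Steps.fwd (nat_lit 12288) (Steps.bwd (nat_lit 1) (Steps.bwd (nat_lit 4) (Steps.fwd (nat_lit 12288) Steps.nil)))))))) (nat_lit 20) (nat_lit 4),
  Rule.mk (nat_lit 0) (nat_lit 127) (Steps.bwd (nat_lit 3) (Steps.bwd (nat_lit 4) (Steps.fwd (nat_lit 12288) (Steps.bwd (nat_lit 4) (Steps.fwd (nat_lit 12288) (Steps.bwd (nat_lit 4) (Steps.fwd (nat_lit 4096) (Steps.bwd (nat_lit 3) (Steps.fwd (nat_lit 16384) Steps.nil))))))))) (nat_lit 21) (nat_lit 2),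
  Rule.mk (nat_lit 0) (nat_lit 49) (Steps.bwd (nat_lit 7) (Steps.fwd (nat_lit 0) (Steps.fwd (nat_lit 28672) Steps.nil))) (nat_lit 42) (nat_lit 0),
  Rule.mk (nat_lit 0) (nat_lit 127) (Steps.fwd (nat_lit 12288) (Steps.bwd (nat_lit 1) (Steps.fwd (nat_lit 16384) (Steps.bwd (nat_lit 3) (Steps.bwd (nat_lit 4) (Steps.bwd (nat_lit 3) (Steps.bwd (nat_lit 4) (Steps.fwd (nat_lit 12288) (Steps.fwd (nat_lit 16384) Steps.nil))))))))) (nat_lit 20) (nat_lit 8),
  Rule.mk (nat_lit 0) (nat_lit 49) (Steps.fwd (nat_lit 12288) (Steps.bwd (nat_lit 0) (Steps.fwd (nat_lit 12288) Steps.nil))) (nat_lit 42) (nat_lit 0),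
  Rule.mk (nat_lit 0) (nat_lit 49) (Steps.bwd (nat_lit 7) (Steps.bwd (nat_lit 0) (Steps.bwd (nat_lit 6) Steps.nil))) (nat_lit 42) (nat_lit 0),
  Rule.mk (nat_lit 2) (nat_lit 75) (Steps.bwd (nat_lit 1) (Steps.fwd (nat_lit 8192) (Steps.bwd (nat_lit 1) (Steps.bwd (nat_lit 2) (Steps.fwd (nat_lit 4096) Steps.nil))))) (nat_lit 10) (nat_lit 0),
  Rule.mk (nat_lit 4) (nat_lit 127) (Steps.fwd (nat_lit 24576) (Steps.bwd (nat_lit 4) (Steps.fwd (nat_lit 28672) (Steps.fwd (nat_lit 20480) (Steps.bwd (nat_lit 4) (Steps.fwd (nat_lit 24576) (Steps.fwd (nat_lit 16384) (Steps.fwd (nat_lit 28672) (Steps.bwd (nat_lit 5) Steps.nil))))))))) (nat_lit 37) (nat_lit 0),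
  Rule.mk (nat_lit 4) (nat_lit 114) (Steps.fwd (nat_lit 12288) (Steps.fwd (nat_lit 4096) (Steps.bwd (nat_lit 4) (Steps.fwd (nat_lit 12288) (Steps.fwd (nat_lit 16384) (Steps.bwd (nat_lit 3) (Steps.fwd (nat_lit 16384) (Steps.bwd (nat_lit 3) Steps.nil)))))))) (nat_lit 20) (nat_lit 8),
  Rule.mk (nat_lit 2) (nat_lit 322) (Steps.bwd (nat_lit 4) (Steps.bwd (nat_lit 7) (Steps.fwd (nat_lit 16384) (Steps.fwd (nat_lit 8192) (Steps.bwd (nat_lit 1) (Steps.fwd (nat_lit 12288) (Steps.fwd (nat_lit 8192) (Steps.fwd (nat_lit 16384) (Steps.fwd (nat_lit 28672) (Steps.fwd (nat_lit 16384) (Steps.fwd (nat_lit 28672) (Steps.fwd (nat_lit 20480) (Steps.bwd (nat_lit 2) (Steps.bwd (nat_lit 1) (Steps.bwd (nat_lit 3) (Steps.fwd (nat_lit 8192) (Steps.bwd (nat_lit 4) (Steps.bwd (nat_lit 6) (Steps.bwd (nat_lit 4) (Steps.fwd (nat_lit 20480) (Steps.fwd (nat_lit 12288) (Steps.fwd (nat_lit 8192) (Steps.fwd (nat_lit 12288) (Steps.fwd (nat_lit 4096) Steps.nil))))))))))))))))))))))))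 (nat_lit 41) (nat_lit 15),
  Rule.mk (nat_lit 2) (nat_lit 75) (Steps.bwd (nat_lit 3) (Steps.fwd (nat_lit 8192) (Steps.fwd (nat_lit 12288) (Steps.bwd (nat_lit 2) (Steps.bwd (nat_lit 3) Steps.nil))))) (nat_lit 14) (nat_lit 1),
  Rule.mk (nat_lit 7) (nat_lit 127) (Steps.bwd (nat_lit 4) (Steps.bwd (nat_lit 6) (Steps.fwd (nat_lit 20480) (Steps.bwd (nat_lit 4) (Steps.fwd (nat_lit 24576) (Steps.fwd (nat_lit 16384) (Steps.bwd (nat_lit 6) (Steps.fwd (nat_lit 20480) (Steps.fwd (nat_lit 16384) Steps.nil))))))))) (nat_lit 37) (nat_lit 1),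
  Rule.mk (nat_lit 4) (nat_lit 322) (Steps.fwd (nat_lit 8192) (Steps.fwd (nat_lit 12288) (Steps.bwd (nat_lit 1) (Steps.fwd (nat_lit 8192) (Steps.bwd (nat_lit 4) (Steps.bwd (nat_lit 6) (Steps.bwd (nat_lit 4) (Steps.bwd (nat_lit 2) (Steps.fwd (nat_lit 4096) (Steps.fwd (nat_lit 12288) (Steps.fwd (nat_lit 8192) (Steps.bwd (nat_lit 3) (Steps.fwd (nat_lit 20480) (Steps.fwd (nat_lit 16384) (Steps.bwd (nat_lit 7) (Steps.fwd (nat_lit 16384) (Steps.bwd (nat_lit 2) (Steps.fwd (nat_lit 12288) (Steps.bwd (nat_lit 1) (Steps.bwd (nat_lit 2) (Steps.fwd (nat_lit 20480) (Steps.bwd (nat_lit 7) (Steps.bwd (nat_lit 4) (Steps.fwd (nat_lit 24576) Steps.nil)))))))))))))))))))))))) (nat_lit 40) (nat_lit 3),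
  Rule.mk (nat_lit 7) (nat_lit 127) (Steps.bwd (nat_lit 4) (Steps.bwd (nat_lit 6) (Steps.fwd (nat_lit 20480) (Steps.bwd (nat_lit 4) (Steps.bwd (nat_lit 7) (Steps.fwd (nat_lit 16384) (Steps.bwd (nat_lit 6) (Steps.bwd (nat_lit 5) (Steps.fwd (nat_lit 16384) Steps.nil))))))))) (nat_lit 37) (nat_lit 1),
  Rule.mk (nat_lit 3) (nat_lit 49) (Steps.bwd (nat_lit 7) (Steps.bwd (nat_lit 3) (Steps.bwd (nat_lit 6) Steps.nil))) (nat_lit 32) (nat_lit 0),
  Rule.mk (nat_lit 2) (nat_lit 75) (Steps.bwd (nat_lit 3) (Steps.fwd (nat_lit 8192) (Steps.bwd (nat_lit 3) (Steps.fwd (nat_lit 8192) (Steps.fwd (nat_lit 12288) Steps.nil))))) (nat_lit 14) (nat_lit 1),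
  Rule.mk (nat_lit 2) (nat_lit 75) (Steps.bwd (nat_lit 3) (Steps.fwd (nat_lit 8192) (Steps.fwd (nat_lit 12288) (Steps.fwd (nat_lit 8192) (Steps.bwd (nat_lit 3) Steps.nil))))) (nat_lit 14) (nat_lit 1),
  Rule.mk (nat_lit 1) (nat_lit 140) (Steps.bwd (nat_lit 3) (Steps.fwd (nat_lit 8192) (Steps.bwd (nat_lit 5) (Steps.bwd (nat_lit 7) (Steps.bwd (nat_lit 2) (Steps.fwd (nat_lit 12288) (Steps.bwd (nat_lit 1) (Steps.bwd (nat_lit 2) (Steps.bwd (nat_lit 6) (Steps.bwd (nat_lit 2) Steps.nil)))))))))) (nat_lit 38) (nat_lit 8),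
  Rule.mk (nat_lit 4) (nat_lit 413) (Steps.bwd (nat_lit 3) (Steps.fwd (nat_lit 8192) (Steps.bwd (nat_lit 5) (Steps.fwd (nat_lit 16384) (Steps.bwd (nat_lit 3) (Steps.bwd (nat_lit 2) (Steps.fwd (nat_lit 20480) (Steps.fwd (nat_lit 16384) (Steps.bwd (nat_lit 3) (Steps.fwd (nat_lit 8192) (Steps.fwd (nat_lit 20480) (Steps.fwd (nat_lit 16384) (Steps.fwd (nat_lit 12288) (Steps.bwd (nat_lit 2) (Steps.bwd (nat_lit 5) (Steps.bwd (nat_lit 4) (Steps.bwd (nat_lit 3) (Steps.fwd (nat_lit 8192) (Steps.bwd (nat_lit 5) (Steps.fwd (nat_lit 16384) (Steps.fwd (nat_lit 12288) (Steps.bwd (nat_lit 2) (Steps.fwd (nat_lit 20480) (Steps.bwd (nat_lit 4) (Steps.fwd (nat_lit 12288) (Steps.fwd (nat_lit 8192) (Steps.bwd (nat_lit 5) (Steps.bwd (nat_lit 4) (Steps.fwd (nat_lit 12288) (Steps.bwd (nat_lit 2) (Steps.fwd (nat_lit 20480) Steps.nil))))))))))))))))))))))))))))))) (nat_lit 27) (nat_lit 2),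
  Rule.mk (nat_lit 4) (nat_lit 127) (Steps.bwd (nat_lit 6) (Steps.fwd (nat_lit 16384) (Steps.bwd (nat_lit 5) (Steps.bwd (nat_lit 7) (Steps.bwd (nat_lit 4) (Steps.bwd (nat_lit 6) (Steps.fwd (nat_lit 16384) (Steps.bwd (nat_lit 5) (Steps.bwd (nat_lit 7) Steps.nil))))))))) (nat_lit 36) (nat_lit 4),
  Rule.mk (nat_lit 4) (nat_lit 114) (Steps.bwd (nat_lit 3) (Steps.fwd (nat_lit 16384) (Steps.fwd (nat_lit 12288) (Steps.bwd (nat_lit 1) (Steps.bwd (nat_lit 4) (Steps.bwd (nat_lit 3) (Steps.fwd (nat_lit 16384) (Steps.fwd (nat_lit 12288) Steps.nil)))))))) (nat_lit 20) (nat_lit 6),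
  Rule.mk (nat_lit 7) (nat_lit 127) (Steps.bwd (nat_lit 4) (Steps.fwd (nat_lit 28672) (Steps.bwd (nat_lit 5) (Steps.bwd (nat_lit 4) (Steps.bwd (nat_lit 7) (Steps.fwd (nat_lit 16384) (Steps.bwd (nat_lit 6) (Steps.fwd (nat_lit 20480) (Steps.bwd (nat_lit 4) Steps.nil))))))))) (nat_lit 37) (nat_lit 1),
  Rule.mk (nat_lit 4) (nat_lit 127) (Steps.bwd (nat_lit 7) (Steps.fwd (nat_lit 16384) (Steps.bwd (nat_lit 6) (Steps.fwd (nat_lit 20480) (Steps.fwd (nat_lit 16384) (Steps.bwd (nat_lit 7) (Steps.fwd (nat_lit 16384) (Steps.bwd (nat_lit 6) (Steps.bwd (nat_lit 5) Steps.nil))))))))) (nat_lit 37) (nat_lit 0),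
  Rule.mk (nat_lit 6) (nat_lit 49) (Steps.bwd (nat_lit 3) (Steps.fwd (nat_lit 4096) (Steps.fwd (nat_lit 28672) Steps.nil))) (nat_lit 28) (nat_lit 2),
  Rule.mk (nat_lit 4) (nat_lit 114) (Steps.bwd (nat_lit 3) (Steps.fwd (nat_lit 4096) (Steps.fwd (nat_lit 16384) (Steps.bwd (nat_lit 3) (Steps.bwd (nat_lit 4) (Steps.fwd (nat_lit 12288) (Steps.fwd (nat_lit 16384) (Steps.fwd (nat_lit 12288) Steps.nil)))))))) (nat_lit 20) (nat_lit 8),
  Rule.mk (nat_lit 6) (nat_lit 127) (Steps.bwd (nat_lit 4) (Steps.bwd (nat_lit 5) (Steps.fwd (nat_lit 24576) (Steps.fwd (nat_lit 16384) (Steps.bwd (nat_lit 6) (Steps.fwd (nat_lit 16384) (Steps.bwd (nat_lit 5) (Steps.fwd (nat_lit 24576) (Steps.bwd (nat_lit 4) Steps.nil))))))))) (nat_lit 36) (nat_lit 0),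
  Rule.mk (nat_lit 6) (nat_lit 127) (Steps.bwd (nat_lit 4) (Steps.fwd (nat_lit 20480) (Steps.bwd (nat_lit 7) (Steps.fwd (nat_lit 16384) (Steps.bwd (nat_lit 6) (Steps.bwd (nat_lit 4) (Steps.fwd (nat_lit 20480) (Steps.fwd (nat_lit 24576) (Steps.bwd (nat_lit 4) Steps.nil))))))))) (nat_lit 36) (nat_lit 0),
  Rule.mk (nat_lit 1) (nat_lit 49) (Steps.bwd (nat_lit 3) (Steps.bwd (nat_lit 7) (Steps.bwd (nat_lit 7) Steps.nil))) (nat_lit 29) (nat_lit 1),
  Rule.mk (nat_lit 4) (nat_lit 114) (Steps.fwd (nat_lit 12288) (Steps.fwd (nat_lit 16384) (Steps.fwd (nat_lit 12288) (Steps.fwd (nat_lit 16384) (Steps.bwd (nat_lit 3) (Steps.bwd (nat_lit 4) (Steps.bwd (nat_lit 3) (Steps.bwd (nat_lit 1) Steps.nil)))))))) (nat_lit 20) (nat_lit 2),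
  Rule.mk (nat_lit 4) (nat_lit 114) (Steps.fwd (nat_lit 12288) (Steps.bwd (nat_lit 4) (Steps.bwd (nat_lit 3) (Steps.fwd (nat_lit 16384) (Steps.bwd (nat_lit 3) (Steps.bwd (nat_lit 1) (Steps.fwd (nat_lit 16384) (Steps.bwd (nat_lit 3) Steps.nil)))))))) (nat_lit 20) (nat_lit 4),
  Rule.mk (nat_lit 0) (nat_lit 127) (Steps.bwd (nat_lit 3) (Steps.fwd (nat_lit 16384) (Steps.bwd (nat_lit 3) (Steps.bwd (nat_lit 4) (Steps.fwd (nat_lit 12288) (Steps.bwd (nat_lit 4) (Steps.fwd (nat_lit 4096) (Steps.bwd (nat_lit 3) (Steps.fwd (nat_lit 16384) Steps.nil))))))))) (nat_lit 21) (nat_lit 2),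
  Rule.mk (nat_lit 0) (nat_lit 127) (Steps.fwd (nat_lit 12288) (Steps.fwd (nat_lit 4096) (Steps.fwd (nat_lit 16384) (Steps.fwd (nat_lit 12288) (Steps.bwd (nat_lit 4) (Steps.fwd (nat_lit 12288) (Steps.bwd (nat_lit 4) (Steps.fwd (nat_lit 12288) (Steps.fwd (nat_lit 16384) Steps.nil))))))))) (nat_lit 20) (nat_lit 8),
  Rule.mk (nat_lit 3) (nat_lit 114) (Steps.bwd (nat_lit 4) (Steps.fwd (nat_lit 12288) (Steps.fwd (nat_lit 4096) (Steps.bwd (nat_lit 4) (Steps.fwd (nat_lit 12288) (Steps.fwd (nat_lit 16384) (Steps.bwd (nat_lit 3) (Steps.fwd (nat_lit 16384) Steps.nil)))))))) (nat_lit 20) (nat_lit 7),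
  Rule.mk (nat_lit 1) (nat_lit 114) (Steps.bwd (nat_lit 4) (Steps.fwd (nat_lit 12288) (Steps.bwd (nat_lit 4) (Steps.fwd (nat_lit 12288) (Steps.fwd (nat_lit 16384) (Steps.bwd (nat_lit 3) (Steps.fwd (nat_lit 16384) (Steps.fwd (nat_lit 12288) Steps.nil)))))))) (nat_lit 20) (nat_lit 1),
  Rule.mk (nat_lit 6) (nat_lit 49) (Steps.fwd (nat_lit 28672) (Steps.fwd (nat_lit 12288) (Steps.bwd (nat_lit 1) Steps.nil))) (nat_lit 28) (nat_lit 1),
  Rule.mk (nat_lit 0) (nat_lit 140) (Steps.fwd (nat_lit 28672) (Steps.fwd (nat_lit 20480) (Steps.bwd (nat_lit 4) (Steps.fwd (nat_lit 24576) (Steps.bwd (nat_lit 4) (Steps.fwd (nat_lit 28672) (Steps.fwd (nat_lit 20480) (Steps.fwd (nat_lit 16384) (Steps.fwd (nat_lit 24576) (Steps.bwd (nat_lit 4) Steps.nil)))))))))) (nat_lit 37) (nat_lit 2),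
  Rule.mk (nat_lit 4) (nat_lit 127) (Steps.bwd (nat_lit 6) (Steps.bwd (nat_lit 4) (Steps.bwd (nat_lit 5) (Steps.fwd (nat_lit 24576) (Steps.fwd (nat_lit 16384) (Steps.fwd (nat_lit 28672) (Steps.bwd (nat_lit 4) (Steps.bwd (nat_lit 5) (Steps.fwd (nat_lit 24576) Steps.nil))))))))) (nat_lit 36) (nat_lit 4),
  Rule.mk (nat_lit 4) (nat_lit 114) (Steps.bwd (nat_lit 3) (Steps.bwd (nat_lit 4) (Steps.fwd (nat_lit 12288) (Steps.fwd (nat_lit 4096) (Steps.fwd (nat_lit 16384) (Steps.bwd (nat_lit 3) (Steps.fwd (nat_lit 16384) (Steps.fwd (nat_lit 12288) Steps.nil)))))))) (nat_lit 20) (nat_lit 6),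
  Rule.mk (nat_lit 4) (nat_lit 49) (Steps.bwd (nat_lit 2) (Steps.fwd (nat_lit 16384) (Steps.bwd (nat_lit 2) Steps.nil))) (nat_lit 16) (nat_lit 0),
  Rule.mk (nat_lit 7) (nat_lit 127) (Steps.bwd (nat_lit 4) (Steps.bwd (nat_lit 6) (Steps.bwd (nat_lit 5) (Steps.fwd (nat_lit 16384) (Steps.bwd (nat_lit 7) (Steps.fwd (nat_lit 16384) (Steps.bwd (nat_lit 6) (Steps.fwd (nat_lit 20480) (Steps.bwd (nat_lit 4) Steps.nil))))))))) (nat_lit 37) (nat_lit 1),
  Rule.mk (nat_lit 1) (nat_lit 49) (Steps.fwd (nat_lit 12288) (Steps.fwd (nat_lit 24576) (Steps.bwd (nat_lit 7) Steps.nil))) (nat_lit 29) (nat_lit 1),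
  Rule.mk (nat_lit 4) (nat_lit 127) (Steps.bwd (nat_lit 7) (Steps.fwd (nat_lit 16384) (Steps.bwd (nat_lit 6) (Steps.fwd (nat_lit 20480) (Steps.fwd (nat_lit 16384) (Steps.fwd (nat_lit 24576) (Steps.bwd (nat_lit 4) (Steps.fwd (nat_lit 28672) (Steps.fwd (nat_lit 20480) Steps.nil))))))))) (nat_lit 37) (nat_lit 0),
  Rule.mk (nat_lit 4) (nat_lit 127) (Steps.bwd (nat_lit 6) (Steps.fwd (nat_lit 20480) (Steps.bwd (nat_lit 4) (Steps.bwd (nat_lit 7) (Steps.fwd (nat_lit 16384) (Steps.fwd (nat_lit 28672) (Steps.fwd (nat_lit 20480) (Steps.bwd (nat_lit 4) (Steps.bwd (nat_lit 7) Steps.nil))))))))) (nat_lit 37) (nat_lit 2),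
  Rule.mk (nat_lit 4) (nat_lit 127) (Steps.bwd (nat_lit 7) (Steps.fwd (nat_lit 16384) (Steps.fwd (nat_lit 28672) (Steps.bwd (nat_lit 5) (Steps.bwd (nat_lit 4) (Steps.fwd (nat_lit 24576) (Steps.bwd (nat_lit 4) (Steps.fwd (nat_lit 28672) (Steps.bwd (nat_lit 5) Steps.nil))))))))) (nat_lit 37) (nat_lit 0),
  Rule.mk (nat_lit 4) (nat_lit 127) (Steps.bwd (nat_lit 6) (Steps.fwd (nat_lit 20480) (Steps.bwd (nat_lit 4) (Steps.fwd (nat_lit 24576) (Steps.fwd (nat_lit 16384) (Steps.bwd (nat_lit 6) (Steps.bwd (nat_lit 5) (Steps.fwd (nat_lit 16384) (Steps.bwd (nat_lit 7) Steps.nil))))))))) (nat_lit 37) (nat_lit 2),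
  Rule.mk (nat_lit 4) (nat_lit 127) (Steps.fwd (nat_lit 28672) (Steps.fwd (nat_lit 20480) (Steps.bwd (nat_lit 4) (Steps.fwd (nat_lit 24576) (Steps.fwd (nat_lit 16384) (Steps.fwd (nat_lit 28672) (Steps.bwd (nat_lit 5) (Steps.fwd (nat_lit 16384) (Steps.bwd (nat_lit 7) Steps.nil))))))))) (nat_lit 37) (nat_lit 2),
  Rule.mk (nat_lit 4) (nat_lit 127) (Steps.bwd (nat_lit 7) (Steps.fwd (nat_lit 16384) (Steps.fwd (nat_lit 28672) (Steps.bwd (nat_lit 5) (Steps.bwd (nat_lit 4) (Steps.bwd (nat_lit 7) (Steps.fwd (nat_lit 16384) (Steps.bwd (nat_lit 6) (Steps.bwd (nat_lit 5) Steps.nil))))))))) (nat_lit 37) (nat_lit 0),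
  Rule.mk (nat_lit 4) (nat_lit 75) (Steps.bwd (nat_lit 5) (Steps.fwd (nat_lit 16384) (Steps.fwd (nat_lit 20480) (Steps.fwd (nat_lit 16384) (Steps.bwd (nat_lit 5) Steps.nil))))) (nat_lit 24) (nat_lit 1)]
noncomputable def R_5 : List (Rule) := [Rule.mk (nat_lit 4) (nat_lit 127) (Steps.bwd (nat_lit 7) (Steps.fwd (nat_lit 16384) (Steps.fwd (nat_lit 28672) (Steps.bwd (nat_lit 5) (Steps.fwd (nat_lit 16384) (Steps.bwd (nat_lit 7) (Steps.bwd (nat_lit 4) (Steps.bwd (nat_lit 6) (Steps.bwd (nat_lit 5) Steps.nil))))))))) (nat_lit 37) (nat_lit 0),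
  Rule.mk (nat_lit 2) (nat_lit 75) (Steps.fwd (nat_lit 12288) (Steps.bwd (nat_lit 2) (Steps.bwd (nat_lit 3) (Steps.fwd (nat_lit 8192) (Steps.bwd (nat_lit 3) Steps.nil))))) (nat_lit 14) (nat_lit 1),
  Rule.mk (nat_lit 4) (nat_lit 322) (Steps.bwd (nat_lit 7) (Steps.bwd (nat_lit 4) (Steps.fwd (nat_lit 8192) (Steps.bwd (nat_lit 3) (Steps.bwd (nat_lit 1) (Steps.bwd (nat_lit 2) (Steps.fwd (nat_lit 16384) (Steps.fwd (nat_lit 28672) (Steps.bwd (nat_lit 4) (Steps.bwd (nat_lit 2) (Steps.fwd (nat_lit 4096) (Steps.fwd (nat_lit 12288) (Steps.fwd (nat_lit 8192) (Steps.fwd (nat_lit 12288) (Steps.bwd (nat_lit 5) (Steps.bwd (nat_lit 4) (Steps.bwd (nat_lit 7) (Steps.fwd (nat_lit 16384) (Steps.bwd (nat_lit 2) (Steps.fwd (nat_lit 12288) (Steps.bwd (nat_lit 1) (Steps.fwd (nat_lit 8192) (Steps.bwd (nat_lit 5) (Steps.bwd (nat_lit 7) Steps.nil)))))))))))))))))))))))) (nat_lit 40) (nat_lit 1),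
  Rule.mk (nat_lit 4) (nat_lit 75) (Steps.fwd (nat_lit 20480) (Steps.bwd (nat_lit 4) (Steps.fwd (nat_lit 20480) (Steps.bwd (nat_lit 4) (Steps.fwd (nat_lit 20480) Steps.nil))))) (nat_lit 24) (nat_lit 1),
  Rule.mk (nat_lit 4) (nat_lit 127) (Steps.bwd (nat_lit 6) (Steps.fwd (nat_lit 20480) (Steps.bwd (nat_lit 4) (Steps.bwd (nat_lit 7) (Steps.bwd (nat_lit 4) (Steps.fwd (nat_lit 28672) (Steps.bwd (nat_lit 5) (Steps.bwd (nat_lit 4) (Steps.fwd (nat_lit 24576) Steps.nil))))))))) (nat_lit 37) (nat_lit 2),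
  Rule.mk (nat_lit 4) (nat_lit 127) (Steps.bwd (nat_lit 7) (Steps.bwd (nat_lit 4) (Steps.bwd (nat_lit 6) (Steps.bwd (nat_lit 5) (Steps.bwd (nat_lit 4) (Steps.fwd (nat_lit 24576) (Steps.bwd (nat_lit 4) (Steps.fwd (nat_lit 28672) (Steps.bwd (nat_lit 5) Steps.nil))))))))) (nat_lit 37) (nat_lit 0),
  Rule.mk (nat_lit 3) (nat_lit 114) (Steps.bwd (nat_lit 4) (Steps.fwd (nat_lit 12288) (Steps.bwd (nat_lit 1) (Steps.bwd (nat_lit 4) (Steps.fwd (nat_lit 12288) (Steps.bwd (nat_lit 4) (Steps.bwd (nat_lit 3) (Steps.bwd (nat_lit 4) Steps.nil)))))))) (nat_lit 20) (nat_lit 7),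
  Rule.mk (nat_lit 1) (nat_lit 114) (Steps.bwd (nat_lit 3) (Steps.bwd (nat_lit 4) (Steps.fwd (nat_lit 12288) (Steps.fwd (nat_lit 16384) (Steps.fwd (nat_lit 12288) (Steps.bwd (nat_lit 4) (Steps.bwd (nat_lit 3) (Steps.bwd (nat_lit 4) Steps.nil)))))))) (nat_lit 21) (nat_lit 0),
  Rule.mk (nat_lit 7) (nat_lit 49) (Steps.fwd (nat_lit 24576) (Steps.bwd (nat_lit 1) (Steps.bwd (nat_lit 3) Steps.nil))) (nat_lit 29) (nat_lit 3),
  Rule.mk (nat_lit 1) (nat_lit 49) (Steps.fwd (nat_lit 24576) (Steps.bwd (nat_lit 1) (Steps.bwd (nat_lit 6) Steps.nil))) (nat_lit 30) (nat_lit 0),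
  Rule.mk (nat_lit 1) (nat_lit 75) (Steps.fwd (nat_lit 8192) (Steps.bwd (nat_lit 1) (Steps.bwd (nat_lit 2) (Steps.fwd (nat_lit 4096) (Steps.fwd (nat_lit 8192) Steps.nil))))) (nat_lit 10) (nat_lit 1),
  Rule.mk (nat_lit 4) (nat_lit 322) (Steps.bwd (nat_lit 7) (Steps.fwd (nat_lit 16384) (Steps.fwd (nat_lit 8192) (Steps.bwd (nat_lit 3) (Steps.bwd (nat_lit 1) (Steps.fwd (nat_lit 8192) (Steps.bwd (nat_lit 4) (Steps.bwd (nat_lit 6) (Steps.fwd (nat_lit 16384) (Steps.fwd (nat_lit 8192) (Steps.fwd (nat_lit 4096) (Steps.bwd (nat_lit 3) (Steps.bwd (nat_lit 2) (Steps.fwd (nat_lit 12288) (Steps.fwd (nat_lit 20480) (Steps.fwd (nat_lit 16384) (Steps.bwd (nat_lit 7) (Steps.fwd (nat_lit 16384) (Steps.bwd (nat_lit 2) (Steps.fwd (nat_lit 12288) (Steps.bwd (nat_lit 1) (Steps.fwd (nat_lit 8192) (Steps.bwd (nat_lit 5) (Steps.bwd (nat_lit 7) Steps.nil)))))))))))))))))))))))) (nat_lit 40) (nat_lit 1),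
  Rule.mk (nat_lit 4) (nat_lit 114) (Steps.bwd (nat_lit 3) (Steps.fwd (nat_lit 4096) (Steps.bwd (nat_lit 4) (Steps.fwd (nat_lit 12288) (Steps.fwd (nat_lit 16384) (Steps.bwd (nat_lit 3) (Steps.fwd (nat_lit 16384) (Steps.fwd (nat_lit 12288) Steps.nil)))))))) (nat_lit 20) (nat_lit 8),
  Rule.mk (nat_lit 2) (nat_lit 75) (Steps.bwd (nat_lit 3) (Steps.fwd (nat_lit 8192) (Steps.bwd (nat_lit 3) (Steps.bwd (nat_lit 2) (Steps.fwd (nat_lit 12288) Steps.nil))))) (nat_lit 14) (nat_lit 1),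
  Rule.mk (nat_lit 2) (nat_lit 75) (Steps.bwd (nat_lit 3) (Steps.fwd (nat_lit 8192) (Steps.bwd (nat_lit 3) (Steps.fwd (nat_lit 8192) (Steps.bwd (nat_lit 3) Steps.nil))))) (nat_lit 14) (nat_lit 1),
  Rule.mk (nat_lit 7) (nat_lit 127) (Steps.bwd (nat_lit 4) (Steps.bwd (nat_lit 6) (Steps.bwd (nat_lit 5) (Steps.fwd (nat_lit 16384) (Steps.bwd (nat_lit 7) (Steps.fwd (nat_lit 16384) (Steps.bwd (nat_lit 6) (Steps.fwd (nat_lit 20480) (Steps.fwd (nat_lit 16384) Steps.nil))))))))) (nat_lit 37) (nat_lit 1),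
  Rule.mk (nat_lit 3) (nat_lit 114) (Steps.bwd (nat_lit 4) (Steps.bwd (nat_lit 3) (Steps.bwd (nat_lit 1) (Steps.bwd (nat_lit 4) (Steps.bwd (nat_lit 3) (Steps.bwd (nat_lit 4) (Steps.bwd (nat_lit 3) (Steps.fwd (nat_lit 16384) Steps.nil)))))))) (nat_lit 20) (nat_lit 7),
  Rule.mk (nat_lit 4) (nat_lit 114) (Steps.bwd (nat_lit 1) (Steps.fwd (nat_lit 12288) (Steps.bwd (nat_lit 4) (Steps.fwd (nat_lit 12288) (Steps.fwd (nat_lit 16384) (Steps.fwd (nat_lit 12288) (Steps.fwd (nat_lit 16384) (Steps.bwd (nat_lit 3) Steps.nil)))))))) (nat_lit 21) (nat_lit 8),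
  Rule.mk (nat_lit 7) (nat_lit 127) (Steps.bwd (nat_lit 4) (Steps.fwd (nat_lit 28672) (Steps.bwd (nat_lit 5) (Steps.bwd (nat_lit 4) (Steps.fwd (nat_lit 24576) (Steps.fwd (nat_lit 16384) (Steps.fwd (nat_lit 28672) (Steps.fwd (nat_lit 20480) (Steps.bwd (nat_lit 4) Steps.nil))))))))) (nat_lit 37) (nat_lit 1),
  Rule.mk (nat_lit 4) (nat_lit 75) (Steps.bwd (nat_lit 5) (Steps.fwd (nat_lit 16384) (Steps.bwd (nat_lit 5) (Steps.bwd (nat_lit 4) (Steps.fwd (nat_lit 20480) Steps.nil))))) (nat_lit 24) (nat_lit 1),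
  Rule.mk (nat_lit 4) (nat_lit 127) (Steps.bwd (nat_lit 6) (Steps.fwd (nat_lit 16384) (Steps.bwd (nat_lit 5) (Steps.fwd (nat_lit 24576) (Steps.bwd (nat_lit 4) (Steps.fwd (nat_lit 28672) (Steps.fwd (nat_lit 16384) (Steps.fwd (nat_lit 20480) (Steps.bwd (nat_lit 7) Steps.nil))))))))) (nat_lit 36) (nat_lit 4),
  Rule.mk (nat_lit 4) (nat_lit 127) (Steps.bwd (nat_lit 6) (Steps.fwd (nat_lit 16384) (Steps.fwd (nat_lit 20480) (Steps.fwd (nat_lit 24576) (Steps.bwd (nat_lit 4) (Steps.fwd (nat_lit 28672) (Steps.fwd (nat_lit 16384) (Steps.bwd (nat_lit 5) (Steps.bwd (nat_lit 7) Steps.nil))))))))) (nat_lit 36) (nat_lit 4),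
  Rule.mk (nat_lit 4) (nat_lit 114) (Steps.bwd (nat_lit 3) (Steps.fwd (nat_lit 16384) (Steps.fwd (nat_lit 12288) (Steps.fwd (nat_lit 4096) (Steps.bwd (nat_lit 4) (Steps.bwd (nat_lit 3) (Steps.fwd (nat_lit 16384) (Steps.bwd (nat_lit 3) Steps.nil)))))))) (nat_lit 20) (nat_lit 6),
  Rule.mk (nat_lit 1) (nat_lit 114) (Steps.bwd (nat_lit 3) (Steps.fwd (nat_lit 16384) (Steps.fwd (nat_lit 12288) (Steps.bwd (nat_lit 4) (Steps.fwd (nat_lit 12288) (Steps.fwd (nat_lit 16384) (Steps.fwd (nat_lit 12288) (Steps.bwd (nat_lit 4) Steps.nil)))))))) (nat_lit 21) (nat_lit 0),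
  Rule.mk (nat_lit 7) (nat_lit 127) (Steps.bwd (nat_lit 4) (Steps.bwd (nat_lit 6) (Steps.bwd (nat_lit 4) (Steps.bwd (nat_lit 5) (Steps.bwd (nat_lit 7) (Steps.fwd (nat_lit 16384) (Steps.fwd (nat_lit 28672) (Steps.bwd (nat_lit 4) (Steps.fwd (nat_lit 20480) Steps.nil))))))))) (nat_lit 36) (nat_lit 3),
  Rule.mk (nat_lit 1) (nat_lit 49) (Steps.fwd (nat_lit 28672) (Steps.bwd (nat_lit 1) (Steps.bwd (nat_lit 7) Steps.nil))) (nat_lit 30) (nat_lit 2),
  Rule.mk (nat_lit 4) (nat_lit 114) (Steps.bwd (nat_lit 1) (Steps.bwd (nat_lit 3) (Steps.bwd (nat_lit 4) (Steps.bwd (nat_lit 3) (Steps.bwd (nat_lit 4) (Steps.fwd (nat_lit 12288) (Steps.bwd (nat_lit 4) (Steps.fwd (nat_lit 12288) Steps.nil)))))))) (nat_lit 21) (nat_lit 8),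
  Rule.mk (nat_lit 6) (nat_lit 49) (Steps.bwd (nat_lit 3) (Steps.bwd (nat_lit 1) (Steps.fwd (nat_lit 28672) Steps.nil))) (nat_lit 28) (nat_lit 2),
  Rule.mk (nat_lit 4) (nat_lit 127) (Steps.bwd (nat_lit 6) (Steps.fwd (nat_lit 16384) (Steps.fwd (nat_lit 20480) (Steps.fwd (nat_lit 24576) (Steps.bwd (nat_lit 4) (Steps.fwd (nat_lit 28672) (Steps.fwd (nat_lit 16384) (Steps.bwd (nat_lit 5) (Steps.fwd (nat_lit 24576) Steps.nil))))))))) (nat_lit 36) (nat_lit 4),
  Rule.mk (nat_lit 3) (nat_lit 114) (Steps.bwd (nat_lit 4) (Steps.bwd (nat_lit 3) (Steps.fwd (nat_lit 16384) (Steps.fwd (nat_lit 12288) (Steps.fwd (nat_lit 16384) (Steps.bwd (nat_lit 3) (Steps.bwd (nat_lit 1) (Steps.bwd (nat_lit 4) Steps.nil)))))))) (nat_lit 20) (nat_lit 3),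
  Rule.mk (nat_lit 1) (nat_lit 114) (Steps.bwd (nat_lit 4) (Steps.bwd (nat_lit 3) (Steps.fwd (nat_lit 16384) (Steps.fwd (nat_lit 12288) (Steps.fwd (nat_lit 16384) (Steps.bwd (nat_lit 3) (Steps.bwd (nat_lit 4) (Steps.fwd (nat_lit 12288) Steps.nil)))))))) (nat_lit 20) (nat_lit 1),
  Rule.mk (nat_lit 4) (nat_lit 114) (Steps.bwd (nat_lit 3) (Steps.bwd (nat_lit 4) (Steps.bwd (nat_lit 3) (Steps.bwd (nat_lit 4) (Steps.bwd (nat_lit 1) (Steps.fwd (nat_lit 12288) (Steps.fwd (nat_lit 16384) (Steps.fwd (nat_lit 12288) Steps.nil)))))))) (nat_lit 21) (nat_lit 4),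
  Rule.mk (nat_lit 6) (nat_lit 127) (Steps.bwd (nat_lit 4) (Steps.fwd (nat_lit 20480) (Steps.fwd (nat_lit 24576) (Steps.fwd (nat_lit 16384) (Steps.fwd (nat_lit 28672) (Steps.bwd (nat_lit 4) (Steps.fwd (nat_lit 20480) (Steps.bwd (nat_lit 7) (Steps.bwd (nat_lit 4) Steps.nil))))))))) (nat_lit 36) (nat_lit 0),
  Rule.mk (nat_lit 5) (nat_lit 127) (Steps.bwd (nat_lit 7) (Steps.bwd (nat_lit 4) (Steps.fwd (nat_lit 28672) (Steps.fwd (nat_lit 16384) (Steps.bwd (nat_lit 5) (Steps.bwd (nat_lit 7) (Steps.bwd (nat_lit 4) (Steps.bwd (nat_lit 6) (Steps.bwd (nat_lit 4) Steps.nil))))))))) (nat_lit 36) (nat_lit 2),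
  Rule.mk (nat_lit 4) (nat_lit 127) (Steps.bwd (nat_lit 7) (Steps.bwd (nat_lit 4) (Steps.fwd (nat_lit 28672) (Steps.fwd (nat_lit 20480) (Steps.bwd (nat_lit 4) (Steps.fwd (nat_lit 24576) (Steps.fwd (nat_lit 16384) (Steps.fwd (nat_lit 28672) (Steps.fwd (nat_lit 20480) Steps.nil))))))))) (nat_lit 37) (nat_lit 0),
  Rule.mk (nat_lit 4) (nat_lit 114) (Steps.bwd (nat_lit 3) (Steps.fwd (nat_lit 16384) (Steps.bwd (nat_lit 3) (Steps.fwd (nat_lit 4096) (Steps.fwd (nat_lit 16384) (Steps.fwd (nat_lit 12288) (Steps.bwd (nat_lit 4) (Steps.fwd (nat_lit 12288) Steps.nil)))))))) (nat_lit 20) (nat_lit 6),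
  Rule.mk (nat_lit 1) (nat_lit 114) (Steps.bwd (nat_lit 3) (Steps.fwd (nat_lit 16384) (Steps.bwd (nat_lit 3) (Steps.fwd (nat_lit 16384) (Steps.fwd (nat_lit 12288) (Steps.bwd (nat_lit 4) (Steps.fwd (nat_lit 12288) (Steps.bwd (nat_lit 4) Steps.nil)))))))) (nat_lit 21) (nat_lit 0),
  Rule.mk (nat_lit 2) (nat_lit 75) (Steps.bwd (nat_lit 1) (Steps.fwd (nat_lit 8192) (Steps.bwd (nat_lit 1) (Steps.fwd (nat_lit 8192) (Steps.bwd (nat_lit 1) Steps.nil))))) (nat_lit 10) (nat_lit 0),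
  Rule.mk (nat_lit 4) (nat_lit 127) (Steps.bwd (nat_lit 6) (Steps.bwd (nat_lit 5) (Steps.fwd (nat_lit 16384) (Steps.fwd (nat_lit 24576) (Steps.fwd (nat_lit 16384) (Steps.bwd (nat_lit 6) (Steps.fwd (nat_lit 20480) (Steps.bwd (nat_lit 4) (Steps.bwd (nat_lit 7) Steps.nil))))))))) (nat_lit 37) (nat_lit 2),
  Rule.mk (nat_lit 5) (nat_lit 75) (Steps.bwd (nat_lit 4) (Steps.bwd (nat_lit 5) (Steps.bwd (nat_lit 4) (Steps.fwd (nat_lit 20480) (Steps.bwd (nat_lit 4) Steps.nil))))) (nat_lit 24) (nat_lit 0),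
  Rule.mk (nat_lit 3) (nat_lit 114) (Steps.bwd (nat_lit 4) (Steps.fwd (nat_lit 12288) (Steps.fwd (nat_lit 4096) (Steps.fwd (nat_lit 16384) (Steps.fwd (nat_lit 12288) (Steps.bwd (nat_lit 4) (Steps.bwd (nat_lit 3) (Steps.bwd (nat_lit 4) Steps.nil)))))))) (nat_lit 20) (nat_lit 7),
  Rule.mk (nat_lit 1) (nat_lit 114) (Steps.bwd (nat_lit 4) (Steps.fwd (nat_lit 12288) (Steps.fwd (nat_lit 16384) (Steps.fwd (nat_lit 12288) (Steps.bwd (nat_lit 4) (Steps.bwd (nat_lit 3) (Steps.fwd (nat_lit 16384) (Steps.fwd (nat_lit 12288) Steps.nil)))))))) (nat_lit 20) (nat_lit 1),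
  Rule.mk (nat_lit 7) (nat_lit 127) (Steps.bwd (nat_lit 4) (Steps.fwd (nat_lit 28672) (Steps.fwd (nat_lit 16384) (Steps.fwd (nat_lit 20480) (Steps.fwd (nat_lit 24576) (Steps.bwd (nat_lit 4) (Steps.fwd (nat_lit 28672) (Steps.bwd (nat_lit 4) (Steps.bwd (nat_lit 5) Steps.nil))))))))) (nat_lit 36) (nat_lit 3),
  Rule.mk (nat_lit 2) (nat_lit 75) (Steps.bwd (nat_lit 3) (Steps.bwd (nat_lit 2) (Steps.fwd (nat_lit 12288) (Steps.bwd (nat_lit 2) (Steps.bwd (nat_lit 3) Steps.nil))))) (nat_lit 14) (nat_lit 1),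
  Rule.mk (nat_lit 4) (nat_lit 114) (Steps.bwd (nat_lit 3) (Steps.fwd (nat_lit 16384) (Steps.bwd (nat_lit 3) (Steps.bwd (nat_lit 1) (Steps.bwd (nat_lit 4) (Steps.fwd (nat_lit 12288) (Steps.fwd (nat_lit 16384) (Steps.bwd (nat_lit 3) Steps.nil)))))))) (nat_lit 20) (nat_lit 6),
  Rule.mk (nat_lit 1) (nat_lit 114) (Steps.bwd (nat_lit 3) (Steps.fwd (nat_lit 16384) (Steps.bwd (nat_lit 3) (Steps.bwd (nat_lit 4) (Steps.fwd (nat_lit 12288) (Steps.fwd (nat_lit 16384) (Steps.fwd (nat_lit 12288) (Steps.bwd (nat_lit 4) Steps.nil)))))))) (nat_lit 21) (nat_lit 0),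
  Rule.mk (nat_lit 5) (nat_lit 75) (Steps.fwd (nat_lit 16384) (Steps.bwd (nat_lit 5) (Steps.fwd (nat_lit 16384) (Steps.fwd (nat_lit 20480) (Steps.bwd (nat_lit 4) Steps.nil))))) (nat_lit 24) (nat_lit 0),
  Rule.mk (nat_lit 4) (nat_lit 127) (Steps.bwd (nat_lit 6) (Steps.fwd (nat_lit 16384) (Steps.bwd (nat_lit 5) (Steps.bwd (nat_lit 7) (Steps.fwd (nat_lit 16384) (Steps.bwd (nat_lit 6) (Steps.fwd (nat_lit 16384) (Steps.fwd (nat_lit 20480) (Steps.bwd (nat_lit 7) Steps.nil))))))))) (nat_lit 36) (nat_lit 4),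
  Rule.mk (nat_lit 3) (nat_lit 114) (Steps.bwd (nat_lit 4) (Steps.bwd (nat_lit 3) (Steps.fwd (nat_lit 4096) (Steps.bwd (nat_lit 4) (Steps.fwd (nat_lit 12288) (Steps.fwd (nat_lit 16384) (Steps.bwd (nat_lit 3) (Steps.bwd (nat_lit 4) Steps.nil)))))))) (nat_lit 20) (nat_lit 7),
  Rule.mk (nat_lit 1) (nat_lit 114) (Steps.bwd (nat_lit 4) (Steps.bwd (nat_lit 3) (Steps.fwd (nat_lit 16384) (Steps.fwd (nat_lit 12288) (Steps.bwd (nat_lit 4) (Steps.fwd (nat_lit 12288) (Steps.fwd (nat_lit 16384) (Steps.fwd (nat_lit 12288) Steps.nil)))))))) (nat_lit 20) (nat_lit 1),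
  Rule.mk (nat_lit 7) (nat_lit 127) (Steps.bwd (nat_lit 4) (Steps.bwd (nat_lit 6) (Steps.bwd (nat_lit 4) (Steps.fwd (nat_lit 20480) (Steps.bwd (nat_lit 7) (Steps.bwd (nat_lit 4) (Steps.bwd (nat_lit 6) (Steps.bwd (nat_lit 4) (Steps.fwd (nat_lit 20480) Steps.nil))))))))) (nat_lit 36) (nat_lit 3),
  Rule.mk (nat_lit 6) (nat_lit 127) (Steps.bwd (nat_lit 4) (Steps.bwd (nat_lit 5) (Steps.bwd (nat_lit 7) (Steps.bwd (nat_lit 4) (Steps.bwd (nat_lit 6) (Steps.bwd (nat_lit 4) (Steps.fwd (nat_lit 20480) (Steps.bwd (nat_lit 7) (Steps.bwd (nat_lit 4) Steps.nil))))))))) (nat_lit 36) (nat_lit 0),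
  Rule.mk (nat_lit 3) (nat_lit 140) (Steps.bwd (nat_lit 1) (Steps.fwd (nat_lit 8192) (Steps.bwd (nat_lit 6) (Steps.bwd (nat_lit 2) (Steps.fwd (nat_lit 4096) (Steps.fwd (nat_lit 12288) (Steps.fwd (nat_lit 8192) (Steps.bwd (nat_lit 5) (Steps.fwd (nat_lit 24576) (Steps.fwd (nat_lit 8192) Steps.nil)))))))))) (nat_lit 38) (nat_lit 3),
  Rule.mk (nat_lit 7) (nat_lit 49) (Steps.fwd (nat_lit 20480) (Steps.fwd (nat_lit 28672) (Steps.bwd (nat_lit 5) Steps.nil))) (nat_lit 34) (nat_lit 1),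
  Rule.mk (nat_lit 6) (nat_lit 49) (Steps.bwd (nat_lit 3) (Steps.bwd (nat_lit 7) (Steps.bwd (nat_lit 3) Steps.nil))) (nat_lit 32) (nat_lit 3),
  Rule.mk (nat_lit 2) (nat_lit 75) (Steps.bwd (nat_lit 3) (Steps.bwd (nat_lit 2) (Steps.bwd (nat_lit 3) (Steps.bwd (nat_lit 2) (Steps.bwd (nat_lit 3) Steps.nil))))) (nat_lit 14) (nat_lit 1),
  Rule.mk (nat_lit 3) (nat_lit 322) (Steps.bwd (nat_lit 1) (Steps.fwd (nat_lit 8192) (Steps.fwd (nat_lit 20480) (Steps.bwd (nat_lit 7) (Steps.fwd (nat_lit 16384) (Steps.fwd (nat_lit 24576) (Steps.fwd (nat_lit 16384) (Steps.fwd (nat_lit 8192) (Steps.fwd (nat_lit 12288) (Steps.fwd (nat_lit 4096) (Steps.bwd (nat_lit 2) (Steps.bwd (nat_lit 4) (Steps.fwd (nat_lit 28672) (Steps.bwd (nat_lit 4) (Steps.bwd (nat_lit 2) (Steps.fwd (nat_lit 4096) (Steps.bwd (nat_lit 3) (Steps.fwd (nat_lit 8192) (Steps.fwd (nat_lit 12288) (Steps.bwd (nat_lit 5) (Steps.fwd (nat_lit 16384) (Steps.fwd (nat_lit 24576) (Steps.fwd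 (nat_lit 16384) (Steps.fwd (nat_lit 8192) Steps.nil)))))))))))))))))))))))) (nat_lit 40) (nat_lit 21),
  Rule.mk (nat_lit 1) (nat_lit 75) (Steps.bwd (nat_lit 2) (Steps.bwd (nat_lit 1) (Steps.fwd (nat_lit 8192) (Steps.fwd (nat_lit 4096) (Steps.bwd (nat_lit 2) Steps.nil))))) (nat_lit 10) (nat_lit 1),
  Rule.mk (nat_lit 3) (nat_lit 140) (Steps.bwd (nat_lit 1) (Steps.fwd (nat_lit 8192) (Steps.fwd (nat_lit 28672) (Steps.fwd (nat_lit 8192) (Steps.fwd (nat_lit 4096) (Steps.bwd (nat_lit 3) (Steps.fwd (nat_lit 8192) (Steps.fwd (nat_lit 20480) (Steps.bwd (nat_lit 7) (Steps.fwd (nat_lit 8192) Steps.nil)))))))))) (nat_lit 38) (nat_lit 3),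
  Rule.mk (nat_lit 3) (nat_lit 140) (Steps.bwd (nat_lit 1) (Steps.bwd (nat_lit 2) (Steps.bwd (nat_lit 6) (Steps.bwd (nat_lit 2) (Steps.bwd (nat_lit 1) (Steps.fwd (nat_lit 12288) (Steps.fwd (nat_lit 8192) (Steps.fwd (nat_lit 20480) (Steps.fwd (nat_lit 24576) (Steps.fwd (nat_lit 8192) Steps.nil)))))))))) (nat_lit 38) (nat_lit 3),
  Rule.mk (nat_lit 3) (nat_lit 140) (Steps.bwd (nat_lit 2) (Steps.bwd (nat_lit 5) (Steps.bwd (nat_lit 7) (Steps.bwd (nat_lit 2) (Steps.bwd (nat_lit 3) (Steps.fwd (nat_lit 4096) (Steps.fwd (nat_lit 8192) (Steps.bwd (nat_lit 6) (Steps.fwd (nat_lit 8192) (Steps.fwd (nat_lit 4096) Steps.nil)))))))))) (nat_lit 38) (nat_lit 9),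
  Rule.mk (nat_lit 2) (nat_lit 75) (Steps.bwd (nat_lit 1) (Steps.bwd (nat_lit 2) (Steps.fwd (nat_lit 4096) (Steps.bwd (nat_lit 2) (Steps.bwd (nat_lit 1) Steps.nil))))) (nat_lit 10) (nat_lit 0),
  Rule.mk (nat_lit 1) (nat_lit 140) (Steps.bwd (nat_lit 3) (Steps.fwd (nat_lit 8192) (Steps.fwd (nat_lit 20480) (Steps.fwd (nat_lit 24576) (Steps.fwd (nat_lit 8192) (Steps.fwd (nat_lit 12288) (Steps.bwd (nat_lit 1) (Steps.bwd (nat_lit 2) (Steps.bwd (nat_lit 6) (Steps.fwd (nat_lit 8192) Steps.nil)))))))))) (nat_lit 38) (nat_lit 8),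
  Rule.mk (nat_lit 3) (nat_lit 140) (Steps.bwd (nat_lit 1) (Steps.fwd (nat_lit 8192) (Steps.bwd (nat_lit 6) (Steps.bwd (nat_lit 2) (Steps.fwd (nat_lit 4096) (Steps.bwd (nat_lit 3) (Steps.fwd (nat_lit 8192) (Steps.fwd (nat_lit 20480) (Steps.bwd (nat_lit 7) (Steps.fwd (nat_lit 8192) Steps.nil)))))))))) (nat_lit 38) (nat_lit 3)]
noncomputable def R_6 : List (Rule) := [Rule.mk (nat_lit 2) (nat_lit 75) (Steps.bwd (nat_lit 1) (Steps.bwd (nat_lit 2) (Steps.bwd (nat_lit 1) (Steps.fwd (nat_lit 8192) (Steps.bwd (nat_lit 1) Steps.nil))))) (nat_lit 10) (nat_lit 0),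
  Rule.mk (nat_lit 2) (nat_lit 75) (Steps.bwd (nat_lit 3) (Steps.fwd (nat_lit 8192) (Steps.fwd (nat_lit 12288) (Steps.fwd (nat_lit 8192) (Steps.fwd (nat_lit 12288) Steps.nil))))) (nat_lit 14) (nat_lit 1),
  Rule.mk (nat_lit 1) (nat_lit 140) (Steps.bwd (nat_lit 3) (Steps.fwd (nat_lit 8192) (Steps.bwd (nat_lit 5) (Steps.bwd (nat_lit 7) (Steps.bwd (nat_lit 2) (Steps.fwd (nat_lit 12288) (Steps.bwd (nat_lit 1) (Steps.fwd (nat_lit 8192) (Steps.bwd (nat_lit 6) (Steps.fwd (nat_lit 8192) Steps.nil)))))))))) (nat_lit 38) (nat_lit 8),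
  Rule.mk (nat_lit 4) (nat_lit 322) (Steps.bwd (nat_lit 2) (Steps.bwd (nat_lit 3) (Steps.fwd (nat_lit 4096) (Steps.bwd (nat_lit 2) (Steps.bwd (nat_lit 5) (Steps.fwd (nat_lit 24576) (Steps.bwd (nat_lit 4) (Steps.bwd (nat_lit 7) (Steps.fwd (nat_lit 16384) (Steps.fwd (nat_lit 8192) (Steps.fwd (nat_lit 12288) (Steps.fwd (nat_lit 4096) (Steps.bwd (nat_lit 2) (Steps.bwd (nat_lit 4) (Steps.fwd (nat_lit 28672) (Steps.fwd (nat_lit 16384) (Steps.fwd (nat_lit 8192) (Steps.fwd (nat_lit 4096) (Steps.bwd (nat_lit 3) (Steps.fwd (nat_lit 8192) (Steps.bwd (nat_lit 3) (Steps.bwd (nat_lit 5) (Steps.fwd (nat_lit 16384) (Steps.bwd (nat_lit 7) Steps.nil)))))))))))))))))))))))) (nat_lit 40) (nat_lit 19),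
  Rule.mk (nat_lit 4) (nat_lit 127) (Steps.fwd (nat_lit 28672) (Steps.bwd (nat_lit 4) (Steps.bwd (nat_lit 5) (Steps.bwd (nat_lit 7) (Steps.bwd (nat_lit 4) (Steps.bwd (nat_lit 6) (Steps.fwd (nat_lit 16384) (Steps.bwd (nat_lit 5) (Steps.fwd (nat_lit 24576) Steps.nil))))))))) (nat_lit 36) (nat_lit 4),
  Rule.mk (nat_lit 4) (nat_lit 127) (Steps.bwd (nat_lit 6) (Steps.bwd (nat_lit 5) (Steps.fwd (nat_lit 16384) (Steps.bwd (nat_lit 7) (Steps.bwd (nat_lit 4) (Steps.bwd (nat_lit 6) (Steps.fwd (nat_lit 20480) (Steps.fwd (nat_lit 16384) (Steps.fwd (nat_lit 24576) Steps.nil))))))))) (nat_lit 37) (nat_lit 2),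
  Rule.mk (nat_lit 5) (nat_lit 49) (Steps.bwd (nat_lit 1) (Steps.fwd (nat_lit 20480) (Steps.bwd (nat_lit 1) Steps.nil))) (nat_lit 12) (nat_lit 0),
  Rule.mk (nat_lit 3) (nat_lit 140) (Steps.bwd (nat_lit 1) (Steps.fwd (nat_lit 8192) (Steps.bwd (nat_lit 6) (Steps.fwd (nat_lit 8192) (Steps.bwd (nat_lit 1) (Steps.fwd (nat_lit 12288) (Steps.bwd (nat_lit 2) (Steps.fwd (nat_lit 20480) (Steps.fwd (nat_lit 24576) (Steps.fwd (nat_lit 8192) Steps.nil)))))))))) (nat_lit 38) (nat_lit 3),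
  Rule.mk (nat_lit 1) (nat_lit 140) (Steps.bwd (nat_lit 3) (Steps.fwd (nat_lit 8192) (Steps.fwd (nat_lit 20480) (Steps.fwd (nat_lit 24576) (Steps.bwd (nat_lit 2) (Steps.fwd (nat_lit 12288) (Steps.bwd (nat_lit 1) (Steps.fwd (nat_lit 8192) (Steps.fwd (nat_lit 28672) (Steps.fwd (nat_lit 8192) Steps.nil)))))))))) (nat_lit 38) (nat_lit 8),
  Rule.mk (nat_lit 2) (nat_lit 75) (Steps.bwd (nat_lit 1) (Steps.fwd (nat_lit 8192) (Steps.fwd (nat_lit 4096) (Steps.fwd (nat_lit 8192) (Steps.bwd (nat_lit 1) Steps.nil))))) (nat_lit 10) (nat_lit 0),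
  Rule.mk (nat_lit 3) (nat_lit 140) (Steps.bwd (nat_lit 1) (Steps.fwd (nat_lit 8192) (Steps.bwd (nat_lit 6) (Steps.bwd (nat_lit 2) (Steps.fwd (nat_lit 4096) (Steps.bwd (nat_lit 3) (Steps.fwd (nat_lit 8192) (Steps.fwd (nat_lit 20480) (Steps.fwd (nat_lit 24576) (Steps.fwd (nat_lit 8192) Steps.nil)))))))))) (nat_lit 38) (nat_lit 3),
  Rule.mk (nat_lit 1) (nat_lit 75) (Steps.bwd (nat_lit 2) (Steps.bwd (nat_lit 1) (Steps.bwd (nat_lit 2) (Steps.bwd (nat_lit 1) (Steps.fwd (nat_lit 8192) Steps.nil))))) (nat_lit 10) (nat_lit 1),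
  Rule.mk (nat_lit 4) (nat_lit 322) (Steps.bwd (nat_lit 2) (Steps.fwd (nat_lit 4096) (Steps.bwd (nat_lit 3) (Steps.bwd (nat_lit 2) (Steps.bwd (nat_lit 3) (Steps.fwd (nat_lit 20480) (Steps.fwd (nat_lit 16384) (Steps.fwd (nat_lit 24576) (Steps.fwd (nat_lit 16384) (Steps.bwd (nat_lit 2) (Steps.bwd (nat_lit 3) (Steps.fwd (nat_lit 4096) (Steps.bwd (nat_lit 2) (Steps.fwd (nat_lit 20480) (Steps.bwd (nat_lit 7) (Steps.bwd (nat_lit 4) (Steps.fwd (nat_lit 24576) (Steps.fwd (nat_lit 16384) (Steps.fwd (nat_lit 8192) (Steps.bwd (nat_lit 3) (Steps.fwd (nat_lit 4096) (Steps.fwd (nat_lit 8192) (Steps.fwd (nat_lit 16384) (Steps.fwd (nat_lit 28672) Steps.nil)))))))))))))))))))))))) (nat_lit 40) (nat_lit 10),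
  Rule.mk (nat_lit 7) (nat_lit 140) (Steps.bwd (nat_lit 2) (Steps.bwd (nat_lit 1) (Steps.bwd (nat_lit 3) (Steps.fwd (nat_lit 8192) (Steps.bwd (nat_lit 6) (Steps.fwd (nat_lit 20480) (Steps.fwd (nat_lit 8192) (Steps.fwd (nat_lit 12288) (Steps.bwd (nat_lit 1) (Steps.fwd (nat_lit 8192) Steps.nil)))))))))) (nat_lit 39) (nat_lit 6),
  Rule.mk (nat_lit 3) (nat_lit 75) (Steps.bwd (nat_lit 2) (Steps.fwd (nat_lit 12288) (Steps.bwd (nat_lit 2) (Steps.fwd (nat_lit 12288) (Steps.bwd (nat_lit 2) Steps.nil))))) (nat_lit 14) (nat_lit 0),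
  Rule.mk (nat_lit 2) (nat_lit 140) (Steps.bwd (nat_lit 6) (Steps.fwd (nat_lit 20480) (Steps.fwd (nat_lit 8192) (Steps.fwd (nat_lit 12288) (Steps.bwd (nat_lit 1) (Steps.bwd (nat_lit 2) (Steps.fwd (nat_lit 24576) (Steps.bwd (nat_lit 2) (Steps.fwd (nat_lit 4096) (Steps.bwd (nat_lit 3) Steps.nil)))))))))) (nat_lit 39) (nat_lit 10),
  Rule.mk (nat_lit 7) (nat_lit 322) (Steps.bwd (nat_lit 4) (Steps.bwd (nat_lit 7) (Steps.bwd (nat_lit 4) (Steps.bwd (nat_lit 2) (Steps.bwd (nat_lit 3) (Steps.fwd (nat_lit 4096) (Steps.fwd (nat_lit 8192) (Steps.bwd (nat_lit 4) (Steps.bwd (nat_lit 6) (Steps.fwd (nat_lit 16384) (Steps.fwd (nat_lit 8192) (Steps.bwd (nat_lit 1) (Steps.fwd (nat_lit 12288) (Steps.fwd (nat_lit 8192) (Steps.bwd (nat_lit 3) (Steps.bwd (nat_lit 5) (Steps.fwd (nat_lit 16384) (Steps.bwd (nat_lit 7) (Steps.fwd (nat_lit 16384) (Steps.bwd (nat_lit 2) (Steps.fwd (nat_lit 12288) (Steps.bwd (nat_lit 1) (Steps.bwd (nat_lit 2) (Steps.fwd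 (nat_lit 20480) Steps.nil)))))))))))))))))))))))) (nat_lit 40) (nat_lit 0),
  Rule.mk (nat_lit 4) (nat_lit 127) (Steps.fwd (nat_lit 20480) (Steps.bwd (nat_lit 7) (Steps.bwd (nat_lit 4) (Steps.bwd (nat_lit 6) (Steps.bwd (nat_lit 4) (Steps.fwd (nat_lit 20480) (Steps.fwd (nat_lit 24576) (Steps.fwd (nat_lit 16384) (Steps.fwd (nat_lit 28672) Steps.nil))))))))) (nat_lit 36) (nat_lit 1),
  Rule.mk (nat_lit 4) (nat_lit 49) (Steps.fwd (nat_lit 8192) (Steps.bwd (nat_lit 4) (Steps.fwd (nat_lit 8192) Steps.nil))) (nat_lit 16) (nat_lit 0),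
  Rule.mk (nat_lit 1) (nat_lit 75) (Steps.bwd (nat_lit 2) (Steps.fwd (nat_lit 4096) (Steps.bwd (nat_lit 2) (Steps.bwd (nat_lit 1) (Steps.bwd (nat_lit 2) Steps.nil))))) (nat_lit 10) (nat_lit 1),
  Rule.mk (nat_lit 4) (nat_lit 127) (Steps.bwd (nat_lit 7) (Steps.fwd (nat_lit 16384) (Steps.bwd (nat_lit 6) (Steps.bwd (nat_lit 5) (Steps.bwd (nat_lit 4) (Steps.fwd (nat_lit 24576) (Steps.bwd (nat_lit 4) (Steps.fwd (nat_lit 28672) (Steps.bwd (nat_lit 5) Steps.nil))))))))) (nat_lit 37) (nat_lit 0),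
  Rule.mk (nat_lit 1) (nat_lit 140) (Steps.bwd (nat_lit 3) (Steps.fwd (nat_lit 8192) (Steps.fwd (nat_lit 20480) (Steps.bwd (nat_lit 7) (Steps.bwd (nat_lit 2) (Steps.fwd (nat_lit 12288) (Steps.bwd (nat_lit 1) (Steps.bwd (nat_lit 2) (Steps.fwd (nat_lit 28672) (Steps.bwd (nat_lit 2) Steps.nil)))))))))) (nat_lit 38) (nat_lit 8),
  Rule.mk (nat_lit 1) (nat_lit 75) (Steps.bwd (nat_lit 2) (Steps.fwd (nat_lit 4096) (Steps.fwd (nat_lit 8192) (Steps.fwd (nat_lit 4096) (Steps.bwd (nat_lit 2) Steps.nil))))) (nat_lit 10) (nat_lit 1),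
  Rule.mk (nat_lit 1) (nat_lit 75) (Steps.bwd (nat_lit 2) (Steps.fwd (nat_lit 4096) (Steps.bwd (nat_lit 2) (Steps.fwd (nat_lit 4096) (Steps.bwd (nat_lit 2) Steps.nil))))) (nat_lit 10) (nat_lit 1),
  Rule.mk (nat_lit 1) (nat_lit 140) (Steps.bwd (nat_lit 3) (Steps.bwd (nat_lit 2) (Steps.fwd (nat_lit 20480) (Steps.fwd (nat_lit 24576) (Steps.bwd (nat_lit 2) (Steps.fwd (nat_lit 12288) (Steps.bwd (nat_lit 1) (Steps.bwd (nat_lit 2) (Steps.bwd (nat_lit 6) (Steps.bwd (nat_lit 2) Steps.nil)))))))))) (nat_lit 38) (nat_lit 8),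
  Rule.mk (nat_lit 4) (nat_lit 322) (Steps.bwd (nat_lit 6) (Steps.fwd (nat_lit 16384) (Steps.bwd (nat_lit 2) (Steps.bwd (nat_lit 1) (Steps.fwd (nat_lit 12288) (Steps.fwd (nat_lit 8192) (Steps.bwd (nat_lit 3) (Steps.fwd (nat_lit 20480) (Steps.bwd (nat_lit 4) (Steps.bwd (nat_lit 7) (Steps.bwd (nat_lit 4) (Steps.fwd (nat_lit 8192) (Steps.fwd (nat_lit 12288) (Steps.fwd (nat_lit 4096) (Steps.bwd (nat_lit 2) (Steps.bwd (nat_lit 5) (Steps.fwd (nat_lit 24576) (Steps.bwd (nat_lit 4) (Steps.bwd (nat_lit 7) (Steps.fwd (nat_lit 16384) (Steps.fwd (nat_lit 8192) (Steps.fwd (nat_lit 12288) (Steps.fwd (nat_lit 4096) (Steps.fwd (nat_lit 8192) Steps.nil)))))))))))))))))))))))) (nat_lit 40) (nat_lit 8),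
  Rule.mk (nat_lit 3) (nat_lit 114) (Steps.bwd (nat_lit 4) (Steps.fwd (nat_lit 12288) (Steps.fwd (nat_lit 4096) (Steps.bwd (nat_lit 4) (Steps.bwd (nat_lit 3) (Steps.fwd (nat_lit 16384) (Steps.fwd (nat_lit 12288) (Steps.bwd (nat_lit 4) Steps.nil)))))))) (nat_lit 20) (nat_lit 7),
  Rule.mk (nat_lit 4) (nat_lit 127) (Steps.bwd (nat_lit 7) (Steps.bwd (nat_lit 4) (Steps.fwd (nat_lit 28672) (Steps.bwd (nat_lit 5) (Steps.fwd (nat_lit 16384) (Steps.bwd (nat_lit 7) (Steps.fwd (nat_lit 16384) (Steps.bwd (nat_lit 6) (Steps.bwd (nat_lit 5) Steps.nil))))))))) (nat_lit 37) (nat_lit 0),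
  Rule.mk (nat_lit 7) (nat_lit 49) (Steps.bwd (nat_lit 3) (Steps.bwd (nat_lit 6) (Steps.fwd (nat_lit 12288) Steps.nil))) (nat_lit 32) (nat_lit 1),
  Rule.mk (nat_lit 1) (nat_lit 114) (Steps.bwd (nat_lit 3) (Steps.bwd (nat_lit 4) (Steps.bwd (nat_lit 3) (Steps.bwd (nat_lit 4) (Steps.fwd (nat_lit 12288) (Steps.fwd (nat_lit 16384) (Steps.bwd (nat_lit 3) (Steps.fwd (nat_lit 16384) Steps.nil)))))))) (nat_lit 21) (nat_lit 0),
  Rule.mk (nat_lit 4) (nat_lit 127) (Steps.bwd (nat_lit 6) (Steps.bwd (nat_lit 5) (Steps.fwd (nat_lit 16384) (Steps.fwd (nat_lit 24576) (Steps.fwd (nat_lit 16384) (Steps.fwd (nat_lit 28672) (Steps.bwd (nat_lit 5) (Steps.bwd (nat_lit 4) (Steps.bwd (nat_lit 7) Steps.nil))))))))) (nat_lit 37) (nat_lit 2),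
  Rule.mk (nat_lit 4) (nat_lit 127) (Steps.bwd (nat_lit 5) (Steps.bwd (nat_lit 7) (Steps.fwd (nat_lit 16384) (Steps.bwd (nat_lit 6) (Steps.bwd (nat_lit 4) (Steps.fwd (nat_lit 20480) (Steps.fwd (nat_lit 24576) (Steps.fwd (nat_lit 16384) (Steps.bwd (nat_lit 6) Steps.nil))))))))) (nat_lit 36) (nat_lit 1),
  Rule.mk (nat_lit 1) (nat_lit 49) (Steps.bwd (nat_lit 6) (Steps.fwd (nat_lit 4096) (Steps.bwd (nat_lit 7) Steps.nil))) (nat_lit 30) (nat_lit 2),
  Rule.mk (nat_lit 1) (nat_lit 49) (Steps.fwd (nat_lit 28672) (Steps.fwd (nat_lit 28672) (Steps.bwd (nat_lit 3) Steps.nil))) (nat_lit 28) (nat_lit 0),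
  Rule.mk (nat_lit 7) (nat_lit 49) (Steps.bwd (nat_lit 1) (Steps.bwd (nat_lit 3) (Steps.bwd (nat_lit 7) Steps.nil))) (nat_lit 29) (nat_lit 0),
  Rule.mk (nat_lit 5) (nat_lit 49) (Steps.fwd (nat_lit 4096) (Steps.bwd (nat_lit 5) (Steps.bwd (nat_lit 1) Steps.nil))) (nat_lit 12) (nat_lit 0),
  Rule.mk (nat_lit 6) (nat_lit 49) (Steps.bwd (nat_lit 3) (Steps.bwd (nat_lit 1) (Steps.bwd (nat_lit 6) Steps.nil))) (nat_lit 28) (nat_lit 2),
  Rule.mk (nat_lit 6) (nat_lit 49) (Steps.bwd (nat_lit 1) (Steps.fwd (nat_lit 24576) (Steps.bwd (nat_lit 1) Steps.nil))) (nat_lit 30) (nat_lit 3),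
  Rule.mk (nat_lit 2) (nat_lit 75) (Steps.bwd (nat_lit 1) (Steps.fwd (nat_lit 8192) (Steps.fwd (nat_lit 4096) (Steps.fwd (nat_lit 8192) (Steps.fwd (nat_lit 4096) Steps.nil))))) (nat_lit 10) (nat_lit 0),
  Rule.mk (nat_lit 3) (nat_lit 75) (Steps.fwd (nat_lit 8192) (Steps.bwd (nat_lit 3) (Steps.bwd (nat_lit 2) (Steps.bwd (nat_lit 3) (Steps.bwd (nat_lit 2) Steps.nil))))) (nat_lit 14) (nat_lit 0),
  Rule.mk (nat_lit 3) (nat_lit 140) (Steps.bwd (nat_lit 2) (Steps.bwd (nat_lit 5) (Steps.bwd (nat_lit 7) (Steps.fwd (nat_lit 8192) (Steps.fwd (nat_lit 12288) (Steps.bwd (nat_lit 1) (Steps.fwd (nat_lit 8192) (Steps.fwd (nat_lit 28672) (Steps.fwd (nat_lit 8192) (Steps.fwd (nat_lit 4096) Steps.nil)))))))))) (nat_lit 38) (nat_lit 9),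
  Rule.mk (nat_lit 1) (nat_lit 140) (Steps.bwd (nat_lit 3) (Steps.fwd (nat_lit 8192) (Steps.bwd (nat_lit 5) (Steps.bwd (nat_lit 7) (Steps.bwd (nat_lit 2) (Steps.fwd (nat_lit 12288) (Steps.bwd (nat_lit 1) (Steps.bwd (nat_lit 2) (Steps.fwd (nat_lit 28672) (Steps.fwd (nat_lit 8192) Steps.nil)))))))))) (nat_lit 38) (nat_lit 8),
  Rule.mk (nat_lit 2) (nat_lit 75) (Steps.bwd (nat_lit 3) (Steps.bwd (nat_lit 2) (Steps.bwd (nat_lit 3) (Steps.bwd (nat_lit 2) (Steps.fwd (nat_lit 12288) Steps.nil))))) (nat_lit 14) (nat_lit 1),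
  Rule.mk (nat_lit 3) (nat_lit 140) (Steps.bwd (nat_lit 1) (Steps.fwd (nat_lit 8192) (Steps.bwd (nat_lit 7) (Steps.fwd (nat_lit 8192) (Steps.fwd (nat_lit 4096) (Steps.bwd (nat_lit 3) (Steps.fwd (nat_lit 8192) (Steps.fwd (nat_lit 28672) (Steps.fwd (nat_lit 20480) (Steps.bwd (nat_lit 2) Steps.nil)))))))))) (nat_lit 39) (nat_lit 3),
  Rule.mk (nat_lit 3) (nat_lit 140) (Steps.bwd (nat_lit 1) (Steps.bwd (nat_lit 2) (Steps.bwd (nat_lit 7) (Steps.bwd (nat_lit 2) (Steps.fwd (nat_lit 4096) (Steps.bwd (nat_lit 3) (Steps.bwd (nat_lit 2) (Steps.fwd (nat_lit 28672) (Steps.bwd (nat_lit 5) (Steps.fwd (nat_lit 8192) Steps.nil)))))))))) (nat_lit 39) (nat_lit 3),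
  Rule.mk (nat_lit 1) (nat_lit 140) (Steps.bwd (nat_lit 3) (Steps.fwd (nat_lit 8192) (Steps.bwd (nat_lit 5) (Steps.bwd (nat_lit 7) (Steps.bwd (nat_lit 2) (Steps.bwd (nat_lit 3) (Steps.fwd (nat_lit 4096) (Steps.bwd (nat_lit 2) (Steps.bwd (nat_lit 6) (Steps.fwd (nat_lit 8192) Steps.nil)))))))))) (nat_lit 38) (nat_lit 8),
  Rule.mk (nat_lit 2) (nat_lit 140) (Steps.bwd (nat_lit 1) (Steps.fwd (nat_lit 12288) (Steps.fwd (nat_lit 8192) (Steps.fwd (nat_lit 20480) (Steps.fwd (nat_lit 24576) (Steps.bwd (nat_lit 2) (Steps.fwd (nat_lit 12288) (Steps.fwd (nat_lit 4096) (Steps.fwd (nat_lit 8192) (Steps.bwd (nat_lit 6) Steps.nil)))))))))) (nat_lit 38) (nat_lit 7),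
  Rule.mk (nat_lit 3) (nat_lit 49) (Steps.bwd (nat_lit 7) (Steps.bwd (nat_lit 3) (Steps.fwd (nat_lit 28672) Steps.nil))) (nat_lit 32) (nat_lit 0),
  Rule.mk (nat_lit 3) (nat_lit 140) (Steps.bwd (nat_lit 1) (Steps.fwd (nat_lit 8192) (Steps.fwd (nat_lit 28672) (Steps.bwd (nat_lit 2) (Steps.fwd (nat_lit 4096) (Steps.fwd (nat_lit 12288) (Steps.fwd (nat_lit 8192) (Steps.fwd (nat_lit 20480) (Steps.fwd (nat_lit 24576) (Steps.bwd (nat_lit 2) Steps.nil)))))))))) (nat_lit 38) (nat_lit 3),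
  Rule.mk (nat_lit 3) (nat_lit 140) (Steps.bwd (nat_lit 1) (Steps.fwd (nat_lit 8192) (Steps.bwd (nat_lit 6) (Steps.fwd (nat_lit 8192) (Steps.fwd (nat_lit 4096) (Steps.bwd (nat_lit 3) (Steps.fwd (nat_lit 8192) (Steps.fwd (nat_lit 20480) (Steps.fwd (nat_lit 24576) (Steps.bwd (nat_lit 2) Steps.nil)))))))))) (nat_lit 38) (nat_lit 3),
  Rule.mk (nat_lit 2) (nat_lit 49) (Steps.bwd (nat_lit 5) (Steps.bwd (nat_lit 2) (Steps.bwd (nat_lit 5) Steps.nil))) (nat_lit 18) (nat_lit 1),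
  Rule.mk (nat_lit 3) (nat_lit 140) (Steps.bwd (nat_lit 1) (Steps.fwd (nat_lit 8192) (Steps.bwd (nat_lit 6) (Steps.fwd (nat_lit 8192) (Steps.bwd (nat_lit 1) (Steps.bwd (nat_lit 3) (Steps.fwd (nat_lit 8192) (Steps.fwd (nat_lit 20480) (Steps.bwd (nat_lit 7) (Steps.fwd (nat_lit 8192) Steps.nil)))))))))) (nat_lit 38) (nat_lit 3),
  Rule.mk (nat_lit 5) (nat_lit 49) (Steps.fwd (nat_lit 8192) (Steps.fwd (nat_lit 20480) (Steps.bwd (nat_lit 2) Steps.nil))) (nat_lit 18) (nat_lit 0),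
  Rule.mk (nat_lit 3) (nat_lit 49) (Steps.bwd (nat_lit 5) (Steps.bwd (nat_lit 3) (Steps.fwd (nat_lit 20480) Steps.nil))) (nat_lit 22) (nat_lit 1),
  Rule.mk (nat_lit 3) (nat_lit 140) (Steps.bwd (nat_lit 2) (Steps.fwd (nat_lit 28672) (Steps.fwd (nat_lit 20480) (Steps.bwd (nat_lit 2) (Steps.fwd (nat_lit 12288) (Steps.bwd (nat_lit 1) (Steps.fwd (nat_lit 8192) (Steps.fwd (nat_lit 24576) (Steps.bwd (nat_lit 2) (Steps.fwd (nat_lit 4096) Steps.nil)))))))))) (nat_lit 39) (nat_lit 9),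
  Rule.mk (nat_lit 3) (nat_lit 140) (Steps.bwd (nat_lit 1) (Steps.fwd (nat_lit 8192) (Steps.bwd (nat_lit 6) (Steps.bwd (nat_lit 2) (Steps.fwd (nat_lit 4096) (Steps.bwd (nat_lit 3) (Steps.fwd (nat_lit 8192) (Steps.fwd (nat_lit 20480) (Steps.fwd (nat_lit 24576) (Steps.bwd (nat_lit 2) Steps.nil)))))))))) (nat_lit 38) (nat_lit 3),
  Rule.mk (nat_lit 3) (nat_lit 75) (Steps.bwd (nat_lit 2) (Steps.bwd (nat_lit 3) (Steps.fwd (nat_lit 8192) (Steps.fwd (nat_lit 12288) (Steps.bwd (nat_lit 2) Steps.nil))))) (nat_lit 14) (nat_lit 0),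
  Rule.mk (nat_lit 7) (nat_lit 49) (Steps.fwd (nat_lit 20480) (Steps.bwd (nat_lit 6) (Steps.bwd (nat_lit 5) Steps.nil))) (nat_lit 34) (nat_lit 1),
  Rule.mk (nat_lit 1) (nat_lit 322) (Steps.bwd (nat_lit 3) (Steps.fwd (nat_lit 8192) (Steps.bwd (nat_lit 4) (Steps.fwd (nat_lit 28672) (Steps.bwd (nat_lit 4) (Steps.bwd (nat_lit 5) (Steps.bwd (nat_lit 3) (Steps.bwd (nat_lit 2) (Steps.fwd (nat_lit 12288) (Steps.fwd (nat_lit 4096) (Steps.fwd (nat_lit 8192) (Steps.bwd (nat_lit 4) (Steps.fwd (nat_lit 24576) (Steps.fwd (nat_lit 16384) (Steps.bwd (nat_lit 2) (Steps.bwd (nat_lit 1) (Steps.fwd (nat_lit 12288) (Steps.fwd (nat_lit 8192) (Steps.bwd (nat_lit 4) (Steps.fwd (nat_lit 28672) (Steps.bwd (nat_lit 4) (Steps.fwd (nat_lit 28672) (Steps.fwd (nat_lit 20480) (Steps.fwd (nat_lit 8192) Steps.nil)))))))))))))))))))))))) (nat_lit 41) (nat_lit 4),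
  Rule.mk (nat_lit 4) (nat_lit 75) (Steps.bwd (nat_lit 5) (Steps.bwd (nat_lit 4) (Steps.bwd (nat_lit 5) (Steps.fwd (nat_lit 16384) (Steps.bwd (nat_lit 5) Steps.nil))))) (nat_lit 24) (nat_lit 1),
  Rule.mk (nat_lit 1) (nat_lit 322) (Steps.bwd (nat_lit 3) (Steps.bwd (nat_lit 2) (Steps.fwd (nat_lit 16384) (Steps.fwd (nat_lit 28672) (Steps.bwd (nat_lit 4) (Steps.bwd (nat_lit 6) (Steps.bwd (nat_lit 5) (Steps.bwd (nat_lit 2) (Steps.bwd (nat_lit 1) (Steps.fwd (nat_lit 12288) (Steps.fwd (nat_lit 8192) (Steps.bwd (nat_lit 4) (Steps.bwd (nat_lit 6) (Steps.bwd (nat_lit 4) (Steps.fwd (nat_lit 20480) (Steps.bwd (nat_lit 3) (Steps.fwd (nat_lit 8192) (Steps.fwd (nat_lit 12288) (Steps.fwd (nat_lit 4096) (Steps.fwd (nat_lit 8192) (Steps.fwd (nat_lit 16384) (Steps.fwd (nat_lit 24576) (Steps.fwd (nat_lit 16384) (Steps.fwd (nat_lit 8192) Steps.nil)))))))))))))))))))))))) (nat_lit 41) (nat_lit 20),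
  Rule.mk (nat_lit 6) (nat_lit 140) (Steps.bwd (nat_lit 2) (Steps.bwd (nat_lit 1) (Steps.fwd (nat_lit 12288) (Steps.fwd (nat_lit 8192) (Steps.bwd (nat_lit 5) (Steps.fwd (nat_lit 24576) (Steps.fwd (nat_lit 8192) (Steps.fwd (nat_lit 12288) (Steps.fwd (nat_lit 4096) (Steps.bwd (nat_lit 2) Steps.nil)))))))))) (nat_lit 38) (nat_lit 6),
  Rule.mk (nat_lit 4) (nat_lit 114) (Steps.fwd (nat_lit 12288) (Steps.bwd (nat_lit 4) (Steps.fwd (nat_lit 12288) (Steps.bwd (nat_lit 1) (Steps.bwd (nat_lit 4) (Steps.bwd (nat_lit 3) (Steps.fwd (nat_lit 16384) (Steps.bwd (nat_lit 3) Steps.nil)))))))) (nat_lit 20) (nat_lit 6),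
  Rule.mk (nat_lit 4) (nat_lit 114) (Steps.bwd (nat_lit 1) (Steps.bwd (nat_lit 3) (Steps.fwd (nat_lit 16384) (Steps.fwd (nat_lit 12288) (Steps.bwd (nat_lit 4) (Steps.fwd (nat_lit 12288) (Steps.fwd (nat_lit 16384) (Steps.fwd (nat_lit 12288) Steps.nil)))))))) (nat_lit 21) (nat_lit 8)]
noncomputable def R_7 : List (Rule) := [Rule.mk (nat_lit 7) (nat_lit 49) (Steps.fwd (nat_lit 12288) (Steps.bwd (nat_lit 6) (Steps.bwd (nat_lit 3) Steps.nil))) (nat_lit 32) (nat_lit 1),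
  Rule.mk (nat_lit 4) (nat_lit 114) (Steps.bwd (nat_lit 3) (Steps.bwd (nat_lit 1) (Steps.bwd (nat_lit 4) (Steps.fwd (nat_lit 12288) (Steps.fwd (nat_lit 16384) (Steps.fwd (nat_lit 12288) (Steps.bwd (nat_lit 4) (Steps.fwd (nat_lit 12288) Steps.nil)))))))) (nat_lit 20) (nat_lit 8),
  Rule.mk (nat_lit 1) (nat_lit 114) (Steps.fwd (nat_lit 16384) (Steps.bwd (nat_lit 3) (Steps.fwd (nat_lit 16384) (Steps.bwd (nat_lit 3) (Steps.bwd (nat_lit 4) (Steps.bwd (nat_lit 3) (Steps.fwd (nat_lit 16384) (Steps.bwd (nat_lit 3) Steps.nil)))))))) (nat_lit 20) (nat_lit 1),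
  Rule.mk (nat_lit 4) (nat_lit 75) (Steps.bwd (nat_lit 5) (Steps.bwd (nat_lit 4) (Steps.fwd (nat_lit 20480) (Steps.bwd (nat_lit 4) (Steps.bwd (nat_lit 5) Steps.nil))))) (nat_lit 24) (nat_lit 1),
  Rule.mk (nat_lit 3) (nat_lit 322) (Steps.bwd (nat_lit 1) (Steps.fwd (nat_lit 8192) (Steps.bwd (nat_lit 5) (Steps.fwd (nat_lit 24576) (Steps.bwd (nat_lit 4) (Steps.bwd (nat_lit 7) (Steps.fwd (nat_lit 16384) (Steps.fwd (nat_lit 8192) (Steps.fwd (nat_lit 12288) (Steps.bwd (nat_lit 1) (Steps.fwd (nat_lit 8192) (Steps.fwd (nat_lit 16384) (Steps.bwd (nat_lit 6) (Steps.fwd (nat_lit 16384) (Steps.fwd (nat_lit 8192) (Steps.bwd (nat_lit 1) (Steps.bwd (nat_lit 3) (Steps.fwd (nat_lit 8192) (Steps.fwd (nat_lit 12288) (Steps.fwd (nat_lit 20480) (Steps.bwd (nat_lit 4) (Steps.bwd (nat_lit 7) (Steps.bwd (nat_lit 4) (Steps.bwd (nat_lit 2) Steps.nil)))))))))))))))))))))))) (nat_lit 40) (nat_lit 21),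
  Rule.mk (nat_lit 7) (nat_lit 140) (Steps.bwd (nat_lit 2) (Steps.fwd (nat_lit 12288) (Steps.bwd (nat_lit 1) (Steps.fwd (nat_lit 8192) (Steps.fwd (nat_lit 28672) (Steps.bwd (nat_lit 2) (Steps.fwd (nat_lit 4096) (Steps.fwd (nat_lit 12288) (Steps.fwd (nat_lit 8192) (Steps.bwd (nat_lit 5) Steps.nil)))))))))) (nat_lit 38) (nat_lit 1),
  Rule.mk (nat_lit 4) (nat_lit 127) (Steps.bwd (nat_lit 5) (Steps.fwd (nat_lit 24576) (Steps.bwd (nat_lit 4) (Steps.fwd (nat_lit 28672) (Steps.fwd (nat_lit 16384) (Steps.bwd (nat_lit 5) (Steps.bwd (nat_lit 7) (Steps.fwd (nat_lit 16384) (Steps.bwd (nat_lit 6) Steps.nil))))))))) (nat_lit 36) (nat_lit 1),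
  Rule.mk (nat_lit 4) (nat_lit 322) (Steps.bwd (nat_lit 2) (Steps.bwd (nat_lit 3) (Steps.fwd (nat_lit 4096) (Steps.bwd (nat_lit 2) (Steps.bwd (nat_lit 5) (Steps.bwd (nat_lit 7) (Steps.fwd (nat_lit 16384) (Steps.bwd (nat_lit 7) (Steps.bwd (nat_lit 4) (Steps.fwd (nat_lit 8192) (Steps.bwd (nat_lit 3) (Steps.bwd (nat_lit 1) (Steps.fwd (nat_lit 8192) (Steps.fwd (nat_lit 16384) (Steps.bwd (nat_lit 6) (Steps.fwd (nat_lit 16384) (Steps.fwd (nat_lit 8192) (Steps.fwd (nat_lit 4096) (Steps.bwd (nat_lit 3) (Steps.bwd (nat_lit 2) (Steps.fwd (nat_lit 12288) (Steps.bwd (nat_lit 5) (Steps.fwd (nat_lit 16384) (Steps.bwd (nat_lit 7) Steps.nil)))))))))))))))))))))))) (nat_lit 40) (nat_lit 19),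
  Rule.mk (nat_lit 4) (nat_lit 127) (Steps.bwd (nat_lit 7) (Steps.fwd (nat_lit 16384) (Steps.fwd (nat_lit 28672) (Steps.fwd (nat_lit 20480) (Steps.bwd (nat_lit 4) (Steps.fwd (nat_lit 24576) (Steps.fwd (nat_lit 16384) (Steps.fwd (nat_lit 28672) (Steps.bwd (nat_lit 5) Steps.nil))))))))) (nat_lit 37) (nat_lit 0),
  Rule.mk (nat_lit 1) (nat_lit 75) (Steps.bwd (nat_lit 2) (Steps.fwd (nat_lit 4096) (Steps.fwd (nat_lit 8192) (Steps.fwd (nat_lit 4096) (Steps.fwd (nat_lit 8192) Steps.nil))))) (nat_lit 10) (nat_lit 1),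
  Rule.mk (nat_lit 3) (nat_lit 322) (Steps.bwd (nat_lit 1) (Steps.fwd (nat_lit 8192) (Steps.fwd (nat_lit 16384) (Steps.bwd (nat_lit 7) (Steps.fwd (nat_lit 16384) (Steps.bwd (nat_lit 2) (Steps.fwd (nat_lit 4096) (Steps.fwd (nat_lit 12288) (Steps.fwd (nat_lit 8192) (Steps.bwd (nat_lit 4) (Steps.bwd (nat_lit 6) (Steps.fwd (nat_lit 16384) (Steps.bwd (nat_lit 6) (Steps.fwd (nat_lit 20480) (Steps.fwd (nat_lit 8192) (Steps.bwd (nat_lit 1) (Steps.bwd (nat_lit 3) (Steps.fwd (nat_lit 8192) (Steps.fwd (nat_lit 16384) (Steps.bwd (nat_lit 6) (Steps.bwd (nat_lit 4) (Steps.bwd (nat_lit 5) (Steps.fwd (nat_lit 12288) (Steps.fwd (nat_lit 8192) Steps.nil)))))))))))))))))))))))) (nat_lit 41) (nat_lit 13),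
  Rule.mk (nat_lit 3) (nat_lit 140) (Steps.bwd (nat_lit 1) (Steps.fwd (nat_lit 8192) (Steps.fwd (nat_lit 24576) (Steps.bwd (nat_lit 2) (Steps.fwd (nat_lit 4096) (Steps.bwd (nat_lit 3) (Steps.fwd (nat_lit 8192) (Steps.fwd (nat_lit 28672) (Steps.bwd (nat_lit 5) (Steps.bwd (nat_lit 2) Steps.nil)))))))))) (nat_lit 39) (nat_lit 3),
  Rule.mk (nat_lit 3) (nat_lit 140) (Steps.bwd (nat_lit 1) (Steps.fwd (nat_lit 8192) (Steps.bwd (nat_lit 6) (Steps.fwd (nat_lit 8192) (Steps.bwd (nat_lit 1) (Steps.bwd (nat_lit 3) (Steps.fwd (nat_lit 8192) (Steps.bwd (nat_lit 5) (Steps.bwd (nat_lit 7) (Steps.fwd (nat_lit 8192) Steps.nil)))))))))) (nat_lit 38) (nat_lit 3),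
  Rule.mk (nat_lit 3) (nat_lit 140) (Steps.bwd (nat_lit 1) (Steps.fwd (nat_lit 8192) (Steps.bwd (nat_lit 6) (Steps.fwd (nat_lit 8192) (Steps.bwd (nat_lit 1) (Steps.bwd (nat_lit 3) (Steps.fwd (nat_lit 8192) (Steps.fwd (nat_lit 20480) (Steps.fwd (nat_lit 24576) (Steps.bwd (nat_lit 2) Steps.nil)))))))))) (nat_lit 38) (nat_lit 3),
  Rule.mk (nat_lit 4) (nat_lit 127) (Steps.bwd (nat_lit 5) (Steps.fwd (nat_lit 24576) (Steps.fwd (nat_lit 16384) (Steps.bwd (nat_lit 6) (Steps.bwd (nat_lit 4) (Steps.bwd (nat_lit 5) (Steps.bwd (nat_lit 7) (Steps.bwd (nat_lit 4) (Steps.bwd (nat_lit 6) Steps.nil))))))))) (nat_lit 36) (nat_lit 1),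
  Rule.mk (nat_lit 4) (nat_lit 75) (Steps.bwd (nat_lit 5) (Steps.bwd (nat_lit 4) (Steps.bwd (nat_lit 5) (Steps.bwd (nat_lit 4) (Steps.bwd (nat_lit 5) Steps.nil))))) (nat_lit 24) (nat_lit 1),
  Rule.mk (nat_lit 4) (nat_lit 322) (Steps.bwd (nat_lit 6) (Steps.fwd (nat_lit 20480) (Steps.fwd (nat_lit 8192) (Steps.fwd (nat_lit 4096) (Steps.bwd (nat_lit 3) (Steps.bwd (nat_lit 2) (Steps.fwd (nat_lit 16384) (Steps.bwd (nat_lit 6) (Steps.bwd (nat_lit 4) (Steps.bwd (nat_lit 5) (Steps.bwd (nat_lit 3) (Steps.bwd (nat_lit 2) (Steps.fwd (nat_lit 12288) (Steps.fwd (nat_lit 4096) (Steps.fwd (nat_lit 8192) (Steps.fwd (nat_lit 16384) (Steps.bwd (nat_lit 7) (Steps.fwd (nat_lit 16384) (Steps.bwd (nat_lit 2) (Steps.fwd (nat_lit 4096) (Steps.bwd (nat_lit 3) (Steps.bwd (nat_lit 2) (Steps.fwd (nat_lit 16384) (Steps.fwd (nat_lit 28672) Steps.nil)))))))))))))))))))))))) (nat_lit 41) (nat_lit 0),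
  Rule.mk (nat_lit 4) (nat_lit 127) (Steps.bwd (nat_lit 6) (Steps.fwd (nat_lit 16384) (Steps.fwd (nat_lit 20480) (Steps.bwd (nat_lit 7) (Steps.fwd (nat_lit 16384) (Steps.fwd (nat_lit 28672) (Steps.bwd (nat_lit 4) (Steps.bwd (nat_lit 5) (Steps.bwd (nat_lit 7) Steps.nil))))))))) (nat_lit 36) (nat_lit 4),
  Rule.mk (nat_lit 4) (nat_lit 127) (Steps.bwd (nat_lit 6) (Steps.fwd (nat_lit 16384) (Steps.fwd (nat_lit 20480) (Steps.bwd (nat_lit 7) (Steps.fwd (nat_lit 16384) (Steps.fwd (nat_lit 28672) (Steps.fwd (nat_lit 16384) (Steps.fwd (nat_lit 20480) (Steps.bwd (nat_lit 7) Steps.nil))))))))) (nat_lit 36) (nat_lit 4),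
  Rule.mk (nat_lit 4) (nat_lit 114) (Steps.bwd (nat_lit 3) (Steps.fwd (nat_lit 4096) (Steps.fwd (nat_lit 16384) (Steps.fwd (nat_lit 12288) (Steps.bwd (nat_lit 4) (Steps.bwd (nat_lit 3) (Steps.bwd (nat_lit 4) (Steps.bwd (nat_lit 3) Steps.nil)))))))) (nat_lit 20) (nat_lit 8),
  Rule.mk (nat_lit 1) (nat_lit 114) (Steps.bwd (nat_lit 4) (Steps.fwd (nat_lit 12288) (Steps.fwd (nat_lit 16384) (Steps.fwd (nat_lit 12288) (Steps.fwd (nat_lit 16384) (Steps.fwd (nat_lit 12288) (Steps.fwd (nat_lit 16384) (Steps.fwd (nat_lit 12288) Steps.nil)))))))) (nat_lit 20) (nat_lit 1),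
  Rule.mk (nat_lit 4) (nat_lit 322) (Steps.bwd (nat_lit 2) (Steps.bwd (nat_lit 1) (Steps.fwd (nat_lit 12288) (Steps.bwd (nat_lit 2) (Steps.bwd (nat_lit 3) (Steps.fwd (nat_lit 20480) (Steps.fwd (nat_lit 16384) (Steps.fwd (nat_lit 24576) (Steps.fwd (nat_lit 16384) (Steps.fwd (nat_lit 8192) (Steps.fwd (nat_lit 12288) (Steps.fwd (nat_lit 4096) (Steps.bwd (nat_lit 2) (Steps.fwd (nat_lit 20480) (Steps.bwd (nat_lit 7) (Steps.fwd (nat_lit 16384) (Steps.bwd (nat_lit 7) (Steps.bwd (nat_lit 4) (Steps.fwd (nat_lit 8192) (Steps.bwd (nat_lit 3) (Steps.bwd (nat_lit 1) (Steps.fwd (nat_lit 8192) (Steps.fwd (nat_lit 16384) (Steps.bwd (nat_lit 6) Steps.nil)))))))))))))))))))))))) (nat_lit 40) (nat_lit 10),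
  Rule.mk (nat_lit 4) (nat_lit 322) (Steps.fwd (nat_lit 24576) (Steps.bwd (nat_lit 4) (Steps.fwd (nat_lit 8192) (Steps.bwd (nat_lit 3) (Steps.bwd (nat_lit 1) (Steps.bwd (nat_lit 2) (Steps.fwd (nat_lit 20480) (Steps.bwd (nat_lit 7) (Steps.fwd (nat_lit 16384) (Steps.bwd (nat_lit 7) (Steps.bwd (nat_lit 4) (Steps.bwd (nat_lit 2) (Steps.fwd (nat_lit 12288) (Steps.bwd (nat_lit 1) (Steps.bwd (nat_lit 2) (Steps.bwd (nat_lit 4) (Steps.fwd (nat_lit 28672) (Steps.bwd (nat_lit 4) (Steps.bwd (nat_lit 2) (Steps.bwd (nat_lit 1) (Steps.fwd (nat_lit 12288) (Steps.fwd (nat_lit 8192) (Steps.bwd (nat_lit 3) (Steps.fwd (nat_lit 20480) Steps.nil)))))))))))))))))))))))) (nat_lit 40) (nat_lit 17),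
  Rule.mk (nat_lit 2) (nat_lit 75) (Steps.bwd (nat_lit 1) (Steps.fwd (nat_lit 8192) (Steps.fwd (nat_lit 4096) (Steps.bwd (nat_lit 2) (Steps.bwd (nat_lit 1) Steps.nil))))) (nat_lit 10) (nat_lit 0),
  Rule.mk (nat_lit 3) (nat_lit 140) (Steps.bwd (nat_lit 1) (Steps.fwd (nat_lit 8192) (Steps.fwd (nat_lit 24576) (Steps.bwd (nat_lit 2) (Steps.bwd (nat_lit 1) (Steps.fwd (nat_lit 12288) (Steps.fwd (nat_lit 8192) (Steps.bwd (nat_lit 6) (Steps.fwd (nat_lit 20480) (Steps.bwd (nat_lit 2) Steps.nil)))))))))) (nat_lit 39) (nat_lit 3),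
  Rule.mk (nat_lit 7) (nat_lit 49) (Steps.fwd (nat_lit 4096) (Steps.fwd (nat_lit 12288) (Steps.fwd (nat_lit 24576) Steps.nil))) (nat_lit 29) (nat_lit 0),
  Rule.mk (nat_lit 4) (nat_lit 413) (Steps.fwd (nat_lit 12288) (Steps.fwd (nat_lit 8192) (Steps.fwd (nat_lit 20480) (Steps.bwd (nat_lit 4) (Steps.bwd (nat_lit 3) (Steps.bwd (nat_lit 2) (Steps.fwd (nat_lit 20480) (Steps.fwd (nat_lit 16384) (Steps.bwd (nat_lit 3) (Steps.fwd (nat_lit 8192) (Steps.bwd (nat_lit 5) (Steps.fwd (nat_lit 16384) (Steps.bwd (nat_lit 3) (Steps.fwd (nat_lit 8192) (Steps.fwd (nat_lit 20480) (Steps.bwd (nat_lit 4) (Steps.bwd (nat_lit 3) (Steps.bwd (nat_lit 2) (Steps.bwd (nat_lit 5) (Steps.bwd (nat_lit 4) (Steps.fwd (nat_lit 12288) (Steps.bwd (nat_lit 2) (Steps.fwd (nat_lit 20480) (Steps.fwd (nat_lit 16384) (Steps.bwd (nat_lit 3) (Steps.fwd (nat_lit 8192) (Steps.bwd (nat_lit 5) (Steps.fwd (nat_lit 16384) (Steps.bwd (nat_lit 3) (Steps.bwd (nat_lit 2) (Steps.bwd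 (nat_lit 5) Steps.nil))))))))))))))))))))))))))))))) (nat_lit 27) (nat_lit 2),
  Rule.mk (nat_lit 4) (nat_lit 127) (Steps.bwd (nat_lit 6) (Steps.fwd (nat_lit 20480) (Steps.fwd (nat_lit 16384) (Steps.fwd (nat_lit 24576) (Steps.bwd (nat_lit 4) (Steps.bwd (nat_lit 6) (Steps.bwd (nat_lit 5) (Steps.fwd (nat_lit 16384) (Steps.fwd (nat_lit 24576) Steps.nil))))))))) (nat_lit 37) (nat_lit 2),
  Rule.mk (nat_lit 4) (nat_lit 127) (Steps.fwd (nat_lit 20480) (Steps.fwd (nat_lit 24576) (Steps.bwd (nat_lit 4) (Steps.fwd (nat_lit 28672) (Steps.fwd (nat_lit 16384) (Steps.fwd (nat_lit 20480) (Steps.fwd (nat_lit 24576) (Steps.bwd (nat_lit 4) (Steps.bwd (nat_lit 6) Steps.nil))))))))) (nat_lit 36) (nat_lit 1),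
  Rule.mk (nat_lit 4) (nat_lit 127) (Steps.bwd (nat_lit 7) (Steps.fwd (nat_lit 16384) (Steps.bwd (nat_lit 6) (Steps.fwd (nat_lit 20480) (Steps.fwd (nat_lit 16384) (Steps.bwd (nat_lit 7) (Steps.bwd (nat_lit 4) (Steps.bwd (nat_lit 6) (Steps.fwd (nat_lit 20480) Steps.nil))))))))) (nat_lit 37) (nat_lit 0),
  Rule.mk (nat_lit 5) (nat_lit 322) (Steps.bwd (nat_lit 7) (Steps.fwd (nat_lit 16384) (Steps.bwd (nat_lit 7) (Steps.bwd (nat_lit 4) (Steps.bwd (nat_lit 2) (Steps.bwd (nat_lit 3) (Steps.fwd (nat_lit 4096) (Steps.fwd (nat_lit 8192) (Steps.fwd (nat_lit 16384) (Steps.fwd (nat_lit 28672) (Steps.fwd (nat_lit 16384) (Steps.bwd (nat_lit 2) (Steps.bwd (nat_lit 1) (Steps.bwd (nat_lit 3) (Steps.bwd (nat_lit 2) (Steps.bwd (nat_lit 3) (Steps.fwd (nat_lit 20480) (Steps.fwd (nat_lit 16384) (Steps.fwd (nat_lit 24576) (Steps.bwd (nat_lit 4) (Steps.fwd (nat_lit 8192) (Steps.fwd (nat_lit 12288) (Steps.bwd (nat_lit 1) (Steps.bwd (nat_lit 2)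 Steps.nil)))))))))))))))))))))))) (nat_lit 40) (nat_lit 24),
  Rule.mk (nat_lit 4) (nat_lit 127) (Steps.bwd (nat_lit 5) (Steps.bwd (nat_lit 7) (Steps.fwd (nat_lit 16384) (Steps.fwd (nat_lit 28672) (Steps.fwd (nat_lit 16384) (Steps.fwd (nat_lit 20480) (Steps.bwd (nat_lit 7) (Steps.bwd (nat_lit 4) (Steps.fwd (nat_lit 28672) Steps.nil))))))))) (nat_lit 36) (nat_lit 1),
  Rule.mk (nat_lit 4) (nat_lit 114) (Steps.bwd (nat_lit 3) (Steps.fwd (nat_lit 4096) (Steps.bwd (nat_lit 4) (Steps.fwd (nat_lit 12288) (Steps.fwd (nat_lit 16384) (Steps.fwd (nat_lit 12288) (Steps.bwd (nat_lit 4) (Steps.fwd (nat_lit 12288) Steps.nil)))))))) (nat_lit 20) (nat_lit 8),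
  Rule.mk (nat_lit 6) (nat_lit 127) (Steps.bwd (nat_lit 4) (Steps.bwd (nat_lit 5) (Steps.bwd (nat_lit 7) (Steps.fwd (nat_lit 16384) (Steps.bwd (nat_lit 6) (Steps.bwd (nat_lit 4) (Steps.bwd (nat_lit 5) (Steps.bwd (nat_lit 7) (Steps.bwd (nat_lit 4) Steps.nil))))))))) (nat_lit 36) (nat_lit 0),
  Rule.mk (nat_lit 3) (nat_lit 114) (Steps.bwd (nat_lit 4) (Steps.bwd (nat_lit 3) (Steps.fwd (nat_lit 4096) (Steps.bwd (nat_lit 4) (Steps.bwd (nat_lit 3) (Steps.bwd (nat_lit 4) (Steps.bwd (nat_lit 3) (Steps.fwd (nat_lit 16384) Steps.nil)))))))) (nat_lit 20) (nat_lit 7),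
  Rule.mk (nat_lit 4) (nat_lit 75) (Steps.bwd (nat_lit 5) (Steps.bwd (nat_lit 4) (Steps.bwd (nat_lit 5) (Steps.bwd (nat_lit 4) (Steps.fwd (nat_lit 20480) Steps.nil))))) (nat_lit 24) (nat_lit 1),
  Rule.mk (nat_lit 2) (nat_lit 322) (Steps.bwd (nat_lit 5) (Steps.fwd (nat_lit 24576) (Steps.bwd (nat_lit 4) (Steps.fwd (nat_lit 24576) (Steps.fwd (nat_lit 16384) (Steps.fwd (nat_lit 8192) (Steps.fwd (nat_lit 12288) (Steps.fwd (nat_lit 4096) (Steps.fwd (nat_lit 8192) (Steps.fwd (nat_lit 16384) (Steps.bwd (nat_lit 6) (Steps.bwd (nat_lit 4) (Steps.bwd (nat_lit 2) (Steps.bwd (nat_lit 1) (Steps.fwd (nat_lit 12288) (Steps.fwd (nat_lit 8192) (Steps.fwd (nat_lit 12288) (Steps.fwd (nat_lit 20480) (Steps.fwd (nat_lit 16384) (Steps.fwd (nat_lit 24576) (Steps.fwd (nat_lit 16384) (Steps.fwd (nat_lit 8192) (Steps.bwd (nat_lit 3) (Steps.fwd (nat_lit 4096) Steps.nil)))))))))))))))))))))))) (nat_lit 40) (nat_lit 23),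
  Rule.mk (nat_lit 4) (nat_lit 114) (Steps.bwd (nat_lit 3) (Steps.fwd (nat_lit 4096) (Steps.bwd (nat_lit 4) (Steps.fwd (nat_lit 12288) (Steps.fwd (nat_lit 16384) (Steps.fwd (nat_lit 12288) (Steps.fwd (nat_lit 16384) (Steps.bwd (nat_lit 3) Steps.nil)))))))) (nat_lit 20) (nat_lit 8),
  Rule.mk (nat_lit 1) (nat_lit 114) (Steps.bwd (nat_lit 3) (Steps.fwd (nat_lit 16384) (Steps.fwd (nat_lit 12288) (Steps.fwd (nat_lit 16384) (Steps.bwd (nat_lit 3) (Steps.bwd (nat_lit 4) (Steps.fwd (nat_lit 12288) (Steps.fwd (nat_lit 16384) Steps.nil)))))))) (nat_lit 21) (nat_lit 0),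
  Rule.mk (nat_lit 3) (nat_lit 114) (Steps.bwd (nat_lit 4) (Steps.fwd (nat_lit 12288) (Steps.bwd (nat_lit 1) (Steps.bwd (nat_lit 4) (Steps.bwd (nat_lit 3) (Steps.bwd (nat_lit 4) (Steps.bwd (nat_lit 3) (Steps.fwd (nat_lit 16384) Steps.nil)))))))) (nat_lit 20) (nat_lit 7),
  Rule.mk (nat_lit 1) (nat_lit 114) (Steps.bwd (nat_lit 4) (Steps.fwd (nat_lit 12288) (Steps.fwd (nat_lit 16384) (Steps.fwd (nat_lit 12288) (Steps.bwd (nat_lit 4) (Steps.bwd (nat_lit 3) (Steps.bwd (nat_lit 4) (Steps.bwd (nat_lit 3) Steps.nil)))))))) (nat_lit 20) (nat_lit 1),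
  Rule.mk (nat_lit 7) (nat_lit 127) (Steps.bwd (nat_lit 4) (Steps.bwd (nat_lit 6) (Steps.fwd (nat_lit 16384) (Steps.fwd (nat_lit 20480) (Steps.fwd (nat_lit 24576) (Steps.fwd (nat_lit 16384) (Steps.bwd (nat_lit 6) (Steps.bwd (nat_lit 4) (Steps.fwd (nat_lit 20480) Steps.nil))))))))) (nat_lit 36) (nat_lit 3),
  Rule.mk (nat_lit 7) (nat_lit 49) (Steps.fwd (nat_lit 4096) (Steps.fwd (nat_lit 12288) (Steps.bwd (nat_lit 7) Steps.nil))) (nat_lit 29) (nat_lit 0),
  Rule.mk (nat_lit 3) (nat_lit 114) (Steps.bwd (nat_lit 4) (Steps.fwd (nat_lit 4096) (Steps.fwd (nat_lit 12288) (Steps.fwd (nat_lit 16384) (Steps.fwd (nat_lit 12288) (Steps.fwd (nat_lit 16384) (Steps.bwd (nat_lit 3) (Steps.fwd (nat_lit 16384) Steps.nil)))))))) (nat_lit 21) (nat_lit 7),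
  Rule.mk (nat_lit 4) (nat_lit 114) (Steps.bwd (nat_lit 1) (Steps.fwd (nat_lit 12288) (Steps.bwd (nat_lit 4) (Steps.fwd (nat_lit 12288) (Steps.bwd (nat_lit 4) (Steps.bwd (nat_lit 3) (Steps.bwd (nat_lit 4) (Steps.bwd (nat_lit 3) Steps.nil)))))))) (nat_lit 21) (nat_lit 8),
  Rule.mk (nat_lit 5) (nat_lit 75) (Steps.bwd (nat_lit 4) (Steps.bwd (nat_lit 5) (Steps.fwd (nat_lit 16384) (Steps.bwd (nat_lit 5) (Steps.bwd (nat_lit 4) Steps.nil))))) (nat_lit 24) (nat_lit 0),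
  Rule.mk (nat_lit 3) (nat_lit 114) (Steps.bwd (nat_lit 4) (Steps.bwd (nat_lit 3) (Steps.fwd (nat_lit 4096) (Steps.bwd (nat_lit 4) (Steps.bwd (nat_lit 3) (Steps.bwd (nat_lit 4) (Steps.bwd (nat_lit 3) (Steps.bwd (nat_lit 4) Steps.nil)))))))) (nat_lit 20) (nat_lit 7),
  Rule.mk (nat_lit 1) (nat_lit 114) (Steps.fwd (nat_lit 12288) (Steps.fwd (nat_lit 16384) (Steps.fwd (nat_lit 12288) (Steps.fwd (nat_lit 16384) (Steps.fwd (nat_lit 12288) (Steps.fwd (nat_lit 16384) (Steps.bwd (nat_lit 3) (Steps.fwd (nat_lit 16384) Steps.nil)))))))) (nat_lit 21) (nat_lit 0),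
  Rule.mk (nat_lit 1) (nat_lit 114) (Steps.bwd (nat_lit 4) (Steps.fwd (nat_lit 12288) (Steps.bwd (nat_lit 4) (Steps.fwd (nat_lit 12288) (Steps.fwd (nat_lit 16384) (Steps.fwd (nat_lit 12288) (Steps.fwd (nat_lit 16384) (Steps.fwd (nat_lit 12288) Steps.nil)))))))) (nat_lit 20) (nat_lit 1),
  Rule.mk (nat_lit 6) (nat_lit 127) (Steps.bwd (nat_lit 4) (Steps.fwd (nat_lit 20480) (Steps.bwd (nat_lit 7) (Steps.bwd (nat_lit 4) (Steps.bwd (nat_lit 6) (Steps.fwd (nat_lit 16384) (Steps.fwd (nat_lit 20480) (Steps.fwd (nat_lit 24576) (Steps.fwd (nat_lit 16384) Steps.nil))))))))) (nat_lit 36) (nat_lit 0),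
  Rule.mk (nat_lit 7) (nat_lit 322) (Steps.bwd (nat_lit 4) (Steps.fwd (nat_lit 24576) (Steps.fwd (nat_lit 16384) (Steps.bwd (nat_lit 2) (Steps.fwd (nat_lit 12288) (Steps.fwd (nat_lit 4096) (Steps.fwd (nat_lit 8192) (Steps.bwd (nat_lit 4) (Steps.bwd (nat_lit 6) (Steps.bwd (nat_lit 4) (Steps.fwd (nat_lit 8192) (Steps.bwd (nat_lit 1) (Steps.fwd (nat_lit 12288) (Steps.fwd (nat_lit 8192) (Steps.bwd (nat_lit 3) (Steps.fwd (nat_lit 20480) (Steps.bwd (nat_lit 4) (Steps.bwd (nat_lit 7) (Steps.bwd (nat_lit 4) (Steps.bwd (nat_lit 2) (Steps.fwd (nat_lit 12288) (Steps.fwd (nat_lit 4096) (Steps.bwd (nat_lit 2) (Steps.fwd (nat_lit 20480) Steps.nil)))))))))))))))))))))))) (nat_lit 40) (nat_lit 0),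
  Rule.mk (nat_lit 4) (nat_lit 127) (Steps.bwd (nat_lit 6) (Steps.bwd (nat_lit 4) (Steps.bwd (nat_lit 5) (Steps.fwd (nat_lit 24576) (Steps.bwd (nat_lit 4) (Steps.bwd (nat_lit 6) (Steps.fwd (nat_lit 16384) (Steps.fwd (nat_lit 20480) (Steps.bwd (nat_lit 7) Steps.nil))))))))) (nat_lit 36) (nat_lit 4),
  Rule.mk (nat_lit 3) (nat_lit 140) (Steps.bwd (nat_lit 1) (Steps.bwd (nat_lit 2) (Steps.bwd (nat_lit 6) (Steps.fwd (nat_lit 8192) (Steps.bwd (nat_lit 1) (Steps.fwd (nat_lit 12288) (Steps.bwd (nat_lit 2) (Steps.bwd (nat_lit 5) (Steps.fwd (nat_lit 24576) (Steps.fwd (nat_lit 8192) Steps.nil)))))))))) (nat_lit 38) (nat_lit 3),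
  Rule.mk (nat_lit 3) (nat_lit 140) (Steps.bwd (nat_lit 1) (Steps.fwd (nat_lit 8192) (Steps.bwd (nat_lit 6) (Steps.bwd (nat_lit 2) (Steps.bwd (nat_lit 1) (Steps.bwd (nat_lit 3) (Steps.fwd (nat_lit 8192) (Steps.fwd (nat_lit 20480) (Steps.bwd (nat_lit 7) (Steps.bwd (nat_lit 2) Steps.nil)))))))))) (nat_lit 38) (nat_lit 3),
  Rule.mk (nat_lit 4) (nat_lit 75) (Steps.bwd (nat_lit 5) (Steps.fwd (nat_lit 16384) (Steps.bwd (nat_lit 5) (Steps.fwd (nat_lit 16384) (Steps.fwd (nat_lit 20480) Steps.nil))))) (nat_lit 24) (nat_lit 1),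
  Rule.mk (nat_lit 3) (nat_lit 140) (Steps.bwd (nat_lit 1) (Steps.fwd (nat_lit 8192) (Steps.bwd (nat_lit 6) (Steps.fwd (nat_lit 8192) (Steps.fwd (nat_lit 4096) (Steps.fwd (nat_lit 12288) (Steps.bwd (nat_lit 2) (Steps.fwd (nat_lit 20480) (Steps.fwd (nat_lit 24576) (Steps.bwd (nat_lit 2) Steps.nil)))))))))) (nat_lit 38) (nat_lit 3),
  Rule.mk (nat_lit 1) (nat_lit 140) (Steps.bwd (nat_lit 3) (Steps.fwd (nat_lit 8192) (Steps.fwd (nat_lit 20480) (Steps.fwd (nat_lit 24576) (Steps.fwd (nat_lit 8192) (Steps.fwd (nat_lit 12288) (Steps.bwd (nat_lit 1) (Steps.fwd (nat_lit 8192) (Steps.fwd (nat_lit 28672) (Steps.fwd (nat_lit 8192) Steps.nil)))))))))) (nat_lit 38) (nat_lit 8),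
  Rule.mk (nat_lit 1) (nat_lit 140) (Steps.bwd (nat_lit 3) (Steps.bwd (nat_lit 2) (Steps.bwd (nat_lit 5) (Steps.bwd (nat_lit 7) (Steps.bwd (nat_lit 2) (Steps.bwd (nat_lit 3) (Steps.bwd (nat_lit 1) (Steps.bwd (nat_lit 2) (Steps.bwd (nat_lit 6) (Steps.fwd (nat_lit 8192) Steps.nil)))))))))) (nat_lit 38) (nat_lit 8),
  Rule.mk (nat_lit 3) (nat_lit 75) (Steps.bwd (nat_lit 2) (Steps.bwd (nat_lit 3) (Steps.bwd (nat_lit 2) (Steps.bwd (nat_lit 3) (Steps.bwd (nat_lit 2) Steps.nil))))) (nat_lit 14) (nat_lit 0),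
  Rule.mk (nat_lit 1) (nat_lit 140) (Steps.bwd (nat_lit 3) (Steps.fwd (nat_lit 8192) (Steps.bwd (nat_lit 5) (Steps.fwd (nat_lit 24576) (Steps.bwd (nat_lit 2) (Steps.fwd (nat_lit 12288) (Steps.bwd (nat_lit 1) (Steps.bwd (nat_lit 2) (Steps.bwd (nat_lit 6) (Steps.bwd (nat_lit 2) Steps.nil)))))))))) (nat_lit 38) (nat_lit 8),
  Rule.mk (nat_lit 3) (nat_lit 140) (Steps.bwd (nat_lit 1) (Steps.fwd (nat_lit 8192) (Steps.fwd (nat_lit 28672) (Steps.bwd (nat_lit 2) (Steps.fwd (nat_lit 4096) (Steps.bwd (nat_lit 3) (Steps.bwd (nat_lit 2) (Steps.fwd (nat_lit 20480) (Steps.bwd (nat_lit 7) (Steps.bwd (nat_lit 2) Steps.nil)))))))))) (nat_lit 38) (nat_lit 3),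
  Rule.mk (nat_lit 1) (nat_lit 75) (Steps.bwd (nat_lit 2) (Steps.bwd (nat_lit 1) (Steps.bwd (nat_lit 2) (Steps.fwd (nat_lit 4096) (Steps.bwd (nat_lit 2) Steps.nil))))) (nat_lit 10) (nat_lit 1),
  Rule.mk (nat_lit 3) (nat_lit 140) (Steps.bwd (nat_lit 2) (Steps.fwd (nat_lit 20480) (Steps.bwd (nat_lit 7) (Steps.fwd (nat_lit 8192) (Steps.bwd (nat_lit 3) (Steps.bwd (nat_lit 1) (Steps.fwd (nat_lit 8192) (Steps.bwd (nat_lit 6) (Steps.bwd (nat_lit 2) (Steps.fwd (nat_lit 4096) Steps.nil)))))))))) (nat_lit 38) (nat_lit 9),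
  Rule.mk (nat_lit 2) (nat_lit 75) (Steps.bwd (nat_lit 1) (Steps.fwd (nat_lit 8192) (Steps.bwd (nat_lit 1) (Steps.bwd (nat_lit 2) (Steps.bwd (nat_lit 1) Steps.nil))))) (nat_lit 10) (nat_lit 0)]
noncomputable def R_8 : List (Rule) := [Rule.mk (nat_lit 3) (nat_lit 140) (Steps.bwd (nat_lit 1) (Steps.fwd (nat_lit 8192) (Steps.fwd (nat_lit 28672) (Steps.fwd (nat_lit 8192) (Steps.fwd (nat_lit 4096) (Steps.fwd (nat_lit 12288) (Steps.fwd (nat_lit 8192) (Steps.bwd (nat_lit 5) (Steps.bwd (nat_lit 7) (Steps.bwd (nat_lit 2) Steps.nil)))))))))) (nat_lit 38) (nat_lit 3),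
  Rule.mk (nat_lit 2) (nat_lit 75) (Steps.bwd (nat_lit 1) (Steps.bwd (nat_lit 2) (Steps.bwd (nat_lit 1) (Steps.bwd (nat_lit 2) (Steps.bwd (nat_lit 1) Steps.nil))))) (nat_lit 10) (nat_lit 0),
  Rule.mk (nat_lit 1) (nat_lit 140) (Steps.bwd (nat_lit 3) (Steps.fwd (nat_lit 8192) (Steps.bwd (nat_lit 5) (Steps.bwd (nat_lit 7) (Steps.fwd (nat_lit 8192) (Steps.fwd (nat_lit 12288) (Steps.bwd (nat_lit 1) (Steps.bwd (nat_lit 2) (Steps.fwd (nat_lit 28672) (Steps.bwd (nat_lit 2) Steps.nil)))))))))) (nat_lit 38) (nat_lit 8),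
  Rule.mk (nat_lit 2) (nat_lit 75) (Steps.bwd (nat_lit 1) (Steps.fwd (nat_lit 8192) (Steps.bwd (nat_lit 1) (Steps.fwd (nat_lit 8192) (Steps.fwd (nat_lit 4096) Steps.nil))))) (nat_lit 10) (nat_lit 0),
  Rule.mk (nat_lit 3) (nat_lit 140) (Steps.bwd (nat_lit 1) (Steps.fwd (nat_lit 8192) (Steps.fwd (nat_lit 24576) (Steps.bwd (nat_lit 2) (Steps.fwd (nat_lit 4096) (Steps.bwd (nat_lit 3) (Steps.fwd (nat_lit 8192) (Steps.fwd (nat_lit 28672) (Steps.fwd (nat_lit 20480) (Steps.bwd (nat_lit 2) Steps.nil)))))))))) (nat_lit 39) (nat_lit 3),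
  Rule.mk (nat_lit 3) (nat_lit 140) (Steps.bwd (nat_lit 2) (Steps.fwd (nat_lit 20480) (Steps.fwd (nat_lit 24576) (Steps.bwd (nat_lit 2) (Steps.fwd (nat_lit 12288) (Steps.bwd (nat_lit 1) (Steps.fwd (nat_lit 8192) (Steps.bwd (nat_lit 6) (Steps.bwd (nat_lit 2) (Steps.fwd (nat_lit 4096) Steps.nil)))))))))) (nat_lit 38) (nat_lit 9),
  Rule.mk (nat_lit 1) (nat_lit 140) (Steps.bwd (nat_lit 3) (Steps.fwd (nat_lit 8192) (Steps.fwd (nat_lit 20480) (Steps.fwd (nat_lit 24576) (Steps.fwd (nat_lit 8192) (Steps.bwd (nat_lit 3) (Steps.fwd (nat_lit 4096) (Steps.fwd (nat_lit 8192) (Steps.bwd (nat_lit 6) (Steps.bwd (nat_lit 2) Steps.nil)))))))))) (nat_lit 38) (nat_lit 8),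
  Rule.mk (nat_lit 3) (nat_lit 140) (Steps.bwd (nat_lit 1) (Steps.fwd (nat_lit 8192) (Steps.bwd (nat_lit 6) (Steps.bwd (nat_lit 2) (Steps.fwd (nat_lit 4096) (Steps.bwd (nat_lit 3) (Steps.bwd (nat_lit 2) (Steps.bwd (nat_lit 5) (Steps.fwd (nat_lit 24576) (Steps.fwd (nat_lit 8192) Steps.nil)))))))))) (nat_lit 38) (nat_lit 3),
  Rule.mk (nat_lit 3) (nat_lit 140) (Steps.bwd (nat_lit 1) (Steps.fwd (nat_lit 8192) (Steps.fwd (nat_lit 28672) (Steps.fwd (nat_lit 8192) (Steps.bwd (nat_lit 1) (Steps.bwd (nat_lit 3) (Steps.fwd (nat_lit 8192) (Steps.fwd (nat_lit 20480) (Steps.bwd (nat_lit 7) (Steps.bwd (nat_lit 2) Steps.nil)))))))))) (nat_lit 38) (nat_lit 3),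
  Rule.mk (nat_lit 3) (nat_lit 140) (Steps.bwd (nat_lit 1) (Steps.fwd (nat_lit 8192) (Steps.fwd (nat_lit 28672) (Steps.bwd (nat_lit 2) (Steps.fwd (nat_lit 4096) (Steps.bwd (nat_lit 3) (Steps.fwd (nat_lit 8192) (Steps.fwd (nat_lit 20480) (Steps.fwd (nat_lit 24576) (Steps.bwd (nat_lit 2) Steps.nil)))))))))) (nat_lit 38) (nat_lit 3),
  Rule.mk (nat_lit 3) (nat_lit 140) (Steps.bwd (nat_lit 1) (Steps.bwd (nat_lit 2) (Steps.bwd (nat_lit 6) (Steps.fwd (nat_lit 8192) (Steps.fwd (nat_lit 4096) (Steps.fwd (nat_lit 12288) (Steps.bwd (nat_lit 2) (Steps.fwd (nat_lit 20480) (Steps.fwd (nat_lit 24576) (Steps.fwd (nat_lit 8192) Steps.nil)))))))))) (nat_lit 38) (nat_lit 3),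
  Rule.mk (nat_lit 3) (nat_lit 140) (Steps.bwd (nat_lit 1) (Steps.fwd (nat_lit 8192) (Steps.fwd (nat_lit 28672) (Steps.fwd (nat_lit 8192) (Steps.bwd (nat_lit 1) (Steps.fwd (nat_lit 12288) (Steps.bwd (nat_lit 2) (Steps.fwd (nat_lit 20480) (Steps.bwd (nat_lit 7) (Steps.bwd (nat_lit 2) Steps.nil)))))))))) (nat_lit 38) (nat_lit 3),
  Rule.mk (nat_lit 2) (nat_lit 75) (Steps.bwd (nat_lit 1) (Steps.bwd (nat_lit 2) (Steps.bwd (nat_lit 1) (Steps.bwd (nat_lit 2) (Steps.fwd (nat_lit 4096) Steps.nil))))) (nat_lit 10) (nat_lit 0),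
  Rule.mk (nat_lit 1) (nat_lit 140) (Steps.bwd (nat_lit 3) (Steps.fwd (nat_lit 8192) (Steps.bwd (nat_lit 5) (Steps.bwd (nat_lit 7) (Steps.bwd (nat_lit 2) (Steps.fwd (nat_lit 12288) (Steps.bwd (nat_lit 1) (Steps.fwd (nat_lit 8192) (Steps.fwd (nat_lit 28672) (Steps.bwd (nat_lit 2) Steps.nil)))))))))) (nat_lit 38) (nat_lit 8),
  Rule.mk (nat_lit 4) (nat_lit 49) (Steps.fwd (nat_lit 8192) (Steps.bwd (nat_lit 4) (Steps.bwd (nat_lit 2) Steps.nil))) (nat_lit 16) (nat_lit 0),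
  Rule.mk (nat_lit 1) (nat_lit 75) (Steps.fwd (nat_lit 8192) (Steps.bwd (nat_lit 1) (Steps.fwd (nat_lit 8192) (Steps.bwd (nat_lit 1) (Steps.bwd (nat_lit 2) Steps.nil))))) (nat_lit 10) (nat_lit 1),
  Rule.mk (nat_lit 3) (nat_lit 114) (Steps.bwd (nat_lit 4) (Steps.bwd (nat_lit 3) (Steps.fwd (nat_lit 16384) (Steps.fwd (nat_lit 12288) (Steps.bwd (nat_lit 1) (Steps.bwd (nat_lit 4) (Steps.bwd (nat_lit 3) (Steps.fwd (nat_lit 16384) Steps.nil)))))))) (nat_lit 20) (nat_lit 5),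
  Rule.mk (nat_lit 4) (nat_lit 114) (Steps.fwd (nat_lit 12288) (Steps.bwd (nat_lit 1) (Steps.fwd (nat_lit 16384) (Steps.bwd (nat_lit 3) (Steps.bwd (nat_lit 4) (Steps.bwd (nat_lit 3) (Steps.fwd (nat_lit 16384) (Steps.fwd (nat_lit 12288) Steps.nil)))))))) (nat_lit 20) (nat_lit 8),
  Rule.mk (nat_lit 0) (nat_lit 127) (Steps.bwd (nat_lit 4) (Steps.bwd (nat_lit 3) (Steps.fwd (nat_lit 16384) (Steps.fwd (nat_lit 12288) (Steps.bwd (nat_lit 4) (Steps.fwd (nat_lit 12288) (Steps.fwd (nat_lit 16384) (Steps.fwd (nat_lit 12288) (Steps.bwd (nat_lit 1) Steps.nil))))))))) (nat_lit 20) (nat_lit 1),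
  Rule.mk (nat_lit 0) (nat_lit 49) (Steps.bwd (nat_lit 2) (Steps.fwd (nat_lit 0) (Steps.bwd (nat_lit 2) Steps.nil))) (nat_lit 42) (nat_lit 0),
  Rule.mk (nat_lit 0) (nat_lit 49) (Steps.bwd (nat_lit 2) (Steps.bwd (nat_lit 0) (Steps.fwd (nat_lit 8192) Steps.nil))) (nat_lit 42) (nat_lit 0),
  Rule.mk (nat_lit 0) (nat_lit 49) (Steps.fwd (nat_lit 4096) (Steps.bwd (nat_lit 0) (Steps.bwd (nat_lit 1) Steps.nil))) (nat_lit 42) (nat_lit 0),
  Rule.mk (nat_lit 0) (nat_lit 49) (Steps.bwd (nat_lit 1) (Steps.fwd (nat_lit 0) (Steps.bwd (nat_lit 1) Steps.nil))) (nat_lit 42) (nat_lit 0),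
  Rule.mk (nat_lit 0) (nat_lit 62) (Steps.fwd (nat_lit 16384) (Steps.fwd (nat_lit 0) (Steps.fwd (nat_lit 16384) (Steps.fwd (nat_lit 0) Steps.nil)))) (nat_lit 42) (nat_lit 0),
  Rule.mk (nat_lit 4) (nat_lit 49) (Steps.bwd (nat_lit 0) (Steps.bwd (nat_lit 4) (Steps.fwd (nat_lit 0) Steps.nil))) (nat_lit 42) (nat_lit 0),
  Rule.mk (nat_lit 2) (nat_lit 49) (Steps.bwd (nat_lit 0) (Steps.bwd (nat_lit 2) (Steps.fwd (nat_lit 0) Steps.nil))) (nat_lit 42) (nat_lit 0),
  Rule.mk (nat_lit 2) (nat_lit 49) (Steps.bwd (nat_lit 0) (Steps.fwd (nat_lit 8192) (Steps.fwd (nat_lit 0) Steps.nil))) (nat_lit 42) (nat_lit 0),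
  Rule.mk (nat_lit 4) (nat_lit 127) (Steps.bwd (nat_lit 5) (Steps.fwd (nat_lit 24576) (Steps.fwd (nat_lit 16384) (Steps.bwd (nat_lit 6) (Steps.fwd (nat_lit 16384) (Steps.fwd (nat_lit 20480) (Steps.fwd (nat_lit 24576) (Steps.bwd (nat_lit 4) (Steps.bwd (nat_lit 6) Steps.nil))))))))) (nat_lit 36) (nat_lit 1),
  Rule.mk (nat_lit 4) (nat_lit 127) (Steps.bwd (nat_lit 6) (Steps.fwd (nat_lit 16384) (Steps.fwd (nat_lit 20480) (Steps.bwd (nat_lit 7) (Steps.fwd (nat_lit 16384) (Steps.bwd (nat_lit 6) (Steps.fwd (nat_lit 16384) (Steps.fwd (nat_lit 20480) (Steps.bwd (nat_lit 7) Steps.nil))))))))) (nat_lit 36) (nat_lit 4),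
  Rule.mk (nat_lit 4) (nat_lit 127) (Steps.fwd (nat_lit 28672) (Steps.bwd (nat_lit 5) (Steps.fwd (nat_lit 16384) (Steps.fwd (nat_lit 24576) (Steps.fwd (nat_lit 16384) (Steps.bwd (nat_lit 6) (Steps.fwd (nat_lit 20480) (Steps.fwd (nat_lit 16384) (Steps.bwd (nat_lit 7) Steps.nil))))))))) (nat_lit 37) (nat_lit 2),
  Rule.mk (nat_lit 4) (nat_lit 127) (Steps.fwd (nat_lit 24576) (Steps.fwd (nat_lit 16384) (Steps.bwd (nat_lit 6) (Steps.fwd (nat_lit 20480) (Steps.fwd (nat_lit 16384) (Steps.bwd (nat_lit 7) (Steps.bwd (nat_lit 4) (Steps.bwd (nat_lit 6) (Steps.fwd (nat_lit 20480) Steps.nil))))))))) (nat_lit 37) (nat_lit 0),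
  Rule.mk (nat_lit 4) (nat_lit 127) (Steps.fwd (nat_lit 28672) (Steps.fwd (nat_lit 16384) (Steps.bwd (nat_lit 5) (Steps.bwd (nat_lit 7) (Steps.bwd (nat_lit 4) (Steps.bwd (nat_lit 6) (Steps.bwd (nat_lit 4) (Steps.bwd (nat_lit 5) (Steps.fwd (nat_lit 24576) Steps.nil))))))))) (nat_lit 36) (nat_lit 4),
  Rule.mk (nat_lit 4) (nat_lit 127) (Steps.fwd (nat_lit 20480) (Steps.fwd (nat_lit 24576) (Steps.fwd (nat_lit 16384) (Steps.fwd (nat_lit 28672) (Steps.bwd (nat_lit 4) (Steps.fwd (nat_lit 20480) (Steps.bwd (nat_lit 7) (Steps.fwd (nat_lit 16384) (Steps.bwd (nat_lit 6) Steps.nil))))))))) (nat_lit 36) (nat_lit 1),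
  Rule.mk (nat_lit 4) (nat_lit 75) (Steps.fwd (nat_lit 20480) (Steps.bwd (nat_lit 4) (Steps.fwd (nat_lit 20480) (Steps.bwd (nat_lit 4) (Steps.bwd (nat_lit 5) Steps.nil))))) (nat_lit 24) (nat_lit 1),
  Rule.mk (nat_lit 4) (nat_lit 49) (Steps.bwd (nat_lit 2) (Steps.bwd (nat_lit 4) (Steps.bwd (nat_lit 2) Steps.nil))) (nat_lit 16) (nat_lit 0),
  Rule.mk (nat_lit 4) (nat_lit 75) (Steps.bwd (nat_lit 5) (Steps.fwd (nat_lit 16384) (Steps.fwd (nat_lit 20480) (Steps.bwd (nat_lit 4) (Steps.fwd (nat_lit 20480) Steps.nil))))) (nat_lit 24) (nat_lit 1),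
  Rule.mk (nat_lit 4) (nat_lit 322) (Steps.bwd (nat_lit 7) (Steps.bwd (nat_lit 4) (Steps.bwd (nat_lit 2) (Steps.bwd (nat_lit 3) (Steps.bwd (nat_lit 1) (Steps.bwd (nat_lit 2) (Steps.bwd (nat_lit 5) (Steps.bwd (nat_lit 7) (Steps.fwd (nat_lit 16384) (Steps.bwd (nat_lit 7) (Steps.fwd (nat_lit 16384) (Steps.bwd (nat_lit 2) (Steps.bwd (nat_lit 3) (Steps.bwd (nat_lit 1) (Steps.fwd (nat_lit 8192) (Steps.fwd (nat_lit 16384) (Steps.fwd (nat_lit 28672) (Steps.bwd (nat_lit 4) (Steps.fwd (nat_lit 8192) (Steps.fwd (nat_lit 4096) (Steps.fwd (nat_lit 12288) (Steps.fwd (nat_lit 8192) (Steps.bwd (nat_lit 3) (Steps.bwd (nat_lit 5) Steps.nil)))))))))))))))))))))))) (nat_lit 40) (nat_lit 17),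
  Rule.mk (nat_lit 4) (nat_lit 75) (Steps.bwd (nat_lit 5) (Steps.fwd (nat_lit 16384) (Steps.bwd (nat_lit 5) (Steps.bwd (nat_lit 4) (Steps.bwd (nat_lit 5) Steps.nil))))) (nat_lit 24) (nat_lit 1),
  Rule.mk (nat_lit 4) (nat_lit 114) (Steps.bwd (nat_lit 3) (Steps.fwd (nat_lit 16384) (Steps.fwd (nat_lit 12288) (Steps.bwd (nat_lit 4) (Steps.bwd (nat_lit 3) (Steps.bwd (nat_lit 4) (Steps.bwd (nat_lit 3) (Steps.fwd (nat_lit 4096) Steps.nil)))))))) (nat_lit 20) (nat_lit 2),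
  Rule.mk (nat_lit 4) (nat_lit 114) (Steps.fwd (nat_lit 12288) (Steps.bwd (nat_lit 1) (Steps.fwd (nat_lit 16384) (Steps.fwd (nat_lit 12288) (Steps.bwd (nat_lit 4) (Steps.bwd (nat_lit 3) (Steps.bwd (nat_lit 4) (Steps.bwd (nat_lit 3) Steps.nil)))))))) (nat_lit 20) (nat_lit 8),
  Rule.mk (nat_lit 4) (nat_lit 127) (Steps.bwd (nat_lit 6) (Steps.fwd (nat_lit 16384) (Steps.bwd (nat_lit 5) (Steps.bwd (nat_lit 7) (Steps.bwd (nat_lit 4) (Steps.bwd (nat_lit 6) (Steps.bwd (nat_lit 4) (Steps.bwd (nat_lit 5) (Steps.fwd (nat_lit 24576) Steps.nil))))))))) (nat_lit 36) (nat_lit 4),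
  Rule.mk (nat_lit 4) (nat_lit 127) (Steps.fwd (nat_lit 24576) (Steps.bwd (nat_lit 4) (Steps.bwd (nat_lit 6) (Steps.fwd (nat_lit 20480) (Steps.fwd (nat_lit 16384) (Steps.bwd (nat_lit 7) (Steps.bwd (nat_lit 4) (Steps.fwd (nat_lit 28672) (Steps.bwd (nat_lit 5) Steps.nil))))))))) (nat_lit 37) (nat_lit 0),
  Rule.mk (nat_lit 4) (nat_lit 322) (Steps.fwd (nat_lit 24576) (Steps.bwd (nat_lit 4) (Steps.fwd (nat_lit 8192) (Steps.fwd (nat_lit 12288) (Steps.bwd (nat_lit 1) (Steps.bwd (nat_lit 2) (Steps.fwd (nat_lit 20480) (Steps.bwd (nat_lit 7) (Steps.bwd (nat_lit 4) (Steps.fwd (nat_lit 24576) (Steps.bwd (nat_lit 4) (Steps.fwd (nat_lit 8192) (Steps.bwd (nat_lit 3) (Steps.bwd (nat_lit 1) (Steps.fwd (nat_lit 8192) (Steps.bwd (nat_lit 4) (Steps.fwd (nat_lit 28672) (Steps.fwd (nat_lit 16384) (Steps.bwd (nat_lit 2) (Steps.fwd (nat_lit 4096) (Steps.bwd (nat_lit 3) (Steps.fwd (nat_lit 8192) (Steps.bwd (nat_lit 3) (Steps.fwd (nat_lit 20480)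 Steps.nil)))))))))))))))))))))))) (nat_lit 40) (nat_lit 17),
  Rule.mk (nat_lit 4) (nat_lit 75) (Steps.bwd (nat_lit 5) (Steps.bwd (nat_lit 4) (Steps.fwd (nat_lit 20480) (Steps.bwd (nat_lit 4) (Steps.fwd (nat_lit 20480) Steps.nil))))) (nat_lit 24) (nat_lit 1),
  Rule.mk (nat_lit 4) (nat_lit 114) (Steps.bwd (nat_lit 3) (Steps.fwd (nat_lit 16384) (Steps.fwd (nat_lit 12288) (Steps.fwd (nat_lit 16384) (Steps.bwd (nat_lit 3) (Steps.bwd (nat_lit 4) (Steps.fwd (nat_lit 12288) (Steps.bwd (nat_lit 1) Steps.nil)))))))) (nat_lit 20) (nat_lit 2),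
  Rule.mk (nat_lit 4) (nat_lit 127) (Steps.fwd (nat_lit 28672) (Steps.bwd (nat_lit 4) (Steps.bwd (nat_lit 5) (Steps.fwd (nat_lit 24576) (Steps.fwd (nat_lit 16384) (Steps.bwd (nat_lit 6) (Steps.bwd (nat_lit 4) (Steps.fwd (nat_lit 20480) (Steps.bwd (nat_lit 7) Steps.nil))))))))) (nat_lit 36) (nat_lit 4),
  Rule.mk (nat_lit 4) (nat_lit 127) (Steps.bwd (nat_lit 7) (Steps.fwd (nat_lit 16384) (Steps.fwd (nat_lit 28672) (Steps.fwd (nat_lit 20480) (Steps.fwd (nat_lit 16384) (Steps.fwd (nat_lit 24576) (Steps.bwd (nat_lit 4) (Steps.bwd (nat_lit 6) (Steps.fwd (nat_lit 20480) Steps.nil))))))))) (nat_lit 37) (nat_lit 0),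
  Rule.mk (nat_lit 4) (nat_lit 75) (Steps.fwd (nat_lit 20480) (Steps.bwd (nat_lit 4) (Steps.fwd (nat_lit 20480) (Steps.fwd (nat_lit 16384) (Steps.fwd (nat_lit 20480) Steps.nil))))) (nat_lit 24) (nat_lit 1),
  Rule.mk (nat_lit 4) (nat_lit 127) (Steps.bwd (nat_lit 7) (Steps.bwd (nat_lit 4) (Steps.bwd (nat_lit 6) (Steps.fwd (nat_lit 20480) (Steps.bwd (nat_lit 4) (Steps.bwd (nat_lit 7) (Steps.bwd (nat_lit 4) (Steps.fwd (nat_lit 28672) (Steps.fwd (nat_lit 20480) Steps.nil))))))))) (nat_lit 37) (nat_lit 0),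
  Rule.mk (nat_lit 4) (nat_lit 127) (Steps.fwd (nat_lit 24576) (Steps.bwd (nat_lit 4) (Steps.bwd (nat_lit 6) (Steps.fwd (nat_lit 20480) (Steps.bwd (nat_lit 4) (Steps.fwd (nat_lit 24576) (Steps.fwd (nat_lit 16384) (Steps.fwd (nat_lit 28672) (Steps.fwd (nat_lit 20480) Steps.nil))))))))) (nat_lit 37) (nat_lit 0),
  Rule.mk (nat_lit 7) (nat_lit 322) (Steps.bwd (nat_lit 4) (Steps.bwd (nat_lit 7) (Steps.fwd (nat_lit 16384) (Steps.fwd (nat_lit 8192) (Steps.fwd (nat_lit 12288) (Steps.bwd (nat_lit 1) (Steps.bwd (nat_lit 2) (Steps.fwd (nat_lit 16384) (Steps.fwd (nat_lit 28672) (Steps.fwd (nat_lit 16384) (Steps.bwd (nat_lit 2) (Steps.bwd (nat_lit 1) (Steps.fwd (nat_lit 12288) (Steps.fwd (nat_lit 8192) (Steps.fwd (nat_lit 12288) (Steps.bwd (nat_lit 5) (Steps.bwd (nat_lit 4) (Steps.fwd (nat_lit 24576) (Steps.bwd (nat_lit 4) (Steps.bwd (nat_lit 2) (Steps.fwd (nat_lit 12288) (Steps.bwd (nat_lit 1) (Steps.bwd (nat_lit 2) (Steps.fwd (nat_lit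 20480) Steps.nil)))))))))))))))))))))))) (nat_lit 40) (nat_lit 0),
  Rule.mk (nat_lit 4) (nat_lit 322) (Steps.bwd (nat_lit 2) (Steps.bwd (nat_lit 1) (Steps.bwd (nat_lit 3) (Steps.fwd (nat_lit 8192) (Steps.fwd (nat_lit 12288) (Steps.bwd (nat_lit 5) (Steps.fwd (nat_lit 16384) (Steps.fwd (nat_lit 24576) (Steps.fwd (nat_lit 16384) (Steps.bwd (nat_lit 2) (Steps.fwd (nat_lit 12288) (Steps.fwd (nat_lit 4096) (Steps.fwd (nat_lit 8192) (Steps.fwd (nat_lit 20480) (Steps.fwd (nat_lit 24576) (Steps.bwd (nat_lit 4) (Steps.bwd (nat_lit 7) (Steps.fwd (nat_lit 16384) (Steps.bwd (nat_lit 2) (Steps.bwd (nat_lit 3) (Steps.bwd (nat_lit 1) (Steps.fwd (nat_lit 8192) (Steps.fwd (nat_lit 16384) (Steps.fwd (nat_lit 28672) Steps.nil)))))))))))))))))))))))) (nat_lit 40) (nat_lit 10),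
  Rule.mk (nat_lit 4) (nat_lit 322) (Steps.fwd (nat_lit 24576) (Steps.bwd (nat_lit 4) (Steps.bwd (nat_lit 2) (Steps.bwd (nat_lit 3) (Steps.fwd (nat_lit 4096) (Steps.bwd (nat_lit 2) (Steps.bwd (nat_lit 4) (Steps.bwd (nat_lit 6) (Steps.bwd (nat_lit 4) (Steps.bwd (nat_lit 2) (Steps.bwd (nat_lit 1) (Steps.fwd (nat_lit 12288) (Steps.fwd (nat_lit 8192) (Steps.fwd (nat_lit 12288) (Steps.bwd (nat_lit 5) (Steps.bwd (nat_lit 4) (Steps.bwd (nat_lit 7) (Steps.fwd (nat_lit 16384) (Steps.bwd (nat_lit 2) (Steps.bwd (nat_lit 3) (Steps.bwd (nat_lit 1) (Steps.fwd (nat_lit 8192) (Steps.fwd (nat_lit 20480) (Steps.fwd (nat_lit 24576) Steps.nil)))))))))))))))))))))))) (nat_lit 40) (nat_lit 1),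
  Rule.mk (nat_lit 6) (nat_lit 127) (Steps.fwd (nat_lit 20480) (Steps.bwd (nat_lit 4) (Steps.bwd (nat_lit 7) (Steps.fwd (nat_lit 16384) (Steps.bwd (nat_lit 6) (Steps.bwd (nat_lit 5) (Steps.bwd (nat_lit 4) (Steps.fwd (nat_lit 24576) (Steps.bwd (nat_lit 4) Steps.nil))))))))) (nat_lit 37) (nat_lit 3),
  Rule.mk (nat_lit 4) (nat_lit 127) (Steps.bwd (nat_lit 6) (Steps.fwd (nat_lit 20480) (Steps.fwd (nat_lit 16384) (Steps.fwd (nat_lit 24576) (Steps.bwd (nat_lit 4) (Steps.fwd (nat_lit 28672) (Steps.bwd (nat_lit 5) (Steps.bwd (nat_lit 4) (Steps.fwd (nat_lit 24576) Steps.nil))))))))) (nat_lit 37) (nat_lit 2),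
  Rule.mk (nat_lit 4) (nat_lit 114) (Steps.bwd (nat_lit 3) (Steps.fwd (nat_lit 16384) (Steps.bwd (nat_lit 3) (Steps.fwd (nat_lit 4096) (Steps.bwd (nat_lit 4) (Steps.fwd (nat_lit 12288) (Steps.fwd (nat_lit 16384) (Steps.fwd (nat_lit 12288) Steps.nil)))))))) (nat_lit 20) (nat_lit 6),
  Rule.mk (nat_lit 1) (nat_lit 114) (Steps.bwd (nat_lit 3) (Steps.fwd (nat_lit 16384) (Steps.bwd (nat_lit 3) (Steps.bwd (nat_lit 4) (Steps.bwd (nat_lit 3) (Steps.bwd (nat_lit 4) (Steps.bwd (nat_lit 3) (Steps.fwd (nat_lit 16384) Steps.nil)))))))) (nat_lit 21) (nat_lit 0),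
  Rule.mk (nat_lit 4) (nat_lit 114) (Steps.bwd (nat_lit 1) (Steps.fwd (nat_lit 12288) (Steps.fwd (nat_lit 16384) (Steps.bwd (nat_lit 3) (Steps.bwd (nat_lit 4) (Steps.bwd (nat_lit 3) (Steps.fwd (nat_lit 16384) (Steps.bwd (nat_lit 3) Steps.nil)))))))) (nat_lit 21) (nat_lit 8),
  Rule.mk (nat_lit 4) (nat_lit 127) (Steps.fwd (nat_lit 28672) (Steps.fwd (nat_lit 16384) (Steps.fwd (nat_lit 20480) (Steps.bwd (nat_lit 7) (Steps.bwd (nat_lit 4) (Steps.fwd (nat_lit 28672) (Steps.bwd (nat_lit 4) (Steps.bwd (nat_lit 5) (Steps.bwd (nat_lit 7) Steps.nil))))))))) (nat_lit 36) (nat_lit 4),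
  Rule.mk (nat_lit 4) (nat_lit 127) (Steps.fwd (nat_lit 24576) (Steps.bwd (nat_lit 4) (Steps.bwd (nat_lit 6) (Steps.fwd (nat_lit 20480) (Steps.bwd (nat_lit 4) (Steps.fwd (nat_lit 24576) (Steps.bwd (nat_lit 4) (Steps.fwd (nat_lit 28672) (Steps.fwd (nat_lit 20480) Steps.nil))))))))) (nat_lit 37) (nat_lit 0),
  Rule.mk (nat_lit 4) (nat_lit 127) (Steps.fwd (nat_lit 28672) (Steps.fwd (nat_lit 20480) (Steps.bwd (nat_lit 4) (Steps.fwd (nat_lit 24576) (Steps.bwd (nat_lit 4) (Steps.bwd (nat_lit 6) (Steps.fwd (nat_lit 20480) (Steps.fwd (nat_lit 16384) (Steps.bwd (nat_lit 7) Steps.nil))))))))) (nat_lit 37) (nat_lit 2),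
  Rule.mk (nat_lit 2) (nat_lit 140) (Steps.bwd (nat_lit 3) (Steps.fwd (nat_lit 4096) (Steps.fwd (nat_lit 8192) (Steps.bwd (nat_lit 6) (Steps.fwd (nat_lit 8192) (Steps.bwd (nat_lit 1) (Steps.fwd (nat_lit 12288) (Steps.bwd (nat_lit 2) (Steps.bwd (nat_lit 5) (Steps.bwd (nat_lit 7) Steps.nil)))))))))) (nat_lit 38) (nat_lit 2),
  Rule.mk (nat_lit 7) (nat_lit 140) (Steps.bwd (nat_lit 2) (Steps.bwd (nat_lit 1) (Steps.fwd (nat_lit 12288) (Steps.fwd (nat_lit 8192) (Steps.bwd (nat_lit 6) (Steps.fwd (nat_lit 20480) (Steps.bwd (nat_lit 2) (Steps.fwd (nat_lit 12288) (Steps.fwd (nat_lit 4096) (Steps.fwd (nat_lit 8192) Steps.nil)))))))))) (nat_lit 39) (nat_lit 6),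
  Rule.mk (nat_lit 2) (nat_lit 140) (Steps.bwd (nat_lit 7) (Steps.fwd (nat_lit 8192) (Steps.fwd (nat_lit 4096) (Steps.bwd (nat_lit 3) (Steps.bwd (nat_lit 2) (Steps.fwd (nat_lit 28672) (Steps.fwd (nat_lit 20480) (Steps.bwd (nat_lit 2) (Steps.fwd (nat_lit 12288) (Steps.fwd (nat_lit 4096) Steps.nil)))))))))) (nat_lit 39) (nat_lit 5)]
noncomputable def R_9 : List (Rule) := [Rule.mk (nat_lit 4) (nat_lit 322) (Steps.bwd (nat_lit 2) (Steps.bwd (nat_lit 1) (Steps.fwd (nat_lit 12288) (Steps.bwd (nat_lit 2) (Steps.bwd (nat_lit 3) (Steps.bwd (nat_lit 5) (Steps.bwd (nat_lit 4) (Steps.fwd (nat_lit 24576) (Steps.fwd (nat_lit 16384) (Steps.bwd (nat_lit 2) (Steps.bwd (nat_lit 3) (Steps.fwd (nat_lit 4096) (Steps.fwd (nat_lit 8192) (Steps.bwd (nat_lit 5) (Steps.bwd (nat_lit 7) (Steps.bwd (nat_lit 4) (Steps.fwd (nat_lit 24576) (Steps.bwd (nat_lit 4) (Steps.bwd (nat_lit 2) (Steps.fwd (nat_lit 12288) (Steps.fwd (nat_lit 4096) (Steps.fwd (nat_lit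 8192) (Steps.fwd (nat_lit 16384) (Steps.bwd (nat_lit 6) Steps.nil)))))))))))))))))))))))) (nat_lit 40) (nat_lit 10),
  Rule.mk (nat_lit 1) (nat_lit 322) (Steps.bwd (nat_lit 3) (Steps.fwd (nat_lit 8192) (Steps.fwd (nat_lit 16384) (Steps.fwd (nat_lit 28672) (Steps.bwd (nat_lit 4) (Steps.bwd (nat_lit 5) (Steps.fwd (nat_lit 12288) (Steps.fwd (nat_lit 8192) (Steps.fwd (nat_lit 12288) (Steps.fwd (nat_lit 4096) (Steps.fwd (nat_lit 8192) (Steps.bwd (nat_lit 4) (Steps.fwd (nat_lit 24576) (Steps.bwd (nat_lit 4) (Steps.fwd (nat_lit 8192) (Steps.fwd (nat_lit 4096) (Steps.fwd (nat_lit 12288) (Steps.fwd (nat_lit 8192) (Steps.fwd (nat_lit 16384) (Steps.bwd (nat_lit 6) (Steps.fwd (nat_lit 16384) (Steps.bwd (nat_lit 6) (Steps.fwd (nat_lit 20480) (Steps.fwd (nat_lit 8192) Steps.nil)))))))))))))))))))))))) (nat_lit 41) (nat_lit 4),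
  Rule.mk (nat_lit 3) (nat_lit 75) (Steps.bwd (nat_lit 2) (Steps.fwd (nat_lit 12288) (Steps.fwd (nat_lit 8192) (Steps.bwd (nat_lit 3) (Steps.bwd (nat_lit 2) Steps.nil))))) (nat_lit 14) (nat_lit 0),
  Rule.mk (nat_lit 2) (nat_lit 140) (Steps.bwd (nat_lit 6) (Steps.bwd (nat_lit 2) (Steps.bwd (nat_lit 1) (Steps.bwd (nat_lit 3) (Steps.fwd (nat_lit 8192) (Steps.bwd (nat_lit 5) (Steps.bwd (nat_lit 7) (Steps.fwd (nat_lit 8192) (Steps.fwd (nat_lit 12288) (Steps.bwd (nat_lit 1) Steps.nil)))))))))) (nat_lit 38) (nat_lit 5),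
  Rule.mk (nat_lit 7) (nat_lit 140) (Steps.bwd (nat_lit 2) (Steps.fwd (nat_lit 12288) (Steps.bwd (nat_lit 1) (Steps.fwd (nat_lit 8192) (Steps.fwd (nat_lit 28672) (Steps.bwd (nat_lit 2) (Steps.fwd (nat_lit 4096) (Steps.bwd (nat_lit 3) (Steps.fwd (nat_lit 8192) (Steps.fwd (nat_lit 20480) Steps.nil)))))))))) (nat_lit 38) (nat_lit 1),
  Rule.mk (nat_lit 3) (nat_lit 75) (Steps.bwd (nat_lit 2) (Steps.bwd (nat_lit 3) (Steps.fwd (nat_lit 8192) (Steps.bwd (nat_lit 3) (Steps.bwd (nat_lit 2) Steps.nil))))) (nat_lit 14) (nat_lit 0),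
  Rule.mk (nat_lit 7) (nat_lit 140) (Steps.bwd (nat_lit 2) (Steps.bwd (nat_lit 3) (Steps.fwd (nat_lit 4096) (Steps.bwd (nat_lit 2) (Steps.bwd (nat_lit 6) (Steps.bwd (nat_lit 2) (Steps.bwd (nat_lit 1) (Steps.bwd (nat_lit 3) (Steps.fwd (nat_lit 8192) (Steps.fwd (nat_lit 20480) Steps.nil)))))))))) (nat_lit 38) (nat_lit 1),
  Rule.mk (nat_lit 4) (nat_lit 322) (Steps.bwd (nat_lit 7) (Steps.fwd (nat_lit 16384) (Steps.bwd (nat_lit 2) (Steps.fwd (nat_lit 12288) (Steps.fwd (nat_lit 4096) (Steps.bwd (nat_lit 2) (Steps.bwd (nat_lit 5) (Steps.bwd (nat_lit 7) (Steps.bwd (nat_lit 4) (Steps.fwd (nat_lit 24576) (Steps.fwd (nat_lit 16384) (Steps.bwd (nat_lit 2) (Steps.bwd (nat_lit 3) (Steps.bwd (nat_lit 1) (Steps.bwd (nat_lit 2) (Steps.bwd (nat_lit 4) (Steps.bwd (nat_lit 6) (Steps.fwd (nat_lit 16384) (Steps.bwd (nat_lit 2) (Steps.bwd (nat_lit 1) (Steps.bwd (nat_lit 3) (Steps.fwd (nat_lit 8192) (Steps.bwd (nat_lit 3) (Steps.fwd (nat_lit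 20480) Steps.nil)))))))))))))))))))))))) (nat_lit 40) (nat_lit 17),
  Rule.mk (nat_lit 3) (nat_lit 75) (Steps.bwd (nat_lit 2) (Steps.fwd (nat_lit 12288) (Steps.fwd (nat_lit 8192) (Steps.fwd (nat_lit 12288) (Steps.fwd (nat_lit 8192) Steps.nil))))) (nat_lit 14) (nat_lit 0),
  Rule.mk (nat_lit 1) (nat_lit 75) (Steps.bwd (nat_lit 2) (Steps.bwd (nat_lit 1) (Steps.bwd (nat_lit 2) (Steps.fwd (nat_lit 4096) (Steps.fwd (nat_lit 8192) Steps.nil))))) (nat_lit 10) (nat_lit 1),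
  Rule.mk (nat_lit 1) (nat_lit 140) (Steps.bwd (nat_lit 2) (Steps.bwd (nat_lit 7) (Steps.fwd (nat_lit 8192) (Steps.fwd (nat_lit 4096) (Steps.fwd (nat_lit 12288) (Steps.bwd (nat_lit 2) (Steps.fwd (nat_lit 28672) (Steps.fwd (nat_lit 20480) (Steps.bwd (nat_lit 2) (Steps.bwd (nat_lit 3) Steps.nil)))))))))) (nat_lit 39) (nat_lit 4),
  Rule.mk (nat_lit 4) (nat_lit 322) (Steps.bwd (nat_lit 6) (Steps.fwd (nat_lit 16384) (Steps.fwd (nat_lit 8192) (Steps.fwd (nat_lit 4096) (Steps.fwd (nat_lit 12288) (Steps.bwd (nat_lit 2) (Steps.fwd (nat_lit 12288) (Steps.bwd (nat_lit 5) (Steps.fwd (nat_lit 16384) (Steps.fwd (nat_lit 24576) (Steps.fwd (nat_lit 16384) (Steps.bwd (nat_lit 2) (Steps.bwd (nat_lit 3) (Steps.fwd (nat_lit 4096) (Steps.fwd (nat_lit 8192) (Steps.bwd (nat_lit 5) (Steps.bwd (nat_lit 7) (Steps.fwd (nat_lit 16384) (Steps.bwd (nat_lit 7) (Steps.bwd (nat_lit 4) (Steps.fwd (nat_lit 8192) (Steps.fwd (nat_lit 12288) (Steps.fwd (nat_lit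 4096) (Steps.fwd (nat_lit 8192) Steps.nil)))))))))))))))))))))))) (nat_lit 40) (nat_lit 8),
  Rule.mk (nat_lit 4) (nat_lit 114) (Steps.bwd (nat_lit 3) (Steps.bwd (nat_lit 4) (Steps.bwd (nat_lit 3) (Steps.bwd (nat_lit 1) (Steps.fwd (nat_lit 16384) (Steps.bwd (nat_lit 3) (Steps.fwd (nat_lit 16384) (Steps.fwd (nat_lit 12288) Steps.nil)))))))) (nat_lit 20) (nat_lit 6),
  Rule.mk (nat_lit 4) (nat_lit 114) (Steps.bwd (nat_lit 1) (Steps.fwd (nat_lit 12288) (Steps.fwd (nat_lit 16384) (Steps.bwd (nat_lit 3) (Steps.bwd (nat_lit 4) (Steps.fwd (nat_lit 12288) (Steps.bwd (nat_lit 4) (Steps.bwd (nat_lit 3) Steps.nil)))))))) (nat_lit 21) (nat_lit 8),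
  Rule.mk (nat_lit 4) (nat_lit 114) (Steps.bwd (nat_lit 3) (Steps.bwd (nat_lit 1) (Steps.bwd (nat_lit 4) (Steps.bwd (nat_lit 3) (Steps.bwd (nat_lit 4) (Steps.fwd (nat_lit 12288) (Steps.fwd (nat_lit 16384) (Steps.fwd (nat_lit 12288) Steps.nil)))))))) (nat_lit 20) (nat_lit 8),
  Rule.mk (nat_lit 1) (nat_lit 114) (Steps.bwd (nat_lit 3) (Steps.fwd (nat_lit 16384) (Steps.fwd (nat_lit 12288) (Steps.fwd (nat_lit 16384) (Steps.bwd (nat_lit 3) (Steps.fwd (nat_lit 16384) (Steps.fwd (nat_lit 12288) (Steps.bwd (nat_lit 4) Steps.nil)))))))) (nat_lit 21) (nat_lit 0),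
  Rule.mk (nat_lit 1) (nat_lit 75) (Steps.fwd (nat_lit 8192) (Steps.fwd (nat_lit 4096) (Steps.fwd (nat_lit 8192) (Steps.fwd (nat_lit 4096) (Steps.bwd (nat_lit 2) Steps.nil))))) (nat_lit 10) (nat_lit 1),
  Rule.mk (nat_lit 6) (nat_lit 322) (Steps.bwd (nat_lit 4) (Steps.bwd (nat_lit 6) (Steps.bwd (nat_lit 5) (Steps.bwd (nat_lit 2) (Steps.fwd (nat_lit 4096) (Steps.bwd (nat_lit 3) (Steps.fwd (nat_lit 8192) (Steps.bwd (nat_lit 4) (Steps.fwd (nat_lit 28672) (Steps.fwd (nat_lit 16384) (Steps.bwd (nat_lit 5) (Steps.bwd (nat_lit 3) (Steps.fwd (nat_lit 8192) (Steps.bwd (nat_lit 3) (Steps.fwd (nat_lit 4096) (Steps.fwd (nat_lit 8192) (Steps.bwd (nat_lit 4) (Steps.bwd (nat_lit 7) (Steps.fwd (nat_lit 16384) (Steps.bwd (nat_lit 2) (Steps.fwd (nat_lit 4096) (Steps.bwd (nat_lit 3) (Steps.bwd (nat_lit 2) (Steps.bwd (nat_lit 4) Steps.nil)))))))))))))))))))))))) (nat_lit 41) (nat_lit 24),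
  Rule.mk (nat_lit 6) (nat_lit 49) (Steps.fwd (nat_lit 12288) (Steps.fwd (nat_lit 4096) (Steps.bwd (nat_lit 6) Steps.nil))) (nat_lit 28) (nat_lit 2),
  Rule.mk (nat_lit 7) (nat_lit 127) (Steps.bwd (nat_lit 4) (Steps.fwd (nat_lit 28672) (Steps.fwd (nat_lit 20480) (Steps.bwd (nat_lit 4) (Steps.fwd (nat_lit 24576) (Steps.fwd (nat_lit 16384) (Steps.bwd (nat_lit 6) (Steps.bwd (nat_lit 5) (Steps.fwd (nat_lit 16384) Steps.nil))))))))) (nat_lit 37) (nat_lit 1),
  Rule.mk (nat_lit 7) (nat_lit 49) (Steps.fwd (nat_lit 4096) (Steps.bwd (nat_lit 3) (Steps.bwd (nat_lit 7) Steps.nil))) (nat_lit 29) (nat_lit 0),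
  Rule.mk (nat_lit 4) (nat_lit 75) (Steps.bwd (nat_lit 5) (Steps.bwd (nat_lit 4) (Steps.fwd (nat_lit 20480) (Steps.fwd (nat_lit 16384) (Steps.bwd (nat_lit 5) Steps.nil))))) (nat_lit 24) (nat_lit 1),
  Rule.mk (nat_lit 4) (nat_lit 322) (Steps.bwd (nat_lit 7) (Steps.fwd (nat_lit 16384) (Steps.bwd (nat_lit 2) (Steps.fwd (nat_lit 12288) (Steps.fwd (nat_lit 4096) (Steps.bwd (nat_lit 2) (Steps.bwd (nat_lit 4) (Steps.bwd (nat_lit 6) (Steps.bwd (nat_lit 4) (Steps.bwd (nat_lit 2) (Steps.bwd (nat_lit 1) (Steps.fwd (nat_lit 12288) (Steps.fwd (nat_lit 8192) (Steps.fwd (nat_lit 12288) (Steps.bwd (nat_lit 5) (Steps.fwd (nat_lit 16384) (Steps.fwd (nat_lit 24576) (Steps.bwd (nat_lit 4) (Steps.bwd (nat_lit 2) (Steps.bwd (nat_lit 3) (Steps.fwd (nat_lit 4096) (Steps.fwd (nat_lit 8192) (Steps.fwd (nat_lit 20480) (Steps.fwd (nat_lit 24576) Steps.nil)))))))))))))))))))))))) (nat_lit 40) (nat_lit 1),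
  Rule.mk (nat_lit 4) (nat_lit 127) (Steps.bwd (nat_lit 7) (Steps.bwd (nat_lit 4) (Steps.bwd (nat_lit 6) (Steps.fwd (nat_lit 20480) (Steps.fwd (nat_lit 16384) (Steps.fwd (nat_lit 24576) (Steps.bwd (nat_lit 4) (Steps.fwd (nat_lit 28672) (Steps.bwd (nat_lit 5) Steps.nil))))))))) (nat_lit 37) (nat_lit 0),
  Rule.mk (nat_lit 4) (nat_lit 127) (Steps.bwd (nat_lit 6) (Steps.fwd (nat_lit 16384) (Steps.bwd (nat_lit 5) (Steps.fwd (nat_lit 24576) (Steps.bwd (nat_lit 4) (Steps.bwd (nat_lit 6) (Steps.fwd (nat_lit 16384) (Steps.bwd (nat_lit 5) (Steps.bwd (nat_lit 7) Steps.nil))))))))) (nat_lit 36) (nat_lit 4),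
  Rule.mk (nat_lit 4) (nat_lit 114) (Steps.bwd (nat_lit 3) (Steps.fwd (nat_lit 16384) (Steps.fwd (nat_lit 12288) (Steps.bwd (nat_lit 4) (Steps.bwd (nat_lit 3) (Steps.fwd (nat_lit 4096) (Steps.fwd (nat_lit 16384) (Steps.bwd (nat_lit 3) Steps.nil)))))))) (nat_lit 20) (nat_lit 4),
  Rule.mk (nat_lit 3) (nat_lit 140) (Steps.bwd (nat_lit 1) (Steps.fwd (nat_lit 8192) (Steps.bwd (nat_lit 6) (Steps.bwd (nat_lit 2) (Steps.fwd (nat_lit 4096) (Steps.bwd (nat_lit 3) (Steps.fwd (nat_lit 8192) (Steps.bwd (nat_lit 5) (Steps.fwd (nat_lit 24576) (Steps.fwd (nat_lit 8192) Steps.nil)))))))))) (nat_lit 38) (nat_lit 3),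
  Rule.mk (nat_lit 1) (nat_lit 49) (Steps.bwd (nat_lit 3) (Steps.fwd (nat_lit 24576) (Steps.fwd (nat_lit 24576) Steps.nil))) (nat_lit 29) (nat_lit 1),
  Rule.mk (nat_lit 3) (nat_lit 140) (Steps.bwd (nat_lit 1) (Steps.fwd (nat_lit 8192) (Steps.bwd (nat_lit 6) (Steps.fwd (nat_lit 8192) (Steps.fwd (nat_lit 4096) (Steps.bwd (nat_lit 3) (Steps.bwd (nat_lit 2) (Steps.bwd (nat_lit 5) (Steps.bwd (nat_lit 7) (Steps.fwd (nat_lit 8192) Steps.nil)))))))))) (nat_lit 38) (nat_lit 3),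
  Rule.mk (nat_lit 1) (nat_lit 140) (Steps.bwd (nat_lit 3) (Steps.fwd (nat_lit 8192) (Steps.bwd (nat_lit 5) (Steps.fwd (nat_lit 24576) (Steps.bwd (nat_lit 2) (Steps.fwd (nat_lit 12288) (Steps.bwd (nat_lit 1) (Steps.fwd (nat_lit 8192) (Steps.bwd (nat_lit 6) (Steps.bwd (nat_lit 2) Steps.nil)))))))))) (nat_lit 38) (nat_lit 8),
  Rule.mk (nat_lit 7) (nat_lit 127) (Steps.bwd (nat_lit 4) (Steps.fwd (nat_lit 28672) (Steps.fwd (nat_lit 20480) (Steps.fwd (nat_lit 16384) (Steps.fwd (nat_lit 24576) (Steps.bwd (nat_lit 4) (Steps.bwd (nat_lit 6) (Steps.bwd (nat_lit 5) (Steps.fwd (nat_lit 16384) Steps.nil))))))))) (nat_lit 37) (nat_lit 1),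
  Rule.mk (nat_lit 7) (nat_lit 322) (Steps.bwd (nat_lit 4) (Steps.bwd (nat_lit 2) (Steps.fwd (nat_lit 12288) (Steps.bwd (nat_lit 1) (Steps.bwd (nat_lit 2) (Steps.fwd (nat_lit 20480) (Steps.fwd (nat_lit 24576) (Steps.bwd (nat_lit 4) (Steps.bwd (nat_lit 7) (Steps.fwd (nat_lit 16384) (Steps.bwd (nat_lit 2) (Steps.fwd (nat_lit 12288) (Steps.fwd (nat_lit 4096) (Steps.fwd (nat_lit 8192) (Steps.fwd (nat_lit 16384) (Steps.fwd (nat_lit 28672) (Steps.fwd (nat_lit 16384) (Steps.bwd (nat_lit 2) (Steps.fwd (nat_lit 4096) (Steps.bwd (nat_lit 3) (Steps.bwd (nat_lit 2) (Steps.fwd (nat_lit 12288) (Steps.bwd (nat_lit 5) (Steps.fwd (nat_lit 16384) Steps.nil)))))))))))))))))))))))) (nat_lit 40) (nat_lit 18),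
  Rule.mk (nat_lit 4) (nat_lit 127) (Steps.bwd (nat_lit 7) (Steps.fwd (nat_lit 16384) (Steps.bwd (nat_lit 6) (Steps.fwd (nat_lit 20480) (Steps.bwd (nat_lit 4) (Steps.fwd (nat_lit 24576) (Steps.fwd (nat_lit 16384) (Steps.bwd (nat_lit 6) (Steps.fwd (nat_lit 20480) Steps.nil))))))))) (nat_lit 37) (nat_lit 0),
  Rule.mk (nat_lit 4) (nat_lit 127) (Steps.bwd (nat_lit 6) (Steps.fwd (nat_lit 16384) (Steps.fwd (nat_lit 20480) (Steps.bwd (nat_lit 7) (Steps.fwd (nat_lit 16384) (Steps.bwd (nat_lit 6) (Steps.bwd (nat_lit 4) (Steps.bwd (nat_lit 5) (Steps.bwd (nat_lit 7) Steps.nil))))))))) (nat_lit 36) (nat_lit 4),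
  Rule.mk (nat_lit 4) (nat_lit 114) (Steps.fwd (nat_lit 12288) (Steps.fwd (nat_lit 16384) (Steps.bwd (nat_lit 3) (Steps.bwd (nat_lit 1) (Steps.fwd (nat_lit 16384) (Steps.fwd (nat_lit 12288) (Steps.bwd (nat_lit 4) (Steps.bwd (nat_lit 3) Steps.nil)))))))) (nat_lit 20) (nat_lit 6),
  Rule.mk (nat_lit 4) (nat_lit 114) (Steps.bwd (nat_lit 1) (Steps.bwd (nat_lit 3) (Steps.fwd (nat_lit 16384) (Steps.fwd (nat_lit 12288) (Steps.fwd (nat_lit 16384) (Steps.bwd (nat_lit 3) (Steps.bwd (nat_lit 4) (Steps.bwd (nat_lit 3) Steps.nil)))))))) (nat_lit 21) (nat_lit 8),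
  Rule.mk (nat_lit 4) (nat_lit 127) (Steps.fwd (nat_lit 28672) (Steps.bwd (nat_lit 5) (Steps.bwd (nat_lit 4) (Steps.bwd (nat_lit 7) (Steps.bwd (nat_lit 4) (Steps.bwd (nat_lit 6) (Steps.fwd (nat_lit 20480) (Steps.bwd (nat_lit 4) (Steps.fwd (nat_lit 24576) Steps.nil))))))))) (nat_lit 37) (nat_lit 2),
  Rule.mk (nat_lit 3) (nat_lit 114) (Steps.bwd (nat_lit 1) (Steps.bwd (nat_lit 4) (Steps.bwd (nat_lit 3) (Steps.bwd (nat_lit 4) (Steps.bwd (nat_lit 3) (Steps.bwd (nat_lit 4) (Steps.bwd (nat_lit 3) (Steps.fwd (nat_lit 16384) Steps.nil)))))))) (nat_lit 20) (nat_lit 0),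
  Rule.mk (nat_lit 4) (nat_lit 114) (Steps.fwd (nat_lit 12288) (Steps.bwd (nat_lit 1) (Steps.bwd (nat_lit 4) (Steps.bwd (nat_lit 3) (Steps.bwd (nat_lit 4) (Steps.bwd (nat_lit 3) (Steps.fwd (nat_lit 16384) (Steps.bwd (nat_lit 3) Steps.nil)))))))) (nat_lit 20) (nat_lit 8),
  Rule.mk (nat_lit 4) (nat_lit 127) (Steps.bwd (nat_lit 7) (Steps.fwd (nat_lit 16384) (Steps.fwd (nat_lit 28672) (Steps.fwd (nat_lit 20480) (Steps.fwd (nat_lit 16384) (Steps.fwd (nat_lit 24576) (Steps.fwd (nat_lit 16384) (Steps.bwd (nat_lit 6) (Steps.bwd (nat_lit 5) Steps.nil))))))))) (nat_lit 37) (nat_lit 0),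
  Rule.mk (nat_lit 4) (nat_lit 75) (Steps.fwd (nat_lit 20480) (Steps.bwd (nat_lit 4) (Steps.bwd (nat_lit 5) (Steps.fwd (nat_lit 16384) (Steps.bwd (nat_lit 5) Steps.nil))))) (nat_lit 24) (nat_lit 1),
  Rule.mk (nat_lit 4) (nat_lit 127) (Steps.bwd (nat_lit 7) (Steps.fwd (nat_lit 16384) (Steps.fwd (nat_lit 28672) (Steps.bwd (nat_lit 5) (Steps.bwd (nat_lit 4) (Steps.fwd (nat_lit 24576) (Steps.fwd (nat_lit 16384) (Steps.bwd (nat_lit 6) (Steps.bwd (nat_lit 5) Steps.nil))))))))) (nat_lit 37) (nat_lit 0),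
  Rule.mk (nat_lit 4) (nat_lit 322) (Steps.bwd (nat_lit 7) (Steps.fwd (nat_lit 16384) (Steps.bwd (nat_lit 2) (Steps.fwd (nat_lit 12288) (Steps.fwd (nat_lit 4096) (Steps.fwd (nat_lit 8192) (Steps.bwd (nat_lit 4) (Steps.fwd (nat_lit 28672) (Steps.fwd (nat_lit 16384) (Steps.fwd (nat_lit 8192) (Steps.fwd (nat_lit 4096) (Steps.bwd (nat_lit 3) (Steps.bwd (nat_lit 2) (Steps.fwd (nat_lit 12288) (Steps.bwd (nat_lit 5) (Steps.fwd (nat_lit 16384) (Steps.bwd (nat_lit 7) (Steps.bwd (nat_lit 4) (Steps.fwd (nat_lit 8192) (Steps.bwd (nat_lit 3) (Steps.fwd (nat_lit 4096) (Steps.fwd (nat_lit 8192) (Steps.fwd (nat_lit 20480) (Steps.fwd (nat_lit 24576) Steps.nil)))))))))))))))))))))))) (nat_lit 40) (nat_lit 1),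
  Rule.mk (nat_lit 4) (nat_lit 114) (Steps.bwd (nat_lit 3) (Steps.fwd (nat_lit 16384) (Steps.fwd (nat_lit 12288) (Steps.bwd (nat_lit 1) (Steps.fwd (nat_lit 16384) (Steps.bwd (nat_lit 3) (Steps.fwd (nat_lit 16384) (Steps.fwd (nat_lit 12288) Steps.nil)))))))) (nat_lit 20) (nat_lit 6),
  Rule.mk (nat_lit 4) (nat_lit 127) (Steps.bwd (nat_lit 7) (Steps.fwd (nat_lit 16384) (Steps.bwd (nat_lit 6) (Steps.fwd (nat_lit 20480) (Steps.fwd (nat_lit 16384) (Steps.bwd (nat_lit 7) (Steps.fwd (nat_lit 16384) (Steps.bwd (nat_lit 6) (Steps.fwd (nat_lit 20480) Steps.nil))))))))) (nat_lit 37) (nat_lit 0),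
  Rule.mk (nat_lit 4) (nat_lit 322) (Steps.bwd (nat_lit 7) (Steps.fwd (nat_lit 16384) (Steps.fwd (nat_lit 8192) (Steps.fwd (nat_lit 12288) (Steps.fwd (nat_lit 4096) (Steps.fwd (nat_lit 8192) (Steps.bwd (nat_lit 4) (Steps.bwd (nat_lit 6) (Steps.fwd (nat_lit 16384) (Steps.bwd (nat_lit 2) (Steps.bwd (nat_lit 1) (Steps.fwd (nat_lit 12288) (Steps.bwd (nat_lit 2) (Steps.fwd (nat_lit 12288) (Steps.fwd (nat_lit 20480) (Steps.fwd (nat_lit 16384) (Steps.fwd (nat_lit 24576) (Steps.fwd (nat_lit 16384) (Steps.bwd (nat_lit 2) (Steps.fwd (nat_lit 12288) (Steps.fwd (nat_lit 4096) (Steps.bwd (nat_lit 2) (Steps.fwd (nat_lit 20480) (Steps.bwd (nat_lit 7) Steps.nil)))))))))))))))))))))))) (nat_lit 40) (nat_lit 1),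
  Rule.mk (nat_lit 1) (nat_lit 114) (Steps.fwd (nat_lit 12288) (Steps.fwd (nat_lit 16384) (Steps.bwd (nat_lit 3) (Steps.bwd (nat_lit 4) (Steps.fwd (nat_lit 12288) (Steps.bwd (nat_lit 4) (Steps.fwd (nat_lit 12288) (Steps.bwd (nat_lit 4) Steps.nil)))))))) (nat_lit 21) (nat_lit 0),
  Rule.mk (nat_lit 4) (nat_lit 114) (Steps.bwd (nat_lit 1) (Steps.bwd (nat_lit 3) (Steps.fwd (nat_lit 16384) (Steps.fwd (nat_lit 12288) (Steps.bwd (nat_lit 4) (Steps.bwd (nat_lit 3) (Steps.fwd (nat_lit 16384) (Steps.fwd (nat_lit 12288) Steps.nil)))))))) (nat_lit 21) (nat_lit 8),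
  Rule.mk (nat_lit 4) (nat_lit 75) (Steps.bwd (nat_lit 5) (Steps.fwd (nat_lit 16384) (Steps.fwd (nat_lit 20480) (Steps.bwd (nat_lit 4) (Steps.bwd (nat_lit 5) Steps.nil))))) (nat_lit 24) (nat_lit 1),
  Rule.mk (nat_lit 4) (nat_lit 127) (Steps.bwd (nat_lit 6) (Steps.bwd (nat_lit 4) (Steps.fwd (nat_lit 20480) (Steps.bwd (nat_lit 7) (Steps.fwd (nat_lit 16384) (Steps.fwd (nat_lit 28672) (Steps.bwd (nat_lit 4) (Steps.bwd (nat_lit 5) (Steps.bwd (nat_lit 7) Steps.nil))))))))) (nat_lit 36) (nat_lit 4),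
  Rule.mk (nat_lit 7) (nat_lit 322) (Steps.bwd (nat_lit 4) (Steps.fwd (nat_lit 8192) (Steps.bwd (nat_lit 3) (Steps.bwd (nat_lit 1) (Steps.fwd (nat_lit 8192) (Steps.bwd (nat_lit 4) (Steps.bwd (nat_lit 6) (Steps.bwd (nat_lit 4) (Steps.fwd (nat_lit 8192) (Steps.bwd (nat_lit 1) (Steps.fwd (nat_lit 12288) (Steps.fwd (nat_lit 8192) (Steps.bwd (nat_lit 3) (Steps.fwd (nat_lit 20480) (Steps.fwd (nat_lit 16384) (Steps.bwd (nat_lit 7) (Steps.fwd (nat_lit 16384) (Steps.bwd (nat_lit 2) (Steps.bwd (nat_lit 3) (Steps.bwd (nat_lit 1) (Steps.bwd (nat_lit 2) (Steps.fwd (nat_lit 20480) (Steps.fwd (nat_lit 24576) (Steps.fwd (nat_lit 16384) Steps.nil)))))))))))))))))))))))) (nat_lit 40) (nat_lit 2),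
  Rule.mk (nat_lit 7) (nat_lit 127) (Steps.bwd (nat_lit 4) (Steps.fwd (nat_lit 28672) (Steps.fwd (nat_lit 20480) (Steps.fwd (nat_lit 16384) (Steps.bwd (nat_lit 7) (Steps.bwd (nat_lit 4) (Steps.fwd (nat_lit 28672) (Steps.bwd (nat_lit 5) (Steps.fwd (nat_lit 16384) Steps.nil))))))))) (nat_lit 37) (nat_lit 1),
  Rule.mk (nat_lit 3) (nat_lit 114) (Steps.bwd (nat_lit 4) (Steps.fwd (nat_lit 12288) (Steps.bwd (nat_lit 1) (Steps.fwd (nat_lit 16384) (Steps.fwd (nat_lit 12288) (Steps.bwd (nat_lit 4) (Steps.bwd (nat_lit 3) (Steps.fwd (nat_lit 16384) Steps.nil)))))))) (nat_lit 20) (nat_lit 7),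
  Rule.mk (nat_lit 6) (nat_lit 127) (Steps.bwd (nat_lit 4) (Steps.bwd (nat_lit 5) (Steps.fwd (nat_lit 24576) (Steps.bwd (nat_lit 4) (Steps.bwd (nat_lit 6) (Steps.bwd (nat_lit 4) (Steps.fwd (nat_lit 20480) (Steps.fwd (nat_lit 24576) (Steps.fwd (nat_lit 16384) Steps.nil))))))))) (nat_lit 36) (nat_lit 0),
  Rule.mk (nat_lit 3) (nat_lit 114) (Steps.bwd (nat_lit 1) (Steps.bwd (nat_lit 4) (Steps.fwd (nat_lit 12288) (Steps.fwd (nat_lit 16384) (Steps.bwd (nat_lit 3) (Steps.bwd (nat_lit 4) (Steps.fwd (nat_lit 12288) (Steps.fwd (nat_lit 16384) Steps.nil)))))))) (nat_lit 20) (nat_lit 0),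
  Rule.mk (nat_lit 4) (nat_lit 114) (Steps.bwd (nat_lit 1) (Steps.fwd (nat_lit 12288) (Steps.bwd (nat_lit 4) (Steps.fwd (nat_lit 12288) (Steps.fwd (nat_lit 16384) (Steps.bwd (nat_lit 3) (Steps.bwd (nat_lit 4) (Steps.fwd (nat_lit 12288) Steps.nil)))))))) (nat_lit 21) (nat_lit 8),
  Rule.mk (nat_lit 3) (nat_lit 114) (Steps.bwd (nat_lit 4) (Steps.bwd (nat_lit 3) (Steps.bwd (nat_lit 1) (Steps.bwd (nat_lit 4) (Steps.fwd (nat_lit 12288) (Steps.bwd (nat_lit 4) (Steps.fwd (nat_lit 12288) (Steps.fwd (nat_lit 16384) Steps.nil)))))))) (nat_lit 20) (nat_lit 7),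
  Rule.mk (nat_lit 7) (nat_lit 127) (Steps.bwd (nat_lit 4) (Steps.bwd (nat_lit 6) (Steps.bwd (nat_lit 5) (Steps.fwd (nat_lit 16384) (Steps.fwd (nat_lit 24576) (Steps.bwd (nat_lit 4) (Steps.bwd (nat_lit 6) (Steps.fwd (nat_lit 20480) (Steps.fwd (nat_lit 16384) Steps.nil))))))))) (nat_lit 37) (nat_lit 1),
  Rule.mk (nat_lit 6) (nat_lit 322) (Steps.bwd (nat_lit 4) (Steps.fwd (nat_lit 8192) (Steps.fwd (nat_lit 4096) (Steps.fwd (nat_lit 12288) (Steps.bwd (nat_lit 2) (Steps.bwd (nat_lit 3) (Steps.bwd (nat_lit 5) (Steps.fwd (nat_lit 16384) (Steps.fwd (nat_lit 24576) (Steps.bwd (nat_lit 4) (Steps.bwd (nat_lit 2) (Steps.fwd (nat_lit 12288) (Steps.bwd (nat_lit 1) (Steps.fwd (nat_lit 8192) (Steps.bwd (nat_lit 5) (Steps.fwd (nat_lit 24576) (Steps.fwd (nat_lit 16384) (Steps.bwd (nat_lit 7) (Steps.bwd (nat_lit 4) (Steps.fwd (nat_lit 8192) (Steps.bwd (nat_lit 3) (Steps.bwd (nat_lit 1) (Steps.fwd (nat_lit 8192) (Steps.fwd (nat_lit 16384)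 Steps.nil)))))))))))))))))))))))) (nat_lit 40) (nat_lit 9),
  Rule.mk (nat_lit 4) (nat_lit 114) (Steps.bwd (nat_lit 1) (Steps.fwd (nat_lit 12288) (Steps.bwd (nat_lit 4) (Steps.bwd (nat_lit 3) (Steps.fwd (nat_lit 16384) (Steps.bwd (nat_lit 3) (Steps.fwd (nat_lit 16384) (Steps.bwd (nat_lit 3) Steps.nil)))))))) (nat_lit 21) (nat_lit 8),
  Rule.mk (nat_lit 4) (nat_lit 127) (Steps.bwd (nat_lit 6) (Steps.fwd (nat_lit 20480) (Steps.fwd (nat_lit 16384) (Steps.bwd (nat_lit 7) (Steps.bwd (nat_lit 4) (Steps.fwd (nat_lit 28672) (Steps.bwd (nat_lit 5) (Steps.fwd (nat_lit 16384) (Steps.fwd (nat_lit 24576) Steps.nil))))))))) (nat_lit 37) (nat_lit 2),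
  Rule.mk (nat_lit 4) (nat_lit 127) (Steps.bwd (nat_lit 6) (Steps.fwd (nat_lit 16384) (Steps.fwd (nat_lit 20480) (Steps.bwd (nat_lit 7) (Steps.bwd (nat_lit 4) (Steps.fwd (nat_lit 28672) (Steps.bwd (nat_lit 4) (Steps.bwd (nat_lit 5) (Steps.fwd (nat_lit 24576) Steps.nil))))))))) (nat_lit 36) (nat_lit 4),
  Rule.mk (nat_lit 2) (nat_lit 49) (Steps.fwd (nat_lit 16384) (Steps.fwd (nat_lit 8192) (Steps.bwd (nat_lit 4) Steps.nil))) (nat_lit 16) (nat_lit 1),
  Rule.mk (nat_lit 7) (nat_lit 127) (Steps.fwd (nat_lit 16384) (Steps.bwd (nat_lit 6) (Steps.fwd (nat_lit 20480) (Steps.bwd (nat_lit 4) (Steps.fwd (nat_lit 24576) (Steps.fwd (nat_lit 16384) (Steps.fwd (nat_lit 28672) (Steps.bwd (nat_lit 5) (Steps.bwd (nat_lit 4) Steps.nil))))))))) (nat_lit 37) (nat_lit 1)]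
noncomputable def R_10 : List (Rule) := [Rule.mk (nat_lit 4) (nat_lit 322) (Steps.bwd (nat_lit 2) (Steps.bwd (nat_lit 3) (Steps.bwd (nat_lit 1) (Steps.fwd (nat_lit 8192) (Steps.fwd (nat_lit 20480) (Steps.bwd (nat_lit 7) (Steps.bwd (nat_lit 4) (Steps.fwd (nat_lit 24576) (Steps.bwd (nat_lit 4) (Steps.bwd (nat_lit 2) (Steps.bwd (nat_lit 3) (Steps.fwd (nat_lit 4096) (Steps.fwd (nat_lit 8192) (Steps.fwd (nat_lit 16384) (Steps.bwd (nat_lit 6) (Steps.fwd (nat_lit 16384) (Steps.bwd (nat_lit 2) (Steps.bwd (nat_lit 1) (Steps.fwd (nat_lit 12288) (Steps.bwd (nat_lit 2) (Steps.bwd (nat_lit 3) (Steps.bwd (nat_lit 5) (Steps.bwd (nat_lit 4) (Steps.bwd (nat_lit 7) Steps.nil)))))))))))))))))))))))) (nat_lit 40) (nat_lit 19),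
  Rule.mk (nat_lit 4) (nat_lit 114) (Steps.bwd (nat_lit 3) (Steps.fwd (nat_lit 16384) (Steps.fwd (nat_lit 12288) (Steps.fwd (nat_lit 4096) (Steps.fwd (nat_lit 16384) (Steps.bwd (nat_lit 3) (Steps.bwd (nat_lit 4) (Steps.fwd (nat_lit 12288) Steps.nil)))))))) (nat_lit 20) (nat_lit 6),
  Rule.mk (nat_lit 4) (nat_lit 127) (Steps.bwd (nat_lit 6) (Steps.fwd (nat_lit 20480) (Steps.bwd (nat_lit 4) (Steps.bwd (nat_lit 7) (Steps.bwd (nat_lit 4) (Steps.fwd (nat_lit 28672) (Steps.fwd (nat_lit 20480) (Steps.fwd (nat_lit 16384) (Steps.fwd (nat_lit 24576) Steps.nil))))))))) (nat_lit 37) (nat_lit 2),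
  Rule.mk (nat_lit 3) (nat_lit 114) (Steps.bwd (nat_lit 4) (Steps.fwd (nat_lit 12288) (Steps.fwd (nat_lit 4096) (Steps.fwd (nat_lit 16384) (Steps.fwd (nat_lit 12288) (Steps.bwd (nat_lit 4) (Steps.fwd (nat_lit 12288) (Steps.bwd (nat_lit 4) Steps.nil)))))))) (nat_lit 20) (nat_lit 7),
  Rule.mk (nat_lit 1) (nat_lit 114) (Steps.bwd (nat_lit 4) (Steps.fwd (nat_lit 12288) (Steps.bwd (nat_lit 4) (Steps.bwd (nat_lit 3) (Steps.bwd (nat_lit 4) (Steps.fwd (nat_lit 12288) (Steps.bwd (nat_lit 4) (Steps.fwd (nat_lit 12288) Steps.nil)))))))) (nat_lit 20) (nat_lit 1),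
  Rule.mk (nat_lit 6) (nat_lit 127) (Steps.bwd (nat_lit 4) (Steps.fwd (nat_lit 20480) (Steps.bwd (nat_lit 7) (Steps.fwd (nat_lit 16384) (Steps.bwd (nat_lit 6) (Steps.fwd (nat_lit 16384) (Steps.bwd (nat_lit 5) (Steps.bwd (nat_lit 7) (Steps.bwd (nat_lit 4) Steps.nil))))))))) (nat_lit 36) (nat_lit 0),
  Rule.mk (nat_lit 4) (nat_lit 127) (Steps.bwd (nat_lit 7) (Steps.bwd (nat_lit 4) (Steps.fwd (nat_lit 28672) (Steps.fwd (nat_lit 20480) (Steps.fwd (nat_lit 16384) (Steps.bwd (nat_lit 7) (Steps.fwd (nat_lit 16384) (Steps.bwd (nat_lit 6) (Steps.fwd (nat_lit 20480) Steps.nil))))))))) (nat_lit 37) (nat_lit 0),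
  Rule.mk (nat_lit 4) (nat_lit 114) (Steps.bwd (nat_lit 3) (Steps.fwd (nat_lit 16384) (Steps.bwd (nat_lit 3) (Steps.fwd (nat_lit 4096) (Steps.bwd (nat_lit 4) (Steps.bwd (nat_lit 3) (Steps.fwd (nat_lit 16384) (Steps.fwd (nat_lit 12288) Steps.nil)))))))) (nat_lit 20) (nat_lit 6),
  Rule.mk (nat_lit 4) (nat_lit 127) (Steps.bwd (nat_lit 7) (Steps.fwd (nat_lit 16384) (Steps.bwd (nat_lit 6) (Steps.fwd (nat_lit 20480) (Steps.fwd (nat_lit 16384) (Steps.bwd (nat_lit 7) (Steps.fwd (nat_lit 16384) (Steps.fwd (nat_lit 28672) (Steps.bwd (nat_lit 5) Steps.nil))))))))) (nat_lit 37) (nat_lit 0),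
  Rule.mk (nat_lit 4) (nat_lit 127) (Steps.bwd (nat_lit 7) (Steps.fwd (nat_lit 16384) (Steps.fwd (nat_lit 28672) (Steps.fwd (nat_lit 20480) (Steps.fwd (nat_lit 16384) (Steps.fwd (nat_lit 24576) (Steps.fwd (nat_lit 16384) (Steps.fwd (nat_lit 28672) (Steps.fwd (nat_lit 20480) Steps.nil))))))))) (nat_lit 37) (nat_lit 0),
  Rule.mk (nat_lit 1) (nat_lit 114) (Steps.fwd (nat_lit 12288) (Steps.fwd (nat_lit 16384) (Steps.bwd (nat_lit 3) (Steps.bwd (nat_lit 4) (Steps.fwd (nat_lit 12288) (Steps.fwd (nat_lit 16384) (Steps.bwd (nat_lit 3) (Steps.bwd (nat_lit 4) Steps.nil)))))))) (nat_lit 21) (nat_lit 0),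
  Rule.mk (nat_lit 3) (nat_lit 114) (Steps.bwd (nat_lit 4) (Steps.fwd (nat_lit 12288) (Steps.fwd (nat_lit 4096) (Steps.bwd (nat_lit 4) (Steps.fwd (nat_lit 12288) (Steps.fwd (nat_lit 16384) (Steps.bwd (nat_lit 3) (Steps.bwd (nat_lit 4) Steps.nil)))))))) (nat_lit 20) (nat_lit 7),
  Rule.mk (nat_lit 4) (nat_lit 127) (Steps.bwd (nat_lit 6) (Steps.bwd (nat_lit 4) (Steps.fwd (nat_lit 20480) (Steps.fwd (nat_lit 24576) (Steps.fwd (nat_lit 16384) (Steps.fwd (nat_lit 28672) (Steps.fwd (nat_lit 16384) (Steps.bwd (nat_lit 5) (Steps.bwd (nat_lit 7) Steps.nil))))))))) (nat_lit 36) (nat_lit 4),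
  Rule.mk (nat_lit 6) (nat_lit 127) (Steps.bwd (nat_lit 4) (Steps.bwd (nat_lit 5) (Steps.bwd (nat_lit 7) (Steps.bwd (nat_lit 4) (Steps.bwd (nat_lit 6) (Steps.fwd (nat_lit 16384) (Steps.fwd (nat_lit 20480) (Steps.fwd (nat_lit 24576) (Steps.bwd (nat_lit 4) Steps.nil))))))))) (nat_lit 36) (nat_lit 0),
  Rule.mk (nat_lit 2) (nat_lit 322) (Steps.bwd (nat_lit 4) (Steps.bwd (nat_lit 6) (Steps.bwd (nat_lit 4) (Steps.fwd (nat_lit 8192) (Steps.bwd (nat_lit 1) (Steps.fwd (nat_lit 12288) (Steps.fwd (nat_lit 8192) (Steps.fwd (nat_lit 12288) (Steps.bwd (nat_lit 5) (Steps.bwd (nat_lit 4) (Steps.bwd (nat_lit 7) (Steps.bwd (nat_lit 4) (Steps.bwd (nat_lit 2) (Steps.fwd (nat_lit 12288) (Steps.bwd (nat_lit 1) (Steps.bwd (nat_lit 2) (Steps.bwd (nat_lit 5) (Steps.bwd (nat_lit 7) (Steps.fwd (nat_lit 16384) (Steps.bwd (nat_lit 7) (Steps.bwd (nat_lit 4) (Steps.fwd (nat_lit 8192) (Steps.bwd (nat_lit 3) (Steps.fwd (nat_lit 4096) Steps.nil))))))))))))))))))))))))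 (nat_lit 40) (nat_lit 7),
  Rule.mk (nat_lit 4) (nat_lit 75) (Steps.fwd (nat_lit 20480) (Steps.fwd (nat_lit 16384) (Steps.fwd (nat_lit 20480) (Steps.bwd (nat_lit 4) (Steps.bwd (nat_lit 5) Steps.nil))))) (nat_lit 24) (nat_lit 1),
  Rule.mk (nat_lit 6) (nat_lit 127) (Steps.bwd (nat_lit 4) (Steps.fwd (nat_lit 20480) (Steps.fwd (nat_lit 24576) (Steps.bwd (nat_lit 4) (Steps.bwd (nat_lit 6) (Steps.bwd (nat_lit 4) (Steps.fwd (nat_lit 20480) (Steps.fwd (nat_lit 24576) (Steps.fwd (nat_lit 16384) Steps.nil))))))))) (nat_lit 36) (nat_lit 0),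
  Rule.mk (nat_lit 1) (nat_lit 49) (Steps.fwd (nat_lit 24576) (Steps.fwd (nat_lit 4096) (Steps.bwd (nat_lit 6) Steps.nil))) (nat_lit 30) (nat_lit 0),
  Rule.mk (nat_lit 4) (nat_lit 114) (Steps.bwd (nat_lit 3) (Steps.fwd (nat_lit 4096) (Steps.fwd (nat_lit 16384) (Steps.bwd (nat_lit 3) (Steps.bwd (nat_lit 4) (Steps.bwd (nat_lit 3) (Steps.bwd (nat_lit 4) (Steps.bwd (nat_lit 3) Steps.nil)))))))) (nat_lit 20) (nat_lit 8),
  Rule.mk (nat_lit 1) (nat_lit 140) (Steps.bwd (nat_lit 3) (Steps.fwd (nat_lit 8192) (Steps.bwd (nat_lit 6) (Steps.bwd (nat_lit 5) (Steps.fwd (nat_lit 8192) (Steps.bwd (nat_lit 3) (Steps.bwd (nat_lit 1) (Steps.fwd (nat_lit 8192) (Steps.fwd (nat_lit 24576) (Steps.bwd (nat_lit 2) Steps.nil)))))))))) (nat_lit 39) (nat_lit 8),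
  Rule.mk (nat_lit 4) (nat_lit 114) (Steps.bwd (nat_lit 3) (Steps.fwd (nat_lit 4096) (Steps.bwd (nat_lit 4) (Steps.bwd (nat_lit 3) (Steps.bwd (nat_lit 4) (Steps.fwd (nat_lit 12288) (Steps.bwd (nat_lit 4) (Steps.fwd (nat_lit 12288) Steps.nil)))))))) (nat_lit 20) (nat_lit 8),
  Rule.mk (nat_lit 4) (nat_lit 322) (Steps.bwd (nat_lit 7) (Steps.fwd (nat_lit 16384) (Steps.fwd (nat_lit 8192) (Steps.fwd (nat_lit 12288) (Steps.bwd (nat_lit 1) (Steps.fwd (nat_lit 8192) (Steps.fwd (nat_lit 20480) (Steps.bwd (nat_lit 7) (Steps.bwd (nat_lit 4) (Steps.bwd (nat_lit 7) (Steps.fwd (nat_lit 16384) (Steps.fwd (nat_lit 8192) (Steps.fwd (nat_lit 12288) (Steps.bwd (nat_lit 1) (Steps.fwd (nat_lit 8192) (Steps.bwd (nat_lit 4) (Steps.bwd (nat_lit 6) (Steps.bwd (nat_lit 4) (Steps.fwd (nat_lit 8192) (Steps.bwd (nat_lit 1) (Steps.fwd (nat_lit 12288) (Steps.fwd (nat_lit 8192) (Steps.fwd (nat_lit 12288) (Steps.fwd (nat_lit 20480) Steps.nil))))))))))))))))))))))))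 (nat_lit 40) (nat_lit 17),
  Rule.mk (nat_lit 6) (nat_lit 127) (Steps.bwd (nat_lit 4) (Steps.fwd (nat_lit 20480) (Steps.bwd (nat_lit 7) (Steps.bwd (nat_lit 4) (Steps.bwd (nat_lit 6) (Steps.bwd (nat_lit 4) (Steps.bwd (nat_lit 5) (Steps.fwd (nat_lit 24576) (Steps.bwd (nat_lit 4) Steps.nil))))))))) (nat_lit 36) (nat_lit 0),
  Rule.mk (nat_lit 3) (nat_lit 413) (Steps.bwd (nat_lit 4) (Steps.fwd (nat_lit 20480) (Steps.fwd (nat_lit 8192) (Steps.bwd (nat_lit 3) (Steps.bwd (nat_lit 4) (Steps.fwd (nat_lit 20480) (Steps.fwd (nat_lit 8192) (Steps.fwd (nat_lit 12288) (Steps.bwd (nat_lit 4) (Steps.fwd (nat_lit 20480) (Steps.fwd (nat_lit 8192) (Steps.bwd (nat_lit 3) (Steps.fwd (nat_lit 16384) (Steps.fwd (nat_lit 20480) (Steps.fwd (nat_lit 8192) (Steps.bwd (nat_lit 3) (Steps.bwd (nat_lit 4) (Steps.fwd (nat_lit 20480) (Steps.bwd (nat_lit 2) (Steps.bwd (nat_lit 3) (Steps.fwd (nat_lit 16384) (Steps.fwd (nat_lit 20480) (Steps.bwd (nat_lit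 2) (Steps.fwd (nat_lit 12288) (Steps.fwd (nat_lit 16384) (Steps.fwd (nat_lit 20480) (Steps.fwd (nat_lit 8192) (Steps.bwd (nat_lit 3) (Steps.fwd (nat_lit 16384) (Steps.fwd (nat_lit 20480) (Steps.fwd (nat_lit 8192) Steps.nil))))))))))))))))))))))))))))))) (nat_lit 26) (nat_lit 2),
  Rule.mk (nat_lit 4) (nat_lit 127) (Steps.bwd (nat_lit 6) (Steps.fwd (nat_lit 16384) (Steps.bwd (nat_lit 5) (Steps.fwd (nat_lit 24576) (Steps.bwd (nat_lit 4) (Steps.fwd (nat_lit 28672) (Steps.bwd (nat_lit 4) (Steps.fwd (nat_lit 20480) (Steps.fwd (nat_lit 24576) Steps.nil))))))))) (nat_lit 36) (nat_lit 4),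
  Rule.mk (nat_lit 3) (nat_lit 114) (Steps.bwd (nat_lit 4) (Steps.bwd (nat_lit 3) (Steps.bwd (nat_lit 1) (Steps.fwd (nat_lit 16384) (Steps.fwd (nat_lit 12288) (Steps.fwd (nat_lit 16384) (Steps.fwd (nat_lit 12288) (Steps.bwd (nat_lit 4) Steps.nil)))))))) (nat_lit 20) (nat_lit 7),
  Rule.mk (nat_lit 6) (nat_lit 127) (Steps.bwd (nat_lit 4) (Steps.bwd (nat_lit 5) (Steps.bwd (nat_lit 7) (Steps.fwd (nat_lit 16384) (Steps.bwd (nat_lit 6) (Steps.fwd (nat_lit 16384) (Steps.fwd (nat_lit 20480) (Steps.bwd (nat_lit 7) (Steps.bwd (nat_lit 4) Steps.nil))))))))) (nat_lit 36) (nat_lit 0),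
  Rule.mk (nat_lit 3) (nat_lit 114) (Steps.bwd (nat_lit 1) (Steps.bwd (nat_lit 4) (Steps.bwd (nat_lit 3) (Steps.fwd (nat_lit 16384) (Steps.bwd (nat_lit 3) (Steps.fwd (nat_lit 16384) (Steps.bwd (nat_lit 3) (Steps.bwd (nat_lit 4) Steps.nil)))))))) (nat_lit 20) (nat_lit 0),
  Rule.mk (nat_lit 4) (nat_lit 114) (Steps.bwd (nat_lit 1) (Steps.fwd (nat_lit 12288) (Steps.fwd (nat_lit 16384) (Steps.bwd (nat_lit 3) (Steps.bwd (nat_lit 4) (Steps.bwd (nat_lit 3) (Steps.bwd (nat_lit 4) (Steps.fwd (nat_lit 12288) Steps.nil)))))))) (nat_lit 21) (nat_lit 8),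
  Rule.mk (nat_lit 4) (nat_lit 127) (Steps.bwd (nat_lit 6) (Steps.fwd (nat_lit 20480) (Steps.fwd (nat_lit 16384) (Steps.bwd (nat_lit 7) (Steps.fwd (nat_lit 16384) (Steps.fwd (nat_lit 28672) (Steps.fwd (nat_lit 20480) (Steps.fwd (nat_lit 16384) (Steps.fwd (nat_lit 24576) Steps.nil))))))))) (nat_lit 37) (nat_lit 2),
  Rule.mk (nat_lit 4) (nat_lit 127) (Steps.bwd (nat_lit 7) (Steps.bwd (nat_lit 4) (Steps.bwd (nat_lit 6) (Steps.fwd (nat_lit 20480) (Steps.fwd (nat_lit 16384) (Steps.fwd (nat_lit 24576) (Steps.fwd (nat_lit 16384) (Steps.bwd (nat_lit 6) (Steps.fwd (nat_lit 20480) Steps.nil))))))))) (nat_lit 37) (nat_lit 0),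
  Rule.mk (nat_lit 3) (nat_lit 114) (Steps.bwd (nat_lit 4) (Steps.bwd (nat_lit 3) (Steps.bwd (nat_lit 1) (Steps.bwd (nat_lit 4) (Steps.bwd (nat_lit 3) (Steps.fwd (nat_lit 16384) (Steps.fwd (nat_lit 12288) (Steps.bwd (nat_lit 4) Steps.nil)))))))) (nat_lit 20) (nat_lit 7),
  Rule.mk (nat_lit 1) (nat_lit 114) (Steps.bwd (nat_lit 4) (Steps.bwd (nat_lit 3) (Steps.bwd (nat_lit 4) (Steps.fwd (nat_lit 12288) (Steps.fwd (nat_lit 16384) (Steps.bwd (nat_lit 3) (Steps.bwd (nat_lit 4) (Steps.fwd (nat_lit 12288) Steps.nil)))))))) (nat_lit 20) (nat_lit 1),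
  Rule.mk (nat_lit 7) (nat_lit 127) (Steps.bwd (nat_lit 4) (Steps.bwd (nat_lit 6) (Steps.fwd (nat_lit 16384) (Steps.bwd (nat_lit 5) (Steps.fwd (nat_lit 24576) (Steps.fwd (nat_lit 16384) (Steps.fwd (nat_lit 28672) (Steps.bwd (nat_lit 4) (Steps.bwd (nat_lit 5) Steps.nil))))))))) (nat_lit 36) (nat_lit 3),
  Rule.mk (nat_lit 4) (nat_lit 127) (Steps.bwd (nat_lit 7) (Steps.bwd (nat_lit 4) (Steps.fwd (nat_lit 28672) (Steps.fwd (nat_lit 20480) (Steps.fwd (nat_lit 16384) (Steps.bwd (nat_lit 7) (Steps.bwd (nat_lit 4) (Steps.bwd (nat_lit 6) (Steps.bwd (nat_lit 5) Steps.nil))))))))) (nat_lit 37) (nat_lit 0),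
  Rule.mk (nat_lit 1) (nat_lit 140) (Steps.bwd (nat_lit 3) (Steps.fwd (nat_lit 8192) (Steps.bwd (nat_lit 5) (Steps.fwd (nat_lit 24576) (Steps.bwd (nat_lit 2) (Steps.fwd (nat_lit 12288) (Steps.bwd (nat_lit 1) (Steps.fwd (nat_lit 8192) (Steps.fwd (nat_lit 28672) (Steps.bwd (nat_lit 2) Steps.nil)))))))))) (nat_lit 38) (nat_lit 8),
  Rule.mk (nat_lit 3) (nat_lit 75) (Steps.bwd (nat_lit 2) (Steps.fwd (nat_lit 12288) (Steps.bwd (nat_lit 2) (Steps.bwd (nat_lit 3) (Steps.bwd (nat_lit 2) Steps.nil))))) (nat_lit 14) (nat_lit 0),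
  Rule.mk (nat_lit 3) (nat_lit 140) (Steps.bwd (nat_lit 1) (Steps.fwd (nat_lit 8192) (Steps.fwd (nat_lit 28672) (Steps.fwd (nat_lit 8192) (Steps.bwd (nat_lit 1) (Steps.bwd (nat_lit 3) (Steps.bwd (nat_lit 2) (Steps.fwd (nat_lit 20480) (Steps.fwd (nat_lit 24576) (Steps.bwd (nat_lit 2) Steps.nil)))))))))) (nat_lit 38) (nat_lit 3),
  Rule.mk (nat_lit 3) (nat_lit 140) (Steps.bwd (nat_lit 1) (Steps.fwd (nat_lit 8192) (Steps.bwd (nat_lit 6) (Steps.fwd (nat_lit 8192) (Steps.bwd (nat_lit 1) (Steps.fwd (nat_lit 12288) (Steps.bwd (nat_lit 2) (Steps.fwd (nat_lit 20480) (Steps.fwd (nat_lit 24576) (Steps.bwd (nat_lit 2) Steps.nil)))))))))) (nat_lit 38) (nat_lit 3),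
  Rule.mk (nat_lit 1) (nat_lit 140) (Steps.bwd (nat_lit 3) (Steps.fwd (nat_lit 8192) (Steps.fwd (nat_lit 20480) (Steps.bwd (nat_lit 7) (Steps.fwd (nat_lit 8192) (Steps.bwd (nat_lit 3) (Steps.bwd (nat_lit 1) (Steps.fwd (nat_lit 8192) (Steps.bwd (nat_lit 6) (Steps.bwd (nat_lit 2) Steps.nil)))))))))) (nat_lit 38) (nat_lit 8),
  Rule.mk (nat_lit 3) (nat_lit 140) (Steps.bwd (nat_lit 1) (Steps.fwd (nat_lit 8192) (Steps.bwd (nat_lit 6) (Steps.fwd (nat_lit 8192) (Steps.fwd (nat_lit 4096) (Steps.fwd (nat_lit 12288) (Steps.bwd (nat_lit 2) (Steps.bwd (nat_lit 5) (Steps.bwd (nat_lit 7) (Steps.fwd (nat_lit 8192) Steps.nil)))))))))) (nat_lit 38) (nat_lit 3),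
  Rule.mk (nat_lit 1) (nat_lit 75) (Steps.bwd (nat_lit 2) (Steps.bwd (nat_lit 1) (Steps.fwd (nat_lit 8192) (Steps.bwd (nat_lit 1) (Steps.fwd (nat_lit 8192) Steps.nil))))) (nat_lit 10) (nat_lit 1),
  Rule.mk (nat_lit 4) (nat_lit 127) (Steps.fwd (nat_lit 28672) (Steps.fwd (nat_lit 16384) (Steps.fwd (nat_lit 20480) (Steps.bwd (nat_lit 7) (Steps.fwd (nat_lit 16384) (Steps.fwd (nat_lit 28672) (Steps.fwd (nat_lit 16384) (Steps.fwd (nat_lit 20480) (Steps.bwd (nat_lit 7) Steps.nil))))))))) (nat_lit 36) (nat_lit 4),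
  Rule.mk (nat_lit 7) (nat_lit 127) (Steps.bwd (nat_lit 4) (Steps.bwd (nat_lit 6) (Steps.bwd (nat_lit 4) (Steps.fwd (nat_lit 20480) (Steps.fwd (nat_lit 24576) (Steps.bwd (nat_lit 4) (Steps.fwd (nat_lit 28672) (Steps.bwd (nat_lit 4) (Steps.bwd (nat_lit 5) Steps.nil))))))))) (nat_lit 36) (nat_lit 3),
  Rule.mk (nat_lit 4) (nat_lit 127) (Steps.bwd (nat_lit 6) (Steps.bwd (nat_lit 4) (Steps.bwd (nat_lit 5) (Steps.bwd (nat_lit 7) (Steps.fwd (nat_lit 16384) (Steps.fwd (nat_lit 28672) (Steps.fwd (nat_lit 16384) (Steps.bwd (nat_lit 5) (Steps.fwd (nat_lit 24576) Steps.nil))))))))) (nat_lit 36) (nat_lit 4),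
  Rule.mk (nat_lit 4) (nat_lit 114) (Steps.bwd (nat_lit 3) (Steps.bwd (nat_lit 4) (Steps.fwd (nat_lit 12288) (Steps.bwd (nat_lit 1) (Steps.fwd (nat_lit 16384) (Steps.bwd (nat_lit 3) (Steps.fwd (nat_lit 16384) (Steps.fwd (nat_lit 12288) Steps.nil)))))))) (nat_lit 20) (nat_lit 6),
  Rule.mk (nat_lit 4) (nat_lit 127) (Steps.bwd (nat_lit 6) (Steps.bwd (nat_lit 4) (Steps.fwd (nat_lit 20480) (Steps.fwd (nat_lit 24576) (Steps.fwd (nat_lit 16384) (Steps.fwd (nat_lit 28672) (Steps.bwd (nat_lit 4) (Steps.bwd (nat_lit 5) (Steps.bwd (nat_lit 7) Steps.nil))))))))) (nat_lit 36) (nat_lit 4),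
  Rule.mk (nat_lit 4) (nat_lit 127) (Steps.bwd (nat_lit 5) (Steps.bwd (nat_lit 7) (Steps.fwd (nat_lit 16384) (Steps.bwd (nat_lit 6) (Steps.bwd (nat_lit 4) (Steps.bwd (nat_lit 5) (Steps.bwd (nat_lit 7) (Steps.fwd (nat_lit 16384) (Steps.fwd (nat_lit 28672) Steps.nil))))))))) (nat_lit 36) (nat_lit 1),
  Rule.mk (nat_lit 4) (nat_lit 114) (Steps.fwd (nat_lit 12288) (Steps.fwd (nat_lit 4096) (Steps.bwd (nat_lit 4) (Steps.bwd (nat_lit 3) (Steps.bwd (nat_lit 4) (Steps.fwd (nat_lit 12288) (Steps.fwd (nat_lit 16384) (Steps.bwd (nat_lit 3) Steps.nil)))))))) (nat_lit 20) (nat_lit 8),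
  Rule.mk (nat_lit 3) (nat_lit 140) (Steps.bwd (nat_lit 1) (Steps.bwd (nat_lit 2) (Steps.fwd (nat_lit 28672) (Steps.bwd (nat_lit 2) (Steps.bwd (nat_lit 1) (Steps.fwd (nat_lit 12288) (Steps.fwd (nat_lit 8192) (Steps.fwd (nat_lit 20480) (Steps.fwd (nat_lit 24576) (Steps.bwd (nat_lit 2) Steps.nil)))))))))) (nat_lit 38) (nat_lit 3),
  Rule.mk (nat_lit 3) (nat_lit 140) (Steps.bwd (nat_lit 1) (Steps.fwd (nat_lit 8192) (Steps.fwd (nat_lit 28672) (Steps.bwd (nat_lit 2) (Steps.bwd (nat_lit 1) (Steps.fwd (nat_lit 12288) (Steps.fwd (nat_lit 8192) (Steps.bwd (nat_lit 5) (Steps.bwd (nat_lit 7) (Steps.fwd (nat_lit 8192) Steps.nil)))))))))) (nat_lit 38) (nat_lit 3),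
  Rule.mk (nat_lit 2) (nat_lit 322) (Steps.fwd (nat_lit 12288) (Steps.fwd (nat_lit 20480) (Steps.bwd (nat_lit 4) (Steps.fwd (nat_lit 24576) (Steps.fwd (nat_lit 16384) (Steps.bwd (nat_lit 2) (Steps.fwd (nat_lit 12288) (Steps.fwd (nat_lit 4096) (Steps.bwd (nat_lit 2) (Steps.fwd (nat_lit 20480) (Steps.fwd (nat_lit 24576) (Steps.fwd (nat_lit 16384) (Steps.fwd (nat_lit 24576) (Steps.fwd (nat_lit 16384) (Steps.fwd (nat_lit 8192) (Steps.fwd (nat_lit 12288) (Steps.bwd (nat_lit 1) (Steps.bwd (nat_lit 2) (Steps.fwd (nat_lit 16384) (Steps.fwd (nat_lit 28672) (Steps.bwd (nat_lit 4) (Steps.bwd (nat_lit 2) (Steps.fwd (nat_lit 4096) (Steps.bwd (nat_lit 3) Steps.nil)))))))))))))))))))))))) (nat_lit 40) (nat_lit 14),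
  Rule.mk (nat_lit 3) (nat_lit 322) (Steps.bwd (nat_lit 5) (Steps.fwd (nat_lit 16384) (Steps.bwd (nat_lit 7) (Steps.bwd (nat_lit 4) (Steps.fwd (nat_lit 8192) (Steps.fwd (nat_lit 12288) (Steps.bwd (nat_lit 1) (Steps.bwd (nat_lit 2) (Steps.fwd (nat_lit 20480) (Steps.fwd (nat_lit 24576) (Steps.bwd (nat_lit 4) (Steps.fwd (nat_lit 24576) (Steps.fwd (nat_lit 16384) (Steps.bwd (nat_lit 2) (Steps.bwd (nat_lit 3) (Steps.fwd (nat_lit 4096) (Steps.bwd (nat_lit 2) (Steps.fwd (nat_lit 16384) (Steps.bwd (nat_lit 6) (Steps.fwd (nat_lit 16384) (Steps.fwd (nat_lit 8192) (Steps.fwd (nat_lit 4096) (Steps.fwd (nat_lit 12288) (Steps.fwd (nat_lit 8192) Steps.nil)))))))))))))))))))))))) (nat_lit 40) (nat_lit 15),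
  Rule.mk (nat_lit 4) (nat_lit 127) (Steps.bwd (nat_lit 6) (Steps.fwd (nat_lit 16384) (Steps.fwd (nat_lit 20480) (Steps.fwd (nat_lit 24576) (Steps.fwd (nat_lit 16384) (Steps.fwd (nat_lit 28672) (Steps.bwd (nat_lit 4) (Steps.bwd (nat_lit 5) (Steps.bwd (nat_lit 7) Steps.nil))))))))) (nat_lit 36) (nat_lit 4),
  Rule.mk (nat_lit 4) (nat_lit 127) (Steps.bwd (nat_lit 6) (Steps.fwd (nat_lit 16384) (Steps.fwd (nat_lit 20480) (Steps.fwd (nat_lit 24576) (Steps.bwd (nat_lit 4) (Steps.fwd (nat_lit 28672) (Steps.bwd (nat_lit 4) (Steps.fwd (nat_lit 20480) (Steps.bwd (nat_lit 7) Steps.nil))))))))) (nat_lit 36) (nat_lit 4),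
  Rule.mk (nat_lit 4) (nat_lit 114) (Steps.bwd (nat_lit 3) (Steps.fwd (nat_lit 4096) (Steps.fwd (nat_lit 16384) (Steps.bwd (nat_lit 3) (Steps.fwd (nat_lit 16384) (Steps.fwd (nat_lit 12288) (Steps.bwd (nat_lit 4) (Steps.bwd (nat_lit 3) Steps.nil)))))))) (nat_lit 20) (nat_lit 8),
  Rule.mk (nat_lit 2) (nat_lit 322) (Steps.bwd (nat_lit 3) (Steps.fwd (nat_lit 4096) (Steps.fwd (nat_lit 8192) (Steps.bwd (nat_lit 4) (Steps.bwd (nat_lit 6) (Steps.bwd (nat_lit 4) (Steps.bwd (nat_lit 2) (Steps.bwd (nat_lit 1) (Steps.fwd (nat_lit 12288) (Steps.bwd (nat_lit 2) (Steps.fwd (nat_lit 12288) (Steps.bwd (nat_lit 5) (Steps.fwd (nat_lit 16384) (Steps.fwd (nat_lit 24576) (Steps.fwd (nat_lit 16384) (Steps.fwd (nat_lit 8192) (Steps.fwd (nat_lit 12288) (Steps.bwd (nat_lit 1) (Steps.fwd (nat_lit 8192) (Steps.fwd (nat_lit 20480) (Steps.bwd (nat_lit 7) (Steps.bwd (nat_lit 4) (Steps.bwd (nat_lit 7) (Steps.bwd (nat_lit 4) Steps.nil))))))))))))))))))))))))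 (nat_lit 40) (nat_lit 4),
  Rule.mk (nat_lit 5) (nat_lit 413) (Steps.bwd (nat_lit 2) (Steps.bwd (nat_lit 3) (Steps.fwd (nat_lit 16384) (Steps.fwd (nat_lit 20480) (Steps.bwd (nat_lit 2) (Steps.bwd (nat_lit 3) (Steps.fwd (nat_lit 16384) (Steps.fwd (nat_lit 20480) (Steps.bwd (nat_lit 2) (Steps.fwd (nat_lit 12288) (Steps.bwd (nat_lit 4) (Steps.bwd (nat_lit 5) (Steps.fwd (nat_lit 8192) (Steps.fwd (nat_lit 12288) (Steps.bwd (nat_lit 4) (Steps.bwd (nat_lit 5) (Steps.bwd (nat_lit 2) (Steps.fwd (nat_lit 12288) (Steps.fwd (nat_lit 16384) (Steps.fwd (nat_lit 20480) (Steps.fwd (nat_lit 8192) (Steps.fwd (nat_lit 12288) (Steps.fwd (nat_lit 16384) (Steps.bwd (nat_lit 5) (Steps.fwd (nat_lit 8192) (Steps.fwd (nat_lit 12288) (Steps.fwd (nat_lit 16384) (Steps.bwd (nat_lit 5) (Steps.fwd (nat_lit 8192) (Steps.bwd (nat_lit 3) (Steps.bwd (nat_lit 4) Steps.nil))))))))))))))))))))))))))))))) (nat_lit 26) (nat_lit 0),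
  Rule.mk (nat_lit 4) (nat_lit 127) (Steps.bwd (nat_lit 6) (Steps.fwd (nat_lit 16384) (Steps.bwd (nat_lit 5) (Steps.bwd (nat_lit 7) (Steps.fwd (nat_lit 16384) (Steps.fwd (nat_lit 28672) (Steps.bwd (nat_lit 4) (Steps.bwd (nat_lit 5) (Steps.fwd (nat_lit 24576) Steps.nil))))))))) (nat_lit 36) (nat_lit 4),
  Rule.mk (nat_lit 5) (nat_lit 75) (Steps.bwd (nat_lit 4) (Steps.bwd (nat_lit 5) (Steps.bwd (nat_lit 4) (Steps.bwd (nat_lit 5) (Steps.bwd (nat_lit 4) Steps.nil))))) (nat_lit 24) (nat_lit 0),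
  Rule.mk (nat_lit 3) (nat_lit 114) (Steps.bwd (nat_lit 4) (Steps.fwd (nat_lit 12288) (Steps.fwd (nat_lit 4096) (Steps.fwd (nat_lit 16384) (Steps.fwd (nat_lit 12288) (Steps.fwd (nat_lit 16384) (Steps.bwd (nat_lit 3) (Steps.bwd (nat_lit 4) Steps.nil)))))))) (nat_lit 20) (nat_lit 7),
  Rule.mk (nat_lit 7) (nat_lit 127) (Steps.bwd (nat_lit 4) (Steps.fwd (nat_lit 28672) (Steps.fwd (nat_lit 16384) (Steps.fwd (nat_lit 20480) (Steps.bwd (nat_lit 7) (Steps.fwd (nat_lit 16384) (Steps.bwd (nat_lit 6) (Steps.bwd (nat_lit 4) (Steps.bwd (nat_lit 5) Steps.nil))))))))) (nat_lit 36) (nat_lit 3),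
  Rule.mk (nat_lit 3) (nat_lit 114) (Steps.bwd (nat_lit 1) (Steps.fwd (nat_lit 16384) (Steps.fwd (nat_lit 12288) (Steps.bwd (nat_lit 4) (Steps.bwd (nat_lit 3) (Steps.bwd (nat_lit 4) (Steps.bwd (nat_lit 3) (Steps.bwd (nat_lit 4) Steps.nil)))))))) (nat_lit 20) (nat_lit 0),
  Rule.mk (nat_lit 1) (nat_lit 140) (Steps.bwd (nat_lit 3) (Steps.fwd (nat_lit 8192) (Steps.fwd (nat_lit 20480) (Steps.fwd (nat_lit 24576) (Steps.fwd (nat_lit 8192) (Steps.fwd (nat_lit 12288) (Steps.fwd (nat_lit 4096) (Steps.bwd (nat_lit 2) (Steps.bwd (nat_lit 6) (Steps.fwd (nat_lit 8192) Steps.nil)))))))))) (nat_lit 38) (nat_lit 8)]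
noncomputable def R_11 : List (Rule) := [Rule.mk (nat_lit 5) (nat_lit 75) (Steps.bwd (nat_lit 4) (Steps.bwd (nat_lit 5) (Steps.fwd (nat_lit 16384) (Steps.fwd (nat_lit 20480) (Steps.fwd (nat_lit 16384) Steps.nil))))) (nat_lit 24) (nat_lit 0),
  Rule.mk (nat_lit 1) (nat_lit 140) (Steps.bwd (nat_lit 3) (Steps.fwd (nat_lit 8192) (Steps.bwd (nat_lit 5) (Steps.fwd (nat_lit 24576) (Steps.bwd (nat_lit 2) (Steps.bwd (nat_lit 3) (Steps.fwd (nat_lit 4096) (Steps.bwd (nat_lit 2) (Steps.bwd (nat_lit 6) (Steps.bwd (nat_lit 2) Steps.nil)))))))))) (nat_lit 38) (nat_lit 8),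
  Rule.mk (nat_lit 1) (nat_lit 140) (Steps.bwd (nat_lit 3) (Steps.fwd (nat_lit 8192) (Steps.bwd (nat_lit 5) (Steps.fwd (nat_lit 24576) (Steps.bwd (nat_lit 2) (Steps.bwd (nat_lit 3) (Steps.fwd (nat_lit 4096) (Steps.fwd (nat_lit 8192) (Steps.fwd (nat_lit 28672) (Steps.bwd (nat_lit 2) Steps.nil)))))))))) (nat_lit 38) (nat_lit 8),
  Rule.mk (nat_lit 3) (nat_lit 114) (Steps.bwd (nat_lit 4) (Steps.fwd (nat_lit 12288) (Steps.fwd (nat_lit 4096) (Steps.fwd (nat_lit 16384) (Steps.fwd (nat_lit 12288) (Steps.bwd (nat_lit 4) (Steps.bwd (nat_lit 3) (Steps.fwd (nat_lit 16384) Steps.nil)))))))) (nat_lit 20) (nat_lit 7),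
  Rule.mk (nat_lit 4) (nat_lit 127) (Steps.bwd (nat_lit 6) (Steps.bwd (nat_lit 4) (Steps.bwd (nat_lit 5) (Steps.bwd (nat_lit 7) (Steps.bwd (nat_lit 4) (Steps.fwd (nat_lit 28672) (Steps.fwd (nat_lit 16384) (Steps.fwd (nat_lit 20480) (Steps.bwd (nat_lit 7) Steps.nil))))))))) (nat_lit 36) (nat_lit 4),
  Rule.mk (nat_lit 4) (nat_lit 127) (Steps.bwd (nat_lit 6) (Steps.fwd (nat_lit 16384) (Steps.fwd (nat_lit 20480) (Steps.bwd (nat_lit 7) (Steps.fwd (nat_lit 16384) (Steps.fwd (nat_lit 28672) (Steps.bwd (nat_lit 4) (Steps.fwd (nat_lit 20480) (Steps.fwd (nat_lit 24576) Steps.nil))))))))) (nat_lit 36) (nat_lit 4),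
  Rule.mk (nat_lit 7) (nat_lit 127) (Steps.fwd (nat_lit 16384) (Steps.bwd (nat_lit 6) (Steps.bwd (nat_lit 4) (Steps.bwd (nat_lit 5) (Steps.bwd (nat_lit 7) (Steps.bwd (nat_lit 4) (Steps.fwd (nat_lit 28672) (Steps.bwd (nat_lit 4) (Steps.fwd (nat_lit 20480) Steps.nil))))))))) (nat_lit 36) (nat_lit 3),
  Rule.mk (nat_lit 3) (nat_lit 114) (Steps.bwd (nat_lit 4) (Steps.fwd (nat_lit 12288) (Steps.bwd (nat_lit 1) (Steps.fwd (nat_lit 16384) (Steps.fwd (nat_lit 12288) (Steps.bwd (nat_lit 4) (Steps.bwd (nat_lit 3) (Steps.bwd (nat_lit 4) Steps.nil)))))))) (nat_lit 20) (nat_lit 7),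
  Rule.mk (nat_lit 4) (nat_lit 127) (Steps.bwd (nat_lit 6) (Steps.bwd (nat_lit 4) (Steps.fwd (nat_lit 20480) (Steps.fwd (nat_lit 24576) (Steps.bwd (nat_lit 4) (Steps.bwd (nat_lit 6) (Steps.fwd (nat_lit 16384) (Steps.bwd (nat_lit 5) (Steps.fwd (nat_lit 24576) Steps.nil))))))))) (nat_lit 36) (nat_lit 4),
  Rule.mk (nat_lit 1) (nat_lit 140) (Steps.bwd (nat_lit 3) (Steps.fwd (nat_lit 8192) (Steps.fwd (nat_lit 20480) (Steps.fwd (nat_lit 24576) (Steps.fwd (nat_lit 8192) (Steps.fwd (nat_lit 12288) (Steps.fwd (nat_lit 4096) (Steps.bwd (nat_lit 2) (Steps.fwd (nat_lit 28672) (Steps.fwd (nat_lit 8192) Steps.nil)))))))))) (nat_lit 38) (nat_lit 8),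
  Rule.mk (nat_lit 1) (nat_lit 140) (Steps.bwd (nat_lit 3) (Steps.fwd (nat_lit 8192) (Steps.bwd (nat_lit 5) (Steps.bwd (nat_lit 7) (Steps.fwd (nat_lit 8192) (Steps.fwd (nat_lit 12288) (Steps.fwd (nat_lit 4096) (Steps.fwd (nat_lit 8192) (Steps.bwd (nat_lit 6) (Steps.fwd (nat_lit 8192) Steps.nil)))))))))) (nat_lit 38) (nat_lit 8),
  Rule.mk (nat_lit 1) (nat_lit 140) (Steps.bwd (nat_lit 3) (Steps.fwd (nat_lit 8192) (Steps.fwd (nat_lit 20480) (Steps.fwd (nat_lit 24576) (Steps.fwd (nat_lit 8192) (Steps.bwd (nat_lit 3) (Steps.fwd (nat_lit 4096) (Steps.fwd (nat_lit 8192) (Steps.bwd (nat_lit 6) (Steps.fwd (nat_lit 8192) Steps.nil)))))))))) (nat_lit 38) (nat_lit 8),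
  Rule.mk (nat_lit 3) (nat_lit 140) (Steps.bwd (nat_lit 1) (Steps.fwd (nat_lit 8192) (Steps.fwd (nat_lit 28672) (Steps.bwd (nat_lit 2) (Steps.fwd (nat_lit 4096) (Steps.fwd (nat_lit 12288) (Steps.fwd (nat_lit 8192) (Steps.fwd (nat_lit 20480) (Steps.bwd (nat_lit 7) (Steps.bwd (nat_lit 2) Steps.nil)))))))))) (nat_lit 38) (nat_lit 3),
  Rule.mk (nat_lit 1) (nat_lit 140) (Steps.bwd (nat_lit 3) (Steps.fwd (nat_lit 8192) (Steps.bwd (nat_lit 5) (Steps.fwd (nat_lit 24576) (Steps.fwd (nat_lit 8192) (Steps.fwd (nat_lit 12288) (Steps.bwd (nat_lit 1) (Steps.bwd (nat_lit 2) (Steps.bwd (nat_lit 6) (Steps.fwd (nat_lit 8192) Steps.nil)))))))))) (nat_lit 38) (nat_lit 8),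
  Rule.mk (nat_lit 3) (nat_lit 140) (Steps.bwd (nat_lit 1) (Steps.fwd (nat_lit 8192) (Steps.fwd (nat_lit 28672) (Steps.fwd (nat_lit 8192) (Steps.fwd (nat_lit 4096) (Steps.bwd (nat_lit 3) (Steps.fwd (nat_lit 8192) (Steps.fwd (nat_lit 20480) (Steps.bwd (nat_lit 7) (Steps.bwd (nat_lit 2) Steps.nil)))))))))) (nat_lit 38) (nat_lit 3),
  Rule.mk (nat_lit 1) (nat_lit 140) (Steps.bwd (nat_lit 3) (Steps.fwd (nat_lit 8192) (Steps.bwd (nat_lit 5) (Steps.bwd (nat_lit 7) (Steps.bwd (nat_lit 2) (Steps.fwd (nat_lit 12288) (Steps.fwd (nat_lit 4096) (Steps.fwd (nat_lit 8192) (Steps.fwd (nat_lit 28672) (Steps.bwd (nat_lit 2) Steps.nil)))))))))) (nat_lit 38) (nat_lit 8),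
  Rule.mk (nat_lit 3) (nat_lit 140) (Steps.bwd (nat_lit 1) (Steps.fwd (nat_lit 8192) (Steps.bwd (nat_lit 6) (Steps.fwd (nat_lit 8192) (Steps.fwd (nat_lit 4096) (Steps.bwd (nat_lit 3) (Steps.fwd (nat_lit 8192) (Steps.bwd (nat_lit 5) (Steps.fwd (nat_lit 24576) (Steps.bwd (nat_lit 2) Steps.nil)))))))))) (nat_lit 38) (nat_lit 3),
  Rule.mk (nat_lit 1) (nat_lit 140) (Steps.bwd (nat_lit 3) (Steps.fwd (nat_lit 8192) (Steps.bwd (nat_lit 5) (Steps.bwd (nat_lit 7) (Steps.fwd (nat_lit 8192) (Steps.fwd (nat_lit 12288) (Steps.fwd (nat_lit 4096) (Steps.bwd (nat_lit 2) (Steps.fwd (nat_lit 28672) (Steps.fwd (nat_lit 8192) Steps.nil)))))))))) (nat_lit 38) (nat_lit 8),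
  Rule.mk (nat_lit 4) (nat_lit 75) (Steps.fwd (nat_lit 20480) (Steps.fwd (nat_lit 16384) (Steps.bwd (nat_lit 5) (Steps.fwd (nat_lit 16384) (Steps.bwd (nat_lit 5) Steps.nil))))) (nat_lit 24) (nat_lit 1),
  Rule.mk (nat_lit 1) (nat_lit 140) (Steps.bwd (nat_lit 3) (Steps.bwd (nat_lit 2) (Steps.bwd (nat_lit 5) (Steps.bwd (nat_lit 7) (Steps.fwd (nat_lit 8192) (Steps.fwd (nat_lit 12288) (Steps.bwd (nat_lit 1) (Steps.bwd (nat_lit 2) (Steps.fwd (nat_lit 28672) (Steps.fwd (nat_lit 8192) Steps.nil)))))))))) (nat_lit 38) (nat_lit 8),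
  Rule.mk (nat_lit 3) (nat_lit 140) (Steps.bwd (nat_lit 1) (Steps.fwd (nat_lit 8192) (Steps.bwd (nat_lit 6) (Steps.fwd (nat_lit 8192) (Steps.fwd (nat_lit 4096) (Steps.fwd (nat_lit 12288) (Steps.fwd (nat_lit 8192) (Steps.bwd (nat_lit 5) (Steps.bwd (nat_lit 7) (Steps.bwd (nat_lit 2) Steps.nil)))))))))) (nat_lit 38) (nat_lit 3),
  Rule.mk (nat_lit 3) (nat_lit 140) (Steps.bwd (nat_lit 1) (Steps.fwd (nat_lit 8192) (Steps.bwd (nat_lit 6) (Steps.bwd (nat_lit 2) (Steps.fwd (nat_lit 4096) (Steps.bwd (nat_lit 3) (Steps.bwd (nat_lit 2) (Steps.bwd (nat_lit 5) (Steps.fwd (nat_lit 24576) (Steps.bwd (nat_lit 2) Steps.nil)))))))))) (nat_lit 38) (nat_lit 3),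
  Rule.mk (nat_lit 3) (nat_lit 140) (Steps.bwd (nat_lit 1) (Steps.fwd (nat_lit 8192) (Steps.bwd (nat_lit 6) (Steps.fwd (nat_lit 8192) (Steps.fwd (nat_lit 4096) (Steps.fwd (nat_lit 12288) (Steps.bwd (nat_lit 2) (Steps.fwd (nat_lit 20480) (Steps.bwd (nat_lit 7) (Steps.bwd (nat_lit 2) Steps.nil)))))))))) (nat_lit 38) (nat_lit 3),
  Rule.mk (nat_lit 1) (nat_lit 140) (Steps.bwd (nat_lit 3) (Steps.fwd (nat_lit 8192) (Steps.fwd (nat_lit 20480) (Steps.bwd (nat_lit 7) (Steps.bwd (nat_lit 2) (Steps.fwd (nat_lit 12288) (Steps.fwd (nat_lit 4096) (Steps.fwd (nat_lit 8192) (Steps.fwd (nat_lit 28672) (Steps.bwd (nat_lit 2) Steps.nil)))))))))) (nat_lit 38) (nat_lit 8),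
  Rule.mk (nat_lit 3) (nat_lit 140) (Steps.bwd (nat_lit 1) (Steps.fwd (nat_lit 8192) (Steps.fwd (nat_lit 28672) (Steps.fwd (nat_lit 8192) (Steps.bwd (nat_lit 1) (Steps.fwd (nat_lit 12288) (Steps.bwd (nat_lit 2) (Steps.bwd (nat_lit 5) (Steps.fwd (nat_lit 24576) (Steps.bwd (nat_lit 2) Steps.nil)))))))))) (nat_lit 38) (nat_lit 3),
  Rule.mk (nat_lit 3) (nat_lit 140) (Steps.bwd (nat_lit 1) (Steps.fwd (nat_lit 8192) (Steps.fwd (nat_lit 28672) (Steps.fwd (nat_lit 8192) (Steps.bwd (nat_lit 1) (Steps.fwd (nat_lit 12288) (Steps.fwd (nat_lit 8192) (Steps.fwd (nat_lit 20480) (Steps.bwd (nat_lit 7) (Steps.bwd (nat_lit 2) Steps.nil)))))))))) (nat_lit 38) (nat_lit 3),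
  Rule.mk (nat_lit 1) (nat_lit 140) (Steps.bwd (nat_lit 3) (Steps.fwd (nat_lit 8192) (Steps.bwd (nat_lit 5) (Steps.bwd (nat_lit 7) (Steps.fwd (nat_lit 8192) (Steps.fwd (nat_lit 12288) (Steps.fwd (nat_lit 4096) (Steps.bwd (nat_lit 2) (Steps.fwd (nat_lit 28672) (Steps.bwd (nat_lit 2) Steps.nil)))))))))) (nat_lit 38) (nat_lit 8),
  Rule.mk (nat_lit 1) (nat_lit 140) (Steps.bwd (nat_lit 3) (Steps.fwd (nat_lit 8192) (Steps.bwd (nat_lit 5) (Steps.bwd (nat_lit 7) (Steps.fwd (nat_lit 8192) (Steps.bwd (nat_lit 3) (Steps.fwd (nat_lit 4096) (Steps.bwd (nat_lit 2) (Steps.fwd (nat_lit 28672) (Steps.fwd (nat_lit 8192) Steps.nil)))))))))) (nat_lit 38) (nat_lit 8),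
  Rule.mk (nat_lit 4) (nat_lit 127) (Steps.bwd (nat_lit 6) (Steps.bwd (nat_lit 4) (Steps.fwd (nat_lit 20480) (Steps.fwd (nat_lit 24576) (Steps.fwd (nat_lit 16384) (Steps.bwd (nat_lit 6) (Steps.fwd (nat_lit 16384) (Steps.fwd (nat_lit 20480) (Steps.fwd (nat_lit 24576) Steps.nil))))))))) (nat_lit 36) (nat_lit 4),
  Rule.mk (nat_lit 3) (nat_lit 413) (Steps.fwd (nat_lit 16384) (Steps.bwd (nat_lit 5) (Steps.bwd (nat_lit 2) (Steps.bwd (nat_lit 3) (Steps.bwd (nat_lit 4) (Steps.fwd (nat_lit 20480) (Steps.bwd (nat_lit 2) (Steps.bwd (nat_lit 3) (Steps.bwd (nat_lit 4) (Steps.bwd (nat_lit 5) (Steps.bwd (nat_lit 2) (Steps.bwd (nat_lit 3) (Steps.bwd (nat_lit 4) (Steps.fwd (nat_lit 20480) (Steps.fwd (nat_lit 8192) (Steps.bwd (nat_lit 3) (Steps.bwd (nat_lit 4) (Steps.bwd (nat_lit 5) (Steps.fwd (nat_lit 8192) (Steps.bwd (nat_lit 3) (Steps.bwd (nat_lit 4) (Steps.bwd (nat_lit 5) (Steps.bwd (nat_lit 2) (Steps.fwd (nat_lit 12288) (Steps.bwd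 (nat_lit 4) (Steps.fwd (nat_lit 20480) (Steps.fwd (nat_lit 8192) (Steps.bwd (nat_lit 3) (Steps.bwd (nat_lit 4) (Steps.fwd (nat_lit 20480) (Steps.bwd (nat_lit 2) Steps.nil))))))))))))))))))))))))))))))) (nat_lit 26) (nat_lit 2),
  Rule.mk (nat_lit 4) (nat_lit 127) (Steps.bwd (nat_lit 6) (Steps.fwd (nat_lit 16384) (Steps.bwd (nat_lit 5) (Steps.bwd (nat_lit 7) (Steps.fwd (nat_lit 16384) (Steps.bwd (nat_lit 6) (Steps.bwd (nat_lit 4) (Steps.fwd (nat_lit 20480) (Steps.bwd (nat_lit 7) Steps.nil))))))))) (nat_lit 36) (nat_lit 4),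
  Rule.mk (nat_lit 4) (nat_lit 127) (Steps.bwd (nat_lit 6) (Steps.fwd (nat_lit 16384) (Steps.bwd (nat_lit 5) (Steps.fwd (nat_lit 24576) (Steps.fwd (nat_lit 16384) (Steps.bwd (nat_lit 6) (Steps.fwd (nat_lit 16384) (Steps.fwd (nat_lit 20480) (Steps.bwd (nat_lit 7) Steps.nil))))))))) (nat_lit 36) (nat_lit 4),
  Rule.mk (nat_lit 4) (nat_lit 127) (Steps.bwd (nat_lit 6) (Steps.fwd (nat_lit 16384) (Steps.bwd (nat_lit 5) (Steps.bwd (nat_lit 7) (Steps.bwd (nat_lit 4) (Steps.fwd (nat_lit 28672) (Steps.fwd (nat_lit 16384) (Steps.bwd (nat_lit 5) (Steps.fwd (nat_lit 24576) Steps.nil))))))))) (nat_lit 36) (nat_lit 4),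
  Rule.mk (nat_lit 4) (nat_lit 127) (Steps.bwd (nat_lit 6) (Steps.fwd (nat_lit 16384) (Steps.fwd (nat_lit 20480) (Steps.fwd (nat_lit 24576) (Steps.bwd (nat_lit 4) (Steps.bwd (nat_lit 6) (Steps.bwd (nat_lit 4) (Steps.bwd (nat_lit 5) (Steps.fwd (nat_lit 24576) Steps.nil))))))))) (nat_lit 36) (nat_lit 4),
  Rule.mk (nat_lit 4) (nat_lit 114) (Steps.bwd (nat_lit 3) (Steps.fwd (nat_lit 4096) (Steps.fwd (nat_lit 16384) (Steps.fwd (nat_lit 12288) (Steps.bwd (nat_lit 4) (Steps.fwd (nat_lit 12288) (Steps.fwd (nat_lit 16384) (Steps.bwd (nat_lit 3) Steps.nil)))))))) (nat_lit 20) (nat_lit 8),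
  Rule.mk (nat_lit 1) (nat_lit 114) (Steps.bwd (nat_lit 3) (Steps.fwd (nat_lit 16384) (Steps.fwd (nat_lit 12288) (Steps.bwd (nat_lit 4) (Steps.bwd (nat_lit 3) (Steps.fwd (nat_lit 16384) (Steps.fwd (nat_lit 12288) (Steps.bwd (nat_lit 4) Steps.nil)))))))) (nat_lit 21) (nat_lit 0),
  Rule.mk (nat_lit 4) (nat_lit 114) (Steps.bwd (nat_lit 3) (Steps.fwd (nat_lit 4096) (Steps.fwd (nat_lit 16384) (Steps.bwd (nat_lit 3) (Steps.bwd (nat_lit 4) (Steps.bwd (nat_lit 3) (Steps.bwd (nat_lit 4) (Steps.fwd (nat_lit 12288) Steps.nil)))))))) (nat_lit 20) (nat_lit 8),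
  Rule.mk (nat_lit 1) (nat_lit 322) (Steps.bwd (nat_lit 2) (Steps.fwd (nat_lit 20480) (Steps.fwd (nat_lit 24576) (Steps.fwd (nat_lit 16384) (Steps.bwd (nat_lit 7) (Steps.fwd (nat_lit 16384) (Steps.bwd (nat_lit 2) (Steps.fwd (nat_lit 12288) (Steps.bwd (nat_lit 1) (Steps.fwd (nat_lit 8192) (Steps.fwd (nat_lit 16384) (Steps.bwd (nat_lit 6) (Steps.fwd (nat_lit 16384) (Steps.bwd (nat_lit 2) (Steps.bwd (nat_lit 1) (Steps.fwd (nat_lit 12288) (Steps.fwd (nat_lit 8192) (Steps.bwd (nat_lit 3) (Steps.bwd (nat_lit 5) (Steps.fwd (nat_lit 16384) (Steps.bwd (nat_lit 7) (Steps.bwd (nat_lit 4) (Steps.fwd (nat_lit 8192) (Steps.fwd (nat_lit 12288) Steps.nil)))))))))))))))))))))))) (nat_lit 40) (nat_lit 22),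
  Rule.mk (nat_lit 3) (nat_lit 322) (Steps.bwd (nat_lit 2) (Steps.fwd (nat_lit 16384) (Steps.fwd (nat_lit 28672) (Steps.fwd (nat_lit 16384) (Steps.bwd (nat_lit 6) (Steps.bwd (nat_lit 5) (Steps.bwd (nat_lit 2) (Steps.bwd (nat_lit 1) (Steps.fwd (nat_lit 12288) (Steps.fwd (nat_lit 8192) (Steps.bwd (nat_lit 4) (Steps.bwd (nat_lit 6) (Steps.bwd (nat_lit 4) (Steps.fwd (nat_lit 20480) (Steps.bwd (nat_lit 3) (Steps.bwd (nat_lit 2) (Steps.bwd (nat_lit 3) (Steps.fwd (nat_lit 4096) (Steps.fwd (nat_lit 8192) (Steps.fwd (nat_lit 16384) (Steps.bwd (nat_lit 7) (Steps.bwd (nat_lit 4) (Steps.fwd (nat_lit 8192) (Steps.fwd (nat_lit 4096) Steps.nil)))))))))))))))))))))))) (nat_lit 41) (nat_lit 21),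
  Rule.mk (nat_lit 7) (nat_lit 49) (Steps.fwd (nat_lit 24576) (Steps.fwd (nat_lit 4096) (Steps.bwd (nat_lit 3) Steps.nil))) (nat_lit 29) (nat_lit 3),
  Rule.mk (nat_lit 6) (nat_lit 49) (Steps.fwd (nat_lit 12288) (Steps.fwd (nat_lit 24576) (Steps.bwd (nat_lit 3) Steps.nil))) (nat_lit 32) (nat_lit 3),
  Rule.mk (nat_lit 4) (nat_lit 114) (Steps.bwd (nat_lit 3) (Steps.fwd (nat_lit 4096) (Steps.fwd (nat_lit 16384) (Steps.bwd (nat_lit 3) (Steps.fwd (nat_lit 16384) (Steps.bwd (nat_lit 3) (Steps.fwd (nat_lit 16384) (Steps.fwd (nat_lit 12288) Steps.nil)))))))) (nat_lit 20) (nat_lit 8),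
  Rule.mk (nat_lit 1) (nat_lit 114) (Steps.bwd (nat_lit 3) (Steps.fwd (nat_lit 16384) (Steps.fwd (nat_lit 12288) (Steps.bwd (nat_lit 4) (Steps.bwd (nat_lit 3) (Steps.fwd (nat_lit 16384) (Steps.bwd (nat_lit 3) (Steps.bwd (nat_lit 4) Steps.nil)))))))) (nat_lit 21) (nat_lit 0),
  Rule.mk (nat_lit 4) (nat_lit 127) (Steps.fwd (nat_lit 20480) (Steps.bwd (nat_lit 7) (Steps.fwd (nat_lit 16384) (Steps.fwd (nat_lit 28672) (Steps.bwd (nat_lit 4) (Steps.bwd (nat_lit 5) (Steps.fwd (nat_lit 24576) (Steps.fwd (nat_lit 16384) (Steps.bwd (nat_lit 6) Steps.nil))))))))) (nat_lit 36) (nat_lit 1),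
  Rule.mk (nat_lit 3) (nat_lit 140) (Steps.bwd (nat_lit 1) (Steps.fwd (nat_lit 8192) (Steps.bwd (nat_lit 6) (Steps.fwd (nat_lit 8192) (Steps.bwd (nat_lit 1) (Steps.fwd (nat_lit 12288) (Steps.fwd (nat_lit 8192) (Steps.fwd (nat_lit 20480) (Steps.bwd (nat_lit 7) (Steps.fwd (nat_lit 8192) Steps.nil)))))))))) (nat_lit 38) (nat_lit 3),
  Rule.mk (nat_lit 1) (nat_lit 140) (Steps.bwd (nat_lit 3) (Steps.fwd (nat_lit 8192) (Steps.fwd (nat_lit 20480) (Steps.fwd (nat_lit 24576) (Steps.fwd (nat_lit 8192) (Steps.fwd (nat_lit 12288) (Steps.bwd (nat_lit 1) (Steps.bwd (nat_lit 2) (Steps.fwd (nat_lit 28672) (Steps.fwd (nat_lit 8192) Steps.nil)))))))))) (nat_lit 38) (nat_lit 8),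
  Rule.mk (nat_lit 2) (nat_lit 75) (Steps.bwd (nat_lit 3) (Steps.bwd (nat_lit 2) (Steps.fwd (nat_lit 12288) (Steps.bwd (nat_lit 2) (Steps.fwd (nat_lit 12288) Steps.nil))))) (nat_lit 14) (nat_lit 1),
  Rule.mk (nat_lit 3) (nat_lit 114) (Steps.bwd (nat_lit 4) (Steps.fwd (nat_lit 12288) (Steps.bwd (nat_lit 4) (Steps.bwd (nat_lit 3) (Steps.fwd (nat_lit 4096) (Steps.fwd (nat_lit 16384) (Steps.fwd (nat_lit 12288) (Steps.fwd (nat_lit 16384) Steps.nil)))))))) (nat_lit 20) (nat_lit 5),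
  Rule.mk (nat_lit 4) (nat_lit 114) (Steps.fwd (nat_lit 12288) (Steps.fwd (nat_lit 4096) (Steps.fwd (nat_lit 16384) (Steps.bwd (nat_lit 3) (Steps.bwd (nat_lit 4) (Steps.fwd (nat_lit 12288) (Steps.bwd (nat_lit 4) (Steps.bwd (nat_lit 3) Steps.nil)))))))) (nat_lit 20) (nat_lit 8),
  Rule.mk (nat_lit 0) (nat_lit 127) (Steps.bwd (nat_lit 4) (Steps.fwd (nat_lit 12288) (Steps.bwd (nat_lit 4) (Steps.bwd (nat_lit 3) (Steps.bwd (nat_lit 4) (Steps.fwd (nat_lit 12288) (Steps.bwd (nat_lit 4) (Steps.fwd (nat_lit 12288) (Steps.fwd (nat_lit 4096) Steps.nil))))))))) (nat_lit 20) (nat_lit 1),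
  Rule.mk (nat_lit 0) (nat_lit 49) (Steps.fwd (nat_lit 16384) (Steps.bwd (nat_lit 0) (Steps.fwd (nat_lit 16384) Steps.nil))) (nat_lit 42) (nat_lit 0),
  Rule.mk (nat_lit 0) (nat_lit 49) (Steps.fwd (nat_lit 16384) (Steps.bwd (nat_lit 0) (Steps.bwd (nat_lit 4) Steps.nil))) (nat_lit 42) (nat_lit 0),
  Rule.mk (nat_lit 0) (nat_lit 49) (Steps.fwd (nat_lit 8192) (Steps.bwd (nat_lit 0) (Steps.bwd (nat_lit 2) Steps.nil))) (nat_lit 42) (nat_lit 0),
  Rule.mk (nat_lit 0) (nat_lit 62) (Steps.bwd (nat_lit 0) (Steps.fwd (nat_lit 16384) (Steps.fwd (nat_lit 0) (Steps.bwd (nat_lit 4) Steps.nil)))) (nat_lit 42) (nat_lit 0),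
  Rule.mk (nat_lit 0) (nat_lit 62) (Steps.bwd (nat_lit 2) (Steps.fwd (nat_lit 0) (Steps.bwd (nat_lit 2) (Steps.fwd (nat_lit 0) Steps.nil)))) (nat_lit 42) (nat_lit 0),
  Rule.mk (nat_lit 0) (nat_lit 62) (Steps.fwd (nat_lit 8192) (Steps.bwd (nat_lit 0) (Steps.fwd (nat_lit 8192) (Steps.fwd (nat_lit 0) Steps.nil)))) (nat_lit 42) (nat_lit 0),
  Rule.mk (nat_lit 0) (nat_lit 62) (Steps.bwd (nat_lit 0) (Steps.bwd (nat_lit 4) (Steps.fwd (nat_lit 0) (Steps.bwd (nat_lit 4) Steps.nil)))) (nat_lit 42) (nat_lit 0),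
  Rule.mk (nat_lit 0) (nat_lit 62) (Steps.bwd (nat_lit 0) (Steps.bwd (nat_lit 5) (Steps.fwd (nat_lit 0) (Steps.bwd (nat_lit 5) Steps.nil)))) (nat_lit 42) (nat_lit 0),
  Rule.mk (nat_lit 0) (nat_lit 62) (Steps.bwd (nat_lit 0) (Steps.bwd (nat_lit 1) (Steps.fwd (nat_lit 0) (Steps.bwd (nat_lit 1) Steps.nil)))) (nat_lit 42) (nat_lit 0),
  Rule.mk (nat_lit 0) (nat_lit 62) (Steps.bwd (nat_lit 0) (Steps.bwd (nat_lit 6) (Steps.fwd (nat_lit 0) (Steps.bwd (nat_lit 7) Steps.nil)))) (nat_lit 42) (nat_lit 0),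
  Rule.mk (nat_lit 0) (nat_lit 62) (Steps.bwd (nat_lit 0) (Steps.fwd (nat_lit 24576) (Steps.fwd (nat_lit 0) (Steps.bwd (nat_lit 6) Steps.nil)))) (nat_lit 42) (nat_lit 0),
  Rule.mk (nat_lit 0) (nat_lit 62) (Steps.bwd (nat_lit 0) (Steps.fwd (nat_lit 4096) (Steps.fwd (nat_lit 0) (Steps.fwd (nat_lit 4096) Steps.nil)))) (nat_lit 42) (nat_lit 0),
  Rule.mk (nat_lit 0) (nat_lit 62) (Steps.bwd (nat_lit 0) (Steps.fwd (nat_lit 20480) (Steps.fwd (nat_lit 0) (Steps.fwd (nat_lit 20480) Steps.nil)))) (nat_lit 42) (nat_lit 0),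
  Rule.mk (nat_lit 0) (nat_lit 62) (Steps.bwd (nat_lit 0) (Steps.bwd (nat_lit 4) (Steps.bwd (nat_lit 0) (Steps.fwd (nat_lit 16384) Steps.nil)))) (nat_lit 42) (nat_lit 0)]
noncomputable def R_12 : List (Rule) := [Rule.mk (nat_lit 0) (nat_lit 62) (Steps.bwd (nat_lit 2) (Steps.bwd (nat_lit 0) (Steps.bwd (nat_lit 2) (Steps.fwd (nat_lit 0) Steps.nil)))) (nat_lit 42) (nat_lit 0),
  Rule.mk (nat_lit 0) (nat_lit 62) (Steps.bwd (nat_lit 0) (Steps.fwd (nat_lit 12288) (Steps.fwd (nat_lit 0) (Steps.fwd (nat_lit 12288) Steps.nil)))) (nat_lit 42) (nat_lit 0),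
  Rule.mk (nat_lit 0) (nat_lit 62) (Steps.bwd (nat_lit 0) (Steps.bwd (nat_lit 2) (Steps.fwd (nat_lit 0) (Steps.bwd (nat_lit 2) Steps.nil)))) (nat_lit 42) (nat_lit 0),
  Rule.mk (nat_lit 0) (nat_lit 62) (Steps.bwd (nat_lit 0) (Steps.fwd (nat_lit 4096) (Steps.fwd (nat_lit 0) (Steps.bwd (nat_lit 1) Steps.nil)))) (nat_lit 42) (nat_lit 0),
  Rule.mk (nat_lit 0) (nat_lit 62) (Steps.bwd (nat_lit 0) (Steps.bwd (nat_lit 4) (Steps.bwd (nat_lit 0) (Steps.bwd (nat_lit 4) Steps.nil)))) (nat_lit 42) (nat_lit 0),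
  Rule.mk (nat_lit 0) (nat_lit 62) (Steps.bwd (nat_lit 1) (Steps.bwd (nat_lit 0) (Steps.bwd (nat_lit 1) (Steps.fwd (nat_lit 0) Steps.nil)))) (nat_lit 42) (nat_lit 0),
  Rule.mk (nat_lit 0) (nat_lit 62) (Steps.bwd (nat_lit 0) (Steps.fwd (nat_lit 16384) (Steps.fwd (nat_lit 0) (Steps.fwd (nat_lit 16384) Steps.nil)))) (nat_lit 42) (nat_lit 0),
  Rule.mk (nat_lit 0) (nat_lit 62) (Steps.bwd (nat_lit 0) (Steps.bwd (nat_lit 3) (Steps.fwd (nat_lit 0) (Steps.bwd (nat_lit 3) Steps.nil)))) (nat_lit 42) (nat_lit 0),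
  Rule.mk (nat_lit 0) (nat_lit 62) (Steps.bwd (nat_lit 0) (Steps.bwd (nat_lit 5) (Steps.fwd (nat_lit 0) (Steps.fwd (nat_lit 20480) Steps.nil)))) (nat_lit 42) (nat_lit 0),
  Rule.mk (nat_lit 0) (nat_lit 62) (Steps.bwd (nat_lit 5) (Steps.bwd (nat_lit 0) (Steps.fwd (nat_lit 20480) (Steps.fwd (nat_lit 0) Steps.nil)))) (nat_lit 42) (nat_lit 0),
  Rule.mk (nat_lit 0) (nat_lit 62) (Steps.fwd (nat_lit 20480) (Steps.bwd (nat_lit 0) (Steps.bwd (nat_lit 5) (Steps.fwd (nat_lit 0) Steps.nil)))) (nat_lit 42) (nat_lit 0),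
  Rule.mk (nat_lit 0) (nat_lit 62) (Steps.bwd (nat_lit 0) (Steps.fwd (nat_lit 20480) (Steps.fwd (nat_lit 0) (Steps.bwd (nat_lit 5) Steps.nil)))) (nat_lit 42) (nat_lit 0)]
noncomputable def R : List (List (Rule)) := [R_0, R_1, R_2, R_3, R_4, R_5, R_6, R_7, R_8, R_9, R_10, R_11, R_12]
def LW : List Word := [[], [0], [2], [4], [6], [8], [10], [11], [0], [1], [2], [3], [4], [5], [6], [7], [8], [9]]
def par : Par := ⟨12, 5, 17, 29, 4095, 131071, 536870911⟩
theorem hpar : par.ok := by decide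
theorem hR0_0 : lall (R) (fun l => lall l (ruleOK RG LW par)) = true := by decide +kernel
theorem hR0 : lall (R) (fun l => lall l (ruleOK RG LW par)) = true := hR0_0
theorem hR : RulesOK RG LW par R := rulesOK_of rfl hR0
def cols : List (ℕ × ℕ) := [(4096, 1), (8192, 2), (12288, 3), (16384, 4), (20480, 5), (24576, 7)]
theorem hcols : lall cols (colOK RG LW par) = true := by decide +kernel
noncomputable def JS0 : List ℕ := [nat_lit 0x23991cc4143998008e60099cc800273002ce647303978240003989cbc0b3981cc4e5e089cc8e6c7310340040033990160013999cc40a398800ce62020000e62730004e62739007003401873b0069ce4e62730040e667340039cc0e5e039cbc00872f014e6073239781a731003802ce7000d0071ce000e73139801e7310041cc40e3991cd8e62069cc800e7320300060043988160023991cc00a3988008e5e049cbc00872f01000072f39700272f003001c014009005802800c72f39701072d3970010e5c72d01ce5800039600c72c0001cb005396000ce58021cac00872b00ce540053950040020021ca401,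
  nat_lit 0xb00384874539e9cf02339e8000e78110000e8400908400200039d8180010031cec200011cf0e760a1cf400473a04ce7800139d01673c39d1ce4120001cece72059ce8e78739044e7600039d00c0230061cec1f39d0020e740f005400473a010e7c00339c80473a39c9ce01d3a1000ce70021ce800273700c00673739b0387390011cd81b3a0000ce6a030008e980243a600081a00080180080c9ccc00074a3a7809ce9e0223a51ce81839c8000e640b9cdc00073205ce6800039902e0013a300840460220109d1800273205800a7343990247370011cc415,
  nat_lit 0x8008e8c199d3ce907450c8e8c7483a284e7460019d14273a29de80a277a3a28620030021d140b0029d18e88091d240047430540047443a18287450011d08133a20004e84059d10e847410480007433a08167423a19d04113a200f4e86071d10ee404a3b91d10313a48000e880a9d1800074402c0007463a20167453a31d10110059d24e8c18005ce927450bc01c00b3a205c0030009d0c2d005000ce86161d100067420ace8c0033a085400e3a09d00290081d1ce80140008e8a73f09c00c74339f04c0013a09d0025,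
  nat_lit 0x3a41e5c0d87973a406274a0009d24273a49e580de7963a486274e0001d24153a58000e92058000e9674902ce9474b3a482274c3a69d2c0d3a71d3ce9a068000eaa7580e80020003a70180010031d38200011d3ce9c0a1d4000474d04ce9e0013a681674f3a69d30120001d38e98059d34e9e74c044e9c74f3a686475602d1d38393ac9d54e9c1c1d3c00e74d0dc00400c3a604a0040029d2c360078008e960b8014e9674a08c00a0013a486a0110011d24040028008e901a1d24e90747074ea00023a38080033a39d181c,
  nat_lit 0x1f1c0000051081367c23da1d3c00074f0408200eaa209d38f667c104d8268f827b33a70800010001d383f3a7817ce9c029d3cf6008b3d01d383e3a81d4ce9e069d440c8750014ea27ae0441e7cea01e8024ea87510c0ebc7543a80780020009d3c2d0048008e9e161d4000474e0ac01c74e3a68527593aa1d343b0011d48e98138018ea074b09800274e3a684a000005801c243a91d28e92119d2800074908800074f3a90740010001d200c0008018e90100008e92748050e940023a38267490009d1c0b3a49d1ce8c090000e9074602ce8e7493a30227483a49d1c32,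
  nat_lit 0x1da80247691540020003b50a876e3b91da80d0020008ed4021da400076900c0000010000427693b500381240940071da8ed276814ced001a3b40060190001d9c0100c1d9cf987da0599f68f98767148eda00614410c00a14010c00913c10c00813410000814010200713c0fe0061340f400600a88c08c0030987bc00289c08900209a08a0020980810021ed04b04200100ee251ebc00a00f124f760050428907b900202184703f000c0f4231ee4004085114f72001110f880013ab8867c40009d5c43,
  nat_lit 0x3ba004419e0113ba0ce7753bb9dd00d3bb1f68eea331ddcef2776034ef00963bb80a77c3c71de00d3bc0050ef0328004ef0777190ef00123bb0127760089dd8030001dd8eea009dd4eec7da3fb8330fec0060000c60053fa832cfec7d93ba8038ee8311dd400630820400a261f1c00a301f0c00a2f80100fa0043b88bc7c60020ba7c60020887d000201ec48048800cf822e02540047bd16c1200013e08b47cf0001f04593f40000ed42182f4fd07cb3b38000ece08e0469da4583b31f28fce7eb05e1f9cf9476615ced20043b401c7690081dcc00a768158ed409c3b480a76b0059da805,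
  nat_lit 0x7f00009f445940b0004ede21a05800276f10d0320000030840ee40d1facece0003b3829814a76d160ecc7ea40c83b81da8193f51d986e04b02301047673b30da0010001d943f3b30204eca029d98fcc0e43ea9d943e3b39dacecc069f6c10e7d43b41d9c6c0008000ecc031d9c108766014ece7e206f9f48ecc1e9db0ef076b034edc78b3b601a76d05480710200e34039ee8f7076c1acede7853b681a76e05402e501e0e3405824cfaa76d1a8ede77f3b701a7713b99dbc0d3b81f9013c80c407a020fa67cc3b78d27713f19dc0663b91e68ee2069dd0eee772034ee67e600aa01d0147fe0341ec0ee4341dd0eec773034eea0a83ba00a7770071dd41e3ba82880560a23ba8ce7750501dd066,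
  nat_lit 0x1ebc1c87ad0001dfc7501c0000efe06002c1767810001dfc563c0003906a84108b20f80967ac3bf8e87810049e00553c082e0f00029e14f12781034f0201d3c08ca0013c09e00643c0806cefe049dfc03477f00c00077f3bf00277e3bfa00d064106416002c000318029056105418a008efc0173be8c479e00289c78e00289c01a0048e67830048a20900048987db0048c07f10048230720520020fa8389f5400e2f80181140061c0fb0006174fb0006110f9c0060088de7cc0028048493f9001410c2402ac0087d11701440033e68b60aa0011f445a,
  nat_lit 0x11e0cf00061e0409e7801ecf027d807c1ef0f00189e0405e85509704c50bc06a3eb9e00823c100a8f022a9e1c04e7830781b20290579e10f064080040007820fcf060ae3c100a7830170470ff8782200f6004c3dd1e10f063f8020000782038f100483c10720090041e10f067821f80060003c08720010001e047d3c19e1cf023c0004f067b541683f105a8293d51e047c0011e0cf00061e040847801ecf027a74131ec8f00189e05030849090214109a0df3d31e007a3c11ebcf022a9e0817878101401800b0010004f043c8024f047811e0f047873c083c7890031e04053d780fcf640013c08ac7823c09e007701e0004f000f9e1017c80600ba01801c0023c09e0076,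
  nat_lit 0x3680047d616904c0013eb0b283e0009f5c594270004f0a21a13800278510c28c00000110e14843ba0e0f020003c083a01ce783160f0083743b21e028e87641b9e00573c08120f00071e080b8781038f0601b3c101c00c00580080027831e40127833c10f07833c41e081e3c50018f04029f400e47e60009e08563c19e08f023b81bc00278107cf0a83607803c41e07ce0011e08f02431f8d0927ce0001e005602f0000f00061f2d0667820001e00753c083c10d01400a221b109a7e03c010a7823e49e04553c120c0f02331f800d47c33c19e08840038000f02071e1c0a87810e40060003c08720010001e047d3c19e1cf023c0004f067bf07d01b41f40fb3ed9e0483,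
  nat_lit 0x3be8004ef61020c0ef677a0940000e03bd0400e10001de8013be0004ef41a1df0ef477908c00077b3bc86877a06e9de4093be9df8ef6069df10620e0447224509a7983ca1dec693bf1f00efa069e081c4781014f0e7bf3c101a7990001e101e006a18c2b888941b9e14000784188f08836444056d0c400d41b1e10883c403d8f081c800c002784010f0a7843c183a7860001e0c043c39e10f06191e14f0c784044f1878b3c38700020001e1c043c58000f0e021e30f107870c8f1478b3c48227dd0018be7da0018ba7da0018887db0018880df0019f645b,
  nat_lit 0x378f0a0b9e1c000785054f0c84807786381a00cf4190050f2a785238f0a847078211cf0a038000f10787094f1a7853c20460003c5a1143a0008000f0806000400a7840800027853c20287860009e0c133c31e10f06090000f0a78302cf087863c182278541e9e103200702bd04a15944b060516818f0c886403241930c906503261910c7a2d03020c3061209415a78523400078a0078a87880021e10200568008f06321e0c0007820540000ab0001140010011e048c0019e04f0019029cf027800bcefe0003bf85c77f0521dfc033bf8010efc45800000677d044efa0003be91400005000008a04f8000ef600a05027e8330009dec89,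
  nat_lit 0x1e5400079305c0020fc3c982e0023cb1e4c0b0019e54f24048004f2a7920d0f267943c88027930011e443643084350da7ba01e80a0f5c02e0001e449a0189e7c0047923c893285f0cd218400479126000001400612e79b0011e40343ce0000f1e4b005000278f254f300003c7128000000803c2800083b8f1a498014f1c78d050f260053c602679e0000ba0100001e7492076216c31e0fd42a1e3800c0080021e3505a7a33d1002000200042a03f431e85b07683b81d601000712278f0009e240b0021e24f10091e3000678802c0080003c403c0030009e2509e0f007ba32519c1a60d4069c3521a80d3233919219606c035d0740c506220a0f10481e2109c0f14271e20073c41e24f0e479e2c1c27860180007893cc8a87870001e1417,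
  nat_lit 0x15000e541f5400c22016c00c05829c0b60051341e60061cc37e0074770b812700306cc4a47700145d02500140985303d400804727408e0031350be00342f14a8860010a21c3001221c42433000c0825206500061341191aa00209a1468820008a21960000144a243700050d45083c00003983bc0000ef08283bc00050219c25c8763de80010ec12e43393e01b00009e7bb0009ee89e43680046143900050d42184480021012750f000007f8841170cda1a8f2a00000080d80700313db837d0ae0f407a86cc3388cf0cd845d0e610400a9ed4206868270f2a7963ca11e00000400d89b,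
  nat_lit 0x224438a0300e404c43de12d0dd226cf9e58800cfa07cf08c0028900942240002581f380027ce0080027f03e68467ef0001fbc02446226805a89a44607a0420020108af027815c0005700e000a2780e400a221f2c00a541f380082880dc0085500e40103981440160332b4f9a00a3e395803a00480dcab3eb002006824a3e80105504dc00e2e9f8c018551f84016281f400140302a40c20091351f400b18039200a13d11e0094469488f2004a3c0a70de002050098001c5d474801873,
  nat_lit 0x45807851500033ef9708bb0eaa2980067de224fc40003ee96e000099801cb60028008fb83280140007db19000a0013ed96a0020001f68330001f6c25c5a000025a7d905c0020003ec86c89c0e522980027d92611381cc4578004fb0449f680027d802cfc27d83eb84a0013f01f5c3700084acfae5d1f7801c7d62e40020003eb06c8a90eb22940067d62e11381c9451800cfaa449f640007d42dc00012b00396c0050011f4c650028000fa43200140027d22d40040003e88660003e90498b40000494fa00b80040007d00d91328fd44e9f44fa059a2652048920001f3cb2,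
  nat_lit 0xfea8e1101a328fe8189fcc0c47f30e4fe61783f985c7f20381fc83940b8214fe41002301207f102c1228193f802481c0471fbc090530114fde3e80bc0587ef24c06002c3f70ca02e3ff9fb41201900a8fd80a806002a7ec24c0320153f58ca0173f89fa81200d804cfd20a80140467e905c03e0213f40680070059f9c1d005807cfcc1a801002e7e602c0307ef3f282402800a9f9015001852cfc80b9fb00287e30700240133f102200200b1f8825002000cfc21b1fa00087e105c0260013f00440130009f7c35,
  nat_lit 0x280402c0008054020028050c38050022007003000d00e009402184803004003401080330505800340200800b402200c23000816c0025780010540c706b236c01a006402a008c0414801d00202200000e80000800e8033ff84680c05982b40027ff2f10007ff3ff0ee8340009ff80500020d000c0c82a80cc0bf0001ff4bf4220008ffa021ff00007fc00800005300017c1690b5a33c0027fb2f4ff87fb3fd0ee15e0001fe81f46688242ea0003fd1781700029fe80c3fc8008ff23280200047f8190ff00003fb82a00000300008a0008008fec4605a4fec7f52ecfee8e13fa85e7f40b49fd02e,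
  nat_lit 0x204000080f0750208bf407998000008005906081132c01a04403e800102265007c0008110e403e02600c204902264a04d04281203400a01040997481d40f20488b40ca06d02264004d0388102e502c00540818e002408a03c25409000d01c1b205c03880e31800a81240692c005407a03001000003003262a04400280b03000480b405024810001a0280c406202901262000804602047e01b40d806b41d80c501261a02006006d0182020c1407004900e19000101c81a150002000403018001007a01893001201d00c0a202000480504d00e001402816002402a01012,
  nat_lit 0x208c2b010800400081c03000200640e04000240ea0701440f000903609a07400281b02d03a81b40d02400040e20680b40da07503408a07029e81b01801c81e40e1a481e003206c8c41000190346880080008190c800800c40c926011006206037007803502e67a08001481634103015040b190818002a05435000002919e62801c00481403102a00040999e0010a5a04ccc40c051d0241900010308ca09800200040899c0020a22044934088000008642040000813335184000407918812408203c1d,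
  nat_lit 0x414a0ad05008a0a82de82901800c82b41507016e001a0a40b005800505067803800282702401800341386016e001a0982e006a09904a6b000c00a82534801c82a4121aa8eb005a08c8f00205a50460b80290528220d10528e8410846825413a08001000a08904005800904281f05400215f40f9a88240afa0780600020882c213207c00081d33800015c40e84081e0002074d3000207d03a1520791ba81d3482bc82240f05e823000a0782a0ae209503c14001104481d09800000a00304882540ea07023,
  nat_lit 0x4a1002106a47800c38283505c00e83a41a06883a49fa0cc2341b20e10640080010668320540008360de04c83300020c4ce00006dd0621020c800083134c00083341885483249ba0c4d200420d506418060d06a8310bc01600841805c00200020bc2d418800905e15a0cc00482e0a801882e416852001419a0b427002a0c505813000001600709106882c41584682c00020ac2200020c42f010800400082a030002006415040002415a0a814416000905209a0ac00282902d05682941402400041520a00b,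
  nat_lit 0x42100010826980010868410a908421742082800b422a108300eca1150821780380168400b800600141f85a00a001a0fc2c420000d07c15a10800683d0a801c83d41e0521d2421a0f028001210507613801907e83a09800283d41e04a000005801c24420a0e507011a0e400083808800083e0e584200100020dc0c000801906e10000907083705107200241b026838000a0d80b41c20d906a09000106e83502d06c83841a8228370e120d80600120e106e1c070400083602c38800141b05c00200220d8d2,
  nat_lit 0xfda13d0981787e90a684c0a000084f42704a854426212c2300021483ee10800400084b030002005425840001426212c14426800509409a13509684a04800084c42501684b426a1281142607bd09603001509a84c0e001400142599e00d000a12809005800d0941807c00068490e80188494241ac0030022120d2006a13508e6a88900148463440061eb423174009426211434424a12d08800800508c84402c00484542182a0014b2a10ccc424079108403000108c1e42f908600042099c0000f0a10420,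
  nat_lit 0x5002d0bc09006d0d085d0250c600a42e83800243021701d00600210b65c800c01885b08001285f42d04a011004a164d000180490b21a21800228580050b200342c04000842ea15c3700721710ac1b00050b28580940000e742d15c00942aa1501d42a80010a81100010b08e30e90aa000429840000071214c2042a00210a61a83640000d936c1ae00106b9b80dd0000374db46b80001d000046b9b48510000880db0008010464280000444d38b904a02e44d3a13000284d4279b284b4d30b8c49e2e34d3212c0006c212d3582e4177a8a05c49a54251ae84c46aa12c32,
  nat_lit 0x6802d0de67a1e001086e3410e0230437046870001a1b435000002136062801400086c0310e49ad43606400043926b42600080010d667000935486b24d0d600000219086a00021b4cd13480010d209a1b10d48690750d400043483a86a13321a4d400021b53a41640df03fd1fa8fe4351be86c081a1a40443400950d00100881f486732000002343300200100203fcde43283e03461c013324f81f28f64329ba00307ba1902043180750c66e218c00486300803886343104600100021840143080690c201005d24a86032000a8f6430040009435217c0b,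
  nat_lit 0x43e80010f86980010fc87c0a90fa29043e02800b44021f4304e522010f81e003801687b0b800600143d05a00a001a1e82c43d800d0f215a1f40068780a801c87843b8529c343f21dc3b00121f10ec1380190f487509800287843b84a000005801c2443e21d10e611a1d00008730880008794de07400100021c80c00080190e41000090e68720510e8002438826873000a1c40b439a1c50e00900010e487002d0e28734380228724d9a1c43243a80150e44600080008710c800800a43892600f00521c037,
  nat_lit 0x7002d10c17000c0028850b4014003442858886001a2102b444000d1061500391068820a4490889441050002443a20427003221510013000510688209400000b00384888743fa1f82343f80010fc11000110824108400200043e81800100321f42000121f90fa0a21fc00487c04d0fc00143e01687e43e21ec1200021f50f605a1f10fc87b0450fa23843e00c9bd000a1f46500200010f80488ec00087c0e853000543e1a200143fa1f41500026e10fa6600011022372f90fc00043e19c00011a21f020,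
  nat_lit 0x225d3f81d0004000890030002006448040002448a24014449000911e09a24400288f02d12288f44702400044822380b447a24511c08a2413e688f0c912c0054481a2002000223c32001802911e49803c01488e0dc01a00b44699e8960042230d044780111181a80000129f131400c001445818001136a22cd444827b51141900011209ed09800200044499c0024f5222493444800000864222000088b33456c00044382688a444221c1d444000110e0ea22056688735001688b44406024f445a21c2f,
  nat_lit 0x801913610000913889b05113a00244d02689c000a2680b44e226913209000113689902d13489c44c82289b151226806451800d13668000000aa2c31400400044d81889f153226c3244d800000664226800089d33544800044c91889c44d22641d44da88913466002d13c89b0c141489e44d07800e005a2642e00180051301680280068980b113200344b85689b001a2582a007225912a14a80d1388950ec00489a44a04e00644c224c26000a25912a128000016007091134892448846892000224422,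
  nat_lit 0x25b12c002d1662c416428391567427813c21b34d70334196007173a91d15673a2b0194006172a2ac3d00102c53580cb4559cc003064a2a8b700002c00007282c00008a915016430c49080011527203540028a91f419000045495e91f0680c253b09d7000a2a547c2de4541c68a716da29c2e4ea89344263105432a5065c22719726a43660b7000a2a002c8b61812924590a4a5700b814788a738914ca3b16f28ed14c7082d43621af4d2a66432018f0cea67833e9a00d207d43e61f50fbaa1063a3a55368c011680144531c000b454a2983015ca2a514a1780380168a40b800600145185a00a001a28c2c452000d14415a2980068a10a801c8a14500522b2453a28028001229513e13801914689e0980028a145004a000005801c24452a27513811a27400089c0880008a2155842001000226c0c,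
  nat_lit 0x5cc00d0d893aa6b0060684870d8002c4d5168030aa5158030601c980353d8258e5c018a0e29c71e00b0e408ca2b0058a94ec514002854454a8a00122226c40185426d4016260b680141bd1185b40090d11e09b000409a28d004a880ef111802143c77088c00e28288000c27b28400a223002a878ed12c801ca84f800184c13380145f50b001137e7609a0006278a4400421329049e00111000600113915c0001321d69ea1a0895c0008b51630b294208ad3a91682c5164a83d1580004f20958e9,
  nat_lit 0x5b80101105960141843d40191413c001c18038a01b2a83b201a1347c801a0dd8920020f000155ea7b0d5003aa433d559201c5221e8af500e277c4b1d0006d3c453a8f00349e02940000173cd5e80191d51e43ae00c0e64a71d3005c7444eabd002c2ca28c7520151340420152a004201413004201314147001215b1e202100889e2b30080e602100789a9cb0091501c1008954a2b0082738434e4803c4d4df803c604de00384c,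
  nat_lit 0x1e68068501e580644d58f00684c59180644422280656ea38911403027add402e220d4402e2f628958e01d4f5884b1300e8be3c600e09aa6000e0c22de00e08280087d298003628806c3f001b52d8bc01a0fb00694b67ca95400c9fe10d4aa0051011481fb00c8c096800c0981fa00b8a00fd00b0ba01508f8054f8001804cf31e000544c1d800544c1d800504d58100507607b8ed4026222c2c0262dd1bd6b20125999424260088fb8a4,
  nat_lit 0x46a00214029a0011742ac0001340240173cd6a401f5a794a46100f09eb5100ead38a423000704d5b080796b2802e5403ab942848c601c1cc46001c2a046001b1bd1fe01a11680686f67f28900322229dc03828a9e403a30a9e403a28a62003a5400780382f53dc44001b14023e01a13c5e201950c8010fd00c05000307c003d4320053f04400041304380031414ce00250a94a00110d8004fb10d80004d0068048f31e6006ca8,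
  nat_lit 0x2d8c00a3001580082601180062f80f0006333400002044001aae105000010c0063334115780090289e440d0030ca80048180a000a327001a040400022ab8002808cb000e32611865a00719408cab0003aaa1005128028610000008f35a8003155c569018016325401560012553a00ab2008aaa0f055900415504f2d84022b5e29483a0121cd75401214471e01414156401350d1ea38c0090e638e00909e30d00b950a8c00b2a20a15428060610a40010604d3800c4c,
  nat_lit 0x800895f0bc00c9644af0740c105fa574db00125b12ba5d258001095c22d2c00074ad9720024ae256c14000001800057a57000495a0812ce95a4ac8240e31c3ac317443a21cf25a12ce9594340000b84ac1260b600025603505c01946780084ae001000639d4b025610c4aba57c73695f4ab9c20011cca58cb40000e6c000108e6d72cadc000a5550b4ab25552a83b8d580009540155b03721b800012a88525780029543380000b5035a120a717900044809534212a424a4a901c2f21f30bf014a0b2053800047883821c6dc06603e02846022fe05320cb7c0008a2ac80030bab790032de0a1214801473563001444,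
  nat_lit 0x14720061803f600713c46a0091814a200813d4a40071104060072a0770007115a2621e00328c85c52480144411100143e437a8c40082e802400a30acd800a22c1c84380040fd9ee3b100188904610f00094582d291c0022229100021f11154560005228b2b6324b120d6900fb00000080021ef4480020000f6a89d6b64815a383e9110f587bd65c47759b000800a97c4b3a2096b4b6a598c800480292ca08acc400c9650812c80034b20ca015000a58c6400100052c4048051618977067aa942fc0ca00600112c487a584006009001a5846706586781920034b021c96e4b0257cb7,
  nat_lit 0x90000021a1e14a0b5d0132cc54d23600f16ceb69252ad0877a27b00780f51813280002463c26f478c00b1daaa01174df8020aa54180204c135001c5d54100184408f801c5d08e80284c13880284c13100245d54180204412d802136c8b0f1400e26711c4d00061104d200608c08c02100289c11b00209e0350028c2a7a00284484859e00104d423acf80062621bc4c600208b22aa780008882640008444a34d800014ec2cadf895ab7a52c80380320174d5843d1411380206052a001c5d11a001844,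
  nat_lit 0x4802569a90d40020e04d49269ca08f26a0d000000053501a80042380dd3780009c703797c073159aac80009a642c53c0004d303e0010002698044d380053522154d3210aaf5648b4c5aaa3a4d7001934e9a64780020054d3040a514d30000008003115a99085cba322130d4a1a50b61d9440a22c3b61b305d75443453f894000a8ea6ac3b81de5ceb0497403f3529a6951c4d3076d34a0280113529a507844c00f126000534a8da69934a9a42b84840004d20a824200688700009a446c43221d5b500b04ae000002003535404c02a04483841bf0dd827562209a05382a059c2cb51826911a0008078512ba526a2e8407403446400a9b94d18409ac4dca688c701e813534212812136e9a03400081074d0068048024a67c23083041533c0080e409499e24c08c9a74ce86e1024d3267036,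
  nat_lit 0x10940ee4d80080029bb0813809bb4dd04a0024df26e8200000aa4558bd62832f755e20c65d1a4c0415c8939973c059140800537292a6e93729b834c0b04185e413f97b4bd85760001370922bad5be2d94f102382889eb1fe0ff87fa4d721710b4a3abfd5a584a472a3930998e507243931c803e47820ec0f387a00069b848c838b9f09f880c16e3be064079c0049b748826cb170f9000536c90a6dd36c9b52b83c80014da8720000f10000e50730eec02a0004da2409bd4df26d00e00282193681000253b09b302c01400b4d90240114eb26c409006a7613620e00080149b00753ba9d64d782200303ea6bc93003002535c1284c93b49ad02400607b4d68689ce03d26b001001802535810001400c9ab0dc0ee0054d506c0024ea26a91f,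
  nat_lit 0x2001a73836001a73d39c11a7400009cd0053a00014e68040014e6a73023022000139801010d39a9cc4b00000404e61749db00b005002605c215a9a03ea9cc4ac0429d64e6076003003272c2f00ba74d3941d002401a9c935800000400015e00500727201700b003938e0100613949c608d39a00c4e286a9c5006821801a9c538538a0014e205600a006a70c2a00000080160c80113969c205d3889c64e099000055d8fe97bcc4a23991bc17cbaf4a80c8baa2792e7409a00b0022701294e2a70137e4a00280049be4a056004d5df93dc8de0dd06e002d37c93800401a9bd05c00a00a4de0040024dea6f014,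
  nat_lit 0xa650050881d900509e45000507411354880254b456296801022072401026085800e1c52743a40082a151200852c1dc21400407046f0e8801c4f245001c3a289887c00c1cc1c578c0050e30de21f00206f8ab52a800c4410d000c392532ec00042141bc4180010e49d6a8500029445922d1410a1445913000000049e010525e0014ef8828430bf027f91604be97002c0089d50100200024ea0440034ea274c1c4e980013d49e9019a7a53d40004b53e80014e9036003000a7440600027480980c80080129d02e93a40054e806e001025273ccf,
  nat_lit 0x2b5c8f8001227aa491710a80184f54b80184454c00206010b00244c10980244f54b80285d54c002844148802841e56afdc01221211c4240081104280082a159c0071090dea8a0041542800040830f2147802150c4e882400e27ab2c00e20f1c894e00610795846e002882846140001151051aa24006220a28006a8145887a00214308cac9000880515565000150a2cb018a3c474007a7e803801a560ab1d300ec8018440ea00185d52f8020aa5310024600e500244f,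
  nat_lit 0x229594421002ad4aca200dc012a215100760010540ac95f24aa650afa0010a204ec008a21510046a50000287c35525800943e1a000943ea1e08c09aa23028014d48e2b657a828d43c9d0004000a1d008000a47525a72a4504e814009aa20024abbd5dca1c4e08b800350e00a072000a86d37514800000404a50f0008000a294d945a07303aace48e402d126a86d4349a800c012a1924c09400a50c0ca047003285c12022002142c0aa87000654287000455011c0022e813400026845188cc492b5957d84c02c50900054309a000407aa124cc00004c02412e03b01c8a64924539615094941e9928cc026c2429e12480642515072621eb00008f47855711b403845c53d22e2160000a3078,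
  nat_lit 0x14700015181b6003002a8c00b00328c545e0928c8006a2e024006a2f517028a34001a8b4130002a383f80dc19f284a32000a8b00b000a8b1456090004000a2b194000a2f5159a2a2d51628ac3c13e2b8d490a4103601b9486000515a8202c51e89bc000a2b5004dc05662816258b8b8614a877d4569f800401a2955793150b1ac5224200cd3e00280094546928bc01ea2935402c0b85141760b700ba8a07b002001944e178020022a263154c00135129ac11b51328943b00128bc56803462415a57ea11a512a7a00205ba89417007295d4484b002c014a23044004a24511828000514002802e12f09c856827e1404f144c001511040a58511288425,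
  nat_lit 0x585659c2d1967185600d523a9aa4701aa9189400000040926280054b2a4524c014a4652283a00d000a91001001804555c21d55d14218ea5ad292864c32a1882b7068c31418965cb00890614f551852d540a4453001000752191600952aa908c800aa91148469002c014a4123148e00852000c14700003682d54001114b600154d29603d00005102d52700094a8a50008002a5352549600052885a030018a9f812201a00128e8000a4009004c03452f802401800151ca8ea3f004a8e41700528e9470118005486a420f0002347076081146e4c2a70404a3619800800c1a20a828a57e294007c07e0410214004a355182c61610bf14396fca58000a8d400ea28a054b008a00028d14451900000103485b314158fa5ad6422e607483a51d205fc2e2be80aeafad85a1bf1c22e296f8a5650d466a32518974a3800028c002,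
  nat_lit 0xe00252984000056629607d55c044c224b8d62982046140015292aa0015292944931842a0d4ee001528aa800053b01540a4a7856085aca0aa5454c09c05616e089c080a5200029415252880fc44c2db02a815d560a505454a215655a819004ea64015a9ad4a0a80b50000a51150446aca52881c07a2932c18002a5153d4a4a5152815c28000029403913f13040e40005281940fc08129400d15e149163600052829e2a100029403914f936456200052829c026012a9400e52b05794a0630010030a4f0d003404052703a00a00b293401001293949a1000f549ca4c0dc026a4d52586c000006002c135330009494140555494a493140080025241b6001001010933,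
  nat_lit 0x53780054d0a69009194a68008000066000299c02201e00bacc0010de86e43b01b90de80054cab28c307f63fd1fd86f43780005322c8ae9005a9913700229954c83d805800aa6309c03400753105c00b002a984db16f0b600a2a875370054016a62530ac600c02f81885a02d900980294c2a6058801e00052f99000f1950cc558a06500c002400ea5f5855ae01300080014bc001009ab5d6000180044662351198004006a5d57c02223111908d046400000129715e09684ac2b21506480ca064800b52e2ba008005a96c20001297d4b41ba98000ea59370002a6052c974a5c002a960b900680094b0ae01440842f75602afd4be00e52c2b600b007295c8f0002970014ad0008002b612893424b7ec90646a95959003ad999625e56550b40004a56560110ca468f32841442cf000a9555700400054a867029d8c44df1cf04c82c0ac0001295156,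
  nat_lit 0x14f204501b005c026a8454280bc066a890122e0d5f01531b68dc597ccbf66033043023a100029d9791d0b24472ca7753b2f004d01e29e13700280094f00129ec000a7725800800153baee00200029d92c00029dd4f2bb00014f0a7524c000a7653a802a770112a00018a7a005003003800053aaea03253b29d47801f00c14ea9b802003001d00e2d8958eac0077a9d574002802405003704204f15c4ac053a2e6000539829837a5760de82994e6b900041e0be92bc2fa414c0a55392e2000074839c1d6a715a01de0e30710d00062a7c01100154e2b800054e2a70024002a7653c0080006b780094f4a7c298a9f14f4002537adc01154194cd50602353c80054dcb6804005201853729b56c003a9d14da2a80080020000d400c00a5b4ab7810207e03e81294d8b580014d604804885f4122048535ad40010202ba8326aea029011d4d4b48001512042022a9a56801e8210102aa203f2d8800a002534ace003534a9a009,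
  nat_lit 0x54500315040e000950ca8107401c00a540172003007aa0020005aa194fe12aa10016a7e340006a7f53f028a8500229f41354000094fa102a0c004a7c02c016a7c53d824a7c00129ec2000400254f40580054fca7d09400015f003848a7a53ca9e01d53d00014f01100016141b60da86bc3602765c8ac094f0be000000816a26d4f200053b8400000aca9dc2000029e14ee00abf971a337138ac683641b00d000014eebd864c00ea770394f2a7853b98a34b00029d8545ce15f975000053b29c35153ba9d87853bab2d4ec0f000074015405629d97a5e596097ae00053b29c3a2000a9d839,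
  nat_lit 0x66d19184525982cbb3b04fa433000aa318300caa7887c000545b04c400012a35518a8b6059ae64167200015164c338cb1c5912c598444aece613b0001516c0108c002a8d5462a2c81679b6199cc27b21790c084c4200002a317f2102a60004a8d5462fccf1321b3f8004a8c26000000e00492ea940012a2c3454a80015144b0038002a8a25552200054492800000080242800095d5510498009512a88051518002543826a8b000aa1c0b000aa1d50c092a20000a8602d50ea8854311ea8a2b72a14060002a2082c57aa18000a8405c00056b54202ea860002a1015542b3acaec66a12235299a026f2092a117d002802d50a100024016a8402c01aa87541824a8e004aa0809,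
  nat_lit 0x2802153a128091562a9c02554400d54e022003004aa7020002801953605802800aa9a054004aac54d23e02000f2a6435000963953249aaa803ca980d8000a9954c002d0d6cbb67847cda432fb40452600254c31602601510fc002a9762954c00154b30e43c002aa6152ea961b554600154a99cd08322b3d8002a952c954000154a03ecf46c88898ba85d662a912489000154a312a9d000aa4cce220001d52aa945498d8a9a0002a498754c00055240fb388c94d9067a95c452e43f6238011524c42a54008a9161d656b5121f311400218965715b8524c331709de1fe622000031026727f3229850c3b2b0ad856d6789670b3a22e6e1b729b8e695300932cd2adc76e5370cc96d8d66f000d51e00061086401a00c000551c652a3d51ca8d2b802e0025468a85580002a3026,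
  nat_lit 0x2000551806aa41e084f8692aa319d54c0045553508b7ed3e2dd0f0477eaa36389c80005518720005522a8c0e27288cc8e22c92d1b49cb8e5c358602d4170afc03e81f810ab12085042582a3cf69faa9c002aa363554a001551816aa5551aa88120002a9154405aa8d54eaa2045a6413f6832a91546c60004000aa201554658155100caa369b851da16aa21b03640005518a802b0162a8c0e004aaf55461a000800caa2075574abb550802002014aa849300100155401280a956ea9f02556802854f82200255aaa7d1f015009d53c1a8004afca9e24d56602854e86c01b5572a74010c9800153a1c806c02ca9d03800a00654e824aa4552aa7009,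
  nat_lit 0x7557aab81d000aad00181d03b07d6b100012ab998558800155a0faabc002aad080124aad556024000584aab09358480015580082487dc0e20002ab197070b0cdab6ac700e2afd564003556aab1965580001558c980055600192808bc0aa250100caac1950058d981c000255521caad0002aa41f5558005552102cb5552aa80940000db554040b2d0002aa03506d8d595640005543280030002aa0020012abc016960008000aaf64c000aa666398a0c52cc75530000004c9000400035b5ed17e9ad46a435b1ad5bdc5196f7186cdb0e0a706b804d9c2a86d734d05522bb552b223595ed97e4bf4d2055b8019554001552b20aaa0002a902055400015480faa98002aa405d564aa45518460002c82a8c1755880015460a803400caa90002a8d8f,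
  nat_lit 0xaac355f816012008aaf8120062b0557a04801596a4b825b81d43deba955e8001a000208095780b803424eabb07157a12655d022ac10022ae865007aae9572128488004ab805400a011017ab64056ad3008aafd570cf801157cab724d57600b55b06e00b55a8000b5004002d56867aad800eca92592eed774bb955a33c0030012acd9d559800576eb9a03492885a2d3b55b33800255a2ac87b1302ad15621e2ad4006ab00e80001f1000848b960f6b445aa6d3608a800155ecd8451560aaf074000ab05579900000892abc0a0f62ac555e1dab0c000aaf4dd58400055834d1a72c730fc2e757663091dd8a60b1628014db5ac388b7b0daadec38a1d25c82abd9a560ab000343755fa1850c2a5b7699aabd99000003557ea4aadd56cab50002ab898,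
  nat_lit 0x3000d5a41a000d5a4ad108c0780015680020005698015a401c800159e012be008cacf0d00a4050567860acf0002b383c0270160000d180015e405868808403456605c0052f12b309356780315961b801c0a0aca09401200a56486c004016ab241c005abbd5900eab6c056ac72e4006059563840aec0242b1837014011d58a68001558cac508c090001562002ac60012b101757480095861a2bd9586ac207400405156117404257a2b041c5718081582d0abc559eac00d9596acc5600f0ac913a2b000c,
  nat_lit 0x5730660af57200015c40b8001b70ae22e95c800057102aae36dbb6f8ceccae239092d7741945713520000122c540b6b0b6a0044b1f21d83c95c4d3abb0036ae20800dc07857086e06903bab80d003f80215c0d300215c2adf68d5c800556f11e0010002b743200218b15ba5d2c71642adc00800eb1a56d92c07458fab683556f801d5b416001d5b8ad969400400456c87662558bab60c500381c15ae6b00080e6ad724c0deb1356b19e06d0362b543603780015aa5a800161e61f06561a00156a02e0035808179620ad41b40ce06c56999c062001ab4cc6,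
  nat_lit 0xc01eaf0080012af557784aaf3004abb8d000180455dc0e2bd8020aed0455dc00357684000b0062bb00b006802d5d60a80055deaee094000da5004848aeb5752ba41d57580015d211000834abda13292c19be6946d5368d5d2d6abe9b9c2966d12ba06c00336815cec380000081a226d5d00005730400006ceab98200002b9d5cc009860c44da3346b35895425e5e980015ccd60694016007573ab99ab30b0a24c8600857332eaec0042b9cb957500095ce0babb4004ae60d15dcae657283aae60012b9417003abb15c80e00055d0ae7074000dbd57530eae4571ab88250002efc4a047865899edb8664331cab8daa,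
  nat_lit 0x160200357f82a00d0022bfc1758080055fcd800115fcafd0440004907002da000ad4123426a0a204d2d200c2b3000300095f8d78038000afb01801200157d808afc57dabe81d57f00055f40202f16bc0a9000abe9175802be95f25daca4012af9150006afd57c8160030022be012002abed5ee0480095f6af70d15f2afa57b0020010022bd83757c000d5ea1b0008000af50d55f0cc45ce823c05e0300292c80000af56b809204601fabd95ea03abd88f2de501eabd49800b06d95ea0f0014028af524c012b0057a01600a005abcc1257eabf95e404abe4014af2070004af557883a00c0042bc0b9,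
  nat_lit 0x5c30024b6586ac316160eac34000b0b088004d98303170cc24da030bb6741beb0b6d162a0106cd0379614608019702b092ec0000042beb66b0a0002c20200002df9610498001612b080041b25c23091840c2260c2de35b0000b086c8af20090012c2561064835cb7a0090002c21970028009610012c2c000b07258008001583aee0020002c192c0002c1d612bb0001610b0524c000b065828020016c49ba9caa5bf37c3954bfa000582b625fa0002c14395b3005560a3e80e004000e5832c143111e80016081c88ec016b04038030b0b582174b08584ac0c0200100196040e801960eb0100402a00c5808400025822c00cf,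
  nat_lit 0x58e2c69632090001636b1902d634b1e58c8226ac1301a69636b1a32c00200058c80ab1a70d2c643258d38c44d0e1f58c8d8b1b61aac686603b883d6340f0009638b1a6d802a00358c8a800058cac602600018cc004da98800300110002c5d1700903d0c5200058b9c812a00dac5c7d002805162e498025644b1602c01400b58a824b1f5902c500958d80296280e000962eb13074018008589172003007ac4820004ac5d62212ac54012b10340006011588038b180082c3c11588000d61e10002c018b0e02c01a00b58682a001588ac4025,
  nat_lit 0x9652b28051658002593826b2b000ac9c0b000ac9d64c092ca0000b2602d64eb2859311e000594881054593800164a0b8001c8eb252e964e00059282ab263623920e08cb820c32a841a1ff592b6e00b594ac9830722aca564a1e0038016b240b800600159185a00a001ac8c2c592000d64415ac98006b210a801cb21590052e3e593ac803b0012c9563e138019646b1e098002b2159004a000006001c240052c756380eac74000b1c088000b2271b8740010002c6c0c000801d636100009638b1b05163a00258d026b1c000ac680b,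
  nat_lit 0x4088b2c080002b2d596028b2e000acac135992cb1656090001662b2b02d660b5a5958226d714c001565ab2c6e400200059580ab2c5982cac295963970540b305959c2b2d104acb0055a208696580f12c565ab2c1e165c2b95968cc0031172cb41e000acc5660128001c9a00509165ab2c59583a0000023179b35970001658100001c92b2c080000b2d5960026c53663934e58d8d2b788bd8b60005963702290070034000b2c46d6666d51879b0d6588b800001a00925d668002595868b350002ca89600680056544aacc4000b292500000010040500017282ca020,
  nat_lit 0x2ce0000b3633800600959b02e0055a19a5432e602001acd8000e1acd40046010cb1a51684b3659ab84b340000011c1003acd1666d297f832669159f8004000001599b8000059f1a403245fe3482cf8000df8010000b3219566812d2de0b5d6644c000000400b6e96641295988ccb315ecacc0550010001662b756480e14db811e0902cc1be000acddc2442d34a3868cfa63d33e9dc0ee2e0f5f70274132b9304b35b1ad6c9913609a56e8b306f4002b340772fe17eede00000080056cd66000059702e00002a2cb8ba0002cbd65c04adb591023062907903de4343891c4d9b220d630083c38c133095af6425413809b03b5660000597376b2f073acb80e59798c429c0e85971780545b781bd660b2f0c566006d59781ab303430600bd4b2f21000000c004348b360012cbc345b1000165c640020002b2e255666000596928000000801dba,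
  nat_lit 0x2fc5a42d1c785a4ad3569eccb5a3b94b4e17b2d185519c33988b6e3c5b100c801a0005a339200c5b004682f6c1e0bd30add28edc3ff1ffc7a0f423fd9c85d10c030a630082a0b58001800968ce4000c0301200b985c02400180018001c7002802d68a100024016b4402c01ab475a1824015004ad08150112d3d6840e0008030b41074036b4d5a01720030142d009300d007967e128048030b3e340006b3f59f0280180022cf4135a4001167a060058004b3c02d68400059d99e00a003000967800312d32cc5382e459db8cb4609fb35c5c6b3a19d6882e359c80a0030069a64f0e78634e9938d3ae2b351110cca816c60805b9828eac39abcb1ce624111f8001672e28965712b450002ce4e4009805567e00159caccb9f5d02ea9674b390c400600059c07200005c2ce00e000801cd22bfe5ebb8800a59c2cdd2c,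
  nat_lit 0x34ad48930002d4d6a400ae504e828000b805803cb6801680016a4e6adcc0720010002d49215a980044e0b925a913203701d00f96ec31b1689c8c4e80005a93982725dd8020002b5246d6d6b525a8852004018ad44395b5ada96a06b2d5d6e8b500d800ab515a8046b76000ad3c01000010c0804badcc004b4e0d00880005a6990b72000ad34955b800016984a000169a03e0c00000935a5840b6a01cad2cb95b52dad6984780f4120b4b2ed6a600f007003402202606f2f4c1babd66d1956c498c9d1253458ea475023888b0442c8f0012d2dcb001000d69617ad3969ab4a3144d00045a4872b4e0012d24045a52d256900880416bc3010012d218a0012d2568e190988e122b60002d1d20,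
  nat_lit 0x16d000a004b49dd4e47931680016bee998b8c70e370cc0000002b625b1ad7dd2623866436e0015afaa8b605afad783b62f86c436650d6c79eb5e3a8574349ae8fd66b935d21790bef3d79d1020e8829d14e00056beb5e7456fcb615b02d7d6bce83380000b5d1504ac0005ae81c2540002d743965e80c16ba07000c06e04a02a816cdcc6ee1b70db1cf002003d6b849801c054b5b02c0100095ad0240320142d641500100256b20e80256eab580d400402c5ac0400055b92d5ccf5ad00196ac6800896dcb56004006b725ab0400210112d54c75b580856a81b2db0002b5400d6dab545a99720225b9816c0b4b8802caf1d99c0245a9b9cb675b42d48060002d596aa12ad4d6a4b51074000004021366b540002d4820,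
  nat_lit 0x5bbadcd6e411801c004b7100400600500aadec03202e01800896e2ef00356e00015dd6e2b735b780400700eadb81d001adc96dc102dec018b6d19402000b5b602a0035b6adb0c80032db56d65cadac000c5d204357471e01e5be00bddd62e3b80ef44925b800340160025b53b80155b52da40a5bf81405640175b49820095ba2da0bb5b40004336edc3bb3bf0f4efc8450bf308a8fc77bc1e7d09eedd201355d8a61990cd0010006b745ba80604d626d67b0054000edadc8004b670b83300025b30a8b6f0002d99da00933c99e20315c200d00d0054000ad95d90ccae9c0a40005b23b00505ca01016cab645b029e15008a044181410d19eb450682b9102480fd6c80005b3001003804602281580e2ba66270629d7000ad903eac8b0f93c01e5a7bd7973e950cef3c3689f1de787d33e790505ee2f85c80101714b6375801a2a40202e256c4658000004b634cc00200000800386ea1fd317ad85d50000010c641fe1c0011802000f7516c40005b0044000127895598e27113ab32d9920095b0300000020330c77,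
  nat_lit 0x1700b575abc603fb40851a2956850abc5802a71540a7da182ac15e0b283d0c9564b07a8310b897cc05c021000ae2030e1e96398615710f900900080025f33ae99341855c3be20280dd80cc306b862f57ca6e410007ec07e0220010001f0000808407c1fa0ff9b91d6ebe37bc00001f00dae1970af7007c0781f80fe9b857c40005c1bdabe137007f03ee03b00f0005706f62e69714b830f00360195c104c0000192e4deb002800d79c09a5e702280eab9f5c0bd402f019998445a3af03a8121700f4ae38cb822a1d100ec07c0475bfbd0b8103d81d40ee07403380116fef3826013608503881a172c0045bf3cc27e01680b0002b7d328056b7d5be052b8b5bf00116fabba5e91b50daa0f907a83dc1f62263499320e5eeb538c1b6084a6595c480996f8f2811802c01a011adede45c82e256f46b2e400c406b03f82540e60745bd3c600203301b00eab7942c0020645bc0ee0005d581840d23a46b8b984c9ab8378807e010002800570001d5c22ddde15c12e0d6ec942dd800a00d5be004c01a0055bb0005e000000600d0d9805c0d20775d90d686bad512e00c99de4c6e0df320037a1b10d5804c00000100780316ee0035ba3be00a0022dcc02,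
  nat_lit 0x4000ae657700100017309600017320035d80000025cb9260005cc2e5c015cc2e7178006215b0ad40c4bbb5ccae5df55cc000d72e0289bc0b2b9707800a0005cb8a8bb31222e5c0e5db2eed72e060014054b960dc0040085ca84a0210142e50d001500a17280b800c002b9308d73c01e5c9172025014ae48285ceaead72217ae44032b900b403a0175c8060bb000aae3c3c00203097e47362729ac0d5abf25c7be8007006ae380b000801571a12ae44016b8c0540040045c603a00c5c7ae2c11001002571610000571ab8a68400a0095c482a0050022e2411,
  nat_lit 0x17520055cf83e000005042d09004000573c02000573cb9d08d7440015ce80800102e81b04102113503638782c355cebf40070832e70ce0000014076d9ae74000b9b05c0001035cd82e0015ceae6c095ce2e7573600b0bdb0e69918f87fc0ca05601b0001736fc80d0006b9d5ce2e6d81616b6102d20005cd8ce1681b28d81af231418701dd7a60015cdbf022a10532b8002b9b7dd7a0b9b5cd3661eb037ae693703e80017342a019c00eb9a1f4000b9e5ce84ab9b5cd2e641d0000011758d9ae70000b9a080000ba65cd0400005cdae680100600517680375d980cc07803f0002e69f60302e88004b9b5cd2d800a0072e80000b9a66000a0025cd004b9d0002e6496,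
  nat_lit 0x1cf61a4650800175ec506983541e6000aebd1b012800c0040015d78f21e35d7aeb9b35d7824975c2aaebc432bae0140400855d70aabb0003aeb820007003d75a058041764bac04978000d5d5812bb0001aeacba003800d754010015754ba908c01e0015d406a0006468025a45d7000974e1a0034000ba63200160015d32eebab0002e94940000005910dd000576cba4080004ba55d2028ba60012e8c135d28005746058055746ba20480020145d10160015d82e88ba0092eb9742008004000ba10d82f43b861e2e91742fdaeb40da007002ae8089,
  nat_lit 0x3553e3c3d20005e02361e60f6b6e4000bc069dbe00175e001c0055e52f0093004af2177e058028016bbe04978abc65de81200d5e42ef43400100297780eaf1578cbbb0040060105dd926006004aee825008af0977204800c01ebb907177c00e5dc022003004aee020002801976e05802c00abb6054004bbc5db23ebbd0052ed401000aef576a49aee9776bb4024000bb55da002bbb66e082da1c62b7402095d120025da3001bc65a98e4002bb359976c0015d930e3aa7bb33c8002bb2391766bb25d895c21a0012ec4395da00017601300103d4cfc129b600660e7f3200005760fe0865ef23b00002ebd21,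
  nat_lit 0x26ec3765c685a272122389120005e240a6fe41d85bc000bc44842d816f1ce8001789020ea4000bc41f483ebd400480017888d801c004bc40e578e0005e184c00361603786f237a4108f307a40015e1c060080058f4c000bc246c7a2c9102b80017850001600b80ba0002f0921610af0d784d9af10132bc3014000bca001848bc55e22f0c1d024872082cbc95e2404bc65e3af0c0600137f48ac6f413289701800b80002f0e0105b2fe807c0005e1a3603c0e29010000bc38008a8bc45e1b66bc46fdaf0c550008019dac30a6c00c25b0639c22a2f0dff001b3883f83b15e13fc0005e3af14265e280017820b800c002bc105c3ee81035580057828daf11782bc02b9da00025e0072bc30002f000900111348a245033bbacd0f64850002f01fd,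
  nat_lit 0xb6c8ea4f627bb92490846e22400017990491240080025e6af316c5ea0001796672f48002bcb07c002e1970e919ccb06707beb898592bcb82000cd6c5e517600000211709b5e58001792100001ad2bc924c000bca5e48022c423c155deee65232891848b60005e4c02e130012f2d794bc92045844651680001792cb8b3c8ca46122a382888843c704000179303916005cbc91f489a0005e487244b006af247d5e5af297926286a0000bc8151992fe431d0001790c118a1792bc81e17923b85e40aa00200392390a8e4b2d2b76073ede25e440c00465585fc754bc77f8014de05e303e0005e5af24265e4800178a0b800c002bc505c2f283f377800578a8daf2178abc42b8ddc0025e20a8bc70002f1009,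
  nat_lit 0x34816c0b45e5af2a0d5e583b018e0b45e50ce0005e7af38255e62f2d7940e8000008d606cd79a0005e5840000623af2c930002f317960082ac2561550aa05882c2cb56af0001797060ab8528bcd5e62f2c6d000000c0f46f2f3c000bcc03179e0005e6018bd003baf30065e70001798058000002bcc02c000bcd5e6002bcd0a3324829a3b01de2161aaec235e64160005e8af40255e72f357980e800000848726d79e0005e68400005f12f34200002f3979a0080588b645522a115c8e0471243800179b0512145a80030002f3521000802dc420145e6c08bd40042f34d00002f557a812af4979abcc075af60015e68740025e6af302d,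
  nat_lit 0x76900085c2512f5c0043093740020058517a800170e1e27180000008f038c3d120e07d100019305de6455e942664b17719117a20005e91f60fa1092f44fad05876619285da6435e8422bd17d32f400d0042f6d7a21b2f70020bd12e4002bda5e8840bdb5ed2f40d05ebaf597a05caf557a8bd03417b2bd85e8172000002af40935e880017a01a8000e7a04e609001e1026c226c38e0015e7b04bd4000af38ce0e233e9c2c0025e7314bd10012f35870003854303078f70094047000af31215e6af317965700fc002bcb0e4006f4d43f3d24e463dd7090f60002bcb838072c021f60001794c138543901c50002f29d80e1a23c9900005e51c8485015af280e,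
  nat_lit 0x105f0088e6ca51cb00405d7e38041c3e213ba0020dc012ccba00f18914e00800480386210c198801a30c1248ae00d1cd14e00d6dec28f300073c991622c8034dac5323400186e14020a200b72d9d86e000509a65f0050bfc6f17d0024616d5002051227802052651913c00e2f285c0240081cc1423d9004b6c2153700024dac4e91280106cc114890007145e3e00636ac2c6530030b9c4544a8015b2c212f7800c30996400c3cf1bdc44005184c980047101463cf001910215,
  nat_lit 0x54700f8ef09e7ec80807d6391ff003ee4b1c502201e1fd2003f800e89c80d00e3934450be8070616ed806c736ea006c611410068513428069ba6569a240322da29c65001918f14a02200c0a2efc00c8ccd1333b0061b3438a2f802e2d2401e7c0172a8ddc0172a0dfe0173761e447800b3d00ee84b00547dc509c00028223d4802845344ce2401322114e8e400939890038b804489822bd5802044e124024011185b720101cc01c0126c51448e1009384900,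
  nat_lit 0x37f80522887f0052270acc0502880e4050288d8005227380c05028b38c0502703ec04e289a5804edca12de4c0266e508e715014098f690140c082501439884b7f8009dcce56204404c3fd2add820271399120261cc8cc02618459a0251cce6002522f896f7a012117cac85c808c820509cf00464671bce62023747896f7301111b0473a08085d7a379444040271cd003eeba28ca4801e28ac288fe01038c86f011007c5d718807c4f,
  nat_lit 0x22080b04e00290fc0570d109c056273bbc05e3083f405c28b78405c39c08405c4301c906402d21e94e84401610c0ab24980b06124e80b04e17400ac5124b00ac617d100ac9043915040585452a5f6e02c3c09e4fb40159dec4703580a8613c500a44f01580a45d3c700adcc055c1f40543e829002ae76015432e6e0148e641801489ce700140e681c0141030ad805809c83e23a59c0504232761b802721094b0de01339721419e00a861,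
  nat_lit 0xeb90130c245601309c4ac0150c230b0148e6f140148c256e0140e67aa0140987aa0138a07a40138987a401309e7a401289ae8301409c4120139050a93d6809c603d88098aa7ed00945d21280a46121280a05174f80a061217009c73874009dd482193c404e7c4121fd60267c008e9210129c344638a0091fd6493fb0046f7c27a20002320394ad6901609c3200158a21b90158c2cd40150e600621000b21b,
  nat_lit 0x408803055201402e2e9cf802e263c4402c27149402a27b6d002839beb80287f43ca02e01339d88e4c30090c251200889e80a009bb5c4624280487321a007c733620099dcc56bd9c04aee32b1ed002425b9e0f6901192dc9e3f4008c4c289008c4c77b80884e284808a010779f9804272629e18a0202519430dd0101fa46f805807c5d399007e012779fa403cf951c4fda01d39688c02500e0c250300d89e80000dbb08ab21c009861,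
  nat_lit 0x9b4015139e160191389b401918455c0181cde14018144de201826195af8c00bbc444701000586140900744c81800705d7e30070aa299806c4f14f80685125200707307700785100b933003c380a9803a289af003a273d8803828be0c0384d01c8dde01b26b0e202b00d0c26ee00c934cab8128070aa29200704c26a006c616718068737ba8069de4899b70032ef329cdc401825c88af7a00b93009e400005c5d,
  nat_lit 0x78d1324f427af7ba1738fd60b079e13604cadb81340a70140fd0082c2a51a68bf84f8039f3ecd68cde824da24e3c189467ac800801c8c7191e88cb665a33ac514b3c592000917e314191654b2400022c46045722d000e0985942c8bd50b50f548bddc446800120ae2251c58e14420a2317118c8de0012fd44e416f1373f5c5a4660002090b9a5ce8b10466014f940a0fde05c2e311b000a17769b85d80f607a80c44dd36c9ba899b97c6f607c0013b7a2b2e211ac0085fb8b32a6e3ad1613d1454ee0234800d03c6003061874946f718a48c000240fc428a720773ed1fb62876c117c00281e88494e00ec7d889c8cc0008201665e911340fd03097d1b2392c0f807b2b9920c40420010388e9df04d60511f7135e9ec300c11c07a05c76f44a8b30001dac0026f7890a5802484a44652c00a97485542a36283b6002464c4485a11687580008950c512e0ec81a0148002d94115b62c3ab10c2613d916081900004742450ff076a2011a08dc4d627e0451cb8e5a07a027c3e264116b631b160ae7da81e5012804878b4e5ad7aa39cc10c73839e81e20590e967d23e91748b02b8e5407702601361c2658028616fa00247327800244e0a280205116380507300c805061,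
  nat_lit 0x20106769680006780018be67700059ce0b80259cece608c02000767302e008673b3942300080500305a1910df87008109f4d23901727080159c91f33a8006ce3338e1b1448a2c0000010ba8b8a700e1b1ea37a17117038280019c6006005bffa3c670800001a71a6758051e5ef30381c76ce2670b380ba00900019be010040002cdf36c006ce366f86e00300233781267033859ba1b000800acdd0719be00466e172ce100133706500100059b60a9e000328d48b23ea8004cdc66dc74cde001b368337919c2802c8cb8b63fcc008cda8e5f4f1614688059fe8ff2001b366387d08058f0077b000c27c02870c7d0c6e0013bc80011630a5009be919b60038da13a8c685423461670b208241300385ba2da10802821420a896aa0a006e23d176cbb4cd70001de23502697d99ac2abfb00230a6467c2c61601028250069ed0636319986cc345a12983d2c0a905c01526c45f62f766b46800078db35820,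
  nat_lit 0x67c33e45f4e3267bc0801700133dc1300680019ec6880159f075a7faa75d3ba9da72d8be19ed22b440666e5917bb3d4670000bd19e85b8bf1c5f15f51545713a87593aab3d59e92233f0000cf302c01c7a72ba9d559e7218024ea6cf22dd120cf6679366cf700333c426036c23810b192566a9014baad456924fe33c7df01e3e9cfb67d227e005802a0293cb0000002cf1908f2d1978cdab2e41d1aa8c91dc415a2dc16eb8408003fe4de45015531988b3016c0d8183678800241000341864e18367831400500133c0dc00180019de0ab3d1f9ea1d310b3bcb80019e940f109b6771967512b49e8c004cee484008000676856cef67733b43c3cc00019d82a1e58f349d48aea87a2c0e4519400019d9200c799f8cec6cd9f631c190275a2b40663049ca4e54cec8fcf1e0006760a802267cb3b00e677b3c19d81633b0004ceb0ac04200f67525000f67733a429,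
  nat_lit 0x10a4d06681b6600044534101f44082a5114d0368100ed03846a95ccccd022e00020e468126e0004003f3c988d04650ff85230283409a0270b410000d004a1a08fd9695b4a5a012500b0098cff4dda0466b26612f99ff248068000cff0780300176940d2c6aca0350218f8c8ed276928128a3a0843bb01c911e9ec52b1930c8cd1400033fe4868999119fe2ac0c8000cff15003a01e67f81c01f00c33fc1700480299fc08b42c000cfe33801600067f00ad02000b3f83f001004061a31367f400d01188b3f43200480159fa100038002cfc33c02200167d812d0a68d0cf46909f503698a5fce74367dc8e00e316a7bce84cfa9199fe75f0339cf59f244b420e82cf801400000d03da1f80da65b3f801c00200033dcca,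
  nat_lit 0x32d0199a9600168aa42d1668ab450ae0348009a282a0011a7c025692008003e00268a4a004c014009403001a68b3451a2727b535a9c651000b4498200e0075a4202269d8005a26d12938ca04ef7b30009a22b334e4040d1f00d805402cd12688c9a8267f593b0000d103280fa0176880fa00468c3440930038049a1e05800400ad0e095a2c01068682a00200234341d0093451a1808800801ed0c080002d12685b4200a007b428090050025a1400807c008d0a4dc020d116850ca0000023424250010039a124b0040016d08044034d1972d02a8150fb32ef3ec4bb639d10f087446c12b81903d910c0f732321550a600500134224c0058025a0e6e002c01ad06054004068686446000001a2361631711e58f2418885b684496001001b411b6,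
  nat_lit 0x69a8029a56160055a58d2a4b1a58007694854002000b4a029015b4fc070d3e01ab5400b001f6944b2005698b49c20008b4c5a4c63802001ad25095a60d2f6921a000269300700480050010011a56d24960006012691838d2a008b488b9002003da44100025a4cd210dc01cd256901a0d2c69a34dd11088733806452780a413d0b344d8e0713689e014a96d9032a44d4069a69b0059a412b800400ed1f321a50d2768f02200169300140a045b58cf04d1e68ecac00900134707b6908001a361e0001a3a003955a3a009000346daae0813c39deda352a0000014d1f94c01c0593d5c1014ed1e558f47c53148418479dba02f0163b5998811a00568d00000100726aab466520002094a9c072003ca282f7fc13cc006d18329a3a00168b87e00068d800d0968e008800e00268b17808700034540e,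
  nat_lit 0xe3f72013b8002d397dd334d3969c0f0504067b4e13746b34e5a703c14bc000d390e418e1fb69c81c3c01e090e8002d39898a46d3969c0f013c06134e0556ab0045a7002b58000cd38015aacd3f69c18c00300634dc34003002da6c1ab54801cd36030006d3a69a86e00869cb4d0366ad0011a680234d8004d33009a6c00169906a00328e1474d12d3220000c08b0489b39a62cc3558d98d300140040456a60131a66e20005aa250f15000004b6989acd4800034b4170200005a5a0b8218ad8842000b4b4e46a534b5a5857211808ed2c0e4f3a09a3ccc0dda6400d004b4b25a,
  nat_lit 0x35053509a9922210c15808f6c7b5025f6a14305a8233355018ed410790a00006a08a80d7003b5047d00c261a3129ba4d3c5fd314987000b5065e00ab5413400006a024317a0058024002d40305a82d4069f976008000b4fc546a726b935717f4d4265a2eb16f000b4fe5d006b52d30600069f3149810030009a7ed3e5b1a9717e6a68001a7c44b508002d3e0d0002d3e69e846d3f00034f43469f34fda7b2e0015a8ed3c338000d434ca95e00100034ec0c000b511a76100009a78d3b051a7a00269d026d3c000b4e80b00134e9a72090000002d3902c000d3a69c802d3a8b3aaea458b655b0c8ee2e200469ccb62a81549468002d3a8992d4d3a69cb66fa0069b4e41e,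
  nat_lit 0x1aae018099aaad506a7974d510003538960010015a9c17b56801cd4d0e90dc86f07b83d40dad8b0380029a9b34001400ed4c2e9aacd4e6a5916d4f004352896004b531a925c8001aaa0b706121681e29a44de4ced5405b03050b20f04d13559a91330000026d47348000d486a897c0016c401d415cd462f40020006c3b5f40a808004a35ec08732b615b08d8300680080020026a2cc8d466a4b51014000002db02d82035360401600098da940006a1816d496a3350c1b05001fc0660016a18f20026a1b508786b50001a840f35bc0820846c181580b0063002b50a62002b515a82498009a84d411e1a8e0006a083d0c686603641a8d760230114002d41984004d416a018c05d03482a9a84d40711a820a96d102d90af0ce56ac91e57eb8e4efac413bc9df5c74afe48e122491043013cd97050350260,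
  nat_lit 0x66b3b5801d0020019abe1ab58dacad5f0b1ac00036af2b80a7045022c11c10f0043585abd383589ac0d5d68dabad5e6ae11ed6000035715a0000419b5407d03d8298004d5d9bc2120fe07e9ce8de85880904248b8873e39bc254e66734400235223211f84522f916a5df000356a6e81837ac1100896d802d9b660006ad4da0a303c01e9b4e1040840005ab5363571ab6d5a0f1bc60f4037019c0cc06a08a22ed1a08c03b9a9e8f0e8aa3fc1fdcddc119048823db50094000356a6b07e8429020d5b6ad38801e0003564396b23715ab20700d9ae8d73000b56626009b565ab03c00bc022d584dc0aa0b61e2b565ab0e8002c000d570e400edc36ab81c000002b5a93a126d91ba1cc048d579a80080246ab02e00f006b5548b6adb58daa811803c020d54675aa80026a9856022007b5495c00100400a40ad0634d2001008803819,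
  nat_lit 0x1aea2a07320a7c2b815b84797460865d30d827d541c1b22f1c5142be85c42e99f515e8ad0b635ce7b6bb21590aa1650b32bbd5e07246b94f4d7742ec9642f8af1396a645ae33c9ca15da1650ada13dae60036b8cf0d7343105a82ccada4cdb5c5ae13bb5cc000d6f69800885387405a02c6aed38f2619adf3b35bd0961570b0aba4e4a9986b74ea0006b800055a6b8215d0bcd6e00000050a68476b6ce8000427c3902caf38205ab464b4b08997301d81078b6043024f17334981c9b15c6f4120d054dadb398001b2adf03940800236b90001ad8b300342acd6c03800c00e00d84c5c1083741835edad9390055af2d6b081ad80076b506e00200d35a4250020015ad01b0038004d6801000ad686b3846006000b59835006359dacc5d0018004d650d1acc0006b212c0036b535903c6b60035ac616800401d03f820207e71000803dac4198025ad6d6161dad0d626b085e003004358434,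
  nat_lit 0x44621510a5b10d879580100006c3072d887aa36180d000035c0f53fa43a2c25ff2fa4188c7c6326c33616870120011b08020024000d8332000e78441e43a8f0f0df84198b1b074300100046ee0ad96e02b062d6c150a00d370858cb8c15b32398b1b034236350da16f314b600753741a08dc50ab378267db100056c050601300235fc0c002b5fdafc1bb604002d7d370e561572df85651f08ef002b5f6826c00009af84a0040008d7b3386983541b98dd9d742fe17e9218d841f795ccaf97d7329964caa90bed8400b000c0020346c7b5ee81000a3aa2985f12f597aa0e7072003d0000030a00d67f8a4c77d3d47b59491bb8dda0016bccfc00e000b5e00c8531bd61546ee376a66c0080026bc4fa004000b5dc0c3b5c318e510c433998d8c3c0016bbcc40036bbb5d89330e05961e2d7b6bb37872c57b860a4be8636be8015aed3e35dc004d750500140036ba02600a000b5cc8f,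
  nat_lit 0x458029812f6cc365e566d0000db2c140018006d9509c0160006ca05a0016ca80269200036500252980002b2e4770603c8202149094b64a9100080391ce16e0ad520d93002b6441b005b669b2003000000200e02a368dfe0000031b320233d00831466a49911a94d49721e11c25321c873d37c0b61d3a2da751bc01df8d8fa3c0000066ca9acd90000b63817007855c2e00e407303d4294e366c751c00046d05b9c6ad8d7b91ac8e20b605880b0052022b639b1b46b638004d8c02c0040016c582ad8f004237a53486a6db0111b174280051b617c4338119b540436c551800046d05ed0cc0450230011b1b45a361198136714845817e0b600036268a059b828218e0702600dc0740026c4d12d8b6c53624c56d30005b102a01040808610bb45491ae0016c45100400188098002d876091ac1600a58005b0ea0004db0ed861e02900106c326e00c6c3b61878,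
  nat_lit 0x1a87c364a790da0e39b4cda5a71b560016d202604f1ce0e8de523a67a10ea1e44da4a6c014a050d729183603881c5b68e9a910284cfa92577c20e6472e04d6d1d3200101200190900102441200930443789bc68975a24b3e5eac2f985ae5660a22c5c92d565ae98b09cb8f427ae4172105ec0400210120015b454c0128728db30023684bd6db368db403b800000c08e6cdb440006cf840001000367c0c00f0081b3e5b800109ab3a419a119ef8f1b1c736b69750627f0b7f0562e0cb2a5ee1d10f6c8c54aca5c91b071a290dc902d80d8068de70458004000d9ea59b3c0421c38e18714dab00d367a9504481f9ba2dbd6ce8da009001b681b3ed9e1b414608d0418001b3c87020811607c6e581a004edae0088005b3d4a04f5c74e39000b67a266d13679b3ad984dc012d9d4ddb500116ce840da3007b6700b0008031b36128010024d9b05c010da06cd04601b007b66411068824412c09e8b2004800ad99a4db420036cc056d9e001b65c2a,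
  nat_lit 0x6fb07b5b6a0680000f242483c0ca05f6db36d5b6836001c024dba00036d2a500036d5b68688001b6adb7064000de16d982e0006da36cc0902c01e00a804c025b70c02a01400036cea4009b6d1b663c0030000db40e5b6e5c26da01c000003002c8183f31e28e9db74db4a8c00a00b6d99740126dbb6c80201d0049b6264003db6adb00040180046d80ca013000b6bc640038009b5c0a80480baf347caa17d0c0ae488b36baa200200088041c11098708ed2dada8400a3f80dfa7203847613b436b2a00062870bc67696d597a3fc1ff0eec7320060020015b60daba7c01000d6d502edaf005b6a4220010025b500e3d3477a3ba1ca0008008012006b6a29e0018031b4e10001800eda63407161b452506c941200e001b69a9d,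
  nat_lit 0x1b7a0016dd06a00203937a805edba63c0040d902300bdb72cc00000e41b383c0e00787070009b708b837814c099000b6e12174b061825edb96dc06209200036dc390483979b6e3bb6ec002db707c002db86db9a20046f3b6d8bb00036ddc400c8001bcadb52e80020006da86c0c507238b4002db5a95bc6052000b6d5b695538adc3a0c601b80d0066dda6f60001b6954817434edb41f41cce2005f0001b688702f41ae0bb705029c0ccdec0210001b6954010c076dd96dab6d1810460b71b6a3e802011e06700036d4e6033021c0f0dec02f814c0a403400036d6a701a182db6a3e80680200006db36d4076dc0005b6c1a36e9b6cdb508c000db96da868db800236d436005372004e02804c37fc11a08900036d6a6,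
  nat_lit 0x60035ba011b758022dcf00403addb6e786e002006b738256ec3765b9a1b0011bb2dcd2e80120196e603a0196eab72c35000000818e0c5065b744008000ac40080086e506e008003b724366e48029b9200000187481bce387195600040063720176e58029b8e1a000c012dc60d43981d80f6a5a83dc1c5759804db8d57803db98dc502802000f6e206c00701e01e00eadc426002809c708b819b86ff003c0e8dc207c28c0716e0c46dc16e484f428014209eb725b835703ec11608e0083700e46e00011b7e4a3711b8adbe0fc002dc101915edbd001000dd5e0d271638adb7cdbdab5b7c0016de040dc1004064dbf606770201f0180dbcab00001c506738a1b76840001b7edc009681ddc00069033baaaab,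
  nat_lit 0x60056f01ac01071a026013616e0baba882d2de078800800705138d839ceda0e506d9bbf5f0004128e390f1872036e1b46ef57a00004902c82ccdddaf1c5e0a305847f813409b71e0011bbb5db77c004ddc3700040b071e8325c98a6c5d92ec6724aeb9612bb86322aa3fca84c6272c89ca32ce726a77131a62c168e3b059b960006ddc00057400207c03ec3561b875ea9124dac189c6abd0458405212bc10670f0219bb8780f20c9003800dbb75c802013c09d0fc84001ec0016ed4a00ad059bb84206e570020005bb35c03d41c60e272838cc12608e000b766b7000b765bb0128239c6c0ae4bc8289c6009f0023762b66ec902c8120022039029f3af401bbbce86ea22d8e208e04733459a4c0c8a201e971738b4006dd8ad41cce2f04e8009baf12102dbaedd61e080a40b6eb0001c54e2b0f3143a0573469ba4f45924c919ebcca4c9d0db32801c9c2c0c02051022b404c38a1baa0f055c000dd50e41440036ea81c088001375dbacdd5605cc611172a8001baa5c3950222e5a016b799bca02c7140001bab5982600720026eb3754e16f78001ba86737b4002dd407c06ce22048823c0a605203a394dcc2dd4ac806ce5f6e9b0e000003009437619c0aeba2c02edd39a000a0156e902e00a009b74434,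
  nat_lit 0x3ec0001bce3ea0f17ef0a1000b79d200038005bcc1f96ec5dca29000b799666f48005bcac3a8ac5d43b0000b7954e6f33795bc8570ec4000de415076c2bb50e0001bc8a7c98c5765ae6f2b790996f2a0e26e25ae6f2170000000b798ce0018058002de56f248c0016fdb7f0056de5b0402c0666f20fa0006f9008ce5007b7bc000de46f1932deb0003790346f50001bc84a0000002deb6e80023976f19260016f2378c146f28005bc409b799bc6de2094000de56f106ede40003788b97aabeb5bda00e6f48034008de6000378ec06f2b791bc6d980003721cf0f53900136008004d7e17004f827001ede31e5bd0de76f10760076f2b78427,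
  nat_lit 0x6f98005bdec393c4a27041000b7bd4f6f837bdbdc571348002dee0e40067372511251fec49181393b4002deeb0c99e50a2810001bda9093ec96e4b500037b51725ac140e800006f6a9e2e300e37b40e30ebeac7080016f6a36dee6f6b7b0ae1bf8001bd81c8df5f4e61300037b12030b8dd86e80006f64003742121280000dec46c4cc0006f601c2b600037b054133801dbd83e803dbea0036f6b7b22c3540001bd62a093c000deb038fc23991c10005bd690b7c0002dea339e9c3814000005bd460b7b4002de961cff66621c30005bd2c137a9bd2de82b9ea00016f40a80033ef1fbd3be9e09829ff0ff40016f458438032f9fcc000de7390ff63751b98001bcf000dcc72119a000379ce4,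
  nat_lit 0x702380c0970248790c32e416b31cd3c525f116380eca00022900013fc7fd14e12b754049d02080a702380ec97010015c04060018006e0102c00a001700342000000b7fc1500037fd00f3bf468cefd00edff4c80091d740f2c5503c81f40337fac86fea00cf468036fea14dfc400b7f00e00100050328185632b390ca89900258e00040f37f877406201c4eb15413c21364020026fd58cdf900037e40c6fc8009bf202a554000df84dd4109019ab23b26a68df4ff37e5bf162b7dc00adf7031bec0036fb0cadf5000b7d4dc0000005be8048001be8a055d12f01744a056fa2d4df35022e8577eba150e2811be76237c93ee9f64fbb7cac1015b7ec006df36f94586c700037c4391320001be23e9ce20b24c4000b7c4ca6fb0005be06740549864f4000b7c0c1,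
  nat_lit 0x3a3831c48e2287d4618a184f6000704412f670013829c12e0820407118278f0001c10cc3c76304f46120bd11e8a28d7b50001c11670a18008e080393160037053825c1040b83c000e07339c1a00070383ee0b000b81cce4c4387002e001703bb0e08703b818bb0060005c0c1c86dd412a0e3e8a6c535e2b79160005c0d6680240169860003815664c70005c0ee067028daef493c89984c42617ab26453200007035989880003821c0ee061b244a0070018001c108d80004789f31343821170000025e7484b834002e07010002e07703046e0c000b81804000a5f50d92ed163b0d24db26911bb81acb7063cd5c0a1f8001c1897c2bdc0c00070202e0007993810170000005c081b3818002e040d0004e04701846000000b80c34,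
  nat_lit 0x2b3002b851c26e12205c4400170887e20238e81c4002e1165dc4200170800a06f8cf08e8470f5111ebe1853e0017085a0e20000b83c3f155800dc22e107078d8e1f00038380670f8001c1c02b87c002e0e0185480090028005c1c653878002e0d0fc0021fa38b813dc1a608051c7ee0c61c0000147989ac008000b82c04000b82dc1411b83c002e0a01000229e7ab09544aef578c99c603e8e0ab3800af2c70495c000007bde49b7050001c100b8001e52e082e8016e14704012e13000b820017939c483d40017040ce0091498009c10e0732c3d0719439486149ea443b68a90002e07b3c000f7a714a6e2870003821c0ee062044fc0027053825c1036014cdfa03b000382243,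
  nat_lit 0xea8000b8682e0088005c322a03444542337c523cd16a26412a8009c336a805803424e000b861d80008115c9003070c0eaf6d017385c0d00008e008f07bd90002e1870bb858810000900003078900000e1970c385d81121002800a00170ca36e22000b8603f000bdcc4dcf7e70c0d800e10e385cbb00000384346b0024002e16010002e1670a846e1a000b85404001090c49e2ba15808a5eac2287b6b856d470c8855c28148005c3800c0138116d30000021eb64db850000e1205c00021170917400470bb8480970b0001c2400800c47424a15e8af1edc2611103d1dc24cc88d0004e14709b8486d7a30855e8a000709164f447a58878546f8e12208e1ea60007095a4234000b8487d102c6b111d2355382988f14f96000384ad1,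
  nat_lit 0x1c3c00070e040000713b870200003875c38008025e6ef450f587d83ea11307e8001c396c83ec004e1e70eb8706d003872c00c00070e21c00579a85842bc14a76abb5022e00070e5b0ed200038700e79f0001c381c878c078e1c1f5c4ce1f70f3875c38e8071c000e1b0e438200070d81c1c1000386c540ea8019c363e88cd618b11468ab815bc2907c60005c376b80004bc02a3944f4003000386dc3464b874000e1b02c00000470d816003000b86c0113d8011c361c8001c38e1a36c000e8500096c0975830260000e1990c12e35463bb39e678b137c63e10000e19b584e800070db869c32408920000e1b0384920080013871c3664b888000e1a339c40e1b70d16e00470f38683a,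
  nat_lit 0xe2395b8c2256ee2342824e00c0040005c468db891c46e222b800a0007110a8e2f0080484000e2232823a01900c0001c4460b8d404e1ff00038894e7ab388dc44d9b8b4008e2307c010001711808001711b888237138005c44020005dd012a1060834404f5b7ad006dc456e0021c6ee212b800000608e936e2200038801700038d1c405d0005c44e20025c42e227100020157aa07edec421f091bb842300017105b600008d01b20f08d0009c42e2070fb020127a78050000e1f90c026f4d0f28754394f3b09784a0000e1fb682120060018001c3e650001c50e1f0e4000e2e005348e22000b87834000b879c3a11b87c000e1d0d1c3ce1f70ecb800000203f9b3,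
  nat_lit 0x71b8001c6e0f38dc02418f7a3869001600971bdcae3700238d8d371c001dc6a1538d001ce340fc0126fa1dbaa387b7111001b8d2e43868f614f23b42e6002800ae33b8dc6c004719054e31000b8c43f2e3170e18e5270ca865c340003718d8ce30001b8c00c7178001c64a538c1c5ee2e095e7819d0d02eba7566fb37b0005c5d7138b4002e2d030de03ad5420f44b9e5c3000b8b5257160005c581fc3f8b8a53e2913cd5e5e17b00138b2e17158001c560638ac004e2b015e0e00071526ef050a43c1042cf74962a8a8006e2ab81c52003714818e2800038ad4a00138a1c4e0928a145a33798688ac45ef78001b89edf7130005c4c06389800000111407c03921c8567ca611e48f358a241568a4256015272a0349b9bd0dc168c92f49d3f444f4f0477e04edeec001b79c4a00271280a14700038901e09904b42581fa0fe2866572e257125bae23000388c0c,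
  nat_lit 0x1804020f015393c002000722982e460010035ca2e45bbdc9a01e72a0069caae5b72e00d8002e45bb800003406041e0310013919c8ae441b1c94e537258001c884c392802801772839440460100088001c8976b935c94e46722b911780818095c8c9b91e4036e47078072006723a6e052000391c1e0ab05d46163097d90934012e470005d8e46005b918040020019c8a1a0098010e443200520047218021530ae4058670a3e0130091c875c390c00ae4234dc98022720854e4001539003f0130935f543110b605a803ce40badf30f9d18185b9e4c02601038feea00238fdc80e4671f304e4900f38f42a71e006dc781f8005c80e41ba400000e0055d000d720805de3a1610503aa41420f53cf9e9468682141117062131082df973cba400b002000dc7573b8e9c8001678e058064a335040ba501062861a7232d0de8d346a4a911e12ae8e1004000800571cdcce3800238e005,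
  nat_lit 0x2720068c2af200744e09d30b8034739b200322a051214c01902927473600b8149423280051848a92020028158763b90014271898016eeb21e61600b783a00a710053c1c4508c002473533002022d0b9778010fd6401fac0071845260063049528610033bb0ab42f80141c84f178800a0d61bc122004138bbe00376f08a0d70010438a98a3800c1a87846280040d485225000176c892e4b0008c266c000b924a136f8000004781b8638ad1a3d68001f9afc8067391ef27e63f1c19ae46000391e4847acbc5c8c7bb14f8a35f96fc60663916f0,
  nat_lit 0x31f806058023191002e2c02960020161440ea01701e1d862d00b8404460850058738380059e4e5284d402a39c0a002a15d4006060147a095615a0098e62f50093cfa172fd8050739ba80562ce378dec02862c29449601410314333c00a0d046f556804e098782a8c02504c28a6da0122f988c4a20088d62f33118040735be804017e802de401e0b82ad6e800e05c94516000783d49e094003c73542003c24c3784a401c0f32a54f000f0900df0130073c5c43094003473,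
  nat_lit 0x258044ea628811e0220311d81220108e61580110e63a9010bc561719680882a8218608042398c90042f641bc2fc020070953042010bd7ca30bc00801b854c6280422d0bd18f80218f708cc790101b80ab630007e3d70b896003e1e0289fcc01f1118863cb00f8db4429ad807c9fc5193f803c3c785445601e0f61d861000e8e64b700ec1a4ad84180706f05613000363571bc6e601a13a1140191b395708800c0dcc9e1d78065de82191480320ce10a79001977488a45200c030442,
  nat_lit 0x36d00c8d8c378fe406228bfd00622191144be0307e98923880188c309b0180a23610180c23ab0178e70b70178e211327000ba10c53bfb805afcb3d617402e1c588c4ed0168e4c4285800b474e3913880583aa29c9cc02b84aa003cd01509d0b10148e484585100a09c47a20a4050f1f2ae56002778ec2e541013bc3c495d9809c62437914804c35d2948a40258338847420128398f023300945c050c09c04828b3cc0482f71198ce02317f1570380110a347f0108be4a2,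
  nat_lit 0x29008039832807eee82882c20410a4c283f00208570ab0cb0100731f500fc2b85100002680400e0dee98e000048c9d00000fcf34c7800c23c03ebd823e03d1cc6b203d0db13a35c01e3e6ca50d980ec236549da007611511810803a18422c0391cce8203981e89723401c412c4718400dc4e91b00d85fe22c8d806a2f128a44a0358259e321d01a8c3ca938580d46277a885406a28f24850e0347e510e2ab01a3fd8a315580cdf8b0b8e8006710916480603329b14a41a019100cf4,
  nat_lit 0x52b027438c4b87f81347b023c0e80982714c009a3e140063204c8039ea52d025c35042388012cde4231bcc09471024839404a7b590e8820250554f02c881286be3791d809432b10d31204a1e480fefa00200f4f34cb812218a24c9a40910b31c8ee60471d58e277e0230da4463a2011474e038be64cc0441d393c7880223f5046052010c3b252c9940841fc2916b804211c8089035a40105faf0b8ce4084289cc008432b21da7804319e1e08060210cb88777c0109dd4228000146041054df0efd020bba4f0,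
  nat_lit 0x97a00045980b97da7140b859640138005b2ca42f49702d9c3c9d22d0168e125091740b228b1d80b07082785b00581848aa05714604e0581159522c602c09e0f0816015c4cd7a89640b6308ff00b439802402879c2440b227001801e79c3a80ae28800c01c79c0880ac308a980aa2622ac55c05480fc2e5df00b43780157e979002a3e10045f85e000a0f7c0157da66c00233b28533a00086e8920100281e60131e60142191fc013c731d2813c61873013851,
  nat_lit 0x3e700da30860c0d83981b86a806e1c059806d1446f206d1385fa06c1cc6d006d184be006c1a690f29f0360d81133d501ae152538d680d4274a840d30a08525240691a80e47950340dc8a7859819c613cc01986a455ca500cb0a327867e0651846e80641cc1b6064184edc06385b08a3760310e70790310c10770308982fe0300cec063800bd00be22503800226e0025ff41200040a801f7f00e80ba798b840bb0538504d605d182a2a2e102e408614,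
  nat_lit 0x4b380eb12111cfd80741e488c7f203990504927d01cc63c5200d808c7993d80e50492925580731cf13cdb8039c3c86f45881c876e528edc0e27852a4f2c0711cf9461260388480a57b381c1ecc7a04680e0f628540000013cded407108b1e0f600383d68420de01c0447ea81c036654916c0e2fd63c1fac0700df9e8a0103817a4f023681c02f252cf080e25de2ac0e20701cd40006f2ef0923c9038085c431e801c0434378f400df00a3c079806e10f144c9703705f86f0c481b473,
  nat_lit 0xced0421d646f677020ceb24f16ec106289e34106304acc10426572810279e400f22080175c8e07f95b08479a03f09a0000141e6424000bfa804f8110840001d885c05a07b3cc94007b8888863d603d0e60371c2000619004c4480005d5c0408c0783cd8bc07814188a75503d47161521401e84e89a01e45189901e45196f81e622025cb600f111011ccaa0788b69567ee03c0f586f02910c00ee3841340ee30a3740ee24e2ad184076128c287e703b10644b,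
  nat_lit 0x9d607f1454840808f008a00530c81fcc437c13b00fe28af740fe78811979a07e3441572b503e8a346c03e1a10a267c81f4f0e3780a210207f85360d0b503f8d3006d828bfc0fc2ac2a4aa6037172948323043427c8719482185e051999410c5c0274cd40862dd20120a04346284b9018214b7823996c1085c01bc04c0838ca942662041464cf0a628208636066c1001329b0411872f816501dc4e23e81d87387d01dc4e8ad01d85100191a40e2612be211c001184c8400016b817f030278210f3,
  nat_lit 0xa500f43985200f429d2922d207a84108a07b03c8a661426f01e60247607d80f039997c10008f12e44007f04795922303f02421703f0fa00fc380bb00fa288f900fa270f080f82885480fa3086200fa308ce40f839808013c07c86473407b14662207d1e80e530c03e0f60ac1ea81ec6140a01e877821059c0fb2b13c411e0822b71e2c070410c2ca350b00021ac78006c10479c8240063811c8cac0021c40e238500089d21100043d84900f01f8f3,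
  nat_lit 0x920803cec1a08022608ce8803f8b684392181fe24c899a440fc3a21c624a07d34f1e269603e0e86179b501f618c043c2086807d13887007d9701ead9903ec9d46f6e801f50004ecc680f8508bd100207b1cdb3807a3fe14516903d1ffaf517901e83da51066c0f4199295fc0079145fe00790ca9d8fdb03c0a2fe403c0644a31178148406548f440f61dc3b049007a1cc10c07a184472079144ad0079319dea94303cc0389e53f01e4cae055c1cb22078318dea65d03c98b8a9,
  nat_lit 0x40f02105d99f820c445850212678248b4010e39997011039998011428a20411265585c00a46f047c3246f0470a232b0470c24710468e66d404698b446073023061005803cf30038034f305b0228610000b68118967c2e7dc08b85f90f3c40458bbd1348f02285da3880005de0899ebe153d70440bb4a343702208be005bfc2580871863680861450be0868c8800f0925482146125502107331f000c8a025c85000518611c73000118400244c0004840ed,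
  nat_lit 0x13f1044a2b49d4a602211565225200023360046120b80000c20420431e73b30434560729ec8214796388f20108913bcd2660831e41e09130410ee4a2545003e246510df81043692a42220821382220811cc21a08113821a0801cc2000801cc1f40801381f407f1ce50607f31a8e528303f48287104381f46133a01f47394a01f4c7c231bdc0f810929411007b37b9e805e0391e669803d8e6d7103f9a4c9d34881f87399e8218a840f0214aa,
  nat_lit 0x1c382145120982144e20882105120382104e11c0234611bf823051059823061224022c510840230614cf823267a4eccf411630d0a411480c2910a008a3a98968540449d4c714260220ea84e97d810e30972c10f14d1088140891386e808814630c0881848300871ccdbe08820515b28f043903cac8bf02186194b021481c781a9010e399aa410e39ccfc11028d3c011070911a5580871458d008895488b67d0448de8a4,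
  nat_lit 0x111808a1ce76008a3b7226898044cc00a74518220ed44e964010e274eb810c76928e7580853b28928820430e68850430e63780434248451b982184ae23096410a39d42c10c31d1bc63e0851cc47408610d94b0620428a2553042c2809d22d82104f0508a1c10639c6a810625b1bc4c00821cc8a408183f9446b80420e69d804209dca39ae8211b662d1ad8108399acc10839b54410a6962886420850b9952b600429a80a313e02147320c82184e,
  nat_lit 0x38a04889c00c1c302421a1c782404e8b2023c51a34023e8cc78277011c9d82906fc08e138da608e1325520901822ec08413a4380831449e40811ce54609211134e0941b80974490498dc0ac794024a2a2000c313a40911b595643204889c1320480a243b04809d1b00478e6a5e0479cbd0039682386196e02345122102344e48802347b425a47c1191871c535a08d9868974410461df8479b6022c610164da8117302860b2408b41b80a707,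
  nat_lit 0x285c08120788e42204009d1dc0410c31c80408e645704089c06f22b82021b4ca02004ea2181fc5105a81fc614b501fc86e25d0cc0fc4372b086807d13adf007d1f61481d804289c1d80420e60a70420c21d40418e61de0429e00f54ad821639225d13810843a2b135408321188a96204110ba179e1820a69856a24c1027db29d13c0809a4a0066c03f8c277603f0a27170400e6f410428e66df04409e1fa04609c9f70485200f4,
  nat_lit 0x7b80f68293d43dc07a1cd72e0794ae13cf9503ca7e614a4c0218fb239280410b3601c678408418502008413a6e6083144004806041c3280a0410e73eb0414dacad4610204fec389ff8100274ed410242d2964080851849340851841fe0841464080851866580881cceda0891852ba0898ea95a964044474cac4ae821c84455a4b810e30505410c26508010a27a4e410826821810830ae041069462ae8520825bac2d46c041472072,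
  nat_lit 0x102608013800481103fc3738e03f8c200140a01fa1ba1581f906a56d0900fa8132b272c07c051de891d03ecdf44648501f66f256d0880f87e32b122a07b3efa0007b03d4dca1420881f22384e8c000f6398b480f6398e640f839a2400fa714400e2407c14460407d1cc5ee07d00142a2d903f0a323103f8b5c6f87f81f85129581fca5e54be280fe30594c0fc263e140fa2fdc240f8f883c5c5e07b17579407a112c1207c38b13ab9703e255c46,
  nat_lit 0x86603a8e600241d01d47042981d07348801d10be25d0c00e683c29d0b807213a70c0711ce9f00771454a807b14299207a139d1207a53593a40304089c3fd04089d4c8040d31913516020145253a94c0fea474569ba07e1366c60831440852160434324740428e62df0428c31e60420e604825d82121903a8fe01070d00b0ffa0838640563f70414360000149e74c70415304ef515020544a53a9281014c71154a6080735124a4703fa8b087,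
  nat_lit 0x8710358e73e803622c116a0f81ad1205623b40d488d2740fc07014460e0701842d006f1442ca06f24814a64f03a15fca15f601d137224566c0e74921717d00721364c20721440e447e0390e044b0388e64ca03c89c4ca03c0e64c403c09c45103b8a349803c126472a6b01de470239ff00f630a79c0f439805411407a86496407914498807913813207814411407818693c0782540e549e03b92a07108681d8619e281d861,
  nat_lit 0x2910069a000e548b0344ff87144f019c4e0b2019c611b4019c733c181a87329601b06822301b80d628c58c0d83996700da66d3d4b3806c1ced3406b0f2944ff70370c37790368a278a0378e666903785a4a14e401b84f0f781b4739fa81b516e7922680d940d3b912a06b1852a406c466de86fb0358a35ad035d2b5165fd01a937a533ff80d2a7f10d7ec06813d7ec06713402d25e01e8e002f05280f21a43601b06143701ac73,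
  nat_lit 0x23140c439a26c0c428aaf80ce28aa380d2542a300d027aa280ce26d4c00ce5503600cc272a380ca27835c0c839aa240c6222aac0c627d4c00dc5554c40dc552a840dc26b4ac0dc303bac0da263b5c0d82edbc00d6222a540d6a8b2b6a5606aa949dca970348a0a9403409e08f0360c288103609c11003609d53a0358e6217035cfc843a0501ac6145581a87343881a84e43881a473,
  nat_lit 0x8e0451468c60472a8d680461846480471847fe0461cc3680491cd20604b1328b204b18123404c13a9f604d2a941604d2a1ac004d182e2804c131dfa04b175e0c04a1112040512a921c0511cd1c4051a271df46d02850e0a7472814e89077d1200a543829e6160521454180521329ca0521800be05a1440b44f502d0e022802c8a20700300c251c02f8e650902f8c325802f0e6042462818c70,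
  nat_lit 0x49600a4a8a3b80a0aa02900a061497009c4f497009873a3b00944d48f0094a8a368090aa48d808c4f485008c5003600886148380844f03580805156480f84dab400f86056500f44c05000f04e05000ec7356300e84da2881006047d80fc4c041010c6147501087347081084e46f810451]
theorem S0_c : blocks (facts 12 5 17 29 4095 131071 536870911 13 8191 10 1023 A R 32) 32 JS0 2089 = true := by decide +kernel
theorem S0 : On (Step.{u} RG LW par A) 2089 6601 :=
  steps_of_blocks hpar hR S0_c (by decide +kernel)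
theorem D0_c : allB (defOK 12 17 29 4095 536870911 2085 A K) 15 2 = true := by decide +kernel
theorem D0 : On (fun r => defOK par.W par.WL par.E par.mW par.mE 2085 A K r = true) 256 2176 :=
  On.of_allB D0_c
noncomputable def JW0 : List ℕ := [nat_lit 0x8b322cbc1822adc193145c50a1a0866a2c3875314f8aa62c086661a4c1aa2d2bbf21bf8705fd9c25ef127d9a1d6879df68c2521dac473114c5ff12069521328aab137c0e22acc1422aec51b13ac1ba2d4c1cb1448ae62da8b722c67dff14e8b5e2c9c21314d7e8a2d38caa324c5ca326c5ea328867e1a1c6161a58c821a787921d78799f74c25a1e8c57df7a7ec9f7c7dfa1e0c63632cc5fa32768b2329c5222dbc61f14c8c8a1a6c62a334c6123308ccb18f7dcdf7bc625f8e8c8e1fa8cbe336c61a331c64718ec64e338c62233ac64233c8cfe3408d0a3448d1a348,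
  nat_lit 0x7e0617f6a5a180c1adf94800a00109edf520a05fdd6b9dfe03c46efa15c9f54bbe5fd567cdfd87d61af37d69ffb6ce1aef801af137f961be8701fedc256f088a3b112bec228abeda28cc46a269bfba298bfd3118c41b1158a2227b68ab10e8a6e277c063121c082297bf9afecc0e5967857d972bb2216ec0d9f17c145f0b77be0a7c1bee2c860d9a17cda185c1b1f2fc1cdf3fc4ff136c13a2c4c14a2b38aeb13bc113138c1c22bc8ac62c8c15a2c77e622bec1faeacc2161b67ea3082849e12dc5ce1318c361338c5631ac5c1a8ac5eda8c86722b7c1da2d5c1ea2af,
  nat_lit 0x7c4216fc129f09c14df19605e0a9c11580d859580fbb72184c101f3dc1c5f31b5faeaac15ed947e21cf7c206ea8b9d2192ba4218f8641a2e686e18c68ca18e695eead7b05ec47b19a7b849227dc022299c03a28d8a42271036228b036b11989d612c84ba280848710fc45b110846e130bf6a296c5de312c3b9a4a67d9a4e68070d2c5c70cc8c31ac0bf0afc8c1dde3f861d973bb4a189c1d1f27c1edf03662e101c18599585dd9a07bd6179c179f1bc195f418ad22b6c0fb139c1e22b2c5022cac1722c5c18a2bdc4f62c1c1222c2c1a22bf8655a7586621966a6b083,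
  nat_lit 0xc0499b1c06614a843701669c5a2fc041a34c085a5c6551e1b0bbde400cd9e21655a0e48389958837d95a83aafed83a5953835d960b941e3765919660886e5dbb1df121375edd15ceec47c51f133555f0f17f5edfb2fa0d5c0decc2857acc67c35f063681f16bb2df18bad1f07367df08bb01f0abebe0acbeb1dd7be81989777dded361d9870f2ae1eb8a20a6bea5dc7be999916615dc5665ae2d3861ddb7ce9f390a25f350e69ed7bb6df383691ed50a02ed8b8420a3c1b4e5f860ae18bac9f2d3e31f2ebb51f307ccdf2c3e0df3cbb7df3e85b6feac13ce3085ad840,
  nat_lit 0x69c9a7468eda786979a7a80b9b257fd60307ff1f826c1a17ec11a17cc1a5f866ac9a816a5d9f86a6dab400ac0aa09e80ac583ab297021c0a3c42d113c49c06b9f9e7067c9e6c79b9b1f7f69ec90736efb4f31fdc7d5df503b25f535625f556ba1aea6b0daee6bc1af2bc3600057d1ff10e6decd7f89fe14b35ecb17f2effbab9fd46cf9fec7d39feebc09ffa6ce5ff87fdaf0982960adbec5dcf826597fabc20b1825c096bedd60165320e5bfbd94e83741bbac120ef836d611bfd409c8a1b113c10a273bed227f89ba268c13226abfca26cc42e276be6227a68ce278,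
  nat_lit 0x6c6fc98315e2882d5961b97de2b65a1e3e385ae5c7be1ef13a01ee73a09ef67c91f213ab5efd39f9ee5b9120b3c1d4e31861ae4c7bfdf2a3c21f26bb55f287ba5f0438e5f00bb05f02c01e106c011986bfe1988774ae1c3675dd60d22e1f6606100c005983bff9990b885dd864a99949b31ddabb45f2038f9f1f39fdeedbaedef03901eeb3a0def2b77a0fdc17ede285dade6bae1f0537adf1abb29f1cbb39f2b3ddeee1bb79f40858efc6c0fce3b85858417c8e188c0eaee0c1e5f1d7506103c174ea785cd80ebaf2178c161f01c18df2973a5a41c126d9285a5cf6,
  nat_lit 0x7361cd43649cd6b1a1cd17309cbc0b0dcbe5c4dcc0734dce573f6d956d55cfa6455911b9d588379357ef7a0de75b9c9e85ba45acb5fa97e168697ec82497ee7af2ea96345ebe79c9a5d7326eab7b01ce27b09a4583fe107c02597c83cd97e016210b83c405ac03c05c06c81b403641b8bf341bac43627c847226bc03227ec426270847a272036e26d8a13111be722818336279845d9e3846a118bf4b0176bfa0cf832e0d3bf6db046809a04c3bd9f967f19fe6a130d3890222c8481a8688f622fbda30cdbf61ae47889e1c0fed95908d9e2078f41b582f9e4108e195b,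
  nat_lit 0xb889dec62cd97d12f9dd1b1ed93b665d9ac59bd93165eddc43959dc63865dc84edd3cf0a229e94f5a9e6b9dde4e36940a3583de503941db436c0e5201a8e543930e4e0119dbe0122e0c39720a2be90e5ebe9ee16708dc2d3e35c253d3ed297b61ed20319ed40a39ed6bb59ed33699f340a42ed976e5dc33e08ea56506e193811e053818e080bd2e413802fe8c134e02bfc185e839efeb83a0dfe8365836b552fdec12ed5885aad5c859a0abc10d821bec982b3b52db661a9d2a502edb9601e0a8bea18038285805b6edd2c3c2580c3d38f2db48209fc106d248592d28,
  nat_lit 0x61e1912b1857f90cdd8713742fe9838cdd283858481122fe0bf8c44c83784506529e1a62e41b90bcee4f789de360b8d9520c95e2d67319c765959ad0dc6c8543910cf087a83308810e6501ea0d13714113c4ea0ab54ad463551c721916d506d82cad3559b6219d1b64b2f2cb08e21b8a0a6acba6dbe0d4bf75b7c835acc46e35b7f35cecc30c6db8971b5c773685c6f5fead5dbb09edb0fa5f0e1396ec57b81eda35e5edc13adede6e15b8f3679b87651acc7beaa0aabeb580bbe89815a8c2f9e8269455be8425858f9638361963a0af163c3140c4a3120c4c0f2cc4e,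
  nat_lit 0xbc2daeb7fcdff97ff5fef7789dd936459823315dc9b86ae1d633ddce0ad1dd056a95a6055808905bc09556d15b201dc091024c08b5196f9f825946782601f7021c150054ab1b0215600785de2a077de293769e2cb94de1d632d94f0ceae4e00b15c600b95c800c003257495d005b15cd05b80280cfafe183683408370342573c0ab073161002d6b2856de0b082bc097bed416057560ee83b40adbfcc09d5f157d9be65744824d75dc0559bf3906114b272111844aca6399610e6d4a11066d99b05f6d9b263019b462c18c3c0458a184318d3a0310b70bba81e4302821,
  nat_lit 0x68f9a4068e9a428141a4472ddaa97fd1cbbbc11ceabc19a69c11dcb585a1ceec2fda80bd3222a697da827015c1c3ce5c1b3c6dc12b469c2c3a8dc173dbed27b48dc0b3b09c293b11c03703ad130b7ed103b39c107969e4f02c805b02d1e586bf5e6857d9e5f021005dba29e71b259e847a19afb7985e7467d5e6d79cdb05a7513ce02cd3c74f353beb45ed0e3b21c183b29c074f4eaceab453d556213d9015e0d16b0a0d2bf65b1e6c25b24bda605e6bc5b144b252c14b32932191293501b19ef6cfeca96d69b587b39ec857d5eca4f5deccbc01f51a531ff0561eefe,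
  nat_lit 0xae216a838feb8a3abd6ab7522dcd3a19d4a0ab1d4cb772dd03659d720372dda755e0fcbff1d64bffede475d5d673a4ade39b39d716f25bd337a9bcb5feecf57bb9ee33981eea3989eecbb31efb3991f1e3999ef375b5d773dd9d6f6502de73892e363898e03101ae40388afc4847ce09bf3185f830efc78310e1382dd8377825e1338e0e3a651ee4db3b2fbac0eecf08582cf485d21058475d2bc02982a74c5d3fb1818204306db8b70a102c000efd83ed8043b5e0f9c164ea685c8f2cb615ccb3615cbf095dcd0b645ce7098dcd731ddcc1b619cdc73f2d936d45cfb,
  nat_lit 0x5ebd9e7be76bd0825575c66e59e2b23d9e067919b56b220cebe6afd58331acab1399eb832aca8bf4ec9ac301a05698222b6989a9469fe22ebd4a22dbf59ab8429d0b30fea823430a820a0c50df0ca90e208dd0e037bafc582fcdd708e5849b2199d665a592f9ca2c8471d5c6735eed59385dc71672ec803a06c8cb275b4477e60b2bee4dff82d2e4abafdefa3ac1efc3ac9ef7baddee23ab1ee63ab9ee4c00a104c015d23bfe981401beff683d00e1bfe4116ad6d6693671659117163d6252c2d36698960d2589864c992c64ad92e323d9309af0cc23234cc69b366ca,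
  nat_lit 0x70adc1d3ce2d253b1dc27ad6191c364d65fb1a6b54428909e0b090a00b1109b3606bb72d54d475c48d5b677aca7b291b566d519bdb0a588e3716c261035887b0799133b7d8890bc988db17d910b121875b1717e5b0858775a95882a4e187f6bd5e5d369de81053de5154d590fb9cd52f79317585fa57f436e58880bd5886621586d3a56c274fc588c5f997e05f797e2b0497e4620187bae197ed4a0587eb1018d66342c4363518d2b62dcd53925ce0b1a9ccdb605cbd378dcc65c55cc4b609ce45b25ce36d4dcda0156ff783c00f483c80f6028210a84240a2c0340a4,
  nat_lit 0x350271d355e7120124d5c7081c1f3af9c013b02d1d6ff5c1455adc243b19c26a7613c0031d3d40a3e9e7a76d3c103113c20a453bfb84ce4f36c9dbf0128e55396ddb50114e530352e0db829dc23a88ea4650ae17624188f381d86f0bdd7f7a6dafe483b29babfc43433751e04377cdd61005dfb7122d4308f5c4a19a9c4c715efdfbf71c648362d5aa9c209d82b94f3beceae0b06586c61ad86e4fcd8704fed40ca7f1409502aa053c8adb73915d22a871d2474d1d2d3bd58023db8f5b6ffad0f39d9c0039e1c02b47ad1239e9c2839f2d1c703609ebe95c1a8282d26,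
  nat_lit 0xad11650363565211ad654ad3965c364166c3256b5dad1d63936256420d1d6405931647366563b1626b4b9a6a6ae0c666b13228c8631a4c7d9ade6b432526b29aecc973124c9e0af4c9b31c8c479a9cc4d038cc649a84c593178c600f00c4f62d98ad62cac3512c18b49a74c4b314a69812fcc5466bd9d0221d9c367399d2b221b49b296ca26d419c564f993a365193c5991935593d667395d65359bab5ca7953d106013bb06093a5a75d3af06113a306193b4a7413cb0b469e813913d8b1558f936c58fe03758f1ad31656365d65801aeb4a006d26d011e94719d52e8,
  nat_lit 0x6dc2cb1354acae0679b726d9db7e9851b7d10ddb749c78d5935ca727322cd7043a50ea0c628320c690d9b55dc5504a9c7304b1c4db539c76368dc615ff6d5b711dc5e35b5c6e0c7dc70a8014160fa14085052a0b71a9c6935e1c4b1a12d514eb53ca13993c613aa9dfb305b6d9cb9b8b1939b656e09b811ccdb631816cbbb2e1b8e3689b796526cc56d7db76aee1b863795b883c960f8bff4efc83e8f5ab6f1d3e3a1d80a42d5d2551114400d4943d0d51442a8b94620d394570d4143b538e09c826ea9abe8eadea8a54530d794540d294510946ae5084423b5670259,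
  nat_lit 0x111d364074e9a70401360a6b9378008d373009d36ba6ad36f052844d053136d4d9efe5bf893748380451b0dd8ba62e2c340acd8bca02d0870b890900b9108e6702c8165119c2b1f99c4b1d2ca0228eca36d399d3b20d9c60afd93d09559c8437510008f10fc079d0fe43510ce0c890d00c910d207c544a087d44c0dc144743e90f70c710db0c790e7a7fd3f40f713f804353f6a80d4020f81404078d3ffa83aa0c169aa163b16a19a81d40e0cad410430ea047162d47169ed4417ddc5a8e187408e2636c0ea072eaa0d5081c7d5010a6d50ab2d6cac30fdb7a1a61b69,
  nat_lit 0xabb55a704bc08803ec08a02315b302380900248094aba815104deb1a581016102695c700bd5cc00c403302615d103e15c903e80295cd173009c573218ad72b5cfac07360d72d193d7625cbd7465d057450185743b1f19be65159bab1fd9bcb0217d85f69749b04d75e63258c7632ac3f0cb58bd62a98c25f7ec3063058c4b0bd89c92418a0626989e42a90a807790a5082d08f42610940781091078909642750b60b1a81b42d2818424e81c079281f42f90bcb07587a61cd7e3a44ac1ab0517f5389d7f810017f6b8f9e12373ce126522e4b37c2e3736fcdd31429dfa,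
  nat_lit 0xa4d92af02f52d2a4e529d4aad2c03b0e92f17d92be4b292c34b1a93303292c401499eeb25ec9467c19eda4712eda5352d14b82934a78aacf4b793c3561a9deb159ac57fc9b43bc15b5932a4cc39ad8cbf33126cb628ec2c633ac3e0ad58b52d18b2d055e6050464b3fa9dd4e501d94ea01e14dba8954410c7543511b1446a8cd46311a144d11a9437a89945211d94660cb2a3507caae4054c1f456781f6713dc660825c65376dc5ca0b10de11dd0f00ced0f2ab6549b05b5591046149f0cf53650749383075135d4de937902bd35b07429b34d5d36e08c834108d1380,
  nat_lit 0x9a78c7813266a931d8c7568f5cca3a4dcc70dddcccb631ce63705ce1324dcc5b625cdd5b2da43b279cdb6a99aa8bd4daaa8155aacb5f5ca39261cba6365cb8b5edcaf2295cb46d3dcb268dda68bd35a6a8145a6e4e153770b7a9bb1441381a05282507a68223b3d0bdb16590357dd8fb567c0f76b1de69080de8058140a5640590d67d1b426356c9ba7813d002b93c5060d3a94ec93ae02c13ab061d3b0b455c1555a9c163c69c13b461c1e08cdc193c39c11528d4bdab4158c3b2d58e6c5de5c0315e5e0539e59027e0d0bd42fd4bf5dafaa46d28d4a29296020d294,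
  nat_lit 0x7562dd13b8adce03b5d5a753dd663631d653305d5c32866c80dd4cc79b3ccbcb3bdbb107a1bcf1445ba96f19bc536f9ba71032ce9b399bd23739bbd5ff2cf36e8dbba3701bca0875bcc5a756a93986b8b398d6aa5ad56c25b22b93399d6c6b785d553911d733919d4d75a9d693661d4b1836ddbb761d763bd1d61650ede5751dd5e3921d6e3929d706e92cdb0795ba60be9ba8b3aacde3779bce101ece86ecefbbbee1bc082dacf26f45bc3378acf13791bcdab5a0f78422adac02eae2591565136116620d46b55a8854330d3d43c095943aa03d0950989089099109a,
  nat_lit 0xb22d9d7099d937353d9c9359cd5135ea7269ca6724b1e19d15b72c8d67719da6765b483ac5b46b27db45ae416c35b2ab923acd6c752da0f683d54abbfed59563c98ee36cc0e003898f0641190207e18ff567411759ad91d647966db1ad655624d8d7b126c4663798c562a189d5f72c3162918a6ad59668366d6611175641b0e98c611798970d2ec38b0cd8ac36218ae0f05899b1dd92d363993632059343270c96317cc980d18c9a3298ca22d5cc9f0a94ca431c0c8332326b0323a6b35a996a35a916a102fd69f62f98bb0b1d8af0ab6c39b756dcc3b79d620ac9d51,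
  nat_lit 0xaa3d52aaa3152ea4f151db391bc436e1bbf0bd9bb77549d543a52dcf3a59d5043e69fb4fb911f4fc10f35a696a2ae1d6a000fd69e007291100f401e4a0290c6336c452276c42636189f9cb2bb6aee4d6f5c50d71b14990cb16d909637d90bb1458ef03a40f507098f4af2d72809b172c09b972aaf4abfb3629733a711763af32bce5d02bd10205742aff19e6b23973bb24575faa499e9be6d519825175963dd9eab24ac95679590aa04d09f0b990a40ba1097a0410b2117d0ae42c2819a0bd0d608690da08710d8a0d285804ad0e305350ffa0fa9faa7f50fd4fc90e1,
  nat_lit 0xa9e54ee04f14f242fd4f053b559904d957f566aae1a84940d50c142fa87542b4a8d2ec39dd2a74bad2bf52954bca522a6539e54ad54114fe39ed50009bd50242b682409b50af39f50bb59296463609643181d648ad4565d363d65e31fd65ba02281d09c281a42e10baa05d0a909990a104d508b34f0d3e267e7130ec4d3a3530d7f9cbcd4b1818d5d982cb3b2d50b410b14b4e9c54d4401ecd460d54d439c6cd582d767183214d5a6ed2cdf3712cdc142dbb65fc987661c9874a48ac1b5449509541950e067d510aa1aa95052d53104b5533aa6190eb16952db17575b,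
  nat_lit 0x4a7929a061529749ed29c564ea5c0b42adb505558f63f18f801458fa03b18f5498002000880240099262013d26c03a126a1a66905a5112e3a5269464ba925d5486a943afd529083d503ab0557608355783b0553b4e993a0004d3a202e93a44ef13b802f13ba02f93b5a74d3a100e13aa00e93a8a7753b900f13c400f93b1358a71c9a98d5e012cd60010938e011125fa7152e9ad4d657362d66003556494d629a5050935a051135ca6d29a800e538205029b25d85731370d76619ad74fb52ed42085dc6218a9c5155f157b04c94eb04d14f753714d604b94d801c54da,
  nat_lit 0x6da9b6c9a92caf19f9b68b2d9b8035d1b7b192db73b2cdb772cd9b783725b7526749a80d4c9a401f49a6ab0d57a08214e708294f9a9cd4d708114e004254dea9f14ef085aa9b42e553a508d40f0d7ea1742c542a093944b09494560951443a9d15980841579ab72adfa88946050c423a391d45035d8d7e319cd691620d61318cc79086e6b53248c8731aa6a33198c611830c65315e6af0f5e6ac3210c7431bcc7c9aae6a831f8c7b3110c4630fa699070cc423170c58314cc5a12c4c552238888221888a221088cad216663655663599565a0130021060526e0744019,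
  nat_lit 0x50993f5131142401d54215079403132141a099541c1bc86f40f7636f1bc06ec1b8c73e1cf07378e107311ba06ea1b9236d0e946df54355175456a89075551e8de07201c7a37b0ea470b549aa8b1c35528068d50b97da6129854b310b3e5fe35a8d492d6cd680a90d6543b10eb0b350d110da8377149c540832d450839c50b525c5f048dc6010cdc5d9c88d4535b0d6e11b6725a8254120b214050b293f750013fc0b313f90b393fe50a5417135142ea86ea18b531c681355c631961c5b00d925a139e93f1a152dc8e007341cc86e1160472fa4612a41c8d2a618112a8,
  nat_lit 0x980e600023cb4001e4b3ea96549c03e54a001c149e4b992e501fc01f01812635ce6c063a6575119fd765af55747ae39748005d73d923889492448922258890b385bbb0785bbc0c85bb900d69104a10015a44d282aa115165451518040551ca6b69a4050d37202093614da29a901fa9a6020136a4d7d3760769375170936c92488a0228888b925488d64e6ca16d29b476d319db42310860af90880b0108ab38ecda3709bbe0799bada0e910104f511e0bee857270653f0c8e53c0b9653aa0f50f610c10f510c90d3a98d4b804294990432a60a0e10d70f850f40c82836,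
  nat_lit 0x4a4928c4a2d28e0515290a4812ae4a152aca48e91ea4c52c21c4e92e06892a9aa46a8a5489530032d5114b692d74b652d3a4f52954a652a54b392d019292c5a5052e24b7d26b4b852dd641dac4bd4590881519ec9afcca32d24c990694ca52d14b272d5a60d033a60698265fc2d48b4d0aa0b5197ecb2c0814b30059cb2e2d2e6132d726040f64b4f53a14e404794e604814df9ae26c911a4cbe3300cbd50e14320dd14340dd943651254614fbc1f53a5ea34a979597080958d566eae3525149a0591498059aa57ab514b901c959001d14b143be85944810f108d6856,
  nat_lit 0x2cacb3a2cdcb380ba65ff9c84d3f2d4cd5f0ec0d6434e4d5004ce7193538d425af96bb5af16b900ed6b7529949d0596a5b0422a56525ea5d0f694aaa8694ac52d559607e6a64ab75594b0f2c44636ac4763718a73104c829aaa6ad3200c7a5d2ebfa3b8d767a7197646eb9bb036d2cdd170dbac5acd6baae3d6b802ed6b6b759d683a61d631955d5bb74dd5f647dd60392dd5d6eadbc20b9dbc13721bb892588b292648b022688ae22b08a622908a892508aa6995ca27281aab6375ca472a5cae72b1a6b6d35cb0017927c02c402549ea90dab11577448557e3c3d4f1,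
  nat_lit 0xa8454130f4941b0f5142026ee53e094e5300b049a753e94f504894e104914f8a8553fd0f594250f6141d31b66a29a94c5b1950c43004127d4a2126fa45d28352c94ae04694a104714b0a50d2e400480140058018003d38f014293ea71e9044b552d64b612ada4ed2914a8129b4a2528fa45a91f2688999267898d0aa49a0a9ed4f401e94d901f14f69c5cd4826f8d4a0690d3b549552baa3552ca4e951fa3ed25b0f6d25e196525c226489e2270893226c891af5d72936d5750058974e5cdebcf5af573a050573c546d4ff076d50f058d532aa019e8b24ea88b24175a,
  nat_lit 0x2cca5fd2658b2106a0b342d0cb1f2d20b4c066e6072cf2601047cb390484b2f94dc9bd26fc98506689a152a54af05a2a5a05aaa61949c98a1b9498c0a5c9871c187081c0a3738dc06fd8dd871c042c6fb1bc47171c387101c323750a7c70a2d6260f94d0b290104b352c90b1e2c70b200324b22984660e2d6a60c033cb5094909b31cf653d0b2c9c58e087380b247368e146ed1b9c72c1caa36e8df87308dac6dc1b686e00e906de1bd87241c8a37a1600719948c97c25e8980067097e94ac998265c99306a499a94b09a910c49c3049653b94a09b826d89a504749b1,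
  nat_lit 0x8df072605a63728dfc7161be46fe1c006fa8dc46fc262097d1b6c9840a58986263c9b91cac9c205ac9c4265098b2640992067497f94c89bc94d4981032099b260c9b226b25310f549b01c147141c4a3740a7871897e4b262c74b280100b23]
theorem W0_c : blocks (rows 12 5 17 29 4095 131071 536870911 14 16383 84 A 6601 702 cols 21) 21 JW0 0 = true := by decide +kernel
theorem W0 : On (Row.{u} RG LW par A 6601 702 cols) 0 714 :=
  rows_of_blocks hpar (by decide) hcols W0_c (by decide +kernel)
theorem idx : Idx.{u} RG [[0], [2], [4], [6], [8], [10]] [[0], [2], [4], [6], [8]] 702 :=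
  idx_of_cert hpar hR (K := K) (by decide +kernel) (T := 2085) (T' := 2176) (by decide) D0
    (subs := [1,2,3,4,5]) (by decide +kernel) (T1 := 2089) (by decide) (N := 6601) S0
    (by decide) (n' := 714) (by decide) W0 (by decide +kernel) (by decide +kernel)
end T0
namespace T1
noncomputable def A_0 : List (ℕ) := [nat_lit 0x1c29188c4461c10e06e22c1b90dc54a371028b04442c1710e44482e1118884422218a8a06042718289c362150a8228360891308783c8260f28984642d1588845642b0fa8ac342240ca8903861c0a08703281309984c1a2130888645481f0f907c4022a1510a82e4200b885c302180c02201e20f07821c2e61743aa202881d0a9074364250aa86c2441a08a8682ca210898581a8110a18501aa140698341ea18082040184100808401880c0918301220c0708481260e04a024124090508281620802881c0e08605981c0c20602080c0e08503020c060800120080807f0101f8fc0823f99f8fc0843f82041080b422a11062834122080e40a0318180ca06029014fea7f0228100640301a80c0440201280802a0100a00400a0000200000600000800fa4793c99c8e6662390988f887a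3d09d4f68753a91c4e265f3c19c12e66f4b1978c224b2688f0aa4423599a4d2a6a3521dcee2763b2990c82743a218cc6a542a110c824332710f4c484b2620ecbea703811809665c2e09bcde45d2f11b89243a1e10bcd8666330944808361b08a4a0a4321a15caea582c1910da85a2d1918baa6e37096c9e83d252980c066532894cac645229164b286733914ca6a3f2da1a0d0a522918fc8e6384a88e0888342122506a82828a0f87e8314a08a12623149209d2283019989c7a6301918f87c4311a10a05241e2418e47462d4808e51e22d1d98b85e6234708b91a2232320dc7082b4620911681c1b98b0588391ca8b45ca2311285c5061d1898944e21d1808944c61b0f18551421b4488545a82111a0605662412107038a130990643261f0f8858546201020582e80f4408610e20f0ea8944a81a0da0482a80e0d1884424180b103c2240b0a10381a4080c18401e60a08282818a0709282c1ca0804a814166850418150c20542a1fd0867f4191fd04a7e4099f81480603a0100c4044008100a8033f880cfc8020218080660101080402400,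
  nat_lit 0x3e99f4fa27d3ea9f4fa87d3989e4f28793ca9e4c287239a1cce647339a9cce44723929c8f847a3e29e8f627c3b99f0e867a3aa9ecec67b3c11ecc86753889e0de66130825c9a84d2f19349a0963c21c4f0a714b22592e4974b2a5cc246126a9849a44d351954d225535a954828553589a8d68762b11aca88692b91a4b046a3611dce8a773291d8c884e279190cc474319950a046327098c822542719049ca41312988984622609309864c262930be27024a17c9445f2f21c07644b1e292cb886f24117092a5c2f29bc9225e1e19247883c362998ce26c2c21b0a08662010d880a36281900642402198d87c2501a090cb265722095cb2258369168ba26d3699b4b6a6d2409688ea5a242174ba65d3719b8c086e1f893c9464f32a93c9483a290928d02602b21948a2562129586aa4529a11488a5928999ca2a6734194cb665b23916ca44681c89188c0901688e07008f1682547424723a1486a4441a89086223d1e824c848331408cc488300e209c660941802304e08b120244380924a1a2c6a6421f914526a944892487aa331920a44c43214a8c868a3e1498d074a4847aa407623b17a8ec5c22e170238462231182345e22f17a0bd1aa8e]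
noncomputable def A : List (List (ℕ)) := [A_0]
noncomputable def K_0 : List (ℕ) := [nat_lit 0xc662eb353a9546a147a350e853f9f4ca6325924421f0e86c32170782c132d92c86472b8dc260f1f81ca64f1d79bb59ed572c3e170d5cafdc6c782c05f31564bd5d6d177aeda6c16bb658b117faf56eab6eb35f7137bbc596e949ad506c358b6d5efd70aa5329d73a2d2277409edbead4ba7d366f35a24ea613c974a295389b4d2452d97ce63d2794cce472c90c7e551993476411b95c5639178c45235168942a271184c220d03814060000]
noncomputable def K : List (List (ℕ)) := [K_0]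
noncomputable def R_0 : List (Rule) := [Rule.mk (nat_lit 4) (nat_lit 38) (Steps.bwd (nat_lit 2) (Steps.fwd (nat_lit 2048) (Steps.fwd (nat_lit 1024) Steps.nil))) (nat_lit 16) (nat_lit 0),
  Rule.mk (nat_lit 5) (nat_lit 38) (Steps.bwd (nat_lit 2) (Steps.fwd (nat_lit 2560) (Steps.fwd (nat_lit 1024) Steps.nil))) (nat_lit 18) (nat_lit 0),
  Rule.mk (nat_lit 5) (nat_lit 38) (Steps.bwd (nat_lit 1) (Steps.fwd (nat_lit 2560) (Steps.fwd (nat_lit 512) Steps.nil))) (nat_lit 12) (nat_lit 0),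
  Rule.mk (nat_lit 2) (nat_lit 58) (Steps.bwd (nat_lit 1) (Steps.bwd (nat_lit 2) (Steps.fwd (nat_lit 512) (Steps.fwd (nat_lit 1024) (Steps.fwd (nat_lit 512) Steps.nil))))) (nat_lit 10) (nat_lit 0),
  Rule.mk (nat_lit 5) (nat_lit 38) (Steps.bwd (nat_lit 3) (Steps.fwd (nat_lit 2560) (Steps.fwd (nat_lit 1536) Steps.nil))) (nat_lit 22) (nat_lit 0),
  Rule.mk (nat_lit 2) (nat_lit 58) (Steps.bwd (nat_lit 3) (Steps.bwd (nat_lit 2) (Steps.fwd (nat_lit 1536) (Steps.fwd (nat_lit 1024) (Steps.fwd (nat_lit 1536) Steps.nil))))) (nat_lit 14) (nat_lit 1),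
  Rule.mk (nat_lit 2) (nat_lit 38) (Steps.bwd (nat_lit 4) (Steps.fwd (nat_lit 1024) (Steps.fwd (nat_lit 2048) Steps.nil))) (nat_lit 16) (nat_lit 1),
  Rule.mk (nat_lit 3) (nat_lit 58) (Steps.bwd (nat_lit 2) (Steps.bwd (nat_lit 3) (Steps.fwd (nat_lit 1024) (Steps.fwd (nat_lit 1536) (Steps.fwd (nat_lit 1024) Steps.nil))))) (nat_lit 14) (nat_lit 0),
  Rule.mk (nat_lit 2) (nat_lit 38) (Steps.bwd (nat_lit 4) (Steps.bwd (nat_lit 2) (Steps.fwd (nat_lit 2048) Steps.nil))) (nat_lit 16) (nat_lit 1),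
  Rule.mk (nat_lit 4) (nat_lit 58) (Steps.bwd (nat_lit 5) (Steps.bwd (nat_lit 4) (Steps.fwd (nat_lit 2560) (Steps.fwd (nat_lit 2048) (Steps.fwd (nat_lit 2560) Steps.nil))))) (nat_lit 24) (nat_lit 1),
  Rule.mk (nat_lit 1) (nat_lit 58) (Steps.bwd (nat_lit 2) (Steps.bwd (nat_lit 1) (Steps.fwd (nat_lit 1024) (Steps.fwd (nat_lit 512) (Steps.fwd (nat_lit 1024) Steps.nil))))) (nat_lit 10) (nat_lit 1),
  Rule.mk (nat_lit 4) (nat_lit 88) (Steps.bwd (nat_lit 3) (Steps.bwd (nat_lit 4) (Steps.bwd (nat_lit 1) (Steps.bwd (nat_lit 3) (Steps.fwd (nat_lit 2048) (Steps.fwd (nat_lit 1536) (Steps.fwd (nat_lit 2048) (Steps.fwd (nat_lit 1536) Steps.nil)))))))) (nat_lit 21) (nat_lit 6),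
  Rule.mk (nat_lit 0) (nat_lit 98) (Steps.bwd (nat_lit 3) (Steps.bwd (nat_lit 4) (Steps.bwd (nat_lit 1) (Steps.fwd (nat_lit 1536) (Steps.fwd (nat_lit 2048) (Steps.fwd (nat_lit 1536) (Steps.bwd (nat_lit 4) (Steps.bwd (nat_lit 3) (Steps.bwd (nat_lit 4) Steps.nil))))))))) (nat_lit 21) (nat_lit 6),
  Rule.mk (nat_lit 0) (nat_lit 38) (Steps.bwd (nat_lit 3) (Steps.bwd (nat_lit 0) (Steps.bwd (nat_lit 3) Steps.nil))) (nat_lit 42) (nat_lit 0),
  Rule.mk (nat_lit 3) (nat_lit 28) (Steps.bwd (nat_lit 0) (Steps.bwd (nat_lit 3) Steps.nil)) (nat_lit 42) (nat_lit 0),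
  Rule.mk (nat_lit 0) (nat_lit 48) (Steps.bwd (nat_lit 5) (Steps.bwd (nat_lit 0) (Steps.fwd (nat_lit 2560) (Steps.fwd (nat_lit 0) Steps.nil)))) (nat_lit 42) (nat_lit 0),
  Rule.mk (nat_lit 0) (nat_lit 48) (Steps.bwd (nat_lit 0) (Steps.fwd (nat_lit 2048) (Steps.fwd (nat_lit 0) (Steps.bwd (nat_lit 4) Steps.nil)))) (nat_lit 42) (nat_lit 0),
  Rule.mk (nat_lit 0) (nat_lit 38) (Steps.bwd (nat_lit 3) (Steps.fwd (nat_lit 0) (Steps.fwd (nat_lit 1536) Steps.nil))) (nat_lit 42) (nat_lit 0),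
  Rule.mk (nat_lit 4) (nat_lit 28) (Steps.bwd (nat_lit 0) (Steps.bwd (nat_lit 4) Steps.nil)) (nat_lit 42) (nat_lit 0),
  Rule.mk (nat_lit 0) (nat_lit 38) (Steps.bwd (nat_lit 1) (Steps.bwd (nat_lit 0) (Steps.bwd (nat_lit 1) Steps.nil))) (nat_lit 42) (nat_lit 0),
  Rule.mk (nat_lit 0) (nat_lit 38) (Steps.bwd (nat_lit 2) (Steps.fwd (nat_lit 0) (Steps.fwd (nat_lit 1024) Steps.nil))) (nat_lit 42) (nat_lit 0),
  Rule.mk (nat_lit 0) (nat_lit 38) (Steps.bwd (nat_lit 4) (Steps.fwd (nat_lit 0) (Steps.fwd (nat_lit 2048) Steps.nil))) (nat_lit 42) (nat_lit 0),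
  Rule.mk (nat_lit 1) (nat_lit 28) (Steps.bwd (nat_lit 0) (Steps.bwd (nat_lit 1) Steps.nil)) (nat_lit 42) (nat_lit 0),
  Rule.mk (nat_lit 1) (nat_lit 38) (Steps.bwd (nat_lit 0) (Steps.fwd (nat_lit 512) (Steps.fwd (nat_lit 0) Steps.nil))) (nat_lit 42) (nat_lit 0),
  Rule.mk (nat_lit 3) (nat_lit 28) (Steps.bwd (nat_lit 0) (Steps.fwd (nat_lit 1536) Steps.nil)) (nat_lit 42) (nat_lit 0),
  Rule.mk (nat_lit 0) (nat_lit 98) (Steps.bwd (nat_lit 1) (Steps.bwd (nat_lit 4) (Steps.bwd (nat_lit 3) (Steps.fwd (nat_lit 2048) (Steps.fwd (nat_lit 1536) (Steps.fwd (nat_lit 2048) (Steps.fwd (nat_lit 1536) (Steps.bwd (nat_lit 4) (Steps.bwd (nat_lit 3) Steps.nil))))))))) (nat_lit 20) (nat_lit 0),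
  Rule.mk (nat_lit 1) (nat_lit 88) (Steps.bwd (nat_lit 4) (Steps.bwd (nat_lit 3) (Steps.bwd (nat_lit 4) (Steps.bwd (nat_lit 3) (Steps.fwd (nat_lit 2048) (Steps.fwd (nat_lit 1536) (Steps.fwd (nat_lit 2048) (Steps.fwd (nat_lit 1536) Steps.nil)))))))) (nat_lit 20) (nat_lit 1),
  Rule.mk (nat_lit 1) (nat_lit 58) (Steps.fwd (nat_lit 1024) (Steps.fwd (nat_lit 512) (Steps.fwd (nat_lit 1024) (Steps.bwd (nat_lit 1) (Steps.bwd (nat_lit 2) Steps.nil))))) (nat_lit 10) (nat_lit 1),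
  Rule.mk (nat_lit 2) (nat_lit 38) (Steps.bwd (nat_lit 5) (Steps.fwd (nat_lit 1024) (Steps.fwd (nat_lit 2560) Steps.nil))) (nat_lit 18) (nat_lit 1),
  Rule.mk (nat_lit 3) (nat_lit 38) (Steps.bwd (nat_lit 5) (Steps.bwd (nat_lit 3) (Steps.fwd (nat_lit 2560) Steps.nil))) (nat_lit 22) (nat_lit 1),
  Rule.mk (nat_lit 1) (nat_lit 38) (Steps.bwd (nat_lit 5) (Steps.bwd (nat_lit 1) (Steps.fwd (nat_lit 2560) Steps.nil))) (nat_lit 12) (nat_lit 1),
  Rule.mk (nat_lit 1) (nat_lit 38) (Steps.bwd (nat_lit 5) (Steps.fwd (nat_lit 512) (Steps.fwd (nat_lit 2560) Steps.nil))) (nat_lit 12) (nat_lit 1),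
  Rule.mk (nat_lit 3) (nat_lit 38) (Steps.bwd (nat_lit 5) (Steps.fwd (nat_lit 1536) (Steps.fwd (nat_lit 2560) Steps.nil))) (nat_lit 22) (nat_lit 1),
  Rule.mk (nat_lit 5) (nat_lit 38) (Steps.bwd (nat_lit 3) (Steps.bwd (nat_lit 5) (Steps.fwd (nat_lit 1536) Steps.nil))) (nat_lit 22) (nat_lit 0),
  Rule.mk (nat_lit 5) (nat_lit 38) (Steps.bwd (nat_lit 2) (Steps.bwd (nat_lit 5) (Steps.fwd (nat_lit 1024) Steps.nil))) (nat_lit 18) (nat_lit 0),
  Rule.mk (nat_lit 3) (nat_lit 58) (Steps.bwd (nat_lit 2) (Steps.fwd (nat_lit 1536) (Steps.fwd (nat_lit 1024) (Steps.bwd (nat_lit 3) (Steps.fwd (nat_lit 1024) Steps.nil))))) (nat_lit 14) (nat_lit 0),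
  Rule.mk (nat_lit 2) (nat_lit 58) (Steps.bwd (nat_lit 3) (Steps.bwd (nat_lit 2) (Steps.bwd (nat_lit 3) (Steps.fwd (nat_lit 1024) (Steps.fwd (nat_lit 1536) Steps.nil))))) (nat_lit 14) (nat_lit 1),
  Rule.mk (nat_lit 5) (nat_lit 58) (Steps.bwd (nat_lit 4) (Steps.bwd (nat_lit 5) (Steps.fwd (nat_lit 2048) (Steps.fwd (nat_lit 2560) (Steps.fwd (nat_lit 2048) Steps.nil))))) (nat_lit 24) (nat_lit 0),
  Rule.mk (nat_lit 4) (nat_lit 58) (Steps.bwd (nat_lit 5) (Steps.bwd (nat_lit 4) (Steps.fwd (nat_lit 2560) (Steps.fwd (nat_lit 2048) (Steps.bwd (nat_lit 5) Steps.nil))))) (nat_lit 24) (nat_lit 1),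
  Rule.mk (nat_lit 3) (nat_lit 88) (Steps.bwd (nat_lit 4) (Steps.bwd (nat_lit 3) (Steps.fwd (nat_lit 512) (Steps.bwd (nat_lit 4) (Steps.fwd (nat_lit 1536) (Steps.fwd (nat_lit 2048) (Steps.fwd (nat_lit 1536) (Steps.fwd (nat_lit 2048) Steps.nil)))))))) (nat_lit 20) (nat_lit 7),
  Rule.mk (nat_lit 0) (nat_lit 98) (Steps.bwd (nat_lit 1) (Steps.fwd (nat_lit 2048) (Steps.fwd (nat_lit 1536) (Steps.bwd (nat_lit 4) (Steps.bwd (nat_lit 3) (Steps.bwd (nat_lit 4) (Steps.fwd (nat_lit 1536) (Steps.fwd (nat_lit 2048) (Steps.fwd (nat_lit 1536) Steps.nil))))))))) (nat_lit 20) (nat_lit 0),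
  Rule.mk (nat_lit 0) (nat_lit 38) (Steps.fwd (nat_lit 2560) (Steps.fwd (nat_lit 0) (Steps.bwd (nat_lit 5) Steps.nil))) (nat_lit 42) (nat_lit 0),
  Rule.mk (nat_lit 1) (nat_lit 88) (Steps.bwd (nat_lit 4) (Steps.bwd (nat_lit 3) (Steps.bwd (nat_lit 4) (Steps.fwd (nat_lit 1536) (Steps.fwd (nat_lit 2048) (Steps.fwd (nat_lit 1536) (Steps.fwd (nat_lit 2048) (Steps.fwd (nat_lit 1536) Steps.nil)))))))) (nat_lit 20) (nat_lit 1),
  Rule.mk (nat_lit 2) (nat_lit 58) (Steps.bwd (nat_lit 3) (Steps.fwd (nat_lit 1024) (Steps.fwd (nat_lit 1536) (Steps.bwd (nat_lit 2) (Steps.fwd (nat_lit 1536) Steps.nil))))) (nat_lit 14) (nat_lit 1),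
  Rule.mk (nat_lit 1) (nat_lit 88) (Steps.bwd (nat_lit 3) (Steps.bwd (nat_lit 4) (Steps.fwd (nat_lit 1536) (Steps.fwd (nat_lit 2048) (Steps.fwd (nat_lit 1536) (Steps.bwd (nat_lit 4) (Steps.bwd (nat_lit 3) (Steps.fwd (nat_lit 2048) Steps.nil)))))))) (nat_lit 21) (nat_lit 0),
  Rule.mk (nat_lit 4) (nat_lit 88) (Steps.bwd (nat_lit 1) (Steps.fwd (nat_lit 1536) (Steps.fwd (nat_lit 2048) (Steps.fwd (nat_lit 1536) (Steps.bwd (nat_lit 4) (Steps.bwd (nat_lit 3) (Steps.fwd (nat_lit 2048) (Steps.fwd (nat_lit 1536) Steps.nil)))))))) (nat_lit 21) (nat_lit 8),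
  Rule.mk (nat_lit 1) (nat_lit 88) (Steps.bwd (nat_lit 3) (Steps.fwd (nat_lit 2048) (Steps.bwd (nat_lit 3) (Steps.bwd (nat_lit 4) (Steps.fwd (nat_lit 1536) (Steps.fwd (nat_lit 2048) (Steps.fwd (nat_lit 1536) (Steps.bwd (nat_lit 4) Steps.nil)))))))) (nat_lit 21) (nat_lit 0),
  Rule.mk (nat_lit 1) (nat_lit 58) (Steps.bwd (nat_lit 2) (Steps.fwd (nat_lit 512) (Steps.bwd (nat_lit 2) (Steps.bwd (nat_lit 1) (Steps.fwd (nat_lit 1024) Steps.nil))))) (nat_lit 10) (nat_lit 1),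
  Rule.mk (nat_lit 4) (nat_lit 88) (Steps.fwd (nat_lit 1536) (Steps.fwd (nat_lit 512) (Steps.bwd (nat_lit 4) (Steps.bwd (nat_lit 3) (Steps.fwd (nat_lit 2048) (Steps.fwd (nat_lit 1536) (Steps.bwd (nat_lit 4) (Steps.fwd (nat_lit 1536) Steps.nil)))))))) (nat_lit 20) (nat_lit 8),
  Rule.mk (nat_lit 1) (nat_lit 38) (Steps.bwd (nat_lit 5) (Steps.fwd (nat_lit 512) (Steps.bwd (nat_lit 5) Steps.nil))) (nat_lit 12) (nat_lit 1),
  Rule.mk (nat_lit 5) (nat_lit 38) (Steps.bwd (nat_lit 2) (Steps.bwd (nat_lit 5) (Steps.bwd (nat_lit 2) Steps.nil))) (nat_lit 18) (nat_lit 0),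
  Rule.mk (nat_lit 1) (nat_lit 58) (Steps.bwd (nat_lit 2) (Steps.fwd (nat_lit 512) (Steps.bwd (nat_lit 2) (Steps.bwd (nat_lit 1) (Steps.bwd (nat_lit 2) Steps.nil))))) (nat_lit 10) (nat_lit 1),
  Rule.mk (nat_lit 5) (nat_lit 38) (Steps.bwd (nat_lit 3) (Steps.fwd (nat_lit 2560) (Steps.bwd (nat_lit 3) Steps.nil))) (nat_lit 22) (nat_lit 0),
  Rule.mk (nat_lit 1) (nat_lit 38) (Steps.fwd (nat_lit 2560) (Steps.fwd (nat_lit 512) (Steps.bwd (nat_lit 5) Steps.nil))) (nat_lit 12) (nat_lit 1),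
  Rule.mk (nat_lit 4) (nat_lit 88) (Steps.bwd (nat_lit 3) (Steps.bwd (nat_lit 4) (Steps.bwd (nat_lit 3) (Steps.fwd (nat_lit 512) (Steps.fwd (nat_lit 2048) (Steps.bwd (nat_lit 3) (Steps.fwd (nat_lit 2048) (Steps.fwd (nat_lit 1536) Steps.nil)))))))) (nat_lit 20) (nat_lit 6),
  Rule.mk (nat_lit 0) (nat_lit 98) (Steps.bwd (nat_lit 1) (Steps.fwd (nat_lit 1536) (Steps.bwd (nat_lit 4) (Steps.bwd (nat_lit 3) (Steps.bwd (nat_lit 4) (Steps.bwd (nat_lit 3) (Steps.fwd (nat_lit 2048) (Steps.fwd (nat_lit 1536) (Steps.fwd (nat_lit 2048) Steps.nil))))))))) (nat_lit 21) (nat_lit 8),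
  Rule.mk (nat_lit 5) (nat_lit 38) (Steps.bwd (nat_lit 1) (Steps.bwd (nat_lit 5) (Steps.fwd (nat_lit 512) Steps.nil))) (nat_lit 12) (nat_lit 0),
  Rule.mk (nat_lit 2) (nat_lit 58) (Steps.bwd (nat_lit 1) (Steps.fwd (nat_lit 1024) (Steps.fwd (nat_lit 512) (Steps.bwd (nat_lit 2) (Steps.fwd (nat_lit 512) Steps.nil))))) (nat_lit 10) (nat_lit 0),
  Rule.mk (nat_lit 5) (nat_lit 58) (Steps.bwd (nat_lit 4) (Steps.bwd (nat_lit 5) (Steps.bwd (nat_lit 4) (Steps.fwd (nat_lit 2560) (Steps.fwd (nat_lit 2048) Steps.nil))))) (nat_lit 24) (nat_lit 0),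
  Rule.mk (nat_lit 1) (nat_lit 38) (Steps.fwd (nat_lit 2560) (Steps.bwd (nat_lit 1) (Steps.bwd (nat_lit 5) Steps.nil))) (nat_lit 12) (nat_lit 1),
  Rule.mk (nat_lit 5) (nat_lit 58) (Steps.bwd (nat_lit 4) (Steps.fwd (nat_lit 2560) (Steps.bwd (nat_lit 4) (Steps.bwd (nat_lit 5) (Steps.fwd (nat_lit 2048) Steps.nil))))) (nat_lit 24) (nat_lit 0),
  Rule.mk (nat_lit 4) (nat_lit 88) (Steps.bwd (nat_lit 3) (Steps.bwd (nat_lit 4) (Steps.bwd (nat_lit 3) (Steps.fwd (nat_lit 512) (Steps.fwd (nat_lit 2048) (Steps.fwd (nat_lit 1536) (Steps.fwd (nat_lit 2048) (Steps.fwd (nat_lit 1536) Steps.nil)))))))) (nat_lit 20) (nat_lit 6),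
  Rule.mk (nat_lit 1) (nat_lit 88) (Steps.fwd (nat_lit 2048) (Steps.bwd (nat_lit 3) (Steps.bwd (nat_lit 4) (Steps.bwd (nat_lit 3) (Steps.fwd (nat_lit 2048) (Steps.fwd (nat_lit 1536) (Steps.fwd (nat_lit 2048) (Steps.fwd (nat_lit 1536) Steps.nil)))))))) (nat_lit 20) (nat_lit 1),
  Rule.mk (nat_lit 0) (nat_lit 98) (Steps.bwd (nat_lit 1) (Steps.fwd (nat_lit 1536) (Steps.fwd (nat_lit 2048) (Steps.bwd (nat_lit 3) (Steps.bwd (nat_lit 4) (Steps.bwd (nat_lit 3) (Steps.fwd (nat_lit 2048) (Steps.fwd (nat_lit 1536) (Steps.fwd (nat_lit 2048) Steps.nil))))))))) (nat_lit 21) (nat_lit 8)]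
noncomputable def R_1 : List (Rule) := [Rule.mk (nat_lit 0) (nat_lit 38) (Steps.fwd (nat_lit 2560) (Steps.fwd (nat_lit 0) (Steps.fwd (nat_lit 2560) Steps.nil))) (nat_lit 42) (nat_lit 0),
  Rule.mk (nat_lit 4) (nat_lit 38) (Steps.bwd (nat_lit 2) (Steps.bwd (nat_lit 4) (Steps.bwd (nat_lit 2) Steps.nil))) (nat_lit 16) (nat_lit 0),
  Rule.mk (nat_lit 3) (nat_lit 88) (Steps.bwd (nat_lit 4) (Steps.bwd (nat_lit 1) (Steps.bwd (nat_lit 3) (Steps.fwd (nat_lit 2048) (Steps.fwd (nat_lit 1536) (Steps.bwd (nat_lit 4) (Steps.fwd (nat_lit 1536) (Steps.fwd (nat_lit 2048) Steps.nil)))))))) (nat_lit 21) (nat_lit 7),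
  Rule.mk (nat_lit 3) (nat_lit 88) (Steps.bwd (nat_lit 4) (Steps.fwd (nat_lit 512) (Steps.fwd (nat_lit 1536) (Steps.bwd (nat_lit 4) (Steps.fwd (nat_lit 1536) (Steps.fwd (nat_lit 2048) (Steps.bwd (nat_lit 3) (Steps.bwd (nat_lit 4) Steps.nil)))))))) (nat_lit 21) (nat_lit 7),
  Rule.mk (nat_lit 0) (nat_lit 98) (Steps.bwd (nat_lit 4) (Steps.bwd (nat_lit 1) (Steps.fwd (nat_lit 1536) (Steps.fwd (nat_lit 2048) (Steps.bwd (nat_lit 3) (Steps.bwd (nat_lit 4) (Steps.bwd (nat_lit 3) (Steps.bwd (nat_lit 4) (Steps.fwd (nat_lit 1536) Steps.nil))))))))) (nat_lit 21) (nat_lit 7),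
  Rule.mk (nat_lit 0) (nat_lit 38) (Steps.bwd (nat_lit 4) (Steps.bwd (nat_lit 0) (Steps.bwd (nat_lit 4) Steps.nil))) (nat_lit 42) (nat_lit 0),
  Rule.mk (nat_lit 4) (nat_lit 28) (Steps.bwd (nat_lit 0) (Steps.fwd (nat_lit 2048) Steps.nil)) (nat_lit 42) (nat_lit 0),
  Rule.mk (nat_lit 0) (nat_lit 38) (Steps.bwd (nat_lit 5) (Steps.fwd (nat_lit 0) (Steps.fwd (nat_lit 2560) Steps.nil))) (nat_lit 42) (nat_lit 0),
  Rule.mk (nat_lit 1) (nat_lit 88) (Steps.bwd (nat_lit 4) (Steps.bwd (nat_lit 3) (Steps.fwd (nat_lit 2048) (Steps.fwd (nat_lit 1536) (Steps.bwd (nat_lit 4) (Steps.fwd (nat_lit 1536) (Steps.fwd (nat_lit 2048) (Steps.fwd (nat_lit 1536) Steps.nil)))))))) (nat_lit 20) (nat_lit 1),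
  Rule.mk (nat_lit 1) (nat_lit 88) (Steps.bwd (nat_lit 4) (Steps.bwd (nat_lit 3) (Steps.bwd (nat_lit 4) (Steps.bwd (nat_lit 3) (Steps.bwd (nat_lit 4) (Steps.bwd (nat_lit 3) (Steps.fwd (nat_lit 2048) (Steps.fwd (nat_lit 1536) Steps.nil)))))))) (nat_lit 20) (nat_lit 1),
  Rule.mk (nat_lit 0) (nat_lit 98) (Steps.bwd (nat_lit 1) (Steps.fwd (nat_lit 1536) (Steps.bwd (nat_lit 4) (Steps.bwd (nat_lit 3) (Steps.bwd (nat_lit 4) (Steps.bwd (nat_lit 3) (Steps.bwd (nat_lit 4) (Steps.bwd (nat_lit 3) (Steps.fwd (nat_lit 2048) Steps.nil))))))))) (nat_lit 21) (nat_lit 8),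
  Rule.mk (nat_lit 2) (nat_lit 318) (Steps.bwd (nat_lit 5) (Steps.fwd (nat_lit 2048) (Steps.bwd (nat_lit 3) (Steps.fwd (nat_lit 1024) (Steps.bwd (nat_lit 5) (Steps.bwd (nat_lit 4) (Steps.bwd (nat_lit 3) (Steps.fwd (nat_lit 1024) (Steps.bwd (nat_lit 5) (Steps.bwd (nat_lit 4) (Steps.bwd (nat_lit 3) (Steps.fwd (nat_lit 1024) (Steps.fwd (nat_lit 2560) (Steps.fwd (nat_lit 2048) (Steps.fwd (nat_lit 1536) (Steps.bwd (nat_lit 2) (Steps.fwd (nat_lit 2560) (Steps.fwd (nat_lit 2048) (Steps.fwd (nat_lit 1536) (Steps.bwd (nat_lit 2) (Steps.fwd (nat_lit 2560) (Steps.fwd (nat_lit 2048) (Steps.fwd (nat_lit 1536) (Steps.fwd (nat_lit 1024) (Steps.bwd (nat_lit 5) (Steps.bwd (nat_lit 4) (Steps.bwd (nat_lit 3) (Steps.bwd (nat_lit 2) (Steps.fwd (nat_lit 2560) (Steps.fwd (nat_lit 2048) (Steps.fwd (nat_lit 1536) Steps.nil))))))))))))))))))))))))))))))) (nat_lit 27) (nat_lit 0),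
  Rule.mk (nat_lit 3) (nat_lit 58) (Steps.fwd (nat_lit 1024) (Steps.bwd (nat_lit 3) (Steps.fwd (nat_lit 1024) (Steps.fwd (nat_lit 1536) (Steps.bwd (nat_lit 2) Steps.nil))))) (nat_lit 14) (nat_lit 0),
  Rule.mk (nat_lit 3) (nat_lit 58) (Steps.bwd (nat_lit 2) (Steps.fwd (nat_lit 1536) (Steps.fwd (nat_lit 1024) (Steps.bwd (nat_lit 3) (Steps.bwd (nat_lit 2) Steps.nil))))) (nat_lit 14) (nat_lit 0),
  Rule.mk (nat_lit 5) (nat_lit 58) (Steps.bwd (nat_lit 4) (Steps.fwd (nat_lit 2560) (Steps.bwd (nat_lit 4) (Steps.fwd (nat_lit 2560) (Steps.fwd (nat_lit 2048) Steps.nil))))) (nat_lit 24) (nat_lit 0),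
  Rule.mk (nat_lit 1) (nat_lit 88) (Steps.bwd (nat_lit 3) (Steps.fwd (nat_lit 2048) (Steps.fwd (nat_lit 1536) (Steps.fwd (nat_lit 2048) (Steps.fwd (nat_lit 1536) (Steps.bwd (nat_lit 4) (Steps.bwd (nat_lit 3) (Steps.bwd (nat_lit 4) Steps.nil)))))))) (nat_lit 21) (nat_lit 0),
  Rule.mk (nat_lit 4) (nat_lit 88) (Steps.bwd (nat_lit 1) (Steps.fwd (nat_lit 1536) (Steps.fwd (nat_lit 2048) (Steps.fwd (nat_lit 1536) (Steps.bwd (nat_lit 4) (Steps.bwd (nat_lit 3) (Steps.bwd (nat_lit 4) (Steps.fwd (nat_lit 1536) Steps.nil)))))))) (nat_lit 21) (nat_lit 8),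
  Rule.mk (nat_lit 1) (nat_lit 88) (Steps.bwd (nat_lit 3) (Steps.fwd (nat_lit 2048) (Steps.bwd (nat_lit 3) (Steps.fwd (nat_lit 2048) (Steps.fwd (nat_lit 1536) (Steps.fwd (nat_lit 2048) (Steps.fwd (nat_lit 1536) (Steps.bwd (nat_lit 4) Steps.nil)))))))) (nat_lit 21) (nat_lit 0),
  Rule.mk (nat_lit 4) (nat_lit 88) (Steps.bwd (nat_lit 3) (Steps.bwd (nat_lit 4) (Steps.fwd (nat_lit 1536) (Steps.fwd (nat_lit 2048) (Steps.fwd (nat_lit 1536) (Steps.fwd (nat_lit 2048) (Steps.fwd (nat_lit 1536) (Steps.bwd (nat_lit 1) Steps.nil)))))))) (nat_lit 20) (nat_lit 2),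
  Rule.mk (nat_lit 5) (nat_lit 58) (Steps.bwd (nat_lit 4) (Steps.bwd (nat_lit 5) (Steps.fwd (nat_lit 2048) (Steps.bwd (nat_lit 5) (Steps.bwd (nat_lit 4) Steps.nil))))) (nat_lit 24) (nat_lit 0),
  Rule.mk (nat_lit 3) (nat_lit 88) (Steps.bwd (nat_lit 4) (Steps.bwd (nat_lit 3) (Steps.bwd (nat_lit 1) (Steps.bwd (nat_lit 4) (Steps.bwd (nat_lit 3) (Steps.fwd (nat_lit 2048) (Steps.fwd (nat_lit 1536) (Steps.fwd (nat_lit 2048) Steps.nil)))))))) (nat_lit 20) (nat_lit 7),
  Rule.mk (nat_lit 1) (nat_lit 88) (Steps.bwd (nat_lit 4) (Steps.bwd (nat_lit 3) (Steps.fwd (nat_lit 2048) (Steps.fwd (nat_lit 1536) (Steps.fwd (nat_lit 2048) (Steps.fwd (nat_lit 1536) (Steps.bwd (nat_lit 4) (Steps.bwd (nat_lit 3) Steps.nil)))))))) (nat_lit 20) (nat_lit 1),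
  Rule.mk (nat_lit 4) (nat_lit 88) (Steps.bwd (nat_lit 1) (Steps.fwd (nat_lit 1536) (Steps.bwd (nat_lit 4) (Steps.bwd (nat_lit 3) (Steps.bwd (nat_lit 4) (Steps.fwd (nat_lit 1536) (Steps.bwd (nat_lit 4) (Steps.fwd (nat_lit 1536) Steps.nil)))))))) (nat_lit 21) (nat_lit 8),
  Rule.mk (nat_lit 3) (nat_lit 88) (Steps.fwd (nat_lit 2048) (Steps.bwd (nat_lit 3) (Steps.fwd (nat_lit 2048) (Steps.bwd (nat_lit 3) (Steps.fwd (nat_lit 2048) (Steps.fwd (nat_lit 1536) (Steps.fwd (nat_lit 2048) (Steps.fwd (nat_lit 512) Steps.nil)))))))) (nat_lit 21) (nat_lit 1),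
  Rule.mk (nat_lit 4) (nat_lit 58) (Steps.bwd (nat_lit 5) (Steps.fwd (nat_lit 2048) (Steps.fwd (nat_lit 2560) (Steps.bwd (nat_lit 4) (Steps.bwd (nat_lit 5) Steps.nil))))) (nat_lit 24) (nat_lit 1),
  Rule.mk (nat_lit 1) (nat_lit 88) (Steps.bwd (nat_lit 3) (Steps.bwd (nat_lit 4) (Steps.bwd (nat_lit 3) (Steps.bwd (nat_lit 4) (Steps.fwd (nat_lit 1536) (Steps.bwd (nat_lit 4) (Steps.fwd (nat_lit 1536) (Steps.fwd (nat_lit 2048) Steps.nil)))))))) (nat_lit 21) (nat_lit 0),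
  Rule.mk (nat_lit 3) (nat_lit 88) (Steps.bwd (nat_lit 4) (Steps.bwd (nat_lit 3) (Steps.fwd (nat_lit 512) (Steps.fwd (nat_lit 2048) (Steps.fwd (nat_lit 1536) (Steps.fwd (nat_lit 2048) (Steps.fwd (nat_lit 1536) (Steps.fwd (nat_lit 2048) Steps.nil)))))))) (nat_lit 20) (nat_lit 7),
  Rule.mk (nat_lit 1) (nat_lit 88) (Steps.bwd (nat_lit 4) (Steps.bwd (nat_lit 3) (Steps.bwd (nat_lit 4) (Steps.bwd (nat_lit 3) (Steps.bwd (nat_lit 4) (Steps.fwd (nat_lit 1536) (Steps.bwd (nat_lit 4) (Steps.fwd (nat_lit 1536) Steps.nil)))))))) (nat_lit 20) (nat_lit 1),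
  Rule.mk (nat_lit 2) (nat_lit 38) (Steps.fwd (nat_lit 2560) (Steps.bwd (nat_lit 2) (Steps.bwd (nat_lit 5) Steps.nil))) (nat_lit 18) (nat_lit 1),
  Rule.mk (nat_lit 1) (nat_lit 88) (Steps.bwd (nat_lit 3) (Steps.bwd (nat_lit 4) (Steps.fwd (nat_lit 1536) (Steps.fwd (nat_lit 2048) (Steps.bwd (nat_lit 3) (Steps.fwd (nat_lit 2048) (Steps.bwd (nat_lit 3) (Steps.fwd (nat_lit 2048) Steps.nil)))))))) (nat_lit 21) (nat_lit 0),
  Rule.mk (nat_lit 3) (nat_lit 38) (Steps.bwd (nat_lit 5) (Steps.bwd (nat_lit 3) (Steps.bwd (nat_lit 5) Steps.nil))) (nat_lit 22) (nat_lit 1),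
  Rule.mk (nat_lit 1) (nat_lit 88) (Steps.bwd (nat_lit 4) (Steps.fwd (nat_lit 1536) (Steps.bwd (nat_lit 4) (Steps.fwd (nat_lit 1536) (Steps.bwd (nat_lit 4) (Steps.fwd (nat_lit 1536) (Steps.bwd (nat_lit 4) (Steps.bwd (nat_lit 3) Steps.nil)))))))) (nat_lit 20) (nat_lit 1),
  Rule.mk (nat_lit 3) (nat_lit 88) (Steps.bwd (nat_lit 1) (Steps.fwd (nat_lit 2048) (Steps.bwd (nat_lit 3) (Steps.fwd (nat_lit 2048) (Steps.bwd (nat_lit 3) (Steps.fwd (nat_lit 2048) (Steps.bwd (nat_lit 3) (Steps.fwd (nat_lit 2048) Steps.nil)))))))) (nat_lit 20) (nat_lit 0),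
  Rule.mk (nat_lit 1) (nat_lit 88) (Steps.bwd (nat_lit 4) (Steps.fwd (nat_lit 1536) (Steps.bwd (nat_lit 4) (Steps.fwd (nat_lit 1536) (Steps.bwd (nat_lit 4) (Steps.fwd (nat_lit 1536) (Steps.bwd (nat_lit 4) (Steps.fwd (nat_lit 1536) Steps.nil)))))))) (nat_lit 20) (nat_lit 1),
  Rule.mk (nat_lit 3) (nat_lit 88) (Steps.bwd (nat_lit 4) (Steps.fwd (nat_lit 1536) (Steps.bwd (nat_lit 4) (Steps.fwd (nat_lit 1536) (Steps.bwd (nat_lit 4) (Steps.fwd (nat_lit 1536) (Steps.bwd (nat_lit 4) (Steps.bwd (nat_lit 1) Steps.nil)))))))) (nat_lit 21) (nat_lit 1),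
  Rule.mk (nat_lit 5) (nat_lit 38) (Steps.fwd (nat_lit 1536) (Steps.fwd (nat_lit 2560) (Steps.bwd (nat_lit 3) Steps.nil))) (nat_lit 22) (nat_lit 0),
  Rule.mk (nat_lit 2) (nat_lit 58) (Steps.bwd (nat_lit 1) (Steps.bwd (nat_lit 2) (Steps.fwd (nat_lit 512) (Steps.bwd (nat_lit 2) (Steps.bwd (nat_lit 1) Steps.nil))))) (nat_lit 10) (nat_lit 0),
  Rule.mk (nat_lit 4) (nat_lit 88) (Steps.bwd (nat_lit 1) (Steps.bwd (nat_lit 3) (Steps.fwd (nat_lit 2048) (Steps.bwd (nat_lit 3) (Steps.fwd (nat_lit 2048) (Steps.bwd (nat_lit 3) (Steps.fwd (nat_lit 2048) (Steps.fwd (nat_lit 1536) Steps.nil)))))))) (nat_lit 21) (nat_lit 8),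
  Rule.mk (nat_lit 4) (nat_lit 88) (Steps.bwd (nat_lit 3) (Steps.bwd (nat_lit 1) (Steps.bwd (nat_lit 4) (Steps.fwd (nat_lit 1536) (Steps.bwd (nat_lit 4) (Steps.bwd (nat_lit 3) (Steps.fwd (nat_lit 2048) (Steps.fwd (nat_lit 1536) Steps.nil)))))))) (nat_lit 20) (nat_lit 8),
  Rule.mk (nat_lit 1) (nat_lit 88) (Steps.bwd (nat_lit 3) (Steps.fwd (nat_lit 2048) (Steps.bwd (nat_lit 3) (Steps.bwd (nat_lit 4) (Steps.fwd (nat_lit 1536) (Steps.bwd (nat_lit 4) (Steps.fwd (nat_lit 1536) (Steps.bwd (nat_lit 4) Steps.nil)))))))) (nat_lit 21) (nat_lit 0),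
  Rule.mk (nat_lit 5) (nat_lit 38) (Steps.bwd (nat_lit 1) (Steps.bwd (nat_lit 5) (Steps.bwd (nat_lit 1) Steps.nil))) (nat_lit 12) (nat_lit 0),
  Rule.mk (nat_lit 2) (nat_lit 58) (Steps.bwd (nat_lit 1) (Steps.bwd (nat_lit 2) (Steps.bwd (nat_lit 1) (Steps.bwd (nat_lit 2) (Steps.fwd (nat_lit 512) Steps.nil))))) (nat_lit 10) (nat_lit 0),
  Rule.mk (nat_lit 4) (nat_lit 38) (Steps.bwd (nat_lit 2) (Steps.fwd (nat_lit 2048) (Steps.bwd (nat_lit 2) Steps.nil))) (nat_lit 16) (nat_lit 0),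
  Rule.mk (nat_lit 2) (nat_lit 58) (Steps.bwd (nat_lit 3) (Steps.fwd (nat_lit 1024) (Steps.bwd (nat_lit 3) (Steps.fwd (nat_lit 1024) (Steps.fwd (nat_lit 1536) Steps.nil))))) (nat_lit 14) (nat_lit 1),
  Rule.mk (nat_lit 4) (nat_lit 38) (Steps.bwd (nat_lit 2) (Steps.bwd (nat_lit 4) (Steps.fwd (nat_lit 1024) Steps.nil))) (nat_lit 16) (nat_lit 0),
  Rule.mk (nat_lit 2) (nat_lit 38) (Steps.bwd (nat_lit 5) (Steps.bwd (nat_lit 2) (Steps.fwd (nat_lit 2560) Steps.nil))) (nat_lit 18) (nat_lit 1),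
  Rule.mk (nat_lit 4) (nat_lit 58) (Steps.bwd (nat_lit 5) (Steps.fwd (nat_lit 2048) (Steps.bwd (nat_lit 5) (Steps.fwd (nat_lit 2048) (Steps.fwd (nat_lit 2560) Steps.nil))))) (nat_lit 24) (nat_lit 1),
  Rule.mk (nat_lit 1) (nat_lit 58) (Steps.bwd (nat_lit 2) (Steps.fwd (nat_lit 512) (Steps.fwd (nat_lit 1024) (Steps.bwd (nat_lit 1) (Steps.bwd (nat_lit 2) Steps.nil))))) (nat_lit 10) (nat_lit 1),
  Rule.mk (nat_lit 5) (nat_lit 58) (Steps.bwd (nat_lit 4) (Steps.fwd (nat_lit 2560) (Steps.fwd (nat_lit 2048) (Steps.bwd (nat_lit 5) (Steps.fwd (nat_lit 2048) Steps.nil))))) (nat_lit 24) (nat_lit 0),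
  Rule.mk (nat_lit 3) (nat_lit 88) (Steps.bwd (nat_lit 4) (Steps.bwd (nat_lit 3) (Steps.fwd (nat_lit 512) (Steps.fwd (nat_lit 2048) (Steps.fwd (nat_lit 1536) (Steps.bwd (nat_lit 4) (Steps.fwd (nat_lit 1536) (Steps.fwd (nat_lit 2048) Steps.nil)))))))) (nat_lit 20) (nat_lit 7),
  Rule.mk (nat_lit 3) (nat_lit 58) (Steps.bwd (nat_lit 2) (Steps.bwd (nat_lit 3) (Steps.fwd (nat_lit 1024) (Steps.fwd (nat_lit 1536) (Steps.bwd (nat_lit 2) Steps.nil))))) (nat_lit 14) (nat_lit 0),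
  Rule.mk (nat_lit 2) (nat_lit 38) (Steps.bwd (nat_lit 4) (Steps.fwd (nat_lit 1024) (Steps.bwd (nat_lit 4) Steps.nil))) (nat_lit 16) (nat_lit 1),
  Rule.mk (nat_lit 2) (nat_lit 58) (Steps.bwd (nat_lit 1) (Steps.fwd (nat_lit 1024) (Steps.bwd (nat_lit 1) (Steps.fwd (nat_lit 1024) (Steps.bwd (nat_lit 1) Steps.nil))))) (nat_lit 10) (nat_lit 0),
  Rule.mk (nat_lit 4) (nat_lit 58) (Steps.bwd (nat_lit 5) (Steps.bwd (nat_lit 4) (Steps.fwd (nat_lit 2560) (Steps.bwd (nat_lit 4) (Steps.bwd (nat_lit 5) Steps.nil))))) (nat_lit 24) (nat_lit 1),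
  Rule.mk (nat_lit 2) (nat_lit 58) (Steps.bwd (nat_lit 3) (Steps.fwd (nat_lit 1024) (Steps.fwd (nat_lit 1536) (Steps.fwd (nat_lit 1024) (Steps.fwd (nat_lit 1536) Steps.nil))))) (nat_lit 14) (nat_lit 1),
  Rule.mk (nat_lit 4) (nat_lit 38) (Steps.fwd (nat_lit 1024) (Steps.fwd (nat_lit 2048) (Steps.bwd (nat_lit 2) Steps.nil))) (nat_lit 16) (nat_lit 0),
  Rule.mk (nat_lit 3) (nat_lit 58) (Steps.bwd (nat_lit 2) (Steps.fwd (nat_lit 1536) (Steps.bwd (nat_lit 2) (Steps.fwd (nat_lit 1536) (Steps.bwd (nat_lit 2) Steps.nil))))) (nat_lit 14) (nat_lit 0),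
  Rule.mk (nat_lit 4) (nat_lit 318) (Steps.bwd (nat_lit 5) (Steps.fwd (nat_lit 1024) (Steps.bwd (nat_lit 3) (Steps.fwd (nat_lit 2048) (Steps.fwd (nat_lit 2560) (Steps.bwd (nat_lit 2) (Steps.bwd (nat_lit 3) (Steps.bwd (nat_lit 4) (Steps.fwd (nat_lit 2560) (Steps.bwd (nat_lit 2) (Steps.bwd (nat_lit 3) (Steps.bwd (nat_lit 4) (Steps.fwd (nat_lit 2560) (Steps.bwd (nat_lit 2) (Steps.bwd (nat_lit 3) (Steps.fwd (nat_lit 2048) (Steps.fwd (nat_lit 2560) (Steps.fwd (nat_lit 1024) (Steps.fwd (nat_lit 1536) (Steps.fwd (nat_lit 2048) (Steps.fwd (nat_lit 2560) (Steps.bwd (nat_lit 2) (Steps.fwd (nat_lit 1536) (Steps.fwd (nat_lit 2048) (Steps.fwd (nat_lit 2560) (Steps.bwd (nat_lit 2) (Steps.fwd (nat_lit 1536) (Steps.bwd (nat_lit 4) (Steps.bwd (nat_lit 5) (Steps.fwd (nat_lit 1024) (Steps.fwd (nat_lit 1536) Steps.nil))))))))))))))))))))))))))))))) (nat_lit 26) (nat_lit 3),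
  Rule.mk (nat_lit 4) (nat_lit 88) (Steps.bwd (nat_lit 3) (Steps.bwd (nat_lit 1) (Steps.fwd (nat_lit 2048) (Steps.fwd (nat_lit 1536) (Steps.fwd (nat_lit 2048) (Steps.bwd (nat_lit 3) (Steps.bwd (nat_lit 4) (Steps.fwd (nat_lit 1536) Steps.nil)))))))) (nat_lit 20) (nat_lit 8),
  Rule.mk (nat_lit 0) (nat_lit 98) (Steps.fwd (nat_lit 2048) (Steps.bwd (nat_lit 3) (Steps.bwd (nat_lit 4) (Steps.fwd (nat_lit 1536) (Steps.bwd (nat_lit 4) (Steps.bwd (nat_lit 3) (Steps.fwd (nat_lit 2048) (Steps.fwd (nat_lit 1536) (Steps.fwd (nat_lit 512) Steps.nil))))))))) (nat_lit 20) (nat_lit 1),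
  Rule.mk (nat_lit 4) (nat_lit 38) (Steps.bwd (nat_lit 0) (Steps.fwd (nat_lit 2048) (Steps.fwd (nat_lit 0) Steps.nil))) (nat_lit 42) (nat_lit 0),
  Rule.mk (nat_lit 1) (nat_lit 88) (Steps.bwd (nat_lit 4) (Steps.bwd (nat_lit 3) (Steps.fwd (nat_lit 2048) (Steps.fwd (nat_lit 1536) (Steps.fwd (nat_lit 2048) (Steps.bwd (nat_lit 3) (Steps.bwd (nat_lit 4) (Steps.fwd (nat_lit 1536) Steps.nil)))))))) (nat_lit 20) (nat_lit 1),
  Rule.mk (nat_lit 3) (nat_lit 58) (Steps.bwd (nat_lit 2) (Steps.bwd (nat_lit 3) (Steps.fwd (nat_lit 1024) (Steps.bwd (nat_lit 3) (Steps.bwd (nat_lit 2) Steps.nil))))) (nat_lit 14) (nat_lit 0),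
  Rule.mk (nat_lit 3) (nat_lit 88) (Steps.bwd (nat_lit 4) (Steps.fwd (nat_lit 1536) (Steps.bwd (nat_lit 1) (Steps.bwd (nat_lit 4) (Steps.bwd (nat_lit 3) (Steps.bwd (nat_lit 4) (Steps.fwd (nat_lit 1536) (Steps.bwd (nat_lit 4) Steps.nil)))))))) (nat_lit 20) (nat_lit 7)]
noncomputable def R_2 : List (Rule) := [Rule.mk (nat_lit 5) (nat_lit 318) (Steps.fwd (nat_lit 1024) (Steps.bwd (nat_lit 3) (Steps.fwd (nat_lit 2048) (Steps.bwd (nat_lit 5) (Steps.bwd (nat_lit 2) (Steps.fwd (nat_lit 1536) (Steps.fwd (nat_lit 2048) (Steps.fwd (nat_lit 2560) (Steps.fwd (nat_lit 1024) (Steps.fwd (nat_lit 1536) (Steps.fwd (nat_lit 2048) (Steps.bwd (nat_lit 5) (Steps.fwd (nat_lit 1024) (Steps.bwd (nat_lit 3) (Steps.fwd (nat_lit 2048) (Steps.bwd (nat_lit 5) (Steps.bwd (nat_lit 2) (Steps.fwd (nat_lit 1536) (Steps.bwd (nat_lit 4) (Steps.bwd (nat_lit 5) (Steps.fwd (nat_lit 1024) (Steps.bwd (nat_lit 3) (Steps.bwd (nat_lit 4) (Steps.bwd (nat_lit 5) (Steps.fwd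 (nat_lit 1024) (Steps.fwd (nat_lit 1536) (Steps.fwd (nat_lit 2048) (Steps.fwd (nat_lit 2560) (Steps.bwd (nat_lit 2) (Steps.bwd (nat_lit 3) (Steps.bwd (nat_lit 4) Steps.nil))))))))))))))))))))))))))))))) (nat_lit 26) (nat_lit 0),
  Rule.mk (nat_lit 3) (nat_lit 88) (Steps.bwd (nat_lit 1) (Steps.fwd (nat_lit 2048) (Steps.fwd (nat_lit 1536) (Steps.fwd (nat_lit 2048) (Steps.bwd (nat_lit 3) (Steps.fwd (nat_lit 2048) (Steps.fwd (nat_lit 1536) (Steps.fwd (nat_lit 2048) Steps.nil)))))))) (nat_lit 20) (nat_lit 0),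
  Rule.mk (nat_lit 3) (nat_lit 88) (Steps.bwd (nat_lit 4) (Steps.fwd (nat_lit 1536) (Steps.fwd (nat_lit 512) (Steps.bwd (nat_lit 4) (Steps.bwd (nat_lit 3) (Steps.bwd (nat_lit 4) (Steps.fwd (nat_lit 1536) (Steps.bwd (nat_lit 4) Steps.nil)))))))) (nat_lit 20) (nat_lit 7),
  Rule.mk (nat_lit 1) (nat_lit 88) (Steps.bwd (nat_lit 4) (Steps.fwd (nat_lit 1536) (Steps.bwd (nat_lit 4) (Steps.bwd (nat_lit 3) (Steps.bwd (nat_lit 4) (Steps.fwd (nat_lit 1536) (Steps.bwd (nat_lit 4) (Steps.bwd (nat_lit 3) Steps.nil)))))))) (nat_lit 20) (nat_lit 1),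
  Rule.mk (nat_lit 2) (nat_lit 58) (Steps.bwd (nat_lit 1) (Steps.bwd (nat_lit 2) (Steps.bwd (nat_lit 1) (Steps.bwd (nat_lit 2) (Steps.bwd (nat_lit 1) Steps.nil))))) (nat_lit 10) (nat_lit 0),
  Rule.mk (nat_lit 4) (nat_lit 88) (Steps.bwd (nat_lit 3) (Steps.bwd (nat_lit 4) (Steps.bwd (nat_lit 3) (Steps.bwd (nat_lit 1) (Steps.fwd (nat_lit 2048) (Steps.fwd (nat_lit 1536) (Steps.fwd (nat_lit 2048) (Steps.fwd (nat_lit 1536) Steps.nil)))))))) (nat_lit 20) (nat_lit 6),
  Rule.mk (nat_lit 4) (nat_lit 88) (Steps.bwd (nat_lit 1) (Steps.fwd (nat_lit 1536) (Steps.fwd (nat_lit 2048) (Steps.bwd (nat_lit 3) (Steps.bwd (nat_lit 4) (Steps.bwd (nat_lit 3) (Steps.bwd (nat_lit 4) (Steps.bwd (nat_lit 3) Steps.nil)))))))) (nat_lit 21) (nat_lit 8),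
  Rule.mk (nat_lit 4) (nat_lit 88) (Steps.bwd (nat_lit 3) (Steps.bwd (nat_lit 1) (Steps.bwd (nat_lit 4) (Steps.bwd (nat_lit 3) (Steps.bwd (nat_lit 4) (Steps.bwd (nat_lit 3) (Steps.bwd (nat_lit 4) (Steps.fwd (nat_lit 1536) Steps.nil)))))))) (nat_lit 20) (nat_lit 8),
  Rule.mk (nat_lit 1) (nat_lit 88) (Steps.fwd (nat_lit 2048) (Steps.bwd (nat_lit 3) (Steps.fwd (nat_lit 2048) (Steps.fwd (nat_lit 1536) (Steps.fwd (nat_lit 2048) (Steps.fwd (nat_lit 1536) (Steps.fwd (nat_lit 2048) (Steps.fwd (nat_lit 1536) Steps.nil)))))))) (nat_lit 20) (nat_lit 1),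
  Rule.mk (nat_lit 1) (nat_lit 58) (Steps.bwd (nat_lit 2) (Steps.fwd (nat_lit 512) (Steps.fwd (nat_lit 1024) (Steps.bwd (nat_lit 1) (Steps.fwd (nat_lit 1024) Steps.nil))))) (nat_lit 10) (nat_lit 1)]
noncomputable def R : List (List (Rule)) := [R_0, R_1, R_2]
def LW : List Word := [[], [0], [2], [4], [6], [8], [0], [1], [4], [5], [6], [7], [8], [9]]
def par : Par := ⟨9, 4, 13, 22, 511, 8191, 4194303⟩
theorem hpar : par.ok := by decide
theorem hR0_0 : lall (R) (fun l => lall l (ruleOK RG LW par)) = true := by decide +kernel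
theorem hR0 : lall (R) (fun l => lall l (ruleOK RG LW par)) = true := hR0_0
theorem hR : RulesOK RG LW par R := rulesOK_of rfl hR0
def cols : List (ℕ × ℕ) := [(512, 1), (1024, 2), (1536, 3), (2048, 4), (2560, 5)]
theorem hcols : lall cols (colOK RG LW par) = true := by decide +kernel
noncomputable def JS0 : List ℕ := [nat_lit 0x22c0b6020b62c00203c6ca80005c00034a62c4b5070b52c4a71a29002190080d00860ad0085caa00ca4162a80229454ac004aa142b001132b00000848aa00007000440101001284409e0003ca00009d0e26c9800099290a82a4a627c349828ca7038a72909a25c309a0189a05268a201ca22682c9a288092889a0a2709d26c249c284062849c0826c0226c089c0089c07270022700c9d00c9d052749f01c9f274189c0089c052709d0189d270109b0009b0326c0126c089a0049a01,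
  nat_lit 0x2ccbc2c824042c8c033833338c02c8acb20005c10004032a2c400172f0ca0bcca2f0ae000ae2c0a4ad2ecc90b8c9060bb2b4a0ae030ad0302407010af2b89c01000ad1d2b8012b41cae2e8242e4ad26030092d0af2b89401000ad052b8052b408ae04c242c8ad082bc1f2b404ad0280c028ad242b4b32b08cac2d4232d4ac082b4ae2b088ad2e8202e8ad0a2b41d2b074ab01cab202acb8080b82ac28ab024aa212b0062a480aa010a91f2a8ac2a478a92d81d2d8a90a2a0182a0741400417004141c,
  nat_lit 0xd1000bc053442c320bd2f0ec01000bb072f00c2ec74bc33c2f318bb0a2ec202ec84ba068ba202eccf2e888bc08401080bb3a2eccd2e8e4bd0005cbd000bc143302c0ac2c330b9004ba2f0e0b832c2b0a82b32cb80006cb832c2d0b82b0a8ca2dcdcb706cb6052e8cb2e424012fc1c362e4ba00cba2e418bc004b83505c26328022e0d0b92e0b7332dc022dc841a008b6322dc032e4ba0581700400312d4b600cb62d420c5094c3000b43005017050132dcb6000b42f2d4b60481305813048b42e2ccbf018bf2cc10b40401105011040b42ccb4b200006000b22c,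
  nat_lit 0x3280101048c8004d9463180136518e900005150c4d7000be004bf374df31114bd000be3704212c3135910bd36c411284136cc02f10cbe318bd092fc1e2f80cc0078bf073041e3001400088c4423643d358c13009401000bf05300182fc8cc035c39348bf08304ce30088c2334c13900005000d8c2330c12230800173280101104c10005cd33a43d3a4d32f8012f8c0402f4d23a03c3a0d22f4003f2f0d139c3b0f4e7344bc3e2f4c52f0e4be05c20010bd3d2f0022f01cbc050bc070041f008f0bd00805008bd2c,
  nat_lit 0x13c50946917410eb34d54030141a0a0d254000dc38d004551841cef5336800344c8d8024d80200434c0034548d200c0735c0835c073454402018d601cd601802345401e000d03503c0134008d1340cf4235c233680133d3c1b34c04004cf4e068cf338ccd0344ce21000d10b8d10013407000cd07338d50d8de0781a070df3d9094550f1885f1705b1a06744c83445033c0313b0e80a82c33c0633530e10005c280041e2a38000173300037c50f4415023b4d032401328cb4b36cf3411013b0cf320004a320e23d0063b4eb338c73e32cd6324240c008d10143c014d100924cd0005c0e0100c483180347324021737002133700213,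
  nat_lit 0x1a38dac1704c14388e16a004003800ce13b8e023384310a8ee3802ce14406a430e008380523800400090e1693c4093900638404004df68394f81144140cfb37cde67008df010e201cef080de66008401850437d940037c0264008f7074ec010df004dc633f8f6070eb00cde000db62374023a81b3d4fd0ecdb610f40036cc83d0e4fb3cc193a00036d8017370db5f0580036880e5058f03e0360e8ed3697802064045d014043e90741902368d95c360d94050541819364d85b390e50780135d3c01008013dd0440cff35d68e5100d6050d0063640235964d5000d521354df03c0b36807360005835c063640a038de03cd45737c17380fa4301e3b0d456,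
  nat_lit 0x183215c583c4d003114f0333e4593bdb401109150c0041c00040019e11244c2c004ed773ccf200cee3b5d906000ec1d080003b01c1e4450d004ec753b4ec3ada435004eb1d001073c1ac31164fb000ea7506c013a9d0000741b07ceb733ecea3a5b802000e8203a44a4701e3a0c0e94607445ce8083a05539c08e802410024e8713a00739c1c0039d1d1b06d1b11d39d24e64706b1b06b16d1c399c8e51645f164e571004280d429399c00601007004e46f3e0e438db8e7080e36d458644480238db005008e205,
  nat_lit 0x104004110fd21475064122103015030503c3d47d1b40c0040d04874091a4783c47d1e4690286404310cc31404b1000bd00054002f0c02f400e8ff0b4ff030040602102402140000cff6900c194201b0910e004fd8442413058270810c000fc83430220650605c013f4fc823f000074534993e2689b1c15e290a52b9642c953259470c0310e037460821344e458350bcff0060415410170810a424013ee00073ecfa090704f0acfb3e9fcfa0a4330d0330a4fa015f8fb0003c09008072a00404005f4f90003cfa0b8243d4003d8263e0027c3d4253dc013dc25088f47b3d1073cc88f542d181053722546545672f16a5dd7d388e333d7d5e0dc5d96858cb45413843028098f4000017a3cd09105093cc18f309cf2053cc211d4213cce8f3084f2033c9081e5083c8100843c58198f279,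
  nat_lit 0x4210902909420210700807009078a41803418090500505014191e48840048024140089]
theorem S0_c : blocks (facts 9 4 13 22 511 8191 4194303 10 1023 8 255 A R 32) 32 JS0 410 = true := by decide +kernel
theorem S0 : On (Step.{u} RG LW par A) 410 698 :=
  steps_of_blocks hpar hR S0_c (by decide +kernel)
theorem D0_c : allB (defOK 9 13 22 511 4194303 407 A K) 2 2 = true := by decide +kernel
theorem D0 : On (fun r => defOK par.W par.WL par.E par.mW par.mE 407 A K r = true) 256 512 :=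
  On.of_allB D0_c
noncomputable def JW0 : List ℕ := [nat_lit 0x1e862cd0d9c1c4604ca4e61c1384775931de676c88ebb3561c74cca1e43a27899f9af6386c0d931f368d2d991f33b27d8ed9e03becf4dbb473d4d08f61ee3d2ca1a2b3a390d359a1f867c7dcf29e13ccd04dab493e07c8f69f469488103b3c402d19b0b444507f9a79fa3f27f0fab4c442d4da0200690d8d032294048b1b022a6ca821a73696a48b901a326c4dbdb220b46cda1b8a344148e90936e470dcd1e23e6e0dd5b9240484911ba246,
  nat_lit 0x18f598c1d6e1353264f16c19161659cb92ed51c5c1809885d461cb42fe62ab90d0127304bf57d1842f86997a31934868cc09b964a6f8de15b2ac57d70a9631cb2182ade2766489f2d6320c24cf19c61a564cdb2e662c18ea30a3544f58c31b350c018baec3425b181989314614c61dc628cd99c9a2306c9d921c037a69cdc320374c8ccf99d61eb80cd32f3a0c10e930863a4fcd631a35c75999b0c3aa654ed33066e760d49ab362c858f1b6,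
  nat_lit 0x2ab20a4045c90618a2dc6528d1925807bae31863cc7a92f58247c961765e6a88bc122220449582b321a45562a9e26039d4c29b1be9d87110f272531321321502145327914a3654a8da1ae3715c2cd57c53c7f95c594b696e8e12aaaa16ca7a2682fc660cb51e988b327e5d62f4b2161208b954612d5febf1711862465dd7aac02f4498c02f25f65f8be8d85283786b297222b24a69312665756215e5be38caa1385ae9e09d15a2aeb6cac0dd,
  nat_lit 0x2754e427c500a21549f5260ac49c1e8228640f0985550fd55aa088428116c9605c0b518e2ec35a8b190a947b0f85103b4620c1508309438f15764708f2a61e8a81518ea1e44515a8e55643a54e0d353e2447429d534390478e621c42d5888b2182084207e4ca2013a08d13c9dc522b92264695b2ae5784b95f92120e4656591729ca494c8d51b6284701025524004d8fe15226053a7b1461ec3406a0f898c5927f1602b4570be4f8a145e260,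
  nat_lit 0x534a2158288540b49542e05e0aa149280580a094c210404969201f0710de96c2f8621289a82b8924da9bc4405d12c9b02da540c095d290954e61644e2700941192684807e1382224a09893c3806e4b295831a80174969418b418c30032a8950ca907e0fa514a9c782a11dc3ac760cf1a4a44498d01062253388a10e9a13587f1202193488c4cc23840abd57446c90109230ad08b2b71a23386a29013aa4c8190a55825d57a6e1321844d271,
  nat_lit 0x3a0780d924838]
theorem W0_c : blocks (rows 9 4 13 22 511 8191 4194303 11 2047 55 A 698 126 cols 25) 25 JW0 0 = true := by decide +kernel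
theorem W0 : On (Row.{u} RG LW par A 698 126 cols) 0 150 :=
  rows_of_blocks hpar (by decide) hcols W0_c (by decide +kernel)
theorem idx : Idx.{u} RG [[0], [2], [4], [6], [8]] [[0], [4], [6], [8]] 126 :=
  idx_of_cert hpar hR (K := K) (by decide +kernel) (T := 407) (T' := 512) (by decide) D0
    (subs := [1,3,4,5]) (by decide +kernel) (T1 := 410) (by decide) (N := 698) S0
    (by decide) (n' := 150) (by decide) W0 (by decide +kernel) (by decide +kernel)
end T1
namespace T2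
noncomputable def A_0 : List (ℕ) := [nat_lit 0x1820d0788381e80e06903c1660d0590241080b0320281260902a0240e6070208141020601880806803009804064010080400261001200802801002000006000798381c40c06a0301860a0588281440704881c0e80408100c06605029020106060310100860201100002200]
noncomputable def A : List (List (ℕ)) := [A_0]
noncomputable def K_0 : List (ℕ) := [nat_lit 0x10787c3a1b0c85c2a13048440e0b02834060000]
noncomputable def K : List (List (ℕ)) := [K_0]
noncomputable def R_0 : List (Rule) := [Rule.mk (nat_lit 4) (nat_lit 32) (Steps.bwd (nat_lit 1) (Steps.fwd (nat_lit 2048) (Steps.fwd (nat_lit 512) Steps.nil))) (nat_lit 12) (nat_lit 0),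
  Rule.mk (nat_lit 4) (nat_lit 32) (Steps.bwd (nat_lit 2) (Steps.fwd (nat_lit 2048) (Steps.fwd (nat_lit 1024) Steps.nil))) (nat_lit 22) (nat_lit 0),
  Rule.mk (nat_lit 3) (nat_lit 77) (Steps.bwd (nat_lit 2) (Steps.bwd (nat_lit 3) (Steps.bwd (nat_lit 2) (Steps.bwd (nat_lit 3) (Steps.bwd (nat_lit 2) (Steps.bwd (nat_lit 3) (Steps.bwd (nat_lit 2) (Steps.fwd (nat_lit 512) Steps.nil)))))))) (nat_lit 20) (nat_lit 2),
  Rule.mk (nat_lit 0) (nat_lit 86) (Steps.bwd (nat_lit 2) (Steps.bwd (nat_lit 3) (Steps.bwd (nat_lit 2) (Steps.bwd (nat_lit 3) (Steps.bwd (nat_lit 2) (Steps.bwd (nat_lit 3) (Steps.bwd (nat_lit 2) (Steps.fwd (nat_lit 1536) (Steps.fwd (nat_lit 512) Steps.nil))))))))) (nat_lit 21) (nat_lit 0),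
  Rule.mk (nat_lit 2) (nat_lit 23) (Steps.bwd (nat_lit 0) (Steps.bwd (nat_lit 2) Steps.nil)) (nat_lit 42) (nat_lit 0),
  Rule.mk (nat_lit 3) (nat_lit 23) (Steps.bwd (nat_lit 0) (Steps.fwd (nat_lit 1536) Steps.nil)) (nat_lit 42) (nat_lit 0),
  Rule.mk (nat_lit 1) (nat_lit 77) (Steps.fwd (nat_lit 1536) (Steps.fwd (nat_lit 1024) (Steps.fwd (nat_lit 1536) (Steps.fwd (nat_lit 1024) (Steps.fwd (nat_lit 1536) (Steps.bwd (nat_lit 2) (Steps.fwd (nat_lit 1536) (Steps.fwd (nat_lit 1024) Steps.nil)))))))) (nat_lit 20) (nat_lit 1),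
  Rule.mk (nat_lit 1) (nat_lit 77) (Steps.fwd (nat_lit 1536) (Steps.fwd (nat_lit 1024) (Steps.fwd (nat_lit 1536) (Steps.bwd (nat_lit 2) (Steps.fwd (nat_lit 1536) (Steps.fwd (nat_lit 1024) (Steps.bwd (nat_lit 3) (Steps.bwd (nat_lit 2) Steps.nil)))))))) (nat_lit 20) (nat_lit 1),
  Rule.mk (nat_lit 1) (nat_lit 77) (Steps.fwd (nat_lit 1536) (Steps.bwd (nat_lit 2) (Steps.fwd (nat_lit 1536) (Steps.fwd (nat_lit 1024) (Steps.bwd (nat_lit 3) (Steps.bwd (nat_lit 2) (Steps.bwd (nat_lit 3) (Steps.bwd (nat_lit 2) Steps.nil)))))))) (nat_lit 20) (nat_lit 1),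
  Rule.mk (nat_lit 3) (nat_lit 50) (Steps.bwd (nat_lit 4) (Steps.bwd (nat_lit 3) (Steps.fwd (nat_lit 2048) (Steps.fwd (nat_lit 1536) (Steps.fwd (nat_lit 2048) Steps.nil))))) (nat_lit 24) (nat_lit 1),
  Rule.mk (nat_lit 4) (nat_lit 32) (Steps.bwd (nat_lit 1) (Steps.bwd (nat_lit 4) (Steps.bwd (nat_lit 1) Steps.nil))) (nat_lit 12) (nat_lit 0),
  Rule.mk (nat_lit 3) (nat_lit 50) (Steps.fwd (nat_lit 2048) (Steps.fwd (nat_lit 1536) (Steps.fwd (nat_lit 2048) (Steps.bwd (nat_lit 3) (Steps.bwd (nat_lit 4) Steps.nil))))) (nat_lit 24) (nat_lit 1),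
  Rule.mk (nat_lit 4) (nat_lit 32) (Steps.bwd (nat_lit 2) (Steps.bwd (nat_lit 4) (Steps.fwd (nat_lit 1024) Steps.nil))) (nat_lit 22) (nat_lit 0),
  Rule.mk (nat_lit 2) (nat_lit 32) (Steps.fwd (nat_lit 2048) (Steps.bwd (nat_lit 2) (Steps.bwd (nat_lit 4) Steps.nil))) (nat_lit 22) (nat_lit 1),
  Rule.mk (nat_lit 3) (nat_lit 50) (Steps.bwd (nat_lit 4) (Steps.bwd (nat_lit 3) (Steps.fwd (nat_lit 2048) (Steps.fwd (nat_lit 1536) (Steps.bwd (nat_lit 4) Steps.nil))))) (nat_lit 24) (nat_lit 1),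
  Rule.mk (nat_lit 2) (nat_lit 77) (Steps.bwd (nat_lit 3) (Steps.bwd (nat_lit 2) (Steps.bwd (nat_lit 3) (Steps.bwd (nat_lit 2) (Steps.fwd (nat_lit 512) (Steps.fwd (nat_lit 1536) (Steps.fwd (nat_lit 1024) (Steps.bwd (nat_lit 3) Steps.nil)))))))) (nat_lit 20) (nat_lit 5),
  Rule.mk (nat_lit 4) (nat_lit 32) (Steps.bwd (nat_lit 2) (Steps.fwd (nat_lit 2048) (Steps.bwd (nat_lit 2) Steps.nil))) (nat_lit 22) (nat_lit 0)]
noncomputable def R : List (List (Rule)) := [R_0]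
def LW : List Word := [[], [0], [4], [6], [8], [6], [7], [8], [9]]
def par : Par := ⟨9, 4, 13, 22, 511, 8191, 4194303⟩
theorem hpar : par.ok := by decide
theorem hR0_0 : lall (R) (fun l => lall l (ruleOK RG LW par)) = true := by decide +kernel
theorem hR0 : lall (R) (fun l => lall l (ruleOK RG LW par)) = true := hR0_0
theorem hR : RulesOK RG LW par R := rulesOK_of rfl hR0
def cols : List (ℕ × ℕ) := [(512, 1), (1024, 2), (1536, 3), (2048, 4)]
theorem hcols : lall cols (colOK RG LW par) = true := by decide +kernel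
noncomputable def JS0 : List ℕ := [nat_lit 0x170b00806040381006900808060601808021540002c15880002040c8602c1409c0021d0105428f0006c06e028002810d85828d0005c0a170030021409ac26190406426a0b8582a140200c0814485026030100c26140aa004010104826140a858e010280440200981c002850081309044200f0703481309044200f070341830880422208800221]
theorem S0_c : blocks (facts 9 4 13 22 511 8191 4194303 9 511 5 31 A R 32) 32 JS0 273 = true := by decide +kernel
theorem S0 : On (Step.{u} RG LW par A) 273 305 :=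
  steps_of_blocks hpar hR S0_c (by decide +kernel)
theorem D0_c : allB (defOK 9 13 22 511 4194303 272 A K) 1 2 = true := by decide +kernel
theorem D0 : On (fun r => defOK par.W par.WL par.E par.mW par.mE 272 A K r = true) 256 384 :=
  On.of_allB D0_c
noncomputable def JW0 : List ℕ := [nat_lit 0x6c45070190684411c181241e074161204b118170881f0844d0904a13c4c0a0260805108c5b1602f14c2a138500945a1742e0a4561642c1485f1702d0c8570dc310f05e184300f8340d8631004218062]
theorem W0_c : blocks (rows 9 4 13 22 511 8191 4194303 10 1023 40 A 305 16 cols 32) 32 JW0 0 = true := by decide +kernel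
theorem W0 : On (Row.{u} RG LW par A 305 16 cols) 0 32 :=
  rows_of_blocks hpar (by decide) hcols W0_c (by decide +kernel)
theorem idx : Idx.{u} RG [[0], [4], [6], [8]] [[6], [8]] 16 :=
  idx_of_cert hpar hR (K := K) (by decide +kernel) (T := 272) (T' := 384) (by decide) D0
    (subs := [3,4]) (by decide +kernel) (T1 := 273) (by decide) (N := 305) S0
    (by decide) (n' := 32) (by decide) W0 (by decide +kernel) (by decide +kernel)
end T2
namespace T3
noncomputable def A_0 : List (ℕ) := [nat_lit 0x240502a030220201c010140000a00]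
noncomputable def A : List (List (ℕ)) := [A_0]
noncomputable def K_0 : List (ℕ) := [nat_lit 0x20903814060000]
noncomputable def K : List (List (ℕ)) := [K_0]
noncomputable def R_0 : List (Rule) := [Rule.mk (nat_lit 2) (nat_lit 46) (Steps.bwd (nat_lit 1) (Steps.bwd (nat_lit 2) (Steps.bwd (nat_lit 1) (Steps.fwd (nat_lit 1024) (Steps.fwd (nat_lit 512) Steps.nil))))) (nat_lit 24) (nat_lit 0)]
noncomputable def R : List (List (Rule)) := [R_0]
def LW : List Word := [[], [6], [8]]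
def par : Par := ⟨9, 2, 11, 20, 511, 2047, 1048575⟩
theorem hpar : par.ok := by decide
theorem hR0_0 : lall (R) (fun l => lall l (ruleOK RG LW par)) = true := by decide +kernel
theorem hR0 : lall (R) (fun l => lall l (ruleOK RG LW par)) = true := hR0_0
theorem hR : RulesOK RG LW par R := rulesOK_of rfl hR0
def cols : List (ℕ × ℕ) := [(512, 1), (1024, 2)]
theorem hcols : lall cols (colOK RG LW par) = true := by decide +kernel
noncomputable def JS0 : List ℕ := [nat_lit 0x2030200801]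
theorem S0_c : blocks (facts 9 2 11 20 511 2047 1048575 9 511 1 1 A R 32) 32 JS0 260 = true := by decide +kernel
theorem S0 : On (Step.{u} RG LW par A) 260 292 :=
  steps_of_blocks hpar hR S0_c (by decide +kernel)
theorem D0_c : allB (defOK 9 11 20 511 1048575 261 A K) 1 2 = true := by decide +kernel
theorem D0 : On (fun r => defOK par.W par.WL par.E par.mW par.mE 261 A K r = true) 256 384 :=
  On.of_allB D0_c
noncomputable def JW0 : List ℕ := [nat_lit 0xf8410fc431144011c421104911848]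
theorem W0_c : blocks (rows 9 2 11 20 511 2047 1048575 10 1023 20 A 292 6 cols 64) 64 JW0 0 = true := by decide +kernel
theorem W0 : On (Row.{u} RG LW par A 292 6 cols) 0 64 :=
  rows_of_blocks hpar (by decide) hcols W0_c (by decide +kernel)
theorem idx : Idx.{u} RG [[6], [8]] [] 6 :=
  idx_of_cert hpar hR (K := K) (by decide +kernel) (T := 261) (T' := 384) (by decide) D0
    (subs := []) (by decide +kernel) (T1 := 260) (by decide) (N := 292) S0
    (by decide) (n' := 64) (by decide) W0 (by decide +kernel) (by decide +kernel)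
end T3
def t0 : Net := [(nat_lit 0x510410510415500055115445150051545405514115140444100110415104411101110441010015504541414005505410141515144140510040400110505545554504504505550001451411555415105500000000140000, nat_lit 1),
  (nat_lit 0x1101103122012312030303311231133112220130123033211230122323311132212212122210223231133000230231312002033302221210000000100313220222012312232301031223323010000110203330010110110, nat_lit 2),
  (nat_lit 0xb080c020002010d08080f0300060c0e0503070f060e0a03080404030d0d0b03090a0605070109040e0d010c0a080e0c080707070f080f070f0c0a0506030f03040f0b07000c040b08020d09000b0e010f0c0000020304, nat_lit 4),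
  (nat_lit 0x22008b00a80078009a0024008b008b007000f600e0004c00e300c00077009900300014000e00bc009c003b001d0058006d008e00ae00f20062006d00aa00a800c80028009f00180002000900390025000b004b00cb0030, nat_lit 8),
  (nat_lit 0x3ffb0000be6700002c7300008e060000ee6d00001ed6000081c7000084f7000026e0000056d80000a6b600004aab0000edb40000d59e0000b928000016b200005863000023e7000068240000dcd900006f2f0000cb00, nat_lit 16),
  (nat_lit 0x109a17100000000298b79b1000000008b3e5107000000004d212dda00000000098d2651000000006b1bd7ef00000000770e5c820000000050746d0300000000d8084760000000008d1b68340000000024ab0000, nat_lit 32),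
  (nat_lit 0x7cd2fffd7b042c6f00000000000000003f5f8b50e736d2af00000000000000003838502b990457870000000000000000f966d36051befb230000000000000000c04074d912400488, nat_lit 64),
  (nat_lit 0x115fe5fdf8fe7e07000000000000000000000000000000000051e3511c215519fff670f3aa4bac7700000000000000000000000000000000028108062ca593530000000002000488, nat_lit 128),
  (nat_lit 0x25240401d24044ac77d47cbfaebe99e9d7c1afd5f97b5541ac20100208008100, nat_lit 256),
  (nat_lit 0x1040040806380089c7c1afd5797b5541ac20100208008100, nat_lit 512),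
  (nat_lit 0x1040040806380089c7c1afd5797b5541ac20100208008100, nat_lit 256),
  (nat_lit 0x184004080218800900000000000000000000000000000000e3250804700b552066902897a80290400000000000000000000000000000000000000000000000000000000000000000, nat_lit 128),
  (nat_lit 0xff37ddc4a176b643000000000000000072133625fe06388c000000000000000019141903c2000d040000000000000000000108042086970a00000000000000000000000002000488, nat_lit 64),
  (nat_lit 0x91d016100000000389041140000000078d2a159000000004610956e000000000c6dd2f100000000457008bb000000001f465c8a00000000245530020000000088000e4800000000c00020100000000000000000, nat_lit 32),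
  (nat_lit 0x400005e790000b15600000cb000001b480000a551000001da0000e1dd00004348000003000000498000005f8b000032d50000f5960000bc0000004a1b0000404b0000234f00000024000090580000242b00000000, nat_lit 16),
  (nat_lit 0x80064000b00a8009b00ef00520045007b00d0008b002e0038009900c70019003800d60064008d00ec0028001500b40069008400e200d200620068008200a900e0002d009a00300006000900110020000b004b00cb0000, nat_lit 8),
  (nat_lit 0x10c080b0a08000d0300060a0a01020f0d01040507040509090e04070c0c0b0b09080d0706030b060c0c09060a050608080705040f080f070f0c0a0506010f030c0f0b07000c040b08020d09000b0e010f0c0000020300, nat_lit 4),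
  (nat_lit 0x201222002012313030223311031333112023300310030311212302321031132012220020210001213313002230003131002003302221010000000020313020200012312232201031221323010000110103330010110110, nat_lit 2),
  (nat_lit 0x410010000455105055115041150451545005554110141444100110415114411101110441000015504541414005505410141515144140510040400110505544554504504505550001451511555415105000000000140000, nat_lit 1)]
def t1 : Net := [(nat_lit 0x14455000415001414001510410040111500014545144440514404554554115504151141155150145051150551400011005044440014004115441151414554515440415405401001400405050105101054004401000151014, nat_lit 1),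
  (nat_lit 0x3013231030211133133323021202102033230313011120122203033200000220212000012332203011021133033332313022222302033122002233213002023312113101003022103011331030321131002020000202012, nat_lit 2),
  (nat_lit 0x30b00030e01010d0308020d0e06000e0f000d000b0d030d05000c0f080e04040c060f060f0405070f070a0105070d0b06050206020e00010804070709010500030d0707030a0c000c0d0e080608020c07000a00040004, nat_lit 4),
  (nat_lit 0x38006a00d4002500db00b7000200cd008400ea005700c9000300a700d400fd009000d4007900960010002a0035008300d700e900a1007b00b700b7002f006e004b002500a900ac00c700cf00e2006d00040088008d0080, nat_lit 8),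
  (nat_lit 0x3d7b0000d77f00009676000070c200006774000048d40000b6340000ad380000598300008c3f0000509e00008dac000048f70000bd07000018eb0000d1570000b92900004d19000048fb000030550000448a0000d500, nat_lit 16),
  (nat_lit 0x286c02e600000000adcbb26900000000a8ef77c40000000067747e93000000006548564e000000000623b4e6000000003edde5e000000000462147540000000077e32efa0000000046dd010d0000000008be8000, nat_lit 32),
  (nat_lit 0x2dd8ec8e348f1ad50000000000000000b2a429ad5fd4bb0b0000000000000000597c08eeb02196a00000000000000000a3a40b49e3e03e7a000000000000000076a87f0d21008000, nat_lit 64),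
  (nat_lit 0x3c6cc8a2b1f2f98100000000000000000000000000000000117f070aa9e273a5daafe97ffdfdbf5f00000000000000000000000000000000a852c4b048d022be5429008201000000, nat_lit 128),
  (nat_lit 0x50ac388bb70bc948b6567c15deffdedc7f39c74ff7a675d3609212445a1c0810, nat_lit 256),
  (nat_lit 0x4000000022090007739c70ff7a675d3409212445a1c0810, nat_lit 512),
  (nat_lit 0x4000000022090007739c70ff7a675d3409212445a1c0810, nat_lit 256),
  (nat_lit 0x400000010309800000000000000000000000000000000005badc98be3012cd9105664141c1f4a840000000000000000000000000000000010000000800000000000000000000000, nat_lit 128),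
  (nat_lit 0x6e9b880efce6c5d000000000000000003822a92d573ee941000000000000000040a848ceb40082d800000000000000003c70c400210262a200000000000000002028000001000000, nat_lit 64),
  (nat_lit 0x82c402200000000cd1a751100000000e8bc321500000000b227b823000000002718d31200000000c670591600000000f605a0c00000000004e9434400000000b12366e20000000082800d050000000000000000, nat_lit 32),
  (nat_lit 0x30c00000d3fd000004e4000060500000e4ed0000cc44000036270000a609000043990000852e0000568f0000051c0000c46e0000fe15000010f20000954a0000bd3000000101000004eb0000e48d0000088200008000, nat_lit 16),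
  (nat_lit 0x1200e200c500b5005300320001004e000f004b00d7004000800016004400740013005600d00017009200a900b6000300570068002a00f3003f003600af00c6008900ad002800a400480047002200a1000c000000050000, nat_lit 8),
  (nat_lit 0x2090100030601010d0300020d0e06000e0f000d000b0d010d05000c0f080e04040c060f060f0005070f070a0105060d0b06050206020e00010804070709010500030d0707030a0c000c0d0e080608020c07000a00040000, nat_lit 4),
  (nat_lit 0x3003231030201133133323021202102033230313011120122203033200000220212000012332203011021133033332313022222302033122002233213002023312113101003022103011331030321131002020000202010, nat_lit 2),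
  (nat_lit 0x14455000415001414001510410040111500014545144440514404554554115504151141155150145051150551400011005044440014004115441151414554515440415405401001400405050105101054004401000151014, nat_lit 1)]
def t2 : Net := [(nat_lit 0x1405055050000050141104550555544040041550540001411145500450414451440544505445100410500441010504154051550415441140115154405505004044154104455151454450101010151100050554515040000, nat_lit 1),
  (nat_lit 0x3012301213211212023300301012312000323210003121112011312303200111301103212022113113102110002132013313311313011011130002010032001313221120332020211133100102200013021303200100310, nat_lit 2),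
  (nat_lit 0x1020b030b000c0d0c080d0906080c0602070e0c010f0a090e0e070d0f0006060a090001090900070600080e00050009050b09090109030c080e0004000e08080600020c0604030208090009090102060306080c04020304, nat_lit 4),
  (nat_lit 0x1d009f00ef00c8009e00b500b2004b0084006e004b0041005f00ad002f00b80005002300580068004400a00089007800930035005d00e60009007100a900000012003400fe000c000d001200300030006000dc004e0030, nat_lit 8),
  (nat_lit 0x3e1b000072aa0000043400001b31000064b90000a7a0000042e800001fb7000032240000e7770000da060000791700008f0e0000eec20000714000007fed000079790000f7df0000d9f10000fda500005c6e0000cb00, nat_lit 16),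
  (nat_lit 0x766f18e00000000fc74636e00000000b2f908f00000000096c0545a00000000344df9bd00000000f6c514ab000000009a2032d6000000000c85c4a800000000a83de73d0000000001a8d8e10000000084ec8000, nat_lit 32),
  (nat_lit 0xac844de7ba69cc98000000000000000043fe986ee38fb77c0000000000000000ad0aef254826ffd200000000000000004300e33194d150ff00000000000000003b046a5134000651, nat_lit 64),
  (nat_lit 0x710abebfa919ba5000000000000000000000000000000002f2ba7e54c8fdf45d5f4fd3f75c85f9e0000000000000000000000000000000084038ca44af5e18a0811000080000650, nat_lit 128),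
  (nat_lit 0x7bf8505aa10a8675c7d6afefbd75ddd9c7dbc7f73fc7f3cfd8271410290e084b, nat_lit 256),
  (nat_lit 0x1203018000145047dbc7f73fc7f3cfd8271410290e084a, nat_lit 512),
  (nat_lit 0x1203018000145047dbc7f73fc7f3cfd8271410290e084a, nat_lit 256),
  (nat_lit 0x3413010008141000000000000000000000000000000000c72bc2b88c87a767c5c42cce292489080000000000000000000000000000000000000000000000000000000000000000, nat_lit 128),
  (nat_lit 0xc8e449429399e0ae00000000000000003fe601932d0bef5200000000000000002c8ad850082e834000000000000000000a2008c04865844b00000000000000000000800080000651, nat_lit 64),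
  (nat_lit 0x626b42a00000000c81433da000000001f15451400000000ab98156a0000000008b5c98500000000d308112b00000000ec04222a00000000004590ac0000000048154b9100000000090480410000000000000000, nat_lit 32),
  (nat_lit 0x3840000612e0000100000000aa10000692900008c040000f74000009e3900004a9c000033cb00001b920000b4bb000003b6000052220000c9d800008b750000a0c500000b7b00005051000031150000946800000000, nat_lit 16),
  (nat_lit 0x23008300fb00f400a2009100ae004f0080003a007f0035004300890013008400790047006c004c0078008400bd0024000f0041001100a2001d0005008d0020003e0030008a0008000900160010003c006000d8004a0000, nat_lit 8),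
  (nat_lit 0x30801030b08080d0c00050106080c0602070e0c000f0a09020e070d0b0006060a090001010900070608080e00050001080301090009030808060004000e0c08060002040a0403020c0100090d01020e0302080804020300, nat_lit 4),
  (nat_lit 0x2012300213211212023300301210312000323010003121112011312303000111301103212022113131102110002110033313311313011213112002010032001333221320132000211112100102200013021303200100310, nat_lit 2),
  (nat_lit 0x405011050000050141104550155444040041550500001411144500450414451400504505445000400500441010504154051550414441100115054405505004044154104415151410450101010051100010454111040000, nat_lit 1)]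
def t3 : Net := [(nat_lit 0x14400550150550414011550114054100550115401014554501510544054055550411154501040551444045405410004114554445151501411001050510041014444001410001040040044401045405501405001001504010, nat_lit 1),
  (nat_lit 0x2322130312312022133131211132022031013233121131011202011111223011321303210310101200203013233002322331331201311203123123020110200100203213320012230122200110102212000300003001012, nat_lit 2),
  (nat_lit 0x10a010e050909030e060d0106000101060c090c050a0308020c0d0e020e0a080208080f0c0b050a020503020f070306080b0e000707000802090203060e080a0a040d010f00030f0305020b07000c01090f040e02040204, nat_lit 4),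
  (nat_lit 0x2b002700a8007c00b100d400d300280011004e005100fa0039000000e5004d00520040001c00fc006d000a003f00e6009a003d002e00ea00d80090002b0030008a00660039002b00b60013001e003e000700f000050030, nat_lit 8),
  (nat_lit 0x3ed300002371000011620000104f0000222e0000adb80000042200004fd40000ad5200009b24000092a2000016ce000045580000ee4f00005d9a0000f289000000450000159800009038000072fd0000016a00008f00, nat_lit 16),
  (nat_lit 0x32a3b2f4000000007762870000000000e7d9b50600000000d1e1f62300000000d6d26290000000008a205677000000001da78b45000000002029d115000000005d7bab4f0000000001b140190000000070f70000, nat_lit 32),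
  (nat_lit 0xa826ded7b88f28b0000000000000000084177e3d9df0023500000000000000002e1bd1a2e6411eda000000000000000010070220a67b3f9f0000000000000000c90cdfbd50000201, nat_lit 64),
  (nat_lit 0x12b4b2de2597a525000000000000000000000000000000000b5ba78ea3e71fff274afeff95f6726d00000000000000000000000000000000b6f2204afffffdfe4d08804200000201, nat_lit 128),
  (nat_lit 0x90f9db501010201faf57dbbbbeefdfefab37dddd9e8c8014e475d114b4442c8, nat_lit 256),
  (nat_lit 0x15000200800000fab37ddd99e8c8014e435d114b4442c8, nat_lit 512),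
  (nat_lit 0x15000200800000fab37ddd99e8c8014e435d114b4442c8, nat_lit 256),
  (nat_lit 0x10020180020000000000000000000000000000000000a097242c49618201fae07d99294cd1620000000000000000000000000000000008030100000000000000000000000000, nat_lit 128),
  (nat_lit 0xa024d1d1310ba22c00000000000000007f89911d4514c2310000000000000000a08350844341bbd00000000000000000c9b9810c7e4d9d9300000000000000001004000000000201, nat_lit 64),
  (nat_lit 0x32b5307000000000d1e02f02000000004629bf8000000000296d38ad00000000203a011c0000000009045cf100000000e80e2a4b0000000059905011000000008c468b4b000000005000d0010000000000000000, nat_lit 32),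
  (nat_lit 0x950000a1e300000b760000308b00002aae000063340000aa1a000060dc000006540000b8b000009422000037620000ccdc0000496f0000541e00005085000002c100009494000011380000d2710000806200000000, nat_lit 16),
  (nat_lit 0x280005002000b400b3001c0049000a001300e60099001e005300a0006500cf0050008a009600dc006f00080035006e009000f3000c004a0058001000a100120080006e0029000b00260093002400360007006000050000, nat_lit 8),
  (nat_lit 0x108010e050909030e04080b0e0000010e0c09060d080e0e0a0c0d0e020a02080208080f05020a020a05020004070b08000b0a0e0f0700080009020b020601020a040f030704030f030702030f000401090f040602040200, nat_lit 4),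
  (nat_lit 0x2302130312112222113113013112020231012213121331011002011111223011321323210112123200001031223022202331331221311203223123020110002100221313300012230102200112100012000300003001010, nat_lit 2),
  (nat_lit 0x14440550150551410011400104054100510015441014154511510544054454550411154501040551404045405410000414554444151501411001050510041014444001110001040040044401045405401405001001504010, nat_lit 1)]
def t4 : Net := [(nat_lit 0x10500504540514054155411110054505004101405005445500011450114405500154114505404044514440504445405400550511410551115501054105015004014501440001504150144045011510100041101005400, nat_lit 1),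
  (nat_lit 0x122301120201210303103333200303030210202033231111123323210023102330010200231313131013130020333201222123223100130002301231321232331213231313302310202010130301200021022101020000, nat_lit 2),
  (nat_lit 0x20008010408000a0e020c080b0e07040c0c010f0b0903080b0b0301040a070002090b040c020d09030b0d04070d090b0303070b0606070408030a0f03090f0b050a050801080e0003010d08050708080900000c09000008, nat_lit 4),
  (nat_lit 0x2d00a2004400c4003600de0096006100e3002100f2001600f600ae009a00c800f5005200be005800cf0061001f0047002200920090009a00b2000400b900ca00ab002a00fa001900ed005800400020003f007400030020, nat_lit 8),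
  (nat_lit 0xfe000034a30000a48f0000589b0000732100007c600000672a00000f8f00001f20000051de0000be1f000077c100007e8d00006b5800000dac0000d3ff00006bd1000095cb0000e18300003fd30000803c00009700, nat_lit 16),
  (nat_lit 0x2cd3f02e000000002eb6bf33000000004252c95b00000000d03ce99c000000004ab764a900000000b046629b000000002e8ff90200000000cbd0425500000000b77d70bc00000000002075b30000000040bf4000, nat_lit 32),
  (nat_lit 0xb4a8c4fe560c8260000000000000000a65bb77bd22a139900000000000000002f81e158620758630000000000000000080062d3e4d3623d00000000000000008701bfd328280011, nat_lit 64),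
  (nat_lit 0xc2d26a37200a12000000000000000000000000000000008e81904c2a05a591fa9c3dfbff7fbef00000000000000000000000000000000041e2c00c8054d9a6b441002c00280011, nat_lit 128),
  (nat_lit 0xb61d3f617fab26596fbde9c7ec74efa7d96f103f9bbf98371481ac91c87adca1, nat_lit 256),
  (nat_lit 0x2401000400000103d96f103f9bbf98171481ac91c87adca1, nat_lit 512),
  (nat_lit 0x2401000400000103d96f103f9bbf98171481ac91c87adca1, nat_lit 256),
  (nat_lit 0x20002004c028008200000000000000000000000000000000f8053258ee973a5d43bc89010824cca00000000000000000000000000000000000000000000000000000000000000000, nat_lit 128),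
  (nat_lit 0x1d46c4dba5fe5c260000000000000000769992ad93fa0d1f0000000000000000dc03ad82c7d702c500000000000000008521c0001250c01400000000000000000001000000280011, nat_lit 64),
  (nat_lit 0x24c3f02e000000006eba943300000000a7f8049c0000000041030dd10000000023118a2500000000d74ca09400000000590d3460000000004dd3247300000000715f883e00000000000035b30000000000000000, nat_lit 32),
  (nat_lit 0x500000d4280000640100009c180000b7810000b8e00000e5910000a8600000baa20000937c0000509d0000f1610000fa000000b3a30000e84b0000505c0000c15200003168000054200000bdd30000003c00000000, nat_lit 16),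
  (nat_lit 0x2c00a2006000e8003200d600d2006100c7000100cf003e00d200d200ea006800f5003a00b2000800830061003b006f000a00b200f800c60022004000d400da00ab000200da003500f1004900000020001b007400030000, nat_lit 8),
  (nat_lit 0x20008010408000e0a020c080b0e07040c0c010f0a0803080b0b0601050a0700020d0b040c020d08030b0d04070d090b0203070b0603070408030a0a03080f0a040a050801080e0003010c09050708000900000c09000000, nat_lit 4),
  (nat_lit 0x122201120201210303103333200303030210202033231111123223200023102330110200231313131013130020333201222133222010130002301321331232331203230312302211213011130300200020022101020000, nat_lit 2),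
  (nat_lit 0x10500504540514054155411110054505004101405005445500011450114405500144114505404044514440504445404000550511410511105501054105015004014501440001504150144045001500100041101005400, nat_lit 1)]
def t5 : Net := [(nat_lit 0x5111141155401510454444441105000441445415441110051505155050111501105105141040415155115444514501554455000544051541104451010110010141511410405041151505111150454501445505145410101, nat_lit 1),
  (nat_lit 0x230320233011103020222012203332031220230211020102211122113023033202323130110110102122320121021212220113311013001031112102102322123201011311211320211123233113313110111221012211, nat_lit 2),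
  (nat_lit 0x2000a0a040d020d0e0501090107080709040d0d0e0a0e0908010c06020d0e04090e0a0b0906000309080e0c050908020c0c01040d060e0a000807040e0f0a08030c09090b0c0e060f000d0409030d04040c0a0b080f0701, nat_lit 4),
  (nat_lit 0x2b007000470094000c00270089009600550004007800d3008900e500830085000c00740056007f002000d00058006a005b001a008a006d00ee00b1003b00fc00140034009900ee001400f600b8000800200086001300e8, nat_lit 8),
  (nat_lit 0x31630000119e0000decf00005ada000051f300003e510000adba0000522c0000e3b2000002ff0000885c0000f9610000d82b000094cf0000e20600008f960000ac830000894c00001e360000fd7a0000f1a700009720, nat_lit 16),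
  (nat_lit 0x2e0c38540000000051606c1e00000000fb7ae74e00000000ffedd73b00000000280310fe0000000064ba8cc6000000005cc2e3c900000000a605ab02000000003cfec9ff00000000150a89a40000000042cf0400, nat_lit 32),
  (nat_lit 0x5c4257e3f79094f10000000000000000a58d34a913ff12a10000000000000000fb458485045bfb3d0000000000000000c1d9aa1eeee1bd4600000000000000007180dbeb2854c000, nat_lit 64),
  (nat_lit 0x3e8e6cf8f2f102b500000000000000000000000000000000080a0459dd81fe1593559ffe9f3711bb000000000000000000000000000000000a464530970117db358020410040c000, nat_lit 128),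
  (nat_lit 0xd5e922c248fec024325d9fbcfd43f1ff859f7d7f7345bd4fc5949316150e2889, nat_lit 256),
  (nat_lit 0x100000a02040c000859f7d7f7345bd4fc1149316150e2889, nat_lit 512),
  (nat_lit 0x100000a02040c000859f7d7f7345bd4fc1149316150e2889, nat_lit 256),
  (nat_lit 0x110010a03006c0810000000000000000000000000000000080dd664a48e9280f62c51718150200b90000000000000000000000000000000000000000000000000000000000000000, nat_lit 128),
  (nat_lit 0x99954d0e02f603380000000000000000ed9e5236141fe4a3000000000000000010c844c2449820b90000000000000000200a4161d001c2450000000000000000058020100040c000, nat_lit 64),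
  (nat_lit 0x2798fc7800000000576b792800000000971d2234000000005eb85a8400000000d72d031e00000000aca5434100000000624e489900000000808101a100000000cc827339000000004000b2100000000000000000, nat_lit 32),
  (nat_lit 0xe9400008f760000dad800000744000071050000d6ab0000b9de000084110000643900006f820000a80a000038b100001e18000034c2000007120000617d0000a030000099b10000a80700002e9900000ad100000000, nat_lit 16),
  (nat_lit 0x5007200b4005d00170094003900cd0052008600cf003a00eb00a30085003a008b0008007700e30088005800a1004400790090009900aa00c900d7004700d200900068006f00be005b002100ec008600c200c300940000, nat_lit 8),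
  (nat_lit 0x20302060c03010e0e060c020a000708090b0c03000c0106070d050309060f0b050f0e0d010c09050a0706050b020d0e030b060902030107010904040105040108030304020e0b0109060b0506040408040406090c080400, nat_lit 4),
  (nat_lit 0x1031322323311331022101303222223003021132333133013012331302221032300321120031301102231032301233011130010310110323222310212212000123313230301102013100033223302002201312221022231, nat_lit 2),
  (nat_lit 0x15045044401101555111040004154154015414511500051540105155150141415541444450014141400040551444515444555051455151154001450501051511055540010150441450140401541501011550440055115100, nat_lit 1)]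
def C : Ctx := ⟨702, 10, [t0, t1, t2, t3, t4, t5]⟩
theorem hC : C.ok = true := by decide +kernel
noncomputable def lk : ℕ → ℕ → ℕ := look C 256
theorem hlk : Good C lk := good_look hC (by decide +kernel)
def gens : List Word := [[0], [2], [4], [6], [8], [10]]
def low_w3 : List Word := [[4,6,4,6,2,0,4,2]]
theorem low_3 : Low (C.grp low_w3) 3 [2] :=
  low_orb hC hlk 2 (by decide) [(2,0), (2,1)] (m := 3) (grp_mono _ (by decide +kernel))
    (by decide +kernel) (by decide +kernel) (low_nil C) (by decide)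
def low_w2 : List Word := [[4,6,4,6,2,0,4,2], [0], [8], [6,4,6]]
theorem low_2 : Low (C.grp low_w2) 192 [75,2] :=
  low_orb hC hlk 75 (by decide) [(75,2), (75,4), (75,6), (172,0), (172,1), (172,4), (172,6), (177,0), (177,1), (177,6), (175,4), (176,4), (176,6), (343,4), (343,6), (344,0), (344,1), (344,6), (152,4), (364,2), (364,4), (364,6), (650,2), (650,4), (562,4), (355,0), (355,6), (262,4), (564,1), (564,6), (350,4), (572,4), (572,6), (618,4), (669,4), (302,0), (573,4), (573,6), (587,0), (587,1), (587,6), (698,4), (511,1), (526,0), (363,4), (561,4), (690,4), (616,4), (668,6), (591,4), (410,1), (671,0), (671,6), (680,4), (339,4), (552,4), (340,4), (586,6), (551,4), (442,4), (558,4), (440,4), (642,4)] (m := 64) (grp_mono _ (by decide +kernel))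
    (by decide +kernel) (by decide +kernel) low_3 (by decide)
def low_w1 : List Word := [[4,6,4,6,2,0,4,2], [0], [8], [6,4,6], [2]]
theorem low_1 : Low (C.grp low_w1) 12096 [1,75,2] :=
  low_orb hC hlk 1 (by decide) [(1,8), (2,0), (2,1), (2,2), (130,4), (24,2), (24,4), (4,0), (268,0), (268,1), (268,6), (42,4), (56,0), (101,4), (193,2), (193,4), (193,8), (453,2), (453,8), (433,4), (433,8), (104,0), (104,1), (454,8), (192,4), (192,8), (390,0), (390,8), (261,0), (261,2), (478,8), (244,1), (244,2), (228,8), (230,2), (251,8), (632,4), (632,8), (289,0), (289,8), (275,2), (371,1), (371,2), (259,2), (105,2), (139,0), (434,8), (596,8), (144,0), (144,1), (144,2), (144,6), (19,4), (323,1), (634,0), (634,1), (12,4), (43,4), (25,4), (7,4), (102,4), (3,1)] (m := 63) (grp_mono _ (by decide +kernel))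
    (by decide +kernel) (by decide +kernel) low_2 (by decide)
theorem low : Low (C.grp gens) 8491392 [0,1,75,2] :=
  low_clo hC hlk 0 (by decide) [10,2,6,10,0,8,4,6,2,10,4,8,2,6,10,0,4,8] (m := 702) (le_of_subst _ [[4,6,4,6,2,0,4,2], [0], [8], [6,4,6], [2]] (by decide +kernel))
    (by decide +kernel) (by decide +kernel) low_1 (by decide)
theorem b6 : Bound.{u} RG [[6],[8]] 6 := .of_idx T3.idx (.nil _) (by decide)
theorem b96 : Bound.{u} RG [[0],[4],[6],[8]] 96 := .of_idx T2.idx b6 (by decide)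
theorem bU : Bound.{u} RG [[0],[2],[4],[6],[8]] 12096 := .of_idx T1.idx b96 (by decide)
theorem bG : Bound.{u} RG gens 8491392 := .of_idx T0.idx bU (by decide)
theorem hrel : ∀ r ∈ RG, C.ev r = 1 := rels_of_eqW hC (by decide +kernel)
theorem der : Der.{u} RG (subst gens [10,6,4,6,11,1,3,1,5,3,7,5,7,9,7,5,3,1,7,5,3,7,5,7]) :=
  Der.of_bound bG hrel low.1 _ (Ctx.eq_of_eqW hC (v := []) (by decide +kernel))
def σ : List Word := [[0],[2],[4],[6],[8],[14]]
theorem der' : Der.{u} ThRel.rels (subst σ (subst gens [10,6,4,6,11,1,3,1,5,3,7,5,7,9,7,5,3,1,7,5,3,7,5,7])) :=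
  der.subst σ fun r hr => Der.of_mem ((by decide +kernel : ∀ r ∈ RG, subst σ r ∈ ThRel.rels) r hr)
theorem tw {G : Type} [Group G] {g : ℕ → G} (hr : ∀ r ∈ ThRel.rels, ev g r = 1) :
    ev g [14,6,4,6,15] = ev g [6,4,6,2,4,6,0,2,4,6,8,6,4,6,2,4,0,2,0] := by
  have h := der'.{0} G g hr
  rw [show subst σ (subst gens [10,6,4,6,11,1,3,1,5,3,7,5,7,9,7,5,3,1,7,5,3,7,5,7]) = [14,6,4,6,15] ++ winv [6,4,6,2,4,6,0,2,4,6,8,6,4,6,2,4,0,2,0] by
    decide +kernel, ev_append, ev_winv] at h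
  exact mul_inv_eq_one.1 h
end
end CA.ThT
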