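import Cfsg.Agent.Lib.Spor.ThP
import Cfsg.Agent.Lib.Spor.ThM
import Cfsg.Agent.Lib.Comp.DCos

/-! The subgroup `³D₄(2):3` of the Thompson group: orders, simplicity of `³D₄(2)`, normal subgroups. -/

set_option autoImplicit false
set_option linter.all false

namespace CA.ThZ

open CA.CNet CA.CWord CA.CLevel CA.CSimple CA.CPoint CA.CTodd CA.CLow Subgroup

universe u

theorem fix0 : ∀ i < 819, i = 0 ∨ ∃ w ∈ ThP.sD, ipt ThP.lk w i ≠ i := by decide +kernel

theorem normP (R : Subgroup (ThP.C.grp ThP.gens)) (hR : R.Normal) :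
    R = ⊥ ∨ (ThP.C.grp ThP.gD).subgroupOf _ ≤ R := by
  set D := (ThP.C.grp ThP.gD).subgroupOf (ThP.C.grp ThP.gens)
  have e : D ≃* ThP.C.grp ThP.gD := subgroupOfEquivOfLe ThP.gD_le
  haveI := ThP.simpleD
  haveI : IsSimpleGroup D := e.isSimpleGroup
  have hi : D.index = 3 := by
    have := D.card_mul_index
    rw [Nat.card_congr e.toEquiv, ThP.cardD, ThP.card] at this
    omega
  have hD : D.Normal := by
    rcases (D.normalCore_normal.subgroupOf D).eq_bot_or_eq_top with h | h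
    · have h1 : D.normalCore = ⊥ := (subgroupOf_eq_bot.1 h).eq_bot_of_le D.normalCore_le
      rw [normalCore_eq_ker, MonoidHom.ker_eq_bot_iff] at h1
      have := Nat.card_le_card_of_injective _ h1
      rw [Nat.card_perm, ← index_eq_card, hi, ThP.card] at this
      exact absurd this (by decide)
    · exact le_antisymm D.normalCore_le (subgroupOf_eq_top.1 h) ▸ D.normalCore_normal
  refine ((hR.subgroupOf D).eq_bot_or_eq_top).imp (fun h => (eq_bot_iff_forall _).2 fun r hr => ?_) subgroupOf_eq_top.1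
  have k : ∀ x ∈ ThP.C.grp ThP.gD, ∀ i, r.1 (x i) = x (r.1 i) := fun x hx i => congrArg (fun y : ThP.C.grp ThP.gens => y.1 i)
    (commute_of_normal_of_disjoint R D hR hD (subgroupOf_eq_bot.1 h) r ⟨x, ThP.gD_le hx⟩ hr hx).eq
  have k0 : r.1 ⟨0, by decide⟩ = ⟨0, by decide⟩ := by
    rcases fix0 _ (r.1 ⟨0, by decide⟩).2 with h | ⟨w, hw, h⟩
    · exact Fin.ext h
    have m := inv_mem (ThP.stabD.ge (mem_grp _ hw))
    rw [ipt_eq ThP.hlk, ← k _ m.1, show (ThP.C.ev w)⁻¹ _ = _ from m.2] at h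
    exact absurd rfl h
  refine Subtype.ext (Equiv.ext fun j => ?_)
  obtain ⟨x, hx, rfl⟩ := ThP.transD j
  rw [k x hx, k0]; rfl

theorem subst_gD : ∀ w ∈ ThP.gD, CWord.subst ThP.gens w = w := by decide +kernel

/-- any model of the 27 relators with `a ≠ 1` -/
theorem gen {G : Type u} [Group G] {g : ℕ → G} (hr : ∀ r ∈ ThH.relsH, ev g r = 1) (h0 : g 0 ≠ 1) :
    IsSimpleGroup (grp g [[0], [2], [4], [6], [8], [10]]) ∧ Nat.card (grp g [[0], [2], [4], [6], [8], [10]]) = 211341312 ∧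
      Nat.card (grp g [[0], [2], [4], [6], [8], [10], [12]]) = 634023936 ∧
      ∀ R : Subgroup (grp g [[0], [2], [4], [6], [8], [10], [12]]), R.Normal →
        R = ⊥ ∨ (grp g [[0], [2], [4], [6], [8], [10]]).subgroupOf _ ≤ R := by
  obtain ⟨φ, hφ⟩ := DCos.hom_of_bound (gens := ThP.gens) ThH.b_H ThP.hrel ThP.card.ge hr
  have hw : ∀ w (h : w ∈ ThP.gD), φ ⟨_, ThP.gD_le (mem_grp _ h)⟩ = ev g w := fun w h =>
    (congrArg φ (Subtype.ext (congrArg (ev ThP.C.g) (subst_gD w h).symm))).trans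
      ((hφ w).trans (congrArg (ev g) (subst_gD w h)))
  have hi : Function.Injective φ := φ.ker_eq_bot_iff.1 ((normP _ inferInstance).resolve_right fun h =>
    h0 ((ev_gen g 0).symm.trans ((hw [0] (by decide)).symm.trans (h (mem_grp ThP.C.g (by decide : [0] ∈ ThP.gD))))))
  have h1 : φ.range = grp g ThP.gens := le_antisymm (by
      rintro _ ⟨⟨x, hx⟩, rfl⟩
      obtain ⟨u, rfl⟩ := exists_subst hx
      rw [hφ u]; exact subst_mem_grp _ _ _) fun x hx => by
    obtain ⟨u, rfl⟩ := exists_subst hx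
    exact ⟨_, hφ u⟩
  have h2 : ((ThP.C.grp ThP.gD).subgroupOf _).map φ = grp g ThP.gD := le_antisymm (by
      rintro _ ⟨⟨x, hx'⟩, hx, rfl⟩
      replace hx : x ∈ ThP.C.grp ThP.gD := hx
      change φ ⟨x, ThP.gD_le hx⟩ ∈ _
      clear hx'
      induction hx using closure_induction with
      | mem x hx =>
        obtain ⟨w, h, rfl⟩ := hx
        exact hw w h ▸ mem_grp g h
      | one => exact (map_one φ).symm ▸ one_mem _
      | mul x y hx hy a b => exact (map_mul φ ⟨x, ThP.gD_le hx⟩ ⟨y, ThP.gD_le hy⟩).symm ▸ mul_mem a b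
      | inv x hx a => exact (map_inv φ ⟨x, ThP.gD_le hx⟩).symm ▸ inv_mem a)
    ((grp_le_iff g).2 fun w h => ⟨_, mem_grp ThP.C.g h, hw w h⟩)
  let e : ThP.C.grp ThP.gens ≃* grp g ThP.gens := (MonoidHom.ofInjective hi).trans (MulEquiv.subgroupCongr h1)
  let e' : ThP.C.grp ThP.gD ≃* grp g ThP.gD := (subgroupOfEquivOfLe ThP.gD_le).symm.trans
    ((equivMapOfInjective _ φ hi).trans (MulEquiv.subgroupCongr h2))
  haveI := ThP.simpleD
  refine ⟨e'.symm.isSimpleGroup, (Nat.card_congr e'.toEquiv).symm.trans ThP.cardD,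
    (Nat.card_congr e.toEquiv).symm.trans ThP.card, fun R hR => ?_⟩
  refine (normP (R.comap e.toMonoidHom) (hR.comap _)).imp (fun h => (eq_bot_iff_forall _).2 fun r hr => ?_) fun h x hx => ?_
  · obtain ⟨r, rfl⟩ := e.surjective r
    exact (congrArg e ((eq_bot_iff_forall _).1 h r hr)).trans (map_one e)
  · obtain ⟨y, hy, e1⟩ := h2.ge (show x.1 ∈ grp g ThP.gD from hx)
    exact (Subtype.ext e1 : e y = x) ▸ h hy

theorem RH_eq : ThM.RH = ThH.relsH := by decide +kernel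

theorem hb : Bound.{u} ThM.RH ThM.gens 634023936 := RH_eq ▸ ThH.b_H

theorem hrel : ∀ r ∈ ThH.relsH, ThM.C.ev r = 1 := fun r h =>
  Ctx.eq_of_eqW ThM.hC (lall_iff.1 ThM.rH r (RH_eq ▸ h))

theorem a_ne : ThM.C.g 0 ≠ 1 := (ev_gen ThM.C.g 0) ▸ Ctx.ne_one_of_moves ThM.hC (w := [0]) (p := 22) (by decide)
  (by decide +kernel)

theorem simpleD : IsSimpleGroup (ThM.C.grp [[0], [2], [4], [6], [8], [10]]) := (gen hrel a_ne).1
theorem cardD : Nat.card (ThM.C.grp [[0], [2], [4], [6], [8], [10]]) = 211341312 := (gen hrel a_ne).2.1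
theorem cardH : Nat.card (ThM.C.grp ThM.gens) = 634023936 := (gen hrel a_ne).2.2.1
theorem normalH : ∀ R : Subgroup (ThM.C.grp ThM.gens), R.Normal →
    R = ⊥ ∨ (ThM.C.grp [[0], [2], [4], [6], [8], [10]]).subgroupOf _ ≤ R := (gen hrel a_ne).2.2.2

end CA.ThZ
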