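import Mathlib
import Cfsg.Agent.Lib.Comp.CWord

/-! A simplicity criterion for a group of rank eleven and degree 143127000. -/

set_option autoImplicit false

namespace CA.ThZ19
open CA.CWord

theorem simple_of {G : Type*} [Group G] [Finite G] (H : Subgroup G) (hi : H.index = 143127000)
    (hc : Nat.card H = 634023936)
    (p : Fin 11 → G ⧸ H) (hp : ∀ ξ : G ⧸ H, ∃ i, ξ ∈ MulAction.orbit H (p i))
    (hn : ∀ i, Nat.card (MulAction.orbit H (p i)) = ![1, 17199, 45864, 2201472, 1304576, 105670656,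
      11741184, 5031936, 8805888, 179712, 8128512] i)
    (D : Subgroup G) (hD : D ≤ H) (hR : ∀ R : Subgroup H, R.Normal → R = ⊥ ∨ D.subgroupOf H ≤ R)
    (hN : ∀ N : Subgroup G, N.Normal → D ≤ N → N = ⊤) : IsSimpleGroup G := by
  classical
  have : Nontrivial H := Finite.one_lt_card_iff_nontrivial.1 (by rw [hc]; norm_num)
  have : Nontrivial G := H.subtype_injective.nontrivial
  refine ⟨fun N hNn => ?_⟩
  rcases hR _ (hNn.subgroupOf H) with h | h
  swap
  · exact .inr (hN N hNn fun x hx => h (show (⟨x, hD hx⟩ : H) ∈ D.subgroupOf H from hx))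
  have hd : ∀ x ∈ N, x ∈ H → x = 1 := fun x hx hx' => by
    have : (⟨x, hx'⟩ : H) ∈ N.subgroupOf H := hx
    rw [h, Subgroup.mem_bot] at this
    exact congrArg Subtype.val this
  have inj : ∀ x y : N, ((x : G) : G ⧸ H) = (y : G) → x = y := fun x y e =>
    Subtype.ext (inv_mul_eq_one.1 (hd _ (N.mul_mem (N.inv_mem x.2) y.2) (QuotientGroup.eq.1 e)))
  have cj : ∀ (k : H) (x : G), k • (x : G ⧸ H) = (((k : G) * x * (k : G)⁻¹ : G) : G ⧸ H) := fun k x => by
    show (((k : G) * x : G) : G ⧸ H) = _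
    exact QuotientGroup.eq.2 (by simp [mul_assoc])
  choose f hf using hp
  generalize hnn : (![1, 17199, 45864, 2201472, 1304576, 105670656,
      11741184, 5031936, 8805888, 179712, 8128512] : Fin 11 → ℕ) = nn at hn
  have nninj : ∀ i j : Fin 11, nn i = nn j → i = j := by
    rw [← hnn]; decide +kernel
  have uq : ∀ ξ i, ξ ∈ MulAction.orbit H (p i) → f ξ = i := fun ξ i hξ => by
    have e : MulAction.orbit H (p (f ξ)) = MulAction.orbit H (p i) :=
      (MulAction.orbit_eq_iff.2 (hf ξ)).symm.trans (MulAction.orbit_eq_iff.2 hξ)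
    have := hn (f ξ)
    rw [e, hn i] at this
    exact (nninj _ _ this).symm
  let F : N → Fin 11 := fun x => f ((x : G) : G ⧸ H)
  have cc : ∀ x : N, ∀ ξ ∈ MulAction.orbit H (p (F x)), ∃ k : H,
      ξ = (((k : G) * x * (k : G)⁻¹ : G) : G ⧸ H) := fun x ξ hξ => by
    rw [← MulAction.orbit_eq_iff.2 (hf ((x : G) : G ⧸ H))] at hξ
    obtain ⟨k, rfl⟩ := hξ
    exact ⟨k, cj k x⟩
  let b : Fin 11 → Bool := fun i => ∃ x, F x = i
  have fib : ∀ i, Nat.card {x // F x = i} = if b i then nn i else 0 := fun i => by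
    by_cases e : ∃ x, F x = i
    · rw [if_pos (decide_eq_true e), ← hn i]
      obtain ⟨x, rfl⟩ := e
      refine Nat.card_congr (Equiv.ofBijective (fun y => ⟨((y.1 : G) : G ⧸ H), by have := hf ((y.1 : G) : G ⧸ H); rwa [show f ((y.1 : G) : G ⧸ H) = F x from y.2] at this⟩) ⟨fun y z e => ?_, fun ξ => ?_⟩)
      · exact Subtype.ext (inj _ _ (congrArg Subtype.val e))
      · obtain ⟨k, hk⟩ := cc x ξ.1 ξ.2
        exact ⟨⟨⟨_, hNn.conj_mem _ x.2 k⟩, uq _ _ (hk ▸ ξ.2)⟩, Subtype.ext hk.symm⟩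
    · rw [if_neg (by simpa [b] using e)]
      have : IsEmpty {x // F x = i} := ⟨fun x => e ⟨x.1, x.2⟩⟩
      exact Nat.card_of_isEmpty
  have h1 : Nat.card N = ∑ i, if b i then nn i else 0 := by
    rw [← Nat.card_congr (Equiv.sigmaFiberEquiv F), Nat.card_sigma]
    exact Finset.sum_congr rfl fun i _ => fib i
  have h2 : Nat.card N ∣ 143127000 := by
    have e1 : Nat.card H ∣ N.index := by
      have := Subgroup.card_dvd_of_injective ((QuotientGroup.mk' N).comp H.subtype)
        ((injective_iff_map_eq_one _).2 fun x hx => Subtype.ext (hd _ ((QuotientGroup.eq_one_iff _).1 hx) x.2))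
      exact this
    obtain ⟨c, hc⟩ := e1
    have e2 := H.card_mul_index
    rw [← N.card_mul_index, hc, hi, mul_left_comm] at e2
    exact ⟨c, Nat.eq_of_mul_eq_mul_left Nat.card_pos e2⟩
  have key : ∀ b0 b1 b2 b3 b4 b5 b6 b7 b8 b9 b10 : Bool,
      (143127000 % (cond b0 1 0 + cond b1 17199 0 + cond b2 45864 0 + cond b3 2201472 0 + cond b4 1304576 0 +
        cond b5 105670656 0 + cond b6 11741184 0 + cond b7 5031936 0 + cond b8 8805888 0 + cond b9 179712 0 +
        cond b10 8128512 0) = 0) →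
      (cond b0 1 0 + cond b1 17199 0 + cond b2 45864 0 + cond b3 2201472 0 + cond b4 1304576 0 +
        cond b5 105670656 0 + cond b6 11741184 0 + cond b7 5031936 0 + cond b8 8805888 0 + cond b9 179712 0 +
        cond b10 8128512 0) = 1 ∨
      (cond b0 1 0 + cond b1 17199 0 + cond b2 45864 0 + cond b3 2201472 0 + cond b4 1304576 0 +
        cond b5 105670656 0 + cond b6 11741184 0 + cond b7 5031936 0 + cond b8 8805888 0 + cond b9 179712 0 +
        cond b10 8128512 0) = 143127000 := by decide +kernel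
  have h4 : Nat.card N = cond (b 0) 1 0 + cond (b 1) 17199 0 + cond (b 2) 45864 0 + cond (b 3) 2201472 0 +
      cond (b 4) 1304576 0 + cond (b 5) 105670656 0 + cond (b 6) 11741184 0 + cond (b 7) 5031936 0 +
      cond (b 8) 8805888 0 + cond (b 9) 179712 0 + cond (b 10) 8128512 0 := by
    rw [h1, ← hnn]
    simp only [Fin.sum_univ_succ, Fin.sum_univ_zero, Bool.cond_eq_ite, add_zero, add_assoc]
    rfl
  have h3 := key (b 0) (b 1) (b 2) (b 3) (b 4) (b 5) (b 6) (b 7) (b 8) (b 9) (b 10)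
  rw [← h4] at h3
  rcases h3 (Nat.mod_eq_zero_of_dvd h2) with h3 | h3
  · exact .inl (Subgroup.card_eq_one.1 h3)
  exfalso
  haveI : Fact (Nat.Prime 31) := ⟨by norm_num⟩
  obtain ⟨x, hx⟩ : ∃ x : N, orderOf x = 31 := exists_prime_orderOf_dvd_card' 31 (h3 ▸ by norm_num)
  have hxG : orderOf (x : G) = 31 := by rw [Subgroup.orderOf_coe, hx]
  have x32 : ((x : G) ^ 2) ^ 16 = x := by
    rw [← pow_mul, show 2 * 16 = 31 + 1 from rfl, pow_succ, ← hxG, pow_orderOf_eq_one, one_mul]
  have st : ∀ (y : N) (k : H), k ∈ MulAction.stabilizer H ((y : G) : G ⧸ H) ↔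
      (k : G) * y * (k : G)⁻¹ = y := fun y k => by
    rw [MulAction.mem_stabilizer_iff, cj]
    constructor
    · intro e
      exact congrArg Subtype.val (inj ⟨_, hNn.conj_mem _ y.2 k⟩ y e)
    · intro e
      rw [e]
  have st2 : MulAction.stabilizer H ((x : G) : G ⧸ H) =
      MulAction.stabilizer H (((x ^ 2 : N) : G) : G ⧸ H) := by
    ext k
    rw [st, st, Subgroup.coe_pow]
    constructor
    · intro e
      rw [← conj_pow, e]
    · intro e
      rw [← x32, ← conj_pow, e]
  have co : ∀ y : N, (MulAction.stabilizer H ((y : G) : G ⧸ H)).index = nn (F y) := fun y => by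
    rw [MulAction.index_stabilizer, MulAction.orbit_eq_iff.2 (hf ((y : G) : G ⧸ H)), ← hn,
      Nat.card_coe_set_eq]
  have e : F (x ^ 2) = F x := nninj _ _ (by rw [← co, ← co, st2])
  obtain ⟨k, hk⟩ := cc x _ (by rw [← e]; exact hf (((x ^ 2 : N) : G) : G ⧸ H))
  have e1 : (x : G) ^ 2 = (k : G) * x * (k : G)⁻¹ :=
    congrArg Subtype.val (inj (x ^ 2) ⟨_, hNn.conj_mem _ x.2 k⟩ hk)
  have e2 : ∀ m : ℕ, (k : G) ^ m * x * ((k : G) ^ m)⁻¹ = (x : G) ^ 2 ^ m := fun m => by
    induction m with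
    | zero => simp
    | succ m ih =>
      rw [pow_succ' (2 : ℕ), pow_mul, e1, conj_pow, ← ih, pow_succ' (k : G)]
      group
  have e5 : (x : G) ^ 2 ^ 5 = x := by rw [show 2 ^ 5 = 2 * 16 from rfl, pow_mul, x32]
  have e3 : ∀ m : ℕ, ((k : G) ^ 5) ^ m * x * (((k : G) ^ 5) ^ m)⁻¹ = (x : G) := fun m => by
    induction m with
    | zero => simp
    | succ m ih =>
      have := e2 5
      rw [e5] at this
      rw [pow_succ', mul_inv_rev]
      calc _ = (k : G) ^ 5 * (((k : G) ^ 5) ^ m * x * (((k : G) ^ 5) ^ m)⁻¹) * ((k : G) ^ 5)⁻¹ := by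
            simp only [mul_assoc]
        _ = x := by rw [ih, this]
  have e4 : (k : G) * ((k : G) ^ 5) ^ 126804787 = 1 := by
    have := congrArg Subtype.val (pow_card_eq_one' (x := k))
    rw [hc, Subgroup.coe_pow, show 634023936 = 5 * 126804787 + 1 from by norm_num, pow_succ', pow_mul] at this
    exact this
  have e6 := e3 126804787
  generalize ((k : G) ^ 5) ^ 126804787 = l at e4 e6
  have e7 : (x : G) ^ 2 = x := by
    rw [e1]
    conv_lhs => rw [← e6]
    calc _ = ((k : G) * l) * x * ((k : G) * l)⁻¹ := by simp only [mul_inv_rev, mul_assoc]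
      _ = x := by rw [e4]; simp
  have e8 : (x : G) = 1 := by
    rw [pow_two] at e7
    exact mul_eq_right.1 e7
  rw [e8, orderOf_one] at hxG
  exact absurd hxG (by norm_num)

theorem normal_top {G : Type*} [Group G] (g : ℕ → G)
    (h1 : ev g [14, 14, 5, 1] = 1) (h2 : ev g [0, 4, 11, 15, 11, 15, 11, 15] = 1)
    (h3 : ev g [15, 12, 14, 12] = 1) (h4 : ev g [12, 12, 12] = 1)
    (N : Subgroup G) (hN : N.Normal) (hD : grp g [[0], [2], [4], [6], [8], [10]] ≤ N) :
    grp g [[0], [2], [4], [6], [8], [10], [12], [14]] ≤ N := by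
  have m : ∀ i : ℕ, [2 * i] ∈ [[0], [2], [4], [6], [8], [10]] → (QuotientGroup.mk' N) (g i) = 1 := fun i hi =>
    (QuotientGroup.eq_one_iff _).2 (hD (ev_gen g i ▸ mem_grp g hi))
  have a0 := m 0 (by simp)
  have a2 := m 2 (by simp)
  have a5 := m 5 (by simp)
  have k1 := congrArg (QuotientGroup.mk' N) h1
  have k2 := congrArg (QuotientGroup.mk' N) h2
  have k3 := congrArg (QuotientGroup.mk' N) h3
  have k4 := congrArg (QuotientGroup.mk' N) h4
  simp only [ev_cons, ev_nil, lv, Nat.reduceMod, Nat.reduceDiv, if_true, one_ne_zero, if_false, map_mul,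
    map_inv, map_one, mul_one, a0, a2, a5, inv_one, one_mul] at k1 k2 k3 k4
  have u1 : (QuotientGroup.mk' N) (g 7) = 1 := by
    rw [← mul_inv_rev, k1, inv_one, mul_one] at k2
    exact inv_eq_one.1 k2
  have t1 : (QuotientGroup.mk' N) (g 6) = 1 := by
    rw [u1, inv_one, one_mul, one_mul] at k3
    rw [k3, mul_one] at k4
    exact k4
  refine (Subgroup.closure_le _).2 ?_
  rintro _ ⟨w, hw, rfl⟩
  by_cases hw' : w ∈ [[0], [2], [4], [6], [8], [10]]
  · exact hD (mem_grp g hw')
  have : w = [2 * 6] ∨ w = [2 * 7] := by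
    simp only [List.mem_cons, List.not_mem_nil, or_false] at hw hw'
    tauto
  rcases this with rfl | rfl
  · rw [ev_gen]; exact (QuotientGroup.eq_one_iff _).1 t1
  · rw [ev_gen]; exact (QuotientGroup.eq_one_iff _).1 u1

end CA.ThZ19
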