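import Cfsg.Agent.Lib.Spor.ThO
import Cfsg.Agent.Lib.Spor.ThH
import Cfsg.Agent.Lib.Spor.ThT
import Cfsg.Agent.Lib.Spor.ThZ
import Cfsg.Agent.Lib.Spor.ThZ19

/-! Order and simplicity of a group satisfying the relators of the Thompson group (light closure). -/

set_option autoImplicit false
set_option maxRecDepth 100000

namespace CA.ThJ
open CA.CWord CA.CTodd CA.CPres

theorem one_of {Q : Type*} [Group Q] {x : Q} {m n : ℕ} (hm : x ^ m = 1) (hn : x ^ n = 1) (h : Nat.Coprime m n) : x = 1 :=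
  orderOf_eq_one_iff.1 (Nat.eq_one_of_dvd_coprimes h (orderOf_dvd_of_pow_eq_one hm) (orderOf_dvd_of_pow_eq_one hn))

theorem triv_of {Q : Type*} [Group Q] {g : ℕ → Q} (hr : ∀ r ∈ ThRel.rels, ev g r = 1) (h0 : g 0 = 1) :
    ∀ w ∈ ThRel.gens, ev g w = 1 := by
  have r1 := hr [2,2] (by decide +kernel)
  have r2 := hr [4,4] (by decide +kernel)
  have r3 := hr [6,6] (by decide +kernel)
  have r5 := hr [0,2,0,2,0,2] (by decide +kernel)
  have r7 := hr [2,4,2,4,2,4] (by decide +kernel)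
  have r12 := hr (wpow [6,8] 3) (by decide +kernel)
  have r13 := hr (wpow [2,4,6,8] 8) (by decide +kernel)
  have r14 := hr (wpow [10] 7) (by decide +kernel)
  have r18 := hr [10,6,10,6] (by decide +kernel)
  have r19 := hr [9,11,8,10,11,11,11,9,10,10,10] (by decide +kernel)
  have r20 := hr [12,12,12] (by decide +kernel)
  have r27 := hr [14,14,5,1] (by decide +kernel)
  have r34 := hr [15,12,14,12] (by decide +kernel)
  have r36 := hr [0,4,11,15,11,15,11,15] (by decide +kernel)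
  rw [ev_wpow] at r12 r13 r14
  simp only [ev, List.map, List.prod_cons, List.prod_nil, lv, Nat.reduceMod, Nat.reduceDiv, if_true, one_ne_zero,
    if_false, mul_one, h0, one_mul, inv_one, Nat.zero_mod, Nat.zero_div] at r1 r2 r3 r5 r7 r12 r13 r14 r18 r19 r20 r27 r34 r36
  have h1 : g 1 = 1 := by rw [r1, mul_one] at r5; exact r5
  simp only [h1, one_mul] at r7 r13
  have h2 : g 2 = 1 := by rw [r2, mul_one] at r7; exact r7
  simp only [h2, one_mul, inv_one, mul_one] at r13 r27 r36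
  have h34 : g 3 * g 4 = 1 := one_of r12 r13 (by norm_num)
  have i3 : (g 3)⁻¹ = g 3 := inv_eq_of_mul_eq_one_right r3
  have h4 : g 4 = g 3 := by rw [← i3]; exact eq_inv_of_mul_eq_one_right h34
  rw [h4, i3] at r19
  have e1 : g 3 * (g 5)⁻¹ * g 3 = g 5 := by
    have : g 3 * g 5 * g 3 = (g 5)⁻¹ := eq_inv_of_mul_eq_one_right (by simpa only [mul_assoc] using r18)
    rw [← this]
    calc g 3 * (g 3 * g 5 * g 3) * g 3 = (g 3 * g 3) * g 5 * (g 3 * g 3) := by group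
      _ = g 5 := by rw [r3, one_mul, mul_one]
  have e2 : g 3 = (g 5)⁻¹ * (g 5)⁻¹ := by
    have : g 3 * (g 5)⁻¹ * g 3 * ((g 5)⁻¹ * (g 5)⁻¹ * g 3 * (g 5 * g 5 * g 5)) = 1 := by
      rw [← r19]; group
    rw [e1] at this
    calc g 3 = g 5 * (g 5 * ((g 5)⁻¹ * (g 5)⁻¹ * g 3 * (g 5 * g 5 * g 5))) * ((g 5)⁻¹ * (g 5)⁻¹ * (g 5)⁻¹) := by group
      _ = _ := by rw [this]; group
  have h5 : g 5 = 1 := one_of (m := 4) (by
    rw [e2] at r3
    calc g 5 ^ 4 = ((g 5)⁻¹ * (g 5)⁻¹ * ((g 5)⁻¹ * (g 5)⁻¹))⁻¹ := by group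
      _ = 1 := by rw [r3, inv_one]) r14 (by norm_num)
  have h3 : g 3 = 1 := by rw [e2, h5]; simp
  simp only [h5, inv_one, one_mul] at r36
  have h7 : g 7 = 1 := one_of (m := 2) (n := 3) (by rw [pow_two]; exact r27) (by
    calc g 7 ^ 3 = ((g 7)⁻¹ * ((g 7)⁻¹ * (g 7)⁻¹))⁻¹ := by group
      _ = 1 := by rw [r36, inv_one]) (by norm_num)
  simp only [h7, inv_one, one_mul] at r34
  have h6 : g 6 = 1 := by rw [r34, mul_one] at r20; exact r20
  intro w hw
  simp only [ThRel.gens, List.mem_cons, List.not_mem_nil, or_false] at hw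
  rcases hw with rfl | rfl | rfl | rfl | rfl | rfl | rfl | rfl
  exacts [(ev_gen g 0).trans h0, (ev_gen g 1).trans h1, (ev_gen g 2).trans h2, (ev_gen g 3).trans h3,
    (ev_gen g 4).trans (h4.trans h3), (ev_gen g 5).trans h5, (ev_gen g 6).trans h6, (ev_gen g 7).trans h7]

variable {G : Type} [Group G] {g : ℕ → G} (hr : ∀ r ∈ ThRel.rels, ev g r = 1)
include hr

theorem hyp : ThO.Hyp g :=
  have e : ThRel.rels = ThM.RH ++ ThM.RU := by decide +kernel
  ⟨ThZ.hb, fun r h => hr r (e ▸ List.mem_append_left _ h), fun r h => hr r (e ▸ List.mem_append_right _ h), ThT.tw hr⟩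

theorem a_ne (hu : g 7 ∉ grp g ThM.gens) : g 0 ≠ 1 := fun h0 =>
  hu ((ev_gen g 7).symm.trans (triv_of hr h0 [14] (by decide)) ▸ Subgroup.one_mem _)

theorem isTh (hu : g 7 ∉ grp g ThM.gens) (ht : grp g ThO.all8 = ⊤) : IsSimpleGroup G ∧ Nat.card G = 90745943887872000 := by
  have := ThO.fin (hyp hr) ht
  have hi := ThO.index (hyp hr) hu ht
  obtain ⟨-, -, h3, h4⟩ := ThZ.gen (g := g) (fun r h => (hyp hr).hH r (ThZ.RH_eq ▸ h)) (a_ne hr hu)
  refine ⟨ThZ19.simple_of (grp g ThM.gens) hi h3 (fun i => (ThO.S (hyp hr)).p i) (fun ξ => ?_) (fun i => ?_) _ (grp_mono _ (by decide)) h4 fun N hN hD =>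
    top_unique (ht.ge.trans (ThZ19.normal_top g (hr _ (by decide +kernel)) (hr _ (by decide +kernel)) (hr _ (by decide +kernel)) (hr _ (by decide +kernel)) N hN hD)), ?_⟩
  · obtain ⟨i, hi, h⟩ := ThO.all (hyp hr) ht ξ
    exact ⟨⟨i, hi⟩, by rw [ThO.orbit_eq]; exact h⟩
  · rw [ThO.orbit_eq, ThO.cardO _ hu i i.2]
    revert i; decide
  · rw [← (grp g ThM.gens).index_mul_card, hi, show Nat.card (grp g ThM.gens) = 634023936 from h3]

end CA.ThJ
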