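import Cfsg.Agent.Lib.Spor.ThA0
import Cfsg.Agent.Lib.Spor.ThP

/-! The 7-local facts of `³D₄(2):3` in the 819-point model. -/

set_option autoImplicit false
set_option linter.all false
set_option maxRecDepth 100000

namespace CA.ThK2
open CA.CNet CA.CWord CA.CLevel CA.CSimple CA.CPoint CA.CTodd CA.CPres CA.CLow CA.CTrans Subgroup
open CA.ThP (C hC gens lk hlk)

noncomputable section

def x : Word := [0,4,8,11,8,6,2,4,6,8,11,4,6,2,4,0]
def y : Word := [4,2,6,8,11,6,8,11,4,6,8,11,8,4,6,4,2,0]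
def l : Word := [6,4,2,0,10,8,6,4,11,8,10,6,8,10,4,6,8,10,4,6,8,11,11]
def a : Word := [4,2,0,6,4,10,8,10,6,8,10,6,4,6,2,4,6,8,10,13]
def b : Word := [0,2,8,6,10,13,8,11,6,4,6,8,11,2,4,6,8,0,2]
def w : Word := [0,2,0,6,4,6,8,2,4,6,4,6,8,6,2,4,6]
def MS : List Word := [[8,2,4,0,2],[2,0,6,4,2,6,4,6,8,13,10,8,6,4,6,2,4,6,8,10,8,4,2],[0,4,2,0,13,6,4,6,2,4,6,8,6,4,6,2,4,6],[8,6,4,2,0,6,4,8,10,6,2,4,6,8,11,13,6,2,4,6,4]]

abbrev N : Type := C.grp gens
def e (v : Word) : N := ⟨C.ev (subst gens v), subst_mem_grp _ _ _⟩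
def M : Subgroup N := (C.grp MS).subgroupOf (C.grp gens)

theorem e_eq (v : Word) : e v = ev (sg C.g gens) v := Subtype.ext (ev_sg _ _ v).symm
theorem eqe {u v : Word} (h : C.eqW (subst gens u) (subst gens v) = true) : ev (sg C.g gens) u = ev (sg C.g gens) v := by
  rw [← e_eq, ← e_eq]; exact Subtype.ext (Ctx.eq_of_eqW hC h)
theorem pw {u : Word} {n : ℕ} (h : C.eqW (subst gens (wpow u n)) (subst gens []) = true) : e u ^ n = 1 := by
  rw [e_eq, ← ev_wpow, eqe h, ev_nil]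
theorem cm {u v : Word} (h : C.eqW (subst gens (u ++ v)) (subst gens (v ++ u)) = true) : e u * e v = e v * e u := by
  rw [e_eq, e_eq, ← ev_append, eqe h, ev_append]
theorem ne1 {u : Word} (h : C.maps (subst gens u) 0 0 = false) : e u ≠ 1 := fun k => by
  have : C.maps (subst gens u) (⟨0, by decide⟩ : Fin C.n) 0 = true := (Ctx.maps_iff hC).2 (by
    rw [show C.ev (subst gens u) = 1 from congrArg Subtype.val k]; rfl)
  exact Bool.false_ne_true (h.symm.trans this)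
theorem inM {u : Word} (v : Word) (h : C.eqW (subst gens u) (subst MS v) = true) : e u ∈ M := by
  show C.ev (subst gens u) ∈ C.grp MS
  rw [Ctx.eq_of_eqW hC h]; exact subst_mem_grp _ _ _
theorem mapg {ws : List Word} (h : ws.map (subst gens) = ws) :
    (grp (sg C.g gens) ws).map (C.grp gens).subtype = C.grp ws := by
  refine le_antisymm (map_le_iff_le_comap.2 ((grp_le_iff _).2 fun u hu => ?_)) ((grp_le_iff _).2 fun u hu => ?_)
  · show (ev (sg C.g gens) u).1 ∈ C.grp ws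
    rw [ev_sg]; exact mem_grp _ (h ▸ List.mem_map_of_mem hu)
  · obtain ⟨v, hv, rfl⟩ := List.mem_map.1 (h.symm ▸ hu : u ∈ ws.map (subst gens))
    exact ⟨_, mem_grp _ hv, ev_sg _ _ v⟩

theorem x7 : e x ^ 7 = 1 := pw (by decide +kernel)
theorem y7 : e y ^ 7 = 1 := pw (by decide +kernel)
theorem xy : e x * e y = e y * e x := cm (by decide +kernel)

theorem memP {s : N} (h : s ∈ (closure {e x, e y} : Subgroup N)) : ∃ i < 7, ∃ j < 7, s = e x ^ i * e y ^ j := by
  have c : Commute (e x) (e y) := xy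
  have : ∃ i j : ℕ, s = e x ^ i * e y ^ j := by
    induction h using closure_induction with
    | mem t ht =>
      rcases ht with rfl | rfl
      · exact ⟨1, 0, by simp⟩
      · exact ⟨0, 1, by simp⟩
    | one => exact ⟨0, 0, by simp⟩
    | mul s t _ _ hs ht =>
      obtain ⟨i, j, rfl⟩ := hs
      obtain ⟨k, m, rfl⟩ := ht
      exact ⟨i + k, j + m, by rw [pow_add, pow_add, (c.symm.pow_pow j k).mul_mul_mul_comm]⟩
    | inv s _ hs =>
      obtain ⟨i, j, rfl⟩ := hs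
      refine ⟨6 * i, 6 * j, inv_eq_of_mul_eq_one_right ?_⟩
      rw [(c.symm.pow_pow j _).mul_mul_mul_comm, ← pow_add, ← pow_add, show i + 6 * i = 7 * i by ring,
        show j + 6 * j = 7 * j by ring, pow_mul, pow_mul, x7, y7, one_pow, one_pow, one_mul]
  obtain ⟨i, j, rfl⟩ := this
  exact ⟨i % 7, Nat.mod_lt _ (by decide), j % 7, Nat.mod_lt _ (by decide), by
    rw [← pow_eq_pow_mod i x7, ← pow_eq_pow_mod j y7]⟩

theorem pmem (i j : ℕ) : e x ^ i * e y ^ j ∈ (closure {e x, e y} : Subgroup N) :=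
  mul_mem (pow_mem (subset_closure (by simp)) _) (pow_mem (subset_closure (by simp)) _)

theorem low1 : Low (C.grp [x]) 7 [0] :=
  low_clo hC hlk 0 (by decide) [0,0,0,0,0,0] (m := 7) (grp_mono _ (by decide +kernel))
    (by decide +kernel) (by decide +kernel) (low_nil C) (by decide)
theorem low2 : Low (C.grp [x, y]) 49 [4, 0] :=
  low_clo hC hlk 4 (by decide) [2,2,2,2,2,2] (m := 7) (grp_mono _ (by decide +kernel))
    (by decide +kernel) (by decide +kernel) low1 (by decide)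
theorem lowA : Low (C.grp [subst MS [5,7,2,6,2,4]]) 6 [1] :=
  low_clo hC hlk 1 (by decide) [0,0,0,0,0] (m := 6) (grp_mono _ (by decide +kernel))
    (by decide +kernel) (by decide +kernel) (low_nil C) (by decide)
theorem lowB : Low (C.grp MS) 3528 [0, 1] :=
  low_clo hC hlk 0 (by decide) [0,4,6,2,4,6,0,2,4,6,2,4,2] (m := 588) (le_of_subst _ [[5,7,2,6,2,4]] (by decide +kernel))
    (by decide +kernel) (by decide +kernel) lowA (by decide)

theorem cP : Nat.card (closure {e x, e y} : Subgroup N) = 49 := by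
  refine le_antisymm ?_ (low2.1.trans ?_)
  · refine (Nat.card_le_card_of_surjective (fun p : Fin 7 × Fin 7 => (⟨_, pmem p.1 p.2⟩ : (closure {e x, e y} : Subgroup N)))
      fun s => ?_).trans (by simp)
    obtain ⟨i, hi, j, hj, h⟩ := memP s.2
    exact ⟨(⟨i, hi⟩, ⟨j, hj⟩), Subtype.ext h.symm⟩
  · rw [← mapg (by decide +kernel), card_map_of_injective (subtype_injective _)]
    refine card_le_of_le ((grp_le_iff _).2 fun u hu => subset_closure ?_)
    rw [← e_eq]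
    rcases List.mem_pair.1 hu with rfl | rfl <;> simp

theorem M_eq : M = grp (sg C.g gens) MS := by
  rw [M, ← mapg (ws := MS) (by decide +kernel)]
  exact comap_map_eq_self_of_injective (subtype_injective _) _

theorem cj {c u : Word} {i j : ℕ}
    (h : C.eqW (subst gens (c ++ u ++ winv c)) (subst gens (wpow x i ++ wpow y j)) = true) :
    e c * e u * (e c)⁻¹ = e x ^ i * e y ^ j := by
  simp only [e_eq]
  rw [← ev_winv, ← ev_append, ← ev_append, eqe h, ev_append, ev_wpow, ev_wpow]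

theorem nM : ∀ m ∈ M, ∀ s ∈ (closure {e x, e y} : Subgroup N), m * s * m⁻¹ ∈ (closure {e x, e y} : Subgroup N) := by
  have : M ≤ normalizer (closure {e x, e y} : Subgroup N) := by
    rw [M_eq]
    refine (grp_le_iff _).2 fun u hu => mem_normalizer_fintype fun s hs => ?_
    obtain ⟨p, -, h0, h1, h2⟩ := (by decide +kernel : ∀ u ∈ MS, ∃ p ∈ [(0,6,0,0,6), (1,3,1,1,1), (2,4,6,6,4), (3,3,1,1,4)],
      nth MS [] p.1 = u ∧
      C.eqW (subst gens (u ++ x ++ winv u)) (subst gens (wpow x p.2.1 ++ wpow y p.2.2.1)) = true ∧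
      C.eqW (subst gens (u ++ y ++ winv u)) (subst gens (wpow x p.2.2.2.1 ++ wpow y p.2.2.2.2)) = true) u hu
    rw [← e_eq]
    have : (closure {e x, e y} : Subgroup N) ≤ (closure {e x, e y} : Subgroup N).comap (MulAut.conj (e u)).toMonoidHom :=
      (closure_le _).2 fun t ht => by
        rcases ht with rfl | rfl
        · show e u * e x * (e u)⁻¹ ∈ (closure {e x, e y} : Subgroup N)
          rw [cj h1]; exact pmem _ _
        · show e u * e y * (e u)⁻¹ ∈ (closure {e x, e y} : Subgroup N)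
          rw [cj h2]; exact pmem _ _
    exact this hs
  exact fun m hm s hs => (mem_normalizer_iff.1 (this hm) s).1 hs

def DX : List (ℕ × ℕ × Word) := [(1,0,[]), (6,0,[0]), (3,1,[2]), (4,3,[3]), (4,6,[4]), (4,1,[5]), (1,5,[7]), (3,4,[3,0]),
  (3,6,[5,0]), (6,2,[7,0]), (3,0,[6,2]), (6,1,[4,3]), (5,2,[5,3]), (1,2,[6,3]), (5,3,[7,3]), (4,0,[6,4]), (6,5,[2,5]),
  (2,5,[7,5]), (1,6,[2,7]), (5,0,[3,7]), (2,0,[5,7]), (2,4,[7,3,0]), (2,3,[2,6,2]), (5,4,[4,6,2])]
def DY : List (ℕ × ℕ × Word) := [(0,1,[]), (0,6,[0]), (1,1,[2]), (3,5,[3]), (6,4,[4]), (1,4,[5]), (5,6,[7]), (6,6,[2,0]),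
  (4,2,[3,0]), (1,3,[4,0]), (6,3,[5,0]), (2,1,[7,0]), (3,3,[4,2]), (5,5,[5,2]), (4,5,[6,2]), (0,3,[4,3]), (3,2,[5,3]),
  (0,2,[6,3]), (0,5,[2,5]), (2,2,[3,5]), (0,4,[2,7]), (5,1,[5,7]), (4,4,[4,2,0]), (2,6,[5,7,0])]
theorem hDX : ∀ d ∈ DX, C.eqW (subst gens (subst MS d.2.2 ++ x ++ winv (subst MS d.2.2)))
  (subst gens (wpow x d.1 ++ wpow y d.2.1)) = true := by decide +kernel
theorem hDY : ∀ d ∈ DY, C.eqW (subst gens (subst MS d.2.2 ++ y ++ winv (subst MS d.2.2)))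
  (subst gens (wpow x d.1 ++ wpow y d.2.1)) = true := by decide +kernel

theorem cls : ∃ LX LY : List N, LX.length = 24 ∧ LY.length = 24 ∧
    ∀ s ∈ (closure {e x, e y} : Subgroup N), s = 1 ∨ (IsConj (e x) s ∧ s ∈ LX) ∨ (IsConj (e y) s ∧ s ∈ LY) := by
  refine ⟨DX.map fun d => e x ^ d.1 * e y ^ d.2.1, DY.map fun d => e x ^ d.1 * e y ^ d.2.1,
    by rw [List.length_map]; rfl, by rw [List.length_map]; rfl, fun s hs => ?_⟩
  obtain ⟨i, hi, j, hj, rfl⟩ := memP hs
  rcases (by decide +kernel : ∀ i < 7, ∀ j < 7, (i = 0 ∧ j = 0) ∨ (∃ d ∈ DX, d.1 = i ∧ d.2.1 = j) ∨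
    ∃ d ∈ DY, d.1 = i ∧ d.2.1 = j) i hi j hj with ⟨rfl, rfl⟩ | ⟨d, hd, rfl, rfl⟩ | ⟨d, hd, rfl, rfl⟩
  · exact .inl (by simp)
  · exact .inr (.inl ⟨isConj_iff.2 ⟨_, cj (hDX d hd)⟩, List.mem_map_of_mem hd⟩)
  · exact .inr (.inr ⟨isConj_iff.2 ⟨_, cj (hDY d hd)⟩, List.mem_map_of_mem hd⟩)

theorem nofix : ∀ i ∈ [1,2,3,4,5,6], ∀ p < 819, ipt lk (subst gens (wpow w i)) p ≠ p := by decide +kernel

theorem nw : ∀ i < 7, ¬ IsConj (e x) (e w ^ i) := fun i hi h => by
  rcases Nat.eq_zero_or_pos i with rfl | h0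
  · exact ne1 (u := x) (by decide +kernel) (isConj_one_left.1 (by simpa using h))
  obtain ⟨c, hc⟩ := isConj_iff.1 h
  have h4 : C.ev (subst gens x) ⟨4, by decide⟩ = ⟨4, by decide⟩ :=
    Fin.ext ((Ctx.maps_iff hC).1 (by decide +kernel))
  have e1 : C.ev (subst gens (wpow w i)) = c.1 * C.ev (subst gens x) * c.1⁻¹ := by
    have := congrArg Subtype.val hc
    rw [e_eq w, ← ev_wpow, ev_sg] at this
    exact this.symm
  refine nofix i (by interval_cases i <;> simp) (c.1 ⟨4, by decide⟩) (c.1 ⟨4, by decide⟩).2 ?_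
  rw [ipt_eq hlk, e1]
  refine congrArg Fin.val (Equiv.Perm.inv_eq_iff_eq.2 ?_)
  simp [h4]

theorem top : (closure {e x, e y, e l, e a, e b} : Subgroup N) = ⊤ := by
  have h1 : grp (sg C.g gens) [x, y, l, a, b] ≤ closure {e x, e y, e l, e a, e b} :=
    (grp_le_iff _).2 fun u hu => subset_closure (by
      rw [← e_eq]
      simp only [List.mem_cons, List.not_mem_nil, or_false] at hu
      rcases hu with rfl | rfl | rfl | rfl | rfl <;> simp)
  refine eq_top_iff.2 ((grp_sg C.g gens (ws := gens) (by decide)).ge.trans ((grp_le_iff _).2 fun u hu => h1 ?_))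
  obtain ⟨v, -, -, h⟩ := (by decide +kernel : ∀ u ∈ gens, ∃ v ∈ [(0,[2,4,3,8,5,5,3,9,5,3]), (2,[1,2,5,6,4,2,4,7,4,3]),
    (4,[1,1,5,8,4,4,0,9,4,1]), (6,[1,5,9,7,5,5,7,5,5,9,5,6,4]), (8,[4,4,8,4,9,7,4,9,4,4,7]),
    (10,[2,5,9,5,7,4,6,8,4,6,4,9,1]), (12,[1,8,3,4,6,5,9,0,6,0])], [v.1] = u ∧
    C.eqW (subst gens u) (subst gens (subst [x, y, l, a, b] v.2)) = true) u hu
  rw [eqe h]; exact subst_mem_grp _ _ _

theorem oy : orderOf (e y) = 7 :=
  haveI : Fact (Nat.Prime 7) := ⟨by norm_num⟩; orderOf_eq_prime y7 (ne1 (by decide +kernel))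

theorem kf : ThA0.KF (e x) (e y) (e l) (e a) (e b) (e w) M where
  ox := haveI : Fact (Nat.Prime 7) := ⟨by norm_num⟩; orderOf_eq_prime x7 (ne1 (by decide +kernel))
  ol := pw (by decide +kernel)
  ow := haveI : Fact (Nat.Prime 7) := ⟨by norm_num⟩; orderOf_eq_prime (pw (by decide +kernel)) (ne1 (by decide +kernel))
  xy := xy
  xl := cm (by decide +kernel)
  cP := cP
  xM := inM [3,4,7,4] (by decide +kernel)
  yM := inM [3,6,6,2,7,7] (by decide +kernel)
  aM := inM [7,4,3,5] (by decide +kernel)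
  bM := inM [3,4,2,7,5,3] (by decide +kernel)
  a3 := pw (by decide +kernel)
  b3 := pw (by decide +kernel)
  lowM := lowB.1.trans (by
    rw [M_eq, ← mapg (ws := MS) (by decide +kernel), card_map_of_injective (subtype_injective _)])
  nM := nM
  cls := cls
  nw := nw
  top := top

end
end CA.ThK2
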