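import Cfsg.Agent.Lib.Spor.ThA0

/-! An automorphism of the Thompson group maps `³D₄(2):3` into a point stabiliser. -/

set_option autoImplicit false
set_option linter.unusedVariables false

namespace CA.ThK3
open Subgroup CA.ThA0

section count
variable {G K Ω : Type} [Group G] [Group K] [Finite K] [MulAction G Ω] (φ : K →* G)

/-- double counting of fixed points in one orbit -/
theorem cnt (p : Ω) (z : K) (T : Set K) (hT : ∀ s, φ s • p = p → IsConj z s → s ∈ T) :
    {ξ : Ω | (∃ k, φ k • p = ξ) ∧ φ z • ξ = ξ}.ncard * Nat.card ((MulAction.stabilizer G p).comap φ) ≤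
      Nat.card (centralizer {z} : Subgroup K) * T.ncard := by
  classical
  set S := (MulAction.stabilizer G p).comap φ
  set F := {ξ : Ω | (∃ k, φ k • p = ξ) ∧ φ z • ξ = ξ}
  have hr : ∀ ξ : F, ∃ k, φ k • p = ξ := fun ξ => ξ.2.1
  choose r hr using hr
  have hc : ∀ s : K, ∃ c : K, IsConj z s → c * z * c⁻¹ = s := fun s => by
    by_cases h : IsConj z s
    · obtain ⟨c, hc⟩ := isConj_iff.1 h; exact ⟨c, fun _ => hc⟩
    · exact ⟨1, fun h' => absurd h' h⟩
  choose c hc using hc
  have key : ∀ k : K, φ z • φ k • p = φ k • p → φ (k⁻¹ * z * k) • p = p := fun k h => by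
    rw [map_mul, map_mul, mul_smul, mul_smul, h, map_inv, inv_smul_smul]
  have cj : ∀ k : K, IsConj z (k⁻¹ * z * k) := fun k => isConj_iff.2 ⟨k⁻¹, by simp⟩
  have fx : ∀ (ξ : F) (s : S), φ z • φ (r ξ * s) • p = φ (r ξ * s) • p := fun ξ s => by
    have : φ s.1 • p = p := s.2
    rw [map_mul, mul_smul, this, hr]; exact ξ.2.2
  let f : F × S → (centralizer {z} : Subgroup K) × T := fun u =>
    (⟨(r u.1 * u.2) * c ((r u.1 * u.2)⁻¹ * z * (r u.1 * u.2)), by
      rw [mem_centralizer_singleton_iff]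
      have := hc _ (cj (r u.1 * u.2))
      generalize c ((r u.1 * u.2)⁻¹ * z * (r u.1 * u.2)) = d at this ⊢
      generalize r u.1 * u.2 = k at this ⊢
      calc k * d * z = k * (d * z * d⁻¹) * d := by group
        _ = z * (k * d) := by rw [this]; group⟩,
     ⟨_, hT _ (key _ (fx u.1 u.2)) (cj _)⟩)
  have hf : Function.Injective f := by
    rintro ⟨ξ, s⟩ ⟨η, t⟩ h
    obtain ⟨h1, h2⟩ := Prod.mk.inj h
    have h2' := congrArg Subtype.val h2
    have h1' := congrArg Subtype.val h1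
    dsimp only at h1' h2'
    rw [h2'] at h1'
    have h3 := mul_right_cancel h1'
    have h4 : ξ = η := by
      have a : φ s.1 • p = p := s.2
      have b : φ t.1 • p = p := t.2
      apply Subtype.ext
      rw [← hr ξ, ← hr η, ← a, ← mul_smul, ← map_mul, h3, map_mul, mul_smul, b, a]
    subst h4
    exact Prod.ext rfl (Subtype.ext (mul_left_cancel h3))
  have := Nat.card_le_card_of_injective f hf
  rwa [Nat.card_prod, Nat.card_prod, Nat.card_coe_set_eq, Nat.card_coe_set_eq] at this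

theorem orbfin (p : Ω) (Q : Ω → Prop) : {ξ : Ω | (∃ k, φ k • p = ξ) ∧ Q ξ}.Finite :=
  (Set.finite_range fun k => φ k • p).subset fun _ h => h.1
end count

theorem cent_conj {K : Type} [Group K] {x y : K} (h : IsConj x y) :
    Nat.card (centralizer {x} : Subgroup K) = Nat.card (centralizer {y} : Subgroup K) := by
  obtain ⟨c, rfl⟩ := isConj_iff.1 h
  refine Nat.card_congr ((MulAut.conj c).toEquiv.subtypeEquiv fun g => ?_)
  rw [mem_centralizer_singleton_iff, mem_centralizer_singleton_iff]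
  show _ ↔ c * g * c⁻¹ * (c * x * c⁻¹) = c * x * c⁻¹ * (c * g * c⁻¹)
  constructor
  · intro h
    calc _ = c * (g * x) * c⁻¹ := by group
      _ = _ := by rw [h]; group
  · intro h
    calc g * x = c⁻¹ * (c * g * c⁻¹ * (c * x * c⁻¹)) * c := by group
      _ = _ := by rw [h]; group

/-- elements of order 7 lie in a normal subgroup of index prime to 7 -/
theorem mem_of_normal {M : Type} [Group M] [Finite M] (P : Subgroup M) [P.Normal] (h : ¬ 7 ∣ P.index) {s : M}
    (hs : s ^ 7 = 1) : s ∈ P := by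
  have h1 : orderOf (s : M ⧸ P) ∣ 7 := orderOf_dvd_of_pow_eq_one (by rw [← QuotientGroup.mk_pow, hs]; rfl)
  have h2 : orderOf (s : M ⧸ P) ∣ P.index := orderOf_dvd_natCard _
  rcases (Nat.dvd_prime (by norm_num)).1 h1 with e | e
  · exact (QuotientGroup.eq_one_iff s).1 (orderOf_eq_one_iff.1 e)
  · exact absurd (e ▸ h2) h

theorem s126 {S : Type} [Group S] [Finite S] (h : Nat.card S = 126) {w s : S} (hw : orderOf w = 7) (hs : s ^ 7 = 1) :
    s ∈ zpowers w := by
  haveI : Fact (Nat.Prime 7) := ⟨by norm_num⟩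
  have c : Nat.card (zpowers w) = 7 := by rw [Nat.card_zpowers, hw]
  have i : (zpowers w).index = 18 := by have := (zpowers w).card_mul_index; rw [c, h] at this; omega
  let Q : Sylow 7 S := Sylow.ofCard (zpowers w) (by
    rw [c, h, show 126 = 7 * 18 from rfl, Nat.factorization_mul (by norm_num) (by norm_num)]
    simp [Nat.Prime.factorization_self (show Nat.Prime 7 by norm_num),
      Nat.factorization_eq_zero_of_not_dvd (show ¬ 7 ∣ 18 by norm_num)])
  have a := card_sylow_modEq_one 7 S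
  have b : Nat.card (Sylow 7 S) ∣ 18 := i ▸ Q.card_dvd_index
  have e : Nat.card (Sylow 7 S) = 1 := by
    have := Nat.le_of_dvd (by norm_num) b
    generalize Nat.card (Sylow 7 S) = n at *
    interval_cases n <;> simp_all (config := {decide := true})
  haveI : Subsingleton (Sylow 7 S) := (Nat.card_eq_one_iff_unique.1 e).1
  haveI : (zpowers w).Normal := Q.normal_of_subsingleton
  exact mem_of_normal _ (by rw [i]; norm_num) hs

theorem orb_dvd {G Ω : Type} [Group G] [MulAction G Ω] (C : Subgroup G) (u : Ω) :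
    (MulAction.orbit C u).ncard ∣ Nat.card C := by
  rw [← MulAction.index_stabilizer]; exact index_dvd_card _

theorem seven {G Ω : Type} [Group G] [MulAction G Ω] {l : G} (h7 : l ^ 7 = 1) {u : Ω} (hu : l • u ≠ u) :
    (MulAction.orbit (zpowers l) u).ncard = 7 := by
  have := orb_dvd (zpowers l) u
  rw [Nat.card_zpowers] at this
  rcases (Nat.dvd_prime (by norm_num : Nat.Prime 7)).1 (this.trans (orderOf_dvd_of_pow_eq_one h7)) with e | e
  · obtain ⟨a, ha⟩ := Set.ncard_eq_one.1 e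
    have h1 : u ∈ MulAction.orbit (zpowers l) u := MulAction.mem_orbit_self u
    have h2 : l • u ∈ MulAction.orbit (zpowers l) u := ⟨⟨l, mem_zpowers l⟩, rfl⟩
    rw [ha] at h1 h2
    exact absurd (h2.trans h1.symm) hu
  · exact e

/-- an element of order 7 on at most nine points -/
theorem nine {G Ω : Type} [Group G] [MulAction G Ω] (C : Subgroup G) [Finite C] {l : G} (hl : l ∈ C)
    (h7 : l ^ 7 = 1) (h9 : ¬ 9 ∣ Nat.card C) (F : Set Ω) (hF : F.Finite) (hn : F.ncard ≤ 9)
    (hC : ∀ c ∈ C, ∀ ξ ∈ F, c • ξ ∈ F) (P : Subgroup G) (hP : P ≤ C) (cP : Nat.card P = 49)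
    {u v : Ω} (h2 : ∀ a : Ω, (∀ s ∈ P, s • a = a) → a = u ∨ a = v)
    (huv : u ≠ v) (hu : u ∈ F) (hv : v ∈ F) (pu : ∀ s ∈ P, s • u = u) (pv : ∀ s ∈ P, s • v = v) :
    l • u = u ∨ l • v = v := by
  by_contra hh
  rw [not_or] at hh
  have sub : ∀ a ∈ F, MulAction.orbit C a ⊆ F := by
    rintro a ha _ ⟨c, rfl⟩; exact hC c c.2 a ha
  have big : ∀ a ∈ F, l • a ≠ a → 7 ≤ (MulAction.orbit C a).ncard := fun a ha h => by
    rw [← seven h7 h]
    refine Set.ncard_le_ncard ?_ (hF.subset (sub a ha))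
    rintro _ ⟨c, rfl⟩
    exact ⟨⟨c, zpowers_le.2 hl c.2⟩, rfl⟩
  have hvu : v ∈ MulAction.orbit C u := by
    by_contra h
    have d : Disjoint (MulAction.orbit C u) (MulAction.orbit C v) := by
      rw [Set.disjoint_left]
      intro a h1 h2
      exact h (MulAction.mem_orbit_symm.1 ((MulAction.orbit_eq_iff.2 h2) ▸ MulAction.mem_orbit_symm.1 h1))
    have := Set.ncard_union_eq d (hF.subset (sub u hu)) (hF.subset (sub v hv))
    have := Set.ncard_le_ncard (Set.union_subset (sub u hu) (sub v hv)) hF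
    have := big u hu hh.1
    have := big v hv hh.2
    omega
  haveI : Fact (Nat.Prime 7) := ⟨by norm_num⟩
  haveI : Finite (MulAction.orbit C u) := hF.subset (sub u hu)
  have pg : IsPGroup 7 (P.subgroupOf C) :=
    IsPGroup.of_card (n := 2) ((Nat.card_congr (subgroupOfEquivOfLe hP).toEquiv).trans cP)
  have m := pg.card_modEq_card_fixedPoints (MulAction.orbit C u)
  have two : Nat.card (MulAction.fixedPoints (P.subgroupOf C) (MulAction.orbit C u)) = 2 := by
    rw [Nat.card_eq_two_iff]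
    refine ⟨⟨⟨u, MulAction.mem_orbit_self u⟩, fun s => Subtype.ext (pu _ s.2)⟩, ⟨⟨v, hvu⟩, fun s => Subtype.ext (pv _ s.2)⟩,
      fun h => huv (congrArg (fun t => t.1.1) h), Set.eq_univ_of_forall fun a => ?_⟩
    rcases h2 a.1.1 (fun s hs => congrArg Subtype.val (a.2 ⟨⟨s, hP hs⟩, hs⟩)) with e | e
    · exact .inl (Subtype.ext (Subtype.ext e))
    · exact .inr (Subtype.ext (Subtype.ext e))
  rw [two, Nat.card_coe_set_eq] at m
  have a1 := big u hu hh.1
  have a2 := (Set.ncard_le_ncard (sub u hu) hF).trans hn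
  have a3 := orb_dvd C u
  generalize (MulAction.orbit C u).ncard = n at *
  interval_cases n
  · exact absurd m (by decide)
  · exact absurd m (by decide)
  · exact h9 a3

section main
variable {G K Ω : Type} [Group G] [Finite G] [Group K] [Finite K] [MulAction G Ω] {φ : K →* G} {ω p q : Ω}
  {x y l a b w : K} {M : Subgroup K} (k : KF x y l a b w M) (o : OF φ ω p q w M)
  (cx : Nat.card (centralizer {x} : Subgroup K) = 1176) (cy : Nat.card (centralizer {y} : Subgroup K) = 147)
  (oy : orderOf y = 7)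
include k o cx cy oy

theorem PM : (closure {x, y} : Subgroup K) ≤ M := by
  rw [closure_le]; rintro _ (rfl | rfl); exacts [k.xM, k.yM]

theorem Meq : M = (MulAction.stabilizer G p).comap φ :=
  eq_of_le_of_card_ge (fun m hm => o.hM m hm) (o.cM.le.trans k.lowM)

theorem memP {s : K} (h : φ s • p = p) (h7 : s ^ 7 = 1) : s ∈ (closure {x, y} : Subgroup K) := by
  have hs : s ∈ M := by rw [Meq k o cx cy oy]; exact h
  haveI : ((closure {x, y} : Subgroup K).subgroupOf M).Normal := ⟨fun n hn g => k.nM g g.2 n hn⟩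
  refine mem_of_normal ((closure {x, y} : Subgroup K).subgroupOf M) ?_ (s := ⟨s, hs⟩) (Subtype.ext h7)
  have := ((closure {x, y} : Subgroup K).subgroupOf M).card_mul_index
  rw [Nat.card_congr (subgroupOfEquivOfLe (PM k o cx cy oy)).toEquiv, k.cP,
    show Nat.card M = 3528 from Meq k o cx cy oy ▸ o.cM] at this
  omega

theorem memW {s : K} (h : φ s • q = q) (h7 : s ^ 7 = 1) : s ∈ zpowers w := by
  have := s126 o.cS (w := ⟨w, o.hw⟩) (s := ⟨s, h⟩) (by rw [← k.ow]; exact (orderOf_mk _ _)) (Subtype.ext h7)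
  obtain ⟨i, hi⟩ := this
  exact ⟨i, congrArg Subtype.val hi⟩

theorem nxy : ¬ IsConj x y := fun h => by have := cent_conj h; omega

theorem ord {z s : K} (h : IsConj z s) : orderOf s = orderOf z := by
  obtain ⟨c, rfl⟩ := isConj_iff.1 h
  exact (MulAut.conj c).orderOf_eq z

theorem Fp {z : K} : (IsConj x z → {ξ : Ω | (∃ k, φ k • p = ξ) ∧ φ z • ξ = ξ}.ncard ≤ 8) ∧
    (IsConj y z → {ξ : Ω | (∃ k, φ k • p = ξ) ∧ φ z • ξ = ξ}.ncard ≤ 1) := by
  classical
  obtain ⟨LX, LY, h1, h2, h3⟩ := k.cls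
  have ll : ∀ L : List K, {s | s ∈ L}.ncard ≤ L.length := fun L => by
    rw [← List.coe_toFinset, Set.ncard_coe_finset]; exact L.toFinset_card_le
  constructor
  · intro h
    have := cnt φ p z {s | s ∈ LX} fun s hs hc => by
      have c := h.trans hc
      have e := (ord k o cx cy oy c).trans k.ox
      rcases h3 s (memP k o cx cy oy hs (e ▸ pow_orderOf_eq_one s)) with rfl | t | t
      · simp at e
      · exact t.2
      · exact absurd (c.trans t.1.symm) (nxy k o cx cy oy)
    have := ll LX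
    rw [o.cM, ← cent_conj h, cx] at *
    omega
  · intro h
    have := cnt φ p z {s | s ∈ LY} fun s hs hc => by
      have c := h.trans hc
      have e := (ord k o cx cy oy c).trans oy
      rcases h3 s (memP k o cx cy oy hs (e ▸ pow_orderOf_eq_one s)) with rfl | t | t
      · simp at e
      · exact absurd (t.1.trans c.symm) (nxy k o cx cy oy)
      · exact t.2
    have := ll LY
    rw [o.cM, ← cent_conj h, cy] at *
    omega

theorem Fq {z : K} : (IsConj x z → {ξ : Ω | (∃ k, φ k • q = ξ) ∧ φ z • ξ = ξ}.ncard ≤ 0) ∧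
    (IsConj y z → {ξ : Ω | (∃ k, φ k • q = ξ) ∧ φ z • ξ = ξ}.ncard ≤ 7) := by
  classical
  constructor
  · intro h
    have := cnt φ q z ∅ fun s hs hc => by
      have c := h.trans hc
      have e := (ord k o cx cy oy c).trans k.ox
      have := memW k o cx cy oy hs (e ▸ pow_orderOf_eq_one s)
      rw [mem_zpowers_iff_mem_range_orderOf, k.ow, Finset.mem_image] at this
      obtain ⟨i, hi, rfl⟩ := this
      exact k.nw i (Finset.mem_range.1 hi) c
    rw [o.cS, Set.ncard_empty] at this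
    omega
  · intro h
    have := cnt φ q z ((zpowers w : Set K) \ {1}) fun s hs hc => by
      have c := h.trans hc
      have e := (ord k o cx cy oy c).trans oy
      exact ⟨memW k o cx cy oy hs (e ▸ pow_orderOf_eq_one s), by rintro rfl; simp at e⟩
    have e : (zpowers w : Set K).ncard = 7 := by rw [← Nat.card_coe_set_eq]; exact (Nat.card_zpowers w).trans k.ow
    rw [o.cS, ← cent_conj h, cy, Set.ncard_diff_singleton_of_mem (one_mem _), e] at this
    omega

theorem F9 {z : K} (hz : z ∈ (closure {x, y} : Subgroup K)) (h1 : z ≠ 1) :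
    {ξ : Ω | φ z • ξ = ξ}.Finite ∧ {ξ : Ω | φ z • ξ = ξ}.ncard ≤ 9 := by
  obtain ⟨LX, LY, -, -, h3⟩ := k.cls
  have hc : IsConj x z ∨ IsConj y z := by
    rcases h3 z hz with e | e | e
    exacts [absurd e h1, .inl e.1, .inr e.1]
  have e : orderOf z = 7 := hc.elim (fun c => (ord k o cx cy oy c).trans k.ox) fun c => (ord k o cx cy oy c).trans oy
  have sub : {ξ : Ω | φ z • ξ = ξ} ⊆ insert ω ({ξ : Ω | (∃ k, φ k • p = ξ) ∧ φ z • ξ = ξ} ∪
      {ξ : Ω | (∃ k, φ k • q = ξ) ∧ φ z • ξ = ξ}) := fun ξ h => by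
    rcases o.hall ξ z e h with t | t | t
    exacts [.inl t, .inr (.inl ⟨t, h⟩), .inr (.inr ⟨t, h⟩)]
  have fin := ((orbfin φ p fun ξ => φ z • ξ = ξ).union (orbfin φ q fun ξ => φ z • ξ = ξ)).insert ω
  refine ⟨fin.subset sub, (Set.ncard_le_ncard sub fin).trans ((Set.ncard_insert_le _ _).trans ?_)⟩
  have := Set.ncard_union_le {ξ : Ω | (∃ k, φ k • p = ξ) ∧ φ z • ξ = ξ} {ξ : Ω | (∃ k, φ k • q = ξ) ∧ φ z • ξ = ξ}
  rcases hc with c | c
  · have := (Fp k o cx cy oy).1 c; have := (Fq k o cx cy oy).1 c; omega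
  · have := (Fp k o cx cy oy).2 c; have := (Fq k o cx cy oy).2 c; omega

theorem F2 (ξ : Ω) (h : ∀ s ∈ (closure {x, y} : Subgroup K), φ s • ξ = ξ) : ξ = ω ∨ ξ = p := by
  have hy : y ∈ (closure {x, y} : Subgroup K) := subset_closure (by simp)
  rcases o.hall ξ y oy (h y hy) with t | t | ⟨c, rfl⟩
  · exact .inl t
  · right
    exact (Set.ncard_le_one (orbfin φ p fun ξ => φ y • ξ = ξ)).1 ((Fp k o cx cy oy).2 (IsConj.refl y)) ξ ⟨t, h y hy⟩ p
      ⟨⟨1, by simp⟩, o.hM y k.yM⟩
  · exfalso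
    have le : (closure {x, y} : Subgroup K).map (MulAut.conj c⁻¹).toMonoidHom ≤ (MulAction.stabilizer G q).comap φ := by
      rintro _ ⟨s, hs, rfl⟩
      show φ (c⁻¹ * s * c⁻¹⁻¹) • q = q
      rw [inv_inv, map_mul, map_mul, mul_smul, mul_smul, h s hs, map_inv, inv_smul_smul]
    have := card_dvd_of_le le
    rw [card_map_of_injective (MulAut.conj c⁻¹).injective, k.cP, o.cS] at this
    omega

theorem main0 (ψ : K →* G) (hψ : Function.Injective ψ)
    (hP : (closure {x, y} : Subgroup K).map ψ = (closure {x, y} : Subgroup K).map φ) : ∃ ξ : Ω, ∀ g, ψ g • ξ = ξ := by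
  have hx : x ∈ (closure {x, y} : Subgroup K) := subset_closure (by simp)
  have hy : y ∈ (closure {x, y} : Subgroup K) := subset_closure (by simp)
  have f2 : ∀ ξ : Ω, (∀ s ∈ (closure {x, y} : Subgroup K).map ψ, s • ξ = ξ) → ξ = ω ∨ ξ = p := fun ξ h =>
    F2 k o cx cy oy ξ fun s hs => h _ (hP ▸ mem_map_of_mem φ hs)
  have pu : ∀ s ∈ (closure {x, y} : Subgroup K).map ψ, s • ω = ω := by
    rw [hP]; rintro _ ⟨s, hs, rfl⟩; exact o.h0 s
  have pv : ∀ s ∈ (closure {x, y} : Subgroup K).map ψ, s • p = p := by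
    rw [hP]; rintro _ ⟨s, hs, rfl⟩; exact o.hM s (PM k o cx cy oy hs)
  have odd : ∀ m ∈ M, m ^ 3 = 1 → ψ m • ω = ω ∧ ψ m • p = p := fun m hm h3 => by
    have mv : ∀ ξ : Ω, (∀ s ∈ (closure {x, y} : Subgroup K).map ψ, s • ξ = ξ) → ψ m • ξ = ω ∨ ψ m • ξ = p := fun ξ h =>
      f2 _ (by
        rintro _ ⟨s, hs, rfl⟩
        have := h _ (mem_map_of_mem ψ (k.nM _ (inv_mem hm) s hs))
        rw [inv_inv, map_mul, map_mul, mul_smul, mul_smul, map_inv, inv_smul_eq_iff] at this
        exact this)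
    have e3 : ψ m • ψ m • ψ m • ω = ω := by
      rw [smul_smul, smul_smul, ← map_mul, ← map_mul, ← pow_three', h3, map_one, one_smul]
    rcases mv ω pu with e | e <;> rcases mv p pv with e' | e'
    · exact absurd (smul_left_cancel _ (e'.trans e.symm)) o.hp
    · exact ⟨e, e'⟩
    · rw [e, e', e] at e3; exact absurd e3 o.hp
    · exact absurd (smul_left_cancel _ (e'.trans e.symm)) o.hp
  obtain ⟨z, hz, ez⟩ : ψ x ∈ (closure {x, y} : Subgroup K).map φ := hP ▸ mem_map_of_mem ψ hx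
  have z1 : z ≠ 1 := by
    rintro rfl
    have := hψ (ez.symm.trans ((map_one φ).trans (map_one ψ).symm))
    have e := k.ox
    rw [this] at e; simp at e
  obtain ⟨a1, a2⟩ := F9 k o cx cy oy hz z1
  have PC : (closure {x, y} : Subgroup K) ≤ centralizer {x} := by
    rw [closure_le]; rintro _ (rfl | rfl)
    · exact mem_centralizer_singleton_iff.2 rfl
    · exact mem_centralizer_singleton_iff.2 k.xy.symm
  have n9 := nine ((centralizer {x} : Subgroup K).map ψ) (l := ψ l)
    (mem_map_of_mem ψ (mem_centralizer_singleton_iff.2 k.xl.symm)) (by rw [← map_pow, k.ol, map_one])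
    (by rw [card_map_of_injective hψ, cx]; norm_num) _ a1 a2 (by
      rintro _ ⟨c, hc, rfl⟩ ξ h
      show φ z • ψ c • ξ = ψ c • ξ
      have h' : φ z • ξ = ξ := h
      rw [ez] at h' ⊢
      rw [smul_smul, ← map_mul, ← mem_centralizer_singleton_iff.1 hc, map_mul, mul_smul, h'])
    _ (map_mono PC) (by rw [card_map_of_injective hψ, k.cP]) f2 o.hp.symm (o.h0 z) (o.hM z (PM k o cx cy oy hz)) pu pv
  have fin : ∀ ξ : Ω, (∀ s ∈ (closure {x, y} : Subgroup K).map ψ, s • ξ = ξ) → ψ l • ξ = ξ → ψ a • ξ = ξ →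
      ψ b • ξ = ξ → ∀ g, ψ g • ξ = ξ := fun ξ h1 h2 h3 h4 g => by
    have : (closure {x, y, l, a, b} : Subgroup K) ≤ (MulAction.stabilizer G ξ).comap ψ := by
      rw [closure_le]; rintro _ (rfl | rfl | rfl | rfl | rfl)
      exacts [h1 _ (mem_map_of_mem ψ hx), h1 _ (mem_map_of_mem ψ hy), h2, h3, h4]
    exact this (k.top ▸ mem_top g)
  rcases n9 with e | e
  · exact ⟨ω, fin ω pu e (odd a k.aM k.a3).1 (odd b k.bM k.b3).1⟩
  · exact ⟨p, fin p pv e (odd a k.aM k.a3).2 (odd b k.bM k.b3).2⟩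

theorem main (α : MulAut G) : ∃ ξ : Ω, ∀ g, α (φ g) • ξ = ξ := by
  haveI : Fact (Nat.Prime 7) := ⟨by norm_num⟩
  have c1 : Nat.card ((closure {x, y} : Subgroup K).map φ) = 49 := by rw [card_map_of_injective o.inj, k.cP]
  have syl : ∀ Q : Subgroup G, Nat.card Q = 49 → ∃ S : Sylow 7 G, (S : Subgroup G) = Q := fun Q hQ =>
    ⟨(IsPGroup.of_card (n := 2) hQ).toSylow (fun h => o.hG (by
      rw [← Q.card_mul_index, hQ]; exact Nat.mul_dvd_mul_left 49 h)), rfl⟩
  obtain ⟨S, hS⟩ := syl _ c1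
  obtain ⟨T, hT⟩ := syl (((closure {x, y} : Subgroup K).map φ).map α.toMonoidHom)
    (by rw [card_map_of_injective α.injective, c1])
  obtain ⟨c, hc⟩ := MulAction.exists_smul_eq G T S
  obtain ⟨ξ, h⟩ := main0 k o cx cy oy ((MulAut.conj c).toMonoidHom.comp (α.toMonoidHom.comp φ))
    ((MulAut.conj c).injective.comp (α.injective.comp o.inj)) (by
      rw [← map_map, ← map_map, ← hT, ← hS, ← hc]; rfl)
  refine ⟨c⁻¹ • ξ, fun g => ?_⟩
  have : (c * α (φ g) * c⁻¹) • ξ = ξ := h g
  rw [mul_smul, mul_smul] at this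
  exact eq_inv_smul_iff.2 this
end main

end CA.ThK3
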