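import Cfsg.Agent.Lib.Spor.ThRel
import Cfsg.Agent.Lib.Comp.CLow
set_option autoImplicit false
set_option linter.all false
set_option maxRecDepth 100000
universe u
namespace CA.ThL3
open CA.CNet CA.CWord CA.CLevel CA.CSimple CA.CPoint CA.CTodd CA.CLow
noncomputable section
def R0 : List Word := [[0,0], [4,4], [6,6], [8,8], [0,8,0,8], [0,7,5,7,5,7,5,7,5], [4,8,4,8], [6,8,6,8,6,8], [10,10,10,10,10,10,10], [11,1,10,0], [11,5,10,4], [10,6,10,6], [9,11,8,10,11,11,11,9,10,10,10], [12,12,12], [13,1,12,0], [13,5,12,4], [13,7,12,6], [13,9,12,8], [13,10,12,11,11], [15,12,14,12], [15,9,14,8], [14,10,14,10,14,10,5,1,0,4,15,15], [4,7,9,11,9,7,4,6,8,10,8,4,6,9,7,4,6,11,9,7,4,6,8,10,8,10,9,7,4,6,8,10,9,7,4,6,8,11,11,11,9,7,4,6,8,11,9,7,4,6,8,10,10], [14,14,5,1,71], [15,1,14,0,73], [15,5,14,4,75], [6,8,15,6,14,6,8,15,6,14,79], [9,11,11,15,10,10,8,11,11,14,10,10,87], [0,4,11,15,10,14,11,15,10,14,11,15,10,14,11,15,10,14,91], [6,11,11,14,10,10,6,11,11,14,10,10,6,11,11,14,10,10,6,11,11,14,10,10,11,11,9,7,5,6,8,10,10,10,9,7,5,6,8,11,7,5,6,5,1,93],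 [71,1,70,0], [71,5,70,4], [71,7,70,6], [71,9,70,8], [71,11,70,10], [71,13,70,12], [71,15,70,14], [73,1,72,0], [73,5,72,4], [73,7,72,6], [73,9,72,8], [73,11,72,10], [73,13,72,12], [73,15,72,14], [73,71,72,70], [75,1,74,0], [75,5,74,4], [75,7,74,6], [75,9,74,8], [75,11,74,10], [75,13,74,12], [75,15,74,14], [75,71,74,70], [75,73,74,72], [79,1,78,0], [79,5,78,4], [79,7,78,6], [79,9,78,8], [79,11,78,10], [79,13,78,12], [79,15,78,14], [79,71,78,70], [79,73,78,72], [79,75,78,74], [87,1,86,0], [87,5,86,4], [87,7,86,6], [87,9,86,8], [87,11,86,10], [87,13,86,12], [87,15,86,14], [87,71,86,70], [87,73,86,72], [87,75,86,74], [87,79,86,78], [91,1,90,0], [91,5,90,4], [91,7,90,6], [91,9,90,8], [91,11,90,10], [91,13,90,12], [91,15,90,14], [91,71,90,70], [91,73,90,72], [91,75,90,74], [91,79,90,78], [91,87,90,86], [93,1,92,0], [93,5,92,4], [93,7,92,6], [93,9,92,8], [93,11,92,10], [93,13,92,12], [93,15,92,14], [93,71,92,70], [93,73,92,72],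 [93,75,92,74], [93,79,92,78], [93,87,92,86], [93,91,92,90], [11,8,10,11,15,11,8,10,14,10,11,15,11,15,11,8,10,14,10,14,10,80], [81,1,80,0], [81,5,80,4], [81,7,80,6], [81,9,80,8], [81,11,80,10], [81,13,80,12], [81,15,80,14], [81,71,80,70], [81,73,80,72], [81,75,80,74], [81,79,80,78], [81,87,80,86], [81,91,80,90], [81,93,80,92]]
namespace T0
noncomputable def A_0 : List (ℕ) := [nat_lit 0x4148d09a12314bc41502a20410ee49092143186310a02ba8501d682f05a61782f31de3bd8600c74730e681849e44c29861bd37a86c0d463606c33827058da1bb4dc1b8836c6d238470a2584b109b93742003e3bd17a193b276c41085a4c89941063410a614d0550aa81082120281e09242488678cf214cc2a2ac55a0c819102811d289d13a30814a0cd19b0a714e423c46b11e23d83507301e88460c43121e43ca1e83d108490941b414c05a47d1fe3fd080100819c36d05641a876101417835a0d045c29a5360ba26843f07e40bca4d28e50a886280c4308aa224aac1242491544de5d13a249d53a928852288834f4a2144421d38528221994128d4a2945a21cada28e22194728ecaa154660c44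d064612982282cc1053a2c04aa06e8211a034046218342e85d409412a01544c8c118222bc58515e2b117f2ff0618c381343992324650ab1564218a085ccb9c18831104e04c43706e40f81f10221068111f28720ee63907230b216581e0c342e85d807c0f90a81ea12b25711da3b46d8e0336c6d98d31a6c2a0dba35c6bc0aa15481e0a88690d286c4d8c492925130274c9813061ec3db05c20e87f0ff01782f20346522be57e1752eb0628c5413c3b123c4790c919242886ba0a8612148292040081008869240c81a18230484d0a342684d405828418e31e09312681c03460e01c312e25d83a07b44708e80ec41306004603f07f0508a142304b3118231833066c0683ba0dc1bc01c03882e05cc0606043c078422c45a0710e281407560a816d0d81b202b09284889182b456c08610d0120ca87c0f887e4fcc23847107402a42404841903210440a28090cf411022402012d04809280803c82c058837c6fc20e41d06a0e8c3506a608c11b0100ae82704f004809200c1e213426a1622c50588b1411c22b08e11d814028c0d81b60181090ae15d03106240801880701630160e909813105f0be812c25a02e04d81702ec2784f60640cb00a0808560ac818030203c0e508c11a01a02140780ba02815301403503206504388782bc57a088139844088c09012600c01b00001c81d03a80600c20080d502c05a00401f4010024000055002010808010c00801200003500a016800,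
  nat_lit 0x13acb589ba29d5f2338a4d16b2d6450939296d2da29898115e2bc44c92f291522a2b456889513344aa3a8d99b344bc97913a25443d12da1e8f1440080221f5dc4e19c3436d0c53c68519e3680653ca74d19a3144044290f3a351022044599c542c78da1643948b10f644c89b43c85990c4508e792843f87f420477212024103b27c2630c6216668e950120ca8153a320bba2aaa80be67cc94d29a25d0ba215a9fa97c2a0cbe158a2b41b31245f18ab3e547a8fba3e98c13e07c10f564d4fc32467e0fe53f7220bbd77a980300274d18d3f487a9d361b5929f86c9510d3cc79a9f94489191fa68c91933c2c95a263d91893128ea9d524ec531a764eccc498962c8c8d31a6360b31664248b24620c44552aa633266490eb1e68750eb3da7b58f43eb4f89f183d47a90ca45521f43f09192381dd05c39c3e98fd1facff9ff63fc8153fc7d18f6222cfe9fd63e47a30c840511422908c11881c87fa1cc38e1d33a70891ba23586b20aa73e9cd39146f1c663787151c276e0ea1d48ed2f9314e29a5febfc9ca39d47022da728e521bebea9c71bcce39cca72ce5d1be7851cd1c0ce69cd6768ed341238685838ed040ed417504a22444a0700e1013104481502c23646e0732448f29e587ecfdc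23a4690fc1f9033066808837a1d23a610520b03494a851934927e4fd0853394b0a85658451c2ca59519f774600c014ac158132a67a96316d4ca99545895d550c585a863294b115946a0b1b3506a199f33ecc3a8666184a207283117e2fc45718757aaf541a23460534088c318622c454a1781c890d21a84f89f2108c0c2ae55e0ae0f249392743306610a47510e71cac738e7616c2db0c417e06327d133a678b796f23726dd9b9372c6a8d563706cc1ba3711c43891792f2892d25a2664c5de9bd2c3e87d621040c10a2fd19b3370670ce81483411ee3dd0b524a903a078774eec20c4ce8832b90bd17a866531927a4f508317945d992a574c732ba6ae1602c08cc2b63042082578af099a17145b94ba668cd217caba9902bacc8196a2f8bca1762dd8bb176ccc19862f46051302d68b4320c5a0a7423886213c27884117a8cc999832c65c0a23d90b416842584ca12cd12292420a0a,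
  nat_lit 0x702a73ce79415cf29ef3de556aad1f7a4f24e09c21029cd9437605ed3da4a513d529ede94dfbbee6fcdf721e82da0740e3a474867fc0d917e2fcb616c15c2914ee15c2771ae339ff18eb2a9feabad7590760ec57ee80a8a5148b44c24d59ab46989313796f325fcbf8eadd317e2fc52a74e8d38c2a4b20d7d344ed928175653c278453ca1d2851d656dadb2082726508d754dc9ba2a69c727f4fe8e85d0a4dae96a6f4e35381ad633e2845ecbd91c65eece3330ac2985465ecbca098a91f32ca6a69615502a0615a55a5f7bef4a94c55164e8e48790e9923546c91a65616c2e1e073f13626d6501535500a022a554a4c1aa3a5f5f59544a8917d434d123e8914da23bd97b1b2e65cd1122cad29a5444688c91a29ec4827985f4be9158f9cbaa50754da9b668144477a83d90a42f509a13842c8590de42920e41d199b338aa154232ea519971e747faed4790f211e23c68ed21d071a3664a897525ad78ccb9969b2b6528e91fd258d7ea3747b51e23ca4ad29b6d4d8ab4846eda41c5a9058e94bada92e54449a434828ed20d4767812dc5b84dadeb8bb17623827492ea5d44dfa5086d4dac5bab762545b356bad2a6c16833606d29b35cb0de1bc4b921c9ad55a943f87e56a2d8a6c9cad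5a8b511b1875568ad6ab556ad362bad2d7364d6bad76b917236ea6ce8d237e86bb7549512a426c4da07e48c9b937289752ec2729912ef5df1b4368897d2e247c8fa12c25903d13546ecddc48e91e12f770563ac74698d4d508f30a915228b629daa714235385da975538cd0a066778ef31d6b1642584b247c8f4cb584365acb5b04608d149d8a75cebc4548a534d69b259cb38f71ee253caed9a554f5642c886987620bea7a99d3590ba28c2afd5fa33a5ba96732ecb396629b13622805a289c2cec4e05c63a968c3606c10e83aac740e86758eb34048aab03607101a032411012654caa4899131d12a46670d35580b0219d33a4611a563256217b6f6d29552a4bc29fa690bdd18e6019582a54a89a465452722848e11512a2449a4a2dd9bb2504a0895c4cc8b2164226d2f952ea5d16f6d712124284b524527827183e2d454728e45c8b911402968402d944e8a2a0fc5cb2ee5be96b,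
  nat_lit 0x2db0b8baf2ea615c8b4beda335fb11a2334d5dabc989312431862967b97699a791bbd7794d79ae5ba39aa9a26a5730d9ea6773adb4b986d09b4a47ad08ade5a64da1c94b896d45ad135af15ea9c7de0538a71170ce3aaf370c9794eab059c2d5e4ba53965e6dcb3966e3dc7b6f090d2564b29c638c89a134427d060ab95728c9ac92ee5dca50a7bd9f69165aab5548c22f18b51692fe5fc4e832b6c15bc2bdd7ba26b4d709fac1aa7ab32905209ceb82f640c818e51ca14c8ab0a995328b8c165582b048f7025567acf20ac158ade181768ed127e57b541ceb51f2afb8f91f1b1b8f763d47a904a091ad975d5e19d0ef0de176eeddbad91dac75ad8aea5d493766ec7e0ad0bb376693eb1c47ccf9c3eee4d46f8df18a3149001d424e6f2528d8005dbbb74a0d914909212401316cc918f864ead47f4fea2ab5568c53ffaad9eec67acf5214420d0a219ace59cc42ef5a2912e3546a8d85be09956eadd19158d4d2c118c6d8da3e47b99f23ef58bb1787d605456664eaaf59f561539929d7e33908d2af85f11982cc8b094b17b8a1e96e84324034568ad98d6a4d4a22c4569a7b4f92de5bc7dcfb92a35e28f51ea23cdc8b4c13c0d4ba96a684d02dad71d4c5356b926dd530b736ba1715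5c2e49ae15d09ccae126f4df537ac84aec6189b136d8e292b54aae0eaed6fed76b998bc178271370d4ec9d85c5a52a9456dd716e2d2589c15c0b87a961b624aa945a554aadc4b89695d2d5384e412d94d4920240891122425cddd2e65cd13126284f145959cb391ae5305f0be14a7cb4b2e05c189f46acfe2cd90ca19498730d35964edacb596d1da3b45ec0623045e9a9b5392f65ec752ea527475c5f83f04a993dd4f4b0cab35668c727da68d87364c8c2b565965f53ea4a855093026a9a775708c937149dd3b929c8e51526e9173ae78920e84398bd09c561ecf3c6932764ea674ce8a1b4368f41e76c40f4b45c8b9a25620d0612681e194d4551fcb4e69c9151f6ac7d901901201328650500225a80188d3e8c7d9f43d748020d57b6f6c2524a607922f0882016764ecb3be77d8ec60ad022574e29c544ca99613d55f53b4f851022036f4e0ab7e6fd126a4d24d5d398410812c2,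
  nat_lit 0x9c31c1423933a6726bed71b5f6c96654ca8d8ac54b870f1ad287126d4a453da7b39db3b5b9792d1f2be58a65b1d9a1344d6689d5b0c446dc5de4a4f49e3da938d9bbd28a41481794f29532953294d298f6d9dc790f2228ca9d21b4364b421bb5a136ac4989320da8f8f39e729a912a2eab4ca6ccd9710e21b7233be57aaf52104d68f2de5c51d36d38895cdc43886d6db0b4714bd3e07c0e79cabaf7defc899130aef946aa254492aa5546833cd3d5a7cdeabd56a45ea57a6f4e3cf79e69bd9557969d3bcb795d34a68e9bd37562ec5cb4168249167c63144b4f11e245151652fda7f24cc998cd5ec5680d612346b6a58422b2be57c764ec8ab1af728e35a8fb5f6c545472d4ab5aac9bb1533266494b43a3ad75b13c4e691d23a16333e659bb3769ed3d940a811a56f653c0512de03c06f45e8ba574ad4a094119e33c884a39a9fd2b0b4368690cbc34ce5d626953723798cd644315ac52cf9b0d6195bab7463546eac4ed258a11aeb128f0e8650c5019ff455aff64797e4d544068ac959280b250b9a7ef5553f34aa64ad666fd6bf47e9554c0e4fd95537ecfd9c0580ae49c9351e63cc634c6a1f08e49c6b8d896e0a4ae15c247f8fca36c6d8c4d89c3d8c652b15632014028c5a541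682d0521792262ec5d4c11fc966acd5210ad1237c0cac82354abd57a40f66c591b2347de6c26e0dc1c4288f5b7b6f8b81701377160cb29649a644f54ce99cb91722490884aa35e6751aa337cd652d93b2722ac55369e52cbdf7be514a28aa53e9752aa53aa5549da7b4ea8ad1592c2584693144b145bea20c4190b62b99252493319789a94654c2e2d9604c091d5b43299532914a2925ef15aaf966e6484904cbe461658cb12038ce5a8b5148b18b1692d2522360c509212442ecf287d0f9c3b83761ec3d8e71ce14d54895c1b832acd598fc549179af3529d876acede77676ceb9075a6dcfb9f292d25358a3eaae3215d71ae2eb5d6b758a07d64558946c8d920d41a8ae60f985b0b52ca736a7a4f4918a31483cad518d76a93fc1e2eeddda50f78a583b07213c274b1a8948d11a130f6a0d87b4b8cc6a1c7c29fe152a49241c834ca583b652c261d8a471dcbe2927508b430856219,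
  nat_lit 0x21801006404005e00201880b03441500280340b309c00500700ac0d005403c02901400180400140350f944e9b5857315dd9bb2eeddb55626c4cb0b614dacb22ed65ac5696bbab9f76d4c798e63851d9546b95b4d1c246c935698c9eaf79e8579f26ed3f7c89e1471b5a20ca7f0fe23fc7f915653caf5af25a732863deafb611565b02abe5843546cb8970ea9d53774605a9dd21a323a6b2ef3c28f1a8bab00f153d4a612514a28eeecb3863669dd8808a3bc7736f6dea97b2f9cdea2765d51a946eada80f6a5c5785e6a654c5552634ae75ce4187f71facee905e174b1f63d4d588ce6ac488b8ac61b3d34d364b72af9df39726e4c925775ccfb012bf57e34a9ebaa81501d45a8ae9552a57caf9495b2b6343a371d9ddc9552aa4973592408811603c07900e019a33459d19a32ae95d292eeae27f52c534bb6727a4f1ae4eb0a8f53a6cfda14af8df190ce19c59b7454bb9766dbdb2518698c930f1ad2c6f95bdd10b36e6f59bb7594c1982e80dc4722e85abe17c243586b1675bc77568c3ba16de5d49f567cd5db046f1dadb0d14c0981283dd8b426d55a3d65edcba0f673d0656fadf48ece02384bb56a3da5b692c858ab6aeda1b256d4579563a8f2b7f406d00b7166e4fcb3eeabab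31662509a131d3d0d540e722bab754d0eb5162a549b522a457d154248c7d8a57dbf951ea39a19741526783544cfbae7ddfd77cefaa8893159a334725e4bb93f3f54e1b972595269336669a514a13c8ba72a5b5dad726446b4cfe4a694d265d9c358eb1a805114b7d6fa926c2cb63ac74a43484c28a7129dd3bb79696a7a7481594b4728fd1f8edeaab7dd60ac2699365bcf5b096c3bb8f2e6b4fb8eae7464b23ed7cb1173a4b696cad8d995412821b995d2cb4b8b6e65cc52ce9757bb736cb3968ebb57676c6d8ba855b95b4ab0a1ed81909a13458b509588b11214c298b1e4fa678f7ab3ba591e25b654f5e3a8951863068c12badb4b70a472b8d68958db1a6d7584b6bad72913402ba3b81644c5c8c0a14296b2d656fadf209d7851260e291b23654fa9f1f5dca72a2bfc849090d417c7654d41526667a6c0d823649a52a6d4d8faa5d4a234463aea11272ce54dfdbdb6fee12ce1,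
  nat_lit 0x8a85711f83acdc11de18a8ef1df47705e23500fe0bc16a81e0b446c0e661687313823930e60c7872021618c4122787069c00ab86c0d4a150dc31a83ba8621bb8db1b6c6e06e90c415d8dd0fd89b8daa34c6d10c215a0da27784213ac4ec4712764ee0800f8c4008017a03e505c1f0838264c3e132225c98626421713010a41e031621421508204684214d820088a34068529014e0d03054678cfa61092644c89f1240f148e878c4701620f02470c81950d394866144962ac6169541610c2a26c89c8ed2381d511d12b4a7052a31429618806d05207784788fc0dc46e06623683a072c46839a0e007507221313a07a442073a42410c0c40a586b05240a029a0a004d0521da11f04f43686d609436908a1ad86d20d83486b44181a11000d583c06a84500da0d4a6a2e622f09806684588644d044b2925099841124a108825001951145570c71590aa94149bca2b2905fd94428a8d394529c019110c21e94612b0ad8884100193110225034160c448b0261043928214d01c15f4298c482548394102fa8ba15f0c191c28982321602590c313586184382b013a0e628317518b46203f42801360e202502602682086583e43050b21648d73804720ee26d82eb1dc34c85d040c30807607c1720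f435d9c01b6430056636c0eb0aa07605410543d87b20dc4b12604e888c0fec9d03321fc4190740c1883018c17851832864d18240f11e0ed43482a41d835e04611c86b09b06102341a458e09a1470b1034828850a10c0ca0a00f289712f44b00ec0e01a501a23983412d41e03dc23046611c04183d07644100340441d50660dd89601ec1d80260381040c01d702c0eb43a07521181430ea1b18240d842786ac1b016e0d40b481b016c1681581241140ca05704b00880a828204c12305009106702e41202560b012903002282500f00f02aa08c11902c0b307409c435074211013b0e804882705640c80a60ac00b01204203c029801813c0500dd09e13a81b035823847c05822e024116819030c2280ca0c418d06015f01d0ad82b821a08010e00e02d02103140b804a0600e105803e03a02580c84fa13802602e04e80308cc09830a0300ee0ac08280701481001cc11022608c01981c,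
  nat_lit 0x2228381fdc7f87e32221988f42318718e544607862301c29140d10808ffa3e433c1fe74d1f91c7878059438cded1ac3791ba1c2ce79c868287093903809c61c482d858a388ede23e4121db38e97c9cb673902b39472d22d39657d05823786fd3983b61e11c0833058638070a0b44218e11be4e38eda7508e41da45a91220f1048ee446c7962361a61041f18fd87784888051f81ce11a40f88282681bca522ae52a9852958aa08a852924d27e585269338c608c32670b1950a2a31651494b28a3c0fc54c146ab9ab050c9dd19e6308cf619465199e32b45e99582f0cb432a2d984916d0458b6c2f4ca216cae9a7532855d09a2584ca42886669942b3856094856461533e67e97a1978d41634338d462fe58e8ca134cb19622a184a51262ba0942fd8558c6c5f90652428331192125060d1c51ca4e1a234594630e8a314617a8a2530e61e9a71630c3986c30464e30c81291e409881906281054d2f210a0a907d44f89fa27886e0dc43310d0e5438872c09814a0e455f0922ad8ab8ada60466a3026828cc1994d0927c82105624e1e69080f388382d41e492c3a816b05b03d42d85b2364db91ce1870e71cf82e8e5c16472d0c03949b90bec7285f23542fd0bc07e85f10889f054a3546ad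1a836f1b937386b9b7c34cdbd1b43659b71b346c055a3649ee4963729c11b98e00dc218c2bc1b81f307d05d43e83921f43ec2664c59332662f4931c1ec98d1044c488f102c9888120d440d1000be8812bf86719bc5ccb063362fe99817f05c0bfc53426417e3df0641ed87b868a19c3460440950680f1092933c1fc46926630b17a2f485415c669cae518657309a12e8ae15d498c5e60943018bc324c5a8c026485b931c5cf1603578669a286ad3835786412b609345c19662e0a4b3346699452970450d0852cc1e33452f18332c8a59962ab84c12ba2ea99614f0bc94dc6605dd0941270b716e86409862dc45d18030108d098c600b5c12026116a2f899014f450841829c1f613c43286e0e248617fc32cb1533212e0bd09185a0f6a1903391ec1330150308261a2a56c62c3446869a0411905108a41c3622102930a81554bc0c745e06351564671210ef439877c42415a0ee2bb043,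
  nat_lit 0x1724cb89c4598b432d82949681484b38eba1702e203e1708e81d2c2e0d226c1689362afa2d11d24eb1d523a981b3aa76cb0345448f91e68a881b4068089052071011a5aa915212fe9d5aa4581542ac06ae8cf1580a169a634c4650c9669860b33a32c9a52d8d4a9a44b10bd953e5ed9532f70c097b42a8aad2f66010cb3018ac980a2b0ab330054b0902a50bf0942548d2418c31c9a449d49a1372938a8b4fc24315147149512d28e0b0d504a0a99c6ed934abecdd925549292b13f264925164c5acb7e2c899aa974cd94993e299949e52e97ea5e4bf89f13b497d30a6d692312f26292404022714d32e427516a14a8a40a565e452e14c2898a51444b617542885142f028e8a22f345c8b941285cd1522918b92df04f0a725bc4ec07c0fc89d136cb289b82984da07a28689b57d534a492af92f152698ea5b273525939c4f43fa27256b15e4c152293c2980d032b44bf13c0f6897899857c4cb2c026714e07684c93ec97895a47424112a0f889691ac801002200789a2d3c548d9e2c3c877a3c4b7a9c33c697721864348c143043ca145f4da32164d0037d22087191039ed10220672ce8c1c44a21d14139101d1c8250e23a2870b381e04f1912a87087d0de1c31132268ff90f448089e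2283c190f22c50b21e64551453c28a223123b1140fec1987ee1fc3829282514e707984a074e2403aa9dd3bb4ee1dca3a905a3b854127c346c630c8268c1b112054d9592a685c091a54cbbd1545e29771430bb97c4a80ba41405d28cd3574ba15829f84892a024e1582b08d5981a5604a606c24e83606c80709160d85692f83e89f21f6c808fb47f032d1f67e131864cd139fb2c98fd16487f19d41f14fe325522092d462799a313cc90f1e62c347c13f07e6a2144989111a889092e3f47e91054658f28f867e8fc964a3d11ec29a53b18922e8c4d55c6429893258a614cc574a6111663594c31a45b2b0c634c8e5606448bd168cc898ea2cc2431662c884a0910591f4a7b4f691f8444a1d63c4fe9f16c787c93e27d48ff1eccfa86463d502e2467a2a1f0e308aa2d648905d3b442220b2034ff9ffa4447ea39c19b0fd1f48fd8faa194ff31f440b1fd0d0c8110027d080e2227f51db,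
  nat_lit 0x4dc4a4140c9b8d762806b88d019ecd73a3538d38274a9c59ad4e24a3141a9c4d6e4da3449ad3d857b4502c49f3c8a0bdc9cd614d7b9da2c29981416829b3065f9a32086cbe2a17d0be64543539652caca11651358a05aca2b6540ac22688d0b585042bef55b95b1894ab4c5331c2ec98a654643ba3322537c746d50a32616daa1e12c2da6145089db4c73e5444888e7d36928ea01a6d2a85402a62614c2354ca972bc304d52aa389f8c01546faf2c55489f59e8c8690d221c86b21f4345a21ca68695047d0cba2ff688d7faff17b102965cd29b444485a522c248890b458465a2329e449279653d3c92aa9e6a9f34953c8ab65f54da7cea0d95e2c0541a9b85c8b9953659a288671907a0fc859079224c01a0f426ce910e284d0b922a431a1742948586e642cc41550cccaa966450710a21c0374214a532955284bb96b6a5079c1fc3cd0631f34799e48c34f063c8bb6adc3845768f1879478b3cc3c71d40c287890ec45437c21c4b0a3625c83e87aa4b91ba6bcb6123f478d1fa3c2d7db5b478da123c25751ea5344d91f34a6d8a2384825b123784a895946e7150dd4774e2b1d696cf8a63adaeb6a4771b522264648d944490592d3709209e088987693c09923955d8dcab9517ad2ee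5d8712aec4c92f5a936ba97755d474aa183a58f19d26c007193a44d62505ba9b31b5c70869a36a6cdad95a48ebad26dd8d995a46c8ad036886a8d2a6d0de41acb9726148d172ad150e56ab5b0dc9ad45aa9caad530e8d8d5ac6fe2eb3648960d266c8d9a1a89299b33874df9bfab792f437e962a544931ba9c04974e264ba4be2464759b41c38bbc9ec4c890aa3e27312e0d686ec3f426aa113b8352c660ce26a4b56522f32a8e5389e629dc5c8bb153aa1215e2be5421766538bb21462829765394b91752a70ef16104171de3bc918a06448cef640e81a90440c5969dc6818d2a58a770b046094eaa03ccb584540475db083af4740eb275c7453b07608ec408cec2bfcf7114d3ac8a492023d114abbca195dd574aec99953cd5dac86a0964134e9d72c854f93aaa7261cc3354e3b28eb1d982e10683b14f45045e8a9e358cad9aca338d662be6791ac2ce94616e8a54b7313c2a096e,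
  nat_lit 0x74196728baa2945e2cc5a528b7c39d82c4cf854c57b6a633da2e094c169a5a0b4e1385a616414c4b4970aa54b865282a897046a894a35c7851ad4508d4b59442d1aacdae9d66e7426b52cd4425a3b25ad1da3d61ad333596b3985b27c7e193d64cc9c9fc602d93b01275180d3c8782b017e19d4ba9ceae5fd6a68beb0e45f9aa22f249892445eeaf3f075d53c27a4eb93de29e9ee2a14f6cbf15729ecc66566b0ea7c346961a7dc5413eb53e54ca7d61d5aa30e2794f2361cc92a3046049292468c150c53e9fb2a15438be2a0afa965e7cc6a92cb35594d1aa8330669354ae2a6357192da4b2ae13bb53a9df15a2bd93bb71a981b8e48a920b7147351c239c4a897147291eb744ce9ba1d04774e854167431da1c50e8362cbd17a669079d2f461f51630fcd28f4961e85f33a42759d3386ce98828d286da1c43708a21ba45487543679f2221e44f3923c8b91723be7a512645d9029e9c890f4d2443c99e96219a21e82c4119524c49a9e5443093329cc0d00965317f34e63ea3f9f6cc78fb31ee4089f64479941f44c8112b41a89711a3d6912b11c7b4f59622c7eb1e63f0f91fe2c7cf5b1f67ae0f31f94f5929c734e7e2524a59cc41a8e61cc17b506d45a8371ca213106a21445c8bd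43c45f1d30e508b904a77cefd40c4411d92418eca014408ece1d28071db40348fa07680582d608c171d53ba582b72c99579571495ea504ae5c1137895d57c322abd98a330557b9e93e22015bab71c405b91bf2502df92737044d1a4d76da103a7ae8539274ebb5b819bfa73b81ade9c094b093a381bbeaab56db3dd36473c4e307e26f89c24fa93927e26850d24f4e755e273ca9539c35c52ca737b75ed3b0cb113ca7609ea2a34f4cd195629e9bd14a893237a91466fddf370a81bbbf718d0374ae82a6f6e922fa607036bba574a06b2a722a31a61118ccc2854e31cb3b5d5d149fe59b28a74153626e4e81ab361ad58a316499ab4c2b21dd2c984d514bf49849b1348931f8e7450ab3f174d5d2ba6c9bd38a74c9d2aa64e9940274850ca514e90aaba274a6151af65d8d7c3366bd0d12b74d7ba12ed940275650f0861144a1c75ac619328ea9cb1ad4e5536a7225255e34e49b9a70,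
  nat_lit 0x31695647cd5820b59d705a2f182c5792b8905aafa82b212d67567204bb4cfa95067690c2be6861965acc50c15ee536af62cf57acd499b2af6759714e4e4eb9d063e55f37863d3abf6ecc7a7fee3dab6704aab6bc375eddf9852ebce84e0a3ab9d0c62c768ec993c762c71d438ecde74dd97b6ea41095b1d9e4f8b0f3b3569559ab4c630c7a5687cdb113e647d9f3c3d4f963e67c2b1c63958dbff8c70f726287b3314726532a638e4dd45820ea33ef7fe5d43c9aaa1559792f9f3b78015d52af50019158fe7d932231785918ba628c59178ac198b31ed5718f22e0c7d31c2ce98f311955c115569ffe55aab93ff69a59ebdd32cd4b47ba84290a420489b3968419c943cc03339433980219245c86b432f58d396811eb28d65a14692f265f28d2e38cb97122a44fb2e3006ab7827606c13cee95da826b1b2a458cd429a82b198dd3e11d4b1b8226b6ab69044f751e87b88fd62ecf731727fd0ee62e7df21d3ee4808f767de051842c8240a32793b19322fc5ab326b3f28159f14e9af2b3de64a72bf2af75f84e7b466bf17c538cbe1afa39c57c1c6a8d11a125049da34598d41acc26ad6655346aaacc52d54616e4a5943e2cea1d9642ca543ac39085a2e620d16b4468a50fb286d15a93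618d48a2d5ff9a9331cbfd98941a831b317dd5512c52fba5b984b23cb4f45759722b248c90c4567aa3113d58f89f5c7a978d642bc731d388578a622e45afb9a0e494f04a4971ae3c6edb735c6db8cd56dd1ba36e491172d6dcdcd2656e75232e66dcd716374b8a37137c5713928981309724dd2ae85d15239bd8ba170d3747212e137cd241bec3586ca37cc86b1d3ea990b0ca8898663cec31b283c458636d4909b6d4b8bb236d4ad89b25a6959c1a602e0f2dc706d27a5a2e0dbfd49a944b7f6cd9782f0870dcce4cee42399874e765c3b22a739b864d6a5270ed292d96e2dc5b5aab6e1b44d516db75ce2d6de6eae1d2db9c19bd38733812a570edb2a536d911fa418db1c4d5ba4db2554a2931251a4d4e134a26d6a5a4b48db9386969c855d697e390480ce2b6aa9112256d690312c47f9201b2a9a93555b04fe26a379573ae7ab993153766f32e66ef16c377ab912546eeb3b26c,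
  nat_lit 0x5a15ce2696e72aceb8579d5599136e0bb99489e6e51cf333cd525548a92c5a8b6a5250eb43b877968c3b2b59cdc8776c2de790a6ced9dd0e6f39ae373dde7ad66e7d6970e606bad2ee9d2582bab8c7db57d8e48fb5aac8590aa0bb2272163fd81f03d31e81e62fab5703e37e834c4ac6c8032b142dcee164e85b07ebb983f963ac0507d83a8c4d3746283b67a39b29ad34c736ad6c0156b95bc0d2ad5dad7dced72a284e5dabbbca314b677707abdc83d95fac1507962e84efaec27a48af135331a289197aebe5126a1997350a8ada8145cd2db50696512b4baca111d69750cbe28d32a1a7f69f53f92b29feaa32fb53fc832c89a7690720f45fa486423ba949183e3acc1ea2960e4ecb096c1d8493bec26b2d407584d2330ae2f4a46a623e2423885211a841089228ce9a1142ad9c21524410ad42842ea152dad4396d228cb6d2d827696d75f5d73afc9e13da75eb2642b5f78e3afbabe97d9398bf9afb5face4afd27457ed68ccbeafd863610431ced9669863310c329865aba33abf119e5ee8cc92924f119a682e5e6ab9aee614f27349c739a6badcd65ded9db9a9a8db2b673351b3c474d9d2477335b3aebae75cea4d6e76b90718dceb9889993397308eab696d35b42de8da5a15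5dcd0b2ea4309a12d3ab4969e3607612d33934e41c9c378e4b5fc3889c95b4973adaaddd6d65c86d22da89b5ca2f331357ad484bd61c55eb91f23d8bd67149c138b37e705a715e0b3a2b01bc0e39a5c71d9323856e39c3370ee1a25670d52ba50ae1a7569d73a9c3f70a6753858b51c2a4a0e2ab855d35b9ae98b8d74e48c6fa2e94b95c7b8fadb532e72cbcd26872d9b92f3a990e235e690eb6c48711ea43c94c9744869a2aef7199b32f0ce312cd7129662524b396e93889655ce7550032b98315dbc18cf9d5ea830b1f3b95935dc1a94b24f7e1e87be9ee3de47f1ea67bdaae90f30b355917631c8bcca995a916cc32fe61557f305517995d610caf202657194a072cad35e5aeb6726b4d6d6b3784b596b0bdcb52b786f15cab78305d25c6f0b0719d583153ac16b18cf95830265669045b6b21720a1fd82f206c3f643240b9532055c382e98db945339543c9ca65565556ab3188,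
  nat_lit 0x4f8dd957bb69e10aaf75493ed96f5ad2364d69da3a3916e5ad6bd2663b19455d895649f23b17d0a874e66fbe7326fd398bfe9cd6f04e8b39a3a6ad8c61c749f35cf56d53e67c4a7af44d3d8ccecdd024e92443a04d95bd97b25b32938f667c1780a24b9e2ccd44ca035d5eed940ef652bb77639c7393de399634c624736879debc3cd0e5658cd2b348868ea563c3aef5e1b515198bc37596343accd45d634f12fcbac73ea6e4668e8186a8ccc551ef3d958ad25d6ead84b7567e4418a0acfc6e4fde35b8dd1acda48d72b446b55c23658d71e131a8dae3c568b431d54a195833fe7fca753fed1f18cc7fd57ebfd7faaaf3fdb1f5fe9aacab63fd5545f92b28632036815018d158e5203397d2526a4928ccd4947e8dfbbf373a9f9c71afccb8e7e7626b94afcdfa192b1353f57e89ca55a6fd154d7eb03ad6b81d2b540e35a55ac81caa93137ed9fd1886aaa095632c6b47a8f798d493d56a3c99ef046c79665249b8d297241571b1cb5668e465831691cab858d558ad70828d5bc14b5aa0a690b205414626627cd831b636d8351bec6d8fd21fc7ece4e3f16e4c7647e805a0498c8ac4f84633276b41951652ca8d1a5a2a95117745e605a2ec91b16e48e8b4cc149166d59ab35a839e4b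66afe5aab7f35993f9cc8d8ba7f302956881915a40ccc5988a819578db0abda0ad71d57a355ac4c4946a665591b36c83908a66d13e4d86e05232456dc122c6dedbca479af9b7c47d35e2395d0b85c477235701ba6b825969871974b28b1629458cd5d7e28b17995c8a73699af6913e6ae88510b392884572adf910aa5d7d2fa4d46a8da785e6352ac9bbcd548d93b28e7845676517cb8ab2963b0a28dd83b017be52d8d2d114a5540df4c21b45629cb4f145bb78a357b2f851456f93786ea2df925a29cbcd24a2bd8ad15f2f95f6a2bcbcb14e5e3769158cbc8cb661c656e862918cac0ac5e83ed8145b70b62dd8b4c2945b6afa294528eda2a2b4315a4305f4a2b4a7b2419be68083d33791f59648ccd3d9729191a2b518cf65fc67cd4d8728cf202b4962d9901ed4c599ed424c1ac6260d9a69d64c1a914b3d0f8ada5a6e1f2d390f61e95b73b343d836a4541bd3b20d96eaaf9c1b,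
  nat_lit 0xadf61cc3a55becedadf2d5b4e96a6b84b5d496dd696b0a2d8658f214578961abc5b3d5e0c4183f2bc5e2d53d96491b070bc857f20e514d72ae52a39728caaafeee557f3512a1daff092ccc588e124cbaf8df1a956f8cccf530df1d419511edca8333f35e46f5b035fcd811e96c0d81c4e99f6673e1933ebdea9b5375a79252694d2b52e6967d2d8d4d2a1da88cba6d4611a9753bcce5a10acdce5d0ca841af4e9e5086f6a6eb7ba931bd94ab385b7b9c25c4c40d385c26880e10a5949edc235ed33a54999d33a4a8846694ac4908dae296ed72a366b851fcca6d726516d8e234ca6c99c4364290d1cb6c962adc6b14682c2a962a1e67370f2c3787856ccec70f212a8710e1c3a87056c438ab41ce5871292d2f94867a33e9291c619db12f4ed9db9eccf6d12a7b57c13d8b9d956e7b499cf964b17eb25ac9592d999b975259b1e95cd8da394885b1cd1908a68d960d854d189d9adc4e6bd17a989d112c4388996fc44935d7398894a6bbca28693caab49e93a938a213bc939a9f49c3721e93938f493f27a4699bd6af494827a2a433d35215ea16a6a41e54a66f2b53451d1e54a96d0654d996f7d4a99475e433b684947a676d68c3686da12d4e2fb5f5ca9d0dd41d86f5cdc372b5e24b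86f124ae487da24cdad0fa6d16eedd9cda9e59e73cfaa3e6b179cf3a33779d9eaa8f2f2cb5451f129c94894575be0b12ad359b1698c6f8a32d34432b996fe88710d5a09b35b84d92dce23b9b34d157aa65abd4c4b3bdc8a9df4debcb9ace484d6b77a6b6a74dbd4d69b65bcbac936d2997112b93e995da684ae2da9a4395cd86b5b6c32682422d8651ca5ef80b9052edf03df6a5def96d0d973df9579b2cab2da5a13956fcb53f7ee69fd3f72564aa89925344c72f6262ee71329f2954f8ad4467b251cf3b35279e7313ccb99897279d3a2f55eae9e54f8de57a6e9f5342f4dea39e4f61bd4680de7dc8d796cadbcd654d1c8612caddeb4ea9d288ef31d3a883ad042bb62e53ca6ecf9bbb67d59eb3ec8490aa67cf033c48975ecc4b2bc1774897166ca78b3a484596f35ec18b2f5953f7b11493d8ccdd9c27b0d62c516b197b3152d61ad947c8da35b95eda4c0232be111812b0dc22,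
  nat_lit 0xa3c67f3b6947a809b82e8ed01b71233db8755edc19753ed5b89f85dfb9fb3f284d9c74015099c9acc59872caabdbab55cd117e12abd0d975686975aeae50d9c91bece476dad099c96a24f0a906d454b9522bdba914455487d16a4d505336a86aab540c8d7d92a83ec353d5147d91e0dbfb7ee6c51fb6fea3a8aaf9dd479756e85d0736e6e1ba0f05498782e96bc133e5df37833e5cfb9f6eccbbe33ee96377d4a53be5115dfc98356a4ab930f9749780a64bc9752999a251325f499668649a0e6cd27ecb333f6cf89fa5e23a093f6e5ab7772ecfe9cb2e5d26745293177908ed2699babfccdb50daf399b4a2be2a511de528d51265ca5174ed52ba66ca4bc974e64a6bad75b636bb91b35d29017a36bb3213ad99064748c9322531999506ca667eded33f32959fd93acff34142699fd9c553ece3b756735ceb396924397672b3dac758ec84ac723556a958dbed865396b7d989a22b7d938ed1488b1165a188ba77ae05116c75b1b639c91b086c758db0b2161a44b25c2ca42ad2521b67ddc3a42f2ed38a7169bc2b54e29deb90f35d3ba5b5e8d2d366de1ca5b482dada412c5d2030a5dc4a416925a3b466375a3b13e9cab4755557f84c6aad74560ac1691b3d5d829939ad4f533267ac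bc53d539c86d67ad8750a6c3da9d605d879729a84b9d2325cc76b190cb9bc56e3dc7b53e47cb8f191c278c99963095192d7a9b56bed78b5facf5af36822ecb5f5a74b696d1a74b6d73ee76a49738d67add2e75049402823baee93504b3368152c36660e5ae9735d74b68ee65cc7702e2c9175625c59ffae65c5d3fee6ab8b4bb4a0b9a697575b736d8d8c14bcd7683babb57650f25a284d5db4f496960e4b4328da6b9695badb0addaf3d6e305609cadd562dc3ab1a453f19562475b0760ed8191ba13581b23ac52b03173429b11a91d8b3622a158c3508bde7b92a149f2fd9f9493ef793cf52cdef52cb4adeeaa596db508b6c69946596d9e3d948f1e4a078fa97bc7307546478f184b3b839230c6055a6301678c1a460b69aacdb4375e31bb6923a32c86d2475ad9636719b4548b5aeb5d22e45d7612c23851613522b80ac2500939ee01a0170e5c0b836e045c36b6a728b95bcc14,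
  nat_lit 0x89f6b9cc66d62635bb531b54785ca63405afedfda810fecbe55591fdcee73c677171f3bac8271b6774f0d63e2ad85d348d8fb1f22bc2eb642c7ea8d0b8d4d59721744653122365c111ab9188c571c48711a2415d3122cd96e162458c90b2c65b41633441888ac64de334e69da2134f4dbb73269dc95776e4ea954735c9b92ea4db95526a48be76e6d11b73a8746896e6eeea29776dcabba6a05807776c01a8b602c249996c057ed49abf58471a5d7e7af69f3d7d271eb9a76a4a3d7a83aa2d454f96a2e94d503527a816553e3750256a9db2b73c0789a56ce932b656b77f4a93bf77e2f952ab4a695677927652aa37668d1bd2c2272a36fb6d54b046ee5dc7326ee5aab773550a86aee564b026b2680521156480eeb3407345959680f0232b2818e04403504a01d562c81c03a2ca12516aec668ba2d44add2a31ae95d4374ae93a21466bb290128cd5cb03aae4acf57356bab865b47f957258d9012c7349962dd9c0c32c6d9bb9b6ced42b67a30d2356ce0d29e33c747e9e2e26b9633c6b0c8dd586c78ac268fc00958674b9593a64fc9d29c24f8b3a619e9c9663433866ecbd0a565ecb8be342adbba152f050ad1ce8518f6ea250a9771a8badd2eee8d991745d55b026e8d23d6cad94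b5d6cb588b0d2d9531b27e9897f4f26531a5c9e352baf19e31868a2dbc66f8dc1b7c9389be29bcdf0a564995be510532a88375d374d109bceeb379b37aeb5b6f75b50da172eb4c1d40e60da0b304dc46aae60dc4560ee26b8d712d8ab82ee2435d4f6cde86b0d5cfca16a7e4fc17c285db7142f4dc753285d18b44a5eeb796f1474b79aea5bc34626e3b794613b2a1ce8c5b75416dbda1b19e5b79f525643493ea7d673d78d4faabba3cd5d9582f19abb7825e39ef6f1cc06d56601b8b3033a4a09a60502b0d21a5b32b3a434bb0e61dd8540671dbb147d5aab55277daa7162e59b553fad97a0ea70507d37e839ab0e99d07b7c63edbed55af0eb7d77ed06a0d6ebd069406831ab2e9a5069c11c02522e01c056fee0324d8649c05da5642ed3b4d768d68b48eed5a531b2285b4b641d95b206bdda87642d5baf36ae458b566cc5a856aec91a93152d92af36d15793426104af347a5a2,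
  nat_lit 0xa1ee69d0f5476879bad43ecbb75b687d3676369b4b3f4d93cba6c6d958bb4dacd1bb35eb5d9bb2a9acc550b2ecea653175a298b6bccc53761abb98b6d6d87b6b2c15b5d53ada9aa91925b5b12ecf5893646c4d853172d89b0aa92d85d61ac2d851179d85b22a17d91d6b6c8da41631d91b3f6d65acb4862d4b595dedb1aef2ba577d182bb994507a57798f1ac4c7769663eb7f47f4c7bb76d55dbd47aedbb2d65cddba3b6e8d1dd3228e9b06ed651dae4a24572d362b94b4b5c9c188346b947051ee385ac31c347862b2384a2526a4d693f26a496934d9b486326a4f27a1279ca493d99dc9e36ce97393cf41bd77a1947bd034e29e37a126dbe493719b49b2fe24de7e54f149b7c964c3e4ccd1f217f8a663e48e318ac71706638998d1c750cacaa38bfcb56aaea7f8aaabf89275fe3f7cfe1fc3647066c6e833989c1935cd5cc8334f33d2a792795e434f2f23bbd792538bc8ab9d33b79298a9436c4ca1942e97ca1acf25159435f5551afae8bd7dd2bebe9ac95f1d7dac8eb2d65d01ab2b8095f0d65af928d57c55368adaf95473ecaa26f14c97546c39aa6fb7553aa6ae9cb8508aa9eaa92e2bec9706e3b4f72e205dacd02e404817a3940b346d5a481721956b90d5fd486cfd9fac90d4d6d34a6b9e55352f522cca6af09b4378467d3c2af0544d78545ed16a2f9d8d17302258ca2ef16d2d78b1dfbc5cf45e2986aa2e3c594599e52e94c2981ae94c2ca3a619e43e254c2cb2b2565adabb2dad0c33365acd286b66b5b6b35684597766a3bcabb1ddc7d8ef98cc12d1de0258070132b1a346025bd778edecb7d6f6d6c8e96decbe50ce5f6bab2fad5797c6dcb5372fa89aafd44f5d0a26685baf744e8d5a3346b3b2a24a8d55b8fdeadd80b56f3fbab664cbf9956ed4aa776a75e6b536cada93726c93b530bdd9285fac9c2fb65165b85f532dd3a992a4d4cd549f54a995ceda3]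
noncomputable def A : List (List (ℕ)) := [A_0]
noncomputable def K_0 : List (ℕ) := [nat_lit 0x522b654da6b58ca70c794645081150a9572e731ca1513e86393b3393eea1d3432a47c7c91f98d520a253c27b2729fcf5a343047a51a9ed302a351b1ee3065f9261e03b48a8e9a4140a5d4b79d72c87e4b91943345b4b420d45848903a1f41e68580a1742096d06203556aa89719d2227e0a499c32e779249fc41477d8216c4c2c08ad19648c8217fb085fc4c1799232c0564d2a512c66e0a52d33a0578e89583826e8d49ac2246c0f11ce2f0575169c32ee6f9171e52f2621219dc3f65c4a7137332920a7a734d2648e294c2dc4d8b522927e9a8a39413e6734c59524787d4c532e47a7d8c613a25046cc017f34c750b396523c440b3202242680a59422584609690f290774c816b2b6644af9312ac490e79612aab24e11622ae44c9391a2ec54ca6925268454e494026664c9e93c26a4f89491c3124ec859192544248e92623e420a192b240438ae11720e5508a10a22c414991032184048010421a41881000,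
  nat_lit 0x53471d4b2c14daad8a2aba91706951a98952b1d512c49a9231522b38271da109cb844ae1373955c0bb53e380818d2512ad85109e606b42682ca595a4051edf171c29518a0d3d27e4faa067528b4eea29c32335d47a0f61856c71a4f7b726aaa391b9ea470611bcb746c8d9cbeb2c7b2f45e53374390c1a8a54366c858f3165a8804ff1a34a69718fa634568550320e6668492d25791087956a0b93c875562d593eef5572a949c928ec9a834467922b1833693dd2ac8632889089fd5a2d30b9acd32ac1649c48600cd27fb035f6c1e24b3065ecc93030e4aa4bd2c21b2e8bdd09a2335abd12b2ca488760dc9aa5a4c5d89acb74e748e02b042c998de9b43566bcd71b27aa6f0d39bb4c88ed101f13c65ed7d3f93ccd81ab1bf4487851817a5ece457735730ebbe082da485079139db53c9bcfd2d73905c0eb1444e09b0cc29281e541502935ba9d14bae45bce4d23a0973ae70e520027071133a722d2a654a1c6,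
  nat_lit 0x50933e7dc859f8a014348378ef2273c289be8ca3bc616b6badcb37d6d0dee7046b85513db9b658e31b63555da8e8e5bc37f8bb3a5bbb6e6ccda9b4b6c9d6dd996b7590f13223482866f0a6b33a6a523da431d870f066532066abf65da186789666bc2f92086a8a4ac86f616b7a5d80e851dfcc49375f554399676ed5d9b22764ec218ad0634ce1a734b744b3a61c4b6192058db985f94a5a7de9bbcc1a4933689af8ecfba19009493134d746c41e03b4a10b321b2d6872fd5d33d685aabcdabdb7f0f49e59b136ef41db33199714d32cd9474c3e0435c443138f82f861abc1aeb595f31566d9e78151962bb6171317a2c37a7f4c56013e0462c48be3096a8d7d7ac519b8c29c0c5271ad61c5b8a30cbca1631470ee4a23c849f4ad55ec3487f081413aa8f6ca1a02db3aa67e0b2b7750e0d5cae253eaf152adf846ebe4b2e973eb72802e873d4ca80c97740e6e0925053a7fd3a9a444cd2938a4b64cc96072ec,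
  nat_lit 0x935626c46dbd77272b4edcb075f2c057fb0561dee43a77d1e2d6e637630caa73ae748b3ef96dfc1740a255cfb9b8924cb3d638fdad05b5d5b252e35c5b897aaceee1b8777694350bab7a2525e4c43a43665b9b2db3b2fd9ecbb9715fdeda2297e6ab53944f6289cbc9576c2d53f79fd0eed3d957aeac61e4a5802f75e63ef7786d9e6be476eff677d2da2f3ca314ee9ed379b6cc59511b23ac549bb392bb4da8b90262b5d28b538e70e008c9011ffe788c700f25e8fc02fd1efccd8a0c45b142b8dcd7a17560abd1be33459616e1276b5a9e0bc5c75fbbe2e22e8e08718e43295fcb676ba215b49f2f86693ba87d1f29b50b8f506d9fbb9a14ea69a382882b963f3adb2f3b2b62e7ca16ee4c59abcb0924aae1a7758eb465a734a9e3ebc6788eada253899cc920ec17886b0d5a2c2ac528634419828a99c2caa91b5e2b82c59154d6c94a6ae2aca0ac1f84f0d55dc67770f1682345a0b4ce05b4364f502202be,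
  nat_lit 0x7cef3b2c66ecbda0ed24067f97d71f516b913d74d474bb1aeafa45f97538b4c4b37fd69b0166979f396ffc5b7e5a3656d94ba9782ed5619e775a384f1d6981ef8472c137f72ada971f7eb1fe51dcfaf7784f8888f8b45e7f7bdb121ed43d278171e6d38f38df0a62f67d56f4e549b6374f54598b9d726f3d6d5cd93ea8df6b97b2b6c59bc4bb8a12debdc1b8edb65bcb37cec0d84af5512b5d3a68d877085399a6fad91ac0777b42904a0a0d322634188395ce90cb896f2dabcd8bd8d2c1ea5a5b335df6f6e494f63ab951bb195961350ca6f64ea163a7d14571061f7db346b5616a83342dc55ca8b4f2a93c350b4f6a43c9ab57be745ccb75772efeb6abfadf265eebb355ea34056df4c2975f8a4edadb8df7bc378b43e80d2b1167bcbdd7fae68c64a9faf6b13615a1d8a5a3e0cbfd6ca3fc00a33449f2e11a5f46b6ecd898f30a5f5759232d647219a3b5f9f7566da3226606a3d4561abdec7d435b92f4a3,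
  nat_lit 0xd65aa74b688aa133208bac6fc935179e4a4d55ae06d9d03442594e67e73d3586a6dd19df77e7e969a33344aeca7a7b4a660a478e318632caf83b58d58c76fa719e8a8c0faa95e17cc59e762e8696363f59e6fd0988b7761ed37a4b16becc73866d5eeace99f760667a9776f3b58dc878729fdbcb234c692e4eb47b231b66ccf9b26e1554aa79cf75e75d719270deb5b7b7e776e27c7b6437661aa1f903156afc1babb6bed5b5f75f39612dd38b9f3634d79b968fd74c278b1e9cafa3cdc29256797f3276b6a4c9b4734ccc19735934169dd832769562bcdafef20ea5da55336a664c1f78f036be8e753733665cc355755dcaa138a3056acb6f71ed16dac8d70643647b7dbc767dbfab34fb48ecbba18c722e23b39aaaf3654bd995a91507a074b324644c859c7735acd4fb0b4fe85d9ba82a554fd874370268ede56a33558ad13a5f35e03cf79e9f8e357e168738618]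
noncomputable def K : List (List (ℕ)) := [K_0]
noncomputable def R_0 : List (Rule) := [Rule.mk (nat_lit 5) (nat_lit 35) (Steps.bwd (nat_lit 5) (Steps.bwd (nat_lit 5) Steps.nil)) (nat_lit 26) (nat_lit 0),
  Rule.mk (nat_lit 3) (nat_lit 48) (Steps.bwd (nat_lit 1) (Steps.bwd (nat_lit 3) (Steps.bwd (nat_lit 1) Steps.nil))) (nat_lit 22) (nat_lit 1),
  Rule.mk (nat_lit 1) (nat_lit 48) (Steps.bwd (nat_lit 5) (Steps.bwd (nat_lit 1) (Steps.fwd (nat_lit 10240) Steps.nil))) (nat_lit 32) (nat_lit 2),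
  Rule.mk (nat_lit 2) (nat_lit 48) (Steps.bwd (nat_lit 5) (Steps.bwd (nat_lit 2) (Steps.fwd (nat_lit 10240) Steps.nil))) (nat_lit 34) (nat_lit 2),
  Rule.mk (nat_lit 3) (nat_lit 61) (Steps.bwd (nat_lit 5) (Steps.bwd (nat_lit 4) (Steps.fwd (nat_lit 6144) (Steps.fwd (nat_lit 10240) Steps.nil)))) (nat_lit 36) (nat_lit 2),
  Rule.mk (nat_lit 2) (nat_lit 74) (Steps.bwd (nat_lit 1) (Steps.bwd (nat_lit 2) (Steps.bwd (nat_lit 1) (Steps.bwd (nat_lit 2) (Steps.fwd (nat_lit 2048) Steps.nil))))) (nat_lit 14) (nat_lit 0),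
  Rule.mk (nat_lit 3) (nat_lit 87) (Steps.bwd (nat_lit 3) (Steps.bwd (nat_lit 3) (Steps.bwd (nat_lit 3) (Steps.bwd (nat_lit 3) (Steps.bwd (nat_lit 3) (Steps.fwd (nat_lit 8192) Steps.nil)))))) (nat_lit 16) (nat_lit 0),
  Rule.mk (nat_lit 4) (nat_lit 113) (Steps.bwd (nat_lit 2) (Steps.bwd (nat_lit 4) (Steps.bwd (nat_lit 4) (Steps.bwd (nat_lit 2) (Steps.bwd (nat_lit 3) (Steps.bwd (nat_lit 3) (Steps.bwd (nat_lit 3) (Steps.fwd (nat_lit 4096) Steps.nil)))))))) (nat_lit 24) (nat_lit 2),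
  Rule.mk (nat_lit 1) (nat_lit 48) (Steps.bwd (nat_lit 3) (Steps.fwd (nat_lit 2048) (Steps.bwd (nat_lit 3) Steps.nil))) (nat_lit 22) (nat_lit 0),
  Rule.mk (nat_lit 1) (nat_lit 48) (Steps.bwd (nat_lit 5) (Steps.fwd (nat_lit 2048) (Steps.fwd (nat_lit 10240) Steps.nil))) (nat_lit 32) (nat_lit 2),
  Rule.mk (nat_lit 6) (nat_lit 48) (Steps.bwd (nat_lit 1) (Steps.bwd (nat_lit 5) (Steps.bwd (nat_lit 1) Steps.nil))) (nat_lit 32) (nat_lit 1),
  Rule.mk (nat_lit 2) (nat_lit 48) (Steps.bwd (nat_lit 5) (Steps.fwd (nat_lit 4096) (Steps.fwd (nat_lit 10240) Steps.nil))) (nat_lit 34) (nat_lit 2),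
  Rule.mk (nat_lit 6) (nat_lit 48) (Steps.bwd (nat_lit 2) (Steps.bwd (nat_lit 5) (Steps.bwd (nat_lit 2) Steps.nil))) (nat_lit 34) (nat_lit 1),
  Rule.mk (nat_lit 6) (nat_lit 61) (Steps.bwd (nat_lit 4) (Steps.bwd (nat_lit 5) (Steps.bwd (nat_lit 3) (Steps.bwd (nat_lit 3) Steps.nil)))) (nat_lit 37) (nat_lit 3),
  Rule.mk (nat_lit 6) (nat_lit 35) (Steps.bwd (nat_lit 6) (Steps.fwd (nat_lit 10240) Steps.nil)) (nat_lit 27) (nat_lit 0),
  Rule.mk (nat_lit 2) (nat_lit 74) (Steps.bwd (nat_lit 1) (Steps.bwd (nat_lit 2) (Steps.bwd (nat_lit 1) (Steps.fwd (nat_lit 4096) (Steps.bwd (nat_lit 1) Steps.nil))))) (nat_lit 14) (nat_lit 0),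
  Rule.mk (nat_lit 5) (nat_lit 48) (Steps.fwd (nat_lit 4096) (Steps.fwd (nat_lit 10240) (Steps.bwd (nat_lit 2) Steps.nil))) (nat_lit 34) (nat_lit 3),
  Rule.mk (nat_lit 6) (nat_lit 48) (Steps.fwd (nat_lit 2048) (Steps.bwd (nat_lit 5) (Steps.bwd (nat_lit 1) Steps.nil))) (nat_lit 32) (nat_lit 1),
  Rule.mk (nat_lit 5) (nat_lit 48) (Steps.fwd (nat_lit 4096) (Steps.bwd (nat_lit 6) (Steps.bwd (nat_lit 2) Steps.nil))) (nat_lit 34) (nat_lit 3),
  Rule.mk (nat_lit 5) (nat_lit 61) (Steps.fwd (nat_lit 6144) (Steps.fwd (nat_lit 6144) (Steps.bwd (nat_lit 6) (Steps.bwd (nat_lit 3) Steps.nil)))) (nat_lit 36) (nat_lit 3),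
  Rule.mk (nat_lit 6) (nat_lit 61) (Steps.fwd (nat_lit 6144) (Steps.bwd (nat_lit 5) (Steps.bwd (nat_lit 3) (Steps.bwd (nat_lit 3) Steps.nil)))) (nat_lit 37) (nat_lit 3),
  Rule.mk (nat_lit 5) (nat_lit 61) (Steps.fwd (nat_lit 6144) (Steps.bwd (nat_lit 4) (Steps.bwd (nat_lit 6) (Steps.bwd (nat_lit 3) Steps.nil)))) (nat_lit 36) (nat_lit 3),
  Rule.mk (nat_lit 4) (nat_lit 113) (Steps.bwd (nat_lit 2) (Steps.bwd (nat_lit 4) (Steps.bwd (nat_lit 4) (Steps.bwd (nat_lit 2) (Steps.bwd (nat_lit 3) (Steps.bwd (nat_lit 3) (Steps.bwd (nat_lit 3) (Steps.bwd (nat_lit 2) Steps.nil)))))))) (nat_lit 24) (nat_lit 2),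
  Rule.mk (nat_lit 5) (nat_lit 61) (Steps.bwd (nat_lit 4) (Steps.fwd (nat_lit 6144) (Steps.fwd (nat_lit 10240) (Steps.bwd (nat_lit 3) Steps.nil)))) (nat_lit 36) (nat_lit 3),
  Rule.mk (nat_lit 5) (nat_lit 35) (Steps.fwd (nat_lit 12288) (Steps.bwd (nat_lit 5) Steps.nil)) (nat_lit 26) (nat_lit 0),
  Rule.mk (nat_lit 6) (nat_lit 48) (Steps.fwd (nat_lit 4096) (Steps.fwd (nat_lit 12288) (Steps.bwd (nat_lit 2) Steps.nil))) (nat_lit 34) (nat_lit 1),
  Rule.mk (nat_lit 6) (nat_lit 35) (Steps.bwd (nat_lit 6) (Steps.bwd (nat_lit 6) Steps.nil)) (nat_lit 27) (nat_lit 0),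
  Rule.mk (nat_lit 5) (nat_lit 61) (Steps.fwd (nat_lit 6144) (Steps.fwd (nat_lit 6144) (Steps.fwd (nat_lit 10240) (Steps.bwd (nat_lit 3) Steps.nil)))) (nat_lit 36) (nat_lit 3),
  Rule.mk (nat_lit 6) (nat_lit 61) (Steps.fwd (nat_lit 6144) (Steps.fwd (nat_lit 12288) (Steps.fwd (nat_lit 8192) (Steps.bwd (nat_lit 3) Steps.nil)))) (nat_lit 37) (nat_lit 3),
  Rule.mk (nat_lit 6) (nat_lit 61) (Steps.bwd (nat_lit 3) (Steps.bwd (nat_lit 5) (Steps.fwd (nat_lit 6144) (Steps.fwd (nat_lit 6144) Steps.nil)))) (nat_lit 36) (nat_lit 1),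
  Rule.mk (nat_lit 6) (nat_lit 35) (Steps.fwd (nat_lit 10240) (Steps.bwd (nat_lit 6) Steps.nil)) (nat_lit 27) (nat_lit 0),
  Rule.mk (nat_lit 3) (nat_lit 48) (Steps.bwd (nat_lit 1) (Steps.bwd (nat_lit 3) (Steps.fwd (nat_lit 2048) Steps.nil))) (nat_lit 22) (nat_lit 1),
  Rule.mk (nat_lit 1) (nat_lit 48) (Steps.bwd (nat_lit 3) (Steps.bwd (nat_lit 1) (Steps.bwd (nat_lit 3) Steps.nil))) (nat_lit 22) (nat_lit 0),
  Rule.mk (nat_lit 1) (nat_lit 48) (Steps.fwd (nat_lit 10240) (Steps.bwd (nat_lit 1) (Steps.fwd (nat_lit 12288) Steps.nil))) (nat_lit 32) (nat_lit 0),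
  Rule.mk (nat_lit 1) (nat_lit 48) (Steps.fwd (nat_lit 6144) (Steps.bwd (nat_lit 1) (Steps.fwd (nat_lit 6144) Steps.nil))) (nat_lit 23) (nat_lit 1),
  Rule.mk (nat_lit 6) (nat_lit 48) (Steps.bwd (nat_lit 1) (Steps.fwd (nat_lit 12288) (Steps.bwd (nat_lit 1) Steps.nil))) (nat_lit 32) (nat_lit 1),
  Rule.mk (nat_lit 5) (nat_lit 48) (Steps.bwd (nat_lit 1) (Steps.fwd (nat_lit 10240) (Steps.bwd (nat_lit 1) Steps.nil))) (nat_lit 32) (nat_lit 3),
  Rule.mk (nat_lit 1) (nat_lit 48) (Steps.fwd (nat_lit 10240) (Steps.bwd (nat_lit 1) (Steps.bwd (nat_lit 5) Steps.nil))) (nat_lit 32) (nat_lit 0),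
  Rule.mk (nat_lit 3) (nat_lit 61) (Steps.bwd (nat_lit 3) (Steps.bwd (nat_lit 6) (Steps.fwd (nat_lit 6144) (Steps.bwd (nat_lit 5) Steps.nil)))) (nat_lit 37) (nat_lit 1),
  Rule.mk (nat_lit 3) (nat_lit 61) (Steps.bwd (nat_lit 5) (Steps.fwd (nat_lit 6144) (Steps.fwd (nat_lit 6144) (Steps.fwd (nat_lit 10240) Steps.nil)))) (nat_lit 36) (nat_lit 2),
  Rule.mk (nat_lit 6) (nat_lit 48) (Steps.bwd (nat_lit 2) (Steps.fwd (nat_lit 12288) (Steps.bwd (nat_lit 2) Steps.nil))) (nat_lit 34) (nat_lit 1),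
  Rule.mk (nat_lit 6) (nat_lit 61) (Steps.fwd (nat_lit 6144) (Steps.fwd (nat_lit 12288) (Steps.bwd (nat_lit 3) (Steps.bwd (nat_lit 3) Steps.nil)))) (nat_lit 37) (nat_lit 3),
  Rule.mk (nat_lit 1) (nat_lit 48) (Steps.bwd (nat_lit 5) (Steps.bwd (nat_lit 1) (Steps.bwd (nat_lit 6) Steps.nil))) (nat_lit 32) (nat_lit 2),
  Rule.mk (nat_lit 3) (nat_lit 61) (Steps.bwd (nat_lit 5) (Steps.fwd (nat_lit 6144) (Steps.fwd (nat_lit 6144) (Steps.bwd (nat_lit 6) Steps.nil)))) (nat_lit 36) (nat_lit 2),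
  Rule.mk (nat_lit 3) (nat_lit 87) (Steps.bwd (nat_lit 3) (Steps.bwd (nat_lit 3) (Steps.bwd (nat_lit 3) (Steps.fwd (nat_lit 8192) (Steps.bwd (nat_lit 3) (Steps.bwd (nat_lit 3) Steps.nil)))))) (nat_lit 16) (nat_lit 0),
  Rule.mk (nat_lit 5) (nat_lit 61) (Steps.fwd (nat_lit 6144) (Steps.bwd (nat_lit 4) (Steps.fwd (nat_lit 10240) (Steps.bwd (nat_lit 3) Steps.nil)))) (nat_lit 36) (nat_lit 3),
  Rule.mk (nat_lit 3) (nat_lit 87) (Steps.bwd (nat_lit 3) (Steps.bwd (nat_lit 3) (Steps.bwd (nat_lit 3) (Steps.fwd (nat_lit 8192) (Steps.bwd (nat_lit 3) (Steps.fwd (nat_lit 8192) Steps.nil)))))) (nat_lit 16) (nat_lit 0),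
  Rule.mk (nat_lit 5) (nat_lit 61) (Steps.bwd (nat_lit 3) (Steps.fwd (nat_lit 8192) (Steps.fwd (nat_lit 10240) (Steps.bwd (nat_lit 4) Steps.nil)))) (nat_lit 37) (nat_lit 0),
  Rule.mk (nat_lit 2) (nat_lit 113) (Steps.bwd (nat_lit 4) (Steps.bwd (nat_lit 4) (Steps.bwd (nat_lit 2) (Steps.bwd (nat_lit 3) (Steps.bwd (nat_lit 3) (Steps.fwd (nat_lit 8192) (Steps.bwd (nat_lit 2) (Steps.fwd (nat_lit 6144) Steps.nil)))))))) (nat_lit 24) (nat_lit 3),
  Rule.mk (nat_lit 5) (nat_lit 61) (Steps.fwd (nat_lit 8192) (Steps.bwd (nat_lit 3) (Steps.bwd (nat_lit 6) (Steps.fwd (nat_lit 6144) Steps.nil)))) (nat_lit 37) (nat_lit 0),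
  Rule.mk (nat_lit 6) (nat_lit 61) (Steps.fwd (nat_lit 6144) (Steps.bwd (nat_lit 5) (Steps.fwd (nat_lit 8192) (Steps.bwd (nat_lit 3) Steps.nil)))) (nat_lit 37) (nat_lit 3),
  Rule.mk (nat_lit 2) (nat_lit 113) (Steps.bwd (nat_lit 4) (Steps.bwd (nat_lit 4) (Steps.bwd (nat_lit 2) (Steps.bwd (nat_lit 3) (Steps.bwd (nat_lit 3) (Steps.fwd (nat_lit 8192) (Steps.fwd (nat_lit 4096) (Steps.fwd (nat_lit 6144) Steps.nil)))))))) (nat_lit 24) (nat_lit 3),
  Rule.mk (nat_lit 5) (nat_lit 48) (Steps.bwd (nat_lit 2) (Steps.bwd (nat_lit 6) (Steps.bwd (nat_lit 2) Steps.nil))) (nat_lit 34) (nat_lit 3),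
  Rule.mk (nat_lit 4) (nat_lit 113) (Steps.bwd (nat_lit 2) (Steps.bwd (nat_lit 4) (Steps.bwd (nat_lit 4) (Steps.fwd (nat_lit 4096) (Steps.bwd (nat_lit 3) (Steps.bwd (nat_lit 3) (Steps.fwd (nat_lit 8192) (Steps.fwd (nat_lit 4096) Steps.nil)))))))) (nat_lit 24) (nat_lit 2),
  Rule.mk (nat_lit 1) (nat_lit 48) (Steps.bwd (nat_lit 5) (Steps.fwd (nat_lit 2048) (Steps.bwd (nat_lit 6) Steps.nil))) (nat_lit 32) (nat_lit 2),
  Rule.mk (nat_lit 3) (nat_lit 48) (Steps.bwd (nat_lit 1) (Steps.fwd (nat_lit 8192) (Steps.fwd (nat_lit 2048) Steps.nil))) (nat_lit 22) (nat_lit 1),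
  Rule.mk (nat_lit 1) (nat_lit 48) (Steps.fwd (nat_lit 8192) (Steps.fwd (nat_lit 2048) (Steps.bwd (nat_lit 3) Steps.nil))) (nat_lit 22) (nat_lit 0),
  Rule.mk (nat_lit 3) (nat_lit 48) (Steps.bwd (nat_lit 1) (Steps.fwd (nat_lit 8192) (Steps.bwd (nat_lit 1) Steps.nil))) (nat_lit 22) (nat_lit 1),
  Rule.mk (nat_lit 3) (nat_lit 61) (Steps.bwd (nat_lit 5) (Steps.bwd (nat_lit 4) (Steps.fwd (nat_lit 6144) (Steps.bwd (nat_lit 6) Steps.nil)))) (nat_lit 36) (nat_lit 2),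
  Rule.mk (nat_lit 1) (nat_lit 48) (Steps.fwd (nat_lit 8192) (Steps.bwd (nat_lit 1) (Steps.bwd (nat_lit 3) Steps.nil))) (nat_lit 22) (nat_lit 0),
  Rule.mk (nat_lit 1) (nat_lit 48) (Steps.bwd (nat_lit 4) (Steps.bwd (nat_lit 1) (Steps.fwd (nat_lit 6144) Steps.nil))) (nat_lit 23) (nat_lit 1),
  Rule.mk (nat_lit 4) (nat_lit 113) (Steps.bwd (nat_lit 2) (Steps.bwd (nat_lit 3) (Steps.bwd (nat_lit 3) (Steps.fwd (nat_lit 8192) (Steps.fwd (nat_lit 4096) (Steps.fwd (nat_lit 6144) (Steps.fwd (nat_lit 4096) (Steps.bwd (nat_lit 4) Steps.nil)))))))) (nat_lit 24) (nat_lit 7),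
  Rule.mk (nat_lit 2) (nat_lit 74) (Steps.bwd (nat_lit 1) (Steps.bwd (nat_lit 2) (Steps.bwd (nat_lit 1) (Steps.fwd (nat_lit 4096) (Steps.fwd (nat_lit 2048) Steps.nil))))) (nat_lit 14) (nat_lit 0),
  Rule.mk (nat_lit 2) (nat_lit 113) (Steps.bwd (nat_lit 4) (Steps.bwd (nat_lit 4) (Steps.bwd (nat_lit 2) (Steps.bwd (nat_lit 3) (Steps.bwd (nat_lit 3) (Steps.bwd (nat_lit 3) (Steps.bwd (nat_lit 2) (Steps.bwd (nat_lit 4) Steps.nil)))))))) (nat_lit 24) (nat_lit 3)]
noncomputable def R_1 : List (Rule) := [Rule.mk (nat_lit 5) (nat_lit 48) (Steps.bwd (nat_lit 2) (Steps.fwd (nat_lit 10240) (Steps.fwd (nat_lit 4096) Steps.nil))) (nat_lit 34) (nat_lit 3),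
  Rule.mk (nat_lit 6) (nat_lit 61) (Steps.bwd (nat_lit 4) (Steps.bwd (nat_lit 5) (Steps.fwd (nat_lit 8192) (Steps.fwd (nat_lit 8192) Steps.nil)))) (nat_lit 37) (nat_lit 3),
  Rule.mk (nat_lit 2) (nat_lit 74) (Steps.bwd (nat_lit 1) (Steps.bwd (nat_lit 2) (Steps.bwd (nat_lit 1) (Steps.bwd (nat_lit 2) (Steps.bwd (nat_lit 1) Steps.nil))))) (nat_lit 14) (nat_lit 0),
  Rule.mk (nat_lit 6) (nat_lit 61) (Steps.bwd (nat_lit 4) (Steps.fwd (nat_lit 12288) (Steps.fwd (nat_lit 8192) (Steps.fwd (nat_lit 8192) Steps.nil)))) (nat_lit 37) (nat_lit 3),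
  Rule.mk (nat_lit 2) (nat_lit 113) (Steps.bwd (nat_lit 4) (Steps.bwd (nat_lit 2) (Steps.bwd (nat_lit 4) (Steps.fwd (nat_lit 6144) (Steps.fwd (nat_lit 4096) (Steps.bwd (nat_lit 3) (Steps.fwd (nat_lit 8192) (Steps.bwd (nat_lit 3) Steps.nil)))))))) (nat_lit 24) (nat_lit 1),
  Rule.mk (nat_lit 2) (nat_lit 48) (Steps.bwd (nat_lit 5) (Steps.bwd (nat_lit 2) (Steps.bwd (nat_lit 6) Steps.nil))) (nat_lit 34) (nat_lit 2),
  Rule.mk (nat_lit 1) (nat_lit 74) (Steps.bwd (nat_lit 2) (Steps.bwd (nat_lit 1) (Steps.bwd (nat_lit 2) (Steps.fwd (nat_lit 2048) (Steps.fwd (nat_lit 4096) Steps.nil))))) (nat_lit 14) (nat_lit 1),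
  Rule.mk (nat_lit 4) (nat_lit 113) (Steps.bwd (nat_lit 2) (Steps.bwd (nat_lit 4) (Steps.bwd (nat_lit 4) (Steps.fwd (nat_lit 4096) (Steps.fwd (nat_lit 8192) (Steps.bwd (nat_lit 3) (Steps.bwd (nat_lit 3) (Steps.fwd (nat_lit 4096) Steps.nil)))))))) (nat_lit 24) (nat_lit 2),
  Rule.mk (nat_lit 5) (nat_lit 61) (Steps.bwd (nat_lit 4) (Steps.bwd (nat_lit 4) (Steps.bwd (nat_lit 6) (Steps.fwd (nat_lit 8192) Steps.nil)))) (nat_lit 36) (nat_lit 3),
  Rule.mk (nat_lit 1) (nat_lit 74) (Steps.bwd (nat_lit 2) (Steps.bwd (nat_lit 1) (Steps.bwd (nat_lit 2) (Steps.bwd (nat_lit 1) (Steps.fwd (nat_lit 4096) Steps.nil))))) (nat_lit 14) (nat_lit 1),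
  Rule.mk (nat_lit 4) (nat_lit 113) (Steps.bwd (nat_lit 2) (Steps.bwd (nat_lit 4) (Steps.fwd (nat_lit 6144) (Steps.bwd (nat_lit 2) (Steps.bwd (nat_lit 3) (Steps.fwd (nat_lit 8192) (Steps.bwd (nat_lit 3) (Steps.fwd (nat_lit 4096) Steps.nil)))))))) (nat_lit 24) (nat_lit 2),
  Rule.mk (nat_lit 2) (nat_lit 48) (Steps.bwd (nat_lit 6) (Steps.fwd (nat_lit 4096) (Steps.bwd (nat_lit 5) Steps.nil))) (nat_lit 34) (nat_lit 0),
  Rule.mk (nat_lit 1) (nat_lit 48) (Steps.bwd (nat_lit 3) (Steps.bwd (nat_lit 1) (Steps.fwd (nat_lit 8192) Steps.nil))) (nat_lit 22) (nat_lit 0),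
  Rule.mk (nat_lit 3) (nat_lit 61) (Steps.bwd (nat_lit 5) (Steps.bwd (nat_lit 4) (Steps.bwd (nat_lit 4) (Steps.fwd (nat_lit 10240) Steps.nil)))) (nat_lit 36) (nat_lit 2),
  Rule.mk (nat_lit 2) (nat_lit 113) (Steps.fwd (nat_lit 6144) (Steps.bwd (nat_lit 4) (Steps.fwd (nat_lit 6144) (Steps.fwd (nat_lit 4096) (Steps.bwd (nat_lit 3) (Steps.fwd (nat_lit 8192) (Steps.bwd (nat_lit 2) (Steps.bwd (nat_lit 3) Steps.nil)))))))) (nat_lit 25) (nat_lit 0),
  Rule.mk (nat_lit 3) (nat_lit 87) (Steps.bwd (nat_lit 3) (Steps.bwd (nat_lit 3) (Steps.bwd (nat_lit 3) (Steps.fwd (nat_lit 8192) (Steps.fwd (nat_lit 8192) (Steps.fwd (nat_lit 8192) Steps.nil)))))) (nat_lit 16) (nat_lit 0),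
  Rule.mk (nat_lit 2) (nat_lit 113) (Steps.bwd (nat_lit 4) (Steps.fwd (nat_lit 4096) (Steps.fwd (nat_lit 6144) (Steps.fwd (nat_lit 6144) (Steps.fwd (nat_lit 4096) (Steps.fwd (nat_lit 8192) (Steps.fwd (nat_lit 8192) (Steps.bwd (nat_lit 3) Steps.nil)))))))) (nat_lit 24) (nat_lit 1),
  Rule.mk (nat_lit 4) (nat_lit 113) (Steps.bwd (nat_lit 2) (Steps.bwd (nat_lit 3) (Steps.bwd (nat_lit 3) (Steps.fwd (nat_lit 8192) (Steps.bwd (nat_lit 2) (Steps.fwd (nat_lit 6144) (Steps.fwd (nat_lit 4096) (Steps.bwd (nat_lit 4) Steps.nil)))))))) (nat_lit 24) (nat_lit 7),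
  Rule.mk (nat_lit 1) (nat_lit 48) (Steps.bwd (nat_lit 3) (Steps.fwd (nat_lit 2048) (Steps.fwd (nat_lit 8192) Steps.nil))) (nat_lit 22) (nat_lit 0),
  Rule.mk (nat_lit 3) (nat_lit 113) (Steps.bwd (nat_lit 2) (Steps.bwd (nat_lit 4) (Steps.bwd (nat_lit 2) (Steps.fwd (nat_lit 6144) (Steps.fwd (nat_lit 6144) (Steps.fwd (nat_lit 4096) (Steps.fwd (nat_lit 8192) (Steps.fwd (nat_lit 8192) Steps.nil)))))))) (nat_lit 24) (nat_lit 0),
  Rule.mk (nat_lit 3) (nat_lit 61) (Steps.bwd (nat_lit 5) (Steps.fwd (nat_lit 6144) (Steps.bwd (nat_lit 4) (Steps.fwd (nat_lit 10240) Steps.nil)))) (nat_lit 36) (nat_lit 2),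
  Rule.mk (nat_lit 4) (nat_lit 113) (Steps.bwd (nat_lit 4) (Steps.bwd (nat_lit 2) (Steps.bwd (nat_lit 3) (Steps.fwd (nat_lit 8192) (Steps.fwd (nat_lit 8192) (Steps.fwd (nat_lit 4096) (Steps.fwd (nat_lit 6144) (Steps.fwd (nat_lit 4096) Steps.nil)))))))) (nat_lit 24) (nat_lit 6),
  Rule.mk (nat_lit 6) (nat_lit 61) (Steps.fwd (nat_lit 8192) (Steps.bwd (nat_lit 5) (Steps.bwd (nat_lit 4) (Steps.bwd (nat_lit 4) Steps.nil)))) (nat_lit 36) (nat_lit 1),
  Rule.mk (nat_lit 3) (nat_lit 48) (Steps.fwd (nat_lit 2048) (Steps.bwd (nat_lit 3) (Steps.bwd (nat_lit 1) Steps.nil))) (nat_lit 22) (nat_lit 1),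
  Rule.mk (nat_lit 2) (nat_lit 113) (Steps.bwd (nat_lit 4) (Steps.bwd (nat_lit 4) (Steps.fwd (nat_lit 4096) (Steps.fwd (nat_lit 8192) (Steps.fwd (nat_lit 8192) (Steps.fwd (nat_lit 8192) (Steps.fwd (nat_lit 4096) (Steps.fwd (nat_lit 6144) Steps.nil)))))))) (nat_lit 24) (nat_lit 3),
  Rule.mk (nat_lit 6) (nat_lit 48) (Steps.fwd (nat_lit 4096) (Steps.bwd (nat_lit 5) (Steps.bwd (nat_lit 2) Steps.nil))) (nat_lit 34) (nat_lit 1),
  Rule.mk (nat_lit 2) (nat_lit 48) (Steps.fwd (nat_lit 10240) (Steps.fwd (nat_lit 4096) (Steps.bwd (nat_lit 5) Steps.nil))) (nat_lit 34) (nat_lit 0),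
  Rule.mk (nat_lit 3) (nat_lit 61) (Steps.fwd (nat_lit 8192) (Steps.bwd (nat_lit 6) (Steps.bwd (nat_lit 4) (Steps.bwd (nat_lit 5) Steps.nil)))) (nat_lit 37) (nat_lit 1),
  Rule.mk (nat_lit 3) (nat_lit 61) (Steps.fwd (nat_lit 10240) (Steps.fwd (nat_lit 6144) (Steps.fwd (nat_lit 12288) (Steps.bwd (nat_lit 3) Steps.nil)))) (nat_lit 37) (nat_lit 2),
  Rule.mk (nat_lit 5) (nat_lit 61) (Steps.bwd (nat_lit 3) (Steps.bwd (nat_lit 3) (Steps.bwd (nat_lit 6) (Steps.fwd (nat_lit 6144) Steps.nil)))) (nat_lit 37) (nat_lit 0),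
  Rule.mk (nat_lit 4) (nat_lit 113) (Steps.bwd (nat_lit 2) (Steps.bwd (nat_lit 4) (Steps.bwd (nat_lit 4) (Steps.fwd (nat_lit 4096) (Steps.bwd (nat_lit 3) (Steps.bwd (nat_lit 3) (Steps.bwd (nat_lit 3) (Steps.bwd (nat_lit 2) Steps.nil)))))))) (nat_lit 24) (nat_lit 2),
  Rule.mk (nat_lit 5) (nat_lit 61) (Steps.bwd (nat_lit 4) (Steps.fwd (nat_lit 6144) (Steps.bwd (nat_lit 6) (Steps.bwd (nat_lit 3) Steps.nil)))) (nat_lit 36) (nat_lit 3),
  Rule.mk (nat_lit 1) (nat_lit 48) (Steps.bwd (nat_lit 6) (Steps.fwd (nat_lit 2048) (Steps.bwd (nat_lit 5) Steps.nil))) (nat_lit 32) (nat_lit 0),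
  Rule.mk (nat_lit 3) (nat_lit 61) (Steps.bwd (nat_lit 3) (Steps.fwd (nat_lit 10240) (Steps.bwd (nat_lit 4) (Steps.bwd (nat_lit 5) Steps.nil)))) (nat_lit 37) (nat_lit 1),
  Rule.mk (nat_lit 5) (nat_lit 48) (Steps.bwd (nat_lit 2) (Steps.fwd (nat_lit 10240) (Steps.bwd (nat_lit 2) Steps.nil))) (nat_lit 34) (nat_lit 3),
  Rule.mk (nat_lit 5) (nat_lit 61) (Steps.fwd (nat_lit 8192) (Steps.fwd (nat_lit 8192) (Steps.bwd (nat_lit 6) (Steps.bwd (nat_lit 4) Steps.nil)))) (nat_lit 37) (nat_lit 0),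
  Rule.mk (nat_lit 2) (nat_lit 74) (Steps.bwd (nat_lit 1) (Steps.bwd (nat_lit 2) (Steps.fwd (nat_lit 2048) (Steps.fwd (nat_lit 4096) (Steps.fwd (nat_lit 2048) Steps.nil))))) (nat_lit 14) (nat_lit 0),
  Rule.mk (nat_lit 4) (nat_lit 113) (Steps.bwd (nat_lit 2) (Steps.bwd (nat_lit 4) (Steps.bwd (nat_lit 4) (Steps.fwd (nat_lit 4096) (Steps.bwd (nat_lit 3) (Steps.bwd (nat_lit 3) (Steps.fwd (nat_lit 8192) (Steps.bwd (nat_lit 2) Steps.nil)))))))) (nat_lit 24) (nat_lit 2),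
  Rule.mk (nat_lit 6) (nat_lit 48) (Steps.fwd (nat_lit 4096) (Steps.bwd (nat_lit 5) (Steps.fwd (nat_lit 4096) Steps.nil))) (nat_lit 34) (nat_lit 1),
  Rule.mk (nat_lit 4) (nat_lit 113) (Steps.fwd (nat_lit 4096) (Steps.bwd (nat_lit 3) (Steps.bwd (nat_lit 3) (Steps.fwd (nat_lit 8192) (Steps.fwd (nat_lit 4096) (Steps.bwd (nat_lit 4) (Steps.bwd (nat_lit 2) (Steps.bwd (nat_lit 4) Steps.nil)))))))) (nat_lit 24) (nat_lit 7),
  Rule.mk (nat_lit 0) (nat_lit 74) (Steps.fwd (nat_lit 6144) (Steps.bwd (nat_lit 5) (Steps.bwd (nat_lit 3) (Steps.bwd (nat_lit 3) (Steps.fwd (nat_lit 10240) Steps.nil))))) (nat_lit 37) (nat_lit 3),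
  Rule.mk (nat_lit 3) (nat_lit 35) (Steps.bwd (nat_lit 0) (Steps.fwd (nat_lit 6144) Steps.nil)) (nat_lit 230) (nat_lit 0),
  Rule.mk (nat_lit 4) (nat_lit 35) (Steps.bwd (nat_lit 0) (Steps.bwd (nat_lit 3) Steps.nil)) (nat_lit 230) (nat_lit 0),
  Rule.mk (nat_lit 1) (nat_lit 48) (Steps.bwd (nat_lit 4) (Steps.fwd (nat_lit 2048) (Steps.fwd (nat_lit 6144) Steps.nil))) (nat_lit 23) (nat_lit 1),
  Rule.mk (nat_lit 6) (nat_lit 61) (Steps.bwd (nat_lit 4) (Steps.bwd (nat_lit 5) (Steps.fwd (nat_lit 8192) (Steps.bwd (nat_lit 3) Steps.nil)))) (nat_lit 37) (nat_lit 3),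
  Rule.mk (nat_lit 4) (nat_lit 113) (Steps.bwd (nat_lit 2) (Steps.bwd (nat_lit 4) (Steps.bwd (nat_lit 4) (Steps.bwd (nat_lit 2) (Steps.fwd (nat_lit 8192) (Steps.bwd (nat_lit 3) (Steps.bwd (nat_lit 3) (Steps.fwd (nat_lit 4096) Steps.nil)))))))) (nat_lit 24) (nat_lit 2),
  Rule.mk (nat_lit 1) (nat_lit 48) (Steps.fwd (nat_lit 6144) (Steps.bwd (nat_lit 1) (Steps.bwd (nat_lit 4) Steps.nil))) (nat_lit 23) (nat_lit 1),
  Rule.mk (nat_lit 5) (nat_lit 61) (Steps.bwd (nat_lit 3) (Steps.fwd (nat_lit 8192) (Steps.bwd (nat_lit 6) (Steps.bwd (nat_lit 4) Steps.nil)))) (nat_lit 37) (nat_lit 0),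
  Rule.mk (nat_lit 6) (nat_lit 48) (Steps.bwd (nat_lit 2) (Steps.bwd (nat_lit 5) (Steps.fwd (nat_lit 4096) Steps.nil))) (nat_lit 34) (nat_lit 1),
  Rule.mk (nat_lit 5) (nat_lit 48) (Steps.fwd (nat_lit 2048) (Steps.bwd (nat_lit 6) (Steps.fwd (nat_lit 2048) Steps.nil))) (nat_lit 32) (nat_lit 3),
  Rule.mk (nat_lit 4) (nat_lit 113) (Steps.bwd (nat_lit 2) (Steps.bwd (nat_lit 3) (Steps.bwd (nat_lit 3) (Steps.fwd (nat_lit 8192) (Steps.fwd (nat_lit 4096) (Steps.fwd (nat_lit 6144) (Steps.bwd (nat_lit 2) (Steps.bwd (nat_lit 4) Steps.nil)))))))) (nat_lit 24) (nat_lit 7),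
  Rule.mk (nat_lit 2) (nat_lit 113) (Steps.bwd (nat_lit 4) (Steps.bwd (nat_lit 4) (Steps.fwd (nat_lit 4096) (Steps.bwd (nat_lit 3) (Steps.bwd (nat_lit 3) (Steps.bwd (nat_lit 3) (Steps.bwd (nat_lit 2) (Steps.bwd (nat_lit 4) Steps.nil)))))))) (nat_lit 24) (nat_lit 3),
  Rule.mk (nat_lit 5) (nat_lit 61) (Steps.bwd (nat_lit 4) (Steps.bwd (nat_lit 4) (Steps.fwd (nat_lit 10240) (Steps.fwd (nat_lit 8192) Steps.nil)))) (nat_lit 36) (nat_lit 3),
  Rule.mk (nat_lit 4) (nat_lit 113) (Steps.bwd (nat_lit 2) (Steps.fwd (nat_lit 6144) (Steps.fwd (nat_lit 6144) (Steps.fwd (nat_lit 4096) (Steps.bwd (nat_lit 3) (Steps.bwd (nat_lit 3) (Steps.bwd (nat_lit 3) (Steps.fwd (nat_lit 4096) Steps.nil)))))))) (nat_lit 24) (nat_lit 2),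
  Rule.mk (nat_lit 5) (nat_lit 61) (Steps.fwd (nat_lit 8192) (Steps.fwd (nat_lit 8192) (Steps.fwd (nat_lit 10240) (Steps.bwd (nat_lit 4) Steps.nil)))) (nat_lit 37) (nat_lit 0),
  Rule.mk (nat_lit 1) (nat_lit 74) (Steps.bwd (nat_lit 2) (Steps.bwd (nat_lit 1) (Steps.bwd (nat_lit 2) (Steps.bwd (nat_lit 1) (Steps.bwd (nat_lit 2) Steps.nil))))) (nat_lit 14) (nat_lit 1),
  Rule.mk (nat_lit 1) (nat_lit 74) (Steps.bwd (nat_lit 2) (Steps.bwd (nat_lit 1) (Steps.fwd (nat_lit 4096) (Steps.fwd (nat_lit 2048) (Steps.fwd (nat_lit 4096) Steps.nil))))) (nat_lit 14) (nat_lit 1),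
  Rule.mk (nat_lit 5) (nat_lit 48) (Steps.fwd (nat_lit 2048) (Steps.bwd (nat_lit 6) (Steps.bwd (nat_lit 1) Steps.nil))) (nat_lit 32) (nat_lit 3),
  Rule.mk (nat_lit 4) (nat_lit 113) (Steps.bwd (nat_lit 2) (Steps.bwd (nat_lit 4) (Steps.fwd (nat_lit 6144) (Steps.fwd (nat_lit 4096) (Steps.bwd (nat_lit 3) (Steps.fwd (nat_lit 8192) (Steps.bwd (nat_lit 3) (Steps.bwd (nat_lit 2) Steps.nil)))))))) (nat_lit 24) (nat_lit 2),
  Rule.mk (nat_lit 6) (nat_lit 48) (Steps.fwd (nat_lit 2048) (Steps.fwd (nat_lit 12288) (Steps.bwd (nat_lit 1) Steps.nil))) (nat_lit 32) (nat_lit 1),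
  Rule.mk (nat_lit 6) (nat_lit 48) (Steps.bwd (nat_lit 2) (Steps.fwd (nat_lit 12288) (Steps.fwd (nat_lit 4096) Steps.nil))) (nat_lit 34) (nat_lit 1),
  Rule.mk (nat_lit 5) (nat_lit 61) (Steps.bwd (nat_lit 4) (Steps.bwd (nat_lit 4) (Steps.bwd (nat_lit 6) (Steps.bwd (nat_lit 3) Steps.nil)))) (nat_lit 36) (nat_lit 3),
  Rule.mk (nat_lit 6) (nat_lit 61) (Steps.fwd (nat_lit 6144) (Steps.bwd (nat_lit 5) (Steps.fwd (nat_lit 8192) (Steps.fwd (nat_lit 8192) Steps.nil)))) (nat_lit 37) (nat_lit 3),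
  Rule.mk (nat_lit 4) (nat_lit 113) (Steps.bwd (nat_lit 2) (Steps.bwd (nat_lit 3) (Steps.bwd (nat_lit 3) (Steps.fwd (nat_lit 8192) (Steps.bwd (nat_lit 2) (Steps.fwd (nat_lit 6144) (Steps.bwd (nat_lit 2) (Steps.bwd (nat_lit 4) Steps.nil)))))))) (nat_lit 24) (nat_lit 7)]
noncomputable def R_2 : List (Rule) := [Rule.mk (nat_lit 4) (nat_lit 61) (Steps.bwd (nat_lit 6) (Steps.fwd (nat_lit 8192) (Steps.bwd (nat_lit 5) (Steps.bwd (nat_lit 4) Steps.nil)))) (nat_lit 36) (nat_lit 0),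
  Rule.mk (nat_lit 4) (nat_lit 61) (Steps.fwd (nat_lit 10240) (Steps.bwd (nat_lit 3) (Steps.bwd (nat_lit 5) (Steps.bwd (nat_lit 4) Steps.nil)))) (nat_lit 36) (nat_lit 0),
  Rule.mk (nat_lit 5) (nat_lit 35) (Steps.bwd (nat_lit 5) (Steps.fwd (nat_lit 12288) Steps.nil)) (nat_lit 26) (nat_lit 0),
  Rule.mk (nat_lit 6) (nat_lit 61) (Steps.bwd (nat_lit 4) (Steps.fwd (nat_lit 12288) (Steps.bwd (nat_lit 3) (Steps.bwd (nat_lit 3) Steps.nil)))) (nat_lit 37) (nat_lit 3),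
  Rule.mk (nat_lit 3) (nat_lit 113) (Steps.fwd (nat_lit 8192) (Steps.fwd (nat_lit 8192) (Steps.fwd (nat_lit 4096) (Steps.fwd (nat_lit 6144) (Steps.bwd (nat_lit 2) (Steps.bwd (nat_lit 4) (Steps.fwd (nat_lit 6144) (Steps.bwd (nat_lit 2) Steps.nil)))))))) (nat_lit 24) (nat_lit 9),
  Rule.mk (nat_lit 6) (nat_lit 61) (Steps.fwd (nat_lit 8192) (Steps.bwd (nat_lit 5) (Steps.fwd (nat_lit 6144) (Steps.bwd (nat_lit 4) Steps.nil)))) (nat_lit 36) (nat_lit 1),
  Rule.mk (nat_lit 4) (nat_lit 61) (Steps.fwd (nat_lit 10240) (Steps.fwd (nat_lit 8192) (Steps.fwd (nat_lit 12288) (Steps.bwd (nat_lit 4) Steps.nil)))) (nat_lit 36) (nat_lit 0),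
  Rule.mk (nat_lit 1) (nat_lit 48) (Steps.fwd (nat_lit 10240) (Steps.fwd (nat_lit 2048) (Steps.bwd (nat_lit 5) Steps.nil))) (nat_lit 32) (nat_lit 0),
  Rule.mk (nat_lit 0) (nat_lit 74) (Steps.fwd (nat_lit 6144) (Steps.fwd (nat_lit 6144) (Steps.fwd (nat_lit 10240) (Steps.fwd (nat_lit 8192) (Steps.fwd (nat_lit 12288) Steps.nil))))) (nat_lit 36) (nat_lit 3),
  Rule.mk (nat_lit 6) (nat_lit 61) (Steps.bwd (nat_lit 3) (Steps.fwd (nat_lit 12288) (Steps.fwd (nat_lit 6144) (Steps.bwd (nat_lit 4) Steps.nil)))) (nat_lit 36) (nat_lit 1),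
  Rule.mk (nat_lit 1) (nat_lit 48) (Steps.bwd (nat_lit 6) (Steps.fwd (nat_lit 2048) (Steps.fwd (nat_lit 12288) Steps.nil))) (nat_lit 32) (nat_lit 0),
  Rule.mk (nat_lit 6) (nat_lit 48) (Steps.bwd (nat_lit 1) (Steps.bwd (nat_lit 5) (Steps.fwd (nat_lit 2048) Steps.nil))) (nat_lit 32) (nat_lit 1),
  Rule.mk (nat_lit 5) (nat_lit 48) (Steps.fwd (nat_lit 2048) (Steps.fwd (nat_lit 10240) (Steps.bwd (nat_lit 1) Steps.nil))) (nat_lit 32) (nat_lit 3),
  Rule.mk (nat_lit 0) (nat_lit 61) (Steps.fwd (nat_lit 4096) (Steps.bwd (nat_lit 5) (Steps.fwd (nat_lit 4096) (Steps.fwd (nat_lit 10240) Steps.nil)))) (nat_lit 34) (nat_lit 1),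
  Rule.mk (nat_lit 2) (nat_lit 35) (Steps.bwd (nat_lit 0) (Steps.fwd (nat_lit 4096) Steps.nil)) (nat_lit 230) (nat_lit 0),
  Rule.mk (nat_lit 3) (nat_lit 35) (Steps.bwd (nat_lit 0) (Steps.bwd (nat_lit 4) Steps.nil)) (nat_lit 230) (nat_lit 0),
  Rule.mk (nat_lit 6) (nat_lit 61) (Steps.fwd (nat_lit 8192) (Steps.fwd (nat_lit 12288) (Steps.bwd (nat_lit 4) (Steps.bwd (nat_lit 4) Steps.nil)))) (nat_lit 36) (nat_lit 1),
  Rule.mk (nat_lit 4) (nat_lit 61) (Steps.fwd (nat_lit 6144) (Steps.bwd (nat_lit 6) (Steps.fwd (nat_lit 8192) (Steps.bwd (nat_lit 5) Steps.nil)))) (nat_lit 36) (nat_lit 4),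
  Rule.mk (nat_lit 4) (nat_lit 113) (Steps.fwd (nat_lit 4096) (Steps.fwd (nat_lit 6144) (Steps.fwd (nat_lit 6144) (Steps.bwd (nat_lit 2) (Steps.fwd (nat_lit 8192) (Steps.bwd (nat_lit 3) (Steps.fwd (nat_lit 8192) (Steps.bwd (nat_lit 2) Steps.nil)))))))) (nat_lit 24) (nat_lit 2),
  Rule.mk (nat_lit 3) (nat_lit 113) (Steps.bwd (nat_lit 2) (Steps.bwd (nat_lit 4) (Steps.bwd (nat_lit 4) (Steps.bwd (nat_lit 4) (Steps.bwd (nat_lit 2) (Steps.bwd (nat_lit 3) (Steps.fwd (nat_lit 8192) (Steps.bwd (nat_lit 2) Steps.nil)))))))) (nat_lit 25) (nat_lit 10),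
  Rule.mk (nat_lit 4) (nat_lit 61) (Steps.fwd (nat_lit 10240) (Steps.bwd (nat_lit 3) (Steps.bwd (nat_lit 5) (Steps.fwd (nat_lit 6144) Steps.nil)))) (nat_lit 36) (nat_lit 0),
  Rule.mk (nat_lit 3) (nat_lit 61) (Steps.bwd (nat_lit 6) (Steps.bwd (nat_lit 4) (Steps.bwd (nat_lit 5) (Steps.bwd (nat_lit 3) Steps.nil)))) (nat_lit 37) (nat_lit 2),
  Rule.mk (nat_lit 4) (nat_lit 113) (Steps.bwd (nat_lit 4) (Steps.bwd (nat_lit 2) (Steps.bwd (nat_lit 3) (Steps.fwd (nat_lit 8192) (Steps.fwd (nat_lit 8192) (Steps.fwd (nat_lit 4096) (Steps.bwd (nat_lit 4) (Steps.fwd (nat_lit 4096) Steps.nil)))))))) (nat_lit 24) (nat_lit 6),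
  Rule.mk (nat_lit 5) (nat_lit 48) (Steps.bwd (nat_lit 2) (Steps.bwd (nat_lit 6) (Steps.fwd (nat_lit 4096) Steps.nil))) (nat_lit 34) (nat_lit 3),
  Rule.mk (nat_lit 4) (nat_lit 113) (Steps.bwd (nat_lit 4) (Steps.fwd (nat_lit 4096) (Steps.fwd (nat_lit 8192) (Steps.fwd (nat_lit 8192) (Steps.fwd (nat_lit 8192) (Steps.fwd (nat_lit 4096) (Steps.fwd (nat_lit 6144) (Steps.bwd (nat_lit 2) Steps.nil)))))))) (nat_lit 24) (nat_lit 6),
  Rule.mk (nat_lit 6) (nat_lit 61) (Steps.bwd (nat_lit 3) (Steps.fwd (nat_lit 12288) (Steps.bwd (nat_lit 4) (Steps.bwd (nat_lit 4) Steps.nil)))) (nat_lit 36) (nat_lit 1),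
  Rule.mk (nat_lit 5) (nat_lit 61) (Steps.fwd (nat_lit 8192) (Steps.bwd (nat_lit 3) (Steps.fwd (nat_lit 10240) (Steps.bwd (nat_lit 4) Steps.nil)))) (nat_lit 37) (nat_lit 0),
  Rule.mk (nat_lit 4) (nat_lit 113) (Steps.bwd (nat_lit 2) (Steps.bwd (nat_lit 4) (Steps.bwd (nat_lit 4) (Steps.bwd (nat_lit 2) (Steps.bwd (nat_lit 3) (Steps.bwd (nat_lit 3) (Steps.fwd (nat_lit 8192) (Steps.bwd (nat_lit 2) Steps.nil)))))))) (nat_lit 24) (nat_lit 2),
  Rule.mk (nat_lit 2) (nat_lit 113) (Steps.bwd (nat_lit 4) (Steps.fwd (nat_lit 4096) (Steps.bwd (nat_lit 4) (Steps.fwd (nat_lit 6144) (Steps.bwd (nat_lit 2) (Steps.bwd (nat_lit 3) (Steps.fwd (nat_lit 8192) (Steps.bwd (nat_lit 3) Steps.nil)))))))) (nat_lit 24) (nat_lit 1),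
  Rule.mk (nat_lit 4) (nat_lit 113) (Steps.bwd (nat_lit 2) (Steps.bwd (nat_lit 4) (Steps.fwd (nat_lit 6144) (Steps.fwd (nat_lit 4096) (Steps.bwd (nat_lit 3) (Steps.fwd (nat_lit 8192) (Steps.bwd (nat_lit 3) (Steps.fwd (nat_lit 4096) Steps.nil)))))))) (nat_lit 24) (nat_lit 2),
  Rule.mk (nat_lit 2) (nat_lit 113) (Steps.bwd (nat_lit 4) (Steps.bwd (nat_lit 2) (Steps.fwd (nat_lit 6144) (Steps.fwd (nat_lit 6144) (Steps.fwd (nat_lit 4096) (Steps.fwd (nat_lit 8192) (Steps.fwd (nat_lit 8192) (Steps.bwd (nat_lit 3) Steps.nil)))))))) (nat_lit 24) (nat_lit 1),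
  Rule.mk (nat_lit 3) (nat_lit 113) (Steps.bwd (nat_lit 2) (Steps.bwd (nat_lit 4) (Steps.bwd (nat_lit 2) (Steps.fwd (nat_lit 6144) (Steps.fwd (nat_lit 6144) (Steps.bwd (nat_lit 2) (Steps.fwd (nat_lit 8192) (Steps.fwd (nat_lit 8192) Steps.nil)))))))) (nat_lit 24) (nat_lit 0),
  Rule.mk (nat_lit 2) (nat_lit 48) (Steps.fwd (nat_lit 10240) (Steps.bwd (nat_lit 2) (Steps.bwd (nat_lit 5) Steps.nil))) (nat_lit 34) (nat_lit 0),
  Rule.mk (nat_lit 3) (nat_lit 87) (Steps.bwd (nat_lit 3) (Steps.bwd (nat_lit 3) (Steps.fwd (nat_lit 8192) (Steps.fwd (nat_lit 8192) (Steps.fwd (nat_lit 8192) (Steps.fwd (nat_lit 8192) Steps.nil)))))) (nat_lit 16) (nat_lit 0),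
  Rule.mk (nat_lit 2) (nat_lit 113) (Steps.bwd (nat_lit 4) (Steps.bwd (nat_lit 2) (Steps.fwd (nat_lit 6144) (Steps.fwd (nat_lit 6144) (Steps.bwd (nat_lit 2) (Steps.fwd (nat_lit 8192) (Steps.bwd (nat_lit 3) (Steps.bwd (nat_lit 3) Steps.nil)))))))) (nat_lit 24) (nat_lit 1),
  Rule.mk (nat_lit 2) (nat_lit 113) (Steps.bwd (nat_lit 4) (Steps.fwd (nat_lit 4096) (Steps.fwd (nat_lit 6144) (Steps.fwd (nat_lit 6144) (Steps.bwd (nat_lit 2) (Steps.fwd (nat_lit 8192) (Steps.fwd (nat_lit 8192) (Steps.bwd (nat_lit 3) Steps.nil)))))))) (nat_lit 24) (nat_lit 1),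
  Rule.mk (nat_lit 4) (nat_lit 113) (Steps.bwd (nat_lit 4) (Steps.fwd (nat_lit 4096) (Steps.bwd (nat_lit 3) (Steps.bwd (nat_lit 3) (Steps.fwd (nat_lit 8192) (Steps.fwd (nat_lit 4096) (Steps.fwd (nat_lit 6144) (Steps.bwd (nat_lit 2) Steps.nil)))))))) (nat_lit 24) (nat_lit 6),
  Rule.mk (nat_lit 3) (nat_lit 113) (Steps.fwd (nat_lit 8192) (Steps.fwd (nat_lit 4096) (Steps.fwd (nat_lit 8192) (Steps.bwd (nat_lit 2) (Steps.bwd (nat_lit 4) (Steps.bwd (nat_lit 4) (Steps.fwd (nat_lit 6144) (Steps.bwd (nat_lit 2) Steps.nil)))))))) (nat_lit 25) (nat_lit 5),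
  Rule.mk (nat_lit 1) (nat_lit 48) (Steps.bwd (nat_lit 4) (Steps.bwd (nat_lit 1) (Steps.bwd (nat_lit 4) Steps.nil))) (nat_lit 23) (nat_lit 1),
  Rule.mk (nat_lit 5) (nat_lit 48) (Steps.bwd (nat_lit 1) (Steps.bwd (nat_lit 6) (Steps.bwd (nat_lit 1) Steps.nil))) (nat_lit 32) (nat_lit 3),
  Rule.mk (nat_lit 4) (nat_lit 113) (Steps.bwd (nat_lit 2) (Steps.bwd (nat_lit 3) (Steps.fwd (nat_lit 8192) (Steps.fwd (nat_lit 8192) (Steps.bwd (nat_lit 2) (Steps.fwd (nat_lit 6144) (Steps.bwd (nat_lit 2) (Steps.bwd (nat_lit 4) Steps.nil)))))))) (nat_lit 24) (nat_lit 7),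
  Rule.mk (nat_lit 3) (nat_lit 61) (Steps.fwd (nat_lit 8192) (Steps.bwd (nat_lit 6) (Steps.fwd (nat_lit 6144) (Steps.bwd (nat_lit 5) Steps.nil)))) (nat_lit 37) (nat_lit 1),
  Rule.mk (nat_lit 3) (nat_lit 48) (Steps.fwd (nat_lit 2048) (Steps.fwd (nat_lit 8192) (Steps.bwd (nat_lit 1) Steps.nil))) (nat_lit 22) (nat_lit 1),
  Rule.mk (nat_lit 3) (nat_lit 87) (Steps.bwd (nat_lit 3) (Steps.fwd (nat_lit 8192) (Steps.fwd (nat_lit 8192) (Steps.fwd (nat_lit 8192) (Steps.fwd (nat_lit 8192) (Steps.fwd (nat_lit 8192) Steps.nil)))))) (nat_lit 16) (nat_lit 0),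
  Rule.mk (nat_lit 2) (nat_lit 113) (Steps.fwd (nat_lit 6144) (Steps.bwd (nat_lit 2) (Steps.fwd (nat_lit 6144) (Steps.fwd (nat_lit 6144) (Steps.fwd (nat_lit 4096) (Steps.fwd (nat_lit 8192) (Steps.fwd (nat_lit 8192) (Steps.bwd (nat_lit 3) Steps.nil)))))))) (nat_lit 24) (nat_lit 1),
  Rule.mk (nat_lit 2) (nat_lit 48) (Steps.bwd (nat_lit 6) (Steps.bwd (nat_lit 2) (Steps.bwd (nat_lit 5) Steps.nil))) (nat_lit 34) (nat_lit 0),
  Rule.mk (nat_lit 4) (nat_lit 113) (Steps.bwd (nat_lit 2) (Steps.fwd (nat_lit 8192) (Steps.fwd (nat_lit 8192) (Steps.bwd (nat_lit 2) (Steps.bwd (nat_lit 3) (Steps.bwd (nat_lit 2) (Steps.bwd (nat_lit 4) (Steps.bwd (nat_lit 4) Steps.nil)))))))) (nat_lit 25) (nat_lit 3),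
  Rule.mk (nat_lit 4) (nat_lit 61) (Steps.bwd (nat_lit 4) (Steps.bwd (nat_lit 6) (Steps.fwd (nat_lit 8192) (Steps.bwd (nat_lit 5) Steps.nil)))) (nat_lit 36) (nat_lit 4),
  Rule.mk (nat_lit 4) (nat_lit 113) (Steps.bwd (nat_lit 2) (Steps.fwd (nat_lit 8192) (Steps.fwd (nat_lit 8192) (Steps.fwd (nat_lit 8192) (Steps.fwd (nat_lit 4096) (Steps.bwd (nat_lit 4) (Steps.fwd (nat_lit 4096) (Steps.bwd (nat_lit 4) Steps.nil)))))))) (nat_lit 24) (nat_lit 7),
  Rule.mk (nat_lit 2) (nat_lit 113) (Steps.bwd (nat_lit 4) (Steps.bwd (nat_lit 4) (Steps.fwd (nat_lit 4096) (Steps.bwd (nat_lit 3) (Steps.bwd (nat_lit 3) (Steps.fwd (nat_lit 8192) (Steps.bwd (nat_lit 2) (Steps.bwd (nat_lit 4) Steps.nil)))))))) (nat_lit 24) (nat_lit 3),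
  Rule.mk (nat_lit 4) (nat_lit 113) (Steps.bwd (nat_lit 2) (Steps.bwd (nat_lit 4) (Steps.fwd (nat_lit 6144) (Steps.fwd (nat_lit 4096) (Steps.bwd (nat_lit 3) (Steps.bwd (nat_lit 3) (Steps.bwd (nat_lit 3) (Steps.bwd (nat_lit 2) Steps.nil)))))))) (nat_lit 24) (nat_lit 2),
  Rule.mk (nat_lit 4) (nat_lit 113) (Steps.bwd (nat_lit 2) (Steps.fwd (nat_lit 6144) (Steps.fwd (nat_lit 6144) (Steps.fwd (nat_lit 4096) (Steps.bwd (nat_lit 3) (Steps.bwd (nat_lit 3) (Steps.bwd (nat_lit 3) (Steps.bwd (nat_lit 2) Steps.nil)))))))) (nat_lit 24) (nat_lit 2),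
  Rule.mk (nat_lit 4) (nat_lit 61) (Steps.fwd (nat_lit 10240) (Steps.fwd (nat_lit 8192) (Steps.bwd (nat_lit 5) (Steps.bwd (nat_lit 4) Steps.nil)))) (nat_lit 36) (nat_lit 0),
  Rule.mk (nat_lit 3) (nat_lit 113) (Steps.fwd (nat_lit 8192) (Steps.bwd (nat_lit 2) (Steps.bwd (nat_lit 3) (Steps.bwd (nat_lit 2) (Steps.bwd (nat_lit 4) (Steps.bwd (nat_lit 4) (Steps.fwd (nat_lit 6144) (Steps.bwd (nat_lit 2) Steps.nil)))))))) (nat_lit 25) (nat_lit 5),
  Rule.mk (nat_lit 2) (nat_lit 113) (Steps.bwd (nat_lit 3) (Steps.bwd (nat_lit 2) (Steps.bwd (nat_lit 4) (Steps.fwd (nat_lit 6144) (Steps.bwd (nat_lit 4) (Steps.bwd (nat_lit 2) (Steps.bwd (nat_lit 3) (Steps.bwd (nat_lit 3) Steps.nil)))))))) (nat_lit 25) (nat_lit 9),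
  Rule.mk (nat_lit 5) (nat_lit 61) (Steps.fwd (nat_lit 8192) (Steps.fwd (nat_lit 8192) (Steps.bwd (nat_lit 6) (Steps.fwd (nat_lit 6144) Steps.nil)))) (nat_lit 37) (nat_lit 0),
  Rule.mk (nat_lit 4) (nat_lit 61) (Steps.bwd (nat_lit 6) (Steps.fwd (nat_lit 8192) (Steps.fwd (nat_lit 12288) (Steps.bwd (nat_lit 4) Steps.nil)))) (nat_lit 36) (nat_lit 0),
  Rule.mk (nat_lit 3) (nat_lit 87) (Steps.bwd (nat_lit 3) (Steps.bwd (nat_lit 3) (Steps.fwd (nat_lit 8192) (Steps.fwd (nat_lit 8192) (Steps.bwd (nat_lit 3) (Steps.bwd (nat_lit 3) Steps.nil)))))) (nat_lit 16) (nat_lit 0),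
  Rule.mk (nat_lit 3) (nat_lit 113) (Steps.bwd (nat_lit 3) (Steps.fwd (nat_lit 8192) (Steps.fwd (nat_lit 4096) (Steps.fwd (nat_lit 6144) (Steps.bwd (nat_lit 2) (Steps.bwd (nat_lit 4) (Steps.fwd (nat_lit 6144) (Steps.bwd (nat_lit 2) Steps.nil)))))))) (nat_lit 24) (nat_lit 9),
  Rule.mk (nat_lit 2) (nat_lit 74) (Steps.bwd (nat_lit 1) (Steps.fwd (nat_lit 4096) (Steps.fwd (nat_lit 2048) (Steps.fwd (nat_lit 4096) (Steps.bwd (nat_lit 1) Steps.nil))))) (nat_lit 14) (nat_lit 0),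
  Rule.mk (nat_lit 3) (nat_lit 113) (Steps.fwd (nat_lit 8192) (Steps.fwd (nat_lit 8192) (Steps.bwd (nat_lit 2) (Steps.fwd (nat_lit 6144) (Steps.bwd (nat_lit 2) (Steps.fwd (nat_lit 6144) (Steps.bwd (nat_lit 4) (Steps.bwd (nat_lit 2) Steps.nil)))))))) (nat_lit 24) (nat_lit 9),
  Rule.mk (nat_lit 4) (nat_lit 113) (Steps.fwd (nat_lit 4096) (Steps.bwd (nat_lit 4) (Steps.fwd (nat_lit 6144) (Steps.fwd (nat_lit 4096) (Steps.bwd (nat_lit 3) (Steps.fwd (nat_lit 8192) (Steps.bwd (nat_lit 3) (Steps.bwd (nat_lit 2) Steps.nil)))))))) (nat_lit 24) (nat_lit 2),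
  Rule.mk (nat_lit 1) (nat_lit 74) (Steps.bwd (nat_lit 2) (Steps.bwd (nat_lit 1) (Steps.fwd (nat_lit 4096) (Steps.bwd (nat_lit 1) (Steps.bwd (nat_lit 2) Steps.nil))))) (nat_lit 14) (nat_lit 1),
  Rule.mk (nat_lit 1) (nat_lit 74) (Steps.bwd (nat_lit 2) (Steps.fwd (nat_lit 2048) (Steps.fwd (nat_lit 4096) (Steps.bwd (nat_lit 1) (Steps.fwd (nat_lit 4096) Steps.nil))))) (nat_lit 14) (nat_lit 1)]
noncomputable def R_3 : List (Rule) := [Rule.mk (nat_lit 4) (nat_lit 61) (Steps.bwd (nat_lit 4) (Steps.fwd (nat_lit 10240) (Steps.fwd (nat_lit 8192) (Steps.bwd (nat_lit 5) Steps.nil)))) (nat_lit 36) (nat_lit 4),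
  Rule.mk (nat_lit 4) (nat_lit 48) (Steps.bwd (nat_lit 1) (Steps.bwd (nat_lit 4) (Steps.bwd (nat_lit 1) Steps.nil))) (nat_lit 23) (nat_lit 0),
  Rule.mk (nat_lit 5) (nat_lit 61) (Steps.bwd (nat_lit 4) (Steps.bwd (nat_lit 4) (Steps.fwd (nat_lit 10240) (Steps.bwd (nat_lit 3) Steps.nil)))) (nat_lit 36) (nat_lit 3),
  Rule.mk (nat_lit 2) (nat_lit 113) (Steps.bwd (nat_lit 4) (Steps.bwd (nat_lit 4) (Steps.fwd (nat_lit 4096) (Steps.fwd (nat_lit 8192) (Steps.bwd (nat_lit 3) (Steps.fwd (nat_lit 8192) (Steps.bwd (nat_lit 2) (Steps.bwd (nat_lit 4) Steps.nil)))))))) (nat_lit 24) (nat_lit 3),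
  Rule.mk (nat_lit 3) (nat_lit 61) (Steps.fwd (nat_lit 10240) (Steps.bwd (nat_lit 4) (Steps.bwd (nat_lit 5) (Steps.bwd (nat_lit 3) Steps.nil)))) (nat_lit 37) (nat_lit 2),
  Rule.mk (nat_lit 2) (nat_lit 113) (Steps.fwd (nat_lit 6144) (Steps.bwd (nat_lit 2) (Steps.fwd (nat_lit 6144) (Steps.bwd (nat_lit 4) (Steps.bwd (nat_lit 2) (Steps.fwd (nat_lit 8192) (Steps.fwd (nat_lit 8192) (Steps.bwd (nat_lit 3) Steps.nil)))))))) (nat_lit 24) (nat_lit 1),
  Rule.mk (nat_lit 2) (nat_lit 113) (Steps.bwd (nat_lit 4) (Steps.bwd (nat_lit 4) (Steps.fwd (nat_lit 4096) (Steps.bwd (nat_lit 3) (Steps.fwd (nat_lit 8192) (Steps.bwd (nat_lit 3) (Steps.bwd (nat_lit 2) (Steps.bwd (nat_lit 4) Steps.nil)))))))) (nat_lit 24) (nat_lit 3),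
  Rule.mk (nat_lit 2) (nat_lit 74) (Steps.bwd (nat_lit 1) (Steps.bwd (nat_lit 2) (Steps.fwd (nat_lit 2048) (Steps.bwd (nat_lit 2) (Steps.bwd (nat_lit 1) Steps.nil))))) (nat_lit 14) (nat_lit 0),
  Rule.mk (nat_lit 1) (nat_lit 74) (Steps.bwd (nat_lit 2) (Steps.bwd (nat_lit 1) (Steps.bwd (nat_lit 2) (Steps.fwd (nat_lit 2048) (Steps.bwd (nat_lit 2) Steps.nil))))) (nat_lit 14) (nat_lit 1),
  Rule.mk (nat_lit 1) (nat_lit 74) (Steps.bwd (nat_lit 2) (Steps.fwd (nat_lit 2048) (Steps.bwd (nat_lit 2) (Steps.bwd (nat_lit 1) (Steps.fwd (nat_lit 4096) Steps.nil))))) (nat_lit 14) (nat_lit 1),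
  Rule.mk (nat_lit 3) (nat_lit 61) (Steps.bwd (nat_lit 3) (Steps.bwd (nat_lit 6) (Steps.bwd (nat_lit 4) (Steps.bwd (nat_lit 5) Steps.nil)))) (nat_lit 37) (nat_lit 1),
  Rule.mk (nat_lit 4) (nat_lit 113) (Steps.bwd (nat_lit 4) (Steps.bwd (nat_lit 2) (Steps.bwd (nat_lit 3) (Steps.bwd (nat_lit 3) (Steps.fwd (nat_lit 8192) (Steps.bwd (nat_lit 2) (Steps.fwd (nat_lit 6144) (Steps.fwd (nat_lit 4096) Steps.nil)))))))) (nat_lit 24) (nat_lit 6),
  Rule.mk (nat_lit 1) (nat_lit 48) (Steps.fwd (nat_lit 8192) (Steps.bwd (nat_lit 1) (Steps.fwd (nat_lit 8192) Steps.nil))) (nat_lit 22) (nat_lit 0),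
  Rule.mk (nat_lit 2) (nat_lit 113) (Steps.fwd (nat_lit 6144) (Steps.fwd (nat_lit 4096) (Steps.fwd (nat_lit 6144) (Steps.fwd (nat_lit 6144) (Steps.bwd (nat_lit 2) (Steps.fwd (nat_lit 8192) (Steps.fwd (nat_lit 8192) (Steps.bwd (nat_lit 3) Steps.nil)))))))) (nat_lit 24) (nat_lit 1),
  Rule.mk (nat_lit 3) (nat_lit 113) (Steps.fwd (nat_lit 8192) (Steps.fwd (nat_lit 8192) (Steps.bwd (nat_lit 2) (Steps.fwd (nat_lit 6144) (Steps.fwd (nat_lit 4096) (Steps.bwd (nat_lit 4) (Steps.fwd (nat_lit 6144) (Steps.bwd (nat_lit 2) Steps.nil)))))))) (nat_lit 24) (nat_lit 9),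
  Rule.mk (nat_lit 6) (nat_lit 61) (Steps.bwd (nat_lit 3) (Steps.bwd (nat_lit 5) (Steps.bwd (nat_lit 4) (Steps.bwd (nat_lit 4) Steps.nil)))) (nat_lit 36) (nat_lit 1),
  Rule.mk (nat_lit 2) (nat_lit 113) (Steps.fwd (nat_lit 6144) (Steps.bwd (nat_lit 2) (Steps.fwd (nat_lit 6144) (Steps.fwd (nat_lit 6144) (Steps.bwd (nat_lit 2) (Steps.fwd (nat_lit 8192) (Steps.bwd (nat_lit 3) (Steps.bwd (nat_lit 3) Steps.nil)))))))) (nat_lit 24) (nat_lit 1),
  Rule.mk (nat_lit 3) (nat_lit 61) (Steps.fwd (nat_lit 8192) (Steps.fwd (nat_lit 10240) (Steps.bwd (nat_lit 4) (Steps.bwd (nat_lit 5) Steps.nil)))) (nat_lit 37) (nat_lit 1),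
  Rule.mk (nat_lit 2) (nat_lit 74) (Steps.bwd (nat_lit 1) (Steps.bwd (nat_lit 2) (Steps.fwd (nat_lit 2048) (Steps.fwd (nat_lit 4096) (Steps.bwd (nat_lit 1) Steps.nil))))) (nat_lit 14) (nat_lit 0),
  Rule.mk (nat_lit 6) (nat_lit 48) (Steps.fwd (nat_lit 2048) (Steps.bwd (nat_lit 5) (Steps.fwd (nat_lit 2048) Steps.nil))) (nat_lit 32) (nat_lit 1),
  Rule.mk (nat_lit 4) (nat_lit 113) (Steps.bwd (nat_lit 2) (Steps.bwd (nat_lit 4) (Steps.bwd (nat_lit 4) (Steps.fwd (nat_lit 4096) (Steps.bwd (nat_lit 3) (Steps.bwd (nat_lit 3) (Steps.bwd (nat_lit 3) (Steps.fwd (nat_lit 4096) Steps.nil)))))))) (nat_lit 24) (nat_lit 2),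
  Rule.mk (nat_lit 4) (nat_lit 113) (Steps.bwd (nat_lit 4) (Steps.bwd (nat_lit 4) (Steps.fwd (nat_lit 4096) (Steps.bwd (nat_lit 3) (Steps.bwd (nat_lit 3) (Steps.fwd (nat_lit 4096) (Steps.bwd (nat_lit 3) (Steps.fwd (nat_lit 4096) Steps.nil)))))))) (nat_lit 25) (nat_lit 1),
  Rule.mk (nat_lit 2) (nat_lit 113) (Steps.bwd (nat_lit 4) (Steps.fwd (nat_lit 4096) (Steps.bwd (nat_lit 4) (Steps.fwd (nat_lit 6144) (Steps.fwd (nat_lit 4096) (Steps.bwd (nat_lit 3) (Steps.fwd (nat_lit 8192) (Steps.bwd (nat_lit 3) Steps.nil)))))))) (nat_lit 24) (nat_lit 1),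
  Rule.mk (nat_lit 2) (nat_lit 113) (Steps.fwd (nat_lit 6144) (Steps.bwd (nat_lit 4) (Steps.fwd (nat_lit 6144) (Steps.bwd (nat_lit 2) (Steps.bwd (nat_lit 3) (Steps.fwd (nat_lit 8192) (Steps.bwd (nat_lit 2) (Steps.bwd (nat_lit 3) Steps.nil)))))))) (nat_lit 25) (nat_lit 0),
  Rule.mk (nat_lit 4) (nat_lit 87) (Steps.bwd (nat_lit 4) (Steps.bwd (nat_lit 4) (Steps.bwd (nat_lit 4) (Steps.bwd (nat_lit 4) (Steps.bwd (nat_lit 4) (Steps.bwd (nat_lit 4) Steps.nil)))))) (nat_lit 17) (nat_lit 0),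
  Rule.mk (nat_lit 2) (nat_lit 74) (Steps.fwd (nat_lit 2048) (Steps.bwd (nat_lit 2) (Steps.bwd (nat_lit 1) (Steps.fwd (nat_lit 4096) (Steps.bwd (nat_lit 1) Steps.nil))))) (nat_lit 14) (nat_lit 0),
  Rule.mk (nat_lit 4) (nat_lit 113) (Steps.bwd (nat_lit 4) (Steps.fwd (nat_lit 4096) (Steps.bwd (nat_lit 3) (Steps.fwd (nat_lit 8192) (Steps.bwd (nat_lit 3) (Steps.fwd (nat_lit 4096) (Steps.bwd (nat_lit 4) (Steps.fwd (nat_lit 4096) Steps.nil)))))))) (nat_lit 24) (nat_lit 6),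
  Rule.mk (nat_lit 4) (nat_lit 113) (Steps.bwd (nat_lit 4) (Steps.bwd (nat_lit 2) (Steps.bwd (nat_lit 3) (Steps.fwd (nat_lit 8192) (Steps.bwd (nat_lit 3) (Steps.fwd (nat_lit 4096) (Steps.bwd (nat_lit 4) (Steps.fwd (nat_lit 4096) Steps.nil)))))))) (nat_lit 24) (nat_lit 6),
  Rule.mk (nat_lit 0) (nat_lit 74) (Steps.bwd (nat_lit 4) (Steps.fwd (nat_lit 12288) (Steps.fwd (nat_lit 8192) (Steps.bwd (nat_lit 3) (Steps.fwd (nat_lit 10240) Steps.nil))))) (nat_lit 37) (nat_lit 3),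
  Rule.mk (nat_lit 4) (nat_lit 35) (Steps.bwd (nat_lit 0) (Steps.fwd (nat_lit 8192) Steps.nil)) (nat_lit 230) (nat_lit 0),
  Rule.mk (nat_lit 1) (nat_lit 74) (Steps.bwd (nat_lit 2) (Steps.bwd (nat_lit 1) (Steps.fwd (nat_lit 4096) (Steps.bwd (nat_lit 1) (Steps.fwd (nat_lit 4096) Steps.nil))))) (nat_lit 14) (nat_lit 1),
  Rule.mk (nat_lit 4) (nat_lit 48) (Steps.fwd (nat_lit 2048) (Steps.bwd (nat_lit 4) (Steps.bwd (nat_lit 1) Steps.nil))) (nat_lit 23) (nat_lit 0),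
  Rule.mk (nat_lit 3) (nat_lit 113) (Steps.fwd (nat_lit 8192) (Steps.fwd (nat_lit 8192) (Steps.fwd (nat_lit 4096) (Steps.bwd (nat_lit 4) (Steps.bwd (nat_lit 2) (Steps.fwd (nat_lit 6144) (Steps.fwd (nat_lit 6144) (Steps.bwd (nat_lit 2) Steps.nil)))))))) (nat_lit 24) (nat_lit 9),
  Rule.mk (nat_lit 2) (nat_lit 74) (Steps.bwd (nat_lit 1) (Steps.fwd (nat_lit 4096) (Steps.bwd (nat_lit 1) (Steps.fwd (nat_lit 4096) (Steps.bwd (nat_lit 1) Steps.nil))))) (nat_lit 14) (nat_lit 0),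
  Rule.mk (nat_lit 3) (nat_lit 113) (Steps.bwd (nat_lit 2) (Steps.fwd (nat_lit 6144) (Steps.bwd (nat_lit 4) (Steps.fwd (nat_lit 6144) (Steps.bwd (nat_lit 2) (Steps.bwd (nat_lit 3) (Steps.fwd (nat_lit 8192) (Steps.bwd (nat_lit 2) Steps.nil)))))))) (nat_lit 25) (nat_lit 10),
  Rule.mk (nat_lit 4) (nat_lit 48) (Steps.fwd (nat_lit 2048) (Steps.fwd (nat_lit 6144) (Steps.bwd (nat_lit 1) Steps.nil))) (nat_lit 23) (nat_lit 0),
  Rule.mk (nat_lit 2) (nat_lit 113) (Steps.bwd (nat_lit 4) (Steps.bwd (nat_lit 2) (Steps.fwd (nat_lit 6144) (Steps.fwd (nat_lit 6144) (Steps.bwd (nat_lit 2) (Steps.fwd (nat_lit 8192) (Steps.fwd (nat_lit 8192) (Steps.bwd (nat_lit 3) Steps.nil)))))))) (nat_lit 24) (nat_lit 1),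
  Rule.mk (nat_lit 4) (nat_lit 113) (Steps.bwd (nat_lit 4) (Steps.fwd (nat_lit 4096) (Steps.bwd (nat_lit 3) (Steps.fwd (nat_lit 8192) (Steps.bwd (nat_lit 3) (Steps.fwd (nat_lit 4096) (Steps.fwd (nat_lit 6144) (Steps.fwd (nat_lit 4096) Steps.nil)))))))) (nat_lit 24) (nat_lit 6),
  Rule.mk (nat_lit 3) (nat_lit 113) (Steps.bwd (nat_lit 3) (Steps.fwd (nat_lit 8192) (Steps.bwd (nat_lit 2) (Steps.fwd (nat_lit 6144) (Steps.bwd (nat_lit 2) (Steps.fwd (nat_lit 6144) (Steps.bwd (nat_lit 4) (Steps.bwd (nat_lit 2) Steps.nil)))))))) (nat_lit 24) (nat_lit 9),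
  Rule.mk (nat_lit 4) (nat_lit 113) (Steps.bwd (nat_lit 4) (Steps.fwd (nat_lit 4096) (Steps.bwd (nat_lit 3) (Steps.bwd (nat_lit 3) (Steps.bwd (nat_lit 3) (Steps.bwd (nat_lit 2) (Steps.bwd (nat_lit 4) (Steps.bwd (nat_lit 2) Steps.nil)))))))) (nat_lit 24) (nat_lit 6),
  Rule.mk (nat_lit 1) (nat_lit 74) (Steps.bwd (nat_lit 2) (Steps.bwd (nat_lit 1) (Steps.fwd (nat_lit 4096) (Steps.fwd (nat_lit 2048) (Steps.bwd (nat_lit 2) Steps.nil))))) (nat_lit 14) (nat_lit 1),
  Rule.mk (nat_lit 4) (nat_lit 61) (Steps.bwd (nat_lit 5) (Steps.bwd (nat_lit 3) (Steps.fwd (nat_lit 8192) (Steps.bwd (nat_lit 6) Steps.nil)))) (nat_lit 37) (nat_lit 4),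
  Rule.mk (nat_lit 4) (nat_lit 61) (Steps.bwd (nat_lit 4) (Steps.bwd (nat_lit 6) (Steps.bwd (nat_lit 3) (Steps.bwd (nat_lit 5) Steps.nil)))) (nat_lit 36) (nat_lit 4),
  Rule.mk (nat_lit 3) (nat_lit 87) (Steps.bwd (nat_lit 3) (Steps.bwd (nat_lit 3) (Steps.bwd (nat_lit 3) (Steps.bwd (nat_lit 3) (Steps.fwd (nat_lit 8192) (Steps.bwd (nat_lit 3) Steps.nil)))))) (nat_lit 16) (nat_lit 0),
  Rule.mk (nat_lit 1) (nat_lit 74) (Steps.fwd (nat_lit 4096) (Steps.bwd (nat_lit 1) (Steps.fwd (nat_lit 4096) (Steps.bwd (nat_lit 1) (Steps.fwd (nat_lit 4096) Steps.nil))))) (nat_lit 14) (nat_lit 1),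
  Rule.mk (nat_lit 3) (nat_lit 87) (Steps.bwd (nat_lit 3) (Steps.fwd (nat_lit 8192) (Steps.bwd (nat_lit 3) (Steps.fwd (nat_lit 8192) (Steps.bwd (nat_lit 3) (Steps.bwd (nat_lit 3) Steps.nil)))))) (nat_lit 16) (nat_lit 0),
  Rule.mk (nat_lit 4) (nat_lit 113) (Steps.bwd (nat_lit 4) (Steps.bwd (nat_lit 2) (Steps.bwd (nat_lit 3) (Steps.bwd (nat_lit 3) (Steps.fwd (nat_lit 8192) (Steps.bwd (nat_lit 2) (Steps.fwd (nat_lit 6144) (Steps.bwd (nat_lit 2) Steps.nil)))))))) (nat_lit 24) (nat_lit 6),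
  Rule.mk (nat_lit 5) (nat_lit 61) (Steps.bwd (nat_lit 4) (Steps.fwd (nat_lit 6144) (Steps.fwd (nat_lit 10240) (Steps.fwd (nat_lit 8192) Steps.nil)))) (nat_lit 36) (nat_lit 3),
  Rule.mk (nat_lit 1) (nat_lit 48) (Steps.bwd (nat_lit 6) (Steps.bwd (nat_lit 1) (Steps.bwd (nat_lit 5) Steps.nil))) (nat_lit 32) (nat_lit 0),
  Rule.mk (nat_lit 0) (nat_lit 61) (Steps.bwd (nat_lit 3) (Steps.fwd (nat_lit 2048) (Steps.bwd (nat_lit 3) (Steps.fwd (nat_lit 2048) Steps.nil)))) (nat_lit 22) (nat_lit 0),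
  Rule.mk (nat_lit 4) (nat_lit 113) (Steps.bwd (nat_lit 4) (Steps.bwd (nat_lit 2) (Steps.fwd (nat_lit 8192) (Steps.bwd (nat_lit 3) (Steps.bwd (nat_lit 3) (Steps.bwd (nat_lit 2) (Steps.fwd (nat_lit 6144) (Steps.bwd (nat_lit 2) Steps.nil)))))))) (nat_lit 24) (nat_lit 6),
  Rule.mk (nat_lit 3) (nat_lit 87) (Steps.bwd (nat_lit 3) (Steps.fwd (nat_lit 8192) (Steps.fwd (nat_lit 8192) (Steps.fwd (nat_lit 8192) (Steps.fwd (nat_lit 8192) (Steps.bwd (nat_lit 3) Steps.nil)))))) (nat_lit 16) (nat_lit 0),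
  Rule.mk (nat_lit 2) (nat_lit 113) (Steps.bwd (nat_lit 4) (Steps.fwd (nat_lit 4096) (Steps.fwd (nat_lit 6144) (Steps.fwd (nat_lit 6144) (Steps.bwd (nat_lit 2) (Steps.fwd (nat_lit 8192) (Steps.bwd (nat_lit 3) (Steps.bwd (nat_lit 3) Steps.nil)))))))) (nat_lit 24) (nat_lit 1),
  Rule.mk (nat_lit 4) (nat_lit 113) (Steps.bwd (nat_lit 4) (Steps.bwd (nat_lit 2) (Steps.bwd (nat_lit 3) (Steps.bwd (nat_lit 3) (Steps.bwd (nat_lit 3) (Steps.fwd (nat_lit 4096) (Steps.fwd (nat_lit 6144) (Steps.bwd (nat_lit 2) Steps.nil)))))))) (nat_lit 24) (nat_lit 6),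
  Rule.mk (nat_lit 1) (nat_lit 48) (Steps.bwd (nat_lit 4) (Steps.fwd (nat_lit 2048) (Steps.bwd (nat_lit 4) Steps.nil))) (nat_lit 23) (nat_lit 1),
  Rule.mk (nat_lit 3) (nat_lit 61) (Steps.bwd (nat_lit 5) (Steps.bwd (nat_lit 4) (Steps.bwd (nat_lit 4) (Steps.bwd (nat_lit 6) Steps.nil)))) (nat_lit 36) (nat_lit 2),
  Rule.mk (nat_lit 3) (nat_lit 87) (Steps.bwd (nat_lit 3) (Steps.bwd (nat_lit 3) (Steps.bwd (nat_lit 3) (Steps.bwd (nat_lit 3) (Steps.fwd (nat_lit 8192) (Steps.fwd (nat_lit 8192) Steps.nil)))))) (nat_lit 16) (nat_lit 0),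
  Rule.mk (nat_lit 4) (nat_lit 113) (Steps.bwd (nat_lit 4) (Steps.bwd (nat_lit 2) (Steps.bwd (nat_lit 3) (Steps.bwd (nat_lit 3) (Steps.bwd (nat_lit 3) (Steps.bwd (nat_lit 2) (Steps.fwd (nat_lit 6144) (Steps.bwd (nat_lit 2) Steps.nil)))))))) (nat_lit 24) (nat_lit 6),
  Rule.mk (nat_lit 3) (nat_lit 87) (Steps.bwd (nat_lit 3) (Steps.bwd (nat_lit 3) (Steps.fwd (nat_lit 8192) (Steps.bwd (nat_lit 3) (Steps.bwd (nat_lit 3) (Steps.fwd (nat_lit 8192) Steps.nil)))))) (nat_lit 16) (nat_lit 0),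
  Rule.mk (nat_lit 6) (nat_lit 61) (Steps.bwd (nat_lit 4) (Steps.fwd (nat_lit 12288) (Steps.fwd (nat_lit 8192) (Steps.bwd (nat_lit 3) Steps.nil)))) (nat_lit 37) (nat_lit 3),
  Rule.mk (nat_lit 4) (nat_lit 113) (Steps.bwd (nat_lit 4) (Steps.bwd (nat_lit 2) (Steps.bwd (nat_lit 3) (Steps.fwd (nat_lit 8192) (Steps.bwd (nat_lit 3) (Steps.fwd (nat_lit 4096) (Steps.fwd (nat_lit 6144) (Steps.bwd (nat_lit 2) Steps.nil)))))))) (nat_lit 24) (nat_lit 6),
  Rule.mk (nat_lit 3) (nat_lit 61) (Steps.bwd (nat_lit 3) (Steps.fwd (nat_lit 10240) (Steps.fwd (nat_lit 6144) (Steps.bwd (nat_lit 5) Steps.nil)))) (nat_lit 37) (nat_lit 1),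
  Rule.mk (nat_lit 2) (nat_lit 113) (Steps.bwd (nat_lit 4) (Steps.bwd (nat_lit 4) (Steps.bwd (nat_lit 2) (Steps.bwd (nat_lit 3) (Steps.bwd (nat_lit 3) (Steps.bwd (nat_lit 3) (Steps.fwd (nat_lit 4096) (Steps.fwd (nat_lit 6144) Steps.nil)))))))) (nat_lit 24) (nat_lit 3),
  Rule.mk (nat_lit 1) (nat_lit 74) (Steps.bwd (nat_lit 2) (Steps.fwd (nat_lit 2048) (Steps.bwd (nat_lit 2) (Steps.fwd (nat_lit 2048) (Steps.fwd (nat_lit 4096) Steps.nil))))) (nat_lit 14) (nat_lit 1)]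
noncomputable def R_4 : List (Rule) := [Rule.mk (nat_lit 4) (nat_lit 61) (Steps.bwd (nat_lit 4) (Steps.fwd (nat_lit 10240) (Steps.bwd (nat_lit 3) (Steps.bwd (nat_lit 5) Steps.nil)))) (nat_lit 36) (nat_lit 4),
  Rule.mk (nat_lit 2) (nat_lit 113) (Steps.bwd (nat_lit 4) (Steps.fwd (nat_lit 4096) (Steps.bwd (nat_lit 4) (Steps.fwd (nat_lit 6144) (Steps.fwd (nat_lit 4096) (Steps.fwd (nat_lit 8192) (Steps.fwd (nat_lit 8192) (Steps.bwd (nat_lit 3) Steps.nil)))))))) (nat_lit 24) (nat_lit 1),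
  Rule.mk (nat_lit 4) (nat_lit 113) (Steps.bwd (nat_lit 2) (Steps.bwd (nat_lit 4) (Steps.fwd (nat_lit 6144) (Steps.bwd (nat_lit 2) (Steps.bwd (nat_lit 3) (Steps.fwd (nat_lit 8192) (Steps.bwd (nat_lit 3) (Steps.bwd (nat_lit 2) Steps.nil)))))))) (nat_lit 24) (nat_lit 2),
  Rule.mk (nat_lit 2) (nat_lit 74) (Steps.bwd (nat_lit 1) (Steps.bwd (nat_lit 2) (Steps.fwd (nat_lit 2048) (Steps.bwd (nat_lit 2) (Steps.fwd (nat_lit 2048) Steps.nil))))) (nat_lit 14) (nat_lit 0),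
  Rule.mk (nat_lit 2) (nat_lit 113) (Steps.fwd (nat_lit 6144) (Steps.bwd (nat_lit 4) (Steps.fwd (nat_lit 6144) (Steps.bwd (nat_lit 2) (Steps.bwd (nat_lit 3) (Steps.fwd (nat_lit 8192) (Steps.fwd (nat_lit 4096) (Steps.bwd (nat_lit 3) Steps.nil)))))))) (nat_lit 25) (nat_lit 0),
  Rule.mk (nat_lit 2) (nat_lit 113) (Steps.bwd (nat_lit 4) (Steps.fwd (nat_lit 6144) (Steps.bwd (nat_lit 2) (Steps.bwd (nat_lit 3) (Steps.fwd (nat_lit 8192) (Steps.bwd (nat_lit 3) (Steps.bwd (nat_lit 2) (Steps.bwd (nat_lit 4) Steps.nil)))))))) (nat_lit 24) (nat_lit 3),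
  Rule.mk (nat_lit 3) (nat_lit 87) (Steps.bwd (nat_lit 3) (Steps.bwd (nat_lit 3) (Steps.fwd (nat_lit 8192) (Steps.fwd (nat_lit 8192) (Steps.bwd (nat_lit 3) (Steps.fwd (nat_lit 8192) Steps.nil)))))) (nat_lit 16) (nat_lit 0),
  Rule.mk (nat_lit 4) (nat_lit 113) (Steps.bwd (nat_lit 2) (Steps.bwd (nat_lit 3) (Steps.fwd (nat_lit 8192) (Steps.fwd (nat_lit 8192) (Steps.fwd (nat_lit 4096) (Steps.fwd (nat_lit 6144) (Steps.bwd (nat_lit 2) (Steps.bwd (nat_lit 4) Steps.nil)))))))) (nat_lit 24) (nat_lit 7),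
  Rule.mk (nat_lit 2) (nat_lit 113) (Steps.bwd (nat_lit 4) (Steps.bwd (nat_lit 2) (Steps.fwd (nat_lit 6144) (Steps.fwd (nat_lit 6144) (Steps.bwd (nat_lit 2) (Steps.bwd (nat_lit 3) (Steps.fwd (nat_lit 8192) (Steps.bwd (nat_lit 3) Steps.nil)))))))) (nat_lit 24) (nat_lit 1),
  Rule.mk (nat_lit 4) (nat_lit 113) (Steps.bwd (nat_lit 2) (Steps.bwd (nat_lit 4) (Steps.fwd (nat_lit 6144) (Steps.fwd (nat_lit 4096) (Steps.bwd (nat_lit 3) (Steps.bwd (nat_lit 3) (Steps.bwd (nat_lit 3) (Steps.fwd (nat_lit 4096) Steps.nil)))))))) (nat_lit 24) (nat_lit 2),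
  Rule.mk (nat_lit 4) (nat_lit 113) (Steps.bwd (nat_lit 4) (Steps.fwd (nat_lit 6144) (Steps.fwd (nat_lit 4096) (Steps.bwd (nat_lit 3) (Steps.bwd (nat_lit 3) (Steps.fwd (nat_lit 4096) (Steps.fwd (nat_lit 8192) (Steps.bwd (nat_lit 2) Steps.nil)))))))) (nat_lit 25) (nat_lit 1),
  Rule.mk (nat_lit 3) (nat_lit 87) (Steps.bwd (nat_lit 3) (Steps.fwd (nat_lit 8192) (Steps.fwd (nat_lit 8192) (Steps.bwd (nat_lit 3) (Steps.fwd (nat_lit 8192) (Steps.fwd (nat_lit 8192) Steps.nil)))))) (nat_lit 16) (nat_lit 0),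
  Rule.mk (nat_lit 4) (nat_lit 113) (Steps.bwd (nat_lit 2) (Steps.bwd (nat_lit 3) (Steps.fwd (nat_lit 8192) (Steps.fwd (nat_lit 8192) (Steps.fwd (nat_lit 4096) (Steps.fwd (nat_lit 6144) (Steps.fwd (nat_lit 4096) (Steps.bwd (nat_lit 4) Steps.nil)))))))) (nat_lit 24) (nat_lit 7),
  Rule.mk (nat_lit 4) (nat_lit 48) (Steps.bwd (nat_lit 1) (Steps.fwd (nat_lit 6144) (Steps.bwd (nat_lit 1) Steps.nil))) (nat_lit 23) (nat_lit 0),
  Rule.mk (nat_lit 1) (nat_lit 48) (Steps.fwd (nat_lit 6144) (Steps.fwd (nat_lit 2048) (Steps.bwd (nat_lit 4) Steps.nil))) (nat_lit 23) (nat_lit 1),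
  Rule.mk (nat_lit 4) (nat_lit 113) (Steps.bwd (nat_lit 4) (Steps.bwd (nat_lit 2) (Steps.bwd (nat_lit 3) (Steps.bwd (nat_lit 3) (Steps.fwd (nat_lit 8192) (Steps.fwd (nat_lit 4096) (Steps.fwd (nat_lit 6144) (Steps.bwd (nat_lit 2) Steps.nil)))))))) (nat_lit 24) (nat_lit 6),
  Rule.mk (nat_lit 3) (nat_lit 113) (Steps.bwd (nat_lit 2) (Steps.fwd (nat_lit 6144) (Steps.bwd (nat_lit 4) (Steps.bwd (nat_lit 4) (Steps.bwd (nat_lit 2) (Steps.fwd (nat_lit 8192) (Steps.fwd (nat_lit 8192) (Steps.bwd (nat_lit 2) Steps.nil)))))))) (nat_lit 25) (nat_lit 10),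
  Rule.mk (nat_lit 6) (nat_lit 48) (Steps.bwd (nat_lit 1) (Steps.fwd (nat_lit 12288) (Steps.fwd (nat_lit 2048) Steps.nil))) (nat_lit 32) (nat_lit 1),
  Rule.mk (nat_lit 4) (nat_lit 113) (Steps.bwd (nat_lit 4) (Steps.fwd (nat_lit 4096) (Steps.bwd (nat_lit 3) (Steps.bwd (nat_lit 3) (Steps.fwd (nat_lit 8192) (Steps.bwd (nat_lit 2) (Steps.bwd (nat_lit 4) (Steps.fwd (nat_lit 4096) Steps.nil)))))))) (nat_lit 24) (nat_lit 6),
  Rule.mk (nat_lit 4) (nat_lit 113) (Steps.bwd (nat_lit 4) (Steps.fwd (nat_lit 4096) (Steps.fwd (nat_lit 8192) (Steps.fwd (nat_lit 8192) (Steps.fwd (nat_lit 8192) (Steps.fwd (nat_lit 4096) (Steps.fwd (nat_lit 6144) (Steps.fwd (nat_lit 4096) Steps.nil)))))))) (nat_lit 24) (nat_lit 6),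
  Rule.mk (nat_lit 2) (nat_lit 113) (Steps.fwd (nat_lit 8192) (Steps.bwd (nat_lit 3) (Steps.bwd (nat_lit 3) (Steps.fwd (nat_lit 4096) (Steps.fwd (nat_lit 6144) (Steps.bwd (nat_lit 2) (Steps.bwd (nat_lit 4) (Steps.bwd (nat_lit 4) Steps.nil)))))))) (nat_lit 24) (nat_lit 8),
  Rule.mk (nat_lit 3) (nat_lit 61) (Steps.bwd (nat_lit 5) (Steps.fwd (nat_lit 6144) (Steps.bwd (nat_lit 4) (Steps.bwd (nat_lit 6) Steps.nil)))) (nat_lit 36) (nat_lit 2),
  Rule.mk (nat_lit 4) (nat_lit 61) (Steps.bwd (nat_lit 5) (Steps.bwd (nat_lit 3) (Steps.bwd (nat_lit 3) (Steps.bwd (nat_lit 6) Steps.nil)))) (nat_lit 37) (nat_lit 4),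
  Rule.mk (nat_lit 6) (nat_lit 61) (Steps.bwd (nat_lit 3) (Steps.bwd (nat_lit 5) (Steps.fwd (nat_lit 6144) (Steps.bwd (nat_lit 4) Steps.nil)))) (nat_lit 36) (nat_lit 1),
  Rule.mk (nat_lit 5) (nat_lit 61) (Steps.bwd (nat_lit 3) (Steps.bwd (nat_lit 3) (Steps.bwd (nat_lit 6) (Steps.bwd (nat_lit 4) Steps.nil)))) (nat_lit 37) (nat_lit 0),
  Rule.mk (nat_lit 5) (nat_lit 61) (Steps.bwd (nat_lit 4) (Steps.fwd (nat_lit 6144) (Steps.bwd (nat_lit 6) (Steps.fwd (nat_lit 8192) Steps.nil)))) (nat_lit 36) (nat_lit 3),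
  Rule.mk (nat_lit 4) (nat_lit 113) (Steps.fwd (nat_lit 6144) (Steps.bwd (nat_lit 2) (Steps.fwd (nat_lit 8192) (Steps.fwd (nat_lit 8192) (Steps.bwd (nat_lit 2) (Steps.fwd (nat_lit 8192) (Steps.bwd (nat_lit 2) (Steps.bwd (nat_lit 4) Steps.nil)))))))) (nat_lit 25) (nat_lit 2),
  Rule.mk (nat_lit 3) (nat_lit 61) (Steps.fwd (nat_lit 10240) (Steps.bwd (nat_lit 4) (Steps.bwd (nat_lit 5) (Steps.fwd (nat_lit 8192) Steps.nil)))) (nat_lit 37) (nat_lit 2),
  Rule.mk (nat_lit 4) (nat_lit 113) (Steps.bwd (nat_lit 2) (Steps.fwd (nat_lit 6144) (Steps.fwd (nat_lit 6144) (Steps.fwd (nat_lit 4096) (Steps.bwd (nat_lit 3) (Steps.bwd (nat_lit 3) (Steps.fwd (nat_lit 8192) (Steps.bwd (nat_lit 2) Steps.nil)))))))) (nat_lit 24) (nat_lit 2),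
  Rule.mk (nat_lit 2) (nat_lit 113) (Steps.bwd (nat_lit 4) (Steps.fwd (nat_lit 4096) (Steps.fwd (nat_lit 6144) (Steps.bwd (nat_lit 4) (Steps.fwd (nat_lit 4096) (Steps.fwd (nat_lit 8192) (Steps.fwd (nat_lit 8192) (Steps.bwd (nat_lit 3) Steps.nil)))))))) (nat_lit 24) (nat_lit 1),
  Rule.mk (nat_lit 4) (nat_lit 113) (Steps.bwd (nat_lit 2) (Steps.bwd (nat_lit 3) (Steps.bwd (nat_lit 3) (Steps.fwd (nat_lit 8192) (Steps.bwd (nat_lit 2) (Steps.fwd (nat_lit 6144) (Steps.bwd (nat_lit 2) (Steps.fwd (nat_lit 6144) Steps.nil)))))))) (nat_lit 24) (nat_lit 7),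
  Rule.mk (nat_lit 4) (nat_lit 61) (Steps.bwd (nat_lit 6) (Steps.bwd (nat_lit 3) (Steps.bwd (nat_lit 5) (Steps.bwd (nat_lit 4) Steps.nil)))) (nat_lit 36) (nat_lit 0),
  Rule.mk (nat_lit 2) (nat_lit 113) (Steps.fwd (nat_lit 8192) (Steps.bwd (nat_lit 3) (Steps.bwd (nat_lit 3) (Steps.fwd (nat_lit 4096) (Steps.fwd (nat_lit 6144) (Steps.bwd (nat_lit 2) (Steps.fwd (nat_lit 6144) (Steps.bwd (nat_lit 4) Steps.nil)))))))) (nat_lit 24) (nat_lit 8),
  Rule.mk (nat_lit 1) (nat_lit 74) (Steps.bwd (nat_lit 2) (Steps.fwd (nat_lit 2048) (Steps.fwd (nat_lit 4096) (Steps.bwd (nat_lit 1) (Steps.bwd (nat_lit 2) Steps.nil))))) (nat_lit 14) (nat_lit 1),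
  Rule.mk (nat_lit 3) (nat_lit 87) (Steps.bwd (nat_lit 3) (Steps.fwd (nat_lit 8192) (Steps.bwd (nat_lit 3) (Steps.bwd (nat_lit 3) (Steps.bwd (nat_lit 3) (Steps.fwd (nat_lit 8192) Steps.nil)))))) (nat_lit 16) (nat_lit 0),
  Rule.mk (nat_lit 5) (nat_lit 61) (Steps.bwd (nat_lit 3) (Steps.bwd (nat_lit 3) (Steps.fwd (nat_lit 10240) (Steps.bwd (nat_lit 4) Steps.nil)))) (nat_lit 37) (nat_lit 0),
  Rule.mk (nat_lit 4) (nat_lit 61) (Steps.bwd (nat_lit 6) (Steps.bwd (nat_lit 3) (Steps.fwd (nat_lit 12288) (Steps.bwd (nat_lit 4) Steps.nil)))) (nat_lit 36) (nat_lit 0),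
  Rule.mk (nat_lit 4) (nat_lit 113) (Steps.bwd (nat_lit 4) (Steps.fwd (nat_lit 6144) (Steps.fwd (nat_lit 4096) (Steps.bwd (nat_lit 3) (Steps.bwd (nat_lit 3) (Steps.fwd (nat_lit 4096) (Steps.bwd (nat_lit 3) (Steps.bwd (nat_lit 2) Steps.nil)))))))) (nat_lit 25) (nat_lit 1),
  Rule.mk (nat_lit 4) (nat_lit 113) (Steps.bwd (nat_lit 2) (Steps.fwd (nat_lit 6144) (Steps.fwd (nat_lit 6144) (Steps.bwd (nat_lit 2) (Steps.bwd (nat_lit 3) (Steps.bwd (nat_lit 3) (Steps.fwd (nat_lit 8192) (Steps.fwd (nat_lit 4096) Steps.nil)))))))) (nat_lit 24) (nat_lit 2),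
  Rule.mk (nat_lit 6) (nat_lit 61) (Steps.fwd (nat_lit 8192) (Steps.fwd (nat_lit 12288) (Steps.fwd (nat_lit 6144) (Steps.bwd (nat_lit 4) Steps.nil)))) (nat_lit 36) (nat_lit 1),
  Rule.mk (nat_lit 4) (nat_lit 61) (Steps.fwd (nat_lit 6144) (Steps.fwd (nat_lit 10240) (Steps.fwd (nat_lit 8192) (Steps.bwd (nat_lit 5) Steps.nil)))) (nat_lit 36) (nat_lit 4),
  Rule.mk (nat_lit 4) (nat_lit 61) (Steps.bwd (nat_lit 5) (Steps.fwd (nat_lit 8192) (Steps.bwd (nat_lit 3) (Steps.bwd (nat_lit 6) Steps.nil)))) (nat_lit 37) (nat_lit 4),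
  Rule.mk (nat_lit 4) (nat_lit 113) (Steps.bwd (nat_lit 2) (Steps.bwd (nat_lit 3) (Steps.fwd (nat_lit 8192) (Steps.fwd (nat_lit 8192) (Steps.fwd (nat_lit 4096) (Steps.bwd (nat_lit 4) (Steps.fwd (nat_lit 4096) (Steps.bwd (nat_lit 4) Steps.nil)))))))) (nat_lit 24) (nat_lit 7),
  Rule.mk (nat_lit 2) (nat_lit 113) (Steps.fwd (nat_lit 8192) (Steps.fwd (nat_lit 8192) (Steps.bwd (nat_lit 3) (Steps.fwd (nat_lit 4096) (Steps.fwd (nat_lit 6144) (Steps.bwd (nat_lit 2) (Steps.bwd (nat_lit 4) (Steps.bwd (nat_lit 4) Steps.nil)))))))) (nat_lit 24) (nat_lit 8),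
  Rule.mk (nat_lit 1) (nat_lit 74) (Steps.bwd (nat_lit 2) (Steps.fwd (nat_lit 2048) (Steps.fwd (nat_lit 4096) (Steps.fwd (nat_lit 2048) (Steps.fwd (nat_lit 4096) Steps.nil))))) (nat_lit 14) (nat_lit 1),
  Rule.mk (nat_lit 2) (nat_lit 113) (Steps.fwd (nat_lit 6144) (Steps.bwd (nat_lit 2) (Steps.bwd (nat_lit 4) (Steps.bwd (nat_lit 4) (Steps.bwd (nat_lit 2) (Steps.fwd (nat_lit 8192) (Steps.fwd (nat_lit 8192) (Steps.bwd (nat_lit 3) Steps.nil)))))))) (nat_lit 24) (nat_lit 1),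
  Rule.mk (nat_lit 4) (nat_lit 113) (Steps.bwd (nat_lit 4) (Steps.bwd (nat_lit 2) (Steps.fwd (nat_lit 8192) (Steps.fwd (nat_lit 8192) (Steps.bwd (nat_lit 3) (Steps.fwd (nat_lit 4096) (Steps.fwd (nat_lit 6144) (Steps.bwd (nat_lit 2) Steps.nil)))))))) (nat_lit 24) (nat_lit 6),
  Rule.mk (nat_lit 2) (nat_lit 113) (Steps.fwd (nat_lit 6144) (Steps.bwd (nat_lit 4) (Steps.fwd (nat_lit 6144) (Steps.fwd (nat_lit 4096) (Steps.bwd (nat_lit 3) (Steps.fwd (nat_lit 8192) (Steps.fwd (nat_lit 4096) (Steps.bwd (nat_lit 3) Steps.nil)))))))) (nat_lit 25) (nat_lit 0),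
  Rule.mk (nat_lit 3) (nat_lit 113) (Steps.fwd (nat_lit 4096) (Steps.bwd (nat_lit 4) (Steps.bwd (nat_lit 2) (Steps.fwd (nat_lit 6144) (Steps.fwd (nat_lit 6144) (Steps.fwd (nat_lit 4096) (Steps.fwd (nat_lit 8192) (Steps.bwd (nat_lit 3) Steps.nil)))))))) (nat_lit 24) (nat_lit 0),
  Rule.mk (nat_lit 2) (nat_lit 113) (Steps.fwd (nat_lit 6144) (Steps.fwd (nat_lit 4096) (Steps.fwd (nat_lit 6144) (Steps.fwd (nat_lit 6144) (Steps.fwd (nat_lit 4096) (Steps.fwd (nat_lit 8192) (Steps.fwd (nat_lit 8192) (Steps.bwd (nat_lit 3) Steps.nil)))))))) (nat_lit 24) (nat_lit 1),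
  Rule.mk (nat_lit 4) (nat_lit 48) (Steps.bwd (nat_lit 1) (Steps.bwd (nat_lit 4) (Steps.fwd (nat_lit 2048) Steps.nil))) (nat_lit 23) (nat_lit 0),
  Rule.mk (nat_lit 4) (nat_lit 113) (Steps.bwd (nat_lit 2) (Steps.bwd (nat_lit 3) (Steps.bwd (nat_lit 3) (Steps.fwd (nat_lit 4096) (Steps.fwd (nat_lit 8192) (Steps.bwd (nat_lit 2) (Steps.bwd (nat_lit 4) (Steps.bwd (nat_lit 4) Steps.nil)))))))) (nat_lit 25) (nat_lit 3),
  Rule.mk (nat_lit 3) (nat_lit 113) (Steps.bwd (nat_lit 2) (Steps.fwd (nat_lit 6144) (Steps.bwd (nat_lit 4) (Steps.fwd (nat_lit 6144) (Steps.fwd (nat_lit 4096) (Steps.bwd (nat_lit 3) (Steps.fwd (nat_lit 8192) (Steps.bwd (nat_lit 2) Steps.nil)))))))) (nat_lit 25) (nat_lit 10),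
  Rule.mk (nat_lit 3) (nat_lit 48) (Steps.fwd (nat_lit 2048) (Steps.bwd (nat_lit 3) (Steps.fwd (nat_lit 2048) Steps.nil))) (nat_lit 22) (nat_lit 1),
  Rule.mk (nat_lit 2) (nat_lit 74) (Steps.bwd (nat_lit 1) (Steps.fwd (nat_lit 4096) (Steps.bwd (nat_lit 1) (Steps.bwd (nat_lit 2) (Steps.bwd (nat_lit 1) Steps.nil))))) (nat_lit 14) (nat_lit 0),
  Rule.mk (nat_lit 0) (nat_lit 126) (Steps.fwd (nat_lit 8192) (Steps.fwd (nat_lit 4096) (Steps.fwd (nat_lit 6144) (Steps.bwd (nat_lit 4) (Steps.fwd (nat_lit 6144) (Steps.bwd (nat_lit 2) (Steps.bwd (nat_lit 3) (Steps.fwd (nat_lit 8192) (Steps.bwd (nat_lit 2) Steps.nil))))))))) (nat_lit 25) (nat_lit 9),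
  Rule.mk (nat_lit 3) (nat_lit 113) (Steps.fwd (nat_lit 4096) (Steps.bwd (nat_lit 4) (Steps.bwd (nat_lit 2) (Steps.fwd (nat_lit 6144) (Steps.fwd (nat_lit 6144) (Steps.bwd (nat_lit 2) (Steps.fwd (nat_lit 8192) (Steps.bwd (nat_lit 3) Steps.nil)))))))) (nat_lit 24) (nat_lit 0),
  Rule.mk (nat_lit 6) (nat_lit 61) (Steps.fwd (nat_lit 8192) (Steps.bwd (nat_lit 5) (Steps.fwd (nat_lit 6144) (Steps.fwd (nat_lit 6144) Steps.nil)))) (nat_lit 36) (nat_lit 1),
  Rule.mk (nat_lit 1) (nat_lit 74) (Steps.fwd (nat_lit 4096) (Steps.bwd (nat_lit 1) (Steps.fwd (nat_lit 4096) (Steps.fwd (nat_lit 2048) (Steps.fwd (nat_lit 4096) Steps.nil))))) (nat_lit 14) (nat_lit 1),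
  Rule.mk (nat_lit 3) (nat_lit 113) (Steps.fwd (nat_lit 8192) (Steps.fwd (nat_lit 8192) (Steps.fwd (nat_lit 4096) (Steps.bwd (nat_lit 4) (Steps.bwd (nat_lit 2) (Steps.fwd (nat_lit 6144) (Steps.bwd (nat_lit 4) (Steps.bwd (nat_lit 2) Steps.nil)))))))) (nat_lit 24) (nat_lit 9),
  Rule.mk (nat_lit 4) (nat_lit 113) (Steps.bwd (nat_lit 2) (Steps.bwd (nat_lit 3) (Steps.bwd (nat_lit 3) (Steps.fwd (nat_lit 8192) (Steps.bwd (nat_lit 2) (Steps.fwd (nat_lit 6144) (Steps.fwd (nat_lit 4096) (Steps.fwd (nat_lit 6144) Steps.nil)))))))) (nat_lit 24) (nat_lit 7),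
  Rule.mk (nat_lit 4) (nat_lit 61) (Steps.fwd (nat_lit 10240) (Steps.bwd (nat_lit 3) (Steps.fwd (nat_lit 12288) (Steps.bwd (nat_lit 4) Steps.nil)))) (nat_lit 36) (nat_lit 0),
  Rule.mk (nat_lit 2) (nat_lit 113) (Steps.bwd (nat_lit 4) (Steps.fwd (nat_lit 6144) (Steps.bwd (nat_lit 2) (Steps.bwd (nat_lit 3) (Steps.bwd (nat_lit 3) (Steps.bwd (nat_lit 3) (Steps.bwd (nat_lit 2) (Steps.bwd (nat_lit 4) Steps.nil)))))))) (nat_lit 24) (nat_lit 3),
  Rule.mk (nat_lit 2) (nat_lit 113) (Steps.bwd (nat_lit 3) (Steps.fwd (nat_lit 8192) (Steps.fwd (nat_lit 8192) (Steps.fwd (nat_lit 4096) (Steps.bwd (nat_lit 4) (Steps.fwd (nat_lit 4096) (Steps.bwd (nat_lit 4) (Steps.bwd (nat_lit 4) Steps.nil)))))))) (nat_lit 24) (nat_lit 8)]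
noncomputable def R_5 : List (Rule) := [Rule.mk (nat_lit 4) (nat_lit 113) (Steps.bwd (nat_lit 4) (Steps.bwd (nat_lit 2) (Steps.bwd (nat_lit 3) (Steps.bwd (nat_lit 3) (Steps.fwd (nat_lit 8192) (Steps.bwd (nat_lit 2) (Steps.bwd (nat_lit 4) (Steps.bwd (nat_lit 2) Steps.nil)))))))) (nat_lit 24) (nat_lit 6),
  Rule.mk (nat_lit 1) (nat_lit 74) (Steps.bwd (nat_lit 2) (Steps.fwd (nat_lit 2048) (Steps.bwd (nat_lit 2) (Steps.fwd (nat_lit 2048) (Steps.bwd (nat_lit 2) Steps.nil))))) (nat_lit 14) (nat_lit 1),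
  Rule.mk (nat_lit 4) (nat_lit 113) (Steps.bwd (nat_lit 2) (Steps.bwd (nat_lit 4) (Steps.fwd (nat_lit 6144) (Steps.bwd (nat_lit 2) (Steps.bwd (nat_lit 3) (Steps.bwd (nat_lit 3) (Steps.bwd (nat_lit 3) (Steps.bwd (nat_lit 2) Steps.nil)))))))) (nat_lit 24) (nat_lit 2),
  Rule.mk (nat_lit 4) (nat_lit 87) (Steps.bwd (nat_lit 4) (Steps.fwd (nat_lit 6144) (Steps.bwd (nat_lit 4) (Steps.bwd (nat_lit 4) (Steps.bwd (nat_lit 4) (Steps.bwd (nat_lit 4) Steps.nil)))))) (nat_lit 17) (nat_lit 0),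
  Rule.mk (nat_lit 2) (nat_lit 113) (Steps.bwd (nat_lit 4) (Steps.fwd (nat_lit 6144) (Steps.fwd (nat_lit 4096) (Steps.fwd (nat_lit 8192) (Steps.bwd (nat_lit 3) (Steps.bwd (nat_lit 3) (Steps.bwd (nat_lit 2) (Steps.bwd (nat_lit 4) Steps.nil)))))))) (nat_lit 24) (nat_lit 3),
  Rule.mk (nat_lit 4) (nat_lit 113) (Steps.bwd (nat_lit 4) (Steps.fwd (nat_lit 4096) (Steps.bwd (nat_lit 3) (Steps.fwd (nat_lit 8192) (Steps.bwd (nat_lit 3) (Steps.bwd (nat_lit 2) (Steps.fwd (nat_lit 6144) (Steps.bwd (nat_lit 2) Steps.nil)))))))) (nat_lit 24) (nat_lit 6),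
  Rule.mk (nat_lit 4) (nat_lit 113) (Steps.bwd (nat_lit 2) (Steps.bwd (nat_lit 3) (Steps.bwd (nat_lit 3) (Steps.bwd (nat_lit 3) (Steps.bwd (nat_lit 2) (Steps.fwd (nat_lit 6144) (Steps.fwd (nat_lit 4096) (Steps.fwd (nat_lit 6144) Steps.nil)))))))) (nat_lit 24) (nat_lit 7),
  Rule.mk (nat_lit 2) (nat_lit 113) (Steps.bwd (nat_lit 4) (Steps.bwd (nat_lit 4) (Steps.bwd (nat_lit 2) (Steps.fwd (nat_lit 8192) (Steps.bwd (nat_lit 3) (Steps.bwd (nat_lit 3) (Steps.bwd (nat_lit 2) (Steps.fwd (nat_lit 6144) Steps.nil)))))))) (nat_lit 24) (nat_lit 3),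
  Rule.mk (nat_lit 2) (nat_lit 113) (Steps.bwd (nat_lit 4) (Steps.bwd (nat_lit 2) (Steps.fwd (nat_lit 6144) (Steps.fwd (nat_lit 6144) (Steps.bwd (nat_lit 2) (Steps.bwd (nat_lit 3) (Steps.bwd (nat_lit 3) (Steps.bwd (nat_lit 3) Steps.nil)))))))) (nat_lit 24) (nat_lit 1),
  Rule.mk (nat_lit 2) (nat_lit 113) (Steps.bwd (nat_lit 4) (Steps.fwd (nat_lit 6144) (Steps.bwd (nat_lit 2) (Steps.fwd (nat_lit 8192) (Steps.fwd (nat_lit 8192) (Steps.bwd (nat_lit 3) (Steps.bwd (nat_lit 2) (Steps.bwd (nat_lit 4) Steps.nil)))))))) (nat_lit 24) (nat_lit 3),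
  Rule.mk (nat_lit 4) (nat_lit 113) (Steps.bwd (nat_lit 2) (Steps.fwd (nat_lit 8192) (Steps.fwd (nat_lit 8192) (Steps.fwd (nat_lit 8192) (Steps.fwd (nat_lit 4096) (Steps.fwd (nat_lit 6144) (Steps.bwd (nat_lit 2) (Steps.fwd (nat_lit 6144) Steps.nil)))))))) (nat_lit 24) (nat_lit 7),
  Rule.mk (nat_lit 2) (nat_lit 74) (Steps.bwd (nat_lit 1) (Steps.fwd (nat_lit 4096) (Steps.bwd (nat_lit 1) (Steps.fwd (nat_lit 4096) (Steps.fwd (nat_lit 2048) Steps.nil))))) (nat_lit 14) (nat_lit 0),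
  Rule.mk (nat_lit 6) (nat_lit 61) (Steps.bwd (nat_lit 4) (Steps.bwd (nat_lit 5) (Steps.bwd (nat_lit 3) (Steps.fwd (nat_lit 8192) Steps.nil)))) (nat_lit 37) (nat_lit 3),
  Rule.mk (nat_lit 3) (nat_lit 113) (Steps.bwd (nat_lit 2) (Steps.fwd (nat_lit 6144) (Steps.fwd (nat_lit 4096) (Steps.fwd (nat_lit 6144) (Steps.fwd (nat_lit 6144) (Steps.fwd (nat_lit 4096) (Steps.fwd (nat_lit 8192) (Steps.fwd (nat_lit 8192) Steps.nil)))))))) (nat_lit 24) (nat_lit 0),
  Rule.mk (nat_lit 6) (nat_lit 61) (Steps.bwd (nat_lit 3) (Steps.bwd (nat_lit 5) (Steps.bwd (nat_lit 4) (Steps.fwd (nat_lit 6144) Steps.nil)))) (nat_lit 36) (nat_lit 1),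
  Rule.mk (nat_lit 1) (nat_lit 48) (Steps.fwd (nat_lit 12288) (Steps.fwd (nat_lit 2048) (Steps.bwd (nat_lit 6) Steps.nil))) (nat_lit 32) (nat_lit 2),
  Rule.mk (nat_lit 3) (nat_lit 61) (Steps.fwd (nat_lit 12288) (Steps.bwd (nat_lit 4) (Steps.fwd (nat_lit 6144) (Steps.bwd (nat_lit 6) Steps.nil)))) (nat_lit 36) (nat_lit 2),
  Rule.mk (nat_lit 3) (nat_lit 87) (Steps.bwd (nat_lit 3) (Steps.fwd (nat_lit 8192) (Steps.fwd (nat_lit 8192) (Steps.bwd (nat_lit 3) (Steps.fwd (nat_lit 8192) (Steps.bwd (nat_lit 3) Steps.nil)))))) (nat_lit 16) (nat_lit 0),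
  Rule.mk (nat_lit 3) (nat_lit 87) (Steps.bwd (nat_lit 3) (Steps.bwd (nat_lit 3) (Steps.fwd (nat_lit 8192) (Steps.bwd (nat_lit 3) (Steps.fwd (nat_lit 8192) (Steps.bwd (nat_lit 3) Steps.nil)))))) (nat_lit 16) (nat_lit 0),
  Rule.mk (nat_lit 2) (nat_lit 113) (Steps.fwd (nat_lit 6144) (Steps.fwd (nat_lit 4096) (Steps.fwd (nat_lit 6144) (Steps.fwd (nat_lit 6144) (Steps.bwd (nat_lit 2) (Steps.fwd (nat_lit 8192) (Steps.bwd (nat_lit 3) (Steps.bwd (nat_lit 3) Steps.nil)))))))) (nat_lit 24) (nat_lit 1),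
  Rule.mk (nat_lit 4) (nat_lit 113) (Steps.bwd (nat_lit 2) (Steps.bwd (nat_lit 3) (Steps.fwd (nat_lit 8192) (Steps.bwd (nat_lit 3) (Steps.fwd (nat_lit 4096) (Steps.fwd (nat_lit 6144) (Steps.fwd (nat_lit 4096) (Steps.fwd (nat_lit 6144) Steps.nil)))))))) (nat_lit 24) (nat_lit 7),
  Rule.mk (nat_lit 2) (nat_lit 113) (Steps.bwd (nat_lit 4) (Steps.bwd (nat_lit 4) (Steps.bwd (nat_lit 2) (Steps.fwd (nat_lit 8192) (Steps.bwd (nat_lit 3) (Steps.bwd (nat_lit 3) (Steps.fwd (nat_lit 4096) (Steps.bwd (nat_lit 4) Steps.nil)))))))) (nat_lit 24) (nat_lit 3),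
  Rule.mk (nat_lit 2) (nat_lit 113) (Steps.bwd (nat_lit 4) (Steps.bwd (nat_lit 4) (Steps.bwd (nat_lit 2) (Steps.fwd (nat_lit 8192) (Steps.bwd (nat_lit 3) (Steps.bwd (nat_lit 3) (Steps.fwd (nat_lit 4096) (Steps.fwd (nat_lit 6144) Steps.nil)))))))) (nat_lit 24) (nat_lit 3),
  Rule.mk (nat_lit 2) (nat_lit 113) (Steps.bwd (nat_lit 4) (Steps.fwd (nat_lit 4096) (Steps.fwd (nat_lit 6144) (Steps.fwd (nat_lit 6144) (Steps.bwd (nat_lit 2) (Steps.bwd (nat_lit 3) (Steps.bwd (nat_lit 3) (Steps.bwd (nat_lit 3) Steps.nil)))))))) (nat_lit 24) (nat_lit 1),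
  Rule.mk (nat_lit 3) (nat_lit 61) (Steps.fwd (nat_lit 8192) (Steps.fwd (nat_lit 10240) (Steps.fwd (nat_lit 6144) (Steps.bwd (nat_lit 5) Steps.nil)))) (nat_lit 37) (nat_lit 1),
  Rule.mk (nat_lit 4) (nat_lit 113) (Steps.fwd (nat_lit 4096) (Steps.bwd (nat_lit 3) (Steps.fwd (nat_lit 8192) (Steps.bwd (nat_lit 2) (Steps.fwd (nat_lit 8192) (Steps.bwd (nat_lit 2) (Steps.bwd (nat_lit 4) (Steps.bwd (nat_lit 4) Steps.nil)))))))) (nat_lit 25) (nat_lit 3),
  Rule.mk (nat_lit 2) (nat_lit 113) (Steps.bwd (nat_lit 4) (Steps.bwd (nat_lit 2) (Steps.fwd (nat_lit 6144) (Steps.fwd (nat_lit 6144) (Steps.fwd (nat_lit 4096) (Steps.bwd (nat_lit 3) (Steps.fwd (nat_lit 8192) (Steps.bwd (nat_lit 3) Steps.nil)))))))) (nat_lit 24) (nat_lit 1),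
  Rule.mk (nat_lit 4) (nat_lit 113) (Steps.bwd (nat_lit 4) (Steps.bwd (nat_lit 2) (Steps.bwd (nat_lit 3) (Steps.fwd (nat_lit 8192) (Steps.fwd (nat_lit 8192) (Steps.bwd (nat_lit 2) (Steps.fwd (nat_lit 6144) (Steps.bwd (nat_lit 2) Steps.nil)))))))) (nat_lit 24) (nat_lit 6),
  Rule.mk (nat_lit 3) (nat_lit 113) (Steps.bwd (nat_lit 2) (Steps.fwd (nat_lit 6144) (Steps.bwd (nat_lit 4) (Steps.fwd (nat_lit 6144) (Steps.bwd (nat_lit 2) (Steps.fwd (nat_lit 8192) (Steps.fwd (nat_lit 8192) (Steps.bwd (nat_lit 2) Steps.nil)))))))) (nat_lit 25) (nat_lit 10),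
  Rule.mk (nat_lit 2) (nat_lit 113) (Steps.bwd (nat_lit 4) (Steps.bwd (nat_lit 4) (Steps.bwd (nat_lit 2) (Steps.fwd (nat_lit 8192) (Steps.bwd (nat_lit 3) (Steps.fwd (nat_lit 8192) (Steps.fwd (nat_lit 4096) (Steps.fwd (nat_lit 6144) Steps.nil)))))))) (nat_lit 24) (nat_lit 3),
  Rule.mk (nat_lit 3) (nat_lit 87) (Steps.bwd (nat_lit 3) (Steps.fwd (nat_lit 8192) (Steps.fwd (nat_lit 8192) (Steps.fwd (nat_lit 8192) (Steps.bwd (nat_lit 3) (Steps.fwd (nat_lit 8192) Steps.nil)))))) (nat_lit 16) (nat_lit 0),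
  Rule.mk (nat_lit 2) (nat_lit 113) (Steps.fwd (nat_lit 6144) (Steps.bwd (nat_lit 4) (Steps.bwd (nat_lit 2) (Steps.bwd (nat_lit 3) (Steps.fwd (nat_lit 8192) (Steps.fwd (nat_lit 8192) (Steps.bwd (nat_lit 2) (Steps.bwd (nat_lit 4) Steps.nil)))))))) (nat_lit 24) (nat_lit 3),
  Rule.mk (nat_lit 4) (nat_lit 113) (Steps.fwd (nat_lit 6144) (Steps.fwd (nat_lit 4096) (Steps.bwd (nat_lit 3) (Steps.fwd (nat_lit 8192) (Steps.bwd (nat_lit 3) (Steps.fwd (nat_lit 4096) (Steps.fwd (nat_lit 6144) (Steps.bwd (nat_lit 2) Steps.nil)))))))) (nat_lit 24) (nat_lit 6),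
  Rule.mk (nat_lit 1) (nat_lit 74) (Steps.fwd (nat_lit 4096) (Steps.fwd (nat_lit 2048) (Steps.bwd (nat_lit 2) (Steps.bwd (nat_lit 1) (Steps.bwd (nat_lit 2) Steps.nil))))) (nat_lit 14) (nat_lit 1),
  Rule.mk (nat_lit 1) (nat_lit 48) (Steps.bwd (nat_lit 6) (Steps.bwd (nat_lit 1) (Steps.fwd (nat_lit 12288) Steps.nil))) (nat_lit 32) (nat_lit 0),
  Rule.mk (nat_lit 2) (nat_lit 48) (Steps.bwd (nat_lit 5) (Steps.fwd (nat_lit 4096) (Steps.bwd (nat_lit 6) Steps.nil))) (nat_lit 34) (nat_lit 2),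
  Rule.mk (nat_lit 4) (nat_lit 113) (Steps.bwd (nat_lit 4) (Steps.bwd (nat_lit 2) (Steps.bwd (nat_lit 3) (Steps.bwd (nat_lit 3) (Steps.bwd (nat_lit 3) (Steps.bwd (nat_lit 2) (Steps.fwd (nat_lit 6144) (Steps.fwd (nat_lit 4096) Steps.nil)))))))) (nat_lit 24) (nat_lit 6),
  Rule.mk (nat_lit 3) (nat_lit 87) (Steps.bwd (nat_lit 3) (Steps.bwd (nat_lit 3) (Steps.fwd (nat_lit 8192) (Steps.bwd (nat_lit 3) (Steps.fwd (nat_lit 8192) (Steps.fwd (nat_lit 8192) Steps.nil)))))) (nat_lit 16) (nat_lit 0),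
  Rule.mk (nat_lit 2) (nat_lit 113) (Steps.bwd (nat_lit 4) (Steps.bwd (nat_lit 2) (Steps.bwd (nat_lit 4) (Steps.fwd (nat_lit 6144) (Steps.fwd (nat_lit 4096) (Steps.fwd (nat_lit 8192) (Steps.fwd (nat_lit 8192) (Steps.bwd (nat_lit 3) Steps.nil)))))))) (nat_lit 24) (nat_lit 1),
  Rule.mk (nat_lit 4) (nat_lit 113) (Steps.bwd (nat_lit 4) (Steps.bwd (nat_lit 2) (Steps.bwd (nat_lit 3) (Steps.fwd (nat_lit 8192) (Steps.bwd (nat_lit 3) (Steps.bwd (nat_lit 2) (Steps.fwd (nat_lit 6144) (Steps.bwd (nat_lit 2) Steps.nil)))))))) (nat_lit 24) (nat_lit 6),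
  Rule.mk (nat_lit 2) (nat_lit 113) (Steps.fwd (nat_lit 6144) (Steps.bwd (nat_lit 4) (Steps.fwd (nat_lit 4096) (Steps.bwd (nat_lit 3) (Steps.bwd (nat_lit 3) (Steps.bwd (nat_lit 3) (Steps.bwd (nat_lit 2) (Steps.bwd (nat_lit 4) Steps.nil)))))))) (nat_lit 24) (nat_lit 3),
  Rule.mk (nat_lit 4) (nat_lit 113) (Steps.bwd (nat_lit 4) (Steps.bwd (nat_lit 4) (Steps.bwd (nat_lit 2) (Steps.fwd (nat_lit 8192) (Steps.bwd (nat_lit 3) (Steps.fwd (nat_lit 4096) (Steps.bwd (nat_lit 3) (Steps.fwd (nat_lit 4096) Steps.nil)))))))) (nat_lit 25) (nat_lit 1),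
  Rule.mk (nat_lit 4) (nat_lit 113) (Steps.bwd (nat_lit 2) (Steps.bwd (nat_lit 4) (Steps.fwd (nat_lit 6144) (Steps.bwd (nat_lit 2) (Steps.fwd (nat_lit 8192) (Steps.bwd (nat_lit 3) (Steps.bwd (nat_lit 3) (Steps.fwd (nat_lit 4096) Steps.nil)))))))) (nat_lit 24) (nat_lit 2),
  Rule.mk (nat_lit 3) (nat_lit 113) (Steps.bwd (nat_lit 3) (Steps.fwd (nat_lit 4096) (Steps.bwd (nat_lit 3) (Steps.bwd (nat_lit 2) (Steps.bwd (nat_lit 4) (Steps.bwd (nat_lit 4) (Steps.bwd (nat_lit 4) (Steps.bwd (nat_lit 2) Steps.nil)))))))) (nat_lit 25) (nat_lit 5),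
  Rule.mk (nat_lit 4) (nat_lit 113) (Steps.bwd (nat_lit 2) (Steps.bwd (nat_lit 4) (Steps.fwd (nat_lit 6144) (Steps.bwd (nat_lit 2) (Steps.bwd (nat_lit 3) (Steps.bwd (nat_lit 3) (Steps.bwd (nat_lit 3) (Steps.fwd (nat_lit 4096) Steps.nil)))))))) (nat_lit 24) (nat_lit 2),
  Rule.mk (nat_lit 2) (nat_lit 113) (Steps.fwd (nat_lit 6144) (Steps.bwd (nat_lit 2) (Steps.fwd (nat_lit 6144) (Steps.fwd (nat_lit 6144) (Steps.bwd (nat_lit 2) (Steps.bwd (nat_lit 3) (Steps.fwd (nat_lit 8192) (Steps.bwd (nat_lit 3) Steps.nil)))))))) (nat_lit 24) (nat_lit 1),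
  Rule.mk (nat_lit 4) (nat_lit 113) (Steps.bwd (nat_lit 2) (Steps.bwd (nat_lit 4) (Steps.fwd (nat_lit 6144) (Steps.bwd (nat_lit 2) (Steps.bwd (nat_lit 3) (Steps.bwd (nat_lit 3) (Steps.fwd (nat_lit 8192) (Steps.bwd (nat_lit 2) Steps.nil)))))))) (nat_lit 24) (nat_lit 2),
  Rule.mk (nat_lit 4) (nat_lit 113) (Steps.bwd (nat_lit 2) (Steps.fwd (nat_lit 8192) (Steps.fwd (nat_lit 8192) (Steps.fwd (nat_lit 8192) (Steps.fwd (nat_lit 4096) (Steps.fwd (nat_lit 6144) (Steps.bwd (nat_lit 2) (Steps.bwd (nat_lit 4) Steps.nil)))))))) (nat_lit 24) (nat_lit 7),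
  Rule.mk (nat_lit 3) (nat_lit 61) (Steps.fwd (nat_lit 12288) (Steps.bwd (nat_lit 4) (Steps.bwd (nat_lit 4) (Steps.bwd (nat_lit 6) Steps.nil)))) (nat_lit 36) (nat_lit 2),
  Rule.mk (nat_lit 2) (nat_lit 113) (Steps.fwd (nat_lit 8192) (Steps.bwd (nat_lit 3) (Steps.bwd (nat_lit 2) (Steps.fwd (nat_lit 8192) (Steps.fwd (nat_lit 4096) (Steps.fwd (nat_lit 6144) (Steps.fwd (nat_lit 6144) (Steps.fwd (nat_lit 6144) Steps.nil)))))))) (nat_lit 25) (nat_lit 4),
  Rule.mk (nat_lit 1) (nat_lit 74) (Steps.fwd (nat_lit 4096) (Steps.fwd (nat_lit 2048) (Steps.fwd (nat_lit 4096) (Steps.bwd (nat_lit 1) (Steps.bwd (nat_lit 2) Steps.nil))))) (nat_lit 14) (nat_lit 1),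
  Rule.mk (nat_lit 2) (nat_lit 113) (Steps.bwd (nat_lit 4) (Steps.fwd (nat_lit 6144) (Steps.fwd (nat_lit 4096) (Steps.bwd (nat_lit 3) (Steps.bwd (nat_lit 3) (Steps.bwd (nat_lit 3) (Steps.bwd (nat_lit 2) (Steps.bwd (nat_lit 4) Steps.nil)))))))) (nat_lit 24) (nat_lit 3),
  Rule.mk (nat_lit 4) (nat_lit 61) (Steps.bwd (nat_lit 5) (Steps.fwd (nat_lit 8192) (Steps.bwd (nat_lit 3) (Steps.fwd (nat_lit 10240) Steps.nil)))) (nat_lit 37) (nat_lit 4),
  Rule.mk (nat_lit 3) (nat_lit 113) (Steps.fwd (nat_lit 8192) (Steps.bwd (nat_lit 2) (Steps.fwd (nat_lit 8192) (Steps.fwd (nat_lit 4096) (Steps.bwd (nat_lit 4) (Steps.bwd (nat_lit 4) (Steps.bwd (nat_lit 4) (Steps.bwd (nat_lit 2) Steps.nil)))))))) (nat_lit 25) (nat_lit 5),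
  Rule.mk (nat_lit 3) (nat_lit 113) (Steps.bwd (nat_lit 3) (Steps.fwd (nat_lit 8192) (Steps.bwd (nat_lit 2) (Steps.fwd (nat_lit 6144) (Steps.fwd (nat_lit 4096) (Steps.bwd (nat_lit 4) (Steps.fwd (nat_lit 6144) (Steps.fwd (nat_lit 4096) Steps.nil)))))))) (nat_lit 24) (nat_lit 9),
  Rule.mk (nat_lit 2) (nat_lit 113) (Steps.fwd (nat_lit 6144) (Steps.bwd (nat_lit 4) (Steps.bwd (nat_lit 2) (Steps.bwd (nat_lit 3) (Steps.bwd (nat_lit 3) (Steps.bwd (nat_lit 3) (Steps.bwd (nat_lit 2) (Steps.bwd (nat_lit 4) Steps.nil)))))))) (nat_lit 24) (nat_lit 3),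
  Rule.mk (nat_lit 5) (nat_lit 61) (Steps.fwd (nat_lit 8192) (Steps.bwd (nat_lit 3) (Steps.bwd (nat_lit 6) (Steps.bwd (nat_lit 4) Steps.nil)))) (nat_lit 37) (nat_lit 0),
  Rule.mk (nat_lit 4) (nat_lit 113) (Steps.bwd (nat_lit 2) (Steps.fwd (nat_lit 8192) (Steps.fwd (nat_lit 8192) (Steps.fwd (nat_lit 8192) (Steps.bwd (nat_lit 2) (Steps.fwd (nat_lit 6144) (Steps.fwd (nat_lit 4096) (Steps.fwd (nat_lit 6144) Steps.nil)))))))) (nat_lit 24) (nat_lit 7),
  Rule.mk (nat_lit 2) (nat_lit 113) (Steps.bwd (nat_lit 4) (Steps.bwd (nat_lit 4) (Steps.bwd (nat_lit 2) (Steps.bwd (nat_lit 3) (Steps.bwd (nat_lit 3) (Steps.fwd (nat_lit 8192) (Steps.bwd (nat_lit 2) (Steps.bwd (nat_lit 4) Steps.nil)))))))) (nat_lit 24) (nat_lit 3),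
  Rule.mk (nat_lit 4) (nat_lit 113) (Steps.bwd (nat_lit 2) (Steps.fwd (nat_lit 8192) (Steps.fwd (nat_lit 8192) (Steps.fwd (nat_lit 8192) (Steps.fwd (nat_lit 4096) (Steps.fwd (nat_lit 6144) (Steps.fwd (nat_lit 4096) (Steps.fwd (nat_lit 6144) Steps.nil)))))))) (nat_lit 24) (nat_lit 7),
  Rule.mk (nat_lit 4) (nat_lit 113) (Steps.bwd (nat_lit 2) (Steps.bwd (nat_lit 4) (Steps.bwd (nat_lit 4) (Steps.bwd (nat_lit 2) (Steps.fwd (nat_lit 8192) (Steps.bwd (nat_lit 3) (Steps.fwd (nat_lit 8192) (Steps.fwd (nat_lit 4096) Steps.nil)))))))) (nat_lit 24) (nat_lit 2),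
  Rule.mk (nat_lit 1) (nat_lit 74) (Steps.fwd (nat_lit 4096) (Steps.bwd (nat_lit 1) (Steps.bwd (nat_lit 2) (Steps.bwd (nat_lit 1) (Steps.bwd (nat_lit 2) Steps.nil))))) (nat_lit 14) (nat_lit 1),
  Rule.mk (nat_lit 6) (nat_lit 61) (Steps.bwd (nat_lit 4) (Steps.fwd (nat_lit 12288) (Steps.bwd (nat_lit 3) (Steps.fwd (nat_lit 8192) Steps.nil)))) (nat_lit 37) (nat_lit 3),
  Rule.mk (nat_lit 2) (nat_lit 113) (Steps.bwd (nat_lit 4) (Steps.bwd (nat_lit 4) (Steps.fwd (nat_lit 4096) (Steps.bwd (nat_lit 3) (Steps.bwd (nat_lit 3) (Steps.fwd (nat_lit 8192) (Steps.fwd (nat_lit 4096) (Steps.bwd (nat_lit 4) Steps.nil)))))))) (nat_lit 24) (nat_lit 3)]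
noncomputable def R_6 : List (Rule) := [Rule.mk (nat_lit 4) (nat_lit 113) (Steps.bwd (nat_lit 2) (Steps.fwd (nat_lit 6144) (Steps.fwd (nat_lit 6144) (Steps.bwd (nat_lit 2) (Steps.bwd (nat_lit 3) (Steps.fwd (nat_lit 8192) (Steps.bwd (nat_lit 3) (Steps.bwd (nat_lit 2) Steps.nil)))))))) (nat_lit 24) (nat_lit 2),
  Rule.mk (nat_lit 3) (nat_lit 61) (Steps.bwd (nat_lit 3) (Steps.fwd (nat_lit 10240) (Steps.bwd (nat_lit 4) (Steps.fwd (nat_lit 12288) Steps.nil)))) (nat_lit 37) (nat_lit 1),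
  Rule.mk (nat_lit 4) (nat_lit 87) (Steps.fwd (nat_lit 6144) (Steps.bwd (nat_lit 4) (Steps.bwd (nat_lit 4) (Steps.bwd (nat_lit 4) (Steps.bwd (nat_lit 4) (Steps.bwd (nat_lit 4) Steps.nil)))))) (nat_lit 17) (nat_lit 0),
  Rule.mk (nat_lit 2) (nat_lit 113) (Steps.fwd (nat_lit 8192) (Steps.bwd (nat_lit 3) (Steps.bwd (nat_lit 3) (Steps.fwd (nat_lit 4096) (Steps.bwd (nat_lit 4) (Steps.bwd (nat_lit 2) (Steps.fwd (nat_lit 6144) (Steps.bwd (nat_lit 4) Steps.nil)))))))) (nat_lit 24) (nat_lit 8),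
  Rule.mk (nat_lit 2) (nat_lit 74) (Steps.bwd (nat_lit 1) (Steps.fwd (nat_lit 4096) (Steps.fwd (nat_lit 2048) (Steps.bwd (nat_lit 2) (Steps.bwd (nat_lit 1) Steps.nil))))) (nat_lit 14) (nat_lit 0),
  Rule.mk (nat_lit 2) (nat_lit 113) (Steps.bwd (nat_lit 4) (Steps.bwd (nat_lit 4) (Steps.bwd (nat_lit 2) (Steps.bwd (nat_lit 3) (Steps.fwd (nat_lit 8192) (Steps.bwd (nat_lit 3) (Steps.bwd (nat_lit 2) (Steps.bwd (nat_lit 4) Steps.nil)))))))) (nat_lit 24) (nat_lit 3),
  Rule.mk (nat_lit 4) (nat_lit 113) (Steps.bwd (nat_lit 2) (Steps.fwd (nat_lit 6144) (Steps.bwd (nat_lit 4) (Steps.fwd (nat_lit 4096) (Steps.bwd (nat_lit 3) (Steps.bwd (nat_lit 3) (Steps.fwd (nat_lit 8192) (Steps.bwd (nat_lit 2) Steps.nil)))))))) (nat_lit 24) (nat_lit 2),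
  Rule.mk (nat_lit 2) (nat_lit 113) (Steps.bwd (nat_lit 4) (Steps.fwd (nat_lit 4096) (Steps.bwd (nat_lit 4) (Steps.bwd (nat_lit 4) (Steps.bwd (nat_lit 2) (Steps.fwd (nat_lit 8192) (Steps.fwd (nat_lit 8192) (Steps.bwd (nat_lit 3) Steps.nil)))))))) (nat_lit 24) (nat_lit 1),
  Rule.mk (nat_lit 5) (nat_lit 48) (Steps.bwd (nat_lit 1) (Steps.bwd (nat_lit 6) (Steps.fwd (nat_lit 2048) Steps.nil))) (nat_lit 32) (nat_lit 3),
  Rule.mk (nat_lit 4) (nat_lit 113) (Steps.bwd (nat_lit 4) (Steps.fwd (nat_lit 4096) (Steps.fwd (nat_lit 8192) (Steps.fwd (nat_lit 8192) (Steps.fwd (nat_lit 8192) (Steps.fwd (nat_lit 4096) (Steps.bwd (nat_lit 4) (Steps.bwd (nat_lit 2) Steps.nil)))))))) (nat_lit 24) (nat_lit 6),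
  Rule.mk (nat_lit 4) (nat_lit 113) (Steps.bwd (nat_lit 4) (Steps.fwd (nat_lit 4096) (Steps.fwd (nat_lit 8192) (Steps.bwd (nat_lit 3) (Steps.fwd (nat_lit 8192) (Steps.fwd (nat_lit 4096) (Steps.bwd (nat_lit 4) (Steps.fwd (nat_lit 4096) Steps.nil)))))))) (nat_lit 24) (nat_lit 6),
  Rule.mk (nat_lit 2) (nat_lit 113) (Steps.bwd (nat_lit 4) (Steps.bwd (nat_lit 4) (Steps.bwd (nat_lit 2) (Steps.bwd (nat_lit 3) (Steps.fwd (nat_lit 8192) (Steps.bwd (nat_lit 3) (Steps.fwd (nat_lit 4096) (Steps.fwd (nat_lit 6144) Steps.nil)))))))) (nat_lit 24) (nat_lit 3),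
  Rule.mk (nat_lit 4) (nat_lit 113) (Steps.bwd (nat_lit 4) (Steps.fwd (nat_lit 4096) (Steps.bwd (nat_lit 3) (Steps.fwd (nat_lit 8192) (Steps.bwd (nat_lit 3) (Steps.fwd (nat_lit 4096) (Steps.fwd (nat_lit 6144) (Steps.bwd (nat_lit 2) Steps.nil)))))))) (nat_lit 24) (nat_lit 6),
  Rule.mk (nat_lit 2) (nat_lit 113) (Steps.bwd (nat_lit 4) (Steps.fwd (nat_lit 6144) (Steps.bwd (nat_lit 2) (Steps.bwd (nat_lit 3) (Steps.bwd (nat_lit 3) (Steps.fwd (nat_lit 8192) (Steps.bwd (nat_lit 2) (Steps.bwd (nat_lit 4) Steps.nil)))))))) (nat_lit 24) (nat_lit 3),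
  Rule.mk (nat_lit 3) (nat_lit 61) (Steps.bwd (nat_lit 6) (Steps.fwd (nat_lit 6144) (Steps.fwd (nat_lit 12288) (Steps.bwd (nat_lit 3) Steps.nil)))) (nat_lit 37) (nat_lit 2),
  Rule.mk (nat_lit 2) (nat_lit 48) (Steps.bwd (nat_lit 6) (Steps.bwd (nat_lit 2) (Steps.fwd (nat_lit 12288) Steps.nil))) (nat_lit 34) (nat_lit 0),
  Rule.mk (nat_lit 4) (nat_lit 113) (Steps.bwd (nat_lit 4) (Steps.bwd (nat_lit 2) (Steps.fwd (nat_lit 8192) (Steps.bwd (nat_lit 3) (Steps.fwd (nat_lit 8192) (Steps.fwd (nat_lit 4096) (Steps.fwd (nat_lit 6144) (Steps.fwd (nat_lit 4096) Steps.nil)))))))) (nat_lit 24) (nat_lit 6),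
  Rule.mk (nat_lit 4) (nat_lit 113) (Steps.bwd (nat_lit 2) (Steps.bwd (nat_lit 4) (Steps.bwd (nat_lit 4) (Steps.bwd (nat_lit 2) (Steps.bwd (nat_lit 3) (Steps.fwd (nat_lit 8192) (Steps.bwd (nat_lit 3) (Steps.fwd (nat_lit 4096) Steps.nil)))))))) (nat_lit 24) (nat_lit 2),
  Rule.mk (nat_lit 2) (nat_lit 113) (Steps.bwd (nat_lit 3) (Steps.fwd (nat_lit 8192) (Steps.fwd (nat_lit 8192) (Steps.bwd (nat_lit 2) (Steps.bwd (nat_lit 4) (Steps.fwd (nat_lit 4096) (Steps.bwd (nat_lit 4) (Steps.bwd (nat_lit 4) Steps.nil)))))))) (nat_lit 24) (nat_lit 8),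
  Rule.mk (nat_lit 4) (nat_lit 113) (Steps.bwd (nat_lit 2) (Steps.bwd (nat_lit 3) (Steps.bwd (nat_lit 3) (Steps.bwd (nat_lit 3) (Steps.bwd (nat_lit 2) (Steps.bwd (nat_lit 4) (Steps.bwd (nat_lit 2) (Steps.bwd (nat_lit 4) Steps.nil)))))))) (nat_lit 24) (nat_lit 7),
  Rule.mk (nat_lit 2) (nat_lit 113) (Steps.bwd (nat_lit 4) (Steps.bwd (nat_lit 2) (Steps.fwd (nat_lit 6144) (Steps.bwd (nat_lit 4) (Steps.fwd (nat_lit 4096) (Steps.fwd (nat_lit 8192) (Steps.bwd (nat_lit 3) (Steps.bwd (nat_lit 3) Steps.nil)))))))) (nat_lit 24) (nat_lit 1),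
  Rule.mk (nat_lit 3) (nat_lit 87) (Steps.fwd (nat_lit 8192) (Steps.bwd (nat_lit 3) (Steps.fwd (nat_lit 8192) (Steps.fwd (nat_lit 8192) (Steps.bwd (nat_lit 3) (Steps.bwd (nat_lit 3) Steps.nil)))))) (nat_lit 16) (nat_lit 0),
  Rule.mk (nat_lit 2) (nat_lit 113) (Steps.fwd (nat_lit 6144) (Steps.bwd (nat_lit 2) (Steps.fwd (nat_lit 6144) (Steps.bwd (nat_lit 4) (Steps.bwd (nat_lit 2) (Steps.fwd (nat_lit 8192) (Steps.bwd (nat_lit 3) (Steps.bwd (nat_lit 3) Steps.nil)))))))) (nat_lit 24) (nat_lit 1),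
  Rule.mk (nat_lit 5) (nat_lit 61) (Steps.bwd (nat_lit 3) (Steps.fwd (nat_lit 8192) (Steps.bwd (nat_lit 6) (Steps.fwd (nat_lit 6144) Steps.nil)))) (nat_lit 37) (nat_lit 0),
  Rule.mk (nat_lit 4) (nat_lit 113) (Steps.bwd (nat_lit 4) (Steps.fwd (nat_lit 4096) (Steps.bwd (nat_lit 3) (Steps.bwd (nat_lit 3) (Steps.bwd (nat_lit 3) (Steps.fwd (nat_lit 4096) (Steps.fwd (nat_lit 6144) (Steps.fwd (nat_lit 4096) Steps.nil)))))))) (nat_lit 24) (nat_lit 6),
  Rule.mk (nat_lit 2) (nat_lit 113) (Steps.fwd (nat_lit 8192) (Steps.bwd (nat_lit 3) (Steps.bwd (nat_lit 3) (Steps.fwd (nat_lit 4096) (Steps.bwd (nat_lit 4) (Steps.fwd (nat_lit 4096) (Steps.bwd (nat_lit 4) (Steps.bwd (nat_lit 4) Steps.nil)))))))) (nat_lit 24) (nat_lit 8),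
  Rule.mk (nat_lit 4) (nat_lit 113) (Steps.bwd (nat_lit 2) (Steps.bwd (nat_lit 4) (Steps.fwd (nat_lit 6144) (Steps.fwd (nat_lit 4096) (Steps.bwd (nat_lit 3) (Steps.bwd (nat_lit 3) (Steps.fwd (nat_lit 8192) (Steps.bwd (nat_lit 2) Steps.nil)))))))) (nat_lit 24) (nat_lit 2),
  Rule.mk (nat_lit 4) (nat_lit 113) (Steps.fwd (nat_lit 4096) (Steps.bwd (nat_lit 3) (Steps.fwd (nat_lit 8192) (Steps.bwd (nat_lit 3) (Steps.bwd (nat_lit 2) (Steps.fwd (nat_lit 6144) (Steps.bwd (nat_lit 2) (Steps.bwd (nat_lit 4) Steps.nil)))))))) (nat_lit 24) (nat_lit 7),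
  Rule.mk (nat_lit 3) (nat_lit 113) (Steps.fwd (nat_lit 8192) (Steps.fwd (nat_lit 8192) (Steps.bwd (nat_lit 2) (Steps.fwd (nat_lit 6144) (Steps.bwd (nat_lit 2) (Steps.bwd (nat_lit 4) (Steps.bwd (nat_lit 4) (Steps.bwd (nat_lit 2) Steps.nil)))))))) (nat_lit 24) (nat_lit 9),
  Rule.mk (nat_lit 6) (nat_lit 61) (Steps.bwd (nat_lit 3) (Steps.fwd (nat_lit 12288) (Steps.bwd (nat_lit 4) (Steps.fwd (nat_lit 6144) Steps.nil)))) (nat_lit 36) (nat_lit 1),
  Rule.mk (nat_lit 2) (nat_lit 113) (Steps.fwd (nat_lit 8192) (Steps.bwd (nat_lit 3) (Steps.fwd (nat_lit 8192) (Steps.bwd (nat_lit 2) (Steps.fwd (nat_lit 6144) (Steps.fwd (nat_lit 4096) (Steps.fwd (nat_lit 6144) (Steps.bwd (nat_lit 4) Steps.nil)))))))) (nat_lit 24) (nat_lit 8),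
  Rule.mk (nat_lit 3) (nat_lit 113) (Steps.fwd (nat_lit 8192) (Steps.fwd (nat_lit 8192) (Steps.fwd (nat_lit 4096) (Steps.fwd (nat_lit 6144) (Steps.fwd (nat_lit 4096) (Steps.bwd (nat_lit 4) (Steps.fwd (nat_lit 6144) (Steps.bwd (nat_lit 2) Steps.nil)))))))) (nat_lit 24) (nat_lit 9),
  Rule.mk (nat_lit 4) (nat_lit 113) (Steps.fwd (nat_lit 4096) (Steps.fwd (nat_lit 6144) (Steps.bwd (nat_lit 4) (Steps.bwd (nat_lit 2) (Steps.bwd (nat_lit 3) (Steps.fwd (nat_lit 8192) (Steps.bwd (nat_lit 3) (Steps.bwd (nat_lit 2) Steps.nil)))))))) (nat_lit 24) (nat_lit 2),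
  Rule.mk (nat_lit 4) (nat_lit 113) (Steps.bwd (nat_lit 2) (Steps.bwd (nat_lit 4) (Steps.fwd (nat_lit 6144) (Steps.fwd (nat_lit 4096) (Steps.bwd (nat_lit 3) (Steps.bwd (nat_lit 3) (Steps.fwd (nat_lit 8192) (Steps.fwd (nat_lit 4096) Steps.nil)))))))) (nat_lit 24) (nat_lit 2),
  Rule.mk (nat_lit 4) (nat_lit 113) (Steps.fwd (nat_lit 4096) (Steps.fwd (nat_lit 6144) (Steps.fwd (nat_lit 6144) (Steps.bwd (nat_lit 2) (Steps.bwd (nat_lit 3) (Steps.bwd (nat_lit 3) (Steps.fwd (nat_lit 8192) (Steps.bwd (nat_lit 2) Steps.nil)))))))) (nat_lit 24) (nat_lit 2),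
  Rule.mk (nat_lit 3) (nat_lit 113) (Steps.bwd (nat_lit 2) (Steps.bwd (nat_lit 4) (Steps.fwd (nat_lit 6144) (Steps.bwd (nat_lit 4) (Steps.bwd (nat_lit 2) (Steps.bwd (nat_lit 3) (Steps.fwd (nat_lit 8192) (Steps.bwd (nat_lit 2) Steps.nil)))))))) (nat_lit 25) (nat_lit 10),
  Rule.mk (nat_lit 3) (nat_lit 87) (Steps.fwd (nat_lit 8192) (Steps.fwd (nat_lit 8192) (Steps.bwd (nat_lit 3) (Steps.bwd (nat_lit 3) (Steps.fwd (nat_lit 8192) (Steps.bwd (nat_lit 3) Steps.nil)))))) (nat_lit 16) (nat_lit 0),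
  Rule.mk (nat_lit 3) (nat_lit 87) (Steps.fwd (nat_lit 8192) (Steps.bwd (nat_lit 3) (Steps.fwd (nat_lit 8192) (Steps.fwd (nat_lit 8192) (Steps.fwd (nat_lit 8192) (Steps.bwd (nat_lit 3) Steps.nil)))))) (nat_lit 16) (nat_lit 0),
  Rule.mk (nat_lit 2) (nat_lit 113) (Steps.fwd (nat_lit 6144) (Steps.bwd (nat_lit 4) (Steps.fwd (nat_lit 6144) (Steps.fwd (nat_lit 4096) (Steps.fwd (nat_lit 8192) (Steps.bwd (nat_lit 3) (Steps.bwd (nat_lit 2) (Steps.bwd (nat_lit 3) Steps.nil)))))))) (nat_lit 25) (nat_lit 0),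
  Rule.mk (nat_lit 4) (nat_lit 61) (Steps.bwd (nat_lit 5) (Steps.bwd (nat_lit 3) (Steps.bwd (nat_lit 3) (Steps.fwd (nat_lit 10240) Steps.nil)))) (nat_lit 37) (nat_lit 4),
  Rule.mk (nat_lit 2) (nat_lit 113) (Steps.bwd (nat_lit 4) (Steps.bwd (nat_lit 4) (Steps.fwd (nat_lit 6144) (Steps.fwd (nat_lit 4096) (Steps.fwd (nat_lit 8192) (Steps.bwd (nat_lit 3) (Steps.bwd (nat_lit 2) (Steps.bwd (nat_lit 3) Steps.nil)))))))) (nat_lit 25) (nat_lit 0),
  Rule.mk (nat_lit 2) (nat_lit 113) (Steps.bwd (nat_lit 4) (Steps.bwd (nat_lit 4) (Steps.fwd (nat_lit 4096) (Steps.bwd (nat_lit 3) (Steps.fwd (nat_lit 8192) (Steps.fwd (nat_lit 8192) (Steps.bwd (nat_lit 2) (Steps.bwd (nat_lit 4) Steps.nil)))))))) (nat_lit 24) (nat_lit 3),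
  Rule.mk (nat_lit 2) (nat_lit 113) (Steps.fwd (nat_lit 8192) (Steps.fwd (nat_lit 8192) (Steps.fwd (nat_lit 8192) (Steps.fwd (nat_lit 4096) (Steps.fwd (nat_lit 6144) (Steps.bwd (nat_lit 2) (Steps.bwd (nat_lit 4) (Steps.bwd (nat_lit 4) Steps.nil)))))))) (nat_lit 24) (nat_lit 8),
  Rule.mk (nat_lit 2) (nat_lit 113) (Steps.bwd (nat_lit 4) (Steps.bwd (nat_lit 2) (Steps.fwd (nat_lit 6144) (Steps.bwd (nat_lit 4) (Steps.fwd (nat_lit 4096) (Steps.fwd (nat_lit 8192) (Steps.fwd (nat_lit 8192) (Steps.bwd (nat_lit 3) Steps.nil)))))))) (nat_lit 24) (nat_lit 1),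
  Rule.mk (nat_lit 4) (nat_lit 113) (Steps.bwd (nat_lit 4) (Steps.fwd (nat_lit 4096) (Steps.bwd (nat_lit 3) (Steps.fwd (nat_lit 8192) (Steps.bwd (nat_lit 3) (Steps.bwd (nat_lit 2) (Steps.fwd (nat_lit 6144) (Steps.fwd (nat_lit 4096) Steps.nil)))))))) (nat_lit 24) (nat_lit 6),
  Rule.mk (nat_lit 4) (nat_lit 113) (Steps.bwd (nat_lit 2) (Steps.fwd (nat_lit 8192) (Steps.fwd (nat_lit 8192) (Steps.fwd (nat_lit 8192) (Steps.fwd (nat_lit 4096) (Steps.fwd (nat_lit 6144) (Steps.fwd (nat_lit 4096) (Steps.bwd (nat_lit 4) Steps.nil)))))))) (nat_lit 24) (nat_lit 7),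
  Rule.mk (nat_lit 4) (nat_lit 61) (Steps.fwd (nat_lit 12288) (Steps.bwd (nat_lit 3) (Steps.fwd (nat_lit 8192) (Steps.bwd (nat_lit 6) Steps.nil)))) (nat_lit 37) (nat_lit 4),
  Rule.mk (nat_lit 3) (nat_lit 113) (Steps.bwd (nat_lit 2) (Steps.bwd (nat_lit 4) (Steps.fwd (nat_lit 6144) (Steps.fwd (nat_lit 6144) (Steps.fwd (nat_lit 4096) (Steps.fwd (nat_lit 8192) (Steps.fwd (nat_lit 8192) (Steps.bwd (nat_lit 2) Steps.nil)))))))) (nat_lit 25) (nat_lit 10),
  Rule.mk (nat_lit 3) (nat_lit 113) (Steps.bwd (nat_lit 3) (Steps.fwd (nat_lit 8192) (Steps.bwd (nat_lit 2) (Steps.fwd (nat_lit 6144) (Steps.fwd (nat_lit 4096) (Steps.bwd (nat_lit 4) (Steps.bwd (nat_lit 4) (Steps.bwd (nat_lit 2) Steps.nil)))))))) (nat_lit 24) (nat_lit 9),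
  Rule.mk (nat_lit 2) (nat_lit 113) (Steps.fwd (nat_lit 6144) (Steps.fwd (nat_lit 4096) (Steps.bwd (nat_lit 4) (Steps.fwd (nat_lit 6144) (Steps.bwd (nat_lit 2) (Steps.bwd (nat_lit 3) (Steps.fwd (nat_lit 8192) (Steps.bwd (nat_lit 3) Steps.nil)))))))) (nat_lit 24) (nat_lit 1),
  Rule.mk (nat_lit 3) (nat_lit 113) (Steps.bwd (nat_lit 2) (Steps.fwd (nat_lit 6144) (Steps.fwd (nat_lit 6144) (Steps.fwd (nat_lit 6144) (Steps.fwd (nat_lit 4096) (Steps.fwd (nat_lit 8192) (Steps.fwd (nat_lit 8192) (Steps.bwd (nat_lit 2) Steps.nil)))))))) (nat_lit 25) (nat_lit 10),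
  Rule.mk (nat_lit 2) (nat_lit 113) (Steps.bwd (nat_lit 4) (Steps.fwd (nat_lit 6144) (Steps.bwd (nat_lit 2) (Steps.bwd (nat_lit 3) (Steps.bwd (nat_lit 3) (Steps.bwd (nat_lit 3) (Steps.bwd (nat_lit 2) (Steps.fwd (nat_lit 6144) Steps.nil)))))))) (nat_lit 24) (nat_lit 3),
  Rule.mk (nat_lit 0) (nat_lit 61) (Steps.fwd (nat_lit 4096) (Steps.bwd (nat_lit 5) (Steps.bwd (nat_lit 2) (Steps.fwd (nat_lit 10240) Steps.nil)))) (nat_lit 34) (nat_lit 1),
  Rule.mk (nat_lit 2) (nat_lit 48) (Steps.fwd (nat_lit 12288) (Steps.bwd (nat_lit 2) (Steps.bwd (nat_lit 6) Steps.nil))) (nat_lit 34) (nat_lit 2),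
  Rule.mk (nat_lit 3) (nat_lit 87) (Steps.bwd (nat_lit 3) (Steps.bwd (nat_lit 3) (Steps.fwd (nat_lit 8192) (Steps.fwd (nat_lit 8192) (Steps.fwd (nat_lit 8192) (Steps.bwd (nat_lit 3) Steps.nil)))))) (nat_lit 16) (nat_lit 0),
  Rule.mk (nat_lit 4) (nat_lit 113) (Steps.bwd (nat_lit 2) (Steps.fwd (nat_lit 8192) (Steps.bwd (nat_lit 3) (Steps.bwd (nat_lit 3) (Steps.fwd (nat_lit 4096) (Steps.fwd (nat_lit 6144) (Steps.fwd (nat_lit 4096) (Steps.bwd (nat_lit 4) Steps.nil)))))))) (nat_lit 24) (nat_lit 7),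
  Rule.mk (nat_lit 4) (nat_lit 113) (Steps.bwd (nat_lit 4) (Steps.fwd (nat_lit 4096) (Steps.bwd (nat_lit 3) (Steps.fwd (nat_lit 8192) (Steps.fwd (nat_lit 8192) (Steps.bwd (nat_lit 2) (Steps.fwd (nat_lit 6144) (Steps.bwd (nat_lit 2) Steps.nil)))))))) (nat_lit 24) (nat_lit 6),
  Rule.mk (nat_lit 4) (nat_lit 113) (Steps.bwd (nat_lit 2) (Steps.bwd (nat_lit 4) (Steps.bwd (nat_lit 4) (Steps.bwd (nat_lit 2) (Steps.bwd (nat_lit 3) (Steps.bwd (nat_lit 3) (Steps.fwd (nat_lit 8192) (Steps.fwd (nat_lit 4096) Steps.nil)))))))) (nat_lit 24) (nat_lit 2),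
  Rule.mk (nat_lit 3) (nat_lit 61) (Steps.fwd (nat_lit 10240) (Steps.bwd (nat_lit 4) (Steps.fwd (nat_lit 12288) (Steps.bwd (nat_lit 3) Steps.nil)))) (nat_lit 37) (nat_lit 2),
  Rule.mk (nat_lit 3) (nat_lit 87) (Steps.bwd (nat_lit 3) (Steps.fwd (nat_lit 8192) (Steps.fwd (nat_lit 8192) (Steps.fwd (nat_lit 8192) (Steps.bwd (nat_lit 3) (Steps.bwd (nat_lit 3) Steps.nil)))))) (nat_lit 16) (nat_lit 0),
  Rule.mk (nat_lit 2) (nat_lit 113) (Steps.fwd (nat_lit 6144) (Steps.bwd (nat_lit 2) (Steps.fwd (nat_lit 6144) (Steps.fwd (nat_lit 6144) (Steps.bwd (nat_lit 2) (Steps.bwd (nat_lit 3) (Steps.bwd (nat_lit 3) (Steps.bwd (nat_lit 3) Steps.nil)))))))) (nat_lit 24) (nat_lit 1),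
  Rule.mk (nat_lit 4) (nat_lit 113) (Steps.bwd (nat_lit 2) (Steps.bwd (nat_lit 3) (Steps.fwd (nat_lit 8192) (Steps.fwd (nat_lit 8192) (Steps.bwd (nat_lit 2) (Steps.fwd (nat_lit 6144) (Steps.fwd (nat_lit 4096) (Steps.fwd (nat_lit 6144) Steps.nil)))))))) (nat_lit 24) (nat_lit 7),
  Rule.mk (nat_lit 4) (nat_lit 87) (Steps.fwd (nat_lit 6144) (Steps.fwd (nat_lit 6144) (Steps.bwd (nat_lit 4) (Steps.bwd (nat_lit 4) (Steps.fwd (nat_lit 6144) (Steps.bwd (nat_lit 4) Steps.nil)))))) (nat_lit 17) (nat_lit 0),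
  Rule.mk (nat_lit 2) (nat_lit 113) (Steps.bwd (nat_lit 4) (Steps.bwd (nat_lit 4) (Steps.bwd (nat_lit 2) (Steps.bwd (nat_lit 3) (Steps.fwd (nat_lit 8192) (Steps.fwd (nat_lit 8192) (Steps.bwd (nat_lit 2) (Steps.bwd (nat_lit 4) Steps.nil)))))))) (nat_lit 24) (nat_lit 3)]
noncomputable def R_7 : List (Rule) := [Rule.mk (nat_lit 4) (nat_lit 113) (Steps.bwd (nat_lit 4) (Steps.bwd (nat_lit 2) (Steps.fwd (nat_lit 8192) (Steps.bwd (nat_lit 3) (Steps.fwd (nat_lit 8192) (Steps.fwd (nat_lit 4096) (Steps.fwd (nat_lit 6144) (Steps.bwd (nat_lit 2) Steps.nil)))))))) (nat_lit 24) (nat_lit 6),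
  Rule.mk (nat_lit 2) (nat_lit 113) (Steps.fwd (nat_lit 6144) (Steps.fwd (nat_lit 4096) (Steps.fwd (nat_lit 6144) (Steps.bwd (nat_lit 4) (Steps.fwd (nat_lit 4096) (Steps.fwd (nat_lit 8192) (Steps.fwd (nat_lit 8192) (Steps.bwd (nat_lit 3) Steps.nil)))))))) (nat_lit 24) (nat_lit 1),
  Rule.mk (nat_lit 3) (nat_lit 61) (Steps.bwd (nat_lit 6) (Steps.bwd (nat_lit 4) (Steps.fwd (nat_lit 12288) (Steps.fwd (nat_lit 8192) Steps.nil)))) (nat_lit 37) (nat_lit 2),
  Rule.mk (nat_lit 2) (nat_lit 113) (Steps.fwd (nat_lit 6144) (Steps.bwd (nat_lit 2) (Steps.fwd (nat_lit 6144) (Steps.fwd (nat_lit 6144) (Steps.bwd (nat_lit 2) (Steps.fwd (nat_lit 8192) (Steps.fwd (nat_lit 8192) (Steps.bwd (nat_lit 3) Steps.nil)))))))) (nat_lit 24) (nat_lit 1),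
  Rule.mk (nat_lit 2) (nat_lit 113) (Steps.bwd (nat_lit 3) (Steps.fwd (nat_lit 8192) (Steps.fwd (nat_lit 8192) (Steps.bwd (nat_lit 2) (Steps.fwd (nat_lit 6144) (Steps.fwd (nat_lit 4096) (Steps.fwd (nat_lit 6144) (Steps.bwd (nat_lit 4) Steps.nil)))))))) (nat_lit 24) (nat_lit 8),
  Rule.mk (nat_lit 3) (nat_lit 113) (Steps.fwd (nat_lit 8192) (Steps.fwd (nat_lit 8192) (Steps.fwd (nat_lit 4096) (Steps.fwd (nat_lit 6144) (Steps.fwd (nat_lit 4096) (Steps.bwd (nat_lit 4) (Steps.bwd (nat_lit 4) (Steps.bwd (nat_lit 2) Steps.nil)))))))) (nat_lit 24) (nat_lit 9),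
  Rule.mk (nat_lit 1) (nat_lit 74) (Steps.fwd (nat_lit 4096) (Steps.bwd (nat_lit 1) (Steps.fwd (nat_lit 4096) (Steps.bwd (nat_lit 1) (Steps.bwd (nat_lit 2) Steps.nil))))) (nat_lit 14) (nat_lit 1),
  Rule.mk (nat_lit 4) (nat_lit 113) (Steps.bwd (nat_lit 2) (Steps.fwd (nat_lit 6144) (Steps.bwd (nat_lit 4) (Steps.bwd (nat_lit 2) (Steps.bwd (nat_lit 3) (Steps.fwd (nat_lit 8192) (Steps.bwd (nat_lit 3) (Steps.bwd (nat_lit 2) Steps.nil)))))))) (nat_lit 24) (nat_lit 2),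
  Rule.mk (nat_lit 2) (nat_lit 113) (Steps.fwd (nat_lit 6144) (Steps.bwd (nat_lit 4) (Steps.fwd (nat_lit 6144) (Steps.fwd (nat_lit 4096) (Steps.fwd (nat_lit 8192) (Steps.bwd (nat_lit 3) (Steps.fwd (nat_lit 4096) (Steps.bwd (nat_lit 3) Steps.nil)))))))) (nat_lit 25) (nat_lit 0),
  Rule.mk (nat_lit 4) (nat_lit 113) (Steps.bwd (nat_lit 2) (Steps.fwd (nat_lit 6144) (Steps.bwd (nat_lit 4) (Steps.bwd (nat_lit 2) (Steps.fwd (nat_lit 8192) (Steps.bwd (nat_lit 3) (Steps.bwd (nat_lit 3) (Steps.fwd (nat_lit 4096) Steps.nil)))))))) (nat_lit 24) (nat_lit 2)]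
noncomputable def R : List (List (Rule)) := [R_0, R_1, R_2, R_3, R_4, R_5, R_6, R_7]
def LW : List Word := [[], [6], [8], [10], [11], [12], [13]]
def par : Par := ⟨11, 3, 14, 25, 2047, 16383, 33554431⟩
theorem hpar : par.ok := by decide
theorem hR0_0 : lall (R) (fun l => lall l (ruleOK R0 LW par)) = true := by decide +kernel
theorem hR0 : lall (R) (fun l => lall l (ruleOK R0 LW par)) = true := hR0_0
theorem hR : RulesOK R0 LW par R := rulesOK_of rfl hR0
def cols : List (ℕ × ℕ) := [(2048, 1), (4096, 2), (6144, 4), (10240, 6)]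
theorem hcols : lall cols (colOK R0 LW par) = true := by decide +kernel
noncomputable def JS0 : List ℕ := [nat_lit 0x4bf600e0880000260180d004c0225e82f397982000000286403201a006979c3000c008179c120152f717b4bd85ea2f497a0bce172fd97e80005ec0a97a80006010080580285fb00017a02a00000317e0bf2142f7003cbd25e82f397980e5ea00017e8265f800017a0240002ff002c2200d00617a0bce5e60817a00000f2f8001cbee5e80717f80105e72f301400000b2fc034bf80072f30300000092fd02cbf40062f28280060052f2824be65ec2f597a8bd05e72f31794105f000217acbd45e92f401cbea5f12f697b0bd6062fb0008bdc5ed0297d4bde5ee0217d0be45ef0197c4be05ef0117c8be201,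
  nat_lit 0x2308884be862d00797c0505f32f897c00801f00097c44c00131500c0c102700018a003c262f797b80203231397d4be85f22f897c0bde170171880000252f9000405e2100d00940022430b0000bde230000004c2c212f8800cc425ef2f717b40e01800017bc4400001698144261c00017b8bda0530f184cbdc2001097d4be85f32f897c0bde5ee0b800002c1f2fe97f80005f20f0000024010110004bde5f00a18440000f2f60008016611070004be40163048740000082fc17e4385f000b17b0bd65ea2f481c01e0000097b00025f909800001c1b2fb0000bd212,
  nat_lit 0x463048d4c6605a02217c0bde5ed2f617ac68004000004bda0002fc80282c00b0298000bd633000000cbe85f50a17b401003f2f597a8bd22f2f8800000402a1917a80000f2f78010be45ea0718c00085e92f401400662c2f4884c7063f02597b8bda5eb2f517a46203831e8128bda302f700040925ec2f597a85e63b00017b4bd80531b97b8bda0201e98acbe40032f897c0bde5ee0b800801c6020088540025fe30580645c00000580d81200b00017c00346272f70b400260530317fc5800000980c0560002f607c00261300818045400001d98344262000a17a8bd2050010104c506272f697b0bd65ea0b97d8bfe5fe2fe97c0bde5ee2f682000002a3090a4c5c5f42f897c0bde06,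
  nat_lit 0x25ed1097980040452f2178cbc42f2f61798bca3d0350000bc85e302998400a5e41c1864cc20042f497a0bcc5e52f20c4bd400200197a0bce5e6178000c9c0291e01900005e82f38eccb803d2f40e8cb86142f717b4bd65ea2f497a01001f30800004a5eb00000844260b00017a446000000982c425eb001983cbd25e82f381c0380002f489800064602a0e40b20002f4179c0a65403217a07000a0331900c7e5eb2f517a4bd0172f60000be6132f88000bd41200000c00081102f0018bd45e92f404000003e01789007805c2f48dcbe064e03119240205eb2f517a46c02c2f797b4bd85eb030000bda1f00000e0c4a2932497b0bd604,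
  nat_lit 0xbc60082f0028cfa0072f014cbc25e0008020bf467e33e802cbc85e32f094800067a33d99f0cfc67f0239888a267933d0024bc45e12f014000000a339825012a04831680fc9e5ed33c19dcbc24e2f617acbc20333b17a8bc24d00019d810a4c2f49780025f104619f412267f02198c0bc04b3260174be05e12f0128cc204f2f19788926713390224cf404f2f11784bc04831e816cce05e32f111c0fe66f2f191807662a01e99e411667730c97948a64e32780a4bc84431a99b8cda08430b978cbc45e1040160c685e52f2178c865e52f30000c104230401c0bcc4130e80cccd666a3349794bc85e3200000c706290699140625e62f297907e06e01817981804031b99c80fa04a2f497a0bcc3e00497c8000252f3000000e212f68000bc823,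
  nat_lit 0x1a0018bce630501a2c1040062f31794bc85e30b8008cf800400398800267c04798400066d00822c15e0752f19800a265d03701e80f65e52f2178cbe08504101f00005e0008140ce807d2e80000a067b1098e4d240852f10a000004d028068c6e04b2f08300ae62e2f080c0020a9052020cb80003470024b60542ef804bbe001324191c0b85fb00d182c8000002d19ecb46473451a2cd1801b2fe1778bba590061a24c4e5df2ef10cbe600f2f8177c500000080044b05f100497781400c0041778125ef2ef00400001902298c8ae5fa0011790d080132f61778bba56006178cbc05df2ef10cbcc6810039780aa5f82fc98b41346833411a04bc2542f21780bbe04,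
  nat_lit 0x18740000100018a801a00a18011c19e6a535217c8be25f02f7820c4c0000097c80025f80980000141b2fa8000bde120008228014130000284d0a2905d8100bdc5ed2f610ccfa67e03a97c0840680399ab808a00300000c4066683089864c340011418300005eb338000c4c04030c8c00826aa0659a940e25eb2f517a4cc03f00017ac2400004099f0c608101f00d4bd45e93280e00025ea2f59900020a032598c0000a0314034d220bd04d805cbd65e92f4179c6866400003cbd000200219901c0012f481b8cc01d0000004cac6570e179c0dc0960091798bca2f000019c3207205a81b0bca6000001a409e240351a2cbc821,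
  nat_lit 0x6f8208bfe5fe029a4cdaa00c302180cc026002ff8c4c04000337020c2c0850430000c0033000000ccd266a0a180810400830017fcbfc2f03c8000004722ff80001e66403e999cbfe0e0001afc06e3c06a01f4bfa5fc1d98a0c466003880041c007d3311c00006c803a9bcd90686300000cbfa5fc2fd97e8dc00001706c0fc66a30f0004da09401d8000d85fb0009acbf20003518680fc68a00017e0d20010019988cc6140000004cf4092fc81e8cfa5f72fb17d40e00003a0228560002fb07c00260901199705400035782d8720c003a97d0be60500019100266800017d0bea642f900000885a,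
  nat_lit 0x3691b404a0e00709bbcc1a60c3c00002020dc2d03fcdda60c02000012408703f1dcd346ed3760414116081037982cec60c000199c260850001828240000679b446a0cd34b1828c12608031a6cd38677305908c500313051824ea6a005a1b9cdcc6e50471824c10743050000cd8133350000c10120009b3810a1100018f0c6e0d06e82bcc0e6063028fc0000e635b8a41cc0ad3030300a20a337403e81786093041818e601204500045600f000004c0a00133802242c000338002c6e08a0668000c0433000800ccd466b0a000000260904980c10c0b43009800bfe2f00002040082b00018003e0000208018cc833,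
  nat_lit 0x61f387003cc345504982940da06a04d80005a619000817813462000017014209541017414c0aa000a040006160f8000006689069860c2a61402185c01a615051c1401861529828cc2a0100602bce0c7050091860c2e615401994d0800030b1fcc280000771a10fc6d802d8000fa00037f9c00e027033820344c965137f1bfc01a6133091844a008103380006a0000081be423e12106b99400d04f30e1bf0df661127000001a6da3e1868c32610019be4c30610268000d146be35f9dc14411238084882460d635d983cf6686000183cb400004f1a10f46c7072027cc1c60d3c99e8cf66ae308108dca0c03079838926f23798430df60c03071834c18483680000c1c67,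
  nat_lit 0x321b31a8000c4867001193407664118000407c11800da1c00002e0161a310c03d3930530e440903111884c406600000e43e03900018842400138604642200008e1c281a11a01c00a8c3e61e3281f423009c04f0280c4262030f97c00008c0719f01180e331000cdac03b0001f4c3e0033709b801ec63801419188000237084d429614a077038c0f48500083c41801100003bce1c5a36f1c68e3671c01518dcc3861b2c8050e320dc30e98708600000e80b0d38843170064c5661c14000003601d2c18b002061b05005801e61b04825802261c14800005207833115cc680043101c4c04262730d1864ac0a200218700401730f186cc34619218038c3683,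
  nat_lit 0x1374000d1000003b86420215e03e98ccc06a03a30034c7063731a98d0c663103f8000026350001a080fe1637480001e6320010010dd20e00098d00fc6e50e800000267b33e070c6407f00318c4c6062f1780000ee1907e05440fa630301910c806333880082a007f33b9c000207a03b9b751400039c01bcde73834918c800662f31718b4c586e04219f8c76002369b9400800200098014c0180001b0c5a0013598ac0006a00a1b8c00c00331522400462c0409b7c3a00100181e0cea2e0000004d0e093148200d1062831398980e00136f82cd100003488041e813d03e9898306de36f8250c5042,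
  nat_lit 0x7584e4ec66473231e00000bb03b01a4ee6b23b19d882f0080038014cc8c7603a8001066460009a102600003a07c0e80003218480020dc39d98c0000dc0889681b26ab3211904c80060000308366ae3579a38c844239e0214c82640249ac01907593ac1d5c10a64031f9d00ee0000099000026830980000ec1b3400000c7a120009cc80ec110000514e8c290a28304c7863b31d0fc06a0b33ab85b019663f31f18f0e608400a0005186fa00a00004a63b00000444200e0840005166ec00003cc6e0030031bb01c00231c8208dd01d000800ccfe6800e000000263c0498d81000c131a98d0c662f,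
  nat_lit 0x7810059964a600035502682389204d19600200000502b82609100482b8f0077f00b1968cb26574001a00008332b8000d4a6893f02500021b0011de4ef477b3be9df81da67f28994c002129386a100000670328380c07763bb803cca6652328940eec65b3299340006ac39f9d00ee0a40c61df43461a50ad9b50ca47b00002743e6a70001944b400104f1a94f40000769c18246d407a827cc9e64e3c8000dc01f03581b0dda0000f19380029032600011e6ea0830004c968e3728000020000a184e41a0643b41da42fe7700871928c926483700002701f3920000c925a0009b3ce448d00003ace507c,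
  nat_lit 0x34035e7bc3c18444cc866333117ce147913331994ea1523ce06b8f987913329990cc69c3541aa424e6672205543587ca3cc05dcccc66533217c00412937e1bec22a67b0141a208000138885002109b000026c13c7204d049824a7983cc9e6806402e331a64e980f033226002a796078198ccc4430001cb0ebc3a0a3004ccc43700e8048cc409040005ccc60d3aa8054cc46300000c41da7652b99dc00c6663c880a4cda66032fa5c12a0063310e80306643309980cbe430008034d360794b000001670907a9b4cc878b00a197caa0013541e6014c770000244e3007c40821810a00032ea540040060919c6c27276e3b69db1280010028488e361363ae9d7822e930000014d5c0d32e9968cb2040000008dfc3a32d8030cb20a,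
  nat_lit 0x1d94f6c7b73dc0068cf8662330964e02101331a6001a7b43b79988cc24333b0040ce66621400000226ed2c19d0014661050034012661048000f5e06f5099c4cc001000005031a13c2b99d40046663d70040cdc66032f9580166653311984cc0433341eac00e6622a99ccce81670df9eb4f587ab331a80ccc662330810cca007331028f4e00633114ccc6662008018f367a83d38020ccc6653319480007a43d29e98f507a93d019d13e7a33d20018cc86633311400000d33c806e83b216d37503989e0d13d11e84cc64e3d08554cc653000043c12405c321e503667a50db87802d474e331278f0e15e332198c9279e3cf86c4f4615e3319988cc2480b21d2c2ce1dd0da1e882b06654e9c20e121223321082fa79d3ce06b82ac6633311984be78c3c68444cca42,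
  nat_lit 0x1f403b86701c1a7cd4010d339108e8810d33899c0927bf0ee8748f8410d33819bccdc48014809cce00010821f0421803b5300002040353498c02041cf0ed8058ce267000119b94a00900020ccdc00134f00302c0000149a148c69d0e90004cd67f0009cfce801d60ea872428c69952000000e66f0c7980e7a73e00799a8cd266828000001800233607417073c39d99a49c73b07819a4a666c0040004e26680011a5004068434299e0ceea30009a4cd287c03fd877430c68b28999800002c39b038d226920e38618ccc665511a44f746662680001080080d0218d7a1070f48708e60070333a74f4e7a80369998846840369994cc849057053029c1460369990cc66622f8000f6c1c00bf9dc3881b83d407483e2185381198cf66630009d98eca18233e8068f5c4000005f4f405a,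
  nat_lit 0x3086d04187ed02c0144cf867a549c240c20003e8004fd27ea3f59fe0ff21d9364144cf000002d9b01087e73f4015009a67833ba88fce1aa33c14cd2c7e900819f4cf867a33c99e06276a00019ec9a00108686944c00038a004e2800133b99e02870800003c0026790039c206600000081b4726770030020cea6743398bc0006c53638dc0006740f8004e2a70c03005400071c0858e421600133919c4760e407c99c9507d90f319c4740003ec1ded4e7d834299d8cea67333919c4ce00800b8120000253398000036213400000ce2230000004d0021339800cd0067133819bc0e01e00019c44c00008100787810000019c0cde05,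
  nat_lit 0x186843419a08d02430009cd02307ba580000230190019a10d02633418020d020a401001cd02533f39f983f482d3ec84f822a00057800018a11357030ccfe0137b864c002713f207e4000980001ff0ffa7fe41c20e5080204569fecff81c70d71e30cf8ac3fd9eb4cf84d01e9a88cf80300088341f204b2e0000ff40062d80e8cf4010051fe0d3c67b33d10c0006d13b42ac0d400833d0dc01c00733d02400000d00502f95406733ca0c01804533d99e8cf24300399ed0667f3f88024cf45533f0108cf40433e8020cf40a3f7001ccf45333d99e80200003104bc0c057,
  nat_lit 0x132692009a480006fd0512e00e0065000034d2000240e08b43fe77c36e9b516e00140e207503c23040f884cd2c5134700000e66d942206903605c0009a38d1a5040d054cd1c5301900c40020020d488b103405a5b000434e08f0441dc00019c09000b96a1a611488d445415d04501dcd16b400001743605b0009a28ce6e00000040000e202b1b14ee0e311520f046611902f1a20d0eb337c1be440a6892100040000139c9e68d0e6863a80000a06d63181402a681011d211c4046853422c801c8103581a18d0a430001e0cec23a0c88030d0a37009002cd0a09000804401c0a9550001016123508634d068300005340214d0dd9a086a7f70ec0004d0a8090ea06ecd02b1,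
  nat_lit 0x21270a150621520a78729038be000a0c84882040f99e3c2b47745e80003a87bd14a0e0fd269b0204783b269d14a01043e8134092044d3869b34d10006404441b8878d38bc0d68874d380c38e82e00007134d800cf267920c91bdc1267c2200008f26246142099430c0b503caec00218b0580440001893dc168f20832419a0d00ea6e434c1a5cb274a08b9a653000f418085cd30697218000dde73955821c01a6971b804c01869704826c008699010048d3669834b9a588600b34c004d3882a0079a5caa08b04f01b8dba0940002e8d2c00100b024cc400000a026811c8200a83e01400015c8000d261f000000ce000d34a9a48d220434a0020d240a410801cd2453,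
  nat_lit 0x80141e01206280000061a93e89b4d5a8534221aac9c6ac0051aac1483941c07982d678a0b51ec0000c40001d2c1d07af5803a4d52833cc861400041000a0f507c26344e0ad44ec8095200001ca747073b0d07683c425a1300a86a656000031879e610628d546a5018001090813612120d506a426800908e0e03a097000204e0261f09820004230958981843508040000d539c89504223810e835cd40c035608e10846a135011cef40013509c80021543b48d40008213bc83446c1f90399a7cd3c103510000d3e5a0000008d407a0d2093800c69e34eafcfe220e3500e000022c0d11684587ed34f1a74d3806,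
  nat_lit 0x961af8d740300021acfaec24359af0d724d000079d01ea83f388a048223235c3280006f93809c005803f0001adcce00036e1b6c4a03e0f6a198d6c6b5649d940000135b0004d9413000009c3e0270001acc240010f5a1206a0003f09d7c1a1e80c19ac8d626b01f8000d821f35a0000d625a0008010d647a00000c00427c0a708280386af3571e003e0003578480021d93658d40001d70a58683b07af0099ab4d58c83e3871cfaa1d80ec80b4d5c6ad6380002ba0240d057438a6ad0621290486ad269b980c66af1c003c4726ae3569ab0200020029ed42de78f0b8087c43ac6,
  nat_lit 0x13b48f0d920030029b1cd8c6c51784180006c71100010fa2421e0a440006c63628ed1041183630e80008813c229d10212336400090686c73631b14100090e98001500004198950121330009b1c00c1203628b400278a090a3400012909916024e00136188823c13b0000940008731420e45080003609b000a8781449b04707da4381b049a02f0189b0c7400d0eb9b08d826c0081b0c0186c205000848812c041b2c0028210a91e556000038402114224035fa0c0047ff4000a191742e01421f49480013ff1c100fc33000084103823e3f1ff0ffa86f4380220d78ac00082280f47c00004b8f06c2,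
  nat_lit 0x80a4dde0491600010b685d1b8000da81f0009ef0f6a15a0a8000f861761c85dc0546d23688ec00284712f8834ee0003f282a8db8d013189650802d217c885cf9a6d03d8000fca6f861070cdd06cf1580082902af4500c350e428013bb3c0027a90ad84400014744786828a89644ba26114e2890591b30b200744a9b8cd9a6cc2180050086e66100010087f81d07dc0086cb1b81580066cb04811c4de2633661b2d900000260134b06f70229b2c1488e0221b2ca68021000001300013c81e445448c347a8c00514ce0000010d9a093c71e3c24410e3b71b21588770001b219a00002b21dd4e6f609622280106ca3649b1cd8ccc3c50018d924d,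
  nat_lit 0x20e0070a179a400015b05b95c2b3371a0c0002b2394aa117482f3711340000400058ac1f676e000034dc00043a902f0e9874d07983c9a20033a89d4859e91418388a0f16a436f000819280207000419279f09fb0c000002371024e9a74e13c889cdb86db511c1916800d3709b80dbc6dd36e0c418a03100000cdbc00037d80c42c03401b0000db8330000004dec6f70e1b7806200836e1b6cdb42f000009004c8d0088004db6260120044000a800006240223c0c300b0db26d8029b90dc26dc38800457802d3779c00008a63a029d14c6f836d000cdb26d836b9b58100020060130f7a330009b70de802e1700000167f11e00240006d80181bd0dac2f,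
  nat_lit 0x1ba00b86e6019b9cdcc010031d7d1a88d30041ba8dd26e72900011a08d146923511aa2e137b94519e8d00031ba0dce6e628000011286b17624c45c486212fb6010c8ce4669b9c9c0c60000040000bb407203cc8758172a3445d293d16fa31cdca4b4300980dce6e624a3291962e3467a220dcc6e53721b85b28c416e24e85cc8ce0561ba1ae81140902a4dce4205823251902e00551b98dca6e42f9d40ea2086374108eae2d749323910bc0873739b99ac820170238d0ba0863731b94dc8d539a9d44dd06e73a829518e2df4758b44dce6e6372998f602d449923a91880aa3749ba1ac87e16ea3a51860a93741b9cdccd500423180b06e937410c0008103fc8e83cc0063740dce6200037435000000839898c0100880439b9cdccd30000014e600b3740018dcc0a0000284e78c245f0010dca53,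
  nat_lit 0x3302ef701fe860000f3789bc1be004000b78de0000481c0003270f0001bbdba02613e1bbc1a8371039bb8c670e0141e0060028643f1bb4dd8dc0660080ddc3a0728004dd81300105b01cc7a00085cc1e67c0001f54f4e3a0b90bc0e026e9374324e1a0253eb0be85f68e00011ba5b66e9000a3791ba2f637f8064ee24000009ed0f05a46ea3851c48e300c9bf8dd06e72c9bec0226f83740a0002011132219c080da0000044e965837c0198dcc0a0068194dcc09000236c3d8a137a9b94026e50008050e0870300d364000013061a199226f70011ba91b200f3789b90dc6560301ba4dcc6e5372018dd68d60031b98aa6f537b02e85e08d846ba358dcea03749b98dca04,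
  nat_lit 0x1227d0007f73fb1fd431482374000513c29a0d98684f6a1280ac39c0002174278a520681837d0100001bf18a05f92282304a824c63c3614800668df2e639a1e70df24d0000c74456a13cd9be00200b07d9be8df26f8081c640706fa061bf11fc72f37c938df600837c82801800d47e9be89c04007b1be48c6f837b8040007293950c5125c3224619c85ca728394a3e11f200937bab000000b05ab90dfa6fc37b00c0008f53c73091ea6fa37a9340008f5148130df26f4008000fae16749b8570f9a1553c038c2c68e918280c8de6e205f007cde63547823c46148f53f48074e066f237000100a8dc5586786048ee3791bc592000143221510888305d1da0ed2e114423b0de246,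
  nat_lit 0x91a1999c30700031878614ffe70c64000023c7b80109d800270b1b800122e7a861245d21270a2682b4f469190071c2c0067ec3853bcf920000780040860423e48a80007ea40c8e40820003848014014707770000e2604155805c00070611000051a1951e0a2c00270538201424413138289521c1d33820e8fee000383334e080003fba9cfee1860cf8000e04ed0002429054a74851e50eda7693819c08e02700040004f3879805e05400079f0a38e4f340f43c89da8ecc7017600050041943dfbac0009081521303406ff0080000467e13ed3a8e2800037f19c00003138a2a11522ad0019bf4df8e9,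
  nat_lit 0x65d03a932495248522c7a038d3d8000001492884e36004494247d228719038c2800071913000068630a1e249000271838b81400092448d0a582a92c1a39c5c700003d885edc80f23919c580600006e8288b40dd4951c84e2c7150306d40020f001077d0a61ee49b24dc3a47317a80043bc1b241221000083e0018843b885042887c431e7127a05b8ff09280251c5400083b3893cce26001359c440006a41c876000071179212c08e711299c480060453881c3ce1c070c38000e202200022f83ce3c15a0000e1e70e1da4783ce70f1d00000028fd1c9c3c0067ed3f51f88e1c070008390638f10001e64020e11568000e18f0,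
  nat_lit 0x74d41fbdc07e74e4a621e50e28663941c9df4000000a1d44272900221dd0de86439381c3c00003938980008ec0f00f05c00013931c9476000439a1a82d6151b20848e4a3a0002188e74f710021c128674501c84c90307247e9e540000f0009c9429a0b17e00000020dd109c8c29c74101a84b8e42fb16a0000e4226000238c5a83916a052ce4071f02a3140007203d000036c2aa2d06cd27672a38f9c780c0004660a8cb02b60df9c78067b60001c799a0004911ed9ee342498a4e504881e40b1c74e38fa00000050442138f019104481c40a1c71f216c0001c704c00047f05b4783110309c6ce34f80002048e62f7,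
  nat_lit 0x91c014e04550064e6a4d0001d0d2b08d00a8df06f60fd39a2fc00437e1a7036cc400108284191c30100025784da4c17e1cc40273c01c257004c7318000e52a00513991cc4860001b70dd82494c1b59cc4140004210714221c54978da0e640034759cc4e60ff0010b38e7000b0a800406c74e0190580008e916802459600039800cc6c872e16800528894f4a70b00003644a50ac00072c0f8004e640073a30a80009211958e465802d3951ca40a0201b1a52527c7433961cace54404a38d88e580c000a54065072d7f00006da366132510e5401000095804624453a464e524d41f8000e52cd,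
  nat_lit 0x9d1c42740001015cee873e39ec1ce8c74039f8f4ec400039f1cf40a9760041cf87073e000851901814b4e184fd00b0600023484d81113b25d000a7413a01cf8e7a73c18a01500c0043a01cfce7c500009d38fdc1464dc04e8fce10882800003000a1e005900680239f138fce10b3a01cfc9296e13804f90087ef39f9cf8e7a6e3f88000e7ed40000090fe23501105b824a73e39ec1000285e4332194580000f12188567630001cf0b40003a88110ec2770118070e9804f4a38120e7673a818110ec60a94be0140ece01239ec0800095b3dd3dc6f695e3b1812402073b39d1ce4be00000407c01000039d04800274b00e84400001f1bf96803a2790831ce0e6e06001091c08a25000891c0867c,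
  nat_lit 0x769d3ce9ca70c08000e9a74c02a64022474d1c011000074d09000009478031812929606a3a61d2c0c0b84b18008747560001d2cb40010bd00bc02a7700005e92c2a74191dd408c3120270060e92748850054eac0181d8267c0f67883a5c24ee40653a51d24ea8133c701d0f207863a49d20e8e6e0000d70361740001d21a80013b620b0c600001c0e88340381ce0ba4e8c74521800925092612800462278a12000061c040610c3006874329a0740007433d000010c15b2d020d0ce09d3a11d040c0010b101b9c80004af07715637003f1d005600000c9f4dee0191caa60c73a05a3bb9d04e7f083a38000e7e23,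
  nat_lit 0x11e628d0001d7d1c0011b70a784c47000026901520ad4d269078c3be4d28bc0ebc75d3ae1211682360000300022e112e88086000046c89c11b6911708ee87881603af1d7400475b880504000013ad80051201420b07a91fc0022608140021b001a4fd2803bf1de8eec63a262671d5800429547e21000293d101a36cda00009ca0646c86049da4f02ae7553aa1d4ca000110084f11a0000ff85b4169391661d4ca67ff400070ceaa444950bdcea87532480046e811e07b99000018c004c3d2e637a1bf25e12727513a81d3cdc0014a508e21c0004a401ecb03301159d3c6e010412266876e03b0109d40e9f0d0001f54fb6390001d4000603900f9d3a187d207026cd3569a21da0008e9f0b,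
  nat_lit 0x29c50659f883a0001050820504144e1a71004000e3b79db8a0000064032cf89c21771db8a625d00020c0008d207d03e53601c00f8c053824535328f04ed91300000943327c0128664ed60302d217ced87100626f832e76b3b510c0022811370900002814ad9611d40093b4828fb41f83b5c484fe1f83b51da4ed04300080201ce8a610f1dc001800d888000010913069dac3ea76802000000c264059da44f47670500044fa2645400004ea2367226c84ee7652980044f627711a89c00090c1088379602a53b18040008e90f87e43f48f6000078ec4001481d800008f,
  nat_lit 0x1454086d1a0000fc22e8f81f81aba774f0478164800503a1e44680002468be05848469c95b0ed1e01948570f99e04f00494b78ced2f834d1a707ccf0077f6380084602341168104f360474c1c5400291f1660a713600011708c525c9a15da5a53b29da4ed80dc06677d8a20740000f00000310421a00627587741273bd90c00201107409400000f0731f00200093bc8241f40053bda301f00053bd0944520013bc80801c7793bc1ddceec43001043843c21f31000500e29f483ac000010b0c834c1a47751a80005841223e27280107742985ac058000069dcc0089c71f18e892b085b3c42dc0069c74e427247d24651e51dd4a27710010af524284,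
  nat_lit 0x9b4fc040cf2e79621800869011912000531479e61000131497f1d0d1812e7941ba3d80007940900011ee26f0889c074e3913c99e499000113989f0240000f607acb08f51369e4414001098a0381de1600020c026639097028cfc60f01429e3c5e2861490001500004f30dec783f50769f80f1a3b00007cd1548a68ba3cc0000f3c600004d80d4768000f147200000051da290010cd8f147893c404000226a47602c0009e54bc3093ca78b3c41340023524cb2a000021b45e0493083701ca8decf0cca00086010ce8668b00004361b45d0000f085a,
  nat_lit 0x47d48d612800053615505a8453527a726800c0c67d0212ab2496e3703ef29000406203024e0660014998ad0508180000010f520902f9f3074636d1571e8d44001072827026000079a06c5281d5060048f4c7a53d19e88f42314968ac00020a4950000027a2000200c1861641500001e79f00180190540e0011e8403a91f19800400601b3d5870000001151824f3c01c0049e74f3879b1780042d830313000028e190b4903803279b8d00180001b3ce1e6c0007fb2b82f00027990980088162983d14640020140092072300004fc9edd4e9f94050370ff27983cb9e58f2a083fe0000f30d40001f74ff863,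
  nat_lit 0x19ca2a5149ef1f000012a071c3807712a90bc860434126070c35e7bb8e9ef00001970c9c7032a000009ee80021850c3c6400087e0f86080027b72d226c00001000091000e00532268c862a394ec85f0f6c7b53da020004000419f6d1f87b73db1d4f6a0000d58718c88910009eccce00111fa8853c41c10c906bc35b1b00008f037489c1808f543e4a0551903cf647b13d81980000dc0fa0680007b16a000400e81a31800000e1fe0d00214360ff3d79eb88600006006d1b80003d735000200646e18c0000064008a400c21c10c9eb0f56c800109103f27a000908447c7c00009451cac25098008f5253,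
  nat_lit 0x1f7033c7cd05000003482e1280683387cc04a4f43ca1e3000108f9600100ea34d1a41eb6c80000382714f8a44fae0053e7a9101a27d53e51f24ac1d80029f2c0400006f03d95082906f9f30f927c8648044f92013e628f80227c82a87143b20240110740000ba3e380040361cf3100000321d50e4a080343590ed8005020003e207c00000345f034f8a7c33e101000000107482cf860d43e100c3a87c20080051341a44490c0000894005803e401a514710e94660bf3e19f08f811f3e0800116e8a03f22dc3b40013df9fc002a2e517a8c086ca332129f223c0000d9a26c3627e51628b41747be3de9ef0a01b21d480006a00040ca794878aea215277475505,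
  nat_lit 0x119a0435087e0fc283000a00100245e57913bd45e8477280000948db0fb9f8ffc7ff52e297400e7df5600040149be12000001009b721f84fc07dd0180014b02b3702960fbc7dc26826c000010000d544108f13ba9594ae45852da56c02e7e33ed1b80009b91aa0446ac3662262950fb2d30008f69414a09504025d02e8187080007b69b4068f654a27d70200013381c6088ca935a4494609f58ca00215b07211a00115b0294f80004a72090742b521e871c3767d39100043941e60f206c43641b44974840001cb46d87e4c88ba525a93949ea5006ea0b4fa31400000901e48d6421f800407dd3e80a00040211dda7d00acd3000807d1680b000008107002,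
  nat_lit 0x29862ca770081fcc0068593f93bc004034019a13854001076231836616000215d304390188000fe21b40061fbddc0010d6230405d16000279d3d2370001fb43e00142503683542a0000f241f23c1e306b8fd67ea02800033c8b53d24740007ec669fa800091d53a4744782390009fa1da00122f07b116f190002999386a75330c142521283f41f9cfcc7e53700046989c742545c0009bb0f80780007e63380043e07f412800042c8d61228987f01c23f21f8d9280b1619f90a61d20e99f980400e14f1f94fc87e30800b92000002600000040a94801b4fcaa634031f8c9c7e40051f8c1400146f812d04ec1,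
  nat_lit 0x1bc8e1c5600040287c00210a084a7a4540005328e5c784421bd200d0043b00021cd01af7084a7cd50ea8053c29b90a88027b000489e3634ed0a800046c21e0f14f8369097a0000a0010be0690240000bc0945c88ac0d19ff80624d49caa1472c7ff0012678ffcfa000866117c1940b000133a307048c080027fe0ca8e4cff82d000a7f47288d0000e647385818d8004ff4261c88c640002500028e46343c1fd063cff07f71d80090940c70e509c0020c02213c40000bd0c82f47e81963fabc00009421398444ea432136a4e0fe8c80008ec44f2120000b412ca021d709c8fe437,
  nat_lit 0x20c12e6f701d0abd54e9d44e827210308177d00040062074878500000014e88250302094e8a73538a8160380013dc9f01b800102a1f0008ca04842440a80014c213e1e10704088134090ec0009c0410bdc6509ca54e8a945482c74aba049fa0014b925d92ea2c0000a945f22b00020403e00142d02c52142a000296c822392090be501c80d27290000280e3d000451217308800050e3de0d0a2152a37c406202c0c0011f90ac8480005228f54b03ee15ca0286e0000c9274d1a8c300020259a00053e230dee4615452a453fa88108d202100ef3000800d3de9f00a00000029f804a0206fe9fa43f045d00d23,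
  nat_lit 0x50507d08600141316806c0000080010680384201dc032012417811154a03f412208e060394210ee55903ad0b9802904cd750c28640108252100015528c27b922d5581ec0b8801d04682241097c00282e5572340000124841f002449c24d86290432200000384487a41487a156601f41012923e0004103500008bb50898c2d4aa6109207d03cc800022982721109d2a5c908820001a98503e81e7f80087fc39550805400239c0b205942c00052f9008723fb000207406448040e0b4004a0e1cc0fe9960015071219100001cd0047344990172064c0a0c47ca06c1a01f240aa895301d840d2065030400000e2c3ac5a54f91fd0320c4b98001032cd,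
  nat_lit 0x3b8e9874683541a41000449e1219f00021e2034b80000ac315a2ac93823e4190dc000021471bdc0424ad56c12dc0aa85d419a0c61083700020c446000000a0dc4283200101490b4830417c1d06c8324188f509800041820bc0aacb005a0c07019d00020c0b40000e2a3c51e1240e287a495aac900420c506082e40000121a90e564078121e9cc0c82b521890d00320bd05c82d280e7c1fa0001a80050721a10f1ac0c23889e07fc140000160078f002690948420b09c8fc47e841d05c4444e83fd05a82c24ab009481d9484a27d05882b4151b800010c0fa27c00082b6a000403a89f31800003aa000680686fa10c414a0a2080020ac22fd17d160008e394182b,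
  nat_lit 0x56c0190f56f92d0972ae355621150888433700088c49f00580055763008700015720732c11806088420500511a8aee266810403e8434214340008a20690e400484300280fc03a84186000108201000a669330250638fcd604afb5799320004840930a5508083f53853000083e41e8155c42c241f0e000003c0f80f000083d090004084865318000080a550d010556a05c41da0e80c84300020ecb40020a200c802077000851050209f928000288ac853a3290b403d21c811402483841bc2801e84200913115da3d943420ea1285702ba0e50707545f886433c19d43320e106e83637000026e1f512000106ed400081e94486300001e826c5a,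
  nat_lit 0x24e160855b5b193090b085742b0d800006d0fa2300008576a00050e688c31800007827c0d00f96000a242aa150869d80002154240004ec8bb8222ef23f91910a88536400081901aa5420740020c944e82502c0004580a34720c5028a1f012e1a04288bc0002060f87ec00085009000400a1f931800000a9fc0d00195f215d4272134862320bb2141182300bb213d501be0b9a13909a84c2180085e62ef3d000489832f120000370191722bcc37484b2980013421f07883c935a0000f21280029042400011e9aa160800508e8e4d30000020012568b4454464,
  nat_lit 0x10e0b1e00a21b4aa00217604a025262000a7542761199480003e40100221b10d46300080100be0b00000053b83a434813d0d003000a5003d62f549000127c1ec5087a90cc0100123742008d8180004206307077ae40001011c60c02501001c6139d62403243321950c71f08480000286300024e11b67e0f10004360025862c3561c4e258893410cd1e42f80045f29e04200005a22ce166861612b0a015a17d0bc85d2800093542c7090a6c0022b05d90add6a00047404ad360d0156936c9b84e149f849820485c93a17400210917a9900001070da35000085a3380083e21da46f1c00021ef17b042d0e000090047937286,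
  nat_lit 0x166c3b3702cd9108882268cb0000830000fa8658a133bacd166a50559c0bc40220134401b8002a831f48440003034f79687d247027b2cc50fcc8000a89c614630000d2d4780d1a5a8b89ea30c43e194004add23ca3400247b2418480001bd44a8e88f04e909104610f32d00104f828413b085843421e9379600053da3150b026c00013c09fa7ed34304594acad658b2d02701250ed1400000811322501004090ea0900127445aea514d80045b0bd41702d400001f0100b653401e43e80250ecb2702421f10e52b000881c4208fd9500012a61f03a00010e05a000015c0d4a844901650e286f43732400200b47684698a00000427945c46d,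
  nat_lit 0x1038a4382221600023052ce390150001128113006224ddc0024e481bc05262000a72482e610000a84322a1284843d1206000086813128d00006804fe7c4a10001120cd4470001284a74a1066832e0024463b400450424ba40232001084041937b180002d012e6a75a00d1c126092445a2291128883722a078688b2984b025a88d1d00383a888c445a22820002002aa30636a0550200d40592e00080182a216c628000006339510bf1116b4045122249c000000a7b07488900422201400148b052550cb00002430260a10a4a21906a0d02e00013000144d226ca0aba62cf2c41152e500000f52221473f2261132b3759c0011106ac,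
  nat_lit 0x132a0f01588a00001b45400045069c12b800169e90e7b93b96b6b624d1237c1248a74533cc0048a81c7aa0866001001a99d4d01c000000533a094528e3933c8db04722924600154108f9100001c28647725131c5a288c000046a22a1ee0864ccad656a4b4c5a1233d142f60d6256d6b8421451000d2fc8a17d00084082f75010a800220148603cc2c0004be081472201000227c1ec41d44f0b4004a000ff8800c400150010811000017c8045f250e079226cc000254d8f6024c270008fd49aef10002a54023f228403d9130f0000a57438811000071137e290e3131c50695844b3200d23585a8804112e003461a259de00201680b16262a,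
  nat_lit 0x16d89067b94216dc13506100291768ba45c97c0022a35b823400012f49e84854451a28c12a9172bf000801c2cc7a000001d4341245e04c16e801545b9280001520fa51c0008b66a00051faa8a31800016ca911482e16ca15245a22cd9039f49aa2d81a2fc093a2d46a014281ada96c012745a22cd164404c18001168cd0002309306f701507c16de9a04cea6611668b27d000916815417f3f00020030a7a4fc38000000a670128b10a9a67133299445801c002a1211d1840002360c8c00a3015045718000099145abdc4329975b3079c3cc1f54b622b65e0025078c043d862000a83ca0a610002804023002878f7d1547e,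
  nat_lit 0x3e0da87807ca50b9829881091d28cb464c2140403f46523263200a53e8001e28c7000a32400615000000519a21464000c07a8e446323160e8cc464231c7a0004fd8af07f0abe55eaaf07273115e000118a8c402ae200188c51c03b40008c52d000022c92d49649022c1302922e180128c6462a30d00a7306d0000820004a0a5097081264a1a6cc1baad4a0250400c8c34612304a02591320000c6001465accc984c9d266acf49933000000413e03c006a4f52788c02724d526c0ac4611116520aa460a30092b7c28d047d27890346022fd17c6e00002b83e90200022fda80011f82408c600055aaa101a3f01e88bc117a8bc0800a91a03b95c48f1c18a00e45fb5d528a95005a2f8849ed005a2f517849,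
  nat_lit 0x8e53a45a1252e846ac8da46c8193ec00046d1e80004f41461689e8ba1532a3651b0060ac80051b27a000817806c130000fc55945a20b2e814d88d746b10c01c9335d3150006e01746c235e1a00048e029c7200046c002006a01546b4312341e10004cc0009a54d38dc0028d40f800881cad556b2b615b2add16c4c800240d54b0758660002310ee478460000a3451a0051d107d11a2255cc07d51a03800000314205a007a36002653c5d48fb943e8d184ab5c5c28d046792524815e07583a943a8cf4672334dc0001e007d54e00046735000205d55398c00005d2209680b43c31dfa3311970454400001e001010914c7fc57,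
  nat_lit 0xd914a033a164474cdc000ba21ebbdca7eba55340d0001e00d474a3a16600000207c00a00047404800209a0088440000982a20681322b70e0a3991ca06000a3b57468d00000312d6ab0061510a861bb4722fc00200704faa000000718d8e91ce3345d40d391c500000012d24007e61a4240008e19b00054b833763e92314c233d484cd40001014a818c662b98216a37d1bc43492a49812800022237d1bc00052d2d394b6339522cd06685355ceae494aa8df46f2374800000cda66065ec1c19d2664252be5cd14cd1bc0c59900011bc7a0000db89341a1b72e894a68dd46e01836400046e9c80001b24cd1686aeba257723711b64302880051b87a000892c5ec11,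
  nat_lit 0x178641347a0e00000290f80a80008f309000439491131800018e9532d07256e2377478a3c00c00a47c0038ac8bd41b0a4451e7094e200c11e48f13aaa0550435a542243d1e28f04779b93b000007800402e2024edb40000015569bdc02a5555e315786baa8247823ba109d00008001508f5000a3b4468ec000a3b80061500000051e821476800c6b0a7d475a3aa0e8f3476a3b07a000011053038638e5a307d03cd3948080011d48e902aed800e8ea1c23a8002de4750001203005498e1d9423815480df40028e89c000055229b098de1764002475a3a91d08e74730c46eaa88000a3a91d28e82826d804a8ec4759d575e3751bc2a2d2008eb47523a4dc0014d80d1d8683524d886e13233500006c54d463,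
  nat_lit 0x55560510880002a09a0148e08a2444b482a410ca01000020c0001a7569ab49861a7000240cb00020ec277d3bc9dd0daa73939ee1000876578635000277920e0d0eb13e437290047f8183b62e55298bb13b619a4e024018e0010c926f43b0c3e0eea720322be0000b9c0ae1a5278b891fc0c00081d80e62b00001ec369424a180011f93a0000211288635d614cd776bba5dc81fd1f68fa200efc0008fb390000174ac10d02ed7901cd47d23e40c011549af44ad602b00aa3ed1f50d0002d9082c3c00023ec00e029009a3e618b625820001840004b20aac6e00047b87c0029e94f283502a0004f508387220e000a3d51e8050fc09351ea25,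
  nat_lit 0x122e0010ed99c0001f91a52214021f648ba458eabe75f415e17d8bca48b24552286e00006084a8884e1800122a13000a47402017f4880012aa9417b81ed7c8be32b9904081e9134892cc0000270082b03ce00048926c00417f0be26f42f49c64e3a722780010beac54c60004de82841a17c12215c17d6a6f17e243d21c74488000004ca749000996440044874ec0000a30ca75c00290c09800847c1770bb2d400240327086cd0c00057bac79ee4025ec95a57cc54f485242521066485800055a18348ae90ab8d375f22f540d690b4853597685665f1af500d490a484a421aaa51000a428f400110300f8220001020b60342055ea0f3d21090703000009e1f498800120e12,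
  nat_lit 0x10fe078c198640002bc556af71e8b00580ac06603808126a9274c806081a92704a49c00402349fa4f8066d9000808813a2204880000409617ba4cc00a928601006d25e92549225c24e9b749282c25c12c49243880e92500184a124704493aff40209232a800d3be19d0ac9880041a028424ba020014ef0540c20000a180400492248f98d24240048f80c28000048f810000a01501280c782c81330066a6400b0072fd523cf848ea4700200206583012fa30000832c0260149f00001960b03782e8170bf25f8802523a91c48d4f4002bee5f7afc17e4bf32b5a498a2919000077d3f4845f62fb400c91a48ca460a09de00024700366400027703e1ab0e207092346d,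
  nat_lit 0x527cc1146800000caec558018b3259811124e57e00217a84311a00105d2658240005772bd5563af1f9b050820936a10fe0b20c106042c4075caeb49b1d00003a85740fd59e83fc57c8e9d7cc0d2c724d4180002cd86795c1fa49a20d34606449b2300c095f49ab080003d22091054a1cb014d5a5f6823d003124cd2649311f800000495a50c87dc37a02200d319268c0d4a7a4c89c9331e6a4c8060014d183852aeb0000268406aa107024c0020004a4a528b1ec262d4afdd286e54a4252580ec08000a4bd5805100624bc6ac076041651818be300524c925c6e4faa7540000d00080f57e4c1421e80e806e16aa0000007821c4feb4128803a5ef965cb32c061eb24adb61ba0280001300021ea300d80458e4cf035129d3f,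
  nat_lit 0x6a3e1062bd9540021072bb0b600110200e4c20000cc0044183e7000a51c3000000a00454763361301c928c380000e915da6358a8f915683242298080004945a28e48746b3120b000d28d444a5251928a3d4a98005288943028000826b2e5da34a9a6a74f1dbcc98480084a18e16aabf10000e00005455f8a9c8eeb6523db08800a9444a1a5063e38a0002504de0005d68e687243259e800928294049f94000022b1dba214860cf4a12504eac1c23a90d167a9a94a0a50127e6e51407d55bc0003f00047a6b051c9ad4000c134b03dcb2ec1558e900132a0b1584a4fa8600000207c00a00049e8480022ef0058440002ed2cc9685d636411424ed27410,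
  nat_lit 0x184c2e37b9635850a7913125e807e9574ab50c00495a6142340020044e99f00000024f22ac0065982cb85f92a8bf1321635856c2353a268d2aa9542000042d6a0a130b30c4d2a0b08aaf800045e07886984e58a4a98300029754df89400003f20984807a1de6158a212a24700011e1758a75b895dd8605a70078035372950a580013289cd55821800094f1100015902091c8ccc00094e4a68158500844a70e00000c74d918c5143311e28f10864a40001a536949ae4d68310b52c33224ad2d29d495408a4d29a94c3aad9cadab52221ad4d69294c4a5d204060c14d52530580d54efacd58509a24d082d929947236adbd6e6b4b21b10dc17c94da3000465228305fad4000c1e0233dcb2ec205a610f47740b74a52524be4312d0309d83eb4b58e252d29440,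
  nat_lit 0xc46277a594700094b60034b64c5424627112cf0951682dd2cc9653aaa5952e28054ca7092ca9644b19b800401a02486ca4800100d86fd47cd00000065592f700c969d8945ac141aa592c896284002d46800078a5840029630018540000014b38852c400313faa492c095f83a5992c49611e800003212f0c48ac182a1b20d24e52dc0004afa5780ac3b004a57c700d5000257cb4001116272d39524000298804d0f081040cb3ec38002a57d2bc95c4028a418e0004c000052ea9661b0a6952e2d80644c852ca9500125712b695a2827501f00a84af5354380a84aea57092c322cc8a6152a0a84ae256d2b448001285c4dccd013b28602f8a069a80042f2a7e3180002f29e30685d875816909fa566989730002564b400125492a00609b,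
  nat_lit 0xa590e325e92f27556db1609402d55672d412f2978ab80d826a0004bca6c0040f507a27b41e49f44faa7da7800107b29646a0004f680bc1a0f262b16d975249d622a5d92eb5600001f96d6a703e2dcd7445bd5db81152ee975aaaefc0049751180097804c92ddb1d18f85f5088550002bbf5dd0bb42a0005e1933872bbd2632ec80809724b8d4c00250301f094000c3756830986e5774b814c022aa862c16f405e0154b8a5c21a0006190cbc780004b8803005a0134b7d4800205902d9602a20005d713e6a00004b687c002a4c52486fc2a000526872c721cb00325ad2d4054d82e7536c001a7823c12a00004a5f92fe9cd54f3134b64003000538126095537af612d0bc4d786d92cf120d807e92cc25,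
  nat_lit 0x17809c47b92a589cc732be310d7f698e4c6d700049900b7b1c8d5058e61d2e2ab6001001a8f82fa60000000580e094c685b0af0c3f5fba62e0e0000b1882aa00004c507c00250b0ff85882a00062b0d9c785a10b3a62130e3b02081080b80024201082980014c39f802aa290000f530a0022d796f9ba24c65e1852eb498400094a53389a0003169318f72d631858c807e03e079530698277800532003105b56400001e1a6a2003c5a0279a604c0001094844820077000284d568f70932ae0954c62572a60530097fa38000250355a8284407a0003ea5f400410318999a48d60e74cdd600029f707e83f05c0000802b9c121005740c295be97b4bd0b532699201b94718104725a9a5f292a1409a100d2f644,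
  nat_lit 0x2355b48e846604e4d082800438901a8940023870ae82c000b6254d3096c43dc4cf14d34a4504cfa678eaa3b0a404f80080016f81600040001aa66c000be705627ac00e99e001d809b658962c31517deb914cda668800014ce00180be1d0000009458394cd00180469a60102666be00103b812c9800016d04dd10aed2a4000d32f1a001007d3449a310282713c09e299000403c0194dd9b400018803981682cc760012650700012a20bdc262b500026980569bc6831d0b8abb824b2e882b8a3c4c902000203b01d26a40709ae4d7a6c1c200001e2fa46a0396359740aec57562da6453215e02385a40009914d800132e0110aeaf549b04d3521d740265c02e7b1b188a5714c8263d640781870000c298f00092a985491,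
  nat_lit 0xbd72cfb280aa69b9001ad45371650010e143781bf42000435a9d0021058000b4f1c40247040014db0114a9e9b51680e5394002b200094fa1a71c032c002a7d1d0a200001aa0086a8bc20404d898000209003c0198ee0004f5aa41ee08d54a0cc592caaf4d8a6c135f4713683040036304800001e9ad001819c17c2a00101a046a9c54200053a40620308700000655580240caab01162aa13549a916a7980ce0014d521800421a12e08f81f96200081a00cc6300003c01e429551b22864a1fe54d2b5934e9a6ab800471405205800168c3ea558e256489a5018005388c8163f9710c743ca04ad840000504f08440a23591442b293464300088dc11a24,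
  nat_lit 0x4e980442b8b531b814615375d00917c8bfe67524c8ff93989cb5901f448e0013080089024cd3cc9338958104073da53940011f1ae1cae0005e5a7d5ee47e5fcb2d890647f5b42725390ef001272c8f2cb541713f5720b1dad8004006bc424a9800000015b882539047623f91ed6c89c61780008e23ad1b800138a1f0008e447204701500017922911c92008e29c34e1014194a180a500048404652980007a9c10009784bdcdc51af2d042955a00032853b0f72efb29d9529ec03d0d913809bfb4000938453c65417bc9e4b445a1d9c0020034f482dcc00000008e7c729bf29ca7a00ec3604ded9800006f1ce0ac0009bc0f800403c01d4f18a800040813e0f080a5344dd26e49c001251923979430000128c9066f,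
  nat_lit 0xae157108b53c44255c180dd0e72966714a53c29e06b0001972a0b53b2e4c1a727666149d3be9de4eeb5553ca410001c40029df00298399ac61f59803cedc000000a884729dd00180b13d802a4ee57c00023105ca215be3ee000a76e3400025686ad47c7e66480153b43862b02a80009800089015c4bbf1222b8c4f20ab9900017300091c8fa53f89fb4eb9380003e811e82c56acc4300978c674b3c0b9a8a93ad6d4eb0000aac6762b90e40980022f0e101349ee000d3c50404b00014d3a4001569089087cbb921b8126d80001f000713b8645c79040446ad15d680913a29d0b583680000f4e800003501a248aa486dcd8620390197489d04e7da80029e45b118c00003b046068076ba73001010806ba14e6a732bca2a5158ffd39c42,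
  nat_lit 0x9d232e1cb0a09ccc254f90a000009c66407e10ea2b006800d3eaceb274b0953e32b00580093e4c228914c93e69f14f83240069f10fa7c00001974fa3ad53ecc62f93a64c4ecb70090002ee001002283c0acc2e66732d80237600000115b60d4f7a7b53d80400000047b8c24f694a93d8031ec93659be9ecba881d3d601000023c20a1c152b50811e53930c1d30c3422a0eea7aae80012d696b05f217bb980019265a8088f4809ea052cf32f17c40014f4dc95ae24b00027a06400209b30388e771000a9ac2e23700004cc36a68000278cb400011000100026465218519b0cba1aca78d3c49e16a800843e60f265301d810130532dc000221c0fd07acee00056d2ab5ee21c6691844e56cf50f9284d3c16f,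
  nat_lit 0x18aa6246efb764ed2233581a81a1400200000564026a50328149203d00f00014085700001e54206303d31499e464a687181d406a02c02854410254502dfc00011014202d4d6a6600280054037e000983807201132000174c00437b3a4c3a61467633514009ff4ff5f40001765541bd53ac8b6789884016008544a7fef80001b92e29716d3b6a19a94201321d5a8f947a9fe270000288a85318dbc75461e320988d87aa674fedec0021f9268814d0c0000fcab814e1f7628319d9d84d826384d13f77a0018948208076bc800874836a09f2d4002a360518364ae000671b0d1ee615672b200afcd1c2d728f13ef43000009d464f750280955bc629315b3b44189f66d8004416ceb67518909d0c271165e0000ae153d3dc412cea67733bd9e04ee61627d13200127593e95d084,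
  nat_lit 0x129195e14732a0003180a3e36c8b05a4000a192d0000058aad1280b0736a1b50c285d9201150c005436d0c009285caa03758f811c0018250b000402a04569000002a51e19349402a52e29100057200050987c00000362f035428a125088100000010b282d42439050880ca36a1100a848002c5a5109f94de0ff5f582400027906702380000d50700119fa626327b3f0bbca455b800d9facfe67f98a5a00617509945418002133ac9508001117a8680467e0000e182143967cb3e8022a0b5052824a00021cc312589477000a88c072b10680001748b777b8e5cc4262b3113168a1a02350460400251b040a8e8c800058408d588e9a,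
  nat_lit 0x48a6000013000000303f2981f8a31693a91945e4e000000c1f40b517902145c030008174076b5c60800151226c2d83dd45883000a8fd4806446a59a1da2ea43728000074059542b0d47aa3e68fb48000ca2a5600080102bd2688aa5900010032cb0480000020a65c8a291ffa89c1407000020c00024a0382944eed1a68d9901a3ec45004a8a144a6e0008ad56b4b595ac0a7169eb5070800056eb26068ad5a2ea2302000c0a405502c2ff08620b0532e100041e811c01a2f200102801484a3280002bb953aa75773455a30d1968d00c5460a1f8a09b98d24cf0003f143c003010a90d48405ac1a87400401e134a6800201f1db0a992200000eae51eea26003a881a2802b512a86d43456,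
  nat_lit 0x29140000846129d0104ae559e894cb5027300062c002b310a1aae5574114553ad431400011d84f4b4b3069bb22d484a410300054e4a71128000102b20010208002a401129b80fa000c4800176428e1c8d70004a3e51e81400200d005ab202dac00008803b10000155acfc3827e6988235478380998000020000b42b10c62ed1ab8e487223fa5ac80054754a00005c82e2b28420a1c2c6abe51c8b00021ac0d12b84600000d68658de1ab64c99fda5aab655a855546f470010a844b2183bc800469e2e60b02d4000d26529bdcc786442e40ff470c25c11d28d30e1b70db00021c0011e705a827e1b45f8000454b1b318fbcc7ad2732017117a4a32518e1800003601caaa011385524903146253,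
  nat_lit 0xa62006833caed2119a881c2a0a8f04bab314b9920008a144f4b6318000050c27037ada8880c46316ab702d4c3a52d64407a1b2000e400045060b3044b1e00108c045c34c840003204934092812ab81dca568b00045245e72f417ad6241da580638000b6d04b3dc520cfa6913478c4ed130d5a9531a00054c02f04c0c22b400014a69b00197ecc78de3680846956aab6708008bf65dc2ef09a6c4001280b1ecc60006802ccc1a5f769118d03781ba687a93d49d8c0018acc5685723f49ad4baca8eac000813aa88051a580022b1021a98d080001562dd572660694000d496381d00000020011598ad57ec9b000084164220d5ab4946921ef0f82c78416b275241b80000c60c830c008a473d05000060f,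
  nat_lit 0xc0020953a18903e2a712aacac3d020500880380015f00000041005853897e94de0305507c1a56a702704fc286a6f0229b94da0100008a0456215a3b4b400ca6d2a84a40061b5a087456380210002fd4d6003695087443834a69b29db2a002694b4a9a56d916ca9b183cb3253480044aab0d070000c462331e3499a4eb3a04e29a14cf660011678b805c72d18f740dea8a840004b3857a2b49dc000cda582bdc3e61f4313b49d8b4abc07aa9972800155c83b56301d26748f8981793000009c052cec3baae18aed2431216659b2b5f531e440020fb2bf89f99600007c84b110ab907a80094c31a00086fc19caa93680001aa0db5d61f9a4800352f8e00040cd0680c3d3600109cab2c24cb5,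
  nat_lit 0x150800262204995e0aef01b2a6b3a00128e00100046400032d15d6a765a18852a4d1c2d0aa0d504a816a8004bc861d6900b1c19e003542670000d155a2bdcbc4d373103d112aa5bd67daa073600102d2a79c00005d50328742cb2ff87d5500a7f748000002c73612a04bfaa7f018a8055c6245405d43cc2af69b29fc9c1100f829f88ca7d53e004004004698b4ecb502a6013aa2f3400100191e553ed0000000559ef753d876d75462633434cc592a7acc8001a58ace53b4b0c54e147089e003bab2b53cc28440259000084000a9703209f9a4a9720a80054ef1a000179da1ed107273964fe229b9934cc43ca761c041041018c000660000b410c50e84126010a6006d4e8e90010019560b190e1068433c00acb800400aaaf58c88040ab96,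
  nat_lit 0x20450230130acd16900a400fa7000826159aace16e06d74c000127894078b8130e80d952e55000186c662885bfaa58020010118b3059a2ef0f66940000230128855446211662a50aa0020100b2558808f041aafd52da4000807c5902c91761e2090a2bad1800003e02200b2a66fca9e1742a441800030d808510a9c5480040025b30020008c80006802a594ed0030fb6d5b666c403daadd51d0a0008b85782bc003781b9b20002fa34c14ed2569e9da1ab664c012aa6d519a2000188860288571aa2c020020152d5842623133214d45d3a100080a8070aa109884b989800ad0000005402c09c849efca991162a201800031180ad10a97543804000adc2fd0441420a261fb10406ca9c000aa1f3e00806a0a880019e,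
  nat_lit 0x81c044e206d44002afb57e8dc0000df0dabe0002aae2d03780000100014b40dc06b32337cc60d613199858016aac555c2800209804ab395a400031780b5420335550055c80b265088396d01d35a78003540010358559840005672f2474068012aa9c0606755380400460d6a39840bc415f555002f520010048015a5c33000350c1dc3930417c1a42aa40280048683381580008701b63400055445a21b80000200230197f486e77000980cc8001d438001a76bee7b9809a7860568fb1c8874a9e54ec0d9765ca659800750cb72728000140010a32c482600003f2b20b4ccc2951869a6e6002e9053d53545,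
  nat_lit 0x2613309daea442221b10d885ac000b0946a6d660e800029814b5ab30d846c2408e041820aac45600017541f5d401f15bc0008c2b0c0029056080011eadb02880015808e00095b40b204e380001a14002003269a146346a718259f4abf55f2af6fa0030000e115046900083c004baf6b2189db12e81401895d9c0015d71199928fc00001b1578095d63585ac40540292ae9580005cbae61ad2d987361f8c481325cb2e5c4e21f40342ae6cc00102101140dcb0707584dda7fab0000ca5abc0503b8ca9a0c6366b3b5a08c2c8c55ba6400000c12a899a4000d29c97d0000b90000015a760d55b09355680c000800c54a0b00000047c0c25599275564031ee9149abeab2ba97b156201,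
  nat_lit 0x19200056e968002142064894000b4507e2ac2821bb0182b6d5b4c96350dcc2c20002200042e81635a9208000175087acc8ae1745ac07f43f4d850bd854d5b1ae000928d7c41444d8000946ccc53b30c982d8414b03a812809356b6b424612101aab98002105e200dc00025000345c070392b2aea9680ad327000cc90621297b2c00462d2a11021600016c00018b600032214a0c21945678040021920ca3410348c800032bda423a23f884159a2b0002f180240032e11f559883000803c0ba01c3b800002057d035a4401ed1a6bd990407c03c565ab2a1a0020118095aca8400090c0c6e6250b0001900ac91080815a603201d00e158f52,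
  nat_lit 0x1828c2cd0527f0ca064acf557a66c004c2a6bba3400232962d1f00003276712ac6506103070f495e2bf0013224724c6001eac08286147d800042c0b631a8000038af80d0f908d6cbb2373210768c7357731c60ec150002b8002448185090000ca72141608884ba5758ac004cde66eb07458a2c3c180049802ca5fc0c0000cdf5a03dc97e6284313dd929a49b665aba336002315011c08a5c0008a58062033490001af01b92602f55ca010000224360895922bfc0014f572000520ae200023d5f80bb0002b851c003257127598c3000112b85082879f000493049514ea180004ad2469bd99c63633c36a4b16ade56eab706c0005e58a94549af,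
  nat_lit 0x21e5ff06843c60c6c4b2947e8b14010ac2768c010a000056137909f05000000900132903a6ba40e8886c208100d980043861383180001ea0c9068fccc1ad886c1b27c286b055821000024b167498c0001105ad969a0c4e76699204a8e3420022c0e8a0016100bec635710000ac000e2b0002c043e00019e13345eafc61e0009600aff028004a2ad186b53e11f1c96d25dcc800039161930c4fcd860042bf8700011040a78ba68433e69f0036fb200008218a62a761881853852a68e80155f95f1ed901007c002922c54188b0c0008799d603d00014d5f200168c8a6c1660b45ca00ef620001c38a517cc9b6bf1568a52d1a630008d5f0af737000c7683b717e26c0044d367992716a00160f8c2d8ead000035d8276f7,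
  nat_lit 0x662b31882acc7646ac8163eb1e37000964200608b0740020035e107905c000000ac8812b1e00290599881f358ed7c002127005bc40001e300b08472200258dbc0002412089adccda0001a908217947e6d0804d632380010f3d800bff9200045742bb5ed268000c9b0a243c5702ba312b67801eb1858bac5900bb81120000fab150018778b94d7929033f979f4958a00083b4b710700043b85c75e9a10000bb31222fd4301da20cb2ec012b12588edc002c0210c6d80002a70dae5c1dab5d000c600720c200014d61e001482c340008f5ac83a8000b0cda800467a23b5e726c000cb20800404aed8e30a9051966c1c585ac296126e000af0c43c11,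
  nat_lit 0xec87663c40010387663c4000acdcfc21865500014eb3500198c8c68fac235b3c87875a00113e859c0e1382ccc00262f64ba68000db85f2bdcc5cdba6de2ff04b84695992cc6d00035999675b766342b133c99e3670012cc8b363960e8004006c0d6070700000012500e565e5995fb895c8c8b2eb3000471249f308000518011c418c4b2cb2c3f00097e6db36d8989cf4c4b70acd8400225014404400025064c0684a247b1eb32b5652435a802040000a00080217b007f18000001230c14895c010cce6d998d84901fe5e92c9b700010f600248c00061607d8500f25b8800230b24000a4164400047adb81e0000590ed40023bf100af39360006628230126d0,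
  nat_lit 0x18e95aead741b98dab7e0021d28e0592a300008e8ca1c01843000194ac587b8e85ae47306eb1458a020665a66f80060040039941bb865767206337a00200180107942a000ae5c2000fe0e000020803204800000601d5a78065691bc0011929c88103dd80040360156599b40005121f48f1c2cdd1001ad14700022868f682ab790009910e8211f5a80017f622965aa69b9c63f31b91299da19b5adad0b740000c48047682f70002d06f20025a200387a4d0123d16058935d00080381d46300000282440d00798f8c807bf285933567cb3d5931d00aa0001a80049f253c49c14f4a4639102ada4000d33602bdc9eed576e393f09f4d0e1ab2cef720021a80d480dc620008d98962880000d9802c7c31d93b56711a,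
  nat_lit 0x1234c74de831e96f5a40b675b361800401200a81682578500082cc250a800002c428a245cc12916c85300102c572e6447311cc5bc0ba55180041600ae0a08a8000bae0b7b09d860ae5ca378dbc80fe5b0edc0045422c92e9a540016b894f8883160000e443e0830002d78b4001007ae0c4a000007b1ccf800f230ad756b8b5b6480098f6332076b480023342a02e9e020001990641b40d95ac8d4006ddf6f03785c8472531aae20a20026ef035d72c1d00090242401210b00008b00481cb76dbb80d206102f96aaa20011161a16d0c6f8b7d8cf60509900048ae0d15c90cc000d180678e48fcc116082d489c00103c2dd4c6000066834cb445223e9908ca26496b3adad6a1c0,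
  nat_lit 0xdd76ec30401c2b7f5bf3e40065792ac9510ee0022bc8f54056b90008f9c7d03c4488001b42ba67b8f947ce5ec6eab59018a0565bde50004b900292e9c146dab23834b7260016650eb1b5a9b0002e3809eccd680ea1ac0dd12f415d1b3ece65bc70400433719732206000119c1134597280000ce06426f64612d5ab45f862b0ad9aa0b75c880099480875cdaa8002362084984000be2008d84c860dc5b91800040ae0542e7c6000105795946952800002bc1346f056b644ce6df21312e300dcb6f9e800cc7a36a0df26c00463d3c705bd0e00106a834d9391800037ad762f731d990cb8649c2210cb0626b6bc3adac0001f264da443e41e900043800447c0448214384bf0008c0d8d06300005f97bc5a,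
  nat_lit 0x5cc172572e030010bcc052ba12e0005a2c1ee6142c0000d14037a84844b940084107fed046eab75067a32b000f1587a22b000084002b9f01b0ca5a400001906573c49f122ae42340030042e9416c2d50df06e801bc400100246e00274b000400c05165a3f000000400082571c5f11b1ae30aabbe05f3370001c3000801076a0b000000407aab5c5174971203000b450158b9c580001a2428557109970e0100082b415e17c4200003d81ed1e3069bbe0075c29543dc1de60a06a4002df1ad869c0000d5c18011bb829962d17f5bc6c0351800dbb6ddc6ee9c74e3c68a1aaf0970200260c2ebc1c00121eafbc2e87e00017b83e23c,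
  nat_lit 0x49c10410b17cbbe26d5d715400401b18503271e00100d8c9d960fc000006c03a3c5d917946d2bab2a800c0303665df814c24ebbd5d66900040171b28d987026ec27510b74600100b8068026bace380000283040d2eb46f6ba7060008b0811e5fa990002c930deb0ad340006e02ea54edc02f138edc7468708faed57490a001807d7bc0df20e9888ab83bae400080400315d8022c1f0d6700633c002020011025010bc700000759ea295d410597400c0002fecb8e110298151ab6d5d0182eb0006ba0cfb3f8062bab0016607d641b000ae7936067035903c0009a5cd800dabc0ef0788f6005eba8e30008a8e0f5079190002d5c1fab410ae0006ceaee54ed9d2f5a8e5baa5755ccae6172ed500080145e00b0000005afb0e,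
  nat_lit 0x16ce129453a5700036797ccf7274968114505d4f8131db18bc6cd80098d847a1d33a8002c6a11ab0ddf00000e907c3060005e199c004c2e0c2a340021850d502c00012d03d16025a132004af0177ec900113658ca13692000448023f0ffa440004d96caa9db204ed6fc04500cc03c01daef75a00308c8471b840bd08000884041f058005b0a192610001b0adc71d1304684bb915800803401e01e2f580e81676ee6ac002d0a6fb0468ee00000c006da209a1e93718bb4df96fd12fdafcbb68a01898e8000c8000809c27212000409c2fa61000178cd331d0128258bb201800c25a13002e2f206de021003f2400424f13b89db7600102e017d95afc,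
  nat_lit 0x76ebe000828c12ec040450005be37b04380001abde002b7541c8c172a6b7697fea30023751baadd62ee9778b46245e12f700064ad6c7210004dd211c08e9f800123e070838216000150833c216e7b7417fe01f5ecaf61f2003646899991430001099c5aa2555c80044ca5011aa21800026060fbdc4c6db531437b89924ba0002f577c00215b8ad89725c0008afc00e610000a5032ca924d800d7a4f00011465b76de982e41993fe4d6990004a3014f0a93f00004481590acc28dea0032f3c7000206c08c8b2087f3801bf816bb2000835c45e2ab3680001aecfb11eb0c1aa22f291b6e8004bccaf88c0000010001110452c6cbcb790a9e5256dcb40000a0065e57280064eb1463218600022758b0c4ca87,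
  nat_lit 0xda6410707f970004231019ab80021eb0c03c40001650cb4bca800c05f246800625a12c8b1da400268b8ee4820b0000b454706a10000aa02cc61]
theorem S0_c : blocks (facts 11 3 14 25 2047 16383 33554431 13 8191 9 511 A R 32) 32 JS0 1778 = true := by decide +kernel
theorem S0 : On (Step.{u} R0 LW par A) 1778 4850 :=
  steps_of_blocks hpar hR S0_c (by decide +kernel)
theorem D0_c : allB (defOK 11 14 25 2047 33554431 1779 A K) 12 2 = true := by decide +kernel
theorem D0 : On (fun r => defOK par.W par.WL par.E par.mW par.mE 1779 A K r = true) 256 1792 :=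
  On.of_allB D0_c
noncomputable def JW0 : List ℕ := [nat_lit 0x57cd70847ca2d357d22cc8dbe2e45f6d7158f3e3cc5f857e45b517cb5eb238e59b57745ebd7f65cfd7ef5ed23a85d0d79e5f22399571d78a5f1a3a48e897878f4a3d58c617925df57795dfa35f5e9e38c88a96865ea57d65bdd7805f3e3c68d5179d8b1232d5d622c25f9d7a55fa23968ed97cd5fe23b05d257604d5a33d5d2a3368ef62f85f6233e8f3a3d15fae39a5f157ec8ee23ba5f7d7fa8d917a25bd63818db237a8da23dc5f7178f5fd23cd5ffa3905fa57ed8f8a3aa5fe57fb5f4d7fc5dfe3dd5f523c85d663808f597f18f663d08f6a3de5fd63e18f923ca8f623e0,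
  nat_lit 0x7f8232f5bc529d56cdfd48b022c35d457544a8967f5d3969c8e0d63659bd75e4b1d75759d23248e7572259ea247850952959e23208c7962c8ce233b8a697184d513584d5d3335a822445a7d538898174c5b3169b5d6a3345a9d7218a4a3bf8ef16c35ee22488e523975eea32a8eba3b1897972689a22f958aa2f25c2e33c5dcd77653a57755e55788594d7ca89697a0578d79f8c223485cc57ee5a2a253534d6875a217828d197818df237f5bad79c5bcd4495bd22bf5e31690555578b8da976c5e157865e423785ce57938d9977b8da63625f0d6835f123935f017635f7a3ad,
  nat_lit 0x541216d7dc9501540a1f887d95f18b3a2d183e170447c11f647cd1f553ba16850394f153b55f850a95f75bea2ca50056fd83d23718db94215ef55238e563925efd61d8ebe3ac581d712832a2e558222de8b9e2d25b596455b5623059ae23d59b21625cf57295cfa30687d231b5d0a1f25eaa3a68c0176e5f417f28af17978c597378c66314571554b57195ab87815bd8e8e1de566a2a54a413ac56754748d3e08e56fd3af8d8635e5ec638a8e217358eca3b55b8d7685ecd7b6579d6925f8e3c48f097985d016e98d562b658f14c588ae15858e95b15bda1d47f7230f5b21279,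
  nat_lit 0x8bd22f74acd720585d16b89a6266549952b4339528549562e4b3d62d5c5a2f04afd71980222d55c2a006539d32153a215f5945557594a22d5785441578a1ef897168d5cc23035d9576a59957695d9979a8d7179957794455baa2b35344f0f534a15553393c78d1d5b74c160ff4f990a84c090cb844deaa56d10ab8b062be5a3969489416938d2a34d574d76f5ccd6845a657345dc63768dd17965cb943d5ce2311554d3f7555219355413fb5e115c34f5611150993ed4f616f98d5e0a257020ba8d8236357fd60042d1520583216a892d61253d5706431d61a53ea1fc8d0570e,
  nat_lit 0x5319d54855a15953211e2874a1d57f7929b49f529c7e11f8647a52784a912a14a8dfc85b9e3858e094814b152c14b19ff6872a39f8e715935d12322559d6305d1975c5b9571b7ff96c78a6dffc4d4d489850d241526934d8c7dfbe596e05289d507659563518d3934b4935e964b3533259c624289015348c9a329874162359cd676569155b5d4e3328cc171c5a962635a9939a5ac94515a78fd789c16ce5b356af89f16ca5b256b18a223c18a016d389b226e5aa56c258d5638847163759f6188541d67e8671724869172354ca21e580d75654f218b77c953954e9626886169a,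
  nat_lit 0x55255478634cd087023a186e95ad51ba1c8875d3a455ad56c8548c6a869a1c4870902d5b722a38a813904a392944a451e755f95804cd8c7086d95a0567d57351e547751e939e56a556e86515aa87321ce87721df4ea13aa80ea08f79aa08882453ad5ced4b78e261508a6165f5b896d18aa96df8f0e2a8579549d579a1468142353812935b48e16b78ab5e9a576a0548ad22b74cea22948c0e054a49463854cca051761ed55791e57fa1597874529958fe2278890dff4a0d28449fd1ed575630d8c291ef51861234608ab04a3128b4a2128756b933f8cc5fee5bb62b95bc1fda,
  nat_lit 0x83aa373838942f833a0d05015420583d61443b1613547e17885f55215435710804170f544a20c884d61b546217b358d4f0545a20888195f68b822e37c796fc5009169832e0c8542217644b9500542960a45295f058622dc448d7057c722e98b991f952a614d3f30ffd59015898894fec5919e5088ba231476219152411714d1223f536ce73537116e8582163523e1db48d122552516578bed21e52edfa88c12307810223756793317eca31d5765245528532e87c21f359a15cb8c061e85bb96d98af629e558a2b15b9145955754688c2dfa65ca94568c4a31556895a65695571,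
  nat_lit 0x7ada0b0830d3bc4c6603380c0b964c6e0ac4f4ccbc510a10f84313b24d88ef24d84c3e81613da4f5d35d4fe20b88b1d3bb50fe3598d5937b5534eda8656192553e0b487755c281593c081720a332ea09c4e353ec42d90b342d5cf850ee24d8928eb743150c14319eba4fce3438d012ff57b21fa4b6d5ea57b970250e57017af142583e5103473ddcc7dcd1ac4731f5287dd1a94ca1f88835d2004c8e11584491ff4699f8e7e311f453de16685914f287fa20183095fb53e54fe4fc54fd57f62c88b196fe4ffe0c5500111b5040e97503cb1d834942c50ad40b8379428509d40d,
  nat_lit 0x3c795e9895520652f11b78c163025939317599223959894338d756e14b5a10550e10fb4b453818435e9457750f88ad62b24fbe0c14fc12e33c35dc73c20c90809a345808130f3ac1310829509a4fd20bf82f0aa24c2e0284c1cc8650d20fd83e90924f413ea4f9d3b54ba92ec3c54aa8807130c4c252e54325ebf4169099532d2e0855e154533602c874d5b642790a06e01eab3211ea47ab50a95a00f0789454a753913cd574a1e557414378dd56db5a5d1d15a614c146361174e1120c46514158405f985cb520f8c4e3104f753de3c60edd4f8d35e82f4cc676fa2594b493e1,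
  nat_lit 0x5148dd5847611a4b2616f5419269546d16386961a27f4a20358092b9587d62549c5622588571e801171d4ac51674ac9ff13d74b8177cddf03d7cf31886524936d5f254380fae36e111d7ce5de04918fb15aa2267556552c860955a8882223497d63154c553649dd53558ce2ee8bb171a4af515d4af9ff94340b73433ce8b7b090fc4b392517b29f3745190cd7b422d74b2d0eb4939ec04b320073be5dc53818adc4c712f580c4cea5384adf858615e3b29da93af0e384e0d4eb865ce5e592ce3b88be22c3ae60a94640d203b093c8841d0705288d2387c61ee3c5e0374c211b4,
  nat_lit 0x54fe2fd8be917f39fd0847fd1ff786a21aa55a5592559619f5599fc457211d68a2d01f4ad52ba7fe9ffd521d33484e4a7a4d41fb44d3d349535615d5128e49535e23588c8f795ad6273810907a597228e89d10474ce122c4cdce5548f523f76312407ed9fb87ef1fbf80f203e4cb534a77e907878e107759991808905d8a56662655a8d38f4e6539c7fc939b56355875638f6d513e119512cfc352ad6aa8788fe059096ba49f8fe689aa28c8a290425b114ac52b8ff68a195845afd6c189f96bc8a0627a3f55df43d94fd678e9e407ee96ae8a0a2845ae56d23fa5e787e096b0,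
  nat_lit 0x56e62af8ab1212527ce4685121477a010807a11e9b813204e4d0535a48c922f48c522b52321a1557d1d55309280870cc9a575a1eb5761fae4cf1fe2810d0ae4610fc8460d17b7d322ff4a251894d19343812e04855d62bb5a8908b461927a7f61fdb327cca27178ca1380dd5237dce04498d2977f3129873911e133e51e42ad1be727ecab12ac91ea7d192867f91fe67fb1fef45cc72349f1fd737ecdfd37b4dfe37e0c9878791ec7df1f7e477d1ee3e7508d47a1f81517929e8494cff4984cfc7f19fc984b1496524545b84da38784c1499847a1205155480550d2c286bd087,
  nat_lit 0x522a13c8490bcb51ad46c477521b7dd12227de9fa74951fa07fa9458550618f8630c0986e158286ee1b456ea1d987591bc55121c686b8f373275eb47ac91e65651473563d59184b947184c612a521148351ed47f333ccd270d8cd14e5dca676195704e8d3a673113a586f21be55f55ac31d1ca930ecc7131c902a75d9572822a08d6ef139f392c8f180ee038319cc6c2f9cc6b31a0f3472b902c4e5208640a539131de09382410a352ca13e52bd1c852e6140853a151513165888cd04859216ac88e96d0562e2908a85e7e8a522968a9a2a9536215b5369d8248dd23a48d5053,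
  nat_lit 0x45391457c7deee3584b5d3588d4f7448d59881dd1037751337c049823769f3b7ce1b2a356898550120c9543e17485c94fc883a21143fd5eb544551436f94f358462da8b617004485ef34489ee644c0b2544bdc0e7bf114c452d12b7c21148451d12d7c4a2eb7c311fa7be1efa7e351f83f38fcb3f34cd93facfee7530fed3fecff43854ffc476df77477101a55de1ad4d38cf039bce7139b4e72405cc062e45170524e13a84e0cb152d15605af91c248712207d0121f7319f6c466d2247ec124348a524475e0f76393d33078c9579878d0205379f4e879a1e95731ea08a7229f,
  nat_lit 0x3c41dca3ae8a92464df50463d18b4c9219b3a40f274c9a0354ca919d504e0d54f912054f2a0f083590093c6ddc83c50a8e46a91ae2c551ad7d81f6344991a846c9f9027451fe46792026d9120150c136c8594e2881b20c74ff6068445d0967bb511a4be52f34be8ac83a55d933a45c463bed40680b8cde4c794184f48ce783320ee83b10045088efc3bf8ac283a12f0507541f838141a838e0dc2c64ac67044b1c2c59cda357540a83920e6505d42e3389e56795140c43b8dc643b5d94456e17f85f0d2f4b71161804600e74ea21588490bf547220a7ba95fa581170c45656ff,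
  nat_lit 0x4f3a0ae4c18cc082ca2578950ef14fa60b64f953b64db9d564d80e24818a10b4f5936981a93884e1536b81d235b4ff138b817a0604d9537a3314cc86c80cc73b65c3c3194edc34a53be359d3bd76e9dbc3b853e03105c937240c3f310dccc732935c827a0a143cd3ba32c88f3817605a2e4cb982150b972e50cbe312ccbd4ec209a27253b3313607f4e30fff3bd8ef53b9ceeb349cd2573d9cf93b04ec43af4ea3416624f7678ec93ad5d963a74eb681c90c24ddd3793b321098418e5838a90b97ae1ebb804a0144b7d2fe4b6600b4b68d6f4c4a07a83b503942ed1017b95102,
  nat_lit 0x4f120a78290d063c2a02a4dd8c8a330e09882593b44c00eac4bed2fd3ac8eaf767dd9c4175060416d05f323cc926ad8c914451be22c3d2e23a9509c6c3109b808a0244ba530e2ab1be51eecaa92aa9cb672d12e47a99ea9129d09827286f86e05b7e2a7caa424acaa32a80c886c50c87424509426d50932421eaf7ab10a63c14ee23bfcd125295da685154a63a4a0ab4cad00a538d408879e1e44bde0f283ede5c573e0f68a756da511e1998658bb13c4919846451974f0e103840106b52fddce853d4c0468520a6dd1f994689f927e6d20d3c74f203c64ed376e200d4b4ddb6,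
  nat_lit 0x373d0d6435066e4591f357cc87da4378b31702862b7b390da43710d97b890f78b65ee0457e0014b29ec83a246b47634e8a3a19a427ef52507b310e9434d0ea19b07dd1fc50cc3824e0e381ce0d33a0cec69f0ceb2b6dbec6fc4add4e1e07881d90344dc93744638fa43970e607100e5f38ddd62759ce393afdda23aeca6a3c092d45070d0c3a790726de107129a1ce873bcd2176a920876b92072a31f5e7d951b5382931580bd03a593536688ee238598607c8a9d6e03b95da43b98a6e4dfde8681dd06f3b7d0746df1e9535a1e8e7b7d0fa4df0ecf3c24e1780792ee808601a,
  nat_lit 0x49bcdc549c1fcb49b115380152ab442df2b4561eda35c8b3c7ccc8c84ab10f07fcdff036f0dc036fcd812dfcb7d70bc65c74c221774b0f522d19d387744f2f35dcd7870b03247469d3474c86524551f237c80f7a36b10e243847533650d9634dc3b974a0dba36dcd853cb1ef12d48f413d8cd7e3d91df13d80f557eed2483608f446539de11940f7d7894faf4ab8bc3860ce794974de34979fc149691578bb52a949d4d5e49d8e853559f3d2bd093435191377c9c92e4ad89337fedff83721d4335006b72dc4b6f70b46782ca9fd135c07617b60db143f90e73735d4174f8490,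
  nat_lit 0x29f9bd56ef8a7b399524a71b13483944a787238e5439307fd4cb2039390ce452aece4875c8f753904f7841f9e993dcd07b38f884a78e5e3639f5d847621d8b775a084820938e471547c89e227b3efcfc175b0fc23da4f6b7268f6c3f74fe23d2cfe13fe1e2e3eecff77938fe43fcd6c079310335ae22777909e453e84fe73f7904479290433e78f5b7e0df802ecdc4f2be8a403740d9f74fdb8a4a98a43515211b7001c332d90ae170121713a3cb03499dbf87f1d2682d8ddd53510c4e2da11057cb5c5a39d0c5155a21a37409d4936d8d31741a20549ccd533a01cfa7fd52b8,
  nat_lit 0x41f0e52754122a71411d37da91d445e4e7a6e5117a7d21f4a45dd1887a79089420d08a33c9e60811a0492f7c0dd717dc5c37d4a9d37d9d4f49907687f35fca294cc8333e1ce338012267eb1faf42b50b077e10af49ac8217fb52aa27e425d27e9b9327d9a587d1df441b946e81b8da131c61a291bec72145d06ef7f65fd672f9cc17270c9b33d85b34779f7937ac17537b1d4b37a0842787de1c6498826116882564b1ea31b5503e33ecaae6f08cfe84ca134519d4984858cae70e945a7d0917d45b517e71b8cee728108649491c07f09fc57989e6578d101e79e9e7d3f4d046,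
  nat_lit 0x46c46077dedf7849651fd7fad2a8300cc052e2cc083d9957a86ca1b546e51be32ad1bd46e92183e3d47e2e0c0fb70ddc3439dcbf1761ce7832908d67315cc272c0cb955f21b1291c8b36ef4a4830e414b30e9c8d30d8bf775ddd740a6c8896b6c7fa0a89b076c11a844e8546484a212b7350f333184f364e48c6e31f5590409c88540a1e672f941f72f99c5d2f8890c72bcc5b6b788b822d48876b9a0956b810a43161ad67acd0a2471d1ca78b11c93ef104a75c1049413504e79a1e7f4841214415d21329f105173d1052345842b7a15e82399ce637601d832fed0634d02045,
  nat_lit 0x1ccc9596d5c9834540b0985cdc0c36c9ef5447cf3a42f0f3f7b91ee7368cd9d36909da2c8dc132c7c9d42ed512474f0686374913a435468e7bd9f167c507084508bb62ee0a007c40d9a44fd1417c2913c7c35f062c4c9d92c51c0f2c419f4449d12a7c39f8b44e51fb1a41a22688112c3354cd76fd8cd8379438d7535d4a384dd593850ad333d1ce13004cf139ac20f39b1d7f406501c6ed101b28ccabd2e41c397db9f7178c11c32e345f77d05f3e32b4bc86f20cb0296df554668d1937c466948a1fab30d4d013939d75735902277910212f14bc72964bca7e89fa528e521a,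
  nat_lit 0x343d066836a0dd2e98b1a7111c472b31bef69d0ac92b60ce0252ccdf2afcac4263cac32b00ce426bd41e6db1015505a0d97371cdf2604ce633710066da900525f89517954ffe2cbcb2d705c6c33a6c6c03a71d957070b6a2d94b29708a1817078bee34b5c1473dcd2e2de4d89748c7c02dd1f2f7cb1a4c2c287c34b7a00f7471d1e7ae50be4430d757badd143708ae87c5472644491107bb1eef2d6cb59709421a3551d08743c93a3759d912c786cb3761d47751073044d5eff7b709563781f187c0070c34e4d3a34d8216352cd4d7040d4e7429d0c3571d1124f89401325b2b,
  nat_lit 0x76c0eef3b5cef03bb13b828913b735908ed43c9edb3110a1b7244c283119c74732ccb422f5af521b083222e887b6c15a9a3f608354d9205b7339cd1244ccc1271c8d12721b7b21580af21547d96b01c993129b546b21b0322d08df6b3208124950003ba4c3c246ceea3b1dda03aacec83a85bce6f30ea238d0e5a270ce593868fa2214d37835acd0a745cd6e79c9e756d810387961e5b26950082a59bdd14a4a932ea91a43e4918a2a2ca9028eca8f273c5bd2741b7f3c95c482ea4f263c89f5c6c4119c7e51f973e2920423fc99e6d95b6238b1d6535e8e293235118819a069,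
  nat_lit 0x129594512984a11ee46991ee9a6f1ed878772d4c7e0441ab166685ba6671a1b1be85b43a98ea87669d9d72e1cbb6ae0c8b423caa61f4d2fc26cda0e26d1b6f24a40b624a9b1f241890a6c55b1264b8460116c45f6b89eb122550a524388c7825d0a73444d146d70d132e9500c241500b403d0106dc1e5d347906526ed06a2a51f5a7d6119626d86036dd5b722eb4baf2e8cbb07851f9d7e6902f3b45bda6f60ed229c0d6c76d1db73884e263098e253889d7a3f6d36881ba0704dc538a3e9de7079b936a24980f26c85b1e6ea9ca33190a8034a8bd73599d156c60ccd3b81db3,
  nat_lit 0x18a59ec67a90d819847f74349ec5123c4921228491650067019ac66f1d71a4069fc7db1fb9a891fc06fd387dd5e7570e0c1f5c1e869f47d8269dbf36fc0ad675f1e237880fa52e6c3807105c3e39590363eb503538c9d697598a6173a9ced6d78d0d26f06406de5b76299ca6c1458a6b65b1cf173b8d1c2a0c5ec76bddac28f5f677d90c7f387503c6cb903b29c9bd162b0a6f7a41e936ae906e27107de6df5b7a7b51ed67b79ee13861d6020fce162b292e6806201b340cd0823ecd07341106c25d505e20dc15c6addab42c35c082c39c0d23d06f06c35b0a69e8c974ba2017,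
  nat_lit 0xee99e26780d847771ddf2008f4012f04c1653d94c0c983210c8c3256318654193c6533d41dda77f4f7b30b5e27789074e2ef1c2a2ee4bc12c80ddf7514712495d1287f0dfc03685f1a7c849e23a31d8f3a39bfe2d58d4835147383ca5f297c988ea3a0da087624e841cd89306c8892f6c99b291d349353508d3f3504d3d2d81d1935c4bce2db0daf74cc6723729fcf49c9d0043d1ed27b747582c11c06702c7702c19f31437476a2bd8af32bd4af1361e003447881e1db4aee7b19ec919dc67a61f06791acc48c18f46b63a650e574590e6681875f1af476018999d5674862a,
  nat_lit 0x64a1e77213d03f2038f3977ac8242be0afe2bec6a427989e81431b8b1c18a036edca412bacaec2b9dadc362dd21743878c7008b012b94b0222459fc1ac4ae02d9dc2670902d92ef910644f8bd92c98bdc2299c5b62c0c0d7254c4f7410d5134d4d520851a321d0cd302bf0d8d74f47642d79c2870581fa2cfcb402b9889c2329af96bd88c92dddc3170b869b74a8d9874b5d263ca9dd37740c0a2de9d36748865619d5a3e68f075236a8b423694da92d20b45707dc1a2d50b512d4cb4f196c65e0b9865d35f431e35ecd802cdcf423080f2e74b8f4c779cf530ef58f50ef83b8,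
  nat_lit 0x113827209d03f664a844a1130449210082d819e0641b31a0b1b5047229447b46f0dbc03e30a89519a12728d09f170edc382e384f345b1f3f2e1897c7285c9e3d1c3e978d4fd0293409d6efca4e2fe499271b5c6a30cc2c6723dc8c0ad07e60d91a850aa07f96a447fb3dc496e3dc9df72ae4a652ae9be92ad832a3901d6f0c05a97125040a21247516aec84c38f440d3f49e373178873820de9c38c435775b5be831542fd726cc56384064d3d29de33ee43b53ee9e2b3ed8fab3fc8fc71514f882061e0766d1e6d3fc50313f10f9b89e62763d20998792cfd1379c4693e81e1d,
  nat_lit 0x6921a4b1bd476b608059e16745946609cb3168cc8129505977dadce237c86237eb5faa3db849e77e5df61ef881c6a9481f1f447cf1f487cb09640c4622c25b60c1cbd1f34c951e4da5669507901b9879c61301586969a5d65687981b81a111b746df1399aa81b88815031c0ca02e80c9608879e1671a5f1c7c71d68ac71a27cc7c86e55b9227d4cdb45d9f451d11a3b00f07201bb46eb6855a122f843157274c5a1bd9a1d64f060416bc5ad668c5b10c6031c0c5831b05c416f613417309bda7369c046620e44eb6ae48440589849609815f058044210f44411ef5aa66a90822,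
  nat_lit 0x31ecc4931f0c5721e5ad321dc80421f1ad521fc88303b982f03a80da07c186f07cc1f50539cad62a831224441c92449b1303b182d60a80d003c4896218077722ddaea6ba059822a815322906aa6b908a8229c8a3228089b6b8489d1dd459b1b708863ecc58178b5e2a38bc40775c5d6e409080079a5e66292996273d4d1804d5a8b1fb070004f0427647c42941547034159e8339a01e37605d7e25689761d5095d6469e891ffd01231750034209e9d2ff1b3a811e0441155a0109801f403640cc609c0db186061e186c61d11f1be10604a7437bc6317545d4e1a887666910765,
  nat_lit 0x28dc5ff28e1bb3295c0852961bc1159de1b1c105b015b85b7670c60527849e4277c9e32389bb10b4c0a703dc0e060ac0f92e240a42e29c352f48bda2878bc07080bed7184bef285dc692fc8578236dafb23705e432a457b32a9cc30664c180a81c7b6381cc931e4cb73148c3186ce1b02888a282894a270ae08af6ba48b13299e093e38a49246491724682c9051c145610c14960e1cd32454ccb0a40bcd71947e20a7429e07c816862798a16188299222dad96b4088d0709aec6b684570674122615c19e06682a40a858a323bdb0965287e12910a2f84a61262e142e13181c9f,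
  nat_lit 0x2f50b4c7c11f071c3c9d66e089d56e19b8966389db1a0c68815a068727fdb846e5ca0127f468c17a51401798a1044e1f031a499f71a2868f1a1070a1c147091bfc5c768846fc0d258d706281720e20371639431a0bad8bb06a018912e9d5b0efcad42b458526fdcad22ffc7a73001c6b075c1da01b9867080987307bc20d28c49a06ed5bb213404d401204d36009beb1384a983ed468178c4fc6018999914404f001a85d266ed95429705246f24a4f659199315a84ff65a1f571a2cd1a09306160a999cd09499e9190c66760d87e404e07e360e9ce71faccca2b383e37795de2,
  nat_lit 0x3b55e0b3e2ca262670a9b2ea1c4323f45336c45b0e16359b917885e124007f52691b63268807b7115c421f1c15b69d47ca25243982529b2d26358642639b5b26289ad26b899563e896a10c9b416459e5f26ad013264097b836e0d825189a96dac99b1f5072f2601b556b29e53217d00113e092d6cc48de1afc62c0a0c6c222782d62294b281df87801de9a4d1a7478f69c47c11ca1a2d66887276891a27670070d0879879027821b24e493c1ea893b084c2180844217131c4c5132194d1b1c6c9089c6ca1b11a301cd47312555b246cdc9571ebdb596d585fc1964f3c7760f3b,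
  nat_lit 0x31882c13b59dad23a48e76bfc8eb22001946e8c3a62fa5c7271c0c0e22fcc1602a02fa71d9c7962c8c142311af36bc08c30b7086e21b442d065c19361598593090c2a309cc297211e3d3f68cb5202c80c0d71a9b20b88316acc833233488f6bdc8cf03940df03980e302b581d02a581628adc97725072c03d086221844f62391b016bf88e028b1baf6eb03c821a886721a48652349b1b2491ac625c8a773aa9d9921182416f34a60270436d2709b7720e8851214884525145a96d8499a149c05d14a051d2e78f963e4cf952731bbb28e9a6e16499a563005b515899a716e45bb,
  nat_lit 0xc41932666c59902fc0c202ec0c1128827d766dd981b5c6da1b486d9034c0cf03500d102cc0b502c00b81aa5a7967401c6035845210f0451117593011644561abd9ff1ac06ab1ab07781dec8a21df47242251add2305aee6bc445e261c6376d75b5a240c4cc2411b0f26c07466dc5b6e65c05237d64d1d16205c566ac496161d9c5670842426e449926e9b732e858d02e89c3f3640f902778f7f66d9f9f66c90306af90414dc20653ea1e0079bd02e054584505340b92870a20287ca0712d1ca50a54a862a15b9a6f64a8107f0bd07148bcf7159c592374bd80b082b776d5db2,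
  nat_lit 0x26f9e293eb084d06ac1b006a41af0d6dd6b6168a6226244896d7c99400d02ff62f18bf61799db19083f2146451b145c51c60f014004e413f6599cf319a8d1b14e453765dc2be17c59bd66e85ef65f057215ac5716611f696600c80250c4006cbdb2c0b1416b62b42c81ae9b5369f88ce6a01a8364787e01d5c75a1d5475909b589509ac27020f42e220f9ab51dbc77218687710999a531e0860c6739a171bd066323e59c823e9b0b1f107b380660161271947116049b23d896d25d04a016a80bc67e469705f0763693c57005dd85102c40820449835042810c20a9aaf6ab0829,
  nat_lit 0x3d3ddfe77f0f7e0cc185c0c882296329c8b193832d6419abd213843b632043868f474f1c4471414a8713087073a68b87391ca842e6c8c8e124dcae26ff1bff1d2da391d3071b254d87661d0d3c1e2089368a8af008b402e61f422818ed9d718f020509f86b91af1a056808d3273f9d011895884674c61c18b866567ac66211dc47a108193b1851a936a4049a1bc84837b1dec467b99f10ca0673141c288122c5080c099431254497022c087605181707b586b07b80e20134052012405112fdbf50840ad5265838e7574ad72e74c1f7884f940ce433e633033d0e158e76390383,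
  nat_lit 0x155de12785de0611b1e496ac83e662d046364d44670fe034c0d383f764204440fd44480dcc36f0dd015e6379a9d2040440119081377648233d61ded77a88c21a846a667e06a5143850b143450928f9bb96ed86961e2da46695478d1c5c79a2b91bfb0b541f80b482d8080496634d1cfd1d01a351d0864507f987161081fb1a7d9fa09a869a2774d8e7491d272fa9c5471c4c0b2d2c89821d8b4e0ba02e50b9c2712ce0c223084c0f63b9de97798d932021a99200c805192446f67846440ffc40f644c4120fe9e473fc05cb2cd4b337061c1b67919e764d0657369c3b70e78da8,
  nat_lit 0x2359610e542de63a83e5640c3e7026581900c009b08d47f218287a40a058970a0814806f586106f819f06e98a4629d8a20abc3660d94360059c116612c16905902aa0a9c29825e1b516d3888c18244706d1c6cf06d41b806cc1b70d61bcb06fca6308f19dd107440408a82b20ca432c00d980100c403318fda951ff99140da8409644440b21c1ace6b459220d543370d3c1b60be42f70bc42fb63a190f0ff03e006399df191c64b0e843a40e7c3a30eb03b163c43b30ce8f860da067e0e1c54165e197b7809e056440f84151881a2065aa30fb18ce0e403eb64105d90ff45da,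
  nat_lit 0x6091a771f3077609587961e0c7956a79aa1668081403f40ff0354100138c4e4072825a1ea07ac1eac79160c9cd913ecc94137195713800c81379a6669a5a5e010003b00f403f055d84701181590551a641cf47992539b336cc06de1cfdb6968505a660798c3042c31305fd84f060017b1a5010e691456515741790c5c55e05b043e656c4e9631199f16885491681aaa6ab5aa209ed88e09d588809e1a191134666120447f64f593a1b41a0d1b4c6ce11d193964904732164a140199ba112b9bd7297ca870c25bdf0b44a9917349d36e344d201e04da135d95501c84ef65744f1,
  nat_lit 0x2860c122fccc11247db1d21f891d0ddc37903ac37a0af42bb62ac2bf07141c1618c1c703a1cab31e045027adb9127b03b215fc555663c3a206b03f0642c405306ddef3d588820a2830413f44fe0a1189b61a005a04ed83e04dc1321211b4a1fb496504b4130045012f108d91d108442514819c712a04281449a1f178c70118d59d904a020c07841df61a586618e041973fdcfc6a31b486d18960107823608e03da646041a107041763d843410cd923257db386cd895c098d88c098424a1e11a51693861011e1bd30a3ca750b3198a6654595097c62167459cc09942686228246,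
  nat_lit 0x18499cb13f0611094425406c9889046411c045411b04a812704a412518cda871fa83ce0115a371cf064a01383d264043e114b05f967045fd020407f604c08315b598615a45643e61e197858828152854c140417a079986d04180f802840a3027c0a62485ba46e88a0a2351afd21a05ee17a99bf17a05e515dc53f66345796389e3f2044cb60691c82721dc7a22b1ba60530a0f23604b97c15f0214d4a1216e08b060a1b1724503c42fd1c67719053c0508296714da04048411e039c1240a4d89d0a5011a12c84b7652d9482489ba86eb5ba002a82db62cc2df21d5c637180b3b,
  nat_lit 0x136085d2179ac317e805e6e0d87a2825b986e58a0612b44b012a59490d2c81619184e80634190062c0430e2844665e45480bb590d64283d60e702ee0bc0095061c092060c18807383cc69847a5076096865704866cf1b3f6a389640f701d406083db01c407401bc06008203d00f003cf082c20761d4204654195364004ce132803866b19af0894221089987b1ec1a6b69a05910d119f3162c67f019180b6020061163d99766505900150514144413317d030f6b15ac201a406c019d80d17545d017584cf1609bc70d0009a140c5041400287161199116283070939887612824b,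
  nat_lit 0x10c1921640842c0ea58f363c03a706981a3616d8580d7c3620d743610bd1c8011a8c1517cc4aa6b11ac708fc22f08e41ae0d483ef0fd03f30cc98dd0da58be169441066845a70164057602405b16fc5c266305c10b3d8af0b400c00c3430b630403e01f198865d810d15d085b783491c14bd97314ac53166c05cf66cd9ae13b05c96a3c5e001d980e604580c06103d50f603d702383970e5039a07341d2072c1d163f84150f644161fa1b4c6d3db4060683c268bc72d0f2808860403c963e04f51358864079195f13e84f70f784c366b45ca63f1b6726a84130889a6d1cd0530,
  nat_lit 0x3070f823d5cf811d201026ff5bfa090c24808c02470a358990a382860245806605409407a83c60f043c5012d804011c0420e498540e440500eb854271f45c00cd432e633403210098d8644991530b9c8972182b1077193f04d84870ab18a962982b0025984062f430610d98da649443a6e71b9f6048a0e14ed97565b853d15802ca156c55f65f854e660597a63b193711ac39b091060e182c60d08cd88308c41d01e85b3525306d8147996a65bc13e19f1e1066a8f85156455315683820d0c3460d0433c15f05dd7494d9266a1e0e7830f8027b9b8f6e303ea1778550175c5db,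
  nat_lit 0x2810a0c27b4a0b1e8896225349616561a6269807940420105041c1010df81a00dd437b1805bc5297812e0eadc7e71f0c10201837d7064b3a]
theorem W0_c : blocks (rows 11 3 14 25 2047 16383 33554431 14 16383 56 A 4850 1512 cols 32) 32 JW0 0 = true := by decide +kernel
theorem W0 : On (Row.{u} R0 LW par A 4850 1512 cols) 0 1536 :=
  rows_of_blocks hpar (by decide) hcols W0_c (by decide +kernel)
theorem idx : Idx.{u} R0 [[6], [8], [10], [12]] [] 1512 :=
  idx_of_cert hpar hR (K := K) (by decide +kernel) (T := 1779) (T' := 1792) (by decide) D0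
    (subs := []) (by decide +kernel) (T1 := 1778) (by decide) (N := 4850) S0
    (by decide) (n' := 1536) (by decide) W0 (by decide +kernel) (by decide +kernel)
end T0
namespace T1
noncomputable def A_0 : List (ℕ) := [nat_lit 0x2bc42d65ac66b4d688f59eb19e73ce4348690a570ae10bb977192825021dc3b863ac75905a8b530b316661b0360c2a0541043086185c0b8208c11860c4189010020301005e644e89c8899130d12a251224448344688c8889111510a212220440523046084b4968ca2945118630c339e73c8750ea150fa1f221e43c336e6dc45c4b88c9292520df1be61ba374c4508a186a0d420b0160314829041dc3b8c2684d203506a604a14060d81b082504a18720e4443a874a8710e110da1b2902204429652c64ac9588b496919b036043ca794a8690d110ca1919e23c4233a6746554aa908490930f81f061f43e8c2fc5f905d8bb1a1843020ba17460fc1f901682d321742e404a09460780f080801120210426024048c0280c1014028183706e209612c610020103086128750ea442c85848550a8d0a214221342634248484138270c1e83d32114224420840683d07890720e1a0d41a411e23ca2f45e907b8f729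40280431e63c6768ed08fe9fd19d63ac4318630a831061105a0b193626c220640c643c8790678cf30c618c6190320c24c4990500a018760ec20a815060e41c9013827301702e402004060280508038231833066408410860b817081e03c18580b0610620c82c4588c668cd120a41434128248644c894be97d213e27c531a6348760ec0cdb1b611702e0324648c8574ae948991320d31a631c438842e05c0c4708e2088110610e21cc23046182d85b2208410340e81c40ec1d8c1502a2019032601a034802007100d01a181b03620520a460e81d102b8572a0640c440a81440f81f0c2784f207a0f4314e29c42b0560c4108230ad15a41b636c64748e890220419642c843506a0a6fcdf90d19a329e63cc438070065e0bc089893118e91d2422e45ca3586b10530a618780f020aa15461ac35903f07e307d0fa60e01c0c80d019101202182b056203a07460700e100780f3009012400a02c804c098c0a014102204430640c881242494298532038070209813061042090300601892124217c2f862704e18650ca210720e329e53c4805008ccb19621db3b6538a714862cc594ea9d521c638c32fc5f84534a68c8690d210120251883108244488c2f05e104708e30d41a8819032183186330680d0608a11480c0180c12024101602c302a05480300618038072004400200600c6014028804008180600c200801060080108000010800,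
  nat_lit 0x16831d03a04a794f0d4ea9d21672ce532865085b4b688d99b319e93d2437c6f86704e088bc979192925262f45e885b0b60d4e29c129b5363534a688708e114de9bd21f43e853e07c0877cef8cca995114428831fa3f4842c85947f8ff20c31863532a644a614c0d4ba97229652c652aa54ca514a1949a9322925243522a444a41480d47a8f228e51c61f63ec8324648c4b096106d0da30de1bc820457884288128573b2634e69c8610c20c9d93b10fe1fc323446883604f9546a8d228c51851a03408440880c768ed112724e32ec5d88698d314d71ae21ec3d833da7b446c4d88cb516a217c2f862d05a0c58cb1988e11c20da1b43516a2c4a29450c2d05a20740e860940d08a25448d44288128750e350ca188330661542a8522845085506a0c8a09410d40a81128050034fe9fc8774ee94fe1fc21d73ae332064049f93f0c9612c213026062544a8c584b0988c91920d71ae34fa9f441f03e0c290522044088605c18881b8370c32865127c4f834f69ec83b076153d27a22794f224f09e069dd3b913b2761a754ea24e89d069cd39993927222714e234e09c049bd378d3726e226d4da54d89b089ad35953526a22694d234d09a0499d338d3326622654ca54c8990898d318d3126212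614c234c0980897d2f992f25e325d4ba64b89708294528c3c87910560ac30fe10c896d2d8c3606c109512a34b496883f07e14600c0209012021782f063c879109b937197f2fe238e71c6734e698fd9fb21e43c833406804560ac0c8710e2148290528c5188530a6148290522594b2313626c41c4388d2c258207f0fe50a80b0407c0f8c0902622574ae34ac95849552a8d2a254208510a54a694c8949290928a511a504a0449e93c6939270926a4d1a4c49861542a88224448c5b0b6124b49631c0380849893152524a224949251e03c084bc978cbd97b11c338634909208668cd1523a47224648c348a9144911220d21a432242484622c458c3546a98730e62241482311622c419c338d2024020510a2608427488fd1f8d1f23e123d47a34788f08588b1151da3b223a474534a69487a0f40cdd9bb119c33832a654c84fc9f951ca39223847031e23c44314628c4a09420a21446142284c2644c983a87b2a3746e446c8d848d51a8d1a234223346634648c848c5188d18230322f45e445c8b868b516891622c1a2b45644548a8a8a5149114228295e,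
  nat_lit 0x6244622c44ac41881187b0f2b0e61c461ac346c31860985b0b1b0a6144612c24ac21841183b071b0660c260ac146c11821181b0333026046602c04cc0180117faff192124221ce7b8cbf97f117eafd1afc5f825f6bec657caf908a1f231f334445f4be86be57c897c2f81af75ee42b656cabd97b117aaf51af45e825e6bcc6bc9791178af132f05e065debbcc6e8dd10fa9f51aee5dc23646c86bb57691762ec32eb5d645d4ba8634869085293811811c64252390cba57499742e822e75ce35ccb984b95728d722e422e35c665c4b888b85708d702e012df5be32c0580846c65984e0dc28ad300526e3cce4f0901c6d91e28db30432746b0e590cb98c2989193d27a22007a8a6a16f10e91d21add5ba25b8b706b6d6d916d2da290620c45b2b646b616c08ef1de19a134245aeb5cc6acd5996b2d631aa35442ca594647c8f88729b839b73c0639a738e7e49c8cc1983219f3f473f6b548548a90c8410812d45a835a6b4c83446895692d222d15a225a0b406614c290c99e139e4244359eb3c8b39670d66acd12cc5983596b2ccb29651164ac91ac8590258eb1c6b19631162ac52ac45884586b0cab09611160ac11ac0580257eafc6af95f115eabd2abc57841522a463646c888d91b18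f51ea42764e88544a89883992299933273404f043fcab18a710c294d2b2721c7bca7dcfb90e21c41abb5762574ae863a875109993339171ec6222444855cab8ccf99f11b43683572ae485b8b7195c2b8219b33632a8550443861107f14310fb2004182304a240c40ce89d121f13e2336a6d445bcb78c9212430de1bc456eadc62b857095b2b61ab556a4568ad0aacd5991592b22ab15624560ac06abd5789572ae1aad55a4558ab0a504a0907c8f918ca12e5146260e17c2f981f9f921c83902556aac6aa9551154aa91aa8550254ea9c6a995318670ce209e13c30e61cc4144450c590b220e71ce6234508664cc98952aa519cc3984392724c72ce598c090a11502a033306608728e514c098122a454853f07e08740e80cc3987114728e325c4b884d49a94778ef20b9172311a23441a45d0c4385910431ca4546a8c6528a508c718e1aa254443fc7f8aa855090ee1dc11ff3fe33e67cc874ce98cc518a1149292329c538c4108210638c7189a13420c42ac6a8150094fa9f18e11c2216e2dc6230401c3f848387014620fe1a421fc331c2b08420b4,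
  nat_lit 0x138041a2f8083849010783d30410c00420104084425982783e3040080109c12c20f427a02704c304e09c20740e80848148109875204c056042813008581c010a875105309220c2184e180200819041404009670980e100dc0d081401938280507056060e0a414940c0283019050505406100a80c080700d30180148014028203403100504f304c098107c1c0c14c2b8c2984508530ae508a0ecc0e01d141c053020305630700c020e022810303e10300700404104c0f82d901f030020507c04100ec413c27810384132080662082104213c3d04300ac08be14e112418041082c08410ad108313811042b4232883846d94f091d16221b66584824c888ed9c5117d27c23167544634cb04b21a809db38a137e68c262cea84f31c009c6262129a5e025f8ec08e30e911232ba222e358444c74848690109171ac1188244229823842a85e08781a6214c1a8423844083206310870b6707823041a022882d82a082305210441a821ac3f0432063087d0e010d081420e0298503202283b076106615c212419041d0450a03404106009020ad04081802a282b07470760a900a4159c0c81c102a032201e034e034048806830283308a705c1090124191c1982340220465048054408c0d840a01608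1d0261034054207007840600e080b034801e03d00740ea00d01c380e036703806d00382b8d0181d301c056405206c807407180d80f180e0123012024e02403840483a2a02056505206cc0740e180d01a300f012601c04d003006200b016401302a7016050e0540a2005849184502c602a09080880a100b00b3014018301601c601c039c0383228300485044050c0580a9809813300c00e6016010201404040300308020064006004600401880080102000086008018a01804140400530050066006010e010032003008380800a800a00ce00d0021002002a000023400008e00801140100220020027002004a004009000800380000050000008000000c0019e19e32e6724878c87c8ad08d091239272e4324c4c8e3a8ba0cde9a9132d65a33ec7d886f0de0cba975113426832c25986478dc959632c232b6563654ca84ca5948d94328232764e564cc988c95928d9232413236463644c888c859098d79af31e722a41b2c8063d07a118fb1f2b1e63c463ac744c718e0d8db1b231a6343632c644c618c0d8bb17331662c462ac546c518a0989b131b12,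
  nat_lit 0x3b013d069426349f051d23b097d32212c48f028251f0466a3c116447e116241c48fc4e886509d08830e4613a7944690ae090d0d8111410c617011ca0c447182e046286a0b8407a0bc81181014190201811040205a080209c101c19033382007e20620e420c424a018831404208c10a8118e114171c23076085c0b680b817100f043085808608a00b0710c1ec62a06a085409308a814e81502a101dc59886e8a638b319011b02cc231867845a8ee0903250126c3ac243c5a886f92510eb43222ee5dc282d0604ae1a4098c31e12d67f427aced04d69d609e736023ce5ac44b48c08af140095e2bc622644c08a06981148a4022a10404562b008b053811687a022e09e045e12c08c02001188320232044046609008d018011a87b285b07c046c16c08dc3d9c3d07b404d0f620ae1ec218427103d8e228b01ba81a6290a34c7b84898d308bd20461883dc43108c186b0c640910ba5122310086c5e884887728a61ac0440244087053011083f305e0f0509a350e2b0521c6a0a4208211e114829102b0539c3ba2130770b040ee17421dc3b811104d103909a107e1e8e1341a9c27035404f06a204e0d420b427181a82d284005a808210100b4301c1f83f386112680ba248e1750e182e87220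5d11e20ba88821745d8c4785d021d11e04302ec428058204109c38bb126217e2f902fc5fa0478bd38f819021f43e043186788848bb08b01a8117e3e824506e847c10908df24a12aa6dc2788b884ce955110f416243c87c48310f050ca1a0a1f3a813ca6c0273c9584a2969098631823a873c4758a5849691809024361440889029d10850e21d0a2205e106e0bc40f4179c1822220580b004460f0089017011282f3033084044c0cc089c108c1781e381e04a804a0b4c07812900f01e0217020102e07820940b881294b118f280220486c43dc47a05f0bd121c06c105c1c821610e884789c107209410783190870491d0ea1d389314080e41d4e128251c3b03640530a8806c140e0e428202b850107a0a010840ec814006080901908120244046049009010a00902330210501042084e0901120088233811044502204c40840888058110818014602224ce248308c4985740390ea80ec238e21c31a03506b387d0aa5072150a1ac2a1c29876204b06e40a80e9009c1d9c1383a3027020702005d005c138c0c00d18170b610ea0f4e0f81d941b88f209c,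
  nat_lit 0xee614a9dc692524813c27a124a1d681d849843b05b14528ec20b616c04f6194422444813e079288911880f2158e1a03c982683928560dc10ca191019432a021851386e0fc80dc158a19437143f862386b0c480fa108c1884a8445902294c18011aa39863f066a07e0c438fc1cc11f83f083184a8c630c6025a12a513641483204d8c640c802590e280fe26ca18424983886c28710fe40d01c461a034012c0a228950d860fc2550178360433847386c116412a1b0819c321c2184320630d830c618c096c219828043185108610a20b8c10c17a00f830381f020603e0bca07c17100f81f082605840780b0e0f416201f02c303d058503c0d460b08b208c0b140e61ac71cc498e4946fa0700e018e016c21c0380092c6fa1259b6219c2e043767f48768d690f598b41963b6738a6fd06a0bea0c896239772c873465710474d20caf1a5195d22632b853ce4f89f8cc6940198c27c31ee4a0838878909b10320c5318527c57024f8d298ae1a3115c3a8531662c662c9f0106136197d2ee12fa794a68cd18cd196229772b804746fc45dcc5810f9b719c52fa041668c0868f10cdf977023b38a043c6fc0864db90db9e221e22e242e26748674848c848a218cf1be31be2e083b85b1c5a8b5188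8110511639882cc458c598b3024111680f0154e19c32143387e38510a2506c14481f4338c3e87d024011271102a9021c4720550aa287a0f4049829c0934560127082024f14804a02c00944429454086025215004a616c62142c2042886388510a414e29c09503d012a82620360a004ac0d8095c1ba0130b338831f07194388c34c56a06e8d340ad1b672266586658a788cb164196423a22c8644853ccb0100962211d2c8040853c082466888391d023c188819a27483348381050b108cd1b6047a33408fc58811f0f741071ac81628fce310651c5e88338a613a818c24502745e94788a628b818a6122238a1e02f184a055306a43e33167546750d18d0d1e519e630c42fc5e085a4a690a292b213122e32044606404620c6b07e18640f040bc11c8154359423826303704c807009860640b981316211a837e24768e8468c80889f88808a211811321f8428838084c8a1107d142110e250e2843b144a0c528a0170118a38823c447044a06b109417661e23c462f49f947b8bd02381ee04724fc2574b804ce1b609bb24612a67984694f408e0153110d,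
  nat_lit 0x36252da475059cae1cb38b430e926261d04c0a3a0b390bd97b029d1d0225e4bc0a78771c740e8391916881d63b102d05a9c4208438b610860b029cc2106a18578af08cc15e41582bce20857a0580d418af10230e020421c4339440905091a3b463b25ece588ee90e69cd027f38e05005fc0a0488089b8fa40f217651e44dc0a086808790f20283178511e174c2404804528a520d5256622c35409708b012e92b024226204863a4091091812299a29bb2e0048c788e668dd812399a219a38633346680920f11d241a841c3386837e920a6ecf414e1990398f3b483ae6b8e6b4fe1cfe9eb41ec3da73ce6c106c4be04d0178417c2b012604c4e4a8981c9896a396925682584b06530c808a614c027e3f823ae750c7f0a014c81d7298c3f813d86b8275cf608d71ae29a43ca63d87b4c798d294d8917312c2d452ba4bcc5f0b420bc17b31c02f0625e5dce5ec8e209792f41281e071b4388e3c06e8c781fd29d63ce63d673cc768d694d818f31862d252d6514a52c969895a5d292b25604bc5dca700bc1494136317e1dc6262534a40c879486953315533a63385c0a5c4dd94f11b731b62fa538c6fca7a0ec18e29c5026531604cc62c099c9f01340f7026917a04d423c09ac4e01360ca02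6d20e04dc53c09bccb013819602713b604e471409ccdb813a171027524a04ec3c0c37c6f813b923312524c524a37c09247498758ec28eb24a04943ac09e8951c9817c41682c282c258ce58c77148c91c31282d422584c045f0b40895128411c2c222c647044646b886d162191c1c481b42b0a3681e142d0da18ad0b431062b40a2c418145044105a0e810b422ce1682d1c3c07440950bc80e827461d029083a28211101f485063404a0d41985d8cc28bf17605082fc0a14eaa0fd9e439c62fc8340560e53486a087148390129872964090518881c82946291019081a0340c2804f94498a0028c126051a27c61d44f9c3909f40a013e219827c221449104f91938ee1d832322e1035c53946b84438550c430881f081946b8c5507c10aa15404fa1f021883e1c35063387c0ce708814901b0291c2387c28500a410880d8a1485f8c6609c40cc176719833082f85f014309c028706840941c80a2025014484b403406860960d101301a0c1683410260681058094c0d091992527a28e94ca53b07600990c6813193f026220204c2978a4b48c013012d025f,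
  nat_lit 0x284527650904dca108828fa214233052fe4dca540cc18a790731502a0730e740a6109d94c394730fe28e82143bc44a48804778fb38ef12c711a28c223446904c88d38ab112511a2e4a2d85ca0648b938d811a50b82e4234043145c8ef391a202628e4b8c46097148d12e116c25c12984b9039496a09717a113528c126a4d4e4609aa08b0ef18ff290326a515051c9604a3947215830e12d4680861ce6a0c09f831c7302438e71c0a90fc14fd9f819fb3f0839475107e0c320c399839d03a0739e61ca4fce804d898d29d039463ac750e728cc20e79863950214828a428c4408514668e5190a17471ae2e902e05d145b8ba30b517441d03c042e8420c2c859283c0b260f4164e2242ca04408720592c2129c268a1804d045509a40a1208620640d04104a204d0c738c518e612441024646b846394e414e29272926290628e99ce99f341f33b883b87fce7fced98ff9fe29ff3b843fe7fc0a84a594a512d38e51ca422c52864588b0151944094a29082945290404c704ca93f398e31e531c760e7f8f804ff1fe21d931c33b27640a88ee14c8aa142a13b66542394c2c47284858ed30e51361156354e3b47f84768ed20b71c2424e3c0a384558c6c0e119141b005404500a7c7094578a538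b710a616e2dc230c559c4b0ab287b156611620442ac401837880286210030cc20101c440043685620800da40901a46120242037848286e090606215821204da0518d018a314650ec230828c369c3486930650d2508c1a4e204381034866286d0cc608819881c433043786838661fc620a3fce3f87f1c600fb411a31a73b25b42610f81cfa1bd41df2fe834e5b505d8df1cd99c739dd3d28382650e5e4bc9cd31bd39a534883845e8e578bc94e1190096c38432f45ad05b0af14b616c19ae35c053870887b4f6014d9ed029a2ec637a7a107d0f41cf81f431c334c732869c2650ca14ef9d909df3be535a5aca654d29cef8fb18c028851f665505747fa0600cd290b216729852ce42c8b9ca214640fd1fa61803f50408a218968fd091628a61fa3fca52061a04809f30c318631322640a6438014c08102970de052c1480a541b014a05102930fa05243eca3983381488e6028e11605202cc0a3c6c1c648c930d7154612c204e1b437a03806d287c0a450de7a42774e684df17f097938e13824dc24a4df08bb1a611e93d263667b0c7a4b694d31b331ed,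
  nat_lit 0x27482804e843f4c3189d18a219232473246486770c908a719209632825324664a680cc90a8199115633212d05f8e6649da09e188313c278124e3d884f0ab108515639582ac829a5586564ab049515831561d01218430455c861c8210c410321862b03386430ac94a4959310e2b24294434e564f798e08ea090e24821d43a503a85a14750ea193038832f84c00ae8be015d9f411c43c81388710e700fb8cf79e641f737a23ee7ec27dcfb94df1c4317b3de73ca7bc4708f784fc1b121ef28c32664cd051099949a93330ed29012665b906dccd84b792409542a872a66208550ce20cd96e31b5336436a6d8c5b8da815c16e216e36832dc66825b8b7015c99a0ab9572536cae4c6d4f898da1d829b4396436870c26d0e29cda1b439db33e12f667d05f4c8a0cf8f009111f2822244463e0ab9ca099f29e434052ae4d8e55ce314cf92f09572ae52fc444c42488a0788f640bc1ec31f43d8430c7b04708cc30f61847120309030c610c4c0c208b213a618450ce4a4a198ca994194329c4292524a400801c8790040ce200320840023b08798800c1409e182719e304625c60845b0d028c13e253fc378c48c56185708228ae1e281f231c43e46d047c8f930be282726c64465048208a091c09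41282626c4d80ab07881568bd02ae122055e1780ac03c015888e02b2110056621c0ad02c815a8ae10841c0815c37ce2b86f10570ae18ae108056c2b80add5b88422b740df1c0856e2d04378929c6f0de392624682485bce5c0db20da9f409f13fc73e27c4e760e884de9d141d931a83a2720a744f208f89d111fb310727e6210638a408c4097209a12e80e625ce2884b883709708890be512e1e4217c2f8c4805f38990be2090258817c4c1055898409913020de26022283a144c092309e0e650941ccc180399050873085914470e6279033c879c67084089e19c1168434a33839144f1f939d63188390338a43887015315802a734005507900aa4fd81551c811f83f005567082720e418bf9f929cc3f233f87e44740fc84f69d529f91da71ce39c641473847f12c30e716461922c8a20c739c6a8b240b714a8164228e1e445204608a289611460b4228826c3308451cb3996316739672c672ce61cc09c741c93ba73926cc2730e614ee9c911a730823986046724e69ce617f3993326630864ce69ce60cee99311dd3ba054a64c2698eb98c99423190,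
  nat_lit 0x2c0334e69c0b7ce4817018102e138e05c47e00b8ce8017218702e528e05cc4b80b9c72187793502e81de05d239104ac720c858e4111e1c812142c4c39065945f0cb2108196319632c427865845710938cb1b8216437064186e20708dc31061ea11b85e82600c010c8180413a30072806006720c008a3188298027671e63cc82f079949d0f310c027251e659c6480a1949012010e6240822648083749c849011e396a23c82d2478c4a48f10b4150091e304639e608e720c120c618211ca39c43046b066b0b388d61ac41a335853bc6b0c684d610e19cb09ac3c0232e65c6544cb94a799739d732e83b465c2594f010cb9d3318927a631455504f4841c9e955313d27a124c624e674c4a0a9189319d31243127484624f520f51ea31f03fe13d4668e74893988f8db291f23e12a247ce5b0b59c8f9ab41e72ca835a7ace6a8d504f01ae416523a62ca5d8a594b288d51ec41aa35433566acc590d514b216402d637c53547b506ace704d59ab29c134243827040b5cc084d09b339a1342737c7782724e0a0ef1e939de36643bc77846508310a199402d828605b2450e41864888311b090620c61b43680b688e016d9d219a82c405b87890748f114e91d221d235005ba6e02748e9016f2de39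e25bc3350b7826e0f1156f1b821b837082dc6e0c6dcdc14f99db19b83c073f878107f4f00ce719631e03ac739c738a71ce708cc19629ce306534e60c472cc184b3983413e29e83064e4e41c9ca07b93920f81f822727e8a7f4fd18e49fa21e13f433947e84764ea9cfd152419d1bc1210670c548cd94a9152215233422a44882548a9016a95539082a8621054ca4208408670d1210c19c05a84300b4c629c688cf28d118e81a228463448888688ba08d12ec130a7344614c220c29d1298530a32784f00b406894618ff02d118605a4b54c66d6a88cd2d5092233865aa784a770f098f21e119993c223fc718e7847a9c5e0f638f518421ea3d4c46c79208d8fa391b19461ea46cc3e463946c8c838d91a081b232423646c946109828a9134615228d02a44d9c5488010a912c11522a481e43c815e04d02bd06a057c0b00afc0f816001202c104605840840b0c08816202202c5048058c0c00b1c1f016404f02c90f405941640b2c4201660ae02cd15c059c48863786f0167922417124452e0488c5bc91109116e11222a25278544442ca89cc818f3951,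
  nat_lit 0x33c12e66388678b994ba97331242e6432a5cc66e8b9889912339733c663a678ce66cf1a0ce1e311f53c6137466cc78cad049c15a21792b472ec56905b4ad18d115a296722432b444883488914ad912412122421aa44823cc90148917209892e472e25c90488b914de17231712e442e46e045c899149a13230ea26442884c864a89904ac8e939322e813105d0e574ba20ca974297a2e8624e5d084909988ba163217537463787d8a7d4ba94930ec31342c242684d0e4d0baa0ba9bc39bc37813a64d02524ba84c51f609f33ec83ec7d8c748de08f99d311f62c633527d867a8d488f51ea032d35263646a4a588d4a0d49a909dc3d44352598c474b314bc96639b12cc836059846acb304cc1af216635e2344794e6bcf7a0d79ee19af394135e7d4a6e4dc8cfa1af29a134206427040c88df0191976032424e064a3840c9878019392f03282f6065270c0ca8dc94cd19a032b33406586e4e6ecdca0fa9b9119b372136a5bc86e48a9c88115314a22a820a45463548a88b011508fb1f8622a4ec24846e109092739212d4624257ca484908cb696d02ff328060077c0c04d681811b003033ca06087980c14d2818315d030724606104940c246f81850df030b16a06182200c3447018705c03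0f07a06201040c44300189092031317c06282700c5447818b0bd03171e206303140c644a018d0a2031b19e06384240c74aa818f0f4213d21281e832ce3d05e187a0f228f427a063e3d063d060887a0e008f41e80640c802381901c84b2040cb6405178c80c3c990109e8c113202be1284468457ca1a0af929395f2d852be7b886c8f71cfb95f19a634c05f67a40bf0f718ef1b302fd3bc05fc7b90798f708ef9ee09fa3d663dc7d427c8f91cda9f241b63e433fc7c846e8da98f91c241a237673ea7d467c0d908f81f002ee36413c271106c8e01cd91c429b217811a438503486e1c690a430d21c051a4348638c7181751b2196825205d65a00bb48f017617039ba2de83746e8a5bcb7817792202f02e005e26ec0bc8ad94b49e802f32d205ec7000bd0bc017a9a2195b2f482b6578e56c8b08ad93a095b2b6423e47c0bdcb2817c1a221ab35405f26ac0be8d120d21a2098236053444e085fc9c1cc2938418427063044e0a60c798c9c0e328e01c6820c38ce45071885c8e308f216051c6580250c9ba0b0142396027262c0638a5807210950e4392c,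
  nat_lit 0x19e315433c5314678e550cf20a999e1159]
noncomputable def A : List (List (ℕ)) := [A_0]
noncomputable def K_0 : List (ℕ) := [nat_lit 0x5c8b2d732695ac6e9a21bb330d9dbbc0d7749950b23a6407d9622913eada4a1afe6668b18dbca7965a983a3e3aed4ceb3bc29caddbc9f2536505169d42d6f35caac6318ce0bc2ad77a4916a98a61862d0a9165c6d75ad268372498cca66370c758f96960c900fa2ff3e6cd0bc9d35a2d44a7951614909bd1f12a4501389d260684d09188592cdd131254acc2d08b42686b5135a1431249c8aa673345a18f165454cd5209672cc7c125b002f4541683054a64f09da9942054d3813f3a261cd3ab366c72d2a93a5a4a5569a6c27a4498110f452c054a111220a58d4128682450db1ef2c8ad18e17b2b09bc9f186258a61139ce2a8684e812a35473096b042267b8872974dc5f8949a936a554d017c2c2564c292b356734e7ab22fe4b8f690d3d65f4da25226e580ad1ac308940d910c3004bcd79ec4a26c49b1352b6570af9ad30642c851302626b8d8182268574af1092646049990421040c8290220c40480000,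
  nat_lit 0x626c58ca2a44c0e6da03266db089ea2eb624f91abaea6dcfa95f2bf3f8ec97ba1d3f651ce125f8546fdc839f5d2ea152b1423e6556797154664c8e1dd622ec1ac3253bce7930b2f65aca59733f4c446c8f36c46ebb57a946292bd976421438f560eba03b45c1ab3635f0f495e9c3820b00febb674ae8e1214a59cb050f1fa290f8dd3a5e6c90b0df21b6be8d5b9b2a76a481742fa662dd0baaa232cc60b919223ac41da35964877dc8acd738edd943bb4c6468ba2bb470bc97a1453f0b0a1042585709cec96f6aad857caf13fcaf0e22ba5f7079d114b5728854ebbe7ca7fcb69f97bd0a5b7a5d6cadc4deb5e434e65bab2b244c388ca5938cc6587a5b646968f02e76b8cc9a29974325cdd9b72598dd9cebcc4c863d90c1f6d1098a229f472c88f0aa038aa79799f75868f4ec3542dce3df5bb9742ee0a6ab86f0b294e1e22848ba079d52d90a1b32c531a9708c3705cacb0de398246ead2c30d31c71c8bb5b,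
  nat_lit 0x7d8fa5f43e77ccf89f0be07bef75ee3db7b4f65ec3d77acf4de8bd079ef39e4bc878ef19e2bc4786f09e0bc077eec5d7bae75aeb1d53a974ce91cd39772ce51c9b9271ce35c638b714e25c438770ce15c2383704e05c037f6fcdf5be37b6d6da9b13606a4d41a7b4e69ad31a5b4a692d21a3b4667ccf59e33b674ce598327634c5d8ab09610bf57e2f05debb9712e15c0b7d6f2dd5b8b6d6d2d95b0b5d642c756cad558ab055eab9562ab554aa5542a754ca854d293524a4147a8e51aa3145a8a512a2143a8650aa1141a82502a013fa7e4fa9f13da7a4f29e13ba764ea9d139a724da9a92ba5449e93926a4c4949252424748c9152224347e8f11da364688cd192314608bd15a2844a89111a2244087d0c21741e83906a0c41682904a0840e81902a0440680900a003d47a4f41e73cc794f21e33b876ce51c9390704e01b7366698d29a4346688cf99e33a670cd9913205dcbb1632c455cab14c2724e090907,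
  nat_lit 0x211c1c83706a0cc1882f05a0ac1482704a08c0e81902e0540981101e0340580900e01401800ffdff3fd7f8fedfd3f97f0fddfb3f57e8fcdf93f17e0fbdf73ed]
noncomputable def K : List (List (ℕ)) := [K_0]
noncomputable def R_0 : List (Rule) := [Rule.mk (nat_lit 4) (nat_lit 46) (Steps.bwd (nat_lit 1) (Steps.fwd (nat_lit 8192) (Steps.fwd (nat_lit 2048) Steps.nil))) (nat_lit 8) (nat_lit 0),
  Rule.mk (nat_lit 5) (nat_lit 46) (Steps.bwd (nat_lit 1) (Steps.fwd (nat_lit 10240) (Steps.fwd (nat_lit 2048) Steps.nil))) (nat_lit 18) (nat_lit 3),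
  Rule.mk (nat_lit 7) (nat_lit 46) (Steps.bwd (nat_lit 1) (Steps.fwd (nat_lit 14336) (Steps.fwd (nat_lit 2048) Steps.nil))) (nat_lit 28) (nat_lit 3),
  Rule.mk (nat_lit 4) (nat_lit 46) (Steps.bwd (nat_lit 2) (Steps.fwd (nat_lit 8192) (Steps.fwd (nat_lit 4096) Steps.nil))) (nat_lit 12) (nat_lit 0),
  Rule.mk (nat_lit 5) (nat_lit 46) (Steps.bwd (nat_lit 2) (Steps.fwd (nat_lit 10240) (Steps.fwd (nat_lit 4096) Steps.nil))) (nat_lit 20) (nat_lit 3),
  Rule.mk (nat_lit 7) (nat_lit 46) (Steps.bwd (nat_lit 2) (Steps.fwd (nat_lit 14336) (Steps.fwd (nat_lit 4096) Steps.nil))) (nat_lit 30) (nat_lit 3),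
  Rule.mk (nat_lit 3) (nat_lit 106) (Steps.bwd (nat_lit 2) (Steps.bwd (nat_lit 3) (Steps.bwd (nat_lit 2) (Steps.bwd (nat_lit 3) (Steps.bwd (nat_lit 2) (Steps.bwd (nat_lit 3) (Steps.bwd (nat_lit 2) (Steps.fwd (nat_lit 2048) Steps.nil)))))))) (nat_lit 10) (nat_lit 2),
  Rule.mk (nat_lit 5) (nat_lit 46) (Steps.fwd (nat_lit 6144) (Steps.bwd (nat_lit 5) (Steps.bwd (nat_lit 3) Steps.nil))) (nat_lit 22) (nat_lit 1),
  Rule.mk (nat_lit 8) (nat_lit 46) (Steps.fwd (nat_lit 6144) (Steps.bwd (nat_lit 7) (Steps.bwd (nat_lit 3) Steps.nil))) (nat_lit 32) (nat_lit 1),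
  Rule.mk (nat_lit 7) (nat_lit 46) (Steps.fwd (nat_lit 4096) (Steps.bwd (nat_lit 8) (Steps.bwd (nat_lit 2) Steps.nil))) (nat_lit 30) (nat_lit 3),
  Rule.mk (nat_lit 6) (nat_lit 46) (Steps.fwd (nat_lit 4096) (Steps.bwd (nat_lit 5) (Steps.bwd (nat_lit 2) Steps.nil))) (nat_lit 20) (nat_lit 1),
  Rule.mk (nat_lit 6) (nat_lit 46) (Steps.fwd (nat_lit 6144) (Steps.bwd (nat_lit 6) (Steps.bwd (nat_lit 3) Steps.nil))) (nat_lit 23) (nat_lit 0),
  Rule.mk (nat_lit 5) (nat_lit 46) (Steps.fwd (nat_lit 4096) (Steps.bwd (nat_lit 6) (Steps.bwd (nat_lit 2) Steps.nil))) (nat_lit 20) (nat_lit 3),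
  Rule.mk (nat_lit 0) (nat_lit 118) (Steps.bwd (nat_lit 2) (Steps.bwd (nat_lit 3) (Steps.bwd (nat_lit 2) (Steps.bwd (nat_lit 3) (Steps.bwd (nat_lit 2) (Steps.bwd (nat_lit 3) (Steps.bwd (nat_lit 2) (Steps.fwd (nat_lit 6144) (Steps.fwd (nat_lit 2048) Steps.nil))))))))) (nat_lit 11) (nat_lit 0),
  Rule.mk (nat_lit 2) (nat_lit 34) (Steps.bwd (nat_lit 0) (Steps.bwd (nat_lit 2) Steps.nil)) (nat_lit 230) (nat_lit 0),
  Rule.mk (nat_lit 3) (nat_lit 34) (Steps.bwd (nat_lit 0) (Steps.fwd (nat_lit 6144) Steps.nil)) (nat_lit 230) (nat_lit 0),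
  Rule.mk (nat_lit 1) (nat_lit 106) (Steps.fwd (nat_lit 6144) (Steps.fwd (nat_lit 4096) (Steps.fwd (nat_lit 6144) (Steps.fwd (nat_lit 4096) (Steps.fwd (nat_lit 6144) (Steps.bwd (nat_lit 2) (Steps.fwd (nat_lit 6144) (Steps.fwd (nat_lit 4096) Steps.nil)))))))) (nat_lit 10) (nat_lit 1),
  Rule.mk (nat_lit 1) (nat_lit 106) (Steps.fwd (nat_lit 6144) (Steps.fwd (nat_lit 4096) (Steps.fwd (nat_lit 6144) (Steps.bwd (nat_lit 2) (Steps.fwd (nat_lit 6144) (Steps.fwd (nat_lit 4096) (Steps.bwd (nat_lit 3) (Steps.bwd (nat_lit 2) Steps.nil)))))))) (nat_lit 10) (nat_lit 1),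
  Rule.mk (nat_lit 1) (nat_lit 106) (Steps.fwd (nat_lit 6144) (Steps.bwd (nat_lit 2) (Steps.fwd (nat_lit 6144) (Steps.fwd (nat_lit 4096) (Steps.bwd (nat_lit 3) (Steps.bwd (nat_lit 2) (Steps.bwd (nat_lit 3) (Steps.bwd (nat_lit 2) Steps.nil)))))))) (nat_lit 10) (nat_lit 1),
  Rule.mk (nat_lit 6) (nat_lit 634) (Steps.bwd (nat_lit 4) (Steps.bwd (nat_lit 3) (Steps.bwd (nat_lit 2) (Steps.bwd (nat_lit 3) (Steps.bwd (nat_lit 4) (Steps.bwd (nat_lit 5) (Steps.bwd (nat_lit 4) (Steps.bwd (nat_lit 2) (Steps.bwd (nat_lit 3) (Steps.bwd (nat_lit 4) (Steps.bwd (nat_lit 3) (Steps.bwd (nat_lit 2) (Steps.bwd (nat_lit 3) (Steps.bwd (nat_lit 6) (Steps.bwd (nat_lit 4) (Steps.bwd (nat_lit 3) (Steps.bwd (nat_lit 2) (Steps.bwd (nat_lit 3) (Steps.bwd (nat_lit 4) (Steps.bwd (nat_lit 5) (Steps.bwd (nat_lit 4) (Steps.bwd (nat_lit 5) (Steps.bwd (nat_lit 4) (Steps.bwd (nat_lit 3) (Steps.bwd (nat_lit 2) (Steps.bwd (nat_lit 3) (Steps.bwd (nat_lit 4)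 (Steps.bwd (nat_lit 5) (Steps.bwd (nat_lit 4) (Steps.bwd (nat_lit 3) (Steps.bwd (nat_lit 2) (Steps.bwd (nat_lit 3) (Steps.bwd (nat_lit 4) (Steps.bwd (nat_lit 6) (Steps.bwd (nat_lit 6) (Steps.bwd (nat_lit 6) (Steps.bwd (nat_lit 4) (Steps.bwd (nat_lit 3) (Steps.bwd (nat_lit 2) (Steps.bwd (nat_lit 3) (Steps.bwd (nat_lit 4) (Steps.bwd (nat_lit 6) (Steps.bwd (nat_lit 4) (Steps.bwd (nat_lit 3) (Steps.bwd (nat_lit 2) (Steps.fwd (nat_lit 6144) (Steps.fwd (nat_lit 8192) (Steps.bwd (nat_lit 5) (Steps.bwd (nat_lit 5) (Steps.fwd (nat_lit 4096) (Steps.fwd (nat_lit 6144) (Steps.fwd (nat_lit 8192) Steps.nil)))))))))))))))))))))))))))))))))))))))))))))))))))) (nat_lit 44) (nat_lit 4),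
  Rule.mk (nat_lit 6) (nat_lit 106) (Steps.bwd (nat_lit 6) (Steps.bwd (nat_lit 4) (Steps.fwd (nat_lit 12288) (Steps.fwd (nat_lit 12288) (Steps.fwd (nat_lit 12288) (Steps.fwd (nat_lit 8192) (Steps.bwd (nat_lit 6) (Steps.bwd (nat_lit 4) Steps.nil)))))))) (nat_lit 24) (nat_lit 6),
  Rule.mk (nat_lit 6) (nat_lit 106) (Steps.bwd (nat_lit 6) (Steps.bwd (nat_lit 6) (Steps.bwd (nat_lit 4) (Steps.fwd (nat_lit 12288) (Steps.fwd (nat_lit 12288) (Steps.fwd (nat_lit 8192) (Steps.fwd (nat_lit 12288) (Steps.fwd (nat_lit 8192) Steps.nil)))))))) (nat_lit 25) (nat_lit 1),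
  Rule.mk (nat_lit 6) (nat_lit 46) (Steps.bwd (nat_lit 3) (Steps.bwd (nat_lit 6) (Steps.bwd (nat_lit 3) Steps.nil))) (nat_lit 23) (nat_lit 0),
  Rule.mk (nat_lit 5) (nat_lit 46) (Steps.fwd (nat_lit 4096) (Steps.bwd (nat_lit 6) (Steps.fwd (nat_lit 4096) Steps.nil))) (nat_lit 20) (nat_lit 3),
  Rule.mk (nat_lit 5) (nat_lit 46) (Steps.bwd (nat_lit 3) (Steps.bwd (nat_lit 5) (Steps.bwd (nat_lit 3) Steps.nil))) (nat_lit 22) (nat_lit 1),
  Rule.mk (nat_lit 7) (nat_lit 46) (Steps.bwd (nat_lit 4) (Steps.fwd (nat_lit 14336) (Steps.fwd (nat_lit 8192) Steps.nil))) (nat_lit 34) (nat_lit 3),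
  Rule.mk (nat_lit 3) (nat_lit 70) (Steps.bwd (nat_lit 4) (Steps.bwd (nat_lit 3) (Steps.fwd (nat_lit 8192) (Steps.fwd (nat_lit 6144) (Steps.fwd (nat_lit 8192) Steps.nil))))) (nat_lit 14) (nat_lit 1),
  Rule.mk (nat_lit 3) (nat_lit 46) (Steps.fwd (nat_lit 12288) (Steps.fwd (nat_lit 6144) (Steps.fwd (nat_lit 12288) Steps.nil))) (nat_lit 22) (nat_lit 0),
  Rule.mk (nat_lit 4) (nat_lit 70) (Steps.bwd (nat_lit 3) (Steps.bwd (nat_lit 4) (Steps.bwd (nat_lit 3) (Steps.bwd (nat_lit 4) (Steps.bwd (nat_lit 3) Steps.nil))))) (nat_lit 14) (nat_lit 0),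
  Rule.mk (nat_lit 4) (nat_lit 46) (Steps.fwd (nat_lit 4096) (Steps.bwd (nat_lit 4) (Steps.fwd (nat_lit 4096) Steps.nil))) (nat_lit 12) (nat_lit 0),
  Rule.mk (nat_lit 6) (nat_lit 106) (Steps.bwd (nat_lit 6) (Steps.fwd (nat_lit 8192) (Steps.fwd (nat_lit 12288) (Steps.fwd (nat_lit 12288) (Steps.fwd (nat_lit 12288) (Steps.fwd (nat_lit 8192) (Steps.bwd (nat_lit 6) (Steps.bwd (nat_lit 4) Steps.nil)))))))) (nat_lit 24) (nat_lit 6),
  Rule.mk (nat_lit 3) (nat_lit 70) (Steps.bwd (nat_lit 4) (Steps.bwd (nat_lit 3) (Steps.bwd (nat_lit 4) (Steps.bwd (nat_lit 3) (Steps.bwd (nat_lit 4) Steps.nil))))) (nat_lit 14) (nat_lit 1),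
  Rule.mk (nat_lit 8) (nat_lit 58) (Steps.fwd (nat_lit 12288) (Steps.bwd (nat_lit 7) (Steps.bwd (nat_lit 6) (Steps.bwd (nat_lit 6) Steps.nil)))) (nat_lit 36) (nat_lit 1),
  Rule.mk (nat_lit 7) (nat_lit 58) (Steps.fwd (nat_lit 12288) (Steps.fwd (nat_lit 12288) (Steps.bwd (nat_lit 8) (Steps.bwd (nat_lit 6) Steps.nil)))) (nat_lit 37) (nat_lit 0),
  Rule.mk (nat_lit 7) (nat_lit 34) (Steps.fwd (nat_lit 16384) (Steps.bwd (nat_lit 7) Steps.nil)) (nat_lit 26) (nat_lit 0),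
  Rule.mk (nat_lit 8) (nat_lit 46) (Steps.bwd (nat_lit 3) (Steps.bwd (nat_lit 7) (Steps.fwd (nat_lit 6144) Steps.nil))) (nat_lit 32) (nat_lit 1),
  Rule.mk (nat_lit 8) (nat_lit 46) (Steps.fwd (nat_lit 8192) (Steps.bwd (nat_lit 7) (Steps.bwd (nat_lit 4) Steps.nil))) (nat_lit 34) (nat_lit 1),
  Rule.mk (nat_lit 8) (nat_lit 34) (Steps.bwd (nat_lit 8) (Steps.bwd (nat_lit 8) Steps.nil)) (nat_lit 27) (nat_lit 0),
  Rule.mk (nat_lit 6) (nat_lit 634) (Steps.bwd (nat_lit 4) (Steps.bwd (nat_lit 3) (Steps.bwd (nat_lit 2) (Steps.bwd (nat_lit 3) (Steps.bwd (nat_lit 4) (Steps.bwd (nat_lit 5) (Steps.bwd (nat_lit 4) (Steps.bwd (nat_lit 2) (Steps.bwd (nat_lit 3) (Steps.bwd (nat_lit 4) (Steps.bwd (nat_lit 3) (Steps.bwd (nat_lit 2) (Steps.bwd (nat_lit 3) (Steps.bwd (nat_lit 6) (Steps.bwd (nat_lit 4) (Steps.bwd (nat_lit 3) (Steps.bwd (nat_lit 2) (Steps.bwd (nat_lit 3) (Steps.bwd (nat_lit 4) (Steps.bwd (nat_lit 5) (Steps.bwd (nat_lit 4)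 (Steps.bwd (nat_lit 5) (Steps.bwd (nat_lit 4) (Steps.bwd (nat_lit 3) (Steps.bwd (nat_lit 2) (Steps.bwd (nat_lit 3) (Steps.bwd (nat_lit 4) (Steps.bwd (nat_lit 5) (Steps.bwd (nat_lit 4) (Steps.bwd (nat_lit 3) (Steps.bwd (nat_lit 2) (Steps.bwd (nat_lit 3) (Steps.bwd (nat_lit 4) (Steps.bwd (nat_lit 6) (Steps.bwd (nat_lit 6) (Steps.bwd (nat_lit 6) (Steps.bwd (nat_lit 4) (Steps.bwd (nat_lit 3) (Steps.bwd (nat_lit 2) (Steps.bwd (nat_lit 3) (Steps.bwd (nat_lit 4) (Steps.bwd (nat_lit 6) (Steps.bwd (nat_lit 4) (Steps.fwd (nat_lit 6144) (Steps.bwd (nat_lit 2) (Steps.fwd (nat_lit 6144) (Steps.fwd (nat_lit 8192) (Steps.bwd (nat_lit 5) (Steps.bwd (nat_lit 5) (Steps.fwd (nat_lit 4096) (Steps.bwd (nat_lit 3) (Steps.fwd (nat_lit 8192) Steps.nil)))))))))))))))))))))))))))))))))))))))))))))))))))) (nat_lit 44) (nat_lit 4),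
  Rule.mk (nat_lit 1) (nat_lit 46) (Steps.bwd (nat_lit 4) (Steps.fwd (nat_lit 2048) (Steps.fwd (nat_lit 8192) Steps.nil))) (nat_lit 8) (nat_lit 1),
  Rule.mk (nat_lit 7) (nat_lit 46) (Steps.bwd (nat_lit 4) (Steps.bwd (nat_lit 8) (Steps.fwd (nat_lit 8192) Steps.nil))) (nat_lit 34) (nat_lit 3),
  Rule.mk (nat_lit 3) (nat_lit 70) (Steps.bwd (nat_lit 4) (Steps.fwd (nat_lit 6144) (Steps.fwd (nat_lit 8192) (Steps.bwd (nat_lit 3) (Steps.fwd (nat_lit 8192) Steps.nil))))) (nat_lit 14) (nat_lit 1),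
  Rule.mk (nat_lit 1) (nat_lit 46) (Steps.fwd (nat_lit 12288) (Steps.bwd (nat_lit 1) (Steps.bwd (nat_lit 6) Steps.nil))) (nat_lit 18) (nat_lit 2),
  Rule.mk (nat_lit 1) (nat_lit 46) (Steps.bwd (nat_lit 6) (Steps.bwd (nat_lit 1) (Steps.fwd (nat_lit 12288) Steps.nil))) (nat_lit 18) (nat_lit 0),
  Rule.mk (nat_lit 1) (nat_lit 46) (Steps.bwd (nat_lit 4) (Steps.bwd (nat_lit 1) (Steps.fwd (nat_lit 8192) Steps.nil))) (nat_lit 8) (nat_lit 1),
  Rule.mk (nat_lit 1) (nat_lit 46) (Steps.fwd (nat_lit 16384) (Steps.bwd (nat_lit 1) (Steps.bwd (nat_lit 8) Steps.nil))) (nat_lit 28) (nat_lit 2),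
  Rule.mk (nat_lit 2) (nat_lit 634) (Steps.bwd (nat_lit 3) (Steps.bwd (nat_lit 4) (Steps.bwd (nat_lit 3) (Steps.bwd (nat_lit 2) (Steps.bwd (nat_lit 3) (Steps.bwd (nat_lit 6) (Steps.bwd (nat_lit 4) (Steps.bwd (nat_lit 3) (Steps.bwd (nat_lit 2) (Steps.bwd (nat_lit 3) (Steps.bwd (nat_lit 4) (Steps.bwd (nat_lit 5) (Steps.bwd (nat_lit 4) (Steps.bwd (nat_lit 5) (Steps.bwd (nat_lit 4) (Steps.bwd (nat_lit 3) (Steps.bwd (nat_lit 2) (Steps.bwd (nat_lit 3) (Steps.bwd (nat_lit 4) (Steps.bwd (nat_lit 5) (Steps.bwd (nat_lit 4) (Steps.bwd (nat_lit 3) (Steps.bwd (nat_lit 2) (Steps.bwd (nat_lit 3) (Steps.bwd (nat_lit 4) (Steps.bwd (nat_lit 6) (Steps.bwd (nat_lit 6) (Steps.bwd (nat_lit 6) (Steps.bwd (nat_lit 4) (Steps.bwd (nat_lit 3) (Steps.bwd (nat_lit 2) (Steps.bwd (nat_lit 3) (Steps.bwd (nat_lit 4) (Steps.bwd (nat_lit 6) (Steps.bwd (nat_lit 4) (Steps.bwd (nat_lit 3) (Steps.bwd (nat_lit 2) (Steps.bwd (nat_lit 3) (Steps.fwd (nat_lit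 8192) (Steps.bwd (nat_lit 5) (Steps.bwd (nat_lit 5) (Steps.bwd (nat_lit 2) (Steps.fwd (nat_lit 6144) (Steps.fwd (nat_lit 8192) (Steps.fwd (nat_lit 10240) (Steps.fwd (nat_lit 8192) (Steps.fwd (nat_lit 6144) (Steps.fwd (nat_lit 4096) (Steps.fwd (nat_lit 6144) (Steps.fwd (nat_lit 8192) (Steps.fwd (nat_lit 12288) (Steps.fwd (nat_lit 8192) Steps.nil)))))))))))))))))))))))))))))))))))))))))))))))))))) (nat_lit 44) (nat_lit 12),
  Rule.mk (nat_lit 5) (nat_lit 46) (Steps.bwd (nat_lit 2) (Steps.bwd (nat_lit 6) (Steps.bwd (nat_lit 2) Steps.nil))) (nat_lit 20) (nat_lit 3),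
  Rule.mk (nat_lit 8) (nat_lit 46) (Steps.fwd (nat_lit 4096) (Steps.bwd (nat_lit 7) (Steps.bwd (nat_lit 2) Steps.nil))) (nat_lit 30) (nat_lit 1),
  Rule.mk (nat_lit 7) (nat_lit 46) (Steps.fwd (nat_lit 6144) (Steps.bwd (nat_lit 8) (Steps.bwd (nat_lit 3) Steps.nil))) (nat_lit 32) (nat_lit 3),
  Rule.mk (nat_lit 5) (nat_lit 46) (Steps.fwd (nat_lit 6144) (Steps.bwd (nat_lit 5) (Steps.fwd (nat_lit 6144) Steps.nil))) (nat_lit 22) (nat_lit 1),
  Rule.mk (nat_lit 2) (nat_lit 46) (Steps.bwd (nat_lit 4) (Steps.fwd (nat_lit 4096) (Steps.fwd (nat_lit 8192) Steps.nil))) (nat_lit 12) (nat_lit 1),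
  Rule.mk (nat_lit 2) (nat_lit 46) (Steps.bwd (nat_lit 6) (Steps.bwd (nat_lit 2) (Steps.fwd (nat_lit 12288) Steps.nil))) (nat_lit 20) (nat_lit 0),
  Rule.mk (nat_lit 2) (nat_lit 46) (Steps.bwd (nat_lit 4) (Steps.bwd (nat_lit 2) (Steps.fwd (nat_lit 8192) Steps.nil))) (nat_lit 12) (nat_lit 1),
  Rule.mk (nat_lit 7) (nat_lit 46) (Steps.bwd (nat_lit 2) (Steps.bwd (nat_lit 8) (Steps.fwd (nat_lit 4096) Steps.nil))) (nat_lit 30) (nat_lit 3),
  Rule.mk (nat_lit 8) (nat_lit 46) (Steps.fwd (nat_lit 8192) (Steps.bwd (nat_lit 7) (Steps.fwd (nat_lit 8192) Steps.nil))) (nat_lit 34) (nat_lit 1),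
  Rule.mk (nat_lit 7) (nat_lit 46) (Steps.bwd (nat_lit 3) (Steps.bwd (nat_lit 8) (Steps.bwd (nat_lit 3) Steps.nil))) (nat_lit 32) (nat_lit 3),
  Rule.mk (nat_lit 2) (nat_lit 106) (Steps.bwd (nat_lit 3) (Steps.bwd (nat_lit 2) (Steps.bwd (nat_lit 1) (Steps.bwd (nat_lit 3) (Steps.bwd (nat_lit 2) (Steps.fwd (nat_lit 6144) (Steps.fwd (nat_lit 4096) (Steps.fwd (nat_lit 6144) Steps.nil)))))))) (nat_lit 10) (nat_lit 7),
  Rule.mk (nat_lit 1) (nat_lit 106) (Steps.bwd (nat_lit 2) (Steps.bwd (nat_lit 3) (Steps.bwd (nat_lit 2) (Steps.fwd (nat_lit 6144) (Steps.fwd (nat_lit 4096) (Steps.fwd (nat_lit 6144) (Steps.bwd (nat_lit 2) (Steps.bwd (nat_lit 3) Steps.nil)))))))) (nat_lit 11) (nat_lit 0),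
  Rule.mk (nat_lit 1) (nat_lit 106) (Steps.fwd (nat_lit 4096) (Steps.bwd (nat_lit 3) (Steps.bwd (nat_lit 2) (Steps.bwd (nat_lit 3) (Steps.fwd (nat_lit 4096) (Steps.fwd (nat_lit 6144) (Steps.fwd (nat_lit 4096) (Steps.fwd (nat_lit 6144) Steps.nil)))))))) (nat_lit 11) (nat_lit 0),
  Rule.mk (nat_lit 1) (nat_lit 46) (Steps.bwd (nat_lit 5) (Steps.bwd (nat_lit 1) (Steps.fwd (nat_lit 10240) Steps.nil))) (nat_lit 18) (nat_lit 2),
  Rule.mk (nat_lit 1) (nat_lit 46) (Steps.fwd (nat_lit 8192) (Steps.bwd (nat_lit 1) (Steps.bwd (nat_lit 4) Steps.nil))) (nat_lit 8) (nat_lit 1),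
  Rule.mk (nat_lit 1) (nat_lit 46) (Steps.fwd (nat_lit 14336) (Steps.bwd (nat_lit 1) (Steps.bwd (nat_lit 7) Steps.nil))) (nat_lit 28) (nat_lit 0),
  Rule.mk (nat_lit 1) (nat_lit 46) (Steps.fwd (nat_lit 10240) (Steps.bwd (nat_lit 1) (Steps.bwd (nat_lit 5) Steps.nil))) (nat_lit 18) (nat_lit 0)]
noncomputable def R_1 : List (Rule) := [Rule.mk (nat_lit 7) (nat_lit 46) (Steps.fwd (nat_lit 4096) (Steps.fwd (nat_lit 14336) (Steps.bwd (nat_lit 2) Steps.nil))) (nat_lit 30) (nat_lit 3),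
  Rule.mk (nat_lit 2) (nat_lit 106) (Steps.bwd (nat_lit 3) (Steps.bwd (nat_lit 2) (Steps.bwd (nat_lit 3) (Steps.fwd (nat_lit 2048) (Steps.bwd (nat_lit 2) (Steps.fwd (nat_lit 6144) (Steps.fwd (nat_lit 4096) (Steps.fwd (nat_lit 6144) Steps.nil)))))))) (nat_lit 11) (nat_lit 5),
  Rule.mk (nat_lit 1) (nat_lit 106) (Steps.fwd (nat_lit 6144) (Steps.fwd (nat_lit 4096) (Steps.bwd (nat_lit 3) (Steps.bwd (nat_lit 2) (Steps.bwd (nat_lit 3) (Steps.fwd (nat_lit 4096) (Steps.fwd (nat_lit 6144) (Steps.fwd (nat_lit 4096) Steps.nil)))))))) (nat_lit 10) (nat_lit 1),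
  Rule.mk (nat_lit 1) (nat_lit 106) (Steps.fwd (nat_lit 4096) (Steps.fwd (nat_lit 6144) (Steps.fwd (nat_lit 4096) (Steps.bwd (nat_lit 3) (Steps.bwd (nat_lit 2) (Steps.bwd (nat_lit 3) (Steps.fwd (nat_lit 4096) (Steps.fwd (nat_lit 6144) Steps.nil)))))))) (nat_lit 11) (nat_lit 0),
  Rule.mk (nat_lit 2) (nat_lit 46) (Steps.bwd (nat_lit 5) (Steps.bwd (nat_lit 2) (Steps.fwd (nat_lit 10240) Steps.nil))) (nat_lit 20) (nat_lit 2),
  Rule.mk (nat_lit 2) (nat_lit 106) (Steps.bwd (nat_lit 3) (Steps.bwd (nat_lit 2) (Steps.bwd (nat_lit 3) (Steps.bwd (nat_lit 2) (Steps.fwd (nat_lit 2048) (Steps.fwd (nat_lit 6144) (Steps.fwd (nat_lit 4096) (Steps.fwd (nat_lit 6144) Steps.nil)))))))) (nat_lit 10) (nat_lit 5),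
  Rule.mk (nat_lit 1) (nat_lit 106) (Steps.fwd (nat_lit 6144) (Steps.bwd (nat_lit 2) (Steps.bwd (nat_lit 3) (Steps.bwd (nat_lit 2) (Steps.bwd (nat_lit 3) (Steps.bwd (nat_lit 2) (Steps.fwd (nat_lit 6144) (Steps.fwd (nat_lit 4096) Steps.nil)))))))) (nat_lit 10) (nat_lit 1),
  Rule.mk (nat_lit 1) (nat_lit 106) (Steps.fwd (nat_lit 4096) (Steps.fwd (nat_lit 6144) (Steps.bwd (nat_lit 2) (Steps.bwd (nat_lit 3) (Steps.bwd (nat_lit 2) (Steps.bwd (nat_lit 3) (Steps.bwd (nat_lit 2) (Steps.fwd (nat_lit 6144) Steps.nil)))))))) (nat_lit 11) (nat_lit 0),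
  Rule.mk (nat_lit 1) (nat_lit 106) (Steps.bwd (nat_lit 2) (Steps.bwd (nat_lit 3) (Steps.bwd (nat_lit 2) (Steps.bwd (nat_lit 3) (Steps.bwd (nat_lit 2) (Steps.fwd (nat_lit 6144) (Steps.fwd (nat_lit 4096) (Steps.fwd (nat_lit 6144) Steps.nil)))))))) (nat_lit 11) (nat_lit 0),
  Rule.mk (nat_lit 6) (nat_lit 46) (Steps.bwd (nat_lit 2) (Steps.bwd (nat_lit 5) (Steps.bwd (nat_lit 2) Steps.nil))) (nat_lit 20) (nat_lit 1),
  Rule.mk (nat_lit 0) (nat_lit 118) (Steps.fwd (nat_lit 6144) (Steps.bwd (nat_lit 2) (Steps.bwd (nat_lit 3) (Steps.bwd (nat_lit 2) (Steps.bwd (nat_lit 3) (Steps.bwd (nat_lit 2) (Steps.bwd (nat_lit 3) (Steps.bwd (nat_lit 2) (Steps.bwd (nat_lit 1) Steps.nil))))))))) (nat_lit 10) (nat_lit 1),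
  Rule.mk (nat_lit 0) (nat_lit 46) (Steps.bwd (nat_lit 3) (Steps.fwd (nat_lit 0) (Steps.fwd (nat_lit 6144) Steps.nil))) (nat_lit 230) (nat_lit 0),
  Rule.mk (nat_lit 0) (nat_lit 46) (Steps.bwd (nat_lit 2) (Steps.bwd (nat_lit 0) (Steps.bwd (nat_lit 2) Steps.nil))) (nat_lit 230) (nat_lit 0),
  Rule.mk (nat_lit 4) (nat_lit 34) (Steps.bwd (nat_lit 0) (Steps.fwd (nat_lit 8192) Steps.nil)) (nat_lit 230) (nat_lit 0),
  Rule.mk (nat_lit 6) (nat_lit 34) (Steps.bwd (nat_lit 0) (Steps.fwd (nat_lit 12288) Steps.nil)) (nat_lit 230) (nat_lit 0),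
  Rule.mk (nat_lit 0) (nat_lit 46) (Steps.bwd (nat_lit 1) (Steps.bwd (nat_lit 0) (Steps.bwd (nat_lit 1) Steps.nil))) (nat_lit 230) (nat_lit 0),
  Rule.mk (nat_lit 0) (nat_lit 46) (Steps.bwd (nat_lit 4) (Steps.fwd (nat_lit 0) (Steps.fwd (nat_lit 8192) Steps.nil))) (nat_lit 230) (nat_lit 0),
  Rule.mk (nat_lit 1) (nat_lit 34) (Steps.bwd (nat_lit 0) (Steps.bwd (nat_lit 1) Steps.nil)) (nat_lit 230) (nat_lit 0),
  Rule.mk (nat_lit 3) (nat_lit 34) (Steps.bwd (nat_lit 0) (Steps.bwd (nat_lit 3) Steps.nil)) (nat_lit 230) (nat_lit 0),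
  Rule.mk (nat_lit 5) (nat_lit 34) (Steps.bwd (nat_lit 0) (Steps.fwd (nat_lit 10240) Steps.nil)) (nat_lit 230) (nat_lit 0),
  Rule.mk (nat_lit 6) (nat_lit 34) (Steps.bwd (nat_lit 0) (Steps.bwd (nat_lit 5) Steps.nil)) (nat_lit 230) (nat_lit 0),
  Rule.mk (nat_lit 1) (nat_lit 34) (Steps.bwd (nat_lit 0) (Steps.fwd (nat_lit 2048) Steps.nil)) (nat_lit 230) (nat_lit 0),
  Rule.mk (nat_lit 1) (nat_lit 106) (Steps.bwd (nat_lit 2) (Steps.bwd (nat_lit 3) (Steps.bwd (nat_lit 2) (Steps.bwd (nat_lit 3) (Steps.bwd (nat_lit 2) (Steps.bwd (nat_lit 3) (Steps.bwd (nat_lit 2) (Steps.fwd (nat_lit 6144) Steps.nil)))))))) (nat_lit 11) (nat_lit 0),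
  Rule.mk (nat_lit 6) (nat_lit 46) (Steps.bwd (nat_lit 1) (Steps.fwd (nat_lit 12288) (Steps.bwd (nat_lit 1) Steps.nil))) (nat_lit 18) (nat_lit 1),
  Rule.mk (nat_lit 4) (nat_lit 46) (Steps.bwd (nat_lit 2) (Steps.bwd (nat_lit 4) (Steps.fwd (nat_lit 4096) Steps.nil))) (nat_lit 12) (nat_lit 0),
  Rule.mk (nat_lit 1) (nat_lit 46) (Steps.bwd (nat_lit 4) (Steps.bwd (nat_lit 1) (Steps.bwd (nat_lit 4) Steps.nil))) (nat_lit 8) (nat_lit 1),
  Rule.mk (nat_lit 8) (nat_lit 46) (Steps.fwd (nat_lit 8192) (Steps.fwd (nat_lit 16384) (Steps.bwd (nat_lit 4) Steps.nil))) (nat_lit 34) (nat_lit 1),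
  Rule.mk (nat_lit 6) (nat_lit 634) (Steps.bwd (nat_lit 4) (Steps.bwd (nat_lit 3) (Steps.bwd (nat_lit 2) (Steps.bwd (nat_lit 3) (Steps.bwd (nat_lit 4) (Steps.bwd (nat_lit 5) (Steps.bwd (nat_lit 4) (Steps.bwd (nat_lit 2) (Steps.bwd (nat_lit 3) (Steps.bwd (nat_lit 4) (Steps.bwd (nat_lit 3) (Steps.bwd (nat_lit 2) (Steps.bwd (nat_lit 3) (Steps.bwd (nat_lit 6) (Steps.bwd (nat_lit 4) (Steps.bwd (nat_lit 3) (Steps.bwd (nat_lit 2) (Steps.bwd (nat_lit 3) (Steps.bwd (nat_lit 4) (Steps.bwd (nat_lit 5) (Steps.bwd (nat_lit 4) (Steps.bwd (nat_lit 5) (Steps.bwd (nat_lit 4) (Steps.bwd (nat_lit 3) (Steps.bwd (nat_lit 2) (Steps.bwd (nat_lit 3) (Steps.bwd (nat_lit 4) (Steps.bwd (nat_lit 5) (Steps.bwd (nat_lit 4) (Steps.bwd (nat_lit 3) (Steps.bwd (nat_lit 2) (Steps.bwd (nat_lit 3) (Steps.bwd (nat_lit 4) (Steps.bwd (nat_lit 6) (Steps.bwd (nat_lit 6) (Steps.bwd (nat_lit 6) (Steps.bwd (nat_lit 4) (Steps.bwd (nat_lit 3) (Steps.bwd (nat_lit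 2) (Steps.bwd (nat_lit 3) (Steps.bwd (nat_lit 4) (Steps.bwd (nat_lit 6) (Steps.bwd (nat_lit 4) (Steps.bwd (nat_lit 3) (Steps.bwd (nat_lit 2) (Steps.fwd (nat_lit 6144) (Steps.bwd (nat_lit 4) (Steps.fwd (nat_lit 12288) (Steps.fwd (nat_lit 12288) (Steps.fwd (nat_lit 4096) (Steps.fwd (nat_lit 6144) (Steps.fwd (nat_lit 8192) Steps.nil)))))))))))))))))))))))))))))))))))))))))))))))))))) (nat_lit 44) (nat_lit 4),
  Rule.mk (nat_lit 2) (nat_lit 46) (Steps.fwd (nat_lit 12288) (Steps.bwd (nat_lit 2) (Steps.bwd (nat_lit 6) Steps.nil))) (nat_lit 20) (nat_lit 2),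
  Rule.mk (nat_lit 8) (nat_lit 58) (Steps.bwd (nat_lit 5) (Steps.bwd (nat_lit 7) (Steps.bwd (nat_lit 6) (Steps.bwd (nat_lit 6) Steps.nil)))) (nat_lit 36) (nat_lit 1),
  Rule.mk (nat_lit 5) (nat_lit 106) (Steps.bwd (nat_lit 5) (Steps.bwd (nat_lit 5) (Steps.fwd (nat_lit 8192) (Steps.fwd (nat_lit 10240) (Steps.bwd (nat_lit 4) (Steps.bwd (nat_lit 6) (Steps.bwd (nat_lit 6) (Steps.bwd (nat_lit 4) Steps.nil)))))))) (nat_lit 24) (nat_lit 9),
  Rule.mk (nat_lit 6) (nat_lit 106) (Steps.bwd (nat_lit 6) (Steps.bwd (nat_lit 4) (Steps.bwd (nat_lit 5) (Steps.bwd (nat_lit 5) (Steps.bwd (nat_lit 5) (Steps.fwd (nat_lit 8192) (Steps.bwd (nat_lit 6) (Steps.bwd (nat_lit 4) Steps.nil)))))))) (nat_lit 24) (nat_lit 6),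
  Rule.mk (nat_lit 5) (nat_lit 106) (Steps.bwd (nat_lit 4) (Steps.bwd (nat_lit 6) (Steps.bwd (nat_lit 6) (Steps.bwd (nat_lit 6) (Steps.bwd (nat_lit 4) (Steps.bwd (nat_lit 5) (Steps.bwd (nat_lit 5) (Steps.bwd (nat_lit 4) Steps.nil)))))))) (nat_lit 25) (nat_lit 10),
  Rule.mk (nat_lit 7) (nat_lit 58) (Steps.fwd (nat_lit 10240) (Steps.fwd (nat_lit 10240) (Steps.bwd (nat_lit 8) (Steps.bwd (nat_lit 5) Steps.nil)))) (nat_lit 36) (nat_lit 3),
  Rule.mk (nat_lit 7) (nat_lit 58) (Steps.bwd (nat_lit 5) (Steps.bwd (nat_lit 5) (Steps.bwd (nat_lit 8) (Steps.fwd (nat_lit 10240) Steps.nil)))) (nat_lit 37) (nat_lit 0),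
  Rule.mk (nat_lit 7) (nat_lit 34) (Steps.bwd (nat_lit 7) (Steps.bwd (nat_lit 7) Steps.nil)) (nat_lit 26) (nat_lit 0),
  Rule.mk (nat_lit 2) (nat_lit 46) (Steps.bwd (nat_lit 7) (Steps.bwd (nat_lit 2) (Steps.bwd (nat_lit 8) Steps.nil))) (nat_lit 30) (nat_lit 2),
  Rule.mk (nat_lit 7) (nat_lit 46) (Steps.fwd (nat_lit 8192) (Steps.bwd (nat_lit 8) (Steps.bwd (nat_lit 4) Steps.nil))) (nat_lit 34) (nat_lit 3),
  Rule.mk (nat_lit 2) (nat_lit 46) (Steps.fwd (nat_lit 10240) (Steps.bwd (nat_lit 2) (Steps.bwd (nat_lit 5) Steps.nil))) (nat_lit 20) (nat_lit 0),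
  Rule.mk (nat_lit 0) (nat_lit 58) (Steps.fwd (nat_lit 4096) (Steps.fwd (nat_lit 8192) (Steps.bwd (nat_lit 2) (Steps.bwd (nat_lit 4) Steps.nil)))) (nat_lit 12) (nat_lit 0),
  Rule.mk (nat_lit 0) (nat_lit 46) (Steps.bwd (nat_lit 2) (Steps.fwd (nat_lit 0) (Steps.bwd (nat_lit 2) Steps.nil))) (nat_lit 230) (nat_lit 0),
  Rule.mk (nat_lit 0) (nat_lit 46) (Steps.fwd (nat_lit 6144) (Steps.fwd (nat_lit 0) (Steps.fwd (nat_lit 6144) Steps.nil))) (nat_lit 230) (nat_lit 0),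
  Rule.mk (nat_lit 0) (nat_lit 46) (Steps.fwd (nat_lit 8192) (Steps.fwd (nat_lit 0) (Steps.bwd (nat_lit 4) Steps.nil))) (nat_lit 230) (nat_lit 0),
  Rule.mk (nat_lit 0) (nat_lit 46) (Steps.fwd (nat_lit 6144) (Steps.fwd (nat_lit 0) (Steps.bwd (nat_lit 3) Steps.nil))) (nat_lit 230) (nat_lit 0),
  Rule.mk (nat_lit 8) (nat_lit 46) (Steps.bwd (nat_lit 2) (Steps.bwd (nat_lit 7) (Steps.bwd (nat_lit 2) Steps.nil))) (nat_lit 30) (nat_lit 1),
  Rule.mk (nat_lit 1) (nat_lit 106) (Steps.fwd (nat_lit 6144) (Steps.bwd (nat_lit 2) (Steps.fwd (nat_lit 6144) (Steps.fwd (nat_lit 4096) (Steps.fwd (nat_lit 6144) (Steps.bwd (nat_lit 2) (Steps.bwd (nat_lit 3) (Steps.bwd (nat_lit 2) Steps.nil)))))))) (nat_lit 10) (nat_lit 1),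
  Rule.mk (nat_lit 1) (nat_lit 106) (Steps.bwd (nat_lit 2) (Steps.fwd (nat_lit 6144) (Steps.fwd (nat_lit 4096) (Steps.fwd (nat_lit 6144) (Steps.bwd (nat_lit 2) (Steps.bwd (nat_lit 3) (Steps.bwd (nat_lit 2) (Steps.bwd (nat_lit 3) Steps.nil)))))))) (nat_lit 11) (nat_lit 0),
  Rule.mk (nat_lit 6) (nat_lit 46) (Steps.fwd (nat_lit 6144) (Steps.bwd (nat_lit 6) (Steps.fwd (nat_lit 6144) Steps.nil))) (nat_lit 23) (nat_lit 0),
  Rule.mk (nat_lit 0) (nat_lit 58) (Steps.fwd (nat_lit 12288) (Steps.fwd (nat_lit 2048) (Steps.bwd (nat_lit 6) (Steps.fwd (nat_lit 2048) Steps.nil)))) (nat_lit 18) (nat_lit 2),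
  Rule.mk (nat_lit 0) (nat_lit 46) (Steps.fwd (nat_lit 4096) (Steps.fwd (nat_lit 0) (Steps.bwd (nat_lit 2) Steps.nil))) (nat_lit 230) (nat_lit 0),
  Rule.mk (nat_lit 4) (nat_lit 34) (Steps.bwd (nat_lit 0) (Steps.bwd (nat_lit 4) Steps.nil)) (nat_lit 230) (nat_lit 0),
  Rule.mk (nat_lit 5) (nat_lit 46) (Steps.bwd (nat_lit 2) (Steps.bwd (nat_lit 6) (Steps.fwd (nat_lit 4096) Steps.nil))) (nat_lit 20) (nat_lit 3),
  Rule.mk (nat_lit 7) (nat_lit 46) (Steps.fwd (nat_lit 2048) (Steps.fwd (nat_lit 14336) (Steps.bwd (nat_lit 1) Steps.nil))) (nat_lit 28) (nat_lit 3),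
  Rule.mk (nat_lit 3) (nat_lit 46) (Steps.fwd (nat_lit 12288) (Steps.bwd (nat_lit 3) (Steps.fwd (nat_lit 12288) Steps.nil))) (nat_lit 22) (nat_lit 0),
  Rule.mk (nat_lit 6) (nat_lit 46) (Steps.bwd (nat_lit 3) (Steps.fwd (nat_lit 10240) (Steps.bwd (nat_lit 3) Steps.nil))) (nat_lit 23) (nat_lit 0),
  Rule.mk (nat_lit 7) (nat_lit 46) (Steps.bwd (nat_lit 3) (Steps.bwd (nat_lit 8) (Steps.fwd (nat_lit 6144) Steps.nil))) (nat_lit 32) (nat_lit 3),
  Rule.mk (nat_lit 8) (nat_lit 46) (Steps.bwd (nat_lit 3) (Steps.bwd (nat_lit 7) (Steps.bwd (nat_lit 3) Steps.nil))) (nat_lit 32) (nat_lit 1),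
  Rule.mk (nat_lit 7) (nat_lit 46) (Steps.bwd (nat_lit 4) (Steps.bwd (nat_lit 8) (Steps.bwd (nat_lit 4) Steps.nil))) (nat_lit 34) (nat_lit 3),
  Rule.mk (nat_lit 5) (nat_lit 106) (Steps.bwd (nat_lit 4) (Steps.bwd (nat_lit 6) (Steps.bwd (nat_lit 6) (Steps.bwd (nat_lit 6) (Steps.bwd (nat_lit 4) (Steps.fwd (nat_lit 12288) (Steps.bwd (nat_lit 5) (Steps.bwd (nat_lit 4) Steps.nil)))))))) (nat_lit 25) (nat_lit 10),
  Rule.mk (nat_lit 7) (nat_lit 58) (Steps.bwd (nat_lit 6) (Steps.bwd (nat_lit 6) (Steps.fwd (nat_lit 14336) (Steps.bwd (nat_lit 5) Steps.nil)))) (nat_lit 36) (nat_lit 3),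
  Rule.mk (nat_lit 8) (nat_lit 46) (Steps.bwd (nat_lit 1) (Steps.bwd (nat_lit 7) (Steps.fwd (nat_lit 2048) Steps.nil))) (nat_lit 28) (nat_lit 1),
  Rule.mk (nat_lit 8) (nat_lit 46) (Steps.bwd (nat_lit 2) (Steps.bwd (nat_lit 7) (Steps.fwd (nat_lit 4096) Steps.nil))) (nat_lit 30) (nat_lit 1),
  Rule.mk (nat_lit 8) (nat_lit 46) (Steps.fwd (nat_lit 6144) (Steps.bwd (nat_lit 7) (Steps.fwd (nat_lit 6144) Steps.nil))) (nat_lit 32) (nat_lit 1),
  Rule.mk (nat_lit 7) (nat_lit 46) (Steps.fwd (nat_lit 6144) (Steps.fwd (nat_lit 14336) (Steps.bwd (nat_lit 3) Steps.nil))) (nat_lit 32) (nat_lit 3)]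
noncomputable def R_2 : List (Rule) := [Rule.mk (nat_lit 6) (nat_lit 106) (Steps.bwd (nat_lit 4) (Steps.bwd (nat_lit 6) (Steps.bwd (nat_lit 6) (Steps.fwd (nat_lit 8192) (Steps.bwd (nat_lit 5) (Steps.bwd (nat_lit 5) (Steps.bwd (nat_lit 5) (Steps.bwd (nat_lit 4) Steps.nil)))))))) (nat_lit 24) (nat_lit 2),
  Rule.mk (nat_lit 1) (nat_lit 46) (Steps.fwd (nat_lit 12288) (Steps.fwd (nat_lit 2048) (Steps.bwd (nat_lit 6) Steps.nil))) (nat_lit 18) (nat_lit 2),
  Rule.mk (nat_lit 2) (nat_lit 46) (Steps.fwd (nat_lit 12288) (Steps.fwd (nat_lit 4096) (Steps.bwd (nat_lit 6) Steps.nil))) (nat_lit 20) (nat_lit 2),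
  Rule.mk (nat_lit 2) (nat_lit 46) (Steps.fwd (nat_lit 8192) (Steps.bwd (nat_lit 2) (Steps.bwd (nat_lit 4) Steps.nil))) (nat_lit 12) (nat_lit 1),
  Rule.mk (nat_lit 7) (nat_lit 46) (Steps.bwd (nat_lit 2) (Steps.fwd (nat_lit 14336) (Steps.bwd (nat_lit 2) Steps.nil))) (nat_lit 30) (nat_lit 3),
  Rule.mk (nat_lit 8) (nat_lit 46) (Steps.bwd (nat_lit 2) (Steps.fwd (nat_lit 16384) (Steps.bwd (nat_lit 2) Steps.nil))) (nat_lit 30) (nat_lit 1),
  Rule.mk (nat_lit 1) (nat_lit 46) (Steps.bwd (nat_lit 7) (Steps.bwd (nat_lit 1) (Steps.fwd (nat_lit 14336) Steps.nil))) (nat_lit 28) (nat_lit 2),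
  Rule.mk (nat_lit 6) (nat_lit 58) (Steps.bwd (nat_lit 7) (Steps.bwd (nat_lit 5) (Steps.bwd (nat_lit 5) (Steps.fwd (nat_lit 14336) Steps.nil)))) (nat_lit 37) (nat_lit 4),
  Rule.mk (nat_lit 8) (nat_lit 58) (Steps.fwd (nat_lit 12288) (Steps.bwd (nat_lit 7) (Steps.fwd (nat_lit 10240) (Steps.bwd (nat_lit 6) Steps.nil)))) (nat_lit 36) (nat_lit 1),
  Rule.mk (nat_lit 8) (nat_lit 58) (Steps.bwd (nat_lit 5) (Steps.fwd (nat_lit 16384) (Steps.bwd (nat_lit 6) (Steps.bwd (nat_lit 6) Steps.nil)))) (nat_lit 36) (nat_lit 1),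
  Rule.mk (nat_lit 4) (nat_lit 106) (Steps.bwd (nat_lit 6) (Steps.fwd (nat_lit 8192) (Steps.fwd (nat_lit 10240) (Steps.fwd (nat_lit 10240) (Steps.bwd (nat_lit 4) (Steps.bwd (nat_lit 5) (Steps.fwd (nat_lit 12288) (Steps.fwd (nat_lit 12288) Steps.nil)))))))) (nat_lit 24) (nat_lit 1),
  Rule.mk (nat_lit 1) (nat_lit 46) (Steps.bwd (nat_lit 4) (Steps.fwd (nat_lit 2048) (Steps.bwd (nat_lit 4) Steps.nil))) (nat_lit 8) (nat_lit 1),
  Rule.mk (nat_lit 2) (nat_lit 46) (Steps.bwd (nat_lit 4) (Steps.fwd (nat_lit 4096) (Steps.bwd (nat_lit 4) Steps.nil))) (nat_lit 12) (nat_lit 1),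
  Rule.mk (nat_lit 4) (nat_lit 634) (Steps.bwd (nat_lit 3) (Steps.bwd (nat_lit 2) (Steps.bwd (nat_lit 3) (Steps.bwd (nat_lit 4) (Steps.bwd (nat_lit 5) (Steps.bwd (nat_lit 4) (Steps.bwd (nat_lit 5) (Steps.bwd (nat_lit 4) (Steps.bwd (nat_lit 3) (Steps.bwd (nat_lit 2) (Steps.bwd (nat_lit 3) (Steps.bwd (nat_lit 4) (Steps.bwd (nat_lit 5) (Steps.bwd (nat_lit 4) (Steps.bwd (nat_lit 3) (Steps.bwd (nat_lit 2) (Steps.bwd (nat_lit 3) (Steps.bwd (nat_lit 4) (Steps.bwd (nat_lit 6) (Steps.bwd (nat_lit 6) (Steps.bwd (nat_lit 6) (Steps.bwd (nat_lit 4) (Steps.bwd (nat_lit 3) (Steps.bwd (nat_lit 2) (Steps.bwd (nat_lit 3) (Steps.bwd (nat_lit 4) (Steps.bwd (nat_lit 6) (Steps.bwd (nat_lit 4) (Steps.bwd (nat_lit 3) (Steps.bwd (nat_lit 2) (Steps.bwd (nat_lit 3) (Steps.fwd (nat_lit 8192) (Steps.bwd (nat_lit 5) (Steps.bwd (nat_lit 5) (Steps.bwd (nat_lit 2) (Steps.bwd (nat_lit 3) (Steps.fwd (nat_lit 8192) (Steps.fwd (nat_lit 10240) (Steps.fwd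 (nat_lit 8192) (Steps.fwd (nat_lit 6144) (Steps.fwd (nat_lit 4096) (Steps.fwd (nat_lit 6144) (Steps.fwd (nat_lit 8192) (Steps.fwd (nat_lit 12288) (Steps.fwd (nat_lit 8192) (Steps.fwd (nat_lit 4096) (Steps.fwd (nat_lit 6144) (Steps.fwd (nat_lit 8192) (Steps.fwd (nat_lit 6144) (Steps.bwd (nat_lit 2) (Steps.bwd (nat_lit 3) (Steps.fwd (nat_lit 10240) Steps.nil)))))))))))))))))))))))))))))))))))))))))))))))))))) (nat_lit 44) (nat_lit 19),
  Rule.mk (nat_lit 1) (nat_lit 46) (Steps.fwd (nat_lit 8192) (Steps.fwd (nat_lit 2048) (Steps.bwd (nat_lit 4) Steps.nil))) (nat_lit 8) (nat_lit 1),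
  Rule.mk (nat_lit 2) (nat_lit 46) (Steps.fwd (nat_lit 8192) (Steps.fwd (nat_lit 4096) (Steps.bwd (nat_lit 4) Steps.nil))) (nat_lit 12) (nat_lit 1),
  Rule.mk (nat_lit 7) (nat_lit 46) (Steps.bwd (nat_lit 4) (Steps.fwd (nat_lit 14336) (Steps.bwd (nat_lit 4) Steps.nil))) (nat_lit 34) (nat_lit 3),
  Rule.mk (nat_lit 8) (nat_lit 34) (Steps.fwd (nat_lit 14336) (Steps.bwd (nat_lit 8) Steps.nil)) (nat_lit 27) (nat_lit 0),
  Rule.mk (nat_lit 7) (nat_lit 46) (Steps.bwd (nat_lit 2) (Steps.bwd (nat_lit 8) (Steps.bwd (nat_lit 2) Steps.nil))) (nat_lit 30) (nat_lit 3),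
  Rule.mk (nat_lit 7) (nat_lit 34) (Steps.bwd (nat_lit 7) (Steps.fwd (nat_lit 16384) Steps.nil)) (nat_lit 26) (nat_lit 0),
  Rule.mk (nat_lit 8) (nat_lit 58) (Steps.fwd (nat_lit 10240) (Steps.bwd (nat_lit 7) (Steps.fwd (nat_lit 12288) (Steps.fwd (nat_lit 12288) Steps.nil)))) (nat_lit 37) (nat_lit 3),
  Rule.mk (nat_lit 2) (nat_lit 106) (Steps.fwd (nat_lit 6144) (Steps.bwd (nat_lit 1) (Steps.fwd (nat_lit 4096) (Steps.fwd (nat_lit 6144) (Steps.fwd (nat_lit 4096) (Steps.bwd (nat_lit 3) (Steps.bwd (nat_lit 2) (Steps.bwd (nat_lit 3) Steps.nil)))))))) (nat_lit 11) (nat_lit 7),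
  Rule.mk (nat_lit 2) (nat_lit 46) (Steps.bwd (nat_lit 4) (Steps.bwd (nat_lit 2) (Steps.bwd (nat_lit 4) Steps.nil))) (nat_lit 12) (nat_lit 1),
  Rule.mk (nat_lit 1) (nat_lit 106) (Steps.fwd (nat_lit 6144) (Steps.fwd (nat_lit 4096) (Steps.fwd (nat_lit 6144) (Steps.fwd (nat_lit 4096) (Steps.bwd (nat_lit 3) (Steps.bwd (nat_lit 2) (Steps.bwd (nat_lit 3) (Steps.bwd (nat_lit 2) Steps.nil)))))))) (nat_lit 10) (nat_lit 1),
  Rule.mk (nat_lit 1) (nat_lit 106) (Steps.fwd (nat_lit 6144) (Steps.fwd (nat_lit 4096) (Steps.bwd (nat_lit 3) (Steps.bwd (nat_lit 2) (Steps.bwd (nat_lit 3) (Steps.bwd (nat_lit 2) (Steps.fwd (nat_lit 6144) (Steps.fwd (nat_lit 4096) Steps.nil)))))))) (nat_lit 10) (nat_lit 1),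
  Rule.mk (nat_lit 2) (nat_lit 106) (Steps.bwd (nat_lit 3) (Steps.bwd (nat_lit 2) (Steps.bwd (nat_lit 3) (Steps.bwd (nat_lit 2) (Steps.bwd (nat_lit 1) (Steps.fwd (nat_lit 6144) (Steps.bwd (nat_lit 2) (Steps.bwd (nat_lit 3) Steps.nil)))))))) (nat_lit 10) (nat_lit 5),
  Rule.mk (nat_lit 1) (nat_lit 106) (Steps.bwd (nat_lit 3) (Steps.bwd (nat_lit 2) (Steps.bwd (nat_lit 3) (Steps.bwd (nat_lit 2) (Steps.fwd (nat_lit 6144) (Steps.fwd (nat_lit 4096) (Steps.fwd (nat_lit 6144) (Steps.fwd (nat_lit 4096) Steps.nil)))))))) (nat_lit 10) (nat_lit 1),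
  Rule.mk (nat_lit 0) (nat_lit 58) (Steps.bwd (nat_lit 4) (Steps.fwd (nat_lit 4096) (Steps.bwd (nat_lit 4) (Steps.fwd (nat_lit 4096) Steps.nil)))) (nat_lit 12) (nat_lit 1),
  Rule.mk (nat_lit 8) (nat_lit 46) (Steps.fwd (nat_lit 4096) (Steps.fwd (nat_lit 16384) (Steps.bwd (nat_lit 2) Steps.nil))) (nat_lit 30) (nat_lit 1),
  Rule.mk (nat_lit 7) (nat_lit 46) (Steps.bwd (nat_lit 1) (Steps.bwd (nat_lit 8) (Steps.fwd (nat_lit 2048) Steps.nil))) (nat_lit 28) (nat_lit 3),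
  Rule.mk (nat_lit 3) (nat_lit 634) (Steps.bwd (nat_lit 6) (Steps.bwd (nat_lit 4) (Steps.bwd (nat_lit 3) (Steps.bwd (nat_lit 2) (Steps.bwd (nat_lit 3) (Steps.bwd (nat_lit 4) (Steps.bwd (nat_lit 5) (Steps.bwd (nat_lit 4) (Steps.bwd (nat_lit 5) (Steps.bwd (nat_lit 4) (Steps.bwd (nat_lit 3) (Steps.bwd (nat_lit 2) (Steps.bwd (nat_lit 3) (Steps.bwd (nat_lit 4) (Steps.bwd (nat_lit 5) (Steps.bwd (nat_lit 4) (Steps.bwd (nat_lit 3) (Steps.bwd (nat_lit 2) (Steps.bwd (nat_lit 3) (Steps.bwd (nat_lit 4) (Steps.bwd (nat_lit 6) (Steps.bwd (nat_lit 6) (Steps.bwd (nat_lit 6) (Steps.bwd (nat_lit 4) (Steps.bwd (nat_lit 3) (Steps.bwd (nat_lit 2) (Steps.bwd (nat_lit 3) (Steps.bwd (nat_lit 4) (Steps.bwd (nat_lit 6) (Steps.bwd (nat_lit 4) (Steps.fwd (nat_lit 6144) (Steps.fwd (nat_lit 4096) (Steps.fwd (nat_lit 6144) (Steps.bwd (nat_lit 4) (Steps.bwd (nat_lit 5) (Steps.bwd (nat_lit 5) (Steps.fwd (nat_lit 4096) (Steps.fwd (nat_lit 6144) (Steps.fwd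 (nat_lit 8192) (Steps.bwd (nat_lit 6) (Steps.fwd (nat_lit 8192) (Steps.bwd (nat_lit 3) (Steps.bwd (nat_lit 2) (Steps.bwd (nat_lit 3) (Steps.bwd (nat_lit 4) (Steps.fwd (nat_lit 12288) (Steps.bwd (nat_lit 4) (Steps.fwd (nat_lit 4096) (Steps.fwd (nat_lit 6144) (Steps.fwd (nat_lit 8192) (Steps.fwd (nat_lit 6144) (Steps.bwd (nat_lit 2) Steps.nil)))))))))))))))))))))))))))))))))))))))))))))))))))) (nat_lit 44) (nat_lit 17),
  Rule.mk (nat_lit 0) (nat_lit 58) (Steps.fwd (nat_lit 12288) (Steps.fwd (nat_lit 6144) (Steps.fwd (nat_lit 12288) (Steps.bwd (nat_lit 3) Steps.nil)))) (nat_lit 22) (nat_lit 0),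
  Rule.mk (nat_lit 7) (nat_lit 46) (Steps.bwd (nat_lit 3) (Steps.fwd (nat_lit 14336) (Steps.bwd (nat_lit 3) Steps.nil))) (nat_lit 32) (nat_lit 3),
  Rule.mk (nat_lit 2) (nat_lit 106) (Steps.fwd (nat_lit 2048) (Steps.bwd (nat_lit 3) (Steps.bwd (nat_lit 2) (Steps.fwd (nat_lit 6144) (Steps.fwd (nat_lit 4096) (Steps.fwd (nat_lit 6144) (Steps.bwd (nat_lit 2) (Steps.bwd (nat_lit 3) Steps.nil)))))))) (nat_lit 10) (nat_lit 0),
  Rule.mk (nat_lit 8) (nat_lit 46) (Steps.bwd (nat_lit 1) (Steps.bwd (nat_lit 7) (Steps.bwd (nat_lit 1) Steps.nil))) (nat_lit 28) (nat_lit 1),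
  Rule.mk (nat_lit 2) (nat_lit 106) (Steps.fwd (nat_lit 6144) (Steps.fwd (nat_lit 4096) (Steps.fwd (nat_lit 6144) (Steps.fwd (nat_lit 4096) (Steps.bwd (nat_lit 1) (Steps.bwd (nat_lit 3) (Steps.bwd (nat_lit 2) (Steps.bwd (nat_lit 3) Steps.nil)))))))) (nat_lit 10) (nat_lit 5),
  Rule.mk (nat_lit 1) (nat_lit 106) (Steps.bwd (nat_lit 3) (Steps.bwd (nat_lit 2) (Steps.fwd (nat_lit 6144) (Steps.fwd (nat_lit 4096) (Steps.fwd (nat_lit 6144) (Steps.fwd (nat_lit 4096) (Steps.bwd (nat_lit 3) (Steps.bwd (nat_lit 2) Steps.nil)))))))) (nat_lit 10) (nat_lit 1),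
  Rule.mk (nat_lit 1) (nat_lit 106) (Steps.bwd (nat_lit 2) (Steps.bwd (nat_lit 3) (Steps.bwd (nat_lit 2) (Steps.fwd (nat_lit 6144) (Steps.fwd (nat_lit 4096) (Steps.fwd (nat_lit 6144) (Steps.fwd (nat_lit 4096) (Steps.bwd (nat_lit 3) Steps.nil)))))))) (nat_lit 11) (nat_lit 0),
  Rule.mk (nat_lit 1) (nat_lit 106) (Steps.bwd (nat_lit 2) (Steps.fwd (nat_lit 6144) (Steps.fwd (nat_lit 4096) (Steps.fwd (nat_lit 6144) (Steps.fwd (nat_lit 4096) (Steps.bwd (nat_lit 3) (Steps.bwd (nat_lit 2) (Steps.bwd (nat_lit 3) Steps.nil)))))))) (nat_lit 11) (nat_lit 0),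
  Rule.mk (nat_lit 2) (nat_lit 106) (Steps.fwd (nat_lit 6144) (Steps.fwd (nat_lit 4096) (Steps.fwd (nat_lit 6144) (Steps.bwd (nat_lit 2) (Steps.bwd (nat_lit 1) (Steps.bwd (nat_lit 3) (Steps.bwd (nat_lit 2) (Steps.bwd (nat_lit 3) Steps.nil)))))))) (nat_lit 10) (nat_lit 5),
  Rule.mk (nat_lit 1) (nat_lit 106) (Steps.bwd (nat_lit 3) (Steps.bwd (nat_lit 2) (Steps.fwd (nat_lit 6144) (Steps.fwd (nat_lit 4096) (Steps.fwd (nat_lit 6144) (Steps.bwd (nat_lit 2) (Steps.bwd (nat_lit 3) (Steps.bwd (nat_lit 2) Steps.nil)))))))) (nat_lit 10) (nat_lit 1),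
  Rule.mk (nat_lit 2) (nat_lit 46) (Steps.bwd (nat_lit 8) (Steps.fwd (nat_lit 4096) (Steps.bwd (nat_lit 7) Steps.nil))) (nat_lit 30) (nat_lit 0),
  Rule.mk (nat_lit 8) (nat_lit 46) (Steps.fwd (nat_lit 2048) (Steps.bwd (nat_lit 7) (Steps.bwd (nat_lit 1) Steps.nil))) (nat_lit 28) (nat_lit 1),
  Rule.mk (nat_lit 0) (nat_lit 58) (Steps.fwd (nat_lit 6144) (Steps.fwd (nat_lit 14336) (Steps.fwd (nat_lit 6144) (Steps.fwd (nat_lit 16384) Steps.nil)))) (nat_lit 32) (nat_lit 3),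
  Rule.mk (nat_lit 7) (nat_lit 34) (Steps.bwd (nat_lit 0) (Steps.fwd (nat_lit 14336) Steps.nil)) (nat_lit 230) (nat_lit 0),
  Rule.mk (nat_lit 8) (nat_lit 34) (Steps.bwd (nat_lit 0) (Steps.bwd (nat_lit 7) Steps.nil)) (nat_lit 230) (nat_lit 0),
  Rule.mk (nat_lit 5) (nat_lit 58) (Steps.fwd (nat_lit 16384) (Steps.bwd (nat_lit 6) (Steps.bwd (nat_lit 6) (Steps.bwd (nat_lit 8) Steps.nil)))) (nat_lit 36) (nat_lit 2),
  Rule.mk (nat_lit 6) (nat_lit 106) (Steps.bwd (nat_lit 6) (Steps.bwd (nat_lit 4) (Steps.fwd (nat_lit 12288) (Steps.bwd (nat_lit 5) (Steps.bwd (nat_lit 4) (Steps.bwd (nat_lit 5) (Steps.bwd (nat_lit 4) (Steps.bwd (nat_lit 6) Steps.nil)))))))) (nat_lit 25) (nat_lit 2),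
  Rule.mk (nat_lit 1) (nat_lit 46) (Steps.bwd (nat_lit 5) (Steps.bwd (nat_lit 1) (Steps.bwd (nat_lit 6) Steps.nil))) (nat_lit 18) (nat_lit 2),
  Rule.mk (nat_lit 7) (nat_lit 58) (Steps.bwd (nat_lit 6) (Steps.bwd (nat_lit 6) (Steps.bwd (nat_lit 8) (Steps.fwd (nat_lit 12288) Steps.nil)))) (nat_lit 36) (nat_lit 3),
  Rule.mk (nat_lit 1) (nat_lit 46) (Steps.fwd (nat_lit 14336) (Steps.fwd (nat_lit 2048) (Steps.bwd (nat_lit 7) Steps.nil))) (nat_lit 28) (nat_lit 0),
  Rule.mk (nat_lit 2) (nat_lit 46) (Steps.fwd (nat_lit 14336) (Steps.bwd (nat_lit 2) (Steps.bwd (nat_lit 7) Steps.nil))) (nat_lit 30) (nat_lit 0),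
  Rule.mk (nat_lit 0) (nat_lit 58) (Steps.bwd (nat_lit 8) (Steps.fwd (nat_lit 6144) (Steps.bwd (nat_lit 7) (Steps.fwd (nat_lit 6144) Steps.nil)))) (nat_lit 32) (nat_lit 0),
  Rule.mk (nat_lit 7) (nat_lit 34) (Steps.bwd (nat_lit 0) (Steps.bwd (nat_lit 8) Steps.nil)) (nat_lit 230) (nat_lit 0),
  Rule.mk (nat_lit 8) (nat_lit 46) (Steps.fwd (nat_lit 4096) (Steps.bwd (nat_lit 7) (Steps.fwd (nat_lit 4096) Steps.nil))) (nat_lit 30) (nat_lit 1),
  Rule.mk (nat_lit 1) (nat_lit 46) (Steps.bwd (nat_lit 8) (Steps.bwd (nat_lit 1) (Steps.fwd (nat_lit 16384) Steps.nil))) (nat_lit 28) (nat_lit 0),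
  Rule.mk (nat_lit 4) (nat_lit 46) (Steps.fwd (nat_lit 2048) (Steps.fwd (nat_lit 8192) (Steps.bwd (nat_lit 1) Steps.nil))) (nat_lit 8) (nat_lit 0),
  Rule.mk (nat_lit 7) (nat_lit 46) (Steps.bwd (nat_lit 1) (Steps.bwd (nat_lit 8) (Steps.bwd (nat_lit 1) Steps.nil))) (nat_lit 28) (nat_lit 3),
  Rule.mk (nat_lit 6) (nat_lit 46) (Steps.bwd (nat_lit 1) (Steps.bwd (nat_lit 5) (Steps.bwd (nat_lit 1) Steps.nil))) (nat_lit 18) (nat_lit 1),
  Rule.mk (nat_lit 0) (nat_lit 58) (Steps.bwd (nat_lit 6) (Steps.bwd (nat_lit 3) (Steps.fwd (nat_lit 10240) (Steps.fwd (nat_lit 6144) Steps.nil)))) (nat_lit 23) (nat_lit 1),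
  Rule.mk (nat_lit 0) (nat_lit 46) (Steps.fwd (nat_lit 2048) (Steps.fwd (nat_lit 0) (Steps.fwd (nat_lit 2048) Steps.nil))) (nat_lit 230) (nat_lit 0),
  Rule.mk (nat_lit 0) (nat_lit 46) (Steps.fwd (nat_lit 8192) (Steps.fwd (nat_lit 0) (Steps.fwd (nat_lit 8192) Steps.nil))) (nat_lit 230) (nat_lit 0),
  Rule.mk (nat_lit 5) (nat_lit 34) (Steps.bwd (nat_lit 0) (Steps.bwd (nat_lit 6) Steps.nil)) (nat_lit 230) (nat_lit 0),
  Rule.mk (nat_lit 2) (nat_lit 34) (Steps.bwd (nat_lit 0) (Steps.fwd (nat_lit 4096) Steps.nil)) (nat_lit 230) (nat_lit 0)]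
noncomputable def R_3 : List (Rule) := [Rule.mk (nat_lit 8) (nat_lit 34) (Steps.bwd (nat_lit 0) (Steps.fwd (nat_lit 16384) Steps.nil)) (nat_lit 230) (nat_lit 0),
  Rule.mk (nat_lit 5) (nat_lit 46) (Steps.bwd (nat_lit 1) (Steps.fwd (nat_lit 10240) (Steps.bwd (nat_lit 1) Steps.nil))) (nat_lit 18) (nat_lit 3),
  Rule.mk (nat_lit 4) (nat_lit 634) (Steps.bwd (nat_lit 5) (Steps.bwd (nat_lit 4) (Steps.bwd (nat_lit 2) (Steps.bwd (nat_lit 3) (Steps.bwd (nat_lit 4) (Steps.bwd (nat_lit 3) (Steps.bwd (nat_lit 2) (Steps.bwd (nat_lit 3) (Steps.bwd (nat_lit 6) (Steps.bwd (nat_lit 4) (Steps.bwd (nat_lit 3) (Steps.bwd (nat_lit 2) (Steps.bwd (nat_lit 3) (Steps.bwd (nat_lit 4) (Steps.bwd (nat_lit 5) (Steps.bwd (nat_lit 4) (Steps.bwd (nat_lit 5) (Steps.bwd (nat_lit 4) (Steps.bwd (nat_lit 3) (Steps.bwd (nat_lit 2) (Steps.bwd (nat_lit 3) (Steps.bwd (nat_lit 4) (Steps.bwd (nat_lit 5) (Steps.bwd (nat_lit 4) (Steps.bwd (nat_lit 3) (Steps.bwd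 (nat_lit 2) (Steps.bwd (nat_lit 3) (Steps.bwd (nat_lit 4) (Steps.bwd (nat_lit 6) (Steps.bwd (nat_lit 6) (Steps.bwd (nat_lit 6) (Steps.bwd (nat_lit 4) (Steps.bwd (nat_lit 3) (Steps.bwd (nat_lit 2) (Steps.bwd (nat_lit 3) (Steps.bwd (nat_lit 4) (Steps.bwd (nat_lit 6) (Steps.fwd (nat_lit 8192) (Steps.fwd (nat_lit 6144) (Steps.fwd (nat_lit 4096) (Steps.fwd (nat_lit 6144) (Steps.bwd (nat_lit 4) (Steps.fwd (nat_lit 12288) (Steps.fwd (nat_lit 12288) (Steps.bwd (nat_lit 2) (Steps.bwd (nat_lit 3) (Steps.bwd (nat_lit 4) (Steps.bwd (nat_lit 6) (Steps.bwd (nat_lit 4) (Steps.bwd (nat_lit 3) (Steps.bwd (nat_lit 2) (Steps.fwd (nat_lit 6144) Steps.nil)))))))))))))))))))))))))))))))))))))))))))))))))))) (nat_lit 44) (nat_lit 9),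
  Rule.mk (nat_lit 8) (nat_lit 46) (Steps.bwd (nat_lit 4) (Steps.bwd (nat_lit 7) (Steps.bwd (nat_lit 4) Steps.nil))) (nat_lit 34) (nat_lit 1),
  Rule.mk (nat_lit 0) (nat_lit 118) (Steps.fwd (nat_lit 10240) (Steps.fwd (nat_lit 8192) (Steps.bwd (nat_lit 6) (Steps.bwd (nat_lit 6) (Steps.bwd (nat_lit 4) (Steps.fwd (nat_lit 12288) (Steps.bwd (nat_lit 5) (Steps.fwd (nat_lit 12288) (Steps.fwd (nat_lit 8192) Steps.nil))))))))) (nat_lit 24) (nat_lit 1),
  Rule.mk (nat_lit 0) (nat_lit 46) (Steps.fwd (nat_lit 4096) (Steps.fwd (nat_lit 0) (Steps.fwd (nat_lit 4096) Steps.nil))) (nat_lit 230) (nat_lit 0),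
  Rule.mk (nat_lit 0) (nat_lit 46) (Steps.fwd (nat_lit 12288) (Steps.fwd (nat_lit 0) (Steps.bwd (nat_lit 6) Steps.nil))) (nat_lit 230) (nat_lit 0),
  Rule.mk (nat_lit 0) (nat_lit 46) (Steps.fwd (nat_lit 10240) (Steps.fwd (nat_lit 0) (Steps.bwd (nat_lit 5) Steps.nil))) (nat_lit 230) (nat_lit 0),
  Rule.mk (nat_lit 1) (nat_lit 46) (Steps.bwd (nat_lit 6) (Steps.fwd (nat_lit 2048) (Steps.bwd (nat_lit 5) Steps.nil))) (nat_lit 18) (nat_lit 0),
  Rule.mk (nat_lit 2) (nat_lit 46) (Steps.bwd (nat_lit 6) (Steps.fwd (nat_lit 4096) (Steps.fwd (nat_lit 12288) Steps.nil))) (nat_lit 20) (nat_lit 0),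
  Rule.mk (nat_lit 2) (nat_lit 106) (Steps.fwd (nat_lit 6144) (Steps.fwd (nat_lit 4096) (Steps.fwd (nat_lit 6144) (Steps.bwd (nat_lit 2) (Steps.fwd (nat_lit 2048) (Steps.bwd (nat_lit 3) (Steps.bwd (nat_lit 2) (Steps.bwd (nat_lit 3) Steps.nil)))))))) (nat_lit 10) (nat_lit 5),
  Rule.mk (nat_lit 1) (nat_lit 106) (Steps.fwd (nat_lit 6144) (Steps.fwd (nat_lit 4096) (Steps.fwd (nat_lit 6144) (Steps.bwd (nat_lit 2) (Steps.bwd (nat_lit 3) (Steps.bwd (nat_lit 2) (Steps.bwd (nat_lit 3) (Steps.bwd (nat_lit 2) Steps.nil)))))))) (nat_lit 10) (nat_lit 1),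
  Rule.mk (nat_lit 2) (nat_lit 106) (Steps.bwd (nat_lit 1) (Steps.bwd (nat_lit 3) (Steps.bwd (nat_lit 2) (Steps.bwd (nat_lit 3) (Steps.fwd (nat_lit 4096) (Steps.fwd (nat_lit 6144) (Steps.fwd (nat_lit 4096) (Steps.fwd (nat_lit 6144) Steps.nil)))))))) (nat_lit 10) (nat_lit 0),
  Rule.mk (nat_lit 2) (nat_lit 106) (Steps.fwd (nat_lit 6144) (Steps.fwd (nat_lit 4096) (Steps.fwd (nat_lit 6144) (Steps.bwd (nat_lit 1) (Steps.bwd (nat_lit 2) (Steps.bwd (nat_lit 3) (Steps.bwd (nat_lit 2) (Steps.bwd (nat_lit 3) Steps.nil)))))))) (nat_lit 11) (nat_lit 5),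
  Rule.mk (nat_lit 2) (nat_lit 46) (Steps.bwd (nat_lit 8) (Steps.bwd (nat_lit 2) (Steps.bwd (nat_lit 7) Steps.nil))) (nat_lit 30) (nat_lit 0),
  Rule.mk (nat_lit 8) (nat_lit 34) (Steps.bwd (nat_lit 8) (Steps.fwd (nat_lit 14336) Steps.nil)) (nat_lit 27) (nat_lit 0),
  Rule.mk (nat_lit 1) (nat_lit 46) (Steps.bwd (nat_lit 8) (Steps.fwd (nat_lit 2048) (Steps.fwd (nat_lit 16384) Steps.nil))) (nat_lit 28) (nat_lit 0),
  Rule.mk (nat_lit 3) (nat_lit 46) (Steps.bwd (nat_lit 8) (Steps.bwd (nat_lit 3) (Steps.fwd (nat_lit 16384) Steps.nil))) (nat_lit 32) (nat_lit 0),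
  Rule.mk (nat_lit 7) (nat_lit 46) (Steps.fwd (nat_lit 8192) (Steps.bwd (nat_lit 8) (Steps.fwd (nat_lit 8192) Steps.nil))) (nat_lit 34) (nat_lit 3),
  Rule.mk (nat_lit 1) (nat_lit 46) (Steps.bwd (nat_lit 8) (Steps.bwd (nat_lit 1) (Steps.bwd (nat_lit 7) Steps.nil))) (nat_lit 28) (nat_lit 0),
  Rule.mk (nat_lit 1) (nat_lit 46) (Steps.bwd (nat_lit 8) (Steps.fwd (nat_lit 2048) (Steps.bwd (nat_lit 7) Steps.nil))) (nat_lit 28) (nat_lit 0),
  Rule.mk (nat_lit 7) (nat_lit 46) (Steps.fwd (nat_lit 4096) (Steps.bwd (nat_lit 8) (Steps.fwd (nat_lit 4096) Steps.nil))) (nat_lit 30) (nat_lit 3),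
  Rule.mk (nat_lit 3) (nat_lit 46) (Steps.fwd (nat_lit 14336) (Steps.bwd (nat_lit 3) (Steps.bwd (nat_lit 7) Steps.nil))) (nat_lit 32) (nat_lit 0),
  Rule.mk (nat_lit 5) (nat_lit 58) (Steps.bwd (nat_lit 5) (Steps.fwd (nat_lit 14336) (Steps.bwd (nat_lit 6) (Steps.bwd (nat_lit 7) Steps.nil)))) (nat_lit 37) (nat_lit 1),
  Rule.mk (nat_lit 5) (nat_lit 106) (Steps.bwd (nat_lit 4) (Steps.bwd (nat_lit 6) (Steps.bwd (nat_lit 6) (Steps.bwd (nat_lit 6) (Steps.bwd (nat_lit 4) (Steps.bwd (nat_lit 5) (Steps.fwd (nat_lit 12288) (Steps.bwd (nat_lit 4) Steps.nil)))))))) (nat_lit 25) (nat_lit 10),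
  Rule.mk (nat_lit 6) (nat_lit 46) (Steps.bwd (nat_lit 3) (Steps.bwd (nat_lit 6) (Steps.fwd (nat_lit 6144) Steps.nil))) (nat_lit 23) (nat_lit 0),
  Rule.mk (nat_lit 6) (nat_lit 634) (Steps.bwd (nat_lit 4) (Steps.bwd (nat_lit 3) (Steps.bwd (nat_lit 2) (Steps.bwd (nat_lit 3) (Steps.bwd (nat_lit 4) (Steps.bwd (nat_lit 5) (Steps.bwd (nat_lit 4) (Steps.bwd (nat_lit 5) (Steps.bwd (nat_lit 4) (Steps.bwd (nat_lit 3) (Steps.bwd (nat_lit 2) (Steps.bwd (nat_lit 3) (Steps.bwd (nat_lit 4) (Steps.bwd (nat_lit 5) (Steps.bwd (nat_lit 4) (Steps.bwd (nat_lit 3) (Steps.bwd (nat_lit 2) (Steps.bwd (nat_lit 3) (Steps.bwd (nat_lit 4) (Steps.bwd (nat_lit 6) (Steps.bwd (nat_lit 6) (Steps.bwd (nat_lit 6) (Steps.bwd (nat_lit 4) (Steps.bwd (nat_lit 3) (Steps.fwd (nat_lit 4096) (Steps.fwd (nat_lit 6144) (Steps.fwd (nat_lit 8192) (Steps.bwd (nat_lit 6) (Steps.fwd (nat_lit 8192) (Steps.fwd (nat_lit 6144) (Steps.fwd (nat_lit 4096) (Steps.fwd (nat_lit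 6144) (Steps.fwd (nat_lit 8192) (Steps.fwd (nat_lit 12288) (Steps.fwd (nat_lit 12288) (Steps.bwd (nat_lit 2) (Steps.fwd (nat_lit 6144) (Steps.fwd (nat_lit 8192) (Steps.fwd (nat_lit 10240) (Steps.fwd (nat_lit 8192) (Steps.fwd (nat_lit 6144) (Steps.fwd (nat_lit 4096) (Steps.bwd (nat_lit 3) (Steps.fwd (nat_lit 8192) (Steps.fwd (nat_lit 12288) (Steps.fwd (nat_lit 8192) (Steps.bwd (nat_lit 2) (Steps.fwd (nat_lit 6144) (Steps.bwd (nat_lit 4) (Steps.bwd (nat_lit 3) (Steps.bwd (nat_lit 2) (Steps.bwd (nat_lit 3) Steps.nil)))))))))))))))))))))))))))))))))))))))))))))))))))) (nat_lit 44) (nat_lit 18),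
  Rule.mk (nat_lit 1) (nat_lit 106) (Steps.bwd (nat_lit 3) (Steps.bwd (nat_lit 2) (Steps.bwd (nat_lit 3) (Steps.fwd (nat_lit 4096) (Steps.fwd (nat_lit 6144) (Steps.fwd (nat_lit 4096) (Steps.fwd (nat_lit 6144) (Steps.bwd (nat_lit 2) Steps.nil)))))))) (nat_lit 10) (nat_lit 1),
  Rule.mk (nat_lit 2) (nat_lit 106) (Steps.fwd (nat_lit 2048) (Steps.fwd (nat_lit 6144) (Steps.fwd (nat_lit 4096) (Steps.fwd (nat_lit 6144) (Steps.bwd (nat_lit 2) (Steps.bwd (nat_lit 3) (Steps.bwd (nat_lit 2) (Steps.bwd (nat_lit 3) Steps.nil)))))))) (nat_lit 10) (nat_lit 0),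
  Rule.mk (nat_lit 1) (nat_lit 106) (Steps.bwd (nat_lit 2) (Steps.bwd (nat_lit 3) (Steps.fwd (nat_lit 4096) (Steps.fwd (nat_lit 6144) (Steps.fwd (nat_lit 4096) (Steps.fwd (nat_lit 6144) (Steps.bwd (nat_lit 2) (Steps.bwd (nat_lit 3) Steps.nil)))))))) (nat_lit 11) (nat_lit 0),
  Rule.mk (nat_lit 1) (nat_lit 106) (Steps.fwd (nat_lit 4096) (Steps.fwd (nat_lit 6144) (Steps.fwd (nat_lit 4096) (Steps.fwd (nat_lit 6144) (Steps.bwd (nat_lit 2) (Steps.bwd (nat_lit 3) (Steps.bwd (nat_lit 2) (Steps.bwd (nat_lit 3) Steps.nil)))))))) (nat_lit 11) (nat_lit 0),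
  Rule.mk (nat_lit 2) (nat_lit 106) (Steps.bwd (nat_lit 3) (Steps.bwd (nat_lit 2) (Steps.bwd (nat_lit 3) (Steps.bwd (nat_lit 2) (Steps.fwd (nat_lit 6144) (Steps.fwd (nat_lit 4096) (Steps.fwd (nat_lit 6144) (Steps.bwd (nat_lit 1) Steps.nil)))))))) (nat_lit 11) (nat_lit 1),
  Rule.mk (nat_lit 0) (nat_lit 58) (Steps.fwd (nat_lit 10240) (Steps.bwd (nat_lit 1) (Steps.bwd (nat_lit 5) (Steps.fwd (nat_lit 2048) Steps.nil)))) (nat_lit 18) (nat_lit 0),
  Rule.mk (nat_lit 6) (nat_lit 46) (Steps.bwd (nat_lit 3) (Steps.fwd (nat_lit 10240) (Steps.fwd (nat_lit 6144) Steps.nil))) (nat_lit 23) (nat_lit 0),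
  Rule.mk (nat_lit 2) (nat_lit 106) (Steps.fwd (nat_lit 6144) (Steps.fwd (nat_lit 4096) (Steps.bwd (nat_lit 3) (Steps.bwd (nat_lit 2) (Steps.bwd (nat_lit 1) (Steps.bwd (nat_lit 3) (Steps.bwd (nat_lit 2) (Steps.bwd (nat_lit 3) Steps.nil)))))))) (nat_lit 10) (nat_lit 5),
  Rule.mk (nat_lit 1) (nat_lit 106) (Steps.fwd (nat_lit 6144) (Steps.fwd (nat_lit 4096) (Steps.bwd (nat_lit 3) (Steps.bwd (nat_lit 2) (Steps.bwd (nat_lit 3) (Steps.bwd (nat_lit 2) (Steps.bwd (nat_lit 3) (Steps.bwd (nat_lit 2) Steps.nil)))))))) (nat_lit 10) (nat_lit 1),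
  Rule.mk (nat_lit 1) (nat_lit 106) (Steps.bwd (nat_lit 3) (Steps.bwd (nat_lit 2) (Steps.bwd (nat_lit 3) (Steps.bwd (nat_lit 2) (Steps.bwd (nat_lit 3) (Steps.bwd (nat_lit 2) (Steps.fwd (nat_lit 6144) (Steps.fwd (nat_lit 4096) Steps.nil)))))))) (nat_lit 10) (nat_lit 1),
  Rule.mk (nat_lit 1) (nat_lit 106) (Steps.fwd (nat_lit 4096) (Steps.bwd (nat_lit 3) (Steps.bwd (nat_lit 2) (Steps.bwd (nat_lit 3) (Steps.bwd (nat_lit 2) (Steps.bwd (nat_lit 3) (Steps.bwd (nat_lit 2) (Steps.fwd (nat_lit 6144) Steps.nil)))))))) (nat_lit 11) (nat_lit 0),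
  Rule.mk (nat_lit 5) (nat_lit 46) (Steps.fwd (nat_lit 2048) (Steps.bwd (nat_lit 6) (Steps.bwd (nat_lit 1) Steps.nil))) (nat_lit 18) (nat_lit 3),
  Rule.mk (nat_lit 7) (nat_lit 58) (Steps.bwd (nat_lit 6) (Steps.bwd (nat_lit 6) (Steps.bwd (nat_lit 8) (Steps.bwd (nat_lit 5) Steps.nil)))) (nat_lit 36) (nat_lit 3),
  Rule.mk (nat_lit 6) (nat_lit 634) (Steps.bwd (nat_lit 4) (Steps.bwd (nat_lit 3) (Steps.bwd (nat_lit 2) (Steps.bwd (nat_lit 3) (Steps.bwd (nat_lit 4) (Steps.bwd (nat_lit 5) (Steps.bwd (nat_lit 4) (Steps.bwd (nat_lit 2) (Steps.bwd (nat_lit 3) (Steps.bwd (nat_lit 4) (Steps.bwd (nat_lit 3) (Steps.bwd (nat_lit 2) (Steps.bwd (nat_lit 3) (Steps.bwd (nat_lit 6) (Steps.bwd (nat_lit 4) (Steps.bwd (nat_lit 3) (Steps.bwd (nat_lit 2) (Steps.bwd (nat_lit 3) (Steps.bwd (nat_lit 4) (Steps.bwd (nat_lit 5) (Steps.bwd (nat_lit 4) (Steps.bwd (nat_lit 5) (Steps.bwd (nat_lit 4) (Steps.bwd (nat_lit 3) (Steps.bwd (nat_lit 2) (Steps.bwd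 (nat_lit 3) (Steps.bwd (nat_lit 4) (Steps.bwd (nat_lit 5) (Steps.bwd (nat_lit 4) (Steps.bwd (nat_lit 3) (Steps.bwd (nat_lit 2) (Steps.bwd (nat_lit 3) (Steps.bwd (nat_lit 4) (Steps.bwd (nat_lit 6) (Steps.bwd (nat_lit 6) (Steps.bwd (nat_lit 6) (Steps.bwd (nat_lit 4) (Steps.bwd (nat_lit 3) (Steps.bwd (nat_lit 2) (Steps.bwd (nat_lit 3) (Steps.bwd (nat_lit 4) (Steps.bwd (nat_lit 6) (Steps.fwd (nat_lit 8192) (Steps.fwd (nat_lit 6144) (Steps.fwd (nat_lit 4096) (Steps.fwd (nat_lit 6144) (Steps.fwd (nat_lit 8192) (Steps.fwd (nat_lit 12288) (Steps.fwd (nat_lit 12288) (Steps.fwd (nat_lit 4096) (Steps.fwd (nat_lit 6144) (Steps.fwd (nat_lit 8192) Steps.nil)))))))))))))))))))))))))))))))))))))))))))))))))))) (nat_lit 44) (nat_lit 4),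
  Rule.mk (nat_lit 3) (nat_lit 46) (Steps.bwd (nat_lit 6) (Steps.bwd (nat_lit 3) (Steps.bwd (nat_lit 6) Steps.nil))) (nat_lit 23) (nat_lit 1),
  Rule.mk (nat_lit 6) (nat_lit 82) (Steps.fwd (nat_lit 10240) (Steps.bwd (nat_lit 6) (Steps.fwd (nat_lit 10240) (Steps.bwd (nat_lit 6) (Steps.bwd (nat_lit 6) (Steps.bwd (nat_lit 6) Steps.nil)))))) (nat_lit 17) (nat_lit 0),
  Rule.mk (nat_lit 5) (nat_lit 106) (Steps.bwd (nat_lit 5) (Steps.bwd (nat_lit 4) (Steps.bwd (nat_lit 6) (Steps.fwd (nat_lit 8192) (Steps.bwd (nat_lit 6) (Steps.bwd (nat_lit 6) (Steps.bwd (nat_lit 4) (Steps.bwd (nat_lit 5) Steps.nil)))))))) (nat_lit 24) (nat_lit 10),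
  Rule.mk (nat_lit 4) (nat_lit 106) (Steps.bwd (nat_lit 5) (Steps.bwd (nat_lit 4) (Steps.bwd (nat_lit 6) (Steps.bwd (nat_lit 6) (Steps.bwd (nat_lit 6) (Steps.bwd (nat_lit 4) (Steps.bwd (nat_lit 5) (Steps.bwd (nat_lit 5) Steps.nil)))))))) (nat_lit 25) (nat_lit 9),
  Rule.mk (nat_lit 3) (nat_lit 70) (Steps.fwd (nat_lit 8192) (Steps.fwd (nat_lit 6144) (Steps.bwd (nat_lit 4) (Steps.bwd (nat_lit 3) (Steps.bwd (nat_lit 4) Steps.nil))))) (nat_lit 14) (nat_lit 1),
  Rule.mk (nat_lit 3) (nat_lit 70) (Steps.bwd (nat_lit 4) (Steps.bwd (nat_lit 3) (Steps.bwd (nat_lit 4) (Steps.fwd (nat_lit 6144) (Steps.fwd (nat_lit 8192) Steps.nil))))) (nat_lit 14) (nat_lit 1),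
  Rule.mk (nat_lit 3) (nat_lit 46) (Steps.bwd (nat_lit 5) (Steps.bwd (nat_lit 3) (Steps.fwd (nat_lit 12288) Steps.nil))) (nat_lit 22) (nat_lit 0),
  Rule.mk (nat_lit 3) (nat_lit 46) (Steps.bwd (nat_lit 6) (Steps.bwd (nat_lit 3) (Steps.fwd (nat_lit 10240) Steps.nil))) (nat_lit 23) (nat_lit 1),
  Rule.mk (nat_lit 4) (nat_lit 46) (Steps.fwd (nat_lit 2048) (Steps.bwd (nat_lit 4) (Steps.bwd (nat_lit 1) Steps.nil))) (nat_lit 8) (nat_lit 0),
  Rule.mk (nat_lit 3) (nat_lit 46) (Steps.fwd (nat_lit 10240) (Steps.bwd (nat_lit 3) (Steps.fwd (nat_lit 10240) Steps.nil))) (nat_lit 23) (nat_lit 1),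
  Rule.mk (nat_lit 3) (nat_lit 70) (Steps.fwd (nat_lit 8192) (Steps.fwd (nat_lit 6144) (Steps.bwd (nat_lit 4) (Steps.fwd (nat_lit 6144) (Steps.fwd (nat_lit 8192) Steps.nil))))) (nat_lit 14) (nat_lit 1),
  Rule.mk (nat_lit 3) (nat_lit 46) (Steps.bwd (nat_lit 5) (Steps.bwd (nat_lit 3) (Steps.bwd (nat_lit 5) Steps.nil))) (nat_lit 22) (nat_lit 0),
  Rule.mk (nat_lit 6) (nat_lit 46) (Steps.fwd (nat_lit 4096) (Steps.bwd (nat_lit 5) (Steps.fwd (nat_lit 4096) Steps.nil))) (nat_lit 20) (nat_lit 1),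
  Rule.mk (nat_lit 5) (nat_lit 46) (Steps.fwd (nat_lit 2048) (Steps.bwd (nat_lit 6) (Steps.fwd (nat_lit 2048) Steps.nil))) (nat_lit 18) (nat_lit 3),
  Rule.mk (nat_lit 5) (nat_lit 46) (Steps.bwd (nat_lit 1) (Steps.bwd (nat_lit 6) (Steps.bwd (nat_lit 1) Steps.nil))) (nat_lit 18) (nat_lit 3),
  Rule.mk (nat_lit 8) (nat_lit 58) (Steps.fwd (nat_lit 12288) (Steps.fwd (nat_lit 16384) (Steps.fwd (nat_lit 10240) (Steps.bwd (nat_lit 6) Steps.nil)))) (nat_lit 36) (nat_lit 1),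
  Rule.mk (nat_lit 7) (nat_lit 46) (Steps.fwd (nat_lit 2048) (Steps.bwd (nat_lit 8) (Steps.bwd (nat_lit 1) Steps.nil))) (nat_lit 28) (nat_lit 3),
  Rule.mk (nat_lit 8) (nat_lit 46) (Steps.fwd (nat_lit 2048) (Steps.bwd (nat_lit 7) (Steps.fwd (nat_lit 2048) Steps.nil))) (nat_lit 28) (nat_lit 1),
  Rule.mk (nat_lit 0) (nat_lit 58) (Steps.fwd (nat_lit 6144) (Steps.bwd (nat_lit 7) (Steps.bwd (nat_lit 3) (Steps.bwd (nat_lit 8) Steps.nil)))) (nat_lit 32) (nat_lit 1),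
  Rule.mk (nat_lit 0) (nat_lit 46) (Steps.fwd (nat_lit 4096) (Steps.bwd (nat_lit 0) (Steps.fwd (nat_lit 4096) Steps.nil))) (nat_lit 230) (nat_lit 0),
  Rule.mk (nat_lit 0) (nat_lit 46) (Steps.fwd (nat_lit 4096) (Steps.bwd (nat_lit 0) (Steps.bwd (nat_lit 2) Steps.nil))) (nat_lit 230) (nat_lit 0),
  Rule.mk (nat_lit 6) (nat_lit 58) (Steps.bwd (nat_lit 8) (Steps.fwd (nat_lit 12288) (Steps.fwd (nat_lit 16384) (Steps.fwd (nat_lit 10240) Steps.nil)))) (nat_lit 36) (nat_lit 0),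
  Rule.mk (nat_lit 8) (nat_lit 58) (Steps.fwd (nat_lit 12288) (Steps.fwd (nat_lit 16384) (Steps.bwd (nat_lit 6) (Steps.bwd (nat_lit 6) Steps.nil)))) (nat_lit 36) (nat_lit 1)]
noncomputable def R_4 : List (Rule) := [Rule.mk (nat_lit 0) (nat_lit 58) (Steps.fwd (nat_lit 8192) (Steps.fwd (nat_lit 16384) (Steps.bwd (nat_lit 4) (Steps.bwd (nat_lit 8) Steps.nil)))) (nat_lit 34) (nat_lit 1),
  Rule.mk (nat_lit 8) (nat_lit 46) (Steps.bwd (nat_lit 4) (Steps.bwd (nat_lit 7) (Steps.fwd (nat_lit 8192) Steps.nil))) (nat_lit 34) (nat_lit 1),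
  Rule.mk (nat_lit 3) (nat_lit 70) (Steps.bwd (nat_lit 4) (Steps.fwd (nat_lit 6144) (Steps.fwd (nat_lit 8192) (Steps.fwd (nat_lit 6144) (Steps.fwd (nat_lit 8192) Steps.nil))))) (nat_lit 14) (nat_lit 1),
  Rule.mk (nat_lit 0) (nat_lit 58) (Steps.fwd (nat_lit 10240) (Steps.fwd (nat_lit 6144) (Steps.fwd (nat_lit 10240) (Steps.bwd (nat_lit 3) Steps.nil)))) (nat_lit 23) (nat_lit 1),
  Rule.mk (nat_lit 8) (nat_lit 58) (Steps.bwd (nat_lit 5) (Steps.bwd (nat_lit 7) (Steps.fwd (nat_lit 10240) (Steps.fwd (nat_lit 10240) Steps.nil)))) (nat_lit 36) (nat_lit 1),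
  Rule.mk (nat_lit 0) (nat_lit 118) (Steps.bwd (nat_lit 4) (Steps.bwd (nat_lit 6) (Steps.fwd (nat_lit 8192) (Steps.fwd (nat_lit 10240) (Steps.fwd (nat_lit 10240) (Steps.bwd (nat_lit 4) (Steps.bwd (nat_lit 5) (Steps.fwd (nat_lit 12288) (Steps.fwd (nat_lit 12288) Steps.nil))))))))) (nat_lit 24) (nat_lit 0),
  Rule.mk (nat_lit 5) (nat_lit 106) (Steps.fwd (nat_lit 8192) (Steps.bwd (nat_lit 6) (Steps.fwd (nat_lit 10240) (Steps.bwd (nat_lit 6) (Steps.fwd (nat_lit 8192) (Steps.fwd (nat_lit 12288) (Steps.fwd (nat_lit 12288) (Steps.fwd (nat_lit 8192) Steps.nil)))))))) (nat_lit 25) (nat_lit 10),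
  Rule.mk (nat_lit 5) (nat_lit 46) (Steps.bwd (nat_lit 3) (Steps.fwd (nat_lit 12288) (Steps.bwd (nat_lit 3) Steps.nil))) (nat_lit 22) (nat_lit 1),
  Rule.mk (nat_lit 7) (nat_lit 46) (Steps.bwd (nat_lit 3) (Steps.fwd (nat_lit 14336) (Steps.fwd (nat_lit 6144) Steps.nil))) (nat_lit 32) (nat_lit 3),
  Rule.mk (nat_lit 0) (nat_lit 58) (Steps.bwd (nat_lit 3) (Steps.bwd (nat_lit 8) (Steps.fwd (nat_lit 6144) (Steps.bwd (nat_lit 7) Steps.nil)))) (nat_lit 32) (nat_lit 3),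
  Rule.mk (nat_lit 5) (nat_lit 58) (Steps.bwd (nat_lit 8) (Steps.fwd (nat_lit 10240) (Steps.bwd (nat_lit 7) (Steps.fwd (nat_lit 12288) Steps.nil)))) (nat_lit 37) (nat_lit 2),
  Rule.mk (nat_lit 4) (nat_lit 70) (Steps.bwd (nat_lit 3) (Steps.bwd (nat_lit 4) (Steps.bwd (nat_lit 3) (Steps.fwd (nat_lit 8192) (Steps.fwd (nat_lit 6144) Steps.nil))))) (nat_lit 14) (nat_lit 0),
  Rule.mk (nat_lit 3) (nat_lit 106) (Steps.fwd (nat_lit 4096) (Steps.bwd (nat_lit 3) (Steps.bwd (nat_lit 2) (Steps.fwd (nat_lit 2048) (Steps.bwd (nat_lit 3) (Steps.fwd (nat_lit 4096) (Steps.fwd (nat_lit 6144) (Steps.bwd (nat_lit 2) Steps.nil)))))))) (nat_lit 10) (nat_lit 6),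
  Rule.mk (nat_lit 3) (nat_lit 106) (Steps.bwd (nat_lit 2) (Steps.bwd (nat_lit 1) (Steps.fwd (nat_lit 6144) (Steps.fwd (nat_lit 4096) (Steps.bwd (nat_lit 3) (Steps.bwd (nat_lit 2) (Steps.fwd (nat_lit 6144) (Steps.bwd (nat_lit 2) Steps.nil)))))))) (nat_lit 10) (nat_lit 8),
  Rule.mk (nat_lit 3) (nat_lit 106) (Steps.fwd (nat_lit 4096) (Steps.bwd (nat_lit 1) (Steps.bwd (nat_lit 3) (Steps.bwd (nat_lit 2) (Steps.fwd (nat_lit 6144) (Steps.bwd (nat_lit 2) (Steps.bwd (nat_lit 3) (Steps.bwd (nat_lit 2) Steps.nil)))))))) (nat_lit 10) (nat_lit 8),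
  Rule.mk (nat_lit 4) (nat_lit 70) (Steps.bwd (nat_lit 3) (Steps.bwd (nat_lit 4) (Steps.fwd (nat_lit 6144) (Steps.fwd (nat_lit 8192) (Steps.fwd (nat_lit 6144) Steps.nil))))) (nat_lit 14) (nat_lit 0),
  Rule.mk (nat_lit 0) (nat_lit 82) (Steps.bwd (nat_lit 3) (Steps.fwd (nat_lit 8192) (Steps.fwd (nat_lit 6144) (Steps.fwd (nat_lit 8192) (Steps.fwd (nat_lit 6144) (Steps.fwd (nat_lit 8192) Steps.nil)))))) (nat_lit 14) (nat_lit 0),
  Rule.mk (nat_lit 0) (nat_lit 46) (Steps.bwd (nat_lit 1) (Steps.fwd (nat_lit 0) (Steps.fwd (nat_lit 2048) Steps.nil))) (nat_lit 230) (nat_lit 0),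
  Rule.mk (nat_lit 0) (nat_lit 46) (Steps.bwd (nat_lit 4) (Steps.fwd (nat_lit 0) (Steps.bwd (nat_lit 4) Steps.nil))) (nat_lit 230) (nat_lit 0),
  Rule.mk (nat_lit 4) (nat_lit 46) (Steps.bwd (nat_lit 1) (Steps.bwd (nat_lit 4) (Steps.fwd (nat_lit 2048) Steps.nil))) (nat_lit 8) (nat_lit 0),
  Rule.mk (nat_lit 3) (nat_lit 106) (Steps.fwd (nat_lit 4096) (Steps.bwd (nat_lit 1) (Steps.fwd (nat_lit 6144) (Steps.fwd (nat_lit 4096) (Steps.bwd (nat_lit 3) (Steps.bwd (nat_lit 2) (Steps.bwd (nat_lit 3) (Steps.bwd (nat_lit 2) Steps.nil)))))))) (nat_lit 10) (nat_lit 8),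
  Rule.mk (nat_lit 4) (nat_lit 70) (Steps.fwd (nat_lit 6144) (Steps.fwd (nat_lit 8192) (Steps.bwd (nat_lit 3) (Steps.fwd (nat_lit 8192) (Steps.fwd (nat_lit 6144) Steps.nil))))) (nat_lit 14) (nat_lit 0),
  Rule.mk (nat_lit 4) (nat_lit 46) (Steps.fwd (nat_lit 2048) (Steps.bwd (nat_lit 4) (Steps.fwd (nat_lit 2048) Steps.nil))) (nat_lit 8) (nat_lit 0),
  Rule.mk (nat_lit 0) (nat_lit 58) (Steps.fwd (nat_lit 16384) (Steps.fwd (nat_lit 6144) (Steps.bwd (nat_lit 8) (Steps.bwd (nat_lit 3) Steps.nil)))) (nat_lit 32) (nat_lit 2),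
  Rule.mk (nat_lit 8) (nat_lit 58) (Steps.bwd (nat_lit 6) (Steps.bwd (nat_lit 7) (Steps.fwd (nat_lit 12288) (Steps.fwd (nat_lit 12288) Steps.nil)))) (nat_lit 37) (nat_lit 3),
  Rule.mk (nat_lit 3) (nat_lit 106) (Steps.bwd (nat_lit 2) (Steps.bwd (nat_lit 3) (Steps.fwd (nat_lit 4096) (Steps.fwd (nat_lit 2048) (Steps.bwd (nat_lit 3) (Steps.fwd (nat_lit 4096) (Steps.fwd (nat_lit 6144) (Steps.fwd (nat_lit 4096) Steps.nil)))))))) (nat_lit 10) (nat_lit 6),
  Rule.mk (nat_lit 5) (nat_lit 46) (Steps.fwd (nat_lit 6144) (Steps.fwd (nat_lit 12288) (Steps.bwd (nat_lit 3) Steps.nil))) (nat_lit 22) (nat_lit 1),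
  Rule.mk (nat_lit 8) (nat_lit 46) (Steps.bwd (nat_lit 3) (Steps.fwd (nat_lit 16384) (Steps.bwd (nat_lit 3) Steps.nil))) (nat_lit 32) (nat_lit 1),
  Rule.mk (nat_lit 1) (nat_lit 106) (Steps.bwd (nat_lit 3) (Steps.bwd (nat_lit 2) (Steps.bwd (nat_lit 3) (Steps.fwd (nat_lit 4096) (Steps.fwd (nat_lit 6144) (Steps.fwd (nat_lit 4096) (Steps.bwd (nat_lit 3) (Steps.bwd (nat_lit 2) Steps.nil)))))))) (nat_lit 10) (nat_lit 1),
  Rule.mk (nat_lit 4) (nat_lit 46) (Steps.bwd (nat_lit 1) (Steps.bwd (nat_lit 4) (Steps.bwd (nat_lit 1) Steps.nil))) (nat_lit 8) (nat_lit 0),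
  Rule.mk (nat_lit 5) (nat_lit 46) (Steps.bwd (nat_lit 1) (Steps.bwd (nat_lit 6) (Steps.fwd (nat_lit 2048) Steps.nil))) (nat_lit 18) (nat_lit 3),
  Rule.mk (nat_lit 6) (nat_lit 46) (Steps.bwd (nat_lit 1) (Steps.fwd (nat_lit 12288) (Steps.fwd (nat_lit 2048) Steps.nil))) (nat_lit 18) (nat_lit 1),
  Rule.mk (nat_lit 8) (nat_lit 46) (Steps.bwd (nat_lit 1) (Steps.fwd (nat_lit 16384) (Steps.fwd (nat_lit 2048) Steps.nil))) (nat_lit 28) (nat_lit 1),
  Rule.mk (nat_lit 6) (nat_lit 634) (Steps.bwd (nat_lit 4) (Steps.bwd (nat_lit 3) (Steps.bwd (nat_lit 2) (Steps.bwd (nat_lit 3) (Steps.bwd (nat_lit 4) (Steps.bwd (nat_lit 5) (Steps.bwd (nat_lit 4) (Steps.bwd (nat_lit 2) (Steps.bwd (nat_lit 3) (Steps.bwd (nat_lit 4) (Steps.bwd (nat_lit 3) (Steps.bwd (nat_lit 2) (Steps.bwd (nat_lit 3) (Steps.bwd (nat_lit 6) (Steps.bwd (nat_lit 4) (Steps.bwd (nat_lit 3) (Steps.bwd (nat_lit 2) (Steps.bwd (nat_lit 3) (Steps.bwd (nat_lit 4) (Steps.bwd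 (nat_lit 5) (Steps.bwd (nat_lit 4) (Steps.bwd (nat_lit 5) (Steps.bwd (nat_lit 4) (Steps.bwd (nat_lit 3) (Steps.bwd (nat_lit 2) (Steps.bwd (nat_lit 3) (Steps.bwd (nat_lit 4) (Steps.bwd (nat_lit 5) (Steps.fwd (nat_lit 8192) (Steps.fwd (nat_lit 6144) (Steps.fwd (nat_lit 4096) (Steps.bwd (nat_lit 3) (Steps.bwd (nat_lit 4) (Steps.bwd (nat_lit 6) (Steps.bwd (nat_lit 6) (Steps.bwd (nat_lit 6) (Steps.fwd (nat_lit 8192) (Steps.fwd (nat_lit 6144) (Steps.fwd (nat_lit 4096) (Steps.bwd (nat_lit 3) (Steps.fwd (nat_lit 8192) (Steps.fwd (nat_lit 10240) (Steps.fwd (nat_lit 8192) (Steps.fwd (nat_lit 6144) (Steps.fwd (nat_lit 4096) (Steps.fwd (nat_lit 6144) (Steps.fwd (nat_lit 8192) (Steps.fwd (nat_lit 12288) (Steps.fwd (nat_lit 12288) (Steps.bwd (nat_lit 2) (Steps.fwd (nat_lit 6144) (Steps.fwd (nat_lit 8192) Steps.nil)))))))))))))))))))))))))))))))))))))))))))))))))))) (nat_lit 44) (nat_lit 4),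
  Rule.mk (nat_lit 6) (nat_lit 58) (Steps.bwd (nat_lit 8) (Steps.bwd (nat_lit 5) (Steps.bwd (nat_lit 7) (Steps.bwd (nat_lit 6) Steps.nil)))) (nat_lit 36) (nat_lit 0),
  Rule.mk (nat_lit 0) (nat_lit 118) (Steps.fwd (nat_lit 8192) (Steps.fwd (nat_lit 12288) (Steps.bwd (nat_lit 4) (Steps.fwd (nat_lit 10240) (Steps.bwd (nat_lit 6) (Steps.fwd (nat_lit 10240) (Steps.fwd (nat_lit 8192) (Steps.fwd (nat_lit 12288) (Steps.fwd (nat_lit 12288) Steps.nil))))))))) (nat_lit 25) (nat_lit 6),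
  Rule.mk (nat_lit 4) (nat_lit 70) (Steps.bwd (nat_lit 3) (Steps.fwd (nat_lit 8192) (Steps.fwd (nat_lit 6144) (Steps.bwd (nat_lit 4) (Steps.fwd (nat_lit 6144) Steps.nil))))) (nat_lit 14) (nat_lit 0),
  Rule.mk (nat_lit 6) (nat_lit 58) (Steps.bwd (nat_lit 6) (Steps.fwd (nat_lit 14336) (Steps.bwd (nat_lit 5) (Steps.bwd (nat_lit 7) Steps.nil)))) (nat_lit 36) (nat_lit 4),
  Rule.mk (nat_lit 0) (nat_lit 118) (Steps.bwd (nat_lit 4) (Steps.bwd (nat_lit 5) (Steps.bwd (nat_lit 5) (Steps.bwd (nat_lit 4) (Steps.fwd (nat_lit 12288) (Steps.bwd (nat_lit 4) (Steps.fwd (nat_lit 10240) (Steps.bwd (nat_lit 6) (Steps.bwd (nat_lit 6) Steps.nil))))))))) (nat_lit 25) (nat_lit 3),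
  Rule.mk (nat_lit 5) (nat_lit 46) (Steps.bwd (nat_lit 3) (Steps.fwd (nat_lit 12288) (Steps.fwd (nat_lit 6144) Steps.nil))) (nat_lit 22) (nat_lit 1),
  Rule.mk (nat_lit 8) (nat_lit 58) (Steps.bwd (nat_lit 5) (Steps.bwd (nat_lit 7) (Steps.fwd (nat_lit 10240) (Steps.bwd (nat_lit 6) Steps.nil)))) (nat_lit 36) (nat_lit 1),
  Rule.mk (nat_lit 0) (nat_lit 58) (Steps.bwd (nat_lit 3) (Steps.bwd (nat_lit 5) (Steps.bwd (nat_lit 3) (Steps.fwd (nat_lit 12288) Steps.nil)))) (nat_lit 22) (nat_lit 1),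
  Rule.mk (nat_lit 5) (nat_lit 58) (Steps.bwd (nat_lit 5) (Steps.fwd (nat_lit 14336) (Steps.bwd (nat_lit 6) (Steps.fwd (nat_lit 16384) Steps.nil)))) (nat_lit 37) (nat_lit 1),
  Rule.mk (nat_lit 0) (nat_lit 58) (Steps.fwd (nat_lit 6144) (Steps.bwd (nat_lit 5) (Steps.bwd (nat_lit 3) (Steps.fwd (nat_lit 12288) Steps.nil)))) (nat_lit 22) (nat_lit 1),
  Rule.mk (nat_lit 8) (nat_lit 46) (Steps.bwd (nat_lit 4) (Steps.fwd (nat_lit 16384) (Steps.bwd (nat_lit 4) Steps.nil))) (nat_lit 34) (nat_lit 1),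
  Rule.mk (nat_lit 1) (nat_lit 46) (Steps.bwd (nat_lit 6) (Steps.bwd (nat_lit 1) (Steps.bwd (nat_lit 5) Steps.nil))) (nat_lit 18) (nat_lit 0),
  Rule.mk (nat_lit 5) (nat_lit 106) (Steps.bwd (nat_lit 5) (Steps.bwd (nat_lit 4) (Steps.bwd (nat_lit 6) (Steps.bwd (nat_lit 4) (Steps.fwd (nat_lit 10240) (Steps.bwd (nat_lit 6) (Steps.fwd (nat_lit 8192) (Steps.fwd (nat_lit 12288) Steps.nil)))))))) (nat_lit 24) (nat_lit 10),
  Rule.mk (nat_lit 6) (nat_lit 634) (Steps.bwd (nat_lit 4) (Steps.bwd (nat_lit 3) (Steps.bwd (nat_lit 2) (Steps.bwd (nat_lit 3) (Steps.bwd (nat_lit 4) (Steps.bwd (nat_lit 5) (Steps.bwd (nat_lit 4) (Steps.bwd (nat_lit 2) (Steps.bwd (nat_lit 3) (Steps.bwd (nat_lit 4) (Steps.bwd (nat_lit 3) (Steps.bwd (nat_lit 2) (Steps.bwd (nat_lit 3) (Steps.bwd (nat_lit 6) (Steps.bwd (nat_lit 4) (Steps.bwd (nat_lit 3) (Steps.bwd (nat_lit 2) (Steps.bwd (nat_lit 3) (Steps.bwd (nat_lit 4) (Steps.bwd (nat_lit 5) (Steps.bwd (nat_lit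 4) (Steps.bwd (nat_lit 5) (Steps.bwd (nat_lit 4) (Steps.bwd (nat_lit 3) (Steps.bwd (nat_lit 2) (Steps.bwd (nat_lit 3) (Steps.bwd (nat_lit 4) (Steps.bwd (nat_lit 5) (Steps.bwd (nat_lit 4) (Steps.bwd (nat_lit 3) (Steps.bwd (nat_lit 2) (Steps.bwd (nat_lit 3) (Steps.bwd (nat_lit 4) (Steps.bwd (nat_lit 6) (Steps.bwd (nat_lit 6) (Steps.bwd (nat_lit 6) (Steps.bwd (nat_lit 4) (Steps.bwd (nat_lit 3) (Steps.bwd (nat_lit 2) (Steps.bwd (nat_lit 3) (Steps.bwd (nat_lit 4) (Steps.bwd (nat_lit 6) (Steps.bwd (nat_lit 4) (Steps.bwd (nat_lit 3) (Steps.bwd (nat_lit 2) (Steps.bwd (nat_lit 3) (Steps.bwd (nat_lit 4) (Steps.fwd (nat_lit 12288) (Steps.fwd (nat_lit 12288) (Steps.bwd (nat_lit 2) (Steps.bwd (nat_lit 3) (Steps.bwd (nat_lit 4) Steps.nil)))))))))))))))))))))))))))))))))))))))))))))))))))) (nat_lit 44) (nat_lit 4),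
  Rule.mk (nat_lit 7) (nat_lit 58) (Steps.bwd (nat_lit 5) (Steps.bwd (nat_lit 5) (Steps.bwd (nat_lit 8) (Steps.bwd (nat_lit 6) Steps.nil)))) (nat_lit 37) (nat_lit 0),
  Rule.mk (nat_lit 5) (nat_lit 106) (Steps.bwd (nat_lit 5) (Steps.bwd (nat_lit 5) (Steps.bwd (nat_lit 4) (Steps.bwd (nat_lit 6) (Steps.fwd (nat_lit 8192) (Steps.bwd (nat_lit 6) (Steps.bwd (nat_lit 6) (Steps.bwd (nat_lit 4) Steps.nil)))))))) (nat_lit 24) (nat_lit 9),
  Rule.mk (nat_lit 8) (nat_lit 58) (Steps.bwd (nat_lit 5) (Steps.fwd (nat_lit 16384) (Steps.fwd (nat_lit 10240) (Steps.bwd (nat_lit 6) Steps.nil)))) (nat_lit 36) (nat_lit 1),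
  Rule.mk (nat_lit 5) (nat_lit 58) (Steps.bwd (nat_lit 5) (Steps.bwd (nat_lit 8) (Steps.bwd (nat_lit 6) (Steps.bwd (nat_lit 7) Steps.nil)))) (nat_lit 37) (nat_lit 1),
  Rule.mk (nat_lit 6) (nat_lit 46) (Steps.bwd (nat_lit 2) (Steps.bwd (nat_lit 5) (Steps.fwd (nat_lit 4096) Steps.nil))) (nat_lit 20) (nat_lit 1),
  Rule.mk (nat_lit 7) (nat_lit 58) (Steps.bwd (nat_lit 6) (Steps.fwd (nat_lit 10240) (Steps.bwd (nat_lit 8) (Steps.bwd (nat_lit 5) Steps.nil)))) (nat_lit 36) (nat_lit 3),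
  Rule.mk (nat_lit 5) (nat_lit 58) (Steps.bwd (nat_lit 7) (Steps.bwd (nat_lit 6) (Steps.bwd (nat_lit 6) (Steps.bwd (nat_lit 8) Steps.nil)))) (nat_lit 36) (nat_lit 2),
  Rule.mk (nat_lit 0) (nat_lit 58) (Steps.fwd (nat_lit 4096) (Steps.fwd (nat_lit 10240) (Steps.fwd (nat_lit 4096) (Steps.bwd (nat_lit 5) Steps.nil)))) (nat_lit 20) (nat_lit 3),
  Rule.mk (nat_lit 0) (nat_lit 118) (Steps.bwd (nat_lit 6) (Steps.bwd (nat_lit 6) (Steps.bwd (nat_lit 6) (Steps.bwd (nat_lit 4) (Steps.fwd (nat_lit 12288) (Steps.bwd (nat_lit 5) (Steps.fwd (nat_lit 8192) (Steps.fwd (nat_lit 12288) (Steps.bwd (nat_lit 4) Steps.nil))))))))) (nat_lit 25) (nat_lit 0),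
  Rule.mk (nat_lit 0) (nat_lit 46) (Steps.bwd (nat_lit 3) (Steps.fwd (nat_lit 0) (Steps.bwd (nat_lit 3) Steps.nil))) (nat_lit 230) (nat_lit 0),
  Rule.mk (nat_lit 5) (nat_lit 106) (Steps.bwd (nat_lit 4) (Steps.bwd (nat_lit 5) (Steps.bwd (nat_lit 4) (Steps.fwd (nat_lit 10240) (Steps.bwd (nat_lit 6) (Steps.fwd (nat_lit 10240) (Steps.fwd (nat_lit 8192) (Steps.bwd (nat_lit 5) Steps.nil)))))))) (nat_lit 25) (nat_lit 6),
  Rule.mk (nat_lit 6) (nat_lit 634) (Steps.bwd (nat_lit 4) (Steps.bwd (nat_lit 3) (Steps.bwd (nat_lit 2) (Steps.bwd (nat_lit 3) (Steps.bwd (nat_lit 4) (Steps.bwd (nat_lit 5) (Steps.bwd (nat_lit 4) (Steps.bwd (nat_lit 5) (Steps.bwd (nat_lit 4) (Steps.bwd (nat_lit 3) (Steps.bwd (nat_lit 2) (Steps.bwd (nat_lit 3) (Steps.bwd (nat_lit 4) (Steps.bwd (nat_lit 5) (Steps.bwd (nat_lit 4) (Steps.bwd (nat_lit 3) (Steps.bwd (nat_lit 2) (Steps.bwd (nat_lit 3) (Steps.bwd (nat_lit 4) (Steps.bwd (nat_lit 6) (Steps.bwd (nat_lit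 6) (Steps.bwd (nat_lit 6) (Steps.bwd (nat_lit 4) (Steps.bwd (nat_lit 3) (Steps.bwd (nat_lit 2) (Steps.bwd (nat_lit 3) (Steps.bwd (nat_lit 4) (Steps.bwd (nat_lit 6) (Steps.bwd (nat_lit 4) (Steps.bwd (nat_lit 3) (Steps.fwd (nat_lit 4096) (Steps.bwd (nat_lit 3) (Steps.bwd (nat_lit 4) (Steps.fwd (nat_lit 12288) (Steps.fwd (nat_lit 12288) (Steps.fwd (nat_lit 4096) (Steps.fwd (nat_lit 6144) (Steps.fwd (nat_lit 8192) (Steps.fwd (nat_lit 10240) (Steps.fwd (nat_lit 8192) (Steps.fwd (nat_lit 6144) (Steps.fwd (nat_lit 4096) (Steps.fwd (nat_lit 6144) (Steps.fwd (nat_lit 8192) (Steps.fwd (nat_lit 12288) (Steps.bwd (nat_lit 4) (Steps.bwd (nat_lit 2) (Steps.bwd (nat_lit 3) (Steps.bwd (nat_lit 4) (Steps.fwd (nat_lit 6144) (Steps.fwd (nat_lit 4096) (Steps.fwd (nat_lit 6144) Steps.nil)))))))))))))))))))))))))))))))))))))))))))))))))))) (nat_lit 44) (nat_lit 18),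
  Rule.mk (nat_lit 3) (nat_lit 46) (Steps.bwd (nat_lit 6) (Steps.fwd (nat_lit 6144) (Steps.bwd (nat_lit 6) Steps.nil))) (nat_lit 23) (nat_lit 1),
  Rule.mk (nat_lit 6) (nat_lit 82) (Steps.bwd (nat_lit 6) (Steps.bwd (nat_lit 6) (Steps.bwd (nat_lit 6) (Steps.bwd (nat_lit 6) (Steps.bwd (nat_lit 6) (Steps.bwd (nat_lit 6) Steps.nil)))))) (nat_lit 17) (nat_lit 0),
  Rule.mk (nat_lit 0) (nat_lit 58) (Steps.fwd (nat_lit 8192) (Steps.fwd (nat_lit 16384) (Steps.fwd (nat_lit 8192) (Steps.fwd (nat_lit 14336) Steps.nil)))) (nat_lit 34) (nat_lit 1),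
  Rule.mk (nat_lit 5) (nat_lit 106) (Steps.bwd (nat_lit 4) (Steps.bwd (nat_lit 6) (Steps.bwd (nat_lit 4) (Steps.fwd (nat_lit 10240) (Steps.bwd (nat_lit 6) (Steps.bwd (nat_lit 4) (Steps.fwd (nat_lit 12288) (Steps.bwd (nat_lit 5) Steps.nil)))))))) (nat_lit 24) (nat_lit 0)]
noncomputable def R_5 : List (Rule) := [Rule.mk (nat_lit 5) (nat_lit 46) (Steps.bwd (nat_lit 3) (Steps.bwd (nat_lit 5) (Steps.fwd (nat_lit 6144) Steps.nil))) (nat_lit 22) (nat_lit 1),
  Rule.mk (nat_lit 8) (nat_lit 58) (Steps.bwd (nat_lit 6) (Steps.bwd (nat_lit 7) (Steps.bwd (nat_lit 5) (Steps.bwd (nat_lit 5) Steps.nil)))) (nat_lit 37) (nat_lit 3),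
  Rule.mk (nat_lit 0) (nat_lit 58) (Steps.bwd (nat_lit 2) (Steps.fwd (nat_lit 14336) (Steps.bwd (nat_lit 2) (Steps.fwd (nat_lit 16384) Steps.nil)))) (nat_lit 30) (nat_lit 3),
  Rule.mk (nat_lit 4) (nat_lit 46) (Steps.bwd (nat_lit 8) (Steps.bwd (nat_lit 4) (Steps.bwd (nat_lit 7) Steps.nil))) (nat_lit 34) (nat_lit 0),
  Rule.mk (nat_lit 8) (nat_lit 46) (Steps.bwd (nat_lit 3) (Steps.fwd (nat_lit 16384) (Steps.fwd (nat_lit 6144) Steps.nil))) (nat_lit 32) (nat_lit 1),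
  Rule.mk (nat_lit 3) (nat_lit 70) (Steps.bwd (nat_lit 4) (Steps.bwd (nat_lit 3) (Steps.bwd (nat_lit 4) (Steps.bwd (nat_lit 3) (Steps.fwd (nat_lit 8192) Steps.nil))))) (nat_lit 14) (nat_lit 1),
  Rule.mk (nat_lit 4) (nat_lit 634) (Steps.bwd (nat_lit 5) (Steps.bwd (nat_lit 4) (Steps.bwd (nat_lit 5) (Steps.bwd (nat_lit 4) (Steps.bwd (nat_lit 3) (Steps.bwd (nat_lit 2) (Steps.bwd (nat_lit 3) (Steps.bwd (nat_lit 4) (Steps.bwd (nat_lit 5) (Steps.bwd (nat_lit 4) (Steps.bwd (nat_lit 3) (Steps.bwd (nat_lit 2) (Steps.bwd (nat_lit 3) (Steps.bwd (nat_lit 4) (Steps.bwd (nat_lit 6) (Steps.bwd (nat_lit 6) (Steps.bwd (nat_lit 6) (Steps.bwd (nat_lit 4) (Steps.bwd (nat_lit 3) (Steps.bwd (nat_lit 2) (Steps.bwd (nat_lit 3) (Steps.bwd (nat_lit 4) (Steps.bwd (nat_lit 6) (Steps.fwd (nat_lit 8192) (Steps.bwd (nat_lit 3) (Steps.fwd (nat_lit 4096) (Steps.bwd (nat_lit 3) (Steps.bwd (nat_lit 4) (Steps.fwd (nat_lit 12288) (Steps.bwd (nat_lit 5)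 (Steps.bwd (nat_lit 2) (Steps.bwd (nat_lit 3) (Steps.bwd (nat_lit 4) (Steps.bwd (nat_lit 6) (Steps.bwd (nat_lit 4) (Steps.bwd (nat_lit 3) (Steps.bwd (nat_lit 2) (Steps.fwd (nat_lit 6144) (Steps.fwd (nat_lit 8192) (Steps.bwd (nat_lit 5) (Steps.fwd (nat_lit 8192) (Steps.fwd (nat_lit 4096) (Steps.fwd (nat_lit 6144) (Steps.fwd (nat_lit 8192) (Steps.fwd (nat_lit 6144) (Steps.fwd (nat_lit 4096) (Steps.fwd (nat_lit 6144) (Steps.bwd (nat_lit 6) (Steps.fwd (nat_lit 8192) (Steps.fwd (nat_lit 6144) (Steps.fwd (nat_lit 4096) (Steps.bwd (nat_lit 3) Steps.nil)))))))))))))))))))))))))))))))))))))))))))))))))))) (nat_lit 44) (nat_lit 23),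
  Rule.mk (nat_lit 0) (nat_lit 58) (Steps.fwd (nat_lit 10240) (Steps.bwd (nat_lit 3) (Steps.fwd (nat_lit 10240) (Steps.bwd (nat_lit 3) Steps.nil)))) (nat_lit 23) (nat_lit 1),
  Rule.mk (nat_lit 8) (nat_lit 58) (Steps.bwd (nat_lit 6) (Steps.fwd (nat_lit 16384) (Steps.bwd (nat_lit 5) (Steps.fwd (nat_lit 12288) Steps.nil)))) (nat_lit 37) (nat_lit 3),
  Rule.mk (nat_lit 5) (nat_lit 106) (Steps.fwd (nat_lit 8192) (Steps.bwd (nat_lit 6) (Steps.fwd (nat_lit 10240) (Steps.bwd (nat_lit 6) (Steps.fwd (nat_lit 8192) (Steps.fwd (nat_lit 12288) (Steps.bwd (nat_lit 5) (Steps.fwd (nat_lit 8192) Steps.nil)))))))) (nat_lit 25) (nat_lit 10),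
  Rule.mk (nat_lit 7) (nat_lit 58) (Steps.bwd (nat_lit 5) (Steps.fwd (nat_lit 12288) (Steps.bwd (nat_lit 8) (Steps.fwd (nat_lit 10240) Steps.nil)))) (nat_lit 37) (nat_lit 0),
  Rule.mk (nat_lit 0) (nat_lit 58) (Steps.fwd (nat_lit 10240) (Steps.fwd (nat_lit 4096) (Steps.bwd (nat_lit 5) (Steps.bwd (nat_lit 2) Steps.nil)))) (nat_lit 20) (nat_lit 0),
  Rule.mk (nat_lit 8) (nat_lit 58) (Steps.bwd (nat_lit 6) (Steps.bwd (nat_lit 7) (Steps.bwd (nat_lit 5) (Steps.fwd (nat_lit 12288) Steps.nil)))) (nat_lit 37) (nat_lit 3),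
  Rule.mk (nat_lit 2) (nat_lit 46) (Steps.bwd (nat_lit 6) (Steps.fwd (nat_lit 4096) (Steps.bwd (nat_lit 5) Steps.nil))) (nat_lit 20) (nat_lit 0),
  Rule.mk (nat_lit 1) (nat_lit 46) (Steps.bwd (nat_lit 7) (Steps.fwd (nat_lit 2048) (Steps.bwd (nat_lit 8) Steps.nil))) (nat_lit 28) (nat_lit 2),
  Rule.mk (nat_lit 2) (nat_lit 46) (Steps.bwd (nat_lit 7) (Steps.bwd (nat_lit 2) (Steps.fwd (nat_lit 14336) Steps.nil))) (nat_lit 30) (nat_lit 2),
  Rule.mk (nat_lit 0) (nat_lit 58) (Steps.bwd (nat_lit 3) (Steps.bwd (nat_lit 7) (Steps.fwd (nat_lit 6144) (Steps.fwd (nat_lit 14336) Steps.nil)))) (nat_lit 32) (nat_lit 1),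
  Rule.mk (nat_lit 0) (nat_lit 46) (Steps.bwd (nat_lit 2) (Steps.fwd (nat_lit 0) (Steps.fwd (nat_lit 4096) Steps.nil))) (nat_lit 230) (nat_lit 0),
  Rule.mk (nat_lit 5) (nat_lit 58) (Steps.bwd (nat_lit 7) (Steps.fwd (nat_lit 10240) (Steps.bwd (nat_lit 6) (Steps.bwd (nat_lit 8) Steps.nil)))) (nat_lit 36) (nat_lit 2),
  Rule.mk (nat_lit 2) (nat_lit 106) (Steps.bwd (nat_lit 3) (Steps.bwd (nat_lit 2) (Steps.fwd (nat_lit 2048) (Steps.bwd (nat_lit 3) (Steps.fwd (nat_lit 4096) (Steps.fwd (nat_lit 6144) (Steps.bwd (nat_lit 2) (Steps.fwd (nat_lit 6144) Steps.nil)))))))) (nat_lit 10) (nat_lit 7),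
  Rule.mk (nat_lit 6) (nat_lit 46) (Steps.fwd (nat_lit 6144) (Steps.fwd (nat_lit 10240) (Steps.bwd (nat_lit 3) Steps.nil))) (nat_lit 23) (nat_lit 0),
  Rule.mk (nat_lit 0) (nat_lit 46) (Steps.fwd (nat_lit 12288) (Steps.fwd (nat_lit 0) (Steps.fwd (nat_lit 10240) Steps.nil))) (nat_lit 230) (nat_lit 0),
  Rule.mk (nat_lit 0) (nat_lit 46) (Steps.fwd (nat_lit 10240) (Steps.fwd (nat_lit 0) (Steps.fwd (nat_lit 12288) Steps.nil))) (nat_lit 230) (nat_lit 0),
  Rule.mk (nat_lit 6) (nat_lit 46) (Steps.fwd (nat_lit 2048) (Steps.bwd (nat_lit 5) (Steps.bwd (nat_lit 1) Steps.nil))) (nat_lit 18) (nat_lit 1),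
  Rule.mk (nat_lit 6) (nat_lit 46) (Steps.bwd (nat_lit 1) (Steps.bwd (nat_lit 5) (Steps.fwd (nat_lit 2048) Steps.nil))) (nat_lit 18) (nat_lit 1),
  Rule.mk (nat_lit 0) (nat_lit 118) (Steps.bwd (nat_lit 6) (Steps.bwd (nat_lit 6) (Steps.bwd (nat_lit 4) (Steps.fwd (nat_lit 12288) (Steps.bwd (nat_lit 5) (Steps.bwd (nat_lit 5) (Steps.bwd (nat_lit 4) (Steps.bwd (nat_lit 6) (Steps.fwd (nat_lit 8192) Steps.nil))))))))) (nat_lit 24) (nat_lit 3),
  Rule.mk (nat_lit 6) (nat_lit 46) (Steps.fwd (nat_lit 2048) (Steps.bwd (nat_lit 5) (Steps.fwd (nat_lit 2048) Steps.nil))) (nat_lit 18) (nat_lit 1),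
  Rule.mk (nat_lit 7) (nat_lit 46) (Steps.fwd (nat_lit 6144) (Steps.bwd (nat_lit 8) (Steps.fwd (nat_lit 6144) Steps.nil))) (nat_lit 32) (nat_lit 3),
  Rule.mk (nat_lit 8) (nat_lit 58) (Steps.bwd (nat_lit 6) (Steps.fwd (nat_lit 16384) (Steps.fwd (nat_lit 12288) (Steps.fwd (nat_lit 12288) Steps.nil)))) (nat_lit 37) (nat_lit 3),
  Rule.mk (nat_lit 6) (nat_lit 82) (Steps.bwd (nat_lit 6) (Steps.bwd (nat_lit 6) (Steps.bwd (nat_lit 6) (Steps.bwd (nat_lit 6) (Steps.fwd (nat_lit 10240) (Steps.bwd (nat_lit 6) Steps.nil)))))) (nat_lit 17) (nat_lit 0),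
  Rule.mk (nat_lit 5) (nat_lit 106) (Steps.bwd (nat_lit 5) (Steps.fwd (nat_lit 12288) (Steps.bwd (nat_lit 4) (Steps.fwd (nat_lit 10240) (Steps.fwd (nat_lit 8192) (Steps.bwd (nat_lit 6) (Steps.bwd (nat_lit 6) (Steps.fwd (nat_lit 8192) Steps.nil)))))))) (nat_lit 24) (nat_lit 9),
  Rule.mk (nat_lit 5) (nat_lit 106) (Steps.bwd (nat_lit 5) (Steps.fwd (nat_lit 12288) (Steps.bwd (nat_lit 4) (Steps.fwd (nat_lit 10240) (Steps.bwd (nat_lit 4) (Steps.fwd (nat_lit 10240) (Steps.bwd (nat_lit 6) (Steps.fwd (nat_lit 8192) Steps.nil)))))))) (nat_lit 24) (nat_lit 9),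
  Rule.mk (nat_lit 2) (nat_lit 46) (Steps.bwd (nat_lit 5) (Steps.fwd (nat_lit 4096) (Steps.bwd (nat_lit 6) Steps.nil))) (nat_lit 20) (nat_lit 2),
  Rule.mk (nat_lit 1) (nat_lit 46) (Steps.fwd (nat_lit 8192) (Steps.bwd (nat_lit 1) (Steps.fwd (nat_lit 8192) Steps.nil))) (nat_lit 8) (nat_lit 1),
  Rule.mk (nat_lit 5) (nat_lit 46) (Steps.fwd (nat_lit 2048) (Steps.fwd (nat_lit 10240) (Steps.bwd (nat_lit 1) Steps.nil))) (nat_lit 18) (nat_lit 3),
  Rule.mk (nat_lit 6) (nat_lit 106) (Steps.bwd (nat_lit 4) (Steps.bwd (nat_lit 5) (Steps.bwd (nat_lit 5) (Steps.bwd (nat_lit 5) (Steps.bwd (nat_lit 4) (Steps.bwd (nat_lit 6) (Steps.bwd (nat_lit 4) (Steps.fwd (nat_lit 10240) Steps.nil)))))))) (nat_lit 24) (nat_lit 7),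
  Rule.mk (nat_lit 2) (nat_lit 46) (Steps.bwd (nat_lit 5) (Steps.bwd (nat_lit 2) (Steps.bwd (nat_lit 6) Steps.nil))) (nat_lit 20) (nat_lit 2),
  Rule.mk (nat_lit 0) (nat_lit 58) (Steps.fwd (nat_lit 4096) (Steps.fwd (nat_lit 10240) (Steps.bwd (nat_lit 2) (Steps.bwd (nat_lit 5) Steps.nil)))) (nat_lit 20) (nat_lit 3),
  Rule.mk (nat_lit 1) (nat_lit 46) (Steps.fwd (nat_lit 16384) (Steps.fwd (nat_lit 2048) (Steps.bwd (nat_lit 8) Steps.nil))) (nat_lit 28) (nat_lit 2),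
  Rule.mk (nat_lit 8) (nat_lit 58) (Steps.fwd (nat_lit 10240) (Steps.fwd (nat_lit 16384) (Steps.bwd (nat_lit 5) (Steps.bwd (nat_lit 5) Steps.nil)))) (nat_lit 37) (nat_lit 3),
  Rule.mk (nat_lit 0) (nat_lit 58) (Steps.fwd (nat_lit 14336) (Steps.fwd (nat_lit 8192) (Steps.bwd (nat_lit 7) (Steps.bwd (nat_lit 4) Steps.nil)))) (nat_lit 34) (nat_lit 0),
  Rule.mk (nat_lit 0) (nat_lit 46) (Steps.fwd (nat_lit 10240) (Steps.bwd (nat_lit 0) (Steps.bwd (nat_lit 5) Steps.nil))) (nat_lit 230) (nat_lit 0),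
  Rule.mk (nat_lit 0) (nat_lit 46) (Steps.bwd (nat_lit 5) (Steps.bwd (nat_lit 0) (Steps.bwd (nat_lit 6) Steps.nil))) (nat_lit 230) (nat_lit 0),
  Rule.mk (nat_lit 0) (nat_lit 58) (Steps.bwd (nat_lit 6) (Steps.bwd (nat_lit 3) (Steps.fwd (nat_lit 10240) (Steps.bwd (nat_lit 3) Steps.nil)))) (nat_lit 23) (nat_lit 1),
  Rule.mk (nat_lit 6) (nat_lit 634) (Steps.bwd (nat_lit 6) (Steps.bwd (nat_lit 4) (Steps.bwd (nat_lit 3) (Steps.bwd (nat_lit 2) (Steps.bwd (nat_lit 3) (Steps.bwd (nat_lit 4) (Steps.bwd (nat_lit 6) (Steps.bwd (nat_lit 4) (Steps.bwd (nat_lit 3) (Steps.bwd (nat_lit 2) (Steps.bwd (nat_lit 3) (Steps.bwd (nat_lit 4) (Steps.bwd (nat_lit 5) (Steps.bwd (nat_lit 5) (Steps.fwd (nat_lit 4096) (Steps.bwd (nat_lit 3) (Steps.bwd (nat_lit 4) (Steps.fwd (nat_lit 10240) (Steps.bwd (nat_lit 4) (Steps.bwd (nat_lit 3) (Steps.bwd (nat_lit 2) (Steps.fwd (nat_lit 6144) (Steps.bwd (nat_lit 4) (Steps.bwd (nat_lit 5) (Steps.bwd (nat_lit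 4) (Steps.fwd (nat_lit 4096) (Steps.bwd (nat_lit 3) (Steps.fwd (nat_lit 8192) (Steps.fwd (nat_lit 6144) (Steps.fwd (nat_lit 4096) (Steps.fwd (nat_lit 6144) (Steps.fwd (nat_lit 10240) (Steps.bwd (nat_lit 4) (Steps.fwd (nat_lit 6144) (Steps.fwd (nat_lit 4096) (Steps.fwd (nat_lit 6144) (Steps.fwd (nat_lit 8192) (Steps.fwd (nat_lit 12288) (Steps.fwd (nat_lit 8192) (Steps.bwd (nat_lit 5) (Steps.bwd (nat_lit 4) (Steps.bwd (nat_lit 3) (Steps.bwd (nat_lit 2) (Steps.fwd (nat_lit 6144) (Steps.fwd (nat_lit 8192) (Steps.fwd (nat_lit 12288) (Steps.bwd (nat_lit 4) (Steps.bwd (nat_lit 3) (Steps.fwd (nat_lit 4096) (Steps.bwd (nat_lit 3) (Steps.fwd (nat_lit 8192) (Steps.bwd (nat_lit 6) Steps.nil)))))))))))))))))))))))))))))))))))))))))))))))))))) (nat_lit 44) (nat_lit 39),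
  Rule.mk (nat_lit 5) (nat_lit 82) (Steps.bwd (nat_lit 5) (Steps.bwd (nat_lit 5) (Steps.fwd (nat_lit 12288) (Steps.fwd (nat_lit 12288) (Steps.fwd (nat_lit 12288) (Steps.bwd (nat_lit 5) Steps.nil)))))) (nat_lit 16) (nat_lit 0),
  Rule.mk (nat_lit 3) (nat_lit 46) (Steps.fwd (nat_lit 12288) (Steps.fwd (nat_lit 6144) (Steps.bwd (nat_lit 5) Steps.nil))) (nat_lit 22) (nat_lit 0),
  Rule.mk (nat_lit 3) (nat_lit 106) (Steps.bwd (nat_lit 2) (Steps.fwd (nat_lit 6144) (Steps.fwd (nat_lit 4096) (Steps.bwd (nat_lit 1) (Steps.fwd (nat_lit 6144) (Steps.fwd (nat_lit 4096) (Steps.bwd (nat_lit 3) (Steps.fwd (nat_lit 4096) Steps.nil)))))))) (nat_lit 10) (nat_lit 6),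
  Rule.mk (nat_lit 4) (nat_lit 70) (Steps.bwd (nat_lit 3) (Steps.fwd (nat_lit 8192) (Steps.fwd (nat_lit 6144) (Steps.fwd (nat_lit 8192) (Steps.bwd (nat_lit 3) Steps.nil))))) (nat_lit 14) (nat_lit 0),
  Rule.mk (nat_lit 1) (nat_lit 106) (Steps.fwd (nat_lit 4096) (Steps.bwd (nat_lit 3) (Steps.bwd (nat_lit 2) (Steps.fwd (nat_lit 6144) (Steps.fwd (nat_lit 4096) (Steps.bwd (nat_lit 3) (Steps.fwd (nat_lit 4096) (Steps.bwd (nat_lit 3) Steps.nil)))))))) (nat_lit 11) (nat_lit 0),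
  Rule.mk (nat_lit 6) (nat_lit 634) (Steps.bwd (nat_lit 4) (Steps.bwd (nat_lit 3) (Steps.bwd (nat_lit 2) (Steps.bwd (nat_lit 3) (Steps.bwd (nat_lit 4) (Steps.bwd (nat_lit 5) (Steps.bwd (nat_lit 4) (Steps.bwd (nat_lit 2) (Steps.bwd (nat_lit 3) (Steps.bwd (nat_lit 4) (Steps.bwd (nat_lit 3) (Steps.bwd (nat_lit 2) (Steps.bwd (nat_lit 3) (Steps.bwd (nat_lit 6) (Steps.bwd (nat_lit 4) (Steps.bwd (nat_lit 3) (Steps.bwd (nat_lit 2) (Steps.bwd (nat_lit 3) (Steps.bwd (nat_lit 4) (Steps.bwd (nat_lit 5) (Steps.bwd (nat_lit 4) (Steps.bwd (nat_lit 5) (Steps.bwd (nat_lit 4) (Steps.bwd (nat_lit 3) (Steps.bwd (nat_lit 2) (Steps.bwd (nat_lit 3) (Steps.bwd (nat_lit 4) (Steps.bwd (nat_lit 5) (Steps.bwd (nat_lit 4) (Steps.bwd (nat_lit 3) (Steps.bwd (nat_lit 2) (Steps.bwd (nat_lit 3) (Steps.bwd (nat_lit 4) (Steps.bwd (nat_lit 6) (Steps.bwd (nat_lit 6) (Steps.bwd (nat_lit 6) (Steps.bwd (nat_lit 4) (Steps.bwd (nat_lit 3) (Steps.bwd (nat_lit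 2) (Steps.bwd (nat_lit 3) (Steps.bwd (nat_lit 4) (Steps.bwd (nat_lit 6) (Steps.bwd (nat_lit 4) (Steps.bwd (nat_lit 3) (Steps.bwd (nat_lit 2) (Steps.bwd (nat_lit 3) (Steps.bwd (nat_lit 4) (Steps.bwd (nat_lit 5) (Steps.bwd (nat_lit 5) (Steps.bwd (nat_lit 2) (Steps.bwd (nat_lit 3) (Steps.bwd (nat_lit 4) Steps.nil)))))))))))))))))))))))))))))))))))))))))))))))))))) (nat_lit 44) (nat_lit 4),
  Rule.mk (nat_lit 6) (nat_lit 58) (Steps.bwd (nat_lit 8) (Steps.bwd (nat_lit 5) (Steps.fwd (nat_lit 16384) (Steps.bwd (nat_lit 6) Steps.nil)))) (nat_lit 36) (nat_lit 0),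
  Rule.mk (nat_lit 7) (nat_lit 58) (Steps.bwd (nat_lit 5) (Steps.fwd (nat_lit 12288) (Steps.fwd (nat_lit 14336) (Steps.bwd (nat_lit 6) Steps.nil)))) (nat_lit 37) (nat_lit 0),
  Rule.mk (nat_lit 0) (nat_lit 58) (Steps.fwd (nat_lit 4096) (Steps.bwd (nat_lit 7) (Steps.fwd (nat_lit 4096) (Steps.bwd (nat_lit 8) Steps.nil)))) (nat_lit 30) (nat_lit 1),
  Rule.mk (nat_lit 5) (nat_lit 58) (Steps.bwd (nat_lit 7) (Steps.fwd (nat_lit 10240) (Steps.bwd (nat_lit 6) (Steps.fwd (nat_lit 14336) Steps.nil)))) (nat_lit 36) (nat_lit 2),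
  Rule.mk (nat_lit 6) (nat_lit 58) (Steps.bwd (nat_lit 7) (Steps.fwd (nat_lit 12288) (Steps.fwd (nat_lit 12288) (Steps.fwd (nat_lit 14336) Steps.nil)))) (nat_lit 37) (nat_lit 4),
  Rule.mk (nat_lit 5) (nat_lit 106) (Steps.fwd (nat_lit 8192) (Steps.fwd (nat_lit 10240) (Steps.bwd (nat_lit 4) (Steps.bwd (nat_lit 6) (Steps.fwd (nat_lit 10240) (Steps.fwd (nat_lit 8192) (Steps.fwd (nat_lit 12288) (Steps.bwd (nat_lit 5) Steps.nil)))))))) (nat_lit 24) (nat_lit 0),
  Rule.mk (nat_lit 5) (nat_lit 82) (Steps.bwd (nat_lit 5) (Steps.bwd (nat_lit 5) (Steps.bwd (nat_lit 5) (Steps.fwd (nat_lit 12288) (Steps.bwd (nat_lit 5) (Steps.bwd (nat_lit 5) Steps.nil)))))) (nat_lit 16) (nat_lit 0),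
  Rule.mk (nat_lit 6) (nat_lit 82) (Steps.bwd (nat_lit 6) (Steps.bwd (nat_lit 6) (Steps.fwd (nat_lit 10240) (Steps.fwd (nat_lit 10240) (Steps.bwd (nat_lit 6) (Steps.bwd (nat_lit 6) Steps.nil)))))) (nat_lit 17) (nat_lit 0),
  Rule.mk (nat_lit 1) (nat_lit 106) (Steps.fwd (nat_lit 6144) (Steps.fwd (nat_lit 4096) (Steps.fwd (nat_lit 6144) (Steps.bwd (nat_lit 2) (Steps.fwd (nat_lit 6144) (Steps.fwd (nat_lit 4096) (Steps.fwd (nat_lit 6144) (Steps.bwd (nat_lit 2) Steps.nil)))))))) (nat_lit 10) (nat_lit 1),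
  Rule.mk (nat_lit 1) (nat_lit 106) (Steps.fwd (nat_lit 4096) (Steps.fwd (nat_lit 6144) (Steps.bwd (nat_lit 2) (Steps.fwd (nat_lit 6144) (Steps.fwd (nat_lit 4096) (Steps.fwd (nat_lit 6144) (Steps.bwd (nat_lit 2) (Steps.bwd (nat_lit 3) Steps.nil)))))))) (nat_lit 11) (nat_lit 0),
  Rule.mk (nat_lit 5) (nat_lit 106) (Steps.bwd (nat_lit 4) (Steps.fwd (nat_lit 10240) (Steps.fwd (nat_lit 8192) (Steps.bwd (nat_lit 6) (Steps.bwd (nat_lit 6) (Steps.fwd (nat_lit 8192) (Steps.bwd (nat_lit 5) (Steps.bwd (nat_lit 5) Steps.nil)))))))) (nat_lit 24) (nat_lit 0),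
  Rule.mk (nat_lit 8) (nat_lit 58) (Steps.bwd (nat_lit 6) (Steps.fwd (nat_lit 16384) (Steps.bwd (nat_lit 5) (Steps.bwd (nat_lit 5) Steps.nil)))) (nat_lit 37) (nat_lit 3),
  Rule.mk (nat_lit 7) (nat_lit 58) (Steps.bwd (nat_lit 6) (Steps.fwd (nat_lit 10240) (Steps.bwd (nat_lit 8) (Steps.fwd (nat_lit 12288) Steps.nil)))) (nat_lit 36) (nat_lit 3)]
noncomputable def R_6 : List (Rule) := [Rule.mk (nat_lit 0) (nat_lit 118) (Steps.bwd (nat_lit 4) (Steps.bwd (nat_lit 6) (Steps.bwd (nat_lit 4) (Steps.bwd (nat_lit 6) (Steps.fwd (nat_lit 10240) (Steps.fwd (nat_lit 8192) (Steps.bwd (nat_lit 5) (Steps.fwd (nat_lit 12288) (Steps.fwd (nat_lit 12288) Steps.nil))))))))) (nat_lit 24) (nat_lit 0),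
  Rule.mk (nat_lit 0) (nat_lit 46) (Steps.bwd (nat_lit 6) (Steps.fwd (nat_lit 0) (Steps.bwd (nat_lit 5) Steps.nil))) (nat_lit 230) (nat_lit 0),
  Rule.mk (nat_lit 5) (nat_lit 106) (Steps.bwd (nat_lit 5) (Steps.bwd (nat_lit 5) (Steps.fwd (nat_lit 8192) (Steps.bwd (nat_lit 6) (Steps.fwd (nat_lit 8192) (Steps.fwd (nat_lit 10240) (Steps.bwd (nat_lit 6) (Steps.fwd (nat_lit 8192) Steps.nil)))))))) (nat_lit 24) (nat_lit 9),
  Rule.mk (nat_lit 6) (nat_lit 106) (Steps.bwd (nat_lit 4) (Steps.bwd (nat_lit 5) (Steps.bwd (nat_lit 5) (Steps.bwd (nat_lit 5) (Steps.bwd (nat_lit 4) (Steps.fwd (nat_lit 10240) (Steps.bwd (nat_lit 4) (Steps.fwd (nat_lit 10240) Steps.nil)))))))) (nat_lit 24) (nat_lit 7),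
  Rule.mk (nat_lit 6) (nat_lit 106) (Steps.bwd (nat_lit 4) (Steps.fwd (nat_lit 12288) (Steps.bwd (nat_lit 5) (Steps.fwd (nat_lit 12288) (Steps.fwd (nat_lit 8192) (Steps.fwd (nat_lit 10240) (Steps.bwd (nat_lit 4) (Steps.bwd (nat_lit 6) Steps.nil)))))))) (nat_lit 24) (nat_lit 7),
  Rule.mk (nat_lit 5) (nat_lit 58) (Steps.bwd (nat_lit 5) (Steps.fwd (nat_lit 14336) (Steps.fwd (nat_lit 10240) (Steps.bwd (nat_lit 7) Steps.nil)))) (nat_lit 37) (nat_lit 1),
  Rule.mk (nat_lit 5) (nat_lit 58) (Steps.bwd (nat_lit 8) (Steps.fwd (nat_lit 10240) (Steps.bwd (nat_lit 7) (Steps.bwd (nat_lit 5) Steps.nil)))) (nat_lit 37) (nat_lit 2),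
  Rule.mk (nat_lit 1) (nat_lit 46) (Steps.bwd (nat_lit 5) (Steps.fwd (nat_lit 2048) (Steps.bwd (nat_lit 6) Steps.nil))) (nat_lit 18) (nat_lit 2),
  Rule.mk (nat_lit 5) (nat_lit 106) (Steps.bwd (nat_lit 5) (Steps.bwd (nat_lit 5) (Steps.bwd (nat_lit 4) (Steps.bwd (nat_lit 6) (Steps.fwd (nat_lit 8192) (Steps.fwd (nat_lit 10240) (Steps.fwd (nat_lit 10240) (Steps.fwd (nat_lit 8192) Steps.nil)))))))) (nat_lit 24) (nat_lit 9),
  Rule.mk (nat_lit 7) (nat_lit 58) (Steps.bwd (nat_lit 5) (Steps.bwd (nat_lit 5) (Steps.fwd (nat_lit 14336) (Steps.fwd (nat_lit 10240) Steps.nil)))) (nat_lit 37) (nat_lit 0),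
  Rule.mk (nat_lit 6) (nat_lit 106) (Steps.fwd (nat_lit 10240) (Steps.fwd (nat_lit 8192) (Steps.bwd (nat_lit 5) (Steps.bwd (nat_lit 5) (Steps.fwd (nat_lit 8192) (Steps.bwd (nat_lit 5) (Steps.fwd (nat_lit 8192) (Steps.fwd (nat_lit 10240) Steps.nil)))))))) (nat_lit 25) (nat_lit 2),
  Rule.mk (nat_lit 7) (nat_lit 58) (Steps.fwd (nat_lit 10240) (Steps.bwd (nat_lit 6) (Steps.bwd (nat_lit 8) (Steps.bwd (nat_lit 5) Steps.nil)))) (nat_lit 36) (nat_lit 3),
  Rule.mk (nat_lit 6) (nat_lit 106) (Steps.bwd (nat_lit 4) (Steps.bwd (nat_lit 6) (Steps.fwd (nat_lit 10240) (Steps.fwd (nat_lit 8192) (Steps.bwd (nat_lit 5) (Steps.bwd (nat_lit 5) (Steps.bwd (nat_lit 5) (Steps.fwd (nat_lit 8192) Steps.nil)))))))) (nat_lit 24) (nat_lit 2),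
  Rule.mk (nat_lit 0) (nat_lit 118) (Steps.bwd (nat_lit 4) (Steps.bwd (nat_lit 5) (Steps.bwd (nat_lit 4) (Steps.bwd (nat_lit 6) (Steps.fwd (nat_lit 10240) (Steps.fwd (nat_lit 10240) (Steps.bwd (nat_lit 4) (Steps.bwd (nat_lit 5) (Steps.fwd (nat_lit 12288) Steps.nil))))))))) (nat_lit 25) (nat_lit 6),
  Rule.mk (nat_lit 1) (nat_lit 106) (Steps.bwd (nat_lit 3) (Steps.fwd (nat_lit 4096) (Steps.bwd (nat_lit 3) (Steps.bwd (nat_lit 2) (Steps.bwd (nat_lit 3) (Steps.bwd (nat_lit 2) (Steps.bwd (nat_lit 3) (Steps.fwd (nat_lit 4096) Steps.nil)))))))) (nat_lit 10) (nat_lit 1),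
  Rule.mk (nat_lit 7) (nat_lit 46) (Steps.fwd (nat_lit 2048) (Steps.bwd (nat_lit 8) (Steps.fwd (nat_lit 2048) Steps.nil))) (nat_lit 28) (nat_lit 3),
  Rule.mk (nat_lit 8) (nat_lit 58) (Steps.fwd (nat_lit 10240) (Steps.bwd (nat_lit 7) (Steps.bwd (nat_lit 5) (Steps.bwd (nat_lit 5) Steps.nil)))) (nat_lit 37) (nat_lit 3),
  Rule.mk (nat_lit 7) (nat_lit 46) (Steps.bwd (nat_lit 1) (Steps.fwd (nat_lit 14336) (Steps.bwd (nat_lit 1) Steps.nil))) (nat_lit 28) (nat_lit 3),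
  Rule.mk (nat_lit 6) (nat_lit 58) (Steps.fwd (nat_lit 10240) (Steps.fwd (nat_lit 14336) (Steps.bwd (nat_lit 5) (Steps.bwd (nat_lit 7) Steps.nil)))) (nat_lit 36) (nat_lit 4),
  Rule.mk (nat_lit 6) (nat_lit 58) (Steps.bwd (nat_lit 6) (Steps.fwd (nat_lit 14336) (Steps.fwd (nat_lit 12288) (Steps.bwd (nat_lit 7) Steps.nil)))) (nat_lit 36) (nat_lit 4),
  Rule.mk (nat_lit 5) (nat_lit 106) (Steps.bwd (nat_lit 5) (Steps.fwd (nat_lit 12288) (Steps.fwd (nat_lit 8192) (Steps.fwd (nat_lit 10240) (Steps.bwd (nat_lit 4) (Steps.bwd (nat_lit 6) (Steps.bwd (nat_lit 6) (Steps.bwd (nat_lit 4) Steps.nil)))))))) (nat_lit 24) (nat_lit 9),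
  Rule.mk (nat_lit 6) (nat_lit 106) (Steps.fwd (nat_lit 8192) (Steps.fwd (nat_lit 10240) (Steps.fwd (nat_lit 10240) (Steps.bwd (nat_lit 4) (Steps.fwd (nat_lit 12288) (Steps.bwd (nat_lit 5) (Steps.fwd (nat_lit 12288) (Steps.bwd (nat_lit 4) Steps.nil)))))))) (nat_lit 24) (nat_lit 2),
  Rule.mk (nat_lit 7) (nat_lit 58) (Steps.bwd (nat_lit 6) (Steps.fwd (nat_lit 10240) (Steps.fwd (nat_lit 14336) (Steps.bwd (nat_lit 5) Steps.nil)))) (nat_lit 36) (nat_lit 3),
  Rule.mk (nat_lit 3) (nat_lit 46) (Steps.bwd (nat_lit 5) (Steps.fwd (nat_lit 6144) (Steps.fwd (nat_lit 12288) Steps.nil))) (nat_lit 22) (nat_lit 0),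
  Rule.mk (nat_lit 8) (nat_lit 58) (Steps.bwd (nat_lit 5) (Steps.fwd (nat_lit 16384) (Steps.fwd (nat_lit 10240) (Steps.fwd (nat_lit 10240) Steps.nil)))) (nat_lit 36) (nat_lit 1),
  Rule.mk (nat_lit 3) (nat_lit 46) (Steps.bwd (nat_lit 8) (Steps.fwd (nat_lit 6144) (Steps.bwd (nat_lit 7) Steps.nil))) (nat_lit 32) (nat_lit 0),
  Rule.mk (nat_lit 4) (nat_lit 46) (Steps.bwd (nat_lit 7) (Steps.bwd (nat_lit 4) (Steps.fwd (nat_lit 14336) Steps.nil))) (nat_lit 34) (nat_lit 2),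
  Rule.mk (nat_lit 3) (nat_lit 70) (Steps.bwd (nat_lit 4) (Steps.bwd (nat_lit 3) (Steps.fwd (nat_lit 8192) (Steps.fwd (nat_lit 6144) (Steps.bwd (nat_lit 4) Steps.nil))))) (nat_lit 14) (nat_lit 1),
  Rule.mk (nat_lit 5) (nat_lit 106) (Steps.fwd (nat_lit 12288) (Steps.fwd (nat_lit 12288) (Steps.bwd (nat_lit 4) (Steps.bwd (nat_lit 6) (Steps.bwd (nat_lit 4) (Steps.bwd (nat_lit 6) (Steps.fwd (nat_lit 10240) (Steps.bwd (nat_lit 4) Steps.nil)))))))) (nat_lit 24) (nat_lit 9),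
  Rule.mk (nat_lit 6) (nat_lit 106) (Steps.fwd (nat_lit 10240) (Steps.bwd (nat_lit 4) (Steps.fwd (nat_lit 12288) (Steps.bwd (nat_lit 5) (Steps.bwd (nat_lit 5) (Steps.bwd (nat_lit 4) (Steps.fwd (nat_lit 10240) (Steps.bwd (nat_lit 4) Steps.nil)))))))) (nat_lit 24) (nat_lit 6),
  Rule.mk (nat_lit 2) (nat_lit 106) (Steps.bwd (nat_lit 3) (Steps.bwd (nat_lit 2) (Steps.bwd (nat_lit 3) (Steps.bwd (nat_lit 2) (Steps.bwd (nat_lit 3) (Steps.bwd (nat_lit 2) (Steps.fwd (nat_lit 2048) (Steps.fwd (nat_lit 6144) Steps.nil)))))))) (nat_lit 10) (nat_lit 3),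
  Rule.mk (nat_lit 5) (nat_lit 46) (Steps.bwd (nat_lit 2) (Steps.fwd (nat_lit 10240) (Steps.bwd (nat_lit 2) Steps.nil))) (nat_lit 20) (nat_lit 3),
  Rule.mk (nat_lit 1) (nat_lit 106) (Steps.bwd (nat_lit 3) (Steps.fwd (nat_lit 4096) (Steps.fwd (nat_lit 6144) (Steps.bwd (nat_lit 2) (Steps.bwd (nat_lit 3) (Steps.bwd (nat_lit 2) (Steps.bwd (nat_lit 3) (Steps.bwd (nat_lit 2) Steps.nil)))))))) (nat_lit 10) (nat_lit 1),
  Rule.mk (nat_lit 0) (nat_lit 58) (Steps.bwd (nat_lit 3) (Steps.bwd (nat_lit 5) (Steps.fwd (nat_lit 6144) (Steps.fwd (nat_lit 12288) Steps.nil)))) (nat_lit 22) (nat_lit 1),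
  Rule.mk (nat_lit 5) (nat_lit 58) (Steps.bwd (nat_lit 5) (Steps.bwd (nat_lit 8) (Steps.fwd (nat_lit 10240) (Steps.bwd (nat_lit 7) Steps.nil)))) (nat_lit 37) (nat_lit 1),
  Rule.mk (nat_lit 4) (nat_lit 634) (Steps.fwd (nat_lit 4096) (Steps.fwd (nat_lit 6144) (Steps.fwd (nat_lit 8192) (Steps.bwd (nat_lit 3) (Steps.bwd (nat_lit 2) (Steps.fwd (nat_lit 6144) (Steps.fwd (nat_lit 10240) (Steps.bwd (nat_lit 4) (Steps.bwd (nat_lit 3) (Steps.bwd (nat_lit 2) (Steps.fwd (nat_lit 6144) (Steps.fwd (nat_lit 8192) (Steps.fwd (nat_lit 12288) (Steps.fwd (nat_lit 8192) (Steps.fwd (nat_lit 12288) (Steps.bwd (nat_lit 4) (Steps.bwd (nat_lit 3) (Steps.bwd (nat_lit 2) (Steps.bwd (nat_lit 3) (Steps.bwd (nat_lit 4) (Steps.bwd (nat_lit 5) (Steps.bwd (nat_lit 4) (Steps.bwd (nat_lit 3) (Steps.bwd (nat_lit 2) (Steps.bwd (nat_lit 3) (Steps.bwd (nat_lit 4) (Steps.bwd (nat_lit 6) (Steps.bwd (nat_lit 6) (Steps.bwd (nat_lit 6) (Steps.bwd (nat_lit 4)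 (Steps.bwd (nat_lit 3) (Steps.bwd (nat_lit 2) (Steps.bwd (nat_lit 3) (Steps.bwd (nat_lit 4) (Steps.bwd (nat_lit 6) (Steps.bwd (nat_lit 4) (Steps.bwd (nat_lit 3) (Steps.bwd (nat_lit 2) (Steps.bwd (nat_lit 3) (Steps.fwd (nat_lit 8192) (Steps.bwd (nat_lit 5) (Steps.fwd (nat_lit 12288) (Steps.bwd (nat_lit 2) (Steps.fwd (nat_lit 6144) (Steps.bwd (nat_lit 4) (Steps.fwd (nat_lit 10240) (Steps.fwd (nat_lit 8192) (Steps.fwd (nat_lit 6144) (Steps.fwd (nat_lit 4096) (Steps.fwd (nat_lit 6144) (Steps.fwd (nat_lit 8192) (Steps.bwd (nat_lit 5) Steps.nil)))))))))))))))))))))))))))))))))))))))))))))))))))) (nat_lit 44) (nat_lit 11),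
  Rule.mk (nat_lit 1) (nat_lit 106) (Steps.bwd (nat_lit 3) (Steps.bwd (nat_lit 2) (Steps.fwd (nat_lit 6144) (Steps.bwd (nat_lit 2) (Steps.bwd (nat_lit 3) (Steps.bwd (nat_lit 2) (Steps.fwd (nat_lit 6144) (Steps.fwd (nat_lit 4096) Steps.nil)))))))) (nat_lit 10) (nat_lit 1),
  Rule.mk (nat_lit 6) (nat_lit 634) (Steps.bwd (nat_lit 4) (Steps.bwd (nat_lit 3) (Steps.bwd (nat_lit 2) (Steps.bwd (nat_lit 3) (Steps.bwd (nat_lit 4) (Steps.bwd (nat_lit 5) (Steps.bwd (nat_lit 4) (Steps.bwd (nat_lit 2) (Steps.bwd (nat_lit 3) (Steps.bwd (nat_lit 4) (Steps.bwd (nat_lit 3) (Steps.bwd (nat_lit 2) (Steps.bwd (nat_lit 3) (Steps.bwd (nat_lit 6) (Steps.bwd (nat_lit 4) (Steps.bwd (nat_lit 3) (Steps.bwd (nat_lit 2) (Steps.bwd (nat_lit 3) (Steps.fwd (nat_lit 8192) (Steps.bwd (nat_lit 5) (Steps.bwd (nat_lit 4) (Steps.bwd (nat_lit 5) (Steps.fwd (nat_lit 8192) (Steps.fwd (nat_lit 6144) (Steps.fwd (nat_lit 4096) (Steps.fwd (nat_lit 6144) (Steps.fwd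 (nat_lit 8192) (Steps.fwd (nat_lit 12288) (Steps.bwd (nat_lit 4) (Steps.fwd (nat_lit 6144) (Steps.bwd (nat_lit 2) (Steps.fwd (nat_lit 6144) (Steps.fwd (nat_lit 8192) (Steps.fwd (nat_lit 10240) (Steps.fwd (nat_lit 10240) (Steps.fwd (nat_lit 10240) (Steps.fwd (nat_lit 8192) (Steps.fwd (nat_lit 6144) (Steps.fwd (nat_lit 4096) (Steps.bwd (nat_lit 3) (Steps.fwd (nat_lit 8192) (Steps.bwd (nat_lit 6) (Steps.bwd (nat_lit 4) (Steps.bwd (nat_lit 3) (Steps.bwd (nat_lit 2) (Steps.bwd (nat_lit 3) (Steps.bwd (nat_lit 4) (Steps.bwd (nat_lit 5) (Steps.fwd (nat_lit 12288) (Steps.fwd (nat_lit 4096) (Steps.fwd (nat_lit 6144) (Steps.fwd (nat_lit 8192) Steps.nil)))))))))))))))))))))))))))))))))))))))))))))))))))) (nat_lit 44) (nat_lit 4),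
  Rule.mk (nat_lit 6) (nat_lit 58) (Steps.bwd (nat_lit 8) (Steps.fwd (nat_lit 12288) (Steps.bwd (nat_lit 7) (Steps.bwd (nat_lit 6) Steps.nil)))) (nat_lit 36) (nat_lit 0),
  Rule.mk (nat_lit 6) (nat_lit 634) (Steps.fwd (nat_lit 10240) (Steps.fwd (nat_lit 8192) (Steps.fwd (nat_lit 6144) (Steps.fwd (nat_lit 4096) (Steps.fwd (nat_lit 6144) (Steps.fwd (nat_lit 8192) (Steps.bwd (nat_lit 6) (Steps.fwd (nat_lit 8192) (Steps.fwd (nat_lit 6144) (Steps.fwd (nat_lit 4096) (Steps.fwd (nat_lit 6144) (Steps.bwd (nat_lit 4) (Steps.bwd (nat_lit 5) (Steps.bwd (nat_lit 5) (Steps.fwd (nat_lit 4096) (Steps.fwd (nat_lit 6144) (Steps.fwd (nat_lit 8192) (Steps.fwd (nat_lit 10240) (Steps.fwd (nat_lit 8192) (Steps.fwd (nat_lit 6144) (Steps.bwd (nat_lit 2) (Steps.bwd (nat_lit 3) (Steps.bwd (nat_lit 4) (Steps.fwd (nat_lit 12288) (Steps.fwd (nat_lit 8192) (Steps.bwd (nat_lit 2) (Steps.bwd (nat_lit 3) (Steps.fwd (nat_lit 8192) (Steps.bwd (nat_lit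 3) (Steps.bwd (nat_lit 2) (Steps.bwd (nat_lit 3) (Steps.bwd (nat_lit 6) (Steps.bwd (nat_lit 4) (Steps.bwd (nat_lit 3) (Steps.bwd (nat_lit 2) (Steps.fwd (nat_lit 6144) (Steps.bwd (nat_lit 4) (Steps.bwd (nat_lit 5) (Steps.bwd (nat_lit 4) (Steps.fwd (nat_lit 12288) (Steps.bwd (nat_lit 4) (Steps.bwd (nat_lit 3) (Steps.bwd (nat_lit 2) (Steps.bwd (nat_lit 3) (Steps.fwd (nat_lit 8192) (Steps.bwd (nat_lit 5) (Steps.bwd (nat_lit 4) (Steps.fwd (nat_lit 6144) (Steps.bwd (nat_lit 2) (Steps.fwd (nat_lit 6144) (Steps.fwd (nat_lit 8192) (Steps.fwd (nat_lit 10240) Steps.nil)))))))))))))))))))))))))))))))))))))))))))))))))))) (nat_lit 44) (nat_lit 39),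
  Rule.mk (nat_lit 5) (nat_lit 106) (Steps.bwd (nat_lit 5) (Steps.bwd (nat_lit 5) (Steps.fwd (nat_lit 8192) (Steps.fwd (nat_lit 10240) (Steps.fwd (nat_lit 8192) (Steps.fwd (nat_lit 10240) (Steps.bwd (nat_lit 6) (Steps.bwd (nat_lit 4) Steps.nil)))))))) (nat_lit 24) (nat_lit 9),
  Rule.mk (nat_lit 0) (nat_lit 118) (Steps.bwd (nat_lit 4) (Steps.bwd (nat_lit 5) (Steps.fwd (nat_lit 12288) (Steps.bwd (nat_lit 5) (Steps.bwd (nat_lit 4) (Steps.fwd (nat_lit 10240) (Steps.fwd (nat_lit 8192) (Steps.bwd (nat_lit 6) (Steps.bwd (nat_lit 6) Steps.nil))))))))) (nat_lit 24) (nat_lit 7),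
  Rule.mk (nat_lit 0) (nat_lit 58) (Steps.bwd (nat_lit 3) (Steps.bwd (nat_lit 8) (Steps.fwd (nat_lit 6144) (Steps.fwd (nat_lit 16384) Steps.nil)))) (nat_lit 32) (nat_lit 3),
  Rule.mk (nat_lit 0) (nat_lit 58) (Steps.fwd (nat_lit 12288) (Steps.fwd (nat_lit 4096) (Steps.fwd (nat_lit 10240) (Steps.bwd (nat_lit 2) Steps.nil)))) (nat_lit 20) (nat_lit 2),
  Rule.mk (nat_lit 7) (nat_lit 46) (Steps.bwd (nat_lit 0) (Steps.bwd (nat_lit 8) (Steps.fwd (nat_lit 0) Steps.nil))) (nat_lit 230) (nat_lit 0),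
  Rule.mk (nat_lit 1) (nat_lit 106) (Steps.bwd (nat_lit 3) (Steps.bwd (nat_lit 2) (Steps.bwd (nat_lit 3) (Steps.bwd (nat_lit 2) (Steps.bwd (nat_lit 3) (Steps.fwd (nat_lit 4096) (Steps.fwd (nat_lit 6144) (Steps.fwd (nat_lit 4096) Steps.nil)))))))) (nat_lit 10) (nat_lit 1),
  Rule.mk (nat_lit 6) (nat_lit 58) (Steps.bwd (nat_lit 8) (Steps.fwd (nat_lit 12288) (Steps.fwd (nat_lit 16384) (Steps.bwd (nat_lit 6) Steps.nil)))) (nat_lit 36) (nat_lit 0),
  Rule.mk (nat_lit 4) (nat_lit 46) (Steps.bwd (nat_lit 2) (Steps.bwd (nat_lit 4) (Steps.bwd (nat_lit 2) Steps.nil))) (nat_lit 12) (nat_lit 0),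
  Rule.mk (nat_lit 6) (nat_lit 106) (Steps.fwd (nat_lit 8192) (Steps.bwd (nat_lit 6) (Steps.bwd (nat_lit 6) (Steps.bwd (nat_lit 4) (Steps.bwd (nat_lit 5) (Steps.fwd (nat_lit 12288) (Steps.fwd (nat_lit 12288) (Steps.bwd (nat_lit 4) Steps.nil)))))))) (nat_lit 24) (nat_lit 2),
  Rule.mk (nat_lit 5) (nat_lit 106) (Steps.fwd (nat_lit 8192) (Steps.bwd (nat_lit 6) (Steps.bwd (nat_lit 6) (Steps.bwd (nat_lit 6) (Steps.fwd (nat_lit 8192) (Steps.fwd (nat_lit 12288) (Steps.fwd (nat_lit 12288) (Steps.bwd (nat_lit 4) Steps.nil)))))))) (nat_lit 25) (nat_lit 10),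
  Rule.mk (nat_lit 2) (nat_lit 106) (Steps.bwd (nat_lit 3) (Steps.fwd (nat_lit 4096) (Steps.bwd (nat_lit 1) (Steps.fwd (nat_lit 6144) (Steps.fwd (nat_lit 4096) (Steps.bwd (nat_lit 3) (Steps.bwd (nat_lit 2) (Steps.bwd (nat_lit 3) Steps.nil)))))))) (nat_lit 10) (nat_lit 7),
  Rule.mk (nat_lit 4) (nat_lit 46) (Steps.bwd (nat_lit 2) (Steps.fwd (nat_lit 8192) (Steps.bwd (nat_lit 2) Steps.nil))) (nat_lit 12) (nat_lit 0),
  Rule.mk (nat_lit 6) (nat_lit 46) (Steps.bwd (nat_lit 2) (Steps.fwd (nat_lit 12288) (Steps.bwd (nat_lit 2) Steps.nil))) (nat_lit 20) (nat_lit 1),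
  Rule.mk (nat_lit 5) (nat_lit 46) (Steps.fwd (nat_lit 4096) (Steps.fwd (nat_lit 10240) (Steps.bwd (nat_lit 2) Steps.nil))) (nat_lit 20) (nat_lit 3),
  Rule.mk (nat_lit 3) (nat_lit 634) (Steps.bwd (nat_lit 2) (Steps.bwd (nat_lit 3) (Steps.bwd (nat_lit 4) (Steps.bwd (nat_lit 5) (Steps.bwd (nat_lit 4) (Steps.bwd (nat_lit 5) (Steps.bwd (nat_lit 4) (Steps.bwd (nat_lit 3) (Steps.bwd (nat_lit 2) (Steps.bwd (nat_lit 3) (Steps.bwd (nat_lit 4) (Steps.bwd (nat_lit 5) (Steps.bwd (nat_lit 4) (Steps.bwd (nat_lit 3) (Steps.bwd (nat_lit 2) (Steps.bwd (nat_lit 3) (Steps.fwd (nat_lit 8192) (Steps.fwd (nat_lit 10240) (Steps.bwd (nat_lit 6) (Steps.bwd (nat_lit 6) (Steps.bwd (nat_lit 4) (Steps.bwd (nat_lit 3) (Steps.fwd (nat_lit 4096) (Steps.bwd (nat_lit 3) (Steps.bwd (nat_lit 4) (Steps.bwd (nat_lit 6) (Steps.fwd (nat_lit 8192) (Steps.fwd (nat_lit 6144) (Steps.fwd (nat_lit 4096) (Steps.fwd (nat_lit 6144) (Steps.fwd (nat_lit 8192) (Steps.fwd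 (nat_lit 12288) (Steps.fwd (nat_lit 12288) (Steps.bwd (nat_lit 2) (Steps.fwd (nat_lit 6144) (Steps.bwd (nat_lit 4) (Steps.fwd (nat_lit 10240) (Steps.fwd (nat_lit 8192) (Steps.bwd (nat_lit 3) (Steps.fwd (nat_lit 4096) (Steps.fwd (nat_lit 6144) (Steps.fwd (nat_lit 8192) (Steps.fwd (nat_lit 12288) (Steps.fwd (nat_lit 8192) (Steps.bwd (nat_lit 2) (Steps.fwd (nat_lit 6144) (Steps.bwd (nat_lit 4) (Steps.fwd (nat_lit 6144) (Steps.fwd (nat_lit 4096) (Steps.bwd (nat_lit 3) (Steps.bwd (nat_lit 6) (Steps.fwd (nat_lit 8192) Steps.nil)))))))))))))))))))))))))))))))))))))))))))))))))))) (nat_lit 44) (nat_lit 20),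
  Rule.mk (nat_lit 6) (nat_lit 58) (Steps.fwd (nat_lit 10240) (Steps.fwd (nat_lit 14336) (Steps.fwd (nat_lit 12288) (Steps.bwd (nat_lit 7) Steps.nil)))) (nat_lit 36) (nat_lit 4),
  Rule.mk (nat_lit 5) (nat_lit 106) (Steps.fwd (nat_lit 8192) (Steps.fwd (nat_lit 10240) (Steps.fwd (nat_lit 8192) (Steps.fwd (nat_lit 10240) (Steps.bwd (nat_lit 6) (Steps.bwd (nat_lit 4) (Steps.bwd (nat_lit 5) (Steps.bwd (nat_lit 5) Steps.nil)))))))) (nat_lit 24) (nat_lit 0),
  Rule.mk (nat_lit 3) (nat_lit 46) (Steps.fwd (nat_lit 16384) (Steps.bwd (nat_lit 3) (Steps.bwd (nat_lit 8) Steps.nil))) (nat_lit 32) (nat_lit 2),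
  Rule.mk (nat_lit 5) (nat_lit 58) (Steps.fwd (nat_lit 16384) (Steps.fwd (nat_lit 10240) (Steps.fwd (nat_lit 10240) (Steps.bwd (nat_lit 8) Steps.nil)))) (nat_lit 36) (nat_lit 2),
  Rule.mk (nat_lit 0) (nat_lit 70) (Steps.bwd (nat_lit 5) (Steps.fwd (nat_lit 16384) (Steps.bwd (nat_lit 6) (Steps.fwd (nat_lit 10240) (Steps.fwd (nat_lit 14336) Steps.nil))))) (nat_lit 36) (nat_lit 1),
  Rule.mk (nat_lit 4) (nat_lit 70) (Steps.fwd (nat_lit 6144) (Steps.fwd (nat_lit 8192) (Steps.bwd (nat_lit 3) (Steps.bwd (nat_lit 4) (Steps.bwd (nat_lit 3) Steps.nil))))) (nat_lit 14) (nat_lit 0),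
  Rule.mk (nat_lit 4) (nat_lit 46) (Steps.fwd (nat_lit 4096) (Steps.bwd (nat_lit 4) (Steps.bwd (nat_lit 2) Steps.nil))) (nat_lit 12) (nat_lit 0),
  Rule.mk (nat_lit 8) (nat_lit 46) (Steps.fwd (nat_lit 6144) (Steps.fwd (nat_lit 16384) (Steps.bwd (nat_lit 3) Steps.nil))) (nat_lit 32) (nat_lit 1),
  Rule.mk (nat_lit 1) (nat_lit 46) (Steps.bwd (nat_lit 7) (Steps.bwd (nat_lit 1) (Steps.bwd (nat_lit 8) Steps.nil))) (nat_lit 28) (nat_lit 2)]
noncomputable def R_7 : List (Rule) := [Rule.mk (nat_lit 2) (nat_lit 46) (Steps.fwd (nat_lit 16384) (Steps.bwd (nat_lit 2) (Steps.bwd (nat_lit 8) Steps.nil))) (nat_lit 30) (nat_lit 2),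
  Rule.mk (nat_lit 5) (nat_lit 58) (Steps.fwd (nat_lit 16384) (Steps.fwd (nat_lit 10240) (Steps.bwd (nat_lit 6) (Steps.bwd (nat_lit 8) Steps.nil)))) (nat_lit 36) (nat_lit 2),
  Rule.mk (nat_lit 6) (nat_lit 58) (Steps.fwd (nat_lit 16384) (Steps.fwd (nat_lit 12288) (Steps.fwd (nat_lit 12288) (Steps.bwd (nat_lit 8) Steps.nil)))) (nat_lit 37) (nat_lit 4),
  Rule.mk (nat_lit 7) (nat_lit 58) (Steps.fwd (nat_lit 10240) (Steps.bwd (nat_lit 6) (Steps.fwd (nat_lit 14336) (Steps.bwd (nat_lit 5) Steps.nil)))) (nat_lit 36) (nat_lit 3),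
  Rule.mk (nat_lit 5) (nat_lit 106) (Steps.fwd (nat_lit 8192) (Steps.fwd (nat_lit 10240) (Steps.fwd (nat_lit 8192) (Steps.bwd (nat_lit 6) (Steps.bwd (nat_lit 6) (Steps.bwd (nat_lit 4) (Steps.bwd (nat_lit 5) (Steps.fwd (nat_lit 12288) Steps.nil)))))))) (nat_lit 24) (nat_lit 0),
  Rule.mk (nat_lit 8) (nat_lit 58) (Steps.bwd (nat_lit 6) (Steps.fwd (nat_lit 16384) (Steps.fwd (nat_lit 12288) (Steps.bwd (nat_lit 5) Steps.nil)))) (nat_lit 37) (nat_lit 3),
  Rule.mk (nat_lit 5) (nat_lit 58) (Steps.fwd (nat_lit 14336) (Steps.bwd (nat_lit 6) (Steps.bwd (nat_lit 7) (Steps.bwd (nat_lit 5) Steps.nil)))) (nat_lit 37) (nat_lit 2),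
  Rule.mk (nat_lit 4) (nat_lit 106) (Steps.bwd (nat_lit 6) (Steps.bwd (nat_lit 4) (Steps.bwd (nat_lit 6) (Steps.bwd (nat_lit 6) (Steps.fwd (nat_lit 8192) (Steps.fwd (nat_lit 12288) (Steps.bwd (nat_lit 5) (Steps.bwd (nat_lit 5) Steps.nil)))))))) (nat_lit 24) (nat_lit 1),
  Rule.mk (nat_lit 2) (nat_lit 106) (Steps.fwd (nat_lit 6144) (Steps.fwd (nat_lit 4096) (Steps.fwd (nat_lit 6144) (Steps.bwd (nat_lit 2) (Steps.fwd (nat_lit 6144) (Steps.fwd (nat_lit 4096) (Steps.fwd (nat_lit 6144) (Steps.bwd (nat_lit 1) Steps.nil)))))))) (nat_lit 11) (nat_lit 1),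
  Rule.mk (nat_lit 6) (nat_lit 58) (Steps.fwd (nat_lit 14336) (Steps.bwd (nat_lit 5) (Steps.bwd (nat_lit 7) (Steps.bwd (nat_lit 6) Steps.nil)))) (nat_lit 36) (nat_lit 0),
  Rule.mk (nat_lit 6) (nat_lit 58) (Steps.bwd (nat_lit 7) (Steps.bwd (nat_lit 5) (Steps.bwd (nat_lit 5) (Steps.bwd (nat_lit 8) Steps.nil)))) (nat_lit 37) (nat_lit 4),
  Rule.mk (nat_lit 4) (nat_lit 634) (Steps.bwd (nat_lit 3) (Steps.bwd (nat_lit 2) (Steps.bwd (nat_lit 3) (Steps.bwd (nat_lit 4) (Steps.bwd (nat_lit 6) (Steps.bwd (nat_lit 6) (Steps.fwd (nat_lit 10240) (Steps.fwd (nat_lit 8192) (Steps.fwd (nat_lit 6144) (Steps.fwd (nat_lit 4096) (Steps.fwd (nat_lit 6144) (Steps.bwd (nat_lit 4) (Steps.bwd (nat_lit 6) (Steps.fwd (nat_lit 8192) (Steps.bwd (nat_lit 3) (Steps.bwd (nat_lit 2) (Steps.bwd (nat_lit 3) (Steps.bwd (nat_lit 4) (Steps.fwd (nat_lit 12288) (Steps.fwd (nat_lit 12288) (Steps.fwd (nat_lit 4096) (Steps.fwd (nat_lit 6144) (Steps.fwd (nat_lit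 8192) (Steps.fwd (nat_lit 10240) (Steps.bwd (nat_lit 4) (Steps.fwd (nat_lit 6144) (Steps.fwd (nat_lit 4096) (Steps.fwd (nat_lit 6144) (Steps.fwd (nat_lit 8192) (Steps.fwd (nat_lit 12288) (Steps.fwd (nat_lit 8192) (Steps.bwd (nat_lit 2) (Steps.fwd (nat_lit 6144) (Steps.fwd (nat_lit 8192) (Steps.fwd (nat_lit 6144) (Steps.bwd (nat_lit 2) (Steps.fwd (nat_lit 6144) (Steps.fwd (nat_lit 10240) (Steps.bwd (nat_lit 4) (Steps.bwd (nat_lit 3) (Steps.bwd (nat_lit 2) (Steps.fwd (nat_lit 6144) (Steps.fwd (nat_lit 8192) (Steps.fwd (nat_lit 12288) (Steps.bwd (nat_lit 4) (Steps.fwd (nat_lit 12288) (Steps.fwd (nat_lit 8192) (Steps.fwd (nat_lit 6144) (Steps.fwd (nat_lit 4096) (Steps.fwd (nat_lit 6144) (Steps.fwd (nat_lit 8192) (Steps.fwd (nat_lit 12288) Steps.nil)))))))))))))))))))))))))))))))))))))))))))))))))))) (nat_lit 44) (nat_lit 33),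
  Rule.mk (nat_lit 5) (nat_lit 106) (Steps.bwd (nat_lit 5) (Steps.bwd (nat_lit 5) (Steps.fwd (nat_lit 8192) (Steps.bwd (nat_lit 6) (Steps.bwd (nat_lit 4) (Steps.bwd (nat_lit 6) (Steps.bwd (nat_lit 6) (Steps.bwd (nat_lit 4) Steps.nil)))))))) (nat_lit 24) (nat_lit 9),
  Rule.mk (nat_lit 6) (nat_lit 106) (Steps.fwd (nat_lit 10240) (Steps.fwd (nat_lit 10240) (Steps.fwd (nat_lit 8192) (Steps.bwd (nat_lit 5) (Steps.fwd (nat_lit 12288) (Steps.fwd (nat_lit 8192) (Steps.fwd (nat_lit 12288) (Steps.bwd (nat_lit 4) Steps.nil)))))))) (nat_lit 25) (nat_lit 1),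
  Rule.mk (nat_lit 0) (nat_lit 58) (Steps.fwd (nat_lit 4096) (Steps.fwd (nat_lit 12288) (Steps.fwd (nat_lit 4096) (Steps.fwd (nat_lit 10240) Steps.nil)))) (nat_lit 20) (nat_lit 1),
  Rule.mk (nat_lit 6) (nat_lit 82) (Steps.fwd (nat_lit 10240) (Steps.fwd (nat_lit 10240) (Steps.fwd (nat_lit 10240) (Steps.fwd (nat_lit 10240) (Steps.fwd (nat_lit 10240) (Steps.bwd (nat_lit 6) Steps.nil)))))) (nat_lit 17) (nat_lit 0),
  Rule.mk (nat_lit 3) (nat_lit 70) (Steps.fwd (nat_lit 8192) (Steps.bwd (nat_lit 3) (Steps.bwd (nat_lit 4) (Steps.fwd (nat_lit 6144) (Steps.fwd (nat_lit 8192) Steps.nil))))) (nat_lit 14) (nat_lit 1),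
  Rule.mk (nat_lit 2) (nat_lit 106) (Steps.bwd (nat_lit 3) (Steps.fwd (nat_lit 4096) (Steps.fwd (nat_lit 6144) (Steps.bwd (nat_lit 2) (Steps.bwd (nat_lit 1) (Steps.fwd (nat_lit 6144) (Steps.fwd (nat_lit 4096) (Steps.fwd (nat_lit 6144) Steps.nil)))))))) (nat_lit 10) (nat_lit 5),
  Rule.mk (nat_lit 2) (nat_lit 634) (Steps.bwd (nat_lit 3) (Steps.bwd (nat_lit 4) (Steps.bwd (nat_lit 6) (Steps.bwd (nat_lit 4) (Steps.fwd (nat_lit 6144) (Steps.fwd (nat_lit 4096) (Steps.bwd (nat_lit 3) (Steps.bwd (nat_lit 4) (Steps.bwd (nat_lit 5) (Steps.bwd (nat_lit 5) (Steps.bwd (nat_lit 2) (Steps.fwd (nat_lit 6144) (Steps.bwd (nat_lit 4) (Steps.bwd (nat_lit 6) (Steps.fwd (nat_lit 8192) (Steps.fwd (nat_lit 6144) (Steps.bwd (nat_lit 2) (Steps.bwd (nat_lit 3) (Steps.fwd (nat_lit 8192) (Steps.bwd (nat_lit 5) (Steps.bwd (nat_lit 4) (Steps.bwd (nat_lit 2) (Steps.fwd (nat_lit 6144) (Steps.bwd (nat_lit 4) (Steps.bwd (nat_lit 3) (Steps.bwd (nat_lit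 2) (Steps.bwd (nat_lit 3) (Steps.fwd (nat_lit 10240) (Steps.bwd (nat_lit 4) (Steps.fwd (nat_lit 6144) (Steps.fwd (nat_lit 4096) (Steps.bwd (nat_lit 3) (Steps.fwd (nat_lit 8192) (Steps.fwd (nat_lit 12288) (Steps.fwd (nat_lit 8192) (Steps.bwd (nat_lit 5) (Steps.bwd (nat_lit 4) (Steps.bwd (nat_lit 3) (Steps.bwd (nat_lit 2) (Steps.fwd (nat_lit 6144) (Steps.fwd (nat_lit 8192) (Steps.fwd (nat_lit 12288) (Steps.fwd (nat_lit 8192) (Steps.fwd (nat_lit 6144) (Steps.bwd (nat_lit 2) (Steps.bwd (nat_lit 3) (Steps.bwd (nat_lit 4) (Steps.fwd (nat_lit 10240) (Steps.bwd (nat_lit 6) (Steps.fwd (nat_lit 10240) (Steps.bwd (nat_lit 4) (Steps.bwd (nat_lit 3) Steps.nil)))))))))))))))))))))))))))))))))))))))))))))))))))) (nat_lit 44) (nat_lit 43),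
  Rule.mk (nat_lit 6) (nat_lit 46) (Steps.fwd (nat_lit 4096) (Steps.fwd (nat_lit 12288) (Steps.bwd (nat_lit 2) Steps.nil))) (nat_lit 20) (nat_lit 1),
  Rule.mk (nat_lit 6) (nat_lit 58) (Steps.fwd (nat_lit 16384) (Steps.bwd (nat_lit 5) (Steps.bwd (nat_lit 5) (Steps.bwd (nat_lit 8) Steps.nil)))) (nat_lit 37) (nat_lit 4),
  Rule.mk (nat_lit 6) (nat_lit 106) (Steps.fwd (nat_lit 8192) (Steps.bwd (nat_lit 6) (Steps.bwd (nat_lit 6) (Steps.fwd (nat_lit 8192) (Steps.fwd (nat_lit 12288) (Steps.fwd (nat_lit 12288) (Steps.fwd (nat_lit 12288) (Steps.fwd (nat_lit 8192) Steps.nil)))))))) (nat_lit 24) (nat_lit 2),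
  Rule.mk (nat_lit 3) (nat_lit 46) (Steps.fwd (nat_lit 10240) (Steps.fwd (nat_lit 6144) (Steps.bwd (nat_lit 6) Steps.nil))) (nat_lit 23) (nat_lit 1),
  Rule.mk (nat_lit 5) (nat_lit 634) (Steps.bwd (nat_lit 4) (Steps.bwd (nat_lit 2) (Steps.bwd (nat_lit 3) (Steps.bwd (nat_lit 4) (Steps.bwd (nat_lit 3) (Steps.bwd (nat_lit 2) (Steps.bwd (nat_lit 3) (Steps.bwd (nat_lit 6) (Steps.bwd (nat_lit 4) (Steps.bwd (nat_lit 3) (Steps.bwd (nat_lit 2) (Steps.fwd (nat_lit 6144) (Steps.bwd (nat_lit 4) (Steps.fwd (nat_lit 12288) (Steps.fwd (nat_lit 8192) (Steps.fwd (nat_lit 12288) (Steps.fwd (nat_lit 8192) (Steps.bwd (nat_lit 3) (Steps.bwd (nat_lit 2) (Steps.fwd (nat_lit 6144) (Steps.bwd (nat_lit 4) (Steps.bwd (nat_lit 5) (Steps.bwd (nat_lit 4) (Steps.bwd (nat_lit 3) (Steps.fwd (nat_lit 4096) (Steps.bwd (nat_lit 3) (Steps.bwd (nat_lit 4) (Steps.bwd (nat_lit 6) (Steps.bwd (nat_lit 6) (Steps.bwd (nat_lit 6) (Steps.fwd (nat_lit 8192) (Steps.bwd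 (nat_lit 3) (Steps.fwd (nat_lit 4096) (Steps.fwd (nat_lit 6144) (Steps.fwd (nat_lit 8192) (Steps.bwd (nat_lit 6) (Steps.fwd (nat_lit 8192) (Steps.fwd (nat_lit 6144) (Steps.bwd (nat_lit 2) (Steps.bwd (nat_lit 3) (Steps.bwd (nat_lit 4) (Steps.bwd (nat_lit 5) (Steps.bwd (nat_lit 5) (Steps.fwd (nat_lit 4096) (Steps.fwd (nat_lit 6144) (Steps.fwd (nat_lit 8192) (Steps.fwd (nat_lit 10240) (Steps.fwd (nat_lit 8192) (Steps.fwd (nat_lit 6144) (Steps.fwd (nat_lit 4096) (Steps.fwd (nat_lit 6144) (Steps.fwd (nat_lit 8192) Steps.nil)))))))))))))))))))))))))))))))))))))))))))))))))))) (nat_lit 44) (nat_lit 10),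
  Rule.mk (nat_lit 2) (nat_lit 46) (Steps.fwd (nat_lit 10240) (Steps.fwd (nat_lit 4096) (Steps.bwd (nat_lit 5) Steps.nil))) (nat_lit 20) (nat_lit 0),
  Rule.mk (nat_lit 5) (nat_lit 58) (Steps.fwd (nat_lit 14336) (Steps.bwd (nat_lit 6) (Steps.fwd (nat_lit 16384) (Steps.bwd (nat_lit 5) Steps.nil)))) (nat_lit 37) (nat_lit 2),
  Rule.mk (nat_lit 6) (nat_lit 106) (Steps.fwd (nat_lit 10240) (Steps.bwd (nat_lit 6) (Steps.fwd (nat_lit 8192) (Steps.bwd (nat_lit 5) (Steps.bwd (nat_lit 5) (Steps.fwd (nat_lit 8192) (Steps.bwd (nat_lit 5) (Steps.bwd (nat_lit 4) Steps.nil)))))))) (nat_lit 25) (nat_lit 1),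
  Rule.mk (nat_lit 0) (nat_lit 58) (Steps.fwd (nat_lit 4096) (Steps.bwd (nat_lit 6) (Steps.bwd (nat_lit 2) (Steps.fwd (nat_lit 12288) Steps.nil)))) (nat_lit 20) (nat_lit 3),
  Rule.mk (nat_lit 8) (nat_lit 58) (Steps.bwd (nat_lit 6) (Steps.bwd (nat_lit 7) (Steps.fwd (nat_lit 12288) (Steps.bwd (nat_lit 5) Steps.nil)))) (nat_lit 37) (nat_lit 3),
  Rule.mk (nat_lit 5) (nat_lit 106) (Steps.fwd (nat_lit 8192) (Steps.bwd (nat_lit 5) (Steps.bwd (nat_lit 4) (Steps.fwd (nat_lit 10240) (Steps.fwd (nat_lit 10240) (Steps.fwd (nat_lit 10240) (Steps.fwd (nat_lit 8192) (Steps.fwd (nat_lit 12288) Steps.nil)))))))) (nat_lit 25) (nat_lit 6),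
  Rule.mk (nat_lit 5) (nat_lit 106) (Steps.bwd (nat_lit 5) (Steps.bwd (nat_lit 4) (Steps.bwd (nat_lit 5) (Steps.bwd (nat_lit 4) (Steps.fwd (nat_lit 10240) (Steps.bwd (nat_lit 6) (Steps.fwd (nat_lit 10240) (Steps.fwd (nat_lit 8192) Steps.nil)))))))) (nat_lit 25) (nat_lit 5),
  Rule.mk (nat_lit 4) (nat_lit 46) (Steps.fwd (nat_lit 14336) (Steps.bwd (nat_lit 4) (Steps.bwd (nat_lit 7) Steps.nil))) (nat_lit 34) (nat_lit 0),
  Rule.mk (nat_lit 6) (nat_lit 58) (Steps.fwd (nat_lit 10240) (Steps.bwd (nat_lit 8) (Steps.fwd (nat_lit 12288) (Steps.bwd (nat_lit 7) Steps.nil)))) (nat_lit 36) (nat_lit 4),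
  Rule.mk (nat_lit 5) (nat_lit 58) (Steps.fwd (nat_lit 12288) (Steps.bwd (nat_lit 8) (Steps.fwd (nat_lit 10240) (Steps.bwd (nat_lit 7) Steps.nil)))) (nat_lit 37) (nat_lit 1),
  Rule.mk (nat_lit 4) (nat_lit 106) (Steps.bwd (nat_lit 6) (Steps.bwd (nat_lit 4) (Steps.fwd (nat_lit 10240) (Steps.bwd (nat_lit 6) (Steps.fwd (nat_lit 8192) (Steps.bwd (nat_lit 5) (Steps.fwd (nat_lit 12288) (Steps.bwd (nat_lit 5) Steps.nil)))))))) (nat_lit 24) (nat_lit 1),
  Rule.mk (nat_lit 7) (nat_lit 46) (Steps.fwd (nat_lit 8192) (Steps.fwd (nat_lit 14336) (Steps.bwd (nat_lit 4) Steps.nil))) (nat_lit 34) (nat_lit 3),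
  Rule.mk (nat_lit 1) (nat_lit 106) (Steps.bwd (nat_lit 3) (Steps.bwd (nat_lit 2) (Steps.bwd (nat_lit 3) (Steps.fwd (nat_lit 4096) (Steps.bwd (nat_lit 3) (Steps.bwd (nat_lit 2) (Steps.fwd (nat_lit 6144) (Steps.fwd (nat_lit 4096) Steps.nil)))))))) (nat_lit 10) (nat_lit 1),
  Rule.mk (nat_lit 5) (nat_lit 82) (Steps.bwd (nat_lit 5) (Steps.bwd (nat_lit 5) (Steps.bwd (nat_lit 5) (Steps.fwd (nat_lit 12288) (Steps.fwd (nat_lit 12288) (Steps.fwd (nat_lit 12288) Steps.nil)))))) (nat_lit 16) (nat_lit 0),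
  Rule.mk (nat_lit 4) (nat_lit 106) (Steps.bwd (nat_lit 5) (Steps.fwd (nat_lit 8192) (Steps.bwd (nat_lit 6) (Steps.bwd (nat_lit 6) (Steps.fwd (nat_lit 10240) (Steps.fwd (nat_lit 8192) (Steps.fwd (nat_lit 12288) (Steps.bwd (nat_lit 5) Steps.nil)))))))) (nat_lit 25) (nat_lit 9),
  Rule.mk (nat_lit 2) (nat_lit 634) (Steps.bwd (nat_lit 3) (Steps.bwd (nat_lit 4) (Steps.bwd (nat_lit 3) (Steps.bwd (nat_lit 2) (Steps.bwd (nat_lit 3) (Steps.bwd (nat_lit 6) (Steps.bwd (nat_lit 4) (Steps.bwd (nat_lit 3) (Steps.bwd (nat_lit 2) (Steps.bwd (nat_lit 3) (Steps.bwd (nat_lit 4) (Steps.bwd (nat_lit 5) (Steps.bwd (nat_lit 4) (Steps.bwd (nat_lit 5) (Steps.bwd (nat_lit 4) (Steps.bwd (nat_lit 3) (Steps.bwd (nat_lit 2) (Steps.bwd (nat_lit 3) (Steps.bwd (nat_lit 4) (Steps.bwd (nat_lit 5) (Steps.bwd (nat_lit 4) (Steps.bwd (nat_lit 3) (Steps.fwd (nat_lit 4096) (Steps.bwd (nat_lit 3) (Steps.fwd (nat_lit 8192) (Steps.fwd (nat_lit 10240) (Steps.fwd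 (nat_lit 10240) (Steps.bwd (nat_lit 6) (Steps.fwd (nat_lit 8192) (Steps.fwd (nat_lit 6144) (Steps.bwd (nat_lit 2) (Steps.bwd (nat_lit 3) (Steps.bwd (nat_lit 4) (Steps.fwd (nat_lit 10240) (Steps.bwd (nat_lit 4) (Steps.bwd (nat_lit 3) (Steps.fwd (nat_lit 4096) (Steps.fwd (nat_lit 6144) (Steps.fwd (nat_lit 8192) (Steps.bwd (nat_lit 5) (Steps.fwd (nat_lit 12288) (Steps.bwd (nat_lit 2) (Steps.bwd (nat_lit 3) (Steps.bwd (nat_lit 4) (Steps.bwd (nat_lit 6) (Steps.fwd (nat_lit 8192) (Steps.bwd (nat_lit 3) (Steps.fwd (nat_lit 4096) (Steps.fwd (nat_lit 6144) (Steps.fwd (nat_lit 8192) (Steps.bwd (nat_lit 5) (Steps.bwd (nat_lit 4) Steps.nil)))))))))))))))))))))))))))))))))))))))))))))))))))) (nat_lit 44) (nat_lit 12),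
  Rule.mk (nat_lit 2) (nat_lit 106) (Steps.fwd (nat_lit 6144) (Steps.fwd (nat_lit 4096) (Steps.fwd (nat_lit 2048) (Steps.bwd (nat_lit 3) (Steps.bwd (nat_lit 2) (Steps.fwd (nat_lit 6144) (Steps.bwd (nat_lit 2) (Steps.bwd (nat_lit 3) Steps.nil)))))))) (nat_lit 10) (nat_lit 7),
  Rule.mk (nat_lit 7) (nat_lit 58) (Steps.bwd (nat_lit 5) (Steps.fwd (nat_lit 12288) (Steps.bwd (nat_lit 8) (Steps.bwd (nat_lit 6) Steps.nil)))) (nat_lit 37) (nat_lit 0),
  Rule.mk (nat_lit 1) (nat_lit 46) (Steps.bwd (nat_lit 6) (Steps.fwd (nat_lit 2048) (Steps.fwd (nat_lit 12288) Steps.nil))) (nat_lit 18) (nat_lit 0),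
  Rule.mk (nat_lit 6) (nat_lit 634) (Steps.fwd (nat_lit 8192) (Steps.fwd (nat_lit 6144) (Steps.fwd (nat_lit 4096) (Steps.fwd (nat_lit 6144) (Steps.fwd (nat_lit 8192) (Steps.fwd (nat_lit 12288) (Steps.fwd (nat_lit 8192) (Steps.fwd (nat_lit 4096) (Steps.fwd (nat_lit 6144) (Steps.fwd (nat_lit 8192) (Steps.fwd (nat_lit 6144) (Steps.fwd (nat_lit 4096) (Steps.fwd (nat_lit 6144) (Steps.bwd (nat_lit 6) (Steps.fwd (nat_lit 8192) (Steps.fwd (nat_lit 6144) (Steps.fwd (nat_lit 4096) (Steps.fwd (nat_lit 6144) (Steps.fwd (nat_lit 8192) (Steps.fwd (nat_lit 12288) (Steps.fwd (nat_lit 8192) (Steps.bwd (nat_lit 5) (Steps.fwd (nat_lit 8192) (Steps.fwd (nat_lit 6144) (Steps.fwd (nat_lit 4096) (Steps.bwd (nat_lit 3) (Steps.bwd (nat_lit 4) (Steps.fwd (nat_lit 12288) (Steps.bwd (nat_lit 4) (Steps.bwd (nat_lit 3) (Steps.bwd (nat_lit 2) (Steps.fwd (nat_lit 6144) (Steps.bwd (nat_lit 4) (Steps.fwd (nat_lit 10240) (Steps.fwd (nat_lit 10240) (Steps.fwd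 (nat_lit 10240) (Steps.bwd (nat_lit 4) (Steps.bwd (nat_lit 3) (Steps.fwd (nat_lit 4096) (Steps.fwd (nat_lit 6144) (Steps.fwd (nat_lit 8192) (Steps.bwd (nat_lit 6) (Steps.bwd (nat_lit 4) (Steps.fwd (nat_lit 6144) (Steps.bwd (nat_lit 2) (Steps.bwd (nat_lit 3) (Steps.fwd (nat_lit 8192) (Steps.bwd (nat_lit 5) (Steps.fwd (nat_lit 12288) (Steps.fwd (nat_lit 4096) (Steps.bwd (nat_lit 3) (Steps.bwd (nat_lit 4) Steps.nil)))))))))))))))))))))))))))))))))))))))))))))))))))) (nat_lit 44) (nat_lit 4),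
  Rule.mk (nat_lit 6) (nat_lit 106) (Steps.bwd (nat_lit 6) (Steps.bwd (nat_lit 4) (Steps.fwd (nat_lit 12288) (Steps.bwd (nat_lit 5) (Steps.bwd (nat_lit 5) (Steps.bwd (nat_lit 4) (Steps.bwd (nat_lit 6) (Steps.fwd (nat_lit 8192) Steps.nil)))))))) (nat_lit 24) (nat_lit 6),
  Rule.mk (nat_lit 5) (nat_lit 82) (Steps.bwd (nat_lit 5) (Steps.fwd (nat_lit 12288) (Steps.bwd (nat_lit 5) (Steps.fwd (nat_lit 12288) (Steps.bwd (nat_lit 5) (Steps.fwd (nat_lit 12288) Steps.nil)))))) (nat_lit 16) (nat_lit 0),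
  Rule.mk (nat_lit 3) (nat_lit 46) (Steps.bwd (nat_lit 5) (Steps.fwd (nat_lit 6144) (Steps.bwd (nat_lit 5) Steps.nil))) (nat_lit 22) (nat_lit 0),
  Rule.mk (nat_lit 8) (nat_lit 58) (Steps.fwd (nat_lit 10240) (Steps.fwd (nat_lit 16384) (Steps.fwd (nat_lit 12288) (Steps.bwd (nat_lit 5) Steps.nil)))) (nat_lit 37) (nat_lit 3),
  Rule.mk (nat_lit 6) (nat_lit 106) (Steps.bwd (nat_lit 4) (Steps.bwd (nat_lit 5) (Steps.fwd (nat_lit 12288) (Steps.bwd (nat_lit 5) (Steps.fwd (nat_lit 8192) (Steps.fwd (nat_lit 10240) (Steps.fwd (nat_lit 8192) (Steps.fwd (nat_lit 10240) Steps.nil)))))))) (nat_lit 24) (nat_lit 7),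
  Rule.mk (nat_lit 7) (nat_lit 58) (Steps.bwd (nat_lit 5) (Steps.bwd (nat_lit 5) (Steps.fwd (nat_lit 14336) (Steps.bwd (nat_lit 6) Steps.nil)))) (nat_lit 37) (nat_lit 0),
  Rule.mk (nat_lit 4) (nat_lit 106) (Steps.bwd (nat_lit 5) (Steps.bwd (nat_lit 4) (Steps.fwd (nat_lit 10240) (Steps.bwd (nat_lit 6) (Steps.fwd (nat_lit 10240) (Steps.fwd (nat_lit 8192) (Steps.fwd (nat_lit 12288) (Steps.fwd (nat_lit 12288) Steps.nil)))))))) (nat_lit 25) (nat_lit 9),
  Rule.mk (nat_lit 3) (nat_lit 634) (Steps.bwd (nat_lit 2) (Steps.bwd (nat_lit 3) (Steps.bwd (nat_lit 4) (Steps.fwd (nat_lit 12288) (Steps.bwd (nat_lit 5) (Steps.fwd (nat_lit 4096) (Steps.fwd (nat_lit 6144) (Steps.bwd (nat_lit 4) (Steps.bwd (nat_lit 6) (Steps.fwd (nat_lit 8192) (Steps.bwd (nat_lit 3) (Steps.bwd (nat_lit 2) (Steps.fwd (nat_lit 6144) (Steps.bwd (nat_lit 4) (Steps.fwd (nat_lit 12288) (Steps.bwd (nat_lit 4) (Steps.fwd (nat_lit 4096) (Steps.fwd (nat_lit 6144)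 (Steps.bwd (nat_lit 4) (Steps.bwd (nat_lit 3) (Steps.bwd (nat_lit 2) (Steps.bwd (nat_lit 3) (Steps.fwd (nat_lit 10240) (Steps.bwd (nat_lit 4) (Steps.fwd (nat_lit 6144) (Steps.fwd (nat_lit 4096) (Steps.bwd (nat_lit 3) (Steps.bwd (nat_lit 4) (Steps.fwd (nat_lit 12288) (Steps.fwd (nat_lit 8192) (Steps.fwd (nat_lit 12288) (Steps.fwd (nat_lit 8192) (Steps.fwd (nat_lit 6144) (Steps.bwd (nat_lit 2) (Steps.bwd (nat_lit 3) (Steps.bwd (nat_lit 4) (Steps.fwd (nat_lit 12288) (Steps.bwd (nat_lit 4) (Steps.bwd (nat_lit 3) (Steps.bwd (nat_lit 2) (Steps.bwd (nat_lit 3) (Steps.bwd (nat_lit 4) (Steps.bwd (nat_lit 6) (Steps.fwd (nat_lit 10240) (Steps.fwd (nat_lit 10240) (Steps.bwd (nat_lit 4) (Steps.bwd (nat_lit 3) (Steps.bwd (nat_lit 2) (Steps.bwd (nat_lit 3) (Steps.bwd (nat_lit 4) (Steps.fwd (nat_lit 10240) (Steps.fwd (nat_lit 8192) Steps.nil)))))))))))))))))))))))))))))))))))))))))))))))))))) (nat_lit 44) (nat_lit 48),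
  Rule.mk (nat_lit 6) (nat_lit 106) (Steps.bwd (nat_lit 4) (Steps.fwd (nat_lit 12288) (Steps.fwd (nat_lit 12288) (Steps.bwd (nat_lit 5) (Steps.bwd (nat_lit 4) (Steps.fwd (nat_lit 10240) (Steps.fwd (nat_lit 8192) (Steps.bwd (nat_lit 6) Steps.nil)))))))) (nat_lit 24) (nat_lit 7),
  Rule.mk (nat_lit 7) (nat_lit 58) (Steps.fwd (nat_lit 12288) (Steps.bwd (nat_lit 5) (Steps.bwd (nat_lit 8) (Steps.bwd (nat_lit 6) Steps.nil)))) (nat_lit 37) (nat_lit 0),
  Rule.mk (nat_lit 6) (nat_lit 634) (Steps.bwd (nat_lit 6) (Steps.bwd (nat_lit 4) (Steps.bwd (nat_lit 3) (Steps.bwd (nat_lit 2) (Steps.bwd (nat_lit 3) (Steps.bwd (nat_lit 4) (Steps.bwd (nat_lit 6) (Steps.bwd (nat_lit 4) (Steps.bwd (nat_lit 3) (Steps.bwd (nat_lit 2) (Steps.fwd (nat_lit 6144) (Steps.fwd (nat_lit 8192) (Steps.fwd (nat_lit 12288) (Steps.bwd (nat_lit 5) (Steps.fwd (nat_lit 4096) (Steps.fwd (nat_lit 6144) (Steps.fwd (nat_lit 8192) (Steps.fwd (nat_lit 10240) (Steps.bwd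 (nat_lit 4) (Steps.fwd (nat_lit 6144) (Steps.fwd (nat_lit 4096) (Steps.fwd (nat_lit 6144) (Steps.fwd (nat_lit 8192) (Steps.fwd (nat_lit 12288) (Steps.bwd (nat_lit 4) (Steps.fwd (nat_lit 4096) (Steps.fwd (nat_lit 6144) (Steps.fwd (nat_lit 8192) (Steps.bwd (nat_lit 3) (Steps.bwd (nat_lit 2) (Steps.fwd (nat_lit 6144) (Steps.fwd (nat_lit 10240) (Steps.fwd (nat_lit 8192) (Steps.bwd (nat_lit 3) (Steps.fwd (nat_lit 4096) (Steps.fwd (nat_lit 6144) (Steps.fwd (nat_lit 8192) (Steps.fwd (nat_lit 12288) (Steps.fwd (nat_lit 8192) (Steps.bwd (nat_lit 5) (Steps.bwd (nat_lit 4) (Steps.fwd (nat_lit 6144) (Steps.fwd (nat_lit 4096) (Steps.fwd (nat_lit 6144) (Steps.bwd (nat_lit 4) (Steps.fwd (nat_lit 12288) (Steps.fwd (nat_lit 8192) (Steps.fwd (nat_lit 6144) (Steps.fwd (nat_lit 4096) (Steps.fwd (nat_lit 6144) (Steps.fwd (nat_lit 8192) (Steps.fwd (nat_lit 10240) Steps.nil)))))))))))))))))))))))))))))))))))))))))))))))))))) (nat_lit 44)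 (nat_lit 39),
  Rule.mk (nat_lit 6) (nat_lit 82) (Steps.bwd (nat_lit 6) (Steps.bwd (nat_lit 6) (Steps.bwd (nat_lit 6) (Steps.fwd (nat_lit 10240) (Steps.bwd (nat_lit 6) (Steps.bwd (nat_lit 6) Steps.nil)))))) (nat_lit 17) (nat_lit 0),
  Rule.mk (nat_lit 5) (nat_lit 106) (Steps.fwd (nat_lit 12288) (Steps.fwd (nat_lit 12288) (Steps.bwd (nat_lit 4) (Steps.bwd (nat_lit 6) (Steps.fwd (nat_lit 8192) (Steps.bwd (nat_lit 6) (Steps.bwd (nat_lit 6) (Steps.bwd (nat_lit 4) Steps.nil)))))))) (nat_lit 24) (nat_lit 9),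
  Rule.mk (nat_lit 5) (nat_lit 106) (Steps.bwd (nat_lit 5) (Steps.fwd (nat_lit 12288) (Steps.fwd (nat_lit 8192) (Steps.fwd (nat_lit 10240) (Steps.bwd (nat_lit 4) (Steps.fwd (nat_lit 10240) (Steps.fwd (nat_lit 10240) (Steps.fwd (nat_lit 8192) Steps.nil)))))))) (nat_lit 24) (nat_lit 9),
  Rule.mk (nat_lit 3) (nat_lit 634) (Steps.bwd (nat_lit 2) (Steps.fwd (nat_lit 6144) (Steps.fwd (nat_lit 8192) (Steps.fwd (nat_lit 12288) (Steps.bwd (nat_lit 5) (Steps.bwd (nat_lit 5) (Steps.bwd (nat_lit 4) (Steps.bwd (nat_lit 3) (Steps.fwd (nat_lit 4096) (Steps.bwd (nat_lit 3) (Steps.bwd (nat_lit 4) (Steps.bwd (nat_lit 6) (Steps.bwd (nat_lit 4) (Steps.bwd (nat_lit 3) (Steps.bwd (nat_lit 2) (Steps.bwd (nat_lit 3) (Steps.fwd (nat_lit 8192) (Steps.fwd (nat_lit 10240) (Steps.fwd (nat_lit 8192) (Steps.fwd (nat_lit 10240) (Steps.fwd (nat_lit 8192) (Steps.fwd (nat_lit 6144) (Steps.fwd (nat_lit 4096) (Steps.fwd (nat_lit 6144) (Steps.fwd (nat_lit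 8192) (Steps.fwd (nat_lit 12288) (Steps.fwd (nat_lit 6144) (Steps.fwd (nat_lit 4096) (Steps.bwd (nat_lit 3) (Steps.fwd (nat_lit 8192) (Steps.fwd (nat_lit 6144) (Steps.fwd (nat_lit 4096) (Steps.bwd (nat_lit 4) (Steps.bwd (nat_lit 6) (Steps.bwd (nat_lit 4) (Steps.bwd (nat_lit 3) (Steps.bwd (nat_lit 2) (Steps.fwd (nat_lit 6144) (Steps.bwd (nat_lit 4) (Steps.bwd (nat_lit 5) (Steps.bwd (nat_lit 4) (Steps.fwd (nat_lit 6144) (Steps.fwd (nat_lit 4096) (Steps.fwd (nat_lit 10240) (Steps.fwd (nat_lit 10240) (Steps.fwd (nat_lit 8192) (Steps.fwd (nat_lit 6144) (Steps.bwd (nat_lit 2) (Steps.bwd (nat_lit 3) (Steps.fwd (nat_lit 8192) (Steps.bwd (nat_lit 5) (Steps.fwd (nat_lit 8192) Steps.nil)))))))))))))))))))))))))))))))))))))))))))))))))))) (nat_lit 45) (nat_lit 10),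
  Rule.mk (nat_lit 1) (nat_lit 106) (Steps.bwd (nat_lit 3) (Steps.bwd (nat_lit 2) (Steps.fwd (nat_lit 6144) (Steps.fwd (nat_lit 4096) (Steps.bwd (nat_lit 3) (Steps.bwd (nat_lit 2) (Steps.fwd (nat_lit 6144) (Steps.fwd (nat_lit 4096) Steps.nil)))))))) (nat_lit 10) (nat_lit 1),
  Rule.mk (nat_lit 4) (nat_lit 46) (Steps.bwd (nat_lit 7) (Steps.fwd (nat_lit 8192) (Steps.fwd (nat_lit 14336) Steps.nil))) (nat_lit 34) (nat_lit 2),
  Rule.mk (nat_lit 5) (nat_lit 58) (Steps.bwd (nat_lit 7) (Steps.bwd (nat_lit 6) (Steps.fwd (nat_lit 10240) (Steps.fwd (nat_lit 14336) Steps.nil)))) (nat_lit 36) (nat_lit 2),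
  Rule.mk (nat_lit 6) (nat_lit 58) (Steps.bwd (nat_lit 7) (Steps.bwd (nat_lit 5) (Steps.fwd (nat_lit 12288) (Steps.fwd (nat_lit 14336) Steps.nil)))) (nat_lit 37) (nat_lit 4),
  Rule.mk (nat_lit 0) (nat_lit 58) (Steps.fwd (nat_lit 2048) (Steps.fwd (nat_lit 8192) (Steps.bwd (nat_lit 1) (Steps.bwd (nat_lit 4) Steps.nil)))) (nat_lit 8) (nat_lit 0)]
noncomputable def R_8 : List (Rule) := [Rule.mk (nat_lit 0) (nat_lit 46) (Steps.fwd (nat_lit 12288) (Steps.bwd (nat_lit 0) (Steps.bwd (nat_lit 6) Steps.nil))) (nat_lit 230) (nat_lit 0),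
  Rule.mk (nat_lit 4) (nat_lit 70) (Steps.fwd (nat_lit 6144) (Steps.bwd (nat_lit 4) (Steps.fwd (nat_lit 6144) (Steps.fwd (nat_lit 8192) (Steps.fwd (nat_lit 6144) Steps.nil))))) (nat_lit 14) (nat_lit 0),
  Rule.mk (nat_lit 1) (nat_lit 46) (Steps.bwd (nat_lit 7) (Steps.fwd (nat_lit 2048) (Steps.fwd (nat_lit 14336) Steps.nil))) (nat_lit 28) (nat_lit 2),
  Rule.mk (nat_lit 8) (nat_lit 46) (Steps.bwd (nat_lit 1) (Steps.fwd (nat_lit 16384) (Steps.bwd (nat_lit 1) Steps.nil))) (nat_lit 28) (nat_lit 1),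
  Rule.mk (nat_lit 4) (nat_lit 634) (Steps.bwd (nat_lit 5) (Steps.bwd (nat_lit 4) (Steps.bwd (nat_lit 3) (Steps.bwd (nat_lit 2) (Steps.bwd (nat_lit 3) (Steps.bwd (nat_lit 4) (Steps.bwd (nat_lit 6) (Steps.bwd (nat_lit 6) (Steps.bwd (nat_lit 6) (Steps.fwd (nat_lit 8192) (Steps.fwd (nat_lit 6144) (Steps.fwd (nat_lit 4096) (Steps.fwd (nat_lit 6144) (Steps.bwd (nat_lit 4) (Steps.fwd (nat_lit 10240) (Steps.fwd (nat_lit 8192) (Steps.bwd (nat_lit 3) (Steps.fwd (nat_lit 4096) (Steps.fwd (nat_lit 6144) (Steps.bwd (nat_lit 4) (Steps.fwd (nat_lit 12288) (Steps.fwd (nat_lit 12288) (Steps.bwd (nat_lit 2) (Steps.bwd (nat_lit 3) (Steps.bwd (nat_lit 4) (Steps.bwd (nat_lit 6) (Steps.bwd (nat_lit 4) (Steps.fwd (nat_lit 6144) (Steps.fwd (nat_lit 4096) (Steps.bwd (nat_lit 3) (Steps.fwd (nat_lit 8192) (Steps.bwd (nat_lit 5) (Steps.bwd (nat_lit 4) (Steps.bwd (nat_lit 2) (Steps.bwd (nat_lit 3) (Steps.bwd (nat_lit 4) (Steps.fwd (nat_lit 6144)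 (Steps.fwd (nat_lit 4096) (Steps.bwd (nat_lit 3) (Steps.bwd (nat_lit 6) (Steps.fwd (nat_lit 8192) (Steps.bwd (nat_lit 3) (Steps.fwd (nat_lit 4096) (Steps.fwd (nat_lit 6144) (Steps.fwd (nat_lit 8192) (Steps.bwd (nat_lit 5) (Steps.bwd (nat_lit 4) (Steps.bwd (nat_lit 5) (Steps.bwd (nat_lit 4) (Steps.fwd (nat_lit 6144) (Steps.fwd (nat_lit 4096) (Steps.fwd (nat_lit 6144) Steps.nil)))))))))))))))))))))))))))))))))))))))))))))))))))) (nat_lit 44) (nat_lit 31),
  Rule.mk (nat_lit 6) (nat_lit 106) (Steps.bwd (nat_lit 6) (Steps.fwd (nat_lit 10240) (Steps.fwd (nat_lit 8192) (Steps.fwd (nat_lit 12288) (Steps.bwd (nat_lit 5) (Steps.bwd (nat_lit 4) (Steps.bwd (nat_lit 5) (Steps.bwd (nat_lit 4) Steps.nil)))))))) (nat_lit 25) (nat_lit 1),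
  Rule.mk (nat_lit 5) (nat_lit 106) (Steps.fwd (nat_lit 8192) (Steps.fwd (nat_lit 12288) (Steps.fwd (nat_lit 8192) (Steps.fwd (nat_lit 10240) (Steps.fwd (nat_lit 10240) (Steps.fwd (nat_lit 10240) (Steps.bwd (nat_lit 4) (Steps.bwd (nat_lit 5) Steps.nil)))))))) (nat_lit 25) (nat_lit 6),
  Rule.mk (nat_lit 3) (nat_lit 46) (Steps.bwd (nat_lit 7) (Steps.bwd (nat_lit 3) (Steps.bwd (nat_lit 8) Steps.nil))) (nat_lit 32) (nat_lit 2),
  Rule.mk (nat_lit 2) (nat_lit 46) (Steps.bwd (nat_lit 7) (Steps.fwd (nat_lit 4096) (Steps.bwd (nat_lit 8) Steps.nil))) (nat_lit 30) (nat_lit 2),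
  Rule.mk (nat_lit 2) (nat_lit 106) (Steps.bwd (nat_lit 3) (Steps.bwd (nat_lit 2) (Steps.bwd (nat_lit 1) (Steps.fwd (nat_lit 6144) (Steps.bwd (nat_lit 2) (Steps.bwd (nat_lit 3) (Steps.bwd (nat_lit 2) (Steps.bwd (nat_lit 3) Steps.nil)))))))) (nat_lit 10) (nat_lit 7),
  Rule.mk (nat_lit 4) (nat_lit 46) (Steps.bwd (nat_lit 8) (Steps.fwd (nat_lit 8192) (Steps.bwd (nat_lit 7) Steps.nil))) (nat_lit 34) (nat_lit 0),
  Rule.mk (nat_lit 2) (nat_lit 634) (Steps.fwd (nat_lit 8192) (Steps.bwd (nat_lit 6) (Steps.fwd (nat_lit 8192) (Steps.fwd (nat_lit 6144) (Steps.fwd (nat_lit 4096) (Steps.bwd (nat_lit 3) (Steps.bwd (nat_lit 4) (Steps.bwd (nat_lit 5) (Steps.bwd (nat_lit 4) (Steps.bwd (nat_lit 3) (Steps.bwd (nat_lit 2) (Steps.bwd (nat_lit 6) (Steps.fwd (nat_lit 10240) (Steps.fwd (nat_lit 8192) (Steps.bwd (nat_lit 3) (Steps.fwd (nat_lit 4096) (Steps.fwd (nat_lit 6144) (Steps.fwd (nat_lit 8192) (Steps.fwd (nat_lit 12288) (Steps.fwd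 (nat_lit 8192) (Steps.fwd (nat_lit 6144) (Steps.fwd (nat_lit 4096) (Steps.fwd (nat_lit 6144) (Steps.fwd (nat_lit 8192) (Steps.fwd (nat_lit 12288) (Steps.bwd (nat_lit 5) (Steps.fwd (nat_lit 12288) (Steps.fwd (nat_lit 8192) (Steps.fwd (nat_lit 6144) (Steps.fwd (nat_lit 4096) (Steps.fwd (nat_lit 6144) (Steps.fwd (nat_lit 8192) (Steps.fwd (nat_lit 10240) (Steps.bwd (nat_lit 4) (Steps.bwd (nat_lit 3) (Steps.bwd (nat_lit 2) (Steps.fwd (nat_lit 6144) (Steps.fwd (nat_lit 8192) (Steps.bwd (nat_lit 6) (Steps.fwd (nat_lit 8192) (Steps.bwd (nat_lit 6) (Steps.bwd (nat_lit 4) (Steps.bwd (nat_lit 3) (Steps.bwd (nat_lit 2) (Steps.fwd (nat_lit 6144) (Steps.bwd (nat_lit 4) (Steps.fwd (nat_lit 12288) (Steps.bwd (nat_lit 3) (Steps.fwd (nat_lit 4096) (Steps.fwd (nat_lit 6144) (Steps.fwd (nat_lit 8192) (Steps.bwd (nat_lit 3) Steps.nil)))))))))))))))))))))))))))))))))))))))))))))))))))) (nat_lit 45) (nat_lit 42),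
  Rule.mk (nat_lit 6) (nat_lit 106) (Steps.bwd (nat_lit 6) (Steps.bwd (nat_lit 4) (Steps.bwd (nat_lit 5) (Steps.fwd (nat_lit 12288) (Steps.bwd (nat_lit 5) (Steps.bwd (nat_lit 4) (Steps.bwd (nat_lit 6) (Steps.bwd (nat_lit 4) Steps.nil)))))))) (nat_lit 24) (nat_lit 6),
  Rule.mk (nat_lit 4) (nat_lit 106) (Steps.bwd (nat_lit 6) (Steps.fwd (nat_lit 10240) (Steps.bwd (nat_lit 4) (Steps.bwd (nat_lit 5) (Steps.fwd (nat_lit 12288) (Steps.fwd (nat_lit 12288) (Steps.bwd (nat_lit 4) (Steps.bwd (nat_lit 6) Steps.nil)))))))) (nat_lit 24) (nat_lit 3),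
  Rule.mk (nat_lit 4) (nat_lit 634) (Steps.bwd (nat_lit 2) (Steps.fwd (nat_lit 6144) (Steps.bwd (nat_lit 4) (Steps.bwd (nat_lit 3) (Steps.bwd (nat_lit 2) (Steps.bwd (nat_lit 3) (Steps.bwd (nat_lit 6) (Steps.bwd (nat_lit 4) (Steps.bwd (nat_lit 3) (Steps.bwd (nat_lit 2) (Steps.fwd (nat_lit 6144) (Steps.fwd (nat_lit 8192) (Steps.fwd (nat_lit 12288) (Steps.fwd (nat_lit 8192) (Steps.fwd (nat_lit 12288) (Steps.bwd (nat_lit 4) (Steps.bwd (nat_lit 3) (Steps.bwd (nat_lit 2) (Steps.bwd (nat_lit 3) (Steps.bwd (nat_lit 4) (Steps.bwd (nat_lit 5) (Steps.bwd (nat_lit 4) (Steps.fwd (nat_lit 6144) (Steps.bwd (nat_lit 2) (Steps.bwd (nat_lit 3) (Steps.bwd (nat_lit 4) (Steps.bwd (nat_lit 6) (Steps.bwd (nat_lit 6) (Steps.bwd (nat_lit 6) (Steps.bwd (nat_lit 4) (Steps.bwd (nat_lit 3) (Steps.bwd (nat_lit 2) (Steps.fwd (nat_lit 6144) (Steps.bwd (nat_lit 4) (Steps.fwd (nat_lit 10240) (Steps.bwd (nat_lit 4) (Steps.fwd (nat_lit 6144) (Steps.fwd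 (nat_lit 4096) (Steps.fwd (nat_lit 6144) (Steps.fwd (nat_lit 8192) (Steps.fwd (nat_lit 12288) (Steps.bwd (nat_lit 5) (Steps.fwd (nat_lit 4096) (Steps.fwd (nat_lit 6144) (Steps.fwd (nat_lit 8192) (Steps.bwd (nat_lit 6) (Steps.fwd (nat_lit 8192) (Steps.fwd (nat_lit 6144) (Steps.fwd (nat_lit 4096) (Steps.fwd (nat_lit 6144) (Steps.fwd (nat_lit 8192) (Steps.fwd (nat_lit 12288) Steps.nil)))))))))))))))))))))))))))))))))))))))))))))))))))) (nat_lit 44) (nat_lit 11),
  Rule.mk (nat_lit 5) (nat_lit 82) (Steps.bwd (nat_lit 5) (Steps.bwd (nat_lit 5) (Steps.bwd (nat_lit 5) (Steps.bwd (nat_lit 5) (Steps.fwd (nat_lit 12288) (Steps.fwd (nat_lit 12288) Steps.nil)))))) (nat_lit 16) (nat_lit 0),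
  Rule.mk (nat_lit 2) (nat_lit 46) (Steps.bwd (nat_lit 6) (Steps.bwd (nat_lit 2) (Steps.bwd (nat_lit 5) Steps.nil))) (nat_lit 20) (nat_lit 0),
  Rule.mk (nat_lit 6) (nat_lit 106) (Steps.bwd (nat_lit 4) (Steps.bwd (nat_lit 6) (Steps.bwd (nat_lit 6) (Steps.fwd (nat_lit 8192) (Steps.bwd (nat_lit 5) (Steps.bwd (nat_lit 5) (Steps.bwd (nat_lit 5) (Steps.fwd (nat_lit 8192) Steps.nil)))))))) (nat_lit 24) (nat_lit 2),
  Rule.mk (nat_lit 2) (nat_lit 634) (Steps.bwd (nat_lit 3) (Steps.bwd (nat_lit 4) (Steps.bwd (nat_lit 3) (Steps.bwd (nat_lit 2) (Steps.bwd (nat_lit 3) (Steps.bwd (nat_lit 6) (Steps.bwd (nat_lit 4) (Steps.bwd (nat_lit 3) (Steps.bwd (nat_lit 2) (Steps.bwd (nat_lit 3) (Steps.bwd (nat_lit 4) (Steps.bwd (nat_lit 5) (Steps.bwd (nat_lit 4) (Steps.bwd (nat_lit 5) (Steps.bwd (nat_lit 4) (Steps.bwd (nat_lit 3) (Steps.bwd (nat_lit 2) (Steps.bwd (nat_lit 3) (Steps.bwd (nat_lit 4) (Steps.bwd (nat_lit 5) (Steps.bwd (nat_lit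 4) (Steps.bwd (nat_lit 3) (Steps.bwd (nat_lit 2) (Steps.bwd (nat_lit 3) (Steps.bwd (nat_lit 4) (Steps.fwd (nat_lit 10240) (Steps.bwd (nat_lit 6) (Steps.fwd (nat_lit 10240) (Steps.bwd (nat_lit 4) (Steps.bwd (nat_lit 3) (Steps.bwd (nat_lit 2) (Steps.bwd (nat_lit 3) (Steps.bwd (nat_lit 4) (Steps.fwd (nat_lit 10240) (Steps.fwd (nat_lit 8192) (Steps.fwd (nat_lit 6144) (Steps.bwd (nat_lit 2) (Steps.bwd (nat_lit 3) (Steps.fwd (nat_lit 8192) (Steps.bwd (nat_lit 5) (Steps.bwd (nat_lit 5) (Steps.bwd (nat_lit 2) (Steps.bwd (nat_lit 3) (Steps.bwd (nat_lit 4) (Steps.bwd (nat_lit 6) (Steps.bwd (nat_lit 4) (Steps.bwd (nat_lit 3) (Steps.fwd (nat_lit 4096) (Steps.fwd (nat_lit 6144) (Steps.bwd (nat_lit 4) (Steps.fwd (nat_lit 12288) (Steps.fwd (nat_lit 8192) Steps.nil)))))))))))))))))))))))))))))))))))))))))))))))))))) (nat_lit 44) (nat_lit 12),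
  Rule.mk (nat_lit 4) (nat_lit 46) (Steps.fwd (nat_lit 4096) (Steps.fwd (nat_lit 8192) (Steps.bwd (nat_lit 2) Steps.nil))) (nat_lit 12) (nat_lit 0),
  Rule.mk (nat_lit 0) (nat_lit 118) (Steps.fwd (nat_lit 6144) (Steps.fwd (nat_lit 4096) (Steps.fwd (nat_lit 6144) (Steps.fwd (nat_lit 4096) (Steps.fwd (nat_lit 6144) (Steps.fwd (nat_lit 4096) (Steps.fwd (nat_lit 6144) (Steps.bwd (nat_lit 1) (Steps.bwd (nat_lit 2) Steps.nil))))))))) (nat_lit 11) (nat_lit 1),
  Rule.mk (nat_lit 5) (nat_lit 106) (Steps.bwd (nat_lit 4) (Steps.bwd (nat_lit 6) (Steps.bwd (nat_lit 4) (Steps.bwd (nat_lit 6) (Steps.bwd (nat_lit 6) (Steps.bwd (nat_lit 4) (Steps.fwd (nat_lit 12288) (Steps.bwd (nat_lit 5) Steps.nil)))))))) (nat_lit 24) (nat_lit 0),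
  Rule.mk (nat_lit 5) (nat_lit 82) (Steps.bwd (nat_lit 5) (Steps.fwd (nat_lit 12288) (Steps.fwd (nat_lit 12288) (Steps.bwd (nat_lit 5) (Steps.fwd (nat_lit 12288) (Steps.fwd (nat_lit 12288) Steps.nil)))))) (nat_lit 16) (nat_lit 0),
  Rule.mk (nat_lit 6) (nat_lit 106) (Steps.bwd (nat_lit 6) (Steps.fwd (nat_lit 8192) (Steps.bwd (nat_lit 5) (Steps.bwd (nat_lit 5) (Steps.bwd (nat_lit 5) (Steps.bwd (nat_lit 4) (Steps.fwd (nat_lit 10240) (Steps.fwd (nat_lit 8192) Steps.nil)))))))) (nat_lit 24) (nat_lit 6),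
  Rule.mk (nat_lit 3) (nat_lit 46) (Steps.fwd (nat_lit 14336) (Steps.fwd (nat_lit 6144) (Steps.bwd (nat_lit 7) Steps.nil))) (nat_lit 32) (nat_lit 0),
  Rule.mk (nat_lit 6) (nat_lit 58) (Steps.fwd (nat_lit 10240) (Steps.bwd (nat_lit 8) (Steps.bwd (nat_lit 5) (Steps.bwd (nat_lit 7) Steps.nil)))) (nat_lit 36) (nat_lit 4),
  Rule.mk (nat_lit 6) (nat_lit 634) (Steps.bwd (nat_lit 4) (Steps.bwd (nat_lit 3) (Steps.bwd (nat_lit 2) (Steps.bwd (nat_lit 3) (Steps.bwd (nat_lit 4) (Steps.bwd (nat_lit 5) (Steps.bwd (nat_lit 4) (Steps.bwd (nat_lit 2) (Steps.bwd (nat_lit 3) (Steps.bwd (nat_lit 4) (Steps.fwd (nat_lit 6144) (Steps.bwd (nat_lit 2) (Steps.fwd (nat_lit 6144) (Steps.bwd (nat_lit 6) (Steps.bwd (nat_lit 4) (Steps.fwd (nat_lit 6144) (Steps.fwd (nat_lit 4096) (Steps.bwd (nat_lit 3) (Steps.bwd (nat_lit 4) (Steps.bwd (nat_lit 5) (Steps.fwd (nat_lit 8192) (Steps.bwd (nat_lit 5) (Steps.fwd (nat_lit 8192) (Steps.fwd (nat_lit 6144)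 (Steps.fwd (nat_lit 4096) (Steps.bwd (nat_lit 3) (Steps.bwd (nat_lit 4) (Steps.bwd (nat_lit 5) (Steps.bwd (nat_lit 4) (Steps.bwd (nat_lit 3) (Steps.bwd (nat_lit 2) (Steps.bwd (nat_lit 3) (Steps.bwd (nat_lit 4) (Steps.bwd (nat_lit 6) (Steps.bwd (nat_lit 6) (Steps.bwd (nat_lit 6) (Steps.bwd (nat_lit 4) (Steps.bwd (nat_lit 3) (Steps.fwd (nat_lit 4096) (Steps.fwd (nat_lit 6144) (Steps.fwd (nat_lit 8192) (Steps.bwd (nat_lit 6) (Steps.bwd (nat_lit 4) (Steps.bwd (nat_lit 3) (Steps.bwd (nat_lit 2) (Steps.bwd (nat_lit 3) (Steps.fwd (nat_lit 8192) (Steps.bwd (nat_lit 5) (Steps.bwd (nat_lit 5) (Steps.fwd (nat_lit 4096) (Steps.bwd (nat_lit 3) (Steps.bwd (nat_lit 4) Steps.nil)))))))))))))))))))))))))))))))))))))))))))))))))))) (nat_lit 44) (nat_lit 4),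
  Rule.mk (nat_lit 6) (nat_lit 106) (Steps.bwd (nat_lit 4) (Steps.fwd (nat_lit 12288) (Steps.fwd (nat_lit 12288) (Steps.fwd (nat_lit 12288) (Steps.fwd (nat_lit 8192) (Steps.bwd (nat_lit 6) (Steps.bwd (nat_lit 4) (Steps.bwd (nat_lit 6) Steps.nil)))))))) (nat_lit 24) (nat_lit 7),
  Rule.mk (nat_lit 0) (nat_lit 646) (Steps.fwd (nat_lit 10240) (Steps.fwd (nat_lit 8192) (Steps.fwd (nat_lit 6144) (Steps.fwd (nat_lit 4096) (Steps.fwd (nat_lit 6144) (Steps.fwd (nat_lit 8192) (Steps.fwd (nat_lit 12288) (Steps.bwd (nat_lit 3) (Steps.bwd (nat_lit 2) (Steps.fwd (nat_lit 6144) (Steps.bwd (nat_lit 4) (Steps.fwd (nat_lit 6144) (Steps.fwd (nat_lit 4096) (Steps.fwd (nat_lit 8192) (Steps.bwd (nat_lit 6) (Steps.bwd (nat_lit 4) (Steps.bwd (nat_lit 3) (Steps.bwd (nat_lit 2) (Steps.bwd (nat_lit 3) (Steps.bwd (nat_lit 4) (Steps.bwd (nat_lit 5) (Steps.bwd (nat_lit 4) (Steps.bwd (nat_lit 3) (Steps.fwd (nat_lit 4096) (Steps.bwd (nat_lit 6) (Steps.bwd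 (nat_lit 6) (Steps.bwd (nat_lit 4) (Steps.bwd (nat_lit 3) (Steps.bwd (nat_lit 2) (Steps.bwd (nat_lit 3) (Steps.bwd (nat_lit 4) (Steps.bwd (nat_lit 5) (Steps.bwd (nat_lit 4) (Steps.bwd (nat_lit 3) (Steps.bwd (nat_lit 2) (Steps.bwd (nat_lit 3) (Steps.bwd (nat_lit 4) (Steps.fwd (nat_lit 12288) (Steps.fwd (nat_lit 12288) (Steps.fwd (nat_lit 12288) (Steps.bwd (nat_lit 4) (Steps.fwd (nat_lit 6144) (Steps.bwd (nat_lit 2) (Steps.bwd (nat_lit 3) (Steps.bwd (nat_lit 4) (Steps.bwd (nat_lit 6) (Steps.bwd (nat_lit 4) (Steps.bwd (nat_lit 3) (Steps.bwd (nat_lit 2) (Steps.bwd (nat_lit 3) (Steps.bwd (nat_lit 4) (Steps.fwd (nat_lit 10240) (Steps.bwd (nat_lit 4) Steps.nil))))))))))))))))))))))))))))))))))))))))))))))))))))) (nat_lit 45) (nat_lit 29),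
  Rule.mk (nat_lit 1) (nat_lit 106) (Steps.bwd (nat_lit 3) (Steps.bwd (nat_lit 2) (Steps.fwd (nat_lit 6144) (Steps.bwd (nat_lit 2) (Steps.fwd (nat_lit 6144) (Steps.fwd (nat_lit 4096) (Steps.fwd (nat_lit 6144) (Steps.bwd (nat_lit 2) Steps.nil)))))))) (nat_lit 10) (nat_lit 1),
  Rule.mk (nat_lit 1) (nat_lit 46) (Steps.bwd (nat_lit 5) (Steps.fwd (nat_lit 2048) (Steps.fwd (nat_lit 10240) Steps.nil))) (nat_lit 18) (nat_lit 2),
  Rule.mk (nat_lit 0) (nat_lit 118) (Steps.bwd (nat_lit 4) (Steps.bwd (nat_lit 5) (Steps.fwd (nat_lit 12288) (Steps.bwd (nat_lit 5) (Steps.bwd (nat_lit 4) (Steps.fwd (nat_lit 10240) (Steps.fwd (nat_lit 8192) (Steps.fwd (nat_lit 10240) (Steps.fwd (nat_lit 10240) Steps.nil))))))))) (nat_lit 24) (nat_lit 7),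
  Rule.mk (nat_lit 0) (nat_lit 118) (Steps.bwd (nat_lit 2) (Steps.fwd (nat_lit 6144) (Steps.fwd (nat_lit 4096) (Steps.fwd (nat_lit 6144) (Steps.fwd (nat_lit 4096) (Steps.fwd (nat_lit 6144) (Steps.fwd (nat_lit 2048) (Steps.fwd (nat_lit 4096) (Steps.fwd (nat_lit 6144) Steps.nil))))))))) (nat_lit 11) (nat_lit 2),
  Rule.mk (nat_lit 1) (nat_lit 106) (Steps.bwd (nat_lit 2) (Steps.bwd (nat_lit 3) (Steps.bwd (nat_lit 2) (Steps.bwd (nat_lit 3) (Steps.bwd (nat_lit 2) (Steps.bwd (nat_lit 3) (Steps.bwd (nat_lit 2) (Steps.bwd (nat_lit 3) Steps.nil)))))))) (nat_lit 11) (nat_lit 0),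
  Rule.mk (nat_lit 2) (nat_lit 46) (Steps.fwd (nat_lit 14336) (Steps.fwd (nat_lit 4096) (Steps.bwd (nat_lit 7) Steps.nil))) (nat_lit 30) (nat_lit 0),
  Rule.mk (nat_lit 4) (nat_lit 46) (Steps.fwd (nat_lit 14336) (Steps.fwd (nat_lit 8192) (Steps.bwd (nat_lit 7) Steps.nil))) (nat_lit 34) (nat_lit 0),
  Rule.mk (nat_lit 2) (nat_lit 634) (Steps.bwd (nat_lit 3) (Steps.bwd (nat_lit 4) (Steps.bwd (nat_lit 5) (Steps.fwd (nat_lit 8192) (Steps.fwd (nat_lit 12288) (Steps.fwd (nat_lit 8192) (Steps.fwd (nat_lit 6144) (Steps.fwd (nat_lit 4096) (Steps.bwd (nat_lit 3) (Steps.fwd (nat_lit 8192) (Steps.fwd (nat_lit 12288) (Steps.bwd (nat_lit 4) (Steps.bwd (nat_lit 3) (Steps.bwd (nat_lit 2) (Steps.fwd (nat_lit 6144) (Steps.bwd (nat_lit 4) (Steps.bwd (nat_lit 6) (Steps.fwd (nat_lit 10240) (Steps.fwd (nat_lit 10240) (Steps.fwd (nat_lit 8192) (Steps.fwd (nat_lit 6144) (Steps.fwd (nat_lit 4096) (Steps.bwd (nat_lit 3) (Steps.fwd (nat_lit 8192)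 (Steps.bwd (nat_lit 6) (Steps.bwd (nat_lit 4) (Steps.bwd (nat_lit 3) (Steps.bwd (nat_lit 2) (Steps.bwd (nat_lit 3) (Steps.bwd (nat_lit 4) (Steps.bwd (nat_lit 5) (Steps.bwd (nat_lit 5) (Steps.bwd (nat_lit 2) (Steps.fwd (nat_lit 6144) (Steps.fwd (nat_lit 8192) (Steps.bwd (nat_lit 6) (Steps.bwd (nat_lit 4) (Steps.fwd (nat_lit 6144) (Steps.fwd (nat_lit 4096) (Steps.fwd (nat_lit 6144) (Steps.fwd (nat_lit 8192) (Steps.fwd (nat_lit 12288) (Steps.fwd (nat_lit 8192) (Steps.bwd (nat_lit 2) (Steps.bwd (nat_lit 3) (Steps.bwd (nat_lit 4) (Steps.bwd (nat_lit 3) (Steps.fwd (nat_lit 4096) (Steps.fwd (nat_lit 6144) (Steps.bwd (nat_lit 6) (Steps.fwd (nat_lit 8192) (Steps.bwd (nat_lit 3) Steps.nil)))))))))))))))))))))))))))))))))))))))))))))))))))) (nat_lit 44) (nat_lit 21),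
  Rule.mk (nat_lit 5) (nat_lit 58) (Steps.bwd (nat_lit 7) (Steps.fwd (nat_lit 10240) (Steps.fwd (nat_lit 10240) (Steps.bwd (nat_lit 8) Steps.nil)))) (nat_lit 36) (nat_lit 2),
  Rule.mk (nat_lit 5) (nat_lit 58) (Steps.bwd (nat_lit 8) (Steps.bwd (nat_lit 6) (Steps.bwd (nat_lit 7) (Steps.bwd (nat_lit 5) Steps.nil)))) (nat_lit 37) (nat_lit 2),
  Rule.mk (nat_lit 6) (nat_lit 106) (Steps.bwd (nat_lit 6) (Steps.fwd (nat_lit 8192) (Steps.bwd (nat_lit 5) (Steps.fwd (nat_lit 12288) (Steps.bwd (nat_lit 5) (Steps.fwd (nat_lit 8192) (Steps.fwd (nat_lit 10240) (Steps.fwd (nat_lit 8192) Steps.nil)))))))) (nat_lit 24) (nat_lit 6),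
  Rule.mk (nat_lit 3) (nat_lit 46) (Steps.bwd (nat_lit 7) (Steps.bwd (nat_lit 3) (Steps.fwd (nat_lit 14336) Steps.nil))) (nat_lit 32) (nat_lit 2),
  Rule.mk (nat_lit 4) (nat_lit 70) (Steps.fwd (nat_lit 6144) (Steps.fwd (nat_lit 8192) (Steps.fwd (nat_lit 6144) (Steps.bwd (nat_lit 4) (Steps.bwd (nat_lit 3) Steps.nil))))) (nat_lit 14) (nat_lit 0),
  Rule.mk (nat_lit 5) (nat_lit 634) (Steps.bwd (nat_lit 4) (Steps.bwd (nat_lit 3) (Steps.bwd (nat_lit 2) (Steps.bwd (nat_lit 3) (Steps.bwd (nat_lit 4) (Steps.bwd (nat_lit 5) (Steps.bwd (nat_lit 4) (Steps.bwd (nat_lit 3) (Steps.bwd (nat_lit 2) (Steps.bwd (nat_lit 3) (Steps.bwd (nat_lit 4) (Steps.bwd (nat_lit 6) (Steps.bwd (nat_lit 6) (Steps.bwd (nat_lit 6) (Steps.bwd (nat_lit 4) (Steps.bwd (nat_lit 3) (Steps.bwd (nat_lit 2) (Steps.bwd (nat_lit 3) (Steps.fwd (nat_lit 8192) (Steps.bwd (nat_lit 6) (Steps.bwd (nat_lit 4) (Steps.bwd (nat_lit 3) (Steps.fwd (nat_lit 4096) (Steps.bwd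 (nat_lit 3) (Steps.bwd (nat_lit 4) (Steps.fwd (nat_lit 12288) (Steps.bwd (nat_lit 5) (Steps.bwd (nat_lit 2) (Steps.fwd (nat_lit 6144) (Steps.fwd (nat_lit 8192) (Steps.fwd (nat_lit 10240) (Steps.bwd (nat_lit 4) (Steps.fwd (nat_lit 6144) (Steps.bwd (nat_lit 2) (Steps.fwd (nat_lit 6144) (Steps.fwd (nat_lit 8192) (Steps.fwd (nat_lit 12288) (Steps.fwd (nat_lit 8192) (Steps.fwd (nat_lit 4096) (Steps.bwd (nat_lit 3) (Steps.fwd (nat_lit 8192) (Steps.fwd (nat_lit 6144) (Steps.fwd (nat_lit 4096) (Steps.fwd (nat_lit 6144) (Steps.bwd (nat_lit 6) (Steps.bwd (nat_lit 4) (Steps.bwd (nat_lit 3) (Steps.bwd (nat_lit 2) (Steps.fwd (nat_lit 6144) (Steps.bwd (nat_lit 4) (Steps.bwd (nat_lit 5) (Steps.fwd (nat_lit 8192) Steps.nil)))))))))))))))))))))))))))))))))))))))))))))))))))) (nat_lit 44) (nat_lit 26),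
  Rule.mk (nat_lit 7) (nat_lit 58) (Steps.fwd (nat_lit 10240) (Steps.fwd (nat_lit 10240) (Steps.fwd (nat_lit 14336) (Steps.bwd (nat_lit 5) Steps.nil)))) (nat_lit 36) (nat_lit 3),
  Rule.mk (nat_lit 0) (nat_lit 118) (Steps.fwd (nat_lit 10240) (Steps.fwd (nat_lit 10240) (Steps.fwd (nat_lit 10240) (Steps.fwd (nat_lit 8192) (Steps.bwd (nat_lit 5) (Steps.bwd (nat_lit 5) (Steps.fwd (nat_lit 8192) (Steps.bwd (nat_lit 5) (Steps.bwd (nat_lit 4) Steps.nil))))))))) (nat_lit 25) (nat_lit 0),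
  Rule.mk (nat_lit 0) (nat_lit 46) (Steps.fwd (nat_lit 6144) (Steps.bwd (nat_lit 0) (Steps.bwd (nat_lit 3) Steps.nil))) (nat_lit 230) (nat_lit 0),
  Rule.mk (nat_lit 7) (nat_lit 58) (Steps.bwd (nat_lit 6) (Steps.fwd (nat_lit 10240) (Steps.fwd (nat_lit 14336) (Steps.fwd (nat_lit 12288) Steps.nil)))) (nat_lit 36) (nat_lit 3),
  Rule.mk (nat_lit 0) (nat_lit 118) (Steps.fwd (nat_lit 8192) (Steps.bwd (nat_lit 6) (Steps.fwd (nat_lit 8192) (Steps.bwd (nat_lit 6) (Steps.fwd (nat_lit 10240) (Steps.bwd (nat_lit 4) (Steps.bwd (nat_lit 5) (Steps.bwd (nat_lit 5) (Steps.fwd (nat_lit 12288) Steps.nil))))))))) (nat_lit 24) (nat_lit 0),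
  Rule.mk (nat_lit 0) (nat_lit 58) (Steps.fwd (nat_lit 8192) (Steps.bwd (nat_lit 7) (Steps.fwd (nat_lit 8192) (Steps.bwd (nat_lit 8) Steps.nil)))) (nat_lit 34) (nat_lit 1),
  Rule.mk (nat_lit 5) (nat_lit 82) (Steps.fwd (nat_lit 12288) (Steps.fwd (nat_lit 12288) (Steps.bwd (nat_lit 5) (Steps.fwd (nat_lit 12288) (Steps.bwd (nat_lit 5) (Steps.bwd (nat_lit 5) Steps.nil)))))) (nat_lit 16) (nat_lit 0),
  Rule.mk (nat_lit 0) (nat_lit 118) (Steps.fwd (nat_lit 12288) (Steps.bwd (nat_lit 5) (Steps.fwd (nat_lit 12288) (Steps.fwd (nat_lit 8192) (Steps.fwd (nat_lit 10240) (Steps.bwd (nat_lit 4) (Steps.fwd (nat_lit 10240) (Steps.fwd (nat_lit 10240) (Steps.fwd (nat_lit 8192) Steps.nil))))))))) (nat_lit 24) (nat_lit 8),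
  Rule.mk (nat_lit 3) (nat_lit 46) (Steps.bwd (nat_lit 6) (Steps.fwd (nat_lit 6144) (Steps.fwd (nat_lit 10240) Steps.nil))) (nat_lit 23) (nat_lit 1),
  Rule.mk (nat_lit 2) (nat_lit 106) (Steps.bwd (nat_lit 3) (Steps.fwd (nat_lit 2048) (Steps.bwd (nat_lit 2) (Steps.fwd (nat_lit 6144) (Steps.fwd (nat_lit 4096) (Steps.fwd (nat_lit 6144) (Steps.fwd (nat_lit 4096) (Steps.fwd (nat_lit 6144) Steps.nil)))))))) (nat_lit 11) (nat_lit 7),
  Rule.mk (nat_lit 1) (nat_lit 106) (Steps.bwd (nat_lit 3) (Steps.bwd (nat_lit 2) (Steps.fwd (nat_lit 6144) (Steps.fwd (nat_lit 4096) (Steps.fwd (nat_lit 6144) (Steps.fwd (nat_lit 4096) (Steps.fwd (nat_lit 6144) (Steps.bwd (nat_lit 2) Steps.nil)))))))) (nat_lit 10) (nat_lit 1),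
  Rule.mk (nat_lit 2) (nat_lit 106) (Steps.bwd (nat_lit 3) (Steps.bwd (nat_lit 2) (Steps.bwd (nat_lit 3) (Steps.bwd (nat_lit 2) (Steps.fwd (nat_lit 6144) (Steps.bwd (nat_lit 2) (Steps.fwd (nat_lit 2048) (Steps.fwd (nat_lit 6144) Steps.nil)))))))) (nat_lit 10) (nat_lit 3),
  Rule.mk (nat_lit 1) (nat_lit 106) (Steps.bwd (nat_lit 2) (Steps.bwd (nat_lit 3) (Steps.fwd (nat_lit 4096) (Steps.fwd (nat_lit 6144) (Steps.bwd (nat_lit 2) (Steps.fwd (nat_lit 6144) (Steps.bwd (nat_lit 2) (Steps.bwd (nat_lit 3) Steps.nil)))))))) (nat_lit 11) (nat_lit 0),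
  Rule.mk (nat_lit 6) (nat_lit 106) (Steps.bwd (nat_lit 4) (Steps.bwd (nat_lit 5) (Steps.bwd (nat_lit 5) (Steps.bwd (nat_lit 5) (Steps.fwd (nat_lit 8192) (Steps.bwd (nat_lit 6) (Steps.fwd (nat_lit 8192) (Steps.bwd (nat_lit 6) Steps.nil)))))))) (nat_lit 24) (nat_lit 7),
  Rule.mk (nat_lit 4) (nat_lit 106) (Steps.bwd (nat_lit 6) (Steps.fwd (nat_lit 10240) (Steps.bwd (nat_lit 4) (Steps.bwd (nat_lit 5) (Steps.bwd (nat_lit 5) (Steps.fwd (nat_lit 12288) (Steps.fwd (nat_lit 8192) (Steps.bwd (nat_lit 6) Steps.nil)))))))) (nat_lit 24) (nat_lit 3),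
  Rule.mk (nat_lit 5) (nat_lit 106) (Steps.fwd (nat_lit 8192) (Steps.fwd (nat_lit 10240) (Steps.fwd (nat_lit 10240) (Steps.bwd (nat_lit 6) (Steps.fwd (nat_lit 8192) (Steps.fwd (nat_lit 12288) (Steps.fwd (nat_lit 12288) (Steps.bwd (nat_lit 4) Steps.nil)))))))) (nat_lit 25) (nat_lit 10),
  Rule.mk (nat_lit 3) (nat_lit 634) (Steps.bwd (nat_lit 2) (Steps.fwd (nat_lit 8192) (Steps.bwd (nat_lit 6) (Steps.bwd (nat_lit 4) (Steps.fwd (nat_lit 6144) (Steps.bwd (nat_lit 2) (Steps.fwd (nat_lit 6144) (Steps.fwd (nat_lit 8192) (Steps.fwd (nat_lit 12288) (Steps.fwd (nat_lit 8192) (Steps.fwd (nat_lit 6144) (Steps.fwd (nat_lit 4096) (Steps.bwd (nat_lit 6) (Steps.fwd (nat_lit 10240) (Steps.bwd (nat_lit 4) (Steps.bwd (nat_lit 3) (Steps.bwd (nat_lit 2) (Steps.fwd (nat_lit 6144) (Steps.bwd (nat_lit 4) (Steps.bwd (nat_lit 5) (Steps.bwd (nat_lit 4) (Steps.fwd (nat_lit 6144) (Steps.fwd (nat_lit 4096) (Steps.bwd (nat_lit 3) (Steps.fwd (nat_lit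 8192) (Steps.bwd (nat_lit 5) (Steps.bwd (nat_lit 5) (Steps.fwd (nat_lit 12288) (Steps.fwd (nat_lit 8192) (Steps.bwd (nat_lit 3) (Steps.bwd (nat_lit 2) (Steps.bwd (nat_lit 3) (Steps.bwd (nat_lit 4) (Steps.fwd (nat_lit 10240) (Steps.fwd (nat_lit 8192) (Steps.fwd (nat_lit 6144) (Steps.bwd (nat_lit 2) (Steps.bwd (nat_lit 3) (Steps.fwd (nat_lit 8192) (Steps.fwd (nat_lit 10240) (Steps.fwd (nat_lit 8192) (Steps.bwd (nat_lit 6) (Steps.bwd (nat_lit 4) (Steps.bwd (nat_lit 3) (Steps.bwd (nat_lit 2) (Steps.bwd (nat_lit 3) (Steps.bwd (nat_lit 4) (Steps.bwd (nat_lit 5) (Steps.bwd (nat_lit 3) (Steps.fwd (nat_lit 4096) (Steps.fwd (nat_lit 6144) (Steps.bwd (nat_lit 4) Steps.nil)))))))))))))))))))))))))))))))))))))))))))))))))))) (nat_lit 45) (nat_lit 41),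
  Rule.mk (nat_lit 2) (nat_lit 106) (Steps.bwd (nat_lit 3) (Steps.bwd (nat_lit 2) (Steps.fwd (nat_lit 2048) (Steps.bwd (nat_lit 3) (Steps.bwd (nat_lit 2) (Steps.bwd (nat_lit 3) (Steps.fwd (nat_lit 4096) (Steps.fwd (nat_lit 6144) Steps.nil)))))))) (nat_lit 10) (nat_lit 7),
  Rule.mk (nat_lit 4) (nat_lit 46) (Steps.bwd (nat_lit 1) (Steps.fwd (nat_lit 8192) (Steps.bwd (nat_lit 1) Steps.nil))) (nat_lit 8) (nat_lit 0),
  Rule.mk (nat_lit 6) (nat_lit 46) (Steps.fwd (nat_lit 2048) (Steps.fwd (nat_lit 12288) (Steps.bwd (nat_lit 1) Steps.nil))) (nat_lit 18) (nat_lit 1),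
  Rule.mk (nat_lit 3) (nat_lit 46) (Steps.bwd (nat_lit 8) (Steps.fwd (nat_lit 6144) (Steps.fwd (nat_lit 16384) Steps.nil))) (nat_lit 32) (nat_lit 0)]
noncomputable def R_9 : List (Rule) := [Rule.mk (nat_lit 4) (nat_lit 634) (Steps.bwd (nat_lit 3) (Steps.bwd (nat_lit 2) (Steps.fwd (nat_lit 6144) (Steps.bwd (nat_lit 6) (Steps.fwd (nat_lit 8192) (Steps.bwd (nat_lit 3) (Steps.bwd (nat_lit 2) (Steps.bwd (nat_lit 3) (Steps.bwd (nat_lit 4) (Steps.bwd (nat_lit 5) (Steps.fwd (nat_lit 8192) (Steps.fwd (nat_lit 12288) (Steps.fwd (nat_lit 8192) (Steps.bwd (nat_lit 3) (Steps.fwd (nat_lit 4096) (Steps.fwd (nat_lit 6144) (Steps.fwd (nat_lit 8192) (Steps.fwd (nat_lit 12288) (Steps.fwd (nat_lit 8192) (Steps.bwd (nat_lit 3) (Steps.bwd (nat_lit 2) (Steps.fwd (nat_lit 6144) (Steps.bwd (nat_lit 4) (Steps.fwd (nat_lit 10240) (Steps.bwd (nat_lit 6) (Steps.fwd (nat_lit 10240) (Steps.fwd (nat_lit 8192) (Steps.fwd (nat_lit 6144) (Steps.fwd (nat_lit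 4096) (Steps.fwd (nat_lit 6144) (Steps.fwd (nat_lit 8192) (Steps.bwd (nat_lit 6) (Steps.bwd (nat_lit 4) (Steps.fwd (nat_lit 6144) (Steps.bwd (nat_lit 2) (Steps.bwd (nat_lit 3) (Steps.bwd (nat_lit 4) (Steps.fwd (nat_lit 12288) (Steps.fwd (nat_lit 12288) (Steps.fwd (nat_lit 4096) (Steps.fwd (nat_lit 6144) (Steps.fwd (nat_lit 8192) (Steps.bwd (nat_lit 6) (Steps.bwd (nat_lit 4) (Steps.fwd (nat_lit 6144) (Steps.bwd (nat_lit 2) (Steps.bwd (nat_lit 3) (Steps.bwd (nat_lit 4) (Steps.fwd (nat_lit 12288) (Steps.bwd (nat_lit 4) (Steps.fwd (nat_lit 4096) (Steps.bwd (nat_lit 3) Steps.nil)))))))))))))))))))))))))))))))))))))))))))))))))))) (nat_lit 44) (nat_lit 14),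
  Rule.mk (nat_lit 6) (nat_lit 106) (Steps.bwd (nat_lit 6) (Steps.fwd (nat_lit 8192) (Steps.bwd (nat_lit 5) (Steps.fwd (nat_lit 12288) (Steps.bwd (nat_lit 5) (Steps.bwd (nat_lit 4) (Steps.fwd (nat_lit 10240) (Steps.bwd (nat_lit 4) Steps.nil)))))))) (nat_lit 24) (nat_lit 6),
  Rule.mk (nat_lit 8) (nat_lit 46) (Steps.fwd (nat_lit 2048) (Steps.fwd (nat_lit 16384) (Steps.bwd (nat_lit 1) Steps.nil))) (nat_lit 28) (nat_lit 1),
  Rule.mk (nat_lit 3) (nat_lit 106) (Steps.bwd (nat_lit 2) (Steps.bwd (nat_lit 3) (Steps.bwd (nat_lit 2) (Steps.bwd (nat_lit 3) (Steps.bwd (nat_lit 2) (Steps.bwd (nat_lit 1) (Steps.fwd (nat_lit 6144) (Steps.fwd (nat_lit 4096) Steps.nil)))))))) (nat_lit 10) (nat_lit 4),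
  Rule.mk (nat_lit 5) (nat_lit 58) (Steps.bwd (nat_lit 8) (Steps.fwd (nat_lit 10240) (Steps.fwd (nat_lit 16384) (Steps.bwd (nat_lit 5) Steps.nil)))) (nat_lit 37) (nat_lit 2),
  Rule.mk (nat_lit 4) (nat_lit 634) (Steps.bwd (nat_lit 3) (Steps.fwd (nat_lit 4096) (Steps.bwd (nat_lit 3) (Steps.fwd (nat_lit 8192) (Steps.fwd (nat_lit 12288) (Steps.bwd (nat_lit 4) (Steps.fwd (nat_lit 6144) (Steps.fwd (nat_lit 4096) (Steps.fwd (nat_lit 6144) (Steps.fwd (nat_lit 8192) (Steps.bwd (nat_lit 6) (Steps.bwd (nat_lit 6) (Steps.fwd (nat_lit 10240) (Steps.fwd (nat_lit 8192) (Steps.fwd (nat_lit 6144) (Steps.fwd (nat_lit 4096) (Steps.fwd (nat_lit 6144) (Steps.fwd (nat_lit 8192) (Steps.bwd (nat_lit 6) (Steps.bwd (nat_lit 4) (Steps.bwd (nat_lit 3) (Steps.bwd (nat_lit 2) (Steps.bwd (nat_lit 3) (Steps.bwd (nat_lit 4) (Steps.bwd (nat_lit 5) (Steps.fwd (nat_lit 12288) (Steps.fwd (nat_lit 4096) (Steps.fwd (nat_lit 6144) (Steps.fwd (nat_lit 8192)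 (Steps.fwd (nat_lit 10240) (Steps.bwd (nat_lit 4) (Steps.bwd (nat_lit 3) (Steps.fwd (nat_lit 4096) (Steps.bwd (nat_lit 3) (Steps.fwd (nat_lit 8192) (Steps.fwd (nat_lit 12288) (Steps.fwd (nat_lit 8192) (Steps.bwd (nat_lit 2) (Steps.bwd (nat_lit 3) (Steps.fwd (nat_lit 8192) (Steps.fwd (nat_lit 6144) (Steps.bwd (nat_lit 2) (Steps.fwd (nat_lit 6144) (Steps.bwd (nat_lit 6) (Steps.fwd (nat_lit 8192) (Steps.bwd (nat_lit 3) (Steps.fwd (nat_lit 4096) (Steps.fwd (nat_lit 6144) (Steps.fwd (nat_lit 8192) (Steps.fwd (nat_lit 12288) (Steps.fwd (nat_lit 8192) (Steps.bwd (nat_lit 5) Steps.nil)))))))))))))))))))))))))))))))))))))))))))))))))))) (nat_lit 44) (nat_lit 27),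
  Rule.mk (nat_lit 5) (nat_lit 82) (Steps.bwd (nat_lit 5) (Steps.bwd (nat_lit 5) (Steps.fwd (nat_lit 12288) (Steps.fwd (nat_lit 12288) (Steps.bwd (nat_lit 5) (Steps.fwd (nat_lit 12288) Steps.nil)))))) (nat_lit 16) (nat_lit 0),
  Rule.mk (nat_lit 8) (nat_lit 58) (Steps.fwd (nat_lit 10240) (Steps.bwd (nat_lit 7) (Steps.fwd (nat_lit 12288) (Steps.bwd (nat_lit 5) Steps.nil)))) (nat_lit 37) (nat_lit 3),
  Rule.mk (nat_lit 4) (nat_lit 106) (Steps.fwd (nat_lit 10240) (Steps.bwd (nat_lit 4) (Steps.bwd (nat_lit 6) (Steps.bwd (nat_lit 6) (Steps.bwd (nat_lit 4) (Steps.bwd (nat_lit 5) (Steps.fwd (nat_lit 12288) (Steps.bwd (nat_lit 5) Steps.nil)))))))) (nat_lit 24) (nat_lit 1),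
  Rule.mk (nat_lit 3) (nat_lit 106) (Steps.fwd (nat_lit 4096) (Steps.bwd (nat_lit 3) (Steps.bwd (nat_lit 2) (Steps.bwd (nat_lit 3) (Steps.fwd (nat_lit 4096) (Steps.fwd (nat_lit 6144) (Steps.bwd (nat_lit 2) (Steps.bwd (nat_lit 1) Steps.nil)))))))) (nat_lit 10) (nat_lit 2),
  Rule.mk (nat_lit 2) (nat_lit 106) (Steps.fwd (nat_lit 6144) (Steps.fwd (nat_lit 4096) (Steps.fwd (nat_lit 6144) (Steps.bwd (nat_lit 2) (Steps.bwd (nat_lit 3) (Steps.bwd (nat_lit 2) (Steps.bwd (nat_lit 3) (Steps.bwd (nat_lit 1) Steps.nil)))))))) (nat_lit 11) (nat_lit 1),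
  Rule.mk (nat_lit 7) (nat_lit 58) (Steps.bwd (nat_lit 6) (Steps.bwd (nat_lit 6) (Steps.fwd (nat_lit 14336) (Steps.fwd (nat_lit 12288) Steps.nil)))) (nat_lit 36) (nat_lit 3),
  Rule.mk (nat_lit 5) (nat_lit 58) (Steps.fwd (nat_lit 12288) (Steps.bwd (nat_lit 8) (Steps.bwd (nat_lit 6) (Steps.bwd (nat_lit 7) Steps.nil)))) (nat_lit 37) (nat_lit 1),
  Rule.mk (nat_lit 6) (nat_lit 634) (Steps.bwd (nat_lit 6) (Steps.bwd (nat_lit 6) (Steps.bwd (nat_lit 4) (Steps.bwd (nat_lit 3) (Steps.bwd (nat_lit 2) (Steps.bwd (nat_lit 3) (Steps.bwd (nat_lit 4) (Steps.bwd (nat_lit 6) (Steps.bwd (nat_lit 4) (Steps.bwd (nat_lit 3) (Steps.bwd (nat_lit 2) (Steps.bwd (nat_lit 3) (Steps.bwd (nat_lit 4) (Steps.fwd (nat_lit 12288) (Steps.fwd (nat_lit 12288) (Steps.fwd (nat_lit 4096) (Steps.bwd (nat_lit 3) (Steps.fwd (nat_lit 8192) (Steps.fwd (nat_lit 10240) (Steps.fwd (nat_lit 8192) (Steps.fwd (nat_lit 6144) (Steps.bwd (nat_lit 2) (Steps.bwd (nat_lit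 3) (Steps.bwd (nat_lit 4) (Steps.bwd (nat_lit 5) (Steps.bwd (nat_lit 4) (Steps.bwd (nat_lit 2) (Steps.bwd (nat_lit 3) (Steps.bwd (nat_lit 4) (Steps.bwd (nat_lit 3) (Steps.bwd (nat_lit 2) (Steps.bwd (nat_lit 3) (Steps.bwd (nat_lit 6) (Steps.fwd (nat_lit 8192) (Steps.fwd (nat_lit 6144) (Steps.fwd (nat_lit 4096) (Steps.fwd (nat_lit 6144) (Steps.fwd (nat_lit 8192) (Steps.fwd (nat_lit 12288) (Steps.fwd (nat_lit 8192) (Steps.fwd (nat_lit 12288) (Steps.fwd (nat_lit 8192) (Steps.bwd (nat_lit 3) (Steps.bwd (nat_lit 2) (Steps.fwd (nat_lit 6144) (Steps.bwd (nat_lit 4) (Steps.bwd (nat_lit 5) (Steps.fwd (nat_lit 8192) (Steps.bwd (nat_lit 3) (Steps.bwd (nat_lit 2) (Steps.bwd (nat_lit 3) (Steps.bwd (nat_lit 4) Steps.nil)))))))))))))))))))))))))))))))))))))))))))))))))))) (nat_lit 44) (nat_lit 38),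
  Rule.mk (nat_lit 0) (nat_lit 70) (Steps.fwd (nat_lit 12288) (Steps.fwd (nat_lit 12288) (Steps.bwd (nat_lit 8) (Steps.fwd (nat_lit 10240) (Steps.bwd (nat_lit 7) Steps.nil))))) (nat_lit 37) (nat_lit 0),
  Rule.mk (nat_lit 4) (nat_lit 106) (Steps.fwd (nat_lit 12288) (Steps.bwd (nat_lit 5) (Steps.fwd (nat_lit 12288) (Steps.fwd (nat_lit 8192) (Steps.bwd (nat_lit 6) (Steps.fwd (nat_lit 8192) (Steps.bwd (nat_lit 6) (Steps.bwd (nat_lit 6) Steps.nil)))))))) (nat_lit 24) (nat_lit 8),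
  Rule.mk (nat_lit 5) (nat_lit 634) (Steps.bwd (nat_lit 4) (Steps.fwd (nat_lit 4096) (Steps.bwd (nat_lit 3) (Steps.bwd (nat_lit 4) (Steps.bwd (nat_lit 3) (Steps.fwd (nat_lit 4096) (Steps.fwd (nat_lit 6144) (Steps.fwd (nat_lit 10240) (Steps.fwd (nat_lit 8192) (Steps.bwd (nat_lit 3) (Steps.bwd (nat_lit 2) (Steps.fwd (nat_lit 6144) (Steps.bwd (nat_lit 4) (Steps.fwd (nat_lit 12288) (Steps.fwd (nat_lit 8192) (Steps.fwd (nat_lit 12288) (Steps.fwd (nat_lit 8192) (Steps.bwd (nat_lit 3) (Steps.bwd (nat_lit 2) (Steps.bwd (nat_lit 3) (Steps.bwd (nat_lit 4) (Steps.bwd (nat_lit 5) (Steps.fwd (nat_lit 8192) (Steps.fwd (nat_lit 6144) (Steps.fwd (nat_lit 4096) (Steps.fwd (nat_lit 6144) (Steps.bwd (nat_lit 4) (Steps.bwd (nat_lit 6) (Steps.bwd (nat_lit 6) (Steps.fwd (nat_lit 10240) (Steps.bwd (nat_lit 4) (Steps.bwd (nat_lit 3) (Steps.bwd (nat_lit 2) (Steps.fwd (nat_lit 6144) (Steps.fwd (nat_lit 8192) (Steps.bwd (nat_lit 6) (Steps.fwd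 (nat_lit 8192) (Steps.fwd (nat_lit 6144) (Steps.fwd (nat_lit 4096) (Steps.bwd (nat_lit 3) (Steps.bwd (nat_lit 4) (Steps.fwd (nat_lit 12288) (Steps.bwd (nat_lit 5) (Steps.fwd (nat_lit 4096) (Steps.fwd (nat_lit 6144) (Steps.fwd (nat_lit 8192) (Steps.bwd (nat_lit 6) (Steps.fwd (nat_lit 8192) (Steps.bwd (nat_lit 3) (Steps.fwd (nat_lit 4096) (Steps.fwd (nat_lit 6144) (Steps.bwd (nat_lit 4) Steps.nil)))))))))))))))))))))))))))))))))))))))))))))))))))) (nat_lit 44) (nat_lit 10),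
  Rule.mk (nat_lit 3) (nat_lit 634) (Steps.bwd (nat_lit 2) (Steps.bwd (nat_lit 3) (Steps.fwd (nat_lit 8192) (Steps.bwd (nat_lit 5) (Steps.bwd (nat_lit 4) (Steps.bwd (nat_lit 2) (Steps.bwd (nat_lit 3) (Steps.fwd (nat_lit 8192) (Steps.bwd (nat_lit 3) (Steps.fwd (nat_lit 4096) (Steps.fwd (nat_lit 6144) (Steps.fwd (nat_lit 10240) (Steps.fwd (nat_lit 8192) (Steps.bwd (nat_lit 3) (Steps.bwd (nat_lit 2) (Steps.bwd (nat_lit 3) (Steps.bwd (nat_lit 4) (Steps.fwd (nat_lit 12288) (Steps.bwd (nat_lit 4) (Steps.bwd (nat_lit 5) (Steps.fwd (nat_lit 8192) (Steps.fwd (nat_lit 6144) (Steps.fwd (nat_lit 4096) (Steps.bwd (nat_lit 3) (Steps.bwd (nat_lit 4) (Steps.fwd (nat_lit 12288) (Steps.fwd (nat_lit 8192) (Steps.bwd (nat_lit 3) (Steps.bwd (nat_lit 2) (Steps.bwd (nat_lit 3) (Steps.bwd (nat_lit 4) (Steps.bwd (nat_lit 6) (Steps.bwd (nat_lit 6) (Steps.fwd (nat_lit 10240) (Steps.fwd (nat_lit 8192) (Steps.fwd (nat_lit 6144) (Steps.bwd (nat_lit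 2) (Steps.bwd (nat_lit 3) (Steps.bwd (nat_lit 4) (Steps.fwd (nat_lit 10240) (Steps.bwd (nat_lit 4) (Steps.bwd (nat_lit 3) (Steps.fwd (nat_lit 4096) (Steps.fwd (nat_lit 6144) (Steps.fwd (nat_lit 8192) (Steps.bwd (nat_lit 5) (Steps.fwd (nat_lit 12288) (Steps.bwd (nat_lit 2) (Steps.bwd (nat_lit 3) (Steps.fwd (nat_lit 8192) (Steps.fwd (nat_lit 10240) (Steps.fwd (nat_lit 8192) Steps.nil)))))))))))))))))))))))))))))))))))))))))))))))))))) (nat_lit 44) (nat_lit 6),
  Rule.mk (nat_lit 4) (nat_lit 70) (Steps.fwd (nat_lit 6144) (Steps.fwd (nat_lit 8192) (Steps.fwd (nat_lit 6144) (Steps.fwd (nat_lit 8192) (Steps.bwd (nat_lit 3) Steps.nil))))) (nat_lit 14) (nat_lit 0),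
  Rule.mk (nat_lit 5) (nat_lit 634) (Steps.bwd (nat_lit 4) (Steps.bwd (nat_lit 3) (Steps.bwd (nat_lit 2) (Steps.bwd (nat_lit 3) (Steps.bwd (nat_lit 4) (Steps.bwd (nat_lit 5) (Steps.bwd (nat_lit 4) (Steps.bwd (nat_lit 3) (Steps.bwd (nat_lit 2) (Steps.bwd (nat_lit 3) (Steps.bwd (nat_lit 4) (Steps.bwd (nat_lit 6) (Steps.bwd (nat_lit 6) (Steps.bwd (nat_lit 6) (Steps.bwd (nat_lit 4) (Steps.bwd (nat_lit 3) (Steps.bwd (nat_lit 2) (Steps.bwd (nat_lit 3) (Steps.bwd (nat_lit 4) (Steps.bwd (nat_lit 6) (Steps.bwd (nat_lit 4) (Steps.bwd (nat_lit 3) (Steps.bwd (nat_lit 2) (Steps.bwd (nat_lit 3) (Steps.fwd (nat_lit 8192) (Steps.fwd (nat_lit 12288) (Steps.bwd (nat_lit 5) (Steps.bwd (nat_lit 2) (Steps.bwd (nat_lit 3) (Steps.bwd (nat_lit 4) (Steps.fwd (nat_lit 10240) (Steps.bwd (nat_lit 4) (Steps.bwd (nat_lit 3) (Steps.fwd (nat_lit 4096) (Steps.fwd (nat_lit 6144) (Steps.fwd (nat_lit 8192) (Steps.bwd (nat_lit 5) (Steps.fwd (nat_lit 8192)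 (Steps.fwd (nat_lit 4096) (Steps.fwd (nat_lit 6144) (Steps.fwd (nat_lit 8192) (Steps.bwd (nat_lit 3) (Steps.bwd (nat_lit 2) (Steps.bwd (nat_lit 3) (Steps.bwd (nat_lit 6) (Steps.fwd (nat_lit 8192) (Steps.bwd (nat_lit 3) (Steps.bwd (nat_lit 2) (Steps.bwd (nat_lit 3) (Steps.bwd (nat_lit 4) (Steps.fwd (nat_lit 12288) (Steps.fwd (nat_lit 8192) Steps.nil)))))))))))))))))))))))))))))))))))))))))))))))))))) (nat_lit 44) (nat_lit 26),
  Rule.mk (nat_lit 0) (nat_lit 118) (Steps.fwd (nat_lit 8192) (Steps.fwd (nat_lit 10240) (Steps.fwd (nat_lit 10240) (Steps.fwd (nat_lit 10240) (Steps.fwd (nat_lit 8192) (Steps.fwd (nat_lit 12288) (Steps.bwd (nat_lit 5) (Steps.fwd (nat_lit 8192) (Steps.fwd (nat_lit 12288) Steps.nil))))))))) (nat_lit 25) (nat_lit 10),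
  Rule.mk (nat_lit 0) (nat_lit 118) (Steps.fwd (nat_lit 8192) (Steps.fwd (nat_lit 10240) (Steps.bwd (nat_lit 4) (Steps.fwd (nat_lit 10240) (Steps.fwd (nat_lit 10240) (Steps.bwd (nat_lit 4) (Steps.fwd (nat_lit 12288) (Steps.fwd (nat_lit 12288) (Steps.fwd (nat_lit 12288) Steps.nil))))))))) (nat_lit 24) (nat_lit 0),
  Rule.mk (nat_lit 0) (nat_lit 646) (Steps.fwd (nat_lit 8192) (Steps.fwd (nat_lit 6144) (Steps.fwd (nat_lit 4096) (Steps.fwd (nat_lit 6144) (Steps.fwd (nat_lit 8192) (Steps.bwd (nat_lit 5) (Steps.fwd (nat_lit 12288) (Steps.fwd (nat_lit 4096) (Steps.fwd (nat_lit 6144) (Steps.fwd (nat_lit 8192) (Steps.bwd (nat_lit 6) (Steps.bwd (nat_lit 4) (Steps.bwd (nat_lit 3) (Steps.bwd (nat_lit 2) (Steps.bwd (nat_lit 3) (Steps.fwd (nat_lit 8192) (Steps.fwd (nat_lit 12288) (Steps.bwd (nat_lit 4) (Steps.fwd (nat_lit 4096) (Steps.fwd (nat_lit 6144) (Steps.fwd (nat_lit 8192) (Steps.fwd (nat_lit 6144) (Steps.fwd (nat_lit 4096)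 (Steps.fwd (nat_lit 6144) (Steps.fwd (nat_lit 10240) (Steps.bwd (nat_lit 4) (Steps.fwd (nat_lit 6144) (Steps.fwd (nat_lit 4096) (Steps.bwd (nat_lit 3) (Steps.fwd (nat_lit 8192) (Steps.fwd (nat_lit 12288) (Steps.fwd (nat_lit 8192) (Steps.fwd (nat_lit 12288) (Steps.bwd (nat_lit 4) (Steps.bwd (nat_lit 3) (Steps.bwd (nat_lit 2) (Steps.fwd (nat_lit 6144) (Steps.bwd (nat_lit 4) (Steps.bwd (nat_lit 5) (Steps.bwd (nat_lit 4) (Steps.fwd (nat_lit 6144) (Steps.fwd (nat_lit 4096) (Steps.bwd (nat_lit 3) (Steps.fwd (nat_lit 8192) (Steps.bwd (nat_lit 6) (Steps.fwd (nat_lit 10240) (Steps.fwd (nat_lit 10240) (Steps.fwd (nat_lit 8192) (Steps.fwd (nat_lit 6144) (Steps.bwd (nat_lit 2) (Steps.bwd (nat_lit 3) (Steps.bwd (nat_lit 4) (Steps.fwd (nat_lit 10240) Steps.nil))))))))))))))))))))))))))))))))))))))))))))))))))))) (nat_lit 44) (nat_lit 46),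
  Rule.mk (nat_lit 1) (nat_lit 106) (Steps.bwd (nat_lit 3) (Steps.bwd (nat_lit 2) (Steps.bwd (nat_lit 3) (Steps.bwd (nat_lit 2) (Steps.bwd (nat_lit 3) (Steps.fwd (nat_lit 4096) (Steps.bwd (nat_lit 3) (Steps.bwd (nat_lit 2) Steps.nil)))))))) (nat_lit 10) (nat_lit 1),
  Rule.mk (nat_lit 0) (nat_lit 58) (Steps.bwd (nat_lit 2) (Steps.fwd (nat_lit 16384) (Steps.fwd (nat_lit 4096) (Steps.fwd (nat_lit 14336) Steps.nil)))) (nat_lit 30) (nat_lit 1),
  Rule.mk (nat_lit 6) (nat_lit 634) (Steps.bwd (nat_lit 6) (Steps.fwd (nat_lit 10240) (Steps.fwd (nat_lit 8192) (Steps.fwd (nat_lit 6144) (Steps.fwd (nat_lit 4096) (Steps.bwd (nat_lit 3) (Steps.bwd (nat_lit 4) (Steps.bwd (nat_lit 6) (Steps.fwd (nat_lit 8192) (Steps.fwd (nat_lit 6144) (Steps.fwd (nat_lit 4096) (Steps.fwd (nat_lit 6144) (Steps.fwd (nat_lit 8192) (Steps.fwd (nat_lit 12288) (Steps.fwd (nat_lit 12288) (Steps.fwd (nat_lit 4096) (Steps.fwd (nat_lit 6144) (Steps.fwd (nat_lit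 8192) (Steps.bwd (nat_lit 6) (Steps.fwd (nat_lit 8192) (Steps.fwd (nat_lit 6144) (Steps.fwd (nat_lit 4096) (Steps.fwd (nat_lit 6144) (Steps.fwd (nat_lit 8192) (Steps.fwd (nat_lit 12288) (Steps.fwd (nat_lit 8192) (Steps.bwd (nat_lit 2) (Steps.fwd (nat_lit 6144) (Steps.fwd (nat_lit 8192) (Steps.fwd (nat_lit 6144) (Steps.fwd (nat_lit 4096) (Steps.bwd (nat_lit 3) (Steps.bwd (nat_lit 6) (Steps.fwd (nat_lit 8192) (Steps.fwd (nat_lit 6144) (Steps.bwd (nat_lit 2) (Steps.bwd (nat_lit 3) (Steps.bwd (nat_lit 4) (Steps.fwd (nat_lit 12288) (Steps.fwd (nat_lit 8192) (Steps.fwd (nat_lit 12288) (Steps.fwd (nat_lit 8192) (Steps.bwd (nat_lit 3) (Steps.fwd (nat_lit 4096) (Steps.fwd (nat_lit 6144) (Steps.bwd (nat_lit 4) (Steps.fwd (nat_lit 12288) (Steps.bwd (nat_lit 4) (Steps.bwd (nat_lit 3) (Steps.fwd (nat_lit 4096) (Steps.fwd (nat_lit 6144) (Steps.bwd (nat_lit 4) Steps.nil)))))))))))))))))))))))))))))))))))))))))))))))))))) (nat_lit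 44) (nat_lit 38),
  Rule.mk (nat_lit 3) (nat_lit 46) (Steps.fwd (nat_lit 10240) (Steps.bwd (nat_lit 3) (Steps.bwd (nat_lit 6) Steps.nil))) (nat_lit 23) (nat_lit 1),
  Rule.mk (nat_lit 6) (nat_lit 634) (Steps.bwd (nat_lit 6) (Steps.bwd (nat_lit 4) (Steps.bwd (nat_lit 3) (Steps.bwd (nat_lit 2) (Steps.bwd (nat_lit 3) (Steps.bwd (nat_lit 4) (Steps.bwd (nat_lit 6) (Steps.bwd (nat_lit 4) (Steps.bwd (nat_lit 3) (Steps.bwd (nat_lit 2) (Steps.bwd (nat_lit 3) (Steps.bwd (nat_lit 4) (Steps.fwd (nat_lit 12288) (Steps.fwd (nat_lit 12288) (Steps.fwd (nat_lit 4096) (Steps.fwd (nat_lit 6144) (Steps.bwd (nat_lit 4) (Steps.fwd (nat_lit 10240) (Steps.bwd (nat_lit 4) (Steps.bwd (nat_lit 3) (Steps.fwd (nat_lit 4096) (Steps.bwd (nat_lit 3) (Steps.fwd (nat_lit 8192) (Steps.fwd (nat_lit 12288) (Steps.bwd (nat_lit 4) (Steps.bwd (nat_lit 2) (Steps.fwd (nat_lit 6144) (Steps.fwd (nat_lit 8192) (Steps.fwd (nat_lit 6144) (Steps.fwd (nat_lit 4096)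 (Steps.fwd (nat_lit 6144) (Steps.fwd (nat_lit 10240) (Steps.fwd (nat_lit 8192) (Steps.fwd (nat_lit 6144) (Steps.fwd (nat_lit 4096) (Steps.fwd (nat_lit 6144) (Steps.fwd (nat_lit 8192) (Steps.fwd (nat_lit 12288) (Steps.bwd (nat_lit 4) (Steps.bwd (nat_lit 5) (Steps.bwd (nat_lit 4) (Steps.fwd (nat_lit 6144) (Steps.bwd (nat_lit 2) (Steps.bwd (nat_lit 3) (Steps.fwd (nat_lit 8192) (Steps.bwd (nat_lit 5) (Steps.bwd (nat_lit 4) (Steps.fwd (nat_lit 6144) (Steps.bwd (nat_lit 2) (Steps.fwd (nat_lit 6144) (Steps.fwd (nat_lit 8192) (Steps.bwd (nat_lit 6) Steps.nil)))))))))))))))))))))))))))))))))))))))))))))))))))) (nat_lit 44) (nat_lit 39),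
  Rule.mk (nat_lit 0) (nat_lit 70) (Steps.fwd (nat_lit 12288) (Steps.fwd (nat_lit 12288) (Steps.bwd (nat_lit 8) (Steps.bwd (nat_lit 6) (Steps.bwd (nat_lit 7) Steps.nil))))) (nat_lit 37) (nat_lit 0),
  Rule.mk (nat_lit 4) (nat_lit 106) (Steps.fwd (nat_lit 10240) (Steps.bwd (nat_lit 6) (Steps.fwd (nat_lit 8192) (Steps.bwd (nat_lit 5) (Steps.bwd (nat_lit 5) (Steps.bwd (nat_lit 5) (Steps.bwd (nat_lit 4) (Steps.bwd (nat_lit 6) Steps.nil)))))))) (nat_lit 24) (nat_lit 3),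
  Rule.mk (nat_lit 2) (nat_lit 106) (Steps.bwd (nat_lit 3) (Steps.bwd (nat_lit 2) (Steps.bwd (nat_lit 1) (Steps.fwd (nat_lit 6144) (Steps.fwd (nat_lit 4096) (Steps.bwd (nat_lit 3) (Steps.bwd (nat_lit 2) (Steps.bwd (nat_lit 3) Steps.nil)))))))) (nat_lit 10) (nat_lit 7),
  Rule.mk (nat_lit 1) (nat_lit 106) (Steps.bwd (nat_lit 3) (Steps.bwd (nat_lit 2) (Steps.fwd (nat_lit 6144) (Steps.fwd (nat_lit 4096) (Steps.bwd (nat_lit 3) (Steps.bwd (nat_lit 2) (Steps.bwd (nat_lit 3) (Steps.bwd (nat_lit 2) Steps.nil)))))))) (nat_lit 10) (nat_lit 1),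
  Rule.mk (nat_lit 2) (nat_lit 634) (Steps.bwd (nat_lit 3) (Steps.bwd (nat_lit 4) (Steps.bwd (nat_lit 5) (Steps.bwd (nat_lit 4) (Steps.bwd (nat_lit 2) (Steps.bwd (nat_lit 3) (Steps.bwd (nat_lit 4) (Steps.bwd (nat_lit 3) (Steps.bwd (nat_lit 2) (Steps.bwd (nat_lit 3) (Steps.bwd (nat_lit 6) (Steps.bwd (nat_lit 4) (Steps.bwd (nat_lit 3) (Steps.bwd (nat_lit 2) (Steps.bwd (nat_lit 3) (Steps.bwd (nat_lit 4) (Steps.bwd (nat_lit 5) (Steps.bwd (nat_lit 4) (Steps.bwd (nat_lit 5) (Steps.bwd (nat_lit 4) (Steps.bwd (nat_lit 3) (Steps.bwd (nat_lit 2) (Steps.bwd (nat_lit 3) (Steps.bwd (nat_lit 4) (Steps.bwd (nat_lit 5) (Steps.bwd (nat_lit 4) (Steps.bwd (nat_lit 3) (Steps.bwd (nat_lit 2) (Steps.bwd (nat_lit 3) (Steps.bwd (nat_lit 4) (Steps.bwd (nat_lit 6) (Steps.bwd (nat_lit 6) (Steps.bwd (nat_lit 6) (Steps.bwd (nat_lit 4) (Steps.bwd (nat_lit 3) (Steps.bwd (nat_lit 2) (Steps.bwd (nat_lit 3) (Steps.bwd (nat_lit 4) (Steps.bwd (nat_lit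 6) (Steps.bwd (nat_lit 4) (Steps.bwd (nat_lit 3) (Steps.bwd (nat_lit 2) (Steps.bwd (nat_lit 3) (Steps.bwd (nat_lit 4) (Steps.fwd (nat_lit 12288) (Steps.bwd (nat_lit 5) (Steps.bwd (nat_lit 2) (Steps.bwd (nat_lit 3) (Steps.bwd (nat_lit 4) (Steps.fwd (nat_lit 10240) (Steps.fwd (nat_lit 8192) (Steps.fwd (nat_lit 6144) Steps.nil)))))))))))))))))))))))))))))))))))))))))))))))))))) (nat_lit 44) (nat_lit 7),
  Rule.mk (nat_lit 1) (nat_lit 106) (Steps.fwd (nat_lit 6144) (Steps.fwd (nat_lit 4096) (Steps.fwd (nat_lit 6144) (Steps.fwd (nat_lit 4096) (Steps.fwd (nat_lit 6144) (Steps.fwd (nat_lit 4096) (Steps.fwd (nat_lit 6144) (Steps.bwd (nat_lit 2) Steps.nil)))))))) (nat_lit 10) (nat_lit 1),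
  Rule.mk (nat_lit 0) (nat_lit 118) (Steps.fwd (nat_lit 4096) (Steps.bwd (nat_lit 3) (Steps.bwd (nat_lit 2) (Steps.bwd (nat_lit 3) (Steps.bwd (nat_lit 2) (Steps.bwd (nat_lit 3) (Steps.fwd (nat_lit 2048) (Steps.bwd (nat_lit 2) (Steps.bwd (nat_lit 3) Steps.nil))))))))) (nat_lit 11) (nat_lit 2),
  Rule.mk (nat_lit 0) (nat_lit 46) (Steps.fwd (nat_lit 8192) (Steps.bwd (nat_lit 0) (Steps.bwd (nat_lit 4) Steps.nil))) (nat_lit 230) (nat_lit 0),
  Rule.mk (nat_lit 4) (nat_lit 70) (Steps.bwd (nat_lit 3) (Steps.fwd (nat_lit 8192) (Steps.bwd (nat_lit 3) (Steps.fwd (nat_lit 8192) (Steps.fwd (nat_lit 6144) Steps.nil))))) (nat_lit 14) (nat_lit 0),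
  Rule.mk (nat_lit 1) (nat_lit 106) (Steps.bwd (nat_lit 3) (Steps.bwd (nat_lit 2) (Steps.bwd (nat_lit 3) (Steps.fwd (nat_lit 4096) (Steps.fwd (nat_lit 6144) (Steps.fwd (nat_lit 4096) (Steps.fwd (nat_lit 6144) (Steps.fwd (nat_lit 4096) Steps.nil)))))))) (nat_lit 10) (nat_lit 1),
  Rule.mk (nat_lit 6) (nat_lit 634) (Steps.bwd (nat_lit 4) (Steps.fwd (nat_lit 6144) (Steps.fwd (nat_lit 4096) (Steps.bwd (nat_lit 3) (Steps.bwd (nat_lit 4) (Steps.fwd (nat_lit 12288) (Steps.bwd (nat_lit 5) (Steps.fwd (nat_lit 4096) (Steps.fwd (nat_lit 6144) (Steps.fwd (nat_lit 8192) (Steps.bwd (nat_lit 6) (Steps.fwd (nat_lit 8192) (Steps.bwd (nat_lit 3) (Steps.bwd (nat_lit 2) (Steps.bwd (nat_lit 3) (Steps.fwd (nat_lit 8192) (Steps.bwd (nat_lit 5) (Steps.bwd (nat_lit 4) (Steps.bwd (nat_lit 2) (Steps.bwd (nat_lit 3) (Steps.bwd (nat_lit 4) (Steps.fwd (nat_lit 6144) (Steps.fwd (nat_lit 4096) (Steps.fwd (nat_lit 6144) (Steps.fwd (nat_lit 10240) (Steps.bwd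 (nat_lit 4) (Steps.fwd (nat_lit 6144) (Steps.fwd (nat_lit 4096) (Steps.fwd (nat_lit 6144) (Steps.bwd (nat_lit 4) (Steps.bwd (nat_lit 5) (Steps.bwd (nat_lit 4) (Steps.bwd (nat_lit 5) (Steps.bwd (nat_lit 4) (Steps.fwd (nat_lit 6144) (Steps.fwd (nat_lit 4096) (Steps.bwd (nat_lit 3) (Steps.fwd (nat_lit 8192) (Steps.fwd (nat_lit 12288) (Steps.bwd (nat_lit 4) (Steps.bwd (nat_lit 3) (Steps.bwd (nat_lit 2) (Steps.fwd (nat_lit 6144) (Steps.fwd (nat_lit 8192) (Steps.bwd (nat_lit 6) (Steps.bwd (nat_lit 6) (Steps.bwd (nat_lit 6) (Steps.bwd (nat_lit 4) (Steps.fwd (nat_lit 6144) (Steps.bwd (nat_lit 2) (Steps.bwd (nat_lit 3) (Steps.fwd (nat_lit 8192) Steps.nil)))))))))))))))))))))))))))))))))))))))))))))))))))) (nat_lit 44) (nat_lit 46),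
  Rule.mk (nat_lit 4) (nat_lit 634) (Steps.bwd (nat_lit 5) (Steps.bwd (nat_lit 4) (Steps.bwd (nat_lit 3) (Steps.bwd (nat_lit 2) (Steps.bwd (nat_lit 3) (Steps.bwd (nat_lit 4) (Steps.bwd (nat_lit 5) (Steps.bwd (nat_lit 4) (Steps.bwd (nat_lit 3) (Steps.bwd (nat_lit 2) (Steps.bwd (nat_lit 3) (Steps.bwd (nat_lit 4) (Steps.bwd (nat_lit 6) (Steps.bwd (nat_lit 6) (Steps.bwd (nat_lit 6) (Steps.fwd (nat_lit 8192) (Steps.fwd (nat_lit 6144) (Steps.bwd (nat_lit 2) (Steps.bwd (nat_lit 3) (Steps.fwd (nat_lit 8192) (Steps.fwd (nat_lit 10240) (Steps.fwd (nat_lit 8192) (Steps.fwd (nat_lit 6144) (Steps.bwd (nat_lit 2) (Steps.fwd (nat_lit 6144) (Steps.fwd (nat_lit 8192) (Steps.bwd (nat_lit 5) (Steps.fwd (nat_lit 12288) (Steps.bwd (nat_lit 2) (Steps.bwd (nat_lit 3) (Steps.bwd (nat_lit 4) (Steps.fwd (nat_lit 10240) (Steps.fwd (nat_lit 8192) (Steps.bwd (nat_lit 3) (Steps.fwd (nat_lit 4096) (Steps.fwd (nat_lit 6144) (Steps.fwd (nat_lit 8192)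 (Steps.fwd (nat_lit 12288) (Steps.fwd (nat_lit 8192) (Steps.fwd (nat_lit 4096) (Steps.bwd (nat_lit 3) (Steps.fwd (nat_lit 8192) (Steps.fwd (nat_lit 6144) (Steps.fwd (nat_lit 4096) (Steps.fwd (nat_lit 6144) (Steps.fwd (nat_lit 10240) (Steps.bwd (nat_lit 4) (Steps.fwd (nat_lit 6144) (Steps.bwd (nat_lit 2) (Steps.fwd (nat_lit 6144) (Steps.fwd (nat_lit 8192) (Steps.bwd (nat_lit 5) Steps.nil)))))))))))))))))))))))))))))))))))))))))))))))))))) (nat_lit 44) (nat_lit 25),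
  Rule.mk (nat_lit 0) (nat_lit 118) (Steps.fwd (nat_lit 10240) (Steps.fwd (nat_lit 8192) (Steps.fwd (nat_lit 12288) (Steps.bwd (nat_lit 5) (Steps.bwd (nat_lit 4) (Steps.bwd (nat_lit 5) (Steps.fwd (nat_lit 8192) (Steps.fwd (nat_lit 10240) (Steps.fwd (nat_lit 10240) Steps.nil))))))))) (nat_lit 25) (nat_lit 2),
  Rule.mk (nat_lit 3) (nat_lit 634) (Steps.bwd (nat_lit 2) (Steps.bwd (nat_lit 3) (Steps.fwd (nat_lit 8192) (Steps.bwd (nat_lit 5) (Steps.bwd (nat_lit 5) (Steps.fwd (nat_lit 4096) (Steps.fwd (nat_lit 6144) (Steps.bwd (nat_lit 4) (Steps.fwd (nat_lit 10240) (Steps.fwd (nat_lit 8192) (Steps.fwd (nat_lit 6144) (Steps.fwd (nat_lit 4096) (Steps.fwd (nat_lit 6144) (Steps.fwd (nat_lit 8192) (Steps.bwd (nat_lit 5) (Steps.bwd (nat_lit 4) (Steps.fwd (nat_lit 4096) (Steps.fwd (nat_lit 6144) (Steps.fwd (nat_lit 8192) (Steps.fwd (nat_lit 6144) (Steps.fwd (nat_lit 4096) (Steps.bwd (nat_lit 3) (Steps.fwd (nat_lit 10240) (Steps.fwd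 (nat_lit 8192) (Steps.fwd (nat_lit 6144) (Steps.fwd (nat_lit 4096) (Steps.fwd (nat_lit 6144) (Steps.fwd (nat_lit 8192) (Steps.fwd (nat_lit 12288) (Steps.bwd (nat_lit 4) (Steps.fwd (nat_lit 12288) (Steps.fwd (nat_lit 8192) (Steps.fwd (nat_lit 6144) (Steps.bwd (nat_lit 2) (Steps.bwd (nat_lit 3) (Steps.bwd (nat_lit 4) (Steps.fwd (nat_lit 12288) (Steps.fwd (nat_lit 8192) (Steps.fwd (nat_lit 6144) (Steps.fwd (nat_lit 4096) (Steps.fwd (nat_lit 6144) (Steps.fwd (nat_lit 8192) (Steps.fwd (nat_lit 10240) (Steps.bwd (nat_lit 6) (Steps.fwd (nat_lit 10240) (Steps.bwd (nat_lit 4) (Steps.fwd (nat_lit 6144) (Steps.bwd (nat_lit 2) (Steps.fwd (nat_lit 6144) (Steps.fwd (nat_lit 8192) (Steps.bwd (nat_lit 6) (Steps.bwd (nat_lit 4) Steps.nil)))))))))))))))))))))))))))))))))))))))))))))))))))) (nat_lit 44) (nat_lit 48),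
  Rule.mk (nat_lit 4) (nat_lit 634) (Steps.bwd (nat_lit 3) (Steps.fwd (nat_lit 4096) (Steps.bwd (nat_lit 3) (Steps.fwd (nat_lit 8192) (Steps.fwd (nat_lit 12288) (Steps.fwd (nat_lit 8192) (Steps.bwd (nat_lit 5) (Steps.bwd (nat_lit 4) (Steps.bwd (nat_lit 3) (Steps.fwd (nat_lit 4096) (Steps.fwd (nat_lit 6144) (Steps.fwd (nat_lit 8192) (Steps.bwd (nat_lit 5) (Steps.bwd (nat_lit 4) (Steps.bwd (nat_lit 3) (Steps.bwd (nat_lit 2) (Steps.fwd (nat_lit 6144) (Steps.fwd (nat_lit 8192) (Steps.bwd (nat_lit 6) (Steps.bwd (nat_lit 6) (Steps.bwd (nat_lit 6) (Steps.bwd (nat_lit 4) (Steps.bwd (nat_lit 3) (Steps.bwd (nat_lit 2) (Steps.fwd (nat_lit 6144) (Steps.fwd (nat_lit 8192) (Steps.fwd (nat_lit 10240) (Steps.fwd (nat_lit 8192) (Steps.fwd (nat_lit 6144) (Steps.fwd (nat_lit 4096) (Steps.fwd (nat_lit 6144) (Steps.fwd (nat_lit 8192) (Steps.fwd (nat_lit 12288) (Steps.fwd (nat_lit 12288) (Steps.bwd (nat_lit 2) (Steps.bwd (nat_lit 3) (Steps.bwd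 (nat_lit 4) (Steps.fwd (nat_lit 10240) (Steps.fwd (nat_lit 8192) (Steps.fwd (nat_lit 6144) (Steps.bwd (nat_lit 2) (Steps.bwd (nat_lit 3) (Steps.fwd (nat_lit 8192) (Steps.fwd (nat_lit 12288) (Steps.fwd (nat_lit 8192) (Steps.fwd (nat_lit 4096) (Steps.bwd (nat_lit 3) (Steps.bwd (nat_lit 4) (Steps.fwd (nat_lit 6144) (Steps.fwd (nat_lit 4096) (Steps.bwd (nat_lit 3) (Steps.fwd (nat_lit 10240) Steps.nil)))))))))))))))))))))))))))))))))))))))))))))))))))) (nat_lit 44) (nat_lit 19),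
  Rule.mk (nat_lit 5) (nat_lit 106) (Steps.bwd (nat_lit 5) (Steps.bwd (nat_lit 5) (Steps.bwd (nat_lit 4) (Steps.bwd (nat_lit 6) (Steps.fwd (nat_lit 8192) (Steps.bwd (nat_lit 6) (Steps.fwd (nat_lit 10240) (Steps.bwd (nat_lit 4) Steps.nil)))))))) (nat_lit 24) (nat_lit 9),
  Rule.mk (nat_lit 6) (nat_lit 106) (Steps.bwd (nat_lit 6) (Steps.fwd (nat_lit 8192) (Steps.bwd (nat_lit 5) (Steps.fwd (nat_lit 12288) (Steps.bwd (nat_lit 5) (Steps.fwd (nat_lit 8192) (Steps.fwd (nat_lit 10240) (Steps.bwd (nat_lit 4) Steps.nil)))))))) (nat_lit 24) (nat_lit 6),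
  Rule.mk (nat_lit 4) (nat_lit 634) (Steps.bwd (nat_lit 2) (Steps.bwd (nat_lit 3) (Steps.bwd (nat_lit 4) (Steps.bwd (nat_lit 3) (Steps.bwd (nat_lit 2) (Steps.bwd (nat_lit 3) (Steps.bwd (nat_lit 6) (Steps.bwd (nat_lit 4) (Steps.bwd (nat_lit 3) (Steps.fwd (nat_lit 4096) (Steps.bwd (nat_lit 3) (Steps.bwd (nat_lit 4) (Steps.fwd (nat_lit 12288) (Steps.bwd (nat_lit 4) (Steps.fwd (nat_lit 12288) (Steps.fwd (nat_lit 8192) (Steps.fwd (nat_lit 6144) (Steps.fwd (nat_lit 4096) (Steps.fwd (nat_lit 6144) (Steps.fwd (nat_lit 8192) (Steps.fwd (nat_lit 12288) (Steps.bwd (nat_lit 4) (Steps.bwd (nat_lit 3) (Steps.bwd (nat_lit 2) (Steps.fwd (nat_lit 6144) (Steps.fwd (nat_lit 8192) (Steps.fwd (nat_lit 10240) (Steps.fwd (nat_lit 10240) (Steps.fwd (nat_lit 10240) (Steps.fwd (nat_lit 8192) (Steps.fwd (nat_lit 6144) (Steps.fwd (nat_lit 4096) (Steps.fwd (nat_lit 6144) (Steps.fwd (nat_lit 8192) (Steps.bwd (nat_lit 6) (Steps.bwd (nat_lit 4) (Steps.bwd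 (nat_lit 3) (Steps.bwd (nat_lit 2) (Steps.bwd (nat_lit 3) (Steps.bwd (nat_lit 4) (Steps.bwd (nat_lit 5) (Steps.fwd (nat_lit 12288) (Steps.bwd (nat_lit 2) (Steps.fwd (nat_lit 6144) (Steps.fwd (nat_lit 8192) (Steps.fwd (nat_lit 10240) (Steps.fwd (nat_lit 8192) (Steps.fwd (nat_lit 6144) (Steps.fwd (nat_lit 4096) (Steps.fwd (nat_lit 6144) (Steps.fwd (nat_lit 8192) (Steps.fwd (nat_lit 12288) Steps.nil)))))))))))))))))))))))))))))))))))))))))))))))))))) (nat_lit 44) (nat_lit 11),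
  Rule.mk (nat_lit 5) (nat_lit 106) (Steps.bwd (nat_lit 5) (Steps.bwd (nat_lit 5) (Steps.fwd (nat_lit 8192) (Steps.fwd (nat_lit 10240) (Steps.fwd (nat_lit 8192) (Steps.fwd (nat_lit 10240) (Steps.fwd (nat_lit 10240) (Steps.bwd (nat_lit 4) Steps.nil)))))))) (nat_lit 24) (nat_lit 9),
  Rule.mk (nat_lit 6) (nat_lit 106) (Steps.fwd (nat_lit 10240) (Steps.fwd (nat_lit 8192) (Steps.bwd (nat_lit 5) (Steps.bwd (nat_lit 5) (Steps.bwd (nat_lit 5) (Steps.bwd (nat_lit 4) (Steps.fwd (nat_lit 10240) (Steps.bwd (nat_lit 4) Steps.nil)))))))) (nat_lit 24) (nat_lit 6),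
  Rule.mk (nat_lit 2) (nat_lit 634) (Steps.bwd (nat_lit 3) (Steps.bwd (nat_lit 4) (Steps.bwd (nat_lit 6) (Steps.fwd (nat_lit 10240) (Steps.bwd (nat_lit 6) (Steps.fwd (nat_lit 8192) (Steps.bwd (nat_lit 3) (Steps.bwd (nat_lit 2) (Steps.bwd (nat_lit 3) (Steps.bwd (nat_lit 4) (Steps.bwd (nat_lit 6) (Steps.fwd (nat_lit 8192) (Steps.fwd (nat_lit 6144) (Steps.fwd (nat_lit 4096) (Steps.bwd (nat_lit 3) (Steps.fwd (nat_lit 8192) (Steps.bwd (nat_lit 5) (Steps.bwd (nat_lit 5) (Steps.bwd (nat_lit 2) (Steps.bwd (nat_lit 3) (Steps.bwd (nat_lit 4) (Steps.fwd (nat_lit 10240) (Steps.bwd (nat_lit 4) (Steps.bwd (nat_lit 3) (Steps.bwd (nat_lit 2) (Steps.bwd (nat_lit 3) (Steps.bwd (nat_lit 4) (Steps.fwd (nat_lit 12288) (Steps.fwd (nat_lit 8192) (Steps.bwd (nat_lit 2) (Steps.bwd (nat_lit 3) (Steps.bwd (nat_lit 4) (Steps.fwd (nat_lit 6144) (Steps.fwd (nat_lit 4096) (Steps.fwd (nat_lit 6144) (Steps.fwd (nat_lit 10240) (Steps.fwd (nat_lit 8192)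 (Steps.fwd (nat_lit 6144) (Steps.fwd (nat_lit 4096) (Steps.bwd (nat_lit 3) (Steps.bwd (nat_lit 4) (Steps.fwd (nat_lit 12288) (Steps.bwd (nat_lit 4) (Steps.bwd (nat_lit 5) (Steps.bwd (nat_lit 4) (Steps.fwd (nat_lit 6144) (Steps.bwd (nat_lit 2) (Steps.fwd (nat_lit 6144) (Steps.fwd (nat_lit 8192) (Steps.bwd (nat_lit 5) (Steps.fwd (nat_lit 8192) (Steps.fwd (nat_lit 6144) Steps.nil)))))))))))))))))))))))))))))))))))))))))))))))))))) (nat_lit 44) (nat_lit 35),
  Rule.mk (nat_lit 1) (nat_lit 106) (Steps.fwd (nat_lit 6144) (Steps.bwd (nat_lit 2) (Steps.bwd (nat_lit 3) (Steps.fwd (nat_lit 4096) (Steps.fwd (nat_lit 6144) (Steps.fwd (nat_lit 4096) (Steps.fwd (nat_lit 6144) (Steps.fwd (nat_lit 4096) Steps.nil)))))))) (nat_lit 10) (nat_lit 1),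
  Rule.mk (nat_lit 1) (nat_lit 106) (Steps.fwd (nat_lit 4096) (Steps.fwd (nat_lit 6144) (Steps.bwd (nat_lit 2) (Steps.bwd (nat_lit 3) (Steps.fwd (nat_lit 4096) (Steps.fwd (nat_lit 6144) (Steps.fwd (nat_lit 4096) (Steps.fwd (nat_lit 6144) Steps.nil)))))))) (nat_lit 11) (nat_lit 0),
  Rule.mk (nat_lit 1) (nat_lit 106) (Steps.bwd (nat_lit 2) (Steps.bwd (nat_lit 3) (Steps.fwd (nat_lit 4096) (Steps.fwd (nat_lit 6144) (Steps.fwd (nat_lit 4096) (Steps.fwd (nat_lit 6144) (Steps.fwd (nat_lit 4096) (Steps.fwd (nat_lit 6144) Steps.nil)))))))) (nat_lit 11) (nat_lit 0),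
  Rule.mk (nat_lit 5) (nat_lit 634) (Steps.bwd (nat_lit 5) (Steps.bwd (nat_lit 2) (Steps.bwd (nat_lit 3) (Steps.fwd (nat_lit 8192) (Steps.bwd (nat_lit 6) (Steps.fwd (nat_lit 8192) (Steps.bwd (nat_lit 3) (Steps.fwd (nat_lit 4096) (Steps.fwd (nat_lit 6144) (Steps.fwd (nat_lit 8192) (Steps.bwd (nat_lit 5) (Steps.bwd (nat_lit 4) (Steps.bwd (nat_lit 2) (Steps.fwd (nat_lit 6144) (Steps.fwd (nat_lit 8192) (Steps.fwd (nat_lit 6144) (Steps.bwd (nat_lit 2) (Steps.bwd (nat_lit 3) (Steps.bwd (nat_lit 6) (Steps.bwd (nat_lit 4) (Steps.bwd (nat_lit 3) (Steps.bwd (nat_lit 2) (Steps.bwd (nat_lit 3) (Steps.bwd (nat_lit 4) (Steps.bwd (nat_lit 5) (Steps.bwd (nat_lit 4) (Steps.bwd (nat_lit 5) (Steps.bwd (nat_lit 4) (Steps.fwd (nat_lit 6144) (Steps.bwd (nat_lit 2) (Steps.bwd (nat_lit 3) (Steps.bwd (nat_lit 4) (Steps.fwd (nat_lit 12288) (Steps.fwd (nat_lit 8192) (Steps.fwd (nat_lit 6144) (Steps.fwd (nat_lit 4096) (Steps.fwd (nat_lit 6144)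 (Steps.bwd (nat_lit 4) (Steps.fwd (nat_lit 10240) (Steps.bwd (nat_lit 6) (Steps.bwd (nat_lit 6) (Steps.bwd (nat_lit 4) (Steps.bwd (nat_lit 3) (Steps.bwd (nat_lit 2) (Steps.bwd (nat_lit 3) (Steps.fwd (nat_lit 8192) (Steps.bwd (nat_lit 6) (Steps.fwd (nat_lit 8192) (Steps.fwd (nat_lit 6144) (Steps.fwd (nat_lit 4096) (Steps.fwd (nat_lit 6144) (Steps.fwd (nat_lit 8192) Steps.nil)))))))))))))))))))))))))))))))))))))))))))))))))))) (nat_lit 44) (nat_lit 52),
  Rule.mk (nat_lit 6) (nat_lit 106) (Steps.fwd (nat_lit 8192) (Steps.bwd (nat_lit 6) (Steps.fwd (nat_lit 10240) (Steps.fwd (nat_lit 8192) (Steps.bwd (nat_lit 5) (Steps.fwd (nat_lit 12288) (Steps.bwd (nat_lit 5) (Steps.fwd (nat_lit 8192) Steps.nil)))))))) (nat_lit 24) (nat_lit 2),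
  Rule.mk (nat_lit 4) (nat_lit 634) (Steps.bwd (nat_lit 5) (Steps.bwd (nat_lit 5) (Steps.bwd (nat_lit 2) (Steps.fwd (nat_lit 6144) (Steps.fwd (nat_lit 8192) (Steps.fwd (nat_lit 10240) (Steps.fwd (nat_lit 8192) (Steps.fwd (nat_lit 6144) (Steps.fwd (nat_lit 4096) (Steps.fwd (nat_lit 6144) (Steps.fwd (nat_lit 8192) (Steps.bwd (nat_lit 5) (Steps.fwd (nat_lit 8192) (Steps.bwd (nat_lit 2) (Steps.fwd (nat_lit 6144) (Steps.fwd (nat_lit 8192) (Steps.fwd (nat_lit 6144) (Steps.fwd (nat_lit 4096) (Steps.fwd (nat_lit 6144) (Steps.fwd (nat_lit 10240) (Steps.bwd (nat_lit 4) (Steps.fwd (nat_lit 6144) (Steps.bwd (nat_lit 2) (Steps.fwd (nat_lit 6144) (Steps.bwd (nat_lit 4) (Steps.fwd (nat_lit 12288) (Steps.fwd (nat_lit 8192) (Steps.fwd (nat_lit 12288) (Steps.bwd (nat_lit 4) (Steps.bwd (nat_lit 3) (Steps.bwd (nat_lit 2) (Steps.fwd (nat_lit 6144) (Steps.bwd (nat_lit 4) (Steps.bwd (nat_lit 5) (Steps.bwd (nat_lit 4) (Steps.bwd (nat_lit 3)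 (Steps.bwd (nat_lit 2) (Steps.fwd (nat_lit 6144) (Steps.bwd (nat_lit 4) (Steps.bwd (nat_lit 6) (Steps.fwd (nat_lit 10240) (Steps.fwd (nat_lit 10240) (Steps.bwd (nat_lit 4) (Steps.fwd (nat_lit 6144) (Steps.bwd (nat_lit 2) (Steps.fwd (nat_lit 6144) (Steps.fwd (nat_lit 8192) (Steps.bwd (nat_lit 6) (Steps.fwd (nat_lit 8192) (Steps.bwd (nat_lit 3) (Steps.fwd (nat_lit 4096) (Steps.fwd (nat_lit 6144) Steps.nil)))))))))))))))))))))))))))))))))))))))))))))))))))) (nat_lit 44) (nat_lit 51),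
  Rule.mk (nat_lit 2) (nat_lit 634) (Steps.bwd (nat_lit 3) (Steps.bwd (nat_lit 4) (Steps.fwd (nat_lit 6144) (Steps.bwd (nat_lit 2) (Steps.bwd (nat_lit 3) (Steps.bwd (nat_lit 6) (Steps.fwd (nat_lit 8192) (Steps.fwd (nat_lit 6144) (Steps.bwd (nat_lit 2) (Steps.bwd (nat_lit 3) (Steps.bwd (nat_lit 4) (Steps.fwd (nat_lit 12288) (Steps.fwd (nat_lit 8192) (Steps.fwd (nat_lit 12288) (Steps.fwd (nat_lit 8192) (Steps.fwd (nat_lit 6144) (Steps.fwd (nat_lit 4096) (Steps.bwd (nat_lit 3) (Steps.fwd (nat_lit 8192) (Steps.fwd (nat_lit 12288) (Steps.bwd (nat_lit 4) (Steps.bwd (nat_lit 3) (Steps.bwd (nat_lit 2) (Steps.fwd (nat_lit 6144) (Steps.bwd (nat_lit 4) (Steps.bwd (nat_lit 6) (Steps.fwd (nat_lit 10240) (Steps.bwd (nat_lit 6) (Steps.fwd (nat_lit 8192) (Steps.fwd (nat_lit 6144) (Steps.fwd (nat_lit 4096) (Steps.fwd (nat_lit 6144) (Steps.bwd (nat_lit 4) (Steps.fwd (nat_lit 10240) (Steps.bwd (nat_lit 4) (Steps.bwd (nat_lit 3) (Steps.fwd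 (nat_lit 4096) (Steps.bwd (nat_lit 3) (Steps.fwd (nat_lit 8192) (Steps.fwd (nat_lit 12288) (Steps.bwd (nat_lit 5) (Steps.bwd (nat_lit 2) (Steps.bwd (nat_lit 3) (Steps.bwd (nat_lit 4) (Steps.bwd (nat_lit 6) (Steps.fwd (nat_lit 8192) (Steps.fwd (nat_lit 6144) (Steps.fwd (nat_lit 4096) (Steps.fwd (nat_lit 6144) (Steps.bwd (nat_lit 4) (Steps.bwd (nat_lit 5) (Steps.bwd (nat_lit 4) Steps.nil)))))))))))))))))))))))))))))))))))))))))))))))))))) (nat_lit 44) (nat_lit 12),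
  Rule.mk (nat_lit 2) (nat_lit 106) (Steps.bwd (nat_lit 3) (Steps.bwd (nat_lit 2) (Steps.bwd (nat_lit 3) (Steps.fwd (nat_lit 4096) (Steps.fwd (nat_lit 6144) (Steps.bwd (nat_lit 2) (Steps.bwd (nat_lit 1) (Steps.bwd (nat_lit 3) Steps.nil)))))))) (nat_lit 10) (nat_lit 3),
  Rule.mk (nat_lit 1) (nat_lit 106) (Steps.bwd (nat_lit 3) (Steps.bwd (nat_lit 2) (Steps.bwd (nat_lit 3) (Steps.bwd (nat_lit 2) (Steps.fwd (nat_lit 6144) (Steps.bwd (nat_lit 2) (Steps.bwd (nat_lit 3) (Steps.bwd (nat_lit 2) Steps.nil)))))))) (nat_lit 10) (nat_lit 1),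
  Rule.mk (nat_lit 4) (nat_lit 106) (Steps.fwd (nat_lit 10240) (Steps.fwd (nat_lit 10240) (Steps.fwd (nat_lit 10240) (Steps.fwd (nat_lit 8192) (Steps.fwd (nat_lit 12288) (Steps.fwd (nat_lit 12288) (Steps.fwd (nat_lit 8192) (Steps.bwd (nat_lit 5) Steps.nil)))))))) (nat_lit 25) (nat_lit 0),
  Rule.mk (nat_lit 3) (nat_lit 634) (Steps.bwd (nat_lit 2) (Steps.fwd (nat_lit 6144) (Steps.fwd (nat_lit 8192) (Steps.fwd (nat_lit 12288) (Steps.bwd (nat_lit 4) (Steps.bwd (nat_lit 2) (Steps.fwd (nat_lit 6144) (Steps.fwd (nat_lit 8192) (Steps.bwd (nat_lit 3) (Steps.fwd (nat_lit 4096) (Steps.fwd (nat_lit 6144) (Steps.bwd (nat_lit 6) (Steps.bwd (nat_lit 4) (Steps.bwd (nat_lit 3) (Steps.fwd (nat_lit 4096) (Steps.fwd (nat_lit 6144) (Steps.bwd (nat_lit 4) (Steps.bwd (nat_lit 5) (Steps.fwd (nat_lit 8192) (Steps.fwd (nat_lit 12288) (Steps.fwd (nat_lit 8192) (Steps.bwd (nat_lit 3) (Steps.bwd (nat_lit 2) (Steps.fwd (nat_lit 6144) (Steps.bwd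 (nat_lit 4) (Steps.bwd (nat_lit 5) (Steps.fwd (nat_lit 8192) (Steps.fwd (nat_lit 6144) (Steps.fwd (nat_lit 4096) (Steps.fwd (nat_lit 6144) (Steps.bwd (nat_lit 4) (Steps.bwd (nat_lit 6) (Steps.bwd (nat_lit 6) (Steps.fwd (nat_lit 10240) (Steps.bwd (nat_lit 4) (Steps.fwd (nat_lit 6144) (Steps.fwd (nat_lit 4096) (Steps.bwd (nat_lit 3) (Steps.fwd (nat_lit 8192) (Steps.bwd (nat_lit 6) (Steps.bwd (nat_lit 4) (Steps.bwd (nat_lit 3) (Steps.fwd (nat_lit 4096) (Steps.fwd (nat_lit 6144) (Steps.fwd (nat_lit 8192) (Steps.fwd (nat_lit 12288) (Steps.fwd (nat_lit 12288) (Steps.bwd (nat_lit 2) (Steps.bwd (nat_lit 3) (Steps.fwd (nat_lit 8192) (Steps.bwd (nat_lit 6) (Steps.fwd (nat_lit 8192) Steps.nil)))))))))))))))))))))))))))))))))))))))))))))))))))) (nat_lit 44) (nat_lit 6),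
  Rule.mk (nat_lit 1) (nat_lit 106) (Steps.bwd (nat_lit 2) (Steps.bwd (nat_lit 3) (Steps.bwd (nat_lit 2) (Steps.fwd (nat_lit 6144) (Steps.fwd (nat_lit 4096) (Steps.bwd (nat_lit 3) (Steps.fwd (nat_lit 4096) (Steps.bwd (nat_lit 3) Steps.nil)))))))) (nat_lit 11) (nat_lit 0),
  Rule.mk (nat_lit 6) (nat_lit 634) (Steps.bwd (nat_lit 4) (Steps.bwd (nat_lit 3) (Steps.fwd (nat_lit 4096) (Steps.bwd (nat_lit 3) (Steps.bwd (nat_lit 4) (Steps.fwd (nat_lit 10240) (Steps.fwd (nat_lit 8192) (Steps.fwd (nat_lit 6144) (Steps.fwd (nat_lit 4096) (Steps.fwd (nat_lit 6144) (Steps.fwd (nat_lit 8192) (Steps.fwd (nat_lit 12288) (Steps.bwd (nat_lit 5) (Steps.fwd (nat_lit 4096) (Steps.bwd (nat_lit 3) (Steps.fwd (nat_lit 8192) (Steps.bwd (nat_lit 6) (Steps.bwd (nat_lit 4) (Steps.bwd (nat_lit 3) (Steps.fwd (nat_lit 4096) (Steps.fwd (nat_lit 6144) (Steps.fwd (nat_lit 8192) (Steps.fwd (nat_lit 12288) (Steps.bwd (nat_lit 4) (Steps.bwd (nat_lit 2)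 (Steps.fwd (nat_lit 6144) (Steps.fwd (nat_lit 8192) (Steps.bwd (nat_lit 3) (Steps.fwd (nat_lit 4096) (Steps.bwd (nat_lit 3) (Steps.fwd (nat_lit 10240) (Steps.fwd (nat_lit 8192) (Steps.bwd (nat_lit 3) (Steps.fwd (nat_lit 4096) (Steps.fwd (nat_lit 6144) (Steps.fwd (nat_lit 8192) (Steps.fwd (nat_lit 12288) (Steps.fwd (nat_lit 8192) (Steps.fwd (nat_lit 12288) (Steps.fwd (nat_lit 8192) (Steps.fwd (nat_lit 6144) (Steps.bwd (nat_lit 2) (Steps.bwd (nat_lit 3) (Steps.fwd (nat_lit 8192) (Steps.fwd (nat_lit 12288) (Steps.bwd (nat_lit 4) (Steps.fwd (nat_lit 6144) (Steps.fwd (nat_lit 4096) (Steps.bwd (nat_lit 3) (Steps.bwd (nat_lit 4) (Steps.bwd (nat_lit 6) (Steps.fwd (nat_lit 10240) Steps.nil)))))))))))))))))))))))))))))))))))))))))))))))))))) (nat_lit 44) (nat_lit 40),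
  Rule.mk (nat_lit 4) (nat_lit 634) (Steps.bwd (nat_lit 3) (Steps.bwd (nat_lit 2) (Steps.bwd (nat_lit 3) (Steps.bwd (nat_lit 4) (Steps.bwd (nat_lit 5) (Steps.bwd (nat_lit 4) (Steps.fwd (nat_lit 12288) (Steps.bwd (nat_lit 4) (Steps.bwd (nat_lit 3) (Steps.fwd (nat_lit 4096) (Steps.bwd (nat_lit 3) (Steps.fwd (nat_lit 8192) (Steps.bwd (nat_lit 5) (Steps.bwd (nat_lit 4) (Steps.bwd (nat_lit 3) (Steps.bwd (nat_lit 2) (Steps.fwd (nat_lit 6144) (Steps.bwd (nat_lit 4) (Steps.bwd (nat_lit 6) (Steps.bwd (nat_lit 6) (Steps.fwd (nat_lit 10240) (Steps.fwd (nat_lit 8192) (Steps.fwd (nat_lit 6144) (Steps.fwd (nat_lit 4096) (Steps.fwd (nat_lit 6144) (Steps.fwd (nat_lit 8192) (Steps.bwd (nat_lit 6) (Steps.bwd (nat_lit 4) (Steps.bwd (nat_lit 3) (Steps.bwd (nat_lit 2) (Steps.fwd (nat_lit 6144) (Steps.bwd (nat_lit 4) (Steps.fwd (nat_lit 12288) (Steps.fwd (nat_lit 12288) (Steps.bwd (nat_lit 2) (Steps.bwd (nat_lit 3) (Steps.bwd (nat_lit 4)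 (Steps.bwd (nat_lit 6) (Steps.bwd (nat_lit 4) (Steps.fwd (nat_lit 6144) (Steps.bwd (nat_lit 2) (Steps.bwd (nat_lit 3) (Steps.bwd (nat_lit 4) (Steps.fwd (nat_lit 12288) (Steps.fwd (nat_lit 8192) (Steps.fwd (nat_lit 4096) (Steps.fwd (nat_lit 6144) (Steps.fwd (nat_lit 8192) (Steps.bwd (nat_lit 3) (Steps.bwd (nat_lit 2) (Steps.fwd (nat_lit 6144) (Steps.fwd (nat_lit 10240) Steps.nil)))))))))))))))))))))))))))))))))))))))))))))))))))) (nat_lit 44) (nat_lit 19),
  Rule.mk (nat_lit 5) (nat_lit 106) (Steps.fwd (nat_lit 12288) (Steps.fwd (nat_lit 12288) (Steps.bwd (nat_lit 4) (Steps.bwd (nat_lit 6) (Steps.fwd (nat_lit 8192) (Steps.bwd (nat_lit 6) (Steps.fwd (nat_lit 10240) (Steps.bwd (nat_lit 4) Steps.nil)))))))) (nat_lit 24) (nat_lit 9)]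
noncomputable def R_10 : List (Rule) := [Rule.mk (nat_lit 6) (nat_lit 106) (Steps.bwd (nat_lit 6) (Steps.fwd (nat_lit 8192) (Steps.bwd (nat_lit 5) (Steps.fwd (nat_lit 12288) (Steps.fwd (nat_lit 12288) (Steps.fwd (nat_lit 8192) (Steps.fwd (nat_lit 10240) (Steps.bwd (nat_lit 4) Steps.nil)))))))) (nat_lit 24) (nat_lit 6)]
noncomputable def R : List (List (Rule)) := [R_0, R_1, R_2, R_3, R_4, R_5, R_6, R_7, R_8, R_9, R_10]
def LW : List Word := [[], [0], [4], [6], [8], [10], [11], [12], [13], [6], [7], [8], [9], [10], [11], [12], [13]]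
def par : Par := ⟨11, 5, 16, 27, 2047, 65535, 134217727⟩
theorem hpar : par.ok := by decide
theorem hR0_0 : lall (R) (fun l => lall l (ruleOK R0 LW par)) = true := by decide +kernel
theorem hR0 : lall (R) (fun l => lall l (ruleOK R0 LW par)) = true := hR0_0
theorem hR : RulesOK R0 LW par R := rulesOK_of rfl hR0
def cols : List (ℕ × ℕ) := [(2048, 1), (4096, 2), (6144, 3), (8192, 4), (10240, 6), (14336, 8)]
theorem hcols : lall cols (colOK R0 LW par) = true := by decide +kernel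
noncomputable def JS0 : List ℕ := [nat_lit 0x320000342064d08000c781831c00034205cd08d0cd10024024d10d0c00016319000343008008008343342054d08d20d2406c06c070074d24d20d08d04d00cfccf8cf4cf0cecce8ce4ce0cdccd8cd4cd0ccccc8cc4cc0cbccb8cb4cb0cacca8ca4ca0c9cc98c94c90c8cc88c84c80c7cc78c74c70c6cc68c64c601434634534434300400300434304cd0cd0800c00800cd08d0cd10120020010023413423433443450440040540040400e001040cf40000f34301634234134033f33e33d33c038cfc000cfc0b33d00033d020cec000cec0d339000339030cdc018cdc0b33a00033a028ce0000ce009336000336028cd0000cd00933200033202800401400409000005000020cd8cd4cd0ccccc8cc4cc0cbc07334005334018ccc014ccc05332005332010cc8008cc803331002331008cc0008cc001,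
  nat_lit 0x108c0140000300082200400e00700e084c4cc48004cd0ccc2000100230e00b33700c30e00a07cccc000c3c1e30d30c001334333074000020c300c333000008070cccd8007cd80ccc2a33202a3320a4d70068cc42830900032b064cac000c1c1830500032b05ccaccb0cb4080080cb4cb00001630200032c01f01f01f32c32b054cacd600640b00b00b4060064d60cacca8ca4ca0c9cc98c94c90c8cc88c84c80c7cc78c74c70c6cc68c64c60c5cc58c54c50c4cc48c44c40c3cc38c34c30c2cc28c24c20c1cc18c14c10c0cc08c0427001000098d4800801c2535000132a0900000042300500000b00208801003401c0342132932800134a349080004008c90028d3402cc900241f349000325078c8cc88004d28d241d000007322030d2400001c1c34934f01d34f34906cd20048d201a,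
  nat_lit 0x400f00000801c0040443f33400035f0f80f00040a03d37d0003520b4d48d4cd50018ca4ca0c9c0043c37c0003263273280053533520ecc94c98c9c010d48040df0dec3a00301b3500c0cb0000c943932500001a0e0d340480043734e0003230d8c8c004d3835323045323068d34decc88343720042ff0cc098000c00322fe00034f094d34000bf03200102134b0c400008cdb83036f37037137737804c04b04a04b04c37804404404537737637531b31a31931831731631531431331231131030f30e30d30c30b30a3093083073063053043033023013002ff2fe2fd2fc2fb2fa2f90bc03800008c2d01a0020050b80a80040582c36b0003400b4d0003cdac2c01400e0280ac0040002633c002007094ce8004c5024,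
  nat_lit 0x3650003900f4e40000d942d3650003900f4e40000d942d36536636700333c33b33a0020f0d98008cecce8ce4004e3ce404436436500133a33933800038e10ccdcce0ce400000ce3ce38e34423640003390d8ce4000d90453640063390d8d84000e302d38c0003610f4d84000e302d38c38d38e0033383373360020f0e34008cdccd8cd4004d80d844438b38c00133633533400035f10cccccd0cd4000020d80d7cd784238b0003350d8cd4000e2c3538b0013350d400406cc744133400038a0d4e2803ccd03600f00d01c0f40ac0301003e3830003580b4d60000e0c2c3830003580b0d60018e0c2c33a0003650f8d8c008ce040,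
  nat_lit 0x3a3004396144e5800c53042002148ef8010dd45137500303c0e00080fc5000500213cd900044e03e000371134dc4004d8c4c36300003c008004d10128ee4ee0edc0ecd844b00004303a128d0c010e643639800036d0b4db4db8dbc00cd10d0cd080084936e002343342341001397398120db0db4004d08d04d00000e584739539639700200034134033f118d04000db03536c0043410d8e54000da82c36a0003950b4e54e58e5c008d04d00cfc0043c39539600134033f33e00036910ccf4cf8cfc000014da8da4da04239500033f0d8cfc000e544539500033f0d8cfc000e544539500833f0d8e40000d942d,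
  nat_lit 0x34800113807c004d246a3c20003471a4f00000d14d18683430003be19c1b00b0000653400013c01980000941ac653bd00033d024cec000eec0a0160023390241cceb40046505e00019000c0100041fc6300005b05907e1881d4160004ccc010e04000ccc6133200338109e09e09e381380180cc4008dfcdf81581cc1ec1585f00137e05805517800016c1f45d37d3d73d80980983d308935a35935835735635535435335235135034f34e34d34c34b34a34934834734634534434334234134033f33e33d33c33b33a33933833733633533433333233133032f32e1700042740045b00009037b168f54f40d5c5901500d000160eb004cd58170f2cf28f240285739b00513c19c01010047003158de8014540410061541b001454,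
  nat_lit 0x10020393d41f0f40000e203300200c03b3e10373d23d13d01ec004098f807a384000360078d78d74014e14e101d3af0270041e4e9c0a800c783ad0260021dce0c000e0c66001083001024e000000a0763a53ff02a38138006c0e40ac0482d00b01a02a1d40e801cd54743640001ccf60000d886c3d60003601c8f50004d786c35b00113cf44000d6c6b0370000033591c4d38000e8c70020003000160d30d2cd28044e68e6ce7000c6f34a34901039939a39b0023541b80b81b40046d3c8022000128d400000f39700034e1b0214004d306b,
  nat_lit 0x3640003a61e8e98004d887f01a000250d7c004e949300001e248e90000d707f0030203a4244008284f3c250010613d324000025ce9c8f0243790403c90bb3ef0a13c53c63c74214224230f10f00f14234220e30e304c3a337437337237137036f36e36d36c36b36a36936836736636536436336236136035f35e35d35c35b35a3593583572390682a80048d3c308b000230dd002c01c33034c01cdc80088b3720010a50d2228000294008dc4890030040d00012200ec2500008736d0000c71e8fb030c00c860a10c0002214fa8318004303e7000369210004e5c3348300003d03b2080f43503503500f4da0d9cd988100002b3ed200dacda8020e30e2c2003e00638d1fc098014e2c7e0730000750281f00001e87d,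
  nat_lit 0x3840190032300240d107507907c194e90e8c3b00803341c41d41e0643a305728801c0b90fca13650001ccf38000d8c6c3cc0003611c8f28004d7c6c35c00113cf1c000d706b3c502500035a2800a904c3bd0e4328084e581ad1010fd0f83f44143f50f90fc40c40cf9810001ce4800cdd4dd0dccdc8dc4dc0dbcdb8db4db0dacda8da4da0d9cd98d94d90d8cd88d84d80d7cd78d74d70d6cd68d649f0050000052780140f00149d38d00113ce340007338e3bc00238c270ef0ef43b0ef4ef0e34e300044938c3bb3bc0eb3bc3bb38c38b26c0e02ec35435ceecee8e2ce289a3740003a4210e88000dc8673700013a021000c01d0443139d00236d19cda4da800904103d0381e0ee09900140f40e40d0773b73b83b9260da40000d09740d40c40b0753b53b60003672580100bc25c3f3a63a700136725406800064,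
  nat_lit 0x6f0023b61980f80e4004aa034000098ec8ec4000f485e0330390010dcf7c000ebc5d3ad0003dd174f6c020eac843ae0003930f8e44000eb02b3aa00038f0ace34000ea02b3a600038b0f8e24e20e1c00cf48f4cf500086f3860023d13d23d30013a33a20ece18e14004f40f44f48000e88a93a13a039f0020003cf3d03d12a0f34000e08843800063cb19ce00000e6c3e39900037e100df0000e5c3e39539439301d3c33c43c500329ce48070f08f0cf10008de4de0a639239101b3c13c23c3001378294f0c000de0843763753740000193bf3c03c1290e34000dc83e37000038b100e24004db83e00102009228cdac000e1840,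
  nat_lit 0x8f0d42e4154338000b83bb00043b2dc0e800cb63a60021540f800473013000148edc0090d40d8b500105f05d2d0000314024b34310013b51e8ed4104ed400cb200208f09c08a08400423c1e88300008a0012c4230240f60f5c0000f80fcec4b00010870b50972bc000258263d40013c80e0248000643c50000660e4128018ae0480052b4eb8010553ac0031381040080f025001148ef0004103bc00003e1340e5130008ee8ac00103d0422a80200002d4ab,
  nat_lit 0x4800003a41b0560000e886b4a00003a01b0380004e787239b001150384000e6c6b0e00b10290670683da02800439931400c2cd150660020223d73100042cd134900000ae3fc0f900c15817cfd023432d28127c5905911c44f448c281084ee0edced8ed4ed0eccec8ec4ec0ebceb8eb4eb0eacea8ea4ea0e9ce98e94e90e8ce88e84e80e7ce78e74e70e6ce68e64e60e5ce58e54e50c34380013d00640f40d80087d01240700130901c0010d05a43443543610148c48b48a006124f580105506300303cee401455069005304084010bf4830033d02f8180008c000b0022fd154004ec8be0f30000442f5150004f0c020bc00c0000f32ed14c20c0280500000308c00408c0a4ba,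
  nat_lit 0x12d0330012e910c000f6c2b3d90004410ad0fc008f5c3e3d50033f23f13f006c43b43c120f4cf50008fc4fc0fbc1ad0e8470013f03ef3ee06a43943a43b330f4c000fc0843ee3ed3ec0680013cf3d03d133901901d0201990e10dd0d8000cd3cc0004340f90c8000f28403c80034300f90b10b50b81b0f8cf88f840104942d06b3e23e13e00033c33c41210ad0b01a8f84f80f7c008f08470693e03df3de0013c13c23c3330fe8fe4fe01a4000f00f04f08cb3be0003db21007c458004ca42301a000324ee80005544d0003b82f8058000ed8c80270003b42f9194000ec86c4630003b01c9184000eb86c45f0003ac1ac2e4000ea8c74070003a81a831c000e98c6,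
  nat_lit 0x3fd01a41a0d4ff8005214da4da0013ff0cc538000ff44a0010a316b4dd4dc4db4da4d9364fec0002701e0a44390013fc3fb07401028026c660d80034670cb35c00848c19caa0011560dc0fc00059c644640033f634c194490008aa0b70ba001354588000263f10024611e400429c2ccd400015e19117c008fb4d60ae0a80013544fc000d03e900245d1e400446c19caa0000a10a835012c010f94d302d40400334810d008008aa058049001344114000d03df3de0010391780004c40b4cf,
  nat_lit 0x2003739d2945c13ed3e93e41d4010fe0e64a34a416f4fa4f94f80740033945b93e53e13dc1cc008fd8fdce44cd4cc4cb1690720013f53f638c2551c0000e23f200114cfbc0045446e0003ef2f8195264000fb4e13eb0024970f92545713012fd2f800cf9cfa04849349415b4bf4be4bd0023e611c5692f92f52f0004f94f98f9ccc4ba0003e30d800523d2412445612f12ed2e8e03e43e33e20001564e44e54e6291230000f803e3de00048a101220000f703e3da000486101210000f603e3d63d53d40034d64d74d814337cf4c00935535935c509205200de3d43d33d20014d44d54d614637400134d3513545011fd1f91f4dc4d10003cf21000430133c5d0000bd4782090990950903312445b92f52f92fd3b06b46b07047007046b06b46cc6cc6ad3b13b53b846511033d1c84bd320408f84f80f7cf78f74f70f6cf68f64f60f5cf58f54f50f4cf48f44f40f3cf38f34f30db42f0003f7114fdc0a50bc36,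
  nat_lit 0x18e00e1992ed144001444f551151200244e44f3d13900011a8f34684670014e54e4080348000600f24e40014640785f400033cf24614600004e44e307539000421cf108800050e3c143943c00539138cef4e64e50015105113b938c0014385900011311600100449d49c1123b444845400000d2750d10cc0c8ec00249b11714e14d11e3ac005268454530210001194be3a926526926c74472071d444689271274fd4fd0fccfc8fc4fc0fbcfb8fb4fb0facfa8fa4fa0f9cf98f94f90f8cf88f84f80f7cf78f74f70f6cf68f64f60f5cf58f54f50f4cf48f44f40f3cf38f34f30e93fa0004d1115344000fe8363fa0174d11154041e803c454b00044040b12c000d0102b4d90014020d53640010085d0010071032d00000144003f0000fe4003ff3a1220000fec08,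
  nat_lit 0x4e30005003106540482b4fa52c00414d4a800cc04ff00414d3f400cc04d30031cc648009498fd4250031cc1380093e4fe5220044ce1b133000cc04f50044201b0020010ae41b003138128009320fd04800114861c0050687204400004614000405c00905cfc09d0010451f865c00010cfb4130035231e810c00827c930430011953e8000268260020251060423e426c005078741910000243e1074005474da0240001913dd47003c090f6,
  nat_lit 0x53215f0012440014cc6615086705b4138059074450011cd10c0001053019553e53d21b1eb4ec4444434190a0005408660001572480d8354388001054240002fd44c0010886a51300042031944c0010786a0d300041c1ad23c0010686c0880014181c90540045446e0004151ac2202c800104d0419450850950a00240c34433c0050246a0880001e90380007350600040c1b04c00050287240700113922000101c6a12a14a0004054040d00dc5380dd000820021973583b4004660fa0ad0e05010013fc0002b426,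
  nat_lit 0x4ff00814c32001c564cb00715017c0181046a0071512440191a8be06e0053015a80152b1134ac00414c74800c49c6953c0034c444d310008530bc0010683f874c000495125380544c04c10014c1444478000478014c00014c0010474000474014bf4c00004c04bf44044c00019816077c0102bc44d0f0650571de0030b20001171124382c40087741587947740082c50d5105110014844834310dc034000a14830020003c143c59011000d0b449001139124000530a35330004484291200014cc7e5331610044241314d000d08,
  nat_lit 0x47000114d1b8000c046e00003200046038c0cd1b0310a70000a645d4ed4f0029231235160e70000e84512a92a401d2b52b01d5890005873107d80007dcba01b0010892dc0540002a4a305b0014aa34c15c00003893002052553025298004394f100a0005323c07e01e440000c7ac0307c00291557a0610020e424c0054a4f35030000043d5498028004241404ee0ce00008b4512080014245950950a01b483482431410014540d00041491d40245507900803d2d40245406200814d4700253fd13,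
  nat_lit 0xb90004630340082b46f9649264610015b91b40008ac168b30a90590010692800011781e00200100505b05c4956d86dc0007a459001139164000535b55b65b724517d0070080034574900089147c466d2300154549c3a800062c14cb100447019c5b827658f5905915925935945951f258a58b58c2612602552575651dc5151b646e46d46c46b46a46946846746646546446346246146045f45e45d45c45b45a4594584574564554544534885c41ac011211f10a00032785fc2840092016e09d00147c6141900011e4690051381b61de25323809d4740113a93a44bd4f81d0031345182000084d158d1c00113651603000139d4111b1321b01d824d24019046446346921921c00445d1953905f03d3115c43880f01a4730004d91e800c008c1,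
  nat_lit 0x1c502a0020054d00080ac004d402400034115c0000a07907c1c049800218c06c05804c0053347a0004540cd1480093041e96b16ac769255320011070f90c64c40012fc1d96a82156656526b2982995db5da5d95d85d75d601247647547447347247147046f46e46d46c46b46a46946846746646546446346246146045f45e45d45c45b45a45945845745645545445345245145044f4c00503301b4401445cd0b00d355a55900948a4bd1e400d2d52e06b06c0160040030a82782a40092d5c91430010a41a0440000284730011cd1c4000105500020004704b00305185780112b4810011392040005354d1c20014804a80056a472520d2947f0001ea0609f1714008da00c5c30014a11f80047347c0000417016fc17c01800564c7091f51f127,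
  nat_lit 0x51cc0054000114fc6348688d88553e00353e1892354000095687293d0011ce0ee17400073014cb15575585872306056045d62aa5ac5ad5ae5af5b02365fb5fc5fd2b22bc5d72b61e44b804c47247147046f46e46d46c46b46a46946846746646546446346246146045f45e45d45c45b45a4594584574f09800000300b47600f00e00816f5c65c55c44ed22c0005459300048b44c19c00122d3a0ea00048b1a437000522d3a48c0012fd4780012285151d1625be16700048d48c48b48a4e54b4035234da46f00014d3000011b11b46846a0014be19d414204009024bb04a00125d2dc01121c194650001cd2d400518c6c4610003000012100291813800058d58c0884dc9600012087e0011dd21e5e24d92000005a135,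
  nat_lit 0x22195a609400581c0608d00026e0d21698109b96b81bc1b56a96acb698918a98acbf8bf4bf8bfd8ad8a989188d889885880ac48315f051051407c0651e51e11dd1d91d51d11cd1c91c51c11bd1b91b51b11ad1a91a51a119d19919519118d470000305350e40c93a53a0015239465c00c000451575430000c1900003f5e9285241244001235238f400505d0385112240041048900003c2e0a180092214300128d03a35400083c230580014860e414400000cfa0030ae0ad04e5080087c48383ec6248200154d50400078d20cc90aa4f259a1d105b05c48248150157c68c8617c80081b2171de0014b55746a00007a4670001cd7b80011946a1df0014633191800044e5450004601b078c8100011793f,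
  nat_lit 0x2761000254000cab80054f0da0002512600044a42900007d0984644e487525d4d15657d4963a80b95ed2554e49d0014812116300080bc0054d00f1d30000d5264004554960011516240012586b1d200c012494531890001381024e00006241e18900013807e4e00006241e1890001381024e000119c62452d3800015cc660554e00000014151c80041787a4dd0531986211041270014715296b00040180014946e0011551ac004545aa00046b1ac8756280011a54800460960860724108000c6d86e091,
  nat_lit 0x5960004e31a9658005384be5320031543c40081b84c06200413d4b400c5459100252d1ac180008554d60011506780001a8c656f00403a4d452001c000018934a84a90014a946401c00001c7e4a80050014a82c95a40000180d0070d35675552880012f8364be0004a20d52880052f83556402f0011f92f4001284354a10004bd0d80cc0d12fc03c038590a700115410f60960800349f5197ac4180091c6046050014a05e859c48801d5349c0010412740045329500049b54846184000d26d51,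
  nat_lit 0x51b0002fc59800c4505687d823d47146d4695a595000647504b880007051f5fc0016714d46f8000b7d596700005fb5048a00006200d56c0005c9030894000605586150015ab034600000888e70fb0026121c0b38004b640d2d200018239c1e4000556610005032f83b00014046a2ca0004ff1c83840013f46a5e20004fb1ad7800013e4c82790004f72f994c0013d5576530004f32f994c0013c46a1280004ef3184980013b46a6530004eb2f994c0013a5560e90004e71b1658001394c6,
  nat_lit 0xcb27400250d59800095c0096511a68f02c63b63a116001509590440001424330010031e758d4180013a9620004ea4eb4ec04a5085075063700046d8001614e700011965e0255891125ad5805e800139cda4e70001a34d441000539d412fc00004402d39800000c5e003d68c79d8d55f0020140414e84e74e657939939c00c0055d56600065905c0441080f8008ff5a50015645701000002656100110131000010c231471f65c202b2c97044740a93d1d50001d747c75c0056640b23b0001d42ed658005740081d000023b56d7340047503023800023c3e023800455,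
  nat_lit 0x1a700059f2f9a280016746a32500059b3199740056646c59600215047c005658be0040032b401800964d6a5910011cd63c0001058f0001450005a44fc0056355c11d0000980041004719e16858a0005a40206fc0816201851c0006290e47f4000050fb0140015c024c0440007e89e5bf0004fc0913f00007ecd65f50054fc1e4000c381e5676720020592dc1e0c2c00487000050191450004630660540005ee3597b01dc0007951000114d438000c0,
  nat_lit 0x12620f00f65d400086c6346457419218f35431a51d51b51a51951851751651551451351251151050f50e50d50c50b50a5095085075065055045035025015004ff4fe4fd4fc4fb4fa4f94f84f74f64f54f44f34f24f14f04ef4ee4ed5cca142a0001590032162152443162ff0b90bc5c800985985c969a657100125769820000095d8547921221124031231334e1895165c00045e5aad6f0001181111005cdb4db51b54c454516e1092145190a01318106d0cc05157201698945949e4599738744b58ba5a39a3da41a449489019dd9e19e59e85a88658281dd6904c84cd6856805e9a39a34c58e487e57d57d17cd7c97c57c146145d45945545144d6d5a901d1c50dd4e80007357d0005381b15ec0014d8725790035341b02500080f094003304254008bf57400152f1ac248000c05710002620925b15bc00097c3024b0d60004815b03c40008c5610011cc108004555a300055e31d6840001016b,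
  nat_lit 0x53a0000ea3683a80094e84a02600053a1e00043c8b80cd97f5380005725043c066c671b384ec5000954e17e5120000280b56996956900ad50d51151400c6f5a302a5425435440025115125f568d6880a550550950c0054406e02854054154200050f5105115f14340015089700250a00053800016c5d1ae81700097b5420015091c000416c5ad8181614fd7a5060005411281645a58141c017801540d411791b501b00431180c17800c1a4fc0006b71c01115715740197804406e0980055dd3f0000735be0014fa1b13e0000c005809b0014f75d8320000644f40010c80c80003dc260f90014f10e05dc00064,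
  nat_lit 0x5480085bc015bb05ec061865450043861f951c00052d70d681e828c14700054c0003bc64662003543198804009504780ed00109800c7f42706387cca2c1416f9850020930ea1414a54f400590cda0002ca0500ac24196c4f972171c0014f54f18453d0010ec6980eb55b0e95c660c0003aca94128f90ed60e0003694ec0001020800053b1a40d40014ed3a54900053b44c03c0014ed820ff00053b6086a40014ed821a900053b1446a40054ed3a53e0012fd7a80054e86919d00153b2f86740014e44c61e61f1b01b60e800153b53a5396058788f439c00180,
  nat_lit 0x56200a00501a6441180100607d5540000482dd558005550780440000416401180055546d01200019000c00428161c6355a00064d1b24d869400000c245530036460a5541544005280920910e458658558409a00363c01160d6080095414664308300109067c2600001954e0000402540055386954f0011cd5f40015344c0956f36f20b907a00354f54e54d6395e00e40ec2558701e40095398d0b76ef0750015fc2d81d40015358c54c54d00253d03809261907662d5d41e000c0058a5660010006214e80cd5cd5d02359c427c005890502720006215240018d03309e07d08e00361c64000951c78,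
  nat_lit 0x318500f0127342016481896740097fc66c6700519c00156c0130940000180048c17919856666c1716600054400859600066800959c03cab00117d1783080005d8a11581733d256121c639af0d440059912d6db000660001bf1bedbe88c08fc8c4945953c718e55e16401157c5d80019700238973218a005003053139658005c8dc89c848f48f08b89c99500005058b198f246255691400374b13b04f360009d2cf6d70d94001186182510000f1412cd41655561900015c40ad7f5930280002516240000915c57d0425894089500840799255701b5830f9598001590d3,
  nat_lit 0x1f203c004425be02ac00d2871b03a0012456881600002d5740011cd5c8000100a60f36ab1f676b76a0025735726a95cc005da5da9daddb0415c4da90007681e0000225d9dda07d0f4c7adbb5bb0e19d81d7dd79d74ef0ef4b68b85b94ce0d05b58dbdc11b55b50d15b50d25c0c71c725c20f21d78564545bf5bf9bfd8cc6757c057c4d84cdc300015ad5b15b55b95bd5c1a80010036581d169c00000d67cb100357d3e97743b072a72972872772642475077d43e43d45245145145145243d43e77d75042472672772872972a5b35b10785eb15c57857757657557457357257157056f56e56d56c56b56a5695686998b06c0fa15f15ec018a48015a50ad0090012456700280002d5bb0005780780019119159182dc2d82c874dc3cf584544586198f46217a57a0661bfdbf9011dcd0a50a90cddd5dd1dcddc9dc5dc0eadc95c91c8dc89c85055051049d25058e84de5be463983d5ec0696e16e56e9a40e32d909400468d5c80041057300114ca280015c5526a40910005716895c400569c740a20560012e85201580005856e56d56c56b00308e260056684008199680850015a32cc6800002359204a08a3de3d756b56a56956856767c0106185281900500557601959e,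
  nat_lit 0x4131e75936c18440216802c00427c3193304dc00ca7c90c2e002299249670019670001af21100159c409a4c0016700900217d2983e80045f4f9d585980006090b452c540fa05445505f5665661ae5940005940256480016480a5900005900256380016386658c00158c024055ca47e4055990030150036b40540084f585001151614000735850103e40126b1b48314009286b51e20001e95ec0044e57b00014c77c9b80095e9ab06a3ef001350558000d05780012781f8000a28188d5,
  nat_lit 0x5a80011556980004e08162811f0035a66f00088e5ebc62dbb00129d18a6e8000020926eb0025a3311ba400568c7f0060002500081cc38c4c07c5a0001228064000b1847c4075022c73000059a59b59c59d6e40004504144a9b86e3000597199654001b84096df000593028008099b74090010395f805c0000d9d0d1b0240e86f537f7252117273656dd10d61761810a10961b0c100459e41f7ab7ac7ad7ae7af7b07b146f78946839666a1fe62406005f05005159d59c59b59a59959859759659559459359259159058f6dc01047c5848500311f74f0c40080e96c5b60011492ee6d40019f02fdb411c2e424068b2484214195986cc315ce0000f000374d74e3ea3e93b71fb1f86c8009d31d34c18c34ef8f69d79b100124766f198000e79d2025,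
  nat_lit 0x6190065cf0a41e40086408b2d60002300047e07edc70dacfe0ff1b6dc800028027407865daa400172c330043120fa0f971c00cbe46f8361c600228b2866f565d71c005bd80800030d1af324bd4ac1e8cd1c00970970d711c55c2009001002710af00016fc1700415010e22c70c00c2ec2c4231c200232109d704004e2468dc0000045249be80096e8c409531e001540680e18001c000219d2b3284004114109bf5b60000b53d59e99e40096cd6d0ee2ac1970013118d04740002d5af0016756f80004658585a6726710055ab5ac6f43bc210004c4,
  nat_lit 0x6ac0c00032180280200088510a1030006200040140200d5dc00063d25d8f58f98fc498035760018015d203a6a71280045da745a982f000ca100c03f01100065c0145689bde4c108041d0004146122636089750004535d200030197454c005745cf0001576402c5974001738700037457462f42ca766767152738009d0dd09d045d9b900e0025cd00112169816c000e44888977417423863847457463b93ba1f11e872f3c77d51e51b71e21cc1c940b7d143877c2156656662056ba20319370628345e7ea7eb22868c68b68a1276cd06403f5cf5d05d15d25ce5cd5cc5cb5ca5c973173c001a580811c03b5cd035734001f540c2bb2ee03100072d72800d748935d00006285058a0001740740101b70d109d72803df6cabc0d53300062c62d62e0ec5fb5fc5fd7258a80297405a,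
  nat_lit 0x6d10005f41c9b3c0017c86c6cd0005f01ac1800057b86c5ec000300169b1c0057addc0e41210004b97a0012030695eccb780bc0b5db0031e66c601e768008be05e16f0014730617640011dc5f8c980780880980a80b80c80d80e80f30241541877743e7c74b94c14b97ed49f7c23fd25e26168c68b68a1ff1fe6871c22a97ba4858103012f381181225b25f5ed5ec5eb5ea5e95e85e75e65e55e45e37619747a4000a100116f6c875c00012c0b08267f68068168268310f0005eb75800c8940d00d5d500221e3852e554d7a0004520660000a3249aa40017947f0046186a921400c3011f86d0020bb6436800042ec719d40000bb6bf6d02942a08a82d02d4ca8f3cfe9f8d2fd2f6029304feccb1c9cc98bc8b92008bc0bf8a61e1c62dfedfe9fe5fe0b98ef5e045f09a9df8f61d38bb0624a69ead1d8ca02d42dc4b428825d92978578177dd300026b08c9fc1417a5795975e30075e43a978400010429,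
  nat_lit 0x460e79a3cf4574858260a179c00d834f44041dd00200573b73a1f0004014391d9000001257101824ed8c64ce439d81de66d96da6460e51706e36e20007940099cd9c8461b80ee00105805a7900019c836c900d000060378000da4401401dcc49d09e4345e30026904157327740047e44dc670001f202a3247d4eb17fd7f93781700160805c00c9b87c9a2de200272a09108f784005ca0ca9e000032308a350af800180d5c6010007ac094db8514004ba6370005ff5880012444e92e81d81e3962516db6da6d900377cd04bc842193c449b600097f1de5f30007a00a46180c40a8025dd5f80002fdb4c0017d86c,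
  nat_lit 0x8070006222fa01c001881570bd00061e2f82dc0158706c61a00430001c010c10050032d98540084e61500114c004001854fe6130022b5002460004ad45d0650002b2099c9000983c3816f267001194ab80006460b0001f31f47a9fbc001824096070007ed029fac0098140912135c001700330000646010027e7198004d68441c000010424929085400886029088001015bd00017f0845fa00207c0771100290270877a4004858ce4410000be638275bd0079861865868a30a220fe0fa0f60f0c7ccfd111e9919e0853e94053ea10d211fedff02742707eda70818d6d83182d82982582181d81981581180d8098058017fd7f97f57f17ed7e97e57e17dde8,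
  nat_lit 0x69518e6cd6cc6cb6ca6c900b6351b94177c37c27c14694bd8634ba3e83b979e3a03152043677c94537f92e51f77fb7fa7f97f82f34387b11f92e57fb4397b03642032f63853f63f41b972715f6337d1a0038cbd8df89600298cc001f367e67f0024a000c14c15880df200220224e0594cc005ff037cea0003bf2212c47fe1c21c61c8fb46c98b98b5f10032514580527c000893dfedfe8e80011216427bc0002782684024d3733503e81ad6297b8099a5c3d5630180001961081032137a92157b60b8648051b54c21900130c0d25f911140097f0d68560013288992f0000c96360014c60de0df0ef0f06620e50e40f70fb6754e12a912111f16f25f45581a4f784551151951181f4967cf4707282a886c86d86e86f87087152f84a84b84c84d5234e24b24837d246640c2622657b0000b54ba8398042e90023c4335fa4004352173ac0007ad8c0000552dc00062e1acda80018b06a3da00062a31a1740018a06a34e0006261accf8001890c8,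
  nat_lit 0x1211131120037f826a238009fd1e94fd00153cc14000646470024f6028004ebc7214f0003040980b800d90c7f0f168a50b2e073b2ca43d0017f1988d4c0002463f0020d368007f07e7011f930e4f23138878868853573588828818804a542e7ef7f02982993878468478a18a28a35715705715705718a38a28a18478468458444df8504dc3f91311322da2c843b7ec0049948600b4e863e000744064340370e66024db4c2485800dfa02a0262150025d62140058ec332004f50006218e18dc018a2008996409c849f96360052597e37e27e17e18d4010a14e442100325742e1c44cc008a05f80ea00126a1791740006b047cb12537de4224207e17e24554567e57e68154be5554be4807e74524497f63f23eb3396c61af7c37c47c540c81c81d81e35287434d8228232fc3f98800b40c373a6396386376366356346336326316307dc00cd80fec701f60023a226417508400492814dd700039f075620e7d068fde1f21ec2bc2798d5f500114769d20000056da9d55,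
  nat_lit 0x2291cf18200217864c7240056576c1c400062197801073472dc2dc30729b560765e65d0032263367d223d22b81800884201c6600170b18b25c00040da885a70a26821576d76c76b09568f6906913032ff8b63a33b134b83a83983832e39282e32c5143358a924685532a3ae0e40d366a0320846f415c15f7312a027727484d14114300365e65d65c65b65a659814679b7c000d2002132131810005da43a5630001a1142560a1947996a0300a0143391e400ceec189c00603bc00053c0001ade909166466566600265e808c4017c0052d65a00213d9680047300600415401800d95e016550021cd94c004100010001599480007b0002001e73af0000f593c00a1040864e00065a0301588be244011ff,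
  nat_lit 0x9e1cd67d1280001545bc8f6866876886890360350333417d23ed2640646920670a07582c72d14c788c5698b758358458e8b98b88b78b651e8c18c08bf8be8bd8bc8bb5995985968e359a4d44058001861836cf6ce6cd11567b83c0104603e0655e4de48ad04ba0e67a14767a0032c800801c0189808a00178c0094f40008c5d24821131048cf25e05e0590586768347c8500004870036ad6ae6af3213204bf8845618af57b57c8885848b057d5084e08602f51791760d06b06b16b21041038038048058068072377417422342337451eb1ea8a089f89e89d89c36082682782804767f830008160164320010aa8551e40002c1e14770ab8c86713d40082a8150149a30012560a60ad64c0023185320b2a066e25002c03db995500068668568408677c77d77e331a15a11a0c215dec8849f000a0a8952240011e5b647780014166d00114d9a80041027700066a3188722380099a0fc1993d2001824a494980008766400188a198000e9001608,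
  nat_lit 0x8bb0006862f856c001a10c71580006821b0280001a00720a300067e1a82840059f06b67a000040298344098089a8da901440119e61500304582d2740081322580d0010496af7500001300021404b0470486a46a57a612f1208eb8ea8e90640601316de0dd0dc75f25787086f86e86d86c25610310468c68b68a68968868768668568468368268168067f67e67d67c67b67a67967867767667567484c0085cc2c0049e20014c51d72d0000900648680006891980049a88f89445e00081d1da174f4417416401801c411a1da1a126ea6e96e816000107400c1fc20c00dc400207f1703d40041fdbaa1100007f73e4b81fc9a815c14c001a0a10003269053052360008f244d1e00018d90082a8001520944d42b267e251c906699f87e,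
  nat_lit 0x6c80880050012c8025ad40014e6b613815b0376b90366e80038609450842b4009c68714bd0af0012c9b98001ac80c6b00000ab02c6043a03cd0d425400e1789c3f00940027a8289b3023c005051060910002c5aa800023c190e27703103198548533320058585d23e54990dc4ec4dccb8011641bf32e0034b4428418008911b37af00125c3603500002d6a20001cccac001a815784b00069e2f8d90001a706a7c700069a319f1c001a606a4f40006962f93d8001a51578650006921ad3e4001a40c85bd00068e1ae414001a306c54500068a1ca2ec001a206a,
  nat_lit 0x4ef116002019bc04700053544d117000015ad0004c06b50011cc1a0001acc4c6d92bf3b14398c031422900c6b38810e0c608a002d4b0c06ed22600a68c0740842c0025998332260083c1b742a801d6118a1cd00687c8f5d31d35d385405a9b4000e1e7df7de7dd26477c1c06cf002829dcc13c005456e604f000421ab0000536cb0016aa319a9c004547570006a72f9d58861f79f75f71f6df69f649644d44bddb5b0c0300402f8c90c8532d4962452ea21621130d3162062021fd340d74dbcf0e34a34634233e3391fe0ed1f21650464850ea07c00da81a85a89a8da91a961d00238d2b53b82b507f07d07e8700060709b1650004320302c4e2a315634ace304fb244cfc62f62f22ed2ae1952ba2c14ad0590662ca2c62c22be2ba2b4c04c264395e22e0de4de113075c76493c7106e5db1c0c4504e5c11a95a91a8da89a85a81a7da79a75a721b00309408c1ac68c008ac42282421a001918041864001624690b42f16a119000025023,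
  nat_lit 0x3c83e76cf8a4008f18f6cb01f60010050022d54a4001078011d794b94c94d3d82bd7c628a6cc8a069c67c668001ea00115573b15989c00106c5be113bf94a1436c989800c5b45ac85dc20024181518240056b0999670003c524a4fc001b140900238041c028004e013086d0003814f56d0df0fa21a8f997050ea48648247d0ed0b6128f893d4f86284b5a110f056b2504f2e2021fe1fa1f61f05f1cf061c435c15c1836c7087064f90410464ee4e80cdb9de4454c5649f5ff5ff82e9b09b06250041391292c561800e4fc525cb92600293f0298900050b0662190005a720688cc5daf49400428d8980c413014827dbc9bc41c01d00262201e00413c06800cbf6b90021cc0640040f019000149adc00c465d4496605e060a2405e21,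
  nat_lit 0x242000191b98005e603900028617d0b9e5c9080087e287254001215e45e40001b06e000103db740044e0f70006dd1a83d4950bcd170be4c99f3800db6e308b04f332f0028bc9d0cac004ca0591060000b1b58000557c90006d41acca0005b486c6cf00404118800db3cc60050042b801c00c546ca0021cc00c005b2a2e003000149b1c00cfe0bccab0ac0ab0bcc00e2d0022ad2ab2f28b0004fc64b1ef0005130034b8fd0bbcf264157324c1130b8e24e25225625911970a408bce558f89704f6636d0fcf6cf9170255475c7641e81edd94395c0c21c6e1b4db49b45b41b3db39b35b31b2db29b25b21b1db19b15b11b0e2b0039534259530038a80083182ec090019523e91dc00074dd751b,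
  nat_lit 0x10328f002c0000c80021402d5fd5f81331341226fa6f98dc004838004ab00020f21e2ec8357e9be0b12e22e50290e42e4294004bb5ee7320003e000538c2983f00026308e298005c095c0080018a70240140022947e4df0330002e800dbf9bfc791dd1dd40dc0ce362f600300221914c01400535298006000681be9bec781dc1dc40cc01c006357dc005000514005138002346f400113dbd0000bf94c94d3158792f20cf0ba0036f28cc325ca02e4009bc5bca3229529224a0012280a8a340021f6ed0012fdbac0004e24679a0026ea8c46fca1c0054f,
  nat_lit 0x31d81fc1d40088395d8a30011d32c756000035c364f21d361271362000c1807ede8481ccc9080cd24200272b7897900041764d42500005e79d24016401c035c9cb947046edfe5d3c26e68a68d1e4169c9cb947046edfe5d3c26e68a68d1e51e269a69cd1445845c6d0181ca419a42c729e50708705e5de6045c45a5510a52b5282390a85f7c321c3e41001438001900b1d0c0000cf0031b061528c009e500d0f80017940308fc00044444a3e1ab60e70980c144155e4de488088e42f00023d0040500547921c38588578561741772ae87b1d21d029e1231221c11be74674574474309f3cc52a48b9554454f44428e535287f40d40e87c87b45520a7a13f944f9822602531761748552967d70bb8f000dc7616e17021c2188cd1ca3b00204c8177900041310405b0000187160f813266086c8704d5d801e1c0e3a7a600070336800a3e4461d4044c301d082ea3955240300228c174550005925503480002edbf80100c9258d68d60e1cee2380030338f202800801817431,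
  nat_lit 0x16387375840012b88c58897339a39d3c685728528281a1aa1587902964139639649659669679685e599399299199068566a98d60e9405e856a4374323988393a34f80c20bf72f72e72d72c72b72a7297287277267257247239380105385145c24d00392e09b7800091b400a190015801af33c0016105f8b392b4949c272a93000ddb9db5db03189dc745ec64b0020b61501a28128118100609280042d052cab0000b505f8fc2dd8a1c98b17ef29d0000b40103c0375da838cd32524cce490030ef72500692000862d35651a2c0017841877bc00062e204670eb0d87661e31e172091dd8c2a40009100207991e1dd7a71d51d47aa07c07e01172276301b01a0207247487a71dc1b77a51bb95f9604941e11df8748738721901932ca89789842a42989b36e36d15717017116d2242299732772753008739180041de5003664500007886e19c1d1d8434dc717701000f01506f7380763f3001911de0af80000500273606d1c106d7360743f13800041c54c64300007156c8f81b985dc5e03,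
  nat_lit 0x20348421e40040d5d5c770000367700200c8cd583279a79473075d6525594a647948913913e63993a790f7cf5e60a6050b90a80e00d8c4cdb27153814691ae434de5388db6348dcd4ed25d1050c50cd6845c4478334328cac7fdf74809d025200459a18b1a091400d598ecc21d7f00232031c9343a00054bc88c6700059f32c1024c8c7a0d52a18f58f277677a77c065d258196456525f97e8fdcfce4e974a780fc0f0a53252c299da42807d055c55a6511a53b5382490dd5378c2c93dfa59a90fd0f0c84c7d3c4b9e0888b8851cee510002ff17353e280ad4015457d11fd004425d9426c00ce22768320024a00489e89a4cb5360c14c1a186500114c49bd35b7d9cfc000531f100073d1c87c8001cec6c22c0007392f88a8001cdcc77d30007352f9f4c001ccc6a7d3000731319f4c001cbc6a7d300172d2f9ca80044f7d200072a558808b710f8011ca24f00326b25936008400a5dcb11d7,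
  nat_lit 0x75d001040180005d78c706000075c44ddd2774f60f4d01e3a89049154fe7112d158d2c6550f063b91f11f63ae3a8c74799fae5dd07d08143a731a9197680680a80e8128150586504f83b43aa328975ffc5f45d44a0498009d5dd61d65d69d6e573a512312500152c49048c730001297530002fc488001d44c712000074f5591ec001d34be90800174b1b1d18004545220017483193e0005d15139db0007451a8e04dfa19414dda01e0015d09d0e5600708477c77d0040aa0b01e000d0291e078002068a15dec004977a50740000b5cec000737770007391b01ec005cdcc67340011381ec001cd06a07b9ca76306982b2e2380002732954004dfcd58db1910005b904832653cdae148b488c9fbc8f84bc4c0315de42f9de4315f6877566a5714be4914a11511566519509903bc3d2285d15d11d0dd09d05d01cfdcf9cf5cf1cedce9ce5ce1cddcd9cd5cd1ccdcc9cc5cc1cbe540040378ab8ac8ad94c00dd58344a1,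
  nat_lit 0x76900014cd28001d9cc68550017651b1d880044f0c00007622f82f8d20e3800dd825d0023b238e3a308400652cc55650005850e92c4ebe52d2956254828b8ef66e53294c148a8d15695717fa71e7227267296ed6ba81a81e822825489aa677956556e69594e7b1b6db8db6d9de86d9497165da5d65d25ce5ca5c5d85d81d7dd79d75d725c006541001351d80a91d8000cb20021871813bf400005fac6fe5b0007eb017584615f85f8a38c9b0931f8c6ac7f61b4b54b6654e5526f58f1afdb66835c028e9bedbe9c3dbe9bedbe5c05be68ea8ee8f199e6498767019f59d992265d8ad74509d0a8711fec719a2c34033033dd725a2fc02001f516484c14000a1769001041da40000f2ea16700176896400059dea9c01623d50095167c8e5c0207816087c0074a233c7b47bcb3206205c0b4012582b902b0030901380a40087896002c0011dd2080980014176300014dd94005d84be,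
  nat_lit 0x56500076a1b2560001da0c69580007661aa560001d90be4ef0007621a9804001d80c69ac00075e1ac2d0015d715775a00413802401cae0090062d8024014550090042fc02400dd566475300214c020004c0001000149d400187664751a232484476001a630051d72108c846791c4ae4ad9880107557cc410031d307121800a0023cdb60011d538002c001ff5e95b01d12072a9a2ea2da2c68664f9d29d19d09cf9ce9cd47d23576c76b76a76976876776676576476376276176075f75e75d75c75b75a75975875775675575475375275175074f74e74d74c74b74a74998400222e22a22492c94494a0926088a88988824a25034b35100597c710c740107985f30a003284c4a2440094100a4a831e31c8563581850199780242b82e460df2,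
  nat_lit 0x4b03792c52c12c648931d3193323dcccccd12f1bd2220c38c28bdcbe21d4c0cc0882e0d88e213899cf7e3ac2b5f4e4aa4ae4b0eb4a24a0e30049dfca0a46a06b2158939185171a8a9852e4cd0c7c5ba051dfe678c18c203703d38989589400499829840c7f224800e658c833d0021e2334e2c00477039388000505e700005388d00079a1acd44001e6156352000796558fbc001e51569c00007922f9558001e406a57f00078e319380001e306aa1100078a1ad048001e21579a50007862f9404001e106a5b20007821c9408001e006aa1100077e1ad62c001df15758c00077a2f99e8001de157a4c0007762fa930001dd06aa4c00077231a930001dc06a67100076e1ae758001db156,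
  nat_lit 0x780712521f1260c90c887b87c8e533233d3c83523505c566a695763aa6aa7aadaae782781780781782aaeaadaa7aa6763762aa575c6965c79c25c158da715a399a51742558638c8c90be0bf7919ac0016f0264aa51f0e90eb00552e0f877c4740110505e80300366220446400a1f06b8be00050404868868c67891a2a4bc4bbccc551e6de6e26e66ea6ee6f2895a91c9dd069d5da29d5d2692e93293693a93db55d41af5a4e87e882885a75a9da0a76a76e7718c1836a4960dc0a8ed0163b07447526a7960002fc44c001e50be8af0007921b0e7c001e40c68e000078e1b0c8c001e306b32300078a322598001e20be9660007861aa598001e10c63d60017821a9dfc004543d300077f2f8f390554690553bc64c650011df66900323b4ee7900081b5f0c5b0018411dc25c00075476c3e06b7c00570580650c87dda4754a549a4a1150e70e60e55179d7635a074fd585a0c6806aa4c04c14cb52858114f14982556c9b45d79974ec3fe78578478378278178077f77e77d77c77b77a7797789a00152ccb5cb59f60044b3a7c30148c00e4a4cf4cec890024af9643a80044c423483,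
  nat_lit 0x100120117ad0007fa09109209f1028171271263503535df35228a28e91b47c71347b91746f53557da6353053b542a8644d9b29b39b49b553271dab344ca5b5346315aaa8e59b5559d96074640029ddfe4000030545538544031eb2767ab7ac7ad7ae0020014d598c4d79389374e79a655e5755af74a765a7076da98a97a966feaa1aa0a9f5e49e09df9de9dd9dc9db35035b3e63703632862872b52b74f46622321df1dd20f86e0350239d5eb00013487424123d0052ecc6c8ec010017a90007a9029e9c001e9c0900032600000de95e99e9d1ac01c02402001a747a646a0060080070058b48b59cde91e951a401401c0180122ce720038b28b38b41ca1c98af8b05f0008c84008310011091136d5e780022b8978ae1c31c887a87b5ca47590b46a5045075d49cf5e69ec62f23f25725330a30f8a230998541d9039029019008ff4179c49c39c238c38a8c50367d429d4e5a344e14dd0eb0e93c61f30870040080019c641023800cea79a00114de60000c010f07e00079777000e0229bc48448c7b613420a70002807a6fa70a71a7242b52d9bc00442c0045b00010c31c16842a33233633a33e342346348e5d685b82a26a22a1ea1aa16a11daeabaad2ad5e25e21e1de1de1de21e26ad6ad2ab9daea12a16a1aa1ea21384d70d6e47a47524924646a465e5de59e55e51e4de4a6e00500d12212111b11c8121169b40100303c83ccdf232231cdbe6c0030061eb1e80080127bcc40010020992400000162185a,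
  nat_lit 0x40050bd8248fb5c400df1a4ac800020050646fc00400c330770000061150640002d996aa66a60ff0fed97e86598a991b7d72964a871b0aa5d63d6267e27dd5d142062e136138926b396f1a4d53a94d1596fc92e210911a0143547cddcdb57e8db8dae49cf963ccf9c57e109f067c004117a13a14a150e20dd0b69ec00c4558b4329da00211209205d5a000444a6e54e00011410e1020ac4f04edef1fe00517372e26926a25883082f9e801210a8204100316e1dd2740085bc07da000116da057500005a80021416d72d5c14854834b24e37b69e4010f80fa80424d0034723e820278400aa5cec624001a9542335c001ccc7e8b31fd7b125001483c3e43e0aa8c28a0a1f4a900486d72e21400c83a3b08600220e2f768000483a439d40008681f66c219c7de340c6e2d143158aa52a4ea4aa4567978d7968bdb769d9d95db5d95c06a96a9aa9ca48a464764711f5c511f24611c14da995cc6a416b567e6f26f4a4e2643983943906061c40e009e391eae78,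
  nat_lit 0x51018451d92871161171b4a040104003fc68a91a91453852e800032af243198008dc2798c40018e622025c000db400c8c0fb0fe2f12f332e99b1bb86c2f692f0fe06c06b4294fe672a81a8053b5386d7a9c779ac7793794aa0aa1aa2aa3aa472aaeeaed5355398c78c68c52c7ae55d764055ca024665543ca9130bf0097d19fc0109e8a700bcd800348f29a8a765000aa30f320b001a8a0cd35c001d40080b42987cc2500106846811bc5184f95e00323819f1a07a800867c6711b4f900105b0495940008c43218819c19b545a80748ad65c61f487b13313218412a126a1344394d94e44043f9513f78f228f1e71ec1e728f8f1402666a20669a6b6e65d1599a236c95893e22ab2a898a98b98c2f71fc1bd1be0ae7c79f801402417817c3c4b90b9a0927d]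
theorem S0_c : blocks (facts 11 5 16 27 2047 65535 134217727 12 4095 10 1023 A R 32) 32 JS0 1072 = true := by decide +kernel
theorem S0 : On (Step.{u} R0 LW par A) 1072 3088 :=
  steps_of_blocks hpar hR S0_c (by decide +kernel)
theorem D0_c : allB (defOK 11 16 27 2047 134217727 1069 A K) 7 2 = true := by decide +kernel
theorem D0 : On (fun r => defOK par.W par.WL par.E par.mW par.mE 1069 A K r = true) 256 1152 :=
  On.of_allB D0_c
noncomputable def JW0 : List ℕ := [nat_lit 0x1edef857bbd6fab82f2e7b2be26b795bf6f6bccdbbb4c56edcdf9bacdd86f437aa982c506f7b7c5c24aa3a8d547697cda379ed6e6b6cf5178d3cdde80f4fab3bd41cccf3978e39a6acae1978f39b1ecf60fb063dedbaef367b53de6b7af7a6f73ce1cd6df37375472a3ee6d7aa3d8eb76f5278fbd59f50f9eab25866c2cf8f7bf3e2ec22f7ca8f3d5df4ef9c737d862c36f8e7d5be86b75614b0bbe31f48f9bb085876c34f8d7d63e8df256157cbbe45f68fb67dc5872c3ef907dd3ef1f7cf947cb5885f80fc27e23f1ac3d620,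
  nat_lit 0x1cb8f5a7a555b6ad4ef372c398698d4c972b378dc1d519a8b385da34c545f1af856e2be55042aa1b36a0d6cfd2f5b4cda46f23ca9eeb606b04bc35e52de16ed5485e58ef06f3be09ee95c3ae03bc9bbf4c3a60365dbd8de262c512688cc51629b155540aa45534dfe6f8aa96cc2ac9b3d4bca5fb695e7ef497a656d6b64f307a13d7eb6f5b478cbcd1e8af5d7a6d5a2ad6f2f79dbd86acd56972bbcc9e2d563ab02f91e36dd9732b97a98ee16733b7c1c2abe7a8db861b4eda27b4bdcdeed60bb043cc5ed8f87b06d829e5af35,
  nat_lit 0x1c38e3174755ddd12e7255638a58954de6c238d1dd46b855554a6a4cdba78939f5bab55f74abc0dc1ae11ab7d5b1c74f066e6380aa2f5146883175caae7eae43a0ab96e845bbb879c174c8a65b609b92b425b8521290edb368cd20e900ab568db47540aa034fda81d412a0b7933c82a4752074dbc098acc4eae2d709c9cf07630b11288f44462d3171b0cf80b02581dd10e8554fb64589ad966c2b60de44a9d553d492a4edb2691b67696ca06629347155eab1555aad26faa0a72d3c41e96e83ad9bc31e2ae62ab0d579e30ef1,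
  nat_lit 0x1c0d5c6ae4b9d9c90e784f2a7b25e32ee4c7a7ad6813d35a2aa62368a9a6e7a7a1ba94856e8b74dc6ee71abcd5d9d28e9c68b347d9af4df71db8c9a28cfaa40d1f9a22d1372938e5c815cdae539cd402e2f7045336994e356e216893f5489a4336ed8bea77ae23dc5c96f043a79d4ce9474c2c91d513ccbde5eed7eebf0edf6331d89899445a21318d8c8e7ab02bdc1ddee794f14bce5e09d24c0a7a951ca97548aa663d0a9b792a956a455257523749ca2e8dae7d731d34e9d692b48299f4cc727b8cda4ccf9a5bd2d18b6d12,
  nat_lit 0x147960353d29f1dd8efa59e2cf9518b479e62a18ee076b3b69d08bee76f523a9313a92f651aa90948b5ffafe2f61dccef66ffd805520a92774bbe54a674097aa74e4149dc69429d299cdf77253351c986c4ae75745d4ae9e8ce467cb2858f2c99631316bbf5ed57dabf2ee169621d5a614b569934358da652625d102886c68635b321d1eb65777386d30897695ca5ed30098235f9aecd806b68f496a16cf52b685d4a1d4edb46fcca02adce776693c1643ca403a4cd0e6807554e82f057b95a5ad13b79b9737a7055456a24c62,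
  nat_lit 0x1c015ab5a22d197f0ef84f020213ab2ef4eca7759a273866b31d59a6cd56672d42af157b6e83a7cbd8a3f1f24cfa68258d4c32ef17b75a0ad1bb81a0ca2368551fe8f8d0c6e31d69c13510a89b1a5bf74d0720a6f1c92e1a4c4caee57098c4c7260cb545a52d3c6ca36a5a94df30eda634886dc36d54e6a783b629f66e885490c39d4ece8525fbbbed00e80a93ec9e8b3476e5241d425e92f72c3290d0087683a5c9ee4f07465442a0d51aa939a4aa1d4a0e04ad3d691812ef44ef3122bfb5fa772bbd4ebc7613b31d363c921d,
  nat_lit 0x1be85a14e3d742ba6ea25dab3aabe95f76773b749e516c9a8163a6a68776d7a1c9c42d36699b40d69ec47aa8d539dc8c073211928c8f1e28f299114775573aec851ddabf359dacc9516b379e6a958bde5f32fac6dcbec59c35e28e273939f51a1621695553aa82cc1dcebf16fe5554d831e67742fe98e4c43a1f51058dec715b41ccd6d6b6493f271107c8439109adca905b15bc1792a5a97a75430e109958168055f9d4ceaa3b2215a4f885339ea154e8a73f3a41d0c7c274790b29394f734290d48714975a9ad32f657eaef7,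
  nat_lit 0x18f68455b555eaafaea35d833c2b3d5a17713b70bd6a2e43cccfe10c87668286e5a0347aa3eb4087bb19a3ae1d624366452c24fee7f0b295fa2fc17f93fd2d30e557f2bfb6e1b002a1d51169e31c13827e14e326f53869c52d696da3611b312616c17664fb5cea63586ec394f8d75dc415d46dcbaaceaea6a2fa29be6ea71b3648f6cb012089059b1cb213ff3231f897ecbf22cc9678b2e4f62cd9674b0658a2c09450b0e58939b17c0b2b27693c8f8d50aa80545299e690a57367affa7f33f66043019a569b6a87b7d9a86c79,
  nat_lit 0x77c1571364d566a41b36a0302e95cd3769eb544d5a6b1359c79cd68399327995a3c11e3107195539abb8596d53ea98c033981ab8e412159091cd508064c5184e7958651659750e686cb31647b219076829910488caba5b264050ed668b3663fb214bd25e38dcc6d84a44f855c8916a5952f759ae85a7ecd8a3c51ed8dcd504279cb909685093fa124a985202a71540a9224e5bfc2a2b06978754bab59f851f42555feaf8ea13241cecb2c72739e1c6969a8039cea7593b06c61ef0f607cb12d1f00f898fab5ea1fb1d18ecc78,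
  nat_lit 0x71c3901c48e5072c3981e9a6d652a7594379950a25509a832ca1a9ec872d716d236245d1c316cd4be6a65ce54b972eba04f913c53ea9ee4e121204a10a7124892849a24f5bd0f2ebb319861b3ab0ffc80193a49dc62e3d54d9d4354d8a6e6a5b20c7266d39034824a4a6d6674d42d4c8a666a63210da0bbb5784fde7e8c025cdd7cabeabd76723b68fbe3a692c1f8c9d873427a8f5a2ce4f71e193e4a225188b514542be5173bb4d3a6a27c0138296da8e998a57a7bda84d526a289193e95d5ae93a8175d4eca77b0319dece0,
  nat_lit 0x15747f459aa9744f0a633781c54de66a986f1c5c47a23710f88fc482243105884a1161bc10788452e6b7d576552aa9ac050da9c90e4672990993b8a962089d2ab0158416155fd1ce8e0b2a6473560abc51d2a79030ab837366dd1d44f88ef63f355c4ae25908389544a625a85742c2b055857593ab91d497495825e52dc5271e80f3a00512c8978f50ca143d9461c99882c82355273a5d09d74b79b5d75759cacfaf59daaedb2f34f1d0f00fc02929699fc847a3ca1458eed535c0b372a9154b771b38436c1ba02606f610e1b2,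
  nat_lit 0xef27c293a9f062d0100434d2b4c524ea6a535549a65298cb4664a485266a452ac6c04d46a6b559752c0ea772ba99cacdf274c54c88a4eb27693bc7803c5899c4c078425b0aa05602a215c0af05804d4272136881c4e20541e3a1aa6af3544370840a46bb6577b0367eac04476251675a8ee35a9344c811de8f099c4c7a63e4e4242d659435a193224e38719390ca5a53271e41e82254629cb5161431456950a1bd0d1920c8d7ea11ba29e47123511a48da94facdd661da2ed741b20b0d65222419914cbb51bb8dc17760945df,
  nat_lit 0x1ec9b094a4a5d0ce63f283143ea0f5046b032322845bc9b4cd9a2c84684d3a43abe35ee6103b588b245b1c411708aa4523e61f224a823e20e1c58d466a52231aa23922420a9d2a694cb266a7356470038412443b870e3721ae18c6bb15db5cb3abc62831b187895062c3184d74db94da5dc31321648ac6cb9039428a5e6d5366a4315e3505a81322135ace3a49af49b54d784d4196ebe0bd45f7bb64a125048b5942e17450d3e3c95a4b267089e1c7cee87738b34a2e5105de3ea9f4e4ab2522121f654c0103532a9706c6a62,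
  nat_lit 0x157894aa38d1b9922d5b7e545e40f91762359284ac6949aa2d509da0c1b208905482c40d20c0df421010c083043e09610413d89d84fa27413c89f85ac2d00f543721be2d31418a1450efe41200a2104a2e35c85611716eb0473a5865629704b694c47903cd85244c625c31932c197a51b28a0baa16107095e974a7292d86d4336339e8babd5653b5e62a08d9acd2f4dda4ed855bcf14de46f40f39f601f60f980183f41fe10110651de0ac7286203551705546aa4ab8dda8cde028815809a04b02981549ce4e58aa935472e4d0,
  nat_lit 0x84626e89ac2c884a1e91af886c6c30e71b109fc4022030fe881a11203e10bc2aa6ad3594332054a549095772c06a06c8a337925a3b867233419a81180660453f8dfc009524a926629c49203f92680e006903581b405c06f45b20ad7a1599acb3b2d2ad2e397011c12ca8b2474a3767593af4191384cca65d8eec768cc2663333a3fe8b945f65235d84405e1970a2f52c467745da1ed7a3494a4bb5bd1692e510f01b12cc44e27e48ee11523831e20512d2906576d0c2866c8b7e80b3ce4529b94c1108ac00869d23f4945a2ba,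
  nat_lit 0x6b62a65c6576970eeb136cc814a072022171b093491405e7d7bebd8eca3e529626d88bc45f19893548fca495255b52d7737e9bb88c46f58f79be0db445e281480e40009437d9f726d06732bf926cc7663933cc76e3b06763e8cdaa6da49313319accea7db5e7517a8c2d6e3e71f5c0d52539281be42ee4ff18714022d22143129884c511bd31385c89ac5338cb94b0a5c53013153c29e6ae96d5b2a4af46949f62b9d7dcc155722bcaa70aeb75dabd056c2b30a842e21762bb85610688883a289e910c87e6228994a1a512105,
  nat_lit 0x21682eeac5ae21714ebe4ae4abc1020a34b510c10b80ac5c8a5c57d2c2a4adcb9c116fe24b59b0c43021c852888c1fc2150bc05ea0ae1810ba05ccf28caba11ab7994cca803a236aa88ae0769b0515bb42ca17ab895f0af50f201383d61e00f307a008a0470208129f9e03f23211848c644c01001b889045133c4d9e6c88b326e136a2a915722a138089713f223913487044f15a8ae694f4a46b0b568038383252458a2ca4a025124467db3ea610b0686e23761bc43bc6f437c21044de2682a420e8b48d4062c21b472e390289,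
  nat_lit 0xf180b602048e646c810458a38d79b594acbbb355b0b08a1750c5618b030211eae53b29a40b0e6c11e0260403f79fc209703b81ec0fafd703f01cc06002901580b405e02202e81840c4fd303201640b491459151be8d8d5f2b21049597543aa0305c3961cc07ac5de2e849e24e92a49604b220c92d0f0a822916043a45e77d16a1e7a4787a13301e60f3a8faa11509594ac9a140042e5532a64b199e91701d65e6526692cd7146fcab450c1c04b390e904c04841789d452e35605d82d4180fe505e82fc5b62e486d43745ce2ac,
  nat_lit 0xe007020129c2e3dc6ff2b9d4eaa7aae675e3090b768c8a7d2ba1ae6c98568abeabc8afc75d3b10dba01a214c7fa40209615f8b045850b91620160afa441252c5bcafc07231918d8cf91d68ec99ecd1e4275e5d18e8c0d700ff0e821fe3a31ce0e6873e6349424a1cc1677c1ac88121d30e61aa8d5c51e28b14942cc5221f82ff4738d0660d8440bfc4c226812f89944ce25c3c198a83f93589ada0453464e25e557aabdaecc56bd4daa72b0075c2c092b32ab95411c92c88af472238505d3ae9d893283c607891e9e68cd225d,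
  nat_lit 0x15b4b04ac72c195f2ec50fb87e83e21e106107e46000d017dc341f9c2fe89d10d0cfb3629b2a2b899a4de874455a2b24cb00f8064048fc9010808c5789135925296944d5e2538dd55913eb9f4305806803d255c58c1e049f44603991208921bd92d487913821b8ee087243b34f98be39b1ca1a702f85570b71570a945442ad2fc0d26bc2b845c33afcf8a7bc015493a4a26fe3d948aa45a5011861ed0c2061387f46f0c3261d21510c885042d21790c499e70e5c694b5d6ec2b20f23184bd2da45f9e651408f9a7953d5b50c9b,
  nat_lit 0x67633d19c0d000ca32d870246563cb11a36b574ace4ad564d4faa82c190cb067c9551728ba83c898c4c026112ce2b04c43c32084617231917181435c1b00be070434e1ab05c23589232a79521a5915a8f6a4dd261946d6d06240041820c806183285c329e9509e8119c8cd4521ee959f424a13b27853229d14f8a5052c2a016c8bb43e02ea05e0bd85b82f286d8bac5cc2df05782ac1640a205382c51330bcac50c817d0ec130a0d4a50a2223041ed4f1c81e94e060103261c3c82bde7caae160e3094f268d0a152b7d878c99,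
  nat_lit 0xcff35f42f4d7073a80f30717423866173051810bf51c726197f06a82a134e1a6e39836a148032cc051c58e11830c12304146173e3402642e49730c0234c3414d766b48134d0246abd15eb7673b215a55e2af2ac41d72ec30d6922628c47323c11e913689e14f224e7604c50d09e58f4a79b246173460e2f817d48d246e81223e2412b2559560f3b255ab58cac7ac5961aec2181121a46523540ba038f03246924bf5890656e0480179fb8fdf04f824c1d88885654f9a7d2c180e4020e0ee02c0ce00e81de0cc07a033c1e20f3,
  nat_lit 0x64a9165902c5e946d5c1de0edc6d03b91dd86a868b0e31578d1c5462de3df1eda49924f0c71ee061029a185434461a3053c418190be61630c2030dc63b437590b23f20b02641b9ebc034175b3b0114685b56653d29eec9f3bd4a0ce1070a1b61ee4ad891fa9e54fdd9ec23154187e5b12db4612330b708f0a7dd3e1ae8ca14cfd79abd2bc575ebb1cd1a8c5a322f11ae4d6b36f0ac63f91ff05082485983261940c8458a32c2b895d22e316e2bc95bcd206988ea475cba869734923d68cb4626bab5b06943501498d1869e2f7,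
  nat_lit 0x2fd1448a391fc90448404d8275fba0a5050026434408483b06940701953bf1ec64900ce23c95a4dc233e8fec7e813c0980ccc165f9819b0ce8650ad44bf8b845ccaec5683d7492a49a1a40d31c1c18e46724811f891a48f0c6861c2fa0c90c786445ea8d53d24a8a54a5d6174a0765412a3467a32915219356750a684cc9c1638b241660a40530b28f1681b919c8c103080d3d6a4727c93e760fb0891548f3a15d0a1944ca0240d642b26bc860ebb189148d3a4d2f2587ad6a88013626c13632bb91ec06e0337e6bf2007203b,
  nat_lit 0x3721ba0dd51fb8fc0b2ce0851a38486687747064530d9159b4f9a7b32746852d696c97491868cb8751a1a6c26882bc12146dc3671b48dac6da19087217623425d32ea975cd166818ea9a24b9048e]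
theorem W0_c : blocks (rows 11 5 16 27 2047 65535 134217727 13 8191 78 A 3088 512 cols 21) 21 JW0 0 = true := by decide +kernel
theorem W0 : On (Row.{u} R0 LW par A 3088 512 cols) 0 525 :=
  rows_of_blocks hpar (by decide) hcols W0_c (by decide +kernel)
theorem idx : Idx.{u} R0 [[0], [4], [6], [8], [10], [12]] [[6], [8], [10], [12]] 512 :=
  idx_of_cert hpar hR (K := K) (by decide +kernel) (T := 1069) (T' := 1152) (by decide) D0
    (subs := [3,4,5,7]) (by decide +kernel) (T1 := 1072) (by decide) (N := 3088) S0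
    (by decide) (n' := 525) (by decide) W0 (by decide +kernel) (by decide +kernel)
end T1
namespace T2
noncomputable def A_0 : List (ℕ) := [nat_lit 0x15524550550515315314548548315115118540540614f14f24538538514d14d14530530314b14b1852852861491492452052041471470c51851821451450c510510414314314508508514114114500500413f13f0c4f84f8213d13d0c4f04f0413b13b184e84e83139139084e04e03137137084d84d81135135601e04d03133133104c84c8a1311310c4c04c090e512f5c1fc4b8412d12d0c4b04b0203b03b0c068068400d00d144ac4ac412a12a084a44a431281281049c49c31261260849449431241241848c48c41221220c48448421201200c47c47c411e11e14474474411c11c1446c46c411a11a0c46446421181180c45c45c41161161445445441141140c44c44c21121120c44444441101101843c43c610e10e18434434410c10c0c42c42c210a10a0c42442441081081841c41c41061060c41441421041040c02440c90280281413c13c50550550c09c09c6051051180940949052052140a80a851021020c09009060100101804c04c91011011440040050070070c3fc3fc60fe0fe183f43f490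fc0fc103ec3ec30fa0fa0805405430f90f9103e03e050f70f7143d83d850f50f5103d03d030f30f3083c83c830f10f1103c03c060ef0ef0c3b83b820ed0ed0c31c3b0600c0eb0c3a83a890e90e90c3a03a040e70e72839839830e50e52426439030e30e30826c38850e10e1142c8014409b0e05c21837d707e0de5c1e437570a30dc5c26c36d507e0da541e436550a30d85426c35d10790d64428c355109b0d42c1e034cb0a30d22c26c018509b0d1141ec34030cf0cf1833833860cd0cd2433033050cb0cb1432832830260261814c14c60290292404804850160161404404430c90c91832032060c70c72431831840c50c50c31031020c30c30c30830840c10c11430030050bf0bf142f82f840bd0bd0c2f02f020bb0bb0c2e82e840b90b9182e02e030b70b7082d82d830b50b5082d02d010b30b3600002c8a0b10b114024024900c00c182c02c0a0af0af1402802890ae0ae182b42b4a0ac0ac142ac2ac90aa0aa580002a440a80a82829c29c60a60a61029429450a40a42428c28c50910a214284284400b00b18280280609f09f24278278509d09d14270271400009b24268268300f00f10020020a0020020c26426490980984800001090030031425c25c90960960825425410940943000024d9081092641e024590010906400023d708508e5c204235707d08c5c1e822d707808a5c0042257000088541f421d50780865400421550000844c1f420d30780824c0042053000080441e81fd107807e440041f5100007c341e01ecd00107a340001e4b0010782c0000049000,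
  nat_lit 0x2552495095042532530c94894822512510c940940424f24f14938938524d24d14930930424b24b0c92892822492490c9209204247247189189183245245089109103243243089089081241241601fc900323f23f104d08f8423d23d0c8f08f0223b23b0c8e88e84239239148e08e04237237088d88d83235235108d08d03233233088c88c83231231188c08c0422f22f0c8b88b8222d22d0c8b08b0422b22b148a88a84229229148a08a042272270c89889822252250c89089042232231488888842212210c880880221f21f0c878878421d21d18870870621b21b1886886842192190c86086022172170c85885842152151885085042132130c84884822112110c6f8840920f20f14838838520d20d0c830830620b20b1882882892092091482082052072070c81881862052051881081092032031480880852012010c80080061ff1ff187f87f891fd1fd107f07f031fb1fb087e87e831f91f9107e07e051f71f7147d87d851f51f5107d07d031f31f3087c87c831f11f1107c07c061ef1ef0c7b87b821ed1ed0c7547b031eb1eb2426c7a831e91e9083547a040d51e75c35879910d61e54435479050d51e31878878861e11e12478078051df1df1477877831dd1dd1877077061db1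db2476876851d91d91476076031d71d71875875861d51d52475075041d31d30c74874821d11d10c74074041cf1cf1473873851cd1cd1473073041cb1cb0c72872821c91c90c72072041c71c71871871831c51c50871071031c31c30870870811c11c1601f4700a1bf1bf146f86f891bd1bd186f06f0a1bb1bb146e86e891b91b9186e06e0607e1b70c6d86d8409a1b5245646d1107e1b3441f46c841b11b10c6c06c021af1af0c6b86b841ad1ad146b06b041ab1ab086a86a831a91a9106a06a031a71a70869869831a51a51869069041a31a30c68868821a11a10c680680419f19f14678678419d19d14670670419b19b0c66866821991990c66066041971971465865841951950c65065021931930c648648419119118640640618f18f18638638418d18d0c630630218b18b0c62862841891891862062041871870c61861821851850c3b0610518318314608608318118118600600617f17f245f85f8517d17d145f05f0317b17b185e85e86179179245e05e05177177145d85d83175175185d05d06173173245c85c841711710c5c05c0216f16f0c5b85b8416d16d145b05b0516b16b145a85a841691690c5a05a021671670c59859841651651859059031631630858858831491610c580580913115f0c57857820d215d1034857170d715b5c00c56970d21594400c56110d2157143485586155,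
  nat_lit 0x3500c108108402b02b14d3cd3c434e34e08d34d34334c34c10d2cd2c334a34a08d24d24334834818d1cd1c43463460cd14d1423443440cd0cd0c434234214d04d04434034014cfccfc433e33e0ccf4cf4233c33c0cceccec433a33a14ce4ce443383380ccdccdc23363360ccd4cd4433433418cccccc633233218cc4cc443303300ccbccbc232e32e0ccb4cb4432c32c18caccac432a32a0cca4ca420cd32814c9cc9c53263260cc94c94632432418c8cc8c932232214c84c8453203200cc7cc7c631e31e18c74c74931c31c14c6cc6c531a31a0cc64c64631831818c5cc5c931631610c54c54331431408c4cc4c331231210c44c44531031014c3cc3c530e30e10c34c34330c30c08c2cc2c330a30a10c24c2463083080cc1cc1c23063060cc14c14230430404c0cc0d800302f0c18418493023020cc04c04430030028bfcbfc32fe2fe24bf4bf520032fc0cbecbec22f901410be4be8b2f92f90c00cbe062f72f718bd8bd892f52f514bd0bd052f32f30cbc8bc862f12f118bc0bc092612ef28bb8bb852ed2ed24bb0bb062eb2eb28ba8ba852e92e924ba0ba062e72e71837cb9892e52e514570b9062e32e324b88b8852e12e114b80b8032df2df18b78b7862dd2dd24334b7032db2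db10b68b68a2d92d90cb60b6092822d710b58b5832d52d508b50b5032d32d310b48b4852d12d110b40b4022cf2cf0cb38b3842cd2cd0cb30b3022cb2cb0cb28b2862c92c910b20b2032c72c708b18b1832c52c510b10b1052c32c310b08b0852c12c110b00b0032bf2bf08af8af832bd2bd10af0af052bb2bb10ae8ae832b92b908ae0ae032b72b710ad8ad862b52b518ad0ad062b32b310ac8ac832b12b108ac0ac032af2af10ab8ab862ad2ad10ab0ab032ab2ab08aa8aa832702a924aa0aa052a72a714a98a9832a52a518a90a9062a32a324a88a8852a12a114a80a80329f29f18a78a78629d29d24a70a70529b29b14a68a68329929918a60a60629729724a58a5842952950ca50a5022932930ca48a48429129114a40a40528f28f14a38a38428d28d0ca30a30228b28b0ca28a28428928918390a20328728724a18a18328528510a10a10a2832830ca08a08926528108370a00527127f103709f970de27d5c3749f050dc27b189e89e86279279249e09e05277277149d89d83275275189d09d06273273245549c8a271271149c09c0926f26f189b89b8a26d26d149b09b0926b26b189a89a8608a2690c9a09a042672672899899832652652499099120892632456c988626126124980980525f25f14978978325d25d18970970625b25b249689685259259149609603257257189589586255,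
  nat_lit 0x48190b50b4642c42c100e80dc503a03a140d80d8501842b150a90a89357039190990a570184285c58109cb0184260c088088500f4251909109044234230d08908824214210d081080441f41f15079078441d41d09071070341b41b1106906834194190906106034174171905905844154150d05105024134130d049048441141115041040440f40f15039038440d40d0d031030240b40b0d02902844094091502102044074070d01901824054050c0b80b844044041900d00c64024021900500444004000cffcffc23fe3fe0cff4ff443fc3fc18fecfec43fa3fa0cfe4fe423f83f80cfdcfdc41033f60cfd4fd423f43f40cfccfcc43f23f214fc4fc453f03f014fbcfbc43ee3ee0cfb4fb423ec3ec0cfacfac43ea3ea183b8fa463e83e82812c12c506a06a24160160604e04e28f9cf9c5045045241b01b063e63e628f94f9451603e428f8cf8c63e23e2100fc0fca02302318f84f8443e03e01406406493df3df14f78f78900601b28f74f74503d03d1416816843dc3dc18f6cf6c63da3da2440c0f0602d02d105580d0901801814020f6450e33d808014f5c33d63d624354f5420023d410008f4c50023d218f44f4463d03d024f3cf3c53ce3ce14f34f3433cc3cc18f2cf2c63ca3c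a24f24f2453c83c814f1cf1c33c63c618f14f1463c43c424f0cf0c43c23c20cf04f0423c03c00cefcefc43be3be14ef4ef453bc3bc14eeceec43ba3ba0cee4ee423b83b80cedcedc43b63b618ed4ed433b43b408eccecc33b23b208ec4ec413b03b060260ebca3ae3ae14eb4eb493ac3ac18eaceaca3aa3aa14ea4ea493a83a818e9ce9c60993a610e94e94a3a43a40ce8ce8c93a23a248260e8443a03a00ce7ce7c239e39e0ce74e74439c39c14e6ce6c439a39a08e64e64339839810e5ce5c339639608e54e54339439418e4ce4c43923920ce44e4423903900ce3ce3c438e38e14e34e34438c38c14e2ce2c438a38a0ce24e2423883880ce1ce1c438638614e14e1443843840ce0ce0c23823820ce04e04438038018dfcdfc637e37e18df4df4437c37c0cdecdec237a37a0cde4de4437837818ddcddc42fc031141a01a0506d06d0c18c18c63763761818818890460461408408450470470c1cc1cc6065065180c00c0937537514dd0dd053733730cdc8dc8637137118dc0dc0936f36f10db8db8336d36d08db0db0336b36b10da8da8536936914da0da0536736710d98d98336536508d90d90336336310d88d8863613610cd80d80235f35f0c528d78335d35d24d70d70335b35b1005c05ca35a35a0cd64d6492fe3580cd5cd5c21573561055cd5571573544455cd4c43523520cd44d442350,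
  nat_lit 0x51315449448351151119441440650f50f25439438550d50d15431430350b50b1942942865095092542142055075071541941835055051941141065035032540940845015010d40140024ff4ff0d3f93f844fd4fd153f13f054fb4fb153e93e844f94f90d3e13e024f74f70d3d93d844f54f5193d13d034f34f3093c93c830c84f1253c13c034ef4ef113b93b8a2f94ed0d3b13b024eb4eb0d3a93a844e94e9153a13a044e74e70939939834e54e51139139034e34e30938938834e14e11938138044df4df0d37937824dd4dd0d37137044db4db1536936844d94d91536136044d74d70d35935824d54d50d35135044d34d31534934844d14d10d34134024cf4cf0d33933844cd4cd1933133064cb4cb1932932844c94c90d32132024c74c70d31931844c54c51931131044c34c30d30930824c14c10d30130040494bf152f92f854bd4bd0d2f12f064bb4bb192e92e894b94b9152e12e054b74b70d2d92d864b54b5192d12d094b34b3152c92c854b14b10d2c12c064af4af192b92b894ad4ad112b12b034ab4ab092a92a83076076112a52a454a84a81529d29c54a64a61129529434a44a4081d01d034a34a31128928864404a115281280949f49f19279278a49d49d140b00b0905c0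5c19271270a49b49b15269268904004019265264a1b24981925d25c44964962925525464944941124d24c54924922524524454904902408923c648e48e10134128504d04d14125234501d01d25231230548b48b243ac130648848a5c089224b0224880c06121c51614860d21521424844840d20d20c4482482152052044480480091fd1fc347e47e111f51f4347c47c091ed1ec347a47a191e51e444784780d1dd1dc24764760d1d51d44474474151cd1cc4472472151c51c444704700d1bd1bc246e46e0d1b51b4446c46c151ad1ac446a46a0d1a51a424684680c11011044674671919919864654651919119044634630d18918824614610d181180445f45f19179178445d45d0d171170245b45b0d16916840364591516116054574570d1591586455455181c81c8906b06b1419c19c54544540d14d14c64524521914514494504501415c15c505e05e0d13d13c644e44e19135134944c44c1112d12c344a44a081a41a43449449111211205447447151191185445445111111103443443080cc0cc30380381110910864414410d101100243f43f0d0f90f8243d43d050f10f1800843b150e90e89439439190e10e0a437437150d90d89435435190d10d0a433433150c90c89327431290c10c0642f42f110b90b8a00e00e18014124a07507514198198507107110190190606e06e180d40d49036,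
  nat_lit 0x6100d83d83c460e60e15835834460c60c1582d82c460a60a0d82582426086080d81d81c46066061581581446046040d80d80c26026020d8058044600600197fd7fc65fe5fe197f57f445fc5fc0d7ed7ec25fa5fa0d7e57e445f85f8197dd7dc43585f6157d57d455f45f40d7cd7cc65f25f2197c57c495f05f0157bd7bc55ee5ee0d7b57b465ec5ec197ad7ac95ea5ea157a57a455e85e80d79d79c65e65e61979579495e45e41178d78c35e25e20978578435e05e01177d77c55de5de1577577455dc5dc1176d76c35da5da0976576435d85d81175d75c65d65d60d75575425d45d40d74d74c25d25d205745745800a5d00d73d73c95ce5ce0d73573441845cc0d72d72c20ce5ca1033972445c85c80d71d71c25c65c60d71571445c45c41570d70c45c25c20970570435c05c0116fd6fc35be5be096f56f435bc5bc196ed6ec45ba5ba0d6e56e425b85b80d6dd6dc45b65b6156d56d445b45b4156cd6cc45b25b20d6c56c425b05b00d6bd6bc45ae5ae156b56b445ac5ac0d6ad6ac25aa5aa0d6a56a445a85a81969d69c65a65a61969569445a45a40d68d68c25a25a20d68568445a05a01967d67c459e59e0d675674215559c1566d66c359a59a1966566465985982565d65c55965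961565565435945941964d64c65925922564564455905901563d63c358e58e19635634658c58c2562d62c458a58a0d62562425885880d61d61c45865861561561455845841560d60c45825820d60560425805800d5fd5fc457e57e195f55f4357c57c095ed5ec357a57a095e55e415785786028d5dc3576576255d55d43574574110a95cc42fa572115c55c4357057008158158305b05b115bd5bc556e56e115b55b4256c56c0d5ad5ac456a56a0d5a55a425685680d59d59c65665661159559435645640958d58c35625621158558455605601157d57c555e55e11575574355c55c0956d56c355a55a1156556455585581155d55c35565560955555435545541154d54c65525521950d54455505501553d53c554e54e11535534354c54c0952d52c354a54a1152552465485480d51d51c20110540d51951895455450d51151040315430d509508210354111501500353f53f094f94f8353d53d114f14f0553b53b114e94e825395390d4e14e045375370d4d94d825355350d4d14d06533533114c94c83531531094c14c0352f52f114b94b8552d52d114b14b0552b52b114a94a83529529094a14a0352752711499498552552511491490352352309489488352152111481480651f51f19479478651d51d11471470351b51b09469468351951911461460651751711459458351551508be94505513,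
  nat_lit 0x7090dc21c20470770715c19c18570570515c11c1047037030dc09c0827017010dc01c0046ff6ff19bf9bf836fd6fd09bf1bf036fb6fb09be9be816f96f9602c5be036f76f725bd9bd836f56f5117d9bd041556f311bc9bc836f16f109bc1bc036ef6ef1017c17c56ee6ee11bb5bb426ec6ec0dbadbac46ea6ea0dba5ba426e86e80db9db9c66e66e611b95b9436e46e409b8db8c36e26e211b85b8456e06e011b7db7c56de6de11b75b7436dc6dc09b6db6c36da6da11b65b6456d86d811b5db5c36d66d609b55b5436d46d411b4db4c66d26d219b45b4466d06d011b3db3c36ce6ce09b35b3436cc6cc11b2db2c66ca6ca11b25b2436c86c808559b1c56c66c615b15b1436c46c419b0db0c66c26c225b05b0456c06c015afdafc36be6be19af5af466bc6bc25aedaec46ba6ba0dae5ae426b86b80daddadc46b66b615ad5ad456b46b415acdacc46b26b20dac5ac426b06b00dabdabc46ae6ae19ab5ab436ac6ac09aadaac36aa6aa09aa5aa416a86a860025a9c36a66a625a95a9436a46a410551a8c41046a211a85a8436a06a009a7da7c301f01f1010c10c569e69e11a75a74269c69c0da6da6c469a69a0da65a6426986980da5da5c669669611a55a54369469409a4da4c36926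9211a45a44569069011a3da3c568e68e11a35a34368c68c09a2da2c368a68a11a25a24568868811a1da1c368668609a15a14368468411a0da0c668268219a05a046680680119fd9fc367e67e099f59f4363a67c181dc1dc667b67b259e99e85679679159e19e03677677199d99d86675675259d19d05673673159c99c83671671199c19c0666f66f259b99b8466d66d0d9b19b0266b66b0d9a99a84669669159a19a056676671599999846656650d99199026636630d989988466166119981980365f65f09979978365d65d09971970165b65b6003196836596592596196030600601195d95ca1046561033595446546540d94d94c26526520d94594446506501593d93c464e64e09935934364c64c1192d92c364a64a0992592436486481991d91c46466460d91591426446440d90d90c4642642159059044640640158fd8fc463e63e0d8f58f4263c63c0d8ed8ec463a63a158e58e446386380d8dd8dc26366360d8d58d44634634198cd8cc6632632198c58c446306300d8bd8bc262e62e0d8b58b4462c62c198ad8ac415f62a0d8a58a426286280d89d89c45d66260d89589496246240d88d88c45146220d88588420cf6201033d87c461e61e0d875874261c61c0c164164405d05d1586d86c461a61a0986586436186181185d85c36166160985585436146141984d84c46126120d8458442610,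
  nat_lit 0x8071a01a018a80580514140140902403e180ba01040118031200a00838018010a00200037ff7ff11ff9ff857fd7fd11ff1ff027fb7fb0dfe9fe847f97f90dfe1fe027f77f70dfd9fd867f57f511fd1fd037f37f309fc9fc837f17f111fc1fc057ef7ef11fb9fb857ed7ed11fb1fb037eb7eb09fa9fa837e97e911fa1fa057e77e711f99f9837e57e509f91f9037e37e311f89f8867e17e119f81f8067df7df11f79f7837dd7dd09f71f7037db7db11f69f6865017d915f61f6057d77d70df59f5867d57d519f51f5097d37d315f49f4857d17d10df41f4067cf7cf19f39f3897cd7cd15f31f3057cb7cb0df29f2867c97c919f21f2097c77c711f19f1837c57c509f11f1037c37c311f09f0857c17c115f01f0057bf7bf11ef9ef837bd7bd09ef1ef037bb7bb11ee9ee867b97b90dee1ee027b77b70dd69ed837b57b525ed1ed037b37b311ec9ec8a3067b1113c9ec047af7af0deb9eb827ad7ad0deb1eb047ab7ab15ea9ea847a97a909ea1ea037a77a711e99e9837a57a509e91e9037a37a319e89e8847a17a10de81e80279f79f0de79e78479d79d15e71e70479b79b15e69e6847997990de61e6027977970de59e58479579515e51e5047937930de49e4827917910de41e40478f7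8f19e39e38678d78d19e31e30478b78b0de29e2827897890de21e204787787183ede18578578515e11e10378378319e09e08678178125e01e00577f77f15df9df8377d77d19df1df0677b77b25de9de847797790dde1de027777770ddd9dd8477577515dd1dd0577377315dc9dc847717710ddc1dc0276f76f0ddb9db8476d76d19db1db0376b76b09da9da837597691996dda03767767243b5d9856f9765103b5d90576376315d89d88376176119d81d80675f75f25d79d78575d75d15d71d70375b75b19d69d68675975925d61d6047577570dd59d5827557550dd51d50475375315d49d48575175115d41d40474f74f0dd39d38274d74d0dd31d30474b74b19d29d28374974909d21d20374774709d19d181745745602cdd1047437430dd09d0827417410dd01d00473f73f15cf9cf8473d73d09cf1cf0373b73b11ce9ce8373973909ce1ce0373773719cd9cd847357350dcd1cd027337330dcc9cc8473173115cc1cc0472f72f15cb9cb8472d72d0dcb1cb0272b72b0dca9ca8472972915ca1ca047277270dc99c9827257250dc91c90472372319c89c88672172119c81c80471f71f0dc79c78271d71d0d565c70371b71b19c69c68671971925c61c60571771715c59c58371571519c51c50671371325c49c48571171115c41c40370f70f19c39c38670d70d25c31c30470b70b0dc29c282709,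
  nat_lit 0xcd4c33433940ce0cf4c33c045a01101664058049a012029640a414da05302664098329a0ca0cb6432c331a0cc0cd64334339a0ce0cf6433c02870ac0ad1c2b8028400a0ae102b834040d00d020010341a0d00d0542b834140d00d03002c01050d00aa082a801150ad0ac5828c00550ab00a500282bd30af0b0502c0031300c00950024029a00a0af642bc2c1a0b000c64030025a0090b1642c42c530b10b12002c28080b10b1102c42c840b20b22028c28c60b2079641e403da00f09a6426826da09b0086802000990020996826426190980794c1e400d40030045001003d400f09a4c26826d409b0085002000930020995026426130980974c25c225408907d501f4224008e000500001f40084078501e002d400b00b1002c0054001000002041e000830a01800428140a00043028028ca0a000b0028400400820a01028028000a20041001000c40030036400c25d90970046801002d900b0a264288281a0a008264208205a081000680002040093078681e0005a001000002401e000920a31400400cc0a30042828c28890a30010024428c40a30a3002a028800a4001002942a0a0a20010029800cc0a8004282a028800a7001182a02a040a80a8002a42a4a0a20a9240102a4b00300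1182a428840a00a01c02c02d40a10a24c28020940010004c204204009c08100274204009e0a018208208009f0a21c284288b0040011428826050980980826026010980980c26026910080981026026440990024826c00510990991c26400880020082002003c700f09a2026826c809b0010c26c25c50040973000425c40970971c25c00090970905024c248909109030248240a0910901824024020900900424023c208f08f0423c225608f08950238234608d08d0c234234208d08d04234225208d0894023022c908a08b1822c22c408b08b0c22c224c08b08a10228228708a0892822822480890891822422440890890c22422420890890422422020880880422021520880853021c214a0860850821421410850814821020c90820813020c204a08208118204204408108108204204108107d402001f4e08007f241f81fc607f07f101fc1fc307f07d301fc1f8407e07e1c1f81f4a07e07d201f41f4607d07d101f41f4307d07d081f41f4107d07c241ec1f0f07807a301f0005007b07a3c0001ed0001001081ec1ec100107a281ec1e8207a07a041e81e44079078281e4004a078078181e01e040780780c1e01e02078078041e000440010011c00400070000001400000040000000c0000002000000040000c8405002018070070601f06f0c1c01c0404004118078078a809809160220209807,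
  nat_lit 0xb154030340a0e200c302c4388a00b0e2103882c490090a31c02428c60090091002402400b20e2142c42c400e10e22002402c50e20056401401530050053c014014d0050051c01401430050e02423c22960e00df2423437c80df08a4837c378908b08a3037837440dd08a1837437080dc08a0c37036c90880864836c218c0da0861836421830d80d73435c35c907f07e3035c35840d607e1835835480d507e0c3541e4a0d40d3242801e460d30d26834834940d20d240348348e0d20790c348019a006006500180190006006380182803006079341e41e420790793c1e403ce00f09a3426826ce09b00838020008d00209938264260d09800f4003c268f09a09b4026c02100080023c00826500990983c2601f8107e07e341f81f8207e08a08228044f01101640058048f012029400a414cf05302640098328f0ca0cb4032c330f0cc0cd40334338f0ce0cf4033c024200900c080302c020b00af082bc044d01101638058048d012029380a414cd05302638098328d0ca0cb3832c330d0cc0cd38334338d0ce0cf3833c00c20030030400c024d00900904024030100c0b0042c0030e00c0b0342c02bce0af00a340282bc10af00a040282b010ac0ac382b02b4d0ad0033400c340d0d000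43801002ce00b0a034280320e0c80c73431c2cce0b30c70431c32010c80c9043242c410b10ad042b42b810ae00b0402c01010040d00434034020d00ae082b82b420ad00a080282b020ac0ab082ac2a900aa0093c024031000c0b03c2c02bd00af00a3c0282acf0ab0ac402b02b4f0ad0033c00c340f0d00044001002d000b0a03c28032100c80c73c31c2cd00b30c90832431c20c70c80832001020040b1082c402c200b089402241f5007d07d381f4224008c07d002000010000000380001e10078078381e028c20a300140004004e001000001e81e0007c0a300344004200100104004004007b0a00828028cf0d10a30834402d70c90c81032032480c80c71c31c32180a00015c31c31c40c70c91032431c90b30b3003182cc00c50b3003102cc00c30b3003082cc00c10b3003002cc00bf0b3002f82cc00bd0b3002f02cc40b30b3002ec2cc00ba0b3142cc2e840b30b3002e42e460b30b3002e02cc30b30b3002dc2cc00b60b60c2cc2cc20b30b3002d42d420b30b3042cc2cc00b40b34c2cc2d140b40b54c2d42d940b60b74c2dc2e140b80b94c2e42e940ba0bb4c2ec2f140bc0bd4c2f42f940be0bf4c2fc30140c00c14c30430940c20c34c30c31140c40c54c31431940c60c74c31c32140c80c94c32404540110164c05804940120294c0a414d40530264c09832940ca0cb4c32c33140cc,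
  nat_lit 0xf6083d83d420f50f9043e43e010f80f7043dc3d810f60f5043d43d010f40f4083d03c420f10f0083c03c410f10f0043c03b410ed0ef043bc3bc20ef0cc0433033410cd0ce0433833c10cf0260409814c1053029040a404810120160405804410110116040c33d61030cf5440c33cc1030cf2c40c054d0150fa383e83ecd0fb0fc383f03f4d0fd0fe383f83fcd0ff0073801c400d1001013840404cd01301038040090d024102384080a8d02a05238148094d0250513814409cd02705538154154105504f0413c0a0102804f3413c0a0e0280153c0543e900fa0fb3c3ec3f100fc0fd3c3f43f900fe0ff3c3fc01d00071003c40040501010133c04c04100100243c090409010202a3c0a814900520253c09414500510273c09c155005504f3c13c0a100280154c0543e940fa0fb4c3ec3f140fc0fd4c3f43f940fe0ff4c3fc01d40071004c40040541010134c04c04140100244c090409410202a4c0a814940520254c09414540510274c09c155405504f4c13c0a14028015640543e9a0fa0fb643ec3f1a0fc0fd643f43f9a0fe0ff643fc01da00710064400405a1010136404c041a01002464090409a10202a640a8149a05202564094145a0510276409c155a05504f6413c0a1a02810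32001840d91031034c40c40cf1031033440c40c300b1030440c01861030ec1400c3b090b10ec540243b0b0090ec103b03b080030ec1c02803090ec0e55426039560980e518394260c0e5078443943a810ea0ea3c3a83a89002002003a4014a0eb0e420390390e0e40e44039039140e40e46839038d90e30e34c38c38cf0e30e33438c38c70e300f0403c020100809a0426800810020d50435434810d200604018014100509b0426c39010e40e40839033c70cd0cd0c03002830ce0e22c02822960de089243781f960d707e2c35c1f490d7000581e01e4a00009b5834826cb0d20de0038000560790d70036c004b0790780021400000d4004181e400c50790d20036028d50030a33000c280a00300a1c00c1e40086003002b028150040a030010010800c00c542c403080af0b130030028b0e209b54348360c09b07d2436c1f5507f07e2c36c379608a08924380225508b08f30224220c07d0a35800c21860030002c214004b086000242180106086003003641e16000085002501e560010860025c0000087001003681e000aa0ac141e428cc0ac0a0282b01e400ab004542802b000d30af5402c2bcb00b00a2402c28000ad00b002b82b960af00b2c2bc38890af0041c2bc01050af0cf0c2bc2bc00d00ae302bc2bc40af0a320388389500a0af24028030600a00a002c002d50af0b058388030400c,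
  nat_lit 0x132540204cc113300f584cc4d090e3134542684d1609a1342c2684d0c09a0d2244d04bd608d12f2437c4bc612f08b484bc48011201220848847c211f11e08478474211d11c0847046c211b11f0447c478111e11d04474470111c11b0446c468111a11a0846845c21171160845845421151170445c45811161150445445011141140845044421111100844043c210f10e08438434210d11104444440111010f0443c438110e10d04434430110c10c0843042421091080842041c21071090442442011081070441c410110410604418418210612d044b4410e10410534414418e1061073441c420e10810934424428e10a10b3442c430e10c10d34434438e10e10f3443c440e11011134444448e1121133444c450e11411534454458e1161173445c460e11811934464468e11a11b3446c470e11c11d34474478e11e11f3447c480e12012134484488e1221233448c490e12412534494498e1261273449c4a0e128129344a44a8e12a12b344ac034e00d01a340680ece03b12c344b04b4e12d10440410414f1051064041841cf10710840420424f10910a4042842cf10b10c40430434f10d10e4043843cf10f11040440444f1111124044844cf11311440450454f1151164045845cf1171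1840460464f11911a4046846cf11b11c40470474f11d11e4047847cf11f12040480484f1211224048848cf12312440490494f1251264049849cf127128404a04a4f12912a404a84acf12b00d40034068f01a03b400ec4b0f12c12d404b441141041054c41441941061074c41c42141081094c424429410a10b4c42c431410c10d4c434439410e10f4c43c44141101114c44444941121134c44c45141141154c45445941161174c45c46141181194c464469411a11b4c46c471411c11d4c474479411e11f4c47c48141201214c48448941221234c48c49141241254c49449941261274c49c4a141281294c4a44a9412a12b4c4ac035400d01a4c0680ed403b12c4c4b04b5412d1046841041591051066841841d910710868420425910910a6842842d910b10c68430435910d10e6843843d910f1106844044591111126844844d91131146845045591151166845845d911711868460465911911a6846846d911b11c68470475911d11e6847847d911f1206848048591211226848848d91231246849049591251266849849d9127128684a04a5912912a684a84ad912b00d68034069901a03b680ec4b1912c12d684b44b9912e12e4c4b84b8f12e12e344b84b8112e005184b83bc80ef0ee1c3b839170ef0ee6038c26d70ed0fc083f03f010fc015040543ec10fb0fb083ec3e420f90f8083e03dc20f7,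
  nat_lit 0x1622c3b434971621620458858950ed18054144095617f17e541480a9617d17c54408091617b17a5404004d61791785440440161771765401c3fd6175174543f83f56173172543f03ed6171170543e8055616f16e543e43e1616d16c543dc3d9616b16a543d43d16169168543cc3c96167166543c43c161650ee5858c59150ef164303bc590b0ef15f5c59059071640ee5458c59160ef0f05459459960f10f25459c5a160f30f4545a45a960f50f6545ac5b160f70f8545b45b960f9015545bc5c160fa0fb545c45c960fc0fd545cc5d160fe0ff545d45d96007100545dc5e16101013545e45e96010024545ec5f1610202a545f45f96052025545fc60160510275460460960551822c15432c718202758604609505504f5860c61150281842c0a0610c0281842033033c9184132083a858020080ea305803a8b1600ea58580580f160160045803a951601610458458560eb161543ac584c0eb15d2858457cc0e415f2c39057d60e415f54390268915e0e35857838d515e0e330578015615d00554574574d15d00530574014b15d15d04574574315d15c244bc570a08d0de48570378615b15a5437056960dc0de0c56835c61591580456056150d515838560560b0d51583035435c31581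570455c55da1571575401855d60061575055c55d01571573855c55cb0061573001855c70cf1572033455c60cf0040c55c41071561551841054c70551543033033161541535432c550b0cc0cb3054c548b0ca0cb2c54c548c0ca0262c54432961521515409814d615002630544540b0530293053c540c0530292c53c530714e14e30048538b0120111c04804981550295853c530c01114c2c0444d45135135004ec4ec6135135004e84d43135135004e44d401381380c4d44d42135135004dc4dc2135135004d84d550b31352431c31d61490b3544d45249135135005202cc9149149601e452160b31491052452421491490452431d514914a10528528214a14a0452852960c80c95452c324c14b0045c52852d80af14b2052852950c814b1052c52c214b14b0452c325614b14c04530531501114e54048059614d01630534058b14d0cf5c530335714e14d60338531601114d04534059514d14e580480a5514f1505814c099515115258328550d1540cb5454c55011541545833033551550cd58554334b1550cd305540a081540b10c55455411550062055455481031565c05855960ce15654338558c0ce1562c33855830e21560455840c615600f304cc03cb133002304c4008b131130302641e51130098244c04c0413013058264009513100f544cc4c96008132300204c8b008134444c80096131,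
  nat_lit 0xa486e856481ba1bd186e86e801bc1bc1c5646fd61bd1b5206f402921bc1bd4403002521be0d6186f86f841be1be007006fd10b11b8206fc70041c01c02035870110090d6187006e5100b159246e0358a1b80a0486e06e071b91b8106e06e441b91b60858401491b600f486d86dd109a0d5246dc6d510040d7146d46cca1b403b306bc6b8b01a00d306b46b0b12b1ac304ac4a8b1ab1aa304a46a8b129128306a46a0b1271a83049c498b1a71a630494698b12512430694690b1231a43048c488b1a31a230484688b12112030684680b11f1a03047c478b19f19e30474678b11d11c30674670b11b19c3046c468b19b19a30464668b11911830664660b1171983045c458b19719630454458c1971962c454450c1951942c44c450b1951943044c448b19319230444448c1931922c444440c1911902c43c640c10f10e2c63c638c10d18e2c434430c18d18c2c42c630c10b10a2c62c628c10910a3062c628b10910830624620b1071883041c418b18718630414418c1871862c4140ed61af1ae5406803561ad1ac544ac4a961ab1aa544a44a161a91a85449c49961a71a65449449161a51a45448c48961a31a25448448161a11a05447c479619f19e54474471619d19c5446c469619b19a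5446446161991985445c45961971965445445161951945444c44961931925444444161911905443c439618f18e54434431618d18c5442c429618b18a5442442161891885441c41961871865441441161851043061461470ce1851433441151851865841441951871885841c421518918a58424429518b18c5842c431518d18e58434439518f1905843c44151911925844444951931945844c45151951965845445951971985845c461519919a58464469519b19c5846c471519d19e58474479519f1a05847c48151a11a25848448951a31a45848c49151a51a65849449951a71a85849c4a151a91aa584a44a951ab1ac584ac03551ad1ae580680ed51af1b0584b04b551b11b2584b86c9512e1b2304b86c8b12e1b2046c857461b204f3060c604b02705130600604c0270512c6005fcc0250522c5f85fcb025052305f85f4b02a102305f0408b17c17b30090040b17a17b2c090040c17a1792c04c404c1781793004c404b1781773040001cb176007305d85d4b0ff0fe305d03f8b174173303f43f091730fd285c83f4c1731722c3f03ecc171172303f03ecb171170303e8054b16f015305bc5b8b0f90f8305b43e0b16d16c303dc3d8b16b16c2c3dc3d8c16b16a2c3d43d0c16916a303d43d0b169168303cc3c8b1671682c3cc3c8c1671662c3c43c0c1650f02c5943b8c1630ee2c58c588c0ed,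
  nat_lit 0x12a60b40b45712b00d60b48b4d701a03b60b50b55712c12d60b58b5d712e27f18b5ca2570f00f160a28a2d70f20f360a30a3570f40f560a38a3d70f60f760a40a4570f80f960a48a4c12932935c0543e982942955c3ec3f182962975c3f43f982982995c3fc01d829a29b5c400405829c29d5c04c041829e29f5c09040982a02a15c0a814982a22a35c09414582a42a55c09c15582a62a75c13c0a182a82a9209f0aa571032a90c9ac9f062a908b44a083a9828728724998998028627f28a2038d828126b14a00015827f27c5c0189a8327c273049cc9cd7029053609d09d570260ca609d89dd70cb0cc609e09bc32792795c334339827a27b5c33c9b4327b26f209b498c526d26d5c2bc029826c26d249b056c826c26f189b09b0026e26e1c56c98c826f00a609b89bd700c009609c03746270270109c09c002722715c2c49c4826b26a209c49c84272272203749c970090dd189c89ad700b15b249a8374a26a0a0609a89a8726b26a109a89ac426b08a4499499920dc2694499c00982662675c02003d82682695c26837092692632837498d70040de1498c98462111da6098455522611e42098498482102625c764840626223f444cc8fca15d23f083ac6d9623f2400490090091e92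40546dc900e2402402c6dc900c1b71582490041122112124441441922132144441c42122152164442442922172184442c431221921a44434439221b21c4443c441221d21e44444449221f2204444c45122212224445445922232244445c46122252264446446922272284446c471222922a44474479222b22c4447c481222d22e44484489222f2304448c49122312324449449922332344449c4a12235236444a44a92237238444ac035223923a440680ed223b23c444b04b5223d23e444b87a0623e1ef607a83bd21ef1f0443c03c521f11f2443c83cd21f31f4443d03d521f51f6443d83dd21f71f8443e03e521f91fa440543e921fb1fc443ec3f121fd1fe443f43f921ff200443fc01d22012024440040522032044404c0412205206440904092207208440a8149220920a44094145220b20c4409c155220d20e4413c76182100284883c84081e42104440c84031b91e4188403ac41eb1eb285787ad01eb1eb084d03a921eb1ec443ac7a0a1ec1ea4439038d21e9005487a037c61e71b4187986d031e51e4440186e031e40b34870475510c71d52470470401d41d50875475411d507e5c75475981b81b95c75c32121d61d81c76875d10c90114876076510160124876876d10290534877077510260ca4877877d10cb0cc487806f431e11e14433433921e21e34433c6ec31e31b5146ec6ed10af,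
  nat_lit 0x34b3cd2cd31034c34d3cd34d39034e34f3cd3c0ad002b0423c108d4103503513cd44d49035202b500ac109304235050d40d45335135250d480ada02b04264108d41a35035164d44d49a35235364d4cd4d33533533cd4cd4c135301418d4cc40830f30e1cc38c34830d30c1cc30c2c830b30a1cc28bf1730830814590c28416416400c24c0c430330328528c0c90c814918c0c58c530730620534c18616230760becbe5730631608c58c58131631504c54c54231531208c48c44231131008c40c3c230f30e08c38c48131231104c44c40131030f04c3cc38130e30d04c34c34230d30a08c28c24230930a04c28c24130930804c20c2023083060cc0cc0c230330300c14c14230330304c0cc0c03040ca20c9c60c732632238c88c8cd32332438c90c94d32532638c98c9cd3273273cc9cc9d332732764c9cc9c132732804ca0ca1a32832850ca0ca1130032840ca0ca0e32832820610ca070cc15724ca04c062fd13118bfcbf861302ff4855c01112fe06138184185006106150184185a06102f040bc0bd902f02f4c0bc0bcf02f02f340bc050a02f2fc1457cbf061872fc1c61cbed92fb18620bec61862fb15e14bec05190140144c050050f0140143405005010140140c050be812fa2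fa54be4be962f92fa30be4be871042fa20558be8609b2fa1441028c32fa18520be4be451852f920338be5a2f92f950be4be502f92f938be4be412f90d214be4bc171db1dc60bc4bc5127427548bc8bcd12761de60bccbd171df1e060bd4bd5127827948bd8bdd127a1e260bdcbe171e32ea0cbe0ba971bb2ea18b989b522ea26c48ba4ba892e92e900bacbad126c26f48bb0bb171bd1be60bb4bb402ef2ee5c6fcb9c82ee2ef2079cbbd71be1e718bbc9ad22e82e85c6e4b9492e71e728b9c6e182e72e64498c57052e62aa1cb90b8472a60cb089d09cc20cc15408b74b74c2732dd04b74b75627327454b789d0b2de14f60b74b79715027458b78b7d527527658b8054582df2e05c5489d952e02e1589dc9e152e215360b84b8971542e318aa855582e32a820b889c432e327c20b8cb8c82a92a918b90a1c22da13160b64b65626626754b68b6922dc26758b68b6d52682da5c4c84cd82db2dc5c4d0b7152692dc589a456892dc10460aa8aad710510660ab0ab5710710860ab8abd710910a60ac0ac5710b10c60ac8acd710d10e60ad0ad5710f11060ad8add711111260ae0ae5711311460ae8aed711511660af0af5711711860af8afd711911a60b00b05711b11c60b08b0d711d11e60b10b15711f12060b18b1d712112260b20b25712312460b28b2d712512660b30b35712712860b38b3d7129,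
  nat_lit 0x3a84802cbf493a71e628e9c28113a71b848e9c6d522fe2ff44d50561213113244900e98a1e81b648e986dd20080a34479826461e60d5480081f920991e600d6400801e5099006d026001b307d00e881f803a30d500e90e9841b71b700e94e99200f0080ce98620837735618e845ac7369367205a85a47366365205a059c736436320598594736236218594d80316516500d84d7c814e36060d5c55d735f14c20d7c588635f14c14d7cdbc236f36f04dbcdb8136e36e08db8dac236b36a08da8da4236936808da0d9c236736b04dacda8136a36904da4da0136836704d9cd98136636608d98d8c236336208d88d8c136336204d88d84136136108d840c0d030065381941ccd0730473811c084d02104638118188d06237638dd818cd06306d381b41a0d0680303c0c019500650733c1cc11d00470213c08411900460623c188dd903760633c18c1b5006d0683c1a00c13030065501941cd30730475011c085302104650118189306237650dd818d306306d501b41a13068030640c0195a065073641cc11da04702164084119a04606264188dd9a3760636418c1b5a06d068641a01b4106d068041a00c41031031680c40c54031031400c40c4e0310ce240c405c101735a04d68d6860020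9918d6428d13590173405cd6ce35b35c34d70d74e35d0173c05cd6d035b35c3cd70d75035d0174c05cd6d435b35c4cd70d75435d0176405cd6da35b35c64d70d75a35d35e04d78d79935e35e4cd78d78f35e35e34d78d58a35e16560d60a2553582892cd60a24c3583581857cd60832a3291cd5c578635735664d58d5933563563cd58d58d35635604d58d583356355209e4d54515a2630cd54d5081e1354145606d4335432a1461c618532935204d48108e04202b340acd3ce34f34e34d38d34e34d34c34d30d2ce34b34a34d28d24e34934834d20d1ce34734634d18d14e34534434d10d0ce34334234d08d04e34134034d00cfce33f33e34cf8cf4e33d33c34cf0cece33b33a34ce8ce4e33933834ce0cdce33733634cd8cd4e33533434cd0ccce33333234cc8cc4e33133034cc0cbce32f32e34cb8cb4e32d32c34cb0cace32b32a34ca8cbc132f33008cc0cb4232d32c08cb0cb4132d32c04cb0cac132b32a04ca8cac232b32a08ca8ca4132932938ca455093293293cca4ca9032a32b3ccaccb1032c32d3ccb4cb9032e32f3ccbccc103303313ccc4cc903323333cccccd103343353ccd4cd903363373ccdcce103383393cce4ce9033a33b3cceccf1033c33d3ccf4cf9033e33f3ccfcd0103403413cd04d0903423433cd0cd1103443453cd14d1903463473cd1cd2103483493cd24d29034a,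
  nat_lit 0x1110087840002021100087404d20131010080c055201510f0087004120100130081005401fa10e0086c0912024010008143e401f910d0086809002060f8007e0430021902a480a840802070f7007dc42c0218052481480a802080f6007d842802170254809414802090f5007d4424021605148144094020a0f4007d009910260534414c42002150274809c144020b0f3007cc09803cc00d480340a5102905300f2c41c02140554815409c020c016440583c801f20ca00f34069201a00d008e4049101202900f2814c01dc1060084c045101104f4813c154020d01600f203c401f100c480302bd20af00a48028c0070cc0cb00f3833910ce03b480ec068023a01200f240a401db27400bc441121041050084804403c7028480a013c020e016007642cd20b30c8483202c520b100b4802c02520090f0007c033520cd0044801003001bd0af006ec00d200300a006e855c93001841cc00c9c63000cc00f3c33803d103b008ec04801da27300bc04100211011007600a0020f1560098831d20c70b30070400120000c80075828120a00b1006fc02c01b90a34828c02401be0ef007bc39120e40cd0078401001b5003005649a032672da28568c0003280cd00f4033c03d200f4803c014900f1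610803c4b5212d12c008f001920061550098440c02100c7007540052001000001f428001b80a30035802110080e4007a855c03540790035c00980dc2872437005ca2fa00214be800860060020c00499c026915e2802003c30081602838c4c890e30020838c56802d90025834800950d2002303484c8a0d21602434855c02ff15d244cc3ac213300544014008400500f006d84b9212e12d008f4009100200600790004007e008006dc38c01e90d2005603b580020dc00998be8035a00600f4c00400990080026838c03d50d2004c43a840eb133008fc01403d41b600e984b8023e002003544c802400020026c57890ea132004d03ac03d7005007a03a803d60ea007ac3ac01ec3d6107b0f5822400ea44f584cc23d73d7483acf5d11ec3d7103a8f50a3d716028f544c893d500544f50f50900f1e848f50f5033d43d14833833513d03001cf3cf3d20cc0cb44f38f3520ca02644f30f2d205302944f28f2520123c84805804513c73c648324ea173c63c71cf24f1911d71d848f1cf2111d91da48f24f2911db1dc48f2cf3111dd1de48f34f3911df1e048f3cbfc83d03d04478478923d13d24478cf4852ff3aa0cf48bf853aa3aa446ec6e923a93a900eac02913ab3ac48030eb963ac1ba48eaceb111bd1be48eb4eb403af3ae482c4eb911bf3a720eb8ebc81e63af48024ebd11be1e618ebcea111b9,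
  nat_lit 0x608f64f6091613d8284cc38c43d82fb2805c580416130128d58185106102f480bc051101435348d4cd49135235148d44d411350042481080ad102b34f48d3cd39134e34d48d34d31134c34b48d2cd29134a34948d24d21134834748d1cd19134634548d14d11134434348d0cd09134234148d04d01134033f48cfccf9133e33d48cf4cf1133c33b48cecce9133a33948ce4ce1133833748cdccd9133633548cd4cd1133433348ccccc9133233148cc4cc1133032f48cbccb9132e32d48cb4cb1132c32b48cac0c51031068481a01b5106d0634818cdd913760624818811910460214808411d1047073481cc1951065030480c0dd5137537448dd0dcd137337248dc8dc5137137048dc0dbd136f36e48db8db5136d36c48db0dad136b36a48da8da5136916b485ac5b1116c16d485b45b9116e16f485bc5c11170171485c45c91172173485cc5d11174175485d45d91176177485dc5e11178179485e45e9117a17b485ec5f1117c17d485f45f9117e17f485fc60111801814860460911821834860cc9d232732644c98c95232532444c90c8d232332244c88c85232132044c80c7d231f31e44c78c75231d31c44c70c6d231b31a44c68c65231931844c60c5d231731644c58c552315314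44c50c4d231331244c48c45231131044c40c3d230f30e44c38c35230d30c44c30c2d230b0174405cd6d235b35c44d70d75235d35e44d78d5923563a144e84e8123a039f44e7ce79239e39d44e74e71239c39b44e6ce69239a39944e64e61239839744e5ce59239639544e54e51239439344e4ce49239239144e44e41239038f44e3ce39238e38d44e34e31238c38b44e2ce29238a38944e24e21238838744e1ce19238638544e14e11238438344e0ce09238238144e04e01238037f44dfcdf9237e37d44df4df1237c37b44decde9237a37944de4de1237837744ddcbf122fc30844c20c29130a16448590595116532a44ca8d61235828944a24a29228a28b44a2ca31228c28d44a34a39228e28f44a3ca41229029144a44a49229229344a4ca51229429544a54a59229629744a5ca61229829944a64a69229a29b44a6ca71229c29d44a74a79229e29f44a7ca8122a02a144a84a8922a22a344a8ca9122a42a544a94a9922a62e144b84b8922e22a844aa0aa522a92e444b90aa922aa2ab44aacab122ac2ad44ab4ab922ae2af44abcac122b02b144ac4ac922b22b344accad122b42b544ad4ad922b62b744adcae122b82b944ae4ae922ba2bb44aecaf122bc2bd44af4af922be2bf44afc46521191190089846002251170089045802231150088845002211130088001d20071120087c01c0201,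
  nat_lit 0x4244d090fdd93f73f868fe0fe593f93fa68fe8fed93fb3fc68ff0ff593fd3fe68ff8ffd93ff4006900100594014026900900d9403404690100b9902e4056901501994064076901d021940840969025029940a40b6902d031940c40d69035039940e40f6903d04194104116904504994124136904d05194144156905505994164176905d061941841969065069941a41b6906d071941c41d69075079941e41f6907d08194204216908508994224236908d09194244256909509544254254909509504254253909509484254250909509414250e411094c1cb3ea30730fa8c7043f601808f94f94e3e53e504f94f9813e606c041b0f98d3e606c381b0114d0453e738f9c11410453e704f9c138104e05804160138d04e058381601a8d06a06a041a812c104b04b3812cfa0d3e83e540f94f98f3e606c401b0114f0453e740f9c138f04e058401601a8f06a04b4012cfa0f3e83e548f94f9913e606c481b011510453e748f9c139104e058481601a9106a04b4812cfa113e83e550f94f9933e606c501b011530453e750f9c139304e058501601a9306a04b5012cfa133e83e568f94f9993e606c681b011590453e768f9c139904e058681601a9906a04b6812cfa193e83e804fa0fa451843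e904fa4fa5a3e93e950fa4fa523e93e940fa4fa4e3e932724fa408c60eb019183a83ac03e10ea00f80f78a35730008f78f8c230135e2cf8cd78c3e335e54f8cf7c13df01904064f8013e03e104f8408c102303f040fcf8813e23df34f7c064e0193e034f80f84e3e10233408c0fce03f3e234f8806500193e03cf80f8503e10233c08c0fd003f3e23cf88f78f3de01948064f8113e03e148f8408d102303f480fcf8913e201950064f8133e03e150f8408d302303f500fcf8933e23e350f8cf8d23e33e340f8cf8ce3e33e304f8cd7963e301964064f81a3e03e164f8408da02303f640fcf89a3e23e364f8cf91a3e43e454d58f9163563e42cd58f90c3563e310f7801843e418208f70f7082743da086109cc73da05a381680f4d03d05a041680f4103d3dd04f74f74e3dd3da3cf68f6d03db3dc3cf70169005a03d3c0f4f7503dd05a481680f5103d3dd48f74f7133dc05a501680f5303d3dd50f74169a05a03d640f4f75a3dd01b204b806d901b01b4c06c06d101b01b3c06c06cd01b01b0406c4b8601b02d0c0b40b4102d02d380b40b5002d02d480b40b5402d02d680b40f1903c03c4c0f00f1103c03c3c0f00f0d03c03c040f04b4603c01804060060d0180183c06006110180184c0600619018034680d00d14034034480d00d10034034380d00d01034017140d0a2433d93d928c00f655357,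
  nat_lit 0x3a040e9098803a03a200e40dda037037500dc0dd2037037400dc0dce037037040dc0e45037019290ad0a8142a300550a8c01642a42a410a90a8e42a3002d0a8c00c42a154210a80a0742a42a280190ac142b42b410ad0ace42b426250ac0e5a039039500e40e52039039400e40e4e039039040e50987039267190a4568a42842854a1c99c24284275806109d50181321909c088102202234088088f02202244088089302202264089098a3df42669099099442642649099099042642639099098142600815098f9073f73f704fdcfdc33f73f908fdcfdc03f841e11071070041d41e0907907c141f4200508107c241f4200908108c14234240509108c242342409090fdcd3f73f838fe0fe4d3f93fa38fe8fecd3fb3fc38ff0ff4d3fd3fe38ff8ffcd3ff40039001004d4014023900900cd403404390100b8d02e40539015018d4064073901d020d40840939025028d40a40b3902d030d40c40d39035038d40e40f3903d040d41041139045048d4124133904d050d41441539055058d4164173905d060d41841939065068d41a41b3906d070d41c41d39075078d41e41f3907d080d42042139085088d4224233908d090d4243f73cfdcfe103f83f93cfe4fe903fa3fb3cfecff103fc3f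d3cff4ff903fe3ff3cffd00104004013d00500904024033d00d011040402e3c0b901504054063d01901d04074083d021025040940a3d02902d040b40c3d031035040d40e3d03903d040f4103d04104504114123d04904d04134143d05105504154163d05905d04174183d061065041941a3d06906d041b41c3d071075041d41e3d07907d041f4203d08108504214223d08908d04234243d090fdd13f73f848fe0fe513f93fa48fe8fed13fb3fc48ff0ff513fd3fe48ff8ffd13ff4004900100514014024900900d1403404490100b9102e4054901501914064074901d021140840949025029140a40b4902d031140c40d49035039140e40f4903d04114104114904504914124134904d05114144154905505914164174905d061141841949065069141a41b4906d071141c41d49075079141e41f4907d08114204214908508914224234908d09114243f74cfdcfe143f83f94cfe4fe943fa3fb4cfecff143fc3fd4cff4ff943fe3ff4cffd00144004014d00500944024034d00d011440402e4c0b901544054064d01901d44074084d021025440940a4d02902d440b40c4d031035440d40e4d03903d440f4104d04104544114124d04904d44134144d05105544154164d05905d44174184d061065441941a4d06906d441b41c4d071075441d41e4d07907d441f4204d08108544214224d08908d4423,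
  nat_lit 0x45039141144d4514523914914cd4534543915019cd06706b381ac1c8d07245539155158d4564573915d160d45843e3d0f90fd043f4403d10110504414423d1080e100380333c0cd10d04434443d11111504454463d11911d04474483d12112504490693c1a5129044a44b3d12d131044c44d3d135139044e44f3d13c179005e0573c15d14104504513d14514904524533d14d15104540673c19c1ad006b0723c1c915504554563d15915d04574583d1600e12038033440cd10d24434444511111524454464511911d2447448451211252449069441a5129244a44b4512d131244c44d45135139244e44f4513c179205e0574415d14124504514514514924524534514d15124540674419c1ad206b072441c915524554564515915d2457458451600e140380334c0cd10d44434444d11111544454464d11911d44474484d12112544490694c1a5129444a44b4d12d131444c44d4d135139444e44f4d13c179405e0574c15d14144504514d14514944524534d14d15144540674c19c1ad406b0724c1c915544554564d15915d44574584d1600e1a038033640cd10da44344465111115a4454466511911da44744865121125a449069641a5129a44a44b6512d131a44c44d65135139a44e4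4f6513c179a05e0576415d141a45045165145149a4524536514d151a4540676419c1ada06b072641c9155a4554566515915da457458651611641459459691651654459459491651650459459391641249459437050dd0e01438439050e50e0e438439350e50e8e43a43a050e90ec203443b050ed0eca42743b350ecf94a43b12e0c038038100e00e380390b8d42e42f390bd0b8142e42f050bd0c01430430350c0039000e42e3d0b90bd042f4303d0c0039200e42e450b90bd242f430450c0039400e42e4d0b90bd442f4304d0c0039a00e42e650b90bda42f430650c10c5a431431510c50c52431431410c50c4e431430100d10c41431018110c40d08035035340d41b8e06e064341901c4e071066341980d4103506e041b81901064071041c41981066075041d41d4e0750353c0d41b9006e0643c1901c500710663c1981d50075035440d41b9206e064441901c52071066441981d520750354c0d41b9406e0644c1901c540710664c1981d54075035640d41b9a06e064641901c5a071066641981d5a0750492008812590490494c12412510490493c124124d0490490c0e4124104902218124121a04804850120121204804840120120e0480480412008840480181c0d80d87037036040d80d8d0360363c0d80d910360364c0d80d990360371c0600e9a03a03a500e80e9203a03a400e80e8e03a,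
  nat_lit 0x4d381340dc304d04d04135220804d04d20130129a04a04a50128129204a04a40128128e04a04a0c0e8128104a04c1412808ca48d01d040746c8248c01d68074075401d01d48074075001d01d38074074a12e48d41235220948d48b0857522c415e48b1d22c03c948b04c68130131404c04c48130131004c04c38130130303604c04131220704c26819229225502248930089224148913319225221a48848851221221248848841221220e4884880522003c54884870521d21da4874875121d21d24874874121d21ce4870220921d0c4745a45a05168110d044468391a11a4d46946a391a91acd46b46c391b11b4d46d46e391b91bcd46f470391c11c4d471472391c91ccd473474391d11d4d475476391d91dcd477478391e11e4d47947a391e91ecd47b47c391f11f4d47d47e391f91fcd47f48039201204d4814823920920cd48348439211214d4850443c1111a104684693d1a51a9046a46b3d1ad1b1046c46d3d1b51b9046e46f3d1bd1c104704713d1c51c904724733d1cd1d104744753d1d51d904764773d1dd1e104784793d1e51e9047a47b3d1ed1f1047c47d3d1f51f9047e47f3d1fd20104804813d20520904824833d20d21104844853d2141111044468491a11a5146946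a491a91ad146b46c491b11b5146d46e491b91bd146f470491c11c51471472491c91cd1473474491d11d51475476491d91dd1477478491e11e5147947a491e91ed147b47c491f11f5147d47e491f91fd147f4804920120514814824920920d14834844921121514850444c1111a144684694d1a51a9446a46b4d1ad1b1446c46d4d1b51b9446e46f4d1bd1c144704714d1c51c944724734d1cd1d144744754d1d51d944764774d1dd1e144784794d1e51e9447a47b4d1ed1f1447c47d4d1f51f9447e47f4d1fd20144804814d20520944824834d20d21144844854d2141119044468691a11a5946946a691a91ad946b46c691b11b5946d46e691b91bd946f470691c11c59471472691c91cd9473474691d11d59475476691d91dd9477478691e11e5947947a691e91ed947b47c691f11f5947d47e691f91fd947f4806920120594814826920920d948348469211215948548669219219448648649219219048648639218f944486038040e1099744244205109108643c4400d0f10f0044100f5d1011001440440110f10fc143f43c2458c3b4943c43e283b90f8443f43f605850f8143e1605d0f90f8243c43c050f10f0043d038380e00ccd0334433910d110d44444539115118d4464473911d120d448449391241a4d06944a3912912cd44b44c39131134d44d44e3913913cd44f05e3817815cd057,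
  nat_lit 0x4ef2cd6cd70c4f0017553b93bd635b35c553c005d64ee4ef54d6cd7164f04f154d753c5635d4f12cd74f8c34f10481d3013b42048487113b528c14a34885d28928814a2074381d1290d4a44a539295298d4a64a73929d2a0d4a84a9392a41d8d0764aa392a92acd4ab4ac392b12b4d4ad4ae392b92bcd4af4b0392c12c4d4b14b2392c92ccd4b34b4392d12d4d4b54b6392d92dcd4b74b8392e12e4d4b94ba392e92ecd4bb4bc392f01d100744a43d29129504a54a63d29929d04a74a83d2a12a504a90763c1d92a904aa4ab3d2ad2b104ac4ad3d2b52b904ae4af3d2bd2c104b04b13d2c52c904b24b33d2cd2d104b44b53d2d52d904b64b73d2dd2e104b84b93d2e52e904ba4bb3d2ed2f104bc074481d129114a44a54929529914a64a74929d2a114a84a9492a41d910764aa492a92ad14ab4ac492b12b514ad4ae492b92bd14af4b0492c12c514b14b2492c92cd14b34b4492d12d514b54b6492d92dd14b74b8492e12e514b94ba492e92ed14bb4bc492f01d140744a44d29129544a54a64d29929d44a74a84d2a12a544a90764c1d92a944aa4ab4d2ad2b144ac4ad4d2b52b944ae4af4d2bd2c144b04b14d2c52c944b24b34d2cd2d144b44b54d2d52d944b64b74d2dd2e144b84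b94d2e52e944ba4bb4d2ed2f144bc074681d129194a44a56929529994a64a76929d2a194a84a9692a41d990764aa692a92ad94ab4ac692b12b594ad4ae692b92bd94af4b0692c12c594b14b2692c92cd94b34b4692d12d594b54b6692d92dd94b74b8692e12e594b94ba692e92ed94bb4bc692f12f594bd4bd4d2f52f514bd4bd3d2f52f4d4bd4bd1115d2fc14bf4bf412fd2fce4bf036252fc075549901d59264074b49901d31264100104004034101268e49a49b3526d268149a49b0526d270149c05c04171270e49c05c341700b0e02c49d352740b0102c49d05275278149e49f0527d278e49e49f3527d280e4a00403c101269049a49b3d26d271049c05c3c1700b1002c49d3d275279049e49f3d27d28104a004044101269249a49b4526d271249c05c441700b1202c49d45275279249e49f4527d28124a00404c101269449a49b4d26d271449c05c4c1700b1402c49d4d275279449e49f4d27d28144a004064101269a49a49b6526d271a49c05c641700b1a02c49d65275279a49e49f6527d281a4a04a00528128424904a105285284a4894a16528528534a14a145285284f4a14a13528521ca4a10751d2412401490490190b90b8049100e01248014049300201250be8049549818d6c05c049635b0125d2604490048292610c4648f0491c128128702204d68134135404d04d48134135004d,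
  nat_lit 0x51f54dfcdf9651e51d54df4df1651c51b54decde9651a51954de4de165182fc5945945d537751730ddd45871061072145cbf1551651758ddcde1551851958de4de9551a51b58decdf1551c51d58df4df9551e51f58dfce01552052158e04e09552252358e0ce11552452558e14e19552652758e1ce21552852958e24e29552a52b58e2ce31552c52d58e34e39552e52f58e3ce41553053158e44e49553253358e4ce51553453558e54e59553653758e5ce61553853958e64e69553a53b58e6ce71553c53d58e74e79553e53f58e7ce81554054158e84f9065410682d44c1a0c5133762d441444b0633763144143cb06204631438118b50e50d3008411cb50c50d2c08411cc50c50b2c1cc194c50a0652d429424c0303752d421424b0303753142141cb37437331418dccb50650530dc8dc4b5043713141140cb37037029408dbc95033702d40d408c36f36e2d405408b36f36e31405400b36d36c313fd400c36d36c2d3fd3f8c36b36a2d3f4da8c4fd51054dd8189650f50e54118085650d50c5411c1cd650b50a541940c1650950854dd4dd1650750654dccdc9650550454dc4dc1650350254dbcdb9650150054db4db164ff4fe54dacda964fd4fb30da13e4c3664f72cd913dcc3640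11213c804874f20ed193c804454f24f2600193c814f23d95d3ccd80b4f30ee193ccd88b4f5362313d53d460f04f30c3c03c004f44f558d88d8d54f63632d3d83c074f54f6203c53d55362363593d93e553664f754d90d9564f83652d3e03c874f74f8203cd3dd6364365553e13e56366367553e8d9cb4fa0f41d3e53e880f54fc54da53f0b3694fc30da43d874fc4fc58da4da954fd4fe58dacdb154ff50058db4db9550150209409408150250258dbcdc1550350458dc4dc9550550658dccdd1550750858dd40c1550950a581941cd550b50c5811c085550d50e58118189550f51058dd81a1551306355445449606d5122c1b544890375121c0d40d07512063594453c8d4f24f3393cd3d0d4f44f5393d53d8d4f64f7393dd3e0d4f84f9393e53e8d4fa4fb393ed3f0d4fc4fd393f53f8d4fe4ff393fd400d50050139405408d5025033940d410d50450539415418d5065073941d420d50850939425428d50a50b3942d430d50c50d39435438d50e50f3943d440d51051139445448d51250941425428f50a50b4142d430f50c50d41435438f50e50f4143d440f51051141445448f5125134144d44ce513512541b41a16513514540c545160315142c0c5450c0315142005c558951406d20f980d153e603458f980d0b3e603430f98f9864ee031213b805094ef017313b805cb4ee4ef30d6cd70b4f0,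
  nat_lit 0x54961548cacc55432b2d550cad655432b555515605291568055a15a8256a5670959d59c15675660559959415655660959959425655620558958415615600558157c155f5620958958425615600958157c255f55e09579578155e55e20a5907c855e2951d575574742055c20a51084855c55b1d089568829242321568a4475595591ca40a3885585571ca34a3085565551ca2ca2885545531ca2554881065521d45954d632a55354ca954cc32a1061954d50c7553571055c416cd05b056381595c0d570571395c416cf05b056401595c0f570571415c416d105b056481595c11570571495c416d305b056501595c13570571515c416d905b056681595c19570571695c55c995725724d5c95c915725723d5c95c8d572572055c8fdc6572372205d03f87505503203f4dc0817341f1ca58a5484200fc2140940470fb36f1c5c85c4836e36d1c5c05bc836c4ff1c05508472942932108908c729229120a403e484fe0f71c3e05b4816c5026107d08175015006108508974ff4fe6108cdac416c367185a908c429016b1c5ac5b0036a4fe103dc5a803684fa183d553864fa28f1ca3ca4004240e410a3c590416b30b0c5ac5ac03690f7013f43bc40f60f5013ed3e8054f28f010945ac030a0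f6015443d804fc4fb015403bc44fc4fc0154552464f55470d3d53d405485425d51d3cc75474f31951d540754f4f91552952c54f84f71953153464f655161095544c30a551215443bc4551545213c13c4854654441511514f54554641518150105405464150151305405444150150f0540543415015073e33f728150a2455434f56150d50c828918425508f6475423f911508e68b53a39a314e94e4b399398314e14e4c3993982d4e14dcc3973962d4d8e58c5365352ce54e50c5343942d4d14ccc3933922d4c8e48c5325312ce44e40c53053130e44e40b53052f30e3ce38b52e38e314b94b4b38d38c314b14b4c38d38c2d4b14acc38b38a2d4a8e28c52a5292ce24e20c5283882d4a149cc3873862d498e18c5265252ce14e10c52452530e14e10b52452330e0ce08b52238231489484b38138031480e00b52051f30dfcdf8b51e51f2cdfcdf8c51e51d2cdf4df0c51c51d30df4df0b51c51b30decde8b51a37a31469464b37937831461464c3793782d461454c2fb3ea614553b895155152cbecbf0c5162fc2d45945850e451618418e69653a53954e64e61653853754e5ce59653653554e54e51653453354e4ce49653253154e44e41653052f54e3ce39652e52d54e34e31652c52b54e2ce29652a52954e24e21652852754e1ce19652652554e14e11652452354e0ce09652252154e04e016520,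
  nat_lit 0x3325569969563313305569168d632f32e55689685632d4201547146c542142219469464642342319680cb155a032c59680cb0b5a032c3168168065545540167d674355355301678b74a59d32955675508759d59d28331675059d59e3d67967d059f5a03d68168505a15a23d68968d05a35a43d69169505a55a63d69969d05a75a83d6a16a505a95aa3d6a96ad05ab5ac3d6b16b505ad5ae3d6b96bd05af5b03d6c16c505b15b23d6c96cd05b35b43d6d16d505b55b63d6d96dd05b75b83d6e16e505b95ba3d6e96ed05bb5bc3d6f16f505bd5be3d6f96fd05bf5c03d70170505c15c23d70970d05c35c43d71171505c55c63d71971d05c75c83d720d4955c85c958d4d5cc65c93242d665668b32532431665660b3233223165d660c3233222d65d658c3213202d654c80c5955942cc7cc78c59359430c7cc78b59359230c74c70b59131c31645640b31b31a3163cc68b58f58e30c64c60b58d31831635630b3173172962cc58958c58b2cc58c5cb58c58b30c58c54b58a58930c51624b3143133162161cb31258730c48c44b58658530c41614b31030f3161160cb30e58330c38c34b58258130c31604b30c58358c38c35558258158c3166553243235966165d53223215965965553203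1f5965164d531e31d59649645531c31b5964163d531a3195963963553183175963162d53163155962962553143135962161d531231159619615531030f5961160d530e30d59609605530c30b59600c2d558030b316015f485495165d5f4c20b57d5800c3d95f450ef0f6015fc3bc057e578283215e0914a5781431d5e04578303555e15ed630657b30c195ec801657b183b55f433ea57b08fa8fa8057c2fa5d5ed5ec3578578015e55ec3579579095e55e4057a57d095f55f4157d57e055f95fc157f57e095f95fc257f5820560960c15835820960960c25835802160160475815822160960c758358409611610158458521611611630f5850961561415853105561561963113125561d621631331455625628258a58a05629629631558b0962d62c158b3165562d631631731855635639631931a5563d641631b31c55645649631d31e5564d651631f3205565565963213225565d66163235923564964ce59359435651654e5955963565965ce59759835661664e59959a35668c91559959a58c94c99559b3262d66d66c804f59c1c549671532759c58c9d671059c59c2cc9d670c32759c056710a8559c0612d5d95d4c3023012d5d0c04c57457428f90c05557457558c08185557602f08d6d5dd602f577300bd5dcb02f573295dc0516573014555cc050c5730142d5ccd6ca573573055cd5cc3573,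
  nat_lit 0x549203f03ec754a37e18de4dec337837900df5478651950230c2140ca30817220c2106c328f37800df108055185190147546c351830800dbd52475020ef19408fa8350241f14390a3c041c3772d081460051c0fb6041d57481072940c41d408057d0e401078418541f4200145c3f181062972441841c02955601150d07c051610600a5950c055f55d11549548055e54a61575571754b5012152952c750054c200553fc854c54d1d3f9531855b55a5d535539855954d203e553870f70f81d539774816d5dd1c5b05b465dc54e59775538c5dd5e52459459405e41660178c59c05e2168017845a405e05dd18d9c5a805df3670177977083673661d76c5a085da5da20d9576471673641d76576083635d71c594d8875d75d618d8952565d654931759524b5d630821758ca975d75d66173172d75d55d12852d74490c93032174452c55d15d10c535754214d14d0175175035d15d10174d74c25d15d1017481b085f50681d7d17d891055f6200c57d874ee185257d8fe4a5cd5cd08150c0485cd5ce1cc0818475cf5d0200bd728a5d032a1973154965cc55255731548c5cc5522d73061c75cc5cc1cbf145095cb2fb2172d72995ca02d597280b555ca5ca4d72972915ca5ca3d729728d5ca0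2d31729510a5ca0142172972835ca5c52c109714c04202b2d71170cc34f02b3171170cb34f34e31709704b34d5c130d34d30b5c05bf30d2d6fcb34b34a316f96f4b34934a2d6f96f4c3493482d6f16ecc3475bb2cd1cd18c5ba5b92cd156e4c3453442d6e16dcc3435b72cd0cd08c5b65b52cd056d4c3413402d6d16ccc33f5b32ccfccf8c5b25b12ccf56c4c33d33c2d6c16bcc33b5af2ccecce8c5ae5ad2cce56b4c3393382d6b16acc3375ab2ccdccd8c5aa5a92ccd4cd8b5aa5a930cd4cd0b5a85a730ccd69cb33333231699694b3313322d699694c3313302d69168cc32f3303169168cb32f32e31689684b32d32e2d689684c32d5c5541080ad65c45c354d3cd3965c25c154d34d3165c05bf54d2cd2965be5bd54d24d2165bc5bb54d1cd1965ba5b954d14d1165b85b754d0cd0965b65b554d04d0165b45b354cfccf965b25b154cf4cf165b05af54cecce965ae5ad54ce4ce165ac5ab54cdccd965aa5a954cd4cd165a85a754ccccc965a65a554cc4cc165a45a354cbccb965a25a154cb5715604202b5571170d634f34e55709705634d34c557016fd634b34a556f96f56349348556f16ed6347346556e96e56345344556e16dd6343342556d96d56341340556d16cd633f33e556c96c5633d33c556c16bd633b33a556b96b56339338556b16ad6337336556a96a56335334556a169d6333,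
  nat_lit 0x64710df9914337e37e0191991d55665675992159cc6486485cd9959d5648649595a0fed564a3fb31928d95864964a5cd90d8d864b5605592d580c64b64b11889888064c6210193594056200cf019395bd665056f31941880064f6500195594406546520994994806536535815816d5654655595bd955556f6552d5bd88066556272d5285c476276275552952d662854b318a18a0736d36c218a45bc7629629595318a4c54c62814d94d90662962a18d8d8a9554d62a2d5358a8736b5dd118a9510b623623280b551966255445988d89155456243151588c835b35c1d891511562362459515894735d54655895899605462654151898b0546261cd79880a6265a11d48148485a038020cb4cb07381381197e150d562254331888d6056225cc1988988973623da298840a0962159161885508c62135719884fdd66203f755880fdcc6205cd29880d5876206200d88059985f728a317dca28b5f732b1d7dc174e05d05934165870e61c61d35875878e61e05d40174164f05961c41871874f61d61e41878175205d05944165871261c61d45875879261e05d50174165305961c51871875361d61e51878175a05d05964165871a61c61d65875879a61e61f6587d87d361f61f4587d87cf61f6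1f3587d728661f5d860cacc89817f1805cc8409575975966014409d759559460154609731f31e6060c611731d31e04c78c74131d59205649649802831d2853004495925d515645644336259108530d80759158a285c45c4a3150fb24c54c54417317300c58c6060fc37028c6140c93180fc20c6152473180fc00c5d40443183ea0cc60c60050231b58d803bc0319360016403b8031a0f00cc6d3c8231b5425cc70c6c731c31b013cd3d4331c01108c70c7005474f710fd4fd044f84fa0cfc8fc430f53f220fc506d73f03f01cfc03d833f058108fc0fc005800f70cfbcfb444ff50010fb00b8102e4040501100c140340205008ff024014010500500465685660d004ffc456456310ff8ff035614f760fed58033fb56808fecfec05695611d47c1582056056015c016c105b3f7195bc16c057156f015c8fdc056e103015b5508056c4f661581550856055a1958150c056b5690d581580056a554215a95a8555a55b155a53d9856a5695d3dca2c756956820a3159c755728d1d59d3e185685675d3e55a0655c55d1959d598451e5640d479478056551a1959158c551b51815589038612a12a0103c4ac041000d01044068041203b0104c4b0041412d010544b804160050105c01404183d801065601841b41b1d06ce00532b55419480ddd736e171606203f05502308185c975c51721875c5c85c875d6,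
  nat_lit 0x6a801aa9aa826a86a801aa515c86c66c605b19b1c16c76c741b1db1ce6c76c71d16412896c757621a99a9c75776a329a9da8d96a36a34da8da8d16a36a33da8da8cd6a306029a8c0b486a35731da8da8c36a36a105a8410ce04301f3407da7ce69f6a035a81a84e6a10434010c07cf01f69f41a7da80f6a06a141a8410d204301f4407da7d269f6a045a81a8526a10435010c07d301f69f51a7da8136a06a151a8410da04301f6407da7da69f6a065a81a85a6a16a265a89a8936a26a245a89a88f6a26a235a89a8816a265619a899c075e74f5259bd794866f66f24d88d88066e363019b4d90066c365019acd98066a367019a577406685dc0199c5b4066616e019945bc06641700198c5c406621720198575c06603295d97c528865b14b1d96d744565b65b0c53997c214e14e01979978365b65b01975974265b65b019701dcd0770773c1dc1dd10770774c1dc1dd907767c699f19f1467c67c499f19f1067c67c399f01b0367c5f63195c618a6575141d95d95c70170602188cd6c80606241d961960735c6591d894d7476590600418195c16576573595c180e06065835961964e65906040181960f6586594196418140606584d96196546590606818196196586596996418110606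5849961969965a65a4d969968f65a65a3596996842dd65a20d79958a65a65665959959365665645959958f65665635958d5886566201d95995816566560d958158c6526512c16c15966526515416cdf875f85f92191d7fc85f9647217fd85435fe5fe018517f4061337f018497ec06115fa018417e4060f5f801838e04060d38001830cac060b32a01828ca406090cd01820030060700c018183b006050ec018117fc51881850180c62006001860180861c06016431d7f57f4437f5fb0cdfcdfc05fc5fb1591591065fa5f91990ca3d562b62b2ca3d8e4b558558558e58e965595592d8e98e4c55862b30a3ca38b62c28e318b18b1716a62c218e58ad528f28e598b18b5528d62d2ca35920862d6381d8b58b5628d28c558b8a30c62e6371d8b98b97168167618bca2cc62f6361d8bd8bc35f75f7018c0d600631622018c9730063332a018d18d8332b32b018d576586366395d7718dd75da5db618e155d5638557318e18e08648557598e18e55558559598e98ed555a63a5d7758a9863b641158ed564c63a63b2d5695a0c64955b318f18f4b55c63c5d8a58a1863d63d15925920563e627618f9574c63e1881d8f9908b56137f219098f845cc5cc018fd90446225603190588806406410192d90965615625590d91165636442d58d90c637837b19911911556356459915590c6455642d915598c647,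
  nat_lit 0x38201858628838438301854e1005fe18a217f8cc4818a5a42042042475a564a14cd8cdc66493371c64cfbd85bd41b156f5a00734c34b219fd9f8734a349219f57f88331331198e0d15716f3441d8f58f083453461d8ed8e8834763914d1cd1d716d16c60d218e8734862b18d20d2162905bd0ca40d1cb291290016f0a4405bb3452ca4ca4805ba3440c620a4c05b918800d0ca5005b8107016dc41805b641f016d508005b4518016cd910533c3330ccf146405b233c00ded46805b151b016c064483396450cce546005af56630ce0648833864818ce0ce4037e519016b8ce0064751e016b4cdcb401566016b1584c3353362cff100405ab33501908ff005aa37b0cccd58405a936e60cc9080c3322fc10cc8ccc0378562016a0cc803775180169d69454204200169969066cb3301462842465a45a40d01168824044040168c42c55a218b14cbccb8618c18d18cb506c61181185cfc592081976381c65c3d581175581c45c3d18116197018b559c81165571c45845c028e11600a35588711551921b4db50751851b2100844c83fc4011c44844876ce6cf2044444c55645631844844465621101db40440851e52118441684810d10d18a4845476cb1131db35b3081145201845147851145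fe18658450051f3801865465805fd64518650654037f6441864c65005fb6471c64864c05fa0f16043ca24410f37e1c64464805f910f00a2864405f8190017dc43485203801c638cb0818d18d20e0462c83833821c631484710c5231c42842c85226db0c42042006da5a11443042406d910c01b49b5006d86d60db4db4c06d73fc15b59b5c610c10b19b59010610a4021442842804036d40d009b58240240201b5559866d46d219685b4055a15a101b4558466d351e21b41b40655a6d418425b3cc5ff10719b3db3862946cf1d59900486ce6cd1cff1b30851f56121b31b3052926cd1548948456cc56221b2db2c655d55d01b29b20355255201b240c496c85cb59b2017ce05f6ef35bbdbc0e6f06f135bc5bc8e6f205f4017dbbcf6ef6f041bc1bc4f6f16f241bc817d205f6ef45bbdbc126f06f145bc5bc926f205f5017dbbd36ef6f051bc1bc536f16f251bc817da05f6ef65bbdbc1a6f06f165bc5bc9a6f26f365bcdbcd36f36f345bcdbccf6f36f335bcda8c66f36bd1c3fc3f486bc6bc2552552406bb54a01ae952c06b954c01ae1ad4654e54d01add53806b65585dad5770b6b56ac18fa9ad450f80f801ad03dc06b34fe01ac93fc06b150001ac140406af31801ab9ab030fc0fc01ab5aa055786a82596daa046a85781daa0fa876ac6ab215edaac70166ab14049ab181051045daadaac36a8,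
  nat_lit 0x72e55a39a3d672f73055a41a45673173255a49a4d673373455a51a55673573655a59a5d673773855a61a65673973a55a69a6d673b73c55a71a75673d73e55a7810d673f7405407da7d674101b55a8006cb6a048c1da7da8081b26a0146c9a7d574101b59a81a85574300e1dd0dd0c301b7410806c06c074274318039d1166a26f419d119f0c71b71a2c1dd9ecc7197182d9e99ecb719718319e99e4b717716319e19e4c7177162d9e19dcc7157142d9d9c50c6766752dc4dc48c67467531c4dc48b67467331c45c40b672710319c99c4b70f70e319c1c38b670718599e99e55717716599e19dd5715714599d99d55713712599d19cd5711710599c99c5570f70e599c19bd570d66f31c3596cc6f90c91dbe5aa066f90120dbe5be406fb65b31bec32476fb6a819bedbf4914f59d5dbf5bec30126fd0804804806fc6fd20c713d476fe54915bf954d76fe5d72dbf9ab056fd6fe143f03f006ff0fb01c003e8070101501c083e407030f801c11ad4070554e01c193e807074f901c213e007094f701c29c3494f54f601c2d3d4070c66f59c35c39567067159c3dc41567267359c45c49567467559c4dc51567667759c55c59567867959c5dc61567a67b59c65c69507767c59c6dc71506c7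1c2c1b00d0571c06031bd5bd4854406059bd5bd956586f62d961bd474ef4f021bd951476f66f659961bdc84f16f71d51996556f76f859969be042736f81c151bd0a6f865655bd1958c6f46562dbd1a90a6f43f71dbd1bd016f46f40dbd017c105f6ee05bb9bb8429329301bb4a5006ec10701bac41806ea10501ba441006e800901b9c2c406e60b101b9455406e459d01b8d54c06e255401b8568006e05a101b7c43006de10d01b7568886dc6db1d011690752538520cc18e0638561a0ce14cdc53913911ccf0ccc838e38e18628e40633633c18e6864c539a53c14ff94e843fe19414e64e680644529214e946c653a112154e8ff8053b5620d4e8e64064551a194e444c553953a0158d4e4056451e014e14b405375340cff1004053633518e3ccd40394560194d0ff005353910ce38e3c039353401584e38039252f014cce44b40252e014c842c65303fc154c10080531519214bd584652f53001b594b4c338109154b94bc06d34020d4b8ce0038d6cf1d4b54b806d451e114b5004352d52d01599478052c114014ad4a43115115014a94a46523522154a158c75295282159191473883880c644e14619219100e1c648038652518444440052711101499b3c65241151549042085255241c425868519305904164174105d61b0586d868161a61a20cbccb8761919419865864338038001860e040617,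
  nat_lit 0x12a5dea5ea9812b00d5deadeb1801a03b5deb5eb9812c12d5debdec1812e76519ec1db0776c76c603bc3c1776d76e603c43c9776f770603cc3d17771772603d43d977737731ddcddd48774774603dc3e17775776603e40557777778603e83ed777977a603f03f5777b77c603f83fd777d77e6001c401777f7806040404d7781782600400917783784604080a977857866014965c9786769603b1da475d165b25da50f8b767767603a9d9ca16343e31d9dda0b43f768603add94a76876628325d98914b76660389d9830160c915d98015776544029d9431d775975925d15d14075874501d5dd14075674501d55d14075474501d4dd14075274501d45d14075074501d3dd14074e74511d15d14074d74501d31d14574574c11d15d14074b74b19d15d14074a7450dd15d14074974501d21d20374574509d15d1407467480dd19d18274674601d1dd28274a74b09d2dd28174a74b05d2dd30174c74c09d31d3c274f75009d41d44275175209d49d3c174f75005d41d44175175205d49d4c175375405d51d4c275375409d51d5c175775805d61d64175975709d5dd60275875909d65d68275a75a05d69d68775b0c85dd69d6c275b75b05d6dd6d80c90115dd71d7580160125dd79d7d80290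535dd81d60d75875939d65d68d75a75b39d6dd70d75c75d39d75d78d75e75f39d7dd80d76076139d85d60f75875941d65d68f75a75b41d6dd70f75c75d41d75d78f75e75f41d7dd80f76076141d85d88f76276235d89d8580260ca5dd89d8d80cb7620809814c276376425bf5d9020297646033053897643dd29a7da7c548c6a131d0da7cc74169f2dd05d00c01f0432dcfdd00b01f04331cfdcf8b69e69d31cf5a74b73d73c31a71a6cb73b69b31cedce8b69a69931ce5a64b73973831a61a5cb73769731cddcd8b69669531cd5a54b73573431a51a4cb73369331ccdcc8b69269131cc5a44b73173031a41a3cb72f68f31cbdcb8b68e68d31cb5a34b72d72c31a31a2cb72b68b31cadca8b68a68931ca5a24b72972831a21a1cb72768731c9dc98b68668531c95a14b72572431a11a0cb72368331c8dc88b68268131c85a04b72104355cfdcf9669e69d55cf5cf1669c69b55cedce9669a69955ce5ce1669869755cddcd9669669555cd5cd1669469355ccdcc9669269155cc5cc1669068f55cbdcb9668e68d55cb5cb1668c68b55cadca9668a68955ca5ca1668868755c9dc99668668555c95c91668468355c8dc89668268155c85c81668072031a01700872072055a01a05672172255a09a0d672372455a11a15672572655a19a1d672772855a21a25672972a55a29a2d672b72c55a31a35672d,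
  nat_lit 0xf301ff0fbc0789529015a1ff073f20f318fc952c07e558101fc83c4079919900cdd008041b56814460464028b11801004a2c03fc4f701e49fc860f24f701fa83c407f65db0177045801170f601fc1564055d5dd0189c3dc05010f8003ed524054d116014b53e407904f901e51fc050f40f401f80460028c3f201e44fc007f33f201fac3c8079828c01005e4480f37f3183cc3d007ef0f201fdc3cc07f836600d9c3d000f554a015383d407ef5685cfc83cc03f13f101fe152c53f24f9013e93dc23f23f2013e0fcc33f33f300fd0fd828048040601201038040f219fa93fc67dc7dc6146946177da5195df6df8067db7da01f79f6c07df7fb15f71f7467fc7dc21fc9fcc77dd7de21fc1fc477df5185df79f7d851951e5df81e3c87e079319f81fbc47e07fb0df81f8007ee79301f85f8985205215df8df8c678f79415f99fa867e47e515fad48d77e57e51de25e2087e67e71de1df9985245255df9df9c679079001fa1fa8378f78f01fa5fec77ea7eb21ff14a577eb0f319fadfdc57f27f2614c1fac37947ee15e4de5007ec51e5dfb9e3c87ee79301fb5fec37ee52d5dfbde4087ef4f919fbdfb807fa52e5dfc1fbc07f978815fc1fcc37f052f5dfc5fd867f17f001fd1fc407f578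a19fc9fcc578978815fd14bd77f57f4614b9fcc67f87f919fd1e2c57f55345dfd9fd854f64f919fe53dc57f77f8193e1fdd83fc4015dfe1e4887f77f81de45e4087f97fa1de3dfe5852d51e5dfe9fe8579379215fedff067917fb614e54e977fc7fd60ff94f177fe7ff614f54f97800801614fd501780280361505ec4680375e1deddedd84f231b5dee1ee0376d76d01ee5ee8876d76e1deedef0876f4f75def1ef584f84f95def9ef887717721defdefc677277201f01dcc07c177401f093f977c37c4613fdddc87c47c51dde1de487c67c661404c6177c77c86140ddec77c87ca21df141577ca7cb6141941d77cc7cd6142142577ce7cf6142942d77d07d16143143577d27d36143943d77d47d56144144577d67d76144944d77d87d905f65f6495d57d961451f64e7d901625f65ecc93eb3ea29ec9ec984ee4ef5decded184f04f15ded5ed817b67b660f8dec4a7b63e45dec5ec4d7b17b105ec5e64658258119e60421778778860424429778978a6042c431778b78c604343e4578c78f183c5e3450f10f101e39e3d81101115de41e4581121135de49e4d81141155de51e5060f40f401e543d4079679808fc4fc4079779860464469779979a6046c471779b79c60474479779d79e6047de7c179f1205de7de8181211225de85e8981231245de8de9181251265de95e9981271285de9dea18129,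
  nat_lit 0x3ea013fdbf460153ea140543e806ab5d80176c528016514b00d8cfcc03f501100fc976c065b0cd018d803006380a30042452c036200c00ca82bc064854901d9802805cc00a00e0055806c8370283dd40c90f75491c3dc058054b15700e6402401060b101b402bc019100b0044438805521650059832404f50b10154c388052000b0150c02c01101030150828c010800101464fa8057b3ea01e283b405810ed003b83b805811030044c01803d90060046453003640f2013c8058054c3f50201004404f701100c7055c019915700e68280010f006014e8e0c063d38301868fa803ef0ee01f703bc05830ee00fc03bc079b0020100842802fa0060046000400e40020146c00800e30e30146c62c034910b016f98d80637199018bce40039119900cd8664019a19900e6438c051a10f0046c44c05421940192859c016831c013dcd88036632a018e1ad406fe32a00cad54c055855301550cac063832b018e443c02890e301008390052e1890063861c032d32b017fd7fc063918900d21480055210501010e00063a38000e15480052418700cc1868063d18900cc841805a410800424424041f33200d2039005180ef01f6842804213ef01e2861c03471870062041802911060041d48005591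0801081550055818800d1d628a16d315245b45c0316d38001730420010d10601685550055752001569480052152101565484055a5cc018ec5b003085d5018a4420042316c00dac3e000f90f7103dcfbc04ff10600a485b80172549203e43dc04fe01501ab0d88036331c00fc864401925ff018e1484052510f01589484052410f0045844001155240149552407e71100150c64406481161c44149005520f700c6152407e654901528440056755701b4044001110e400a3c44001140f0003c445005430e4014643bc07db0ef003d8fc00581118014e45a181996371c66446001193f2013dc3c807fc78a08fbc64c0649118014e948c055c58101f71e2865810ef016083c0079a3911866592451994020146c42805bd118150083c9811919a018bc668033611320464464053910f0046846403fc11300fec3c800f30f2193dd3d4078f10f014d13d407934f5013e43bc078d638018e5ad4c5db16d1976d55c055828f014b83dc07880ef01fc4e14063e385018e8420029010701691494055d525015658e8063e290010805b0036e0f601f68fbc050010700a445b40171315283e03e830f855201569758062a318013f83e400fc4f5013d9530354919700ce155c06cf1110159d4b851161110045552807e71150159d52807e6116014793e4078f4f901e4c3d807db0f301fec664062e112015a04480529,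
  nat_lit 0x220121c03c200f489143ac00c034c1b201230574215d0a30047860803dc15300b7996806a41552833032c02746f81033188090541841015151805ce054081503f4301202e0c0b9018202e0f7283203f470c80172462d95c918516d0c5bc5bc216f16f6061417c06f3372017445b00175173145b43dc914a1731c5283e000fe549143f452c71730fd2032552406bd00900a603f4067017301c3828d70f70c7183ddd9ca16243c24589d9cc43c43f01100018a3003df14c00c0403e375e1ddbc53ca01202901d90054501201208048174061f0f8016143dc05840f701e7428c05c010a0c28c37020dc267010a03a950080ea2c020348a00801800f94020200828700b6909c50ea00f005843ac01330050801462c218b00300d2c59c814e0cd08334574048b1570855c004011d0282433c33c20cf1032861060c03db15400b7433002731550855415005cd3f708fdc53081671621859c530516714a0c59c0480589060280b9a9c902e02d200b95cc702e6f3140b8410402e02e0101462c518518b0c00c32005035d11c5b0c18316c4ee2862c348518b0141062c428210a0ec5c5b5744816d1731974545090ce7d924535648914c0f80c05405420153ea6042862c02fb4ee244285bc830630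600db061401865f6244105b490fd5890c3f43e0917316f005c0055810418500d140b806ee016200545b4017414e0c5cc5cc05db14a00dc053805da0fd01be43f406b51730196c5cc05d714b1d75c32406bc0c91552405835490312455855821560b100a5d524066f5d101c34c1803070161cfa83b453ea0f7015e0fa823ea1620058d0f0043e30000f78018200676f01edc04480f20121c3c83b460f2011143c832030f201501aac058201601110fccc74901101201bf4fcc080401108045728061b0f70cfa95e005840c70160c31c079c0c701e6c05ca10a10418428008510a5731042828c05bf0c7003bc3700281008005803a8013200500f60008200218b0063062c034a5bf0c42853805d90cd00ca433406370d20057855c035700100470280011b0cf0188461003da15501674fdc03f916700d7d76405da5d70196d75c05db5d701761ad406f954915ad5760065b0d200e44348039002e01a8c338061a10a016f8614032f0ec00cc0338038300300628410040416c00c0c62c02f910a0042c428051518500d103b0018816d01da400c03480ec00d1d74405d60ce0172c00c01890ec0061c02405a110400a4d40ca16c14d01754530059110a0108952480f8015003e9088051530700db005483ea0f801aa028c04231040041402402920fd016285cc031516d005c85b4016e0a3004344140293,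
  nat_lit 0x16714568011814a0dd003dc378014926c2852c9b0614b15b005b05cc626c14d0c9b037007a50dc01e9166cc29f1831ca7ca800325676591099d8c4426762d109c5464420f25c018a7407815f601f3800801250dc003b4aa005920c8009a8324026b28001414568016200c605cc528026314b009b49b003720ed01e91671629e59c54a79670c29e59c2ca78fa4a29e43224a78328829e29f00c99108071400601dbc410077704204109cfc56f4001004903c8027c01100aa43f402710cd6053859c0355173009bdf38977714e185bde04976f0c701e8d3b976c200729b085d896c27b311b090a8b29d00628a7455c929d0cc20a74610729d29e00c9cf7c529d30110a743a9767543c01c4c58896757680d9d4554075e014180ac108035202b040adbd0073e0431595828c012301200b8caa0814f14e009e5ddc575e77701f345bc037550924055dbc07800f701e89b0807b229d00c017ac901616f185d99d407670cc01d7d5cc65c402b00d4c038774000e15d0006c374065601a7810c10430a30048853c02e2029009e05e4916775e01f300540508007183b43c801010f701e8401c200700701b04018029c016017a85d807110ed019d032c07605c401724050034f69f5406da7cb01b0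1b0806dd00074304301a8807c101f10a00484549815115000b8414c0277375145385d86162167005e004805075050c05842970077b22401c05480070161c01c05460070ed00400fac40070f70c01c01c07a001501b00008029b011017a401c0673711145bc32970260ca01d84098202661c09871e8020070070401c01c079f5730170c1b1643a06c310e80d0543a71b0d0e922494904a01924124024904ec0c120120204818b00d3806c07411b219a7c07c06a110a00480545815215100b80098027614e00dd0dc8314d7b2285d85bc8176162005dc5b031760fd1941405805060f8183f401c03ea01201afc428029a0f2017a0054067216f01c40f90935e42a10d793c0a3026f720c0951873020cb5c14c09807620530814d870061d3ea01e7c42805c2427240d10e8071c034080d121434314900128412004ed0220808862c034d01d246c9a7c06a00a30047c16841821820860854802df6f425968550465a0ca009d573c954602e1817c5b0837217318dc8534037317600c1941405490fd016183dc00ff0fd01af828c02990c80179c3e0067116d01c3d288643f43c0d0fcd7805743e428c0415073013e214c04c0804f10cc5c0a4538902905301d8c0a420295ca18174164061e586143e03dc079e10a01704568a2673e6280600d0043b43101218060201815a24a1c3ad500f0eb2c03c574a00f,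
  nat_lit 0x3e908fa4fa4959c29e08a790a8242a59c096710cc904b436241a812c043406a010d50d8b05804e310dc160205804e081390dc24373e708f9c114204543724f9d0e890453e7010e0114043906c081b17d425f55f4097d142c250b073081cc1cc1073065041940c01030065081940c020305090942542585f60302805542476c216f2542543ca04650e2418818975f05ef60dd9f5555ef5ee59f59f5d55ed06d081b57b5806d7d7597b57b157d87d9597adb0875eb5eb600c57aca14d5ec2df617b425ed5ec097b17ac25eb7d9317adf6427d90170805d4502514068081a00c4203167b29c619e8971954409510050201405d0817572825ca35608d5988026200430810d95896f865609959bd026f4060081800b4202d05f0817dbdca6585452d73d89495cf6582173c0b8202e5442d7400b495d00602174145045d04f0541853c0b06135d2418573c06246581c18596166a665831a99bdc96a65451da980b804064ef540bd3bcb02f40a240bd74006230601c0bd260602f017100bc0bc202f06059a9c180c6a74ef21a9d7d846a706100d71a9806f602e0101c0bc035b40a293bda9c06f54f0015d8410040840a104293bc057740a0d029028240a01459028050c40a35b290295dc940a0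2e21029710540a10a01025028040c40a0102d02c240b40b010313bc940b03b080ecb5022d440c0d031030140c499286b407491ad15d186b5a7c51ad03c140680ec012c01a04068b5002d501459030050c40c0142d030d6ca40c577250300b8840c5c415030428440c40c015cd030040d40d05034b48527f1ad006c8074a00d01b20034014600d01b14034068012d00e0c034034100d2d300b59034057327f00b44034012e2d200b5cb5c07ab50e5d7c4428040e005004ac0ed72d42d301eb0c88c2a359824a8c9fc07aa50d5d7c97c407d3002004a8b5007ad3212ca90a8c05970dc01ea440972a050c5d7cd7c807d2002004a4b5407ae3202ca94a9005960dc01ea1660c2a25982ca88c88a2a20245ca7ca80078450b5d7d17cc07d1001004a0b5807af0555ca98c7cc2a62a5016543ad72884a2189a037580a30de601e422807a759930a84a8803230105ca78a7c078350a5d7d57d007d00010049cb5c07b031e30a9cc78b2a72a601650320608a0ea5ca1d9d8628728801da11086267268010fc28c027d14a2837432090dd0f8143741e4027e14a183785b4515b1760c56c22807a659a2ca80a8403240135ca74a7807825095d7d97d407cf0020049801c60dc0f2143709fc076531d2caa0530a2a801124aa0a9c059308a0031c9b090c92801832405832800d25c568a1c0675267010f05d8615a,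
  nat_lit 0x17b20a9c090102431e1c09060d831e31f5c60860583203215c6005fd8322025285f8148917f179283c804c831d0131c0a459c90130100404004c101301311ed9ed9730130261ed4fad740a7b45d3c19f186c56c65c1dd9ed86c76765c065c55703942661109c5484424420d229228671604961c599e8867848a1dc59c5877180495dc58129771871760135288871748a09229c60748a7175c135c60271804a61c619ed76c7077081dc1dc10776c6601dd42876c467c5db15b11806c3e65db0db0ca4296c31d7b5b11706c3e661b0d3bd87b36c25d3b80c585eb06d617b57b1706851361f601cd83e750b217b1f60707303021f6595d70305f55d428160b436436581610d95058437297d0139643704e550dc138b4375f4281381cd73e73e7557d0f9d65f43e72d7d0f9cc5f45131cf9c1145035468051a11a8246a0440811119c24674660919919424654640919011010444670519d19814664650519519014644630518d18c24634600918117c245f45e09179180146045f0517d178145e45d05175174245d037241b5164b0750755916516150660715915c198c4584572c1c4190c4bd4be2c1b92f5506406e592f915cc0710662d161164c075076081d92a424a94a8092a129c24a74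a6092981d810764a9052a52a014a84a70529d29814a6074041d129414a54a50929528c24a349f0927d278249e49d092740b0202c05c08171270249c49b0926d268249a04008100168205a03d080f4f7423dd03c080f00ec103b2d404b50b4c22d32d208b48068201a0230d09d221502303f25220034200d49920f74034a49903f592340fd548d49909265264603f03f312340fc203f0233122008c202301d08075234248d4a2092892202488066081981d4207504908124134204d04c08130128204a45909165b1c26c76c609b1915c24574bd092f41c42071064081901d55459458581981c554574bd581901b8206e06e552f92fd60354bf540d52fcb0353e6212fc1b474bf06e2d2f92fcc0354be092f92fc24bf035080d5168245a036080d80dc203703a080e80e42039069041a512c244b4490912512024484470911d11824464450911512414494480512111c1447446051191141445033040cd1101444444091100e02038442091080656426676099d99d980194890c064064b4264262c064f7cc42b3df08f7c0642019426090990acc3df42b090ac09020240130804c040201005508154a9822a631f08c7cc78231e31d08c74aa022a804f0813c0a020283e82d0cd0cd53e843358fa0fa554323e9590c8fa4b432432296710c850284332cfa01a8206a04b0812d0cc2433432090c8fa4c432,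
  nat_lit 0x1701b08348500701400fac00c3007005605746b402d20a35c00c1e0008901558410054c10400c602c40c005f65090195c024016d0ec003e0048300c0166053440c614d02d105342bd700b03101f6545005eb05428fcd89893f365620fccd5873f365014fcc388026c00a00a0004430af715540e5c54b039049019e03a9700800f00a2109c042902261225c5884897181d2243ac026871615225224248905560608601705104b2414432d50530cb2c14c1548053052605f8160517e04b2860004c435e35d01ed4349700210a005d801180a00010037801c018b0f214348574027f003003741e4008a0f20c01033150290cc2c0a40a0802965a100a4049814e104005bc2c401730cc2804805401856561004803000fd0115840c044c10314d0055802c014b184280440a0901101600338fcc06200af0032409960ca026303285e870ca17f5c0945e8802517f0c0940a9817d019610980e4067700800a1dc548019715180643a8026703810065224048a0271c1490d8505204f6060c0a03183058201546117028013200a060450280276060460802a61841809c14403210530054c5f802a2010205fc60002a41025404c408b0130062404cd7807b60f2540183c8b00600200568280014a0d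20037001000c80290055053801550120033440c014c0110033c13c3184010605e8328015102500c88040317a17d00a850980676019011081480598024605ec60c02a70242013c154031f02800c7460402a502700c80098015217f00a8c04c017c0060059c3c801570cc0053c61002a817a00a780a8059917b00a7c13c031e0100167040801790240166cc7c705817b150dc0a8304e04e18090138818043615660a8860585982009c09ca17a027240405e8a18101024604a88818118114c74c7431831840cc7812c932159c28c80610632032100fa012ca2a432000fa567092a52a4010cca94043204f0caa0fdc962602520328a8c30252a32009804082a317f0cc88c88717a59c205fca78802517e210c989840282a70c0a16649676599291085f585995985c5f8c8895985980966009c10271810460409c202718108604600218032108c84c88232232204c88a8822a259805660a8812a205204148144105102504094144205102508094148205217e085f8064a17d426245f45f4217d006245f00a0717c35e105f05f4042b426280a8064902a02a080a80a8102a013604085f0042a0062840855c91020cc20408610710229e184080a803df30110409664517959b0c5e4408029d17901668a84501301300a80040329e59c5c5e8098801059c0c5e85e8715159c605e85e5742a1791c53caa07179,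
  nat_lit 0x36240d40d003e606d014481b804be046014380d404bf035010c40d8403445b0c0d002004e7049013110c404bf0340116803c04e84c00130c0d80430021100e808804e94c00c1b01b004c203a010bc12004ea6c55d301b1554c06c52d3001dc54c006c013041206047021010b01203065065013ac18ca0484c0019f018870484bb1812011c042d065013b0100a03c02f60dd80bd637602f30dd805093766a71cdd80b060140636126018d64980633126012004a050e2126116464985ca252f1270a02d03c01268dd804ef01401275270802f4980144551894bd6a6212f53c074bd4bc01511728a49c02d0126c180849c02f01441450449c4bd01515518a0646252419196080640611c19127005d00640173c13ca4b5183252d41c434b54b5092d52d414b54b5140c40c404b6066012dc1d404b8063012e52ec64a04a0012e92f0837649c5d2f127184bc49c592f1270c4bc0640d2712f5706406e612f92f5806406e5d2f92fd80354bf5c0d4170306e50d0c115440749c0350d43943885110621d28011834bf0631c11944494a050e18171440949d49d24dd928090630751818cdd8049e0630818c18c10630630127c19830310680c1d544454594590d44d430a02250c2116543076c748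92943007c201f74009d00038200e50d24038084202104608118dd8237606208188dd8137606204189438150e50d05434118104600e240850bc402102104084088a0474892411d9ec80470751c11d2806047021010b926040470470811c11c104704701241280306567c2128127c50754585c1991649716458601981d57459075611641d4a7164901d9ed9ec70754575c1c41c4807750e60119439704650f5c1894357021046017c5441737606201f514317047021017c9445706337601f541dd66c607731b199f166c567c31b150e836c503b606bcf9d50733e72c1cd0dca07304e241cc1a07073047017cd449706d06301f5943033e767b59b1d9ecc6c771829b1db18071a06c610e9428743a6c501c6d3bd702f01a606b86bc02d450a5c1941b080655135c1a01cc05f406d01f5cf9c050b71854129c60b04a6c701c659ec904a71754135c5cb04d3e65c0d10e806c44885c08dc5c70234a31008d3c170614ee5c05c01ca0175091c05d029801402f01ecc01c401400d606b46b802d3000601e14257030104280c13b880300311c0c019405f56a7100c041095090ec5c02405430ec5145c0c4534a031016240c41a007d814d2545144c05ec00a6038853430e20160c029c5950497162c124128067a04d019e43ad700f0186109c0d006c30230128818407b40075842801cc10a0795c0053b8a007,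
  nat_lit 0x232013403d800f00f5803c03cc00f0231803c009800200258008008c0020082400801c6002006003c8014015d0036000c00d60030033000c01000a0001001e4055801501558054054c015030240540b84015009003b0139604e04e301381cc904e058010d8090017b016600580596016016300580c490160110040c048014e02d1005802800e205458150150c0543f300fdc0a001846582596551886593021d96596806f806128c08c04035e077601dc1dd6077077301dc13ca456183251580c46456455012d01c4345645609159158145602d580b40b4c02d49c240b4050802d05d140b4125804904958124124c049075281240e4071506660198199606606630198051701401458050050c01402f280500b8801402b017101816060060301800b8a06003010180089802202258088088c022047280899ed667b67b319ec12807180180120803c04e306501320021800800858020020c0080190109808d80230235808c08cc02303f01234130802304d01c5c130602300f003ac06030230656019419560650653019530184c04c059301300c4c00076001c01d60070073001c05ca0070020034800c00a3030600c00c16030030300c00540104017200c01cd8073073581cc1ccc07304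e010dc1146073031600c40c56031031300c4058014d0171c0c5270403106429518150062665859961960c65865901bdc185806106158184184c06130200d741c58071071581c41c4c07107701b1915804b549c61271271649c49c312700b405ca4bb152701d58075075581d41d4c07504901c58198045802f600bc0bd602f02f300bc050040a06001a9c18c602f062140bc11d80470475811c11cc047022012259ec06c704d101cc1cc048e0350120c02004e40650131c061801801858060060c0180342806002000ea023012201b1806c06c581b01b0c06c045281b0194050a034141b130006c50176005c05d60170173005c01c010a030014241a18068068581a01a0c06807300f9c0c4051406460190191606406430191518062565801a9818404f00710115d27004bc0626018818960620623018811890620636018c18d60630633018c120a063075011640bc03760471018c085802102158084084c02100e2808411c050c0450c084f9c048e0460121003c04e5048013180d18034034580d00d0c0340180109c1b4803406c010e805c04ee06d601b41b5606d06d301b40dca06d035201b41a0051306e601b81b9606e06e301b819004bd04660118119604604630118188050f06301260084050d05c141180d430460450123c06040350460121402004e6022013140d58035035580d40d4c035,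
  nat_lit 0x4a31d3391ac6445445011b1110046d443011b80cc046f038011c006404714d21929802004724a60134c03c04734a50135008804744a40135412004750740135819404764a30135c194047702301360120047800f0136408804790080136803c047a0180136c020047b03501370020047c04601375338404c00f011f411804de04c013340ed803b03b580ec0ecc03b05658158158c05601f5807c07cc01f00e1c07c038501f01b0c07c020047e0350137c08c04cc01b5806c06cc01b3dd2806c069801a01a58068068c01a03b006bc099802602658098098c02602520098098302602560094095602502530094148902501020094094302505b5816c16cc05b05601948145805105158144144c05104b2814413880510556015415560550553015416840550435810c10cc04301f01d0014d80530535814c14cc05300f011fc06004e000f0132c035800d00d58034034c00d01d2403406c069f01a006b8001800000058000000c00000128000149805205258148148c05205814148041801001058040040c0100272804009800ca025005fc040301000c60030031600c00c30030024a00c00b1c030024600c00b6002c02d600b00b3002c028a00b0041c02c028600b0041402c044300b3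f3195bc16c06510276009c09d60270273009c0a060270510060013d804f04f5813c13cc04f4562813c15401820280c13c10c073f029600a40a56029029300a404890290530032cc04935600610d5804d80130135804c04cc0130062804c0a850133011004c090301304258108108c04200f0120002004e1022013280a9802a02a580a80a8c02a019280a8075601d01d30074f74701d040180740fc501d0066001801960060063001804480060121c01804450060040c018015800500558014014c00500f2401403401ad0046001001160040043001000c900400114010005800100158004004c001000001e000c50010096002402560090093002402880090031c02400c60090150c0241616058058301601a8a058052005f8091802402458090090c024010005e8045801101158044044c01102828044049801201258048048c01200a60028029600a00a3002803000b100b002bc15093f356f019400a18028028580a00a0c02802700604150402804f0060d95806f4054219680a400cc35600f9004c01024b3291540e58039039580e40e4c0390191c0e4064503902b580ac0acc02b04201714129804a04a58128128c04a67b28128020048100f0138812004c9019600640656019019300640a8017d03a1c06402050190220c0640fd603f03f300fc08ca03f01d01264135804d04d58134134c04d,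
  nat_lit 0x42200900f48056024100f40aca05705d1c1000ac803d02b080ac100502b0420c0a40a403500425c1080ac90570421c13c1b8a042042081081b890420541410815180540570415c15c2057026141501b84057033101940cc501706e2019c1c870650570c0c00c06064038540e00e0b03806a140cc0e0506004c280ec110901f06b541ac10ca039043240e4184606d072601c81c96072072301c818830720721818417c404e04e01bbc17c904d05f281340ac705605f6017c17d605f05f3017c158505f0562819815970560561013c198a0560560415816c205b05b241c416d805b0712416c114407206c101ac110306b06b081ac1ac106b06b011a019d70670675419c19cb06706710198188404a044181c41105062468101b0111804404458110110c0440441c0841108038468091a00e44044468011a4110046a0390119c0640466008011940cc2033018011911a840390330110c0d40463039011ac0e00444046011880640445046011840200446035011800600447036011201a43034075101a40d00449069081a41a4044a4601111d11c045f44801179124045d075111280d0344a06901171128045b0340112c0d8044c035011341b8044e05e0c190179705e05e54178178b05e02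d281780b4905e060201780bc705e05c181780c4405e0640113c178205e05e0417815d505705e012701205057057012ec1200450063011441d40452067140c4198045304f2819c13c9067031011501c430670670819c19c1067072281ac19c0456072141ac1ac04550682012c08c404b0740c12c12c04a30711c170170406a02c1c16c0b0805a058100b00b0b02c05c2c1712ed64bb05c58170101604003c540f00b1502c048541200b0a05c03c2c0f0100b04003c2810006d801b01d1006c06ca01a01b24068074801a03d1806806803dd02a2010c1a9506a06a2c1a8184806a0641c1a8180306a06a0196014830580642814c19090530581c14c150305303f10144184a0550612415416006590530151815080520291014996430520541c09c14403e20131009c15403020520196810c50250121009409c030100610040150a02605424098094065601000d58044402602600fcc16c4053053015bc10d80430510c10c10c6055037101b516c407504c60130131604c04c301311549072072012cd15404b2456012c41c404b0066012bc1d404ae049012b41d804ac0760c1b01b004ab0765c1d81d950760762c1d81207076077141d8124407606c012a81d804c0049012a41d02074022012a01d004a400f0129d28c04a50230129813004d2068013441d404d04a31c1a013040680750133c1a004ce,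
  nat_lit 0x32600c80c96032032500c80c92032032400c80c8e032032300c80c870660322015c0c86069032140e005c3032020040800802020020280e00809038020100a8081a02002060080081602002050080081202002040080080e02002030080080700e0202007c080501b01c0c080070903e01c280f8071a01c01c60070071601c01c50070071201c01c40070070e01c01c30070070700d01c2006c070201c01c040700f8401c0591c1c0100706f03c201c01c17070070541c01c130700703c1c01c0d0700702c1c01c19070070481c01c0505606f141c01bc605b06f681bc1bd806f06f581bc1bd406f06f481bc1bd006f06f381bc1bcc06f06f241c01bca07006f1c1741c0107006f041bc1c0207003c101bc1bc206f01e0c104078604201e08078078101e01e64078079701e01e54078079301e01e44078078f01e01e34078078b01e01e10038078802a01e1c10c0e8a01e0242414019c805006e1c14012c605005068140141805005058140141405005048140141005005038140140c0500770c140140205005004140140606c06c0201411408060350201c078a03a036020200e80809041140a4104204104104104104906804168104105804104158104105404104148104105004104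138104104c041041100ec104804e0411c1441a0904101d1c0f80f8701a03e640f80f9703e03e540f80f9303e03e440f80f8f03e03e340f80f8b03e03e0c17c0f8203e03e040f816c603e00e2c0380d8c03603a300e80d9603603a580e80dd50370372c0dc0b8b02e02e540b8120c0480572c15c15c806605f200fc0d9803603a5c0e8164304004001870039600e059081641656059059301640f07059059281740dd8037059241740b0505903f181640ec805f05d58174174c05d03c0c174174603b03b1c0fc1a460760695c1a41a550690692c1a41a47063076281a41d89069062201d81b0707206b601ac1cc704b0455c1140847038045201ac1acb06b0452c1141155045033580cc0ccc033065280cc0cc80450331c1ac1841061072041c81842061072081c8194903303f0c0741d0606004b3012c12d604b074541d01d0b07404a281d01289074075201d011c7074077181d01184074074019ec1a4804600e6003807d701f0442807c118467b03b28130184407705c1c1dc1dc905a0772816812180480575c15c139704e059601640fd803f01d5c074101804003c5c0f0175705d02d600b40b9702e0385c0e01d1707404b6012c0cd8033060601801a9706a05c60170161805802b600ac0b1702c05a60168169605a05a301680b0302b05a2016c168503b03d0c1680f5803d03d580f40f4c03d,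
  nat_lit 0xc81032032080c80c8a03d032240f40c9a032]
noncomputable def A : List (List (ℕ)) := [A_0]
noncomputable def K_0 : List (ℕ) := [nat_lit 0x19a19919819719619519319219119018f18e18d18c18b18a18918818718618518418318218118017f17e17d17c17b17917817717617517417317217117016f16e16d16c16b16916816716616516416316215b15a15915815715615515415315215115014f14e14d14c14b14a14914814714614514414314013f13d13c13b13a13913813713613513413313213113012e12d12c12b12a12912812412312011f11e11d11c11b11a11911811711611511411311211111010f10e10d10c10b10a10910810710610510410310210176e59550558e42853650390490550142f4ac5354b152643053450442750242e42c3ae7497e452d70b58565d49c70c4b052e65e1a76331601a31a58fc1a84af57356e4b25745064ff42942b4ad54a7923fe9035814a68fb49d4981d54fb4f751d4fc4fa50049651e9084314263af4d04975863fd1a215f1a91a61611a41a04a54f242a90779390257190649f1d44a249540a15d1943a519e15e15c19f1275071d314112f13e14212619b16a17a122121125100000,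
  nat_lit 0x2a92a82a72a62a52a42a32a22a12a029f29e29d29c29b29a29929829729629529429329229129028f28e28d28c28b28a28928828728628528428328228128027f27e27d27c27b27a27927827727627527427327227127026f26e26d26c26b26a26926826726626526426326226126025f25e25d25c25b25a25925825725625525425325225125024f24e24d24c24b24a24924824724624524424324224124023f23e23d23c23b23a23923823723623523423323223123022f22e22d22c22b22a22922822722622522422322222122021f21e21d21c21b21a21921821721621521421321221121020f20e20d20c20b20a2092082072062052042032022012001ff1fe1fd1fc1fb1fa1f91f81f71f61f51f41f31f21f11f01ef1ee1ed1ec1eb1ea1e91e81e71e61e51e41e31e21e11e01df1de1dd1dc1db1da1d91d81d71d61d21d11d01cf1ce1cd1cc1cb1ca1c91c81c71c61c51c41c31c21c11c01bf1be1bd1bc1bb1ba1b91b81b71b61b51b41b31b21b11b01af1ae1ad1ac1ab1aa1a119d19c,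
  nat_lit 0x3aa3a93a83a73a63a43a33a23a13a039f39e39d39c39b39a39939839739639539439339239139038f38e38d38c38b38a38938838738638538438338238138037f37e37d37c37b37a37937837737637537437337237137036f36e36d36c36b36a36936836736636536436336236136035f35e35d35c35b35a35935835735635535435335235135034f34e34d34c34b34a34934834734634534434334234134033f33e33d33c33b33a33933833733633533433333233133032f32e32d32c32b32a32932832732632532432332232132031f31e31d31c31b31a31931831731631531431331231131030f30e30d30c30b30a3093083073063053043033023013002ff2fe2fd2fc2fb2fa2f92f82f72f62f52f42f32f22f12f02ef2ee2ed2ec2eb2ea2e92e82e72e62e52e42e32e22e12e02df2de2dd2dc2db2da2d92d82d72d62d52d42d32d22d12d02cf2ce2cd2cc2cb2ca2c92c82c72c62c52c42c32c22c12c02bf2be2bd2bc2bb2ba2b92b82b72b62b52b42b32b22b12b02af2ae2ad2ac2ab2aa,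
  nat_lit 0x4ca4c94c84c74c64c54c44c34c24c14c04bf4be4bd4bc4bb4ba4b94b84b74b64b54b44b34ae4ab4aa4a94a84a74a44a34a14a049e49b49a49949449349249149048f48e48d48c48b48a48948848748648548448348248148047f47e47d47c47b47a47947847747647547447347247147046f46e46d46c46b46a46946846746646546446346246146045f45e45d45c45b45a45945845745645545445345245145044f44e44d44c44b44a44944844744644544444344244144043f43e43d43c43b43a43943843743643543443343242d42542442342242142041f41e41d41c41b41a41941841741641541441341241141040f40e40d40c40b4094084074064054044034024014003ff3fc3fb3fa3f93f83f73f63f53f43f33f23f13f03ef3ee3ed3ec3eb3ea3e93e83e73e63e53e43e33e23e13e03df3de3dd3dc3db3da3d93d83d73d63d53d43d33d23d13d03cf3ce3cd3cc3cb3ca3c93c83c73c63c53c43c33c23c13c03bf3be3bd3bc3bb3ba3b93b83b73b63b53b43b33b23b13b03ad3ac3ab,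
  nat_lit 0x5eb5ea5e95e85e75e65e55e45e35e25e15e05df5de5dd5dc5db5da5d95d85d75d65d55d45d35d25d15d05cf5ce5cd5cc5cb5ca5c95c85c75c65c55c45c35c25c15c05bf5be5bd5bc5bb5ba5b95b85b75b65b55b45b35b25b15b05af5ae5ad5ac5ab5aa5a95a85a75a65a55a45a35a25a15a059f59e59d59c59b59a59959859759659459359259159058f58d58c58b58a58958858758458358258057f57e57d57c57b57a57957857757657557257056f56d56c56b56a56956856756656556456356256156055f55e55d55c55b55a55955855755655555455355255155054f54e54d54c54b54954854754654554454354254154053f53e53d53c53b53a53953853753353253153052f52c52b52a52952852752552452352252152051f51c51b51a51951851751651551451351251151050f50e50d50c50b50a5095084fe4fd4f94f84f64f54f44f34f14f04ef4ee4ed4ec4eb4ea4e94e84e74e64e54e44e34e24e14e04df4de4dd4dc4db4da4d94d84d74d64d54d44d34d24d14cf4ce4cd4cc4cb,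
  nat_lit 0x6ee6ed6ec6eb6ea6e96e86e76e66e56e46e36e26e16e06df6de6dd6dc6db6da6d96d86d76d66d56d46d36d26d16d06cf6ce6cd6cc6cb6ca6c96c86c76c66c56c46c36c26c16c06bf6be6bd6bc6bb6ba6b96b86b76b66b56b46b36b26b16b06af6ae6ad6ac6ab6aa6a96a86a76a66a56a46a36a26a16a069f69e69d69c69b69a69969869769669569469369269169068f68e68d68c68b68a68968868768668568468368268168067f67e67d67c67b67a67967867767667567467367267167066f66e66d66c66b66a66966866766666566466366266166065f65c65b65a65965865765665565465365265165064f64e64d64c64b64a64964864764664564464364264164063f63e63d63c63b63a63963863763663563463263163062f62e62d62c62b62a62962862762662562462362262162061f61e61d61c61b61a61961861761661561461361261161060f60e60d60c60b60a6096086076066056046036026016005ff5fe5fd5fc5fb5fa5f95f85f75f65f55f45f35f25f15f05ef5ee5ed5ec,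
  nat_lit 0x7f57f47f37f27f17f07ef7ee7ed7ec7eb7ea7e97e87e77e67e57e37e27e17e07df7de7dd7dc7db7da7d97d87d77d67d57d47d37d27d17d07cf7ce7cd7cc7cb7ca7c97c87c77c67c57c47c37c27c17c07bf7be7bd7bc7bb7ba7b97b87b77b67b57b47b37b27b17b07af7ae7ad7ac7ab7aa7a97a87a77a67a57a47a37a27a17a079f79e79d79c79b79a79979879779679579479179078f78e78d78c78b78a78978878778678578478378278178077f77e77d77c77b77a77977877777677577477377277177076f76d76c76b76a76976876776676576476376276176075f75e75d75c75b75a75975875775675575475375275175074f74e74d74c74b74a74874774674574474374274174073f73e73d73c73b73a73973873773673573473373273173072f72e72d72c72b72a72972872772672572472372272172071f71e71d71c71b71a71971871771671571471371271171070f70e70d70a7097087077067057047037027017006ff6fe6fd6fc6fb6fa6f96f86f76f66f56f46f36f26f16f06ef,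
  nat_lit 0x8f58f48f38f28f18f08ef8ee8ed8ec8eb8ea8e98e88e78e68e58e48e38e28e18e08df8de8dd8dc8db8da8d98d88d78d68d58d48d38d28d18d08cf8ce8cd8cc8cb8ca8c98c88c78c68c58c48c38c28c18c08bf8be8bd8bc8bb8ba8b98b88b78b68b58b48b38b28b18b08af8ae8ad8ac8ab8aa8a98a88a78a68a58a48a38a28a18a089f89e89d89c89b89a89989889789689589489389289189088f88e88d88c88b88a88988888788688588488388288188087f87e87d87c87b87a87987887787687587487387287187086f86e86d86c86b86a86986886786686586486386286186085f85e85d85c85b85a85985885785685585485385285185084f84e84d84c84b84a84984884784684584484384284184083f83e83d83c83b83a83983883783683583483383283183082f82e82d82c82b82a82982882782682582482382282182081f81e81d81c81b81a81981881781681581481381281181080f80e80d80c80b80a8098088078068058048038028018007ff7fe7fd7fc7fb7fa7f97f87f77f6,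
  nat_lit 0x9019008ff8fe8fd8fa8f98f88f78f6]
noncomputable def K : List (List (ℕ)) := [K_0]
noncomputable def R_0 : List (Rule) := [Rule.mk (nat_lit 7) (nat_lit 53) (Steps.bwd (nat_lit 9) (Steps.bwd (nat_lit 7) (Steps.fwd (nat_lit 36864) Steps.nil))) (nat_lit 38) (nat_lit 2),
  Rule.mk (nat_lit 4) (nat_lit 53) (Steps.bwd (nat_lit 9) (Steps.fwd (nat_lit 16384) (Steps.fwd (nat_lit 36864) Steps.nil))) (nat_lit 40) (nat_lit 2),
  Rule.mk (nat_lit 1) (nat_lit 53) (Steps.bwd (nat_lit 11) (Steps.fwd (nat_lit 4096) (Steps.fwd (nat_lit 45056) Steps.nil))) (nat_lit 60) (nat_lit 2),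
  Rule.mk (nat_lit 2) (nat_lit 53) (Steps.bwd (nat_lit 11) (Steps.fwd (nat_lit 8192) (Steps.fwd (nat_lit 45056) Steps.nil))) (nat_lit 62) (nat_lit 2),
  Rule.mk (nat_lit 3) (nat_lit 53) (Steps.bwd (nat_lit 11) (Steps.fwd (nat_lit 12288) (Steps.fwd (nat_lit 45056) Steps.nil))) (nat_lit 64) (nat_lit 2),
  Rule.mk (nat_lit 4) (nat_lit 53) (Steps.bwd (nat_lit 11) (Steps.fwd (nat_lit 16384) (Steps.fwd (nat_lit 45056) Steps.nil))) (nat_lit 66) (nat_lit 2),
  Rule.mk (nat_lit 6) (nat_lit 53) (Steps.bwd (nat_lit 11) (Steps.bwd (nat_lit 5) (Steps.fwd (nat_lit 45056) Steps.nil))) (nat_lit 68) (nat_lit 2),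
  Rule.mk (nat_lit 10) (nat_lit 67) (Steps.bwd (nat_lit 11) (Steps.fwd (nat_lit 4096) (Steps.fwd (nat_lit 8192) (Steps.fwd (nat_lit 36864) Steps.nil)))) (nat_lit 47) (nat_lit 0),
  Rule.mk (nat_lit 10) (nat_lit 53) (Steps.bwd (nat_lit 11) (Steps.bwd (nat_lit 9) (Steps.fwd (nat_lit 45056) Steps.nil))) (nat_lit 72) (nat_lit 2),
  Rule.mk (nat_lit 4) (nat_lit 53) (Steps.fwd (nat_lit 40960) (Steps.fwd (nat_lit 16384) (Steps.bwd (nat_lit 10) Steps.nil))) (nat_lit 40) (nat_lit 2),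
  Rule.mk (nat_lit 1) (nat_lit 53) (Steps.bwd (nat_lit 13) (Steps.fwd (nat_lit 4096) (Steps.fwd (nat_lit 53248) Steps.nil))) (nat_lit 74) (nat_lit 2),
  Rule.mk (nat_lit 2) (nat_lit 53) (Steps.bwd (nat_lit 13) (Steps.fwd (nat_lit 8192) (Steps.fwd (nat_lit 53248) Steps.nil))) (nat_lit 76) (nat_lit 2),
  Rule.mk (nat_lit 10) (nat_lit 53) (Steps.bwd (nat_lit 13) (Steps.bwd (nat_lit 9) (Steps.fwd (nat_lit 53248) Steps.nil))) (nat_lit 86) (nat_lit 2),
  Rule.mk (nat_lit 1) (nat_lit 67) (Steps.bwd (nat_lit 9) (Steps.fwd (nat_lit 4096) (Steps.fwd (nat_lit 53248) (Steps.bwd (nat_lit 10) Steps.nil)))) (nat_lit 48) (nat_lit 2),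
  Rule.mk (nat_lit 2) (nat_lit 67) (Steps.bwd (nat_lit 1) (Steps.fwd (nat_lit 45056) (Steps.fwd (nat_lit 40960) (Steps.fwd (nat_lit 40960) Steps.nil)))) (nat_lit 46) (nat_lit 3),
  Rule.mk (nat_lit 16) (nat_lit 67) (Steps.bwd (nat_lit 10) (Steps.fwd (nat_lit 8192) (Steps.fwd (nat_lit 40960) (Steps.bwd (nat_lit 2) Steps.nil)))) (nat_lit 50) (nat_lit 0),
  Rule.mk (nat_lit 15) (nat_lit 67) (Steps.fwd (nat_lit 8192) (Steps.fwd (nat_lit 36864) (Steps.bwd (nat_lit 2) (Steps.fwd (nat_lit 40960) Steps.nil)))) (nat_lit 51) (nat_lit 1),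
  Rule.mk (nat_lit 16) (nat_lit 53) (Steps.fwd (nat_lit 8192) (Steps.fwd (nat_lit 65536) (Steps.fwd (nat_lit 8192) Steps.nil))) (nat_lit 92) (nat_lit 1),
  Rule.mk (nat_lit 12) (nat_lit 53) (Steps.bwd (nat_lit 13) (Steps.bwd (nat_lit 11) (Steps.fwd (nat_lit 53248) Steps.nil))) (nat_lit 88) (nat_lit 2),
  Rule.mk (nat_lit 15) (nat_lit 53) (Steps.bwd (nat_lit 11) (Steps.fwd (nat_lit 61440) (Steps.bwd (nat_lit 12) Steps.nil))) (nat_lit 104) (nat_lit 3),
  Rule.mk (nat_lit 9) (nat_lit 67) (Steps.fwd (nat_lit 40960) (Steps.fwd (nat_lit 8192) (Steps.fwd (nat_lit 4096) (Steps.bwd (nat_lit 12) Steps.nil)))) (nat_lit 46) (nat_lit 1),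
  Rule.mk (nat_lit 1) (nat_lit 53) (Steps.bwd (nat_lit 17) (Steps.fwd (nat_lit 4096) (Steps.fwd (nat_lit 69632) Steps.nil))) (nat_lit 108) (nat_lit 2),
  Rule.mk (nat_lit 2) (nat_lit 53) (Steps.bwd (nat_lit 17) (Steps.fwd (nat_lit 8192) (Steps.fwd (nat_lit 69632) Steps.nil))) (nat_lit 110) (nat_lit 2),
  Rule.mk (nat_lit 3) (nat_lit 53) (Steps.bwd (nat_lit 17) (Steps.fwd (nat_lit 12288) (Steps.fwd (nat_lit 69632) Steps.nil))) (nat_lit 112) (nat_lit 2),
  Rule.mk (nat_lit 4) (nat_lit 53) (Steps.bwd (nat_lit 17) (Steps.fwd (nat_lit 16384) (Steps.fwd (nat_lit 69632) Steps.nil))) (nat_lit 114) (nat_lit 2),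
  Rule.mk (nat_lit 6) (nat_lit 53) (Steps.bwd (nat_lit 17) (Steps.bwd (nat_lit 5) (Steps.fwd (nat_lit 69632) Steps.nil))) (nat_lit 116) (nat_lit 2),
  Rule.mk (nat_lit 8) (nat_lit 53) (Steps.bwd (nat_lit 17) (Steps.bwd (nat_lit 7) (Steps.fwd (nat_lit 69632) Steps.nil))) (nat_lit 118) (nat_lit 2),
  Rule.mk (nat_lit 10) (nat_lit 53) (Steps.bwd (nat_lit 17) (Steps.bwd (nat_lit 9) (Steps.fwd (nat_lit 69632) Steps.nil))) (nat_lit 120) (nat_lit 2),
  Rule.mk (nat_lit 7) (nat_lit 53) (Steps.fwd (nat_lit 40960) (Steps.fwd (nat_lit 32768) (Steps.bwd (nat_lit 10) Steps.nil))) (nat_lit 38) (nat_lit 2),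
  Rule.mk (nat_lit 12) (nat_lit 53) (Steps.bwd (nat_lit 17) (Steps.bwd (nat_lit 11) (Steps.fwd (nat_lit 69632) Steps.nil))) (nat_lit 122) (nat_lit 2),
  Rule.mk (nat_lit 3) (nat_lit 53) (Steps.fwd (nat_lit 49152) (Steps.fwd (nat_lit 12288) (Steps.bwd (nat_lit 12) Steps.nil))) (nat_lit 64) (nat_lit 2),
  Rule.mk (nat_lit 4) (nat_lit 53) (Steps.fwd (nat_lit 49152) (Steps.fwd (nat_lit 16384) (Steps.bwd (nat_lit 12) Steps.nil))) (nat_lit 66) (nat_lit 2),
  Rule.mk (nat_lit 6) (nat_lit 53) (Steps.fwd (nat_lit 49152) (Steps.fwd (nat_lit 24576) (Steps.bwd (nat_lit 12) Steps.nil))) (nat_lit 68) (nat_lit 2),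
  Rule.mk (nat_lit 14) (nat_lit 53) (Steps.bwd (nat_lit 17) (Steps.bwd (nat_lit 13) (Steps.fwd (nat_lit 69632) Steps.nil))) (nat_lit 124) (nat_lit 2),
  Rule.mk (nat_lit 16) (nat_lit 53) (Steps.bwd (nat_lit 17) (Steps.bwd (nat_lit 15) (Steps.fwd (nat_lit 69632) Steps.nil))) (nat_lit 126) (nat_lit 2),
  Rule.mk (nat_lit 1) (nat_lit 53) (Steps.bwd (nat_lit 19) (Steps.fwd (nat_lit 4096) (Steps.fwd (nat_lit 77824) Steps.nil))) (nat_lit 128) (nat_lit 2),
  Rule.mk (nat_lit 2) (nat_lit 53) (Steps.bwd (nat_lit 19) (Steps.fwd (nat_lit 8192) (Steps.fwd (nat_lit 77824) Steps.nil))) (nat_lit 130) (nat_lit 2),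
  Rule.mk (nat_lit 4) (nat_lit 53) (Steps.bwd (nat_lit 19) (Steps.fwd (nat_lit 16384) (Steps.fwd (nat_lit 77824) Steps.nil))) (nat_lit 134) (nat_lit 2),
  Rule.mk (nat_lit 6) (nat_lit 53) (Steps.bwd (nat_lit 19) (Steps.bwd (nat_lit 5) (Steps.fwd (nat_lit 77824) Steps.nil))) (nat_lit 136) (nat_lit 2),
  Rule.mk (nat_lit 10) (nat_lit 53) (Steps.bwd (nat_lit 19) (Steps.bwd (nat_lit 9) (Steps.fwd (nat_lit 77824) Steps.nil))) (nat_lit 140) (nat_lit 2),
  Rule.mk (nat_lit 12) (nat_lit 53) (Steps.bwd (nat_lit 19) (Steps.bwd (nat_lit 11) (Steps.fwd (nat_lit 77824) Steps.nil))) (nat_lit 142) (nat_lit 2),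
  Rule.mk (nat_lit 18) (nat_lit 53) (Steps.bwd (nat_lit 19) (Steps.bwd (nat_lit 17) (Steps.fwd (nat_lit 77824) Steps.nil))) (nat_lit 148) (nat_lit 2),
  Rule.mk (nat_lit 1) (nat_lit 53) (Steps.bwd (nat_lit 21) (Steps.fwd (nat_lit 4096) (Steps.fwd (nat_lit 86016) Steps.nil))) (nat_lit 150) (nat_lit 2),
  Rule.mk (nat_lit 2) (nat_lit 53) (Steps.bwd (nat_lit 21) (Steps.fwd (nat_lit 8192) (Steps.fwd (nat_lit 86016) Steps.nil))) (nat_lit 152) (nat_lit 2),
  Rule.mk (nat_lit 10) (nat_lit 53) (Steps.bwd (nat_lit 21) (Steps.bwd (nat_lit 9) (Steps.fwd (nat_lit 86016) Steps.nil))) (nat_lit 162) (nat_lit 2),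
  Rule.mk (nat_lit 12) (nat_lit 53) (Steps.bwd (nat_lit 21) (Steps.bwd (nat_lit 11) (Steps.fwd (nat_lit 86016) Steps.nil))) (nat_lit 164) (nat_lit 2),
  Rule.mk (nat_lit 18) (nat_lit 53) (Steps.bwd (nat_lit 21) (Steps.bwd (nat_lit 17) (Steps.fwd (nat_lit 86016) Steps.nil))) (nat_lit 170) (nat_lit 2),
  Rule.mk (nat_lit 1) (nat_lit 53) (Steps.fwd (nat_lit 73728) (Steps.fwd (nat_lit 4096) (Steps.bwd (nat_lit 18) Steps.nil))) (nat_lit 108) (nat_lit 2),
  Rule.mk (nat_lit 2) (nat_lit 53) (Steps.fwd (nat_lit 73728) (Steps.fwd (nat_lit 8192) (Steps.bwd (nat_lit 18) Steps.nil))) (nat_lit 110) (nat_lit 2),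
  Rule.mk (nat_lit 1) (nat_lit 53) (Steps.bwd (nat_lit 23) (Steps.fwd (nat_lit 4096) (Steps.fwd (nat_lit 94208) Steps.nil))) (nat_lit 174) (nat_lit 2),
  Rule.mk (nat_lit 2) (nat_lit 53) (Steps.bwd (nat_lit 23) (Steps.fwd (nat_lit 8192) (Steps.fwd (nat_lit 94208) Steps.nil))) (nat_lit 176) (nat_lit 2),
  Rule.mk (nat_lit 3) (nat_lit 53) (Steps.bwd (nat_lit 23) (Steps.fwd (nat_lit 12288) (Steps.fwd (nat_lit 94208) Steps.nil))) (nat_lit 178) (nat_lit 2),
  Rule.mk (nat_lit 4) (nat_lit 53) (Steps.bwd (nat_lit 23) (Steps.fwd (nat_lit 16384) (Steps.fwd (nat_lit 94208) Steps.nil))) (nat_lit 180) (nat_lit 2),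
  Rule.mk (nat_lit 6) (nat_lit 53) (Steps.bwd (nat_lit 23) (Steps.bwd (nat_lit 5) (Steps.fwd (nat_lit 94208) Steps.nil))) (nat_lit 182) (nat_lit 2),
  Rule.mk (nat_lit 8) (nat_lit 53) (Steps.bwd (nat_lit 23) (Steps.bwd (nat_lit 7) (Steps.fwd (nat_lit 94208) Steps.nil))) (nat_lit 184) (nat_lit 2),
  Rule.mk (nat_lit 10) (nat_lit 53) (Steps.bwd (nat_lit 23) (Steps.bwd (nat_lit 9) (Steps.fwd (nat_lit 94208) Steps.nil))) (nat_lit 186) (nat_lit 2),
  Rule.mk (nat_lit 12) (nat_lit 53) (Steps.bwd (nat_lit 23) (Steps.bwd (nat_lit 11) (Steps.fwd (nat_lit 94208) Steps.nil))) (nat_lit 188) (nat_lit 2),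
  Rule.mk (nat_lit 16) (nat_lit 53) (Steps.bwd (nat_lit 23) (Steps.bwd (nat_lit 15) (Steps.fwd (nat_lit 94208) Steps.nil))) (nat_lit 192) (nat_lit 2),
  Rule.mk (nat_lit 18) (nat_lit 53) (Steps.bwd (nat_lit 23) (Steps.bwd (nat_lit 17) (Steps.fwd (nat_lit 94208) Steps.nil))) (nat_lit 194) (nat_lit 2),
  Rule.mk (nat_lit 3) (nat_lit 53) (Steps.fwd (nat_lit 73728) (Steps.fwd (nat_lit 12288) (Steps.bwd (nat_lit 18) Steps.nil))) (nat_lit 112) (nat_lit 2),
  Rule.mk (nat_lit 6) (nat_lit 53) (Steps.fwd (nat_lit 73728) (Steps.fwd (nat_lit 24576) (Steps.bwd (nat_lit 18) Steps.nil))) (nat_lit 116) (nat_lit 2),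
  Rule.mk (nat_lit 20) (nat_lit 53) (Steps.bwd (nat_lit 23) (Steps.bwd (nat_lit 19) (Steps.fwd (nat_lit 94208) Steps.nil))) (nat_lit 196) (nat_lit 2),
  Rule.mk (nat_lit 22) (nat_lit 53) (Steps.bwd (nat_lit 23) (Steps.bwd (nat_lit 21) (Steps.fwd (nat_lit 94208) Steps.nil))) (nat_lit 198) (nat_lit 2),
  Rule.mk (nat_lit 1) (nat_lit 53) (Steps.fwd (nat_lit 90112) (Steps.fwd (nat_lit 4096) (Steps.bwd (nat_lit 22) Steps.nil))) (nat_lit 150) (nat_lit 2)]
noncomputable def R_1 : List (Rule) := [Rule.mk (nat_lit 2) (nat_lit 53) (Steps.fwd (nat_lit 90112) (Steps.fwd (nat_lit 8192) (Steps.bwd (nat_lit 22) Steps.nil))) (nat_lit 152) (nat_lit 2),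
  Rule.mk (nat_lit 1) (nat_lit 53) (Steps.bwd (nat_lit 25) (Steps.fwd (nat_lit 4096) (Steps.fwd (nat_lit 102400) Steps.nil))) (nat_lit 202) (nat_lit 2),
  Rule.mk (nat_lit 2) (nat_lit 53) (Steps.bwd (nat_lit 25) (Steps.fwd (nat_lit 8192) (Steps.fwd (nat_lit 102400) Steps.nil))) (nat_lit 204) (nat_lit 2),
  Rule.mk (nat_lit 6) (nat_lit 53) (Steps.bwd (nat_lit 25) (Steps.bwd (nat_lit 5) (Steps.fwd (nat_lit 102400) Steps.nil))) (nat_lit 210) (nat_lit 2),
  Rule.mk (nat_lit 10) (nat_lit 53) (Steps.bwd (nat_lit 25) (Steps.bwd (nat_lit 9) (Steps.fwd (nat_lit 102400) Steps.nil))) (nat_lit 214) (nat_lit 2),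
  Rule.mk (nat_lit 12) (nat_lit 53) (Steps.bwd (nat_lit 25) (Steps.bwd (nat_lit 11) (Steps.fwd (nat_lit 102400) Steps.nil))) (nat_lit 216) (nat_lit 2),
  Rule.mk (nat_lit 20) (nat_lit 53) (Steps.bwd (nat_lit 25) (Steps.bwd (nat_lit 19) (Steps.fwd (nat_lit 102400) Steps.nil))) (nat_lit 224) (nat_lit 2),
  Rule.mk (nat_lit 9) (nat_lit 67) (Steps.bwd (nat_lit 9) (Steps.bwd (nat_lit 2) (Steps.bwd (nat_lit 1) (Steps.bwd (nat_lit 12) Steps.nil)))) (nat_lit 46) (nat_lit 1),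
  Rule.mk (nat_lit 7) (nat_lit 53) (Steps.fwd (nat_lit 36864) (Steps.bwd (nat_lit 7) (Steps.bwd (nat_lit 9) Steps.nil))) (nat_lit 38) (nat_lit 0),
  Rule.mk (nat_lit 4) (nat_lit 53) (Steps.fwd (nat_lit 36864) (Steps.fwd (nat_lit 16384) (Steps.bwd (nat_lit 9) Steps.nil))) (nat_lit 40) (nat_lit 0),
  Rule.mk (nat_lit 12) (nat_lit 53) (Steps.bwd (nat_lit 10) (Steps.bwd (nat_lit 11) (Steps.bwd (nat_lit 9) Steps.nil))) (nat_lit 72) (nat_lit 1),
  Rule.mk (nat_lit 5) (nat_lit 81) (Steps.bwd (nat_lit 9) (Steps.bwd (nat_lit 5) (Steps.fwd (nat_lit 36864) (Steps.bwd (nat_lit 5) (Steps.bwd (nat_lit 9) Steps.nil))))) (nat_lit 42) (nat_lit 4),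
  Rule.mk (nat_lit 3) (nat_lit 151) (Steps.bwd (nat_lit 9) (Steps.bwd (nat_lit 3) (Steps.bwd (nat_lit 4) (Steps.bwd (nat_lit 10) (Steps.bwd (nat_lit 3) (Steps.bwd (nat_lit 9) (Steps.bwd (nat_lit 18) (Steps.fwd (nat_lit 12288) (Steps.fwd (nat_lit 16384) (Steps.fwd (nat_lit 36864) Steps.nil)))))))))) (nat_lit 52) (nat_lit 4),
  Rule.mk (nat_lit 8) (nat_lit 53) (Steps.fwd (nat_lit 12288) (Steps.bwd (nat_lit 7) (Steps.bwd (nat_lit 3) Steps.nil))) (nat_lit 32) (nat_lit 1),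
  Rule.mk (nat_lit 8) (nat_lit 53) (Steps.fwd (nat_lit 36864) (Steps.bwd (nat_lit 8) (Steps.bwd (nat_lit 9) Steps.nil))) (nat_lit 39) (nat_lit 1),
  Rule.mk (nat_lit 7) (nat_lit 53) (Steps.fwd (nat_lit 12288) (Steps.bwd (nat_lit 8) (Steps.bwd (nat_lit 3) Steps.nil))) (nat_lit 32) (nat_lit 3),
  Rule.mk (nat_lit 8) (nat_lit 53) (Steps.fwd (nat_lit 16384) (Steps.bwd (nat_lit 7) (Steps.bwd (nat_lit 4) Steps.nil))) (nat_lit 34) (nat_lit 1),
  Rule.mk (nat_lit 8) (nat_lit 53) (Steps.fwd (nat_lit 40960) (Steps.bwd (nat_lit 8) (Steps.bwd (nat_lit 10) Steps.nil))) (nat_lit 39) (nat_lit 3),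
  Rule.mk (nat_lit 17) (nat_lit 53) (Steps.bwd (nat_lit 9) (Steps.bwd (nat_lit 18) (Steps.fwd (nat_lit 36864) Steps.nil))) (nat_lit 120) (nat_lit 3),
  Rule.mk (nat_lit 18) (nat_lit 53) (Steps.fwd (nat_lit 12288) (Steps.bwd (nat_lit 17) (Steps.fwd (nat_lit 12288) Steps.nil))) (nat_lit 112) (nat_lit 1),
  Rule.mk (nat_lit 4) (nat_lit 53) (Steps.fwd (nat_lit 69632) (Steps.fwd (nat_lit 16384) (Steps.bwd (nat_lit 17) Steps.nil))) (nat_lit 114) (nat_lit 0),
  Rule.mk (nat_lit 17) (nat_lit 53) (Steps.bwd (nat_lit 10) (Steps.bwd (nat_lit 18) (Steps.bwd (nat_lit 9) Steps.nil))) (nat_lit 121) (nat_lit 0),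
  Rule.mk (nat_lit 3) (nat_lit 151) (Steps.fwd (nat_lit 36864) (Steps.fwd (nat_lit 12288) (Steps.fwd (nat_lit 40960) (Steps.fwd (nat_lit 16384) (Steps.fwd (nat_lit 12288) (Steps.bwd (nat_lit 17) (Steps.bwd (nat_lit 10) (Steps.bwd (nat_lit 3) (Steps.bwd (nat_lit 9) (Steps.fwd (nat_lit 16384) Steps.nil)))))))))) (nat_lit 53) (nat_lit 6),
  Rule.mk (nat_lit 1) (nat_lit 53) (Steps.bwd (nat_lit 18) (Steps.fwd (nat_lit 4096) (Steps.fwd (nat_lit 73728) Steps.nil))) (nat_lit 108) (nat_lit 0),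
  Rule.mk (nat_lit 2) (nat_lit 53) (Steps.bwd (nat_lit 18) (Steps.fwd (nat_lit 8192) (Steps.fwd (nat_lit 73728) Steps.nil))) (nat_lit 110) (nat_lit 0),
  Rule.mk (nat_lit 5) (nat_lit 53) (Steps.bwd (nat_lit 18) (Steps.fwd (nat_lit 20480) (Steps.fwd (nat_lit 73728) Steps.nil))) (nat_lit 116) (nat_lit 0),
  Rule.mk (nat_lit 5) (nat_lit 179) (Steps.bwd (nat_lit 5) (Steps.bwd (nat_lit 4) (Steps.bwd (nat_lit 6) (Steps.bwd (nat_lit 6) (Steps.bwd (nat_lit 9) (Steps.bwd (nat_lit 5) (Steps.bwd (nat_lit 5) (Steps.bwd (nat_lit 20) (Steps.fwd (nat_lit 16384) (Steps.fwd (nat_lit 20480) (Steps.fwd (nat_lit 20480) (Steps.fwd (nat_lit 36864) Steps.nil)))))))))))) (nat_lit 54) (nat_lit 5),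
  Rule.mk (nat_lit 11) (nat_lit 53) (Steps.fwd (nat_lit 20480) (Steps.bwd (nat_lit 12) (Steps.bwd (nat_lit 5) Steps.nil))) (nat_lit 69) (nat_lit 0),
  Rule.mk (nat_lit 7) (nat_lit 67) (Steps.fwd (nat_lit 20480) (Steps.fwd (nat_lit 20480) (Steps.fwd (nat_lit 28672) (Steps.bwd (nat_lit 5) Steps.nil)))) (nat_lit 36) (nat_lit 3),
  Rule.mk (nat_lit 0) (nat_lit 193) (Steps.fwd (nat_lit 24576) (Steps.fwd (nat_lit 24576) (Steps.fwd (nat_lit 16384) (Steps.fwd (nat_lit 20480) (Steps.fwd (nat_lit 20480) (Steps.bwd (nat_lit 9) (Steps.bwd (nat_lit 5) (Steps.bwd (nat_lit 5) (Steps.fwd (nat_lit 77824) (Steps.fwd (nat_lit 16384) (Steps.bwd (nat_lit 6) (Steps.bwd (nat_lit 6) (Steps.bwd (nat_lit 10) Steps.nil))))))))))))) (nat_lit 54) (nat_lit 4),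
  Rule.mk (nat_lit 6) (nat_lit 39) (Steps.bwd (nat_lit 0) (Steps.fwd (nat_lit 24576) Steps.nil)) (nat_lit 230) (nat_lit 0),
  Rule.mk (nat_lit 0) (nat_lit 53) (Steps.fwd (nat_lit 36864) (Steps.fwd (nat_lit 0) (Steps.fwd (nat_lit 40960) Steps.nil))) (nat_lit 230) (nat_lit 0),
  Rule.mk (nat_lit 0) (nat_lit 53) (Steps.fwd (nat_lit 20480) (Steps.fwd (nat_lit 0) (Steps.fwd (nat_lit 24576) Steps.nil))) (nat_lit 230) (nat_lit 0),
  Rule.mk (nat_lit 19) (nat_lit 39) (Steps.bwd (nat_lit 0) (Steps.bwd (nat_lit 20) Steps.nil)) (nat_lit 230) (nat_lit 0),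
  Rule.mk (nat_lit 20) (nat_lit 53) (Steps.bwd (nat_lit 9) (Steps.bwd (nat_lit 19) (Steps.bwd (nat_lit 10) Steps.nil))) (nat_lit 141) (nat_lit 2),
  Rule.mk (nat_lit 19) (nat_lit 53) (Steps.bwd (nat_lit 6) (Steps.bwd (nat_lit 20) (Steps.bwd (nat_lit 5) Steps.nil))) (nat_lit 137) (nat_lit 0),
  Rule.mk (nat_lit 20) (nat_lit 53) (Steps.fwd (nat_lit 20480) (Steps.bwd (nat_lit 19) (Steps.fwd (nat_lit 24576) Steps.nil))) (nat_lit 136) (nat_lit 1),
  Rule.mk (nat_lit 7) (nat_lit 53) (Steps.bwd (nat_lit 20) (Steps.fwd (nat_lit 28672) (Steps.bwd (nat_lit 19) Steps.nil))) (nat_lit 138) (nat_lit 0),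
  Rule.mk (nat_lit 4) (nat_lit 53) (Steps.bwd (nat_lit 7) (Steps.fwd (nat_lit 16384) (Steps.fwd (nat_lit 28672) Steps.nil))) (nat_lit 34) (nat_lit 2),
  Rule.mk (nat_lit 6) (nat_lit 193) (Steps.bwd (nat_lit 4) (Steps.bwd (nat_lit 10) (Steps.bwd (nat_lit 6) (Steps.bwd (nat_lit 4) (Steps.bwd (nat_lit 5) (Steps.bwd (nat_lit 9) (Steps.bwd (nat_lit 5) (Steps.fwd (nat_lit 40960) (Steps.fwd (nat_lit 24576) (Steps.bwd (nat_lit 25) (Steps.fwd (nat_lit 20480) (Steps.fwd (nat_lit 16384) (Steps.fwd (nat_lit 36864) Steps.nil))))))))))))) (nat_lit 200) (nat_lit 6),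
  Rule.mk (nat_lit 11) (nat_lit 53) (Steps.bwd (nat_lit 5) (Steps.bwd (nat_lit 12) (Steps.bwd (nat_lit 6) Steps.nil))) (nat_lit 68) (nat_lit 3),
  Rule.mk (nat_lit 9) (nat_lit 81) (Steps.fwd (nat_lit 20480) (Steps.fwd (nat_lit 36864) (Steps.fwd (nat_lit 20480) (Steps.fwd (nat_lit 36864) (Steps.bwd (nat_lit 6) Steps.nil))))) (nat_lit 43) (nat_lit 2),
  Rule.mk (nat_lit 10) (nat_lit 81) (Steps.fwd (nat_lit 20480) (Steps.bwd (nat_lit 9) (Steps.fwd (nat_lit 20480) (Steps.fwd (nat_lit 36864) (Steps.bwd (nat_lit 6) Steps.nil))))) (nat_lit 43) (nat_lit 10),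
  Rule.mk (nat_lit 0) (nat_lit 137) (Steps.fwd (nat_lit 24576) (Steps.bwd (nat_lit 5) (Steps.bwd (nat_lit 4) (Steps.fwd (nat_lit 24576) (Steps.fwd (nat_lit 16384) (Steps.fwd (nat_lit 20480) (Steps.fwd (nat_lit 20480) (Steps.bwd (nat_lit 6) (Steps.bwd (nat_lit 4) Steps.nil))))))))) (nat_lit 25) (nat_lit 4),
  Rule.mk (nat_lit 4) (nat_lit 39) (Steps.bwd (nat_lit 0) (Steps.bwd (nat_lit 4) Steps.nil)) (nat_lit 230) (nat_lit 0),
  Rule.mk (nat_lit 0) (nat_lit 53) (Steps.fwd (nat_lit 40960) (Steps.bwd (nat_lit 0) (Steps.bwd (nat_lit 10) Steps.nil))) (nat_lit 230) (nat_lit 0),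
  Rule.mk (nat_lit 10) (nat_lit 39) (Steps.bwd (nat_lit 0) (Steps.bwd (nat_lit 9) Steps.nil)) (nat_lit 230) (nat_lit 0),
  Rule.mk (nat_lit 12) (nat_lit 39) (Steps.bwd (nat_lit 0) (Steps.bwd (nat_lit 11) Steps.nil)) (nat_lit 230) (nat_lit 0),
  Rule.mk (nat_lit 0) (nat_lit 53) (Steps.fwd (nat_lit 24576) (Steps.fwd (nat_lit 0) (Steps.fwd (nat_lit 20480) Steps.nil))) (nat_lit 230) (nat_lit 0),
  Rule.mk (nat_lit 10) (nat_lit 39) (Steps.bwd (nat_lit 0) (Steps.fwd (nat_lit 40960) Steps.nil)) (nat_lit 230) (nat_lit 0),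
  Rule.mk (nat_lit 0) (nat_lit 53) (Steps.fwd (nat_lit 16384) (Steps.fwd (nat_lit 0) (Steps.fwd (nat_lit 16384) Steps.nil))) (nat_lit 230) (nat_lit 0),
  Rule.mk (nat_lit 0) (nat_lit 53) (Steps.fwd (nat_lit 20480) (Steps.fwd (nat_lit 0) (Steps.bwd (nat_lit 5) Steps.nil))) (nat_lit 230) (nat_lit 0),
  Rule.mk (nat_lit 0) (nat_lit 53) (Steps.bwd (nat_lit 10) (Steps.bwd (nat_lit 0) (Steps.bwd (nat_lit 9) Steps.nil))) (nat_lit 230) (nat_lit 0),
  Rule.mk (nat_lit 4) (nat_lit 53) (Steps.bwd (nat_lit 0) (Steps.fwd (nat_lit 16384) (Steps.fwd (nat_lit 0) Steps.nil))) (nat_lit 230) (nat_lit 0),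
  Rule.mk (nat_lit 0) (nat_lit 53) (Steps.fwd (nat_lit 20480) (Steps.bwd (nat_lit 0) (Steps.fwd (nat_lit 24576) Steps.nil))) (nat_lit 230) (nat_lit 0),
  Rule.mk (nat_lit 9) (nat_lit 39) (Steps.bwd (nat_lit 0) (Steps.bwd (nat_lit 10) Steps.nil)) (nat_lit 230) (nat_lit 0),
  Rule.mk (nat_lit 12) (nat_lit 39) (Steps.bwd (nat_lit 0) (Steps.fwd (nat_lit 49152) Steps.nil)) (nat_lit 230) (nat_lit 0),
  Rule.mk (nat_lit 5) (nat_lit 39) (Steps.bwd (nat_lit 0) (Steps.fwd (nat_lit 20480) Steps.nil)) (nat_lit 230) (nat_lit 0),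
  Rule.mk (nat_lit 0) (nat_lit 53) (Steps.bwd (nat_lit 9) (Steps.fwd (nat_lit 0) (Steps.bwd (nat_lit 10) Steps.nil))) (nat_lit 230) (nat_lit 0),
  Rule.mk (nat_lit 0) (nat_lit 53) (Steps.bwd (nat_lit 10) (Steps.fwd (nat_lit 0) (Steps.bwd (nat_lit 9) Steps.nil))) (nat_lit 230) (nat_lit 0),
  Rule.mk (nat_lit 26) (nat_lit 39) (Steps.bwd (nat_lit 0) (Steps.bwd (nat_lit 25) Steps.nil)) (nat_lit 230) (nat_lit 0),
  Rule.mk (nat_lit 0) (nat_lit 53) (Steps.fwd (nat_lit 81920) (Steps.fwd (nat_lit 0) (Steps.fwd (nat_lit 77824) Steps.nil))) (nat_lit 230) (nat_lit 0),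
  Rule.mk (nat_lit 25) (nat_lit 53) (Steps.fwd (nat_lit 40960) (Steps.bwd (nat_lit 26) (Steps.bwd (nat_lit 10) Steps.nil))) (nat_lit 214) (nat_lit 3),
  Rule.mk (nat_lit 26) (nat_lit 53) (Steps.bwd (nat_lit 6) (Steps.bwd (nat_lit 25) (Steps.fwd (nat_lit 24576) Steps.nil))) (nat_lit 210) (nat_lit 1)]
noncomputable def R_2 : List (Rule) := [Rule.mk (nat_lit 25) (nat_lit 53) (Steps.bwd (nat_lit 4) (Steps.bwd (nat_lit 26) (Steps.fwd (nat_lit 16384) Steps.nil))) (nat_lit 208) (nat_lit 3),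
  Rule.mk (nat_lit 25) (nat_lit 53) (Steps.bwd (nat_lit 6) (Steps.bwd (nat_lit 26) (Steps.fwd (nat_lit 24576) Steps.nil))) (nat_lit 211) (nat_lit 0),
  Rule.mk (nat_lit 26) (nat_lit 53) (Steps.fwd (nat_lit 45056) (Steps.bwd (nat_lit 25) (Steps.bwd (nat_lit 11) Steps.nil))) (nat_lit 216) (nat_lit 1),
  Rule.mk (nat_lit 25) (nat_lit 53) (Steps.bwd (nat_lit 5) (Steps.bwd (nat_lit 26) (Steps.fwd (nat_lit 20480) Steps.nil))) (nat_lit 210) (nat_lit 3),
  Rule.mk (nat_lit 25) (nat_lit 53) (Steps.fwd (nat_lit 36864) (Steps.bwd (nat_lit 26) (Steps.bwd (nat_lit 9) Steps.nil))) (nat_lit 215) (nat_lit 0),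
  Rule.mk (nat_lit 4) (nat_lit 193) (Steps.fwd (nat_lit 36864) (Steps.fwd (nat_lit 20480) (Steps.fwd (nat_lit 16384) (Steps.fwd (nat_lit 36864) (Steps.fwd (nat_lit 20480) (Steps.fwd (nat_lit 16384) (Steps.bwd (nat_lit 5) (Steps.bwd (nat_lit 9) (Steps.bwd (nat_lit 5) (Steps.bwd (nat_lit 9) (Steps.bwd (nat_lit 5) (Steps.bwd (nat_lit 25) (Steps.fwd (nat_lit 20480) Steps.nil))))))))))))) (nat_lit 200) (nat_lit 2),
  Rule.mk (nat_lit 0) (nat_lit 67) (Steps.bwd (nat_lit 11) (Steps.fwd (nat_lit 16384) (Steps.fwd (nat_lit 45056) (Steps.bwd (nat_lit 4) Steps.nil)))) (nat_lit 66) (nat_lit 2),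
  Rule.mk (nat_lit 0) (nat_lit 53) (Steps.fwd (nat_lit 24576) (Steps.bwd (nat_lit 0) (Steps.fwd (nat_lit 20480) Steps.nil))) (nat_lit 230) (nat_lit 0),
  Rule.mk (nat_lit 20) (nat_lit 39) (Steps.bwd (nat_lit 0) (Steps.bwd (nat_lit 19) Steps.nil)) (nat_lit 230) (nat_lit 0),
  Rule.mk (nat_lit 20) (nat_lit 39) (Steps.bwd (nat_lit 0) (Steps.fwd (nat_lit 81920) Steps.nil)) (nat_lit 230) (nat_lit 0),
  Rule.mk (nat_lit 0) (nat_lit 53) (Steps.fwd (nat_lit 73728) (Steps.fwd (nat_lit 0) (Steps.fwd (nat_lit 69632) Steps.nil))) (nat_lit 230) (nat_lit 0),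
  Rule.mk (nat_lit 0) (nat_lit 53) (Steps.bwd (nat_lit 23) (Steps.fwd (nat_lit 0) (Steps.fwd (nat_lit 94208) Steps.nil))) (nat_lit 230) (nat_lit 0),
  Rule.mk (nat_lit 19) (nat_lit 53) (Steps.fwd (nat_lit 36864) (Steps.bwd (nat_lit 20) (Steps.bwd (nat_lit 9) Steps.nil))) (nat_lit 141) (nat_lit 0),
  Rule.mk (nat_lit 19) (nat_lit 53) (Steps.bwd (nat_lit 18) (Steps.bwd (nat_lit 20) (Steps.fwd (nat_lit 73728) Steps.nil))) (nat_lit 149) (nat_lit 0),
  Rule.mk (nat_lit 20) (nat_lit 53) (Steps.bwd (nat_lit 9) (Steps.bwd (nat_lit 19) (Steps.fwd (nat_lit 36864) Steps.nil))) (nat_lit 141) (nat_lit 2),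
  Rule.mk (nat_lit 19) (nat_lit 53) (Steps.bwd (nat_lit 3) (Steps.bwd (nat_lit 20) (Steps.fwd (nat_lit 12288) Steps.nil))) (nat_lit 132) (nat_lit 3),
  Rule.mk (nat_lit 20) (nat_lit 53) (Steps.bwd (nat_lit 10) (Steps.bwd (nat_lit 19) (Steps.fwd (nat_lit 40960) Steps.nil))) (nat_lit 140) (nat_lit 1),
  Rule.mk (nat_lit 20) (nat_lit 53) (Steps.fwd (nat_lit 73728) (Steps.bwd (nat_lit 19) (Steps.bwd (nat_lit 18) Steps.nil))) (nat_lit 149) (nat_lit 2),
  Rule.mk (nat_lit 20) (nat_lit 53) (Steps.fwd (nat_lit 12288) (Steps.bwd (nat_lit 19) (Steps.bwd (nat_lit 3) Steps.nil))) (nat_lit 132) (nat_lit 1),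
  Rule.mk (nat_lit 20) (nat_lit 53) (Steps.fwd (nat_lit 20480) (Steps.bwd (nat_lit 19) (Steps.bwd (nat_lit 5) Steps.nil))) (nat_lit 136) (nat_lit 1),
  Rule.mk (nat_lit 20) (nat_lit 53) (Steps.bwd (nat_lit 5) (Steps.bwd (nat_lit 19) (Steps.fwd (nat_lit 20480) Steps.nil))) (nat_lit 137) (nat_lit 2),
  Rule.mk (nat_lit 19) (nat_lit 53) (Steps.fwd (nat_lit 40960) (Steps.bwd (nat_lit 20) (Steps.bwd (nat_lit 10) Steps.nil))) (nat_lit 140) (nat_lit 3),
  Rule.mk (nat_lit 25) (nat_lit 53) (Steps.bwd (nat_lit 18) (Steps.bwd (nat_lit 26) (Steps.fwd (nat_lit 73728) Steps.nil))) (nat_lit 223) (nat_lit 0),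
  Rule.mk (nat_lit 26) (nat_lit 53) (Steps.bwd (nat_lit 9) (Steps.bwd (nat_lit 25) (Steps.fwd (nat_lit 36864) Steps.nil))) (nat_lit 215) (nat_lit 2),
  Rule.mk (nat_lit 25) (nat_lit 53) (Steps.bwd (nat_lit 3) (Steps.bwd (nat_lit 26) (Steps.fwd (nat_lit 12288) Steps.nil))) (nat_lit 206) (nat_lit 3),
  Rule.mk (nat_lit 26) (nat_lit 53) (Steps.bwd (nat_lit 10) (Steps.bwd (nat_lit 25) (Steps.fwd (nat_lit 40960) Steps.nil))) (nat_lit 214) (nat_lit 1),
  Rule.mk (nat_lit 26) (nat_lit 53) (Steps.fwd (nat_lit 73728) (Steps.bwd (nat_lit 25) (Steps.bwd (nat_lit 18) Steps.nil))) (nat_lit 223) (nat_lit 2),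
  Rule.mk (nat_lit 26) (nat_lit 53) (Steps.fwd (nat_lit 12288) (Steps.bwd (nat_lit 25) (Steps.bwd (nat_lit 3) Steps.nil))) (nat_lit 206) (nat_lit 1),
  Rule.mk (nat_lit 6) (nat_lit 263) (Steps.bwd (nat_lit 10) (Steps.bwd (nat_lit 5) (Steps.bwd (nat_lit 9) (Steps.bwd (nat_lit 6) (Steps.bwd (nat_lit 10) (Steps.bwd (nat_lit 5) (Steps.bwd (nat_lit 9) (Steps.bwd (nat_lit 6) (Steps.bwd (nat_lit 10) (Steps.bwd (nat_lit 5) (Steps.bwd (nat_lit 9) (Steps.bwd (nat_lit 22) (Steps.fwd (nat_lit 4096) (Steps.fwd (nat_lit 8192) (Steps.fwd (nat_lit 20480) (Steps.fwd (nat_lit 36864) (Steps.fwd (nat_lit 24576) (Steps.fwd (nat_lit 40960) Steps.nil)))))))))))))))))) (nat_lit 56) (nat_lit 7),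
  Rule.mk (nat_lit 8) (nat_lit 67) (Steps.bwd (nat_lit 5) (Steps.bwd (nat_lit 7) (Steps.fwd (nat_lit 20480) (Steps.bwd (nat_lit 6) Steps.nil)))) (nat_lit 36) (nat_lit 1),
  Rule.mk (nat_lit 4) (nat_lit 123) (Steps.fwd (nat_lit 24576) (Steps.bwd (nat_lit 5) (Steps.fwd (nat_lit 24576) (Steps.fwd (nat_lit 16384) (Steps.bwd (nat_lit 6) (Steps.fwd (nat_lit 16384) (Steps.fwd (nat_lit 20480) (Steps.bwd (nat_lit 6) Steps.nil)))))))) (nat_lit 24) (nat_lit 8),
  Rule.mk (nat_lit 8) (nat_lit 39) (Steps.fwd (nat_lit 28672) (Steps.bwd (nat_lit 8) Steps.nil)) (nat_lit 27) (nat_lit 0),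
  Rule.mk (nat_lit 19) (nat_lit 53) (Steps.fwd (nat_lit 32768) (Steps.bwd (nat_lit 20) (Steps.bwd (nat_lit 8) Steps.nil))) (nat_lit 138) (nat_lit 3),
  Rule.mk (nat_lit 25) (nat_lit 53) (Steps.fwd (nat_lit 32768) (Steps.bwd (nat_lit 26) (Steps.bwd (nat_lit 8) Steps.nil))) (nat_lit 212) (nat_lit 3),
  Rule.mk (nat_lit 26) (nat_lit 53) (Steps.fwd (nat_lit 20480) (Steps.bwd (nat_lit 25) (Steps.bwd (nat_lit 5) Steps.nil))) (nat_lit 210) (nat_lit 1),
  Rule.mk (nat_lit 26) (nat_lit 53) (Steps.fwd (nat_lit 24576) (Steps.bwd (nat_lit 25) (Steps.bwd (nat_lit 6) Steps.nil))) (nat_lit 211) (nat_lit 2),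
  Rule.mk (nat_lit 20) (nat_lit 53) (Steps.fwd (nat_lit 24576) (Steps.bwd (nat_lit 19) (Steps.bwd (nat_lit 6) Steps.nil))) (nat_lit 137) (nat_lit 2),
  Rule.mk (nat_lit 21) (nat_lit 53) (Steps.bwd (nat_lit 9) (Steps.bwd (nat_lit 22) (Steps.fwd (nat_lit 36864) Steps.nil))) (nat_lit 162) (nat_lit 3),
  Rule.mk (nat_lit 22) (nat_lit 53) (Steps.bwd (nat_lit 5) (Steps.bwd (nat_lit 21) (Steps.fwd (nat_lit 20480) Steps.nil))) (nat_lit 159) (nat_lit 2),
  Rule.mk (nat_lit 21) (nat_lit 53) (Steps.bwd (nat_lit 10) (Steps.bwd (nat_lit 22) (Steps.fwd (nat_lit 40960) Steps.nil))) (nat_lit 163) (nat_lit 0),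
  Rule.mk (nat_lit 2) (nat_lit 53) (Steps.bwd (nat_lit 22) (Steps.fwd (nat_lit 8192) (Steps.fwd (nat_lit 90112) Steps.nil))) (nat_lit 152) (nat_lit 0),
  Rule.mk (nat_lit 5) (nat_lit 585) (Steps.bwd (nat_lit 3) (Steps.bwd (nat_lit 6) (Steps.bwd (nat_lit 6) (Steps.bwd (nat_lit 9) (Steps.bwd (nat_lit 5) (Steps.bwd (nat_lit 5) (Steps.bwd (nat_lit 3) (Steps.bwd (nat_lit 6) (Steps.bwd (nat_lit 6) (Steps.bwd (nat_lit 9) (Steps.bwd (nat_lit 5) (Steps.bwd (nat_lit 5) (Steps.bwd (nat_lit 3) (Steps.bwd (nat_lit 6) (Steps.bwd (nat_lit 6) (Steps.bwd (nat_lit 9) (Steps.bwd (nat_lit 4) (Steps.bwd (nat_lit 3) (Steps.bwd (nat_lit 2) (Steps.bwd (nat_lit 3) (Steps.bwd (nat_lit 4) (Steps.bwd (nat_lit 5) (Steps.bwd (nat_lit 5) (Steps.bwd (nat_lit 5) (Steps.bwd (nat_lit 4) (Steps.bwd (nat_lit 3) (Steps.bwd (nat_lit 2) (Steps.bwd (nat_lit 3) (Steps.bwd (nat_lit 4) (Steps.bwd (nat_lit 6) (Steps.bwd (nat_lit 3) (Steps.bwd (nat_lit 2) (Steps.bwd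 (nat_lit 3) (Steps.bwd (nat_lit 2) (Steps.bwd (nat_lit 1) (Steps.bwd (nat_lit 24) (Steps.fwd (nat_lit 12288) (Steps.fwd (nat_lit 20480) (Steps.fwd (nat_lit 20480) (Steps.bwd (nat_lit 9) (Steps.bwd (nat_lit 5) Steps.nil))))))))))))))))))))))))))))))))))))))))) (nat_lit 58) (nat_lit 6),
  Rule.mk (nat_lit 12) (nat_lit 53) (Steps.bwd (nat_lit 6) (Steps.fwd (nat_lit 49152) (Steps.bwd (nat_lit 5) Steps.nil))) (nat_lit 68) (nat_lit 1),
  Rule.mk (nat_lit 20) (nat_lit 53) (Steps.fwd (nat_lit 20480) (Steps.fwd (nat_lit 81920) (Steps.bwd (nat_lit 5) Steps.nil))) (nat_lit 136) (nat_lit 1),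
  Rule.mk (nat_lit 21) (nat_lit 53) (Steps.bwd (nat_lit 6) (Steps.fwd (nat_lit 86016) (Steps.bwd (nat_lit 5) Steps.nil))) (nat_lit 159) (nat_lit 0),
  Rule.mk (nat_lit 26) (nat_lit 53) (Steps.fwd (nat_lit 20480) (Steps.fwd (nat_lit 106496) (Steps.bwd (nat_lit 5) Steps.nil))) (nat_lit 210) (nat_lit 1),
  Rule.mk (nat_lit 8) (nat_lit 67) (Steps.fwd (nat_lit 20480) (Steps.bwd (nat_lit 7) (Steps.bwd (nat_lit 5) (Steps.bwd (nat_lit 5) Steps.nil)))) (nat_lit 37) (nat_lit 3),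
  Rule.mk (nat_lit 4) (nat_lit 123) (Steps.fwd (nat_lit 20480) (Steps.fwd (nat_lit 16384) (Steps.fwd (nat_lit 20480) (Steps.fwd (nat_lit 20480) (Steps.fwd (nat_lit 16384) (Steps.bwd (nat_lit 5) (Steps.bwd (nat_lit 5) (Steps.bwd (nat_lit 5) Steps.nil)))))))) (nat_lit 24) (nat_lit 1),
  Rule.mk (nat_lit 4) (nat_lit 53) (Steps.fwd (nat_lit 86016) (Steps.fwd (nat_lit 16384) (Steps.bwd (nat_lit 21) Steps.nil))) (nat_lit 156) (nat_lit 0),
  Rule.mk (nat_lit 7) (nat_lit 53) (Steps.fwd (nat_lit 86016) (Steps.bwd (nat_lit 8) (Steps.bwd (nat_lit 21) Steps.nil))) (nat_lit 160) (nat_lit 0),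
  Rule.mk (nat_lit 7) (nat_lit 53) (Steps.fwd (nat_lit 40960) (Steps.bwd (nat_lit 7) (Steps.fwd (nat_lit 36864) Steps.nil))) (nat_lit 38) (nat_lit 2),
  Rule.mk (nat_lit 25) (nat_lit 53) (Steps.fwd (nat_lit 12288) (Steps.bwd (nat_lit 26) (Steps.bwd (nat_lit 3) Steps.nil))) (nat_lit 206) (nat_lit 3),
  Rule.mk (nat_lit 25) (nat_lit 53) (Steps.fwd (nat_lit 24576) (Steps.bwd (nat_lit 26) (Steps.bwd (nat_lit 6) Steps.nil))) (nat_lit 210) (nat_lit 3),
  Rule.mk (nat_lit 26) (nat_lit 53) (Steps.fwd (nat_lit 36864) (Steps.bwd (nat_lit 25) (Steps.bwd (nat_lit 9) Steps.nil))) (nat_lit 214) (nat_lit 1),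
  Rule.mk (nat_lit 25) (nat_lit 53) (Steps.fwd (nat_lit 20480) (Steps.bwd (nat_lit 26) (Steps.bwd (nat_lit 5) Steps.nil))) (nat_lit 211) (nat_lit 0),
  Rule.mk (nat_lit 19) (nat_lit 53) (Steps.fwd (nat_lit 12288) (Steps.bwd (nat_lit 20) (Steps.bwd (nat_lit 3) Steps.nil))) (nat_lit 132) (nat_lit 3),
  Rule.mk (nat_lit 19) (nat_lit 53) (Steps.fwd (nat_lit 24576) (Steps.bwd (nat_lit 20) (Steps.bwd (nat_lit 6) Steps.nil))) (nat_lit 136) (nat_lit 3),
  Rule.mk (nat_lit 20) (nat_lit 53) (Steps.fwd (nat_lit 36864) (Steps.bwd (nat_lit 19) (Steps.bwd (nat_lit 9) Steps.nil))) (nat_lit 140) (nat_lit 1),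
  Rule.mk (nat_lit 19) (nat_lit 53) (Steps.fwd (nat_lit 20480) (Steps.bwd (nat_lit 20) (Steps.bwd (nat_lit 5) Steps.nil))) (nat_lit 137) (nat_lit 0),
  Rule.mk (nat_lit 19) (nat_lit 53) (Steps.fwd (nat_lit 16384) (Steps.bwd (nat_lit 20) (Steps.bwd (nat_lit 4) Steps.nil))) (nat_lit 134) (nat_lit 3),
  Rule.mk (nat_lit 19) (nat_lit 53) (Steps.fwd (nat_lit 8192) (Steps.bwd (nat_lit 20) (Steps.bwd (nat_lit 2) Steps.nil))) (nat_lit 130) (nat_lit 3),
  Rule.mk (nat_lit 20) (nat_lit 53) (Steps.fwd (nat_lit 8192) (Steps.bwd (nat_lit 19) (Steps.bwd (nat_lit 2) Steps.nil))) (nat_lit 130) (nat_lit 1),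
  Rule.mk (nat_lit 19) (nat_lit 53) (Steps.fwd (nat_lit 4096) (Steps.bwd (nat_lit 20) (Steps.bwd (nat_lit 1) Steps.nil))) (nat_lit 128) (nat_lit 3),
  Rule.mk (nat_lit 0) (nat_lit 67) (Steps.bwd (nat_lit 1) (Steps.bwd (nat_lit 24) (Steps.fwd (nat_lit 4096) (Steps.fwd (nat_lit 98304) Steps.nil)))) (nat_lit 174) (nat_lit 3)]
noncomputable def R_3 : List (Rule) := [Rule.mk (nat_lit 1) (nat_lit 39) (Steps.bwd (nat_lit 0) (Steps.bwd (nat_lit 1) Steps.nil)) (nat_lit 230) (nat_lit 0),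
  Rule.mk (nat_lit 2) (nat_lit 39) (Steps.bwd (nat_lit 0) (Steps.fwd (nat_lit 8192) Steps.nil)) (nat_lit 230) (nat_lit 0),
  Rule.mk (nat_lit 0) (nat_lit 67) (Steps.bwd (nat_lit 2) (Steps.bwd (nat_lit 24) (Steps.fwd (nat_lit 8192) (Steps.fwd (nat_lit 98304) Steps.nil)))) (nat_lit 176) (nat_lit 3),
  Rule.mk (nat_lit 2) (nat_lit 39) (Steps.bwd (nat_lit 0) (Steps.bwd (nat_lit 2) Steps.nil)) (nat_lit 230) (nat_lit 0),
  Rule.mk (nat_lit 3) (nat_lit 39) (Steps.bwd (nat_lit 0) (Steps.fwd (nat_lit 12288) Steps.nil)) (nat_lit 230) (nat_lit 0),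
  Rule.mk (nat_lit 0) (nat_lit 67) (Steps.bwd (nat_lit 3) (Steps.bwd (nat_lit 24) (Steps.fwd (nat_lit 12288) (Steps.fwd (nat_lit 98304) Steps.nil)))) (nat_lit 178) (nat_lit 3),
  Rule.mk (nat_lit 0) (nat_lit 53) (Steps.bwd (nat_lit 2) (Steps.fwd (nat_lit 0) (Steps.fwd (nat_lit 8192) Steps.nil))) (nat_lit 230) (nat_lit 0),
  Rule.mk (nat_lit 3) (nat_lit 39) (Steps.bwd (nat_lit 0) (Steps.bwd (nat_lit 3) Steps.nil)) (nat_lit 230) (nat_lit 0),
  Rule.mk (nat_lit 0) (nat_lit 53) (Steps.bwd (nat_lit 3) (Steps.fwd (nat_lit 0) (Steps.fwd (nat_lit 12288) Steps.nil))) (nat_lit 230) (nat_lit 0),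
  Rule.mk (nat_lit 0) (nat_lit 67) (Steps.bwd (nat_lit 6) (Steps.bwd (nat_lit 24) (Steps.bwd (nat_lit 5) (Steps.fwd (nat_lit 98304) Steps.nil)))) (nat_lit 183) (nat_lit 0),
  Rule.mk (nat_lit 4) (nat_lit 39) (Steps.bwd (nat_lit 0) (Steps.fwd (nat_lit 16384) Steps.nil)) (nat_lit 230) (nat_lit 0),
  Rule.mk (nat_lit 5) (nat_lit 39) (Steps.bwd (nat_lit 0) (Steps.bwd (nat_lit 6) Steps.nil)) (nat_lit 230) (nat_lit 0),
  Rule.mk (nat_lit 0) (nat_lit 67) (Steps.bwd (nat_lit 4) (Steps.bwd (nat_lit 24) (Steps.fwd (nat_lit 16384) (Steps.fwd (nat_lit 98304) Steps.nil)))) (nat_lit 180) (nat_lit 3),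
  Rule.mk (nat_lit 0) (nat_lit 53) (Steps.bwd (nat_lit 4) (Steps.fwd (nat_lit 0) (Steps.fwd (nat_lit 16384) Steps.nil))) (nat_lit 230) (nat_lit 0),
  Rule.mk (nat_lit 0) (nat_lit 53) (Steps.bwd (nat_lit 5) (Steps.fwd (nat_lit 0) (Steps.fwd (nat_lit 20480) Steps.nil))) (nat_lit 230) (nat_lit 0),
  Rule.mk (nat_lit 9) (nat_lit 39) (Steps.bwd (nat_lit 0) (Steps.fwd (nat_lit 36864) Steps.nil)) (nat_lit 230) (nat_lit 0),
  Rule.mk (nat_lit 4) (nat_lit 179) (Steps.bwd (nat_lit 6) (Steps.bwd (nat_lit 6) (Steps.bwd (nat_lit 9) (Steps.bwd (nat_lit 5) (Steps.bwd (nat_lit 5) (Steps.fwd (nat_lit 77824) (Steps.fwd (nat_lit 16384) (Steps.fwd (nat_lit 20480) (Steps.fwd (nat_lit 20480) (Steps.fwd (nat_lit 36864) (Steps.fwd (nat_lit 24576) (Steps.fwd (nat_lit 24576) Steps.nil)))))))))))) (nat_lit 54) (nat_lit 7),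
  Rule.mk (nat_lit 23) (nat_lit 53) (Steps.bwd (nat_lit 9) (Steps.bwd (nat_lit 24) (Steps.fwd (nat_lit 36864) Steps.nil))) (nat_lit 186) (nat_lit 3),
  Rule.mk (nat_lit 24) (nat_lit 53) (Steps.bwd (nat_lit 6) (Steps.bwd (nat_lit 23) (Steps.fwd (nat_lit 24576) Steps.nil))) (nat_lit 182) (nat_lit 1),
  Rule.mk (nat_lit 7) (nat_lit 53) (Steps.fwd (nat_lit 94208) (Steps.fwd (nat_lit 28672) (Steps.bwd (nat_lit 23) Steps.nil))) (nat_lit 184) (nat_lit 0),
  Rule.mk (nat_lit 8) (nat_lit 67) (Steps.bwd (nat_lit 6) (Steps.bwd (nat_lit 7) (Steps.fwd (nat_lit 24576) (Steps.fwd (nat_lit 24576) Steps.nil)))) (nat_lit 37) (nat_lit 3),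
  Rule.mk (nat_lit 4) (nat_lit 53) (Steps.fwd (nat_lit 32768) (Steps.fwd (nat_lit 16384) (Steps.bwd (nat_lit 8) Steps.nil))) (nat_lit 34) (nat_lit 2),
  Rule.mk (nat_lit 23) (nat_lit 53) (Steps.bwd (nat_lit 8) (Steps.bwd (nat_lit 24) (Steps.bwd (nat_lit 7) Steps.nil))) (nat_lit 185) (nat_lit 0),
  Rule.mk (nat_lit 2) (nat_lit 53) (Steps.bwd (nat_lit 5) (Steps.fwd (nat_lit 8192) (Steps.fwd (nat_lit 20480) Steps.nil))) (nat_lit 20) (nat_lit 2),
  Rule.mk (nat_lit 15) (nat_lit 53) (Steps.bwd (nat_lit 5) (Steps.bwd (nat_lit 16) (Steps.fwd (nat_lit 20480) Steps.nil))) (nat_lit 98) (nat_lit 3),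
  Rule.mk (nat_lit 2) (nat_lit 67) (Steps.fwd (nat_lit 40960) (Steps.bwd (nat_lit 15) (Steps.fwd (nat_lit 8192) (Steps.bwd (nat_lit 10) Steps.nil)))) (nat_lit 51) (nat_lit 4),
  Rule.mk (nat_lit 0) (nat_lit 67) (Steps.fwd (nat_lit 8192) (Steps.fwd (nat_lit 24576) (Steps.fwd (nat_lit 8192) (Steps.bwd (nat_lit 6) Steps.nil)))) (nat_lit 20) (nat_lit 1),
  Rule.mk (nat_lit 14) (nat_lit 39) (Steps.bwd (nat_lit 0) (Steps.bwd (nat_lit 13) Steps.nil)) (nat_lit 230) (nat_lit 0),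
  Rule.mk (nat_lit 16) (nat_lit 39) (Steps.bwd (nat_lit 0) (Steps.fwd (nat_lit 65536) Steps.nil)) (nat_lit 230) (nat_lit 0),
  Rule.mk (nat_lit 16) (nat_lit 39) (Steps.bwd (nat_lit 0) (Steps.bwd (nat_lit 15) Steps.nil)) (nat_lit 230) (nat_lit 0),
  Rule.mk (nat_lit 0) (nat_lit 53) (Steps.bwd (nat_lit 17) (Steps.fwd (nat_lit 0) (Steps.fwd (nat_lit 69632) Steps.nil))) (nat_lit 230) (nat_lit 0),
  Rule.mk (nat_lit 14) (nat_lit 39) (Steps.bwd (nat_lit 0) (Steps.fwd (nat_lit 57344) Steps.nil)) (nat_lit 230) (nat_lit 0),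
  Rule.mk (nat_lit 2) (nat_lit 53) (Steps.bwd (nat_lit 6) (Steps.fwd (nat_lit 8192) (Steps.fwd (nat_lit 24576) Steps.nil))) (nat_lit 20) (nat_lit 0),
  Rule.mk (nat_lit 2) (nat_lit 53) (Steps.fwd (nat_lit 32768) (Steps.fwd (nat_lit 8192) (Steps.bwd (nat_lit 8) Steps.nil))) (nat_lit 30) (nat_lit 2),
  Rule.mk (nat_lit 2) (nat_lit 53) (Steps.bwd (nat_lit 12) (Steps.fwd (nat_lit 8192) (Steps.fwd (nat_lit 49152) Steps.nil))) (nat_lit 62) (nat_lit 0),
  Rule.mk (nat_lit 2) (nat_lit 53) (Steps.bwd (nat_lit 24) (Steps.fwd (nat_lit 8192) (Steps.fwd (nat_lit 98304) Steps.nil))) (nat_lit 176) (nat_lit 0),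
  Rule.mk (nat_lit 2) (nat_lit 53) (Steps.fwd (nat_lit 24576) (Steps.fwd (nat_lit 8192) (Steps.bwd (nat_lit 6) Steps.nil))) (nat_lit 20) (nat_lit 2),
  Rule.mk (nat_lit 16) (nat_lit 67) (Steps.fwd (nat_lit 36864) (Steps.fwd (nat_lit 8192) (Steps.bwd (nat_lit 9) (Steps.fwd (nat_lit 8192) Steps.nil)))) (nat_lit 50) (nat_lit 0),
  Rule.mk (nat_lit 15) (nat_lit 53) (Steps.bwd (nat_lit 9) (Steps.bwd (nat_lit 16) (Steps.fwd (nat_lit 36864) Steps.nil))) (nat_lit 102) (nat_lit 3),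
  Rule.mk (nat_lit 16) (nat_lit 53) (Steps.bwd (nat_lit 6) (Steps.bwd (nat_lit 15) (Steps.fwd (nat_lit 24576) Steps.nil))) (nat_lit 98) (nat_lit 1),
  Rule.mk (nat_lit 15) (nat_lit 53) (Steps.fwd (nat_lit 98304) (Steps.bwd (nat_lit 16) (Steps.bwd (nat_lit 24) Steps.nil))) (nat_lit 193) (nat_lit 3),
  Rule.mk (nat_lit 16) (nat_lit 53) (Steps.bwd (nat_lit 12) (Steps.bwd (nat_lit 15) (Steps.fwd (nat_lit 49152) Steps.nil))) (nat_lit 104) (nat_lit 1),
  Rule.mk (nat_lit 15) (nat_lit 53) (Steps.fwd (nat_lit 20480) (Steps.bwd (nat_lit 16) (Steps.bwd (nat_lit 5) Steps.nil))) (nat_lit 99) (nat_lit 0),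
  Rule.mk (nat_lit 15) (nat_lit 53) (Steps.fwd (nat_lit 36864) (Steps.bwd (nat_lit 16) (Steps.bwd (nat_lit 9) Steps.nil))) (nat_lit 103) (nat_lit 0),
  Rule.mk (nat_lit 15) (nat_lit 53) (Steps.fwd (nat_lit 86016) (Steps.bwd (nat_lit 16) (Steps.bwd (nat_lit 21) Steps.nil))) (nat_lit 168) (nat_lit 0),
  Rule.mk (nat_lit 16) (nat_lit 53) (Steps.fwd (nat_lit 40960) (Steps.bwd (nat_lit 15) (Steps.bwd (nat_lit 10) Steps.nil))) (nat_lit 103) (nat_lit 2),
  Rule.mk (nat_lit 15) (nat_lit 53) (Steps.bwd (nat_lit 7) (Steps.bwd (nat_lit 16) (Steps.fwd (nat_lit 28672) Steps.nil))) (nat_lit 100) (nat_lit 3),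
  Rule.mk (nat_lit 16) (nat_lit 53) (Steps.bwd (nat_lit 5) (Steps.bwd (nat_lit 15) (Steps.fwd (nat_lit 20480) Steps.nil))) (nat_lit 99) (nat_lit 2),
  Rule.mk (nat_lit 15) (nat_lit 53) (Steps.bwd (nat_lit 10) (Steps.bwd (nat_lit 16) (Steps.fwd (nat_lit 40960) Steps.nil))) (nat_lit 103) (nat_lit 0),
  Rule.mk (nat_lit 16) (nat_lit 53) (Steps.fwd (nat_lit 36864) (Steps.bwd (nat_lit 15) (Steps.bwd (nat_lit 9) Steps.nil))) (nat_lit 102) (nat_lit 1),
  Rule.mk (nat_lit 2) (nat_lit 67) (Steps.bwd (nat_lit 9) (Steps.fwd (nat_lit 8192) (Steps.bwd (nat_lit 16) (Steps.fwd (nat_lit 36864) Steps.nil)))) (nat_lit 50) (nat_lit 2),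
  Rule.mk (nat_lit 2) (nat_lit 53) (Steps.bwd (nat_lit 7) (Steps.fwd (nat_lit 8192) (Steps.fwd (nat_lit 28672) Steps.nil))) (nat_lit 30) (nat_lit 2),
  Rule.mk (nat_lit 2) (nat_lit 67) (Steps.fwd (nat_lit 61440) (Steps.bwd (nat_lit 10) (Steps.fwd (nat_lit 8192) (Steps.fwd (nat_lit 40960) Steps.nil)))) (nat_lit 50) (nat_lit 4),
  Rule.mk (nat_lit 1) (nat_lit 263) (Steps.fwd (nat_lit 8192) (Steps.fwd (nat_lit 20480) (Steps.bwd (nat_lit 10) (Steps.bwd (nat_lit 5) (Steps.bwd (nat_lit 9) (Steps.fwd (nat_lit 20480) (Steps.fwd (nat_lit 36864) (Steps.fwd (nat_lit 24576) (Steps.fwd (nat_lit 40960) (Steps.bwd (nat_lit 6) (Steps.bwd (nat_lit 10) (Steps.bwd (nat_lit 5) (Steps.bwd (nat_lit 9) (Steps.bwd (nat_lit 6) (Steps.bwd (nat_lit 10) (Steps.bwd (nat_lit 5) (Steps.bwd (nat_lit 9) (Steps.fwd (nat_lit 86016) Steps.nil)))))))))))))))))) (nat_lit 56) (nat_lit 1),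
  Rule.mk (nat_lit 1) (nat_lit 53) (Steps.bwd (nat_lit 5) (Steps.fwd (nat_lit 4096) (Steps.fwd (nat_lit 20480) Steps.nil))) (nat_lit 18) (nat_lit 2),
  Rule.mk (nat_lit 1) (nat_lit 53) (Steps.fwd (nat_lit 49152) (Steps.fwd (nat_lit 4096) (Steps.bwd (nat_lit 12) Steps.nil))) (nat_lit 60) (nat_lit 2),
  Rule.mk (nat_lit 1) (nat_lit 53) (Steps.fwd (nat_lit 86016) (Steps.fwd (nat_lit 4096) (Steps.bwd (nat_lit 21) Steps.nil))) (nat_lit 150) (nat_lit 0),
  Rule.mk (nat_lit 1) (nat_lit 53) (Steps.fwd (nat_lit 24576) (Steps.fwd (nat_lit 4096) (Steps.bwd (nat_lit 6) Steps.nil))) (nat_lit 18) (nat_lit 2),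
  Rule.mk (nat_lit 1) (nat_lit 53) (Steps.bwd (nat_lit 8) (Steps.fwd (nat_lit 4096) (Steps.fwd (nat_lit 32768) Steps.nil))) (nat_lit 28) (nat_lit 0),
  Rule.mk (nat_lit 1) (nat_lit 53) (Steps.fwd (nat_lit 94208) (Steps.fwd (nat_lit 4096) (Steps.bwd (nat_lit 23) Steps.nil))) (nat_lit 174) (nat_lit 0),
  Rule.mk (nat_lit 14) (nat_lit 67) (Steps.fwd (nat_lit 36864) (Steps.fwd (nat_lit 4096) (Steps.bwd (nat_lit 9) (Steps.fwd (nat_lit 4096) Steps.nil)))) (nat_lit 48) (nat_lit 0),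
  Rule.mk (nat_lit 13) (nat_lit 53) (Steps.bwd (nat_lit 9) (Steps.bwd (nat_lit 14) (Steps.fwd (nat_lit 36864) Steps.nil))) (nat_lit 86) (nat_lit 3),
  Rule.mk (nat_lit 14) (nat_lit 53) (Steps.bwd (nat_lit 6) (Steps.bwd (nat_lit 13) (Steps.fwd (nat_lit 24576) Steps.nil))) (nat_lit 82) (nat_lit 1),
  Rule.mk (nat_lit 13) (nat_lit 53) (Steps.fwd (nat_lit 98304) (Steps.bwd (nat_lit 14) (Steps.bwd (nat_lit 24) Steps.nil))) (nat_lit 191) (nat_lit 3)]
noncomputable def R_4 : List (Rule) := [Rule.mk (nat_lit 14) (nat_lit 53) (Steps.bwd (nat_lit 12) (Steps.bwd (nat_lit 13) (Steps.fwd (nat_lit 49152) Steps.nil))) (nat_lit 88) (nat_lit 1),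
  Rule.mk (nat_lit 13) (nat_lit 53) (Steps.fwd (nat_lit 20480) (Steps.bwd (nat_lit 14) (Steps.bwd (nat_lit 5) Steps.nil))) (nat_lit 83) (nat_lit 0),
  Rule.mk (nat_lit 13) (nat_lit 53) (Steps.fwd (nat_lit 36864) (Steps.bwd (nat_lit 14) (Steps.bwd (nat_lit 9) Steps.nil))) (nat_lit 87) (nat_lit 0),
  Rule.mk (nat_lit 13) (nat_lit 53) (Steps.fwd (nat_lit 86016) (Steps.bwd (nat_lit 14) (Steps.bwd (nat_lit 21) Steps.nil))) (nat_lit 166) (nat_lit 0),
  Rule.mk (nat_lit 14) (nat_lit 53) (Steps.fwd (nat_lit 40960) (Steps.bwd (nat_lit 13) (Steps.bwd (nat_lit 10) Steps.nil))) (nat_lit 87) (nat_lit 2),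
  Rule.mk (nat_lit 1) (nat_lit 67) (Steps.fwd (nat_lit 40960) (Steps.bwd (nat_lit 13) (Steps.fwd (nat_lit 4096) (Steps.bwd (nat_lit 10) Steps.nil)))) (nat_lit 49) (nat_lit 4),
  Rule.mk (nat_lit 1) (nat_lit 53) (Steps.bwd (nat_lit 7) (Steps.fwd (nat_lit 4096) (Steps.fwd (nat_lit 28672) Steps.nil))) (nat_lit 28) (nat_lit 2),
  Rule.mk (nat_lit 13) (nat_lit 53) (Steps.bwd (nat_lit 7) (Steps.bwd (nat_lit 14) (Steps.fwd (nat_lit 28672) Steps.nil))) (nat_lit 84) (nat_lit 3),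
  Rule.mk (nat_lit 14) (nat_lit 53) (Steps.bwd (nat_lit 5) (Steps.bwd (nat_lit 13) (Steps.fwd (nat_lit 20480) Steps.nil))) (nat_lit 83) (nat_lit 2),
  Rule.mk (nat_lit 13) (nat_lit 53) (Steps.bwd (nat_lit 10) (Steps.bwd (nat_lit 14) (Steps.fwd (nat_lit 40960) Steps.nil))) (nat_lit 87) (nat_lit 0),
  Rule.mk (nat_lit 1) (nat_lit 67) (Steps.bwd (nat_lit 10) (Steps.fwd (nat_lit 4096) (Steps.fwd (nat_lit 40960) (Steps.bwd (nat_lit 13) Steps.nil)))) (nat_lit 49) (nat_lit 2),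
  Rule.mk (nat_lit 1) (nat_lit 53) (Steps.bwd (nat_lit 6) (Steps.fwd (nat_lit 4096) (Steps.fwd (nat_lit 24576) Steps.nil))) (nat_lit 18) (nat_lit 0),
  Rule.mk (nat_lit 1) (nat_lit 67) (Steps.bwd (nat_lit 9) (Steps.fwd (nat_lit 4096) (Steps.bwd (nat_lit 14) (Steps.fwd (nat_lit 36864) Steps.nil)))) (nat_lit 48) (nat_lit 2),
  Rule.mk (nat_lit 1) (nat_lit 67) (Steps.fwd (nat_lit 36864) (Steps.fwd (nat_lit 4096) (Steps.bwd (nat_lit 9) (Steps.bwd (nat_lit 13) Steps.nil)))) (nat_lit 49) (nat_lit 2),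
  Rule.mk (nat_lit 2) (nat_lit 67) (Steps.fwd (nat_lit 4096) (Steps.bwd (nat_lit 12) (Steps.fwd (nat_lit 40960) (Steps.bwd (nat_lit 9) Steps.nil)))) (nat_lit 46) (nat_lit 3),
  Rule.mk (nat_lit 14) (nat_lit 53) (Steps.fwd (nat_lit 12288) (Steps.bwd (nat_lit 13) (Steps.bwd (nat_lit 3) Steps.nil))) (nat_lit 78) (nat_lit 1),
  Rule.mk (nat_lit 13) (nat_lit 53) (Steps.fwd (nat_lit 24576) (Steps.bwd (nat_lit 14) (Steps.bwd (nat_lit 6) Steps.nil))) (nat_lit 82) (nat_lit 3),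
  Rule.mk (nat_lit 14) (nat_lit 53) (Steps.fwd (nat_lit 24576) (Steps.bwd (nat_lit 13) (Steps.bwd (nat_lit 6) Steps.nil))) (nat_lit 83) (nat_lit 2),
  Rule.mk (nat_lit 14) (nat_lit 53) (Steps.fwd (nat_lit 20480) (Steps.bwd (nat_lit 13) (Steps.bwd (nat_lit 5) Steps.nil))) (nat_lit 82) (nat_lit 1),
  Rule.mk (nat_lit 16) (nat_lit 53) (Steps.fwd (nat_lit 12288) (Steps.bwd (nat_lit 15) (Steps.bwd (nat_lit 3) Steps.nil))) (nat_lit 94) (nat_lit 1),
  Rule.mk (nat_lit 15) (nat_lit 53) (Steps.fwd (nat_lit 24576) (Steps.bwd (nat_lit 16) (Steps.bwd (nat_lit 6) Steps.nil))) (nat_lit 98) (nat_lit 3),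
  Rule.mk (nat_lit 16) (nat_lit 53) (Steps.fwd (nat_lit 24576) (Steps.bwd (nat_lit 15) (Steps.bwd (nat_lit 6) Steps.nil))) (nat_lit 99) (nat_lit 2),
  Rule.mk (nat_lit 16) (nat_lit 53) (Steps.fwd (nat_lit 20480) (Steps.bwd (nat_lit 15) (Steps.bwd (nat_lit 5) Steps.nil))) (nat_lit 98) (nat_lit 1),
  Rule.mk (nat_lit 2) (nat_lit 67) (Steps.fwd (nat_lit 40960) (Steps.fwd (nat_lit 8192) (Steps.bwd (nat_lit 16) (Steps.bwd (nat_lit 10) Steps.nil)))) (nat_lit 50) (nat_lit 2),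
  Rule.mk (nat_lit 13) (nat_lit 53) (Steps.fwd (nat_lit 40960) (Steps.bwd (nat_lit 14) (Steps.bwd (nat_lit 10) Steps.nil))) (nat_lit 86) (nat_lit 3),
  Rule.mk (nat_lit 1) (nat_lit 67) (Steps.fwd (nat_lit 40960) (Steps.fwd (nat_lit 4096) (Steps.bwd (nat_lit 14) (Steps.bwd (nat_lit 10) Steps.nil)))) (nat_lit 48) (nat_lit 2),
  Rule.mk (nat_lit 15) (nat_lit 53) (Steps.bwd (nat_lit 18) (Steps.bwd (nat_lit 16) (Steps.fwd (nat_lit 73728) Steps.nil))) (nat_lit 126) (nat_lit 0),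
  Rule.mk (nat_lit 16) (nat_lit 53) (Steps.bwd (nat_lit 9) (Steps.bwd (nat_lit 15) (Steps.fwd (nat_lit 36864) Steps.nil))) (nat_lit 103) (nat_lit 2),
  Rule.mk (nat_lit 15) (nat_lit 53) (Steps.bwd (nat_lit 3) (Steps.bwd (nat_lit 16) (Steps.fwd (nat_lit 12288) Steps.nil))) (nat_lit 94) (nat_lit 3),
  Rule.mk (nat_lit 16) (nat_lit 53) (Steps.bwd (nat_lit 10) (Steps.bwd (nat_lit 15) (Steps.fwd (nat_lit 40960) Steps.nil))) (nat_lit 102) (nat_lit 1),
  Rule.mk (nat_lit 16) (nat_lit 53) (Steps.fwd (nat_lit 73728) (Steps.bwd (nat_lit 15) (Steps.bwd (nat_lit 18) Steps.nil))) (nat_lit 126) (nat_lit 2),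
  Rule.mk (nat_lit 13) (nat_lit 53) (Steps.bwd (nat_lit 18) (Steps.bwd (nat_lit 14) (Steps.fwd (nat_lit 73728) Steps.nil))) (nat_lit 124) (nat_lit 0),
  Rule.mk (nat_lit 14) (nat_lit 53) (Steps.bwd (nat_lit 9) (Steps.bwd (nat_lit 13) (Steps.fwd (nat_lit 36864) Steps.nil))) (nat_lit 87) (nat_lit 2),
  Rule.mk (nat_lit 13) (nat_lit 53) (Steps.bwd (nat_lit 3) (Steps.bwd (nat_lit 14) (Steps.fwd (nat_lit 12288) Steps.nil))) (nat_lit 78) (nat_lit 3),
  Rule.mk (nat_lit 14) (nat_lit 53) (Steps.bwd (nat_lit 10) (Steps.bwd (nat_lit 13) (Steps.fwd (nat_lit 40960) Steps.nil))) (nat_lit 86) (nat_lit 1),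
  Rule.mk (nat_lit 14) (nat_lit 53) (Steps.fwd (nat_lit 73728) (Steps.bwd (nat_lit 13) (Steps.bwd (nat_lit 18) Steps.nil))) (nat_lit 124) (nat_lit 2),
  Rule.mk (nat_lit 15) (nat_lit 53) (Steps.fwd (nat_lit 40960) (Steps.bwd (nat_lit 16) (Steps.bwd (nat_lit 10) Steps.nil))) (nat_lit 102) (nat_lit 3),
  Rule.mk (nat_lit 3) (nat_lit 53) (Steps.bwd (nat_lit 5) (Steps.fwd (nat_lit 12288) (Steps.fwd (nat_lit 24576) Steps.nil))) (nat_lit 22) (nat_lit 0),
  Rule.mk (nat_lit 20) (nat_lit 53) (Steps.fwd (nat_lit 12288) (Steps.fwd (nat_lit 81920) (Steps.bwd (nat_lit 3) Steps.nil))) (nat_lit 132) (nat_lit 1),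
  Rule.mk (nat_lit 26) (nat_lit 53) (Steps.fwd (nat_lit 12288) (Steps.fwd (nat_lit 106496) (Steps.bwd (nat_lit 3) Steps.nil))) (nat_lit 206) (nat_lit 1),
  Rule.mk (nat_lit 9) (nat_lit 81) (Steps.bwd (nat_lit 6) (Steps.bwd (nat_lit 10) (Steps.bwd (nat_lit 6) (Steps.bwd (nat_lit 10) (Steps.bwd (nat_lit 6) Steps.nil))))) (nat_lit 43) (nat_lit 2),
  Rule.mk (nat_lit 10) (nat_lit 53) (Steps.bwd (nat_lit 11) (Steps.fwd (nat_lit 40960) (Steps.fwd (nat_lit 45056) Steps.nil))) (nat_lit 72) (nat_lit 2),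
  Rule.mk (nat_lit 9) (nat_lit 53) (Steps.fwd (nat_lit 49152) (Steps.bwd (nat_lit 10) (Steps.bwd (nat_lit 12) Steps.nil))) (nat_lit 73) (nat_lit 3),
  Rule.mk (nat_lit 13) (nat_lit 53) (Steps.fwd (nat_lit 49152) (Steps.fwd (nat_lit 53248) (Steps.bwd (nat_lit 12) Steps.nil))) (nat_lit 88) (nat_lit 3),
  Rule.mk (nat_lit 3) (nat_lit 53) (Steps.bwd (nat_lit 21) (Steps.fwd (nat_lit 12288) (Steps.fwd (nat_lit 86016) Steps.nil))) (nat_lit 154) (nat_lit 2),
  Rule.mk (nat_lit 6) (nat_lit 53) (Steps.bwd (nat_lit 21) (Steps.bwd (nat_lit 5) (Steps.fwd (nat_lit 86016) Steps.nil))) (nat_lit 158) (nat_lit 2),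
  Rule.mk (nat_lit 9) (nat_lit 53) (Steps.fwd (nat_lit 73728) (Steps.bwd (nat_lit 10) (Steps.bwd (nat_lit 18) Steps.nil))) (nat_lit 121) (nat_lit 3),
  Rule.mk (nat_lit 8) (nat_lit 53) (Steps.fwd (nat_lit 73728) (Steps.bwd (nat_lit 7) (Steps.bwd (nat_lit 18) Steps.nil))) (nat_lit 118) (nat_lit 2),
  Rule.mk (nat_lit 9) (nat_lit 53) (Steps.fwd (nat_lit 90112) (Steps.bwd (nat_lit 10) (Steps.bwd (nat_lit 22) Steps.nil))) (nat_lit 163) (nat_lit 3),
  Rule.mk (nat_lit 3) (nat_lit 81) (Steps.bwd (nat_lit 4) (Steps.fwd (nat_lit 12288) (Steps.fwd (nat_lit 16384) (Steps.bwd (nat_lit 3) (Steps.fwd (nat_lit 16384) Steps.nil))))) (nat_lit 14) (nat_lit 1),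
  Rule.mk (nat_lit 7) (nat_lit 53) (Steps.bwd (nat_lit 4) (Steps.bwd (nat_lit 8) (Steps.fwd (nat_lit 16384) Steps.nil))) (nat_lit 34) (nat_lit 3),
  Rule.mk (nat_lit 13) (nat_lit 53) (Steps.bwd (nat_lit 4) (Steps.bwd (nat_lit 14) (Steps.fwd (nat_lit 16384) Steps.nil))) (nat_lit 80) (nat_lit 3),
  Rule.mk (nat_lit 15) (nat_lit 53) (Steps.bwd (nat_lit 4) (Steps.bwd (nat_lit 16) (Steps.fwd (nat_lit 16384) Steps.nil))) (nat_lit 96) (nat_lit 3),
  Rule.mk (nat_lit 19) (nat_lit 53) (Steps.bwd (nat_lit 4) (Steps.bwd (nat_lit 20) (Steps.fwd (nat_lit 16384) Steps.nil))) (nat_lit 134) (nat_lit 3),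
  Rule.mk (nat_lit 5) (nat_lit 95) (Steps.bwd (nat_lit 5) (Steps.bwd (nat_lit 5) (Steps.fwd (nat_lit 24576) (Steps.bwd (nat_lit 5) (Steps.fwd (nat_lit 24576) (Steps.fwd (nat_lit 24576) Steps.nil)))))) (nat_lit 16) (nat_lit 0),
  Rule.mk (nat_lit 8) (nat_lit 67) (Steps.fwd (nat_lit 20480) (Steps.fwd (nat_lit 32768) (Steps.fwd (nat_lit 24576) (Steps.bwd (nat_lit 5) Steps.nil)))) (nat_lit 37) (nat_lit 3),
  Rule.mk (nat_lit 0) (nat_lit 81) (Steps.fwd (nat_lit 20480) (Steps.fwd (nat_lit 20480) (Steps.fwd (nat_lit 28672) (Steps.fwd (nat_lit 24576) (Steps.fwd (nat_lit 32768) Steps.nil))))) (nat_lit 36) (nat_lit 3),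
  Rule.mk (nat_lit 7) (nat_lit 39) (Steps.bwd (nat_lit 0) (Steps.bwd (nat_lit 8) Steps.nil)) (nat_lit 230) (nat_lit 0),
  Rule.mk (nat_lit 4) (nat_lit 123) (Steps.fwd (nat_lit 20480) (Steps.fwd (nat_lit 16384) (Steps.bwd (nat_lit 6) (Steps.bwd (nat_lit 6) (Steps.fwd (nat_lit 16384) (Steps.fwd (nat_lit 24576) (Steps.fwd (nat_lit 24576) (Steps.bwd (nat_lit 5) Steps.nil)))))))) (nat_lit 24) (nat_lit 1),
  Rule.mk (nat_lit 10) (nat_lit 53) (Steps.fwd (nat_lit 32768) (Steps.bwd (nat_lit 9) (Steps.fwd (nat_lit 32768) Steps.nil))) (nat_lit 38) (nat_lit 1),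
  Rule.mk (nat_lit 12) (nat_lit 67) (Steps.bwd (nat_lit 9) (Steps.bwd (nat_lit 9) (Steps.fwd (nat_lit 8192) (Steps.fwd (nat_lit 4096) Steps.nil)))) (nat_lit 46) (nat_lit 0),
  Rule.mk (nat_lit 10) (nat_lit 81) (Steps.bwd (nat_lit 5) (Steps.bwd (nat_lit 9) (Steps.fwd (nat_lit 24576) (Steps.fwd (nat_lit 40960) (Steps.bwd (nat_lit 5) Steps.nil))))) (nat_lit 42) (nat_lit 1),
  Rule.mk (nat_lit 21) (nat_lit 263) (Steps.fwd (nat_lit 36864) (Steps.fwd (nat_lit 20480) (Steps.bwd (nat_lit 9) (Steps.fwd (nat_lit 24576) (Steps.bwd (nat_lit 10) (Steps.bwd (nat_lit 6) (Steps.bwd (nat_lit 9) (Steps.bwd (nat_lit 5) (Steps.fwd (nat_lit 36864) (Steps.fwd (nat_lit 20480) (Steps.fwd (nat_lit 40960) (Steps.bwd (nat_lit 5) (Steps.bwd (nat_lit 10) (Steps.fwd (nat_lit 20480) (Steps.fwd (nat_lit 40960) (Steps.bwd (nat_lit 5) (Steps.fwd (nat_lit 8192) (Steps.fwd (nat_lit 4096) Steps.nil)))))))))))))))))) (nat_lit 57) (nat_lit 1),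
  Rule.mk (nat_lit 22) (nat_lit 53) (Steps.bwd (nat_lit 5) (Steps.bwd (nat_lit 21) (Steps.bwd (nat_lit 6) Steps.nil))) (nat_lit 159) (nat_lit 2)]
noncomputable def R_5 : List (Rule) := [Rule.mk (nat_lit 21) (nat_lit 53) (Steps.fwd (nat_lit 40960) (Steps.bwd (nat_lit 22) (Steps.bwd (nat_lit 10) Steps.nil))) (nat_lit 162) (nat_lit 3),
  Rule.mk (nat_lit 0) (nat_lit 67) (Steps.bwd (nat_lit 22) (Steps.fwd (nat_lit 40960) (Steps.bwd (nat_lit 21) (Steps.fwd (nat_lit 36864) Steps.nil)))) (nat_lit 163) (nat_lit 1),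
  Rule.mk (nat_lit 21) (nat_lit 39) (Steps.bwd (nat_lit 0) (Steps.bwd (nat_lit 22) Steps.nil)) (nat_lit 230) (nat_lit 0),
  Rule.mk (nat_lit 8) (nat_lit 53) (Steps.bwd (nat_lit 21) (Steps.bwd (nat_lit 7) (Steps.bwd (nat_lit 22) Steps.nil))) (nat_lit 160) (nat_lit 2),
  Rule.mk (nat_lit 0) (nat_lit 95) (Steps.fwd (nat_lit 20480) (Steps.bwd (nat_lit 10) (Steps.bwd (nat_lit 6) (Steps.bwd (nat_lit 9) (Steps.bwd (nat_lit 6) (Steps.fwd (nat_lit 36864) Steps.nil)))))) (nat_lit 43) (nat_lit 8),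
  Rule.mk (nat_lit 11) (nat_lit 39) (Steps.bwd (nat_lit 0) (Steps.bwd (nat_lit 12) Steps.nil)) (nat_lit 230) (nat_lit 0),
  Rule.mk (nat_lit 22) (nat_lit 39) (Steps.bwd (nat_lit 0) (Steps.bwd (nat_lit 21) Steps.nil)) (nat_lit 230) (nat_lit 0),
  Rule.mk (nat_lit 0) (nat_lit 95) (Steps.fwd (nat_lit 36864) (Steps.fwd (nat_lit 20480) (Steps.bwd (nat_lit 9) (Steps.fwd (nat_lit 20480) (Steps.fwd (nat_lit 36864) (Steps.fwd (nat_lit 20480) Steps.nil)))))) (nat_lit 43) (nat_lit 9),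
  Rule.mk (nat_lit 0) (nat_lit 53) (Steps.fwd (nat_lit 24576) (Steps.fwd (nat_lit 0) (Steps.bwd (nat_lit 6) Steps.nil))) (nat_lit 230) (nat_lit 0),
  Rule.mk (nat_lit 0) (nat_lit 53) (Steps.bwd (nat_lit 9) (Steps.bwd (nat_lit 0) (Steps.bwd (nat_lit 10) Steps.nil))) (nat_lit 230) (nat_lit 0),
  Rule.mk (nat_lit 21) (nat_lit 39) (Steps.bwd (nat_lit 0) (Steps.fwd (nat_lit 86016) Steps.nil)) (nat_lit 230) (nat_lit 0),
  Rule.mk (nat_lit 0) (nat_lit 53) (Steps.bwd (nat_lit 21) (Steps.bwd (nat_lit 0) (Steps.fwd (nat_lit 86016) Steps.nil))) (nat_lit 230) (nat_lit 0),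
  Rule.mk (nat_lit 0) (nat_lit 53) (Steps.bwd (nat_lit 21) (Steps.bwd (nat_lit 0) (Steps.bwd (nat_lit 22) Steps.nil))) (nat_lit 230) (nat_lit 0),
  Rule.mk (nat_lit 0) (nat_lit 53) (Steps.bwd (nat_lit 12) (Steps.bwd (nat_lit 0) (Steps.fwd (nat_lit 49152) Steps.nil))) (nat_lit 230) (nat_lit 0),
  Rule.mk (nat_lit 6) (nat_lit 39) (Steps.bwd (nat_lit 0) (Steps.bwd (nat_lit 5) Steps.nil)) (nat_lit 230) (nat_lit 0),
  Rule.mk (nat_lit 12) (nat_lit 53) (Steps.bwd (nat_lit 17) (Steps.bwd (nat_lit 11) (Steps.bwd (nat_lit 18) Steps.nil))) (nat_lit 122) (nat_lit 2),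
  Rule.mk (nat_lit 21) (nat_lit 53) (Steps.fwd (nat_lit 49152) (Steps.bwd (nat_lit 22) (Steps.bwd (nat_lit 12) Steps.nil))) (nat_lit 164) (nat_lit 3),
  Rule.mk (nat_lit 9) (nat_lit 67) (Steps.bwd (nat_lit 9) (Steps.fwd (nat_lit 8192) (Steps.fwd (nat_lit 4096) (Steps.bwd (nat_lit 12) Steps.nil)))) (nat_lit 46) (nat_lit 1),
  Rule.mk (nat_lit 22) (nat_lit 53) (Steps.fwd (nat_lit 40960) (Steps.bwd (nat_lit 21) (Steps.fwd (nat_lit 36864) Steps.nil))) (nat_lit 163) (nat_lit 2),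
  Rule.mk (nat_lit 11) (nat_lit 53) (Steps.bwd (nat_lit 9) (Steps.bwd (nat_lit 12) (Steps.bwd (nat_lit 10) Steps.nil))) (nat_lit 72) (nat_lit 3),
  Rule.mk (nat_lit 21) (nat_lit 53) (Steps.fwd (nat_lit 49152) (Steps.fwd (nat_lit 86016) (Steps.bwd (nat_lit 12) Steps.nil))) (nat_lit 164) (nat_lit 3),
  Rule.mk (nat_lit 12) (nat_lit 53) (Steps.fwd (nat_lit 12288) (Steps.bwd (nat_lit 11) (Steps.bwd (nat_lit 3) Steps.nil))) (nat_lit 64) (nat_lit 1),
  Rule.mk (nat_lit 21) (nat_lit 53) (Steps.bwd (nat_lit 11) (Steps.fwd (nat_lit 86016) (Steps.bwd (nat_lit 12) Steps.nil))) (nat_lit 164) (nat_lit 3),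
  Rule.mk (nat_lit 11) (nat_lit 53) (Steps.fwd (nat_lit 32768) (Steps.bwd (nat_lit 12) (Steps.fwd (nat_lit 28672) Steps.nil))) (nat_lit 70) (nat_lit 3),
  Rule.mk (nat_lit 12) (nat_lit 53) (Steps.bwd (nat_lit 6) (Steps.bwd (nat_lit 11) (Steps.bwd (nat_lit 5) Steps.nil))) (nat_lit 68) (nat_lit 1),
  Rule.mk (nat_lit 8) (nat_lit 53) (Steps.bwd (nat_lit 11) (Steps.fwd (nat_lit 32768) (Steps.bwd (nat_lit 12) Steps.nil))) (nat_lit 70) (nat_lit 2),
  Rule.mk (nat_lit 8) (nat_lit 53) (Steps.bwd (nat_lit 21) (Steps.fwd (nat_lit 32768) (Steps.fwd (nat_lit 86016) Steps.nil))) (nat_lit 160) (nat_lit 2),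
  Rule.mk (nat_lit 12) (nat_lit 53) (Steps.bwd (nat_lit 8) (Steps.fwd (nat_lit 49152) (Steps.fwd (nat_lit 32768) Steps.nil))) (nat_lit 70) (nat_lit 1),
  Rule.mk (nat_lit 21) (nat_lit 53) (Steps.bwd (nat_lit 8) (Steps.fwd (nat_lit 86016) (Steps.fwd (nat_lit 32768) Steps.nil))) (nat_lit 161) (nat_lit 0),
  Rule.mk (nat_lit 0) (nat_lit 81) (Steps.fwd (nat_lit 28672) (Steps.fwd (nat_lit 24576) (Steps.fwd (nat_lit 32768) (Steps.bwd (nat_lit 6) (Steps.bwd (nat_lit 6) Steps.nil))))) (nat_lit 36) (nat_lit 0),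
  Rule.mk (nat_lit 0) (nat_lit 53) (Steps.bwd (nat_lit 6) (Steps.bwd (nat_lit 0) (Steps.bwd (nat_lit 5) Steps.nil))) (nat_lit 230) (nat_lit 0),
  Rule.mk (nat_lit 7) (nat_lit 39) (Steps.bwd (nat_lit 0) (Steps.fwd (nat_lit 28672) Steps.nil)) (nat_lit 230) (nat_lit 0),
  Rule.mk (nat_lit 0) (nat_lit 53) (Steps.fwd (nat_lit 12288) (Steps.fwd (nat_lit 0) (Steps.bwd (nat_lit 3) Steps.nil))) (nat_lit 230) (nat_lit 0),
  Rule.mk (nat_lit 0) (nat_lit 53) (Steps.fwd (nat_lit 40960) (Steps.bwd (nat_lit 0) (Steps.fwd (nat_lit 36864) Steps.nil))) (nat_lit 230) (nat_lit 0),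
  Rule.mk (nat_lit 0) (nat_lit 53) (Steps.bwd (nat_lit 10) (Steps.fwd (nat_lit 0) (Steps.fwd (nat_lit 40960) Steps.nil))) (nat_lit 230) (nat_lit 0),
  Rule.mk (nat_lit 11) (nat_lit 39) (Steps.bwd (nat_lit 0) (Steps.fwd (nat_lit 45056) Steps.nil)) (nat_lit 230) (nat_lit 0),
  Rule.mk (nat_lit 22) (nat_lit 39) (Steps.bwd (nat_lit 0) (Steps.fwd (nat_lit 90112) Steps.nil)) (nat_lit 230) (nat_lit 0),
  Rule.mk (nat_lit 11) (nat_lit 53) (Steps.bwd (nat_lit 7) (Steps.bwd (nat_lit 12) (Steps.bwd (nat_lit 8) Steps.nil))) (nat_lit 70) (nat_lit 3),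
  Rule.mk (nat_lit 3) (nat_lit 53) (Steps.fwd (nat_lit 24576) (Steps.bwd (nat_lit 3) (Steps.bwd (nat_lit 5) Steps.nil))) (nat_lit 22) (nat_lit 0),
  Rule.mk (nat_lit 3) (nat_lit 53) (Steps.bwd (nat_lit 6) (Steps.bwd (nat_lit 3) (Steps.bwd (nat_lit 6) Steps.nil))) (nat_lit 23) (nat_lit 1),
  Rule.mk (nat_lit 7) (nat_lit 53) (Steps.bwd (nat_lit 3) (Steps.bwd (nat_lit 8) (Steps.fwd (nat_lit 12288) Steps.nil))) (nat_lit 32) (nat_lit 3),
  Rule.mk (nat_lit 2) (nat_lit 123) (Steps.bwd (nat_lit 3) (Steps.bwd (nat_lit 2) (Steps.fwd (nat_lit 12288) (Steps.fwd (nat_lit 8192) (Steps.fwd (nat_lit 4096) (Steps.bwd (nat_lit 3) (Steps.fwd (nat_lit 8192) (Steps.fwd (nat_lit 12288) Steps.nil)))))))) (nat_lit 10) (nat_lit 5),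
  Rule.mk (nat_lit 1) (nat_lit 123) (Steps.bwd (nat_lit 3) (Steps.bwd (nat_lit 2) (Steps.fwd (nat_lit 12288) (Steps.fwd (nat_lit 8192) (Steps.bwd (nat_lit 3) (Steps.fwd (nat_lit 8192) (Steps.fwd (nat_lit 12288) (Steps.fwd (nat_lit 8192) Steps.nil)))))))) (nat_lit 10) (nat_lit 1),
  Rule.mk (nat_lit 1) (nat_lit 123) (Steps.fwd (nat_lit 12288) (Steps.fwd (nat_lit 8192) (Steps.bwd (nat_lit 3) (Steps.fwd (nat_lit 8192) (Steps.fwd (nat_lit 12288) (Steps.fwd (nat_lit 8192) (Steps.bwd (nat_lit 3) (Steps.bwd (nat_lit 2) Steps.nil)))))))) (nat_lit 10) (nat_lit 1),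
  Rule.mk (nat_lit 1) (nat_lit 53) (Steps.bwd (nat_lit 4) (Steps.fwd (nat_lit 4096) (Steps.fwd (nat_lit 16384) Steps.nil))) (nat_lit 8) (nat_lit 1),
  Rule.mk (nat_lit 1) (nat_lit 67) (Steps.fwd (nat_lit 53248) (Steps.fwd (nat_lit 36864) (Steps.fwd (nat_lit 4096) (Steps.bwd (nat_lit 9) Steps.nil)))) (nat_lit 48) (nat_lit 4),
  Rule.mk (nat_lit 1) (nat_lit 53) (Steps.fwd (nat_lit 69632) (Steps.fwd (nat_lit 4096) (Steps.bwd (nat_lit 17) Steps.nil))) (nat_lit 108) (nat_lit 0),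
  Rule.mk (nat_lit 7) (nat_lit 53) (Steps.bwd (nat_lit 2) (Steps.bwd (nat_lit 8) (Steps.fwd (nat_lit 8192) Steps.nil))) (nat_lit 30) (nat_lit 3),
  Rule.mk (nat_lit 13) (nat_lit 53) (Steps.bwd (nat_lit 2) (Steps.bwd (nat_lit 14) (Steps.fwd (nat_lit 8192) Steps.nil))) (nat_lit 76) (nat_lit 3),
  Rule.mk (nat_lit 15) (nat_lit 53) (Steps.bwd (nat_lit 2) (Steps.bwd (nat_lit 16) (Steps.fwd (nat_lit 8192) Steps.nil))) (nat_lit 92) (nat_lit 3),
  Rule.mk (nat_lit 19) (nat_lit 53) (Steps.bwd (nat_lit 2) (Steps.bwd (nat_lit 20) (Steps.fwd (nat_lit 8192) Steps.nil))) (nat_lit 130) (nat_lit 3),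
  Rule.mk (nat_lit 25) (nat_lit 53) (Steps.bwd (nat_lit 2) (Steps.bwd (nat_lit 26) (Steps.fwd (nat_lit 8192) Steps.nil))) (nat_lit 204) (nat_lit 3),
  Rule.mk (nat_lit 26) (nat_lit 53) (Steps.bwd (nat_lit 3) (Steps.bwd (nat_lit 25) (Steps.fwd (nat_lit 12288) Steps.nil))) (nat_lit 206) (nat_lit 1),
  Rule.mk (nat_lit 20) (nat_lit 53) (Steps.bwd (nat_lit 3) (Steps.bwd (nat_lit 19) (Steps.fwd (nat_lit 12288) Steps.nil))) (nat_lit 132) (nat_lit 1),
  Rule.mk (nat_lit 16) (nat_lit 53) (Steps.bwd (nat_lit 3) (Steps.bwd (nat_lit 15) (Steps.fwd (nat_lit 12288) Steps.nil))) (nat_lit 94) (nat_lit 1),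
  Rule.mk (nat_lit 14) (nat_lit 53) (Steps.bwd (nat_lit 3) (Steps.bwd (nat_lit 13) (Steps.fwd (nat_lit 12288) Steps.nil))) (nat_lit 78) (nat_lit 1),
  Rule.mk (nat_lit 8) (nat_lit 53) (Steps.bwd (nat_lit 3) (Steps.bwd (nat_lit 7) (Steps.fwd (nat_lit 12288) Steps.nil))) (nat_lit 32) (nat_lit 1),
  Rule.mk (nat_lit 10) (nat_lit 151) (Steps.bwd (nat_lit 3) (Steps.bwd (nat_lit 9) (Steps.bwd (nat_lit 3) (Steps.bwd (nat_lit 4) (Steps.bwd (nat_lit 10) (Steps.bwd (nat_lit 3) (Steps.bwd (nat_lit 9) (Steps.fwd (nat_lit 69632) (Steps.bwd (nat_lit 3) (Steps.fwd (nat_lit 16384) Steps.nil)))))))))) (nat_lit 52) (nat_lit 3),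
  Rule.mk (nat_lit 0) (nat_lit 165) (Steps.fwd (nat_lit 36864) (Steps.fwd (nat_lit 12288) (Steps.fwd (nat_lit 40960) (Steps.bwd (nat_lit 4) (Steps.fwd (nat_lit 12288) (Steps.bwd (nat_lit 10) (Steps.fwd (nat_lit 12288) (Steps.fwd (nat_lit 40960) (Steps.fwd (nat_lit 16384) (Steps.bwd (nat_lit 3) (Steps.fwd (nat_lit 73728) Steps.nil))))))))))) (nat_lit 53) (nat_lit 1),
  Rule.mk (nat_lit 15) (nat_lit 53) (Steps.bwd (nat_lit 9) (Steps.fwd (nat_lit 61440) (Steps.fwd (nat_lit 36864) Steps.nil))) (nat_lit 102) (nat_lit 3),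
  Rule.mk (nat_lit 1) (nat_lit 67) (Steps.bwd (nat_lit 9) (Steps.fwd (nat_lit 4096) (Steps.fwd (nat_lit 53248) (Steps.fwd (nat_lit 36864) Steps.nil)))) (nat_lit 48) (nat_lit 2),
  Rule.mk (nat_lit 17) (nat_lit 53) (Steps.bwd (nat_lit 9) (Steps.fwd (nat_lit 69632) (Steps.bwd (nat_lit 10) Steps.nil))) (nat_lit 120) (nat_lit 3),
  Rule.mk (nat_lit 6) (nat_lit 53) (Steps.fwd (nat_lit 49152) (Steps.bwd (nat_lit 5) (Steps.bwd (nat_lit 12) Steps.nil))) (nat_lit 68) (nat_lit 2),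
  Rule.mk (nat_lit 22) (nat_lit 53) (Steps.bwd (nat_lit 18) (Steps.fwd (nat_lit 90112) (Steps.bwd (nat_lit 17) Steps.nil))) (nat_lit 170) (nat_lit 1)]
noncomputable def R_6 : List (Rule) := [Rule.mk (nat_lit 21) (nat_lit 53) (Steps.bwd (nat_lit 18) (Steps.bwd (nat_lit 22) (Steps.bwd (nat_lit 17) Steps.nil))) (nat_lit 171) (nat_lit 0),
  Rule.mk (nat_lit 9) (nat_lit 263) (Steps.bwd (nat_lit 6) (Steps.fwd (nat_lit 36864) (Steps.fwd (nat_lit 24576) (Steps.fwd (nat_lit 40960) (Steps.bwd (nat_lit 6) (Steps.bwd (nat_lit 10) (Steps.bwd (nat_lit 5) (Steps.fwd (nat_lit 40960) (Steps.bwd (nat_lit 22) (Steps.fwd (nat_lit 4096) (Steps.fwd (nat_lit 8192) (Steps.fwd (nat_lit 20480) (Steps.bwd (nat_lit 10) (Steps.fwd (nat_lit 24576) (Steps.fwd (nat_lit 40960) (Steps.fwd (nat_lit 20480) (Steps.fwd (nat_lit 36864) (Steps.fwd (nat_lit 24576) Steps.nil)))))))))))))))))) (nat_lit 56) (nat_lit 10),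
  Rule.mk (nat_lit 7) (nat_lit 53) (Steps.fwd (nat_lit 36864) (Steps.fwd (nat_lit 32768) (Steps.bwd (nat_lit 9) Steps.nil))) (nat_lit 38) (nat_lit 0),
  Rule.mk (nat_lit 11) (nat_lit 53) (Steps.fwd (nat_lit 36864) (Steps.bwd (nat_lit 12) (Steps.bwd (nat_lit 9) Steps.nil))) (nat_lit 73) (nat_lit 0),
  Rule.mk (nat_lit 21) (nat_lit 53) (Steps.fwd (nat_lit 36864) (Steps.fwd (nat_lit 86016) (Steps.bwd (nat_lit 9) Steps.nil))) (nat_lit 163) (nat_lit 0),
  Rule.mk (nat_lit 9) (nat_lit 67) (Steps.fwd (nat_lit 8192) (Steps.fwd (nat_lit 4096) (Steps.bwd (nat_lit 12) (Steps.bwd (nat_lit 9) Steps.nil)))) (nat_lit 46) (nat_lit 2),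
  Rule.mk (nat_lit 5) (nat_lit 81) (Steps.fwd (nat_lit 36864) (Steps.bwd (nat_lit 5) (Steps.bwd (nat_lit 9) (Steps.fwd (nat_lit 24576) (Steps.bwd (nat_lit 9) Steps.nil))))) (nat_lit 42) (nat_lit 6),
  Rule.mk (nat_lit 6) (nat_lit 585) (Steps.bwd (nat_lit 9) (Steps.bwd (nat_lit 5) (Steps.bwd (nat_lit 5) (Steps.bwd (nat_lit 3) (Steps.bwd (nat_lit 6) (Steps.bwd (nat_lit 6) (Steps.bwd (nat_lit 9) (Steps.bwd (nat_lit 5) (Steps.bwd (nat_lit 5) (Steps.bwd (nat_lit 3) (Steps.bwd (nat_lit 6) (Steps.bwd (nat_lit 6) (Steps.bwd (nat_lit 9) (Steps.bwd (nat_lit 5) (Steps.bwd (nat_lit 5) (Steps.bwd (nat_lit 3) (Steps.bwd (nat_lit 6) (Steps.bwd (nat_lit 6) (Steps.bwd (nat_lit 9) (Steps.bwd (nat_lit 4) (Steps.bwd (nat_lit 3) (Steps.bwd (nat_lit 2) (Steps.bwd (nat_lit 3) (Steps.bwd (nat_lit 4) (Steps.bwd (nat_lit 5) (Steps.bwd (nat_lit 5) (Steps.bwd (nat_lit 5) (Steps.bwd (nat_lit 4) (Steps.bwd (nat_lit 3) (Steps.bwd (nat_lit 2) (Steps.bwd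 (nat_lit 3) (Steps.bwd (nat_lit 4) (Steps.bwd (nat_lit 6) (Steps.bwd (nat_lit 3) (Steps.bwd (nat_lit 2) (Steps.bwd (nat_lit 3) (Steps.fwd (nat_lit 8192) (Steps.fwd (nat_lit 4096) (Steps.fwd (nat_lit 94208) (Steps.bwd (nat_lit 3) (Steps.fwd (nat_lit 20480) Steps.nil))))))))))))))))))))))))))))))))))))))))) (nat_lit 58) (nat_lit 3),
  Rule.mk (nat_lit 8) (nat_lit 67) (Steps.bwd (nat_lit 5) (Steps.fwd (nat_lit 32768) (Steps.fwd (nat_lit 20480) (Steps.bwd (nat_lit 6) Steps.nil)))) (nat_lit 36) (nat_lit 1),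
  Rule.mk (nat_lit 25) (nat_lit 53) (Steps.fwd (nat_lit 16384) (Steps.bwd (nat_lit 26) (Steps.bwd (nat_lit 4) Steps.nil))) (nat_lit 208) (nat_lit 3),
  Rule.mk (nat_lit 25) (nat_lit 53) (Steps.fwd (nat_lit 8192) (Steps.bwd (nat_lit 26) (Steps.bwd (nat_lit 2) Steps.nil))) (nat_lit 204) (nat_lit 3),
  Rule.mk (nat_lit 15) (nat_lit 53) (Steps.fwd (nat_lit 12288) (Steps.bwd (nat_lit 16) (Steps.bwd (nat_lit 3) Steps.nil))) (nat_lit 94) (nat_lit 3),
  Rule.mk (nat_lit 15) (nat_lit 53) (Steps.fwd (nat_lit 16384) (Steps.bwd (nat_lit 16) (Steps.bwd (nat_lit 4) Steps.nil))) (nat_lit 96) (nat_lit 3),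
  Rule.mk (nat_lit 15) (nat_lit 53) (Steps.fwd (nat_lit 8192) (Steps.bwd (nat_lit 16) (Steps.bwd (nat_lit 2) Steps.nil))) (nat_lit 92) (nat_lit 3),
  Rule.mk (nat_lit 14) (nat_lit 53) (Steps.fwd (nat_lit 36864) (Steps.bwd (nat_lit 13) (Steps.bwd (nat_lit 9) Steps.nil))) (nat_lit 86) (nat_lit 1),
  Rule.mk (nat_lit 1) (nat_lit 67) (Steps.bwd (nat_lit 14) (Steps.fwd (nat_lit 36864) (Steps.fwd (nat_lit 4096) (Steps.bwd (nat_lit 9) Steps.nil)))) (nat_lit 48) (nat_lit 4),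
  Rule.mk (nat_lit 1) (nat_lit 53) (Steps.fwd (nat_lit 20480) (Steps.fwd (nat_lit 4096) (Steps.bwd (nat_lit 5) Steps.nil))) (nat_lit 18) (nat_lit 0),
  Rule.mk (nat_lit 13) (nat_lit 53) (Steps.fwd (nat_lit 12288) (Steps.bwd (nat_lit 14) (Steps.bwd (nat_lit 3) Steps.nil))) (nat_lit 78) (nat_lit 3),
  Rule.mk (nat_lit 13) (nat_lit 53) (Steps.fwd (nat_lit 16384) (Steps.bwd (nat_lit 14) (Steps.bwd (nat_lit 4) Steps.nil))) (nat_lit 80) (nat_lit 3),
  Rule.mk (nat_lit 13) (nat_lit 53) (Steps.fwd (nat_lit 8192) (Steps.bwd (nat_lit 14) (Steps.bwd (nat_lit 2) Steps.nil))) (nat_lit 76) (nat_lit 3),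
  Rule.mk (nat_lit 11) (nat_lit 53) (Steps.bwd (nat_lit 3) (Steps.fwd (nat_lit 45056) (Steps.fwd (nat_lit 12288) Steps.nil))) (nat_lit 64) (nat_lit 3),
  Rule.mk (nat_lit 12) (nat_lit 53) (Steps.bwd (nat_lit 3) (Steps.bwd (nat_lit 11) (Steps.fwd (nat_lit 12288) Steps.nil))) (nat_lit 64) (nat_lit 1),
  Rule.mk (nat_lit 21) (nat_lit 53) (Steps.bwd (nat_lit 3) (Steps.fwd (nat_lit 86016) (Steps.fwd (nat_lit 12288) Steps.nil))) (nat_lit 154) (nat_lit 3),
  Rule.mk (nat_lit 22) (nat_lit 53) (Steps.bwd (nat_lit 3) (Steps.bwd (nat_lit 21) (Steps.fwd (nat_lit 12288) Steps.nil))) (nat_lit 154) (nat_lit 1),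
  Rule.mk (nat_lit 24) (nat_lit 53) (Steps.bwd (nat_lit 3) (Steps.bwd (nat_lit 23) (Steps.fwd (nat_lit 12288) Steps.nil))) (nat_lit 178) (nat_lit 1),
  Rule.mk (nat_lit 1) (nat_lit 53) (Steps.bwd (nat_lit 24) (Steps.fwd (nat_lit 4096) (Steps.fwd (nat_lit 98304) Steps.nil))) (nat_lit 174) (nat_lit 0),
  Rule.mk (nat_lit 1) (nat_lit 53) (Steps.bwd (nat_lit 22) (Steps.fwd (nat_lit 4096) (Steps.fwd (nat_lit 90112) Steps.nil))) (nat_lit 150) (nat_lit 0),
  Rule.mk (nat_lit 1) (nat_lit 53) (Steps.fwd (nat_lit 28672) (Steps.fwd (nat_lit 4096) (Steps.bwd (nat_lit 7) Steps.nil))) (nat_lit 28) (nat_lit 0),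
  Rule.mk (nat_lit 2) (nat_lit 123) (Steps.bwd (nat_lit 3) (Steps.bwd (nat_lit 2) (Steps.bwd (nat_lit 3) (Steps.fwd (nat_lit 8192) (Steps.fwd (nat_lit 4096) (Steps.fwd (nat_lit 12288) (Steps.fwd (nat_lit 8192) (Steps.fwd (nat_lit 12288) Steps.nil)))))))) (nat_lit 10) (nat_lit 5),
  Rule.mk (nat_lit 1) (nat_lit 123) (Steps.bwd (nat_lit 3) (Steps.bwd (nat_lit 2) (Steps.bwd (nat_lit 3) (Steps.fwd (nat_lit 8192) (Steps.fwd (nat_lit 12288) (Steps.fwd (nat_lit 8192) (Steps.fwd (nat_lit 12288) (Steps.fwd (nat_lit 8192) Steps.nil)))))))) (nat_lit 10) (nat_lit 1),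
  Rule.mk (nat_lit 1) (nat_lit 123) (Steps.fwd (nat_lit 8192) (Steps.fwd (nat_lit 12288) (Steps.fwd (nat_lit 8192) (Steps.bwd (nat_lit 3) (Steps.bwd (nat_lit 2) (Steps.bwd (nat_lit 3) (Steps.fwd (nat_lit 8192) (Steps.fwd (nat_lit 12288) Steps.nil)))))))) (nat_lit 11) (nat_lit 0),
  Rule.mk (nat_lit 2) (nat_lit 53) (Steps.bwd (nat_lit 4) (Steps.fwd (nat_lit 8192) (Steps.fwd (nat_lit 16384) Steps.nil))) (nat_lit 12) (nat_lit 1),
  Rule.mk (nat_lit 1) (nat_lit 123) (Steps.bwd (nat_lit 3) (Steps.fwd (nat_lit 8192) (Steps.fwd (nat_lit 12288) (Steps.fwd (nat_lit 8192) (Steps.fwd (nat_lit 12288) (Steps.fwd (nat_lit 8192) (Steps.bwd (nat_lit 3) (Steps.bwd (nat_lit 2) Steps.nil)))))))) (nat_lit 10) (nat_lit 1),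
  Rule.mk (nat_lit 23) (nat_lit 53) (Steps.bwd (nat_lit 3) (Steps.fwd (nat_lit 94208) (Steps.bwd (nat_lit 3) Steps.nil))) (nat_lit 178) (nat_lit 3),
  Rule.mk (nat_lit 24) (nat_lit 53) (Steps.bwd (nat_lit 2) (Steps.bwd (nat_lit 23) (Steps.fwd (nat_lit 8192) Steps.nil))) (nat_lit 176) (nat_lit 1),
  Rule.mk (nat_lit 23) (nat_lit 53) (Steps.bwd (nat_lit 3) (Steps.bwd (nat_lit 24) (Steps.fwd (nat_lit 12288) Steps.nil))) (nat_lit 178) (nat_lit 3),
  Rule.mk (nat_lit 7) (nat_lit 53) (Steps.bwd (nat_lit 24) (Steps.fwd (nat_lit 28672) (Steps.fwd (nat_lit 98304) Steps.nil))) (nat_lit 184) (nat_lit 0),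
  Rule.mk (nat_lit 6) (nat_lit 739) (Steps.bwd (nat_lit 4) (Steps.bwd (nat_lit 3) (Steps.bwd (nat_lit 2) (Steps.bwd (nat_lit 3) (Steps.bwd (nat_lit 4) (Steps.bwd (nat_lit 5) (Steps.bwd (nat_lit 4) (Steps.bwd (nat_lit 2) (Steps.bwd (nat_lit 3) (Steps.bwd (nat_lit 4) (Steps.bwd (nat_lit 3) (Steps.bwd (nat_lit 2) (Steps.bwd (nat_lit 3) (Steps.bwd (nat_lit 6) (Steps.bwd (nat_lit 4) (Steps.bwd (nat_lit 3) (Steps.bwd (nat_lit 2) (Steps.bwd (nat_lit 3) (Steps.bwd (nat_lit 4) (Steps.bwd (nat_lit 5) (Steps.bwd (nat_lit 4) (Steps.bwd (nat_lit 5) (Steps.bwd (nat_lit 4) (Steps.bwd (nat_lit 3) (Steps.bwd (nat_lit 2) (Steps.bwd (nat_lit 3) (Steps.bwd (nat_lit 4) (Steps.bwd (nat_lit 5) (Steps.bwd (nat_lit 4) (Steps.bwd (nat_lit 3) (Steps.bwd (nat_lit 2) (Steps.bwd (nat_lit 3) (Steps.bwd (nat_lit 4) (Steps.bwd (nat_lit 6) (Steps.bwd (nat_lit 6) (Steps.bwd (nat_lit 6) (Steps.bwd (nat_lit 4) (Steps.bwd (nat_lit 3) (Steps.bwd (nat_lit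 2) (Steps.bwd (nat_lit 3) (Steps.bwd (nat_lit 4) (Steps.bwd (nat_lit 6) (Steps.bwd (nat_lit 4) (Steps.bwd (nat_lit 3) (Steps.bwd (nat_lit 2) (Steps.bwd (nat_lit 3) (Steps.fwd (nat_lit 16384) (Steps.fwd (nat_lit 24576) (Steps.bwd (nat_lit 5) (Steps.fwd (nat_lit 8192) (Steps.bwd (nat_lit 3) (Steps.fwd (nat_lit 16384) Steps.nil)))))))))))))))))))))))))))))))))))))))))))))))))))) (nat_lit 44) (nat_lit 4),
  Rule.mk (nat_lit 13) (nat_lit 53) (Steps.fwd (nat_lit 24576) (Steps.fwd (nat_lit 53248) (Steps.bwd (nat_lit 6) Steps.nil))) (nat_lit 82) (nat_lit 3),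
  Rule.mk (nat_lit 15) (nat_lit 53) (Steps.fwd (nat_lit 24576) (Steps.fwd (nat_lit 61440) (Steps.bwd (nat_lit 6) Steps.nil))) (nat_lit 98) (nat_lit 3),
  Rule.mk (nat_lit 19) (nat_lit 53) (Steps.fwd (nat_lit 24576) (Steps.fwd (nat_lit 77824) (Steps.bwd (nat_lit 6) Steps.nil))) (nat_lit 136) (nat_lit 3),
  Rule.mk (nat_lit 25) (nat_lit 53) (Steps.fwd (nat_lit 24576) (Steps.fwd (nat_lit 102400) (Steps.bwd (nat_lit 6) Steps.nil))) (nat_lit 210) (nat_lit 3),
  Rule.mk (nat_lit 26) (nat_lit 53) (Steps.fwd (nat_lit 16384) (Steps.bwd (nat_lit 25) (Steps.bwd (nat_lit 4) Steps.nil))) (nat_lit 208) (nat_lit 1),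
  Rule.mk (nat_lit 26) (nat_lit 53) (Steps.fwd (nat_lit 8192) (Steps.bwd (nat_lit 25) (Steps.bwd (nat_lit 2) Steps.nil))) (nat_lit 204) (nat_lit 1),
  Rule.mk (nat_lit 20) (nat_lit 53) (Steps.fwd (nat_lit 16384) (Steps.bwd (nat_lit 19) (Steps.bwd (nat_lit 4) Steps.nil))) (nat_lit 134) (nat_lit 1),
  Rule.mk (nat_lit 16) (nat_lit 53) (Steps.fwd (nat_lit 16384) (Steps.bwd (nat_lit 15) (Steps.bwd (nat_lit 4) Steps.nil))) (nat_lit 96) (nat_lit 1),
  Rule.mk (nat_lit 16) (nat_lit 53) (Steps.fwd (nat_lit 8192) (Steps.bwd (nat_lit 15) (Steps.bwd (nat_lit 2) Steps.nil))) (nat_lit 92) (nat_lit 1),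
  Rule.mk (nat_lit 14) (nat_lit 53) (Steps.fwd (nat_lit 16384) (Steps.bwd (nat_lit 13) (Steps.bwd (nat_lit 4) Steps.nil))) (nat_lit 80) (nat_lit 1),
  Rule.mk (nat_lit 14) (nat_lit 53) (Steps.fwd (nat_lit 8192) (Steps.bwd (nat_lit 13) (Steps.bwd (nat_lit 2) Steps.nil))) (nat_lit 76) (nat_lit 1),
  Rule.mk (nat_lit 1) (nat_lit 53) (Steps.fwd (nat_lit 16384) (Steps.fwd (nat_lit 4096) (Steps.bwd (nat_lit 4) Steps.nil))) (nat_lit 8) (nat_lit 1),
  Rule.mk (nat_lit 9) (nat_lit 53) (Steps.fwd (nat_lit 73728) (Steps.fwd (nat_lit 36864) (Steps.bwd (nat_lit 18) Steps.nil))) (nat_lit 121) (nat_lit 3),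
  Rule.mk (nat_lit 22) (nat_lit 53) (Steps.fwd (nat_lit 73728) (Steps.bwd (nat_lit 21) (Steps.bwd (nat_lit 18) Steps.nil))) (nat_lit 171) (nat_lit 2),
  Rule.mk (nat_lit 9) (nat_lit 151) (Steps.bwd (nat_lit 3) (Steps.bwd (nat_lit 4) (Steps.bwd (nat_lit 10) (Steps.bwd (nat_lit 3) (Steps.bwd (nat_lit 9) (Steps.fwd (nat_lit 69632) (Steps.fwd (nat_lit 12288) (Steps.fwd (nat_lit 16384) (Steps.bwd (nat_lit 10) (Steps.bwd (nat_lit 3) Steps.nil)))))))))) (nat_lit 52) (nat_lit 5),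
  Rule.mk (nat_lit 12) (nat_lit 53) (Steps.fwd (nat_lit 36864) (Steps.bwd (nat_lit 11) (Steps.bwd (nat_lit 9) Steps.nil))) (nat_lit 72) (nat_lit 1),
  Rule.mk (nat_lit 11) (nat_lit 53) (Steps.fwd (nat_lit 36864) (Steps.fwd (nat_lit 45056) (Steps.bwd (nat_lit 9) Steps.nil))) (nat_lit 73) (nat_lit 0),
  Rule.mk (nat_lit 22) (nat_lit 53) (Steps.fwd (nat_lit 36864) (Steps.bwd (nat_lit 21) (Steps.bwd (nat_lit 9) Steps.nil))) (nat_lit 162) (nat_lit 1),
  Rule.mk (nat_lit 21) (nat_lit 53) (Steps.fwd (nat_lit 36864) (Steps.bwd (nat_lit 22) (Steps.bwd (nat_lit 9) Steps.nil))) (nat_lit 163) (nat_lit 0),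
  Rule.mk (nat_lit 9) (nat_lit 67) (Steps.bwd (nat_lit 2) (Steps.fwd (nat_lit 4096) (Steps.fwd (nat_lit 45056) (Steps.bwd (nat_lit 9) Steps.nil)))) (nat_lit 46) (nat_lit 2),
  Rule.mk (nat_lit 22) (nat_lit 53) (Steps.fwd (nat_lit 12288) (Steps.bwd (nat_lit 21) (Steps.bwd (nat_lit 3) Steps.nil))) (nat_lit 154) (nat_lit 1),
  Rule.mk (nat_lit 21) (nat_lit 53) (Steps.fwd (nat_lit 16384) (Steps.bwd (nat_lit 22) (Steps.bwd (nat_lit 4) Steps.nil))) (nat_lit 156) (nat_lit 3),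
  Rule.mk (nat_lit 22) (nat_lit 53) (Steps.fwd (nat_lit 40960) (Steps.bwd (nat_lit 21) (Steps.bwd (nat_lit 10) Steps.nil))) (nat_lit 163) (nat_lit 2),
  Rule.mk (nat_lit 17) (nat_lit 53) (Steps.bwd (nat_lit 21) (Steps.fwd (nat_lit 69632) (Steps.fwd (nat_lit 86016) Steps.nil))) (nat_lit 171) (nat_lit 3),
  Rule.mk (nat_lit 11) (nat_lit 53) (Steps.fwd (nat_lit 69632) (Steps.fwd (nat_lit 45056) (Steps.bwd (nat_lit 17) Steps.nil))) (nat_lit 122) (nat_lit 0),
  Rule.mk (nat_lit 12) (nat_lit 53) (Steps.fwd (nat_lit 69632) (Steps.fwd (nat_lit 49152) (Steps.bwd (nat_lit 17) Steps.nil))) (nat_lit 123) (nat_lit 1)]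
noncomputable def R_7 : List (Rule) := [Rule.mk (nat_lit 22) (nat_lit 53) (Steps.fwd (nat_lit 69632) (Steps.fwd (nat_lit 90112) (Steps.bwd (nat_lit 17) Steps.nil))) (nat_lit 170) (nat_lit 1),
  Rule.mk (nat_lit 21) (nat_lit 53) (Steps.bwd (nat_lit 4) (Steps.bwd (nat_lit 22) (Steps.fwd (nat_lit 16384) Steps.nil))) (nat_lit 156) (nat_lit 3),
  Rule.mk (nat_lit 4) (nat_lit 53) (Steps.bwd (nat_lit 22) (Steps.fwd (nat_lit 16384) (Steps.fwd (nat_lit 90112) Steps.nil))) (nat_lit 156) (nat_lit 0),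
  Rule.mk (nat_lit 9) (nat_lit 53) (Steps.bwd (nat_lit 22) (Steps.fwd (nat_lit 36864) (Steps.bwd (nat_lit 21) Steps.nil))) (nat_lit 162) (nat_lit 0),
  Rule.mk (nat_lit 17) (nat_lit 53) (Steps.bwd (nat_lit 22) (Steps.fwd (nat_lit 69632) (Steps.fwd (nat_lit 90112) Steps.nil))) (nat_lit 170) (nat_lit 0),
  Rule.mk (nat_lit 12) (nat_lit 53) (Steps.fwd (nat_lit 69632) (Steps.bwd (nat_lit 11) (Steps.bwd (nat_lit 17) Steps.nil))) (nat_lit 123) (nat_lit 1),
  Rule.mk (nat_lit 11) (nat_lit 53) (Steps.bwd (nat_lit 3) (Steps.bwd (nat_lit 12) (Steps.fwd (nat_lit 12288) Steps.nil))) (nat_lit 64) (nat_lit 3),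
  Rule.mk (nat_lit 12) (nat_lit 53) (Steps.fwd (nat_lit 90112) (Steps.bwd (nat_lit 11) (Steps.fwd (nat_lit 86016) Steps.nil))) (nat_lit 164) (nat_lit 2),
  Rule.mk (nat_lit 11) (nat_lit 53) (Steps.bwd (nat_lit 4) (Steps.bwd (nat_lit 12) (Steps.fwd (nat_lit 16384) Steps.nil))) (nat_lit 66) (nat_lit 3),
  Rule.mk (nat_lit 6) (nat_lit 585) (Steps.bwd (nat_lit 6) (Steps.bwd (nat_lit 9) (Steps.bwd (nat_lit 5) (Steps.bwd (nat_lit 5) (Steps.bwd (nat_lit 3) (Steps.bwd (nat_lit 6) (Steps.bwd (nat_lit 6) (Steps.bwd (nat_lit 9) (Steps.bwd (nat_lit 5) (Steps.bwd (nat_lit 5) (Steps.bwd (nat_lit 3) (Steps.bwd (nat_lit 6) (Steps.bwd (nat_lit 6) (Steps.bwd (nat_lit 9) (Steps.bwd (nat_lit 4) (Steps.bwd (nat_lit 3) (Steps.bwd (nat_lit 2) (Steps.bwd (nat_lit 3) (Steps.bwd (nat_lit 4) (Steps.bwd (nat_lit 5) (Steps.bwd (nat_lit 5) (Steps.bwd (nat_lit 5) (Steps.bwd (nat_lit 4) (Steps.bwd (nat_lit 3) (Steps.bwd (nat_lit 2) (Steps.bwd (nat_lit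 3) (Steps.bwd (nat_lit 4) (Steps.bwd (nat_lit 6) (Steps.bwd (nat_lit 3) (Steps.bwd (nat_lit 2) (Steps.bwd (nat_lit 3) (Steps.bwd (nat_lit 2) (Steps.bwd (nat_lit 1) (Steps.bwd (nat_lit 24) (Steps.fwd (nat_lit 12288) (Steps.bwd (nat_lit 6) (Steps.bwd (nat_lit 6) (Steps.fwd (nat_lit 40960) (Steps.fwd (nat_lit 24576) (Steps.fwd (nat_lit 24576) (Steps.fwd (nat_lit 12288) Steps.nil))))))))))))))))))))))))))))))))))))))))) (nat_lit 58) (nat_lit 8),
  Rule.mk (nat_lit 3) (nat_lit 53) (Steps.fwd (nat_lit 20480) (Steps.fwd (nat_lit 12288) (Steps.bwd (nat_lit 6) Steps.nil))) (nat_lit 23) (nat_lit 1),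
  Rule.mk (nat_lit 11) (nat_lit 53) (Steps.fwd (nat_lit 24576) (Steps.bwd (nat_lit 12) (Steps.bwd (nat_lit 6) Steps.nil))) (nat_lit 68) (nat_lit 3),
  Rule.mk (nat_lit 12) (nat_lit 53) (Steps.fwd (nat_lit 24576) (Steps.bwd (nat_lit 11) (Steps.bwd (nat_lit 6) Steps.nil))) (nat_lit 69) (nat_lit 2),
  Rule.mk (nat_lit 21) (nat_lit 53) (Steps.fwd (nat_lit 24576) (Steps.bwd (nat_lit 22) (Steps.bwd (nat_lit 6) Steps.nil))) (nat_lit 158) (nat_lit 3),
  Rule.mk (nat_lit 22) (nat_lit 53) (Steps.fwd (nat_lit 24576) (Steps.bwd (nat_lit 21) (Steps.bwd (nat_lit 6) Steps.nil))) (nat_lit 159) (nat_lit 2),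
  Rule.mk (nat_lit 23) (nat_lit 53) (Steps.bwd (nat_lit 5) (Steps.bwd (nat_lit 24) (Steps.bwd (nat_lit 6) Steps.nil))) (nat_lit 182) (nat_lit 3),
  Rule.mk (nat_lit 8) (nat_lit 67) (Steps.fwd (nat_lit 24576) (Steps.fwd (nat_lit 32768) (Steps.bwd (nat_lit 6) (Steps.bwd (nat_lit 6) Steps.nil)))) (nat_lit 36) (nat_lit 1),
  Rule.mk (nat_lit 8) (nat_lit 39) (Steps.bwd (nat_lit 8) (Steps.bwd (nat_lit 8) Steps.nil)) (nat_lit 27) (nat_lit 0),
  Rule.mk (nat_lit 3) (nat_lit 53) (Steps.bwd (nat_lit 8) (Steps.bwd (nat_lit 3) (Steps.fwd (nat_lit 32768) Steps.nil))) (nat_lit 32) (nat_lit 0),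
  Rule.mk (nat_lit 12) (nat_lit 53) (Steps.bwd (nat_lit 8) (Steps.fwd (nat_lit 49152) (Steps.bwd (nat_lit 7) Steps.nil))) (nat_lit 70) (nat_lit 1),
  Rule.mk (nat_lit 11) (nat_lit 53) (Steps.bwd (nat_lit 8) (Steps.fwd (nat_lit 45056) (Steps.bwd (nat_lit 7) Steps.nil))) (nat_lit 71) (nat_lit 0),
  Rule.mk (nat_lit 22) (nat_lit 53) (Steps.bwd (nat_lit 8) (Steps.fwd (nat_lit 90112) (Steps.bwd (nat_lit 7) Steps.nil))) (nat_lit 160) (nat_lit 1),
  Rule.mk (nat_lit 21) (nat_lit 53) (Steps.bwd (nat_lit 8) (Steps.fwd (nat_lit 86016) (Steps.bwd (nat_lit 7) Steps.nil))) (nat_lit 161) (nat_lit 0),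
  Rule.mk (nat_lit 21) (nat_lit 53) (Steps.fwd (nat_lit 20480) (Steps.bwd (nat_lit 22) (Steps.bwd (nat_lit 5) Steps.nil))) (nat_lit 159) (nat_lit 0),
  Rule.mk (nat_lit 13) (nat_lit 53) (Steps.bwd (nat_lit 22) (Steps.fwd (nat_lit 53248) (Steps.fwd (nat_lit 90112) Steps.nil))) (nat_lit 166) (nat_lit 0),
  Rule.mk (nat_lit 22) (nat_lit 53) (Steps.fwd (nat_lit 20480) (Steps.bwd (nat_lit 21) (Steps.bwd (nat_lit 5) Steps.nil))) (nat_lit 158) (nat_lit 1),
  Rule.mk (nat_lit 21) (nat_lit 53) (Steps.fwd (nat_lit 12288) (Steps.bwd (nat_lit 22) (Steps.bwd (nat_lit 3) Steps.nil))) (nat_lit 154) (nat_lit 3),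
  Rule.mk (nat_lit 24) (nat_lit 53) (Steps.fwd (nat_lit 86016) (Steps.bwd (nat_lit 23) (Steps.bwd (nat_lit 21) Steps.nil))) (nat_lit 198) (nat_lit 1),
  Rule.mk (nat_lit 23) (nat_lit 53) (Steps.fwd (nat_lit 20480) (Steps.bwd (nat_lit 24) (Steps.fwd (nat_lit 24576) Steps.nil))) (nat_lit 183) (nat_lit 0),
  Rule.mk (nat_lit 11) (nat_lit 53) (Steps.bwd (nat_lit 24) (Steps.fwd (nat_lit 45056) (Steps.bwd (nat_lit 23) Steps.nil))) (nat_lit 188) (nat_lit 0),
  Rule.mk (nat_lit 12) (nat_lit 53) (Steps.bwd (nat_lit 24) (Steps.fwd (nat_lit 49152) (Steps.bwd (nat_lit 23) Steps.nil))) (nat_lit 189) (nat_lit 1),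
  Rule.mk (nat_lit 22) (nat_lit 53) (Steps.bwd (nat_lit 24) (Steps.fwd (nat_lit 90112) (Steps.bwd (nat_lit 23) Steps.nil))) (nat_lit 199) (nat_lit 1),
  Rule.mk (nat_lit 21) (nat_lit 53) (Steps.bwd (nat_lit 5) (Steps.bwd (nat_lit 22) (Steps.fwd (nat_lit 20480) Steps.nil))) (nat_lit 158) (nat_lit 3),
  Rule.mk (nat_lit 4) (nat_lit 53) (Steps.fwd (nat_lit 90112) (Steps.fwd (nat_lit 16384) (Steps.bwd (nat_lit 22) Steps.nil))) (nat_lit 156) (nat_lit 2),
  Rule.mk (nat_lit 8) (nat_lit 53) (Steps.bwd (nat_lit 21) (Steps.fwd (nat_lit 32768) (Steps.bwd (nat_lit 22) Steps.nil))) (nat_lit 160) (nat_lit 2),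
  Rule.mk (nat_lit 24) (nat_lit 53) (Steps.bwd (nat_lit 21) (Steps.bwd (nat_lit 23) (Steps.bwd (nat_lit 22) Steps.nil))) (nat_lit 199) (nat_lit 2),
  Rule.mk (nat_lit 23) (nat_lit 53) (Steps.fwd (nat_lit 24576) (Steps.bwd (nat_lit 24) (Steps.fwd (nat_lit 20480) Steps.nil))) (nat_lit 182) (nat_lit 3),
  Rule.mk (nat_lit 12) (nat_lit 53) (Steps.bwd (nat_lit 24) (Steps.bwd (nat_lit 11) (Steps.bwd (nat_lit 23) Steps.nil))) (nat_lit 189) (nat_lit 1),
  Rule.mk (nat_lit 21) (nat_lit 53) (Steps.bwd (nat_lit 24) (Steps.fwd (nat_lit 86016) (Steps.bwd (nat_lit 23) Steps.nil))) (nat_lit 198) (nat_lit 0),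
  Rule.mk (nat_lit 2) (nat_lit 53) (Steps.fwd (nat_lit 86016) (Steps.fwd (nat_lit 8192) (Steps.bwd (nat_lit 21) Steps.nil))) (nat_lit 152) (nat_lit 0),
  Rule.mk (nat_lit 24) (nat_lit 53) (Steps.bwd (nat_lit 22) (Steps.bwd (nat_lit 23) (Steps.bwd (nat_lit 21) Steps.nil))) (nat_lit 198) (nat_lit 1),
  Rule.mk (nat_lit 9) (nat_lit 53) (Steps.bwd (nat_lit 24) (Steps.bwd (nat_lit 10) (Steps.fwd (nat_lit 98304) Steps.nil))) (nat_lit 186) (nat_lit 0),
  Rule.mk (nat_lit 0) (nat_lit 67) (Steps.fwd (nat_lit 36864) (Steps.bwd (nat_lit 24) (Steps.fwd (nat_lit 40960) (Steps.fwd (nat_lit 98304) Steps.nil)))) (nat_lit 187) (nat_lit 0),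
  Rule.mk (nat_lit 0) (nat_lit 67) (Steps.bwd (nat_lit 1) (Steps.bwd (nat_lit 21) (Steps.fwd (nat_lit 4096) (Steps.fwd (nat_lit 86016) Steps.nil)))) (nat_lit 150) (nat_lit 1),
  Rule.mk (nat_lit 0) (nat_lit 67) (Steps.bwd (nat_lit 2) (Steps.bwd (nat_lit 21) (Steps.fwd (nat_lit 8192) (Steps.fwd (nat_lit 86016) Steps.nil)))) (nat_lit 152) (nat_lit 1),
  Rule.mk (nat_lit 0) (nat_lit 67) (Steps.bwd (nat_lit 3) (Steps.bwd (nat_lit 21) (Steps.fwd (nat_lit 12288) (Steps.fwd (nat_lit 86016) Steps.nil)))) (nat_lit 154) (nat_lit 1),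
  Rule.mk (nat_lit 0) (nat_lit 67) (Steps.bwd (nat_lit 6) (Steps.bwd (nat_lit 21) (Steps.bwd (nat_lit 5) (Steps.fwd (nat_lit 86016) Steps.nil)))) (nat_lit 158) (nat_lit 1),
  Rule.mk (nat_lit 22) (nat_lit 53) (Steps.bwd (nat_lit 9) (Steps.bwd (nat_lit 21) (Steps.fwd (nat_lit 36864) Steps.nil))) (nat_lit 163) (nat_lit 2),
  Rule.mk (nat_lit 7) (nat_lit 53) (Steps.bwd (nat_lit 24) (Steps.bwd (nat_lit 8) (Steps.fwd (nat_lit 98304) Steps.nil))) (nat_lit 184) (nat_lit 0),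
  Rule.mk (nat_lit 7) (nat_lit 53) (Steps.bwd (nat_lit 12) (Steps.fwd (nat_lit 28672) (Steps.fwd (nat_lit 49152) Steps.nil))) (nat_lit 70) (nat_lit 0),
  Rule.mk (nat_lit 11) (nat_lit 53) (Steps.bwd (nat_lit 9) (Steps.bwd (nat_lit 12) (Steps.fwd (nat_lit 36864) Steps.nil))) (nat_lit 72) (nat_lit 3),
  Rule.mk (nat_lit 12) (nat_lit 53) (Steps.bwd (nat_lit 6) (Steps.bwd (nat_lit 11) (Steps.fwd (nat_lit 24576) Steps.nil))) (nat_lit 68) (nat_lit 1),
  Rule.mk (nat_lit 11) (nat_lit 53) (Steps.bwd (nat_lit 6) (Steps.bwd (nat_lit 12) (Steps.fwd (nat_lit 24576) Steps.nil))) (nat_lit 69) (nat_lit 0),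
  Rule.mk (nat_lit 22) (nat_lit 53) (Steps.bwd (nat_lit 12) (Steps.fwd (nat_lit 90112) (Steps.bwd (nat_lit 11) Steps.nil))) (nat_lit 164) (nat_lit 1),
  Rule.mk (nat_lit 21) (nat_lit 53) (Steps.bwd (nat_lit 6) (Steps.bwd (nat_lit 22) (Steps.fwd (nat_lit 24576) Steps.nil))) (nat_lit 159) (nat_lit 0),
  Rule.mk (nat_lit 11) (nat_lit 53) (Steps.fwd (nat_lit 86016) (Steps.bwd (nat_lit 12) (Steps.bwd (nat_lit 21) Steps.nil))) (nat_lit 164) (nat_lit 0),
  Rule.mk (nat_lit 11) (nat_lit 53) (Steps.bwd (nat_lit 5) (Steps.bwd (nat_lit 12) (Steps.fwd (nat_lit 20480) Steps.nil))) (nat_lit 68) (nat_lit 3),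
  Rule.mk (nat_lit 11) (nat_lit 53) (Steps.bwd (nat_lit 22) (Steps.bwd (nat_lit 12) (Steps.fwd (nat_lit 90112) Steps.nil))) (nat_lit 164) (nat_lit 0),
  Rule.mk (nat_lit 12) (nat_lit 53) (Steps.bwd (nat_lit 5) (Steps.bwd (nat_lit 11) (Steps.fwd (nat_lit 20480) Steps.nil))) (nat_lit 69) (nat_lit 2),
  Rule.mk (nat_lit 12) (nat_lit 53) (Steps.fwd (nat_lit 90112) (Steps.bwd (nat_lit 11) (Steps.bwd (nat_lit 22) Steps.nil))) (nat_lit 164) (nat_lit 2),
  Rule.mk (nat_lit 7) (nat_lit 67) (Steps.fwd (nat_lit 20480) (Steps.fwd (nat_lit 20480) (Steps.bwd (nat_lit 8) (Steps.bwd (nat_lit 5) Steps.nil)))) (nat_lit 36) (nat_lit 3),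
  Rule.mk (nat_lit 6) (nat_lit 53) (Steps.bwd (nat_lit 3) (Steps.fwd (nat_lit 20480) (Steps.bwd (nat_lit 3) Steps.nil))) (nat_lit 23) (nat_lit 0),
  Rule.mk (nat_lit 7) (nat_lit 67) (Steps.fwd (nat_lit 24576) (Steps.fwd (nat_lit 24576) (Steps.bwd (nat_lit 8) (Steps.bwd (nat_lit 6) Steps.nil)))) (nat_lit 37) (nat_lit 0),
  Rule.mk (nat_lit 8) (nat_lit 53) (Steps.bwd (nat_lit 3) (Steps.fwd (nat_lit 32768) (Steps.bwd (nat_lit 3) Steps.nil))) (nat_lit 32) (nat_lit 1)]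
noncomputable def R_8 : List (Rule) := [Rule.mk (nat_lit 7) (nat_lit 53) (Steps.bwd (nat_lit 3) (Steps.fwd (nat_lit 28672) (Steps.bwd (nat_lit 3) Steps.nil))) (nat_lit 32) (nat_lit 3),
  Rule.mk (nat_lit 12) (nat_lit 53) (Steps.fwd (nat_lit 12288) (Steps.fwd (nat_lit 49152) (Steps.bwd (nat_lit 3) Steps.nil))) (nat_lit 64) (nat_lit 1),
  Rule.mk (nat_lit 11) (nat_lit 53) (Steps.fwd (nat_lit 12288) (Steps.bwd (nat_lit 12) (Steps.bwd (nat_lit 3) Steps.nil))) (nat_lit 64) (nat_lit 3),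
  Rule.mk (nat_lit 14) (nat_lit 53) (Steps.fwd (nat_lit 12288) (Steps.fwd (nat_lit 57344) (Steps.bwd (nat_lit 3) Steps.nil))) (nat_lit 78) (nat_lit 1),
  Rule.mk (nat_lit 16) (nat_lit 53) (Steps.fwd (nat_lit 12288) (Steps.fwd (nat_lit 65536) (Steps.bwd (nat_lit 3) Steps.nil))) (nat_lit 94) (nat_lit 1),
  Rule.mk (nat_lit 21) (nat_lit 53) (Steps.fwd (nat_lit 12288) (Steps.fwd (nat_lit 86016) (Steps.bwd (nat_lit 3) Steps.nil))) (nat_lit 154) (nat_lit 3),
  Rule.mk (nat_lit 22) (nat_lit 53) (Steps.fwd (nat_lit 12288) (Steps.fwd (nat_lit 90112) (Steps.bwd (nat_lit 3) Steps.nil))) (nat_lit 154) (nat_lit 1),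
  Rule.mk (nat_lit 10) (nat_lit 53) (Steps.fwd (nat_lit 73728) (Steps.bwd (nat_lit 9) (Steps.bwd (nat_lit 18) Steps.nil))) (nat_lit 120) (nat_lit 2),
  Rule.mk (nat_lit 11) (nat_lit 53) (Steps.bwd (nat_lit 4) (Steps.fwd (nat_lit 45056) (Steps.fwd (nat_lit 16384) Steps.nil))) (nat_lit 66) (nat_lit 3),
  Rule.mk (nat_lit 12) (nat_lit 53) (Steps.bwd (nat_lit 4) (Steps.bwd (nat_lit 11) (Steps.fwd (nat_lit 16384) Steps.nil))) (nat_lit 66) (nat_lit 1),
  Rule.mk (nat_lit 21) (nat_lit 53) (Steps.bwd (nat_lit 4) (Steps.fwd (nat_lit 86016) (Steps.fwd (nat_lit 16384) Steps.nil))) (nat_lit 156) (nat_lit 3),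
  Rule.mk (nat_lit 22) (nat_lit 53) (Steps.bwd (nat_lit 4) (Steps.fwd (nat_lit 90112) (Steps.fwd (nat_lit 16384) Steps.nil))) (nat_lit 156) (nat_lit 1),
  Rule.mk (nat_lit 12) (nat_lit 53) (Steps.bwd (nat_lit 2) (Steps.bwd (nat_lit 11) (Steps.fwd (nat_lit 8192) Steps.nil))) (nat_lit 62) (nat_lit 1),
  Rule.mk (nat_lit 21) (nat_lit 53) (Steps.bwd (nat_lit 2) (Steps.fwd (nat_lit 86016) (Steps.fwd (nat_lit 8192) Steps.nil))) (nat_lit 152) (nat_lit 3),
  Rule.mk (nat_lit 22) (nat_lit 53) (Steps.bwd (nat_lit 2) (Steps.fwd (nat_lit 90112) (Steps.fwd (nat_lit 8192) Steps.nil))) (nat_lit 152) (nat_lit 1),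
  Rule.mk (nat_lit 21) (nat_lit 53) (Steps.bwd (nat_lit 3) (Steps.bwd (nat_lit 22) (Steps.fwd (nat_lit 12288) Steps.nil))) (nat_lit 154) (nat_lit 3),
  Rule.mk (nat_lit 10) (nat_lit 151) (Steps.bwd (nat_lit 3) (Steps.bwd (nat_lit 9) (Steps.bwd (nat_lit 3) (Steps.fwd (nat_lit 16384) (Steps.fwd (nat_lit 36864) (Steps.fwd (nat_lit 12288) (Steps.bwd (nat_lit 9) (Steps.fwd (nat_lit 69632) (Steps.bwd (nat_lit 3) (Steps.fwd (nat_lit 16384) Steps.nil)))))))))) (nat_lit 52) (nat_lit 3),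
  Rule.mk (nat_lit 12) (nat_lit 53) (Steps.fwd (nat_lit 40960) (Steps.bwd (nat_lit 11) (Steps.bwd (nat_lit 10) Steps.nil))) (nat_lit 73) (nat_lit 2),
  Rule.mk (nat_lit 1) (nat_lit 67) (Steps.fwd (nat_lit 40960) (Steps.fwd (nat_lit 4096) (Steps.fwd (nat_lit 53248) (Steps.bwd (nat_lit 10) Steps.nil)))) (nat_lit 48) (nat_lit 2),
  Rule.mk (nat_lit 15) (nat_lit 53) (Steps.fwd (nat_lit 86016) (Steps.fwd (nat_lit 61440) (Steps.bwd (nat_lit 21) Steps.nil))) (nat_lit 168) (nat_lit 0),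
  Rule.mk (nat_lit 2) (nat_lit 67) (Steps.bwd (nat_lit 10) (Steps.fwd (nat_lit 36864) (Steps.bwd (nat_lit 11) (Steps.fwd (nat_lit 4096) Steps.nil)))) (nat_lit 47) (nat_lit 3),
  Rule.mk (nat_lit 2) (nat_lit 53) (Steps.bwd (nat_lit 11) (Steps.bwd (nat_lit 2) (Steps.fwd (nat_lit 45056) Steps.nil))) (nat_lit 62) (nat_lit 2),
  Rule.mk (nat_lit 9) (nat_lit 585) (Steps.bwd (nat_lit 5) (Steps.bwd (nat_lit 5) (Steps.bwd (nat_lit 3) (Steps.bwd (nat_lit 6) (Steps.bwd (nat_lit 6) (Steps.bwd (nat_lit 9) (Steps.bwd (nat_lit 5) (Steps.bwd (nat_lit 5) (Steps.bwd (nat_lit 3) (Steps.bwd (nat_lit 6) (Steps.bwd (nat_lit 6) (Steps.bwd (nat_lit 9) (Steps.bwd (nat_lit 5) (Steps.bwd (nat_lit 5) (Steps.bwd (nat_lit 3) (Steps.bwd (nat_lit 6) (Steps.bwd (nat_lit 6) (Steps.bwd (nat_lit 9) (Steps.bwd (nat_lit 4) (Steps.bwd (nat_lit 3) (Steps.bwd (nat_lit 2) (Steps.bwd (nat_lit 3) (Steps.bwd (nat_lit 4) (Steps.bwd (nat_lit 5) (Steps.bwd (nat_lit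 5) (Steps.bwd (nat_lit 5) (Steps.bwd (nat_lit 4) (Steps.bwd (nat_lit 3) (Steps.bwd (nat_lit 2) (Steps.bwd (nat_lit 3) (Steps.bwd (nat_lit 4) (Steps.bwd (nat_lit 6) (Steps.bwd (nat_lit 3) (Steps.bwd (nat_lit 2) (Steps.bwd (nat_lit 3) (Steps.fwd (nat_lit 8192) (Steps.fwd (nat_lit 4096) (Steps.bwd (nat_lit 24) (Steps.bwd (nat_lit 3) (Steps.fwd (nat_lit 20480) (Steps.bwd (nat_lit 6) Steps.nil))))))))))))))))))))))))))))))))))))))))) (nat_lit 58) (nat_lit 4),
  Rule.mk (nat_lit 8) (nat_lit 53) (Steps.fwd (nat_lit 36864) (Steps.fwd (nat_lit 28672) (Steps.bwd (nat_lit 9) Steps.nil))) (nat_lit 39) (nat_lit 1),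
  Rule.mk (nat_lit 12) (nat_lit 53) (Steps.fwd (nat_lit 36864) (Steps.fwd (nat_lit 49152) (Steps.bwd (nat_lit 9) Steps.nil))) (nat_lit 72) (nat_lit 1),
  Rule.mk (nat_lit 7) (nat_lit 53) (Steps.bwd (nat_lit 21) (Steps.fwd (nat_lit 28672) (Steps.fwd (nat_lit 86016) Steps.nil))) (nat_lit 161) (nat_lit 3),
  Rule.mk (nat_lit 11) (nat_lit 53) (Steps.fwd (nat_lit 28672) (Steps.fwd (nat_lit 45056) (Steps.bwd (nat_lit 7) Steps.nil))) (nat_lit 71) (nat_lit 0),
  Rule.mk (nat_lit 22) (nat_lit 53) (Steps.fwd (nat_lit 28672) (Steps.bwd (nat_lit 21) (Steps.bwd (nat_lit 7) Steps.nil))) (nat_lit 160) (nat_lit 1),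
  Rule.mk (nat_lit 21) (nat_lit 53) (Steps.fwd (nat_lit 8192) (Steps.bwd (nat_lit 22) (Steps.bwd (nat_lit 2) Steps.nil))) (nat_lit 152) (nat_lit 3),
  Rule.mk (nat_lit 7) (nat_lit 53) (Steps.bwd (nat_lit 22) (Steps.bwd (nat_lit 8) (Steps.fwd (nat_lit 90112) Steps.nil))) (nat_lit 160) (nat_lit 0),
  Rule.mk (nat_lit 23) (nat_lit 53) (Steps.bwd (nat_lit 22) (Steps.fwd (nat_lit 94208) (Steps.fwd (nat_lit 90112) Steps.nil))) (nat_lit 199) (nat_lit 0),
  Rule.mk (nat_lit 11) (nat_lit 53) (Steps.fwd (nat_lit 94208) (Steps.fwd (nat_lit 45056) (Steps.bwd (nat_lit 23) Steps.nil))) (nat_lit 188) (nat_lit 0),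
  Rule.mk (nat_lit 12) (nat_lit 53) (Steps.fwd (nat_lit 94208) (Steps.fwd (nat_lit 49152) (Steps.bwd (nat_lit 23) Steps.nil))) (nat_lit 189) (nat_lit 1),
  Rule.mk (nat_lit 21) (nat_lit 53) (Steps.fwd (nat_lit 94208) (Steps.fwd (nat_lit 86016) (Steps.bwd (nat_lit 23) Steps.nil))) (nat_lit 198) (nat_lit 0),
  Rule.mk (nat_lit 22) (nat_lit 53) (Steps.bwd (nat_lit 6) (Steps.bwd (nat_lit 21) (Steps.fwd (nat_lit 24576) Steps.nil))) (nat_lit 158) (nat_lit 1),
  Rule.mk (nat_lit 21) (nat_lit 53) (Steps.bwd (nat_lit 2) (Steps.bwd (nat_lit 22) (Steps.fwd (nat_lit 8192) Steps.nil))) (nat_lit 152) (nat_lit 3),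
  Rule.mk (nat_lit 23) (nat_lit 53) (Steps.bwd (nat_lit 21) (Steps.fwd (nat_lit 94208) (Steps.bwd (nat_lit 22) Steps.nil))) (nat_lit 198) (nat_lit 3),
  Rule.mk (nat_lit 12) (nat_lit 53) (Steps.fwd (nat_lit 94208) (Steps.bwd (nat_lit 11) (Steps.bwd (nat_lit 23) Steps.nil))) (nat_lit 189) (nat_lit 1),
  Rule.mk (nat_lit 11) (nat_lit 53) (Steps.bwd (nat_lit 2) (Steps.bwd (nat_lit 12) (Steps.fwd (nat_lit 8192) Steps.nil))) (nat_lit 62) (nat_lit 3),
  Rule.mk (nat_lit 11) (nat_lit 53) (Steps.fwd (nat_lit 86016) (Steps.bwd (nat_lit 12) (Steps.fwd (nat_lit 90112) Steps.nil))) (nat_lit 164) (nat_lit 0),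
  Rule.mk (nat_lit 12) (nat_lit 53) (Steps.bwd (nat_lit 9) (Steps.bwd (nat_lit 11) (Steps.fwd (nat_lit 36864) Steps.nil))) (nat_lit 73) (nat_lit 2),
  Rule.mk (nat_lit 12) (nat_lit 53) (Steps.bwd (nat_lit 21) (Steps.bwd (nat_lit 11) (Steps.bwd (nat_lit 22) Steps.nil))) (nat_lit 164) (nat_lit 2),
  Rule.mk (nat_lit 11) (nat_lit 53) (Steps.bwd (nat_lit 22) (Steps.bwd (nat_lit 12) (Steps.bwd (nat_lit 21) Steps.nil))) (nat_lit 164) (nat_lit 0),
  Rule.mk (nat_lit 6) (nat_lit 739) (Steps.bwd (nat_lit 4) (Steps.bwd (nat_lit 3) (Steps.bwd (nat_lit 2) (Steps.bwd (nat_lit 3) (Steps.bwd (nat_lit 4) (Steps.bwd (nat_lit 5) (Steps.bwd (nat_lit 4) (Steps.bwd (nat_lit 2) (Steps.bwd (nat_lit 3) (Steps.bwd (nat_lit 4) (Steps.bwd (nat_lit 3) (Steps.bwd (nat_lit 2) (Steps.bwd (nat_lit 3) (Steps.bwd (nat_lit 6) (Steps.bwd (nat_lit 4) (Steps.bwd (nat_lit 3) (Steps.bwd (nat_lit 2) (Steps.bwd (nat_lit 3) (Steps.bwd (nat_lit 4) (Steps.bwd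 (nat_lit 5) (Steps.bwd (nat_lit 4) (Steps.bwd (nat_lit 5) (Steps.bwd (nat_lit 4) (Steps.bwd (nat_lit 3) (Steps.bwd (nat_lit 2) (Steps.bwd (nat_lit 3) (Steps.bwd (nat_lit 4) (Steps.bwd (nat_lit 5) (Steps.bwd (nat_lit 4) (Steps.bwd (nat_lit 3) (Steps.bwd (nat_lit 2) (Steps.bwd (nat_lit 3) (Steps.bwd (nat_lit 4) (Steps.bwd (nat_lit 6) (Steps.bwd (nat_lit 6) (Steps.bwd (nat_lit 6) (Steps.bwd (nat_lit 4) (Steps.bwd (nat_lit 3) (Steps.bwd (nat_lit 2) (Steps.bwd (nat_lit 3) (Steps.bwd (nat_lit 4) (Steps.bwd (nat_lit 6) (Steps.bwd (nat_lit 4) (Steps.bwd (nat_lit 3) (Steps.bwd (nat_lit 2) (Steps.bwd (nat_lit 3) (Steps.fwd (nat_lit 16384) (Steps.bwd (nat_lit 5) (Steps.bwd (nat_lit 5) (Steps.fwd (nat_lit 8192) (Steps.bwd (nat_lit 3) (Steps.fwd (nat_lit 16384) Steps.nil)))))))))))))))))))))))))))))))))))))))))))))))))))) (nat_lit 44) (nat_lit 4),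
  Rule.mk (nat_lit 22) (nat_lit 53) (Steps.fwd (nat_lit 8192) (Steps.bwd (nat_lit 21) (Steps.bwd (nat_lit 2) Steps.nil))) (nat_lit 152) (nat_lit 1),
  Rule.mk (nat_lit 22) (nat_lit 53) (Steps.fwd (nat_lit 16384) (Steps.bwd (nat_lit 21) (Steps.bwd (nat_lit 4) Steps.nil))) (nat_lit 156) (nat_lit 1),
  Rule.mk (nat_lit 5) (nat_lit 53) (Steps.bwd (nat_lit 22) (Steps.bwd (nat_lit 6) (Steps.bwd (nat_lit 21) Steps.nil))) (nat_lit 158) (nat_lit 0),
  Rule.mk (nat_lit 7) (nat_lit 53) (Steps.fwd (nat_lit 86016) (Steps.fwd (nat_lit 28672) (Steps.bwd (nat_lit 21) Steps.nil))) (nat_lit 160) (nat_lit 0),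
  Rule.mk (nat_lit 12) (nat_lit 53) (Steps.bwd (nat_lit 7) (Steps.fwd (nat_lit 49152) (Steps.fwd (nat_lit 28672) Steps.nil))) (nat_lit 71) (nat_lit 2),
  Rule.mk (nat_lit 22) (nat_lit 53) (Steps.bwd (nat_lit 7) (Steps.fwd (nat_lit 90112) (Steps.fwd (nat_lit 28672) Steps.nil))) (nat_lit 161) (nat_lit 2),
  Rule.mk (nat_lit 22) (nat_lit 53) (Steps.bwd (nat_lit 2) (Steps.bwd (nat_lit 21) (Steps.fwd (nat_lit 8192) Steps.nil))) (nat_lit 152) (nat_lit 1),
  Rule.mk (nat_lit 22) (nat_lit 53) (Steps.bwd (nat_lit 4) (Steps.bwd (nat_lit 21) (Steps.fwd (nat_lit 16384) Steps.nil))) (nat_lit 156) (nat_lit 1),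
  Rule.mk (nat_lit 10) (nat_lit 53) (Steps.bwd (nat_lit 17) (Steps.fwd (nat_lit 40960) (Steps.fwd (nat_lit 69632) Steps.nil))) (nat_lit 120) (nat_lit 2),
  Rule.mk (nat_lit 5) (nat_lit 81) (Steps.bwd (nat_lit 9) (Steps.fwd (nat_lit 24576) (Steps.fwd (nat_lit 36864) (Steps.fwd (nat_lit 24576) (Steps.bwd (nat_lit 9) Steps.nil))))) (nat_lit 42) (nat_lit 4),
  Rule.mk (nat_lit 17) (nat_lit 53) (Steps.bwd (nat_lit 6) (Steps.fwd (nat_lit 69632) (Steps.bwd (nat_lit 5) Steps.nil))) (nat_lit 117) (nat_lit 0),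
  Rule.mk (nat_lit 9) (nat_lit 151) (Steps.bwd (nat_lit 3) (Steps.bwd (nat_lit 4) (Steps.fwd (nat_lit 36864) (Steps.fwd (nat_lit 12288) (Steps.bwd (nat_lit 9) (Steps.fwd (nat_lit 69632) (Steps.fwd (nat_lit 12288) (Steps.fwd (nat_lit 16384) (Steps.bwd (nat_lit 10) (Steps.bwd (nat_lit 3) Steps.nil)))))))))) (nat_lit 52) (nat_lit 5),
  Rule.mk (nat_lit 17) (nat_lit 53) (Steps.fwd (nat_lit 36864) (Steps.fwd (nat_lit 69632) (Steps.bwd (nat_lit 9) Steps.nil))) (nat_lit 121) (nat_lit 0),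
  Rule.mk (nat_lit 18) (nat_lit 53) (Steps.fwd (nat_lit 12288) (Steps.bwd (nat_lit 17) (Steps.bwd (nat_lit 3) Steps.nil))) (nat_lit 112) (nat_lit 1),
  Rule.mk (nat_lit 9) (nat_lit 53) (Steps.bwd (nat_lit 4) (Steps.fwd (nat_lit 36864) (Steps.fwd (nat_lit 16384) Steps.nil))) (nat_lit 40) (nat_lit 3),
  Rule.mk (nat_lit 4) (nat_lit 179) (Steps.bwd (nat_lit 6) (Steps.bwd (nat_lit 6) (Steps.fwd (nat_lit 40960) (Steps.fwd (nat_lit 24576) (Steps.fwd (nat_lit 24576) (Steps.bwd (nat_lit 20) (Steps.fwd (nat_lit 16384) (Steps.bwd (nat_lit 6) (Steps.bwd (nat_lit 6) (Steps.bwd (nat_lit 10) (Steps.fwd (nat_lit 24576) (Steps.fwd (nat_lit 24576) Steps.nil)))))))))))) (nat_lit 54) (nat_lit 7),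
  Rule.mk (nat_lit 4) (nat_lit 123) (Steps.bwd (nat_lit 6) (Steps.bwd (nat_lit 6) (Steps.fwd (nat_lit 16384) (Steps.fwd (nat_lit 24576) (Steps.fwd (nat_lit 24576) (Steps.fwd (nat_lit 24576) (Steps.fwd (nat_lit 16384) (Steps.bwd (nat_lit 6) Steps.nil)))))))) (nat_lit 24) (nat_lit 3),
  Rule.mk (nat_lit 7) (nat_lit 67) (Steps.bwd (nat_lit 6) (Steps.bwd (nat_lit 6) (Steps.fwd (nat_lit 28672) (Steps.fwd (nat_lit 24576) Steps.nil)))) (nat_lit 36) (nat_lit 3),
  Rule.mk (nat_lit 18) (nat_lit 53) (Steps.bwd (nat_lit 6) (Steps.bwd (nat_lit 17) (Steps.fwd (nat_lit 24576) Steps.nil))) (nat_lit 116) (nat_lit 1),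
  Rule.mk (nat_lit 10) (nat_lit 81) (Steps.bwd (nat_lit 6) (Steps.fwd (nat_lit 40960) (Steps.bwd (nat_lit 6) (Steps.bwd (nat_lit 10) (Steps.bwd (nat_lit 6) Steps.nil))))) (nat_lit 43) (nat_lit 10)]
noncomputable def R_9 : List (Rule) := [Rule.mk (nat_lit 9) (nat_lit 81) (Steps.bwd (nat_lit 6) (Steps.fwd (nat_lit 36864) (Steps.bwd (nat_lit 6) (Steps.fwd (nat_lit 36864) (Steps.bwd (nat_lit 6) Steps.nil))))) (nat_lit 43) (nat_lit 2),
  Rule.mk (nat_lit 17) (nat_lit 53) (Steps.bwd (nat_lit 6) (Steps.bwd (nat_lit 18) (Steps.fwd (nat_lit 24576) Steps.nil))) (nat_lit 117) (nat_lit 0),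
  Rule.mk (nat_lit 6) (nat_lit 263) (Steps.bwd (nat_lit 10) (Steps.bwd (nat_lit 5) (Steps.bwd (nat_lit 9) (Steps.bwd (nat_lit 6) (Steps.bwd (nat_lit 10) (Steps.bwd (nat_lit 5) (Steps.bwd (nat_lit 9) (Steps.bwd (nat_lit 6) (Steps.fwd (nat_lit 36864) (Steps.fwd (nat_lit 24576) (Steps.bwd (nat_lit 9) (Steps.fwd (nat_lit 86016) (Steps.fwd (nat_lit 4096) (Steps.fwd (nat_lit 8192) (Steps.bwd (nat_lit 6) (Steps.bwd (nat_lit 10) (Steps.fwd (nat_lit 24576) (Steps.fwd (nat_lit 40960) Steps.nil)))))))))))))))))) (nat_lit 56) (nat_lit 7),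
  Rule.mk (nat_lit 17) (nat_lit 53) (Steps.fwd (nat_lit 24576) (Steps.fwd (nat_lit 69632) (Steps.bwd (nat_lit 6) Steps.nil))) (nat_lit 116) (nat_lit 3),
  Rule.mk (nat_lit 8) (nat_lit 67) (Steps.fwd (nat_lit 24576) (Steps.bwd (nat_lit 7) (Steps.bwd (nat_lit 6) (Steps.bwd (nat_lit 6) Steps.nil)))) (nat_lit 36) (nat_lit 1),
  Rule.mk (nat_lit 4) (nat_lit 123) (Steps.fwd (nat_lit 24576) (Steps.fwd (nat_lit 24576) (Steps.fwd (nat_lit 24576) (Steps.fwd (nat_lit 16384) (Steps.bwd (nat_lit 6) (Steps.fwd (nat_lit 16384) (Steps.bwd (nat_lit 6) (Steps.bwd (nat_lit 6) Steps.nil)))))))) (nat_lit 24) (nat_lit 8),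
  Rule.mk (nat_lit 17) (nat_lit 53) (Steps.fwd (nat_lit 32768) (Steps.bwd (nat_lit 18) (Steps.bwd (nat_lit 8) Steps.nil))) (nat_lit 118) (nat_lit 3),
  Rule.mk (nat_lit 0) (nat_lit 67) (Steps.bwd (nat_lit 17) (Steps.fwd (nat_lit 20480) (Steps.fwd (nat_lit 69632) (Steps.bwd (nat_lit 5) Steps.nil)))) (nat_lit 117) (nat_lit 3),
  Rule.mk (nat_lit 18) (nat_lit 39) (Steps.bwd (nat_lit 0) (Steps.bwd (nat_lit 17) Steps.nil)) (nat_lit 230) (nat_lit 0),
  Rule.mk (nat_lit 17) (nat_lit 53) (Steps.fwd (nat_lit 36864) (Steps.bwd (nat_lit 18) (Steps.bwd (nat_lit 9) Steps.nil))) (nat_lit 121) (nat_lit 0),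
  Rule.mk (nat_lit 18) (nat_lit 53) (Steps.fwd (nat_lit 24576) (Steps.bwd (nat_lit 17) (Steps.bwd (nat_lit 6) Steps.nil))) (nat_lit 117) (nat_lit 2),
  Rule.mk (nat_lit 8) (nat_lit 53) (Steps.bwd (nat_lit 17) (Steps.fwd (nat_lit 32768) (Steps.fwd (nat_lit 69632) Steps.nil))) (nat_lit 118) (nat_lit 2),
  Rule.mk (nat_lit 22) (nat_lit 53) (Steps.bwd (nat_lit 17) (Steps.bwd (nat_lit 21) (Steps.fwd (nat_lit 69632) Steps.nil))) (nat_lit 171) (nat_lit 2),
  Rule.mk (nat_lit 7) (nat_lit 67) (Steps.fwd (nat_lit 24576) (Steps.bwd (nat_lit 5) (Steps.bwd (nat_lit 8) (Steps.bwd (nat_lit 6) Steps.nil)))) (nat_lit 37) (nat_lit 0),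
  Rule.mk (nat_lit 0) (nat_lit 67) (Steps.bwd (nat_lit 7) (Steps.bwd (nat_lit 9) (Steps.bwd (nat_lit 7) (Steps.fwd (nat_lit 36864) Steps.nil)))) (nat_lit 38) (nat_lit 1),
  Rule.mk (nat_lit 8) (nat_lit 39) (Steps.bwd (nat_lit 0) (Steps.bwd (nat_lit 7) Steps.nil)) (nat_lit 230) (nat_lit 0),
  Rule.mk (nat_lit 18) (nat_lit 39) (Steps.bwd (nat_lit 0) (Steps.fwd (nat_lit 73728) Steps.nil)) (nat_lit 230) (nat_lit 0),
  Rule.mk (nat_lit 17) (nat_lit 53) (Steps.bwd (nat_lit 5) (Steps.bwd (nat_lit 18) (Steps.fwd (nat_lit 20480) Steps.nil))) (nat_lit 116) (nat_lit 3),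
  Rule.mk (nat_lit 5) (nat_lit 53) (Steps.bwd (nat_lit 17) (Steps.fwd (nat_lit 20480) (Steps.fwd (nat_lit 69632) Steps.nil))) (nat_lit 117) (nat_lit 3),
  Rule.mk (nat_lit 3) (nat_lit 585) (Steps.bwd (nat_lit 6) (Steps.bwd (nat_lit 6) (Steps.bwd (nat_lit 9) (Steps.bwd (nat_lit 5) (Steps.bwd (nat_lit 5) (Steps.bwd (nat_lit 3) (Steps.bwd (nat_lit 6) (Steps.bwd (nat_lit 6) (Steps.bwd (nat_lit 9) (Steps.bwd (nat_lit 5) (Steps.bwd (nat_lit 5) (Steps.bwd (nat_lit 3) (Steps.bwd (nat_lit 6) (Steps.bwd (nat_lit 6) (Steps.bwd (nat_lit 9) (Steps.bwd (nat_lit 4) (Steps.bwd (nat_lit 3) (Steps.bwd (nat_lit 2) (Steps.bwd (nat_lit 3) (Steps.bwd (nat_lit 4) (Steps.bwd (nat_lit 5) (Steps.bwd (nat_lit 5) (Steps.bwd (nat_lit 5) (Steps.bwd (nat_lit 4) (Steps.bwd (nat_lit 3) (Steps.bwd (nat_lit 2) (Steps.bwd (nat_lit 3) (Steps.bwd (nat_lit 4) (Steps.bwd (nat_lit 6) (Steps.bwd (nat_lit 3) (Steps.bwd (nat_lit 2) (Steps.bwd (nat_lit 3) (Steps.bwd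 (nat_lit 2) (Steps.bwd (nat_lit 1) (Steps.bwd (nat_lit 24) (Steps.fwd (nat_lit 12288) (Steps.bwd (nat_lit 6) (Steps.bwd (nat_lit 6) (Steps.bwd (nat_lit 9) (Steps.bwd (nat_lit 5) (Steps.bwd (nat_lit 5) Steps.nil))))))))))))))))))))))))))))))))))))))))) (nat_lit 58) (nat_lit 7),
  Rule.mk (nat_lit 17) (nat_lit 53) (Steps.bwd (nat_lit 3) (Steps.fwd (nat_lit 69632) (Steps.bwd (nat_lit 3) Steps.nil))) (nat_lit 112) (nat_lit 3),
  Rule.mk (nat_lit 17) (nat_lit 53) (Steps.fwd (nat_lit 24576) (Steps.bwd (nat_lit 18) (Steps.bwd (nat_lit 6) Steps.nil))) (nat_lit 116) (nat_lit 3),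
  Rule.mk (nat_lit 3) (nat_lit 53) (Steps.bwd (nat_lit 17) (Steps.bwd (nat_lit 3) (Steps.fwd (nat_lit 69632) Steps.nil))) (nat_lit 112) (nat_lit 2),
  Rule.mk (nat_lit 18) (nat_lit 53) (Steps.fwd (nat_lit 36864) (Steps.bwd (nat_lit 17) (Steps.bwd (nat_lit 9) Steps.nil))) (nat_lit 120) (nat_lit 1),
  Rule.mk (nat_lit 17) (nat_lit 53) (Steps.fwd (nat_lit 20480) (Steps.bwd (nat_lit 18) (Steps.bwd (nat_lit 5) Steps.nil))) (nat_lit 117) (nat_lit 0),
  Rule.mk (nat_lit 18) (nat_lit 53) (Steps.fwd (nat_lit 20480) (Steps.bwd (nat_lit 17) (Steps.bwd (nat_lit 5) Steps.nil))) (nat_lit 116) (nat_lit 1),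
  Rule.mk (nat_lit 17) (nat_lit 53) (Steps.fwd (nat_lit 12288) (Steps.bwd (nat_lit 18) (Steps.bwd (nat_lit 3) Steps.nil))) (nat_lit 112) (nat_lit 3),
  Rule.mk (nat_lit 7) (nat_lit 53) (Steps.fwd (nat_lit 73728) (Steps.fwd (nat_lit 28672) (Steps.bwd (nat_lit 18) Steps.nil))) (nat_lit 119) (nat_lit 3),
  Rule.mk (nat_lit 23) (nat_lit 53) (Steps.bwd (nat_lit 17) (Steps.fwd (nat_lit 94208) (Steps.fwd (nat_lit 69632) Steps.nil))) (nat_lit 194) (nat_lit 3),
  Rule.mk (nat_lit 24) (nat_lit 53) (Steps.fwd (nat_lit 24576) (Steps.bwd (nat_lit 23) (Steps.bwd (nat_lit 6) Steps.nil))) (nat_lit 183) (nat_lit 2),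
  Rule.mk (nat_lit 23) (nat_lit 53) (Steps.fwd (nat_lit 24576) (Steps.bwd (nat_lit 24) (Steps.bwd (nat_lit 6) Steps.nil))) (nat_lit 182) (nat_lit 3),
  Rule.mk (nat_lit 2) (nat_lit 53) (Steps.fwd (nat_lit 94208) (Steps.fwd (nat_lit 8192) (Steps.bwd (nat_lit 23) Steps.nil))) (nat_lit 176) (nat_lit 0),
  Rule.mk (nat_lit 0) (nat_lit 67) (Steps.fwd (nat_lit 36864) (Steps.fwd (nat_lit 94208) (Steps.fwd (nat_lit 40960) (Steps.fwd (nat_lit 98304) Steps.nil)))) (nat_lit 187) (nat_lit 0),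
  Rule.mk (nat_lit 17) (nat_lit 53) (Steps.fwd (nat_lit 94208) (Steps.fwd (nat_lit 69632) (Steps.bwd (nat_lit 23) Steps.nil))) (nat_lit 194) (nat_lit 0),
  Rule.mk (nat_lit 6) (nat_lit 53) (Steps.bwd (nat_lit 17) (Steps.fwd (nat_lit 24576) (Steps.fwd (nat_lit 69632) Steps.nil))) (nat_lit 116) (nat_lit 2),
  Rule.mk (nat_lit 6) (nat_lit 53) (Steps.bwd (nat_lit 23) (Steps.fwd (nat_lit 24576) (Steps.fwd (nat_lit 94208) Steps.nil))) (nat_lit 182) (nat_lit 2),
  Rule.mk (nat_lit 18) (nat_lit 53) (Steps.bwd (nat_lit 4) (Steps.bwd (nat_lit 17) (Steps.fwd (nat_lit 16384) Steps.nil))) (nat_lit 114) (nat_lit 1),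
  Rule.mk (nat_lit 18) (nat_lit 53) (Steps.bwd (nat_lit 2) (Steps.bwd (nat_lit 17) (Steps.fwd (nat_lit 8192) Steps.nil))) (nat_lit 110) (nat_lit 1),
  Rule.mk (nat_lit 17) (nat_lit 53) (Steps.bwd (nat_lit 3) (Steps.bwd (nat_lit 18) (Steps.fwd (nat_lit 12288) Steps.nil))) (nat_lit 112) (nat_lit 3),
  Rule.mk (nat_lit 10) (nat_lit 151) (Steps.bwd (nat_lit 3) (Steps.bwd (nat_lit 9) (Steps.fwd (nat_lit 12288) (Steps.fwd (nat_lit 16384) (Steps.bwd (nat_lit 10) (Steps.fwd (nat_lit 12288) (Steps.fwd (nat_lit 40960) (Steps.fwd (nat_lit 69632) (Steps.bwd (nat_lit 3) (Steps.fwd (nat_lit 16384) Steps.nil)))))))))) (nat_lit 52) (nat_lit 3),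
  Rule.mk (nat_lit 17) (nat_lit 53) (Steps.fwd (nat_lit 40960) (Steps.bwd (nat_lit 18) (Steps.bwd (nat_lit 10) Steps.nil))) (nat_lit 120) (nat_lit 3),
  Rule.mk (nat_lit 2) (nat_lit 53) (Steps.bwd (nat_lit 17) (Steps.bwd (nat_lit 2) (Steps.bwd (nat_lit 18) Steps.nil))) (nat_lit 110) (nat_lit 2),
  Rule.mk (nat_lit 10) (nat_lit 67) (Steps.bwd (nat_lit 2) (Steps.bwd (nat_lit 9) (Steps.fwd (nat_lit 8192) (Steps.bwd (nat_lit 16) Steps.nil)))) (nat_lit 50) (nat_lit 1),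
  Rule.mk (nat_lit 4) (nat_lit 53) (Steps.bwd (nat_lit 9) (Steps.fwd (nat_lit 16384) (Steps.bwd (nat_lit 10) Steps.nil))) (nat_lit 40) (nat_lit 2),
  Rule.mk (nat_lit 24) (nat_lit 53) (Steps.bwd (nat_lit 17) (Steps.fwd (nat_lit 98304) (Steps.bwd (nat_lit 18) Steps.nil))) (nat_lit 195) (nat_lit 2),
  Rule.mk (nat_lit 17) (nat_lit 53) (Steps.fwd (nat_lit 16384) (Steps.bwd (nat_lit 18) (Steps.bwd (nat_lit 4) Steps.nil))) (nat_lit 114) (nat_lit 3),
  Rule.mk (nat_lit 17) (nat_lit 53) (Steps.fwd (nat_lit 8192) (Steps.bwd (nat_lit 18) (Steps.bwd (nat_lit 2) Steps.nil))) (nat_lit 110) (nat_lit 3),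
  Rule.mk (nat_lit 24) (nat_lit 53) (Steps.bwd (nat_lit 17) (Steps.bwd (nat_lit 23) (Steps.bwd (nat_lit 18) Steps.nil))) (nat_lit 195) (nat_lit 2),
  Rule.mk (nat_lit 6) (nat_lit 739) (Steps.bwd (nat_lit 4) (Steps.bwd (nat_lit 3) (Steps.bwd (nat_lit 2) (Steps.bwd (nat_lit 3) (Steps.bwd (nat_lit 4) (Steps.bwd (nat_lit 5) (Steps.bwd (nat_lit 4) (Steps.bwd (nat_lit 2) (Steps.bwd (nat_lit 3) (Steps.bwd (nat_lit 4) (Steps.bwd (nat_lit 3) (Steps.bwd (nat_lit 2) (Steps.bwd (nat_lit 3) (Steps.bwd (nat_lit 6) (Steps.bwd (nat_lit 4) (Steps.bwd (nat_lit 3) (Steps.bwd (nat_lit 2) (Steps.bwd (nat_lit 3) (Steps.bwd (nat_lit 4) (Steps.bwd (nat_lit 5) (Steps.bwd (nat_lit 4) (Steps.bwd (nat_lit 5) (Steps.bwd (nat_lit 4) (Steps.bwd (nat_lit 3) (Steps.bwd (nat_lit 2) (Steps.bwd (nat_lit 3) (Steps.bwd (nat_lit 4) (Steps.bwd (nat_lit 5) (Steps.bwd (nat_lit 4) (Steps.bwd (nat_lit 3) (Steps.bwd (nat_lit 2) (Steps.bwd (nat_lit 3) (Steps.bwd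 (nat_lit 4) (Steps.bwd (nat_lit 6) (Steps.bwd (nat_lit 6) (Steps.bwd (nat_lit 6) (Steps.bwd (nat_lit 4) (Steps.bwd (nat_lit 3) (Steps.bwd (nat_lit 2) (Steps.bwd (nat_lit 3) (Steps.bwd (nat_lit 4) (Steps.bwd (nat_lit 6) (Steps.bwd (nat_lit 4) (Steps.bwd (nat_lit 3) (Steps.bwd (nat_lit 2) (Steps.bwd (nat_lit 3) (Steps.fwd (nat_lit 16384) (Steps.fwd (nat_lit 24576) (Steps.fwd (nat_lit 24576) (Steps.fwd (nat_lit 8192) (Steps.bwd (nat_lit 3) (Steps.fwd (nat_lit 16384) Steps.nil)))))))))))))))))))))))))))))))))))))))))))))))))))) (nat_lit 44) (nat_lit 4),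
  Rule.mk (nat_lit 18) (nat_lit 53) (Steps.fwd (nat_lit 16384) (Steps.bwd (nat_lit 17) (Steps.bwd (nat_lit 4) Steps.nil))) (nat_lit 114) (nat_lit 1),
  Rule.mk (nat_lit 18) (nat_lit 53) (Steps.fwd (nat_lit 8192) (Steps.bwd (nat_lit 17) (Steps.bwd (nat_lit 2) Steps.nil))) (nat_lit 110) (nat_lit 1),
  Rule.mk (nat_lit 9) (nat_lit 151) (Steps.bwd (nat_lit 3) (Steps.bwd (nat_lit 4) (Steps.fwd (nat_lit 36864) (Steps.fwd (nat_lit 12288) (Steps.fwd (nat_lit 40960) (Steps.fwd (nat_lit 69632) (Steps.fwd (nat_lit 12288) (Steps.fwd (nat_lit 16384) (Steps.fwd (nat_lit 36864) (Steps.bwd (nat_lit 3) Steps.nil)))))))))) (nat_lit 52) (nat_lit 5),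
  Rule.mk (nat_lit 14) (nat_lit 53) (Steps.fwd (nat_lit 36864) (Steps.fwd (nat_lit 57344) (Steps.bwd (nat_lit 9) Steps.nil))) (nat_lit 86) (nat_lit 1),
  Rule.mk (nat_lit 10) (nat_lit 53) (Steps.fwd (nat_lit 90112) (Steps.bwd (nat_lit 9) (Steps.bwd (nat_lit 22) Steps.nil))) (nat_lit 162) (nat_lit 2),
  Rule.mk (nat_lit 17) (nat_lit 53) (Steps.fwd (nat_lit 90112) (Steps.bwd (nat_lit 18) (Steps.bwd (nat_lit 22) Steps.nil))) (nat_lit 171) (nat_lit 3),
  Rule.mk (nat_lit 6) (nat_lit 585) (Steps.bwd (nat_lit 6) (Steps.bwd (nat_lit 9) (Steps.bwd (nat_lit 5) (Steps.bwd (nat_lit 5) (Steps.bwd (nat_lit 3) (Steps.bwd (nat_lit 6) (Steps.bwd (nat_lit 6) (Steps.bwd (nat_lit 9) (Steps.bwd (nat_lit 5) (Steps.bwd (nat_lit 5) (Steps.bwd (nat_lit 3) (Steps.bwd (nat_lit 6) (Steps.bwd (nat_lit 6) (Steps.bwd (nat_lit 9) (Steps.bwd (nat_lit 4) (Steps.bwd (nat_lit 3) (Steps.bwd (nat_lit 2) (Steps.bwd (nat_lit 3) (Steps.bwd (nat_lit 4) (Steps.bwd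 (nat_lit 5) (Steps.bwd (nat_lit 5) (Steps.bwd (nat_lit 5) (Steps.bwd (nat_lit 4) (Steps.bwd (nat_lit 3) (Steps.bwd (nat_lit 2) (Steps.bwd (nat_lit 3) (Steps.bwd (nat_lit 4) (Steps.bwd (nat_lit 6) (Steps.bwd (nat_lit 3) (Steps.bwd (nat_lit 2) (Steps.bwd (nat_lit 3) (Steps.bwd (nat_lit 2) (Steps.bwd (nat_lit 1) (Steps.bwd (nat_lit 24) (Steps.fwd (nat_lit 12288) (Steps.bwd (nat_lit 6) (Steps.bwd (nat_lit 6) (Steps.bwd (nat_lit 9) (Steps.fwd (nat_lit 24576) (Steps.fwd (nat_lit 24576) (Steps.fwd (nat_lit 12288) Steps.nil))))))))))))))))))))))))))))))))))))))))) (nat_lit 58) (nat_lit 8),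
  Rule.mk (nat_lit 18) (nat_lit 53) (Steps.bwd (nat_lit 8) (Steps.bwd (nat_lit 17) (Steps.fwd (nat_lit 32768) Steps.nil))) (nat_lit 118) (nat_lit 1),
  Rule.mk (nat_lit 24) (nat_lit 53) (Steps.bwd (nat_lit 8) (Steps.fwd (nat_lit 98304) (Steps.bwd (nat_lit 7) Steps.nil))) (nat_lit 184) (nat_lit 1),
  Rule.mk (nat_lit 23) (nat_lit 53) (Steps.bwd (nat_lit 6) (Steps.fwd (nat_lit 94208) (Steps.bwd (nat_lit 5) Steps.nil))) (nat_lit 183) (nat_lit 0),
  Rule.mk (nat_lit 10) (nat_lit 81) (Steps.fwd (nat_lit 24576) (Steps.fwd (nat_lit 40960) (Steps.fwd (nat_lit 24576) (Steps.bwd (nat_lit 9) (Steps.bwd (nat_lit 5) Steps.nil))))) (nat_lit 42) (nat_lit 1),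
  Rule.mk (nat_lit 9) (nat_lit 151) (Steps.bwd (nat_lit 3) (Steps.bwd (nat_lit 4) (Steps.bwd (nat_lit 10) (Steps.bwd (nat_lit 3) (Steps.bwd (nat_lit 9) (Steps.bwd (nat_lit 18) (Steps.fwd (nat_lit 12288) (Steps.fwd (nat_lit 16384) (Steps.bwd (nat_lit 10) (Steps.bwd (nat_lit 3) Steps.nil)))))))))) (nat_lit 52) (nat_lit 5),
  Rule.mk (nat_lit 23) (nat_lit 53) (Steps.fwd (nat_lit 36864) (Steps.fwd (nat_lit 94208) (Steps.bwd (nat_lit 9) Steps.nil))) (nat_lit 187) (nat_lit 0),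
  Rule.mk (nat_lit 24) (nat_lit 53) (Steps.fwd (nat_lit 12288) (Steps.bwd (nat_lit 23) (Steps.bwd (nat_lit 3) Steps.nil))) (nat_lit 178) (nat_lit 1),
  Rule.mk (nat_lit 23) (nat_lit 53) (Steps.fwd (nat_lit 16384) (Steps.bwd (nat_lit 24) (Steps.bwd (nat_lit 4) Steps.nil))) (nat_lit 180) (nat_lit 3)]
noncomputable def R_10 : List (Rule) := [Rule.mk (nat_lit 24) (nat_lit 53) (Steps.fwd (nat_lit 40960) (Steps.bwd (nat_lit 23) (Steps.bwd (nat_lit 10) Steps.nil))) (nat_lit 187) (nat_lit 2),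
  Rule.mk (nat_lit 17) (nat_lit 53) (Steps.bwd (nat_lit 23) (Steps.fwd (nat_lit 69632) (Steps.fwd (nat_lit 94208) Steps.nil))) (nat_lit 195) (nat_lit 3),
  Rule.mk (nat_lit 18) (nat_lit 53) (Steps.bwd (nat_lit 9) (Steps.bwd (nat_lit 17) (Steps.bwd (nat_lit 10) Steps.nil))) (nat_lit 121) (nat_lit 2),
  Rule.mk (nat_lit 17) (nat_lit 53) (Steps.fwd (nat_lit 12288) (Steps.bwd (nat_lit 18) (Steps.fwd (nat_lit 12288) Steps.nil))) (nat_lit 112) (nat_lit 3),
  Rule.mk (nat_lit 23) (nat_lit 53) (Steps.bwd (nat_lit 6) (Steps.bwd (nat_lit 24) (Steps.fwd (nat_lit 24576) Steps.nil))) (nat_lit 183) (nat_lit 0),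
  Rule.mk (nat_lit 23) (nat_lit 53) (Steps.fwd (nat_lit 24576) (Steps.fwd (nat_lit 94208) (Steps.bwd (nat_lit 6) Steps.nil))) (nat_lit 182) (nat_lit 3),
  Rule.mk (nat_lit 23) (nat_lit 53) (Steps.fwd (nat_lit 32768) (Steps.bwd (nat_lit 24) (Steps.bwd (nat_lit 8) Steps.nil))) (nat_lit 184) (nat_lit 3),
  Rule.mk (nat_lit 0) (nat_lit 67) (Steps.bwd (nat_lit 23) (Steps.fwd (nat_lit 20480) (Steps.fwd (nat_lit 94208) (Steps.bwd (nat_lit 5) Steps.nil)))) (nat_lit 183) (nat_lit 3),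
  Rule.mk (nat_lit 24) (nat_lit 39) (Steps.bwd (nat_lit 0) (Steps.bwd (nat_lit 23) Steps.nil)) (nat_lit 230) (nat_lit 0),
  Rule.mk (nat_lit 23) (nat_lit 53) (Steps.fwd (nat_lit 36864) (Steps.bwd (nat_lit 24) (Steps.bwd (nat_lit 9) Steps.nil))) (nat_lit 187) (nat_lit 0),
  Rule.mk (nat_lit 8) (nat_lit 53) (Steps.bwd (nat_lit 23) (Steps.fwd (nat_lit 32768) (Steps.fwd (nat_lit 94208) Steps.nil))) (nat_lit 184) (nat_lit 2),
  Rule.mk (nat_lit 24) (nat_lit 39) (Steps.bwd (nat_lit 0) (Steps.fwd (nat_lit 98304) Steps.nil)) (nat_lit 230) (nat_lit 0),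
  Rule.mk (nat_lit 23) (nat_lit 53) (Steps.bwd (nat_lit 5) (Steps.bwd (nat_lit 24) (Steps.fwd (nat_lit 20480) Steps.nil))) (nat_lit 182) (nat_lit 3),
  Rule.mk (nat_lit 5) (nat_lit 53) (Steps.bwd (nat_lit 23) (Steps.fwd (nat_lit 20480) (Steps.fwd (nat_lit 94208) Steps.nil))) (nat_lit 183) (nat_lit 3),
  Rule.mk (nat_lit 3) (nat_lit 585) (Steps.bwd (nat_lit 6) (Steps.bwd (nat_lit 6) (Steps.bwd (nat_lit 9) (Steps.bwd (nat_lit 5) (Steps.bwd (nat_lit 5) (Steps.bwd (nat_lit 3) (Steps.bwd (nat_lit 6) (Steps.bwd (nat_lit 6) (Steps.bwd (nat_lit 9) (Steps.fwd (nat_lit 24576) (Steps.fwd (nat_lit 24576) (Steps.bwd (nat_lit 3) (Steps.bwd (nat_lit 6) (Steps.bwd (nat_lit 6) (Steps.bwd (nat_lit 9) (Steps.fwd (nat_lit 16384) (Steps.fwd (nat_lit 12288) (Steps.fwd (nat_lit 8192) (Steps.fwd (nat_lit 12288) (Steps.fwd (nat_lit 16384) (Steps.bwd (nat_lit 5) (Steps.bwd (nat_lit 5) (Steps.bwd (nat_lit 5) (Steps.fwd (nat_lit 16384) (Steps.fwd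 (nat_lit 12288) (Steps.fwd (nat_lit 8192) (Steps.fwd (nat_lit 12288) (Steps.fwd (nat_lit 16384) (Steps.fwd (nat_lit 20480) (Steps.fwd (nat_lit 12288) (Steps.fwd (nat_lit 8192) (Steps.fwd (nat_lit 12288) (Steps.fwd (nat_lit 8192) (Steps.fwd (nat_lit 4096) (Steps.fwd (nat_lit 94208) (Steps.fwd (nat_lit 12288) (Steps.bwd (nat_lit 6) (Steps.bwd (nat_lit 6) (Steps.bwd (nat_lit 9) (Steps.bwd (nat_lit 5) (Steps.bwd (nat_lit 5) Steps.nil))))))))))))))))))))))))))))))))))))))))) (nat_lit 58) (nat_lit 7),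
  Rule.mk (nat_lit 3) (nat_lit 53) (Steps.bwd (nat_lit 23) (Steps.bwd (nat_lit 3) (Steps.fwd (nat_lit 94208) Steps.nil))) (nat_lit 178) (nat_lit 2),
  Rule.mk (nat_lit 24) (nat_lit 53) (Steps.fwd (nat_lit 36864) (Steps.bwd (nat_lit 23) (Steps.bwd (nat_lit 9) Steps.nil))) (nat_lit 186) (nat_lit 1),
  Rule.mk (nat_lit 23) (nat_lit 53) (Steps.fwd (nat_lit 20480) (Steps.bwd (nat_lit 24) (Steps.bwd (nat_lit 5) Steps.nil))) (nat_lit 183) (nat_lit 0),
  Rule.mk (nat_lit 24) (nat_lit 53) (Steps.fwd (nat_lit 20480) (Steps.bwd (nat_lit 23) (Steps.bwd (nat_lit 5) Steps.nil))) (nat_lit 182) (nat_lit 1),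
  Rule.mk (nat_lit 23) (nat_lit 53) (Steps.fwd (nat_lit 12288) (Steps.bwd (nat_lit 24) (Steps.bwd (nat_lit 3) Steps.nil))) (nat_lit 178) (nat_lit 3),
  Rule.mk (nat_lit 24) (nat_lit 53) (Steps.bwd (nat_lit 4) (Steps.bwd (nat_lit 23) (Steps.fwd (nat_lit 16384) Steps.nil))) (nat_lit 180) (nat_lit 1),
  Rule.mk (nat_lit 5) (nat_lit 95) (Steps.bwd (nat_lit 5) (Steps.bwd (nat_lit 5) (Steps.fwd (nat_lit 24576) (Steps.fwd (nat_lit 24576) (Steps.fwd (nat_lit 24576) (Steps.fwd (nat_lit 24576) Steps.nil)))))) (nat_lit 16) (nat_lit 0),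
  Rule.mk (nat_lit 0) (nat_lit 165) (Steps.fwd (nat_lit 36864) (Steps.fwd (nat_lit 12288) (Steps.fwd (nat_lit 40960) (Steps.bwd (nat_lit 4) (Steps.fwd (nat_lit 12288) (Steps.fwd (nat_lit 36864) (Steps.fwd (nat_lit 12288) (Steps.bwd (nat_lit 9) (Steps.fwd (nat_lit 16384) (Steps.bwd (nat_lit 3) (Steps.fwd (nat_lit 73728) Steps.nil))))))))))) (nat_lit 53) (nat_lit 1),
  Rule.mk (nat_lit 24) (nat_lit 53) (Steps.bwd (nat_lit 9) (Steps.fwd (nat_lit 98304) (Steps.fwd (nat_lit 36864) Steps.nil))) (nat_lit 187) (nat_lit 2),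
  Rule.mk (nat_lit 17) (nat_lit 53) (Steps.bwd (nat_lit 9) (Steps.fwd (nat_lit 69632) (Steps.fwd (nat_lit 36864) Steps.nil))) (nat_lit 120) (nat_lit 3),
  Rule.mk (nat_lit 6) (nat_lit 585) (Steps.bwd (nat_lit 9) (Steps.bwd (nat_lit 5) (Steps.bwd (nat_lit 5) (Steps.bwd (nat_lit 3) (Steps.bwd (nat_lit 6) (Steps.bwd (nat_lit 6) (Steps.bwd (nat_lit 9) (Steps.bwd (nat_lit 5) (Steps.bwd (nat_lit 5) (Steps.bwd (nat_lit 3) (Steps.bwd (nat_lit 6) (Steps.bwd (nat_lit 6) (Steps.bwd (nat_lit 9) (Steps.bwd (nat_lit 5) (Steps.bwd (nat_lit 5) (Steps.bwd (nat_lit 3) (Steps.bwd (nat_lit 6) (Steps.bwd (nat_lit 6) (Steps.bwd (nat_lit 9) (Steps.bwd (nat_lit 4) (Steps.bwd (nat_lit 3) (Steps.bwd (nat_lit 2) (Steps.bwd (nat_lit 3) (Steps.bwd (nat_lit 4) (Steps.bwd (nat_lit 5) (Steps.bwd (nat_lit 5) (Steps.bwd (nat_lit 5) (Steps.bwd (nat_lit 4) (Steps.bwd (nat_lit 3) (Steps.bwd (nat_lit 2) (Steps.bwd (nat_lit 3) (Steps.bwd (nat_lit 4) (Steps.bwd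 (nat_lit 6) (Steps.bwd (nat_lit 3) (Steps.bwd (nat_lit 2) (Steps.fwd (nat_lit 12288) (Steps.fwd (nat_lit 8192) (Steps.fwd (nat_lit 4096) (Steps.fwd (nat_lit 94208) (Steps.bwd (nat_lit 3) (Steps.fwd (nat_lit 20480) Steps.nil))))))))))))))))))))))))))))))))))))))))) (nat_lit 58) (nat_lit 3),
  Rule.mk (nat_lit 23) (nat_lit 53) (Steps.fwd (nat_lit 8192) (Steps.bwd (nat_lit 24) (Steps.bwd (nat_lit 2) Steps.nil))) (nat_lit 176) (nat_lit 3),
  Rule.mk (nat_lit 24) (nat_lit 53) (Steps.fwd (nat_lit 16384) (Steps.bwd (nat_lit 23) (Steps.bwd (nat_lit 4) Steps.nil))) (nat_lit 180) (nat_lit 1),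
  Rule.mk (nat_lit 24) (nat_lit 53) (Steps.fwd (nat_lit 8192) (Steps.bwd (nat_lit 23) (Steps.bwd (nat_lit 2) Steps.nil))) (nat_lit 176) (nat_lit 1),
  Rule.mk (nat_lit 9) (nat_lit 151) (Steps.bwd (nat_lit 3) (Steps.bwd (nat_lit 4) (Steps.bwd (nat_lit 10) (Steps.bwd (nat_lit 3) (Steps.bwd (nat_lit 9) (Steps.fwd (nat_lit 69632) (Steps.fwd (nat_lit 12288) (Steps.fwd (nat_lit 16384) (Steps.fwd (nat_lit 36864) (Steps.bwd (nat_lit 3) Steps.nil)))))))))) (nat_lit 52) (nat_lit 5),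
  Rule.mk (nat_lit 22) (nat_lit 53) (Steps.fwd (nat_lit 36864) (Steps.fwd (nat_lit 90112) (Steps.bwd (nat_lit 9) Steps.nil))) (nat_lit 162) (nat_lit 1),
  Rule.mk (nat_lit 21) (nat_lit 53) (Steps.fwd (nat_lit 98304) (Steps.bwd (nat_lit 22) (Steps.bwd (nat_lit 24) Steps.nil))) (nat_lit 199) (nat_lit 3),
  Rule.mk (nat_lit 18) (nat_lit 53) (Steps.bwd (nat_lit 21) (Steps.bwd (nat_lit 17) (Steps.bwd (nat_lit 22) Steps.nil))) (nat_lit 170) (nat_lit 2),
  Rule.mk (nat_lit 24) (nat_lit 53) (Steps.bwd (nat_lit 22) (Steps.fwd (nat_lit 98304) (Steps.bwd (nat_lit 21) Steps.nil))) (nat_lit 198) (nat_lit 1),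
  Rule.mk (nat_lit 2) (nat_lit 53) (Steps.bwd (nat_lit 23) (Steps.bwd (nat_lit 2) (Steps.bwd (nat_lit 24) Steps.nil))) (nat_lit 176) (nat_lit 2),
  Rule.mk (nat_lit 6) (nat_lit 585) (Steps.bwd (nat_lit 6) (Steps.bwd (nat_lit 9) (Steps.bwd (nat_lit 5) (Steps.bwd (nat_lit 5) (Steps.bwd (nat_lit 3) (Steps.bwd (nat_lit 6) (Steps.bwd (nat_lit 6) (Steps.bwd (nat_lit 9) (Steps.fwd (nat_lit 24576) (Steps.fwd (nat_lit 24576) (Steps.bwd (nat_lit 3) (Steps.fwd (nat_lit 20480) (Steps.bwd (nat_lit 6) (Steps.fwd (nat_lit 40960) (Steps.fwd (nat_lit 16384) (Steps.fwd (nat_lit 12288) (Steps.fwd (nat_lit 8192) (Steps.fwd (nat_lit 12288) (Steps.fwd (nat_lit 16384) (Steps.fwd (nat_lit 24576) (Steps.fwd (nat_lit 24576) (Steps.fwd (nat_lit 24576) (Steps.fwd (nat_lit 16384) (Steps.fwd (nat_lit 12288) (Steps.fwd (nat_lit 8192) (Steps.fwd (nat_lit 12288) (Steps.fwd (nat_lit 16384) (Steps.bwd (nat_lit 6) (Steps.fwd (nat_lit 12288) (Steps.fwd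 (nat_lit 8192) (Steps.fwd (nat_lit 12288) (Steps.fwd (nat_lit 8192) (Steps.fwd (nat_lit 4096) (Steps.fwd (nat_lit 94208) (Steps.fwd (nat_lit 12288) (Steps.bwd (nat_lit 6) (Steps.bwd (nat_lit 6) (Steps.bwd (nat_lit 9) (Steps.fwd (nat_lit 24576) (Steps.fwd (nat_lit 24576) (Steps.fwd (nat_lit 12288) Steps.nil))))))))))))))))))))))))))))))))))))))))) (nat_lit 58) (nat_lit 8),
  Rule.mk (nat_lit 24) (nat_lit 53) (Steps.bwd (nat_lit 8) (Steps.bwd (nat_lit 23) (Steps.fwd (nat_lit 32768) Steps.nil))) (nat_lit 184) (nat_lit 1),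
  Rule.mk (nat_lit 6) (nat_lit 53) (Steps.fwd (nat_lit 98304) (Steps.fwd (nat_lit 24576) (Steps.bwd (nat_lit 24) Steps.nil))) (nat_lit 182) (nat_lit 2),
  Rule.mk (nat_lit 21) (nat_lit 53) (Steps.bwd (nat_lit 23) (Steps.bwd (nat_lit 22) (Steps.bwd (nat_lit 24) Steps.nil))) (nat_lit 199) (nat_lit 3),
  Rule.mk (nat_lit 23) (nat_lit 53) (Steps.bwd (nat_lit 22) (Steps.bwd (nat_lit 24) (Steps.bwd (nat_lit 21) Steps.nil))) (nat_lit 199) (nat_lit 0),
  Rule.mk (nat_lit 22) (nat_lit 53) (Steps.bwd (nat_lit 23) (Steps.fwd (nat_lit 90112) (Steps.bwd (nat_lit 24) Steps.nil))) (nat_lit 198) (nat_lit 2),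
  Rule.mk (nat_lit 23) (nat_lit 53) (Steps.fwd (nat_lit 90112) (Steps.bwd (nat_lit 24) (Steps.bwd (nat_lit 22) Steps.nil))) (nat_lit 198) (nat_lit 3),
  Rule.mk (nat_lit 11) (nat_lit 53) (Steps.bwd (nat_lit 23) (Steps.bwd (nat_lit 12) (Steps.bwd (nat_lit 24) Steps.nil))) (nat_lit 189) (nat_lit 3),
  Rule.mk (nat_lit 2) (nat_lit 67) (Steps.fwd (nat_lit 4096) (Steps.bwd (nat_lit 12) (Steps.bwd (nat_lit 9) (Steps.bwd (nat_lit 9) Steps.nil)))) (nat_lit 46) (nat_lit 3),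
  Rule.mk (nat_lit 2) (nat_lit 53) (Steps.fwd (nat_lit 49152) (Steps.bwd (nat_lit 2) (Steps.bwd (nat_lit 12) Steps.nil))) (nat_lit 62) (nat_lit 2),
  Rule.mk (nat_lit 2) (nat_lit 53) (Steps.bwd (nat_lit 6) (Steps.bwd (nat_lit 2) (Steps.bwd (nat_lit 5) Steps.nil))) (nat_lit 20) (nat_lit 0),
  Rule.mk (nat_lit 7) (nat_lit 53) (Steps.fwd (nat_lit 98304) (Steps.fwd (nat_lit 28672) (Steps.bwd (nat_lit 24) Steps.nil))) (nat_lit 185) (nat_lit 3),
  Rule.mk (nat_lit 5) (nat_lit 81) (Steps.bwd (nat_lit 9) (Steps.bwd (nat_lit 5) (Steps.bwd (nat_lit 10) (Steps.fwd (nat_lit 24576) (Steps.fwd (nat_lit 40960) Steps.nil))))) (nat_lit 42) (nat_lit 4),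
  Rule.mk (nat_lit 10) (nat_lit 81) (Steps.bwd (nat_lit 6) (Steps.bwd (nat_lit 9) (Steps.bwd (nat_lit 6) (Steps.fwd (nat_lit 36864) (Steps.bwd (nat_lit 6) Steps.nil))))) (nat_lit 43) (nat_lit 10),
  Rule.mk (nat_lit 9) (nat_lit 81) (Steps.bwd (nat_lit 6) (Steps.fwd (nat_lit 36864) (Steps.bwd (nat_lit 6) (Steps.fwd (nat_lit 36864) (Steps.fwd (nat_lit 20480) Steps.nil))))) (nat_lit 43) (nat_lit 2),
  Rule.mk (nat_lit 6) (nat_lit 263) (Steps.bwd (nat_lit 10) (Steps.bwd (nat_lit 5) (Steps.bwd (nat_lit 9) (Steps.bwd (nat_lit 6) (Steps.bwd (nat_lit 10) (Steps.bwd (nat_lit 5) (Steps.bwd (nat_lit 9) (Steps.bwd (nat_lit 6) (Steps.fwd (nat_lit 36864) (Steps.bwd (nat_lit 5) (Steps.bwd (nat_lit 9) (Steps.bwd (nat_lit 22) (Steps.fwd (nat_lit 4096) (Steps.fwd (nat_lit 8192) (Steps.bwd (nat_lit 6) (Steps.fwd (nat_lit 36864) (Steps.fwd (nat_lit 24576) (Steps.fwd (nat_lit 40960) Steps.nil)))))))))))))))))) (nat_lit 56) (nat_lit 7),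
  Rule.mk (nat_lit 0) (nat_lit 67) (Steps.bwd (nat_lit 17) (Steps.bwd (nat_lit 9) (Steps.bwd (nat_lit 18) (Steps.fwd (nat_lit 36864) Steps.nil)))) (nat_lit 120) (nat_lit 2),
  Rule.mk (nat_lit 18) (nat_lit 53) (Steps.bwd (nat_lit 9) (Steps.fwd (nat_lit 73728) (Steps.fwd (nat_lit 36864) Steps.nil))) (nat_lit 121) (nat_lit 2),
  Rule.mk (nat_lit 6) (nat_lit 53) (Steps.bwd (nat_lit 17) (Steps.bwd (nat_lit 5) (Steps.bwd (nat_lit 18) Steps.nil))) (nat_lit 116) (nat_lit 2),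
  Rule.mk (nat_lit 23) (nat_lit 53) (Steps.bwd (nat_lit 17) (Steps.fwd (nat_lit 94208) (Steps.bwd (nat_lit 18) Steps.nil))) (nat_lit 194) (nat_lit 3),
  Rule.mk (nat_lit 3) (nat_lit 585) (Steps.bwd (nat_lit 6) (Steps.bwd (nat_lit 6) (Steps.bwd (nat_lit 9) (Steps.bwd (nat_lit 5) (Steps.bwd (nat_lit 5) (Steps.bwd (nat_lit 3) (Steps.bwd (nat_lit 6) (Steps.bwd (nat_lit 6) (Steps.bwd (nat_lit 9) (Steps.fwd (nat_lit 24576) (Steps.fwd (nat_lit 24576) (Steps.bwd (nat_lit 3) (Steps.bwd (nat_lit 6) (Steps.bwd (nat_lit 6) (Steps.fwd (nat_lit 40960) (Steps.fwd (nat_lit 16384) (Steps.fwd (nat_lit 12288) (Steps.fwd (nat_lit 8192) (Steps.fwd (nat_lit 12288) (Steps.fwd (nat_lit 16384) (Steps.fwd (nat_lit 24576) (Steps.fwd (nat_lit 24576) (Steps.fwd (nat_lit 24576) (Steps.fwd (nat_lit 16384) (Steps.fwd (nat_lit 12288) (Steps.fwd (nat_lit 8192) (Steps.fwd (nat_lit 12288) (Steps.fwd (nat_lit 16384) (Steps.bwd (nat_lit 6) (Steps.fwd (nat_lit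 12288) (Steps.fwd (nat_lit 8192) (Steps.fwd (nat_lit 12288) (Steps.fwd (nat_lit 8192) (Steps.fwd (nat_lit 4096) (Steps.fwd (nat_lit 94208) (Steps.fwd (nat_lit 12288) (Steps.bwd (nat_lit 6) (Steps.bwd (nat_lit 6) (Steps.fwd (nat_lit 40960) (Steps.bwd (nat_lit 5) (Steps.fwd (nat_lit 24576) Steps.nil))))))))))))))))))))))))))))))))))))))))) (nat_lit 58) (nat_lit 7),
  Rule.mk (nat_lit 23) (nat_lit 53) (Steps.fwd (nat_lit 12288) (Steps.fwd (nat_lit 94208) (Steps.bwd (nat_lit 3) Steps.nil))) (nat_lit 178) (nat_lit 3),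
  Rule.mk (nat_lit 17) (nat_lit 53) (Steps.fwd (nat_lit 98304) (Steps.bwd (nat_lit 18) (Steps.bwd (nat_lit 24) Steps.nil))) (nat_lit 195) (nat_lit 3),
  Rule.mk (nat_lit 5) (nat_lit 53) (Steps.bwd (nat_lit 3) (Steps.bwd (nat_lit 5) (Steps.bwd (nat_lit 3) Steps.nil))) (nat_lit 22) (nat_lit 1),
  Rule.mk (nat_lit 14) (nat_lit 53) (Steps.fwd (nat_lit 20480) (Steps.fwd (nat_lit 57344) (Steps.bwd (nat_lit 5) Steps.nil))) (nat_lit 82) (nat_lit 1),
  Rule.mk (nat_lit 16) (nat_lit 53) (Steps.fwd (nat_lit 20480) (Steps.fwd (nat_lit 65536) (Steps.bwd (nat_lit 5) Steps.nil))) (nat_lit 98) (nat_lit 1),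
  Rule.mk (nat_lit 8) (nat_lit 67) (Steps.bwd (nat_lit 6) (Steps.fwd (nat_lit 32768) (Steps.bwd (nat_lit 5) (Steps.bwd (nat_lit 5) Steps.nil)))) (nat_lit 37) (nat_lit 3),
  Rule.mk (nat_lit 5) (nat_lit 95) (Steps.bwd (nat_lit 5) (Steps.fwd (nat_lit 24576) (Steps.fwd (nat_lit 24576) (Steps.fwd (nat_lit 24576) (Steps.bwd (nat_lit 5) (Steps.bwd (nat_lit 5) Steps.nil)))))) (nat_lit 16) (nat_lit 0),
  Rule.mk (nat_lit 8) (nat_lit 67) (Steps.bwd (nat_lit 5) (Steps.bwd (nat_lit 7) (Steps.bwd (nat_lit 6) (Steps.fwd (nat_lit 20480) Steps.nil)))) (nat_lit 36) (nat_lit 1)]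
noncomputable def R_11 : List (Rule) := [Rule.mk (nat_lit 3) (nat_lit 53) (Steps.bwd (nat_lit 11) (Steps.bwd (nat_lit 3) (Steps.bwd (nat_lit 12) Steps.nil))) (nat_lit 64) (nat_lit 2),
  Rule.mk (nat_lit 5) (nat_lit 53) (Steps.bwd (nat_lit 3) (Steps.fwd (nat_lit 24576) (Steps.bwd (nat_lit 3) Steps.nil))) (nat_lit 22) (nat_lit 1),
  Rule.mk (nat_lit 6) (nat_lit 53) (Steps.fwd (nat_lit 12288) (Steps.fwd (nat_lit 20480) (Steps.bwd (nat_lit 3) Steps.nil))) (nat_lit 23) (nat_lit 0),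
  Rule.mk (nat_lit 12) (nat_lit 53) (Steps.bwd (nat_lit 3) (Steps.fwd (nat_lit 49152) (Steps.bwd (nat_lit 3) Steps.nil))) (nat_lit 64) (nat_lit 1),
  Rule.mk (nat_lit 22) (nat_lit 53) (Steps.bwd (nat_lit 3) (Steps.fwd (nat_lit 90112) (Steps.bwd (nat_lit 3) Steps.nil))) (nat_lit 154) (nat_lit 1),
  Rule.mk (nat_lit 21) (nat_lit 53) (Steps.bwd (nat_lit 3) (Steps.fwd (nat_lit 86016) (Steps.bwd (nat_lit 3) Steps.nil))) (nat_lit 154) (nat_lit 3),
  Rule.mk (nat_lit 3) (nat_lit 81) (Steps.bwd (nat_lit 4) (Steps.bwd (nat_lit 3) (Steps.fwd (nat_lit 16384) (Steps.fwd (nat_lit 12288) (Steps.fwd (nat_lit 16384) Steps.nil))))) (nat_lit 14) (nat_lit 1),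
  Rule.mk (nat_lit 5) (nat_lit 53) (Steps.bwd (nat_lit 2) (Steps.fwd (nat_lit 20480) (Steps.fwd (nat_lit 8192) Steps.nil))) (nat_lit 20) (nat_lit 3),
  Rule.mk (nat_lit 6) (nat_lit 53) (Steps.bwd (nat_lit 2) (Steps.bwd (nat_lit 5) (Steps.fwd (nat_lit 8192) Steps.nil))) (nat_lit 20) (nat_lit 1),
  Rule.mk (nat_lit 8) (nat_lit 53) (Steps.bwd (nat_lit 2) (Steps.fwd (nat_lit 32768) (Steps.fwd (nat_lit 8192) Steps.nil))) (nat_lit 30) (nat_lit 1),
  Rule.mk (nat_lit 6) (nat_lit 53) (Steps.bwd (nat_lit 3) (Steps.bwd (nat_lit 6) (Steps.fwd (nat_lit 12288) Steps.nil))) (nat_lit 23) (nat_lit 0),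
  Rule.mk (nat_lit 5) (nat_lit 53) (Steps.bwd (nat_lit 3) (Steps.bwd (nat_lit 5) (Steps.fwd (nat_lit 12288) Steps.nil))) (nat_lit 22) (nat_lit 1),
  Rule.mk (nat_lit 10) (nat_lit 151) (Steps.bwd (nat_lit 3) (Steps.bwd (nat_lit 9) (Steps.bwd (nat_lit 3) (Steps.bwd (nat_lit 4) (Steps.bwd (nat_lit 10) (Steps.bwd (nat_lit 3) (Steps.bwd (nat_lit 9) (Steps.bwd (nat_lit 18) (Steps.fwd (nat_lit 12288) (Steps.fwd (nat_lit 16384) Steps.nil)))))))))) (nat_lit 52) (nat_lit 3),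
  Rule.mk (nat_lit 13) (nat_lit 53) (Steps.fwd (nat_lit 40960) (Steps.fwd (nat_lit 53248) (Steps.bwd (nat_lit 10) Steps.nil))) (nat_lit 86) (nat_lit 3),
  Rule.mk (nat_lit 15) (nat_lit 53) (Steps.fwd (nat_lit 40960) (Steps.fwd (nat_lit 61440) (Steps.bwd (nat_lit 10) Steps.nil))) (nat_lit 102) (nat_lit 3),
  Rule.mk (nat_lit 19) (nat_lit 53) (Steps.fwd (nat_lit 40960) (Steps.fwd (nat_lit 77824) (Steps.bwd (nat_lit 10) Steps.nil))) (nat_lit 140) (nat_lit 3),
  Rule.mk (nat_lit 25) (nat_lit 53) (Steps.fwd (nat_lit 40960) (Steps.fwd (nat_lit 102400) (Steps.bwd (nat_lit 10) Steps.nil))) (nat_lit 214) (nat_lit 3),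
  Rule.mk (nat_lit 6) (nat_lit 53) (Steps.fwd (nat_lit 69632) (Steps.fwd (nat_lit 24576) (Steps.bwd (nat_lit 17) Steps.nil))) (nat_lit 117) (nat_lit 1),
  Rule.mk (nat_lit 6) (nat_lit 81) (Steps.fwd (nat_lit 36864) (Steps.bwd (nat_lit 6) (Steps.bwd (nat_lit 9) (Steps.bwd (nat_lit 6) (Steps.fwd (nat_lit 36864) Steps.nil))))) (nat_lit 43) (nat_lit 9),
  Rule.mk (nat_lit 9) (nat_lit 585) (Steps.bwd (nat_lit 5) (Steps.bwd (nat_lit 5) (Steps.bwd (nat_lit 3) (Steps.bwd (nat_lit 6) (Steps.bwd (nat_lit 6) (Steps.bwd (nat_lit 9) (Steps.bwd (nat_lit 5) (Steps.bwd (nat_lit 5) (Steps.bwd (nat_lit 3) (Steps.bwd (nat_lit 6) (Steps.bwd (nat_lit 6) (Steps.bwd (nat_lit 9) (Steps.bwd (nat_lit 5) (Steps.bwd (nat_lit 5) (Steps.bwd (nat_lit 3) (Steps.bwd (nat_lit 6) (Steps.bwd (nat_lit 6) (Steps.bwd (nat_lit 9) (Steps.bwd (nat_lit 4) (Steps.bwd (nat_lit 3) (Steps.bwd (nat_lit 2) (Steps.bwd (nat_lit 3) (Steps.bwd (nat_lit 4) (Steps.bwd (nat_lit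 5) (Steps.bwd (nat_lit 5) (Steps.bwd (nat_lit 5) (Steps.bwd (nat_lit 4) (Steps.bwd (nat_lit 3) (Steps.bwd (nat_lit 2) (Steps.bwd (nat_lit 3) (Steps.bwd (nat_lit 4) (Steps.bwd (nat_lit 6) (Steps.bwd (nat_lit 3) (Steps.bwd (nat_lit 2) (Steps.bwd (nat_lit 3) (Steps.bwd (nat_lit 2) (Steps.bwd (nat_lit 1) (Steps.bwd (nat_lit 24) (Steps.fwd (nat_lit 12288) (Steps.fwd (nat_lit 20480) (Steps.fwd (nat_lit 20480) Steps.nil))))))))))))))))))))))))))))))))))))))))) (nat_lit 58) (nat_lit 4),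
  Rule.mk (nat_lit 16) (nat_lit 53) (Steps.fwd (nat_lit 36864) (Steps.fwd (nat_lit 65536) (Steps.bwd (nat_lit 9) Steps.nil))) (nat_lit 102) (nat_lit 1),
  Rule.mk (nat_lit 20) (nat_lit 53) (Steps.fwd (nat_lit 36864) (Steps.fwd (nat_lit 81920) (Steps.bwd (nat_lit 9) Steps.nil))) (nat_lit 140) (nat_lit 1),
  Rule.mk (nat_lit 26) (nat_lit 53) (Steps.fwd (nat_lit 36864) (Steps.fwd (nat_lit 106496) (Steps.bwd (nat_lit 9) Steps.nil))) (nat_lit 214) (nat_lit 1),
  Rule.mk (nat_lit 6) (nat_lit 53) (Steps.fwd (nat_lit 94208) (Steps.bwd (nat_lit 5) (Steps.bwd (nat_lit 23) Steps.nil))) (nat_lit 183) (nat_lit 1),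
  Rule.mk (nat_lit 8) (nat_lit 53) (Steps.bwd (nat_lit 24) (Steps.fwd (nat_lit 32768) (Steps.bwd (nat_lit 23) Steps.nil))) (nat_lit 185) (nat_lit 1),
  Rule.mk (nat_lit 5) (nat_lit 53) (Steps.bwd (nat_lit 2) (Steps.bwd (nat_lit 6) (Steps.fwd (nat_lit 8192) Steps.nil))) (nat_lit 20) (nat_lit 3),
  Rule.mk (nat_lit 6) (nat_lit 53) (Steps.fwd (nat_lit 12288) (Steps.bwd (nat_lit 6) (Steps.bwd (nat_lit 3) Steps.nil))) (nat_lit 23) (nat_lit 0),
  Rule.mk (nat_lit 9) (nat_lit 81) (Steps.bwd (nat_lit 6) (Steps.fwd (nat_lit 36864) (Steps.fwd (nat_lit 20480) (Steps.fwd (nat_lit 36864) (Steps.bwd (nat_lit 6) Steps.nil))))) (nat_lit 43) (nat_lit 2),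
  Rule.mk (nat_lit 10) (nat_lit 81) (Steps.bwd (nat_lit 6) (Steps.bwd (nat_lit 9) (Steps.fwd (nat_lit 20480) (Steps.fwd (nat_lit 36864) (Steps.bwd (nat_lit 6) Steps.nil))))) (nat_lit 43) (nat_lit 10),
  Rule.mk (nat_lit 0) (nat_lit 67) (Steps.bwd (nat_lit 6) (Steps.bwd (nat_lit 3) (Steps.fwd (nat_lit 20480) (Steps.fwd (nat_lit 12288) Steps.nil)))) (nat_lit 23) (nat_lit 1),
  Rule.mk (nat_lit 23) (nat_lit 53) (Steps.bwd (nat_lit 5) (Steps.fwd (nat_lit 94208) (Steps.fwd (nat_lit 20480) Steps.nil))) (nat_lit 182) (nat_lit 3),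
  Rule.mk (nat_lit 7) (nat_lit 53) (Steps.bwd (nat_lit 4) (Steps.fwd (nat_lit 28672) (Steps.fwd (nat_lit 16384) Steps.nil))) (nat_lit 34) (nat_lit 3),
  Rule.mk (nat_lit 8) (nat_lit 67) (Steps.bwd (nat_lit 5) (Steps.bwd (nat_lit 7) (Steps.fwd (nat_lit 20480) (Steps.fwd (nat_lit 20480) Steps.nil)))) (nat_lit 36) (nat_lit 1),
  Rule.mk (nat_lit 6) (nat_lit 739) (Steps.bwd (nat_lit 4) (Steps.bwd (nat_lit 3) (Steps.bwd (nat_lit 2) (Steps.bwd (nat_lit 3) (Steps.bwd (nat_lit 4) (Steps.bwd (nat_lit 5) (Steps.bwd (nat_lit 4) (Steps.bwd (nat_lit 2) (Steps.bwd (nat_lit 3) (Steps.bwd (nat_lit 4) (Steps.bwd (nat_lit 3) (Steps.bwd (nat_lit 2) (Steps.bwd (nat_lit 3) (Steps.bwd (nat_lit 6) (Steps.bwd (nat_lit 4) (Steps.bwd (nat_lit 3) (Steps.bwd (nat_lit 2) (Steps.bwd (nat_lit 3) (Steps.bwd (nat_lit 4) (Steps.bwd (nat_lit 5) (Steps.bwd (nat_lit 4) (Steps.bwd (nat_lit 5) (Steps.bwd (nat_lit 4) (Steps.bwd (nat_lit 3) (Steps.bwd (nat_lit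 2) (Steps.bwd (nat_lit 3) (Steps.bwd (nat_lit 4) (Steps.bwd (nat_lit 5) (Steps.bwd (nat_lit 4) (Steps.bwd (nat_lit 3) (Steps.bwd (nat_lit 2) (Steps.bwd (nat_lit 3) (Steps.bwd (nat_lit 4) (Steps.bwd (nat_lit 6) (Steps.bwd (nat_lit 6) (Steps.bwd (nat_lit 6) (Steps.bwd (nat_lit 4) (Steps.bwd (nat_lit 3) (Steps.bwd (nat_lit 2) (Steps.bwd (nat_lit 3) (Steps.bwd (nat_lit 4) (Steps.bwd (nat_lit 6) (Steps.bwd (nat_lit 4) (Steps.bwd (nat_lit 3) (Steps.bwd (nat_lit 2) (Steps.bwd (nat_lit 3) (Steps.fwd (nat_lit 16384) (Steps.fwd (nat_lit 24576) (Steps.bwd (nat_lit 5) (Steps.fwd (nat_lit 8192) (Steps.fwd (nat_lit 12288) (Steps.fwd (nat_lit 16384) Steps.nil)))))))))))))))))))))))))))))))))))))))))))))))))))) (nat_lit 44) (nat_lit 4),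
  Rule.mk (nat_lit 9) (nat_lit 67) (Steps.bwd (nat_lit 15) (Steps.bwd (nat_lit 2) (Steps.fwd (nat_lit 36864) (Steps.fwd (nat_lit 8192) Steps.nil)))) (nat_lit 51) (nat_lit 0),
  Rule.mk (nat_lit 2) (nat_lit 123) (Steps.bwd (nat_lit 3) (Steps.bwd (nat_lit 2) (Steps.bwd (nat_lit 3) (Steps.fwd (nat_lit 8192) (Steps.fwd (nat_lit 12288) (Steps.fwd (nat_lit 8192) (Steps.fwd (nat_lit 4096) (Steps.fwd (nat_lit 12288) Steps.nil)))))))) (nat_lit 10) (nat_lit 3),
  Rule.mk (nat_lit 1) (nat_lit 123) (Steps.fwd (nat_lit 12288) (Steps.fwd (nat_lit 8192) (Steps.bwd (nat_lit 3) (Steps.bwd (nat_lit 2) (Steps.bwd (nat_lit 3) (Steps.fwd (nat_lit 8192) (Steps.fwd (nat_lit 12288) (Steps.fwd (nat_lit 8192) Steps.nil)))))))) (nat_lit 10) (nat_lit 1),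
  Rule.mk (nat_lit 14) (nat_lit 53) (Steps.bwd (nat_lit 4) (Steps.bwd (nat_lit 13) (Steps.fwd (nat_lit 16384) Steps.nil))) (nat_lit 80) (nat_lit 1),
  Rule.mk (nat_lit 13) (nat_lit 53) (Steps.bwd (nat_lit 6) (Steps.bwd (nat_lit 14) (Steps.fwd (nat_lit 24576) Steps.nil))) (nat_lit 83) (nat_lit 0),
  Rule.mk (nat_lit 14) (nat_lit 53) (Steps.bwd (nat_lit 2) (Steps.bwd (nat_lit 13) (Steps.fwd (nat_lit 8192) Steps.nil))) (nat_lit 76) (nat_lit 1),
  Rule.mk (nat_lit 13) (nat_lit 53) (Steps.bwd (nat_lit 5) (Steps.bwd (nat_lit 14) (Steps.fwd (nat_lit 20480) Steps.nil))) (nat_lit 82) (nat_lit 3),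
  Rule.mk (nat_lit 5) (nat_lit 53) (Steps.fwd (nat_lit 12288) (Steps.bwd (nat_lit 5) (Steps.bwd (nat_lit 3) Steps.nil))) (nat_lit 22) (nat_lit 1),
  Rule.mk (nat_lit 8) (nat_lit 53) (Steps.fwd (nat_lit 12288) (Steps.fwd (nat_lit 32768) (Steps.bwd (nat_lit 3) Steps.nil))) (nat_lit 32) (nat_lit 1),
  Rule.mk (nat_lit 6) (nat_lit 81) (Steps.bwd (nat_lit 9) (Steps.bwd (nat_lit 6) (Steps.fwd (nat_lit 36864) (Steps.fwd (nat_lit 20480) (Steps.fwd (nat_lit 36864) Steps.nil))))) (nat_lit 43) (nat_lit 1),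
  Rule.mk (nat_lit 1) (nat_lit 67) (Steps.fwd (nat_lit 53248) (Steps.bwd (nat_lit 10) (Steps.fwd (nat_lit 4096) (Steps.fwd (nat_lit 40960) Steps.nil)))) (nat_lit 48) (nat_lit 4),
  Rule.mk (nat_lit 9) (nat_lit 585) (Steps.bwd (nat_lit 5) (Steps.bwd (nat_lit 5) (Steps.bwd (nat_lit 3) (Steps.bwd (nat_lit 6) (Steps.bwd (nat_lit 6) (Steps.bwd (nat_lit 9) (Steps.bwd (nat_lit 5) (Steps.bwd (nat_lit 5) (Steps.bwd (nat_lit 3) (Steps.bwd (nat_lit 6) (Steps.bwd (nat_lit 6) (Steps.bwd (nat_lit 9) (Steps.bwd (nat_lit 5) (Steps.bwd (nat_lit 5) (Steps.bwd (nat_lit 3) (Steps.bwd (nat_lit 6) (Steps.bwd (nat_lit 6) (Steps.bwd (nat_lit 9) (Steps.bwd (nat_lit 4) (Steps.bwd (nat_lit 3) (Steps.bwd (nat_lit 2) (Steps.bwd (nat_lit 3) (Steps.bwd (nat_lit 4) (Steps.bwd (nat_lit 5) (Steps.bwd (nat_lit 5) (Steps.bwd (nat_lit 5) (Steps.bwd (nat_lit 4) (Steps.bwd (nat_lit 3) (Steps.bwd (nat_lit 2) (Steps.bwd (nat_lit 3) (Steps.bwd (nat_lit 4) (Steps.bwd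 (nat_lit 6) (Steps.bwd (nat_lit 3) (Steps.bwd (nat_lit 2) (Steps.bwd (nat_lit 3) (Steps.fwd (nat_lit 8192) (Steps.fwd (nat_lit 4096) (Steps.fwd (nat_lit 94208) (Steps.bwd (nat_lit 3) (Steps.bwd (nat_lit 6) (Steps.bwd (nat_lit 6) Steps.nil))))))))))))))))))))))))))))))))))))))))) (nat_lit 58) (nat_lit 4),
  Rule.mk (nat_lit 5) (nat_lit 53) (Steps.bwd (nat_lit 3) (Steps.fwd (nat_lit 24576) (Steps.fwd (nat_lit 12288) Steps.nil))) (nat_lit 22) (nat_lit 1),
  Rule.mk (nat_lit 8) (nat_lit 53) (Steps.bwd (nat_lit 3) (Steps.fwd (nat_lit 32768) (Steps.fwd (nat_lit 12288) Steps.nil))) (nat_lit 32) (nat_lit 1),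
  Rule.mk (nat_lit 8) (nat_lit 53) (Steps.fwd (nat_lit 94208) (Steps.fwd (nat_lit 32768) (Steps.bwd (nat_lit 23) Steps.nil))) (nat_lit 185) (nat_lit 1),
  Rule.mk (nat_lit 8) (nat_lit 53) (Steps.bwd (nat_lit 4) (Steps.bwd (nat_lit 7) (Steps.fwd (nat_lit 16384) Steps.nil))) (nat_lit 34) (nat_lit 1),
  Rule.mk (nat_lit 8) (nat_lit 53) (Steps.bwd (nat_lit 2) (Steps.bwd (nat_lit 7) (Steps.fwd (nat_lit 8192) Steps.nil))) (nat_lit 30) (nat_lit 1),
  Rule.mk (nat_lit 7) (nat_lit 67) (Steps.bwd (nat_lit 5) (Steps.bwd (nat_lit 5) (Steps.bwd (nat_lit 8) (Steps.fwd (nat_lit 20480) Steps.nil)))) (nat_lit 37) (nat_lit 0),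
  Rule.mk (nat_lit 6) (nat_lit 739) (Steps.bwd (nat_lit 4) (Steps.bwd (nat_lit 3) (Steps.bwd (nat_lit 2) (Steps.bwd (nat_lit 3) (Steps.bwd (nat_lit 4) (Steps.bwd (nat_lit 5) (Steps.bwd (nat_lit 4) (Steps.bwd (nat_lit 2) (Steps.bwd (nat_lit 3) (Steps.bwd (nat_lit 4) (Steps.bwd (nat_lit 3) (Steps.bwd (nat_lit 2) (Steps.bwd (nat_lit 3) (Steps.bwd (nat_lit 6) (Steps.bwd (nat_lit 4) (Steps.bwd (nat_lit 3) (Steps.bwd (nat_lit 2) (Steps.bwd (nat_lit 3) (Steps.bwd (nat_lit 4) (Steps.bwd (nat_lit 5) (Steps.bwd (nat_lit 4) (Steps.bwd (nat_lit 5) (Steps.bwd (nat_lit 4) (Steps.bwd (nat_lit 3) (Steps.bwd (nat_lit 2) (Steps.bwd (nat_lit 3) (Steps.bwd (nat_lit 4) (Steps.bwd (nat_lit 5) (Steps.bwd (nat_lit 4) (Steps.bwd (nat_lit 3) (Steps.bwd (nat_lit 2) (Steps.bwd (nat_lit 3) (Steps.bwd (nat_lit 4) (Steps.bwd (nat_lit 6) (Steps.bwd (nat_lit 6) (Steps.bwd (nat_lit 6) (Steps.bwd (nat_lit 4) (Steps.bwd (nat_lit 3) (Steps.bwd (nat_lit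 2) (Steps.bwd (nat_lit 3) (Steps.bwd (nat_lit 4) (Steps.bwd (nat_lit 6) (Steps.bwd (nat_lit 4) (Steps.bwd (nat_lit 3) (Steps.bwd (nat_lit 2) (Steps.bwd (nat_lit 3) (Steps.fwd (nat_lit 16384) (Steps.bwd (nat_lit 5) (Steps.fwd (nat_lit 24576) (Steps.fwd (nat_lit 8192) (Steps.bwd (nat_lit 3) (Steps.fwd (nat_lit 16384) Steps.nil)))))))))))))))))))))))))))))))))))))))))))))))))))) (nat_lit 44) (nat_lit 4),
  Rule.mk (nat_lit 3) (nat_lit 151) (Steps.bwd (nat_lit 4) (Steps.bwd (nat_lit 10) (Steps.bwd (nat_lit 3) (Steps.bwd (nat_lit 9) (Steps.bwd (nat_lit 18) (Steps.fwd (nat_lit 12288) (Steps.fwd (nat_lit 16384) (Steps.fwd (nat_lit 36864) (Steps.fwd (nat_lit 12288) (Steps.fwd (nat_lit 40960) Steps.nil)))))))))) (nat_lit 52) (nat_lit 6),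
  Rule.mk (nat_lit 0) (nat_lit 95) (Steps.fwd (nat_lit 16384) (Steps.fwd (nat_lit 12288) (Steps.fwd (nat_lit 16384) (Steps.fwd (nat_lit 12288) (Steps.fwd (nat_lit 16384) (Steps.fwd (nat_lit 12288) Steps.nil)))))) (nat_lit 14) (nat_lit 1),
  Rule.mk (nat_lit 0) (nat_lit 53) (Steps.fwd (nat_lit 40960) (Steps.fwd (nat_lit 0) (Steps.fwd (nat_lit 36864) Steps.nil))) (nat_lit 230) (nat_lit 0),
  Rule.mk (nat_lit 0) (nat_lit 53) (Steps.fwd (nat_lit 12288) (Steps.fwd (nat_lit 0) (Steps.fwd (nat_lit 12288) Steps.nil))) (nat_lit 230) (nat_lit 0),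
  Rule.mk (nat_lit 0) (nat_lit 53) (Steps.bwd (nat_lit 17) (Steps.bwd (nat_lit 0) (Steps.bwd (nat_lit 18) Steps.nil))) (nat_lit 230) (nat_lit 0),
  Rule.mk (nat_lit 0) (nat_lit 53) (Steps.fwd (nat_lit 24576) (Steps.bwd (nat_lit 0) (Steps.bwd (nat_lit 6) Steps.nil))) (nat_lit 230) (nat_lit 0),
  Rule.mk (nat_lit 17) (nat_lit 39) (Steps.bwd (nat_lit 0) (Steps.fwd (nat_lit 69632) Steps.nil)) (nat_lit 230) (nat_lit 0),
  Rule.mk (nat_lit 18) (nat_lit 151) (Steps.bwd (nat_lit 3) (Steps.bwd (nat_lit 4) (Steps.fwd (nat_lit 36864) (Steps.fwd (nat_lit 12288) (Steps.fwd (nat_lit 40960) (Steps.fwd (nat_lit 12288) (Steps.fwd (nat_lit 16384) (Steps.bwd (nat_lit 10) (Steps.bwd (nat_lit 3) (Steps.bwd (nat_lit 9) Steps.nil)))))))))) (nat_lit 52) (nat_lit 0),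
  Rule.mk (nat_lit 18) (nat_lit 53) (Steps.fwd (nat_lit 12288) (Steps.fwd (nat_lit 73728) (Steps.bwd (nat_lit 3) Steps.nil))) (nat_lit 112) (nat_lit 1),
  Rule.mk (nat_lit 17) (nat_lit 53) (Steps.bwd (nat_lit 11) (Steps.bwd (nat_lit 18) (Steps.fwd (nat_lit 45056) Steps.nil))) (nat_lit 122) (nat_lit 3),
  Rule.mk (nat_lit 18) (nat_lit 53) (Steps.fwd (nat_lit 40960) (Steps.bwd (nat_lit 17) (Steps.fwd (nat_lit 36864) Steps.nil))) (nat_lit 121) (nat_lit 2)]
noncomputable def R_12 : List (Rule) := [Rule.mk (nat_lit 17) (nat_lit 53) (Steps.bwd (nat_lit 5) (Steps.bwd (nat_lit 18) (Steps.bwd (nat_lit 6) Steps.nil))) (nat_lit 116) (nat_lit 3),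
  Rule.mk (nat_lit 18) (nat_lit 53) (Steps.bwd (nat_lit 6) (Steps.fwd (nat_lit 73728) (Steps.fwd (nat_lit 24576) Steps.nil))) (nat_lit 116) (nat_lit 1),
  Rule.mk (nat_lit 17) (nat_lit 53) (Steps.bwd (nat_lit 6) (Steps.fwd (nat_lit 69632) (Steps.fwd (nat_lit 24576) Steps.nil))) (nat_lit 117) (nat_lit 0),
  Rule.mk (nat_lit 6) (nat_lit 263) (Steps.bwd (nat_lit 10) (Steps.bwd (nat_lit 5) (Steps.bwd (nat_lit 9) (Steps.bwd (nat_lit 6) (Steps.bwd (nat_lit 10) (Steps.bwd (nat_lit 5) (Steps.bwd (nat_lit 9) (Steps.bwd (nat_lit 6) (Steps.fwd (nat_lit 36864) (Steps.fwd (nat_lit 24576) (Steps.bwd (nat_lit 9) (Steps.bwd (nat_lit 22) (Steps.fwd (nat_lit 4096) (Steps.fwd (nat_lit 8192) (Steps.fwd (nat_lit 20480) (Steps.fwd (nat_lit 36864) (Steps.fwd (nat_lit 24576) (Steps.fwd (nat_lit 40960) Steps.nil)))))))))))))))))) (nat_lit 56) (nat_lit 7),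
  Rule.mk (nat_lit 18) (nat_lit 53) (Steps.fwd (nat_lit 32768) (Steps.bwd (nat_lit 17) (Steps.bwd (nat_lit 8) Steps.nil))) (nat_lit 119) (nat_lit 2),
  Rule.mk (nat_lit 0) (nat_lit 67) (Steps.bwd (nat_lit 18) (Steps.fwd (nat_lit 20480) (Steps.fwd (nat_lit 73728) (Steps.bwd (nat_lit 5) Steps.nil)))) (nat_lit 116) (nat_lit 0),
  Rule.mk (nat_lit 22) (nat_lit 53) (Steps.bwd (nat_lit 17) (Steps.fwd (nat_lit 90112) (Steps.fwd (nat_lit 69632) Steps.nil))) (nat_lit 171) (nat_lit 2),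
  Rule.mk (nat_lit 18) (nat_lit 53) (Steps.bwd (nat_lit 21) (Steps.fwd (nat_lit 73728) (Steps.bwd (nat_lit 22) Steps.nil))) (nat_lit 170) (nat_lit 2),
  Rule.mk (nat_lit 0) (nat_lit 67) (Steps.fwd (nat_lit 69632) (Steps.bwd (nat_lit 9) (Steps.fwd (nat_lit 73728) (Steps.fwd (nat_lit 36864) Steps.nil)))) (nat_lit 121) (nat_lit 1),
  Rule.mk (nat_lit 5) (nat_lit 53) (Steps.bwd (nat_lit 17) (Steps.fwd (nat_lit 20480) (Steps.bwd (nat_lit 18) Steps.nil))) (nat_lit 117) (nat_lit 3),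
  Rule.mk (nat_lit 3) (nat_lit 585) (Steps.bwd (nat_lit 6) (Steps.bwd (nat_lit 6) (Steps.bwd (nat_lit 9) (Steps.bwd (nat_lit 5) (Steps.bwd (nat_lit 5) (Steps.bwd (nat_lit 3) (Steps.bwd (nat_lit 6) (Steps.bwd (nat_lit 6) (Steps.bwd (nat_lit 9) (Steps.bwd (nat_lit 5) (Steps.bwd (nat_lit 5) (Steps.bwd (nat_lit 3) (Steps.bwd (nat_lit 6) (Steps.bwd (nat_lit 6) (Steps.bwd (nat_lit 9) (Steps.bwd (nat_lit 4) (Steps.bwd (nat_lit 3) (Steps.bwd (nat_lit 2) (Steps.bwd (nat_lit 3) (Steps.bwd (nat_lit 4) (Steps.bwd (nat_lit 5) (Steps.bwd (nat_lit 5) (Steps.bwd (nat_lit 5) (Steps.bwd (nat_lit 4) (Steps.bwd (nat_lit 3) (Steps.bwd (nat_lit 2) (Steps.bwd (nat_lit 3) (Steps.bwd (nat_lit 4) (Steps.bwd (nat_lit 6) (Steps.bwd (nat_lit 3) (Steps.bwd (nat_lit 2) (Steps.bwd (nat_lit 3) (Steps.bwd (nat_lit 2) (Steps.bwd (nat_lit 1) (Steps.bwd (nat_lit 24) (Steps.fwd (nat_lit 12288) (Steps.fwd (nat_lit 20480) (Steps.fwd (nat_lit 20480) (Steps.bwd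 (nat_lit 9) (Steps.fwd (nat_lit 24576) (Steps.bwd (nat_lit 5) Steps.nil))))))))))))))))))))))))))))))))))))))))) (nat_lit 58) (nat_lit 7),
  Rule.mk (nat_lit 17) (nat_lit 53) (Steps.fwd (nat_lit 12288) (Steps.fwd (nat_lit 69632) (Steps.bwd (nat_lit 3) Steps.nil))) (nat_lit 112) (nat_lit 3),
  Rule.mk (nat_lit 18) (nat_lit 53) (Steps.fwd (nat_lit 94208) (Steps.fwd (nat_lit 73728) (Steps.bwd (nat_lit 23) Steps.nil))) (nat_lit 195) (nat_lit 1),
  Rule.mk (nat_lit 18) (nat_lit 53) (Steps.bwd (nat_lit 5) (Steps.bwd (nat_lit 17) (Steps.fwd (nat_lit 20480) Steps.nil))) (nat_lit 117) (nat_lit 2),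
  Rule.mk (nat_lit 18) (nat_lit 53) (Steps.fwd (nat_lit 28672) (Steps.bwd (nat_lit 17) (Steps.bwd (nat_lit 7) Steps.nil))) (nat_lit 118) (nat_lit 1),
  Rule.mk (nat_lit 18) (nat_lit 53) (Steps.bwd (nat_lit 3) (Steps.bwd (nat_lit 17) (Steps.fwd (nat_lit 12288) Steps.nil))) (nat_lit 112) (nat_lit 1),
  Rule.mk (nat_lit 7) (nat_lit 53) (Steps.bwd (nat_lit 18) (Steps.fwd (nat_lit 28672) (Steps.bwd (nat_lit 17) Steps.nil))) (nat_lit 118) (nat_lit 0),
  Rule.mk (nat_lit 18) (nat_lit 151) (Steps.fwd (nat_lit 12288) (Steps.bwd (nat_lit 4) (Steps.fwd (nat_lit 36864) (Steps.fwd (nat_lit 12288) (Steps.fwd (nat_lit 40960) (Steps.fwd (nat_lit 12288) (Steps.bwd (nat_lit 4) (Steps.fwd (nat_lit 36864) (Steps.fwd (nat_lit 12288) (Steps.fwd (nat_lit 40960) Steps.nil)))))))))) (nat_lit 52) (nat_lit 0),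
  Rule.mk (nat_lit 9) (nat_lit 67) (Steps.bwd (nat_lit 2) (Steps.fwd (nat_lit 4096) (Steps.bwd (nat_lit 12) (Steps.fwd (nat_lit 40960) Steps.nil)))) (nat_lit 46) (nat_lit 2),
  Rule.mk (nat_lit 10) (nat_lit 67) (Steps.bwd (nat_lit 2) (Steps.fwd (nat_lit 40960) (Steps.fwd (nat_lit 8192) (Steps.fwd (nat_lit 61440) Steps.nil)))) (nat_lit 50) (nat_lit 1),
  Rule.mk (nat_lit 10) (nat_lit 151) (Steps.bwd (nat_lit 3) (Steps.bwd (nat_lit 9) (Steps.fwd (nat_lit 12288) (Steps.fwd (nat_lit 16384) (Steps.fwd (nat_lit 36864) (Steps.fwd (nat_lit 12288) (Steps.bwd (nat_lit 9) (Steps.bwd (nat_lit 18) (Steps.fwd (nat_lit 12288) (Steps.fwd (nat_lit 16384) Steps.nil)))))))))) (nat_lit 52) (nat_lit 3),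
  Rule.mk (nat_lit 18) (nat_lit 53) (Steps.fwd (nat_lit 40960) (Steps.bwd (nat_lit 17) (Steps.bwd (nat_lit 10) Steps.nil))) (nat_lit 121) (nat_lit 2),
  Rule.mk (nat_lit 2) (nat_lit 53) (Steps.bwd (nat_lit 18) (Steps.fwd (nat_lit 8192) (Steps.bwd (nat_lit 17) Steps.nil))) (nat_lit 110) (nat_lit 0),
  Rule.mk (nat_lit 2) (nat_lit 53) (Steps.fwd (nat_lit 69632) (Steps.bwd (nat_lit 2) (Steps.bwd (nat_lit 17) Steps.nil))) (nat_lit 110) (nat_lit 0),
  Rule.mk (nat_lit 4) (nat_lit 53) (Steps.fwd (nat_lit 69632) (Steps.bwd (nat_lit 4) (Steps.bwd (nat_lit 17) Steps.nil))) (nat_lit 114) (nat_lit 0),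
  Rule.mk (nat_lit 0) (nat_lit 137) (Steps.bwd (nat_lit 3) (Steps.bwd (nat_lit 2) (Steps.bwd (nat_lit 3) (Steps.bwd (nat_lit 2) (Steps.bwd (nat_lit 3) (Steps.bwd (nat_lit 2) (Steps.fwd (nat_lit 4096) (Steps.bwd (nat_lit 3) (Steps.bwd (nat_lit 2) Steps.nil))))))))) (nat_lit 10) (nat_lit 3),
  Rule.mk (nat_lit 0) (nat_lit 67) (Steps.bwd (nat_lit 4) (Steps.fwd (nat_lit 0) (Steps.bwd (nat_lit 4) (Steps.fwd (nat_lit 0) Steps.nil)))) (nat_lit 230) (nat_lit 0),
  Rule.mk (nat_lit 0) (nat_lit 67) (Steps.bwd (nat_lit 17) (Steps.fwd (nat_lit 0) (Steps.fwd (nat_lit 69632) (Steps.fwd (nat_lit 0) Steps.nil)))) (nat_lit 230) (nat_lit 0),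
  Rule.mk (nat_lit 0) (nat_lit 53) (Steps.fwd (nat_lit 8192) (Steps.fwd (nat_lit 0) (Steps.fwd (nat_lit 8192) Steps.nil))) (nat_lit 230) (nat_lit 0),
  Rule.mk (nat_lit 0) (nat_lit 53) (Steps.fwd (nat_lit 36864) (Steps.fwd (nat_lit 0) (Steps.bwd (nat_lit 9) Steps.nil))) (nat_lit 230) (nat_lit 0),
  Rule.mk (nat_lit 0) (nat_lit 67) (Steps.fwd (nat_lit 73728) (Steps.fwd (nat_lit 0) (Steps.bwd (nat_lit 18) (Steps.fwd (nat_lit 0) Steps.nil)))) (nat_lit 230) (nat_lit 0),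
  Rule.mk (nat_lit 0) (nat_lit 53) (Steps.bwd (nat_lit 2) (Steps.bwd (nat_lit 0) (Steps.fwd (nat_lit 8192) Steps.nil))) (nat_lit 230) (nat_lit 0),
  Rule.mk (nat_lit 0) (nat_lit 53) (Steps.fwd (nat_lit 36864) (Steps.bwd (nat_lit 0) (Steps.bwd (nat_lit 9) Steps.nil))) (nat_lit 230) (nat_lit 0),
  Rule.mk (nat_lit 0) (nat_lit 53) (Steps.fwd (nat_lit 49152) (Steps.fwd (nat_lit 0) (Steps.bwd (nat_lit 12) Steps.nil))) (nat_lit 230) (nat_lit 0),
  Rule.mk (nat_lit 0) (nat_lit 53) (Steps.fwd (nat_lit 12288) (Steps.bwd (nat_lit 0) (Steps.fwd (nat_lit 12288) Steps.nil))) (nat_lit 230) (nat_lit 0),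
  Rule.mk (nat_lit 0) (nat_lit 53) (Steps.bwd (nat_lit 5) (Steps.bwd (nat_lit 0) (Steps.fwd (nat_lit 20480) Steps.nil))) (nat_lit 230) (nat_lit 0),
  Rule.mk (nat_lit 0) (nat_lit 53) (Steps.bwd (nat_lit 6) (Steps.bwd (nat_lit 0) (Steps.fwd (nat_lit 24576) Steps.nil))) (nat_lit 230) (nat_lit 0),
  Rule.mk (nat_lit 0) (nat_lit 53) (Steps.fwd (nat_lit 98304) (Steps.bwd (nat_lit 0) (Steps.fwd (nat_lit 94208) Steps.nil))) (nat_lit 230) (nat_lit 0),
  Rule.mk (nat_lit 0) (nat_lit 67) (Steps.bwd (nat_lit 9) (Steps.fwd (nat_lit 0) (Steps.bwd (nat_lit 10) (Steps.fwd (nat_lit 0) Steps.nil)))) (nat_lit 230) (nat_lit 0),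
  Rule.mk (nat_lit 0) (nat_lit 67) (Steps.fwd (nat_lit 36864) (Steps.fwd (nat_lit 0) (Steps.bwd (nat_lit 9) (Steps.fwd (nat_lit 0) Steps.nil)))) (nat_lit 230) (nat_lit 0),
  Rule.mk (nat_lit 0) (nat_lit 67) (Steps.bwd (nat_lit 3) (Steps.fwd (nat_lit 0) (Steps.bwd (nat_lit 3) (Steps.fwd (nat_lit 0) Steps.nil)))) (nat_lit 230) (nat_lit 0),
  Rule.mk (nat_lit 0) (nat_lit 67) (Steps.bwd (nat_lit 5) (Steps.fwd (nat_lit 0) (Steps.fwd (nat_lit 20480) (Steps.fwd (nat_lit 0) Steps.nil)))) (nat_lit 230) (nat_lit 0),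
  Rule.mk (nat_lit 17) (nat_lit 39) (Steps.bwd (nat_lit 0) (Steps.bwd (nat_lit 18) Steps.nil)) (nat_lit 230) (nat_lit 0),
  Rule.mk (nat_lit 0) (nat_lit 53) (Steps.fwd (nat_lit 16384) (Steps.fwd (nat_lit 0) (Steps.bwd (nat_lit 4) Steps.nil))) (nat_lit 230) (nat_lit 0),
  Rule.mk (nat_lit 0) (nat_lit 67) (Steps.bwd (nat_lit 0) (Steps.fwd (nat_lit 73728) (Steps.bwd (nat_lit 0) (Steps.bwd (nat_lit 18) Steps.nil)))) (nat_lit 230) (nat_lit 0),
  Rule.mk (nat_lit 0) (nat_lit 53) (Steps.fwd (nat_lit 98304) (Steps.fwd (nat_lit 0) (Steps.fwd (nat_lit 94208) Steps.nil))) (nat_lit 230) (nat_lit 0),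
  Rule.mk (nat_lit 0) (nat_lit 53) (Steps.bwd (nat_lit 6) (Steps.fwd (nat_lit 0) (Steps.fwd (nat_lit 24576) Steps.nil))) (nat_lit 230) (nat_lit 0),
  Rule.mk (nat_lit 0) (nat_lit 53) (Steps.fwd (nat_lit 94208) (Steps.fwd (nat_lit 0) (Steps.bwd (nat_lit 23) Steps.nil))) (nat_lit 230) (nat_lit 0),
  Rule.mk (nat_lit 0) (nat_lit 53) (Steps.fwd (nat_lit 32768) (Steps.fwd (nat_lit 0) (Steps.bwd (nat_lit 8) Steps.nil))) (nat_lit 230) (nat_lit 0),
  Rule.mk (nat_lit 0) (nat_lit 53) (Steps.bwd (nat_lit 5) (Steps.fwd (nat_lit 0) (Steps.bwd (nat_lit 6) Steps.nil))) (nat_lit 230) (nat_lit 0),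
  Rule.mk (nat_lit 0) (nat_lit 53) (Steps.fwd (nat_lit 36864) (Steps.bwd (nat_lit 0) (Steps.fwd (nat_lit 40960) Steps.nil))) (nat_lit 230) (nat_lit 0),
  Rule.mk (nat_lit 0) (nat_lit 53) (Steps.bwd (nat_lit 24) (Steps.fwd (nat_lit 0) (Steps.bwd (nat_lit 23) Steps.nil))) (nat_lit 230) (nat_lit 0),
  Rule.mk (nat_lit 0) (nat_lit 53) (Steps.bwd (nat_lit 24) (Steps.fwd (nat_lit 0) (Steps.fwd (nat_lit 98304) Steps.nil))) (nat_lit 230) (nat_lit 0),
  Rule.mk (nat_lit 0) (nat_lit 53) (Steps.bwd (nat_lit 9) (Steps.fwd (nat_lit 0) (Steps.fwd (nat_lit 36864) Steps.nil))) (nat_lit 230) (nat_lit 0),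
  Rule.mk (nat_lit 0) (nat_lit 53) (Steps.fwd (nat_lit 8192) (Steps.fwd (nat_lit 0) (Steps.bwd (nat_lit 2) Steps.nil))) (nat_lit 230) (nat_lit 0),
  Rule.mk (nat_lit 0) (nat_lit 53) (Steps.fwd (nat_lit 32768) (Steps.fwd (nat_lit 0) (Steps.fwd (nat_lit 28672) Steps.nil))) (nat_lit 230) (nat_lit 0),
  Rule.mk (nat_lit 17) (nat_lit 53) (Steps.bwd (nat_lit 23) (Steps.bwd (nat_lit 18) (Steps.fwd (nat_lit 94208) Steps.nil))) (nat_lit 195) (nat_lit 3),
  Rule.mk (nat_lit 17) (nat_lit 53) (Steps.fwd (nat_lit 28672) (Steps.bwd (nat_lit 18) (Steps.bwd (nat_lit 7) Steps.nil))) (nat_lit 119) (nat_lit 0),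
  Rule.mk (nat_lit 18) (nat_lit 53) (Steps.fwd (nat_lit 45056) (Steps.bwd (nat_lit 17) (Steps.bwd (nat_lit 11) Steps.nil))) (nat_lit 122) (nat_lit 1),
  Rule.mk (nat_lit 17) (nat_lit 53) (Steps.bwd (nat_lit 24) (Steps.bwd (nat_lit 18) (Steps.fwd (nat_lit 98304) Steps.nil))) (nat_lit 194) (nat_lit 0),
  Rule.mk (nat_lit 17) (nat_lit 53) (Steps.bwd (nat_lit 4) (Steps.bwd (nat_lit 18) (Steps.fwd (nat_lit 16384) Steps.nil))) (nat_lit 114) (nat_lit 3),
  Rule.mk (nat_lit 17) (nat_lit 53) (Steps.bwd (nat_lit 2) (Steps.bwd (nat_lit 18) (Steps.fwd (nat_lit 8192) Steps.nil))) (nat_lit 110) (nat_lit 3),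
  Rule.mk (nat_lit 18) (nat_lit 53) (Steps.bwd (nat_lit 9) (Steps.bwd (nat_lit 17) (Steps.fwd (nat_lit 36864) Steps.nil))) (nat_lit 121) (nat_lit 2),
  Rule.mk (nat_lit 18) (nat_lit 53) (Steps.bwd (nat_lit 7) (Steps.bwd (nat_lit 17) (Steps.fwd (nat_lit 28672) Steps.nil))) (nat_lit 119) (nat_lit 2)]
noncomputable def R_13 : List (Rule) := [Rule.mk (nat_lit 10) (nat_lit 53) (Steps.bwd (nat_lit 4) (Steps.bwd (nat_lit 9) (Steps.fwd (nat_lit 16384) Steps.nil))) (nat_lit 40) (nat_lit 1),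
  Rule.mk (nat_lit 4) (nat_lit 53) (Steps.bwd (nat_lit 2) (Steps.bwd (nat_lit 4) (Steps.fwd (nat_lit 8192) Steps.nil))) (nat_lit 12) (nat_lit 0),
  Rule.mk (nat_lit 10) (nat_lit 67) (Steps.bwd (nat_lit 10) (Steps.bwd (nat_lit 11) (Steps.fwd (nat_lit 4096) (Steps.fwd (nat_lit 8192) Steps.nil)))) (nat_lit 47) (nat_lit 4),
  Rule.mk (nat_lit 4) (nat_lit 53) (Steps.bwd (nat_lit 2) (Steps.fwd (nat_lit 16384) (Steps.bwd (nat_lit 2) Steps.nil))) (nat_lit 12) (nat_lit 0),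
  Rule.mk (nat_lit 10) (nat_lit 53) (Steps.bwd (nat_lit 4) (Steps.bwd (nat_lit 9) (Steps.bwd (nat_lit 4) Steps.nil))) (nat_lit 40) (nat_lit 1),
  Rule.mk (nat_lit 9) (nat_lit 53) (Steps.fwd (nat_lit 16384) (Steps.bwd (nat_lit 10) (Steps.bwd (nat_lit 4) Steps.nil))) (nat_lit 40) (nat_lit 3),
  Rule.mk (nat_lit 2) (nat_lit 53) (Steps.bwd (nat_lit 5) (Steps.fwd (nat_lit 8192) (Steps.bwd (nat_lit 6) Steps.nil))) (nat_lit 20) (nat_lit 2),
  Rule.mk (nat_lit 21) (nat_lit 53) (Steps.bwd (nat_lit 2) (Steps.bwd (nat_lit 22) (Steps.bwd (nat_lit 2) Steps.nil))) (nat_lit 152) (nat_lit 3),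
  Rule.mk (nat_lit 10) (nat_lit 67) (Steps.fwd (nat_lit 36864) (Steps.bwd (nat_lit 11) (Steps.fwd (nat_lit 4096) (Steps.bwd (nat_lit 2) Steps.nil)))) (nat_lit 47) (nat_lit 4),
  Rule.mk (nat_lit 5) (nat_lit 81) (Steps.bwd (nat_lit 9) (Steps.bwd (nat_lit 5) (Steps.bwd (nat_lit 10) (Steps.bwd (nat_lit 5) (Steps.fwd (nat_lit 40960) Steps.nil))))) (nat_lit 42) (nat_lit 4),
  Rule.mk (nat_lit 6) (nat_lit 123) (Steps.bwd (nat_lit 6) (Steps.bwd (nat_lit 4) (Steps.fwd (nat_lit 24576) (Steps.fwd (nat_lit 24576) (Steps.fwd (nat_lit 24576) (Steps.bwd (nat_lit 4) (Steps.bwd (nat_lit 6) (Steps.bwd (nat_lit 4) Steps.nil)))))))) (nat_lit 24) (nat_lit 6),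
  Rule.mk (nat_lit 6) (nat_lit 179) (Steps.bwd (nat_lit 10) (Steps.bwd (nat_lit 5) (Steps.bwd (nat_lit 5) (Steps.bwd (nat_lit 4) (Steps.bwd (nat_lit 6) (Steps.bwd (nat_lit 6) (Steps.bwd (nat_lit 9) (Steps.fwd (nat_lit 24576) (Steps.fwd (nat_lit 24576) (Steps.fwd (nat_lit 77824) (Steps.bwd (nat_lit 4) (Steps.bwd (nat_lit 6) Steps.nil)))))))))))) (nat_lit 54) (nat_lit 3),
  Rule.mk (nat_lit 26) (nat_lit 53) (Steps.fwd (nat_lit 40960) (Steps.bwd (nat_lit 25) (Steps.bwd (nat_lit 10) Steps.nil))) (nat_lit 215) (nat_lit 2),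
  Rule.mk (nat_lit 20) (nat_lit 53) (Steps.fwd (nat_lit 40960) (Steps.bwd (nat_lit 19) (Steps.bwd (nat_lit 10) Steps.nil))) (nat_lit 141) (nat_lit 2),
  Rule.mk (nat_lit 7) (nat_lit 53) (Steps.bwd (nat_lit 9) (Steps.fwd (nat_lit 32768) (Steps.fwd (nat_lit 36864) Steps.nil))) (nat_lit 38) (nat_lit 2),
  Rule.mk (nat_lit 2) (nat_lit 53) (Steps.bwd (nat_lit 8) (Steps.fwd (nat_lit 8192) (Steps.bwd (nat_lit 7) Steps.nil))) (nat_lit 30) (nat_lit 0),
  Rule.mk (nat_lit 4) (nat_lit 193) (Steps.bwd (nat_lit 10) (Steps.bwd (nat_lit 6) (Steps.bwd (nat_lit 4) (Steps.bwd (nat_lit 10) (Steps.bwd (nat_lit 6) (Steps.bwd (nat_lit 4) (Steps.bwd (nat_lit 5) (Steps.bwd (nat_lit 9) (Steps.bwd (nat_lit 5) (Steps.bwd (nat_lit 9) (Steps.fwd (nat_lit 24576) (Steps.bwd (nat_lit 25) (Steps.bwd (nat_lit 6) Steps.nil))))))))))))) (nat_lit 200) (nat_lit 2),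
  Rule.mk (nat_lit 4) (nat_lit 53) (Steps.bwd (nat_lit 9) (Steps.bwd (nat_lit 4) (Steps.bwd (nat_lit 10) Steps.nil))) (nat_lit 40) (nat_lit 2),
  Rule.mk (nat_lit 12) (nat_lit 53) (Steps.bwd (nat_lit 4) (Steps.bwd (nat_lit 11) (Steps.bwd (nat_lit 4) Steps.nil))) (nat_lit 66) (nat_lit 1),
  Rule.mk (nat_lit 11) (nat_lit 53) (Steps.bwd (nat_lit 4) (Steps.bwd (nat_lit 12) (Steps.bwd (nat_lit 4) Steps.nil))) (nat_lit 66) (nat_lit 3),
  Rule.mk (nat_lit 22) (nat_lit 53) (Steps.bwd (nat_lit 4) (Steps.bwd (nat_lit 21) (Steps.bwd (nat_lit 4) Steps.nil))) (nat_lit 156) (nat_lit 1),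
  Rule.mk (nat_lit 21) (nat_lit 53) (Steps.bwd (nat_lit 4) (Steps.bwd (nat_lit 22) (Steps.bwd (nat_lit 4) Steps.nil))) (nat_lit 156) (nat_lit 3),
  Rule.mk (nat_lit 26) (nat_lit 53) (Steps.fwd (nat_lit 16384) (Steps.fwd (nat_lit 106496) (Steps.bwd (nat_lit 4) Steps.nil))) (nat_lit 208) (nat_lit 1),
  Rule.mk (nat_lit 14) (nat_lit 53) (Steps.fwd (nat_lit 90112) (Steps.bwd (nat_lit 13) (Steps.bwd (nat_lit 22) Steps.nil))) (nat_lit 166) (nat_lit 2),
  Rule.mk (nat_lit 16) (nat_lit 53) (Steps.fwd (nat_lit 90112) (Steps.bwd (nat_lit 15) (Steps.bwd (nat_lit 22) Steps.nil))) (nat_lit 168) (nat_lit 2),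
  Rule.mk (nat_lit 18) (nat_lit 53) (Steps.fwd (nat_lit 90112) (Steps.bwd (nat_lit 17) (Steps.bwd (nat_lit 22) Steps.nil))) (nat_lit 170) (nat_lit 2),
  Rule.mk (nat_lit 20) (nat_lit 53) (Steps.fwd (nat_lit 90112) (Steps.bwd (nat_lit 19) (Steps.bwd (nat_lit 22) Steps.nil))) (nat_lit 172) (nat_lit 2),
  Rule.mk (nat_lit 2) (nat_lit 67) (Steps.bwd (nat_lit 10) (Steps.bwd (nat_lit 10) (Steps.bwd (nat_lit 11) (Steps.fwd (nat_lit 4096) Steps.nil)))) (nat_lit 47) (nat_lit 3),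
  Rule.mk (nat_lit 2) (nat_lit 53) (Steps.fwd (nat_lit 16384) (Steps.bwd (nat_lit 2) (Steps.bwd (nat_lit 4) Steps.nil))) (nat_lit 12) (nat_lit 1),
  Rule.mk (nat_lit 10) (nat_lit 67) (Steps.bwd (nat_lit 2) (Steps.bwd (nat_lit 9) (Steps.bwd (nat_lit 2) (Steps.fwd (nat_lit 61440) Steps.nil)))) (nat_lit 50) (nat_lit 1),
  Rule.mk (nat_lit 0) (nat_lit 95) (Steps.bwd (nat_lit 5) (Steps.bwd (nat_lit 9) (Steps.bwd (nat_lit 5) (Steps.bwd (nat_lit 10) (Steps.fwd (nat_lit 24576) (Steps.bwd (nat_lit 9) Steps.nil)))))) (nat_lit 42) (nat_lit 3),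
  Rule.mk (nat_lit 0) (nat_lit 53) (Steps.bwd (nat_lit 4) (Steps.fwd (nat_lit 0) (Steps.bwd (nat_lit 4) Steps.nil))) (nat_lit 230) (nat_lit 0),
  Rule.mk (nat_lit 9) (nat_lit 263) (Steps.bwd (nat_lit 6) (Steps.bwd (nat_lit 10) (Steps.bwd (nat_lit 5) (Steps.bwd (nat_lit 9) (Steps.bwd (nat_lit 6) (Steps.bwd (nat_lit 10) (Steps.bwd (nat_lit 5) (Steps.bwd (nat_lit 9) (Steps.bwd (nat_lit 6) (Steps.bwd (nat_lit 10) (Steps.bwd (nat_lit 5) (Steps.bwd (nat_lit 9) (Steps.fwd (nat_lit 86016) (Steps.fwd (nat_lit 4096) (Steps.bwd (nat_lit 2) (Steps.fwd (nat_lit 20480) (Steps.bwd (nat_lit 10) (Steps.fwd (nat_lit 24576) Steps.nil)))))))))))))))))) (nat_lit 56) (nat_lit 6),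
  Rule.mk (nat_lit 18) (nat_lit 53) (Steps.fwd (nat_lit 36864) (Steps.fwd (nat_lit 73728) (Steps.bwd (nat_lit 9) Steps.nil))) (nat_lit 120) (nat_lit 1),
  Rule.mk (nat_lit 5) (nat_lit 81) (Steps.fwd (nat_lit 36864) (Steps.fwd (nat_lit 24576) (Steps.bwd (nat_lit 9) (Steps.fwd (nat_lit 24576) (Steps.bwd (nat_lit 9) Steps.nil))))) (nat_lit 42) (nat_lit 6),
  Rule.mk (nat_lit 2) (nat_lit 53) (Steps.bwd (nat_lit 5) (Steps.bwd (nat_lit 2) (Steps.fwd (nat_lit 20480) Steps.nil))) (nat_lit 20) (nat_lit 2),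
  Rule.mk (nat_lit 4) (nat_lit 585) (Steps.bwd (nat_lit 3) (Steps.bwd (nat_lit 2) (Steps.bwd (nat_lit 3) (Steps.bwd (nat_lit 4) (Steps.bwd (nat_lit 5) (Steps.bwd (nat_lit 5) (Steps.bwd (nat_lit 5) (Steps.bwd (nat_lit 4) (Steps.bwd (nat_lit 3) (Steps.bwd (nat_lit 2) (Steps.bwd (nat_lit 3) (Steps.bwd (nat_lit 4) (Steps.bwd (nat_lit 6) (Steps.fwd (nat_lit 12288) (Steps.fwd (nat_lit 8192) (Steps.bwd (nat_lit 3) (Steps.bwd (nat_lit 2) (Steps.fwd (nat_lit 4096) (Steps.bwd (nat_lit 24) (Steps.bwd (nat_lit 3) (Steps.fwd (nat_lit 20480) (Steps.bwd (nat_lit 6) (Steps.bwd (nat_lit 9) (Steps.fwd (nat_lit 24576) (Steps.bwd (nat_lit 5) (Steps.fwd (nat_lit 12288) (Steps.fwd (nat_lit 20480) (Steps.fwd (nat_lit 20480) (Steps.bwd (nat_lit 9) (Steps.fwd (nat_lit 24576) (Steps.bwd (nat_lit 5) (Steps.bwd (nat_lit 3) (Steps.bwd (nat_lit 6) (Steps.bwd (nat_lit 6) (Steps.bwd (nat_lit 9) (Steps.bwd (nat_lit 5) (Steps.bwd (nat_lit 5) (Steps.bwd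 (nat_lit 3) (Steps.bwd (nat_lit 6) (Steps.bwd (nat_lit 6) (Steps.bwd (nat_lit 9) Steps.nil))))))))))))))))))))))))))))))))))))))))) (nat_lit 58) (nat_lit 27),
  Rule.mk (nat_lit 11) (nat_lit 53) (Steps.bwd (nat_lit 6) (Steps.bwd (nat_lit 12) (Steps.bwd (nat_lit 5) Steps.nil))) (nat_lit 69) (nat_lit 0),
  Rule.mk (nat_lit 4) (nat_lit 739) (Steps.bwd (nat_lit 6) (Steps.bwd (nat_lit 4) (Steps.bwd (nat_lit 3) (Steps.bwd (nat_lit 2) (Steps.bwd (nat_lit 3) (Steps.bwd (nat_lit 4) (Steps.bwd (nat_lit 5) (Steps.bwd (nat_lit 4) (Steps.bwd (nat_lit 2) (Steps.bwd (nat_lit 3) (Steps.bwd (nat_lit 4) (Steps.bwd (nat_lit 3) (Steps.bwd (nat_lit 2) (Steps.bwd (nat_lit 3) (Steps.bwd (nat_lit 6) (Steps.bwd (nat_lit 4) (Steps.bwd (nat_lit 3) (Steps.bwd (nat_lit 2) (Steps.bwd (nat_lit 3) (Steps.bwd (nat_lit 4) (Steps.bwd (nat_lit 5) (Steps.bwd (nat_lit 4) (Steps.bwd (nat_lit 5) (Steps.bwd (nat_lit 4) (Steps.bwd (nat_lit 3) (Steps.bwd (nat_lit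 2) (Steps.bwd (nat_lit 3) (Steps.bwd (nat_lit 4) (Steps.bwd (nat_lit 5) (Steps.bwd (nat_lit 4) (Steps.bwd (nat_lit 3) (Steps.bwd (nat_lit 2) (Steps.bwd (nat_lit 3) (Steps.bwd (nat_lit 4) (Steps.bwd (nat_lit 6) (Steps.bwd (nat_lit 6) (Steps.bwd (nat_lit 6) (Steps.bwd (nat_lit 4) (Steps.bwd (nat_lit 3) (Steps.bwd (nat_lit 2) (Steps.bwd (nat_lit 3) (Steps.bwd (nat_lit 4) (Steps.bwd (nat_lit 6) (Steps.bwd (nat_lit 4) (Steps.bwd (nat_lit 3) (Steps.bwd (nat_lit 2) (Steps.bwd (nat_lit 3) (Steps.bwd (nat_lit 4) (Steps.fwd (nat_lit 24576) (Steps.fwd (nat_lit 24576) (Steps.bwd (nat_lit 2) (Steps.fwd (nat_lit 12288) Steps.nil)))))))))))))))))))))))))))))))))))))))))))))))))))) (nat_lit 44) (nat_lit 3),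
  Rule.mk (nat_lit 2) (nat_lit 53) (Steps.fwd (nat_lit 16384) (Steps.fwd (nat_lit 8192) (Steps.bwd (nat_lit 4) Steps.nil))) (nat_lit 12) (nat_lit 1),
  Rule.mk (nat_lit 8) (nat_lit 53) (Steps.fwd (nat_lit 16384) (Steps.fwd (nat_lit 32768) (Steps.bwd (nat_lit 4) Steps.nil))) (nat_lit 34) (nat_lit 1),
  Rule.mk (nat_lit 14) (nat_lit 53) (Steps.fwd (nat_lit 16384) (Steps.fwd (nat_lit 57344) (Steps.bwd (nat_lit 4) Steps.nil))) (nat_lit 80) (nat_lit 1),
  Rule.mk (nat_lit 16) (nat_lit 53) (Steps.fwd (nat_lit 16384) (Steps.fwd (nat_lit 65536) (Steps.bwd (nat_lit 4) Steps.nil))) (nat_lit 96) (nat_lit 1),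
  Rule.mk (nat_lit 18) (nat_lit 53) (Steps.fwd (nat_lit 16384) (Steps.fwd (nat_lit 73728) (Steps.bwd (nat_lit 4) Steps.nil))) (nat_lit 114) (nat_lit 1),
  Rule.mk (nat_lit 20) (nat_lit 53) (Steps.fwd (nat_lit 16384) (Steps.fwd (nat_lit 81920) (Steps.bwd (nat_lit 4) Steps.nil))) (nat_lit 134) (nat_lit 1),
  Rule.mk (nat_lit 2) (nat_lit 123) (Steps.fwd (nat_lit 12288) (Steps.fwd (nat_lit 8192) (Steps.fwd (nat_lit 12288) (Steps.fwd (nat_lit 8192) (Steps.fwd (nat_lit 4096) (Steps.bwd (nat_lit 3) (Steps.bwd (nat_lit 2) (Steps.bwd (nat_lit 3) Steps.nil)))))))) (nat_lit 10) (nat_lit 5),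
  Rule.mk (nat_lit 1) (nat_lit 123) (Steps.fwd (nat_lit 12288) (Steps.fwd (nat_lit 8192) (Steps.fwd (nat_lit 12288) (Steps.fwd (nat_lit 8192) (Steps.bwd (nat_lit 3) (Steps.bwd (nat_lit 2) (Steps.bwd (nat_lit 3) (Steps.fwd (nat_lit 8192) Steps.nil)))))))) (nat_lit 10) (nat_lit 1),
  Rule.mk (nat_lit 2) (nat_lit 53) (Steps.fwd (nat_lit 20480) (Steps.fwd (nat_lit 8192) (Steps.bwd (nat_lit 5) Steps.nil))) (nat_lit 20) (nat_lit 0),
  Rule.mk (nat_lit 0) (nat_lit 67) (Steps.fwd (nat_lit 16384) (Steps.fwd (nat_lit 8192) (Steps.bwd (nat_lit 4) (Steps.bwd (nat_lit 2) Steps.nil)))) (nat_lit 12) (nat_lit 1),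
  Rule.mk (nat_lit 0) (nat_lit 95) (Steps.bwd (nat_lit 3) (Steps.bwd (nat_lit 4) (Steps.bwd (nat_lit 3) (Steps.fwd (nat_lit 16384) (Steps.fwd (nat_lit 12288) (Steps.fwd (nat_lit 16384) Steps.nil)))))) (nat_lit 14) (nat_lit 0),
  Rule.mk (nat_lit 7) (nat_lit 53) (Steps.bwd (nat_lit 4) (Steps.bwd (nat_lit 8) (Steps.bwd (nat_lit 4) Steps.nil))) (nat_lit 34) (nat_lit 3),
  Rule.mk (nat_lit 21) (nat_lit 53) (Steps.bwd (nat_lit 5) (Steps.fwd (nat_lit 86016) (Steps.bwd (nat_lit 6) Steps.nil))) (nat_lit 158) (nat_lit 3),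
  Rule.mk (nat_lit 22) (nat_lit 53) (Steps.bwd (nat_lit 5) (Steps.fwd (nat_lit 90112) (Steps.bwd (nat_lit 6) Steps.nil))) (nat_lit 159) (nat_lit 2),
  Rule.mk (nat_lit 2) (nat_lit 53) (Steps.bwd (nat_lit 23) (Steps.bwd (nat_lit 2) (Steps.fwd (nat_lit 94208) Steps.nil))) (nat_lit 176) (nat_lit 2),
  Rule.mk (nat_lit 21) (nat_lit 53) (Steps.bwd (nat_lit 2) (Steps.fwd (nat_lit 86016) (Steps.bwd (nat_lit 2) Steps.nil))) (nat_lit 152) (nat_lit 3),
  Rule.mk (nat_lit 7) (nat_lit 67) (Steps.bwd (nat_lit 6) (Steps.fwd (nat_lit 20480) (Steps.bwd (nat_lit 8) (Steps.bwd (nat_lit 5) Steps.nil)))) (nat_lit 36) (nat_lit 3),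
  Rule.mk (nat_lit 14) (nat_lit 53) (Steps.fwd (nat_lit 28672) (Steps.fwd (nat_lit 57344) (Steps.bwd (nat_lit 7) Steps.nil))) (nat_lit 84) (nat_lit 1),
  Rule.mk (nat_lit 16) (nat_lit 53) (Steps.fwd (nat_lit 28672) (Steps.fwd (nat_lit 65536) (Steps.bwd (nat_lit 7) Steps.nil))) (nat_lit 100) (nat_lit 1),
  Rule.mk (nat_lit 18) (nat_lit 53) (Steps.fwd (nat_lit 28672) (Steps.fwd (nat_lit 73728) (Steps.bwd (nat_lit 7) Steps.nil))) (nat_lit 118) (nat_lit 1),
  Rule.mk (nat_lit 20) (nat_lit 53) (Steps.fwd (nat_lit 28672) (Steps.fwd (nat_lit 81920) (Steps.bwd (nat_lit 7) Steps.nil))) (nat_lit 138) (nat_lit 1),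
  Rule.mk (nat_lit 26) (nat_lit 53) (Steps.fwd (nat_lit 28672) (Steps.fwd (nat_lit 106496) (Steps.bwd (nat_lit 7) Steps.nil))) (nat_lit 212) (nat_lit 1),
  Rule.mk (nat_lit 9) (nat_lit 81) (Steps.bwd (nat_lit 5) (Steps.bwd (nat_lit 9) (Steps.fwd (nat_lit 24576) (Steps.bwd (nat_lit 10) (Steps.bwd (nat_lit 5) Steps.nil))))) (nat_lit 42) (nat_lit 3),
  Rule.mk (nat_lit 10) (nat_lit 81) (Steps.fwd (nat_lit 24576) (Steps.fwd (nat_lit 40960) (Steps.bwd (nat_lit 5) (Steps.bwd (nat_lit 9) (Steps.bwd (nat_lit 5) Steps.nil))))) (nat_lit 42) (nat_lit 1),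
  Rule.mk (nat_lit 7) (nat_lit 53) (Steps.bwd (nat_lit 10) (Steps.fwd (nat_lit 32768) (Steps.bwd (nat_lit 9) Steps.nil))) (nat_lit 38) (nat_lit 0)]
noncomputable def R_14 : List (Rule) := [Rule.mk (nat_lit 8) (nat_lit 53) (Steps.bwd (nat_lit 10) (Steps.bwd (nat_lit 8) (Steps.bwd (nat_lit 9) Steps.nil))) (nat_lit 39) (nat_lit 1),
  Rule.mk (nat_lit 12) (nat_lit 53) (Steps.bwd (nat_lit 10) (Steps.fwd (nat_lit 49152) (Steps.bwd (nat_lit 9) Steps.nil))) (nat_lit 72) (nat_lit 1),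
  Rule.mk (nat_lit 11) (nat_lit 53) (Steps.bwd (nat_lit 10) (Steps.fwd (nat_lit 45056) (Steps.bwd (nat_lit 9) Steps.nil))) (nat_lit 73) (nat_lit 0),
  Rule.mk (nat_lit 14) (nat_lit 53) (Steps.bwd (nat_lit 10) (Steps.fwd (nat_lit 57344) (Steps.fwd (nat_lit 40960) Steps.nil))) (nat_lit 86) (nat_lit 1),
  Rule.mk (nat_lit 16) (nat_lit 53) (Steps.bwd (nat_lit 10) (Steps.fwd (nat_lit 65536) (Steps.fwd (nat_lit 40960) Steps.nil))) (nat_lit 102) (nat_lit 1),
  Rule.mk (nat_lit 22) (nat_lit 53) (Steps.bwd (nat_lit 10) (Steps.fwd (nat_lit 90112) (Steps.bwd (nat_lit 9) Steps.nil))) (nat_lit 162) (nat_lit 1),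
  Rule.mk (nat_lit 21) (nat_lit 53) (Steps.bwd (nat_lit 10) (Steps.fwd (nat_lit 86016) (Steps.bwd (nat_lit 9) Steps.nil))) (nat_lit 163) (nat_lit 0),
  Rule.mk (nat_lit 1) (nat_lit 67) (Steps.bwd (nat_lit 14) (Steps.bwd (nat_lit 10) (Steps.fwd (nat_lit 4096) (Steps.fwd (nat_lit 40960) Steps.nil)))) (nat_lit 48) (nat_lit 4),
  Rule.mk (nat_lit 10) (nat_lit 81) (Steps.bwd (nat_lit 5) (Steps.bwd (nat_lit 9) (Steps.fwd (nat_lit 24576) (Steps.bwd (nat_lit 9) (Steps.fwd (nat_lit 24576) Steps.nil))))) (nat_lit 42) (nat_lit 1),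
  Rule.mk (nat_lit 5) (nat_lit 95) (Steps.bwd (nat_lit 5) (Steps.bwd (nat_lit 5) (Steps.bwd (nat_lit 5) (Steps.bwd (nat_lit 5) (Steps.bwd (nat_lit 5) (Steps.fwd (nat_lit 24576) Steps.nil)))))) (nat_lit 16) (nat_lit 0),
  Rule.mk (nat_lit 18) (nat_lit 53) (Steps.fwd (nat_lit 20480) (Steps.fwd (nat_lit 73728) (Steps.bwd (nat_lit 5) Steps.nil))) (nat_lit 116) (nat_lit 1),
  Rule.mk (nat_lit 8) (nat_lit 67) (Steps.bwd (nat_lit 6) (Steps.bwd (nat_lit 7) (Steps.bwd (nat_lit 5) (Steps.bwd (nat_lit 5) Steps.nil)))) (nat_lit 37) (nat_lit 3),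
  Rule.mk (nat_lit 8) (nat_lit 39) (Steps.bwd (nat_lit 8) (Steps.fwd (nat_lit 28672) Steps.nil)) (nat_lit 27) (nat_lit 0),
  Rule.mk (nat_lit 14) (nat_lit 53) (Steps.bwd (nat_lit 8) (Steps.fwd (nat_lit 57344) (Steps.fwd (nat_lit 32768) Steps.nil))) (nat_lit 84) (nat_lit 1),
  Rule.mk (nat_lit 16) (nat_lit 53) (Steps.bwd (nat_lit 8) (Steps.fwd (nat_lit 65536) (Steps.fwd (nat_lit 32768) Steps.nil))) (nat_lit 100) (nat_lit 1),
  Rule.mk (nat_lit 18) (nat_lit 53) (Steps.bwd (nat_lit 8) (Steps.fwd (nat_lit 73728) (Steps.fwd (nat_lit 32768) Steps.nil))) (nat_lit 118) (nat_lit 1),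
  Rule.mk (nat_lit 20) (nat_lit 53) (Steps.bwd (nat_lit 8) (Steps.fwd (nat_lit 81920) (Steps.fwd (nat_lit 32768) Steps.nil))) (nat_lit 138) (nat_lit 1),
  Rule.mk (nat_lit 26) (nat_lit 53) (Steps.bwd (nat_lit 8) (Steps.fwd (nat_lit 106496) (Steps.fwd (nat_lit 32768) Steps.nil))) (nat_lit 212) (nat_lit 1),
  Rule.mk (nat_lit 7) (nat_lit 67) (Steps.fwd (nat_lit 20480) (Steps.bwd (nat_lit 6) (Steps.bwd (nat_lit 8) (Steps.bwd (nat_lit 5) Steps.nil)))) (nat_lit 36) (nat_lit 3),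
  Rule.mk (nat_lit 7) (nat_lit 39) (Steps.bwd (nat_lit 7) (Steps.bwd (nat_lit 7) Steps.nil)) (nat_lit 26) (nat_lit 0),
  Rule.mk (nat_lit 4) (nat_lit 123) (Steps.bwd (nat_lit 6) (Steps.bwd (nat_lit 6) (Steps.bwd (nat_lit 4) (Steps.bwd (nat_lit 5) (Steps.bwd (nat_lit 5) (Steps.bwd (nat_lit 5) (Steps.fwd (nat_lit 16384) (Steps.fwd (nat_lit 20480) Steps.nil)))))))) (nat_lit 24) (nat_lit 3),
  Rule.mk (nat_lit 6) (nat_lit 179) (Steps.bwd (nat_lit 10) (Steps.bwd (nat_lit 5) (Steps.bwd (nat_lit 5) (Steps.bwd (nat_lit 4) (Steps.bwd (nat_lit 6) (Steps.bwd (nat_lit 6) (Steps.bwd (nat_lit 9) (Steps.bwd (nat_lit 5) (Steps.bwd (nat_lit 5) (Steps.bwd (nat_lit 20) (Steps.fwd (nat_lit 16384) (Steps.fwd (nat_lit 20480) Steps.nil)))))))))))) (nat_lit 54) (nat_lit 3),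
  Rule.mk (nat_lit 8) (nat_lit 53) (Steps.bwd (nat_lit 9) (Steps.fwd (nat_lit 28672) (Steps.fwd (nat_lit 36864) Steps.nil))) (nat_lit 39) (nat_lit 3),
  Rule.mk (nat_lit 4) (nat_lit 193) (Steps.bwd (nat_lit 10) (Steps.bwd (nat_lit 6) (Steps.bwd (nat_lit 4) (Steps.bwd (nat_lit 10) (Steps.bwd (nat_lit 6) (Steps.fwd (nat_lit 16384) (Steps.bwd (nat_lit 5) (Steps.fwd (nat_lit 40960) (Steps.bwd (nat_lit 5) (Steps.bwd (nat_lit 9) (Steps.bwd (nat_lit 5) (Steps.fwd (nat_lit 106496) (Steps.fwd (nat_lit 20480) Steps.nil))))))))))))) (nat_lit 200) (nat_lit 2),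
  Rule.mk (nat_lit 3) (nat_lit 53) (Steps.bwd (nat_lit 6) (Steps.fwd (nat_lit 12288) (Steps.bwd (nat_lit 6) Steps.nil))) (nat_lit 23) (nat_lit 1),
  Rule.mk (nat_lit 10) (nat_lit 263) (Steps.bwd (nat_lit 5) (Steps.bwd (nat_lit 9) (Steps.bwd (nat_lit 6) (Steps.bwd (nat_lit 10) (Steps.bwd (nat_lit 5) (Steps.bwd (nat_lit 9) (Steps.bwd (nat_lit 6) (Steps.bwd (nat_lit 10) (Steps.bwd (nat_lit 5) (Steps.bwd (nat_lit 9) (Steps.bwd (nat_lit 6) (Steps.fwd (nat_lit 36864) (Steps.bwd (nat_lit 5) (Steps.fwd (nat_lit 40960) (Steps.bwd (nat_lit 22) (Steps.fwd (nat_lit 4096) (Steps.fwd (nat_lit 8192) (Steps.fwd (nat_lit 20480) Steps.nil)))))))))))))))))) (nat_lit 56) (nat_lit 4),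
  Rule.mk (nat_lit 10) (nat_lit 67) (Steps.bwd (nat_lit 11) (Steps.fwd (nat_lit 4096) (Steps.bwd (nat_lit 2) (Steps.bwd (nat_lit 10) Steps.nil)))) (nat_lit 47) (nat_lit 0),
  Rule.mk (nat_lit 2) (nat_lit 67) (Steps.bwd (nat_lit 9) (Steps.bwd (nat_lit 2) (Steps.bwd (nat_lit 16) (Steps.bwd (nat_lit 10) Steps.nil)))) (nat_lit 50) (nat_lit 2),
  Rule.mk (nat_lit 9) (nat_lit 585) (Steps.bwd (nat_lit 5) (Steps.bwd (nat_lit 5) (Steps.bwd (nat_lit 3) (Steps.bwd (nat_lit 6) (Steps.bwd (nat_lit 6) (Steps.bwd (nat_lit 9) (Steps.bwd (nat_lit 5) (Steps.bwd (nat_lit 5) (Steps.bwd (nat_lit 3) (Steps.bwd (nat_lit 6) (Steps.bwd (nat_lit 6) (Steps.bwd (nat_lit 9) (Steps.bwd (nat_lit 5) (Steps.bwd (nat_lit 5) (Steps.bwd (nat_lit 3) (Steps.bwd (nat_lit 6) (Steps.bwd (nat_lit 6) (Steps.bwd (nat_lit 9) (Steps.bwd (nat_lit 4) (Steps.bwd (nat_lit 3) (Steps.bwd (nat_lit 2) (Steps.bwd (nat_lit 3) (Steps.bwd (nat_lit 4) (Steps.bwd (nat_lit 5)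 (Steps.bwd (nat_lit 5) (Steps.bwd (nat_lit 5) (Steps.bwd (nat_lit 4) (Steps.bwd (nat_lit 3) (Steps.bwd (nat_lit 2) (Steps.bwd (nat_lit 3) (Steps.bwd (nat_lit 4) (Steps.bwd (nat_lit 6) (Steps.bwd (nat_lit 3) (Steps.bwd (nat_lit 2) (Steps.bwd (nat_lit 3) (Steps.bwd (nat_lit 2) (Steps.bwd (nat_lit 1) (Steps.bwd (nat_lit 24) (Steps.fwd (nat_lit 12288) (Steps.fwd (nat_lit 20480) (Steps.bwd (nat_lit 6) Steps.nil))))))))))))))))))))))))))))))))))))))))) (nat_lit 58) (nat_lit 4),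
  Rule.mk (nat_lit 23) (nat_lit 53) (Steps.bwd (nat_lit 2) (Steps.bwd (nat_lit 24) (Steps.fwd (nat_lit 8192) Steps.nil))) (nat_lit 176) (nat_lit 3),
  Rule.mk (nat_lit 4) (nat_lit 53) (Steps.bwd (nat_lit 24) (Steps.fwd (nat_lit 16384) (Steps.bwd (nat_lit 23) Steps.nil))) (nat_lit 180) (nat_lit 0),
  Rule.mk (nat_lit 10) (nat_lit 53) (Steps.bwd (nat_lit 24) (Steps.fwd (nat_lit 40960) (Steps.bwd (nat_lit 23) Steps.nil))) (nat_lit 187) (nat_lit 1),
  Rule.mk (nat_lit 9) (nat_lit 67) (Steps.fwd (nat_lit 8192) (Steps.fwd (nat_lit 61440) (Steps.bwd (nat_lit 10) (Steps.bwd (nat_lit 2) Steps.nil)))) (nat_lit 50) (nat_lit 3),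
  Rule.mk (nat_lit 9) (nat_lit 67) (Steps.bwd (nat_lit 2) (Steps.fwd (nat_lit 4096) (Steps.bwd (nat_lit 12) (Steps.bwd (nat_lit 9) Steps.nil)))) (nat_lit 46) (nat_lit 2),
  Rule.mk (nat_lit 4) (nat_lit 53) (Steps.fwd (nat_lit 8192) (Steps.bwd (nat_lit 4) (Steps.fwd (nat_lit 8192) Steps.nil))) (nat_lit 12) (nat_lit 0),
  Rule.mk (nat_lit 23) (nat_lit 53) (Steps.bwd (nat_lit 4) (Steps.bwd (nat_lit 24) (Steps.fwd (nat_lit 16384) Steps.nil))) (nat_lit 180) (nat_lit 3),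
  Rule.mk (nat_lit 0) (nat_lit 165) (Steps.bwd (nat_lit 3) (Steps.bwd (nat_lit 4) (Steps.fwd (nat_lit 36864) (Steps.bwd (nat_lit 3) (Steps.bwd (nat_lit 9) (Steps.bwd (nat_lit 18) (Steps.fwd (nat_lit 12288) (Steps.fwd (nat_lit 16384) (Steps.fwd (nat_lit 36864) (Steps.fwd (nat_lit 12288) (Steps.bwd (nat_lit 9) Steps.nil))))))))))) (nat_lit 52) (nat_lit 5),
  Rule.mk (nat_lit 23) (nat_lit 53) (Steps.bwd (nat_lit 6) (Steps.bwd (nat_lit 24) (Steps.bwd (nat_lit 5) Steps.nil))) (nat_lit 183) (nat_lit 0),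
  Rule.mk (nat_lit 4) (nat_lit 739) (Steps.bwd (nat_lit 3) (Steps.bwd (nat_lit 2) (Steps.bwd (nat_lit 3) (Steps.bwd (nat_lit 4) (Steps.bwd (nat_lit 5) (Steps.bwd (nat_lit 4) (Steps.bwd (nat_lit 2) (Steps.bwd (nat_lit 3) (Steps.bwd (nat_lit 4) (Steps.bwd (nat_lit 3) (Steps.bwd (nat_lit 2) (Steps.bwd (nat_lit 3) (Steps.bwd (nat_lit 6) (Steps.bwd (nat_lit 4) (Steps.bwd (nat_lit 3) (Steps.bwd (nat_lit 2) (Steps.bwd (nat_lit 3) (Steps.bwd (nat_lit 4) (Steps.bwd (nat_lit 5) (Steps.bwd (nat_lit 4) (Steps.bwd (nat_lit 5) (Steps.bwd (nat_lit 4) (Steps.bwd (nat_lit 3) (Steps.bwd (nat_lit 2) (Steps.bwd (nat_lit 3) (Steps.bwd (nat_lit 4) (Steps.bwd (nat_lit 5) (Steps.bwd (nat_lit 4) (Steps.bwd (nat_lit 3) (Steps.bwd (nat_lit 2) (Steps.bwd (nat_lit 3) (Steps.bwd (nat_lit 4) (Steps.bwd (nat_lit 6) (Steps.bwd (nat_lit 6) (Steps.bwd (nat_lit 6) (Steps.bwd (nat_lit 4) (Steps.bwd (nat_lit 3) (Steps.bwd (nat_lit 2) (Steps.bwd (nat_lit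 3) (Steps.bwd (nat_lit 4) (Steps.bwd (nat_lit 6) (Steps.bwd (nat_lit 4) (Steps.bwd (nat_lit 3) (Steps.bwd (nat_lit 2) (Steps.bwd (nat_lit 3) (Steps.bwd (nat_lit 4) (Steps.bwd (nat_lit 5) (Steps.bwd (nat_lit 5) (Steps.fwd (nat_lit 8192) (Steps.fwd (nat_lit 12288) (Steps.fwd (nat_lit 16384) (Steps.fwd (nat_lit 20480) Steps.nil)))))))))))))))))))))))))))))))))))))))))))))))))))) (nat_lit 44) (nat_lit 5),
  Rule.mk (nat_lit 7) (nat_lit 53) (Steps.bwd (nat_lit 4) (Steps.fwd (nat_lit 28672) (Steps.bwd (nat_lit 4) Steps.nil))) (nat_lit 34) (nat_lit 3),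
  Rule.mk (nat_lit 6) (nat_lit 53) (Steps.bwd (nat_lit 11) (Steps.bwd (nat_lit 5) (Steps.bwd (nat_lit 12) Steps.nil))) (nat_lit 68) (nat_lit 2),
  Rule.mk (nat_lit 12) (nat_lit 53) (Steps.bwd (nat_lit 5) (Steps.bwd (nat_lit 11) (Steps.bwd (nat_lit 6) Steps.nil))) (nat_lit 69) (nat_lit 2),
  Rule.mk (nat_lit 21) (nat_lit 53) (Steps.bwd (nat_lit 5) (Steps.bwd (nat_lit 22) (Steps.bwd (nat_lit 6) Steps.nil))) (nat_lit 158) (nat_lit 3),
  Rule.mk (nat_lit 6) (nat_lit 53) (Steps.bwd (nat_lit 23) (Steps.bwd (nat_lit 5) (Steps.bwd (nat_lit 24) Steps.nil))) (nat_lit 182) (nat_lit 2),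
  Rule.mk (nat_lit 7) (nat_lit 67) (Steps.bwd (nat_lit 6) (Steps.fwd (nat_lit 20480) (Steps.fwd (nat_lit 28672) (Steps.bwd (nat_lit 5) Steps.nil)))) (nat_lit 36) (nat_lit 3),
  Rule.mk (nat_lit 3) (nat_lit 53) (Steps.fwd (nat_lit 28672) (Steps.fwd (nat_lit 12288) (Steps.bwd (nat_lit 7) Steps.nil))) (nat_lit 32) (nat_lit 0),
  Rule.mk (nat_lit 9) (nat_lit 67) (Steps.bwd (nat_lit 9) (Steps.bwd (nat_lit 2) (Steps.fwd (nat_lit 4096) (Steps.fwd (nat_lit 45056) Steps.nil)))) (nat_lit 46) (nat_lit 1),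
  Rule.mk (nat_lit 4) (nat_lit 53) (Steps.bwd (nat_lit 10) (Steps.fwd (nat_lit 16384) (Steps.bwd (nat_lit 9) Steps.nil))) (nat_lit 40) (nat_lit 0),
  Rule.mk (nat_lit 2) (nat_lit 67) (Steps.fwd (nat_lit 4096) (Steps.fwd (nat_lit 45056) (Steps.bwd (nat_lit 9) (Steps.bwd (nat_lit 9) Steps.nil)))) (nat_lit 46) (nat_lit 3),
  Rule.mk (nat_lit 9) (nat_lit 81) (Steps.bwd (nat_lit 5) (Steps.bwd (nat_lit 9) (Steps.bwd (nat_lit 5) (Steps.fwd (nat_lit 36864) (Steps.bwd (nat_lit 5) Steps.nil))))) (nat_lit 42) (nat_lit 3),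
  Rule.mk (nat_lit 10) (nat_lit 81) (Steps.fwd (nat_lit 24576) (Steps.bwd (nat_lit 9) (Steps.bwd (nat_lit 5) (Steps.bwd (nat_lit 9) (Steps.bwd (nat_lit 5) Steps.nil))))) (nat_lit 42) (nat_lit 1),
  Rule.mk (nat_lit 18) (nat_lit 53) (Steps.bwd (nat_lit 10) (Steps.fwd (nat_lit 73728) (Steps.fwd (nat_lit 40960) Steps.nil))) (nat_lit 120) (nat_lit 1),
  Rule.mk (nat_lit 2) (nat_lit 67) (Steps.fwd (nat_lit 36864) (Steps.bwd (nat_lit 10) (Steps.fwd (nat_lit 49152) (Steps.fwd (nat_lit 4096) Steps.nil)))) (nat_lit 47) (nat_lit 3),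
  Rule.mk (nat_lit 10) (nat_lit 81) (Steps.bwd (nat_lit 5) (Steps.bwd (nat_lit 9) (Steps.bwd (nat_lit 5) (Steps.bwd (nat_lit 9) (Steps.fwd (nat_lit 24576) Steps.nil))))) (nat_lit 42) (nat_lit 1),
  Rule.mk (nat_lit 5) (nat_lit 95) (Steps.bwd (nat_lit 5) (Steps.bwd (nat_lit 5) (Steps.fwd (nat_lit 24576) (Steps.bwd (nat_lit 5) (Steps.bwd (nat_lit 5) (Steps.fwd (nat_lit 24576) Steps.nil)))))) (nat_lit 16) (nat_lit 0),
  Rule.mk (nat_lit 3) (nat_lit 53) (Steps.bwd (nat_lit 5) (Steps.fwd (nat_lit 12288) (Steps.bwd (nat_lit 5) Steps.nil))) (nat_lit 22) (nat_lit 0),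
  Rule.mk (nat_lit 3) (nat_lit 53) (Steps.bwd (nat_lit 8) (Steps.bwd (nat_lit 3) (Steps.bwd (nat_lit 7) Steps.nil))) (nat_lit 32) (nat_lit 0),
  Rule.mk (nat_lit 7) (nat_lit 39) (Steps.bwd (nat_lit 7) (Steps.fwd (nat_lit 32768) Steps.nil)) (nat_lit 26) (nat_lit 0),
  Rule.mk (nat_lit 6) (nat_lit 123) (Steps.bwd (nat_lit 6) (Steps.bwd (nat_lit 4) (Steps.bwd (nat_lit 5) (Steps.fwd (nat_lit 24576) (Steps.bwd (nat_lit 5) (Steps.bwd (nat_lit 4) (Steps.fwd (nat_lit 20480) (Steps.bwd (nat_lit 4) Steps.nil)))))))) (nat_lit 24) (nat_lit 6),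
  Rule.mk (nat_lit 10) (nat_lit 193) (Steps.bwd (nat_lit 6) (Steps.bwd (nat_lit 4) (Steps.bwd (nat_lit 10) (Steps.bwd (nat_lit 6) (Steps.bwd (nat_lit 4) (Steps.bwd (nat_lit 5) (Steps.bwd (nat_lit 9) (Steps.bwd (nat_lit 5) (Steps.bwd (nat_lit 9) (Steps.bwd (nat_lit 5) (Steps.fwd (nat_lit 106496) (Steps.fwd (nat_lit 20480) (Steps.bwd (nat_lit 4) Steps.nil))))))))))))) (nat_lit 200) (nat_lit 5),
  Rule.mk (nat_lit 0) (nat_lit 207) (Steps.fwd (nat_lit 24576) (Steps.fwd (nat_lit 40960) (Steps.fwd (nat_lit 16384) (Steps.bwd (nat_lit 5) (Steps.bwd (nat_lit 9) (Steps.bwd (nat_lit 4) (Steps.bwd (nat_lit 5) (Steps.fwd (nat_lit 102400) (Steps.fwd (nat_lit 20480) (Steps.bwd (nat_lit 10) (Steps.fwd (nat_lit 20480) (Steps.fwd (nat_lit 36864) (Steps.fwd (nat_lit 20480) (Steps.fwd (nat_lit 16384) Steps.nil)))))))))))))) (nat_lit 201) (nat_lit 7),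
  Rule.mk (nat_lit 0) (nat_lit 53) (Steps.fwd (nat_lit 40960) (Steps.fwd (nat_lit 0) (Steps.bwd (nat_lit 10) Steps.nil))) (nat_lit 230) (nat_lit 0),
  Rule.mk (nat_lit 7) (nat_lit 53) (Steps.bwd (nat_lit 9) (Steps.fwd (nat_lit 32768) (Steps.bwd (nat_lit 10) Steps.nil))) (nat_lit 38) (nat_lit 2),
  Rule.mk (nat_lit 10) (nat_lit 263) (Steps.bwd (nat_lit 5) (Steps.bwd (nat_lit 9) (Steps.bwd (nat_lit 6) (Steps.bwd (nat_lit 10) (Steps.bwd (nat_lit 5) (Steps.bwd (nat_lit 9) (Steps.bwd (nat_lit 6) (Steps.bwd (nat_lit 10) (Steps.bwd (nat_lit 5) (Steps.bwd (nat_lit 9) (Steps.bwd (nat_lit 6) (Steps.bwd (nat_lit 10) (Steps.fwd (nat_lit 24576) (Steps.bwd (nat_lit 9) (Steps.fwd (nat_lit 86016) (Steps.fwd (nat_lit 4096) (Steps.fwd (nat_lit 8192) (Steps.fwd (nat_lit 20480) Steps.nil)))))))))))))))))) (nat_lit 56) (nat_lit 4)]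
noncomputable def R_15 : List (Rule) := [Rule.mk (nat_lit 12) (nat_lit 53) (Steps.bwd (nat_lit 10) (Steps.bwd (nat_lit 11) (Steps.fwd (nat_lit 40960) Steps.nil))) (nat_lit 72) (nat_lit 1),
  Rule.mk (nat_lit 11) (nat_lit 53) (Steps.bwd (nat_lit 10) (Steps.bwd (nat_lit 12) (Steps.fwd (nat_lit 40960) Steps.nil))) (nat_lit 73) (nat_lit 0),
  Rule.mk (nat_lit 22) (nat_lit 53) (Steps.bwd (nat_lit 10) (Steps.bwd (nat_lit 21) (Steps.fwd (nat_lit 40960) Steps.nil))) (nat_lit 162) (nat_lit 1),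
  Rule.mk (nat_lit 9) (nat_lit 585) (Steps.bwd (nat_lit 5) (Steps.bwd (nat_lit 5) (Steps.bwd (nat_lit 3) (Steps.bwd (nat_lit 6) (Steps.bwd (nat_lit 6) (Steps.bwd (nat_lit 9) (Steps.bwd (nat_lit 5) (Steps.bwd (nat_lit 5) (Steps.bwd (nat_lit 3) (Steps.bwd (nat_lit 6) (Steps.bwd (nat_lit 6) (Steps.bwd (nat_lit 9) (Steps.bwd (nat_lit 5) (Steps.bwd (nat_lit 5) (Steps.bwd (nat_lit 3) (Steps.bwd (nat_lit 6) (Steps.bwd (nat_lit 6) (Steps.bwd (nat_lit 9) (Steps.bwd (nat_lit 4) (Steps.bwd (nat_lit 3) (Steps.bwd (nat_lit 2) (Steps.bwd (nat_lit 3) (Steps.bwd (nat_lit 4) (Steps.bwd (nat_lit 5) (Steps.bwd (nat_lit 5) (Steps.bwd (nat_lit 5) (Steps.bwd (nat_lit 4) (Steps.bwd (nat_lit 3) (Steps.bwd (nat_lit 2) (Steps.bwd (nat_lit 3) (Steps.bwd (nat_lit 4) (Steps.bwd (nat_lit 6) (Steps.bwd (nat_lit 3) (Steps.fwd (nat_lit 8192) (Steps.fwd (nat_lit 12288) (Steps.fwd (nat_lit 8192) (Steps.fwd (nat_lit 4096) (Steps.fwd (nat_lit 94208) (Steps.bwd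 (nat_lit 3) (Steps.fwd (nat_lit 20480) (Steps.fwd (nat_lit 20480) Steps.nil))))))))))))))))))))))))))))))))))))))))) (nat_lit 58) (nat_lit 4),
  Rule.mk (nat_lit 4) (nat_lit 179) (Steps.fwd (nat_lit 81920) (Steps.fwd (nat_lit 20480) (Steps.fwd (nat_lit 20480) (Steps.fwd (nat_lit 36864) (Steps.fwd (nat_lit 24576) (Steps.bwd (nat_lit 5) (Steps.bwd (nat_lit 4) (Steps.fwd (nat_lit 20480) (Steps.fwd (nat_lit 20480) (Steps.bwd (nat_lit 9) (Steps.bwd (nat_lit 5) (Steps.bwd (nat_lit 5) Steps.nil)))))))))))) (nat_lit 55) (nat_lit 0),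
  Rule.mk (nat_lit 4) (nat_lit 739) (Steps.bwd (nat_lit 3) (Steps.bwd (nat_lit 2) (Steps.bwd (nat_lit 3) (Steps.bwd (nat_lit 4) (Steps.bwd (nat_lit 5) (Steps.bwd (nat_lit 4) (Steps.bwd (nat_lit 2) (Steps.bwd (nat_lit 3) (Steps.bwd (nat_lit 4) (Steps.bwd (nat_lit 3) (Steps.bwd (nat_lit 2) (Steps.bwd (nat_lit 3) (Steps.bwd (nat_lit 6) (Steps.bwd (nat_lit 4) (Steps.bwd (nat_lit 3) (Steps.bwd (nat_lit 2) (Steps.bwd (nat_lit 3) (Steps.bwd (nat_lit 4) (Steps.bwd (nat_lit 5) (Steps.bwd (nat_lit 4) (Steps.bwd (nat_lit 5) (Steps.bwd (nat_lit 4) (Steps.bwd (nat_lit 3) (Steps.bwd (nat_lit 2) (Steps.bwd (nat_lit 3) (Steps.bwd (nat_lit 4) (Steps.bwd (nat_lit 5) (Steps.bwd (nat_lit 4) (Steps.bwd (nat_lit 3) (Steps.bwd (nat_lit 2) (Steps.bwd (nat_lit 3) (Steps.bwd (nat_lit 4) (Steps.bwd (nat_lit 6) (Steps.bwd (nat_lit 6) (Steps.bwd (nat_lit 6) (Steps.bwd (nat_lit 4) (Steps.bwd (nat_lit 3) (Steps.bwd (nat_lit 2) (Steps.bwd (nat_lit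 3) (Steps.bwd (nat_lit 4) (Steps.bwd (nat_lit 6) (Steps.bwd (nat_lit 4) (Steps.bwd (nat_lit 3) (Steps.bwd (nat_lit 2) (Steps.bwd (nat_lit 3) (Steps.bwd (nat_lit 4) (Steps.fwd (nat_lit 24576) (Steps.bwd (nat_lit 5) (Steps.fwd (nat_lit 8192) (Steps.bwd (nat_lit 3) (Steps.bwd (nat_lit 4) (Steps.fwd (nat_lit 20480) Steps.nil)))))))))))))))))))))))))))))))))))))))))))))))))))) (nat_lit 44) (nat_lit 5),
  Rule.mk (nat_lit 3) (nat_lit 151) (Steps.bwd (nat_lit 9) (Steps.bwd (nat_lit 3) (Steps.bwd (nat_lit 4) (Steps.bwd (nat_lit 10) (Steps.bwd (nat_lit 3) (Steps.fwd (nat_lit 40960) (Steps.bwd (nat_lit 18) (Steps.bwd (nat_lit 3) (Steps.bwd (nat_lit 4) (Steps.bwd (nat_lit 10) Steps.nil)))))))))) (nat_lit 52) (nat_lit 4),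
  Rule.mk (nat_lit 11) (nat_lit 53) (Steps.fwd (nat_lit 16384) (Steps.bwd (nat_lit 12) (Steps.bwd (nat_lit 4) Steps.nil))) (nat_lit 66) (nat_lit 3),
  Rule.mk (nat_lit 9) (nat_lit 53) (Steps.bwd (nat_lit 4) (Steps.bwd (nat_lit 10) (Steps.fwd (nat_lit 16384) Steps.nil))) (nat_lit 40) (nat_lit 3),
  Rule.mk (nat_lit 6) (nat_lit 81) (Steps.bwd (nat_lit 10) (Steps.fwd (nat_lit 20480) (Steps.fwd (nat_lit 36864) (Steps.fwd (nat_lit 20480) (Steps.fwd (nat_lit 40960) Steps.nil))))) (nat_lit 43) (nat_lit 7),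
  Rule.mk (nat_lit 11) (nat_lit 53) (Steps.bwd (nat_lit 6) (Steps.fwd (nat_lit 45056) (Steps.bwd (nat_lit 5) Steps.nil))) (nat_lit 69) (nat_lit 0),
  Rule.mk (nat_lit 22) (nat_lit 53) (Steps.bwd (nat_lit 6) (Steps.fwd (nat_lit 90112) (Steps.bwd (nat_lit 5) Steps.nil))) (nat_lit 158) (nat_lit 1),
  Rule.mk (nat_lit 9) (nat_lit 585) (Steps.bwd (nat_lit 5) (Steps.bwd (nat_lit 5) (Steps.bwd (nat_lit 3) (Steps.bwd (nat_lit 6) (Steps.bwd (nat_lit 6) (Steps.bwd (nat_lit 9) (Steps.bwd (nat_lit 5) (Steps.bwd (nat_lit 5) (Steps.bwd (nat_lit 3) (Steps.bwd (nat_lit 6) (Steps.bwd (nat_lit 6) (Steps.bwd (nat_lit 9) (Steps.bwd (nat_lit 5) (Steps.bwd (nat_lit 5) (Steps.bwd (nat_lit 3) (Steps.bwd (nat_lit 6) (Steps.bwd (nat_lit 6) (Steps.bwd (nat_lit 9) (Steps.bwd (nat_lit 4) (Steps.bwd (nat_lit 3) (Steps.bwd (nat_lit 2) (Steps.bwd (nat_lit 3) (Steps.bwd (nat_lit 4) (Steps.bwd (nat_lit 5) (Steps.bwd (nat_lit 5) (Steps.bwd (nat_lit 5)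 (Steps.bwd (nat_lit 4) (Steps.bwd (nat_lit 3) (Steps.bwd (nat_lit 2) (Steps.bwd (nat_lit 3) (Steps.bwd (nat_lit 4) (Steps.bwd (nat_lit 6) (Steps.bwd (nat_lit 3) (Steps.bwd (nat_lit 2) (Steps.bwd (nat_lit 3) (Steps.fwd (nat_lit 8192) (Steps.fwd (nat_lit 4096) (Steps.bwd (nat_lit 24) (Steps.bwd (nat_lit 3) (Steps.bwd (nat_lit 6) (Steps.bwd (nat_lit 6) Steps.nil))))))))))))))))))))))))))))))))))))))))) (nat_lit 58) (nat_lit 4),
  Rule.mk (nat_lit 7) (nat_lit 53) (Steps.bwd (nat_lit 21) (Steps.bwd (nat_lit 8) (Steps.fwd (nat_lit 86016) Steps.nil))) (nat_lit 161) (nat_lit 3),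
  Rule.mk (nat_lit 7) (nat_lit 39) (Steps.fwd (nat_lit 32768) (Steps.bwd (nat_lit 7) Steps.nil)) (nat_lit 26) (nat_lit 0),
  Rule.mk (nat_lit 9) (nat_lit 53) (Steps.bwd (nat_lit 7) (Steps.fwd (nat_lit 36864) (Steps.bwd (nat_lit 7) Steps.nil))) (nat_lit 38) (nat_lit 3),
  Rule.mk (nat_lit 7) (nat_lit 53) (Steps.bwd (nat_lit 22) (Steps.fwd (nat_lit 28672) (Steps.fwd (nat_lit 90112) Steps.nil))) (nat_lit 160) (nat_lit 0),
  Rule.mk (nat_lit 12) (nat_lit 53) (Steps.fwd (nat_lit 28672) (Steps.fwd (nat_lit 49152) (Steps.bwd (nat_lit 7) Steps.nil))) (nat_lit 70) (nat_lit 1),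
  Rule.mk (nat_lit 21) (nat_lit 53) (Steps.fwd (nat_lit 28672) (Steps.fwd (nat_lit 86016) (Steps.bwd (nat_lit 7) Steps.nil))) (nat_lit 161) (nat_lit 0),
  Rule.mk (nat_lit 7) (nat_lit 53) (Steps.fwd (nat_lit 16384) (Steps.bwd (nat_lit 8) (Steps.bwd (nat_lit 4) Steps.nil))) (nat_lit 34) (nat_lit 3),
  Rule.mk (nat_lit 11) (nat_lit 53) (Steps.bwd (nat_lit 8) (Steps.fwd (nat_lit 45056) (Steps.fwd (nat_lit 32768) Steps.nil))) (nat_lit 71) (nat_lit 0),
  Rule.mk (nat_lit 8) (nat_lit 53) (Steps.fwd (nat_lit 86016) (Steps.fwd (nat_lit 32768) (Steps.bwd (nat_lit 21) Steps.nil))) (nat_lit 161) (nat_lit 1),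
  Rule.mk (nat_lit 7) (nat_lit 53) (Steps.fwd (nat_lit 8192) (Steps.bwd (nat_lit 8) (Steps.bwd (nat_lit 2) Steps.nil))) (nat_lit 30) (nat_lit 3),
  Rule.mk (nat_lit 22) (nat_lit 53) (Steps.bwd (nat_lit 8) (Steps.fwd (nat_lit 90112) (Steps.fwd (nat_lit 32768) Steps.nil))) (nat_lit 160) (nat_lit 1),
  Rule.mk (nat_lit 8) (nat_lit 53) (Steps.fwd (nat_lit 90112) (Steps.fwd (nat_lit 32768) (Steps.bwd (nat_lit 22) Steps.nil))) (nat_lit 160) (nat_lit 2),
  Rule.mk (nat_lit 0) (nat_lit 67) (Steps.fwd (nat_lit 24576) (Steps.bwd (nat_lit 22) (Steps.bwd (nat_lit 6) (Steps.fwd (nat_lit 90112) Steps.nil)))) (nat_lit 158) (nat_lit 3),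
  Rule.mk (nat_lit 6) (nat_lit 53) (Steps.bwd (nat_lit 3) (Steps.bwd (nat_lit 6) (Steps.bwd (nat_lit 3) Steps.nil))) (nat_lit 23) (nat_lit 0),
  Rule.mk (nat_lit 1) (nat_lit 123) (Steps.bwd (nat_lit 3) (Steps.fwd (nat_lit 8192) (Steps.fwd (nat_lit 12288) (Steps.fwd (nat_lit 8192) (Steps.bwd (nat_lit 3) (Steps.fwd (nat_lit 8192) (Steps.fwd (nat_lit 12288) (Steps.bwd (nat_lit 2) Steps.nil)))))))) (nat_lit 10) (nat_lit 1),
  Rule.mk (nat_lit 24) (nat_lit 53) (Steps.bwd (nat_lit 2) (Steps.bwd (nat_lit 23) (Steps.bwd (nat_lit 2) Steps.nil))) (nat_lit 176) (nat_lit 1),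
  Rule.mk (nat_lit 5) (nat_lit 53) (Steps.bwd (nat_lit 24) (Steps.bwd (nat_lit 6) (Steps.fwd (nat_lit 98304) Steps.nil))) (nat_lit 182) (nat_lit 0),
  Rule.mk (nat_lit 6) (nat_lit 53) (Steps.bwd (nat_lit 24) (Steps.fwd (nat_lit 24576) (Steps.fwd (nat_lit 98304) Steps.nil))) (nat_lit 183) (nat_lit 1),
  Rule.mk (nat_lit 8) (nat_lit 53) (Steps.bwd (nat_lit 24) (Steps.fwd (nat_lit 32768) (Steps.fwd (nat_lit 98304) Steps.nil))) (nat_lit 185) (nat_lit 1),
  Rule.mk (nat_lit 11) (nat_lit 53) (Steps.bwd (nat_lit 10) (Steps.bwd (nat_lit 12) (Steps.bwd (nat_lit 9) Steps.nil))) (nat_lit 73) (nat_lit 0),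
  Rule.mk (nat_lit 6) (nat_lit 739) (Steps.bwd (nat_lit 4) (Steps.bwd (nat_lit 3) (Steps.bwd (nat_lit 2) (Steps.bwd (nat_lit 3) (Steps.bwd (nat_lit 4) (Steps.bwd (nat_lit 5) (Steps.bwd (nat_lit 4) (Steps.bwd (nat_lit 2) (Steps.bwd (nat_lit 3) (Steps.bwd (nat_lit 4) (Steps.bwd (nat_lit 3) (Steps.bwd (nat_lit 2) (Steps.bwd (nat_lit 3) (Steps.bwd (nat_lit 6) (Steps.bwd (nat_lit 4) (Steps.bwd (nat_lit 3) (Steps.bwd (nat_lit 2) (Steps.bwd (nat_lit 3) (Steps.bwd (nat_lit 4) (Steps.bwd (nat_lit 5) (Steps.bwd (nat_lit 4) (Steps.bwd (nat_lit 5) (Steps.bwd (nat_lit 4) (Steps.bwd (nat_lit 3) (Steps.bwd (nat_lit 2) (Steps.bwd (nat_lit 3) (Steps.bwd (nat_lit 4) (Steps.bwd (nat_lit 5) (Steps.bwd (nat_lit 4) (Steps.bwd (nat_lit 3) (Steps.bwd (nat_lit 2) (Steps.bwd (nat_lit 3) (Steps.bwd (nat_lit 4) (Steps.bwd (nat_lit 6) (Steps.bwd (nat_lit 6) (Steps.bwd (nat_lit 6) (Steps.bwd (nat_lit 4) (Steps.bwd (nat_lit 3) (Steps.bwd (nat_lit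 2) (Steps.bwd (nat_lit 3) (Steps.bwd (nat_lit 4) (Steps.bwd (nat_lit 6) (Steps.bwd (nat_lit 4) (Steps.bwd (nat_lit 3) (Steps.bwd (nat_lit 2) (Steps.fwd (nat_lit 12288) (Steps.fwd (nat_lit 16384) (Steps.bwd (nat_lit 5) (Steps.fwd (nat_lit 24576) (Steps.fwd (nat_lit 8192) (Steps.bwd (nat_lit 3) (Steps.bwd (nat_lit 4) Steps.nil)))))))))))))))))))))))))))))))))))))))))))))))))))) (nat_lit 44) (nat_lit 4),
  Rule.mk (nat_lit 22) (nat_lit 53) (Steps.fwd (nat_lit 24576) (Steps.fwd (nat_lit 90112) (Steps.bwd (nat_lit 6) Steps.nil))) (nat_lit 159) (nat_lit 2),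
  Rule.mk (nat_lit 8) (nat_lit 53) (Steps.bwd (nat_lit 22) (Steps.fwd (nat_lit 32768) (Steps.bwd (nat_lit 21) Steps.nil))) (nat_lit 161) (nat_lit 1),
  Rule.mk (nat_lit 12) (nat_lit 53) (Steps.fwd (nat_lit 32768) (Steps.bwd (nat_lit 11) (Steps.bwd (nat_lit 8) Steps.nil))) (nat_lit 71) (nat_lit 2),
  Rule.mk (nat_lit 21) (nat_lit 53) (Steps.fwd (nat_lit 32768) (Steps.bwd (nat_lit 22) (Steps.bwd (nat_lit 8) Steps.nil))) (nat_lit 160) (nat_lit 3),
  Rule.mk (nat_lit 6) (nat_lit 53) (Steps.bwd (nat_lit 21) (Steps.fwd (nat_lit 24576) (Steps.bwd (nat_lit 22) Steps.nil))) (nat_lit 158) (nat_lit 2),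
  Rule.mk (nat_lit 5) (nat_lit 53) (Steps.fwd (nat_lit 90112) (Steps.fwd (nat_lit 20480) (Steps.bwd (nat_lit 22) Steps.nil))) (nat_lit 159) (nat_lit 3),
  Rule.mk (nat_lit 11) (nat_lit 53) (Steps.bwd (nat_lit 5) (Steps.fwd (nat_lit 45056) (Steps.fwd (nat_lit 20480) Steps.nil))) (nat_lit 68) (nat_lit 3),
  Rule.mk (nat_lit 12) (nat_lit 53) (Steps.bwd (nat_lit 5) (Steps.fwd (nat_lit 49152) (Steps.fwd (nat_lit 20480) Steps.nil))) (nat_lit 69) (nat_lit 2),
  Rule.mk (nat_lit 9) (nat_lit 53) (Steps.bwd (nat_lit 11) (Steps.bwd (nat_lit 10) (Steps.bwd (nat_lit 12) Steps.nil))) (nat_lit 73) (nat_lit 3),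
  Rule.mk (nat_lit 24) (nat_lit 53) (Steps.bwd (nat_lit 11) (Steps.fwd (nat_lit 98304) (Steps.bwd (nat_lit 12) Steps.nil))) (nat_lit 189) (nat_lit 2),
  Rule.mk (nat_lit 12) (nat_lit 53) (Steps.fwd (nat_lit 98304) (Steps.bwd (nat_lit 11) (Steps.bwd (nat_lit 24) Steps.nil))) (nat_lit 188) (nat_lit 2),
  Rule.mk (nat_lit 4) (nat_lit 53) (Steps.bwd (nat_lit 2) (Steps.fwd (nat_lit 16384) (Steps.fwd (nat_lit 8192) Steps.nil))) (nat_lit 12) (nat_lit 0),
  Rule.mk (nat_lit 7) (nat_lit 53) (Steps.bwd (nat_lit 2) (Steps.bwd (nat_lit 8) (Steps.bwd (nat_lit 2) Steps.nil))) (nat_lit 30) (nat_lit 3),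
  Rule.mk (nat_lit 24) (nat_lit 53) (Steps.bwd (nat_lit 8) (Steps.bwd (nat_lit 23) (Steps.bwd (nat_lit 7) Steps.nil))) (nat_lit 184) (nat_lit 1),
  Rule.mk (nat_lit 5) (nat_lit 67) (Steps.bwd (nat_lit 8) (Steps.bwd (nat_lit 6) (Steps.fwd (nat_lit 32768) (Steps.fwd (nat_lit 24576) Steps.nil)))) (nat_lit 37) (nat_lit 2),
  Rule.mk (nat_lit 10) (nat_lit 151) (Steps.bwd (nat_lit 3) (Steps.bwd (nat_lit 9) (Steps.bwd (nat_lit 3) (Steps.bwd (nat_lit 4) (Steps.fwd (nat_lit 36864) (Steps.fwd (nat_lit 12288) (Steps.bwd (nat_lit 9) (Steps.bwd (nat_lit 18) (Steps.fwd (nat_lit 12288) (Steps.fwd (nat_lit 16384) Steps.nil)))))))))) (nat_lit 52) (nat_lit 3),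
  Rule.mk (nat_lit 7) (nat_lit 53) (Steps.fwd (nat_lit 40960) (Steps.bwd (nat_lit 7) (Steps.bwd (nat_lit 10) Steps.nil))) (nat_lit 38) (nat_lit 2),
  Rule.mk (nat_lit 17) (nat_lit 53) (Steps.fwd (nat_lit 40960) (Steps.fwd (nat_lit 69632) (Steps.bwd (nat_lit 10) Steps.nil))) (nat_lit 120) (nat_lit 3),
  Rule.mk (nat_lit 4) (nat_lit 585) (Steps.bwd (nat_lit 5) (Steps.bwd (nat_lit 5) (Steps.bwd (nat_lit 5) (Steps.bwd (nat_lit 4) (Steps.bwd (nat_lit 3) (Steps.bwd (nat_lit 2) (Steps.bwd (nat_lit 3) (Steps.bwd (nat_lit 4) (Steps.bwd (nat_lit 6) (Steps.bwd (nat_lit 3) (Steps.bwd (nat_lit 2) (Steps.bwd (nat_lit 3) (Steps.fwd (nat_lit 8192) (Steps.fwd (nat_lit 4096) (Steps.fwd (nat_lit 94208) (Steps.fwd (nat_lit 12288) (Steps.bwd (nat_lit 6) (Steps.bwd (nat_lit 6) (Steps.bwd (nat_lit 9) (Steps.bwd (nat_lit 5) (Steps.bwd (nat_lit 5) (Steps.bwd (nat_lit 3) (Steps.bwd (nat_lit 6) (Steps.bwd (nat_lit 6) (Steps.bwd (nat_lit 9) (Steps.bwd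 (nat_lit 5) (Steps.bwd (nat_lit 5) (Steps.bwd (nat_lit 3) (Steps.bwd (nat_lit 6) (Steps.bwd (nat_lit 6) (Steps.bwd (nat_lit 9) (Steps.bwd (nat_lit 5) (Steps.bwd (nat_lit 5) (Steps.fwd (nat_lit 12288) (Steps.fwd (nat_lit 20480) (Steps.fwd (nat_lit 20480) (Steps.bwd (nat_lit 9) (Steps.fwd (nat_lit 16384) (Steps.fwd (nat_lit 12288) (Steps.fwd (nat_lit 8192) (Steps.fwd (nat_lit 12288) Steps.nil))))))))))))))))))))))))))))))))))))))))) (nat_lit 58) (nat_lit 31),
  Rule.mk (nat_lit 6) (nat_lit 123) (Steps.bwd (nat_lit 4) (Steps.bwd (nat_lit 6) (Steps.bwd (nat_lit 6) (Steps.bwd (nat_lit 4) (Steps.bwd (nat_lit 5) (Steps.bwd (nat_lit 5) (Steps.bwd (nat_lit 5) (Steps.bwd (nat_lit 4) Steps.nil)))))))) (nat_lit 24) (nat_lit 2),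
  Rule.mk (nat_lit 6) (nat_lit 53) (Steps.fwd (nat_lit 12288) (Steps.bwd (nat_lit 6) (Steps.fwd (nat_lit 12288) Steps.nil))) (nat_lit 23) (nat_lit 0),
  Rule.mk (nat_lit 5) (nat_lit 53) (Steps.bwd (nat_lit 2) (Steps.bwd (nat_lit 6) (Steps.bwd (nat_lit 2) Steps.nil))) (nat_lit 20) (nat_lit 3),
  Rule.mk (nat_lit 5) (nat_lit 53) (Steps.fwd (nat_lit 12288) (Steps.bwd (nat_lit 5) (Steps.fwd (nat_lit 12288) Steps.nil))) (nat_lit 22) (nat_lit 1),
  Rule.mk (nat_lit 0) (nat_lit 67) (Steps.bwd (nat_lit 3) (Steps.fwd (nat_lit 94208) (Steps.fwd (nat_lit 12288) (Steps.fwd (nat_lit 98304) Steps.nil)))) (nat_lit 178) (nat_lit 3),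
  Rule.mk (nat_lit 0) (nat_lit 137) (Steps.fwd (nat_lit 16384) (Steps.fwd (nat_lit 24576) (Steps.fwd (nat_lit 24576) (Steps.fwd (nat_lit 24576) (Steps.fwd (nat_lit 16384) (Steps.fwd (nat_lit 20480) (Steps.fwd (nat_lit 16384) (Steps.fwd (nat_lit 20480) (Steps.fwd (nat_lit 20480) Steps.nil))))))))) (nat_lit 24) (nat_lit 7),
  Rule.mk (nat_lit 0) (nat_lit 67) (Steps.bwd (nat_lit 0) (Steps.fwd (nat_lit 32768) (Steps.fwd (nat_lit 0) (Steps.fwd (nat_lit 28672) Steps.nil)))) (nat_lit 230) (nat_lit 0),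
  Rule.mk (nat_lit 0) (nat_lit 39) (Steps.fwd (nat_lit 0) (Steps.fwd (nat_lit 0) Steps.nil)) (nat_lit 230) (nat_lit 0),
  Rule.mk (nat_lit 0) (nat_lit 67) (Steps.bwd (nat_lit 0) (Steps.bwd (nat_lit 7) (Steps.fwd (nat_lit 0) (Steps.bwd (nat_lit 8) Steps.nil)))) (nat_lit 230) (nat_lit 0),
  Rule.mk (nat_lit 7) (nat_lit 53) (Steps.bwd (nat_lit 0) (Steps.bwd (nat_lit 8) (Steps.fwd (nat_lit 0) Steps.nil))) (nat_lit 230) (nat_lit 0),
  Rule.mk (nat_lit 0) (nat_lit 53) (Steps.fwd (nat_lit 49152) (Steps.fwd (nat_lit 0) (Steps.fwd (nat_lit 45056) Steps.nil))) (nat_lit 230) (nat_lit 0)]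
noncomputable def R_16 : List (Rule) := [Rule.mk (nat_lit 0) (nat_lit 53) (Steps.bwd (nat_lit 11) (Steps.fwd (nat_lit 0) (Steps.fwd (nat_lit 45056) Steps.nil))) (nat_lit 230) (nat_lit 0),
  Rule.mk (nat_lit 24) (nat_lit 53) (Steps.bwd (nat_lit 4) (Steps.fwd (nat_lit 98304) (Steps.fwd (nat_lit 16384) Steps.nil))) (nat_lit 180) (nat_lit 1),
  Rule.mk (nat_lit 23) (nat_lit 53) (Steps.bwd (nat_lit 3) (Steps.bwd (nat_lit 24) (Steps.bwd (nat_lit 3) Steps.nil))) (nat_lit 178) (nat_lit 3),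
  Rule.mk (nat_lit 24) (nat_lit 53) (Steps.fwd (nat_lit 8192) (Steps.bwd (nat_lit 23) (Steps.fwd (nat_lit 8192) Steps.nil))) (nat_lit 176) (nat_lit 1),
  Rule.mk (nat_lit 24) (nat_lit 53) (Steps.fwd (nat_lit 16384) (Steps.bwd (nat_lit 23) (Steps.fwd (nat_lit 16384) Steps.nil))) (nat_lit 180) (nat_lit 1),
  Rule.mk (nat_lit 7) (nat_lit 53) (Steps.bwd (nat_lit 12) (Steps.bwd (nat_lit 8) (Steps.bwd (nat_lit 11) Steps.nil))) (nat_lit 70) (nat_lit 0),
  Rule.mk (nat_lit 8) (nat_lit 53) (Steps.fwd (nat_lit 98304) (Steps.bwd (nat_lit 7) (Steps.fwd (nat_lit 94208) Steps.nil))) (nat_lit 184) (nat_lit 2),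
  Rule.mk (nat_lit 8) (nat_lit 53) (Steps.fwd (nat_lit 12288) (Steps.bwd (nat_lit 7) (Steps.fwd (nat_lit 12288) Steps.nil))) (nat_lit 32) (nat_lit 1),
  Rule.mk (nat_lit 7) (nat_lit 53) (Steps.fwd (nat_lit 94208) (Steps.bwd (nat_lit 8) (Steps.bwd (nat_lit 23) Steps.nil))) (nat_lit 184) (nat_lit 0),
  Rule.mk (nat_lit 8) (nat_lit 53) (Steps.bwd (nat_lit 11) (Steps.bwd (nat_lit 7) (Steps.bwd (nat_lit 12) Steps.nil))) (nat_lit 70) (nat_lit 2),
  Rule.mk (nat_lit 8) (nat_lit 53) (Steps.fwd (nat_lit 36864) (Steps.bwd (nat_lit 8) (Steps.fwd (nat_lit 40960) Steps.nil))) (nat_lit 39) (nat_lit 1),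
  Rule.mk (nat_lit 8) (nat_lit 53) (Steps.bwd (nat_lit 9) (Steps.bwd (nat_lit 8) (Steps.fwd (nat_lit 36864) Steps.nil))) (nat_lit 39) (nat_lit 3),
  Rule.mk (nat_lit 7) (nat_lit 67) (Steps.bwd (nat_lit 6) (Steps.bwd (nat_lit 6) (Steps.bwd (nat_lit 8) (Steps.fwd (nat_lit 24576) Steps.nil)))) (nat_lit 36) (nat_lit 3),
  Rule.mk (nat_lit 8) (nat_lit 53) (Steps.fwd (nat_lit 49152) (Steps.bwd (nat_lit 7) (Steps.bwd (nat_lit 12) Steps.nil))) (nat_lit 70) (nat_lit 2),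
  Rule.mk (nat_lit 6) (nat_lit 739) (Steps.bwd (nat_lit 4) (Steps.bwd (nat_lit 3) (Steps.bwd (nat_lit 2) (Steps.bwd (nat_lit 3) (Steps.bwd (nat_lit 4) (Steps.bwd (nat_lit 5) (Steps.bwd (nat_lit 4) (Steps.bwd (nat_lit 2) (Steps.bwd (nat_lit 3) (Steps.bwd (nat_lit 4) (Steps.bwd (nat_lit 3) (Steps.bwd (nat_lit 2) (Steps.bwd (nat_lit 3) (Steps.bwd (nat_lit 6) (Steps.bwd (nat_lit 4) (Steps.bwd (nat_lit 3) (Steps.bwd (nat_lit 2) (Steps.bwd (nat_lit 3) (Steps.bwd (nat_lit 4) (Steps.bwd (nat_lit 5) (Steps.bwd (nat_lit 4) (Steps.bwd (nat_lit 5) (Steps.bwd (nat_lit 4) (Steps.bwd (nat_lit 3) (Steps.bwd (nat_lit 2) (Steps.bwd (nat_lit 3) (Steps.bwd (nat_lit 4) (Steps.bwd (nat_lit 5) (Steps.bwd (nat_lit 4) (Steps.bwd (nat_lit 3) (Steps.bwd (nat_lit 2) (Steps.bwd (nat_lit 3) (Steps.bwd (nat_lit 4) (Steps.bwd (nat_lit 6) (Steps.bwd (nat_lit 6) (Steps.fwd (nat_lit 20480) (Steps.fwd (nat_lit 16384) (Steps.fwd (nat_lit 12288) (Steps.fwd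 (nat_lit 8192) (Steps.fwd (nat_lit 12288) (Steps.fwd (nat_lit 16384) (Steps.fwd (nat_lit 20480) (Steps.fwd (nat_lit 16384) (Steps.bwd (nat_lit 3) (Steps.fwd (nat_lit 8192) (Steps.bwd (nat_lit 3) (Steps.fwd (nat_lit 16384) (Steps.fwd (nat_lit 24576) (Steps.fwd (nat_lit 24576) (Steps.fwd (nat_lit 8192) (Steps.fwd (nat_lit 12288) (Steps.fwd (nat_lit 16384) Steps.nil)))))))))))))))))))))))))))))))))))))))))))))))))))) (nat_lit 44) (nat_lit 4),
  Rule.mk (nat_lit 7) (nat_lit 67) (Steps.bwd (nat_lit 6) (Steps.bwd (nat_lit 6) (Steps.bwd (nat_lit 8) (Steps.bwd (nat_lit 5) Steps.nil)))) (nat_lit 36) (nat_lit 3),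
  Rule.mk (nat_lit 6) (nat_lit 95) (Steps.bwd (nat_lit 6) (Steps.bwd (nat_lit 6) (Steps.fwd (nat_lit 20480) (Steps.bwd (nat_lit 6) (Steps.fwd (nat_lit 20480) (Steps.bwd (nat_lit 6) Steps.nil)))))) (nat_lit 17) (nat_lit 0),
  Rule.mk (nat_lit 12) (nat_lit 53) (Steps.bwd (nat_lit 5) (Steps.fwd (nat_lit 49152) (Steps.bwd (nat_lit 6) Steps.nil))) (nat_lit 69) (nat_lit 2),
  Rule.mk (nat_lit 7) (nat_lit 67) (Steps.bwd (nat_lit 5) (Steps.fwd (nat_lit 24576) (Steps.bwd (nat_lit 8) (Steps.bwd (nat_lit 6) Steps.nil)))) (nat_lit 37) (nat_lit 0),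
  Rule.mk (nat_lit 7) (nat_lit 53) (Steps.fwd (nat_lit 12288) (Steps.bwd (nat_lit 8) (Steps.fwd (nat_lit 12288) Steps.nil))) (nat_lit 32) (nat_lit 3),
  Rule.mk (nat_lit 8) (nat_lit 53) (Steps.bwd (nat_lit 2) (Steps.bwd (nat_lit 7) (Steps.bwd (nat_lit 2) Steps.nil))) (nat_lit 30) (nat_lit 1),
  Rule.mk (nat_lit 8) (nat_lit 53) (Steps.bwd (nat_lit 4) (Steps.bwd (nat_lit 7) (Steps.bwd (nat_lit 4) Steps.nil))) (nat_lit 34) (nat_lit 1),
  Rule.mk (nat_lit 1) (nat_lit 53) (Steps.fwd (nat_lit 32768) (Steps.fwd (nat_lit 4096) (Steps.bwd (nat_lit 8) Steps.nil))) (nat_lit 28) (nat_lit 2),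
  Rule.mk (nat_lit 5) (nat_lit 67) (Steps.bwd (nat_lit 8) (Steps.fwd (nat_lit 20480) (Steps.bwd (nat_lit 7) (Steps.bwd (nat_lit 5) Steps.nil)))) (nat_lit 37) (nat_lit 2),
  Rule.mk (nat_lit 24) (nat_lit 53) (Steps.bwd (nat_lit 6) (Steps.fwd (nat_lit 98304) (Steps.fwd (nat_lit 24576) Steps.nil))) (nat_lit 182) (nat_lit 1),
  Rule.mk (nat_lit 10) (nat_lit 53) (Steps.bwd (nat_lit 4) (Steps.fwd (nat_lit 40960) (Steps.fwd (nat_lit 16384) Steps.nil))) (nat_lit 40) (nat_lit 1),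
  Rule.mk (nat_lit 10) (nat_lit 151) (Steps.bwd (nat_lit 3) (Steps.bwd (nat_lit 9) (Steps.bwd (nat_lit 3) (Steps.bwd (nat_lit 4) (Steps.bwd (nat_lit 10) (Steps.fwd (nat_lit 12288) (Steps.fwd (nat_lit 40960) (Steps.bwd (nat_lit 18) (Steps.bwd (nat_lit 3) (Steps.fwd (nat_lit 16384) Steps.nil)))))))))) (nat_lit 52) (nat_lit 3),
  Rule.mk (nat_lit 11) (nat_lit 53) (Steps.fwd (nat_lit 40960) (Steps.bwd (nat_lit 12) (Steps.bwd (nat_lit 10) Steps.nil))) (nat_lit 72) (nat_lit 3),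
  Rule.mk (nat_lit 10) (nat_lit 53) (Steps.bwd (nat_lit 22) (Steps.fwd (nat_lit 40960) (Steps.bwd (nat_lit 21) Steps.nil))) (nat_lit 163) (nat_lit 1),
  Rule.mk (nat_lit 5) (nat_lit 585) (Steps.bwd (nat_lit 5) (Steps.bwd (nat_lit 3) (Steps.bwd (nat_lit 6) (Steps.bwd (nat_lit 6) (Steps.bwd (nat_lit 9) (Steps.bwd (nat_lit 5) (Steps.bwd (nat_lit 5) (Steps.bwd (nat_lit 3) (Steps.bwd (nat_lit 6) (Steps.bwd (nat_lit 6) (Steps.bwd (nat_lit 9) (Steps.bwd (nat_lit 5) (Steps.bwd (nat_lit 5) (Steps.bwd (nat_lit 3) (Steps.bwd (nat_lit 6) (Steps.bwd (nat_lit 6) (Steps.bwd (nat_lit 9) (Steps.bwd (nat_lit 4) (Steps.bwd (nat_lit 3) (Steps.bwd (nat_lit 2) (Steps.bwd (nat_lit 3) (Steps.bwd (nat_lit 4) (Steps.bwd (nat_lit 5) (Steps.bwd (nat_lit 5) (Steps.bwd (nat_lit 5) (Steps.bwd (nat_lit 4) (Steps.bwd (nat_lit 3) (Steps.bwd (nat_lit 2) (Steps.bwd (nat_lit 3) (Steps.bwd (nat_lit 4) (Steps.bwd (nat_lit 6) (Steps.bwd (nat_lit 3) (Steps.bwd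 (nat_lit 2) (Steps.bwd (nat_lit 3) (Steps.bwd (nat_lit 2) (Steps.bwd (nat_lit 1) (Steps.bwd (nat_lit 24) (Steps.bwd (nat_lit 3) (Steps.fwd (nat_lit 20480) (Steps.bwd (nat_lit 6) (Steps.fwd (nat_lit 40960) Steps.nil))))))))))))))))))))))))))))))))))))))))) (nat_lit 58) (nat_lit 5),
  Rule.mk (nat_lit 22) (nat_lit 53) (Steps.bwd (nat_lit 6) (Steps.bwd (nat_lit 21) (Steps.bwd (nat_lit 5) Steps.nil))) (nat_lit 158) (nat_lit 1),
  Rule.mk (nat_lit 21) (nat_lit 53) (Steps.bwd (nat_lit 6) (Steps.bwd (nat_lit 22) (Steps.bwd (nat_lit 5) Steps.nil))) (nat_lit 159) (nat_lit 0),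
  Rule.mk (nat_lit 11) (nat_lit 53) (Steps.bwd (nat_lit 8) (Steps.bwd (nat_lit 12) (Steps.bwd (nat_lit 7) Steps.nil))) (nat_lit 71) (nat_lit 0),
  Rule.mk (nat_lit 21) (nat_lit 53) (Steps.bwd (nat_lit 8) (Steps.bwd (nat_lit 22) (Steps.bwd (nat_lit 7) Steps.nil))) (nat_lit 161) (nat_lit 0),
  Rule.mk (nat_lit 8) (nat_lit 53) (Steps.fwd (nat_lit 8192) (Steps.bwd (nat_lit 7) (Steps.bwd (nat_lit 2) Steps.nil))) (nat_lit 30) (nat_lit 1),
  Rule.mk (nat_lit 0) (nat_lit 137) (Steps.fwd (nat_lit 12288) (Steps.fwd (nat_lit 8192) (Steps.fwd (nat_lit 12288) (Steps.fwd (nat_lit 4096) (Steps.fwd (nat_lit 8192) (Steps.bwd (nat_lit 3) (Steps.bwd (nat_lit 2) (Steps.bwd (nat_lit 3) (Steps.bwd (nat_lit 2) Steps.nil))))))))) (nat_lit 11) (nat_lit 5),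
  Rule.mk (nat_lit 0) (nat_lit 137) (Steps.fwd (nat_lit 8192) (Steps.fwd (nat_lit 12288) (Steps.fwd (nat_lit 8192) (Steps.fwd (nat_lit 12288) (Steps.fwd (nat_lit 8192) (Steps.bwd (nat_lit 3) (Steps.bwd (nat_lit 2) (Steps.bwd (nat_lit 3) (Steps.bwd (nat_lit 1) Steps.nil))))))))) (nat_lit 11) (nat_lit 0),
  Rule.mk (nat_lit 0) (nat_lit 67) (Steps.bwd (nat_lit 2) (Steps.fwd (nat_lit 94208) (Steps.fwd (nat_lit 8192) (Steps.fwd (nat_lit 98304) Steps.nil)))) (nat_lit 176) (nat_lit 3),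
  Rule.mk (nat_lit 6) (nat_lit 53) (Steps.bwd (nat_lit 24) (Steps.bwd (nat_lit 5) (Steps.bwd (nat_lit 23) Steps.nil))) (nat_lit 183) (nat_lit 1),
  Rule.mk (nat_lit 22) (nat_lit 53) (Steps.fwd (nat_lit 94208) (Steps.fwd (nat_lit 90112) (Steps.bwd (nat_lit 23) Steps.nil))) (nat_lit 199) (nat_lit 1),
  Rule.mk (nat_lit 10) (nat_lit 53) (Steps.fwd (nat_lit 86016) (Steps.fwd (nat_lit 40960) (Steps.bwd (nat_lit 21) Steps.nil))) (nat_lit 163) (nat_lit 1),
  Rule.mk (nat_lit 0) (nat_lit 67) (Steps.bwd (nat_lit 6) (Steps.bwd (nat_lit 3) (Steps.bwd (nat_lit 6) (Steps.fwd (nat_lit 12288) Steps.nil)))) (nat_lit 23) (nat_lit 1),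
  Rule.mk (nat_lit 8) (nat_lit 53) (Steps.bwd (nat_lit 24) (Steps.bwd (nat_lit 7) (Steps.bwd (nat_lit 23) Steps.nil))) (nat_lit 185) (nat_lit 1),
  Rule.mk (nat_lit 6) (nat_lit 739) (Steps.bwd (nat_lit 4) (Steps.bwd (nat_lit 3) (Steps.bwd (nat_lit 2) (Steps.bwd (nat_lit 3) (Steps.bwd (nat_lit 4) (Steps.bwd (nat_lit 5) (Steps.bwd (nat_lit 4) (Steps.bwd (nat_lit 2) (Steps.bwd (nat_lit 3) (Steps.bwd (nat_lit 4) (Steps.bwd (nat_lit 3) (Steps.bwd (nat_lit 2) (Steps.bwd (nat_lit 3) (Steps.bwd (nat_lit 6) (Steps.bwd (nat_lit 4) (Steps.bwd (nat_lit 3) (Steps.bwd (nat_lit 2) (Steps.bwd (nat_lit 3) (Steps.bwd (nat_lit 4) (Steps.bwd (nat_lit 5) (Steps.bwd (nat_lit 4) (Steps.bwd (nat_lit 5) (Steps.bwd (nat_lit 4) (Steps.bwd (nat_lit 3) (Steps.bwd (nat_lit 2) (Steps.bwd (nat_lit 3) (Steps.bwd (nat_lit 4) (Steps.bwd (nat_lit 5) (Steps.bwd (nat_lit 4) (Steps.bwd (nat_lit 3) (Steps.bwd (nat_lit 2) (Steps.bwd (nat_lit 3) (Steps.bwd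 (nat_lit 4) (Steps.bwd (nat_lit 6) (Steps.bwd (nat_lit 6) (Steps.bwd (nat_lit 6) (Steps.bwd (nat_lit 4) (Steps.bwd (nat_lit 3) (Steps.bwd (nat_lit 2) (Steps.bwd (nat_lit 3) (Steps.bwd (nat_lit 4) (Steps.bwd (nat_lit 6) (Steps.bwd (nat_lit 4) (Steps.bwd (nat_lit 3) (Steps.bwd (nat_lit 2) (Steps.fwd (nat_lit 12288) (Steps.fwd (nat_lit 16384) (Steps.bwd (nat_lit 5) (Steps.fwd (nat_lit 24576) (Steps.fwd (nat_lit 8192) (Steps.bwd (nat_lit 3) (Steps.fwd (nat_lit 16384) Steps.nil)))))))))))))))))))))))))))))))))))))))))))))))))))) (nat_lit 44) (nat_lit 4),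
  Rule.mk (nat_lit 10) (nat_lit 67) (Steps.fwd (nat_lit 8192) (Steps.bwd (nat_lit 9) (Steps.fwd (nat_lit 8192) (Steps.bwd (nat_lit 16) Steps.nil)))) (nat_lit 50) (nat_lit 1),
  Rule.mk (nat_lit 21) (nat_lit 53) (Steps.bwd (nat_lit 10) (Steps.bwd (nat_lit 22) (Steps.bwd (nat_lit 9) Steps.nil))) (nat_lit 163) (nat_lit 0),
  Rule.mk (nat_lit 10) (nat_lit 67) (Steps.bwd (nat_lit 10) (Steps.fwd (nat_lit 49152) (Steps.fwd (nat_lit 4096) (Steps.bwd (nat_lit 2) Steps.nil)))) (nat_lit 47) (nat_lit 4),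
  Rule.mk (nat_lit 0) (nat_lit 67) (Steps.bwd (nat_lit 3) (Steps.fwd (nat_lit 86016) (Steps.fwd (nat_lit 12288) (Steps.fwd (nat_lit 90112) Steps.nil)))) (nat_lit 154) (nat_lit 3),
  Rule.mk (nat_lit 12) (nat_lit 53) (Steps.bwd (nat_lit 6) (Steps.fwd (nat_lit 49152) (Steps.fwd (nat_lit 24576) Steps.nil))) (nat_lit 68) (nat_lit 1),
  Rule.mk (nat_lit 11) (nat_lit 53) (Steps.bwd (nat_lit 6) (Steps.fwd (nat_lit 45056) (Steps.fwd (nat_lit 24576) Steps.nil))) (nat_lit 69) (nat_lit 0),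
  Rule.mk (nat_lit 22) (nat_lit 53) (Steps.bwd (nat_lit 6) (Steps.fwd (nat_lit 90112) (Steps.fwd (nat_lit 24576) Steps.nil))) (nat_lit 158) (nat_lit 1),
  Rule.mk (nat_lit 21) (nat_lit 53) (Steps.bwd (nat_lit 6) (Steps.fwd (nat_lit 86016) (Steps.fwd (nat_lit 24576) Steps.nil))) (nat_lit 159) (nat_lit 0),
  Rule.mk (nat_lit 6) (nat_lit 123) (Steps.bwd (nat_lit 6) (Steps.bwd (nat_lit 4) (Steps.fwd (nat_lit 24576) (Steps.fwd (nat_lit 24576) (Steps.bwd (nat_lit 5) (Steps.bwd (nat_lit 4) (Steps.fwd (nat_lit 20480) (Steps.fwd (nat_lit 16384) Steps.nil)))))))) (nat_lit 24) (nat_lit 6),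
  Rule.mk (nat_lit 6) (nat_lit 123) (Steps.bwd (nat_lit 6) (Steps.bwd (nat_lit 6) (Steps.bwd (nat_lit 4) (Steps.fwd (nat_lit 24576) (Steps.fwd (nat_lit 24576) (Steps.fwd (nat_lit 16384) (Steps.fwd (nat_lit 24576) (Steps.fwd (nat_lit 16384) Steps.nil)))))))) (nat_lit 25) (nat_lit 1),
  Rule.mk (nat_lit 5) (nat_lit 53) (Steps.fwd (nat_lit 8192) (Steps.bwd (nat_lit 6) (Steps.fwd (nat_lit 8192) Steps.nil))) (nat_lit 20) (nat_lit 3),
  Rule.mk (nat_lit 8) (nat_lit 53) (Steps.bwd (nat_lit 4) (Steps.fwd (nat_lit 32768) (Steps.fwd (nat_lit 16384) Steps.nil))) (nat_lit 34) (nat_lit 1),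
  Rule.mk (nat_lit 12) (nat_lit 53) (Steps.bwd (nat_lit 4) (Steps.fwd (nat_lit 49152) (Steps.fwd (nat_lit 16384) Steps.nil))) (nat_lit 66) (nat_lit 1),
  Rule.mk (nat_lit 13) (nat_lit 53) (Steps.bwd (nat_lit 4) (Steps.fwd (nat_lit 53248) (Steps.fwd (nat_lit 16384) Steps.nil))) (nat_lit 80) (nat_lit 3),
  Rule.mk (nat_lit 15) (nat_lit 53) (Steps.bwd (nat_lit 4) (Steps.fwd (nat_lit 61440) (Steps.fwd (nat_lit 16384) Steps.nil))) (nat_lit 96) (nat_lit 3),
  Rule.mk (nat_lit 17) (nat_lit 53) (Steps.bwd (nat_lit 4) (Steps.fwd (nat_lit 69632) (Steps.fwd (nat_lit 16384) Steps.nil))) (nat_lit 114) (nat_lit 3),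
  Rule.mk (nat_lit 11) (nat_lit 53) (Steps.bwd (nat_lit 7) (Steps.bwd (nat_lit 12) (Steps.fwd (nat_lit 28672) Steps.nil))) (nat_lit 70) (nat_lit 3),
  Rule.mk (nat_lit 12) (nat_lit 53) (Steps.bwd (nat_lit 7) (Steps.bwd (nat_lit 11) (Steps.fwd (nat_lit 28672) Steps.nil))) (nat_lit 71) (nat_lit 2),
  Rule.mk (nat_lit 21) (nat_lit 53) (Steps.bwd (nat_lit 7) (Steps.bwd (nat_lit 22) (Steps.fwd (nat_lit 28672) Steps.nil))) (nat_lit 160) (nat_lit 3),
  Rule.mk (nat_lit 22) (nat_lit 53) (Steps.bwd (nat_lit 7) (Steps.bwd (nat_lit 21) (Steps.fwd (nat_lit 28672) Steps.nil))) (nat_lit 161) (nat_lit 2)]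
noncomputable def R_17 : List (Rule) := [Rule.mk (nat_lit 6) (nat_lit 67) (Steps.bwd (nat_lit 7) (Steps.bwd (nat_lit 5) (Steps.fwd (nat_lit 24576) (Steps.bwd (nat_lit 8) Steps.nil)))) (nat_lit 37) (nat_lit 4),
  Rule.mk (nat_lit 10) (nat_lit 151) (Steps.bwd (nat_lit 3) (Steps.bwd (nat_lit 9) (Steps.bwd (nat_lit 3) (Steps.bwd (nat_lit 4) (Steps.fwd (nat_lit 36864) (Steps.bwd (nat_lit 3) (Steps.bwd (nat_lit 9) (Steps.bwd (nat_lit 18) (Steps.bwd (nat_lit 3) (Steps.fwd (nat_lit 16384) Steps.nil)))))))))) (nat_lit 52) (nat_lit 3),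
  Rule.mk (nat_lit 2) (nat_lit 53) (Steps.bwd (nat_lit 7) (Steps.bwd (nat_lit 2) (Steps.bwd (nat_lit 8) Steps.nil))) (nat_lit 30) (nat_lit 2),
  Rule.mk (nat_lit 9) (nat_lit 585) (Steps.bwd (nat_lit 5) (Steps.bwd (nat_lit 5) (Steps.bwd (nat_lit 3) (Steps.bwd (nat_lit 6) (Steps.bwd (nat_lit 6) (Steps.bwd (nat_lit 9) (Steps.bwd (nat_lit 5) (Steps.bwd (nat_lit 5) (Steps.bwd (nat_lit 3) (Steps.bwd (nat_lit 6) (Steps.bwd (nat_lit 6) (Steps.bwd (nat_lit 9) (Steps.bwd (nat_lit 5) (Steps.bwd (nat_lit 5) (Steps.bwd (nat_lit 3) (Steps.bwd (nat_lit 6) (Steps.bwd (nat_lit 6) (Steps.bwd (nat_lit 9) (Steps.bwd (nat_lit 4) (Steps.bwd (nat_lit 3) (Steps.bwd (nat_lit 2) (Steps.bwd (nat_lit 3) (Steps.bwd (nat_lit 4) (Steps.bwd (nat_lit 5) (Steps.bwd (nat_lit 5) (Steps.bwd (nat_lit 5) (Steps.bwd (nat_lit 4) (Steps.bwd (nat_lit 3) (Steps.bwd (nat_lit 2) (Steps.bwd (nat_lit 3) (Steps.bwd (nat_lit 4) (Steps.bwd (nat_lit 6) (Steps.bwd (nat_lit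 3) (Steps.bwd (nat_lit 2) (Steps.bwd (nat_lit 3) (Steps.bwd (nat_lit 2) (Steps.bwd (nat_lit 1) (Steps.bwd (nat_lit 24) (Steps.bwd (nat_lit 3) (Steps.bwd (nat_lit 6) (Steps.fwd (nat_lit 20480) Steps.nil))))))))))))))))))))))))))))))))))))))))) (nat_lit 58) (nat_lit 4),
  Rule.mk (nat_lit 8) (nat_lit 67) (Steps.fwd (nat_lit 20480) (Steps.bwd (nat_lit 7) (Steps.fwd (nat_lit 24576) (Steps.fwd (nat_lit 24576) Steps.nil)))) (nat_lit 37) (nat_lit 3),
  Rule.mk (nat_lit 0) (nat_lit 67) (Steps.bwd (nat_lit 3) (Steps.bwd (nat_lit 24) (Steps.bwd (nat_lit 3) (Steps.fwd (nat_lit 98304) Steps.nil)))) (nat_lit 178) (nat_lit 3),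
  Rule.mk (nat_lit 9) (nat_lit 53) (Steps.bwd (nat_lit 8) (Steps.fwd (nat_lit 36864) (Steps.bwd (nat_lit 8) Steps.nil))) (nat_lit 39) (nat_lit 0),
  Rule.mk (nat_lit 10) (nat_lit 53) (Steps.bwd (nat_lit 8) (Steps.fwd (nat_lit 40960) (Steps.bwd (nat_lit 8) Steps.nil))) (nat_lit 39) (nat_lit 2),
  Rule.mk (nat_lit 11) (nat_lit 53) (Steps.bwd (nat_lit 24) (Steps.fwd (nat_lit 45056) (Steps.fwd (nat_lit 98304) Steps.nil))) (nat_lit 188) (nat_lit 0),
  Rule.mk (nat_lit 12) (nat_lit 53) (Steps.bwd (nat_lit 24) (Steps.fwd (nat_lit 49152) (Steps.fwd (nat_lit 98304) Steps.nil))) (nat_lit 189) (nat_lit 1),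
  Rule.mk (nat_lit 22) (nat_lit 53) (Steps.bwd (nat_lit 24) (Steps.fwd (nat_lit 90112) (Steps.fwd (nat_lit 98304) Steps.nil))) (nat_lit 199) (nat_lit 1),
  Rule.mk (nat_lit 6) (nat_lit 53) (Steps.fwd (nat_lit 90112) (Steps.fwd (nat_lit 24576) (Steps.bwd (nat_lit 22) Steps.nil))) (nat_lit 158) (nat_lit 2),
  Rule.mk (nat_lit 0) (nat_lit 81) (Steps.bwd (nat_lit 5) (Steps.bwd (nat_lit 5) (Steps.bwd (nat_lit 8) (Steps.bwd (nat_lit 6) (Steps.fwd (nat_lit 32768) Steps.nil))))) (nat_lit 37) (nat_lit 0),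
  Rule.mk (nat_lit 0) (nat_lit 53) (Steps.bwd (nat_lit 3) (Steps.fwd (nat_lit 0) (Steps.bwd (nat_lit 3) Steps.nil))) (nat_lit 230) (nat_lit 0),
  Rule.mk (nat_lit 0) (nat_lit 53) (Steps.bwd (nat_lit 2) (Steps.fwd (nat_lit 0) (Steps.bwd (nat_lit 2) Steps.nil))) (nat_lit 230) (nat_lit 0),
  Rule.mk (nat_lit 6) (nat_lit 95) (Steps.fwd (nat_lit 20480) (Steps.bwd (nat_lit 6) (Steps.bwd (nat_lit 6) (Steps.fwd (nat_lit 20480) (Steps.fwd (nat_lit 20480) (Steps.fwd (nat_lit 20480) Steps.nil)))))) (nat_lit 17) (nat_lit 0),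
  Rule.mk (nat_lit 7) (nat_lit 67) (Steps.fwd (nat_lit 20480) (Steps.bwd (nat_lit 6) (Steps.bwd (nat_lit 8) (Steps.fwd (nat_lit 24576) Steps.nil)))) (nat_lit 36) (nat_lit 3),
  Rule.mk (nat_lit 8) (nat_lit 67) (Steps.bwd (nat_lit 5) (Steps.fwd (nat_lit 32768) (Steps.bwd (nat_lit 6) (Steps.fwd (nat_lit 20480) Steps.nil)))) (nat_lit 36) (nat_lit 1),
  Rule.mk (nat_lit 7) (nat_lit 53) (Steps.bwd (nat_lit 12) (Steps.bwd (nat_lit 8) (Steps.fwd (nat_lit 49152) Steps.nil))) (nat_lit 70) (nat_lit 0),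
  Rule.mk (nat_lit 24) (nat_lit 53) (Steps.fwd (nat_lit 28672) (Steps.bwd (nat_lit 23) (Steps.bwd (nat_lit 7) Steps.nil))) (nat_lit 184) (nat_lit 1),
  Rule.mk (nat_lit 23) (nat_lit 53) (Steps.fwd (nat_lit 16384) (Steps.bwd (nat_lit 24) (Steps.fwd (nat_lit 16384) Steps.nil))) (nat_lit 180) (nat_lit 3),
  Rule.mk (nat_lit 24) (nat_lit 53) (Steps.bwd (nat_lit 3) (Steps.bwd (nat_lit 23) (Steps.bwd (nat_lit 3) Steps.nil))) (nat_lit 178) (nat_lit 1),
  Rule.mk (nat_lit 7) (nat_lit 53) (Steps.bwd (nat_lit 24) (Steps.bwd (nat_lit 8) (Steps.bwd (nat_lit 23) Steps.nil))) (nat_lit 184) (nat_lit 0),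
  Rule.mk (nat_lit 23) (nat_lit 53) (Steps.bwd (nat_lit 7) (Steps.bwd (nat_lit 24) (Steps.bwd (nat_lit 8) Steps.nil))) (nat_lit 184) (nat_lit 3),
  Rule.mk (nat_lit 0) (nat_lit 67) (Steps.bwd (nat_lit 4) (Steps.fwd (nat_lit 98304) (Steps.bwd (nat_lit 4) (Steps.bwd (nat_lit 24) Steps.nil)))) (nat_lit 180) (nat_lit 1),
  Rule.mk (nat_lit 0) (nat_lit 53) (Steps.fwd (nat_lit 28672) (Steps.bwd (nat_lit 0) (Steps.fwd (nat_lit 32768) Steps.nil))) (nat_lit 230) (nat_lit 0),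
  Rule.mk (nat_lit 0) (nat_lit 53) (Steps.fwd (nat_lit 20480) (Steps.bwd (nat_lit 0) (Steps.bwd (nat_lit 5) Steps.nil))) (nat_lit 230) (nat_lit 0),
  Rule.mk (nat_lit 0) (nat_lit 53) (Steps.fwd (nat_lit 94208) (Steps.fwd (nat_lit 0) (Steps.fwd (nat_lit 98304) Steps.nil))) (nat_lit 230) (nat_lit 0),
  Rule.mk (nat_lit 0) (nat_lit 53) (Steps.fwd (nat_lit 49152) (Steps.bwd (nat_lit 0) (Steps.fwd (nat_lit 45056) Steps.nil))) (nat_lit 230) (nat_lit 0),
  Rule.mk (nat_lit 7) (nat_lit 53) (Steps.fwd (nat_lit 45056) (Steps.bwd (nat_lit 8) (Steps.fwd (nat_lit 49152) Steps.nil))) (nat_lit 70) (nat_lit 0),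
  Rule.mk (nat_lit 23) (nat_lit 53) (Steps.bwd (nat_lit 7) (Steps.bwd (nat_lit 24) (Steps.fwd (nat_lit 28672) Steps.nil))) (nat_lit 184) (nat_lit 3),
  Rule.mk (nat_lit 5) (nat_lit 67) (Steps.bwd (nat_lit 7) (Steps.bwd (nat_lit 6) (Steps.bwd (nat_lit 6) (Steps.fwd (nat_lit 28672) Steps.nil)))) (nat_lit 36) (nat_lit 2),
  Rule.mk (nat_lit 6) (nat_lit 67) (Steps.bwd (nat_lit 7) (Steps.fwd (nat_lit 24576) (Steps.bwd (nat_lit 5) (Steps.bwd (nat_lit 8) Steps.nil)))) (nat_lit 37) (nat_lit 4),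
  Rule.mk (nat_lit 5) (nat_lit 53) (Steps.bwd (nat_lit 12) (Steps.bwd (nat_lit 6) (Steps.bwd (nat_lit 11) Steps.nil))) (nat_lit 68) (nat_lit 0),
  Rule.mk (nat_lit 24) (nat_lit 53) (Steps.bwd (nat_lit 4) (Steps.bwd (nat_lit 23) (Steps.bwd (nat_lit 4) Steps.nil))) (nat_lit 180) (nat_lit 1),
  Rule.mk (nat_lit 6) (nat_lit 95) (Steps.bwd (nat_lit 6) (Steps.bwd (nat_lit 6) (Steps.bwd (nat_lit 6) (Steps.bwd (nat_lit 6) (Steps.bwd (nat_lit 6) (Steps.bwd (nat_lit 6) Steps.nil)))))) (nat_lit 17) (nat_lit 0),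
  Rule.mk (nat_lit 5) (nat_lit 53) (Steps.bwd (nat_lit 12) (Steps.bwd (nat_lit 6) (Steps.fwd (nat_lit 49152) Steps.nil))) (nat_lit 68) (nat_lit 0),
  Rule.mk (nat_lit 7) (nat_lit 53) (Steps.bwd (nat_lit 3) (Steps.fwd (nat_lit 28672) (Steps.fwd (nat_lit 12288) Steps.nil))) (nat_lit 32) (nat_lit 3),
  Rule.mk (nat_lit 0) (nat_lit 95) (Steps.fwd (nat_lit 12288) (Steps.fwd (nat_lit 16384) (Steps.bwd (nat_lit 3) (Steps.fwd (nat_lit 16384) (Steps.bwd (nat_lit 3) (Steps.bwd (nat_lit 4) Steps.nil)))))) (nat_lit 14) (nat_lit 0),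
  Rule.mk (nat_lit 5) (nat_lit 123) (Steps.bwd (nat_lit 4) (Steps.bwd (nat_lit 5) (Steps.bwd (nat_lit 4) (Steps.fwd (nat_lit 20480) (Steps.bwd (nat_lit 6) (Steps.fwd (nat_lit 20480) (Steps.fwd (nat_lit 16384) (Steps.bwd (nat_lit 5) Steps.nil)))))))) (nat_lit 25) (nat_lit 6),
  Rule.mk (nat_lit 6) (nat_lit 53) (Steps.bwd (nat_lit 2) (Steps.bwd (nat_lit 5) (Steps.bwd (nat_lit 2) Steps.nil))) (nat_lit 20) (nat_lit 1),
  Rule.mk (nat_lit 0) (nat_lit 67) (Steps.bwd (nat_lit 3) (Steps.fwd (nat_lit 24576) (Steps.bwd (nat_lit 3) (Steps.fwd (nat_lit 24576) Steps.nil)))) (nat_lit 22) (nat_lit 1),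
  Rule.mk (nat_lit 6) (nat_lit 123) (Steps.bwd (nat_lit 6) (Steps.bwd (nat_lit 4) (Steps.fwd (nat_lit 24576) (Steps.fwd (nat_lit 24576) (Steps.fwd (nat_lit 24576) (Steps.bwd (nat_lit 4) (Steps.bwd (nat_lit 6) (Steps.fwd (nat_lit 16384) Steps.nil)))))))) (nat_lit 24) (nat_lit 6),
  Rule.mk (nat_lit 7) (nat_lit 53) (Steps.bwd (nat_lit 23) (Steps.fwd (nat_lit 28672) (Steps.fwd (nat_lit 94208) Steps.nil))) (nat_lit 185) (nat_lit 3),
  Rule.mk (nat_lit 23) (nat_lit 53) (Steps.fwd (nat_lit 28672) (Steps.fwd (nat_lit 94208) (Steps.bwd (nat_lit 7) Steps.nil))) (nat_lit 185) (nat_lit 0),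
  Rule.mk (nat_lit 5) (nat_lit 53) (Steps.bwd (nat_lit 23) (Steps.bwd (nat_lit 6) (Steps.bwd (nat_lit 24) Steps.nil))) (nat_lit 183) (nat_lit 3),
  Rule.mk (nat_lit 8) (nat_lit 67) (Steps.bwd (nat_lit 5) (Steps.fwd (nat_lit 32768) (Steps.bwd (nat_lit 6) (Steps.bwd (nat_lit 6) Steps.nil)))) (nat_lit 36) (nat_lit 1),
  Rule.mk (nat_lit 0) (nat_lit 67) (Steps.fwd (nat_lit 32768) (Steps.bwd (nat_lit 4) (Steps.fwd (nat_lit 28672) (Steps.fwd (nat_lit 16384) Steps.nil)))) (nat_lit 34) (nat_lit 2),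
  Rule.mk (nat_lit 8) (nat_lit 39) (Steps.bwd (nat_lit 0) (Steps.fwd (nat_lit 32768) Steps.nil)) (nat_lit 230) (nat_lit 0),
  Rule.mk (nat_lit 1) (nat_lit 53) (Steps.bwd (nat_lit 0) (Steps.fwd (nat_lit 4096) (Steps.fwd (nat_lit 0) Steps.nil))) (nat_lit 230) (nat_lit 0),
  Rule.mk (nat_lit 7) (nat_lit 67) (Steps.fwd (nat_lit 24576) (Steps.fwd (nat_lit 24576) (Steps.bwd (nat_lit 8) (Steps.fwd (nat_lit 20480) Steps.nil)))) (nat_lit 37) (nat_lit 0),
  Rule.mk (nat_lit 3) (nat_lit 53) (Steps.bwd (nat_lit 5) (Steps.bwd (nat_lit 3) (Steps.fwd (nat_lit 24576) Steps.nil))) (nat_lit 22) (nat_lit 0),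
  Rule.mk (nat_lit 4) (nat_lit 81) (Steps.bwd (nat_lit 3) (Steps.bwd (nat_lit 4) (Steps.bwd (nat_lit 3) (Steps.fwd (nat_lit 16384) (Steps.fwd (nat_lit 12288) Steps.nil))))) (nat_lit 14) (nat_lit 0),
  Rule.mk (nat_lit 3) (nat_lit 81) (Steps.bwd (nat_lit 4) (Steps.bwd (nat_lit 3) (Steps.bwd (nat_lit 4) (Steps.bwd (nat_lit 3) (Steps.fwd (nat_lit 16384) Steps.nil))))) (nat_lit 14) (nat_lit 1),
  Rule.mk (nat_lit 2) (nat_lit 53) (Steps.bwd (nat_lit 6) (Steps.bwd (nat_lit 2) (Steps.fwd (nat_lit 24576) Steps.nil))) (nat_lit 20) (nat_lit 0),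
  Rule.mk (nat_lit 4) (nat_lit 81) (Steps.bwd (nat_lit 3) (Steps.bwd (nat_lit 4) (Steps.bwd (nat_lit 3) (Steps.bwd (nat_lit 4) (Steps.bwd (nat_lit 3) Steps.nil))))) (nat_lit 14) (nat_lit 0),
  Rule.mk (nat_lit 3) (nat_lit 81) (Steps.bwd (nat_lit 4) (Steps.bwd (nat_lit 3) (Steps.bwd (nat_lit 4) (Steps.bwd (nat_lit 3) (Steps.bwd (nat_lit 4) Steps.nil))))) (nat_lit 14) (nat_lit 1),
  Rule.mk (nat_lit 0) (nat_lit 67) (Steps.bwd (nat_lit 3) (Steps.fwd (nat_lit 20480) (Steps.bwd (nat_lit 3) (Steps.fwd (nat_lit 20480) Steps.nil)))) (nat_lit 23) (nat_lit 0),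
  Rule.mk (nat_lit 23) (nat_lit 39) (Steps.bwd (nat_lit 0) (Steps.bwd (nat_lit 24) Steps.nil)) (nat_lit 230) (nat_lit 0),
  Rule.mk (nat_lit 3) (nat_lit 53) (Steps.fwd (nat_lit 20480) (Steps.bwd (nat_lit 3) (Steps.fwd (nat_lit 20480) Steps.nil))) (nat_lit 23) (nat_lit 1),
  Rule.mk (nat_lit 4) (nat_lit 81) (Steps.fwd (nat_lit 12288) (Steps.fwd (nat_lit 16384) (Steps.bwd (nat_lit 3) (Steps.fwd (nat_lit 16384) (Steps.fwd (nat_lit 12288) Steps.nil))))) (nat_lit 14) (nat_lit 0),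
  Rule.mk (nat_lit 4) (nat_lit 53) (Steps.bwd (nat_lit 2) (Steps.bwd (nat_lit 4) (Steps.bwd (nat_lit 2) Steps.nil))) (nat_lit 12) (nat_lit 0),
  Rule.mk (nat_lit 0) (nat_lit 95) (Steps.bwd (nat_lit 3) (Steps.fwd (nat_lit 16384) (Steps.fwd (nat_lit 12288) (Steps.bwd (nat_lit 4) (Steps.fwd (nat_lit 12288) (Steps.fwd (nat_lit 16384) Steps.nil)))))) (nat_lit 14) (nat_lit 0),
  Rule.mk (nat_lit 0) (nat_lit 53) (Steps.bwd (nat_lit 6) (Steps.fwd (nat_lit 0) (Steps.bwd (nat_lit 5) Steps.nil))) (nat_lit 230) (nat_lit 0)]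
noncomputable def R_18 : List (Rule) := [Rule.mk (nat_lit 7) (nat_lit 53) (Steps.bwd (nat_lit 0) (Steps.fwd (nat_lit 28672) (Steps.fwd (nat_lit 0) Steps.nil))) (nat_lit 230) (nat_lit 0),
  Rule.mk (nat_lit 23) (nat_lit 39) (Steps.bwd (nat_lit 0) (Steps.fwd (nat_lit 94208) Steps.nil)) (nat_lit 230) (nat_lit 0),
  Rule.mk (nat_lit 0) (nat_lit 53) (Steps.bwd (nat_lit 11) (Steps.bwd (nat_lit 0) (Steps.fwd (nat_lit 45056) Steps.nil))) (nat_lit 230) (nat_lit 0),
  Rule.mk (nat_lit 9) (nat_lit 53) (Steps.bwd (nat_lit 4) (Steps.fwd (nat_lit 36864) (Steps.bwd (nat_lit 4) Steps.nil))) (nat_lit 40) (nat_lit 3),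
  Rule.mk (nat_lit 7) (nat_lit 53) (Steps.bwd (nat_lit 21) (Steps.fwd (nat_lit 28672) (Steps.bwd (nat_lit 22) Steps.nil))) (nat_lit 161) (nat_lit 3),
  Rule.mk (nat_lit 9) (nat_lit 67) (Steps.bwd (nat_lit 9) (Steps.bwd (nat_lit 2) (Steps.fwd (nat_lit 4096) (Steps.bwd (nat_lit 12) Steps.nil)))) (nat_lit 46) (nat_lit 1),
  Rule.mk (nat_lit 10) (nat_lit 53) (Steps.bwd (nat_lit 11) (Steps.bwd (nat_lit 9) (Steps.bwd (nat_lit 12) Steps.nil))) (nat_lit 72) (nat_lit 2),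
  Rule.mk (nat_lit 24) (nat_lit 53) (Steps.fwd (nat_lit 36864) (Steps.fwd (nat_lit 98304) (Steps.bwd (nat_lit 9) Steps.nil))) (nat_lit 186) (nat_lit 1),
  Rule.mk (nat_lit 23) (nat_lit 53) (Steps.fwd (nat_lit 49152) (Steps.bwd (nat_lit 24) (Steps.fwd (nat_lit 45056) Steps.nil))) (nat_lit 188) (nat_lit 3),
  Rule.mk (nat_lit 24) (nat_lit 53) (Steps.fwd (nat_lit 20480) (Steps.bwd (nat_lit 23) (Steps.fwd (nat_lit 24576) Steps.nil))) (nat_lit 182) (nat_lit 1),
  Rule.mk (nat_lit 24) (nat_lit 53) (Steps.fwd (nat_lit 45056) (Steps.bwd (nat_lit 23) (Steps.fwd (nat_lit 49152) Steps.nil))) (nat_lit 188) (nat_lit 1),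
  Rule.mk (nat_lit 24) (nat_lit 53) (Steps.fwd (nat_lit 24576) (Steps.bwd (nat_lit 23) (Steps.fwd (nat_lit 20480) Steps.nil))) (nat_lit 183) (nat_lit 2),
  Rule.mk (nat_lit 23) (nat_lit 53) (Steps.fwd (nat_lit 49152) (Steps.bwd (nat_lit 24) (Steps.bwd (nat_lit 12) Steps.nil))) (nat_lit 188) (nat_lit 3),
  Rule.mk (nat_lit 6) (nat_lit 739) (Steps.bwd (nat_lit 4) (Steps.bwd (nat_lit 3) (Steps.bwd (nat_lit 2) (Steps.bwd (nat_lit 3) (Steps.bwd (nat_lit 4) (Steps.bwd (nat_lit 5) (Steps.bwd (nat_lit 4) (Steps.bwd (nat_lit 2) (Steps.bwd (nat_lit 3) (Steps.bwd (nat_lit 4) (Steps.bwd (nat_lit 3) (Steps.bwd (nat_lit 2) (Steps.bwd (nat_lit 3) (Steps.bwd (nat_lit 6) (Steps.bwd (nat_lit 4) (Steps.bwd (nat_lit 3) (Steps.bwd (nat_lit 2) (Steps.bwd (nat_lit 3) (Steps.bwd (nat_lit 4) (Steps.bwd (nat_lit 5) (Steps.bwd (nat_lit 4) (Steps.bwd (nat_lit 5) (Steps.bwd (nat_lit 4) (Steps.bwd (nat_lit 3) (Steps.bwd (nat_lit 2) (Steps.bwd (nat_lit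 3) (Steps.bwd (nat_lit 4) (Steps.bwd (nat_lit 5) (Steps.bwd (nat_lit 4) (Steps.bwd (nat_lit 3) (Steps.bwd (nat_lit 2) (Steps.bwd (nat_lit 3) (Steps.bwd (nat_lit 4) (Steps.bwd (nat_lit 6) (Steps.bwd (nat_lit 6) (Steps.bwd (nat_lit 6) (Steps.bwd (nat_lit 4) (Steps.bwd (nat_lit 3) (Steps.bwd (nat_lit 2) (Steps.bwd (nat_lit 3) (Steps.bwd (nat_lit 4) (Steps.bwd (nat_lit 6) (Steps.bwd (nat_lit 4) (Steps.bwd (nat_lit 3) (Steps.bwd (nat_lit 2) (Steps.fwd (nat_lit 12288) (Steps.fwd (nat_lit 16384) (Steps.bwd (nat_lit 5) (Steps.bwd (nat_lit 5) (Steps.fwd (nat_lit 8192) (Steps.bwd (nat_lit 3) (Steps.fwd (nat_lit 16384) Steps.nil)))))))))))))))))))))))))))))))))))))))))))))))))))) (nat_lit 44) (nat_lit 4),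
  Rule.mk (nat_lit 6) (nat_lit 53) (Steps.bwd (nat_lit 2) (Steps.fwd (nat_lit 24576) (Steps.fwd (nat_lit 8192) Steps.nil))) (nat_lit 20) (nat_lit 1),
  Rule.mk (nat_lit 10) (nat_lit 67) (Steps.bwd (nat_lit 2) (Steps.bwd (nat_lit 9) (Steps.fwd (nat_lit 8192) (Steps.fwd (nat_lit 61440) Steps.nil)))) (nat_lit 50) (nat_lit 1),
  Rule.mk (nat_lit 23) (nat_lit 53) (Steps.fwd (nat_lit 12288) (Steps.bwd (nat_lit 24) (Steps.fwd (nat_lit 12288) Steps.nil))) (nat_lit 178) (nat_lit 3),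
  Rule.mk (nat_lit 6) (nat_lit 53) (Steps.bwd (nat_lit 23) (Steps.fwd (nat_lit 24576) (Steps.bwd (nat_lit 24) Steps.nil))) (nat_lit 182) (nat_lit 2),
  Rule.mk (nat_lit 12) (nat_lit 53) (Steps.bwd (nat_lit 23) (Steps.bwd (nat_lit 11) (Steps.bwd (nat_lit 24) Steps.nil))) (nat_lit 188) (nat_lit 2),
  Rule.mk (nat_lit 21) (nat_lit 53) (Steps.bwd (nat_lit 23) (Steps.fwd (nat_lit 86016) (Steps.bwd (nat_lit 24) Steps.nil))) (nat_lit 199) (nat_lit 3),
  Rule.mk (nat_lit 6) (nat_lit 123) (Steps.bwd (nat_lit 6) (Steps.bwd (nat_lit 4) (Steps.bwd (nat_lit 5) (Steps.fwd (nat_lit 24576) (Steps.fwd (nat_lit 24576) (Steps.fwd (nat_lit 16384) (Steps.fwd (nat_lit 20480) (Steps.fwd (nat_lit 16384) Steps.nil)))))))) (nat_lit 24) (nat_lit 6),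
  Rule.mk (nat_lit 8) (nat_lit 53) (Steps.fwd (nat_lit 49152) (Steps.bwd (nat_lit 7) (Steps.fwd (nat_lit 45056) Steps.nil))) (nat_lit 70) (nat_lit 2),
  Rule.mk (nat_lit 7) (nat_lit 53) (Steps.fwd (nat_lit 16384) (Steps.bwd (nat_lit 8) (Steps.fwd (nat_lit 16384) Steps.nil))) (nat_lit 34) (nat_lit 3),
  Rule.mk (nat_lit 10) (nat_lit 151) (Steps.bwd (nat_lit 3) (Steps.bwd (nat_lit 9) (Steps.bwd (nat_lit 3) (Steps.bwd (nat_lit 4) (Steps.fwd (nat_lit 36864) (Steps.bwd (nat_lit 3) (Steps.bwd (nat_lit 9) (Steps.bwd (nat_lit 18) (Steps.fwd (nat_lit 12288) (Steps.fwd (nat_lit 16384) Steps.nil)))))))))) (nat_lit 52) (nat_lit 3),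
  Rule.mk (nat_lit 10) (nat_lit 53) (Steps.bwd (nat_lit 21) (Steps.fwd (nat_lit 40960) (Steps.bwd (nat_lit 22) Steps.nil))) (nat_lit 162) (nat_lit 2),
  Rule.mk (nat_lit 4) (nat_lit 585) (Steps.bwd (nat_lit 3) (Steps.bwd (nat_lit 2) (Steps.bwd (nat_lit 3) (Steps.bwd (nat_lit 4) (Steps.bwd (nat_lit 6) (Steps.fwd (nat_lit 12288) (Steps.bwd (nat_lit 2) (Steps.bwd (nat_lit 3) (Steps.fwd (nat_lit 8192) (Steps.fwd (nat_lit 4096) (Steps.bwd (nat_lit 24) (Steps.fwd (nat_lit 12288) (Steps.bwd (nat_lit 6) (Steps.bwd (nat_lit 6) (Steps.bwd (nat_lit 9) (Steps.bwd (nat_lit 5) (Steps.bwd (nat_lit 5) (Steps.bwd (nat_lit 3) (Steps.bwd (nat_lit 6) (Steps.bwd (nat_lit 6) (Steps.bwd (nat_lit 9) (Steps.bwd (nat_lit 5) (Steps.bwd (nat_lit 5) (Steps.bwd (nat_lit 3) (Steps.bwd (nat_lit 6) (Steps.bwd (nat_lit 6) (Steps.bwd (nat_lit 9) (Steps.bwd (nat_lit 5) (Steps.bwd (nat_lit 5) (Steps.fwd (nat_lit 12288) (Steps.fwd (nat_lit 20480) (Steps.fwd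 (nat_lit 20480) (Steps.bwd (nat_lit 9) (Steps.fwd (nat_lit 16384) (Steps.fwd (nat_lit 12288) (Steps.fwd (nat_lit 8192) (Steps.fwd (nat_lit 12288) (Steps.bwd (nat_lit 4) (Steps.bwd (nat_lit 5) (Steps.fwd (nat_lit 24576) (Steps.fwd (nat_lit 24576) Steps.nil))))))))))))))))))))))))))))))))))))))))) (nat_lit 58) (nat_lit 35),
  Rule.mk (nat_lit 6) (nat_lit 123) (Steps.bwd (nat_lit 4) (Steps.bwd (nat_lit 6) (Steps.bwd (nat_lit 6) (Steps.bwd (nat_lit 4) (Steps.bwd (nat_lit 5) (Steps.fwd (nat_lit 24576) (Steps.fwd (nat_lit 24576) (Steps.bwd (nat_lit 4) Steps.nil)))))))) (nat_lit 24) (nat_lit 2),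
  Rule.mk (nat_lit 7) (nat_lit 53) (Steps.bwd (nat_lit 22) (Steps.bwd (nat_lit 8) (Steps.bwd (nat_lit 21) Steps.nil))) (nat_lit 160) (nat_lit 0),
  Rule.mk (nat_lit 8) (nat_lit 53) (Steps.bwd (nat_lit 22) (Steps.fwd (nat_lit 32768) (Steps.fwd (nat_lit 90112) Steps.nil))) (nat_lit 161) (nat_lit 1),
  Rule.mk (nat_lit 11) (nat_lit 53) (Steps.fwd (nat_lit 28672) (Steps.bwd (nat_lit 12) (Steps.bwd (nat_lit 7) Steps.nil))) (nat_lit 71) (nat_lit 0),
  Rule.mk (nat_lit 6) (nat_lit 739) (Steps.bwd (nat_lit 4) (Steps.bwd (nat_lit 3) (Steps.bwd (nat_lit 2) (Steps.bwd (nat_lit 3) (Steps.bwd (nat_lit 4) (Steps.bwd (nat_lit 5) (Steps.bwd (nat_lit 4) (Steps.bwd (nat_lit 2) (Steps.bwd (nat_lit 3) (Steps.bwd (nat_lit 4) (Steps.bwd (nat_lit 3) (Steps.bwd (nat_lit 2) (Steps.bwd (nat_lit 3) (Steps.bwd (nat_lit 6) (Steps.bwd (nat_lit 4) (Steps.bwd (nat_lit 3) (Steps.bwd (nat_lit 2) (Steps.bwd (nat_lit 3) (Steps.bwd (nat_lit 4) (Steps.bwd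 (nat_lit 5) (Steps.bwd (nat_lit 4) (Steps.bwd (nat_lit 5) (Steps.bwd (nat_lit 4) (Steps.bwd (nat_lit 3) (Steps.bwd (nat_lit 2) (Steps.bwd (nat_lit 3) (Steps.bwd (nat_lit 4) (Steps.bwd (nat_lit 5) (Steps.bwd (nat_lit 4) (Steps.bwd (nat_lit 3) (Steps.bwd (nat_lit 2) (Steps.bwd (nat_lit 3) (Steps.bwd (nat_lit 4) (Steps.bwd (nat_lit 6) (Steps.bwd (nat_lit 6) (Steps.bwd (nat_lit 6) (Steps.bwd (nat_lit 4) (Steps.bwd (nat_lit 3) (Steps.bwd (nat_lit 2) (Steps.bwd (nat_lit 3) (Steps.bwd (nat_lit 4) (Steps.bwd (nat_lit 6) (Steps.bwd (nat_lit 4) (Steps.bwd (nat_lit 3) (Steps.bwd (nat_lit 2) (Steps.fwd (nat_lit 12288) (Steps.fwd (nat_lit 16384) (Steps.fwd (nat_lit 24576) (Steps.bwd (nat_lit 5) (Steps.fwd (nat_lit 8192) (Steps.fwd (nat_lit 12288) (Steps.fwd (nat_lit 16384) Steps.nil)))))))))))))))))))))))))))))))))))))))))))))))))))) (nat_lit 44) (nat_lit 4),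
  Rule.mk (nat_lit 21) (nat_lit 53) (Steps.fwd (nat_lit 16384) (Steps.bwd (nat_lit 22) (Steps.fwd (nat_lit 16384) Steps.nil))) (nat_lit 156) (nat_lit 3),
  Rule.mk (nat_lit 22) (nat_lit 53) (Steps.bwd (nat_lit 3) (Steps.bwd (nat_lit 21) (Steps.bwd (nat_lit 3) Steps.nil))) (nat_lit 154) (nat_lit 1),
  Rule.mk (nat_lit 0) (nat_lit 67) (Steps.bwd (nat_lit 22) (Steps.fwd (nat_lit 8192) (Steps.fwd (nat_lit 90112) (Steps.bwd (nat_lit 2) Steps.nil)))) (nat_lit 152) (nat_lit 0),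
  Rule.mk (nat_lit 12) (nat_lit 53) (Steps.bwd (nat_lit 23) (Steps.fwd (nat_lit 49152) (Steps.bwd (nat_lit 24) Steps.nil))) (nat_lit 188) (nat_lit 2),
  Rule.mk (nat_lit 22) (nat_lit 53) (Steps.bwd (nat_lit 2) (Steps.bwd (nat_lit 21) (Steps.bwd (nat_lit 2) Steps.nil))) (nat_lit 152) (nat_lit 1),
  Rule.mk (nat_lit 23) (nat_lit 53) (Steps.fwd (nat_lit 86016) (Steps.fwd (nat_lit 94208) (Steps.bwd (nat_lit 21) Steps.nil))) (nat_lit 199) (nat_lit 0),
  Rule.mk (nat_lit 12) (nat_lit 53) (Steps.bwd (nat_lit 23) (Steps.fwd (nat_lit 49152) (Steps.fwd (nat_lit 94208) Steps.nil))) (nat_lit 188) (nat_lit 2),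
  Rule.mk (nat_lit 22) (nat_lit 53) (Steps.bwd (nat_lit 23) (Steps.fwd (nat_lit 90112) (Steps.fwd (nat_lit 94208) Steps.nil))) (nat_lit 198) (nat_lit 2),
  Rule.mk (nat_lit 0) (nat_lit 67) (Steps.fwd (nat_lit 16384) (Steps.bwd (nat_lit 21) (Steps.bwd (nat_lit 4) (Steps.fwd (nat_lit 86016) Steps.nil)))) (nat_lit 156) (nat_lit 1),
  Rule.mk (nat_lit 6) (nat_lit 53) (Steps.bwd (nat_lit 21) (Steps.bwd (nat_lit 5) (Steps.bwd (nat_lit 22) Steps.nil))) (nat_lit 158) (nat_lit 2),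
  Rule.mk (nat_lit 0) (nat_lit 67) (Steps.fwd (nat_lit 86016) (Steps.fwd (nat_lit 20480) (Steps.fwd (nat_lit 90112) (Steps.bwd (nat_lit 5) Steps.nil)))) (nat_lit 158) (nat_lit 0),
  Rule.mk (nat_lit 0) (nat_lit 53) (Steps.fwd (nat_lit 16384) (Steps.bwd (nat_lit 0) (Steps.bwd (nat_lit 4) Steps.nil))) (nat_lit 230) (nat_lit 0),
  Rule.mk (nat_lit 8) (nat_lit 53) (Steps.bwd (nat_lit 22) (Steps.bwd (nat_lit 7) (Steps.bwd (nat_lit 21) Steps.nil))) (nat_lit 161) (nat_lit 1),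
  Rule.mk (nat_lit 5) (nat_lit 123) (Steps.bwd (nat_lit 4) (Steps.fwd (nat_lit 24576) (Steps.fwd (nat_lit 16384) (Steps.fwd (nat_lit 20480) (Steps.bwd (nat_lit 6) (Steps.bwd (nat_lit 6) (Steps.fwd (nat_lit 16384) (Steps.fwd (nat_lit 24576) Steps.nil)))))))) (nat_lit 25) (nat_lit 6),
  Rule.mk (nat_lit 24) (nat_lit 53) (Steps.bwd (nat_lit 5) (Steps.fwd (nat_lit 98304) (Steps.fwd (nat_lit 20480) Steps.nil))) (nat_lit 183) (nat_lit 2),
  Rule.mk (nat_lit 23) (nat_lit 53) (Steps.bwd (nat_lit 2) (Steps.bwd (nat_lit 24) (Steps.bwd (nat_lit 2) Steps.nil))) (nat_lit 176) (nat_lit 3),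
  Rule.mk (nat_lit 12) (nat_lit 53) (Steps.fwd (nat_lit 8192) (Steps.bwd (nat_lit 11) (Steps.bwd (nat_lit 2) Steps.nil))) (nat_lit 62) (nat_lit 1),
  Rule.mk (nat_lit 12) (nat_lit 53) (Steps.fwd (nat_lit 20480) (Steps.bwd (nat_lit 11) (Steps.fwd (nat_lit 24576) Steps.nil))) (nat_lit 68) (nat_lit 1),
  Rule.mk (nat_lit 12) (nat_lit 53) (Steps.fwd (nat_lit 16384) (Steps.bwd (nat_lit 11) (Steps.bwd (nat_lit 4) Steps.nil))) (nat_lit 66) (nat_lit 1),
  Rule.mk (nat_lit 5) (nat_lit 53) (Steps.bwd (nat_lit 11) (Steps.bwd (nat_lit 6) (Steps.bwd (nat_lit 12) Steps.nil))) (nat_lit 69) (nat_lit 3),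
  Rule.mk (nat_lit 24) (nat_lit 53) (Steps.bwd (nat_lit 11) (Steps.bwd (nat_lit 23) (Steps.fwd (nat_lit 45056) Steps.nil))) (nat_lit 189) (nat_lit 2),
  Rule.mk (nat_lit 23) (nat_lit 53) (Steps.bwd (nat_lit 4) (Steps.bwd (nat_lit 24) (Steps.bwd (nat_lit 4) Steps.nil))) (nat_lit 180) (nat_lit 3),
  Rule.mk (nat_lit 8) (nat_lit 53) (Steps.fwd (nat_lit 90112) (Steps.bwd (nat_lit 7) (Steps.bwd (nat_lit 22) Steps.nil))) (nat_lit 160) (nat_lit 2),
  Rule.mk (nat_lit 0) (nat_lit 67) (Steps.fwd (nat_lit 12288) (Steps.fwd (nat_lit 98304) (Steps.bwd (nat_lit 3) (Steps.bwd (nat_lit 24) Steps.nil)))) (nat_lit 178) (nat_lit 1),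
  Rule.mk (nat_lit 12) (nat_lit 53) (Steps.bwd (nat_lit 3) (Steps.fwd (nat_lit 49152) (Steps.fwd (nat_lit 12288) Steps.nil))) (nat_lit 64) (nat_lit 1),
  Rule.mk (nat_lit 24) (nat_lit 53) (Steps.bwd (nat_lit 3) (Steps.fwd (nat_lit 98304) (Steps.fwd (nat_lit 12288) Steps.nil))) (nat_lit 178) (nat_lit 1),
  Rule.mk (nat_lit 7) (nat_lit 53) (Steps.bwd (nat_lit 23) (Steps.bwd (nat_lit 8) (Steps.fwd (nat_lit 94208) Steps.nil))) (nat_lit 185) (nat_lit 3),
  Rule.mk (nat_lit 7) (nat_lit 53) (Steps.bwd (nat_lit 22) (Steps.fwd (nat_lit 28672) (Steps.bwd (nat_lit 21) Steps.nil))) (nat_lit 160) (nat_lit 0),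
  Rule.mk (nat_lit 21) (nat_lit 53) (Steps.bwd (nat_lit 7) (Steps.bwd (nat_lit 22) (Steps.bwd (nat_lit 8) Steps.nil))) (nat_lit 160) (nat_lit 3),
  Rule.mk (nat_lit 22) (nat_lit 53) (Steps.fwd (nat_lit 16384) (Steps.bwd (nat_lit 21) (Steps.fwd (nat_lit 16384) Steps.nil))) (nat_lit 156) (nat_lit 1),
  Rule.mk (nat_lit 23) (nat_lit 53) (Steps.bwd (nat_lit 21) (Steps.bwd (nat_lit 24) (Steps.bwd (nat_lit 22) Steps.nil))) (nat_lit 198) (nat_lit 3),
  Rule.mk (nat_lit 6) (nat_lit 123) (Steps.bwd (nat_lit 6) (Steps.fwd (nat_lit 16384) (Steps.fwd (nat_lit 24576) (Steps.fwd (nat_lit 24576) (Steps.fwd (nat_lit 24576) (Steps.fwd (nat_lit 16384) (Steps.bwd (nat_lit 6) (Steps.fwd (nat_lit 16384) Steps.nil)))))))) (nat_lit 24) (nat_lit 6),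
  Rule.mk (nat_lit 0) (nat_lit 67) (Steps.bwd (nat_lit 3) (Steps.bwd (nat_lit 5) (Steps.bwd (nat_lit 3) (Steps.fwd (nat_lit 24576) Steps.nil)))) (nat_lit 22) (nat_lit 1)]
noncomputable def R_19 : List (Rule) := [Rule.mk (nat_lit 0) (nat_lit 137) (Steps.bwd (nat_lit 4) (Steps.bwd (nat_lit 6) (Steps.bwd (nat_lit 6) (Steps.bwd (nat_lit 6) (Steps.bwd (nat_lit 4) (Steps.fwd (nat_lit 24576) (Steps.bwd (nat_lit 5) (Steps.bwd (nat_lit 4) (Steps.bwd (nat_lit 5) Steps.nil))))))))) (nat_lit 25) (nat_lit 10),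
  Rule.mk (nat_lit 19) (nat_lit 53) (Steps.bwd (nat_lit 4) (Steps.fwd (nat_lit 77824) (Steps.fwd (nat_lit 16384) Steps.nil))) (nat_lit 134) (nat_lit 3),
  Rule.mk (nat_lit 25) (nat_lit 53) (Steps.bwd (nat_lit 4) (Steps.fwd (nat_lit 102400) (Steps.fwd (nat_lit 16384) Steps.nil))) (nat_lit 208) (nat_lit 3),
  Rule.mk (nat_lit 18) (nat_lit 151) (Steps.bwd (nat_lit 3) (Steps.bwd (nat_lit 4) (Steps.bwd (nat_lit 10) (Steps.bwd (nat_lit 3) (Steps.bwd (nat_lit 9) (Steps.fwd (nat_lit 12288) (Steps.fwd (nat_lit 16384) (Steps.bwd (nat_lit 10) (Steps.bwd (nat_lit 3) (Steps.bwd (nat_lit 9) Steps.nil)))))))))) (nat_lit 52) (nat_lit 0),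
  Rule.mk (nat_lit 10) (nat_lit 53) (Steps.bwd (nat_lit 7) (Steps.fwd (nat_lit 40960) (Steps.fwd (nat_lit 32768) Steps.nil))) (nat_lit 38) (nat_lit 1),
  Rule.mk (nat_lit 3) (nat_lit 585) (Steps.bwd (nat_lit 6) (Steps.bwd (nat_lit 6) (Steps.bwd (nat_lit 9) (Steps.bwd (nat_lit 5) (Steps.bwd (nat_lit 5) (Steps.bwd (nat_lit 3) (Steps.bwd (nat_lit 6) (Steps.bwd (nat_lit 6) (Steps.bwd (nat_lit 9) (Steps.bwd (nat_lit 5) (Steps.bwd (nat_lit 5) (Steps.bwd (nat_lit 3) (Steps.bwd (nat_lit 6) (Steps.bwd (nat_lit 6) (Steps.bwd (nat_lit 9) (Steps.bwd (nat_lit 4) (Steps.bwd (nat_lit 3) (Steps.bwd (nat_lit 2) (Steps.bwd (nat_lit 3) (Steps.bwd (nat_lit 4) (Steps.bwd (nat_lit 5) (Steps.bwd (nat_lit 5) (Steps.bwd (nat_lit 5) (Steps.bwd (nat_lit 4) (Steps.bwd (nat_lit 3) (Steps.bwd (nat_lit 2) (Steps.bwd (nat_lit 3) (Steps.bwd (nat_lit 4) (Steps.bwd (nat_lit 6) (Steps.bwd (nat_lit 3) (Steps.bwd (nat_lit 2) (Steps.bwd (nat_lit 3) (Steps.bwd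 (nat_lit 2) (Steps.bwd (nat_lit 1) (Steps.bwd (nat_lit 24) (Steps.fwd (nat_lit 12288) (Steps.fwd (nat_lit 20480) (Steps.fwd (nat_lit 20480) (Steps.fwd (nat_lit 40960) (Steps.fwd (nat_lit 24576) (Steps.fwd (nat_lit 24576) Steps.nil))))))))))))))))))))))))))))))))))))))))) (nat_lit 58) (nat_lit 7),
  Rule.mk (nat_lit 0) (nat_lit 67) (Steps.bwd (nat_lit 3) (Steps.bwd (nat_lit 24) (Steps.fwd (nat_lit 12288) (Steps.bwd (nat_lit 23) Steps.nil)))) (nat_lit 178) (nat_lit 3),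
  Rule.mk (nat_lit 23) (nat_lit 53) (Steps.bwd (nat_lit 2) (Steps.fwd (nat_lit 94208) (Steps.fwd (nat_lit 8192) Steps.nil))) (nat_lit 176) (nat_lit 3),
  Rule.mk (nat_lit 0) (nat_lit 67) (Steps.bwd (nat_lit 3) (Steps.fwd (nat_lit 94208) (Steps.fwd (nat_lit 12288) (Steps.bwd (nat_lit 23) Steps.nil)))) (nat_lit 178) (nat_lit 3),
  Rule.mk (nat_lit 6) (nat_lit 739) (Steps.bwd (nat_lit 4) (Steps.bwd (nat_lit 3) (Steps.bwd (nat_lit 2) (Steps.bwd (nat_lit 3) (Steps.bwd (nat_lit 4) (Steps.bwd (nat_lit 5) (Steps.bwd (nat_lit 4) (Steps.bwd (nat_lit 2) (Steps.bwd (nat_lit 3) (Steps.bwd (nat_lit 4) (Steps.bwd (nat_lit 3) (Steps.bwd (nat_lit 2) (Steps.bwd (nat_lit 3) (Steps.bwd (nat_lit 6) (Steps.bwd (nat_lit 4) (Steps.bwd (nat_lit 3) (Steps.bwd (nat_lit 2) (Steps.bwd (nat_lit 3) (Steps.bwd (nat_lit 4) (Steps.bwd (nat_lit 5) (Steps.bwd (nat_lit 4) (Steps.bwd (nat_lit 5) (Steps.bwd (nat_lit 4) (Steps.bwd (nat_lit 3) (Steps.bwd (nat_lit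 2) (Steps.bwd (nat_lit 3) (Steps.bwd (nat_lit 4) (Steps.bwd (nat_lit 5) (Steps.bwd (nat_lit 4) (Steps.bwd (nat_lit 3) (Steps.bwd (nat_lit 2) (Steps.bwd (nat_lit 3) (Steps.bwd (nat_lit 4) (Steps.bwd (nat_lit 6) (Steps.bwd (nat_lit 6) (Steps.bwd (nat_lit 6) (Steps.bwd (nat_lit 4) (Steps.bwd (nat_lit 3) (Steps.bwd (nat_lit 2) (Steps.bwd (nat_lit 3) (Steps.fwd (nat_lit 16384) (Steps.fwd (nat_lit 20480) (Steps.bwd (nat_lit 4) (Steps.bwd (nat_lit 3) (Steps.bwd (nat_lit 2) (Steps.bwd (nat_lit 3) (Steps.fwd (nat_lit 16384) (Steps.bwd (nat_lit 5) (Steps.fwd (nat_lit 24576) (Steps.fwd (nat_lit 8192) (Steps.fwd (nat_lit 12288) (Steps.fwd (nat_lit 16384) Steps.nil)))))))))))))))))))))))))))))))))))))))))))))))))))) (nat_lit 44) (nat_lit 4),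
  Rule.mk (nat_lit 9) (nat_lit 585) (Steps.bwd (nat_lit 5) (Steps.bwd (nat_lit 5) (Steps.bwd (nat_lit 3) (Steps.bwd (nat_lit 6) (Steps.bwd (nat_lit 6) (Steps.bwd (nat_lit 9) (Steps.bwd (nat_lit 5) (Steps.bwd (nat_lit 5) (Steps.bwd (nat_lit 3) (Steps.bwd (nat_lit 6) (Steps.bwd (nat_lit 6) (Steps.bwd (nat_lit 9) (Steps.bwd (nat_lit 4) (Steps.bwd (nat_lit 3) (Steps.bwd (nat_lit 2) (Steps.bwd (nat_lit 3) (Steps.bwd (nat_lit 4) (Steps.bwd (nat_lit 5) (Steps.bwd (nat_lit 5) (Steps.bwd (nat_lit 5) (Steps.bwd (nat_lit 4) (Steps.bwd (nat_lit 3) (Steps.bwd (nat_lit 2) (Steps.bwd (nat_lit 3) (Steps.bwd (nat_lit 4) (Steps.bwd (nat_lit 6) (Steps.bwd (nat_lit 3) (Steps.bwd (nat_lit 2) (Steps.bwd (nat_lit 3) (Steps.bwd (nat_lit 2) (Steps.bwd (nat_lit 1) (Steps.bwd (nat_lit 24) (Steps.fwd (nat_lit 12288) (Steps.fwd (nat_lit 20480) (Steps.fwd (nat_lit 20480) (Steps.fwd (nat_lit 40960) (Steps.bwd (nat_lit 5) (Steps.fwd (nat_lit 24576)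 (Steps.fwd (nat_lit 12288) (Steps.fwd (nat_lit 20480) (Steps.fwd (nat_lit 20480) Steps.nil))))))))))))))))))))))))))))))))))))))))) (nat_lit 58) (nat_lit 10),
  Rule.mk (nat_lit 5) (nat_lit 53) (Steps.bwd (nat_lit 24) (Steps.bwd (nat_lit 6) (Steps.bwd (nat_lit 23) Steps.nil))) (nat_lit 182) (nat_lit 0),
  Rule.mk (nat_lit 8) (nat_lit 53) (Steps.fwd (nat_lit 94208) (Steps.bwd (nat_lit 7) (Steps.bwd (nat_lit 23) Steps.nil))) (nat_lit 185) (nat_lit 1),
  Rule.mk (nat_lit 4) (nat_lit 53) (Steps.fwd (nat_lit 28672) (Steps.fwd (nat_lit 16384) (Steps.bwd (nat_lit 7) Steps.nil))) (nat_lit 34) (nat_lit 0),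
  Rule.mk (nat_lit 9) (nat_lit 53) (Steps.fwd (nat_lit 32768) (Steps.fwd (nat_lit 36864) (Steps.bwd (nat_lit 7) Steps.nil))) (nat_lit 38) (nat_lit 3),
  Rule.mk (nat_lit 5) (nat_lit 67) (Steps.bwd (nat_lit 5) (Steps.fwd (nat_lit 28672) (Steps.fwd (nat_lit 20480) (Steps.bwd (nat_lit 7) Steps.nil)))) (nat_lit 37) (nat_lit 1),
  Rule.mk (nat_lit 0) (nat_lit 67) (Steps.bwd (nat_lit 3) (Steps.fwd (nat_lit 28672) (Steps.bwd (nat_lit 3) (Steps.fwd (nat_lit 32768) Steps.nil)))) (nat_lit 32) (nat_lit 3),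
  Rule.mk (nat_lit 6) (nat_lit 67) (Steps.bwd (nat_lit 6) (Steps.fwd (nat_lit 28672) (Steps.fwd (nat_lit 24576) (Steps.bwd (nat_lit 7) Steps.nil)))) (nat_lit 36) (nat_lit 4),
  Rule.mk (nat_lit 0) (nat_lit 81) (Steps.bwd (nat_lit 5) (Steps.bwd (nat_lit 5) (Steps.fwd (nat_lit 28672) (Steps.fwd (nat_lit 20480) (Steps.bwd (nat_lit 7) Steps.nil))))) (nat_lit 37) (nat_lit 0),
  Rule.mk (nat_lit 6) (nat_lit 739) (Steps.bwd (nat_lit 4) (Steps.bwd (nat_lit 3) (Steps.bwd (nat_lit 2) (Steps.bwd (nat_lit 3) (Steps.bwd (nat_lit 4) (Steps.bwd (nat_lit 5) (Steps.bwd (nat_lit 4) (Steps.bwd (nat_lit 2) (Steps.bwd (nat_lit 3) (Steps.bwd (nat_lit 4) (Steps.bwd (nat_lit 3) (Steps.bwd (nat_lit 2) (Steps.bwd (nat_lit 3) (Steps.bwd (nat_lit 6) (Steps.bwd (nat_lit 4) (Steps.bwd (nat_lit 3) (Steps.bwd (nat_lit 2) (Steps.bwd (nat_lit 3) (Steps.bwd (nat_lit 4) (Steps.bwd (nat_lit 5) (Steps.bwd (nat_lit 4) (Steps.bwd (nat_lit 5) (Steps.bwd (nat_lit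 4) (Steps.bwd (nat_lit 3) (Steps.bwd (nat_lit 2) (Steps.bwd (nat_lit 3) (Steps.bwd (nat_lit 4) (Steps.bwd (nat_lit 5) (Steps.bwd (nat_lit 4) (Steps.bwd (nat_lit 3) (Steps.bwd (nat_lit 2) (Steps.bwd (nat_lit 3) (Steps.bwd (nat_lit 4) (Steps.bwd (nat_lit 6) (Steps.bwd (nat_lit 6) (Steps.bwd (nat_lit 6) (Steps.bwd (nat_lit 4) (Steps.bwd (nat_lit 3) (Steps.bwd (nat_lit 2) (Steps.bwd (nat_lit 3) (Steps.bwd (nat_lit 4) (Steps.bwd (nat_lit 6) (Steps.bwd (nat_lit 4) (Steps.bwd (nat_lit 3) (Steps.bwd (nat_lit 2) (Steps.bwd (nat_lit 3) (Steps.fwd (nat_lit 16384) (Steps.bwd (nat_lit 5) (Steps.bwd (nat_lit 5) (Steps.fwd (nat_lit 8192) (Steps.fwd (nat_lit 12288) (Steps.fwd (nat_lit 16384) Steps.nil)))))))))))))))))))))))))))))))))))))))))))))))))))) (nat_lit 44) (nat_lit 4),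
  Rule.mk (nat_lit 0) (nat_lit 67) (Steps.bwd (nat_lit 3) (Steps.fwd (nat_lit 90112) (Steps.fwd (nat_lit 12288) (Steps.fwd (nat_lit 86016) Steps.nil)))) (nat_lit 154) (nat_lit 1),
  Rule.mk (nat_lit 5) (nat_lit 123) (Steps.bwd (nat_lit 4) (Steps.bwd (nat_lit 6) (Steps.bwd (nat_lit 6) (Steps.bwd (nat_lit 6) (Steps.bwd (nat_lit 4) (Steps.fwd (nat_lit 24576) (Steps.fwd (nat_lit 24576) (Steps.fwd (nat_lit 16384) Steps.nil)))))))) (nat_lit 25) (nat_lit 10),
  Rule.mk (nat_lit 5) (nat_lit 67) (Steps.fwd (nat_lit 28672) (Steps.bwd (nat_lit 6) (Steps.fwd (nat_lit 32768) (Steps.bwd (nat_lit 5) Steps.nil)))) (nat_lit 37) (nat_lit 2),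
  Rule.mk (nat_lit 6) (nat_lit 67) (Steps.fwd (nat_lit 32768) (Steps.fwd (nat_lit 24576) (Steps.fwd (nat_lit 24576) (Steps.bwd (nat_lit 8) Steps.nil)))) (nat_lit 37) (nat_lit 4),
  Rule.mk (nat_lit 6) (nat_lit 123) (Steps.bwd (nat_lit 4) (Steps.bwd (nat_lit 6) (Steps.bwd (nat_lit 6) (Steps.fwd (nat_lit 16384) (Steps.fwd (nat_lit 24576) (Steps.fwd (nat_lit 24576) (Steps.fwd (nat_lit 24576) (Steps.fwd (nat_lit 16384) Steps.nil)))))))) (nat_lit 24) (nat_lit 2),
  Rule.mk (nat_lit 6) (nat_lit 123) (Steps.bwd (nat_lit 6) (Steps.bwd (nat_lit 4) (Steps.fwd (nat_lit 24576) (Steps.fwd (nat_lit 24576) (Steps.fwd (nat_lit 24576) (Steps.fwd (nat_lit 16384) (Steps.bwd (nat_lit 6) (Steps.fwd (nat_lit 16384) Steps.nil)))))))) (nat_lit 24) (nat_lit 6),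
  Rule.mk (nat_lit 8) (nat_lit 67) (Steps.bwd (nat_lit 6) (Steps.fwd (nat_lit 32768) (Steps.fwd (nat_lit 24576) (Steps.fwd (nat_lit 24576) Steps.nil)))) (nat_lit 37) (nat_lit 3),
  Rule.mk (nat_lit 6) (nat_lit 95) (Steps.bwd (nat_lit 6) (Steps.bwd (nat_lit 6) (Steps.bwd (nat_lit 6) (Steps.bwd (nat_lit 6) (Steps.bwd (nat_lit 6) (Steps.fwd (nat_lit 20480) Steps.nil)))))) (nat_lit 17) (nat_lit 0),
  Rule.mk (nat_lit 0) (nat_lit 137) (Steps.bwd (nat_lit 6) (Steps.bwd (nat_lit 6) (Steps.bwd (nat_lit 4) (Steps.bwd (nat_lit 5) (Steps.bwd (nat_lit 5) (Steps.bwd (nat_lit 5) (Steps.fwd (nat_lit 16384) (Steps.bwd (nat_lit 6) (Steps.fwd (nat_lit 16384) Steps.nil))))))))) (nat_lit 24) (nat_lit 3),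
  Rule.mk (nat_lit 6) (nat_lit 123) (Steps.bwd (nat_lit 4) (Steps.bwd (nat_lit 6) (Steps.bwd (nat_lit 6) (Steps.bwd (nat_lit 4) (Steps.fwd (nat_lit 24576) (Steps.fwd (nat_lit 24576) (Steps.fwd (nat_lit 24576) (Steps.fwd (nat_lit 16384) Steps.nil)))))))) (nat_lit 24) (nat_lit 2),
  Rule.mk (nat_lit 0) (nat_lit 67) (Steps.bwd (nat_lit 6) (Steps.fwd (nat_lit 12288) (Steps.bwd (nat_lit 6) (Steps.fwd (nat_lit 12288) Steps.nil)))) (nat_lit 23) (nat_lit 1),
  Rule.mk (nat_lit 0) (nat_lit 67) (Steps.bwd (nat_lit 3) (Steps.fwd (nat_lit 20480) (Steps.bwd (nat_lit 3) (Steps.bwd (nat_lit 6) Steps.nil)))) (nat_lit 23) (nat_lit 0),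
  Rule.mk (nat_lit 8) (nat_lit 67) (Steps.fwd (nat_lit 20480) (Steps.bwd (nat_lit 7) (Steps.bwd (nat_lit 5) (Steps.fwd (nat_lit 24576) Steps.nil)))) (nat_lit 37) (nat_lit 3),
  Rule.mk (nat_lit 7) (nat_lit 53) (Steps.fwd (nat_lit 8192) (Steps.bwd (nat_lit 8) (Steps.fwd (nat_lit 8192) Steps.nil))) (nat_lit 30) (nat_lit 3),
  Rule.mk (nat_lit 7) (nat_lit 53) (Steps.bwd (nat_lit 3) (Steps.bwd (nat_lit 8) (Steps.bwd (nat_lit 3) Steps.nil))) (nat_lit 32) (nat_lit 3),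
  Rule.mk (nat_lit 0) (nat_lit 81) (Steps.fwd (nat_lit 28672) (Steps.fwd (nat_lit 20480) (Steps.bwd (nat_lit 7) (Steps.fwd (nat_lit 24576) (Steps.fwd (nat_lit 24576) Steps.nil))))) (nat_lit 37) (nat_lit 2),
  Rule.mk (nat_lit 0) (nat_lit 53) (Steps.bwd (nat_lit 11) (Steps.fwd (nat_lit 0) (Steps.bwd (nat_lit 12) Steps.nil))) (nat_lit 230) (nat_lit 0),
  Rule.mk (nat_lit 6) (nat_lit 67) (Steps.fwd (nat_lit 20480) (Steps.bwd (nat_lit 8) (Steps.fwd (nat_lit 24576) (Steps.fwd (nat_lit 32768) Steps.nil)))) (nat_lit 36) (nat_lit 4),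
  Rule.mk (nat_lit 8) (nat_lit 67) (Steps.bwd (nat_lit 6) (Steps.fwd (nat_lit 32768) (Steps.fwd (nat_lit 24576) (Steps.bwd (nat_lit 5) Steps.nil)))) (nat_lit 37) (nat_lit 3),
  Rule.mk (nat_lit 6) (nat_lit 95) (Steps.bwd (nat_lit 6) (Steps.bwd (nat_lit 6) (Steps.bwd (nat_lit 6) (Steps.bwd (nat_lit 6) (Steps.fwd (nat_lit 20480) (Steps.fwd (nat_lit 20480) Steps.nil)))))) (nat_lit 17) (nat_lit 0),
  Rule.mk (nat_lit 7) (nat_lit 67) (Steps.bwd (nat_lit 5) (Steps.bwd (nat_lit 5) (Steps.fwd (nat_lit 28672) (Steps.bwd (nat_lit 6) Steps.nil)))) (nat_lit 37) (nat_lit 0),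
  Rule.mk (nat_lit 6) (nat_lit 123) (Steps.fwd (nat_lit 20480) (Steps.fwd (nat_lit 16384) (Steps.fwd (nat_lit 24576) (Steps.bwd (nat_lit 5) (Steps.fwd (nat_lit 24576) (Steps.fwd (nat_lit 16384) (Steps.bwd (nat_lit 6) (Steps.fwd (nat_lit 16384) Steps.nil)))))))) (nat_lit 24) (nat_lit 6),
  Rule.mk (nat_lit 8) (nat_lit 67) (Steps.bwd (nat_lit 6) (Steps.bwd (nat_lit 7) (Steps.fwd (nat_lit 24576) (Steps.bwd (nat_lit 5) Steps.nil)))) (nat_lit 37) (nat_lit 3),
  Rule.mk (nat_lit 8) (nat_lit 53) (Steps.fwd (nat_lit 16384) (Steps.bwd (nat_lit 7) (Steps.fwd (nat_lit 16384) Steps.nil))) (nat_lit 34) (nat_lit 1),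
  Rule.mk (nat_lit 0) (nat_lit 81) (Steps.bwd (nat_lit 7) (Steps.fwd (nat_lit 24576) (Steps.fwd (nat_lit 24576) (Steps.fwd (nat_lit 28672) (Steps.fwd (nat_lit 20480) Steps.nil))))) (nat_lit 37) (nat_lit 4),
  Rule.mk (nat_lit 6) (nat_lit 67) (Steps.fwd (nat_lit 32768) (Steps.bwd (nat_lit 5) (Steps.fwd (nat_lit 24576) (Steps.bwd (nat_lit 8) Steps.nil)))) (nat_lit 37) (nat_lit 4),
  Rule.mk (nat_lit 5) (nat_lit 53) (Steps.fwd (nat_lit 45056) (Steps.bwd (nat_lit 6) (Steps.bwd (nat_lit 11) Steps.nil))) (nat_lit 68) (nat_lit 0),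
  Rule.mk (nat_lit 0) (nat_lit 67) (Steps.bwd (nat_lit 2) (Steps.fwd (nat_lit 20480) (Steps.bwd (nat_lit 2) (Steps.fwd (nat_lit 24576) Steps.nil)))) (nat_lit 20) (nat_lit 3),
  Rule.mk (nat_lit 0) (nat_lit 137) (Steps.bwd (nat_lit 6) (Steps.bwd (nat_lit 4) (Steps.fwd (nat_lit 24576) (Steps.fwd (nat_lit 24576) (Steps.bwd (nat_lit 4) (Steps.fwd (nat_lit 24576) (Steps.fwd (nat_lit 16384) (Steps.fwd (nat_lit 20480) (Steps.fwd (nat_lit 20480) Steps.nil))))))))) (nat_lit 25) (nat_lit 2),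
  Rule.mk (nat_lit 0) (nat_lit 53) (Steps.bwd (nat_lit 11) (Steps.bwd (nat_lit 0) (Steps.bwd (nat_lit 12) Steps.nil))) (nat_lit 230) (nat_lit 0),
  Rule.mk (nat_lit 6) (nat_lit 53) (Steps.bwd (nat_lit 22) (Steps.bwd (nat_lit 5) (Steps.bwd (nat_lit 21) Steps.nil))) (nat_lit 159) (nat_lit 1),
  Rule.mk (nat_lit 24) (nat_lit 53) (Steps.bwd (nat_lit 22) (Steps.fwd (nat_lit 98304) (Steps.fwd (nat_lit 90112) Steps.nil))) (nat_lit 198) (nat_lit 1),
  Rule.mk (nat_lit 5) (nat_lit 53) (Steps.bwd (nat_lit 23) (Steps.bwd (nat_lit 6) (Steps.fwd (nat_lit 94208) Steps.nil))) (nat_lit 183) (nat_lit 3),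
  Rule.mk (nat_lit 23) (nat_lit 53) (Steps.bwd (nat_lit 7) (Steps.fwd (nat_lit 94208) (Steps.bwd (nat_lit 8) Steps.nil))) (nat_lit 184) (nat_lit 3),
  Rule.mk (nat_lit 6) (nat_lit 123) (Steps.fwd (nat_lit 16384) (Steps.bwd (nat_lit 5) (Steps.fwd (nat_lit 24576) (Steps.fwd (nat_lit 24576) (Steps.bwd (nat_lit 4) (Steps.fwd (nat_lit 20480) (Steps.bwd (nat_lit 4) (Steps.bwd (nat_lit 6) Steps.nil)))))))) (nat_lit 24) (nat_lit 7),
  Rule.mk (nat_lit 8) (nat_lit 67) (Steps.bwd (nat_lit 6) (Steps.bwd (nat_lit 7) (Steps.bwd (nat_lit 5) (Steps.fwd (nat_lit 24576) Steps.nil)))) (nat_lit 37) (nat_lit 3),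
  Rule.mk (nat_lit 24) (nat_lit 53) (Steps.bwd (nat_lit 3) (Steps.fwd (nat_lit 98304) (Steps.bwd (nat_lit 3) Steps.nil))) (nat_lit 178) (nat_lit 1),
  Rule.mk (nat_lit 0) (nat_lit 67) (Steps.fwd (nat_lit 32768) (Steps.fwd (nat_lit 12288) (Steps.bwd (nat_lit 8) (Steps.fwd (nat_lit 12288) Steps.nil)))) (nat_lit 32) (nat_lit 2),
  Rule.mk (nat_lit 7) (nat_lit 53) (Steps.fwd (nat_lit 45056) (Steps.bwd (nat_lit 8) (Steps.bwd (nat_lit 11) Steps.nil))) (nat_lit 70) (nat_lit 0),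
  Rule.mk (nat_lit 6) (nat_lit 67) (Steps.bwd (nat_lit 7) (Steps.fwd (nat_lit 24576) (Steps.fwd (nat_lit 24576) (Steps.fwd (nat_lit 28672) Steps.nil)))) (nat_lit 37) (nat_lit 4),
  Rule.mk (nat_lit 0) (nat_lit 137) (Steps.bwd (nat_lit 5) (Steps.bwd (nat_lit 4) (Steps.fwd (nat_lit 24576) (Steps.fwd (nat_lit 16384) (Steps.bwd (nat_lit 6) (Steps.bwd (nat_lit 6) (Steps.fwd (nat_lit 20480) (Steps.fwd (nat_lit 16384) (Steps.fwd (nat_lit 24576) Steps.nil))))))))) (nat_lit 25) (nat_lit 5),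
  Rule.mk (nat_lit 0) (nat_lit 67) (Steps.bwd (nat_lit 3) (Steps.bwd (nat_lit 6) (Steps.fwd (nat_lit 12288) (Steps.fwd (nat_lit 20480) Steps.nil)))) (nat_lit 23) (nat_lit 0),
  Rule.mk (nat_lit 0) (nat_lit 53) (Steps.bwd (nat_lit 4) (Steps.bwd (nat_lit 0) (Steps.fwd (nat_lit 16384) Steps.nil))) (nat_lit 230) (nat_lit 0),
  Rule.mk (nat_lit 0) (nat_lit 53) (Steps.fwd (nat_lit 49152) (Steps.bwd (nat_lit 0) (Steps.bwd (nat_lit 12) Steps.nil))) (nat_lit 230) (nat_lit 0)]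
noncomputable def R_20 : List (Rule) := [Rule.mk (nat_lit 0) (nat_lit 53) (Steps.bwd (nat_lit 2) (Steps.bwd (nat_lit 0) (Steps.bwd (nat_lit 2) Steps.nil))) (nat_lit 230) (nat_lit 0),
  Rule.mk (nat_lit 0) (nat_lit 53) (Steps.bwd (nat_lit 3) (Steps.bwd (nat_lit 0) (Steps.fwd (nat_lit 12288) Steps.nil))) (nat_lit 230) (nat_lit 0),
  Rule.mk (nat_lit 6) (nat_lit 53) (Steps.bwd (nat_lit 0) (Steps.fwd (nat_lit 24576) (Steps.fwd (nat_lit 0) Steps.nil))) (nat_lit 230) (nat_lit 0),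
  Rule.mk (nat_lit 0) (nat_lit 53) (Steps.bwd (nat_lit 4) (Steps.bwd (nat_lit 0) (Steps.bwd (nat_lit 4) Steps.nil))) (nat_lit 230) (nat_lit 0),
  Rule.mk (nat_lit 6) (nat_lit 123) (Steps.fwd (nat_lit 20480) (Steps.fwd (nat_lit 16384) (Steps.fwd (nat_lit 24576) (Steps.fwd (nat_lit 24576) (Steps.fwd (nat_lit 24576) (Steps.fwd (nat_lit 16384) (Steps.bwd (nat_lit 6) (Steps.bwd (nat_lit 4) Steps.nil)))))))) (nat_lit 24) (nat_lit 6),
  Rule.mk (nat_lit 5) (nat_lit 67) (Steps.bwd (nat_lit 7) (Steps.bwd (nat_lit 6) (Steps.fwd (nat_lit 20480) (Steps.fwd (nat_lit 28672) Steps.nil)))) (nat_lit 36) (nat_lit 2),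
  Rule.mk (nat_lit 3) (nat_lit 53) (Steps.bwd (nat_lit 6) (Steps.fwd (nat_lit 12288) (Steps.fwd (nat_lit 20480) Steps.nil))) (nat_lit 23) (nat_lit 1),
  Rule.mk (nat_lit 6) (nat_lit 67) (Steps.bwd (nat_lit 6) (Steps.bwd (nat_lit 8) (Steps.fwd (nat_lit 24576) (Steps.fwd (nat_lit 32768) Steps.nil)))) (nat_lit 36) (nat_lit 4),
  Rule.mk (nat_lit 0) (nat_lit 67) (Steps.bwd (nat_lit 3) (Steps.fwd (nat_lit 32768) (Steps.bwd (nat_lit 3) (Steps.bwd (nat_lit 8) Steps.nil)))) (nat_lit 32) (nat_lit 1),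
  Rule.mk (nat_lit 12) (nat_lit 53) (Steps.bwd (nat_lit 8) (Steps.bwd (nat_lit 11) (Steps.fwd (nat_lit 32768) Steps.nil))) (nat_lit 70) (nat_lit 1),
  Rule.mk (nat_lit 5) (nat_lit 585) (Steps.bwd (nat_lit 3) (Steps.bwd (nat_lit 6) (Steps.bwd (nat_lit 6) (Steps.bwd (nat_lit 9) (Steps.bwd (nat_lit 5) (Steps.bwd (nat_lit 5) (Steps.bwd (nat_lit 3) (Steps.bwd (nat_lit 6) (Steps.bwd (nat_lit 6) (Steps.bwd (nat_lit 9) (Steps.bwd (nat_lit 5) (Steps.bwd (nat_lit 5) (Steps.bwd (nat_lit 3) (Steps.bwd (nat_lit 6) (Steps.bwd (nat_lit 6) (Steps.bwd (nat_lit 9) (Steps.bwd (nat_lit 4) (Steps.bwd (nat_lit 3) (Steps.bwd (nat_lit 2) (Steps.bwd (nat_lit 3) (Steps.bwd (nat_lit 4) (Steps.bwd (nat_lit 5) (Steps.bwd (nat_lit 5) (Steps.bwd (nat_lit 5) (Steps.bwd (nat_lit 4) (Steps.bwd (nat_lit 3) (Steps.bwd (nat_lit 2) (Steps.bwd (nat_lit 3) (Steps.bwd (nat_lit 4) (Steps.bwd (nat_lit 6) (Steps.bwd (nat_lit 3) (Steps.bwd (nat_lit 2) (Steps.bwd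 (nat_lit 3) (Steps.bwd (nat_lit 2) (Steps.bwd (nat_lit 1) (Steps.bwd (nat_lit 24) (Steps.bwd (nat_lit 3) (Steps.bwd (nat_lit 6) (Steps.fwd (nat_lit 20480) (Steps.fwd (nat_lit 40960) (Steps.bwd (nat_lit 5) Steps.nil))))))))))))))))))))))))))))))))))))))))) (nat_lit 58) (nat_lit 6),
  Rule.mk (nat_lit 0) (nat_lit 67) (Steps.fwd (nat_lit 36864) (Steps.fwd (nat_lit 90112) (Steps.bwd (nat_lit 9) (Steps.fwd (nat_lit 86016) Steps.nil)))) (nat_lit 162) (nat_lit 1),
  Rule.mk (nat_lit 5) (nat_lit 67) (Steps.bwd (nat_lit 5) (Steps.bwd (nat_lit 8) (Steps.bwd (nat_lit 6) (Steps.fwd (nat_lit 32768) Steps.nil)))) (nat_lit 37) (nat_lit 1),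
  Rule.mk (nat_lit 7) (nat_lit 67) (Steps.bwd (nat_lit 5) (Steps.fwd (nat_lit 24576) (Steps.fwd (nat_lit 28672) (Steps.bwd (nat_lit 6) Steps.nil)))) (nat_lit 37) (nat_lit 0),
  Rule.mk (nat_lit 0) (nat_lit 67) (Steps.fwd (nat_lit 8192) (Steps.bwd (nat_lit 8) (Steps.fwd (nat_lit 8192) (Steps.bwd (nat_lit 7) Steps.nil)))) (nat_lit 30) (nat_lit 3),
  Rule.mk (nat_lit 23) (nat_lit 53) (Steps.bwd (nat_lit 8) (Steps.fwd (nat_lit 94208) (Steps.bwd (nat_lit 7) Steps.nil))) (nat_lit 185) (nat_lit 0),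
  Rule.mk (nat_lit 9) (nat_lit 53) (Steps.bwd (nat_lit 24) (Steps.bwd (nat_lit 10) (Steps.bwd (nat_lit 23) Steps.nil))) (nat_lit 186) (nat_lit 0),
  Rule.mk (nat_lit 12) (nat_lit 53) (Steps.bwd (nat_lit 9) (Steps.fwd (nat_lit 49152) (Steps.fwd (nat_lit 36864) Steps.nil))) (nat_lit 73) (nat_lit 2),
  Rule.mk (nat_lit 6) (nat_lit 739) (Steps.bwd (nat_lit 4) (Steps.bwd (nat_lit 3) (Steps.bwd (nat_lit 2) (Steps.bwd (nat_lit 3) (Steps.bwd (nat_lit 4) (Steps.bwd (nat_lit 5) (Steps.bwd (nat_lit 4) (Steps.bwd (nat_lit 2) (Steps.bwd (nat_lit 3) (Steps.bwd (nat_lit 4) (Steps.bwd (nat_lit 3) (Steps.bwd (nat_lit 2) (Steps.bwd (nat_lit 3) (Steps.bwd (nat_lit 6) (Steps.bwd (nat_lit 4) (Steps.bwd (nat_lit 3) (Steps.bwd (nat_lit 2) (Steps.bwd (nat_lit 3) (Steps.bwd (nat_lit 4) (Steps.bwd (nat_lit 5) (Steps.bwd (nat_lit 4) (Steps.bwd (nat_lit 5) (Steps.bwd (nat_lit 4) (Steps.bwd (nat_lit 3) (Steps.bwd (nat_lit 2) (Steps.bwd (nat_lit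 3) (Steps.bwd (nat_lit 4) (Steps.bwd (nat_lit 5) (Steps.bwd (nat_lit 4) (Steps.bwd (nat_lit 3) (Steps.bwd (nat_lit 2) (Steps.bwd (nat_lit 3) (Steps.bwd (nat_lit 4) (Steps.bwd (nat_lit 6) (Steps.bwd (nat_lit 6) (Steps.bwd (nat_lit 6) (Steps.bwd (nat_lit 4) (Steps.bwd (nat_lit 3) (Steps.bwd (nat_lit 2) (Steps.bwd (nat_lit 3) (Steps.fwd (nat_lit 16384) (Steps.bwd (nat_lit 6) (Steps.bwd (nat_lit 4) (Steps.bwd (nat_lit 3) (Steps.bwd (nat_lit 2) (Steps.bwd (nat_lit 3) (Steps.fwd (nat_lit 16384) (Steps.bwd (nat_lit 5) (Steps.bwd (nat_lit 5) (Steps.fwd (nat_lit 8192) (Steps.bwd (nat_lit 3) (Steps.fwd (nat_lit 16384) Steps.nil)))))))))))))))))))))))))))))))))))))))))))))))))))) (nat_lit 44) (nat_lit 4),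
  Rule.mk (nat_lit 6) (nat_lit 123) (Steps.bwd (nat_lit 6) (Steps.fwd (nat_lit 16384) (Steps.bwd (nat_lit 5) (Steps.bwd (nat_lit 5) (Steps.fwd (nat_lit 24576) (Steps.fwd (nat_lit 16384) (Steps.bwd (nat_lit 6) (Steps.bwd (nat_lit 4) Steps.nil)))))))) (nat_lit 24) (nat_lit 6),
  Rule.mk (nat_lit 0) (nat_lit 67) (Steps.fwd (nat_lit 12288) (Steps.bwd (nat_lit 6) (Steps.fwd (nat_lit 12288) (Steps.bwd (nat_lit 6) Steps.nil)))) (nat_lit 23) (nat_lit 0),
  Rule.mk (nat_lit 5) (nat_lit 53) (Steps.bwd (nat_lit 21) (Steps.bwd (nat_lit 6) (Steps.bwd (nat_lit 22) Steps.nil))) (nat_lit 159) (nat_lit 3),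
  Rule.mk (nat_lit 11) (nat_lit 53) (Steps.bwd (nat_lit 8) (Steps.bwd (nat_lit 12) (Steps.fwd (nat_lit 32768) Steps.nil))) (nat_lit 71) (nat_lit 0),
  Rule.mk (nat_lit 21) (nat_lit 53) (Steps.bwd (nat_lit 8) (Steps.bwd (nat_lit 22) (Steps.fwd (nat_lit 32768) Steps.nil))) (nat_lit 161) (nat_lit 0),
  Rule.mk (nat_lit 12) (nat_lit 53) (Steps.bwd (nat_lit 7) (Steps.bwd (nat_lit 11) (Steps.bwd (nat_lit 8) Steps.nil))) (nat_lit 71) (nat_lit 2),
  Rule.mk (nat_lit 22) (nat_lit 53) (Steps.bwd (nat_lit 7) (Steps.bwd (nat_lit 21) (Steps.bwd (nat_lit 8) Steps.nil))) (nat_lit 161) (nat_lit 2),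
  Rule.mk (nat_lit 10) (nat_lit 179) (Steps.bwd (nat_lit 5) (Steps.bwd (nat_lit 5) (Steps.bwd (nat_lit 4) (Steps.bwd (nat_lit 6) (Steps.bwd (nat_lit 6) (Steps.fwd (nat_lit 40960) (Steps.fwd (nat_lit 24576) (Steps.fwd (nat_lit 24576) (Steps.fwd (nat_lit 77824) (Steps.fwd (nat_lit 16384) (Steps.fwd (nat_lit 20480) (Steps.fwd (nat_lit 20480) Steps.nil)))))))))))) (nat_lit 54) (nat_lit 4),
  Rule.mk (nat_lit 9) (nat_lit 585) (Steps.bwd (nat_lit 5) (Steps.bwd (nat_lit 5) (Steps.bwd (nat_lit 3) (Steps.bwd (nat_lit 6) (Steps.bwd (nat_lit 6) (Steps.bwd (nat_lit 9) (Steps.bwd (nat_lit 5) (Steps.bwd (nat_lit 5) (Steps.bwd (nat_lit 3) (Steps.bwd (nat_lit 6) (Steps.bwd (nat_lit 6) (Steps.bwd (nat_lit 9) (Steps.bwd (nat_lit 4) (Steps.bwd (nat_lit 3) (Steps.bwd (nat_lit 2) (Steps.bwd (nat_lit 3) (Steps.bwd (nat_lit 4) (Steps.bwd (nat_lit 5) (Steps.bwd (nat_lit 5) (Steps.bwd (nat_lit 5) (Steps.bwd (nat_lit 4) (Steps.bwd (nat_lit 3)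 (Steps.bwd (nat_lit 2) (Steps.bwd (nat_lit 3) (Steps.bwd (nat_lit 4) (Steps.bwd (nat_lit 6) (Steps.bwd (nat_lit 3) (Steps.bwd (nat_lit 2) (Steps.bwd (nat_lit 3) (Steps.bwd (nat_lit 2) (Steps.bwd (nat_lit 1) (Steps.bwd (nat_lit 24) (Steps.fwd (nat_lit 12288) (Steps.fwd (nat_lit 20480) (Steps.fwd (nat_lit 20480) (Steps.bwd (nat_lit 9) (Steps.fwd (nat_lit 24576) (Steps.fwd (nat_lit 24576) (Steps.fwd (nat_lit 12288) (Steps.fwd (nat_lit 20480) (Steps.fwd (nat_lit 20480) Steps.nil))))))))))))))))))))))))))))))))))))))))) (nat_lit 58) (nat_lit 10),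
  Rule.mk (nat_lit 2) (nat_lit 53) (Steps.fwd (nat_lit 20480) (Steps.bwd (nat_lit 2) (Steps.fwd (nat_lit 24576) Steps.nil))) (nat_lit 20) (nat_lit 0),
  Rule.mk (nat_lit 24) (nat_lit 53) (Steps.bwd (nat_lit 2) (Steps.fwd (nat_lit 98304) (Steps.bwd (nat_lit 2) Steps.nil))) (nat_lit 176) (nat_lit 1),
  Rule.mk (nat_lit 13) (nat_lit 53) (Steps.fwd (nat_lit 94208) (Steps.fwd (nat_lit 53248) (Steps.bwd (nat_lit 23) Steps.nil))) (nat_lit 190) (nat_lit 0),
  Rule.mk (nat_lit 15) (nat_lit 53) (Steps.fwd (nat_lit 94208) (Steps.fwd (nat_lit 61440) (Steps.bwd (nat_lit 23) Steps.nil))) (nat_lit 192) (nat_lit 0),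
  Rule.mk (nat_lit 2) (nat_lit 67) (Steps.fwd (nat_lit 61440) (Steps.fwd (nat_lit 36864) (Steps.fwd (nat_lit 8192) (Steps.bwd (nat_lit 9) Steps.nil)))) (nat_lit 50) (nat_lit 4),
  Rule.mk (nat_lit 2) (nat_lit 53) (Steps.bwd (nat_lit 0) (Steps.fwd (nat_lit 8192) (Steps.fwd (nat_lit 0) Steps.nil))) (nat_lit 230) (nat_lit 0),
  Rule.mk (nat_lit 5) (nat_lit 95) (Steps.bwd (nat_lit 5) (Steps.fwd (nat_lit 24576) (Steps.bwd (nat_lit 5) (Steps.bwd (nat_lit 5) (Steps.fwd (nat_lit 24576) (Steps.fwd (nat_lit 24576) Steps.nil)))))) (nat_lit 16) (nat_lit 0),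
  Rule.mk (nat_lit 3) (nat_lit 53) (Steps.bwd (nat_lit 5) (Steps.bwd (nat_lit 3) (Steps.bwd (nat_lit 5) Steps.nil))) (nat_lit 22) (nat_lit 0),
  Rule.mk (nat_lit 9) (nat_lit 81) (Steps.bwd (nat_lit 5) (Steps.bwd (nat_lit 10) (Steps.bwd (nat_lit 5) (Steps.bwd (nat_lit 9) (Steps.bwd (nat_lit 5) Steps.nil))))) (nat_lit 42) (nat_lit 5),
  Rule.mk (nat_lit 10) (nat_lit 81) (Steps.bwd (nat_lit 5) (Steps.bwd (nat_lit 9) (Steps.bwd (nat_lit 5) (Steps.bwd (nat_lit 9) (Steps.bwd (nat_lit 5) Steps.nil))))) (nat_lit 42) (nat_lit 1),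
  Rule.mk (nat_lit 10) (nat_lit 151) (Steps.bwd (nat_lit 3) (Steps.bwd (nat_lit 9) (Steps.bwd (nat_lit 3) (Steps.fwd (nat_lit 16384) (Steps.fwd (nat_lit 36864) (Steps.fwd (nat_lit 12288) (Steps.bwd (nat_lit 9) (Steps.bwd (nat_lit 18) (Steps.fwd (nat_lit 12288) (Steps.fwd (nat_lit 16384) Steps.nil)))))))))) (nat_lit 52) (nat_lit 3),
  Rule.mk (nat_lit 11) (nat_lit 67) (Steps.fwd (nat_lit 4096) (Steps.fwd (nat_lit 8192) (Steps.bwd (nat_lit 10) (Steps.bwd (nat_lit 10) Steps.nil)))) (nat_lit 47) (nat_lit 1),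
  Rule.mk (nat_lit 10) (nat_lit 53) (Steps.fwd (nat_lit 49152) (Steps.fwd (nat_lit 40960) (Steps.bwd (nat_lit 12) Steps.nil))) (nat_lit 72) (nat_lit 2),
  Rule.mk (nat_lit 24) (nat_lit 53) (Steps.bwd (nat_lit 11) (Steps.bwd (nat_lit 23) (Steps.bwd (nat_lit 12) Steps.nil))) (nat_lit 189) (nat_lit 2),
  Rule.mk (nat_lit 11) (nat_lit 53) (Steps.bwd (nat_lit 24) (Steps.bwd (nat_lit 12) (Steps.bwd (nat_lit 23) Steps.nil))) (nat_lit 188) (nat_lit 0),
  Rule.mk (nat_lit 9) (nat_lit 263) (Steps.bwd (nat_lit 6) (Steps.fwd (nat_lit 36864) (Steps.bwd (nat_lit 5) (Steps.bwd (nat_lit 9) (Steps.bwd (nat_lit 6) (Steps.fwd (nat_lit 36864) (Steps.bwd (nat_lit 5) (Steps.bwd (nat_lit 9) (Steps.fwd (nat_lit 86016) (Steps.fwd (nat_lit 4096) (Steps.fwd (nat_lit 8192) (Steps.fwd (nat_lit 20480) (Steps.bwd (nat_lit 10) (Steps.fwd (nat_lit 24576) (Steps.fwd (nat_lit 40960) (Steps.fwd (nat_lit 20480) (Steps.fwd (nat_lit 36864) (Steps.bwd (nat_lit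 5) Steps.nil)))))))))))))))))) (nat_lit 56) (nat_lit 10),
  Rule.mk (nat_lit 7) (nat_lit 53) (Steps.bwd (nat_lit 10) (Steps.bwd (nat_lit 7) (Steps.bwd (nat_lit 9) Steps.nil))) (nat_lit 38) (nat_lit 0),
  Rule.mk (nat_lit 9) (nat_lit 585) (Steps.bwd (nat_lit 5) (Steps.bwd (nat_lit 5) (Steps.bwd (nat_lit 3) (Steps.bwd (nat_lit 6) (Steps.bwd (nat_lit 6) (Steps.bwd (nat_lit 9) (Steps.bwd (nat_lit 5) (Steps.bwd (nat_lit 5) (Steps.bwd (nat_lit 3) (Steps.bwd (nat_lit 6) (Steps.bwd (nat_lit 6) (Steps.bwd (nat_lit 9) (Steps.bwd (nat_lit 4) (Steps.bwd (nat_lit 3) (Steps.bwd (nat_lit 2) (Steps.bwd (nat_lit 3) (Steps.bwd (nat_lit 4) (Steps.bwd (nat_lit 5) (Steps.bwd (nat_lit 5) (Steps.bwd (nat_lit 5) (Steps.bwd (nat_lit 4) (Steps.bwd (nat_lit 3) (Steps.bwd (nat_lit 2) (Steps.bwd (nat_lit 3) (Steps.bwd (nat_lit 4) (Steps.bwd (nat_lit 6) (Steps.bwd (nat_lit 3) (Steps.bwd (nat_lit 2) (Steps.bwd (nat_lit 3) (Steps.fwd (nat_lit 8192)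 (Steps.fwd (nat_lit 4096) (Steps.fwd (nat_lit 94208) (Steps.fwd (nat_lit 12288) (Steps.bwd (nat_lit 6) (Steps.fwd (nat_lit 20480) (Steps.bwd (nat_lit 9) (Steps.fwd (nat_lit 24576) (Steps.fwd (nat_lit 24576) (Steps.fwd (nat_lit 12288) (Steps.fwd (nat_lit 20480) (Steps.fwd (nat_lit 20480) Steps.nil))))))))))))))))))))))))))))))))))))))))) (nat_lit 58) (nat_lit 10),
  Rule.mk (nat_lit 6) (nat_lit 739) (Steps.bwd (nat_lit 4) (Steps.bwd (nat_lit 3) (Steps.bwd (nat_lit 2) (Steps.bwd (nat_lit 3) (Steps.bwd (nat_lit 4) (Steps.bwd (nat_lit 5) (Steps.bwd (nat_lit 4) (Steps.bwd (nat_lit 2) (Steps.bwd (nat_lit 3) (Steps.bwd (nat_lit 4) (Steps.bwd (nat_lit 3) (Steps.bwd (nat_lit 2) (Steps.bwd (nat_lit 3) (Steps.bwd (nat_lit 6) (Steps.bwd (nat_lit 4) (Steps.bwd (nat_lit 3) (Steps.bwd (nat_lit 2) (Steps.bwd (nat_lit 3) (Steps.bwd (nat_lit 4) (Steps.bwd (nat_lit 5) (Steps.bwd (nat_lit 4) (Steps.bwd (nat_lit 5) (Steps.bwd (nat_lit 4)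 (Steps.bwd (nat_lit 3) (Steps.bwd (nat_lit 2) (Steps.bwd (nat_lit 3) (Steps.bwd (nat_lit 4) (Steps.bwd (nat_lit 5) (Steps.bwd (nat_lit 4) (Steps.bwd (nat_lit 3) (Steps.bwd (nat_lit 2) (Steps.bwd (nat_lit 3) (Steps.bwd (nat_lit 4) (Steps.bwd (nat_lit 6) (Steps.bwd (nat_lit 6) (Steps.bwd (nat_lit 6) (Steps.bwd (nat_lit 4) (Steps.bwd (nat_lit 3) (Steps.bwd (nat_lit 2) (Steps.bwd (nat_lit 3) (Steps.bwd (nat_lit 4) (Steps.bwd (nat_lit 6) (Steps.fwd (nat_lit 16384) (Steps.fwd (nat_lit 12288) (Steps.bwd (nat_lit 2) (Steps.bwd (nat_lit 3) (Steps.fwd (nat_lit 16384) (Steps.bwd (nat_lit 5) (Steps.bwd (nat_lit 5) (Steps.fwd (nat_lit 8192) (Steps.fwd (nat_lit 12288) (Steps.fwd (nat_lit 16384) Steps.nil)))))))))))))))))))))))))))))))))))))))))))))))))))) (nat_lit 44) (nat_lit 4),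
  Rule.mk (nat_lit 0) (nat_lit 67) (Steps.fwd (nat_lit 8192) (Steps.bwd (nat_lit 24) (Steps.bwd (nat_lit 2) (Steps.bwd (nat_lit 23) Steps.nil)))) (nat_lit 176) (nat_lit 3),
  Rule.mk (nat_lit 0) (nat_lit 67) (Steps.fwd (nat_lit 24576) (Steps.bwd (nat_lit 24) (Steps.bwd (nat_lit 6) (Steps.fwd (nat_lit 98304) Steps.nil)))) (nat_lit 182) (nat_lit 3),
  Rule.mk (nat_lit 5) (nat_lit 123) (Steps.fwd (nat_lit 24576) (Steps.bwd (nat_lit 5) (Steps.bwd (nat_lit 4) (Steps.bwd (nat_lit 6) (Steps.bwd (nat_lit 4) (Steps.fwd (nat_lit 20480) (Steps.fwd (nat_lit 20480) (Steps.fwd (nat_lit 16384) Steps.nil)))))))) (nat_lit 24) (nat_lit 9),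
  Rule.mk (nat_lit 24) (nat_lit 53) (Steps.bwd (nat_lit 6) (Steps.fwd (nat_lit 98304) (Steps.bwd (nat_lit 5) Steps.nil))) (nat_lit 182) (nat_lit 1),
  Rule.mk (nat_lit 10) (nat_lit 53) (Steps.bwd (nat_lit 24) (Steps.bwd (nat_lit 9) (Steps.fwd (nat_lit 98304) Steps.nil))) (nat_lit 187) (nat_lit 1),
  Rule.mk (nat_lit 9) (nat_lit 585) (Steps.bwd (nat_lit 5) (Steps.bwd (nat_lit 5) (Steps.bwd (nat_lit 3) (Steps.bwd (nat_lit 6) (Steps.bwd (nat_lit 6) (Steps.bwd (nat_lit 9) (Steps.bwd (nat_lit 5) (Steps.bwd (nat_lit 5) (Steps.bwd (nat_lit 3) (Steps.bwd (nat_lit 6) (Steps.bwd (nat_lit 6) (Steps.bwd (nat_lit 9) (Steps.bwd (nat_lit 5) (Steps.bwd (nat_lit 5) (Steps.bwd (nat_lit 3) (Steps.bwd (nat_lit 6) (Steps.bwd (nat_lit 6) (Steps.bwd (nat_lit 9) (Steps.bwd (nat_lit 4) (Steps.bwd (nat_lit 3) (Steps.bwd (nat_lit 2) (Steps.bwd (nat_lit 3) (Steps.bwd (nat_lit 4) (Steps.bwd (nat_lit 5) (Steps.bwd (nat_lit 5) (Steps.bwd (nat_lit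 5) (Steps.bwd (nat_lit 4) (Steps.bwd (nat_lit 3) (Steps.bwd (nat_lit 2) (Steps.bwd (nat_lit 3) (Steps.bwd (nat_lit 4) (Steps.bwd (nat_lit 6) (Steps.bwd (nat_lit 3) (Steps.bwd (nat_lit 2) (Steps.bwd (nat_lit 3) (Steps.fwd (nat_lit 8192) (Steps.fwd (nat_lit 4096) (Steps.fwd (nat_lit 94208) (Steps.fwd (nat_lit 12288) (Steps.fwd (nat_lit 20480) (Steps.fwd (nat_lit 20480) Steps.nil))))))))))))))))))))))))))))))))))))))))) (nat_lit 58) (nat_lit 4),
  Rule.mk (nat_lit 24) (nat_lit 53) (Steps.bwd (nat_lit 7) (Steps.bwd (nat_lit 23) (Steps.bwd (nat_lit 8) Steps.nil))) (nat_lit 185) (nat_lit 2),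
  Rule.mk (nat_lit 0) (nat_lit 67) (Steps.fwd (nat_lit 16384) (Steps.fwd (nat_lit 94208) (Steps.bwd (nat_lit 4) (Steps.fwd (nat_lit 98304) Steps.nil)))) (nat_lit 180) (nat_lit 3),
  Rule.mk (nat_lit 0) (nat_lit 81) (Steps.fwd (nat_lit 24576) (Steps.bwd (nat_lit 8) (Steps.bwd (nat_lit 6) (Steps.bwd (nat_lit 7) (Steps.fwd (nat_lit 24576) Steps.nil))))) (nat_lit 37) (nat_lit 1),
  Rule.mk (nat_lit 7) (nat_lit 53) (Steps.bwd (nat_lit 24) (Steps.fwd (nat_lit 28672) (Steps.bwd (nat_lit 23) Steps.nil))) (nat_lit 184) (nat_lit 0),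
  Rule.mk (nat_lit 6) (nat_lit 739) (Steps.bwd (nat_lit 4) (Steps.bwd (nat_lit 3) (Steps.bwd (nat_lit 2) (Steps.bwd (nat_lit 3) (Steps.bwd (nat_lit 4) (Steps.bwd (nat_lit 5) (Steps.bwd (nat_lit 4) (Steps.bwd (nat_lit 2) (Steps.bwd (nat_lit 3) (Steps.bwd (nat_lit 4) (Steps.bwd (nat_lit 3) (Steps.bwd (nat_lit 2) (Steps.bwd (nat_lit 3) (Steps.bwd (nat_lit 6) (Steps.bwd (nat_lit 4) (Steps.bwd (nat_lit 3) (Steps.bwd (nat_lit 2) (Steps.bwd (nat_lit 3) (Steps.bwd (nat_lit 4) (Steps.bwd (nat_lit 5) (Steps.bwd (nat_lit 4) (Steps.bwd (nat_lit 5) (Steps.bwd (nat_lit 4) (Steps.bwd (nat_lit 3) (Steps.bwd (nat_lit 2) (Steps.bwd (nat_lit 3) (Steps.bwd (nat_lit 4) (Steps.bwd (nat_lit 5) (Steps.bwd (nat_lit 4) (Steps.bwd (nat_lit 3) (Steps.bwd (nat_lit 2) (Steps.bwd (nat_lit 3) (Steps.bwd (nat_lit 4) (Steps.bwd (nat_lit 6) (Steps.bwd (nat_lit 6) (Steps.bwd (nat_lit 6) (Steps.bwd (nat_lit 4) (Steps.bwd (nat_lit 3) (Steps.bwd (nat_lit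 2) (Steps.bwd (nat_lit 3) (Steps.bwd (nat_lit 4) (Steps.bwd (nat_lit 6) (Steps.bwd (nat_lit 4) (Steps.fwd (nat_lit 12288) (Steps.fwd (nat_lit 8192) (Steps.bwd (nat_lit 3) (Steps.fwd (nat_lit 16384) (Steps.bwd (nat_lit 5) (Steps.fwd (nat_lit 24576) (Steps.fwd (nat_lit 8192) (Steps.fwd (nat_lit 12288) (Steps.fwd (nat_lit 16384) Steps.nil)))))))))))))))))))))))))))))))))))))))))))))))))))) (nat_lit 44) (nat_lit 4),
  Rule.mk (nat_lit 8) (nat_lit 53) (Steps.fwd (nat_lit 8192) (Steps.bwd (nat_lit 7) (Steps.fwd (nat_lit 8192) Steps.nil))) (nat_lit 30) (nat_lit 1),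
  Rule.mk (nat_lit 6) (nat_lit 53) (Steps.bwd (nat_lit 24) (Steps.fwd (nat_lit 24576) (Steps.bwd (nat_lit 23) Steps.nil))) (nat_lit 183) (nat_lit 1),
  Rule.mk (nat_lit 5) (nat_lit 53) (Steps.fwd (nat_lit 8192) (Steps.bwd (nat_lit 6) (Steps.bwd (nat_lit 2) Steps.nil))) (nat_lit 20) (nat_lit 3),
  Rule.mk (nat_lit 5) (nat_lit 123) (Steps.fwd (nat_lit 24576) (Steps.bwd (nat_lit 5) (Steps.bwd (nat_lit 4) (Steps.bwd (nat_lit 6) (Steps.fwd (nat_lit 16384) (Steps.fwd (nat_lit 20480) (Steps.bwd (nat_lit 6) (Steps.bwd (nat_lit 4) Steps.nil)))))))) (nat_lit 24) (nat_lit 9),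
  Rule.mk (nat_lit 6) (nat_lit 123) (Steps.fwd (nat_lit 16384) (Steps.fwd (nat_lit 24576) (Steps.bwd (nat_lit 5) (Steps.fwd (nat_lit 24576) (Steps.fwd (nat_lit 16384) (Steps.bwd (nat_lit 6) (Steps.bwd (nat_lit 4) (Steps.bwd (nat_lit 6) Steps.nil)))))))) (nat_lit 24) (nat_lit 7),
  Rule.mk (nat_lit 24) (nat_lit 53) (Steps.bwd (nat_lit 5) (Steps.fwd (nat_lit 98304) (Steps.bwd (nat_lit 6) Steps.nil))) (nat_lit 183) (nat_lit 2)]
noncomputable def R_21 : List (Rule) := [Rule.mk (nat_lit 5) (nat_lit 53) (Steps.bwd (nat_lit 24) (Steps.fwd (nat_lit 20480) (Steps.fwd (nat_lit 98304) Steps.nil))) (nat_lit 182) (nat_lit 0),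
  Rule.mk (nat_lit 6) (nat_lit 53) (Steps.fwd (nat_lit 8192) (Steps.bwd (nat_lit 5) (Steps.fwd (nat_lit 8192) Steps.nil))) (nat_lit 20) (nat_lit 1),
  Rule.mk (nat_lit 0) (nat_lit 67) (Steps.fwd (nat_lit 20480) (Steps.bwd (nat_lit 3) (Steps.bwd (nat_lit 6) (Steps.bwd (nat_lit 3) Steps.nil)))) (nat_lit 23) (nat_lit 1),
  Rule.mk (nat_lit 24) (nat_lit 53) (Steps.fwd (nat_lit 24576) (Steps.fwd (nat_lit 98304) (Steps.bwd (nat_lit 6) Steps.nil))) (nat_lit 183) (nat_lit 2),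
  Rule.mk (nat_lit 23) (nat_lit 53) (Steps.bwd (nat_lit 3) (Steps.fwd (nat_lit 94208) (Steps.fwd (nat_lit 12288) Steps.nil))) (nat_lit 178) (nat_lit 3),
  Rule.mk (nat_lit 0) (nat_lit 67) (Steps.fwd (nat_lit 12288) (Steps.fwd (nat_lit 28672) (Steps.bwd (nat_lit 3) (Steps.fwd (nat_lit 32768) Steps.nil)))) (nat_lit 32) (nat_lit 3),
  Rule.mk (nat_lit 23) (nat_lit 53) (Steps.bwd (nat_lit 6) (Steps.fwd (nat_lit 94208) (Steps.fwd (nat_lit 24576) Steps.nil))) (nat_lit 183) (nat_lit 0),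
  Rule.mk (nat_lit 23) (nat_lit 53) (Steps.bwd (nat_lit 7) (Steps.fwd (nat_lit 94208) (Steps.fwd (nat_lit 28672) Steps.nil))) (nat_lit 184) (nat_lit 3),
  Rule.mk (nat_lit 5) (nat_lit 53) (Steps.fwd (nat_lit 94208) (Steps.bwd (nat_lit 6) (Steps.bwd (nat_lit 23) Steps.nil))) (nat_lit 182) (nat_lit 0),
  Rule.mk (nat_lit 6) (nat_lit 53) (Steps.fwd (nat_lit 8192) (Steps.bwd (nat_lit 5) (Steps.bwd (nat_lit 2) Steps.nil))) (nat_lit 20) (nat_lit 1),
  Rule.mk (nat_lit 0) (nat_lit 53) (Steps.bwd (nat_lit 5) (Steps.bwd (nat_lit 0) (Steps.bwd (nat_lit 6) Steps.nil))) (nat_lit 230) (nat_lit 0),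
  Rule.mk (nat_lit 0) (nat_lit 67) (Steps.fwd (nat_lit 24576) (Steps.fwd (nat_lit 12288) (Steps.bwd (nat_lit 5) (Steps.bwd (nat_lit 3) Steps.nil)))) (nat_lit 22) (nat_lit 0),
  Rule.mk (nat_lit 2) (nat_lit 53) (Steps.bwd (nat_lit 4) (Steps.bwd (nat_lit 2) (Steps.bwd (nat_lit 4) Steps.nil))) (nat_lit 12) (nat_lit 1),
  Rule.mk (nat_lit 0) (nat_lit 137) (Steps.fwd (nat_lit 8192) (Steps.fwd (nat_lit 12288) (Steps.bwd (nat_lit 2) (Steps.fwd (nat_lit 12288) (Steps.fwd (nat_lit 4096) (Steps.fwd (nat_lit 8192) (Steps.bwd (nat_lit 3) (Steps.bwd (nat_lit 2) (Steps.bwd (nat_lit 3) Steps.nil))))))))) (nat_lit 11) (nat_lit 4),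
  Rule.mk (nat_lit 0) (nat_lit 53) (Steps.fwd (nat_lit 32768) (Steps.bwd (nat_lit 0) (Steps.bwd (nat_lit 8) Steps.nil))) (nat_lit 230) (nat_lit 0),
  Rule.mk (nat_lit 0) (nat_lit 53) (Steps.bwd (nat_lit 23) (Steps.fwd (nat_lit 0) (Steps.bwd (nat_lit 24) Steps.nil))) (nat_lit 230) (nat_lit 0),
  Rule.mk (nat_lit 0) (nat_lit 53) (Steps.bwd (nat_lit 8) (Steps.bwd (nat_lit 0) (Steps.fwd (nat_lit 32768) Steps.nil))) (nat_lit 230) (nat_lit 0),
  Rule.mk (nat_lit 0) (nat_lit 67) (Steps.fwd (nat_lit 16384) (Steps.fwd (nat_lit 0) (Steps.fwd (nat_lit 16384) (Steps.fwd (nat_lit 0) Steps.nil)))) (nat_lit 230) (nat_lit 0),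
  Rule.mk (nat_lit 0) (nat_lit 53) (Steps.bwd (nat_lit 8) (Steps.fwd (nat_lit 0) (Steps.bwd (nat_lit 7) Steps.nil))) (nat_lit 230) (nat_lit 0),
  Rule.mk (nat_lit 0) (nat_lit 53) (Steps.bwd (nat_lit 7) (Steps.bwd (nat_lit 0) (Steps.fwd (nat_lit 28672) Steps.nil))) (nat_lit 230) (nat_lit 0),
  Rule.mk (nat_lit 0) (nat_lit 53) (Steps.bwd (nat_lit 8) (Steps.bwd (nat_lit 0) (Steps.bwd (nat_lit 7) Steps.nil))) (nat_lit 230) (nat_lit 0),
  Rule.mk (nat_lit 0) (nat_lit 53) (Steps.fwd (nat_lit 98304) (Steps.bwd (nat_lit 0) (Steps.bwd (nat_lit 24) Steps.nil))) (nat_lit 230) (nat_lit 0),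
  Rule.mk (nat_lit 0) (nat_lit 53) (Steps.fwd (nat_lit 98304) (Steps.fwd (nat_lit 0) (Steps.bwd (nat_lit 24) Steps.nil))) (nat_lit 230) (nat_lit 0),
  Rule.mk (nat_lit 0) (nat_lit 67) (Steps.bwd (nat_lit 0) (Steps.bwd (nat_lit 2) (Steps.fwd (nat_lit 0) (Steps.fwd (nat_lit 8192) Steps.nil)))) (nat_lit 230) (nat_lit 0),
  Rule.mk (nat_lit 0) (nat_lit 53) (Steps.bwd (nat_lit 23) (Steps.bwd (nat_lit 0) (Steps.fwd (nat_lit 94208) Steps.nil))) (nat_lit 230) (nat_lit 0),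
  Rule.mk (nat_lit 0) (nat_lit 67) (Steps.bwd (nat_lit 0) (Steps.bwd (nat_lit 23) (Steps.bwd (nat_lit 0) (Steps.bwd (nat_lit 24) Steps.nil)))) (nat_lit 230) (nat_lit 0),
  Rule.mk (nat_lit 0) (nat_lit 67) (Steps.fwd (nat_lit 24576) (Steps.fwd (nat_lit 0) (Steps.fwd (nat_lit 20480) (Steps.fwd (nat_lit 0) Steps.nil)))) (nat_lit 230) (nat_lit 0),
  Rule.mk (nat_lit 0) (nat_lit 67) (Steps.bwd (nat_lit 6) (Steps.fwd (nat_lit 0) (Steps.fwd (nat_lit 24576) (Steps.fwd (nat_lit 0) Steps.nil)))) (nat_lit 230) (nat_lit 0),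
  Rule.mk (nat_lit 0) (nat_lit 67) (Steps.bwd (nat_lit 0) (Steps.bwd (nat_lit 23) (Steps.bwd (nat_lit 0) (Steps.fwd (nat_lit 94208) Steps.nil)))) (nat_lit 230) (nat_lit 0),
  Rule.mk (nat_lit 0) (nat_lit 53) (Steps.bwd (nat_lit 7) (Steps.fwd (nat_lit 0) (Steps.fwd (nat_lit 28672) Steps.nil))) (nat_lit 230) (nat_lit 0),
  Rule.mk (nat_lit 0) (nat_lit 53) (Steps.fwd (nat_lit 28672) (Steps.fwd (nat_lit 0) (Steps.bwd (nat_lit 7) Steps.nil))) (nat_lit 230) (nat_lit 0),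
  Rule.mk (nat_lit 0) (nat_lit 53) (Steps.bwd (nat_lit 23) (Steps.bwd (nat_lit 0) (Steps.bwd (nat_lit 24) Steps.nil))) (nat_lit 230) (nat_lit 0),
  Rule.mk (nat_lit 0) (nat_lit 67) (Steps.bwd (nat_lit 0) (Steps.bwd (nat_lit 6) (Steps.fwd (nat_lit 0) (Steps.fwd (nat_lit 24576) Steps.nil)))) (nat_lit 230) (nat_lit 0),
  Rule.mk (nat_lit 0) (nat_lit 53) (Steps.bwd (nat_lit 7) (Steps.bwd (nat_lit 0) (Steps.bwd (nat_lit 8) Steps.nil))) (nat_lit 230) (nat_lit 0),
  Rule.mk (nat_lit 0) (nat_lit 67) (Steps.bwd (nat_lit 0) (Steps.fwd (nat_lit 28672) (Steps.fwd (nat_lit 0) (Steps.fwd (nat_lit 32768) Steps.nil)))) (nat_lit 230) (nat_lit 0),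
  Rule.mk (nat_lit 0) (nat_lit 67) (Steps.bwd (nat_lit 0) (Steps.fwd (nat_lit 49152) (Steps.fwd (nat_lit 0) (Steps.bwd (nat_lit 12) Steps.nil)))) (nat_lit 230) (nat_lit 0),
  Rule.mk (nat_lit 0) (nat_lit 67) (Steps.bwd (nat_lit 5) (Steps.bwd (nat_lit 0) (Steps.bwd (nat_lit 6) (Steps.fwd (nat_lit 0) Steps.nil)))) (nat_lit 230) (nat_lit 0),
  Rule.mk (nat_lit 0) (nat_lit 81) (Steps.bwd (nat_lit 0) (Steps.bwd (nat_lit 6) (Steps.bwd (nat_lit 0) (Steps.bwd (nat_lit 5) (Steps.fwd (nat_lit 0) Steps.nil))))) (nat_lit 230) (nat_lit 0),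
  Rule.mk (nat_lit 0) (nat_lit 67) (Steps.bwd (nat_lit 0) (Steps.bwd (nat_lit 7) (Steps.fwd (nat_lit 0) (Steps.fwd (nat_lit 28672) Steps.nil)))) (nat_lit 230) (nat_lit 0),
  Rule.mk (nat_lit 0) (nat_lit 67) (Steps.bwd (nat_lit 3) (Steps.bwd (nat_lit 0) (Steps.fwd (nat_lit 12288) (Steps.fwd (nat_lit 0) Steps.nil)))) (nat_lit 230) (nat_lit 0),
  Rule.mk (nat_lit 0) (nat_lit 67) (Steps.fwd (nat_lit 20480) (Steps.bwd (nat_lit 0) (Steps.fwd (nat_lit 24576) (Steps.fwd (nat_lit 0) Steps.nil)))) (nat_lit 230) (nat_lit 0),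
  Rule.mk (nat_lit 0) (nat_lit 67) (Steps.bwd (nat_lit 8) (Steps.bwd (nat_lit 0) (Steps.bwd (nat_lit 7) (Steps.fwd (nat_lit 0) Steps.nil)))) (nat_lit 230) (nat_lit 0),
  Rule.mk (nat_lit 0) (nat_lit 53) (Steps.fwd (nat_lit 28672) (Steps.bwd (nat_lit 0) (Steps.bwd (nat_lit 7) Steps.nil))) (nat_lit 230) (nat_lit 0),
  Rule.mk (nat_lit 0) (nat_lit 67) (Steps.fwd (nat_lit 98304) (Steps.bwd (nat_lit 0) (Steps.fwd (nat_lit 94208) (Steps.fwd (nat_lit 0) Steps.nil)))) (nat_lit 230) (nat_lit 0),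
  Rule.mk (nat_lit 0) (nat_lit 67) (Steps.bwd (nat_lit 0) (Steps.bwd (nat_lit 3) (Steps.fwd (nat_lit 0) (Steps.bwd (nat_lit 3) Steps.nil)))) (nat_lit 230) (nat_lit 0),
  Rule.mk (nat_lit 0) (nat_lit 67) (Steps.bwd (nat_lit 0) (Steps.fwd (nat_lit 16384) (Steps.fwd (nat_lit 0) (Steps.fwd (nat_lit 16384) Steps.nil)))) (nat_lit 230) (nat_lit 0),
  Rule.mk (nat_lit 0) (nat_lit 67) (Steps.bwd (nat_lit 0) (Steps.fwd (nat_lit 98304) (Steps.bwd (nat_lit 0) (Steps.bwd (nat_lit 24) Steps.nil)))) (nat_lit 230) (nat_lit 0),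
  Rule.mk (nat_lit 0) (nat_lit 81) (Steps.bwd (nat_lit 0) (Steps.bwd (nat_lit 5) (Steps.bwd (nat_lit 0) (Steps.bwd (nat_lit 6) (Steps.fwd (nat_lit 0) Steps.nil))))) (nat_lit 230) (nat_lit 0),
  Rule.mk (nat_lit 0) (nat_lit 81) (Steps.bwd (nat_lit 0) (Steps.fwd (nat_lit 20480) (Steps.bwd (nat_lit 0) (Steps.bwd (nat_lit 5) (Steps.fwd (nat_lit 0) Steps.nil))))) (nat_lit 230) (nat_lit 0),
  Rule.mk (nat_lit 0) (nat_lit 67) (Steps.bwd (nat_lit 0) (Steps.bwd (nat_lit 4) (Steps.fwd (nat_lit 0) (Steps.bwd (nat_lit 4) Steps.nil)))) (nat_lit 230) (nat_lit 0),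
  Rule.mk (nat_lit 0) (nat_lit 67) (Steps.fwd (nat_lit 28672) (Steps.bwd (nat_lit 0) (Steps.fwd (nat_lit 32768) (Steps.fwd (nat_lit 0) Steps.nil)))) (nat_lit 230) (nat_lit 0),
  Rule.mk (nat_lit 0) (nat_lit 67) (Steps.bwd (nat_lit 23) (Steps.fwd (nat_lit 0) (Steps.bwd (nat_lit 24) (Steps.fwd (nat_lit 0) Steps.nil)))) (nat_lit 230) (nat_lit 0),
  Rule.mk (nat_lit 0) (nat_lit 67) (Steps.bwd (nat_lit 7) (Steps.fwd (nat_lit 0) (Steps.fwd (nat_lit 28672) (Steps.fwd (nat_lit 0) Steps.nil)))) (nat_lit 230) (nat_lit 0),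
  Rule.mk (nat_lit 0) (nat_lit 67) (Steps.bwd (nat_lit 8) (Steps.fwd (nat_lit 0) (Steps.fwd (nat_lit 32768) (Steps.fwd (nat_lit 0) Steps.nil)))) (nat_lit 230) (nat_lit 0),
  Rule.mk (nat_lit 0) (nat_lit 67) (Steps.fwd (nat_lit 98304) (Steps.fwd (nat_lit 0) (Steps.bwd (nat_lit 24) (Steps.fwd (nat_lit 0) Steps.nil)))) (nat_lit 230) (nat_lit 0),
  Rule.mk (nat_lit 0) (nat_lit 53) (Steps.fwd (nat_lit 0) (Steps.fwd (nat_lit 0) (Steps.fwd (nat_lit 0) Steps.nil))) (nat_lit 230) (nat_lit 0),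
  Rule.mk (nat_lit 0) (nat_lit 67) (Steps.bwd (nat_lit 0) (Steps.fwd (nat_lit 16384) (Steps.fwd (nat_lit 0) (Steps.bwd (nat_lit 4) Steps.nil)))) (nat_lit 230) (nat_lit 0),
  Rule.mk (nat_lit 0) (nat_lit 67) (Steps.bwd (nat_lit 7) (Steps.bwd (nat_lit 0) (Steps.bwd (nat_lit 8) (Steps.fwd (nat_lit 0) Steps.nil)))) (nat_lit 230) (nat_lit 0),
  Rule.mk (nat_lit 0) (nat_lit 67) (Steps.bwd (nat_lit 8) (Steps.bwd (nat_lit 0) (Steps.fwd (nat_lit 32768) (Steps.fwd (nat_lit 0) Steps.nil)))) (nat_lit 230) (nat_lit 0),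
  Rule.mk (nat_lit 0) (nat_lit 67) (Steps.bwd (nat_lit 0) (Steps.bwd (nat_lit 11) (Steps.fwd (nat_lit 0) (Steps.fwd (nat_lit 45056) Steps.nil)))) (nat_lit 230) (nat_lit 0),
  Rule.mk (nat_lit 0) (nat_lit 81) (Steps.bwd (nat_lit 0) (Steps.bwd (nat_lit 7) (Steps.fwd (nat_lit 0) (Steps.fwd (nat_lit 28672) (Steps.fwd (nat_lit 0) Steps.nil))))) (nat_lit 230) (nat_lit 0),
  Rule.mk (nat_lit 0) (nat_lit 67) (Steps.bwd (nat_lit 0) (Steps.bwd (nat_lit 11) (Steps.fwd (nat_lit 0) (Steps.bwd (nat_lit 12) Steps.nil)))) (nat_lit 230) (nat_lit 0),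
  Rule.mk (nat_lit 0) (nat_lit 67) (Steps.bwd (nat_lit 2) (Steps.bwd (nat_lit 0) (Steps.bwd (nat_lit 2) (Steps.fwd (nat_lit 0) Steps.nil)))) (nat_lit 230) (nat_lit 0),
  Rule.mk (nat_lit 0) (nat_lit 81) (Steps.bwd (nat_lit 0) (Steps.bwd (nat_lit 5) (Steps.bwd (nat_lit 0) (Steps.fwd (nat_lit 20480) (Steps.fwd (nat_lit 0) Steps.nil))))) (nat_lit 230) (nat_lit 0)]
noncomputable def R_22 : List (Rule) := [Rule.mk (nat_lit 0) (nat_lit 67) (Steps.fwd (nat_lit 32768) (Steps.bwd (nat_lit 0) (Steps.fwd (nat_lit 28672) (Steps.fwd (nat_lit 0) Steps.nil)))) (nat_lit 230) (nat_lit 0),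
  Rule.mk (nat_lit 0) (nat_lit 67) (Steps.bwd (nat_lit 0) (Steps.fwd (nat_lit 49152) (Steps.fwd (nat_lit 0) (Steps.fwd (nat_lit 45056) Steps.nil)))) (nat_lit 230) (nat_lit 0),
  Rule.mk (nat_lit 0) (nat_lit 67) (Steps.bwd (nat_lit 0) (Steps.fwd (nat_lit 20480) (Steps.fwd (nat_lit 0) (Steps.bwd (nat_lit 5) Steps.nil)))) (nat_lit 230) (nat_lit 0),
  Rule.mk (nat_lit 0) (nat_lit 67) (Steps.fwd (nat_lit 32768) (Steps.bwd (nat_lit 0) (Steps.bwd (nat_lit 8) (Steps.fwd (nat_lit 0) Steps.nil)))) (nat_lit 230) (nat_lit 0),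
  Rule.mk (nat_lit 0) (nat_lit 67) (Steps.fwd (nat_lit 28672) (Steps.bwd (nat_lit 0) (Steps.bwd (nat_lit 7) (Steps.fwd (nat_lit 0) Steps.nil)))) (nat_lit 230) (nat_lit 0),
  Rule.mk (nat_lit 0) (nat_lit 67) (Steps.bwd (nat_lit 6) (Steps.bwd (nat_lit 0) (Steps.bwd (nat_lit 5) (Steps.fwd (nat_lit 0) Steps.nil)))) (nat_lit 230) (nat_lit 0),
  Rule.mk (nat_lit 0) (nat_lit 53) (Steps.fwd (nat_lit 94208) (Steps.bwd (nat_lit 0) (Steps.bwd (nat_lit 23) Steps.nil))) (nat_lit 230) (nat_lit 0),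
  Rule.mk (nat_lit 0) (nat_lit 67) (Steps.bwd (nat_lit 23) (Steps.bwd (nat_lit 0) (Steps.bwd (nat_lit 24) (Steps.fwd (nat_lit 0) Steps.nil)))) (nat_lit 230) (nat_lit 0),
  Rule.mk (nat_lit 0) (nat_lit 67) (Steps.bwd (nat_lit 4) (Steps.fwd (nat_lit 0) (Steps.fwd (nat_lit 16384) (Steps.fwd (nat_lit 0) Steps.nil)))) (nat_lit 230) (nat_lit 0),
  Rule.mk (nat_lit 0) (nat_lit 67) (Steps.bwd (nat_lit 6) (Steps.fwd (nat_lit 0) (Steps.bwd (nat_lit 5) (Steps.fwd (nat_lit 0) Steps.nil)))) (nat_lit 230) (nat_lit 0),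
  Rule.mk (nat_lit 0) (nat_lit 81) (Steps.bwd (nat_lit 0) (Steps.fwd (nat_lit 20480) (Steps.fwd (nat_lit 0) (Steps.bwd (nat_lit 5) (Steps.fwd (nat_lit 0) Steps.nil))))) (nat_lit 230) (nat_lit 0),
  Rule.mk (nat_lit 0) (nat_lit 67) (Steps.bwd (nat_lit 0) (Steps.fwd (nat_lit 8192) (Steps.fwd (nat_lit 0) (Steps.fwd (nat_lit 8192) Steps.nil)))) (nat_lit 230) (nat_lit 0),
  Rule.mk (nat_lit 0) (nat_lit 67) (Steps.bwd (nat_lit 0) (Steps.fwd (nat_lit 12288) (Steps.fwd (nat_lit 0) (Steps.bwd (nat_lit 3) Steps.nil)))) (nat_lit 230) (nat_lit 0),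
  Rule.mk (nat_lit 0) (nat_lit 67) (Steps.bwd (nat_lit 0) (Steps.fwd (nat_lit 24576) (Steps.fwd (nat_lit 0) (Steps.bwd (nat_lit 6) Steps.nil)))) (nat_lit 230) (nat_lit 0),
  Rule.mk (nat_lit 0) (nat_lit 67) (Steps.fwd (nat_lit 20480) (Steps.bwd (nat_lit 0) (Steps.bwd (nat_lit 5) (Steps.fwd (nat_lit 0) Steps.nil)))) (nat_lit 230) (nat_lit 0),
  Rule.mk (nat_lit 0) (nat_lit 67) (Steps.bwd (nat_lit 0) (Steps.bwd (nat_lit 3) (Steps.fwd (nat_lit 0) (Steps.fwd (nat_lit 12288) Steps.nil)))) (nat_lit 230) (nat_lit 0),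
  Rule.mk (nat_lit 0) (nat_lit 67) (Steps.fwd (nat_lit 20480) (Steps.fwd (nat_lit 0) (Steps.bwd (nat_lit 5) (Steps.fwd (nat_lit 0) Steps.nil)))) (nat_lit 230) (nat_lit 0),
  Rule.mk (nat_lit 0) (nat_lit 67) (Steps.fwd (nat_lit 8192) (Steps.bwd (nat_lit 0) (Steps.bwd (nat_lit 2) (Steps.fwd (nat_lit 0) Steps.nil)))) (nat_lit 230) (nat_lit 0),
  Rule.mk (nat_lit 0) (nat_lit 53) (Steps.bwd (nat_lit 8) (Steps.fwd (nat_lit 0) (Steps.fwd (nat_lit 32768) Steps.nil))) (nat_lit 230) (nat_lit 0),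
  Rule.mk (nat_lit 0) (nat_lit 67) (Steps.bwd (nat_lit 0) (Steps.fwd (nat_lit 8192) (Steps.fwd (nat_lit 0) (Steps.bwd (nat_lit 2) Steps.nil)))) (nat_lit 230) (nat_lit 0),
  Rule.mk (nat_lit 0) (nat_lit 67) (Steps.bwd (nat_lit 6) (Steps.bwd (nat_lit 0) (Steps.fwd (nat_lit 24576) (Steps.fwd (nat_lit 0) Steps.nil)))) (nat_lit 230) (nat_lit 0),
  Rule.mk (nat_lit 0) (nat_lit 67) (Steps.bwd (nat_lit 0) (Steps.fwd (nat_lit 24576) (Steps.fwd (nat_lit 0) (Steps.fwd (nat_lit 20480) Steps.nil)))) (nat_lit 230) (nat_lit 0),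
  Rule.mk (nat_lit 0) (nat_lit 67) (Steps.bwd (nat_lit 0) (Steps.bwd (nat_lit 6) (Steps.fwd (nat_lit 0) (Steps.bwd (nat_lit 5) Steps.nil)))) (nat_lit 230) (nat_lit 0),
  Rule.mk (nat_lit 0) (nat_lit 53) (Steps.fwd (nat_lit 28672) (Steps.fwd (nat_lit 0) (Steps.fwd (nat_lit 32768) Steps.nil))) (nat_lit 230) (nat_lit 0),
  Rule.mk (nat_lit 0) (nat_lit 67) (Steps.fwd (nat_lit 0) (Steps.fwd (nat_lit 0) (Steps.fwd (nat_lit 0) (Steps.fwd (nat_lit 0) Steps.nil)))) (nat_lit 230) (nat_lit 0),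
  Rule.mk (nat_lit 0) (nat_lit 67) (Steps.bwd (nat_lit 3) (Steps.fwd (nat_lit 0) (Steps.fwd (nat_lit 12288) (Steps.fwd (nat_lit 0) Steps.nil)))) (nat_lit 230) (nat_lit 0),
  Rule.mk (nat_lit 0) (nat_lit 53) (Steps.bwd (nat_lit 24) (Steps.bwd (nat_lit 0) (Steps.fwd (nat_lit 98304) Steps.nil))) (nat_lit 230) (nat_lit 0),
  Rule.mk (nat_lit 0) (nat_lit 67) (Steps.bwd (nat_lit 0) (Steps.bwd (nat_lit 8) (Steps.fwd (nat_lit 0) (Steps.fwd (nat_lit 32768) Steps.nil)))) (nat_lit 230) (nat_lit 0),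
  Rule.mk (nat_lit 0) (nat_lit 67) (Steps.bwd (nat_lit 0) (Steps.fwd (nat_lit 94208) (Steps.fwd (nat_lit 0) (Steps.fwd (nat_lit 98304) Steps.nil)))) (nat_lit 230) (nat_lit 0),
  Rule.mk (nat_lit 0) (nat_lit 67) (Steps.bwd (nat_lit 0) (Steps.fwd (nat_lit 12288) (Steps.fwd (nat_lit 0) (Steps.fwd (nat_lit 12288) Steps.nil)))) (nat_lit 230) (nat_lit 0),
  Rule.mk (nat_lit 0) (nat_lit 67) (Steps.bwd (nat_lit 0) (Steps.bwd (nat_lit 4) (Steps.bwd (nat_lit 0) (Steps.fwd (nat_lit 16384) Steps.nil)))) (nat_lit 230) (nat_lit 0),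
  Rule.mk (nat_lit 0) (nat_lit 67) (Steps.bwd (nat_lit 0) (Steps.fwd (nat_lit 32768) (Steps.fwd (nat_lit 0) (Steps.bwd (nat_lit 8) Steps.nil)))) (nat_lit 230) (nat_lit 0),
  Rule.mk (nat_lit 0) (nat_lit 67) (Steps.bwd (nat_lit 0) (Steps.fwd (nat_lit 28672) (Steps.bwd (nat_lit 0) (Steps.fwd (nat_lit 32768) Steps.nil)))) (nat_lit 230) (nat_lit 0),
  Rule.mk (nat_lit 0) (nat_lit 53) (Steps.bwd (nat_lit 9) (Steps.bwd (nat_lit 0) (Steps.fwd (nat_lit 36864) Steps.nil))) (nat_lit 230) (nat_lit 0),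
  Rule.mk (nat_lit 0) (nat_lit 53) (Steps.bwd (nat_lit 10) (Steps.bwd (nat_lit 0) (Steps.fwd (nat_lit 40960) Steps.nil))) (nat_lit 230) (nat_lit 0),
  Rule.mk (nat_lit 0) (nat_lit 67) (Steps.bwd (nat_lit 24) (Steps.bwd (nat_lit 0) (Steps.fwd (nat_lit 98304) (Steps.fwd (nat_lit 0) Steps.nil)))) (nat_lit 230) (nat_lit 0),
  Rule.mk (nat_lit 0) (nat_lit 67) (Steps.fwd (nat_lit 12288) (Steps.fwd (nat_lit 0) (Steps.bwd (nat_lit 3) (Steps.fwd (nat_lit 0) Steps.nil)))) (nat_lit 230) (nat_lit 0),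
  Rule.mk (nat_lit 0) (nat_lit 67) (Steps.bwd (nat_lit 0) (Steps.bwd (nat_lit 12) (Steps.fwd (nat_lit 0) (Steps.bwd (nat_lit 11) Steps.nil)))) (nat_lit 230) (nat_lit 0),
  Rule.mk (nat_lit 0) (nat_lit 53) (Steps.bwd (nat_lit 24) (Steps.bwd (nat_lit 0) (Steps.bwd (nat_lit 23) Steps.nil))) (nat_lit 230) (nat_lit 0),
  Rule.mk (nat_lit 0) (nat_lit 67) (Steps.bwd (nat_lit 0) (Steps.fwd (nat_lit 28672) (Steps.fwd (nat_lit 0) (Steps.bwd (nat_lit 7) Steps.nil)))) (nat_lit 230) (nat_lit 0),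
  Rule.mk (nat_lit 0) (nat_lit 67) (Steps.bwd (nat_lit 0) (Steps.fwd (nat_lit 49152) (Steps.bwd (nat_lit 0) (Steps.fwd (nat_lit 45056) Steps.nil)))) (nat_lit 230) (nat_lit 0),
  Rule.mk (nat_lit 0) (nat_lit 67) (Steps.fwd (nat_lit 94208) (Steps.bwd (nat_lit 0) (Steps.fwd (nat_lit 98304) (Steps.fwd (nat_lit 0) Steps.nil)))) (nat_lit 230) (nat_lit 0),
  Rule.mk (nat_lit 0) (nat_lit 67) (Steps.bwd (nat_lit 2) (Steps.bwd (nat_lit 0) (Steps.fwd (nat_lit 8192) (Steps.fwd (nat_lit 0) Steps.nil)))) (nat_lit 230) (nat_lit 0),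
  Rule.mk (nat_lit 0) (nat_lit 67) (Steps.bwd (nat_lit 0) (Steps.fwd (nat_lit 94208) (Steps.fwd (nat_lit 0) (Steps.bwd (nat_lit 23) Steps.nil)))) (nat_lit 230) (nat_lit 0),
  Rule.mk (nat_lit 2) (nat_lit 53) (Steps.bwd (nat_lit 0) (Steps.bwd (nat_lit 2) (Steps.fwd (nat_lit 0) Steps.nil))) (nat_lit 230) (nat_lit 0),
  Rule.mk (nat_lit 0) (nat_lit 67) (Steps.fwd (nat_lit 36864) (Steps.fwd (nat_lit 0) (Steps.fwd (nat_lit 40960) (Steps.fwd (nat_lit 0) Steps.nil)))) (nat_lit 230) (nat_lit 0),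
  Rule.mk (nat_lit 0) (nat_lit 81) (Steps.bwd (nat_lit 0) (Steps.fwd (nat_lit 36864) (Steps.fwd (nat_lit 0) (Steps.fwd (nat_lit 40960) (Steps.fwd (nat_lit 0) Steps.nil))))) (nat_lit 230) (nat_lit 0),
  Rule.mk (nat_lit 3) (nat_lit 53) (Steps.bwd (nat_lit 0) (Steps.bwd (nat_lit 3) (Steps.fwd (nat_lit 0) Steps.nil))) (nat_lit 230) (nat_lit 0),
  Rule.mk (nat_lit 0) (nat_lit 53) (Steps.bwd (nat_lit 3) (Steps.bwd (nat_lit 0) (Steps.bwd (nat_lit 3) Steps.nil))) (nat_lit 230) (nat_lit 0),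
  Rule.mk (nat_lit 5) (nat_lit 53) (Steps.bwd (nat_lit 0) (Steps.fwd (nat_lit 20480) (Steps.fwd (nat_lit 0) Steps.nil))) (nat_lit 230) (nat_lit 0),
  Rule.mk (nat_lit 9) (nat_lit 67) (Steps.fwd (nat_lit 8192) (Steps.fwd (nat_lit 4096) (Steps.fwd (nat_lit 45056) (Steps.bwd (nat_lit 9) Steps.nil)))) (nat_lit 46) (nat_lit 2),
  Rule.mk (nat_lit 0) (nat_lit 67) (Steps.fwd (nat_lit 16384) (Steps.fwd (nat_lit 36864) (Steps.fwd (nat_lit 16384) (Steps.bwd (nat_lit 9) Steps.nil)))) (nat_lit 40) (nat_lit 3),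
  Rule.mk (nat_lit 0) (nat_lit 53) (Steps.fwd (nat_lit 16384) (Steps.bwd (nat_lit 0) (Steps.fwd (nat_lit 16384) Steps.nil))) (nat_lit 230) (nat_lit 0),
  Rule.mk (nat_lit 10) (nat_lit 53) (Steps.bwd (nat_lit 8) (Steps.bwd (nat_lit 9) (Steps.fwd (nat_lit 28672) Steps.nil))) (nat_lit 39) (nat_lit 2),
  Rule.mk (nat_lit 2) (nat_lit 53) (Steps.bwd (nat_lit 8) (Steps.fwd (nat_lit 8192) (Steps.fwd (nat_lit 32768) Steps.nil))) (nat_lit 30) (nat_lit 0),
  Rule.mk (nat_lit 2) (nat_lit 67) (Steps.bwd (nat_lit 16) (Steps.bwd (nat_lit 10) (Steps.fwd (nat_lit 8192) (Steps.fwd (nat_lit 40960) Steps.nil)))) (nat_lit 50) (nat_lit 4),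
  Rule.mk (nat_lit 2) (nat_lit 739) (Steps.fwd (nat_lit 12288) (Steps.fwd (nat_lit 20480) (Steps.fwd (nat_lit 16384) (Steps.fwd (nat_lit 12288) (Steps.fwd (nat_lit 8192) (Steps.bwd (nat_lit 3) (Steps.bwd (nat_lit 4) (Steps.bwd (nat_lit 5) (Steps.bwd (nat_lit 4) (Steps.fwd (nat_lit 24576) (Steps.fwd (nat_lit 16384) (Steps.fwd (nat_lit 12288) (Steps.fwd (nat_lit 8192) (Steps.fwd (nat_lit 12288) (Steps.bwd (nat_lit 4) (Steps.fwd (nat_lit 24576) (Steps.fwd (nat_lit 16384) (Steps.fwd (nat_lit 12288) (Steps.fwd (nat_lit 8192) (Steps.fwd (nat_lit 12288) (Steps.bwd (nat_lit 4) (Steps.bwd (nat_lit 6) (Steps.bwd (nat_lit 6) (Steps.bwd (nat_lit 6) (Steps.bwd (nat_lit 4) (Steps.fwd (nat_lit 12288) (Steps.fwd (nat_lit 8192) (Steps.fwd (nat_lit 12288) (Steps.fwd (nat_lit 16384) (Steps.bwd (nat_lit 6) (Steps.fwd (nat_lit 16384) (Steps.fwd (nat_lit 12288) (Steps.fwd (nat_lit 8192) (Steps.fwd (nat_lit 12288) (Steps.bwd (nat_lit 4) (Steps.fwd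 (nat_lit 24576) (Steps.fwd (nat_lit 24576) (Steps.fwd (nat_lit 8192) (Steps.fwd (nat_lit 12288) (Steps.fwd (nat_lit 16384) (Steps.fwd (nat_lit 20480) (Steps.fwd (nat_lit 16384) (Steps.fwd (nat_lit 12288) (Steps.fwd (nat_lit 8192) (Steps.bwd (nat_lit 3) (Steps.fwd (nat_lit 16384) (Steps.bwd (nat_lit 5) (Steps.fwd (nat_lit 16384) (Steps.fwd (nat_lit 8192) (Steps.bwd (nat_lit 3) (Steps.fwd (nat_lit 16384) (Steps.fwd (nat_lit 12288) Steps.nil)))))))))))))))))))))))))))))))))))))))))))))))))))) (nat_lit 44) (nat_lit 16),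
  Rule.mk (nat_lit 9) (nat_lit 67) (Steps.fwd (nat_lit 40960) (Steps.fwd (nat_lit 8192) (Steps.fwd (nat_lit 4096) (Steps.fwd (nat_lit 45056) Steps.nil)))) (nat_lit 46) (nat_lit 1),
  Rule.mk (nat_lit 2) (nat_lit 739) (Steps.fwd (nat_lit 12288) (Steps.bwd (nat_lit 4) (Steps.bwd (nat_lit 6) (Steps.fwd (nat_lit 16384) (Steps.fwd (nat_lit 12288) (Steps.fwd (nat_lit 8192) (Steps.fwd (nat_lit 12288) (Steps.bwd (nat_lit 4) (Steps.fwd (nat_lit 24576) (Steps.fwd (nat_lit 24576) (Steps.fwd (nat_lit 8192) (Steps.bwd (nat_lit 3) (Steps.fwd (nat_lit 16384) (Steps.fwd (nat_lit 20480) (Steps.fwd (nat_lit 16384) (Steps.bwd (nat_lit 3) (Steps.fwd (nat_lit 8192) (Steps.fwd (nat_lit 12288) (Steps.fwd (nat_lit 16384) (Steps.bwd (nat_lit 5) (Steps.fwd (nat_lit 16384) (Steps.fwd (nat_lit 8192) (Steps.fwd (nat_lit 12288) (Steps.fwd (nat_lit 16384) (Steps.fwd (nat_lit 12288) (Steps.fwd (nat_lit 8192) (Steps.fwd (nat_lit 12288) (Steps.fwd (nat_lit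 20480) (Steps.fwd (nat_lit 16384) (Steps.fwd (nat_lit 12288) (Steps.fwd (nat_lit 8192) (Steps.bwd (nat_lit 3) (Steps.bwd (nat_lit 4) (Steps.bwd (nat_lit 5) (Steps.bwd (nat_lit 4) (Steps.fwd (nat_lit 24576) (Steps.fwd (nat_lit 16384) (Steps.fwd (nat_lit 12288) (Steps.fwd (nat_lit 8192) (Steps.fwd (nat_lit 12288) (Steps.bwd (nat_lit 4) (Steps.bwd (nat_lit 5) (Steps.fwd (nat_lit 16384) (Steps.fwd (nat_lit 12288) (Steps.fwd (nat_lit 8192) (Steps.fwd (nat_lit 12288) (Steps.bwd (nat_lit 4) (Steps.fwd (nat_lit 20480) (Steps.bwd (nat_lit 6) (Steps.bwd (nat_lit 6) (Steps.fwd (nat_lit 16384) (Steps.fwd (nat_lit 12288) Steps.nil)))))))))))))))))))))))))))))))))))))))))))))))))))) (nat_lit 44) (nat_lit 43),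
  Rule.mk (nat_lit 9) (nat_lit 585) (Steps.fwd (nat_lit 24576) (Steps.fwd (nat_lit 24576) (Steps.bwd (nat_lit 3) (Steps.fwd (nat_lit 20480) (Steps.fwd (nat_lit 20480) (Steps.bwd (nat_lit 9) (Steps.fwd (nat_lit 16384) (Steps.fwd (nat_lit 12288) (Steps.fwd (nat_lit 8192) (Steps.fwd (nat_lit 12288) (Steps.bwd (nat_lit 4) (Steps.bwd (nat_lit 5) (Steps.bwd (nat_lit 5) (Steps.fwd (nat_lit 24576) (Steps.fwd (nat_lit 16384) (Steps.fwd (nat_lit 12288) (Steps.fwd (nat_lit 8192) (Steps.fwd (nat_lit 12288) (Steps.bwd (nat_lit 4) (Steps.bwd (nat_lit 6) (Steps.bwd (nat_lit 3) (Steps.fwd (nat_lit 8192) (Steps.fwd (nat_lit 12288) (Steps.fwd (nat_lit 8192) (Steps.fwd (nat_lit 4096) (Steps.bwd (nat_lit 24) (Steps.bwd (nat_lit 3) (Steps.bwd (nat_lit 6) (Steps.bwd (nat_lit 6) (Steps.fwd (nat_lit 40960) (Steps.fwd (nat_lit 24576) (Steps.bwd (nat_lit 5) (Steps.bwd (nat_lit 3) (Steps.bwd (nat_lit 6) (Steps.bwd (nat_lit 6) (Steps.bwd (nat_lit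 9) (Steps.fwd (nat_lit 24576) (Steps.fwd (nat_lit 24576) (Steps.fwd (nat_lit 12288) (Steps.fwd (nat_lit 20480) (Steps.fwd (nat_lit 20480) Steps.nil))))))))))))))))))))))))))))))))))))))))) (nat_lit 58) (nat_lit 16),
  Rule.mk (nat_lit 2) (nat_lit 53) (Steps.fwd (nat_lit 49152) (Steps.fwd (nat_lit 8192) (Steps.bwd (nat_lit 12) Steps.nil))) (nat_lit 62) (nat_lit 2),
  Rule.mk (nat_lit 11) (nat_lit 53) (Steps.fwd (nat_lit 20480) (Steps.bwd (nat_lit 12) (Steps.fwd (nat_lit 24576) Steps.nil))) (nat_lit 69) (nat_lit 0),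
  Rule.mk (nat_lit 10) (nat_lit 53) (Steps.fwd (nat_lit 49152) (Steps.bwd (nat_lit 9) (Steps.bwd (nat_lit 12) Steps.nil))) (nat_lit 72) (nat_lit 2),
  Rule.mk (nat_lit 24) (nat_lit 53) (Steps.fwd (nat_lit 49152) (Steps.fwd (nat_lit 98304) (Steps.bwd (nat_lit 12) Steps.nil))) (nat_lit 189) (nat_lit 2)]
noncomputable def R_23 : List (Rule) := [Rule.mk (nat_lit 21) (nat_lit 53) (Steps.fwd (nat_lit 20480) (Steps.bwd (nat_lit 22) (Steps.fwd (nat_lit 24576) Steps.nil))) (nat_lit 159) (nat_lit 0),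
  Rule.mk (nat_lit 24) (nat_lit 53) (Steps.fwd (nat_lit 90112) (Steps.fwd (nat_lit 98304) (Steps.bwd (nat_lit 22) Steps.nil))) (nat_lit 199) (nat_lit 2),
  Rule.mk (nat_lit 2) (nat_lit 53) (Steps.fwd (nat_lit 98304) (Steps.fwd (nat_lit 8192) (Steps.bwd (nat_lit 24) Steps.nil))) (nat_lit 176) (nat_lit 2),
  Rule.mk (nat_lit 21) (nat_lit 53) (Steps.bwd (nat_lit 24) (Steps.fwd (nat_lit 86016) (Steps.fwd (nat_lit 98304) Steps.nil))) (nat_lit 198) (nat_lit 0),
  Rule.mk (nat_lit 22) (nat_lit 53) (Steps.fwd (nat_lit 12288) (Steps.bwd (nat_lit 21) (Steps.fwd (nat_lit 12288) Steps.nil))) (nat_lit 154) (nat_lit 1),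
  Rule.mk (nat_lit 24) (nat_lit 53) (Steps.fwd (nat_lit 86016) (Steps.fwd (nat_lit 98304) (Steps.bwd (nat_lit 21) Steps.nil))) (nat_lit 198) (nat_lit 1),
  Rule.mk (nat_lit 9) (nat_lit 53) (Steps.bwd (nat_lit 23) (Steps.fwd (nat_lit 36864) (Steps.fwd (nat_lit 94208) Steps.nil))) (nat_lit 187) (nat_lit 3),
  Rule.mk (nat_lit 9) (nat_lit 585) (Steps.fwd (nat_lit 24576) (Steps.fwd (nat_lit 24576) (Steps.fwd (nat_lit 12288) (Steps.fwd (nat_lit 20480) (Steps.fwd (nat_lit 20480) (Steps.bwd (nat_lit 9) (Steps.fwd (nat_lit 24576) (Steps.fwd (nat_lit 24576) (Steps.fwd (nat_lit 12288) (Steps.fwd (nat_lit 20480) (Steps.fwd (nat_lit 20480) (Steps.bwd (nat_lit 9) (Steps.fwd (nat_lit 16384) (Steps.fwd (nat_lit 12288) (Steps.fwd (nat_lit 8192) (Steps.fwd (nat_lit 12288) (Steps.bwd (nat_lit 4) (Steps.fwd (nat_lit 24576) (Steps.fwd (nat_lit 24576) (Steps.fwd (nat_lit 24576) (Steps.bwd (nat_lit 4) (Steps.fwd (nat_lit 12288) (Steps.fwd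 (nat_lit 8192) (Steps.fwd (nat_lit 12288) (Steps.fwd (nat_lit 16384) (Steps.bwd (nat_lit 6) (Steps.fwd (nat_lit 12288) (Steps.fwd (nat_lit 8192) (Steps.bwd (nat_lit 3) (Steps.fwd (nat_lit 8192) (Steps.fwd (nat_lit 4096) (Steps.fwd (nat_lit 94208) (Steps.fwd (nat_lit 12288) (Steps.bwd (nat_lit 6) (Steps.bwd (nat_lit 6) (Steps.fwd (nat_lit 40960) (Steps.fwd (nat_lit 24576) (Steps.fwd (nat_lit 24576) (Steps.fwd (nat_lit 12288) (Steps.fwd (nat_lit 20480) (Steps.bwd (nat_lit 6) Steps.nil))))))))))))))))))))))))))))))))))))))))) (nat_lit 58) (nat_lit 10),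
  Rule.mk (nat_lit 2) (nat_lit 67) (Steps.bwd (nat_lit 16) (Steps.fwd (nat_lit 36864) (Steps.fwd (nat_lit 8192) (Steps.bwd (nat_lit 9) Steps.nil)))) (nat_lit 50) (nat_lit 4),
  Rule.mk (nat_lit 1) (nat_lit 67) (Steps.fwd (nat_lit 45056) (Steps.bwd (nat_lit 9) (Steps.fwd (nat_lit 40960) (Steps.fwd (nat_lit 8192) Steps.nil)))) (nat_lit 46) (nat_lit 4),
  Rule.mk (nat_lit 0) (nat_lit 81) (Steps.fwd (nat_lit 36864) (Steps.fwd (nat_lit 49152) (Steps.fwd (nat_lit 4096) (Steps.fwd (nat_lit 8192) (Steps.fwd (nat_lit 36864) Steps.nil))))) (nat_lit 47) (nat_lit 4),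
  Rule.mk (nat_lit 12) (nat_lit 67) (Steps.bwd (nat_lit 9) (Steps.fwd (nat_lit 40960) (Steps.fwd (nat_lit 8192) (Steps.fwd (nat_lit 4096) Steps.nil)))) (nat_lit 46) (nat_lit 0),
  Rule.mk (nat_lit 0) (nat_lit 81) (Steps.fwd (nat_lit 36864) (Steps.bwd (nat_lit 11) (Steps.fwd (nat_lit 4096) (Steps.fwd (nat_lit 8192) (Steps.fwd (nat_lit 36864) Steps.nil))))) (nat_lit 47) (nat_lit 4),
  Rule.mk (nat_lit 2) (nat_lit 263) (Steps.fwd (nat_lit 4096) (Steps.bwd (nat_lit 21) (Steps.fwd (nat_lit 36864) (Steps.fwd (nat_lit 20480) (Steps.bwd (nat_lit 9) (Steps.bwd (nat_lit 5) (Steps.fwd (nat_lit 36864) (Steps.fwd (nat_lit 20480) (Steps.bwd (nat_lit 9) (Steps.bwd (nat_lit 5) (Steps.fwd (nat_lit 36864) (Steps.fwd (nat_lit 20480) (Steps.bwd (nat_lit 9) (Steps.bwd (nat_lit 5) (Steps.bwd (nat_lit 10) (Steps.bwd (nat_lit 6) (Steps.fwd (nat_lit 40960) (Steps.bwd (nat_lit 5) Steps.nil)))))))))))))))))) (nat_lit 57) (nat_lit 18),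
  Rule.mk (nat_lit 9) (nat_lit 67) (Steps.fwd (nat_lit 8192) (Steps.fwd (nat_lit 4096) (Steps.bwd (nat_lit 12) (Steps.fwd (nat_lit 40960) Steps.nil)))) (nat_lit 46) (nat_lit 2),
  Rule.mk (nat_lit 11) (nat_lit 53) (Steps.fwd (nat_lit 24576) (Steps.bwd (nat_lit 12) (Steps.fwd (nat_lit 20480) Steps.nil))) (nat_lit 68) (nat_lit 3),
  Rule.mk (nat_lit 5) (nat_lit 53) (Steps.fwd (nat_lit 49152) (Steps.fwd (nat_lit 20480) (Steps.bwd (nat_lit 12) Steps.nil))) (nat_lit 69) (nat_lit 3),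
  Rule.mk (nat_lit 10) (nat_lit 53) (Steps.bwd (nat_lit 11) (Steps.fwd (nat_lit 40960) (Steps.bwd (nat_lit 12) Steps.nil))) (nat_lit 72) (nat_lit 2),
  Rule.mk (nat_lit 22) (nat_lit 53) (Steps.fwd (nat_lit 24576) (Steps.bwd (nat_lit 21) (Steps.fwd (nat_lit 20480) Steps.nil))) (nat_lit 159) (nat_lit 2),
  Rule.mk (nat_lit 21) (nat_lit 53) (Steps.fwd (nat_lit 24576) (Steps.bwd (nat_lit 22) (Steps.fwd (nat_lit 20480) Steps.nil))) (nat_lit 158) (nat_lit 3),
  Rule.mk (nat_lit 11) (nat_lit 53) (Steps.bwd (nat_lit 22) (Steps.fwd (nat_lit 45056) (Steps.bwd (nat_lit 21) Steps.nil))) (nat_lit 164) (nat_lit 0),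
  Rule.mk (nat_lit 12) (nat_lit 67) (Steps.fwd (nat_lit 40960) (Steps.bwd (nat_lit 9) (Steps.fwd (nat_lit 8192) (Steps.fwd (nat_lit 4096) Steps.nil)))) (nat_lit 46) (nat_lit 0),
  Rule.mk (nat_lit 3) (nat_lit 53) (Steps.bwd (nat_lit 11) (Steps.bwd (nat_lit 3) (Steps.fwd (nat_lit 45056) Steps.nil))) (nat_lit 64) (nat_lit 2),
  Rule.mk (nat_lit 2) (nat_lit 67) (Steps.bwd (nat_lit 9) (Steps.fwd (nat_lit 8192) (Steps.fwd (nat_lit 61440) (Steps.fwd (nat_lit 36864) Steps.nil)))) (nat_lit 50) (nat_lit 2),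
  Rule.mk (nat_lit 7) (nat_lit 53) (Steps.bwd (nat_lit 12) (Steps.fwd (nat_lit 28672) (Steps.bwd (nat_lit 11) Steps.nil))) (nat_lit 70) (nat_lit 0),
  Rule.mk (nat_lit 8) (nat_lit 53) (Steps.bwd (nat_lit 12) (Steps.fwd (nat_lit 32768) (Steps.bwd (nat_lit 11) Steps.nil))) (nat_lit 71) (nat_lit 1),
  Rule.mk (nat_lit 11) (nat_lit 53) (Steps.fwd (nat_lit 32768) (Steps.bwd (nat_lit 12) (Steps.bwd (nat_lit 8) Steps.nil))) (nat_lit 70) (nat_lit 3),
  Rule.mk (nat_lit 22) (nat_lit 53) (Steps.fwd (nat_lit 32768) (Steps.bwd (nat_lit 21) (Steps.bwd (nat_lit 8) Steps.nil))) (nat_lit 161) (nat_lit 2),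
  Rule.mk (nat_lit 2) (nat_lit 53) (Steps.fwd (nat_lit 28672) (Steps.fwd (nat_lit 8192) (Steps.bwd (nat_lit 7) Steps.nil))) (nat_lit 30) (nat_lit 0),
  Rule.mk (nat_lit 2) (nat_lit 67) (Steps.fwd (nat_lit 40960) (Steps.fwd (nat_lit 8192) (Steps.fwd (nat_lit 61440) (Steps.bwd (nat_lit 10) Steps.nil)))) (nat_lit 50) (nat_lit 2),
  Rule.mk (nat_lit 12) (nat_lit 67) (Steps.fwd (nat_lit 40960) (Steps.fwd (nat_lit 40960) (Steps.fwd (nat_lit 8192) (Steps.fwd (nat_lit 4096) Steps.nil)))) (nat_lit 46) (nat_lit 0),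
  Rule.mk (nat_lit 6) (nat_lit 53) (Steps.bwd (nat_lit 12) (Steps.bwd (nat_lit 5) (Steps.bwd (nat_lit 11) Steps.nil))) (nat_lit 69) (nat_lit 1),
  Rule.mk (nat_lit 10) (nat_lit 81) (Steps.bwd (nat_lit 6) (Steps.bwd (nat_lit 10) (Steps.bwd (nat_lit 6) (Steps.fwd (nat_lit 40960) (Steps.bwd (nat_lit 6) Steps.nil))))) (nat_lit 43) (nat_lit 8),
  Rule.mk (nat_lit 2) (nat_lit 67) (Steps.bwd (nat_lit 10) (Steps.bwd (nat_lit 10) (Steps.fwd (nat_lit 49152) (Steps.fwd (nat_lit 4096) Steps.nil)))) (nat_lit 47) (nat_lit 3),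
  Rule.mk (nat_lit 9) (nat_lit 81) (Steps.fwd (nat_lit 20480) (Steps.fwd (nat_lit 36864) (Steps.bwd (nat_lit 6) (Steps.bwd (nat_lit 10) (Steps.bwd (nat_lit 6) Steps.nil))))) (nat_lit 43) (nat_lit 2),
  Rule.mk (nat_lit 3) (nat_lit 53) (Steps.bwd (nat_lit 22) (Steps.fwd (nat_lit 12288) (Steps.bwd (nat_lit 21) Steps.nil))) (nat_lit 154) (nat_lit 0),
  Rule.mk (nat_lit 1) (nat_lit 123) (Steps.bwd (nat_lit 3) (Steps.fwd (nat_lit 8192) (Steps.fwd (nat_lit 12288) (Steps.fwd (nat_lit 8192) (Steps.bwd (nat_lit 3) (Steps.fwd (nat_lit 8192) (Steps.fwd (nat_lit 12288) (Steps.fwd (nat_lit 8192) Steps.nil)))))))) (nat_lit 10) (nat_lit 1),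
  Rule.mk (nat_lit 12) (nat_lit 53) (Steps.fwd (nat_lit 20480) (Steps.bwd (nat_lit 11) (Steps.bwd (nat_lit 5) Steps.nil))) (nat_lit 68) (nat_lit 1),
  Rule.mk (nat_lit 22) (nat_lit 53) (Steps.fwd (nat_lit 20480) (Steps.bwd (nat_lit 21) (Steps.fwd (nat_lit 24576) Steps.nil))) (nat_lit 158) (nat_lit 1),
  Rule.mk (nat_lit 22) (nat_lit 53) (Steps.bwd (nat_lit 12) (Steps.bwd (nat_lit 21) (Steps.bwd (nat_lit 11) Steps.nil))) (nat_lit 164) (nat_lit 1),
  Rule.mk (nat_lit 7) (nat_lit 67) (Steps.bwd (nat_lit 5) (Steps.bwd (nat_lit 5) (Steps.fwd (nat_lit 28672) (Steps.fwd (nat_lit 20480) Steps.nil)))) (nat_lit 37) (nat_lit 0),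
  Rule.mk (nat_lit 12) (nat_lit 53) (Steps.fwd (nat_lit 28672) (Steps.bwd (nat_lit 11) (Steps.bwd (nat_lit 7) Steps.nil))) (nat_lit 70) (nat_lit 1),
  Rule.mk (nat_lit 21) (nat_lit 53) (Steps.fwd (nat_lit 28672) (Steps.bwd (nat_lit 22) (Steps.bwd (nat_lit 7) Steps.nil))) (nat_lit 161) (nat_lit 0),
  Rule.mk (nat_lit 23) (nat_lit 53) (Steps.bwd (nat_lit 21) (Steps.fwd (nat_lit 94208) (Steps.fwd (nat_lit 86016) Steps.nil))) (nat_lit 198) (nat_lit 3),
  Rule.mk (nat_lit 10) (nat_lit 53) (Steps.bwd (nat_lit 12) (Steps.bwd (nat_lit 9) (Steps.bwd (nat_lit 11) Steps.nil))) (nat_lit 73) (nat_lit 1),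
  Rule.mk (nat_lit 21) (nat_lit 53) (Steps.bwd (nat_lit 9) (Steps.bwd (nat_lit 22) (Steps.bwd (nat_lit 10) Steps.nil))) (nat_lit 162) (nat_lit 3),
  Rule.mk (nat_lit 22) (nat_lit 53) (Steps.bwd (nat_lit 9) (Steps.bwd (nat_lit 21) (Steps.bwd (nat_lit 10) Steps.nil))) (nat_lit 163) (nat_lit 2),
  Rule.mk (nat_lit 8) (nat_lit 53) (Steps.bwd (nat_lit 11) (Steps.bwd (nat_lit 7) (Steps.fwd (nat_lit 45056) Steps.nil))) (nat_lit 70) (nat_lit 2),
  Rule.mk (nat_lit 24) (nat_lit 53) (Steps.bwd (nat_lit 7) (Steps.bwd (nat_lit 23) (Steps.fwd (nat_lit 28672) Steps.nil))) (nat_lit 185) (nat_lit 2),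
  Rule.mk (nat_lit 23) (nat_lit 53) (Steps.bwd (nat_lit 11) (Steps.bwd (nat_lit 24) (Steps.fwd (nat_lit 45056) Steps.nil))) (nat_lit 188) (nat_lit 3),
  Rule.mk (nat_lit 24) (nat_lit 53) (Steps.bwd (nat_lit 6) (Steps.bwd (nat_lit 23) (Steps.bwd (nat_lit 5) Steps.nil))) (nat_lit 182) (nat_lit 1),
  Rule.mk (nat_lit 23) (nat_lit 53) (Steps.fwd (nat_lit 32768) (Steps.bwd (nat_lit 24) (Steps.fwd (nat_lit 28672) Steps.nil))) (nat_lit 184) (nat_lit 3),
  Rule.mk (nat_lit 7) (nat_lit 53) (Steps.fwd (nat_lit 98304) (Steps.bwd (nat_lit 8) (Steps.bwd (nat_lit 24) Steps.nil))) (nat_lit 185) (nat_lit 3),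
  Rule.mk (nat_lit 10) (nat_lit 53) (Steps.bwd (nat_lit 23) (Steps.fwd (nat_lit 40960) (Steps.bwd (nat_lit 24) Steps.nil))) (nat_lit 186) (nat_lit 2),
  Rule.mk (nat_lit 1) (nat_lit 53) (Steps.fwd (nat_lit 98304) (Steps.fwd (nat_lit 4096) (Steps.bwd (nat_lit 24) Steps.nil))) (nat_lit 174) (nat_lit 2),
  Rule.mk (nat_lit 24) (nat_lit 53) (Steps.fwd (nat_lit 40960) (Steps.bwd (nat_lit 23) (Steps.fwd (nat_lit 36864) Steps.nil))) (nat_lit 187) (nat_lit 2),
  Rule.mk (nat_lit 7) (nat_lit 53) (Steps.bwd (nat_lit 23) (Steps.fwd (nat_lit 28672) (Steps.bwd (nat_lit 24) Steps.nil))) (nat_lit 185) (nat_lit 3),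
  Rule.mk (nat_lit 24) (nat_lit 53) (Steps.fwd (nat_lit 32768) (Steps.bwd (nat_lit 23) (Steps.bwd (nat_lit 8) Steps.nil))) (nat_lit 185) (nat_lit 2),
  Rule.mk (nat_lit 24) (nat_lit 53) (Steps.bwd (nat_lit 7) (Steps.fwd (nat_lit 98304) (Steps.fwd (nat_lit 28672) Steps.nil))) (nat_lit 185) (nat_lit 2),
  Rule.mk (nat_lit 6) (nat_lit 67) (Steps.bwd (nat_lit 7) (Steps.bwd (nat_lit 5) (Steps.bwd (nat_lit 5) (Steps.fwd (nat_lit 28672) Steps.nil)))) (nat_lit 37) (nat_lit 4),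
  Rule.mk (nat_lit 8) (nat_lit 53) (Steps.bwd (nat_lit 3) (Steps.bwd (nat_lit 7) (Steps.bwd (nat_lit 3) Steps.nil))) (nat_lit 32) (nat_lit 1),
  Rule.mk (nat_lit 24) (nat_lit 53) (Steps.fwd (nat_lit 36864) (Steps.bwd (nat_lit 23) (Steps.fwd (nat_lit 40960) Steps.nil))) (nat_lit 186) (nat_lit 1),
  Rule.mk (nat_lit 23) (nat_lit 53) (Steps.bwd (nat_lit 10) (Steps.bwd (nat_lit 24) (Steps.bwd (nat_lit 9) Steps.nil))) (nat_lit 187) (nat_lit 0),
  Rule.mk (nat_lit 24) (nat_lit 53) (Steps.bwd (nat_lit 9) (Steps.bwd (nat_lit 23) (Steps.bwd (nat_lit 10) Steps.nil))) (nat_lit 187) (nat_lit 2)]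
noncomputable def R_24 : List (Rule) := [Rule.mk (nat_lit 4) (nat_lit 53) (Steps.bwd (nat_lit 23) (Steps.bwd (nat_lit 4) (Steps.fwd (nat_lit 94208) Steps.nil))) (nat_lit 180) (nat_lit 2),
  Rule.mk (nat_lit 9) (nat_lit 585) (Steps.fwd (nat_lit 24576) (Steps.fwd (nat_lit 24576) (Steps.fwd (nat_lit 12288) (Steps.fwd (nat_lit 20480) (Steps.fwd (nat_lit 20480) (Steps.fwd (nat_lit 40960) (Steps.fwd (nat_lit 16384) (Steps.fwd (nat_lit 12288) (Steps.fwd (nat_lit 8192) (Steps.fwd (nat_lit 12288) (Steps.bwd (nat_lit 4) (Steps.fwd (nat_lit 24576) (Steps.fwd (nat_lit 24576) (Steps.bwd (nat_lit 5) (Steps.fwd (nat_lit 16384) (Steps.fwd (nat_lit 12288) (Steps.fwd (nat_lit 8192) (Steps.fwd (nat_lit 12288) (Steps.bwd (nat_lit 4) (Steps.fwd (nat_lit 20480) (Steps.bwd (nat_lit 3) (Steps.fwd (nat_lit 8192) (Steps.fwd (nat_lit 12288) (Steps.fwd (nat_lit 8192) (Steps.fwd (nat_lit 4096) (Steps.bwd (nat_lit 24) (Steps.fwd (nat_lit 12288)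 (Steps.bwd (nat_lit 6) (Steps.fwd (nat_lit 20480) (Steps.bwd (nat_lit 9) (Steps.bwd (nat_lit 5) (Steps.bwd (nat_lit 5) (Steps.fwd (nat_lit 12288) (Steps.bwd (nat_lit 6) (Steps.fwd (nat_lit 20480) (Steps.bwd (nat_lit 9) (Steps.fwd (nat_lit 24576) (Steps.fwd (nat_lit 24576) (Steps.fwd (nat_lit 12288) (Steps.fwd (nat_lit 20480) (Steps.fwd (nat_lit 20480) Steps.nil))))))))))))))))))))))))))))))))))))))))) (nat_lit 58) (nat_lit 16),
  Rule.mk (nat_lit 24) (nat_lit 53) (Steps.bwd (nat_lit 10) (Steps.fwd (nat_lit 98304) (Steps.bwd (nat_lit 9) Steps.nil))) (nat_lit 186) (nat_lit 1),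
  Rule.mk (nat_lit 23) (nat_lit 53) (Steps.fwd (nat_lit 28672) (Steps.bwd (nat_lit 24) (Steps.bwd (nat_lit 7) Steps.nil))) (nat_lit 185) (nat_lit 0),
  Rule.mk (nat_lit 3) (nat_lit 53) (Steps.bwd (nat_lit 7) (Steps.fwd (nat_lit 12288) (Steps.fwd (nat_lit 28672) Steps.nil))) (nat_lit 32) (nat_lit 2),
  Rule.mk (nat_lit 3) (nat_lit 53) (Steps.fwd (nat_lit 32768) (Steps.bwd (nat_lit 3) (Steps.bwd (nat_lit 8) Steps.nil))) (nat_lit 32) (nat_lit 2),
  Rule.mk (nat_lit 0) (nat_lit 67) (Steps.bwd (nat_lit 3) (Steps.bwd (nat_lit 6) (Steps.fwd (nat_lit 12288) (Steps.bwd (nat_lit 6) Steps.nil)))) (nat_lit 23) (nat_lit 0),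
  Rule.mk (nat_lit 2) (nat_lit 67) (Steps.fwd (nat_lit 4096) (Steps.bwd (nat_lit 12) (Steps.bwd (nat_lit 9) (Steps.fwd (nat_lit 40960) Steps.nil)))) (nat_lit 46) (nat_lit 3),
  Rule.mk (nat_lit 1) (nat_lit 123) (Steps.fwd (nat_lit 12288) (Steps.fwd (nat_lit 8192) (Steps.bwd (nat_lit 3) (Steps.fwd (nat_lit 8192) (Steps.fwd (nat_lit 12288) (Steps.fwd (nat_lit 8192) (Steps.bwd (nat_lit 3) (Steps.fwd (nat_lit 8192) Steps.nil)))))))) (nat_lit 10) (nat_lit 1),
  Rule.mk (nat_lit 10) (nat_lit 53) (Steps.fwd (nat_lit 98304) (Steps.bwd (nat_lit 9) (Steps.bwd (nat_lit 24) Steps.nil))) (nat_lit 186) (nat_lit 2),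
  Rule.mk (nat_lit 9) (nat_lit 53) (Steps.bwd (nat_lit 23) (Steps.bwd (nat_lit 10) (Steps.bwd (nat_lit 24) Steps.nil))) (nat_lit 187) (nat_lit 3),
  Rule.mk (nat_lit 3) (nat_lit 53) (Steps.bwd (nat_lit 7) (Steps.bwd (nat_lit 3) (Steps.bwd (nat_lit 8) Steps.nil))) (nat_lit 32) (nat_lit 2),
  Rule.mk (nat_lit 8) (nat_lit 53) (Steps.bwd (nat_lit 9) (Steps.bwd (nat_lit 8) (Steps.bwd (nat_lit 10) Steps.nil))) (nat_lit 39) (nat_lit 3),
  Rule.mk (nat_lit 7) (nat_lit 53) (Steps.fwd (nat_lit 94208) (Steps.bwd (nat_lit 8) (Steps.fwd (nat_lit 98304) Steps.nil))) (nat_lit 184) (nat_lit 0),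
  Rule.mk (nat_lit 3) (nat_lit 53) (Steps.bwd (nat_lit 7) (Steps.fwd (nat_lit 12288) (Steps.bwd (nat_lit 8) Steps.nil))) (nat_lit 32) (nat_lit 2),
  Rule.mk (nat_lit 3) (nat_lit 53) (Steps.fwd (nat_lit 32768) (Steps.fwd (nat_lit 12288) (Steps.bwd (nat_lit 8) Steps.nil))) (nat_lit 32) (nat_lit 2),
  Rule.mk (nat_lit 0) (nat_lit 67) (Steps.bwd (nat_lit 5) (Steps.fwd (nat_lit 12288) (Steps.bwd (nat_lit 5) (Steps.bwd (nat_lit 3) Steps.nil)))) (nat_lit 22) (nat_lit 0),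
  Rule.mk (nat_lit 3) (nat_lit 53) (Steps.fwd (nat_lit 20480) (Steps.bwd (nat_lit 3) (Steps.bwd (nat_lit 6) Steps.nil))) (nat_lit 23) (nat_lit 1),
  Rule.mk (nat_lit 8) (nat_lit 67) (Steps.bwd (nat_lit 5) (Steps.fwd (nat_lit 32768) (Steps.fwd (nat_lit 20480) (Steps.fwd (nat_lit 20480) Steps.nil)))) (nat_lit 36) (nat_lit 1),
  Rule.mk (nat_lit 9) (nat_lit 81) (Steps.bwd (nat_lit 5) (Steps.bwd (nat_lit 10) (Steps.bwd (nat_lit 5) (Steps.bwd (nat_lit 9) (Steps.fwd (nat_lit 24576) Steps.nil))))) (nat_lit 42) (nat_lit 5),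
  Rule.mk (nat_lit 10) (nat_lit 81) (Steps.bwd (nat_lit 5) (Steps.bwd (nat_lit 9) (Steps.bwd (nat_lit 5) (Steps.fwd (nat_lit 40960) (Steps.fwd (nat_lit 24576) Steps.nil))))) (nat_lit 42) (nat_lit 1),
  Rule.mk (nat_lit 9) (nat_lit 53) (Steps.bwd (nat_lit 12) (Steps.bwd (nat_lit 10) (Steps.bwd (nat_lit 11) Steps.nil))) (nat_lit 72) (nat_lit 0),
  Rule.mk (nat_lit 8) (nat_lit 53) (Steps.bwd (nat_lit 10) (Steps.fwd (nat_lit 28672) (Steps.bwd (nat_lit 9) Steps.nil))) (nat_lit 39) (nat_lit 1),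
  Rule.mk (nat_lit 6) (nat_lit 81) (Steps.fwd (nat_lit 36864) (Steps.fwd (nat_lit 20480) (Steps.bwd (nat_lit 9) (Steps.fwd (nat_lit 20480) (Steps.bwd (nat_lit 10) Steps.nil))))) (nat_lit 43) (nat_lit 9),
  Rule.mk (nat_lit 6) (nat_lit 95) (Steps.bwd (nat_lit 6) (Steps.bwd (nat_lit 6) (Steps.fwd (nat_lit 20480) (Steps.fwd (nat_lit 20480) (Steps.bwd (nat_lit 6) (Steps.bwd (nat_lit 6) Steps.nil)))))) (nat_lit 17) (nat_lit 0),
  Rule.mk (nat_lit 5) (nat_lit 53) (Steps.fwd (nat_lit 45056) (Steps.bwd (nat_lit 6) (Steps.fwd (nat_lit 49152) Steps.nil))) (nat_lit 68) (nat_lit 0),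
  Rule.mk (nat_lit 0) (nat_lit 81) (Steps.fwd (nat_lit 20480) (Steps.bwd (nat_lit 8) (Steps.fwd (nat_lit 24576) (Steps.fwd (nat_lit 32768) (Steps.bwd (nat_lit 6) Steps.nil))))) (nat_lit 36) (nat_lit 4),
  Rule.mk (nat_lit 0) (nat_lit 53) (Steps.fwd (nat_lit 12288) (Steps.bwd (nat_lit 0) (Steps.bwd (nat_lit 3) Steps.nil))) (nat_lit 230) (nat_lit 0),
  Rule.mk (nat_lit 24) (nat_lit 53) (Steps.bwd (nat_lit 12) (Steps.bwd (nat_lit 23) (Steps.bwd (nat_lit 11) Steps.nil))) (nat_lit 188) (nat_lit 1),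
  Rule.mk (nat_lit 23) (nat_lit 53) (Steps.bwd (nat_lit 8) (Steps.fwd (nat_lit 94208) (Steps.fwd (nat_lit 32768) Steps.nil))) (nat_lit 185) (nat_lit 0),
  Rule.mk (nat_lit 7) (nat_lit 67) (Steps.bwd (nat_lit 5) (Steps.bwd (nat_lit 5) (Steps.bwd (nat_lit 8) (Steps.bwd (nat_lit 6) Steps.nil)))) (nat_lit 37) (nat_lit 0),
  Rule.mk (nat_lit 10) (nat_lit 53) (Steps.bwd (nat_lit 7) (Steps.fwd (nat_lit 40960) (Steps.bwd (nat_lit 7) Steps.nil))) (nat_lit 38) (nat_lit 1),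
  Rule.mk (nat_lit 24) (nat_lit 53) (Steps.fwd (nat_lit 28672) (Steps.fwd (nat_lit 98304) (Steps.bwd (nat_lit 7) Steps.nil))) (nat_lit 184) (nat_lit 1),
  Rule.mk (nat_lit 9) (nat_lit 53) (Steps.fwd (nat_lit 94208) (Steps.bwd (nat_lit 10) (Steps.bwd (nat_lit 23) Steps.nil))) (nat_lit 186) (nat_lit 0),
  Rule.mk (nat_lit 23) (nat_lit 53) (Steps.bwd (nat_lit 11) (Steps.bwd (nat_lit 24) (Steps.bwd (nat_lit 12) Steps.nil))) (nat_lit 188) (nat_lit 3),
  Rule.mk (nat_lit 5) (nat_lit 81) (Steps.bwd (nat_lit 10) (Steps.bwd (nat_lit 5) (Steps.bwd (nat_lit 9) (Steps.fwd (nat_lit 24576) (Steps.bwd (nat_lit 9) Steps.nil))))) (nat_lit 42) (nat_lit 6),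
  Rule.mk (nat_lit 0) (nat_lit 67) (Steps.fwd (nat_lit 24576) (Steps.bwd (nat_lit 3) (Steps.fwd (nat_lit 24576) (Steps.fwd (nat_lit 12288) Steps.nil)))) (nat_lit 22) (nat_lit 0),
  Rule.mk (nat_lit 9) (nat_lit 67) (Steps.bwd (nat_lit 9) (Steps.fwd (nat_lit 8192) (Steps.fwd (nat_lit 4096) (Steps.fwd (nat_lit 45056) Steps.nil)))) (nat_lit 46) (nat_lit 1),
  Rule.mk (nat_lit 10) (nat_lit 81) (Steps.fwd (nat_lit 20480) (Steps.bwd (nat_lit 9) (Steps.bwd (nat_lit 6) (Steps.bwd (nat_lit 10) (Steps.fwd (nat_lit 20480) Steps.nil))))) (nat_lit 43) (nat_lit 10),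
  Rule.mk (nat_lit 10) (nat_lit 67) (Steps.fwd (nat_lit 49152) (Steps.fwd (nat_lit 4096) (Steps.fwd (nat_lit 8192) (Steps.bwd (nat_lit 10) Steps.nil)))) (nat_lit 47) (nat_lit 0),
  Rule.mk (nat_lit 3) (nat_lit 53) (Steps.fwd (nat_lit 49152) (Steps.bwd (nat_lit 3) (Steps.fwd (nat_lit 45056) Steps.nil))) (nat_lit 64) (nat_lit 2),
  Rule.mk (nat_lit 6) (nat_lit 81) (Steps.fwd (nat_lit 36864) (Steps.fwd (nat_lit 20480) (Steps.bwd (nat_lit 9) (Steps.bwd (nat_lit 6) (Steps.fwd (nat_lit 36864) Steps.nil))))) (nat_lit 43) (nat_lit 9),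
  Rule.mk (nat_lit 3) (nat_lit 53) (Steps.fwd (nat_lit 28672) (Steps.bwd (nat_lit 3) (Steps.bwd (nat_lit 7) Steps.nil))) (nat_lit 32) (nat_lit 0),
  Rule.mk (nat_lit 3) (nat_lit 53) (Steps.bwd (nat_lit 8) (Steps.fwd (nat_lit 12288) (Steps.bwd (nat_lit 7) Steps.nil))) (nat_lit 32) (nat_lit 0),
  Rule.mk (nat_lit 24) (nat_lit 53) (Steps.fwd (nat_lit 45056) (Steps.bwd (nat_lit 23) (Steps.bwd (nat_lit 11) Steps.nil))) (nat_lit 188) (nat_lit 1),
  Rule.mk (nat_lit 3) (nat_lit 53) (Steps.fwd (nat_lit 24576) (Steps.bwd (nat_lit 3) (Steps.fwd (nat_lit 24576) Steps.nil))) (nat_lit 22) (nat_lit 0),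
  Rule.mk (nat_lit 0) (nat_lit 81) (Steps.fwd (nat_lit 24576) (Steps.fwd (nat_lit 24576) (Steps.bwd (nat_lit 8) (Steps.bwd (nat_lit 6) (Steps.bwd (nat_lit 7) Steps.nil))))) (nat_lit 37) (nat_lit 0),
  Rule.mk (nat_lit 9) (nat_lit 81) (Steps.bwd (nat_lit 5) (Steps.fwd (nat_lit 36864) (Steps.bwd (nat_lit 5) (Steps.fwd (nat_lit 40960) (Steps.bwd (nat_lit 5) Steps.nil))))) (nat_lit 42) (nat_lit 5),
  Rule.mk (nat_lit 10) (nat_lit 81) (Steps.bwd (nat_lit 5) (Steps.fwd (nat_lit 40960) (Steps.fwd (nat_lit 24576) (Steps.bwd (nat_lit 9) (Steps.bwd (nat_lit 5) Steps.nil))))) (nat_lit 42) (nat_lit 1),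
  Rule.mk (nat_lit 0) (nat_lit 165) (Steps.fwd (nat_lit 36864) (Steps.fwd (nat_lit 12288) (Steps.bwd (nat_lit 9) (Steps.fwd (nat_lit 12288) (Steps.fwd (nat_lit 16384) (Steps.fwd (nat_lit 36864) (Steps.bwd (nat_lit 3) (Steps.bwd (nat_lit 9) (Steps.fwd (nat_lit 69632) (Steps.fwd (nat_lit 12288) (Steps.bwd (nat_lit 4) Steps.nil))))))))))) (nat_lit 52) (nat_lit 2),
  Rule.mk (nat_lit 0) (nat_lit 53) (Steps.bwd (nat_lit 7) (Steps.fwd (nat_lit 0) (Steps.bwd (nat_lit 8) Steps.nil))) (nat_lit 230) (nat_lit 0),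
  Rule.mk (nat_lit 0) (nat_lit 67) (Steps.bwd (nat_lit 4) (Steps.fwd (nat_lit 32768) (Steps.bwd (nat_lit 4) (Steps.fwd (nat_lit 28672) Steps.nil)))) (nat_lit 34) (nat_lit 1),
  Rule.mk (nat_lit 11) (nat_lit 53) (Steps.bwd (nat_lit 0) (Steps.bwd (nat_lit 12) (Steps.fwd (nat_lit 0) Steps.nil))) (nat_lit 230) (nat_lit 0),
  Rule.mk (nat_lit 21) (nat_lit 53) (Steps.bwd (nat_lit 0) (Steps.bwd (nat_lit 22) (Steps.fwd (nat_lit 0) Steps.nil))) (nat_lit 230) (nat_lit 0),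
  Rule.mk (nat_lit 23) (nat_lit 53) (Steps.bwd (nat_lit 0) (Steps.bwd (nat_lit 24) (Steps.fwd (nat_lit 0) Steps.nil))) (nat_lit 230) (nat_lit 0),
  Rule.mk (nat_lit 4) (nat_lit 81) (Steps.fwd (nat_lit 12288) (Steps.fwd (nat_lit 16384) (Steps.bwd (nat_lit 3) (Steps.bwd (nat_lit 4) (Steps.fwd (nat_lit 12288) Steps.nil))))) (nat_lit 14) (nat_lit 0),
  Rule.mk (nat_lit 4) (nat_lit 123) (Steps.fwd (nat_lit 20480) (Steps.fwd (nat_lit 16384) (Steps.bwd (nat_lit 6) (Steps.bwd (nat_lit 6) (Steps.bwd (nat_lit 4) (Steps.bwd (nat_lit 5) (Steps.bwd (nat_lit 5) (Steps.bwd (nat_lit 5) Steps.nil)))))))) (nat_lit 24) (nat_lit 1),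
  Rule.mk (nat_lit 6) (nat_lit 179) (Steps.fwd (nat_lit 20480) (Steps.bwd (nat_lit 10) (Steps.fwd (nat_lit 24576) (Steps.bwd (nat_lit 5) (Steps.fwd (nat_lit 16384) (Steps.bwd (nat_lit 6) (Steps.bwd (nat_lit 6) (Steps.bwd (nat_lit 9) (Steps.fwd (nat_lit 24576) (Steps.bwd (nat_lit 5) (Steps.fwd (nat_lit 77824) (Steps.bwd (nat_lit 4) Steps.nil)))))))))))) (nat_lit 54) (nat_lit 2),
  Rule.mk (nat_lit 0) (nat_lit 81) (Steps.fwd (nat_lit 24576) (Steps.fwd (nat_lit 32768) (Steps.fwd (nat_lit 20480) (Steps.bwd (nat_lit 6) (Steps.bwd (nat_lit 8) Steps.nil))))) (nat_lit 36) (nat_lit 1),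
  Rule.mk (nat_lit 0) (nat_lit 137) (Steps.bwd (nat_lit 5) (Steps.bwd (nat_lit 5) (Steps.bwd (nat_lit 4) (Steps.fwd (nat_lit 24576) (Steps.fwd (nat_lit 16384) (Steps.fwd (nat_lit 20480) (Steps.bwd (nat_lit 6) (Steps.bwd (nat_lit 6) (Steps.fwd (nat_lit 16384) Steps.nil))))))))) (nat_lit 25) (nat_lit 4),
  Rule.mk (nat_lit 4) (nat_lit 53) (Steps.bwd (nat_lit 10) (Steps.bwd (nat_lit 4) (Steps.fwd (nat_lit 40960) Steps.nil))) (nat_lit 40) (nat_lit 0),
  Rule.mk (nat_lit 24) (nat_lit 53) (Steps.bwd (nat_lit 10) (Steps.fwd (nat_lit 98304) (Steps.fwd (nat_lit 40960) Steps.nil))) (nat_lit 186) (nat_lit 1),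
  Rule.mk (nat_lit 10) (nat_lit 81) (Steps.bwd (nat_lit 6) (Steps.bwd (nat_lit 9) (Steps.fwd (nat_lit 20480) (Steps.bwd (nat_lit 10) (Steps.fwd (nat_lit 20480) Steps.nil))))) (nat_lit 43) (nat_lit 10),
  Rule.mk (nat_lit 10) (nat_lit 263) (Steps.bwd (nat_lit 6) (Steps.bwd (nat_lit 9) (Steps.fwd (nat_lit 24576) (Steps.bwd (nat_lit 10) (Steps.bwd (nat_lit 6) (Steps.bwd (nat_lit 9) (Steps.fwd (nat_lit 24576) (Steps.fwd (nat_lit 8192) (Steps.fwd (nat_lit 4096) (Steps.fwd (nat_lit 90112) (Steps.fwd (nat_lit 36864) (Steps.fwd (nat_lit 20480) (Steps.fwd (nat_lit 40960) (Steps.fwd (nat_lit 24576) (Steps.bwd (nat_lit 10) (Steps.bwd (nat_lit 6) (Steps.fwd (nat_lit 40960) (Steps.fwd (nat_lit 24576) Steps.nil)))))))))))))))))) (nat_lit 57) (nat_lit 10)]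
noncomputable def R_25 : List (Rule) := [Rule.mk (nat_lit 21) (nat_lit 263) (Steps.bwd (nat_lit 10) (Steps.bwd (nat_lit 6) (Steps.fwd (nat_lit 40960) (Steps.fwd (nat_lit 24576) (Steps.bwd (nat_lit 10) (Steps.bwd (nat_lit 6) (Steps.bwd (nat_lit 9) (Steps.fwd (nat_lit 24576) (Steps.bwd (nat_lit 10) (Steps.bwd (nat_lit 6) (Steps.bwd (nat_lit 9) (Steps.fwd (nat_lit 24576) (Steps.fwd (nat_lit 36864) (Steps.fwd (nat_lit 20480) (Steps.fwd (nat_lit 40960) (Steps.fwd (nat_lit 24576) (Steps.fwd (nat_lit 8192) (Steps.fwd (nat_lit 4096) Steps.nil)))))))))))))))))) (nat_lit 57) (nat_lit 1),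
  Rule.mk (nat_lit 21) (nat_lit 263) (Steps.bwd (nat_lit 10) (Steps.bwd (nat_lit 6) (Steps.bwd (nat_lit 9) (Steps.fwd (nat_lit 24576) (Steps.bwd (nat_lit 10) (Steps.bwd (nat_lit 6) (Steps.bwd (nat_lit 9) (Steps.fwd (nat_lit 24576) (Steps.fwd (nat_lit 36864) (Steps.fwd (nat_lit 20480) (Steps.fwd (nat_lit 40960) (Steps.fwd (nat_lit 24576) (Steps.bwd (nat_lit 10) (Steps.bwd (nat_lit 6) (Steps.fwd (nat_lit 40960) (Steps.fwd (nat_lit 24576) (Steps.fwd (nat_lit 8192) (Steps.fwd (nat_lit 4096) Steps.nil)))))))))))))))))) (nat_lit 57) (nat_lit 1),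
  Rule.mk (nat_lit 21) (nat_lit 263) (Steps.bwd (nat_lit 10) (Steps.bwd (nat_lit 6) (Steps.bwd (nat_lit 9) (Steps.fwd (nat_lit 24576) (Steps.fwd (nat_lit 36864) (Steps.fwd (nat_lit 20480) (Steps.fwd (nat_lit 40960) (Steps.fwd (nat_lit 24576) (Steps.bwd (nat_lit 10) (Steps.bwd (nat_lit 6) (Steps.fwd (nat_lit 40960) (Steps.fwd (nat_lit 24576) (Steps.bwd (nat_lit 10) (Steps.bwd (nat_lit 6) (Steps.bwd (nat_lit 9) (Steps.fwd (nat_lit 24576) (Steps.fwd (nat_lit 8192) (Steps.fwd (nat_lit 4096) Steps.nil)))))))))))))))))) (nat_lit 57) (nat_lit 1),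
  Rule.mk (nat_lit 11) (nat_lit 67) (Steps.fwd (nat_lit 4096) (Steps.fwd (nat_lit 8192) (Steps.fwd (nat_lit 36864) (Steps.bwd (nat_lit 10) Steps.nil)))) (nat_lit 47) (nat_lit 1),
  Rule.mk (nat_lit 11) (nat_lit 67) (Steps.fwd (nat_lit 4096) (Steps.fwd (nat_lit 8192) (Steps.bwd (nat_lit 10) (Steps.fwd (nat_lit 36864) Steps.nil)))) (nat_lit 47) (nat_lit 1),
  Rule.mk (nat_lit 4) (nat_lit 193) (Steps.bwd (nat_lit 10) (Steps.bwd (nat_lit 6) (Steps.bwd (nat_lit 4) (Steps.fwd (nat_lit 36864) (Steps.fwd (nat_lit 20480) (Steps.bwd (nat_lit 4) (Steps.fwd (nat_lit 24576) (Steps.fwd (nat_lit 40960) (Steps.bwd (nat_lit 5) (Steps.bwd (nat_lit 9) (Steps.bwd (nat_lit 5) (Steps.fwd (nat_lit 106496) (Steps.fwd (nat_lit 20480) Steps.nil))))))))))))) (nat_lit 200) (nat_lit 2),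
  Rule.mk (nat_lit 8) (nat_lit 53) (Steps.bwd (nat_lit 4) (Steps.fwd (nat_lit 32768) (Steps.bwd (nat_lit 4) Steps.nil))) (nat_lit 34) (nat_lit 1),
  Rule.mk (nat_lit 0) (nat_lit 137) (Steps.bwd (nat_lit 4) (Steps.bwd (nat_lit 6) (Steps.fwd (nat_lit 20480) (Steps.bwd (nat_lit 4) (Steps.fwd (nat_lit 24576) (Steps.bwd (nat_lit 5) (Steps.fwd (nat_lit 24576) (Steps.bwd (nat_lit 4) (Steps.fwd (nat_lit 20480) Steps.nil))))))))) (nat_lit 24) (nat_lit 2),
  Rule.mk (nat_lit 0) (nat_lit 599) (Steps.fwd (nat_lit 24576) (Steps.fwd (nat_lit 24576) (Steps.fwd (nat_lit 12288) (Steps.fwd (nat_lit 20480) (Steps.bwd (nat_lit 6) (Steps.fwd (nat_lit 40960) (Steps.fwd (nat_lit 16384) (Steps.bwd (nat_lit 3) (Steps.fwd (nat_lit 8192) (Steps.fwd (nat_lit 12288) (Steps.bwd (nat_lit 4) (Steps.fwd (nat_lit 24576) (Steps.bwd (nat_lit 5) (Steps.fwd (nat_lit 24576) (Steps.bwd (nat_lit 4) (Steps.fwd (nat_lit 12288) (Steps.fwd (nat_lit 8192) (Steps.bwd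 (nat_lit 3) (Steps.fwd (nat_lit 16384) (Steps.bwd (nat_lit 6) (Steps.fwd (nat_lit 12288) (Steps.fwd (nat_lit 8192) (Steps.bwd (nat_lit 3) (Steps.fwd (nat_lit 8192) (Steps.fwd (nat_lit 4096) (Steps.bwd (nat_lit 24) (Steps.fwd (nat_lit 12288) (Steps.bwd (nat_lit 6) (Steps.bwd (nat_lit 6) (Steps.bwd (nat_lit 9) (Steps.bwd (nat_lit 5) (Steps.bwd (nat_lit 5) (Steps.fwd (nat_lit 12288) (Steps.fwd (nat_lit 20480) (Steps.bwd (nat_lit 6) (Steps.fwd (nat_lit 40960) (Steps.bwd (nat_lit 5) (Steps.bwd (nat_lit 5) (Steps.bwd (nat_lit 3) (Steps.bwd (nat_lit 6) (Steps.bwd (nat_lit 6) (Steps.bwd (nat_lit 9) Steps.nil)))))))))))))))))))))))))))))))))))))))))) (nat_lit 58) (nat_lit 16),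
  Rule.mk (nat_lit 12) (nat_lit 53) (Steps.fwd (nat_lit 16384) (Steps.fwd (nat_lit 49152) (Steps.bwd (nat_lit 4) Steps.nil))) (nat_lit 66) (nat_lit 1),
  Rule.mk (nat_lit 22) (nat_lit 53) (Steps.fwd (nat_lit 16384) (Steps.fwd (nat_lit 90112) (Steps.bwd (nat_lit 4) Steps.nil))) (nat_lit 156) (nat_lit 1),
  Rule.mk (nat_lit 24) (nat_lit 53) (Steps.fwd (nat_lit 16384) (Steps.fwd (nat_lit 98304) (Steps.bwd (nat_lit 4) Steps.nil))) (nat_lit 180) (nat_lit 1),
  Rule.mk (nat_lit 5) (nat_lit 123) (Steps.bwd (nat_lit 5) (Steps.fwd (nat_lit 24576) (Steps.fwd (nat_lit 16384) (Steps.fwd (nat_lit 20480) (Steps.bwd (nat_lit 4) (Steps.fwd (nat_lit 20480) (Steps.fwd (nat_lit 20480) (Steps.bwd (nat_lit 4) Steps.nil)))))))) (nat_lit 24) (nat_lit 9),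
  Rule.mk (nat_lit 6) (nat_lit 123) (Steps.bwd (nat_lit 4) (Steps.bwd (nat_lit 6) (Steps.bwd (nat_lit 6) (Steps.fwd (nat_lit 16384) (Steps.bwd (nat_lit 5) (Steps.bwd (nat_lit 5) (Steps.bwd (nat_lit 5) (Steps.bwd (nat_lit 4) Steps.nil)))))))) (nat_lit 24) (nat_lit 2),
  Rule.mk (nat_lit 4) (nat_lit 123) (Steps.fwd (nat_lit 20480) (Steps.bwd (nat_lit 6) (Steps.bwd (nat_lit 6) (Steps.bwd (nat_lit 4) (Steps.bwd (nat_lit 5) (Steps.bwd (nat_lit 5) (Steps.bwd (nat_lit 4) (Steps.bwd (nat_lit 5) Steps.nil)))))))) (nat_lit 25) (nat_lit 0),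
  Rule.mk (nat_lit 4) (nat_lit 123) (Steps.bwd (nat_lit 5) (Steps.fwd (nat_lit 24576) (Steps.fwd (nat_lit 16384) (Steps.bwd (nat_lit 5) (Steps.bwd (nat_lit 4) (Steps.fwd (nat_lit 20480) (Steps.fwd (nat_lit 20480) (Steps.fwd (nat_lit 20480) Steps.nil)))))))) (nat_lit 25) (nat_lit 4),
  Rule.mk (nat_lit 0) (nat_lit 137) (Steps.bwd (nat_lit 4) (Steps.fwd (nat_lit 20480) (Steps.fwd (nat_lit 20480) (Steps.bwd (nat_lit 4) (Steps.fwd (nat_lit 24576) (Steps.fwd (nat_lit 24576) (Steps.bwd (nat_lit 5) (Steps.fwd (nat_lit 16384) (Steps.fwd (nat_lit 20480) Steps.nil))))))))) (nat_lit 24) (nat_lit 2),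
  Rule.mk (nat_lit 4) (nat_lit 123) (Steps.bwd (nat_lit 5) (Steps.bwd (nat_lit 5) (Steps.bwd (nat_lit 4) (Steps.bwd (nat_lit 5) (Steps.bwd (nat_lit 4) (Steps.bwd (nat_lit 6) (Steps.bwd (nat_lit 6) (Steps.fwd (nat_lit 20480) Steps.nil)))))))) (nat_lit 25) (nat_lit 4),
  Rule.mk (nat_lit 9) (nat_lit 193) (Steps.bwd (nat_lit 4) (Steps.fwd (nat_lit 24576) (Steps.fwd (nat_lit 40960) (Steps.bwd (nat_lit 4) (Steps.bwd (nat_lit 5) (Steps.fwd (nat_lit 102400) (Steps.fwd (nat_lit 20480) (Steps.bwd (nat_lit 10) (Steps.fwd (nat_lit 20480) (Steps.fwd (nat_lit 36864) (Steps.fwd (nat_lit 20480) (Steps.bwd (nat_lit 4) (Steps.bwd (nat_lit 5) Steps.nil))))))))))))) (nat_lit 201) (nat_lit 9),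
  Rule.mk (nat_lit 10) (nat_lit 151) (Steps.bwd (nat_lit 3) (Steps.bwd (nat_lit 9) (Steps.bwd (nat_lit 4) (Steps.fwd (nat_lit 12288) (Steps.fwd (nat_lit 73728) (Steps.fwd (nat_lit 36864) (Steps.fwd (nat_lit 12288) (Steps.bwd (nat_lit 9) (Steps.fwd (nat_lit 16384) (Steps.fwd (nat_lit 12288) Steps.nil)))))))))) (nat_lit 53) (nat_lit 7),
  Rule.mk (nat_lit 23) (nat_lit 53) (Steps.fwd (nat_lit 40960) (Steps.bwd (nat_lit 24) (Steps.bwd (nat_lit 10) Steps.nil))) (nat_lit 186) (nat_lit 3),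
  Rule.mk (nat_lit 10) (nat_lit 67) (Steps.bwd (nat_lit 10) (Steps.fwd (nat_lit 49152) (Steps.fwd (nat_lit 4096) (Steps.fwd (nat_lit 8192) Steps.nil)))) (nat_lit 47) (nat_lit 4),
  Rule.mk (nat_lit 5) (nat_lit 179) (Steps.fwd (nat_lit 24576) (Steps.bwd (nat_lit 4) (Steps.bwd (nat_lit 6) (Steps.bwd (nat_lit 6) (Steps.fwd (nat_lit 40960) (Steps.bwd (nat_lit 5) (Steps.bwd (nat_lit 5) (Steps.bwd (nat_lit 20) (Steps.bwd (nat_lit 4) (Steps.bwd (nat_lit 6) (Steps.fwd (nat_lit 20480) (Steps.bwd (nat_lit 10) Steps.nil)))))))))))) (nat_lit 54) (nat_lit 5),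
  Rule.mk (nat_lit 12) (nat_lit 53) (Steps.fwd (nat_lit 20480) (Steps.fwd (nat_lit 49152) (Steps.bwd (nat_lit 5) Steps.nil))) (nat_lit 68) (nat_lit 1),
  Rule.mk (nat_lit 22) (nat_lit 53) (Steps.fwd (nat_lit 20480) (Steps.fwd (nat_lit 90112) (Steps.bwd (nat_lit 5) Steps.nil))) (nat_lit 158) (nat_lit 1),
  Rule.mk (nat_lit 10) (nat_lit 81) (Steps.bwd (nat_lit 5) (Steps.fwd (nat_lit 40960) (Steps.bwd (nat_lit 5) (Steps.fwd (nat_lit 40960) (Steps.bwd (nat_lit 5) Steps.nil))))) (nat_lit 42) (nat_lit 1),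
  Rule.mk (nat_lit 9) (nat_lit 81) (Steps.bwd (nat_lit 5) (Steps.bwd (nat_lit 10) (Steps.bwd (nat_lit 5) (Steps.fwd (nat_lit 40960) (Steps.bwd (nat_lit 5) Steps.nil))))) (nat_lit 42) (nat_lit 5),
  Rule.mk (nat_lit 0) (nat_lit 137) (Steps.bwd (nat_lit 4) (Steps.fwd (nat_lit 20480) (Steps.bwd (nat_lit 4) (Steps.fwd (nat_lit 20480) (Steps.bwd (nat_lit 6) (Steps.fwd (nat_lit 16384) (Steps.fwd (nat_lit 24576) (Steps.fwd (nat_lit 24576) (Steps.fwd (nat_lit 24576) Steps.nil))))))))) (nat_lit 24) (nat_lit 0),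
  Rule.mk (nat_lit 6) (nat_lit 193) (Steps.bwd (nat_lit 10) (Steps.fwd (nat_lit 20480) (Steps.fwd (nat_lit 16384) (Steps.bwd (nat_lit 5) (Steps.bwd (nat_lit 9) (Steps.bwd (nat_lit 4) (Steps.fwd (nat_lit 24576) (Steps.bwd (nat_lit 9) (Steps.bwd (nat_lit 4) (Steps.bwd (nat_lit 5) (Steps.fwd (nat_lit 102400) (Steps.fwd (nat_lit 20480) (Steps.fwd (nat_lit 36864) Steps.nil))))))))))))) (nat_lit 201) (nat_lit 4),
  Rule.mk (nat_lit 6) (nat_lit 95) (Steps.fwd (nat_lit 20480) (Steps.fwd (nat_lit 20480) (Steps.fwd (nat_lit 20480) (Steps.fwd (nat_lit 20480) (Steps.fwd (nat_lit 20480) (Steps.bwd (nat_lit 6) Steps.nil)))))) (nat_lit 17) (nat_lit 0),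
  Rule.mk (nat_lit 9) (nat_lit 263) (Steps.bwd (nat_lit 22) (Steps.fwd (nat_lit 4096) (Steps.fwd (nat_lit 8192) (Steps.fwd (nat_lit 20480) (Steps.bwd (nat_lit 10) (Steps.bwd (nat_lit 5) (Steps.fwd (nat_lit 40960) (Steps.fwd (nat_lit 20480) (Steps.fwd (nat_lit 36864) (Steps.bwd (nat_lit 5) (Steps.bwd (nat_lit 9) (Steps.fwd (nat_lit 20480) (Steps.fwd (nat_lit 36864) (Steps.bwd (nat_lit 5) (Steps.fwd (nat_lit 40960) (Steps.bwd (nat_lit 6) (Steps.bwd (nat_lit 10) (Steps.fwd (nat_lit 24576) Steps.nil)))))))))))))))))) (nat_lit 56) (nat_lit 18),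
  Rule.mk (nat_lit 10) (nat_lit 263) (Steps.fwd (nat_lit 20480) (Steps.bwd (nat_lit 9) (Steps.bwd (nat_lit 5) (Steps.fwd (nat_lit 36864) (Steps.fwd (nat_lit 20480) (Steps.fwd (nat_lit 40960) (Steps.bwd (nat_lit 5) (Steps.bwd (nat_lit 10) (Steps.fwd (nat_lit 20480) (Steps.fwd (nat_lit 40960) (Steps.bwd (nat_lit 5) (Steps.fwd (nat_lit 36864) (Steps.bwd (nat_lit 6) (Steps.bwd (nat_lit 9) (Steps.fwd (nat_lit 24576) (Steps.fwd (nat_lit 8192) (Steps.fwd (nat_lit 4096) (Steps.fwd (nat_lit 90112) Steps.nil)))))))))))))))))) (nat_lit 57) (nat_lit 2),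
  Rule.mk (nat_lit 21) (nat_lit 263) (Steps.fwd (nat_lit 36864) (Steps.bwd (nat_lit 6) (Steps.bwd (nat_lit 9) (Steps.fwd (nat_lit 24576) (Steps.bwd (nat_lit 10) (Steps.fwd (nat_lit 20480) (Steps.bwd (nat_lit 9) (Steps.bwd (nat_lit 5) (Steps.fwd (nat_lit 36864) (Steps.fwd (nat_lit 20480) (Steps.fwd (nat_lit 40960) (Steps.bwd (nat_lit 5) (Steps.bwd (nat_lit 10) (Steps.fwd (nat_lit 20480) (Steps.fwd (nat_lit 40960) (Steps.bwd (nat_lit 5) (Steps.fwd (nat_lit 8192) (Steps.fwd (nat_lit 4096) Steps.nil)))))))))))))))))) (nat_lit 57) (nat_lit 1),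
  Rule.mk (nat_lit 9) (nat_lit 53) (Steps.bwd (nat_lit 4) (Steps.bwd (nat_lit 10) (Steps.bwd (nat_lit 4) Steps.nil))) (nat_lit 40) (nat_lit 3),
  Rule.mk (nat_lit 10) (nat_lit 151) (Steps.bwd (nat_lit 3) (Steps.fwd (nat_lit 40960) (Steps.bwd (nat_lit 3) (Steps.bwd (nat_lit 4) (Steps.bwd (nat_lit 10) (Steps.fwd (nat_lit 12288) (Steps.fwd (nat_lit 40960) (Steps.bwd (nat_lit 18) (Steps.fwd (nat_lit 12288) (Steps.fwd (nat_lit 16384) Steps.nil)))))))))) (nat_lit 52) (nat_lit 3),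
  Rule.mk (nat_lit 5) (nat_lit 193) (Steps.fwd (nat_lit 40960) (Steps.bwd (nat_lit 4) (Steps.bwd (nat_lit 5) (Steps.bwd (nat_lit 9) (Steps.bwd (nat_lit 4) (Steps.bwd (nat_lit 5) (Steps.fwd (nat_lit 102400) (Steps.fwd (nat_lit 20480) (Steps.fwd (nat_lit 36864) (Steps.fwd (nat_lit 20480) (Steps.bwd (nat_lit 10) (Steps.fwd (nat_lit 20480) (Steps.fwd (nat_lit 16384) Steps.nil))))))))))))) (nat_lit 201) (nat_lit 8),
  Rule.mk (nat_lit 6) (nat_lit 123) (Steps.bwd (nat_lit 6) (Steps.bwd (nat_lit 6) (Steps.fwd (nat_lit 16384) (Steps.bwd (nat_lit 5) (Steps.bwd (nat_lit 5) (Steps.fwd (nat_lit 16384) (Steps.bwd (nat_lit 5) (Steps.fwd (nat_lit 16384) Steps.nil)))))))) (nat_lit 25) (nat_lit 1),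
  Rule.mk (nat_lit 8) (nat_lit 67) (Steps.bwd (nat_lit 5) (Steps.bwd (nat_lit 7) (Steps.bwd (nat_lit 6) (Steps.bwd (nat_lit 6) Steps.nil)))) (nat_lit 36) (nat_lit 1),
  Rule.mk (nat_lit 5) (nat_lit 67) (Steps.bwd (nat_lit 8) (Steps.bwd (nat_lit 6) (Steps.bwd (nat_lit 7) (Steps.bwd (nat_lit 5) Steps.nil)))) (nat_lit 37) (nat_lit 2),
  Rule.mk (nat_lit 4) (nat_lit 123) (Steps.bwd (nat_lit 6) (Steps.bwd (nat_lit 6) (Steps.fwd (nat_lit 16384) (Steps.fwd (nat_lit 24576) (Steps.bwd (nat_lit 5) (Steps.bwd (nat_lit 5) (Steps.fwd (nat_lit 16384) (Steps.fwd (nat_lit 20480) Steps.nil)))))))) (nat_lit 24) (nat_lit 3),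
  Rule.mk (nat_lit 4) (nat_lit 123) (Steps.bwd (nat_lit 5) (Steps.fwd (nat_lit 24576) (Steps.bwd (nat_lit 4) (Steps.bwd (nat_lit 5) (Steps.bwd (nat_lit 4) (Steps.bwd (nat_lit 6) (Steps.bwd (nat_lit 6) (Steps.bwd (nat_lit 6) Steps.nil)))))))) (nat_lit 25) (nat_lit 4),
  Rule.mk (nat_lit 5) (nat_lit 179) (Steps.fwd (nat_lit 77824) (Steps.bwd (nat_lit 4) (Steps.bwd (nat_lit 6) (Steps.bwd (nat_lit 6) (Steps.fwd (nat_lit 36864) (Steps.bwd (nat_lit 5) (Steps.bwd (nat_lit 5) (Steps.bwd (nat_lit 4) (Steps.bwd (nat_lit 6) (Steps.bwd (nat_lit 6) (Steps.bwd (nat_lit 9) (Steps.fwd (nat_lit 24576) Steps.nil)))))))))))) (nat_lit 54) (nat_lit 12),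
  Rule.mk (nat_lit 2) (nat_lit 739) (Steps.bwd (nat_lit 3) (Steps.bwd (nat_lit 4) (Steps.bwd (nat_lit 3) (Steps.fwd (nat_lit 8192) (Steps.fwd (nat_lit 12288) (Steps.fwd (nat_lit 20480) (Steps.bwd (nat_lit 4) (Steps.fwd (nat_lit 12288) (Steps.fwd (nat_lit 8192) (Steps.bwd (nat_lit 3) (Steps.fwd (nat_lit 16384) (Steps.bwd (nat_lit 5) (Steps.fwd (nat_lit 16384) (Steps.fwd (nat_lit 24576) (Steps.fwd (nat_lit 16384) (Steps.bwd (nat_lit 3) (Steps.fwd (nat_lit 8192) (Steps.fwd (nat_lit 12288) (Steps.bwd (nat_lit 4) (Steps.fwd (nat_lit 24576) (Steps.fwd (nat_lit 16384) (Steps.fwd (nat_lit 12288) (Steps.fwd (nat_lit 8192) (Steps.bwd (nat_lit 3) (Steps.bwd (nat_lit 4) (Steps.bwd (nat_lit 6) (Steps.bwd (nat_lit 6) (Steps.bwd (nat_lit 6) (Steps.fwd (nat_lit 16384) (Steps.bwd (nat_lit 3) (Steps.fwd (nat_lit 8192) (Steps.fwd (nat_lit 12288) (Steps.bwd (nat_lit 4) (Steps.bwd (nat_lit 6) (Steps.bwd (nat_lit 4) (Steps.bwd (nat_lit 3)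 (Steps.fwd (nat_lit 8192) (Steps.fwd (nat_lit 12288) (Steps.fwd (nat_lit 16384) (Steps.fwd (nat_lit 24576) (Steps.fwd (nat_lit 24576) (Steps.fwd (nat_lit 8192) (Steps.fwd (nat_lit 12288) (Steps.fwd (nat_lit 16384) (Steps.bwd (nat_lit 6) (Steps.fwd (nat_lit 16384) (Steps.bwd (nat_lit 3) (Steps.fwd (nat_lit 8192) (Steps.fwd (nat_lit 12288) (Steps.bwd (nat_lit 4) (Steps.fwd (nat_lit 24576) (Steps.bwd (nat_lit 4) Steps.nil)))))))))))))))))))))))))))))))))))))))))))))))))))) (nat_lit 44) (nat_lit 12),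
  Rule.mk (nat_lit 24) (nat_lit 53) (Steps.fwd (nat_lit 20480) (Steps.fwd (nat_lit 98304) (Steps.bwd (nat_lit 5) Steps.nil))) (nat_lit 182) (nat_lit 1),
  Rule.mk (nat_lit 5) (nat_lit 123) (Steps.bwd (nat_lit 4) (Steps.fwd (nat_lit 24576) (Steps.fwd (nat_lit 16384) (Steps.bwd (nat_lit 6) (Steps.bwd (nat_lit 6) (Steps.fwd (nat_lit 20480) (Steps.bwd (nat_lit 4) (Steps.bwd (nat_lit 5) Steps.nil)))))))) (nat_lit 25) (nat_lit 6),
  Rule.mk (nat_lit 9) (nat_lit 263) (Steps.fwd (nat_lit 20480) (Steps.bwd (nat_lit 10) (Steps.bwd (nat_lit 5) (Steps.bwd (nat_lit 9) (Steps.bwd (nat_lit 22) (Steps.fwd (nat_lit 4096) (Steps.fwd (nat_lit 8192) (Steps.bwd (nat_lit 6) (Steps.fwd (nat_lit 36864) (Steps.fwd (nat_lit 24576) (Steps.bwd (nat_lit 9) (Steps.bwd (nat_lit 6) (Steps.bwd (nat_lit 10) (Steps.bwd (nat_lit 5) (Steps.bwd (nat_lit 9) (Steps.fwd (nat_lit 20480) (Steps.fwd (nat_lit 36864) (Steps.fwd (nat_lit 24576) Steps.nil))))))))))))))))))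 (nat_lit 56) (nat_lit 14),
  Rule.mk (nat_lit 2) (nat_lit 263) (Steps.fwd (nat_lit 20480) (Steps.bwd (nat_lit 10) (Steps.bwd (nat_lit 5) (Steps.bwd (nat_lit 9) (Steps.bwd (nat_lit 6) (Steps.fwd (nat_lit 36864) (Steps.fwd (nat_lit 24576) (Steps.bwd (nat_lit 9) (Steps.bwd (nat_lit 6) (Steps.bwd (nat_lit 10) (Steps.bwd (nat_lit 5) (Steps.bwd (nat_lit 9) (Steps.fwd (nat_lit 20480) (Steps.fwd (nat_lit 36864) (Steps.fwd (nat_lit 24576) (Steps.bwd (nat_lit 9) (Steps.bwd (nat_lit 22) (Steps.fwd (nat_lit 4096) Steps.nil)))))))))))))))))) (nat_lit 56) (nat_lit 2),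
  Rule.mk (nat_lit 10) (nat_lit 263) (Steps.fwd (nat_lit 20480) (Steps.bwd (nat_lit 9) (Steps.bwd (nat_lit 5) (Steps.fwd (nat_lit 8192) (Steps.fwd (nat_lit 4096) (Steps.fwd (nat_lit 90112) (Steps.bwd (nat_lit 10) (Steps.bwd (nat_lit 6) (Steps.fwd (nat_lit 40960) (Steps.fwd (nat_lit 24576) (Steps.bwd (nat_lit 10) (Steps.bwd (nat_lit 6) (Steps.fwd (nat_lit 40960) (Steps.bwd (nat_lit 5) (Steps.bwd (nat_lit 10) (Steps.fwd (nat_lit 20480) (Steps.bwd (nat_lit 9) (Steps.fwd (nat_lit 24576) Steps.nil)))))))))))))))))) (nat_lit 57) (nat_lit 14),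
  Rule.mk (nat_lit 0) (nat_lit 165) (Steps.bwd (nat_lit 3) (Steps.fwd (nat_lit 40960) (Steps.bwd (nat_lit 4) (Steps.bwd (nat_lit 3) (Steps.bwd (nat_lit 10) (Steps.bwd (nat_lit 3) (Steps.bwd (nat_lit 9) (Steps.fwd (nat_lit 16384) (Steps.fwd (nat_lit 12288) (Steps.bwd (nat_lit 17) (Steps.fwd (nat_lit 36864) Steps.nil))))))))))) (nat_lit 53) (nat_lit 2),
  Rule.mk (nat_lit 5) (nat_lit 193) (Steps.bwd (nat_lit 9) (Steps.bwd (nat_lit 5) (Steps.fwd (nat_lit 106496) (Steps.fwd (nat_lit 20480) (Steps.fwd (nat_lit 16384) (Steps.bwd (nat_lit 10) (Steps.fwd (nat_lit 20480) (Steps.bwd (nat_lit 4) (Steps.bwd (nat_lit 10) (Steps.fwd (nat_lit 20480) (Steps.fwd (nat_lit 16384) (Steps.fwd (nat_lit 24576) (Steps.fwd (nat_lit 40960) Steps.nil))))))))))))) (nat_lit 200) (nat_lit 19),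
  Rule.mk (nat_lit 7) (nat_lit 67) (Steps.bwd (nat_lit 5) (Steps.fwd (nat_lit 24576) (Steps.bwd (nat_lit 8) (Steps.fwd (nat_lit 20480) Steps.nil)))) (nat_lit 37) (nat_lit 0),
  Rule.mk (nat_lit 10) (nat_lit 81) (Steps.bwd (nat_lit 5) (Steps.fwd (nat_lit 40960) (Steps.fwd (nat_lit 24576) (Steps.fwd (nat_lit 40960) (Steps.bwd (nat_lit 5) Steps.nil))))) (nat_lit 42) (nat_lit 1),
  Rule.mk (nat_lit 4) (nat_lit 179) (Steps.bwd (nat_lit 6) (Steps.fwd (nat_lit 20480) (Steps.fwd (nat_lit 40960) (Steps.bwd (nat_lit 5) (Steps.fwd (nat_lit 24576) (Steps.fwd (nat_lit 77824) (Steps.fwd (nat_lit 16384) (Steps.bwd (nat_lit 6) (Steps.bwd (nat_lit 6) (Steps.bwd (nat_lit 10) (Steps.fwd (nat_lit 24576) (Steps.fwd (nat_lit 24576) Steps.nil)))))))))))) (nat_lit 54) (nat_lit 7),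
  Rule.mk (nat_lit 3) (nat_lit 81) (Steps.bwd (nat_lit 4) (Steps.bwd (nat_lit 3) (Steps.fwd (nat_lit 16384) (Steps.fwd (nat_lit 12288) (Steps.bwd (nat_lit 4) Steps.nil))))) (nat_lit 14) (nat_lit 1),
  Rule.mk (nat_lit 24) (nat_lit 53) (Steps.fwd (nat_lit 12288) (Steps.fwd (nat_lit 98304) (Steps.bwd (nat_lit 3) Steps.nil))) (nat_lit 178) (nat_lit 1),
  Rule.mk (nat_lit 23) (nat_lit 53) (Steps.bwd (nat_lit 8) (Steps.bwd (nat_lit 24) (Steps.fwd (nat_lit 32768) Steps.nil))) (nat_lit 185) (nat_lit 0),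
  Rule.mk (nat_lit 24) (nat_lit 53) (Steps.bwd (nat_lit 5) (Steps.bwd (nat_lit 23) (Steps.fwd (nat_lit 20480) Steps.nil))) (nat_lit 183) (nat_lit 2),
  Rule.mk (nat_lit 24) (nat_lit 53) (Steps.bwd (nat_lit 10) (Steps.bwd (nat_lit 23) (Steps.fwd (nat_lit 40960) Steps.nil))) (nat_lit 186) (nat_lit 1),
  Rule.mk (nat_lit 10) (nat_lit 53) (Steps.bwd (nat_lit 8) (Steps.bwd (nat_lit 9) (Steps.bwd (nat_lit 8) Steps.nil))) (nat_lit 39) (nat_lit 2),
  Rule.mk (nat_lit 4) (nat_lit 53) (Steps.bwd (nat_lit 9) (Steps.bwd (nat_lit 4) (Steps.fwd (nat_lit 36864) Steps.nil))) (nat_lit 40) (nat_lit 2),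
  Rule.mk (nat_lit 4) (nat_lit 193) (Steps.fwd (nat_lit 24576) (Steps.bwd (nat_lit 9) (Steps.bwd (nat_lit 4) (Steps.fwd (nat_lit 24576) (Steps.bwd (nat_lit 26) (Steps.bwd (nat_lit 6) (Steps.fwd (nat_lit 36864) (Steps.bwd (nat_lit 6) (Steps.fwd (nat_lit 36864) (Steps.fwd (nat_lit 20480) (Steps.bwd (nat_lit 4) (Steps.bwd (nat_lit 5) (Steps.bwd (nat_lit 9) Steps.nil))))))))))))) (nat_lit 201) (nat_lit 16),
  Rule.mk (nat_lit 10) (nat_lit 193) (Steps.fwd (nat_lit 20480) (Steps.bwd (nat_lit 10) (Steps.fwd (nat_lit 20480) (Steps.bwd (nat_lit 4) (Steps.fwd (nat_lit 24576) (Steps.bwd (nat_lit 9) (Steps.bwd (nat_lit 4) (Steps.fwd (nat_lit 24576) (Steps.bwd (nat_lit 9) (Steps.bwd (nat_lit 4) (Steps.bwd (nat_lit 5) (Steps.fwd (nat_lit 102400) (Steps.fwd (nat_lit 20480) Steps.nil))))))))))))) (nat_lit 201) (nat_lit 3),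
  Rule.mk (nat_lit 0) (nat_lit 95) (Steps.fwd (nat_lit 16384) (Steps.fwd (nat_lit 12288) (Steps.fwd (nat_lit 16384) (Steps.bwd (nat_lit 3) (Steps.bwd (nat_lit 4) (Steps.fwd (nat_lit 12288) Steps.nil)))))) (nat_lit 14) (nat_lit 1),
  Rule.mk (nat_lit 6) (nat_lit 81) (Steps.fwd (nat_lit 40960) (Steps.bwd (nat_lit 6) (Steps.bwd (nat_lit 10) (Steps.fwd (nat_lit 20480) (Steps.bwd (nat_lit 10) Steps.nil))))) (nat_lit 43) (nat_lit 1)]
noncomputable def R_26 : List (Rule) := [Rule.mk (nat_lit 3) (nat_lit 151) (Steps.fwd (nat_lit 73728) (Steps.bwd (nat_lit 10) (Steps.fwd (nat_lit 12288) (Steps.bwd (nat_lit 9) (Steps.bwd (nat_lit 4) (Steps.fwd (nat_lit 12288) (Steps.bwd (nat_lit 10) (Steps.bwd (nat_lit 3) (Steps.bwd (nat_lit 9) (Steps.fwd (nat_lit 16384) Steps.nil)))))))))) (nat_lit 53) (nat_lit 0),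
  Rule.mk (nat_lit 9) (nat_lit 193) (Steps.bwd (nat_lit 5) (Steps.fwd (nat_lit 40960) (Steps.fwd (nat_lit 24576) (Steps.bwd (nat_lit 25) (Steps.bwd (nat_lit 6) (Steps.bwd (nat_lit 4) (Steps.bwd (nat_lit 10) (Steps.fwd (nat_lit 20480) (Steps.bwd (nat_lit 4) (Steps.bwd (nat_lit 10) (Steps.bwd (nat_lit 6) (Steps.fwd (nat_lit 16384) (Steps.fwd (nat_lit 24576) Steps.nil))))))))))))) (nat_lit 200) (nat_lit 18),
  Rule.mk (nat_lit 2) (nat_lit 585) (Steps.fwd (nat_lit 12288) (Steps.bwd (nat_lit 4) (Steps.bwd (nat_lit 10) (Steps.fwd (nat_lit 24576) (Steps.bwd (nat_lit 5) (Steps.bwd (nat_lit 3) (Steps.fwd (nat_lit 20480) (Steps.fwd (nat_lit 20480) (Steps.bwd (nat_lit 10) (Steps.fwd (nat_lit 24576) (Steps.bwd (nat_lit 5) (Steps.bwd (nat_lit 3) (Steps.bwd (nat_lit 6) (Steps.bwd (nat_lit 6) (Steps.fwd (nat_lit 36864) (Steps.fwd (nat_lit 24576) (Steps.fwd (nat_lit 24576) (Steps.fwd (nat_lit 12288) (Steps.bwd (nat_lit 6) (Steps.bwd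 (nat_lit 6) (Steps.fwd (nat_lit 36864) (Steps.bwd (nat_lit 5) (Steps.bwd (nat_lit 5) (Steps.fwd (nat_lit 12288) (Steps.fwd (nat_lit 98304) (Steps.fwd (nat_lit 4096) (Steps.fwd (nat_lit 8192) (Steps.bwd (nat_lit 3) (Steps.fwd (nat_lit 8192) (Steps.fwd (nat_lit 12288) (Steps.fwd (nat_lit 24576) (Steps.bwd (nat_lit 4) (Steps.bwd (nat_lit 3) (Steps.fwd (nat_lit 8192) (Steps.fwd (nat_lit 12288) (Steps.fwd (nat_lit 16384) (Steps.bwd (nat_lit 6) (Steps.fwd (nat_lit 20480) (Steps.fwd (nat_lit 20480) (Steps.fwd (nat_lit 16384) (Steps.bwd (nat_lit 3) Steps.nil))))))))))))))))))))))))))))))))))))))))) (nat_lit 59) (nat_lit 18),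
  Rule.mk (nat_lit 1) (nat_lit 67) (Steps.bwd (nat_lit 12) (Steps.bwd (nat_lit 9) (Steps.fwd (nat_lit 40960) (Steps.fwd (nat_lit 8192) Steps.nil)))) (nat_lit 46) (nat_lit 4),
  Rule.mk (nat_lit 11) (nat_lit 53) (Steps.fwd (nat_lit 40960) (Steps.fwd (nat_lit 45056) (Steps.bwd (nat_lit 10) Steps.nil))) (nat_lit 72) (nat_lit 3),
  Rule.mk (nat_lit 21) (nat_lit 53) (Steps.fwd (nat_lit 40960) (Steps.fwd (nat_lit 86016) (Steps.bwd (nat_lit 10) Steps.nil))) (nat_lit 162) (nat_lit 3),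
  Rule.mk (nat_lit 23) (nat_lit 53) (Steps.fwd (nat_lit 40960) (Steps.fwd (nat_lit 94208) (Steps.bwd (nat_lit 10) Steps.nil))) (nat_lit 186) (nat_lit 3),
  Rule.mk (nat_lit 6) (nat_lit 193) (Steps.fwd (nat_lit 16384) (Steps.fwd (nat_lit 24576) (Steps.fwd (nat_lit 40960) (Steps.fwd (nat_lit 24576) (Steps.fwd (nat_lit 40960) (Steps.fwd (nat_lit 24576) (Steps.fwd (nat_lit 106496) (Steps.bwd (nat_lit 6) (Steps.fwd (nat_lit 16384) (Steps.bwd (nat_lit 10) (Steps.bwd (nat_lit 6) (Steps.bwd (nat_lit 4) (Steps.bwd (nat_lit 10) Steps.nil))))))))))))) (nat_lit 200) (nat_lit 15),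
  Rule.mk (nat_lit 6) (nat_lit 67) (Steps.bwd (nat_lit 7) (Steps.bwd (nat_lit 5) (Steps.fwd (nat_lit 24576) (Steps.fwd (nat_lit 28672) Steps.nil)))) (nat_lit 37) (nat_lit 4),
  Rule.mk (nat_lit 3) (nat_lit 53) (Steps.bwd (nat_lit 6) (Steps.bwd (nat_lit 3) (Steps.fwd (nat_lit 20480) Steps.nil))) (nat_lit 23) (nat_lit 1),
  Rule.mk (nat_lit 8) (nat_lit 67) (Steps.fwd (nat_lit 24576) (Steps.fwd (nat_lit 32768) (Steps.fwd (nat_lit 20480) (Steps.bwd (nat_lit 6) Steps.nil)))) (nat_lit 36) (nat_lit 1),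
  Rule.mk (nat_lit 6) (nat_lit 123) (Steps.bwd (nat_lit 4) (Steps.bwd (nat_lit 6) (Steps.fwd (nat_lit 20480) (Steps.bwd (nat_lit 4) (Steps.fwd (nat_lit 24576) (Steps.bwd (nat_lit 5) (Steps.fwd (nat_lit 24576) (Steps.fwd (nat_lit 16384) Steps.nil)))))))) (nat_lit 24) (nat_lit 2),
  Rule.mk (nat_lit 5) (nat_lit 123) (Steps.bwd (nat_lit 4) (Steps.bwd (nat_lit 6) (Steps.fwd (nat_lit 20480) (Steps.fwd (nat_lit 20480) (Steps.fwd (nat_lit 16384) (Steps.fwd (nat_lit 24576) (Steps.fwd (nat_lit 24576) (Steps.bwd (nat_lit 4) Steps.nil)))))))) (nat_lit 25) (nat_lit 10),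
  Rule.mk (nat_lit 9) (nat_lit 585) (Steps.bwd (nat_lit 5) (Steps.fwd (nat_lit 24576) (Steps.bwd (nat_lit 3) (Steps.bwd (nat_lit 6) (Steps.fwd (nat_lit 20480) (Steps.fwd (nat_lit 40960) (Steps.bwd (nat_lit 5) (Steps.fwd (nat_lit 24576) (Steps.bwd (nat_lit 3) (Steps.fwd (nat_lit 20480) (Steps.fwd (nat_lit 20480) (Steps.fwd (nat_lit 40960) (Steps.fwd (nat_lit 16384) (Steps.bwd (nat_lit 3) (Steps.fwd (nat_lit 8192) (Steps.fwd (nat_lit 12288) (Steps.bwd (nat_lit 4) (Steps.fwd (nat_lit 24576) (Steps.fwd (nat_lit 24576) (Steps.bwd (nat_lit 5) (Steps.fwd (nat_lit 16384) (Steps.bwd (nat_lit 3) (Steps.fwd (nat_lit 8192) (Steps.fwd (nat_lit 12288) (Steps.bwd (nat_lit 4) (Steps.fwd (nat_lit 20480) (Steps.bwd (nat_lit 3) (Steps.fwd (nat_lit 8192) (Steps.fwd (nat_lit 12288) (Steps.fwd (nat_lit 8192) (Steps.fwd (nat_lit 4096) (Steps.fwd (nat_lit 94208) (Steps.bwd (nat_lit 3) (Steps.fwd (nat_lit 20480) (Steps.fwd (nat_lit 20480) (Steps.fwd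 (nat_lit 40960) (Steps.bwd (nat_lit 5) (Steps.fwd (nat_lit 24576) (Steps.bwd (nat_lit 3) (Steps.fwd (nat_lit 20480) (Steps.bwd (nat_lit 6) Steps.nil))))))))))))))))))))))))))))))))))))))))) (nat_lit 58) (nat_lit 10),
  Rule.mk (nat_lit 24) (nat_lit 585) (Steps.bwd (nat_lit 3) (Steps.fwd (nat_lit 20480) (Steps.fwd (nat_lit 20480) (Steps.fwd (nat_lit 40960) (Steps.fwd (nat_lit 24576) (Steps.bwd (nat_lit 5) (Steps.fwd (nat_lit 12288) (Steps.fwd (nat_lit 20480) (Steps.bwd (nat_lit 6) (Steps.fwd (nat_lit 40960) (Steps.bwd (nat_lit 5) (Steps.bwd (nat_lit 5) (Steps.fwd (nat_lit 12288) (Steps.fwd (nat_lit 20480) (Steps.fwd (nat_lit 20480) (Steps.bwd (nat_lit 9) (Steps.bwd (nat_lit 5) (Steps.fwd (nat_lit 24576) (Steps.fwd (nat_lit 12288) (Steps.bwd (nat_lit 6) (Steps.fwd (nat_lit 20480) (Steps.fwd (nat_lit 40960) (Steps.fwd (nat_lit 16384) (Steps.fwd (nat_lit 12288) (Steps.fwd (nat_lit 8192) (Steps.bwd (nat_lit 3) (Steps.bwd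 (nat_lit 4) (Steps.bwd (nat_lit 5) (Steps.bwd (nat_lit 5) (Steps.bwd (nat_lit 5) (Steps.fwd (nat_lit 16384) (Steps.fwd (nat_lit 12288) (Steps.fwd (nat_lit 8192) (Steps.bwd (nat_lit 3) (Steps.bwd (nat_lit 4) (Steps.fwd (nat_lit 20480) (Steps.bwd (nat_lit 3) (Steps.fwd (nat_lit 8192) (Steps.fwd (nat_lit 12288) (Steps.fwd (nat_lit 8192) (Steps.fwd (nat_lit 4096) Steps.nil))))))))))))))))))))))))))))))))))))))))) (nat_lit 58) (nat_lit 0),
  Rule.mk (nat_lit 10) (nat_lit 585) (Steps.bwd (nat_lit 5) (Steps.fwd (nat_lit 24576) (Steps.bwd (nat_lit 3) (Steps.bwd (nat_lit 6) (Steps.fwd (nat_lit 20480) (Steps.fwd (nat_lit 36864) (Steps.bwd (nat_lit 5) (Steps.fwd (nat_lit 24576) (Steps.bwd (nat_lit 3) (Steps.fwd (nat_lit 98304) (Steps.fwd (nat_lit 4096) (Steps.fwd (nat_lit 8192) (Steps.fwd (nat_lit 12288) (Steps.fwd (nat_lit 8192) (Steps.bwd (nat_lit 3) (Steps.bwd (nat_lit 5) (Steps.bwd (nat_lit 4) (Steps.fwd (nat_lit 12288) (Steps.fwd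 (nat_lit 8192) (Steps.bwd (nat_lit 3) (Steps.fwd (nat_lit 16384) (Steps.fwd (nat_lit 20480) (Steps.fwd (nat_lit 20480) (Steps.fwd (nat_lit 20480) (Steps.bwd (nat_lit 4) (Steps.fwd (nat_lit 12288) (Steps.fwd (nat_lit 8192) (Steps.bwd (nat_lit 3) (Steps.fwd (nat_lit 16384) (Steps.fwd (nat_lit 36864) (Steps.fwd (nat_lit 24576) (Steps.fwd (nat_lit 24576) (Steps.bwd (nat_lit 3) (Steps.fwd (nat_lit 20480) (Steps.fwd (nat_lit 20480) (Steps.fwd (nat_lit 36864) (Steps.bwd (nat_lit 5) (Steps.fwd (nat_lit 24576) (Steps.bwd (nat_lit 3) (Steps.fwd (nat_lit 20480) (Steps.bwd (nat_lit 6) Steps.nil))))))))))))))))))))))))))))))))))))))))) (nat_lit 59) (nat_lit 37),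
  Rule.mk (nat_lit 7) (nat_lit 53) (Steps.bwd (nat_lit 10) (Steps.bwd (nat_lit 7) (Steps.fwd (nat_lit 40960) Steps.nil))) (nat_lit 38) (nat_lit 0),
  Rule.mk (nat_lit 12) (nat_lit 53) (Steps.bwd (nat_lit 10) (Steps.fwd (nat_lit 49152) (Steps.fwd (nat_lit 40960) Steps.nil))) (nat_lit 72) (nat_lit 1),
  Rule.mk (nat_lit 22) (nat_lit 53) (Steps.bwd (nat_lit 10) (Steps.fwd (nat_lit 90112) (Steps.fwd (nat_lit 40960) Steps.nil))) (nat_lit 162) (nat_lit 1),
  Rule.mk (nat_lit 2) (nat_lit 67) (Steps.bwd (nat_lit 10) (Steps.fwd (nat_lit 36864) (Steps.fwd (nat_lit 49152) (Steps.fwd (nat_lit 4096) Steps.nil)))) (nat_lit 47) (nat_lit 3),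
  Rule.mk (nat_lit 22) (nat_lit 263) (Steps.fwd (nat_lit 4096) (Steps.fwd (nat_lit 8192) (Steps.bwd (nat_lit 6) (Steps.fwd (nat_lit 36864) (Steps.fwd (nat_lit 24576) (Steps.fwd (nat_lit 40960) (Steps.bwd (nat_lit 6) (Steps.bwd (nat_lit 10) (Steps.bwd (nat_lit 5) (Steps.bwd (nat_lit 9) (Steps.fwd (nat_lit 20480) (Steps.fwd (nat_lit 36864) (Steps.fwd (nat_lit 24576) (Steps.fwd (nat_lit 40960) (Steps.fwd (nat_lit 20480) (Steps.fwd (nat_lit 36864) (Steps.bwd (nat_lit 5) (Steps.fwd (nat_lit 40960) Steps.nil)))))))))))))))))) (nat_lit 56) (nat_lit 0),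
  Rule.mk (nat_lit 0) (nat_lit 599) (Steps.bwd (nat_lit 3) (Steps.fwd (nat_lit 98304) (Steps.fwd (nat_lit 4096) (Steps.fwd (nat_lit 8192) (Steps.fwd (nat_lit 12288) (Steps.fwd (nat_lit 8192) (Steps.bwd (nat_lit 3) (Steps.fwd (nat_lit 24576) (Steps.bwd (nat_lit 4) (Steps.bwd (nat_lit 3) (Steps.fwd (nat_lit 8192) (Steps.fwd (nat_lit 12288) (Steps.fwd (nat_lit 16384) (Steps.bwd (nat_lit 6) (Steps.fwd (nat_lit 20480) (Steps.bwd (nat_lit 6) (Steps.fwd (nat_lit 16384) (Steps.fwd (nat_lit 12288) (Steps.fwd (nat_lit 8192) (Steps.bwd (nat_lit 3) (Steps.bwd (nat_lit 4) (Steps.bwd (nat_lit 10) (Steps.fwd (nat_lit 24576) (Steps.fwd (nat_lit 24576) (Steps.fwd (nat_lit 12288) (Steps.fwd (nat_lit 20480) (Steps.fwd (nat_lit 20480) (Steps.fwd (nat_lit 36864) (Steps.bwd (nat_lit 5) (Steps.fwd (nat_lit 24576) (Steps.fwd (nat_lit 12288) (Steps.bwd (nat_lit 6) (Steps.fwd (nat_lit 20480) (Steps.bwd (nat_lit 10) (Steps.bwd (nat_lit 5) (Steps.bwd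 (nat_lit 5) (Steps.fwd (nat_lit 12288) (Steps.fwd (nat_lit 20480) (Steps.bwd (nat_lit 6) (Steps.bwd (nat_lit 10) (Steps.bwd (nat_lit 5) (Steps.fwd (nat_lit 24576) Steps.nil)))))))))))))))))))))))))))))))))))))))))) (nat_lit 59) (nat_lit 45),
  Rule.mk (nat_lit 23) (nat_lit 585) (Steps.fwd (nat_lit 4096) (Steps.fwd (nat_lit 8192) (Steps.fwd (nat_lit 12288) (Steps.fwd (nat_lit 8192) (Steps.bwd (nat_lit 3) (Steps.bwd (nat_lit 5) (Steps.bwd (nat_lit 4) (Steps.fwd (nat_lit 12288) (Steps.fwd (nat_lit 8192) (Steps.bwd (nat_lit 3) (Steps.fwd (nat_lit 16384) (Steps.fwd (nat_lit 20480) (Steps.fwd (nat_lit 20480) (Steps.fwd (nat_lit 20480) (Steps.bwd (nat_lit 4) (Steps.bwd (nat_lit 3) (Steps.fwd (nat_lit 8192) (Steps.fwd (nat_lit 12288) (Steps.fwd (nat_lit 16384) (Steps.fwd (nat_lit 36864) (Steps.bwd (nat_lit 5) (Steps.fwd (nat_lit 24576) (Steps.bwd (nat_lit 3) (Steps.bwd (nat_lit 6) (Steps.fwd (nat_lit 20480) (Steps.bwd (nat_lit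 10) (Steps.bwd (nat_lit 5) (Steps.bwd (nat_lit 5) (Steps.bwd (nat_lit 3) (Steps.bwd (nat_lit 6) (Steps.bwd (nat_lit 6) (Steps.bwd (nat_lit 10) (Steps.fwd (nat_lit 24576) (Steps.bwd (nat_lit 5) (Steps.bwd (nat_lit 3) (Steps.bwd (nat_lit 6) (Steps.fwd (nat_lit 20480) (Steps.bwd (nat_lit 10) (Steps.fwd (nat_lit 24576) (Steps.bwd (nat_lit 5) (Steps.bwd (nat_lit 3) Steps.nil))))))))))))))))))))))))))))))))))))))))) (nat_lit 59) (nat_lit 1),
  Rule.mk (nat_lit 8) (nat_lit 53) (Steps.fwd (nat_lit 40960) (Steps.fwd (nat_lit 28672) (Steps.bwd (nat_lit 10) Steps.nil))) (nat_lit 39) (nat_lit 3),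
  Rule.mk (nat_lit 6) (nat_lit 123) (Steps.bwd (nat_lit 6) (Steps.bwd (nat_lit 4) (Steps.bwd (nat_lit 5) (Steps.bwd (nat_lit 5) (Steps.bwd (nat_lit 5) (Steps.bwd (nat_lit 4) (Steps.bwd (nat_lit 6) (Steps.fwd (nat_lit 16384) Steps.nil)))))))) (nat_lit 24) (nat_lit 6),
  Rule.mk (nat_lit 9) (nat_lit 263) (Steps.bwd (nat_lit 6) (Steps.bwd (nat_lit 10) (Steps.bwd (nat_lit 5) (Steps.bwd (nat_lit 9) (Steps.bwd (nat_lit 6) (Steps.bwd (nat_lit 10) (Steps.bwd (nat_lit 5) (Steps.bwd (nat_lit 9) (Steps.bwd (nat_lit 6) (Steps.fwd (nat_lit 36864) (Steps.fwd (nat_lit 24576) (Steps.bwd (nat_lit 9) (Steps.bwd (nat_lit 22) (Steps.fwd (nat_lit 4096) (Steps.fwd (nat_lit 8192) (Steps.fwd (nat_lit 20480) (Steps.fwd (nat_lit 36864) (Steps.bwd (nat_lit 5) Steps.nil)))))))))))))))))) (nat_lit 56) (nat_lit 6),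
  Rule.mk (nat_lit 4) (nat_lit 53) (Steps.bwd (nat_lit 10) (Steps.bwd (nat_lit 4) (Steps.bwd (nat_lit 9) Steps.nil))) (nat_lit 40) (nat_lit 0),
  Rule.mk (nat_lit 5) (nat_lit 81) (Steps.fwd (nat_lit 36864) (Steps.bwd (nat_lit 5) (Steps.bwd (nat_lit 9) (Steps.bwd (nat_lit 5) (Steps.bwd (nat_lit 9) Steps.nil))))) (nat_lit 42) (nat_lit 6),
  Rule.mk (nat_lit 0) (nat_lit 95) (Steps.fwd (nat_lit 40960) (Steps.fwd (nat_lit 24576) (Steps.fwd (nat_lit 36864) (Steps.bwd (nat_lit 5) (Steps.fwd (nat_lit 40960) (Steps.bwd (nat_lit 5) Steps.nil)))))) (nat_lit 42) (nat_lit 4),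
  Rule.mk (nat_lit 14) (nat_lit 53) (Steps.bwd (nat_lit 6) (Steps.fwd (nat_lit 57344) (Steps.fwd (nat_lit 24576) Steps.nil))) (nat_lit 82) (nat_lit 1),
  Rule.mk (nat_lit 16) (nat_lit 53) (Steps.bwd (nat_lit 6) (Steps.fwd (nat_lit 65536) (Steps.fwd (nat_lit 24576) Steps.nil))) (nat_lit 98) (nat_lit 1),
  Rule.mk (nat_lit 20) (nat_lit 53) (Steps.bwd (nat_lit 6) (Steps.fwd (nat_lit 81920) (Steps.fwd (nat_lit 24576) Steps.nil))) (nat_lit 136) (nat_lit 1),
  Rule.mk (nat_lit 26) (nat_lit 53) (Steps.bwd (nat_lit 6) (Steps.fwd (nat_lit 106496) (Steps.fwd (nat_lit 24576) Steps.nil))) (nat_lit 210) (nat_lit 1),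
  Rule.mk (nat_lit 6) (nat_lit 67) (Steps.bwd (nat_lit 6) (Steps.bwd (nat_lit 8) (Steps.fwd (nat_lit 24576) (Steps.bwd (nat_lit 7) Steps.nil)))) (nat_lit 36) (nat_lit 4),
  Rule.mk (nat_lit 7) (nat_lit 67) (Steps.bwd (nat_lit 6) (Steps.fwd (nat_lit 20480) (Steps.bwd (nat_lit 8) (Steps.fwd (nat_lit 24576) Steps.nil)))) (nat_lit 36) (nat_lit 3),
  Rule.mk (nat_lit 10) (nat_lit 263) (Steps.fwd (nat_lit 24576) (Steps.bwd (nat_lit 9) (Steps.fwd (nat_lit 20480) (Steps.fwd (nat_lit 36864) (Steps.bwd (nat_lit 5) (Steps.fwd (nat_lit 40960) (Steps.bwd (nat_lit 6) (Steps.bwd (nat_lit 10) (Steps.fwd (nat_lit 24576) (Steps.bwd (nat_lit 9) (Steps.bwd (nat_lit 6) (Steps.fwd (nat_lit 36864) (Steps.bwd (nat_lit 5) (Steps.bwd (nat_lit 9) (Steps.bwd (nat_lit 22) (Steps.fwd (nat_lit 4096) (Steps.fwd (nat_lit 8192) (Steps.fwd (nat_lit 20480) Steps.nil)))))))))))))))))) (nat_lit 56) (nat_lit 4),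
  Rule.mk (nat_lit 6) (nat_lit 81) (Steps.fwd (nat_lit 40960) (Steps.bwd (nat_lit 6) (Steps.fwd (nat_lit 36864) (Steps.fwd (nat_lit 20480) (Steps.bwd (nat_lit 10) Steps.nil))))) (nat_lit 43) (nat_lit 1),
  Rule.mk (nat_lit 3) (nat_lit 151) (Steps.bwd (nat_lit 9) (Steps.bwd (nat_lit 18) (Steps.bwd (nat_lit 3) (Steps.bwd (nat_lit 4) (Steps.fwd (nat_lit 36864) (Steps.bwd (nat_lit 3) (Steps.fwd (nat_lit 40960) (Steps.bwd (nat_lit 3) (Steps.bwd (nat_lit 4) (Steps.bwd (nat_lit 10) Steps.nil)))))))))) (nat_lit 52) (nat_lit 9),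
  Rule.mk (nat_lit 2) (nat_lit 739) (Steps.bwd (nat_lit 3) (Steps.bwd (nat_lit 4) (Steps.bwd (nat_lit 5) (Steps.fwd (nat_lit 16384) (Steps.fwd (nat_lit 8192) (Steps.bwd (nat_lit 3) (Steps.bwd (nat_lit 4) (Steps.bwd (nat_lit 3) (Steps.fwd (nat_lit 8192) (Steps.fwd (nat_lit 12288) (Steps.fwd (nat_lit 20480) (Steps.bwd (nat_lit 4) (Steps.bwd (nat_lit 3) (Steps.fwd (nat_lit 8192) (Steps.fwd (nat_lit 12288) (Steps.fwd (nat_lit 16384) (Steps.bwd (nat_lit 5) (Steps.fwd (nat_lit 16384) (Steps.fwd (nat_lit 24576) (Steps.fwd (nat_lit 16384) (Steps.fwd (nat_lit 12288) (Steps.fwd (nat_lit 8192) (Steps.bwd (nat_lit 3) (Steps.bwd (nat_lit 4) (Steps.fwd (nat_lit 24576) (Steps.fwd (nat_lit 16384) (Steps.bwd (nat_lit 3) (Steps.fwd (nat_lit 8192) (Steps.fwd (nat_lit 12288) (Steps.bwd (nat_lit 4) (Steps.bwd (nat_lit 6) (Steps.bwd (nat_lit 6) (Steps.fwd (nat_lit 20480) (Steps.bwd (nat_lit 4) (Steps.bwd (nat_lit 3) (Steps.fwd (nat_lit 8192)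 (Steps.fwd (nat_lit 12288) (Steps.fwd (nat_lit 16384) (Steps.bwd (nat_lit 6) (Steps.bwd (nat_lit 4) (Steps.bwd (nat_lit 3) (Steps.fwd (nat_lit 8192) (Steps.fwd (nat_lit 12288) (Steps.fwd (nat_lit 16384) (Steps.fwd (nat_lit 24576) (Steps.bwd (nat_lit 5) (Steps.fwd (nat_lit 8192) (Steps.fwd (nat_lit 12288) (Steps.bwd (nat_lit 4) (Steps.fwd (nat_lit 20480) (Steps.fwd (nat_lit 16384) (Steps.fwd (nat_lit 12288) Steps.nil)))))))))))))))))))))))))))))))))))))))))))))))))))) (nat_lit 44) (nat_lit 7),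
  Rule.mk (nat_lit 4) (nat_lit 81) (Steps.bwd (nat_lit 3) (Steps.bwd (nat_lit 4) (Steps.fwd (nat_lit 12288) (Steps.bwd (nat_lit 4) (Steps.fwd (nat_lit 12288) Steps.nil))))) (nat_lit 14) (nat_lit 0),
  Rule.mk (nat_lit 2) (nat_lit 585) (Steps.fwd (nat_lit 12288) (Steps.fwd (nat_lit 16384) (Steps.bwd (nat_lit 6) (Steps.fwd (nat_lit 12288) (Steps.fwd (nat_lit 8192) (Steps.fwd (nat_lit 12288) (Steps.fwd (nat_lit 8192) (Steps.fwd (nat_lit 4096) (Steps.bwd (nat_lit 24) (Steps.fwd (nat_lit 12288) (Steps.fwd (nat_lit 20480) (Steps.bwd (nat_lit 6) (Steps.fwd (nat_lit 40960) (Steps.bwd (nat_lit 5) (Steps.bwd (nat_lit 5) (Steps.fwd (nat_lit 12288) (Steps.fwd (nat_lit 20480) (Steps.fwd (nat_lit 20480) (Steps.bwd (nat_lit 9) (Steps.bwd (nat_lit 5) (Steps.fwd (nat_lit 24576) (Steps.fwd (nat_lit 12288) (Steps.bwd (nat_lit 6) (Steps.fwd (nat_lit 20480) (Steps.fwd (nat_lit 40960) (Steps.bwd (nat_lit 5) (Steps.bwd (nat_lit 5) (Steps.bwd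 (nat_lit 3) (Steps.fwd (nat_lit 20480) (Steps.fwd (nat_lit 20480) (Steps.fwd (nat_lit 40960) (Steps.fwd (nat_lit 16384) (Steps.fwd (nat_lit 12288) (Steps.fwd (nat_lit 8192) (Steps.bwd (nat_lit 3) (Steps.bwd (nat_lit 4) (Steps.fwd (nat_lit 24576) (Steps.bwd (nat_lit 5) (Steps.fwd (nat_lit 24576) (Steps.bwd (nat_lit 4) (Steps.bwd (nat_lit 3) Steps.nil))))))))))))))))))))))))))))))))))))))))) (nat_lit 58) (nat_lit 37),
  Rule.mk (nat_lit 7) (nat_lit 53) (Steps.fwd (nat_lit 16384) (Steps.fwd (nat_lit 28672) (Steps.bwd (nat_lit 4) Steps.nil))) (nat_lit 34) (nat_lit 3),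
  Rule.mk (nat_lit 10) (nat_lit 53) (Steps.bwd (nat_lit 4) (Steps.fwd (nat_lit 40960) (Steps.bwd (nat_lit 4) Steps.nil))) (nat_lit 40) (nat_lit 1),
  Rule.mk (nat_lit 6) (nat_lit 123) (Steps.bwd (nat_lit 4) (Steps.bwd (nat_lit 6) (Steps.fwd (nat_lit 20480) (Steps.bwd (nat_lit 4) (Steps.fwd (nat_lit 24576) (Steps.bwd (nat_lit 5) (Steps.fwd (nat_lit 24576) (Steps.bwd (nat_lit 4) Steps.nil)))))))) (nat_lit 24) (nat_lit 2),
  Rule.mk (nat_lit 5) (nat_lit 123) (Steps.bwd (nat_lit 4) (Steps.bwd (nat_lit 6) (Steps.fwd (nat_lit 20480) (Steps.bwd (nat_lit 6) (Steps.bwd (nat_lit 4) (Steps.bwd (nat_lit 5) (Steps.fwd (nat_lit 24576) (Steps.bwd (nat_lit 4) Steps.nil)))))))) (nat_lit 25) (nat_lit 10),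
  Rule.mk (nat_lit 5) (nat_lit 123) (Steps.bwd (nat_lit 4) (Steps.bwd (nat_lit 5) (Steps.fwd (nat_lit 16384) (Steps.fwd (nat_lit 20480) (Steps.bwd (nat_lit 6) (Steps.fwd (nat_lit 20480) (Steps.bwd (nat_lit 4) (Steps.bwd (nat_lit 5) Steps.nil)))))))) (nat_lit 25) (nat_lit 6),
  Rule.mk (nat_lit 18) (nat_lit 151) (Steps.fwd (nat_lit 12288) (Steps.fwd (nat_lit 16384) (Steps.bwd (nat_lit 10) (Steps.fwd (nat_lit 12288) (Steps.bwd (nat_lit 9) (Steps.fwd (nat_lit 12288) (Steps.bwd (nat_lit 4) (Steps.bwd (nat_lit 10) (Steps.fwd (nat_lit 12288) (Steps.bwd (nat_lit 9) Steps.nil)))))))))) (nat_lit 52) (nat_lit 0),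
  Rule.mk (nat_lit 25) (nat_lit 193) (Steps.fwd (nat_lit 20480) (Steps.fwd (nat_lit 16384) (Steps.bwd (nat_lit 10) (Steps.bwd (nat_lit 6) (Steps.bwd (nat_lit 4) (Steps.bwd (nat_lit 10) (Steps.fwd (nat_lit 20480) (Steps.bwd (nat_lit 4) (Steps.bwd (nat_lit 5) (Steps.fwd (nat_lit 40960) (Steps.bwd (nat_lit 5) (Steps.fwd (nat_lit 40960) (Steps.bwd (nat_lit 5) Steps.nil))))))))))))) (nat_lit 200) (nat_lit 0),
  Rule.mk (nat_lit 19) (nat_lit 53) (Steps.bwd (nat_lit 5) (Steps.bwd (nat_lit 20) (Steps.fwd (nat_lit 20480) Steps.nil))) (nat_lit 136) (nat_lit 3),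
  Rule.mk (nat_lit 4) (nat_lit 123) (Steps.bwd (nat_lit 6) (Steps.fwd (nat_lit 20480) (Steps.fwd (nat_lit 16384) (Steps.fwd (nat_lit 24576) (Steps.bwd (nat_lit 5) (Steps.fwd (nat_lit 24576) (Steps.fwd (nat_lit 16384) (Steps.bwd (nat_lit 6) Steps.nil)))))))) (nat_lit 24) (nat_lit 3),
  Rule.mk (nat_lit 10) (nat_lit 151) (Steps.bwd (nat_lit 3) (Steps.bwd (nat_lit 9) (Steps.bwd (nat_lit 18) (Steps.fwd (nat_lit 12288) (Steps.bwd (nat_lit 4) (Steps.fwd (nat_lit 36864) (Steps.bwd (nat_lit 3) (Steps.fwd (nat_lit 40960) (Steps.fwd (nat_lit 12288) (Steps.bwd (nat_lit 4) Steps.nil)))))))))) (nat_lit 52) (nat_lit 8),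
  Rule.mk (nat_lit 9) (nat_lit 193) (Steps.fwd (nat_lit 24576) (Steps.bwd (nat_lit 25) (Steps.bwd (nat_lit 6) (Steps.bwd (nat_lit 4) (Steps.bwd (nat_lit 10) (Steps.bwd (nat_lit 6) (Steps.bwd (nat_lit 4) (Steps.fwd (nat_lit 36864) (Steps.bwd (nat_lit 6) (Steps.fwd (nat_lit 16384) (Steps.fwd (nat_lit 24576) (Steps.bwd (nat_lit 9) (Steps.fwd (nat_lit 24576) Steps.nil))))))))))))) (nat_lit 200) (nat_lit 20),
  Rule.mk (nat_lit 3) (nat_lit 585) (Steps.bwd (nat_lit 6) (Steps.bwd (nat_lit 6) (Steps.fwd (nat_lit 40960) (Steps.bwd (nat_lit 5) (Steps.bwd (nat_lit 5) (Steps.bwd (nat_lit 3) (Steps.bwd (nat_lit 6) (Steps.fwd (nat_lit 20480) (Steps.bwd (nat_lit 9) (Steps.bwd (nat_lit 4) (Steps.bwd (nat_lit 3) (Steps.fwd (nat_lit 8192) (Steps.fwd (nat_lit 12288) (Steps.fwd (nat_lit 16384) (Steps.bwd (nat_lit 5) (Steps.fwd (nat_lit 24576) (Steps.fwd (nat_lit 24576) (Steps.fwd (nat_lit 16384) (Steps.bwd (nat_lit 3) (Steps.fwd (nat_lit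 8192) (Steps.fwd (nat_lit 12288) (Steps.bwd (nat_lit 4) (Steps.bwd (nat_lit 6) (Steps.fwd (nat_lit 12288) (Steps.fwd (nat_lit 8192) (Steps.bwd (nat_lit 3) (Steps.fwd (nat_lit 8192) (Steps.fwd (nat_lit 4096) (Steps.bwd (nat_lit 24) (Steps.fwd (nat_lit 12288) (Steps.fwd (nat_lit 20480) (Steps.bwd (nat_lit 6) (Steps.fwd (nat_lit 40960) (Steps.fwd (nat_lit 24576) (Steps.fwd (nat_lit 24576) (Steps.fwd (nat_lit 12288) (Steps.bwd (nat_lit 6) (Steps.fwd (nat_lit 20480) (Steps.fwd (nat_lit 40960) (Steps.bwd (nat_lit 5) (Steps.fwd (nat_lit 24576) Steps.nil))))))))))))))))))))))))))))))))))))))))) (nat_lit 58) (nat_lit 13),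
  Rule.mk (nat_lit 4) (nat_lit 81) (Steps.bwd (nat_lit 3) (Steps.fwd (nat_lit 16384) (Steps.fwd (nat_lit 12288) (Steps.bwd (nat_lit 4) (Steps.bwd (nat_lit 3) Steps.nil))))) (nat_lit 14) (nat_lit 0),
  Rule.mk (nat_lit 9) (nat_lit 151) (Steps.bwd (nat_lit 4) (Steps.fwd (nat_lit 12288) (Steps.bwd (nat_lit 17) (Steps.bwd (nat_lit 10) (Steps.bwd (nat_lit 3) (Steps.bwd (nat_lit 9) (Steps.fwd (nat_lit 16384) (Steps.fwd (nat_lit 12288) (Steps.fwd (nat_lit 36864) (Steps.bwd (nat_lit 3) Steps.nil)))))))))) (nat_lit 53) (nat_lit 9),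
  Rule.mk (nat_lit 10) (nat_lit 151) (Steps.fwd (nat_lit 12288) (Steps.fwd (nat_lit 40960) (Steps.fwd (nat_lit 16384) (Steps.bwd (nat_lit 3) (Steps.fwd (nat_lit 73728) (Steps.fwd (nat_lit 36864) (Steps.fwd (nat_lit 12288) (Steps.bwd (nat_lit 9) (Steps.bwd (nat_lit 4) (Steps.bwd (nat_lit 3) Steps.nil)))))))))) (nat_lit 53) (nat_lit 7),
  Rule.mk (nat_lit 2) (nat_lit 585) (Steps.fwd (nat_lit 12288) (Steps.fwd (nat_lit 8192) (Steps.fwd (nat_lit 4096) (Steps.bwd (nat_lit 24) (Steps.bwd (nat_lit 3) (Steps.bwd (nat_lit 6) (Steps.bwd (nat_lit 6) (Steps.fwd (nat_lit 40960) (Steps.bwd (nat_lit 5) (Steps.bwd (nat_lit 5) (Steps.bwd (nat_lit 3) (Steps.bwd (nat_lit 6) (Steps.fwd (nat_lit 20480) (Steps.bwd (nat_lit 9) (Steps.bwd (nat_lit 5) (Steps.fwd (nat_lit 24576) (Steps.fwd (nat_lit 12288) (Steps.fwd (nat_lit 20480) (Steps.bwd (nat_lit 6) (Steps.fwd (nat_lit 40960) (Steps.fwd (nat_lit 24576) (Steps.fwd (nat_lit 24576) (Steps.fwd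 (nat_lit 12288) (Steps.bwd (nat_lit 6) (Steps.fwd (nat_lit 20480) (Steps.fwd (nat_lit 40960) (Steps.fwd (nat_lit 16384) (Steps.bwd (nat_lit 3) (Steps.fwd (nat_lit 8192) (Steps.fwd (nat_lit 12288) (Steps.bwd (nat_lit 4) (Steps.bwd (nat_lit 5) (Steps.fwd (nat_lit 24576) (Steps.fwd (nat_lit 24576) (Steps.bwd (nat_lit 4) (Steps.bwd (nat_lit 3) (Steps.fwd (nat_lit 8192) (Steps.fwd (nat_lit 12288) (Steps.fwd (nat_lit 16384) (Steps.bwd (nat_lit 6) (Steps.bwd (nat_lit 3) Steps.nil))))))))))))))))))))))))))))))))))))))))) (nat_lit 58) (nat_lit 42),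
  Rule.mk (nat_lit 1) (nat_lit 585) (Steps.fwd (nat_lit 8192) (Steps.fwd (nat_lit 12288) (Steps.fwd (nat_lit 8192) (Steps.bwd (nat_lit 3) (Steps.bwd (nat_lit 5) (Steps.fwd (nat_lit 16384) (Steps.fwd (nat_lit 12288) (Steps.fwd (nat_lit 8192) (Steps.bwd (nat_lit 3) (Steps.bwd (nat_lit 4) (Steps.fwd (nat_lit 20480) (Steps.bwd (nat_lit 6) (Steps.bwd (nat_lit 6) (Steps.bwd (nat_lit 4) (Steps.fwd (nat_lit 12288) (Steps.fwd (nat_lit 8192) (Steps.bwd (nat_lit 3) (Steps.fwd (nat_lit 16384) (Steps.fwd (nat_lit 36864) (Steps.bwd (nat_lit 5) (Steps.bwd (nat_lit 5) (Steps.bwd (nat_lit 3) (Steps.bwd (nat_lit 6) (Steps.fwd (nat_lit 20480) (Steps.fwd (nat_lit 36864) (Steps.bwd (nat_lit 5) (Steps.fwd (nat_lit 24576) (Steps.fwd (nat_lit 12288) (Steps.fwd (nat_lit 20480) (Steps.bwd (nat_lit 6) (Steps.fwd (nat_lit 36864) (Steps.fwd (nat_lit 24576) (Steps.fwd (nat_lit 24576) (Steps.fwd (nat_lit 12288) (Steps.bwd (nat_lit 6) (Steps.fwd (nat_lit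 20480) (Steps.fwd (nat_lit 36864) (Steps.bwd (nat_lit 5) (Steps.fwd (nat_lit 24576) (Steps.bwd (nat_lit 3) (Steps.fwd (nat_lit 98304) Steps.nil))))))))))))))))))))))))))))))))))))))))) (nat_lit 59) (nat_lit 2),
  Rule.mk (nat_lit 3) (nat_lit 151) (Steps.bwd (nat_lit 4) (Steps.fwd (nat_lit 36864) (Steps.bwd (nat_lit 3) (Steps.fwd (nat_lit 40960) (Steps.bwd (nat_lit 18) (Steps.fwd (nat_lit 12288) (Steps.fwd (nat_lit 16384) (Steps.fwd (nat_lit 36864) (Steps.bwd (nat_lit 3) (Steps.fwd (nat_lit 40960) Steps.nil)))))))))) (nat_lit 52) (nat_lit 6),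
  Rule.mk (nat_lit 9) (nat_lit 151) (Steps.fwd (nat_lit 69632) (Steps.bwd (nat_lit 3) (Steps.bwd (nat_lit 4) (Steps.fwd (nat_lit 36864) (Steps.fwd (nat_lit 12288) (Steps.fwd (nat_lit 40960) (Steps.fwd (nat_lit 12288) (Steps.fwd (nat_lit 16384) (Steps.bwd (nat_lit 10) (Steps.bwd (nat_lit 3) Steps.nil)))))))))) (nat_lit 52) (nat_lit 10),
  Rule.mk (nat_lit 10) (nat_lit 151) (Steps.bwd (nat_lit 3) (Steps.fwd (nat_lit 40960) (Steps.fwd (nat_lit 16384) (Steps.fwd (nat_lit 12288) (Steps.bwd (nat_lit 10) (Steps.fwd (nat_lit 12288) (Steps.fwd (nat_lit 40960) (Steps.fwd (nat_lit 16384) (Steps.bwd (nat_lit 3) (Steps.fwd (nat_lit 73728) Steps.nil)))))))))) (nat_lit 53) (nat_lit 2),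
  Rule.mk (nat_lit 2) (nat_lit 585) (Steps.fwd (nat_lit 12288) (Steps.fwd (nat_lit 8192) (Steps.fwd (nat_lit 4096) (Steps.bwd (nat_lit 24) (Steps.bwd (nat_lit 3) (Steps.bwd (nat_lit 6) (Steps.bwd (nat_lit 6) (Steps.bwd (nat_lit 9) (Steps.fwd (nat_lit 24576) (Steps.bwd (nat_lit 5) (Steps.fwd (nat_lit 12288) (Steps.fwd (nat_lit 20480) (Steps.fwd (nat_lit 20480) (Steps.bwd (nat_lit 9) (Steps.fwd (nat_lit 24576) (Steps.fwd (nat_lit 24576) (Steps.bwd (nat_lit 3) (Steps.fwd (nat_lit 20480) (Steps.bwd (nat_lit 6) (Steps.bwd (nat_lit 9) (Steps.fwd (nat_lit 24576) (Steps.fwd (nat_lit 24576) (Steps.fwd (nat_lit 12288) (Steps.fwd (nat_lit 20480) (Steps.fwd (nat_lit 20480) (Steps.fwd (nat_lit 40960) (Steps.fwd (nat_lit 16384) (Steps.bwd (nat_lit 3) (Steps.fwd (nat_lit 8192) (Steps.fwd (nat_lit 12288) (Steps.bwd (nat_lit 4) (Steps.bwd (nat_lit 5) (Steps.bwd (nat_lit 5) (Steps.bwd (nat_lit 5) (Steps.fwd (nat_lit 16384) (Steps.fwd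 (nat_lit 12288) (Steps.fwd (nat_lit 8192) (Steps.bwd (nat_lit 3) (Steps.bwd (nat_lit 4) (Steps.fwd (nat_lit 20480) (Steps.bwd (nat_lit 3) Steps.nil))))))))))))))))))))))))))))))))))))))))) (nat_lit 58) (nat_lit 42),
  Rule.mk (nat_lit 1) (nat_lit 585) (Steps.fwd (nat_lit 8192) (Steps.fwd (nat_lit 12288) (Steps.fwd (nat_lit 8192) (Steps.bwd (nat_lit 3) (Steps.bwd (nat_lit 5) (Steps.bwd (nat_lit 4) (Steps.fwd (nat_lit 12288) (Steps.fwd (nat_lit 8192) (Steps.bwd (nat_lit 3) (Steps.fwd (nat_lit 16384) (Steps.fwd (nat_lit 20480) (Steps.bwd (nat_lit 6) (Steps.bwd (nat_lit 6) (Steps.fwd (nat_lit 16384) (Steps.bwd (nat_lit 3) (Steps.fwd (nat_lit 8192) (Steps.fwd (nat_lit 12288) (Steps.bwd (nat_lit 4) (Steps.bwd (nat_lit 10) (Steps.fwd (nat_lit 24576) (Steps.bwd (nat_lit 5) (Steps.fwd (nat_lit 12288) (Steps.fwd (nat_lit 20480) (Steps.fwd (nat_lit 20480) (Steps.bwd (nat_lit 10) (Steps.fwd (nat_lit 24576) (Steps.fwd (nat_lit 24576)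 (Steps.bwd (nat_lit 3) (Steps.fwd (nat_lit 20480) (Steps.bwd (nat_lit 6) (Steps.bwd (nat_lit 10) (Steps.fwd (nat_lit 24576) (Steps.fwd (nat_lit 24576) (Steps.fwd (nat_lit 12288) (Steps.fwd (nat_lit 20480) (Steps.fwd (nat_lit 20480) (Steps.fwd (nat_lit 36864) (Steps.bwd (nat_lit 5) (Steps.bwd (nat_lit 5) (Steps.bwd (nat_lit 3) (Steps.fwd (nat_lit 98304) Steps.nil))))))))))))))))))))))))))))))))))))))))) (nat_lit 59) (nat_lit 2)]
noncomputable def R : List (List (Rule)) := [R_0, R_1, R_2, R_3, R_4, R_5, R_6, R_7, R_8, R_9, R_10, R_11, R_12, R_13, R_14, R_15, R_16, R_17, R_18, R_19, R_20, R_21, R_22, R_23, R_24, R_25, R_26]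
def LW : List Word := [[], [0], [4], [6], [8], [10], [11], [12], [13], [14], [15], [70], [71], [72], [73], [74], [75], [78], [79], [86], [87], [90], [91], [92], [93], [80], [81], [0], [1], [4], [5], [6], [7], [8], [9], [10], [11], [12], [13]]
def par : Par := ⟨12, 6, 18, 30, 4095, 262143, 1073741823⟩
theorem hpar : par.ok := by decide
theorem hR0_0 : lall (ltake (R) 14) (fun l => lall l (ruleOK R0 LW par)) = true := by decide +kernel
theorem hR0_1 : lall (ldrop (R) 14) (fun l => lall l (ruleOK R0 LW par)) = true := by decide +kernel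
theorem hR0 : lall (R) (fun l => lall l (ruleOK R0 LW par)) = true := (lall_split 14 hR0_0 hR0_1)
theorem hR : RulesOK R0 LW par R := rulesOK_of rfl hR0
def cols : List (ℕ × ℕ) := [(4096, 1), (8192, 2), (12288, 3), (16384, 4), (20480, 6), (28672, 8), (36864, 10), (45056, 12), (53248, 14), (61440, 16), (69632, 18), (77824, 20), (86016, 22), (94208, 24), (102400, 26)]
theorem hcols : lall cols (colOK R0 LW par) = true := by decide +kernel
noncomputable def JS0 : List ℕ := [nat_lit 0x700000f904c41590480780010010001014000000200001d208c82920880e104400d104406c82100688210344100034410019207c01a207c0c103c00d103c05c81d006881d02c0008012004000e054000000882002840e903e40d81300080010008090006000903c00a0110000007002c007020003000a40d000003c0002060012206c07102e40d102c034816003c81601840a801e40a80b0000003000005102a40b1028024815002c00c2050041026003902601c812001c81200c408800e4088052040007204002101e003901e00c80f000c80f0044070000407001,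
  nat_lit 0x40070004100000003800007c8392128837072000800800080a000000100000e906c424106a0e083500e483506e41a007241a03620cc03920cc1a906401c90640d083100e483106641800724180320004004000418800000200000c083120e482e05e418107a41702e20bc83d20b816905c019105c0b082d00c882d056418106841682a0000005001000102a417106e41602920b483720b0141058014905809c82b00a482b04c415005441502520a402a20a4121058009905208c82b20b88280440018018005800c054002001c002042000800e000820,
  nat_lit 0x21b484a212429908e000108e14084500008450a442180004218512104000210428107e000107e13c000016000009c43300b402d90864211082420107e41f107a1340030160003211084309800110c602704b0004057000425000002a0000124844210c842210424108e42b108811c000001000300040a908a42e9086118844217484308a421809e4218442108051210821908202890821080010054001082000002a000040211484920fc1f9088426107e0f8003003800307a001001e00103c000400f000418800000780000c083f212c83b07641f006241d83a000c00c002c00602a001000e001021,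
  nat_lit 0x7001038000a00186f000c002215037000a00085f21440000da428000600890ae42c10b2002002200186c000888701e8887004035800244300f201200401a800000808640d244200f003b90d6013804c42910a2428109e427109a42606800288530000338002004800019885200008500ca0048000002864011c00021fc3190a80000620118000214830808a00010a0184043000484e0c0426000017c0410108042010c86f01b006c21e40022120849212884b0bc00080d2000908e17400000480110b843b00d203480d442610964251092424108e423108a16c85201a08520b442880d4428859214006a21402c0002427109a42600004251096426109a4270572120002212c2b10980001098128001017c0010aa4248000003854,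
  nat_lit 0x5c0030de43e800443d86100d000100c044004c00006d0094031000003110e4430000443002221800122188850104045026809b0268045010c0412214431108000910821403f000003f108016000201608321d000121d041003c000003c2040260000026100034000003407f220c0010fa44280061f4893000803c0fc44080041f488100183e913400280781f008300100390f643300061e800900103c801200187200140020f00048002431077000000900003b10be00000041d401a000085d0e8040000242d87321600030e400b800442c071,
  nat_lit 0x229400022944e1146000114621405c000405c136452000045209a229000022904c914800011482608a400a08a412e057801e057896229000822904a80bc00380bc25089b000089b12644c800044c88d01480010148491134000113424489a000089a12044d000044d08f226800422684700b400180b4234064000445115a001089229c006228846115c00288922c400401f045915400208900cc008114442000e1b48a8001c44916400300f41f009b00140770f601a800817c02e001444806c002070,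
  nat_lit 0x22bc00022bc01000600000062c400502148ca010c8ca02140420014580008042010e0420af000c044000c57000400211562b40010088001158000006e45b8ab01fc08303600d803688a0227c89e227489c226c89a2264898225c8962254894224c8922244890223c88e223488c222c88a2224888221c8862214884220c882220488021fc87e21f455115606d11562a404c00008a715045380000248a723848a8229c531142000114225089f000089f12c44e800044e8a5226c000226c469132003113225089c000089c14644d000044d07f2260000226052112c000112c214894000089414600100680010a2000402500045080000288a00094002223c29111c000111c02800100e00c10080026008003800044f800001b818201b89e008401e233c0c203140c6225889522508932248891224088f223888d223088b13a05b806205b87f,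
  nat_lit 0x22d800022d849916800011682f08b200008b217445800004580b922b800022b852915800011582e08aa00008aa12845400004540bb229800022985d114800011482e48a200008a214a45000004500b8227800022784a113800011382ec89a000089a17444c000044c0b92258000225852912800a11282e089e000089e14644e000044e0b7226800022685b113000011302d4896000089614844a000044a0b42248000224851912000011202dc88e000088e16c44600004460b52228000222852111000311102d08b100008b316600500060028b2,
  nat_lit 0x8e804848e800046680040008cc237c000196472823a47280003288de00002f800000091bc324002000464000400011ba31c8e004688e000006311b80008c5000400018846e823046e800030c8da00046111b40000c1236811623688d918046c000046c0bf235800023585f11a800011a82e08d200008d217c46800004680b82338000233852919800011982f08ca00008ca12646400004640bd2318000231849918800011882f08c200008c212846000004600bb22f800022f84a117800011782f08ba00008ba12645c000045c0bd,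
  nat_lit 0x94900146e129800202621f0135000c1280f605880044708cf04b00011840960000304096000009604a86d8130000800004c0da02b012723706c815609391b63600c0000c0011ae000000a0000d623988e700008e71aa00082620008d42394000023869927c47c8004348001003400100447091c4000001e007801800e801e007800047111c23448e2000068001400011c433801100008e219200a00004710c7003c000238864800c00011c433800800008e219e00380004710cf0018000238867800400011c433800900008e219200600024710c7000c0010da00300004708c9,
  nat_lit 0x24b000024b074125800012583c492c000092c1e003d000203d0ef24b800024b875925800012583b808300080831da4a200024a20ec01fc00001fc75816a000816a3a893400009341d001100000110e9241c000241c740048000004839c03b008c001008c731206000920638490300009031ca00e002a00e0e402b001402b071810c009810c38892a004892a1c2083800437412400086e82480008e0250c008250046129c003929637c13400186f129e0028dc04bc0051bc4a5800837000a001061025c0030dd,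
  nat_lit 0x94e000094e21204e000604e108253000025307b8134000013441c94d0038001253483129800012984140a300080a32084b200024b2103027c000027c8101aa00081aa40495400009541fe0210000021100249c000249c7f808800000883f805e010c000010c7e924800012483e892200009221f401c000601c0fc029800202987d927a000127a3e809000080901f204880020488f8024400002447b811a49c126e49b126a49a1266499014c064018a4bb02d24bb01ba06f81200000f60230000023016126e000126e3849370004937002c7a810400001043d093600009361b049b0000045926c3cc93500149351e449600004960e7,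
  nat_lit 0x253000025308a9294000129445094800009481d64a300004a3117251000025107612840001284458940000094022a49f008049f114258c03700009631e64b180004b18e1258c000258c0361ea4b1805e4b18d825100002510811284000128444c940000094020649f000049f11224f000024f08892740001274440938000093820449b000049b11324d000024d081926400012644489300000930222497002049711025cc0fe03f400021e00692e400e12e4438951000c9511fc4a8000400012a0434950000095021800092a000212a042c94e000094e1fe4a700004a710a,
  nat_lit 0x600008813940b292c201400304a40032500010234001127000406600048a00000228000440116058095d24c0d780ea0d791906b807306cc1ae2300d680e40d6925266c000266c881332000133240c15200041522484cd00004cd12326680002668911334000133448499a01a899a2404ca00004ca11426480002648760296000829647c993000099323c4c980004c991d264c000264c8e1326031132646c18b0178191062c8d031402e8314464189016c18e06248c02d202c82dc0b4918255000025507592a400012a445c95000009501d84a700004a7116,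
  nat_lit 0x25cc02b25cc9a12e40c212e44cc97106101db061097126400003420c913127589da25c01f80020cf832c4bc00006740002604e993be4b703b000019c06649593a24f112da0e496d053c96d06a4e782924b60360000197000027139a0bc92d60d0000068419f25e4e793ae4b502f27389db25a817139a0a192d44b89cc05d096a25a000804a00092c00001af06b09593a24eb12d0078968050c9680324e7827a4b381a00001aa000027139a0b692cc0609d106f496625400003760de8378090929273c1382594038006080800627000204200021260008012000914,
  nat_lit 0xf000c3c024200113a04940010f44d1000032000400149c70044172048ca2811c049939400193d0008119000801024608b00005100040008a1938800087827080000be4e20232002000250800500009c12824df8002005940000012c00005881040518012001001800002300b382ca4ff03e24ff029a0a8000c00213764de13f045c166001400300209f00d402b937400113d002000104989e00104e582920f502924e5828a00413b26d40030f009380044e812700042f800009200001d89b2000497a0e84bc00001e811e27101700004977272000138608f135e4e09c20500158048497625d49b92ec09212ec20497504b497526c4ba00664ba135,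
  nat_lit 0x4700041e42a600083a60e90082548000074c1df2a2509000650c03907a4002288ca8136c00294701280040be504800a5181c00018a303840028d006f400429e5008006022888284400328e0f0800450194e26b000228e02000020dc94e27900012834a682740021352530204000c9e10c04ef80041e89ad000c38008a00106f011400127703b826400214b27640030108a50008001943002800228c4ea00023409e200009d429200f00044e880164e893a45201260014a3824e002146,
  nat_lit 0x700061a051f000e51c077001c3913b2004947005c00828c4e880184e788c28e000b28e4eb001403388b007c0092c81168010103163007800701bcb1003c00305f00640051980398008032161057000428601200061e402400083902980009600080000004caf802400b000401b029457816500e80012ba0b2000600015c00801630000ad800201b807255400005800212b401f8000018159050c01900b0ac00004e0938e55c055002c1ca2ac00303de0f700a054800528782022aa1020008027154,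
  nat_lit 0x27a40001a00fe840a12e04ac12c84ac10293e400013ce4f417b27c420407f49ec27ac9ea27a49e8279c9e62f44f600104f617927ac00627acbc13d400213d45dc9e900089e92ec4f400004f417527a019927a0ba13ce0d113ce5cc9e602a09e62e44f281404f297127901f92790b8147200014725b41ed00001ed2de51a800a51a81365b81ee00101ee0b04f700064f701627c000227c00193e000093e03dc9df00009df2da4ed93b400093b44ed83e208703e25b000027649da07c010d07c09da2764b593b04ec83de08682180f793b24ec16a012801f0000b493dc00000a05a0a1401209ec2ce025837400a966019c0082ca011800e3409db0020a3803e003964,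
  nat_lit 0x9eb00009eb1464f480004f48b7279c000279c5b13ca00013ca2d49e300009e31484f080004f08b4277c000277c5193ba00013ba2dc9db00049db16c003143410e143462400502dc00516a002016e0020b9000c0b7000c8a800405b800444400102dca502d000000460000fa284c21604f80fe047c9f627d49f427cc9f227c49f027bc9ee27b49ec27ac9ea27a49e8279c9e627949e4278c9e227849e0277c9de27749dc276c9da27649d8275c9d627549d4274cc4000c03c00ee03814b461c00501180ff0480c300080218100614003011007f30800100f000104a000403f295427800002000e260c071018808301e4a46071c1dc04ac12c015402909a002900c81de01f4a3327bcc1000601394a26040020144a5030000003f800017f07f41fc29349f227a12d04044f897e00040af00440012fa000016a00017c,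
  nat_lit 0x285400028545d142600014262e4a110000a1114a50780005078b8283400028344a141600014162eca090000a0917450380005038b92814000281452940600014062e0a010000a011284ff80004ff8bb27f400027f45d13f600013f62e49f900009f914a4fb80004fb8b827d400027d44a13e600013e62ec9f100609f1174502800050298b280c000280c4e140200014026289ff00009ff16c4fe80004fe8b527ec00027ec5213f200013f22d09f700009f71464fa80004fa8b727cc00027cc5b13e200013e22d49ef00009ef1484f680004f68b4,
  nat_lit 0xa260000a263245120006512113288c000288cc894420001442644a1f0128a1f0004c8143e000143e408a1d0118a1d31e518800051898e28bc00028bc8a145a000145a634a2b0000a2b1e45148000514915289c000289c8b144a000144a630a230000a2322e51080005108eb287c000287c79143a000143a454a1b0000a1b22c50c800050c98c285c000285c8b942a000142a3aca130000a131e45088000508915283c000283c8b141a000141a630a0b0000a0b22e50480005048eb281c02f281c79143600014362f4a190000a1912650b800050b8bc,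
  nat_lit 0x97000409733854280005428fa001c06c001ccd95120001512430a890000a89218544829000015125f4a890000a891ee54480005448f700000660000cd15100d000c86640d8038406333006b819a03119703580d20184cb01aa06600c0654a4a0000a4a328524000052411029180002918c99488000148863ca420000a42222520000052011228f800028f8c91478000147844ca3a0000a3a20451c000051c18f28d800028d88894680001468448a320000a32324518000051811328b800028b8811458000145863ca2a0000a2a2225140000514112,
  nat_lit 0xb300007d15241528384139822808a94c253014be52f14ba52e14b652d14b252c14ae52b14aa52a14a652914a2528149e527149a52614965251492524148e523148a52214865211482520147e51f147a51e147651d147251c146e51b146a51a1a62a080002a08bc80020540002694a8b0000a8034854000005459a30a801c82a00d114de00194de680a6e0004a6e2da53794dc00094dc53794e000114e068400029b4a6e29bc00129bca6e29b4cf14d853694dc002800053714da53619d29b800029b8d014dc00014dc360a6e0000a6e1b053700005370d829b800629b8d014d200014d25b4a690000a691ee53480005348f729a400029a47b94d200014d25b400029a4a6a29ac00129aca6a29a4cf14d053494d4001000053514d253419d29a800029a8d014d400214d4384a680000a682da534000253410c29a819329a8a6929a000129a0a6933e00014ce53414d20c914d253414ce678a66299ca6805c019129a0a672998ce951200015120aa16e,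
  nat_lit 0x29c000029c05b94dc00014dc6aca6c0000a6c16853500005351ac29a000029a05a14cc00014cc6aca640000a6416e53100005311ab298000029805b94bc00014bc6aca5c0000a5c16852d000052d1ac296000029605a14ac00014ac6aca540000a5416a529000052909c29400002940c5949c000149c270a4c0000a4c314525000052509c29200002920c5948c000148c6aca440000a4416e52100005211ab290000029005a147c000147c6b0a3c0000a3c16851d000051d1ab00101200010d5000609000066a4002048000235000082400009a7,
  nat_lit 0x2a0c0002a0cd6950200015022e4a7f0000a7f12653e800053e8bd29ec00029ec4994f200014f22f0a770000a7712653a800053a8bd29cc00029ccd694e200014e22eca6f0000a6f35a53680005368b829ac00029ac5f14d200014d22e0a6700b8a6735a54900005491ac2a400002a405a151c000151c6aca8c0000a8c16a54500005451ab2a200002a205a150c000150c6b0a840000a8416854100005411ab2a000002a005a94fc00014fc290a7c0000a7c16a53d000053d1ab29e000029e05a14ec00014ec6b0a740000a7416853900005391ab,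
  nat_lit 0x2a580002a58c6152802e15286b8abf0000abf17c55e800055e8b82aec0002aecd6957200015722e4ab70000ab735a55a800055a8b82acc0002acc5f156200015622e0aaf0000aaf35a55680005568b92aac0002aac52955200015522e4aa70000aa735a55280005528b82a8c0002a8c5f154200015422e0a9f0000a9f35a54e800054e8bb2a6c0002a6cd6953200015322e0a970000a9717c54a800054a8b82a4c0002a4cd6952200015222eca8f0000a8f35a54680005468bb2a2c0002a2cd6951200015122e0a870000a8717c54280005428b8,
  nat_lit 0x2b580002b588a95a800015a86b8ad20000ad231856800005681af2b380002b38c6159800015986b8aca0000aca1d656400005641ae2b180002b18c6158800015886bcac20000ac231856000005601ae2af80002af875957800015786b8aba0000aba1d655c000055c1ae2ad80002ad8c6156800015686bcab20000ab231855800005581ae2ab80002ab88a95580001558450aaa0000aaa31c55400005541142a980002a98c695480001548450aa20000aa231c55000005501ae2a780002a7875953800015386b8a9a0000a9a31854c000054c1af,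
  nat_lit 0x2ba40002ba4d815ce00015ce408ae50000ae536057180005719922b840002b84d895be00015be648add0000add36056d800056d9112b640002b648815ae00015ae650ad50000ad522056980005699932b440002b4488159e000159e650acd0000acd36056580005659022b240002b24d8158e000158e648ac50000ac536256180005619922b0408a2b04d815d800015d86bcaea0000aea31857400005741ae2b980002b988a95c800015c86b8ae20000ae231857000005701af2b780002b78c615b800015b86b8ada0000ada22a56c000056c116,
  nat_lit 0xb1f0014b1f34058e000058e16d2c700002c7086163800096385b4b1e088cb1e2c74b1c0004b1c2c74cf800058d963858e844458e963858d99e2c68b1b2c702340884b1c2c6cb1a33a57701705771b22c640002c64d8962e000162e648b150000b1536058980005899112c440002c44d8161e000161e648b0d0000b0d36258580005859922c240002c24d8160e000160e444b050000b0522458180005819112c040002c04d815fe00015fe648afd0000afd36257d800057d9922be40002be4d815ee00015ee408af50000af536057980005799922bc40002bc4d895de00015de648aed0000aed3605758000575902,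
  nat_lit 0x2ca40002ca4d016520001652360b290018b29340592000059216d2c900002c907b964800016485b4b240000b241ee592000059216d0000b242c94b260004b262c94b2433c59196485928006000164a5921646674b250000b2534059280005928d82c940042c94d0164400016445b4b220000b221ee591000059116d0000b222c8cb240004b242c8cb2233c5909644591800a00016465911642674b230000b2334059180005918e12c8c0002c8c7096460001646384b230018b2334058f000058f16d2c780002c7886163c000163c430b1e0000b1e21858f000058f16d0000b1e2c7cb200004b202c7cb1e33c58e963c58f8006000163e58f163a674b1f0000b1f34058f800058f8e1,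
  nat_lit 0x2f9800a2cc0e4800c0000018720be60000b3038e00003881ce1c607a439b0008e283265c480027100000e5c00038659580005f09bb2f7c0012ca4a097ba000164e708002002439138200080141c81c000000080e3cdf800a1c700026f8bd90000b2337a59080025eb9bc000019c00002017a8000963c6ec0042e401a22df8dd00060d797a26e40020718bd0370000971a5e79b700001ad2f38db04521ef87c41f1830a58e163658d163258c1b500081c90e8cda00021d2041a6cc0000e9000007a5ef17d458c83b2ca4b280000b282ca4b2a0004b2a3425939650594800a0001652594164e674b290000b2934059480005948d8,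
  nat_lit 0x2f1c0002cd4e8000400a802e770b340004bce3b400002860000f92f2c0002cc4ec165e00017926e0bc70000b2d39c59580005e29cf2f0c0002ca4ed964e00097827680020a240023b25df00025921d800001320000cd964200017766e01c904f00073ae0e402740031d6071c13c0014ea838c09d0008750b71000cb1c09e1a283340011d3000419a00047d83260001d22c5c00706481993a200302625dc9d000141322eb8e78008098175a73800304c8bac39a00102605d59cc0004191087ce580000c880003e818f2f8035e0fe43fa0fe83fc2cc0b2f2cb8b2d2cb0b2b2ca8b292ca0b272c98b252c90b232c88b212c80b1f2c78b1d2c70b1b2c68b192c60b172c58b152c50b132c48b112c40b0f39400480000089c8,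
  nat_lit 0x30e08140043c0002000250cb5800006816d621980025ab9eb30101fd0000f5000818484507a4b54000c30b37000106100010b100042e70004f4000016280003e4be9000cb4f39c00105fe0011c300042e40004548000161000066cb4a0000be439e17d04780011e70be42290004f30460000168e7940050bdc2263c800205f00001e32d100032f78e7000417d80047880010b6000108200005720000402f640012cfcdd80000a700000acb3c0004bd63b059d00005ea1e1006801b0010f0003200e000677c01800700023bc5e3800259b9dd,
  nat_lit 0x2dc4000302ccb0002001808c7e0c090000b6f3305b780006049f70004042000cfb180e00016da7d0b6d0000c073ea01f00020039c82dac0003014fa180a00096d67cc00500080003e401a008a0011df00cc0430004ef02f602400007c402c00c403f3b85ff80565b29f000a400000c4e416cc00f180071c001000066001419680140001ef2dd00000be00000025ba0c9000800119000100005b98c7001432d00140003dc5b90002314001000062000419700040001ed2dc0000184000065e00016e07b0003000431337200080080001c4,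
  nat_lit 0x25f0ab103982a15f97100d0c1b0924b88034000045a00002b000c2390ad0ed800415680044400010ab82b2406000046e15895630542b82e0c0c000211480020ac00a0f7800a25000484d615d20600202470ae4dd800e1dd800e49c0060c6800640a00285f2002a0400102440ad50180061e6856880800209b82704020008484112a00000026d09b8ff046a15596ee49800001781f9019cff80b661997967f8b770164bcc2f34fe800000100a67f0c0f0000b7514e000809e0019572dcc0003034fc981a00016e67ec04a00040033f460580005b89f9,
  nat_lit 0x1000108fcc8742a00200000009c830980072e8101984a002973e6ec00108e800142800004700000f930880012e70ed80060070022001a13000800c08e4de8002005047050400000342374245cd85aa04c0132217813204d178e5cc172e84400200000013905cb800a6111c72e580033084cc172a0009840840c74094c2412e54dd183e128972883cc1e09a0b9341c60e985e5c920d307c24e2e4906183c132972282cb900b24b9026860e18565c7a0a306c24b2e3904971a11c171a5b4b8c0b1847b0b18b8c264000855804f9b3000024010fd04183261017140ecc180934b8a06c00084781569db,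
  nat_lit 0x2ed000030e4dd986e0001764874bb00000c3537661980005d71bc2eb000030c4dc185e0001754738ba80000c2d39e61580005d31db2e9000030a4ed184e0001744760ba00000c2537061180005cf1ce2e700003084e7983e000173476cb980000c1d3b460d80005cb1d82e500003064dc182e0001724738b900000c1539e60980005c71db0004046010d0e0000024808486c094010400143460780005c51bb2e200003034ec1816000170c7680030740c0930a00103a26041b700041cf301d0c800012d18968600352eb82e2019806a01a4ba32e88ba12e80b9f2e78b9d2e70b9b2e68b992e60b972e58b952e50b932e48b912e40b8f2e38b8d2e30b8b2e28b892e20b872e18b852e10b832e08b8142e0560000001216,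
  nat_lit 0x31540002f40f817a000018aa708c550000bd03305e8000062aa2431540002f40cc17a000018aa708c550000bd014e5e8000062a9e131540002f405397a000018aa708c550000bd03305e8000062aa2431540002f40cc17a000018aa708c550004bd044662a80005e81bb000803e074d11000201d03a488400000e81d144001d03a000121f00041cd00050f189e000179476cbc80000c4d39e62580005e31bc2f100003124dd988e0001784874bc00000c4537662180005df1bc2ef00003104ed187e0001774760bb80000c3d3b461d80005db1bc,
  nat_lit 0x31f40002fe0fd97f000018fa72403800040273905fb000063da0a31ec0002fd8e397ec00018f683402500040324505fa000063ca2731e40002fd0cb17e800018f272402c000002339063c004a5f99f500a00000088e418f000017e689c0010ad41f744c00019260fb2200ac81f5000512800010500000acbee0070c7343a5e8000062a9f731540002f40f817a000018aa784c550000bd014e5e8000062aa1031540002f411197a000018aa7dcc550000bd03e05e8000062a9e131540002f405397a000018aa840c550000bd04465e8000062a9f7,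
  nat_lit 0xc8c0000c0738e60380006461f400d800101a515980a00019147d4c8a0000c053e860280006451f3018c00100d115180600019108a4c880000c033f260180006441fb00c8000017515990e0001804658c020000c873ea02c0000018a2a32180003004fa8000001800212c0040000001256642042a10b0002020c830000bfe4525ff00006419c9013800100b4e417f80001902828c810000bfc38e5fe0000640a0d00ac000012114190000017f6658bfb0000c8039202180000151c831fc0002fe8fc97f400018fe7ec029000403e4505fc000063e9f9,
  nat_lit 0xc830000bff3785fe80006409cf31fc0002feced97f200018fa8b4c7b0000bf73b65fa800063ca2e31dc0002fcced97e200018ea8b4c730000bef3785f680006389da31bc0002facde17d200018da6ecc6b0000be743a5f280006349bb319c0002f8cde0008052846273c003028c23039c001014c1179cd00040a408b8e6000005280003e8c320db03730bdc2bc0b00c0a3024c08301cc063014c04300cc023004c002ffcbfe2ff4bfc2fecbfa2fe4bf82fdcbf62fd4bf42fccbf22fc4bf02fbcbee2fb4bec2facbea2fa4be82f9cbe62f94be42f8cbe22f84be02f7cbde2f7516192003f98167ecc0c0000c913ea03d000201da2a3028000323cfa191e00018147d4c0a0000c8f45201c800203a22b30200003234f9991a00018107ecc080000c8d3f2037000001ba2a,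
  nat_lit 0x40f5056118000007a829a8bccbf0000c3b43a61c800065e9bb32ec00030dcde186a000197273ccb70000c33378618800065a9bb32cc00030bd0e985a00019626eccaf0000c2b37861480006569cf32ac000309ce7184a000195273cca70000c2337861080006529bb328c000307d0e983a00019426ecc9f0000c1b37860c800064e9da326c000305cde182a00019326ecc970000c1343a608800064a9bb324c000303cde181a0001922768c8f0000c0b37860480006469da322c000301cde180a00019126ecc870000c0343a60080006429bb,
  nat_lit 0x33100003100cc18800001988890cc40000c4033062000006621c2331000031005398800001988708cc40000c4014e62000006621c233100003100cc18800001988890cc40000c4033062000006621c2331000031005398800001988708cc40000c40330620000066222433100003100cc18800001988708cc40000c4044662000006621f7331000031011198800001988708cc40000c40330620000066222433100003100cc18800001988708cc40000c4044662000006621c233100003100cc188000019888900f7056400146407b02b4000231,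
  nat_lit 0x33d800031c8fa009600000628a0c710000cf53e867a80006389f500c00000118e418e000019e8724cf40000c7032c0208000017a2831bc00033cd0699e600018de71c02e000403c390678800063699631b400033c4e499e200018da7d0036000002c450636000067820a33c000031b0e380560008062720cee0000c6a32c635005667722733100003100cc18800001988708cc40000c4014e62000006621c2331000031011998800001988840cc40000c404686200000662210331000031011998800001988840cc40000c4044662000006621c2,
  nat_lit 0x20000000f91418fc0001a04828d020000c7e38e01e800003d9c831f40003405139a0200018fa658076000003c45063e000068020a340000031f0fc807600000e2720c7b0000cff39267f800063d9fb01b000000e91418f400019fc828cfe0000c7a38e01c80000339c831e400033f51399fa00018f2658062000003845063c000067e20a33f000031e0fc806e00080ba720cfa0000c763f663b000067d1c933e800031d8cb00ae000806a8a0cf80000c7438e63a000067c20d33e000031d0e3806600080a2720cf60000c7232c639000067b1c9,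
  nat_lit 0xd7e0fd52200046450b842e20b8e2e4077820902c00009912644190e643190a6421906641243322000236f12102bc2080b742dc991090441216fc5c116fcc8748029b9bc264323f32145bc3214c8447c64180006419908207881c20799088f4c82320c5bb16f45bd16f852a16f45bd16ecc8332091e00001bc028009e90f35a4dba320d1d9b7400019028e800035ccdb84722058b6c2dc8b746ed1bc02bc9b6e64018fe8e000035bc39c46e1c80b6c1c802a463fa3632005b331fd1a9a0e0001906658c830000d0739268380006419fb025000001091419040001a0c828d060000c8244e02080000479c832040003414e39a0a000190282808a000004045064000006821963410000320113807e000010a720c7f0000d0338e681800063f9f4,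
  nat_lit 0x322400036bd2c9b5a000190e960c850000dab4ac6d48000641a4b3204000369d2d9b4a00018fe968c7d0000da34b26d0800263da5800383b000012b98f00001b3c958d9c0000c7649600000041fba5500000220ecc5d917645db3258c953250c933248c913240c8f3238c8d3230c8b3228c893220c873218c853210c833208c813200c7f31f8c7d31f0c7b31e8c7931e0c7731d8c7531d12a00401fa000094cc9a0000dc04a40030004944002000528192a00005f325c013004000049e649800200d82dc9380070f0800249a00c0780000a4c0fcc000324125991c0001b68928007000924800e00085f000000300003b19120001b5e0022480000008147523800c000990c14800210605c332340083234418000923000220b8b8620ba45,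
  nat_lit 0x2327c457327cc48002007875c910000003ccc82d064e08aa00a802800999266491922648191e647191a64619166451912644190e643190a6421906641190264018fe63f18fa63e18f663d18f263c18ee63b18ea63a18e663918e26381880ef4daf3251360000000846269026b00043b800048f80000bb844a9a8da00000c8f47400000061dc269324444e387060d184060d184c5bc3238c8d4d064700006d22673690db33239331b4c6d9191c994da71120c8e4c8660088e64726332fc44832380c000001988a896ccb91118c8d24c26f0000000a580010e1213693119320000d032b05ed0008c984c200088c4000a60000045f00007e1964000192897cc920000cb04bc013099c00125d36d800132412580020d78006970c8d0000db34b66d88000645a5a,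
  nat_lit 0x370400032c51d195e0001b7e9bcdbd0000cad47465580006dda6e36e400032a52d194e0001b6e964db50000ca54b465180006d9a6e36c400032851d193e0001b5e9bcdad0000c9d47464d80006d5a6e36a400032652c192e0001b4e958da50000c9549664980006d1a5b368400032452d191e0001b3e964d9d0000c8d4b064580006cda563664000322525990e0001b2e96cd950000c854b464180006c9a59364400032052c18fe0001b1e958d8d0000c7d49663d80006c5a5b362400031e52d18ee0009b0e9640200d280024da6c2000263a258,
  nat_lit 0xdaf0000c9f4e464e80006d6a5b36ac000326d3999320001b5296cda70000c974e464a80006d2a59368c000324d3919220001b42964d9f0000c8f4e464680006cea5b366c000322d3999120001b3296cd970000c874e464280006caa56364c000320d1d19020001b229bcd8f0000c7f47463e80006c6a6e362c00031ed1d18f20001b129bcd870000c774e463a80006c2a59360c00031cd3918e20001b0296cd7f0000c6f4e663680006bea5b35ec00031ad390000018868a958cbf11f049d11e805c0174c963254c94324cc923244c90323cc8e3234c8c322cc8a3224c88321cc863214c84320cc823204c8031fcc7e31f4c7c31ecc7a31e4c7831dcc7631d4c7431ccc7231c4c7031bcc6e31b4c6c31acc6a31a53880001a3005a9c0dc50000cb549665980006e1a6e,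
  nat_lit 0x3204001017c0623a200000b86849d0017cd2834a465a196c65b1974ca0327cc9e3274c9c326cc9a3264c98325cc963254c94324cc923244c90323cc8e3234c8c322cc8a3224c88321cc863214c84320cc823204c8031fd3c0004053851a9dc00102941ef4ec00001460f104134980023274dd800a0fd800a00119000101fd10a0cf237400183f405198500081fa00093a80020fd01426dc00007e80a04320fd094c3288ca473c0cd2259851264b992c9d0dd30000cc34e666080006e8a5b373c00032fd39197a0001b9a958dcb0000cbb4e465c80006e4a5b371c00032dd39996a0001b8a96cdc30000cb34e465880006e0a5636fc00032bd25995a0001b7a958dbb0000cab4e465480006dca5b36dc000329d39994a0001b6a96cdb30000ca34e465080006d8a59,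
  nat_lit 0x800042f800000200001d8c900000e6800154400020048baca1c000002450000c0009918148002131065c324c008324c4c400092300022618cb8261a450000e2f12b54300046480cb632e8cc033088f025f0428000991e647191a64619166451912644243323800239d142842425e0ca6329191c9044be196065a1960c8d4802f79d1a6460d3322c655322cc8a47c6448000644991425d897425d99148f4c8832246541958656195c5e119586561950c8932211e09760001918a10c8a00000055060018c50000a8239cc000322140990c0001ce2a00e6f0000c844fe0001c42736a7e12d064c193c650321cc863214c84320cc824fa00088863268c96258a7c0000e1c11413d88823258882101190a8d8001086801107a03f80c000127a09dc06200053c80c00001d2,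
  nat_lit 0x3113b068219f468019f44ec3290000326cc9c52e65189d6017994064f993c64e993864d99345e8e4e3958ca034665a996c27380386579940a58e4f3950ca052a000004e28029432cc4e632849300001ee80000c8ca70000e654be7318000652a5e328c00039854a1cbe0001942a4cc9f0000e5d52472d800264ea91003c46a00014819340001cb097ce560000c984bc00000062589a2000402811a867419d06763aa46b21ac46b01ac46b01ab86af1ac06b11ac06af1ab86ae1ab86af1ac06b11ac06af3aec60a3a3043b0aacdbb3278c9d3270c9b3268c993260c9732594780142420002a2c02512b400051c650800073ca8d001800351864f00041e0002000528193600005f3274013004000049e64c800000f844493801d11e4001516256000064ba5e325400039b5450010001289,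
  nat_lit 0x32c40003969401cb0000995e9fc0000f98000064656000072aa9b394c00032a93f99500001ca2a00e4f0000ca65226520000726a5f392c00032892f19400001c92a50e470000c9e52664e0000722a92390c00032694899300001c8297ce3f0000c964bc64a000071ea9438ec00032494999200001c72a48e370000c8e522646000071aa5f38cc00032292f19100001c62a50e2f0000c865266420000716a9238ac001320948800465709e4657189000400a1155430000005197a5a0cab13c0ebe162058719a8e54394cc9e3274c9c326cc9a3264c98325cc963254c94324cc923244c90323cc8e3234c8c322cc8a3224c88321cc863214c84320cc823204c8031fcc7e5343400066652299118403500014c193a0000d0,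
  nat_lit 0xca10000e4a524724000064fa9c32740003919491c880001936a70c990000e42528720000064ba9d325400038f94a1c780001926a70c910000e3a4be71c0000647a7f323400038d94d9c6800019169fcc890000e325007180000643a7f321400038b94d9c580001906a70c810000e2a524714000063fa9c31f400038994a1c4800018f6a74c790000e22528710000063ba9c000002d0fa92f999a28a8a8628980900249944650994064f993c64e993864d993464c993064b992c64a992864999246489920647991c646991864599146449910643990c64299086419904640990063f98fc63e98f863d98f463c98f063b98ec63aa71330400039a9401cd0000197e9fccbd0000e66536732000065da7f32e40003989401cc0000196ea4ccb50000e5e52472e0000659a93,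
  nat_lit 0x24800554268d0000653a2e000432e024d50194a0001c9aa00e4b0000ca34fe0011c48198a7e00042980244c2800014c0120a7c29814fc6d71b60054328cca23284ca0327d4f1cf0000199ea74ccd0000e7652873a0000665a9c332400039c92f9ce0000198ea70cc50000e6e5287360000661a9d330400039a94a1cd0000197ea70cbd0000e664be732000065da5e32e400039892f9cc0000196ea70cb50000e5e52872e0000659a9d32c400039694a1cb0000195ea70cad0000e5652472a0000655a9c32a400039494a1ca0000194ea74ca50000e4e5287260000651a9c,
  nat_lit 0x120b5c07555e77400006972ae00040000b59569c966968000000aac330400334ace68000040800066ccbf0000d2939e040863e0012a702002df0005559c94000197897800001f82d9554691800065c9cf32dc0003484ed80fa16a0002aa4e430000cb54fe00000f618caa8347000032c8ec19600001a3476807a0c6800154e71e000065729332b000138e94500001608026a9831f018c00354a671800465484f022c0620004e980be0001d2329400001780613a202f9a3a68f0dc43718dc63729e3c3908e4038f8e4038f8e3a38f0e3e3900e3e38f0e3a38e8e3a38f0e3e3900e3e38f0e362778a4c2939d9676619566551952654194e653194a6522a40184282001951865404b0000a88cab0000d1e37a049800e000181,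
  nat_lit 0x3338000378d4902ca05580009b4ccb0000d484946a30000664a4b000016502ad5d1bb6000198c9780000004165572000802c16a0e203880e227a80e843a08e803a08e8039f0e7e3a00e823a00e7e39f0e7c39f0e7e3a00e823a00e7e39e1c08701827406d1ab466619966651992664198e663198a6622b800040ac05955b80000550026ad80ac000000156a0010002924ccc00003c199a0051a940002b4332400002a92b015c0b380000eccc60000df55140020000a24cc30000df2000d44000000402d2a1c0060000cc00a400082702b80270744000371816250c001998a2b68e003810e061b00586663800466219866611982660197e65f197aacc0b105a400007666100046f8a8533102c00d7c35e33095902642b48df82b49982ac4def3b64cc01a6000057e05ea590af46f90af4cc032fd58002a00c80f800d9ff,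
  nat_lit 0xe5d0044ce7592742002e6732c8339801133984099ca00899ca4d8ce40044ce426a671802267193433880113388b699c26718dbc67199c2b1c000003c0000560030a88670ac6001455a33816280082a199beb100031620ed64020010af21b720000046e61c616180002c31da6b086e53368cd95821079e2c1070000b0000639e83013c50f1508395f800a73c85fe78a2be00105a800105700062d400062b000216a000257a0008b50000abc00005190000c88b4e29919a2aeccd80000ded4be0b3815a00026d335400035492b1aa000019a68e800005980ac5746f28000668293,
  nat_lit 0xcd80010cd817666b800466b8b733580003358c8800e192800e002190001832500196b800a193800ab580040020cfc0ac001864c001ad5000832600093a800219405e88600000ca0f3e306750805a67f99e467899e067799dc67699d867599d467499d067399cc67299c867199c467099c066f99bc66e99b866d99b466c99b066b99ac66a99a866999a466899a0667999c666ad43b1c52e3b1c00133e1699d8a00019ecb2c00115703955a467a00001928543deccf533d02999da00399da440cec0014cec228675800667589333a800133a84e00080078020002213000c00b000d6880040058004b40001002c00159e00000160002ce33b8cf033accea33a4ce8339cce63394ce459a675800a744acc33a800339816599d20009cbe5a4ce90054ce92e872f00226742ca,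
  nat_lit 0x343c000343c6c1a1e0001a1e360d0f0000d0f1b0687800c6879a034280003428b69a140001a143dcd0a0000d0a1ee68500006850f734280003428b680006851a1668600026861a1668519e3424d0a342c0020000d0b3428d0933a68580006859a0342c003342c709a120001a125b4d090000d092180001a12685000200100026851a12678d08342400000100010000d093420ce9a120008c500040001886850c48685000030cd070004611a0e0000c1341c622341cd061807a99ea400919c22bce870040ce03384fe99c800019c863cce20000ce2222670000067011233780003378c919b800019b844ccda0024cda20466c800e66c8eb,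
  nat_lit 0x33b400033b4d619d600019d62d0ce90000ce935600180bc0019aa000805e0008d4800202f00026a0000017c0001f46a09a863280ad27b00bcc2c89a206879a1c6869a186859a146849a106839a0c6829a086819a046809a0067f99fc67e99f867d99f467c99f067b99ec67a99e867999e467899e067799dc67699d867599d467499d067399cc67299c8b88d2834a400034a5709a520001a524ccd290000d292f2694800069497034a400034a4bc80041830004b8004c0c100005be6940002330d260000659d9c0021a4e6932de0008ee70e60ee60e88ee63b9c00248c000871c1bf071c7732dd000038d0df438a3dfd6e1d980010036b6ceca0004d235b400100b61d4ad900040600b5d6c1a400001a5c68cd30348c01634868780046879a034380003438b680006871a1e68800026881a1e68719e3434d0e343c0050000d0f3438d0d33a68780006879a0,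
  nat_lit 0x348c000348cd79a420001a42630d1f0000d1f35c68e800068e8eb346c000346cd71a320001a323acd170000d1735c68a800068a98c344c000344cd79a220001a22630d0f0000d0f35c6868000686915342c000342c8a1a120001a12638d070000d07228682800068298d340c000340c8a1a020001a02638cff0000cff35c67e800067e8eb33ec00033ecd719f200019f2630cf70000cf735e67a800067a98c33cc00c33ccd719ec00019ec6b4cf40000cf417067900006790be33c000033c05c19dc00319dc6b4cf10000cf135667780006778b4,
  nat_lit 0x3544d520004d523544d500000d505ca6a79aa06a880040001aa26a81a9e674d510000d513406a880086a88e1353c000353cb69a9e0001a9e430d4f0000d4f2da0009a9e6a80ba23408ba26a81a9e678d4d0000d4d3406a680006a70b9e33f8b9e6a71a9ab9000110040010000c800001ff000063c0d63668d4b0001719a920001a92630d470000d4735c6a280006a2915350c000350cd71a820001a82630d3f0000d3f35e69e800069e98c34ec00034ecd71a720001a72454d370000d3722c69a800069a91534cc00034ccd71a620001a62630d2f0000d2f35e696800069698c34ac00034acd71a520001a523acd270000d2735c692800069298c,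
  nat_lit 0x355c000355cbc1aae0001aaeb9cd570000d575cc6ab80006ab922355c000355d741aae0001aae488d570000d575cc6ab80006abae9355c000355d731aae0001aaeba4d570000d575cc6ab80006ab922355c000355d741aae0001aae488d570000d575cc6ab80006abae9355c000355d731aae0001aae488d570000d575d06ab80006ab922355c000355d731aae0001aaeb9cd570000d571fe6ab80006abae7355c000355d731aae0001aae488d570000d575d06ab80006ab922355c000355d731aae0001aaeb9cd570000d575cc6ab80166ab922,
  nat_lit 0xd680fd00cf3594d64358cd623584d60357cbd1eba1c8800634ce380f2c0023ee71b87900009f538d83c80000fa1ac20011ebeb2cd600000d902f26c807d66b01703d74f64357d649abe1f01abe204d5e0f88d5e26c6ae87c46ae93535703e235709a1ab61ed9ab65b4d5a0f987b60f98d5a26400083580cf2eb00001ca0f417503901f19ab00d000109882555d600004f61ea2ea09e43e035580c1b020001e4eb30f270ba8d815906aa00dc6aa1b2355c000355d731aae0001aaeba4d570000d575cc6ab80006ab971355c000355cbc1aae0001aae4d0d570000d572f06ab80006ab971,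
  nat_lit 0x41680004000cc800063cd0006b5c0021e340025ac0008dc40008f200006f10000c7a042207081e225888e2231af26bc1aee6bb1aea6ba1ae66b91ae26b81ade6b71ada6b61ad66b51ad26b41ace6b31aca6b21ac66b11ac26b01abe6af1aba6ae1ab66ad1ab26ac1aaebb8d7d0000d7d00117680003140000430d7c0001060596830101c23d81c86be2ec1fb00e535ecbf1aee0001aee64cd750000d752206b980006b990335c401035c4881ae60001ae6634d710000d712286b780006b78ec35b400b35b48a1ade0001ade2f0d6d0000d6d1266b580006b588d35a400635a4499ad60001ad6628d690000d691386b380006b3885359400135944e00080080022002213000c00c000d6880040060004b40001003000159e00000180002ce,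
  nat_lit 0x360c000360c8b9b020001b023acd7f0000d7f1e46be80006be91535ec00035ec8b1af20001af2630d770000d7722e6ba80366ba8eb35f800035f85c9af80001af8294d7a0000d7a1706bc00006bc09435d800035d85d9ae80001ae82e8d720000d721726b800006b80a535b800035b85c1ad80001ad8250d6a003cd6a1766b980006b98b535c400035c4521ade0001ade2d0d6d0000d6d1466b580006b58b735a400035a45b1ace0001ace2d4d650000d651486b180006b18b435840003584519abe0019abe2dcd5f0000d5f3226ae80006ae991,
  nat_lit 0x36c800036c8d01b640001b64360db20000db21b06d900006d90d836c800636c8d01b5a0001b5a5b4dad0000dad1ee6d680006d68f736b400036b47b9b5a0001b5a5b400036b4dae36bc00136bcdae36b4cf1b586d69b5c00100006d71b5a6d619d36b800036b8d01b5c0019b5c384dac0000dac2da6d600006d610c0000dac36b4dae11ecdae36b4dac33c6d59b586d688f623d1b5a6d61b56674d940000d942226c900006c911236400003640c91b1c0001b1c44cd8c0000d8c2046c500006c518f36200003620889b0c0001b0c448d840000d843246c100006c111336000273600811b120001b12454d870000d8722c6c280006c298c,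
  nat_lit 0x10c800002cf5f286400001872f836380003e397d11800001b181807140000d8a5f218380026c42f836180001967c29f0c85f217e0009b0abdc00021cd0bd47485f217e86010e64389b0e6c31b0a6c21b06bd8fb10548db15e46ee88d23c30d3e350107471f9c7871d9b606d79b5c6d69b586d59b546d49b506d39b4c6d29b486d19b446d09b406cf9b3c6ce9b386cd9b346cc9b306cb9b2c6ca9b286c99b246c89b206c79b1c6c69b186c59b146c49b106c39b0cbd4fcc0000dc937217a1b920001f98bc8fcc0000dc92d26e480007e62f33f300003724b49b920001f98bc8fcc1004fcc00011f1b9000085f37200001900359ba20009b8e31800111704a95e26e300006e81a311704983718d11fbc24c9b8abc0fc73f7cdc45967ee1fba6e1aef36c800236c8d01b620001b625b400036c4db236cc00136ccdb236c4cf1b606d89b6400280006d91b626d819d,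
  nat_lit 0x7090000da64ac000000a36ab080014311000583861a0001b4692cda10000fa14940030000924d9e00010c400118300020051064c14000002831448e00380006cd0520008011225801148a000801e38524b0000f710c312200066cf21b844511164460d1881302bc0011b3a6ce1b366cd1b326cc1b2e6cb30436700043e71211b36001219e8fc15b408c68a41f8d9b48200521b044321b06cd2dd212888d3665819f300051b30c0809f0000e4f0a80ab800004eb0109d8000406d8009e800104e6bfc0000c442d44107c98000007afe0c4871e23248cc23348c91c78312002c00e5fa0370006bf006c00082f9ec20012493e440024921678002034afb,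
  nat_lit 0x368c00043258721920001b46948da300010c962086480006d1a42368c00043251fa1920001b4614c00400044c661e6d18000864b0e4324000368d3380000128fc0c340230c400014ba0008622001a5c367c0003e7d2d9f3a0001b3a968d9b0000f9b4b27cc80006cca58365c0003e5d2b1f2a0001b2a92cd930000f934b67c880006c8a5a363c0003e3d2c9f1a0009b1a96001e02ec0004986c500007c52563e2000036212580020018624c300000004e6957600002e4284913844e113e6d39b4c6d29b486d19b446d09b406cf9b3c6ce9b386cd9b346cc9b306cb9b2c6ca9b286c99b246c89b206c79b1c6c69b186c59b146c49b106c39b0c6c2b0b005c3100001851b560001f569480040001289b540078df6000309,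
  nat_lit 0x1400243680200040586c800080ca800800618f86cc00380a81f063c00182f729236d000c6dbb1e126000500258e8db00029f62c7831c00103c092a001863ac740030c7800300258e0dac001063c58c0000c5c00100098da1760001f545842b63d542b80004dad000d0610c60fa9634000800a002319000048e01198c216e0009b5496c2b00ac800062e001000a36731600040060c553480006d48d949b0da844480472418909241890b1d88da636958a891824422206d331441645281b5cda56261a806a2000053000003d013497861c7ce1f3a85c0e8c363215a3621b46000312368910c230510c3689639b4800021948fd0ca0004da40a60c30314000311,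
  nat_lit 0x1145007064006a00e07200d401b1a06ed0034311065006823865c2b400325945610060a58ab200b87942240160e482d002a34106200501c20e216c002a1e02d8005062005600a2fc37400130da03c00260348026cb430a004d24a1080091ee8cb006a004995800e6e600227e632a001d13400407846522aa802016b322001c021003c2d1650003a0f400705aac9c64d003944a1be0068574c981d300300cd64a87400166e232423a800a44b1918a9a0058ab0c8855300280196422ab8012839162,
  nat_lit 0x1d280160eb8308e9400a8a001c4f78006c641e0c0100723b780250799998a1a01200e0cc450d008c0736641d1804e9443a1009868073e0128c40cbc0264a2855804a7cd9610d900264922b3804a178b311c040240d50a4907e01206d2cc1176008d24a2f801112a41f08ca008501965e47080403d1871021402065687d00407f20c941d80200470678f5200f89e03242db008146054a00f8d039a401f0e4076003c330de30078a7a29600f0c50b5801e0b604609a000e86f,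
  nat_lit 0xedc01b4a2891003680932f0e9801c4921e50038924771006c3b06623ce00341d3874429001a4923b480321d4338080801b1a00ff80344e8ece0064a7a27a00c9c2ec7913a0064e14292865003a7dd33714fc01e0c399a9f0200e9e08cd8526007030b29235b80381b633543c401b3f858f0b1400d061c52437f006924a2a600da05acd519100692490ac00d0704cd43ac006528918000c0746cc5164005d03065e891802e924799005839c292343002e19fb340db0016492289802c099331,
  nat_lit 0xdd801149287c00207f432c028c010656008077c0080158c70304004025666a88d80228058c902840115f81ca802492511d004500d0e8008876c0088148c71138005902819c1e580309243c1006124878200ca51024001c2c08ad003671a074023001b6561b300369450e60068fd62c200d075a00d0136c7c2f300682456607cd003278eb2f0cdc0194a288500307fd0c700603a6006009463e1c2803094510a005cffa0e82cd802e192b300e580184a21cf00329443bd006924878400d249,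
  nat_lit 0x44e800340a864876a002249452400340e43a22b2001a09233d137000d02718e1d90008945144000d0340e88ab00068230cf44d0003409064875e00224944fc00340bd8f22a6001a086339131001502119c1d6000c94513a001502a2928a8000a8200c902c80055f8059000ecad12c001d01c65e1d38010925133001d0232928a5801081d8c745d4008393cb086fc004a5102b000a5f80050792005016ec7d125002901519c1d0001894512a002d01a2c20548016cad143002d0331928b5801e722874,
  nat_lit 0x3e980003e99391f480001f4896cfa20000fa24e617d000017d3390e780004928a4000081c0c7452000040e064a2900002070339148000103819e8a4000081c0ce452000040e064a290000a07031c3c3000528a28e000a06e32516300050530e88a3000281b0ce458000241403a228a001a06acbc3c0001124a2b8001a098c783b4000d24a284001a064cbc3bd001128a2ae001a08e525161000d05119289f8006817b2f0ee80034928a9000482114945780024138672278001205833914e000d03e2c28ae00068260cf,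
  nat_lit 0x3f900003f91259fc40001fc496cfe00000fe04b47ef00007ef2593f700003f712c1fb40001fb4958fd80000fd84967eb00007eb25b0b5c0000b5d879f300001f309642ec00002ec60a7e780007e7a4a0bb80000bb91f85a200005a2ce8fca0000fca4e67e400007e425b3f180003f19391f880001f88958fc20000fc24e47e000007e025b3ef80003ef9399f780001f7896cfba0000fba4e47dc00007dc2563ed80003ed9259f680001f68958fb20000fb24e47d800007d825b3eb80003eb9399f580001f5896cfaa0000faa4e47d400007d4259,
  nat_lit 0x3c600003c61881e300001e30cf4f180000f1847e78c000078c33d09a400009a41d84d200084d2948269000026967a89b800089ba4b076000107619e03b800003b891c1d800001d8676807000080726e403000040311d201400020149bd0080001008474803000080326e401000040112d2004000200496500000010004b47ff00007ff26e3ff00003ff11d1ff40001ff49bcff80000ff84747fb00007fb26e3fd00003fd12c1fe40001fe4958ff00000ff04967f700007f725b3fb00003fb12d1fd40001fd4964fe80000fe84b07f300007f3256,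
  nat_lit 0x3c600003c61331e300001e3099cf180000f184ca78c000078c2673c600003c61331e300001e3099cf180000f1847e78c000078c33d3c600003c61881e300001e30cf8f180000f1862078c000078c33d3c600003c61871e300001e30cf4f180000f1861c78c000078c33d3c600003c61881e300001e30cf8f180000f1862078c000078c33d3c600003c61871e300001e30cf4f180000f1862078c000078c33e3c600003c61881e300001e30cf4f180000f1847e78c000078c2423c600003c611f9e300001e30cf4f180000f1862078c000078c33e,
  nat_lit 0x3f0c0003f0d9f9f860001f86948fc30000fc361c7e180007e1a673f0c0003f0d1f9f860001f86908fc30000fc367e7e180007e1b3d3f0c0003f0d881f860001f86cf8fc30000fc36207e180007e1b3d3f0c0003f0d871f860001f86948fc30000fc361c7e180007e1b3d3f0c0003f0d881f860001f86cf8fc300ccfc36207b780007b7a6e3db40003db51d1ed60001ed6928f690000f694741040000104269064800006491f9e300001e30cf4f180000f1862078c000078c33e3c600003c61881e300001e30cf4f180000f1861c78c000078c33d,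
  nat_lit 0x465000046512da32400023249cd19000011904b68c700008c727246300004631252314000231492d18800011884ac8c300008c323a461000046112ca304000230496918000011804948bf00008bf24b45f000045f12b22f400022f48e917800011784b28bb00008bb25a45d000045d12522e400022e492d17000011704ac8b700008b723a45b000045b12c85c400085c4d00fc30000fc361c7e180007e1a673f0c0003f0d1f9f860001f86908fc30000fc367e7e180007e1a523f0c0003f0d871f860001f8699cfc30000fc347e7e180007e1a42,
  nat_lit 0x3fc80003fc9339fe40001fe4994ff20000ff24847f9010a7f92653e600003e61291f300001f30c38f980000f984ce7cc00007cc23f3e600003e61211f300001f30cfcf980000f984a47cc00007cc30e3e600003e61339f300001f308fcf980000f984847cc00007cc33f3e600003e61291f300001f30c38f980000f984ce7cc00007cc23f3e600003e61211f300001f30cfcf980000f9867a7cc00007cc3103e600003e619f1f300001f30c40f980000f9867a7cc00007cc30e073c000073d9d2334000233496919800011984b28cb00008cb272,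
  nat_lit 0x3fc80003fc99f1fe40001fe4c40ff20000ff267a7f900007f93103fc80003fc99f1fe40001fe4c40ff20000ff24847f900007f92653fc80003fc9339fe40001fe4998ff20000ff24ce7f900007f92653fc80003fc9291fe40001fe4994ff20000ff24a47f900007f92653fc80003fc9339fe40001fe4998ff20000ff24ce7f900007f92653fc80003fc9291fe40001fe4994ff20000ff24ce7f900007f92663fc80003fc9339fe40001fe4994ff20000ff24847f900007f923f3fc80003fc9211fe40001fe4994ff20000ff24ce7f900007f9266,
  nat_lit 0x3ddc0083ddc819eec0031eec3b0f750010f754947ba00047ba08d3dcc0003dcc42800a148800a28c0040a300041280018116001a5a000828600088b8002140800244c00009ec0003220c7031e96e1eda7b634a0a54ffa00049680024528d040ad349000067d3fe5a403180c99ed4d1c001064000368c000032090fb45064019b3da1a220a81c220ac0c3343192d2d205d1a120980a91fe6d0504800010484b61b100001b13160c380000c39211fe40001fe4994ff20000ff24ce7f900007f92663fc80003fc9339fe40001fe4994ff20000ff24a47f900007f9265,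
  nat_lit 0x3e3c0003e3d2c9f1a0051f1ac58f8f0000f8f1787c680007c68943e2c0003e2c5d9f120029f12d38f8a0000f8a1467c400007c40b73e180013e19a6800c40b926e40ba4500148110014d5000840880086a4003070c0034ac00110200011a800048100004d3800040800003e881006f4a5d06ac89f3e10f833e08f813e00f7f3df9a61f0a38512423851f0ab1cf830028f831f47c100107c11123e040063e048b1f000021f0092cf7f0008f7f14a7bf00007bf0a4001480200145a80083ea00082e4003063c0034ac0010f4a001115000477700048880003a480003e923720081af06748911bfcf783ddda580007bc00147bc10e,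
  nat_lit 0xb7c0083e90de9f520001f522dcfa70000fa73567d280007d28b53e8c0003e8da69f420001f42628f9f0000f9f1487ce80007ce87f00149790015ab8008361207ed580031b0103e6aa0010d8a81eb5400046c340f1a99f2e0001f40d481cd29d41cd3e7cf9e3e74f9c3e6cf9a3e64f983e5cf966a234307e20003503e88fa3000511f1aa00007e0345b5044787233e89a79f3a0001f3a44cf9b000cf9b2047cd80007cd9913e640003e64c89f2e00b802c7cb9063e580153e58829f340001f34454f980000f9822c7cb00007cb18d3e500003e508b9f240001f243acf900038f901dc7c880007c8a5a,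
  nat_lit 0x3f1401e3f147d1f940001f9440cfc80000fc82267e300007e31933f100003f10891f840001f84464fc00000fc03607df002c7df1113f080003f088b9f800001f80634fbe0000fbe22c7de00007de1253ee80003ee8d71f700079f7045401e003801e31a7dd80007dda5a3ee40003ee5371f6e0001f6e92cfb50000fb54d27d980007d9a723ec40073ec52b1f6a0001f6a250fb30000fb31787d880007d88a53ebc0003ebc4b1f5a0001f5a6b4fab0000fab17200205c200235b000c0da000dad00041700004d640010b800016b000005b6000040,
  nat_lit 0xfdf0000fdf16e7ee80007eeb4d3f6c0003f6c5a9fb20001fb22d8fd70000fd716e7ea80007eab4d3f4c0033f4c5a9fa40009fa43e800607841df1c2c6d56c600287b000280086400040f5800416c00187a80018ba00080e90009b100021e880023c80000f3c00031e0ed00fa7f50426490042c10c9fa87e99fa47e89fa07e79f9c7e69f987e59f94d84fd800042f9fb200094f08b40003f5db0046818a00007ec9fb07ebb5f0064000074d0736bc866000001bb5d00a00000c2407e6b80140000000a280c1c0323f3109060c0181f96504fd10000fd10018b71f9e0001f9e644fcd0000fcd3647e580007e58fa3f240070000fc92347e380007e39b2,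
  nat_lit 0x400400040048a9ffe0001ffe3c8ffd0000ffd1d67fd80007fd8ee3fe40003fe48a9fee0001fee3c8ff50000ff51d67f980007f98ee3fc40243fc48a9ff20001ff2c58ff70000ff74ac7fa80007faa583fcc0003fcd2c9fe20001fe2c58fef0000fef4ac7f680007f6a583fac0003fad2c9fd20001fd2c58fe70064fe74ac7f780007f7b4e3fb40003fb45c9fd60001fd62e8fe90000fe91767f380007f3b4e3f940003f945c9fc60001fc62e8fe10000fe11767ef80007efb4e3f7400e3f745c9fca0001fcad34fe30000fe316a7f080007f08b6,
  nat_lit 0x189650019b6800a11e000adb000425880046d600192c0001b6a000895e0009b480024b88002da000025bc0003649a404b612a1290802200680120028001ffe7ff1ffa7fe1ff67fd1ff27fc1fee7fb1fea7fa1fe67f91fe27f81fde7f71fda7f61fd67f51fd27f41fce7f31fca7f21fc67f11fc27f01fbe7ef1fba7ee1fb67ed1fb27ec1fae7eb1faad9c3ed1b0d0106cc1f60d8680795943e50f843dd0f643d50f443cd0f243c50f043bc21f08752c21139120251933d4e049cb2ca825209b48d14ced33a234d33a403900d403100b40290094021007401900540110034009b2a05a38a2030d91016000d01620a80a8004000202a84d01300010131f4808800880880026410110001011222807800080798f40340004034812016002201641500b000100b3228048004000201284d00700010071f4802800680280026410050001005222801800080198f400400240048120000002000644ffe00a80013ff8831ffa0001ffa414ffb00bcffb22280180008018ee,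
  nat_lit 0x406800040685a203000020306ad016000101616e80a000080a1ab404800040485a202000020206b100e000100e16880600008061ab402800040285ba01000020106ad006000100616e80200008021ab400800040085a200000020006b0ffe0000ffe1687fe00007fe1ab3fe80003fe85a9ff00001ff0270ff60000ff63167fa00007fa09c3fc80003fc8c51fe00001fe0270fee0000fee3167f600007f61ab3fa80003fa85b9fd00001fd06acfe60000fe61687f200007f21ac3f880003f885a1fc00001fc06acfde0000fde16a00392ce003b57,
  nat_lit 0x40ac00040acd6a05200020522e5027000102712681280008128bd408c000408c49a04200020422f101f000101f12680e800080e8bd406c000406cd6a03200020322ed017000101735a80a800080a8b8404c000404c5f202200020222e100f000100f35a80680608068b940e800040e85a207000020706b1036000103616881a000081a1ab40c800040c85aa06000020606ad02e000102e16881600008161ac40a800040a85a205000020506ad026000102616a81200008120a4408800040885aa04000020406ad01e000101e16880e000080e1ac,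
  nat_lit 0x40f006040f12b20d200020d22e1067000106717c83280008328b8418c000418cd6a0c200020c22e505f000105f35a82e800082e8b8416c000416c5f20b200020b22e1057000105735a82a800082a8b9414c000414c52a0a200020a22e504f000104f35a82680008268b8412c000412c5f209200020922e1047000104735a82280008228bb410c000410cd6a08200020822e103f000103f17c81e800081e8b840ec00040ecd6a07200020722ed037000103735a81a800081a8bb40cc00040ccd6a06200020622e102f000102f17c81680008168b8,
  nat_lit 0x41f000041f12da0f400020f49cd07800010784b683b000083b27241d000041d12ca0e400020e49c907000010704b6837000083727341b000041b12da0d400020d49c906800010684b28330000833272419000041912ca0c400020c49c906000010604b682f000082f273417000041712da0b400020b49c905800010584ac82b000082b23a4150000415137a0a400020a48e905000010504dc827000082723a4130000413137a09400020949c904800010484b28230000823272411000041112da08400020849cd04000010404b681f000081f272,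
  nat_lit 0x42340004234d7a1160002116631089000108935c8438000843915421400042148a21060002106639081000108122883f800083f98d41f400041f48a20f600020f6639079000107935c83b800083b8eb41d400041d4d720e600020e6631071000107135e837800083798c41b400041b4d720d604820d645509800010984b684b000084b273425000042512da12400021249c909000010904ac8470000847272423000042312da11400021149cd08800010884b68430000843272421000042112b2104000210492d08000010804ac83f000083f272,
  nat_lit 0x42780004278c9213800021386c109a030109a222863800086398c43140004314d7a18600021866310c100010c135c85f800085f91542f400042f4d7217600021766310b900010b935e85b800085b98c42d400042d4d7216600021664550b100010b122c857800085791542b400042b4d7215600021566310a900010a935e853800085398c42940004294d7214600021463ad0a100010a135c84f800084f98c42740004274d7a1360002136631099000109935c84b800084b8eb42540004254d7212600021263ad091000109135c847800084798c,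
  nat_lit 0x4378000437888a1b800021b86c10da00010da32486c000086c1b143580004358c921a800021a86c10d200010d220486800008681b043380004338c9219800021986c50ca00010ca32486400008641b04318000431881218800021886c10c200010c220486000008601b042f800042f8c9217800021786c50ba00010ba32485c000085c1b042d800042d888a16800021684410b200010b2328858000085811042b800042b8c9a15800021584410aa00010aa32885400008541b04298000429881214800021486c10a200010a232485000008501b1,
  nat_lit 0x22c4c00257a0009616000abc0000a6b0000c886b886c21aeaec18929111076e6883149288316d441000119088100003091032914c1029151034409b921b40000cb43690d900010d96e286b800486bb7043540004354d90002869a1a48688008868a1a4869b6f434c000434db421a2868219e0000004867a1a0868b6e43340004334d9219607a21963e90cb00010cb6d086481e28648e543d800043d8c921e800021e86c50f200010f232487800008781b043b800043b888a1d800021d86c10ea00010ea32487400008741b143980004398c921c800021c86c10e200010e22228700000870112,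
  nat_lit 0xd1c8700009c127da4698002e054412998000700878800600fa9881bc37f000801d00080013200008034000ad5000001a00013a80361bb890087721dadf800500500056fa002002800237c000c014000dbd800400a0004de800100500016f2000002800019c0050c7400510e86f0322a292874036213836800001680002d68b54ddc64220b50e66ec00091ac8a2b7500008da4511ba11ac8a1a1c801d0e529d90e51ee871801287199243880074388c621c2002a1c296d0e0000d0e017086f800286f8b400194ab0d7d13144c09f000a602800a2b8004303800415800186a8001a5a,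
  nat_lit 0x446d4e645e11134449110443d10e72a0038000e5111000351140055c9a21e005a21e64510e002510e204886800e8868eb443000544312ca216001a2162ed10a000510a16e007000e884a2147f40060074006724002803a002b91001001d0011c8000600e8006e3c002007400271c000803a0008fb007400071a880000c00e220ae30005005400515c002002a0020ac000c015000dc5800400a8004af40010054001578000002a00019143f802a45810fb43e90f97140bb875c24721f887db890020a9800200037101a610de003b870d2c86f0019c3000a593000ae140042c980047081a410e0001b83,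
  nat_lit 0x44ac00044ad25a25200022529b912700011274b48928000892a59448c00f448d8b224e000224e2e5125000112514a89180008918bc448400044844a223e000223e2ed11d002111d69c89080008908b5447c000447c52223a000223a62911b000111b14688c800088c8b7445c001445da6800e895196489509e00180480018d5000a023000a6a4004011000448800180840019a800080400008d38002891a23e5a000000f40001f489129da629a2fe88d2228889a224888a220887a21ce580050100005356002007c0021ad000c03c000d39000401d00046b800100e0001360000006c0001b2,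
  nat_lit 0x1145000114569a8a180008a198a4504000450452227e000227e1fc00608fc006356002847a0029ad001023b001139000611c80066b800208dc00236089c80028d735200002340000d9235a63ba35a8d6047e1e7079e1f1227689d227289c226ee611ab00d114172e89f800089f91144f400044f4892276000227664d139000113922689b800c89b90244e800044e87d227000022703e9136000113636489a000089a19144c800044c8c8a260010003c89810644bc01d44bc82a2660002266455131000113122c897800089798d44b400044b48ba25600022563ad12900591291dc8968000896a56,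
  nat_lit 0x115a000115a1f4000a2b0001a2b043915800011582248ab00008ab1034550004455089a2a6000a2a664400306e01a44745ce00040d2034a00111a00041a20959171736000034400011946e48b52c0c95f0ff54620ef43bf455d1564555154454d1524545150453d14e73452a96ec8adb994564003000515920c8ac00008ac10545580004558c9a2a8001a2a844915400011543648a900008a90fa4540015005d1502348a780288a79194544000454477229e000229e63514d000114d22c8a5801e8a5925453400045358b229600022969b914900011494968a380148a3a6945240004525a7228e000228e2f1145000114514a8a1800a8a1896,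
  nat_lit 0x45a400045a451a2ce00022ce62916500011651388b180008b198b458400045844e22be00022be62915d000115d16c8ad80008ad8b5456400045645222ae00022ae2d115500011551468a980008a98b7454400045445b229e000229e2d514d000114d1488a580008a58b44524000452451a28e000228e2dd145000114516c8a180008a18b54504000450452227e000227e2d113d000113d14689d800289d8b7001405f001400432000200b00020b6000c058000c5d000402c000496000101600011e400000b000018f016917d10051594561157455915545511534549151454114f453914d453114b45291494521147451914545111434509141450113f44f913d44f113b44e913944e113744d913544d1cea2b800100008ae11a,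
  nat_lit 0x462c000462c4a231200023122ed18700011871288c280008c28bc460c000460c49a30200023022f517f000117f1268be80008be8bc45ec00045ec5d22f200022f22e5177000117714a8ba80008ba8b845cc00045cc4a22e200022e22ed16f000116f1748b680008b68b945ac00045ac52a2d200022d22e116700011671288b280008b28bb458c000458c5d22c200022c22e515f000115f14a8ae80008ae8b8456c000456c4a22b201022b22ed17500011751388b980008b998b45c400045c44e22de00022de62916d000116d1468b580008b58b7,
  nat_lit 0x46b400046b51d235600023569b91a900011a94b48d380008d3a59469400046952d234600023469b91a100011a14748cf80008cfa6f467400046751d233600023369b919900011994b08cb80008cba564654000465525a326000232696d19100011914b48c780008c7a59463400046352c2316000231695918900011894968c380008c3a5b461400046152d2306000230696518100011814b08bf80008bfa5645f400045f525a2f600022f696d17900011794b48bb807e8bba59464c000464c49a32200023222f518f000118f1268c680008c68bc,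
  nat_lit 0x473c000473c8a239a000239a6391cb00011cb2288e480008e498d471c000471c8ba38a000238a3ad1c300011c322e8e080008e098d46fc00046fc8a237a000237a6391bb00011bb2288dc80008dc98d46dc00046dc79236a000236a4551b300011b322c8d880008d898c46bc00046bc8ba35a000235a3ad1ab00011ab1e48d480008d4915469c000469c8b234a000234a6311a300011a322e8d080008d08eb467c000467c79233a000233a45519b000119b22c8cc80008cc98c465c000465c8ba32a02f232a3ad1b100011b14748d780008d7a6f,
  nat_lit 0x47b000047b0c9a3d400023d444d1e800011e82048f300008f311347900004790c9a3c400023c44411e000011e03288ef00008ef11047700004770c9a3b400023b463d1d800011d82228eb00008eb11247500004750c923a400023a444d1d000011d02048e700008e718f4730000473088a39400023944491c800011c83248e300008e311347100004710812384000238463d1c000011c02228df00008df11246f000046f0c92374000237444d1b802091b82048ec80008ec98c475c000475cd7a3aa00023aa6311d300011d322c8e880008e898d,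
  nat_lit 0x471800047185a238800023886b11c200011c21680020532002357000c28e000db680041418004db000109e00016d600004c800036a49ec32b54689774a4122b47a51e8479d1e647951e4478d1e247851e0477d1de47751dc476d1da47651d8475d1d647551d4474d1d247451d0473d1ce47351cc472d1ca47251c8471d1c647151c4470d1c247051c046fd1be46f51bc74e903800290396d056120d0005d30000007800043120500042fa40a0000c80015598338ccef33dc46d338d59800140024811d2abee9040002e9000000280002da90100080043a3000c005000cd9000048d123aa86ba2564400000980057420018956587ba0000831d0001cfa3fa000aa1666400025b00001f84b323fc00039e47ec0011848fd80003051fb2ec51fb47e86023e400023e44411f000011f03288f700008f7110,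
  nat_lit 0x479c000479cd6a3ca00023ca2e11e300011e317c8f080408f08b847f800047f85a23f800023f86b11fa00011fa1688fc00008fc1ab47d800047d85ba3e800023e86ad1f200011f21688f800008f81ac47b800047b85a23d800023d86ad1ea00011ea16e8f400008f41ab479800047985ba3c800023c86ad1e200011e21688f000008f01ac477800047785a23b800023b86ad1da00011da16a8ec00008ec09c47580004758c5a3a800023a82711d200011d23148e800008e809c47380004738c5a39800023986ad1ca00011ca16e8e400008e41ab,
  nat_lit 0x482000048212ca40c000240c9c920400012044b69010000901273480004048012da43a000243a2e121b000121b17c90c800090c8b8485c000485cd6a42a000242a2ed213000121335a90880009088b8483c000483c5f241a000241a2e120b000120b35a90480009048bb481c000481cd6a40a000240a2ed203000120335a90080009008b847fc00047fc5f23fa00023fa2e11fb00011fb35a8fc80008fc8b947dc00047dc49a3ea00023ea2f51f300011f31268f880008f88bc47bc00047bc49a3da00023da2f51eb00011eb35a8f480008f48bb,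
  nat_lit 0x48a400048a4d7244e000244e3ad225000122535c911800091198c48840004884d7a43e030243e63123c000123c4b691d000091d27348e000048e12da46c000246c9c923400012344b2919000091927248c000048c12da45c000245c9cd22c000122c4b6915000091527248a000048a12ca44c000244c9c922400012244b29110000911272488000048812da43c000243c9cd21c000121c4b690d000090d272486000048612b242c000242c8e921400012144de909000090923a4840000484137241c000241c8e920c000120c4de9050000905272,
  nat_lit 0x49280004928ca249000024906c1246000124620492200009221b049080004908c9248000024806c523e020123e32492d800092d98c49640004964d7a4ae00024ae631255000125535c92980009298eb49440004944d7249e000249e63124d000124d35e925800092598c49240004924d7248e000248e3ad245000124535c92180009218eb49040004904d7247e000247e63123d000123d35e91d800091d98c48e400048e4d7246e000246e4552350001235228919800091998e48c400048c48a245e000245e63522d000122d228915800091598e,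
  nat_lit 0x101fa0010d600060fc00062f800207d80024e600083e80009af00001f20000d8a5ac2a1a4bcd9018406e928b750945037694516d49e800049e8c924f000024f06c5276000127632493a000093a1b049c800049c88124e000024e06c126e000126e32493600009361b149a800049a8c924d000024d06c1266000126620493200009321b0498800049888124c000024c06c125e000125e32492e000092e1b149680004968c924b000024b06c1256000125622292a000092a11049480004948ca24a000024a044124e000124e3269260000926110,
  nat_lit 0x32f700031220010b1c0013b40004bdb00048f00005ed800048d2770004019158cbdc766000002a0002d5005c00349dd27649d5d900042b014a0528bb100056be15d9d8000073d0000124ad52b9458149d1d7800c006000cdf400500300056f8002001800237b000c00c000dbd00040060004de400149c81d075c000001600019c002ce71002d26d75a42125d0936bac0008adc4b9dd5800256525ccea80002b640001f4563a5c89353a90014e07001457000870800082b000315300037160011a2a0012bd0004d0d00055e000063780006445614ce9264598932144e9320f7,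
  nat_lit 0x16b40004a49960b3200025201c4597000528e77c945800217d3fe000128b6589fe880a9b926e62cc8ef63bc0ef6011004898b03f4000a512ef400007e52906a40fc262871c2628947a51c946a518945a514944a510943bbc07093705b7931307c12924a4128f7760f38000ee8010002129007b9bc000e00f800ee48006007c006722002803e002b90001001f0011c7800600f8006e381f1007c002772000803e0008fb007c00071a943000e00f2518e30006005800615c002802c0028ac00100160011c5800600b0006af40020058002578000802c97cbb800000160000c8a50801126000eea4fe93f3b70dcd2824a0528049fddb000c5f1000c002b8826d09b2001527e76a00217b800209a,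
  nat_lit 0x12a800012a814a953000095308d4a900004a904a254400025442592a000012a014a94f000094f08d4a7000f4a704a254800025482152a200012a2146950000095007f4a780004a78522538000253821529a000129a14694c000094c07f4a580004a58522528000252821529200112921469488002948991001c05001492a473800300a0025800c46800501402414ab5cd800802500081fc003012800312c0010094001269000404a000492800002500004652a91638cb22c385b027652934a492914a4128f4a3928d4a3128b4a292894a21e026180faa536efc00006cc00021894c000053d30700012960c0983800094a061,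
  nat_lit 0x4b180004b1889a58800225884652c400012c4322961000400025844692c000012c01f4000a57c015a57c4392be00012be22495e000095e1034ae80304ae889a58400025843b12c000012c022e95f000095f1254af00004af08b257400025743b12b800012b822e95b000095b1254ad00004ad08b256400025643b12b000952b022e95c000095c24a4ad80004ad92d256800025689a52b200012b2496958000095824a4ab80004ab92d255800025589a52aa00012aa496954000095424a4a9801a4a992d255c000255c2352ac00012ac1289550000955096,
  nat_lit 0x12cb00012cb16a964800096489c4b1c0004b1c5ba58a000258a28d2c300012c310a96080009608a44afc0004afc5aa57a000257a27000407b4004102001839c00193600081af00099e80020c800024d400005b000026895b256a001a6cc9e5ae729b704960f8264a9930394f1400209500020004c8000212a80023c8000094c00031e9b1278e2f7027a09f26849a1829009da5a0967a59c966a598965a594964a590963a58c962a588961a584960a58095fa57c95ea57895da57495ca57095ba56c95aa568959a564958bc401c4a1c4b6c5400e050e25b4f0c06f28712d9784037143896c3c100012d5000d2d521c96a000096a1034b480004b4889a5a000225a04652d000012d03229670004000259c4692cc00012cc1f4000a59400225944392ca00012ca2249640000964103,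
  nat_lit 0x4bc00004bc049a5dc00025dc2ed2ec00012ec128975000097508d4ba00004ba052a5cc00025cc2e52e400012e412697100009710bb4b800004b804a25bc00025bc2352dc00012dc14a96d000096d0b94b6001c4b6049a5e200025e26b12ef00012ef16897680009769ab4bac0004bac5ba5d200025d228d2e700012e716e97280009729ab4b8c0004b8c5a25c200025c26b12df00012df16896e800096e9ab4b6c0004b6c42a5b200025b22912d700012d716a96a800096a89c4b4c0004b4c5ba5a200025a228d2cf00012cf10a96680009668a4,
  nat_lit 0x4c540004c552da62600026269c931100013114949878000987a4b4c340004c352b261600026168e930900013094b29838000983a5a4c140004c15252606000260692d30100013014ac97f800097fa3a4bf40004bf52ca5f600025f69692f900012f949497b800097ba4b4bd40004bd52b25e601c25e68e930c000130c17c98500009850b84c200004c20d6a60c000260c2ed304000130412898100009810bb4c000004c00d6a5fc00025fc2e12fc00012fc17c97d000097d0b84be00004be0d6a5ec00025ec2352f400012f414a97900009790b9,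
  nat_lit 0x4ce80004ce88ba67000026703ad336000133635c99a000099a18c4cc80004cc8d7a660000266063132e000132e35c99600009960ec4ca80004ca88b26500002650455326000132622899200009920eb4c880004c888ba64000026403b131e000131e22c98e000098e1154c680004c688a263000026303ad316000131622e98a000098a0ec4c480004c488b2620000262045530e015130e2289938000993a734c940004c952da64600026469c932100013214b298f800098fa5a4c740004c752ca63600026369c931900013194b698b800098ba73,
  nat_lit 0x4d841cf4d848626ba00026ba6c535b000135b3249ac80009ac9b04d5c0004d5c8126aa00026aa44d35300013532049a880009a89b04d3c0004d3cc9269a000269a6c534b000134b3249a480009a49b04d1c0004d1c81a68a000268a44934300013432229a080009a09104cfc0004cfc81267a000267a44d33b000133b20699c800099c9124cdc0004cdc88a66a000266a441333000133320499880009989134cbc0004cbc81a65a000265a44932b000132b22299480e09949104d080004d08d7a680000268063133e000133e35c99e000099e0eb,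
  nat_lit 0x12fe4784432000111634c3812fecd8d390cecb3a34eae4cb532c4cad32a4ca53284c9d3264c953244c8d3224c853204c7d31e4c7531c4c6d31a4c653184c5d3164c553144c4d3124c453104c3d30e4c3530c4c2de6a9b4a6c800a0022be141800c000c568a0a0070004f30504001400179628180060000ab516945b1a808904cade50ef6444a654e0555e4ca532879200280000041c853d80004c99e4264800029e855800700040044509910000a7920353c00084c80db29e200026426f131f00014ef376a76800898e9b953b80004c7917263800029d876d4ea000131a3700010950a741db0004480539cdd800023f29cc80d44a12cce2b1974db555413194c613174c59e385c816aa68cdcc00004a02e36ba9c309ecb728cd69ff05b69a226869a126829a0267e99f267a99e267699d267299c266e99b266a99a26669992662998265e997265a99626569952652994264e993264a99226469912642990263e98f263a98e263698d263298c262ef1936200053622da08f039e9b127b,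
  nat_lit 0x4cf00004cf088a6740002674441338000133820499b000099b1134cd00004cd081a6640002664449330000133022299700009971104cb00004cb0812654000265444d328000132820699300009931124c900004c9088a6440002644441320002d32020499400009941164c980004c988aa648000264845132200013221d699000009901174c780004c78762638000263845931a000131a22a98c000098c1144c580004c587580043b68004d640011d840016b09898000a711d853800004c44ed00085fd8f0e6140032fe478653e00117f63c29b7,
  nat_lit 0x152400013553b69a98000a911da54800004d44ec269e0002a3c6e151c000134d39c9a58002a8d1cf545c0014d20f0aa2e000269076c00300f003a3ac001007801c9d500054ad0cf9e800001803cf00dc03600b9e72a22016a6846ed36000013603289af00009af1104d700004d7088a6b400026b46c135800013583249ab00009ab1b14d500004d50c926a400026a46c135000013502049a700009a71134d300004d3081269400026946c134800013483249a300009a31b14d100004d10c9268400026846c1340000134020699f000099f112,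
  nat_lit 0x78e2e640027b03c696ca000bd55f780004e1deb80023c5970ef59385000155445aaa900009c19db4e040005541170f0a5c080045747842d600017aabea80009bf3d44df137b000d7d315e00117223c03d30004b511dfd0d80005a90efcf48b791df40007a29ba8000aa21da55080004dccde26e20002a806ed53e000136f43a9b68000a9e1bb54e80024dacde00023c300022a40001e180003369b38000a9b1b854d00004d94e726c60002a6473d53000013613b69af8000a971da54b00004d74ec26b60002a546e1528000135939c9ab8000a931cf,
  nat_lit 0x55bc0004e80cc27400002ade89156f00013a03309d00000ab79c255bc0264e8053a7420112ae07ed3a2006957132c00e000000ba284e8801055c4cb1b3e6ff8006f80c2331a80023e23960e20000bdf3670e030001ef27420008b02f753a00018d8a00193a04e84f224e85ee0af84c4000a6887a32de400438ebf9afe4001bdb1e80b770004fa8f3e5bb80007d139800042fa7300000c82e5c79c00013967b49ca0000ab1a2e1e60b940008ae8f2e5b78002f557e800013917a80008f2a5ce3d94e3c0005578de2ab8000a71a6ed38a00055594209c50000aaca1d,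
  nat_lit 0x1c0000058456ac580009de1f400040030001f08002000000802400101440504ee8a92b1000027727cd3b9000158841400c00020262284edc0005618e4ab0c000276e6593b7000158644e023000200b1c84ed4000561106ab08000276a71d3b5000158441400a0000020228560c03b4ed0fda7400002ade7dd56f00013a03e09d00000ab79e155bc0004e8053a7400002ade84156f00013a04469d00000ab79f755bc0004e80f827400002ade78556f00013a014e9d00000ab7a1055bc0004e8111a7400002ade7dd56f00013a03e09d00000ab79c2,
  nat_lit 0x157700013a63789d20000aba9da55cc0004e88de27400002ae26ed56f000139e43a9ce0000ab69bb55ac0004e68de00002c10fc6f8c5853bf4f7e405102c40c49474f113c34f093c14f013bf4ef93bd4ef13bb4ee93b94ee13b74ed93b54ed13b34ec93b14ec13af4eb93ad4eb13ab4ea93a94ea13a74e993a54e913a34e893a14e8139f4e7939d4e7139b4e693994e61f1016400000f88a159301f93c43f6012800203ca2b4f10000564cfaab2600027887d13c400015933e60398000011a2a56480004f0cfca7860002b247ec022000406e4569e08000ac81f956400004f04cb27820002b207d40680000020454ac780009e01f54f00000563d14803e00080c68ad3be000158d3e6ac680009df1fb4ef80005634fc80ba000003a8a958c00013bd38e9de8000ac61f4,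
  nat_lit 0x56dc0004f990ea7c80002b6a6ed5b300013e23789f00000ad89cf56bc0004f78e727b80002b5a73d5ab00013da3789ec0000ad49bb569c0004f590ea7a80002b4a6ed5a300013d23789e80000ad09da567c0004f38de27980002b3a6ed59b00013ca43a9e40000acc9bb565c0004f18de27880002b2a76959300013c23789e00000ac89da563c0004ef8de27780002b1a6ed58b00013ba43a9dc0000ac49bb561c0004ed8de27680002b0a73d58300013b23b69d80000ac0a2d55fc0004eb8eda7580002afa8b957b00013aa3b69d40000abca2d,
  nat_lit 0x57100004fcc53a7e60002b887095c400013f314e9f98000ae21c257100004fcccc27e60002b888915c400013f33309f98000ae21c257100004fcc53a7e60002b887095c400013f33309f98000ae222457100004fcccc27e60002b887095c400013f34469f98000ae21f757100004fcd11a7e60002b887095c400013f33309f98000ae222457100004fcccc27e60002b887095c400053f3446ae200009f9a2e0008b8c2045f300025aa1020f953f000018457a85bf901c000be456fc0004fb8de27d80002b7a73d5bb00013ea3789f40000adc9bb,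
  nat_lit 0x57d0000508cfa28460002be872403f000402f390a108000af920a57c80005084e3a8420002be483402d0000039450af88000a10196508000057c4e48068000805872141e00015ef414af7805aa0f1f5000055b2531f68ab64a58002fb011c18900007d6a0e0000b3ba032628c7b0005f5131263d8000fa40242620c7b7d001193105d83e757100004fcd19a7e60002b888415c400013f34689f98000ae221057100004fcd19a7e60002b888415c400013f34469f98000ae21c257100004fcccc27e60002b888915c400013f33309f98000ae21c2,
  nat_lit 0x1d400100f4e4285e0002c00835600000142f38ea178000b0020a00ec00001bd142bfe000285c7ed42e00015ff392035000201d1c850b000057f5052bfa00028587e542c00015fd41401c000003222857f000050accb28560002bf889c05f0000037390afd8000a151c750a800057ed05006c00000b48a15fa00014293f6a148000afd1c9015400100d4e4284e0002bf08295f8000142738ea138000afc20d00cc000013d142bee000284c65942600015f739202500000191c857d80005094faa84a0002bec7d00310004045450a118000afa1f5,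
  nat_lit 0x50ec00050ec762872002287245000612c44a2001909800a2b6000ab4400414f00045a00018a18001bf400084dc00096780022560002b38000126d5bc7e6ad11dc83da9ea278811b6a1a2866a192862fc97303be17300005f881dc5360000fc1432000465f2f26581cfe770a8646e86603b694317de24bab38a183ee010c000023d142c0e000286c835436000160738e04500020211c850d00005814cb2c0a0002868725434000160532c0200000042228581000050cd06a8660002c0871c07f000003f390b018000a191f550c8000580d05007c00000f48a1602000143132ca188000b01227,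
  nat_lit 0x26bc0070dab6a000c314c7d001c12a644c7c800ca508cf001c0051960920000007000aff94a0001144a0e854b0002008b2e31dc0000045910000001bfd048c00200400027f8a4d0002a22074003c000196a4c2932a4d000ea24800008331ec0073fb51240010bea24800032001a51380005121fd289c74ba890e7949c03d94472e0a4d81f0a232c950ec00650ed43c3faa498000a203f950f8000524dfc29260002878fdd43a50e543850dc00363ac0fb524dfb00047350b5aa70001325c9956a60001ccc00036963a18e963a90333488d153454d193454d15349587d61f187b61e987961e187761d987561d187361c98713584ef140b4ff4404991550f543c50ed43a50e543850dd43650d543450cdfaa87c000292613c17b002543c09ca1e8000a1e914,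
  nat_lit 0xac4000400f06ec8a8000a5f2f204100013246032d16000311c4cd88e000168b2f2b458000c471703248000041a05001400095770255b700017677debb38000adac08002c0005d9c999568000956701d90e000000c5e46488000646c06622188900218895c2a580000ad940556c000052c201a9600002b5d0115ac00014b0806002955600140259f8003196b40000853d5a7001c369168005160321800a03da00a9540048cb321800a042a00295600494f515400929e0048b8c004bff5d540085678388b8e0038cb,
  nat_lit 0x51bc00051bcc928da00028da6c546b000146b324a348028a349b051ac00051acc628d200028d26bd4670001467318a32801ea329ae519c000519d2da8ca00028ca9cd46300014634b6a308014a30a72518c000518c5c28c200028c22f945f000145f170a2e800aa2e9ad517c000517c5a28ba00028ba6b145b000145b168a2c8000a2c9ab00145bb0014d500082c580086a4003156c0034880010a560011a800044fb0004d3800027580003e95f13ccd0596611102468c8422121935009177a5ded77c5df577e5dfc04f51d147351c947151c146f51b946d51b146b51a946951a1467519946551914635189461518145f517945d517145b5169459516145751594555151453514a078206000192303991800014c1530206a982001b2310301040008c91816ae10000bb7373,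
  nat_lit 0x14a100154a11eea4e8000a4e9a0527400052746c293a000293a68149d000149d1b00010a500010e2000452500060b800001b8a057e4001526a0b006c0003ba526400157da0a000001e0a057cc00052620aa930000abe305000000ec50008c000a92ebc803a0001dd292c0002f46bd12f45e8c000525979292c0002f465a57a300014965e6a4b0000bd19695e8c000525979000a000292e039413525400403840ba48aa4a800800181728f8002318497a6ea00098d04bcb740000c3525e209016a05a2f3a0362922a4841101ac06d524148f820a368032a369b2,
  nat_lit 0x176000014a93b6a538000baf1b85d700015294ed94e2001000600435c000800429d4de800200294e8848000000ca73838a521510439a2b081f0a36a51a944a50a94106d7602a014a3468baf9500a511c25d7975f5285052eba53fa9407256f6223549f834a4f14f4a4f16d5274a8145aca8152749900fc04da97f0640020000001390b920054a5d9c95c8c02852e91a2e4401329727094b3006d7be015a0c2944a508000a50a944a518002a519a152814a1528800100014a252854a033aa510006a510e15284000528486294200029425b400152854a2528c006528d4a25284cf293e000293e68149f52814a1000000452854a0527ccea94200029425b54a100014a11eea508000a5096d,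
  nat_lit 0x52a40005d80ddaebc000294e7614a5000175c3b4bad0000a519b952840095d60e7a94c000294c4454a400014a4224a510000a511925280000528089a93c000293c40949c000149c31ea4d0000a4d11152600005260890002537000276574d000149639ca4a0000ba59bb299cd6800061114cc6718001085490001c52f65c857800c296b238c8e9fd001452721d610000829290e907c003149800357a0010a50439366000452621c4ac8000290000064452822848a02a554ac52ad4aa52a54a8529d4a652954a4528d4a252854a0527d49e527549c526d49a5265498525d4965255494524d4925245490523d48e523548c522d48a522548883cbb20000a569f352b40005d90cb0e2e3670002f087161b300007820000e2a36541d,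
  nat_lit 0x14da001d4da322a6d0000a6d36853600045361b829b400029b508d4d800014d80a0a6b0000a6b0515350002534d4d43fa00080060008e2000000300020b800652f0000f914cf00097863b400094ea0009e80000a7900007caf0400029967614c9000178045cbbf0000a639db53140005df116aef4001298676c00129ac00115200014d200019b52fc0025dd917000253280027a000029940001f2bb90000a5d9b952e40005dc0e7aedc000296e7394b5000176c376bb50000a599d852c40005da0ed2ecc000295e6e54ad000176439ebb10000a559ce,
  nat_lit 0x26006e856ab502960071a45ed86a50034caa9f60008c553f000119806f0000a7d36067796b200254fa85400195167164290008a8b3894e200025459c2c8bc0002a1c00016255280000041db0018add2a3614000a56e95188840042b78e485e200191d648442753c400118aa78800031013a556800053c21315b8a79800100c001000062a9e000029daa760006a7629da00000030954ed000462a9da0000c453b14eb53a94e9000000153a54ea53ae1229ce001a9ce3954e600014e61f4a720000a721b200054e253854e000114e053854e26dea710000a7136853814df537800000094de537d4e06dca6e0000a6e1b2,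
  nat_lit 0x547401e5f5113aa340002fa28d17d1000151a420a8d0034be8a3354040005ee0fbaf700002a027c150100017b83c2bdc0000a808a754040005ee1082f700002a0288d50100017b83eebdc0000a809f054040005ee0f0af700002a0229d50100017b8420bdc0000a80a2354040005ee0fbaf700002a027c150100017b8384bdc0000a8099854040005ee1122f700002a0266150100017b8384bdc0000a808a754040005ee0f0af700002a0229d50100017b8384bdc0000a8099854040005ee11201c66cf800a6600e236240044200709abc001996,
  nat_lit 0x7e000402905ca948000bf01f45f8000054a4faaa520002fc08a402700000783f0bef8000a941fb54a00005f7cfc80e6000004c0b97de000152738ea938000bef1f4009400001b8fc2fba0002a4c7d000100100007c20010000000809000806701995242a403380020111f85f640005488f9aa440002fb28297d9000152238e010000002e82e54840005f6113afb00002a42658058000001f3f0a900000beba0a5f5c0005480fc803c00000a60b951f00017d63f2beb0000a8f9fb00100000075142a3c0002faa8297d5000151e38e00e00000019c8,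
  nat_lit 0x15260001526228a920000a9218e548800054888a2a400002a4063551e000151e22ca8e0000a8e18c54680005468d7aa300002a30631516000151635ca8a0000a8a18c54480005448d7aa200002a2063550e000150e22ea860000a8618d542800054288a2a100002a106395060001506228000158c0000ed5ee4000540cde000005a95a673d5572ced1694305a764798e9e54b552c54ad52a54a5528549d5265495524548d5225485520547d51e547551c546d51a5465518545d5165455514544d5125445510543d50e543550c542d50a5425508541d5065415504540d502540616005c00081307e152e00017e53eabf28000a971f454b80005f94f9811200080580b952c00017e3452bf18000a961f954b00005f8cfd805400001067e17e2000152b32ca958000bf11f5,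
  nat_lit 0x558000019008c302a000aabf0c0ba03b24e76000a17959073b00030b818838e00007000002ab8c6597390b555a000155a228aac0000aac18d555800055588b2aa80002aa86355520001552228aa80000aa818e553800055388a2a980002a9863554a000154a22caa40000aa4115551800055188b2a880002a886355420001542228aa00000aa018e54f800054f88a2a780002a7863553a000153a22ea9c0000a9c18d54d800054d88a2a680002a686395320001532228a980000a9818d54b800054b88baa580002a5863552a000152a22ea940000a9418d,
  nat_lit 0x1569000181f468c0f8000ab49e155a4000607d1a303e0002ad2841569000181f466c0f8000ab4a1055a4000607d1a303e0002ad2785569000181f468c0f8000ab4a1055a4000607d19b03e0002ad2841569000181f468c0f8000ab49f755a4000607d11b03e0002ad27dd569000181f468c0f8000ab4a1055a4000607d19b03e0002ad2841569001581f468b858000af82bb57c00005c261bae0e0002be0f6d5f057c55f2076812456d000500021b02b8c5d02ca0ec03b2091ab6600243560680f8000e1a303207b00050cd81803d0001864c0b81e400043155800000bead68002ab00ce,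
  nat_lit 0x61100005638cc2b1c0003088709844000158e14eac70000c221c261100005638cc2b1c0003088891844000158e330ac70000c221c26110000563911ab1c00030887dd844000158e446ac70000c221c261100005638cc2b1c0003088891844000158e330ac70056c221c255a4000607d1a303e0002ad2785569000181f468c0f8000ab4a2455a4000607ccc303e0002ad2709569000181f330c0f8000ab4a2455a4000607ccc303e0002ad27dd569000181f468c0f8000ab4a1055a4000607d19b03e0002ad2841569000181f468c0f8000ab49e1,
  nat_lit 0x13c00100a91430da0002b6e7d55b7000186d414c368000adb9c700a00010134e430d60002b6a6595b5000186b44ec358000ada996012c00100991430d20002b6671d5b30145869414ac70000c221c26110000563853ab1c0003088709844000158e466ac70000c22210611000056391a2b1c0003088841844000158e466ac70000c222106110000563911ab1c0003088709844000158e330ac70000c2222461100005638cc2b1c0003088709844000158e14eac70000c221c26110000563853ab1c0003088709844000158e330ac70000c22224,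
  nat_lit 0x61e80005710cb00b4000006a8a15c3000187941ac3c8000ae19c700d00000164e42b8400030f072587800015c23f602c0000019a28570400061dd0530ee0002b827e40320000057390ae00000c3b1c961d80005700cb00ac00000628a15bf000187541ac3a8000adf9c700c00000154e42b7c00030e872587400015be3f602a0000017a2856f400061cd0530e60002b7a71c02e0000053390ade0000c3922761c800056f0cb00a4000805a8a187000015ba38eadd0000c3820a61c000056e8fa805600000a07215b9000186f3eac378000adc9f4,
  nat_lit 0x3813de90a0574cdd31cc608aba4b295d24a655d2102bf99ee8ae8a0c5fc8f74574105ab9e9452b9e4d95ce27255ce878ae6a3bcae6c3b57311ed57321d2fda7b82b970e56532be95ca682c6e980eae4c38572112d4a4d12d57209900c4000007a8a15cb0001881414c408000ae59f900f00010184e430fe0002b927ed5c9000187f392c3f8000ae4a0d017c00000e9142b9000030fc65987e00015c839201c800002f1c8571c00061f4e3b0fa0002b8e83405d0004038450c3d8000ae2a27571400061eccb30f60002b8a7d4036000005b390ae20000c3d1c9,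
  nat_lit 0x57ccf800015cf00025e89ee31200002f4526988e5f697a6000a006acdab200015d80040008c8578c0001847bca2a4af300011195e2000062abc8918abc80000c35784000184af1242eaf12bc23017f50e6c00356f222b0de000ab76ade1fd0008e303f55af37440009c6058aa180000c205b0dc01c5ed9b2290aee2bb6aed2bb2aec2baeaeb2baaaea2ba6ae92ba2ae82b9eae72b9aae62b96ae52b92ae42b8eae32b8aae22b86ae12b82ae02b7eadf2b7aade2b76add2b72adc2b6f1107121b5023600018a0000411046910d8ec00015dc09caed0000c7504963a0000576028000000998041495dc45049d4464118a3b955d957615d7575a2116585959802002c4106f82a1001220037a14d80070fc1bc09d000287c0dd84e4000c3d2ff8000728ae98002c73969,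
  nat_lit 0x22c72875c800000245357fc00108adab48a400480180003567145ab26acdab408c000857f628046c1b0800e88c2350d840063e8af90000341ab500015f26c0d598000af944e6ac400057ca27b55e0002be5139aad00055f26c0af9800253c22600015f166456e844a0002be4af8c4d57c8000629979314c000abe45a4adc0000e92be2000b14abcc0002b6dca31480002be05a55f000058a45e400015b4e50ada2b6400057bd1f000011a067b1301b4007c0048960d98040001c4a06c8020000a2497a001080030ac01a00015e950aaf48000af9999,
  nat_lit 0x18f001c64300200387a09700061c999605ea0039465b9400603c03b99fe00428908080074a0cd3800c320246001c1788b8164000cbfcc5b0b20005198bfb0008b6f8ce33e4004518ccf8006341b31000999f0e6b48800432c1f7000c2088b410300040fab315a700015a3d992d1e00006d07696a2000168e8b2b500000b4745607d423a00062c2dd20002d3d02169c00056e97de000045a2816e8000169981000083e611bc575a5c0005a262b2d120002d2b15400233841f18a8b498002d9dc16,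
  nat_lit 0x1100000182a2929100000c142f961e000060999b921cdc604f600a3046c124670678d19004ccc802413b80251982d400002098ca08b02220880018b7dadf5190b21000025b50ed740006d694633ba0000002a3100160002c780014610128b2601300018c003800a200045f3b9800001362f2d8e00036cf05801400540243e2c61800217d8c400186405ac003859ec896ef00182f86a00038790d340060de125800a94180d00246405a200505950040fa00243d2dda0042dd23396e9001c640308005069117418100249d030800414f,
  nat_lit 0x100038e2002000453c04c00056d36c0b69800032004a09656e80002380270099849200046f5b400005b7dfc80a815780031b974200016ce8ac0001a601dc46d67b40005b35f7ad9a000b3d70200000919ca1a5c1dd80031b173a00016ca8ac000808a1529d05b200005b4dfb8082b6e2db600aae20b888000b6446b5b20001196b64000032001f5c4c0005b1e352e220002d8f1a56c700000255980113054014b3c6159006eb642d8f1a183a0000a7b6840003070cb1b4000018360e8d9f0000c1a32c6cf000060c8b0b6740003060cddb38000182e2c2d9b0000c1632c,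
  nat_lit 0x1e20004642db80000c262400006ee81e08f415aaebe0003122c4847962440005d75d1aeb6bad00b4c4931231e187700018772dac3b8000c3b90c61dc00061dc8630ee000b0ee43187c00200018ee000049200010c00016ed5bb1ed80480128000c3ab0e91d987500016ee684b772dde00030ecc3ac7561d80015bbe3a002e0012890040001190b72000031187361d02da5c2805a0039b92dd40050062b964735b60000188b6c0004b6b2f90004266000639050000085f5b580005b4839adac00004fc22186f00016d619cb810000b6b44f5c000035b5a27001000228c,
  nat_lit 0x1b516d4000168adea9e9c00048466a00000da7a6000acd331e66900040be1de800c1c9778001468057200247101d40032c00300004ccf8885dd40010da03a000031599b00040725f60ef8002595bd600059985f21f0000a0db4830f8000466543b87c60018c85df000218816e80092080000b74003902cc7800416ec800b60001190b91000031089162500005dc97730b5a3faee000031291f989462540005db576e8fa15f8000c4ac7462540036f063e3126c4a0002c4a2e101140038f600104060013ff,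
  nat_lit 0x5a040005a04d5acfe0002cfe2d167d000167d358b3d8000b3d8b459e400059e4d5800807e00086a800303f800335200101fc00124400040fe0004d4000007f000069d6ca48bd31071112774f6900a65f597c5a7569c5a6d69a5a656985a5d6965a556945a4d6925a456905a3d68e5a3568c5a2d68a5a256885a1d6865a156845a0d6825a0568059fd67e59f567c59ed67a59e567859dd67659d567459ce472d760693354a559b20001b579187a480020e748d6f680005be4e82df200037b1231bd600016f98060e780007e1c8b6d3800066bdd3335e0003699228fc6000c1ce912cd68000cd690c073000007307c00048c8000412696e00051906f2e440392000202f21d01540f80025bca432d5a05e8000b080012e5cb9575c00032c05cdb50003801507b642846411983a4000343,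
  nat_lit 0x5dfd1cc5a6d06b34c8192d3523d8e9472169a468c74238cb4c9c2639d1c85a61052dd87fc2d2ed059a240ad6965c0b4aa53694f2536b4aac76e54c385afe0134e061d2d7d0e5a6f30e16bd412ce51874b5e1335a540005a54d82d260002d266496910001691362b478000b479925a340185a34d82d200002d206b968e000168e318b460000b461af5a280005a28c62d100092d106b968b000168b4e4b448000b44a5b5a1c0005a1d39ad0a0002d0a96d68300316834e4b430000b431ad5a100005a105c2d040002d042f96800001680170b3f000cb3f1ad,
  nat_lit 0x4083337500858666ddb867cddf377ede0210a841273e9cfa7489cfa73e9c838e4e38b8e0e37b8dce36b8d8e35b8d4e34b8d0e33b8cce32a582848212a84a37ac02d80b408bad68b59ad64b58c9a051c1460001e100020a3028126579700056b33e0bcb8000b599bb00084cc0d58eb800226406aa7516b000019b909c26606a6000a1e5e480005ab8edad58000af206e00000d444ca164bc68000b549db000c0140d68de800400906b2504001004c35883800000286273f35aa92b02be52ad42a44af5a9d6a65a956a4930b950000bd6c970e1400107224b32f800033bd0599de00516d000011f32f405733bc09080060012da0b67c950d48443000e4a06a221c000524cc462f600018dc08181fa0004925a7800200fe4892f64b9a000b4f49070151cd470d69d74401ea0feb4e1a3,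
  nat_lit 0x16da00016af5f2b6d0002b56b1d5aa80030f4b6c8004b5532c002400228e00480021c000900016a60eeb520000b503605a880015a82272d400000c45a7c00002ac000944b4e8000bc24a15e100005a6e50000401a815673c00100cc0aa39c00000680549cc5b312d24ce92d14a694c54c41bd56f516c15b016bf5af96bd5af16bb5ae96b95ae16b75ad96b55ad16b35ac96b15ac16af5ab96ad5ab16ab5aa96a95aa16a75a996a55a916a35a896a15a8169f5a7969d5a7169b5a696995a6169793e0001f8406f49e3fbc0dd000242ad820002f4476c10311f8001464081086c0002315af400066e9f788940810003275008040000093800108ca1ae9cf000444c0d70e6ad70000337afe19bd00016b67ee001821e19bb7761a137825fab37b26c0020419794378000820cbc9bc8,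
  nat_lit 0x16db000465803800087900700005b6655adae0002f7800ccaa5b540005ee9172f700002da676c00210300ef28000087ba0770695b4000004256d882e07600012a56cd00017b243a073883000219803983d1000ccb01ca1e9000471c0e30f3c000414b63000232d6c600006408240700000b624a85b080005e9ce701b6249000329c0da11c400094c00001b22444a55e880005af4edad7600001772900b8121800292805b88dc000ca367780005ae2022d6c00033bd00d9de00fc00252a0888074000a0b044003a00021cad6200006d,
  nat_lit 0x5c1800018a054aec80002e0b2dd762000570353ab800002bafba45c000005d7d4a02d60178004fc010500bc0013ae08200580001d4000010300aa5b2fbe0002df48b96f800017dd3b0bed8000b7b22e000405105424a2de800000a72d4050053800296800881e2000cb35f580005bc6592dde000afa880c0fd0004004962be88000b764b00004040050555add40002dfd2bc044008c00095cb738000b6e2bb5b70016676d9da0435a3d060000595ab7e02ca00240204e0181000e1cb7c00c10004b800000f800d82cc20881ae0034ac5b7c0000da02d8004b6e861,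
  nat_lit 0x6002c0002aeb97800ed898690000003009cfc30080002e3e760000009802b3ecc010000b8e9f900100010dadf2ae52000361aea8e5440e8001556729a06e0004930008e52417a5f00021b3003c78d7240001b08756d840000b914bd0004044047a5e0000022023a598045047000195800a06c20004bb5c700006c12509c8e8330004a9ce4640c800192600702f80004ba5c5c000709657b84a04800052e5b00024000197000301220004665c48000190ba60000b8807301f40005c383880fa0002e1852419a000170a292d2b0002b8432c,
  nat_lit 0x5dfd780006001e1aab9980ac02c8024279767000062aefa0002ececbc015000176719c00a8000bb3c4e5df40005d9c63aefa0002ece32577d000176719c0568000bb3b32689c0005d9c6702b40002ece33da89000176719cd448000bb38c96a240005d9c63a6120002ece32535d000176719ce6b0000bb3b324b880005d9c673856000aecf13976a0004663850000aecd13dc2500057670e6e128000bb2c4e33f1a7d0535a1a00057685d9d7665d9660ae4002180004cd767000465aece0000c8685c0530001766980bb30000b8d2da5c680005d9965aecc04bb424d09b4280a8b4340244bf,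
  nat_lit 0x174200017421d8ba00014ba01145d040005d0449ae7e0002e7e23573d001973d126b9f0000b9f09c5cf00005cf042ae740012e7427173b000173b4b6b9cae700032e7a997ba84e6cae78b9dae7531000500180055a2002000c0022d0000c007000d6780040038004b380015ce1af84d8000000c6880525cd93282ee9d3b73497355cd17335cc973159ab9aa912b9acc35cd147c5cd2612e665e72e66cf57324f4173226ab98a7beb9893469c90fc5cc21c2eca9902e5eb8172e4a1d72e2dab96a63e9ba263eb96ac760540005cc0cb2e60044b02a725813000172e330b97010cc099c201c00005e1dea00000009d2,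
  nat_lit 0x175d000062aebea03aebe0000c35d70000184baea830baeaeb830173a002173a222b9c800cb9c9155ce00045ce12b2e6e0012e6e2e5736000173616a002142a002128000ca0a000c9380044ff8004bf800127d000140a00013c600020467cc5996314e2340c934a5d497515d4174f5d3974d5d3174b5d297495d217475d197455d117435d097415d0173f5cf973d5cf173b5ce97395ce17375cd97355cd17335cc97315cc26304002ce00050f8e0e2a8800198a2c78000ee97520005a907a800001a8749a8d000574f09c0698000e5174c0005a8a09200001a8e51a8700597490a0ba58000ba596d000174b472574b216ba48000ba49935d1c0005d1c882e8a0002e8a40d7430039743220ba20000ba2114,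
  nat_lit 0x100510010d480060288006910002014400235000080a20009a7000005300007d2f029b9a8469e23b129e0277abdb2f6a05d0152bce2eb0babaeacbaaaea8ba9aea4ba8aea0ba7ae9cba6ae98ba5ae94ba4ae90ba3ae8cba2ae88ba1ae84ba0ae80b9fae7cb9eae78b9dae74b9cae70b9bae6cb9aae68b99ae64b98cca5d940015fc97f181a2a59a0e68280025481fe33a400072ebb18000341ab000017636c0d570000bb1c4e6ab00005d8e27b5540002ec7139aa800017636c00fe8000bb1b325fc40005d8c6783e40002ec6cc9ca300017636c0e508000bb1c4e727c0005d8e27b93a0002ec7139c9b00017636c00da0000bb1c800815ade0001763992d6f230c0024c86a90cdb00090039788a7000280420872e4000598001000232175e00006123009acaec20004c7,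
  nat_lit 0x5d552275d549a2f46bd22ea9069a5445cd7535e4c441cd0ba92e05d45d3e4fc9d3e5d4563aea200f2ea26c97540001754360ba90000ba91925d400005d40d8ae9c0002e9c64974c006174c360ba78000ba79ae5d340005d34c62e960002e966bd7490001749318ba38024ba39ae5d280005d29392e900002e9096d74600017464e6ba20000ba225b5d0800c5d09392e8a0002e8a6b57430001743170ba08000ba08be5cfc0005cfc5c2e7a0032e7a6b57400001740356b9f0000b9f0b45cf00005cf0d62e740002e742d1738000173835600280a20029aa,
  nat_lit 0x6a40005da4670344000aed2cbd76900006403460d38008bb44d100083a453203a49a0000874402a4cf00003a30002670758000800c1403a800017647de0019d041d4ccd000918b47b06a00028c5a3453317600001d55346eaaaec60001a45d7c00018abb0a8b0bb0800030d75e0000612ebea34aebebaf0c067059c0001173f15eb9f0000b9f191000c705000c0013200010e020012d5000470100053a8000378910c12598166088de67f892a773cc8239d9d4a5d617575d597555d517535d497515d4174f5d3974d5d3174b5d297495d217475d197455d117435d097415d0173f5cf973d5cf173b5ce9739996c470000bac04e00000080fb1f9aeb4ea398889fc23aee79aeb2bac2eaebab3f25d652b25d6440aeb09422eb04d975730dd75767abab24aabab135,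
  nat_lit 0x5d140005d145c2e860032e866b57460001746356ba20000ba20b45d080005d08d62e800002e802d173e000173e35600200680021aa000c034000cd4800401a000491000100d000135000000680001a75e25d7651eddde50b1426483d7645d8d7625d857605d7d75e5d7575c5d6d75a5d657585d5d7565d557545d4d7525d457505d3d74e5d3574c5d2d74a5d257485d1d7465d157445d0d7425d057405cfd73e5cf573c5ced73a5ce57389a8bb70000ec3bb0d035d870880000818bb680003418e6000176d6c0c720000bb6c4e63880005db627b1c0000aedb13976e0004a7b1ba0002ed8d8024a7614476000d76c9a620e1e500012df092d102000434801cd2fa612d2fcd25da40000f4ec00000bb48cf11f00005da5b0324a0002ed3139923000176989ec908000bb4c4e,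
  nat_lit 0x209000178a82abc500021071690000212140c7e043a2350001148001063c35412966baf0c0003274b3193a64ed93c08ad8f308a80015e1a6b045e12908c400038c5e140000be1348002bc28ce5e14000190157b10e000af09354db848b52305e11d1310c915af068cd75a000175a360bac0000bac1925d580005d58d8aea80002ea86497520061752360baa8000baa9ae5d4c0005d4cc62ea20002ea26bd74f000174f318ba68024ba69ae5d400005d41392e9c0002e9c96d74c000174c4e6ba50000ba525b5d2000c5d21392e960002e966b57490001749170ba38000ba38be,
  nat_lit 0x195f0005dba9c6cae8000edd4e2002800800780229c2bcd0000315db9000579a6c0007800233001400057996640020004bcf2fb5e700015e60672f300000c8003422500017979c010f352a0032da5e5400076b965bb5c0008008b25a9000042fb5200000cc76b000a0001a8f9bebc90002321790000061351a10c8000bc846a08f425f0d8c36463240005e457909bcbc8800217d791000066318c1b0897ce0d88b8c88321e0012f2137590708a00015e3d78e5e366e04b41af08ea0004db5e380027694482644d91409d02269b4bc4af14bc5af18bc68002ed1bb4536400042c40f77541348000bc63db000420d08c446c9b0bc50000106969,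
  nat_lit 0x4500140073120220084000bbaeeeb3bab3a003300dc4ab000273802c00180040204e677340015f224bbb9a0002f8d38c03b000e38b2f400105f65e8001198c4b800417d0cf000c554802da3800417dd41000412d19c097800453dd40000412c5f2097000417dd3f000589318e08680084e9d3e000d8921927c28006a31c45000836821000116074ec001623c67219400083a5395d3a000188e65ee9d3a7600084d80e8ce44324000150207366c000ba74dcc1b90001c6ba72000b667021d390001b3182a29c8004864453,
  nat_lit 0x77f004d0001edb2320008c564640001880253bf000032313c110200043649deeb90000de63f86f3000075c1fb8068de6853c0f6cee0955ae900001b3bca00104a469016500123882ca0019603ec000551826200084e8fad001144a1cc00182bf39427c00092809820009607774000718c673bba00800a813e84f33b4052003ddd33260002f9f3b003a00002a582813f000a000b5933adddb00002515e60230000ee9dda00017cf828be68006eed416775c00065016d32800003baeb2ddd7000998200200090a5598a09e2750002010004a01b4e9,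
  nat_lit 0x671800064b62785b4001325a32405200152803980020c5671000464adb0039000207901280034a0c46800417c36b00085959e41650002c93b320da8002070e2e854c000b24cd80369000ca304fe001324a3241ad00083806d400116409e4001648e2786d200103553c827d000592219215f000831596a00119216c01590008a242cc000c38370800106d0d90002164a79053a000b23b20036600082c890615f0002c8e480647000019815e0532cb080b4bf380ba0013238c8dcf1000405c015595b0a480698c81b28000885465,
  nat_lit 0x6876b004a00027c381a01a9eb2c680012dfb800ac614f700041d208567b37f00003178fbd8bc0001bf6810dfa0000c5e373071831b000545837618e00013d5bf00001dce3a090a1fea0014f406645060005e88328e5400013cc3a70008b2b2680008c50dbc00128ce518000c99c80728400164cdb006e0001146727800164ca2737d20008c5726c00164c627a27000086dd0002f00001930192f140000c980ce0bc400064c067b5d00003260d802df000193019ece68004c98360073000219800a80023219c9000592e89c1b780022d2c5d,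
  nat_lit 0xbe02cc0ba000a7e010402e00bc000c60796c00067ea0b0ba400622d13ed9000019dcb86ec7e0000c7e16d63f000063f07bb1f800031f85b40003b5c0001f6c7d8000e142f370a024a0004b4bb8603f8000f6d8f9000062b78800031f2d81bc200018f989cde00002c7cc4f00080018e2dde80000c844e6ef008b77180009f400000187483ad0005157814cb20000f24051029005f0c0c0459d2c5d8000e09437704002e62ededb81e0163b6f38c2a840100129f217e3970008acc61f80006fe099b7f000030fc5e587e0001bf82e0dfc0014c3f179,
  nat_lit 0x3300040be06480061e80cf0009a0ea0204880091c40d3000c2fb41800101863245e1000c3c81a60020cc6828003617039818e0010c8016800417768001a6001960681c002031c38860800086d0b78000190d0280001814ff025c000681467bcc0000b40ad81a05000064001ad050000d024fe6810000682964819e047810c000c1867180006809f78bac000042b02804a01240002d2de88002315bd20004a7a2c80010ba8c8916200085d4802cff000253de5700019fc6c003f337ece005c205d309200033facfe4fd,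
  nat_lit 0x1c020051c6a59603d000853c0cc000c66344400307a68880050da063800c3305e90020240802017000e94032d0018a781660028cc0c1000468728233e40018c8179c00308fd91064e00105f02b40010f4d0c0000cf6b1d68600000c8a810036000343033801b0005a1889cd0c80083202f5000da1789e00037d200250301dc00417927933d000194f0bdc00268528137ce0010c817a000217859134240008010c945e700085e0802d0a8002d088ce178800328c0048004d0844e,
  nat_lit 0x18834d4d8832dac4126a2b4ca6a2c41132621c000621c7b800083f00005b5886000065ba54000310d13c3800001886192f5c0000c430ce7ae0000621864bd70000310c31deb80001886192f8f8000c434805a38000621867268a000310c3259d3000188689e2380000c430c968700006219b008d8000310ccc99cb00018866c00788000c430cf7a940006219b00198ce38000c4350902ac00062197981d602e815305040a000061c80c00000ce02d014b1bc22d023008b00fe840090f0a807d41c05c0014004000283003600000ff051c6f71c005500026db80800ab8d8e36b8dce37b8e004fd05,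
  nat_lit 0x1882000192439cc910000c401bb61f80006480ec323c00030f876987a000191c372c8d0000c3c1cf61d80006460e703cc00030e86ec0011dedbd915a0000ef8dec3cb3200e0f401130c4da1894624d8926245890623d88e623588c622d88a6225888621d8866215884620d882620588061fd87e61f587c61ed87a61e587861dd87661d587461cd87261c68583ce15b000142800007982bd3c6c9b0000c4a1bb0008787079e5e00023c003cc5998910001aa10a03c083c8000cac0acc1e200025db11a001325e6e0001078c78395800003c21574bb64ac0006224ed800400183f06f4001622dd584d8000000a307bf36225358370d4f779103d662218876219885884c95a6a4c4420b64a9354621e1cb2529a9310c8258d679c1885682dd626acc42133,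
  nat_lit 0x62ec001190c5c800030934a0d5000062e287b16c00006a41386290d0c33f001287075219f0682001d0d17583c50008e807489458002fa419900018b17f2c578000331f0c00018ad0e6f860000c55af97c3000062a58ebe18000314ebe5f0c00018a50e60c50000c51874060c0006284308c14000313e185ab5000189d0e6d5a8000c4daf96ad400062658eb56a000b12ebe5894000468356800031281cc7230740000624a863264000312073d88e000193039cc970000c461bb622800064b0ec325400031107698860001928372c930000c421cf,
  nat_lit 0x3d000400e390cb28000c61a29630c0006594fcb2ca00031867ec00c0000037450c610000cb219665900006308fa806400000167218c100319633eac5b0000cac0a7656000062d8f0b16c00032b066195800018b63eec5b0000cac223656000062d853316c00032b029d95800018b63c2c5b0000cac198656000062d8fbb16c00032b088c1f41d0802114c0f98e7a01051200100030f2002000458000400042f800c0000c863113984d4c00518c100a69e0024b87d55350000d0083600d680047f8000130d06aa2226206a6001d10,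
  nat_lit 0x656800062dd17316a00032b076d956000000a948662a55600151833112ac00068b91f000032a6f5c00233092a93c6000999095451665400000011a40004000329c6ed94c00158a9378dedabeaded80068f98a8000462b1500000c43304a7c00018a6a2ac520002c7a26ce82f9cd673f37af45000001a821439ec792782b40abceaf52e4eaae355cd5687fa1d7b52ac64b190c63b18cc62b188c61b184c60b180c5fb17cc5eb178c5db174c5cb170c5bb16cc5ab168c59b164c58b160c57b15cc56b158c55b154c54b150c53b14cc52b148c51b14544d96c00018ca3e8c650000cb61f565b00006329148026000809c8a196a00018c83e6c640000cb51fb65a80006320fc8090000802272196800018c63f6c630000cb41c765a00006318fa001e00000848a18c500019673e8cb38000c629f3,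
  nat_lit 0x133c11b0000a231ea000333073999600018f339ec788000cca1ce664800063bd1731da000332076d98e00018eb45ac748000cc61db6628000639d1731ca000331076198600018e345cc708000cc21db6608000637d16b1ba000330076d97e00018db45cc6c8000cbe1d865e8000635d1731aa00032f076197600018d345cc688000cba1db65c8000633d16b19a00032e076d96e00018cb45cc648000cb61ce65a8000631cddb18a00032d087596600018c3376c608000cb21bc658800062fcddb17a00032c087595e00018bb45cc5c8000cae1d8,
  nat_lit 0x63e400066711a333800031f28918f9000199c330cce0000c7c9c263e40006670cc333800031f28918f9000199c330cce0000c7c9f763e400066711a333800031f28418f9000199c466cce0000c7ca1063e400066711a333800031f27858f9000199c468cce0000c7c9e163e400066711a333800031f28418f9000199c466cce0000c7ca1063e400066711a333800031f27858f9000199c468cce0000c7ca1063e4000667119b33800031f28418f9000199c468cce0000c7c9f763e4000667111b33800031f27dc00113d811da34000092c08e519,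
  nat_lit 0x67140006488e3b244000338a8340510000028450ce20000c9099664840006710e4804e00000987219c300019203f2c900000ce1a0a011c0000099143384000323e7ed91f00019c239201280000211c867040006478e3b23c000338283403d0000024450ce00000c8e99664740006700e4804600000707219bf000191c3f2c8e0000cdfa0a00cc000008914337c000323665991b00019be44e01080000171c866f40006468e3b234000337a8280290000020450cde0000c8c9f4646400066f0fa803e00000487219bb00819183eacce0000c7c9e1,
  nat_lit 0x6454000802d3fc0120003226a48001469911ea3cc888001004aae8024001643e8e8004a032b0005d9ba0005f6e500157e5580002871000a917db5f6e7dbdf707dc541b5ce17385cf592a64a5928649d9266495924648d9226485920647d91e647591c646d91a6465918645d9166455914644d9126445910643d90e643590c642e8e398ce63b99069c3992e6507661db9ffc4bf37e800051b01e9bf325f9bf39a0ce600f004019601ec00001d4e43398000325271d92900019cc4140380002017a28649c0006728e4b394000324e7ed92700019ca39201680000351c86724000649913b24c0003392658065000002c450ce40000c92a0a64940006720e3805600000c07219c7000192444ec920000ce3996016c00000a914338c00032467d192300019c6392014800002b1c8,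
  nat_lit 0x174b000e2bc062001327697c0015cb00011c80002e1a00019a64dc00080b53fc056000326aa4993300020295270138000c98a8a64bc00080952f404600b325a97d9340001934206c990000c9911264c000064c088b25c000325c44192c000192c204c950000c9511364a000064a081b24c000324c4499240001924222c910016c9111064a800064a87632500003250459926000192622ac920000c921146488000648875b240000324045d91e000191e1d8c8e0000c8e116646800064688ab23000032304500025b0c002a40000ada4000d1f,
  nat_lit 0x20004628000001000148996f000196c65ac00365ad96c000000184acb6000231596c00006232d6cb532d2cb4000000132d0cb4b2d509196600019661cacb20006cb2368659000065907d32c400032c46c8000658195f6578001657995f6581b7b2becaf32ba0020000caeb2bccafb6e656c000656db432b200032b2dc195700019576e0caa800ccaab70655c000655cd932aa00032aa6459530001953322ca88000ca8991653c000653cd90002ca6b298ca5800aca5b298ca6b6f65340006535b43296ca532920000006ca4b294ca5b6e651c000651cd9328a000328a00816e650c004650c7d32880003288da19420001942005e90b2800003280394001000c0011e80000006000107,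
  nat_lit 0x19728118f3351f947551f978f811997065be9380062900a440000007498002147c5211478521a4a000af0cb6c293000206d81b29240db0370cc615f0224cb65233d9cf7165b25a955255632d6d0578966280001a4cba800034000a000197519c0088000cba8c9005000065d463801e00032ea324006000197519c0040000cba8cf001c00065d467800c00032ea33c002000197519c0048000cba8c9003000165d463800600086d001800065d064b2f6bc332f60008cd0008001198cb9000032d9785e1997800006532e200005f000000165c46480040008c8000800065c063b2e6bc332e60000c6,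
  nat_lit 0x205c0009983524cc10000cc0b3047f40011d28000856cbf800102c293815800065f54032f600040a89fe0520001979536cbb800102827f813800065d54032e60004098a4604a00019714becb7800102425e811800065b54a32d60004088a4e0420001969524cb3800102029180f800065952fb2c6000407897a03a0001961528caf800101c29380d8000657549000022c4068a45b516d49b536d51b55118c85521520500044043011997765d997565d197365c997165c196f65b996d65b196b65a996965a1967659996565919636589961658195f657995d657195ba5c000b512b30488000032214a29686442940016003c0f23368cdebbb2eaaa482914bd3a914ff00cdc1650596cbad2c2af9426000295800255ea84d4a80002ae13cfa52e5b8000cb9156000400872d4ab3a50000000cb31281,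
  nat_lit 0x2049000197b500cbc8001023a93811400065dd4032ea000c0869fc000545c0001f90200000cb929b65c000080f93fc07800032dca0196c000203a4bd01c0000cb529465a000080d94ec06800032cca5196400020325390180000cb1294658000080b94ec05800032bca0195c000202a5270140000cad280656000080993fc04800032aca6d95400020224ff0100000ca9280000002f57a92f3337037af3034885d817705ecd2a85d502fb2f2cbc32eecbb32eacba32e6cb932e2cb832decb732dacb632d6cb532d2cb432cecb332cacb232c6cb132c2cb032becaf32bacae32b6cad32b2cac32aecab32aacaa32a6ca932a2ca852f00015e90000f8b32200040d497a068000198f500cc6800103327f8190000662d4db31200040c49fe0600001987500cc2800102f293,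
  nat_lit 0x1000c0040005098000000bb06a059847134f7a454516e660d982660598065fd669bd4454b3072d598223a5982874cc09150cc096d66600006ed96589b2eb50026b2607500019a7500cd28001039a7f81c4000668d4db34200040de9fe06d000199f500000246614ad33823208d82387958256094000599ca64ccc800217d99900006605430328000ccbd316654000818d4e40c20003326a51991000205f53b02e8000cc7a946634000816d4e40b213b0000e9998a0000a7c10a0003310cb04c100059862c2cc2000030826c8144000660e983302000409e9fe04d000197f500cbe8001025a93,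
  nat_lit 0x671e84000856cc78000274463138c00066354500000330f32fc19d700019896628ff80003cb00cb0adc550001986528cc20000e29a9371440006609493300000389ea45c4d000197e4becbe0000e25a5e712400065e94a32f0000388ea4dc450001976524cba0000e21a91710400065c92fb2e0000387e979c3d000196e528cb60000e1da9370e400265a9490006b2880060011900009507543058f374000aa3e495291000179400013ac1ae45938ac053814a052330ecc3330acc23306cc13302cc032fecbf32facbe32f6cbd32f2cbc32eecbb32eacba32e6cb932e2cb832decb732dacb632d6cb532d2cb432cecb332cb4d598a0001d7d7924089024000534662000071594e38a8000330ca519840001c5252249d0002cc1294,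
  nat_lit 0x108a005384ecbd0000e2329d088400065e22ab2ec000043ea4dc400001974500cb90000e1f27f70f000065c14db2dc00038749fdc38000196c500000007244f25e66f1c85601a1091bf86ff1c2470614004ff664d9926645990663d98e663598c662d98a6625988661d9866615984660d982660598065fd97e65f597c65ed97a65e597865dd97665d597465cd97265c597065bd96e65b596c65ad96aa7406d91bc00053966cc0001415ee8a0603600006899b000006433f603433f6000335d4e19ac00019f90a2cfb8000cd505000008ef01a666b8ec000334ea6d9a50001c744fe47980d0000510668800067bc28b3da034b3da0003ad667c00029ecf58000cce87467a4000666c3a00ce3de8000cccd377198000665d4a00000340f534d99e10001994846cc90000cef850,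
  nat_lit 0x66a00016675b00016002c7b6694004003240000e00187a667c002190003000520999b00042fb33e0003336cb199d0001a04001ea1b40800033375099990001a0457602e84b6000d4171980006659d2000200738cd50199500019905b6001b9303f638864040004cc933274fd9fb67e805f83c8903726c00166469f048a2a6800074198e0005c985d4e4a8002cc5acb7254000662e9e800229b0ab14f198900005337ba17080b8000c5f67b4000661e9db30a00033db38d9ed00019839d800085c802b457660400009414e05d402c0000a3597e00019e6576cf30000cbe437,
  nat_lit 0x19d40001ca053818f81200002856744001002d6d8024000b39caed9c800019cea94000051c0065490ce80830002a43394000344f38da2700019c89d8000853003f409671800072494e0522043800151d9c30000a7b434000b3821cd9bf00006280140060000cdf54666ac00066f1eb800012a8060bc427f0210003a8b08601080013db008426c0002a0802603a84d55119b5000464336400187a682c00266c839804600348200800054a00110008cd745b668000318a00f00091ec01b000e38802600105f,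
  nat_lit 0x21540020f4e7380022bcd02739c000188f0600022bb32c7828000190f04bc10f03800000080040003c0ef0454e380c5706736a6b398b7033985b59cb85a588885a59cb58f09c014a0122cb209c6cc00029e000a02a85034cc00a000a41001400147b67a40010becf68000cf4b2c67ac00000319e7a98ce50000cf4d3d000403b011804d9a4cf38000ce8c2300bc00067960a33c600033a214402e0a300018aee588000cf0a80677c00016ed2f003e002482007c0038e200d800453d9cc000465803c0000c567600000062a5812c1938000ceb531,
  nat_lit 0x21610059a002c2317802e3175530d2c0170d26abc2b400b0010c906190058610aac310002a285cf218640141842aa8c320098bd1551cae0049caa6581a20018029d5025f800b014ea980a60050198c959fb00243d00190a880100175520ce800f4bb1930b1a0070009545e2100340042bef0f8018020888853800b032227a5ce00200c7540064000d2800b000105f000c0057fb0a48000cf433700140067fa4a6000e4b74e525b800625bd9c10b2002908120083e00100425f62d8000b1ec964001057ea9ef08800602ac80,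
  nat_lit 0x37000a02eaabc0008006ff5cf100983d01de0130bd6000d5d2240025019e4001e20128bd356488e009005c0e81b3004a028d5026800240146a980420770046028d5c00600210088043ab70ba0042028c4e5110021131d910000001bfd039402000b8002ab4001803e04832f790801f01e43a00c000f805756405e00789d00be00e85f00ac01c01406781a200e0010c9616b006da6889ca1c800619a4e578a00020d3d928b640008cc84cc00016bc001ab0009002eff52fd006807965c4c2003203d553015401829e03a002e014888,
  nat_lit 0x287fa00d816001f021a01356600180a300f410daca280807a27fd50104c03c0e032f007617c38a00ec386abc99b007604c88c865003a026867913401cb47a3380000015fe91d20010a1c0025640c5400120f4004ac631c000016556200000357fa186802230080695844fc00d050865c996806843f550543003325d200c31201934952005ce00c5d2c2c23178062995560541003053f5910b5201786f85fc02e19040a805c321d50198002d1512728b580160c7f57c64200ac612a9e448005444d1497354029190a2b0052173322,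
  nat_lit 0x5ff0125a7b002ab6800400b3fd144c04951228880905800040374001003eb6009800013b95ac0150121feb58c0240c2525404414a591009e02185ff16c09b012466bab23fc0092043d5302f00480be00a0244024023156e1b4011daaf6c0176008e53c347011866008c319808c1d2d6a0f700450d203a07280220cc4d14045512a3d008828140051e40030de20087400014710005e6e00082f5ad200285f200042e75a003f0105fe82320208beac989c5010809300bab380d602085f00080297fa1d98080058d50,
  nat_lit 0x556405b554a008cda02d47100400587fb0eb00b022f0c927b405827d2008c2002bbb0a00fd6d00243c3016039faec20a00b029fd0000040047fa000800e00107955d43d600043560c30d580010d2b32002c0567fa00210c2000017b5d00060155fe80140063fd52bc005158d91077c00213a02dc0012172ab006805a00002fa57300000517fae9080a0d3d809d5c80010129fe87720278802ce00010f3c04e866004aae20018cb40268090016d7004dc02323c0001ade4ec004409994904e402323baab2e8c000011e230000012dfe918802534fa019d6e,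
  nat_lit 0x5e0c000032c46007a038bfd013c39701c48eeaee00d3b3c03800875fc0000019fea9d80000750002d7e000006e7fa0048b960001150036d7d002c00c7fa03100ceff4007016dfe8cfa035073958061201a4390c2403407885900671904a600062b0800f5f000922780021026bd801a44e00022e0d7a19d0000109c024ac20000004ff5d6c0005d320002bc802402cbfd004c01b018abc0d8e0310aad55c002169c0611b12b5395e03038b25840514e100072362bbaac600313a50008d000148cfaa646d80081b4624000dd8489c34600b89c0d56,
  nat_lit 0x7a19c0002194ac429ee03c8b6f0015a501e55a49ca02080c2ff4a2d01f0a218000008008ff449000042ffb0e46a00002ad00075f80000085febac60103abe014579001803c7fa002800cff403e025400181bac3444400006f713804a01e1fe80061dd000c215d85004c3b500145e4b0834a0008e38800160c03401c1fe800e005bfd000c03d7fb0f5800c1f596100000747fa4b200202bc00e760801b00c5fe80162c080e019fd810d0006f71917ca9e200687b4c8800a01c1fe801634e000435180016021df0029ea30e61ea80e41d4d56,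
  nat_lit 0x227000049560e233b8000d6950400000207fa339803e07f00c36300000df4083022ec8ac9400092d50058ff0000384018ac80012040bfd00000317fa4c681002d500615f9f0e00000ff014eb0800203a00ff5e007224dc080753d8dc46e03fba9e03958d88d407f6cb999000800ebfd00c47c5000914ab1e8a500021bb00ef63914a00006c900b6c68000000bfd453800076c8009b1800b80f6ff551401ec74564510200f4e848c7160000001aaaa000403dbfd0d9400001d192800003d3fd000036800103ba01e6c5a9e603192acc8800e01d00620dbac5001821a00f30f6589,
  nat_lit 0x1b9feb1700050eb4036d825b64009129c648d020478721a0408e1a0341011a580019035c08e76becd003801abfd8a880001234068b06002807e034011b6658cf000153401eebe000c0463fd000c0477faaee011aaedce5666c00225f19a3412000921d6618eb0001d9e010ecb800003ebfd616c00076b007cada0038058ff5a4000007e30196cb0038043bfd00000950004878b2a0090096ff40000005fec4980000d0e009d9400480857fac26800204dd9300522110000fd2b24009810cff5672000ca4980004e8004526077,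
  nat_lit 0xa0026e38c4f004d01ed40896f00309ea64c7a20016534c01258800a4a004b283600138d769002d024dfec4b60004192003590007c0967faaf380020415a38798000020ad1000004a3fd87a808b1bf8093b2c0130104ff44fd0251414ac001d011cff43570248a789ce0488cc899809071698e8e840008a8e0025a15af80004870018b40003011cff5f390001afd00aacf8056046bfd173000172a2cdb13e000399601f59e000804a7fa00c00c2ff56b500045f8011eceb1740000b94023d9c002c0917fa4778018111d9b,
  nat_lit 0x2143830134376b0a1c181081e803000d5fe800003b3fd470806a0fe4075afcfac000ce484ff000c0627fa00380deff61f600020485f2007811eff55b500184380176d431c6017ab0139401a0221fe887600340e166c06780a400581f2b400004fe808e0fdd7700380117fb0f680002208c900180927fa21a0002121da7000c07e7fa001811cff5d5700a476866ac610050ead961635801455b0076afcc4d00003e800ed60802d0259fe80160093fd1c6409b0e4b70008431e013769803f18f409a1a72b480a09c8000cf8fda5,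
  nat_lit 0x683c0006eec67000a0463fd475c08d0e49e5811853d1d6022c3d3bcc0450cb4f24089002281340e0453078cc11cf022d479aaf18f01148eb9636354089475d9b23c4044208ccb11d6021c61000102481111055ab56700181f3272bb2000b8c55c3c001184c00bb58023ba2800040cd5fc0460215fe8020ff7001f11957f01c1fe4014a033b56d43800113ab3201bc0887fac2a80b6344400275005a7e72d12e3802c9095661f7101609d419c04301cc03424b96a877702147756700008008ff400000d1fe870e0430208019da9,
  nat_lit 0xa8c07e1902950100341cae01fc6232e00420f12cd807a0a70089168ad70f7804407a0cd8906023cfa19e4483011c4e890602346600260461214be4906022c622cc6046acc1000d470230d480f882f811cfe014a418008d184136011e0fe3342b6008e8e256c011a580ad802302f95b004587a79ec08a19002580b8ff406f7878089b5adae00041b608b0228682de6044875354c05b0219fe8df60438c27660029751c670e0a0460c523a8000777067800e0463fd,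
  nat_lit 0x1ffc0761a012a00f6341e0a01ec6802e803e8c88bd007c18853380d4a315e401a4a6564453300d03409dd000238803803cbfd585007c57a2728fc403d8d003fc07c0f0f0380f632016801ec3c44ca03e01fd40949201a944ac1a034893f394052738c0681046c48aec010a500540001896d928004ed700016c0005011dfe80f83df80084e356a00dc0437fa000008cff565400003bb0116b20000020bfd01b415a01a05680102d78b7a01f9600a880801540a5054a03f87a,
  nat_lit 0x1d9b01d862402603b06f89f4075804640455603a917c1f08c001d218c294f0e00e6310a4201cc80b77c76f80e43112d001ca38a5a003885f4b400700f504980de3203ec00b0020a042d980ee1c85ac01d83c0b6403ac7116c80742c02bd00e6331d0301c83680e22d800e2fe4d6813c00730f513180ea3153bd01d80850ea3f580ea4e93d801d062bd7403a07250780730f507680e432e2df01c862057203ac7b0ae40744a000e3b9003b503,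
  nat_lit 0x212101b108c19c13480da58041b01d837c6d603a86c2cd80cb01d06608360398c476f00751d0c4446680003ca433c06001d5fe80be4af80ece18b2a6cbc07b785067010603d0c8865807b188a9380f6fe588c5c5c07a296b8900f259125801e037c04e03bc02433d70d01d86229d403b291f540ee001d466246403aa174c7994b01d10ba77d01180e631227f01d062003603a41791387f901d52841b803a8c48aa8076332c67415403b0c46e7c0768bac670dfc03b8d0,
  nat_lit 0x1b004b19100d80a2322019014061020002906f28e005127487680c01e0649018c3c02cc0338c88b2c06618827c00cea25cff019c04664851780d00295518b280678b0a4045840330cc03d00680f051700ce4e85c901a63442be05780d01e806a01a4b00b7403547101a8069749e40472a036c32d20006302a806d75d6c5008e036b9a4cbde6e01c23d92de03794f0c040700e46db80de3402fd01bc383f6e0371b5f40a02f01b837c05a03687a,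
  nat_lit 0xe940421883c4008817ddff010ddfb0e6f4a80861e81980111c7519c0228088f2c0c93ca40460e502d80921ca06f0120ea15f0760808e6ef32c410004618493b808e1e175b0120a1aeb80239465d700460e5006008afca0cf49e00441886928088331b53011a10219cb600090fc53323448047188daf80911998cf8b2804b81724045f0025c2dd2006750129d5c9ff0eb80941be38f01261d590023e009032c74801243c3c6802406d7af004778ca2710a60230c4,
  nat_lit 0xf240321119923730019c6cc33a08f00cc65a1d60190c28cb0032868240097001907876380310db1e18065103c80799c0351a0043808053c08c010128012601f85f21e003e83fad8c60001f0115408a6d0104111aab1c28080009d4b04d004317f2af807e0213ad3201a23010a1d865e018008432955f00ee3800105db6ab801b8082e89c807e2c0460be6fa808a32109e011ca058bb035808c1c8aad0114b040d40220cc859004330757c8752022c7b0ea40441a11d70086e5a061,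
  nat_lit 0x31c02c8e2a3b0057195d4b02d402a190036805453c0db00a5f57a0401e805253e3ac00a40f664602c0052ec944e020802988046481d4014bcdb1380b800a5ddf89c02d8052e9e44e28c802b0f0f6e80541b5f6200b43789880164712b3402b2741e8005b1ee3da00b1ce20c21e80056309e2c00b5e2a5f2073805ce51c4e029402e7a18639da0018078808002f12c62d9d980170c47f2802e190fdd806668f2f83c8c0323101961ace0188c2025803384d464bf7a0198d0,
  nat_lit 0x48c02788a0678222013bd2833c02305b80277819953ac601387a0ff002d9052030058e882f90ff002b188f2c0058311ccf00046100001ad00011c801b00a9fe82320153d603384db00aca389b6015070136c0290f4ea60050320d4300a83c3fa201494f34fc028188fc08050320c67009c62014401442ba31c46d00a43f58ba237805053ddc1009ddbf89c048804f1c68c9544c0295191ab00510e444e8fbc02a88c62746b0017425833e12c00b464394c016872,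
  nat_lit 0x4c6c01f891d99485e00fbd6633d768007c4c064400bc7dc00f3c48caa4260081d320e2f6a804a4e708803d002e862c67094001714b109002d2c8251805831042500b4420800ef78058ef5b6000ac69800ae3901dc015c77031d54000b144c706015c3e6cca41c00ae25c6650ab80561ea35a00b8a781aa016c6b0cca41b00bdf8619efc3005c3200ee00be3d868601707805ac02d8e2086805858017600aca7821801547acc920bb00a465823e0140c5009c10b009c009b56052004eedc8cf,
  nat_lit 0x1576005638813800ac512cd800073a0016b641e1002c1b2b345e500152fd272bf6600a0d00ed40150f219a046a00aba1c339dee005802eb4512e802c06a1627b240161a001b802c53de3a0059d44b4521e002cea507127940160bf0d0802ca5b88812e80192c025e80303304b9005c640da200bbc101dc0161b3c0168e406a802f1e7c4e8e74018882d99486c00c44e8cca372006868081a00d069ccc00c90065f9f19f1fb003e53c135007a3f466400f8040e7c8c900a401f18800d003eeec332,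
  nat_lit 0x37c01e565c64ac1a00fa89045c01e51b2c982a200eac15139d05007868009600f14f754001f1a0078803ee96b2f0e4c01f8f6026803c1bc07400743c3a3200e0cb3f4c01c28c07800361c931900686825fc00ca504c600182c113a002e98c32f03b00160f5107002a32c3e6005e3d81cc00b09d74000e300543c3ab000a0c50300014758030299a00a85f86d401486c4398026a6500271c853f00584559caf0f002a1e9c1b005a3e519c071002d11087b,
  nat_lit 0x1de2005c2f87f400bc8200a8016008c3d82ce00b0040cd9378006241d19316100300c615f8a5001821cd9081f800c2c7b54c10a005d63b66315d002c04c888521401704f8afac6400ba89040801658bea9820800aac4ace162a00500bc5f722b802eea20c92b100202ca561003e52cac500783c958600e964456801c0df0660036341520006a38c51a00cc404184eb30071dcb65ec5d803c083d98617001d009d99003ca3d803d1c9d9c007c3d386e010480b200172008159aaa6c36803eacd338,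
  nat_lit 0x1e80240be0d800463322e20089db019c52f804451817d00843791280100d08ad401f7e164045e400fc958bee2ef007c682c7200f14f022801e190c02003d2080fe007404963c07c003809687b020c01b0be0ac8034331669006d44acce00d02385296680066407110b2180321be2e20060a7ac8400c01a964c0d4005c2f814c00b0c804cc000756863801600abfd2b5801c0e0a9e00365822a7006a21e5f22b1003451c51e0064380a3c00c146,
  nat_lit 0x22e1006625c0e222780351ee2e20065db265e1f380351edf450065d639009db803322d44e58c001b10c0a494f000f07929e401d2c91698038fd0c80932401c0be0340041209eb9007c2fc5dc00f00d2324efd00782fa72400e820ebe414700822f6ab209e003e1bc13000783c491000e87a634001d8bc6b0484800e05f900001e0f4065003a321b34007dd7919252e00445922c800862410e221a004d20a2c90095d9965e1e6004b209f2a0091d4a9000e600492208c7,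
  nat_lit 0x7db00077611990414003c8f631e2cc001dda766e54c001051a2fb001dfc36640c3000eed48c711b000b8f620280191edf63002dd7d6649e9801723a0c98b0c00b7678b095220069648bc800c7ef19936be0083b45138a8b00443c951000816489b400f0de230002120a2f1003ddc11921fc0021209f56003dd7289ce94001f2348ce8ad800f7645961172008c7b2a180100e1172001efd844e11900128f608d002617e30a004d44c61000b289739001976486714ea00d070,
  nat_lit 0xb6b00103916ca00187807340024a0065000233022000003680000063fd863800b2d9c00bb1a00516ca0054728ba400a0f4bc48014c144e539e40090e491e80111c5a54001c2fa4840030cc922c005921c399ff60020c8000da4f000e3945be001c5b61ce1810014212a08b48000ab2e550921800469304445b6002bb6c000579598000776d999082e00447b082c00824fe4027e8003c904d80458001e4145a80033b5e584a9c001c3cbf920030d08c9800676bc67081c004482,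
  nat_lit 0x90800a86e030c36c0048cb003400a0016d143660048c80020009002291002e003165005c0050f200c00081c8018000c68003000147100600010f400c00010d65b500000027fb0d4800200280036361a7000062000105183ee00a5b435e400e000e1a5b6725300103122fc00246243420090c8004401200463941f000987205200121a0c1e002217c11e00406624c800a0cc927801392717c8024cd580251ca2f300522f15f25b5000e594b6b00183c96d6002964,
  nat_lit 0x8e2003c3c10220074717e5c00d0da6d9002a50cdab0050a345360098d0283c012238aaf901c008960189401128e31280201c1eb6003c680c4c00716006d000e87397c9b4e00714b368000d2c800b80181e0a06002c8d7b2640100144e8e9000242fc51e00406d2e3800718430b8010594614001c3c8c300032507aa80050da5c0800a6ca4831e78004185aa783ec002437ccb0b880014d90a0000500081bc79b000c611aa905900050142f9,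
  nat_lit 0x4126199cb7eff88006efedbe7fbc0007fbc70bfde0003fde3840000004000b7a247800024982484f449000044901c86dc80006dc8e236d800136d80245260004526dc2093000a0936d02f500002f48097d55f567d5df58027c1be030411e07681e003240c6031c0c909200f46b4c20e6db1c1c6db255b8020a3f000ca3f802255b615022708b963a000563a08b81d84af81610589eb07ac6de14780011478628db828f000128f2db83620000362394a3b8012556650e4bc92d9929070d92992da4bc8ae155d000155d8ae19437eb08d17dedf7a2361f7a7dec8d124580012459fac6ec9c1a6ed5bb1745194408319447451bb16ed5bb2083e556955df7621200042121f76955e00428eedd908800190896dc84400088441e808480020848d8192064b0004645b7432380003238041929ecd6671c5c7391bc26ef19a5092d9a56ef1bc2739199c083994009b002a00b002d00b002a09b021b0728007072821b65024b7669e1f543bc21043be1f5669e2204a680014a6a22092ddecd0395e81046c132046de81039464ab7210a800c10a904f6e02160014216b6e0c780080c78e518e818d000adb11d60051467e6c0091a040b80109401c300346211c4008164,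
  nat_lit 0x21d9000468447c00043b21c623e000122c062a1d7b9652400005245b7801400080146c015a000015a980d2e0000d2e00915f000715f0e18af40008af486457a000457a430001001013a34bee545760004576384d2b0000d2bb7a00183f40019b8372400207e8a429106940002c64487000018f0464c1822727201ca07149ce05fb7f205c0504077b70213e3828e4ab828a3528f8df8044adf828f8a3536bcce6448a95f804c95fc48a137c557156455b157455e000c1c5071c1c9072c1cd720d1b0000d1d012041bff40005c78ab00007fe8e8000024d9a77719e0b0001ff9756ffc8000f04dc51268dc20006e20000004000170c0001260d8db84f020000ffb41f7fd8000780ae089326e0000312c10937280008ae002892e6e05c0,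
  nat_lit 0x1c00c001db8000000380037561fe000a257ba90fe800112b5d304bc12b000854025c0958002f0c12d04ac0007840030258095dd2001527f654ee8c3ee00244a174225100022516e0004000000424b77261f400021f41b000000020005bd49e80000494126b9800017cc00180003cc1230484be8000ae7824000082416f4be70000be71b05f3221ea444ba9132c4c80cd001912600170f4800312400010f6824208e97cb73a1eb00043c43d00008d0891400087a038c48a001247e00043cd7361e400022456cc91e0003122800b73224300022431c31218003121a4903d40024918000000879c48400044843622424908004890879c3b8000878,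
  nat_lit 0x220800022082db10400011040f7882000088207bc41000044103de20800062082db104c410000c411104c4140014414684000881e20888240018826208881ccf440d103c4108008001104440f10319d88200008820d0026800082696f400104c8fff552000000c0000e404c8ffd00065a4369116800175d12a000514d78489b800113e1f34aa400089ed128bac00100060015bd449800244992b5b70899a262000a2663cd12f0001132451eeb443e00e443e36257700065771c32bb80012bb8e503a001803a01981ba00001ba0cc0dd00000ddb7b1a300011a30e18d180008d1870820a000020a0117390005739b872b280012b2b70,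
  nat_lit 0xeec0000eec6d000280020028a989200008920d044900024490386244000220e3c310700011220a789100003b9a504338000c48907c000002000005912180010ccdc10008e394406ee000271ca200f9800038e90ffbb671c21fc0015da37e8dfc0006ecc47a00043276f8edd0004ee088f49ec3220004322dc0ede0008ede3b72e4c474898800311d5d887f400087f4d0447a000c47adc223b000223b1b089c003689c0e288f801a88f870c41b1060001106441b10700031071a1882e20c8834005000220d883220b33b10680011069a0883400088346c441a000441a36220d000220d1b1106800f1069a0,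
  nat_lit 0x119000011906407847dc00047dc07847dc00047dd7963ee00023ee340bb68008bb6dc396540039654d000010fea31b7900000014f7570e003000408229c07cb5e3041d88a03b0001bc400002031628520405bf74b962bd000ef0800478343e05000013c1a1ef75600000040000e13c161ed0002f025de00045707b65df8adc0018add2fbb7097600007b51ee9730f690004f694be07ac3d000043d0dc0f710004f713dc2e49cd20001cd2980f5b000cf5bb6f1288001128b70893d13c000224fbbc7a780047a78f4877c001877db81ebe0001ebe36085b2160001216c7990b200010b3775f930001f931b042900004290e2,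
  nat_lit 0x878c0008a2e104516024c3c379e2510002287bcd142800112785c444c0384466283bad0f980010f99a087cc00087cc6c43e600043e63621f300021f31b10f9800f0f99a087b800087b8b6c3dc00043dc3de1ee00021ee1ef0f700010f70f787b800187b8b6c3df0f700030f743df0f800050f81a100021ed87ba1ef00061ef87ba1ed33d0f643db0f71d1800043dd0f6c3d86761ee008a1ee3410f880010f88e187c400087c4f3bb710f880010f88d887c4f3600021f1bb10f880010f88e187c400087c4f33b710f880010f88d887c4f2e00021f1bb10f880230f88e18b500008b51b845a400045a4dc000a003800a1c407c800807c8d8,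
  nat_lit 0x2fc24d8c5e2b38ab42644c112f800112fc4c113080031309a1897a25f89800050002260897e25e33b13000011301a08980000898070c4c000044c038626000022601c3130000d1301a0896c000896cb6c4b600044b643225b000225b21912d800112d90c896c000896cb6800112dc4b912e800312ec4b912d99e896a25b8970003000225c896e25a33b12e000112e1a08970000897070c4b800244b868225900022592db12c800112c90c89640008964b6800112cc4b512d80bd12dc4b512c99e89622598968fd0017625a896625833a8c51e7202b3d0012c00b000115c51e00044b229e259000228f3c200080940035e88a34000895cfd9e5e000451ad5228d00021e5962024809e000dd5,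
  nat_lit 0x201400023211a676081f0000c5800082c48b56fb000275f800b7d6010000231d50a76100030080d387b000008114a81ec0001d837d239400060ea9191ca00010745f303d800037faf9002600700057c4001161c0128a87038000079df07bc00008e6239782000012422c3c2b24780dd381e46c1ae06e438ce980010314000bab154800718541f8aa00018c2610018c8a48004001b4300080040322f78002002018f7b800000140c62a8001818a05fded39941780002f6000675016237ac00239a4b104380009bd8587c9e0000dea2c3af5435e73580011805e9,
  nat_lit 0x1f4100024409221560002fa0e0016dc023056affbe80011441c69207a000202e915016000103d3a6049000b23c6ff03ee000818d7c81f700022ee50b178c4ee0009997f5c0040002fe83e8feb00005a00027f51fd3000efe1fb600580057ec708000470a81c0030000e500003f600011a91348002fe7a92899c0007f354680007759fbd7e81a63ff80017f2e22800000100017740023f4e26abf2fe4000313129200000830002e191bc00002237e2065000a0173a00008106000dc300008d60002fbc02a000c0c32300122cb40018ae497000100a403,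
  nat_lit 0x218400086643040008c5070c00260aaacb3c200083eb0064be00003d4cd2000497f25f60700066a508bf0319d6159000517da9800059d9be0674cc100006050000ce80a0d5799dc0004bbd7cc00160ad215c0800004a4f3e4ad00025da976e39b3a600083af2580002a1000033800004120dfdf9973800090be46485a0004b9d00e5ce000242b91521480012e73a6000581b06e701b384000338b6fe652994e6549956656000c1f607d41de07743140dd41da7449d1455fdc970ecd58476ad5840eac16805a816b05a81680ead58371de33348b434e48b63330d225c797225c9972a5cbc04ce58004cf6009000434d29f9c0800019f05c460c25b6720001036ad9cca20004ca243000017040002da0ed8466000601,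
  nat_lit 0x7be4e0076c000c100f700040f72eeee224de07681ec0005d883d600003d600d84d000184dbef342000334238ae6426820002682218000805f2feb3e972a68000026801c20168002016b8da3d59f000019f00092fd00052fd0d848b00050e491c80083400030418003a4491980101e1231001cb005b600306d67ac00b03f60024900050728ddc0091a000401f6004522001d3a3001e39306a0052896798009094e7284a6004072094c0071a0129800d1c42530014b0499000205f99b4003094c6784a60010cb,
  nat_lit 0x4f1c00229e100800609fc0105440020de10380040a140105080010f127c800119db3293de4f60030141c2334e801727a5248e0e69b00251d8000000cdc480000100ec005c200000078749a1500041ef92c000807600060f2af400000e307026e000cc2b834264000004670330a4c2a00f026cb84a7e007801d0ce01dcc2800e60c0004017014b05800000b80a782a60f00021afbe6000007d306a8a07dc1f50028000b9e0fa80100fa80467f400067f47c0003303060f3030003303060f30360967ec00067eedecc0a0004c0a384aae0000aae06722f800122fb70,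
  nat_lit 0x670028d52b30016801201554f691000968f28000aa00405a8180074001c05529402a800c033d980154005019eaf4c8400200aac966c3000c05719ed1c8006138400351c002019ab14d84000c3aecca6c000000545f2001800931b00430eae1b924c062000a3af47cd18800205461a9aee6bc000283c7580014a200294d7b35e6198eac001001e6303a204f000010d462086e48a00263a78ea30c004400c000185c025008da1f0005a1b43c000345985a63101803fa0ffc002c2b35a80c41d815be000e14941c049017c000c273134c4a0002bb9218000988f09353a00a845575e39c00083c02a000186f,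
  nat_lit 0x998c02094fd97b598010143697401f2c8035803c34006c007409ab6ad59803a52da7f0070b22c2800d850e185dbd00683e2193341803413bc5b6c2801910a681363a00cb62120e688006038c0ea1da002f38d94a0f4801709d4b184ea00b359d688036005462b13800aa8c0a8c01401de2d00780098075588071004862b490009049300005c004403d0c002e002001eaf89b4800f87b438b12a007a8968e800f09319100ea0072509b2400d9296404d8e006494a1c401a003002563c00b801600faf8,
  nat_lit 0x115802e8671b03b42016cea1871b4000bca3b682017079029402d2c0593005b1ec06700b12800ca0158c5632002c51205e8058a263ac00ae13a65e96b805414007102f402a8e2159005217d42200a027f2931c0804e32c17c00980ba5f2021804c4e804000943d3186013289017802519001c004c940b1d009a410144012c7101080240f4c5d8048a26667008e543192022004617e6eb008a4c36653978045349b32999802295098f0098010c71,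
  nat_lit 0x1cc03d198040007c1c80dc010465c978020403c5842c6010a4108fc02085912002c90105463e2a020055a5242b701004310ee15b807e1ea6bc00fa59a19d3d0007c15331e75f803d0a74a488cc01e0c86e7803c286da48076519ba100ea38872801c86d6d6c039518da18070178afb6e78037110191cea601b86f0fb4036692867c2de01a8cb75800340f1ed8b70001a1476d580330e135d8064dd108874c40319aecb0b60001886f10000301a13a8805f3a3871,
  nat_lit 0x1bdd00e82fc8aa01c8cb6ebc0398f6bb0807635ab21116c03a0d16d107ec01d06f2cac0390f05378070940b3d00dcb015f001b07a77540360b759b4f4601a85bb20278500d06290a601e143203403b28c96380750ba0c90ae803a904b3700732d50c9108403b4bf038c6da01e28903e803b4a008000745803da00e50fc90007a007033003703f0037a44c7e0080a30b5201064101040200d06eb8040296db0807e591b5900f92831e401f28c,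
  nat_lit 0x31600a46286100148c521fc02c29641b805659110400a8129aa71ca80530ce8cf0b4c02a9052080054a243ce00a41390f8a430058168b2f096803881618f362201c9476b780380f216780731ec46a00e439082a01c067258846900dc3d08d201b07153fc46200d464326001b28c0a080350a4d99058c01ac7b7f800357eb8b1b61801d9656b8003a0f21888074a3021400ecc560c01a480742053369ebc03b11bd9b4ed401d074ecbc40100e46437ae01da89,
  nat_lit 0x216402428c0af804d2083cb009617290081d804b20814f00909d47360118cb1bdc0238f61b0004f208360009839048c01296004dc026512c47004a37707b0ebc0240dac91804ca326c700965a219d406004ca2430c00a641093201406f31f40274a063d804c4ea4f200962340c214100481b61cf00903c090a012482122802419036e80531ec48600a0378dba0138d0938002681083a04840130788c3c02588d24032ac01528c,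
  nat_lit 0x3ee00406432a200928c06600152960cc8028590190004c39032600907832980112c128e8021131af91c280108f728a801f03b9618d2c00f18a45c802259486700403cc26200786f860c00e84be4002e800928905b40112c10c100201eed021c28018904c9f0034a266e000665bb192186803d208c950076388df801248205d40233252b5ca0801140cc1d0184008c172aa6454005052c858009cb2147401304dcc7a1c20094681146012943,
  nat_lit 0x11650008658002208000348800045640008e52a0ca84000081b8940002b24031c0d0fcc3f400388163563dd10284090240005c480ea00020ede23000645f062311485200048bea4c003063ca6c8da00102f4535e21000429e060f10229a00039487c4001916e45ac3e53102ea00061e0728a61002e4e9f3c0001f3b874304000a410e38001c820c28004905296800713b8711c680048f729480070459490c3800e905295001b1390711c5c00e905292001b043149232401128e43a80201c08c80048b290e4008879,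
  nat_lit 0x11440002394abb2ae00020126119218000956a921f8a00084018a638b8e2800057600080880ece0f00080b146bd1aec50000815801060d00000ac0111f9890ef0c48fa001c71789c8230000823b7a1f280001f2b7000297d4000400abb07e28016000001389a55400025546e12a900032a92fa572655000025501c2150c7027de0002ec654e000254e21814f800014faf885ba37f000237f1ee7de80067de803953000295307bc8dc00387891b0006196002a62c002c728ff00080de20a000e34001000192822ba00296010480040bf2a200068ae871,
  nat_lit 0x700009020308034000c80cc7a40400002f80232be800120148078bc000003405199a001800d1ffa9400080038ff93f800210c47fa6ec00008563fc405251000d20fe2e8fe40009285d3042600084c78b63f7000249fbe724f80011fa9dd001c04300122b000c020800700c008000a49c2d11d100020f75248e78001001a4163fe82bc73800062c3f680023f5e054ad8000800c00400095a0257c56002804b2b64ad73a4fd3001c006000f1305732b38003206c81d8a8fd2005c0150000a94814001078901c0041a0014000653e561000a4062920008426000d22,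
  nat_lit 0x430018a79a90004878911c00a0e52990013223861401800a0ca641b268004806818002b0021280654003c792cbe3930020680642003a503d4800627400e0014189ce534ac0090e4189001121e1620c480078e2693800c0115620c44005196116000a184ce512540040de1840006340308000a389a4000096000480008be2274966001222400082380830abe376019d14f86098ca80ca02c0c70284004c633c3020742b8142001e3092bc0270009dc00021770002360000608c0001ef2070000330023000240c2c32548001205074,
  nat_lit 0x13df000e4170e721f800e320300001a43d18f276800e03a504001c00890497c83fc004c7b025c00828604b800e51a2760018661688002c86f40a4e4001c2fcb7000349c81c448600186405fa002c810c7404d003c37a1d600700eb54c0440034b0006000605f01ac00b93717d80e000508ff6c645700383781380072890cd800d28e19b00181c10d1002c68067a00513a913000a29e03f0016a250900028b2a01c004870472000800e4300068003c71,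
  nat_lit 0x41c801228e82680221e65df004241066c039801e01db38977800e903c3a00e60068cc01b000c18a12c001a9000714f0800c19600480d200589a0ca4547003643063a9f6801b228b2f018800751215e800c51c2bd00143823420020d04eec0030af2c9857800121735524fa00064500c2031000002fb2300000057fa9db000a91863392ec0040db25c80063168ce000e421659224000722236093a0003465999a75a001496d4124ff000e41c0e800180092208c993d000493964000f000186d,
  nat_lit 0x48980220e404d804202f32f0e3c02097f57d817800f86d033c01f512847003c59506c007438014a00e06f97ec01b90b03a010e00d0c895d401c92b438814600ec974c757b3007644f5f2a09003b23736003c802151288a8040595116007c3c8a2a00f09ca529110007638cadc00e09741dd616006d1130e20690036a251040068a3a1a200c87043440180de868802e9425e3005a41419e037802ca302840054b2850200a07094340139194308164009a89,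
  nat_lit 0x10e00c94609d401896513a80300f21ae005e1bc11100b810bc66274005a1e805a00b00f95f208f8058a2514b00acb2a282015079050c02917dc37024c014023b58810a00b544a25c01616541ec02b0f207b0054147d5f983002990f46781300162890ab402b28e15500541e407300a407eb4403f0050039d9301f802701ceaf4a6601323aa1cc090009648c2c206c8050a25097009cb2a0e40130700d540250f002e804aa3005d0090b280ba011879,
  nat_lit 0x3180372ca063006c1e409f00d409e0f7261006833010600f14605a601d9650b4403a0e09fb0072082162958003894a83a011601c28c022c0372ca045806c1e408b00d43c2b441e18068045d5e98c40330bf318806433010700dd44a18601b14742840350f2069006807394a039c033034ecc49c600006d00600337fa0270067277af9a4b803392119600e4019c94313814c00d94628f001a94795740340e028c80661be5ba00c85950e81728063271d02,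
  nat_lit 0x19101245ca5f20b70092a250f50120b2a1ac0238700ea804605c43d82c6022a500b1404851809d008e51c13a0118380276022872acda5d50110a782da02228945c004328e8b880841c016c010416e66c8b880804e80bf00fc36818202106f91200418d906487a80209650f500400f3196807e1ea336053c03f5121e5807c51c3cb00f4380a6801e079652811400f14485be01d9650b8003a0e008900725ba33194d803802ef0e018c01c28c,
  nat_lit 0x2541014838027202886f05a00512ca0b400a01e4bb3013c3e62c405100a32a107360e4051935d7c8786028c9e431c1c70155448bc802a14717900530e0b1280a4a6b87705d805251219c00a251c34201403c866e027a5585892c1013928254002682e558a52d01302fa594025ac3822252e01286402be027289440004d28e86f00981e40ac013544815802614702b004b0e028d009ca2418e0134b2831c026079190c04b0e432200940c8324,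
  nat_lit 0x117017439022e02e0d0046805b29f2c900b5294949045405918a02c022a02c522015c115015e391c7602d16539000590f208100b01e0e40015e388b6a02b0cc0b8005a5180da00b251c1b401603802b802b87252980568ac4b082aa02b2890c9c05528e19400a81e4195015e3d885e02b16510bc0550f220b80a81bc430014e3889fe0290860cc841a0148b2883402887918440500de0cb809e1b41d401514625a8029947,
  nat_lit 0x19bc0635180fa80c45941f501843c839a030078193405f0db49e80bc0e961c0cbc0622ca1f880c21e419b01803c4c6802fcba618428601782846640f980c4a31daf0184b2bb5e030079072c05f0f14c080bc0f8480a5fc05da3946783de02e0cb073805b0734b09a3602f147346c05d0e00f780b814907b0a6c05b179a82084402e878297005c4a02ca80b64ea387016a2e519221480ba1be72401726c389c17380bea2417d0178b282fa02e879,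
  nat_lit 0x12b019a55819213380d2a303e701a0b287d60338700bb80660b9c372a1403293a54f00640f530980c63203a20198b2874a0328794c440640e52c800c61d115f0ca80645120e880c651c1d101883803a8030a5007d40625122fd00c251c5fa0180382cf802f85f08bc06a512c4780d259589001a03c8c7003387807dc06629ec4100ca117b32624c064a3b1b003f20322897ec406328f0ac00c41e69cd01861415f10aa80c0fd645b,
  nat_lit 0x809c05128efec80a01c2027013e0360c301c009d4f5b2443100500f06f9809e121d4b0a3c04f512eb9009c51dd720134380522026051d52c632012c3685480250510c8c46701345f8b445558098940262012c62c658b9280982ee07b094404b0c3adacaf802886f0cd405d51211c80b851c239016c3804ec02d13a09d805919876a00c2594e9801803cce2c02fc8c033833e01a54603be034147077c0670e022680cc1ca67a019a5aa0e830800cd29fb1d,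
  nat_lit 0x20130174a3c33a02e079803405b0f10cc80b4330248016944c00002c965a9140580e0ffd00af11806e800c0560f411680b6a25fc80168a3bf9002c8707f280584a0fe400ae4e9fc20158a7845002a8c50e0c05828e22300ae1c0442015837853c02a84d916c2c40155463a8402a16574300530e14cb00a54889497d4005651813f80aa59427f01503cd31002986f09d4053518efe80a451ddcd014438043e02928c,
  nat_lit 0xb8404f0e01ab809c1ca9c901343d06b60260cba72004b19079280a651cee6014838547e02b4c041cd8f7015a5972c2aab00ad2d70ce0af4059518eb500b0595d31015c38067c02b0724c1005c2ca98280b61e43f801689d4bb602c85f0fec0581982b680caa242d00190a385a00318701be40628e237c80c25806fa01803d052602f8c8096005f518edc00bc595dba01743c8ca002e07813b405b1360a4850c02f28c,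
  nat_lit 0x2a4a0184a78540030a8981d806028f03b00be1c2084017837c0f602e960a92005c29f03d00b61e82a3016862853e02d94f949805a91046705da02ea8c772805c2caea400b61c02e90168a7d3b002cd2a65242e20169463b8e02c96575080580f205680ae1be9d1015a94c0e816f00aa3145c601545a519e33280aca242b50154a3856a02a0700ae80530f150900a550706119700520f0b9800a232c35801454605c2028147,
  nat_lit 0x67000e94485b401c9470b680380e03560087323b1d9c50043977038cd6c021cbe3200286015d463a1c02b16573280550f229600a8340542014c52d19f4e700a54a50ce0a0805a51902980b2596a9e016038451002b8720b38062518ed180c251dd6a01803c859802f87a0c70062518ed180c251dd6d01803c867c02f8720e3c05e0baecc05d802e860b53c319017062853a03328c824806528f04980c81e6095018c37c37203113a,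
  nat_lit 0x64700a43814ce0140720a40028518e98804e51dced00983853e6012d2de32465d00c54486340181650c6802f0f21bf805d1c6a6100b4640632016a89771c02c2caec700561c03c900a868065e014c710c580281906a5807051cd4800dc384ab801b48ee3242e500e944bb7a01c94776000380f2174806e1c835900da3885be01d28c77f403928eefc80701c068500dc65958401c16529480370f320d806d1bc0ce,
  nat_lit 0x14280019a4d8e8586000cc501cc20900066902c20778003312861576c0019a35965582000cc441ce6f5000668a0e33a8800330f87465dc0019a1d7c83bc000cc381cc727000668463a0ed000330caf965cc0029a04b084c20014c2cc76625000865d56e0064cfa1cc1d500326122c20a00019311b2f0a38012518ea00022595cfc00403c9acc00e965358c01c0f2574804e51ca770098380c6c01296018d80240f431b0046315963009a66f2c20e5004d30232c0350026985d978c8e015147,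
  nat_lit 0x99e000099867fabee000ccf0cca67c0004624e30000ccee33e67b00066795f2086800333b3320b7800099d83982d4000001e524003000264719c13c80013238c912b4002991c63800600116000840010da13a8001322c4e0adc1a6501001fc6816a82c000f1339ab800029f36d80013560739b6c0009aa97ccdb60004d50c766db00026a65f21ac800135207303bc0019a883a4c6e00094fab380019a7d964cc6000cc681ce701000669c0e93310003318af9578c0019a6439ccc2000cc5cc7420d00066965f33300003315af9,
  nat_lit 0x680008346b2621300021a36331f500001975648002052b2f97300001961ac000433b8682051e3b000407200060cd50153f80005a249235340519c780d404a8189008e7f40564157a9f71d2c5c086023957e82520c400453fa63908b022b51140210a631c00400f0004100801f078001f41800f03c000f43904080000f1373800133fb329b9400099fd9902a40004cff13a717000267f90138a800133fc809c4c00099fc3d80100004cfe338000000667f193340000e32052a001a67e18e00302fc003637001417e00171b00080bf00098d531e000cb0045400107a998c0010da110800133c5b1,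
  nat_lit 0x2a7917ae74601e64ba009c09b9ec27afc7955481621d9804caf80040740004c6c00183a0001e3516880024a014700024ea4fd0000644f2a00402decd800b001c64038e0038720a1c0060f000202d8002bff983800418b3cc80101b416c00243951200040d00e9000705a2cc06d80030dfd8cc11a001a3886fa00286d93b4004190392000c582a91001472466406580081b6a8e000e88819203a000c6db2f81a080050f41bd80081b43da00100bf66c05f800632c34600103902080018d0,
  nat_lit 0x41a5000639009800106f9cd80019cce404e660000cc9cce7329cc419f9d9676406a96549ddd9fb9f5276f9da67689d9c2c407e941713cc2c414782c49b9000500845b200840059b901fe0a3165b058854d058965b08ec2d89d902dd0676731c92032800494033e000436cdb00000c59ecc0019b801fa0a216579dcc16a0cf3244ec200d8000b8000b000a7b26a4000803e01c3a800003c802bf23818b06a018b3d7cf5c054d576016d6041a683c536d801191a6d9001c4e7504f22800d36c09cea06e440a000040a0111cdac0014dac6e02810000281786c2489d73e1032b36a8004143378c0fd045813b035b3b402122fc016a07e800b90d40d13842856f141f908ac27506b276704205f702d00fc00127c106526d40007212c9237f04e80d5cecc0838bec05981f6001cf800c9cda60000508de203f01156410a0dbc307dc22909cc1aa9d9410604120fd1e805f502c80fa000a7bf064a6d2c8013e0002273b08b4a000009ec4e24ff6940bbe0010be605781ef8fc001021c001c7c2f754fc00063d9ec80030e404180041e00f10005284f6000014f,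
  nat_lit 0x9d940000a5ad885280004ec6cb278b000276163d3c480013af9499e1c00a9d74a4ceb60048c5003021800331b801610c00178d800a086000ac6a0df80121bc2b700203c0584003c710ae400627537d800a17c20100103685b2001cea2c8c002141c002a44000a854000c72000801d000b1b4e98000841e1d029c0000664e92000053657c24900027470c017280013a29499dc00019d0c38ce8000187a0b9c0029d017c834800307203d80050f00d2000939e077069400318a001034a001522,
  nat_lit 0x1c0010db3b080013afaf99d8400000167f83240004ec32001a1000276190140980033b0c809e2000218815000053b00ce9d5c0020db3c300053c22f90a6c0029d78648314001014920040200067800e619080033ae0c7065c0019df43a052c000ceb713a808000677a0e814b0000003b609e840009ddc3a05440014eea1ce773000462800e0010cb001c0019dc591cede0000c49db800414fc0046e33a9000032e76f00027529013b680013a93609dac0029d4a2700d800106d0a600011913b380013a844f,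
  nat_lit 0x40f400072c800007a00019600039f1c01400756e606cc1c3ae941d51d5c1e11e9b2b9f2400181e4001656000420c00072a800000780acd4833b011c04362a8043581c03e9f1000299a72a1f1d33400013341f1d33400013345e5000857900091fba4200084a4b458af0618000093c0009113df001202683c55b2831f58cc27758c833c04956c204c653144e7c09efe7be9ef40089e30056ca400580061b67740008640002007800348800014400008e53c380073db865612e0c42c5c84e6003e5100081fe0009d200020ff000270800007f8000392021d10f4440126b610014000cf69940001002419f06beb9006f021b53132780100cf035d41085613dacf693d9e4e001d6bf9ee42c6a22c28a0954256c9b3b4800cb4e814804ee38001419700172600080cb800992c003065c003c940012d66160b73000419610420b4ec40008c4,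
  nat_lit 0x8125000b3600000038c1400380000038c14003de500067ea0b94251163c2510b967ea000400618240079fa4001001860900180019fa67e801ec07c01ee7e8001e8c4a30c29253b45b353b4292a30c0029f345c59f34002a31023a002c44c07907ba079044c002c0a3179c0a308e8006cd75c4814c0035186000801341c082f5a202d40e325019aa7e700168c2000000802140689eef348000326851201900633f28009460e68001809e000c25eccf3f200041e580e39980100cb0001a2f91f4f6c02d800141c232000c444076e84e0b767e29f87328004117000478400108b80013f204c00013e12bb11001c7000c0abaceeb3c854ab3c029016b20541f508b73201b81a9ad6810fad8e0014a960858119584e6300bc001952b31003c00e80e2037cf4e034d6660d4830c22882e02610388000016c04e800f3d366104a874118800b502700069e9407001ba7a601a2b3206a0185114016f13041c3cc005a013400280da037cf493d280d159888540c202da0b702f20e10b48b7c837f97c00401ba7a401928a8a2a72f00061300007064002098000286600084c0000c3109da926000283cf3d3cfacaf3cf802741384a013d8004004001759601299764ee00003688eb599566604d82a5594801200349db970005001a7cc9f2e75ecb6002000b3e584233aee5a1c682191ea80038260010008001293,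
  nat_lit 0x2a400002a5404f0c0014f0ca440aa00040aa52a002000000227f029c000029f3c000a003000b9dc004001800440e001800c001a02028c002002ce980020034d4cbac00002d2b2e5840028330065d6b60a867600101c700132600060e3800792c002071c002c954800008000c38000048a00d323d6b95ae831ed45040c1ed38e23a380081910d0e056e75000c321a18c0769f373a046e11b0e8a001673000419c02a40aa9ce0000b0a0003700c7685f086ab9a07101d3002000500367c959ce7c9000f3951ee0000c8ae59a2910161f5aecc1b61858010002c003a3db38800417080059568f5000400968c00000160403bf9fc02f29fdc2a063b82611df461200340acae400c1085928520080060308002ce038e830e0004fdf3f84fed42d31da1e50ef81028018056571e060800a06000039be7ee9fbe7f5a1658ec0f2477b081000b02aeb8e1e1e10404a00c000100bf00033700060610330d3e03f01e60e7347866d,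
  nat_lit 0x8700040f01e600069403b900089d4b7800085f00140001960608180147064419000099fc08e0f1c00382c0a900000a9679000007100032a80dcdc780dc03b009207f02e40024b6c00051f217e82a19fa8f701b40755cb458c01240e403f4e4f03f4171000e5b5cfa00f00052da0422a97e31038816f00073e019005f0000efc3c1017001a88e1e000b200ce7b028c000028f3c8040008804195686b003e86b4bf307000930729506f400006f73c8376000037697c33d000033dcf543f000343f285094800009494690ea00010eaa948720010872cab3fa00053fa29402a800002a8d250bc00150bd9e402e000402e5260630000063199,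
  nat_lit 0x204e4002d0c0008272000e8500001390c75f9800218c00459ec000a47402188e0390000098979021800402164b800600080077e82c10024064a24f0f801001a0010a1c31e001e8250a0003000e280006000c00693c00200040025db000c000000df300101530010a7c0070a98007432029800c029b4500144030bc1c0800802a500812406400000641f4000819740100c3a1006200000621ca03000fd3e14f86b90ae501aa0ca61aa2e50b90ae3e3002e3e2f0ae4013a2e3e10f045c11f84803e103ee0d44465111835d119088c4360f841533266176823e092801600380fc030683a438284000400601f42d672844131f0619a1f0440f01374101e6230819a002aa7e1a2877a36a8da0aa3e8100127bf018880e0a0740019600101965580ca00000ca3760038508003e360018284001b1a87fc00286f,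
  nat_lit 0x1761000576188143800014381da05183530518e1028a1a9828a72484402708443ea42181344219f703b400003b4fd80d412800d5070069025409ad3000700262828680002868526ab6aade1635178103040a00000141c7055618107a21ebd26207681df5dd027809dd77a097010e05a0144051814405a2ed943350ce1b5019006581901b550ceab68c20ab68c56bb1e979950000190101840812e0588ab6aad74322ed404202595dd827209d577007701d749787aa1e78600e66087c2324594232087c1c60010004823e09c8d4a09c823e004cca63fccca60009aae022cca7a58338a4d032d0c002a81ea806ba0c40db0a7000400228b9099020ea1603dd5bf74a9aaa000800a001e940008008000b4980020040003a481060180000d2200183fc01280060014fa81a8d25e19a85ad499004803886f040006f003880e4cab862204c81342d7813404c86220600186060104acab067406000140a4807402b0010003d18414be905d88621556c605556e85d0da833419a43340daa85d5d8c24112ea83b02c683b12e81f807b6bba0716bba07b453f0905763556e7e5559807a001c29664f0296001c036559a7e5556f4780020fe00460008000080069f4968666009b13c33406661ec06662d506a415f0bf815f06a42d505a949800df41d0c6541d00de00d80e0caa817c004028e01c80a8003000b460052ba380f6a29c4fa016a8ba014c005992f46822b5d882440980348029000932568c000c29222d8830d1600102f200143300041790006188dbb5be8001a2805607d01f5000344d6f608000365a400404fd73a0a883240ef97310ef836f0dac2a25ce813fd100018272001e87,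
  nat_lit 0xd1b2000d001ee48018dfe8018003990002c34b6ff06c630c00537f20050b6002434700264400101a38010a7c0076fac007174003337a0033620015bde0014790008de9000863c0030d0c003432001030002fe9b00044390a6d0c000008b895a60e94e0a7ec2224b219909284cf07fc528af7e483920a481920247f91fa47d91f34d025c0003ba002c078a38012e49c005257c0051aa00240b700252f80100de80107380074adc007352003256400324400152ad0014d40008954000869c00306e40033980014e2c05461200040ad000472800081e00003e8147b040145b052c13229c28791db4c83380cd03387e5763001176387d43900074395e6,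
  nat_lit 0x75ea800712c0032f5400326900157aa0014928008bd5000846400300e80038380010772218b52000429e091b4c0000bd48196efe8aa19b179a00de8a517de8f8003c000b01420e0894272b120492a5d0019928b520a8e22d864147b801c90686e04e005b0035c65142bb006b20066a3016e97911a400bd4400532220056a1002435100260c80101a880110cc0076410007d4000331f200330200158ee00174f8008c6e8009a780030d340038620c3830200150700046ac0004708000c6b80004324980000a78692000492cef85e500024940e21c9800324931e923c0010e544a8001247874a24c379a57c00f923248dd3a00752ba23dd86010d69c,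
  nat_lit 0x1530c001758800898180083640034bf80035d200103e40011f9000800d000800d00080121d5017705d826c05d0012000b580017261801800880ea03780cc0b98023261eaf00000101d48178a4a8215b07c0fed5c007d25c181cd7403784d4134c985ab400ea4b430201cc04200dac65066f56001acd7001a6ac00c02b000c53800582ce005a2e00299ac0028d68012cd600129c800866b000835c003b3580039b00018166001a59000a1f14971988004059a4b7d5600180bd3576aa00064b4000e4b400064b4000e4b4c1200149660004966001496600049677964b2000291f0bd006500d0002001000200d0094571284356e57c10a7c256092ec18088ec18092c59d0a7d7c156e684357100d801942f466680a2666c7016668701666a91f00024b2d52031cd5402a4965258ea892c24b102f69b702f88a7009a4b20030756193c75600324b200cabe0192ebe000c8026b156c54062422f8d6c22f0626c54062e75741f6757062ec5505e821a05500af02f00af055021a05bc6c105bc17a02f80c4a6dc0bd92c64b0d4e007078a1c786d20ce80d408d8852cf58051a9800da2e03b4a2c80c1d4a0062f6233d801846000b5ec57b2002c8d0014bd600141fc0090130009d0e0040082004141,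
  nat_lit 0xa003400a250004801a004e77002000d002103800e006800e49c00600340065fc002801a002a05001000d001102000600680068080020034786402000801a108aeb00024dd08416149b810707774dc07fc200537607f033b64081ee0d004690fc114e0d011e60d059020db04b91c404b80db590364100a602fd81a33c581a02f80c54d902115198706096017b26e49b7ad64db040c12aa3780fd0bd82f79398000003406f4c8c06fd6800600d6087abc43248376af12bbe08700d7acc00b018800b35600500c400529c0024062002517001003100106b400701880074e400300c40031ae00140620014d8000803100092c80030166c03d5400100ae0c185100040610005b4000003080006c806106a6c7301124d000a81ff93375900f6036820c00561f0364101002400abd23ad8302069001114800704140075be00303ea0031e1,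
  nat_lit 0x1000f046c122a548268b1805a5169ac6309b0283b16828a0a0ec5d0932951048a8e5003800d02e01f35fb06cd5fb01f302cc00d00385640bf08d20bf0564003800f1cf000f00035f801ccff8814b120d5eb120814cff8234090833c2320d78232033c16304cf62f8b482d2d8c42d5850562c851214158b8297d2a0090d1c8006801805c0164006001c1ddb8f439d801daf800500347660d29d7a0d2aa52037c0e203fb5e801826d09bcebcbad9528838212701face96bc002dc88002c4e00141db80159dc0090edc00940e0043902004093001da80001d1d000ce3d800c45000571d80052200020766002202000c37811ad0080041b6822280000167c815b3fc000021946b2ea0d8c4f70a9e44a0a79b710a18289013a4ebd76002801f276043c23dd39020708214e5821c0d75922083836164900c6033538408c54861c9827808a4cbe0e58b980e5ccbf27649d6007033e05e8d2805e833e007001e00e001e0006ba003a4ea00085931bf8593000a4ea93ac21d012003c018c03c01203caa71c40d103e9ca04341acb24010606bec910188071a704117a90839204ec0cc93ae4ea0038012007001b003b5c801a00e001c0068000b9051a408381674696b8003000d01e811b0c269c611ed81a0ba0550d6e005803403c82342c86b6]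
theorem S0_c : blocks (facts 12 6 18 30 4095 262143 1073741823 14 16383 11 2047 A R 32) 32 JS0 2318 = true := by decide +kernel
theorem S0 : On (Step.{u} R0 LW par A) 2318 11790 :=
  steps_of_blocks hpar hR S0_c (by decide +kernel)
theorem D0_c : allB (defOK 12 18 30 4095 1073741823 2313 A K) 17 2 = true := by decide +kernel
theorem D0 : On (fun r => defOK par.W par.WL par.E par.mW par.mE 2313 A K r = true) 256 2432 :=
  On.of_allB D0_c
noncomputable def JW0 : List ℕ := [nat_lit 0x89ea1bdc37cc4c96c33127623586fb13a244c831889d9144843f08a946850ace15a6343b7198d131a2c2b585430adc15c01dd857226b9159a31d05750aef18f1bad463e8c8015e42bd46421eb2dd7232212ae8ad1234c2bf85819126db1e3a9c7130b0616122d68586919415ce3b2472c919c18dc31cc8916d9b1d3a387063bb3b116882cec8cc144b1bc237948880c5218ae44e37648d551a70316862e928adce5baeb73b2731158247285890b1722d5b90c77f8f02163426fc9fe0b2127f1b9d47888f15237c26c84db9156dbb63bac77709bb68725004a029409281a5044a0a,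
  nat_lit 0x91021884311c8956e1f1a8e34a86256e21252291c59cf6e8248822ad2f81039e05757bcaf715ed2bd6c09d07cf00a1483c0650f5f1230bd621f784cd099f0e55b37c33b85c21344269006c1eb561d07af0d501ec121a827b84f990c0da5e3a0c6fd09f7666027f46158c3828f236946f891a8140c282c8b16d7f1d5638a85078bec142828748b20a211da239548650b7e170642db69b8e8d1c082e185090b3214364200a028e6d1c1a43685930b2b218db60c73e8de8165c27e859a0a0318b82cf46d08ded221c36886d39136dca2354c69b0dab67464a3d2f2b39cdd00952455c,
  nat_lit 0x725c1e3c3c8b9266a4ce479c8b07930dfa1c2c1260ee7006a3a39c8648260cae1966407367a8d771b6c32d865c264f65803310a0326d9113a27306410c8712e9b14c48e88b819143231131226a19202cf93088824ec1035406ab760cd0c1d843b0a0d5aebd434a90b313b0ec3874e3b0c89f414f429fc4ce6c4b128a2380541160c2bbc2a203af0a9037b861e48290b7216ee408b6848d791b702ded95e82b44a201db8a3d2515113241285b10b672035b4646b88db016d455e056db2c40f14288937688a113f427484eb89a2d8b6252c47309da2db824fd8df077413d06f80c3a,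
  nat_lit 0x3cec07402379e6c3cc47960f27047104c011c823a4cf708ec245088c00ba017802f806000c20188031806400f9019a02d406580b3016c02e161f81ea0abab105621ac45588e157c7aa837d0ac80ddc0d90d665874017402f806100c60194033806900d6016c037ca1100e8015c038007267a80dd423fb3d667b0cf699ee048106f23d5c02a037608ee44499ef43f0090a121e1cb368186790b88244837a02403ccac3ad8721a903cd99c106030c0acdad9afb351668a181c2ad860a0c182b783070de4666cd0203ba8777680cd011a0134000ef34bc1809522810221ba490a33fe,
  nat_lit 0x8a14145c28cc4de6ccf12ca240051b09de0eaac6883aeb19c2ee05da482e091a123e40b36608d871b8c24883be1823656c1e204942299111a283049709331369b29c4ae88f8126c24e049307680ed82500bd2179d13f82d485ab89a4d8d625344740b5b289059bd8dd044615246f60c2067121b6436db37066c8cd599a506dd0c2a187c313834d0dd0359199e30760d7a1afd83a307260e0c1b836089355828bfcd800860f2374c1b1c7707c90f96e361a4bb8c271581f3449702baa78c20fc3e9091c126401040218045008e0124025804d009e00ec029ca0f007e015801c0036,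
  nat_lit 0x75d81d4c3aabaee685eebc1d7907570d5e3b883af0ee6a97e3ba1d75323c03e805298ef31806244c3100a406b90d62474c32492421d7886319f781f30d1ecfb59f5b3e967ce1a4418992df0d2c198d9f10eb067c8af641040368578aaec55ceab8106b80db41ac887506b408446962b84747a081c2f7ba336878e8a5cb905f1044a08a41165420042008a885b45020aaa155e26b3643895511e02ac8be80707635801f0b6117d42fb2415052f0a632049b3846bf8dbe14cc29a0c3601fc0e9c1171200889514442e685cf89cadace25cc48d0ba216dc550851d0ba814ac7004488,
  nat_lit 0x604a05a40a230276052c0ad81681460fe2c01181803d3584236b1817301002aa0505807300c6014c02009ed21c60054898416ac601b54c0197eb08191036bf297df2fb25f34207440f07f3198020404068da65f48d02c3ee87df681ad03da08b4130fc21ded7ccb41610580ba08d934145dec07f40cfaeba5cfcb9096fe01a10360069412d024ba3c20b306e5001d003e00840118025004e00a40158019005e00c65068034002c0051c8187170e32e415a44390772121c6c4fb071e06640c744820e947200e398381870571a0d27dc5d38a40e0e397c4f302550d76094872c0e54,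
  nat_lit 0x671407a4308b37366cecd659a68613a5a205e80b7839b0366358199f012202480498094012a025804b80980058023d289c03a8133026804d99e702190436cf219e033ba6750087400d022106fe088810b8d3a6758cfc00f7036667e4cfd19fb33f806dc0dcc03dd2ed015e05dc69f33fa87e61194233c3996d470cfe172846903ae05c410a0116b0e63c886a0301502ac050d80bb0196036c07409f80d16047489041f2c321b5cc07982885e50bcec14d82ab05760b217a413305ea0bd80b057f70db060b4bbd40fb02565d72b9f5720adfb04b000f00ca003215bf47806e82dd2,
  nat_lit 0x71da1d843b1b8d76930e305c5587650d8624ea9e407c7a79625084a238f10ffe2005c6db494718ae2bc401d3c411dc20280e4880c123c24b198001920338cbb196c32c4654806683c381970e2a0a643e98e3c6550b62015a82b75a94b4316672c900572074c15e82af05800a746630cd03cea0f3425d9e6b3cc2795cf2684bd04ca03381e8ccf6079c3a988743a3e0464152dd1a343b7454e5c42a6823c043e08faa10822f047441d808381090216043408781110226045408e0119942e045c05901000204af380f683655774ae995c92b6e06e021a411305639428056069b2b6c,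
  nat_lit 0x8a1c1484291c4e26d1f12da2450525066e08dac65028a0a5437fa243330403c8193597832dc6590cac0327865009622d8c13a0b601c6ccab160b86190c36b06560dac1d583e187413c2c27a2681dad6100d745844b15c1eb83d958b2b16d62eac5f07b6097c37086e50832b1846bb2c62661607ec0dcb2f765c6cb3d95d81b7095e064006c834c069c385995c2c290bea17dd615ac2d585eb0c42fc81bf5824b0d81562c331af0b0d17f206990d36bf997f42fea5fd81a76908afe3a26c0ff57f78d725fe0bfd40f0836a5feebfe57fdaffd029a1f044300855600021648b42ffe,
  nat_lit 0x5e2c07881922eda5d3cb98970e014e04680544194024804a6091012126a3051011ad34da6934d169a0c236828704f80230145cf6143580a3a28684b3096b1385b3bc4b5890612dc1cf0a7db19812e2c678df289089d1812086674e909d293a6274e0cd20ef41d282460baa0e6491f2744905a1304261c8156cc51b0237004c507280e5acae83c80730469a224450509c2138e26cb64b895b11ec272d8d415c413981d3039117a82f2a28484a909571375b2dc4b188fe12b453b011ab1a60e681e78bd01798036c06e80df01c2038c07280e701d2034806b00f1941803a807600ee,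
  nat_lit 0x3b8a09fc1409dbb3b62769cece828304f6054c142027502643ac8da22f1506180c3976cae9d5cc2b86c18803140631470018e030b06400c8908081f002e683dd076a0e341b205d40b500a602f338100bb0e9e3818af5810183635784aeb95cd2b7e06bd44401a9031b06aa23846972b7a4d400a54251a6984d209a2134004a5052c0d5809c83c99ec00a410d833cd041608359e3b3bf6772ce9c10781dc04274b8825c82161a70cea908101e702c283e107720e441b4058c0b3816402d938140ac815e3814cc1c10285a165e6cb7d965b2b30b474ae8575d2bd06b60e4071a32ae,
  nat_lit 0x5e440a901532ee65d54b9b971402a8067003568d902ab06780cf81a02fde0d461a957e92fc65f74be88353828d0059484815509051adcbeb1c7486eb0ddae34da4e38bd714e1bbc0d18250a79e092842c0e561ca4bf683d187a55f9cbf097db2f9e0f4e0e4c4555219a42c0c286c32fa871ec1eec3deb8e0691ee329c5a07bf10ba06103ae87c6a77c23f848038f20f661ed5c6e3493718ce2c03db87b803160ac0156827112442499d74872d0e5eeb9da163ae575c61cc41ce838904d20766a5f01ac03507c2c0ff86b53e0a7c40f7f9ef90d6e4b6c18b825c0d740e347571ef2,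
  nat_lit 0x126025404b80990136027404f80a1014a01e004880ae942602c00552fd90fee1fe57e6afc15f6abe743fd8239049f486c12488e01b20be99c7c87eb0fdae38da4638cd716e1fbc67707e5a7780f4a9df8e7271f8cbfc3c0878365d6cb5d961b2a30f0b4b084d6878a05360fb8723329e5e4a063c1312ee95d5ab9c57158198a36006981a3029a05380a78150330804000e1197a32e06598cad01c305a507154ae01aa038c1c28cad9783017e0300bb297472e525c1806080c401cd02fa0ba817482ee1b64e3e83cc879b71c8d22dc6738b80f3a04101a5d3ba0830241c74938fe,
  nat_lit 0x3da019ec33e9ece3d987b28f64067f03be07680e381d801d631d863c2b2807e40fd15792abc550ca9401fb018707f00fe81fe03ef1a1434517f087490e96bf557e4afbd5f621d3434f81c311f60bac4830d705f5cac6c0fc01ba55caaabd53caa43037807000e201b503900d3c2020d1e71d41c34387b8d46936e2f9c540711131426329e6876aa79439387282f2604d609b57752eae5ce4b8b01378343031809cc14c0270035c06a97ee87350e6ebf457e2afb95f421ce41490961a429485c19e8d845f54022003e007e0100022c0410084010c028803b008e942b284805600a8]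
theorem W0_c : blocks (rows 12 6 18 30 4095 262143 1073741823 15 32767 225 A 11790 120 cols 8) 8 JW0 0 = true := by decide +kernel
theorem W0 : On (Row.{u} R0 LW par A 11790 120 cols) 0 120 :=
  rows_of_blocks hpar (by decide) hcols W0_c (by decide +kernel)
theorem idx : Idx.{u} R0 [[0], [4], [6], [8], [10], [12], [14], [70], [72], [74], [78], [86], [90], [92], [80]] [[0], [4], [6], [8], [10], [12]] 120 :=
  idx_of_cert hpar hR (K := K) (by decide +kernel) (T := 2313) (T' := 2432) (by decide) D0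
    (subs := [1,2,3,4,5,7]) (by decide +kernel) (T1 := 2318) (by decide) (N := 11790) S0
    (by decide) (n' := 120) (by decide) W0 (by decide +kernel) (by decide +kernel)
end T2
theorem b0 : Bound.{u} R0 [[6], [8], [10], [12]] 1512 := .of_idx T0.idx (.nil _) (by decide)
theorem b1 : Bound.{u} R0 [[0], [4], [6], [8], [10], [12]] 774144 := .of_idx T1.idx b0 (by decide)
theorem b2 : Bound.{u} R0 [[0], [4], [6], [8], [10], [12], [14], [70], [72], [74], [78], [86], [90], [92], [80]] 92897280 := .of_idx T2.idx b1 (by decide)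
def t0 : Net := []
def t1 : Net := []
def t2 : Net := [(nat_lit 0x505401540005000000000000000155054005104151015415, nat_lit 1),
  (nat_lit 0x100023200010120000000101011131000001231131003230, nat_lit 2),
  (nat_lit 0x801050808000904000000020206090600000c01070802040c, nat_lit 4),
  (nat_lit 0x80000200ec00900000000000bd00660060000000be00010000, nat_lit 8),
  (nat_lit 0x800000006ef80000900000009902000006000000200000000120, nat_lit 16),
  (nat_lit 0xec90000000000000990200000000000020c30000, nat_lit 32),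
  (nat_lit 0x10008000000000000000000000000000000000000000, nat_lit 64),
  (nat_lit 0x1000000000000000000000000000, nat_lit 128),
  (nat_lit 0x10000000000000000000000000000000000000000000, nat_lit 64),
  (nat_lit 0x8000000000000000000000000000000000000000, nat_lit 32),
  (nat_lit 0x800000006c900000000000009902000000000000200000000000, nat_lit 16),
  (nat_lit 0x80000200ec0090000000000099000600000000002000010000, nat_lit 8),
  (nat_lit 0x800040808000900000000020206000600000c010200020000, nat_lit 4),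
  (nat_lit 0x100022200000100000000101011101000001220021001030, nat_lit 2),
  (nat_lit 0x401401540005000000000000000001000005104150015400, nat_lit 1)]
def t3 : Net := [(nat_lit 0x151455405004555004401451114541550405144551015001545154101001, nat_lit 1),
  (nat_lit 0x11222022023311233320300111112133313232123220300023120203320, nat_lit 2),
  (nat_lit 0x8000d00070e0d000e06000f0a0d010d0f0d0a09090c0b060f0c01090504, nat_lit 4),
  (nat_lit 0x990063004d00770080006200af00bb009b006e00510011005b001400b8, nat_lit 8),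
  (nat_lit 0x3bf80000d4b70000fbf7000048cc0000a9ed00000de900007780, nat_lit 16),
  (nat_lit 0x21690000000088bd976800000000ec93a8e500000000247f1200, nat_lit 32),
  (nat_lit 0x9ff8f669bfdd0000000000000000bffeefffa0601000, nat_lit 64),
  (nat_lit 0x18004d9fefdfe4ee000000000000, nat_lit 128),
  (nat_lit 0x18000d1cc7da0000000000000000e46a000000000000, nat_lit 64),
  (nat_lit 0xd6920000000040a18d9c000000002996d21600000000a8000000, nat_lit 32),
  (nat_lit 0x5d820000a30f0000e293000004d10000c4160000441a00001000, nat_lit 16),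
  (nat_lit 0xaa007d00600077008c005d009300ba00ba0011006e00ec000e00e40000, nat_lit 8),
  (nat_lit 0x5010c02090d0e030e08020e050f020c0f0d0f03050e06090a0203060300, nat_lit 4),
  (nat_lit 0x22101011013322133110300222221233323122213210300133130120300, nat_lit 2),
  (nat_lit 0x404100140550000551154004440014005050400004040554000040410000, nat_lit 1)]
def t4 : Net := [(nat_lit 0x551045541051001004515445445445044150155001501414010440414541, nat_lit 1),
  (nat_lit 0x33021132032330030330320021113202212322032123023113301011103, nat_lit 2),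
  (nat_lit 0x20305070c030f030c090a0400020a0008030506050302050c0305040a06, nat_lit 4),
  (nat_lit 0x5600c7006300d50081002500dd00bf0085004900e20029004e009400b4, nat_lit 8),
  (nat_lit 0xa77f000044f90000583900001a3200006e250000019a000005a2, nat_lit 16),
  (nat_lit 0xdf7b00000000fe5aafb00000000097c904200000000053c94a82, nat_lit 32),
  (nat_lit 0x40278dbfe3700000000000000007fffb5ed68840100, nat_lit 64),
  (nat_lit 0x12d77afea5dfe9810000000000, nat_lit 128),
  (nat_lit 0x2503afe850000000000000000dfe9000000000000, nat_lit 64),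
  (nat_lit 0x9000000000aa1217960000000087b104a00000000000800000, nat_lit 32),
  (nat_lit 0x5fc0000045530000d8810000499a00002c250000911200000182, nat_lit 16),
  (nat_lit 0x9c009d00bb001700f0002300dc00420004003600bd002800c700040000, nat_lit 8),
  (nat_lit 0x20b0f080d03050a080e00030e0b020e0a0a040803040305040a090c0300, nat_lit 4),
  (nat_lit 0x201303102120012313103031322100233312000301112320313010311130, nat_lit 2),
  (nat_lit 0x104554014501000550040110110110511404400540040141540114140014, nat_lit 1)]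
def t5 : Net := [(nat_lit 0x440455015451440110510411515041115150115444404511410551411144, nat_lit 1),
  (nat_lit 0x310003200123223330211220313302320200021222102012022322220100, nat_lit 2),
  (nat_lit 0x609030f08060a0d030f040d0807040c0f03090e01070a040d050d0d0404, nat_lit 4),
  (nat_lit 0x7b003f005800f30008006a00bc00d100d2009d00290096004300000078, nat_lit 8),
  (nat_lit 0x28980000373c0000490d0000d6b100009613000041000000a7e0, nat_lit 16),
  (nat_lit 0xd9f2000000002614c0d90000000008cb8a60000000008d31a200, nat_lit 32),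
  (nat_lit 0x44dd260219ec0000000000000000da38ee4891200000, nat_lit 64),
  (nat_lit 0x51b56ede2becf23e800008000000, nat_lit 128),
  (nat_lit 0x40346694218c0000000000000000f23e000000000000, nat_lit 64),
  (nat_lit 0x358100000000b4a6411800000000c8fca2080000000008020000, nat_lit 32),
  (nat_lit 0xd6ad000084930000299f000024030000741a0000852000000000, nat_lit 16),
  (nat_lit 0x3800f400a00089002500e4003a00050020002c00890023000300660000, nat_lit 8),
  (nat_lit 0x70406040e080a0e050c0307000b02010f0901000b0301050008090a0000, nat_lit 4),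
  (nat_lit 0x302200003322301023010332130001301120321222002130001000003220, nat_lit 2),
  (nat_lit 0x100055111104110151004105441140450155511055451004440001000100, nat_lit 1)]
def t6 : Net := [(nat_lit 0x555050514111140000554405455050045555151141004141041000110000, nat_lit 1),
  (nat_lit 0x11023302122330213011013023001120203001233011003103001000000, nat_lit 2),
  (nat_lit 0xf050b0e0b020b0906000c0e08000e0f0608020a0f00000d020000010000, nat_lit 4),
  (nat_lit 0x44009300ce009700c60095005000c3005d00eb00ae00240018000c0000, nat_lit 8),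
  (nat_lit 0xdaa1000056220000c61c00000e1000009a6500000e2a0000058a, nat_lit 16),
  (nat_lit 0xfa16000000008ae300e200000000d922400300000000d8147c0a, nat_lit 32),
  (nat_lit 0xd2816aee3d90000000000000000d33f00b922000c00, nat_lit 64),
  (nat_lit 0x2f22dda6e1d88110000040000000, nat_lit 128),
  (nat_lit 0x9220484e1d800000000000000000110000000000000, nat_lit 64),
  (nat_lit 0x220900000000841ec4e800000000d9060c090000000040000000, nat_lit 32),
  (nat_lit 0x8b2f0000826700006b5400008e2e00001e250000060200000c0a, nat_lit 16),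
  (nat_lit 0x4004e00ec00cd000800c4004600ab005d00e300ea0024001800010000, nat_lit 8),
  (nat_lit 0x3030007040407090e0401050b01080a000802020700000d060008010000, nat_lit 4),
  (nat_lit 0x22320113332200133220021023300231203001201123330102001000000, nat_lit 2),
  (nat_lit 0x54050544510105544041445500544544044404545100050051400540000, nat_lit 1)]
def t7 : Net := [(nat_lit 0x501055405500514545414054145515154115505050045500410151040015, nat_lit 1),
  (nat_lit 0x112313230010222001110031333132102003213220012200322002102311, nat_lit 2),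
  (nat_lit 0x60c0307060b0d01000408060f0c090b03070e05090e0209060408000702, nat_lit 4),
  (nat_lit 0x6a00750040000400b2000100dc005f0039002800d80034004b00b50058, nat_lit 8),
  (nat_lit 0xe28a00002ce1000082c8000013880000d7b900002002000032c0, nat_lit 16),
  (nat_lit 0xa1ef000000004e0364bd00000000e5680c4b00000000c2cd3000, nat_lit 32),
  (nat_lit 0x2c4113efcdb50000000000000000f5f7920208d12000, nat_lit 64),
  (nat_lit 0x2d45f62ec7b531c1000080000000, nat_lit 128),
  (nat_lit 0x2c415206c7b5000000000000000031c1000000000000, nat_lit 64),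
  (nat_lit 0x104000000004103c32000000000e545320200000000c4c10000, nat_lit 32),
  (nat_lit 0x87aa0000a611000089c8000023800000cce50000220000002000, nat_lit 16),
  (nat_lit 0xb0045000800b8004800ae00d4005d00090060009c0040000000d20000, nat_lit 8),
  (nat_lit 0x40a01010208040201000f010f0c0e04030c0b050809000e020908020400, nat_lit 4),
  (nat_lit 0x2213330300331231131000013122012200321200203201310012003100, nat_lit 2),
  (nat_lit 0x504454404111010004400050001415140004410105411400005100045514, nat_lit 1)]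
def C : Ctx := ⟨240, 8, [t0, t1, t2, t3, t4, t5, t6, t7]⟩
theorem hC : C.ok = true := by decide +kernel
noncomputable def lk : ℕ → ℕ → ℕ := look C 64
theorem hlk : Good C lk := good_look hC (by decide +kernel)
def gens : List Word := [[0], [4], [6], [8], [10], [12], [14], [70], [72], [74], [78], [86], [90], [92], [80]]
def low_w7 : List Word := [[8,14,6,4,6,14,8,11,8,6,4,6,8,10]]
theorem low_7 : Low (C.grp low_w7) 2 [12] :=
  low_orb hC hlk 12 (by decide) [(12,0)] (m := 2) (grp_mono _ (by decide +kernel))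
    (by decide +kernel) (by decide +kernel) (low_nil C) (by decide)
def low_w6 : List Word := [[8,14,6,4,6,14,8,11,8,6,4,6,8,10], [15,6,4,6,15,10,8,6,4,6,8,11]]
theorem low_6 : Low (C.grp low_w6) 4 [11,12] :=
  low_orb hC hlk 11 (by decide) [(11,2)] (m := 2) (grp_mono _ (by decide +kernel))
    (by decide +kernel) (by decide +kernel) low_7 (by decide)
def low_w5 : List Word := [[8,14,6,4,6,14,8,11,8,6,4,6,8,10], [15,6,4,6,15,10,8,6,4,6,8,11], [10,15,6,4,6,15,11]]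
theorem low_5 : Low (C.grp low_w5) 8 [9,11,12] :=
  low_orb hC hlk 9 (by decide) [(9,4)] (m := 2) (grp_mono _ (by decide +kernel))
    (by decide +kernel) (by decide +kernel) low_6 (by decide)
def low_w4 : List Word := [[8,14,6,4,6,14,8,11,8,6,4,6,8,10], [15,6,4,6,15,10,8,6,4,6,8,11], [10,15,6,4,6,15,11], [10,10,15,6,14,8,14,8,6,15,11,11]]
theorem low_4 : Low (C.grp low_w4) 16 [8,9,11,12] :=
  low_orb hC hlk 8 (by decide) [(8,6)] (m := 2) (grp_mono _ (by decide +kernel))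
    (by decide +kernel) (by decide +kernel) low_5 (by decide)
def low_w3 : List Word := [[8,14,6,4,6,14,8,11,8,6,4,6,8,10], [15,6,4,6,15,10,8,6,4,6,8,11], [10,15,6,4,6,15,11], [10,10,15,6,14,8,14,8,6,15,11,11], [8,15,6,4,6,15,8]]
theorem low_3 : Low (C.grp low_w3) 32 [3,8,9,11,12] :=
  low_orb hC hlk 3 (by decide) [(3,8)] (m := 2) (grp_mono _ (by decide +kernel))
    (by decide +kernel) (by decide +kernel) low_4 (by decide)
def low_w2 : List Word := [[8,14,6,4,6,14,8,11,8,6,4,6,8,10], [15,6,4,6,15,10,8,6,4,6,8,11], [10,15,6,4,6,15,11], [10,10,15,6,14,8,14,8,6,15,11,11], [8,15,6,4,6,15,8], [12], [8,15,6,14], [6,11,8,10,15,11,6,8,10,10,14]]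
theorem low_2 : Low (C.grp low_w2) 1728 [7,3,8,9,11,12] :=
  low_orb hC hlk 7 (by decide) [(7,10), (7,11), (7,12), (7,13), (7,14), (7,15), (22,2), (22,12), (22,13), (22,14), (22,15), (23,2), (23,12), (23,13), (23,14), (23,15), (195,2), (195,14), (195,15), (144,2), (144,14), (144,15), (153,0), (153,10), (153,11), (154,0), (154,10), (154,11), (49,11), (49,12), (49,13), (49,14), (49,15), (150,15), (71,14), (215,10), (48,10), (50,12), (50,13), (50,14), (50,15), (190,14), (190,15), (141,14), (141,15), (162,10), (162,11), (163,10), (163,11), (148,15), (68,14), (232,10), (21,10)] (m := 54) (grp_mono _ (by decide +kernel))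
    (by decide +kernel) (by decide +kernel) low_3 (by decide)
def low_w1 : List Word := [[8,14,6,4,6,14,8,11,8,6,4,6,8,10], [15,6,4,6,15,10,8,6,4,6,8,11], [10,15,6,4,6,15,11], [10,10,15,6,14,8,14,8,6,15,11,11], [8,15,6,4,6,15,8], [12], [8,15,6,14], [6,11,8,10,15,11,6,8,10,10,14], [10]]
theorem low_1 : Low (C.grp low_w1) 193536 [2,7,3,8,9,11,12] :=
  low_orb hC hlk 2 (by decide) [(2,16), (2,17), (8,6), (8,10), (8,11), (8,12), (8,13), (8,14), (8,15), (7,10), (7,11), (7,12), (7,13), (7,14), (7,15), (17,10), (17,11), (17,12), (17,15), (17,17), (21,12), (21,13), (21,14), (21,15), (26,12), (26,13), (26,14), (26,15), (202,14), (202,15), (202,16), (202,17), (163,14), (163,15), (163,16), (163,17), (190,10), (190,11), (190,16), (190,17), (220,10), (220,11), (220,16), (220,17), (22,12), (22,13), (22,14), (23,2), (23,12), (23,13), (23,14), (23,15), (195,14), (195,17), (144,16), (153,10), (153,16), (153,17), (154,10), (154,11),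 (154,16), (126,16), (126,17), (231,11), (231,17), (152,15), (189,16), (189,17), (219,17), (160,17), (145,16), (147,16), (141,16), (162,16), (109,12), (109,13), (109,15), (72,10), (72,11), (72,13), (72,14), (72,15), (72,16), (104,10), (104,11), (104,12), (104,13), (104,14), (104,15), (148,17), (96,11), (96,15), (158,10), (158,15), (158,17), (232,16), (234,17), (123,12), (150,16), (124,17), (167,14), (167,15), (167,17), (125,12), (69,16), (183,14), (122,12), (207,13), (165,15), (46,17), (19,17)] (m := 112) (grp_mono _ (by decide +kernel))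
    (by decide +kernel) (by decide +kernel) low_2 (by decide)
theorem low : Low (C.grp gens) 46448640 [0,2,7,3,8,9,11,12] :=
  low_orb hC hlk 0 (by decide) [(0,2), (0,6), (0,12), (0,13), (1,6), (2,4), (2,8), (2,9), (2,12), (2,13), (4,8), (4,9), (3,8), (3,9), (5,4), (5,8), (5,9), (6,8), (6,9), (6,12), (8,6), (8,8), (8,11), (8,12), (8,13), (7,9), (7,12), (7,13), (10,8), (10,9), (9,8), (9,9), (14,6), (14,8), (14,11), (13,6), (13,9), (13,11), (12,6), (12,8), (12,11), (11,6), (11,9), (11,11), (15,8), (15,9), (15,12), (17,6), (17,8), (17,11), (16,9), (19,6), (19,8), (19,11), (19,12), (18,6), (18,9), (18,11), (18,12), (20,8), (20,9), (23,12), (23,13), (21,12), (21,13), (26,12), (26,13), (28,4), (28,8), (28,9), (27,4), (27,8), (27,9), (22,12), (22,13), (25,4), (25,8), (25,9), (24,4), (24,8), (24,9), (32,8), (32,11), (31,9), (31,11), (30,8), (30,11), (29,9), (29,11), (42,4), (42,8), (42,10), (42,11), (39,4), (39,9), (39,10),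 (39,11), (36,4), (36,8), (36,10), (36,11), (33,4), (33,9), (33,10), (33,11), (46,6), (46,8), (46,11), (46,12), (45,6), (45,9), (45,11), (45,12), (47,8), (47,9), (56,4), (56,8), (56,9), (56,11), (59,4), (59,8), (59,9), (52,8), (52,9), (52,12), (53,12), (54,12), (55,4), (55,8), (55,9), (61,6), (61,8), (61,11), (60,6), (60,9), (60,11), (67,4), (67,9), (66,4), (66,9), (63,4), (63,8), (62,4), (62,8), (75,4), (75,8), (75,9), (74,9), (79,6), (79,9), (79,12), (81,8), (81,10), (81,11), (80,10), (76,6), (76,9), (78,8), (78,10), (78,11), (77,10), (65,4), (65,8), (65,9), (64,4), (64,8), (64,9), (71,6), (71,8), (71,9), (73,8), (72,9), (72,10), (72,11), (68,6), (68,8), (68,9), (70,8), (69,9), (69,10), (69,11), (102,10), (102,11), (102,12), (103,8), (103,13), (104,9), (99,12), (99,13), (100,8), (94,10), (94,11), (94,12), (96,9), (92,8), (110,4), (110,8), (110,9), (110,11), (113,9), (106,8), (106,9), (107,12), (109,8), (109,9), (115,6),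 (115,8), (115,11), (114,9), (120,8), (120,9), (128,6), (128,8), (128,10), (128,11), (127,9), (127,10), (127,12), (116,9), (119,8), (129,6), (129,10), (129,11), (118,11), (118,12), (117,6), (117,10), (122,8), (126,8), (125,10), (134,9), (131,8), (144,9), (141,9), (153,8), (153,10), (153,11), (194,9), (196,9)] (m := 240) (le_of_subst _ [[6,12,4,2,4,12,6,9,6,4,2,4,6,8], [13,4,2,4,13,8,6,4,2,4,6,9], [8,13,4,2,4,13,9], [8,8,13,4,12,6,12,6,4,13,9,9], [6,13,4,2,4,13,6], [10], [6,13,4,12], [4,9,6,8,13,9,4,6,8,8,12], [8]] (by decide +kernel))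
    (by decide +kernel) (by decide +kernel) low_1 (by decide)
theorem bound : Bound.{u} R0 gens 92897280 := b2
theorem hrel : ∀ r ∈ R0, C.ev r = 1 := rels_of_eqW hC (by decide +kernel)
theorem chk : ∀ j ∈ [27,28,29,31,35,37,38,32], ∃ v ∈ [14,16,18,20,22,24,26,28], subst gens [v] = [2 * (8 + j)] ∧ C.eqW (subst gens [v]) [] = true := by decide +kernel
theorem chk0 : C.eqW (subst gens [0]) [] = true := by decide +kernel
end
end CA.ThL3
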