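import Cfsg.Agent.Lib.Spor.ThQ

/-! The involution centraliser of the Thompson group from an upper bound on its order. -/

set_option autoImplicit false
set_option linter.all false

namespace CA.ThQ
open CA.CWord Subgroup

theorem cen_eq {G : Type} [Group G] [Finite G] (g : ℕ → G) (hr : ∀ r ∈ ThRel.rels, ev g r = 1) (hz : g 0 ≠ 1)
    (hle : Nat.card (centralizer ({g 0} : Set G)) ≤ 92897280) : grp g gensA = centralizer {g 0} :=
  eq_of_le_of_card_ge (cen hr) (hle.trans (struct g hr hz).1.ge)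

theorem final {G : Type} [Group G] [Finite G] (g : ℕ → G) (hr : ∀ r ∈ ThRel.rels, ev g r = 1) (hz : g 0 ≠ 1)
    (hle : Nat.card (centralizer ({g 0} : Set G)) ≤ 92897280) :
    ∃ z : G, orderOf z = 2 ∧ ∃ (Q : Subgroup (Subgroup.centralizer ({z} : Set G))) (_ : Q.Normal), Nat.card Q = 2 ^ 9 ∧
      Cfsg.IsExtraspecial 2 Q ∧ Nonempty ((Subgroup.centralizer ({z} : Set G)) ⧸ Q ≃* alternatingGroup (Fin 9)) := by
  have : Fact (Nat.Prime 2) := ⟨by decide⟩
  refine ⟨g 0, orderOf_eq_prime ?_ hz, ?_⟩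
  · rw [← ev1 (g := g) 0, ← ev_wpow]; exact hr _ (by decide +kernel)
  · rw [← cen_eq g hr hz hle]; exact (struct g hr hz).2.2

end CA.ThQ
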