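import Cfsg.Agent.Lib.Spor.ThY3
import Cfsg.Prelude.Def_KGroupFacts

/-! `Out(Th) = 1` from the order of the involution centraliser. -/

set_option autoImplicit false
set_option linter.all false

namespace CA.ThY
open CA.CWord Subgroup

theorem out {G : Type} [Group G] {g : ℕ → G} (hr : ∀ r ∈ ThRel.rels, ev g r = 1) (hz : g 0 ≠ 1)
    (ht : grp g ThRel.gens = ⊤) (hG : Nat.card G = 90745943887872000)
    (hC : Nat.card (centralizer {g 0}) ≤ 92897280) : Nat.card (Cfsg.Out G) = 1 := by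
  haveI : Finite G := Nat.finite_of_card_ne_zero (hG.trans_ne (by decide))
  refine Nat.card_eq_one_iff_unique.2 ⟨⟨fun a b => ?_⟩, ⟨1⟩⟩
  have k : ∀ a : Cfsg.Out G, a = 1 := fun a => by
    obtain ⟨α, rfl⟩ := QuotientGroup.mk_surjective a
    obtain ⟨x, hx⟩ := inner hr hz ht hG hC α
    exact (QuotientGroup.eq_one_iff _).2 ⟨x, MulEquiv.ext fun y => (hx y).symm⟩
  rw [k a, k b]

end CA.ThY
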