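import Cfsg.Agent.Lib.Spor.ThO
import Cfsg.Agent.Lib.Spor.ThH
import Cfsg.Agent.Lib.Spor.ThT
import Cfsg.Agent.Lib.Spor.ThLtC
import Cfsg.Agent.Lib.Spor.ThLt2
import Cfsg.Agent.Lib.Spor.ThQf
import Cfsg.Agent.Lib.Spor.ThY4

/-! Consequences of the Thompson relators when `u` is outside `³D₄(2):3`. -/

set_option autoImplicit false
set_option maxRecDepth 100000

namespace CA.ThLtI
open CA.CNet CA.CWord CA.CTodd CA.CPres CA.ThM

theorem rels_eq : ThRel.rels = RH ++ RU := by decide +kernel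
theorem bd : Bound.{0} RH gens 634023936 := (by decide +kernel : ThRel.rels.take 27 = RH) ▸ ThH.bound

variable {G : Type} [Group G] {g : ℕ → G} (hr : ∀ r ∈ ThRel.rels, ev g r = 1)
include hr

theorem hyp : ThO.Hyp g :=
  ⟨bd, fun r h => hr r (rels_eq ▸ List.mem_append_left _ h), fun r h => hr r (rels_eq ▸ List.mem_append_right _ h),
    ThT.tw hr⟩

variable (hu : g 7 ∉ grp g gens) (ht : grp g ThO.all8 = ⊤)
include hu

theorem hz : g 0 ≠ 1 := fun h => hu (by
  have := ThLt.triv_of hr h [14] (by decide)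
  rw [show [14] = [2 * 7] from rfl, ev_gen] at this
  rw [this]; exact Subgroup.one_mem _)

include ht

theorem index : (grp g gens).index = 143127000 := ThO.index (hyp hr) hu ht

theorem isTh : IsSimpleGroup G ∧ Nat.card G = 90745943887872000 :=
  ThLt.isTh hr ht (l := ThO.nn) (by decide +kernel) (O := (ThO.S (hyp hr)).O)
    (ThO.all _ ht) (fun i _ => ⟨_, ThO.orbit_eq _ i⟩)
    (fun i hi => (ThO.cardO _ hu i hi).trans (nth_eq_getD _ _ _)) (index hr hu ht)

theorem le : Nat.card (Subgroup.centralizer {g 0}) ≤ 92897280 :=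
  ThLtC.le hr hu (isTh hr hu ht).2 (pt := (ThO.S (hyp hr)).p) (one_smul G _)
    (fun ξ => (ThO.all (hyp hr) ht ξ).imp fun i h => ⟨h.1, (ThO.orbit_eq (hyp hr) i).ge h.2⟩)
    (fun i hi => (congrArg (fun s : Set _ => Nat.card s) (ThO.orbit_eq (hyp hr) i)).trans (ThO.cardO (hyp hr) hu i hi))
    fun i hi w hw => by
      obtain ⟨q, -, h1, h2, h3, h4, rfl⟩ := (by decide +kernel : ∀ i < 11, ∀ w ∈ nth ThCd.GW [] i, ∃ q ∈ nth ThCd.QS [] i,
        q < 4241 ∧ (F q).t = 0 ∧ (F q).i = i ∧ (F q).j = i ∧ subst W (F q).h = w) i hi w hw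
      have := (ThO.holds (hyp hr) q h1).1 h2
      rw [h3, h4, ThO.ρ_w] at this
      exact this.symm

theorem out : Nat.card (Cfsg.Out G) = 1 := ThY.out hr (hz hr hu) ht (isTh hr hu ht).2 (le hr hu ht)

end CA.ThLtI
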