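import Cfsg.Agent.Lib.Comp.CTodd
set_option autoImplicit false
set_option linter.all false
set_option maxRecDepth 100000
universe u
namespace CA.ThQb
open CA.CNet CA.CWord CA.CLevel CA.CSimple CA.CPoint CA.CTodd
noncomputable section
def RA0 : List Word := [[0,0], [4,4], [6,6], [8,8], [0,8,0,8], [0,7,5,7,5,7,5,7,5], [4,8,4,8], [6,8,6,8,6,8], [10,10,10,10,10,10,10], [11,1,10,0], [11,5,10,4], [10,6,10,6], [9,11,8,10,11,11,11,9,10,10,10], [12,12,12], [13,1,12,0], [13,5,12,4], [13,7,12,6], [13,9,12,8], [13,10,12,11,11], [14,14,5,1], [15,1,14,0], [15,5,14,4], [15,9,14,8], [6,8,15,6,14,6,8,15,6,14], [15,12,14,12], [9,11,11,15,10,10,8,11,11,14,10,10], [0,4,11,15,11,15,11,15], [0,4,11,15,10,14,11,15,10,14,11,15,10,14,11,15,10,14], [6,11,11,14,10,10,6,11,11,14,10,10,6,11,11,14,10,10,6,11,11,14,10,10,11,11,9,7,5,6,8,10,10,10,9,7,5,6,8,11,7,5,6,5,1]]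
def derw : Word := [4,7,9,11,9,7,4,6,8,10,8,4,6,9,7,4,6,11,9,7,4,6,8,10,8,10,9,7,4,6,8,10,9,7,4,6,8,11,11,11,9,7,4,6,8,11,9,7,4,6,8,10,10]
def RA : List Word := [[0,0], [4,4], [6,6], [8,8], [0,8,0,8], [0,7,5,7,5,7,5,7,5], [4,8,4,8], [6,8,6,8,6,8], [10,10,10,10,10,10,10], [11,1,10,0], [11,5,10,4], [10,6,10,6], [9,11,8,10,11,11,11,9,10,10,10], [12,12,12], [13,1,12,0], [13,5,12,4], [13,7,12,6], [13,9,12,8], [13,10,12,11,11], [14,14,5,1], [15,1,14,0], [15,5,14,4], [15,9,14,8], [6,8,15,6,14,6,8,15,6,14], [15,12,14,12], [9,11,11,15,10,10,8,11,11,14,10,10], [0,4,11,15,11,15,11,15], [0,4,11,15,10,14,11,15,10,14,11,15,10,14,11,15,10,14], [6,11,11,14,10,10,6,11,11,14,10,10,6,11,11,14,10,10,6,11,11,14,10,10,11,11,9,7,5,6,8,10,10,10,9,7,5,6,8,11,7,5,6,5,1], [4,7,9,11,9,7,4,6,8,10,8,4,6,9,7,4,6,11,9,7,4,6,8,10,8,10,9,7,4,6,8,10,9,7,4,6,8,11,11,11,9,7,4,6,8,11,9,7,4,6,8,10,10]]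
namespace T0
noncomputable def A_0 : List (ℕ) := [nat_lit 0x3ed13c7a32789e64691ac441be0ba6831d9382d7b5e9394e49a46e34f0d16999629104409569193813c4879989334cc9a65ba4290a2531b70a629a21685c3745f21505481141994687c2a8aa4872fa5de7792fcbf142108452146d0744521252b4250968721cd4041da066fa350d483c0f10362ad0b2a02374dd83e8fb03835927e9fc380e083f0f88a92a61ae6bc1e44460e11c4f03c11204811185064988ac8f1e49aa6aa2288a22120689f27c8a879a23c8f2238fc4de3791086944e93a8709c287f1d886c4ec208e924d93684e0fd90e49a224f72b22c88f53d492449212c8764a034c412518929012ecbb432a4acbd670ab2aca4591625917ad263392385fb4711c65c24cccf13d8445cc4751d8a7a9e8e6271908423398e664d134c4d13884426a2649987e1f912b4ad1965e349124665996cba2e98c83290b470660180c671918582ec2c8b283895045816104e56b168b68308c28b5450b12c4a4551525795e85b16995c5c22c05c658160cb52d598a573310734340d102e0ba0243120acc54388e30330ce02835230cc383a0e90340c90c03041ac6b81787b0852160a23d90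e03840b900c3a22608220a220e42a62988e53949044120ec3a6409168830f190641b2208864c102c9714d0902440781e80585e4691a50a42910904240d9888a22888aa4c21445181184700d33d12e4b91304a44b12d054152048122038342390e484912483e2342449182a8aa82505086218a0701c2058ce85e0ad8c631b1785e614852c1004484c1b41dc778699a68a716595856329ca762b8aec2609c820132158568521490d83610f41cb1fc7f63d0f4c370dd82c0b90240b80e83b04711d07c0db10c4361f07cc190658120510581660404484010209625c07c1f40605a86619a17c5f41d47541a81a421085058161048124030208280a20b62dc1b06c41802ac350d586018304c1360300e4030250300c40ec3b82609882003984a12b08020606018c0300d80002903c0f40401040200900002101806600802400,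
  nat_lit 0x500a003011d16fabd49907b5be8e437c99088caf09a07253dcf417d5f54f23c85b97ad3a4e22709a06943ae56963622edd27d1f42e2bb119f5a5358f736d1d42e1be49cb4b5b4ad2b69da76b6396dc66c4b9ae6a571318d53551af6ba26cd0a7c1e12ee3b89715ea3c0ada611e02c031f1df608a86a1a369588e6399163585b4cd334b8f22aeaba9cf4be2b8ae43bdb38af2bd0f075a2f6bda419836be2f8d065dca80eec5d0f18afabe9b2611b48a2b521bc6bf364d394edb0adaa519ab6a328cd374dd35ad634d15527fa6d16a5aa1f0f3a799544d83611a97162a4a9439dbb6b5b2e521749b7ce09739624ad1dcd5a569ac0b03739ce4d43511304c2190cb26fd5149ab6f141788beefba7b1ec2c9b30dc370d2e6b843f96f8ccad8cfb5ce2008025c9a42c2b0a948520adab6a3f1754b71fad6e5b9ae4b9368d9a4ca32911e47a17280a271a34ccb3312248a176caa51d4786f2428ff3fe2e2b8c47d938edbb71766d127c9eb7f9fe69f27cd81434952c32741d08f8be31a25d9248c0a74de66fb3ecdd374dac8c59795a98febfb1c67193aab3b755d56ecbb2de579538ee3c6b5ad89a218980602394e546319148db1851745d166f1c73dcf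8c431091347ca689a23352e2d134492a67ca509423091926419086e6f92fea237f1fc6bfafed423688f8a4a6f5bd8ed3b516b54cac6b1a3d1424dc384df37cdb70dc366d4e2e02e918e63a3d2f4a7bd9e6f7bdedf07c1b80e0277ddf8bcaf3104365282a0c6d9b68a82ac8eb5409ce73a219b98dfb7f14b52d1c677941104450230cb32cdbf6fdb2d0b466098446a30524e93c6759d8a620ad024099ca50114d878892248ad469a2689b2b52a262b151643adaaeabb3d4fe2b5ad68fa536336cda4951b6c9324d2552a1c4712200ea6719c6c803e8930b413e0f844a9f2c9f32999cb3462535699264dfa7e9a5294b330cd2399d0c8621987e4a9129652a79428ec3b19167b32888c8769db159325bf2fcb7e1f866398ec6d1b886436a318c68962590fb,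
  nat_lit 0x532380c926d8d923e8f70d952caac7525414d4dc91a8ef1809685a417cb362f8be1fb1849668c12d8c268c0d2cc2674a9acd949cc12358d30c1274a04829284a06828a4ca02e4a24c39475658c396051346896a953468c469531456645231476155ceb245914ceb2691fc7245351c2c92364b82dda364613894a276b3914a20c9c6751220fa67512ecfa3e52d07cc3949627c99486f328a6457b328f78b32531154c9a2a8a87e8c3294a6a4ce335a6a393334412431d04892559d024b254f64b294309d14e1424933b0f68481224f611111838931cc788b22c1f83259625887e4c92378dccc90c58dc4c93ed2c27e2564c61b486618c1b48d2240a049e3d092647b3d0328378f04d03452706e21f4d466e1a30761dc9a279b440b168b0ba4b148d9bc5e248cd389e198c721d09985bc33c6225b8f90db42d2742ba298606150c302a28d0be529418aa82c1ad10f4fda1083a5f4562519571112950f02b3294a42838fd0df3861566c4500ac4700f30d61621521c41f01e2221eac9011511c28208c4862808b01c07488a5132283743c8a509f360a067093cc3943f0ee8d20fd0ec27a2748747483443f11e1262332489447b880487069014203068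4b24a17a9202fca4a9326706625e8e70ce2fd0d63332fcbe29309e49c0f589e3222e43d2421cc4851449342732702162709a42308609a3412e8cb2381805242f08ce32b2f02c6329808b61c10663431c02e2321648be0a50ba2d22a05c2568d50b630d95e5724502822d0c50b817105c1431705b2570690731d60c43643146343a05f06a05206442a2441941e87487b0f0900254224966411028e406087421422c3c40f030c3c0ec90212414c134178ab0421b09882642607526788685407e0940aa0d01d42300e8140b60ce2c90a45e25614e4630ac8ae08b0ac0560882c83609d8b207b09c0f8130364371e88861f11fc3920c82ec3902182e01a02c0a60d804c0a0360440940b40440680b0100388261810942021a82a40c01d82a00b01c02804808c0e,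
  nat_lit 0x7de3d4f6a65ded2e436eded7212aae2b72190297af11905e0ab88245e1c98f23925bf55a392f24609e78fabd118d6753d0f5c6e9eb2e7b231eb7d1b88e21549508e23405d875db40eba785686ebb1a5e775931add450de32dd3b09b15a63b07c45a5ee2cc3a8dee751316b2b751f26dab6e5f2694ae4b7169da749834a9aa4b51dc96968cc6696b965586c5b969c36c5cd8ac35f1cd6c0b5498b58d312d49929316b92a4d716859f8d73431285ee342f0b7b17d6f0bb919377a3b8bd24157a2e522f17a56e350adb3bd792adbeede060d3c098163d8f68cbba98f6e5a86c1478d0d4c138c5cc73134c76a561f12d32c296c584ba0793584f24b011ccf25763a07845752f6641e292f3c4abcd9b689b32afa7a9b34d8af6eb15a9688eb21257c5f12f2c19439776c1aee99e40daeeee95d57d8eeabf12e23a1e2c21445106c228a8db514b78843515bc4b82dadbc6ca3489d96c93b46b9a4d3b6d4a82a8c6d4dc2a33569676aca7899b6ad3726a1a11376b0ae2aab6b0e96aabb296a34126cc6479d388d82a91c7550a0074c551664e2b769446ecae0cbb6ed206cbba4560705ba4ef96a1c14a7338dc14e5ac4b114e8f38b137c55a3b8a924633b9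598e732d1bd658a4490465951673b6c55152936ef4c7b1e28c030e9e2661244ca36614f8e1a431706f4b32b7a76d6f2ed1fd16f3f4ad880426d732e3b2b17344630aa4337d476b6a589a45d63bc80c5d4fd48f132cfd478b0cda16517e6cd33453f48e3348095d176880a571a337ca8eca96b51f8ca9370ff2ee242f4976d1d4c9b0d1b4358a7c9f43553d66a9aa1fe4f49ae86b4f4a8686bec9f144a30cc715d981287a1918174caceea97d9e62ecb16de6451b16d4c54dc66a9aa61fd4c93527bb59d898f2aae9ca430954544431916a5b10591469318c445598a4f197491f31d25c94a67cb448ca931be42cafebfc429446852141fc5109b66d35107b66d3e69da38a29274254d4226e9b31426e0b3cf797cdc22f829cdc2391a9cc72461024ba24ed9e,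
  nat_lit 0x7452bce897a9e26e8bd51e8]
noncomputable def A : List (List (ℕ)) := [A_0]
noncomputable def K_0 : List (ℕ) := [nat_lit 0xa1e25a51987fe1b862196d60a6cdfe70ad1b15cb8eaac8220b89e1d6e6108f99d59d698721e6f1d1769bf755f67b25790d33739d3719d94f1be7d5fa54da7845f06521781e5c812015e5585d6348cd906991e6a1966b593689827b9895fe358dd8d7d1806117e6293a75de573d8c4e5eb77934781578322e70dfd6e99f6e19c6655654950839af6d9b2525ca705cc7f209591c55ad616c60f5bd9e589665816c4c5c0751d05b93071dd84f5bb475745f54c5e1917ee03809155c57656d7c5111f6498f5097a621727a54163981459834ed8b4e1355214f57d5a555c968d9b6690c4895152d5e4ad4a721cd4a5595a9236dd285c163435654c96d4bd3e44d4d5dd73519125717b4811a50de8501174dd364294e5512446d094855d4b1454a9b049d0e4b92545147445194fd184150b471084b52643d04441014190241d0340000,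
  nat_lit 0x2819d2598da1381a05a8a78bd6ed93ee89f247922eabeea1bcefc92af6ada799bef499aa3b76d9915e3b1adca12549c2ecbc2cb9c6e99deafbf67d996a9b8ad4b926abdefa9ba73acef2a7e50aba468f25b956c1ac6ee8f64ea9241afa83b36c0b8eb47e2df9b6baaf6e09d6a8b96d2b9a99a3660b7af197e498c5ab88a91a32a0ac2a6a2a90a16209a6f9b624bbbe689da2861a648b67ea62c3b26d79ea6b961e2792c8b2adb912f8b1e7ba564ca6e92a1a9ea7693a5a9c892b7bae1a9ca16835b494aadb4eaab12ccb42ceb6aab6aad589a40ae6b594eb2a963f6824d88d688ee1f95a97a26bcb0a5ab5a51909d674a80a09f1afdbd7ddf9aeeb8856627be14b86a7b3e61b9e0065e2984a5e8c9a46b1957ca8ba21ae98e8f685a58862b9763899da9615878aa2c77df3799dc9fe6c7a9ed775e176de78c2397122fa3a9a]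
noncomputable def K : List (List (ℕ)) := [K_0]
noncomputable def R_0 : List (Rule) := [Rule.mk (nat_lit 3) (nat_lit 41) (Steps.bwd (nat_lit 1) (Steps.bwd (nat_lit 3) (Steps.bwd (nat_lit 1) Steps.nil))) (nat_lit 22) (nat_lit 1),
  Rule.mk (nat_lit 2) (nat_lit 63) (Steps.bwd (nat_lit 1) (Steps.bwd (nat_lit 2) (Steps.bwd (nat_lit 1) (Steps.bwd (nat_lit 2) (Steps.fwd (nat_lit 1024) Steps.nil))))) (nat_lit 14) (nat_lit 0),
  Rule.mk (nat_lit 3) (nat_lit 74) (Steps.bwd (nat_lit 3) (Steps.bwd (nat_lit 3) (Steps.bwd (nat_lit 3) (Steps.bwd (nat_lit 3) (Steps.bwd (nat_lit 3) (Steps.bwd (nat_lit 3) Steps.nil)))))) (nat_lit 16) (nat_lit 0),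
  Rule.mk (nat_lit 4) (nat_lit 96) (Steps.bwd (nat_lit 2) (Steps.bwd (nat_lit 4) (Steps.bwd (nat_lit 4) (Steps.bwd (nat_lit 2) (Steps.bwd (nat_lit 3) (Steps.bwd (nat_lit 3) (Steps.bwd (nat_lit 3) (Steps.fwd (nat_lit 2048) Steps.nil)))))))) (nat_lit 24) (nat_lit 2),
  Rule.mk (nat_lit 3) (nat_lit 41) (Steps.bwd (nat_lit 1) (Steps.bwd (nat_lit 3) (Steps.fwd (nat_lit 1024) Steps.nil))) (nat_lit 22) (nat_lit 1),
  Rule.mk (nat_lit 1) (nat_lit 41) (Steps.bwd (nat_lit 3) (Steps.fwd (nat_lit 1024) (Steps.bwd (nat_lit 3) Steps.nil))) (nat_lit 22) (nat_lit 0),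
  Rule.mk (nat_lit 1) (nat_lit 41) (Steps.fwd (nat_lit 3072) (Steps.bwd (nat_lit 1) (Steps.fwd (nat_lit 3072) Steps.nil))) (nat_lit 23) (nat_lit 1),
  Rule.mk (nat_lit 1) (nat_lit 41) (Steps.bwd (nat_lit 3) (Steps.bwd (nat_lit 1) (Steps.bwd (nat_lit 3) Steps.nil))) (nat_lit 22) (nat_lit 0),
  Rule.mk (nat_lit 4) (nat_lit 96) (Steps.bwd (nat_lit 2) (Steps.bwd (nat_lit 4) (Steps.bwd (nat_lit 4) (Steps.bwd (nat_lit 2) (Steps.bwd (nat_lit 3) (Steps.bwd (nat_lit 3) (Steps.bwd (nat_lit 3) (Steps.bwd (nat_lit 2) Steps.nil)))))))) (nat_lit 24) (nat_lit 2),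
  Rule.mk (nat_lit 3) (nat_lit 74) (Steps.bwd (nat_lit 3) (Steps.bwd (nat_lit 3) (Steps.bwd (nat_lit 3) (Steps.bwd (nat_lit 3) (Steps.fwd (nat_lit 4096) (Steps.bwd (nat_lit 3) Steps.nil)))))) (nat_lit 16) (nat_lit 0),
  Rule.mk (nat_lit 2) (nat_lit 96) (Steps.bwd (nat_lit 4) (Steps.bwd (nat_lit 4) (Steps.bwd (nat_lit 2) (Steps.bwd (nat_lit 3) (Steps.bwd (nat_lit 3) (Steps.fwd (nat_lit 4096) (Steps.bwd (nat_lit 2) (Steps.fwd (nat_lit 3072) Steps.nil)))))))) (nat_lit 24) (nat_lit 3),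
  Rule.mk (nat_lit 3) (nat_lit 41) (Steps.bwd (nat_lit 1) (Steps.fwd (nat_lit 4096) (Steps.fwd (nat_lit 1024) Steps.nil))) (nat_lit 22) (nat_lit 1),
  Rule.mk (nat_lit 3) (nat_lit 41) (Steps.bwd (nat_lit 1) (Steps.fwd (nat_lit 4096) (Steps.bwd (nat_lit 1) Steps.nil))) (nat_lit 22) (nat_lit 1),
  Rule.mk (nat_lit 4) (nat_lit 96) (Steps.bwd (nat_lit 2) (Steps.bwd (nat_lit 3) (Steps.bwd (nat_lit 3) (Steps.fwd (nat_lit 4096) (Steps.fwd (nat_lit 2048) (Steps.fwd (nat_lit 3072) (Steps.fwd (nat_lit 2048) (Steps.bwd (nat_lit 4) Steps.nil)))))))) (nat_lit 24) (nat_lit 7),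
  Rule.mk (nat_lit 2) (nat_lit 63) (Steps.bwd (nat_lit 1) (Steps.bwd (nat_lit 2) (Steps.bwd (nat_lit 1) (Steps.fwd (nat_lit 2048) (Steps.fwd (nat_lit 1024) Steps.nil))))) (nat_lit 14) (nat_lit 0),
  Rule.mk (nat_lit 2) (nat_lit 96) (Steps.bwd (nat_lit 4) (Steps.bwd (nat_lit 4) (Steps.bwd (nat_lit 2) (Steps.bwd (nat_lit 3) (Steps.bwd (nat_lit 3) (Steps.bwd (nat_lit 3) (Steps.bwd (nat_lit 2) (Steps.bwd (nat_lit 4) Steps.nil)))))))) (nat_lit 24) (nat_lit 3),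
  Rule.mk (nat_lit 2) (nat_lit 96) (Steps.bwd (nat_lit 4) (Steps.bwd (nat_lit 2) (Steps.fwd (nat_lit 3072) (Steps.fwd (nat_lit 3072) (Steps.fwd (nat_lit 2048) (Steps.bwd (nat_lit 3) (Steps.bwd (nat_lit 3) (Steps.bwd (nat_lit 3) Steps.nil)))))))) (nat_lit 24) (nat_lit 1),
  Rule.mk (nat_lit 1) (nat_lit 63) (Steps.bwd (nat_lit 2) (Steps.bwd (nat_lit 1) (Steps.bwd (nat_lit 2) (Steps.bwd (nat_lit 1) (Steps.fwd (nat_lit 2048) Steps.nil))))) (nat_lit 14) (nat_lit 1),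
  Rule.mk (nat_lit 4) (nat_lit 96) (Steps.bwd (nat_lit 2) (Steps.bwd (nat_lit 4) (Steps.bwd (nat_lit 4) (Steps.fwd (nat_lit 2048) (Steps.bwd (nat_lit 3) (Steps.bwd (nat_lit 3) (Steps.bwd (nat_lit 3) (Steps.fwd (nat_lit 2048) Steps.nil)))))))) (nat_lit 24) (nat_lit 2),
  Rule.mk (nat_lit 1) (nat_lit 63) (Steps.bwd (nat_lit 2) (Steps.bwd (nat_lit 1) (Steps.bwd (nat_lit 2) (Steps.fwd (nat_lit 1024) (Steps.fwd (nat_lit 2048) Steps.nil))))) (nat_lit 14) (nat_lit 1),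
  Rule.mk (nat_lit 4) (nat_lit 96) (Steps.bwd (nat_lit 2) (Steps.fwd (nat_lit 3072) (Steps.fwd (nat_lit 3072) (Steps.bwd (nat_lit 2) (Steps.bwd (nat_lit 3) (Steps.bwd (nat_lit 3) (Steps.bwd (nat_lit 3) (Steps.fwd (nat_lit 2048) Steps.nil)))))))) (nat_lit 24) (nat_lit 2),
  Rule.mk (nat_lit 2) (nat_lit 63) (Steps.bwd (nat_lit 1) (Steps.bwd (nat_lit 2) (Steps.bwd (nat_lit 1) (Steps.bwd (nat_lit 2) (Steps.bwd (nat_lit 1) Steps.nil))))) (nat_lit 14) (nat_lit 0),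
  Rule.mk (nat_lit 1) (nat_lit 41) (Steps.bwd (nat_lit 3) (Steps.bwd (nat_lit 1) (Steps.fwd (nat_lit 4096) Steps.nil))) (nat_lit 22) (nat_lit 0),
  Rule.mk (nat_lit 3) (nat_lit 74) (Steps.bwd (nat_lit 3) (Steps.bwd (nat_lit 3) (Steps.bwd (nat_lit 3) (Steps.fwd (nat_lit 4096) (Steps.fwd (nat_lit 4096) (Steps.fwd (nat_lit 4096) Steps.nil)))))) (nat_lit 16) (nat_lit 0),
  Rule.mk (nat_lit 2) (nat_lit 96) (Steps.bwd (nat_lit 4) (Steps.fwd (nat_lit 2048) (Steps.fwd (nat_lit 3072) (Steps.fwd (nat_lit 3072) (Steps.fwd (nat_lit 2048) (Steps.fwd (nat_lit 4096) (Steps.fwd (nat_lit 4096) (Steps.bwd (nat_lit 3) Steps.nil)))))))) (nat_lit 24) (nat_lit 1),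
  Rule.mk (nat_lit 4) (nat_lit 96) (Steps.bwd (nat_lit 2) (Steps.bwd (nat_lit 3) (Steps.bwd (nat_lit 3) (Steps.fwd (nat_lit 4096) (Steps.bwd (nat_lit 2) (Steps.fwd (nat_lit 3072) (Steps.fwd (nat_lit 2048) (Steps.bwd (nat_lit 4) Steps.nil)))))))) (nat_lit 24) (nat_lit 7),
  Rule.mk (nat_lit 1) (nat_lit 41) (Steps.bwd (nat_lit 3) (Steps.fwd (nat_lit 1024) (Steps.fwd (nat_lit 4096) Steps.nil))) (nat_lit 22) (nat_lit 0),
  Rule.mk (nat_lit 3) (nat_lit 96) (Steps.bwd (nat_lit 2) (Steps.bwd (nat_lit 4) (Steps.bwd (nat_lit 2) (Steps.fwd (nat_lit 3072) (Steps.fwd (nat_lit 3072) (Steps.fwd (nat_lit 2048) (Steps.fwd (nat_lit 4096) (Steps.fwd (nat_lit 4096) Steps.nil)))))))) (nat_lit 24) (nat_lit 0),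
  Rule.mk (nat_lit 4) (nat_lit 96) (Steps.bwd (nat_lit 4) (Steps.bwd (nat_lit 2) (Steps.bwd (nat_lit 3) (Steps.fwd (nat_lit 4096) (Steps.fwd (nat_lit 4096) (Steps.fwd (nat_lit 2048) (Steps.fwd (nat_lit 3072) (Steps.fwd (nat_lit 2048) Steps.nil)))))))) (nat_lit 24) (nat_lit 6),
  Rule.mk (nat_lit 2) (nat_lit 96) (Steps.bwd (nat_lit 4) (Steps.bwd (nat_lit 4) (Steps.fwd (nat_lit 2048) (Steps.fwd (nat_lit 4096) (Steps.fwd (nat_lit 4096) (Steps.fwd (nat_lit 4096) (Steps.fwd (nat_lit 2048) (Steps.fwd (nat_lit 3072) Steps.nil)))))))) (nat_lit 24) (nat_lit 3),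
  Rule.mk (nat_lit 4) (nat_lit 96) (Steps.bwd (nat_lit 2) (Steps.bwd (nat_lit 4) (Steps.bwd (nat_lit 4) (Steps.fwd (nat_lit 2048) (Steps.bwd (nat_lit 3) (Steps.bwd (nat_lit 3) (Steps.bwd (nat_lit 3) (Steps.bwd (nat_lit 2) Steps.nil)))))))) (nat_lit 24) (nat_lit 2),
  Rule.mk (nat_lit 2) (nat_lit 96) (Steps.bwd (nat_lit 4) (Steps.fwd (nat_lit 2048) (Steps.fwd (nat_lit 3072) (Steps.fwd (nat_lit 3072) (Steps.bwd (nat_lit 2) (Steps.bwd (nat_lit 3) (Steps.bwd (nat_lit 3) (Steps.bwd (nat_lit 3) Steps.nil)))))))) (nat_lit 24) (nat_lit 1),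
  Rule.mk (nat_lit 4) (nat_lit 96) (Steps.bwd (nat_lit 2) (Steps.fwd (nat_lit 3072) (Steps.fwd (nat_lit 3072) (Steps.fwd (nat_lit 2048) (Steps.bwd (nat_lit 3) (Steps.bwd (nat_lit 3) (Steps.bwd (nat_lit 3) (Steps.fwd (nat_lit 2048) Steps.nil)))))))) (nat_lit 24) (nat_lit 2),
  Rule.mk (nat_lit 2) (nat_lit 96) (Steps.bwd (nat_lit 4) (Steps.bwd (nat_lit 2) (Steps.fwd (nat_lit 3072) (Steps.fwd (nat_lit 3072) (Steps.fwd (nat_lit 2048) (Steps.fwd (nat_lit 4096) (Steps.fwd (nat_lit 4096) (Steps.bwd (nat_lit 3) Steps.nil)))))))) (nat_lit 24) (nat_lit 1),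
  Rule.mk (nat_lit 3) (nat_lit 96) (Steps.bwd (nat_lit 2) (Steps.bwd (nat_lit 4) (Steps.bwd (nat_lit 2) (Steps.fwd (nat_lit 3072) (Steps.fwd (nat_lit 3072) (Steps.bwd (nat_lit 2) (Steps.fwd (nat_lit 4096) (Steps.fwd (nat_lit 4096) Steps.nil)))))))) (nat_lit 24) (nat_lit 0),
  Rule.mk (nat_lit 3) (nat_lit 74) (Steps.bwd (nat_lit 3) (Steps.bwd (nat_lit 3) (Steps.fwd (nat_lit 4096) (Steps.fwd (nat_lit 4096) (Steps.fwd (nat_lit 4096) (Steps.fwd (nat_lit 4096) Steps.nil)))))) (nat_lit 16) (nat_lit 0),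
  Rule.mk (nat_lit 2) (nat_lit 96) (Steps.bwd (nat_lit 4) (Steps.bwd (nat_lit 2) (Steps.fwd (nat_lit 3072) (Steps.fwd (nat_lit 3072) (Steps.bwd (nat_lit 2) (Steps.fwd (nat_lit 4096) (Steps.bwd (nat_lit 3) (Steps.bwd (nat_lit 3) Steps.nil)))))))) (nat_lit 24) (nat_lit 1),
  Rule.mk (nat_lit 1) (nat_lit 41) (Steps.fwd (nat_lit 4096) (Steps.fwd (nat_lit 1024) (Steps.bwd (nat_lit 3) Steps.nil))) (nat_lit 22) (nat_lit 0),
  Rule.mk (nat_lit 1) (nat_lit 41) (Steps.bwd (nat_lit 4) (Steps.bwd (nat_lit 1) (Steps.bwd (nat_lit 4) Steps.nil))) (nat_lit 23) (nat_lit 1),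
  Rule.mk (nat_lit 1) (nat_lit 41) (Steps.bwd (nat_lit 4) (Steps.bwd (nat_lit 1) (Steps.fwd (nat_lit 3072) Steps.nil))) (nat_lit 23) (nat_lit 1),
  Rule.mk (nat_lit 3) (nat_lit 74) (Steps.bwd (nat_lit 3) (Steps.fwd (nat_lit 4096) (Steps.fwd (nat_lit 4096) (Steps.fwd (nat_lit 4096) (Steps.fwd (nat_lit 4096) (Steps.fwd (nat_lit 4096) Steps.nil)))))) (nat_lit 16) (nat_lit 0),
  Rule.mk (nat_lit 4) (nat_lit 96) (Steps.bwd (nat_lit 2) (Steps.bwd (nat_lit 3) (Steps.fwd (nat_lit 4096) (Steps.fwd (nat_lit 4096) (Steps.bwd (nat_lit 2) (Steps.fwd (nat_lit 3072) (Steps.bwd (nat_lit 2) (Steps.bwd (nat_lit 4) Steps.nil)))))))) (nat_lit 24) (nat_lit 7),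
  Rule.mk (nat_lit 2) (nat_lit 96) (Steps.fwd (nat_lit 3072) (Steps.bwd (nat_lit 2) (Steps.fwd (nat_lit 3072) (Steps.fwd (nat_lit 3072) (Steps.fwd (nat_lit 2048) (Steps.fwd (nat_lit 4096) (Steps.fwd (nat_lit 4096) (Steps.bwd (nat_lit 3) Steps.nil)))))))) (nat_lit 24) (nat_lit 1),
  Rule.mk (nat_lit 4) (nat_lit 96) (Steps.bwd (nat_lit 2) (Steps.fwd (nat_lit 4096) (Steps.fwd (nat_lit 4096) (Steps.fwd (nat_lit 4096) (Steps.fwd (nat_lit 2048) (Steps.fwd (nat_lit 3072) (Steps.fwd (nat_lit 2048) (Steps.bwd (nat_lit 4) Steps.nil)))))))) (nat_lit 24) (nat_lit 7),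
  Rule.mk (nat_lit 2) (nat_lit 96) (Steps.bwd (nat_lit 4) (Steps.fwd (nat_lit 3072) (Steps.fwd (nat_lit 2048) (Steps.fwd (nat_lit 4096) (Steps.fwd (nat_lit 4096) (Steps.fwd (nat_lit 4096) (Steps.fwd (nat_lit 2048) (Steps.fwd (nat_lit 3072) Steps.nil)))))))) (nat_lit 24) (nat_lit 3),
  Rule.mk (nat_lit 2) (nat_lit 63) (Steps.bwd (nat_lit 1) (Steps.fwd (nat_lit 2048) (Steps.fwd (nat_lit 1024) (Steps.fwd (nat_lit 2048) (Steps.bwd (nat_lit 1) Steps.nil))))) (nat_lit 14) (nat_lit 0),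
  Rule.mk (nat_lit 2) (nat_lit 63) (Steps.bwd (nat_lit 1) (Steps.bwd (nat_lit 2) (Steps.fwd (nat_lit 1024) (Steps.fwd (nat_lit 2048) (Steps.fwd (nat_lit 1024) Steps.nil))))) (nat_lit 14) (nat_lit 0),
  Rule.mk (nat_lit 1) (nat_lit 63) (Steps.bwd (nat_lit 2) (Steps.bwd (nat_lit 1) (Steps.fwd (nat_lit 2048) (Steps.fwd (nat_lit 1024) (Steps.fwd (nat_lit 2048) Steps.nil))))) (nat_lit 14) (nat_lit 1),
  Rule.mk (nat_lit 4) (nat_lit 41) (Steps.bwd (nat_lit 1) (Steps.bwd (nat_lit 4) (Steps.fwd (nat_lit 1024) Steps.nil))) (nat_lit 23) (nat_lit 0),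
  Rule.mk (nat_lit 4) (nat_lit 41) (Steps.bwd (nat_lit 1) (Steps.bwd (nat_lit 4) (Steps.bwd (nat_lit 1) Steps.nil))) (nat_lit 23) (nat_lit 0),
  Rule.mk (nat_lit 2) (nat_lit 96) (Steps.bwd (nat_lit 4) (Steps.fwd (nat_lit 2048) (Steps.fwd (nat_lit 3072) (Steps.fwd (nat_lit 3072) (Steps.bwd (nat_lit 2) (Steps.fwd (nat_lit 4096) (Steps.fwd (nat_lit 4096) (Steps.bwd (nat_lit 3) Steps.nil)))))))) (nat_lit 24) (nat_lit 1),
  Rule.mk (nat_lit 2) (nat_lit 63) (Steps.bwd (nat_lit 1) (Steps.bwd (nat_lit 2) (Steps.bwd (nat_lit 1) (Steps.fwd (nat_lit 2048) (Steps.bwd (nat_lit 1) Steps.nil))))) (nat_lit 14) (nat_lit 0),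
  Rule.mk (nat_lit 4) (nat_lit 96) (Steps.bwd (nat_lit 4) (Steps.bwd (nat_lit 4) (Steps.fwd (nat_lit 2048) (Steps.bwd (nat_lit 3) (Steps.bwd (nat_lit 3) (Steps.fwd (nat_lit 2048) (Steps.bwd (nat_lit 3) (Steps.fwd (nat_lit 2048) Steps.nil)))))))) (nat_lit 25) (nat_lit 1),
  Rule.mk (nat_lit 2) (nat_lit 96) (Steps.bwd (nat_lit 4) (Steps.fwd (nat_lit 2048) (Steps.fwd (nat_lit 3072) (Steps.fwd (nat_lit 3072) (Steps.fwd (nat_lit 2048) (Steps.bwd (nat_lit 3) (Steps.bwd (nat_lit 3) (Steps.bwd (nat_lit 3) Steps.nil)))))))) (nat_lit 24) (nat_lit 1),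
  Rule.mk (nat_lit 4) (nat_lit 74) (Steps.bwd (nat_lit 4) (Steps.bwd (nat_lit 4) (Steps.bwd (nat_lit 4) (Steps.bwd (nat_lit 4) (Steps.bwd (nat_lit 4) (Steps.bwd (nat_lit 4) Steps.nil)))))) (nat_lit 17) (nat_lit 0),
  Rule.mk (nat_lit 4) (nat_lit 96) (Steps.bwd (nat_lit 2) (Steps.bwd (nat_lit 3) (Steps.bwd (nat_lit 3) (Steps.bwd (nat_lit 3) (Steps.fwd (nat_lit 2048) (Steps.fwd (nat_lit 3072) (Steps.bwd (nat_lit 2) (Steps.bwd (nat_lit 4) Steps.nil)))))))) (nat_lit 24) (nat_lit 7),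
  Rule.mk (nat_lit 3) (nat_lit 96) (Steps.bwd (nat_lit 2) (Steps.fwd (nat_lit 3072) (Steps.fwd (nat_lit 2048) (Steps.fwd (nat_lit 3072) (Steps.fwd (nat_lit 3072) (Steps.bwd (nat_lit 2) (Steps.fwd (nat_lit 4096) (Steps.fwd (nat_lit 4096) Steps.nil)))))))) (nat_lit 24) (nat_lit 0),
  Rule.mk (nat_lit 4) (nat_lit 96) (Steps.bwd (nat_lit 4) (Steps.fwd (nat_lit 2048) (Steps.bwd (nat_lit 3) (Steps.fwd (nat_lit 4096) (Steps.bwd (nat_lit 3) (Steps.fwd (nat_lit 2048) (Steps.bwd (nat_lit 4) (Steps.fwd (nat_lit 2048) Steps.nil)))))))) (nat_lit 24) (nat_lit 6),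
  Rule.mk (nat_lit 4) (nat_lit 41) (Steps.fwd (nat_lit 1024) (Steps.bwd (nat_lit 4) (Steps.bwd (nat_lit 1) Steps.nil))) (nat_lit 23) (nat_lit 0),
  Rule.mk (nat_lit 1) (nat_lit 63) (Steps.bwd (nat_lit 2) (Steps.bwd (nat_lit 1) (Steps.bwd (nat_lit 2) (Steps.bwd (nat_lit 1) (Steps.bwd (nat_lit 2) Steps.nil))))) (nat_lit 14) (nat_lit 1),
  Rule.mk (nat_lit 3) (nat_lit 41) (Steps.fwd (nat_lit 1024) (Steps.fwd (nat_lit 4096) (Steps.bwd (nat_lit 1) Steps.nil))) (nat_lit 22) (nat_lit 1),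
  Rule.mk (nat_lit 2) (nat_lit 63) (Steps.bwd (nat_lit 1) (Steps.fwd (nat_lit 2048) (Steps.fwd (nat_lit 1024) (Steps.fwd (nat_lit 2048) (Steps.fwd (nat_lit 1024) Steps.nil))))) (nat_lit 14) (nat_lit 0),
  Rule.mk (nat_lit 3) (nat_lit 96) (Steps.bwd (nat_lit 2) (Steps.fwd (nat_lit 3072) (Steps.fwd (nat_lit 3072) (Steps.fwd (nat_lit 3072) (Steps.bwd (nat_lit 2) (Steps.bwd (nat_lit 3) (Steps.bwd (nat_lit 3) (Steps.bwd (nat_lit 2) Steps.nil)))))))) (nat_lit 25) (nat_lit 10),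
  Rule.mk (nat_lit 2) (nat_lit 96) (Steps.bwd (nat_lit 4) (Steps.bwd (nat_lit 2) (Steps.fwd (nat_lit 3072) (Steps.fwd (nat_lit 3072) (Steps.bwd (nat_lit 2) (Steps.fwd (nat_lit 4096) (Steps.fwd (nat_lit 4096) (Steps.bwd (nat_lit 3) Steps.nil)))))))) (nat_lit 24) (nat_lit 1)]
noncomputable def R_1 : List (Rule) := [Rule.mk (nat_lit 4) (nat_lit 96) (Steps.bwd (nat_lit 4) (Steps.fwd (nat_lit 2048) (Steps.bwd (nat_lit 3) (Steps.fwd (nat_lit 4096) (Steps.bwd (nat_lit 3) (Steps.fwd (nat_lit 2048) (Steps.fwd (nat_lit 3072) (Steps.fwd (nat_lit 2048) Steps.nil)))))))) (nat_lit 24) (nat_lit 6),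
  Rule.mk (nat_lit 1) (nat_lit 63) (Steps.fwd (nat_lit 2048) (Steps.bwd (nat_lit 1) (Steps.fwd (nat_lit 2048) (Steps.fwd (nat_lit 1024) (Steps.fwd (nat_lit 2048) Steps.nil))))) (nat_lit 14) (nat_lit 1),
  Rule.mk (nat_lit 1) (nat_lit 41) (Steps.fwd (nat_lit 4096) (Steps.bwd (nat_lit 1) (Steps.fwd (nat_lit 4096) Steps.nil))) (nat_lit 22) (nat_lit 0),
  Rule.mk (nat_lit 0) (nat_lit 107) (Steps.fwd (nat_lit 3072) (Steps.fwd (nat_lit 3072) (Steps.fwd (nat_lit 3072) (Steps.bwd (nat_lit 2) (Steps.fwd (nat_lit 4096) (Steps.bwd (nat_lit 3) (Steps.fwd (nat_lit 2048) (Steps.bwd (nat_lit 3) (Steps.fwd (nat_lit 2048) Steps.nil))))))))) (nat_lit 25) (nat_lit 0),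
  Rule.mk (nat_lit 3) (nat_lit 30) (Steps.bwd (nat_lit 0) (Steps.fwd (nat_lit 3072) Steps.nil)) (nat_lit 60) (nat_lit 0),
  Rule.mk (nat_lit 0) (nat_lit 41) (Steps.fwd (nat_lit 3072) (Steps.fwd (nat_lit 0) (Steps.bwd (nat_lit 3) Steps.nil))) (nat_lit 60) (nat_lit 0),
  Rule.mk (nat_lit 4) (nat_lit 30) (Steps.bwd (nat_lit 0) (Steps.bwd (nat_lit 3) Steps.nil)) (nat_lit 60) (nat_lit 0),
  Rule.mk (nat_lit 2) (nat_lit 96) (Steps.bwd (nat_lit 4) (Steps.bwd (nat_lit 4) (Steps.bwd (nat_lit 2) (Steps.fwd (nat_lit 4096) (Steps.bwd (nat_lit 3) (Steps.fwd (nat_lit 4096) (Steps.bwd (nat_lit 2) (Steps.fwd (nat_lit 3072) Steps.nil)))))))) (nat_lit 24) (nat_lit 3),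
  Rule.mk (nat_lit 3) (nat_lit 74) (Steps.bwd (nat_lit 3) (Steps.fwd (nat_lit 4096) (Steps.fwd (nat_lit 4096) (Steps.fwd (nat_lit 4096) (Steps.fwd (nat_lit 4096) (Steps.bwd (nat_lit 3) Steps.nil)))))) (nat_lit 16) (nat_lit 0),
  Rule.mk (nat_lit 4) (nat_lit 96) (Steps.bwd (nat_lit 2) (Steps.bwd (nat_lit 3) (Steps.fwd (nat_lit 4096) (Steps.fwd (nat_lit 4096) (Steps.bwd (nat_lit 2) (Steps.fwd (nat_lit 3072) (Steps.fwd (nat_lit 2048) (Steps.bwd (nat_lit 4) Steps.nil)))))))) (nat_lit 24) (nat_lit 7),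
  Rule.mk (nat_lit 4) (nat_lit 74) (Steps.bwd (nat_lit 4) (Steps.fwd (nat_lit 3072) (Steps.bwd (nat_lit 4) (Steps.bwd (nat_lit 4) (Steps.bwd (nat_lit 4) (Steps.bwd (nat_lit 4) Steps.nil)))))) (nat_lit 17) (nat_lit 0),
  Rule.mk (nat_lit 1) (nat_lit 41) (Steps.fwd (nat_lit 3072) (Steps.bwd (nat_lit 1) (Steps.bwd (nat_lit 4) Steps.nil))) (nat_lit 23) (nat_lit 1),
  Rule.mk (nat_lit 0) (nat_lit 52) (Steps.bwd (nat_lit 3) (Steps.fwd (nat_lit 1024) (Steps.bwd (nat_lit 3) (Steps.fwd (nat_lit 1024) Steps.nil)))) (nat_lit 22) (nat_lit 0),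
  Rule.mk (nat_lit 4) (nat_lit 96) (Steps.bwd (nat_lit 4) (Steps.bwd (nat_lit 2) (Steps.fwd (nat_lit 4096) (Steps.bwd (nat_lit 3) (Steps.bwd (nat_lit 3) (Steps.bwd (nat_lit 2) (Steps.fwd (nat_lit 3072) (Steps.bwd (nat_lit 2) Steps.nil)))))))) (nat_lit 24) (nat_lit 6),
  Rule.mk (nat_lit 2) (nat_lit 96) (Steps.bwd (nat_lit 4) (Steps.fwd (nat_lit 2048) (Steps.fwd (nat_lit 3072) (Steps.fwd (nat_lit 3072) (Steps.bwd (nat_lit 2) (Steps.fwd (nat_lit 4096) (Steps.bwd (nat_lit 3) (Steps.bwd (nat_lit 3) Steps.nil)))))))) (nat_lit 24) (nat_lit 1),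
  Rule.mk (nat_lit 4) (nat_lit 41) (Steps.bwd (nat_lit 1) (Steps.fwd (nat_lit 3072) (Steps.bwd (nat_lit 1) Steps.nil))) (nat_lit 23) (nat_lit 0),
  Rule.mk (nat_lit 4) (nat_lit 96) (Steps.bwd (nat_lit 4) (Steps.bwd (nat_lit 2) (Steps.bwd (nat_lit 3) (Steps.bwd (nat_lit 3) (Steps.bwd (nat_lit 3) (Steps.fwd (nat_lit 2048) (Steps.fwd (nat_lit 3072) (Steps.bwd (nat_lit 2) Steps.nil)))))))) (nat_lit 24) (nat_lit 6),
  Rule.mk (nat_lit 1) (nat_lit 41) (Steps.bwd (nat_lit 4) (Steps.fwd (nat_lit 1024) (Steps.bwd (nat_lit 4) Steps.nil))) (nat_lit 23) (nat_lit 1),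
  Rule.mk (nat_lit 3) (nat_lit 74) (Steps.bwd (nat_lit 3) (Steps.bwd (nat_lit 3) (Steps.bwd (nat_lit 3) (Steps.bwd (nat_lit 3) (Steps.bwd (nat_lit 3) (Steps.fwd (nat_lit 4096) Steps.nil)))))) (nat_lit 16) (nat_lit 0),
  Rule.mk (nat_lit 1) (nat_lit 41) (Steps.fwd (nat_lit 4096) (Steps.bwd (nat_lit 1) (Steps.bwd (nat_lit 3) Steps.nil))) (nat_lit 22) (nat_lit 0),
  Rule.mk (nat_lit 4) (nat_lit 96) (Steps.bwd (nat_lit 4) (Steps.bwd (nat_lit 2) (Steps.bwd (nat_lit 3) (Steps.bwd (nat_lit 3) (Steps.bwd (nat_lit 3) (Steps.bwd (nat_lit 2) (Steps.fwd (nat_lit 3072) (Steps.bwd (nat_lit 2) Steps.nil)))))))) (nat_lit 24) (nat_lit 6),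
  Rule.mk (nat_lit 3) (nat_lit 74) (Steps.bwd (nat_lit 3) (Steps.bwd (nat_lit 3) (Steps.bwd (nat_lit 3) (Steps.fwd (nat_lit 4096) (Steps.bwd (nat_lit 3) (Steps.bwd (nat_lit 3) Steps.nil)))))) (nat_lit 16) (nat_lit 0),
  Rule.mk (nat_lit 4) (nat_lit 96) (Steps.bwd (nat_lit 4) (Steps.bwd (nat_lit 2) (Steps.bwd (nat_lit 3) (Steps.fwd (nat_lit 4096) (Steps.bwd (nat_lit 3) (Steps.fwd (nat_lit 2048) (Steps.fwd (nat_lit 3072) (Steps.bwd (nat_lit 2) Steps.nil)))))))) (nat_lit 24) (nat_lit 6),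
  Rule.mk (nat_lit 3) (nat_lit 74) (Steps.bwd (nat_lit 3) (Steps.bwd (nat_lit 3) (Steps.fwd (nat_lit 4096) (Steps.bwd (nat_lit 3) (Steps.fwd (nat_lit 4096) (Steps.bwd (nat_lit 3) Steps.nil)))))) (nat_lit 16) (nat_lit 0),
  Rule.mk (nat_lit 4) (nat_lit 96) (Steps.bwd (nat_lit 2) (Steps.bwd (nat_lit 4) (Steps.bwd (nat_lit 4) (Steps.bwd (nat_lit 2) (Steps.fwd (nat_lit 4096) (Steps.bwd (nat_lit 3) (Steps.fwd (nat_lit 4096) (Steps.fwd (nat_lit 2048) Steps.nil)))))))) (nat_lit 24) (nat_lit 2),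
  Rule.mk (nat_lit 1) (nat_lit 63) (Steps.fwd (nat_lit 2048) (Steps.bwd (nat_lit 1) (Steps.fwd (nat_lit 2048) (Steps.bwd (nat_lit 1) (Steps.fwd (nat_lit 2048) Steps.nil))))) (nat_lit 14) (nat_lit 1),
  Rule.mk (nat_lit 0) (nat_lit 52) (Steps.fwd (nat_lit 3072) (Steps.fwd (nat_lit 1024) (Steps.bwd (nat_lit 4) (Steps.fwd (nat_lit 1024) Steps.nil)))) (nat_lit 23) (nat_lit 1),
  Rule.mk (nat_lit 2) (nat_lit 63) (Steps.bwd (nat_lit 1) (Steps.bwd (nat_lit 2) (Steps.fwd (nat_lit 1024) (Steps.bwd (nat_lit 2) (Steps.fwd (nat_lit 1024) Steps.nil))))) (nat_lit 14) (nat_lit 0),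
  Rule.mk (nat_lit 2) (nat_lit 96) (Steps.bwd (nat_lit 4) (Steps.fwd (nat_lit 2048) (Steps.fwd (nat_lit 3072) (Steps.fwd (nat_lit 3072) (Steps.fwd (nat_lit 2048) (Steps.fwd (nat_lit 4096) (Steps.bwd (nat_lit 3) (Steps.bwd (nat_lit 3) Steps.nil)))))))) (nat_lit 24) (nat_lit 1),
  Rule.mk (nat_lit 2) (nat_lit 96) (Steps.fwd (nat_lit 3072) (Steps.fwd (nat_lit 3072) (Steps.bwd (nat_lit 2) (Steps.bwd (nat_lit 3) (Steps.bwd (nat_lit 3) (Steps.bwd (nat_lit 3) (Steps.bwd (nat_lit 2) (Steps.bwd (nat_lit 4) Steps.nil)))))))) (nat_lit 24) (nat_lit 3),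
  Rule.mk (nat_lit 3) (nat_lit 74) (Steps.bwd (nat_lit 3) (Steps.bwd (nat_lit 3) (Steps.bwd (nat_lit 3) (Steps.fwd (nat_lit 4096) (Steps.fwd (nat_lit 4096) (Steps.bwd (nat_lit 3) Steps.nil)))))) (nat_lit 16) (nat_lit 0),
  Rule.mk (nat_lit 4) (nat_lit 96) (Steps.bwd (nat_lit 2) (Steps.bwd (nat_lit 3) (Steps.fwd (nat_lit 4096) (Steps.fwd (nat_lit 4096) (Steps.fwd (nat_lit 2048) (Steps.fwd (nat_lit 3072) (Steps.bwd (nat_lit 2) (Steps.bwd (nat_lit 4) Steps.nil)))))))) (nat_lit 24) (nat_lit 7),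
  Rule.mk (nat_lit 2) (nat_lit 96) (Steps.bwd (nat_lit 4) (Steps.bwd (nat_lit 2) (Steps.fwd (nat_lit 3072) (Steps.fwd (nat_lit 3072) (Steps.bwd (nat_lit 2) (Steps.bwd (nat_lit 3) (Steps.bwd (nat_lit 3) (Steps.bwd (nat_lit 3) Steps.nil)))))))) (nat_lit 24) (nat_lit 1),
  Rule.mk (nat_lit 0) (nat_lit 107) (Steps.fwd (nat_lit 3072) (Steps.fwd (nat_lit 3072) (Steps.fwd (nat_lit 3072) (Steps.fwd (nat_lit 2048) (Steps.bwd (nat_lit 3) (Steps.bwd (nat_lit 3) (Steps.fwd (nat_lit 2048) (Steps.fwd (nat_lit 4096) (Steps.bwd (nat_lit 2) Steps.nil))))))))) (nat_lit 25) (nat_lit 0),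
  Rule.mk (nat_lit 4) (nat_lit 96) (Steps.bwd (nat_lit 2) (Steps.bwd (nat_lit 3) (Steps.fwd (nat_lit 4096) (Steps.fwd (nat_lit 4096) (Steps.fwd (nat_lit 2048) (Steps.fwd (nat_lit 3072) (Steps.fwd (nat_lit 2048) (Steps.bwd (nat_lit 4) Steps.nil)))))))) (nat_lit 24) (nat_lit 7),
  Rule.mk (nat_lit 4) (nat_lit 96) (Steps.bwd (nat_lit 2) (Steps.bwd (nat_lit 3) (Steps.bwd (nat_lit 3) (Steps.fwd (nat_lit 2048) (Steps.fwd (nat_lit 4096) (Steps.bwd (nat_lit 2) (Steps.bwd (nat_lit 4) (Steps.bwd (nat_lit 4) Steps.nil)))))))) (nat_lit 25) (nat_lit 3),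
  Rule.mk (nat_lit 0) (nat_lit 107) (Steps.fwd (nat_lit 4096) (Steps.fwd (nat_lit 2048) (Steps.fwd (nat_lit 3072) (Steps.fwd (nat_lit 3072) (Steps.fwd (nat_lit 3072) (Steps.bwd (nat_lit 2) (Steps.bwd (nat_lit 3) (Steps.bwd (nat_lit 3) (Steps.bwd (nat_lit 2) Steps.nil))))))))) (nat_lit 25) (nat_lit 9),
  Rule.mk (nat_lit 3) (nat_lit 30) (Steps.bwd (nat_lit 0) (Steps.bwd (nat_lit 4) Steps.nil)) (nat_lit 60) (nat_lit 0),
  Rule.mk (nat_lit 4) (nat_lit 30) (Steps.bwd (nat_lit 0) (Steps.fwd (nat_lit 4096) Steps.nil)) (nat_lit 60) (nat_lit 0),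
  Rule.mk (nat_lit 1) (nat_lit 63) (Steps.bwd (nat_lit 2) (Steps.fwd (nat_lit 1024) (Steps.bwd (nat_lit 2) (Steps.fwd (nat_lit 1024) (Steps.fwd (nat_lit 2048) Steps.nil))))) (nat_lit 14) (nat_lit 1),
  Rule.mk (nat_lit 0) (nat_lit 107) (Steps.fwd (nat_lit 3072) (Steps.fwd (nat_lit 3072) (Steps.fwd (nat_lit 3072) (Steps.fwd (nat_lit 2048) (Steps.bwd (nat_lit 3) (Steps.bwd (nat_lit 3) (Steps.bwd (nat_lit 2) (Steps.bwd (nat_lit 3) (Steps.fwd (nat_lit 2048) Steps.nil))))))))) (nat_lit 25) (nat_lit 0),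
  Rule.mk (nat_lit 4) (nat_lit 96) (Steps.bwd (nat_lit 2) (Steps.bwd (nat_lit 4) (Steps.fwd (nat_lit 3072) (Steps.fwd (nat_lit 2048) (Steps.bwd (nat_lit 3) (Steps.bwd (nat_lit 3) (Steps.bwd (nat_lit 3) (Steps.bwd (nat_lit 2) Steps.nil)))))))) (nat_lit 24) (nat_lit 2),
  Rule.mk (nat_lit 4) (nat_lit 96) (Steps.bwd (nat_lit 2) (Steps.bwd (nat_lit 3) (Steps.fwd (nat_lit 4096) (Steps.bwd (nat_lit 3) (Steps.bwd (nat_lit 2) (Steps.fwd (nat_lit 3072) (Steps.fwd (nat_lit 2048) (Steps.bwd (nat_lit 4) Steps.nil)))))))) (nat_lit 24) (nat_lit 7),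
  Rule.mk (nat_lit 3) (nat_lit 96) (Steps.bwd (nat_lit 2) (Steps.bwd (nat_lit 4) (Steps.bwd (nat_lit 2) (Steps.fwd (nat_lit 3072) (Steps.fwd (nat_lit 3072) (Steps.bwd (nat_lit 2) (Steps.bwd (nat_lit 3) (Steps.fwd (nat_lit 4096) Steps.nil)))))))) (nat_lit 24) (nat_lit 0),
  Rule.mk (nat_lit 4) (nat_lit 96) (Steps.bwd (nat_lit 4) (Steps.fwd (nat_lit 2048) (Steps.fwd (nat_lit 4096) (Steps.fwd (nat_lit 4096) (Steps.fwd (nat_lit 4096) (Steps.fwd (nat_lit 2048) (Steps.fwd (nat_lit 3072) (Steps.bwd (nat_lit 2) Steps.nil)))))))) (nat_lit 24) (nat_lit 6),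
  Rule.mk (nat_lit 4) (nat_lit 96) (Steps.bwd (nat_lit 4) (Steps.fwd (nat_lit 2048) (Steps.bwd (nat_lit 3) (Steps.bwd (nat_lit 3) (Steps.fwd (nat_lit 4096) (Steps.bwd (nat_lit 2) (Steps.bwd (nat_lit 4) (Steps.bwd (nat_lit 2) Steps.nil)))))))) (nat_lit 24) (nat_lit 6),
  Rule.mk (nat_lit 2) (nat_lit 96) (Steps.bwd (nat_lit 4) (Steps.bwd (nat_lit 4) (Steps.fwd (nat_lit 2048) (Steps.bwd (nat_lit 3) (Steps.bwd (nat_lit 3) (Steps.bwd (nat_lit 3) (Steps.bwd (nat_lit 2) (Steps.bwd (nat_lit 4) Steps.nil)))))))) (nat_lit 24) (nat_lit 3),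
  Rule.mk (nat_lit 4) (nat_lit 96) (Steps.bwd (nat_lit 2) (Steps.bwd (nat_lit 4) (Steps.fwd (nat_lit 3072) (Steps.bwd (nat_lit 2) (Steps.bwd (nat_lit 3) (Steps.bwd (nat_lit 3) (Steps.bwd (nat_lit 3) (Steps.bwd (nat_lit 2) Steps.nil)))))))) (nat_lit 24) (nat_lit 2),
  Rule.mk (nat_lit 4) (nat_lit 96) (Steps.fwd (nat_lit 2048) (Steps.fwd (nat_lit 4096) (Steps.fwd (nat_lit 4096) (Steps.fwd (nat_lit 4096) (Steps.fwd (nat_lit 2048) (Steps.fwd (nat_lit 3072) (Steps.bwd (nat_lit 2) (Steps.bwd (nat_lit 4) Steps.nil)))))))) (nat_lit 24) (nat_lit 7),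
  Rule.mk (nat_lit 4) (nat_lit 96) (Steps.bwd (nat_lit 2) (Steps.bwd (nat_lit 3) (Steps.bwd (nat_lit 3) (Steps.fwd (nat_lit 4096) (Steps.bwd (nat_lit 2) (Steps.fwd (nat_lit 3072) (Steps.bwd (nat_lit 2) (Steps.fwd (nat_lit 3072) Steps.nil)))))))) (nat_lit 24) (nat_lit 7),
  Rule.mk (nat_lit 2) (nat_lit 96) (Steps.fwd (nat_lit 3072) (Steps.fwd (nat_lit 2048) (Steps.fwd (nat_lit 3072) (Steps.fwd (nat_lit 3072) (Steps.fwd (nat_lit 2048) (Steps.fwd (nat_lit 4096) (Steps.fwd (nat_lit 4096) (Steps.bwd (nat_lit 3) Steps.nil)))))))) (nat_lit 24) (nat_lit 1),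
  Rule.mk (nat_lit 1) (nat_lit 63) (Steps.fwd (nat_lit 2048) (Steps.fwd (nat_lit 1024) (Steps.bwd (nat_lit 2) (Steps.bwd (nat_lit 1) (Steps.bwd (nat_lit 2) Steps.nil))))) (nat_lit 14) (nat_lit 1),
  Rule.mk (nat_lit 2) (nat_lit 96) (Steps.bwd (nat_lit 3) (Steps.fwd (nat_lit 2048) (Steps.bwd (nat_lit 4) (Steps.fwd (nat_lit 3072) (Steps.fwd (nat_lit 3072) (Steps.bwd (nat_lit 2) (Steps.bwd (nat_lit 3) (Steps.bwd (nat_lit 3) Steps.nil)))))))) (nat_lit 25) (nat_lit 9),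
  Rule.mk (nat_lit 4) (nat_lit 96) (Steps.bwd (nat_lit 4) (Steps.fwd (nat_lit 2048) (Steps.bwd (nat_lit 3) (Steps.fwd (nat_lit 4096) (Steps.bwd (nat_lit 3) (Steps.bwd (nat_lit 2) (Steps.fwd (nat_lit 3072) (Steps.bwd (nat_lit 2) Steps.nil)))))))) (nat_lit 24) (nat_lit 6),
  Rule.mk (nat_lit 4) (nat_lit 96) (Steps.bwd (nat_lit 2) (Steps.bwd (nat_lit 3) (Steps.bwd (nat_lit 3) (Steps.bwd (nat_lit 3) (Steps.bwd (nat_lit 2) (Steps.fwd (nat_lit 3072) (Steps.bwd (nat_lit 2) (Steps.bwd (nat_lit 4) Steps.nil)))))))) (nat_lit 24) (nat_lit 7),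
  Rule.mk (nat_lit 2) (nat_lit 96) (Steps.bwd (nat_lit 4) (Steps.bwd (nat_lit 4) (Steps.bwd (nat_lit 2) (Steps.bwd (nat_lit 3) (Steps.bwd (nat_lit 3) (Steps.bwd (nat_lit 3) (Steps.bwd (nat_lit 2) (Steps.fwd (nat_lit 3072) Steps.nil)))))))) (nat_lit 24) (nat_lit 3),
  Rule.mk (nat_lit 4) (nat_lit 96) (Steps.bwd (nat_lit 2) (Steps.fwd (nat_lit 4096) (Steps.fwd (nat_lit 4096) (Steps.fwd (nat_lit 4096) (Steps.fwd (nat_lit 2048) (Steps.fwd (nat_lit 3072) (Steps.bwd (nat_lit 2) (Steps.fwd (nat_lit 3072) Steps.nil)))))))) (nat_lit 24) (nat_lit 7),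
  Rule.mk (nat_lit 2) (nat_lit 96) (Steps.fwd (nat_lit 3072) (Steps.fwd (nat_lit 2048) (Steps.fwd (nat_lit 3072) (Steps.fwd (nat_lit 3072) (Steps.bwd (nat_lit 2) (Steps.fwd (nat_lit 4096) (Steps.bwd (nat_lit 3) (Steps.bwd (nat_lit 3) Steps.nil)))))))) (nat_lit 24) (nat_lit 1),
  Rule.mk (nat_lit 4) (nat_lit 96) (Steps.bwd (nat_lit 2) (Steps.bwd (nat_lit 3) (Steps.fwd (nat_lit 4096) (Steps.bwd (nat_lit 3) (Steps.fwd (nat_lit 2048) (Steps.fwd (nat_lit 3072) (Steps.fwd (nat_lit 2048) (Steps.fwd (nat_lit 3072) Steps.nil)))))))) (nat_lit 24) (nat_lit 7),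
  Rule.mk (nat_lit 3) (nat_lit 74) (Steps.bwd (nat_lit 3) (Steps.bwd (nat_lit 3) (Steps.fwd (nat_lit 4096) (Steps.fwd (nat_lit 4096) (Steps.fwd (nat_lit 4096) (Steps.bwd (nat_lit 3) Steps.nil)))))) (nat_lit 16) (nat_lit 0),
  Rule.mk (nat_lit 3) (nat_lit 74) (Steps.bwd (nat_lit 3) (Steps.fwd (nat_lit 4096) (Steps.bwd (nat_lit 3) (Steps.bwd (nat_lit 3) (Steps.fwd (nat_lit 4096) (Steps.bwd (nat_lit 3) Steps.nil)))))) (nat_lit 16) (nat_lit 0),
  Rule.mk (nat_lit 4) (nat_lit 96) (Steps.bwd (nat_lit 4) (Steps.bwd (nat_lit 2) (Steps.bwd (nat_lit 3) (Steps.bwd (nat_lit 3) (Steps.fwd (nat_lit 4096) (Steps.bwd (nat_lit 2) (Steps.fwd (nat_lit 3072) (Steps.bwd (nat_lit 2) Steps.nil)))))))) (nat_lit 24) (nat_lit 6),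
  Rule.mk (nat_lit 4) (nat_lit 96) (Steps.fwd (nat_lit 2048) (Steps.bwd (nat_lit 3) (Steps.fwd (nat_lit 4096) (Steps.bwd (nat_lit 2) (Steps.fwd (nat_lit 4096) (Steps.bwd (nat_lit 2) (Steps.bwd (nat_lit 4) (Steps.bwd (nat_lit 4) Steps.nil)))))))) (nat_lit 25) (nat_lit 3),
  Rule.mk (nat_lit 4) (nat_lit 96) (Steps.bwd (nat_lit 4) (Steps.fwd (nat_lit 2048) (Steps.bwd (nat_lit 3) (Steps.fwd (nat_lit 4096) (Steps.bwd (nat_lit 3) (Steps.fwd (nat_lit 2048) (Steps.fwd (nat_lit 3072) (Steps.bwd (nat_lit 2) Steps.nil)))))))) (nat_lit 24) (nat_lit 6)]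
noncomputable def R_2 : List (Rule) := [Rule.mk (nat_lit 2) (nat_lit 96) (Steps.fwd (nat_lit 3072) (Steps.fwd (nat_lit 2048) (Steps.fwd (nat_lit 3072) (Steps.bwd (nat_lit 4) (Steps.fwd (nat_lit 2048) (Steps.bwd (nat_lit 3) (Steps.bwd (nat_lit 3) (Steps.bwd (nat_lit 3) Steps.nil)))))))) (nat_lit 24) (nat_lit 1),
  Rule.mk (nat_lit 2) (nat_lit 96) (Steps.bwd (nat_lit 4) (Steps.bwd (nat_lit 2) (Steps.fwd (nat_lit 3072) (Steps.bwd (nat_lit 4) (Steps.fwd (nat_lit 2048) (Steps.bwd (nat_lit 3) (Steps.bwd (nat_lit 3) (Steps.bwd (nat_lit 3) Steps.nil)))))))) (nat_lit 24) (nat_lit 1),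
  Rule.mk (nat_lit 2) (nat_lit 96) (Steps.bwd (nat_lit 4) (Steps.bwd (nat_lit 4) (Steps.bwd (nat_lit 2) (Steps.fwd (nat_lit 4096) (Steps.bwd (nat_lit 3) (Steps.bwd (nat_lit 3) (Steps.fwd (nat_lit 2048) (Steps.fwd (nat_lit 3072) Steps.nil)))))))) (nat_lit 24) (nat_lit 3),
  Rule.mk (nat_lit 1) (nat_lit 63) (Steps.bwd (nat_lit 2) (Steps.fwd (nat_lit 1024) (Steps.bwd (nat_lit 2) (Steps.fwd (nat_lit 1024) (Steps.bwd (nat_lit 2) Steps.nil))))) (nat_lit 14) (nat_lit 1),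
  Rule.mk (nat_lit 3) (nat_lit 96) (Steps.fwd (nat_lit 4096) (Steps.fwd (nat_lit 4096) (Steps.fwd (nat_lit 2048) (Steps.bwd (nat_lit 4) (Steps.bwd (nat_lit 2) (Steps.bwd (nat_lit 4) (Steps.fwd (nat_lit 3072) (Steps.bwd (nat_lit 2) Steps.nil)))))))) (nat_lit 24) (nat_lit 9),
  Rule.mk (nat_lit 2) (nat_lit 96) (Steps.bwd (nat_lit 4) (Steps.bwd (nat_lit 4) (Steps.fwd (nat_lit 2048) (Steps.bwd (nat_lit 3) (Steps.bwd (nat_lit 3) (Steps.fwd (nat_lit 4096) (Steps.bwd (nat_lit 2) (Steps.bwd (nat_lit 4) Steps.nil)))))))) (nat_lit 24) (nat_lit 3),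
  Rule.mk (nat_lit 3) (nat_lit 96) (Steps.bwd (nat_lit 2) (Steps.fwd (nat_lit 3072) (Steps.bwd (nat_lit 4) (Steps.fwd (nat_lit 3072) (Steps.bwd (nat_lit 2) (Steps.fwd (nat_lit 4096) (Steps.fwd (nat_lit 4096) (Steps.bwd (nat_lit 2) Steps.nil)))))))) (nat_lit 25) (nat_lit 10),
  Rule.mk (nat_lit 4) (nat_lit 74) (Steps.bwd (nat_lit 4) (Steps.bwd (nat_lit 4) (Steps.fwd (nat_lit 3072) (Steps.bwd (nat_lit 4) (Steps.bwd (nat_lit 4) (Steps.bwd (nat_lit 4) Steps.nil)))))) (nat_lit 17) (nat_lit 0),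
  Rule.mk (nat_lit 2) (nat_lit 96) (Steps.bwd (nat_lit 3) (Steps.bwd (nat_lit 2) (Steps.fwd (nat_lit 3072) (Steps.fwd (nat_lit 3072) (Steps.fwd (nat_lit 3072) (Steps.bwd (nat_lit 2) (Steps.bwd (nat_lit 3) (Steps.bwd (nat_lit 3) Steps.nil)))))))) (nat_lit 25) (nat_lit 9),
  Rule.mk (nat_lit 2) (nat_lit 96) (Steps.fwd (nat_lit 3072) (Steps.fwd (nat_lit 3072) (Steps.bwd (nat_lit 2) (Steps.bwd (nat_lit 3) (Steps.fwd (nat_lit 4096) (Steps.fwd (nat_lit 4096) (Steps.bwd (nat_lit 2) (Steps.bwd (nat_lit 4) Steps.nil)))))))) (nat_lit 24) (nat_lit 3),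
  Rule.mk (nat_lit 1) (nat_lit 63) (Steps.bwd (nat_lit 2) (Steps.fwd (nat_lit 1024) (Steps.fwd (nat_lit 2048) (Steps.fwd (nat_lit 1024) (Steps.fwd (nat_lit 2048) Steps.nil))))) (nat_lit 14) (nat_lit 1),
  Rule.mk (nat_lit 3) (nat_lit 96) (Steps.bwd (nat_lit 2) (Steps.fwd (nat_lit 3072) (Steps.fwd (nat_lit 2048) (Steps.fwd (nat_lit 3072) (Steps.fwd (nat_lit 3072) (Steps.fwd (nat_lit 2048) (Steps.fwd (nat_lit 4096) (Steps.fwd (nat_lit 4096) Steps.nil)))))))) (nat_lit 24) (nat_lit 0),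
  Rule.mk (nat_lit 3) (nat_lit 96) (Steps.fwd (nat_lit 2048) (Steps.bwd (nat_lit 4) (Steps.fwd (nat_lit 3072) (Steps.fwd (nat_lit 3072) (Steps.fwd (nat_lit 2048) (Steps.fwd (nat_lit 4096) (Steps.fwd (nat_lit 4096) (Steps.bwd (nat_lit 2) Steps.nil)))))))) (nat_lit 25) (nat_lit 10),
  Rule.mk (nat_lit 2) (nat_lit 63) (Steps.bwd (nat_lit 1) (Steps.fwd (nat_lit 2048) (Steps.bwd (nat_lit 1) (Steps.bwd (nat_lit 2) (Steps.fwd (nat_lit 1024) Steps.nil))))) (nat_lit 14) (nat_lit 0),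
  Rule.mk (nat_lit 4) (nat_lit 96) (Steps.bwd (nat_lit 4) (Steps.fwd (nat_lit 2048) (Steps.bwd (nat_lit 3) (Steps.bwd (nat_lit 3) (Steps.bwd (nat_lit 3) (Steps.bwd (nat_lit 2) (Steps.fwd (nat_lit 3072) (Steps.fwd (nat_lit 2048) Steps.nil)))))))) (nat_lit 24) (nat_lit 6),
  Rule.mk (nat_lit 2) (nat_lit 96) (Steps.fwd (nat_lit 3072) (Steps.fwd (nat_lit 3072) (Steps.fwd (nat_lit 2048) (Steps.bwd (nat_lit 3) (Steps.bwd (nat_lit 3) (Steps.bwd (nat_lit 3) (Steps.fwd (nat_lit 2048) (Steps.bwd (nat_lit 4) Steps.nil)))))))) (nat_lit 24) (nat_lit 3),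
  Rule.mk (nat_lit 3) (nat_lit 74) (Steps.fwd (nat_lit 4096) (Steps.fwd (nat_lit 4096) (Steps.fwd (nat_lit 4096) (Steps.fwd (nat_lit 4096) (Steps.fwd (nat_lit 4096) (Steps.bwd (nat_lit 3) Steps.nil)))))) (nat_lit 16) (nat_lit 0),
  Rule.mk (nat_lit 4) (nat_lit 96) (Steps.bwd (nat_lit 2) (Steps.bwd (nat_lit 3) (Steps.bwd (nat_lit 3) (Steps.bwd (nat_lit 3) (Steps.fwd (nat_lit 2048) (Steps.fwd (nat_lit 3072) (Steps.fwd (nat_lit 2048) (Steps.bwd (nat_lit 4) Steps.nil)))))))) (nat_lit 24) (nat_lit 7),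
  Rule.mk (nat_lit 2) (nat_lit 96) (Steps.bwd (nat_lit 4) (Steps.fwd (nat_lit 3072) (Steps.bwd (nat_lit 2) (Steps.bwd (nat_lit 3) (Steps.bwd (nat_lit 3) (Steps.fwd (nat_lit 4096) (Steps.bwd (nat_lit 2) (Steps.bwd (nat_lit 4) Steps.nil)))))))) (nat_lit 24) (nat_lit 3),
  Rule.mk (nat_lit 2) (nat_lit 96) (Steps.bwd (nat_lit 4) (Steps.bwd (nat_lit 4) (Steps.bwd (nat_lit 2) (Steps.bwd (nat_lit 3) (Steps.fwd (nat_lit 4096) (Steps.bwd (nat_lit 3) (Steps.fwd (nat_lit 2048) (Steps.fwd (nat_lit 3072) Steps.nil)))))))) (nat_lit 24) (nat_lit 3),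
  Rule.mk (nat_lit 1) (nat_lit 63) (Steps.fwd (nat_lit 2048) (Steps.fwd (nat_lit 1024) (Steps.bwd (nat_lit 2) (Steps.fwd (nat_lit 1024) (Steps.bwd (nat_lit 2) Steps.nil))))) (nat_lit 14) (nat_lit 1),
  Rule.mk (nat_lit 3) (nat_lit 96) (Steps.fwd (nat_lit 4096) (Steps.fwd (nat_lit 4096) (Steps.fwd (nat_lit 2048) (Steps.bwd (nat_lit 4) (Steps.bwd (nat_lit 2) (Steps.fwd (nat_lit 3072) (Steps.fwd (nat_lit 3072) (Steps.bwd (nat_lit 2) Steps.nil)))))))) (nat_lit 24) (nat_lit 9),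
  Rule.mk (nat_lit 4) (nat_lit 96) (Steps.bwd (nat_lit 2) (Steps.bwd (nat_lit 4) (Steps.fwd (nat_lit 3072) (Steps.bwd (nat_lit 2) (Steps.bwd (nat_lit 3) (Steps.fwd (nat_lit 4096) (Steps.bwd (nat_lit 3) (Steps.fwd (nat_lit 2048) Steps.nil)))))))) (nat_lit 24) (nat_lit 2),
  Rule.mk (nat_lit 3) (nat_lit 74) (Steps.bwd (nat_lit 3) (Steps.bwd (nat_lit 3) (Steps.bwd (nat_lit 3) (Steps.bwd (nat_lit 3) (Steps.fwd (nat_lit 4096) (Steps.fwd (nat_lit 4096) Steps.nil)))))) (nat_lit 16) (nat_lit 0),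
  Rule.mk (nat_lit 2) (nat_lit 96) (Steps.bwd (nat_lit 4) (Steps.bwd (nat_lit 2) (Steps.fwd (nat_lit 3072) (Steps.bwd (nat_lit 4) (Steps.fwd (nat_lit 2048) (Steps.fwd (nat_lit 4096) (Steps.bwd (nat_lit 3) (Steps.bwd (nat_lit 3) Steps.nil)))))))) (nat_lit 24) (nat_lit 1),
  Rule.mk (nat_lit 2) (nat_lit 96) (Steps.bwd (nat_lit 4) (Steps.bwd (nat_lit 2) (Steps.fwd (nat_lit 3072) (Steps.bwd (nat_lit 4) (Steps.bwd (nat_lit 2) (Steps.bwd (nat_lit 3) (Steps.bwd (nat_lit 3) (Steps.bwd (nat_lit 3) Steps.nil)))))))) (nat_lit 24) (nat_lit 1),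
  Rule.mk (nat_lit 1) (nat_lit 63) (Steps.bwd (nat_lit 2) (Steps.bwd (nat_lit 1) (Steps.fwd (nat_lit 2048) (Steps.bwd (nat_lit 1) (Steps.bwd (nat_lit 2) Steps.nil))))) (nat_lit 14) (nat_lit 1),
  Rule.mk (nat_lit 1) (nat_lit 63) (Steps.bwd (nat_lit 2) (Steps.bwd (nat_lit 1) (Steps.fwd (nat_lit 2048) (Steps.fwd (nat_lit 1024) (Steps.bwd (nat_lit 2) Steps.nil))))) (nat_lit 14) (nat_lit 1),
  Rule.mk (nat_lit 4) (nat_lit 96) (Steps.bwd (nat_lit 4) (Steps.fwd (nat_lit 2048) (Steps.bwd (nat_lit 3) (Steps.bwd (nat_lit 3) (Steps.bwd (nat_lit 3) (Steps.fwd (nat_lit 2048) (Steps.fwd (nat_lit 3072) (Steps.fwd (nat_lit 2048) Steps.nil)))))))) (nat_lit 24) (nat_lit 6),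
  Rule.mk (nat_lit 2) (nat_lit 96) (Steps.bwd (nat_lit 3) (Steps.bwd (nat_lit 3) (Steps.bwd (nat_lit 3) (Steps.fwd (nat_lit 2048) (Steps.fwd (nat_lit 3072) (Steps.fwd (nat_lit 2048) (Steps.bwd (nat_lit 4) (Steps.bwd (nat_lit 4) Steps.nil)))))))) (nat_lit 24) (nat_lit 8),
  Rule.mk (nat_lit 2) (nat_lit 96) (Steps.bwd (nat_lit 4) (Steps.bwd (nat_lit 4) (Steps.bwd (nat_lit 2) (Steps.bwd (nat_lit 3) (Steps.bwd (nat_lit 3) (Steps.fwd (nat_lit 4096) (Steps.bwd (nat_lit 2) (Steps.bwd (nat_lit 4) Steps.nil)))))))) (nat_lit 24) (nat_lit 3),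
  Rule.mk (nat_lit 1) (nat_lit 63) (Steps.bwd (nat_lit 2) (Steps.bwd (nat_lit 1) (Steps.bwd (nat_lit 2) (Steps.fwd (nat_lit 1024) (Steps.bwd (nat_lit 2) Steps.nil))))) (nat_lit 14) (nat_lit 1),
  Rule.mk (nat_lit 4) (nat_lit 96) (Steps.bwd (nat_lit 2) (Steps.fwd (nat_lit 3072) (Steps.fwd (nat_lit 3072) (Steps.fwd (nat_lit 2048) (Steps.bwd (nat_lit 3) (Steps.bwd (nat_lit 3) (Steps.bwd (nat_lit 3) (Steps.bwd (nat_lit 2) Steps.nil)))))))) (nat_lit 24) (nat_lit 2),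
  Rule.mk (nat_lit 4) (nat_lit 96) (Steps.bwd (nat_lit 2) (Steps.bwd (nat_lit 3) (Steps.fwd (nat_lit 4096) (Steps.fwd (nat_lit 4096) (Steps.bwd (nat_lit 2) (Steps.fwd (nat_lit 3072) (Steps.fwd (nat_lit 2048) (Steps.fwd (nat_lit 3072) Steps.nil)))))))) (nat_lit 24) (nat_lit 7),
  Rule.mk (nat_lit 4) (nat_lit 74) (Steps.bwd (nat_lit 4) (Steps.fwd (nat_lit 3072) (Steps.bwd (nat_lit 4) (Steps.bwd (nat_lit 4) (Steps.fwd (nat_lit 3072) (Steps.bwd (nat_lit 4) Steps.nil)))))) (nat_lit 17) (nat_lit 0),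
  Rule.mk (nat_lit 4) (nat_lit 96) (Steps.bwd (nat_lit 4) (Steps.bwd (nat_lit 2) (Steps.bwd (nat_lit 3) (Steps.fwd (nat_lit 4096) (Steps.bwd (nat_lit 3) (Steps.bwd (nat_lit 2) (Steps.bwd (nat_lit 4) (Steps.bwd (nat_lit 2) Steps.nil)))))))) (nat_lit 24) (nat_lit 6),
  Rule.mk (nat_lit 4) (nat_lit 96) (Steps.bwd (nat_lit 4) (Steps.fwd (nat_lit 2048) (Steps.fwd (nat_lit 4096) (Steps.bwd (nat_lit 3) (Steps.bwd (nat_lit 3) (Steps.fwd (nat_lit 2048) (Steps.bwd (nat_lit 4) (Steps.bwd (nat_lit 2) Steps.nil)))))))) (nat_lit 24) (nat_lit 6),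
  Rule.mk (nat_lit 4) (nat_lit 96) (Steps.bwd (nat_lit 2) (Steps.fwd (nat_lit 3072) (Steps.fwd (nat_lit 3072) (Steps.fwd (nat_lit 2048) (Steps.bwd (nat_lit 3) (Steps.fwd (nat_lit 4096) (Steps.bwd (nat_lit 3) (Steps.fwd (nat_lit 2048) Steps.nil)))))))) (nat_lit 24) (nat_lit 2),
  Rule.mk (nat_lit 3) (nat_lit 74) (Steps.bwd (nat_lit 3) (Steps.bwd (nat_lit 3) (Steps.fwd (nat_lit 4096) (Steps.bwd (nat_lit 3) (Steps.fwd (nat_lit 4096) (Steps.fwd (nat_lit 4096) Steps.nil)))))) (nat_lit 16) (nat_lit 0),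
  Rule.mk (nat_lit 2) (nat_lit 96) (Steps.fwd (nat_lit 3072) (Steps.fwd (nat_lit 2048) (Steps.fwd (nat_lit 3072) (Steps.fwd (nat_lit 3072) (Steps.bwd (nat_lit 2) (Steps.fwd (nat_lit 4096) (Steps.fwd (nat_lit 4096) (Steps.bwd (nat_lit 3) Steps.nil)))))))) (nat_lit 24) (nat_lit 1),
  Rule.mk (nat_lit 4) (nat_lit 74) (Steps.bwd (nat_lit 4) (Steps.bwd (nat_lit 4) (Steps.bwd (nat_lit 4) (Steps.bwd (nat_lit 4) (Steps.fwd (nat_lit 3072) (Steps.bwd (nat_lit 4) Steps.nil)))))) (nat_lit 17) (nat_lit 0)]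
noncomputable def R : List (List (Rule)) := [R_0, R_1, R_2]
def LW : List Word := [[], [6], [8], [10], [11]]
def par : Par := ⟨10, 3, 13, 23, 1023, 8191, 8388607⟩
theorem hpar : par.ok := by decide
theorem hR0_0 : lall (R) (fun l => lall l (ruleOK RA LW par)) = true := by decide +kernel
theorem hR0 : lall (R) (fun l => lall l (ruleOK RA LW par)) = true := hR0_0
theorem hR : RulesOK RA LW par R := rulesOK_of rfl hR0
def cols : List (ℕ × ℕ) := [(1024, 1), (2048, 2), (3072, 4)]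
theorem hcols : lall cols (colOK RA LW par) = true := by decide +kernel
noncomputable def JS0 : List ℕ := [nat_lit 0x1da00078820f10003b00e000ed9e206000044ec9d83ae75829090033b2187c9090023be778ed9da3b216000009de3ba770ed8520f01a77835079ef3ca790f09e03be77810f48003c60e784001e9083d2000ef838003c47a418001ea3c077cef1dd03414034f006206414030f31e53c4784f005800016794f21e33c41481cf31e50100203101a023d27a0f39e6093e07e0fb9f63d87acf51e90440c7bcf71ed3d804021031f63ea7c8f89f03de127ec001f4073e4000fd841fb0007c01c001f33f60c001009f13e07bcf701a013f47c414fe9f93f07dcfa1f33e47c410009f83ee7d8fa9f4033fc7ecfd1f93f0047f4fe1fb01,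
  nat_lit 0x44c054df0d8190700e51d2223806fcdf04a1d44c0dc1c03b042080e010a2444c8941b019384704e0099f503c07c1c83606a058e21000e44a89111815386708e08f8160688d51280d38a710e18f9c50008350620b3b8034f60820d44a8991380e3bc714e20f004448814e31c51600c00ce3031e000072d1200b3a071ce30e9e03c278912a2644888ce50e004392720e39c61644000ce48d8053ca88d1080739872ce48d00043c87d10223448078e78ca1d43c014e51c939030874ec1ca173b60a415a22036730e59ca13042768e71cd3982c77d0e0270528900d81a39c2a844101de39e738510ca1b4340940e1d13a073c4d0381f430748e8891f902c05d10025046754ea08a014328610b9d43a6748e88201d400758ea9d4023e60490c21742c760eb9d61041e044ed1d93b01e05102a1d03e058ef1dd3b41c788001dc07,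
  nat_lit 0x23e06e6e06c000023780c7a8f5a0540c13cdb949ca47c018de9bc3726e0db859e80006e85cdd0003d050804011ba17000008dc9b836e6d8291c0493721a0011b9ff2746e70cdf9be3766e8dc9b80400e000de839bb0006fc20df8003720e000de02f260006f8dd1b93706dc0d19042374186e8009cf018728e59c33844a000e71cf4629242402a3a632734e703f0546e4dc121cd45c6e45cdc80040c815021cd0188a4410322e45e8c0061cd3726e0780222d41c6e8dc8b0060066e818e680037e8b4049c43766e874e69ce0408b917a2d4586f88c021bd3786ecdd0b2290066f46c022224588a8029c037e6f468002274508a51622d44a70c89132270066f8de9bc18,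
  nat_lit 0x21f46e6bc5ce40113620a00c2c9b035e6b8d00021b4381ad3907b0e0894cd0d21b496930069af29000929191924a36a6b85d0f04d360181810d9af35c6b4590ca24360628fc2f84e35e6b8c0da85f48c6c0d78905f07605cd89b02f46215d2023f47c6ccd91b11000401d240563665c72924a4a4961290e03c3665a011241d13686cc58028033680c8f824800370920238383685887d102214be9812424736e3800cdb1b53686cc592200236c3600121a4448a9792fa630b456909218420667e8da94a424326d45c012433a26d8da8b0040026d818020193706dcdb0b2410066e06c1183d4969081201f3746e0a80023f48090525a4c06a7b4651f23f044074dc1b724,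
  nat_lit 0x838f9868540fa710d41a73c00013026a7f08a110fd9db3f0949543e01834e7c9712f25d102834059b234e0800111a4a3d0ba1e92d1a734c780002d0703b4341e4011a734c6070c0a2080fa1f92d80134e7469c002594b095cdd80f3aa209652da5c4ba03cdd9a734c3c8790f8674fea3c4887735072818219ff4969352607534e700152c24f34c694580380434c0c6980000c37c6f4069b9b80006a92b80935e698d28e9b83720652c2594ae958d49180435069cd31a5164a600cd40d8043969592a0053566a8d40d0004a294929a564ae1b8d70ca504a200cd49a834e30940089a91b0241cc3a25e0d66acd51a91f38c940390734fa1b0359ab1549c941278714286b4d61ab0448a1a43527b0e21c0079af3601493d2724d01c6b8d69ac1f3e61a13ca5949e024d81af354201b92c24e0106bcd71ad13,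
  nat_lit 0x20860c8870d78b0001229b13588a40296241362af4e4248461af35c9413d37a7012222cd7248004dc7b8c93726035a2e7a53800c364005061ae35a908a1060002735e0011c0b00135a8c6ac00229bd0267bcf48394d6008009aa440006b4059300000a6acd51a93501499c3b9ab0d428000d6a19ab0008509d0a05a0c0000d4a10004c68cc9d319dc35a6b0d51a935069c10d580005e10778001a9070007941d931dd05a760d49a834e148c4099bc1162713205d3528272cf41a9170060c8d59aa35268000e41c91129f04923439a8071ce42624c601cd5148004c2790c9309af3522e0ac0d1aa0d,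
  nat_lit 0x42e2b898329d104417cda9b456106a10df9b636a2c2a53ca8646a8c5169b736caa8cc001b7070001084baa0404648b9151b636aa6730001b6430008a4e62907145ea0139a6e4ce6d4da28a700006d41c001b64e00c0013826b4c86d0d981a7d1526d03000a7d3806d4da0b000138999413e2093682e00444256124a25450843a09e001228030810c9512a88d0d26c9242fa194f80c0db0004846c938da0014736400115200820006c9352782d36436000d9063260000a8d81af35c6b40d3a0853601a954001b04c0006c4469300041e835039af35c069c84d1af0c,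
  nat_lit 0x51c8a14863a8f3be778009ba3726e07cdf82752c074dd0902751e0e0dd9ba5c03c32149a8c3b86f4de1bb1009ca60e49be37a04195068002837e0051cde8004541418c001bc5b4d2000dd2600037a2b498000043766e8dc9b80a5262dcdd869bc00072c9ce588a11c000dd2d0005209ec9d480773a6075419ba3726e1641700037498000dd82e260001d0e801a3726e161468bd37218910001b94300076122290273b4a31332614b46e0dbaaa630006e01c001b94c60c00131a5e4ae6dcdb018b914c6dc3400258392a4271302863a80943122a36cae748001b607,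
  nat_lit 0x408434db83753210cd90903752409cd99b25c3686cc001f14ca7ccf91d9640723594aa8e3dc6d0d99b21018aa69031b53682c1814e9ed36c6d4582829f3c26dcdb0b01d542844dc1b7160107d5538df02e02cdd9b86344e89400139b80028e6d80022a210f2af157aaa1b6008009b5620006dc3d13000022014da9b4366bea78471b50c37601c040db5560ecf39b7613d87b8f68393cc6d8da9b40409294c311b736c0400005a335201634d510d705a790dc9b66036e000de841bd0006d41c001b737a0c000149e036a6d0d9afa990066d430da8003a20600caa602204178e8a980026e4dc1b636a6d02ce69ce0006e0db9b61852c73ce701538a6e8dc9b8043b809833aaa05a0b0019bc5d,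
  nat_lit 0x91542a754c288509b3364d4a0c73320558aa0119b53686aa3476aab54e088da1b3364267b8059b55252c37952aa45466f4da1b31001082d568f103202cdb9b46316c9bc00291b40028e6c80022a6d17ab6d5aab01da008009b1690006cd3193000026014d89b035ebea90589b10c36c01c040ed562138e79b3614048110184c39c6c8d89b0040560ec708dd364d000006a465201a395540e909880cda1b160364000dc041b80006c01c001b23700c000241ff3606bcd72fa9f00a6c030d800167360001980c8640cab5c3086041c000d73285b538004d91b135e6b8d685858416000d89b035e30a682ca0b0ba6f8d99b2362087e0218a958e0f81e80436a4000149091521aea4cf99f20046ccd91b11f,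
  nat_lit 0x7713e28c702360787c5b83a8223746e4dc0780039472c802cb21aab4e7a01c9394add5c00037252ae15d2b9204a80031bd3720873c0da9f2044115d87c37274804009b9430021e95c2b756c71c0a1d1100008bd002907856eae55d2bb026718db3680a1486d818db00102872ce501537000048f1291c50046e55b80f37a6d4da0e8c64eec4c66a7d194000db319b600003814e18b1164ad95bab55686d9b04f1b53686ccd901000378aad458af00e01533b580839cad15900936e6d8da0d00055eac158ab456a3b8dc8caae55e01cda9b4366306d80000e2738403939001368b49885c8000500094538a90a81e83d5598e83666c8d88f8000267d49ce2aaa1e43cd928eb1d46c855542aa5523c5491b43666c8105d27e36aa4000ed1d052,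
  nat_lit 0xb0c201c30c4148242c9125982f5311c46150042d35a6a176984e19c27841e16529ac5404805001c3771aaa0d442661602c42a9c4760024296310e15c9842b20871000af4122910857c9993286b09e704e00f8ab216b0d5ea6546c708e08800100443d65acf1baa14313a800384068980000f01a8710e9c0495840d4e006000382714180109a49e18c2d1bf4944e880001bf388e80004c24d49cc018393c0d2e6b00031bd0c4e6ab000060001eeab09c65274196af8019be37a6edc829800376980004805b264b8974001bb3746e4615d0c71622d1041bd3786ec10008ff57640447a440b0835c4002b43aea43f55aa414807e022225376e00010fa213d0c22195c09b374782287e2b65648f83021c374de08cec1bc31,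
  nat_lit 0xcd508b6160abc56a748e8aaabe0027481ce8801006b58930b24c295a08001d257a0c0055eab8562740e781800578adc840a14c49904bc092322873c34002b1094a44295cad04f83193289339d0073800118236d3474a8f0f8fe45d652d005209ce91ce39afc0014f109261e409c129d000a735f40090457a439aab561faa8d3c002ac39a104095dabc2120fce5be00007e80d66aee5de2c4f72e83e4043c024046394b0000e59f150002a48e484000594b2d663576b044d5d0cac95944107f83839052000132442704891d3b116516014e49c77b51c004e38380151c38c8a2cc5a446830bd0005263a499460e150e004e29c4580003715393a85220b208900900e844e23c80038a7dc980000700a83d081c349,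
  nat_lit 0x2544a44e9506312c5a87ccf90043c11e0053a84c3b0009d53f8681d038b64131de3c428168ef0681c5a225d251dd8e41c960000b8003dc9a05927c17e2f84fc681e252b4d661eb0309b8edb7a754ec9dd4b3462fc294ee460000fe044f21e501678525b6a315c0964ed1d9024782143f80200116764002a6092810028043b714a907b2b1560abd2d9d93b0208bc009d94c00200c982e320aab55620f89000764019300102c7900a9d73acf80000a9e33c87a01e9fb3fae6b6c009d60c000768ec8044548a6216d1294fe9f93288b48075410001df020235500fa1ea9221c08128256b59538ab3aa75218ee8013aa860043606b43c1a511a2444b0a0003681702c77210352d9252a54732d43a674a0cf30003a686001419e652,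
  nat_lit 0x3e68f018008f655c2b0519f1490003d556aae6a0d5ccc0b373598200f806000468144343c10205201cf7ce1f000090c1d2003f04207c004d9ee3da00d6912a24a9e116cd1ec004b4843848426b6cf9cc8015a2b4969ad55ac46c363980024a2455167ad04687acf51e9980007b001130000aa868540a93d4f8b50009ea0c0007b0f58023f07de2169a0b080820f88113fa7a65d0b0013d2860048b12c63eb040d9f43eb2c0008b8fc1fa296548a2d32521782e2cf3ce79a50008b01fc3fd58a210ca8524c00266002a42b9592d459e491650493cb00000fcadc268339458d24cb247e0fd1f90520a93ca7a3c842000161fb4ea9d831c8adc00278c30000740ea1f91da3a375b67f4190714682051c1e204002959428cc19ad886a8d490,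
  nat_lit 0x244040c95d5caba024041001200048e9215e2eb6866343eb9a4648e260398203ff4e00000a29523fe8194c907216b08711fe41000af11413abc21a6056e926020038fed30011b4a3d470420046e0007c2b727564458be2e826a0600b1fb213f80011d8c91944486c03fa5018000fd1d80057aaf15d0f91f4a2100520ff1ea7e8fc9f80f00234158ab007402e8c000d050e4e339582cf59a3806ba3c3f1447f51b8000c000aa91ba90ee22e461c41b81ca390fb508003ee020980084943608c111f5490001210d21b5fcc14ad82473594018fa0600008a19c5d22da008a44c8a2b3564090131f39f0000bd051d8c72001acf99f29c000005631201aa2e8fd8109e3e68913e11c28cb30641f29d58847d9732c2e01802f9f221,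
  nat_lit 0x452a971c4b70c333746c800012f00226146a554b08601e80ca40004744810d0800fa908c11d1a86357402003202790029655d8ff5bad44cc88ca8]
theorem S0_c : blocks (facts 10 3 13 23 1023 8191 8388607 11 2047 8 255 A R 32) 32 JS0 765 = true := by decide +kernel
theorem S0 : On (Step.{u} RA LW par A) 765 1309 :=
  steps_of_blocks hpar hR S0_c (by decide +kernel)
theorem D0_c : allB (defOK 10 13 23 1023 8388607 766 A K) 4 2 = true := by decide +kernel
theorem D0 : On (fun r => defOK par.W par.WL par.E par.mW par.mE 766 A K r = true) 256 768 :=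
  On.of_allB D0_c
noncomputable def JW0 : List ℕ := [nat_lit 0x7b83ad3fe80d80a3b940e7247cd7ca7cf7bc8247aa42e3e779f7867933463926f47f37043958058028268224313f57f97a47813e03417e33f934d6a07ae7b142078841336e36d3637ea3d141881f81c3dd41c7607df7dc40b7ee4343f74333cd3fa7ad8163e942c42780980640866a7bd7ba80b7cc41183182e43a79e42d4254288038287f84327e141e7b042236c7ef7ec81d7de7f08308334363fb81b81880883642b43c82f43e42983782a41f81a43983583283843d83b82c83483a,
  nat_lit 0x2c577d5de35378478779178e38d3483472eb38435f3833906ca7057027073933ef8237967f76d63713d779961e6dc7a27a577f77c2e83657e56b87a73f86a634b34534c6422cd3407e63f34143df7896b06da7672b97f57f236b61c35d3627e87e441775b3d03893e23e13d582176e3e57623d33dc41a35941933f76175e7da3514127bf40a6c48128004303c33f67a174d3a42e42f17556342e77af7ac81481042f3cb3e87837453bc3a93fd7fb71671c80480740674640531866b668,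
  nat_lit 0x6932f624031369b58c2433d275f7d87d441533b3506ad68b32c2f37c135b2fd64635c6c53c58013f17533c830d37b74161830a7a37a074b7482cf3a63a53986452a22d82dc5826356326372e53c78113ed75937c2603b374f5d226378578274374039771a7b339c7fd7fa3793a06e07177143873a87b43c94023bb74731131b72b25575775424d25031c6697b67b240171f3ac3033be3bd3b180f7323c17263af3b840c68c3ff33d7257227c83174047d17ce3293eb7ab78c79d3f26b4,
  nat_lit 0x7c67c240366531666032e32d31f7d367833166c31d32862678a78d2c362326626a5c85df60a6b26b563e63c2ea6c735e26538e51e3821c36cb6c870028538c7097062df77878f60477a79479779b7982a12be60861f6d83693706a86cf2ec3666d76d47a93ce2cb3426a46a76aa6b66b91153446a364024b2e96292cc28f62477328034e6ae6b17656ce2ba7767662966cc36136a61a5be2b875d3cf38a6fc6bc3887747722953d876f76c7703db3e46025fe3d47d66c24163333586bb,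
  nat_lit 0x2fb2f52fc13b1452f26f27953f060c6ed2b22b657661961665b30c71070c3992a62a32a52da0ab2d90f05835802d120d2ce6396362e273c7495e873e78b3ec75174e2b125a57e5d35d05d52617183a339b37e37d3757ff3aa3816e237337839e30739d1c56e16de71220b3966f738626d6f073728a30f65f3107293a225673a72a27424f21124c5ca56c2547213ab6e82d46533027387362733b47337307343b73c05e65e23b07c433940032b68d6543216711fc69d69a53c1ff3ae723,
  nat_lit 0x50263d2de29a5f260529f29d2a007f6096062a93686d12c92c12ca5ee6d26d52ee5962ed1696b73560ea0e94994b10f30f50ef6a56a20c624a5c716e09416d62b0df2902c662227f2825ba28129824729714f3606c92bc2272bb1785bf5bc6fe6fa38b5dc76a76d2873da7696005c42942255ff28e3356c335769933865619e6871bd3046bd6ba69168e2282f82f713166311a21c22048e58d22b5b52413377d535569f1281d43236951cd1d06af6ac6896861383097c365c6bf35a64c,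
  nat_lit 0x5fa5f637470e54439a1b530665752518417418b52b4da1773726df1c120a57551d1a81ad6f91c926e6ee6ec28928c56828b2762052750d02105812582362570c356d56a3006e66e92ac72e73127d3b672d5e45722721dd5e326c19d67d1162fe65265566f6581e06806701061d80d953d1e35631fd66731521521865e66167e67c10332467967667a3273304aa4a631e2680be26704f5c95c66846b33545da2392641a751f1b719750714c52d52a4c81932845f11aa1a919570b50e2e0,
  nat_lit 0x1896fb6202341605a15f524925c23d76b7682005c52455fd17d29121358f16c4b650a50d5295261bc4c04be13011e11b11d21e15221d0d448f48c58a5992295b75b412c68268f4ac6976941b21cf5341cc1d60fb1d564e65913412a1291276c13141664ba64a64d1492f46494c24c51394cb1440fd2b44f02b34c657757465065a65d6101f52a44790aa0a94ed0900cf49d0f204849620c57909809509763b1a32e11bb70d2e327857a5e92ab20f2b045857f57c5d75d425e6ea377380,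
  nat_lit 0x5b31040c904b44b04d10c10b4ad1b95451de1a551110e5a32381b65054fc19951450608c52f48213c4ff12015450118f19151251008f1a050f50c4700e21944d85f35f04cd1420fe07d46545a10129c6071f61321e460f15127a2712c062154c6d36d00a65975941644e11670e60e30e54e40e815a1134b30f84a30340f40ed49b49849f47604c0c54870c84e24e016a1716e76e44910de09a5ec1fb27e0555bb2441400444c914b4d114d1f02265954d70ac06612f4f117a0692465bd,
  nat_lit 0x5165210960f657b5780b347f0ae06c44a06b0b120e57d23a10a22c5d905d25d2933766e559e5f725f1b05191b352352018c18618508015803e4db1734ef17519b5271bf51b5181ae5311c84f85f823f28806356920244944204948b0d20ce5a52371df45d07407314720456b1ec08454f5eb20927b1f972f72c2075732035e118326f1cb53f1ac4bc50b5081184861171080cd1070d70d848d53a5471e15655624882175842144b86746771113266734a81051020b54a70fc4850bf0c1,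
  nat_lit 0xa14774744930dd0da09c46a09b5671fa0c005144d05304604504055f55c1984725550db4d51504600644570674fa4fd4682324562311621614df5ac5af5a05c34ee0524dc58516b59158e18d12212111c15615315507745f0785c124845259c59822d4f317c08b5b923e17b0884bf12d4665351af4a10fa0f91254b212609e07a4754d34d00a50a364b64847d0ad0af5614c41be13e46413d13613313547b0920a41ef1f40a84eb4e815e46e09108e4940dc0e046c09308d4b41a2509,
  nat_lit 0x3d4f74f45481db1e644045144e44445e46159a22322e44646b08a5431da0e15aa47e2305a85a622f08244c08104203f0410b64f64f905f45506103b44303617f5a71c705b05c44f0594cf0721ea4ce1e955a55d54e05745045356f2080791811824f50b806e4810ca0cc4895b15ae15f0bd6756724af0d310f0bb48348053318e1c65932221905581431e846307b06a07006f45b4a50750ff5565541e708608546954a5461e515c45415b03803503754153e0e457149a0604e64e94de]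
theorem W0_c : blocks (rows 10 3 13 23 1023 8191 8388607 12 4095 36 A 1309 504 cols 42) 42 JW0 0 = true := by decide +kernel
theorem W0 : On (Row.{u} RA LW par A 1309 504 cols) 0 504 :=
  rows_of_blocks hpar (by decide) hcols W0_c (by decide +kernel)
theorem idx : Idx.{u} RA [[6], [8], [10]] [] 504 :=
  idx_of_cert hpar hR (K := K) (by decide +kernel) (T := 766) (T' := 768) (by decide) D0
    (subs := []) (by decide +kernel) (T1 := 765) (by decide) (N := 1309) S0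
    (by decide) (n' := 504) (by decide) W0 (by decide +kernel) (by decide +kernel)
end T0
namespace T1
noncomputable def A_0 : List (ℕ) := [nat_lit 0x12008026010088040240101100804202002808006000010000020001280402a00]
noncomputable def A : List (List (ℕ)) := [A_0]
noncomputable def K_0 : List (ℕ) := [nat_lit 0x4060000]
noncomputable def K : List (List (ℕ)) := [K_0]
noncomputable def R_0 : List (Rule) := [Rule.mk (nat_lit 5) (nat_lit 21) (Steps.bwd (nat_lit 5) (Steps.bwd (nat_lit 5) Steps.nil)) (nat_lit 26) (nat_lit 0),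
  Rule.mk (nat_lit 1) (nat_lit 30) (Steps.fwd (nat_lit 2560) (Steps.fwd (nat_lit 512) (Steps.bwd (nat_lit 5) Steps.nil))) (nat_lit 32) (nat_lit 0),
  Rule.mk (nat_lit 2) (nat_lit 30) (Steps.fwd (nat_lit 2560) (Steps.fwd (nat_lit 1024) (Steps.bwd (nat_lit 5) Steps.nil))) (nat_lit 34) (nat_lit 0),
  Rule.mk (nat_lit 3) (nat_lit 39) (Steps.bwd (nat_lit 5) (Steps.fwd (nat_lit 1536) (Steps.fwd (nat_lit 1536) (Steps.fwd (nat_lit 2560) Steps.nil)))) (nat_lit 36) (nat_lit 2),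
  Rule.mk (nat_lit 4) (nat_lit 39) (Steps.bwd (nat_lit 5) (Steps.bwd (nat_lit 3) (Steps.bwd (nat_lit 3) (Steps.fwd (nat_lit 2560) Steps.nil)))) (nat_lit 37) (nat_lit 4)]
noncomputable def R : List (List (Rule)) := [R_0]
def LW : List Word := [[], [6], [8], [10], [11], [12], [13], [6], [7], [8], [9], [10], [11]]
def par : Par := ⟨9, 4, 13, 22, 511, 8191, 4194303⟩
theorem hpar : par.ok := by decide
theorem hR0_0 : lall (R) (fun l => lall l (ruleOK RA LW par)) = true := by decide +kernel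
theorem hR0 : lall (R) (fun l => lall l (ruleOK RA LW par)) = true := hR0_0
theorem hR : RulesOK RA LW par R := rulesOK_of rfl hR0
def cols : List (ℕ × ℕ) := [(512, 1), (1024, 2), (1536, 4), (2560, 6)]
theorem hcols : lall cols (colOK RA LW par) = true := by decide +kernel
noncomputable def JS0 : List ℕ := [nat_lit 0x24000004d048140a098070101d0180006601018058000600404019]
theorem S0_c : blocks (facts 9 4 13 22 511 8191 4194303 9 511 3 7 A R 32) 32 JS0 260 = true := by decide +kernel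
theorem S0 : On (Step.{u} RA LW par A) 260 292 :=
  steps_of_blocks hpar hR S0_c (by decide +kernel)
theorem D0_c : allB (defOK 9 13 22 511 4194303 258 A K) 1 2 = true := by decide +kernel
theorem D0 : On (fun r => defOK par.W par.WL par.E par.mW par.mE 258 A K r = true) 256 384 :=
  On.of_allB D0_c
noncomputable def JW0 : List ℕ := [nat_lit 0xf8330e83c118340e0361204010844]
theorem W0_c : blocks (rows 9 4 13 22 511 8191 4194303 10 1023 40 A 292 3 cols 32) 32 JW0 0 = true := by decide +kernel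
theorem W0 : On (Row.{u} RA LW par A 292 3 cols) 0 32 :=
  rows_of_blocks hpar (by decide) hcols W0_c (by decide +kernel)
theorem idx : Idx.{u} RA [[6], [8], [10], [12]] [[6], [8], [10]] 3 :=
  idx_of_cert hpar hR (K := K) (by decide +kernel) (T := 258) (T' := 384) (by decide) D0
    (subs := [1,2,3]) (by decide +kernel) (T1 := 260) (by decide) (N := 292) S0
    (by decide) (n' := 32) (by decide) W0 (by decide +kernel) (by decide +kernel)
end T1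
namespace T2
noncomputable def A_0 : List (ℕ) := [nat_lit 0x2bc42d65ac66b4d688f59eb19e73ce4348690a570ae10bb977192825021dc3b863ac75905a8b530b316661b0360c2a0541043086185c0b8208c11860c4189010020301005e644e89c8899130d12a251224448344688c8889111510a212220440523046084b4968ca2945118630c339e73c8750ea150fa1f221e43c336e6dc45c4b88c9292520df1be61ba374c4508a186a0d420b0160314829041dc3b8c2684d203506a604a14060d81b082504a18720e4443a874a8710e110da1b2902204429652c64ac9588b496919b036043ca794a8690d110ca1919e23c4233a6746554aa908490930f81f061f43e8c2fc5f905d8bb1a1843020ba17460fc1f901682d321742e404a09460780f080801120210426024048c0280c1014028183706e209612c610020103086128750ea442c85848550a8d0a214221342634248484138270c1e83d32114224420840683d07890720e1a0d41a411e23ca2f45e907b8f72940280431e63c6768ed08fe9fd19d63ac4318630a831061105a0b193626c220640c643c8790678cf30c618c6190320c24c4990500a018760ec20a815060e41c901382730170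2e402004060280508038231833066408410860b817081e03c18580b0610620c82c4588c668cd120a41434128248644c894be97d213e27c531a6348760ec0cdb1b611702e0324648c8574ae948991320d31a631c438842e05c0c4708e2088110610e21cc23046182d85b2208410340e81c40ec1d8c1502a2019032601a034802007100d01a181b03620520a460e81d102b8572a0640c440a81440f81f0c2784f207a0f4314e29c42b0560c4108230ad15a41b636c64748e890220419642c843506a0a6fcdf90d19a329e63cc438070065e0bc089893118e91d2422e45ca3586b10530a618780f020aa15461ac35903f07e307d0fa60e01c0c80d019101202182b056203a07460700e100780f3009012400a02c804c098c0a014102204430640c881242494298532038070209813061042090300601892124217c2f862704e18650ca210720e329e53c4805008ccb19621db3b6538a714862cc594ea9d521c638c32fc5f84534a68c8690d210120251883108244488c2f05e104708e30d41a8819032183186330680d0608a11480c0180c12024101602c302a05480300618038072004400200600c6014028804008180600c200801060080108000010800,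
  nat_lit 0x16831d03a04a794f0d4ea9d21672ce532865085b4b688d99b319e93d2437c6f86704e088bc979192925262f45e885b0b60d4e29c129b5363534a688708e114de9bd21f43e853e07c0877cef8cca995114428831fa3f4842c85947f8ff20c31863532a644a614c0d4ba97229652c652aa54ca514a1949a9322925243522a444a41480d47a8f228e51c61f63ec8324648c4b096106d0da30de1bc820457884288128573b2634e69c8610c20c9d93b10fe1fc323446883604f9546a8d228c51851a03408440880c768ed112724e32ec5d88698d314d71ae21ec3d833da7b446c4d88cb516a217c2f862d05a0c58cb1988e11c20da1b43516a2c4a29450c2d05a20740e860940d08a25448d44288128750e350ca188330661542a8522845085506a0c8a09410d40a81128050034fe9fc8774ee94fe1fc21d73ae332064049f93f0c9612c213026062544a8c584b0988c91920d71ae34fa9f441f03e0c290522044088605c18881b8370c32865127c4f834f69ec83b076153d27a22794f224f09e069dd3b913b2761a754ea24e89d069cd39993927222714e234e09c049bd378d3726e226d4da54d89b089ad35953526a22694d234d09a0499d338d3326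622654ca54c8990898d318d3126212614c234c0980897d2f992f25e325d4ba64b89708294528c3c87910560ac30fe10c896d2d8c3606c109512a34b496883f07e14600c0209012021782f063c879109b937197f2fe238e71c6734e698fd9fb21e43c833406804560ac0c8710e2148290528c5188530a6148290522594b2313626c41c4388d2c258207f0fe50a80b0407c0f8c0902622574ae34ac95849552a8d2a254208510a54a694c8949290928a511a504a0449e93c6939270926a4d1a4c49861542a88224448c5b0b6124b49631c0380849893152524a224949251e03c084bc978cbd97b11c338634909208668cd1523a47224648c348a9144911220d21a432242484622c458c3546a98730e62241482311622c419c338d2024020510a2608427488fd1f8d1f23e123d47a34788f08588b1151da3b223a474534a69487a0f40cdd9bb119c33832a654c84fc9f951ca39223847031e23c44314628c4a09420a21446142284c2644c983a87b2a3746e446c8d848d51a8d1a234223346634648c848c5188d18230322f45e445c8b868b516891622c1a2b45644548a8a8a5149114228295e,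
  nat_lit 0x6244622c44ac41881187b0f2b0e61c461ac346c31860985b0b1b0a6144612c24ac21841183b071b0660c260ac146c11821181b0333026046602c04cc0180117faff192124221ce7b8cbf97f117eafd1afc5f825f6bec657caf908a1f231f334445f4be86be57c897c2f81af75ee42b656cabd97b117aaf51af45e825e6bcc6bc9791178af132f05e065debbcc6e8dd10fa9f51aee5dc23646c86bb57691762ec32eb5d645d4ba8634869085293811811c64252390cba57499742e822e75ce35ccb984b95728d722e422e35c665c4b888b85708d702e012df5be32c0580846c65984e0dc28ad300526e3cce4f0901c6d91e28db30432746b0e590cb98c2989193d27a22007a8a6a16f10e91d21add5ba25b8b706b6d6d916d2da290620c45b2b646b616c08ef1de19a134245aeb5cc6acd5996b2d631aa35442ca594647c8f88729b839b73c0639a738e7e49c8cc1983219f3f473f6b548548a90c8410812d45a835a6b4c83446895692d222d15a225a0b406614c290c99e139e4244359eb3c8b39670d66acd12cc5983596b2ccb29651164ac91ac8590258eb1c6b19631162ac52ac45884586b0cab09611160ac11ac0580257eafc6af95f115eab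d2abc57841522a463646c888d91b18f51ea42764e88544a89883992299933273404f043fcab18a710c294d2b2721c7bca7dcfb90e21c41abb5762574ae863a875109993339171ec6222444855cab8ccf99f11b43683572ae485b8b7195c2b8219b33632a8550443861107f14310fb2004182304a240c40ce89d121f13e2336a6d445bcb78c9212430de1bc456eadc62b857095b2b61ab556a4568ad0aacd5991592b22ab15624560ac06abd5789572ae1aad55a4558ab0a504a0907c8f918ca12e5146260e17c2f981f9f921c83902556aac6aa9551154aa91aa8550254ea9c6a995318670ce209e13c30e61cc4144450c590b220e71ce6234508664cc98952aa519cc3984392724c72ce598c090a11502a033306608728e514c098122a454853f07e08740e80cc3987114728e325c4b884d49a94778ef20b9172311a23441a45d0c4385910431ca4546a8c6528a508c718e1aa254443fc7f8aa855090ee1dc11ff3fe33e67cc874ce98cc518a1149292329c538c4108210638c7189a13420c42ac6a8150094fa9f18e11c2216e2dc6230401c3f848387014620fe1a421fc331c2b08420b4,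
  nat_lit 0x138041a2f8083849010783d30410c00420104084425982783e3040080109c12c20f427a02704c304e09c20740e80848148109875204c056042813008581c010a875105309220c2184e180200819041404009670980e100dc0d081401938280507056060e0a414940c0283019050505406100a80c080700d30180148014028203403100504f304c098107c1c0c14c2b8c2984508530ae508a0ecc0e01d141c053020305630700c020e022810303e10300700404104c0f82d901f030020507c04100ec413c27810384132080662082104213c3d04300ac08be14e112418041082c08410ad108313811042b4232883846d94f091d16221b66584824c888ed9c5117d27c23167544634cb04b21a809db38a137e68c262cea84f31c009c6262129a5e025f8ec08e30e911232ba222e358444c74848690109171ac1188244229823842a85e08781a6214c1a8423844083206310870b6707823041a022882d82a082305210441a821ac3f0432063087d0e010d081420e0298503202283b076106615c212419041d0450a03404106009020ad04081802a282b07470760a900a4159c0c81c102a032201e034e034048806830283308a705c1090124191c1982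340220465048054408c0d840a016081d0261034054207007840600e080b034801e03d00740ea00d01c380e036703806d00382b8d0181d301c056405206c807407180d80f180e0123012024e02403840483a2a02056505206cc0740e180d01a300f012601c04d003006200b016401302a7016050e0540a2005849184502c602a09080880a100b00b3014018301601c601c039c0383228300485044050c0580a9809813300c00e6016010201404040300308020064006004600401880080102000086008018a01804140400530050066006010e010032003008380800a800a00ce00d0021002002a000023400008e00801140100220020027002004a004009000800380000050000008000000c0019e19e32e6724878c87c8ad08d091239272e4324c4c8e3a8ba0cde9a9132d65a33ec7d886f0de0cba975113426832c25986478dc959632c232b6563654ca84ca5948d94328232764e564cc988c95928d9232413236463644c888c859098d79af31e722a41b2c8063d07a118fb1f2b1e63c463ac744c718e0d8db1b231a6343632c644c618c0d8bb17331662c462ac546c518a0989b131b12,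
  nat_lit 0x3b013d069426349f051d23b097d32212c48f028251f0466a3c116447e116241c48fc4e886509d08830e4613a7944690ae090d0d8111410c617011ca0c447182e046286a0b8407a0bc81181014190201811040205a080209c101c19033382007e20620e420c424a018831404208c10a8118e114171c23076085c0b680b817100f043085808608a00b0710c1ec62a06a085409308a814e81502a101dc59886e8a638b319011b02cc231867845a8ee0903250126c3ac243c5a886f92510eb43222ee5dc282d0604ae1a4098c31e12d67f427aced04d69d609e736023ce5ac44b48c08af140095e2bc622644c08a06981148a4022a10404562b008b053811687a022e09e045e12c08c02001188320232044046609008d018011a87b285b07c046c16c08dc3d9c3d07b404d0f620ae1ec218427103d8e228b01ba81a6290a34c7b84898d308bd20461883dc43108c186b0c640910ba5122310086c5e884887728a61ac0440244087053011083f305e0f0509a350e2b0521c6a0a4208211e114829102b0539c3ba2130770b040ee17421dc3b811104d103909a107e1e8e1341a9c27035404f06a204e0d420b427181a82d284005a808210100b4301c1f83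f386112680ba248e1750e182e872205d11e20ba88821745d8c4785d021d11e04302ec428058204109c38bb126217e2f902fc5fa0478bd38f819021f43e043186788848bb08b01a8117e3e824506e847c10908df24a12aa6dc2788b884ce955110f416243c87c48310f050ca1a0a1f3a813ca6c0273c9584a2969098631823a873c4758a5849691809024361440889029d10850e21d0a2205e106e0bc40f4179c1822220580b004460f0089017011282f3033084044c0cc089c108c1781e381e04a804a0b4c07812900f01e0217020102e07820940b881294b118f280220486c43dc47a05f0bd121c06c105c1c821610e884789c107209410783190870491d0ea1d389314080e41d4e128251c3b03640530a8806c140e0e428202b850107a0a010840ec814006080901908120244046049009010a00902330210501042084e0901120088233811044502204c40840888058110818014602224ce248308c4985740390ea80ec238e21c31a03506b387d0aa5072150a1ac2a1c29876204b06e40a80e9009c1d9c1383a3027020702005d005c138c0c00d18170b610ea0f4e0f81d941b88f209c,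
  nat_lit 0xee614a9dc692524813c27a124a1d681d849843b05b14528ec20b616c04f6194422444813e079288911880f2158e1a03c982683928560dc10ca191019432a021851386e0fc80dc158a19437143f862386b0c480fa108c1884a8445902294c18011aa39863f066a07e0c438fc1cc11f83f083184a8c630c6025a12a513641483204d8c640c802590e280fe26ca18424983886c28710fe40d01c461a034012c0a228950d860fc2550178360433847386c116412a1b0819c321c2184320630d830c618c096c219828043185108610a20b8c10c17a00f830381f020603e0bca07c17100f81f082605840780b0e0f416201f02c303d058503c0d460b08b208c0b140e61ac71cc498e4946fa0700e018e016c21c0380092c6fa1259b6219c2e043767f48768d690f598b41963b6738a6fd06a0bea0c896239772c873465710474d20caf1a5195d22632b853ce4f89f8cc6940198c27c31ee4a0838878909b10320c5318527c57024f8d298ae1a3115c3a8531662c662c9f0106136197d2ee12fa794a68cd18cd196229772b804746fc45dcc5810f9b719c52fa041668c0868f10cdf977023b38a043c6fc0864db90db9e221e22e242e26748674848c848a2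18cf1be31be2e083b85b1c5a8b51888110511639882cc458c598b3024111680f0154e19c32143387e38510a2506c14481f4338c3e87d024011271102a9021c4720550aa287a0f4049829c0934560127082024f14804a02c00944429454086025215004a616c62142c2042886388510a414e29c09503d012a82620360a004ac0d8095c1ba0130b338831f07194388c34c56a06e8d340ad1b672266586658a788cb164196423a22c8644853ccb0100962211d2c8040853c082466888391d023c188819a27483348381050b108cd1b6047a33408fc58811f0f741071ac81628fce310651c5e88338a613a818c24502745e94788a628b818a6122238a1e02f184a055306a43e33167546750d18d0d1e519e630c42fc5e085a4a690a292b213122e32044606404620c6b07e18640f040bc11c8154359423826303704c807009860640b981316211a837e24768e8468c80889f88808a211811321f8428838084c8a1107d142110e250e2843b144a0c528a0170118a38823c447044a06b109417661e23c462f49f947b8bd02381ee04724fc2574b804ce1b609bb24612a67984694f408e0153110d,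
  nat_lit 0x36252da475059cae1cb38b430e926261d04c0a3a0b390bd97b029d1d0225e4bc0a78771c740e8391916881d63b102d05a9c4208438b610860b029cc2106a18578af08cc15e41582bce20857a0580d418af10230e020421c4339440905091a3b463b25ece588ee90e69cd027f38e05005fc0a0488089b8fa40f217651e44dc0a086808790f20283178511e174c2404804528a520d5256622c35409708b012e92b024226204863a4091091812299a29bb2e0048c788e668dd812399a219a38633346680920f11d241a841c3386837e920a6ecf414e1990398f3b483ae6b8e6b4fe1cfe9eb41ec3da73ce6c106c4be04d0178417c2b012604c4e4a8981c9896a396925682584b06530c808a614c027e3f823ae750c7f0a014c81d7298c3f813d86b8275cf608d71ae29a43ca63d87b4c798d294d8917312c2d452ba4bcc5f0b420bc17b31c02f0625e5dce5ec8e209792f41281e071b4388e3c06e8c781fd29d63ce63d673cc768d694d818f31862d252d6514a52c969895a5d292b25604bc5dca700bc1494136317e1dc6262534a40c879486953315533a63385c0a5c4dd94f11b731b62fa538c6fca7a0ec18e29c5026531604cc62c099c9f01340f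7026917a04d423c09ac4e01360ca026d20e04dc53c09bccb013819602713b604e471409ccdb813a171027524a04ec3c0c37c6f813b923312524c524a37c09247498758ec28eb24a04943ac09e8951c9817c41682c282c258ce58c77148c91c31282d422584c045f0b40895128411c2c222c647044646b886d162191c1c481b42b0a3681e142d0da18ad0b431062b40a2c418145044105a0e810b422ce1682d1c3c07440950bc80e827461d029083a28211101f485063404a0d41985d8cc28bf17605082fc0a14eaa0fd9e439c62fc8340560e53486a087148390129872964090518881c82946291019081a0340c2804f94498a0028c126051a27c61d44f9c3909f40a013e219827c221449104f91938ee1d832322e1035c53946b84438550c430881f081946b8c5507c10aa15404fa1f021883e1c35063387c0ce708814901b0291c2387c28500a410880d8a1485f8c6609c40cc176719833082f85f014309c028706840941c80a2025014484b403406860960d101301a0c1683410260681058094c0d091992527a28e94ca53b07600990c6813193f026220204c2978a4b48c013012d025f,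
  nat_lit 0x284527650904dca108828fa214233052fe4dca540cc18a790731502a0730e740a6109d94c394730fe28e82143bc44a48804778fb38ef12c711a28c223446904c88d38ab112511a2e4a2d85ca0648b938d811a50b82e4234043145c8ef391a202628e4b8c46097148d12e116c25c12984b9039496a09717a113528c126a4d4e4609aa08b0ef18ff290326a515051c9604a3947215830e12d4680861ce6a0c09f831c7302438e71c0a90fc14fd9f819fb3f0839475107e0c320c399839d03a0739e61ca4fce804d898d29d039463ac750e728cc20e79863950214828a428c4408514668e5190a17471ae2e902e05d145b8ba30b517441d03c042e8420c2c859283c0b260f4164e2242ca04408720592c2129c268a1804d045509a40a1208620640d04104a204d0c738c518e612441024646b846394e414e29272926290628e99ce99f341f33b883b87fce7fced98ff9fe29ff3b843fe7fc0a84a594a512d38e51ca422c52864588b0151944094a29082945290404c704ca93f398e31e531c760e7f8f804ff1fe21d931c33b27640a88ee14c8aa142a13b66542394c2c47284858ed30e51361156354e3b47f84768ed20b71c2424e3c0a384558c6c0e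119141b005404500a7c7094578a538b710a616e2dc230c559c4b0ab287b156611620442ac401837880286210030cc20101c440043685620800da40901a46120242037848286e090606215821204da0518d018a314650ec230828c369c3486930650d2508c1a4e204381034866286d0cc608819881c433043786838661fc620a3fce3f87f1c600fb411a31a73b25b42610f81cfa1bd41df2fe834e5b505d8df1cd99c739dd3d28382650e5e4bc9cd31bd39a534883845e8e578bc94e1190096c38432f45ad05b0af14b616c19ae35c053870887b4f6014d9ed029a2ec637a7a107d0f41cf81f431c334c732869c2650ca14ef9d909df3be535a5aca654d29cef8fb18c028851f665505747fa0600cd290b216729852ce42c8b9ca214640fd1fa61803f50408a218968fd091628a61fa3fca52061a04809f30c318631322640a6438014c08102970de052c1480a541b014a05102930fa05243eca3983381488e6028e11605202cc0a3c6c1c648c930d7154612c204e1b437a03806d287c0a450de7a42774e684df17f097938e13824dc24a4df08bb1a611e93d263667b0c7a4b694d31b331ed,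
  nat_lit 0x27482804e843f4c3189d18a219232473246486770c908a719209632825324664a680cc90a8199115633212d05f8e6649da09e188313c278124e3d884f0ab108515639582ac829a5586564ab049515831561d01218430455c861c8210c410321862b03386430ac94a4959310e2b24294434e564f798e08ea090e24821d43a503a85a14750ea193038832f84c00ae8be015d9f411c43c81388710e700fb8cf79e641f737a23ee7ec27dcfb94df1c4317b3de73ca7bc4708f784fc1b121ef28c32664cd051099949a93330ed29012665b906dccd84b792409542a872a66208550ce20cd96e31b5336436a6d8c5b8da815c16e216e36832dc66825b8b7015c99a0ab9572536cae4c6d4f898da1d829b4396436870c26d0e29cda1b439db33e12f667d05f4c8a0cf8f009111f2822244463e0ab9ca099f29e434052ae4d8e55ce314cf92f09572ae52fc444c42488a0788f640bc1ec31f43d8430c7b04708cc30f61847120309030c610c4c0c208b213a618450ce4a4a198ca994194329c4292524a400801c8790040ce200320840023b08798800c1409e182719e304625c60845b0d028c13e253fc378c48c56185708228ae1e281f231c43e46d047c8f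930be282726c64465048208a091c0941282626c4d80ab07881568bd02ae122055e1780ac03c015888e02b2110056621c0ad02c815a8ae10841c0815c37ce2b86f10570ae18ae108056c2b80add5b88422b740df1c0856e2d04378929c6f0de392624682485bce5c0db20da9f409f13fc73e27c4e760e884de9d141d931a83a2720a744f208f89d111fb310727e6210638a408c4097209a12e80e625ce2884b883709708890be512e1e4217c2f8c4805f38990be2090258817c4c1055898409913020de26022283a144c092309e0e650941ccc180399050873085914470e6279033c879c67084089e19c1168434a33839144f1f939d63188390338a43887015315802a734005507900aa4fd81551c811f83f005567082720e418bf9f929cc3f233f87e44740fc84f69d529f91da71ce39c641473847f12c30e716461922c8a20c739c6a8b240b714a8164228e1e445204608a289611460b4228826c3308451cb3996316739672c672ce61cc09c741c93ba73926cc2730e614ee9c911a730823986046724e69ce617f3993326630864ce69ce60cee99311dd3ba054a64c2698eb98c99423190,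
  nat_lit 0x2c0334e69c0b7ce4817018102e138e05c47e00b8ce8017218702e528e05cc4b80b9c72187793502e81de05d239104ac720c858e4111e1c812142c4c39065945f0cb2108196319632c427865845710938cb1b8216437064186e20708dc31061ea11b85e82600c010c8180413a30072806006720c008a3188298027671e63cc82f079949d0f310c027251e659c6480a1949012010e6240822648083749c849011e396a23c82d2478c4a48f10b4150091e304639e608e720c120c618211ca39c43046b066b0b388d61ac41a335853bc6b0c684d610e19cb09ac3c0232e65c6544cb94a799739d732e83b465c2594f010cb9d3318927a631455504f4841c9e955313d27a124c624e674c4a0a9189319d31243127484624f520f51ea31f03fe13d4668e74893988f8db291f23e12a247ce5b0b59c8f9ab41e72ca835a7ace6a8d504f01ae416523a62ca5d8a594b288d51ec41aa35433566acc590d514b216402d637c53547b506ace704d59ab29c134243827040b5cc084d09b339a1342737c7782724e0a0ef1e939de36643bc77846508310a199402d828605b2450e41864888311b090620c61b43680b688e016d9d219a82c405b87890748f114e91d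221d235005ba6e02748e9016f2de39e25bc3350b7826e0f1156f1b821b837082dc6e0c6dcdc14f99db19b83c073f878107f4f00ce719631e03ac739c738a71ce708cc19629ce306534e60c472cc184b3983413e29e83064e4e41c9ca07b93920f81f822727e8a7f4fd18e49fa21e13f433947e84764ea9cfd152419d1bc1210670c548cd94a9152215233422a44882548a9016a95539082a8621054ca4208408670d1210c19c05a84300b4c629c688cf28d118e81a228463448888688ba08d12ec130a7344614c220c29d1298530a32784f00b406894618ff02d118605a4b54c66d6a88cd2d5092233865aa784a770f098f21e119993c223fc718e7847a9c5e0f638f518421ea3d4c46c79208d8fa391b19461ea46cc3e463946c8c838d91a081b232423646c946109828a9134615228d02a44d9c5488010a912c11522a481e43c815e04d02bd06a057c0b00afc0f816001202c104605840840b0c08816202202c5048058c0c00b1c1f016404f02c90f405941640b2c4201660ae02cd15c059c48863786f0167922417124452e0488c5bc91109116e11222a25278544442ca89cc818f3951,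
  nat_lit 0x33c12e66388678b994ba97331242e6432a5cc66e8b9889912339733c663a678ce66cf1a0ce1e311f53c6137466cc78cad049c15a21792b472ec56905b4ad18d115a296722432b444883488914ad912412122421aa44823cc90148917209892e472e25c90488b914de17231712e442e46e045c899149a13230ea26442884c864a89904ac8e939322e813105d0e574ba20ca974297a2e8624e5d084909988ba163217537463787d8a7d4ba94930ec31342c242684d0e4d0baa0ba9bc39bc37813a64d02524ba84c51f609f33ec83ec7d8c748de08f99d311f62c633527d867a8d488f51ea032d35263646a4a588d4a0d49a909dc3d44352598c474b314bc96639b12cc836059846acb304cc1af216635e2344794e6bcf7a0d79ee19af394135e7d4a6e4dc8cfa1af29a134206427040c88df0191976032424e064a3840c9878019392f03282f6065270c0ca8dc94cd19a032b33406586e4e6ecdca0fa9b9119b372136a5bc86e48a9c88115314a22a820a45463548a88b011508fb1f8622a4ec24846e109092739212d4624257ca484908cb696d02ff328060077c0c04d681811b003033ca06087980c14d2818315d030724606104940c246f81850d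f030b16a06182200c3447018705c030f07a06201040c44300189092031317c06282700c5447818b0bd03171e206303140c644a018d0a2031b19e06384240c74aa818f0f4213d21281e832ce3d05e187a0f228f427a063e3d063d060887a0e008f41e80640c802381901c84b2040cb6405178c80c3c990109e8c113202be1284468457ca1a0af929395f2d852be7b886c8f71cfb95f19a634c05f67a40bf0f718ef1b302fd3bc05fc7b90798f708ef9ee09fa3d663dc7d427c8f91cda9f241b63e433fc7c846e8da98f91c241a237673ea7d467c0d908f81f002ee36413c271106c8e01cd91c429b217811a438503486e1c690a430d21c051a4348638c7181751b2196825205d65a00bb48f017617039ba2de83746e8a5bcb7817792202f02e005e26ec0bc8ad94b49e802f32d205ec7000bd0bc017a9a2195b2f482b6578e56c8b08ad93a095b2b6423e47c0bdcb2817c1a221ab35405f26ac0be8d120d21a2098236053444e085fc9c1cc2938418427063044e0a60c798c9c0e328e01c6820c38ce45071885c8e308f216051c6580250c9ba0b0142396027262c0638a5807210950e4392c,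
  nat_lit 0x19e315433c5314678e550cf20a999e1159]
noncomputable def A : List (List (ℕ)) := [A_0]
noncomputable def K_0 : List (ℕ) := [nat_lit 0x5c8b2d732695ac6e9a21bb330d9dbbc0d7749950b23a6407d9622913eada4a1afe6668b18dbca7965a983a3e3aed4ceb3bc29caddbc9f2536505169d42d6f35caac6318ce0bc2ad77a4916a98a61862d0a9165c6d75ad268372498cca66370c758f96960c900fa2ff3e6cd0bc9d35a2d44a7951614909bd1f12a4501389d260684d09188592cdd131254acc2d08b42686b5135a1431249c8aa673345a18f165454cd5209672cc7c125b002f4541683054a64f09da9942054d3813f3a261cd3ab366c72d2a93a5a4a5569a6c27a4498110f452c054a111220a58d4128682450db1ef2c8ad18e17b2b09bc9f186258a61139ce2a8684e812a35473096b042267b8872974dc5f8949a936a554d017c2c2564c292b356734e7ab22fe4b8f690d3d65f4da25226e580ad1ac308940d910c3004bcd79ec4a26c49b1352b6570af9ad30642c851302626b8d8182268574af1092646049990421040c8290220c40480000,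
  nat_lit 0x626c58ca2a44c0e6da03266db089ea2eb624f91abaea6dcfa95f2bf3f8ec97ba1d3f651ce125f8546fdc839f5d2ea152b1423e6556797154664c8e1dd622ec1ac3253bce7930b2f65aca59733f4c446c8f36c46ebb57a946292bd976421438f560eba03b45c1ab3635f0f495e9c3820b00febb674ae8e1214a59cb050f1fa290f8dd3a5e6c90b0df21b6be8d5b9b2a76a481742fa662dd0baaa232cc60b919223ac41da35964877dc8acd738edd943bb4c6468ba2bb470bc97a1453f0b0a1042585709cec96f6aad857caf13fcaf0e22ba5f7079d114b5728854ebbe7ca7fcb69f97bd0a5b7a5d6cadc4deb5e434e65bab2b244c388ca5938cc6587a5b646968f02e76b8cc9a29974325cdd9b72598dd9cebcc4c863d90c1f6d1098a229f472c88f0aa038aa79799f75868f4ec3542dce3df5bb9742ee0a6ab86f0b294e1e22848ba079d52d90a1b32c531a9708c3705cacb0de398246ead2c30d31c71c8bb5b,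
  nat_lit 0x7d8fa5f43e77ccf89f0be07bef75ee3db7b4f65ec3d77acf4de8bd079ef39e4bc878ef19e2bc4786f09e0bc077eec5d7bae75aeb1d53a974ce91cd39772ce51c9b9271ce35c638b714e25c438770ce15c2383704e05c037f6fcdf5be37b6d6da9b13606a4d41a7b4e69ad31a5b4a692d21a3b4667ccf59e33b674ce598327634c5d8ab09610bf57e2f05debb9712e15c0b7d6f2dd5b8b6d6d2d95b0b5d642c756cad558ab055eab9562ab554aa5542a754ca854d293524a4147a8e51aa3145a8a512a2143a8650aa1141a82502a013fa7e4fa9f13da7a4f29e13ba764ea9d139a724da9a92ba5449e93926a4c4949252424748c9152224347e8f11da364688cd192314608bd15a2844a89111a2244087d0c21741e83906a0c41682904a0840e81902a0440680900a003d47a4f41e73cc794f21e33b876ce51c9390704e01b7366698d29a4346688cf99e33a670cd9913205dcbb1632c455cab14c2724e090907,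
  nat_lit 0x211c1c83706a0cc1882f05a0ac1482704a08c0e81902e0540981101e0340580900e01401800ffdff3fd7f8fedfd3f97f0fddfb3f57e8fcdf93f17e0fbdf73ed]
noncomputable def K : List (List (ℕ)) := [K_0]
noncomputable def R_0 : List (Rule) := [Rule.mk (nat_lit 4) (nat_lit 46) (Steps.bwd (nat_lit 1) (Steps.fwd (nat_lit 8192) (Steps.fwd (nat_lit 2048) Steps.nil))) (nat_lit 8) (nat_lit 0),
  Rule.mk (nat_lit 5) (nat_lit 46) (Steps.bwd (nat_lit 1) (Steps.fwd (nat_lit 10240) (Steps.fwd (nat_lit 2048) Steps.nil))) (nat_lit 18) (nat_lit 3),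
  Rule.mk (nat_lit 7) (nat_lit 46) (Steps.bwd (nat_lit 1) (Steps.fwd (nat_lit 14336) (Steps.fwd (nat_lit 2048) Steps.nil))) (nat_lit 28) (nat_lit 3),
  Rule.mk (nat_lit 4) (nat_lit 46) (Steps.bwd (nat_lit 2) (Steps.fwd (nat_lit 8192) (Steps.fwd (nat_lit 4096) Steps.nil))) (nat_lit 12) (nat_lit 0),
  Rule.mk (nat_lit 5) (nat_lit 46) (Steps.bwd (nat_lit 2) (Steps.fwd (nat_lit 10240) (Steps.fwd (nat_lit 4096) Steps.nil))) (nat_lit 20) (nat_lit 3),
  Rule.mk (nat_lit 7) (nat_lit 46) (Steps.bwd (nat_lit 2) (Steps.fwd (nat_lit 14336) (Steps.fwd (nat_lit 4096) Steps.nil))) (nat_lit 30) (nat_lit 3),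
  Rule.mk (nat_lit 3) (nat_lit 106) (Steps.bwd (nat_lit 2) (Steps.bwd (nat_lit 3) (Steps.bwd (nat_lit 2) (Steps.bwd (nat_lit 3) (Steps.bwd (nat_lit 2) (Steps.bwd (nat_lit 3) (Steps.bwd (nat_lit 2) (Steps.fwd (nat_lit 2048) Steps.nil)))))))) (nat_lit 10) (nat_lit 2),
  Rule.mk (nat_lit 5) (nat_lit 46) (Steps.fwd (nat_lit 6144) (Steps.bwd (nat_lit 5) (Steps.bwd (nat_lit 3) Steps.nil))) (nat_lit 22) (nat_lit 1),
  Rule.mk (nat_lit 8) (nat_lit 46) (Steps.fwd (nat_lit 6144) (Steps.bwd (nat_lit 7) (Steps.bwd (nat_lit 3) Steps.nil))) (nat_lit 32) (nat_lit 1),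
  Rule.mk (nat_lit 7) (nat_lit 46) (Steps.fwd (nat_lit 4096) (Steps.bwd (nat_lit 8) (Steps.bwd (nat_lit 2) Steps.nil))) (nat_lit 30) (nat_lit 3),
  Rule.mk (nat_lit 6) (nat_lit 46) (Steps.fwd (nat_lit 4096) (Steps.bwd (nat_lit 5) (Steps.bwd (nat_lit 2) Steps.nil))) (nat_lit 20) (nat_lit 1),
  Rule.mk (nat_lit 6) (nat_lit 46) (Steps.fwd (nat_lit 6144) (Steps.bwd (nat_lit 6) (Steps.bwd (nat_lit 3) Steps.nil))) (nat_lit 23) (nat_lit 0),
  Rule.mk (nat_lit 5) (nat_lit 46) (Steps.fwd (nat_lit 4096) (Steps.bwd (nat_lit 6) (Steps.bwd (nat_lit 2) Steps.nil))) (nat_lit 20) (nat_lit 3),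
  Rule.mk (nat_lit 0) (nat_lit 118) (Steps.bwd (nat_lit 2) (Steps.bwd (nat_lit 3) (Steps.bwd (nat_lit 2) (Steps.bwd (nat_lit 3) (Steps.bwd (nat_lit 2) (Steps.bwd (nat_lit 3) (Steps.bwd (nat_lit 2) (Steps.fwd (nat_lit 6144) (Steps.fwd (nat_lit 2048) Steps.nil))))))))) (nat_lit 11) (nat_lit 0),
  Rule.mk (nat_lit 2) (nat_lit 34) (Steps.bwd (nat_lit 0) (Steps.bwd (nat_lit 2) Steps.nil)) (nat_lit 60) (nat_lit 0),
  Rule.mk (nat_lit 3) (nat_lit 34) (Steps.bwd (nat_lit 0) (Steps.fwd (nat_lit 6144) Steps.nil)) (nat_lit 60) (nat_lit 0),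
  Rule.mk (nat_lit 1) (nat_lit 106) (Steps.fwd (nat_lit 6144) (Steps.fwd (nat_lit 4096) (Steps.fwd (nat_lit 6144) (Steps.fwd (nat_lit 4096) (Steps.fwd (nat_lit 6144) (Steps.bwd (nat_lit 2) (Steps.fwd (nat_lit 6144) (Steps.fwd (nat_lit 4096) Steps.nil)))))))) (nat_lit 10) (nat_lit 1),
  Rule.mk (nat_lit 1) (nat_lit 106) (Steps.fwd (nat_lit 6144) (Steps.fwd (nat_lit 4096) (Steps.fwd (nat_lit 6144) (Steps.bwd (nat_lit 2) (Steps.fwd (nat_lit 6144) (Steps.fwd (nat_lit 4096) (Steps.bwd (nat_lit 3) (Steps.bwd (nat_lit 2) Steps.nil)))))))) (nat_lit 10) (nat_lit 1),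
  Rule.mk (nat_lit 1) (nat_lit 106) (Steps.fwd (nat_lit 6144) (Steps.bwd (nat_lit 2) (Steps.fwd (nat_lit 6144) (Steps.fwd (nat_lit 4096) (Steps.bwd (nat_lit 3) (Steps.bwd (nat_lit 2) (Steps.bwd (nat_lit 3) (Steps.bwd (nat_lit 2) Steps.nil)))))))) (nat_lit 10) (nat_lit 1),
  Rule.mk (nat_lit 6) (nat_lit 634) (Steps.bwd (nat_lit 4) (Steps.bwd (nat_lit 3) (Steps.bwd (nat_lit 2) (Steps.bwd (nat_lit 3) (Steps.bwd (nat_lit 4) (Steps.bwd (nat_lit 5) (Steps.bwd (nat_lit 4) (Steps.bwd (nat_lit 2) (Steps.bwd (nat_lit 3) (Steps.bwd (nat_lit 4) (Steps.bwd (nat_lit 3) (Steps.bwd (nat_lit 2) (Steps.bwd (nat_lit 3) (Steps.bwd (nat_lit 6) (Steps.bwd (nat_lit 4) (Steps.bwd (nat_lit 3) (Steps.bwd (nat_lit 2) (Steps.bwd (nat_lit 3) (Steps.bwd (nat_lit 4) (Steps.bwd (nat_lit 5) (Steps.bwd (nat_lit 4) (Steps.bwd (nat_lit 5) (Steps.bwd (nat_lit 4) (Steps.bwd (nat_lit 3) (Steps.bwd (nat_lit 2) (Steps.bwd (nat_lit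 3) (Steps.bwd (nat_lit 4) (Steps.bwd (nat_lit 5) (Steps.bwd (nat_lit 4) (Steps.bwd (nat_lit 3) (Steps.bwd (nat_lit 2) (Steps.bwd (nat_lit 3) (Steps.bwd (nat_lit 4) (Steps.bwd (nat_lit 6) (Steps.bwd (nat_lit 6) (Steps.bwd (nat_lit 6) (Steps.bwd (nat_lit 4) (Steps.bwd (nat_lit 3) (Steps.bwd (nat_lit 2) (Steps.bwd (nat_lit 3) (Steps.bwd (nat_lit 4) (Steps.bwd (nat_lit 6) (Steps.bwd (nat_lit 4) (Steps.bwd (nat_lit 3) (Steps.bwd (nat_lit 2) (Steps.fwd (nat_lit 6144) (Steps.fwd (nat_lit 8192) (Steps.bwd (nat_lit 5) (Steps.bwd (nat_lit 5) (Steps.fwd (nat_lit 4096) (Steps.fwd (nat_lit 6144) (Steps.fwd (nat_lit 8192) Steps.nil)))))))))))))))))))))))))))))))))))))))))))))))))))) (nat_lit 58) (nat_lit 4),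
  Rule.mk (nat_lit 6) (nat_lit 106) (Steps.bwd (nat_lit 6) (Steps.bwd (nat_lit 4) (Steps.fwd (nat_lit 12288) (Steps.fwd (nat_lit 12288) (Steps.fwd (nat_lit 12288) (Steps.fwd (nat_lit 8192) (Steps.bwd (nat_lit 6) (Steps.bwd (nat_lit 4) Steps.nil)))))))) (nat_lit 24) (nat_lit 6),
  Rule.mk (nat_lit 6) (nat_lit 106) (Steps.bwd (nat_lit 6) (Steps.bwd (nat_lit 6) (Steps.bwd (nat_lit 4) (Steps.fwd (nat_lit 12288) (Steps.fwd (nat_lit 12288) (Steps.fwd (nat_lit 8192) (Steps.fwd (nat_lit 12288) (Steps.fwd (nat_lit 8192) Steps.nil)))))))) (nat_lit 25) (nat_lit 1),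
  Rule.mk (nat_lit 6) (nat_lit 46) (Steps.bwd (nat_lit 3) (Steps.bwd (nat_lit 6) (Steps.bwd (nat_lit 3) Steps.nil))) (nat_lit 23) (nat_lit 0),
  Rule.mk (nat_lit 5) (nat_lit 46) (Steps.fwd (nat_lit 4096) (Steps.bwd (nat_lit 6) (Steps.fwd (nat_lit 4096) Steps.nil))) (nat_lit 20) (nat_lit 3),
  Rule.mk (nat_lit 5) (nat_lit 46) (Steps.bwd (nat_lit 3) (Steps.bwd (nat_lit 5) (Steps.bwd (nat_lit 3) Steps.nil))) (nat_lit 22) (nat_lit 1),
  Rule.mk (nat_lit 7) (nat_lit 46) (Steps.bwd (nat_lit 4) (Steps.fwd (nat_lit 14336) (Steps.fwd (nat_lit 8192) Steps.nil))) (nat_lit 34) (nat_lit 3),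
  Rule.mk (nat_lit 3) (nat_lit 70) (Steps.bwd (nat_lit 4) (Steps.bwd (nat_lit 3) (Steps.fwd (nat_lit 8192) (Steps.fwd (nat_lit 6144) (Steps.fwd (nat_lit 8192) Steps.nil))))) (nat_lit 14) (nat_lit 1),
  Rule.mk (nat_lit 3) (nat_lit 46) (Steps.fwd (nat_lit 12288) (Steps.fwd (nat_lit 6144) (Steps.fwd (nat_lit 12288) Steps.nil))) (nat_lit 22) (nat_lit 0),
  Rule.mk (nat_lit 4) (nat_lit 70) (Steps.bwd (nat_lit 3) (Steps.bwd (nat_lit 4) (Steps.bwd (nat_lit 3) (Steps.bwd (nat_lit 4) (Steps.bwd (nat_lit 3) Steps.nil))))) (nat_lit 14) (nat_lit 0),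
  Rule.mk (nat_lit 4) (nat_lit 46) (Steps.fwd (nat_lit 4096) (Steps.bwd (nat_lit 4) (Steps.fwd (nat_lit 4096) Steps.nil))) (nat_lit 12) (nat_lit 0),
  Rule.mk (nat_lit 6) (nat_lit 106) (Steps.bwd (nat_lit 6) (Steps.fwd (nat_lit 8192) (Steps.fwd (nat_lit 12288) (Steps.fwd (nat_lit 12288) (Steps.fwd (nat_lit 12288) (Steps.fwd (nat_lit 8192) (Steps.bwd (nat_lit 6) (Steps.bwd (nat_lit 4) Steps.nil)))))))) (nat_lit 24) (nat_lit 6),
  Rule.mk (nat_lit 3) (nat_lit 70) (Steps.bwd (nat_lit 4) (Steps.bwd (nat_lit 3) (Steps.bwd (nat_lit 4) (Steps.bwd (nat_lit 3) (Steps.bwd (nat_lit 4) Steps.nil))))) (nat_lit 14) (nat_lit 1),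
  Rule.mk (nat_lit 8) (nat_lit 58) (Steps.fwd (nat_lit 12288) (Steps.bwd (nat_lit 7) (Steps.bwd (nat_lit 6) (Steps.bwd (nat_lit 6) Steps.nil)))) (nat_lit 36) (nat_lit 1),
  Rule.mk (nat_lit 7) (nat_lit 58) (Steps.fwd (nat_lit 12288) (Steps.fwd (nat_lit 12288) (Steps.bwd (nat_lit 8) (Steps.bwd (nat_lit 6) Steps.nil)))) (nat_lit 37) (nat_lit 0),
  Rule.mk (nat_lit 7) (nat_lit 34) (Steps.fwd (nat_lit 16384) (Steps.bwd (nat_lit 7) Steps.nil)) (nat_lit 26) (nat_lit 0),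
  Rule.mk (nat_lit 8) (nat_lit 46) (Steps.bwd (nat_lit 3) (Steps.bwd (nat_lit 7) (Steps.fwd (nat_lit 6144) Steps.nil))) (nat_lit 32) (nat_lit 1),
  Rule.mk (nat_lit 8) (nat_lit 46) (Steps.fwd (nat_lit 8192) (Steps.bwd (nat_lit 7) (Steps.bwd (nat_lit 4) Steps.nil))) (nat_lit 34) (nat_lit 1),
  Rule.mk (nat_lit 8) (nat_lit 34) (Steps.bwd (nat_lit 8) (Steps.bwd (nat_lit 8) Steps.nil)) (nat_lit 27) (nat_lit 0),
  Rule.mk (nat_lit 6) (nat_lit 634) (Steps.bwd (nat_lit 4) (Steps.bwd (nat_lit 3) (Steps.bwd (nat_lit 2) (Steps.bwd (nat_lit 3) (Steps.bwd (nat_lit 4) (Steps.bwd (nat_lit 5) (Steps.bwd (nat_lit 4) (Steps.bwd (nat_lit 2) (Steps.bwd (nat_lit 3) (Steps.bwd (nat_lit 4) (Steps.bwd (nat_lit 3) (Steps.bwd (nat_lit 2) (Steps.bwd (nat_lit 3) (Steps.bwd (nat_lit 6) (Steps.bwd (nat_lit 4) (Steps.bwd (nat_lit 3) (Steps.bwd (nat_lit 2) (Steps.bwd (nat_lit 3) (Steps.bwd (nat_lit 4) (Steps.bwd (nat_lit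 5) (Steps.bwd (nat_lit 4) (Steps.bwd (nat_lit 5) (Steps.bwd (nat_lit 4) (Steps.bwd (nat_lit 3) (Steps.bwd (nat_lit 2) (Steps.bwd (nat_lit 3) (Steps.bwd (nat_lit 4) (Steps.bwd (nat_lit 5) (Steps.bwd (nat_lit 4) (Steps.bwd (nat_lit 3) (Steps.bwd (nat_lit 2) (Steps.bwd (nat_lit 3) (Steps.bwd (nat_lit 4) (Steps.bwd (nat_lit 6) (Steps.bwd (nat_lit 6) (Steps.bwd (nat_lit 6) (Steps.bwd (nat_lit 4) (Steps.bwd (nat_lit 3) (Steps.bwd (nat_lit 2) (Steps.bwd (nat_lit 3) (Steps.bwd (nat_lit 4) (Steps.bwd (nat_lit 6) (Steps.bwd (nat_lit 4) (Steps.fwd (nat_lit 6144) (Steps.bwd (nat_lit 2) (Steps.fwd (nat_lit 6144) (Steps.fwd (nat_lit 8192) (Steps.bwd (nat_lit 5) (Steps.bwd (nat_lit 5) (Steps.fwd (nat_lit 4096) (Steps.bwd (nat_lit 3) (Steps.fwd (nat_lit 8192) Steps.nil)))))))))))))))))))))))))))))))))))))))))))))))))))) (nat_lit 58) (nat_lit 4),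
  Rule.mk (nat_lit 1) (nat_lit 46) (Steps.bwd (nat_lit 4) (Steps.fwd (nat_lit 2048) (Steps.fwd (nat_lit 8192) Steps.nil))) (nat_lit 8) (nat_lit 1),
  Rule.mk (nat_lit 7) (nat_lit 46) (Steps.bwd (nat_lit 4) (Steps.bwd (nat_lit 8) (Steps.fwd (nat_lit 8192) Steps.nil))) (nat_lit 34) (nat_lit 3),
  Rule.mk (nat_lit 3) (nat_lit 70) (Steps.bwd (nat_lit 4) (Steps.fwd (nat_lit 6144) (Steps.fwd (nat_lit 8192) (Steps.bwd (nat_lit 3) (Steps.fwd (nat_lit 8192) Steps.nil))))) (nat_lit 14) (nat_lit 1),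
  Rule.mk (nat_lit 1) (nat_lit 46) (Steps.fwd (nat_lit 12288) (Steps.bwd (nat_lit 1) (Steps.bwd (nat_lit 6) Steps.nil))) (nat_lit 18) (nat_lit 2),
  Rule.mk (nat_lit 1) (nat_lit 46) (Steps.bwd (nat_lit 6) (Steps.bwd (nat_lit 1) (Steps.fwd (nat_lit 12288) Steps.nil))) (nat_lit 18) (nat_lit 0),
  Rule.mk (nat_lit 1) (nat_lit 46) (Steps.bwd (nat_lit 4) (Steps.bwd (nat_lit 1) (Steps.fwd (nat_lit 8192) Steps.nil))) (nat_lit 8) (nat_lit 1),
  Rule.mk (nat_lit 1) (nat_lit 46) (Steps.fwd (nat_lit 16384) (Steps.bwd (nat_lit 1) (Steps.bwd (nat_lit 8) Steps.nil))) (nat_lit 28) (nat_lit 2),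
  Rule.mk (nat_lit 2) (nat_lit 634) (Steps.bwd (nat_lit 3) (Steps.bwd (nat_lit 4) (Steps.bwd (nat_lit 3) (Steps.bwd (nat_lit 2) (Steps.bwd (nat_lit 3) (Steps.bwd (nat_lit 6) (Steps.bwd (nat_lit 4) (Steps.bwd (nat_lit 3) (Steps.bwd (nat_lit 2) (Steps.bwd (nat_lit 3) (Steps.bwd (nat_lit 4) (Steps.bwd (nat_lit 5) (Steps.bwd (nat_lit 4) (Steps.bwd (nat_lit 5) (Steps.bwd (nat_lit 4) (Steps.bwd (nat_lit 3) (Steps.bwd (nat_lit 2) (Steps.bwd (nat_lit 3) (Steps.bwd (nat_lit 4) (Steps.bwd (nat_lit 5) (Steps.bwd (nat_lit 4) (Steps.bwd (nat_lit 3) (Steps.bwd (nat_lit 2) (Steps.bwd (nat_lit 3) (Steps.bwd (nat_lit 4) (Steps.bwd (nat_lit 6) (Steps.bwd (nat_lit 6) (Steps.bwd (nat_lit 6) (Steps.bwd (nat_lit 4) (Steps.bwd (nat_lit 3) (Steps.bwd (nat_lit 2) (Steps.bwd (nat_lit 3) (Steps.bwd (nat_lit 4) (Steps.bwd (nat_lit 6) (Steps.bwd (nat_lit 4) (Steps.bwd (nat_lit 3) (Steps.bwd (nat_lit 2) (Steps.bwd (nat_lit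 3) (Steps.fwd (nat_lit 8192) (Steps.bwd (nat_lit 5) (Steps.bwd (nat_lit 5) (Steps.bwd (nat_lit 2) (Steps.fwd (nat_lit 6144) (Steps.fwd (nat_lit 8192) (Steps.fwd (nat_lit 10240) (Steps.fwd (nat_lit 8192) (Steps.fwd (nat_lit 6144) (Steps.fwd (nat_lit 4096) (Steps.fwd (nat_lit 6144) (Steps.fwd (nat_lit 8192) (Steps.fwd (nat_lit 12288) (Steps.fwd (nat_lit 8192) Steps.nil)))))))))))))))))))))))))))))))))))))))))))))))))))) (nat_lit 58) (nat_lit 12),
  Rule.mk (nat_lit 5) (nat_lit 46) (Steps.bwd (nat_lit 2) (Steps.bwd (nat_lit 6) (Steps.bwd (nat_lit 2) Steps.nil))) (nat_lit 20) (nat_lit 3),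
  Rule.mk (nat_lit 8) (nat_lit 46) (Steps.fwd (nat_lit 4096) (Steps.bwd (nat_lit 7) (Steps.bwd (nat_lit 2) Steps.nil))) (nat_lit 30) (nat_lit 1),
  Rule.mk (nat_lit 7) (nat_lit 46) (Steps.fwd (nat_lit 6144) (Steps.bwd (nat_lit 8) (Steps.bwd (nat_lit 3) Steps.nil))) (nat_lit 32) (nat_lit 3),
  Rule.mk (nat_lit 5) (nat_lit 46) (Steps.fwd (nat_lit 6144) (Steps.bwd (nat_lit 5) (Steps.fwd (nat_lit 6144) Steps.nil))) (nat_lit 22) (nat_lit 1),
  Rule.mk (nat_lit 2) (nat_lit 46) (Steps.bwd (nat_lit 4) (Steps.fwd (nat_lit 4096) (Steps.fwd (nat_lit 8192) Steps.nil))) (nat_lit 12) (nat_lit 1),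
  Rule.mk (nat_lit 2) (nat_lit 46) (Steps.bwd (nat_lit 6) (Steps.bwd (nat_lit 2) (Steps.fwd (nat_lit 12288) Steps.nil))) (nat_lit 20) (nat_lit 0),
  Rule.mk (nat_lit 2) (nat_lit 46) (Steps.bwd (nat_lit 4) (Steps.bwd (nat_lit 2) (Steps.fwd (nat_lit 8192) Steps.nil))) (nat_lit 12) (nat_lit 1),
  Rule.mk (nat_lit 7) (nat_lit 46) (Steps.bwd (nat_lit 2) (Steps.bwd (nat_lit 8) (Steps.fwd (nat_lit 4096) Steps.nil))) (nat_lit 30) (nat_lit 3),
  Rule.mk (nat_lit 8) (nat_lit 46) (Steps.fwd (nat_lit 8192) (Steps.bwd (nat_lit 7) (Steps.fwd (nat_lit 8192) Steps.nil))) (nat_lit 34) (nat_lit 1),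
  Rule.mk (nat_lit 7) (nat_lit 46) (Steps.bwd (nat_lit 3) (Steps.bwd (nat_lit 8) (Steps.bwd (nat_lit 3) Steps.nil))) (nat_lit 32) (nat_lit 3),
  Rule.mk (nat_lit 2) (nat_lit 106) (Steps.bwd (nat_lit 3) (Steps.bwd (nat_lit 2) (Steps.bwd (nat_lit 1) (Steps.bwd (nat_lit 3) (Steps.bwd (nat_lit 2) (Steps.fwd (nat_lit 6144) (Steps.fwd (nat_lit 4096) (Steps.fwd (nat_lit 6144) Steps.nil)))))))) (nat_lit 10) (nat_lit 7),
  Rule.mk (nat_lit 1) (nat_lit 106) (Steps.bwd (nat_lit 2) (Steps.bwd (nat_lit 3) (Steps.bwd (nat_lit 2) (Steps.fwd (nat_lit 6144) (Steps.fwd (nat_lit 4096) (Steps.fwd (nat_lit 6144) (Steps.bwd (nat_lit 2) (Steps.bwd (nat_lit 3) Steps.nil)))))))) (nat_lit 11) (nat_lit 0),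
  Rule.mk (nat_lit 1) (nat_lit 106) (Steps.fwd (nat_lit 4096) (Steps.bwd (nat_lit 3) (Steps.bwd (nat_lit 2) (Steps.bwd (nat_lit 3) (Steps.fwd (nat_lit 4096) (Steps.fwd (nat_lit 6144) (Steps.fwd (nat_lit 4096) (Steps.fwd (nat_lit 6144) Steps.nil)))))))) (nat_lit 11) (nat_lit 0),
  Rule.mk (nat_lit 1) (nat_lit 46) (Steps.bwd (nat_lit 5) (Steps.bwd (nat_lit 1) (Steps.fwd (nat_lit 10240) Steps.nil))) (nat_lit 18) (nat_lit 2),
  Rule.mk (nat_lit 1) (nat_lit 46) (Steps.fwd (nat_lit 8192) (Steps.bwd (nat_lit 1) (Steps.bwd (nat_lit 4) Steps.nil))) (nat_lit 8) (nat_lit 1),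
  Rule.mk (nat_lit 1) (nat_lit 46) (Steps.fwd (nat_lit 14336) (Steps.bwd (nat_lit 1) (Steps.bwd (nat_lit 7) Steps.nil))) (nat_lit 28) (nat_lit 0),
  Rule.mk (nat_lit 1) (nat_lit 46) (Steps.fwd (nat_lit 10240) (Steps.bwd (nat_lit 1) (Steps.bwd (nat_lit 5) Steps.nil))) (nat_lit 18) (nat_lit 0)]
noncomputable def R_1 : List (Rule) := [Rule.mk (nat_lit 7) (nat_lit 46) (Steps.fwd (nat_lit 4096) (Steps.fwd (nat_lit 14336) (Steps.bwd (nat_lit 2) Steps.nil))) (nat_lit 30) (nat_lit 3),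
  Rule.mk (nat_lit 2) (nat_lit 106) (Steps.bwd (nat_lit 3) (Steps.bwd (nat_lit 2) (Steps.bwd (nat_lit 3) (Steps.fwd (nat_lit 2048) (Steps.bwd (nat_lit 2) (Steps.fwd (nat_lit 6144) (Steps.fwd (nat_lit 4096) (Steps.fwd (nat_lit 6144) Steps.nil)))))))) (nat_lit 11) (nat_lit 5),
  Rule.mk (nat_lit 1) (nat_lit 106) (Steps.fwd (nat_lit 6144) (Steps.fwd (nat_lit 4096) (Steps.bwd (nat_lit 3) (Steps.bwd (nat_lit 2) (Steps.bwd (nat_lit 3) (Steps.fwd (nat_lit 4096) (Steps.fwd (nat_lit 6144) (Steps.fwd (nat_lit 4096) Steps.nil)))))))) (nat_lit 10) (nat_lit 1),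
  Rule.mk (nat_lit 1) (nat_lit 106) (Steps.fwd (nat_lit 4096) (Steps.fwd (nat_lit 6144) (Steps.fwd (nat_lit 4096) (Steps.bwd (nat_lit 3) (Steps.bwd (nat_lit 2) (Steps.bwd (nat_lit 3) (Steps.fwd (nat_lit 4096) (Steps.fwd (nat_lit 6144) Steps.nil)))))))) (nat_lit 11) (nat_lit 0),
  Rule.mk (nat_lit 2) (nat_lit 46) (Steps.bwd (nat_lit 5) (Steps.bwd (nat_lit 2) (Steps.fwd (nat_lit 10240) Steps.nil))) (nat_lit 20) (nat_lit 2),
  Rule.mk (nat_lit 2) (nat_lit 106) (Steps.bwd (nat_lit 3) (Steps.bwd (nat_lit 2) (Steps.bwd (nat_lit 3) (Steps.bwd (nat_lit 2) (Steps.fwd (nat_lit 2048) (Steps.fwd (nat_lit 6144) (Steps.fwd (nat_lit 4096) (Steps.fwd (nat_lit 6144) Steps.nil)))))))) (nat_lit 10) (nat_lit 5),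
  Rule.mk (nat_lit 1) (nat_lit 106) (Steps.fwd (nat_lit 6144) (Steps.bwd (nat_lit 2) (Steps.bwd (nat_lit 3) (Steps.bwd (nat_lit 2) (Steps.bwd (nat_lit 3) (Steps.bwd (nat_lit 2) (Steps.fwd (nat_lit 6144) (Steps.fwd (nat_lit 4096) Steps.nil)))))))) (nat_lit 10) (nat_lit 1),
  Rule.mk (nat_lit 1) (nat_lit 106) (Steps.fwd (nat_lit 4096) (Steps.fwd (nat_lit 6144) (Steps.bwd (nat_lit 2) (Steps.bwd (nat_lit 3) (Steps.bwd (nat_lit 2) (Steps.bwd (nat_lit 3) (Steps.bwd (nat_lit 2) (Steps.fwd (nat_lit 6144) Steps.nil)))))))) (nat_lit 11) (nat_lit 0),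
  Rule.mk (nat_lit 1) (nat_lit 106) (Steps.bwd (nat_lit 2) (Steps.bwd (nat_lit 3) (Steps.bwd (nat_lit 2) (Steps.bwd (nat_lit 3) (Steps.bwd (nat_lit 2) (Steps.fwd (nat_lit 6144) (Steps.fwd (nat_lit 4096) (Steps.fwd (nat_lit 6144) Steps.nil)))))))) (nat_lit 11) (nat_lit 0),
  Rule.mk (nat_lit 6) (nat_lit 46) (Steps.bwd (nat_lit 2) (Steps.bwd (nat_lit 5) (Steps.bwd (nat_lit 2) Steps.nil))) (nat_lit 20) (nat_lit 1),
  Rule.mk (nat_lit 0) (nat_lit 118) (Steps.fwd (nat_lit 6144) (Steps.bwd (nat_lit 2) (Steps.bwd (nat_lit 3) (Steps.bwd (nat_lit 2) (Steps.bwd (nat_lit 3) (Steps.bwd (nat_lit 2) (Steps.bwd (nat_lit 3) (Steps.bwd (nat_lit 2) (Steps.bwd (nat_lit 1) Steps.nil))))))))) (nat_lit 10) (nat_lit 1),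
  Rule.mk (nat_lit 0) (nat_lit 46) (Steps.bwd (nat_lit 3) (Steps.fwd (nat_lit 0) (Steps.fwd (nat_lit 6144) Steps.nil))) (nat_lit 60) (nat_lit 0),
  Rule.mk (nat_lit 0) (nat_lit 46) (Steps.bwd (nat_lit 2) (Steps.bwd (nat_lit 0) (Steps.bwd (nat_lit 2) Steps.nil))) (nat_lit 60) (nat_lit 0),
  Rule.mk (nat_lit 4) (nat_lit 34) (Steps.bwd (nat_lit 0) (Steps.fwd (nat_lit 8192) Steps.nil)) (nat_lit 60) (nat_lit 0),
  Rule.mk (nat_lit 6) (nat_lit 34) (Steps.bwd (nat_lit 0) (Steps.fwd (nat_lit 12288) Steps.nil)) (nat_lit 60) (nat_lit 0),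
  Rule.mk (nat_lit 0) (nat_lit 46) (Steps.bwd (nat_lit 1) (Steps.bwd (nat_lit 0) (Steps.bwd (nat_lit 1) Steps.nil))) (nat_lit 60) (nat_lit 0),
  Rule.mk (nat_lit 0) (nat_lit 46) (Steps.bwd (nat_lit 4) (Steps.fwd (nat_lit 0) (Steps.fwd (nat_lit 8192) Steps.nil))) (nat_lit 60) (nat_lit 0),
  Rule.mk (nat_lit 1) (nat_lit 34) (Steps.bwd (nat_lit 0) (Steps.bwd (nat_lit 1) Steps.nil)) (nat_lit 60) (nat_lit 0),
  Rule.mk (nat_lit 3) (nat_lit 34) (Steps.bwd (nat_lit 0) (Steps.bwd (nat_lit 3) Steps.nil)) (nat_lit 60) (nat_lit 0),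
  Rule.mk (nat_lit 5) (nat_lit 34) (Steps.bwd (nat_lit 0) (Steps.fwd (nat_lit 10240) Steps.nil)) (nat_lit 60) (nat_lit 0),
  Rule.mk (nat_lit 6) (nat_lit 34) (Steps.bwd (nat_lit 0) (Steps.bwd (nat_lit 5) Steps.nil)) (nat_lit 60) (nat_lit 0),
  Rule.mk (nat_lit 1) (nat_lit 34) (Steps.bwd (nat_lit 0) (Steps.fwd (nat_lit 2048) Steps.nil)) (nat_lit 60) (nat_lit 0),
  Rule.mk (nat_lit 1) (nat_lit 106) (Steps.bwd (nat_lit 2) (Steps.bwd (nat_lit 3) (Steps.bwd (nat_lit 2) (Steps.bwd (nat_lit 3) (Steps.bwd (nat_lit 2) (Steps.bwd (nat_lit 3) (Steps.bwd (nat_lit 2) (Steps.fwd (nat_lit 6144) Steps.nil)))))))) (nat_lit 11) (nat_lit 0),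
  Rule.mk (nat_lit 6) (nat_lit 46) (Steps.bwd (nat_lit 1) (Steps.fwd (nat_lit 12288) (Steps.bwd (nat_lit 1) Steps.nil))) (nat_lit 18) (nat_lit 1),
  Rule.mk (nat_lit 4) (nat_lit 46) (Steps.bwd (nat_lit 2) (Steps.bwd (nat_lit 4) (Steps.fwd (nat_lit 4096) Steps.nil))) (nat_lit 12) (nat_lit 0),
  Rule.mk (nat_lit 1) (nat_lit 46) (Steps.bwd (nat_lit 4) (Steps.bwd (nat_lit 1) (Steps.bwd (nat_lit 4) Steps.nil))) (nat_lit 8) (nat_lit 1),
  Rule.mk (nat_lit 8) (nat_lit 46) (Steps.fwd (nat_lit 8192) (Steps.fwd (nat_lit 16384) (Steps.bwd (nat_lit 4) Steps.nil))) (nat_lit 34) (nat_lit 1),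
  Rule.mk (nat_lit 6) (nat_lit 634) (Steps.bwd (nat_lit 4) (Steps.bwd (nat_lit 3) (Steps.bwd (nat_lit 2) (Steps.bwd (nat_lit 3) (Steps.bwd (nat_lit 4) (Steps.bwd (nat_lit 5) (Steps.bwd (nat_lit 4) (Steps.bwd (nat_lit 2) (Steps.bwd (nat_lit 3) (Steps.bwd (nat_lit 4) (Steps.bwd (nat_lit 3) (Steps.bwd (nat_lit 2) (Steps.bwd (nat_lit 3) (Steps.bwd (nat_lit 6) (Steps.bwd (nat_lit 4) (Steps.bwd (nat_lit 3) (Steps.bwd (nat_lit 2) (Steps.bwd (nat_lit 3) (Steps.bwd (nat_lit 4) (Steps.bwd (nat_lit 5) (Steps.bwd (nat_lit 4) (Steps.bwd (nat_lit 5) (Steps.bwd (nat_lit 4) (Steps.bwd (nat_lit 3) (Steps.bwd (nat_lit 2) (Steps.bwd (nat_lit 3) (Steps.bwd (nat_lit 4) (Steps.bwd (nat_lit 5) (Steps.bwd (nat_lit 4) (Steps.bwd (nat_lit 3) (Steps.bwd (nat_lit 2) (Steps.bwd (nat_lit 3) (Steps.bwd (nat_lit 4) (Steps.bwd (nat_lit 6) (Steps.bwd (nat_lit 6) (Steps.bwd (nat_lit 6) (Steps.bwd (nat_lit 4) (Steps.bwd (nat_lit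 3) (Steps.bwd (nat_lit 2) (Steps.bwd (nat_lit 3) (Steps.bwd (nat_lit 4) (Steps.bwd (nat_lit 6) (Steps.bwd (nat_lit 4) (Steps.bwd (nat_lit 3) (Steps.bwd (nat_lit 2) (Steps.fwd (nat_lit 6144) (Steps.bwd (nat_lit 4) (Steps.fwd (nat_lit 12288) (Steps.fwd (nat_lit 12288) (Steps.fwd (nat_lit 4096) (Steps.fwd (nat_lit 6144) (Steps.fwd (nat_lit 8192) Steps.nil)))))))))))))))))))))))))))))))))))))))))))))))))))) (nat_lit 58) (nat_lit 4),
  Rule.mk (nat_lit 2) (nat_lit 46) (Steps.fwd (nat_lit 12288) (Steps.bwd (nat_lit 2) (Steps.bwd (nat_lit 6) Steps.nil))) (nat_lit 20) (nat_lit 2),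
  Rule.mk (nat_lit 8) (nat_lit 58) (Steps.bwd (nat_lit 5) (Steps.bwd (nat_lit 7) (Steps.bwd (nat_lit 6) (Steps.bwd (nat_lit 6) Steps.nil)))) (nat_lit 36) (nat_lit 1),
  Rule.mk (nat_lit 5) (nat_lit 106) (Steps.bwd (nat_lit 5) (Steps.bwd (nat_lit 5) (Steps.fwd (nat_lit 8192) (Steps.fwd (nat_lit 10240) (Steps.bwd (nat_lit 4) (Steps.bwd (nat_lit 6) (Steps.bwd (nat_lit 6) (Steps.bwd (nat_lit 4) Steps.nil)))))))) (nat_lit 24) (nat_lit 9),
  Rule.mk (nat_lit 6) (nat_lit 106) (Steps.bwd (nat_lit 6) (Steps.bwd (nat_lit 4) (Steps.bwd (nat_lit 5) (Steps.bwd (nat_lit 5) (Steps.bwd (nat_lit 5) (Steps.fwd (nat_lit 8192) (Steps.bwd (nat_lit 6) (Steps.bwd (nat_lit 4) Steps.nil)))))))) (nat_lit 24) (nat_lit 6),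
  Rule.mk (nat_lit 5) (nat_lit 106) (Steps.bwd (nat_lit 4) (Steps.bwd (nat_lit 6) (Steps.bwd (nat_lit 6) (Steps.bwd (nat_lit 6) (Steps.bwd (nat_lit 4) (Steps.bwd (nat_lit 5) (Steps.bwd (nat_lit 5) (Steps.bwd (nat_lit 4) Steps.nil)))))))) (nat_lit 25) (nat_lit 10),
  Rule.mk (nat_lit 7) (nat_lit 58) (Steps.fwd (nat_lit 10240) (Steps.fwd (nat_lit 10240) (Steps.bwd (nat_lit 8) (Steps.bwd (nat_lit 5) Steps.nil)))) (nat_lit 36) (nat_lit 3),
  Rule.mk (nat_lit 7) (nat_lit 58) (Steps.bwd (nat_lit 5) (Steps.bwd (nat_lit 5) (Steps.bwd (nat_lit 8) (Steps.fwd (nat_lit 10240) Steps.nil)))) (nat_lit 37) (nat_lit 0),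
  Rule.mk (nat_lit 7) (nat_lit 34) (Steps.bwd (nat_lit 7) (Steps.bwd (nat_lit 7) Steps.nil)) (nat_lit 26) (nat_lit 0),
  Rule.mk (nat_lit 2) (nat_lit 46) (Steps.bwd (nat_lit 7) (Steps.bwd (nat_lit 2) (Steps.bwd (nat_lit 8) Steps.nil))) (nat_lit 30) (nat_lit 2),
  Rule.mk (nat_lit 7) (nat_lit 46) (Steps.fwd (nat_lit 8192) (Steps.bwd (nat_lit 8) (Steps.bwd (nat_lit 4) Steps.nil))) (nat_lit 34) (nat_lit 3),
  Rule.mk (nat_lit 2) (nat_lit 46) (Steps.fwd (nat_lit 10240) (Steps.bwd (nat_lit 2) (Steps.bwd (nat_lit 5) Steps.nil))) (nat_lit 20) (nat_lit 0),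
  Rule.mk (nat_lit 0) (nat_lit 58) (Steps.fwd (nat_lit 4096) (Steps.fwd (nat_lit 8192) (Steps.bwd (nat_lit 2) (Steps.bwd (nat_lit 4) Steps.nil)))) (nat_lit 12) (nat_lit 0),
  Rule.mk (nat_lit 0) (nat_lit 46) (Steps.bwd (nat_lit 2) (Steps.fwd (nat_lit 0) (Steps.bwd (nat_lit 2) Steps.nil))) (nat_lit 60) (nat_lit 0),
  Rule.mk (nat_lit 0) (nat_lit 46) (Steps.fwd (nat_lit 6144) (Steps.fwd (nat_lit 0) (Steps.fwd (nat_lit 6144) Steps.nil))) (nat_lit 60) (nat_lit 0),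
  Rule.mk (nat_lit 0) (nat_lit 46) (Steps.fwd (nat_lit 8192) (Steps.fwd (nat_lit 0) (Steps.bwd (nat_lit 4) Steps.nil))) (nat_lit 60) (nat_lit 0),
  Rule.mk (nat_lit 0) (nat_lit 46) (Steps.fwd (nat_lit 6144) (Steps.fwd (nat_lit 0) (Steps.bwd (nat_lit 3) Steps.nil))) (nat_lit 60) (nat_lit 0),
  Rule.mk (nat_lit 8) (nat_lit 46) (Steps.bwd (nat_lit 2) (Steps.bwd (nat_lit 7) (Steps.bwd (nat_lit 2) Steps.nil))) (nat_lit 30) (nat_lit 1),
  Rule.mk (nat_lit 1) (nat_lit 106) (Steps.fwd (nat_lit 6144) (Steps.bwd (nat_lit 2) (Steps.fwd (nat_lit 6144) (Steps.fwd (nat_lit 4096) (Steps.fwd (nat_lit 6144) (Steps.bwd (nat_lit 2) (Steps.bwd (nat_lit 3) (Steps.bwd (nat_lit 2) Steps.nil)))))))) (nat_lit 10) (nat_lit 1),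
  Rule.mk (nat_lit 1) (nat_lit 106) (Steps.bwd (nat_lit 2) (Steps.fwd (nat_lit 6144) (Steps.fwd (nat_lit 4096) (Steps.fwd (nat_lit 6144) (Steps.bwd (nat_lit 2) (Steps.bwd (nat_lit 3) (Steps.bwd (nat_lit 2) (Steps.bwd (nat_lit 3) Steps.nil)))))))) (nat_lit 11) (nat_lit 0),
  Rule.mk (nat_lit 6) (nat_lit 46) (Steps.fwd (nat_lit 6144) (Steps.bwd (nat_lit 6) (Steps.fwd (nat_lit 6144) Steps.nil))) (nat_lit 23) (nat_lit 0),
  Rule.mk (nat_lit 0) (nat_lit 58) (Steps.fwd (nat_lit 12288) (Steps.fwd (nat_lit 2048) (Steps.bwd (nat_lit 6) (Steps.fwd (nat_lit 2048) Steps.nil)))) (nat_lit 18) (nat_lit 2),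
  Rule.mk (nat_lit 0) (nat_lit 46) (Steps.fwd (nat_lit 4096) (Steps.fwd (nat_lit 0) (Steps.bwd (nat_lit 2) Steps.nil))) (nat_lit 60) (nat_lit 0),
  Rule.mk (nat_lit 4) (nat_lit 34) (Steps.bwd (nat_lit 0) (Steps.bwd (nat_lit 4) Steps.nil)) (nat_lit 60) (nat_lit 0),
  Rule.mk (nat_lit 5) (nat_lit 46) (Steps.bwd (nat_lit 2) (Steps.bwd (nat_lit 6) (Steps.fwd (nat_lit 4096) Steps.nil))) (nat_lit 20) (nat_lit 3),
  Rule.mk (nat_lit 7) (nat_lit 46) (Steps.fwd (nat_lit 2048) (Steps.fwd (nat_lit 14336) (Steps.bwd (nat_lit 1) Steps.nil))) (nat_lit 28) (nat_lit 3),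
  Rule.mk (nat_lit 3) (nat_lit 46) (Steps.fwd (nat_lit 12288) (Steps.bwd (nat_lit 3) (Steps.fwd (nat_lit 12288) Steps.nil))) (nat_lit 22) (nat_lit 0),
  Rule.mk (nat_lit 6) (nat_lit 46) (Steps.bwd (nat_lit 3) (Steps.fwd (nat_lit 10240) (Steps.bwd (nat_lit 3) Steps.nil))) (nat_lit 23) (nat_lit 0),
  Rule.mk (nat_lit 7) (nat_lit 46) (Steps.bwd (nat_lit 3) (Steps.bwd (nat_lit 8) (Steps.fwd (nat_lit 6144) Steps.nil))) (nat_lit 32) (nat_lit 3),
  Rule.mk (nat_lit 8) (nat_lit 46) (Steps.bwd (nat_lit 3) (Steps.bwd (nat_lit 7) (Steps.bwd (nat_lit 3) Steps.nil))) (nat_lit 32) (nat_lit 1),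
  Rule.mk (nat_lit 7) (nat_lit 46) (Steps.bwd (nat_lit 4) (Steps.bwd (nat_lit 8) (Steps.bwd (nat_lit 4) Steps.nil))) (nat_lit 34) (nat_lit 3),
  Rule.mk (nat_lit 5) (nat_lit 106) (Steps.bwd (nat_lit 4) (Steps.bwd (nat_lit 6) (Steps.bwd (nat_lit 6) (Steps.bwd (nat_lit 6) (Steps.bwd (nat_lit 4) (Steps.fwd (nat_lit 12288) (Steps.bwd (nat_lit 5) (Steps.bwd (nat_lit 4) Steps.nil)))))))) (nat_lit 25) (nat_lit 10),
  Rule.mk (nat_lit 7) (nat_lit 58) (Steps.bwd (nat_lit 6) (Steps.bwd (nat_lit 6) (Steps.fwd (nat_lit 14336) (Steps.bwd (nat_lit 5) Steps.nil)))) (nat_lit 36) (nat_lit 3),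
  Rule.mk (nat_lit 8) (nat_lit 46) (Steps.bwd (nat_lit 1) (Steps.bwd (nat_lit 7) (Steps.fwd (nat_lit 2048) Steps.nil))) (nat_lit 28) (nat_lit 1),
  Rule.mk (nat_lit 8) (nat_lit 46) (Steps.bwd (nat_lit 2) (Steps.bwd (nat_lit 7) (Steps.fwd (nat_lit 4096) Steps.nil))) (nat_lit 30) (nat_lit 1),
  Rule.mk (nat_lit 8) (nat_lit 46) (Steps.fwd (nat_lit 6144) (Steps.bwd (nat_lit 7) (Steps.fwd (nat_lit 6144) Steps.nil))) (nat_lit 32) (nat_lit 1),
  Rule.mk (nat_lit 7) (nat_lit 46) (Steps.fwd (nat_lit 6144) (Steps.fwd (nat_lit 14336) (Steps.bwd (nat_lit 3) Steps.nil))) (nat_lit 32) (nat_lit 3)]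
noncomputable def R_2 : List (Rule) := [Rule.mk (nat_lit 6) (nat_lit 106) (Steps.bwd (nat_lit 4) (Steps.bwd (nat_lit 6) (Steps.bwd (nat_lit 6) (Steps.fwd (nat_lit 8192) (Steps.bwd (nat_lit 5) (Steps.bwd (nat_lit 5) (Steps.bwd (nat_lit 5) (Steps.bwd (nat_lit 4) Steps.nil)))))))) (nat_lit 24) (nat_lit 2),
  Rule.mk (nat_lit 1) (nat_lit 46) (Steps.fwd (nat_lit 12288) (Steps.fwd (nat_lit 2048) (Steps.bwd (nat_lit 6) Steps.nil))) (nat_lit 18) (nat_lit 2),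
  Rule.mk (nat_lit 2) (nat_lit 46) (Steps.fwd (nat_lit 12288) (Steps.fwd (nat_lit 4096) (Steps.bwd (nat_lit 6) Steps.nil))) (nat_lit 20) (nat_lit 2),
  Rule.mk (nat_lit 2) (nat_lit 46) (Steps.fwd (nat_lit 8192) (Steps.bwd (nat_lit 2) (Steps.bwd (nat_lit 4) Steps.nil))) (nat_lit 12) (nat_lit 1),
  Rule.mk (nat_lit 7) (nat_lit 46) (Steps.bwd (nat_lit 2) (Steps.fwd (nat_lit 14336) (Steps.bwd (nat_lit 2) Steps.nil))) (nat_lit 30) (nat_lit 3),
  Rule.mk (nat_lit 8) (nat_lit 46) (Steps.bwd (nat_lit 2) (Steps.fwd (nat_lit 16384) (Steps.bwd (nat_lit 2) Steps.nil))) (nat_lit 30) (nat_lit 1),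
  Rule.mk (nat_lit 1) (nat_lit 46) (Steps.bwd (nat_lit 7) (Steps.bwd (nat_lit 1) (Steps.fwd (nat_lit 14336) Steps.nil))) (nat_lit 28) (nat_lit 2),
  Rule.mk (nat_lit 6) (nat_lit 58) (Steps.bwd (nat_lit 7) (Steps.bwd (nat_lit 5) (Steps.bwd (nat_lit 5) (Steps.fwd (nat_lit 14336) Steps.nil)))) (nat_lit 37) (nat_lit 4),
  Rule.mk (nat_lit 8) (nat_lit 58) (Steps.fwd (nat_lit 12288) (Steps.bwd (nat_lit 7) (Steps.fwd (nat_lit 10240) (Steps.bwd (nat_lit 6) Steps.nil)))) (nat_lit 36) (nat_lit 1),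
  Rule.mk (nat_lit 8) (nat_lit 58) (Steps.bwd (nat_lit 5) (Steps.fwd (nat_lit 16384) (Steps.bwd (nat_lit 6) (Steps.bwd (nat_lit 6) Steps.nil)))) (nat_lit 36) (nat_lit 1),
  Rule.mk (nat_lit 4) (nat_lit 106) (Steps.bwd (nat_lit 6) (Steps.fwd (nat_lit 8192) (Steps.fwd (nat_lit 10240) (Steps.fwd (nat_lit 10240) (Steps.bwd (nat_lit 4) (Steps.bwd (nat_lit 5) (Steps.fwd (nat_lit 12288) (Steps.fwd (nat_lit 12288) Steps.nil)))))))) (nat_lit 24) (nat_lit 1),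
  Rule.mk (nat_lit 1) (nat_lit 46) (Steps.bwd (nat_lit 4) (Steps.fwd (nat_lit 2048) (Steps.bwd (nat_lit 4) Steps.nil))) (nat_lit 8) (nat_lit 1),
  Rule.mk (nat_lit 2) (nat_lit 46) (Steps.bwd (nat_lit 4) (Steps.fwd (nat_lit 4096) (Steps.bwd (nat_lit 4) Steps.nil))) (nat_lit 12) (nat_lit 1),
  Rule.mk (nat_lit 4) (nat_lit 634) (Steps.bwd (nat_lit 3) (Steps.bwd (nat_lit 2) (Steps.bwd (nat_lit 3) (Steps.bwd (nat_lit 4) (Steps.bwd (nat_lit 5) (Steps.bwd (nat_lit 4) (Steps.bwd (nat_lit 5) (Steps.bwd (nat_lit 4) (Steps.bwd (nat_lit 3) (Steps.bwd (nat_lit 2) (Steps.bwd (nat_lit 3) (Steps.bwd (nat_lit 4) (Steps.bwd (nat_lit 5) (Steps.bwd (nat_lit 4) (Steps.bwd (nat_lit 3) (Steps.bwd (nat_lit 2) (Steps.bwd (nat_lit 3) (Steps.bwd (nat_lit 4) (Steps.bwd (nat_lit 6) (Steps.bwd (nat_lit 6) (Steps.bwd (nat_lit 6) (Steps.bwd (nat_lit 4) (Steps.bwd (nat_lit 3) (Steps.bwd (nat_lit 2) (Steps.bwd (nat_lit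 3) (Steps.bwd (nat_lit 4) (Steps.bwd (nat_lit 6) (Steps.bwd (nat_lit 4) (Steps.bwd (nat_lit 3) (Steps.bwd (nat_lit 2) (Steps.bwd (nat_lit 3) (Steps.fwd (nat_lit 8192) (Steps.bwd (nat_lit 5) (Steps.bwd (nat_lit 5) (Steps.bwd (nat_lit 2) (Steps.bwd (nat_lit 3) (Steps.fwd (nat_lit 8192) (Steps.fwd (nat_lit 10240) (Steps.fwd (nat_lit 8192) (Steps.fwd (nat_lit 6144) (Steps.fwd (nat_lit 4096) (Steps.fwd (nat_lit 6144) (Steps.fwd (nat_lit 8192) (Steps.fwd (nat_lit 12288) (Steps.fwd (nat_lit 8192) (Steps.fwd (nat_lit 4096) (Steps.fwd (nat_lit 6144) (Steps.fwd (nat_lit 8192) (Steps.fwd (nat_lit 6144) (Steps.bwd (nat_lit 2) (Steps.bwd (nat_lit 3) (Steps.fwd (nat_lit 10240) Steps.nil)))))))))))))))))))))))))))))))))))))))))))))))))))) (nat_lit 58) (nat_lit 19),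
  Rule.mk (nat_lit 1) (nat_lit 46) (Steps.fwd (nat_lit 8192) (Steps.fwd (nat_lit 2048) (Steps.bwd (nat_lit 4) Steps.nil))) (nat_lit 8) (nat_lit 1),
  Rule.mk (nat_lit 2) (nat_lit 46) (Steps.fwd (nat_lit 8192) (Steps.fwd (nat_lit 4096) (Steps.bwd (nat_lit 4) Steps.nil))) (nat_lit 12) (nat_lit 1),
  Rule.mk (nat_lit 7) (nat_lit 46) (Steps.bwd (nat_lit 4) (Steps.fwd (nat_lit 14336) (Steps.bwd (nat_lit 4) Steps.nil))) (nat_lit 34) (nat_lit 3),
  Rule.mk (nat_lit 8) (nat_lit 34) (Steps.fwd (nat_lit 14336) (Steps.bwd (nat_lit 8) Steps.nil)) (nat_lit 27) (nat_lit 0),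
  Rule.mk (nat_lit 7) (nat_lit 46) (Steps.bwd (nat_lit 2) (Steps.bwd (nat_lit 8) (Steps.bwd (nat_lit 2) Steps.nil))) (nat_lit 30) (nat_lit 3),
  Rule.mk (nat_lit 7) (nat_lit 34) (Steps.bwd (nat_lit 7) (Steps.fwd (nat_lit 16384) Steps.nil)) (nat_lit 26) (nat_lit 0),
  Rule.mk (nat_lit 8) (nat_lit 58) (Steps.fwd (nat_lit 10240) (Steps.bwd (nat_lit 7) (Steps.fwd (nat_lit 12288) (Steps.fwd (nat_lit 12288) Steps.nil)))) (nat_lit 37) (nat_lit 3),
  Rule.mk (nat_lit 2) (nat_lit 106) (Steps.fwd (nat_lit 6144) (Steps.bwd (nat_lit 1) (Steps.fwd (nat_lit 4096) (Steps.fwd (nat_lit 6144) (Steps.fwd (nat_lit 4096) (Steps.bwd (nat_lit 3) (Steps.bwd (nat_lit 2) (Steps.bwd (nat_lit 3) Steps.nil)))))))) (nat_lit 11) (nat_lit 7),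
  Rule.mk (nat_lit 2) (nat_lit 46) (Steps.bwd (nat_lit 4) (Steps.bwd (nat_lit 2) (Steps.bwd (nat_lit 4) Steps.nil))) (nat_lit 12) (nat_lit 1),
  Rule.mk (nat_lit 1) (nat_lit 106) (Steps.fwd (nat_lit 6144) (Steps.fwd (nat_lit 4096) (Steps.fwd (nat_lit 6144) (Steps.fwd (nat_lit 4096) (Steps.bwd (nat_lit 3) (Steps.bwd (nat_lit 2) (Steps.bwd (nat_lit 3) (Steps.bwd (nat_lit 2) Steps.nil)))))))) (nat_lit 10) (nat_lit 1),
  Rule.mk (nat_lit 1) (nat_lit 106) (Steps.fwd (nat_lit 6144) (Steps.fwd (nat_lit 4096) (Steps.bwd (nat_lit 3) (Steps.bwd (nat_lit 2) (Steps.bwd (nat_lit 3) (Steps.bwd (nat_lit 2) (Steps.fwd (nat_lit 6144) (Steps.fwd (nat_lit 4096) Steps.nil)))))))) (nat_lit 10) (nat_lit 1),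
  Rule.mk (nat_lit 2) (nat_lit 106) (Steps.bwd (nat_lit 3) (Steps.bwd (nat_lit 2) (Steps.bwd (nat_lit 3) (Steps.bwd (nat_lit 2) (Steps.bwd (nat_lit 1) (Steps.fwd (nat_lit 6144) (Steps.bwd (nat_lit 2) (Steps.bwd (nat_lit 3) Steps.nil)))))))) (nat_lit 10) (nat_lit 5),
  Rule.mk (nat_lit 1) (nat_lit 106) (Steps.bwd (nat_lit 3) (Steps.bwd (nat_lit 2) (Steps.bwd (nat_lit 3) (Steps.bwd (nat_lit 2) (Steps.fwd (nat_lit 6144) (Steps.fwd (nat_lit 4096) (Steps.fwd (nat_lit 6144) (Steps.fwd (nat_lit 4096) Steps.nil)))))))) (nat_lit 10) (nat_lit 1),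
  Rule.mk (nat_lit 0) (nat_lit 58) (Steps.bwd (nat_lit 4) (Steps.fwd (nat_lit 4096) (Steps.bwd (nat_lit 4) (Steps.fwd (nat_lit 4096) Steps.nil)))) (nat_lit 12) (nat_lit 1),
  Rule.mk (nat_lit 8) (nat_lit 46) (Steps.fwd (nat_lit 4096) (Steps.fwd (nat_lit 16384) (Steps.bwd (nat_lit 2) Steps.nil))) (nat_lit 30) (nat_lit 1),
  Rule.mk (nat_lit 7) (nat_lit 46) (Steps.bwd (nat_lit 1) (Steps.bwd (nat_lit 8) (Steps.fwd (nat_lit 2048) Steps.nil))) (nat_lit 28) (nat_lit 3),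
  Rule.mk (nat_lit 3) (nat_lit 634) (Steps.bwd (nat_lit 6) (Steps.bwd (nat_lit 4) (Steps.bwd (nat_lit 3) (Steps.bwd (nat_lit 2) (Steps.bwd (nat_lit 3) (Steps.bwd (nat_lit 4) (Steps.bwd (nat_lit 5) (Steps.bwd (nat_lit 4) (Steps.bwd (nat_lit 5) (Steps.bwd (nat_lit 4) (Steps.bwd (nat_lit 3) (Steps.bwd (nat_lit 2) (Steps.bwd (nat_lit 3) (Steps.bwd (nat_lit 4) (Steps.bwd (nat_lit 5) (Steps.bwd (nat_lit 4) (Steps.bwd (nat_lit 3) (Steps.bwd (nat_lit 2) (Steps.bwd (nat_lit 3) (Steps.bwd (nat_lit 4) (Steps.bwd (nat_lit 6) (Steps.bwd (nat_lit 6) (Steps.bwd (nat_lit 6) (Steps.bwd (nat_lit 4) (Steps.bwd (nat_lit 3) (Steps.bwd (nat_lit 2) (Steps.bwd (nat_lit 3) (Steps.bwd (nat_lit 4) (Steps.bwd (nat_lit 6) (Steps.bwd (nat_lit 4) (Steps.fwd (nat_lit 6144) (Steps.fwd (nat_lit 4096) (Steps.fwd (nat_lit 6144) (Steps.bwd (nat_lit 4) (Steps.bwd (nat_lit 5) (Steps.bwd (nat_lit 5) (Steps.fwd (nat_lit 4096)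 (Steps.fwd (nat_lit 6144) (Steps.fwd (nat_lit 8192) (Steps.bwd (nat_lit 6) (Steps.fwd (nat_lit 8192) (Steps.bwd (nat_lit 3) (Steps.bwd (nat_lit 2) (Steps.bwd (nat_lit 3) (Steps.bwd (nat_lit 4) (Steps.fwd (nat_lit 12288) (Steps.bwd (nat_lit 4) (Steps.fwd (nat_lit 4096) (Steps.fwd (nat_lit 6144) (Steps.fwd (nat_lit 8192) (Steps.fwd (nat_lit 6144) (Steps.bwd (nat_lit 2) Steps.nil)))))))))))))))))))))))))))))))))))))))))))))))))))) (nat_lit 58) (nat_lit 17),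
  Rule.mk (nat_lit 0) (nat_lit 58) (Steps.fwd (nat_lit 12288) (Steps.fwd (nat_lit 6144) (Steps.fwd (nat_lit 12288) (Steps.bwd (nat_lit 3) Steps.nil)))) (nat_lit 22) (nat_lit 0),
  Rule.mk (nat_lit 7) (nat_lit 46) (Steps.bwd (nat_lit 3) (Steps.fwd (nat_lit 14336) (Steps.bwd (nat_lit 3) Steps.nil))) (nat_lit 32) (nat_lit 3),
  Rule.mk (nat_lit 2) (nat_lit 106) (Steps.fwd (nat_lit 2048) (Steps.bwd (nat_lit 3) (Steps.bwd (nat_lit 2) (Steps.fwd (nat_lit 6144) (Steps.fwd (nat_lit 4096) (Steps.fwd (nat_lit 6144) (Steps.bwd (nat_lit 2) (Steps.bwd (nat_lit 3) Steps.nil)))))))) (nat_lit 10) (nat_lit 0),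
  Rule.mk (nat_lit 8) (nat_lit 46) (Steps.bwd (nat_lit 1) (Steps.bwd (nat_lit 7) (Steps.bwd (nat_lit 1) Steps.nil))) (nat_lit 28) (nat_lit 1),
  Rule.mk (nat_lit 2) (nat_lit 106) (Steps.fwd (nat_lit 6144) (Steps.fwd (nat_lit 4096) (Steps.fwd (nat_lit 6144) (Steps.fwd (nat_lit 4096) (Steps.bwd (nat_lit 1) (Steps.bwd (nat_lit 3) (Steps.bwd (nat_lit 2) (Steps.bwd (nat_lit 3) Steps.nil)))))))) (nat_lit 10) (nat_lit 5),
  Rule.mk (nat_lit 1) (nat_lit 106) (Steps.bwd (nat_lit 3) (Steps.bwd (nat_lit 2) (Steps.fwd (nat_lit 6144) (Steps.fwd (nat_lit 4096) (Steps.fwd (nat_lit 6144) (Steps.fwd (nat_lit 4096) (Steps.bwd (nat_lit 3) (Steps.bwd (nat_lit 2) Steps.nil)))))))) (nat_lit 10) (nat_lit 1),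
  Rule.mk (nat_lit 1) (nat_lit 106) (Steps.bwd (nat_lit 2) (Steps.bwd (nat_lit 3) (Steps.bwd (nat_lit 2) (Steps.fwd (nat_lit 6144) (Steps.fwd (nat_lit 4096) (Steps.fwd (nat_lit 6144) (Steps.fwd (nat_lit 4096) (Steps.bwd (nat_lit 3) Steps.nil)))))))) (nat_lit 11) (nat_lit 0),
  Rule.mk (nat_lit 1) (nat_lit 106) (Steps.bwd (nat_lit 2) (Steps.fwd (nat_lit 6144) (Steps.fwd (nat_lit 4096) (Steps.fwd (nat_lit 6144) (Steps.fwd (nat_lit 4096) (Steps.bwd (nat_lit 3) (Steps.bwd (nat_lit 2) (Steps.bwd (nat_lit 3) Steps.nil)))))))) (nat_lit 11) (nat_lit 0),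
  Rule.mk (nat_lit 2) (nat_lit 106) (Steps.fwd (nat_lit 6144) (Steps.fwd (nat_lit 4096) (Steps.fwd (nat_lit 6144) (Steps.bwd (nat_lit 2) (Steps.bwd (nat_lit 1) (Steps.bwd (nat_lit 3) (Steps.bwd (nat_lit 2) (Steps.bwd (nat_lit 3) Steps.nil)))))))) (nat_lit 10) (nat_lit 5),
  Rule.mk (nat_lit 1) (nat_lit 106) (Steps.bwd (nat_lit 3) (Steps.bwd (nat_lit 2) (Steps.fwd (nat_lit 6144) (Steps.fwd (nat_lit 4096) (Steps.fwd (nat_lit 6144) (Steps.bwd (nat_lit 2) (Steps.bwd (nat_lit 3) (Steps.bwd (nat_lit 2) Steps.nil)))))))) (nat_lit 10) (nat_lit 1),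
  Rule.mk (nat_lit 2) (nat_lit 46) (Steps.bwd (nat_lit 8) (Steps.fwd (nat_lit 4096) (Steps.bwd (nat_lit 7) Steps.nil))) (nat_lit 30) (nat_lit 0),
  Rule.mk (nat_lit 8) (nat_lit 46) (Steps.fwd (nat_lit 2048) (Steps.bwd (nat_lit 7) (Steps.bwd (nat_lit 1) Steps.nil))) (nat_lit 28) (nat_lit 1),
  Rule.mk (nat_lit 0) (nat_lit 58) (Steps.fwd (nat_lit 6144) (Steps.fwd (nat_lit 14336) (Steps.fwd (nat_lit 6144) (Steps.fwd (nat_lit 16384) Steps.nil)))) (nat_lit 32) (nat_lit 3),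
  Rule.mk (nat_lit 7) (nat_lit 34) (Steps.bwd (nat_lit 0) (Steps.fwd (nat_lit 14336) Steps.nil)) (nat_lit 60) (nat_lit 0),
  Rule.mk (nat_lit 8) (nat_lit 34) (Steps.bwd (nat_lit 0) (Steps.bwd (nat_lit 7) Steps.nil)) (nat_lit 60) (nat_lit 0),
  Rule.mk (nat_lit 5) (nat_lit 58) (Steps.fwd (nat_lit 16384) (Steps.bwd (nat_lit 6) (Steps.bwd (nat_lit 6) (Steps.bwd (nat_lit 8) Steps.nil)))) (nat_lit 36) (nat_lit 2),
  Rule.mk (nat_lit 6) (nat_lit 106) (Steps.bwd (nat_lit 6) (Steps.bwd (nat_lit 4) (Steps.fwd (nat_lit 12288) (Steps.bwd (nat_lit 5) (Steps.bwd (nat_lit 4) (Steps.bwd (nat_lit 5) (Steps.bwd (nat_lit 4) (Steps.bwd (nat_lit 6) Steps.nil)))))))) (nat_lit 25) (nat_lit 2),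
  Rule.mk (nat_lit 1) (nat_lit 46) (Steps.bwd (nat_lit 5) (Steps.bwd (nat_lit 1) (Steps.bwd (nat_lit 6) Steps.nil))) (nat_lit 18) (nat_lit 2),
  Rule.mk (nat_lit 7) (nat_lit 58) (Steps.bwd (nat_lit 6) (Steps.bwd (nat_lit 6) (Steps.bwd (nat_lit 8) (Steps.fwd (nat_lit 12288) Steps.nil)))) (nat_lit 36) (nat_lit 3),
  Rule.mk (nat_lit 1) (nat_lit 46) (Steps.fwd (nat_lit 14336) (Steps.fwd (nat_lit 2048) (Steps.bwd (nat_lit 7) Steps.nil))) (nat_lit 28) (nat_lit 0),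
  Rule.mk (nat_lit 2) (nat_lit 46) (Steps.fwd (nat_lit 14336) (Steps.bwd (nat_lit 2) (Steps.bwd (nat_lit 7) Steps.nil))) (nat_lit 30) (nat_lit 0),
  Rule.mk (nat_lit 0) (nat_lit 58) (Steps.bwd (nat_lit 8) (Steps.fwd (nat_lit 6144) (Steps.bwd (nat_lit 7) (Steps.fwd (nat_lit 6144) Steps.nil)))) (nat_lit 32) (nat_lit 0),
  Rule.mk (nat_lit 7) (nat_lit 34) (Steps.bwd (nat_lit 0) (Steps.bwd (nat_lit 8) Steps.nil)) (nat_lit 60) (nat_lit 0),
  Rule.mk (nat_lit 8) (nat_lit 46) (Steps.fwd (nat_lit 4096) (Steps.bwd (nat_lit 7) (Steps.fwd (nat_lit 4096) Steps.nil))) (nat_lit 30) (nat_lit 1),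
  Rule.mk (nat_lit 1) (nat_lit 46) (Steps.bwd (nat_lit 8) (Steps.bwd (nat_lit 1) (Steps.fwd (nat_lit 16384) Steps.nil))) (nat_lit 28) (nat_lit 0),
  Rule.mk (nat_lit 4) (nat_lit 46) (Steps.fwd (nat_lit 2048) (Steps.fwd (nat_lit 8192) (Steps.bwd (nat_lit 1) Steps.nil))) (nat_lit 8) (nat_lit 0),
  Rule.mk (nat_lit 7) (nat_lit 46) (Steps.bwd (nat_lit 1) (Steps.bwd (nat_lit 8) (Steps.bwd (nat_lit 1) Steps.nil))) (nat_lit 28) (nat_lit 3),
  Rule.mk (nat_lit 6) (nat_lit 46) (Steps.bwd (nat_lit 1) (Steps.bwd (nat_lit 5) (Steps.bwd (nat_lit 1) Steps.nil))) (nat_lit 18) (nat_lit 1),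
  Rule.mk (nat_lit 0) (nat_lit 58) (Steps.bwd (nat_lit 6) (Steps.bwd (nat_lit 3) (Steps.fwd (nat_lit 10240) (Steps.fwd (nat_lit 6144) Steps.nil)))) (nat_lit 23) (nat_lit 1),
  Rule.mk (nat_lit 0) (nat_lit 46) (Steps.fwd (nat_lit 2048) (Steps.fwd (nat_lit 0) (Steps.fwd (nat_lit 2048) Steps.nil))) (nat_lit 60) (nat_lit 0),
  Rule.mk (nat_lit 0) (nat_lit 46) (Steps.fwd (nat_lit 8192) (Steps.fwd (nat_lit 0) (Steps.fwd (nat_lit 8192) Steps.nil))) (nat_lit 60) (nat_lit 0),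
  Rule.mk (nat_lit 5) (nat_lit 34) (Steps.bwd (nat_lit 0) (Steps.bwd (nat_lit 6) Steps.nil)) (nat_lit 60) (nat_lit 0),
  Rule.mk (nat_lit 2) (nat_lit 34) (Steps.bwd (nat_lit 0) (Steps.fwd (nat_lit 4096) Steps.nil)) (nat_lit 60) (nat_lit 0)]
noncomputable def R_3 : List (Rule) := [Rule.mk (nat_lit 8) (nat_lit 34) (Steps.bwd (nat_lit 0) (Steps.fwd (nat_lit 16384) Steps.nil)) (nat_lit 60) (nat_lit 0),
  Rule.mk (nat_lit 5) (nat_lit 46) (Steps.bwd (nat_lit 1) (Steps.fwd (nat_lit 10240) (Steps.bwd (nat_lit 1) Steps.nil))) (nat_lit 18) (nat_lit 3),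
  Rule.mk (nat_lit 4) (nat_lit 634) (Steps.bwd (nat_lit 5) (Steps.bwd (nat_lit 4) (Steps.bwd (nat_lit 2) (Steps.bwd (nat_lit 3) (Steps.bwd (nat_lit 4) (Steps.bwd (nat_lit 3) (Steps.bwd (nat_lit 2) (Steps.bwd (nat_lit 3) (Steps.bwd (nat_lit 6) (Steps.bwd (nat_lit 4) (Steps.bwd (nat_lit 3) (Steps.bwd (nat_lit 2) (Steps.bwd (nat_lit 3) (Steps.bwd (nat_lit 4) (Steps.bwd (nat_lit 5) (Steps.bwd (nat_lit 4) (Steps.bwd (nat_lit 5) (Steps.bwd (nat_lit 4) (Steps.bwd (nat_lit 3) (Steps.bwd (nat_lit 2) (Steps.bwd (nat_lit 3) (Steps.bwd (nat_lit 4) (Steps.bwd (nat_lit 5) (Steps.bwd (nat_lit 4) (Steps.bwd (nat_lit 3) (Steps.bwd (nat_lit 2) (Steps.bwd (nat_lit 3) (Steps.bwd (nat_lit 4) (Steps.bwd (nat_lit 6) (Steps.bwd (nat_lit 6) (Steps.bwd (nat_lit 6) (Steps.bwd (nat_lit 4) (Steps.bwd (nat_lit 3) (Steps.bwd (nat_lit 2) (Steps.bwd (nat_lit 3) (Steps.bwd (nat_lit 4) (Steps.bwd (nat_lit 6) (Steps.fwd (nat_lit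 8192) (Steps.fwd (nat_lit 6144) (Steps.fwd (nat_lit 4096) (Steps.fwd (nat_lit 6144) (Steps.bwd (nat_lit 4) (Steps.fwd (nat_lit 12288) (Steps.fwd (nat_lit 12288) (Steps.bwd (nat_lit 2) (Steps.bwd (nat_lit 3) (Steps.bwd (nat_lit 4) (Steps.bwd (nat_lit 6) (Steps.bwd (nat_lit 4) (Steps.bwd (nat_lit 3) (Steps.bwd (nat_lit 2) (Steps.fwd (nat_lit 6144) Steps.nil)))))))))))))))))))))))))))))))))))))))))))))))))))) (nat_lit 58) (nat_lit 9),
  Rule.mk (nat_lit 8) (nat_lit 46) (Steps.bwd (nat_lit 4) (Steps.bwd (nat_lit 7) (Steps.bwd (nat_lit 4) Steps.nil))) (nat_lit 34) (nat_lit 1),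
  Rule.mk (nat_lit 0) (nat_lit 118) (Steps.fwd (nat_lit 10240) (Steps.fwd (nat_lit 8192) (Steps.bwd (nat_lit 6) (Steps.bwd (nat_lit 6) (Steps.bwd (nat_lit 4) (Steps.fwd (nat_lit 12288) (Steps.bwd (nat_lit 5) (Steps.fwd (nat_lit 12288) (Steps.fwd (nat_lit 8192) Steps.nil))))))))) (nat_lit 24) (nat_lit 1),
  Rule.mk (nat_lit 0) (nat_lit 46) (Steps.fwd (nat_lit 4096) (Steps.fwd (nat_lit 0) (Steps.fwd (nat_lit 4096) Steps.nil))) (nat_lit 60) (nat_lit 0),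
  Rule.mk (nat_lit 0) (nat_lit 46) (Steps.fwd (nat_lit 12288) (Steps.fwd (nat_lit 0) (Steps.bwd (nat_lit 6) Steps.nil))) (nat_lit 60) (nat_lit 0),
  Rule.mk (nat_lit 0) (nat_lit 46) (Steps.fwd (nat_lit 10240) (Steps.fwd (nat_lit 0) (Steps.bwd (nat_lit 5) Steps.nil))) (nat_lit 60) (nat_lit 0),
  Rule.mk (nat_lit 1) (nat_lit 46) (Steps.bwd (nat_lit 6) (Steps.fwd (nat_lit 2048) (Steps.bwd (nat_lit 5) Steps.nil))) (nat_lit 18) (nat_lit 0),
  Rule.mk (nat_lit 2) (nat_lit 46) (Steps.bwd (nat_lit 6) (Steps.fwd (nat_lit 4096) (Steps.fwd (nat_lit 12288) Steps.nil))) (nat_lit 20) (nat_lit 0),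
  Rule.mk (nat_lit 2) (nat_lit 106) (Steps.fwd (nat_lit 6144) (Steps.fwd (nat_lit 4096) (Steps.fwd (nat_lit 6144) (Steps.bwd (nat_lit 2) (Steps.fwd (nat_lit 2048) (Steps.bwd (nat_lit 3) (Steps.bwd (nat_lit 2) (Steps.bwd (nat_lit 3) Steps.nil)))))))) (nat_lit 10) (nat_lit 5),
  Rule.mk (nat_lit 1) (nat_lit 106) (Steps.fwd (nat_lit 6144) (Steps.fwd (nat_lit 4096) (Steps.fwd (nat_lit 6144) (Steps.bwd (nat_lit 2) (Steps.bwd (nat_lit 3) (Steps.bwd (nat_lit 2) (Steps.bwd (nat_lit 3) (Steps.bwd (nat_lit 2) Steps.nil)))))))) (nat_lit 10) (nat_lit 1),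
  Rule.mk (nat_lit 2) (nat_lit 106) (Steps.bwd (nat_lit 1) (Steps.bwd (nat_lit 3) (Steps.bwd (nat_lit 2) (Steps.bwd (nat_lit 3) (Steps.fwd (nat_lit 4096) (Steps.fwd (nat_lit 6144) (Steps.fwd (nat_lit 4096) (Steps.fwd (nat_lit 6144) Steps.nil)))))))) (nat_lit 10) (nat_lit 0),
  Rule.mk (nat_lit 2) (nat_lit 106) (Steps.fwd (nat_lit 6144) (Steps.fwd (nat_lit 4096) (Steps.fwd (nat_lit 6144) (Steps.bwd (nat_lit 1) (Steps.bwd (nat_lit 2) (Steps.bwd (nat_lit 3) (Steps.bwd (nat_lit 2) (Steps.bwd (nat_lit 3) Steps.nil)))))))) (nat_lit 11) (nat_lit 5),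
  Rule.mk (nat_lit 2) (nat_lit 46) (Steps.bwd (nat_lit 8) (Steps.bwd (nat_lit 2) (Steps.bwd (nat_lit 7) Steps.nil))) (nat_lit 30) (nat_lit 0),
  Rule.mk (nat_lit 8) (nat_lit 34) (Steps.bwd (nat_lit 8) (Steps.fwd (nat_lit 14336) Steps.nil)) (nat_lit 27) (nat_lit 0),
  Rule.mk (nat_lit 1) (nat_lit 46) (Steps.bwd (nat_lit 8) (Steps.fwd (nat_lit 2048) (Steps.fwd (nat_lit 16384) Steps.nil))) (nat_lit 28) (nat_lit 0),
  Rule.mk (nat_lit 3) (nat_lit 46) (Steps.bwd (nat_lit 8) (Steps.bwd (nat_lit 3) (Steps.fwd (nat_lit 16384) Steps.nil))) (nat_lit 32) (nat_lit 0),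
  Rule.mk (nat_lit 7) (nat_lit 46) (Steps.fwd (nat_lit 8192) (Steps.bwd (nat_lit 8) (Steps.fwd (nat_lit 8192) Steps.nil))) (nat_lit 34) (nat_lit 3),
  Rule.mk (nat_lit 1) (nat_lit 46) (Steps.bwd (nat_lit 8) (Steps.bwd (nat_lit 1) (Steps.bwd (nat_lit 7) Steps.nil))) (nat_lit 28) (nat_lit 0),
  Rule.mk (nat_lit 1) (nat_lit 46) (Steps.bwd (nat_lit 8) (Steps.fwd (nat_lit 2048) (Steps.bwd (nat_lit 7) Steps.nil))) (nat_lit 28) (nat_lit 0),
  Rule.mk (nat_lit 7) (nat_lit 46) (Steps.fwd (nat_lit 4096) (Steps.bwd (nat_lit 8) (Steps.fwd (nat_lit 4096) Steps.nil))) (nat_lit 30) (nat_lit 3),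
  Rule.mk (nat_lit 3) (nat_lit 46) (Steps.fwd (nat_lit 14336) (Steps.bwd (nat_lit 3) (Steps.bwd (nat_lit 7) Steps.nil))) (nat_lit 32) (nat_lit 0),
  Rule.mk (nat_lit 5) (nat_lit 58) (Steps.bwd (nat_lit 5) (Steps.fwd (nat_lit 14336) (Steps.bwd (nat_lit 6) (Steps.bwd (nat_lit 7) Steps.nil)))) (nat_lit 37) (nat_lit 1),
  Rule.mk (nat_lit 5) (nat_lit 106) (Steps.bwd (nat_lit 4) (Steps.bwd (nat_lit 6) (Steps.bwd (nat_lit 6) (Steps.bwd (nat_lit 6) (Steps.bwd (nat_lit 4) (Steps.bwd (nat_lit 5) (Steps.fwd (nat_lit 12288) (Steps.bwd (nat_lit 4) Steps.nil)))))))) (nat_lit 25) (nat_lit 10),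
  Rule.mk (nat_lit 6) (nat_lit 46) (Steps.bwd (nat_lit 3) (Steps.bwd (nat_lit 6) (Steps.fwd (nat_lit 6144) Steps.nil))) (nat_lit 23) (nat_lit 0),
  Rule.mk (nat_lit 6) (nat_lit 634) (Steps.bwd (nat_lit 4) (Steps.bwd (nat_lit 3) (Steps.bwd (nat_lit 2) (Steps.bwd (nat_lit 3) (Steps.bwd (nat_lit 4) (Steps.bwd (nat_lit 5) (Steps.bwd (nat_lit 4) (Steps.bwd (nat_lit 5) (Steps.bwd (nat_lit 4) (Steps.bwd (nat_lit 3) (Steps.bwd (nat_lit 2) (Steps.bwd (nat_lit 3) (Steps.bwd (nat_lit 4) (Steps.bwd (nat_lit 5) (Steps.bwd (nat_lit 4) (Steps.bwd (nat_lit 3) (Steps.bwd (nat_lit 2) (Steps.bwd (nat_lit 3) (Steps.bwd (nat_lit 4) (Steps.bwd (nat_lit 6) (Steps.bwd (nat_lit 6) (Steps.bwd (nat_lit 6) (Steps.bwd (nat_lit 4) (Steps.bwd (nat_lit 3) (Steps.fwd (nat_lit 4096) (Steps.fwd (nat_lit 6144) (Steps.fwd (nat_lit 8192) (Steps.bwd (nat_lit 6) (Steps.fwd (nat_lit 8192) (Steps.fwd (nat_lit 6144) (Steps.fwd (nat_lit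 4096) (Steps.fwd (nat_lit 6144) (Steps.fwd (nat_lit 8192) (Steps.fwd (nat_lit 12288) (Steps.fwd (nat_lit 12288) (Steps.bwd (nat_lit 2) (Steps.fwd (nat_lit 6144) (Steps.fwd (nat_lit 8192) (Steps.fwd (nat_lit 10240) (Steps.fwd (nat_lit 8192) (Steps.fwd (nat_lit 6144) (Steps.fwd (nat_lit 4096) (Steps.bwd (nat_lit 3) (Steps.fwd (nat_lit 8192) (Steps.fwd (nat_lit 12288) (Steps.fwd (nat_lit 8192) (Steps.bwd (nat_lit 2) (Steps.fwd (nat_lit 6144) (Steps.bwd (nat_lit 4) (Steps.bwd (nat_lit 3) (Steps.bwd (nat_lit 2) (Steps.bwd (nat_lit 3) Steps.nil)))))))))))))))))))))))))))))))))))))))))))))))))))) (nat_lit 58) (nat_lit 18),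
  Rule.mk (nat_lit 1) (nat_lit 106) (Steps.bwd (nat_lit 3) (Steps.bwd (nat_lit 2) (Steps.bwd (nat_lit 3) (Steps.fwd (nat_lit 4096) (Steps.fwd (nat_lit 6144) (Steps.fwd (nat_lit 4096) (Steps.fwd (nat_lit 6144) (Steps.bwd (nat_lit 2) Steps.nil)))))))) (nat_lit 10) (nat_lit 1),
  Rule.mk (nat_lit 2) (nat_lit 106) (Steps.fwd (nat_lit 2048) (Steps.fwd (nat_lit 6144) (Steps.fwd (nat_lit 4096) (Steps.fwd (nat_lit 6144) (Steps.bwd (nat_lit 2) (Steps.bwd (nat_lit 3) (Steps.bwd (nat_lit 2) (Steps.bwd (nat_lit 3) Steps.nil)))))))) (nat_lit 10) (nat_lit 0),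
  Rule.mk (nat_lit 1) (nat_lit 106) (Steps.bwd (nat_lit 2) (Steps.bwd (nat_lit 3) (Steps.fwd (nat_lit 4096) (Steps.fwd (nat_lit 6144) (Steps.fwd (nat_lit 4096) (Steps.fwd (nat_lit 6144) (Steps.bwd (nat_lit 2) (Steps.bwd (nat_lit 3) Steps.nil)))))))) (nat_lit 11) (nat_lit 0),
  Rule.mk (nat_lit 1) (nat_lit 106) (Steps.fwd (nat_lit 4096) (Steps.fwd (nat_lit 6144) (Steps.fwd (nat_lit 4096) (Steps.fwd (nat_lit 6144) (Steps.bwd (nat_lit 2) (Steps.bwd (nat_lit 3) (Steps.bwd (nat_lit 2) (Steps.bwd (nat_lit 3) Steps.nil)))))))) (nat_lit 11) (nat_lit 0),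
  Rule.mk (nat_lit 2) (nat_lit 106) (Steps.bwd (nat_lit 3) (Steps.bwd (nat_lit 2) (Steps.bwd (nat_lit 3) (Steps.bwd (nat_lit 2) (Steps.fwd (nat_lit 6144) (Steps.fwd (nat_lit 4096) (Steps.fwd (nat_lit 6144) (Steps.bwd (nat_lit 1) Steps.nil)))))))) (nat_lit 11) (nat_lit 1),
  Rule.mk (nat_lit 0) (nat_lit 58) (Steps.fwd (nat_lit 10240) (Steps.bwd (nat_lit 1) (Steps.bwd (nat_lit 5) (Steps.fwd (nat_lit 2048) Steps.nil)))) (nat_lit 18) (nat_lit 0),
  Rule.mk (nat_lit 6) (nat_lit 46) (Steps.bwd (nat_lit 3) (Steps.fwd (nat_lit 10240) (Steps.fwd (nat_lit 6144) Steps.nil))) (nat_lit 23) (nat_lit 0),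
  Rule.mk (nat_lit 2) (nat_lit 106) (Steps.fwd (nat_lit 6144) (Steps.fwd (nat_lit 4096) (Steps.bwd (nat_lit 3) (Steps.bwd (nat_lit 2) (Steps.bwd (nat_lit 1) (Steps.bwd (nat_lit 3) (Steps.bwd (nat_lit 2) (Steps.bwd (nat_lit 3) Steps.nil)))))))) (nat_lit 10) (nat_lit 5),
  Rule.mk (nat_lit 1) (nat_lit 106) (Steps.fwd (nat_lit 6144) (Steps.fwd (nat_lit 4096) (Steps.bwd (nat_lit 3) (Steps.bwd (nat_lit 2) (Steps.bwd (nat_lit 3) (Steps.bwd (nat_lit 2) (Steps.bwd (nat_lit 3) (Steps.bwd (nat_lit 2) Steps.nil)))))))) (nat_lit 10) (nat_lit 1),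
  Rule.mk (nat_lit 1) (nat_lit 106) (Steps.bwd (nat_lit 3) (Steps.bwd (nat_lit 2) (Steps.bwd (nat_lit 3) (Steps.bwd (nat_lit 2) (Steps.bwd (nat_lit 3) (Steps.bwd (nat_lit 2) (Steps.fwd (nat_lit 6144) (Steps.fwd (nat_lit 4096) Steps.nil)))))))) (nat_lit 10) (nat_lit 1),
  Rule.mk (nat_lit 1) (nat_lit 106) (Steps.fwd (nat_lit 4096) (Steps.bwd (nat_lit 3) (Steps.bwd (nat_lit 2) (Steps.bwd (nat_lit 3) (Steps.bwd (nat_lit 2) (Steps.bwd (nat_lit 3) (Steps.bwd (nat_lit 2) (Steps.fwd (nat_lit 6144) Steps.nil)))))))) (nat_lit 11) (nat_lit 0),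
  Rule.mk (nat_lit 5) (nat_lit 46) (Steps.fwd (nat_lit 2048) (Steps.bwd (nat_lit 6) (Steps.bwd (nat_lit 1) Steps.nil))) (nat_lit 18) (nat_lit 3),
  Rule.mk (nat_lit 7) (nat_lit 58) (Steps.bwd (nat_lit 6) (Steps.bwd (nat_lit 6) (Steps.bwd (nat_lit 8) (Steps.bwd (nat_lit 5) Steps.nil)))) (nat_lit 36) (nat_lit 3),
  Rule.mk (nat_lit 6) (nat_lit 634) (Steps.bwd (nat_lit 4) (Steps.bwd (nat_lit 3) (Steps.bwd (nat_lit 2) (Steps.bwd (nat_lit 3) (Steps.bwd (nat_lit 4) (Steps.bwd (nat_lit 5) (Steps.bwd (nat_lit 4) (Steps.bwd (nat_lit 2) (Steps.bwd (nat_lit 3) (Steps.bwd (nat_lit 4) (Steps.bwd (nat_lit 3) (Steps.bwd (nat_lit 2) (Steps.bwd (nat_lit 3) (Steps.bwd (nat_lit 6) (Steps.bwd (nat_lit 4) (Steps.bwd (nat_lit 3) (Steps.bwd (nat_lit 2) (Steps.bwd (nat_lit 3) (Steps.bwd (nat_lit 4) (Steps.bwd (nat_lit 5) (Steps.bwd (nat_lit 4) (Steps.bwd (nat_lit 5) (Steps.bwd (nat_lit 4) (Steps.bwd (nat_lit 3)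 (Steps.bwd (nat_lit 2) (Steps.bwd (nat_lit 3) (Steps.bwd (nat_lit 4) (Steps.bwd (nat_lit 5) (Steps.bwd (nat_lit 4) (Steps.bwd (nat_lit 3) (Steps.bwd (nat_lit 2) (Steps.bwd (nat_lit 3) (Steps.bwd (nat_lit 4) (Steps.bwd (nat_lit 6) (Steps.bwd (nat_lit 6) (Steps.bwd (nat_lit 6) (Steps.bwd (nat_lit 4) (Steps.bwd (nat_lit 3) (Steps.bwd (nat_lit 2) (Steps.bwd (nat_lit 3) (Steps.bwd (nat_lit 4) (Steps.bwd (nat_lit 6) (Steps.fwd (nat_lit 8192) (Steps.fwd (nat_lit 6144) (Steps.fwd (nat_lit 4096) (Steps.fwd (nat_lit 6144) (Steps.fwd (nat_lit 8192) (Steps.fwd (nat_lit 12288) (Steps.fwd (nat_lit 12288) (Steps.fwd (nat_lit 4096) (Steps.fwd (nat_lit 6144) (Steps.fwd (nat_lit 8192) Steps.nil)))))))))))))))))))))))))))))))))))))))))))))))))))) (nat_lit 58) (nat_lit 4),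
  Rule.mk (nat_lit 3) (nat_lit 46) (Steps.bwd (nat_lit 6) (Steps.bwd (nat_lit 3) (Steps.bwd (nat_lit 6) Steps.nil))) (nat_lit 23) (nat_lit 1),
  Rule.mk (nat_lit 6) (nat_lit 82) (Steps.fwd (nat_lit 10240) (Steps.bwd (nat_lit 6) (Steps.fwd (nat_lit 10240) (Steps.bwd (nat_lit 6) (Steps.bwd (nat_lit 6) (Steps.bwd (nat_lit 6) Steps.nil)))))) (nat_lit 17) (nat_lit 0),
  Rule.mk (nat_lit 5) (nat_lit 106) (Steps.bwd (nat_lit 5) (Steps.bwd (nat_lit 4) (Steps.bwd (nat_lit 6) (Steps.fwd (nat_lit 8192) (Steps.bwd (nat_lit 6) (Steps.bwd (nat_lit 6) (Steps.bwd (nat_lit 4) (Steps.bwd (nat_lit 5) Steps.nil)))))))) (nat_lit 24) (nat_lit 10),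
  Rule.mk (nat_lit 4) (nat_lit 106) (Steps.bwd (nat_lit 5) (Steps.bwd (nat_lit 4) (Steps.bwd (nat_lit 6) (Steps.bwd (nat_lit 6) (Steps.bwd (nat_lit 6) (Steps.bwd (nat_lit 4) (Steps.bwd (nat_lit 5) (Steps.bwd (nat_lit 5) Steps.nil)))))))) (nat_lit 25) (nat_lit 9),
  Rule.mk (nat_lit 3) (nat_lit 70) (Steps.fwd (nat_lit 8192) (Steps.fwd (nat_lit 6144) (Steps.bwd (nat_lit 4) (Steps.bwd (nat_lit 3) (Steps.bwd (nat_lit 4) Steps.nil))))) (nat_lit 14) (nat_lit 1),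
  Rule.mk (nat_lit 3) (nat_lit 70) (Steps.bwd (nat_lit 4) (Steps.bwd (nat_lit 3) (Steps.bwd (nat_lit 4) (Steps.fwd (nat_lit 6144) (Steps.fwd (nat_lit 8192) Steps.nil))))) (nat_lit 14) (nat_lit 1),
  Rule.mk (nat_lit 3) (nat_lit 46) (Steps.bwd (nat_lit 5) (Steps.bwd (nat_lit 3) (Steps.fwd (nat_lit 12288) Steps.nil))) (nat_lit 22) (nat_lit 0),
  Rule.mk (nat_lit 3) (nat_lit 46) (Steps.bwd (nat_lit 6) (Steps.bwd (nat_lit 3) (Steps.fwd (nat_lit 10240) Steps.nil))) (nat_lit 23) (nat_lit 1),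
  Rule.mk (nat_lit 4) (nat_lit 46) (Steps.fwd (nat_lit 2048) (Steps.bwd (nat_lit 4) (Steps.bwd (nat_lit 1) Steps.nil))) (nat_lit 8) (nat_lit 0),
  Rule.mk (nat_lit 3) (nat_lit 46) (Steps.fwd (nat_lit 10240) (Steps.bwd (nat_lit 3) (Steps.fwd (nat_lit 10240) Steps.nil))) (nat_lit 23) (nat_lit 1),
  Rule.mk (nat_lit 3) (nat_lit 70) (Steps.fwd (nat_lit 8192) (Steps.fwd (nat_lit 6144) (Steps.bwd (nat_lit 4) (Steps.fwd (nat_lit 6144) (Steps.fwd (nat_lit 8192) Steps.nil))))) (nat_lit 14) (nat_lit 1),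
  Rule.mk (nat_lit 3) (nat_lit 46) (Steps.bwd (nat_lit 5) (Steps.bwd (nat_lit 3) (Steps.bwd (nat_lit 5) Steps.nil))) (nat_lit 22) (nat_lit 0),
  Rule.mk (nat_lit 6) (nat_lit 46) (Steps.fwd (nat_lit 4096) (Steps.bwd (nat_lit 5) (Steps.fwd (nat_lit 4096) Steps.nil))) (nat_lit 20) (nat_lit 1),
  Rule.mk (nat_lit 5) (nat_lit 46) (Steps.fwd (nat_lit 2048) (Steps.bwd (nat_lit 6) (Steps.fwd (nat_lit 2048) Steps.nil))) (nat_lit 18) (nat_lit 3),
  Rule.mk (nat_lit 5) (nat_lit 46) (Steps.bwd (nat_lit 1) (Steps.bwd (nat_lit 6) (Steps.bwd (nat_lit 1) Steps.nil))) (nat_lit 18) (nat_lit 3),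
  Rule.mk (nat_lit 8) (nat_lit 58) (Steps.fwd (nat_lit 12288) (Steps.fwd (nat_lit 16384) (Steps.fwd (nat_lit 10240) (Steps.bwd (nat_lit 6) Steps.nil)))) (nat_lit 36) (nat_lit 1),
  Rule.mk (nat_lit 7) (nat_lit 46) (Steps.fwd (nat_lit 2048) (Steps.bwd (nat_lit 8) (Steps.bwd (nat_lit 1) Steps.nil))) (nat_lit 28) (nat_lit 3),
  Rule.mk (nat_lit 8) (nat_lit 46) (Steps.fwd (nat_lit 2048) (Steps.bwd (nat_lit 7) (Steps.fwd (nat_lit 2048) Steps.nil))) (nat_lit 28) (nat_lit 1),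
  Rule.mk (nat_lit 0) (nat_lit 58) (Steps.fwd (nat_lit 6144) (Steps.bwd (nat_lit 7) (Steps.bwd (nat_lit 3) (Steps.bwd (nat_lit 8) Steps.nil)))) (nat_lit 32) (nat_lit 1),
  Rule.mk (nat_lit 0) (nat_lit 46) (Steps.fwd (nat_lit 4096) (Steps.bwd (nat_lit 0) (Steps.fwd (nat_lit 4096) Steps.nil))) (nat_lit 60) (nat_lit 0),
  Rule.mk (nat_lit 0) (nat_lit 46) (Steps.fwd (nat_lit 4096) (Steps.bwd (nat_lit 0) (Steps.bwd (nat_lit 2) Steps.nil))) (nat_lit 60) (nat_lit 0),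
  Rule.mk (nat_lit 6) (nat_lit 58) (Steps.bwd (nat_lit 8) (Steps.fwd (nat_lit 12288) (Steps.fwd (nat_lit 16384) (Steps.fwd (nat_lit 10240) Steps.nil)))) (nat_lit 36) (nat_lit 0),
  Rule.mk (nat_lit 8) (nat_lit 58) (Steps.fwd (nat_lit 12288) (Steps.fwd (nat_lit 16384) (Steps.bwd (nat_lit 6) (Steps.bwd (nat_lit 6) Steps.nil)))) (nat_lit 36) (nat_lit 1)]
noncomputable def R_4 : List (Rule) := [Rule.mk (nat_lit 0) (nat_lit 58) (Steps.fwd (nat_lit 8192) (Steps.fwd (nat_lit 16384) (Steps.bwd (nat_lit 4) (Steps.bwd (nat_lit 8) Steps.nil)))) (nat_lit 34) (nat_lit 1),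
  Rule.mk (nat_lit 8) (nat_lit 46) (Steps.bwd (nat_lit 4) (Steps.bwd (nat_lit 7) (Steps.fwd (nat_lit 8192) Steps.nil))) (nat_lit 34) (nat_lit 1),
  Rule.mk (nat_lit 3) (nat_lit 70) (Steps.bwd (nat_lit 4) (Steps.fwd (nat_lit 6144) (Steps.fwd (nat_lit 8192) (Steps.fwd (nat_lit 6144) (Steps.fwd (nat_lit 8192) Steps.nil))))) (nat_lit 14) (nat_lit 1),
  Rule.mk (nat_lit 0) (nat_lit 58) (Steps.fwd (nat_lit 10240) (Steps.fwd (nat_lit 6144) (Steps.fwd (nat_lit 10240) (Steps.bwd (nat_lit 3) Steps.nil)))) (nat_lit 23) (nat_lit 1),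
  Rule.mk (nat_lit 8) (nat_lit 58) (Steps.bwd (nat_lit 5) (Steps.bwd (nat_lit 7) (Steps.fwd (nat_lit 10240) (Steps.fwd (nat_lit 10240) Steps.nil)))) (nat_lit 36) (nat_lit 1),
  Rule.mk (nat_lit 0) (nat_lit 118) (Steps.bwd (nat_lit 4) (Steps.bwd (nat_lit 6) (Steps.fwd (nat_lit 8192) (Steps.fwd (nat_lit 10240) (Steps.fwd (nat_lit 10240) (Steps.bwd (nat_lit 4) (Steps.bwd (nat_lit 5) (Steps.fwd (nat_lit 12288) (Steps.fwd (nat_lit 12288) Steps.nil))))))))) (nat_lit 24) (nat_lit 0),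
  Rule.mk (nat_lit 5) (nat_lit 106) (Steps.fwd (nat_lit 8192) (Steps.bwd (nat_lit 6) (Steps.fwd (nat_lit 10240) (Steps.bwd (nat_lit 6) (Steps.fwd (nat_lit 8192) (Steps.fwd (nat_lit 12288) (Steps.fwd (nat_lit 12288) (Steps.fwd (nat_lit 8192) Steps.nil)))))))) (nat_lit 25) (nat_lit 10),
  Rule.mk (nat_lit 5) (nat_lit 46) (Steps.bwd (nat_lit 3) (Steps.fwd (nat_lit 12288) (Steps.bwd (nat_lit 3) Steps.nil))) (nat_lit 22) (nat_lit 1),
  Rule.mk (nat_lit 7) (nat_lit 46) (Steps.bwd (nat_lit 3) (Steps.fwd (nat_lit 14336) (Steps.fwd (nat_lit 6144) Steps.nil))) (nat_lit 32) (nat_lit 3),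
  Rule.mk (nat_lit 0) (nat_lit 58) (Steps.bwd (nat_lit 3) (Steps.bwd (nat_lit 8) (Steps.fwd (nat_lit 6144) (Steps.bwd (nat_lit 7) Steps.nil)))) (nat_lit 32) (nat_lit 3),
  Rule.mk (nat_lit 5) (nat_lit 58) (Steps.bwd (nat_lit 8) (Steps.fwd (nat_lit 10240) (Steps.bwd (nat_lit 7) (Steps.fwd (nat_lit 12288) Steps.nil)))) (nat_lit 37) (nat_lit 2),
  Rule.mk (nat_lit 4) (nat_lit 70) (Steps.bwd (nat_lit 3) (Steps.bwd (nat_lit 4) (Steps.bwd (nat_lit 3) (Steps.fwd (nat_lit 8192) (Steps.fwd (nat_lit 6144) Steps.nil))))) (nat_lit 14) (nat_lit 0),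
  Rule.mk (nat_lit 3) (nat_lit 106) (Steps.fwd (nat_lit 4096) (Steps.bwd (nat_lit 3) (Steps.bwd (nat_lit 2) (Steps.fwd (nat_lit 2048) (Steps.bwd (nat_lit 3) (Steps.fwd (nat_lit 4096) (Steps.fwd (nat_lit 6144) (Steps.bwd (nat_lit 2) Steps.nil)))))))) (nat_lit 10) (nat_lit 6),
  Rule.mk (nat_lit 3) (nat_lit 106) (Steps.bwd (nat_lit 2) (Steps.bwd (nat_lit 1) (Steps.fwd (nat_lit 6144) (Steps.fwd (nat_lit 4096) (Steps.bwd (nat_lit 3) (Steps.bwd (nat_lit 2) (Steps.fwd (nat_lit 6144) (Steps.bwd (nat_lit 2) Steps.nil)))))))) (nat_lit 10) (nat_lit 8),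
  Rule.mk (nat_lit 3) (nat_lit 106) (Steps.fwd (nat_lit 4096) (Steps.bwd (nat_lit 1) (Steps.bwd (nat_lit 3) (Steps.bwd (nat_lit 2) (Steps.fwd (nat_lit 6144) (Steps.bwd (nat_lit 2) (Steps.bwd (nat_lit 3) (Steps.bwd (nat_lit 2) Steps.nil)))))))) (nat_lit 10) (nat_lit 8),
  Rule.mk (nat_lit 4) (nat_lit 70) (Steps.bwd (nat_lit 3) (Steps.bwd (nat_lit 4) (Steps.fwd (nat_lit 6144) (Steps.fwd (nat_lit 8192) (Steps.fwd (nat_lit 6144) Steps.nil))))) (nat_lit 14) (nat_lit 0),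
  Rule.mk (nat_lit 0) (nat_lit 82) (Steps.bwd (nat_lit 3) (Steps.fwd (nat_lit 8192) (Steps.fwd (nat_lit 6144) (Steps.fwd (nat_lit 8192) (Steps.fwd (nat_lit 6144) (Steps.fwd (nat_lit 8192) Steps.nil)))))) (nat_lit 14) (nat_lit 0),
  Rule.mk (nat_lit 0) (nat_lit 46) (Steps.bwd (nat_lit 1) (Steps.fwd (nat_lit 0) (Steps.fwd (nat_lit 2048) Steps.nil))) (nat_lit 60) (nat_lit 0),
  Rule.mk (nat_lit 0) (nat_lit 46) (Steps.bwd (nat_lit 4) (Steps.fwd (nat_lit 0) (Steps.bwd (nat_lit 4) Steps.nil))) (nat_lit 60) (nat_lit 0),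
  Rule.mk (nat_lit 4) (nat_lit 46) (Steps.bwd (nat_lit 1) (Steps.bwd (nat_lit 4) (Steps.fwd (nat_lit 2048) Steps.nil))) (nat_lit 8) (nat_lit 0),
  Rule.mk (nat_lit 3) (nat_lit 106) (Steps.fwd (nat_lit 4096) (Steps.bwd (nat_lit 1) (Steps.fwd (nat_lit 6144) (Steps.fwd (nat_lit 4096) (Steps.bwd (nat_lit 3) (Steps.bwd (nat_lit 2) (Steps.bwd (nat_lit 3) (Steps.bwd (nat_lit 2) Steps.nil)))))))) (nat_lit 10) (nat_lit 8),
  Rule.mk (nat_lit 4) (nat_lit 70) (Steps.fwd (nat_lit 6144) (Steps.fwd (nat_lit 8192) (Steps.bwd (nat_lit 3) (Steps.fwd (nat_lit 8192) (Steps.fwd (nat_lit 6144) Steps.nil))))) (nat_lit 14) (nat_lit 0),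
  Rule.mk (nat_lit 4) (nat_lit 46) (Steps.fwd (nat_lit 2048) (Steps.bwd (nat_lit 4) (Steps.fwd (nat_lit 2048) Steps.nil))) (nat_lit 8) (nat_lit 0),
  Rule.mk (nat_lit 0) (nat_lit 58) (Steps.fwd (nat_lit 16384) (Steps.fwd (nat_lit 6144) (Steps.bwd (nat_lit 8) (Steps.bwd (nat_lit 3) Steps.nil)))) (nat_lit 32) (nat_lit 2),
  Rule.mk (nat_lit 8) (nat_lit 58) (Steps.bwd (nat_lit 6) (Steps.bwd (nat_lit 7) (Steps.fwd (nat_lit 12288) (Steps.fwd (nat_lit 12288) Steps.nil)))) (nat_lit 37) (nat_lit 3),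
  Rule.mk (nat_lit 3) (nat_lit 106) (Steps.bwd (nat_lit 2) (Steps.bwd (nat_lit 3) (Steps.fwd (nat_lit 4096) (Steps.fwd (nat_lit 2048) (Steps.bwd (nat_lit 3) (Steps.fwd (nat_lit 4096) (Steps.fwd (nat_lit 6144) (Steps.fwd (nat_lit 4096) Steps.nil)))))))) (nat_lit 10) (nat_lit 6),
  Rule.mk (nat_lit 5) (nat_lit 46) (Steps.fwd (nat_lit 6144) (Steps.fwd (nat_lit 12288) (Steps.bwd (nat_lit 3) Steps.nil))) (nat_lit 22) (nat_lit 1),
  Rule.mk (nat_lit 8) (nat_lit 46) (Steps.bwd (nat_lit 3) (Steps.fwd (nat_lit 16384) (Steps.bwd (nat_lit 3) Steps.nil))) (nat_lit 32) (nat_lit 1),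
  Rule.mk (nat_lit 1) (nat_lit 106) (Steps.bwd (nat_lit 3) (Steps.bwd (nat_lit 2) (Steps.bwd (nat_lit 3) (Steps.fwd (nat_lit 4096) (Steps.fwd (nat_lit 6144) (Steps.fwd (nat_lit 4096) (Steps.bwd (nat_lit 3) (Steps.bwd (nat_lit 2) Steps.nil)))))))) (nat_lit 10) (nat_lit 1),
  Rule.mk (nat_lit 4) (nat_lit 46) (Steps.bwd (nat_lit 1) (Steps.bwd (nat_lit 4) (Steps.bwd (nat_lit 1) Steps.nil))) (nat_lit 8) (nat_lit 0),
  Rule.mk (nat_lit 5) (nat_lit 46) (Steps.bwd (nat_lit 1) (Steps.bwd (nat_lit 6) (Steps.fwd (nat_lit 2048) Steps.nil))) (nat_lit 18) (nat_lit 3),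
  Rule.mk (nat_lit 6) (nat_lit 46) (Steps.bwd (nat_lit 1) (Steps.fwd (nat_lit 12288) (Steps.fwd (nat_lit 2048) Steps.nil))) (nat_lit 18) (nat_lit 1),
  Rule.mk (nat_lit 8) (nat_lit 46) (Steps.bwd (nat_lit 1) (Steps.fwd (nat_lit 16384) (Steps.fwd (nat_lit 2048) Steps.nil))) (nat_lit 28) (nat_lit 1),
  Rule.mk (nat_lit 6) (nat_lit 634) (Steps.bwd (nat_lit 4) (Steps.bwd (nat_lit 3) (Steps.bwd (nat_lit 2) (Steps.bwd (nat_lit 3) (Steps.bwd (nat_lit 4) (Steps.bwd (nat_lit 5) (Steps.bwd (nat_lit 4) (Steps.bwd (nat_lit 2) (Steps.bwd (nat_lit 3) (Steps.bwd (nat_lit 4) (Steps.bwd (nat_lit 3) (Steps.bwd (nat_lit 2) (Steps.bwd (nat_lit 3) (Steps.bwd (nat_lit 6) (Steps.bwd (nat_lit 4) (Steps.bwd (nat_lit 3) (Steps.bwd (nat_lit 2) (Steps.bwd (nat_lit 3) (Steps.bwd (nat_lit 4) (Steps.bwd (nat_lit 5) (Steps.bwd (nat_lit 4) (Steps.bwd (nat_lit 5) (Steps.bwd (nat_lit 4) (Steps.bwd (nat_lit 3) (Steps.bwd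 (nat_lit 2) (Steps.bwd (nat_lit 3) (Steps.bwd (nat_lit 4) (Steps.bwd (nat_lit 5) (Steps.fwd (nat_lit 8192) (Steps.fwd (nat_lit 6144) (Steps.fwd (nat_lit 4096) (Steps.bwd (nat_lit 3) (Steps.bwd (nat_lit 4) (Steps.bwd (nat_lit 6) (Steps.bwd (nat_lit 6) (Steps.bwd (nat_lit 6) (Steps.fwd (nat_lit 8192) (Steps.fwd (nat_lit 6144) (Steps.fwd (nat_lit 4096) (Steps.bwd (nat_lit 3) (Steps.fwd (nat_lit 8192) (Steps.fwd (nat_lit 10240) (Steps.fwd (nat_lit 8192) (Steps.fwd (nat_lit 6144) (Steps.fwd (nat_lit 4096) (Steps.fwd (nat_lit 6144) (Steps.fwd (nat_lit 8192) (Steps.fwd (nat_lit 12288) (Steps.fwd (nat_lit 12288) (Steps.bwd (nat_lit 2) (Steps.fwd (nat_lit 6144) (Steps.fwd (nat_lit 8192) Steps.nil)))))))))))))))))))))))))))))))))))))))))))))))))))) (nat_lit 58) (nat_lit 4),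
  Rule.mk (nat_lit 6) (nat_lit 58) (Steps.bwd (nat_lit 8) (Steps.bwd (nat_lit 5) (Steps.bwd (nat_lit 7) (Steps.bwd (nat_lit 6) Steps.nil)))) (nat_lit 36) (nat_lit 0),
  Rule.mk (nat_lit 0) (nat_lit 118) (Steps.fwd (nat_lit 8192) (Steps.fwd (nat_lit 12288) (Steps.bwd (nat_lit 4) (Steps.fwd (nat_lit 10240) (Steps.bwd (nat_lit 6) (Steps.fwd (nat_lit 10240) (Steps.fwd (nat_lit 8192) (Steps.fwd (nat_lit 12288) (Steps.fwd (nat_lit 12288) Steps.nil))))))))) (nat_lit 25) (nat_lit 6),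
  Rule.mk (nat_lit 4) (nat_lit 70) (Steps.bwd (nat_lit 3) (Steps.fwd (nat_lit 8192) (Steps.fwd (nat_lit 6144) (Steps.bwd (nat_lit 4) (Steps.fwd (nat_lit 6144) Steps.nil))))) (nat_lit 14) (nat_lit 0),
  Rule.mk (nat_lit 6) (nat_lit 58) (Steps.bwd (nat_lit 6) (Steps.fwd (nat_lit 14336) (Steps.bwd (nat_lit 5) (Steps.bwd (nat_lit 7) Steps.nil)))) (nat_lit 36) (nat_lit 4),
  Rule.mk (nat_lit 0) (nat_lit 118) (Steps.bwd (nat_lit 4) (Steps.bwd (nat_lit 5) (Steps.bwd (nat_lit 5) (Steps.bwd (nat_lit 4) (Steps.fwd (nat_lit 12288) (Steps.bwd (nat_lit 4) (Steps.fwd (nat_lit 10240) (Steps.bwd (nat_lit 6) (Steps.bwd (nat_lit 6) Steps.nil))))))))) (nat_lit 25) (nat_lit 3),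
  Rule.mk (nat_lit 5) (nat_lit 46) (Steps.bwd (nat_lit 3) (Steps.fwd (nat_lit 12288) (Steps.fwd (nat_lit 6144) Steps.nil))) (nat_lit 22) (nat_lit 1),
  Rule.mk (nat_lit 8) (nat_lit 58) (Steps.bwd (nat_lit 5) (Steps.bwd (nat_lit 7) (Steps.fwd (nat_lit 10240) (Steps.bwd (nat_lit 6) Steps.nil)))) (nat_lit 36) (nat_lit 1),
  Rule.mk (nat_lit 0) (nat_lit 58) (Steps.bwd (nat_lit 3) (Steps.bwd (nat_lit 5) (Steps.bwd (nat_lit 3) (Steps.fwd (nat_lit 12288) Steps.nil)))) (nat_lit 22) (nat_lit 1),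
  Rule.mk (nat_lit 5) (nat_lit 58) (Steps.bwd (nat_lit 5) (Steps.fwd (nat_lit 14336) (Steps.bwd (nat_lit 6) (Steps.fwd (nat_lit 16384) Steps.nil)))) (nat_lit 37) (nat_lit 1),
  Rule.mk (nat_lit 0) (nat_lit 58) (Steps.fwd (nat_lit 6144) (Steps.bwd (nat_lit 5) (Steps.bwd (nat_lit 3) (Steps.fwd (nat_lit 12288) Steps.nil)))) (nat_lit 22) (nat_lit 1),
  Rule.mk (nat_lit 8) (nat_lit 46) (Steps.bwd (nat_lit 4) (Steps.fwd (nat_lit 16384) (Steps.bwd (nat_lit 4) Steps.nil))) (nat_lit 34) (nat_lit 1),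
  Rule.mk (nat_lit 1) (nat_lit 46) (Steps.bwd (nat_lit 6) (Steps.bwd (nat_lit 1) (Steps.bwd (nat_lit 5) Steps.nil))) (nat_lit 18) (nat_lit 0),
  Rule.mk (nat_lit 5) (nat_lit 106) (Steps.bwd (nat_lit 5) (Steps.bwd (nat_lit 4) (Steps.bwd (nat_lit 6) (Steps.bwd (nat_lit 4) (Steps.fwd (nat_lit 10240) (Steps.bwd (nat_lit 6) (Steps.fwd (nat_lit 8192) (Steps.fwd (nat_lit 12288) Steps.nil)))))))) (nat_lit 24) (nat_lit 10),
  Rule.mk (nat_lit 6) (nat_lit 634) (Steps.bwd (nat_lit 4) (Steps.bwd (nat_lit 3) (Steps.bwd (nat_lit 2) (Steps.bwd (nat_lit 3) (Steps.bwd (nat_lit 4) (Steps.bwd (nat_lit 5) (Steps.bwd (nat_lit 4) (Steps.bwd (nat_lit 2) (Steps.bwd (nat_lit 3) (Steps.bwd (nat_lit 4) (Steps.bwd (nat_lit 3) (Steps.bwd (nat_lit 2) (Steps.bwd (nat_lit 3) (Steps.bwd (nat_lit 6) (Steps.bwd (nat_lit 4) (Steps.bwd (nat_lit 3) (Steps.bwd (nat_lit 2) (Steps.bwd (nat_lit 3) (Steps.bwd (nat_lit 4) (Steps.bwd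 (nat_lit 5) (Steps.bwd (nat_lit 4) (Steps.bwd (nat_lit 5) (Steps.bwd (nat_lit 4) (Steps.bwd (nat_lit 3) (Steps.bwd (nat_lit 2) (Steps.bwd (nat_lit 3) (Steps.bwd (nat_lit 4) (Steps.bwd (nat_lit 5) (Steps.bwd (nat_lit 4) (Steps.bwd (nat_lit 3) (Steps.bwd (nat_lit 2) (Steps.bwd (nat_lit 3) (Steps.bwd (nat_lit 4) (Steps.bwd (nat_lit 6) (Steps.bwd (nat_lit 6) (Steps.bwd (nat_lit 6) (Steps.bwd (nat_lit 4) (Steps.bwd (nat_lit 3) (Steps.bwd (nat_lit 2) (Steps.bwd (nat_lit 3) (Steps.bwd (nat_lit 4) (Steps.bwd (nat_lit 6) (Steps.bwd (nat_lit 4) (Steps.bwd (nat_lit 3) (Steps.bwd (nat_lit 2) (Steps.bwd (nat_lit 3) (Steps.bwd (nat_lit 4) (Steps.fwd (nat_lit 12288) (Steps.fwd (nat_lit 12288) (Steps.bwd (nat_lit 2) (Steps.bwd (nat_lit 3) (Steps.bwd (nat_lit 4) Steps.nil)))))))))))))))))))))))))))))))))))))))))))))))))))) (nat_lit 58) (nat_lit 4),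
  Rule.mk (nat_lit 7) (nat_lit 58) (Steps.bwd (nat_lit 5) (Steps.bwd (nat_lit 5) (Steps.bwd (nat_lit 8) (Steps.bwd (nat_lit 6) Steps.nil)))) (nat_lit 37) (nat_lit 0),
  Rule.mk (nat_lit 5) (nat_lit 106) (Steps.bwd (nat_lit 5) (Steps.bwd (nat_lit 5) (Steps.bwd (nat_lit 4) (Steps.bwd (nat_lit 6) (Steps.fwd (nat_lit 8192) (Steps.bwd (nat_lit 6) (Steps.bwd (nat_lit 6) (Steps.bwd (nat_lit 4) Steps.nil)))))))) (nat_lit 24) (nat_lit 9),
  Rule.mk (nat_lit 8) (nat_lit 58) (Steps.bwd (nat_lit 5) (Steps.fwd (nat_lit 16384) (Steps.fwd (nat_lit 10240) (Steps.bwd (nat_lit 6) Steps.nil)))) (nat_lit 36) (nat_lit 1),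
  Rule.mk (nat_lit 5) (nat_lit 58) (Steps.bwd (nat_lit 5) (Steps.bwd (nat_lit 8) (Steps.bwd (nat_lit 6) (Steps.bwd (nat_lit 7) Steps.nil)))) (nat_lit 37) (nat_lit 1),
  Rule.mk (nat_lit 6) (nat_lit 46) (Steps.bwd (nat_lit 2) (Steps.bwd (nat_lit 5) (Steps.fwd (nat_lit 4096) Steps.nil))) (nat_lit 20) (nat_lit 1),
  Rule.mk (nat_lit 7) (nat_lit 58) (Steps.bwd (nat_lit 6) (Steps.fwd (nat_lit 10240) (Steps.bwd (nat_lit 8) (Steps.bwd (nat_lit 5) Steps.nil)))) (nat_lit 36) (nat_lit 3),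
  Rule.mk (nat_lit 5) (nat_lit 58) (Steps.bwd (nat_lit 7) (Steps.bwd (nat_lit 6) (Steps.bwd (nat_lit 6) (Steps.bwd (nat_lit 8) Steps.nil)))) (nat_lit 36) (nat_lit 2),
  Rule.mk (nat_lit 0) (nat_lit 58) (Steps.fwd (nat_lit 4096) (Steps.fwd (nat_lit 10240) (Steps.fwd (nat_lit 4096) (Steps.bwd (nat_lit 5) Steps.nil)))) (nat_lit 20) (nat_lit 3),
  Rule.mk (nat_lit 0) (nat_lit 118) (Steps.bwd (nat_lit 6) (Steps.bwd (nat_lit 6) (Steps.bwd (nat_lit 6) (Steps.bwd (nat_lit 4) (Steps.fwd (nat_lit 12288) (Steps.bwd (nat_lit 5) (Steps.fwd (nat_lit 8192) (Steps.fwd (nat_lit 12288) (Steps.bwd (nat_lit 4) Steps.nil))))))))) (nat_lit 25) (nat_lit 0),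
  Rule.mk (nat_lit 0) (nat_lit 46) (Steps.bwd (nat_lit 3) (Steps.fwd (nat_lit 0) (Steps.bwd (nat_lit 3) Steps.nil))) (nat_lit 60) (nat_lit 0),
  Rule.mk (nat_lit 5) (nat_lit 106) (Steps.bwd (nat_lit 4) (Steps.bwd (nat_lit 5) (Steps.bwd (nat_lit 4) (Steps.fwd (nat_lit 10240) (Steps.bwd (nat_lit 6) (Steps.fwd (nat_lit 10240) (Steps.fwd (nat_lit 8192) (Steps.bwd (nat_lit 5) Steps.nil)))))))) (nat_lit 25) (nat_lit 6),
  Rule.mk (nat_lit 6) (nat_lit 634) (Steps.bwd (nat_lit 4) (Steps.bwd (nat_lit 3) (Steps.bwd (nat_lit 2) (Steps.bwd (nat_lit 3) (Steps.bwd (nat_lit 4) (Steps.bwd (nat_lit 5) (Steps.bwd (nat_lit 4) (Steps.bwd (nat_lit 5) (Steps.bwd (nat_lit 4) (Steps.bwd (nat_lit 3) (Steps.bwd (nat_lit 2) (Steps.bwd (nat_lit 3) (Steps.bwd (nat_lit 4) (Steps.bwd (nat_lit 5) (Steps.bwd (nat_lit 4) (Steps.bwd (nat_lit 3) (Steps.bwd (nat_lit 2) (Steps.bwd (nat_lit 3) (Steps.bwd (nat_lit 4) (Steps.bwd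 (nat_lit 6) (Steps.bwd (nat_lit 6) (Steps.bwd (nat_lit 6) (Steps.bwd (nat_lit 4) (Steps.bwd (nat_lit 3) (Steps.bwd (nat_lit 2) (Steps.bwd (nat_lit 3) (Steps.bwd (nat_lit 4) (Steps.bwd (nat_lit 6) (Steps.bwd (nat_lit 4) (Steps.bwd (nat_lit 3) (Steps.fwd (nat_lit 4096) (Steps.bwd (nat_lit 3) (Steps.bwd (nat_lit 4) (Steps.fwd (nat_lit 12288) (Steps.fwd (nat_lit 12288) (Steps.fwd (nat_lit 4096) (Steps.fwd (nat_lit 6144) (Steps.fwd (nat_lit 8192) (Steps.fwd (nat_lit 10240) (Steps.fwd (nat_lit 8192) (Steps.fwd (nat_lit 6144) (Steps.fwd (nat_lit 4096) (Steps.fwd (nat_lit 6144) (Steps.fwd (nat_lit 8192) (Steps.fwd (nat_lit 12288) (Steps.bwd (nat_lit 4) (Steps.bwd (nat_lit 2) (Steps.bwd (nat_lit 3) (Steps.bwd (nat_lit 4) (Steps.fwd (nat_lit 6144) (Steps.fwd (nat_lit 4096) (Steps.fwd (nat_lit 6144) Steps.nil)))))))))))))))))))))))))))))))))))))))))))))))))))) (nat_lit 58) (nat_lit 18),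
  Rule.mk (nat_lit 3) (nat_lit 46) (Steps.bwd (nat_lit 6) (Steps.fwd (nat_lit 6144) (Steps.bwd (nat_lit 6) Steps.nil))) (nat_lit 23) (nat_lit 1),
  Rule.mk (nat_lit 6) (nat_lit 82) (Steps.bwd (nat_lit 6) (Steps.bwd (nat_lit 6) (Steps.bwd (nat_lit 6) (Steps.bwd (nat_lit 6) (Steps.bwd (nat_lit 6) (Steps.bwd (nat_lit 6) Steps.nil)))))) (nat_lit 17) (nat_lit 0),
  Rule.mk (nat_lit 0) (nat_lit 58) (Steps.fwd (nat_lit 8192) (Steps.fwd (nat_lit 16384) (Steps.fwd (nat_lit 8192) (Steps.fwd (nat_lit 14336) Steps.nil)))) (nat_lit 34) (nat_lit 1),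
  Rule.mk (nat_lit 5) (nat_lit 106) (Steps.bwd (nat_lit 4) (Steps.bwd (nat_lit 6) (Steps.bwd (nat_lit 4) (Steps.fwd (nat_lit 10240) (Steps.bwd (nat_lit 6) (Steps.bwd (nat_lit 4) (Steps.fwd (nat_lit 12288) (Steps.bwd (nat_lit 5) Steps.nil)))))))) (nat_lit 24) (nat_lit 0)]
noncomputable def R_5 : List (Rule) := [Rule.mk (nat_lit 5) (nat_lit 46) (Steps.bwd (nat_lit 3) (Steps.bwd (nat_lit 5) (Steps.fwd (nat_lit 6144) Steps.nil))) (nat_lit 22) (nat_lit 1),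
  Rule.mk (nat_lit 8) (nat_lit 58) (Steps.bwd (nat_lit 6) (Steps.bwd (nat_lit 7) (Steps.bwd (nat_lit 5) (Steps.bwd (nat_lit 5) Steps.nil)))) (nat_lit 37) (nat_lit 3),
  Rule.mk (nat_lit 0) (nat_lit 58) (Steps.bwd (nat_lit 2) (Steps.fwd (nat_lit 14336) (Steps.bwd (nat_lit 2) (Steps.fwd (nat_lit 16384) Steps.nil)))) (nat_lit 30) (nat_lit 3),
  Rule.mk (nat_lit 4) (nat_lit 46) (Steps.bwd (nat_lit 8) (Steps.bwd (nat_lit 4) (Steps.bwd (nat_lit 7) Steps.nil))) (nat_lit 34) (nat_lit 0),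
  Rule.mk (nat_lit 8) (nat_lit 46) (Steps.bwd (nat_lit 3) (Steps.fwd (nat_lit 16384) (Steps.fwd (nat_lit 6144) Steps.nil))) (nat_lit 32) (nat_lit 1),
  Rule.mk (nat_lit 3) (nat_lit 70) (Steps.bwd (nat_lit 4) (Steps.bwd (nat_lit 3) (Steps.bwd (nat_lit 4) (Steps.bwd (nat_lit 3) (Steps.fwd (nat_lit 8192) Steps.nil))))) (nat_lit 14) (nat_lit 1),
  Rule.mk (nat_lit 4) (nat_lit 634) (Steps.bwd (nat_lit 5) (Steps.bwd (nat_lit 4) (Steps.bwd (nat_lit 5) (Steps.bwd (nat_lit 4) (Steps.bwd (nat_lit 3) (Steps.bwd (nat_lit 2) (Steps.bwd (nat_lit 3) (Steps.bwd (nat_lit 4) (Steps.bwd (nat_lit 5) (Steps.bwd (nat_lit 4) (Steps.bwd (nat_lit 3) (Steps.bwd (nat_lit 2) (Steps.bwd (nat_lit 3) (Steps.bwd (nat_lit 4) (Steps.bwd (nat_lit 6) (Steps.bwd (nat_lit 6) (Steps.bwd (nat_lit 6) (Steps.bwd (nat_lit 4) (Steps.bwd (nat_lit 3) (Steps.bwd (nat_lit 2) (Steps.bwd (nat_lit 3) (Steps.bwd (nat_lit 4) (Steps.bwd (nat_lit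 6) (Steps.fwd (nat_lit 8192) (Steps.bwd (nat_lit 3) (Steps.fwd (nat_lit 4096) (Steps.bwd (nat_lit 3) (Steps.bwd (nat_lit 4) (Steps.fwd (nat_lit 12288) (Steps.bwd (nat_lit 5) (Steps.bwd (nat_lit 2) (Steps.bwd (nat_lit 3) (Steps.bwd (nat_lit 4) (Steps.bwd (nat_lit 6) (Steps.bwd (nat_lit 4) (Steps.bwd (nat_lit 3) (Steps.bwd (nat_lit 2) (Steps.fwd (nat_lit 6144) (Steps.fwd (nat_lit 8192) (Steps.bwd (nat_lit 5) (Steps.fwd (nat_lit 8192) (Steps.fwd (nat_lit 4096) (Steps.fwd (nat_lit 6144) (Steps.fwd (nat_lit 8192) (Steps.fwd (nat_lit 6144) (Steps.fwd (nat_lit 4096) (Steps.fwd (nat_lit 6144) (Steps.bwd (nat_lit 6) (Steps.fwd (nat_lit 8192) (Steps.fwd (nat_lit 6144) (Steps.fwd (nat_lit 4096) (Steps.bwd (nat_lit 3) Steps.nil)))))))))))))))))))))))))))))))))))))))))))))))))))) (nat_lit 58) (nat_lit 23),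
  Rule.mk (nat_lit 0) (nat_lit 58) (Steps.fwd (nat_lit 10240) (Steps.bwd (nat_lit 3) (Steps.fwd (nat_lit 10240) (Steps.bwd (nat_lit 3) Steps.nil)))) (nat_lit 23) (nat_lit 1),
  Rule.mk (nat_lit 8) (nat_lit 58) (Steps.bwd (nat_lit 6) (Steps.fwd (nat_lit 16384) (Steps.bwd (nat_lit 5) (Steps.fwd (nat_lit 12288) Steps.nil)))) (nat_lit 37) (nat_lit 3),
  Rule.mk (nat_lit 5) (nat_lit 106) (Steps.fwd (nat_lit 8192) (Steps.bwd (nat_lit 6) (Steps.fwd (nat_lit 10240) (Steps.bwd (nat_lit 6) (Steps.fwd (nat_lit 8192) (Steps.fwd (nat_lit 12288) (Steps.bwd (nat_lit 5) (Steps.fwd (nat_lit 8192) Steps.nil)))))))) (nat_lit 25) (nat_lit 10),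
  Rule.mk (nat_lit 7) (nat_lit 58) (Steps.bwd (nat_lit 5) (Steps.fwd (nat_lit 12288) (Steps.bwd (nat_lit 8) (Steps.fwd (nat_lit 10240) Steps.nil)))) (nat_lit 37) (nat_lit 0),
  Rule.mk (nat_lit 0) (nat_lit 58) (Steps.fwd (nat_lit 10240) (Steps.fwd (nat_lit 4096) (Steps.bwd (nat_lit 5) (Steps.bwd (nat_lit 2) Steps.nil)))) (nat_lit 20) (nat_lit 0),
  Rule.mk (nat_lit 8) (nat_lit 58) (Steps.bwd (nat_lit 6) (Steps.bwd (nat_lit 7) (Steps.bwd (nat_lit 5) (Steps.fwd (nat_lit 12288) Steps.nil)))) (nat_lit 37) (nat_lit 3),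
  Rule.mk (nat_lit 2) (nat_lit 46) (Steps.bwd (nat_lit 6) (Steps.fwd (nat_lit 4096) (Steps.bwd (nat_lit 5) Steps.nil))) (nat_lit 20) (nat_lit 0),
  Rule.mk (nat_lit 1) (nat_lit 46) (Steps.bwd (nat_lit 7) (Steps.fwd (nat_lit 2048) (Steps.bwd (nat_lit 8) Steps.nil))) (nat_lit 28) (nat_lit 2),
  Rule.mk (nat_lit 2) (nat_lit 46) (Steps.bwd (nat_lit 7) (Steps.bwd (nat_lit 2) (Steps.fwd (nat_lit 14336) Steps.nil))) (nat_lit 30) (nat_lit 2),
  Rule.mk (nat_lit 0) (nat_lit 58) (Steps.bwd (nat_lit 3) (Steps.bwd (nat_lit 7) (Steps.fwd (nat_lit 6144) (Steps.fwd (nat_lit 14336) Steps.nil)))) (nat_lit 32) (nat_lit 1),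
  Rule.mk (nat_lit 0) (nat_lit 46) (Steps.bwd (nat_lit 2) (Steps.fwd (nat_lit 0) (Steps.fwd (nat_lit 4096) Steps.nil))) (nat_lit 60) (nat_lit 0),
  Rule.mk (nat_lit 5) (nat_lit 58) (Steps.bwd (nat_lit 7) (Steps.fwd (nat_lit 10240) (Steps.bwd (nat_lit 6) (Steps.bwd (nat_lit 8) Steps.nil)))) (nat_lit 36) (nat_lit 2),
  Rule.mk (nat_lit 2) (nat_lit 106) (Steps.bwd (nat_lit 3) (Steps.bwd (nat_lit 2) (Steps.fwd (nat_lit 2048) (Steps.bwd (nat_lit 3) (Steps.fwd (nat_lit 4096) (Steps.fwd (nat_lit 6144) (Steps.bwd (nat_lit 2) (Steps.fwd (nat_lit 6144) Steps.nil)))))))) (nat_lit 10) (nat_lit 7),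
  Rule.mk (nat_lit 6) (nat_lit 46) (Steps.fwd (nat_lit 6144) (Steps.fwd (nat_lit 10240) (Steps.bwd (nat_lit 3) Steps.nil))) (nat_lit 23) (nat_lit 0),
  Rule.mk (nat_lit 0) (nat_lit 46) (Steps.fwd (nat_lit 12288) (Steps.fwd (nat_lit 0) (Steps.fwd (nat_lit 10240) Steps.nil))) (nat_lit 60) (nat_lit 0),
  Rule.mk (nat_lit 0) (nat_lit 46) (Steps.fwd (nat_lit 10240) (Steps.fwd (nat_lit 0) (Steps.fwd (nat_lit 12288) Steps.nil))) (nat_lit 60) (nat_lit 0),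
  Rule.mk (nat_lit 6) (nat_lit 46) (Steps.fwd (nat_lit 2048) (Steps.bwd (nat_lit 5) (Steps.bwd (nat_lit 1) Steps.nil))) (nat_lit 18) (nat_lit 1),
  Rule.mk (nat_lit 6) (nat_lit 46) (Steps.bwd (nat_lit 1) (Steps.bwd (nat_lit 5) (Steps.fwd (nat_lit 2048) Steps.nil))) (nat_lit 18) (nat_lit 1),
  Rule.mk (nat_lit 0) (nat_lit 118) (Steps.bwd (nat_lit 6) (Steps.bwd (nat_lit 6) (Steps.bwd (nat_lit 4) (Steps.fwd (nat_lit 12288) (Steps.bwd (nat_lit 5) (Steps.bwd (nat_lit 5) (Steps.bwd (nat_lit 4) (Steps.bwd (nat_lit 6) (Steps.fwd (nat_lit 8192) Steps.nil))))))))) (nat_lit 24) (nat_lit 3),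
  Rule.mk (nat_lit 6) (nat_lit 46) (Steps.fwd (nat_lit 2048) (Steps.bwd (nat_lit 5) (Steps.fwd (nat_lit 2048) Steps.nil))) (nat_lit 18) (nat_lit 1),
  Rule.mk (nat_lit 7) (nat_lit 46) (Steps.fwd (nat_lit 6144) (Steps.bwd (nat_lit 8) (Steps.fwd (nat_lit 6144) Steps.nil))) (nat_lit 32) (nat_lit 3),
  Rule.mk (nat_lit 8) (nat_lit 58) (Steps.bwd (nat_lit 6) (Steps.fwd (nat_lit 16384) (Steps.fwd (nat_lit 12288) (Steps.fwd (nat_lit 12288) Steps.nil)))) (nat_lit 37) (nat_lit 3),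
  Rule.mk (nat_lit 6) (nat_lit 82) (Steps.bwd (nat_lit 6) (Steps.bwd (nat_lit 6) (Steps.bwd (nat_lit 6) (Steps.bwd (nat_lit 6) (Steps.fwd (nat_lit 10240) (Steps.bwd (nat_lit 6) Steps.nil)))))) (nat_lit 17) (nat_lit 0),
  Rule.mk (nat_lit 5) (nat_lit 106) (Steps.bwd (nat_lit 5) (Steps.fwd (nat_lit 12288) (Steps.bwd (nat_lit 4) (Steps.fwd (nat_lit 10240) (Steps.fwd (nat_lit 8192) (Steps.bwd (nat_lit 6) (Steps.bwd (nat_lit 6) (Steps.fwd (nat_lit 8192) Steps.nil)))))))) (nat_lit 24) (nat_lit 9),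
  Rule.mk (nat_lit 5) (nat_lit 106) (Steps.bwd (nat_lit 5) (Steps.fwd (nat_lit 12288) (Steps.bwd (nat_lit 4) (Steps.fwd (nat_lit 10240) (Steps.bwd (nat_lit 4) (Steps.fwd (nat_lit 10240) (Steps.bwd (nat_lit 6) (Steps.fwd (nat_lit 8192) Steps.nil)))))))) (nat_lit 24) (nat_lit 9),
  Rule.mk (nat_lit 2) (nat_lit 46) (Steps.bwd (nat_lit 5) (Steps.fwd (nat_lit 4096) (Steps.bwd (nat_lit 6) Steps.nil))) (nat_lit 20) (nat_lit 2),
  Rule.mk (nat_lit 1) (nat_lit 46) (Steps.fwd (nat_lit 8192) (Steps.bwd (nat_lit 1) (Steps.fwd (nat_lit 8192) Steps.nil))) (nat_lit 8) (nat_lit 1),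
  Rule.mk (nat_lit 5) (nat_lit 46) (Steps.fwd (nat_lit 2048) (Steps.fwd (nat_lit 10240) (Steps.bwd (nat_lit 1) Steps.nil))) (nat_lit 18) (nat_lit 3),
  Rule.mk (nat_lit 6) (nat_lit 106) (Steps.bwd (nat_lit 4) (Steps.bwd (nat_lit 5) (Steps.bwd (nat_lit 5) (Steps.bwd (nat_lit 5) (Steps.bwd (nat_lit 4) (Steps.bwd (nat_lit 6) (Steps.bwd (nat_lit 4) (Steps.fwd (nat_lit 10240) Steps.nil)))))))) (nat_lit 24) (nat_lit 7),
  Rule.mk (nat_lit 2) (nat_lit 46) (Steps.bwd (nat_lit 5) (Steps.bwd (nat_lit 2) (Steps.bwd (nat_lit 6) Steps.nil))) (nat_lit 20) (nat_lit 2),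
  Rule.mk (nat_lit 0) (nat_lit 58) (Steps.fwd (nat_lit 4096) (Steps.fwd (nat_lit 10240) (Steps.bwd (nat_lit 2) (Steps.bwd (nat_lit 5) Steps.nil)))) (nat_lit 20) (nat_lit 3),
  Rule.mk (nat_lit 1) (nat_lit 46) (Steps.fwd (nat_lit 16384) (Steps.fwd (nat_lit 2048) (Steps.bwd (nat_lit 8) Steps.nil))) (nat_lit 28) (nat_lit 2),
  Rule.mk (nat_lit 8) (nat_lit 58) (Steps.fwd (nat_lit 10240) (Steps.fwd (nat_lit 16384) (Steps.bwd (nat_lit 5) (Steps.bwd (nat_lit 5) Steps.nil)))) (nat_lit 37) (nat_lit 3),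
  Rule.mk (nat_lit 0) (nat_lit 58) (Steps.fwd (nat_lit 14336) (Steps.fwd (nat_lit 8192) (Steps.bwd (nat_lit 7) (Steps.bwd (nat_lit 4) Steps.nil)))) (nat_lit 34) (nat_lit 0),
  Rule.mk (nat_lit 0) (nat_lit 46) (Steps.fwd (nat_lit 10240) (Steps.bwd (nat_lit 0) (Steps.bwd (nat_lit 5) Steps.nil))) (nat_lit 60) (nat_lit 0),
  Rule.mk (nat_lit 0) (nat_lit 46) (Steps.bwd (nat_lit 5) (Steps.bwd (nat_lit 0) (Steps.bwd (nat_lit 6) Steps.nil))) (nat_lit 60) (nat_lit 0),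
  Rule.mk (nat_lit 0) (nat_lit 58) (Steps.bwd (nat_lit 6) (Steps.bwd (nat_lit 3) (Steps.fwd (nat_lit 10240) (Steps.bwd (nat_lit 3) Steps.nil)))) (nat_lit 23) (nat_lit 1),
  Rule.mk (nat_lit 6) (nat_lit 634) (Steps.bwd (nat_lit 6) (Steps.bwd (nat_lit 4) (Steps.bwd (nat_lit 3) (Steps.bwd (nat_lit 2) (Steps.bwd (nat_lit 3) (Steps.bwd (nat_lit 4) (Steps.bwd (nat_lit 6) (Steps.bwd (nat_lit 4) (Steps.bwd (nat_lit 3) (Steps.bwd (nat_lit 2) (Steps.bwd (nat_lit 3) (Steps.bwd (nat_lit 4) (Steps.bwd (nat_lit 5) (Steps.bwd (nat_lit 5) (Steps.fwd (nat_lit 4096) (Steps.bwd (nat_lit 3) (Steps.bwd (nat_lit 4) (Steps.fwd (nat_lit 10240) (Steps.bwd (nat_lit 4) (Steps.bwd (nat_lit 3) (Steps.bwd (nat_lit 2) (Steps.fwd (nat_lit 6144) (Steps.bwd (nat_lit 4) (Steps.bwd (nat_lit 5) (Steps.bwd (nat_lit 4) (Steps.fwd (nat_lit 4096) (Steps.bwd (nat_lit 3) (Steps.fwd (nat_lit 8192) (Steps.fwd (nat_lit 6144) (Steps.fwd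 (nat_lit 4096) (Steps.fwd (nat_lit 6144) (Steps.fwd (nat_lit 10240) (Steps.bwd (nat_lit 4) (Steps.fwd (nat_lit 6144) (Steps.fwd (nat_lit 4096) (Steps.fwd (nat_lit 6144) (Steps.fwd (nat_lit 8192) (Steps.fwd (nat_lit 12288) (Steps.fwd (nat_lit 8192) (Steps.bwd (nat_lit 5) (Steps.bwd (nat_lit 4) (Steps.bwd (nat_lit 3) (Steps.bwd (nat_lit 2) (Steps.fwd (nat_lit 6144) (Steps.fwd (nat_lit 8192) (Steps.fwd (nat_lit 12288) (Steps.bwd (nat_lit 4) (Steps.bwd (nat_lit 3) (Steps.fwd (nat_lit 4096) (Steps.bwd (nat_lit 3) (Steps.fwd (nat_lit 8192) (Steps.bwd (nat_lit 6) Steps.nil)))))))))))))))))))))))))))))))))))))))))))))))))))) (nat_lit 58) (nat_lit 39),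
  Rule.mk (nat_lit 5) (nat_lit 82) (Steps.bwd (nat_lit 5) (Steps.bwd (nat_lit 5) (Steps.fwd (nat_lit 12288) (Steps.fwd (nat_lit 12288) (Steps.fwd (nat_lit 12288) (Steps.bwd (nat_lit 5) Steps.nil)))))) (nat_lit 16) (nat_lit 0),
  Rule.mk (nat_lit 3) (nat_lit 46) (Steps.fwd (nat_lit 12288) (Steps.fwd (nat_lit 6144) (Steps.bwd (nat_lit 5) Steps.nil))) (nat_lit 22) (nat_lit 0),
  Rule.mk (nat_lit 3) (nat_lit 106) (Steps.bwd (nat_lit 2) (Steps.fwd (nat_lit 6144) (Steps.fwd (nat_lit 4096) (Steps.bwd (nat_lit 1) (Steps.fwd (nat_lit 6144) (Steps.fwd (nat_lit 4096) (Steps.bwd (nat_lit 3) (Steps.fwd (nat_lit 4096) Steps.nil)))))))) (nat_lit 10) (nat_lit 6),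
  Rule.mk (nat_lit 4) (nat_lit 70) (Steps.bwd (nat_lit 3) (Steps.fwd (nat_lit 8192) (Steps.fwd (nat_lit 6144) (Steps.fwd (nat_lit 8192) (Steps.bwd (nat_lit 3) Steps.nil))))) (nat_lit 14) (nat_lit 0),
  Rule.mk (nat_lit 1) (nat_lit 106) (Steps.fwd (nat_lit 4096) (Steps.bwd (nat_lit 3) (Steps.bwd (nat_lit 2) (Steps.fwd (nat_lit 6144) (Steps.fwd (nat_lit 4096) (Steps.bwd (nat_lit 3) (Steps.fwd (nat_lit 4096) (Steps.bwd (nat_lit 3) Steps.nil)))))))) (nat_lit 11) (nat_lit 0),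
  Rule.mk (nat_lit 6) (nat_lit 634) (Steps.bwd (nat_lit 4) (Steps.bwd (nat_lit 3) (Steps.bwd (nat_lit 2) (Steps.bwd (nat_lit 3) (Steps.bwd (nat_lit 4) (Steps.bwd (nat_lit 5) (Steps.bwd (nat_lit 4) (Steps.bwd (nat_lit 2) (Steps.bwd (nat_lit 3) (Steps.bwd (nat_lit 4) (Steps.bwd (nat_lit 3) (Steps.bwd (nat_lit 2) (Steps.bwd (nat_lit 3) (Steps.bwd (nat_lit 6) (Steps.bwd (nat_lit 4) (Steps.bwd (nat_lit 3) (Steps.bwd (nat_lit 2) (Steps.bwd (nat_lit 3) (Steps.bwd (nat_lit 4) (Steps.bwd (nat_lit 5) (Steps.bwd (nat_lit 4) (Steps.bwd (nat_lit 5) (Steps.bwd (nat_lit 4) (Steps.bwd (nat_lit 3) (Steps.bwd (nat_lit 2) (Steps.bwd (nat_lit 3) (Steps.bwd (nat_lit 4) (Steps.bwd (nat_lit 5) (Steps.bwd (nat_lit 4) (Steps.bwd (nat_lit 3) (Steps.bwd (nat_lit 2) (Steps.bwd (nat_lit 3) (Steps.bwd (nat_lit 4) (Steps.bwd (nat_lit 6) (Steps.bwd (nat_lit 6) (Steps.bwd (nat_lit 6) (Steps.bwd (nat_lit 4) (Steps.bwd (nat_lit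 3) (Steps.bwd (nat_lit 2) (Steps.bwd (nat_lit 3) (Steps.bwd (nat_lit 4) (Steps.bwd (nat_lit 6) (Steps.bwd (nat_lit 4) (Steps.bwd (nat_lit 3) (Steps.bwd (nat_lit 2) (Steps.bwd (nat_lit 3) (Steps.bwd (nat_lit 4) (Steps.bwd (nat_lit 5) (Steps.bwd (nat_lit 5) (Steps.bwd (nat_lit 2) (Steps.bwd (nat_lit 3) (Steps.bwd (nat_lit 4) Steps.nil)))))))))))))))))))))))))))))))))))))))))))))))))))) (nat_lit 58) (nat_lit 4),
  Rule.mk (nat_lit 6) (nat_lit 58) (Steps.bwd (nat_lit 8) (Steps.bwd (nat_lit 5) (Steps.fwd (nat_lit 16384) (Steps.bwd (nat_lit 6) Steps.nil)))) (nat_lit 36) (nat_lit 0),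
  Rule.mk (nat_lit 7) (nat_lit 58) (Steps.bwd (nat_lit 5) (Steps.fwd (nat_lit 12288) (Steps.fwd (nat_lit 14336) (Steps.bwd (nat_lit 6) Steps.nil)))) (nat_lit 37) (nat_lit 0),
  Rule.mk (nat_lit 0) (nat_lit 58) (Steps.fwd (nat_lit 4096) (Steps.bwd (nat_lit 7) (Steps.fwd (nat_lit 4096) (Steps.bwd (nat_lit 8) Steps.nil)))) (nat_lit 30) (nat_lit 1),
  Rule.mk (nat_lit 5) (nat_lit 58) (Steps.bwd (nat_lit 7) (Steps.fwd (nat_lit 10240) (Steps.bwd (nat_lit 6) (Steps.fwd (nat_lit 14336) Steps.nil)))) (nat_lit 36) (nat_lit 2),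
  Rule.mk (nat_lit 6) (nat_lit 58) (Steps.bwd (nat_lit 7) (Steps.fwd (nat_lit 12288) (Steps.fwd (nat_lit 12288) (Steps.fwd (nat_lit 14336) Steps.nil)))) (nat_lit 37) (nat_lit 4),
  Rule.mk (nat_lit 5) (nat_lit 106) (Steps.fwd (nat_lit 8192) (Steps.fwd (nat_lit 10240) (Steps.bwd (nat_lit 4) (Steps.bwd (nat_lit 6) (Steps.fwd (nat_lit 10240) (Steps.fwd (nat_lit 8192) (Steps.fwd (nat_lit 12288) (Steps.bwd (nat_lit 5) Steps.nil)))))))) (nat_lit 24) (nat_lit 0),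
  Rule.mk (nat_lit 5) (nat_lit 82) (Steps.bwd (nat_lit 5) (Steps.bwd (nat_lit 5) (Steps.bwd (nat_lit 5) (Steps.fwd (nat_lit 12288) (Steps.bwd (nat_lit 5) (Steps.bwd (nat_lit 5) Steps.nil)))))) (nat_lit 16) (nat_lit 0),
  Rule.mk (nat_lit 6) (nat_lit 82) (Steps.bwd (nat_lit 6) (Steps.bwd (nat_lit 6) (Steps.fwd (nat_lit 10240) (Steps.fwd (nat_lit 10240) (Steps.bwd (nat_lit 6) (Steps.bwd (nat_lit 6) Steps.nil)))))) (nat_lit 17) (nat_lit 0),
  Rule.mk (nat_lit 1) (nat_lit 106) (Steps.fwd (nat_lit 6144) (Steps.fwd (nat_lit 4096) (Steps.fwd (nat_lit 6144) (Steps.bwd (nat_lit 2) (Steps.fwd (nat_lit 6144) (Steps.fwd (nat_lit 4096) (Steps.fwd (nat_lit 6144) (Steps.bwd (nat_lit 2) Steps.nil)))))))) (nat_lit 10) (nat_lit 1),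
  Rule.mk (nat_lit 1) (nat_lit 106) (Steps.fwd (nat_lit 4096) (Steps.fwd (nat_lit 6144) (Steps.bwd (nat_lit 2) (Steps.fwd (nat_lit 6144) (Steps.fwd (nat_lit 4096) (Steps.fwd (nat_lit 6144) (Steps.bwd (nat_lit 2) (Steps.bwd (nat_lit 3) Steps.nil)))))))) (nat_lit 11) (nat_lit 0),
  Rule.mk (nat_lit 5) (nat_lit 106) (Steps.bwd (nat_lit 4) (Steps.fwd (nat_lit 10240) (Steps.fwd (nat_lit 8192) (Steps.bwd (nat_lit 6) (Steps.bwd (nat_lit 6) (Steps.fwd (nat_lit 8192) (Steps.bwd (nat_lit 5) (Steps.bwd (nat_lit 5) Steps.nil)))))))) (nat_lit 24) (nat_lit 0),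
  Rule.mk (nat_lit 8) (nat_lit 58) (Steps.bwd (nat_lit 6) (Steps.fwd (nat_lit 16384) (Steps.bwd (nat_lit 5) (Steps.bwd (nat_lit 5) Steps.nil)))) (nat_lit 37) (nat_lit 3),
  Rule.mk (nat_lit 7) (nat_lit 58) (Steps.bwd (nat_lit 6) (Steps.fwd (nat_lit 10240) (Steps.bwd (nat_lit 8) (Steps.fwd (nat_lit 12288) Steps.nil)))) (nat_lit 36) (nat_lit 3)]
noncomputable def R_6 : List (Rule) := [Rule.mk (nat_lit 0) (nat_lit 118) (Steps.bwd (nat_lit 4) (Steps.bwd (nat_lit 6) (Steps.bwd (nat_lit 4) (Steps.bwd (nat_lit 6) (Steps.fwd (nat_lit 10240) (Steps.fwd (nat_lit 8192) (Steps.bwd (nat_lit 5) (Steps.fwd (nat_lit 12288) (Steps.fwd (nat_lit 12288) Steps.nil))))))))) (nat_lit 24) (nat_lit 0),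
  Rule.mk (nat_lit 0) (nat_lit 46) (Steps.bwd (nat_lit 6) (Steps.fwd (nat_lit 0) (Steps.bwd (nat_lit 5) Steps.nil))) (nat_lit 60) (nat_lit 0),
  Rule.mk (nat_lit 5) (nat_lit 106) (Steps.bwd (nat_lit 5) (Steps.bwd (nat_lit 5) (Steps.fwd (nat_lit 8192) (Steps.bwd (nat_lit 6) (Steps.fwd (nat_lit 8192) (Steps.fwd (nat_lit 10240) (Steps.bwd (nat_lit 6) (Steps.fwd (nat_lit 8192) Steps.nil)))))))) (nat_lit 24) (nat_lit 9),
  Rule.mk (nat_lit 6) (nat_lit 106) (Steps.bwd (nat_lit 4) (Steps.bwd (nat_lit 5) (Steps.bwd (nat_lit 5) (Steps.bwd (nat_lit 5) (Steps.bwd (nat_lit 4) (Steps.fwd (nat_lit 10240) (Steps.bwd (nat_lit 4) (Steps.fwd (nat_lit 10240) Steps.nil)))))))) (nat_lit 24) (nat_lit 7),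
  Rule.mk (nat_lit 6) (nat_lit 106) (Steps.bwd (nat_lit 4) (Steps.fwd (nat_lit 12288) (Steps.bwd (nat_lit 5) (Steps.fwd (nat_lit 12288) (Steps.fwd (nat_lit 8192) (Steps.fwd (nat_lit 10240) (Steps.bwd (nat_lit 4) (Steps.bwd (nat_lit 6) Steps.nil)))))))) (nat_lit 24) (nat_lit 7),
  Rule.mk (nat_lit 5) (nat_lit 58) (Steps.bwd (nat_lit 5) (Steps.fwd (nat_lit 14336) (Steps.fwd (nat_lit 10240) (Steps.bwd (nat_lit 7) Steps.nil)))) (nat_lit 37) (nat_lit 1),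
  Rule.mk (nat_lit 5) (nat_lit 58) (Steps.bwd (nat_lit 8) (Steps.fwd (nat_lit 10240) (Steps.bwd (nat_lit 7) (Steps.bwd (nat_lit 5) Steps.nil)))) (nat_lit 37) (nat_lit 2),
  Rule.mk (nat_lit 1) (nat_lit 46) (Steps.bwd (nat_lit 5) (Steps.fwd (nat_lit 2048) (Steps.bwd (nat_lit 6) Steps.nil))) (nat_lit 18) (nat_lit 2),
  Rule.mk (nat_lit 5) (nat_lit 106) (Steps.bwd (nat_lit 5) (Steps.bwd (nat_lit 5) (Steps.bwd (nat_lit 4) (Steps.bwd (nat_lit 6) (Steps.fwd (nat_lit 8192) (Steps.fwd (nat_lit 10240) (Steps.fwd (nat_lit 10240) (Steps.fwd (nat_lit 8192) Steps.nil)))))))) (nat_lit 24) (nat_lit 9),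
  Rule.mk (nat_lit 7) (nat_lit 58) (Steps.bwd (nat_lit 5) (Steps.bwd (nat_lit 5) (Steps.fwd (nat_lit 14336) (Steps.fwd (nat_lit 10240) Steps.nil)))) (nat_lit 37) (nat_lit 0),
  Rule.mk (nat_lit 6) (nat_lit 106) (Steps.fwd (nat_lit 10240) (Steps.fwd (nat_lit 8192) (Steps.bwd (nat_lit 5) (Steps.bwd (nat_lit 5) (Steps.fwd (nat_lit 8192) (Steps.bwd (nat_lit 5) (Steps.fwd (nat_lit 8192) (Steps.fwd (nat_lit 10240) Steps.nil)))))))) (nat_lit 25) (nat_lit 2),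
  Rule.mk (nat_lit 7) (nat_lit 58) (Steps.fwd (nat_lit 10240) (Steps.bwd (nat_lit 6) (Steps.bwd (nat_lit 8) (Steps.bwd (nat_lit 5) Steps.nil)))) (nat_lit 36) (nat_lit 3),
  Rule.mk (nat_lit 6) (nat_lit 106) (Steps.bwd (nat_lit 4) (Steps.bwd (nat_lit 6) (Steps.fwd (nat_lit 10240) (Steps.fwd (nat_lit 8192) (Steps.bwd (nat_lit 5) (Steps.bwd (nat_lit 5) (Steps.bwd (nat_lit 5) (Steps.fwd (nat_lit 8192) Steps.nil)))))))) (nat_lit 24) (nat_lit 2),
  Rule.mk (nat_lit 0) (nat_lit 118) (Steps.bwd (nat_lit 4) (Steps.bwd (nat_lit 5) (Steps.bwd (nat_lit 4) (Steps.bwd (nat_lit 6) (Steps.fwd (nat_lit 10240) (Steps.fwd (nat_lit 10240) (Steps.bwd (nat_lit 4) (Steps.bwd (nat_lit 5) (Steps.fwd (nat_lit 12288) Steps.nil))))))))) (nat_lit 25) (nat_lit 6),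
  Rule.mk (nat_lit 1) (nat_lit 106) (Steps.bwd (nat_lit 3) (Steps.fwd (nat_lit 4096) (Steps.bwd (nat_lit 3) (Steps.bwd (nat_lit 2) (Steps.bwd (nat_lit 3) (Steps.bwd (nat_lit 2) (Steps.bwd (nat_lit 3) (Steps.fwd (nat_lit 4096) Steps.nil)))))))) (nat_lit 10) (nat_lit 1),
  Rule.mk (nat_lit 7) (nat_lit 46) (Steps.fwd (nat_lit 2048) (Steps.bwd (nat_lit 8) (Steps.fwd (nat_lit 2048) Steps.nil))) (nat_lit 28) (nat_lit 3),
  Rule.mk (nat_lit 8) (nat_lit 58) (Steps.fwd (nat_lit 10240) (Steps.bwd (nat_lit 7) (Steps.bwd (nat_lit 5) (Steps.bwd (nat_lit 5) Steps.nil)))) (nat_lit 37) (nat_lit 3),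
  Rule.mk (nat_lit 7) (nat_lit 46) (Steps.bwd (nat_lit 1) (Steps.fwd (nat_lit 14336) (Steps.bwd (nat_lit 1) Steps.nil))) (nat_lit 28) (nat_lit 3),
  Rule.mk (nat_lit 6) (nat_lit 58) (Steps.fwd (nat_lit 10240) (Steps.fwd (nat_lit 14336) (Steps.bwd (nat_lit 5) (Steps.bwd (nat_lit 7) Steps.nil)))) (nat_lit 36) (nat_lit 4),
  Rule.mk (nat_lit 6) (nat_lit 58) (Steps.bwd (nat_lit 6) (Steps.fwd (nat_lit 14336) (Steps.fwd (nat_lit 12288) (Steps.bwd (nat_lit 7) Steps.nil)))) (nat_lit 36) (nat_lit 4),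
  Rule.mk (nat_lit 5) (nat_lit 106) (Steps.bwd (nat_lit 5) (Steps.fwd (nat_lit 12288) (Steps.fwd (nat_lit 8192) (Steps.fwd (nat_lit 10240) (Steps.bwd (nat_lit 4) (Steps.bwd (nat_lit 6) (Steps.bwd (nat_lit 6) (Steps.bwd (nat_lit 4) Steps.nil)))))))) (nat_lit 24) (nat_lit 9),
  Rule.mk (nat_lit 6) (nat_lit 106) (Steps.fwd (nat_lit 8192) (Steps.fwd (nat_lit 10240) (Steps.fwd (nat_lit 10240) (Steps.bwd (nat_lit 4) (Steps.fwd (nat_lit 12288) (Steps.bwd (nat_lit 5) (Steps.fwd (nat_lit 12288) (Steps.bwd (nat_lit 4) Steps.nil)))))))) (nat_lit 24) (nat_lit 2),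
  Rule.mk (nat_lit 7) (nat_lit 58) (Steps.bwd (nat_lit 6) (Steps.fwd (nat_lit 10240) (Steps.fwd (nat_lit 14336) (Steps.bwd (nat_lit 5) Steps.nil)))) (nat_lit 36) (nat_lit 3),
  Rule.mk (nat_lit 3) (nat_lit 46) (Steps.bwd (nat_lit 5) (Steps.fwd (nat_lit 6144) (Steps.fwd (nat_lit 12288) Steps.nil))) (nat_lit 22) (nat_lit 0),
  Rule.mk (nat_lit 8) (nat_lit 58) (Steps.bwd (nat_lit 5) (Steps.fwd (nat_lit 16384) (Steps.fwd (nat_lit 10240) (Steps.fwd (nat_lit 10240) Steps.nil)))) (nat_lit 36) (nat_lit 1),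
  Rule.mk (nat_lit 3) (nat_lit 46) (Steps.bwd (nat_lit 8) (Steps.fwd (nat_lit 6144) (Steps.bwd (nat_lit 7) Steps.nil))) (nat_lit 32) (nat_lit 0),
  Rule.mk (nat_lit 4) (nat_lit 46) (Steps.bwd (nat_lit 7) (Steps.bwd (nat_lit 4) (Steps.fwd (nat_lit 14336) Steps.nil))) (nat_lit 34) (nat_lit 2),
  Rule.mk (nat_lit 3) (nat_lit 70) (Steps.bwd (nat_lit 4) (Steps.bwd (nat_lit 3) (Steps.fwd (nat_lit 8192) (Steps.fwd (nat_lit 6144) (Steps.bwd (nat_lit 4) Steps.nil))))) (nat_lit 14) (nat_lit 1),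
  Rule.mk (nat_lit 5) (nat_lit 106) (Steps.fwd (nat_lit 12288) (Steps.fwd (nat_lit 12288) (Steps.bwd (nat_lit 4) (Steps.bwd (nat_lit 6) (Steps.bwd (nat_lit 4) (Steps.bwd (nat_lit 6) (Steps.fwd (nat_lit 10240) (Steps.bwd (nat_lit 4) Steps.nil)))))))) (nat_lit 24) (nat_lit 9),
  Rule.mk (nat_lit 6) (nat_lit 106) (Steps.fwd (nat_lit 10240) (Steps.bwd (nat_lit 4) (Steps.fwd (nat_lit 12288) (Steps.bwd (nat_lit 5) (Steps.bwd (nat_lit 5) (Steps.bwd (nat_lit 4) (Steps.fwd (nat_lit 10240) (Steps.bwd (nat_lit 4) Steps.nil)))))))) (nat_lit 24) (nat_lit 6),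
  Rule.mk (nat_lit 2) (nat_lit 106) (Steps.bwd (nat_lit 3) (Steps.bwd (nat_lit 2) (Steps.bwd (nat_lit 3) (Steps.bwd (nat_lit 2) (Steps.bwd (nat_lit 3) (Steps.bwd (nat_lit 2) (Steps.fwd (nat_lit 2048) (Steps.fwd (nat_lit 6144) Steps.nil)))))))) (nat_lit 10) (nat_lit 3),
  Rule.mk (nat_lit 5) (nat_lit 46) (Steps.bwd (nat_lit 2) (Steps.fwd (nat_lit 10240) (Steps.bwd (nat_lit 2) Steps.nil))) (nat_lit 20) (nat_lit 3),
  Rule.mk (nat_lit 1) (nat_lit 106) (Steps.bwd (nat_lit 3) (Steps.fwd (nat_lit 4096) (Steps.fwd (nat_lit 6144) (Steps.bwd (nat_lit 2) (Steps.bwd (nat_lit 3) (Steps.bwd (nat_lit 2) (Steps.bwd (nat_lit 3) (Steps.bwd (nat_lit 2) Steps.nil)))))))) (nat_lit 10) (nat_lit 1),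
  Rule.mk (nat_lit 0) (nat_lit 58) (Steps.bwd (nat_lit 3) (Steps.bwd (nat_lit 5) (Steps.fwd (nat_lit 6144) (Steps.fwd (nat_lit 12288) Steps.nil)))) (nat_lit 22) (nat_lit 1),
  Rule.mk (nat_lit 5) (nat_lit 58) (Steps.bwd (nat_lit 5) (Steps.bwd (nat_lit 8) (Steps.fwd (nat_lit 10240) (Steps.bwd (nat_lit 7) Steps.nil)))) (nat_lit 37) (nat_lit 1),
  Rule.mk (nat_lit 4) (nat_lit 634) (Steps.fwd (nat_lit 4096) (Steps.fwd (nat_lit 6144) (Steps.fwd (nat_lit 8192) (Steps.bwd (nat_lit 3) (Steps.bwd (nat_lit 2) (Steps.fwd (nat_lit 6144) (Steps.fwd (nat_lit 10240) (Steps.bwd (nat_lit 4) (Steps.bwd (nat_lit 3) (Steps.bwd (nat_lit 2) (Steps.fwd (nat_lit 6144) (Steps.fwd (nat_lit 8192) (Steps.fwd (nat_lit 12288) (Steps.fwd (nat_lit 8192) (Steps.fwd (nat_lit 12288) (Steps.bwd (nat_lit 4) (Steps.bwd (nat_lit 3) (Steps.bwd (nat_lit 2) (Steps.bwd (nat_lit 3) (Steps.bwd (nat_lit 4) (Steps.bwd (nat_lit 5) (Steps.bwd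 (nat_lit 4) (Steps.bwd (nat_lit 3) (Steps.bwd (nat_lit 2) (Steps.bwd (nat_lit 3) (Steps.bwd (nat_lit 4) (Steps.bwd (nat_lit 6) (Steps.bwd (nat_lit 6) (Steps.bwd (nat_lit 6) (Steps.bwd (nat_lit 4) (Steps.bwd (nat_lit 3) (Steps.bwd (nat_lit 2) (Steps.bwd (nat_lit 3) (Steps.bwd (nat_lit 4) (Steps.bwd (nat_lit 6) (Steps.bwd (nat_lit 4) (Steps.bwd (nat_lit 3) (Steps.bwd (nat_lit 2) (Steps.bwd (nat_lit 3) (Steps.fwd (nat_lit 8192) (Steps.bwd (nat_lit 5) (Steps.fwd (nat_lit 12288) (Steps.bwd (nat_lit 2) (Steps.fwd (nat_lit 6144) (Steps.bwd (nat_lit 4) (Steps.fwd (nat_lit 10240) (Steps.fwd (nat_lit 8192) (Steps.fwd (nat_lit 6144) (Steps.fwd (nat_lit 4096) (Steps.fwd (nat_lit 6144) (Steps.fwd (nat_lit 8192) (Steps.bwd (nat_lit 5) Steps.nil)))))))))))))))))))))))))))))))))))))))))))))))))))) (nat_lit 58) (nat_lit 11),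
  Rule.mk (nat_lit 1) (nat_lit 106) (Steps.bwd (nat_lit 3) (Steps.bwd (nat_lit 2) (Steps.fwd (nat_lit 6144) (Steps.bwd (nat_lit 2) (Steps.bwd (nat_lit 3) (Steps.bwd (nat_lit 2) (Steps.fwd (nat_lit 6144) (Steps.fwd (nat_lit 4096) Steps.nil)))))))) (nat_lit 10) (nat_lit 1),
  Rule.mk (nat_lit 6) (nat_lit 634) (Steps.bwd (nat_lit 4) (Steps.bwd (nat_lit 3) (Steps.bwd (nat_lit 2) (Steps.bwd (nat_lit 3) (Steps.bwd (nat_lit 4) (Steps.bwd (nat_lit 5) (Steps.bwd (nat_lit 4) (Steps.bwd (nat_lit 2) (Steps.bwd (nat_lit 3) (Steps.bwd (nat_lit 4) (Steps.bwd (nat_lit 3) (Steps.bwd (nat_lit 2) (Steps.bwd (nat_lit 3) (Steps.bwd (nat_lit 6) (Steps.bwd (nat_lit 4) (Steps.bwd (nat_lit 3) (Steps.bwd (nat_lit 2) (Steps.bwd (nat_lit 3) (Steps.fwd (nat_lit 8192) (Steps.bwd (nat_lit 5) (Steps.bwd (nat_lit 4) (Steps.bwd (nat_lit 5) (Steps.fwd (nat_lit 8192) (Steps.fwd (nat_lit 6144) (Steps.fwd (nat_lit 4096) (Steps.fwd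 (nat_lit 6144) (Steps.fwd (nat_lit 8192) (Steps.fwd (nat_lit 12288) (Steps.bwd (nat_lit 4) (Steps.fwd (nat_lit 6144) (Steps.bwd (nat_lit 2) (Steps.fwd (nat_lit 6144) (Steps.fwd (nat_lit 8192) (Steps.fwd (nat_lit 10240) (Steps.fwd (nat_lit 10240) (Steps.fwd (nat_lit 10240) (Steps.fwd (nat_lit 8192) (Steps.fwd (nat_lit 6144) (Steps.fwd (nat_lit 4096) (Steps.bwd (nat_lit 3) (Steps.fwd (nat_lit 8192) (Steps.bwd (nat_lit 6) (Steps.bwd (nat_lit 4) (Steps.bwd (nat_lit 3) (Steps.bwd (nat_lit 2) (Steps.bwd (nat_lit 3) (Steps.bwd (nat_lit 4) (Steps.bwd (nat_lit 5) (Steps.fwd (nat_lit 12288) (Steps.fwd (nat_lit 4096) (Steps.fwd (nat_lit 6144) (Steps.fwd (nat_lit 8192) Steps.nil)))))))))))))))))))))))))))))))))))))))))))))))))))) (nat_lit 58) (nat_lit 4),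
  Rule.mk (nat_lit 6) (nat_lit 58) (Steps.bwd (nat_lit 8) (Steps.fwd (nat_lit 12288) (Steps.bwd (nat_lit 7) (Steps.bwd (nat_lit 6) Steps.nil)))) (nat_lit 36) (nat_lit 0),
  Rule.mk (nat_lit 6) (nat_lit 634) (Steps.fwd (nat_lit 10240) (Steps.fwd (nat_lit 8192) (Steps.fwd (nat_lit 6144) (Steps.fwd (nat_lit 4096) (Steps.fwd (nat_lit 6144) (Steps.fwd (nat_lit 8192) (Steps.bwd (nat_lit 6) (Steps.fwd (nat_lit 8192) (Steps.fwd (nat_lit 6144) (Steps.fwd (nat_lit 4096) (Steps.fwd (nat_lit 6144) (Steps.bwd (nat_lit 4) (Steps.bwd (nat_lit 5) (Steps.bwd (nat_lit 5) (Steps.fwd (nat_lit 4096) (Steps.fwd (nat_lit 6144) (Steps.fwd (nat_lit 8192) (Steps.fwd (nat_lit 10240) (Steps.fwd (nat_lit 8192) (Steps.fwd (nat_lit 6144) (Steps.bwd (nat_lit 2) (Steps.bwd (nat_lit 3) (Steps.bwd (nat_lit 4) (Steps.fwd (nat_lit 12288) (Steps.fwd (nat_lit 8192) (Steps.bwd (nat_lit 2) (Steps.bwd (nat_lit 3) (Steps.fwd (nat_lit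 8192) (Steps.bwd (nat_lit 3) (Steps.bwd (nat_lit 2) (Steps.bwd (nat_lit 3) (Steps.bwd (nat_lit 6) (Steps.bwd (nat_lit 4) (Steps.bwd (nat_lit 3) (Steps.bwd (nat_lit 2) (Steps.fwd (nat_lit 6144) (Steps.bwd (nat_lit 4) (Steps.bwd (nat_lit 5) (Steps.bwd (nat_lit 4) (Steps.fwd (nat_lit 12288) (Steps.bwd (nat_lit 4) (Steps.bwd (nat_lit 3) (Steps.bwd (nat_lit 2) (Steps.bwd (nat_lit 3) (Steps.fwd (nat_lit 8192) (Steps.bwd (nat_lit 5) (Steps.bwd (nat_lit 4) (Steps.fwd (nat_lit 6144) (Steps.bwd (nat_lit 2) (Steps.fwd (nat_lit 6144) (Steps.fwd (nat_lit 8192) (Steps.fwd (nat_lit 10240) Steps.nil)))))))))))))))))))))))))))))))))))))))))))))))))))) (nat_lit 58) (nat_lit 39),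
  Rule.mk (nat_lit 5) (nat_lit 106) (Steps.bwd (nat_lit 5) (Steps.bwd (nat_lit 5) (Steps.fwd (nat_lit 8192) (Steps.fwd (nat_lit 10240) (Steps.fwd (nat_lit 8192) (Steps.fwd (nat_lit 10240) (Steps.bwd (nat_lit 6) (Steps.bwd (nat_lit 4) Steps.nil)))))))) (nat_lit 24) (nat_lit 9),
  Rule.mk (nat_lit 0) (nat_lit 118) (Steps.bwd (nat_lit 4) (Steps.bwd (nat_lit 5) (Steps.fwd (nat_lit 12288) (Steps.bwd (nat_lit 5) (Steps.bwd (nat_lit 4) (Steps.fwd (nat_lit 10240) (Steps.fwd (nat_lit 8192) (Steps.bwd (nat_lit 6) (Steps.bwd (nat_lit 6) Steps.nil))))))))) (nat_lit 24) (nat_lit 7),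
  Rule.mk (nat_lit 0) (nat_lit 58) (Steps.bwd (nat_lit 3) (Steps.bwd (nat_lit 8) (Steps.fwd (nat_lit 6144) (Steps.fwd (nat_lit 16384) Steps.nil)))) (nat_lit 32) (nat_lit 3),
  Rule.mk (nat_lit 0) (nat_lit 58) (Steps.fwd (nat_lit 12288) (Steps.fwd (nat_lit 4096) (Steps.fwd (nat_lit 10240) (Steps.bwd (nat_lit 2) Steps.nil)))) (nat_lit 20) (nat_lit 2),
  Rule.mk (nat_lit 7) (nat_lit 46) (Steps.bwd (nat_lit 0) (Steps.bwd (nat_lit 8) (Steps.fwd (nat_lit 0) Steps.nil))) (nat_lit 60) (nat_lit 0),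
  Rule.mk (nat_lit 1) (nat_lit 106) (Steps.bwd (nat_lit 3) (Steps.bwd (nat_lit 2) (Steps.bwd (nat_lit 3) (Steps.bwd (nat_lit 2) (Steps.bwd (nat_lit 3) (Steps.fwd (nat_lit 4096) (Steps.fwd (nat_lit 6144) (Steps.fwd (nat_lit 4096) Steps.nil)))))))) (nat_lit 10) (nat_lit 1),
  Rule.mk (nat_lit 6) (nat_lit 58) (Steps.bwd (nat_lit 8) (Steps.fwd (nat_lit 12288) (Steps.fwd (nat_lit 16384) (Steps.bwd (nat_lit 6) Steps.nil)))) (nat_lit 36) (nat_lit 0),
  Rule.mk (nat_lit 4) (nat_lit 46) (Steps.bwd (nat_lit 2) (Steps.bwd (nat_lit 4) (Steps.bwd (nat_lit 2) Steps.nil))) (nat_lit 12) (nat_lit 0),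
  Rule.mk (nat_lit 6) (nat_lit 106) (Steps.fwd (nat_lit 8192) (Steps.bwd (nat_lit 6) (Steps.bwd (nat_lit 6) (Steps.bwd (nat_lit 4) (Steps.bwd (nat_lit 5) (Steps.fwd (nat_lit 12288) (Steps.fwd (nat_lit 12288) (Steps.bwd (nat_lit 4) Steps.nil)))))))) (nat_lit 24) (nat_lit 2),
  Rule.mk (nat_lit 5) (nat_lit 106) (Steps.fwd (nat_lit 8192) (Steps.bwd (nat_lit 6) (Steps.bwd (nat_lit 6) (Steps.bwd (nat_lit 6) (Steps.fwd (nat_lit 8192) (Steps.fwd (nat_lit 12288) (Steps.fwd (nat_lit 12288) (Steps.bwd (nat_lit 4) Steps.nil)))))))) (nat_lit 25) (nat_lit 10),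
  Rule.mk (nat_lit 2) (nat_lit 106) (Steps.bwd (nat_lit 3) (Steps.fwd (nat_lit 4096) (Steps.bwd (nat_lit 1) (Steps.fwd (nat_lit 6144) (Steps.fwd (nat_lit 4096) (Steps.bwd (nat_lit 3) (Steps.bwd (nat_lit 2) (Steps.bwd (nat_lit 3) Steps.nil)))))))) (nat_lit 10) (nat_lit 7),
  Rule.mk (nat_lit 4) (nat_lit 46) (Steps.bwd (nat_lit 2) (Steps.fwd (nat_lit 8192) (Steps.bwd (nat_lit 2) Steps.nil))) (nat_lit 12) (nat_lit 0),
  Rule.mk (nat_lit 6) (nat_lit 46) (Steps.bwd (nat_lit 2) (Steps.fwd (nat_lit 12288) (Steps.bwd (nat_lit 2) Steps.nil))) (nat_lit 20) (nat_lit 1),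
  Rule.mk (nat_lit 5) (nat_lit 46) (Steps.fwd (nat_lit 4096) (Steps.fwd (nat_lit 10240) (Steps.bwd (nat_lit 2) Steps.nil))) (nat_lit 20) (nat_lit 3),
  Rule.mk (nat_lit 3) (nat_lit 634) (Steps.bwd (nat_lit 2) (Steps.bwd (nat_lit 3) (Steps.bwd (nat_lit 4) (Steps.bwd (nat_lit 5) (Steps.bwd (nat_lit 4) (Steps.bwd (nat_lit 5) (Steps.bwd (nat_lit 4) (Steps.bwd (nat_lit 3) (Steps.bwd (nat_lit 2) (Steps.bwd (nat_lit 3) (Steps.bwd (nat_lit 4) (Steps.bwd (nat_lit 5) (Steps.bwd (nat_lit 4) (Steps.bwd (nat_lit 3) (Steps.bwd (nat_lit 2) (Steps.bwd (nat_lit 3) (Steps.fwd (nat_lit 8192) (Steps.fwd (nat_lit 10240) (Steps.bwd (nat_lit 6) (Steps.bwd (nat_lit 6) (Steps.bwd (nat_lit 4) (Steps.bwd (nat_lit 3) (Steps.fwd (nat_lit 4096) (Steps.bwd (nat_lit 3) (Steps.bwd (nat_lit 4) (Steps.bwd (nat_lit 6) (Steps.fwd (nat_lit 8192) (Steps.fwd (nat_lit 6144) (Steps.fwd (nat_lit 4096) (Steps.fwd (nat_lit 6144) (Steps.fwd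 (nat_lit 8192) (Steps.fwd (nat_lit 12288) (Steps.fwd (nat_lit 12288) (Steps.bwd (nat_lit 2) (Steps.fwd (nat_lit 6144) (Steps.bwd (nat_lit 4) (Steps.fwd (nat_lit 10240) (Steps.fwd (nat_lit 8192) (Steps.bwd (nat_lit 3) (Steps.fwd (nat_lit 4096) (Steps.fwd (nat_lit 6144) (Steps.fwd (nat_lit 8192) (Steps.fwd (nat_lit 12288) (Steps.fwd (nat_lit 8192) (Steps.bwd (nat_lit 2) (Steps.fwd (nat_lit 6144) (Steps.bwd (nat_lit 4) (Steps.fwd (nat_lit 6144) (Steps.fwd (nat_lit 4096) (Steps.bwd (nat_lit 3) (Steps.bwd (nat_lit 6) (Steps.fwd (nat_lit 8192) Steps.nil)))))))))))))))))))))))))))))))))))))))))))))))))))) (nat_lit 58) (nat_lit 20),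
  Rule.mk (nat_lit 6) (nat_lit 58) (Steps.fwd (nat_lit 10240) (Steps.fwd (nat_lit 14336) (Steps.fwd (nat_lit 12288) (Steps.bwd (nat_lit 7) Steps.nil)))) (nat_lit 36) (nat_lit 4),
  Rule.mk (nat_lit 5) (nat_lit 106) (Steps.fwd (nat_lit 8192) (Steps.fwd (nat_lit 10240) (Steps.fwd (nat_lit 8192) (Steps.fwd (nat_lit 10240) (Steps.bwd (nat_lit 6) (Steps.bwd (nat_lit 4) (Steps.bwd (nat_lit 5) (Steps.bwd (nat_lit 5) Steps.nil)))))))) (nat_lit 24) (nat_lit 0),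
  Rule.mk (nat_lit 3) (nat_lit 46) (Steps.fwd (nat_lit 16384) (Steps.bwd (nat_lit 3) (Steps.bwd (nat_lit 8) Steps.nil))) (nat_lit 32) (nat_lit 2),
  Rule.mk (nat_lit 5) (nat_lit 58) (Steps.fwd (nat_lit 16384) (Steps.fwd (nat_lit 10240) (Steps.fwd (nat_lit 10240) (Steps.bwd (nat_lit 8) Steps.nil)))) (nat_lit 36) (nat_lit 2),
  Rule.mk (nat_lit 0) (nat_lit 70) (Steps.bwd (nat_lit 5) (Steps.fwd (nat_lit 16384) (Steps.bwd (nat_lit 6) (Steps.fwd (nat_lit 10240) (Steps.fwd (nat_lit 14336) Steps.nil))))) (nat_lit 36) (nat_lit 1),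
  Rule.mk (nat_lit 4) (nat_lit 70) (Steps.fwd (nat_lit 6144) (Steps.fwd (nat_lit 8192) (Steps.bwd (nat_lit 3) (Steps.bwd (nat_lit 4) (Steps.bwd (nat_lit 3) Steps.nil))))) (nat_lit 14) (nat_lit 0),
  Rule.mk (nat_lit 4) (nat_lit 46) (Steps.fwd (nat_lit 4096) (Steps.bwd (nat_lit 4) (Steps.bwd (nat_lit 2) Steps.nil))) (nat_lit 12) (nat_lit 0),
  Rule.mk (nat_lit 8) (nat_lit 46) (Steps.fwd (nat_lit 6144) (Steps.fwd (nat_lit 16384) (Steps.bwd (nat_lit 3) Steps.nil))) (nat_lit 32) (nat_lit 1),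
  Rule.mk (nat_lit 1) (nat_lit 46) (Steps.bwd (nat_lit 7) (Steps.bwd (nat_lit 1) (Steps.bwd (nat_lit 8) Steps.nil))) (nat_lit 28) (nat_lit 2)]
noncomputable def R_7 : List (Rule) := [Rule.mk (nat_lit 2) (nat_lit 46) (Steps.fwd (nat_lit 16384) (Steps.bwd (nat_lit 2) (Steps.bwd (nat_lit 8) Steps.nil))) (nat_lit 30) (nat_lit 2),
  Rule.mk (nat_lit 5) (nat_lit 58) (Steps.fwd (nat_lit 16384) (Steps.fwd (nat_lit 10240) (Steps.bwd (nat_lit 6) (Steps.bwd (nat_lit 8) Steps.nil)))) (nat_lit 36) (nat_lit 2),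
  Rule.mk (nat_lit 6) (nat_lit 58) (Steps.fwd (nat_lit 16384) (Steps.fwd (nat_lit 12288) (Steps.fwd (nat_lit 12288) (Steps.bwd (nat_lit 8) Steps.nil)))) (nat_lit 37) (nat_lit 4),
  Rule.mk (nat_lit 7) (nat_lit 58) (Steps.fwd (nat_lit 10240) (Steps.bwd (nat_lit 6) (Steps.fwd (nat_lit 14336) (Steps.bwd (nat_lit 5) Steps.nil)))) (nat_lit 36) (nat_lit 3),
  Rule.mk (nat_lit 5) (nat_lit 106) (Steps.fwd (nat_lit 8192) (Steps.fwd (nat_lit 10240) (Steps.fwd (nat_lit 8192) (Steps.bwd (nat_lit 6) (Steps.bwd (nat_lit 6) (Steps.bwd (nat_lit 4) (Steps.bwd (nat_lit 5) (Steps.fwd (nat_lit 12288) Steps.nil)))))))) (nat_lit 24) (nat_lit 0),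
  Rule.mk (nat_lit 8) (nat_lit 58) (Steps.bwd (nat_lit 6) (Steps.fwd (nat_lit 16384) (Steps.fwd (nat_lit 12288) (Steps.bwd (nat_lit 5) Steps.nil)))) (nat_lit 37) (nat_lit 3),
  Rule.mk (nat_lit 5) (nat_lit 58) (Steps.fwd (nat_lit 14336) (Steps.bwd (nat_lit 6) (Steps.bwd (nat_lit 7) (Steps.bwd (nat_lit 5) Steps.nil)))) (nat_lit 37) (nat_lit 2),
  Rule.mk (nat_lit 4) (nat_lit 106) (Steps.bwd (nat_lit 6) (Steps.bwd (nat_lit 4) (Steps.bwd (nat_lit 6) (Steps.bwd (nat_lit 6) (Steps.fwd (nat_lit 8192) (Steps.fwd (nat_lit 12288) (Steps.bwd (nat_lit 5) (Steps.bwd (nat_lit 5) Steps.nil)))))))) (nat_lit 24) (nat_lit 1),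
  Rule.mk (nat_lit 2) (nat_lit 106) (Steps.fwd (nat_lit 6144) (Steps.fwd (nat_lit 4096) (Steps.fwd (nat_lit 6144) (Steps.bwd (nat_lit 2) (Steps.fwd (nat_lit 6144) (Steps.fwd (nat_lit 4096) (Steps.fwd (nat_lit 6144) (Steps.bwd (nat_lit 1) Steps.nil)))))))) (nat_lit 11) (nat_lit 1),
  Rule.mk (nat_lit 6) (nat_lit 58) (Steps.fwd (nat_lit 14336) (Steps.bwd (nat_lit 5) (Steps.bwd (nat_lit 7) (Steps.bwd (nat_lit 6) Steps.nil)))) (nat_lit 36) (nat_lit 0),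
  Rule.mk (nat_lit 6) (nat_lit 58) (Steps.bwd (nat_lit 7) (Steps.bwd (nat_lit 5) (Steps.bwd (nat_lit 5) (Steps.bwd (nat_lit 8) Steps.nil)))) (nat_lit 37) (nat_lit 4),
  Rule.mk (nat_lit 4) (nat_lit 634) (Steps.bwd (nat_lit 3) (Steps.bwd (nat_lit 2) (Steps.bwd (nat_lit 3) (Steps.bwd (nat_lit 4) (Steps.bwd (nat_lit 6) (Steps.bwd (nat_lit 6) (Steps.fwd (nat_lit 10240) (Steps.fwd (nat_lit 8192) (Steps.fwd (nat_lit 6144) (Steps.fwd (nat_lit 4096) (Steps.fwd (nat_lit 6144) (Steps.bwd (nat_lit 4) (Steps.bwd (nat_lit 6) (Steps.fwd (nat_lit 8192) (Steps.bwd (nat_lit 3) (Steps.bwd (nat_lit 2) (Steps.bwd (nat_lit 3) (Steps.bwd (nat_lit 4) (Steps.fwd (nat_lit 12288) (Steps.fwd (nat_lit 12288) (Steps.fwd (nat_lit 4096) (Steps.fwd (nat_lit 6144) (Steps.fwd (nat_lit 8192) (Steps.fwd (nat_lit 10240) (Steps.bwd (nat_lit 4) (Steps.fwd (nat_lit 6144) (Steps.fwd (nat_lit 4096) (Steps.fwd (nat_lit 6144) (Steps.fwd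 (nat_lit 8192) (Steps.fwd (nat_lit 12288) (Steps.fwd (nat_lit 8192) (Steps.bwd (nat_lit 2) (Steps.fwd (nat_lit 6144) (Steps.fwd (nat_lit 8192) (Steps.fwd (nat_lit 6144) (Steps.bwd (nat_lit 2) (Steps.fwd (nat_lit 6144) (Steps.fwd (nat_lit 10240) (Steps.bwd (nat_lit 4) (Steps.bwd (nat_lit 3) (Steps.bwd (nat_lit 2) (Steps.fwd (nat_lit 6144) (Steps.fwd (nat_lit 8192) (Steps.fwd (nat_lit 12288) (Steps.bwd (nat_lit 4) (Steps.fwd (nat_lit 12288) (Steps.fwd (nat_lit 8192) (Steps.fwd (nat_lit 6144) (Steps.fwd (nat_lit 4096) (Steps.fwd (nat_lit 6144) (Steps.fwd (nat_lit 8192) (Steps.fwd (nat_lit 12288) Steps.nil)))))))))))))))))))))))))))))))))))))))))))))))))))) (nat_lit 58) (nat_lit 33),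
  Rule.mk (nat_lit 5) (nat_lit 106) (Steps.bwd (nat_lit 5) (Steps.bwd (nat_lit 5) (Steps.fwd (nat_lit 8192) (Steps.bwd (nat_lit 6) (Steps.bwd (nat_lit 4) (Steps.bwd (nat_lit 6) (Steps.bwd (nat_lit 6) (Steps.bwd (nat_lit 4) Steps.nil)))))))) (nat_lit 24) (nat_lit 9),
  Rule.mk (nat_lit 6) (nat_lit 106) (Steps.fwd (nat_lit 10240) (Steps.fwd (nat_lit 10240) (Steps.fwd (nat_lit 8192) (Steps.bwd (nat_lit 5) (Steps.fwd (nat_lit 12288) (Steps.fwd (nat_lit 8192) (Steps.fwd (nat_lit 12288) (Steps.bwd (nat_lit 4) Steps.nil)))))))) (nat_lit 25) (nat_lit 1),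
  Rule.mk (nat_lit 0) (nat_lit 58) (Steps.fwd (nat_lit 4096) (Steps.fwd (nat_lit 12288) (Steps.fwd (nat_lit 4096) (Steps.fwd (nat_lit 10240) Steps.nil)))) (nat_lit 20) (nat_lit 1),
  Rule.mk (nat_lit 6) (nat_lit 82) (Steps.fwd (nat_lit 10240) (Steps.fwd (nat_lit 10240) (Steps.fwd (nat_lit 10240) (Steps.fwd (nat_lit 10240) (Steps.fwd (nat_lit 10240) (Steps.bwd (nat_lit 6) Steps.nil)))))) (nat_lit 17) (nat_lit 0),
  Rule.mk (nat_lit 3) (nat_lit 70) (Steps.fwd (nat_lit 8192) (Steps.bwd (nat_lit 3) (Steps.bwd (nat_lit 4) (Steps.fwd (nat_lit 6144) (Steps.fwd (nat_lit 8192) Steps.nil))))) (nat_lit 14) (nat_lit 1),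
  Rule.mk (nat_lit 2) (nat_lit 106) (Steps.bwd (nat_lit 3) (Steps.fwd (nat_lit 4096) (Steps.fwd (nat_lit 6144) (Steps.bwd (nat_lit 2) (Steps.bwd (nat_lit 1) (Steps.fwd (nat_lit 6144) (Steps.fwd (nat_lit 4096) (Steps.fwd (nat_lit 6144) Steps.nil)))))))) (nat_lit 10) (nat_lit 5),
  Rule.mk (nat_lit 2) (nat_lit 634) (Steps.bwd (nat_lit 3) (Steps.bwd (nat_lit 4) (Steps.bwd (nat_lit 6) (Steps.bwd (nat_lit 4) (Steps.fwd (nat_lit 6144) (Steps.fwd (nat_lit 4096) (Steps.bwd (nat_lit 3) (Steps.bwd (nat_lit 4) (Steps.bwd (nat_lit 5) (Steps.bwd (nat_lit 5) (Steps.bwd (nat_lit 2) (Steps.fwd (nat_lit 6144) (Steps.bwd (nat_lit 4) (Steps.bwd (nat_lit 6) (Steps.fwd (nat_lit 8192) (Steps.fwd (nat_lit 6144) (Steps.bwd (nat_lit 2) (Steps.bwd (nat_lit 3) (Steps.fwd (nat_lit 8192) (Steps.bwd (nat_lit 5) (Steps.bwd (nat_lit 4) (Steps.bwd (nat_lit 2) (Steps.fwd (nat_lit 6144) (Steps.bwd (nat_lit 4) (Steps.bwd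 (nat_lit 3) (Steps.bwd (nat_lit 2) (Steps.bwd (nat_lit 3) (Steps.fwd (nat_lit 10240) (Steps.bwd (nat_lit 4) (Steps.fwd (nat_lit 6144) (Steps.fwd (nat_lit 4096) (Steps.bwd (nat_lit 3) (Steps.fwd (nat_lit 8192) (Steps.fwd (nat_lit 12288) (Steps.fwd (nat_lit 8192) (Steps.bwd (nat_lit 5) (Steps.bwd (nat_lit 4) (Steps.bwd (nat_lit 3) (Steps.bwd (nat_lit 2) (Steps.fwd (nat_lit 6144) (Steps.fwd (nat_lit 8192) (Steps.fwd (nat_lit 12288) (Steps.fwd (nat_lit 8192) (Steps.fwd (nat_lit 6144) (Steps.bwd (nat_lit 2) (Steps.bwd (nat_lit 3) (Steps.bwd (nat_lit 4) (Steps.fwd (nat_lit 10240) (Steps.bwd (nat_lit 6) (Steps.fwd (nat_lit 10240) (Steps.bwd (nat_lit 4) (Steps.bwd (nat_lit 3) Steps.nil)))))))))))))))))))))))))))))))))))))))))))))))))))) (nat_lit 58) (nat_lit 43),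
  Rule.mk (nat_lit 6) (nat_lit 46) (Steps.fwd (nat_lit 4096) (Steps.fwd (nat_lit 12288) (Steps.bwd (nat_lit 2) Steps.nil))) (nat_lit 20) (nat_lit 1),
  Rule.mk (nat_lit 6) (nat_lit 58) (Steps.fwd (nat_lit 16384) (Steps.bwd (nat_lit 5) (Steps.bwd (nat_lit 5) (Steps.bwd (nat_lit 8) Steps.nil)))) (nat_lit 37) (nat_lit 4),
  Rule.mk (nat_lit 6) (nat_lit 106) (Steps.fwd (nat_lit 8192) (Steps.bwd (nat_lit 6) (Steps.bwd (nat_lit 6) (Steps.fwd (nat_lit 8192) (Steps.fwd (nat_lit 12288) (Steps.fwd (nat_lit 12288) (Steps.fwd (nat_lit 12288) (Steps.fwd (nat_lit 8192) Steps.nil)))))))) (nat_lit 24) (nat_lit 2),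
  Rule.mk (nat_lit 3) (nat_lit 46) (Steps.fwd (nat_lit 10240) (Steps.fwd (nat_lit 6144) (Steps.bwd (nat_lit 6) Steps.nil))) (nat_lit 23) (nat_lit 1),
  Rule.mk (nat_lit 5) (nat_lit 634) (Steps.bwd (nat_lit 4) (Steps.bwd (nat_lit 2) (Steps.bwd (nat_lit 3) (Steps.bwd (nat_lit 4) (Steps.bwd (nat_lit 3) (Steps.bwd (nat_lit 2) (Steps.bwd (nat_lit 3) (Steps.bwd (nat_lit 6) (Steps.bwd (nat_lit 4) (Steps.bwd (nat_lit 3) (Steps.bwd (nat_lit 2) (Steps.fwd (nat_lit 6144) (Steps.bwd (nat_lit 4) (Steps.fwd (nat_lit 12288) (Steps.fwd (nat_lit 8192) (Steps.fwd (nat_lit 12288) (Steps.fwd (nat_lit 8192) (Steps.bwd (nat_lit 3) (Steps.bwd (nat_lit 2) (Steps.fwd (nat_lit 6144) (Steps.bwd (nat_lit 4) (Steps.bwd (nat_lit 5) (Steps.bwd (nat_lit 4) (Steps.bwd (nat_lit 3) (Steps.fwd (nat_lit 4096) (Steps.bwd (nat_lit 3) (Steps.bwd (nat_lit 4) (Steps.bwd (nat_lit 6) (Steps.bwd (nat_lit 6) (Steps.bwd (nat_lit 6)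 (Steps.fwd (nat_lit 8192) (Steps.bwd (nat_lit 3) (Steps.fwd (nat_lit 4096) (Steps.fwd (nat_lit 6144) (Steps.fwd (nat_lit 8192) (Steps.bwd (nat_lit 6) (Steps.fwd (nat_lit 8192) (Steps.fwd (nat_lit 6144) (Steps.bwd (nat_lit 2) (Steps.bwd (nat_lit 3) (Steps.bwd (nat_lit 4) (Steps.bwd (nat_lit 5) (Steps.bwd (nat_lit 5) (Steps.fwd (nat_lit 4096) (Steps.fwd (nat_lit 6144) (Steps.fwd (nat_lit 8192) (Steps.fwd (nat_lit 10240) (Steps.fwd (nat_lit 8192) (Steps.fwd (nat_lit 6144) (Steps.fwd (nat_lit 4096) (Steps.fwd (nat_lit 6144) (Steps.fwd (nat_lit 8192) Steps.nil)))))))))))))))))))))))))))))))))))))))))))))))))))) (nat_lit 58) (nat_lit 10),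
  Rule.mk (nat_lit 2) (nat_lit 46) (Steps.fwd (nat_lit 10240) (Steps.fwd (nat_lit 4096) (Steps.bwd (nat_lit 5) Steps.nil))) (nat_lit 20) (nat_lit 0),
  Rule.mk (nat_lit 5) (nat_lit 58) (Steps.fwd (nat_lit 14336) (Steps.bwd (nat_lit 6) (Steps.fwd (nat_lit 16384) (Steps.bwd (nat_lit 5) Steps.nil)))) (nat_lit 37) (nat_lit 2),
  Rule.mk (nat_lit 6) (nat_lit 106) (Steps.fwd (nat_lit 10240) (Steps.bwd (nat_lit 6) (Steps.fwd (nat_lit 8192) (Steps.bwd (nat_lit 5) (Steps.bwd (nat_lit 5) (Steps.fwd (nat_lit 8192) (Steps.bwd (nat_lit 5) (Steps.bwd (nat_lit 4) Steps.nil)))))))) (nat_lit 25) (nat_lit 1),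
  Rule.mk (nat_lit 0) (nat_lit 58) (Steps.fwd (nat_lit 4096) (Steps.bwd (nat_lit 6) (Steps.bwd (nat_lit 2) (Steps.fwd (nat_lit 12288) Steps.nil)))) (nat_lit 20) (nat_lit 3),
  Rule.mk (nat_lit 8) (nat_lit 58) (Steps.bwd (nat_lit 6) (Steps.bwd (nat_lit 7) (Steps.fwd (nat_lit 12288) (Steps.bwd (nat_lit 5) Steps.nil)))) (nat_lit 37) (nat_lit 3),
  Rule.mk (nat_lit 5) (nat_lit 106) (Steps.fwd (nat_lit 8192) (Steps.bwd (nat_lit 5) (Steps.bwd (nat_lit 4) (Steps.fwd (nat_lit 10240) (Steps.fwd (nat_lit 10240) (Steps.fwd (nat_lit 10240) (Steps.fwd (nat_lit 8192) (Steps.fwd (nat_lit 12288) Steps.nil)))))))) (nat_lit 25) (nat_lit 6),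
  Rule.mk (nat_lit 5) (nat_lit 106) (Steps.bwd (nat_lit 5) (Steps.bwd (nat_lit 4) (Steps.bwd (nat_lit 5) (Steps.bwd (nat_lit 4) (Steps.fwd (nat_lit 10240) (Steps.bwd (nat_lit 6) (Steps.fwd (nat_lit 10240) (Steps.fwd (nat_lit 8192) Steps.nil)))))))) (nat_lit 25) (nat_lit 5),
  Rule.mk (nat_lit 4) (nat_lit 46) (Steps.fwd (nat_lit 14336) (Steps.bwd (nat_lit 4) (Steps.bwd (nat_lit 7) Steps.nil))) (nat_lit 34) (nat_lit 0),
  Rule.mk (nat_lit 6) (nat_lit 58) (Steps.fwd (nat_lit 10240) (Steps.bwd (nat_lit 8) (Steps.fwd (nat_lit 12288) (Steps.bwd (nat_lit 7) Steps.nil)))) (nat_lit 36) (nat_lit 4),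
  Rule.mk (nat_lit 5) (nat_lit 58) (Steps.fwd (nat_lit 12288) (Steps.bwd (nat_lit 8) (Steps.fwd (nat_lit 10240) (Steps.bwd (nat_lit 7) Steps.nil)))) (nat_lit 37) (nat_lit 1),
  Rule.mk (nat_lit 4) (nat_lit 106) (Steps.bwd (nat_lit 6) (Steps.bwd (nat_lit 4) (Steps.fwd (nat_lit 10240) (Steps.bwd (nat_lit 6) (Steps.fwd (nat_lit 8192) (Steps.bwd (nat_lit 5) (Steps.fwd (nat_lit 12288) (Steps.bwd (nat_lit 5) Steps.nil)))))))) (nat_lit 24) (nat_lit 1),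
  Rule.mk (nat_lit 7) (nat_lit 46) (Steps.fwd (nat_lit 8192) (Steps.fwd (nat_lit 14336) (Steps.bwd (nat_lit 4) Steps.nil))) (nat_lit 34) (nat_lit 3),
  Rule.mk (nat_lit 1) (nat_lit 106) (Steps.bwd (nat_lit 3) (Steps.bwd (nat_lit 2) (Steps.bwd (nat_lit 3) (Steps.fwd (nat_lit 4096) (Steps.bwd (nat_lit 3) (Steps.bwd (nat_lit 2) (Steps.fwd (nat_lit 6144) (Steps.fwd (nat_lit 4096) Steps.nil)))))))) (nat_lit 10) (nat_lit 1),
  Rule.mk (nat_lit 5) (nat_lit 82) (Steps.bwd (nat_lit 5) (Steps.bwd (nat_lit 5) (Steps.bwd (nat_lit 5) (Steps.fwd (nat_lit 12288) (Steps.fwd (nat_lit 12288) (Steps.fwd (nat_lit 12288) Steps.nil)))))) (nat_lit 16) (nat_lit 0),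
  Rule.mk (nat_lit 4) (nat_lit 106) (Steps.bwd (nat_lit 5) (Steps.fwd (nat_lit 8192) (Steps.bwd (nat_lit 6) (Steps.bwd (nat_lit 6) (Steps.fwd (nat_lit 10240) (Steps.fwd (nat_lit 8192) (Steps.fwd (nat_lit 12288) (Steps.bwd (nat_lit 5) Steps.nil)))))))) (nat_lit 25) (nat_lit 9),
  Rule.mk (nat_lit 2) (nat_lit 634) (Steps.bwd (nat_lit 3) (Steps.bwd (nat_lit 4) (Steps.bwd (nat_lit 3) (Steps.bwd (nat_lit 2) (Steps.bwd (nat_lit 3) (Steps.bwd (nat_lit 6) (Steps.bwd (nat_lit 4) (Steps.bwd (nat_lit 3) (Steps.bwd (nat_lit 2) (Steps.bwd (nat_lit 3) (Steps.bwd (nat_lit 4) (Steps.bwd (nat_lit 5) (Steps.bwd (nat_lit 4) (Steps.bwd (nat_lit 5) (Steps.bwd (nat_lit 4) (Steps.bwd (nat_lit 3) (Steps.bwd (nat_lit 2) (Steps.bwd (nat_lit 3) (Steps.bwd (nat_lit 4) (Steps.bwd (nat_lit 5) (Steps.bwd (nat_lit 4) (Steps.bwd (nat_lit 3) (Steps.fwd (nat_lit 4096) (Steps.bwd (nat_lit 3) (Steps.fwd (nat_lit 8192) (Steps.fwd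 (nat_lit 10240) (Steps.fwd (nat_lit 10240) (Steps.bwd (nat_lit 6) (Steps.fwd (nat_lit 8192) (Steps.fwd (nat_lit 6144) (Steps.bwd (nat_lit 2) (Steps.bwd (nat_lit 3) (Steps.bwd (nat_lit 4) (Steps.fwd (nat_lit 10240) (Steps.bwd (nat_lit 4) (Steps.bwd (nat_lit 3) (Steps.fwd (nat_lit 4096) (Steps.fwd (nat_lit 6144) (Steps.fwd (nat_lit 8192) (Steps.bwd (nat_lit 5) (Steps.fwd (nat_lit 12288) (Steps.bwd (nat_lit 2) (Steps.bwd (nat_lit 3) (Steps.bwd (nat_lit 4) (Steps.bwd (nat_lit 6) (Steps.fwd (nat_lit 8192) (Steps.bwd (nat_lit 3) (Steps.fwd (nat_lit 4096) (Steps.fwd (nat_lit 6144) (Steps.fwd (nat_lit 8192) (Steps.bwd (nat_lit 5) (Steps.bwd (nat_lit 4) Steps.nil)))))))))))))))))))))))))))))))))))))))))))))))))))) (nat_lit 58) (nat_lit 12),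
  Rule.mk (nat_lit 2) (nat_lit 106) (Steps.fwd (nat_lit 6144) (Steps.fwd (nat_lit 4096) (Steps.fwd (nat_lit 2048) (Steps.bwd (nat_lit 3) (Steps.bwd (nat_lit 2) (Steps.fwd (nat_lit 6144) (Steps.bwd (nat_lit 2) (Steps.bwd (nat_lit 3) Steps.nil)))))))) (nat_lit 10) (nat_lit 7),
  Rule.mk (nat_lit 7) (nat_lit 58) (Steps.bwd (nat_lit 5) (Steps.fwd (nat_lit 12288) (Steps.bwd (nat_lit 8) (Steps.bwd (nat_lit 6) Steps.nil)))) (nat_lit 37) (nat_lit 0),
  Rule.mk (nat_lit 1) (nat_lit 46) (Steps.bwd (nat_lit 6) (Steps.fwd (nat_lit 2048) (Steps.fwd (nat_lit 12288) Steps.nil))) (nat_lit 18) (nat_lit 0),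
  Rule.mk (nat_lit 6) (nat_lit 634) (Steps.fwd (nat_lit 8192) (Steps.fwd (nat_lit 6144) (Steps.fwd (nat_lit 4096) (Steps.fwd (nat_lit 6144) (Steps.fwd (nat_lit 8192) (Steps.fwd (nat_lit 12288) (Steps.fwd (nat_lit 8192) (Steps.fwd (nat_lit 4096) (Steps.fwd (nat_lit 6144) (Steps.fwd (nat_lit 8192) (Steps.fwd (nat_lit 6144) (Steps.fwd (nat_lit 4096) (Steps.fwd (nat_lit 6144) (Steps.bwd (nat_lit 6) (Steps.fwd (nat_lit 8192) (Steps.fwd (nat_lit 6144) (Steps.fwd (nat_lit 4096) (Steps.fwd (nat_lit 6144) (Steps.fwd (nat_lit 8192) (Steps.fwd (nat_lit 12288) (Steps.fwd (nat_lit 8192) (Steps.bwd (nat_lit 5) (Steps.fwd (nat_lit 8192) (Steps.fwd (nat_lit 6144) (Steps.fwd (nat_lit 4096) (Steps.bwd (nat_lit 3) (Steps.bwd (nat_lit 4) (Steps.fwd (nat_lit 12288) (Steps.bwd (nat_lit 4) (Steps.bwd (nat_lit 3) (Steps.bwd (nat_lit 2) (Steps.fwd (nat_lit 6144) (Steps.bwd (nat_lit 4) (Steps.fwd (nat_lit 10240)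 (Steps.fwd (nat_lit 10240) (Steps.fwd (nat_lit 10240) (Steps.bwd (nat_lit 4) (Steps.bwd (nat_lit 3) (Steps.fwd (nat_lit 4096) (Steps.fwd (nat_lit 6144) (Steps.fwd (nat_lit 8192) (Steps.bwd (nat_lit 6) (Steps.bwd (nat_lit 4) (Steps.fwd (nat_lit 6144) (Steps.bwd (nat_lit 2) (Steps.bwd (nat_lit 3) (Steps.fwd (nat_lit 8192) (Steps.bwd (nat_lit 5) (Steps.fwd (nat_lit 12288) (Steps.fwd (nat_lit 4096) (Steps.bwd (nat_lit 3) (Steps.bwd (nat_lit 4) Steps.nil)))))))))))))))))))))))))))))))))))))))))))))))))))) (nat_lit 58) (nat_lit 4),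
  Rule.mk (nat_lit 6) (nat_lit 106) (Steps.bwd (nat_lit 6) (Steps.bwd (nat_lit 4) (Steps.fwd (nat_lit 12288) (Steps.bwd (nat_lit 5) (Steps.bwd (nat_lit 5) (Steps.bwd (nat_lit 4) (Steps.bwd (nat_lit 6) (Steps.fwd (nat_lit 8192) Steps.nil)))))))) (nat_lit 24) (nat_lit 6),
  Rule.mk (nat_lit 5) (nat_lit 82) (Steps.bwd (nat_lit 5) (Steps.fwd (nat_lit 12288) (Steps.bwd (nat_lit 5) (Steps.fwd (nat_lit 12288) (Steps.bwd (nat_lit 5) (Steps.fwd (nat_lit 12288) Steps.nil)))))) (nat_lit 16) (nat_lit 0),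
  Rule.mk (nat_lit 3) (nat_lit 46) (Steps.bwd (nat_lit 5) (Steps.fwd (nat_lit 6144) (Steps.bwd (nat_lit 5) Steps.nil))) (nat_lit 22) (nat_lit 0),
  Rule.mk (nat_lit 8) (nat_lit 58) (Steps.fwd (nat_lit 10240) (Steps.fwd (nat_lit 16384) (Steps.fwd (nat_lit 12288) (Steps.bwd (nat_lit 5) Steps.nil)))) (nat_lit 37) (nat_lit 3),
  Rule.mk (nat_lit 6) (nat_lit 106) (Steps.bwd (nat_lit 4) (Steps.bwd (nat_lit 5) (Steps.fwd (nat_lit 12288) (Steps.bwd (nat_lit 5) (Steps.fwd (nat_lit 8192) (Steps.fwd (nat_lit 10240) (Steps.fwd (nat_lit 8192) (Steps.fwd (nat_lit 10240) Steps.nil)))))))) (nat_lit 24) (nat_lit 7),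
  Rule.mk (nat_lit 7) (nat_lit 58) (Steps.bwd (nat_lit 5) (Steps.bwd (nat_lit 5) (Steps.fwd (nat_lit 14336) (Steps.bwd (nat_lit 6) Steps.nil)))) (nat_lit 37) (nat_lit 0),
  Rule.mk (nat_lit 4) (nat_lit 106) (Steps.bwd (nat_lit 5) (Steps.bwd (nat_lit 4) (Steps.fwd (nat_lit 10240) (Steps.bwd (nat_lit 6) (Steps.fwd (nat_lit 10240) (Steps.fwd (nat_lit 8192) (Steps.fwd (nat_lit 12288) (Steps.fwd (nat_lit 12288) Steps.nil)))))))) (nat_lit 25) (nat_lit 9),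
  Rule.mk (nat_lit 3) (nat_lit 634) (Steps.bwd (nat_lit 2) (Steps.bwd (nat_lit 3) (Steps.bwd (nat_lit 4) (Steps.fwd (nat_lit 12288) (Steps.bwd (nat_lit 5) (Steps.fwd (nat_lit 4096) (Steps.fwd (nat_lit 6144) (Steps.bwd (nat_lit 4) (Steps.bwd (nat_lit 6) (Steps.fwd (nat_lit 8192) (Steps.bwd (nat_lit 3) (Steps.bwd (nat_lit 2) (Steps.fwd (nat_lit 6144) (Steps.bwd (nat_lit 4) (Steps.fwd (nat_lit 12288) (Steps.bwd (nat_lit 4) (Steps.fwd (nat_lit 4096) (Steps.fwd (nat_lit 6144) (Steps.bwd (nat_lit 4) (Steps.bwd (nat_lit 3) (Steps.bwd (nat_lit 2) (Steps.bwd (nat_lit 3) (Steps.fwd (nat_lit 10240) (Steps.bwd (nat_lit 4) (Steps.fwd (nat_lit 6144) (Steps.fwd (nat_lit 4096) (Steps.bwd (nat_lit 3) (Steps.bwd (nat_lit 4) (Steps.fwd (nat_lit 12288) (Steps.fwd (nat_lit 8192) (Steps.fwd (nat_lit 12288) (Steps.fwd (nat_lit 8192) (Steps.fwd (nat_lit 6144) (Steps.bwd (nat_lit 2) (Steps.bwd (nat_lit 3) (Steps.bwd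 (nat_lit 4) (Steps.fwd (nat_lit 12288) (Steps.bwd (nat_lit 4) (Steps.bwd (nat_lit 3) (Steps.bwd (nat_lit 2) (Steps.bwd (nat_lit 3) (Steps.bwd (nat_lit 4) (Steps.bwd (nat_lit 6) (Steps.fwd (nat_lit 10240) (Steps.fwd (nat_lit 10240) (Steps.bwd (nat_lit 4) (Steps.bwd (nat_lit 3) (Steps.bwd (nat_lit 2) (Steps.bwd (nat_lit 3) (Steps.bwd (nat_lit 4) (Steps.fwd (nat_lit 10240) (Steps.fwd (nat_lit 8192) Steps.nil)))))))))))))))))))))))))))))))))))))))))))))))))))) (nat_lit 58) (nat_lit 48),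
  Rule.mk (nat_lit 6) (nat_lit 106) (Steps.bwd (nat_lit 4) (Steps.fwd (nat_lit 12288) (Steps.fwd (nat_lit 12288) (Steps.bwd (nat_lit 5) (Steps.bwd (nat_lit 4) (Steps.fwd (nat_lit 10240) (Steps.fwd (nat_lit 8192) (Steps.bwd (nat_lit 6) Steps.nil)))))))) (nat_lit 24) (nat_lit 7),
  Rule.mk (nat_lit 7) (nat_lit 58) (Steps.fwd (nat_lit 12288) (Steps.bwd (nat_lit 5) (Steps.bwd (nat_lit 8) (Steps.bwd (nat_lit 6) Steps.nil)))) (nat_lit 37) (nat_lit 0),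
  Rule.mk (nat_lit 6) (nat_lit 634) (Steps.bwd (nat_lit 6) (Steps.bwd (nat_lit 4) (Steps.bwd (nat_lit 3) (Steps.bwd (nat_lit 2) (Steps.bwd (nat_lit 3) (Steps.bwd (nat_lit 4) (Steps.bwd (nat_lit 6) (Steps.bwd (nat_lit 4) (Steps.bwd (nat_lit 3) (Steps.bwd (nat_lit 2) (Steps.fwd (nat_lit 6144) (Steps.fwd (nat_lit 8192) (Steps.fwd (nat_lit 12288) (Steps.bwd (nat_lit 5) (Steps.fwd (nat_lit 4096) (Steps.fwd (nat_lit 6144) (Steps.fwd (nat_lit 8192) (Steps.fwd (nat_lit 10240) (Steps.bwd (nat_lit 4) (Steps.fwd (nat_lit 6144) (Steps.fwd (nat_lit 4096) (Steps.fwd (nat_lit 6144) (Steps.fwd (nat_lit 8192) (Steps.fwd (nat_lit 12288) (Steps.bwd (nat_lit 4) (Steps.fwd (nat_lit 4096) (Steps.fwd (nat_lit 6144) (Steps.fwd (nat_lit 8192) (Steps.bwd (nat_lit 3) (Steps.bwd (nat_lit 2) (Steps.fwd (nat_lit 6144) (Steps.fwd (nat_lit 10240) (Steps.fwd (nat_lit 8192) (Steps.bwd (nat_lit 3) (Steps.fwd (nat_lit 4096)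 (Steps.fwd (nat_lit 6144) (Steps.fwd (nat_lit 8192) (Steps.fwd (nat_lit 12288) (Steps.fwd (nat_lit 8192) (Steps.bwd (nat_lit 5) (Steps.bwd (nat_lit 4) (Steps.fwd (nat_lit 6144) (Steps.fwd (nat_lit 4096) (Steps.fwd (nat_lit 6144) (Steps.bwd (nat_lit 4) (Steps.fwd (nat_lit 12288) (Steps.fwd (nat_lit 8192) (Steps.fwd (nat_lit 6144) (Steps.fwd (nat_lit 4096) (Steps.fwd (nat_lit 6144) (Steps.fwd (nat_lit 8192) (Steps.fwd (nat_lit 10240) Steps.nil)))))))))))))))))))))))))))))))))))))))))))))))))))) (nat_lit 58) (nat_lit 39),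
  Rule.mk (nat_lit 6) (nat_lit 82) (Steps.bwd (nat_lit 6) (Steps.bwd (nat_lit 6) (Steps.bwd (nat_lit 6) (Steps.fwd (nat_lit 10240) (Steps.bwd (nat_lit 6) (Steps.bwd (nat_lit 6) Steps.nil)))))) (nat_lit 17) (nat_lit 0),
  Rule.mk (nat_lit 5) (nat_lit 106) (Steps.fwd (nat_lit 12288) (Steps.fwd (nat_lit 12288) (Steps.bwd (nat_lit 4) (Steps.bwd (nat_lit 6) (Steps.fwd (nat_lit 8192) (Steps.bwd (nat_lit 6) (Steps.bwd (nat_lit 6) (Steps.bwd (nat_lit 4) Steps.nil)))))))) (nat_lit 24) (nat_lit 9),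
  Rule.mk (nat_lit 5) (nat_lit 106) (Steps.bwd (nat_lit 5) (Steps.fwd (nat_lit 12288) (Steps.fwd (nat_lit 8192) (Steps.fwd (nat_lit 10240) (Steps.bwd (nat_lit 4) (Steps.fwd (nat_lit 10240) (Steps.fwd (nat_lit 10240) (Steps.fwd (nat_lit 8192) Steps.nil)))))))) (nat_lit 24) (nat_lit 9),
  Rule.mk (nat_lit 3) (nat_lit 634) (Steps.bwd (nat_lit 2) (Steps.fwd (nat_lit 6144) (Steps.fwd (nat_lit 8192) (Steps.fwd (nat_lit 12288) (Steps.bwd (nat_lit 5) (Steps.bwd (nat_lit 5) (Steps.bwd (nat_lit 4) (Steps.bwd (nat_lit 3) (Steps.fwd (nat_lit 4096) (Steps.bwd (nat_lit 3) (Steps.bwd (nat_lit 4) (Steps.bwd (nat_lit 6) (Steps.bwd (nat_lit 4) (Steps.bwd (nat_lit 3) (Steps.bwd (nat_lit 2) (Steps.bwd (nat_lit 3) (Steps.fwd (nat_lit 8192) (Steps.fwd (nat_lit 10240) (Steps.fwd (nat_lit 8192) (Steps.fwd (nat_lit 10240) (Steps.fwd (nat_lit 8192) (Steps.fwd (nat_lit 6144) (Steps.fwd (nat_lit 4096) (Steps.fwd (nat_lit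 6144) (Steps.fwd (nat_lit 8192) (Steps.fwd (nat_lit 12288) (Steps.fwd (nat_lit 6144) (Steps.fwd (nat_lit 4096) (Steps.bwd (nat_lit 3) (Steps.fwd (nat_lit 8192) (Steps.fwd (nat_lit 6144) (Steps.fwd (nat_lit 4096) (Steps.bwd (nat_lit 4) (Steps.bwd (nat_lit 6) (Steps.bwd (nat_lit 4) (Steps.bwd (nat_lit 3) (Steps.bwd (nat_lit 2) (Steps.fwd (nat_lit 6144) (Steps.bwd (nat_lit 4) (Steps.bwd (nat_lit 5) (Steps.bwd (nat_lit 4) (Steps.fwd (nat_lit 6144) (Steps.fwd (nat_lit 4096) (Steps.fwd (nat_lit 10240) (Steps.fwd (nat_lit 10240) (Steps.fwd (nat_lit 8192) (Steps.fwd (nat_lit 6144) (Steps.bwd (nat_lit 2) (Steps.bwd (nat_lit 3) (Steps.fwd (nat_lit 8192) (Steps.bwd (nat_lit 5) (Steps.fwd (nat_lit 8192) Steps.nil)))))))))))))))))))))))))))))))))))))))))))))))))))) (nat_lit 59) (nat_lit 10),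
  Rule.mk (nat_lit 1) (nat_lit 106) (Steps.bwd (nat_lit 3) (Steps.bwd (nat_lit 2) (Steps.fwd (nat_lit 6144) (Steps.fwd (nat_lit 4096) (Steps.bwd (nat_lit 3) (Steps.bwd (nat_lit 2) (Steps.fwd (nat_lit 6144) (Steps.fwd (nat_lit 4096) Steps.nil)))))))) (nat_lit 10) (nat_lit 1),
  Rule.mk (nat_lit 4) (nat_lit 46) (Steps.bwd (nat_lit 7) (Steps.fwd (nat_lit 8192) (Steps.fwd (nat_lit 14336) Steps.nil))) (nat_lit 34) (nat_lit 2),
  Rule.mk (nat_lit 5) (nat_lit 58) (Steps.bwd (nat_lit 7) (Steps.bwd (nat_lit 6) (Steps.fwd (nat_lit 10240) (Steps.fwd (nat_lit 14336) Steps.nil)))) (nat_lit 36) (nat_lit 2),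
  Rule.mk (nat_lit 6) (nat_lit 58) (Steps.bwd (nat_lit 7) (Steps.bwd (nat_lit 5) (Steps.fwd (nat_lit 12288) (Steps.fwd (nat_lit 14336) Steps.nil)))) (nat_lit 37) (nat_lit 4),
  Rule.mk (nat_lit 0) (nat_lit 58) (Steps.fwd (nat_lit 2048) (Steps.fwd (nat_lit 8192) (Steps.bwd (nat_lit 1) (Steps.bwd (nat_lit 4) Steps.nil)))) (nat_lit 8) (nat_lit 0)]
noncomputable def R_8 : List (Rule) := [Rule.mk (nat_lit 0) (nat_lit 46) (Steps.fwd (nat_lit 12288) (Steps.bwd (nat_lit 0) (Steps.bwd (nat_lit 6) Steps.nil))) (nat_lit 60) (nat_lit 0),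
  Rule.mk (nat_lit 4) (nat_lit 70) (Steps.fwd (nat_lit 6144) (Steps.bwd (nat_lit 4) (Steps.fwd (nat_lit 6144) (Steps.fwd (nat_lit 8192) (Steps.fwd (nat_lit 6144) Steps.nil))))) (nat_lit 14) (nat_lit 0),
  Rule.mk (nat_lit 1) (nat_lit 46) (Steps.bwd (nat_lit 7) (Steps.fwd (nat_lit 2048) (Steps.fwd (nat_lit 14336) Steps.nil))) (nat_lit 28) (nat_lit 2),
  Rule.mk (nat_lit 8) (nat_lit 46) (Steps.bwd (nat_lit 1) (Steps.fwd (nat_lit 16384) (Steps.bwd (nat_lit 1) Steps.nil))) (nat_lit 28) (nat_lit 1),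
  Rule.mk (nat_lit 4) (nat_lit 634) (Steps.bwd (nat_lit 5) (Steps.bwd (nat_lit 4) (Steps.bwd (nat_lit 3) (Steps.bwd (nat_lit 2) (Steps.bwd (nat_lit 3) (Steps.bwd (nat_lit 4) (Steps.bwd (nat_lit 6) (Steps.bwd (nat_lit 6) (Steps.bwd (nat_lit 6) (Steps.fwd (nat_lit 8192) (Steps.fwd (nat_lit 6144) (Steps.fwd (nat_lit 4096) (Steps.fwd (nat_lit 6144) (Steps.bwd (nat_lit 4) (Steps.fwd (nat_lit 10240) (Steps.fwd (nat_lit 8192) (Steps.bwd (nat_lit 3) (Steps.fwd (nat_lit 4096) (Steps.fwd (nat_lit 6144) (Steps.bwd (nat_lit 4) (Steps.fwd (nat_lit 12288) (Steps.fwd (nat_lit 12288) (Steps.bwd (nat_lit 2) (Steps.bwd (nat_lit 3) (Steps.bwd (nat_lit 4) (Steps.bwd (nat_lit 6) (Steps.bwd (nat_lit 4) (Steps.fwd (nat_lit 6144) (Steps.fwd (nat_lit 4096) (Steps.bwd (nat_lit 3) (Steps.fwd (nat_lit 8192) (Steps.bwd (nat_lit 5) (Steps.bwd (nat_lit 4) (Steps.bwd (nat_lit 2) (Steps.bwd (nat_lit 3) (Steps.bwd (nat_lit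 4) (Steps.fwd (nat_lit 6144) (Steps.fwd (nat_lit 4096) (Steps.bwd (nat_lit 3) (Steps.bwd (nat_lit 6) (Steps.fwd (nat_lit 8192) (Steps.bwd (nat_lit 3) (Steps.fwd (nat_lit 4096) (Steps.fwd (nat_lit 6144) (Steps.fwd (nat_lit 8192) (Steps.bwd (nat_lit 5) (Steps.bwd (nat_lit 4) (Steps.bwd (nat_lit 5) (Steps.bwd (nat_lit 4) (Steps.fwd (nat_lit 6144) (Steps.fwd (nat_lit 4096) (Steps.fwd (nat_lit 6144) Steps.nil)))))))))))))))))))))))))))))))))))))))))))))))))))) (nat_lit 58) (nat_lit 31),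
  Rule.mk (nat_lit 6) (nat_lit 106) (Steps.bwd (nat_lit 6) (Steps.fwd (nat_lit 10240) (Steps.fwd (nat_lit 8192) (Steps.fwd (nat_lit 12288) (Steps.bwd (nat_lit 5) (Steps.bwd (nat_lit 4) (Steps.bwd (nat_lit 5) (Steps.bwd (nat_lit 4) Steps.nil)))))))) (nat_lit 25) (nat_lit 1),
  Rule.mk (nat_lit 5) (nat_lit 106) (Steps.fwd (nat_lit 8192) (Steps.fwd (nat_lit 12288) (Steps.fwd (nat_lit 8192) (Steps.fwd (nat_lit 10240) (Steps.fwd (nat_lit 10240) (Steps.fwd (nat_lit 10240) (Steps.bwd (nat_lit 4) (Steps.bwd (nat_lit 5) Steps.nil)))))))) (nat_lit 25) (nat_lit 6),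
  Rule.mk (nat_lit 3) (nat_lit 46) (Steps.bwd (nat_lit 7) (Steps.bwd (nat_lit 3) (Steps.bwd (nat_lit 8) Steps.nil))) (nat_lit 32) (nat_lit 2),
  Rule.mk (nat_lit 2) (nat_lit 46) (Steps.bwd (nat_lit 7) (Steps.fwd (nat_lit 4096) (Steps.bwd (nat_lit 8) Steps.nil))) (nat_lit 30) (nat_lit 2),
  Rule.mk (nat_lit 2) (nat_lit 106) (Steps.bwd (nat_lit 3) (Steps.bwd (nat_lit 2) (Steps.bwd (nat_lit 1) (Steps.fwd (nat_lit 6144) (Steps.bwd (nat_lit 2) (Steps.bwd (nat_lit 3) (Steps.bwd (nat_lit 2) (Steps.bwd (nat_lit 3) Steps.nil)))))))) (nat_lit 10) (nat_lit 7),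
  Rule.mk (nat_lit 4) (nat_lit 46) (Steps.bwd (nat_lit 8) (Steps.fwd (nat_lit 8192) (Steps.bwd (nat_lit 7) Steps.nil))) (nat_lit 34) (nat_lit 0),
  Rule.mk (nat_lit 2) (nat_lit 634) (Steps.fwd (nat_lit 8192) (Steps.bwd (nat_lit 6) (Steps.fwd (nat_lit 8192) (Steps.fwd (nat_lit 6144) (Steps.fwd (nat_lit 4096) (Steps.bwd (nat_lit 3) (Steps.bwd (nat_lit 4) (Steps.bwd (nat_lit 5) (Steps.bwd (nat_lit 4) (Steps.bwd (nat_lit 3) (Steps.bwd (nat_lit 2) (Steps.bwd (nat_lit 6) (Steps.fwd (nat_lit 10240) (Steps.fwd (nat_lit 8192) (Steps.bwd (nat_lit 3) (Steps.fwd (nat_lit 4096) (Steps.fwd (nat_lit 6144) (Steps.fwd (nat_lit 8192) (Steps.fwd (nat_lit 12288) (Steps.fwd (nat_lit 8192) (Steps.fwd (nat_lit 6144) (Steps.fwd (nat_lit 4096) (Steps.fwd (nat_lit 6144) (Steps.fwd (nat_lit 8192) (Steps.fwd (nat_lit 12288) (Steps.bwd (nat_lit 5) (Steps.fwd (nat_lit 12288) (Steps.fwd (nat_lit 8192) (Steps.fwd (nat_lit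 6144) (Steps.fwd (nat_lit 4096) (Steps.fwd (nat_lit 6144) (Steps.fwd (nat_lit 8192) (Steps.fwd (nat_lit 10240) (Steps.bwd (nat_lit 4) (Steps.bwd (nat_lit 3) (Steps.bwd (nat_lit 2) (Steps.fwd (nat_lit 6144) (Steps.fwd (nat_lit 8192) (Steps.bwd (nat_lit 6) (Steps.fwd (nat_lit 8192) (Steps.bwd (nat_lit 6) (Steps.bwd (nat_lit 4) (Steps.bwd (nat_lit 3) (Steps.bwd (nat_lit 2) (Steps.fwd (nat_lit 6144) (Steps.bwd (nat_lit 4) (Steps.fwd (nat_lit 12288) (Steps.bwd (nat_lit 3) (Steps.fwd (nat_lit 4096) (Steps.fwd (nat_lit 6144) (Steps.fwd (nat_lit 8192) (Steps.bwd (nat_lit 3) Steps.nil)))))))))))))))))))))))))))))))))))))))))))))))))))) (nat_lit 59) (nat_lit 42),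
  Rule.mk (nat_lit 6) (nat_lit 106) (Steps.bwd (nat_lit 6) (Steps.bwd (nat_lit 4) (Steps.bwd (nat_lit 5) (Steps.fwd (nat_lit 12288) (Steps.bwd (nat_lit 5) (Steps.bwd (nat_lit 4) (Steps.bwd (nat_lit 6) (Steps.bwd (nat_lit 4) Steps.nil)))))))) (nat_lit 24) (nat_lit 6),
  Rule.mk (nat_lit 4) (nat_lit 106) (Steps.bwd (nat_lit 6) (Steps.fwd (nat_lit 10240) (Steps.bwd (nat_lit 4) (Steps.bwd (nat_lit 5) (Steps.fwd (nat_lit 12288) (Steps.fwd (nat_lit 12288) (Steps.bwd (nat_lit 4) (Steps.bwd (nat_lit 6) Steps.nil)))))))) (nat_lit 24) (nat_lit 3),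
  Rule.mk (nat_lit 4) (nat_lit 634) (Steps.bwd (nat_lit 2) (Steps.fwd (nat_lit 6144) (Steps.bwd (nat_lit 4) (Steps.bwd (nat_lit 3) (Steps.bwd (nat_lit 2) (Steps.bwd (nat_lit 3) (Steps.bwd (nat_lit 6) (Steps.bwd (nat_lit 4) (Steps.bwd (nat_lit 3) (Steps.bwd (nat_lit 2) (Steps.fwd (nat_lit 6144) (Steps.fwd (nat_lit 8192) (Steps.fwd (nat_lit 12288) (Steps.fwd (nat_lit 8192) (Steps.fwd (nat_lit 12288) (Steps.bwd (nat_lit 4) (Steps.bwd (nat_lit 3) (Steps.bwd (nat_lit 2) (Steps.bwd (nat_lit 3) (Steps.bwd (nat_lit 4) (Steps.bwd (nat_lit 5) (Steps.bwd (nat_lit 4) (Steps.fwd (nat_lit 6144) (Steps.bwd (nat_lit 2) (Steps.bwd (nat_lit 3) (Steps.bwd (nat_lit 4) (Steps.bwd (nat_lit 6) (Steps.bwd (nat_lit 6) (Steps.bwd (nat_lit 6) (Steps.bwd (nat_lit 4) (Steps.bwd (nat_lit 3) (Steps.bwd (nat_lit 2) (Steps.fwd (nat_lit 6144) (Steps.bwd (nat_lit 4) (Steps.fwd (nat_lit 10240) (Steps.bwd (nat_lit 4) (Steps.fwd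 (nat_lit 6144) (Steps.fwd (nat_lit 4096) (Steps.fwd (nat_lit 6144) (Steps.fwd (nat_lit 8192) (Steps.fwd (nat_lit 12288) (Steps.bwd (nat_lit 5) (Steps.fwd (nat_lit 4096) (Steps.fwd (nat_lit 6144) (Steps.fwd (nat_lit 8192) (Steps.bwd (nat_lit 6) (Steps.fwd (nat_lit 8192) (Steps.fwd (nat_lit 6144) (Steps.fwd (nat_lit 4096) (Steps.fwd (nat_lit 6144) (Steps.fwd (nat_lit 8192) (Steps.fwd (nat_lit 12288) Steps.nil)))))))))))))))))))))))))))))))))))))))))))))))))))) (nat_lit 58) (nat_lit 11),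
  Rule.mk (nat_lit 5) (nat_lit 82) (Steps.bwd (nat_lit 5) (Steps.bwd (nat_lit 5) (Steps.bwd (nat_lit 5) (Steps.bwd (nat_lit 5) (Steps.fwd (nat_lit 12288) (Steps.fwd (nat_lit 12288) Steps.nil)))))) (nat_lit 16) (nat_lit 0),
  Rule.mk (nat_lit 2) (nat_lit 46) (Steps.bwd (nat_lit 6) (Steps.bwd (nat_lit 2) (Steps.bwd (nat_lit 5) Steps.nil))) (nat_lit 20) (nat_lit 0),
  Rule.mk (nat_lit 6) (nat_lit 106) (Steps.bwd (nat_lit 4) (Steps.bwd (nat_lit 6) (Steps.bwd (nat_lit 6) (Steps.fwd (nat_lit 8192) (Steps.bwd (nat_lit 5) (Steps.bwd (nat_lit 5) (Steps.bwd (nat_lit 5) (Steps.fwd (nat_lit 8192) Steps.nil)))))))) (nat_lit 24) (nat_lit 2),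
  Rule.mk (nat_lit 2) (nat_lit 634) (Steps.bwd (nat_lit 3) (Steps.bwd (nat_lit 4) (Steps.bwd (nat_lit 3) (Steps.bwd (nat_lit 2) (Steps.bwd (nat_lit 3) (Steps.bwd (nat_lit 6) (Steps.bwd (nat_lit 4) (Steps.bwd (nat_lit 3) (Steps.bwd (nat_lit 2) (Steps.bwd (nat_lit 3) (Steps.bwd (nat_lit 4) (Steps.bwd (nat_lit 5) (Steps.bwd (nat_lit 4) (Steps.bwd (nat_lit 5) (Steps.bwd (nat_lit 4) (Steps.bwd (nat_lit 3) (Steps.bwd (nat_lit 2) (Steps.bwd (nat_lit 3) (Steps.bwd (nat_lit 4) (Steps.bwd (nat_lit 5) (Steps.bwd (nat_lit 4) (Steps.bwd (nat_lit 3) (Steps.bwd (nat_lit 2) (Steps.bwd (nat_lit 3) (Steps.bwd (nat_lit 4) (Steps.fwd (nat_lit 10240) (Steps.bwd (nat_lit 6) (Steps.fwd (nat_lit 10240) (Steps.bwd (nat_lit 4) (Steps.bwd (nat_lit 3) (Steps.bwd (nat_lit 2) (Steps.bwd (nat_lit 3) (Steps.bwd (nat_lit 4) (Steps.fwd (nat_lit 10240) (Steps.fwd (nat_lit 8192) (Steps.fwd (nat_lit 6144) (Steps.bwd (nat_lit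 2) (Steps.bwd (nat_lit 3) (Steps.fwd (nat_lit 8192) (Steps.bwd (nat_lit 5) (Steps.bwd (nat_lit 5) (Steps.bwd (nat_lit 2) (Steps.bwd (nat_lit 3) (Steps.bwd (nat_lit 4) (Steps.bwd (nat_lit 6) (Steps.bwd (nat_lit 4) (Steps.bwd (nat_lit 3) (Steps.fwd (nat_lit 4096) (Steps.fwd (nat_lit 6144) (Steps.bwd (nat_lit 4) (Steps.fwd (nat_lit 12288) (Steps.fwd (nat_lit 8192) Steps.nil)))))))))))))))))))))))))))))))))))))))))))))))))))) (nat_lit 58) (nat_lit 12),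
  Rule.mk (nat_lit 4) (nat_lit 46) (Steps.fwd (nat_lit 4096) (Steps.fwd (nat_lit 8192) (Steps.bwd (nat_lit 2) Steps.nil))) (nat_lit 12) (nat_lit 0),
  Rule.mk (nat_lit 0) (nat_lit 118) (Steps.fwd (nat_lit 6144) (Steps.fwd (nat_lit 4096) (Steps.fwd (nat_lit 6144) (Steps.fwd (nat_lit 4096) (Steps.fwd (nat_lit 6144) (Steps.fwd (nat_lit 4096) (Steps.fwd (nat_lit 6144) (Steps.bwd (nat_lit 1) (Steps.bwd (nat_lit 2) Steps.nil))))))))) (nat_lit 11) (nat_lit 1),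
  Rule.mk (nat_lit 5) (nat_lit 106) (Steps.bwd (nat_lit 4) (Steps.bwd (nat_lit 6) (Steps.bwd (nat_lit 4) (Steps.bwd (nat_lit 6) (Steps.bwd (nat_lit 6) (Steps.bwd (nat_lit 4) (Steps.fwd (nat_lit 12288) (Steps.bwd (nat_lit 5) Steps.nil)))))))) (nat_lit 24) (nat_lit 0),
  Rule.mk (nat_lit 5) (nat_lit 82) (Steps.bwd (nat_lit 5) (Steps.fwd (nat_lit 12288) (Steps.fwd (nat_lit 12288) (Steps.bwd (nat_lit 5) (Steps.fwd (nat_lit 12288) (Steps.fwd (nat_lit 12288) Steps.nil)))))) (nat_lit 16) (nat_lit 0),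
  Rule.mk (nat_lit 6) (nat_lit 106) (Steps.bwd (nat_lit 6) (Steps.fwd (nat_lit 8192) (Steps.bwd (nat_lit 5) (Steps.bwd (nat_lit 5) (Steps.bwd (nat_lit 5) (Steps.bwd (nat_lit 4) (Steps.fwd (nat_lit 10240) (Steps.fwd (nat_lit 8192) Steps.nil)))))))) (nat_lit 24) (nat_lit 6),
  Rule.mk (nat_lit 3) (nat_lit 46) (Steps.fwd (nat_lit 14336) (Steps.fwd (nat_lit 6144) (Steps.bwd (nat_lit 7) Steps.nil))) (nat_lit 32) (nat_lit 0),
  Rule.mk (nat_lit 6) (nat_lit 58) (Steps.fwd (nat_lit 10240) (Steps.bwd (nat_lit 8) (Steps.bwd (nat_lit 5) (Steps.bwd (nat_lit 7) Steps.nil)))) (nat_lit 36) (nat_lit 4),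
  Rule.mk (nat_lit 6) (nat_lit 634) (Steps.bwd (nat_lit 4) (Steps.bwd (nat_lit 3) (Steps.bwd (nat_lit 2) (Steps.bwd (nat_lit 3) (Steps.bwd (nat_lit 4) (Steps.bwd (nat_lit 5) (Steps.bwd (nat_lit 4) (Steps.bwd (nat_lit 2) (Steps.bwd (nat_lit 3) (Steps.bwd (nat_lit 4) (Steps.fwd (nat_lit 6144) (Steps.bwd (nat_lit 2) (Steps.fwd (nat_lit 6144) (Steps.bwd (nat_lit 6) (Steps.bwd (nat_lit 4) (Steps.fwd (nat_lit 6144) (Steps.fwd (nat_lit 4096) (Steps.bwd (nat_lit 3) (Steps.bwd (nat_lit 4) (Steps.bwd (nat_lit 5) (Steps.fwd (nat_lit 8192) (Steps.bwd (nat_lit 5) (Steps.fwd (nat_lit 8192) (Steps.fwd (nat_lit 6144) (Steps.fwd (nat_lit 4096) (Steps.bwd (nat_lit 3) (Steps.bwd (nat_lit 4) (Steps.bwd (nat_lit 5) (Steps.bwd (nat_lit 4) (Steps.bwd (nat_lit 3) (Steps.bwd (nat_lit 2) (Steps.bwd (nat_lit 3) (Steps.bwd (nat_lit 4) (Steps.bwd (nat_lit 6) (Steps.bwd (nat_lit 6) (Steps.bwd (nat_lit 6) (Steps.bwd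 (nat_lit 4) (Steps.bwd (nat_lit 3) (Steps.fwd (nat_lit 4096) (Steps.fwd (nat_lit 6144) (Steps.fwd (nat_lit 8192) (Steps.bwd (nat_lit 6) (Steps.bwd (nat_lit 4) (Steps.bwd (nat_lit 3) (Steps.bwd (nat_lit 2) (Steps.bwd (nat_lit 3) (Steps.fwd (nat_lit 8192) (Steps.bwd (nat_lit 5) (Steps.bwd (nat_lit 5) (Steps.fwd (nat_lit 4096) (Steps.bwd (nat_lit 3) (Steps.bwd (nat_lit 4) Steps.nil)))))))))))))))))))))))))))))))))))))))))))))))))))) (nat_lit 58) (nat_lit 4),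
  Rule.mk (nat_lit 6) (nat_lit 106) (Steps.bwd (nat_lit 4) (Steps.fwd (nat_lit 12288) (Steps.fwd (nat_lit 12288) (Steps.fwd (nat_lit 12288) (Steps.fwd (nat_lit 8192) (Steps.bwd (nat_lit 6) (Steps.bwd (nat_lit 4) (Steps.bwd (nat_lit 6) Steps.nil)))))))) (nat_lit 24) (nat_lit 7),
  Rule.mk (nat_lit 0) (nat_lit 646) (Steps.fwd (nat_lit 10240) (Steps.fwd (nat_lit 8192) (Steps.fwd (nat_lit 6144) (Steps.fwd (nat_lit 4096) (Steps.fwd (nat_lit 6144) (Steps.fwd (nat_lit 8192) (Steps.fwd (nat_lit 12288) (Steps.bwd (nat_lit 3) (Steps.bwd (nat_lit 2) (Steps.fwd (nat_lit 6144) (Steps.bwd (nat_lit 4) (Steps.fwd (nat_lit 6144) (Steps.fwd (nat_lit 4096) (Steps.fwd (nat_lit 8192) (Steps.bwd (nat_lit 6) (Steps.bwd (nat_lit 4) (Steps.bwd (nat_lit 3) (Steps.bwd (nat_lit 2) (Steps.bwd (nat_lit 3) (Steps.bwd (nat_lit 4) (Steps.bwd (nat_lit 5) (Steps.bwd (nat_lit 4) (Steps.bwd (nat_lit 3) (Steps.fwd (nat_lit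 4096) (Steps.bwd (nat_lit 6) (Steps.bwd (nat_lit 6) (Steps.bwd (nat_lit 4) (Steps.bwd (nat_lit 3) (Steps.bwd (nat_lit 2) (Steps.bwd (nat_lit 3) (Steps.bwd (nat_lit 4) (Steps.bwd (nat_lit 5) (Steps.bwd (nat_lit 4) (Steps.bwd (nat_lit 3) (Steps.bwd (nat_lit 2) (Steps.bwd (nat_lit 3) (Steps.bwd (nat_lit 4) (Steps.fwd (nat_lit 12288) (Steps.fwd (nat_lit 12288) (Steps.fwd (nat_lit 12288) (Steps.bwd (nat_lit 4) (Steps.fwd (nat_lit 6144) (Steps.bwd (nat_lit 2) (Steps.bwd (nat_lit 3) (Steps.bwd (nat_lit 4) (Steps.bwd (nat_lit 6) (Steps.bwd (nat_lit 4) (Steps.bwd (nat_lit 3) (Steps.bwd (nat_lit 2) (Steps.bwd (nat_lit 3) (Steps.bwd (nat_lit 4) (Steps.fwd (nat_lit 10240) (Steps.bwd (nat_lit 4) Steps.nil))))))))))))))))))))))))))))))))))))))))))))))))))))) (nat_lit 59) (nat_lit 29),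
  Rule.mk (nat_lit 1) (nat_lit 106) (Steps.bwd (nat_lit 3) (Steps.bwd (nat_lit 2) (Steps.fwd (nat_lit 6144) (Steps.bwd (nat_lit 2) (Steps.fwd (nat_lit 6144) (Steps.fwd (nat_lit 4096) (Steps.fwd (nat_lit 6144) (Steps.bwd (nat_lit 2) Steps.nil)))))))) (nat_lit 10) (nat_lit 1),
  Rule.mk (nat_lit 1) (nat_lit 46) (Steps.bwd (nat_lit 5) (Steps.fwd (nat_lit 2048) (Steps.fwd (nat_lit 10240) Steps.nil))) (nat_lit 18) (nat_lit 2),
  Rule.mk (nat_lit 0) (nat_lit 118) (Steps.bwd (nat_lit 4) (Steps.bwd (nat_lit 5) (Steps.fwd (nat_lit 12288) (Steps.bwd (nat_lit 5) (Steps.bwd (nat_lit 4) (Steps.fwd (nat_lit 10240) (Steps.fwd (nat_lit 8192) (Steps.fwd (nat_lit 10240) (Steps.fwd (nat_lit 10240) Steps.nil))))))))) (nat_lit 24) (nat_lit 7),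
  Rule.mk (nat_lit 0) (nat_lit 118) (Steps.bwd (nat_lit 2) (Steps.fwd (nat_lit 6144) (Steps.fwd (nat_lit 4096) (Steps.fwd (nat_lit 6144) (Steps.fwd (nat_lit 4096) (Steps.fwd (nat_lit 6144) (Steps.fwd (nat_lit 2048) (Steps.fwd (nat_lit 4096) (Steps.fwd (nat_lit 6144) Steps.nil))))))))) (nat_lit 11) (nat_lit 2),
  Rule.mk (nat_lit 1) (nat_lit 106) (Steps.bwd (nat_lit 2) (Steps.bwd (nat_lit 3) (Steps.bwd (nat_lit 2) (Steps.bwd (nat_lit 3) (Steps.bwd (nat_lit 2) (Steps.bwd (nat_lit 3) (Steps.bwd (nat_lit 2) (Steps.bwd (nat_lit 3) Steps.nil)))))))) (nat_lit 11) (nat_lit 0),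
  Rule.mk (nat_lit 2) (nat_lit 46) (Steps.fwd (nat_lit 14336) (Steps.fwd (nat_lit 4096) (Steps.bwd (nat_lit 7) Steps.nil))) (nat_lit 30) (nat_lit 0),
  Rule.mk (nat_lit 4) (nat_lit 46) (Steps.fwd (nat_lit 14336) (Steps.fwd (nat_lit 8192) (Steps.bwd (nat_lit 7) Steps.nil))) (nat_lit 34) (nat_lit 0),
  Rule.mk (nat_lit 2) (nat_lit 634) (Steps.bwd (nat_lit 3) (Steps.bwd (nat_lit 4) (Steps.bwd (nat_lit 5) (Steps.fwd (nat_lit 8192) (Steps.fwd (nat_lit 12288) (Steps.fwd (nat_lit 8192) (Steps.fwd (nat_lit 6144) (Steps.fwd (nat_lit 4096) (Steps.bwd (nat_lit 3) (Steps.fwd (nat_lit 8192) (Steps.fwd (nat_lit 12288) (Steps.bwd (nat_lit 4) (Steps.bwd (nat_lit 3) (Steps.bwd (nat_lit 2) (Steps.fwd (nat_lit 6144) (Steps.bwd (nat_lit 4) (Steps.bwd (nat_lit 6) (Steps.fwd (nat_lit 10240) (Steps.fwd (nat_lit 10240) (Steps.fwd (nat_lit 8192) (Steps.fwd (nat_lit 6144) (Steps.fwd (nat_lit 4096) (Steps.bwd (nat_lit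 3) (Steps.fwd (nat_lit 8192) (Steps.bwd (nat_lit 6) (Steps.bwd (nat_lit 4) (Steps.bwd (nat_lit 3) (Steps.bwd (nat_lit 2) (Steps.bwd (nat_lit 3) (Steps.bwd (nat_lit 4) (Steps.bwd (nat_lit 5) (Steps.bwd (nat_lit 5) (Steps.bwd (nat_lit 2) (Steps.fwd (nat_lit 6144) (Steps.fwd (nat_lit 8192) (Steps.bwd (nat_lit 6) (Steps.bwd (nat_lit 4) (Steps.fwd (nat_lit 6144) (Steps.fwd (nat_lit 4096) (Steps.fwd (nat_lit 6144) (Steps.fwd (nat_lit 8192) (Steps.fwd (nat_lit 12288) (Steps.fwd (nat_lit 8192) (Steps.bwd (nat_lit 2) (Steps.bwd (nat_lit 3) (Steps.bwd (nat_lit 4) (Steps.bwd (nat_lit 3) (Steps.fwd (nat_lit 4096) (Steps.fwd (nat_lit 6144) (Steps.bwd (nat_lit 6) (Steps.fwd (nat_lit 8192) (Steps.bwd (nat_lit 3) Steps.nil)))))))))))))))))))))))))))))))))))))))))))))))))))) (nat_lit 58) (nat_lit 21),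
  Rule.mk (nat_lit 5) (nat_lit 58) (Steps.bwd (nat_lit 7) (Steps.fwd (nat_lit 10240) (Steps.fwd (nat_lit 10240) (Steps.bwd (nat_lit 8) Steps.nil)))) (nat_lit 36) (nat_lit 2),
  Rule.mk (nat_lit 5) (nat_lit 58) (Steps.bwd (nat_lit 8) (Steps.bwd (nat_lit 6) (Steps.bwd (nat_lit 7) (Steps.bwd (nat_lit 5) Steps.nil)))) (nat_lit 37) (nat_lit 2),
  Rule.mk (nat_lit 6) (nat_lit 106) (Steps.bwd (nat_lit 6) (Steps.fwd (nat_lit 8192) (Steps.bwd (nat_lit 5) (Steps.fwd (nat_lit 12288) (Steps.bwd (nat_lit 5) (Steps.fwd (nat_lit 8192) (Steps.fwd (nat_lit 10240) (Steps.fwd (nat_lit 8192) Steps.nil)))))))) (nat_lit 24) (nat_lit 6),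
  Rule.mk (nat_lit 3) (nat_lit 46) (Steps.bwd (nat_lit 7) (Steps.bwd (nat_lit 3) (Steps.fwd (nat_lit 14336) Steps.nil))) (nat_lit 32) (nat_lit 2),
  Rule.mk (nat_lit 4) (nat_lit 70) (Steps.fwd (nat_lit 6144) (Steps.fwd (nat_lit 8192) (Steps.fwd (nat_lit 6144) (Steps.bwd (nat_lit 4) (Steps.bwd (nat_lit 3) Steps.nil))))) (nat_lit 14) (nat_lit 0),
  Rule.mk (nat_lit 5) (nat_lit 634) (Steps.bwd (nat_lit 4) (Steps.bwd (nat_lit 3) (Steps.bwd (nat_lit 2) (Steps.bwd (nat_lit 3) (Steps.bwd (nat_lit 4) (Steps.bwd (nat_lit 5) (Steps.bwd (nat_lit 4) (Steps.bwd (nat_lit 3) (Steps.bwd (nat_lit 2) (Steps.bwd (nat_lit 3) (Steps.bwd (nat_lit 4) (Steps.bwd (nat_lit 6) (Steps.bwd (nat_lit 6) (Steps.bwd (nat_lit 6) (Steps.bwd (nat_lit 4) (Steps.bwd (nat_lit 3) (Steps.bwd (nat_lit 2) (Steps.bwd (nat_lit 3) (Steps.fwd (nat_lit 8192) (Steps.bwd (nat_lit 6) (Steps.bwd (nat_lit 4) (Steps.bwd (nat_lit 3) (Steps.fwd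 (nat_lit 4096) (Steps.bwd (nat_lit 3) (Steps.bwd (nat_lit 4) (Steps.fwd (nat_lit 12288) (Steps.bwd (nat_lit 5) (Steps.bwd (nat_lit 2) (Steps.fwd (nat_lit 6144) (Steps.fwd (nat_lit 8192) (Steps.fwd (nat_lit 10240) (Steps.bwd (nat_lit 4) (Steps.fwd (nat_lit 6144) (Steps.bwd (nat_lit 2) (Steps.fwd (nat_lit 6144) (Steps.fwd (nat_lit 8192) (Steps.fwd (nat_lit 12288) (Steps.fwd (nat_lit 8192) (Steps.fwd (nat_lit 4096) (Steps.bwd (nat_lit 3) (Steps.fwd (nat_lit 8192) (Steps.fwd (nat_lit 6144) (Steps.fwd (nat_lit 4096) (Steps.fwd (nat_lit 6144) (Steps.bwd (nat_lit 6) (Steps.bwd (nat_lit 4) (Steps.bwd (nat_lit 3) (Steps.bwd (nat_lit 2) (Steps.fwd (nat_lit 6144) (Steps.bwd (nat_lit 4) (Steps.bwd (nat_lit 5) (Steps.fwd (nat_lit 8192) Steps.nil)))))))))))))))))))))))))))))))))))))))))))))))))))) (nat_lit 58) (nat_lit 26),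
  Rule.mk (nat_lit 7) (nat_lit 58) (Steps.fwd (nat_lit 10240) (Steps.fwd (nat_lit 10240) (Steps.fwd (nat_lit 14336) (Steps.bwd (nat_lit 5) Steps.nil)))) (nat_lit 36) (nat_lit 3),
  Rule.mk (nat_lit 0) (nat_lit 118) (Steps.fwd (nat_lit 10240) (Steps.fwd (nat_lit 10240) (Steps.fwd (nat_lit 10240) (Steps.fwd (nat_lit 8192) (Steps.bwd (nat_lit 5) (Steps.bwd (nat_lit 5) (Steps.fwd (nat_lit 8192) (Steps.bwd (nat_lit 5) (Steps.bwd (nat_lit 4) Steps.nil))))))))) (nat_lit 25) (nat_lit 0),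
  Rule.mk (nat_lit 0) (nat_lit 46) (Steps.fwd (nat_lit 6144) (Steps.bwd (nat_lit 0) (Steps.bwd (nat_lit 3) Steps.nil))) (nat_lit 60) (nat_lit 0),
  Rule.mk (nat_lit 7) (nat_lit 58) (Steps.bwd (nat_lit 6) (Steps.fwd (nat_lit 10240) (Steps.fwd (nat_lit 14336) (Steps.fwd (nat_lit 12288) Steps.nil)))) (nat_lit 36) (nat_lit 3),
  Rule.mk (nat_lit 0) (nat_lit 118) (Steps.fwd (nat_lit 8192) (Steps.bwd (nat_lit 6) (Steps.fwd (nat_lit 8192) (Steps.bwd (nat_lit 6) (Steps.fwd (nat_lit 10240) (Steps.bwd (nat_lit 4) (Steps.bwd (nat_lit 5) (Steps.bwd (nat_lit 5) (Steps.fwd (nat_lit 12288) Steps.nil))))))))) (nat_lit 24) (nat_lit 0),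
  Rule.mk (nat_lit 0) (nat_lit 58) (Steps.fwd (nat_lit 8192) (Steps.bwd (nat_lit 7) (Steps.fwd (nat_lit 8192) (Steps.bwd (nat_lit 8) Steps.nil)))) (nat_lit 34) (nat_lit 1),
  Rule.mk (nat_lit 5) (nat_lit 82) (Steps.fwd (nat_lit 12288) (Steps.fwd (nat_lit 12288) (Steps.bwd (nat_lit 5) (Steps.fwd (nat_lit 12288) (Steps.bwd (nat_lit 5) (Steps.bwd (nat_lit 5) Steps.nil)))))) (nat_lit 16) (nat_lit 0),
  Rule.mk (nat_lit 0) (nat_lit 118) (Steps.fwd (nat_lit 12288) (Steps.bwd (nat_lit 5) (Steps.fwd (nat_lit 12288) (Steps.fwd (nat_lit 8192) (Steps.fwd (nat_lit 10240) (Steps.bwd (nat_lit 4) (Steps.fwd (nat_lit 10240) (Steps.fwd (nat_lit 10240) (Steps.fwd (nat_lit 8192) Steps.nil))))))))) (nat_lit 24) (nat_lit 8),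
  Rule.mk (nat_lit 3) (nat_lit 46) (Steps.bwd (nat_lit 6) (Steps.fwd (nat_lit 6144) (Steps.fwd (nat_lit 10240) Steps.nil))) (nat_lit 23) (nat_lit 1),
  Rule.mk (nat_lit 2) (nat_lit 106) (Steps.bwd (nat_lit 3) (Steps.fwd (nat_lit 2048) (Steps.bwd (nat_lit 2) (Steps.fwd (nat_lit 6144) (Steps.fwd (nat_lit 4096) (Steps.fwd (nat_lit 6144) (Steps.fwd (nat_lit 4096) (Steps.fwd (nat_lit 6144) Steps.nil)))))))) (nat_lit 11) (nat_lit 7),
  Rule.mk (nat_lit 1) (nat_lit 106) (Steps.bwd (nat_lit 3) (Steps.bwd (nat_lit 2) (Steps.fwd (nat_lit 6144) (Steps.fwd (nat_lit 4096) (Steps.fwd (nat_lit 6144) (Steps.fwd (nat_lit 4096) (Steps.fwd (nat_lit 6144) (Steps.bwd (nat_lit 2) Steps.nil)))))))) (nat_lit 10) (nat_lit 1),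
  Rule.mk (nat_lit 2) (nat_lit 106) (Steps.bwd (nat_lit 3) (Steps.bwd (nat_lit 2) (Steps.bwd (nat_lit 3) (Steps.bwd (nat_lit 2) (Steps.fwd (nat_lit 6144) (Steps.bwd (nat_lit 2) (Steps.fwd (nat_lit 2048) (Steps.fwd (nat_lit 6144) Steps.nil)))))))) (nat_lit 10) (nat_lit 3),
  Rule.mk (nat_lit 1) (nat_lit 106) (Steps.bwd (nat_lit 2) (Steps.bwd (nat_lit 3) (Steps.fwd (nat_lit 4096) (Steps.fwd (nat_lit 6144) (Steps.bwd (nat_lit 2) (Steps.fwd (nat_lit 6144) (Steps.bwd (nat_lit 2) (Steps.bwd (nat_lit 3) Steps.nil)))))))) (nat_lit 11) (nat_lit 0),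
  Rule.mk (nat_lit 6) (nat_lit 106) (Steps.bwd (nat_lit 4) (Steps.bwd (nat_lit 5) (Steps.bwd (nat_lit 5) (Steps.bwd (nat_lit 5) (Steps.fwd (nat_lit 8192) (Steps.bwd (nat_lit 6) (Steps.fwd (nat_lit 8192) (Steps.bwd (nat_lit 6) Steps.nil)))))))) (nat_lit 24) (nat_lit 7),
  Rule.mk (nat_lit 4) (nat_lit 106) (Steps.bwd (nat_lit 6) (Steps.fwd (nat_lit 10240) (Steps.bwd (nat_lit 4) (Steps.bwd (nat_lit 5) (Steps.bwd (nat_lit 5) (Steps.fwd (nat_lit 12288) (Steps.fwd (nat_lit 8192) (Steps.bwd (nat_lit 6) Steps.nil)))))))) (nat_lit 24) (nat_lit 3),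
  Rule.mk (nat_lit 5) (nat_lit 106) (Steps.fwd (nat_lit 8192) (Steps.fwd (nat_lit 10240) (Steps.fwd (nat_lit 10240) (Steps.bwd (nat_lit 6) (Steps.fwd (nat_lit 8192) (Steps.fwd (nat_lit 12288) (Steps.fwd (nat_lit 12288) (Steps.bwd (nat_lit 4) Steps.nil)))))))) (nat_lit 25) (nat_lit 10),
  Rule.mk (nat_lit 3) (nat_lit 634) (Steps.bwd (nat_lit 2) (Steps.fwd (nat_lit 8192) (Steps.bwd (nat_lit 6) (Steps.bwd (nat_lit 4) (Steps.fwd (nat_lit 6144) (Steps.bwd (nat_lit 2) (Steps.fwd (nat_lit 6144) (Steps.fwd (nat_lit 8192) (Steps.fwd (nat_lit 12288) (Steps.fwd (nat_lit 8192) (Steps.fwd (nat_lit 6144) (Steps.fwd (nat_lit 4096) (Steps.bwd (nat_lit 6) (Steps.fwd (nat_lit 10240) (Steps.bwd (nat_lit 4) (Steps.bwd (nat_lit 3) (Steps.bwd (nat_lit 2) (Steps.fwd (nat_lit 6144) (Steps.bwd (nat_lit 4) (Steps.bwd (nat_lit 5) (Steps.bwd (nat_lit 4) (Steps.fwd (nat_lit 6144) (Steps.fwd (nat_lit 4096) (Steps.bwd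 (nat_lit 3) (Steps.fwd (nat_lit 8192) (Steps.bwd (nat_lit 5) (Steps.bwd (nat_lit 5) (Steps.fwd (nat_lit 12288) (Steps.fwd (nat_lit 8192) (Steps.bwd (nat_lit 3) (Steps.bwd (nat_lit 2) (Steps.bwd (nat_lit 3) (Steps.bwd (nat_lit 4) (Steps.fwd (nat_lit 10240) (Steps.fwd (nat_lit 8192) (Steps.fwd (nat_lit 6144) (Steps.bwd (nat_lit 2) (Steps.bwd (nat_lit 3) (Steps.fwd (nat_lit 8192) (Steps.fwd (nat_lit 10240) (Steps.fwd (nat_lit 8192) (Steps.bwd (nat_lit 6) (Steps.bwd (nat_lit 4) (Steps.bwd (nat_lit 3) (Steps.bwd (nat_lit 2) (Steps.bwd (nat_lit 3) (Steps.bwd (nat_lit 4) (Steps.bwd (nat_lit 5) (Steps.bwd (nat_lit 3) (Steps.fwd (nat_lit 4096) (Steps.fwd (nat_lit 6144) (Steps.bwd (nat_lit 4) Steps.nil)))))))))))))))))))))))))))))))))))))))))))))))))))) (nat_lit 59) (nat_lit 41),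
  Rule.mk (nat_lit 2) (nat_lit 106) (Steps.bwd (nat_lit 3) (Steps.bwd (nat_lit 2) (Steps.fwd (nat_lit 2048) (Steps.bwd (nat_lit 3) (Steps.bwd (nat_lit 2) (Steps.bwd (nat_lit 3) (Steps.fwd (nat_lit 4096) (Steps.fwd (nat_lit 6144) Steps.nil)))))))) (nat_lit 10) (nat_lit 7),
  Rule.mk (nat_lit 4) (nat_lit 46) (Steps.bwd (nat_lit 1) (Steps.fwd (nat_lit 8192) (Steps.bwd (nat_lit 1) Steps.nil))) (nat_lit 8) (nat_lit 0),
  Rule.mk (nat_lit 6) (nat_lit 46) (Steps.fwd (nat_lit 2048) (Steps.fwd (nat_lit 12288) (Steps.bwd (nat_lit 1) Steps.nil))) (nat_lit 18) (nat_lit 1),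
  Rule.mk (nat_lit 3) (nat_lit 46) (Steps.bwd (nat_lit 8) (Steps.fwd (nat_lit 6144) (Steps.fwd (nat_lit 16384) Steps.nil))) (nat_lit 32) (nat_lit 0)]
noncomputable def R_9 : List (Rule) := [Rule.mk (nat_lit 4) (nat_lit 634) (Steps.bwd (nat_lit 3) (Steps.bwd (nat_lit 2) (Steps.fwd (nat_lit 6144) (Steps.bwd (nat_lit 6) (Steps.fwd (nat_lit 8192) (Steps.bwd (nat_lit 3) (Steps.bwd (nat_lit 2) (Steps.bwd (nat_lit 3) (Steps.bwd (nat_lit 4) (Steps.bwd (nat_lit 5) (Steps.fwd (nat_lit 8192) (Steps.fwd (nat_lit 12288) (Steps.fwd (nat_lit 8192) (Steps.bwd (nat_lit 3) (Steps.fwd (nat_lit 4096) (Steps.fwd (nat_lit 6144) (Steps.fwd (nat_lit 8192) (Steps.fwd (nat_lit 12288) (Steps.fwd (nat_lit 8192) (Steps.bwd (nat_lit 3) (Steps.bwd (nat_lit 2) (Steps.fwd (nat_lit 6144) (Steps.bwd (nat_lit 4) (Steps.fwd (nat_lit 10240) (Steps.bwd (nat_lit 6) (Steps.fwd (nat_lit 10240) (Steps.fwd (nat_lit 8192) (Steps.fwd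 (nat_lit 6144) (Steps.fwd (nat_lit 4096) (Steps.fwd (nat_lit 6144) (Steps.fwd (nat_lit 8192) (Steps.bwd (nat_lit 6) (Steps.bwd (nat_lit 4) (Steps.fwd (nat_lit 6144) (Steps.bwd (nat_lit 2) (Steps.bwd (nat_lit 3) (Steps.bwd (nat_lit 4) (Steps.fwd (nat_lit 12288) (Steps.fwd (nat_lit 12288) (Steps.fwd (nat_lit 4096) (Steps.fwd (nat_lit 6144) (Steps.fwd (nat_lit 8192) (Steps.bwd (nat_lit 6) (Steps.bwd (nat_lit 4) (Steps.fwd (nat_lit 6144) (Steps.bwd (nat_lit 2) (Steps.bwd (nat_lit 3) (Steps.bwd (nat_lit 4) (Steps.fwd (nat_lit 12288) (Steps.bwd (nat_lit 4) (Steps.fwd (nat_lit 4096) (Steps.bwd (nat_lit 3) Steps.nil)))))))))))))))))))))))))))))))))))))))))))))))))))) (nat_lit 58) (nat_lit 14),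
  Rule.mk (nat_lit 6) (nat_lit 106) (Steps.bwd (nat_lit 6) (Steps.fwd (nat_lit 8192) (Steps.bwd (nat_lit 5) (Steps.fwd (nat_lit 12288) (Steps.bwd (nat_lit 5) (Steps.bwd (nat_lit 4) (Steps.fwd (nat_lit 10240) (Steps.bwd (nat_lit 4) Steps.nil)))))))) (nat_lit 24) (nat_lit 6),
  Rule.mk (nat_lit 8) (nat_lit 46) (Steps.fwd (nat_lit 2048) (Steps.fwd (nat_lit 16384) (Steps.bwd (nat_lit 1) Steps.nil))) (nat_lit 28) (nat_lit 1),
  Rule.mk (nat_lit 3) (nat_lit 106) (Steps.bwd (nat_lit 2) (Steps.bwd (nat_lit 3) (Steps.bwd (nat_lit 2) (Steps.bwd (nat_lit 3) (Steps.bwd (nat_lit 2) (Steps.bwd (nat_lit 1) (Steps.fwd (nat_lit 6144) (Steps.fwd (nat_lit 4096) Steps.nil)))))))) (nat_lit 10) (nat_lit 4),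
  Rule.mk (nat_lit 5) (nat_lit 58) (Steps.bwd (nat_lit 8) (Steps.fwd (nat_lit 10240) (Steps.fwd (nat_lit 16384) (Steps.bwd (nat_lit 5) Steps.nil)))) (nat_lit 37) (nat_lit 2),
  Rule.mk (nat_lit 4) (nat_lit 634) (Steps.bwd (nat_lit 3) (Steps.fwd (nat_lit 4096) (Steps.bwd (nat_lit 3) (Steps.fwd (nat_lit 8192) (Steps.fwd (nat_lit 12288) (Steps.bwd (nat_lit 4) (Steps.fwd (nat_lit 6144) (Steps.fwd (nat_lit 4096) (Steps.fwd (nat_lit 6144) (Steps.fwd (nat_lit 8192) (Steps.bwd (nat_lit 6) (Steps.bwd (nat_lit 6) (Steps.fwd (nat_lit 10240) (Steps.fwd (nat_lit 8192) (Steps.fwd (nat_lit 6144) (Steps.fwd (nat_lit 4096) (Steps.fwd (nat_lit 6144) (Steps.fwd (nat_lit 8192) (Steps.bwd (nat_lit 6) (Steps.bwd (nat_lit 4) (Steps.bwd (nat_lit 3) (Steps.bwd (nat_lit 2) (Steps.bwd (nat_lit 3) (Steps.bwd (nat_lit 4) (Steps.bwd (nat_lit 5) (Steps.fwd (nat_lit 12288) (Steps.fwd (nat_lit 4096) (Steps.fwd (nat_lit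 6144) (Steps.fwd (nat_lit 8192) (Steps.fwd (nat_lit 10240) (Steps.bwd (nat_lit 4) (Steps.bwd (nat_lit 3) (Steps.fwd (nat_lit 4096) (Steps.bwd (nat_lit 3) (Steps.fwd (nat_lit 8192) (Steps.fwd (nat_lit 12288) (Steps.fwd (nat_lit 8192) (Steps.bwd (nat_lit 2) (Steps.bwd (nat_lit 3) (Steps.fwd (nat_lit 8192) (Steps.fwd (nat_lit 6144) (Steps.bwd (nat_lit 2) (Steps.fwd (nat_lit 6144) (Steps.bwd (nat_lit 6) (Steps.fwd (nat_lit 8192) (Steps.bwd (nat_lit 3) (Steps.fwd (nat_lit 4096) (Steps.fwd (nat_lit 6144) (Steps.fwd (nat_lit 8192) (Steps.fwd (nat_lit 12288) (Steps.fwd (nat_lit 8192) (Steps.bwd (nat_lit 5) Steps.nil)))))))))))))))))))))))))))))))))))))))))))))))))))) (nat_lit 58) (nat_lit 27),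
  Rule.mk (nat_lit 5) (nat_lit 82) (Steps.bwd (nat_lit 5) (Steps.bwd (nat_lit 5) (Steps.fwd (nat_lit 12288) (Steps.fwd (nat_lit 12288) (Steps.bwd (nat_lit 5) (Steps.fwd (nat_lit 12288) Steps.nil)))))) (nat_lit 16) (nat_lit 0),
  Rule.mk (nat_lit 8) (nat_lit 58) (Steps.fwd (nat_lit 10240) (Steps.bwd (nat_lit 7) (Steps.fwd (nat_lit 12288) (Steps.bwd (nat_lit 5) Steps.nil)))) (nat_lit 37) (nat_lit 3),
  Rule.mk (nat_lit 4) (nat_lit 106) (Steps.fwd (nat_lit 10240) (Steps.bwd (nat_lit 4) (Steps.bwd (nat_lit 6) (Steps.bwd (nat_lit 6) (Steps.bwd (nat_lit 4) (Steps.bwd (nat_lit 5) (Steps.fwd (nat_lit 12288) (Steps.bwd (nat_lit 5) Steps.nil)))))))) (nat_lit 24) (nat_lit 1),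
  Rule.mk (nat_lit 3) (nat_lit 106) (Steps.fwd (nat_lit 4096) (Steps.bwd (nat_lit 3) (Steps.bwd (nat_lit 2) (Steps.bwd (nat_lit 3) (Steps.fwd (nat_lit 4096) (Steps.fwd (nat_lit 6144) (Steps.bwd (nat_lit 2) (Steps.bwd (nat_lit 1) Steps.nil)))))))) (nat_lit 10) (nat_lit 2),
  Rule.mk (nat_lit 2) (nat_lit 106) (Steps.fwd (nat_lit 6144) (Steps.fwd (nat_lit 4096) (Steps.fwd (nat_lit 6144) (Steps.bwd (nat_lit 2) (Steps.bwd (nat_lit 3) (Steps.bwd (nat_lit 2) (Steps.bwd (nat_lit 3) (Steps.bwd (nat_lit 1) Steps.nil)))))))) (nat_lit 11) (nat_lit 1),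
  Rule.mk (nat_lit 7) (nat_lit 58) (Steps.bwd (nat_lit 6) (Steps.bwd (nat_lit 6) (Steps.fwd (nat_lit 14336) (Steps.fwd (nat_lit 12288) Steps.nil)))) (nat_lit 36) (nat_lit 3),
  Rule.mk (nat_lit 5) (nat_lit 58) (Steps.fwd (nat_lit 12288) (Steps.bwd (nat_lit 8) (Steps.bwd (nat_lit 6) (Steps.bwd (nat_lit 7) Steps.nil)))) (nat_lit 37) (nat_lit 1),
  Rule.mk (nat_lit 6) (nat_lit 634) (Steps.bwd (nat_lit 6) (Steps.bwd (nat_lit 6) (Steps.bwd (nat_lit 4) (Steps.bwd (nat_lit 3) (Steps.bwd (nat_lit 2) (Steps.bwd (nat_lit 3) (Steps.bwd (nat_lit 4) (Steps.bwd (nat_lit 6) (Steps.bwd (nat_lit 4) (Steps.bwd (nat_lit 3) (Steps.bwd (nat_lit 2) (Steps.bwd (nat_lit 3) (Steps.bwd (nat_lit 4) (Steps.fwd (nat_lit 12288) (Steps.fwd (nat_lit 12288) (Steps.fwd (nat_lit 4096) (Steps.bwd (nat_lit 3) (Steps.fwd (nat_lit 8192) (Steps.fwd (nat_lit 10240) (Steps.fwd (nat_lit 8192) (Steps.fwd (nat_lit 6144) (Steps.bwd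 (nat_lit 2) (Steps.bwd (nat_lit 3) (Steps.bwd (nat_lit 4) (Steps.bwd (nat_lit 5) (Steps.bwd (nat_lit 4) (Steps.bwd (nat_lit 2) (Steps.bwd (nat_lit 3) (Steps.bwd (nat_lit 4) (Steps.bwd (nat_lit 3) (Steps.bwd (nat_lit 2) (Steps.bwd (nat_lit 3) (Steps.bwd (nat_lit 6) (Steps.fwd (nat_lit 8192) (Steps.fwd (nat_lit 6144) (Steps.fwd (nat_lit 4096) (Steps.fwd (nat_lit 6144) (Steps.fwd (nat_lit 8192) (Steps.fwd (nat_lit 12288) (Steps.fwd (nat_lit 8192) (Steps.fwd (nat_lit 12288) (Steps.fwd (nat_lit 8192) (Steps.bwd (nat_lit 3) (Steps.bwd (nat_lit 2) (Steps.fwd (nat_lit 6144) (Steps.bwd (nat_lit 4) (Steps.bwd (nat_lit 5) (Steps.fwd (nat_lit 8192) (Steps.bwd (nat_lit 3) (Steps.bwd (nat_lit 2) (Steps.bwd (nat_lit 3) (Steps.bwd (nat_lit 4) Steps.nil)))))))))))))))))))))))))))))))))))))))))))))))))))) (nat_lit 58) (nat_lit 38),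
  Rule.mk (nat_lit 0) (nat_lit 70) (Steps.fwd (nat_lit 12288) (Steps.fwd (nat_lit 12288) (Steps.bwd (nat_lit 8) (Steps.fwd (nat_lit 10240) (Steps.bwd (nat_lit 7) Steps.nil))))) (nat_lit 37) (nat_lit 0),
  Rule.mk (nat_lit 4) (nat_lit 106) (Steps.fwd (nat_lit 12288) (Steps.bwd (nat_lit 5) (Steps.fwd (nat_lit 12288) (Steps.fwd (nat_lit 8192) (Steps.bwd (nat_lit 6) (Steps.fwd (nat_lit 8192) (Steps.bwd (nat_lit 6) (Steps.bwd (nat_lit 6) Steps.nil)))))))) (nat_lit 24) (nat_lit 8),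
  Rule.mk (nat_lit 5) (nat_lit 634) (Steps.bwd (nat_lit 4) (Steps.fwd (nat_lit 4096) (Steps.bwd (nat_lit 3) (Steps.bwd (nat_lit 4) (Steps.bwd (nat_lit 3) (Steps.fwd (nat_lit 4096) (Steps.fwd (nat_lit 6144) (Steps.fwd (nat_lit 10240) (Steps.fwd (nat_lit 8192) (Steps.bwd (nat_lit 3) (Steps.bwd (nat_lit 2) (Steps.fwd (nat_lit 6144) (Steps.bwd (nat_lit 4) (Steps.fwd (nat_lit 12288) (Steps.fwd (nat_lit 8192) (Steps.fwd (nat_lit 12288) (Steps.fwd (nat_lit 8192) (Steps.bwd (nat_lit 3) (Steps.bwd (nat_lit 2) (Steps.bwd (nat_lit 3) (Steps.bwd (nat_lit 4) (Steps.bwd (nat_lit 5) (Steps.fwd (nat_lit 8192) (Steps.fwd (nat_lit 6144) (Steps.fwd (nat_lit 4096) (Steps.fwd (nat_lit 6144) (Steps.bwd (nat_lit 4) (Steps.bwd (nat_lit 6) (Steps.bwd (nat_lit 6) (Steps.fwd (nat_lit 10240) (Steps.bwd (nat_lit 4) (Steps.bwd (nat_lit 3) (Steps.bwd (nat_lit 2) (Steps.fwd (nat_lit 6144) (Steps.fwd (nat_lit 8192) (Steps.bwd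 (nat_lit 6) (Steps.fwd (nat_lit 8192) (Steps.fwd (nat_lit 6144) (Steps.fwd (nat_lit 4096) (Steps.bwd (nat_lit 3) (Steps.bwd (nat_lit 4) (Steps.fwd (nat_lit 12288) (Steps.bwd (nat_lit 5) (Steps.fwd (nat_lit 4096) (Steps.fwd (nat_lit 6144) (Steps.fwd (nat_lit 8192) (Steps.bwd (nat_lit 6) (Steps.fwd (nat_lit 8192) (Steps.bwd (nat_lit 3) (Steps.fwd (nat_lit 4096) (Steps.fwd (nat_lit 6144) (Steps.bwd (nat_lit 4) Steps.nil)))))))))))))))))))))))))))))))))))))))))))))))))))) (nat_lit 58) (nat_lit 10),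
  Rule.mk (nat_lit 3) (nat_lit 634) (Steps.bwd (nat_lit 2) (Steps.bwd (nat_lit 3) (Steps.fwd (nat_lit 8192) (Steps.bwd (nat_lit 5) (Steps.bwd (nat_lit 4) (Steps.bwd (nat_lit 2) (Steps.bwd (nat_lit 3) (Steps.fwd (nat_lit 8192) (Steps.bwd (nat_lit 3) (Steps.fwd (nat_lit 4096) (Steps.fwd (nat_lit 6144) (Steps.fwd (nat_lit 10240) (Steps.fwd (nat_lit 8192) (Steps.bwd (nat_lit 3) (Steps.bwd (nat_lit 2) (Steps.bwd (nat_lit 3) (Steps.bwd (nat_lit 4) (Steps.fwd (nat_lit 12288) (Steps.bwd (nat_lit 4) (Steps.bwd (nat_lit 5) (Steps.fwd (nat_lit 8192) (Steps.fwd (nat_lit 6144) (Steps.fwd (nat_lit 4096) (Steps.bwd (nat_lit 3) (Steps.bwd (nat_lit 4) (Steps.fwd (nat_lit 12288) (Steps.fwd (nat_lit 8192) (Steps.bwd (nat_lit 3) (Steps.bwd (nat_lit 2) (Steps.bwd (nat_lit 3) (Steps.bwd (nat_lit 4) (Steps.bwd (nat_lit 6) (Steps.bwd (nat_lit 6) (Steps.fwd (nat_lit 10240) (Steps.fwd (nat_lit 8192) (Steps.fwd (nat_lit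 6144) (Steps.bwd (nat_lit 2) (Steps.bwd (nat_lit 3) (Steps.bwd (nat_lit 4) (Steps.fwd (nat_lit 10240) (Steps.bwd (nat_lit 4) (Steps.bwd (nat_lit 3) (Steps.fwd (nat_lit 4096) (Steps.fwd (nat_lit 6144) (Steps.fwd (nat_lit 8192) (Steps.bwd (nat_lit 5) (Steps.fwd (nat_lit 12288) (Steps.bwd (nat_lit 2) (Steps.bwd (nat_lit 3) (Steps.fwd (nat_lit 8192) (Steps.fwd (nat_lit 10240) (Steps.fwd (nat_lit 8192) Steps.nil)))))))))))))))))))))))))))))))))))))))))))))))))))) (nat_lit 58) (nat_lit 6),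
  Rule.mk (nat_lit 4) (nat_lit 70) (Steps.fwd (nat_lit 6144) (Steps.fwd (nat_lit 8192) (Steps.fwd (nat_lit 6144) (Steps.fwd (nat_lit 8192) (Steps.bwd (nat_lit 3) Steps.nil))))) (nat_lit 14) (nat_lit 0),
  Rule.mk (nat_lit 5) (nat_lit 634) (Steps.bwd (nat_lit 4) (Steps.bwd (nat_lit 3) (Steps.bwd (nat_lit 2) (Steps.bwd (nat_lit 3) (Steps.bwd (nat_lit 4) (Steps.bwd (nat_lit 5) (Steps.bwd (nat_lit 4) (Steps.bwd (nat_lit 3) (Steps.bwd (nat_lit 2) (Steps.bwd (nat_lit 3) (Steps.bwd (nat_lit 4) (Steps.bwd (nat_lit 6) (Steps.bwd (nat_lit 6) (Steps.bwd (nat_lit 6) (Steps.bwd (nat_lit 4) (Steps.bwd (nat_lit 3) (Steps.bwd (nat_lit 2) (Steps.bwd (nat_lit 3) (Steps.bwd (nat_lit 4) (Steps.bwd (nat_lit 6) (Steps.bwd (nat_lit 4) (Steps.bwd (nat_lit 3) (Steps.bwd (nat_lit 2) (Steps.bwd (nat_lit 3) (Steps.fwd (nat_lit 8192) (Steps.fwd (nat_lit 12288) (Steps.bwd (nat_lit 5) (Steps.bwd (nat_lit 2) (Steps.bwd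 (nat_lit 3) (Steps.bwd (nat_lit 4) (Steps.fwd (nat_lit 10240) (Steps.bwd (nat_lit 4) (Steps.bwd (nat_lit 3) (Steps.fwd (nat_lit 4096) (Steps.fwd (nat_lit 6144) (Steps.fwd (nat_lit 8192) (Steps.bwd (nat_lit 5) (Steps.fwd (nat_lit 8192) (Steps.fwd (nat_lit 4096) (Steps.fwd (nat_lit 6144) (Steps.fwd (nat_lit 8192) (Steps.bwd (nat_lit 3) (Steps.bwd (nat_lit 2) (Steps.bwd (nat_lit 3) (Steps.bwd (nat_lit 6) (Steps.fwd (nat_lit 8192) (Steps.bwd (nat_lit 3) (Steps.bwd (nat_lit 2) (Steps.bwd (nat_lit 3) (Steps.bwd (nat_lit 4) (Steps.fwd (nat_lit 12288) (Steps.fwd (nat_lit 8192) Steps.nil)))))))))))))))))))))))))))))))))))))))))))))))))))) (nat_lit 58) (nat_lit 26),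
  Rule.mk (nat_lit 0) (nat_lit 118) (Steps.fwd (nat_lit 8192) (Steps.fwd (nat_lit 10240) (Steps.fwd (nat_lit 10240) (Steps.fwd (nat_lit 10240) (Steps.fwd (nat_lit 8192) (Steps.fwd (nat_lit 12288) (Steps.bwd (nat_lit 5) (Steps.fwd (nat_lit 8192) (Steps.fwd (nat_lit 12288) Steps.nil))))))))) (nat_lit 25) (nat_lit 10),
  Rule.mk (nat_lit 0) (nat_lit 118) (Steps.fwd (nat_lit 8192) (Steps.fwd (nat_lit 10240) (Steps.bwd (nat_lit 4) (Steps.fwd (nat_lit 10240) (Steps.fwd (nat_lit 10240) (Steps.bwd (nat_lit 4) (Steps.fwd (nat_lit 12288) (Steps.fwd (nat_lit 12288) (Steps.fwd (nat_lit 12288) Steps.nil))))))))) (nat_lit 24) (nat_lit 0),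
  Rule.mk (nat_lit 0) (nat_lit 646) (Steps.fwd (nat_lit 8192) (Steps.fwd (nat_lit 6144) (Steps.fwd (nat_lit 4096) (Steps.fwd (nat_lit 6144) (Steps.fwd (nat_lit 8192) (Steps.bwd (nat_lit 5) (Steps.fwd (nat_lit 12288) (Steps.fwd (nat_lit 4096) (Steps.fwd (nat_lit 6144) (Steps.fwd (nat_lit 8192) (Steps.bwd (nat_lit 6) (Steps.bwd (nat_lit 4) (Steps.bwd (nat_lit 3) (Steps.bwd (nat_lit 2) (Steps.bwd (nat_lit 3) (Steps.fwd (nat_lit 8192) (Steps.fwd (nat_lit 12288) (Steps.bwd (nat_lit 4) (Steps.fwd (nat_lit 4096) (Steps.fwd (nat_lit 6144) (Steps.fwd (nat_lit 8192) (Steps.fwd (nat_lit 6144) (Steps.fwd (nat_lit 4096) (Steps.fwd (nat_lit 6144) (Steps.fwd (nat_lit 10240) (Steps.bwd (nat_lit 4) (Steps.fwd (nat_lit 6144) (Steps.fwd (nat_lit 4096) (Steps.bwd (nat_lit 3) (Steps.fwd (nat_lit 8192) (Steps.fwd (nat_lit 12288) (Steps.fwd (nat_lit 8192) (Steps.fwd (nat_lit 12288) (Steps.bwd (nat_lit 4) (Steps.bwd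 (nat_lit 3) (Steps.bwd (nat_lit 2) (Steps.fwd (nat_lit 6144) (Steps.bwd (nat_lit 4) (Steps.bwd (nat_lit 5) (Steps.bwd (nat_lit 4) (Steps.fwd (nat_lit 6144) (Steps.fwd (nat_lit 4096) (Steps.bwd (nat_lit 3) (Steps.fwd (nat_lit 8192) (Steps.bwd (nat_lit 6) (Steps.fwd (nat_lit 10240) (Steps.fwd (nat_lit 10240) (Steps.fwd (nat_lit 8192) (Steps.fwd (nat_lit 6144) (Steps.bwd (nat_lit 2) (Steps.bwd (nat_lit 3) (Steps.bwd (nat_lit 4) (Steps.fwd (nat_lit 10240) Steps.nil))))))))))))))))))))))))))))))))))))))))))))))))))))) (nat_lit 58) (nat_lit 46),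
  Rule.mk (nat_lit 1) (nat_lit 106) (Steps.bwd (nat_lit 3) (Steps.bwd (nat_lit 2) (Steps.bwd (nat_lit 3) (Steps.bwd (nat_lit 2) (Steps.bwd (nat_lit 3) (Steps.fwd (nat_lit 4096) (Steps.bwd (nat_lit 3) (Steps.bwd (nat_lit 2) Steps.nil)))))))) (nat_lit 10) (nat_lit 1),
  Rule.mk (nat_lit 0) (nat_lit 58) (Steps.bwd (nat_lit 2) (Steps.fwd (nat_lit 16384) (Steps.fwd (nat_lit 4096) (Steps.fwd (nat_lit 14336) Steps.nil)))) (nat_lit 30) (nat_lit 1),
  Rule.mk (nat_lit 6) (nat_lit 634) (Steps.bwd (nat_lit 6) (Steps.fwd (nat_lit 10240) (Steps.fwd (nat_lit 8192) (Steps.fwd (nat_lit 6144) (Steps.fwd (nat_lit 4096) (Steps.bwd (nat_lit 3) (Steps.bwd (nat_lit 4) (Steps.bwd (nat_lit 6) (Steps.fwd (nat_lit 8192) (Steps.fwd (nat_lit 6144) (Steps.fwd (nat_lit 4096) (Steps.fwd (nat_lit 6144) (Steps.fwd (nat_lit 8192) (Steps.fwd (nat_lit 12288) (Steps.fwd (nat_lit 12288) (Steps.fwd (nat_lit 4096) (Steps.fwd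 (nat_lit 6144) (Steps.fwd (nat_lit 8192) (Steps.bwd (nat_lit 6) (Steps.fwd (nat_lit 8192) (Steps.fwd (nat_lit 6144) (Steps.fwd (nat_lit 4096) (Steps.fwd (nat_lit 6144) (Steps.fwd (nat_lit 8192) (Steps.fwd (nat_lit 12288) (Steps.fwd (nat_lit 8192) (Steps.bwd (nat_lit 2) (Steps.fwd (nat_lit 6144) (Steps.fwd (nat_lit 8192) (Steps.fwd (nat_lit 6144) (Steps.fwd (nat_lit 4096) (Steps.bwd (nat_lit 3) (Steps.bwd (nat_lit 6) (Steps.fwd (nat_lit 8192) (Steps.fwd (nat_lit 6144) (Steps.bwd (nat_lit 2) (Steps.bwd (nat_lit 3) (Steps.bwd (nat_lit 4) (Steps.fwd (nat_lit 12288) (Steps.fwd (nat_lit 8192) (Steps.fwd (nat_lit 12288) (Steps.fwd (nat_lit 8192) (Steps.bwd (nat_lit 3) (Steps.fwd (nat_lit 4096) (Steps.fwd (nat_lit 6144) (Steps.bwd (nat_lit 4) (Steps.fwd (nat_lit 12288) (Steps.bwd (nat_lit 4) (Steps.bwd (nat_lit 3) (Steps.fwd (nat_lit 4096) (Steps.fwd (nat_lit 6144) (Steps.bwd (nat_lit 4) Steps.nil))))))))))))))))))))))))))))))))))))))))))))))))))))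 (nat_lit 58) (nat_lit 38),
  Rule.mk (nat_lit 3) (nat_lit 46) (Steps.fwd (nat_lit 10240) (Steps.bwd (nat_lit 3) (Steps.bwd (nat_lit 6) Steps.nil))) (nat_lit 23) (nat_lit 1),
  Rule.mk (nat_lit 6) (nat_lit 634) (Steps.bwd (nat_lit 6) (Steps.bwd (nat_lit 4) (Steps.bwd (nat_lit 3) (Steps.bwd (nat_lit 2) (Steps.bwd (nat_lit 3) (Steps.bwd (nat_lit 4) (Steps.bwd (nat_lit 6) (Steps.bwd (nat_lit 4) (Steps.bwd (nat_lit 3) (Steps.bwd (nat_lit 2) (Steps.bwd (nat_lit 3) (Steps.bwd (nat_lit 4) (Steps.fwd (nat_lit 12288) (Steps.fwd (nat_lit 12288) (Steps.fwd (nat_lit 4096) (Steps.fwd (nat_lit 6144) (Steps.bwd (nat_lit 4) (Steps.fwd (nat_lit 10240) (Steps.bwd (nat_lit 4) (Steps.bwd (nat_lit 3) (Steps.fwd (nat_lit 4096) (Steps.bwd (nat_lit 3) (Steps.fwd (nat_lit 8192) (Steps.fwd (nat_lit 12288) (Steps.bwd (nat_lit 4) (Steps.bwd (nat_lit 2) (Steps.fwd (nat_lit 6144) (Steps.fwd (nat_lit 8192) (Steps.fwd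 (nat_lit 6144) (Steps.fwd (nat_lit 4096) (Steps.fwd (nat_lit 6144) (Steps.fwd (nat_lit 10240) (Steps.fwd (nat_lit 8192) (Steps.fwd (nat_lit 6144) (Steps.fwd (nat_lit 4096) (Steps.fwd (nat_lit 6144) (Steps.fwd (nat_lit 8192) (Steps.fwd (nat_lit 12288) (Steps.bwd (nat_lit 4) (Steps.bwd (nat_lit 5) (Steps.bwd (nat_lit 4) (Steps.fwd (nat_lit 6144) (Steps.bwd (nat_lit 2) (Steps.bwd (nat_lit 3) (Steps.fwd (nat_lit 8192) (Steps.bwd (nat_lit 5) (Steps.bwd (nat_lit 4) (Steps.fwd (nat_lit 6144) (Steps.bwd (nat_lit 2) (Steps.fwd (nat_lit 6144) (Steps.fwd (nat_lit 8192) (Steps.bwd (nat_lit 6) Steps.nil)))))))))))))))))))))))))))))))))))))))))))))))))))) (nat_lit 58) (nat_lit 39),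
  Rule.mk (nat_lit 0) (nat_lit 70) (Steps.fwd (nat_lit 12288) (Steps.fwd (nat_lit 12288) (Steps.bwd (nat_lit 8) (Steps.bwd (nat_lit 6) (Steps.bwd (nat_lit 7) Steps.nil))))) (nat_lit 37) (nat_lit 0),
  Rule.mk (nat_lit 4) (nat_lit 106) (Steps.fwd (nat_lit 10240) (Steps.bwd (nat_lit 6) (Steps.fwd (nat_lit 8192) (Steps.bwd (nat_lit 5) (Steps.bwd (nat_lit 5) (Steps.bwd (nat_lit 5) (Steps.bwd (nat_lit 4) (Steps.bwd (nat_lit 6) Steps.nil)))))))) (nat_lit 24) (nat_lit 3),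
  Rule.mk (nat_lit 2) (nat_lit 106) (Steps.bwd (nat_lit 3) (Steps.bwd (nat_lit 2) (Steps.bwd (nat_lit 1) (Steps.fwd (nat_lit 6144) (Steps.fwd (nat_lit 4096) (Steps.bwd (nat_lit 3) (Steps.bwd (nat_lit 2) (Steps.bwd (nat_lit 3) Steps.nil)))))))) (nat_lit 10) (nat_lit 7),
  Rule.mk (nat_lit 1) (nat_lit 106) (Steps.bwd (nat_lit 3) (Steps.bwd (nat_lit 2) (Steps.fwd (nat_lit 6144) (Steps.fwd (nat_lit 4096) (Steps.bwd (nat_lit 3) (Steps.bwd (nat_lit 2) (Steps.bwd (nat_lit 3) (Steps.bwd (nat_lit 2) Steps.nil)))))))) (nat_lit 10) (nat_lit 1),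
  Rule.mk (nat_lit 2) (nat_lit 634) (Steps.bwd (nat_lit 3) (Steps.bwd (nat_lit 4) (Steps.bwd (nat_lit 5) (Steps.bwd (nat_lit 4) (Steps.bwd (nat_lit 2) (Steps.bwd (nat_lit 3) (Steps.bwd (nat_lit 4) (Steps.bwd (nat_lit 3) (Steps.bwd (nat_lit 2) (Steps.bwd (nat_lit 3) (Steps.bwd (nat_lit 6) (Steps.bwd (nat_lit 4) (Steps.bwd (nat_lit 3) (Steps.bwd (nat_lit 2) (Steps.bwd (nat_lit 3) (Steps.bwd (nat_lit 4) (Steps.bwd (nat_lit 5) (Steps.bwd (nat_lit 4) (Steps.bwd (nat_lit 5) (Steps.bwd (nat_lit 4) (Steps.bwd (nat_lit 3) (Steps.bwd (nat_lit 2) (Steps.bwd (nat_lit 3) (Steps.bwd (nat_lit 4) (Steps.bwd (nat_lit 5) (Steps.bwd (nat_lit 4) (Steps.bwd (nat_lit 3) (Steps.bwd (nat_lit 2) (Steps.bwd (nat_lit 3) (Steps.bwd (nat_lit 4) (Steps.bwd (nat_lit 6) (Steps.bwd (nat_lit 6) (Steps.bwd (nat_lit 6) (Steps.bwd (nat_lit 4) (Steps.bwd (nat_lit 3) (Steps.bwd (nat_lit 2) (Steps.bwd (nat_lit 3) (Steps.bwd (nat_lit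 4) (Steps.bwd (nat_lit 6) (Steps.bwd (nat_lit 4) (Steps.bwd (nat_lit 3) (Steps.bwd (nat_lit 2) (Steps.bwd (nat_lit 3) (Steps.bwd (nat_lit 4) (Steps.fwd (nat_lit 12288) (Steps.bwd (nat_lit 5) (Steps.bwd (nat_lit 2) (Steps.bwd (nat_lit 3) (Steps.bwd (nat_lit 4) (Steps.fwd (nat_lit 10240) (Steps.fwd (nat_lit 8192) (Steps.fwd (nat_lit 6144) Steps.nil)))))))))))))))))))))))))))))))))))))))))))))))))))) (nat_lit 58) (nat_lit 7),
  Rule.mk (nat_lit 1) (nat_lit 106) (Steps.fwd (nat_lit 6144) (Steps.fwd (nat_lit 4096) (Steps.fwd (nat_lit 6144) (Steps.fwd (nat_lit 4096) (Steps.fwd (nat_lit 6144) (Steps.fwd (nat_lit 4096) (Steps.fwd (nat_lit 6144) (Steps.bwd (nat_lit 2) Steps.nil)))))))) (nat_lit 10) (nat_lit 1),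
  Rule.mk (nat_lit 0) (nat_lit 118) (Steps.fwd (nat_lit 4096) (Steps.bwd (nat_lit 3) (Steps.bwd (nat_lit 2) (Steps.bwd (nat_lit 3) (Steps.bwd (nat_lit 2) (Steps.bwd (nat_lit 3) (Steps.fwd (nat_lit 2048) (Steps.bwd (nat_lit 2) (Steps.bwd (nat_lit 3) Steps.nil))))))))) (nat_lit 11) (nat_lit 2),
  Rule.mk (nat_lit 0) (nat_lit 46) (Steps.fwd (nat_lit 8192) (Steps.bwd (nat_lit 0) (Steps.bwd (nat_lit 4) Steps.nil))) (nat_lit 60) (nat_lit 0),
  Rule.mk (nat_lit 4) (nat_lit 70) (Steps.bwd (nat_lit 3) (Steps.fwd (nat_lit 8192) (Steps.bwd (nat_lit 3) (Steps.fwd (nat_lit 8192) (Steps.fwd (nat_lit 6144) Steps.nil))))) (nat_lit 14) (nat_lit 0),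
  Rule.mk (nat_lit 1) (nat_lit 106) (Steps.bwd (nat_lit 3) (Steps.bwd (nat_lit 2) (Steps.bwd (nat_lit 3) (Steps.fwd (nat_lit 4096) (Steps.fwd (nat_lit 6144) (Steps.fwd (nat_lit 4096) (Steps.fwd (nat_lit 6144) (Steps.fwd (nat_lit 4096) Steps.nil)))))))) (nat_lit 10) (nat_lit 1),
  Rule.mk (nat_lit 6) (nat_lit 634) (Steps.bwd (nat_lit 4) (Steps.fwd (nat_lit 6144) (Steps.fwd (nat_lit 4096) (Steps.bwd (nat_lit 3) (Steps.bwd (nat_lit 4) (Steps.fwd (nat_lit 12288) (Steps.bwd (nat_lit 5) (Steps.fwd (nat_lit 4096) (Steps.fwd (nat_lit 6144) (Steps.fwd (nat_lit 8192) (Steps.bwd (nat_lit 6) (Steps.fwd (nat_lit 8192) (Steps.bwd (nat_lit 3) (Steps.bwd (nat_lit 2) (Steps.bwd (nat_lit 3) (Steps.fwd (nat_lit 8192) (Steps.bwd (nat_lit 5) (Steps.bwd (nat_lit 4) (Steps.bwd (nat_lit 2) (Steps.bwd (nat_lit 3) (Steps.bwd (nat_lit 4) (Steps.fwd (nat_lit 6144) (Steps.fwd (nat_lit 4096) (Steps.fwd (nat_lit 6144)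 (Steps.fwd (nat_lit 10240) (Steps.bwd (nat_lit 4) (Steps.fwd (nat_lit 6144) (Steps.fwd (nat_lit 4096) (Steps.fwd (nat_lit 6144) (Steps.bwd (nat_lit 4) (Steps.bwd (nat_lit 5) (Steps.bwd (nat_lit 4) (Steps.bwd (nat_lit 5) (Steps.bwd (nat_lit 4) (Steps.fwd (nat_lit 6144) (Steps.fwd (nat_lit 4096) (Steps.bwd (nat_lit 3) (Steps.fwd (nat_lit 8192) (Steps.fwd (nat_lit 12288) (Steps.bwd (nat_lit 4) (Steps.bwd (nat_lit 3) (Steps.bwd (nat_lit 2) (Steps.fwd (nat_lit 6144) (Steps.fwd (nat_lit 8192) (Steps.bwd (nat_lit 6) (Steps.bwd (nat_lit 6) (Steps.bwd (nat_lit 6) (Steps.bwd (nat_lit 4) (Steps.fwd (nat_lit 6144) (Steps.bwd (nat_lit 2) (Steps.bwd (nat_lit 3) (Steps.fwd (nat_lit 8192) Steps.nil)))))))))))))))))))))))))))))))))))))))))))))))))))) (nat_lit 58) (nat_lit 46),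
  Rule.mk (nat_lit 4) (nat_lit 634) (Steps.bwd (nat_lit 5) (Steps.bwd (nat_lit 4) (Steps.bwd (nat_lit 3) (Steps.bwd (nat_lit 2) (Steps.bwd (nat_lit 3) (Steps.bwd (nat_lit 4) (Steps.bwd (nat_lit 5) (Steps.bwd (nat_lit 4) (Steps.bwd (nat_lit 3) (Steps.bwd (nat_lit 2) (Steps.bwd (nat_lit 3) (Steps.bwd (nat_lit 4) (Steps.bwd (nat_lit 6) (Steps.bwd (nat_lit 6) (Steps.bwd (nat_lit 6) (Steps.fwd (nat_lit 8192) (Steps.fwd (nat_lit 6144) (Steps.bwd (nat_lit 2) (Steps.bwd (nat_lit 3) (Steps.fwd (nat_lit 8192) (Steps.fwd (nat_lit 10240) (Steps.fwd (nat_lit 8192) (Steps.fwd (nat_lit 6144) (Steps.bwd (nat_lit 2) (Steps.fwd (nat_lit 6144) (Steps.fwd (nat_lit 8192) (Steps.bwd (nat_lit 5) (Steps.fwd (nat_lit 12288) (Steps.bwd (nat_lit 2) (Steps.bwd (nat_lit 3) (Steps.bwd (nat_lit 4) (Steps.fwd (nat_lit 10240) (Steps.fwd (nat_lit 8192) (Steps.bwd (nat_lit 3) (Steps.fwd (nat_lit 4096) (Steps.fwd (nat_lit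 6144) (Steps.fwd (nat_lit 8192) (Steps.fwd (nat_lit 12288) (Steps.fwd (nat_lit 8192) (Steps.fwd (nat_lit 4096) (Steps.bwd (nat_lit 3) (Steps.fwd (nat_lit 8192) (Steps.fwd (nat_lit 6144) (Steps.fwd (nat_lit 4096) (Steps.fwd (nat_lit 6144) (Steps.fwd (nat_lit 10240) (Steps.bwd (nat_lit 4) (Steps.fwd (nat_lit 6144) (Steps.bwd (nat_lit 2) (Steps.fwd (nat_lit 6144) (Steps.fwd (nat_lit 8192) (Steps.bwd (nat_lit 5) Steps.nil)))))))))))))))))))))))))))))))))))))))))))))))))))) (nat_lit 58) (nat_lit 25),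
  Rule.mk (nat_lit 0) (nat_lit 118) (Steps.fwd (nat_lit 10240) (Steps.fwd (nat_lit 8192) (Steps.fwd (nat_lit 12288) (Steps.bwd (nat_lit 5) (Steps.bwd (nat_lit 4) (Steps.bwd (nat_lit 5) (Steps.fwd (nat_lit 8192) (Steps.fwd (nat_lit 10240) (Steps.fwd (nat_lit 10240) Steps.nil))))))))) (nat_lit 25) (nat_lit 2),
  Rule.mk (nat_lit 3) (nat_lit 634) (Steps.bwd (nat_lit 2) (Steps.bwd (nat_lit 3) (Steps.fwd (nat_lit 8192) (Steps.bwd (nat_lit 5) (Steps.bwd (nat_lit 5) (Steps.fwd (nat_lit 4096) (Steps.fwd (nat_lit 6144) (Steps.bwd (nat_lit 4) (Steps.fwd (nat_lit 10240) (Steps.fwd (nat_lit 8192) (Steps.fwd (nat_lit 6144) (Steps.fwd (nat_lit 4096) (Steps.fwd (nat_lit 6144) (Steps.fwd (nat_lit 8192) (Steps.bwd (nat_lit 5) (Steps.bwd (nat_lit 4) (Steps.fwd (nat_lit 4096) (Steps.fwd (nat_lit 6144) (Steps.fwd (nat_lit 8192) (Steps.fwd (nat_lit 6144) (Steps.fwd (nat_lit 4096) (Steps.bwd (nat_lit 3) (Steps.fwd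 (nat_lit 10240) (Steps.fwd (nat_lit 8192) (Steps.fwd (nat_lit 6144) (Steps.fwd (nat_lit 4096) (Steps.fwd (nat_lit 6144) (Steps.fwd (nat_lit 8192) (Steps.fwd (nat_lit 12288) (Steps.bwd (nat_lit 4) (Steps.fwd (nat_lit 12288) (Steps.fwd (nat_lit 8192) (Steps.fwd (nat_lit 6144) (Steps.bwd (nat_lit 2) (Steps.bwd (nat_lit 3) (Steps.bwd (nat_lit 4) (Steps.fwd (nat_lit 12288) (Steps.fwd (nat_lit 8192) (Steps.fwd (nat_lit 6144) (Steps.fwd (nat_lit 4096) (Steps.fwd (nat_lit 6144) (Steps.fwd (nat_lit 8192) (Steps.fwd (nat_lit 10240) (Steps.bwd (nat_lit 6) (Steps.fwd (nat_lit 10240) (Steps.bwd (nat_lit 4) (Steps.fwd (nat_lit 6144) (Steps.bwd (nat_lit 2) (Steps.fwd (nat_lit 6144) (Steps.fwd (nat_lit 8192) (Steps.bwd (nat_lit 6) (Steps.bwd (nat_lit 4) Steps.nil)))))))))))))))))))))))))))))))))))))))))))))))))))) (nat_lit 58) (nat_lit 48),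
  Rule.mk (nat_lit 4) (nat_lit 634) (Steps.bwd (nat_lit 3) (Steps.fwd (nat_lit 4096) (Steps.bwd (nat_lit 3) (Steps.fwd (nat_lit 8192) (Steps.fwd (nat_lit 12288) (Steps.fwd (nat_lit 8192) (Steps.bwd (nat_lit 5) (Steps.bwd (nat_lit 4) (Steps.bwd (nat_lit 3) (Steps.fwd (nat_lit 4096) (Steps.fwd (nat_lit 6144) (Steps.fwd (nat_lit 8192) (Steps.bwd (nat_lit 5) (Steps.bwd (nat_lit 4) (Steps.bwd (nat_lit 3) (Steps.bwd (nat_lit 2) (Steps.fwd (nat_lit 6144) (Steps.fwd (nat_lit 8192) (Steps.bwd (nat_lit 6) (Steps.bwd (nat_lit 6) (Steps.bwd (nat_lit 6) (Steps.bwd (nat_lit 4) (Steps.bwd (nat_lit 3) (Steps.bwd (nat_lit 2) (Steps.fwd (nat_lit 6144) (Steps.fwd (nat_lit 8192) (Steps.fwd (nat_lit 10240) (Steps.fwd (nat_lit 8192) (Steps.fwd (nat_lit 6144) (Steps.fwd (nat_lit 4096) (Steps.fwd (nat_lit 6144) (Steps.fwd (nat_lit 8192) (Steps.fwd (nat_lit 12288) (Steps.fwd (nat_lit 12288) (Steps.bwd (nat_lit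 2) (Steps.bwd (nat_lit 3) (Steps.bwd (nat_lit 4) (Steps.fwd (nat_lit 10240) (Steps.fwd (nat_lit 8192) (Steps.fwd (nat_lit 6144) (Steps.bwd (nat_lit 2) (Steps.bwd (nat_lit 3) (Steps.fwd (nat_lit 8192) (Steps.fwd (nat_lit 12288) (Steps.fwd (nat_lit 8192) (Steps.fwd (nat_lit 4096) (Steps.bwd (nat_lit 3) (Steps.bwd (nat_lit 4) (Steps.fwd (nat_lit 6144) (Steps.fwd (nat_lit 4096) (Steps.bwd (nat_lit 3) (Steps.fwd (nat_lit 10240) Steps.nil)))))))))))))))))))))))))))))))))))))))))))))))))))) (nat_lit 58) (nat_lit 19),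
  Rule.mk (nat_lit 5) (nat_lit 106) (Steps.bwd (nat_lit 5) (Steps.bwd (nat_lit 5) (Steps.bwd (nat_lit 4) (Steps.bwd (nat_lit 6) (Steps.fwd (nat_lit 8192) (Steps.bwd (nat_lit 6) (Steps.fwd (nat_lit 10240) (Steps.bwd (nat_lit 4) Steps.nil)))))))) (nat_lit 24) (nat_lit 9),
  Rule.mk (nat_lit 6) (nat_lit 106) (Steps.bwd (nat_lit 6) (Steps.fwd (nat_lit 8192) (Steps.bwd (nat_lit 5) (Steps.fwd (nat_lit 12288) (Steps.bwd (nat_lit 5) (Steps.fwd (nat_lit 8192) (Steps.fwd (nat_lit 10240) (Steps.bwd (nat_lit 4) Steps.nil)))))))) (nat_lit 24) (nat_lit 6),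
  Rule.mk (nat_lit 4) (nat_lit 634) (Steps.bwd (nat_lit 2) (Steps.bwd (nat_lit 3) (Steps.bwd (nat_lit 4) (Steps.bwd (nat_lit 3) (Steps.bwd (nat_lit 2) (Steps.bwd (nat_lit 3) (Steps.bwd (nat_lit 6) (Steps.bwd (nat_lit 4) (Steps.bwd (nat_lit 3) (Steps.fwd (nat_lit 4096) (Steps.bwd (nat_lit 3) (Steps.bwd (nat_lit 4) (Steps.fwd (nat_lit 12288) (Steps.bwd (nat_lit 4) (Steps.fwd (nat_lit 12288) (Steps.fwd (nat_lit 8192) (Steps.fwd (nat_lit 6144) (Steps.fwd (nat_lit 4096) (Steps.fwd (nat_lit 6144) (Steps.fwd (nat_lit 8192) (Steps.fwd (nat_lit 12288) (Steps.bwd (nat_lit 4) (Steps.bwd (nat_lit 3) (Steps.bwd (nat_lit 2) (Steps.fwd (nat_lit 6144) (Steps.fwd (nat_lit 8192) (Steps.fwd (nat_lit 10240) (Steps.fwd (nat_lit 10240) (Steps.fwd (nat_lit 10240) (Steps.fwd (nat_lit 8192) (Steps.fwd (nat_lit 6144) (Steps.fwd (nat_lit 4096) (Steps.fwd (nat_lit 6144) (Steps.fwd (nat_lit 8192) (Steps.bwd (nat_lit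 6) (Steps.bwd (nat_lit 4) (Steps.bwd (nat_lit 3) (Steps.bwd (nat_lit 2) (Steps.bwd (nat_lit 3) (Steps.bwd (nat_lit 4) (Steps.bwd (nat_lit 5) (Steps.fwd (nat_lit 12288) (Steps.bwd (nat_lit 2) (Steps.fwd (nat_lit 6144) (Steps.fwd (nat_lit 8192) (Steps.fwd (nat_lit 10240) (Steps.fwd (nat_lit 8192) (Steps.fwd (nat_lit 6144) (Steps.fwd (nat_lit 4096) (Steps.fwd (nat_lit 6144) (Steps.fwd (nat_lit 8192) (Steps.fwd (nat_lit 12288) Steps.nil)))))))))))))))))))))))))))))))))))))))))))))))))))) (nat_lit 58) (nat_lit 11),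
  Rule.mk (nat_lit 5) (nat_lit 106) (Steps.bwd (nat_lit 5) (Steps.bwd (nat_lit 5) (Steps.fwd (nat_lit 8192) (Steps.fwd (nat_lit 10240) (Steps.fwd (nat_lit 8192) (Steps.fwd (nat_lit 10240) (Steps.fwd (nat_lit 10240) (Steps.bwd (nat_lit 4) Steps.nil)))))))) (nat_lit 24) (nat_lit 9),
  Rule.mk (nat_lit 6) (nat_lit 106) (Steps.fwd (nat_lit 10240) (Steps.fwd (nat_lit 8192) (Steps.bwd (nat_lit 5) (Steps.bwd (nat_lit 5) (Steps.bwd (nat_lit 5) (Steps.bwd (nat_lit 4) (Steps.fwd (nat_lit 10240) (Steps.bwd (nat_lit 4) Steps.nil)))))))) (nat_lit 24) (nat_lit 6),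
  Rule.mk (nat_lit 2) (nat_lit 634) (Steps.bwd (nat_lit 3) (Steps.bwd (nat_lit 4) (Steps.bwd (nat_lit 6) (Steps.fwd (nat_lit 10240) (Steps.bwd (nat_lit 6) (Steps.fwd (nat_lit 8192) (Steps.bwd (nat_lit 3) (Steps.bwd (nat_lit 2) (Steps.bwd (nat_lit 3) (Steps.bwd (nat_lit 4) (Steps.bwd (nat_lit 6) (Steps.fwd (nat_lit 8192) (Steps.fwd (nat_lit 6144) (Steps.fwd (nat_lit 4096) (Steps.bwd (nat_lit 3) (Steps.fwd (nat_lit 8192) (Steps.bwd (nat_lit 5) (Steps.bwd (nat_lit 5) (Steps.bwd (nat_lit 2) (Steps.bwd (nat_lit 3) (Steps.bwd (nat_lit 4) (Steps.fwd (nat_lit 10240) (Steps.bwd (nat_lit 4) (Steps.bwd (nat_lit 3) (Steps.bwd (nat_lit 2) (Steps.bwd (nat_lit 3) (Steps.bwd (nat_lit 4) (Steps.fwd (nat_lit 12288) (Steps.fwd (nat_lit 8192) (Steps.bwd (nat_lit 2) (Steps.bwd (nat_lit 3) (Steps.bwd (nat_lit 4) (Steps.fwd (nat_lit 6144) (Steps.fwd (nat_lit 4096) (Steps.fwd (nat_lit 6144) (Steps.fwd (nat_lit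 10240) (Steps.fwd (nat_lit 8192) (Steps.fwd (nat_lit 6144) (Steps.fwd (nat_lit 4096) (Steps.bwd (nat_lit 3) (Steps.bwd (nat_lit 4) (Steps.fwd (nat_lit 12288) (Steps.bwd (nat_lit 4) (Steps.bwd (nat_lit 5) (Steps.bwd (nat_lit 4) (Steps.fwd (nat_lit 6144) (Steps.bwd (nat_lit 2) (Steps.fwd (nat_lit 6144) (Steps.fwd (nat_lit 8192) (Steps.bwd (nat_lit 5) (Steps.fwd (nat_lit 8192) (Steps.fwd (nat_lit 6144) Steps.nil)))))))))))))))))))))))))))))))))))))))))))))))))))) (nat_lit 58) (nat_lit 35),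
  Rule.mk (nat_lit 1) (nat_lit 106) (Steps.fwd (nat_lit 6144) (Steps.bwd (nat_lit 2) (Steps.bwd (nat_lit 3) (Steps.fwd (nat_lit 4096) (Steps.fwd (nat_lit 6144) (Steps.fwd (nat_lit 4096) (Steps.fwd (nat_lit 6144) (Steps.fwd (nat_lit 4096) Steps.nil)))))))) (nat_lit 10) (nat_lit 1),
  Rule.mk (nat_lit 1) (nat_lit 106) (Steps.fwd (nat_lit 4096) (Steps.fwd (nat_lit 6144) (Steps.bwd (nat_lit 2) (Steps.bwd (nat_lit 3) (Steps.fwd (nat_lit 4096) (Steps.fwd (nat_lit 6144) (Steps.fwd (nat_lit 4096) (Steps.fwd (nat_lit 6144) Steps.nil)))))))) (nat_lit 11) (nat_lit 0),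
  Rule.mk (nat_lit 1) (nat_lit 106) (Steps.bwd (nat_lit 2) (Steps.bwd (nat_lit 3) (Steps.fwd (nat_lit 4096) (Steps.fwd (nat_lit 6144) (Steps.fwd (nat_lit 4096) (Steps.fwd (nat_lit 6144) (Steps.fwd (nat_lit 4096) (Steps.fwd (nat_lit 6144) Steps.nil)))))))) (nat_lit 11) (nat_lit 0),
  Rule.mk (nat_lit 5) (nat_lit 634) (Steps.bwd (nat_lit 5) (Steps.bwd (nat_lit 2) (Steps.bwd (nat_lit 3) (Steps.fwd (nat_lit 8192) (Steps.bwd (nat_lit 6) (Steps.fwd (nat_lit 8192) (Steps.bwd (nat_lit 3) (Steps.fwd (nat_lit 4096) (Steps.fwd (nat_lit 6144) (Steps.fwd (nat_lit 8192) (Steps.bwd (nat_lit 5) (Steps.bwd (nat_lit 4) (Steps.bwd (nat_lit 2) (Steps.fwd (nat_lit 6144) (Steps.fwd (nat_lit 8192) (Steps.fwd (nat_lit 6144) (Steps.bwd (nat_lit 2) (Steps.bwd (nat_lit 3) (Steps.bwd (nat_lit 6) (Steps.bwd (nat_lit 4) (Steps.bwd (nat_lit 3) (Steps.bwd (nat_lit 2) (Steps.bwd (nat_lit 3) (Steps.bwd (nat_lit 4) (Steps.bwd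 (nat_lit 5) (Steps.bwd (nat_lit 4) (Steps.bwd (nat_lit 5) (Steps.bwd (nat_lit 4) (Steps.fwd (nat_lit 6144) (Steps.bwd (nat_lit 2) (Steps.bwd (nat_lit 3) (Steps.bwd (nat_lit 4) (Steps.fwd (nat_lit 12288) (Steps.fwd (nat_lit 8192) (Steps.fwd (nat_lit 6144) (Steps.fwd (nat_lit 4096) (Steps.fwd (nat_lit 6144) (Steps.bwd (nat_lit 4) (Steps.fwd (nat_lit 10240) (Steps.bwd (nat_lit 6) (Steps.bwd (nat_lit 6) (Steps.bwd (nat_lit 4) (Steps.bwd (nat_lit 3) (Steps.bwd (nat_lit 2) (Steps.bwd (nat_lit 3) (Steps.fwd (nat_lit 8192) (Steps.bwd (nat_lit 6) (Steps.fwd (nat_lit 8192) (Steps.fwd (nat_lit 6144) (Steps.fwd (nat_lit 4096) (Steps.fwd (nat_lit 6144) (Steps.fwd (nat_lit 8192) Steps.nil)))))))))))))))))))))))))))))))))))))))))))))))))))) (nat_lit 58) (nat_lit 52),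
  Rule.mk (nat_lit 6) (nat_lit 106) (Steps.fwd (nat_lit 8192) (Steps.bwd (nat_lit 6) (Steps.fwd (nat_lit 10240) (Steps.fwd (nat_lit 8192) (Steps.bwd (nat_lit 5) (Steps.fwd (nat_lit 12288) (Steps.bwd (nat_lit 5) (Steps.fwd (nat_lit 8192) Steps.nil)))))))) (nat_lit 24) (nat_lit 2),
  Rule.mk (nat_lit 4) (nat_lit 634) (Steps.bwd (nat_lit 5) (Steps.bwd (nat_lit 5) (Steps.bwd (nat_lit 2) (Steps.fwd (nat_lit 6144) (Steps.fwd (nat_lit 8192) (Steps.fwd (nat_lit 10240) (Steps.fwd (nat_lit 8192) (Steps.fwd (nat_lit 6144) (Steps.fwd (nat_lit 4096) (Steps.fwd (nat_lit 6144) (Steps.fwd (nat_lit 8192) (Steps.bwd (nat_lit 5) (Steps.fwd (nat_lit 8192) (Steps.bwd (nat_lit 2) (Steps.fwd (nat_lit 6144) (Steps.fwd (nat_lit 8192) (Steps.fwd (nat_lit 6144) (Steps.fwd (nat_lit 4096) (Steps.fwd (nat_lit 6144) (Steps.fwd (nat_lit 10240) (Steps.bwd (nat_lit 4) (Steps.fwd (nat_lit 6144) (Steps.bwd (nat_lit 2) (Steps.fwd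 (nat_lit 6144) (Steps.bwd (nat_lit 4) (Steps.fwd (nat_lit 12288) (Steps.fwd (nat_lit 8192) (Steps.fwd (nat_lit 12288) (Steps.bwd (nat_lit 4) (Steps.bwd (nat_lit 3) (Steps.bwd (nat_lit 2) (Steps.fwd (nat_lit 6144) (Steps.bwd (nat_lit 4) (Steps.bwd (nat_lit 5) (Steps.bwd (nat_lit 4) (Steps.bwd (nat_lit 3) (Steps.bwd (nat_lit 2) (Steps.fwd (nat_lit 6144) (Steps.bwd (nat_lit 4) (Steps.bwd (nat_lit 6) (Steps.fwd (nat_lit 10240) (Steps.fwd (nat_lit 10240) (Steps.bwd (nat_lit 4) (Steps.fwd (nat_lit 6144) (Steps.bwd (nat_lit 2) (Steps.fwd (nat_lit 6144) (Steps.fwd (nat_lit 8192) (Steps.bwd (nat_lit 6) (Steps.fwd (nat_lit 8192) (Steps.bwd (nat_lit 3) (Steps.fwd (nat_lit 4096) (Steps.fwd (nat_lit 6144) Steps.nil)))))))))))))))))))))))))))))))))))))))))))))))))))) (nat_lit 58) (nat_lit 51),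
  Rule.mk (nat_lit 2) (nat_lit 634) (Steps.bwd (nat_lit 3) (Steps.bwd (nat_lit 4) (Steps.fwd (nat_lit 6144) (Steps.bwd (nat_lit 2) (Steps.bwd (nat_lit 3) (Steps.bwd (nat_lit 6) (Steps.fwd (nat_lit 8192) (Steps.fwd (nat_lit 6144) (Steps.bwd (nat_lit 2) (Steps.bwd (nat_lit 3) (Steps.bwd (nat_lit 4) (Steps.fwd (nat_lit 12288) (Steps.fwd (nat_lit 8192) (Steps.fwd (nat_lit 12288) (Steps.fwd (nat_lit 8192) (Steps.fwd (nat_lit 6144) (Steps.fwd (nat_lit 4096) (Steps.bwd (nat_lit 3) (Steps.fwd (nat_lit 8192) (Steps.fwd (nat_lit 12288) (Steps.bwd (nat_lit 4) (Steps.bwd (nat_lit 3) (Steps.bwd (nat_lit 2) (Steps.fwd (nat_lit 6144) (Steps.bwd (nat_lit 4) (Steps.bwd (nat_lit 6) (Steps.fwd (nat_lit 10240) (Steps.bwd (nat_lit 6) (Steps.fwd (nat_lit 8192) (Steps.fwd (nat_lit 6144) (Steps.fwd (nat_lit 4096) (Steps.fwd (nat_lit 6144) (Steps.bwd (nat_lit 4) (Steps.fwd (nat_lit 10240) (Steps.bwd (nat_lit 4)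 (Steps.bwd (nat_lit 3) (Steps.fwd (nat_lit 4096) (Steps.bwd (nat_lit 3) (Steps.fwd (nat_lit 8192) (Steps.fwd (nat_lit 12288) (Steps.bwd (nat_lit 5) (Steps.bwd (nat_lit 2) (Steps.bwd (nat_lit 3) (Steps.bwd (nat_lit 4) (Steps.bwd (nat_lit 6) (Steps.fwd (nat_lit 8192) (Steps.fwd (nat_lit 6144) (Steps.fwd (nat_lit 4096) (Steps.fwd (nat_lit 6144) (Steps.bwd (nat_lit 4) (Steps.bwd (nat_lit 5) (Steps.bwd (nat_lit 4) Steps.nil)))))))))))))))))))))))))))))))))))))))))))))))))))) (nat_lit 58) (nat_lit 12),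
  Rule.mk (nat_lit 2) (nat_lit 106) (Steps.bwd (nat_lit 3) (Steps.bwd (nat_lit 2) (Steps.bwd (nat_lit 3) (Steps.fwd (nat_lit 4096) (Steps.fwd (nat_lit 6144) (Steps.bwd (nat_lit 2) (Steps.bwd (nat_lit 1) (Steps.bwd (nat_lit 3) Steps.nil)))))))) (nat_lit 10) (nat_lit 3),
  Rule.mk (nat_lit 1) (nat_lit 106) (Steps.bwd (nat_lit 3) (Steps.bwd (nat_lit 2) (Steps.bwd (nat_lit 3) (Steps.bwd (nat_lit 2) (Steps.fwd (nat_lit 6144) (Steps.bwd (nat_lit 2) (Steps.bwd (nat_lit 3) (Steps.bwd (nat_lit 2) Steps.nil)))))))) (nat_lit 10) (nat_lit 1),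
  Rule.mk (nat_lit 4) (nat_lit 106) (Steps.fwd (nat_lit 10240) (Steps.fwd (nat_lit 10240) (Steps.fwd (nat_lit 10240) (Steps.fwd (nat_lit 8192) (Steps.fwd (nat_lit 12288) (Steps.fwd (nat_lit 12288) (Steps.fwd (nat_lit 8192) (Steps.bwd (nat_lit 5) Steps.nil)))))))) (nat_lit 25) (nat_lit 0),
  Rule.mk (nat_lit 3) (nat_lit 634) (Steps.bwd (nat_lit 2) (Steps.fwd (nat_lit 6144) (Steps.fwd (nat_lit 8192) (Steps.fwd (nat_lit 12288) (Steps.bwd (nat_lit 4) (Steps.bwd (nat_lit 2) (Steps.fwd (nat_lit 6144) (Steps.fwd (nat_lit 8192) (Steps.bwd (nat_lit 3) (Steps.fwd (nat_lit 4096) (Steps.fwd (nat_lit 6144) (Steps.bwd (nat_lit 6) (Steps.bwd (nat_lit 4) (Steps.bwd (nat_lit 3) (Steps.fwd (nat_lit 4096) (Steps.fwd (nat_lit 6144) (Steps.bwd (nat_lit 4) (Steps.bwd (nat_lit 5) (Steps.fwd (nat_lit 8192) (Steps.fwd (nat_lit 12288) (Steps.fwd (nat_lit 8192) (Steps.bwd (nat_lit 3) (Steps.bwd (nat_lit 2) (Steps.fwd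 (nat_lit 6144) (Steps.bwd (nat_lit 4) (Steps.bwd (nat_lit 5) (Steps.fwd (nat_lit 8192) (Steps.fwd (nat_lit 6144) (Steps.fwd (nat_lit 4096) (Steps.fwd (nat_lit 6144) (Steps.bwd (nat_lit 4) (Steps.bwd (nat_lit 6) (Steps.bwd (nat_lit 6) (Steps.fwd (nat_lit 10240) (Steps.bwd (nat_lit 4) (Steps.fwd (nat_lit 6144) (Steps.fwd (nat_lit 4096) (Steps.bwd (nat_lit 3) (Steps.fwd (nat_lit 8192) (Steps.bwd (nat_lit 6) (Steps.bwd (nat_lit 4) (Steps.bwd (nat_lit 3) (Steps.fwd (nat_lit 4096) (Steps.fwd (nat_lit 6144) (Steps.fwd (nat_lit 8192) (Steps.fwd (nat_lit 12288) (Steps.fwd (nat_lit 12288) (Steps.bwd (nat_lit 2) (Steps.bwd (nat_lit 3) (Steps.fwd (nat_lit 8192) (Steps.bwd (nat_lit 6) (Steps.fwd (nat_lit 8192) Steps.nil)))))))))))))))))))))))))))))))))))))))))))))))))))) (nat_lit 58) (nat_lit 6),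
  Rule.mk (nat_lit 1) (nat_lit 106) (Steps.bwd (nat_lit 2) (Steps.bwd (nat_lit 3) (Steps.bwd (nat_lit 2) (Steps.fwd (nat_lit 6144) (Steps.fwd (nat_lit 4096) (Steps.bwd (nat_lit 3) (Steps.fwd (nat_lit 4096) (Steps.bwd (nat_lit 3) Steps.nil)))))))) (nat_lit 11) (nat_lit 0),
  Rule.mk (nat_lit 6) (nat_lit 634) (Steps.bwd (nat_lit 4) (Steps.bwd (nat_lit 3) (Steps.fwd (nat_lit 4096) (Steps.bwd (nat_lit 3) (Steps.bwd (nat_lit 4) (Steps.fwd (nat_lit 10240) (Steps.fwd (nat_lit 8192) (Steps.fwd (nat_lit 6144) (Steps.fwd (nat_lit 4096) (Steps.fwd (nat_lit 6144) (Steps.fwd (nat_lit 8192) (Steps.fwd (nat_lit 12288) (Steps.bwd (nat_lit 5) (Steps.fwd (nat_lit 4096) (Steps.bwd (nat_lit 3) (Steps.fwd (nat_lit 8192) (Steps.bwd (nat_lit 6) (Steps.bwd (nat_lit 4) (Steps.bwd (nat_lit 3) (Steps.fwd (nat_lit 4096) (Steps.fwd (nat_lit 6144) (Steps.fwd (nat_lit 8192) (Steps.fwd (nat_lit 12288) (Steps.bwd (nat_lit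 4) (Steps.bwd (nat_lit 2) (Steps.fwd (nat_lit 6144) (Steps.fwd (nat_lit 8192) (Steps.bwd (nat_lit 3) (Steps.fwd (nat_lit 4096) (Steps.bwd (nat_lit 3) (Steps.fwd (nat_lit 10240) (Steps.fwd (nat_lit 8192) (Steps.bwd (nat_lit 3) (Steps.fwd (nat_lit 4096) (Steps.fwd (nat_lit 6144) (Steps.fwd (nat_lit 8192) (Steps.fwd (nat_lit 12288) (Steps.fwd (nat_lit 8192) (Steps.fwd (nat_lit 12288) (Steps.fwd (nat_lit 8192) (Steps.fwd (nat_lit 6144) (Steps.bwd (nat_lit 2) (Steps.bwd (nat_lit 3) (Steps.fwd (nat_lit 8192) (Steps.fwd (nat_lit 12288) (Steps.bwd (nat_lit 4) (Steps.fwd (nat_lit 6144) (Steps.fwd (nat_lit 4096) (Steps.bwd (nat_lit 3) (Steps.bwd (nat_lit 4) (Steps.bwd (nat_lit 6) (Steps.fwd (nat_lit 10240) Steps.nil)))))))))))))))))))))))))))))))))))))))))))))))))))) (nat_lit 58) (nat_lit 40),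
  Rule.mk (nat_lit 4) (nat_lit 634) (Steps.bwd (nat_lit 3) (Steps.bwd (nat_lit 2) (Steps.bwd (nat_lit 3) (Steps.bwd (nat_lit 4) (Steps.bwd (nat_lit 5) (Steps.bwd (nat_lit 4) (Steps.fwd (nat_lit 12288) (Steps.bwd (nat_lit 4) (Steps.bwd (nat_lit 3) (Steps.fwd (nat_lit 4096) (Steps.bwd (nat_lit 3) (Steps.fwd (nat_lit 8192) (Steps.bwd (nat_lit 5) (Steps.bwd (nat_lit 4) (Steps.bwd (nat_lit 3) (Steps.bwd (nat_lit 2) (Steps.fwd (nat_lit 6144) (Steps.bwd (nat_lit 4) (Steps.bwd (nat_lit 6) (Steps.bwd (nat_lit 6) (Steps.fwd (nat_lit 10240) (Steps.fwd (nat_lit 8192) (Steps.fwd (nat_lit 6144) (Steps.fwd (nat_lit 4096) (Steps.fwd (nat_lit 6144) (Steps.fwd (nat_lit 8192) (Steps.bwd (nat_lit 6) (Steps.bwd (nat_lit 4) (Steps.bwd (nat_lit 3) (Steps.bwd (nat_lit 2) (Steps.fwd (nat_lit 6144) (Steps.bwd (nat_lit 4) (Steps.fwd (nat_lit 12288) (Steps.fwd (nat_lit 12288) (Steps.bwd (nat_lit 2) (Steps.bwd (nat_lit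 3) (Steps.bwd (nat_lit 4) (Steps.bwd (nat_lit 6) (Steps.bwd (nat_lit 4) (Steps.fwd (nat_lit 6144) (Steps.bwd (nat_lit 2) (Steps.bwd (nat_lit 3) (Steps.bwd (nat_lit 4) (Steps.fwd (nat_lit 12288) (Steps.fwd (nat_lit 8192) (Steps.fwd (nat_lit 4096) (Steps.fwd (nat_lit 6144) (Steps.fwd (nat_lit 8192) (Steps.bwd (nat_lit 3) (Steps.bwd (nat_lit 2) (Steps.fwd (nat_lit 6144) (Steps.fwd (nat_lit 10240) Steps.nil)))))))))))))))))))))))))))))))))))))))))))))))))))) (nat_lit 58) (nat_lit 19),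
  Rule.mk (nat_lit 5) (nat_lit 106) (Steps.fwd (nat_lit 12288) (Steps.fwd (nat_lit 12288) (Steps.bwd (nat_lit 4) (Steps.bwd (nat_lit 6) (Steps.fwd (nat_lit 8192) (Steps.bwd (nat_lit 6) (Steps.fwd (nat_lit 10240) (Steps.bwd (nat_lit 4) Steps.nil)))))))) (nat_lit 24) (nat_lit 9)]
noncomputable def R_10 : List (Rule) := [Rule.mk (nat_lit 6) (nat_lit 106) (Steps.bwd (nat_lit 6) (Steps.fwd (nat_lit 8192) (Steps.bwd (nat_lit 5) (Steps.fwd (nat_lit 12288) (Steps.fwd (nat_lit 12288) (Steps.fwd (nat_lit 8192) (Steps.fwd (nat_lit 10240) (Steps.bwd (nat_lit 4) Steps.nil)))))))) (nat_lit 24) (nat_lit 6)]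
noncomputable def R : List (List (Rule)) := [R_0, R_1, R_2, R_3, R_4, R_5, R_6, R_7, R_8, R_9, R_10]
def LW : List Word := [[], [0], [4], [6], [8], [10], [11], [12], [13], [6], [7], [8], [9], [10], [11], [12], [13]]
def par : Par := ⟨11, 5, 16, 27, 2047, 65535, 134217727⟩
theorem hpar : par.ok := by decide
theorem hR0_0 : lall (R) (fun l => lall l (ruleOK RA LW par)) = true := by decide +kernel
theorem hR0 : lall (R) (fun l => lall l (ruleOK RA LW par)) = true := hR0_0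
theorem hR : RulesOK RA LW par R := rulesOK_of rfl hR0
def cols : List (ℕ × ℕ) := [(2048, 1), (4096, 2), (6144, 3), (8192, 4), (10240, 6), (14336, 8)]
theorem hcols : lall cols (colOK RA LW par) = true := by decide +kernel
noncomputable def JS0 : List ℕ := [nat_lit 0x320000342064d08000c781831c00034205cd08d0cd10024024d10d0c00016319000343008008008343342054d08d20d2406c06c070074d24d20d08d04d00cfccf8cf4cf0cecce8ce4ce0cdccd8cd4cd0ccccc8cc4cc0cbccb8cb4cb0cacca8ca4ca0c9cc98c94c90c8cc88c84c80c7cc78c74c70c6cc68c64c601434634534434300400300434304cd0cd0800c00800cd08d0cd10120020010023413423433443450440040540040400e001040cf40000f34301634234134033f33e33d33c038cfc000cfc0b33d00033d020cec000cec0d339000339030cdc018cdc0b33a00033a028ce0000ce009336000336028cd0000cd00933200033202800401400409000005000020cd8cd4cd0ccccc8cc4cc0cbc07334005334018ccc014ccc05332005332010cc8008cc803331002331008cc0008cc001,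
  nat_lit 0x108c0140000300082200400e00700e084c4cc48004cd0ccc2000100230e00b33700c30e00a07cccc000c3c1e30d30c001334333074000020c300c333000008070cccd8007cd80ccc2a33202a3320a4d70068cc42830900032b064cac000c1c1830500032b05ccaccb0cb4080080cb4cb00001630200032c01f01f01f32c32b054cacd600640b00b00b4060064d60cacca8ca4ca0c9cc98c94c90c8cc88c84c80c7cc78c74c70c6cc68c64c60c5cc58c54c50c4cc48c44c40c3cc38c34c30c2cc28c24c20c1cc18c14c10c0cc08c0427001000098d4800801c2535000132a0900000042300500000b00208801003401c0342132932800134a349080004008c90028d3402cc900241f349000325078c8cc88004d28d241d000007322030d2400001c1c34934f01d34f34906cd20048d201a,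
  nat_lit 0x400f00000801c0040443f33400035f0f80f00040a03d37d0003520b4d48d4cd50018ca4ca0c9c0043c37c0003263273280053533520ecc94c98c9c010d48040df0dec3a00301b3500c0cb0000c943932500001a0e0d340480043734e0003230d8c8c004d3835323045323068d34decc88343720042ff0cc098000c00322fe00034f094d34000bf03200102134b0c400008cdb83036f37037137737804c04b04a04b04c37804404404537737637531b31a31931831731631531431331231131030f30e30d30c30b30a3093083073063053043033023013002ff2fe2fd2fc2fb2fa2f90bc03800008c2d01a0020050b80a80040582c36b0003400b4d0003cdac2c01400e0280ac0040002633c002007094ce8004c5024,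
  nat_lit 0x3650003900f4e40000d942d3650003900f4e40000d942d36536636700333c33b33a0020f0d98008cecce8ce4004e3ce404436436500133a33933800038e10ccdcce0ce400000ce3ce38e34423640003390d8ce4000d90453640063390d8d84000e302d38c0003610f4d84000e302d38c38d38e0033383373360020f0e34008cdccd8cd4004d80d844438b38c00133633533400035f10cccccd0cd4000020d80d7cd784238b0003350d8cd4000e2c3538b0013350d400406cc744133400038a0d4e2803ccd03600f00d01c0f40ac0301003e3830003580b4d60000e0c2c3830003580b0d60018e0c2c33a0003650f8d8c008ce040,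
  nat_lit 0x3a3004396144e5800c53042002148ef8010dd45137500303c0e00080fc5000500213cd900044e03e000371134dc4004d8c4c36300003c008004d10128ee4ee0edc0ecd844b00004303a128d0c010e643639800036d0b4db4db8dbc00cd10d0cd080084936e002343342341001397398120db0db4004d08d04d00000e584739539639700200034134033f118d04000db03536c0043410d8e54000da82c36a0003950b4e54e58e5c008d04d00cfc0043c39539600134033f33e00036910ccf4cf8cfc000014da8da4da04239500033f0d8cfc000e544539500033f0d8cfc000e544539500833f0d8e40000d942d,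
  nat_lit 0x34800113807c004d246a3c20003471a4f00000d14d18683430003be19c1b00b0000653400013c01980000941ac653bd00033d024cec000eec0a0160023390241cceb40046505e00019000c0100041fc6300005b05907e1881d4160004ccc010e04000ccc6133200338109e09e09e381380180cc4008dfcdf81581cc1ec1585f00137e05805517800016c1f45d37d3d73d80980983d308935a35935835735635535435335235135034f34e34d34c34b34a34934834734634534434334234134033f33e33d33c33b33a33933833733633533433333233133032f32e1700042740045b00009037b168f54f40d5c5901500d000160eb004cd58170f2cf28f240285739b00513c19c01010047003158de8014540410061541b001454,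
  nat_lit 0x10020393d41f0f40000e203300200c03b3e10373d23d13d01ec004098f807a384000360078d78d74014e14e101d3af0270041e4e9c0a800c783ad0260021dce0c000e0c66001083001024e000000a0763a53ff02a38138006c0e40ac0482d00b01a02a1d40e801cd54743640001ccf60000d886c3d60003601c8f50004d786c35b00113cf44000d6c6b0370000033591c4d38000e8c70020003000160d30d2cd28044e68e6ce7000c6f34a34901039939a39b0023541b80b81b40046d3c8022000128d400000f39700034e1b0214004d306b,
  nat_lit 0x3640003a61e8e98004d887f01a000250d7c004e949300001e248e90000d707f0030203a4244008284f3c250010613d324000025ce9c8f0243790403c90bb3ef0a13c53c63c74214224230f10f00f14234220e30e304c3a337437337237137036f36e36d36c36b36a36936836736636536436336236136035f35e35d35c35b35a3593583572390682a80048d3c308b000230dd002c01c33034c01cdc80088b3720010a50d2228000294008dc4890030040d00012200ec2500008736d0000c71e8fb030c00c860a10c0002214fa8318004303e7000369210004e5c3348300003d03b2080f43503503500f4da0d9cd988100002b3ed200dacda8020e30e2c2003e00638d1fc098014e2c7e0730000750281f00001e87d,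
  nat_lit 0x3840190032300240d107507907c194e90e8c3b00803341c41d41e0643a305728801c0b90fca13650001ccf38000d8c6c3cc0003611c8f28004d7c6c35c00113cf1c000d706b3c502500035a2800a904c3bd0e4328084e581ad1010fd0f83f44143f50f90fc40c40cf9810001ce4800cdd4dd0dccdc8dc4dc0dbcdb8db4db0dacda8da4da0d9cd98d94d90d8cd88d84d80d7cd78d74d70d6cd68d649f0050000052780140f00149d38d00113ce340007338e3bc00238c270ef0ef43b0ef4ef0e34e300044938c3bb3bc0eb3bc3bb38c38b26c0e02ec35435ceecee8e2ce289a3740003a4210e88000dc8673700013a021000c01d0443139d00236d19cda4da800904103d0381e0ee09900140f40e40d0773b73b83b9260da40000d09740d40c40b0753b53b60003672580100bc25c3f3a63a700136725406800064,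
  nat_lit 0x6f0023b61980f80e4004aa034000098ec8ec4000f485e0330390010dcf7c000ebc5d3ad0003dd174f6c020eac843ae0003930f8e44000eb02b3aa00038f0ace34000ea02b3a600038b0f8e24e20e1c00cf48f4cf500086f3860023d13d23d30013a33a20ece18e14004f40f44f48000e88a93a13a039f0020003cf3d03d12a0f34000e08843800063cb19ce00000e6c3e39900037e100df0000e5c3e39539439301d3c33c43c500329ce48070f08f0cf10008de4de0a639239101b3c13c23c3001378294f0c000de0843763753740000193bf3c03c1290e34000dc83e37000038b100e24004db83e00102009228cdac000e1840,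
  nat_lit 0x8f0d42e4154338000b83bb00043b2dc0e800cb63a60021540f800473013000148edc0090d40d8b500105f05d2d0000314024b34310013b51e8ed4104ed400cb200208f09c08a08400423c1e88300008a0012c4230240f60f5c0000f80fcec4b00010870b50972bc000258263d40013c80e0248000643c50000660e4128018ae0480052b4eb8010553ac0031381040080f025001148ef0004103bc00003e1340e5130008ee8ac00103d0422a80200002d4ab,
  nat_lit 0x4800003a41b0560000e886b4a00003a01b0380004e787239b001150384000e6c6b0e00b10290670683da02800439931400c2cd150660020223d73100042cd134900000ae3fc0f900c15817cfd023432d28127c5905911c44f448c281084ee0edced8ed4ed0eccec8ec4ec0ebceb8eb4eb0eacea8ea4ea0e9ce98e94e90e8ce88e84e80e7ce78e74e70e6ce68e64e60e5ce58e54e50c34380013d00640f40d80087d01240700130901c0010d05a43443543610148c48b48a006124f580105506300303cee401455069005304084010bf4830033d02f8180008c000b0022fd154004ec8be0f30000442f5150004f0c020bc00c0000f32ed14c20c0280500000308c00408c0a4ba,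
  nat_lit 0x12d0330012e910c000f6c2b3d90004410ad0fc008f5c3e3d50033f23f13f006c43b43c120f4cf50008fc4fc0fbc1ad0e8470013f03ef3ee06a43943a43b330f4c000fc0843ee3ed3ec0680013cf3d03d133901901d0201990e10dd0d8000cd3cc0004340f90c8000f28403c80034300f90b10b50b81b0f8cf88f840104942d06b3e23e13e00033c33c41210ad0b01a8f84f80f7c008f08470693e03df3de0013c13c23c3330fe8fe4fe01a4000f00f04f08cb3be0003db21007c458004ca42301a000324ee80005544d0003b82f8058000ed8c80270003b42f9194000ec86c4630003b01c9184000eb86c45f0003ac1ac2e4000ea8c74070003a81a831c000e98c6,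
  nat_lit 0x3fd01a41a0d4ff8005214da4da0013ff0cc538000ff44a0010a316b4dd4dc4db4da4d9364fec0002701e0a44390013fc3fb07401028026c660d80034670cb35c00848c19caa0011560dc0fc00059c644640033f634c194490008aa0b70ba001354588000263f10024611e400429c2ccd400015e19117c008fb4d60ae0a80013544fc000d03e900245d1e400446c19caa0000a10a835012c010f94d302d40400334810d008008aa058049001344114000d03df3de0010391780004c40b4cf,
  nat_lit 0x2003739d2945c13ed3e93e41d4010fe0e64a34a416f4fa4f94f80740033945b93e53e13dc1cc008fd8fdce44cd4cc4cb1690720013f53f638c2551c0000e23f200114cfbc0045446e0003ef2f8195264000fb4e13eb0024970f92545713012fd2f800cf9cfa04849349415b4bf4be4bd0023e611c5692f92f52f0004f94f98f9ccc4ba0003e30d800523d2412445612f12ed2e8e03e43e33e20001564e44e54e6291230000f803e3de00048a101220000f703e3da000486101210000f603e3d63d53d40034d64d74d814337cf4c00935535935c509205200de3d43d33d20014d44d54d614637400134d3513545011fd1f91f4dc4d10003cf21000430133c5d0000bd4782090990950903312445b92f52f92fd3b06b46b07047007046b06b46cc6cc6ad3b13b53b846511033d1c84bd320408f84f80f7cf78f74f70f6cf68f64f60f5cf58f54f50f4cf48f44f40f3cf38f34f30db42f0003f7114fdc0a50bc36,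
  nat_lit 0x18e00e1992ed144001444f551151200244e44f3d13900011a8f34684670014e54e4080348000600f24e40014640785f400033cf24614600004e44e307539000421cf108800050e3c143943c00539138cef4e64e50015105113b938c0014385900011311600100449d49c1123b444845400000d2750d10cc0c8ec00249b11714e14d11e3ac005268454530210001194be3a926526926c74472071d444689271274fd4fd0fccfc8fc4fc0fbcfb8fb4fb0facfa8fa4fa0f9cf98f94f90f8cf88f84f80f7cf78f74f70f6cf68f64f60f5cf58f54f50f4cf48f44f40f3cf38f34f30e93fa0004d1115344000fe8363fa0174d11154041e803c454b00044040b12c000d0102b4d90014020d53640010085d0010071032d00000144003f0000fe4003ff3a1220000fec08,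
  nat_lit 0x4e30005003106540482b4fa52c00414d4a800cc04ff00414d3f400cc04d30031cc648009498fd4250031cc1380093e4fe5220044ce1b133000cc04f50044201b0020010ae41b003138128009320fd04800114861c0050687204400004614000405c00905cfc09d0010451f865c00010cfb4130035231e810c00827c930430011953e8000268260020251060423e426c005078741910000243e1074005474da0240001913dd47003c090f6,
  nat_lit 0x53215f0012440014cc6615086705b4138059074450011cd10c0001053019553e53d21b1eb4ec4444434190a0005408660001572480d8354388001054240002fd44c0010886a51300042031944c0010786a0d300041c1ad23c0010686c0880014181c90540045446e0004151ac2202c800104d0419450850950a00240c34433c0050246a0880001e90380007350600040c1b04c00050287240700113922000101c6a12a14a0004054040d00dc5380dd000820021973583b4004660fa0ad0e05010013fc0002b426,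
  nat_lit 0x4ff00814c32001c564cb00715017c0181046a0071512440191a8be06e0053015a80152b1134ac00414c74800c49c6953c0034c444d310008530bc0010683f874c000495125380544c04c10014c1444478000478014c00014c0010474000474014bf4c00004c04bf44044c00019816077c0102bc44d0f0650571de0030b20001171124382c40087741587947740082c50d5105110014844834310dc034000a14830020003c143c59011000d0b449001139124000530a35330004484291200014cc7e5331610044241314d000d08,
  nat_lit 0x47000114d1b8000c046e00003200046038c0cd1b0310a70000a645d4ed4f0029231235160e70000e84512a92a401d2b52b01d5890005873107d80007dcba01b0010892dc0540002a4a305b0014aa34c15c00003893002052553025298004394f100a0005323c07e01e440000c7ac0307c00291557a0610020e424c0054a4f35030000043d5498028004241404ee0ce00008b4512080014245950950a01b483482431410014540d00041491d40245507900803d2d40245406200814d4700253fd13,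
  nat_lit 0xb90004630340082b46f9649264610015b91b40008ac168b30a90590010692800011781e00200100505b05c4956d86dc0007a459001139164000535b55b65b724517d0070080034574900089147c466d2300154549c3a800062c14cb100447019c5b827658f5905915925935945951f258a58b58c2612602552575651dc5151b646e46d46c46b46a46946846746646546446346246146045f45e45d45c45b45a4594584574564554544534885c41ac011211f10a00032785fc2840092016e09d00147c6141900011e4690051381b61de25323809d4740113a93a44bd4f81d0031345182000084d158d1c00113651603000139d4111b1321b01d824d24019046446346921921c00445d1953905f03d3115c43880f01a4730004d91e800c008c1,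
  nat_lit 0x1c502a0020054d00080ac004d402400034115c0000a07907c1c049800218c06c05804c0053347a0004540cd1480093041e96b16ac769255320011070f90c64c40012fc1d96a82156656526b2982995db5da5d95d85d75d601247647547447347247147046f46e46d46c46b46a46946846746646546446346246146045f45e45d45c45b45a45945845745645545445345245145044f4c00503301b4401445cd0b00d355a55900948a4bd1e400d2d52e06b06c0160040030a82782a40092d5c91430010a41a0440000284730011cd1c4000105500020004704b00305185780112b4810011392040005354d1c20014804a80056a472520d2947f0001ea0609f1714008da00c5c30014a11f80047347c0000417016fc17c01800564c7091f51f127,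
  nat_lit 0x51cc0054000114fc6348688d88553e00353e1892354000095687293d0011ce0ee17400073014cb15575585872306056045d62aa5ac5ad5ae5af5b02365fb5fc5fd2b22bc5d72b61e44b804c47247147046f46e46d46c46b46a46946846746646546446346246146045f45e45d45c45b45a4594584574f09800000300b47600f00e00816f5c65c55c44ed22c0005459300048b44c19c00122d3a0ea00048b1a437000522d3a48c0012fd4780012285151d1625be16700048d48c48b48a4e54b4035234da46f00014d3000011b11b46846a0014be19d414204009024bb04a00125d2dc01121c194650001cd2d400518c6c4610003000012100291813800058d58c0884dc9600012087e0011dd21e5e24d92000005a135,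
  nat_lit 0x22195a609400581c0608d00026e0d21698109b96b81bc1b56a96acb698918a98acbf8bf4bf8bfd8ad8a989188d889885880ac48315f051051407c0651e51e11dd1d91d51d11cd1c91c51c11bd1b91b51b11ad1a91a51a119d19919519118d470000305350e40c93a53a0015239465c00c000451575430000c1900003f5e9285241244001235238f400505d0385112240041048900003c2e0a180092214300128d03a35400083c230580014860e414400000cfa0030ae0ad04e5080087c48383ec6248200154d50400078d20cc90aa4f259a1d105b05c48248150157c68c8617c80081b2171de0014b55746a00007a4670001cd7b80011946a1df0014633191800044e5450004601b078c8100011793f,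
  nat_lit 0x2761000254000cab80054f0da0002512600044a42900007d0984644e487525d4d15657d4963a80b95ed2554e49d0014812116300080bc0054d00f1d30000d5264004554960011516240012586b1d200c012494531890001381024e00006241e18900013807e4e00006241e1890001381024e000119c62452d3800015cc660554e00000014151c80041787a4dd0531986211041270014715296b00040180014946e0011551ac004545aa00046b1ac8756280011a54800460960860724108000c6d86e091,
  nat_lit 0x5960004e31a9658005384be5320031543c40081b84c06200413d4b400c5459100252d1ac180008554d60011506780001a8c656f00403a4d452001c000018934a84a90014a946401c00001c7e4a80050014a82c95a40000180d0070d35675552880012f8364be0004a20d52880052f83556402f0011f92f4001284354a10004bd0d80cc0d12fc03c038590a700115410f60960800349f5197ac4180091c6046050014a05e859c48801d5349c0010412740045329500049b54846184000d26d51,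
  nat_lit 0x51b0002fc59800c4505687d823d47146d4695a595000647504b880007051f5fc0016714d46f8000b7d596700005fb5048a00006200d56c0005c9030894000605586150015ab034600000888e70fb0026121c0b38004b640d2d200018239c1e4000556610005032f83b00014046a2ca0004ff1c83840013f46a5e20004fb1ad7800013e4c82790004f72f994c0013d5576530004f32f994c0013c46a1280004ef3184980013b46a6530004eb2f994c0013a5560e90004e71b1658001394c6,
  nat_lit 0xcb27400250d59800095c0096511a68f02c63b63a116001509590440001424330010031e758d4180013a9620004ea4eb4ec04a5085075063700046d8001614e700011965e0255891125ad5805e800139cda4e70001a34d441000539d412fc00004402d39800000c5e003d68c79d8d55f0020140414e84e74e657939939c00c0055d56600065905c0441080f8008ff5a50015645701000002656100110131000010c231471f65c202b2c97044740a93d1d50001d747c75c0056640b23b0001d42ed658005740081d000023b56d7340047503023800023c3e023800455,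
  nat_lit 0x1a700059f2f9a280016746a32500059b3199740056646c59600215047c005658be0040032b401800964d6a5910011cd63c0001058f0001450005a44fc0056355c11d0000980041004719e16858a0005a40206fc0816201851c0006290e47f4000050fb0140015c024c0440007e89e5bf0004fc0913f00007ecd65f50054fc1e4000c381e5676720020592dc1e0c2c00487000050191450004630660540005ee3597b01dc0007951000114d438000c0,
  nat_lit 0x12620f00f65d400086c6346457419218f35431a51d51b51a51951851751651551451351251151050f50e50d50c50b50a5095085075065055045035025015004ff4fe4fd4fc4fb4fa4f94f84f74f64f54f44f34f24f14f04ef4ee4ed5cca142a0001590032162152443162ff0b90bc5c800985985c969a657100125769820000095d8547921221124031231334e1895165c00045e5aad6f0001181111005cdb4db51b54c454516e1092145190a01318106d0cc05157201698945949e4599738744b58ba5a39a3da41a449489019dd9e19e59e85a88658281dd6904c84cd6856805e9a39a34c58e487e57d57d17cd7c97c57c146145d45945545144d6d5a901d1c50dd4e80007357d0005381b15ec0014d8725790035341b02500080f094003304254008bf57400152f1ac248000c05710002620925b15bc00097c3024b0d60004815b03c40008c5610011cc108004555a300055e31d6840001016b,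
  nat_lit 0x53a0000ea3683a80094e84a02600053a1e00043c8b80cd97f5380005725043c066c671b384ec5000954e17e5120000280b56996956900ad50d51151400c6f5a302a5425435440025115125f568d6880a550550950c0054406e02854054154200050f5105115f14340015089700250a00053800016c5d1ae81700097b5420015091c000416c5ad8181614fd7a5060005411281645a58141c017801540d411791b501b00431180c17800c1a4fc0006b71c01115715740197804406e0980055dd3f0000735be0014fa1b13e0000c005809b0014f75d8320000644f40010c80c80003dc260f90014f10e05dc00064,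
  nat_lit 0x5480085bc015bb05ec061865450043861f951c00052d70d681e828c14700054c0003bc64662003543198804009504780ed00109800c7f42706387cca2c1416f9850020930ea1414a54f400590cda0002ca0500ac24196c4f972171c0014f54f18453d0010ec6980eb55b0e95c660c0003aca94128f90ed60e0003694ec0001020800053b1a40d40014ed3a54900053b44c03c0014ed820ff00053b6086a40014ed821a900053b1446a40054ed3a53e0012fd7a80054e86919d00153b2f86740014e44c61e61f1b01b60e800153b53a5396058788f439c00180,
  nat_lit 0x56200a00501a6441180100607d5540000482dd558005550780440000416401180055546d01200019000c00428161c6355a00064d1b24d869400000c245530036460a5541544005280920910e458658558409a00363c01160d6080095414664308300109067c2600001954e0000402540055386954f0011cd5f40015344c0956f36f20b907a00354f54e54d6395e00e40ec2558701e40095398d0b76ef0750015fc2d81d40015358c54c54d00253d03809261907662d5d41e000c0058a5660010006214e80cd5cd5d02359c427c005890502720006215240018d03309e07d08e00361c64000951c78,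
  nat_lit 0x318500f0127342016481896740097fc66c6700519c00156c0130940000180048c17919856666c1716600054400859600066800959c03cab00117d1783080005d8a11581733d256121c639af0d440059912d6db000660001bf1bedbe88c08fc8c4945953c718e55e16401157c5d80019700238973218a005003053139658005c8dc89c848f48f08b89c99500005058b198f246255691400374b13b04f360009d2cf6d70d94001186182510000f1412cd41655561900015c40ad7f5930280002516240000915c57d0425894089500840799255701b5830f9598001590d3,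
  nat_lit 0x1f203c004425be02ac00d2871b03a0012456881600002d5740011cd5c8000100a60f36ab1f676b76a0025735726a95cc005da5da9daddb0415c4da90007681e0000225d9dda07d0f4c7adbb5bb0e19d81d7dd79d74ef0ef4b68b85b94ce0d05b58dbdc11b55b50d15b50d25c0c71c725c20f21d78564545bf5bf9bfd8cc6757c057c4d84cdc300015ad5b15b55b95bd5c1a80010036581d169c00000d67cb100357d3e97743b072a72972872772642475077d43e43d45245145145145243d43e77d75042472672772872972a5b35b10785eb15c57857757657557457357257157056f56e56d56c56b56a5695686998b06c0fa15f15ec018a48015a50ad0090012456700280002d5bb0005780780019119159182dc2d82c874dc3cf584544586198f46217a57a0661bfdbf9011dcd0a50a90cddd5dd1dcddc9dc5dc0eadc95c91c8dc89c85055051049d25058e84de5be463983d5ec0696e16e56e9a40e32d909400468d5c80041057300114ca280015c5526a40910005716895c400569c740a20560012e85201580005856e56d56c56b00308e260056684008199680850015a32cc6800002359204a08a3de3d756b56a56956856767c0106185281900500557601959e,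
  nat_lit 0x4131e75936c18440216802c00427c3193304dc00ca7c90c2e002299249670019670001af21100159c409a4c0016700900217d2983e80045f4f9d585980006090b452c540fa05445505f5665661ae5940005940256480016480a5900005900256380016386658c00158c024055ca47e4055990030150036b40540084f585001151614000735850103e40126b1b48314009286b51e20001e95ec0044e57b00014c77c9b80095e9ab06a3ef001350558000d05780012781f8000a28188d5,
  nat_lit 0x5a80011556980004e08162811f0035a66f00088e5ebc62dbb00129d18a6e8000020926eb0025a3311ba400568c7f0060002500081cc38c4c07c5a0001228064000b1847c4075022c73000059a59b59c59d6e40004504144a9b86e3000597199654001b84096df000593028008099b74090010395f805c0000d9d0d1b0240e86f537f7252117273656dd10d61761810a10961b0c100459e41f7ab7ac7ad7ae7af7b07b146f78946839666a1fe62406005f05005159d59c59b59a59959859759659559459359259159058f6dc01047c5848500311f74f0c40080e96c5b60011492ee6d40019f02fdb411c2e424068b2484214195986cc315ce0000f000374d74e3ea3e93b71fb1f86c8009d31d34c18c34ef8f69d79b100124766f198000e79d2025,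
  nat_lit 0x6190065cf0a41e40086408b2d60002300047e07edc70dacfe0ff1b6dc800028027407865daa400172c330043120fa0f971c00cbe46f8361c600228b2866f565d71c005bd80800030d1af324bd4ac1e8cd1c00970970d711c55c2009001002710af00016fc1700415010e22c70c00c2ec2c4231c200232109d704004e2468dc0000045249be80096e8c409531e001540680e18001c000219d2b3284004114109bf5b60000b53d59e99e40096cd6d0ee2ac1970013118d04740002d5af0016756f80004658585a6726710055ab5ac6f43bc210004c4,
  nat_lit 0x6ac0c00032180280200088510a1030006200040140200d5dc00063d25d8f58f98fc498035760018015d203a6a71280045da745a982f000ca100c03f01100065c0145689bde4c108041d0004146122636089750004535d200030197454c005745cf0001576402c5974001738700037457462f42ca766767152738009d0dd09d045d9b900e0025cd00112169816c000e44888977417423863847457463b93ba1f11e872f3c77d51e51b71e21cc1c940b7d143877c2156656662056ba20319370628345e7ea7eb22868c68b68a1276cd06403f5cf5d05d15d25ce5cd5cc5cb5ca5c973173c001a580811c03b5cd035734001f540c2bb2ee03100072d72800d748935d00006285058a0001740740101b70d109d72803df6cabc0d53300062c62d62e0ec5fb5fc5fd7258a80297405a,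
  nat_lit 0x6d10005f41c9b3c0017c86c6cd0005f01ac1800057b86c5ec000300169b1c0057addc0e41210004b97a0012030695eccb780bc0b5db0031e66c601e768008be05e16f0014730617640011dc5f8c980780880980a80b80c80d80e80f30241541877743e7c74b94c14b97ed49f7c23fd25e26168c68b68a1ff1fe6871c22a97ba4858103012f381181225b25f5ed5ec5eb5ea5e95e85e75e65e55e45e37619747a4000a100116f6c875c00012c0b08267f68068168268310f0005eb75800c8940d00d5d500221e3852e554d7a0004520660000a3249aa40017947f0046186a921400c3011f86d0020bb6436800042ec719d40000bb6bf6d02942a08a82d02d4ca8f3cfe9f8d2fd2f6029304feccb1c9cc98bc8b92008bc0bf8a61e1c62dfedfe9fe5fe0b98ef5e045f09a9df8f61d38bb0624a69ead1d8ca02d42dc4b428825d92978578177dd300026b08c9fc1417a5795975e30075e43a978400010429,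
  nat_lit 0x460e79a3cf4574858260a179c00d834f44041dd00200573b73a1f0004014391d9000001257101824ed8c64ce439d81de66d96da6460e51706e36e20007940099cd9c8461b80ee00105805a7900019c836c900d000060378000da4401401dcc49d09e4345e30026904157327740047e44dc670001f202a3247d4eb17fd7f93781700160805c00c9b87c9a2de200272a09108f784005ca0ca9e000032308a350af800180d5c6010007ac094db8514004ba6370005ff5880012444e92e81d81e3962516db6da6d900377cd04bc842193c449b600097f1de5f30007a00a46180c40a8025dd5f80002fdb4c0017d86c,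
  nat_lit 0x8070006222fa01c001881570bd00061e2f82dc0158706c61a00430001c010c10050032d98540084e61500114c004001854fe6130022b5002460004ad45d0650002b2099c9000983c3816f267001194ab80006460b0001f31f47a9fbc001824096070007ed029fac0098140912135c001700330000646010027e7198004d68441c000010424929085400886029088001015bd00017f0845fa00207c0771100290270877a4004858ce4410000be638275bd0079861865868a30a220fe0fa0f60f0c7ccfd111e9919e0853e94053ea10d211fedff02742707eda70818d6d83182d82982582181d81981581180d8098058017fd7f97f57f17ed7e97e57e17dde8,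
  nat_lit 0x69518e6cd6cc6cb6ca6c900b6351b94177c37c27c14694bd8634ba3e83b979e3a03152043677c94537f92e51f77fb7fa7f97f82f34387b11f92e57fb4397b03642032f63853f63f41b972715f6337d1a0038cbd8df89600298cc001f367e67f0024a000c14c15880df200220224e0594cc005ff037cea0003bf2212c47fe1c21c61c8fb46c98b98b5f10032514580527c000893dfedfe8e80011216427bc0002782684024d3733503e81ad6297b8099a5c3d5630180001961081032137a92157b60b8648051b54c21900130c0d25f911140097f0d68560013288992f0000c96360014c60de0df0ef0f06620e50e40f70fb6754e12a912111f16f25f45581a4f784551151951181f4967cf4707282a886c86d86e86f87087152f84a84b84c84d5234e24b24837d246640c2622657b0000b54ba8398042e90023c4335fa4004352173ac0007ad8c0000552dc00062e1acda80018b06a3da00062a31a1740018a06a34e0006261accf8001890c8,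
  nat_lit 0x1211131120037f826a238009fd1e94fd00153cc14000646470024f6028004ebc7214f0003040980b800d90c7f0f168a50b2e073b2ca43d0017f1988d4c0002463f0020d368007f07e7011f930e4f23138878868853573588828818804a542e7ef7f02982993878468478a18a28a35715705715705718a38a28a18478468458444df8504dc3f91311322da2c843b7ec0049948600b4e863e000744064340370e66024db4c2485800dfa02a0262150025d62140058ec332004f50006218e18dc018a2008996409c849f96360052597e37e27e17e18d4010a14e442100325742e1c44cc008a05f80ea00126a1791740006b047cb12537de4224207e17e24554567e57e68154be5554be4807e74524497f63f23eb3396c61af7c37c47c540c81c81d81e35287434d8228232fc3f98800b40c373a6396386376366356346336326316307dc00cd80fec701f60023a226417508400492814dd700039f075620e7d068fde1f21ec2bc2798d5f500114769d20000056da9d55,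
  nat_lit 0x2291cf18200217864c7240056576c1c400062197801073472dc2dc30729b560765e65d0032263367d223d22b81800884201c6600170b18b25c00040da885a70a26821576d76c76b09568f6906913032ff8b63a33b134b83a83983832e39282e32c5143358a924685532a3ae0e40d366a0320846f415c15f7312a027727484d14114300365e65d65c65b65a659814679b7c000d2002132131810005da43a5630001a1142560a1947996a0300a0143391e400ceec189c00603bc00053c0001ade909166466566600265e808c4017c0052d65a00213d9680047300600415401800d95e016550021cd94c004100010001599480007b0002001e73af0000f593c00a1040864e00065a0301588be244011ff,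
  nat_lit 0x9e1cd67d1280001545bc8f6866876886890360350333417d23ed2640646920670a07582c72d14c788c5698b758358458e8b98b88b78b651e8c18c08bf8be8bd8bc8bb5995985968e359a4d44058001861836cf6ce6cd11567b83c0104603e0655e4de48ad04ba0e67a14767a0032c800801c0189808a00178c0094f40008c5d24821131048cf25e05e0590586768347c8500004870036ad6ae6af3213204bf8845618af57b57c8885848b057d5084e08602f51791760d06b06b16b21041038038048058068072377417422342337451eb1ea8a089f89e89d89c36082682782804767f830008160164320010aa8551e40002c1e14770ab8c86713d40082a8150149a30012560a60ad64c0023185320b2a066e25002c03db995500068668568408677c77d77e331a15a11a0c215dec8849f000a0a8952240011e5b647780014166d00114d9a80041027700066a3188722380099a0fc1993d2001824a494980008766400188a198000e9001608,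
  nat_lit 0x8bb0006862f856c001a10c71580006821b0280001a00720a300067e1a82840059f06b67a000040298344098089a8da901440119e61500304582d2740081322580d0010496af7500001300021404b0470486a46a57a612f1208eb8ea8e90640601316de0dd0dc75f25787086f86e86d86c25610310468c68b68a68968868768668568468368268168067f67e67d67c67b67a67967867767667567484c0085cc2c0049e20014c51d72d0000900648680006891980049a88f89445e00081d1da174f4417416401801c411a1da1a126ea6e96e816000107400c1fc20c00dc400207f1703d40041fdbaa1100007f73e4b81fc9a815c14c001a0a10003269053052360008f244d1e00018d90082a8001520944d42b267e251c906699f87e,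
  nat_lit 0x6c80880050012c8025ad40014e6b613815b0376b90366e80038609450842b4009c68714bd0af0012c9b98001ac80c6b00000ab02c6043a03cd0d425400e1789c3f00940027a8289b3023c005051060910002c5aa800023c190e27703103198548533320058585d23e54990dc4ec4dccb8011641bf32e0034b4428418008911b37af00125c3603500002d6a20001cccac001a815784b00069e2f8d90001a706a7c700069a319f1c001a606a4f40006962f93d8001a51578650006921ad3e4001a40c85bd00068e1ae414001a306c54500068a1ca2ec001a206a,
  nat_lit 0x4ef116002019bc04700053544d117000015ad0004c06b50011cc1a0001acc4c6d92bf3b14398c031422900c6b38810e0c608a002d4b0c06ed22600a68c0740842c0025998332260083c1b742a801d6118a1cd00687c8f5d31d35d385405a9b4000e1e7df7de7dd26477c1c06cf002829dcc13c005456e604f000421ab0000536cb0016aa319a9c004547570006a72f9d58861f79f75f71f6df69f649644d44bddb5b0c0300402f8c90c8532d4962452ea21621130d3162062021fd340d74dbcf0e34a34634233e3391fe0ed1f21650464850ea07c00da81a85a89a8da91a961d00238d2b53b82b507f07d07e8700060709b1650004320302c4e2a315634ace304fb244cfc62f62f22ed2ae1952ba2c14ad0590662ca2c62c22be2ba2b4c04c264395e22e0de4de113075c76493c7106e5db1c0c4504e5c11a95a91a8da89a85a81a7da79a75a721b00309408c1ac68c008ac42282421a001918041864001624690b42f16a119000025023,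
  nat_lit 0x3c83e76cf8a4008f18f6cb01f60010050022d54a4001078011d794b94c94d3d82bd7c628a6cc8a069c67c668001ea00115573b15989c00106c5be113bf94a1436c989800c5b45ac85dc20024181518240056b0999670003c524a4fc001b140900238041c028004e013086d0003814f56d0df0fa21a8f997050ea48648247d0ed0b6128f893d4f86284b5a110f056b2504f2e2021fe1fa1f61f05f1cf061c435c15c1836c7087064f90410464ee4e80cdb9de4454c5649f5ff5ff82e9b09b06250041391292c561800e4fc525cb92600293f0298900050b0662190005a720688cc5daf49400428d8980c413014827dbc9bc41c01d00262201e00413c06800cbf6b90021cc0640040f019000149adc00c465d4496605e060a2405e21,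
  nat_lit 0x242000191b98005e603900028617d0b9e5c9080087e287254001215e45e40001b06e000103db740044e0f70006dd1a83d4950bcd170be4c99f3800db6e308b04f332f0028bc9d0cac004ca0591060000b1b58000557c90006d41acca0005b486c6cf00404118800db3cc60050042b801c00c546ca0021cc00c005b2a2e003000149b1c00cfe0bccab0ac0ab0bcc00e2d0022ad2ab2f28b0004fc64b1ef0005130034b8fd0bbcf264157324c1130b8e24e25225625911970a408bce558f89704f6636d0fcf6cf9170255475c7641e81edd94395c0c21c6e1b4db49b45b41b3db39b35b31b2db29b25b21b1db19b15b11b0e2b0039534259530038a80083182ec090019523e91dc00074dd751b,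
  nat_lit 0x10328f002c0000c80021402d5fd5f81331341226fa6f98dc004838004ab00020f21e2ec8357e9be0b12e22e50290e42e4294004bb5ee7320003e000538c2983f00026308e298005c095c0080018a70240140022947e4df0330002e800dbf9bfc791dd1dd40dc0ce362f600300221914c01400535298006000681be9bec781dc1dc40cc01c006357dc005000514005138002346f400113dbd0000bf94c94d3158792f20cf0ba0036f28cc325ca02e4009bc5bca3229529224a0012280a8a340021f6ed0012fdbac0004e24679a0026ea8c46fca1c0054f,
  nat_lit 0x31d81fc1d40088395d8a30011d32c756000035c364f21d361271362000c1807ede8481ccc9080cd24200272b7897900041764d42500005e79d24016401c035c9cb947046edfe5d3c26e68a68d1e4169c9cb947046edfe5d3c26e68a68d1e51e269a69cd1445845c6d0181ca419a42c729e50708705e5de6045c45a5510a52b5282390a85f7c321c3e41001438001900b1d0c0000cf0031b061528c009e500d0f80017940308fc00044444a3e1ab60e70980c144155e4de488088e42f00023d0040500547921c38588578561741772ae87b1d21d029e1231221c11be74674574474309f3cc52a48b9554454f44428e535287f40d40e87c87b45520a7a13f944f9822602531761748552967d70bb8f000dc7616e17021c2188cd1ca3b00204c8177900041310405b0000187160f813266086c8704d5d801e1c0e3a7a600070336800a3e4461d4044c301d082ea3955240300228c174550005925503480002edbf80100c9258d68d60e1cee2380030338f202800801817431,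
  nat_lit 0x16387375840012b88c58897339a39d3c685728528281a1aa1587902964139639649659669679685e599399299199068566a98d60e9405e856a4374323988393a34f80c20bf72f72e72d72c72b72a7297287277267257247239380105385145c24d00392e09b7800091b400a190015801af33c0016105f8b392b4949c272a93000ddb9db5db03189dc745ec64b0020b61501a28128118100609280042d052cab0000b505f8fc2dd8a1c98b17ef29d0000b40103c0375da838cd32524cce490030ef72500692000862d35651a2c0017841877bc00062e204670eb0d87661e31e172091dd8c2a40009100207991e1dd7a71d51d47aa07c07e01172276301b01a0207247487a71dc1b77a51bb95f9604941e11df8748738721901932ca89789842a42989b36e36d15717017116d2242299732772753008739180041de5003664500007886e19c1d1d8434dc717701000f01506f7380763f3001911de0af80000500273606d1c106d7360743f13800041c54c64300007156c8f81b985dc5e03,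
  nat_lit 0x20348421e40040d5d5c770000367700200c8cd583279a79473075d6525594a647948913913e63993a790f7cf5e60a6050b90a80e00d8c4cdb27153814691ae434de5388db6348dcd4ed25d1050c50cd6845c4478334328cac7fdf74809d025200459a18b1a091400d598ecc21d7f00232031c9343a00054bc88c6700059f32c1024c8c7a0d52a18f58f277677a77c065d258196456525f97e8fdcfce4e974a780fc0f0a53252c299da42807d055c55a6511a53b5382490dd5378c2c93dfa59a90fd0f0c84c7d3c4b9e0888b8851cee510002ff17353e280ad4015457d11fd004425d9426c00ce22768320024a00489e89a4cb5360c14c1a186500114c49bd35b7d9cfc000531f100073d1c87c8001cec6c22c0007392f88a8001cdcc77d30007352f9f4c001ccc6a7d3000731319f4c001cbc6a7d300172d2f9ca80044f7d200072a558808b710f8011ca24f00326b25936008400a5dcb11d7,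
  nat_lit 0x75d001040180005d78c706000075c44ddd2774f60f4d01e3a89049154fe7112d158d2c6550f063b91f11f63ae3a8c74799fae5dd07d08143a731a9197680680a80e8128150586504f83b43aa328975ffc5f45d44a0498009d5dd61d65d69d6e573a512312500152c49048c730001297530002fc488001d44c712000074f5591ec001d34be90800174b1b1d18004545220017483193e0005d15139db0007451a8e04dfa19414dda01e0015d09d0e5600708477c77d0040aa0b01e000d0291e078002068a15dec004977a50740000b5cec000737770007391b01ec005cdcc67340011381ec001cd06a07b9ca76306982b2e2380002732954004dfcd58db1910005b904832653cdae148b488c9fbc8f84bc4c0315de42f9de4315f6877566a5714be4914a11511566519509903bc3d2285d15d11d0dd09d05d01cfdcf9cf5cf1cedce9ce5ce1cddcd9cd5cd1ccdcc9cc5cc1cbe540040378ab8ac8ad94c00dd58344a1,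
  nat_lit 0x76900014cd28001d9cc68550017651b1d880044f0c00007622f82f8d20e3800dd825d0023b238e3a308400652cc55650005850e92c4ebe52d2956254828b8ef66e53294c148a8d15695717fa71e7227267296ed6ba81a81e822825489aa677956556e69594e7b1b6db8db6d9de86d9497165da5d65d25ce5ca5c5d85d81d7dd79d75d725c006541001351d80a91d8000cb20021871813bf400005fac6fe5b0007eb017584615f85f8a38c9b0931f8c6ac7f61b4b54b6654e5526f58f1afdb66835c028e9bedbe9c3dbe9bedbe5c05be68ea8ee8f199e6498767019f59d992265d8ad74509d0a8711fec719a2c34033033dd725a2fc02001f516484c14000a1769001041da40000f2ea16700176896400059dea9c01623d50095167c8e5c0207816087c0074a233c7b47bcb3206205c0b4012582b902b0030901380a40087896002c0011dd2080980014176300014dd94005d84be,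
  nat_lit 0x56500076a1b2560001da0c69580007661aa560001d90be4ef0007621a9804001d80c69ac00075e1ac2d0015d715775a00413802401cae0090062d8024014550090042fc02400dd566475300214c020004c0001000149d400187664751a232484476001a630051d72108c846791c4ae4ad9880107557cc410031d307121800a0023cdb60011d538002c001ff5e95b01d12072a9a2ea2da2c68664f9d29d19d09cf9ce9cd47d23576c76b76a76976876776676576476376276176075f75e75d75c75b75a75975875775675575475375275175074f74e74d74c74b74a74998400222e22a22492c94494a0926088a88988824a25034b35100597c710c740107985f30a003284c4a2440094100a4a831e31c8563581850199780242b82e460df2,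
  nat_lit 0x4b03792c52c12c648931d3193323dcccccd12f1bd2220c38c28bdcbe21d4c0cc0882e0d88e213899cf7e3ac2b5f4e4aa4ae4b0eb4a24a0e30049dfca0a46a06b2158939185171a8a9852e4cd0c7c5ba051dfe678c18c203703d38989589400499829840c7f224800e658c833d0021e2334e2c00477039388000505e700005388d00079a1acd44001e6156352000796558fbc001e51569c00007922f9558001e406a57f00078e319380001e306aa1100078a1ad048001e21579a50007862f9404001e106a5b20007821c9408001e006aa1100077e1ad62c001df15758c00077a2f99e8001de157a4c0007762fa930001dd06aa4c00077231a930001dc06a67100076e1ae758001db156,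
  nat_lit 0x780712521f1260c90c887b87c8e533233d3c83523505c566a695763aa6aa7aadaae782781780781782aaeaadaa7aa6763762aa575c6965c79c25c158da715a399a51742558638c8c90be0bf7919ac0016f0264aa51f0e90eb00552e0f877c4740110505e80300366220446400a1f06b8be00050404868868c67891a2a4bc4bbccc551e6de6e26e66ea6ee6f2895a91c9dd069d5da29d5d2692e93293693a93db55d41af5a4e87e882885a75a9da0a76a76e7718c1836a4960dc0a8ed0163b07447526a7960002fc44c001e50be8af0007921b0e7c001e40c68e000078e1b0c8c001e306b32300078a322598001e20be9660007861aa598001e10c63d60017821a9dfc004543d300077f2f8f390554690553bc64c650011df66900323b4ee7900081b5f0c5b0018411dc25c00075476c3e06b7c00570580650c87dda4754a549a4a1150e70e60e55179d7635a074fd585a0c6806aa4c04c14cb52858114f14982556c9b45d79974ec3fe78578478378278178077f77e77d77c77b77a7797789a00152ccb5cb59f60044b3a7c30148c00e4a4cf4cec890024af9643a80044c423483,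
  nat_lit 0x100120117ad0007fa09109209f1028171271263503535df35228a28e91b47c71347b91746f53557da6353053b542a8644d9b29b39b49b553271dab344ca5b5346315aaa8e59b5559d96074640029ddfe4000030545538544031eb2767ab7ac7ad7ae0020014d598c4d79389374e79a655e5755af74a765a7076da98a97a966feaa1aa0a9f5e49e09df9de9dd9dc9db35035b3e63703632862872b52b74f46622321df1dd20f86e0350239d5eb00013487424123d0052ecc6c8ec010017a90007a9029e9c001e9c0900032600000de95e99e9d1ac01c02402001a747a646a0060080070058b48b59cde91e951a401401c0180122ce720038b28b38b41ca1c98af8b05f0008c84008310011091136d5e780022b8978ae1c31c887a87b5ca47590b46a5045075d49cf5e69ec62f23f25725330a30f8a230998541d9039029019008ff4179c49c39c238c38a8c50367d429d4e5a344e14dd0eb0e93c61f30870040080019c641023800cea79a00114de60000c010f07e00079777000e0229bc48448c7b613420a70002807a6fa70a71a7242b52d9bc00442c0045b00010c31c16842a33233633a33e342346348e5d685b82a26a22a1ea1aa16a11daeabaad2ad5e25e21e1de1de1de21e26ad6ad2ab9daea12a16a1aa1ea21384d70d6e47a47524924646a465e5de59e55e51e4de4a6e00500d12212111b11c8121169b40100303c83ccdf232231cdbe6c0030061eb1e80080127bcc40010020992400000162185a,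
  nat_lit 0x40050bd8248fb5c400df1a4ac800020050646fc00400c330770000061150640002d996aa66a60ff0fed97e86598a991b7d72964a871b0aa5d63d6267e27dd5d142062e136138926b396f1a4d53a94d1596fc92e210911a0143547cddcdb57e8db8dae49cf963ccf9c57e109f067c004117a13a14a150e20dd0b69ec00c4558b4329da00211209205d5a000444a6e54e00011410e1020ac4f04edef1fe00517372e26926a25883082f9e801210a8204100316e1dd2740085bc07da000116da057500005a80021416d72d5c14854834b24e37b69e4010f80fa80424d0034723e820278400aa5cec624001a9542335c001ccc7e8b31fd7b125001483c3e43e0aa8c28a0a1f4a900486d72e21400c83a3b08600220e2f768000483a439d40008681f66c219c7de340c6e2d143158aa52a4ea4aa4567978d7968bdb769d9d95db5d95c06a96a9aa9ca48a464764711f5c511f24611c14da995cc6a416b567e6f26f4a4e2643983943906061c40e009e391eae78,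
  nat_lit 0x51018451d92871161171b4a040104003fc68a91a91453852e800032af243198008dc2798c40018e622025c000db400c8c0fb0fe2f12f332e99b1bb86c2f692f0fe06c06b4294fe672a81a8053b5386d7a9c779ac7793794aa0aa1aa2aa3aa472aaeeaed5355398c78c68c52c7ae55d764055ca024665543ca9130bf0097d19fc0109e8a700bcd800348f29a8a765000aa30f320b001a8a0cd35c001d40080b42987cc2500106846811bc5184f95e00323819f1a07a800867c6711b4f900105b0495940008c43218819c19b545a80748ad65c61f487b13313218412a126a1344394d94e44043f9513f78f228f1e71ec1e728f8f1402666a20669a6b6e65d1599a236c95893e22ab2a898a98b98c2f71fc1bd1be0ae7c79f801402417817c3c4b90b9a0927d]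
theorem S0_c : blocks (facts 11 5 16 27 2047 65535 134217727 12 4095 10 1023 A R 32) 32 JS0 1072 = true := by decide +kernel
theorem S0 : On (Step.{u} RA LW par A) 1072 3088 :=
  steps_of_blocks hpar hR S0_c (by decide +kernel)
theorem D0_c : allB (defOK 11 16 27 2047 134217727 1069 A K) 7 2 = true := by decide +kernel
theorem D0 : On (fun r => defOK par.W par.WL par.E par.mW par.mE 1069 A K r = true) 256 1152 :=
  On.of_allB D0_c
noncomputable def JW0 : List ℕ := [nat_lit 0x1edef857bbd6fab82f2e7b2be26b795bf6f6bccdbbb4c56edcdf9bacdd86f437aa982c506f7b7c5c24aa3a8d547697cda379ed6e6b6cf5178d3cdde80f4fab3bd41cccf3978e39a6acae1978f39b1ecf60fb063dedbaef367b53de6b7af7a6f73ce1cd6df37375472a3ee6d7aa3d8eb76f5278fbd59f50f9eab25866c2cf8f7bf3e2ec22f7ca8f3d5df4ef9c737d862c36f8e7d5be86b75614b0bbe31f48f9bb085876c34f8d7d63e8df256157cbbe45f68fb67dc5872c3ef907dd3ef1f7cf947cb5885f80fc27e23f1ac3d620,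
  nat_lit 0x1cb8f5a7a555b6ad4ef372c398698d4c972b378dc1d519a8b385da34c545f1af856e2be55042aa1b36a0d6cfd2f5b4cda46f23ca9eeb606b04bc35e52de16ed5485e58ef06f3be09ee95c3ae03bc9bbf4c3a60365dbd8de262c512688cc51629b155540aa45534dfe6f8aa96cc2ac9b3d4bca5fb695e7ef497a656d6b64f307a13d7eb6f5b478cbcd1e8af5d7a6d5a2ad6f2f79dbd86acd56972bbcc9e2d563ab02f91e36dd9732b97a98ee16733b7c1c2abe7a8db861b4eda27b4bdcdeed60bb043cc5ed8f87b06d829e5af35,
  nat_lit 0x1c38e3174755ddd12e7255638a58954de6c238d1dd46b855554a6a4cdba78939f5bab55f74abc0dc1ae11ab7d5b1c74f066e6380aa2f5146883175caae7eae43a0ab96e845bbb879c174c8a65b609b92b425b8521290edb368cd20e900ab568db47540aa034fda81d412a0b7933c82a4752074dbc098acc4eae2d709c9cf07630b11288f44462d3171b0cf80b02581dd10e8554fb64589ad966c2b60de44a9d553d492a4edb2691b67696ca06629347155eab1555aad26faa0a72d3c41e96e83ad9bc31e2ae62ab0d579e30ef1,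
  nat_lit 0x1c0d5c6ae4b9d9c90e784f2a7b25e32ee4c7a7ad6813d35a2aa62368a9a6e7a7a1ba94856e8b74dc6ee71abcd5d9d28e9c68b347d9af4df71db8c9a28cfaa40d1f9a22d1372938e5c815cdae539cd402e2f7045336994e356e216893f5489a4336ed8bea77ae23dc5c96f043a79d4ce9474c2c91d513ccbde5eed7eebf0edf6331d89899445a21318d8c8e7ab02bdc1ddee794f14bce5e09d24c0a7a951ca97548aa663d0a9b792a956a455257523749ca2e8dae7d731d34e9d692b48299f4cc727b8cda4ccf9a5bd2d18b6d12,
  nat_lit 0x147960353d29f1dd8efa59e2cf9518b479e62a18ee076b3b69d08bee76f523a9313a92f651aa90948b5ffafe2f61dccef66ffd805520a92774bbe54a674097aa74e4149dc69429d299cdf77253351c986c4ae75745d4ae9e8ce467cb2858f2c99631316bbf5ed57dabf2ee169621d5a614b569934358da652625d102886c68635b321d1eb65777386d30897695ca5ed30098235f9aecd806b68f496a16cf52b685d4a1d4edb46fcca02adce776693c1643ca403a4cd0e6807554e82f057b95a5ad13b79b9737a7055456a24c62,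
  nat_lit 0x1c015ab5a22d197f0ef84f020213ab2ef4eca7759a273866b31d59a6cd56672d42af157b6e83a7cbd8a3f1f24cfa68258d4c32ef17b75a0ad1bb81a0ca2368551fe8f8d0c6e31d69c13510a89b1a5bf74d0720a6f1c92e1a4c4caee57098c4c7260cb545a52d3c6ca36a5a94df30eda634886dc36d54e6a783b629f66e885490c39d4ece8525fbbbed00e80a93ec9e8b3476e5241d425e92f72c3290d0087683a5c9ee4f07465442a0d51aa939a4aa1d4a0e04ad3d691812ef44ef3122bfb5fa772bbd4ebc7613b31d363c921d,
  nat_lit 0x1be85a14e3d742ba6ea25dab3aabe95f76773b749e516c9a8163a6a68776d7a1c9c42d36699b40d69ec47aa8d539dc8c073211928c8f1e28f299114775573aec851ddabf359dacc9516b379e6a958bde5f32fac6dcbec59c35e28e273939f51a1621695553aa82cc1dcebf16fe5554d831e67742fe98e4c43a1f51058dec715b41ccd6d6b6493f271107c8439109adca905b15bc1792a5a97a75430e109958168055f9d4ceaa3b2215a4f885339ea154e8a73f3a41d0c7c274790b29394f734290d48714975a9ad32f657eaef7,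
  nat_lit 0x18f68455b555eaafaea35d833c2b3d5a17713b70bd6a2e43cccfe10c87668286e5a0347aa3eb4087bb19a3ae1d624366452c24fee7f0b295fa2fc17f93fd2d30e557f2bfb6e1b002a1d51169e31c13827e14e326f53869c52d696da3611b312616c17664fb5cea63586ec394f8d75dc415d46dcbaaceaea6a2fa29be6ea71b3648f6cb012089059b1cb213ff3231f897ecbf22cc9678b2e4f62cd9674b0658a2c09450b0e58939b17c0b2b27693c8f8d50aa80545299e690a57367affa7f33f66043019a569b6a87b7d9a86c79,
  nat_lit 0x77c1571364d566a41b36a0302e95cd3769eb544d5a6b1359c79cd68399327995a3c11e3107195539abb8596d53ea98c033981ab8e412159091cd508064c5184e7958651659750e686cb31647b219076829910488caba5b264050ed668b3663fb214bd25e38dcc6d84a44f855c8916a5952f759ae85a7ecd8a3c51ed8dcd504279cb909685093fa124a985202a71540a9224e5bfc2a2b06978754bab59f851f42555feaf8ea13241cecb2c72739e1c6969a8039cea7593b06c61ef0f607cb12d1f00f898fab5ea1fb1d18ecc78,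
  nat_lit 0x71c3901c48e5072c3981e9a6d652a7594379950a25509a832ca1a9ec872d716d236245d1c316cd4be6a65ce54b972eba04f913c53ea9ee4e121204a10a7124892849a24f5bd0f2ebb319861b3ab0ffc80193a49dc62e3d54d9d4354d8a6e6a5b20c7266d39034824a4a6d6674d42d4c8a666a63210da0bbb5784fde7e8c025cdd7cabeabd76723b68fbe3a692c1f8c9d873427a8f5a2ce4f71e193e4a225188b514542be5173bb4d3a6a27c0138296da8e998a57a7bda84d526a289193e95d5ae93a8175d4eca77b0319dece0,
  nat_lit 0x15747f459aa9744f0a633781c54de66a986f1c5c47a23710f88fc482243105884a1161bc10788452e6b7d576552aa9ac050da9c90e4672990993b8a962089d2ab0158416155fd1ce8e0b2a6473560abc51d2a79030ab837366dd1d44f88ef63f355c4ae25908389544a625a85742c2b055857593ab91d497495825e52dc5271e80f3a00512c8978f50ca143d9461c99882c82355273a5d09d74b79b5d75759cacfaf59daaedb2f34f1d0f00fc02929699fc847a3ca1458eed535c0b372a9154b771b38436c1ba02606f610e1b2,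
  nat_lit 0xef27c293a9f062d0100434d2b4c524ea6a535549a65298cb4664a485266a452ac6c04d46a6b559752c0ea772ba99cacdf274c54c88a4eb27693bc7803c5899c4c078425b0aa05602a215c0af05804d4272136881c4e20541e3a1aa6af3544370840a46bb6577b0367eac04476251675a8ee35a9344c811de8f099c4c7a63e4e4242d659435a193224e38719390ca5a53271e41e82254629cb5161431456950a1bd0d1920c8d7ea11ba29e47123511a48da94facdd661da2ed741b20b0d65222419914cbb51bb8dc17760945df,
  nat_lit 0x1ec9b094a4a5d0ce63f283143ea0f5046b032322845bc9b4cd9a2c84684d3a43abe35ee6103b588b245b1c411708aa4523e61f224a823e20e1c58d466a52231aa23922420a9d2a694cb266a7356470038412443b870e3721ae18c6bb15db5cb3abc62831b187895062c3184d74db94da5dc31321648ac6cb9039428a5e6d5366a4315e3505a81322135ace3a49af49b54d784d4196ebe0bd45f7bb64a125048b5942e17450d3e3c95a4b267089e1c7cee87738b34a2e5105de3ea9f4e4ab2522121f654c0103532a9706c6a62,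
  nat_lit 0x157894aa38d1b9922d5b7e545e40f91762359284ac6949aa2d509da0c1b208905482c40d20c0df421010c083043e09610413d89d84fa27413c89f85ac2d00f543721be2d31418a1450efe41200a2104a2e35c85611716eb0473a5865629704b694c47903cd85244c625c31932c197a51b28a0baa16107095e974a7292d86d4336339e8babd5653b5e62a08d9acd2f4dda4ed855bcf14de46f40f39f601f60f980183f41fe10110651de0ac7286203551705546aa4ab8dda8cde028815809a04b02981549ce4e58aa935472e4d0,
  nat_lit 0x84626e89ac2c884a1e91af886c6c30e71b109fc4022030fe881a11203e10bc2aa6ad3594332054a549095772c06a06c8a337925a3b867233419a81180660453f8dfc009524a926629c49203f92680e006903581b405c06f45b20ad7a1599acb3b2d2ad2e397011c12ca8b2474a3767593af4191384cca65d8eec768cc2663333a3fe8b945f65235d84405e1970a2f52c467745da1ed7a3494a4bb5bd1692e510f01b12cc44e27e48ee11523831e20512d2906576d0c2866c8b7e80b3ce4529b94c1108ac00869d23f4945a2ba,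
  nat_lit 0x6b62a65c6576970eeb136cc814a072022171b093491405e7d7bebd8eca3e529626d88bc45f19893548fca495255b52d7737e9bb88c46f58f79be0db445e281480e40009437d9f726d06732bf926cc7663933cc76e3b06763e8cdaa6da49313319accea7db5e7517a8c2d6e3e71f5c0d52539281be42ee4ff18714022d22143129884c511bd31385c89ac5338cb94b0a5c53013153c29e6ae96d5b2a4af46949f62b9d7dcc155722bcaa70aeb75dabd056c2b30a842e21762bb85610688883a289e910c87e6228994a1a512105,
  nat_lit 0x21682eeac5ae21714ebe4ae4abc1020a34b510c10b80ac5c8a5c57d2c2a4adcb9c116fe24b59b0c43021c852888c1fc2150bc05ea0ae1810ba05ccf28caba11ab7994cca803a236aa88ae0769b0515bb42ca17ab895f0af50f201383d61e00f307a008a0470208129f9e03f23211848c644c01001b889045133c4d9e6c88b326e136a2a915722a138089713f223913487044f15a8ae694f4a46b0b568038383252458a2ca4a025124467db3ea610b0686e23761bc43bc6f437c21044de2682a420e8b48d4062c21b472e390289,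
  nat_lit 0xf180b602048e646c810458a38d79b594acbbb355b0b08a1750c5618b030211eae53b29a40b0e6c11e0260403f79fc209703b81ec0fafd703f01cc06002901580b405e02202e81840c4fd303201640b491459151be8d8d5f2b21049597543aa0305c3961cc07ac5de2e849e24e92a49604b220c92d0f0a822916043a45e77d16a1e7a4787a13301e60f3a8faa11509594ac9a140042e5532a64b199e91701d65e6526692cd7146fcab450c1c04b390e904c04841789d452e35605d82d4180fe505e82fc5b62e486d43745ce2ac,
  nat_lit 0xe007020129c2e3dc6ff2b9d4eaa7aae675e3090b768c8a7d2ba1ae6c98568abeabc8afc75d3b10dba01a214c7fa40209615f8b045850b91620160afa441252c5bcafc07231918d8cf91d68ec99ecd1e4275e5d18e8c0d700ff0e821fe3a31ce0e6873e6349424a1cc1677c1ac88121d30e61aa8d5c51e28b14942cc5221f82ff4738d0660d8440bfc4c226812f89944ce25c3c198a83f93589ada0453464e25e557aabdaecc56bd4daa72b0075c2c092b32ab95411c92c88af472238505d3ae9d893283c607891e9e68cd225d,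
  nat_lit 0x15b4b04ac72c195f2ec50fb87e83e21e106107e46000d017dc341f9c2fe89d10d0cfb3629b2a2b899a4de874455a2b24cb00f8064048fc9010808c5789135925296944d5e2538dd55913eb9f4305806803d255c58c1e049f44603991208921bd92d487913821b8ee087243b34f98be39b1ca1a702f85570b71570a945442ad2fc0d26bc2b845c33afcf8a7bc015493a4a26fe3d948aa45a5011861ed0c2061387f46f0c3261d21510c885042d21790c499e70e5c694b5d6ec2b20f23184bd2da45f9e651408f9a7953d5b50c9b,
  nat_lit 0x67633d19c0d000ca32d870246563cb11a36b574ace4ad564d4faa82c190cb067c9551728ba83c898c4c026112ce2b04c43c32084617231917181435c1b00be070434e1ab05c23589232a79521a5915a8f6a4dd261946d6d06240041820c806183285c329e9509e8119c8cd4521ee959f424a13b27853229d14f8a5052c2a016c8bb43e02ea05e0bd85b82f286d8bac5cc2df05782ac1640a205382c51330bcac50c817d0ec130a0d4a50a2223041ed4f1c81e94e060103261c3c82bde7caae160e3094f268d0a152b7d878c99,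
  nat_lit 0xcff35f42f4d7073a80f30717423866173051810bf51c726197f06a82a134e1a6e39836a148032cc051c58e11830c12304146173e3402642e49730c0234c3414d766b48134d0246abd15eb7673b215a55e2af2ac41d72ec30d6922628c47323c11e913689e14f224e7604c50d09e58f4a79b246173460e2f817d48d246e81223e2412b2559560f3b255ab58cac7ac5961aec2181121a46523540ba038f03246924bf5890656e0480179fb8fdf04f824c1d88885654f9a7d2c180e4020e0ee02c0ce00e81de0cc07a033c1e20f3,
  nat_lit 0x64a9165902c5e946d5c1de0edc6d03b91dd86a868b0e31578d1c5462de3df1eda49924f0c71ee061029a185434461a3053c418190be61630c2030dc63b437590b23f20b02641b9ebc034175b3b0114685b56653d29eec9f3bd4a0ce1070a1b61ee4ad891fa9e54fdd9ec23154187e5b12db4612330b708f0a7dd3e1ae8ca14cfd79abd2bc575ebb1cd1a8c5a322f11ae4d6b36f0ac63f91ff05082485983261940c8458a32c2b895d22e316e2bc95bcd206988ea475cba869734923d68cb4626bab5b06943501498d1869e2f7,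
  nat_lit 0x2fd1448a391fc90448404d8275fba0a5050026434408483b06940701953bf1ec64900ce23c95a4dc233e8fec7e813c0980ccc165f9819b0ce8650ad44bf8b845ccaec5683d7492a49a1a40d31c1c18e46724811f891a48f0c6861c2fa0c90c786445ea8d53d24a8a54a5d6174a0765412a3467a32915219356750a684cc9c1638b241660a40530b28f1681b919c8c103080d3d6a4727c93e760fb0891548f3a15d0a1944ca0240d642b26bc860ebb189148d3a4d2f2587ad6a88013626c13632bb91ec06e0337e6bf2007203b,
  nat_lit 0x3721ba0dd51fb8fc0b2ce0851a38486687747064530d9159b4f9a7b32746852d696c97491868cb8751a1a6c26882bc12146dc3671b48dac6da19087217623425d32ea975cd166818ea9a24b9048e]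
theorem W0_c : blocks (rows 11 5 16 27 2047 65535 134217727 13 8191 78 A 3088 512 cols 21) 21 JW0 0 = true := by decide +kernel
theorem W0 : On (Row.{u} RA LW par A 3088 512 cols) 0 525 :=
  rows_of_blocks hpar (by decide) hcols W0_c (by decide +kernel)
theorem idx : Idx.{u} RA [[0], [4], [6], [8], [10], [12]] [[6], [8], [10], [12]] 512 :=
  idx_of_cert hpar hR (K := K) (by decide +kernel) (T := 1069) (T' := 1152) (by decide) D0
    (subs := [3,4,5,7]) (by decide +kernel) (T1 := 1072) (by decide) (N := 3088) S0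
    (by decide) (n' := 525) (by decide) W0 (by decide +kernel) (by decide +kernel)
end T2
namespace T3
noncomputable def A_0 : List (ℕ) := [nat_lit 0x5188a2a8a5511442286a195425088a0a82350140127e9f8d3e4f889ea7a54f13c22769d8d3a4e849ca7234e138226e9b99364d8c9aa6a64d1342266998d324c8498a6234c130225e97992e4b8896a5a34b12c102495952a4a8694a5264a128324e93a526498a92a4a5491241a46919922488c90a429481202a3e8f951e47868ea3a64711c32368da51a46888ca32346118122e8b8d1645888aa2a5451142a26899512448888a22344110121e878d0e43884021a34310c4a16858d0a428884a12a01814218884110741c68320c2415051a0882110340ca812044405011200800cff3fc87f1fc33f4fd11f87e0cfb3ecc7d1f443e4f919f07c08f73dc67b1ec43d4f529e87a10f33cca791e443c4f119e07808ef3bc6771dc43b4ed29d87610eb3ac6751d423a4e919d07410e739cc731cc6394e531c87210e338c6711c42384e119c07010df37cc6f1bc4374dd19b86e08c40c4a340d051b46d18c63198db36cc310c4911846284210944711c6398e661946530601824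da368a6c9b25360d819ae6b98d6358c6a9aa9350d421a6698cd23484689a23340d0219e6794ce338a6699a5330cc2196658cca3284649923320c8218e63988331866298a918461185e17901705d462188300cc3198461080630480318042fcbf197c5f083b0ec60d03440340d297a5e90bc2f045d97632e8ba21725c8cb82e045b96e32d8b6316a5a90b42d065996622c8b219625890b02c0a5795e42b8ae295a5690ac2b065595622a8aa19525490a82a0a5394e4298a6194a5288a42906519464288a231425098a0280c4f93e42789e193a4e889c27064d93642689a31324c909826064b92e225896181214144f13ca2a8aa309c2730a22898250952290a450a82a292a4a8c24090c08020604c1349284a149324ca0380e324892312248989024124791e42388e191a468815054646118422c8b2914451489224a44110421c87190c430885214642108420c833100410c8120520110031fc7f1004029002018a010fc51f47d28f83e0c26098c298a660a4294824091416058a08822302c7b50f43d140902520601861e47950f03c140a02920581660100f2010042802008600806a01004300200a400,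
  nat_lit 0x850b09c26384a123423089a10841307c1e583a0e2c1b068e0c830d05c16682a0a4c13049608820b03c0e381a06340b029a04811301c06480a021c03008a0080063b0ec47fdff2bfcff15fd7f4afe3f847edfb1bf4fd08741d06fcbf2408df84beefb99f67d94fabea50b02c48b82e19f47d14f9be657c9f2488020181d0754603e267c1f033def7904d7b8cf6bdaa0380e32ae25144d134a24898608c231b34f614827ac6f53d427a5e91bd0f411e779caf33cc4795e513c8f20de378c8f13c43785e113c0f00ddf77ccef3bc4775dd1bb8ee09db76c6ed3b44765d92bb0ec11d775caeb3ac4755d51ba8ea09d374c6e93a44745d12ba0e811cf73c6e739c2735cd18882211cc730ce5b966729ca3392e491c87206e3b8e2719c61b8ae291c4710ce1b864709c21b82e089c07006dfb7e40d9be2b7ade95bc6f06ddb7666e9ba30e439246b1aca338ce56e5b91b70dc19b76dccdb36c96d5b528ae2b945e1786da36866cdb33364d925b16c48d836036bdaf10d2348dae6b88d6b5a56b1ac2b56d595aa6a88d4b5236a1a81066198c380e080cb4e9699a6334ad2a9a4690ad1b469689a23342d0a9a0680acfb3e94ac4950ea3a9466198a388e241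906430dc3718350d521b09066799e333ace903a670ccdb36a3703728741d14360d8acd072606422281ecd14086648cc330365d97132ccb0d956548ca328564d932324c909916446c8320463d8f1b1cc7098d6346c6318662d8b2314c50d896244c4310361d87230cc315856148c2308560d832304c10d816044c030035fd7f22fcbf157d5f48be2f835ed7b12f4bd0c2e0b88bcaf265e17832eebb99765d88baaea35d17412e6b98d725c88b8ae265c17022deb78d6e5b84b6ada35b16c2022b58d6a5a84b4ad235a16822ceb39566598ab2aca55916422c6b18d625884b0ac235816021b8af995e57942589651a86a48b02c184e1394aeaba51144548d83618340d140c03052041b52b8ae143d0f4a2d0b4456d5b32b4ad195956520887860b42d202cac2819064c042ae20155622aaaa8d545504a9aa631084220561595525488a8aa22541501a9ea7914e5386a6a9a25314c1a96a5994a5288a4a92352148128ea38d46,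
  nat_lit 0x1a0234062805c3108620b24310bc21782e105cc409884b20c4058e6212c63100229886304c6305463184320c8301863f98c2304260982330416412c09189627024e13c22789b11364d089a26444c936126c9a09344c849925824b13012609811305f84bf30026000a630015082a47088e230446116222c8a1114448889230246116122c8a091444848922024410e121c881110438887210242108221083110641848313c2278aa11547d38aa14207e0a021402290a082101e040881204240904420482090402a8820982130f820985310fa3f082914c2298fa11f47e08fc14842905820b02410481108224020801fce3f81e103c08081004247f01820300a101402080440048020044001ea01405380a028c05018e0880c8048063022020c06044e0902430300a182c09247e028c0581601e00c301404a80c011006016703009301805007903080601820300c081806007a1e92048148024033812019809024804812202409081204807b1e8c05014a02c0a201405080a028205014700c7b38143d287b1e843d0f411e87a401602207a1e883d0f641ec7b40063d887b1ec23d80661ec032006021004010e05816202c0b081605900b03d00781070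20023804040c0f010202008201003480801880300c201802600c0138020090010044008021004004802001c00000a00000400000180000080000020007ea08c3220a010181c070c0f8de31c070208020981e07952fcbe597a5e4cbb2e9a5c97152dcb651405048481f182e96882f8be50ba59183e0f904310ca12cb061dc7734af2ba44a95872acaa99525418c030103094c8094a431645920ba2e942d15862d8b64946512ad128164f93cb2749c49364d1c99260a4b92c725494492649318e2a0e48921323c8e391a462063228e44910408c86390a421483208e4090091fc7e58fa3e247b1e8a3c8f071dc7648ea3a1c731c8a388e071bc6e68da36246b1a8e348d0519c6638ca3224631896308c0917c5e58ba2e245b168e2c8b0515c5638aa2a24531496288a0913c4e389a26144b128e24890911c46688a223443109a2088090fc3e387a1e143b0e8e1c87090dc36686a1a24330c8e1886050bc2e385a1620930a9614,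
  nat_lit 0x438b2848ca0b42f3c8d23a0613151240a873185422b22a04541514b72d8a151713192b790c93240b82dc15b96e2489220cc731c122c8883092c44881426449112acc88191245148a241e1690c4243d8490df90bf22296158504370c8284e1323790a9d9c85441a86c98541d083a2004407c82f93e617cdf40be82e045c0b02163ea17d5f60becfb85f77dcadf3dc57e1f13b7ecd11f16f8ef701c1039ed0bdaf705ee7b94113d8a7b8493894251c220dc62689a113423409a26a04c12861d09411284c2894260c3613022604671302308460794237b02f604427b1bf0b7e0c11eb674e1c07010e1bc10e23309bd6f82df37c21d4494b7cac999f67c4afabc2681a00b40d0244b68d23509606846a0344d188581384d2346168da40b48d2255d69d222aba069445034cd3886c69c2d3b38569c34406a369c350d421a8dc11b86408c83884711982330ea11d4494044248c39124224844612448089011104866d26202e266d9c1068ce059c6714cd030a6719a386c1b1c370d821b0da90dc373b341d043a06501d07480e437086e1c94370e421c83270e42208440c8c221b501a068605d9a50680c099a6682cd18275b16c0ad8b7096c5b00b6b2646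45910324c989936504ca32a26559529c671159665cc709c0666198325e8719995908b12c435896202c617a5600504b02c015812022d60c04180d021a0d811b045088aae855d1382270b011606a08d425844b5782af2be50a15f0abe95a55f56c42a8a6756d594052ad084f0a04acab215655a0ab4ad855b16822d07a10f55c0ab80da0c006c20d980606c2d185a0a202d0b421687810f0bf30780c84195602ac212656157501e3f91574b4a4c12e54b0c83a5c971c844b506390684b52c39843f252c4b1214a5814b12d125aaa85555582ab02865590e3a1c95052a4a9027a5671f12b0a5684952b1f90848507424c252128485094282852142318c14a1417890d434286828a4342f50280a041405060a1ba5200dd31304ca0de374e4c02e93709741b84b98dc1fca6e1c6238ce011c06f88df37846f1c01380df09be6f04de37426e9b81370dd11ba609908224e671988220873996652086214e64990821083398e36846d,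
  nat_lit 0x1440928cc06f5bb18e238887102c051938034816402a4e1c15048c0a938505409182a0a808d00409b02203c02702483881bc8486320c821900b01444e00d105404b00604d41101de2a81231901098dc21b80401420180d002404601204d00b01dc2781220d921a8dc085045286a1a88351154360d821b10b50c20080a012d4af0a671545a20aa2a88554ace1304c309826104c0180cf02404581204cdbf43d6f815eb02c07685004841850681a82151b00d386820d014505e30810c0bc417806027c4f109e95a95f5780d02be257c5502b613007c14c4298020338030115210c4812042412c04c83640301b9c18020c0c06c5061eb03e2118c1806040c01403b01102404e28170d00ce02e205c2f021a0a081400c04f1382270115050149c2813c0ad2be067c542050140828049214a1270a45300fa148829004044bdc9088480486110822258098804a020180334040808028075ae82305681ad0b4016b5a04b412c225816102c0b819b0500b002ea2719b49384b209c058e4e12c62700229380a109c00c64e13802742802b20888110a403f024204806100c02008801540784407b00f101e04813002004080420081601d46081731512b402245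a05452d0b4016e5a00b4ad005a896012e0b024b27006e138031003013725881642520302209101202580300c2018043008021c06110c078082038c0280a201409025e02008300803f82c03a4c102e4b4016c5a40b701202600a04920180dd00c04d134026cdc19340b024c04406490c03080502ae0181980040401ce03a24c19ce0301710180b32d005bc9a01bb258e493100b200c021405031e0080e02140b31ce0934c902ce4c00999241251ba43740201c24200e53200731ba0378e021003f80e263c870990093e4d249a72825020006f9c2043e4d049c70010e6600ccace3398e51accb218e1598a70c987590e102cacc0d645900cbac246598331785e01842f40c281a06181a030e1d81882f80c497e0628c0031602818c63c6ab80a063557031cc7910f394c7021e0640e001c8710cdf4380c8c947378df01c6cb0cde924e6e900064cde032a6e8194651124c947655964497271d99930ecbb3089364d3191281e4f,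
  nat_lit 0x6b82d735a16b5ac0b58d585ab6a82d506610cda90b52d489a91b443686e91b4441088e609cc72c4e5b942729c913922204447302e6396172dca0b94e485c97202e43902721c5138ae209c470c4e1b8a1715c40b88e185c37082e13842709bf137e1b08360dc41b87420e83910721c083806440cab090655812b012082404c409820204045108a35086a1a942c0b0216073509c2c01a313842709c06904e50e6d22473114c398e605747310e63984731a0e3982a90c030106018043005d01806080c431482c3408680c4418c8c291a46485a1e083c0b44168c29314c1498c0990c631408598c2318c602146088c13040ba18205d40602ec01017701c0bc05c40542e185c17082e0b821705c05ec2d405c0a1c2e0540bc85c05f02e02f4bd017c5e80bdaf615ed7b02f816a17c050ebe2f825f17c0af8be10150540be80e05f84208840a017f0ec41d82860ac4202aa15842b0500c007850683b017c0d041a0ac0ab02806041d501a0da00d014c0683650341a017e06840d0500a902806080d018003815101c0c180a02f40702a00100bc00c0a780402ec03029c0080ba01c0a680202e407029882890500805c006052d05020c0100b70240a518264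0d04020e0080b60240a4a06042003016a0a814830408100602d015028e03010101c05981205180602000380b209542901205140401fe0180b114809380605100401fc0180b00a8094006050c0601fa0080af13ce1212a04a424084800814201807e00202b95f5020afa41009900804804a810082000814101007d80802b40650260324130a5009850704c100256ac1413428809826104c0202800080fa010056060905413021201013f00407c80c02ac1501b403980201804a00204f80201f00300aa04806c82ea01c17480e0aa007058e0382a601c0201260a100700c60380e201c07080e00813d00807b80802a41601b003809c01009e00203d80401500500d700c04900804ec0101ea0580a702c06b01202440602740200f402c05300803540c0120030139010079a4e90944948eaf720757dca3a8ea21d411014a0180d402404780804e00b01e41281261d40df0cc21981101480180d302404702a205404026e0580f1,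
  nat_lit 0x1506298b009546140d4300c6a0b550905a9848604424179e120c49090a609206a04a8309c648481230c8091dbb489e27a5bb1b90ddb7626edbb0b76dd94311986188620831f549b6fc28637e12318ea618cdb03ec3181f71d4634096395e0953750619bb6e8105376082e0c18cc33020d03941081c908475041c112847089223cae811c75388efc18470840f6bee083e5843f10899f811c0f73f00842121425088a1111c42384220846310c66d88db1884310c4118846108c3184631182230421086120c2507a61084430888e111e100c212c06588405084b029607710ee3b84771dce388ea895dee3caf2ba84a9611080d839624638c030086018023005c918060485d2aaa540bd03048e79525438c2629e559590634ac71525620532b2a5394d52b182894d683ca729865394c529ca6394c5908b22c8859174c1d87831745d10ba2e845d9485290ac11585b08b62d885b9445288ac2159fd23c0f001e17848febfa3799e71bf8fd11e97a883a4328902413c311f0dab6a871fc8246a03324850ba2427988f23c80795e613ccf389e770d0f3bd07709c143d2f51dc080d302406280e030c070106028085010ec21d9ff13feff09fe7f44febf827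f07608ecff85ff7f82ff3fa17f5fc0bf83a04747ec2fdbf627edf913f211882313042609421284d109a2488491a102589681cc6438d42c0c52160e298aa71602a189c2718241390288a461604b50a225a451041413820909c52404e1418271440af04e057c28189e28845109c21384e209c5110a2128c2509441284a109425404c0820251484290a411485242be0ca82a06521502660a82a105415042a0a80ac048304c13012a080c1003460708421082b10562a08540384073da9039ed13daf709ee7e04fc3ee97e1f713eefb09f67d92fabea27d42c10582e242c17042e3e827d1f44be6f989f316842d2b870741b4ab81e883d5704ae2b867c9f213e42025f210042003a20741d481a0d881b0ec21d81a20341a1034329c6c1192310ca11946510ca2320630d4623420611c651c2029a864191429c2230c03030c8108c4512c425b6296c9b11362d885b11a4234b6016c1b01360d709ae6b44d6b5826b1ab1356d509aa,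
  nat_lit 0xf462d0b450ec6934b034907518d03489a41cc2320963a0c4b0d881a0d230d07303de25287412923a0ea81d04738e83b9874180a3a08c41d04b03f21a01ae1140f803040d469408c3a02570d40e288c071a24209826022308c11108840e5db18900782210e40e6400876c3323b62401da76c10ebb607702204400c81cb77010ec3a780048043f0e8a1d0200e509007744838ec249076800100c02887433243a240e1d87410f43a09081803930e82410880ef06620cc7604052082427140e409008700f03be1981a81201200d2871874238ce301c70880ff010078038035211023f6b90e2be05715c603d20781fd0640d501e08f9c503d01181fc0200d5b8a4061e920e83a08747c0af4030079c180358d710361d00fd3d227a5e803d61b01ad961434cb091a5e903d4d701b01a44348d206be58535ed7aa58188eda8d671165838c43908721c82390e481b06110c23084611b4a308e471947218c430947295c8230c0595c5a48ee2d287718483b85671584f20ac3324561592330cc715c7150b638a45b1dd02e0b881c41b50340da41a07500d07a606840507820243c0680ae07807c82d03e62e185e1780fa0a860986e18b837105710943708491b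84f4084121c42150a210aea0ac2b50ae210c290a40a98b841a82c38b616205a1608160b260b04630b8158c2c0b0c0a02807d463305e31142f0bc06d8d621ac6b08d636106b8708ff3fc086e4038ecff821a1d810cc847806000430241e02124901402085e02042c2482031d41020cc081471040c3382071ad2390d60820720412e291ac79ced6b580711e83b5cd681c37a4e34b5c0709ea3b5e3481c17aced806c46c1af0380d801bf0d80d886a06c86e03662f0c640b542f05a91786040bc179c5e0c482f0c806d05e10bc2f045e178109060315c5710ae2b845718d4da8c696d658436a2b821111cadab6a07e20950d639146b18c0db09ea19c4f48ce3720670c4c338d606e86620ce388c6719c4338ce119c75036e3381bb1980dc06206e44520e43190476ec8330b6414c54504c2a242614c1288224098062020130168048812820030454384e0990270941298a881482920a430a85518522a84e03185204ac2a80c5,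
  nat_lit 0xfc60e87e908c3f20a21f9c5f0fcc2c87e80ec3f107e1f843f074c1f86410c832106419283d0c921e86471983240ae1918690c8a1c02e30c838484010042008041004090e0202054101c0e08100f840506c1c18401f281c07141f03870341c40360e081c07020e07c40703c40e02c9c701c0c3788071bc5630e037985b1bd2380dea1c06f38ba3804701bc2378e021c03c20de37886f14063b8a0512c5040dc281c671404280a011402448a007101e10d00f03c10781e103c0f0c410e940f0a061b06c04b622825c07941d06a09743a04be1b025e108a0f054707841285220a04e104e2888240ec4110822084411052340d091041d387c1f1c1a0f862f87c20f83e087c2d983e17ce1d8ac517c4d50be2f885f17c22f8bea1345f209c27025a07c40f83e107c44503e071c1f07c60d83609641f50881ca4430e5421854810c51188621884310c22188661540e283e2220381a8a1986681143338d619a4651952198c060e03720da0b9833110e1088831ac6b039a389444110a310c441284c20d03402241d411287080843a20422418470840ce86641944818ca31a84818d2240c4712057309023819e1940ed8ec31b06950ec34a47618903b09006d46930ec3b94761b01000ec09604c48762d9c5a16542e8b291745940780d901d174e200b231004004a420142b0f4e1587a815824207a1da44c]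
noncomputable def A : List (List (ℕ)) := [A_0]
noncomputable def K_0 : List (ℕ) := [nat_lit 0x6ddb66d5b46cdb26c5b06bdae6b5ac6adaa6a5a869da6695a468da2685a067d9e6759c66d9a6659865d966559463d876198561183609816017f5f97d5f17b5e9795e1775d9755d1735c96e5b56c5ad6a5a56859163589615815f5795d5715b56959561575595555153549515414f5394d5314b52949521475194551143509415013f4f93d4d1304bd2d4b12b4a9294a1264952448d224852047d1e4751c46d1a46516455144350c42508d26ea9d2e362a989cb59d6a7064620a5e25a2192a5a73626716418e5c744d3a8fd02dccfa1ad0624a433f4eb34449364e3514ee23b3ece89ad09d66e62d8d886acd2e0dd62d8d7b5086e1659e6899a7f9a6679be1fa035d64d885c243856dd831354453c4e5134dd33b36656335cd3357b5f5b8756684e1e5bd0f49dc14c51043932416d15950a4190742d044b917461014090340000,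
  nat_lit 0xba6e8b9ee6b96e4b8ae1b82dfb7adbb6ad9b5ad5b52d3b4accb2ecab26c8b1ec6b16c4b0ec2b06c0afebeaf6bcaeebaae6b8adeb6ad6b4aceb2ac6b0abeaeab6abaaaa9aa2a7a9aa5a92a3a8aa1a829fa7a9da729ba6a99a5694a4e92a468ea368ca2e8aa2687a1a85a1283a0a819fa7d9f27b9ea799e2779da6d9b26b9aa6498e629866097e5e9765c96e5a9665895e569565494e529465093e4e9364c92e4a9264891e469164490a419023f8fa3d8f23b8ea398e2378da358d2338ca318c22f8ba2d8b22b8aa298a22788a1c8661885e1484a118420f83a0b82a098220781a058120380a01801ff7f9fd7f1fb7e9f97e1f77d9f57d1f37c9f17c1ef7b9ed7b1eb7a9e97a1e7799e5791e3789e1781df779dd771db769d9761d7759d5751d3749d1741cf739cd731cb729c9721c7719c5711c3709c06fdbe6f5bc6edba6e5b8,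
  nat_lit 0xd5b55d5353d4b4fd374ad2347d1b45d0f42cf73ccef3ace738cdf36cd733ccb31cc32fcbb2dcb32bcab29ca327c9b25c9323c8b21c831fc7b1dc731bc6b19c6317c5b15c5313c4b11c430fc3b0dc330bc2b09c2307c1b05c1303c0b01c02ffbfafdbf2fbbeaf9be2f7bdaf5bd2f3bcaf1bc2efbbaedbb2eb]
noncomputable def K : List (List (ℕ)) := [K_0]
noncomputable def R_0 : List (Rule) := [Rule.mk (nat_lit 9) (nat_lit 45) (Steps.bwd (nat_lit 9) (Steps.fwd (nat_lit 2048) (Steps.fwd (nat_lit 1024) Steps.nil))) (nat_lit 38) (nat_lit 1),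
  Rule.mk (nat_lit 1) (nat_lit 45) (Steps.fwd (nat_lit 9216) (Steps.fwd (nat_lit 1024) (Steps.bwd (nat_lit 9) Steps.nil))) (nat_lit 40) (nat_lit 0),
  Rule.mk (nat_lit 2) (nat_lit 45) (Steps.fwd (nat_lit 9216) (Steps.fwd (nat_lit 2048) (Steps.bwd (nat_lit 9) Steps.nil))) (nat_lit 42) (nat_lit 0),
  Rule.mk (nat_lit 4) (nat_lit 45) (Steps.fwd (nat_lit 9216) (Steps.fwd (nat_lit 4096) (Steps.bwd (nat_lit 9) Steps.nil))) (nat_lit 44) (nat_lit 0),
  Rule.mk (nat_lit 7) (nat_lit 45) (Steps.fwd (nat_lit 9216) (Steps.bwd (nat_lit 7) (Steps.bwd (nat_lit 9) Steps.nil))) (nat_lit 48) (nat_lit 0),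
  Rule.mk (nat_lit 6) (nat_lit 93) (Steps.bwd (nat_lit 10) (Steps.bwd (nat_lit 6) (Steps.fwd (nat_lit 9216) (Steps.fwd (nat_lit 1024) (Steps.fwd (nat_lit 2048) (Steps.fwd (nat_lit 5120) (Steps.fwd (nat_lit 9216) Steps.nil))))))) (nat_lit 52) (nat_lit 5),
  Rule.mk (nat_lit 1) (nat_lit 45) (Steps.fwd (nat_lit 6144) (Steps.fwd (nat_lit 1024) (Steps.bwd (nat_lit 6) Steps.nil))) (nat_lit 18) (nat_lit 2),
  Rule.mk (nat_lit 2) (nat_lit 45) (Steps.fwd (nat_lit 6144) (Steps.fwd (nat_lit 2048) (Steps.bwd (nat_lit 6) Steps.nil))) (nat_lit 20) (nat_lit 2),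
  Rule.mk (nat_lit 9) (nat_lit 45) (Steps.fwd (nat_lit 10240) (Steps.fwd (nat_lit 2048) (Steps.fwd (nat_lit 1024) Steps.nil))) (nat_lit 38) (nat_lit 1),
  Rule.mk (nat_lit 2) (nat_lit 45) (Steps.fwd (nat_lit 10240) (Steps.fwd (nat_lit 2048) (Steps.bwd (nat_lit 10) Steps.nil))) (nat_lit 42) (nat_lit 2),
  Rule.mk (nat_lit 1) (nat_lit 45) (Steps.fwd (nat_lit 10240) (Steps.bwd (nat_lit 9) (Steps.fwd (nat_lit 2048) Steps.nil))) (nat_lit 38) (nat_lit 0),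
  Rule.mk (nat_lit 3) (nat_lit 117) (Steps.bwd (nat_lit 4) (Steps.bwd (nat_lit 10) (Steps.bwd (nat_lit 3) (Steps.bwd (nat_lit 9) (Steps.fwd (nat_lit 3072) (Steps.fwd (nat_lit 4096) (Steps.fwd (nat_lit 9216) (Steps.fwd (nat_lit 3072) (Steps.fwd (nat_lit 10240) Steps.nil))))))))) (nat_lit 46) (nat_lit 1),
  Rule.mk (nat_lit 7) (nat_lit 45) (Steps.bwd (nat_lit 3) (Steps.fwd (nat_lit 7168) (Steps.fwd (nat_lit 3072) Steps.nil))) (nat_lit 32) (nat_lit 3),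
  Rule.mk (nat_lit 7) (nat_lit 45) (Steps.bwd (nat_lit 10) (Steps.bwd (nat_lit 7) (Steps.fwd (nat_lit 10240) Steps.nil))) (nat_lit 48) (nat_lit 0),
  Rule.mk (nat_lit 8) (nat_lit 45) (Steps.fwd (nat_lit 3072) (Steps.bwd (nat_lit 7) (Steps.bwd (nat_lit 3) Steps.nil))) (nat_lit 32) (nat_lit 1),
  Rule.mk (nat_lit 4) (nat_lit 141) (Steps.bwd (nat_lit 6) (Steps.bwd (nat_lit 6) (Steps.bwd (nat_lit 9) (Steps.bwd (nat_lit 5) (Steps.bwd (nat_lit 5) (Steps.fwd (nat_lit 4096) (Steps.fwd (nat_lit 5120) (Steps.fwd (nat_lit 5120) (Steps.fwd (nat_lit 9216) (Steps.fwd (nat_lit 6144) (Steps.fwd (nat_lit 6144) Steps.nil))))))))))) (nat_lit 50) (nat_lit 7),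
  Rule.mk (nat_lit 1) (nat_lit 45) (Steps.bwd (nat_lit 6) (Steps.fwd (nat_lit 1024) (Steps.fwd (nat_lit 6144) Steps.nil))) (nat_lit 18) (nat_lit 0),
  Rule.mk (nat_lit 2) (nat_lit 45) (Steps.bwd (nat_lit 6) (Steps.fwd (nat_lit 2048) (Steps.fwd (nat_lit 6144) Steps.nil))) (nat_lit 20) (nat_lit 0),
  Rule.mk (nat_lit 7) (nat_lit 57) (Steps.bwd (nat_lit 6) (Steps.bwd (nat_lit 6) (Steps.fwd (nat_lit 7168) (Steps.fwd (nat_lit 6144) Steps.nil)))) (nat_lit 36) (nat_lit 3),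
  Rule.mk (nat_lit 4) (nat_lit 45) (Steps.bwd (nat_lit 7) (Steps.fwd (nat_lit 4096) (Steps.fwd (nat_lit 7168) Steps.nil))) (nat_lit 34) (nat_lit 2),
  Rule.mk (nat_lit 4) (nat_lit 45) (Steps.bwd (nat_lit 9) (Steps.fwd (nat_lit 4096) (Steps.fwd (nat_lit 9216) Steps.nil))) (nat_lit 44) (nat_lit 2),
  Rule.mk (nat_lit 6) (nat_lit 213) (Steps.bwd (nat_lit 10) (Steps.bwd (nat_lit 5) (Steps.bwd (nat_lit 9) (Steps.bwd (nat_lit 6) (Steps.bwd (nat_lit 10) (Steps.bwd (nat_lit 5) (Steps.bwd (nat_lit 9) (Steps.bwd (nat_lit 6) (Steps.fwd (nat_lit 9216) (Steps.fwd (nat_lit 6144) (Steps.bwd (nat_lit 9) (Steps.fwd (nat_lit 1024) (Steps.fwd (nat_lit 2048) (Steps.fwd (nat_lit 5120) (Steps.fwd (nat_lit 9216) (Steps.fwd (nat_lit 6144) (Steps.fwd (nat_lit 10240) Steps.nil))))))))))))))))) (nat_lit 54) (nat_lit 7),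
  Rule.mk (nat_lit 8) (nat_lit 57) (Steps.fwd (nat_lit 6144) (Steps.bwd (nat_lit 7) (Steps.bwd (nat_lit 6) (Steps.bwd (nat_lit 6) Steps.nil)))) (nat_lit 36) (nat_lit 1),
  Rule.mk (nat_lit 4) (nat_lit 105) (Steps.fwd (nat_lit 6144) (Steps.fwd (nat_lit 6144) (Steps.fwd (nat_lit 6144) (Steps.fwd (nat_lit 4096) (Steps.bwd (nat_lit 6) (Steps.fwd (nat_lit 4096) (Steps.bwd (nat_lit 6) (Steps.bwd (nat_lit 6) Steps.nil)))))))) (nat_lit 24) (nat_lit 8),
  Rule.mk (nat_lit 4) (nat_lit 45) (Steps.fwd (nat_lit 10240) (Steps.fwd (nat_lit 4096) (Steps.bwd (nat_lit 10) Steps.nil))) (nat_lit 44) (nat_lit 2),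
  Rule.mk (nat_lit 8) (nat_lit 45) (Steps.fwd (nat_lit 10240) (Steps.bwd (nat_lit 8) (Steps.bwd (nat_lit 10) Steps.nil))) (nat_lit 49) (nat_lit 3),
  Rule.mk (nat_lit 8) (nat_lit 33) (Steps.fwd (nat_lit 7168) (Steps.bwd (nat_lit 8) Steps.nil)) (nat_lit 27) (nat_lit 0),
  Rule.mk (nat_lit 1) (nat_lit 45) (Steps.fwd (nat_lit 8192) (Steps.fwd (nat_lit 1024) (Steps.bwd (nat_lit 8) Steps.nil))) (nat_lit 28) (nat_lit 2),
  Rule.mk (nat_lit 2) (nat_lit 45) (Steps.fwd (nat_lit 8192) (Steps.fwd (nat_lit 2048) (Steps.bwd (nat_lit 8) Steps.nil))) (nat_lit 30) (nat_lit 2),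
  Rule.mk (nat_lit 10) (nat_lit 45) (Steps.bwd (nat_lit 8) (Steps.bwd (nat_lit 9) (Steps.bwd (nat_lit 8) Steps.nil))) (nat_lit 49) (nat_lit 2),
  Rule.mk (nat_lit 7) (nat_lit 45) (Steps.bwd (nat_lit 9) (Steps.fwd (nat_lit 8192) (Steps.bwd (nat_lit 10) Steps.nil))) (nat_lit 48) (nat_lit 2),
  Rule.mk (nat_lit 7) (nat_lit 33) (Steps.fwd (nat_lit 8192) (Steps.bwd (nat_lit 7) Steps.nil)) (nat_lit 26) (nat_lit 0),
  Rule.mk (nat_lit 1) (nat_lit 45) (Steps.fwd (nat_lit 7168) (Steps.fwd (nat_lit 1024) (Steps.bwd (nat_lit 7) Steps.nil))) (nat_lit 28) (nat_lit 0),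
  Rule.mk (nat_lit 2) (nat_lit 45) (Steps.fwd (nat_lit 7168) (Steps.fwd (nat_lit 2048) (Steps.bwd (nat_lit 7) Steps.nil))) (nat_lit 30) (nat_lit 0),
  Rule.mk (nat_lit 4) (nat_lit 45) (Steps.fwd (nat_lit 7168) (Steps.fwd (nat_lit 4096) (Steps.bwd (nat_lit 7) Steps.nil))) (nat_lit 34) (nat_lit 0),
  Rule.mk (nat_lit 10) (nat_lit 45) (Steps.fwd (nat_lit 8192) (Steps.fwd (nat_lit 10240) (Steps.bwd (nat_lit 7) Steps.nil))) (nat_lit 48) (nat_lit 1),
  Rule.mk (nat_lit 6) (nat_lit 93) (Steps.bwd (nat_lit 10) (Steps.fwd (nat_lit 1024) (Steps.fwd (nat_lit 2048) (Steps.bwd (nat_lit 6) (Steps.fwd (nat_lit 9216) (Steps.bwd (nat_lit 6) (Steps.bwd (nat_lit 10) Steps.nil))))))) (nat_lit 52) (nat_lit 7),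
  Rule.mk (nat_lit 0) (nat_lit 69) (Steps.bwd (nat_lit 8) (Steps.bwd (nat_lit 6) (Steps.bwd (nat_lit 7) (Steps.fwd (nat_lit 6144) (Steps.bwd (nat_lit 5) Steps.nil))))) (nat_lit 37) (nat_lit 2),
  Rule.mk (nat_lit 1) (nat_lit 45) (Steps.bwd (nat_lit 0) (Steps.fwd (nat_lit 1024) (Steps.fwd (nat_lit 0) Steps.nil))) (nat_lit 60) (nat_lit 0),
  Rule.mk (nat_lit 2) (nat_lit 45) (Steps.bwd (nat_lit 0) (Steps.fwd (nat_lit 2048) (Steps.fwd (nat_lit 0) Steps.nil))) (nat_lit 60) (nat_lit 0),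
  Rule.mk (nat_lit 4) (nat_lit 45) (Steps.bwd (nat_lit 0) (Steps.fwd (nat_lit 4096) (Steps.fwd (nat_lit 0) Steps.nil))) (nat_lit 60) (nat_lit 0),
  Rule.mk (nat_lit 6) (nat_lit 33) (Steps.bwd (nat_lit 0) (Steps.fwd (nat_lit 6144) Steps.nil)) (nat_lit 60) (nat_lit 0),
  Rule.mk (nat_lit 7) (nat_lit 33) (Steps.bwd (nat_lit 0) (Steps.bwd (nat_lit 8) Steps.nil)) (nat_lit 60) (nat_lit 0),
  Rule.mk (nat_lit 8) (nat_lit 33) (Steps.bwd (nat_lit 0) (Steps.bwd (nat_lit 7) Steps.nil)) (nat_lit 60) (nat_lit 0),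
  Rule.mk (nat_lit 9) (nat_lit 33) (Steps.bwd (nat_lit 0) (Steps.bwd (nat_lit 10) Steps.nil)) (nat_lit 60) (nat_lit 0),
  Rule.mk (nat_lit 0) (nat_lit 45) (Steps.bwd (nat_lit 10) (Steps.fwd (nat_lit 0) (Steps.bwd (nat_lit 9) Steps.nil))) (nat_lit 60) (nat_lit 0),
  Rule.mk (nat_lit 0) (nat_lit 45) (Steps.fwd (nat_lit 6144) (Steps.bwd (nat_lit 0) (Steps.bwd (nat_lit 6) Steps.nil))) (nat_lit 60) (nat_lit 0),
  Rule.mk (nat_lit 6) (nat_lit 33) (Steps.bwd (nat_lit 0) (Steps.bwd (nat_lit 5) Steps.nil)) (nat_lit 60) (nat_lit 0),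
  Rule.mk (nat_lit 8) (nat_lit 33) (Steps.bwd (nat_lit 0) (Steps.fwd (nat_lit 8192) Steps.nil)) (nat_lit 60) (nat_lit 0),
  Rule.mk (nat_lit 10) (nat_lit 33) (Steps.bwd (nat_lit 0) (Steps.bwd (nat_lit 9) Steps.nil)) (nat_lit 60) (nat_lit 0),
  Rule.mk (nat_lit 0) (nat_lit 45) (Steps.fwd (nat_lit 10240) (Steps.fwd (nat_lit 0) (Steps.bwd (nat_lit 10) Steps.nil))) (nat_lit 60) (nat_lit 0),
  Rule.mk (nat_lit 9) (nat_lit 489) (Steps.bwd (nat_lit 5) (Steps.bwd (nat_lit 5) (Steps.bwd (nat_lit 3) (Steps.bwd (nat_lit 6) (Steps.bwd (nat_lit 6) (Steps.bwd (nat_lit 9) (Steps.bwd (nat_lit 5) (Steps.bwd (nat_lit 5) (Steps.bwd (nat_lit 3) (Steps.bwd (nat_lit 6) (Steps.bwd (nat_lit 6) (Steps.bwd (nat_lit 9) (Steps.fwd (nat_lit 4096) (Steps.fwd (nat_lit 3072) (Steps.fwd (nat_lit 2048) (Steps.fwd (nat_lit 3072) (Steps.fwd (nat_lit 4096) (Steps.bwd (nat_lit 5) (Steps.bwd (nat_lit 5) (Steps.bwd (nat_lit 5)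 (Steps.fwd (nat_lit 4096) (Steps.fwd (nat_lit 3072) (Steps.fwd (nat_lit 2048) (Steps.fwd (nat_lit 3072) (Steps.fwd (nat_lit 4096) (Steps.fwd (nat_lit 5120) (Steps.fwd (nat_lit 3072) (Steps.fwd (nat_lit 2048) (Steps.fwd (nat_lit 3072) (Steps.fwd (nat_lit 2048) (Steps.fwd (nat_lit 1024) (Steps.fwd (nat_lit 3072) (Steps.fwd (nat_lit 5120) (Steps.fwd (nat_lit 5120) (Steps.bwd (nat_lit 9) (Steps.fwd (nat_lit 6144) (Steps.fwd (nat_lit 6144) (Steps.fwd (nat_lit 3072) (Steps.fwd (nat_lit 5120) (Steps.fwd (nat_lit 5120) Steps.nil)))))))))))))))))))))))))))))))))))))))) (nat_lit 56) (nat_lit 10),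
  Rule.mk (nat_lit 3) (nat_lit 45) (Steps.bwd (nat_lit 5) (Steps.bwd (nat_lit 3) (Steps.fwd (nat_lit 6144) Steps.nil))) (nat_lit 22) (nat_lit 0),
  Rule.mk (nat_lit 3) (nat_lit 45) (Steps.bwd (nat_lit 6) (Steps.bwd (nat_lit 3) (Steps.fwd (nat_lit 5120) Steps.nil))) (nat_lit 23) (nat_lit 1),
  Rule.mk (nat_lit 6) (nat_lit 45) (Steps.bwd (nat_lit 3) (Steps.bwd (nat_lit 6) (Steps.bwd (nat_lit 3) Steps.nil))) (nat_lit 23) (nat_lit 0),
  Rule.mk (nat_lit 8) (nat_lit 45) (Steps.bwd (nat_lit 3) (Steps.fwd (nat_lit 8192) (Steps.bwd (nat_lit 3) Steps.nil))) (nat_lit 32) (nat_lit 1),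
  Rule.mk (nat_lit 7) (nat_lit 45) (Steps.bwd (nat_lit 3) (Steps.fwd (nat_lit 7168) (Steps.bwd (nat_lit 3) Steps.nil))) (nat_lit 32) (nat_lit 3),
  Rule.mk (nat_lit 3) (nat_lit 69) (Steps.bwd (nat_lit 4) (Steps.bwd (nat_lit 3) (Steps.fwd (nat_lit 4096) (Steps.fwd (nat_lit 3072) (Steps.fwd (nat_lit 4096) Steps.nil))))) (nat_lit 14) (nat_lit 1),
  Rule.mk (nat_lit 7) (nat_lit 45) (Steps.bwd (nat_lit 4) (Steps.fwd (nat_lit 7168) (Steps.fwd (nat_lit 4096) Steps.nil))) (nat_lit 34) (nat_lit 3),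
  Rule.mk (nat_lit 10) (nat_lit 45) (Steps.bwd (nat_lit 4) (Steps.fwd (nat_lit 10240) (Steps.fwd (nat_lit 4096) Steps.nil))) (nat_lit 44) (nat_lit 1),
  Rule.mk (nat_lit 2) (nat_lit 105) (Steps.bwd (nat_lit 3) (Steps.bwd (nat_lit 2) (Steps.bwd (nat_lit 3) (Steps.fwd (nat_lit 2048) (Steps.fwd (nat_lit 1024) (Steps.fwd (nat_lit 3072) (Steps.fwd (nat_lit 2048) (Steps.fwd (nat_lit 3072) Steps.nil)))))))) (nat_lit 10) (nat_lit 5),
  Rule.mk (nat_lit 1) (nat_lit 105) (Steps.bwd (nat_lit 3) (Steps.bwd (nat_lit 2) (Steps.bwd (nat_lit 3) (Steps.fwd (nat_lit 2048) (Steps.fwd (nat_lit 3072) (Steps.fwd (nat_lit 2048) (Steps.fwd (nat_lit 3072) (Steps.fwd (nat_lit 2048) Steps.nil)))))))) (nat_lit 10) (nat_lit 1),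
  Rule.mk (nat_lit 1) (nat_lit 105) (Steps.bwd (nat_lit 3) (Steps.fwd (nat_lit 2048) (Steps.fwd (nat_lit 3072) (Steps.fwd (nat_lit 2048) (Steps.fwd (nat_lit 3072) (Steps.fwd (nat_lit 2048) (Steps.bwd (nat_lit 3) (Steps.bwd (nat_lit 2) Steps.nil)))))))) (nat_lit 10) (nat_lit 1),
  Rule.mk (nat_lit 1) (nat_lit 45) (Steps.bwd (nat_lit 4) (Steps.fwd (nat_lit 1024) (Steps.fwd (nat_lit 4096) Steps.nil))) (nat_lit 8) (nat_lit 1)]
noncomputable def R_1 : List (Rule) := [Rule.mk (nat_lit 1) (nat_lit 45) (Steps.bwd (nat_lit 5) (Steps.fwd (nat_lit 1024) (Steps.fwd (nat_lit 5120) Steps.nil))) (nat_lit 18) (nat_lit 2),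
  Rule.mk (nat_lit 9) (nat_lit 45) (Steps.bwd (nat_lit 2) (Steps.fwd (nat_lit 1024) (Steps.fwd (nat_lit 10240) Steps.nil))) (nat_lit 38) (nat_lit 2),
  Rule.mk (nat_lit 1) (nat_lit 45) (Steps.bwd (nat_lit 10) (Steps.fwd (nat_lit 1024) (Steps.fwd (nat_lit 10240) Steps.nil))) (nat_lit 40) (nat_lit 0),
  Rule.mk (nat_lit 8) (nat_lit 45) (Steps.bwd (nat_lit 3) (Steps.bwd (nat_lit 7) (Steps.fwd (nat_lit 3072) Steps.nil))) (nat_lit 32) (nat_lit 1),
  Rule.mk (nat_lit 1) (nat_lit 45) (Steps.fwd (nat_lit 5120) (Steps.fwd (nat_lit 1024) (Steps.bwd (nat_lit 5) Steps.nil))) (nat_lit 18) (nat_lit 0),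
  Rule.mk (nat_lit 1) (nat_lit 45) (Steps.bwd (nat_lit 9) (Steps.fwd (nat_lit 1024) (Steps.fwd (nat_lit 9216) Steps.nil))) (nat_lit 40) (nat_lit 2),
  Rule.mk (nat_lit 2) (nat_lit 45) (Steps.fwd (nat_lit 1024) (Steps.bwd (nat_lit 9) (Steps.bwd (nat_lit 9) Steps.nil))) (nat_lit 38) (nat_lit 3),
  Rule.mk (nat_lit 2) (nat_lit 45) (Steps.fwd (nat_lit 5120) (Steps.bwd (nat_lit 2) (Steps.fwd (nat_lit 6144) Steps.nil))) (nat_lit 20) (nat_lit 0),
  Rule.mk (nat_lit 2) (nat_lit 45) (Steps.bwd (nat_lit 6) (Steps.bwd (nat_lit 2) (Steps.bwd (nat_lit 5) Steps.nil))) (nat_lit 20) (nat_lit 0),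
  Rule.mk (nat_lit 1) (nat_lit 105) (Steps.fwd (nat_lit 3072) (Steps.bwd (nat_lit 2) (Steps.fwd (nat_lit 3072) (Steps.bwd (nat_lit 2) (Steps.fwd (nat_lit 3072) (Steps.bwd (nat_lit 2) (Steps.fwd (nat_lit 3072) (Steps.bwd (nat_lit 2) Steps.nil)))))))) (nat_lit 10) (nat_lit 1),
  Rule.mk (nat_lit 10) (nat_lit 117) (Steps.bwd (nat_lit 3) (Steps.bwd (nat_lit 9) (Steps.bwd (nat_lit 3) (Steps.fwd (nat_lit 4096) (Steps.fwd (nat_lit 9216) (Steps.fwd (nat_lit 3072) (Steps.bwd (nat_lit 9) (Steps.fwd (nat_lit 3072) (Steps.fwd (nat_lit 4096) Steps.nil))))))))) (nat_lit 46) (nat_lit 3),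
  Rule.mk (nat_lit 1) (nat_lit 45) (Steps.fwd (nat_lit 10240) (Steps.fwd (nat_lit 1024) (Steps.bwd (nat_lit 10) Steps.nil))) (nat_lit 40) (nat_lit 2),
  Rule.mk (nat_lit 4) (nat_lit 45) (Steps.bwd (nat_lit 9) (Steps.fwd (nat_lit 4096) (Steps.bwd (nat_lit 10) Steps.nil))) (nat_lit 44) (nat_lit 2),
  Rule.mk (nat_lit 1) (nat_lit 45) (Steps.fwd (nat_lit 4096) (Steps.fwd (nat_lit 1024) (Steps.bwd (nat_lit 4) Steps.nil))) (nat_lit 8) (nat_lit 1),
  Rule.mk (nat_lit 2) (nat_lit 45) (Steps.fwd (nat_lit 1024) (Steps.bwd (nat_lit 9) (Steps.fwd (nat_lit 10240) Steps.nil))) (nat_lit 38) (nat_lit 3),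
  Rule.mk (nat_lit 2) (nat_lit 45) (Steps.bwd (nat_lit 4) (Steps.bwd (nat_lit 2) (Steps.fwd (nat_lit 4096) Steps.nil))) (nat_lit 12) (nat_lit 1),
  Rule.mk (nat_lit 9) (nat_lit 489) (Steps.bwd (nat_lit 5) (Steps.bwd (nat_lit 5) (Steps.bwd (nat_lit 3) (Steps.bwd (nat_lit 6) (Steps.bwd (nat_lit 6) (Steps.bwd (nat_lit 9) (Steps.bwd (nat_lit 5) (Steps.bwd (nat_lit 5) (Steps.bwd (nat_lit 3) (Steps.bwd (nat_lit 6) (Steps.bwd (nat_lit 6) (Steps.bwd (nat_lit 9) (Steps.bwd (nat_lit 5) (Steps.bwd (nat_lit 5) (Steps.bwd (nat_lit 3) (Steps.bwd (nat_lit 6) (Steps.bwd (nat_lit 6) (Steps.bwd (nat_lit 9) (Steps.bwd (nat_lit 4) (Steps.bwd (nat_lit 3) (Steps.bwd (nat_lit 2) (Steps.bwd (nat_lit 3) (Steps.bwd (nat_lit 4) (Steps.bwd (nat_lit 5) (Steps.bwd (nat_lit 5) (Steps.bwd (nat_lit 5) (Steps.bwd (nat_lit 4) (Steps.bwd (nat_lit 3) (Steps.bwd (nat_lit 2) (Steps.bwd (nat_lit 3) (Steps.bwd (nat_lit 4) (Steps.bwd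 (nat_lit 6) (Steps.bwd (nat_lit 3) (Steps.bwd (nat_lit 2) (Steps.bwd (nat_lit 3) (Steps.fwd (nat_lit 2048) (Steps.fwd (nat_lit 1024) (Steps.fwd (nat_lit 3072) (Steps.fwd (nat_lit 5120) (Steps.bwd (nat_lit 6) Steps.nil)))))))))))))))))))))))))))))))))))))))) (nat_lit 56) (nat_lit 4),
  Rule.mk (nat_lit 8) (nat_lit 45) (Steps.fwd (nat_lit 9216) (Steps.fwd (nat_lit 7168) (Steps.bwd (nat_lit 9) Steps.nil))) (nat_lit 49) (nat_lit 1),
  Rule.mk (nat_lit 7) (nat_lit 57) (Steps.fwd (nat_lit 5120) (Steps.fwd (nat_lit 5120) (Steps.bwd (nat_lit 8) (Steps.bwd (nat_lit 5) Steps.nil)))) (nat_lit 36) (nat_lit 3),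
  Rule.mk (nat_lit 2) (nat_lit 45) (Steps.bwd (nat_lit 4) (Steps.fwd (nat_lit 2048) (Steps.fwd (nat_lit 4096) Steps.nil))) (nat_lit 12) (nat_lit 1),
  Rule.mk (nat_lit 2) (nat_lit 45) (Steps.bwd (nat_lit 5) (Steps.fwd (nat_lit 2048) (Steps.fwd (nat_lit 5120) Steps.nil))) (nat_lit 20) (nat_lit 2),
  Rule.mk (nat_lit 6) (nat_lit 633) (Steps.bwd (nat_lit 4) (Steps.bwd (nat_lit 3) (Steps.bwd (nat_lit 2) (Steps.bwd (nat_lit 3) (Steps.bwd (nat_lit 4) (Steps.bwd (nat_lit 5) (Steps.bwd (nat_lit 4) (Steps.bwd (nat_lit 2) (Steps.bwd (nat_lit 3) (Steps.bwd (nat_lit 4) (Steps.bwd (nat_lit 3) (Steps.bwd (nat_lit 2) (Steps.bwd (nat_lit 3) (Steps.bwd (nat_lit 6) (Steps.bwd (nat_lit 4) (Steps.bwd (nat_lit 3) (Steps.bwd (nat_lit 2) (Steps.bwd (nat_lit 3) (Steps.bwd (nat_lit 4) (Steps.bwd (nat_lit 5) (Steps.bwd (nat_lit 4) (Steps.bwd (nat_lit 5) (Steps.bwd (nat_lit 4) (Steps.bwd (nat_lit 3) (Steps.bwd (nat_lit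 2) (Steps.bwd (nat_lit 3) (Steps.bwd (nat_lit 4) (Steps.bwd (nat_lit 5) (Steps.bwd (nat_lit 4) (Steps.bwd (nat_lit 3) (Steps.bwd (nat_lit 2) (Steps.bwd (nat_lit 3) (Steps.bwd (nat_lit 4) (Steps.bwd (nat_lit 6) (Steps.bwd (nat_lit 6) (Steps.bwd (nat_lit 6) (Steps.bwd (nat_lit 4) (Steps.bwd (nat_lit 3) (Steps.bwd (nat_lit 2) (Steps.bwd (nat_lit 3) (Steps.bwd (nat_lit 4) (Steps.bwd (nat_lit 6) (Steps.bwd (nat_lit 4) (Steps.bwd (nat_lit 3) (Steps.bwd (nat_lit 2) (Steps.bwd (nat_lit 3) (Steps.fwd (nat_lit 4096) (Steps.fwd (nat_lit 6144) (Steps.fwd (nat_lit 6144) (Steps.fwd (nat_lit 2048) (Steps.fwd (nat_lit 3072) (Steps.fwd (nat_lit 4096) Steps.nil)))))))))))))))))))))))))))))))))))))))))))))))))))) (nat_lit 58) (nat_lit 4),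
  Rule.mk (nat_lit 1) (nat_lit 105) (Steps.fwd (nat_lit 2048) (Steps.fwd (nat_lit 3072) (Steps.fwd (nat_lit 2048) (Steps.bwd (nat_lit 3) (Steps.bwd (nat_lit 2) (Steps.bwd (nat_lit 3) (Steps.fwd (nat_lit 2048) (Steps.fwd (nat_lit 3072) Steps.nil)))))))) (nat_lit 11) (nat_lit 0),
  Rule.mk (nat_lit 6) (nat_lit 45) (Steps.bwd (nat_lit 3) (Steps.bwd (nat_lit 6) (Steps.fwd (nat_lit 3072) Steps.nil))) (nat_lit 23) (nat_lit 0),
  Rule.mk (nat_lit 3) (nat_lit 69) (Steps.bwd (nat_lit 4) (Steps.fwd (nat_lit 3072) (Steps.fwd (nat_lit 4096) (Steps.bwd (nat_lit 3) (Steps.fwd (nat_lit 4096) Steps.nil))))) (nat_lit 14) (nat_lit 1),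
  Rule.mk (nat_lit 6) (nat_lit 45) (Steps.bwd (nat_lit 2) (Steps.bwd (nat_lit 5) (Steps.fwd (nat_lit 2048) Steps.nil))) (nat_lit 20) (nat_lit 1),
  Rule.mk (nat_lit 0) (nat_lit 57) (Steps.bwd (nat_lit 3) (Steps.fwd (nat_lit 6144) (Steps.fwd (nat_lit 3072) (Steps.fwd (nat_lit 6144) Steps.nil)))) (nat_lit 22) (nat_lit 1),
  Rule.mk (nat_lit 3) (nat_lit 33) (Steps.bwd (nat_lit 0) (Steps.bwd (nat_lit 3) Steps.nil)) (nat_lit 60) (nat_lit 0),
  Rule.mk (nat_lit 10) (nat_lit 117) (Steps.bwd (nat_lit 3) (Steps.bwd (nat_lit 9) (Steps.bwd (nat_lit 3) (Steps.bwd (nat_lit 4) (Steps.bwd (nat_lit 10) (Steps.bwd (nat_lit 3) (Steps.bwd (nat_lit 9) (Steps.bwd (nat_lit 3) (Steps.fwd (nat_lit 4096) Steps.nil))))))))) (nat_lit 46) (nat_lit 3),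
  Rule.mk (nat_lit 5) (nat_lit 45) (Steps.bwd (nat_lit 3) (Steps.fwd (nat_lit 6144) (Steps.fwd (nat_lit 3072) Steps.nil))) (nat_lit 22) (nat_lit 1),
  Rule.mk (nat_lit 9) (nat_lit 489) (Steps.bwd (nat_lit 5) (Steps.bwd (nat_lit 5) (Steps.bwd (nat_lit 3) (Steps.bwd (nat_lit 6) (Steps.bwd (nat_lit 6) (Steps.bwd (nat_lit 9) (Steps.bwd (nat_lit 5) (Steps.bwd (nat_lit 5) (Steps.bwd (nat_lit 3) (Steps.bwd (nat_lit 6) (Steps.bwd (nat_lit 6) (Steps.bwd (nat_lit 9) (Steps.bwd (nat_lit 5) (Steps.bwd (nat_lit 5) (Steps.bwd (nat_lit 3) (Steps.bwd (nat_lit 6) (Steps.bwd (nat_lit 6) (Steps.bwd (nat_lit 9) (Steps.bwd (nat_lit 4) (Steps.bwd (nat_lit 3) (Steps.bwd (nat_lit 2) (Steps.bwd (nat_lit 3) (Steps.bwd (nat_lit 4) (Steps.bwd (nat_lit 5) (Steps.bwd (nat_lit 5) (Steps.bwd (nat_lit 5) (Steps.bwd (nat_lit 4) (Steps.bwd (nat_lit 3) (Steps.bwd (nat_lit 2) (Steps.bwd (nat_lit 3) (Steps.bwd (nat_lit 4) (Steps.bwd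 (nat_lit 6) (Steps.fwd (nat_lit 3072) (Steps.bwd (nat_lit 2) (Steps.fwd (nat_lit 3072) (Steps.fwd (nat_lit 2048) (Steps.fwd (nat_lit 1024) (Steps.bwd (nat_lit 3) (Steps.bwd (nat_lit 6) (Steps.fwd (nat_lit 5120) Steps.nil)))))))))))))))))))))))))))))))))))))))) (nat_lit 56) (nat_lit 4),
  Rule.mk (nat_lit 8) (nat_lit 45) (Steps.bwd (nat_lit 10) (Steps.fwd (nat_lit 7168) (Steps.bwd (nat_lit 9) Steps.nil))) (nat_lit 49) (nat_lit 1),
  Rule.mk (nat_lit 7) (nat_lit 57) (Steps.bwd (nat_lit 6) (Steps.bwd (nat_lit 6) (Steps.bwd (nat_lit 8) (Steps.fwd (nat_lit 6144) Steps.nil)))) (nat_lit 36) (nat_lit 3),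
  Rule.mk (nat_lit 8) (nat_lit 45) (Steps.bwd (nat_lit 4) (Steps.bwd (nat_lit 7) (Steps.fwd (nat_lit 4096) Steps.nil))) (nat_lit 34) (nat_lit 1),
  Rule.mk (nat_lit 7) (nat_lit 45) (Steps.bwd (nat_lit 3) (Steps.bwd (nat_lit 8) (Steps.fwd (nat_lit 3072) Steps.nil))) (nat_lit 32) (nat_lit 3),
  Rule.mk (nat_lit 8) (nat_lit 45) (Steps.bwd (nat_lit 2) (Steps.bwd (nat_lit 7) (Steps.fwd (nat_lit 2048) Steps.nil))) (nat_lit 30) (nat_lit 1),
  Rule.mk (nat_lit 7) (nat_lit 57) (Steps.bwd (nat_lit 5) (Steps.bwd (nat_lit 5) (Steps.bwd (nat_lit 8) (Steps.fwd (nat_lit 5120) Steps.nil)))) (nat_lit 37) (nat_lit 0),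
  Rule.mk (nat_lit 6) (nat_lit 633) (Steps.bwd (nat_lit 4) (Steps.bwd (nat_lit 3) (Steps.bwd (nat_lit 2) (Steps.bwd (nat_lit 3) (Steps.bwd (nat_lit 4) (Steps.bwd (nat_lit 5) (Steps.bwd (nat_lit 4) (Steps.bwd (nat_lit 2) (Steps.bwd (nat_lit 3) (Steps.bwd (nat_lit 4) (Steps.bwd (nat_lit 3) (Steps.bwd (nat_lit 2) (Steps.bwd (nat_lit 3) (Steps.bwd (nat_lit 6) (Steps.bwd (nat_lit 4) (Steps.bwd (nat_lit 3) (Steps.bwd (nat_lit 2) (Steps.bwd (nat_lit 3) (Steps.bwd (nat_lit 4) (Steps.bwd (nat_lit 5) (Steps.bwd (nat_lit 4) (Steps.bwd (nat_lit 5) (Steps.bwd (nat_lit 4) (Steps.bwd (nat_lit 3) (Steps.bwd (nat_lit 2) (Steps.bwd (nat_lit 3) (Steps.bwd (nat_lit 4) (Steps.bwd (nat_lit 5) (Steps.bwd (nat_lit 4) (Steps.bwd (nat_lit 3) (Steps.bwd (nat_lit 2) (Steps.bwd (nat_lit 3) (Steps.bwd (nat_lit 4) (Steps.bwd (nat_lit 6) (Steps.bwd (nat_lit 6) (Steps.bwd (nat_lit 6) (Steps.bwd (nat_lit 4) (Steps.bwd (nat_lit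 3) (Steps.bwd (nat_lit 2) (Steps.bwd (nat_lit 3) (Steps.bwd (nat_lit 4) (Steps.bwd (nat_lit 6) (Steps.bwd (nat_lit 4) (Steps.bwd (nat_lit 3) (Steps.bwd (nat_lit 2) (Steps.bwd (nat_lit 3) (Steps.fwd (nat_lit 4096) (Steps.fwd (nat_lit 6144) (Steps.fwd (nat_lit 6144) (Steps.fwd (nat_lit 2048) (Steps.bwd (nat_lit 3) (Steps.fwd (nat_lit 4096) Steps.nil)))))))))))))))))))))))))))))))))))))))))))))))))))) (nat_lit 58) (nat_lit 4),
  Rule.mk (nat_lit 2) (nat_lit 105) (Steps.bwd (nat_lit 3) (Steps.bwd (nat_lit 2) (Steps.fwd (nat_lit 1024) (Steps.bwd (nat_lit 3) (Steps.fwd (nat_lit 2048) (Steps.fwd (nat_lit 3072) (Steps.fwd (nat_lit 2048) (Steps.fwd (nat_lit 3072) Steps.nil)))))))) (nat_lit 10) (nat_lit 7),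
  Rule.mk (nat_lit 1) (nat_lit 105) (Steps.fwd (nat_lit 3072) (Steps.fwd (nat_lit 2048) (Steps.bwd (nat_lit 3) (Steps.bwd (nat_lit 2) (Steps.bwd (nat_lit 3) (Steps.fwd (nat_lit 2048) (Steps.fwd (nat_lit 3072) (Steps.fwd (nat_lit 2048) Steps.nil)))))))) (nat_lit 10) (nat_lit 1),
  Rule.mk (nat_lit 5) (nat_lit 45) (Steps.bwd (nat_lit 2) (Steps.fwd (nat_lit 5120) (Steps.fwd (nat_lit 2048) Steps.nil))) (nat_lit 20) (nat_lit 3),
  Rule.mk (nat_lit 6) (nat_lit 45) (Steps.bwd (nat_lit 2) (Steps.fwd (nat_lit 6144) (Steps.fwd (nat_lit 2048) Steps.nil))) (nat_lit 20) (nat_lit 1),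
  Rule.mk (nat_lit 8) (nat_lit 45) (Steps.bwd (nat_lit 2) (Steps.fwd (nat_lit 8192) (Steps.fwd (nat_lit 2048) Steps.nil))) (nat_lit 30) (nat_lit 1),
  Rule.mk (nat_lit 5) (nat_lit 45) (Steps.bwd (nat_lit 3) (Steps.bwd (nat_lit 5) (Steps.fwd (nat_lit 3072) Steps.nil))) (nat_lit 22) (nat_lit 1),
  Rule.mk (nat_lit 10) (nat_lit 117) (Steps.bwd (nat_lit 3) (Steps.bwd (nat_lit 9) (Steps.bwd (nat_lit 3) (Steps.bwd (nat_lit 4) (Steps.bwd (nat_lit 10) (Steps.fwd (nat_lit 3072) (Steps.fwd (nat_lit 10240) (Steps.fwd (nat_lit 3072) (Steps.fwd (nat_lit 4096) Steps.nil))))))))) (nat_lit 46) (nat_lit 3),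
  Rule.mk (nat_lit 2) (nat_lit 45) (Steps.fwd (nat_lit 1024) (Steps.fwd (nat_lit 10240) (Steps.fwd (nat_lit 10240) Steps.nil))) (nat_lit 38) (nat_lit 3),
  Rule.mk (nat_lit 9) (nat_lit 45) (Steps.bwd (nat_lit 4) (Steps.bwd (nat_lit 10) (Steps.fwd (nat_lit 4096) Steps.nil))) (nat_lit 44) (nat_lit 3),
  Rule.mk (nat_lit 2) (nat_lit 45) (Steps.fwd (nat_lit 1024) (Steps.fwd (nat_lit 10240) (Steps.bwd (nat_lit 9) Steps.nil))) (nat_lit 38) (nat_lit 3),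
  Rule.mk (nat_lit 10) (nat_lit 45) (Steps.bwd (nat_lit 10) (Steps.fwd (nat_lit 1024) (Steps.fwd (nat_lit 2048) Steps.nil))) (nat_lit 39) (nat_lit 3),
  Rule.mk (nat_lit 7) (nat_lit 45) (Steps.bwd (nat_lit 10) (Steps.bwd (nat_lit 7) (Steps.bwd (nat_lit 9) Steps.nil))) (nat_lit 48) (nat_lit 0),
  Rule.mk (nat_lit 8) (nat_lit 45) (Steps.bwd (nat_lit 10) (Steps.bwd (nat_lit 8) (Steps.bwd (nat_lit 9) Steps.nil))) (nat_lit 49) (nat_lit 1),
  Rule.mk (nat_lit 5) (nat_lit 489) (Steps.bwd (nat_lit 5) (Steps.bwd (nat_lit 3) (Steps.bwd (nat_lit 6) (Steps.bwd (nat_lit 6) (Steps.bwd (nat_lit 9) (Steps.bwd (nat_lit 5) (Steps.bwd (nat_lit 5) (Steps.bwd (nat_lit 3) (Steps.bwd (nat_lit 6) (Steps.bwd (nat_lit 6) (Steps.bwd (nat_lit 9) (Steps.bwd (nat_lit 5) (Steps.bwd (nat_lit 5) (Steps.bwd (nat_lit 3) (Steps.bwd (nat_lit 6) (Steps.bwd (nat_lit 6) (Steps.bwd (nat_lit 9) (Steps.bwd (nat_lit 4) (Steps.bwd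 (nat_lit 3) (Steps.bwd (nat_lit 2) (Steps.bwd (nat_lit 3) (Steps.bwd (nat_lit 4) (Steps.bwd (nat_lit 5) (Steps.bwd (nat_lit 5) (Steps.bwd (nat_lit 5) (Steps.bwd (nat_lit 4) (Steps.bwd (nat_lit 3) (Steps.bwd (nat_lit 2) (Steps.bwd (nat_lit 3) (Steps.bwd (nat_lit 4) (Steps.fwd (nat_lit 5120) (Steps.bwd (nat_lit 3) (Steps.bwd (nat_lit 2) (Steps.bwd (nat_lit 3) (Steps.fwd (nat_lit 2048) (Steps.fwd (nat_lit 1024) (Steps.fwd (nat_lit 3072) (Steps.fwd (nat_lit 5120) (Steps.fwd (nat_lit 5120) (Steps.fwd (nat_lit 10240) Steps.nil)))))))))))))))))))))))))))))))))))))))) (nat_lit 56) (nat_lit 5),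
  Rule.mk (nat_lit 8) (nat_lit 57) (Steps.fwd (nat_lit 5120) (Steps.bwd (nat_lit 7) (Steps.bwd (nat_lit 5) (Steps.bwd (nat_lit 5) Steps.nil)))) (nat_lit 37) (nat_lit 3),
  Rule.mk (nat_lit 1) (nat_lit 45) (Steps.bwd (nat_lit 8) (Steps.fwd (nat_lit 1024) (Steps.fwd (nat_lit 8192) Steps.nil))) (nat_lit 28) (nat_lit 0),
  Rule.mk (nat_lit 7) (nat_lit 45) (Steps.bwd (nat_lit 4) (Steps.bwd (nat_lit 8) (Steps.fwd (nat_lit 4096) Steps.nil))) (nat_lit 34) (nat_lit 3),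
  Rule.mk (nat_lit 7) (nat_lit 45) (Steps.bwd (nat_lit 10) (Steps.fwd (nat_lit 8192) (Steps.bwd (nat_lit 9) Steps.nil))) (nat_lit 48) (nat_lit 0),
  Rule.mk (nat_lit 8) (nat_lit 45) (Steps.bwd (nat_lit 3) (Steps.bwd (nat_lit 7) (Steps.bwd (nat_lit 3) Steps.nil))) (nat_lit 32) (nat_lit 1),
  Rule.mk (nat_lit 7) (nat_lit 33) (Steps.bwd (nat_lit 7) (Steps.fwd (nat_lit 8192) Steps.nil)) (nat_lit 26) (nat_lit 0),
  Rule.mk (nat_lit 5) (nat_lit 45) (Steps.bwd (nat_lit 2) (Steps.bwd (nat_lit 6) (Steps.fwd (nat_lit 2048) Steps.nil))) (nat_lit 20) (nat_lit 3),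
  Rule.mk (nat_lit 4) (nat_lit 45) (Steps.bwd (nat_lit 2) (Steps.bwd (nat_lit 4) (Steps.fwd (nat_lit 2048) Steps.nil))) (nat_lit 12) (nat_lit 0),
  Rule.mk (nat_lit 10) (nat_lit 45) (Steps.bwd (nat_lit 4) (Steps.bwd (nat_lit 9) (Steps.bwd (nat_lit 4) Steps.nil))) (nat_lit 44) (nat_lit 1),
  Rule.mk (nat_lit 6) (nat_lit 93) (Steps.bwd (nat_lit 10) (Steps.bwd (nat_lit 6) (Steps.bwd (nat_lit 10) (Steps.fwd (nat_lit 1024) (Steps.fwd (nat_lit 2048) (Steps.bwd (nat_lit 6) (Steps.bwd (nat_lit 10) Steps.nil))))))) (nat_lit 52) (nat_lit 5),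
  Rule.mk (nat_lit 6) (nat_lit 105) (Steps.bwd (nat_lit 6) (Steps.bwd (nat_lit 4) (Steps.bwd (nat_lit 5) (Steps.fwd (nat_lit 6144) (Steps.bwd (nat_lit 5) (Steps.fwd (nat_lit 4096) (Steps.bwd (nat_lit 6) (Steps.bwd (nat_lit 4) Steps.nil)))))))) (nat_lit 24) (nat_lit 6),
  Rule.mk (nat_lit 6) (nat_lit 141) (Steps.bwd (nat_lit 10) (Steps.bwd (nat_lit 5) (Steps.bwd (nat_lit 5) (Steps.bwd (nat_lit 4) (Steps.bwd (nat_lit 6) (Steps.bwd (nat_lit 6) (Steps.bwd (nat_lit 9) (Steps.fwd (nat_lit 6144) (Steps.bwd (nat_lit 5) (Steps.fwd (nat_lit 4096) (Steps.bwd (nat_lit 6) Steps.nil))))))))))) (nat_lit 50) (nat_lit 3)]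
noncomputable def R_2 : List (Rule) := [Rule.mk (nat_lit 8) (nat_lit 45) (Steps.fwd (nat_lit 2048) (Steps.fwd (nat_lit 8192) (Steps.bwd (nat_lit 2) Steps.nil))) (nat_lit 30) (nat_lit 1),
  Rule.mk (nat_lit 9) (nat_lit 213) (Steps.bwd (nat_lit 6) (Steps.bwd (nat_lit 10) (Steps.bwd (nat_lit 5) (Steps.bwd (nat_lit 9) (Steps.bwd (nat_lit 6) (Steps.bwd (nat_lit 10) (Steps.bwd (nat_lit 5) (Steps.bwd (nat_lit 9) (Steps.bwd (nat_lit 6) (Steps.bwd (nat_lit 10) (Steps.bwd (nat_lit 5) (Steps.bwd (nat_lit 9) (Steps.fwd (nat_lit 1024) (Steps.fwd (nat_lit 2048) (Steps.bwd (nat_lit 6) (Steps.bwd (nat_lit 10) (Steps.bwd (nat_lit 5) Steps.nil))))))))))))))))) (nat_lit 54) (nat_lit 6),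
  Rule.mk (nat_lit 5) (nat_lit 93) (Steps.bwd (nat_lit 2) (Steps.fwd (nat_lit 1024) (Steps.bwd (nat_lit 9) (Steps.fwd (nat_lit 6144) (Steps.fwd (nat_lit 10240) (Steps.bwd (nat_lit 5) (Steps.bwd (nat_lit 9) Steps.nil))))))) (nat_lit 53) (nat_lit 6),
  Rule.mk (nat_lit 4) (nat_lit 489) (Steps.bwd (nat_lit 3) (Steps.bwd (nat_lit 2) (Steps.bwd (nat_lit 3) (Steps.bwd (nat_lit 4) (Steps.bwd (nat_lit 5) (Steps.bwd (nat_lit 5) (Steps.bwd (nat_lit 5) (Steps.bwd (nat_lit 4) (Steps.bwd (nat_lit 3) (Steps.bwd (nat_lit 2) (Steps.bwd (nat_lit 3) (Steps.bwd (nat_lit 4) (Steps.fwd (nat_lit 5120) (Steps.fwd (nat_lit 3072) (Steps.fwd (nat_lit 2048) (Steps.bwd (nat_lit 3) (Steps.bwd (nat_lit 2) (Steps.fwd (nat_lit 1024) (Steps.bwd (nat_lit 3) (Steps.bwd (nat_lit 6) (Steps.bwd (nat_lit 6) (Steps.bwd (nat_lit 9) (Steps.fwd (nat_lit 6144) (Steps.fwd (nat_lit 6144) (Steps.fwd (nat_lit 3072) (Steps.fwd (nat_lit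 5120) (Steps.fwd (nat_lit 5120) (Steps.fwd (nat_lit 10240) (Steps.bwd (nat_lit 5) (Steps.bwd (nat_lit 5) (Steps.bwd (nat_lit 3) (Steps.bwd (nat_lit 6) (Steps.bwd (nat_lit 6) (Steps.bwd (nat_lit 9) (Steps.bwd (nat_lit 5) (Steps.bwd (nat_lit 5) (Steps.bwd (nat_lit 3) (Steps.bwd (nat_lit 6) (Steps.bwd (nat_lit 6) (Steps.bwd (nat_lit 9) Steps.nil)))))))))))))))))))))))))))))))))))))))) (nat_lit 56) (nat_lit 27),
  Rule.mk (nat_lit 9) (nat_lit 45) (Steps.bwd (nat_lit 4) (Steps.fwd (nat_lit 9216) (Steps.fwd (nat_lit 4096) Steps.nil))) (nat_lit 44) (nat_lit 3),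
  Rule.mk (nat_lit 0) (nat_lit 117) (Steps.bwd (nat_lit 3) (Steps.bwd (nat_lit 2) (Steps.bwd (nat_lit 3) (Steps.fwd (nat_lit 2048) (Steps.fwd (nat_lit 3072) (Steps.bwd (nat_lit 2) (Steps.fwd (nat_lit 1024) (Steps.fwd (nat_lit 3072) (Steps.fwd (nat_lit 2048) Steps.nil))))))))) (nat_lit 10) (nat_lit 3),
  Rule.mk (nat_lit 4) (nat_lit 33) (Steps.bwd (nat_lit 0) (Steps.fwd (nat_lit 4096) Steps.nil)) (nat_lit 60) (nat_lit 0),
  Rule.mk (nat_lit 6) (nat_lit 633) (Steps.bwd (nat_lit 4) (Steps.bwd (nat_lit 3) (Steps.bwd (nat_lit 2) (Steps.bwd (nat_lit 3) (Steps.bwd (nat_lit 4) (Steps.bwd (nat_lit 5) (Steps.bwd (nat_lit 4) (Steps.bwd (nat_lit 2) (Steps.bwd (nat_lit 3) (Steps.bwd (nat_lit 4) (Steps.bwd (nat_lit 3) (Steps.bwd (nat_lit 2) (Steps.bwd (nat_lit 3) (Steps.bwd (nat_lit 6) (Steps.bwd (nat_lit 4) (Steps.bwd (nat_lit 3) (Steps.bwd (nat_lit 2) (Steps.bwd (nat_lit 3) (Steps.bwd (nat_lit 4) (Steps.bwd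 (nat_lit 5) (Steps.bwd (nat_lit 4) (Steps.bwd (nat_lit 5) (Steps.bwd (nat_lit 4) (Steps.bwd (nat_lit 3) (Steps.bwd (nat_lit 2) (Steps.bwd (nat_lit 3) (Steps.bwd (nat_lit 4) (Steps.bwd (nat_lit 5) (Steps.bwd (nat_lit 4) (Steps.bwd (nat_lit 3) (Steps.bwd (nat_lit 2) (Steps.bwd (nat_lit 3) (Steps.bwd (nat_lit 4) (Steps.bwd (nat_lit 6) (Steps.bwd (nat_lit 6) (Steps.bwd (nat_lit 6) (Steps.bwd (nat_lit 4) (Steps.bwd (nat_lit 3) (Steps.bwd (nat_lit 2) (Steps.bwd (nat_lit 3) (Steps.bwd (nat_lit 4) (Steps.bwd (nat_lit 6) (Steps.bwd (nat_lit 4) (Steps.bwd (nat_lit 3) (Steps.bwd (nat_lit 2) (Steps.bwd (nat_lit 3) (Steps.bwd (nat_lit 4) (Steps.fwd (nat_lit 6144) (Steps.bwd (nat_lit 5) (Steps.fwd (nat_lit 2048) (Steps.fwd (nat_lit 3072) (Steps.fwd (nat_lit 4096) Steps.nil)))))))))))))))))))))))))))))))))))))))))))))))))))) (nat_lit 58) (nat_lit 4),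
  Rule.mk (nat_lit 6) (nat_lit 105) (Steps.bwd (nat_lit 6) (Steps.bwd (nat_lit 6) (Steps.bwd (nat_lit 4) (Steps.bwd (nat_lit 5) (Steps.fwd (nat_lit 6144) (Steps.fwd (nat_lit 4096) (Steps.fwd (nat_lit 6144) (Steps.fwd (nat_lit 4096) Steps.nil)))))))) (nat_lit 25) (nat_lit 1),
  Rule.mk (nat_lit 5) (nat_lit 45) (Steps.fwd (nat_lit 2048) (Steps.bwd (nat_lit 6) (Steps.fwd (nat_lit 2048) Steps.nil))) (nat_lit 20) (nat_lit 3),
  Rule.mk (nat_lit 5) (nat_lit 45) (Steps.bwd (nat_lit 3) (Steps.bwd (nat_lit 5) (Steps.bwd (nat_lit 3) Steps.nil))) (nat_lit 22) (nat_lit 1),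
  Rule.mk (nat_lit 2) (nat_lit 45) (Steps.fwd (nat_lit 4096) (Steps.fwd (nat_lit 2048) (Steps.bwd (nat_lit 4) Steps.nil))) (nat_lit 12) (nat_lit 1),
  Rule.mk (nat_lit 2) (nat_lit 45) (Steps.fwd (nat_lit 5120) (Steps.fwd (nat_lit 2048) (Steps.bwd (nat_lit 5) Steps.nil))) (nat_lit 20) (nat_lit 0),
  Rule.mk (nat_lit 0) (nat_lit 57) (Steps.fwd (nat_lit 4096) (Steps.fwd (nat_lit 2048) (Steps.bwd (nat_lit 4) (Steps.bwd (nat_lit 2) Steps.nil)))) (nat_lit 12) (nat_lit 1),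
  Rule.mk (nat_lit 0) (nat_lit 81) (Steps.bwd (nat_lit 3) (Steps.bwd (nat_lit 4) (Steps.bwd (nat_lit 3) (Steps.fwd (nat_lit 4096) (Steps.fwd (nat_lit 3072) (Steps.fwd (nat_lit 4096) Steps.nil)))))) (nat_lit 14) (nat_lit 0),
  Rule.mk (nat_lit 2) (nat_lit 33) (Steps.bwd (nat_lit 0) (Steps.fwd (nat_lit 2048) Steps.nil)) (nat_lit 60) (nat_lit 0),
  Rule.mk (nat_lit 2) (nat_lit 45) (Steps.bwd (nat_lit 5) (Steps.bwd (nat_lit 2) (Steps.fwd (nat_lit 5120) Steps.nil))) (nat_lit 20) (nat_lit 2),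
  Rule.mk (nat_lit 10) (nat_lit 45) (Steps.bwd (nat_lit 10) (Steps.fwd (nat_lit 1024) (Steps.bwd (nat_lit 2) Steps.nil))) (nat_lit 39) (nat_lit 3),
  Rule.mk (nat_lit 6) (nat_lit 93) (Steps.bwd (nat_lit 10) (Steps.fwd (nat_lit 1024) (Steps.fwd (nat_lit 2048) (Steps.fwd (nat_lit 5120) (Steps.fwd (nat_lit 9216) (Steps.fwd (nat_lit 5120) (Steps.bwd (nat_lit 10) Steps.nil))))))) (nat_lit 52) (nat_lit 7),
  Rule.mk (nat_lit 8) (nat_lit 57) (Steps.bwd (nat_lit 6) (Steps.fwd (nat_lit 8192) (Steps.bwd (nat_lit 5) (Steps.bwd (nat_lit 5) Steps.nil)))) (nat_lit 37) (nat_lit 3),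
  Rule.mk (nat_lit 3) (nat_lit 45) (Steps.bwd (nat_lit 5) (Steps.fwd (nat_lit 3072) (Steps.fwd (nat_lit 6144) Steps.nil))) (nat_lit 22) (nat_lit 0),
  Rule.mk (nat_lit 5) (nat_lit 81) (Steps.bwd (nat_lit 5) (Steps.bwd (nat_lit 5) (Steps.bwd (nat_lit 5) (Steps.bwd (nat_lit 5) (Steps.fwd (nat_lit 6144) (Steps.fwd (nat_lit 6144) Steps.nil)))))) (nat_lit 16) (nat_lit 0),
  Rule.mk (nat_lit 8) (nat_lit 57) (Steps.bwd (nat_lit 6) (Steps.bwd (nat_lit 7) (Steps.bwd (nat_lit 5) (Steps.bwd (nat_lit 5) Steps.nil)))) (nat_lit 37) (nat_lit 3),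
  Rule.mk (nat_lit 8) (nat_lit 33) (Steps.bwd (nat_lit 8) (Steps.fwd (nat_lit 7168) Steps.nil)) (nat_lit 27) (nat_lit 0),
  Rule.mk (nat_lit 9) (nat_lit 45) (Steps.bwd (nat_lit 7) (Steps.bwd (nat_lit 10) (Steps.fwd (nat_lit 8192) Steps.nil))) (nat_lit 48) (nat_lit 3),
  Rule.mk (nat_lit 7) (nat_lit 57) (Steps.fwd (nat_lit 5120) (Steps.bwd (nat_lit 6) (Steps.bwd (nat_lit 8) (Steps.bwd (nat_lit 5) Steps.nil)))) (nat_lit 36) (nat_lit 3),
  Rule.mk (nat_lit 7) (nat_lit 33) (Steps.bwd (nat_lit 7) (Steps.bwd (nat_lit 7) Steps.nil)) (nat_lit 26) (nat_lit 0),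
  Rule.mk (nat_lit 10) (nat_lit 93) (Steps.bwd (nat_lit 6) (Steps.bwd (nat_lit 10) (Steps.fwd (nat_lit 5120) (Steps.fwd (nat_lit 9216) (Steps.fwd (nat_lit 1024) (Steps.bwd (nat_lit 2) (Steps.fwd (nat_lit 5120) Steps.nil))))))) (nat_lit 52) (nat_lit 4),
  Rule.mk (nat_lit 10) (nat_lit 45) (Steps.fwd (nat_lit 1024) (Steps.fwd (nat_lit 2048) (Steps.bwd (nat_lit 10) Steps.nil))) (nat_lit 39) (nat_lit 0),
  Rule.mk (nat_lit 2) (nat_lit 45) (Steps.fwd (nat_lit 6144) (Steps.bwd (nat_lit 2) (Steps.bwd (nat_lit 6) Steps.nil))) (nat_lit 20) (nat_lit 2),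
  Rule.mk (nat_lit 9) (nat_lit 45) (Steps.fwd (nat_lit 2048) (Steps.fwd (nat_lit 9216) (Steps.bwd (nat_lit 2) Steps.nil))) (nat_lit 42) (nat_lit 3),
  Rule.mk (nat_lit 4) (nat_lit 105) (Steps.bwd (nat_lit 6) (Steps.bwd (nat_lit 6) (Steps.bwd (nat_lit 4) (Steps.bwd (nat_lit 5) (Steps.bwd (nat_lit 5) (Steps.bwd (nat_lit 5) (Steps.fwd (nat_lit 4096) (Steps.fwd (nat_lit 5120) Steps.nil)))))))) (nat_lit 24) (nat_lit 3),
  Rule.mk (nat_lit 6) (nat_lit 141) (Steps.bwd (nat_lit 10) (Steps.bwd (nat_lit 5) (Steps.bwd (nat_lit 5) (Steps.bwd (nat_lit 4) (Steps.bwd (nat_lit 6) (Steps.bwd (nat_lit 6) (Steps.bwd (nat_lit 9) (Steps.bwd (nat_lit 5) (Steps.bwd (nat_lit 5) (Steps.fwd (nat_lit 4096) (Steps.fwd (nat_lit 5120) Steps.nil))))))))))) (nat_lit 50) (nat_lit 3),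
  Rule.mk (nat_lit 3) (nat_lit 45) (Steps.bwd (nat_lit 6) (Steps.bwd (nat_lit 3) (Steps.bwd (nat_lit 6) Steps.nil))) (nat_lit 23) (nat_lit 1),
  Rule.mk (nat_lit 8) (nat_lit 57) (Steps.bwd (nat_lit 5) (Steps.fwd (nat_lit 8192) (Steps.fwd (nat_lit 5120) (Steps.bwd (nat_lit 6) Steps.nil)))) (nat_lit 36) (nat_lit 1),
  Rule.mk (nat_lit 7) (nat_lit 45) (Steps.bwd (nat_lit 9) (Steps.bwd (nat_lit 7) (Steps.fwd (nat_lit 9216) Steps.nil))) (nat_lit 48) (nat_lit 2),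
  Rule.mk (nat_lit 8) (nat_lit 45) (Steps.bwd (nat_lit 9) (Steps.fwd (nat_lit 7168) (Steps.bwd (nat_lit 10) Steps.nil))) (nat_lit 49) (nat_lit 3),
  Rule.mk (nat_lit 5) (nat_lit 213) (Steps.bwd (nat_lit 9) (Steps.bwd (nat_lit 6) (Steps.bwd (nat_lit 10) (Steps.bwd (nat_lit 5) (Steps.bwd (nat_lit 9) (Steps.bwd (nat_lit 6) (Steps.bwd (nat_lit 10) (Steps.bwd (nat_lit 5) (Steps.bwd (nat_lit 9) (Steps.fwd (nat_lit 5120) (Steps.bwd (nat_lit 10) (Steps.bwd (nat_lit 5) (Steps.fwd (nat_lit 10240) (Steps.fwd (nat_lit 1024) (Steps.bwd (nat_lit 2) (Steps.fwd (nat_lit 5120) (Steps.bwd (nat_lit 10) Steps.nil))))))))))))))))) (nat_lit 54) (nat_lit 5),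
  Rule.mk (nat_lit 2) (nat_lit 45) (Steps.bwd (nat_lit 6) (Steps.fwd (nat_lit 2048) (Steps.bwd (nat_lit 5) Steps.nil))) (nat_lit 20) (nat_lit 0),
  Rule.mk (nat_lit 0) (nat_lit 57) (Steps.fwd (nat_lit 9216) (Steps.fwd (nat_lit 1024) (Steps.bwd (nat_lit 2) (Steps.fwd (nat_lit 9216) Steps.nil)))) (nat_lit 39) (nat_lit 3),
  Rule.mk (nat_lit 0) (nat_lit 45) (Steps.fwd (nat_lit 6144) (Steps.fwd (nat_lit 0) (Steps.fwd (nat_lit 5120) Steps.nil))) (nat_lit 60) (nat_lit 0),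
  Rule.mk (nat_lit 9) (nat_lit 33) (Steps.bwd (nat_lit 0) (Steps.fwd (nat_lit 9216) Steps.nil)) (nat_lit 60) (nat_lit 0),
  Rule.mk (nat_lit 6) (nat_lit 45) (Steps.bwd (nat_lit 2) (Steps.bwd (nat_lit 5) (Steps.bwd (nat_lit 2) Steps.nil))) (nat_lit 20) (nat_lit 1),
  Rule.mk (nat_lit 9) (nat_lit 489) (Steps.bwd (nat_lit 5) (Steps.bwd (nat_lit 5) (Steps.bwd (nat_lit 3) (Steps.bwd (nat_lit 6) (Steps.bwd (nat_lit 6) (Steps.bwd (nat_lit 9) (Steps.bwd (nat_lit 5) (Steps.bwd (nat_lit 5) (Steps.bwd (nat_lit 3) (Steps.bwd (nat_lit 6) (Steps.bwd (nat_lit 6) (Steps.bwd (nat_lit 9) (Steps.bwd (nat_lit 5) (Steps.bwd (nat_lit 5) (Steps.bwd (nat_lit 3) (Steps.bwd (nat_lit 6) (Steps.bwd (nat_lit 6) (Steps.bwd (nat_lit 9) (Steps.bwd (nat_lit 4) (Steps.bwd (nat_lit 3) (Steps.bwd (nat_lit 2) (Steps.bwd (nat_lit 3) (Steps.bwd (nat_lit 4) (Steps.bwd (nat_lit 5) (Steps.bwd (nat_lit 5) (Steps.bwd (nat_lit 5)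 (Steps.bwd (nat_lit 4) (Steps.bwd (nat_lit 3) (Steps.bwd (nat_lit 2) (Steps.bwd (nat_lit 3) (Steps.bwd (nat_lit 4) (Steps.bwd (nat_lit 6) (Steps.bwd (nat_lit 3) (Steps.fwd (nat_lit 2048) (Steps.bwd (nat_lit 3) (Steps.fwd (nat_lit 2048) (Steps.fwd (nat_lit 1024) (Steps.bwd (nat_lit 3) (Steps.fwd (nat_lit 5120) (Steps.bwd (nat_lit 6) Steps.nil)))))))))))))))))))))))))))))))))))))))) (nat_lit 56) (nat_lit 4),
  Rule.mk (nat_lit 2) (nat_lit 45) (Steps.fwd (nat_lit 5120) (Steps.bwd (nat_lit 2) (Steps.bwd (nat_lit 5) Steps.nil))) (nat_lit 20) (nat_lit 0),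
  Rule.mk (nat_lit 4) (nat_lit 633) (Steps.bwd (nat_lit 3) (Steps.bwd (nat_lit 2) (Steps.bwd (nat_lit 3) (Steps.bwd (nat_lit 4) (Steps.bwd (nat_lit 5) (Steps.bwd (nat_lit 4) (Steps.bwd (nat_lit 2) (Steps.bwd (nat_lit 3) (Steps.bwd (nat_lit 4) (Steps.bwd (nat_lit 3) (Steps.bwd (nat_lit 2) (Steps.bwd (nat_lit 3) (Steps.bwd (nat_lit 6) (Steps.bwd (nat_lit 4) (Steps.bwd (nat_lit 3) (Steps.bwd (nat_lit 2) (Steps.bwd (nat_lit 3) (Steps.bwd (nat_lit 4) (Steps.bwd (nat_lit 5) (Steps.bwd (nat_lit 4) (Steps.bwd (nat_lit 5) (Steps.bwd (nat_lit 4) (Steps.bwd (nat_lit 3) (Steps.bwd (nat_lit 2) (Steps.bwd (nat_lit 3) (Steps.bwd (nat_lit 4) (Steps.bwd (nat_lit 5) (Steps.bwd (nat_lit 4) (Steps.bwd (nat_lit 3) (Steps.bwd (nat_lit 2) (Steps.bwd (nat_lit 3) (Steps.bwd (nat_lit 4) (Steps.bwd (nat_lit 6) (Steps.bwd (nat_lit 6) (Steps.bwd (nat_lit 6) (Steps.bwd (nat_lit 4) (Steps.bwd (nat_lit 3) (Steps.bwd (nat_lit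 2) (Steps.bwd (nat_lit 3) (Steps.bwd (nat_lit 4) (Steps.bwd (nat_lit 6) (Steps.bwd (nat_lit 4) (Steps.bwd (nat_lit 3) (Steps.bwd (nat_lit 2) (Steps.bwd (nat_lit 3) (Steps.bwd (nat_lit 4) (Steps.bwd (nat_lit 5) (Steps.bwd (nat_lit 5) (Steps.bwd (nat_lit 2) (Steps.fwd (nat_lit 3072) (Steps.bwd (nat_lit 4) (Steps.fwd (nat_lit 5120) Steps.nil)))))))))))))))))))))))))))))))))))))))))))))))))))) (nat_lit 58) (nat_lit 5),
  Rule.mk (nat_lit 7) (nat_lit 57) (Steps.bwd (nat_lit 6) (Steps.fwd (nat_lit 5120) (Steps.bwd (nat_lit 8) (Steps.bwd (nat_lit 5) Steps.nil)))) (nat_lit 36) (nat_lit 3),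
  Rule.mk (nat_lit 3) (nat_lit 45) (Steps.fwd (nat_lit 7168) (Steps.fwd (nat_lit 3072) (Steps.bwd (nat_lit 7) Steps.nil))) (nat_lit 32) (nat_lit 0),
  Rule.mk (nat_lit 5) (nat_lit 81) (Steps.bwd (nat_lit 5) (Steps.bwd (nat_lit 5) (Steps.fwd (nat_lit 6144) (Steps.bwd (nat_lit 5) (Steps.bwd (nat_lit 5) (Steps.fwd (nat_lit 6144) Steps.nil)))))) (nat_lit 16) (nat_lit 0),
  Rule.mk (nat_lit 3) (nat_lit 45) (Steps.bwd (nat_lit 5) (Steps.fwd (nat_lit 3072) (Steps.bwd (nat_lit 5) Steps.nil))) (nat_lit 22) (nat_lit 0),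
  Rule.mk (nat_lit 3) (nat_lit 45) (Steps.bwd (nat_lit 8) (Steps.bwd (nat_lit 3) (Steps.bwd (nat_lit 7) Steps.nil))) (nat_lit 32) (nat_lit 0),
  Rule.mk (nat_lit 10) (nat_lit 93) (Steps.bwd (nat_lit 6) (Steps.bwd (nat_lit 10) (Steps.bwd (nat_lit 6) (Steps.bwd (nat_lit 10) (Steps.fwd (nat_lit 1024) (Steps.fwd (nat_lit 2048) (Steps.fwd (nat_lit 5120) Steps.nil))))))) (nat_lit 52) (nat_lit 4),
  Rule.mk (nat_lit 10) (nat_lit 45) (Steps.fwd (nat_lit 1024) (Steps.bwd (nat_lit 2) (Steps.bwd (nat_lit 10) Steps.nil))) (nat_lit 39) (nat_lit 0),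
  Rule.mk (nat_lit 4) (nat_lit 105) (Steps.bwd (nat_lit 6) (Steps.bwd (nat_lit 6) (Steps.bwd (nat_lit 4) (Steps.bwd (nat_lit 5) (Steps.fwd (nat_lit 6144) (Steps.bwd (nat_lit 5) (Steps.bwd (nat_lit 4) (Steps.fwd (nat_lit 5120) Steps.nil)))))))) (nat_lit 24) (nat_lit 3),
  Rule.mk (nat_lit 7) (nat_lit 45) (Steps.bwd (nat_lit 4) (Steps.fwd (nat_lit 7168) (Steps.bwd (nat_lit 4) Steps.nil))) (nat_lit 34) (nat_lit 3),
  Rule.mk (nat_lit 5) (nat_lit 213) (Steps.bwd (nat_lit 9) (Steps.bwd (nat_lit 6) (Steps.bwd (nat_lit 10) (Steps.bwd (nat_lit 5) (Steps.bwd (nat_lit 9) (Steps.bwd (nat_lit 6) (Steps.bwd (nat_lit 10) (Steps.bwd (nat_lit 5) (Steps.bwd (nat_lit 9) (Steps.bwd (nat_lit 6) (Steps.bwd (nat_lit 10) (Steps.fwd (nat_lit 6144) (Steps.fwd (nat_lit 10240) (Steps.fwd (nat_lit 1024) (Steps.fwd (nat_lit 2048) (Steps.fwd (nat_lit 5120) (Steps.bwd (nat_lit 10) Steps.nil))))))))))))))))) (nat_lit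 54) (nat_lit 5),
  Rule.mk (nat_lit 5) (nat_lit 93) (Steps.bwd (nat_lit 2) (Steps.fwd (nat_lit 1024) (Steps.fwd (nat_lit 10240) (Steps.fwd (nat_lit 6144) (Steps.fwd (nat_lit 10240) (Steps.bwd (nat_lit 5) (Steps.bwd (nat_lit 9) Steps.nil))))))) (nat_lit 53) (nat_lit 6),
  Rule.mk (nat_lit 9) (nat_lit 489) (Steps.bwd (nat_lit 5) (Steps.bwd (nat_lit 5) (Steps.bwd (nat_lit 3) (Steps.bwd (nat_lit 6) (Steps.bwd (nat_lit 6) (Steps.bwd (nat_lit 9) (Steps.bwd (nat_lit 5) (Steps.bwd (nat_lit 5) (Steps.bwd (nat_lit 3) (Steps.bwd (nat_lit 6) (Steps.bwd (nat_lit 6) (Steps.bwd (nat_lit 9) (Steps.bwd (nat_lit 5) (Steps.bwd (nat_lit 5) (Steps.bwd (nat_lit 3) (Steps.bwd (nat_lit 6) (Steps.bwd (nat_lit 6) (Steps.bwd (nat_lit 9) (Steps.bwd (nat_lit 4) (Steps.bwd (nat_lit 3) (Steps.bwd (nat_lit 2) (Steps.bwd (nat_lit 3) (Steps.bwd (nat_lit 4) (Steps.bwd (nat_lit 5) (Steps.bwd (nat_lit 5) (Steps.bwd (nat_lit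 5) (Steps.bwd (nat_lit 4) (Steps.bwd (nat_lit 3) (Steps.bwd (nat_lit 2) (Steps.bwd (nat_lit 3) (Steps.bwd (nat_lit 4) (Steps.fwd (nat_lit 5120) (Steps.fwd (nat_lit 3072) (Steps.bwd (nat_lit 2) (Steps.fwd (nat_lit 3072) (Steps.bwd (nat_lit 2) (Steps.fwd (nat_lit 1024) (Steps.fwd (nat_lit 3072) (Steps.fwd (nat_lit 5120) (Steps.fwd (nat_lit 5120) Steps.nil)))))))))))))))))))))))))))))))))))))))) (nat_lit 56) (nat_lit 4),
  Rule.mk (nat_lit 4) (nat_lit 141) (Steps.fwd (nat_lit 5120) (Steps.fwd (nat_lit 5120) (Steps.fwd (nat_lit 9216) (Steps.fwd (nat_lit 6144) (Steps.bwd (nat_lit 5) (Steps.bwd (nat_lit 4) (Steps.fwd (nat_lit 5120) (Steps.fwd (nat_lit 5120) (Steps.bwd (nat_lit 9) (Steps.bwd (nat_lit 5) (Steps.bwd (nat_lit 5) Steps.nil))))))))))) (nat_lit 50) (nat_lit 1),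
  Rule.mk (nat_lit 2) (nat_lit 45) (Steps.bwd (nat_lit 4) (Steps.bwd (nat_lit 2) (Steps.bwd (nat_lit 4) Steps.nil))) (nat_lit 12) (nat_lit 1),
  Rule.mk (nat_lit 2) (nat_lit 45) (Steps.fwd (nat_lit 6144) (Steps.bwd (nat_lit 2) (Steps.fwd (nat_lit 5120) Steps.nil))) (nat_lit 20) (nat_lit 2),
  Rule.mk (nat_lit 5) (nat_lit 93) (Steps.bwd (nat_lit 2) (Steps.fwd (nat_lit 1024) (Steps.bwd (nat_lit 9) (Steps.bwd (nat_lit 5) (Steps.fwd (nat_lit 10240) (Steps.bwd (nat_lit 5) (Steps.bwd (nat_lit 9) Steps.nil))))))) (nat_lit 53) (nat_lit 6),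
  Rule.mk (nat_lit 4) (nat_lit 633) (Steps.bwd (nat_lit 3) (Steps.bwd (nat_lit 2) (Steps.bwd (nat_lit 3) (Steps.bwd (nat_lit 4) (Steps.bwd (nat_lit 5) (Steps.bwd (nat_lit 4) (Steps.bwd (nat_lit 2) (Steps.bwd (nat_lit 3) (Steps.bwd (nat_lit 4) (Steps.bwd (nat_lit 3) (Steps.bwd (nat_lit 2) (Steps.bwd (nat_lit 3) (Steps.bwd (nat_lit 6) (Steps.bwd (nat_lit 4) (Steps.bwd (nat_lit 3) (Steps.bwd (nat_lit 2) (Steps.bwd (nat_lit 3) (Steps.bwd (nat_lit 4) (Steps.bwd (nat_lit 5) (Steps.bwd (nat_lit 4) (Steps.bwd (nat_lit 5) (Steps.bwd (nat_lit 4) (Steps.bwd (nat_lit 3) (Steps.bwd (nat_lit 2) (Steps.bwd (nat_lit 3) (Steps.bwd (nat_lit 4) (Steps.bwd (nat_lit 5) (Steps.bwd (nat_lit 4) (Steps.bwd (nat_lit 3) (Steps.bwd (nat_lit 2) (Steps.bwd (nat_lit 3) (Steps.bwd (nat_lit 4) (Steps.bwd (nat_lit 6) (Steps.bwd (nat_lit 6) (Steps.bwd (nat_lit 6) (Steps.bwd (nat_lit 4) (Steps.bwd (nat_lit 3) (Steps.bwd (nat_lit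 2) (Steps.bwd (nat_lit 3) (Steps.bwd (nat_lit 4) (Steps.bwd (nat_lit 6) (Steps.bwd (nat_lit 4) (Steps.bwd (nat_lit 3) (Steps.bwd (nat_lit 2) (Steps.bwd (nat_lit 3) (Steps.bwd (nat_lit 4) (Steps.fwd (nat_lit 6144) (Steps.bwd (nat_lit 5) (Steps.fwd (nat_lit 2048) (Steps.bwd (nat_lit 3) (Steps.fwd (nat_lit 4096) (Steps.fwd (nat_lit 5120) Steps.nil)))))))))))))))))))))))))))))))))))))))))))))))))))) (nat_lit 58) (nat_lit 5),
  Rule.mk (nat_lit 2) (nat_lit 45) (Steps.fwd (nat_lit 4096) (Steps.bwd (nat_lit 2) (Steps.bwd (nat_lit 4) Steps.nil))) (nat_lit 12) (nat_lit 1)]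
noncomputable def R_3 : List (Rule) := [Rule.mk (nat_lit 7) (nat_lit 45) (Steps.bwd (nat_lit 4) (Steps.bwd (nat_lit 8) (Steps.bwd (nat_lit 4) Steps.nil))) (nat_lit 34) (nat_lit 3),
  Rule.mk (nat_lit 8) (nat_lit 45) (Steps.bwd (nat_lit 9) (Steps.bwd (nat_lit 8) (Steps.fwd (nat_lit 9216) Steps.nil))) (nat_lit 49) (nat_lit 3),
  Rule.mk (nat_lit 0) (nat_lit 57) (Steps.bwd (nat_lit 3) (Steps.fwd (nat_lit 8192) (Steps.fwd (nat_lit 3072) (Steps.bwd (nat_lit 8) Steps.nil)))) (nat_lit 32) (nat_lit 1),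
  Rule.mk (nat_lit 4) (nat_lit 45) (Steps.bwd (nat_lit 2) (Steps.fwd (nat_lit 4096) (Steps.fwd (nat_lit 2048) Steps.nil))) (nat_lit 12) (nat_lit 0),
  Rule.mk (nat_lit 0) (nat_lit 81) (Steps.bwd (nat_lit 4) (Steps.bwd (nat_lit 3) (Steps.bwd (nat_lit 4) (Steps.bwd (nat_lit 3) (Steps.fwd (nat_lit 4096) (Steps.fwd (nat_lit 3072) Steps.nil)))))) (nat_lit 14) (nat_lit 1),
  Rule.mk (nat_lit 4) (nat_lit 33) (Steps.bwd (nat_lit 0) (Steps.bwd (nat_lit 4) Steps.nil)) (nat_lit 60) (nat_lit 0),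
  Rule.mk (nat_lit 10) (nat_lit 117) (Steps.bwd (nat_lit 3) (Steps.bwd (nat_lit 9) (Steps.bwd (nat_lit 3) (Steps.bwd (nat_lit 4) (Steps.fwd (nat_lit 9216) (Steps.fwd (nat_lit 3072) (Steps.bwd (nat_lit 9) (Steps.fwd (nat_lit 3072) (Steps.fwd (nat_lit 4096) Steps.nil))))))))) (nat_lit 46) (nat_lit 3),
  Rule.mk (nat_lit 7) (nat_lit 45) (Steps.fwd (nat_lit 10240) (Steps.bwd (nat_lit 7) (Steps.bwd (nat_lit 10) Steps.nil))) (nat_lit 48) (nat_lit 2),
  Rule.mk (nat_lit 8) (nat_lit 45) (Steps.fwd (nat_lit 9216) (Steps.bwd (nat_lit 8) (Steps.bwd (nat_lit 9) Steps.nil))) (nat_lit 49) (nat_lit 1),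
  Rule.mk (nat_lit 7) (nat_lit 45) (Steps.fwd (nat_lit 3072) (Steps.bwd (nat_lit 8) (Steps.bwd (nat_lit 3) Steps.nil))) (nat_lit 32) (nat_lit 3),
  Rule.mk (nat_lit 5) (nat_lit 489) (Steps.bwd (nat_lit 5) (Steps.bwd (nat_lit 5) (Steps.bwd (nat_lit 4) (Steps.bwd (nat_lit 3) (Steps.bwd (nat_lit 2) (Steps.bwd (nat_lit 3) (Steps.bwd (nat_lit 4) (Steps.bwd (nat_lit 6) (Steps.fwd (nat_lit 3072) (Steps.bwd (nat_lit 2) (Steps.bwd (nat_lit 3) (Steps.fwd (nat_lit 2048) (Steps.fwd (nat_lit 1024) (Steps.fwd (nat_lit 3072) (Steps.fwd (nat_lit 5120) (Steps.fwd (nat_lit 5120) (Steps.bwd (nat_lit 9) (Steps.bwd (nat_lit 5) (Steps.bwd (nat_lit 5) (Steps.bwd (nat_lit 3) (Steps.bwd (nat_lit 6) (Steps.bwd (nat_lit 6) (Steps.bwd (nat_lit 9) (Steps.bwd (nat_lit 5) (Steps.bwd (nat_lit 5) (Steps.bwd (nat_lit 3) (Steps.bwd (nat_lit 6) (Steps.bwd (nat_lit 6) (Steps.bwd (nat_lit 9) (Steps.bwd (nat_lit 5) (Steps.bwd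 (nat_lit 5) (Steps.fwd (nat_lit 3072) (Steps.fwd (nat_lit 5120) (Steps.fwd (nat_lit 5120) (Steps.bwd (nat_lit 9) (Steps.fwd (nat_lit 4096) (Steps.fwd (nat_lit 3072) (Steps.fwd (nat_lit 2048) (Steps.fwd (nat_lit 3072) (Steps.fwd (nat_lit 4096) Steps.nil)))))))))))))))))))))))))))))))))))))))) (nat_lit 56) (nat_lit 32),
  Rule.mk (nat_lit 7) (nat_lit 57) (Steps.fwd (nat_lit 5120) (Steps.fwd (nat_lit 5120) (Steps.fwd (nat_lit 7168) (Steps.bwd (nat_lit 5) Steps.nil)))) (nat_lit 36) (nat_lit 3),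
  Rule.mk (nat_lit 6) (nat_lit 105) (Steps.bwd (nat_lit 4) (Steps.bwd (nat_lit 6) (Steps.bwd (nat_lit 6) (Steps.fwd (nat_lit 4096) (Steps.bwd (nat_lit 5) (Steps.bwd (nat_lit 5) (Steps.bwd (nat_lit 5) (Steps.bwd (nat_lit 4) Steps.nil)))))))) (nat_lit 24) (nat_lit 2),
  Rule.mk (nat_lit 8) (nat_lit 57) (Steps.bwd (nat_lit 6) (Steps.bwd (nat_lit 7) (Steps.fwd (nat_lit 6144) (Steps.fwd (nat_lit 6144) Steps.nil)))) (nat_lit 37) (nat_lit 3),
  Rule.mk (nat_lit 8) (nat_lit 45) (Steps.fwd (nat_lit 2048) (Steps.bwd (nat_lit 7) (Steps.bwd (nat_lit 2) Steps.nil))) (nat_lit 30) (nat_lit 1),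
  Rule.mk (nat_lit 8) (nat_lit 45) (Steps.fwd (nat_lit 4096) (Steps.bwd (nat_lit 7) (Steps.bwd (nat_lit 4) Steps.nil))) (nat_lit 34) (nat_lit 1),
  Rule.mk (nat_lit 0) (nat_lit 69) (Steps.bwd (nat_lit 8) (Steps.bwd (nat_lit 6) (Steps.fwd (nat_lit 8192) (Steps.bwd (nat_lit 5) (Steps.fwd (nat_lit 6144) Steps.nil))))) (nat_lit 37) (nat_lit 2),
  Rule.mk (nat_lit 0) (nat_lit 45) (Steps.bwd (nat_lit 4) (Steps.fwd (nat_lit 0) (Steps.fwd (nat_lit 4096) Steps.nil))) (nat_lit 60) (nat_lit 0),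
  Rule.mk (nat_lit 0) (nat_lit 45) (Steps.fwd (nat_lit 5120) (Steps.fwd (nat_lit 0) (Steps.bwd (nat_lit 5) Steps.nil))) (nat_lit 60) (nat_lit 0),
  Rule.mk (nat_lit 3) (nat_lit 33) (Steps.bwd (nat_lit 0) (Steps.fwd (nat_lit 3072) Steps.nil)) (nat_lit 60) (nat_lit 0),
  Rule.mk (nat_lit 0) (nat_lit 45) (Steps.fwd (nat_lit 5120) (Steps.fwd (nat_lit 0) (Steps.fwd (nat_lit 6144) Steps.nil))) (nat_lit 60) (nat_lit 0),
  Rule.mk (nat_lit 7) (nat_lit 33) (Steps.bwd (nat_lit 0) (Steps.fwd (nat_lit 7168) Steps.nil)) (nat_lit 60) (nat_lit 0),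
  Rule.mk (nat_lit 0) (nat_lit 45) (Steps.fwd (nat_lit 4096) (Steps.fwd (nat_lit 0) (Steps.fwd (nat_lit 4096) Steps.nil))) (nat_lit 60) (nat_lit 0),
  Rule.mk (nat_lit 0) (nat_lit 45) (Steps.fwd (nat_lit 3072) (Steps.fwd (nat_lit 0) (Steps.fwd (nat_lit 3072) Steps.nil))) (nat_lit 60) (nat_lit 0),
  Rule.mk (nat_lit 0) (nat_lit 81) (Steps.fwd (nat_lit 3072) (Steps.bwd (nat_lit 4) (Steps.bwd (nat_lit 3) (Steps.bwd (nat_lit 4) (Steps.bwd (nat_lit 3) (Steps.bwd (nat_lit 4) Steps.nil)))))) (nat_lit 14) (nat_lit 0),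
  Rule.mk (nat_lit 0) (nat_lit 45) (Steps.fwd (nat_lit 2048) (Steps.fwd (nat_lit 0) (Steps.bwd (nat_lit 2) Steps.nil))) (nat_lit 60) (nat_lit 0),
  Rule.mk (nat_lit 0) (nat_lit 45) (Steps.fwd (nat_lit 6144) (Steps.fwd (nat_lit 0) (Steps.bwd (nat_lit 6) Steps.nil))) (nat_lit 60) (nat_lit 0),
  Rule.mk (nat_lit 0) (nat_lit 45) (Steps.fwd (nat_lit 4096) (Steps.fwd (nat_lit 0) (Steps.bwd (nat_lit 4) Steps.nil))) (nat_lit 60) (nat_lit 0),
  Rule.mk (nat_lit 0) (nat_lit 45) (Steps.fwd (nat_lit 3072) (Steps.fwd (nat_lit 0) (Steps.bwd (nat_lit 3) Steps.nil))) (nat_lit 60) (nat_lit 0),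
  Rule.mk (nat_lit 4) (nat_lit 69) (Steps.bwd (nat_lit 3) (Steps.bwd (nat_lit 4) (Steps.bwd (nat_lit 3) (Steps.fwd (nat_lit 4096) (Steps.fwd (nat_lit 3072) Steps.nil))))) (nat_lit 14) (nat_lit 0),
  Rule.mk (nat_lit 0) (nat_lit 57) (Steps.bwd (nat_lit 2) (Steps.fwd (nat_lit 4096) (Steps.fwd (nat_lit 2048) (Steps.fwd (nat_lit 4096) Steps.nil)))) (nat_lit 12) (nat_lit 0),
  Rule.mk (nat_lit 0) (nat_lit 45) (Steps.bwd (nat_lit 5) (Steps.bwd (nat_lit 0) (Steps.bwd (nat_lit 6) Steps.nil))) (nat_lit 60) (nat_lit 0),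
  Rule.mk (nat_lit 5) (nat_lit 33) (Steps.bwd (nat_lit 0) (Steps.fwd (nat_lit 5120) Steps.nil)) (nat_lit 60) (nat_lit 0),
  Rule.mk (nat_lit 0) (nat_lit 81) (Steps.bwd (nat_lit 4) (Steps.bwd (nat_lit 3) (Steps.bwd (nat_lit 4) (Steps.fwd (nat_lit 3072) (Steps.fwd (nat_lit 4096) (Steps.fwd (nat_lit 3072) Steps.nil)))))) (nat_lit 14) (nat_lit 1),
  Rule.mk (nat_lit 0) (nat_lit 45) (Steps.bwd (nat_lit 6) (Steps.fwd (nat_lit 0) (Steps.fwd (nat_lit 6144) Steps.nil))) (nat_lit 60) (nat_lit 0),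
  Rule.mk (nat_lit 0) (nat_lit 45) (Steps.bwd (nat_lit 7) (Steps.fwd (nat_lit 0) (Steps.bwd (nat_lit 8) Steps.nil))) (nat_lit 60) (nat_lit 0),
  Rule.mk (nat_lit 0) (nat_lit 45) (Steps.bwd (nat_lit 3) (Steps.fwd (nat_lit 0) (Steps.fwd (nat_lit 3072) Steps.nil))) (nat_lit 60) (nat_lit 0),
  Rule.mk (nat_lit 0) (nat_lit 45) (Steps.fwd (nat_lit 4096) (Steps.bwd (nat_lit 0) (Steps.bwd (nat_lit 4) Steps.nil))) (nat_lit 60) (nat_lit 0),
  Rule.mk (nat_lit 0) (nat_lit 45) (Steps.bwd (nat_lit 5) (Steps.fwd (nat_lit 0) (Steps.bwd (nat_lit 6) Steps.nil))) (nat_lit 60) (nat_lit 0),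
  Rule.mk (nat_lit 0) (nat_lit 45) (Steps.bwd (nat_lit 3) (Steps.fwd (nat_lit 0) (Steps.bwd (nat_lit 3) Steps.nil))) (nat_lit 60) (nat_lit 0),
  Rule.mk (nat_lit 0) (nat_lit 57) (Steps.bwd (nat_lit 6) (Steps.bwd (nat_lit 0) (Steps.bwd (nat_lit 5) (Steps.fwd (nat_lit 0) Steps.nil)))) (nat_lit 60) (nat_lit 0),
  Rule.mk (nat_lit 0) (nat_lit 57) (Steps.bwd (nat_lit 0) (Steps.bwd (nat_lit 7) (Steps.fwd (nat_lit 0) (Steps.bwd (nat_lit 8) Steps.nil)))) (nat_lit 60) (nat_lit 0),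
  Rule.mk (nat_lit 0) (nat_lit 45) (Steps.bwd (nat_lit 7) (Steps.fwd (nat_lit 0) (Steps.fwd (nat_lit 7168) Steps.nil))) (nat_lit 60) (nat_lit 0),
  Rule.mk (nat_lit 0) (nat_lit 45) (Steps.bwd (nat_lit 8) (Steps.fwd (nat_lit 0) (Steps.bwd (nat_lit 7) Steps.nil))) (nat_lit 60) (nat_lit 0),
  Rule.mk (nat_lit 0) (nat_lit 45) (Steps.bwd (nat_lit 6) (Steps.bwd (nat_lit 0) (Steps.fwd (nat_lit 6144) Steps.nil))) (nat_lit 60) (nat_lit 0),
  Rule.mk (nat_lit 0) (nat_lit 57) (Steps.bwd (nat_lit 0) (Steps.bwd (nat_lit 5) (Steps.fwd (nat_lit 0) (Steps.fwd (nat_lit 5120) Steps.nil)))) (nat_lit 60) (nat_lit 0),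
  Rule.mk (nat_lit 0) (nat_lit 45) (Steps.bwd (nat_lit 6) (Steps.fwd (nat_lit 0) (Steps.bwd (nat_lit 5) Steps.nil))) (nat_lit 60) (nat_lit 0),
  Rule.mk (nat_lit 0) (nat_lit 45) (Steps.bwd (nat_lit 4) (Steps.bwd (nat_lit 0) (Steps.fwd (nat_lit 4096) Steps.nil))) (nat_lit 60) (nat_lit 0),
  Rule.mk (nat_lit 0) (nat_lit 33) (Steps.fwd (nat_lit 0) (Steps.fwd (nat_lit 0) Steps.nil)) (nat_lit 60) (nat_lit 0),
  Rule.mk (nat_lit 0) (nat_lit 57) (Steps.bwd (nat_lit 4) (Steps.bwd (nat_lit 0) (Steps.fwd (nat_lit 4096) (Steps.fwd (nat_lit 0) Steps.nil)))) (nat_lit 60) (nat_lit 0),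
  Rule.mk (nat_lit 0) (nat_lit 45) (Steps.bwd (nat_lit 2) (Steps.bwd (nat_lit 0) (Steps.fwd (nat_lit 2048) Steps.nil))) (nat_lit 60) (nat_lit 0),
  Rule.mk (nat_lit 0) (nat_lit 45) (Steps.fwd (nat_lit 7168) (Steps.fwd (nat_lit 0) (Steps.bwd (nat_lit 7) Steps.nil))) (nat_lit 60) (nat_lit 0),
  Rule.mk (nat_lit 0) (nat_lit 57) (Steps.bwd (nat_lit 0) (Steps.bwd (nat_lit 5) (Steps.fwd (nat_lit 0) (Steps.bwd (nat_lit 6) Steps.nil)))) (nat_lit 60) (nat_lit 0),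
  Rule.mk (nat_lit 0) (nat_lit 57) (Steps.bwd (nat_lit 3) (Steps.fwd (nat_lit 0) (Steps.fwd (nat_lit 3072) (Steps.fwd (nat_lit 0) Steps.nil)))) (nat_lit 60) (nat_lit 0),
  Rule.mk (nat_lit 2) (nat_lit 33) (Steps.bwd (nat_lit 0) (Steps.bwd (nat_lit 2) Steps.nil)) (nat_lit 60) (nat_lit 0),
  Rule.mk (nat_lit 0) (nat_lit 45) (Steps.fwd (nat_lit 10240) (Steps.bwd (nat_lit 0) (Steps.bwd (nat_lit 10) Steps.nil))) (nat_lit 60) (nat_lit 0),
  Rule.mk (nat_lit 0) (nat_lit 57) (Steps.bwd (nat_lit 3) (Steps.bwd (nat_lit 0) (Steps.bwd (nat_lit 3) (Steps.fwd (nat_lit 0) Steps.nil)))) (nat_lit 60) (nat_lit 0),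
  Rule.mk (nat_lit 0) (nat_lit 57) (Steps.bwd (nat_lit 0) (Steps.fwd (nat_lit 6144) (Steps.fwd (nat_lit 0) (Steps.fwd (nat_lit 5120) Steps.nil)))) (nat_lit 60) (nat_lit 0),
  Rule.mk (nat_lit 0) (nat_lit 45) (Steps.bwd (nat_lit 3) (Steps.bwd (nat_lit 0) (Steps.fwd (nat_lit 3072) Steps.nil))) (nat_lit 60) (nat_lit 0),
  Rule.mk (nat_lit 0) (nat_lit 57) (Steps.bwd (nat_lit 2) (Steps.bwd (nat_lit 0) (Steps.bwd (nat_lit 2) (Steps.fwd (nat_lit 0) Steps.nil)))) (nat_lit 60) (nat_lit 0),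
  Rule.mk (nat_lit 0) (nat_lit 69) (Steps.bwd (nat_lit 0) (Steps.bwd (nat_lit 4) (Steps.fwd (nat_lit 0) (Steps.fwd (nat_lit 4096) (Steps.fwd (nat_lit 0) Steps.nil))))) (nat_lit 60) (nat_lit 0),
  Rule.mk (nat_lit 10) (nat_lit 33) (Steps.bwd (nat_lit 0) (Steps.fwd (nat_lit 10240) Steps.nil)) (nat_lit 60) (nat_lit 0),
  Rule.mk (nat_lit 0) (nat_lit 57) (Steps.bwd (nat_lit 2) (Steps.fwd (nat_lit 0) (Steps.fwd (nat_lit 2048) (Steps.fwd (nat_lit 0) Steps.nil)))) (nat_lit 60) (nat_lit 0),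
  Rule.mk (nat_lit 0) (nat_lit 45) (Steps.bwd (nat_lit 9) (Steps.bwd (nat_lit 0) (Steps.fwd (nat_lit 9216) Steps.nil))) (nat_lit 60) (nat_lit 0)]
noncomputable def R_4 : List (Rule) := [Rule.mk (nat_lit 0) (nat_lit 45) (Steps.bwd (nat_lit 5) (Steps.fwd (nat_lit 0) (Steps.fwd (nat_lit 5120) Steps.nil))) (nat_lit 60) (nat_lit 0),
  Rule.mk (nat_lit 0) (nat_lit 45) (Steps.bwd (nat_lit 9) (Steps.fwd (nat_lit 0) (Steps.fwd (nat_lit 9216) Steps.nil))) (nat_lit 60) (nat_lit 0),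
  Rule.mk (nat_lit 0) (nat_lit 57) (Steps.bwd (nat_lit 2) (Steps.bwd (nat_lit 0) (Steps.fwd (nat_lit 2048) (Steps.fwd (nat_lit 0) Steps.nil)))) (nat_lit 60) (nat_lit 0),
  Rule.mk (nat_lit 2) (nat_lit 45) (Steps.bwd (nat_lit 0) (Steps.bwd (nat_lit 2) (Steps.fwd (nat_lit 0) Steps.nil))) (nat_lit 60) (nat_lit 0),
  Rule.mk (nat_lit 0) (nat_lit 45) (Steps.bwd (nat_lit 5) (Steps.bwd (nat_lit 0) (Steps.fwd (nat_lit 5120) Steps.nil))) (nat_lit 60) (nat_lit 0),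
  Rule.mk (nat_lit 0) (nat_lit 45) (Steps.fwd (nat_lit 10240) (Steps.bwd (nat_lit 0) (Steps.fwd (nat_lit 9216) Steps.nil))) (nat_lit 60) (nat_lit 0),
  Rule.mk (nat_lit 0) (nat_lit 45) (Steps.bwd (nat_lit 2) (Steps.fwd (nat_lit 0) (Steps.fwd (nat_lit 2048) Steps.nil))) (nat_lit 60) (nat_lit 0),
  Rule.mk (nat_lit 0) (nat_lit 45) (Steps.fwd (nat_lit 7168) (Steps.bwd (nat_lit 0) (Steps.bwd (nat_lit 7) Steps.nil))) (nat_lit 60) (nat_lit 0),
  Rule.mk (nat_lit 0) (nat_lit 45) (Steps.bwd (nat_lit 9) (Steps.fwd (nat_lit 0) (Steps.bwd (nat_lit 10) Steps.nil))) (nat_lit 60) (nat_lit 0),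
  Rule.mk (nat_lit 5) (nat_lit 33) (Steps.bwd (nat_lit 0) (Steps.bwd (nat_lit 6) Steps.nil)) (nat_lit 60) (nat_lit 0),
  Rule.mk (nat_lit 0) (nat_lit 45) (Steps.fwd (nat_lit 3072) (Steps.bwd (nat_lit 0) (Steps.fwd (nat_lit 3072) Steps.nil))) (nat_lit 60) (nat_lit 0),
  Rule.mk (nat_lit 0) (nat_lit 45) (Steps.fwd (nat_lit 6144) (Steps.bwd (nat_lit 0) (Steps.fwd (nat_lit 5120) Steps.nil))) (nat_lit 60) (nat_lit 0),
  Rule.mk (nat_lit 0) (nat_lit 45) (Steps.fwd (nat_lit 2048) (Steps.fwd (nat_lit 0) (Steps.fwd (nat_lit 2048) Steps.nil))) (nat_lit 60) (nat_lit 0),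
  Rule.mk (nat_lit 8) (nat_lit 45) (Steps.bwd (nat_lit 4) (Steps.fwd (nat_lit 8192) (Steps.fwd (nat_lit 4096) Steps.nil))) (nat_lit 34) (nat_lit 1),
  Rule.mk (nat_lit 0) (nat_lit 81) (Steps.bwd (nat_lit 4) (Steps.fwd (nat_lit 3072) (Steps.fwd (nat_lit 4096) (Steps.bwd (nat_lit 3) (Steps.fwd (nat_lit 4096) (Steps.bwd (nat_lit 3) Steps.nil)))))) (nat_lit 14) (nat_lit 1),
  Rule.mk (nat_lit 0) (nat_lit 57) (Steps.bwd (nat_lit 0) (Steps.fwd (nat_lit 2048) (Steps.fwd (nat_lit 0) (Steps.bwd (nat_lit 2) Steps.nil)))) (nat_lit 60) (nat_lit 0),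
  Rule.mk (nat_lit 0) (nat_lit 57) (Steps.bwd (nat_lit 0) (Steps.fwd (nat_lit 3072) (Steps.fwd (nat_lit 0) (Steps.bwd (nat_lit 3) Steps.nil)))) (nat_lit 60) (nat_lit 0),
  Rule.mk (nat_lit 0) (nat_lit 57) (Steps.fwd (nat_lit 9216) (Steps.fwd (nat_lit 1024) (Steps.fwd (nat_lit 2048) (Steps.bwd (nat_lit 10) Steps.nil)))) (nat_lit 39) (nat_lit 3),
  Rule.mk (nat_lit 2) (nat_lit 633) (Steps.fwd (nat_lit 3072) (Steps.bwd (nat_lit 4) (Steps.bwd (nat_lit 5) (Steps.fwd (nat_lit 6144) (Steps.fwd (nat_lit 2048) (Steps.fwd (nat_lit 3072) (Steps.fwd (nat_lit 4096) (Steps.bwd (nat_lit 6) (Steps.fwd (nat_lit 4096) (Steps.fwd (nat_lit 3072) (Steps.fwd (nat_lit 2048) (Steps.bwd (nat_lit 3) (Steps.fwd (nat_lit 4096) (Steps.fwd (nat_lit 6144) (Steps.fwd (nat_lit 4096) (Steps.fwd (nat_lit 2048) (Steps.bwd (nat_lit 3) (Steps.fwd (nat_lit 4096) (Steps.fwd (nat_lit 3072) (Steps.fwd (nat_lit 2048) (Steps.fwd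 (nat_lit 3072) (Steps.bwd (nat_lit 6) (Steps.fwd (nat_lit 4096) (Steps.fwd (nat_lit 3072) (Steps.fwd (nat_lit 2048) (Steps.bwd (nat_lit 3) (Steps.bwd (nat_lit 4) (Steps.fwd (nat_lit 6144) (Steps.bwd (nat_lit 4) (Steps.bwd (nat_lit 5) (Steps.fwd (nat_lit 4096) (Steps.fwd (nat_lit 3072) (Steps.fwd (nat_lit 2048) (Steps.fwd (nat_lit 3072) (Steps.bwd (nat_lit 4) (Steps.fwd (nat_lit 6144) (Steps.fwd (nat_lit 4096) (Steps.fwd (nat_lit 3072) (Steps.fwd (nat_lit 2048) (Steps.fwd (nat_lit 3072) (Steps.bwd (nat_lit 4) (Steps.bwd (nat_lit 6) (Steps.fwd (nat_lit 5120) (Steps.bwd (nat_lit 6) (Steps.bwd (nat_lit 4) (Steps.fwd (nat_lit 3072) (Steps.fwd (nat_lit 2048) (Steps.fwd (nat_lit 3072) (Steps.fwd (nat_lit 4096) (Steps.fwd (nat_lit 5120) (Steps.fwd (nat_lit 4096) (Steps.fwd (nat_lit 3072) Steps.nil)))))))))))))))))))))))))))))))))))))))))))))))))))) (nat_lit 58) (nat_lit 49),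
  Rule.mk (nat_lit 9) (nat_lit 45) (Steps.fwd (nat_lit 2048) (Steps.fwd (nat_lit 1024) (Steps.fwd (nat_lit 10240) Steps.nil))) (nat_lit 38) (nat_lit 2),
  Rule.mk (nat_lit 2) (nat_lit 45) (Steps.bwd (nat_lit 9) (Steps.fwd (nat_lit 2048) (Steps.fwd (nat_lit 9216) Steps.nil))) (nat_lit 42) (nat_lit 2),
  Rule.mk (nat_lit 8) (nat_lit 33) (Steps.bwd (nat_lit 8) (Steps.bwd (nat_lit 8) Steps.nil)) (nat_lit 27) (nat_lit 0),
  Rule.mk (nat_lit 2) (nat_lit 45) (Steps.bwd (nat_lit 8) (Steps.fwd (nat_lit 2048) (Steps.fwd (nat_lit 8192) Steps.nil))) (nat_lit 30) (nat_lit 0),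
  Rule.mk (nat_lit 9) (nat_lit 45) (Steps.bwd (nat_lit 8) (Steps.fwd (nat_lit 9216) (Steps.bwd (nat_lit 8) Steps.nil))) (nat_lit 49) (nat_lit 0),
  Rule.mk (nat_lit 7) (nat_lit 57) (Steps.bwd (nat_lit 6) (Steps.bwd (nat_lit 6) (Steps.bwd (nat_lit 8) (Steps.bwd (nat_lit 5) Steps.nil)))) (nat_lit 36) (nat_lit 3),
  Rule.mk (nat_lit 0) (nat_lit 69) (Steps.bwd (nat_lit 5) (Steps.bwd (nat_lit 5) (Steps.fwd (nat_lit 7168) (Steps.fwd (nat_lit 5120) (Steps.bwd (nat_lit 7) Steps.nil))))) (nat_lit 37) (nat_lit 0),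
  Rule.mk (nat_lit 0) (nat_lit 57) (Steps.bwd (nat_lit 9) (Steps.fwd (nat_lit 2048) (Steps.fwd (nat_lit 1024) (Steps.fwd (nat_lit 10240) Steps.nil)))) (nat_lit 38) (nat_lit 1),
  Rule.mk (nat_lit 2) (nat_lit 45) (Steps.bwd (nat_lit 10) (Steps.fwd (nat_lit 9216) (Steps.fwd (nat_lit 1024) Steps.nil))) (nat_lit 39) (nat_lit 2),
  Rule.mk (nat_lit 2) (nat_lit 213) (Steps.fwd (nat_lit 1024) (Steps.bwd (nat_lit 10) (Steps.bwd (nat_lit 6) (Steps.fwd (nat_lit 10240) (Steps.fwd (nat_lit 6144) (Steps.bwd (nat_lit 10) (Steps.fwd (nat_lit 5120) (Steps.bwd (nat_lit 9) (Steps.fwd (nat_lit 6144) (Steps.fwd (nat_lit 9216) (Steps.bwd (nat_lit 6) (Steps.fwd (nat_lit 10240) (Steps.bwd (nat_lit 5) (Steps.bwd (nat_lit 10) (Steps.bwd (nat_lit 6) (Steps.fwd (nat_lit 10240) (Steps.fwd (nat_lit 6144) Steps.nil))))))))))))))))) (nat_lit 55) (nat_lit 17),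
  Rule.mk (nat_lit 2) (nat_lit 213) (Steps.fwd (nat_lit 1024) (Steps.fwd (nat_lit 9216) (Steps.bwd (nat_lit 6) (Steps.fwd (nat_lit 10240) (Steps.bwd (nat_lit 5) (Steps.bwd (nat_lit 10) (Steps.bwd (nat_lit 6) (Steps.fwd (nat_lit 10240) (Steps.fwd (nat_lit 6144) (Steps.bwd (nat_lit 10) (Steps.bwd (nat_lit 6) (Steps.fwd (nat_lit 10240) (Steps.fwd (nat_lit 6144) (Steps.bwd (nat_lit 10) (Steps.fwd (nat_lit 5120) (Steps.bwd (nat_lit 9) (Steps.fwd (nat_lit 6144) Steps.nil))))))))))))))))) (nat_lit 55) (nat_lit 17),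
  Rule.mk (nat_lit 3) (nat_lit 45) (Steps.bwd (nat_lit 6) (Steps.fwd (nat_lit 3072) (Steps.fwd (nat_lit 5120) Steps.nil))) (nat_lit 23) (nat_lit 1),
  Rule.mk (nat_lit 6) (nat_lit 81) (Steps.bwd (nat_lit 6) (Steps.bwd (nat_lit 6) (Steps.fwd (nat_lit 5120) (Steps.bwd (nat_lit 6) (Steps.bwd (nat_lit 6) (Steps.bwd (nat_lit 6) Steps.nil)))))) (nat_lit 17) (nat_lit 0),
  Rule.mk (nat_lit 3) (nat_lit 45) (Steps.bwd (nat_lit 6) (Steps.fwd (nat_lit 3072) (Steps.bwd (nat_lit 6) Steps.nil))) (nat_lit 23) (nat_lit 1),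
  Rule.mk (nat_lit 10) (nat_lit 93) (Steps.fwd (nat_lit 1024) (Steps.fwd (nat_lit 2048) (Steps.bwd (nat_lit 6) (Steps.fwd (nat_lit 9216) (Steps.bwd (nat_lit 6) (Steps.fwd (nat_lit 9216) (Steps.bwd (nat_lit 6) Steps.nil))))))) (nat_lit 52) (nat_lit 0),
  Rule.mk (nat_lit 3) (nat_lit 45) (Steps.fwd (nat_lit 6144) (Steps.bwd (nat_lit 3) (Steps.fwd (nat_lit 6144) Steps.nil))) (nat_lit 22) (nat_lit 0),
  Rule.mk (nat_lit 3) (nat_lit 45) (Steps.bwd (nat_lit 5) (Steps.bwd (nat_lit 3) (Steps.bwd (nat_lit 5) Steps.nil))) (nat_lit 22) (nat_lit 0),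
  Rule.mk (nat_lit 9) (nat_lit 489) (Steps.fwd (nat_lit 6144) (Steps.fwd (nat_lit 6144) (Steps.fwd (nat_lit 3072) (Steps.fwd (nat_lit 5120) (Steps.fwd (nat_lit 5120) (Steps.bwd (nat_lit 9) (Steps.fwd (nat_lit 4096) (Steps.fwd (nat_lit 3072) (Steps.fwd (nat_lit 2048) (Steps.fwd (nat_lit 3072) (Steps.bwd (nat_lit 4) (Steps.bwd (nat_lit 5) (Steps.fwd (nat_lit 6144) (Steps.bwd (nat_lit 5) (Steps.fwd (nat_lit 4096) (Steps.fwd (nat_lit 3072) (Steps.fwd (nat_lit 2048) (Steps.fwd (nat_lit 3072) (Steps.bwd (nat_lit 4) (Steps.fwd (nat_lit 5120) (Steps.fwd (nat_lit 3072) (Steps.fwd (nat_lit 2048) (Steps.bwd (nat_lit 3) (Steps.fwd (nat_lit 2048) (Steps.fwd (nat_lit 1024) (Steps.fwd (nat_lit 3072) (Steps.bwd (nat_lit 6) (Steps.bwd (nat_lit 6) (Steps.bwd (nat_lit 9) (Steps.fwd (nat_lit 6144) (Steps.fwd (nat_lit 6144) (Steps.bwd (nat_lit 3) (Steps.fwd (nat_lit 5120) (Steps.bwd (nat_lit 6) (Steps.bwd (nat_lit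 9) (Steps.fwd (nat_lit 6144) (Steps.fwd (nat_lit 6144) (Steps.fwd (nat_lit 3072) (Steps.fwd (nat_lit 5120) (Steps.fwd (nat_lit 5120) Steps.nil)))))))))))))))))))))))))))))))))))))))) (nat_lit 56) (nat_lit 16),
  Rule.mk (nat_lit 1) (nat_lit 105) (Steps.bwd (nat_lit 3) (Steps.fwd (nat_lit 2048) (Steps.fwd (nat_lit 3072) (Steps.fwd (nat_lit 2048) (Steps.bwd (nat_lit 3) (Steps.fwd (nat_lit 2048) (Steps.fwd (nat_lit 3072) (Steps.fwd (nat_lit 2048) Steps.nil)))))))) (nat_lit 10) (nat_lit 1),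
  Rule.mk (nat_lit 6) (nat_lit 93) (Steps.fwd (nat_lit 9216) (Steps.fwd (nat_lit 1024) (Steps.fwd (nat_lit 2048) (Steps.bwd (nat_lit 6) (Steps.bwd (nat_lit 10) (Steps.fwd (nat_lit 5120) (Steps.bwd (nat_lit 10) Steps.nil))))))) (nat_lit 52) (nat_lit 7),
  Rule.mk (nat_lit 2) (nat_lit 45) (Steps.bwd (nat_lit 7) (Steps.fwd (nat_lit 2048) (Steps.fwd (nat_lit 7168) Steps.nil))) (nat_lit 30) (nat_lit 2),
  Rule.mk (nat_lit 3) (nat_lit 45) (Steps.fwd (nat_lit 8192) (Steps.fwd (nat_lit 3072) (Steps.bwd (nat_lit 8) Steps.nil))) (nat_lit 32) (nat_lit 2),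
  Rule.mk (nat_lit 0) (nat_lit 57) (Steps.bwd (nat_lit 3) (Steps.bwd (nat_lit 6) (Steps.fwd (nat_lit 3072) (Steps.bwd (nat_lit 6) Steps.nil)))) (nat_lit 23) (nat_lit 0),
  Rule.mk (nat_lit 8) (nat_lit 57) (Steps.bwd (nat_lit 5) (Steps.bwd (nat_lit 7) (Steps.bwd (nat_lit 6) (Steps.fwd (nat_lit 5120) Steps.nil)))) (nat_lit 36) (nat_lit 1),
  Rule.mk (nat_lit 1) (nat_lit 105) (Steps.fwd (nat_lit 3072) (Steps.fwd (nat_lit 2048) (Steps.bwd (nat_lit 3) (Steps.fwd (nat_lit 2048) (Steps.fwd (nat_lit 3072) (Steps.fwd (nat_lit 2048) (Steps.bwd (nat_lit 3) (Steps.fwd (nat_lit 2048) Steps.nil)))))))) (nat_lit 10) (nat_lit 1),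
  Rule.mk (nat_lit 3) (nat_lit 45) (Steps.bwd (nat_lit 7) (Steps.bwd (nat_lit 3) (Steps.fwd (nat_lit 7168) Steps.nil))) (nat_lit 32) (nat_lit 2),
  Rule.mk (nat_lit 0) (nat_lit 57) (Steps.bwd (nat_lit 5) (Steps.bwd (nat_lit 3) (Steps.bwd (nat_lit 5) (Steps.bwd (nat_lit 3) Steps.nil)))) (nat_lit 22) (nat_lit 0),
  Rule.mk (nat_lit 6) (nat_lit 93) (Steps.fwd (nat_lit 9216) (Steps.fwd (nat_lit 5120) (Steps.bwd (nat_lit 10) (Steps.fwd (nat_lit 1024) (Steps.fwd (nat_lit 2048) (Steps.bwd (nat_lit 6) (Steps.bwd (nat_lit 10) Steps.nil))))))) (nat_lit 52) (nat_lit 5),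
  Rule.mk (nat_lit 8) (nat_lit 57) (Steps.fwd (nat_lit 6144) (Steps.fwd (nat_lit 8192) (Steps.bwd (nat_lit 6) (Steps.bwd (nat_lit 6) Steps.nil)))) (nat_lit 36) (nat_lit 1),
  Rule.mk (nat_lit 6) (nat_lit 81) (Steps.bwd (nat_lit 6) (Steps.bwd (nat_lit 6) (Steps.bwd (nat_lit 6) (Steps.fwd (nat_lit 5120) (Steps.bwd (nat_lit 6) (Steps.bwd (nat_lit 6) Steps.nil)))))) (nat_lit 17) (nat_lit 0),
  Rule.mk (nat_lit 7) (nat_lit 57) (Steps.bwd (nat_lit 6) (Steps.bwd (nat_lit 6) (Steps.fwd (nat_lit 7168) (Steps.bwd (nat_lit 5) Steps.nil)))) (nat_lit 36) (nat_lit 3),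
  Rule.mk (nat_lit 3) (nat_lit 45) (Steps.bwd (nat_lit 8) (Steps.fwd (nat_lit 3072) (Steps.bwd (nat_lit 7) Steps.nil))) (nat_lit 32) (nat_lit 0),
  Rule.mk (nat_lit 7) (nat_lit 45) (Steps.bwd (nat_lit 9) (Steps.bwd (nat_lit 7) (Steps.bwd (nat_lit 10) Steps.nil))) (nat_lit 48) (nat_lit 2),
  Rule.mk (nat_lit 8) (nat_lit 45) (Steps.bwd (nat_lit 10) (Steps.bwd (nat_lit 8) (Steps.fwd (nat_lit 10240) Steps.nil))) (nat_lit 49) (nat_lit 1),
  Rule.mk (nat_lit 7) (nat_lit 45) (Steps.bwd (nat_lit 3) (Steps.bwd (nat_lit 8) (Steps.bwd (nat_lit 3) Steps.nil))) (nat_lit 32) (nat_lit 3),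
  Rule.mk (nat_lit 8) (nat_lit 45) (Steps.fwd (nat_lit 2048) (Steps.bwd (nat_lit 7) (Steps.fwd (nat_lit 2048) Steps.nil))) (nat_lit 30) (nat_lit 1),
  Rule.mk (nat_lit 8) (nat_lit 45) (Steps.fwd (nat_lit 4096) (Steps.bwd (nat_lit 7) (Steps.fwd (nat_lit 4096) Steps.nil))) (nat_lit 34) (nat_lit 1),
  Rule.mk (nat_lit 4) (nat_lit 69) (Steps.bwd (nat_lit 3) (Steps.fwd (nat_lit 4096) (Steps.fwd (nat_lit 3072) (Steps.fwd (nat_lit 4096) (Steps.fwd (nat_lit 3072) Steps.nil))))) (nat_lit 14) (nat_lit 0),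
  Rule.mk (nat_lit 4) (nat_lit 45) (Steps.bwd (nat_lit 2) (Steps.bwd (nat_lit 4) (Steps.bwd (nat_lit 2) Steps.nil))) (nat_lit 12) (nat_lit 0),
  Rule.mk (nat_lit 3) (nat_lit 69) (Steps.fwd (nat_lit 4096) (Steps.fwd (nat_lit 3072) (Steps.bwd (nat_lit 4) (Steps.fwd (nat_lit 3072) (Steps.fwd (nat_lit 4096) Steps.nil))))) (nat_lit 14) (nat_lit 1),
  Rule.mk (nat_lit 7) (nat_lit 45) (Steps.bwd (nat_lit 2) (Steps.bwd (nat_lit 8) (Steps.bwd (nat_lit 2) Steps.nil))) (nat_lit 30) (nat_lit 3),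
  Rule.mk (nat_lit 8) (nat_lit 45) (Steps.fwd (nat_lit 3072) (Steps.bwd (nat_lit 7) (Steps.fwd (nat_lit 3072) Steps.nil))) (nat_lit 32) (nat_lit 1),
  Rule.mk (nat_lit 4) (nat_lit 69) (Steps.bwd (nat_lit 3) (Steps.bwd (nat_lit 4) (Steps.bwd (nat_lit 3) (Steps.bwd (nat_lit 4) (Steps.bwd (nat_lit 3) Steps.nil))))) (nat_lit 14) (nat_lit 0),
  Rule.mk (nat_lit 4) (nat_lit 45) (Steps.fwd (nat_lit 2048) (Steps.bwd (nat_lit 4) (Steps.fwd (nat_lit 2048) Steps.nil))) (nat_lit 12) (nat_lit 0),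
  Rule.mk (nat_lit 3) (nat_lit 69) (Steps.bwd (nat_lit 4) (Steps.bwd (nat_lit 3) (Steps.bwd (nat_lit 4) (Steps.bwd (nat_lit 3) (Steps.bwd (nat_lit 4) Steps.nil))))) (nat_lit 14) (nat_lit 1)]
noncomputable def R_5 : List (Rule) := [Rule.mk (nat_lit 3) (nat_lit 45) (Steps.fwd (nat_lit 5120) (Steps.bwd (nat_lit 3) (Steps.fwd (nat_lit 5120) Steps.nil))) (nat_lit 23) (nat_lit 1),
  Rule.mk (nat_lit 0) (nat_lit 57) (Steps.bwd (nat_lit 4) (Steps.fwd (nat_lit 2048) (Steps.fwd (nat_lit 4096) (Steps.bwd (nat_lit 2) Steps.nil)))) (nat_lit 12) (nat_lit 1),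
  Rule.mk (nat_lit 2) (nat_lit 633) (Steps.bwd (nat_lit 3) (Steps.bwd (nat_lit 4) (Steps.bwd (nat_lit 5) (Steps.fwd (nat_lit 4096) (Steps.fwd (nat_lit 2048) (Steps.bwd (nat_lit 3) (Steps.fwd (nat_lit 4096) (Steps.fwd (nat_lit 3072) (Steps.fwd (nat_lit 2048) (Steps.bwd (nat_lit 3) (Steps.bwd (nat_lit 6) (Steps.fwd (nat_lit 4096) (Steps.bwd (nat_lit 3) (Steps.fwd (nat_lit 2048) (Steps.fwd (nat_lit 3072) (Steps.fwd (nat_lit 4096) (Steps.fwd (nat_lit 6144) (Steps.fwd (nat_lit 4096) (Steps.fwd (nat_lit 6144) (Steps.fwd (nat_lit 4096) (Steps.bwd (nat_lit 3) (Steps.fwd (nat_lit 2048) (Steps.fwd (nat_lit 3072) (Steps.fwd (nat_lit 4096) (Steps.fwd (nat_lit 6144) (Steps.fwd (nat_lit 4096) (Steps.fwd (nat_lit 3072) (Steps.fwd (nat_lit 2048) (Steps.bwd (nat_lit 3) (Steps.fwd (nat_lit 4096) (Steps.bwd (nat_lit 6) (Steps.bwd (nat_lit 6) (Steps.bwd (nat_lit 6) (Steps.fwd (nat_lit 4096) (Steps.bwd (nat_lit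 3) (Steps.fwd (nat_lit 2048) (Steps.fwd (nat_lit 3072) (Steps.fwd (nat_lit 4096) (Steps.bwd (nat_lit 6) (Steps.fwd (nat_lit 4096) (Steps.fwd (nat_lit 3072) (Steps.fwd (nat_lit 2048) (Steps.bwd (nat_lit 3) (Steps.fwd (nat_lit 4096) (Steps.fwd (nat_lit 6144) (Steps.fwd (nat_lit 6144) (Steps.fwd (nat_lit 2048) (Steps.fwd (nat_lit 3072) (Steps.bwd (nat_lit 4) (Steps.fwd (nat_lit 5120) (Steps.fwd (nat_lit 4096) (Steps.fwd (nat_lit 3072) Steps.nil)))))))))))))))))))))))))))))))))))))))))))))))))))) (nat_lit 58) (nat_lit 7),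
  Rule.mk (nat_lit 2) (nat_lit 633) (Steps.bwd (nat_lit 3) (Steps.bwd (nat_lit 4) (Steps.bwd (nat_lit 5) (Steps.bwd (nat_lit 4) (Steps.fwd (nat_lit 2048) (Steps.fwd (nat_lit 3072) (Steps.fwd (nat_lit 4096) (Steps.bwd (nat_lit 3) (Steps.fwd (nat_lit 2048) (Steps.fwd (nat_lit 3072) (Steps.bwd (nat_lit 6) (Steps.fwd (nat_lit 4096) (Steps.fwd (nat_lit 3072) (Steps.fwd (nat_lit 2048) (Steps.bwd (nat_lit 3) (Steps.fwd (nat_lit 4096) (Steps.fwd (nat_lit 6144) (Steps.fwd (nat_lit 4096) (Steps.fwd (nat_lit 6144) (Steps.fwd (nat_lit 4096) (Steps.fwd (nat_lit 3072) (Steps.fwd (nat_lit 2048) (Steps.bwd (nat_lit 3) (Steps.fwd (nat_lit 4096) (Steps.fwd (nat_lit 6144) (Steps.fwd (nat_lit 4096) (Steps.bwd (nat_lit 3) (Steps.fwd (nat_lit 2048) (Steps.fwd (nat_lit 3072) (Steps.fwd (nat_lit 4096) (Steps.bwd (nat_lit 6) (Steps.bwd (nat_lit 6) (Steps.bwd (nat_lit 6) (Steps.fwd (nat_lit 4096) (Steps.fwd (nat_lit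 3072) (Steps.fwd (nat_lit 2048) (Steps.bwd (nat_lit 3) (Steps.fwd (nat_lit 4096) (Steps.bwd (nat_lit 6) (Steps.fwd (nat_lit 4096) (Steps.bwd (nat_lit 3) (Steps.fwd (nat_lit 2048) (Steps.fwd (nat_lit 3072) (Steps.fwd (nat_lit 4096) (Steps.fwd (nat_lit 6144) (Steps.fwd (nat_lit 6144) (Steps.fwd (nat_lit 2048) (Steps.bwd (nat_lit 3) (Steps.fwd (nat_lit 4096) (Steps.fwd (nat_lit 5120) (Steps.fwd (nat_lit 4096) (Steps.fwd (nat_lit 3072) Steps.nil)))))))))))))))))))))))))))))))))))))))))))))))))))) (nat_lit 58) (nat_lit 7),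
  Rule.mk (nat_lit 6) (nat_lit 45) (Steps.bwd (nat_lit 3) (Steps.fwd (nat_lit 5120) (Steps.bwd (nat_lit 3) Steps.nil))) (nat_lit 23) (nat_lit 0),
  Rule.mk (nat_lit 2) (nat_lit 489) (Steps.fwd (nat_lit 3072) (Steps.bwd (nat_lit 4) (Steps.bwd (nat_lit 5) (Steps.bwd (nat_lit 5) (Steps.fwd (nat_lit 6144) (Steps.fwd (nat_lit 4096) (Steps.fwd (nat_lit 3072) (Steps.fwd (nat_lit 2048) (Steps.fwd (nat_lit 3072) (Steps.bwd (nat_lit 4) (Steps.bwd (nat_lit 6) (Steps.bwd (nat_lit 3) (Steps.fwd (nat_lit 2048) (Steps.fwd (nat_lit 3072) (Steps.fwd (nat_lit 2048) (Steps.fwd (nat_lit 1024) (Steps.bwd (nat_lit 3) (Steps.bwd (nat_lit 6) (Steps.bwd (nat_lit 6) (Steps.bwd (nat_lit 9) (Steps.bwd (nat_lit 5) (Steps.bwd (nat_lit 5) (Steps.fwd (nat_lit 3072) (Steps.fwd (nat_lit 5120) (Steps.fwd (nat_lit 5120) (Steps.bwd (nat_lit 9) (Steps.fwd (nat_lit 6144) (Steps.fwd (nat_lit 6144) (Steps.fwd (nat_lit 3072) (Steps.fwd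 (nat_lit 5120) (Steps.fwd (nat_lit 5120) (Steps.bwd (nat_lit 9) (Steps.fwd (nat_lit 6144) (Steps.fwd (nat_lit 6144) (Steps.fwd (nat_lit 3072) (Steps.bwd (nat_lit 6) (Steps.bwd (nat_lit 6) (Steps.bwd (nat_lit 9) (Steps.fwd (nat_lit 4096) (Steps.fwd (nat_lit 3072) Steps.nil)))))))))))))))))))))))))))))))))))))))) (nat_lit 56) (nat_lit 29),
  Rule.mk (nat_lit 1) (nat_lit 105) (Steps.fwd (nat_lit 3072) (Steps.fwd (nat_lit 2048) (Steps.fwd (nat_lit 3072) (Steps.fwd (nat_lit 2048) (Steps.fwd (nat_lit 3072) (Steps.fwd (nat_lit 2048) (Steps.fwd (nat_lit 3072) (Steps.fwd (nat_lit 2048) Steps.nil)))))))) (nat_lit 10) (nat_lit 1),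
  Rule.mk (nat_lit 10) (nat_lit 45) (Steps.bwd (nat_lit 7) (Steps.bwd (nat_lit 9) (Steps.bwd (nat_lit 7) Steps.nil))) (nat_lit 48) (nat_lit 1),
  Rule.mk (nat_lit 9) (nat_lit 117) (Steps.bwd (nat_lit 4) (Steps.fwd (nat_lit 3072) (Steps.bwd (nat_lit 10) (Steps.fwd (nat_lit 3072) (Steps.bwd (nat_lit 9) (Steps.fwd (nat_lit 4096) (Steps.bwd (nat_lit 3) (Steps.bwd (nat_lit 10) (Steps.bwd (nat_lit 3) Steps.nil))))))))) (nat_lit 47) (nat_lit 3),
  Rule.mk (nat_lit 7) (nat_lit 45) (Steps.bwd (nat_lit 9) (Steps.fwd (nat_lit 8192) (Steps.fwd (nat_lit 9216) Steps.nil))) (nat_lit 48) (nat_lit 2),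
  Rule.mk (nat_lit 3) (nat_lit 489) (Steps.bwd (nat_lit 6) (Steps.bwd (nat_lit 6) (Steps.bwd (nat_lit 9) (Steps.bwd (nat_lit 5) (Steps.bwd (nat_lit 5) (Steps.bwd (nat_lit 3) (Steps.bwd (nat_lit 6) (Steps.bwd (nat_lit 6) (Steps.fwd (nat_lit 10240) (Steps.fwd (nat_lit 6144) (Steps.fwd (nat_lit 6144) (Steps.fwd (nat_lit 3072) (Steps.bwd (nat_lit 6) (Steps.bwd (nat_lit 6) (Steps.bwd (nat_lit 9) (Steps.fwd (nat_lit 4096) (Steps.fwd (nat_lit 3072) (Steps.fwd (nat_lit 2048) (Steps.bwd (nat_lit 3) (Steps.fwd (nat_lit 4096) (Steps.fwd (nat_lit 6144) (Steps.fwd (nat_lit 6144) (Steps.fwd (nat_lit 6144) (Steps.fwd (nat_lit 4096) (Steps.bwd (nat_lit 3) (Steps.fwd (nat_lit 2048) (Steps.fwd (nat_lit 3072) (Steps.fwd (nat_lit 4096) (Steps.bwd (nat_lit 6) (Steps.fwd (nat_lit 3072) (Steps.fwd (nat_lit 2048) (Steps.bwd (nat_lit 3) (Steps.fwd (nat_lit 2048) (Steps.fwd (nat_lit 1024) (Steps.fwd (nat_lit 3072)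 (Steps.bwd (nat_lit 6) (Steps.bwd (nat_lit 6) (Steps.fwd (nat_lit 10240) (Steps.fwd (nat_lit 6144) (Steps.fwd (nat_lit 6144) Steps.nil)))))))))))))))))))))))))))))))))))))))) (nat_lit 56) (nat_lit 7),
  Rule.mk (nat_lit 10) (nat_lit 489) (Steps.bwd (nat_lit 5) (Steps.bwd (nat_lit 5) (Steps.bwd (nat_lit 3) (Steps.bwd (nat_lit 6) (Steps.bwd (nat_lit 6) (Steps.bwd (nat_lit 10) (Steps.fwd (nat_lit 6144) (Steps.fwd (nat_lit 6144) (Steps.fwd (nat_lit 3072) (Steps.fwd (nat_lit 1024) (Steps.fwd (nat_lit 2048) (Steps.bwd (nat_lit 3) (Steps.fwd (nat_lit 2048) (Steps.fwd (nat_lit 3072) (Steps.fwd (nat_lit 6144) (Steps.fwd (nat_lit 4096) (Steps.bwd (nat_lit 3) (Steps.fwd (nat_lit 2048) (Steps.fwd (nat_lit 3072) (Steps.fwd (nat_lit 4096) (Steps.bwd (nat_lit 6) (Steps.bwd (nat_lit 6) (Steps.bwd (nat_lit 6) (Steps.fwd (nat_lit 4096) (Steps.bwd (nat_lit 3) (Steps.fwd (nat_lit 2048) (Steps.fwd (nat_lit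 3072) (Steps.fwd (nat_lit 4096) (Steps.bwd (nat_lit 10) (Steps.fwd (nat_lit 6144) (Steps.fwd (nat_lit 6144) (Steps.fwd (nat_lit 3072) (Steps.bwd (nat_lit 6) (Steps.bwd (nat_lit 6) (Steps.fwd (nat_lit 9216) (Steps.fwd (nat_lit 6144) (Steps.fwd (nat_lit 6144) (Steps.bwd (nat_lit 3) (Steps.bwd (nat_lit 6) (Steps.bwd (nat_lit 6) Steps.nil)))))))))))))))))))))))))))))))))))))))) (nat_lit 57) (nat_lit 36),
  Rule.mk (nat_lit 7) (nat_lit 57) (Steps.fwd (nat_lit 5120) (Steps.fwd (nat_lit 5120) (Steps.bwd (nat_lit 8) (Steps.fwd (nat_lit 6144) Steps.nil)))) (nat_lit 36) (nat_lit 3),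
  Rule.mk (nat_lit 1) (nat_lit 45) (Steps.bwd (nat_lit 7) (Steps.fwd (nat_lit 1024) (Steps.fwd (nat_lit 7168) Steps.nil))) (nat_lit 28) (nat_lit 2),
  Rule.mk (nat_lit 9) (nat_lit 45) (Steps.fwd (nat_lit 2048) (Steps.fwd (nat_lit 1024) (Steps.bwd (nat_lit 9) Steps.nil))) (nat_lit 38) (nat_lit 2),
  Rule.mk (nat_lit 0) (nat_lit 69) (Steps.fwd (nat_lit 8192) (Steps.bwd (nat_lit 6) (Steps.bwd (nat_lit 6) (Steps.fwd (nat_lit 7168) (Steps.bwd (nat_lit 5) Steps.nil))))) (nat_lit 36) (nat_lit 2),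
  Rule.mk (nat_lit 0) (nat_lit 57) (Steps.fwd (nat_lit 6144) (Steps.bwd (nat_lit 3) (Steps.bwd (nat_lit 5) (Steps.fwd (nat_lit 3072) Steps.nil)))) (nat_lit 22) (nat_lit 0),
  Rule.mk (nat_lit 3) (nat_lit 45) (Steps.bwd (nat_lit 8) (Steps.bwd (nat_lit 3) (Steps.fwd (nat_lit 8192) Steps.nil))) (nat_lit 32) (nat_lit 0),
  Rule.mk (nat_lit 0) (nat_lit 57) (Steps.bwd (nat_lit 3) (Steps.fwd (nat_lit 5120) (Steps.bwd (nat_lit 3) (Steps.fwd (nat_lit 5120) Steps.nil)))) (nat_lit 23) (nat_lit 0),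
  Rule.mk (nat_lit 8) (nat_lit 57) (Steps.bwd (nat_lit 5) (Steps.fwd (nat_lit 8192) (Steps.bwd (nat_lit 6) (Steps.bwd (nat_lit 6) Steps.nil)))) (nat_lit 36) (nat_lit 1),
  Rule.mk (nat_lit 9) (nat_lit 93) (Steps.bwd (nat_lit 5) (Steps.fwd (nat_lit 2048) (Steps.fwd (nat_lit 1024) (Steps.bwd (nat_lit 9) (Steps.bwd (nat_lit 5) (Steps.bwd (nat_lit 9) (Steps.bwd (nat_lit 5) Steps.nil))))))) (nat_lit 53) (nat_lit 5),
  Rule.mk (nat_lit 0) (nat_lit 129) (Steps.fwd (nat_lit 9216) (Steps.fwd (nat_lit 3072) (Steps.bwd (nat_lit 9) (Steps.fwd (nat_lit 3072) (Steps.fwd (nat_lit 4096) (Steps.bwd (nat_lit 10) (Steps.bwd (nat_lit 3) (Steps.bwd (nat_lit 9) (Steps.bwd (nat_lit 3) (Steps.bwd (nat_lit 4) Steps.nil)))))))))) (nat_lit 46) (nat_lit 2),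
  Rule.mk (nat_lit 0) (nat_lit 45) (Steps.fwd (nat_lit 10240) (Steps.fwd (nat_lit 0) (Steps.fwd (nat_lit 9216) Steps.nil))) (nat_lit 60) (nat_lit 0),
  Rule.mk (nat_lit 4) (nat_lit 117) (Steps.bwd (nat_lit 3) (Steps.fwd (nat_lit 9216) (Steps.fwd (nat_lit 3072) (Steps.bwd (nat_lit 9) (Steps.fwd (nat_lit 4096) (Steps.fwd (nat_lit 3072) (Steps.bwd (nat_lit 10) (Steps.bwd (nat_lit 3) (Steps.bwd (nat_lit 9) Steps.nil))))))))) (nat_lit 47) (nat_lit 4),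
  Rule.mk (nat_lit 4) (nat_lit 105) (Steps.fwd (nat_lit 6144) (Steps.fwd (nat_lit 6144) (Steps.fwd (nat_lit 6144) (Steps.fwd (nat_lit 4096) (Steps.fwd (nat_lit 5120) (Steps.bwd (nat_lit 4) (Steps.fwd (nat_lit 5120) (Steps.bwd (nat_lit 6) Steps.nil)))))))) (nat_lit 24) (nat_lit 8),
  Rule.mk (nat_lit 4) (nat_lit 105) (Steps.fwd (nat_lit 6144) (Steps.fwd (nat_lit 6144) (Steps.bwd (nat_lit 4) (Steps.bwd (nat_lit 5) (Steps.bwd (nat_lit 4) (Steps.bwd (nat_lit 6) (Steps.bwd (nat_lit 6) (Steps.fwd (nat_lit 5120) Steps.nil)))))))) (nat_lit 25) (nat_lit 4),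
  Rule.mk (nat_lit 0) (nat_lit 153) (Steps.fwd (nat_lit 5120) (Steps.fwd (nat_lit 5120) (Steps.fwd (nat_lit 9216) (Steps.fwd (nat_lit 6144) (Steps.fwd (nat_lit 6144) (Steps.bwd (nat_lit 4) (Steps.fwd (nat_lit 5120) (Steps.bwd (nat_lit 6) (Steps.fwd (nat_lit 10240) (Steps.fwd (nat_lit 6144) (Steps.fwd (nat_lit 6144) (Steps.fwd (nat_lit 4096) Steps.nil)))))))))))) (nat_lit 50) (nat_lit 1),
  Rule.mk (nat_lit 0) (nat_lit 45) (Steps.bwd (nat_lit 10) (Steps.bwd (nat_lit 0) (Steps.bwd (nat_lit 9) Steps.nil))) (nat_lit 60) (nat_lit 0),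
  Rule.mk (nat_lit 0) (nat_lit 45) (Steps.fwd (nat_lit 3072) (Steps.bwd (nat_lit 0) (Steps.bwd (nat_lit 3) Steps.nil))) (nat_lit 60) (nat_lit 0),
  Rule.mk (nat_lit 0) (nat_lit 45) (Steps.bwd (nat_lit 4) (Steps.bwd (nat_lit 0) (Steps.bwd (nat_lit 4) Steps.nil))) (nat_lit 60) (nat_lit 0),
  Rule.mk (nat_lit 0) (nat_lit 45) (Steps.bwd (nat_lit 2) (Steps.fwd (nat_lit 0) (Steps.bwd (nat_lit 2) Steps.nil))) (nat_lit 60) (nat_lit 0),
  Rule.mk (nat_lit 0) (nat_lit 45) (Steps.bwd (nat_lit 4) (Steps.fwd (nat_lit 0) (Steps.bwd (nat_lit 4) Steps.nil))) (nat_lit 60) (nat_lit 0),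
  Rule.mk (nat_lit 0) (nat_lit 153) (Steps.bwd (nat_lit 10) (Steps.bwd (nat_lit 5) (Steps.fwd (nat_lit 6144) (Steps.bwd (nat_lit 4) (Steps.fwd (nat_lit 5120) (Steps.fwd (nat_lit 5120) (Steps.fwd (nat_lit 10240) (Steps.fwd (nat_lit 6144) (Steps.bwd (nat_lit 5) (Steps.bwd (nat_lit 4) (Steps.fwd (nat_lit 5120) (Steps.fwd (nat_lit 5120) Steps.nil)))))))))))) (nat_lit 50) (nat_lit 3),
  Rule.mk (nat_lit 0) (nat_lit 117) (Steps.fwd (nat_lit 6144) (Steps.fwd (nat_lit 6144) (Steps.bwd (nat_lit 5) (Steps.bwd (nat_lit 4) (Steps.fwd (nat_lit 5120) (Steps.fwd (nat_lit 4096) (Steps.bwd (nat_lit 6) (Steps.bwd (nat_lit 6) (Steps.fwd (nat_lit 4096) Steps.nil))))))))) (nat_lit 24) (nat_lit 8),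
  Rule.mk (nat_lit 6) (nat_lit 93) (Steps.fwd (nat_lit 9216) (Steps.bwd (nat_lit 6) (Steps.bwd (nat_lit 10) (Steps.fwd (nat_lit 1024) (Steps.fwd (nat_lit 2048) (Steps.fwd (nat_lit 5120) (Steps.fwd (nat_lit 9216) Steps.nil))))))) (nat_lit 52) (nat_lit 5),
  Rule.mk (nat_lit 6) (nat_lit 105) (Steps.bwd (nat_lit 6) (Steps.bwd (nat_lit 4) (Steps.fwd (nat_lit 6144) (Steps.fwd (nat_lit 6144) (Steps.bwd (nat_lit 5) (Steps.fwd (nat_lit 4096) (Steps.fwd (nat_lit 5120) (Steps.fwd (nat_lit 4096) Steps.nil)))))))) (nat_lit 24) (nat_lit 6),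
  Rule.mk (nat_lit 4) (nat_lit 105) (Steps.bwd (nat_lit 6) (Steps.bwd (nat_lit 4) (Steps.bwd (nat_lit 6) (Steps.fwd (nat_lit 5120) (Steps.bwd (nat_lit 4) (Steps.fwd (nat_lit 6144) (Steps.fwd (nat_lit 6144) (Steps.fwd (nat_lit 6144) Steps.nil)))))))) (nat_lit 24) (nat_lit 1),
  Rule.mk (nat_lit 8) (nat_lit 45) (Steps.bwd (nat_lit 4) (Steps.bwd (nat_lit 7) (Steps.bwd (nat_lit 4) Steps.nil))) (nat_lit 34) (nat_lit 1),
  Rule.mk (nat_lit 4) (nat_lit 45) (Steps.bwd (nat_lit 9) (Steps.bwd (nat_lit 4) (Steps.fwd (nat_lit 9216) Steps.nil))) (nat_lit 44) (nat_lit 2),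
  Rule.mk (nat_lit 0) (nat_lit 81) (Steps.bwd (nat_lit 3) (Steps.bwd (nat_lit 4) (Steps.bwd (nat_lit 3) (Steps.fwd (nat_lit 4096) (Steps.bwd (nat_lit 3) (Steps.fwd (nat_lit 4096) Steps.nil)))))) (nat_lit 14) (nat_lit 0),
  Rule.mk (nat_lit 10) (nat_lit 117) (Steps.fwd (nat_lit 3072) (Steps.bwd (nat_lit 9) (Steps.fwd (nat_lit 4096) (Steps.fwd (nat_lit 3072) (Steps.fwd (nat_lit 9216) (Steps.bwd (nat_lit 3) (Steps.bwd (nat_lit 9) (Steps.bwd (nat_lit 4) (Steps.fwd (nat_lit 3072) Steps.nil))))))))) (nat_lit 47) (nat_lit 1),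
  Rule.mk (nat_lit 10) (nat_lit 45) (Steps.bwd (nat_lit 8) (Steps.fwd (nat_lit 10240) (Steps.bwd (nat_lit 8) Steps.nil))) (nat_lit 49) (nat_lit 2),
  Rule.mk (nat_lit 3) (nat_lit 117) (Steps.bwd (nat_lit 9) (Steps.fwd (nat_lit 4096) (Steps.bwd (nat_lit 3) (Steps.fwd (nat_lit 9216) (Steps.fwd (nat_lit 3072) (Steps.bwd (nat_lit 9) (Steps.fwd (nat_lit 4096) (Steps.fwd (nat_lit 3072) (Steps.bwd (nat_lit 10) Steps.nil))))))))) (nat_lit 47) (nat_lit 2),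
  Rule.mk (nat_lit 6) (nat_lit 213) (Steps.fwd (nat_lit 10240) (Steps.bwd (nat_lit 5) (Steps.bwd (nat_lit 10) (Steps.bwd (nat_lit 6) (Steps.bwd (nat_lit 9) (Steps.bwd (nat_lit 5) (Steps.fwd (nat_lit 2048) (Steps.fwd (nat_lit 1024) (Steps.bwd (nat_lit 10) (Steps.bwd (nat_lit 6) (Steps.bwd (nat_lit 9) (Steps.fwd (nat_lit 6144) (Steps.fwd (nat_lit 9216) (Steps.bwd (nat_lit 6) (Steps.fwd (nat_lit 10240) (Steps.fwd (nat_lit 6144) (Steps.fwd (nat_lit 9216) Steps.nil))))))))))))))))) (nat_lit 55) (nat_lit 10),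
  Rule.mk (nat_lit 0) (nat_lit 57) (Steps.fwd (nat_lit 6144) (Steps.fwd (nat_lit 3072) (Steps.fwd (nat_lit 6144) (Steps.fwd (nat_lit 3072) Steps.nil)))) (nat_lit 22) (nat_lit 0),
  Rule.mk (nat_lit 9) (nat_lit 45) (Steps.fwd (nat_lit 7168) (Steps.fwd (nat_lit 9216) (Steps.bwd (nat_lit 8) Steps.nil))) (nat_lit 49) (nat_lit 0),
  Rule.mk (nat_lit 10) (nat_lit 45) (Steps.fwd (nat_lit 7168) (Steps.bwd (nat_lit 9) (Steps.bwd (nat_lit 8) Steps.nil))) (nat_lit 49) (nat_lit 2),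
  Rule.mk (nat_lit 7) (nat_lit 57) (Steps.bwd (nat_lit 5) (Steps.fwd (nat_lit 6144) (Steps.bwd (nat_lit 8) (Steps.fwd (nat_lit 5120) Steps.nil)))) (nat_lit 37) (nat_lit 0),
  Rule.mk (nat_lit 9) (nat_lit 117) (Steps.bwd (nat_lit 3) (Steps.bwd (nat_lit 4) (Steps.fwd (nat_lit 9216) (Steps.fwd (nat_lit 3072) (Steps.bwd (nat_lit 9) (Steps.bwd (nat_lit 3) (Steps.fwd (nat_lit 4096) (Steps.bwd (nat_lit 10) (Steps.fwd (nat_lit 3072) Steps.nil))))))))) (nat_lit 46) (nat_lit 0),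
  Rule.mk (nat_lit 4) (nat_lit 45) (Steps.bwd (nat_lit 8) (Steps.bwd (nat_lit 4) (Steps.fwd (nat_lit 8192) Steps.nil))) (nat_lit 34) (nat_lit 0),
  Rule.mk (nat_lit 5) (nat_lit 57) (Steps.fwd (nat_lit 6144) (Steps.bwd (nat_lit 8) (Steps.bwd (nat_lit 6) (Steps.fwd (nat_lit 8192) Steps.nil)))) (nat_lit 37) (nat_lit 1),
  Rule.mk (nat_lit 4) (nat_lit 105) (Steps.bwd (nat_lit 6) (Steps.bwd (nat_lit 6) (Steps.fwd (nat_lit 5120) (Steps.fwd (nat_lit 4096) (Steps.fwd (nat_lit 6144) (Steps.fwd (nat_lit 6144) (Steps.fwd (nat_lit 4096) (Steps.bwd (nat_lit 5) Steps.nil)))))))) (nat_lit 25) (nat_lit 0),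
  Rule.mk (nat_lit 5) (nat_lit 105) (Steps.fwd (nat_lit 4096) (Steps.bwd (nat_lit 6) (Steps.bwd (nat_lit 6) (Steps.bwd (nat_lit 6) (Steps.fwd (nat_lit 4096) (Steps.bwd (nat_lit 5) (Steps.fwd (nat_lit 6144) (Steps.fwd (nat_lit 4096) Steps.nil)))))))) (nat_lit 25) (nat_lit 10),
  Rule.mk (nat_lit 5) (nat_lit 81) (Steps.bwd (nat_lit 5) (Steps.bwd (nat_lit 5) (Steps.bwd (nat_lit 5) (Steps.fwd (nat_lit 6144) (Steps.bwd (nat_lit 5) (Steps.bwd (nat_lit 5) Steps.nil)))))) (nat_lit 16) (nat_lit 0),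
  Rule.mk (nat_lit 10) (nat_lit 117) (Steps.fwd (nat_lit 3072) (Steps.fwd (nat_lit 10240) (Steps.bwd (nat_lit 4) (Steps.bwd (nat_lit 3) (Steps.fwd (nat_lit 9216) (Steps.fwd (nat_lit 3072) (Steps.bwd (nat_lit 9) (Steps.bwd (nat_lit 4) (Steps.bwd (nat_lit 3) Steps.nil))))))))) (nat_lit 47) (nat_lit 1),
  Rule.mk (nat_lit 0) (nat_lit 57) (Steps.fwd (nat_lit 10240) (Steps.fwd (nat_lit 10240) (Steps.bwd (nat_lit 2) (Steps.fwd (nat_lit 1024) Steps.nil)))) (nat_lit 38) (nat_lit 0),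
  Rule.mk (nat_lit 0) (nat_lit 45) (Steps.fwd (nat_lit 4096) (Steps.bwd (nat_lit 0) (Steps.fwd (nat_lit 4096) Steps.nil))) (nat_lit 60) (nat_lit 0),
  Rule.mk (nat_lit 0) (nat_lit 57) (Steps.bwd (nat_lit 0) (Steps.bwd (nat_lit 3) (Steps.bwd (nat_lit 0) (Steps.fwd (nat_lit 3072) Steps.nil)))) (nat_lit 60) (nat_lit 0),
  Rule.mk (nat_lit 0) (nat_lit 57) (Steps.fwd (nat_lit 8192) (Steps.fwd (nat_lit 9216) (Steps.bwd (nat_lit 7) (Steps.bwd (nat_lit 9) Steps.nil)))) (nat_lit 48) (nat_lit 3),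
  Rule.mk (nat_lit 0) (nat_lit 45) (Steps.bwd (nat_lit 8) (Steps.fwd (nat_lit 0) (Steps.fwd (nat_lit 8192) Steps.nil))) (nat_lit 60) (nat_lit 0),
  Rule.mk (nat_lit 8) (nat_lit 45) (Steps.fwd (nat_lit 9216) (Steps.bwd (nat_lit 8) (Steps.fwd (nat_lit 10240) Steps.nil))) (nat_lit 49) (nat_lit 1),
  Rule.mk (nat_lit 4) (nat_lit 45) (Steps.bwd (nat_lit 7) (Steps.fwd (nat_lit 4096) (Steps.bwd (nat_lit 8) Steps.nil))) (nat_lit 34) (nat_lit 2),
  Rule.mk (nat_lit 6) (nat_lit 57) (Steps.bwd (nat_lit 7) (Steps.bwd (nat_lit 5) (Steps.fwd (nat_lit 6144) (Steps.bwd (nat_lit 8) Steps.nil)))) (nat_lit 37) (nat_lit 4),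
  Rule.mk (nat_lit 5) (nat_lit 141) (Steps.fwd (nat_lit 6144) (Steps.fwd (nat_lit 4096) (Steps.bwd (nat_lit 6) (Steps.bwd (nat_lit 6) (Steps.bwd (nat_lit 10) (Steps.fwd (nat_lit 6144) (Steps.fwd (nat_lit 6144) (Steps.fwd (nat_lit 4096) (Steps.bwd (nat_lit 6) (Steps.bwd (nat_lit 6) (Steps.fwd (nat_lit 10240) Steps.nil))))))))))) (nat_lit 50) (nat_lit 11)]
noncomputable def R_6 : List (Rule) := [Rule.mk (nat_lit 9) (nat_lit 93) (Steps.bwd (nat_lit 5) (Steps.bwd (nat_lit 9) (Steps.fwd (nat_lit 6144) (Steps.fwd (nat_lit 10240) (Steps.bwd (nat_lit 5) (Steps.fwd (nat_lit 2048) (Steps.fwd (nat_lit 1024) Steps.nil))))))) (nat_lit 53) (nat_lit 1),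
  Rule.mk (nat_lit 4) (nat_lit 105) (Steps.bwd (nat_lit 5) (Steps.bwd (nat_lit 5) (Steps.fwd (nat_lit 6144) (Steps.fwd (nat_lit 4096) (Steps.bwd (nat_lit 6) (Steps.fwd (nat_lit 4096) (Steps.bwd (nat_lit 6) (Steps.bwd (nat_lit 6) Steps.nil)))))))) (nat_lit 24) (nat_lit 8),
  Rule.mk (nat_lit 7) (nat_lit 45) (Steps.fwd (nat_lit 4096) (Steps.fwd (nat_lit 7168) (Steps.bwd (nat_lit 4) Steps.nil))) (nat_lit 34) (nat_lit 3),
  Rule.mk (nat_lit 5) (nat_lit 141) (Steps.fwd (nat_lit 6144) (Steps.bwd (nat_lit 4) (Steps.bwd (nat_lit 6) (Steps.fwd (nat_lit 5120) (Steps.bwd (nat_lit 10) (Steps.fwd (nat_lit 6144) (Steps.fwd (nat_lit 6144) (Steps.bwd (nat_lit 4) (Steps.bwd (nat_lit 6) (Steps.fwd (nat_lit 5120) (Steps.fwd (nat_lit 10240) Steps.nil))))))))))) (nat_lit 50) (nat_lit 11),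
  Rule.mk (nat_lit 0) (nat_lit 57) (Steps.bwd (nat_lit 3) (Steps.bwd (nat_lit 6) (Steps.fwd (nat_lit 3072) (Steps.fwd (nat_lit 5120) Steps.nil)))) (nat_lit 23) (nat_lit 0),
  Rule.mk (nat_lit 4) (nat_lit 105) (Steps.fwd (nat_lit 6144) (Steps.bwd (nat_lit 5) (Steps.fwd (nat_lit 6144) (Steps.bwd (nat_lit 4) (Steps.bwd (nat_lit 6) (Steps.fwd (nat_lit 4096) (Steps.bwd (nat_lit 6) (Steps.fwd (nat_lit 5120) Steps.nil)))))))) (nat_lit 24) (nat_lit 8),
  Rule.mk (nat_lit 10) (nat_lit 45) (Steps.bwd (nat_lit 7) (Steps.bwd (nat_lit 9) (Steps.fwd (nat_lit 8192) Steps.nil))) (nat_lit 48) (nat_lit 1),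
  Rule.mk (nat_lit 0) (nat_lit 57) (Steps.bwd (nat_lit 9) (Steps.bwd (nat_lit 4) (Steps.fwd (nat_lit 9216) (Steps.bwd (nat_lit 4) Steps.nil)))) (nat_lit 44) (nat_lit 2),
  Rule.mk (nat_lit 0) (nat_lit 45) (Steps.fwd (nat_lit 8192) (Steps.fwd (nat_lit 0) (Steps.fwd (nat_lit 7168) Steps.nil))) (nat_lit 60) (nat_lit 0),
  Rule.mk (nat_lit 0) (nat_lit 81) (Steps.bwd (nat_lit 3) (Steps.bwd (nat_lit 4) (Steps.bwd (nat_lit 3) (Steps.bwd (nat_lit 4) (Steps.fwd (nat_lit 3072) (Steps.bwd (nat_lit 4) Steps.nil)))))) (nat_lit 14) (nat_lit 0),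
  Rule.mk (nat_lit 4) (nat_lit 105) (Steps.bwd (nat_lit 5) (Steps.bwd (nat_lit 5) (Steps.bwd (nat_lit 4) (Steps.fwd (nat_lit 6144) (Steps.bwd (nat_lit 4) (Steps.bwd (nat_lit 6) (Steps.bwd (nat_lit 6) (Steps.fwd (nat_lit 5120) Steps.nil)))))))) (nat_lit 25) (nat_lit 4),
  Rule.mk (nat_lit 5) (nat_lit 105) (Steps.bwd (nat_lit 4) (Steps.fwd (nat_lit 5120) (Steps.bwd (nat_lit 6) (Steps.fwd (nat_lit 5120) (Steps.bwd (nat_lit 4) (Steps.fwd (nat_lit 6144) (Steps.fwd (nat_lit 6144) (Steps.fwd (nat_lit 4096) Steps.nil)))))))) (nat_lit 25) (nat_lit 10),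
  Rule.mk (nat_lit 5) (nat_lit 105) (Steps.bwd (nat_lit 5) (Steps.bwd (nat_lit 4) (Steps.bwd (nat_lit 5) (Steps.bwd (nat_lit 4) (Steps.bwd (nat_lit 6) (Steps.bwd (nat_lit 6) (Steps.bwd (nat_lit 6) (Steps.fwd (nat_lit 4096) Steps.nil)))))))) (nat_lit 25) (nat_lit 5),
  Rule.mk (nat_lit 4) (nat_lit 105) (Steps.fwd (nat_lit 5120) (Steps.fwd (nat_lit 5120) (Steps.bwd (nat_lit 6) (Steps.fwd (nat_lit 4096) (Steps.bwd (nat_lit 5) (Steps.bwd (nat_lit 5) (Steps.bwd (nat_lit 4) (Steps.bwd (nat_lit 5) Steps.nil)))))))) (nat_lit 25) (nat_lit 0),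
  Rule.mk (nat_lit 6) (nat_lit 105) (Steps.bwd (nat_lit 4) (Steps.fwd (nat_lit 6144) (Steps.bwd (nat_lit 5) (Steps.bwd (nat_lit 4) (Steps.bwd (nat_lit 5) (Steps.bwd (nat_lit 4) (Steps.bwd (nat_lit 6) (Steps.fwd (nat_lit 5120) Steps.nil)))))))) (nat_lit 25) (nat_lit 3),
  Rule.mk (nat_lit 9) (nat_lit 117) (Steps.bwd (nat_lit 4) (Steps.fwd (nat_lit 3072) (Steps.fwd (nat_lit 9216) (Steps.fwd (nat_lit 3072) (Steps.bwd (nat_lit 9) (Steps.bwd (nat_lit 4) (Steps.bwd (nat_lit 3) (Steps.bwd (nat_lit 10) (Steps.bwd (nat_lit 3) Steps.nil))))))))) (nat_lit 47) (nat_lit 3),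
  Rule.mk (nat_lit 5) (nat_lit 57) (Steps.bwd (nat_lit 8) (Steps.bwd (nat_lit 6) (Steps.fwd (nat_lit 8192) (Steps.bwd (nat_lit 5) Steps.nil)))) (nat_lit 37) (nat_lit 2),
  Rule.mk (nat_lit 5) (nat_lit 105) (Steps.bwd (nat_lit 4) (Steps.bwd (nat_lit 5) (Steps.fwd (nat_lit 4096) (Steps.bwd (nat_lit 6) (Steps.bwd (nat_lit 6) (Steps.bwd (nat_lit 6) (Steps.fwd (nat_lit 4096) (Steps.fwd (nat_lit 6144) Steps.nil)))))))) (nat_lit 25) (nat_lit 6),
  Rule.mk (nat_lit 6) (nat_lit 141) (Steps.fwd (nat_lit 5120) (Steps.bwd (nat_lit 9) (Steps.fwd (nat_lit 6144) (Steps.bwd (nat_lit 5) (Steps.fwd (nat_lit 4096) (Steps.bwd (nat_lit 6) (Steps.fwd (nat_lit 5120) (Steps.bwd (nat_lit 10) (Steps.fwd (nat_lit 6144) (Steps.bwd (nat_lit 5) (Steps.bwd (nat_lit 4) Steps.nil))))))))))) (nat_lit 50) (nat_lit 8),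
  Rule.mk (nat_lit 8) (nat_lit 57) (Steps.bwd (nat_lit 6) (Steps.bwd (nat_lit 7) (Steps.fwd (nat_lit 6144) (Steps.bwd (nat_lit 5) Steps.nil)))) (nat_lit 37) (nat_lit 3),
  Rule.mk (nat_lit 10) (nat_lit 93) (Steps.bwd (nat_lit 6) (Steps.fwd (nat_lit 9216) (Steps.fwd (nat_lit 1024) (Steps.fwd (nat_lit 2048) (Steps.fwd (nat_lit 5120) (Steps.fwd (nat_lit 9216) (Steps.fwd (nat_lit 5120) Steps.nil))))))) (nat_lit 52) (nat_lit 6),
  Rule.mk (nat_lit 9) (nat_lit 213) (Steps.bwd (nat_lit 6) (Steps.fwd (nat_lit 9216) (Steps.bwd (nat_lit 5) (Steps.bwd (nat_lit 9) (Steps.fwd (nat_lit 1024) (Steps.fwd (nat_lit 2048) (Steps.fwd (nat_lit 5120) (Steps.fwd (nat_lit 9216) (Steps.bwd (nat_lit 5) (Steps.fwd (nat_lit 10240) (Steps.fwd (nat_lit 5120) (Steps.fwd (nat_lit 9216) (Steps.fwd (nat_lit 6144) (Steps.bwd (nat_lit 9) (Steps.bwd (nat_lit 6) (Steps.fwd (nat_lit 9216) (Steps.fwd (nat_lit 6144) Steps.nil)))))))))))))))))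 (nat_lit 54) (nat_lit 14),
  Rule.mk (nat_lit 10) (nat_lit 45) (Steps.bwd (nat_lit 4) (Steps.bwd (nat_lit 9) (Steps.fwd (nat_lit 4096) Steps.nil))) (nat_lit 44) (nat_lit 1),
  Rule.mk (nat_lit 0) (nat_lit 129) (Steps.bwd (nat_lit 3) (Steps.bwd (nat_lit 4) (Steps.fwd (nat_lit 9216) (Steps.fwd (nat_lit 3072) (Steps.bwd (nat_lit 9) (Steps.bwd (nat_lit 3) (Steps.fwd (nat_lit 4096) (Steps.fwd (nat_lit 9216) (Steps.bwd (nat_lit 3) (Steps.fwd (nat_lit 10240) Steps.nil)))))))))) (nat_lit 46) (nat_lit 0),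
  Rule.mk (nat_lit 10) (nat_lit 117) (Steps.bwd (nat_lit 3) (Steps.bwd (nat_lit 9) (Steps.bwd (nat_lit 4) (Steps.bwd (nat_lit 3) (Steps.bwd (nat_lit 10) (Steps.bwd (nat_lit 3) (Steps.bwd (nat_lit 9) (Steps.bwd (nat_lit 4) (Steps.fwd (nat_lit 3072) Steps.nil))))))))) (nat_lit 47) (nat_lit 1),
  Rule.mk (nat_lit 0) (nat_lit 117) (Steps.bwd (nat_lit 4) (Steps.bwd (nat_lit 5) (Steps.bwd (nat_lit 4) (Steps.bwd (nat_lit 6) (Steps.bwd (nat_lit 6) (Steps.fwd (nat_lit 5120) (Steps.bwd (nat_lit 4) (Steps.fwd (nat_lit 6144) (Steps.fwd (nat_lit 6144) Steps.nil))))))))) (nat_lit 25) (nat_lit 6),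
  Rule.mk (nat_lit 10) (nat_lit 117) (Steps.fwd (nat_lit 3072) (Steps.bwd (nat_lit 9) (Steps.bwd (nat_lit 3) (Steps.bwd (nat_lit 4) (Steps.fwd (nat_lit 9216) (Steps.fwd (nat_lit 3072) (Steps.bwd (nat_lit 9) (Steps.bwd (nat_lit 3) (Steps.fwd (nat_lit 4096) Steps.nil))))))))) (nat_lit 46) (nat_lit 3),
  Rule.mk (nat_lit 5) (nat_lit 105) (Steps.bwd (nat_lit 4) (Steps.bwd (nat_lit 6) (Steps.bwd (nat_lit 6) (Steps.bwd (nat_lit 6) (Steps.bwd (nat_lit 4) (Steps.fwd (nat_lit 6144) (Steps.bwd (nat_lit 5) (Steps.bwd (nat_lit 4) Steps.nil)))))))) (nat_lit 25) (nat_lit 10),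
  Rule.mk (nat_lit 6) (nat_lit 105) (Steps.bwd (nat_lit 6) (Steps.bwd (nat_lit 4) (Steps.fwd (nat_lit 6144) (Steps.bwd (nat_lit 5) (Steps.bwd (nat_lit 5) (Steps.bwd (nat_lit 4) (Steps.bwd (nat_lit 6) (Steps.fwd (nat_lit 4096) Steps.nil)))))))) (nat_lit 24) (nat_lit 6),
  Rule.mk (nat_lit 3) (nat_lit 45) (Steps.fwd (nat_lit 5120) (Steps.bwd (nat_lit 3) (Steps.bwd (nat_lit 6) Steps.nil))) (nat_lit 23) (nat_lit 1),
  Rule.mk (nat_lit 7) (nat_lit 57) (Steps.fwd (nat_lit 6144) (Steps.bwd (nat_lit 5) (Steps.fwd (nat_lit 7168) (Steps.bwd (nat_lit 6) Steps.nil)))) (nat_lit 37) (nat_lit 0),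
  Rule.mk (nat_lit 9) (nat_lit 213) (Steps.bwd (nat_lit 6) (Steps.bwd (nat_lit 10) (Steps.bwd (nat_lit 5) (Steps.bwd (nat_lit 9) (Steps.bwd (nat_lit 6) (Steps.bwd (nat_lit 10) (Steps.bwd (nat_lit 5) (Steps.bwd (nat_lit 9) (Steps.bwd (nat_lit 6) (Steps.bwd (nat_lit 10) (Steps.fwd (nat_lit 6144) (Steps.fwd (nat_lit 10240) (Steps.fwd (nat_lit 1024) (Steps.fwd (nat_lit 2048) (Steps.fwd (nat_lit 5120) (Steps.fwd (nat_lit 9216) (Steps.bwd (nat_lit 5) Steps.nil))))))))))))))))) (nat_lit 54) (nat_lit 6),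
  Rule.mk (nat_lit 4) (nat_lit 45) (Steps.fwd (nat_lit 9216) (Steps.bwd (nat_lit 4) (Steps.bwd (nat_lit 9) Steps.nil))) (nat_lit 44) (nat_lit 0),
  Rule.mk (nat_lit 7) (nat_lit 45) (Steps.fwd (nat_lit 9216) (Steps.fwd (nat_lit 8192) (Steps.bwd (nat_lit 9) Steps.nil))) (nat_lit 48) (nat_lit 0),
  Rule.mk (nat_lit 5) (nat_lit 93) (Steps.fwd (nat_lit 2048) (Steps.fwd (nat_lit 1024) (Steps.bwd (nat_lit 9) (Steps.bwd (nat_lit 5) (Steps.bwd (nat_lit 9) (Steps.bwd (nat_lit 5) (Steps.bwd (nat_lit 9) Steps.nil))))))) (nat_lit 53) (nat_lit 6),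
  Rule.mk (nat_lit 7) (nat_lit 57) (Steps.fwd (nat_lit 6144) (Steps.bwd (nat_lit 5) (Steps.bwd (nat_lit 8) (Steps.bwd (nat_lit 6) Steps.nil)))) (nat_lit 37) (nat_lit 0),
  Rule.mk (nat_lit 5) (nat_lit 81) (Steps.fwd (nat_lit 6144) (Steps.bwd (nat_lit 5) (Steps.fwd (nat_lit 6144) (Steps.fwd (nat_lit 6144) (Steps.fwd (nat_lit 6144) (Steps.bwd (nat_lit 5) Steps.nil)))))) (nat_lit 16) (nat_lit 0),
  Rule.mk (nat_lit 0) (nat_lit 153) (Steps.fwd (nat_lit 5120) (Steps.fwd (nat_lit 10240) (Steps.fwd (nat_lit 6144) (Steps.bwd (nat_lit 5) (Steps.bwd (nat_lit 4) (Steps.bwd (nat_lit 6) (Steps.bwd (nat_lit 6) (Steps.bwd (nat_lit 10) (Steps.fwd (nat_lit 6144) (Steps.bwd (nat_lit 5) (Steps.fwd (nat_lit 4096) (Steps.fwd (nat_lit 5120) Steps.nil)))))))))))) (nat_lit 50) (nat_lit 8),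
  Rule.mk (nat_lit 0) (nat_lit 45) (Steps.fwd (nat_lit 9216) (Steps.fwd (nat_lit 0) (Steps.bwd (nat_lit 9) Steps.nil))) (nat_lit 60) (nat_lit 0),
  Rule.mk (nat_lit 10) (nat_lit 141) (Steps.fwd (nat_lit 6144) (Steps.bwd (nat_lit 5) (Steps.bwd (nat_lit 4) (Steps.bwd (nat_lit 6) (Steps.bwd (nat_lit 6) (Steps.fwd (nat_lit 10240) (Steps.fwd (nat_lit 6144) (Steps.bwd (nat_lit 5) (Steps.fwd (nat_lit 4096) (Steps.fwd (nat_lit 5120) (Steps.fwd (nat_lit 5120) Steps.nil))))))))))) (nat_lit 50) (nat_lit 4),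
  Rule.mk (nat_lit 3) (nat_lit 489) (Steps.bwd (nat_lit 6) (Steps.fwd (nat_lit 5120) (Steps.bwd (nat_lit 9) (Steps.bwd (nat_lit 4) (Steps.fwd (nat_lit 3072) (Steps.fwd (nat_lit 2048) (Steps.bwd (nat_lit 3) (Steps.fwd (nat_lit 4096) (Steps.fwd (nat_lit 6144) (Steps.fwd (nat_lit 6144) (Steps.fwd (nat_lit 6144) (Steps.fwd (nat_lit 4096) (Steps.bwd (nat_lit 3) (Steps.fwd (nat_lit 2048) (Steps.fwd (nat_lit 3072) (Steps.bwd (nat_lit 4) (Steps.bwd (nat_lit 6) (Steps.bwd (nat_lit 3) (Steps.fwd (nat_lit 2048) (Steps.fwd (nat_lit 3072) (Steps.fwd (nat_lit 2048) (Steps.fwd (nat_lit 1024) (Steps.bwd (nat_lit 3) (Steps.bwd (nat_lit 6) (Steps.bwd (nat_lit 6) (Steps.fwd (nat_lit 10240) (Steps.bwd (nat_lit 5) (Steps.bwd (nat_lit 5) (Steps.bwd (nat_lit 3) (Steps.fwd (nat_lit 5120) (Steps.fwd (nat_lit 5120) (Steps.fwd (nat_lit 10240) (Steps.fwd (nat_lit 6144) (Steps.bwd (nat_lit 5) (Steps.fwd (nat_lit 3072)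 (Steps.fwd (nat_lit 5120) (Steps.bwd (nat_lit 6) (Steps.fwd (nat_lit 10240) (Steps.bwd (nat_lit 5) (Steps.bwd (nat_lit 5) Steps.nil)))))))))))))))))))))))))))))))))))))))) (nat_lit 56) (nat_lit 19),
  Rule.mk (nat_lit 2) (nat_lit 489) (Steps.bwd (nat_lit 3) (Steps.bwd (nat_lit 5) (Steps.bwd (nat_lit 4) (Steps.fwd (nat_lit 3072) (Steps.fwd (nat_lit 2048) (Steps.bwd (nat_lit 3) (Steps.fwd (nat_lit 4096) (Steps.fwd (nat_lit 5120) (Steps.bwd (nat_lit 6) (Steps.fwd (nat_lit 5120) (Steps.bwd (nat_lit 4) (Steps.bwd (nat_lit 3) (Steps.fwd (nat_lit 2048) (Steps.fwd (nat_lit 3072) (Steps.fwd (nat_lit 4096) (Steps.bwd (nat_lit 10) (Steps.fwd (nat_lit 6144) (Steps.fwd (nat_lit 6144) (Steps.bwd (nat_lit 3) (Steps.bwd (nat_lit 6) (Steps.bwd (nat_lit 6) (Steps.fwd (nat_lit 9216) (Steps.bwd (nat_lit 5) (Steps.bwd (nat_lit 5) (Steps.bwd (nat_lit 3) (Steps.fwd (nat_lit 5120) (Steps.fwd (nat_lit 5120) (Steps.bwd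 (nat_lit 10) (Steps.fwd (nat_lit 6144) (Steps.bwd (nat_lit 5) (Steps.fwd (nat_lit 3072) (Steps.fwd (nat_lit 5120) (Steps.bwd (nat_lit 6) (Steps.fwd (nat_lit 9216) (Steps.bwd (nat_lit 5) (Steps.bwd (nat_lit 5) (Steps.bwd (nat_lit 3) (Steps.fwd (nat_lit 1024) (Steps.fwd (nat_lit 2048) (Steps.fwd (nat_lit 3072) Steps.nil)))))))))))))))))))))))))))))))))))))))) (nat_lit 57) (nat_lit 4),
  Rule.mk (nat_lit 1) (nat_lit 45) (Steps.fwd (nat_lit 10240) (Steps.fwd (nat_lit 10240) (Steps.fwd (nat_lit 2048) Steps.nil))) (nat_lit 38) (nat_lit 0),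
  Rule.mk (nat_lit 9) (nat_lit 213) (Steps.bwd (nat_lit 6) (Steps.fwd (nat_lit 9216) (Steps.bwd (nat_lit 5) (Steps.bwd (nat_lit 9) (Steps.fwd (nat_lit 5120) (Steps.bwd (nat_lit 10) (Steps.fwd (nat_lit 6144) (Steps.bwd (nat_lit 9) (Steps.fwd (nat_lit 1024) (Steps.fwd (nat_lit 2048) (Steps.fwd (nat_lit 5120) (Steps.fwd (nat_lit 9216) (Steps.bwd (nat_lit 5) (Steps.bwd (nat_lit 9) (Steps.bwd (nat_lit 6) (Steps.fwd (nat_lit 9216) (Steps.fwd (nat_lit 6144) Steps.nil))))))))))))))))) (nat_lit 54) (nat_lit 10),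
  Rule.mk (nat_lit 5) (nat_lit 93) (Steps.fwd (nat_lit 2048) (Steps.fwd (nat_lit 1024) (Steps.bwd (nat_lit 9) (Steps.fwd (nat_lit 6144) (Steps.fwd (nat_lit 10240) (Steps.fwd (nat_lit 6144) (Steps.bwd (nat_lit 9) Steps.nil))))))) (nat_lit 53) (nat_lit 6),
  Rule.mk (nat_lit 3) (nat_lit 117) (Steps.fwd (nat_lit 4096) (Steps.bwd (nat_lit 10) (Steps.bwd (nat_lit 3) (Steps.fwd (nat_lit 10240) (Steps.fwd (nat_lit 3072) (Steps.fwd (nat_lit 4096) (Steps.bwd (nat_lit 10) (Steps.fwd (nat_lit 3072) (Steps.bwd (nat_lit 9) Steps.nil))))))))) (nat_lit 46) (nat_lit 1),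
  Rule.mk (nat_lit 2) (nat_lit 633) (Steps.bwd (nat_lit 3) (Steps.bwd (nat_lit 4) (Steps.bwd (nat_lit 5) (Steps.fwd (nat_lit 4096) (Steps.fwd (nat_lit 2048) (Steps.bwd (nat_lit 3) (Steps.bwd (nat_lit 4) (Steps.fwd (nat_lit 3072) (Steps.fwd (nat_lit 2048) (Steps.bwd (nat_lit 3) (Steps.bwd (nat_lit 6) (Steps.bwd (nat_lit 4) (Steps.fwd (nat_lit 3072) (Steps.fwd (nat_lit 2048) (Steps.bwd (nat_lit 3) (Steps.fwd (nat_lit 4096) (Steps.fwd (nat_lit 6144) (Steps.fwd (nat_lit 4096) (Steps.fwd (nat_lit 6144) (Steps.fwd (nat_lit 4096) (Steps.fwd (nat_lit 3072) (Steps.fwd (nat_lit 2048) (Steps.bwd (nat_lit 3) (Steps.bwd (nat_lit 4) (Steps.fwd (nat_lit 6144) (Steps.fwd (nat_lit 4096) (Steps.bwd (nat_lit 3) (Steps.fwd (nat_lit 2048) (Steps.fwd (nat_lit 3072) (Steps.bwd (nat_lit 4) (Steps.bwd (nat_lit 6) (Steps.bwd (nat_lit 6) (Steps.fwd (nat_lit 5120) (Steps.bwd (nat_lit 4) (Steps.bwd (nat_lit 3) (Steps.fwd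 (nat_lit 2048) (Steps.fwd (nat_lit 3072) (Steps.fwd (nat_lit 4096) (Steps.bwd (nat_lit 6) (Steps.fwd (nat_lit 4096) (Steps.fwd (nat_lit 3072) (Steps.fwd (nat_lit 2048) (Steps.bwd (nat_lit 3) (Steps.bwd (nat_lit 4) (Steps.fwd (nat_lit 6144) (Steps.bwd (nat_lit 5) (Steps.fwd (nat_lit 2048) (Steps.fwd (nat_lit 3072) (Steps.bwd (nat_lit 4) (Steps.fwd (nat_lit 5120) (Steps.fwd (nat_lit 4096) (Steps.fwd (nat_lit 3072) Steps.nil)))))))))))))))))))))))))))))))))))))))))))))))))))) (nat_lit 58) (nat_lit 7),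
  Rule.mk (nat_lit 4) (nat_lit 69) (Steps.bwd (nat_lit 3) (Steps.bwd (nat_lit 4) (Steps.fwd (nat_lit 3072) (Steps.bwd (nat_lit 4) (Steps.fwd (nat_lit 3072) Steps.nil))))) (nat_lit 14) (nat_lit 0),
  Rule.mk (nat_lit 2) (nat_lit 489) (Steps.fwd (nat_lit 3072) (Steps.fwd (nat_lit 4096) (Steps.bwd (nat_lit 6) (Steps.fwd (nat_lit 3072) (Steps.fwd (nat_lit 2048) (Steps.fwd (nat_lit 3072) (Steps.fwd (nat_lit 2048) (Steps.fwd (nat_lit 1024) (Steps.fwd (nat_lit 3072) (Steps.fwd (nat_lit 5120) (Steps.bwd (nat_lit 6) (Steps.bwd (nat_lit 9) (Steps.bwd (nat_lit 5) (Steps.bwd (nat_lit 5) (Steps.fwd (nat_lit 3072) (Steps.fwd (nat_lit 5120) (Steps.bwd (nat_lit 6) (Steps.bwd (nat_lit 9) (Steps.fwd (nat_lit 6144) (Steps.fwd (nat_lit 6144) (Steps.fwd (nat_lit 3072) (Steps.bwd (nat_lit 6) (Steps.bwd (nat_lit 6) (Steps.fwd (nat_lit 10240) (Steps.fwd (nat_lit 6144) (Steps.bwd (nat_lit 5) (Steps.bwd (nat_lit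 3) (Steps.fwd (nat_lit 5120) (Steps.fwd (nat_lit 5120) (Steps.bwd (nat_lit 9) (Steps.fwd (nat_lit 4096) (Steps.fwd (nat_lit 3072) (Steps.fwd (nat_lit 2048) (Steps.bwd (nat_lit 3) (Steps.bwd (nat_lit 4) (Steps.fwd (nat_lit 6144) (Steps.bwd (nat_lit 5) (Steps.fwd (nat_lit 6144) (Steps.bwd (nat_lit 4) (Steps.bwd (nat_lit 3) Steps.nil)))))))))))))))))))))))))))))))))))))))) (nat_lit 56) (nat_lit 37),
  Rule.mk (nat_lit 7) (nat_lit 45) (Steps.fwd (nat_lit 4096) (Steps.bwd (nat_lit 8) (Steps.bwd (nat_lit 4) Steps.nil))) (nat_lit 34) (nat_lit 3),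
  Rule.mk (nat_lit 9) (nat_lit 45) (Steps.bwd (nat_lit 4) (Steps.bwd (nat_lit 10) (Steps.bwd (nat_lit 4) Steps.nil))) (nat_lit 44) (nat_lit 3),
  Rule.mk (nat_lit 6) (nat_lit 105) (Steps.bwd (nat_lit 4) (Steps.bwd (nat_lit 6) (Steps.fwd (nat_lit 5120) (Steps.bwd (nat_lit 4) (Steps.fwd (nat_lit 6144) (Steps.bwd (nat_lit 5) (Steps.fwd (nat_lit 6144) (Steps.bwd (nat_lit 4) Steps.nil)))))))) (nat_lit 24) (nat_lit 2),
  Rule.mk (nat_lit 6) (nat_lit 45) (Steps.fwd (nat_lit 3072) (Steps.bwd (nat_lit 6) (Steps.fwd (nat_lit 3072) Steps.nil))) (nat_lit 23) (nat_lit 0),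
  Rule.mk (nat_lit 6) (nat_lit 81) (Steps.bwd (nat_lit 6) (Steps.bwd (nat_lit 6) (Steps.bwd (nat_lit 6) (Steps.fwd (nat_lit 5120) (Steps.fwd (nat_lit 5120) (Steps.bwd (nat_lit 6) Steps.nil)))))) (nat_lit 17) (nat_lit 0),
  Rule.mk (nat_lit 8) (nat_lit 57) (Steps.bwd (nat_lit 6) (Steps.bwd (nat_lit 7) (Steps.bwd (nat_lit 5) (Steps.fwd (nat_lit 6144) Steps.nil)))) (nat_lit 37) (nat_lit 3),
  Rule.mk (nat_lit 4) (nat_lit 105) (Steps.bwd (nat_lit 6) (Steps.fwd (nat_lit 5120) (Steps.bwd (nat_lit 4) (Steps.fwd (nat_lit 6144) (Steps.bwd (nat_lit 5) (Steps.fwd (nat_lit 6144) (Steps.fwd (nat_lit 4096) (Steps.bwd (nat_lit 6) Steps.nil)))))))) (nat_lit 24) (nat_lit 3),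
  Rule.mk (nat_lit 10) (nat_lit 117) (Steps.bwd (nat_lit 3) (Steps.fwd (nat_lit 10240) (Steps.fwd (nat_lit 3072) (Steps.bwd (nat_lit 4) (Steps.fwd (nat_lit 9216) (Steps.bwd (nat_lit 3) (Steps.fwd (nat_lit 10240) (Steps.fwd (nat_lit 3072) (Steps.bwd (nat_lit 4) Steps.nil))))))))) (nat_lit 46) (nat_lit 3),
  Rule.mk (nat_lit 10) (nat_lit 45) (Steps.fwd (nat_lit 4096) (Steps.fwd (nat_lit 10240) (Steps.fwd (nat_lit 4096) Steps.nil))) (nat_lit 44) (nat_lit 1),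
  Rule.mk (nat_lit 3) (nat_lit 489) (Steps.bwd (nat_lit 6) (Steps.bwd (nat_lit 6) (Steps.fwd (nat_lit 10240) (Steps.bwd (nat_lit 5) (Steps.bwd (nat_lit 5) (Steps.fwd (nat_lit 3072) (Steps.fwd (nat_lit 5120) (Steps.fwd (nat_lit 5120) (Steps.bwd (nat_lit 9) (Steps.bwd (nat_lit 4) (Steps.bwd (nat_lit 3) (Steps.fwd (nat_lit 2048) (Steps.fwd (nat_lit 3072) (Steps.fwd (nat_lit 4096) (Steps.bwd (nat_lit 5) (Steps.fwd (nat_lit 6144) (Steps.fwd (nat_lit 6144) (Steps.fwd (nat_lit 4096) (Steps.bwd (nat_lit 3) (Steps.fwd (nat_lit 2048) (Steps.fwd (nat_lit 3072) (Steps.bwd (nat_lit 4) (Steps.bwd (nat_lit 6) (Steps.fwd (nat_lit 3072) (Steps.fwd (nat_lit 2048) (Steps.bwd (nat_lit 3) (Steps.fwd (nat_lit 2048) (Steps.fwd (nat_lit 1024) (Steps.fwd (nat_lit 3072) (Steps.bwd (nat_lit 6) (Steps.bwd (nat_lit 6) (Steps.fwd (nat_lit 10240) (Steps.fwd (nat_lit 6144) (Steps.fwd (nat_lit 6144) (Steps.fwd (nat_lit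 3072) (Steps.bwd (nat_lit 6) (Steps.fwd (nat_lit 5120) (Steps.fwd (nat_lit 10240) (Steps.bwd (nat_lit 5) (Steps.fwd (nat_lit 6144) Steps.nil)))))))))))))))))))))))))))))))))))))))) (nat_lit 56) (nat_lit 13),
  Rule.mk (nat_lit 5) (nat_lit 45) (Steps.fwd (nat_lit 3072) (Steps.fwd (nat_lit 6144) (Steps.bwd (nat_lit 3) Steps.nil))) (nat_lit 22) (nat_lit 1),
  Rule.mk (nat_lit 7) (nat_lit 45) (Steps.fwd (nat_lit 3072) (Steps.fwd (nat_lit 7168) (Steps.bwd (nat_lit 3) Steps.nil))) (nat_lit 32) (nat_lit 3),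
  Rule.mk (nat_lit 4) (nat_lit 69) (Steps.bwd (nat_lit 3) (Steps.fwd (nat_lit 4096) (Steps.fwd (nat_lit 3072) (Steps.bwd (nat_lit 4) (Steps.bwd (nat_lit 3) Steps.nil))))) (nat_lit 14) (nat_lit 0),
  Rule.mk (nat_lit 9) (nat_lit 117) (Steps.bwd (nat_lit 4) (Steps.bwd (nat_lit 3) (Steps.bwd (nat_lit 10) (Steps.bwd (nat_lit 3) (Steps.fwd (nat_lit 10240) (Steps.fwd (nat_lit 4096) (Steps.fwd (nat_lit 3072) (Steps.bwd (nat_lit 10) (Steps.bwd (nat_lit 3) Steps.nil))))))))) (nat_lit 47) (nat_lit 3),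
  Rule.mk (nat_lit 2) (nat_lit 489) (Steps.fwd (nat_lit 3072) (Steps.fwd (nat_lit 2048) (Steps.fwd (nat_lit 1024) (Steps.bwd (nat_lit 3) (Steps.bwd (nat_lit 6) (Steps.bwd (nat_lit 6) (Steps.fwd (nat_lit 10240) (Steps.bwd (nat_lit 5) (Steps.bwd (nat_lit 5) (Steps.fwd (nat_lit 3072) (Steps.fwd (nat_lit 5120) (Steps.fwd (nat_lit 5120) (Steps.bwd (nat_lit 9) (Steps.bwd (nat_lit 5) (Steps.fwd (nat_lit 6144) (Steps.fwd (nat_lit 3072) (Steps.bwd (nat_lit 6) (Steps.bwd (nat_lit 6) (Steps.fwd (nat_lit 10240) (Steps.fwd (nat_lit 6144) (Steps.fwd (nat_lit 6144) (Steps.fwd (nat_lit 3072) (Steps.bwd (nat_lit 6) (Steps.fwd (nat_lit 5120) (Steps.fwd (nat_lit 10240) (Steps.bwd (nat_lit 4) (Steps.bwd (nat_lit 3) (Steps.fwd (nat_lit 2048) (Steps.fwd (nat_lit 3072) (Steps.fwd (nat_lit 4096) (Steps.bwd (nat_lit 5) (Steps.fwd (nat_lit 6144) (Steps.fwd (nat_lit 6144) (Steps.bwd (nat_lit 4) (Steps.bwd (nat_lit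 3) (Steps.fwd (nat_lit 2048) (Steps.fwd (nat_lit 3072) (Steps.fwd (nat_lit 4096) (Steps.bwd (nat_lit 6) (Steps.bwd (nat_lit 3) Steps.nil)))))))))))))))))))))))))))))))))))))))) (nat_lit 56) (nat_lit 42)]
noncomputable def R_7 : List (Rule) := [Rule.mk (nat_lit 9) (nat_lit 117) (Steps.fwd (nat_lit 3072) (Steps.fwd (nat_lit 4096) (Steps.bwd (nat_lit 10) (Steps.bwd (nat_lit 3) (Steps.bwd (nat_lit 9) (Steps.fwd (nat_lit 3072) (Steps.bwd (nat_lit 4) (Steps.fwd (nat_lit 9216) (Steps.bwd (nat_lit 3) Steps.nil))))))))) (nat_lit 46) (nat_lit 0),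
  Rule.mk (nat_lit 3) (nat_lit 117) (Steps.bwd (nat_lit 4) (Steps.fwd (nat_lit 9216) (Steps.bwd (nat_lit 3) (Steps.fwd (nat_lit 10240) (Steps.fwd (nat_lit 3072) (Steps.fwd (nat_lit 4096) (Steps.fwd (nat_lit 9216) (Steps.bwd (nat_lit 3) (Steps.fwd (nat_lit 10240) Steps.nil))))))))) (nat_lit 46) (nat_lit 1),
  Rule.mk (nat_lit 8) (nat_lit 45) (Steps.fwd (nat_lit 3072) (Steps.fwd (nat_lit 8192) (Steps.bwd (nat_lit 3) Steps.nil))) (nat_lit 32) (nat_lit 1),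
  Rule.mk (nat_lit 9) (nat_lit 117) (Steps.bwd (nat_lit 3) (Steps.bwd (nat_lit 4) (Steps.fwd (nat_lit 9216) (Steps.bwd (nat_lit 3) (Steps.fwd (nat_lit 10240) (Steps.fwd (nat_lit 3072) (Steps.bwd (nat_lit 4) (Steps.fwd (nat_lit 9216) (Steps.bwd (nat_lit 3) Steps.nil))))))))) (nat_lit 46) (nat_lit 0),
  Rule.mk (nat_lit 10) (nat_lit 117) (Steps.bwd (nat_lit 3) (Steps.bwd (nat_lit 9) (Steps.fwd (nat_lit 4096) (Steps.bwd (nat_lit 3) (Steps.bwd (nat_lit 10) (Steps.fwd (nat_lit 3072) (Steps.fwd (nat_lit 10240) (Steps.bwd (nat_lit 4) (Steps.bwd (nat_lit 3) Steps.nil))))))))) (nat_lit 47) (nat_lit 1),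
  Rule.mk (nat_lit 2) (nat_lit 489) (Steps.fwd (nat_lit 3072) (Steps.fwd (nat_lit 2048) (Steps.fwd (nat_lit 1024) (Steps.bwd (nat_lit 3) (Steps.bwd (nat_lit 6) (Steps.bwd (nat_lit 6) (Steps.fwd (nat_lit 10240) (Steps.fwd (nat_lit 6144) (Steps.bwd (nat_lit 5) (Steps.fwd (nat_lit 3072) (Steps.fwd (nat_lit 5120) (Steps.fwd (nat_lit 5120) (Steps.bwd (nat_lit 9) (Steps.fwd (nat_lit 6144) (Steps.fwd (nat_lit 6144) (Steps.bwd (nat_lit 3) (Steps.fwd (nat_lit 5120) (Steps.bwd (nat_lit 6) (Steps.fwd (nat_lit 10240) (Steps.fwd (nat_lit 6144) (Steps.fwd (nat_lit 6144) (Steps.fwd (nat_lit 3072) (Steps.fwd (nat_lit 5120) (Steps.bwd (nat_lit 6) (Steps.fwd (nat_lit 10240) (Steps.fwd (nat_lit 4096) (Steps.fwd (nat_lit 3072) (Steps.fwd (nat_lit 2048) (Steps.bwd (nat_lit 3) (Steps.bwd (nat_lit 4) (Steps.bwd (nat_lit 5) (Steps.fwd (nat_lit 6144) (Steps.fwd (nat_lit 6144) (Steps.fwd (nat_lit 4096) (Steps.fwd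 (nat_lit 3072) (Steps.fwd (nat_lit 2048) (Steps.bwd (nat_lit 3) (Steps.bwd (nat_lit 4) (Steps.bwd (nat_lit 6) (Steps.bwd (nat_lit 3) Steps.nil)))))))))))))))))))))))))))))))))))))))) (nat_lit 56) (nat_lit 42),
  Rule.mk (nat_lit 1) (nat_lit 489) (Steps.fwd (nat_lit 2048) (Steps.fwd (nat_lit 3072) (Steps.fwd (nat_lit 2048) (Steps.bwd (nat_lit 3) (Steps.bwd (nat_lit 5) (Steps.bwd (nat_lit 4) (Steps.bwd (nat_lit 3) (Steps.fwd (nat_lit 2048) (Steps.fwd (nat_lit 3072) (Steps.fwd (nat_lit 4096) (Steps.fwd (nat_lit 5120) (Steps.bwd (nat_lit 6) (Steps.bwd (nat_lit 6) (Steps.fwd (nat_lit 4096) (Steps.bwd (nat_lit 3) (Steps.fwd (nat_lit 2048) (Steps.fwd (nat_lit 3072) (Steps.bwd (nat_lit 4) (Steps.fwd (nat_lit 9216) (Steps.fwd (nat_lit 6144) (Steps.bwd (nat_lit 5) (Steps.fwd (nat_lit 3072) (Steps.fwd (nat_lit 5120) (Steps.fwd (nat_lit 5120) (Steps.bwd (nat_lit 10) (Steps.fwd (nat_lit 6144) (Steps.fwd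 (nat_lit 6144) (Steps.bwd (nat_lit 3) (Steps.fwd (nat_lit 5120) (Steps.bwd (nat_lit 6) (Steps.fwd (nat_lit 9216) (Steps.fwd (nat_lit 6144) (Steps.fwd (nat_lit 6144) (Steps.fwd (nat_lit 3072) (Steps.fwd (nat_lit 5120) (Steps.bwd (nat_lit 6) (Steps.fwd (nat_lit 9216) (Steps.bwd (nat_lit 5) (Steps.fwd (nat_lit 6144) (Steps.bwd (nat_lit 3) Steps.nil)))))))))))))))))))))))))))))))))))))))) (nat_lit 57) (nat_lit 1),
  Rule.mk (nat_lit 6) (nat_lit 93) (Steps.bwd (nat_lit 10) (Steps.fwd (nat_lit 5120) (Steps.bwd (nat_lit 10) (Steps.fwd (nat_lit 1024) (Steps.fwd (nat_lit 2048) (Steps.bwd (nat_lit 6) (Steps.fwd (nat_lit 9216) Steps.nil))))))) (nat_lit 52) (nat_lit 5),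
  Rule.mk (nat_lit 6) (nat_lit 57) (Steps.bwd (nat_lit 8) (Steps.bwd (nat_lit 5) (Steps.fwd (nat_lit 8192) (Steps.bwd (nat_lit 6) Steps.nil)))) (nat_lit 36) (nat_lit 0),
  Rule.mk (nat_lit 7) (nat_lit 57) (Steps.bwd (nat_lit 5) (Steps.fwd (nat_lit 6144) (Steps.fwd (nat_lit 7168) (Steps.bwd (nat_lit 6) Steps.nil)))) (nat_lit 37) (nat_lit 0),
  Rule.mk (nat_lit 4) (nat_lit 105) (Steps.fwd (nat_lit 6144) (Steps.fwd (nat_lit 6144) (Steps.bwd (nat_lit 5) (Steps.bwd (nat_lit 4) (Steps.bwd (nat_lit 6) (Steps.bwd (nat_lit 4) (Steps.bwd (nat_lit 6) (Steps.bwd (nat_lit 6) Steps.nil)))))))) (nat_lit 24) (nat_lit 8),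
  Rule.mk (nat_lit 9) (nat_lit 141) (Steps.fwd (nat_lit 6144) (Steps.bwd (nat_lit 5) (Steps.fwd (nat_lit 4096) (Steps.fwd (nat_lit 5120) (Steps.fwd (nat_lit 5120) (Steps.bwd (nat_lit 10) (Steps.fwd (nat_lit 6144) (Steps.fwd (nat_lit 6144) (Steps.bwd (nat_lit 4) (Steps.bwd (nat_lit 6) (Steps.bwd (nat_lit 6) Steps.nil))))))))))) (nat_lit 50) (nat_lit 10),
  Rule.mk (nat_lit 3) (nat_lit 489) (Steps.bwd (nat_lit 6) (Steps.bwd (nat_lit 6) (Steps.bwd (nat_lit 9) (Steps.fwd (nat_lit 4096) (Steps.bwd (nat_lit 3) (Steps.fwd (nat_lit 2048) (Steps.fwd (nat_lit 3072) (Steps.bwd (nat_lit 4) (Steps.bwd (nat_lit 5) (Steps.fwd (nat_lit 6144) (Steps.bwd (nat_lit 5) (Steps.bwd (nat_lit 4) (Steps.bwd (nat_lit 3) (Steps.fwd (nat_lit 2048) (Steps.fwd (nat_lit 3072) (Steps.fwd (nat_lit 4096) (Steps.fwd (nat_lit 5120) (Steps.bwd (nat_lit 3) (Steps.fwd (nat_lit 2048) (Steps.fwd (nat_lit 3072) (Steps.fwd (nat_lit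 2048) (Steps.fwd (nat_lit 1024) (Steps.bwd (nat_lit 3) (Steps.bwd (nat_lit 6) (Steps.fwd (nat_lit 5120) (Steps.bwd (nat_lit 9) (Steps.bwd (nat_lit 5) (Steps.fwd (nat_lit 6144) (Steps.bwd (nat_lit 3) (Steps.bwd (nat_lit 6) (Steps.bwd (nat_lit 6) (Steps.bwd (nat_lit 9) (Steps.fwd (nat_lit 6144) (Steps.fwd (nat_lit 6144) (Steps.fwd (nat_lit 3072) (Steps.fwd (nat_lit 5120) (Steps.bwd (nat_lit 6) (Steps.bwd (nat_lit 9) (Steps.fwd (nat_lit 6144) (Steps.fwd (nat_lit 6144) Steps.nil)))))))))))))))))))))))))))))))))))))))) (nat_lit 56) (nat_lit 19)]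
noncomputable def R : List (List (Rule)) := [R_0, R_1, R_2, R_3, R_4, R_5, R_6, R_7]
def LW : List Word := [[], [0], [4], [6], [8], [10], [11], [12], [13], [14], [15], [0], [1], [4], [5], [6], [7], [8], [9], [10], [11], [12], [13]]
def par : Par := ⟨10, 5, 15, 25, 1023, 32767, 33554431⟩
theorem hpar : par.ok := by decide
theorem hR0_0 : lall (R) (fun l => lall l (ruleOK RA LW par)) = true := by decide +kernel
theorem hR0 : lall (R) (fun l => lall l (ruleOK RA LW par)) = true := hR0_0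
theorem hR : RulesOK RA LW par R := rulesOK_of rfl hR0
def cols : List (ℕ × ℕ) := [(1024, 1), (2048, 2), (3072, 3), (4096, 4), (5120, 6), (7168, 8), (9216, 10)]
theorem hcols : lall cols (colOK RA LW par) = true := by decide +kernel
noncomputable def JS0 : List ℕ := [nat_lit 0x30160060f00100a001074004048004380000121b27d0022720d13880013886400c04c0549f00149f004c00c300040240260241700100f0010400000780001c9dc9e09e40580640689e403c0309cc9c89c49c09bc9b89b49b02c016000016150000030000a13a80693a93804c9bc01c9bc244dc00a4dc1126d27227301001001101001027327226d0800100000103c9b40009b41c4da00e4da0d26b26c26f00d00e26f26c26b26a0600000093602c9ac0049ac140020004d4090010040010400000200001c9a40180240280109a099c0c006008006050020050020200080300080c0000180000400a0084c801,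
  nat_lit 0x2a22a028c1a94a004000034a440000106c0025245223528f29029129929e03a03c03c03e04003f03e03f03e03c03d03e03f03e03d03c03c03c03d03e03f03e03d29f29e29929129028f28e28d28c28b28a2891a14b0000c004c014a50665240082a0080071900d0030c4060014565180083000c00328d1780100b8010a4004048004500000240002728800700f171428030b4030014580260082b015003150010080010a4004044004500000220002727f00000601100e1313e80800e94200a00a8000940109f0020480060140062300200b00211000805800884000020400000064fa1f,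
  nat_lit 0x2bf2a800027800000800138004aa4a989a0000240004c2a72bc05a05e05a0572bc2a42a325800155000155000155000155128aa0000aa89255400054c4801b2aa00323954001154044a8c000a8c8a030004030022a60012a62315300015311403c01803c3801e00a01e0729900029922001020001014ab0000ab080558006558432ab0022962114b80094b904a54000a548052652400252452655208a5523f0002912922a80442a82922911f1481489538220219539489480f4a90a94a447852006e5203b28f2a403f2a428f1d00101794c0e400402800c7000053c52c37,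
  nat_lit 0x2a30012a32015282a15295215180095195215c000a88a8ca9014ca90a8ca887c5425445460a60a45465445423d2750002752700001800001cb14b681d81cc134138a80a7ca78a74a70a6ca68a64a60a5ca58a54a50a4ca48a44a40a3ca38a34a30a2ca28a24a20a1ca18a14a10a0ca08a04a009fc9f89f49f09ec9e89e49e09dc9d89d49d09ccac56856600056656856a00256a3f2b22b32b40040002b42b32b21e95a00015a150ad0000ad0aa568000568552b40062b42a958000158100ac0000ac082560000560412b00002b020958000158100004ac0ac4ac800cac8ac4ac07c55c00055c542ae2af2b00000012b02af2ae1e958001158100abc000abca855e04255e122ae01f2ae0894780014790400003c0004256400051851a5300102402729000008800008080ab8b0817c178b08ab0aacaa0a9ca98a94a90a8ca88a84a80a7ca78a74a70a6ca68a64a60a5ca58a54a50a4ca48a44a40a3ca38a34a30a2ca28a24a200400057e50,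
  nat_lit 0x28c0002e33217180014618ca30000b8cc45c60985c65186126d00026d22935800935914004018a38c000008a000022ec05605708c08d05728f00928728628528428328228128027f27e27d27c27b27a27927827727627527427327227127026f26e26d26c26b26a2692682f945000145100a28000a288600002a0001c2ba0662892202a8381440e4ae0194a1cb05e211450c5e0000040002614382704294214194114094013f974a10000b85a65ac0005065b2d62d82832d14181f941900a081241d4124a08b20960b455e380490522ae2c1531528001529531538009538fca90a94a9800c000a98a94a907a54c00054c542a60002a609153002953150a8c000a8c8054600054611,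
  nat_lit 0x260000260270008198008080000b80b4e056a4bc4ba6f00200100037000001000130970abcc6c1e496c96896496095cda55855a4b63c25a02225a2012c95605095612c8e8a10018bfcd85060085b2582d70002813114080096b98ca98070a04845ac0385006b2d501d27f3517c80e93f1a49d89dc9e000c0009e09dc9d87a4f00004f0542780002780913c00293c1509d40009d4804ea0004ea112750002752000093a93b14e04f14e13b13a8f89d4a6c274a6c9d49d00009d0d04e64e853413853401e4e84e66729c06309930609d08e29927327227127026f26e26d26c26b26a26926826726626526426326226126025f25e25d25c25b25a25925825725625525425325225125024f24e24d24c24b24a24924824733171800146145994a30000b8cc45c600051863,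
  nat_lit 0x28204c22e3111600011601c0001840000e5ac0c46506521366624564547f22b00022b2600000d00001c060134c90240ce48a88a4fc00011866e7d3223232293e12a00017d9b0bec134950f606c0007a2500013193b80001a86c10c00093cf200001a01e7807a0770000080012699080493023c26c23c93092c00092cd049449611c13411c0f44964946721e00021e2700000900001c9b0afc30427425025822c92091c91891491090c9089049008fc8f88f48f08ec8e88e48e08dc8d88d48d08cc8c88c48c08bc8b88b48b08ac8a88a48a089c89889489088c88888488087c878874870ac4ca0f04ca770000600003b1230010021771d4004008c4cc50a6000008000452653100322b90bc0bb2b929329200d26025f25e25d25c25b25a25925825725625525425325225125024f24e24d24c24b24a2492482472462452442433a0430401321cc17c1f898ce45700ea4c471,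
  nat_lit 0x2f304d23a4295096711c9408e015c8e08050c50a5085065045025004fe4fc4fa4f807053c6920d65e41a018e6aa1a01ec6ba16668e68c16a68c09a46e46c46a46846646446246045e45c45a458842400002402611f00011f01c8f00008f004474000474452380002382611b00011b01c8d00008d004464000464452300002302611700091701c0040b4a4c2c08f801c019060000560000202b02e06333a0a633823523423323223123022f22e22d22c22b4100004a844888cfc0008e48e0c2002110128812370003132404411b80011c8d40008d40e46600046607231000231271178001179148b40008b48a4560024564c00106909e0690b80003380001c19ccb4cb82808b88b48b08ac8a88a48a10045e14617614645e59,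
  nat_lit 0x10040013b00200026086000400c86d2e0000020004521926c21b2182172164b00001f0000849a842c9a885c2642e19442e4126810b2164a97417383e000250000854324198b94200c29260000304b2922590b321348909062909104c283389007647e17e47e4023c0004811e9b207f1b211e91e23c8500010e4284260004268e21100021146907800107a3000016c000aa4180005a28b2d100020a451040001688dcb44b48b4c1400b8a08a040011240a00054209c09e05a5025007f2a034d34e3500c223223123022f22e22d22c22b22a22922822722622522422322222122021f21e21d21c21b21a21921821721621521421321221121020f20e20d20c20b20a2092082072062052044411c800a1c8e4000b847247400400209200247447247086,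
  nat_lit 0x22700116912000aa89fc000891524fe000002444a800101227f5380000900011404c9fc3643b0e64e18b6c1d489c89889489088c88888488087d4c04602645aa501501322c5211500011501c8a00008a00e44c00044c4e224000224229110001111148800088809800445e24245ea300101722d5100000a80001c8b0e308b48a888888488087c878874871420000260004e22a38a22b2282272232222215000003c17d27c04c0008893c0040280260a00102b00126000009009a749ac3143603641d887c879380060009b21f0042210074d10f00110f1140280300013200800443843a53,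
  nat_lit 0x1f30020051f54b80080112d2c80000080008a3e40084b605c3e23e0b10011f2036580000008000840045280047bd5e0002140004514b2571ee458f707c8f71049503d07b522434062434402990f539b0f325325021921821721621521421321221121020f20e20d20c20b20a2092082072062052042032022012001ff1fe1fd1fc1fb1fa1f91f81f71f61f51f41f31f21f11f01ef1ee1ed1ec5712501991b9dc8d81d48d880430000482ad23f0012165680080f8008080008f006ce003c4962801fe1d87281d628053a46246045e45c45a45845645445245044e44c44a44844644444244043e43c43a43843643443243042e42c42a428426ac0600590005591b800143124a180040009e0000a80004623300116918000aa8a0c0008c15250600000445ca822c0002832494180100093c8a80008a88a00009000046,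
  nat_lit 0x4004505827c2740480045f0f1800138af49bc0b0001783c23c00044f24f87b64f609c05e486488bb0010560543900013782191c9d89e45b44ac460f044645b40847ec7e87e47e07dc7d87d47d07cc7c87c47c07bc7b87b47b07ac7a87a47a079c79879479078c78878478077c7787757440800040807202000202011000001001147f80007f8983f80003f8071fa0001fa010fc0000fc1147d80007d8983e80003e807000020000208f880000382012e81e0102e401c81443047c49c3cc7e87e47e07dc7d87d47d07cc7c87c47c17000008e464b726b3ca26a03d2001fb1fa1f95b00e81c8019e07ec0007ec983f20003f20700101000126000008026ad47f441045c2307e07dc7d9680660007a0060031f80355781f0030012cc004018004ec00c00098,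
  nat_lit 0x1c90012a03b8e4800150328260c643200019c38c38a3880026727c6718716cd0000d20001c36619b9f21f29fd8cb0cc8cd8cd8ce8cd8cd9ff1fe9fc1f81f79f71f69f61f59f51f49f40af1f71f79f80c48c41f80e78070e48e40e38e30e28e20e18e132c0003802e448716000394ca1c8000389649c38000e303c00c20c419900045865c24d001082001260000410022d4b00f9cfb85503e471070c7087058e5740022a2ba000631be1be80100095d15cb1400001c000800f8576382c41bf0002e05b9840008df30c0002e036172136002c212409c000008000dd9698046e8f6c5ccf6c6e86e40006e4d03703727b42e62e47b43723703d0570521e66080001602b30086448cf24480a0014c79078c78878478077c77877477076c76876476075c75875475074c74874474073c73873473072c72872472071c71871471070c7087047006fc6f86f46f06ec6e86e46e06dd7e40404e40440,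
  nat_lit 0x2c10006a05d97b800160b7cbdcbe0e30e2c055bc5a4000303bb0002d06e1dc80016734cedc000b31b876a000594dd3b30002c86d1d8800163374ebc000b11b8274000584db16f0012c06c15e800b50c0c000af5b41b07f469a698000576d92b9001631ba8008a8d24008ad9b06f00066e8d23740022e1a380204e35c01c011ac6ea00613ed52ab0026a0018010ac3bc004aada66e4000552d20ee0cc0d01d2000689538000e8340738000a9594546002398cf,
  nat_lit 0x20c0086a0a680480d3bd0a8020068009dc85000e01ad243c0063a66ea0f80300ab60e780180f1da78c00a024e5124005123760178020163ace8c00d8c83e00873cda135005037007750020fd0031cc3a446c018e795273800a874190040237400f00221c0c00107d9ce3ec006c601c0030306a9b38011cb398e50004d95ca054002050e40c10000c371803061862061803163b88be4000e2c6c02a71e002352f90021817b800b84088009ac1720025ece0,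
  nat_lit 0x1578a258038b900a3e80145bc04d101f27e8024f712201219f7c1468088a8d2c041ee3980201e6db45a01043e71a2b807a2036002404003cee1ec7da02063ad20110630083227919200818f3607100044f9e839c000092eb00000e788f400389c006bd403005c03103de47760165c15800c029758d38060a5bd10b402cf85e634801606ad81e100b0e16d8f100500ab5c02c06002cea5e441e0145c00031700a05274802003bc4c50020145e0806010256ed,
  nat_lit 0x3c201943a0a00c170058fb405d0f6061280346d3002500197ba3680c8a5408e60061ee03603290203019459690dd00d3f8c50064ab602366030f71e801a38e690e300da2dc01170069ee0100180347a4ff18501a3377283e00d0b4cf00658c0f2000fe0000187880b19c80403e80bbf40543e4058ce9f885e02c85ad81ca016027740001fe00b80cbd9098000fedf602a02cf122f0177b8a08010b46f80041ddd837c00025ee4,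
  nat_lit 0x15202215a330109c53bc52c0803c55214e03e8715001e480ff00faa85d80785691403a90cd51df01c7ba4c80f23bb9c33c07c5a21003c164dc0dd01d4822c80f1d63951e8078646ec03a661051cf01c480f880e9f7b94d50075206bc0425c02035d02135b7b00f9ad81041113c081ee048040f71750200028000300f9b0b4906807dfc1f203caa18f01d188c780e35863c06c5431e034e1,
  nat_lit 0x45201a3fd6c0d100ca409200691eda42e003af734901d191cb00e1a3b9c43806dee3e603e2d5084a801e4a66a8fe80ea409400786c9e849c03a928e728901e2e06780ebdc09c078f2a0e25603e2c12e01e6b1a700e8c0d28071c21f00361c0dc2e201a6a09b00ca40890069025a4074038296d202201f1909800f19fb8c46c0752028803a3150614401c48011812230b9518408dee71a04632,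
  nat_lit 0x26a01346669129809a5e34894804cfd1a44d802a874d24a30154047788000b2a8db4054b75aa1f0028e10fc0137b89b8098c84e4049ee8260283226d0154907189500b8c860c061ac77402e871800167b8d400b3592f4054b8424028f72650154537391f00aa54b9d24005cf85d01f60362c2f501a8511580e212b9c090070fbe1227c03afe12a01c0e7721d300d8943544e0069ee34c036fe,
  nat_lit 0x800094837280680726cb95364035ee9fe01a820e34f100d45674262806a1039ce28034d86026c20185c14600b7b943006a5834814c0351ea0e41601a3106f00c159050058a81bc02a1496e0125c0080650084cb81944004201b8c1c40211260e96c010826e837d00810e6b97800397042c019209cc00e946e306800746d74261803a56bec96401cfedc69b400e882e54ac00740b779ba804173b5440801dee9c6018938e3,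
  nat_lit 0x4f50040a085955002216b48ae40111cda4a340089a2e728000449b71947002278b8c9e40110a5caa360088dee72a70044cd6928a00224bb8ca000113b5c613600884b0729f00446b69284004a64ba144c02524e124f00129d30926f00942174286004a33b9d0c4025542be012aa1400081609d803b8456c019ee11800e9810729200748a6913d803a70348a44021061a45280108bcd24cf008428739c90041b4c0454401d209ec012972e5,
  nat_lit 0x2050068523f802a1c0108740104e19400888f072d700448d6914d002275b952d401154a1600a1ab0053800544372a9b802a44ba02f001539e0e08200a962e750800a1828f804a83404b340350f9a417c01a9090728f00d4e274291006a5640429c035fc1080182d03700b160538053580dc0246014e0109fb050a70074385380335001420c0145000847a0082752600443173a9180223bb94ab4011355a450600893ee8,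
  nat_lit 0x3800350a740280018c8b4400d18dce5d0006952d22e600350769294001a3eaa4b9000d181a457000694ce52f100350473a9280223c2a4bbc015175ce1b600a947072ef005501691158040ad48401d1c9b000c45000c272eb00745869157003a4f3a154001d3f1ce3f80163208f00a1683d8048b14680211a5aa00e44600e2754800a451742a480524bb8cb440293d5a41c20163248500a168540048b087c021aca2400e438d5,
  nat_lit 0x59002479838250010b0b8d5a4005475a40aa0028eee810900151c83982800a3b3495e800546dca0a20028eae531300151a69028000a3a41d5d8009465d009a0048e6e84b90027b88000128bc1cb940091c5c696e00696ad857000351572971801a37b489a400c54968004960d73050025127183c8012363952c8008996185e6004a20d206900246a83a7f8012583480f8009439ca0e60048d0e80ea0024ae8381e00128641cb5800d199a4580006958e8,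
  nat_lit 0x278a2e800802000c400000100004e8b40081566221560090f48a0a6003870390370011dc00426c004a800057e00040454000630360002293541b4005141b80064d00062727c00444d6c297002bdc99c0185490e00a906d700426400413875002223c3494002214a5200ea4ed80062af00613a410039304309c801d105b076a00efe243006189560028a890c01214a44006a3cd70022a80021382d00123db481640090e1aea3e00454d0c,
  nat_lit 0x12c60013b16200045820c320001845860025880152c00052c469c68001c6a300000080022a37c4f2003144a50004a50913aa52ad58a40948958948a418aad184104714f88914f8470412d11890ae1892d12d1aa782427f27e82127ea7f0241660031662a798b1a61a12dc9a92db8a22db9a92dc9a118b09e98aad5a5293ac4c3800085a52e006aa074002632a1800a793a0a4c001ee58200058a527121210007b96200023a3615180011c9aeb320008e0a907700046e6d840003a3636d1a80190e8d000e5c0064660018200000400009c010019e2010004310080016b005000231b98000005e28c00008bc00311,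
  nat_lit 0x44100044120000220a21221800a21a212208f91011051088a00011091051007a8840008845447700147746a3a80023a9549680089683a8ec0028ec1245c00045c2a263000a63028a6800131412128002128555a40015a4092d20002d202168c2356f97444884312d43e80280112c40092bc3f92b42142223c01200696000295c1fa958108b44118b7aba02422169681f24ef1d27a4ae0008e1138010c88a4005ee008004324ab0014546a91380024000001401000636952004fe227001552540000c00094dc8b43b129e34002010002220002c800010a9980229ea9e464330b2400e3000400a00517,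
  nat_lit 0x47c00047c2a23e00023e1551f00011f0aa8f80008f85547c00747c2a23b80023b9011dc0011dc828ee0008ee4147700047720a3b800a3b9011e11dc0051dd1e11e40751e47e0008ec8ee8f00388f08ee8ec3e47547647724101b4774764751e93800b9384549d00589bc0289000089054448000448092240002240491200011202489000c890544430004432022180022184510c00110c228860008861144300044320000221a22222800a22a222218f910910d11000c00111110d1087a88800088854444000444092220022221511040011048088200088211,
  nat_lit 0x5070005074680000080004941025c2511240089140064e88e00288f1524300044600a2300022304800000c0022a11e128005140910010912a841ad9800ad9841ad9800ad9c996cc0016cd1810c0b810c8d58e05429d4f730ac4ac52c5ac62c682808fb031ba9bbb081d49d630a9b91b38cc9b91d41b92ffaff1b70dc1b72ff2ff9b8b03a8096882d968a8082aac1ac22c2ac32c3c9562c13562c0eb14096b14080002775820789a8032c2c9000161d6186eb0e004829231543540003880086808b8b7afe0a99a9c8904047800242b06b0408225e9389372057f5800408fa7201b2721540040011f4028fa0068fa5447c00147c2023ea3e000a3e23ea3f00123f0fc0011ed1f11f40051f51f11ec7c8f48f68f800a0008f88f68f43d,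
  nat_lit 0x69004192970018b43f4008600020ce0022800030000013b0480087d415824000b8c14000c12c112a0ec1690ec948579c90edc854b00014b0a81443201440823d08123d94232000a320289a000118c128c20008c2082610002612aa28800a28c54974001140028a00008a0120000010008aa2792c00045113c00113caa89e00289f1525300044e00a270002270480000040022a89a49c0011444d00644d2aa85801285a34000264260f0a0e5b600314,
  nat_lit 0x4ee1522d02784d8002600200182426a0a0002a773400162500a998000c426d8884180054e66403403c000a253700162501962962898a9b000002b10cc03d98840300240014cd4d25e30200afe530004168830020c841000c5a01e004312fd0011830c80029536d85d858000bee5c2140241f32d6160006160380030a0bd30a00030a0bd30a4b185000185024c28002c281200300f0039480103a0010740043f0004380001f3160f70020e4398008c4000c5c000bc0000ecc1c0041fc5dd2b,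
  nat_lit 0x48129b1cb2225e00021d2f12ec0012ed1c9720009728d0000980000ea6e00025b4e12d00013726c9b8000965374b01ae4dc9b00080024580522c00922ca89140009144000048a48b48c00148c48b48a1f244a45245802800245a452448f522c00122ca89160009165548b00048b2aa4580024595522c01d22ca890c00090c4048600048620a430002431052180012188290c00290c404874860014864874880024881f800242a43243800a43a432428f9211215218a100012192152107a90c00090c5449900049904152800152954a70004a704492a00092a55,
  nat_lit 0x40034ea2fa0034b8d686e22f22ea2e22db1d8d8fed17a1c45c7fa8bab7000001000001000001000001a380022db46b463458e6345b460ffb47347b4834c34ea1ca1da1da1ea1da1db4f34eb4c3481f490f3482143481fcb199d80751d83199fcb47b4722d800519168fed018fed168740008b400a8b40008b400a8b52c45a00245a2a000084319d1560cd511652a8b01ba8b05545735445720a2a22aa2b2c09faa071fbb4820f1f910c9f920f34821134410b3442111fb9fc9fea038d08ca0d0a039fe9ff9fa10c1fa1ff9fca069fba1134410b3442111fb9fa9049faa069fa904ac0a2b22aa2a51000d15800515800d15800515a4c0008aa0048aa0008aa0048ab2c4550004552a22a901a2a95514914d15087da0d06da2da410a5a3886da390a5a41064fb4850fb5065a2cfc8fd0fe8fbc84cfbcfe8fd1020fc0810fc1020fc9075a2d064fb4850fb5065a2da0c845a0d075a0c84487d15114d14a86002000c64ce00001c000a1266265a650058004f929800131a8298898600094e94d404a70004c19fa5f9690ed254253cf92140011767a8b600890b3c45d00050392281a8200022d22dced16000141274a08a0a6105e839939,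
  nat_lit 0xaf0000af0e31a80031a9058d400d8d482986002986114c4002004a7a61000a610442ac0002ac0e0120000121c0010091e10090010091e1009960038000038751bc0011bc240023780032800031f000a72368002a12a1d34690bb0004c05d25d80000e46a4690015933391821851bc41141641442942a41222641242a41641a42343a18818918843a4231be1b11be4254261be18517b6af5a054d31f4e44e3a600004d05083d644cdc5fc60c6e903d07106d03c8cd03d0610886f06bc6f10890610510490f5a8c8c5a8d0f5aa90510606f060c5e486d67952cc753893851a51a119e961e620e0074a0021030028a800881800918408404000028ce0008ca00e41a81482036e1fd490030f1002a431c800a3283cab4000f48c4000c6c05634000460650018021d98680080108ca680028c2d264d,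
  nat_lit 0x6526510001d49701600003fd481fd95802ea49d6002324e8001152a200027436c7815a800139aa29c80005c5670024e2698520038c941c0185a39200c9bcd323d008191858038b40800185838800a2b30100418323001a7faa427c00c0460403a004314d30011505e00017e380bec06121120c06aa099e00099e124cf0104cf0931f00031f2358f00118f11ac70000c701263800063809057b1c00011d8dc0098dc8cc6c15a00247,
  nat_lit 0x691003190a40012a9b1c005a39d0140004972e8229009304762650043504a80212de120a600e2c4b60062e09e8038c8bec0185a08e00a2c2fa0046b262801b1839800d30a12126004094f42f7001159018002603615fc7d00042809309fc9809f92f52faac006004000016b34296e012e3f2130003aaabe8708960015500044b8004aa0007de0004100b001850068001719580195d4032a6a120062d0b5003192828012a875800460ca8000a08db,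
  nat_lit 0x58a0058501e004ac7b6c0c002464060010aa030007188190030c161801560d52012008c621e0032e0010160010a00040b00044eb48002b08a958100102b828158002c0b600794601140b40bd6840095ed5f15f55f95feb646eb48b46b44b42002af4af75a02d59f00002701c51604303fac811060936b8224f385a38a0b013d6134c0090e53e008fe29c0035537d801268b9ca6c0050ed42004c60c200406a72263801b182cc01c5420461c00cd614f00543b6780283155c17c010580be006c6,
  nat_lit 0x5bc0015a1b00628010ad6e4005681d0188006d65b600259faf9388010ad67c0058cb64000b3ae85b000059daf12d8000984097240016b1b6b8e00cb54db5a80056a01d803bf80ec0195407600a3103b0046b01d801a1c90800968aba0020c60022800006e00013acf003298bbc47c014b80080c00082800306c003138218020c810400c5a0ae004315960010577782900042964c0080f6b808600cfe,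
  nat_lit 0x1cd44800090ac20000c11100081e212da00022a6d0000853771f231f0012e3820af503c367588004a0c005180007fc0004e28004601026aa980021d5c000554dde19c0022b56d000552b02b5800aa93a034400c56ad0004aa35f36b0026b2a8800b1959000153dd0ac4000a9f5e23e0000d4812ed0002af2a576800157152060000ab4d85b4001558698128008b4094001555a6048b62056ba80c403ab6eb7002a052b62047615a3001438638010ad6fc005689de18c004d6,
  nat_lit 0x115701ab706580026003018419470cc600afe15a004550ac0018b198400860b460043215b001550f40000ac3bd98c00167daa084002b3b5759b0001501f302800acd5b4195d885945a08dc91c910fecab1054b18b0d819814008018192d80020100dee7a250e7a22801a2916b0006660060c8008280295a80001401463023e5980087913122800331837bae001178100104000e201000ac8e0e017e37e37c45c07d6965d0002e03288500180332eb2e5a04f4009912ce0022120acb7000109292b332108539982cba791711d001d95491495941d549b88dc8e400ac829a0085428d253e002b0f63,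
  nat_lit 0x6500361cbc8028023f801400c5a0ba0040beeb6170016157430a8003dc659850004002f01c41c00007161105d62c18818400a0862c00e9bb8008388800f400c211821cc00400eca0012bd0018b80021c0001d80140090699d52800233a0028d00049300022b8037f839afd8370015d8004274611c2264000e3e060b200454600154b7067051c407aba8002a50c0b0e80d2ff00b014dd0160054029512e6048b5e0131802315f0080f046810003dc806c00c00a680ce0d6003673f028100000aa3800b0a02702822082802984ddc584800c0357d6e0004b4e0376f,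
  nat_lit 0x59700430b7db0e80330dba10c401819ac0aa000cc00dd63f00663d6c2170032c9d801e80205801e00ec600601500661581b2a8032e9405ed00144a1b8c7200ac6ad765200558d808388028b0028011c2c1e006bd6e53f70035cc80b4f801b173555040084a5d000400cbd0d22ff0051226c17d802b14b541940110e24000ac65c70047b96f002b84bd0014189c85ec008c44d36200034388d80288d57976c011ee0be0080caeb,
  nat_lit 0x6150005d571a130012eabbd8d40090ec4a008d467a0065d377b3c003319b8c01c0085801e0028700f00062085800001bc587400801400a20890006b9ad26c400462d71b0c80200557401c01856010012b94e55ca0087b98f804b14b8d10402984db80f8016d607c00a43af1804af0b601dc00c5828e004873130012e0012ce8002e0bf0004015e203400ac41605bf00530f003bd330802b03aa5910015ee0d600a0e108,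
  nat_lit 0x862710850027d07d12ba7ec2cb2d726dc200084937ae0c000aa81e1a0348db8132134b7e2ca004dcb821e426800107300f00c43ec08403cb8000d41c56cc00000445c270ce026825d6f058b000021361380c77f0000e7126bf06786882c5f58940118cc2c016c661400a6a0270053199b4025a8452012c3edb5ab00b1909f0050b44ec024622340102b5a6007150300033841780158c214008c130b44e004034be18680181a4040ec0098c0540043102a001058780e9800320b61d5c13010c09ef6baa00087,
  nat_lit 0x1400006136e813016015a3101eb096291a800858d68002c66b1007153c9003358aa41000190e07600a5c0f00097f0780042a81f801dacd0e00c300f00056a9860ff00381c6258a8018b80e400c320700051683c8020b010000c3a3120260042a5c5001850ae000311bec0f4bf00441af1089a34a018015cc00900c65000847001e1c000230009320040022dc4427d27c7ef2cf2db27100362fc32e32611380015c170c000b800014013cb8585,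
  nat_lit 0x1e781013682c30b3152955f55f4cd0009268008280009440009802c1c8e3e4682ca40afb4180003992042b30009b2f88001702f1f580f4060568cb12a40057c57c330be00000b5976d51f81f92f35965757ff1196a40f01170dd0de6a30ab138005cb25d12205385285309b80265600c77c76c00f28ffeffc004a2001363001090002b60000457a4000f5962d1e599c041e88458451feb267ab0385f860c67a252bd2bd1920090026b39eb860e8133800644008864d58c000213cd3005235069000008088093ce800a543ce8098088086400f80f42882680012b5b1dabb1e958094008d7221e21af32f358e7bb0cb0040036b921e7a200d66801054062bcea699f0000b8d22218000cf7536b521a79e79d02d657001000c6822360389c10a3532c2328006303143104fc0a40501559599571607e000c6,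
  nat_lit 0x80f41520ed0f40f700a60b0046fb3b13b34a76fe18b04304a13529f29e1351361357da0456e32876e30457da2566f20ef13529e1350ef0f100860bd4b7d1d803c1c294b948b9f1040ae804b056a183c0006070a000c1a3338200160b54b03800bf8df80058234ede8000c0d013a907137e29028e737201156002603604605d3075872423c24000b0169485cc480018074800cf8aab909108eb40779a300529028a300020f98ff68800c0c01234200452800403001554001010002a994953def8a42108f45670eb07f47ea0798017fd7f97f57f17ed7e97e7401a20007a0030437340d1cf8013078026780046e40041000036e0000713983813d83c83b35429d5fbce80002439782614c3020347d450605e0587b40133809c4ee0063c0022780022a000a758009000007a08093245b84c5ed093d1fb36bea000c6,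
  nat_lit 0x5000005dd00201981e25d94602aa5d81c819ee400c0c606f0600405e0f166001031001460000188001380c45ae1ac09189405412188b70eccc7800e003b7115112003000098008183163150170016d9a840a00b400426c72000c3db50067616371dc02101e865165da00287cb0eecc0103e5870fa0060d6c67b20016190036190016190036199600130c00030c00130c00030c49985c001d6d8c475806c03403003406c1912c1a852a93c5c2c8b48be0fc8d60fc8bc8b9c2d3c52a9a852c01c47598c54b14b8ad94b0ad94b1d6c00185f623acc5e0d4c2ec2db061561606b7621033d301661700723425523400761701980825680801901685d85c1618615f986116185c15d6301dd63015d85d16a21510810b23610b10821520f29d20f16a10323576206b616615d78029181928b091910bc1a0b5071eb80120e885a0d085545498b5a0061f81f45200231414a0280094900080c000c500000506a424428b450b2ad8faa550ad202ac2000ae00df2716e8e00dac22c8018000110039f0168078011e400001800b5600001e0200000121ea2a81dc1ea1f0016c18002df8764768950dfe31a08809626c4aede61e2eae20046e200eae012c180162be4085244082be016001aa,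
  nat_lit 0x189c13909cc08949169c0a0370392920540468470888501019022ae17110210290218641c131933931c1c1863c432f32e84c13f84c32e84a001803f34019b159100880944601d41d81dd371b3f9800ad88c860462270c04910c7cb00404a64b64de500188d984048f24009b042487f82e0024f4002080004ba0000393c985a1c2f42f626d31c72001c1a4189dc08ee17c8e08e61888fc9061649109061708f1dbc189c54018014204315404ae1404314210014019c59464ff5465c5801801cfac01c0038e00ca3413a9a845a9a813aa340d00c225423e75c23e2545824750bc46e4710c247a4810b04864810b6478edc0c2e2800a0080fe10600800cb347d400dc6005823576578576822108106094e28021b09b32bb9e6c108c79de849f1000d64c69a6c00459a2c5c30015150991b8000313876f0d6cd898818557a4d1093c0918c384e180b80dce1800400e01001c00fc100000600b00600000600b00696002b1700091695d916800b1731782a81101301a8130110d7bff035036c0093e93dc3b88a0c5c3c01881c3fc07bc0c895031824b17b17002805805002f000100140e8110af1ff86c5435c2b7e006014072086457be00200524cde8008028238e00018a811b78c5209e352ff00c80ceff64ee4eb0e221c30ab9279230a49830b0e22ed0ecc1d0ec2ed0e30e405605d03a4d703a05c064fe41e30262480ba086c52c51bb]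
theorem S0_c : blocks (facts 10 5 15 25 1023 32767 33554431 12 4095 9 511 A R 32) 32 JS0 868 = true := by decide +kernel
theorem S0 : On (Step.{u} RA LW par A) 868 2468 :=
  steps_of_blocks hpar hR S0_c (by decide +kernel)
theorem D0_c : allB (defOK 10 15 25 1023 33554431 863 A K) 5 2 = true := by decide +kernel
theorem D0 : On (fun r => defOK par.W par.WL par.E par.mW par.mE 863 A K r = true) 256 896 :=
  On.of_allB D0_c
noncomputable def JW0 : List ℕ := [nat_lit 0xffebfa8950cb625a8485ef126c9730e51971340b386ae5fab18dcfd13f63421597c839301c222c0f24d226d26b0a1c04431a41f09a651431c44c9828c0f60d3011838c1e89d316a27ac6089631718bcc35612b02d86cc0761c30e9822c2660bb0a8ebec2c61745058c87e389f31a5040be63731ba8db26f03791bd0dec6b75feaffc65ec004272fa90a6bf6319c4657f088c5f631b982714762c30058d8c6a8a2b0f1852c56379b1c18e481d633446a23114342e2fb98fcc7663ab1e2284c7a63e4521900c826423219910c8a,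
  nat_lit 0x189bf4e8055cfd24784e70e65370a25514a941030a4e1ca03ca05c1062988ed078802e01db24406e03e01900c019e0c806f32c41960c2062022c12809203c02040fc07c317892c036138005143131c043023b24c09803f024012848e63101e04e419451055d092015062483ec1e8a2c628260a90de46e4a52896495907b73f01f902ea7e83f52a20dca5c3078c1a005a7f45aa1718eaf12878f301905cbda3661ba4dda5ec3af1d1171c7bf5609874de2b123fc2c40d706bc2628ce499859a362449980475b199b015098bdc,
  nat_lit 0xf14a103c705d0a467905093c2d41ea550ad0570f78a8a07503941c410d72486f0aa802101380a591e02c00f00716a0b4d1858b8c6e45ca5a716f0b8a52f6600bb4b7c5c05878fcc5110698331f096a43ee2fc32b0bda5ee2f817c85b65f76643c7d57c5d256113c04f228313d0a009dc99a1378508280f2e1409358c404c206ac37006c48f26313210146bb04b0cfc4e08105ec2ef10004a1403129d010bba24e0cda1ae33886a12b0954328355c48c6587a43d32f28d064b76590cc89604b225a3298d350e30a39334b3069e,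
  nat_lit 0x73439e8180c820663b21e640b0a4227f0b6948877c3c23c98850b6631f298167951c0c707083e030a0f52af15a01a007b06eb2c01ac0d806d098c4d026a79789c49a8616052026593209d040027814024f09d366592c13c285264191a015009803c01601600c010414cca902682ac1580ae011051449a1460a59401568250027bc740ce4152e82b1025c0b20a602720f661a289020d48ae76083a708b18a40069a931cfa184510163949403408280a9c96e482c82771478a3852403bd37658a52339a8fbee780ada720b10a3a,
  nat_lit 0x26613713eb31c27a4102073bf8918f0113d9224b48a9413688f022e2601760bb85e023811a015c46cccb212107068479c8691e7a1aa7a05da0c9c67a25d4038d2c9b0958294922a24a3241a51f497a50da24f925467c48825d12f093009a86c80381ae4ae25401d80de08564701ac0e4074182899e1a02372531f197645af249924417c48e2d52a4816e9c16d4055537447e4de0521398dad07fa7248f49ca24b92140d81560ac14c95301614db27181f89c323e2711cbea1f6d506a54424805110448228109514043cfb4a26,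
  nat_lit 0x1c300e61800a401e828c147168c90cefc13a0d40b40a9608f85dc24e1510ae8828a740a2241c0881fc3822e42d2860c07070d0c3862031218a08e8048e601878dcce78a1a074089206e10c0871478a3852b1b0399dcc82d83b628582221531438c8604c3b61e014682460fa07e88987743bc1a08d3c44423383388784403ec16f83b59823511f40fa817a01005a02fc1540b805d0b705c0e281710b645cc2e809a0178826cc620a1058830d8e12289644ea25e27926604802760588c9599442020f08c4260f123cf85289f4ab2,
  nat_lit 0x117090c2d22320350f587b01200d304a035011d22e1198e4c1651be854070672c50e05882cc16a0b605643e04702d396ea06a15481916d8b702b210e88a063c22710c086847e3da731399462275050c01680a005364bb2500c806002e81500b206664a81a00c4264184b9a44c225f3be2850ab8a5381203ba04e55a5a43c18a30f091488470f28a8c]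
theorem W0_c : blocks (rows 10 5 15 25 1023 32767 33554431 13 8191 91 A 2468 120 cols 18) 18 JW0 0 = true := by decide +kernel
theorem W0 : On (Row.{u} RA LW par A 2468 120 cols) 0 126 :=
  rows_of_blocks hpar (by decide) hcols W0_c (by decide +kernel)
theorem idx : Idx.{u} RA [[0], [4], [6], [8], [10], [12], [14]] [[0], [4], [6], [8], [10], [12]] 120 :=
  idx_of_cert hpar hR (K := K) (by decide +kernel) (T := 863) (T' := 896) (by decide) D0
    (subs := [1,2,3,4,5,7]) (by decide +kernel) (T1 := 868) (by decide) (N := 2468) S0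
    (by decide) (n' := 126) (by decide) W0 (by decide +kernel) (by decide +kernel)
end T3
theorem b0 : Bound.{u} RA [[6],[8],[10]] 504 := .of_idx T0.idx (.nil _) (by decide)
theorem b1 : Bound.{u} RA [[6],[8],[10],[12]] 1512 := .of_idx T1.idx b0 (by decide)
theorem b2 : Bound.{u} RA [[0],[4],[6],[8],[10],[12]] 774144 := .of_idx T2.idx b1 (by decide)
theorem bound : Bound.{u} RA [[0],[4],[6],[8],[10],[12],[14]] 92897280 := .of_idx T3.idx b2 (by decide)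
theorem RA_eq : RA = RA0 ++ [derw] := by decide +kernel
end
end CA.ThQb
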