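import Cfsg.Agent.Lib.Spor.ThQa
import Cfsg.Agent.Lib.Spor.ThQb

/-! The action of the involution centraliser of the Thompson group on nine points. -/

set_option autoImplicit false
set_option maxRecDepth 100000

namespace CA.ThQb

open Subgroup Equiv Equiv.Perm CA.CWord CA.CTodd

theorem alt_top {n : ℕ} (E : Subgroup (alternatingGroup (Fin (n + 2))))
    (h : ∀ (i : Fin n) (c : alternatingGroup (Fin (n + 2))),
      c.1 = swap i.castSucc.castSucc i.succ.castSucc * swap i.castSucc.succ i.succ.succ → c ∈ E) : E = ⊤ := by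
  let s : Fin (n + 1) → Perm (Fin (n + 2)) := fun i => swap i.castSucc i.succ
  let E' := E.map (alternatingGroup _).subtype
  have a : ∀ i, s 0 * s i ∈ E' := fun i => by
    induction i using Fin.induction with
    | zero => simp [s]
    | succ i ih =>
      have : s i.castSucc * s i.succ ∈ E' := ⟨⟨_, by simp [s, Fin.ext_iff]⟩, h i _ rfl, rfl⟩
      simpa [s, mul_assoc] using mul_mem ih this
  have b : ∀ σ : Perm (Fin (n + 2)), σ ∈ E' ∨ s 0 * σ ∈ E' := fun σ => by
    induction (mclosure_swap_castSucc_succ (n + 1)).ge (Submonoid.mem_top σ) using Submonoid.closure_induction_left with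
    | one => exact .inl (one_mem _)
    | mul_left x hx y _ ih =>
      obtain ⟨i, rfl⟩ := hx
      rcases ih with ih | ih
      · exact .inr (by rw [← mul_assoc]; exact mul_mem (a i) ih)
      · exact .inl (by simpa [s, mul_assoc] using mul_mem (inv_mem (a i)) (show s 0 * s 0 * (s 0 * y) ∈ E' by
          simpa [s] using ih))
  refine top_unique fun σ _ => ?_
  rcases b σ with ⟨τ, h, e⟩ | ⟨τ, -, e⟩
  · rwa [← Subtype.ext e]
  · have := congrArg sign e
    simp [s, mem_alternatingGroup.1 τ.2, mem_alternatingGroup.1 σ.2] at this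

def gA : List Word := [[0],[4],[6],[8],[10],[12],[14]]

def π (i : ℕ) : Perm (Fin 9) := [1, 1, 1, swap 0 8 * swap 2 5 * swap 3 6 * swap 4 7, swap 0 1 * swap 2 3 * swap 4 5 * swap 6 7, swap 1 3 * swap 2 6 * swap 3 5 * swap 4 7 * swap 5 7 * swap 6 7, swap 2 6 * swap 3 7 * swap 4 6 * swap 5 7, swap 2 6 * swap 3 7].getD i 1

theorem hπ : ∀ r ∈ RA, ev π r = 1 := by decide +kernel

def cy : List Word := [[6,4,11,9,12,4,8,12,9,11], [8,8,12,4,12,4,9,10], [9,9,12,4,8,12,4,9], [4,9,10,12,4,8,12,8,11], [9,12,4,8,10,12,4,9,12], [4,9,9,12,4,8,12,8], [4,8,6,8,12,4,8,10,12,9,9]]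

theorem grp_π : grp π gA = alternatingGroup (Fin 9) := by
  refine le_antisymm ((grp_le_iff _).2 fun w hw => ev_mem (fun i => ?_) w) fun x hx => ?_
  · by_cases h : i < 8
    · interval_cases i <;> simp [π]
    · rw [π, List.getD_eq_default _ _ (by simpa using h)]; exact one_mem _
  · refine (alt_top (n := 7) ((grp π gA).subgroupOf _) fun i c hc => ?_).ge (mem_top (⟨x, hx⟩ : alternatingGroup _))
    have : ∀ i : Fin 7, swap i.castSucc.castSucc i.succ.castSucc * swap i.castSucc.succ i.succ.succ =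
      ev π (CWord.subst gA (nth cy [] i)) := by decide +kernel
    rw [mem_subgroupOf, hc, this]
    exact subst_mem_grp _ _ _

def qs : List Word := [[0], [4], [6,4,7], [4,6,4,7,8,6,4,7,9], [4,6,4,7,10,8,6,4,7,9,11], [8,10,8,6,4,7,9,11,9,11,8,6,4,7,9,10], [10,10,8,6,4,7,9,11,11,11,8,6,4,7,9,10], [12,10,8,6,4,7,9,11,11,8,6,4,7,9,10,13], [4,6,4,7,8,6,4,7,9,10,8,6,4,7,9,11,12,10,8,6,4,7,9,11,13]]

def qv : List Word := [[0], [2], [4,2,5], [2,4,2,5,6,4,2,5,7], [2,4,2,5,8,6,4,2,5,7,9], [6,8,6,4,2,5,7,9,7,9,6,4,2,5,7,8], [8,8,6,4,2,5,7,9,9,9,6,4,2,5,7,8], [10,8,6,4,2,5,7,9,9,6,4,2,5,7,8,11], [2,4,2,5,6,4,2,5,7,8,6,4,2,5,7,9,10,8,6,4,2,5,7,9,11]]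

theorem qs_eq : ∀ w ∈ qs, ev π w = 1 ∧ ∃ v ∈ qv, CWord.subst gA v = w := by decide +kernel

end CA.ThQb
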