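import Cfsg.Agent.Lib.Spor.ThQx
import Cfsg.Agent.Lib.Spor.ThQc

/-! The subgroup `⟨a,c,d,e,s,t,u⟩ = 2^(1+8).A₉` of a group satisfying the relators of Th. -/

set_option autoImplicit false
set_option linter.all false
set_option maxRecDepth 100000

namespace CA.ThQ
open CA.CWord CA.CTodd Subgroup

theorem hπQ : ∀ w ∈ [0] :: es, ev ThQb.π w = 1 := by decide +kernel

theorem hRA {G : Type} [Group G] {g : ℕ → G} (hr : ∀ r ∈ ThRel.rels, ev g r = 1) : ∀ r ∈ ThQb.RA, ev g r = 1 := fun r h => by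
  rcases (by decide +kernel : ∀ r ∈ ThQb.RA, r ∈ ThRel.rels ∨ r = ThQb.derw) r h with h | rfl
  · exact hr r h
  · exact eqG hr (v := []) (by decide +kernel)

theorem struct0 {G : Type} [Group G] [Finite G] (g : ℕ → G) (hr : ∀ r ∈ ThRel.rels, ev g r = 1) (hz : g 0 ≠ 1) :
    Nat.card (grp g gensA) = 92897280 ∧ grp g ([0] :: es) ≤ grp g gensA ∧
      ∃ _ : ((grp g ([0] :: es)).subgroupOf (grp g gensA)).Normal,
        Nonempty (grp g gensA ⧸ (grp g ([0] :: es)).subgroupOf (grp g gensA) ≃* alternatingGroup (Fin 9)) := by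
  let γ : ℕ → G × Equiv.Perm (Fin 9) := fun i => (g i, ThQb.π i)
  have e1 : ∀ w, (ev γ w).1 = ev g w := fun w => map_ev (MonoidHom.fst _ _) γ w
  have e2 : ∀ w, (ev γ w).2 = ev ThQb.π w := fun w => map_ev (MonoidHom.snd _ _) γ w
  have hb := (ThQb.bound (G × Equiv.Perm (Fin 9)) γ fun r h =>
    Prod.ext ((e1 r).trans (hRA hr r h)) ((e2 r).trans (ThQb.hπ r h))).2
  refine ThQa.struct_of (grp γ gensA) hb _ _ (map_grp _ γ _) ((map_grp _ γ _).trans ThQb.grp_π) (fun x hx => ?_)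
    (extra hr hz).2 (not_le hr hz)
  refine (grp_le_iff g (H := (grp γ gensA).comap (MonoidHom.inl _ _))).2 (fun w hw => ?_) hx
  have : ev γ w ∈ grp γ gensA := by
    obtain ⟨v, rfl⟩ : ∃ v, CWord.subst gensA v = w :=
      ⟨_, (by decide +kernel : ∀ w ∈ [0] :: es, CWord.subst gensA (w.map fun a => if a < 2 then a else a - 2) = w) w hw⟩
    exact subst_mem_grp γ gensA v
  rwa [show ev γ w = (ev g w, 1) from Prod.ext (e1 w) ((e2 w).trans (hπQ w hw))] at this

theorem struct {G : Type} [Group G] [Finite G] (g : ℕ → G) (hr : ∀ r ∈ ThRel.rels, ev g r = 1) (hz : g 0 ≠ 1) :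
    Nat.card (grp g [[0],[4],[6],[8],[10],[12],[14]]) = 92897280 ∧
      grp g [[0],[4],[6],[8],[10],[12],[14]] ≤ Subgroup.centralizer {g 0} ∧
      ∃ (Q : Subgroup (grp g [[0],[4],[6],[8],[10],[12],[14]])) (_ : Q.Normal), Nat.card Q = 2 ^ 9 ∧ Cfsg.IsExtraspecial 2 Q ∧
        Nonempty (grp g [[0],[4],[6],[8],[10],[12],[14]] ⧸ Q ≃* alternatingGroup (Fin 9)) := by
  obtain ⟨h1, h2, h3, h4⟩ := struct0 g hr hz
  have e := subgroupOfEquivOfLe h2
  have h5 := extra_equiv e.symm (extra hr hz).1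
  have h6 := (Nat.card_congr e.toEquiv).trans (extra hr hz).2
  exact ⟨h1, cen hr, (grp g ([0] :: es)).subgroupOf (grp g gensA), h3, h6, h5, h4⟩

/-- the explicit map onto `A₉` -/
theorem exists_pi {G : Type} [Group G] [Finite G] (g : ℕ → G) (hr : ∀ r ∈ ThRel.rels, ev g r = 1) (hz : g 0 ≠ 1) :
    ∃ f : grp g gensA →* Equiv.Perm (Fin 9), f.ker = (grp g ([0] :: es)).subgroupOf (grp g gensA) ∧
      f.range = alternatingGroup (Fin 9) ∧ ∀ v, f ⟨_, subst_mem_grp g gensA v⟩ = ev ThQb.π (CWord.subst gensA v) := by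
  obtain ⟨h1, h2, -⟩ := struct0 g hr hz
  let γ : ℕ → G × Equiv.Perm (Fin 9) := fun i => (g i, ThQb.π i)
  have e1 : ∀ w, (ev γ w).1 = ev g w := fun w => map_ev (MonoidHom.fst _ _) γ w
  have e2 : ∀ w, (ev γ w).2 = ev ThQb.π w := fun w => map_ev (MonoidHom.snd _ _) γ w
  have hb := (ThQb.bound (G × Equiv.Perm (Fin 9)) γ fun r h =>
    Prod.ext ((e1 r).trans (hRA hr r h)) ((e2 r).trans (ThQb.hπ r h))).2
  have m : (grp γ gensA).map (MonoidHom.fst _ _) = grp g gensA := map_grp _ γ _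
  let k : grp γ gensA →* grp g gensA :=
    ((MonoidHom.fst _ _).comp (grp γ gensA).subtype).codRestrict _ fun x => m.le (mem_map_of_mem _ x.2)
  have ks : Function.Surjective k := fun y => by
    obtain ⟨x, hx, e⟩ := m.ge y.2
    exact ⟨⟨x, hx⟩, Subtype.ext e⟩
  let e := MulEquiv.ofBijective k (ks.bijective_of_nat_card_le (hb.trans h1.ge))
  let f : grp g gensA →* Equiv.Perm (Fin 9) := ((MonoidHom.snd _ _).comp (grp γ gensA).subtype).comp e.symm.toMonoidHom
  have hf : ∀ v, f ⟨_, subst_mem_grp g gensA v⟩ = ev ThQb.π (CWord.subst gensA v) := fun v => by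
    have : e.symm ⟨_, subst_mem_grp g gensA v⟩ = ⟨_, subst_mem_grp γ gensA v⟩ := e.symm_apply_eq.2 (Subtype.ext (e1 _).symm)
    exact (congrArg (fun x : grp γ gensA => x.1.2) this).trans (e2 _)
  have hR : f.range = alternatingGroup (Fin 9) := by
    rw [MonoidHom.range_comp, MonoidHom.range_eq_top.2 e.symm.surjective, ← MonoidHom.range_eq_map, MonoidHom.range_comp,
      range_subtype]
    exact (map_grp _ γ _).trans ThQb.grp_π
  refine ⟨f, (eq_of_le_of_card_ge (fun x hx => ?_) ?_).symm, hR, hf⟩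
  · have : grp g ([0] :: es) ≤ f.ker.map (grp g gensA).subtype := (grp_le_iff g).2 fun w hw => by
      have a := (by decide +kernel : ∀ w ∈ [0] :: es, CWord.subst gensA (w.map fun a => if a < 2 then a else a - 2) = w) w hw
      exact ⟨_, (hf _).trans (by rw [a]; exact hπQ w hw), congrArg (ev g) a⟩
    obtain ⟨y, hy, e⟩ := this hx
    rwa [← show y = x from Subtype.ext e]
  · have c := f.ker.card_mul_index
    have c9 : Nat.card (alternatingGroup (Fin 9)) = 181440 := by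
      rw [nat_card_alternatingGroup]; simp [Nat.factorial]
    rw [index_ker, hR, h1, c9] at c
    rw [Nat.card_congr (subgroupOfEquivOfLe h2).toEquiv, (extra hr hz).2]
    omega

end CA.ThQ
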