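import Mathlib

/-! Identification of a group of shape `2^9 . A₉` from a bound on a subdirect product. -/

set_option autoImplicit false

namespace CA.ThQa

open Subgroup

theorem struct_of {G : Type*} [Group G] (Γ : Subgroup (G × Equiv.Perm (Fin 9))) [Finite Γ]
    (hb : Nat.card Γ ≤ 92897280) (A Q : Subgroup G) (hA : Γ.map (MonoidHom.fst _ _) = A)
    (h9 : Γ.map (MonoidHom.snd _ _) = alternatingGroup (Fin 9)) (hQ : ∀ x ∈ Q, (x, 1) ∈ Γ)
    (hc : Nat.card Q = 512) (hx : ¬ A ≤ Q) :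
    Nat.card A = 92897280 ∧ Q ≤ A ∧
      ∃ _ : (Q.subgroupOf A).Normal, Nonempty (A ⧸ Q.subgroupOf A ≃* alternatingGroup (Fin 9)) := by
  subst hA
  have c9 : Nat.card (alternatingGroup (Fin 9)) = 181440 := by
    rw [nat_card_alternatingGroup]; simp [Nat.factorial]
  let s : Γ →* alternatingGroup (Fin 9) :=
    ((MonoidHom.snd _ _).comp Γ.subtype).codRestrict _ fun x => h9 ▸ mem_map_of_mem _ x.2
  have ss : Function.Surjective s := fun y => by
    obtain ⟨x, hx, e⟩ := h9.ge y.2
    exact ⟨⟨x, hx⟩, Subtype.ext e⟩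
  let f : Γ →* Γ.map (MonoidHom.fst _ _) :=
    ((MonoidHom.fst _ _).comp Γ.subtype).codRestrict _ fun x => mem_map_of_mem _ x.2
  have fs : Function.Surjective f := by
    rintro ⟨_, x, hx, rfl⟩; exact ⟨⟨x, hx⟩, rfl⟩
  have k1 : Nat.card s.ker * 181440 = Nat.card Γ := by
    rw [← c9, ← s.ker.card_mul_index, index_ker, MonoidHom.range_eq_top.2 ss, card_top]
  let j : Q → s.ker := fun x => ⟨⟨(x, 1), hQ _ x.2⟩, Subtype.ext rfl⟩
  have ji : Function.Injective j := fun x y e => Subtype.ext (congrArg (·.1.1.1) e)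
  have k2 := Nat.card_le_card_of_injective j ji
  have jb : Function.Bijective j := (Nat.bijective_iff_injective_and_card j).2 ⟨ji, by omega⟩
  have k3 : ∀ x : Γ, s x = 1 → x.1.1 ∈ Q := fun x h => by
    obtain ⟨y, e⟩ := jb.2 ⟨x, h⟩
    rw [← show (y : G) = x.1.1 from congrArg (·.1.1.1) e]; exact y.2
  have hs : IsSimpleGroup (alternatingGroup (Fin 9)) := alternatingGroup.isSimpleGroup (by simp)
  have fi : Function.Injective f := by
    rcases (f.normal_ker.map s ss : (f.ker.map s).Normal).eq_bot_or_eq_top with h | h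
    · refine (injective_iff_map_eq_one _).2 fun x hx => ?_
      have : s x = 1 := mem_bot.1 (h.le (mem_map_of_mem s hx))
      exact Subtype.ext (Prod.ext (congrArg Subtype.val hx) (congrArg Subtype.val this))
    · refine (hx ?_).elim
      rintro _ ⟨x, hx, rfl⟩
      obtain ⟨y, hy, e⟩ := h.ge (mem_top (s ⟨x, hx⟩))
      have := k3 (y⁻¹ * ⟨x, hx⟩) (by rw [map_mul, map_inv, e, inv_mul_cancel])
      have h1 : y.1.1 = 1 := congrArg Subtype.val hy
      simpa [h1] using this
  let e := MulEquiv.ofBijective f ⟨fi, fs⟩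
  let t := s.comp e.symm.toMonoidHom
  have ts : Function.Surjective t := ss.comp e.symm.surjective
  have tk : Q.subgroupOf (Γ.map (MonoidHom.fst _ _)) = t.ker := by
    ext x
    obtain ⟨x, rfl⟩ := e.surjective x
    rw [MonoidHom.mem_ker, show t (e x) = s x from congrArg s (e.symm_apply_apply x)]
    refine ⟨fun h => ?_, k3 x⟩
    rw [show x = ⟨(x.1.1, 1), hQ _ h⟩ from fi rfl]; rfl
  have : (Q.subgroupOf (Γ.map (MonoidHom.fst _ _))).Normal := tk ▸ t.normal_ker
  exact ⟨by rw [← Nat.card_congr e.toEquiv]; omega, fun x hx => ⟨_, hQ x hx, rfl⟩, this,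
    ⟨(QuotientGroup.quotientMulEquivOfEq tk).trans (QuotientGroup.quotientKerEquivOfSurjective t ts)⟩⟩

end CA.ThQa
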