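import Cfsg.Agent.Lib.Grp.H7Ext
import Cfsg.Agent.Lib.Grp.Fitting

/-! Extraspecial groups from symplectic generators (light copy of the first part of `Lib/Fi/FiX`). -/

set_option autoImplicit false
set_option linter.all false

namespace CA.ThQ
open Cfsg Subgroup
open scoped commutatorElement

section
variable {E : Type*} [Group E] [Finite E] {p n : ℕ} [hp : Fact p.Prime]

theorem quot_elem {g : ℕ → E} (hg : closure (Set.range g) = ⊤) {N : Subgroup E} [N.Normal]
    (h1 : ∀ i j, ⁅g i, g j⁆ ∈ N) (h2 : ∀ i, g i ^ p ∈ N) : (∀ x y : E, ⁅x, y⁆ ∈ N) ∧ ∀ x : E, x ^ p ∈ N := by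
  let f := QuotientGroup.mk' N
  have k : ∀ x y, ⁅x, y⁆ ∈ N ↔ Commute (f x) (f y) := fun x y => by
    rw [← commutatorElement_eq_one_iff_commute, ← map_commutatorElement]; exact (QuotientGroup.eq_one_iff _).symm
  have c : ∀ x y, Commute (f x) (f y) := fun x y =>
    closure_induction₂ (p := fun x y _ _ => Commute (f x) (f y))
      (by rintro _ _ ⟨i, rfl⟩ ⟨j, rfl⟩; exact (k _ _).1 (h1 i j)) (by simp) (by simp)
      (fun a b c _ _ _ h h' => by rw [map_mul]; exact h.mul_left h')
      (fun a b c _ _ _ h h' => by rw [map_mul]; exact h.mul_right h')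
      (fun a b _ _ h => by rw [map_inv]; exact h.inv_left)
      (fun a b _ _ h => by rw [map_inv]; exact h.inv_right) (hg.ge (mem_top x)) (hg.ge (mem_top y))
  refine ⟨fun x y => (k x y).2 (c x y), fun x => (QuotientGroup.eq_one_iff _).1 (show f (x ^ p) = 1 from ?_)⟩
  rw [map_pow]
  refine closure_induction (p := fun x _ => f x ^ p = 1) ?_ (by simp)
    (fun a b _ _ h h' => by rw [map_mul, (c a b).mul_pow, h, h', one_mul])
    (fun a _ h => by rw [map_inv, inv_pow, h, inv_one]) (hg.ge (mem_top x))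
  rintro _ ⟨i, rfl⟩
  rw [← map_pow]; exact (QuotientGroup.eq_one_iff _).2 (h2 i)

/-- `g 0` is central, and `g (2k+1), g (2k+2)` are hyperbolic pairs -/
theorem extra_top {g : ℕ → E} (hg : closure (Set.range g) = ⊤) (hn : 0 < n) (h0 : ∀ i, 2 * n < i → g i = 1)
    (hz : orderOf (g 0) = p) (h1 : ∀ i ≤ 2 * n, ∀ j < i, ⁅g j, g i⁆ = if j % 2 = 1 ∧ i = j + 1 then g 0 else 1)
    (h2 : ∀ i, g i ^ p ∈ zpowers (g 0)) :
    IsExtraspecial p E ∧ Nat.card E = p ^ (2 * n + 1) ∧ center E = zpowers (g 0) := by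
  have c0 : ∀ i, Commute (g 0) (g i) := fun i => by
    rcases Nat.eq_zero_or_pos i with rfl | hi
    · exact Commute.refl _
    rcases Nat.lt_or_ge (2 * n) i with h | h
    · rw [h0 i h]; exact Commute.one_right _
    · exact commutatorElement_eq_one_iff_commute.1 ((h1 i h 0 hi).trans (if_neg (by omega)))
  have hc : g 0 ∈ center E := by
    rw [← centralizer_univ, ← coe_top, ← hg, centralizer_closure]
    rintro _ ⟨i, rfl⟩; exact (c0 i).symm
  have : (zpowers (g 0)).Normal := ⟨fun x hx y => by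
    rwa [mem_center_iff.1 (zpowers_le.2 hc hx) y, mul_inv_cancel_right]⟩
  have lt : ∀ i j, j < i → ⁅g j, g i⁆ ∈ zpowers (g 0) := fun i j h => by
    rcases Nat.lt_or_ge (2 * n) i with h' | h'
    · rw [h0 i h']; simp
    · rw [h1 i h' j h]; split_ifs <;> simp
  obtain ⟨h3, h4⟩ := quot_elem (p := p) hg (N := zpowers (g 0)) (fun i j => by
    rcases lt_trichotomy i j with h | rfl | h
    · exact lt _ _ h
    · simp
    · rw [← commutatorElement_inv]; exact inv_mem (lt _ _ h)) h2
  obtain ⟨m, c, hζ⟩ := H7Ext.exists_cov hz hc h3 h4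
  have b1 : ∀ i ≤ 2 * n, ∀ j < i, c.b (c.π (g j)) (c.π (g i)) = if j % 2 = 1 ∧ i = j + 1 then 1 else 0 :=
    fun i hi j hj => c.inj (by rw [c.ζ_b, h1 i hi j hj]; split_ifs; exacts [hζ.symm, c.ζ_zero.symm])
  let v : Fin (2 * n) → Fin m → ZMod p := fun i => c.π (g (i + 1))
  let w : Fin (2 * n) → Fin m → ZMod p := fun i => if i.1 % 2 = 0 then c.π (g (i + 2)) else -c.π (g i)
  have hB : ∀ u v, c.B u v = c.b u v := fun _ _ => rfl
  have d : ∀ i j, c.B (v j) (w i) = if i = j then 1 else 0 := fun i j => by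
    have hi := i.2; have hj := j.2
    simp only [v, w, Fin.ext_iff]
    split_ifs with e1 e2 e2
    · rw [hB, b1 _ (by omega) _ (by omega), if_pos (by omega)]
    · rw [hB]
      rcases lt_trichotomy (j.1 + 1) (i + 2) with h | h | h
      · rw [b1 _ (by omega) _ h, if_neg (by omega)]
      · rw [h, c.b_self]
      · rw [c.b_symm, b1 _ (by omega) _ h, if_neg (by omega), neg_zero]
    · rw [map_neg, hB, c.b_symm, neg_neg, b1 _ (by omega) _ (by omega), if_pos (by omega)]
    · rw [map_neg, hB, neg_eq_zero]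
      rcases lt_trichotomy (j.1 + 1) i with h | h | h
      · rw [b1 _ (by omega) _ h, if_neg (by omega)]
      · rw [h, c.b_self]
      · rw [c.b_symm, b1 _ (by omega) _ h, if_neg (by omega), neg_zero]
  have li : LinearIndependent (ZMod p) v := LinearIndependent.of_pairwise_dual_eq_zero_one v (fun i => c.B.flip (w i))
    (fun i j h => (d i j).trans (if_neg h)) fun i => (d i i).trans (if_pos rfl)
  have sp : ⊤ ≤ Submodule.span (ZMod p) (Set.range v) := fun u _ => by
    obtain ⟨x, rfl⟩ := c.surj u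
    refine closure_induction (p := fun x _ => c.π x ∈ Submodule.span (ZMod p) (Set.range v)) ?_
      (c.π_one ▸ zero_mem _) (fun a b _ _ h h' => c.π_mul a b ▸ add_mem h h')
      (fun a _ h => c.π_inv a ▸ neg_mem h) (hg.ge (mem_top x))
    rintro _ ⟨i, rfl⟩
    rcases i with _ | i
    · rw [← hζ, c.π_ζ]; exact zero_mem _
    rcases Nat.lt_or_ge i (2 * n) with h | h
    · exact Submodule.subset_span ⟨⟨i, h⟩, rfl⟩
    · rw [h0 _ (by omega), c.π_one]; exact zero_mem _
  have hZ := c.nondeg_iff.1 fun u hu => by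
    obtain ⟨a, rfl⟩ := (Submodule.mem_span_range_iff_exists_fun _).1 (sp (Submodule.mem_top (x := u)))
    refine Finset.sum_eq_zero fun i _ => ?_
    have := hu (w i)
    rw [← hB, map_sum, LinearMap.sum_apply] at this
    simp only [map_smul, LinearMap.smul_apply, d, smul_eq_mul, mul_ite, mul_one, mul_zero, Finset.sum_ite_eq,
      Finset.mem_univ, if_true] at this
    rw [this, zero_smul]
  have hr := Module.finrank_eq_card_basis (Module.Basis.mk li sp)
  rw [Fintype.card_fin] at hr
  exact ⟨c.extra hZ (Module.nontrivial_of_finrank_pos (R := ZMod p) (by omega)), by rw [c.card_eq', hr], hζ ▸ hZ⟩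

end

theorem extra_equiv {G G' : Type*} [Group G] [Group G'] {p : ℕ} (e : G ≃* G') (h : IsExtraspecial p G) : IsExtraspecial p G' := by
  have h1 : (Subgroup.center G).map e.toMonoidHom = Subgroup.center G' := by
    ext y
    refine ⟨?_, fun hy => ⟨e.symm y, Subgroup.mem_center_iff.2 fun g => e.injective (by simpa using Subgroup.mem_center_iff.1 hy (e g)),
      e.apply_symm_apply y⟩⟩
    rintro ⟨x, hx, rfl⟩
    exact Subgroup.mem_center_iff.2 fun g => by simpa using congrArg e (Subgroup.mem_center_iff.1 hx (e.symm g))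
  refine ⟨⟨h.1.1.of_equiv e, by rw [← h1, ← h.1.2.1, CA.PGFrattini.map_frattini_equiv], ?_⟩, ?_⟩
  · rw [← h1, ← h.1.2.2, map_commutator_eq, MonoidHom.range_eq_top.2 e.surjective, commutator_def]
  · rw [← h1, Subgroup.card_map_of_injective e.injective, h.2]

end CA.ThQ
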