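import Cfsg.Agent.Lib.Spor.ThP
import Cfsg.Agent.Lib.Spor.ThQe

/-! The extraspecial group `2^(1+8)` in the centraliser of `a` in a group satisfying the relators of Th. -/

set_option autoImplicit false
set_option linter.all false
set_option maxRecDepth 100000

namespace CA.ThQ
open CA.CNet CA.CWord CA.CTodd CA.ThP Subgroup

def es : List Word := [[4], [6, 4, 6], [4, 6, 4, 6, 8, 6, 4, 6, 8], [4, 6, 4, 6, 11, 8, 6, 4, 6, 8, 10],
  [10, 8, 6, 4, 6, 8, 11, 8, 11, 8, 6, 4, 6, 8, 10, 8], [10, 8, 6, 4, 6, 8, 11, 11, 11, 8, 6, 4, 6, 8, 10, 10],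
  [12, 11, 8, 6, 4, 6, 8, 10, 13, 10, 10, 8, 6, 4, 6, 8, 11, 11],
  [4, 6, 4, 6, 8, 6, 4, 6, 8, 11, 8, 6, 4, 6, 8, 10, 12, 11, 8, 6, 4, 6, 8, 10, 13]]

def gensA : List Word := [[0],[4],[6],[8],[10],[12],[14]]

noncomputable def chk (u v : Word) : Bool :=
  band (decide (CWord.subst gens (lapp u (winv v)) = lapp u (winv v))) (C.eqW (lapp u (winv v)) [])

variable {G : Type} [Group G] {g : ℕ → G}

theorem eqG (hr : ∀ r ∈ ThRel.rels, ev g r = 1) {u v : Word} (h : chk u v = true) : ev g u = ev g v := by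
  obtain ⟨h1, h2⟩ := band_iff.1 h
  have h1 := of_decide_eq_true h1
  have := der.{0} (lapp u (winv v)) (by rw [h1]; exact Ctx.eq_of_eqW hC h2) G g hr
  rwa [h1, ev_lapp, ev_winv, mul_inv_eq_one] at this

theorem hex1 : ∀ i < 9, ∀ j < i, chk (lapp (lapp (lapp (nth ([0] :: es) [] j) (nth ([0] :: es) [] i)) (winv (nth ([0] :: es) [] j)))
    (winv (nth ([0] :: es) [] i))) (if j % 2 = 1 ∧ i = j + 1 then [0] else []) = true := by decide +kernel

theorem hex2 : ∀ i < 9, chk (wpow (nth ([0] :: es) [] i) 2) (wpow [0] (nth [0, 0, 0, 1, 1, 1, 1, 1, 0] 0 i)) = true := by decide +kernel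

theorem ev1 (i : ℕ) : ev g [2 * i] = g i := by rw [ev_cons, ev_nil, mul_one, lv_even]

theorem nth9 (i : ℕ) (h : 8 < i) : nth ([0] :: es) [] i = [] := by
  obtain ⟨k, rfl⟩ := Nat.exists_eq_add_of_lt h
  rw [show 8 + k + 1 = k + 9 by omega]; rfl

theorem nthm (i : ℕ) : ev g (nth ([0] :: es) [] i) ∈ grp g ([0] :: es) := by
  rcases Nat.lt_or_ge 8 i with h | h
  · rw [nth9 i h]; exact one_mem _
  · exact mem_grp g ((by decide +kernel : ∀ i < 9, nth ([0] :: es) [] i ∈ [0] :: es) i (by omega))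

theorem extra [Finite G] (hr : ∀ r ∈ ThRel.rels, ev g r = 1) (hz : g 0 ≠ 1) :
    Cfsg.IsExtraspecial 2 (grp g ([0] :: es)) ∧ Nat.card (grp g ([0] :: es)) = 512 := by
  have : Fact (Nat.Prime 2) := ⟨by decide⟩
  let γ : ℕ → grp g ([0] :: es) := fun i => ⟨_, nthm i⟩
  have hg : closure (Set.range γ) = ⊤ := by
    refine map_injective (grp g ([0] :: es)).subtype_injective ?_
    rw [← MonoidHom.range_eq_map, range_subtype]
    refine le_antisymm (map_subtype_le _) ((grp_le_iff g).2 fun w hw => ?_)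
    obtain ⟨i, -, rfl⟩ := (by decide +kernel : ∀ w ∈ [0] :: es, ∃ i < 9, nth ([0] :: es) [] i = w) w hw
    exact ⟨γ i, subset_closure ⟨i, rfl⟩, rfl⟩
  obtain ⟨q1, q2, -⟩ := extra_top (p := 2) (n := 4) (g := γ) hg (by decide)
    (fun i hi => Subtype.ext (congrArg (ev g) (nth9 i hi)))
    (orderOf_eq_prime (Subtype.ext ((ev_wpow g _ 2).symm.trans (eqG hr (hex2 0 (by decide)))))
      fun e => hz ((ev1 0).symm.trans (congrArg Subtype.val e)))
    (fun i hi j hj => Subtype.ext (by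
      have := eqG hr (hex1 i (by omega) j hj)
      rw [ev_lapp, ev_lapp, ev_lapp, ev_winv, ev_winv] at this
      refine this.trans ?_
      split_ifs <;> rfl))
    (fun i => by
      rcases Nat.lt_or_ge 8 i with h | h
      · rw [show γ i = 1 from Subtype.ext (congrArg (ev g) (nth9 i h)), one_pow]; exact one_mem _
      · have := eqG hr (hex2 i (by omega))
        rw [ev_wpow, ev_wpow] at this
        rw [show γ i ^ 2 = γ 0 ^ _ from Subtype.ext this]
        exact pow_mem (mem_zpowers _) _)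
  exact ⟨q1, q2⟩

theorem hcen : lall [[0],[4],[6],[8],[10],[12]] (fun w => chk (lapp w [0]) (lapp [0] w)) = true := by decide +kernel

theorem cen (hr : ∀ r ∈ ThRel.rels, ev g r = 1) : grp g gensA ≤ centralizer {g 0} := (grp_le_iff g).2 fun w hw =>
  mem_centralizer_singleton_iff.2 (by
    rcases (by decide : ∀ w ∈ gensA, w = [14] ∨ w ∈ [[0],[4],[6],[8],[10],[12]]) w hw with rfl | h
    · have := hr (lapp (winv [0, 14]) [14, 0]) (by decide +kernel)
      rw [ev_lapp, ev_winv, inv_mul_eq_one] at this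
      rw [← ev1 (g := g) 0, ← ev_append, ← ev_append]
      exact this.symm
    · rw [← ev1 (g := g) 0, ← ev_lapp, ← ev_lapp]
      exact eqG hr (lall_iff.1 hcen w h))

theorem not_le [Finite G] (hr : ∀ r ∈ ThRel.rels, ev g r = 1) (hz : g 0 ≠ 1) : ¬ grp g gensA ≤ grp g ([0] :: es) := fun h => by
  have m : ev g [6, 8] ∈ grp g ([0] :: es) := by
    rw [show ([6, 8] : Word) = [6] ++ [8] from rfl, ev_append]
    exact h (mul_mem (mem_grp g (by decide)) (mem_grp g (by decide)))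
  have h1 : ev g [6, 8] ^ 512 = 1 := by
    have := pow_card_eq_one' (x := (⟨_, m⟩ : grp g ([0] :: es)))
    rw [(extra hr hz).2] at this
    exact congrArg Subtype.val this
  have h2 : ev g [6, 8] ^ 3 = 1 := by rw [← ev_wpow]; exact hr _ (by decide +kernel)
  have h3 : ev g [6, 8] = 1 := by
    have := pow_gcd_eq_one.2 ⟨h1, h2⟩
    simpa using this
  have h4 : ev g [0] = (ev g [4, 8] * ev g [8, 6]) ^ 4 := by
    rw [← ev_append, ← ev_wpow]; exact eqG hr (by decide +kernel)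
  have h5 : ev g [8, 6] = (ev g [6, 8])⁻¹ := by rw [← ev_winv]; exact eqG hr (by decide +kernel)
  have h6 : ev g [4, 8] ^ 4 = 1 := by rw [← ev_wpow]; exact eqG hr (v := []) (by decide +kernel)
  rw [h5, h3, inv_one, mul_one, h6, ev1 0] at h4
  exact hz h4

end CA.ThQ
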