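import Cfsg.Agent.Lib.Comp.CPres
import Cfsg.Prelude.Def_Spor_Th

set_option autoImplicit false
set_option maxRecDepth 100000

namespace CA.ThRel
open CA.CWord CA.CPres Cfsg.Spor

def gen (i : ℕ) : Th.Gen := [.a, .b, .c, .d, .e, .s, .t, .u].getD i .a

def idx : Th.Gen → ℕ
  | .a => 0
  | .b => 1
  | .c => 2
  | .d => 3
  | .e => 4
  | .s => 5
  | .t => 6
  | .u => 7

def rels : List Word := [[0,0], [2,2], [4,4], [6,6], [8,8], [0,2,0,2,0,2], [0,8,0,8], [2,4,2,4,2,4], [2,6,2,6], [2,8,2,8], [0,7,5,7,5,7,5,7,5], [4,8,4,8], [6,8,6,8,6,8], [2,4,6,8,2,4,6,8,2,4,6,8,2,4,6,8,2,4,6,8,2,4,6,8,2,4,6,8,2,4,6,8], [10,10,10,10,10,10,10], [11,1,10,0], [11,3,10,2], [11,5,10,4], [10,6,10,6], [9,11,8,10,11,11,11,9,10,10,10], [12,12,12], [13,1,12,0], [13,3,12,2], [13,5,12,4], [13,7,12,6], [13,9,12,8], [13,10,12,11,11], [14,14,5,1], [15,1,14,0], [15,5,14,4], [15,9,14,8],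 [6,8,15,6,14,6,8,15,6,14], [15,3,5,1,2,14,3,0,4,2,9], [7,15,6,3,5,1,2,7,14,6,3,0,4,2,5,9,7,15,6,3,5,1,2,9,15], [15,12,14,12], [9,11,11,15,10,10,8,11,11,14,10,10], [0,4,11,15,11,15,11,15], [0,4,11,15,10,14,11,15,10,14,11,15,10,14,11,15,10,14], [6,11,11,14,10,10,6,11,11,14,10,10,6,11,11,14,10,10,6,11,11,14,10,10,11,11,9,7,5,6,8,10,10,10,9,7,5,6,8,11,7,5,6,5,1]]

def gens : List Word := [[0], [2], [4], [6], [8], [10], [12], [14]]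

theorem enc : Enc Th.edges Th.extra gen 8 rels :=
  enc_of idx []
    [[0,0], [2,2], [4,4], [6,6], [8,8], [0,2,0,2,0,2], [0,8,0,8], [2,4,2,4,2,4], [2,6,2,6], [2,8,2,8], [0,7,5,7,5,7,5,7,5], [4,8,4,8], [6,8,6,8,6,8], [2,4,6,8,2,4,6,8,2,4,6,8,2,4,6,8,2,4,6,8,2,4,6,8,2,4,6,8,2,4,6,8], [10,10,10,10,10,10,10], [11,1,10,0], [11,3,10,2], [11,5,10,4], [10,6,10,6], [9,11,8,10,11,11,11,9,10,10,10], [12,12,12], [13,1,12,0], [13,3,12,2], [13,5,12,4], [13,7,12,6], [13,9,12,8], [13,10,12,11,11], [14,14,5,1], [15,1,14,0], [15,5,14,4], [15,9,14,8], [6,8,15,6,14,6,8,15,6,14], [15,3,5,1,2,14,3,0,4,2,9], [7,15,6,3,5,1,2,7,14,6,3,0,4,2,5,9,7,15,6,3,5,1,2,9,15], [15,12,14,12], [9,11,11,15,10,10,8,11,11,14,10,10], [0,4,11,15,11,15,11,15], [0,4,11,15,10,14,11,15,10,14,11,15,10,14,11,15,10,14], [6,11,11,14,10,10,6,11,11,14,10,10,6,11,11,14,10,10,6,11,11,14,10,10,11,11,9,7,5,6,8,10,10,10,9,7,5,6,8,11,7,5,6,5,1]]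
    (fun t => by cases t <;> decide) (by decide) (by decide +kernel) (by decide +kernel) (by decide +kernel)
    (by decide +kernel) (by decide +kernel)

end CA.ThRel
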